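import Cfsg.Agent.Lib.Fus.Basic

/-!
Subgroups normal or central in a fusion system; the normalizer and centralizer systems.
-/

set_option autoImplicit false
set_option linter.style.haveILetI false

open scoped Classical

namespace Cfsg.Agent.Fus

open Subgroup FusionSystem

variable {Ω : Type*} [Group Ω] {S : Subgroup Ω} {F : FusionSystem S}

theorem fimg_eq_self_of_forall {P : Subgroup Ω} {f : Ω → Ω} (h : ∀ x ∈ P, f x = x) :
    fimg f P = P := by
  rw [fimg_congr h, fimg_id]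

theorem IsMap.map_subgroupOf {N Q : Subgroup Ω} {f : Ω → Ω} (hf : IsMap F N f) (hQ : Q ≤ N)
    {ψ : N →* Ω} (e : ∀ x : N, ψ x = f x) : (Q.subgroupOf N).map ψ = fimg f Q := by
  ext y
  rw [(hf.res hQ).mem_fimg_iff, Subgroup.mem_map]
  constructor
  · rintro ⟨x, hx, rfl⟩
    exact ⟨x, hx, (e x).symm⟩
  · rintro ⟨x, hx, rfl⟩
    exact ⟨⟨x, hQ hx⟩, hx, e _⟩

theorem IsMap.fimg_sup {A B : Subgroup Ω} {f : Ω → Ω} (hf : IsMap F (A ⊔ B) f) :
    fimg f (A ⊔ B) = fimg f A ⊔ fimg f B := by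
  refine le_antisymm ?_ (sup_le (fimg_mono f le_sup_left) (fimg_mono f le_sup_right))
  obtain ⟨φ, hφ, e⟩ := hf.exists_hom
  rw [← hf.range_eq_fimg e, ← hf.map_subgroupOf le_sup_left e, ← hf.map_subgroupOf le_sup_right e,
    ← Subgroup.map_sup, ← Subgroup.subgroupOf_sup le_sup_left le_sup_right, Subgroup.subgroupOf_self,
    ← MonoidHom.range_eq_map]

theorem isNormal_iff {Q : Subgroup Ω} : F.IsNormal Q ↔ Q ≤ S ∧ ∀ P f, IsMap F P f →
    ∃ g, IsMap F (P ⊔ Q) g ∧ (∀ x ∈ P, g x = f x) ∧ fimg g Q = Q := by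
  refine Iff.rfl.and ⟨fun h P f hf => ?_, fun h P φ hφ => ?_⟩
  · obtain ⟨φ, hφ, e⟩ := hf.exists_hom
    obtain ⟨ψ, hψ, h1, h2⟩ := h P φ hφ
    refine ⟨_, isMap_toFun hψ, fun x hx => ?_, ?_⟩
    · rw [← e ⟨x, hx⟩, ← h1]
      exact toFun_coe ψ (Subgroup.inclusion le_sup_left ⟨x, hx⟩)
    · rw [← (isMap_toFun hψ).map_subgroupOf le_sup_right fun x => (toFun_coe ψ x).symm, h2]
  · obtain ⟨g, hg, h1, h2⟩ := h P _ (isMap_toFun hφ)
    obtain ⟨ψ, hψ, e⟩ := hg.exists_hom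
    refine ⟨ψ, hψ, fun x => ?_, (hg.map_subgroupOf le_sup_right e).trans h2⟩
    rw [e, ← toFun_coe φ x]
    exact h1 x x.2

theorem isCentral_iff {Q : Subgroup Ω} : F.IsCentral Q ↔ Q ≤ S ∧ ∀ P f, IsMap F P f →
    ∃ g, IsMap F (P ⊔ Q) g ∧ (∀ x ∈ P, g x = f x) ∧ ∀ x ∈ Q, g x = x := by
  refine Iff.rfl.and ⟨fun h P f hf => ?_, fun h P φ hφ => ?_⟩
  · obtain ⟨φ, hφ, e⟩ := hf.exists_hom
    obtain ⟨ψ, hψ, h1, h2⟩ := h P φ hφ
    refine ⟨_, isMap_toFun hψ, fun x hx => ?_, fun x hx => ?_⟩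
    · rw [← e ⟨x, hx⟩, ← h1]
      exact toFun_coe ψ (Subgroup.inclusion le_sup_left ⟨x, hx⟩)
    · exact (toFun_coe ψ (Subgroup.inclusion le_sup_right ⟨x, hx⟩)).trans (h2 ⟨x, hx⟩)
  · obtain ⟨g, hg, h1, h2⟩ := h P _ (isMap_toFun hφ)
    obtain ⟨ψ, hψ, e⟩ := hg.exists_hom
    refine ⟨ψ, hψ, fun x => ?_, fun x => (e _).trans (h2 x x.2)⟩
    rw [e, ← toFun_coe φ x]
    exact h1 x x.2

theorem isNormal_bot (F : FusionSystem S) : F.IsNormal ⊥ := by
  refine isNormal_iff.2 ⟨bot_le, fun P f hf => ⟨f, by rwa [sup_bot_eq], fun _ _ => rfl, ?_⟩⟩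
  refine le_antisymm (fimg_le fun x hx => ?_) bot_le
  rw [Subgroup.mem_bot] at hx ⊢
  rw [hx, hf.map_one]

theorem isCentral_bot (F : FusionSystem S) : F.IsCentral ⊥ := by
  refine isCentral_iff.2 ⟨bot_le, fun P f hf => ⟨f, by rwa [sup_bot_eq], fun _ _ => rfl, ?_⟩⟩
  intro x hx
  rw [Subgroup.mem_bot] at hx
  rw [hx, hf.map_one]

theorem isNormal_sup {Q R : Subgroup Ω} (hQ : F.IsNormal Q) (hR : F.IsNormal R) :
    F.IsNormal (Q ⊔ R) := by
  rw [isNormal_iff] at hQ hR ⊢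
  refine ⟨sup_le hQ.1 hR.1, fun P f hf => ?_⟩
  obtain ⟨g, hg, hg1, hg2⟩ := hQ.2 P f hf
  obtain ⟨k, hk, hk1, hk2⟩ := hR.2 _ g hg
  rw [sup_assoc] at hk
  refine ⟨k, hk, fun x hx => (hk1 x ((le_sup_left : P ≤ P ⊔ Q) hx)).trans (hg1 x hx), ?_⟩
  rw [(hk.res le_sup_right).fimg_sup, hk2, fimg_congr fun x hx => hk1 x (le_sup_right (a := P) hx),
    hg2]

theorem isCentral_sup {Q R : Subgroup Ω} (hQ : F.IsCentral Q) (hR : F.IsCentral R) :
    F.IsCentral (Q ⊔ R) := by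
  rw [isCentral_iff] at hQ hR ⊢
  refine ⟨sup_le hQ.1 hR.1, fun P f hf => ?_⟩
  obtain ⟨g, hg, hg1, hg2⟩ := hQ.2 P f hf
  obtain ⟨k, hk, hk1, hk2⟩ := hR.2 _ g hg
  rw [sup_assoc] at hk
  refine ⟨k, hk, fun x hx => (hk1 x ((le_sup_left : P ≤ P ⊔ Q) hx)).trans (hg1 x hx), ?_⟩
  intro x hx
  have hk' := hk.res (le_sup_right : Q ⊔ R ≤ P ⊔ (Q ⊔ R))
  let K : Subgroup Ω :=
    { carrier := {z | z ∈ Q ⊔ R ∧ k z = z}
      one_mem' := ⟨Subgroup.one_mem _, hk'.map_one⟩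
      mul_mem' := fun {a b} ha hb =>
        ⟨Subgroup.mul_mem _ ha.1 hb.1, by rw [hk'.map_mul ha.1 hb.1, ha.2, hb.2]⟩
      inv_mem' := fun {a} ha => ⟨Subgroup.inv_mem _ ha.1, by rw [hk'.map_inv ha.1, ha.2]⟩ }
  have hfix : Q ⊔ R ≤ K := by
    refine sup_le (fun z hz => ⟨le_sup_left (b := R) hz, ?_⟩) fun z hz => ⟨le_sup_right (a := Q) hz, hk2 z hz⟩
    rw [hk1 z (le_sup_right (a := P) hz)]
    exact hg2 z hz
  exact (hfix hx).2

theorem sSup_property [Finite S] {C : Subgroup Ω → Prop} (hbot : C ⊥)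
    (hsup : ∀ A B, C A → C B → C (A ⊔ B)) (hle : ∀ A, C A → A ≤ S) :
    C (sSup {Q | C Q}) := by
  have hfin : {Q : Subgroup Ω | C Q}.Finite := by
    refine Set.Finite.subset ?_ hle
    refine Set.Finite.of_finite_image ?_ (SetLike.coe_injective.injOn)
    refine (Set.toFinite (S : Set Ω)).finite_subsets.subset ?_
    rintro _ ⟨Q, hQ, rfl⟩
    exact hQ
  have key : ∀ s : Set (Subgroup Ω), s.Finite → s ⊆ {Q | C Q} → C (sSup s) := by
    intro s hs
    induction s, hs using Set.Finite.induction_on with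
    | empty => intro _; rwa [sSup_empty]
    | @insert a s _ _ ih =>
      intro h
      rw [sSup_insert]
      exact hsup _ _ (h (Set.mem_insert a s)) (ih ((Set.subset_insert a s).trans h))
  exact key _ hfin Set.Subset.rfl

theorem isNormal_core [Finite S] (F : FusionSystem S) : F.IsNormal F.core :=
  sSup_property (isNormal_bot F) (fun _ _ => isNormal_sup) fun _ h => h.1

theorem isCentral_center [Finite S] (F : FusionSystem S) : F.IsCentral F.center :=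
  sSup_property (isCentral_bot F) (fun _ _ => isCentral_sup) fun _ h => h.1

theorem le_core {Q : Subgroup Ω} (h : F.IsNormal Q) : Q ≤ F.core := le_sSup h

theorem le_center {Q : Subgroup Ω} (h : F.IsCentral Q) : Q ≤ F.center := le_sSup h

theorem IsMap.fimg_characteristic {Q U : Subgroup Ω} {g : Ω → Ω} (hg : IsMap F Q g)
    (hgQ : fimg g Q = Q) (hUQ : U ≤ Q) (hU : (U.subgroupOf Q).Characteristic) :
    fimg g U = U := by
  obtain ⟨α, -, hα⟩ := hg.exists_aut hgQ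
  have key : ∀ (β : MulAut Q), ∀ x ∈ U, autFun β x ∈ U := by
    intro β x hx
    have h := hU.fixed β
    have h2 : (⟨x, hUQ hx⟩ : Q) ∈ (U.subgroupOf Q).comap β.toMonoidHom := by
      rw [h]; exact hx
    rw [show x = ((⟨x, hUQ hx⟩ : Q) : Ω) from rfl, autFun_coe]
    exact h2
  refine le_antisymm (fimg_le fun x hx => hα x (hUQ hx) ▸ key α x hx) fun x hx => ?_
  have hx' := key α⁻¹ x hx
  have := apply_mem_fimg g hx'
  rwa [← hα _ (hUQ hx'), ← autFun_mul _ _ (hUQ hx), mul_inv_cancel, autFun_one (hUQ hx)] at this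

theorem isNormal_of_characteristic {Q U : Subgroup Ω} (hQ : F.IsNormal Q) (hUQ : U ≤ Q)
    (hU : (U.subgroupOf Q).Characteristic) : F.IsNormal U := by
  rw [isNormal_iff] at hQ ⊢
  refine ⟨hUQ.trans hQ.1, fun P f hf => ?_⟩
  obtain ⟨g, hg, hg1, hg2⟩ := hQ.2 P f hf
  exact ⟨g, hg.res (sup_le_sup_left hUQ P), hg1,
    (hg.res le_sup_right).fimg_characteristic hg2 hUQ hU⟩

/-- A normal subgroup is strongly closed. -/
theorem stronglyClosed_of_isNormal {Q : Subgroup Ω} (hQ : F.IsNormal Q) : F.StronglyClosed Q := by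
  refine ⟨hQ.1, fun R hR φ hφ x => ?_⟩
  obtain ⟨g, hg, h1, h2⟩ := (isNormal_iff.1 hQ).2 R _ (isMap_toFun hφ)
  rw [← toFun_coe φ x, ← h1 x x.2, ← h2]
  exact apply_mem_fimg g (hR x.2)

theorem StronglyClosed.apply_mem {T R : Subgroup Ω} (hT : F.StronglyClosed T) {f : Ω → Ω}
    (hf : IsMap F R f) (hR : R ≤ T) {x : Ω} (hx : x ∈ R) : f x ∈ T := by
  obtain ⟨φ, hφ, e⟩ := hf.exists_hom
  rw [← e ⟨x, hx⟩]
  exact hT.2 R hR φ hφ _

theorem stronglyClosed_of_forall {T : Subgroup Ω} (hT : T ≤ S)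
    (h : ∀ R ≤ T, ∀ f, IsMap F R f → ∀ x ∈ R, f x ∈ T) : F.StronglyClosed T :=
  ⟨hT, fun R hR φ hφ x => toFun_coe φ x ▸ h R hR _ (isMap_toFun hφ) x x.2⟩

theorem mem_normalizerHom {Q P : Subgroup Ω} {φ : P →* Ω} :
    φ ∈ F.normalizerHom Q P ↔ P ≤ normalizerIn S Q ∧ (∀ x : P, φ x ∈ normalizerIn S Q) ∧
      ∃ g, IsMap F (P ⊔ Q) g ∧ (∀ x : P, g x = φ x) ∧ fimg g Q = Q := by
  constructor
  · rintro ⟨-, h1, h2, ψ, hψ, h3, h4⟩
    refine ⟨h1, h2, _, isMap_toFun hψ, fun x => ?_, ?_⟩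
    · exact (toFun_coe ψ (Subgroup.inclusion le_sup_left x)).trans (h3 x)
    · rw [← (isMap_toFun hψ).map_subgroupOf le_sup_right fun x => (toFun_coe ψ x).symm, h4]
  · rintro ⟨h1, h2, g, hg, h3, h4⟩
    obtain ⟨ψ, hψ, e⟩ := hg.exists_hom
    exact ⟨mem_hom_of_isMap (hg.res le_sup_left) fun x => (h3 x).symm, h1, h2, ψ, hψ,
      fun x => (e _).trans (h3 x), (hg.map_subgroupOf le_sup_right e).trans h4⟩

theorem mem_centralizerHom {Q P : Subgroup Ω} {φ : P →* Ω} :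
    φ ∈ F.centralizerHom Q P ↔ P ≤ centralizerIn S Q ∧ (∀ x : P, φ x ∈ centralizerIn S Q) ∧
      ∃ g, IsMap F (P ⊔ Q) g ∧ (∀ x : P, g x = φ x) ∧ ∀ x ∈ Q, g x = x := by
  constructor
  · rintro ⟨-, h1, h2, ψ, hψ, h3, h4⟩
    refine ⟨h1, h2, _, isMap_toFun hψ, fun x => ?_, fun x hx => ?_⟩
    · exact (toFun_coe ψ (Subgroup.inclusion le_sup_left x)).trans (h3 x)
    · exact (toFun_coe ψ (Subgroup.inclusion le_sup_right ⟨x, hx⟩)).trans (h4 ⟨x, hx⟩)
  · rintro ⟨h1, h2, g, hg, h3, h4⟩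
    obtain ⟨ψ, hψ, e⟩ := hg.exists_hom
    exact ⟨mem_hom_of_isMap (hg.res le_sup_left) fun x => (h3 x).symm, h1, h2, ψ, hψ,
      fun x => (e _).trans (h3 x), fun x => (e _).trans (h4 x x.2)⟩

/-- The normalizer system of a subgroup of `S`. -/
def normalizerSystem (F : FusionSystem S) (Q : Subgroup Ω) (hQ : Q ≤ S) :
    FusionSystem (normalizerIn S Q) where
  Hom P := F.normalizerHom Q P
  le_of_mem h := ⟨h.2.1, h.2.2.1⟩
  injective_of_mem h := F.injective_of_mem h.1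
  conj_mem := by
    intro P g hP hg
    refine mem_normalizerHom.2 ⟨hP, fun x => ?_, fun x => g * x * g⁻¹,
      isMap_conj F (sup_le (hP.trans inf_le_left) hQ) hg.1, fun x => rfl, ?_⟩
    · exact Subgroup.mul_mem _ (Subgroup.mul_mem _ hg (hP x.2)) (Subgroup.inv_mem _ hg)
    · ext y
      rw [mem_fimg_conj, Subgroup.mem_normalizer_iff''.1 hg.2 y]
  comp_mem := by
    intro P R φ ψ hφ hψ h
    obtain ⟨hP, -, a, ha, ha1, ha2⟩ := mem_normalizerHom.1 hφ
    obtain ⟨hR, hψN, b, hb, hb1, hb2⟩ := mem_normalizerHom.1 hψ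
    have haP : ∀ x ∈ P ⊔ Q, a x ∈ R ⊔ Q := by
      intro x hx
      have h2 := apply_mem_fimg a hx
      rw [ha.fimg_sup] at h2
      refine sup_le_sup ?_ ha2.le h2
      exact fimg_le fun y hy => (ha1 ⟨y, hy⟩).symm ▸ h ⟨y, hy⟩
    refine mem_normalizerHom.2 ⟨hP, fun x => hψN _, fun x => b (a x), ha.comp hb haP,
      fun x => ?_, ?_⟩
    · show b (a x) = ψ (φ.codRestrict R h x)
      rw [← hb1, ha1]
      rfl
    · rw [(ha.res le_sup_right).fimg_comp b, ha2, hb2]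
  inv_mem := by
    intro P φ hφ
    obtain ⟨hP, hφN, a, ha, ha1, ha2⟩ := mem_normalizerHom.1 hφ
    have hr : φ.range = fimg a P :=
      (ha.res le_sup_left).range_eq_fimg fun x => (ha1 x).symm
    obtain ⟨g, hg, hg1, -, -⟩ := ha.exists_inv
    rw [ha.fimg_sup, ← hr, ha2] at hg
    obtain ⟨ψ, hψ, e⟩ := (hg.res le_sup_left).exists_hom
    have e' : ∀ x : P, g (φ x) = x := fun x => by
      rw [← ha1, hg1 _ (le_sup_left (b := Q) x.2)]
    refine ⟨ψ, mem_normalizerHom.2 ⟨?_, ?_, g, hg, fun y => (e y).symm, ?_⟩,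
      fun x => (e _).trans (e' x)⟩
    · rintro _ ⟨x, rfl⟩
      exact hφN x
    · rintro ⟨_, x, rfl⟩
      rw [e]
      exact (e' x).symm ▸ hP x.2
    · rw [← ha2, ← (ha.res le_sup_right).fimg_comp g,
        fimg_eq_self_of_forall fun x hx => hg1 x (le_sup_right (a := P) hx), ha2]

/-- The centralizer system of a subgroup of `S`. -/
def centralizerSystem (F : FusionSystem S) (Q : Subgroup Ω) (hQ : Q ≤ S) :
    FusionSystem (centralizerIn S Q) where
  Hom P := F.centralizerHom Q P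
  le_of_mem h := ⟨h.2.1, h.2.2.1⟩
  injective_of_mem h := F.injective_of_mem h.1
  conj_mem := by
    intro P g hP hg
    refine mem_centralizerHom.2 ⟨hP, fun x => ?_, fun x => g * x * g⁻¹,
      isMap_conj F (sup_le (hP.trans inf_le_left) hQ) hg.1, fun x => rfl, fun x hx => ?_⟩
    · exact Subgroup.mul_mem _ (Subgroup.mul_mem _ hg (hP x.2)) (Subgroup.inv_mem _ hg)
    · show g * x * g⁻¹ = x
      rw [← (mem_centralizerIn.1 hg).2 x hx, mul_inv_cancel_right]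
  comp_mem := by
    intro P R φ ψ hφ hψ h
    obtain ⟨hP, -, a, ha, ha1, ha2⟩ := mem_centralizerHom.1 hφ
    obtain ⟨hR, hψN, b, hb, hb1, hb2⟩ := mem_centralizerHom.1 hψ
    have haP : ∀ x ∈ P ⊔ Q, a x ∈ R ⊔ Q := by
      intro x hx
      have h2 := apply_mem_fimg a hx
      rw [ha.fimg_sup, fimg_eq_self_of_forall ha2] at h2
      refine sup_le_sup_right ?_ Q h2
      exact fimg_le fun y hy => (ha1 ⟨y, hy⟩).symm ▸ h ⟨y, hy⟩
    refine mem_centralizerHom.2 ⟨hP, fun x => hψN _, fun x => b (a x), ha.comp hb haP,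
      fun x => ?_, fun x hx => by simp only [ha2 x hx, hb2 x hx]⟩
    show b (a x) = ψ (φ.codRestrict R h x)
    rw [← hb1, ha1]
    rfl
  inv_mem := by
    intro P φ hφ
    obtain ⟨hP, hφN, a, ha, ha1, ha2⟩ := mem_centralizerHom.1 hφ
    have hr : φ.range = fimg a P :=
      (ha.res le_sup_left).range_eq_fimg fun x => (ha1 x).symm
    obtain ⟨g, hg, hg1, -, -⟩ := ha.exists_inv
    rw [ha.fimg_sup, ← hr, fimg_eq_self_of_forall ha2] at hg
    obtain ⟨ψ, hψ, e⟩ := (hg.res le_sup_left).exists_hom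
    have e' : ∀ x : P, g (φ x) = x := fun x => by
      rw [← ha1, hg1 _ (le_sup_left (b := Q) x.2)]
    refine ⟨ψ, mem_centralizerHom.2 ⟨?_, ?_, g, hg, fun y => (e y).symm, fun x hx => ?_⟩,
      fun x => (e _).trans (e' x)⟩
    · rintro _ ⟨x, rfl⟩
      exact hφN x
    · rintro ⟨_, x, rfl⟩
      rw [e]
      exact (e' x).symm ▸ hP x.2
    · conv_lhs => rw [← ha2 x hx]
      exact hg1 x (le_sup_right (a := P) hx)

theorem isNormalizerSystem_normalizerSystem (F : FusionSystem S) {Q : Subgroup Ω} (hQ : Q ≤ S) :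
    F.IsNormalizerSystem Q (normalizerSystem F Q hQ) := fun _ => rfl

theorem isCentralizerSystem_centralizerSystem (F : FusionSystem S) {Q : Subgroup Ω} (hQ : Q ≤ S) :
    F.IsCentralizerSystem Q (centralizerSystem F Q hQ) := fun _ => rfl

theorem isNormalizerSystem_unique {Q : Subgroup Ω} {E E' : FusionSystem (normalizerIn S Q)}
    (h : F.IsNormalizerSystem Q E) (h' : F.IsNormalizerSystem Q E') : E = E' :=
  eq_of_hom_eq fun P => (h P).trans (h' P).symm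

theorem isCentralizerSystem_unique {Q : Subgroup Ω} {E E' : FusionSystem (centralizerIn S Q)}
    (h : F.IsCentralizerSystem Q E) (h' : F.IsCentralizerSystem Q E') : E = E' :=
  eq_of_hom_eq fun P => (h P).trans (h' P).symm

end Cfsg.Agent.Fus
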