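import Cfsg.Agent.Lib.Fus.Basic

/-!
Saturated fusion systems: the equivalent forms of the saturation axioms.
-/

set_option autoImplicit false
set_option linter.style.haveILetI false

open scoped Classical

namespace Cfsg.Agent.Fus

open Subgroup FusionSystem

variable {Ω : Type*} [Group Ω] {S : Subgroup Ω} {F : FusionSystem S}

theorem mem_normalizer_of_forall {Q : Subgroup Ω} {g : Ω} (h₁ : ∀ x ∈ Q, g * x * g⁻¹ ∈ Q)
    (h₂ : ∀ x ∈ Q, g⁻¹ * x * g ∈ Q) : g ∈ Subgroup.normalizer (Q : Set Ω) :=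
  Subgroup.mem_normalizer_iff.2 fun n => ⟨h₁ n, fun hn => by
    have := h₂ _ hn
    rwa [show g⁻¹ * (g * n * g⁻¹) * g = n by group] at this⟩

/-- A map sends normalizing elements to normalizing elements of the image. -/
theorem IsMap.map_normalizerIn {N P : Subgroup Ω} {f : Ω → Ω} (hf : IsMap F N f) (hPN : P ≤ N)
    {g : Ω} (hg : g ∈ N) (hgn : g ∈ Subgroup.normalizer (P : Set Ω)) :
    f g ∈ normalizerIn S (fimg f P) := by
  refine ⟨hf.apply_mem hg, mem_normalizer_of_forall ?_ ?_⟩ <;>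
    rintro _ hy <;> obtain ⟨x, hx, rfl⟩ := (hf.res hPN).mem_fimg_iff.1 hy
  · rw [← hf.map_conj hg (hPN hx)]
    exact apply_mem_fimg f ((Subgroup.mem_normalizer_iff.1 hgn x).1 hx)
  · have := hf.map_conj (N.inv_mem hg) (hPN hx)
    rw [hf.map_inv hg, inv_inv, inv_inv] at this
    rw [← this]
    refine apply_mem_fimg f ?_
    have h2 := (Subgroup.mem_normalizer_iff.1 (Subgroup.inv_mem _ hgn) x).1 hx
    rwa [inv_inv] at h2

theorem IsMap.map_centralizerIn {N P : Subgroup Ω} {f : Ω → Ω} (hf : IsMap F N f) (hPN : P ≤ N)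
    {g : Ω} (hg : g ∈ N) (hgc : g ∈ Subgroup.centralizer (P : Set Ω)) :
    f g ∈ centralizerIn S (fimg f P) := by
  refine mem_centralizerIn.2 ⟨hf.apply_mem hg, fun y hy => ?_⟩
  obtain ⟨x, hx, rfl⟩ := (hf.res hPN).mem_fimg_iff.1 hy
  rw [← hf.map_mul (hPN hx) hg, ← hf.map_mul hg (hPN hx),
    Subgroup.mem_centralizer_iff.1 hgc x hx]

theorem le_extender {P : Subgroup Ω} {φ : P →* Ω} (hφ : φ ∈ F.Hom P) :
    P ≤ extender S P φ := fun a ha => by
  have hf := isMap_toFun hφ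
  exact mem_extender.2 ⟨hf.source_le ha, Subgroup.le_normalizer ha, toFun φ a, hf.apply_mem ha,
    fun x hx => hf.map_conj ha hx⟩

/-- Receptivity, in the function language. -/
theorem receptive_extend {Q : Subgroup Ω} (hQ : F.IsReceptive Q) {P : Subgroup Ω} {f : Ω → Ω}
    (hf : IsMap F P f) (hfQ : fimg f P = Q) {N : Subgroup Ω}
    (hN : ∀ g ∈ N, g ∈ normalizerIn S P ∧ ∃ h ∈ S, ∀ x ∈ P, f (g * x * g⁻¹) = h * f x * h⁻¹)
    (hPN : P ≤ N) : ∃ f', IsMap F N f' ∧ ∀ x ∈ P, f' x = f x := by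
  obtain ⟨φ, hφ, e⟩ := hf.exists_hom
  obtain ⟨ψ, hψ, hext⟩ := hQ.2 P φ hφ ((hf.range_eq_fimg e).trans hfQ)
  have hN' : N ≤ extender S P φ := fun g hg => by
    obtain ⟨⟨h1, h2⟩, h, hh, he⟩ := hN g hg
    refine mem_extender.2 ⟨h1, h2, h, hh, fun x hx => ?_⟩
    have hgx := (Subgroup.mem_normalizer_iff.1 h2 x).1 hx
    rw [toFun_apply φ hgx, toFun_apply φ hx, e, e]
    exact he x hx
  refine ⟨toFun ψ, (isMap_toFun hψ).res hN', fun x hx => ?_⟩
  rw [toFun_apply ψ (hN' (hPN hx)), hext x hx, e]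

theorem receptive_of {Q : Subgroup Ω} (hQS : Q ≤ S)
    (h : ∀ (P : Subgroup Ω) (f : Ω → Ω), IsMap F P f → fimg f P = Q → ∀ N : Subgroup Ω,
      P ≤ N → (∀ g, g ∈ N ↔ g ∈ S ∧ g ∈ Subgroup.normalizer (P : Set Ω) ∧
        ∃ h ∈ S, ∀ x ∈ P, f (g * x * g⁻¹) = h * f x * h⁻¹) →
      ∃ f', IsMap F N f' ∧ ∀ x ∈ P, f' x = f x) : F.IsReceptive Q := by
  refine ⟨hQS, fun P φ hφ hr => ?_⟩
  have hf := isMap_toFun hφ
  obtain ⟨f', hf', e⟩ := h P (toFun φ) hf
    ((hf.range_eq_fimg fun x => (toFun_coe φ x).symm).symm.trans hr)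
    (extender S P φ) (le_extender hφ) (fun g => mem_extender)
  obtain ⟨ψ, hψ, e'⟩ := hf'.exists_hom
  refine ⟨ψ, hψ, fun x hP hN => ?_⟩
  rw [e' ⟨x, hN⟩, e x hP, toFun_apply φ hP]

/-- A receptive subgroup is fully centralized. -/
theorem fullyCentralized_of_receptive [Finite S] {P : Subgroup Ω} (hP : F.IsReceptive P) :
    F.IsFullyCentralized P := by
  refine ⟨hP.1, fun Q hQ => ?_⟩
  obtain ⟨f, hf, hfi⟩ := isConj_iff.1 (isConj_symm hQ)
  let N : Subgroup Ω := Q ⊔ centralizerIn S Q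
  have hN : N ≤ extender S Q (Classical.choose hf) := by
    refine sup_le (le_extender (Classical.choose_spec hf).1) fun g hg => ?_
    obtain ⟨hgS, hgc⟩ := mem_centralizerIn.1 hg
    refine mem_extender.2 ⟨hgS, (centralizerIn_le_normalizerIn Q hg).2, 1, S.one_mem, fun x hx => ?_⟩
    rw [show g * x * g⁻¹ = x by rw [← hgc x hx, mul_inv_cancel_right]]
    simp
  obtain ⟨ψ, hψ, hext⟩ := hP.2 Q _ (Classical.choose_spec hf).1
    ((hf.range_eq_fimg (Classical.choose_spec hf).2).trans hfi)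
  have hψ' := (isMap_toFun hψ).res hN
  have e : ∀ x ∈ Q, toFun ψ x = f x := fun x hx => by
    rw [toFun_apply ψ (hN (le_sup_left (b := centralizerIn S Q) hx)), hext x hx,
      (Classical.choose_spec hf).2]
  have hC : fimg (toFun ψ) (centralizerIn S Q) ≤ centralizerIn S P := fimg_le fun g hg => by
    rw [← hfi, ← fimg_congr e]
    exact hψ'.map_centralizerIn le_sup_left (le_sup_right (a := Q) hg) hg.2
  rw [← (hψ'.res le_sup_right).card_fimg]
  haveI : Finite ↥(centralizerIn S P) := finite_of_le (S := S) inf_le_left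
  exact Subgroup.card_le_of_le hC

/-- If `Q` is receptive and some map carries `N_S(P)` into `N_S(Q)`, `P` onto `Q` and `C_S(P)` onto
`C_S(Q)`, then `P` is receptive. -/
theorem receptive_transport {P Q : Subgroup Ω} (hPS : P ≤ S) (hQ : F.IsReceptive Q) {f : Ω → Ω}
    (hf : IsMap F (normalizerIn S P) f) (hfP : fimg f P = Q)
    (hC : ∀ c ∈ centralizerIn S Q, ∃ d ∈ centralizerIn S P, f d = c) : F.IsReceptive P := by
  refine receptive_of hPS fun R u hu huR N hRN hN => ?_
  have hPN := le_normalizerIn (S := S) hPS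
  have hNP : ∀ g ∈ N, ∃ h ∈ normalizerIn S P, ∀ x ∈ R, u (g * x * g⁻¹) = h * u x * h⁻¹ := by
    intro g hg
    obtain ⟨-, hgn, h, hh, he⟩ := (hN g).1 hg
    refine ⟨h, ⟨hh, mem_normalizer_of_forall ?_ ?_⟩, he⟩ <;>
      rw [← huR] <;> intro y hy <;> obtain ⟨x, hx, rfl⟩ := hu.mem_fimg_iff.1 hy
    · rw [← he x hx]
      exact apply_mem_fimg u ((Subgroup.mem_normalizer_iff.1 hgn x).1 hx)
    · have hgx : g⁻¹ * x * g ∈ R := by
        have := (Subgroup.mem_normalizer_iff.1 (Subgroup.inv_mem _ hgn) x).1 hx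
        rwa [inv_inv] at this
      have := he _ hgx
      rw [show g * (g⁻¹ * x * g) * g⁻¹ = x by group] at this
      rw [show h⁻¹ * u x * h = u (g⁻¹ * x * g) by rw [this]; group]
      exact apply_mem_fimg u hgx
  have hcomp := hu.comp (hf.res hPN) fun x hx => huR ▸ apply_mem_fimg u hx
  have hcompQ : fimg (fun x => f (u x)) R = Q := by rw [hu.fimg_comp f, huR, hfP]
  obtain ⟨w, hw, hwe⟩ := receptive_extend hQ hcomp hcompQ (N := N) (fun g hg => by
    obtain ⟨hgS, hgn, -⟩ := (hN g).1 hg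
    obtain ⟨h, hh, he⟩ := hNP g hg
    refine ⟨⟨hgS, hgn⟩, f h, hf.apply_mem hh, fun x hx => ?_⟩
    have hux : u x ∈ normalizerIn S P := hPN (huR ▸ apply_mem_fimg u hx)
    simp only [he x hx, hf.map_conj hh hux]) hRN
  obtain ⟨fi, hfi, hfi1, hfi2, -⟩ := hf.exists_inv
  have hwN : ∀ g ∈ N, w g ∈ fimg f (normalizerIn S P) := by
    intro g hg
    obtain ⟨hgS, hgn, -⟩ := (hN g).1 hg
    obtain ⟨h, hh, he⟩ := hNP g hg
    have hc : (f h)⁻¹ * w g ∈ centralizerIn S Q := by
      refine mem_centralizerIn.2 ⟨S.mul_mem (S.inv_mem (hf.apply_mem hh)) (hw.apply_mem hg), ?_⟩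
      rw [← hcompQ]
      intro y hy
      obtain ⟨x, hx, rfl⟩ := hcomp.mem_fimg_iff.1 hy
      have hgx := (Subgroup.mem_normalizer_iff.1 hgn x).1 hx
      have h1 : f (u (g * x * g⁻¹)) = w g * f (u x) * (w g)⁻¹ := by
        rw [← hwe _ hgx, hw.map_conj hg (hRN hx), hwe x hx]
      have hux : u x ∈ normalizerIn S P := hPN (huR ▸ apply_mem_fimg u hx)
      rw [he x hx, hf.map_conj hh hux] at h1
      have h2 := congrArg (fun z => (f h)⁻¹ * z * w g) h1
      simpa [mul_assoc] using h2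
    obtain ⟨d, hd, hde⟩ := hC _ hc
    have : w g = f (h * d) := by
      rw [hf.map_mul hh (centralizerIn_le_normalizerIn P hd), hde, mul_inv_cancel_left]
    rw [this]
    exact apply_mem_fimg f (Subgroup.mul_mem _ hh (centralizerIn_le_normalizerIn P hd))
  refine ⟨fun g => fi (w g), hw.comp hfi hwN, fun x hx => ?_⟩
  simp only [hwe x hx]
  exact hfi1 _ (hPN (huR ▸ apply_mem_fimg u hx))

/-- Conjugation of automorphisms by an iso `P ≃* Q` of the system stays inside the system. -/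
theorem exists_mulEquiv {P Q : Subgroup Ω} {f : Ω → Ω} (hf : IsMap F P f) (hfQ : fimg f P = Q) :
    ∃ e : P ≃* Q, (∀ x : P, (e x : Ω) = f x) ∧
      ∀ α : MulAut P, α ∈ F.autGroup P ↔ MulAut.congr e α ∈ F.autGroup Q := by
  subst hfQ
  obtain ⟨φ, hφ, he⟩ := hf.exists_hom
  obtain ⟨g, hg, hg1, hg2, -⟩ := hf.exists_inv
  let e : P ≃* fimg f P :=
    (MonoidHom.ofInjective (F.injective_of_mem hφ)).trans
      (MulEquiv.subgroupCongr (hf.range_eq_fimg he))
  have ee : ∀ x : P, (e x : Ω) = f x := he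
  have esymm : ∀ y : fimg f P, ((e.symm y : P) : Ω) = g y := by
    intro y
    conv_rhs => rw [← e.apply_symm_apply y, ee]
    rw [hg1 _ (e.symm y).2]
  refine ⟨e, ee, fun α => ?_⟩
  rw [mem_autGroup hf.source_le, mem_autGroup hf.fimg_le_S]
  constructor
  · intro hα
    refine ((hg.comp hα fun y hy => (hg2 y hy).1).comp hf
      fun y hy => autFun_mem α (hg2 y hy).1).congr fun y hy => ?_
    rw [show y = ((⟨y, hy⟩ : fimg f P) : Ω) from rfl, autFun_coe, ← esymm, autFun_coe, ← ee]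
    rfl
  · intro hα
    refine ((hf.comp hα fun x hx => apply_mem_fimg f hx).comp hg
      fun x hx => autFun_mem _ (apply_mem_fimg f hx)).congr fun x hx => ?_
    rw [show x = ((⟨x, hx⟩ : P) : Ω) from rfl, autFun_coe, ← ee, autFun_coe, ← esymm]
    simp [MulAut.congr]

/-- A map on `N_S(P)` carries the automorphisms induced by `S` to such automorphisms. -/
theorem congr_autInducedBy {P Q : Subgroup Ω} {f : Ω → Ω}
    (hf : IsMap F (normalizerIn S P) f) (hPS : P ≤ S) (e : P ≃* Q) (he : ∀ x : P, (e x : Ω) = f x)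
    {α : MulAut P} (hα : α ∈ autInducedBy S P) : MulAut.congr e α ∈ autInducedBy S Q := by
  obtain ⟨g, hg, hga⟩ := mem_autInducedBy.1 hα
  have hgN : g ∈ normalizerIn S P := ⟨hg, mem_normalizer_of_conj_aut hga⟩
  refine mem_autInducedBy.2 ⟨f g, hf.apply_mem hgN, fun y => ?_⟩
  have h1 : ((MulAut.congr e α y : Q) : Ω) = f (g * ((e.symm y : P) : Ω) * g⁻¹) := by
    rw [← hga, ← he]; rfl
  rw [h1, hf.map_conj hgN (le_normalizerIn hPS (e.symm y).2), ← he, MulEquiv.apply_symm_apply]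

theorem isPGroup_autInducedBy {p : ℕ} (hS : IsPGroup p S) (P : Subgroup Ω) :
    IsPGroup p (autInducedBy S P) := by
  rw [autInducedBy_eq_map]
  refine IsPGroup.map ?_ _
  exact hS.comap_subtype

/-- The basic extension property: if `Q` is fully automized and receptive and `P` is conjugate to
`Q`, then some map on `N_S(P)` with values in `N_S(Q)` carries `P` onto `Q`. -/
theorem exists_map_normalizerIn [Finite S] {p : ℕ} [Fact p.Prime] (hS : IsPGroup p S)
    {P Q : Subgroup Ω} (h₁ : F.IsFullyAutomized p Q) (h₂ : F.IsReceptive Q) (h : F.IsConj P Q) :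
    ∃ f, IsMap F (normalizerIn S P) f ∧ fimg f P = Q ∧
      ∀ x ∈ normalizerIn S P, f x ∈ normalizerIn S Q := by
  obtain ⟨u, hu, huQ⟩ := isConj_iff.1 h
  have hPS := hu.source_le
  obtain ⟨e, he, heA⟩ := exists_mulEquiv hu huQ
  obtain ⟨hQS, R, hR⟩ := h₁
  haveI := finite_of_le hQS
  let Y : Subgroup (F.autGroup Q) :=
    ((autInducedBy S P).map (MulAut.congr e).toMonoidHom).subgroupOf (F.autGroup Q)
  have hY : IsPGroup p Y :=
    IsPGroup.comap_subtype ((isPGroup_autInducedBy hS P).map _)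
  obtain ⟨R', hR'⟩ := hY.exists_le_sylow
  obtain ⟨a, ha⟩ := MulAction.exists_smul_eq (F.autGroup Q) R' R
  let f₁ : Ω → Ω := fun x => autFun (a : MulAut Q) (u x)
  have hf₁ : IsMap F P f₁ :=
    hu.comp ((mem_autGroup hQS).1 a.2) fun x hx => huQ ▸ apply_mem_fimg u hx
  have hf₁Q : fimg f₁ P = Q := by
    rw [show f₁ = fun x => autFun (a : MulAut Q) (u x) from rfl, hu.fimg_comp, huQ, fimg_autFun]
  have hN : ∀ g ∈ normalizerIn S P, g ∈ normalizerIn S P ∧
      ∃ k ∈ S, ∀ x ∈ P, f₁ (g * x * g⁻¹) = k * f₁ x * k⁻¹ := by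
    intro g hg
    refine ⟨hg, ?_⟩
    have hc : P.normalizerMonoidHom ⟨g, hg.2⟩ ∈ autInducedBy S P :=
      mem_autInducedBy.2 ⟨g, hg.1, fun x => rfl⟩
    have hy : MulAut.congr e (P.normalizerMonoidHom ⟨g, hg.2⟩) ∈ F.autGroup Q :=
      (heA _).1 (autInducedBy_le_autGroup F hPS hc)
    have hyY : (⟨_, hy⟩ : F.autGroup Q) ∈ (R' : Subgroup (F.autGroup Q)) :=
      hR' (Subgroup.mem_subgroupOf.2 ⟨_, hc, rfl⟩)
    have hyR : a * ⟨_, hy⟩ * a⁻¹ ∈ (R : Subgroup (F.autGroup Q)) := by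
      rw [← ha]
      exact ⟨_, hyY, rfl⟩
    rw [hR, Subgroup.mem_subgroupOf] at hyR
    obtain ⟨k, hk, hk'⟩ := mem_autInducedBy.1 hyR
    refine ⟨k, hk, fun x hx => ?_⟩
    have h1 := hk' ((a : MulAut Q) (e ⟨x, hx⟩))
    have hgx := (Subgroup.mem_normalizer_iff.1 hg.2 x).1 hx
    have h2 : f₁ (g * x * g⁻¹) = ((a : MulAut Q) (e ⟨_, hgx⟩) : Q) := by
      rw [← autFun_coe, he]
    have h3 : f₁ x = ((a : MulAut Q) (e ⟨x, hx⟩) : Q) := by rw [← autFun_coe, he]
    rw [h2, h3]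
    refine Eq.trans ?_ h1
    simp only [Subgroup.coe_mul, Subgroup.coe_inv, MulAut.mul_apply, MulAut.inv_apply_self]
    simp only [MulAut.congr, MulEquiv.coe_mk, Equiv.coe_fn_mk, MulEquiv.trans_apply,
      MulEquiv.symm_apply_apply]
    rfl
  obtain ⟨f, hf, hfe⟩ := receptive_extend h₂ hf₁ hf₁Q hN (le_normalizerIn hPS)
  have hfP : fimg f P = Q := (fimg_congr hfe).trans hf₁Q
  exact ⟨f, hf, hfP, fun x hx => hfP ▸ hf.map_normalizerIn (le_normalizerIn hPS) hx hx.2⟩

theorem finite_subgroups_le [Finite S] : {Q : Subgroup Ω | Q ≤ S}.Finite := by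
  refine Set.Finite.of_finite_image ?_ (SetLike.coe_injective.injOn)
  refine (Set.toFinite (S : Set Ω)).finite_subsets.subset ?_
  rintro _ ⟨Q, hQ, rfl⟩
  exact hQ

theorem exists_fullyNormalized [Finite S] (F : FusionSystem S) {P : Subgroup Ω} (hP : P ≤ S) :
    ∃ Q, F.IsConj P Q ∧ F.IsFullyNormalized Q := by
  have hfin : {Q : Subgroup Ω | F.IsConj P Q}.Finite :=
    finite_subgroups_le.subset fun Q hQ => isConj_le_right hQ
  obtain ⟨Q, hQ, hmax⟩ :=
    Set.exists_max_image _ (fun Q => Nat.card (normalizerIn S Q)) hfin ⟨P, isConj_refl F hP⟩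
  exact ⟨Q, hQ, isConj_le_right hQ, fun R hR => hmax R (isConj_trans hQ hR)⟩

theorem exists_fullyCentralized [Finite S] (F : FusionSystem S) {P : Subgroup Ω} (hP : P ≤ S) :
    ∃ Q, F.IsConj P Q ∧ F.IsFullyCentralized Q := by
  have hfin : {Q : Subgroup Ω | F.IsConj P Q}.Finite :=
    finite_subgroups_le.subset fun Q hQ => isConj_le_right hQ
  obtain ⟨Q, hQ, hmax⟩ :=
    Set.exists_max_image _ (fun Q => Nat.card (centralizerIn S Q)) hfin ⟨P, isConj_refl F hP⟩
  exact ⟨Q, hQ, isConj_le_right hQ, fun R hR => hmax R (isConj_trans hQ hR)⟩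

section Saturated

variable [Finite S] {p : ℕ} [Fact p.Prime]

/-- In a saturated system a fully normalized subgroup admits a map from its normalizer onto the
normalizer of a fully automized receptive conjugate. -/
theorem exists_onto_normalizer (hS : IsPGroup p S) (hF : F.IsSaturated p) {P : Subgroup Ω}
    (hP : F.IsFullyNormalized P) : ∃ Q f, F.IsFullyAutomized p Q ∧ F.IsReceptive Q ∧
      IsMap F (normalizerIn S P) f ∧ fimg f P = Q ∧
      fimg f (normalizerIn S P) = normalizerIn S Q := by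
  obtain ⟨Q, hQ, hQa, hQr⟩ := hF P hP.1
  obtain ⟨f, hf, hfP, hfN⟩ := exists_map_normalizerIn hS hQa hQr hQ
  refine ⟨Q, f, hQa, hQr, hf, hfP, ?_⟩
  haveI : Finite ↥(normalizerIn S Q) := finite_of_le (S := S) inf_le_left
  exact Subgroup.eq_of_le_of_card_ge (fimg_le hfN) (hf.card_fimg.symm ▸ hP.2 Q hQ)

theorem fullyAutomized_of_fullyNormalized (hS : IsPGroup p S) (hF : F.IsSaturated p)
    {P : Subgroup Ω} (hP : F.IsFullyNormalized P) : F.IsFullyAutomized p P := by
  obtain ⟨Q, f, ⟨hQS, R, hR⟩, -, hf, hfP, hfN⟩ := exists_onto_normalizer hS hF hP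
  obtain ⟨e, he, heA⟩ := exists_mulEquiv (hf.res (le_normalizerIn hP.1)) hfP
  let E : F.autGroup P →* F.autGroup Q :=
    ((MulAut.congr e).toMonoidHom.comp (F.autGroup P).subtype).codRestrict _
      fun α => (heA _).1 α.2
  have hE : Function.Injective E := fun a b hab =>
    Subtype.ext ((MulAut.congr e).injective (congrArg Subtype.val hab))
  have hEs : Function.Surjective E := fun b =>
    ⟨⟨(MulAut.congr e).symm b, (heA _).2 (by rw [MulEquiv.apply_symm_apply]; exact b.2)⟩,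
      Subtype.ext ((MulAut.congr e).apply_symm_apply _)⟩
  refine ⟨hP.1, R.comapOfInjective E hE (by rw [MonoidHom.range_eq_top.2 hEs]; exact le_top), ?_⟩
  rw [Sylow.coe_comapOfInjective, hR]
  ext α
  rw [Subgroup.mem_comap, Subgroup.mem_subgroupOf, Subgroup.mem_subgroupOf]
  refine ⟨fun h => ?_, fun h => congr_autInducedBy hf hP.1 e he h⟩
  obtain ⟨k, hk, hke⟩ := mem_autInducedBy.1 h
  have hkN : k ∈ fimg f (normalizerIn S P) := hfN ▸ ⟨hk, mem_normalizer_of_conj_aut hke⟩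
  obtain ⟨m, hm, rfl⟩ := hf.mem_fimg_iff.1 hkN
  have : (α : MulAut P) = P.normalizerMonoidHom ⟨m, hm.2⟩ := by
    refine (MulAut.congr e).injective (MulEquiv.ext fun y => Subtype.ext ?_)
    refine (hke y).trans ?_
    obtain ⟨x, rfl⟩ := e.surjective y
    rw [he, ← hf.map_conj hm (le_normalizerIn hP.1 x.2), ← normalizerMonoidHom_apply ⟨m, hm.2⟩,
      ← he]
    simp [MulAut.congr]
  rw [this]
  exact mem_autInducedBy.2 ⟨m, hm.1, fun x => rfl⟩

theorem fullyCentralized_of_fullyNormalized (hS : IsPGroup p S) (hF : F.IsSaturated p)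
    {P : Subgroup Ω} (hP : F.IsFullyNormalized P) : F.IsFullyCentralized P := by
  obtain ⟨Q, f, -, hQr, hf, hfP, hfN⟩ := exists_onto_normalizer hS hF hP
  refine ⟨hP.1, fun R hR => ?_⟩
  have hQ : F.IsConj P Q := hfP ▸ (hf.res (le_normalizerIn hP.1)).isConj
  refine ((fullyCentralized_of_receptive hQr).2 R (isConj_trans (isConj_symm hQ) hR)).trans ?_
  have hCle := centralizerIn_le_normalizerIn (S := S) P
  have hsub : centralizerIn S Q ≤ fimg f (centralizerIn S P) := by
    intro c hc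
    obtain ⟨hcS, hcc⟩ := mem_centralizerIn.1 hc
    obtain ⟨d, hd, rfl⟩ := hf.mem_fimg_iff.1
      (hfN ▸ centralizerIn_le_normalizerIn Q hc : c ∈ fimg f (normalizerIn S P))
    refine apply_mem_fimg f (mem_centralizerIn.2 ⟨hd.1, fun x hx => ?_⟩)
    have hxN := le_normalizerIn hP.1 hx
    refine hf.injOn (Subgroup.mul_mem _ hxN hd) (Subgroup.mul_mem _ hd hxN) ?_
    rw [hf.map_mul hxN hd, hf.map_mul hd hxN]
    exact hcc _ (hfP ▸ apply_mem_fimg f hx)
  rw [← (hf.res hCle).card_fimg]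
  haveI : Finite ↥(fimg f (centralizerIn S P)) := finite_of_le (hf.res hCle).fimg_le_S
  exact Subgroup.card_le_of_le hsub

theorem receptive_of_fullyCentralized (hS : IsPGroup p S) (hF : F.IsSaturated p)
    {P : Subgroup Ω} (hP : F.IsFullyCentralized P) : F.IsReceptive P := by
  obtain ⟨Q, hQ, hQa, hQr⟩ := hF P hP.1
  obtain ⟨f, hf, hfP, -⟩ := exists_map_normalizerIn hS hQa hQr hQ
  refine receptive_transport hP.1 hQr hf hfP fun c hc => ?_
  have hle : fimg f (centralizerIn S P) ≤ centralizerIn S Q := fimg_le fun d hd =>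
    hfP ▸ hf.map_centralizerIn (le_normalizerIn hP.1) (centralizerIn_le_normalizerIn P hd) hd.2
  have hres := hf.res (centralizerIn_le_normalizerIn P)
  haveI : Finite ↥(centralizerIn S Q) := finite_of_le (S := S) inf_le_left
  have := Subgroup.eq_of_le_of_card_ge hle (hres.card_fimg.symm ▸ hP.2 Q hQ)
  exact hres.mem_fimg_iff.1 (this.symm ▸ hc)

theorem receptive_of_fullyNormalized (hS : IsPGroup p S) (hF : F.IsSaturated p)
    {P : Subgroup Ω} (hP : F.IsFullyNormalized P) : F.IsReceptive P :=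
  receptive_of_fullyCentralized hS hF (fullyCentralized_of_fullyNormalized hS hF hP)

/-- In a saturated system any subgroup has a map from its normalizer into the normalizer of any
fully normalized conjugate. -/
theorem exists_map_to_fullyNormalized (hS : IsPGroup p S) (hF : F.IsSaturated p)
    {P Q : Subgroup Ω} (hQ : F.IsFullyNormalized Q) (h : F.IsConj P Q) :
    ∃ f, IsMap F (normalizerIn S P) f ∧ fimg f P = Q ∧
      ∀ x ∈ normalizerIn S P, f x ∈ normalizerIn S Q :=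
  exists_map_normalizerIn hS (fullyAutomized_of_fullyNormalized hS hF hQ)
    (receptive_of_fullyNormalized hS hF hQ) h

end Saturated

theorem normalizerIn_self (S : Subgroup Ω) : normalizerIn S S = S :=
  le_antisymm inf_le_left (le_inf le_rfl Subgroup.le_normalizer)

theorem fimg_eq_self_of_source_top [Finite S] {f : Ω → Ω} (hf : IsMap F S f) : fimg f S = S :=
  Subgroup.eq_of_le_of_card_ge hf.fimg_le_S hf.card_fimg.ge

theorem eq_top_of_isConj [Finite S] {Q : Subgroup Ω} (h : F.IsConj S Q) : Q = S := by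
  obtain ⟨f, hf, rfl⟩ := isConj_iff.1 h
  exact fimg_eq_self_of_source_top hf

theorem lt_normalizerIn [Finite S] {p : ℕ} [Fact p.Prime] (hS : IsPGroup p S) {P : Subgroup Ω}
    (hP : P < S) : P < normalizerIn S P := by
  refine lt_of_le_of_ne (le_normalizerIn hP.le) fun heq => ?_
  haveI := hS.isNilpotent
  have hlt : P.subgroupOf S < ⊤ := by
    rw [lt_top_iff_ne_top, Ne, Subgroup.subgroupOf_eq_top]
    exact fun h => hP.ne (le_antisymm hP.le h)
  have := Group.normalizerCondition_of_isNilpotent (P.subgroupOf S) hlt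
  obtain ⟨-, g, hg, hgP⟩ := SetLike.lt_iff_le_and_exists.1 this
  refine hgP (Subgroup.mem_subgroupOf.2 (heq ▸ ⟨g.2, ?_⟩))
  refine mem_normalizer_of_forall (fun x hx => ?_) fun x hx => ?_
  · exact Subgroup.mem_subgroupOf.1
      ((Subgroup.mem_normalizer_iff.1 hg ⟨x, hP.le hx⟩).1 (Subgroup.mem_subgroupOf.2 hx))
  · have := Subgroup.mem_subgroupOf.1
      ((Subgroup.mem_normalizer_iff.1 (Subgroup.inv_mem _ hg) ⟨x, hP.le hx⟩).1
        (Subgroup.mem_subgroupOf.2 hx))
    simpa using this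

theorem eq_top_or_lt {P : Subgroup Ω} (hP : P ≤ S) : P = S ∨ P < S :=
  hP.eq_or_lt

theorem card_lt_of_lt {H K : Subgroup Ω} [Finite K] (h : H < K) : Nat.card H < Nat.card K := by
  refine lt_of_le_of_ne (Subgroup.card_le_of_le h.le) fun he => h.ne ?_
  exact Subgroup.eq_of_le_of_card_ge h.le he.ge

theorem autFun_pow_eq {P N : Subgroup Ω} (hPN : P ≤ N) {α : MulAut P} {β : MulAut N}
    (h : ∀ x ∈ P, autFun β x = autFun α x) (j : ℕ) :
    ∀ x ∈ P, autFun (β ^ j) x = autFun (α ^ j) x := by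
  induction j with
  | zero => intro x hx; rw [pow_zero, pow_zero, autFun_one (hPN hx), autFun_one hx]
  | succ j ih =>
    intro x hx
    rw [pow_succ, pow_succ, autFun_mul _ _ (hPN hx), autFun_mul _ _ hx, h x hx,
      ih _ (autFun_mem α hx)]

theorem exists_fullyAutomized_step [Finite S] {p : ℕ} [Fact p.Prime] (hS : IsPGroup p S)
    {P : Subgroup Ω} (hPn : F.IsFullyNormalized P) (hPS : P < S) (hPr : F.IsReceptive P)
    (hbig : ∀ Q, F.IsFullyNormalized Q → Nat.card P < Nat.card Q →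
      F.IsFullyAutomized p Q) : F.IsFullyAutomized p P := by
  have hP := hPn.1
  haveI := finite_of_le hP
  refine ⟨hP, ?_⟩
  let A : Subgroup (F.autGroup P) := (autInducedBy S P).subgroupOf (F.autGroup P)
  have hA : IsPGroup p A := IsPGroup.comap_subtype (isPGroup_autInducedBy hS P)
  obtain ⟨R, hR⟩ := hA.exists_le_sylow
  refine ⟨R, ?_⟩
  by_contra hne
  obtain ⟨-, α, hα, hαA⟩ := SetLike.lt_iff_le_and_exists.1
    (lt_normalizerIn (S := (R : Subgroup (F.autGroup P))) R.2 (lt_of_le_of_ne hR (Ne.symm hne)))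
  have hPN := le_normalizerIn (S := S) hP
  have hαm : IsMap F P (autFun (α : MulAut P)) := (mem_autGroup hP).1 α.2
  obtain ⟨f, hf, hfe⟩ := receptive_extend hPr hαm (fimg_autFun _) (N := normalizerIn S P) (by
    intro g hg
    refine ⟨hg, ?_⟩
    have hc : P.normalizerMonoidHom ⟨g, hg.2⟩ ∈ autInducedBy S P :=
      mem_autInducedBy.2 ⟨g, hg.1, fun x => rfl⟩
    let c : F.autGroup P := ⟨_, autInducedBy_le_autGroup F hP hc⟩
    have h1 : α * c * α⁻¹ ∈ A := (Subgroup.mem_normalizer_iff.1 hα.2 c).1 hc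
    obtain ⟨k, hk, hke⟩ := mem_autInducedBy.1 (show (α : MulAut P) * c * (α : MulAut P)⁻¹ ∈
      autInducedBy S P from h1)
    refine ⟨k, hk, fun x hx => ?_⟩
    have h2 := hke ((α : MulAut P) ⟨x, hx⟩)
    simp only [MulAut.mul_apply, MulAut.inv_apply_self] at h2
    have hgx := (Subgroup.mem_normalizer_iff.1 hg.2 x).1 hx
    have h3 : autFun (α : MulAut P) (g * x * g⁻¹) = ((α : MulAut P) ⟨_, hgx⟩ : P) :=
      autFun_coe _ ⟨_, hgx⟩
    rw [h3, show autFun (α : MulAut P) x = ((α : MulAut P) ⟨x, hx⟩ : P) from autFun_coe _ ⟨x, hx⟩,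
      ← h2]
    congr 2) hPN
  have hfP : fimg f P = P := (fimg_congr hfe).trans (fimg_autFun _)
  have hfN : fimg f (normalizerIn S P) = normalizerIn S P := by
    haveI : Finite ↥(normalizerIn S P) := finite_of_le (S := S) inf_le_left
    refine Subgroup.eq_of_le_of_card_ge (fimg_le fun x hx => ?_) hf.card_fimg.ge
    have := hf.map_normalizerIn hPN hx hx.2
    rwa [hfP] at this
  obtain ⟨β, hβ, hβe⟩ := hf.exists_aut hfN
  haveI : Finite ↥(normalizerIn S P) := finite_of_le (S := S) inf_le_left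
  have hres : ∀ x ∈ P, autFun β x = autFun (α : MulAut P) x := fun x hx =>
    (hβe x (hPN hx)).trans (hfe x hx)
  obtain ⟨a, m, hm, hord⟩ :=
    Nat.exists_eq_pow_mul_and_not_dvd (orderOf_pos β).ne' p (Fact.out : p.Prime).ne_one
  have hγord : (β ^ m) ^ p ^ a = 1 := by
    rw [← pow_mul, mul_comm, ← hord, pow_orderOf_eq_one]
  have hαmA : α ^ m ∉ A := by
    obtain ⟨k, hk⟩ := R.2 ⟨α, hα.1⟩
    have hk' : α ^ p ^ k = 1 := congrArg Subtype.val hk
    have hcop : m.Coprime (orderOf α) := by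
      refine Nat.Coprime.coprime_dvd_right (orderOf_dvd_of_pow_eq_one hk') ?_
      exact Nat.Coprime.pow_right k
        (((Fact.out : p.Prime).coprime_iff_not_dvd.2 hm).symm)
    obtain ⟨j, hj⟩ := exists_pow_eq_self_of_coprime hcop
    exact fun h => hαA (hj ▸ A.pow_mem h j)
  -- transport `β ^ m` to a fully normalized conjugate of `N_S(P)`
  obtain ⟨N', hN', hN'n⟩ :=
    exists_fullyNormalized F (P := normalizerIn S P) inf_le_left
  obtain ⟨θ, hθ, hθN⟩ := isConj_iff.1 hN'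
  have hlt : Nat.card P < Nat.card N' := by
    rw [isConj_card hN']
    exact card_lt_of_lt (lt_normalizerIn hS hPS)
  obtain ⟨hN'S, R', hR'⟩ := hbig N' hN'n hlt
  haveI := finite_of_le hN'S
  obtain ⟨e, he, heA⟩ := exists_mulEquiv hθ hθN
  have hβm : β ^ m ∈ F.autGroup (normalizerIn S P) := Subgroup.pow_mem _ hβ m
  let γ' : F.autGroup N' := ⟨MulAut.congr e (β ^ m), (heA _).1 hβm⟩
  have hγ'p : IsPGroup p (Subgroup.zpowers γ') := by
    refine IsPGroup.of_card_dvd_pow (n := a) ?_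
    rw [Nat.card_zpowers]
    refine orderOf_dvd_of_pow_eq_one (Subtype.ext ?_)
    show (MulAut.congr e (β ^ m)) ^ p ^ a = 1
    rw [← map_pow (MulAut.congr e), hγord, map_one]
  obtain ⟨T, hT⟩ := hγ'p.exists_le_sylow
  obtain ⟨b, hb⟩ := MulAction.exists_smul_eq (F.autGroup N') T R'
  have hbR : b * γ' * b⁻¹ ∈ (R' : Subgroup (F.autGroup N')) := by
    rw [← hb]
    exact ⟨γ', hT (Subgroup.mem_zpowers γ'), rfl⟩
  rw [hR', Subgroup.mem_subgroupOf] at hbR
  obtain ⟨y, hy, hye⟩ := mem_autInducedBy.1 hbR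
  let θ' : Ω → Ω := fun x => autFun (b : MulAut N') (θ x)
  have hθ' : IsMap F (normalizerIn S P) θ' :=
    hθ.comp ((mem_autGroup hN'S).1 b.2) fun x hx => hθN ▸ apply_mem_fimg θ hx
  have hθ'N : fimg θ' (normalizerIn S P) = N' := by
    rw [show θ' = fun x => autFun (b : MulAut N') (θ x) from rfl, hθ.fimg_comp, hθN, fimg_autFun]
  have hkey : ∀ x ∈ normalizerIn S P, θ' (autFun (β ^ m) x) = y * θ' x * y⁻¹ := by
    intro x hx
    have h1 := hye ((b : MulAut N') (e ⟨x, hx⟩))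
    have h2 : θ' x = ((b : MulAut N') (e ⟨x, hx⟩) : N') := by
      show autFun _ _ = _
      rw [← autFun_coe, he]
    have h3 : θ' (autFun (β ^ m) x) = ((b : MulAut N') (e ((β ^ m) ⟨x, hx⟩)) : N') := by
      show autFun _ _ = _
      rw [← autFun_coe (b : MulAut N'), he, ← autFun_coe]
    rw [h3, h2]
    refine Eq.trans ?_ h1
    simp [γ', MulAut.congr]
  have hβmP : ∀ x ∈ P, autFun (β ^ m) x = autFun (((α ^ m : F.autGroup P) : MulAut P)) x := by
    intro x hx
    rw [SubgroupClass.coe_pow]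
    exact autFun_pow_eq hPN hres m x hx
  have hyn : y ∈ normalizerIn S (fimg θ' P) := by
    refine ⟨hy, mem_normalizer_of_forall ?_ ?_⟩ <;> intro z hz <;>
      obtain ⟨x, hx, rfl⟩ := (hθ'.res hPN).mem_fimg_iff.1 hz
    · rw [← hkey x (hPN hx), hβmP x hx]
      exact apply_mem_fimg θ' (autFun_mem _ hx)
    · let x' : Ω := autFun (((α ^ m : F.autGroup P) : MulAut P))⁻¹ x
      have hx' : x' ∈ P := autFun_mem _ hx
      have := hkey x' (hPN hx')
      rw [hβmP x' hx', ← autFun_mul _ _ hx, mul_inv_cancel, autFun_one hx] at this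
      rw [this, show y⁻¹ * (y * θ' x' * y⁻¹) * y = θ' x' by group]
      exact apply_mem_fimg θ' hx'
  have hN'eq : N' = normalizerIn S (fimg θ' P) := by
    haveI : Finite ↥(normalizerIn S (fimg θ' P)) := finite_of_le (S := S) inf_le_left
    refine Subgroup.eq_of_le_of_card_ge ?_ ?_
    · rw [← hθ'N]
      exact fimg_le fun x hx => hθ'.map_normalizerIn hPN hx hx.2
    · rw [← hθ'N, hθ'.card_fimg]
      exact hPn.2 _ (hθ'.res hPN).isConj
  obtain ⟨n, hn, hny⟩ := hθ'.mem_fimg_iff.1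
    (show y ∈ fimg θ' (normalizerIn S P) by rw [hθ'N, hN'eq]; exact hyn)
  refine hαmA (Subgroup.mem_subgroupOf.2 (mem_autInducedBy.2 ⟨n, hn.1, fun x => ?_⟩))
  have h1 := hkey x (hPN x.2)
  rw [← hny, ← hθ'.map_conj hn (hPN x.2), hβmP x x.2, autFun_coe] at h1
  exact hθ'.injOn (hPN (SetLike.coe_mem _))
    (Subgroup.mul_mem _ (Subgroup.mul_mem _ hn (hPN x.2)) (Subgroup.inv_mem _ hn)) h1

/-- If `S` is fully automized and fully normalized subgroups are receptive, the system is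
saturated. -/
theorem saturated_of_receptive [Finite S] {p : ℕ} [Fact p.Prime] (hS : IsPGroup p S)
    (h₁ : F.IsFullyAutomized p S) (h₂ : ∀ P, F.IsFullyNormalized P → F.IsReceptive P) :
    F.IsSaturated p := by
  have key : ∀ n, ∀ P : Subgroup Ω, Nat.card S - Nat.card P = n → F.IsFullyNormalized P →
      F.IsFullyAutomized p P := by
    intro n
    induction n using Nat.strong_induction_on with
    | _ n ih =>
      intro P hn hP
      rcases hP.1.eq_or_lt with rfl | hlt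
      · exact h₁
      refine exists_fullyAutomized_step hS hP hlt (h₂ P hP) fun Q hQ hcard => ?_
      have := Subgroup.card_le_of_le hQ.1
      exact ih _ (by omega) Q rfl hQ
  intro P hP
  obtain ⟨Q, hQ, hQn⟩ := exists_fullyNormalized F hP
  exact ⟨Q, hQ, key _ Q rfl hQn, h₂ Q hQn⟩

theorem fullyNormalized_self [Finite S] (F : FusionSystem S) : F.IsFullyNormalized S :=
  ⟨le_rfl, fun Q _ => by
    rw [normalizerIn_self]
    exact Subgroup.card_le_of_le inf_le_left⟩

end Cfsg.Agent.Fus
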