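import Mathlib
import Cfsg.Prelude.Def_PLocal
import Cfsg.Agent.Lib.Grp.Basic
import Cfsg.Agent.Lib.Fus.Normal
import Cfsg.Agent.Lib.Fus.Saturation

/-!
Thompson's replacement lemma and quadratic elements outside the kernel on an abelian normal
subgroup when it does not contain the Thompson subgroup (abelian version).
-/

set_option autoImplicit false
set_option linter.style.haveILetI false

open scoped Classical

namespace Cfsg.Agent.Fus

open Subgroup

variable {Ω : Type*} [Group Ω]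

/-- `x` acts quadratically on `V` with trivial `p`-th power. -/
def IsQuad (p : ℕ) (x : Ω) (V : Subgroup Ω) : Prop :=
  ∀ v ∈ V, x ^ p * v = v * x ^ p ∧
    x * (x * v * x⁻¹ * v⁻¹) * x⁻¹ = x * v * x⁻¹ * v⁻¹

theorem IsQuad.mono {p : ℕ} {x : Ω} {V W : Subgroup Ω} (h : IsQuad p x V) (hW : W ≤ V) :
    IsQuad p x W := fun v hv => h v (hW hv)

/-- A quadratic element fixes the `p`-th powers. -/
theorem IsQuad.conj_pow_eq {p : ℕ} {x : Ω} {V : Subgroup Ω} (h : IsQuad p x V)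
    (hc : ∀ a ∈ V, ∀ b ∈ V, a * b = b * a) (hxV : ∀ a ∈ V, x * a * x⁻¹ ∈ V) {v : Ω}
    (hv : v ∈ V) : x * v ^ p * x⁻¹ = v ^ p := by
  obtain ⟨h1, h2⟩ := h v hv
  set w := x * v * x⁻¹ * v⁻¹ with hw
  have hwV : w ∈ V := V.mul_mem (hxV v hv) (V.inv_mem hv)
  have hwv : Commute w v := hc w hwV v hv
  have hxv : x * v * x⁻¹ = w * v := by rw [hw]; group
  have hk : ∀ k : ℕ, x ^ k * v * (x ^ k)⁻¹ = w ^ k * v := by
    intro k
    induction k with
    | zero => simp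
    | succ k ih =>
      have hwk : x * w ^ k * x⁻¹ = w ^ k := by rw [← conj_pow, h2]
      calc x ^ (k + 1) * v * (x ^ (k + 1))⁻¹ = x * (x ^ k * v * (x ^ k)⁻¹) * x⁻¹ := by
            rw [pow_succ']; group
        _ = x * w ^ k * x⁻¹ * (x * v * x⁻¹) := by rw [ih]; group
        _ = w ^ (k + 1) * v := by rw [hwk, hxv, pow_succ w k]; exact (mul_assoc _ _ _).symm

  have hwp : w ^ p = 1 := by
    have := hk p
    rw [h1, mul_inv_cancel_right] at this
    exact mul_eq_right.1 this.symm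
  rw [← conj_pow, hxv, hwv.mul_pow, hwp, one_mul]

theorem thompsonA_le (R : Subgroup Ω) : thompsonSubgroupAOf R ≤ R := Subgroup.map_subtype_le _

/-- An abelian subgroup of `R` of largest order. -/
def IsMaxAb (R A : Subgroup Ω) : Prop :=
  A ≤ R ∧ (∀ x ∈ A, ∀ y ∈ A, x * y = y * x) ∧
    ∀ B : Subgroup Ω, B ≤ R → (∀ x ∈ B, ∀ y ∈ B, x * y = y * x) → Nat.card B ≤ Nat.card A

theorem isMaxAb_iff {R A : Subgroup Ω} :
    IsMaxAb R A ↔ A ≤ R ∧ A.subgroupOf R ∈ maxAbelianSubgroups R := by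
  refine ⟨fun ⟨h1, h2, h3⟩ => ⟨h1, ⟨⟨fun a b => ?_⟩⟩, fun B hB => ?_⟩,
    fun ⟨h1, h2, h3⟩ => ⟨h1, fun x hx y hy => ?_, fun B hB hc => ?_⟩⟩
  · exact Subtype.ext (Subtype.ext (h2 _ a.2 _ b.2))
  · rw [Nat.card_congr (Subgroup.subgroupOfEquivOfLe h1).toEquiv,
      ← Subgroup.card_map_of_injective R.subtype_injective (K := B)]
    refine h3 _ (Subgroup.map_subtype_le B) ?_
    rintro _ ⟨a, ha, rfl⟩ _ ⟨b, hb, rfl⟩
    exact congrArg (fun z : B => ((z : R) : Ω)) (hB.is_comm.comm ⟨a, ha⟩ ⟨b, hb⟩)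
  · exact congrArg (fun z : A.subgroupOf R => ((z : R) : Ω))
      (h2.is_comm.comm ⟨⟨x, h1 hx⟩, hx⟩ ⟨⟨y, h1 hy⟩, hy⟩)
  · rw [← Nat.card_congr (Subgroup.subgroupOfEquivOfLe h1).toEquiv,
      ← Nat.card_congr (Subgroup.subgroupOfEquivOfLe hB).toEquiv]
    exact h3 _ ⟨⟨fun a b => Subtype.ext (Subtype.ext (hc _ a.2 _ b.2))⟩⟩

theorem IsMaxAb.le_thompsonA {R A : Subgroup Ω} (h : IsMaxAb R A) : A ≤ thompsonSubgroupAOf R := by
  obtain ⟨h1, h2⟩ := isMaxAb_iff.1 h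
  refine le_trans (le_of_eq ?_)
    (Subgroup.map_mono (f := R.subtype) (le_sSup h2 : A.subgroupOf R ≤ thompsonSubgroupA R))
  rw [Subgroup.subgroupOf_map_subtype, inf_eq_left.2 h1]

theorem thompsonA_le_of {R K : Subgroup Ω} (h : ∀ A, IsMaxAb R A → A ≤ K) :
    thompsonSubgroupAOf R ≤ K := by
  rw [thompsonSubgroupAOf, Subgroup.map_le_iff_le_comap]
  refine sSup_le fun A hA => Subgroup.map_le_iff_le_comap.1 (h _ (isMaxAb_iff.2
    ⟨Subgroup.map_subtype_le A, ?_⟩))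
  rwa [Subgroup.subgroupOf, Subgroup.comap_map_eq_self_of_injective R.subtype_injective]

/-- Maps of the system permute the abelian subgroups of largest order. -/
theorem IsMap.map_thompsonA {S R K : Subgroup Ω} {F : FusionSystem S} [Finite R] {f : Ω → Ω}
    (hf : IsMap F K f) (hJ : thompsonSubgroupAOf R ≤ K)
    (hR : ∀ x ∈ thompsonSubgroupAOf R, f x ∈ R) :
    fimg f (thompsonSubgroupAOf R) = thompsonSubgroupAOf R := by
  have hle : thompsonSubgroupAOf R ≤ Subgroup.closure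
      {x | x ∈ K ∧ f x ∈ thompsonSubgroupAOf R} := by
    refine thompsonA_le_of fun A hA x hx => Subgroup.subset_closure ?_
    have hAK : A ≤ K := hA.le_thompsonA.trans hJ
    refine ⟨hAK hx, IsMaxAb.le_thompsonA (A := fimg f A) ⟨fimg_le fun y hy =>
      hR y (hA.le_thompsonA hy), ?_, ?_⟩ (apply_mem_fimg f hx)⟩
    · intro u hu v hv
      obtain ⟨a, ha, rfl⟩ := (hf.res hAK).mem_fimg_iff.1 hu
      obtain ⟨b, hb, rfl⟩ := (hf.res hAK).mem_fimg_iff.1 hv
      rw [← hf.map_mul (hAK ha) (hAK hb), hA.2.1 a ha b hb, hf.map_mul (hAK hb) (hAK ha)]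
    · intro B hB hc
      rw [(hf.res hAK).card_fimg]
      exact hA.2.2 B hB hc
  haveI : Finite ↥(thompsonSubgroupAOf R) := finite_of_le (S := R) (thompsonA_le R)
  refine Subgroup.eq_of_le_of_card_ge (fimg_le fun x hx => ?_) (hf.res hJ).card_fimg.ge
  suffices x ∈ K ∧ f x ∈ thompsonSubgroupAOf R from this.2
  have hx' := hle hx
  clear hx
  induction hx' using Subgroup.closure_induction with
  | mem y hy => exact hy
  | one => exact ⟨K.one_mem, by rw [hf.map_one]; exact one_mem _⟩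
  | mul a b _ _ iha ihb =>
    exact ⟨K.mul_mem iha.1 ihb.1, by rw [hf.map_mul iha.1 ihb.1]; exact mul_mem iha.2 ihb.2⟩
  | inv a _ iha => exact ⟨K.inv_mem iha.1, by rw [hf.map_inv iha.1]; exact inv_mem iha.2⟩

/-- A subgroup centralising `J(R)` lies in it. -/
theorem centralizer_thompsonA_le {R : Subgroup Ω} [Finite R] :
    R ⊓ Subgroup.centralizer (thompsonSubgroupAOf R : Set Ω) ≤ thompsonSubgroupAOf R := by
  obtain ⟨hfin, hne⟩ : {A : Subgroup Ω | A ≤ R ∧ ∀ x ∈ A, ∀ y ∈ A, x * y = y * x}.Finite ∧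
      {A : Subgroup Ω | A ≤ R ∧ ∀ x ∈ A, ∀ y ∈ A, x * y = y * x}.Nonempty :=
    ⟨(finite_subgroups_le (S := R)).subset fun A hA => hA.1, ⊥, bot_le, by simp⟩
  obtain ⟨A, ⟨hA1, hA2⟩, hA3⟩ := Set.exists_max_image _ (fun A : Subgroup Ω => Nat.card A) hfin hne
  have hA : IsMaxAb R A := ⟨hA1, hA2, fun B hB hc => hA3 B ⟨hB, hc⟩⟩
  rintro x ⟨hxR, hxc⟩
  have hle : Subgroup.closure ((A : Set Ω) ∪ {x}) ≤ R :=
    (Subgroup.closure_le R).2 (Set.union_subset hA1 (Set.singleton_subset_iff.2 hxR))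
  have hcomm : ∀ u ∈ Subgroup.closure ((A : Set Ω) ∪ {x}),
      ∀ v ∈ Subgroup.closure ((A : Set Ω) ∪ {x}), u * v = v * u := by
    have hg : ∀ u ∈ (A : Set Ω) ∪ {x}, ∀ v ∈ (A : Set Ω) ∪ {x}, u * v = v * u := by
      rintro u (hu | rfl) v (hv | rfl)
      · exact hA2 u hu v hv
      · exact Subgroup.mem_centralizer_iff.1 hxc u (hA.le_thompsonA hu)
      · exact (Subgroup.mem_centralizer_iff.1 hxc v (hA.le_thompsonA hv)).symm
      · rfl
    intro u hu v hv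
    have h1 : ∀ w ∈ (A : Set Ω) ∪ {x}, u * w = w * u := fun w hw => by
      induction hu using Subgroup.closure_induction with
      | mem y hy => exact hg y hy w hw
      | one => simp
      | mul a b _ _ iha ihb => rw [mul_assoc, ihb, ← mul_assoc, iha, mul_assoc]
      | inv a _ iha => exact (Commute.inv_left iha).eq
    induction hv using Subgroup.closure_induction with
    | mem y hy => exact h1 y hy
    | one => simp
    | mul a b _ _ iha ihb => rw [← mul_assoc, iha, mul_assoc, ihb, mul_assoc]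
    | inv a _ iha => exact (Commute.inv_right iha).eq
  haveI := finite_of_le hle
  have heq := Subgroup.eq_of_le_of_card_ge (H := A) (K := Subgroup.closure ((A : Set Ω) ∪ {x}))
    (fun a ha => Subgroup.subset_closure (Or.inl ha)) (hA.2.2 _ hle hcomm)
  exact hA.le_thompsonA (heq ▸ Subgroup.subset_closure (Or.inr rfl))

/-- Thompson's replacement lemma. -/
theorem thompson_replacement {p : ℕ} [Fact p.Prime] {R A V : Subgroup Ω} [Finite R]
    (hRp : IsPGroup p R) (hAR : A ≤ R) (hVR : V ≤ R)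
    (hAc : ∀ x ∈ A, ∀ y ∈ A, x * y = y * x) (hVc : ∀ x ∈ V, ∀ y ∈ V, x * y = y * x)
    (hAV : A ≤ Subgroup.normalizer (V : Set Ω)) (hVA : ¬ V ≤ Subgroup.normalizer (A : Set Ω)) :
    ∃ B : Subgroup Ω, B ≤ R ∧ (∀ x ∈ B, ∀ y ∈ B, x * y = y * x) ∧ Nat.card A ≤ Nat.card B ∧
      A ⊓ V < B ⊓ V ∧ B ≤ Subgroup.normalizer (A : Set Ω) := by
  set N := V ⊓ Subgroup.normalizer (A : Set Ω) with hN
  have hcV : ∀ {a v : Ω}, a ∈ A → v ∈ V → a * v * a⁻¹ ∈ V := fun {a v} ha hv =>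
    (Subgroup.mem_normalizer_iff.1 (hAV ha) v).1 hv
  have hAN : ∀ {a n : Ω}, a ∈ A → n ∈ N → a * n * a⁻¹ ∈ N := fun {a n} ha hn =>
    ⟨hcV ha hn.1, mul_mem (mul_mem (Subgroup.le_normalizer ha) hn.2)
      (Subgroup.inv_mem _ (Subgroup.le_normalizer ha))⟩
  have hIN : A ⊓ V ≤ N := fun x hx => ⟨hx.2, Subgroup.le_normalizer hx.1⟩
  -- an element moving `A` inside `A N`
  obtain ⟨v, hvV, hvN, hd⟩ : ∃ v ∈ V, v ∉ N ∧ ∀ a ∈ A, a * v * a⁻¹ * v⁻¹ ∈ N := by
    have hYX : N ⊔ A < A ⊔ V := by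
      refine lt_of_le_of_ne (sup_le (inf_le_left.trans le_sup_right) le_sup_left) fun e => hVA ?_
      intro u hu
      have h1 : u ∈ N ⊔ A := e ▸ Subgroup.mem_sup_right hu
      rw [← SetLike.mem_coe,
        Subgroup.coe_mul_of_left_le_normalizer_right N A inf_le_right] at h1
      obtain ⟨n, hn, a, ha, rfl⟩ := h1
      have haV : a ∈ V := (V.mul_mem_cancel_left hn.1).1 hu
      exact (N.mul_mem hn (hIN ⟨ha, haV⟩)).2
    have hXR : A ⊔ V ≤ R := sup_le hAR hVR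
    haveI := finite_of_le hXR
    obtain ⟨w, hw, hwY⟩ :=
      SetLike.lt_iff_le_and_exists.1 (lt_normalizerIn (hRp.to_le hXR) hYX) |>.2
    have hwn : w ∈ Subgroup.normalizer ((N ⊔ A : Subgroup Ω) : Set Ω) := hw.2
    have hwX : w ∈ A ⊔ V := hw.1
    rw [← SetLike.mem_coe, Subgroup.coe_mul_of_left_le_normalizer_right A V hAV] at hwX
    obtain ⟨a, ha, v, hv, rfl⟩ := hwX
    have haY : a ∈ N ⊔ A := Subgroup.mem_sup_right ha
    have hvn : v ∈ Subgroup.normalizer ((N ⊔ A : Subgroup Ω) : Set Ω) := by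
      rw [show v = a⁻¹ * (a * v) by group]
      exact mul_mem (inv_mem (Subgroup.le_normalizer haY)) hwn
    refine ⟨v, hv, fun h => hwY (mul_mem haY (Subgroup.mem_sup_left h)), fun b hb => ?_⟩
    have hbY : b ∈ N ⊔ A := Subgroup.mem_sup_right hb
    have h1 : b * v * b⁻¹ * v⁻¹ ∈ N ⊔ A := by
      rw [show b * v * b⁻¹ * v⁻¹ = b * (v * b⁻¹ * v⁻¹) by group]
      exact mul_mem hbY ((Subgroup.mem_normalizer_iff.1 hvn _).1 (inv_mem hbY))
    have h2 : b * v * b⁻¹ * v⁻¹ ∈ V := V.mul_mem (hcV hb hv) (V.inv_mem hv)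
    rw [← SetLike.mem_coe, Subgroup.coe_mul_of_left_le_normalizer_right N A inf_le_right] at h1
    obtain ⟨n, hn, c, hc, e⟩ := h1
    have e : n * c = b * v * b⁻¹ * v⁻¹ := e
    have hcV' : c ∈ V := (V.mul_mem_cancel_left hn.1).1 (e.symm ▸ h2)
    rw [← e]
    exact N.mul_mem hn (hIN ⟨hc, hcV'⟩)
  set M := (A ⊓ V) ⊔ Subgroup.closure {y | ∃ a ∈ A, y = a * v * a⁻¹ * v⁻¹} with hM
  have hMN : M ≤ N := sup_le hIN
    ((Subgroup.closure_le N).2 fun y ⟨a, ha, e⟩ => e ▸ hd a ha)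
  have hdM : ∀ a ∈ A, a * v * a⁻¹ * v⁻¹ ∈ M := fun a ha =>
    Subgroup.mem_sup_right (Subgroup.subset_closure
      (show a * v * a⁻¹ * v⁻¹ ∈ {y | ∃ b ∈ A, y = b * v * b⁻¹ * v⁻¹} from ⟨a, ha, rfl⟩))
  set C := A ⊓ Subgroup.centralizer (M : Set Ω) with hC
  have hMV : M ≤ V := hMN.trans inf_le_left
  have hCM : C ≤ Subgroup.centralizer (M : Set Ω) := inf_le_right
  have hCn : C ≤ Subgroup.normalizer (M : Set Ω) :=
    hCM.trans (Subgroup.centralizer_le_normalizer _)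
  refine ⟨C ⊔ M, sup_le (inf_le_left.trans hAR) (hMV.trans hVR), ?_, ?_, ?_,
    sup_le (inf_le_left.trans Subgroup.le_normalizer) (hMN.trans inf_le_right)⟩
  · intro x hx y hy
    rw [← SetLike.mem_coe, Subgroup.coe_mul_of_left_le_normalizer_right C M hCn] at hx hy
    obtain ⟨c, hc, m, hm, rfl⟩ := hx
    obtain ⟨c', hc', m', hm', rfl⟩ := hy
    have e1 : Commute c c' := hAc c hc.1 c' hc'.1
    have e2 : Commute m m' := hVc m (hMV hm) m' (hMV hm')
    have e3 : Commute m c' := Subgroup.mem_centralizer_iff.1 (hCM hc') m hm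
    have e4 : Commute m' c := Subgroup.mem_centralizer_iff.1 (hCM hc) m' hm'
    exact ((e1.mul_right e4.symm).mul_left (e3.mul_right e2)).eq
  · -- orders
    haveI := finite_of_le (S := R) hAR
    haveI := finite_of_le (S := R) (hMV.trans hVR)
    set W := A ⊓ V with hW
    have hkey : ∀ a ∈ A, ∀ b ∈ A,
        (a * v * a⁻¹ * v⁻¹)⁻¹ * (b * v * b⁻¹ * v⁻¹) ∈ W → a⁻¹ * b ∈ C := by
      intro a ha b hb hw
      refine ⟨A.mul_mem (A.inv_mem ha) hb, ?_⟩
      show a⁻¹ * b ∈ Subgroup.centralizer (M : Set Ω)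
      have hab : a⁻¹ * b ∈ A := A.mul_mem (A.inv_mem ha) hb
      rw [hM, ← Subgroup.closure_eq W, ← Subgroup.closure_union,
        Subgroup.centralizer_closure, Subgroup.mem_centralizer_iff]
      rintro y (hy | ⟨c, hc, rfl⟩)
      · exact hAc y hy.1 _ hab
      set w := (a * v * a⁻¹ * v⁻¹)⁻¹ * (b * v * b⁻¹ * v⁻¹) with hwdef
      have hav : a * v * a⁻¹ ∈ V := hcV ha hvV
      have hbv : b * v * b⁻¹ = w * (a * v * a⁻¹) := by
        rw [show b * v * b⁻¹ = (a * v * a⁻¹ * v⁻¹) * w * v by rw [hwdef]; group,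
          hVc _ (V.mul_mem hav (V.inv_mem hvV)) w hw.2]
        group
      have hcw : c * w = w * c := hAc c hc w hw.1
      have hact : ∀ e ∈ A, e * (c * v * c⁻¹ * v⁻¹) * e⁻¹ =
          c * (e * v * e⁻¹) * c⁻¹ * (e * v * e⁻¹)⁻¹ := fun e he => by
        have : e * c = c * e := hAc e he c hc
        calc e * (c * v * c⁻¹ * v⁻¹) * e⁻¹ = (e * c) * v * (e * c)⁻¹ * (e * v * e⁻¹)⁻¹ := by group
          _ = c * (e * v * e⁻¹) * c⁻¹ * (e * v * e⁻¹)⁻¹ := by rw [this]; group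
      have h : b * (c * v * c⁻¹ * v⁻¹) * b⁻¹ = a * (c * v * c⁻¹ * v⁻¹) * a⁻¹ := by
        rw [hact b hb, hact a ha, hbv]
        set u := a * v * a⁻¹ with hu
        have hcu : c * u * c⁻¹ * u⁻¹ ∈ V := V.mul_mem (hcV hc hav) (V.inv_mem hav)
        calc c * (w * u) * c⁻¹ * (w * u)⁻¹ = (c * w) * u * c⁻¹ * u⁻¹ * w⁻¹ := by group
          _ = w * (c * u * c⁻¹ * u⁻¹) * w⁻¹ := by rw [hcw]; group
          _ = c * u * c⁻¹ * u⁻¹ := by rw [hVc w hw.2 _ hcu, mul_inv_cancel_right]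
      calc c * v * c⁻¹ * v⁻¹ * (a⁻¹ * b)
          = a⁻¹ * (a * (c * v * c⁻¹ * v⁻¹) * a⁻¹) * b := by group
        _ = a⁻¹ * b * (c * v * c⁻¹ * v⁻¹) := by rw [← h]; group
    have hCA : C ≤ A := inf_le_left
    have hWM : W ≤ M := le_sup_left
    let φ : A → M ⧸ W.subgroupOf M := fun a => QuotientGroup.mk ⟨_, hdM a a.2⟩
    have hidx : Nat.card (A ⧸ C.subgroupOf A) ≤ Nat.card (M ⧸ W.subgroupOf M) := by
      refine Nat.card_le_card_of_injective (fun q => φ q.out) fun q₁ q₂ h => ?_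
      rw [← Quotient.out_eq q₁, ← Quotient.out_eq q₂]
      refine QuotientGroup.eq.2 ?_
      rw [Subgroup.mem_subgroupOf]
      have h' : φ q₁.out = φ q₂.out := h
      have h'' := QuotientGroup.eq.1 h'
      rw [Subgroup.mem_subgroupOf] at h''
      exact hkey _ (q₁.out).2 _ (q₂.out).2 h''
    have hA := Subgroup.card_eq_card_quotient_mul_card_subgroup (C.subgroupOf A)
    have hMc := Subgroup.card_eq_card_quotient_mul_card_subgroup (W.subgroupOf M)
    rw [Nat.card_congr (Subgroup.subgroupOfEquivOfLe hCA).toEquiv] at hA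
    rw [Nat.card_congr (Subgroup.subgroupOfEquivOfLe hWM).toEquiv] at hMc
    have hB := Grp.card_sup_mul_card_inf hCn
    have hCW : C ⊓ M = W := le_antisymm (fun x hx => ⟨hx.1.1, hMV hx.2⟩) fun x hx =>
      ⟨⟨hx.1, Subgroup.mem_centralizer_iff.2 fun m hm => hVc m (hMV hm) x hx.2⟩, hWM hx⟩
    rw [hCW, hMc] at hB
    haveI : Finite W := finite_of_le (S := R) (inf_le_left.trans hAR)
    refine hA.le.trans ((Nat.mul_le_mul_right _ hidx).trans (le_of_eq ?_))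
    refine mul_right_cancel₀ (Nat.card_pos (α := W)).ne' ?_
    rw [hB]
    ring
  · refine lt_of_lt_of_le ?_ (le_inf le_sup_right hMV : M ≤ (C ⊔ M) ⊓ V)
    refine lt_of_le_of_ne le_sup_left fun e => hvN ⟨hvV, ?_⟩
    haveI := finite_of_le (S := R) hAR
    refine mem_normalizer_of_forall (fun a ha => ?_) fun a ha => ?_
    · have h1 : a⁻¹ * v * a * v⁻¹ ∈ A := by
        have := (e.symm ▸ hdM a⁻¹ (A.inv_mem ha) : a⁻¹ * v * a⁻¹⁻¹ * v⁻¹ ∈ A ⊓ V).1
        rwa [inv_inv] at this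
      rw [show v * a * v⁻¹ = a * (a⁻¹ * v * a * v⁻¹) by group]
      exact A.mul_mem ha h1
    · have h1 : a * v * a⁻¹ * v⁻¹ ∈ A ⊓ V := e.symm ▸ hdM a ha
      rw [show v⁻¹ * a * v = (v⁻¹ * (a * v * a⁻¹ * v⁻¹) * v) * a by group,
        hVc v⁻¹ (V.inv_mem hvV) _ h1.2, inv_mul_cancel_right]
      exact A.mul_mem h1.1 ha

/-- If there is no quadratic element outside `U`, the Thompson subgroup lies in `U`. -/
theorem exists_quad_or_thompsonA_le {p : ℕ} [Fact p.Prime] {R U V : Subgroup Ω} [Finite R]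
    (hRp : IsPGroup p R) (hVR : V ≤ R) (hRV : R ≤ Subgroup.normalizer (V : Set Ω))
    (hVc : ∀ x ∈ V, ∀ y ∈ V, x * y = y * x) (hUV : U ≤ Subgroup.centralizer (V : Set Ω)) :
    (∃ x ∈ R, x ∉ U ∧ IsQuad p x V) ∨ thompsonSubgroupAOf R ≤ U := by
  by_contra hne
  push Not at hne
  obtain ⟨hq, hJ⟩ := hne
  have hCV : ∀ x ∈ R, x ∈ Subgroup.centralizer (V : Set Ω) → x ∈ U := fun x hxR hxc => by
    by_contra hxU
    refine hq x hxR hxU fun v hv => ?_
    have h : Commute v x := Subgroup.mem_centralizer_iff.1 hxc v hv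
    refine ⟨(h.pow_right p).symm.eq, ?_⟩
    rw [← h.eq]
    group
  set s := {A : Subgroup Ω | IsMaxAb R A ∧ ¬ A ≤ U}
  have hsfin : s.Finite := (finite_subgroups_le (S := R)).subset fun A hA => hA.1.1
  have hsne : s.Nonempty := by
    by_contra h
    exact hJ (thompsonA_le_of fun A hA => by
      by_contra hAU
      exact h ⟨A, hA, hAU⟩)
  obtain ⟨A, hAs, hmax⟩ := Set.exists_max_image s (fun A : Subgroup Ω => Nat.card ↥(A ⊓ V)) hsfin hsne
  obtain ⟨hA, hAU⟩ := hAs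
  have hAV : A ≤ Subgroup.normalizer (V : Set Ω) := hA.1.trans hRV
  by_cases hVA : V ≤ Subgroup.normalizer (A : Set Ω)
  · obtain ⟨a, ha, haU⟩ := SetLike.not_le_iff_exists.1 hAU
    have hex : ∃ k : ℕ, a ^ p ^ k ∈ U := by
      obtain ⟨k, hk⟩ := hRp ⟨a, hA.1 ha⟩
      refine ⟨k, ?_⟩
      rw [show a ^ p ^ k = ((⟨a, hA.1 ha⟩ ^ p ^ k : R) : Ω) from rfl, hk]
      exact U.one_mem
    obtain ⟨k, hk⟩ : ∃ k, Nat.find hex = k + 1 := Nat.exists_eq_succ_of_ne_zero fun e => haU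
      (by have := Nat.find_spec hex; rwa [e, pow_zero, pow_one] at this)
    set x := a ^ p ^ k with hx
    have hxU : x ∉ U := Nat.find_min hex (by omega)
    have hxp : x ^ p ∈ U := by
      rw [hx, ← pow_mul, ← pow_succ, ← hk]; exact Nat.find_spec hex
    have hxA : x ∈ A := A.pow_mem ha _
    refine hq x (hA.1 hxA) hxU fun v hv => ⟨?_, ?_⟩
    · exact (Subgroup.mem_centralizer_iff.1 (hUV hxp) v hv).symm
    · have hw : x * v * x⁻¹ * v⁻¹ ∈ A := by
        rw [show x * v * x⁻¹ * v⁻¹ = x * (v * x⁻¹ * v⁻¹) by group]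
        exact A.mul_mem hxA ((Subgroup.mem_normalizer_iff.1 (hVA hv) _).1 (A.inv_mem hxA))
      rw [hA.2.1 x hxA _ hw, mul_inv_cancel_right]
  · obtain ⟨B, hBR, hBc, hcard, hlt, hBA⟩ :=
      thompson_replacement hRp hA.1 hVR hA.2.1 hVc hAV hVA
    have hB : IsMaxAb R B := ⟨hBR, hBc, fun C hC hc => (hA.2.2 C hC hc).trans hcard⟩
    haveI : Finite ↥(B ⊓ V) := finite_of_le (S := R) (inf_le_left.trans hBR)
    have hcl := card_lt_of_lt hlt
    have hBU : B ≤ U := by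
      by_contra hBU
      exact (hmax B ⟨hB, hBU⟩).not_gt hcl
    -- `B` then contains `V`
    have hBV : ∀ b ∈ B, ∀ v ∈ V, b * v = v * b := fun b hb v hv =>
      (Subgroup.mem_centralizer_iff.1 (hUV (hBU hb)) v hv).symm
    have hle : B ⊔ V ≤ R := sup_le hBR hVR
    haveI := finite_of_le hle
    have hBn : B ≤ Subgroup.normalizer (V : Set Ω) := hBR.trans hRV
    have heq := Subgroup.eq_of_le_of_card_ge (le_sup_left : B ≤ B ⊔ V)
      (hB.2.2 _ hle fun x hx y hy => by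
        rw [← SetLike.mem_coe, Subgroup.coe_mul_of_left_le_normalizer_right B V hBn] at hx hy
        obtain ⟨b, hb, v, hv, rfl⟩ := hx
        obtain ⟨b', hb', v', hv', rfl⟩ := hy
        exact (((show Commute b b' from hBc b hb b' hb').mul_right (hBV b hb v' hv')).mul_left
          ((show Commute v b' from (hBV b' hb' v hv).symm).mul_right (hVc v hv v' hv'))).eq)
    exact hVA ((le_sup_right.trans heq.ge).trans hBA)

end Cfsg.Agent.Fus
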