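import Mathlib
import Cfsg.Agent.Lib.Invol.Dihedral
import Cfsg.Agent.Lib.Classical.SLGroup
import Cfsg.Agent.Lib.Classical.MatrixOrders

/-!
`PSL₂(q)`, `q` odd: Sylow 2-subgroups are dihedral and all involutions are conjugate.
-/

set_option autoImplicit false
set_option linter.style.haveILetI false

open scoped Classical

namespace Cfsg.Agent.Fus.PSLTwo

open Matrix Polynomial

set_option linter.unusedSectionVars false

variable {F : Type*} [Field F] [Fintype F]

theorem two_ne_zero_of_odd (hodd : Fintype.card F % 2 = 1) : (2 : F) ≠ 0 :=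
  Ring.two_ne_zero fun h => by
    have := FiniteField.even_card_of_char_two h
    omega

theorem exists_sq_add_sq (hodd : Fintype.card F % 2 = 1) (c : F) :
    ∃ x y : F, x * x + y * y = c := by
  obtain ⟨x, y, hxy⟩ := FiniteField.exists_root_sum_quadratic (R := F)
    (degree_X_pow 2) (degree_X_pow_sub_C (show 0 < 2 by norm_num) c) hodd
  refine ⟨x, y, ?_⟩
  simp only [eval_pow, eval_X, eval_sub, eval_C] at hxy
  linear_combination hxy

theorem natCard_SL_two : Nat.card (Matrix.SpecialLinearGroup (Fin 2) F) =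
    Fintype.card F * ((Fintype.card F - 1) * (Fintype.card F + 1)) := by
  have h := Classical.natCard_GL_eq_SL_mul (F := F) 2 (by norm_num)
  rw [Matrix.card_GL_field, Fin.prod_univ_two, Classical.natCard_units_field] at h
  simp only [Fin.val_zero, Fin.val_one, pow_zero, pow_one] at h
  have hq := Fintype.one_lt_card (α := F)
  obtain ⟨m, hm⟩ : ∃ m, Fintype.card F = m + 1 := ⟨Fintype.card F - 1, by omega⟩
  rw [hm] at h ⊢
  rw [show (m + 1) ^ 2 - 1 = m * (m + 2) by rw [sq]; rw [Nat.sub_eq_iff_eq_add (by nlinarith)]; ring,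
    show (m + 1) ^ 2 - (m + 1) = (m + 1) * m by
      rw [sq]; rw [Nat.sub_eq_iff_eq_add (by nlinarith)]; ring] at h
  simp only [Nat.add_sub_cancel] at h ⊢
  have hm0 : 0 < m := by omega
  nlinarith [h]

/-- An element of `SL₂` given by its entries. -/
def mk2 (a b c d : F) (h : a * d - b * c = 1) : Matrix.SpecialLinearGroup (Fin 2) F :=
  ⟨!![a, b; c, d], by rw [det_fin_two_of]; exact h⟩

@[simp] theorem coe_mk2 (a b c d : F) (h : a * d - b * c = 1) :
    (mk2 a b c d h : Matrix (Fin 2) (Fin 2) F) = !![a, b; c, d] := rfl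

variable (F) in
/-- The norm-one torus `{a + bJ}` of `SL₂`. -/
def torus : Subgroup (Matrix.SpecialLinearGroup (Fin 2) F) where
  carrier := {A | (A : Matrix (Fin 2) (Fin 2) F) 1 1 = (A : Matrix (Fin 2) (Fin 2) F) 0 0 ∧
    (A : Matrix (Fin 2) (Fin 2) F) 0 1 = -(A : Matrix (Fin 2) (Fin 2) F) 1 0}
  one_mem' := by simp
  mul_mem' := by
    rintro A B ⟨h1, h2⟩ ⟨h3, h4⟩
    show _ ∧ _
    simp only [Matrix.SpecialLinearGroup.coe_mul, Matrix.mul_apply, Fin.sum_univ_two, h1, h2, h3, h4]
    constructor <;> ring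
  inv_mem' := by
    rintro A ⟨h1, h2⟩
    show _ ∧ _
    simp [Matrix.SpecialLinearGroup.coe_inv, adjugate_fin_two, h1, h2]

theorem torus_det {A : Matrix.SpecialLinearGroup (Fin 2) F} (hA : A ∈ torus F) :
    (A : Matrix (Fin 2) (Fin 2) F) 0 0 * (A : Matrix (Fin 2) (Fin 2) F) 0 0 +
      (A : Matrix (Fin 2) (Fin 2) F) 1 0 * (A : Matrix (Fin 2) (Fin 2) F) 1 0 = 1 := by
  have h := A.2
  rw [det_fin_two, hA.1, hA.2] at h
  linear_combination h

theorem torus_ext {A B : torus F}
    (h0 : (A.1 : Matrix (Fin 2) (Fin 2) F) 0 0 = (B.1 : Matrix (Fin 2) (Fin 2) F) 0 0)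
    (h1 : (A.1 : Matrix (Fin 2) (Fin 2) F) 1 0 = (B.1 : Matrix (Fin 2) (Fin 2) F) 1 0) : A = B := by
  apply Subtype.ext
  apply Subtype.ext
  ext i j
  fin_cases i <;> fin_cases j
  · exact h0
  · exact (A.2.2.trans (congrArg Neg.neg h1)).trans B.2.2.symm
  · exact h1
  · exact (A.2.1.trans h0).trans B.2.1.symm

theorem isCyclic_torus (hodd : Fintype.card F % 2 = 1) : IsCyclic (torus F) := by
  obtain ⟨i, hi⟩ := IsAlgClosed.exists_pow_nat_eq (-1 : AlgebraicClosure F) two_pos
  let α := algebraMap F (AlgebraicClosure F)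
  let f : torus F →* AlgebraicClosure F :=
    { toFun := fun A => α ((A.1 : Matrix (Fin 2) (Fin 2) F) 0 0) +
        i * α ((A.1 : Matrix (Fin 2) (Fin 2) F) 1 0)
      map_one' := by simp
      map_mul' := fun A B => by
        simp only [Subgroup.coe_mul, Matrix.SpecialLinearGroup.coe_mul, Matrix.mul_apply,
          Fin.sum_univ_two, map_add, map_mul, A.2.1, A.2.2, map_neg]
        linear_combination (-(α ((A.1 : Matrix (Fin 2) (Fin 2) F) 1 0) *
          α ((B.1 : Matrix (Fin 2) (Fin 2) F) 1 0))) * hi }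
  have hinj : Function.Injective f := by
    intro A B hAB
    -- apply the same to the inverses
    have h1 : f A⁻¹ = f B⁻¹ := by
      have hA : f A⁻¹ * f A = 1 := by rw [← map_mul, inv_mul_cancel, map_one]
      have hB : f B⁻¹ * f B = 1 := by rw [← map_mul, inv_mul_cancel, map_one]
      rw [hAB] at hA
      have hne : f B ≠ 0 := right_ne_zero_of_mul_eq_one hB
      exact mul_right_cancel₀ hne (hA.trans hB.symm)
    have hv : ∀ C : torus F, f C⁻¹ = α ((C.1 : Matrix (Fin 2) (Fin 2) F) 0 0) -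
        i * α ((C.1 : Matrix (Fin 2) (Fin 2) F) 1 0) := fun C => by
      show α _ + i * α _ = _
      simp [Matrix.SpecialLinearGroup.coe_inv, adjugate_fin_two, C.2.1, sub_eq_add_neg]
    rw [hv, hv] at h1
    have h0 : α ((A.1 : Matrix (Fin 2) (Fin 2) F) 0 0) + i * α ((A.1 : Matrix (Fin 2) (Fin 2) F) 1 0) =
        α ((B.1 : Matrix (Fin 2) (Fin 2) F) 0 0) + i * α ((B.1 : Matrix (Fin 2) (Fin 2) F) 1 0) :=
      hAB
    have h2 : (2 : AlgebraicClosure F) ≠ 0 := by
      rw [← map_ofNat α 2, _root_.map_ne_zero]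
      exact two_ne_zero_of_odd hodd
    have hi0 : i ≠ 0 := by rintro rfl; simp at hi
    refine torus_ext (α.injective (mul_left_cancel₀ h2 ?_))
      (α.injective (mul_left_cancel₀ hi0 (mul_left_cancel₀ h2 ?_)))
    · linear_combination h0 + h1
    · linear_combination h0 - h1
  exact isCyclic_of_injective_ringHom f hinj

/-- The point of the torus with slope `t`. -/
def torusPoint (t : F) (ht : 1 + t * t ≠ 0) : torus F :=
  ⟨mk2 ((1 - t * t) / (1 + t * t)) (-(2 * t / (1 + t * t))) (2 * t / (1 + t * t))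
      ((1 - t * t) / (1 + t * t)) (by
    have ht' : 1 + t ^ 2 ≠ 0 := by rwa [sq]
    field_simp
    ring), by constructor <;> simp⟩

/-- The point `-1` of the torus. -/
def torusNegOne : torus F :=
  ⟨mk2 (-1) 0 0 (-1) (by ring), by constructor <;> simp⟩

theorem natCard_torus (hodd : Fintype.card F % 2 = 1) :
    (Fintype.card F % 4 = 1 → Nat.card (torus F) = Fintype.card F - 1) ∧
      (Fintype.card F % 4 = 3 → Nat.card (torus F) = Fintype.card F + 1) := by
  have h2 := two_ne_zero_of_odd hodd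
  let e : Option {t : F // 1 + t * t ≠ 0} → torus F := fun o =>
    o.elim torusNegOne fun t => torusPoint t.1 t.2
  have he : Function.Bijective e := by
    constructor
    · rintro (_ | ⟨s, hs⟩) (_ | ⟨t, ht⟩) h
      · rfl
      · exfalso
        have ht' : 1 + t ^ 2 ≠ 0 := by rwa [sq]
        have h0 := congrArg (fun A : torus F => (A.1 : Matrix (Fin 2) (Fin 2) F) 0 0) h
        simp [e, torusPoint, torusNegOne] at h0
        field_simp at h0
        exact h2 (by linear_combination -h0)
      · exfalso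
        have hs' : 1 + s ^ 2 ≠ 0 := by rwa [sq]
        have h0 := congrArg (fun A : torus F => (A.1 : Matrix (Fin 2) (Fin 2) F) 0 0) h
        simp [e, torusPoint, torusNegOne] at h0
        field_simp at h0
        exact h2 (by linear_combination h0)
      · have hs' : 1 + s ^ 2 ≠ 0 := by rwa [sq]
        have ht' : 1 + t ^ 2 ≠ 0 := by rwa [sq]
        have h0 := congrArg (fun A : torus F => (A.1 : Matrix (Fin 2) (Fin 2) F) 0 0) h
        have h1 := congrArg (fun A : torus F => (A.1 : Matrix (Fin 2) (Fin 2) F) 1 0) h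
        simp [e, torusPoint] at h0 h1
        field_simp at h0 h1
        refine congrArg some (Subtype.ext ?_)
        have key : (s - t) * (1 + t * t) * 2 = 0 := by
          linear_combination 2 * h1 - t * h0
        exact sub_eq_zero.1 (by simpa [h2, ht] using key)
    · intro A
      by_cases ha : 1 + (A.1 : Matrix (Fin 2) (Fin 2) F) 0 0 = 0
      · refine ⟨none, torus_ext ?_ ?_⟩
        · simp [e, torusNegOne]; linear_combination -ha
        · simp [e, torusNegOne]
          have hd := torus_det A.2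
          have hb : (A.1 : Matrix (Fin 2) (Fin 2) F) 1 0 * (A.1 : Matrix (Fin 2) (Fin 2) F) 1 0 = 0 := by
            linear_combination hd - ((A.1 : Matrix (Fin 2) (Fin 2) F) 0 0 - 1) * ha
          exact ((mul_self_eq_zero).1 hb).symm
      · have hd := torus_det A.2
        set a := (A.1 : Matrix (Fin 2) (Fin 2) F) 0 0 with hadef
        set b := (A.1 : Matrix (Fin 2) (Fin 2) F) 1 0 with hbdef
        have hden : 1 + b / (1 + a) * (b / (1 + a)) = 2 / (1 + a) := by
          field_simp
          linear_combination hd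
        have hne : 1 + b / (1 + a) * (b / (1 + a)) ≠ 0 := by
          rw [hden]; exact div_ne_zero h2 ha
        refine ⟨some ⟨b / (1 + a), hne⟩, torus_ext ?_ ?_⟩
        · show (1 - b / (1 + a) * (b / (1 + a))) / (1 + b / (1 + a) * (b / (1 + a))) = a
          rw [hden]
          field_simp
          linear_combination -hd
        · show 2 * (b / (1 + a)) / (1 + b / (1 + a) * (b / (1 + a))) = b
          rw [hden]
          field_simp
  have hcard : Nat.card (torus F) = Fintype.card {t : F // ¬ 1 + t * t = 0} + 1 := by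
    rw [← Nat.card_congr (Equiv.ofBijective e he), Nat.card_eq_fintype_card, Fintype.card_option]
  rw [hcard, Fintype.card_subtype_compl]
  have hq := Fintype.one_lt_card (α := F)
  constructor
  · intro h4
    obtain ⟨r, hr⟩ := FiniteField.isSquare_neg_one_iff.2 (show Fintype.card F % 4 ≠ 3 by omega)
    have hr0 : r ≠ 0 := by rintro rfl; simp at hr
    have hpair : Fintype.card {t : F // 1 + t * t = 0} = 2 := by
      rw [Fintype.card_subtype, show ({t : F | 1 + t * t = 0} : Finset F) = {r, -r} from ?_]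
      · refine Finset.card_pair fun hrr => ?_
        have : (2 : F) * r = 0 := by linear_combination hrr
        simp [h2, hr0] at this
      · ext t
        simp only [Finset.mem_filter, Finset.mem_univ, true_and, Finset.mem_insert,
          Finset.mem_singleton]
        constructor
        · intro ht
          have : (t - r) * (t + r) = 0 := by linear_combination ht + hr
          rcases mul_eq_zero.1 this with h | h
          · exact Or.inl (sub_eq_zero.1 h)
          · exact Or.inr (eq_neg_of_add_eq_zero_left h)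
        · rintro (rfl | rfl) <;> linear_combination -hr
    omega
  · intro h4
    have hno : Fintype.card {t : F // 1 + t * t = 0} = 0 := by
      rw [Fintype.card_eq_zero_iff]
      refine ⟨fun ⟨t, ht⟩ => ?_⟩
      have : IsSquare (-1 : F) := ⟨t, by linear_combination -ht⟩
      exact FiniteField.isSquare_neg_one_iff.1 this h4
    omega

/-- Any element of `SL₂` inverting the torus with square `-1`. -/
theorem exists_flip (hodd : Fintype.card F % 2 = 1) : ∃ B : Matrix.SpecialLinearGroup (Fin 2) F,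
    B ∉ torus F ∧ (B * B : Matrix.SpecialLinearGroup (Fin 2) F) ∈ Subgroup.center _ ∧
      ∀ A ∈ torus F, B * A * B⁻¹ = A⁻¹ := by
  obtain ⟨a, b, hab⟩ := exists_sq_add_sq hodd (-1 : F)
  refine ⟨mk2 a b b (-a) (by linear_combination -hab), ?_, ?_, ?_⟩
  · rintro ⟨h1, h2⟩
    simp at h1 h2
    have hb : b = 0 := by
      have : (2 : F) * b = 0 := by linear_combination h2
      simpa [two_ne_zero_of_odd hodd] using this
    have ha : a = 0 := by
      have : (2 : F) * a = 0 := by linear_combination -h1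
      simpa [two_ne_zero_of_odd hodd] using this
    simp [ha, hb] at hab
  · rw [Classical.slMem_center_iff]
    refine ⟨-1, ?_⟩
    ext i j
    fin_cases i <;> fin_cases j <;> simp [Matrix.SpecialLinearGroup.coe_mul, Matrix.mul_apply] <;>
      first | linear_combination hab | ring
  · intro A hA
    rw [mul_inv_eq_iff_eq_mul]
    apply Subtype.ext
    ext i j
    fin_cases i <;> fin_cases j <;>
      simp [Matrix.SpecialLinearGroup.coe_mul, Matrix.SpecialLinearGroup.coe_inv, Matrix.mul_apply, hA.1, hA.2,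
        adjugate_fin_two] <;> ring

theorem torus_eq_scalar_of_sq (hodd : Fintype.card F % 2 = 1) {A : Matrix.SpecialLinearGroup (Fin 2) F}
    (hA : A ∈ torus F) (h : A * A = 1) : A ∈ Subgroup.center _ := by
  rw [Classical.slMem_center_iff]
  have hinv : A = A⁻¹ := (inv_eq_of_mul_eq_one_right h).symm
  have h10 := congrArg (fun X : Matrix.SpecialLinearGroup (Fin 2) F =>
    (X : Matrix (Fin 2) (Fin 2) F) 1 0) hinv
  simp [Matrix.SpecialLinearGroup.coe_inv, adjugate_fin_two] at h10
  have hb : (A : Matrix (Fin 2) (Fin 2) F) 1 0 = 0 := by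
    have : (2 : F) * (A : Matrix (Fin 2) (Fin 2) F) 1 0 = 0 := by linear_combination h10
    simpa [two_ne_zero_of_odd hodd] using this
  refine ⟨(A : Matrix (Fin 2) (Fin 2) F) 0 0, ?_⟩
  ext i j
  fin_cases i <;> fin_cases j <;> simp [hA.1, hA.2, hb]

theorem sq_eq_one_of_mem_center {A : Matrix.SpecialLinearGroup (Fin 2) F}
    (hA : A ∈ Subgroup.center (Matrix.SpecialLinearGroup (Fin 2) F)) : A * A = 1 := by
  obtain ⟨c, hc⟩ := (Classical.slMem_center_iff A).1 hA
  have hd := A.2
  rw [hc] at hd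
  simp at hd
  apply Subtype.ext
  ext i j
  rcases hd with rfl | rfl <;>
    fin_cases i <;> fin_cases j <;> simp [Matrix.SpecialLinearGroup.coe_mul, hc]

/-- The Sylow 2-subgroups of `PSL₂(q)`, `q` odd, are dihedral. -/
theorem exists_sylow_dihedral (hodd : Fintype.card F % 2 = 1)
    (S : Sylow 2 (Matrix.ProjectiveSpecialLinearGroup (Fin 2) F)) :
    ∃ k : ℕ, Nonempty ((S : Subgroup (Matrix.ProjectiveSpecialLinearGroup (Fin 2) F)) ≃*
      DihedralGroup (2 ^ k)) ∧ (16 ∣ Fintype.card F ^ 2 - 1 → 2 ≤ k) := by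
  haveI : Fact (Nat.Prime 2) := ⟨Nat.prime_two⟩
  set π := Classical.slToPSL 2 F with hπ
  haveI := isCyclic_torus hodd
  obtain ⟨g, hg⟩ := IsCyclic.exists_generator (α := torus F)
  obtain ⟨B, hBT, hBB, hBA⟩ := exists_flip hodd
  obtain ⟨h1, h3⟩ := natCard_torus hodd
  have hq := Fintype.one_lt_card (α := F)
  obtain ⟨n, other, hn, hn0, hoodd, hTcard, hmul⟩ : ∃ n other : ℕ, Even n ∧ 0 < n ∧ Odd other ∧
      Nat.card (torus F) = 2 * n ∧
      (Fintype.card F - 1) * (Fintype.card F + 1) = 4 * n * other := by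
    rcases (show Fintype.card F % 4 = 1 ∨ Fintype.card F % 4 = 3 by omega) with h | h
    · obtain ⟨m, hm⟩ : ∃ m, Fintype.card F = 4 * m + 1 := ⟨Fintype.card F / 4, by omega⟩
      refine ⟨2 * m, 2 * m + 1, even_two_mul m, by omega, odd_two_mul_add_one m, ?_, ?_⟩
      · rw [h1 h]; omega
      · rw [hm, Nat.add_sub_cancel]; ring
    · obtain ⟨m, hm⟩ : ∃ m, Fintype.card F = 4 * m + 3 := ⟨Fintype.card F / 4, by omega⟩
      refine ⟨2 * m + 2, 2 * m + 1, ⟨m + 1, by ring⟩, by omega, odd_two_mul_add_one m, ?_, ?_⟩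
      · rw [h3 h]; omega
      · rw [hm, show 4 * m + 3 - 1 = 4 * m + 2 from rfl]; ring
  have hgo : orderOf (g : Matrix.SpecialLinearGroup (Fin 2) F) = 2 * n := by
    rw [Subgroup.orderOf_coe, orderOf_eq_card_of_forall_mem_zpowers hg, hTcard]
  set u := π g with hu
  have hker : ∀ A, π A = 1 ↔ A ∈ Subgroup.center (Matrix.SpecialLinearGroup (Fin 2) F) := fun A =>
    QuotientGroup.eq_one_iff A
  have huo : orderOf u = n := by
    refine (orderOf_eq_iff hn0).2 ⟨?_, fun m hm hm0 h => ?_⟩
    · rw [hu, ← map_pow, hker]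
      refine torus_eq_scalar_of_sq hodd ((torus F).pow_mem g.2 n) ?_
      rw [← pow_add, ← two_mul, ← hgo, pow_orderOf_eq_one]
    · rw [hu, ← map_pow, hker] at h
      have := sq_eq_one_of_mem_center h
      rw [← pow_add, ← two_mul] at this
      have := Nat.le_of_dvd (by omega) (orderOf_dvd_of_pow_eq_one this)
      omega
  set w := π B with hw
  have hww : w * w = 1 := by rw [hw, ← map_mul, hker]; exact hBB
  have hwu : w * u * w⁻¹ = u⁻¹ := by
    rw [hw, hu, ← map_mul, ← map_inv, ← map_mul, hBA _ g.2, map_inv]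
  have hwz : w ∉ Subgroup.zpowers u := by
    rintro ⟨i, hi⟩
    have hi : u ^ i = w := hi
    rw [hu, hw, ← map_zpow] at hi
    obtain ⟨z, hz, hzB⟩ : ∃ z ∈ Subgroup.center (Matrix.SpecialLinearGroup (Fin 2) F),
        ((g : Matrix.SpecialLinearGroup (Fin 2) F) ^ i) * z = B :=
      ⟨((g : Matrix.SpecialLinearGroup (Fin 2) F) ^ i)⁻¹ * B, (hker _).1 (by simp [hi]), by simp⟩
    refine hBT (hzB ▸ (torus F).mul_mem ((torus F).zpow_mem g.2 i) ?_)
    obtain ⟨c, hc⟩ := (Classical.slMem_center_iff z).1 hz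
    constructor <;> simp [hc]
  obtain ⟨k, o, ho, hko⟩ := Nat.exists_eq_two_pow_mul_odd hn0.ne'
  have hro : orderOf (u ^ o) = 2 ^ k := by
    rw [orderOf_pow' u ho.pos.ne', huo, hko, Nat.gcd_eq_right (Dvd.intro_left _ rfl),
      Nat.mul_div_cancel _ ho.pos]
  have hwr : w * u ^ o * w⁻¹ = (u ^ o)⁻¹ := by rw [← conj_pow, hwu, inv_pow]
  let φ := Invol.dihedralHom (n := 2 ^ k) (u ^ o) w (by rw [← hro]; exact pow_orderOf_eq_one _)
    hww hwr
  have hinj : Function.Injective φ := by
    rw [injective_iff_map_eq_one]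
    rintro (i | i) h <;> obtain ⟨i, rfl⟩ := ZMod.intCast_surjective i
    · rw [Invol.dihedralHom_r, ← orderOf_dvd_iff_zpow_eq_one, hro] at h
      rw [(ZMod.intCast_zmod_eq_zero_iff_dvd _ _).mpr h, DihedralGroup.r_zero]
    · rw [Invol.dihedralHom_sr] at h
      refine absurd ?_ hwz
      rw [eq_inv_of_mul_eq_one_left h]
      exact inv_mem (Subgroup.zpow_mem _ (Subgroup.pow_mem _ (Subgroup.mem_zpowers u) o) i)
  have hH : Nat.card φ.range = 2 ^ (k + 1) := by
    rw [← Nat.card_congr (MonoidHom.ofInjective hinj).toEquiv, DihedralGroup.nat_card, pow_succ']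
  have hG : Nat.card (Matrix.ProjectiveSpecialLinearGroup (Fin 2) F) =
      2 ^ (k + 1) * (Fintype.card F * o * other) := by
    have h := Classical.natCard_PSL_mul (F := F) 2 (by norm_num)
    have hg2 : Nat.gcd 2 (Nat.card Fˣ) = 2 := by
      rw [Classical.natCard_units_field]
      exact Nat.gcd_eq_left (by omega)
    rw [hg2, natCard_SL_two, hmul, hko] at h
    rw [pow_succ]
    linarith
  have hfac : (Nat.card (Matrix.ProjectiveSpecialLinearGroup (Fin 2) F)).factorization 2 = k + 1 := by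
    have hodd' : Odd (Fintype.card F * o * other) :=
      ((Nat.odd_iff.2 hodd).mul ho).mul hoodd
    rw [hG, Nat.factorization_mul (by positivity) hodd'.pos.ne', Finsupp.add_apply,
      Nat.prime_two.factorization_pow, Finsupp.single_eq_same,
      Nat.factorization_eq_zero_of_not_dvd (fun h => (Nat.not_even_iff_odd.2 hodd')
        (even_iff_two_dvd.2 h)), add_zero]
  let P : Sylow 2 (Matrix.ProjectiveSpecialLinearGroup (Fin 2) F) :=
    Sylow.ofCard φ.range (by rw [hH, hfac])
  refine ⟨k, ⟨(Sylow.equiv S P).trans ((MulEquiv.subgroupCongr (Sylow.coe_ofCard φ.range _)).trans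
    (MonoidHom.ofInjective hinj).symm)⟩, fun h16 => ?_⟩
  have hsq : Fintype.card F ^ 2 - 1 = (Fintype.card F - 1) * (Fintype.card F + 1) := by
    rw [mul_comm, ← Nat.sq_sub_sq, one_pow]
  by_contra hk
  have hodd' : Odd (o * other) := ho.mul hoodd
  rw [hsq, hmul, hko] at h16
  interval_cases k
  · rw [Nat.odd_iff] at hodd'
    simp [mul_assoc] at h16
    omega
  · rw [Nat.odd_iff] at hodd'
    rw [show 4 * (2 ^ 1 * o) * other = 8 * (o * other) by ring] at h16
    omega

/-- The involution `J` of `PSL₂`. -/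
def stdJ : Matrix.SpecialLinearGroup (Fin 2) F := mk2 0 (-1) 1 0 (by ring)

theorem isConj_stdJ (hodd : Fintype.card F % 2 = 1) {A : Matrix.SpecialLinearGroup (Fin 2) F}
    (htr : (A : Matrix (Fin 2) (Fin 2) F) 1 1 = -(A : Matrix (Fin 2) (Fin 2) F) 0 0) :
    IsConj stdJ A := by
  have hd := A.2
  rw [det_fin_two, htr] at hd
  set a := (A : Matrix (Fin 2) (Fin 2) F) 0 0 with ha
  set b := (A : Matrix (Fin 2) (Fin 2) F) 0 1 with hb
  set c := (A : Matrix (Fin 2) (Fin 2) F) 1 0 with hc
  -- a vector `(v₀, v₁)` that is not an eigenvector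
  obtain ⟨v₀, v₁, hv⟩ : ∃ v₀ v₁ : F,
      v₀ * (c * v₀ - a * v₁) - v₁ * (a * v₀ + b * v₁) ≠ 0 := by
    by_cases hc0 : c = 0
    · by_cases hb0 : b = 0
      · refine ⟨1, 1, ?_⟩
        rw [hc0, hb0] at hd ⊢
        intro h
        have : (2 : F) * a = 0 := by linear_combination -h
        have ha0 : a = 0 := by simpa [two_ne_zero_of_odd hodd] using this
        simp [ha0] at hd
      · exact ⟨0, 1, by simpa using hb0⟩
    · exact ⟨1, 0, by simpa using hc0⟩
  set d := v₀ * (c * v₀ - a * v₁) - v₁ * (a * v₀ + b * v₁) with hdd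
  obtain ⟨x, y, hxy⟩ := exists_sq_add_sq hodd d⁻¹
  set w₀ := a * v₀ + b * v₁ with hw₀
  set w₁ := c * v₀ - a * v₁ with hw₁
  refine isConj_iff.2 ⟨mk2 (v₀ * x + w₀ * y) (-(v₀ * y) + w₀ * x) (v₁ * x + w₁ * y)
    (-(v₁ * y) + w₁ * x) ?_, ?_⟩
  · have : d * (x * x + y * y) = 1 := by rw [hxy, mul_inv_cancel₀ hv]
    rw [hdd] at this
    linear_combination this
  · rw [mul_inv_eq_iff_eq_mul]
    apply Subtype.ext
    ext i j
    fin_cases i <;> fin_cases j <;>
      simp [Matrix.SpecialLinearGroup.coe_mul, stdJ, Matrix.mul_apply, ← ha, ← hb, ← hc, htr, hw₀, hw₁]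
    · linear_combination (v₀ * y) * hd
    · linear_combination (v₀ * x) * hd
    · linear_combination (v₁ * y) * hd
    · linear_combination (v₁ * x) * hd

theorem involutions_conj (hodd : Fintype.card F % 2 = 1)
    {x y : Matrix.ProjectiveSpecialLinearGroup (Fin 2) F} (hx : orderOf x = 2) (hy : orderOf y = 2) :
    IsConj x y := by
  suffices key : ∀ {z : Matrix.ProjectiveSpecialLinearGroup (Fin 2) F}, orderOf z = 2 →
      IsConj (Classical.slToPSL 2 F stdJ) z from (key hx).symm.trans (key hy)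
  intro z hz
  obtain ⟨A, rfl⟩ := Classical.slToPSL_surjective z
  refine (Classical.slToPSL 2 F).map_isConj (isConj_stdJ hodd ?_)
  by_contra htr
  obtain ⟨c, hc⟩ := (Classical.slToPSL_pow_eq_one_iff A 2).1 (by
    have := pow_orderOf_eq_one (Classical.slToPSL 2 F A)
    rwa [hz] at this)
  have hne : (A : Matrix (Fin 2) (Fin 2) F) 0 0 + (A : Matrix (Fin 2) (Fin 2) F) 1 1 ≠ 0 :=
    fun h => htr (by linear_combination h)
  have h01 := congrFun (congrFun hc 0) 1
  have h10 := congrFun (congrFun hc 1) 0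
  have h00 := congrFun (congrFun hc 0) 0
  have h11 := congrFun (congrFun hc 1) 1
  simp [sq, Matrix.mul_apply] at h01 h10 h00 h11
  have hb : (A : Matrix (Fin 2) (Fin 2) F) 0 1 = 0 :=
    (mul_eq_zero.1 (by linear_combination h01 :
      ((A : Matrix (Fin 2) (Fin 2) F) 0 0 + (A : Matrix (Fin 2) (Fin 2) F) 1 1) *
        (A : Matrix (Fin 2) (Fin 2) F) 0 1 = 0)).resolve_left hne
  have hc' : (A : Matrix (Fin 2) (Fin 2) F) 1 0 = 0 :=
    (mul_eq_zero.1 (by linear_combination h10 :
      ((A : Matrix (Fin 2) (Fin 2) F) 0 0 + (A : Matrix (Fin 2) (Fin 2) F) 1 1) *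
        (A : Matrix (Fin 2) (Fin 2) F) 1 0 = 0)).resolve_left hne
  have had : (A : Matrix (Fin 2) (Fin 2) F) 0 0 = (A : Matrix (Fin 2) (Fin 2) F) 1 1 :=
    sub_eq_zero.1 ((mul_eq_zero.1 (by linear_combination h00 - h11 :
      ((A : Matrix (Fin 2) (Fin 2) F) 0 0 + (A : Matrix (Fin 2) (Fin 2) F) 1 1) *
        ((A : Matrix (Fin 2) (Fin 2) F) 0 0 - (A : Matrix (Fin 2) (Fin 2) F) 1 1) = 0)).resolve_left
          hne)
  refine (Nat.one_lt_two.ne' (hz.symm.trans (orderOf_eq_one_iff.2 ?_)))
  refine (Classical.slToPSL_eq_one_iff A).2 ⟨(A : Matrix (Fin 2) (Fin 2) F) 0 0, ?_⟩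
  ext i j
  fin_cases i <;> fin_cases j <;> simp [hb, hc', had]

end Cfsg.Agent.Fus.PSLTwo
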