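import Mathlib
import Cfsg.Agent.Lib.Transfer.Frobenius
import Cfsg.Agent.Lib.Transfer.NormalComplement
import Cfsg.Agent.Lib.Grp.PrimeOrderSimple

/-!
Elementary order arguments for simple groups of small order.
-/

set_option autoImplicit false

namespace Cfsg.Agent.Fus

universe u

variable {G : Type u} [Group G] [Finite G]

/-- A nonabelian simple group has no normal `p`-complement for a prime divisor of its order. -/
theorem simple_no_complement [IsSimpleGroup G] (hna : ¬ IsMulCommutative G) {p : ℕ} [hp : Fact p.Prime]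
    (hd : p ∣ Nat.card G) : ¬ Cfsg.HasNormalPComplement p G := by
  intro h
  obtain ⟨N, hN, hNp, k, hk⟩ := Transfer.hasNormalPComplement_iff_exists.mp h
  rcases IsSimpleGroup.eq_bot_or_eq_top_of_normal N hN with rfl | rfl
  · rw [Subgroup.index_bot] at hk
    haveI := (IsPGroup.of_card hk).isNilpotent
    exact hna ⟨⟨fun a b => IsSimpleGroup.comm_iff_isSolvable.mpr
      (inferInstance : Group.IsSolvable G) a b⟩⟩
  · exact hNp (by rwa [Subgroup.card_top])

/-- Without a normal `p`-complement some prime divisor acts on a subgroup of a Sylow subgroup. -/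
theorem exists_prime_of_no_complement {p : ℕ} [hp : Fact p.Prime] (P : Sylow p G) {a : ℕ}
    (hP : Nat.card (P : Subgroup G) = p ^ a) (h : ¬ Cfsg.HasNormalPComplement p G) :
    ∃ r i j : ℕ, r.Prime ∧ r ≠ p ∧ r ∣ Nat.card G ∧ i < j ∧ j ≤ a ∧ r ∣ p ^ j - p ^ i := by
  classical
  rw [Transfer.hasNormalPComplement_iff_frobeniusCondition P] at h
  simp only [Transfer.FrobeniusCondition, not_forall] at h
  obtain ⟨Q, hQP, g, hg, hgc, hgn⟩ := h
  set φ := Subgroup.normalizerMonoidHom Q with hφ
  set y₀ : MulAut Q := φ ⟨g, hg⟩ with hy₀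
  have hy1 : y₀ ≠ 1 := by
    intro e
    refine hgn fun q hq => ?_
    have h1 : ((y₀ ⟨q, hq⟩ : Q) : G) = q := by rw [e]; rfl
    change g * q * g⁻¹ = q at h1
    exact (mul_inv_eq_iff_eq_mul.mp h1).symm
  have hm : orderOf y₀ ∣ orderOf g := by
    rw [← Subgroup.orderOf_mk g hg]
    exact orderOf_map_dvd φ _
  obtain ⟨r, hr, hrd⟩ := Nat.exists_prime_and_dvd (fun e => hy1 (orderOf_eq_one_iff.mp e))
  haveI : Fact r.Prime := ⟨hr⟩
  have hrp : r ≠ p := fun e => by
    have h1 : p ∣ orderOf g := e ▸ hrd.trans hm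
    exact hp.out.ne_one (Nat.Coprime.eq_one_of_dvd hgc.symm h1)
  set y : MulAut Q := y₀ ^ (orderOf y₀ / r) with hy
  have hyo : orderOf y = r := by
    refine orderOf_pow_orderOf_div ?_ hrd
    exact (orderOf_pos y₀).ne'
  have hQp : IsPGroup p Q := P.isPGroup'.to_le hQP
  obtain ⟨j, hj⟩ := IsPGroup.iff_card.mp hQp
  set F : Subgroup Q := y.toMonoidHom.eqLocus (MonoidHom.id Q) with hF
  obtain ⟨i, hi⟩ := IsPGroup.iff_card.mp (hQp.to_subgroup F)
  have hYp : IsPGroup r (Subgroup.zpowers y) :=
    IsPGroup.of_card (n := 1) (by rw [Nat.card_zpowers, hyo, pow_one])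
  have hfix : MulAction.fixedPoints (Subgroup.zpowers y) Q = (F : Set Q) := by
    ext x
    constructor
    · intro hx
      exact hx ⟨y, Subgroup.mem_zpowers y⟩
    · intro hx
      rintro ⟨z, hz⟩
      obtain ⟨k, rfl⟩ := Subgroup.mem_zpowers_iff.mp hz
      have hst : y ∈ MulAction.stabilizer (MulAut Q) x := hx
      exact Subgroup.zpow_mem _ hst k
  have hmod := hYp.card_modEq_card_fixedPoints (α := Q)
  rw [hfix, hj] at hmod
  rw [SetLike.coe_sort_coe, hi] at hmod
  have hle : p ^ i ≤ p ^ j := hj ▸ hi ▸ Subgroup.card_le_card_group F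
  have hne : i ≠ j := fun e => by
    have hFt : F = ⊤ := Subgroup.eq_top_of_card_eq F (by rw [hi, hj, e])
    have hy' : y = 1 := MulEquiv.ext fun x => (hFt.ge (Subgroup.mem_top x) : _)
    rw [hy', orderOf_one] at hyo
    exact hr.ne_one hyo.symm
  have hij : i ≤ j := (Nat.pow_le_pow_iff_right hp.out.one_lt).mp hle
  refine ⟨r, i, j, hr, hrp, (hrd.trans hm).trans (orderOf_dvd_natCard g), lt_of_le_of_ne hij hne, ?_, ?_⟩
  · refine (Nat.pow_le_pow_iff_right hp.out.one_lt).mp ?_
    rw [← hj, ← hP]
    exact Subgroup.card_le_of_le hQP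
  · exact (Nat.modEq_iff_dvd' hle).mp hmod.symm

/-- Two-part arithmetic of a nonabelian simple group of even order. -/
theorem even_simple_dvd [IsSimpleGroup G] (hna : ¬ IsMulCommutative G) (h2 : Even (Nat.card G)) :
    12 ∣ Nat.card G ∨ 16 ∣ Nat.card G ∨ 56 ∣ Nat.card G := by
  haveI : Fact (Nat.Prime 2) := ⟨Nat.prime_two⟩
  obtain ⟨P⟩ : Nonempty (Sylow 2 G) := inferInstance
  obtain ⟨a, ha⟩ := IsPGroup.iff_card.mp P.isPGroup'
  have hPd : 2 ^ a ∣ Nat.card G := ha ▸ Subgroup.card_subgroup_dvd_card _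
  obtain ⟨r, i, j, hr, hr2, hrd, hij, hja, hd⟩ :=
    exists_prime_of_no_complement P ha (simple_no_complement hna (even_iff_two_dvd.mp h2))
  by_cases h4 : 4 ≤ a
  · exact Or.inr (Or.inl ((pow_dvd_pow 2 h4).trans hPd))
  have hr' : r = 3 ∧ 2 ≤ a ∨ r = 7 ∧ a = 3 := by
    have hi : i ≤ 3 := by omega
    have hj : j ≤ 3 := by omega
    have hle : r ≤ 8 := by
      refine le_trans (Nat.le_of_dvd ?_ hd) ?_
      · exact Nat.sub_pos_of_lt (Nat.pow_lt_pow_right (by norm_num) hij)
      · exact (Nat.sub_le _ _).trans (Nat.pow_le_pow_right (by norm_num) hj : 2 ^ j ≤ 2 ^ 3)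
    interval_cases j <;> interval_cases i <;> interval_cases r <;>
      first | omega | (revert hd; norm_num; done) | (revert hr; norm_num; done)
  rcases hr' with ⟨rfl, h2a⟩ | ⟨rfl, rfl⟩
  · exact Or.inl (Nat.Coprime.mul_dvd_of_dvd_of_dvd (m := 4) (n := 3) (by norm_num)
      ((pow_dvd_pow 2 h2a).trans hPd) hrd)
  · exact Or.inr (Or.inr (Nat.Coprime.mul_dvd_of_dvd_of_dvd (m := 8) (n := 7) (by norm_num) hPd hrd))

omit [Finite G] in
/-- A simple group with a proper subgroup of index `n` has order dividing `n!`. -/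
theorem card_dvd_factorial_index [IsSimpleGroup G] {H : Subgroup G} [H.FiniteIndex] (hH : H ≠ ⊤) :
    Nat.card G ∣ H.index.factorial := by
  have hk : H.normalCore = ⊥ :=
    (IsSimpleGroup.eq_bot_or_eq_top_of_normal _ H.normalCore_normal).resolve_right fun e =>
      hH (top_le_iff.mp (e ▸ H.normalCore_le))
  have hinj : Function.Injective (MulAction.toPermHom G (G ⧸ H)) :=
    (MonoidHom.ker_eq_bot_iff _).mp (H.normalCore_eq_ker ▸ hk)
  have h1 := Subgroup.card_dvd_of_injective _ hinj
  rwa [Nat.card_perm] at h1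

/-- A simple group of order sixty is the alternating group of degree five. -/
theorem alternating_five_of_card [IsSimpleGroup G] (h : Nat.card G = 60) :
    Nonempty (G ≃* alternatingGroup (Fin 5)) := by
  haveI : Fact (Nat.Prime 2) := ⟨Nat.prime_two⟩
  have hna : ¬ IsMulCommutative G := fun hc => by
    haveI := hc
    letI : CommGroup G := { ‹Group G› with mul_comm := mul_comm' }
    have h1 : (Nat.card G).Prime := IsSimpleGroup.prime_card
    rw [h] at h1
    norm_num at h1
  obtain ⟨P⟩ : Nonempty (Sylow 2 G) := inferInstance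
  have hP : Nat.card (P : Subgroup G) = 4 := by
    rw [P.card_eq_multiplicity, h, show (60 : ℕ) = 2 ^ 2 * 15 by norm_num,
      Nat.factorization_mul (by norm_num) (by norm_num), Finsupp.add_apply,
      Nat.Prime.factorization_pow Nat.prime_two, Finsupp.single_eq_same,
      Nat.factorization_eq_zero_of_not_dvd (by norm_num : ¬ 2 ∣ 15)]
    norm_num
  have hidx : (P : Subgroup G).index = 15 := by
    have h1 := Subgroup.card_mul_index (P : Subgroup G)
    rw [hP, h] at h1
    omega
  have hd : Nat.card (Sylow 2 G) ∣ 15 := hidx ▸ P.card_dvd_index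
  set N := Subgroup.normalizer ((P : Subgroup G) : Set G) with hN
  have hn : Nat.card (Sylow 2 G) = N.index := P.card_eq_index_normalizer
  have hN1 : N ≠ ⊤ := fun e => by
    have hnorm : (P : Subgroup G).Normal := Subgroup.normalizer_eq_top_iff.mp e
    rcases IsSimpleGroup.eq_bot_or_eq_top_of_normal _ hnorm with e' | e'
    · rw [e', Subgroup.card_bot] at hP; omega
    · rw [e', Subgroup.card_top, h] at hP; omega
  have hf := card_dvd_factorial_index hN1
  rw [h] at hf
  have hne : N.index ≠ 15 := fun e => by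
    have hNP : (P : Subgroup G) = N :=
      Subgroup.eq_of_le_of_card_ge Subgroup.le_normalizer (by
        have h1 := Subgroup.card_mul_index N
        rw [e, h] at h1
        omega)
    have hc : N ≤ Subgroup.centralizer ((P : Subgroup G) : Set G) := by
      rw [← hNP]
      haveI := IsPGroup.isMulCommutative_of_card_eq_prime_sq (p := 2) (G := (P : Subgroup G)) (by rw [hP]; norm_num)
      intro x hx q hq
      exact congrArg Subtype.val (mul_comm' (⟨q, hq⟩ : (P : Subgroup G)) ⟨x, hx⟩)
    exact simple_no_complement hna (by rw [h]; norm_num)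
      ⟨P, _, inferInstance, MonoidHom.ker_transferSylow_isComplement' P hc⟩
  rw [hn] at hd
  refine Grp.alternating_five_of_sylow h (hn.trans ?_)
  have h15 : N.index ≤ 15 := Nat.le_of_dvd (by norm_num) hd
  interval_cases N.index <;>
    first | rfl | omega | (revert hf; norm_num [Nat.factorial]; done) | (revert hd; norm_num; done)

end Cfsg.Agent.Fus
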