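import Cfsg.Agent.Lib.Fus.Saturation

/-!
Dihedral and quaternion 2-groups have a 2-group of automorphisms; consequence for fusion systems.
-/

set_option autoImplicit false
set_option linter.style.haveILetI false

open scoped Classical

namespace Cfsg.Agent.Fus

open Subgroup FusionSystem

/-- If `G = ⟨c⟩ ∪ x⟨c⟩`, `c` has order `2 ^ k` and all elements of that order lie in `⟨c⟩`, then
`Aut G` is a 2-group. -/
theorem isPGroup_mulAut_of_cyclic_index_two {G : Type*} [Group G] {c x : G} {k : ℕ}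
    (hc : orderOf c = 2 ^ k) (hmem : ∀ g : G, orderOf g = 2 ^ k → g ∈ Subgroup.zpowers c)
    (hx : x ∉ Subgroup.zpowers c)
    (hcov : ∀ g : G, g ∈ Subgroup.zpowers c ∨ x⁻¹ * g ∈ Subgroup.zpowers c) :
    IsPGroup 2 (MulAut G) := by
  refine fun α => ⟨k - 1 + k, ?_⟩
  have hfin : IsOfFinOrder c := orderOf_pos_iff.1 (hc ▸ pow_pos two_pos k)
  obtain ⟨u, hu⟩ := (hfin.mem_powers_iff_mem_zpowers).2
    (hmem (α c) (by rw [MulEquiv.orderOf_eq, hc]))
  have hu : c ^ u = α c := hu
  have hcop : Nat.Coprime u (2 ^ k) := by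
    have h1 : orderOf (c ^ u) = 2 ^ k := by rw [hu, MulEquiv.orderOf_eq, hc]
    rw [hfin.orderOf_pow, hc] at h1
    rcases Nat.div_eq_self.1 h1 with h | h
    · exact absurd h (by positivity)
    · exact Nat.coprime_comm.1 h
  have hpow : ∀ t : ℕ, (α ^ t) c = c ^ u ^ t := by
    intro t
    induction t with
    | zero => simp
    | succ t ih => rw [pow_succ', MulAut.mul_apply, ih, map_pow, ← hu, ← pow_mul, pow_succ']
  set β := α ^ 2 ^ (k - 1) with hβ
  have hβc : β c = c := by
    rw [hβ, hpow]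
    conv_rhs => rw [← pow_one c]
    rw [pow_eq_pow_iff_modEq, hc]
    rcases Nat.eq_zero_or_pos k with rfl | hk
    · simp [Nat.ModEq, Nat.mod_one]
    · have := Nat.ModEq.pow_totient hcop
      rwa [Nat.totient_prime_pow Nat.prime_two hk, show (2 : ℕ) - 1 = 1 from rfl, mul_one] at this
  have hβz : ∀ g ∈ Subgroup.zpowers c, β g = g := by
    rintro g ⟨i, rfl⟩
    show β (c ^ i) = c ^ i
    rw [map_zpow, hβc]
  obtain ⟨j, hj⟩ := (hcov (β x)).resolve_left fun h =>
    hx (by rwa [β.injective (hβz _ h)] at h)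
  have hj : β x = x * c ^ j := by
    have hj : c ^ j = x⁻¹ * β x := hj
    rw [hj, mul_inv_cancel_left]
  have hβt : ∀ t : ℕ, (β ^ t) x = x * (c ^ j) ^ t := by
    intro t
    induction t with
    | zero => simp
    | succ t ih =>
      rw [pow_succ', MulAut.mul_apply, ih, map_mul,
        hβz _ (Subgroup.pow_mem _ (Subgroup.zpow_mem_zpowers c j) t), hj, mul_assoc, ← pow_succ']
  have hβn : ∀ t : ℕ, ∀ g ∈ Subgroup.zpowers c, (β ^ t) g = g := by
    intro t g hg
    induction t with
    | zero => simp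
    | succ t ih => rw [pow_succ', MulAut.mul_apply, ih, hβz g hg]
  rw [pow_add, pow_mul]
  refine MulEquiv.ext fun g => ?_
  show (β ^ 2 ^ k) g = g
  rcases hcov g with h | h
  · exact hβn _ g h
  · have hxk : (β ^ 2 ^ k) x = x := by
      rw [hβt, ← zpow_natCast, ← zpow_mul, mul_comm j, zpow_mul, zpow_natCast, ← hc,
        pow_orderOf_eq_one, one_zpow, mul_one]
    rw [show g = x * (x⁻¹ * g) by group, map_mul, hxk, hβn _ _ h]

theorem isPGroup_mulAut_dihedralGroup {k : ℕ} (hk : 2 ≤ k) :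
    IsPGroup 2 (MulAut (DihedralGroup (2 ^ k))) := by
  have h2 : (2 : ℕ) < 2 ^ k := lt_of_lt_of_le (by norm_num) (Nat.pow_le_pow_right two_pos hk)
  have hz : ∀ i : ZMod (2 ^ k), DihedralGroup.r i ∈
      Subgroup.zpowers (DihedralGroup.r 1 : DihedralGroup (2 ^ k)) := fun i => by
    obtain ⟨z, rfl⟩ := ZMod.intCast_surjective i
    exact ⟨z, DihedralGroup.r_one_zpow z⟩
  refine isPGroup_mulAut_of_cyclic_index_two (c := DihedralGroup.r 1) (x := DihedralGroup.sr 0)
    DihedralGroup.orderOf_r_one ?_ ?_ ?_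
  · rintro (i | i) h
    · exact hz i
    · rw [DihedralGroup.orderOf_sr] at h; omega
  · rintro ⟨z, hz'⟩
    have : (DihedralGroup.r 1 : DihedralGroup (2 ^ k)) ^ z = DihedralGroup.sr 0 := hz'
    rw [DihedralGroup.r_one_zpow] at this
    exact absurd this (by simp)
  · rintro (i | i)
    · exact Or.inl (hz i)
    · refine Or.inr ?_
      rw [DihedralGroup.inv_sr, DihedralGroup.sr_mul_sr]
      exact hz _

theorem isPGroup_mulAut_quaternionGroup {k : ℕ} (hk : 2 ≤ k) :
    IsPGroup 2 (MulAut (QuaternionGroup (2 ^ k))) := by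
  have h4 : (4 : ℕ) < 2 ^ (k + 1) :=
    lt_of_lt_of_le (by norm_num) (Nat.pow_le_pow_right two_pos (by omega : 3 ≤ k + 1))
  have hpow : ∀ t : ℕ, (QuaternionGroup.a 1 : QuaternionGroup (2 ^ k)) ^ t =
      QuaternionGroup.a t := fun t => by
    induction t with
    | zero => simp
    | succ t ih => rw [pow_succ, ih, QuaternionGroup.a_mul_a, Nat.cast_succ]
  have hz : ∀ i : ZMod (2 * 2 ^ k), QuaternionGroup.a i ∈
      Subgroup.zpowers (QuaternionGroup.a 1 : QuaternionGroup (2 ^ k)) := fun i => by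
    obtain ⟨t, rfl⟩ := ZMod.natCast_zmod_surjective i
    rw [← hpow]
    exact Subgroup.pow_mem _ (Subgroup.mem_zpowers _) t
  refine isPGroup_mulAut_of_cyclic_index_two (c := QuaternionGroup.a 1)
    (x := QuaternionGroup.xa 0) (k := k + 1) ?_ ?_ ?_ ?_
  · rw [QuaternionGroup.orderOf_a_one, pow_succ']
  · rintro (i | i) h
    · exact hz i
    · rw [QuaternionGroup.orderOf_xa] at h; omega
  · intro h
    obtain ⟨t, ht⟩ := ((orderOf_pos_iff.1 (by
      rw [QuaternionGroup.orderOf_a_one]; positivity)).mem_powers_iff_mem_zpowers).2 h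
    have ht : (QuaternionGroup.a 1 : QuaternionGroup (2 ^ k)) ^ t = QuaternionGroup.xa 0 := ht
    rw [hpow] at ht
    exact absurd ht (by simp)
  · rintro (i | i)
    · exact Or.inl (hz i)
    · refine Or.inr ?_
      show QuaternionGroup.xa _ * QuaternionGroup.xa i ∈ _
      rw [QuaternionGroup.xa_mul_xa]
      exact hz _

theorem isPGroup_mulAut_congr {p : ℕ} {G H : Type*} [Group G] [Group H] (e : G ≃* H)
    (h : IsPGroup p (MulAut H)) : IsPGroup p (MulAut G) := h.of_equiv (MulAut.congr e).symm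

variable {Ω : Type*} [Group Ω] {S : Subgroup Ω} [Finite S] {p : ℕ} [Fact p.Prime]

/-- In a saturated system, `Aut_F(S) = Inn(S)` if `Aut S` is a `p`-group. -/
theorem autGroup_self_eq_inn {F : FusionSystem S} (hF : F.IsSaturated p) (hS : IsPGroup p S)
    (h : IsPGroup p (MulAut S)) : F.autGroup S = Inn ↥S := by
  obtain ⟨-, R, hR⟩ := fullyAutomized_of_fullyNormalized hS hF (fullyNormalized_self F)
  have hp : IsPGroup p (⊤ : Subgroup (F.autGroup S)) :=
    (h.to_subgroup _).to_subgroup _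
  have htop := R.is_maximal' hp le_top
  rw [hR] at htop
  refine le_antisymm ?_ (by rw [inn_eq_autInducedBy]; exact autInducedBy_le_autGroup F le_rfl)
  rw [inn_eq_autInducedBy]
  intro α hα
  exact htop.le (Subgroup.mem_top (⟨α, hα⟩ : F.autGroup S))

end Cfsg.Agent.Fus
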