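import Mathlib
import Cfsg.Agent.Lib.Transfer.Frobenius
import Cfsg.Agent.Lib.Transfer.NormalComplement

/-!
Odd automorphisms of subgroups of dihedral groups fixing an involution.
-/

set_option autoImplicit false

namespace Cfsg.Agent.Fus

universe u

/-- An odd order automorphism of a `2`-group fixing a cyclic subgroup of index at most two setwise is trivial. -/
theorem eq_one_of_cyclic_index_le_two {U : Type u} [Group U] [Finite U] (hU : IsPGroup 2 U) (φ : MulAut U)
    (hodd : Odd (orderOf φ)) (C : Subgroup U) [IsCyclic C] (hC : ∀ x ∈ C, φ x ∈ C) (hi : C.index ∣ 2) :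
    φ = 1 := by
  classical
  haveI : Fact (Nat.Prime 2) := ⟨Nat.prime_two⟩
  have hmap : C.map φ.toMonoidHom = C := by
    refine Subgroup.eq_of_le_of_card_ge (fun y hy => ?_) (Subgroup.card_map_of_injective φ.injective).ge
    obtain ⟨x, hx, rfl⟩ := hy
    exact hC x hx
  let ψ : MulAut C := (φ.subgroupMap C).trans (MulEquiv.subgroupCongr hmap)
  have hψ : ∀ x : C, ((ψ x : C) : U) = φ x := fun x => rfl
  have hψm : ∀ (m : ℕ) (x : C), (((ψ ^ m) x : C) : U) = (φ ^ m) x := by
    intro m
    induction m with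
    | zero => intro x; rfl
    | succ m ih => intro x; rw [pow_succ', pow_succ', MulAut.mul_apply, MulAut.mul_apply, hψ, ih]
  have hfix : ∀ x ∈ C, φ x = x := by
    have h1 : orderOf ψ ∣ orderOf φ := by
      refine orderOf_dvd_of_pow_eq_one (MulEquiv.ext fun x => Subtype.ext ?_)
      rw [hψm, pow_orderOf_eq_one]
      rfl
    obtain ⟨k, hk⟩ := IsPGroup.iff_card.mp (hU.to_subgroup C)
    have h2 : orderOf ψ ∣ 2 ^ k := by
      refine (orderOf_dvd_natCard ψ).trans ?_
      rw [IsCyclic.card_mulAut, hk]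
      rcases k with _ | k
      · simp
      · rw [Nat.totient_prime_pow_succ Nat.prime_two]
        simpa using pow_dvd_pow 2 (Nat.le_succ k)
    have h3 : Odd (orderOf ψ) := hodd.of_dvd_nat h1
    obtain ⟨j, -, hj⟩ := (Nat.dvd_prime_pow Nat.prime_two).mp h2
    have h4 : orderOf ψ = 1 := by
      rcases j with _ | j
      · simpa using hj
      · rw [hj, pow_succ] at h3
        exact absurd h3 (Nat.not_odd_iff_even.mpr (even_two.mul_left _))
    intro x hx
    have h5 := congrArg (fun χ : MulAut C => ((χ ⟨x, hx⟩ : C) : U)) (orderOf_eq_one_iff.mp h4)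
    exact h5
  refine MulEquiv.ext fun u => ?_
  by_cases hu : u ∈ C
  · exact hfix u hu
  have h2 : C.index = 2 := by
    rcases (Nat.dvd_prime Nat.prime_two).mp hi with h | h
    · exact absurd ((Subgroup.index_eq_one.mp h).ge (Subgroup.mem_top u)) hu
    · exact h
  have hnu : φ u ∉ C := fun h => hu (by
    obtain ⟨x, hx, hxe⟩ := hmap.ge h
    exact φ.injective hxe ▸ hx)
  have hd : φ u * u⁻¹ ∈ C := by
    rw [Subgroup.mul_mem_iff_of_index_two h2, Subgroup.inv_mem_iff]
    exact ⟨fun h => absurd h hnu, fun h => absurd h hu⟩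
  obtain ⟨d, hdd⟩ : ∃ d : U, d = φ u * u⁻¹ := ⟨_, rfl⟩
  have hdC : d ∈ C := hdd ▸ hd
  have hpow : ∀ m : ℕ, (φ ^ m) u = d ^ m * u := by
    intro m
    induction m with
    | zero => simp
    | succ m ih =>
      rw [pow_succ', MulAut.mul_apply, ih, map_mul, map_pow, hfix d hdC, pow_succ, hdd, mul_assoc _ _ u,
        inv_mul_cancel_right]
  have h6 := hpow (orderOf φ)
  rw [pow_orderOf_eq_one, MulAut.one_apply, eq_comm, mul_eq_right] at h6
  obtain ⟨k, hk⟩ := IsPGroup.iff_orderOf.mp hU d
  have h7 : orderOf d ∣ orderOf φ := orderOf_dvd_of_pow_eq_one h6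
  have h8 : orderOf d = 1 := by
    rw [hk] at h7 ⊢
    rcases k with _ | k
    · rfl
    · exfalso
      have h9 := hodd.of_dvd_nat h7
      rw [pow_succ] at h9
      exact (Nat.not_odd_iff_even.mpr (even_two.mul_left _)) h9
  rw [orderOf_eq_one_iff, hdd, mul_inv_eq_one] at h8
  rw [MulAut.one_apply, h8]

/-- An odd order automorphism of a `2`-subgroup of a dihedral group fixing an involution is trivial. -/
theorem eq_one_of_dihedral_sub {U : Type u} [Group U] [Finite U] (hU : IsPGroup 2 U) {n : ℕ} [NeZero n]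
    (f : U →* DihedralGroup n) (hf : Function.Injective f) (φ : MulAut U) (hodd : Odd (orderOf φ))
    {t : U} (ht : orderOf t = 2) (hφt : φ t = t) : φ = 1 := by
  classical
  set R : Subgroup (DihedralGroup n) := Subgroup.zpowers (DihedralGroup.r 1)
  have hRcard : Nat.card R = n := by rw [Nat.card_zpowers, DihedralGroup.orderOf_r_one]
  have hR2 : R.index = 2 := by
    have h1 := Subgroup.card_mul_index R
    rw [hRcard, Nat.card_eq_fintype_card, DihedralGroup.card, mul_comm 2 n] at h1
    exact Nat.eq_of_mul_eq_mul_left (NeZero.pos n) h1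
  haveI : R.Normal := Subgroup.normal_of_index_eq_two hR2
  set C₀ := R.comap f with hC₀
  haveI : IsCyclic C₀ := isCyclic_of_injective (f.subgroupComap R) fun a b h =>
    Subtype.ext (hf (congrArg Subtype.val h))
  have hidx : C₀.index ∣ 2 := by
    rw [hC₀, Subgroup.index_comap, ← hR2]
    exact Subgroup.relIndex_dvd_index_of_normal R f.range
  have hout : ∀ x : U, x ∉ C₀ → x * x = 1 := by
    intro x hx
    refine hf ?_
    rw [map_mul, map_one]
    rcases hd : f x with i | i
    · exact absurd (show f x ∈ R by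
        rw [hd]
        exact ⟨(i.val : ℤ), by simp⟩) hx
    · simp
  by_cases hex : ∃ x : U, x * x ≠ 1
  · obtain ⟨c, hc⟩ := IsCyclic.exists_generator (α := C₀)
    have hcs : φ (c : U) ∈ C₀ := by
      by_contra h
      obtain ⟨x, hx⟩ := hex
      have hxC : x ∈ C₀ := by by_contra h'; exact hx (hout x h')
      obtain ⟨m, hm⟩ := hc ⟨x, hxC⟩
      have hcc : (c : U) * c = 1 := φ.injective (by rw [map_mul, hout _ h, map_one])
      have hxm : x = (c : U) ^ m := (congrArg Subtype.val hm).symm
      apply hx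
      rw [hxm, ← (Commute.refl (c : U)).mul_zpow, hcc, one_zpow]
    refine eq_one_of_cyclic_index_le_two hU φ hodd C₀ (fun x hx => ?_) hidx
    obtain ⟨m, hm⟩ := hc ⟨x, hx⟩
    rw [show x = (c : U) ^ m from (congrArg Subtype.val hm).symm, map_zpow]
    exact C₀.zpow_mem hcs m
  · push_neg at hex
    have h2 : Nat.card C₀ ≤ 2 := by
      haveI : Fintype C₀ := Fintype.ofFinite _
      have h3 := IsCyclic.card_pow_eq_one_le (α := C₀) (n := 2) (by norm_num)
      rw [Finset.filter_true_of_mem (fun x _ => Subtype.ext (by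
        rw [SubgroupClass.coe_pow, pow_two]; exact hex _)), Finset.card_univ] at h3
      rwa [Nat.card_eq_fintype_card]
    have h4 : Nat.card U ≤ 4 := by
      rw [← Subgroup.card_mul_index C₀]
      exact Nat.mul_le_mul h2 (Nat.le_of_dvd (by norm_num) hidx)
    obtain ⟨k, hk⟩ := IsPGroup.iff_card.mp hU
    have hidx' : (Subgroup.zpowers t).index ∣ 2 := by
      have h5 := Subgroup.card_mul_index (Subgroup.zpowers t)
      rw [Nat.card_zpowers, ht] at h5
      have hk2 : k ≤ 2 := (Nat.pow_le_pow_iff_right (by norm_num : 1 < 2)).mp (hk ▸ h4 : 2 ^ k ≤ 2 ^ 2)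
      rw [hk] at h5
      have hne := Subgroup.index_ne_zero_of_finite (H := Subgroup.zpowers t)
      generalize (Subgroup.zpowers t).index = i at h5 hne ⊢
      have hi : i ≤ 2 := by interval_cases k <;> omega
      interval_cases i <;> first | (exact absurd rfl hne) | norm_num
    refine eq_one_of_cyclic_index_le_two hU φ hodd (Subgroup.zpowers t) (fun x hx => ?_) hidx'
    obtain ⟨m, rfl⟩ := Subgroup.mem_zpowers_iff.mp hx
    rw [map_zpow, hφt]
    exact Subgroup.zpow_mem _ (Subgroup.mem_zpowers t) m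

variable {X : Type u} [Group X] [Finite X]

/-- Involution centralizers in groups with dihedral Sylow `2`-subgroups have normal `2`-complements. -/
theorem centralizer_normalTwoComplement {n : ℕ} [NeZero n] (S : Sylow 2 X)
    (e : (S : Subgroup X) ≃* DihedralGroup n) (t : X) (ht : orderOf t = 2) :
    Cfsg.HasNormalPComplement 2 (Subgroup.centralizer ({t} : Set X)) := by
  haveI : Fact (Nat.Prime 2) := ⟨Nat.prime_two⟩
  set C := Subgroup.centralizer ({t} : Set X)
  obtain ⟨P⟩ : Nonempty (Sylow 2 C) := inferInstance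
  rw [Transfer.hasNormalPComplement_iff_frobeniusCondition P]
  intro Q hQ g hg hgc
  set tC : C := ⟨t, Subgroup.mem_centralizer_singleton_iff.mpr rfl⟩
  have htc : ∀ c : C, c * tC = tC * c := fun c =>
    Subtype.ext (Subgroup.mem_centralizer_singleton_iff.mp c.2)
  set Z := Subgroup.zpowers tC
  haveI : Z.Normal := ⟨fun z hz c => by
    obtain ⟨m, rfl⟩ := Subgroup.mem_zpowers_iff.mp hz
    rw [← conj_zpow, htc c, mul_inv_cancel_right]
    exact Subgroup.zpow_mem _ (Subgroup.mem_zpowers _) m⟩
  have hZp : IsPGroup 2 Z := IsPGroup.of_card (n := 1) (by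
    rw [Nat.card_zpowers, Subgroup.orderOf_mk, ht, pow_one])
  obtain ⟨U, hUdef⟩ : ∃ U : Subgroup C, U = Q ⊔ Z := ⟨_, rfl⟩
  have hUp : IsPGroup 2 U := hUdef ▸ IsPGroup.to_sup_of_normal_right (P.isPGroup'.to_le hQ) hZp
  have htU : tC ∈ U := hUdef ▸ Subgroup.mem_sup_right (Subgroup.mem_zpowers _)
  have hgU : g ∈ Subgroup.normalizer (U : Set C) := by
    have e1 : ∀ H : Subgroup C, g ∈ Subgroup.normalizer (H : Set C) →
        H.map (MulAut.conj g).toMonoidHom = H := fun H hH => by
      ext x
      constructor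
      · rintro ⟨y, hy, rfl⟩
        exact (Subgroup.mem_normalizer_iff.mp hH y).mp hy
      · intro hx
        exact ⟨g⁻¹ * x * g, (Subgroup.mem_normalizer_iff''.mp hH x).mp hx, by
          show g * (g⁻¹ * x * g) * g⁻¹ = x
          group⟩
    have e2 : U.map (MulAut.conj g).toMonoidHom = U := by
      rw [hUdef, Subgroup.map_sup, e1 Q hg, e1 Z (Subgroup.normalizer_eq_top (H := Z) ▸ Subgroup.mem_top g)]
    rw [Subgroup.mem_normalizer_iff]
    intro x
    constructor
    · exact fun hx => e2.le ⟨x, hx, rfl⟩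
    · intro hx
      obtain ⟨y, hy, hyx⟩ := e2.ge hx
      exact (MulAut.conj g).injective hyx ▸ hy
  obtain ⟨R, hR⟩ := (hUp.map C.subtype).exists_le_sylow
  obtain ⟨x, hx⟩ := MulAction.exists_smul_eq X S R
  let ι : U →* (R : Subgroup X) :=
    { toFun := fun u => ⟨((u : C) : X), hR ⟨(u : C), u.2, rfl⟩⟩
      map_one' := rfl
      map_mul' := fun _ _ => rfl }
  have hι : Function.Injective ι := fun a b h => by
    have h' : ((a : C) : X) = ((b : C) : X) := congrArg (fun y : (R : Subgroup X) => (y : X)) h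
    exact Subtype.ext (Subtype.ext h')
  let e' : (R : Subgroup X) ≃* DihedralGroup n := (hx ▸ S.equivSMul x : (S : Subgroup X) ≃* (R : Subgroup X)).symm.trans e
  have hodd : Odd (orderOf (Subgroup.normalizerMonoidHom U ⟨g, hgU⟩)) := by
    refine Odd.of_dvd_nat ?_ (orderOf_map_dvd _ _)
    rw [Subgroup.orderOf_mk]
    exact Nat.coprime_two_right.mp hgc
  have h1 := eq_one_of_dihedral_sub hUp (e'.toMonoidHom.comp ι) (e'.injective.comp hι)
    (Subgroup.normalizerMonoidHom U ⟨g, hgU⟩) hodd
    (t := ⟨tC, htU⟩) (by rw [Subgroup.orderOf_mk, Subgroup.orderOf_mk, ht])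
    (Subtype.ext (show g * tC * g⁻¹ = tC by rw [htc g, mul_inv_cancel_right]))
  intro q hq
  have hqU : q ∈ U := hUdef ▸ Subgroup.mem_sup_left hq
  have h2 : g * q * g⁻¹ = q := congrArg Subtype.val (DFunLike.congr_fun h1 (⟨q, hqU⟩ : U))
  exact (mul_inv_eq_iff_eq_mul.mp h2).symm

end Cfsg.Agent.Fus
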