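import Cfsg.Agent.Lib.Fus.QdBasic
import Cfsg.Agent.Lib.Invol.Section
import Cfsg.Prelude.Def_LocalEven

/-!
`Qd(p)` is involved in a finite group exactly when some `p`-subgroup has a two-dimensional quotient
on which the group induces all of `SL(2, p)`.
-/

set_option autoImplicit false
set_option linter.style.haveILetI false

namespace Cfsg.Agent.Fus

open Matrix Subgroup

universe u

variable {p : ℕ}

local notation "SL2" => Matrix.SpecialLinearGroup (Fin 2) (ZMod p)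
local notation "F2" => Multiplicative (Fin 2 → ZMod p)

/-- The natural action on column vectors, written multiplicatively. -/
def matAct (g : SL2) (v : F2) : F2 := Multiplicative.ofAdd (g.1 *ᵥ v.toAdd)

theorem matAct_mul (g h : SL2) (v : F2) : matAct (g * h) v = matAct g (matAct h v) := by
  show Multiplicative.ofAdd ((g.1 * h.1) *ᵥ v.toAdd) = _
  rw [← Matrix.mulVec_mulVec]
  rfl

theorem matAct_one (v : F2) : matAct 1 v = v := by
  show Multiplicative.ofAdd ((1 : Matrix (Fin 2) (Fin 2) (ZMod p)) *ᵥ v.toAdd) = _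
  rw [Matrix.one_mulVec]
  rfl

theorem matAct_map_mul (g : SL2) (v w : F2) : matAct g (v * w) = matAct g v * matAct g w := by
  show Multiplicative.ofAdd (g.1 *ᵥ (v.toAdd + w.toAdd)) = _
  rw [Matrix.mulVec_add]
  rfl

theorem matAct_map_one (g : SL2) : matAct g (1 : F2) = 1 := by
  show Multiplicative.ofAdd (g.1 *ᵥ (0 : Fin 2 → ZMod p)) = _
  rw [Matrix.mulVec_zero]
  rfl

theorem eq_of_matAct_eq {g h : SL2} (hgh : ∀ v, matAct g v = matAct h v) : g = h := by
  apply Subtype.ext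
  ext i j
  have := congrFun (Multiplicative.ofAdd.injective (hgh (Multiplicative.ofAdd (Pi.single j 1)))) i
  simpa using this

theorem qdTrans_conj (x : qd p) (v : F2) :
    x * qdTrans p v * x⁻¹ = qdTrans p (matAct (qdBlock p x) v) := by
  rw [qd_mul_trans, mul_inv_cancel_right]
  rfl

theorem isPGroup_vec (p : ℕ) : IsPGroup p (Multiplicative (Fin 2 → ZMod p)) := fun x => ⟨1, by
  apply Multiplicative.toAdd.injective
  rw [pow_one, toAdd_pow, toAdd_one]
  ext i
  simp⟩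

/-- The automorphisms in `A` induce all of `SL(2, p)` on some quotient `(Fin 2 → ZMod p)`. -/
def IsQdAction (p : ℕ) {V : Type*} [Group V] (A : Set (MulAut V)) : Prop :=
  ∃ φ : V →* Multiplicative (Fin 2 → ZMod p), Function.Surjective φ ∧
    ∀ g : Matrix.SpecialLinearGroup (Fin 2) (ZMod p), ∃ α ∈ A, ∀ v, φ (α v) = matAct g (φ v)

theorem IsQdAction.transport {V V' : Type*} [Group V] [Group V'] {A : Set (MulAut V)}
    {B : Set (MulAut V')} (hA : IsQdAction p A) (e : V ≃* V')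
    (h : ∀ α ∈ A, ∃ β ∈ B, ∀ v, β (e v) = e (α v)) : IsQdAction p B := by
  obtain ⟨φ, hφ, hA⟩ := hA
  refine ⟨φ.comp e.symm.toMonoidHom, hφ.comp e.symm.surjective, fun g => ?_⟩
  obtain ⟨α, hα, hg⟩ := hA g
  obtain ⟨β, hβ, hαβ⟩ := h α hα
  refine ⟨β, hβ, fun v' => ?_⟩
  obtain ⟨v, rfl⟩ := e.surjective v'
  simp [hαβ, hg]

theorem IsQdAction.mono {V : Type*} [Group V] {A B : Set (MulAut V)} (hA : IsQdAction p A)
    (h : A ⊆ B) : IsQdAction p B :=
  hA.transport (MulEquiv.refl V) fun α hα => ⟨α, h hα, fun _ => rfl⟩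

/-- The automorphisms of `V` induced by elements of the ambient group. -/
def innerBy {L : Type*} [Group L] (V : Subgroup L) : Set (MulAut V) :=
  {α | ∃ x : L, ∀ v : V, (α v : L) = x * v * x⁻¹}

theorem exists_innerBy {L : Type*} [Group L] {V : Subgroup L} {x : L}
    (hx : x ∈ Subgroup.normalizer (V : Set L)) :
    ∃ α ∈ innerBy V, ∀ v : V, (α v : L) = x * v * x⁻¹ :=
  ⟨V.normalizerMonoidHom ⟨x, hx⟩, ⟨x, fun _ => rfl⟩, fun _ => rfl⟩

theorem mem_normalizer_of_innerBy {L : Type*} [Group L] {V : Subgroup L} {x : L} {α : MulAut V}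
    (hx : ∀ v : V, (α v : L) = x * v * x⁻¹) : x ∈ Subgroup.normalizer (V : Set L) := by
  rw [Subgroup.mem_normalizer_iff]
  intro y
  constructor
  · intro hy
    rw [← hx ⟨y, hy⟩]
    exact (α _).2
  · intro hy
    obtain ⟨v, hv⟩ := α.surjective ⟨_, hy⟩
    have h : x * v * x⁻¹ = x * y * x⁻¹ := (hx v).symm.trans (congrArg Subtype.val hv)
    rw [← mul_left_cancel (mul_right_cancel h)]
    exact v.2

/-- A `p`-subgroup of the group on which the group induces `SL(2, p)` on a quotient. -/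
def GrpQdWitness (L : Type*) [Group L] (p : ℕ) : Prop :=
  ∃ V : Subgroup L, IsPGroup p V ∧ IsQdAction p (innerBy V)

/-- A Sylow subgroup maps onto a `p`-group quotient. -/
theorem sylow_map_eq_top {G H : Type*} [Group G] [Group H] [Finite G] [Fact p.Prime]
    (hH : IsPGroup p H) (P : Sylow p G) {f : G →* H} (hf : Function.Surjective f) :
    (P : Subgroup G).map f = ⊤ :=
  haveI : Finite H := Finite.of_surjective f hf
  ((P.mapSurjective hf).is_maximal' (hH.to_subgroup (⊤ : Subgroup H)) le_top).symm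

theorem grpQdWitness_of_involves {L : Type*} [Group L] [Finite L] [Fact p.Prime]
    (h : Involves ↥(qd p) L) : GrpQdWitness L p := by
  obtain ⟨K, R, hR, ⟨e⟩⟩ := h
  let f : K →* qd p := e.toMonoidHom.comp (QuotientGroup.mk' (R.subgroupOf K))
  have hf : Function.Surjective f := e.surjective.comp (QuotientGroup.mk'_surjective _)
  let M : Subgroup K := (qdBlock p).ker.comap f
  haveI : M.Normal := inferInstance
  let T := (qdTrans p).range
  let et : F2 ≃* T := MonoidHom.ofInjective qdTrans_injective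
  let fT : M →* T := (f.comp M.subtype).codRestrict T fun x => mem_ker_qdBlock.1 x.2
  have hfT : Function.Surjective fT := by
    rintro ⟨t, ht⟩
    obtain ⟨k, rfl⟩ := hf t
    exact ⟨⟨k, mem_ker_qdBlock.2 ht⟩, rfl⟩
  obtain ⟨P⟩ : Nonempty (Sylow p M) := inferInstance
  have hP := sylow_map_eq_top ((isPGroup_vec p).of_equiv et) P hfT
  set V₀ : Subgroup K := (P : Subgroup M).map M.subtype with hV₀
  have hVM : V₀ ≤ M := Subgroup.map_subtype_le _
  let φ₀ : V₀ →* F2 := et.symm.toMonoidHom.comp (fT.comp (Subgroup.inclusion hVM))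
  have hφ₀ : ∀ v : V₀, qdTrans p (φ₀ v) = f v := fun v =>
    congrArg Subtype.val (et.apply_symm_apply (fT (Subgroup.inclusion hVM v)))
  have hφs : Function.Surjective φ₀ := fun w => by
    obtain ⟨x, hx, hxw⟩ := (hP.symm ▸ Subgroup.mem_top (et w) : et w ∈ (P : Subgroup M).map fT)
    refine ⟨⟨x, Subgroup.mem_map_of_mem _ hx⟩, ?_⟩
    show et.symm (fT x) = w
    rw [hxw, et.symm_apply_apply]
  have hV : IsQdAction p (innerBy V₀) := by
    refine ⟨φ₀, hφs, fun g => ?_⟩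
    obtain ⟨x, hx⟩ := hf (qdLift p g)
    have hx' : x ∈ Subgroup.normalizer (V₀ : Set K) ⊔ M := by
      rw [hV₀, P.normalizer_sup_eq_top]; exact Subgroup.mem_top x
    obtain ⟨n, hn, m, hm, rfl⟩ := Subgroup.mem_sup_of_normal_right.1 hx'
    obtain ⟨α, hα, hαn⟩ := exists_innerBy hn
    have hbn : qdBlock p (f n) = g := by
      have := congrArg (qdBlock p) hx
      rwa [map_mul, map_mul, qdBlock_lift, show qdBlock p (f m) = 1 from hm, mul_one] at this
    refine ⟨α, hα, fun v => qdTrans_injective ?_⟩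
    rw [hφ₀, hαn, map_mul, map_mul, map_inv, ← hφ₀, qdTrans_conj, hbn]
  refine ⟨V₀.map K.subtype, ((P.2.map _).map _), hV.transport
    (V₀.equivMapOfInjective _ K.subtype_injective) ?_⟩
  rintro α ⟨x, hx⟩
  have hn : (x : L) ∈ Subgroup.normalizer ((V₀.map K.subtype : Subgroup L) : Set L) :=
    Subgroup.le_normalizer_map K.subtype ⟨x, mem_normalizer_of_innerBy hx, rfl⟩
  obtain ⟨β, hβ, hβx⟩ := exists_innerBy hn
  refine ⟨β, hβ, fun v => Subtype.ext ?_⟩
  rw [hβx, Subgroup.coe_equivMapOfInjective_apply, Subgroup.coe_equivMapOfInjective_apply, hx]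
  rfl

/-- An element of order three of `SL(2, 2)`. -/
def zTwo : Matrix.SpecialLinearGroup (Fin 2) (ZMod 2) := ⟨!![0, 1; 1, 1], by decide⟩

theorem zTwo_pow : zTwo ^ 3 = 1 := by decide

theorem zTwo_fix : ∀ v, matAct zTwo v = v → v = 1 := by decide

theorem zTwo_conj : ∀ x, x * zTwo * x⁻¹ = zTwo ∨ x * zTwo * x⁻¹ = zTwo ^ 2 := by decide

/-- An element of prime order prime to `p` generating a normal subgroup without fixed vectors. -/
theorem exists_normal_fpf (p : ℕ) [hp : Fact p.Prime] :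
    ∃ (z : Matrix.SpecialLinearGroup (Fin 2) (ZMod p)) (q : ℕ), q.Prime ∧ q ≠ p ∧ z ^ q = 1 ∧
      (Subgroup.zpowers z).Normal ∧ ∀ v, matAct z v = v → v = 1 := by
  by_cases h2 : p = 2
  · subst h2
    refine ⟨zTwo, 3, Nat.prime_three, by norm_num, zTwo_pow, ?_, zTwo_fix⟩
    refine ⟨fun n hn x => ?_⟩
    obtain ⟨k, rfl⟩ := Subgroup.mem_zpowers_iff.1 hn
    rw [← conj_zpow]
    refine Subgroup.zpow_mem _ ?_ k
    rcases zTwo_conj x with h | h <;> rw [h]
    · exact Subgroup.mem_zpowers _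
    · exact Subgroup.pow_mem _ (Subgroup.mem_zpowers _) 2
  · haveI : Fact (Even (Fintype.card (Fin 2))) := ⟨even_two⟩
    refine ⟨-1, 2, Nat.prime_two, fun h => h2 h.symm, ?_, ?_, fun v hv => ?_⟩
    · rw [sq]
      apply Subtype.ext
      simp
    · refine ⟨fun n hn x => ?_⟩
      obtain ⟨k, rfl⟩ := Subgroup.mem_zpowers_iff.1 hn
      rw [← conj_zpow]
      refine Subgroup.zpow_mem _ ?_ k
      have : x * -1 * x⁻¹ = (-1 : Matrix.SpecialLinearGroup (Fin 2) (ZMod p)) := by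
        rw [mul_neg, mul_one, neg_mul, mul_inv_cancel]
      rw [this]
      exact Subgroup.mem_zpowers _
    · have hv' := congrArg Multiplicative.toAdd hv
      simp only [matAct, toAdd_ofAdd, Matrix.SpecialLinearGroup.coe_neg,
        Matrix.SpecialLinearGroup.coe_one, Matrix.neg_mulVec, Matrix.one_mulVec] at hv'
      apply Multiplicative.toAdd.injective
      funext i
      have h := congrFun hv' i
      have h20 : (2 : ZMod p) ≠ 0 := by
        intro h0
        exact h2 ((Nat.prime_dvd_prime_iff_eq hp.1 Nat.prime_two).1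
          ((ZMod.natCast_eq_zero_iff 2 p).1 (by exact_mod_cast h0)))
      refine (mul_eq_zero.1 (?_ : (2 : ZMod p) * v.toAdd i = 0)).resolve_left h20
      rw [two_mul]
      exact eq_neg_iff_add_eq_zero.1 h.symm

/-- `matAct g` as a homomorphism. -/
def matHom (g : SL2) : F2 →* F2 := MonoidHom.mk' (matAct g) (matAct_map_mul g)

/-- The elements of the group together with the matrix they induce on the quotient. -/
def qdGraph {L : Type*} [Group L] (V : Subgroup L) (φ : V →* Multiplicative (Fin 2 → ZMod p)) :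
    Subgroup (L × Matrix.SpecialLinearGroup (Fin 2) (ZMod p)) where
  carrier := {x | x.1 ∈ Subgroup.normalizer (V : Set L) ∧
    ∀ (v : V) (h : x.1 * v * x.1⁻¹ ∈ V), φ ⟨_, h⟩ = matAct x.2 (φ v)}
  one_mem' := ⟨Subgroup.one_mem _, fun v h => by
    rw [Prod.snd_one, matAct_one]
    exact congrArg φ (Subtype.ext (by simp))⟩
  mul_mem' := by
    rintro ⟨x, g⟩ ⟨y, k⟩ ⟨hx, hxg⟩ ⟨hy, hyk⟩
    refine ⟨Subgroup.mul_mem _ hx hy, fun v h => ?_⟩
    have hv : y * v * y⁻¹ ∈ V := (Subgroup.mem_normalizer_iff.1 hy v).1 v.2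
    show φ _ = matAct (g * k) (φ v)
    rw [matAct_mul, ← hyk v hv, ← hxg ⟨_, hv⟩ ((Subgroup.mem_normalizer_iff.1 hx _).1 hv)]
    exact congrArg φ (Subtype.ext (by simp [mul_assoc]))
  inv_mem' := by
    rintro ⟨x, g⟩ ⟨hx, hxg⟩
    refine ⟨Subgroup.inv_mem _ hx, fun v h => ?_⟩
    have hv : x * (x⁻¹ * v * x⁻¹⁻¹) * x⁻¹ = v := by simp [mul_assoc]
    have := hxg ⟨_, h⟩ (show x * (x⁻¹ * v * x⁻¹⁻¹) * x⁻¹ ∈ V by rw [hv]; exact v.2)
    show φ _ = matAct g⁻¹ (φ v)
    rw [(congrArg φ (Subtype.ext hv.symm)).trans this, ← matAct_mul, inv_mul_cancel, matAct_one]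

theorem involves_of_grpQdWitness {L : Type*} [Group L] [Finite L] [Fact p.Prime]
    (h : GrpQdWitness L p) : Involves ↥(qd p) L := by
  obtain ⟨V, -, φ, hφ, hA⟩ := h
  obtain ⟨z, q, hq, hqp, hzq, hzn, hzfix⟩ := exists_normal_fpf p
  haveI := Fact.mk hq
  let Γ := qdGraph V φ
  let ρ : Γ →* SL2 := (MonoidHom.snd _ _).comp Γ.subtype
  have hρ : Function.Surjective ρ := fun g => by
    obtain ⟨α, ⟨x, hx⟩, hαg⟩ := hA g
    refine ⟨⟨(x, g), mem_normalizer_of_innerBy hx, fun v h => ?_⟩, rfl⟩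
    show φ _ = matAct g (φ v)
    rw [← hαg]
    exact congrArg φ (Subtype.ext (hx v).symm)
  let J : Subgroup Γ := (Subgroup.zpowers z).comap ρ
  haveI : J.Normal := hzn.comap ρ
  let fJ : J →* Subgroup.zpowers z := (ρ.comp J.subtype).codRestrict _ fun x => x.2
  have hfJ : Function.Surjective fJ := by
    rintro ⟨g, hg⟩
    obtain ⟨x, rfl⟩ := hρ g
    exact ⟨⟨x, hg⟩, rfl⟩
  have hzp : IsPGroup q (Subgroup.zpowers z) := fun x => ⟨1, Subtype.ext (by
    obtain ⟨k, hk⟩ := Subgroup.mem_zpowers_iff.1 x.2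
    rw [pow_one, SubmonoidClass.coe_pow, ← hk, OneMemClass.coe_one, ← zpow_natCast, ← _root_.zpow_mul,
      mul_comm, _root_.zpow_mul, zpow_natCast, hzq, _root_.one_zpow])⟩
  obtain ⟨T₂⟩ : Nonempty (Sylow q J) := inferInstance
  have hT₂ := sylow_map_eq_top hzp T₂ hfJ
  set T : Subgroup Γ := (T₂ : Subgroup J).map J.subtype with hT
  let H := Subgroup.normalizer (T : Set Γ)
  obtain ⟨t, htT, htz⟩ : ∃ t ∈ T, ρ t = z := by
    obtain ⟨x, hx, hxz⟩ : (⟨z, Subgroup.mem_zpowers z⟩ : Subgroup.zpowers z) ∈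
        (T₂ : Subgroup J).map fJ := by rw [hT₂]; exact Subgroup.mem_top _
    exact ⟨x, Subgroup.mem_map_of_mem _ hx, congrArg Subtype.val hxz⟩
  have hH : ∀ g, ∃ h ∈ H, ρ h = g := fun g => by
    obtain ⟨x, rfl⟩ := hρ g
    have hx' : x ∈ H ⊔ J := by
      show x ∈ Subgroup.normalizer (T : Set Γ) ⊔ J
      rw [hT, T₂.normalizer_sup_eq_top]; exact Subgroup.mem_top x
    obtain ⟨n, hn, j, hj, rfl⟩ := Subgroup.mem_sup_of_normal_right.1 hx'
    obtain ⟨k, hk⟩ := Subgroup.mem_zpowers_iff.1 hj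
    refine ⟨n * t ^ k, H.mul_mem hn (H.zpow_mem (Subgroup.le_normalizer htT) k), ?_⟩
    rw [map_mul, map_mul, map_zpow, htz, hk]
  have hfix : ∀ h ∈ H, ∀ hv : h.1.1 ∈ V, φ ⟨_, hv⟩ = 1 ∧ h.1.2 = 1 := by
    intro h hh hv
    refine ⟨(hzfix _ ?_), eq_of_matAct_eq fun w => ?_⟩
    swap
    · obtain ⟨u, rfl⟩ := hφ w
      have hu : h.1.1 * u * h.1.1⁻¹ ∈ V := V.mul_mem (V.mul_mem hv u.2) (V.inv_mem hv)
      rw [← h.2.2 u hu, matAct_one,
        show (⟨_, hu⟩ : V) = ⟨_, hv⟩ * u * ⟨_, hv⟩⁻¹ from rfl, map_mul, map_mul, map_inv,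
        mul_inv_cancel_comm]
    set v : V := ⟨h.1.1, hv⟩ with hvdef
    have hcT : h * t * h⁻¹ * t⁻¹ ∈ T :=
      T.mul_mem ((Subgroup.mem_normalizer_iff.1 hh t).1 htT) (T.inv_mem htT)
    have ht' : t.1.1 * ((v⁻¹ : V) : L) * t.1.1⁻¹ ∈ V :=
      (Subgroup.mem_normalizer_iff.1 t.2.1 _).1 (v⁻¹ : V).2
    set c : V := v * ⟨_, ht'⟩ with hc
    have hc1 : (c : L) = (h * t * h⁻¹ * t⁻¹).1.1 := by
      simp [hc, hvdef, mul_assoc]
    obtain ⟨k, hk⟩ := (T₂.2.map J.subtype) ⟨_, hcT⟩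
    have hck : c ^ q ^ k = 1 := Subtype.ext (by
      rw [SubmonoidClass.coe_pow, hc1, OneMemClass.coe_one]
      have := congrArg (fun y : T => y.1.1.1) hk
      simpa using this)
    have h1 : φ c = 1 := by
      obtain ⟨j, hj⟩ := isPGroup_vec p (φ c)
      refine orderOf_eq_one_iff.1 (Nat.eq_one_of_dvd_coprimes
        (Nat.Coprime.pow j k ((Nat.coprime_primes Fact.out hq).2 (Ne.symm hqp)))
        (orderOf_dvd_of_pow_eq_one hj) (orderOf_dvd_of_pow_eq_one ?_))
      rw [← map_pow, hck, map_one]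
    rw [hc, map_mul, t.2.2 v⁻¹ ht', show t.1.2 = z from htz,
      show matAct z (φ v⁻¹) = (matAct z (φ v))⁻¹ from by
        rw [map_inv]; exact map_inv (matHom z) (φ v),
      mul_inv_eq_one] at h1
    exact h1.symm
  let Δ : Subgroup (L × qd p) :=
    { carrier := {y | ∃ v : V, ∃ h ∈ H, y.1 = v * h.1.1 ∧ y.2 = qdTrans p (φ v) * qdLift p h.1.2}
      one_mem' := ⟨1, 1, H.one_mem, by simp, by simp⟩
      mul_mem' := by
        rintro ⟨a, b⟩ ⟨a', b'⟩ ⟨v, h, hh, rfl, rfl⟩ ⟨v', h', hh', rfl, rfl⟩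
        have hv' : h.1.1 * v' * h.1.1⁻¹ ∈ V := (Subgroup.mem_normalizer_iff.1 h.2.1 _).1 v'.2
        refine ⟨v * ⟨_, hv'⟩, h * h', H.mul_mem hh hh', ?_, ?_⟩
        · simp [mul_assoc]
        · have hc := qdTrans_conj (qdLift p h.1.2) (φ v')
          rw [qdBlock_lift, ← h.2.2 v' hv'] at hc
          rw [map_mul φ, map_mul (qdTrans p), ← hc]
          simp [mul_assoc]
      inv_mem' := by
        rintro ⟨a, b⟩ ⟨v, h, hh, rfl, rfl⟩
        have hv' : (h⁻¹).1.1 * ((v⁻¹ : V) : L) * (h⁻¹).1.1⁻¹ ∈ V :=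
          (Subgroup.mem_normalizer_iff.1 (h⁻¹).2.1 _).1 (v⁻¹ : V).2
        refine ⟨⟨_, hv'⟩, h⁻¹, H.inv_mem hh, ?_, ?_⟩
        · simp [mul_assoc]
        · have hc := qdTrans_conj (qdLift p (h⁻¹).1.2) (φ v⁻¹)
          rw [qdBlock_lift, ← (h⁻¹).2.2 v⁻¹ hv'] at hc
          rw [← hc]
          simp [mul_assoc] }
  let fst : Δ →* L := (MonoidHom.fst _ _).comp Δ.subtype
  have hinj : Function.Injective fst := (injective_iff_map_eq_one fst).2 fun y hy => by
    obtain ⟨v, h, hh, h1, h2⟩ := y.2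
    have hv : h.1.1 = ((v⁻¹ : V) : L) := by
      rw [Subgroup.coe_inv, ← mul_eq_one_iff_inv_eq.1 (h1.symm.trans hy)]
    obtain ⟨hφv, hh2⟩ := hfix h hh (hv ▸ (v⁻¹ : V).2)
    rw [show (⟨h.1.1, _⟩ : V) = v⁻¹ from Subtype.ext hv, map_inv, inv_eq_one] at hφv
    refine Subtype.ext (Prod.ext hy ?_)
    rw [h2, hφv, hh2, map_one, map_one, one_mul]
    rfl
  refine (Invol.IsSectionOf.involves ⟨fst.range,
    ((MonoidHom.snd _ _).comp Δ.subtype).comp (MonoidHom.ofInjective hinj).symm.toMonoidHom, ?_⟩)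
  have hsnd : Function.Surjective ((MonoidHom.snd _ _).comp Δ.subtype) := ?_
  · exact hsnd.comp (MonoidHom.ofInjective hinj).symm.surjective
  intro x
  obtain ⟨h, hh, hhx⟩ := hH (qdBlock p x)
  obtain ⟨v, hv⟩ := hφ (Multiplicative.ofAdd ![x.1.1 0 2, x.1.1 1 2])
  refine ⟨⟨(v * h.1.1, x), v, h, hh, rfl, ?_⟩, rfl⟩
  show x = _
  rw [hv, show h.1.2 = qdBlock p x from hhx]
  exact qd_decomp x

theorem involves_qd_iff {L : Type*} [Group L] [Finite L] [Fact p.Prime] :
    Involves ↥(qd p) L ↔ GrpQdWitness L p :=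
  ⟨grpQdWitness_of_involves, involves_of_grpQdWitness⟩

end Cfsg.Agent.Fus
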