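import Mathlib
import Cfsg.Agent.S0183
import Cfsg.Agent.S0731
import Cfsg.Agent.S0727
import Cfsg.Agent.Lib.Invol.StronglyEmbeddedCount
import Cfsg.Agent.Lib.Grp.SchurZassenhaus

/-!
Finite simple groups with abelian centralisers: the centraliser of an involution has a normaliser
acting as a point stabiliser of a Zassenhaus group.
-/

set_option autoImplicit false
set_option linter.unusedSectionVars false
set_option linter.style.haveILetI false

namespace Cfsg.Agent.Fus.CTSimple

open MulAction Subgroup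

universe u

/-- Commuting is transitive on non-identity elements. -/
def IsCT (G : Type*) [Group G] : Prop :=
  ∀ a b c : G, a ≠ 1 → b ≠ 1 → c ≠ 1 → Commute a b → Commute b c → Commute a c

theorem IsCT.of_equiv {G H : Type*} [Group G] [Group H] (e : G ≃* H) (h : IsCT H) : IsCT G := by
  intro a b c ha hb hc hab hbc
  have := h (e a) (e b) (e c) (by simpa using ha) (by simpa using hb) (by simpa using hc)
    (hab.map e) (hbc.map e)
  simpa using this.map e.symm

theorem IsCT.commute {G : Type*} [Group G] (h : IsCT G) {a x y : G} (ha : a ≠ 1) (hx : Commute x a)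
    (hy : Commute y a) : Commute x y := by
  by_cases hx1 : x = 1
  · exact hx1 ▸ Commute.one_left y
  by_cases hy1 : y = 1
  · exact hy1 ▸ Commute.one_right x
  exact h x a y hx1 ha hy1 hx hy.symm

theorem IsCT.isCN {G : Type*} [Group G] [Finite G] (h : IsCT G) : Cfsg.IsCNGroup G := by
  intro g hg
  haveI : IsMulCommutative (centralizer ({g} : Set G)) :=
    ⟨⟨fun a b => Subtype.ext (h.commute hg (mem_centralizer_singleton_iff.mp a.2)
      (mem_centralizer_singleton_iff.mp b.2))⟩⟩
  open scoped IsMulCommutative in infer_instance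

variable {G : Type u} [Group G] [Finite G]

theorem exists_central_involution (hct : IsCT G) [hs : IsSimpleGroup G] (hna : ¬ IsMulCommutative G) :
    ∃ (t : G) (S : Sylow 2 G), orderOf t = 2 ∧ t ∈ (S : Subgroup G) ∧
      ∀ s ∈ (S : Subgroup G), Commute s t := by
  have hev : 2 ∣ Nat.card G := by
    by_contra h
    haveI := S0183.result (Nat.not_even_iff_odd.mp (fun e => h (even_iff_two_dvd.mp e))) hct.isCN
    exact hna ⟨⟨fun a b => IsSimpleGroup.comm_iff_isSolvable.mpr this a b⟩⟩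
  obtain ⟨S⟩ : Nonempty (Sylow 2 G) := inferInstance
  have h2 : 2 ∣ Nat.card (S : Subgroup G) := S.dvd_card_of_dvd_card hev
  haveI : Nontrivial (S : Subgroup G) := Finite.one_lt_card_iff_nontrivial.mp
    (lt_of_lt_of_le one_lt_two (Nat.le_of_dvd Nat.card_pos h2))
  have hc : Nontrivial (center (S : Subgroup G)) := S.isPGroup'.center_nontrivial
  obtain ⟨k, hk0, hk⟩ := (S.isPGroup'.to_subgroup (center (S : Subgroup G))).nontrivial_iff_card.mp hc
  obtain ⟨z, hz⟩ := exists_prime_orderOf_dvd_card' (G := center (S : Subgroup G)) 2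
    (hk ▸ dvd_pow_self 2 (by omega))
  refine ⟨(z : (S : Subgroup G)), S, ?_, (z : (S : Subgroup G)).2, fun s hs => ?_⟩
  · rw [orderOf_coe, orderOf_coe, hz]
  · exact congrArg Subtype.val (mem_center_iff.mp z.2 ⟨s, hs⟩)

/-- The centraliser of the involution. -/
abbrev A (t : G) : Subgroup G := centralizer ({t} : Set G)

/-- The normaliser of the centraliser of the involution. -/
abbrev M (t : G) : Subgroup G := normalizer (A t : Set G)

omit [Finite G] in
theorem mem_A {t x : G} : x ∈ A t ↔ Commute x t := mem_centralizer_singleton_iff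

omit [Finite G] in
theorem A_le_M {t : G} : A t ≤ M t := le_normalizer

/-- An involution whose centraliser is abelian, contains a Sylow 2-subgroup and contains the
centralisers of its involutions. -/
structure Pre (t : G) (S : Sylow 2 G) : Prop where
  ht : orderOf t = 2
  sle : (S : Subgroup G) ≤ A t
  comm : ∀ x y, x ∈ A t → y ∈ A t → Commute x y
  invC : ∀ i, i ∈ A t → orderOf i = 2 → ∀ x, Commute x i → x ∈ A t

/-- Non-trivial elements of the centraliser lie in one conjugate of the point stabiliser. -/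
structure Cfg (t : G) (S : Sylow 2 G) : Prop extends Pre t S where
  ne_top : M t ≠ ⊤
  one_lt : 1 < ((A t).subgroupOf (M t)).index
  fix : ∀ a ∈ A t, a ≠ 1 → ∀ g : G, g⁻¹ * a * g ∈ M t → g ∈ M t

namespace Pre

variable {t : G} {S : Sylow 2 G} (c : Pre t S)
include c

theorem ht1 : t ≠ 1 := Invol.ne_one_of_orderOf_two c.ht

theorem t_mem : t ∈ A t := mem_A.mpr (Commute.refl t)

theorem S_le : (S : Subgroup G) ≤ A t := c.sle

theorem conj_mem_A {m x : G} (hm : m ∈ M t) (hx : x ∈ A t) : m * x * m⁻¹ ∈ A t :=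
  (mem_normalizer_iff.mp hm x).mp hx

theorem mem_M_of_inv {g i : G} (hi : i ∈ A t) (hi2 : orderOf i = 2) (hg : g * i * g⁻¹ ∈ A t) :
    g ∈ M t := by
  refine mem_normalizer_iff.mpr fun x => ⟨fun hx => ?_, fun hx => ?_⟩
  · exact c.invC _ hg (by rw [Invol.orderOf_conj_eq, hi2]) _
      (by simpa using (c.comm _ _ hx hi).map (MulAut.conj g))
  · refine c.invC _ hi hi2 _ ?_
    simpa [mul_assoc] using (c.comm _ _ hx hg).map (MulAut.conj g⁻¹)

theorem mem_S {y : G} (hy : y ∈ normalizer ((S : Subgroup G) : Set G))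
    (h2 : IsPGroup 2 (zpowers y)) : y ∈ (S : Subgroup G) := by
  have h := h2.to_sup_of_normal_right' S.isPGroup' (zpowers_le.mpr hy)
  exact (S.is_maximal' h le_sup_right).le (mem_sup_left (mem_zpowers y))

theorem A_le_normalizer_S : A t ≤ normalizer ((S : Subgroup G) : Set G) := by
  intro a ha
  refine mem_normalizer_iff.mpr fun x => ⟨fun hx => ?_, fun hx => ?_⟩
  · rwa [(c.comm _ _ ha (c.sle hx)).eq, mul_inv_cancel_right]
  · have e := c.comm _ _ (inv_mem ha) (c.sle hx)
    have : x = a * x * a⁻¹ := by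
      calc x = a⁻¹ * (a * x * a⁻¹) * a := by group
        _ = a * x * a⁻¹ := by rw [e.eq, inv_mul_cancel_right]
    rwa [this]

theorem conj_mem_S {m x : G} (hm : m ∈ M t) (hx : x ∈ (S : Subgroup G)) :
    m * x * m⁻¹ ∈ (S : Subgroup G) := by
  refine c.mem_S (c.A_le_normalizer_S (c.conj_mem_A hm (c.sle hx))) ?_
  have h := (S.isPGroup'.to_le (zpowers_le.mpr hx)).map (MulAut.conj m).toMonoidHom
  rwa [MonoidHom.map_zpowers] at h

theorem M_le_normalizer_S : M t ≤ normalizer ((S : Subgroup G) : Set G) := fun m hm =>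
  mem_normalizer_iff.mpr fun x => ⟨c.conj_mem_S hm, fun hx => by
    simpa [mul_assoc] using c.conj_mem_S (inv_mem hm) hx⟩

theorem inv_mem_A {i : G} (hi : i ∈ M t) (hi2 : orderOf i = 2) : i ∈ A t :=
  c.sle (c.mem_S (c.M_le_normalizer_S hi)
    (IsPGroup.of_card (n := 1) (by rw [Nat.card_zpowers, hi2, pow_one])))

theorem even_M : Even (Nat.card (M t)) := by
  rw [even_iff_two_dvd, ← c.ht, ← orderOf_mk t (A_le_M c.t_mem)]
  exact orderOf_dvd_natCard _

theorem t_mem_S : t ∈ (S : Subgroup G) :=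
  c.mem_S (c.A_le_normalizer_S c.t_mem)
    (IsPGroup.of_card (n := 1) (by rw [Nat.card_zpowers, c.ht, pow_one]))

theorem normalizer_S_le : normalizer ((S : Subgroup G) : Set G) ≤ M t := fun n hn =>
  c.mem_M_of_inv c.t_mem c.ht (c.sle ((mem_normalizer_iff.mp hn t).mp c.t_mem_S))

theorem se (hne : M t ≠ ⊤) : Cfsg.IsStronglyEmbedded (M t) := by
  rw [Invol.isStronglyEmbedded_iff hne c.even_M]
  intro i hi hi2 g hg
  have h2 : orderOf (g⁻¹ * i * g) = 2 := by
    rw [← hi2, ← Invol.orderOf_conj_eq g⁻¹ i, inv_inv]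
  have h := c.mem_M_of_inv (g := g⁻¹) (c.inv_mem_A hi hi2) hi2
    (by rw [inv_inv]; exact c.inv_mem_A hg h2)
  exact inv_mem_iff.mp h

variable (hcent : ∀ a x, a ∈ A t → a ≠ 1 → Commute x a → x ∈ A t)
include hcent

theorem prime_mem_A {m : G} (hm : m ∈ M t) {p : ℕ} [Fact p.Prime] (hp : p ∣ Nat.card (A t))
    (ho : orderOf m = p) : m ∈ A t := by
  let φ : zpowers m →* MulAut (A t) := (normalizerMonoidHom (A t)).comp (inclusion (zpowers_le.mpr hm))
  letI : MulAction (zpowers m) (A t) := MulAction.compHom _ φ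
  have hP : IsPGroup p (zpowers m) := IsPGroup.of_card (n := 1) (by rw [Nat.card_zpowers, ho, pow_one])
  obtain ⟨b, hb, hb1⟩ := hP.exists_fixed_point_of_prime_dvd_card_of_fixed_point (A t) hp
    (a := (1 : A t)) (fun g => map_one (φ g))
  have h := congrArg Subtype.val (hb ⟨m, mem_zpowers m⟩)
  change m * (b : G) * m⁻¹ = b at h
  exact hcent _ _ b.2 (fun e => hb1 (Subtype.ext e.symm)) (mul_inv_eq_iff_eq_mul.mp h)

theorem mem_A_of_not_coprime {m : G} (hm : m ∈ M t)
    (h : ¬ (orderOf m).Coprime (Nat.card (A t))) : m ∈ A t := by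
  obtain ⟨p, hp, hpm, hpA⟩ := Nat.Prime.not_coprime_iff_dvd.mp h
  haveI := Fact.mk hp
  have ho : orderOf (m ^ (orderOf m / p)) = p := by
    rw [orderOf_pow_of_dvd (Nat.div_ne_zero_iff.mpr ⟨hp.ne_zero,
      Nat.le_of_dvd (orderOf_pos m) hpm⟩) (Nat.div_dvd_of_dvd hpm),
      Nat.div_div_self hpm (orderOf_pos m).ne']
  refine hcent _ _ (c.prime_mem_A hcent (pow_mem hm _) hpA ho) ?_ (Commute.self_pow m _)
  intro e; rw [e, orderOf_one] at ho; exact hp.ne_one ho.symm

theorem mem_A_of_orderOf_dvd {m : G} (hm : m ∈ M t) (h : orderOf m ∣ Nat.card (A t)) : m ∈ A t := by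
  by_cases h1 : orderOf m = 1
  · rw [orderOf_eq_one_iff.mp h1]; exact one_mem _
  · exact c.mem_A_of_not_coprime hcent hm fun hc => h1 (Nat.eq_one_of_dvd_coprimes hc dvd_rfl h)

theorem coprime : (Nat.card (A t)).Coprime ((A t).subgroupOf (M t)).index := by
  refine Nat.coprime_of_dvd fun p hp hpA hpi => ?_
  haveI := Fact.mk hp
  rw [index_eq_card] at hpi
  obtain ⟨q, hq⟩ := exists_prime_orderOf_dvd_card' (G := M t ⧸ (A t).subgroupOf (M t)) p hpi
  obtain ⟨m, rfl⟩ := QuotientGroup.mk_surjective q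
  have hd : p ∣ orderOf (m : G) := by
    rw [orderOf_coe, ← hq]
    exact orderOf_map_dvd (QuotientGroup.mk' _) m
  have hmA := c.mem_A_of_not_coprime hcent m.2 (Nat.Prime.not_coprime_iff_dvd.mpr ⟨p, hp, hd, hpA⟩)
  have h1 : (QuotientGroup.mk m : M t ⧸ (A t).subgroupOf (M t)) = 1 :=
    (QuotientGroup.eq_one_iff m).mpr hmA
  rw [h1, orderOf_one] at hq
  exact hp.ne_one hq.symm

theorem mem_M_of_conj {g a : G} (ha : a ∈ A t) (ha1 : a ≠ 1) (hg : g * a * g⁻¹ ∈ A t) : g ∈ M t := by
  refine mem_normalizer_iff.mpr fun x => ⟨fun hx => ?_, fun hx => ?_⟩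
  · exact hcent _ _ hg (conj_eq_one_iff.not.mpr ha1)
      (by simpa using (c.comm _ _ hx ha).map (MulAut.conj g))
  · refine hcent _ _ ha ha1 ?_
    simpa [mul_assoc] using (c.comm _ _ hx hg).map (MulAut.conj g⁻¹)

theorem fix_of_cent {a g : G} (ha : a ∈ A t) (ha1 : a ≠ 1) (hm : g⁻¹ * a * g ∈ M t) : g ∈ M t := by
  have ho : orderOf (g⁻¹ * a * g) = orderOf a := by
    rw [← Invol.orderOf_conj_eq g⁻¹ a, inv_inv]
  have hA := c.mem_A_of_orderOf_dvd hcent hm (by
    rw [ho, ← orderOf_mk a ha]; exact orderOf_dvd_natCard _)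
  exact inv_mem_iff.mp (c.mem_M_of_conj hcent (g := g⁻¹) ha ha1 (by rw [inv_inv]; exact hA))

omit hcent in
theorem h_le_I :
    ((A t).subgroupOf (M t)).index ≤ Nat.card {i : G // orderOf i = 2 ∧ i ∈ M t} := by
  rw [index_eq_card]
  refine Nat.card_le_card_of_injective
    (fun q => (⟨(q.out : G) * t * (q.out : G)⁻¹, by rw [Invol.orderOf_conj_eq, c.ht],
      A_le_M (c.conj_mem_A q.out.2 c.t_mem)⟩ : {i : G // orderOf i = 2 ∧ i ∈ M t})) ?_
  intro q r e
  have e' : (q.out : G) * t * (q.out : G)⁻¹ = (r.out : G) * t * (r.out : G)⁻¹ :=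
    congrArg Subtype.val e
  rw [← QuotientGroup.out_eq' q, ← QuotientGroup.out_eq' r, QuotientGroup.eq]
  show (q.out : G)⁻¹ * (r.out : G) ∈ A t
  refine mem_A.mpr ?_
  calc (q.out : G)⁻¹ * (r.out : G) * t
      = (q.out : G)⁻¹ * ((r.out : G) * t * (r.out : G)⁻¹) * (r.out : G) := by group
    _ = (q.out : G)⁻¹ * ((q.out : G) * t * (q.out : G)⁻¹) * (r.out : G) := by rw [e']
    _ = t * ((q.out : G)⁻¹ * (r.out : G)) := by group

end Pre

/-- A simple group with abelian centralisers gives a configuration. -/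
theorem exists_cfg (hct : IsCT G) [hs : IsSimpleGroup G] (hna : ¬ IsMulCommutative G) :
    ∃ (t : G) (S : Sylow 2 G), Cfg t S := by
  obtain ⟨t, S, ht, htS, hcS⟩ := exists_central_involution hct hna
  have ht1 := Invol.ne_one_of_orderOf_two ht
  have hcent : ∀ a x, a ∈ A t → a ≠ 1 → Commute x a → x ∈ A t := fun a x ha ha1 hx =>
    mem_A.mpr (hct.commute ha1 hx (mem_A.mp ha).symm)
  have c : Pre t S := ⟨ht, fun s hs => mem_A.mpr (hcS s hs),
    fun x y hx hy => hct.commute ht1 (mem_A.mp hx) (mem_A.mp hy),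
    fun i hi hi2 x hx => hcent i x hi (Invol.ne_one_of_orderOf_two hi2) hx⟩
  have hAtop : A t ≠ ⊤ := by
    intro h
    have htc : t ∈ center G := mem_center_iff.mpr fun x => mem_A.mp (h ▸ mem_top x)
    rcases IsSimpleGroup.eq_bot_or_eq_top_of_normal (center G) inferInstance with e | e
    · exact ht1 (Subgroup.mem_bot.mp (e ▸ htc))
    · exact hna ⟨⟨fun a b => mem_center_iff.mp (e ▸ mem_top b) a⟩⟩
  have hMtop : M t ≠ ⊤ := by
    intro h
    haveI : (A t).Normal := normalizer_eq_top_iff.mp h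
    rcases IsSimpleGroup.eq_bot_or_eq_top_of_normal (A t) inferInstance with e | e
    · exact ht1 (Subgroup.mem_bot.mp (e ▸ c.t_mem))
    · exact hAtop e
  refine ⟨t, S, c, hMtop, ?_, fun a ha ha1 g hg => c.fix_of_cent hcent ha ha1 hg⟩
  by_contra hcon
  have h1 : ((A t).subgroupOf (M t)).index = 1 :=
    le_antisymm (not_lt.mp hcon) (Nat.one_le_iff_ne_zero.mpr index_ne_zero_of_finite)
  have hN : normalizer ((S : Subgroup G) : Set G) ≤ centralizer ((S : Subgroup G) : Set G) := by
    intro n hn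
    have hnA : n ∈ A t := (index_eq_one.mp h1).ge (mem_top ⟨n, c.normalizer_S_le hn⟩)
    exact mem_centralizer_iff.mpr fun s hs => (c.comm _ _ (c.sle hs) hnA).eq
  have hK := MonoidHom.ker_transferSylow_isComplement' S hN
  rcases IsSimpleGroup.eq_bot_or_eq_top_of_normal (MonoidHom.transferSylow S hN).ker inferInstance
    with e | e <;> rw [e] at hK
  · exact hAtop (top_le_iff.mp ((isComplement'_bot_left.mp hK).ge.trans c.sle))
  · exact ht1 (Subgroup.mem_bot.mp ((isComplement'_top_left.mp hK).le c.t_mem_S))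

end Cfsg.Agent.Fus.CTSimple
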