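import Mathlib
import Cfsg.Prelude.Def_LieRecognition
import Cfsg.Agent.Lib.Invol.SuzukiTypeA
import Cfsg.Agent.Lib.Lie.FieldAutBasis
import Cfsg.Agent.Lib.Transfer.NormalSteps

/-!
Suzuki 2-groups: the field coordinates on the involutions, fixed-point-freeness of the cyclic
group, invariant complements, and the monomial shape of an equivariant family of endomorphisms.
-/

set_option autoImplicit false
set_option linter.style.haveILetI false

namespace Cfsg.Agent.Fus.Suzuki

open Cfsg.Agent.Invol.TypeA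

section Monomial

open Cfsg.Agent.Lie

/-- If the two twists `x / σ x` and `x / τ x` differ by a field automorphism, then `σ = τ`. -/
theorem twist_unique {F : Type*} [Field F] [Fintype F] [CharP F 2] (σ τ φ : F ≃+* F)
    (hτ : τ ≠ RingEquiv.refl F) (h : ∀ x, φ x * τ x = x * φ (σ x)) : τ = σ := by
  classical
  by_cases hφ : φ = RingEquiv.refl F
  · refine RingEquiv.ext fun x => ?_
    have hx := h x
    rw [hφ, RingEquiv.refl_apply, RingEquiv.refl_apply] at hx
    by_cases h0 : x = 0
    · rw [h0, map_zero, map_zero]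
    · exact mul_left_cancel₀ h0 hx
  exfalso
  let ψ : F ≃+* F := σ.trans φ
  have hψ : ∀ x, ψ x = φ (σ x) := fun x => rfl
  have h20 : (2 : F) = 0 := CharP.cast_eq_zero F 2
  have hlin : ∀ x, φ x + τ x + (x + ψ x) = 0 := by
    intro x
    have h1 := h (x + 1)
    have h2 := h x
    simp only [map_add, map_one, hψ] at h1 ⊢
    linear_combination h1 - h2 + (x + φ (σ x)) * h20
  let c : (F ≃+* F) → F := fun s => (if φ = s then 1 else 0) + (if τ = s then 1 else 0) +
    ((if RingEquiv.refl F = s then 1 else 0) + (if ψ = s then 1 else 0))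
  have hc : ∀ x, ∑ᶠ s : F ≃+* F, c s * s x = 0 := by
    intro x
    have : Fintype (F ≃+* F) := Fintype.ofInjective (fun s : F ≃+* F => (s : F → F))
      DFunLike.coe_injective
    rw [finsum_eq_sum_of_fintype]
    simp only [c, add_mul, Finset.sum_add_distrib, ite_mul, one_mul, zero_mul, Finset.sum_ite_eq,
      Finset.mem_univ, if_true]
    exact hlin x
  have h1 := AutBasis.coeff_zero hc (RingEquiv.refl F)
  simp only [c, if_neg hφ, if_neg hτ, if_pos rfl, zero_add] at h1
  by_cases hψ1 : ψ = RingEquiv.refl F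
  swap
  · simp [if_neg hψ1] at h1
  have hφτ : φ = τ := RingEquiv.ext fun x => by
    have hx := hlin x
    rw [hψ1, RingEquiv.refl_apply, CharTwo.add_self_eq_zero, add_zero] at hx
    exact CharTwo.add_eq_zero.1 hx
  refine hφ (RingEquiv.ext fun x => frobenius_inj F 2 ?_)
  have hx := h x
  rw [← hψ, hψ1, RingEquiv.refl_apply, ← hφτ] at hx
  simpa [frobenius_def, pow_two] using hx

/-- `x ↦ x / σ x` on units, for a fixed-point-free automorphism, is a bijection. -/
theorem twist_bijective {F : Type*} [Field F] [Fintype F] (σ : F ≃+* F)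
    (hσ : ∀ x, σ x = x → x = 0 ∨ x = 1) :
    Function.Bijective fun a : Fˣ => a * (Units.map (σ : F →* F) a)⁻¹ := by
  refine (Finite.injective_iff_bijective).1 fun a b hab => ?_
  have h1 : σ ((a : F) / b) = (a : F) / b := by
    have h2 := congrArg Units.val hab
    simp only [Units.val_mul, Units.val_inv_eq_inv_val, Units.coe_map, MonoidHom.coe_coe] at h2
    have ha : σ (a : F) ≠ 0 := by simp
    have hb : σ (b : F) ≠ 0 := by simp
    rw [map_div₀, div_eq_div_iff hb b.ne_zero]
    field_simp at h2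
    linear_combination h2.symm
  rcases hσ _ h1 with h | h
  · simp at h
  · exact Units.ext ((div_eq_one_iff_eq b.ne_zero).1 h)

end Monomial

variable {P : Type*} [Group P]

/-- A Suzuki 2-group carries the standing hypotheses with field coordinates on its involutions. -/
theorem exists_setting (hP : Cfsg.IsSuzukiTwoGroup P) :
    ∃ (K : Subgroup (MulAut P)) (n : ℕ) (ω : P → GaloisField 2 n) (u : K →* (GaloisField 2 n)ˣ),
      Setting P K n (GaloisField 2 n) ω u := by
  classical
  obtain ⟨hfin, hp, hna, ⟨t₁, t₂, ht12, ht1, ht1', ht2, ht2'⟩, K, hK, hreg⟩ := hP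
  haveI := hfin
  haveI : Fact (Nat.Prime 2) := ⟨Nat.prime_two⟩
  haveI : Nontrivial P := ⟨⟨t₁, 1, ht1⟩⟩
  obtain ⟨z₀, hz₀, hz₀1, hz₀2⟩ : ∃ z ∈ Subgroup.center P, z ≠ 1 ∧ z * z = 1 := by
    have hc := hp.center_nontrivial
    obtain ⟨m, hm⟩ := IsPGroup.iff_card.1 (hp.to_subgroup (Subgroup.center P))
    have h2 : 2 ∣ Nat.card (Subgroup.center P) := by
      have := Finite.one_lt_card_iff_nontrivial.2 hc
      rcases m with _ | m
      · omega
      · exact hm ▸ dvd_pow_self 2 m.succ_ne_zero
    obtain ⟨⟨z, hz⟩, hord⟩ := exists_prime_orderOf_dvd_card' 2 h2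
    rw [Subgroup.orderOf_mk] at hord
    refine ⟨z, hz, ?_, ?_⟩
    · rintro rfl
      rw [orderOf_one] at hord
      omega
    · rw [← pow_two, ← hord, pow_orderOf_eq_one]
  have hcinv : ∀ (k : MulAut P), ∀ z ∈ Subgroup.center P, k z ∈ Subgroup.center P := by
    intro k z hz
    rw [Subgroup.mem_center_iff] at hz ⊢
    intro g
    obtain ⟨g', rfl⟩ := k.surjective g
    rw [← map_mul, hz, map_mul]
  have hcentral : ∀ t : P, t * t = 1 → t ∈ Subgroup.center P := by
    intro t ht
    by_cases h1 : t = 1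
    · rw [h1]; exact one_mem _
    obtain ⟨k, hk, -⟩ := hreg z₀ t hz₀1 hz₀2 h1 ht
    rw [← hk]; exact hcinv _ _ hz₀
  have hKc : ∀ a b : K, a * b = b * a := fun a b => by
    haveI := hK
    letI := IsCyclic.commGroup (α := K)
    exact mul_comm a b
  let Ω : Subgroup P :=
    { carrier := {t | t * t = 1}
      one_mem' := one_mul 1
      mul_mem' := fun {a b} ha hb => by
        show a * b * (a * b) = 1
        rw [← mul_assoc, mul_assoc a b a, Subgroup.mem_center_iff.1 (hcentral a ha) b, ← mul_assoc,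
          show a * a = 1 from ha, one_mul]
        exact hb
      inv_mem' := fun {a} ha => by
        show a⁻¹ * a⁻¹ = 1
        rw [← mul_inv_rev, show a * a = 1 from ha, inv_one] }
  let act : K →* MulAut Ω :=
    { toFun := fun k =>
        { toFun := fun t => ⟨(k : MulAut P) t, by show _ * _ = 1; rw [← map_mul, t.2, map_one]⟩
          invFun := fun t => ⟨(k : MulAut P).symm t, by show _ * _ = 1; rw [← map_mul, t.2, map_one]⟩
          left_inv := fun t => Subtype.ext ((k : MulAut P).symm_apply_apply _)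
          right_inv := fun t => Subtype.ext ((k : MulAut P).apply_symm_apply _)
          map_mul' := fun a b => Subtype.ext (map_mul _ _ _) }
      map_one' := rfl
      map_mul' := fun a b => rfl }
  obtain ⟨n, hn⟩ := IsPGroup.iff_card.1 (hp.to_subgroup Ω)
  have hn2 : 2 ≤ n := by
    by_contra hlt
    have h1 : Nat.card Ω ≤ 2 := by
      rw [hn]; exact (Nat.pow_le_pow_right (by norm_num) (show n ≤ 1 by omega)).trans le_rfl
    have h2 : ({1, t₁, t₂} : Set P).ncard = 3 :=
      Set.ncard_eq_three.2 ⟨1, t₁, t₂, ht1.symm, fun h => ht2 h.symm, ht12, rfl⟩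
    have h3 : ({1, t₁, t₂} : Set P).ncard ≤ (Ω : Set P).ncard := by
      refine Set.ncard_le_ncard ?_
      rintro x (rfl | rfl | rfl)
      · exact Ω.one_mem
      · exact ht1'
      · exact ht2'
    rw [← Nat.card_coe_set_eq (Ω : Set P), SetLike.coe_sort_coe] at h3
    omega
  obtain ⟨φ₀, u, hφb, hub, hφadd, hφeq⟩ := exists_coord act hKc (fun t => Subtype.ext t.2) n
    (by omega) hn (fun x y hx hy => by
      obtain ⟨k, hk, huniq⟩ := hreg x y (fun h => hx (Subtype.ext h)) x.2
        (fun h => hy (Subtype.ext h)) y.2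
      exact ⟨k, Subtype.ext hk, fun k' hk' => huniq k' (congrArg Subtype.val hk')⟩)
  let ω : P → GaloisField 2 n := fun t => if h : t * t = 1 then φ₀ ⟨t, h⟩ else 0
  have hω : ∀ {t : P} (h : t * t = 1), ω t = φ₀ ⟨t, h⟩ := fun {t} h => dif_pos h
  refine ⟨K, n, ω, u, hfin, hp, hcentral, hKc, hreg, hn, hn2, ?_, ?_, ?_, ?_, hub⟩
  · intro x y hx hy
    rw [hω hx, hω hy, hω (Ω.mul_mem (x := x) (y := y) hx hy), ← hφadd]
    rfl
  · intro k x hx
    rw [hω hx, hω (show (k : MulAut P) x * (k : MulAut P) x = 1 by rw [← map_mul, hx, map_one]),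
      ← hφeq]
    rfl
  · intro x y hx hy hxy
    rw [hω hx, hω hy] at hxy
    exact congrArg Subtype.val (hφb.1 hxy)
  · intro v
    obtain ⟨t, ht⟩ := hφb.2 v
    exact ⟨t, t.2, by rw [hω t.2]; exact ht⟩

/-- A subgroup is invariant under the automorphisms in `K`. -/
def Inv (K : Subgroup (MulAut P)) (A : Subgroup P) : Prop :=
  ∀ (k : K), ∀ a ∈ A, (k : MulAut P) a ∈ A

variable {K : Subgroup (MulAut P)} {n : ℕ} {F : Type*} [Field F] {ω : P → F} {u : K →* Fˣ}

theorem inv_apply_iff {A : Subgroup P} (hA : Inv K A) (k : K) {x : P} :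
    (k : MulAut P) x ∈ A ↔ x ∈ A := by
  refine ⟨fun h => ?_, hA k x⟩
  have := hA k⁻¹ _ h
  simpa using this

/-- No non-trivial element of `K` fixes a coset of an invariant subgroup other than itself. -/
theorem mem_of_fix_coset (S : Setting P K n F ω u) {k : K} (hk : k ≠ 1) {A : Subgroup P}
    (hA : Inv K A) {y : P} (hy : y⁻¹ * (k : MulAut P) y ∈ A) : y ∈ A := by
  classical
  haveI := S.fin
  haveI : Finite F := Finite.of_surjective ω fun v => (S.surj v).imp fun x h => h.2
  haveI : Fintype F := Fintype.ofFinite F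
  haveI : Fact (Nat.Prime 2) := ⟨Nat.prime_two⟩
  haveI : Finite K := Finite.of_injective u S.bij.1
  -- a power of prime order fixes the coset
  have hall : ∀ j : ℕ, y⁻¹ * ((k ^ j : K) : MulAut P) y ∈ A := by
    intro j
    induction j with
    | zero => simp
    | succ j ih =>
      rw [pow_succ', Subgroup.coe_mul, MulAut.mul_apply,
        show y⁻¹ * (k : MulAut P) (((k ^ j : K) : MulAut P) y) =
          (y⁻¹ * (k : MulAut P) y) * (k : MulAut P) (y⁻¹ * ((k ^ j : K) : MulAut P) y) by
          rw [map_mul, map_inv]; group]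
      exact A.mul_mem hy (hA k _ ih)
  have hord : orderOf k ≠ 1 := fun h => hk (orderOf_eq_one_iff.1 h)
  obtain ⟨p, hp, d, hd⟩ := Nat.exists_prime_and_dvd hord
  haveI : Fact p.Prime := ⟨hp⟩
  set l := k ^ d with hl
  have hlo : orderOf l = p := by
    rw [hl, orderOf_pow_of_dvd (fun h => (orderOf_pos k).ne' (by rw [hd, h, mul_zero])) ⟨p, by
      rw [hd, mul_comm]⟩, hd, Nat.mul_div_cancel _ (Nat.pos_of_ne_zero fun h =>
      (orderOf_pos k).ne' (by rw [hd, h, mul_zero]))]
  have hpodd : p ≠ 2 := by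
    rintro rfl
    have h1 : 2 ∣ Nat.card Fˣ := by
      rw [← Nat.card_congr (Equiv.ofBijective u S.bij)]
      exact (Dvd.intro d hd.symm).trans (orderOf_dvd_natCard k)
    have h2 : Nat.card F = 2 ^ n := by
      rw [← S.card_inv]
      exact (Nat.card_congr (Equiv.ofBijective (fun t : {t : P // t * t = 1} => ω t)
        ⟨fun a b h => Subtype.ext (S.inj _ _ a.2 b.2 h),
          fun v => let ⟨x, hx, hv⟩ := S.surj v; ⟨⟨x, hx⟩, hv⟩⟩)).symm
    rw [Nat.card_units, h2] at h1
    have : 2 ∣ 2 ^ n := dvd_pow_self 2 (by have := S.two_le; omega)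
    have : 1 ≤ 2 ^ n := Nat.one_le_two_pow
    omega
  let σ : Equiv.Perm A :=
    { toFun := fun a => ⟨y⁻¹ * (l : MulAut P) (y * a), by
        rw [map_mul, ← mul_assoc]; exact A.mul_mem (hall d) (hA l a a.2)⟩
      invFun := fun a => ⟨y⁻¹ * ((l⁻¹ : K) : MulAut P) (y * a), by
        rw [map_mul, ← mul_assoc]
        refine A.mul_mem ?_ (hA l⁻¹ a a.2)
        have h1 := hA l⁻¹ _ (A.inv_mem (hall d))
        rw [mul_inv_rev, inv_inv, map_mul, map_inv, ← hl] at h1
        simpa using h1⟩
      left_inv := fun a => Subtype.ext (by simp)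
      right_inv := fun a => Subtype.ext (by simp) }
  have hpow : ∀ (j : ℕ) (a : A), ((σ ^ j) a : P) = y⁻¹ * ((l ^ j : K) : MulAut P) (y * a) := by
    intro j a
    induction j with
    | zero => simp
    | succ j ih =>
      rw [pow_succ', Equiv.Perm.mul_apply, pow_succ', Subgroup.coe_mul, MulAut.mul_apply]
      show y⁻¹ * (l : MulAut P) (y * ((σ ^ j) a : P)) = _
      rw [ih, mul_inv_cancel_left]
  have hσ : σ ^ p ^ 1 = 1 := Equiv.ext fun a => Subtype.ext (by
    rw [hpow, pow_one, ← hlo, pow_orderOf_eq_one]; simp)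
  haveI : Fintype A := Fintype.ofFinite A
  have hcardA : ¬p ∣ Fintype.card A := by
    rw [← Nat.card_eq_fintype_card]
    obtain ⟨m, hm⟩ := IsPGroup.iff_card.1 (S.pgroup.to_subgroup A)
    rw [hm]
    intro h
    exact hpodd ((Nat.prime_dvd_prime_iff_eq hp Nat.prime_two).1 (hp.dvd_of_dvd_pow h))
  obtain ⟨a, ha⟩ := Equiv.Perm.exists_fixed_point_of_prime hcardA hσ
  have hfix : (l : MulAut P) (y * a) = y * a := by
    have h1 : y⁻¹ * (l : MulAut P) (y * a) = a := congrArg Subtype.val ha
    exact inv_mul_eq_iff_eq_mul.1 h1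
  by_contra hyA
  have hne : y * (a : P) ≠ 1 := fun h => hyA (by
    rw [show y = y * (a : P) * (a : P)⁻¹ by group, h, one_mul]; exact A.inv_mem a.2)
  obtain ⟨m, hm⟩ := IsPGroup.iff_orderOf.1 S.pgroup (y * (a : P))
  rcases m with _ | m
  · exact hne (orderOf_eq_one_iff.1 hm)
  set t := (y * (a : P)) ^ 2 ^ m with ht
  have ht2 : t * t = 1 := by
    rw [ht, ← pow_add, ← two_mul, ← pow_succ', ← hm, pow_orderOf_eq_one]
  have ht1 : t ≠ 1 := by
    intro h
    have := orderOf_dvd_of_pow_eq_one (ht ▸ h)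
    rw [hm, Nat.pow_dvd_pow_iff_le_right (by norm_num)] at this
    omega
  obtain ⟨k', -, huniq⟩ := S.regular t t ht1 ht2 ht1 ht2
  have e1 : l = 1 := (huniq l (by show (l : MulAut P) t = t; rw [ht, map_pow, hfix])).trans
    (huniq 1 (by simp)).symm
  rw [e1, orderOf_one] at hlo
  exact hp.ne_one hlo.symm

/-- A normal subgroup properly containing another contains an element central modulo it, of order
two modulo it. -/
theorem exists_step [Finite P] (hp : IsPGroup 2 P) {A N : Subgroup P} [A.Normal] [N.Normal]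
    (h : A < N) : ∃ y ∈ N, y ∉ A ∧ y * y ∈ A ∧ ∀ g, cm y g ∈ A := by
  haveI : Fact (Nat.Prime 2) := ⟨Nat.prime_two⟩
  obtain ⟨L, hLn, hAL, hLN, hcard, hcom⟩ := Cfsg.Agent.Transfer.NormalSteps.exists_normal_step hp h
  obtain ⟨y, hyL, hyA⟩ := (SetLike.lt_iff_le_and_exists.1 hAL).2
  have hA' : ∀ g, cm y g ∈ A := fun g => by
    have h1 := A.inv_mem (hcom g y hyL)
    rw [commutatorElement_def] at h1
    simpa [cm, mul_assoc] using h1
  refine ⟨y, hLN hyL, hyA, ?_, hA'⟩
  have hidx : (A.subgroupOf L).index = 2 := by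
    have h1 := Subgroup.card_mul_index (A.subgroupOf L)
    rw [Nat.card_congr (Subgroup.subgroupOfEquivOfLe hAL.le).toEquiv, hcard, mul_comm] at h1
    exact Nat.eq_of_mul_eq_mul_right Nat.card_pos h1
  have h2 : (⟨y, hyL⟩ * ⟨y, hyL⟩ : L) ∈ A.subgroupOf L := Subgroup.mul_self_mem_of_index_two hidx _
  exact h2

/-- An invariant proper subgroup of an elementary abelian 2-group with an odd group of
automorphisms misses some non-trivial invariant subgroup. -/
theorem exists_inv_disjoint {V L : Type*} [Group V] [Finite V] [Group L] [Finite L]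
    (hL : Odd (Nat.card L)) (act : L →* MulAut V) (hexp : ∀ v : V, v * v = 1) {N : Subgroup V}
    (hN : ∀ (l : L), ∀ x ∈ N, act l x ∈ N) (hne : N ≠ ⊤) :
    ∃ M : Subgroup V, (∀ (l : L), ∀ x ∈ M, act l x ∈ M) ∧ M ≠ ⊥ ∧ M ⊓ N = ⊥ := by
  classical
  letI : CommGroup V :=
    { (inferInstance : Group V) with
      mul_comm := fun a b => by
        have h := hexp (a * b)
        have ha := inv_eq_of_mul_eq_one_left (hexp a)
        have hb := inv_eq_of_mul_eq_one_left (hexp b)
        rw [← inv_eq_of_mul_eq_one_left h, mul_inv_rev, ha, hb] }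
  letI : Fintype L := Fintype.ofFinite L
  letI : Module (ZMod 2) (Additive V) := AddCommGroup.zmodModule fun x => by
    rw [two_nsmul]; exact hexp x.toMul
  let NS : Submodule (ZMod 2) (Additive V) := AddSubgroup.toZModSubmodule 2 N.toAddSubgroup
  obtain ⟨g, hg⟩ := LinearMap.exists_leftInverse_of_injective NS.subtype (Submodule.ker_subtype _)
  let r : V → V := fun v => ((g (Additive.ofMul v) : NS) : Additive V).toMul
  have hr : ∀ v w, r (v * w) = r v * r w := fun v w => by
    show ((g (Additive.ofMul v + Additive.ofMul w) : NS) : Additive V).toMul = _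
    rw [map_add, Submodule.coe_add, toMul_add]
  have hrN : ∀ v, r v ∈ N := fun v => (g (Additive.ofMul v)).2
  have hrid : ∀ v ∈ N, r v = v := fun v hv => by
    have h1 := LinearMap.congr_fun hg ⟨Additive.ofMul v, hv⟩
    simp only [LinearMap.comp_apply, Submodule.subtype_apply, LinearMap.id_apply] at h1
    show ((g (Additive.ofMul v) : NS) : Additive V).toMul = v
    rw [h1]; rfl
  let R : V →* V := MonoidHom.mk' (fun v => ∏ l : L, act l (r (act l⁻¹ v))) fun v w => by
    simp only [map_mul, hr, Finset.prod_mul_distrib]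
  have hRN : ∀ v, R v ∈ N := fun v => Subgroup.prod_mem _ fun l _ => hN l _ (hrN _)
  have hRid : ∀ v ∈ N, R v = v := by
    intro v hv
    show ∏ l : L, act l (r (act l⁻¹ v)) = v
    rw [Finset.prod_eq_pow_card (b := v) fun l _ => by
      rw [hrid _ (hN _ v hv), ← MulAut.mul_apply, ← map_mul, mul_inv_cancel, map_one,
        MulAut.one_apply]]
    obtain ⟨m, hm⟩ := hL
    rw [Finset.card_univ, ← Nat.card_eq_fintype_card, hm, pow_succ, pow_mul, pow_two, hexp,
      one_pow, one_mul]
  have hReq : ∀ (l : L) v, R (act l v) = act l (R v) := by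
    intro l v
    show ∏ j : L, act j (r (act j⁻¹ (act l v))) = act l (∏ j : L, act j (r (act j⁻¹ v)))
    rw [map_prod]
    refine (Fintype.prod_equiv (Equiv.mulLeft l) _ _ fun j => ?_).symm
    simp [map_mul, mul_assoc]
  refine ⟨R.ker, fun l x hx => ?_, fun hb => hne (eq_top_iff.2 fun x _ => ?_), ?_⟩
  · rw [MonoidHom.mem_ker] at hx ⊢
    rw [hReq, hx, map_one]
  · have h1 : x * (R x)⁻¹ ∈ R.ker := by
      rw [MonoidHom.mem_ker, map_mul, map_inv, hRid _ (hRN x), mul_inv_cancel]
    rw [hb, Subgroup.mem_bot, mul_inv_eq_one] at h1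
    rw [h1]; exact hRN x
  · refine (Subgroup.eq_bot_iff_forall _).2 fun x hx => ?_
    rw [← hRid x hx.2]
    exact hx.1

end Cfsg.Agent.Fus.Suzuki
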