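import Mathlib
import Cfsg.Agent.Lib.Fus.SuzukiTwo

/-!
The order of a Suzuki 2-group: the square of the order of the centre, or the cube.
-/

set_option autoImplicit false
set_option linter.style.haveILetI false

namespace Cfsg.Agent.Fus.Suzuki

open Cfsg.Agent.Invol.TypeA

/-- A map whose third difference vanishes is a polynomial of degree at most two. -/
theorem exists_quadratic_poly : ∀ (m : ℕ) (g : (Fin m → ZMod 2) → ZMod 2), g 0 = 0 →
    (∀ x y z, g (x + y + z) + g (x + y) + g (x + z) + g (y + z) + g x + g y + g z = 0) →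
    ∃ p : MvPolynomial (Fin m) (ZMod 2), p.totalDegree ≤ 2 ∧ ∀ a, MvPolynomial.eval a p = g a := by
  intro m
  induction m with
  | zero =>
    intro g h0 _
    exact ⟨0, by simp, fun a => by rw [map_zero, ← h0]; congr; exact Subsingleton.elim _ _⟩
  | succ m ih =>
    intro g h0 h3
    let g0 : (Fin m → ZMod 2) → ZMod 2 := fun a => g (Fin.cons 0 a)
    let e : Fin (m + 1) → ZMod 2 := Fin.cons 1 0
    have hcons : ∀ (x y : ZMod 2) (a b : Fin m → ZMod 2),
        (Fin.cons x a : Fin (m + 1) → ZMod 2) + Fin.cons y b = Fin.cons (x + y) (a + b) :=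
      fun x y a b => by
        funext i
        refine Fin.cases ?_ (fun j => ?_) i <;> simp
    have hz : (Fin.cons 0 0 : Fin (m + 1) → ZMod 2) = 0 := by
      funext i
      refine Fin.cases ?_ (fun j => ?_) i <;> simp
    obtain ⟨p0, hp0, hp0e⟩ := ih g0 (by simp only [g0, hz, h0]) fun x y z => by
      have := h3 (Fin.cons 0 x) (Fin.cons 0 y) (Fin.cons 0 z)
      simpa [g0, hcons] using this
    let l : (Fin m → ZMod 2) →+ ZMod 2 := AddMonoidHom.mk'
      (fun a => g (Fin.cons 1 a) + g (Fin.cons 0 a) + g e) fun a b => by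
        have h1 := h3 e (Fin.cons 0 a) (Fin.cons 0 b)
        simp only [e, hcons, add_zero, zero_add] at h1
        have h2 : (2 : ZMod 2) = 0 := rfl
        show g (Fin.cons 1 (a + b)) + g (Fin.cons 0 (a + b)) + g e = _
        linear_combination h1 - (g (Fin.cons 1 a) + g (Fin.cons 1 b) + g (Fin.cons 0 a) +
          g (Fin.cons 0 b) + g e) * h2
    let p : MvPolynomial (Fin (m + 1)) (ZMod 2) := MvPolynomial.rename Fin.succ p0 +
      MvPolynomial.X 0 * (MvPolynomial.C (g e) +
        ∑ i : Fin m, MvPolynomial.C (l (Pi.single i 1)) * MvPolynomial.X i.succ)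
    refine ⟨p, ?_, fun a => ?_⟩
    · refine (MvPolynomial.totalDegree_add _ _).trans (max_le
        ((MvPolynomial.totalDegree_rename_le _ _).trans hp0) ?_)
      refine (MvPolynomial.totalDegree_mul _ _).trans ?_
      rw [MvPolynomial.totalDegree_X]
      suffices h : (MvPolynomial.C (g e) + ∑ i : Fin m, MvPolynomial.C (l (Pi.single i 1)) *
          MvPolynomial.X i.succ : MvPolynomial (Fin (m + 1)) (ZMod 2)).totalDegree ≤ 1 by omega
      refine (MvPolynomial.totalDegree_add _ _).trans (max_le (by simp) ?_)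
      refine MvPolynomial.totalDegree_finsetSum_le fun i _ => ?_
      exact (MvPolynomial.totalDegree_mul _ _).trans (by simp [MvPolynomial.totalDegree_X])
    · obtain ⟨x, b, rfl⟩ : ∃ x b, a = Fin.cons x b := ⟨a 0, Fin.tail a, (Fin.cons_self_tail a).symm⟩
      have hlin : ∑ i : Fin m, l (Pi.single i 1) * b i = l b := by
        have hb : b = ∑ i, Pi.single i (b i) := (Finset.univ_sum_single b).symm
        conv_rhs => rw [hb, map_sum]
        refine Finset.sum_congr rfl fun i _ => ?_
        rcases (by decide : ∀ t : ZMod 2, t = 0 ∨ t = 1) (b i) with h | h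
        · simp [h]
        · simp [h]
      have heval : MvPolynomial.eval (Fin.cons x b : Fin (m + 1) → ZMod 2) p =
          g0 b + x * (g e + l b) := by
        simp only [p, map_add, map_mul, map_sum, MvPolynomial.eval_rename, MvPolynomial.eval_X,
          MvPolynomial.eval_C, Fin.cons_zero, Fin.cons_succ, hlin]
        congr 1
        rw [← hp0e]
        rfl
      rw [heval]
      rcases (by decide : ∀ t : ZMod 2, t = 0 ∨ t = 1) x with rfl | rfl
      · simp [g0]
      · have h2 : (2 : ZMod 2) = 0 := rfl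
        show g (Fin.cons 0 b) + 1 * (g e + (g (Fin.cons 1 b) + g (Fin.cons 0 b) + g e)) = _
        linear_combination (g e + g (Fin.cons 0 b)) * h2

/-- A quadratic map to a space of less than half the dimension has a non-trivial zero. -/
theorem exists_quadratic_zero {m n : ℕ} (hmn : 2 * n < m)
    (q : (Fin m → ZMod 2) → Fin n → ZMod 2) (h0 : q 0 = 0)
    (h3 : ∀ x y z, q (x + y + z) + q (x + y) + q (x + z) + q (y + z) + q x + q y + q z = 0) :
    ∃ a, a ≠ 0 ∧ q a = 0 := by
  classical
  choose p hpd hpe using fun i : Fin n => exists_quadratic_poly m (fun a => q a i)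
    (congrFun h0 i) fun x y z => congrFun (h3 x y z) i
  have hdeg : (∑ i, (p i).totalDegree) < Fintype.card (Fin m) := by
    rw [Fintype.card_fin]
    calc (∑ i, (p i).totalDegree) ≤ ∑ _i : Fin n, 2 := Finset.sum_le_sum fun i _ => hpd i
      _ = 2 * n := by rw [Finset.sum_const, Finset.card_univ, Fintype.card_fin, smul_eq_mul, mul_comm]
      _ < m := hmn
  have hdvd := char_dvd_card_solutions_of_fintype_sum_lt (σ := Fin m) (K := ZMod 2) 2 hdeg
  by_contra hcon
  push Not at hcon
  have hone : Nat.card { x : Fin m → ZMod 2 // ∀ i, MvPolynomial.eval x (p i) = 0 } = 1 := by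
    refine Nat.card_eq_one_iff_exists.2 ⟨⟨0, fun i => by rw [hpe]; exact congrFun h0 i⟩, fun x => ?_⟩
    refine Subtype.ext (by_contra fun hx => hcon x.1 hx (funext fun i => ?_))
    rw [← hpe]; exact x.2 i
  simp only [Fintype.card_eq_nat_card] at hdvd
  rw [hone] at hdvd
  omega

variable {P : Type*} [Group P]

/-- The order of a Suzuki 2-group. -/
theorem card_of_isSuzuki (hP : Cfsg.IsSuzukiTwoGroup P) :
    Nat.card P = Nat.card (Subgroup.center P) ^ 2 ∨ Nat.card P = Nat.card (Subgroup.center P) ^ 3 := by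
  classical
  obtain ⟨hcen, hZ2, hsq, hcm⟩ := structure_of_isSuzuki P hP
  obtain ⟨K, n, ω, u, S⟩ := exists_setting hP
  obtain ⟨-, -, hna, -⟩ := id hP
  haveI := S.fin
  haveI : Fact (Nat.Prime 2) := ⟨Nat.prime_two⟩
  set Z := Subgroup.center P with hZdef
  have hZcard : Nat.card Z = 2 ^ n := by
    rw [← S.card_inv]
    exact Nat.card_congr
      { toFun := fun z => ⟨z.1, hZ2 z.1 z.2⟩, invFun := fun t => ⟨t.1, hcen t.1 t.2⟩,
        left_inv := fun _ => rfl, right_inv := fun _ => rfl }
  have hsqZ : ∀ x : P, x * x ∈ Z := fun x => hcen _ (hsq x)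
  have hcmZ : ∀ x y : P, cm x y ∈ Z := fun x y => hcen _ (hcm x y)
  have hexp : ∀ c : P ⧸ Z, c * c = 1 := fun c => by
    obtain ⟨x, rfl⟩ := QuotientGroup.mk_surjective c
    rw [← QuotientGroup.mk_mul, QuotientGroup.eq_one_iff]
    exact hsqZ x
  obtain ⟨m, hm⟩ := IsPGroup.iff_card.1 (S.pgroup.to_quotient Z)
  have hPcard : Nat.card P = 2 ^ m * 2 ^ n := by
    rw [Subgroup.card_eq_card_quotient_mul_card_subgroup Z, hm, hZcard]
  have hm0 : m ≠ 0 := by
    rintro rfl
    obtain ⟨a, b, hab⟩ := hna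
    refine hab (Subgroup.mem_center_iff.1 ?_ a)
    rw [pow_zero] at hm
    exact (QuotientGroup.eq_one_iff b).1
      ((Nat.card_eq_one_iff_unique.1 hm).1.elim (b : P ⧸ Z) 1)
  -- divisibility
  have hKinv : Inv K Z := fun k z hz => hcen _ (by rw [← map_mul, hZ2 z hz, map_one])
  haveI : Finite (GaloisField 2 n) := Finite.of_surjective ω fun v => (S.surj v).imp fun x h => h.2
  haveI : Finite K := Finite.of_injective u S.bij.1
  have hKcard : Nat.card K = 2 ^ n - 1 := by
    rw [Nat.card_congr (Equiv.ofBijective u S.bij), Nat.card_units,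
      GaloisField.card 2 n (by have := S.two_le; omega)]
  let α := {c : P ⧸ Z // c ≠ 1}
  let act : K →* MulAut (P ⧸ Z) :=
    { toFun := fun k => QuotientGroup.congr Z Z (k : MulAut P) (by
        refine le_antisymm ?_ fun z hz => ?_
        · rintro _ ⟨z, hz, rfl⟩; exact hKinv k z hz
        · exact ⟨(k : MulAut P).symm z, (inv_apply_iff hKinv k).1 (by
            rw [MulEquiv.apply_symm_apply]; exact hz), (k : MulAut P).apply_symm_apply z⟩)
      map_one' := MulEquiv.ext fun c => by
        obtain ⟨x, rfl⟩ := QuotientGroup.mk_surjective c; rfl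
      map_mul' := fun a b => MulEquiv.ext fun c => by
        obtain ⟨x, rfl⟩ := QuotientGroup.mk_surjective c; rfl }
  letI : MulAction K α :=
    { smul := fun k c => ⟨act k c.1, fun h => c.2 ((act k).injective (h.trans (map_one _).symm))⟩
      one_smul := fun c => Subtype.ext (by show act 1 c.1 = c.1; rw [map_one]; rfl)
      mul_smul := fun a b c => Subtype.ext (by
        show act (a * b) c.1 = act a (act b c.1); rw [map_mul]; rfl) }
  have hstab : ∀ c : α, MulAction.stabilizer K c = ⊥ := by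
    intro c
    refine (Subgroup.eq_bot_iff_forall _).2 fun k hk => by_contra fun hk1 => ?_
    obtain ⟨x, hx⟩ := QuotientGroup.mk_surjective c.1
    have h1 : act k c.1 = c.1 := congrArg Subtype.val (MulAction.mem_stabilizer_iff.1 hk)
    rw [← hx] at h1
    refine c.2 ?_
    rw [← hx, QuotientGroup.eq_one_iff]
    refine mem_of_fix_coset S hk1 hKinv ?_
    exact QuotientGroup.eq.1 h1.symm
  have hdvd : 2 ^ n - 1 ∣ 2 ^ m - 1 := by
    have h1 := Nat.card_congr (MulAction.selfEquivOrbitsQuotientProd hstab)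
    rw [Nat.card_prod, hKcard] at h1
    have h2 : Nat.card α = 2 ^ m - 1 := by
      haveI := Fintype.ofFinite (P ⧸ Z)
      rw [Nat.card_eq_fintype_card, Fintype.card_subtype_compl, Fintype.card_subtype_eq,
        ← Nat.card_eq_fintype_card, hm]
    exact ⟨_, h2 ▸ h1.trans (mul_comm _ _)⟩
  have hnm : n ∣ m := by
    have h1 := Nat.gcd_eq_left hdvd
    rw [Nat.pow_sub_one_gcd_pow_sub_one] at h1
    have h2 : 1 ≤ 2 ^ n := Nat.one_le_two_pow
    have h3 : 1 ≤ 2 ^ n.gcd m := Nat.one_le_two_pow
    have h4 : n.gcd m = n := Nat.pow_right_injective le_rfl (by omega : 2 ^ n.gcd m = 2 ^ n)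
    exact h4 ▸ Nat.gcd_dvd_right n m
  -- the bound
  have hle : m ≤ 2 * n := by
    by_contra hlt
    letI : CommGroup (P ⧸ Z) :=
      { (inferInstance : Group (P ⧸ Z)) with
        mul_comm := fun a b => by
          have h := hexp (a * b)
          have ha := inv_eq_of_mul_eq_one_left (hexp a)
          have hb := inv_eq_of_mul_eq_one_left (hexp b)
          rw [← inv_eq_of_mul_eq_one_left h, mul_inv_rev, ha, hb] }
    letI : Module (ZMod 2) (Additive (P ⧸ Z)) := AddCommGroup.zmodModule fun x => by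
      rw [two_nsmul]; exact hexp x.toMul
    letI : Algebra (ZMod 2) (GaloisField 2 n) := inferInstance
    have hd : Module.finrank (ZMod 2) (Additive (P ⧸ Z)) = m := by
      have h1 := Module.natCard_eq_pow_finrank (K := ZMod 2) (V := Additive (P ⧸ Z))
      rw [Nat.card_zmod, show Nat.card (Additive (P ⧸ Z)) = 2 ^ m from hm] at h1
      exact (Nat.pow_right_injective le_rfl h1).symm
    have hdF : Module.finrank (ZMod 2) (GaloisField 2 n) = n :=
      GaloisField.finrank 2 (by have := S.two_le; omega)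
    let bV := (Module.finBasisOfFinrankEq (ZMod 2) (Additive (P ⧸ Z)) hd).equivFun
    let bF := (Module.finBasisOfFinrankEq (ZMod 2) (GaloisField 2 n) hdF).equivFun
    let Q : P → GaloisField 2 n := fun x => ω (x * x)
    have hQwd : ∀ x y : P, (x : P ⧸ Z) = y → Q x = Q y := by
      intro x y h
      have hz := QuotientGroup.eq.1 h
      show ω _ = ω _
      rw [show y = x * (x⁻¹ * y) by group, mul_assoc x (x⁻¹ * y), ← mul_assoc (x⁻¹ * y) x,
        ← Subgroup.mem_center_iff.1 hz x, mul_assoc x (x⁻¹ * y) (x⁻¹ * y), hZ2 _ hz, mul_one]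
    have hQadd : ∀ x y, Q (x * y) = Q x + Q y + ω (cm y x) := by
      intro x y
      show ω _ = ω _ + ω _ + _
      rw [show x * y * (x * y) = x * cm y x * x⁻¹ * (x * x) * (y * y) by simp only [cm]; group,
        Subgroup.mem_center_iff.1 (hcmZ y x) x, mul_inv_cancel_right,
        S.add _ _ (hZ2 _ (Z.mul_mem (hcmZ y x) (hsqZ x))) (hsq y), S.add _ _ (hcm y x) (hsq x)]
      ring
    have hcml : ∀ x y z, ω (cm z (x * y)) = ω (cm z x) + ω (cm z y) := fun x y z => by
      rw [cm_mul_right (hcmZ z y), S.add _ _ (hcm z x) (hcm z y)]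
    let pr : (Fin m → ZMod 2) → P := fun a => ((bV.symm a).toMul : P ⧸ Z).out
    have hpr : ∀ a, ((pr a : P) : P ⧸ Z) = (bV.symm a).toMul := fun a => QuotientGroup.out_eq' _
    let q : (Fin m → ZMod 2) → Fin n → ZMod 2 := fun a => bF (Q (pr a))
    have hpradd : ∀ a b, Q (pr (a + b)) = Q (pr a * pr b) := fun a b => hQwd _ _ (by
      rw [QuotientGroup.mk_mul, hpr, hpr, hpr, map_add, toMul_add])
    have hQ1 : Q 1 = 0 := by show ω _ = 0; rw [mul_one, S.omega_one]
    have hq0 : Q (pr 0) = 0 := (hQwd _ 1 (by rw [hpr, map_zero]; rfl)).trans hQ1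
    obtain ⟨a, ha, hqa⟩ := exists_quadratic_zero (m := m) (n := n) (by omega) q
      (by show bF _ = 0; rw [hq0, map_zero]) (fun x y z => by
        show bF _ + bF _ + bF _ + bF _ + bF _ + bF _ + bF _ = 0
        simp only [← map_add]
        rw [← map_zero bF]
        congr 1
        have e1 : Q (pr (x + y + z)) = Q (pr x * pr y * pr z) := hQwd _ _ (by
          rw [QuotientGroup.mk_mul, QuotientGroup.mk_mul, hpr, hpr, hpr, hpr, bV.symm.map_add,
            bV.symm.map_add, toMul_add, toMul_add])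
        rw [e1, hpradd, hpradd, hpradd, hQadd (pr x * pr y), hQadd (pr x) (pr y),
          hQadd (pr x) (pr z), hQadd (pr y) (pr z), hcml]
        have h2 : (2 : GaloisField 2 n) = 0 := CharP.cast_eq_zero (GaloisField 2 n) 2
        linear_combination (2 * Q (pr x) + 2 * Q (pr y) + 2 * Q (pr z) + ω (cm (pr y) (pr x)) +
          ω (cm (pr z) (pr x)) + ω (cm (pr z) (pr y))) * h2)
    have h1 : Q (pr a) = 0 := bF.injective (hqa.trans (map_zero bF).symm)
    have h2 := hcen _ ((S.omega_eq_zero (hsq (pr a))).1 h1)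
    rw [← QuotientGroup.eq_one_iff, hpr] at h2
    exact ha (bV.symm.injective (h2.trans (map_zero bV.symm).symm))
  obtain ⟨j, rfl⟩ := hnm
  have h2 := S.two_le
  have hj : j = 1 ∨ j = 2 := by
    have hj0 : j ≠ 0 := fun h => hm0 (by rw [h, mul_zero])
    have : j ≤ 2 := Nat.le_of_mul_le_mul_left (by linarith) (by omega : 0 < n)
    omega
  rcases hj with rfl | rfl
  · left; rw [hPcard, hZcard, mul_one, pow_two]
  · right; rw [hPcard, hZcard, ← pow_mul, ← pow_add]; congr 1

/-- A Suzuki 2-group has exponent four. -/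
theorem exponent_of_isSuzuki (hP : Cfsg.IsSuzukiTwoGroup P) : Monoid.exponent P = 4 := by
  classical
  obtain ⟨hcen, hZ2, hsq, hcm⟩ := structure_of_isSuzuki P hP
  have hdvd : Monoid.exponent P ∣ 2 ^ 2 := Monoid.exponent_dvd_of_forall_pow_eq_one fun x => by
    rw [show (2 : ℕ) ^ 2 = 2 + 2 from rfl, pow_add, pow_two]; exact hsq x
  obtain ⟨i, hi, he⟩ := (Nat.dvd_prime_pow Nat.prime_two).1 hdvd
  rcases (show i ≤ 1 ∨ i = 2 by omega) with h | rfl
  swap
  · rw [he]; norm_num
  exfalso
  obtain ⟨a, b, hab⟩ := hP.2.2.1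
  refine hab (Subgroup.mem_center_iff.1 (hcen b ?_) a)
  have h2 : b ^ 2 = 1 := by
    obtain ⟨d, hd⟩ : Monoid.exponent P ∣ 2 := by
      rw [he]
      calc 2 ^ i ∣ 2 ^ 1 := Nat.pow_dvd_pow 2 (by omega)
        _ = 2 := pow_one 2
    rw [hd, pow_mul, Monoid.pow_exponent_eq_one, one_pow]
  rwa [pow_two] at h2

end Cfsg.Agent.Fus.Suzuki
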