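import Cfsg.Agent.Lib.Fus.GroupLocal
import Cfsg.Prelude.Def_EvenType

/-!
Strongly `p`-embedded subgroups: elementary consequences of the definition.
-/

set_option autoImplicit false
set_option linter.style.haveILetI false

open scoped Classical

namespace Cfsg.Agent.Fus

open Subgroup

variable {X : Type*} [Group X] [Finite X] {p : ℕ} [Fact p.Prime]

theorem not_pRankLE_zero {Q : Subgroup X} (hQ : IsPGroup p Q) (hne : Q ≠ ⊥) :
    ¬ PRankLE p 0 Q := by
  intro h
  haveI : Nontrivial Q := Q.nontrivial_iff_ne_bot.2 hne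
  obtain ⟨n, hn⟩ := hQ.exists_card_eq
  obtain ⟨a, ha⟩ : ∃ a : Q, orderOf a = p := by
    refine exists_prime_orderOf_dvd_card' p ?_
    rw [hn]
    refine dvd_pow_self p fun h0 => ?_
    rw [h0, pow_zero] at hn
    exact (Finite.one_lt_card (α := Q)).ne' hn
  have h1 := h (Subgroup.zpowers a) inferInstance (by
    rintro _ ⟨i, rfl⟩
    show (a ^ i) ^ p = 1
    rw [← zpow_natCast, ← zpow_mul, mul_comm, zpow_mul, zpow_natCast, ← ha, pow_orderOf_eq_one,
      one_zpow])
  rw [Nat.card_zpowers, ha, pow_zero] at h1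
  exact absurd h1 (not_le.2 (Fact.out : p.Prime).one_lt)

omit [Finite X] [Fact p.Prime] in
theorem kGeneratedCore_one_le {P Y : Subgroup X}
    (h : ∀ Q ≤ P, Q ≠ ⊥ → Subgroup.normalizer (Q : Set X) ≤ Y) : kGeneratedCore p 1 P ≤ Y := by
  refine iSup_le fun Q => h _ Q.2.1 fun hbot => Q.2.2 ?_
  intro A _ _
  have : Subsingleton (Q : Subgroup X) := by
    rw [hbot]
    infer_instance
  rw [pow_zero]
  exact Nat.card_unique (α := A) |>.le

theorem normalizer_le_of_kGeneratedCore {P : Subgroup X} (hP : IsPGroup p P) {Y : Subgroup X}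
    (hY : kGeneratedCore p 1 P ≤ Y) {Q : Subgroup X} (hQ : Q ≤ P) (hne : Q ≠ ⊥) :
    Subgroup.normalizer (Q : Set X) ≤ Y :=
  le_trans (le_iSup (fun Q : {Q : Subgroup X // Q ≤ P ∧ ¬ PRankLE p (1 - 1) Q} =>
    Subgroup.normalizer ((Q : Subgroup X) : Set X))
      ⟨Q, hQ, by simpa using not_pRankLE_zero (hP.to_le hQ) hne⟩) hY

/-- An element carrying a nontrivial subgroup of `P` into `P` lies in a subgroup containing
`Γ_{P,1}`. -/
theorem mem_of_conj_le_sylow (P : Sylow p X) {Y : Subgroup X}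
    (hY : kGeneratedCore p 1 (P : Subgroup X) ≤ Y) :
    ∀ {R : Subgroup X} {β : X}, R ≤ P → R ≠ ⊥ → R.map (MulAut.conj β).toMonoidHom ≤ P → β ∈ Y := by
  intro R
  induction hn : Nat.card (P : Subgroup X) - Nat.card R using Nat.strong_induction_on
    generalizing R with
  | _ n ih =>
    intro β hR hne hβR
    have hinj : ∀ {K : Subgroup X} {g : X}, K ≠ ⊥ → K.map (MulAut.conj g).toMonoidHom ≠ ⊥ :=
      fun hK h => hK ((Subgroup.map_eq_bot_iff_of_injective _ (MulAut.conj _).injective).1 h)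
    rcases hR.eq_or_lt with rfl | hlt
    · refine normalizer_le_of_kGeneratedCore P.2 hY le_rfl hne ?_
      have heq := Subgroup.eq_of_le_of_card_ge hβR (card_conjMap _ _).ge
      refine mem_normalizer_of_forall (fun x hx => heq.le ⟨x, hx, rfl⟩) fun x hx => ?_
      obtain ⟨y, hy, hyx⟩ := heq.ge hx
      have hyx : β * y * β⁻¹ = x := hyx
      rw [← hyx, show β⁻¹ * (β * y * β⁻¹) * β = y by group]
      exact hy
    · have hPY : (P : Subgroup X) ≤ Y := fun x hx =>
        normalizer_le_of_kGeneratedCore P.2 hY hR hne |> fun _ =>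
          normalizer_le_of_kGeneratedCore P.2 hY le_rfl
            (fun h => hne (le_bot_iff.1 (h ▸ hR))) (Subgroup.le_normalizer hx)
      have hsylY : IsSylowOf p (P : Subgroup X) Y := IsSylowOf.of_card_le hPY P.2
        fun A _ hAp hle => (Subgroup.eq_of_le_of_card_ge hle
          ((isSylowOf_top P).card_le hAp le_top)).ge
      obtain ⟨N, hNdef⟩ : ∃ N, N = FusionSystem.normalizerIn (P : Subgroup X) R := ⟨_, rfl⟩
      have hN : R < N := hNdef ▸ lt_normalizerIn P.2 hlt
      have hNY : N.map (MulAut.conj β).toMonoidHom ≤ Y :=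
        (conjMap_mem_normalizer (hNdef.le.trans inf_le_right)).trans
          (normalizer_le_of_kGeneratedCore P.2 hY hβR (hinj hne))
      obtain ⟨e, he, hle⟩ := hsylY.exists_conj_le ((P.2.to_le (hNdef.le.trans inf_le_left)).map _) hNY
      rw [conjMap_comp] at hle
      have h1 := card_lt_of_lt hN
      have h2 : Nat.card N ≤ Nat.card (P : Subgroup X) :=
        Subgroup.card_le_of_le (hNdef.le.trans inf_le_left)
      have := ih (Nat.card (P : Subgroup X) - Nat.card N) (by omega) rfl (hNdef.le.trans inf_le_left) (fun h => hne (le_bot_iff.1 (h ▸ hN.le))) hle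
      simpa using Y.mul_mem (Y.inv_mem he) this

end Cfsg.Agent.Fus
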