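import Cfsg.Agent.Lib.Fus.AbelianInvCent
import Cfsg.Agent.Lib.Classical.SLTwoSylow
import Cfsg.Agent.Lib.Classical.SLNormal
import Cfsg.Agent.Lib.Invol.OneInvol

/-!
A group in which involution centralisers are abelian, with non-cyclic and non-normal Sylow
2-subgroups, is `SL(2, 2^n)` times an abelian group of odd order.
-/

set_option autoImplicit false
set_option linter.unusedSectionVars false
set_option linter.style.haveILetI false

namespace Cfsg.Agent.Fus.AbInv

open MulAction Subgroup CTSimple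
open scoped commutatorElement
open Cfsg.Agent.Fus.CTSimple.Cfg (x0 P smul_x0_iff stab_x0)

universe u

/-- The conclusion: a product of `PSL(2, 2^f)` and the centre. -/
def Str (G : Type u) [Group G] : Prop :=
  ∃ (F : Type) (_ : Field F) (_ : Fintype F) (f : ℕ), 2 ≤ f ∧ Fintype.card F = 2 ^ f ∧
    Nonempty (G ≃* Matrix.ProjectiveSpecialLinearGroup (Fin 2) F × center G)

variable {G : Type u} [Group G] [Finite G]

section Core

variable {t : G} {S : Sylow 2 G} (c : Pre t S) (hne : M t ≠ ⊤) (hAI : AI G)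
include c hne

theorem exists_conj_outside {i : G} (hi : orderOf i = 2) (hiM : i ∉ M t) {s : G}
    (hs : orderOf s = 2) (hsM : s ∈ M t) : ∃ m : G, orderOf m = 2 ∧ m * s * m⁻¹ = i := by
  obtain ⟨h, hh⟩ := Invol.exists_fixed (c.se hne) hi
  obtain ⟨m, hm, e, -⟩ := Invol.exists_swap (c.se hne) hs hi (g := 1) (h := h)
    (by simpa using hsM) hh (fun hM => hiM (by
      have hh' : h ∈ M t := by simpa using hM
      simpa [mul_assoc] using mul_mem (mul_mem hh' hh) (inv_mem hh')))
  exact ⟨m, hm, e⟩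

theorem exists_ne : ∃ y : G ⧸ M t, y ≠ x0 t := by
  obtain ⟨g, -, hg⟩ := SetLike.exists_of_lt (lt_top_iff_ne_top.mpr hne)
  exact ⟨(g : G ⧸ M t), fun e => hg (inv_mem_iff.mp (by simpa using QuotientGroup.eq.mp e))⟩

include hAI

/-- A normal subgroup inside the normaliser of the centraliser is central. -/
theorem normal_le_center {N : Subgroup G} [hN : N.Normal] (hNM : N ≤ M t) : N ≤ center G := by
  have hno : ∀ i ∈ N, orderOf i ≠ 2 := by
    intro i hi hi2
    have hfix : ∀ y : G ⧸ M t, i • y = y := fun y => by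
      obtain ⟨g, rfl⟩ := QuotientGroup.mk_surjective y
      refine Invol.smul_coset_eq_iff.mpr (hNM ?_)
      have := hN.conj_mem i hi g⁻¹
      rwa [inv_inv] at this
    obtain ⟨y, hy⟩ := exists_ne c hne
    exact hy (fix_inv c hne hi2 (hfix _) (hfix _))
  have hA : ∀ k ∈ N, k ∈ A t := by
    intro k hk
    have hq : k * t * k⁻¹ * t⁻¹ ∈ N := by
      rw [show k * t * k⁻¹ * t⁻¹ = k * (t * k⁻¹ * t⁻¹) by group]
      exact mul_mem hk (hN.conj_mem _ (inv_mem hk) t)
    have hc := c.comm _ _ (c.conj_mem_A (hNM hk) c.t_mem) (inv_mem c.t_mem)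
    have hsq : k * t * k⁻¹ * t⁻¹ * (k * t * k⁻¹ * t⁻¹) = 1 := by
      rw [Invol.inv_of_orderOf_two c.ht] at hc ⊢
      have ht := Invol.mul_self_of_orderOf_two c.ht
      calc k * t * k⁻¹ * t * (k * t * k⁻¹ * t)
          = k * t * k⁻¹ * (t * (k * t * k⁻¹)) * t := by group
        _ = k * t * k⁻¹ * ((k * t * k⁻¹) * t) * t := by rw [hc.eq]
        _ = k * (t * t) * k⁻¹ * (t * t) := by group
        _ = 1 := by simp [ht]
    by_cases h1 : k * t * k⁻¹ * t⁻¹ = 1
    · exact mem_A.mpr (mul_inv_eq_iff_eq_mul.mp (mul_inv_eq_one.mp h1))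
    · exact absurd (Invol.orderOf_two_iff.mpr ⟨hsq, h1⟩) (hno _ hq)
  have hall : ∀ k ∈ N, ∀ i : G, orderOf i = 2 → Commute i k := by
    intro k hk i hi
    obtain ⟨g, hg⟩ := _root_.isConj_iff.mp (Invol.isConj_involutions (c.se hne) c.ht hi)
    have h := (mem_A.mp (hA _ (hN.conj_mem k hk g⁻¹))).map (MulAut.conj g)
    rw [← hg]
    simpa [mul_assoc] using h.symm
  intro k hk
  refine mem_center_iff.mpr fun g => ?_
  show Commute g k
  set i := g * t * g⁻¹ with hi
  have hi2 : orderOf i = 2 := by rw [hi, Invol.orderOf_conj_eq, c.ht]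
  have key : ∀ m : G, m * t * m⁻¹ = i → Commute m k → Commute g k := by
    intro m hm hmk
    have hA' : m⁻¹ * g ∈ A t := mem_A.mpr (by
      show m⁻¹ * g * t = t * (m⁻¹ * g)
      calc m⁻¹ * g * t = m⁻¹ * (g * t * g⁻¹) * g := by group
        _ = m⁻¹ * (m * t * m⁻¹) * g := by rw [← hi, hm]
        _ = t * (m⁻¹ * g) := by group)
    have := hmk.mul_left (c.comm _ _ hA' (hA k hk))
    rwa [mul_inv_cancel_left] at this
  by_cases hiM : i ∈ M t
  · obtain ⟨u, hu, huM⟩ := exists_outside c hne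
    obtain ⟨m₁, hm₁, e₁⟩ := exists_conj_outside c hne hu huM c.ht (A_le_M c.t_mem)
    obtain ⟨m₂, hm₂, e₂⟩ := exists_conj_outside c hne hu huM hi2 hiM
    refine key (m₂⁻¹ * m₁) ?_ (((hall k hk m₂ hm₂).inv_left).mul_left (hall k hk m₁ hm₁))
    calc m₂⁻¹ * m₁ * t * (m₂⁻¹ * m₁)⁻¹ = m₂⁻¹ * (m₁ * t * m₁⁻¹) * m₂ := by group
      _ = i := by rw [e₁, ← e₂]; group
  · obtain ⟨m, hm, e⟩ := exists_conj_outside c hne hi2 hiM c.ht (A_le_M c.t_mem)
    exact key m e (hall k hk m hm)

omit hAI in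
theorem center_le : center G ≤ A t := fun z hz => mem_A.mpr (mem_center_iff.mp hz t).symm

theorem center_odd {z : G} (hz : z ∈ center G) : orderOf z ≠ 2 := fun h2 => by
  refine hne (eq_top_iff.mpr fun g _ => mem_normalizer_iff.mpr fun x => ?_)
  have hall : ∀ a b : G, Commute a b := fun a b =>
    hAI z h2 a b (mem_center_iff.mp hz a) (mem_center_iff.mp hz b)
  rw [(hall g x).eq, mul_inv_cancel_right]

theorem commute_of_quot {x y : G} (hy : orderOf y = 2)
    (h : Commute (x : G ⧸ center G) (y : G ⧸ center G)) : Commute x y := by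
  set z := x * y * x⁻¹ * y⁻¹ with hz
  have hzc : z ∈ center G := (QuotientGroup.eq_one_iff z).mp (by
    rw [hz, QuotientGroup.mk_mul, QuotientGroup.mk_mul, QuotientGroup.mk_mul, h.eq,
      QuotientGroup.mk_inv, QuotientGroup.mk_inv, mul_inv_cancel_right, mul_inv_cancel])
  have hyy := Invol.mul_self_of_orderOf_two hy
  have hxy : x * y * x⁻¹ = z * y := by rw [hz]; group
  have hz2 : z * z = 1 := by
    have h1 : z * y * (z * y) = 1 := by
      rw [← hxy]
      calc x * y * x⁻¹ * (x * y * x⁻¹) = x * (y * y) * x⁻¹ := by group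
        _ = 1 := by rw [hyy, mul_one, mul_inv_cancel]
    calc z * z = z * (y * y) * z := by rw [hyy, mul_one]
      _ = z * y * (y * z) := by group
      _ = z * y * (z * y) := by rw [mem_center_iff.mp hzc y]
      _ = 1 := h1
  have hz1 : z = 1 := by
    by_contra h1
    exact center_odd c hne hAI hzc (Invol.orderOf_two_iff.mpr ⟨hz2, h1⟩)
  rw [hz1, one_mul] at hxy
  exact mul_inv_eq_iff_eq_mul.mp hxy

end Core

/-- In `PSL(2, 2^f)` no subgroup of odd order conjugates all involutions transitively. -/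
theorem no_odd_transitive {L : Type u} [Group L] [Finite L] {t : L} {S : Sylow 2 L} (c : Cfg t S)
    (D : Subgroup L) (hD : Odd (Nat.card D))
    (htr : ∀ i : L, orderOf i = 2 → ∃ d ∈ D, d * t * d⁻¹ = i) : False := by
  classical
  haveI := Fintype.ofFinite (L ⧸ M t)
  haveI : Fact (Nat.Prime 2) := ⟨Nat.prime_two⟩
  obtain ⟨y₁, hy₁⟩ := c.exists_ne
  have hDA : ∀ d ∈ D, d ∈ A t → d = 1 := by
    intro d hd hdA
    by_contra h1
    have h2 := c.all_inv d hdA h1
    refine Nat.not_even_iff_odd.mpr hD (even_iff_two_dvd.mpr ?_)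
    rw [← h2, ← orderOf_mk d hd]
    exact orderOf_dvd_natCard _
  -- the subgroup of `D` fixing the base point is a complement
  set D₀ := D ⊓ M t with hD₀
  have hle₀ : D₀ ≤ M t := inf_le_right
  let N := (A t).subgroupOf (M t)
  have hcard : Nat.card (D₀.subgroupOf (M t)) = N.index := by
    rw [index_eq_card]
    refine Nat.card_eq_of_bijective
      (fun d => (QuotientGroup.mk (d : M t) : M t ⧸ N)) ⟨fun d e h => ?_, fun q => ?_⟩
    · simp only [QuotientGroup.eq] at h
      have h1 := hDA _ (mul_mem (inv_mem d.2.1) e.2.1) h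
      exact Subtype.ext (Subtype.ext (inv_mul_eq_one.mp h1))
    · obtain ⟨m, rfl⟩ := QuotientGroup.mk_surjective q
      have hm := c.toPre.conj_mem_A m.2 c.toPre.t_mem
      obtain ⟨d, hd, e⟩ := htr _ (show orderOf ((m : L) * t * (m : L)⁻¹) = 2 by
        rw [Invol.orderOf_conj_eq, c.ht])
      have hdM : d ∈ M t := c.toPre.mem_M_of_inv c.toPre.t_mem c.ht (e ▸ hm)
      refine ⟨⟨⟨d, hdM⟩, hd, hdM⟩, ?_⟩
      simp only [QuotientGroup.eq]
      show d⁻¹ * (m : L) ∈ A t
      refine mem_A.mpr ?_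
      show d⁻¹ * (m : L) * t = t * (d⁻¹ * (m : L))
      calc d⁻¹ * (m : L) * t = d⁻¹ * ((m : L) * t * (m : L)⁻¹) * (m : L) := by group
        _ = d⁻¹ * (d * t * d⁻¹) * (m : L) := by rw [e]
        _ = t * (d⁻¹ * (m : L)) := by group
  haveI : IsMulCommutative N := ⟨⟨fun a b => Subtype.ext (Subtype.ext (c.comm _ _ a.2 b.2))⟩⟩
  have hle : P t (x0 t) y₁ ≤ M t := inf_le_left.trans stab_x0.le
  obtain ⟨a, ha, hconj⟩ := Grp.complements_conj_abelian N
    (by rw [Nat.card_congr (subgroupOfEquivOfLe (A_le_M (t := t))).toEquiv]; exact c.coprime)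
    (H := (P t (x0 t) y₁).subgroupOf (M t))
    (by rw [Nat.card_congr (subgroupOfEquivOfLe hle).toEquiv]; exact (c.base hy₁).1) hcard
  set y₀ : L ⧸ M t := (a : L) • y₁ with hy₀def
  have hy₀ : y₀ ≠ x0 t := fun e =>
    hy₁ (MulAction.injective (a : L) (e.trans (smul_x0_iff.mpr a.2).symm))
  have hfix₀ : ∀ d ∈ D, d • x0 t = x0 t → d • y₀ = y₀ := by
    intro d hd hdx
    have hmem : (⟨d, smul_x0_iff.mp hdx⟩ : M t) ∈ D₀.subgroupOf (M t) := ⟨hd, smul_x0_iff.mp hdx⟩
    rw [← hconj] at hmem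
    obtain ⟨p, hp, e⟩ := Subgroup.mem_map.mp hmem
    have e' : (a : L) * (p : L) * (a : L)⁻¹ = d := congrArg Subtype.val e
    have hpy : (p : L) • y₁ = y₁ := hp.2
    rw [hy₀def, ← e', mul_smul, mul_smul, inv_smul_smul, hpy]
  -- `D` is transitive on points
  have htrans : ∀ x : L ⧸ M t, ∃ d ∈ D, d • x0 t = x := by
    intro x
    obtain ⟨g, rfl⟩ := QuotientGroup.mk_surjective x
    obtain ⟨d, hd, e⟩ := htr (g * t * g⁻¹) (by rw [Invol.orderOf_conj_eq, c.ht])
    refine ⟨d, hd, ?_⟩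
    show ((d * 1 : L) : L ⧸ M t) = g
    rw [mul_one, QuotientGroup.eq]
    refine A_le_M (mem_A.mpr ?_)
    show d⁻¹ * g * t = t * (d⁻¹ * g)
    calc d⁻¹ * g * t = d⁻¹ * (g * t * g⁻¹) * g := by group
      _ = d⁻¹ * (d * t * d⁻¹) * g := by rw [e]
      _ = t * (d⁻¹ * g) := by group
  choose δ hδ hδx using htrans
  let f : L ⧸ M t → L ⧸ M t := fun x => δ x • y₀
  let St : L ⧸ M t → Subgroup L := fun x => D ⊓ stabilizer L x
  have hfne : ∀ x, f x ≠ x := fun x e => by
    rw [← hδx x] at e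
    exact hy₀ (MulAction.injective (δ x) (by simpa [f, hδx] using e.trans rfl))
  have hSt : ∀ x, St x ≤ St (f x) := by
    intro x d hd
    have hdx : d • x = x := hd.2
    refine ⟨hd.1, ?_⟩
    have h := hfix₀ ((δ x)⁻¹ * d * δ x) (D.mul_mem (D.mul_mem (D.inv_mem (hδ x)) hd.1) (hδ x))
      (by rw [mul_smul, mul_smul, hδx, hdx, inv_smul_eq_iff, hδx])
    show d • f x = f x
    rw [mul_smul, mul_smul, inv_smul_eq_iff] at h
    exact h
  have hStcard : ∀ x, Nat.card (St x) = Nat.card (St (x0 t)) := by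
    intro x
    have e : St x = (St (x0 t)).map (MulAut.conj (δ x)).toMonoidHom := by
      ext d
      constructor
      · rintro ⟨hd, hdx⟩
        refine ⟨(δ x)⁻¹ * d * δ x, ⟨D.mul_mem (D.mul_mem (D.inv_mem (hδ x)) hd) (hδ x), ?_⟩, ?_⟩
        · show ((δ x)⁻¹ * d * δ x) • x0 t = x0 t
          rw [mul_smul, mul_smul, hδx, show d • x = x from hdx, inv_smul_eq_iff, hδx]
        · show δ x * ((δ x)⁻¹ * d * δ x) * (δ x)⁻¹ = d
          group
      · rintro ⟨e', ⟨he', hex⟩, rfl⟩
        refine ⟨D.mul_mem (D.mul_mem (hδ x) he') (D.inv_mem (hδ x)), ?_⟩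
        show (δ x * e' * (δ x)⁻¹) • x = x
        rw [mul_smul, mul_smul, inv_smul_eq_iff.mpr (hδx x).symm, show e' • x0 t = x0 t from hex, hδx]
    rw [e, Subgroup.card_map_of_injective (MulAut.conj (δ x)).injective]
  have hSteq : ∀ x, St (f x) = St x := fun x =>
    (Subgroup.eq_of_le_of_card_ge (hSt x) (by rw [hStcard, hStcard x])).symm
  have hnt : ∀ x, St x ≠ ⊥ := by
    intro x hb
    have h1 := hStcard x
    rw [hb, card_bot] at h1
    have h2 : St (x0 t) = D₀ := by
      show D ⊓ stabilizer L (x0 t) = D ⊓ M t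
      rw [stab_x0]
    rw [h2, ← Nat.card_congr (subgroupOfEquivOfLe hle₀).toEquiv, hcard] at h1
    have h3 : 1 < N.index := c.one_lt
    omega
  have hinv : Function.Involutive f := by
    intro x
    by_contra hne
    obtain ⟨d, hd, hd1⟩ := (St x).bot_or_exists_ne_one.resolve_left (hnt x)
    refine hd1 (c.free3 d x (f x) (f (f x)) (hfne x).symm (hfne (f x)).symm (fun e => hne e.symm)
      hd.2 (hSt x hd).2 ?_)
    exact (hSt (f x) ((hSteq x).ge hd)).2
  have hodd : ¬ 2 ∣ Fintype.card (L ⧸ M t) := by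
    rw [← Nat.card_eq_fintype_card, c.card_points]
    have := c.two_dvd_card_A
    omega
  obtain ⟨x, hx⟩ := Equiv.Perm.exists_fixed_point_of_prime (p := 2) (n := 1) hodd
    (σ := hinv.toPerm) (Equiv.ext fun x => by
      rw [pow_one, sq]
      exact hinv x)
  exact hfne x hx

section Step

variable (IH : ∀ (U : Subgroup G), U ≠ ⊤ → ∀ (t : U) (S : Sylow 2 U), Pre t S → M t ≠ ⊤ →
  (∃ i ∈ A t, orderOf i = 2 ∧ i ≠ t) → Str U)
variable {t : G} {S : Sylow 2 G} (c : Pre t S) (hne : M t ≠ ⊤) (hAI : AI G)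
variable (hcen : center G = ⊥) (htwo : ∃ i ∈ A t, orderOf i = 2 ∧ i ≠ t)
include IH c hne hAI hcen htwo

theorem cent_le_M : ∀ a ∈ A t, a ≠ 1 → ∀ x : G, Commute x a → x ∈ M t := by
  classical
  intro a ha ha1 x hx
  by_contra hxM
  set U := centralizer ({a} : Set G) with hU
  have hUmem : ∀ {g : G}, g ∈ U ↔ Commute g a := mem_centralizer_singleton_iff
  have hAU : A t ≤ U := fun g hg => hUmem.mpr (c.comm g a hg ha)
  have hUtop : U ≠ ⊤ := fun e => ha1 (Subgroup.mem_bot.mp (hcen ▸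
    mem_center_iff.mpr fun g => hUmem.mp (e ▸ mem_top g)))
  let t' : U := ⟨t, hAU c.t_mem⟩
  let S' : Sylow 2 U := S.subtype (c.sle.trans hAU)
  have ht' : orderOf t' = 2 := by rw [← c.ht]; exact (orderOf_mk t _)
  have hAI' : AI U := hAI.subgroup U
  have c' : Pre t' S' := hAI'.pre ht' fun s hs => Subtype.ext (mem_A.mp (c.sle hs)).eq
  have hne' : M t' ≠ ⊤ := by
    intro e
    have h : (⟨x, hUmem.mpr hx⟩ : U) * t' * (⟨x, hUmem.mpr hx⟩ : U)⁻¹ ∈ A t' :=
      c'.conj_mem_A (e ▸ mem_top _) c'.t_mem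
    exact hxM (c.mem_M_of_inv c.t_mem c.ht (mem_A.mpr ((mem_A.mp h).map U.subtype)))
  obtain ⟨i, hiA, hi, hit⟩ := htwo
  obtain ⟨F, i1, i2, f, hf, hF, ⟨e⟩⟩ := IH U hUtop t' S' c' hne'
    ⟨⟨i, hAU hiA⟩, mem_A.mpr (Subtype.ext (mem_A.mp hiA).eq), by rw [orderOf_mk, hi],
      fun e => hit (congrArg Subtype.val e)⟩
  -- the normaliser of the centraliser lies in `U`
  have hMU : M t ≤ U := by
    intro m hm
    have hiA' := c.conj_mem_A hm c.t_mem
    obtain ⟨d, hd, e'⟩ := exists_conj_M c' hne'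
      (i := ⟨m * t * m⁻¹, hAU hiA'⟩) (by rw [orderOf_mk, Invol.orderOf_conj_eq, c.ht])
      (A_le_M (mem_A.mpr (Subtype.ext (mem_A.mp hiA').eq)))
    have e'' : (d : G) * t * (d : G)⁻¹ = m * t * m⁻¹ := congrArg Subtype.val e'
    have hA : (d : G)⁻¹ * m ∈ A t := mem_A.mpr (by
      show (d : G)⁻¹ * m * t = t * ((d : G)⁻¹ * m)
      calc (d : G)⁻¹ * m * t = (d : G)⁻¹ * (m * t * m⁻¹) * m := by group
        _ = (d : G)⁻¹ * ((d : G) * t * (d : G)⁻¹) * m := by rw [e'']
        _ = t * ((d : G)⁻¹ * m) := by group)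
    have := mul_mem d.2 (hAU hA)
    rwa [mul_inv_cancel_left] at this
  have hconjU : ∀ j ∈ U, orderOf j = 2 → ∃ w ∈ U, w * t * w⁻¹ = j := by
    intro j hj hj2
    obtain ⟨w, hw⟩ := _root_.isConj_iff.mp (Invol.isConj_involutions (c'.se hne') ht'
      (show orderOf (⟨j, hj⟩ : U) = 2 by rw [orderOf_mk, hj2]))
    exact ⟨w, w.2, congrArg Subtype.val hw⟩
  have hse : Cfsg.IsStronglyEmbedded U := by
    have hev : Even (Nat.card U) := by
      rw [even_iff_two_dvd, ← ht']; exact orderOf_dvd_natCard _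
    rw [Invol.isStronglyEmbedded_iff hUtop hev]
    intro j hj hj2 g hg
    obtain ⟨w₁, hw₁, e₁⟩ := hconjU j hj hj2
    obtain ⟨w₂, hw₂, e₂⟩ := hconjU _ hg (by rw [← hj2, ← Invol.orderOf_conj_eq g⁻¹ j, inv_inv])
    have hA : w₁⁻¹ * g * w₂ ∈ A t := mem_A.mpr (by
      show w₁⁻¹ * g * w₂ * t = t * (w₁⁻¹ * g * w₂)
      calc w₁⁻¹ * g * w₂ * t = w₁⁻¹ * g * (w₂ * t * w₂⁻¹) * w₂ := by group
        _ = w₁⁻¹ * g * (g⁻¹ * j * g) * w₂ := by rw [e₂]
        _ = t * (w₁⁻¹ * g * w₂) := by rw [← e₁]; group)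
    have := mul_mem (mul_mem hw₁ (hAU hA)) (inv_mem hw₂)
    simpa [mul_assoc] using this
  obtain ⟨u, hu, huU⟩ : ∃ u : G, orderOf u = 2 ∧ u ∉ U := by
    obtain ⟨g, -, hg⟩ := SetLike.exists_of_lt (lt_top_iff_ne_top.mpr hUtop)
    refine ⟨g * t * g⁻¹, by rw [Invol.orderOf_conj_eq, c.ht], fun hm => hg ?_⟩
    obtain ⟨w, hw, e'⟩ := hconjU _ hm (by rw [Invol.orderOf_conj_eq, c.ht])
    have hA : w⁻¹ * g ∈ A t := mem_A.mpr (by
      show w⁻¹ * g * t = t * (w⁻¹ * g)
      calc w⁻¹ * g * t = w⁻¹ * (g * t * g⁻¹) * g := by group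
        _ = w⁻¹ * (w * t * w⁻¹) * g := by rw [e']
        _ = t * (w⁻¹ * g) := by group)
    have := mul_mem hw (hAU hA)
    rwa [mul_inv_cancel_left] at this
  set D := U ⊓ U.map (MulAut.conj u).toMonoidHom with hD
  let π : U →* Matrix.ProjectiveSpecialLinearGroup (Fin 2) F := (MonoidHom.fst _ _).comp e.toMonoidHom
  haveI : IsSimpleGroup (Matrix.ProjectiveSpecialLinearGroup (Fin 2) F) :=
    Classical.PSL_isSimple le_rfl fun _ => by
      rw [hF]; exact le_trans (by norm_num) (Nat.pow_le_pow_right (by norm_num : 0 < 2) hf)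
  have h2F := two_eq_zero (F := F) (by omega) hF
  have hlift : ∀ j : Matrix.ProjectiveSpecialLinearGroup (Fin 2) F, orderOf j = 2 →
      ∃ g : U, orderOf g = 2 ∧ π g = j := fun j hj =>
    ⟨e.symm (j, 1), by rw [MulEquiv.orderOf_eq, Prod.orderOf, hj, orderOf_one]; rfl,
      by simp [π]⟩
  have hna : ¬ IsMulCommutative (Matrix.ProjectiveSpecialLinearGroup (Fin 2) F) := by
    intro h
    refine hne' (eq_top_iff.mpr fun g _ => mem_normalizer_iff.mpr fun x => ?_)
    have hgx : g * x = x * g := e.injective (by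
      rw [map_mul, map_mul]
      refine Prod.ext (h.is_comm.comm _ _) (Subtype.ext ?_)
      exact (mem_center_iff.mp (e g).2.2 ((e x).2 : U)).symm)
    rw [hgx, mul_inv_cancel_right]
  obtain ⟨t₁, S₁, c₁⟩ := exists_cfg (isCT_of_two (F := F) h2F) hna
  obtain ⟨g₁, hg₁, hπ₁⟩ := hlift t₁ c₁.ht
  refine no_odd_transitive c₁ ((D.subgroupOf U).map π) ?_ fun j hj => ?_
  · refine Odd.of_dvd_nat ?_ (Subgroup.card_map_dvd _ _)
    rw [Nat.card_congr (subgroupOfEquivOfLe inf_le_left).toEquiv]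
    exact hse.2.2 u huU
  · obtain ⟨g, hg, hπ⟩ := hlift j hj
    obtain ⟨d, hd, hdd⟩ := Invol.exists_conj_inf hse hu huU (s := (g₁ : G)) (t := (g : G))
      (by rw [orderOf_coe, hg₁]) g₁.2 (by rw [orderOf_coe, hg]) g.2
    refine ⟨π ⟨d, hd.1⟩, ⟨⟨d, hd.1⟩, hd, rfl⟩, ?_⟩
    rw [← hπ₁, ← map_inv, ← map_mul, ← map_mul, ← hπ]
    exact congrArg π (Subtype.ext hdd)

theorem cfg : Cfg t S := by
  obtain ⟨i, hiA, hi, hit⟩ := htwo
  exact ⟨c, hne, one_lt c hne hi hiA hit,
    fix_of_hC c hne hAI (cent_le_M IH c hne hAI hcen ⟨i, hiA, hi, hit⟩)⟩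

end Step

/-- A finite central extension of `PSL(2, 2^f)` by an odd group splits. -/
theorem central_split {F : Type} [Field F] [Fintype F] {f : ℕ} (hf : 2 ≤ f)
    (hF : Fintype.card F = 2 ^ f)
    (π : G →* Matrix.ProjectiveSpecialLinearGroup (Fin 2) F) (hπ : Function.Surjective π)
    (hker : π.ker = center G) (hodd : ∀ z ∈ center G, orderOf z ≠ 2) :
    Nonempty (G ≃* Matrix.ProjectiveSpecialLinearGroup (Fin 2) F × center G) := by
  classical
  haveI : IsSimpleGroup (Matrix.ProjectiveSpecialLinearGroup (Fin 2) F) :=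
    Classical.PSL_isSimple le_rfl fun _ => by
      rw [hF]; exact le_trans (by norm_num) (Nat.pow_le_pow_right (by norm_num : 0 < 2) hf)
  have h2F := two_eq_zero (F := F) (by omega) hF
  have hperf : commutator (Matrix.ProjectiveSpecialLinearGroup (Fin 2) F) = ⊤ := by
    refine (IsSimpleGroup.eq_bot_or_eq_top_of_normal _ inferInstance).resolve_left fun h => ?_
    have hab : ∀ a b : Matrix.ProjectiveSpecialLinearGroup (Fin 2) F, Commute a b := fun a b => by
      have hm : ⁅a, b⁆ ∈ commutator (Matrix.ProjectiveSpecialLinearGroup (Fin 2) F) :=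
        Subgroup.commutator_mem_commutator (mem_top a) (mem_top b)
      rw [h, Subgroup.mem_bot] at hm
      exact commutatorElement_eq_one_iff_mul_comm.mp hm
    let x : Matrix.SpecialLinearGroup (Fin 2) F := Fus.PSLTwo.mk2 1 1 0 1 (by ring)
    let y : Matrix.SpecialLinearGroup (Fin 2) F := Fus.PSLTwo.mk2 1 0 1 1 (by ring)
    have hxy := (hab (x : Matrix.ProjectiveSpecialLinearGroup (Fin 2) F) y).eq
    rw [← QuotientGroup.mk_mul, ← QuotientGroup.mk_mul, QuotientGroup.eq, center_eq_bot_of_two h2F,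
      Subgroup.mem_bot, inv_mul_eq_one] at hxy
    have := congrArg (fun A : Matrix.SpecialLinearGroup (Fin 2) F =>
      (A : Matrix (Fin 2) (Fin 2) F) 0 0) hxy
    simp [x, y, Matrix.mul_apply, Fin.sum_univ_two] at this
  have hmap : (commutator G).map π = ⊤ := by
    rw [_root_.commutator_def, Subgroup.map_commutator, Subgroup.map_top_of_surjective π hπ]
    exact hperf
  have hbot : ∀ k ∈ commutator G, k ∈ center G → k = 1 := by
    intro k hk hkc
    by_contra hk1
    obtain ⟨p, hp, hpd⟩ := Nat.exists_prime_and_dvd (fun e => hk1 (orderOf_eq_one_iff.mp e))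
    haveI := Fact.mk hp
    set k' := k ^ (orderOf k / p) with hk'
    have hord : orderOf k' = p := orderOf_pow_orderOf_div (orderOf_pos k).ne' hpd
    have hk'c : k' ∈ center G := pow_mem hkc _
    have hp2 : p ≠ 2 := fun e => hodd k' hk'c (hord.trans e)
    obtain ⟨R, hR⟩ := (IsPGroup.of_card (n := 1) (G := zpowers k')
      (by rw [Nat.card_zpowers, hord, pow_one])).exists_le_sylow
    have hk'R : k' ∈ (R : Subgroup G) := hR (mem_zpowers k')
    -- the image of `R` is cyclic
    obtain ⟨R'⟩ : Nonempty (Sylow p (Matrix.SpecialLinearGroup (Fin 2) F)) := inferInstance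
    haveI := Classical.SLTwoSylow.isCyclic_sylow_SL hp2 (fun hd => hp2 (by
      rw [hF] at hd
      exact (Nat.prime_dvd_prime_iff_eq hp Nat.prime_two).mp (hp.dvd_of_dvd_pow hd))) R'
    let q := QuotientGroup.mk' (center (Matrix.SpecialLinearGroup (Fin 2) F))
    let R₁ : Sylow p (Matrix.ProjectiveSpecialLinearGroup (Fin 2) F) :=
      R'.mapSurjective (f := q) (QuotientGroup.mk'_surjective _)
    obtain ⟨g, hg⟩ := MulAction.exists_smul_eq (Matrix.ProjectiveSpecialLinearGroup (Fin 2) F)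
      R₁ (R.mapSurjective hπ)
    haveI : IsCyclic ((R : Subgroup G).map π) := by
      have e : (R : Subgroup G).map π =
          ((R' : Subgroup _).map q).map (MulAut.conj g).toMonoidHom := by
        rw [← Sylow.coe_mapSurjective hπ R, ← hg]; rfl
      rw [e]
      haveI : IsCyclic ((R' : Subgroup _).map q) :=
        isCyclic_of_surjective _ (MonoidHom.subgroupMap_surjective q (R' : Subgroup _))
      exact isCyclic_of_surjective _ (MonoidHom.subgroupMap_surjective _ _)
    have hcomm : IsMulCommutative (R : Subgroup G) :=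
      MonoidHom.isMulCommutative_of_isCyclic_of_ker_le_center (π.subgroupMap (R : Subgroup G))
        fun x hx => by
          have hx' : π (x : G) = 1 := congrArg Subtype.val (MonoidHom.mem_ker.mp hx)
          refine mem_center_iff.mpr fun y => Subtype.ext ?_
          exact mem_center_iff.mp (hker.le (MonoidHom.mem_ker.mpr hx')) (y : G)
    open scoped IsMulCommutative in
    let V : G →* (R : Subgroup G) := MonoidHom.transfer (MonoidHom.id (R : Subgroup G))
    have hkey : ∀ (j : ℕ) (g₀ : G), g₀⁻¹ * k' ^ j * g₀ ∈ (R : Subgroup G) →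
        g₀⁻¹ * k' ^ j * g₀ = k' ^ j := fun j g₀ _ => by
      rw [mul_assoc, ← mem_center_iff.mp (pow_mem hk'c j) g₀, inv_mul_cancel_left]
    have hV1 : V k' = 1 := by
      open scoped IsMulCommutative in
      exact MonoidHom.mem_ker.mp (Abelianization.commutator_subset_ker V (pow_mem hk _))
    have hV : (V k' : G) = k' ^ (R : Subgroup G).index := by
      open scoped IsMulCommutative in
      simp only [V]
      rw [MonoidHom.transfer_eq_pow _ k' hkey]
      rfl
    rw [hV1, OneMemClass.coe_one] at hV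
    have := orderOf_dvd_of_pow_eq_one hV.symm
    rw [hord] at this
    exact R.not_dvd_index this
  let ψ : commutator G →* Matrix.ProjectiveSpecialLinearGroup (Fin 2) F :=
    π.comp (commutator G).subtype
  have hψ : Function.Bijective ψ := by
    refine ⟨(injective_iff_map_eq_one ψ).mpr fun x hx => ?_, fun y => ?_⟩
    · exact Subtype.ext (hbot x x.2 (hker.le (MonoidHom.mem_ker.mpr hx)))
    · obtain ⟨x, hx, e⟩ := (hmap.ge (mem_top y) : y ∈ (commutator G).map π)
      exact ⟨⟨x, hx⟩, e⟩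
  let e₁ : commutator G ≃* Matrix.ProjectiveSpecialLinearGroup (Fin 2) F := MulEquiv.ofBijective ψ hψ
  let Φ : Matrix.ProjectiveSpecialLinearGroup (Fin 2) F × center G →* G :=
    { toFun := fun x => (e₁.symm x.1 : G) * (x.2 : G)
      map_one' := by simp
      map_mul' := fun x y => by
        simp only [Prod.fst_mul, Prod.snd_mul, map_mul, Subgroup.coe_mul]
        calc (e₁.symm x.1 : G) * (e₁.symm y.1 : G) * ((x.2 : G) * (y.2 : G))
            = (e₁.symm x.1 : G) * ((e₁.symm y.1 : G) * (x.2 : G)) * (y.2 : G) := by group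
          _ = (e₁.symm x.1 : G) * ((x.2 : G) * (e₁.symm y.1 : G)) * (y.2 : G) := by
            rw [mem_center_iff.mp x.2.2]
          _ = _ := by group }
  have hπz : ∀ z : center G, π (z : G) = 1 := fun z => MonoidHom.mem_ker.mp (hker.ge z.2)
  have hπe : ∀ y, π (e₁.symm y : G) = y := fun y => e₁.apply_symm_apply y
  refine ⟨(MulEquiv.ofBijective Φ ⟨(injective_iff_map_eq_one Φ).mpr fun x hx => ?_, fun g => ?_⟩).symm⟩
  · have hx' : (e₁.symm x.1 : G) * (x.2 : G) = 1 := hx
    have h1 : x.1 = 1 := by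
      have := congrArg π hx'
      rwa [map_mul, hπe, hπz, mul_one, map_one] at this
    rw [h1, map_one, OneMemClass.coe_one, one_mul] at hx'
    exact Prod.ext h1 (Subtype.ext hx')
  · refine ⟨(π g, ⟨(e₁.symm (π g) : G)⁻¹ * g, hker.le (MonoidHom.mem_ker.mpr ?_)⟩), ?_⟩
    · rw [map_mul, map_inv, hπe, inv_mul_cancel]
    · show (e₁.symm (π g) : G) * ((e₁.symm (π g) : G)⁻¹ * g) = g
      rw [mul_inv_cancel_left]

/-- The classification. -/
theorem str_main (n : ℕ) : ∀ (G : Type u) [Group G] [Finite G], Nat.card G ≤ n → AI G →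
    ∀ (t : G) (S : Sylow 2 G), Pre t S → M t ≠ ⊤ → (∃ i ∈ A t, orderOf i = 2 ∧ i ≠ t) → Str G := by
  induction n with
  | zero => intro G _ _ h; exact absurd h (Nat.not_le.mpr Nat.card_pos)
  | succ n ih =>
    intro G _ _ hn hAI t S c hne htwo
    let q := QuotientGroup.mk' (center G)
    have hq : Function.Surjective q := QuotientGroup.mk'_surjective _
    -- involutions and commutation pass to the quotient
    have hlift : ∀ y : G ⧸ center G, orderOf y = 2 → ∃ x : G, orderOf x = 2 ∧ q x = y := by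
      intro y hy
      obtain ⟨g, rfl⟩ := hq y
      have hz : Odd (Nat.card (center G)) := by
        rw [← Nat.not_even_iff_odd, even_iff_two_dvd]
        intro h2
        obtain ⟨z, hz⟩ := exists_prime_orderOf_dvd_card' (G := center G) 2 h2
        exact center_odd c hne hAI z.2 ((orderOf_coe z).trans hz)
      set k := Nat.card (center G) with hk
      have hg2 : g ^ 2 ∈ center G := (QuotientGroup.eq_one_iff _).mp (by
        show q (g ^ 2) = 1
        rw [map_pow, ← hy, pow_orderOf_eq_one])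
      have hqx : q (g ^ k) = q g := by
        obtain ⟨j, hj⟩ := hz
        rw [map_pow, hj, pow_succ, pow_mul, ← hy, pow_orderOf_eq_one, one_pow, one_mul]
      refine ⟨g ^ k, orderOf_eq_prime ?_ fun e => ?_, hqx⟩
      · rw [← pow_mul, mul_comm, pow_mul, hk]
        exact congrArg Subtype.val (pow_card_eq_one' (x := (⟨g ^ 2, hg2⟩ : center G)))
      · rw [e, map_one] at hqx
        rw [← hqx, orderOf_one] at hy
        exact absurd hy (by norm_num)
    have hAIQ : AI (G ⧸ center G) := by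
      intro y hy a b ha hb
      obtain ⟨x, hx, rfl⟩ := hlift y hy
      obtain ⟨a, rfl⟩ := hq a
      obtain ⟨b, rfl⟩ := hq b
      exact (hAI x hx a b (commute_of_quot c hne hAI hx ha) (commute_of_quot c hne hAI hx hb)).map q
    have hto : ∀ x : G, orderOf x = 2 → orderOf (q x) = 2 := fun x hx =>
      Invol.orderOf_two_iff.mpr ⟨by rw [← map_mul, Invol.mul_self_of_orderOf_two hx, map_one],
        fun e => center_odd c hne hAI ((QuotientGroup.eq_one_iff x).mp e) hx⟩
    have hcQ : Pre (q t) (S.mapSurjective hq) := hAIQ.pre (hto t c.ht) (by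
      rintro _ ⟨s, hs, rfl⟩
      exact (mem_A.mp (c.sle hs)).map q)
    have hneQ : M (q t) ≠ ⊤ := by
      intro e
      refine hne (eq_top_iff.mpr fun g _ => ?_)
      have h := hcQ.conj_mem_A (e ▸ mem_top (q g)) hcQ.t_mem
      rw [← map_inv, ← map_mul, ← map_mul] at h
      exact c.mem_M_of_inv c.t_mem c.ht
        (mem_A.mpr (commute_of_quot c hne hAI c.ht (mem_A.mp h)))
    have hcenQ : center (G ⧸ center G) = ⊥ := by
      have hle : (center (G ⧸ center G)).comap q ≤ M t := fun g hg => by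
        refine A_le_M (mem_A.mpr (commute_of_quot c hne hAI c.ht ?_))
        exact ((mem_center_iff.mp hg) (q t)).symm
      haveI : ((center (G ⧸ center G)).comap q).Normal := Normal.comap inferInstance q
      have hle' := normal_le_center c hne hAI hle
      refine (eq_bot_iff_forall _).mpr fun y hy => ?_
      obtain ⟨g, rfl⟩ := hq y
      exact (QuotientGroup.eq_one_iff g).mpr (hle' hy)
    have htwoQ : ∃ i ∈ A (q t), orderOf i = 2 ∧ i ≠ q t := by
      obtain ⟨i, hiA, hi, hit⟩ := htwo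
      refine ⟨q i, mem_A.mpr ((mem_A.mp hiA).map q), hto i hi, fun e => hit ?_⟩
      have hz : i⁻¹ * t ∈ center G := QuotientGroup.eq.mp e
      by_contra hne'
      refine center_odd c hne hAI hz (Invol.orderOf_two_iff.mpr ⟨?_, fun h1 => hne' (inv_mul_eq_one.mp h1)⟩)
      rw [Invol.inv_of_orderOf_two hi]
      calc i * t * (i * t) = i * (t * i) * t := by group
        _ = (i * i) * (t * t) := by rw [← (mem_A.mp hiA).eq]; group
        _ = 1 := by rw [Invol.mul_self_of_orderOf_two hi, Invol.mul_self_of_orderOf_two c.ht, one_mul]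
    have cfgQ : Cfg (q t) (S.mapSurjective hq) := cfg (fun U hU tU SU cU hU' h2 => by
      refine ih U ?_ (hAIQ.subgroup U) tU SU cU hU' h2
      have h1 : Nat.card U < Nat.card (G ⧸ center G) :=
        lt_of_le_of_ne U.card_le_card_group fun e => hU (Subgroup.eq_top_of_card_eq U e)
      have h3 : Nat.card (G ⧸ center G) ≤ Nat.card G := Nat.card_le_card_of_surjective _ hq
      omega) hcQ hneQ hAIQ hcenQ htwoQ
    obtain ⟨F, i1, i2, f, hf, hF, ⟨φ⟩⟩ := cfgQ.iso_psl
    refine ⟨F, i1, i2, f, hf, hF, central_split hf hF (φ.toMonoidHom.comp q) (φ.surjective.comp hq)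
      ?_ fun z hz => center_odd c hne hAI hz⟩
    rw [← MonoidHom.comap_ker, (MonoidHom.ker_eq_bot_iff _).mpr φ.injective, MonoidHom.comap_bot,
      QuotientGroup.ker_mk']

/-- The final statement. -/
theorem classify {G : Type u} [Group G] [Finite G] (heven : Even (Nat.card G)) (hAI : AI G) :
    (∀ P : Sylow 2 G, IsCyclic ↥P) ∨ (∀ P : Sylow 2 G, (P : Subgroup G).Normal) ∨
    (∃ (F : Type) (_ : Field F) (_ : Fintype F) (A : Type) (_ : CommGroup A) (_ : Finite A),
      CharP F 2 ∧ Odd (Nat.card A) ∧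
        Nonempty (G ≃* Matrix.SpecialLinearGroup (Fin 2) F × A)) := by
  classical
  haveI : Fact (Nat.Prime 2) := ⟨Nat.prime_two⟩
  by_cases hcyc : ∀ P : Sylow 2 G, IsCyclic ↥P
  · exact Or.inl hcyc
  by_cases hnor : ∀ P : Sylow 2 G, (P : Subgroup G).Normal
  · exact Or.inr (Or.inl hnor)
  refine Or.inr (Or.inr ?_)
  push Not at hcyc hnor
  obtain ⟨S, hS⟩ := hcyc
  obtain ⟨S', hS'⟩ := hnor
  have hnorm : ¬ (S : Subgroup G).Normal := by
    intro h
    obtain ⟨g, hg⟩ := MulAction.exists_smul_eq G S S'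
    haveI := h
    rw [Sylow.smul_eq_of_normal] at hg
    exact hS' (hg ▸ h)
  have h2 : 2 ∣ Nat.card (S : Subgroup G) := S.dvd_card_of_dvd_card (even_iff_two_dvd.mp heven)
  haveI : Nontrivial (S : Subgroup G) := Finite.one_lt_card_iff_nontrivial.mp
    (lt_of_lt_of_le one_lt_two (Nat.le_of_dvd Nat.card_pos h2))
  have hc : Nontrivial (center (S : Subgroup G)) := S.isPGroup'.center_nontrivial
  obtain ⟨k, hk0, hk⟩ := (S.isPGroup'.to_subgroup (center (S : Subgroup G))).nontrivial_iff_card.mp hc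
  obtain ⟨z, hz⟩ := exists_prime_orderOf_dvd_card' (G := center (S : Subgroup G)) 2
    (hk ▸ dvd_pow_self 2 (by omega))
  set t : G := ((z : (S : Subgroup G)) : G) with htdef
  have ht : orderOf t = 2 := by rw [htdef, orderOf_coe, orderOf_coe, hz]
  have c : Pre t S := hAI.pre ht fun s hs => congrArg Subtype.val (mem_center_iff.mp z.2 ⟨s, hs⟩)
  have hne : M t ≠ ⊤ := fun e => hnorm (normalizer_eq_top_iff.mp
    (top_le_iff.mp (e.ge.trans c.M_le_normalizer_S)))
  have htwo : ∃ i ∈ A t, orderOf i = 2 ∧ i ≠ t := by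
    by_contra hcon
    push Not at hcon
    have huniq : ∀ u : (S : Subgroup G), orderOf u = 2 → u = (z : (S : Subgroup G)) := fun u hu =>
      Subtype.ext (hcon u (c.sle u.2) ((orderOf_coe u).trans hu))
    obtain ⟨a, -, ha⟩ := OneInvol.exists_zpowers_eq (R := (S : Subgroup G)) S.isPGroup' (A := ⊤)
      (fun x _ y _ => Subtype.ext (c.comm _ _ (c.sle x.2) (c.sle y.2)).eq)
      (fun u v hu hv => (huniq u hu).trans (huniq v hv).symm)
    exact hS (isCyclic_iff_exists_zpowers_eq_top.mpr ⟨a, ha.symm⟩)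
  obtain ⟨F, i1, i2, f, hf, hF, ⟨e⟩⟩ := str_main (Nat.card G) G le_rfl hAI t S c hne htwo
  have h2F := two_eq_zero (F := F) (by omega) hF
  haveI : CharP F 2 := CharTwo.of_one_ne_zero_of_two_eq_zero one_ne_zero h2F
  let e₂ : Matrix.SpecialLinearGroup (Fin 2) F ≃* Matrix.ProjectiveSpecialLinearGroup (Fin 2) F :=
    ((QuotientGroup.quotientMulEquivOfEq (center_eq_bot_of_two h2F)).trans QuotientGroup.quotientBot).symm
  let m := Nat.card (center G)
  let eq : {n : ℕ // n < m} ≃ center G := Fin.equivSubtype.symm.trans (Finite.equivFin (center G)).symm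
  haveI : Finite {n : ℕ // n < m} := Finite.of_equiv _ eq.symm
  letI : CommGroup (center G) :=
    { (inferInstance : Group (center G)) with
      mul_comm := fun a b => Subtype.ext (mem_center_iff.mp b.2 a) }
  letI : CommGroup {n : ℕ // n < m} := eq.commGroup
  refine ⟨F, i1, i2, {n : ℕ // n < m}, inferInstance, inferInstance, inferInstance, ?_,
    ⟨e.trans (e₂.symm.prodCongr eq.mulEquiv.symm)⟩⟩
  rw [Nat.card_congr eq, ← Nat.not_even_iff_odd, even_iff_two_dvd]
  intro hd
  obtain ⟨x, hx⟩ := exists_prime_orderOf_dvd_card' (G := center G) 2 hd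
  exact center_odd c hne hAI x.2 ((orderOf_coe x).trans hx)

end Cfsg.Agent.Fus.AbInv
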