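import Cfsg.Prelude.Def_Local
import Cfsg.Prelude.Def_CaseTheorems
import Cfsg.Agent.Lib.Invol.CharP
import Cfsg.Agent.Lib.Grp.CoprimeAbelian
import Cfsg.Agent.Lib.Grp.Components
import Cfsg.Agent.Lib.Fus.Saturation

/-!
Characteristic `p` is inherited by local subgroups.
-/

set_option autoImplicit false
set_option linter.style.haveILetI false

namespace Cfsg.Agent.Fus

open Subgroup

variable {G : Type*} [Group G] [Finite G] {p : ℕ} [Fact p.Prime]

/-- Normalizers of `p`-subgroups of a group of characteristic `p` have characteristic `p`. -/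
theorem charP_normalizer (hG : Invol.CharP' p G) {U : Subgroup G} (hU : IsPGroup p U) :
    Invol.CharP' p ↥(Subgroup.normalizer (U : Set G)) := by
  set L := Subgroup.normalizer (U : Set G) with hL
  set Q := pCore p G with hQ
  have hQn : Q.Normal := Grp.pCore_isNormal
  haveI hMn : (pCore p L).Normal := Grp.pCore_isNormal
  refine Grp.le_pCore inferInstance (Invol.isPGroup_of_coprime_elements fun x hx => ?_)
  set xg : G := ((x : L) : G) with hxg
  have hxo : (orderOf xg).Coprime p := by
    rw [hxg, Subgroup.orderOf_coe, Subgroup.orderOf_coe]; exact hx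
  have hcomm : ∀ z, ∀ hz : z ∈ L, (⟨z, hz⟩ : L) ∈ pCore p L → z * xg = xg * z := fun z hz hm =>
    congrArg Subtype.val (Subgroup.mem_centralizer_iff.1 x.2 _ hm)
  have hUx : U ≤ Subgroup.centralizer ((Subgroup.zpowers xg : Subgroup G) : Set G) := by
    intro u hu
    refine Subgroup.mem_centralizer_iff.2 ?_
    rintro _ ⟨i, rfl⟩
    exact ((show Commute xg u from (hcomm u (Subgroup.le_normalizer hu)
      (Invol.mem_pCore_of_subgroupOf Subgroup.normal_in_normalizer hU hu
        (Subgroup.le_normalizer hu))).symm).zpow_left i).eq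
  have hQx : Q ⊓ Subgroup.centralizer (U : Set G) ≤
      Subgroup.centralizer ((Subgroup.zpowers xg : Subgroup G) : Set G) := by
    intro q hq
    have hqL : q ∈ L := Subgroup.centralizer_le_normalizer _ hq.2
    refine Subgroup.mem_centralizer_iff.2 ?_
    rintro _ ⟨i, rfl⟩
    exact ((show Commute xg q from (hcomm q hqL (Invol.mem_pCore_of_subgroupOf
      (L := L) (U := Q) (hQn.subgroupOf L) Grp.pCore_isPGroup hq.1 hqL)).symm).zpow_left i).eq
  have hN : ∀ H : Subgroup G, H ≤ Subgroup.normalizer (Q : Set G) := fun H => by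
    haveI := hQn
    rw [Subgroup.normalizer_eq_top]; exact le_top
  have h := Grp.thompson_PQ U (Subgroup.zpowers xg) hU (by rw [Nat.card_zpowers]; exact hxo) hUx Q
    Grp.pCore_isPGroup (hN _) (hN _) hQx
  have hxQ : xg ∈ Subgroup.centralizer (Q : Set G) := by
    refine Subgroup.mem_centralizer_iff.2 fun q hq => ?_
    exact Subgroup.mem_centralizer_iff.1 (h (Subgroup.mem_zpowers xg)) q hq
  exact Subtype.ext (Subtype.ext (Invol.eq_one_of_coprime_of_mem Grp.pCore_isPGroup (hG hxQ) hxo))

/-- The normalizer of `T` normalizes the centralizer of `T`. -/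
theorem normalizer_le_normalizer_centralizer' (T : Subgroup G) :
    Subgroup.normalizer (T : Set G) ≤
      Subgroup.normalizer ((Subgroup.centralizer (T : Set G) : Subgroup G) : Set G) := fun n hn => by
  refine Subgroup.mem_normalizer_iff.2 fun d => ⟨fun hd => ?_, fun hd => ?_⟩ <;>
    refine Subgroup.mem_centralizer_iff.2 fun t ht => ?_
  · have ht' := (Subgroup.mem_normalizer_iff.1 ((Subgroup.normalizer (T : Set G)).inv_mem hn) t).1 ht
    have := Subgroup.mem_centralizer_iff.1 hd _ ht'
    calc t * (n * d * n⁻¹) = n * ((n⁻¹ * t * n⁻¹⁻¹) * d) * n⁻¹ := by group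
      _ = n * (d * (n⁻¹ * t * n⁻¹⁻¹)) * n⁻¹ := by rw [this]
      _ = n * d * n⁻¹ * t := by group
  · have ht' := (Subgroup.mem_normalizer_iff.1 hn t).1 ht
    have := Subgroup.mem_centralizer_iff.1 hd _ ht'
    calc t * d = n⁻¹ * ((n * t * n⁻¹) * (n * d * n⁻¹)) * n := by group
      _ = n⁻¹ * ((n * d * n⁻¹) * (n * t * n⁻¹)) * n := by rw [this]
      _ = d * t := by group

/-- One step up: if `U₁` normalizes `U₀` and contains it, characteristic `p` passes from `C(U₀)`
to `C(U₁)`. -/
theorem charP_centralizer_step {U₀ U₁ : Subgroup G} (hU₁ : IsPGroup p U₁) (hle : U₀ ≤ U₁)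
    (hn : U₁ ≤ Subgroup.normalizer (U₀ : Set G))
    (h : Invol.CharP' p ↥(Subgroup.centralizer (U₀ : Set G))) :
    Invol.CharP' p ↥(Subgroup.centralizer (U₁ : Set G)) := by
  set D₀ := Subgroup.centralizer (U₀ : Set G) with hD₀
  set H := D₀ ⊔ U₁ with hH
  have hDH : D₀ ≤ H := le_sup_left
  have hUH : U₁ ≤ H := le_sup_right
  have hnorm : H ≤ Subgroup.normalizer (D₀ : Set G) :=
    sup_le Subgroup.le_normalizer (hn.trans (normalizer_le_normalizer_centralizer' U₀))
  haveI hKn : (D₀.subgroupOf H).Normal := Subgroup.normal_subgroupOf_of_le_normalizer hnorm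
  have hsurj : Function.Surjective
      ((QuotientGroup.mk' (D₀.subgroupOf H)).comp (Subgroup.inclusion hUH)) := by
    intro q
    obtain ⟨x, rfl⟩ := QuotientGroup.mk'_surjective _ q
    have hx : x ∈ D₀.subgroupOf H ⊔ U₁.subgroupOf H := by
      rw [← Subgroup.subgroupOf_sup hDH hUH, Subgroup.subgroupOf_self]; trivial
    obtain ⟨d, hd, u, hu, rfl⟩ := Subgroup.mem_sup_of_normal_left.1 hx
    refine ⟨⟨(u : G), hu⟩, ?_⟩
    show QuotientGroup.mk' (D₀.subgroupOf H) u = QuotientGroup.mk' (D₀.subgroupOf H) (d * u)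
    rw [map_mul, show QuotientGroup.mk' (D₀.subgroupOf H) d = 1 from
      (QuotientGroup.eq_one_iff d).2 hd, one_mul]
  have hHc : Invol.CharP' p H :=
    Invol.charP_of_isPGroup_quotient (D₀.subgroupOf H) (hU₁.of_surjective _ hsurj)
      (Invol.charP_of_mulEquiv (Subgroup.subgroupOfEquivOfLe hDH).symm h)
  have hM := charP_normalizer hHc
    (U := U₁.subgroupOf H) (hU₁.of_equiv (Subgroup.subgroupOfEquivOfLe hUH).symm)
  set D₁ := Subgroup.centralizer (U₁ : Set G) with hD₁
  have hD₁H : D₁ ≤ H := (Subgroup.centralizer_le (SetLike.coe_subset_coe.2 hle)).trans hDH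
  have hD₁M : D₁.subgroupOf H ≤ Subgroup.normalizer ((U₁.subgroupOf H : Subgroup H) : Set H) :=
    fun d hd => Subgroup.centralizer_le_normalizer _ (Subgroup.mem_centralizer_iff.2 fun t ht =>
      Subtype.ext (Subgroup.mem_centralizer_iff.1 (Subgroup.mem_subgroupOf.1 hd) _
        (Subgroup.mem_subgroupOf.1 ht)))
  have hD₁n : ((D₁.subgroupOf H).subgroupOf
      (Subgroup.normalizer ((U₁.subgroupOf H : Subgroup H) : Set H))).Normal := by
    refine Subgroup.normal_subgroupOf_of_le_normalizer fun m hm => ?_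
    have hcen : D₁.subgroupOf H =
        Subgroup.centralizer ((U₁.subgroupOf H : Subgroup H) : Set H) := by
      refine le_antisymm (fun d hd => Subgroup.mem_centralizer_iff.2 fun t ht => Subtype.ext
        (Subgroup.mem_centralizer_iff.1 (Subgroup.mem_subgroupOf.1 hd) _
          (Subgroup.mem_subgroupOf.1 ht))) fun d hd => ?_
      refine Subgroup.mem_subgroupOf.2 (Subgroup.mem_centralizer_iff.2 fun t ht => ?_)
      exact congrArg Subtype.val (Subgroup.mem_centralizer_iff.1 hd ⟨t, hUH ht⟩ ht)
    rw [hcen]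
    exact normalizer_le_normalizer_centralizer' _ hm
  exact Invol.charP_of_mulEquiv
    ((Subgroup.subgroupOfEquivOfLe hD₁M).trans (Subgroup.subgroupOfEquivOfLe hD₁H))
    (Invol.charP_of_isSubnormal hM hD₁n.isSubnormal)

/-- Characteristic `p` of centralizers passes to larger `p`-subgroups. -/
theorem charP_centralizer_mono {U₀ U : Subgroup G} (hU : IsPGroup p U) (hle : U₀ ≤ U)
    (h : Invol.CharP' p ↥(Subgroup.centralizer (U₀ : Set G))) :
    Invol.CharP' p ↥(Subgroup.centralizer (U : Set G)) := by
  induction hn : Nat.card U - Nat.card U₀ using Nat.strong_induction_on generalizing U₀ with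
  | _ n ih =>
    rcases hle.eq_or_lt with rfl | hlt
    · exact h
    have hl := lt_normalizerIn (S := U) hU hlt
    have hle' : FusionSystem.normalizerIn U U₀ ≤ U := inf_le_left
    have h1 := charP_centralizer_step (hU.to_le hle') hl.le inf_le_right h
    have h2 := card_lt_of_lt hl
    have h3 := Subgroup.card_le_of_le hle'
    exact ih _ (by omega) hle' h1 rfl

/-- If the centralizer of the `p`-subgroup `T` has characteristic `p`, so does its normalizer. -/
theorem charP_normalizer_of_charP_centralizer {T : Subgroup G} (hT : IsPGroup p T)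
    (h : Invol.CharP' p ↥(Subgroup.centralizer (T : Set G))) :
    Invol.CharP' p ↥(Subgroup.normalizer (T : Set G)) := by
  set N := Subgroup.normalizer (T : Set G) with hNdef
  set D := Subgroup.centralizer (T : Set G) with hDdef
  have hDN : D ≤ N := Subgroup.centralizer_le_normalizer _
  haveI hDn : (D.subgroupOf N).Normal :=
    Subgroup.normal_subgroupOf_of_le_normalizer (normalizer_le_normalizer_centralizer' T)
  have hD : Invol.CharP' p ↥(D.subgroupOf N) :=
    Invol.charP_of_mulEquiv (Subgroup.subgroupOfEquivOfLe hDN).symm h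
  intro x hx
  have hTN : ∀ t (ht : t ∈ T), (⟨t, Subgroup.le_normalizer ht⟩ : N) ∈ pCore p N := fun t ht =>
    Invol.mem_pCore_of_subgroupOf Subgroup.normal_in_normalizer hT ht _
  have hxD : x ∈ D.subgroupOf N := Subgroup.mem_subgroupOf.2 <|
    Subgroup.mem_centralizer_iff.2 fun t ht =>
      congrArg Subtype.val (Subgroup.mem_centralizer_iff.1 hx _ (hTN t ht))
  haveI hchar : ((pCore p ↥(D.subgroupOf N)).map (D.subgroupOf N).subtype).Normal := by
    haveI : (pCore p ↥(D.subgroupOf N)).Characteristic :=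
      Subgroup.characteristic_iff_map_le.2 fun φ => Invol.pCore_map_le_of_mulEquiv φ
    infer_instance
  have hsub : (pCore p ↥(D.subgroupOf N)).map (D.subgroupOf N).subtype ≤ pCore p N :=
    Grp.le_pCore hchar (Grp.pCore_isPGroup.map _)
  refine hsub ⟨⟨x, hxD⟩, hD ?_, rfl⟩
  exact Subgroup.mem_centralizer_iff.2 fun y hy => Subtype.ext
    (Subgroup.mem_centralizer_iff.1 hx _ (hsub ⟨y, hy, rfl⟩))

/-- If `z ∈ T` has a centralizer of characteristic `p`, the normalizer of the `p`-subgroup `T` has
characteristic `p`. -/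
theorem charP_normalizer_of_centralizer {T : Subgroup G} (hT : IsPGroup p T) {z : G} (hzT : z ∈ T)
    (hC : Invol.CharP' p ↥(Subgroup.centralizer ({z} : Set G))) :
    Invol.CharP' p ↥(Subgroup.normalizer (T : Set G)) := by
  refine charP_normalizer_of_charP_centralizer hT
    (charP_centralizer_mono hT (Subgroup.zpowers_le.2 hzT) ?_)
  have e : Subgroup.centralizer ({z} : Set G) =
      Subgroup.centralizer ((Subgroup.zpowers z : Subgroup G) : Set G) := by
    refine le_antisymm (fun g hg => Subgroup.mem_centralizer_iff.2 ?_)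
      (Subgroup.centralizer_le (by simp))
    rintro _ ⟨i, rfl⟩
    exact ((show Commute z g from
      (Subgroup.mem_centralizer_singleton_iff.1 hg).symm).zpow_left i).eq
  exact Invol.charP_of_mulEquiv (MulEquiv.subgroupCongr e) hC

/-- Without components and without a normal `p'`-subgroup a group has characteristic `p`. -/
theorem charP_of_no_component (hO : pPrimeCore p G = ⊥) (hE : ∀ K : Subgroup G, ¬ IsComponent K) :
    Invol.CharP' p G := by
  have hlayer : layer G = ⊥ := by
    rw [layer, sSup_eq_bot]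
    exact fun K hK => absurd hK (hE K)
  have hF : fittingSubgroup G = pCore p G := by
    rw [Grp.fittingSubgroup_eq_iSup_pCore]
    refine le_antisymm (iSup_le fun q => ?_) (le_iSup_of_le ⟨p, Fact.out⟩ le_rfl)
    by_cases hq : (q : ℕ) = p
    · rw [hq]
    · haveI := Fact.mk q.2
      obtain ⟨k, hk⟩ := (Grp.pCore_isPGroup (p := (q : ℕ)) (G := G)).exists_card_eq
      have : pCore (q : ℕ) G ≤ pPrimeCore p G := Grp.le_pPrimeCore Grp.pCore_isNormal (by
        rw [hk]; exact ((Nat.coprime_primes q.2 Fact.out).2 hq).pow_left k)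
      rw [hO] at this
      exact this.trans bot_le
  have := Grp.centralizer_fitting_le_of_layer_eq_bot hlayer
  rwa [hF] at this

/-- In a group of characteristic `p` the generalized Fitting subgroup is the `p`-core. -/
theorem generalizedFittingSubgroup_eq_of_charP (h : Invol.CharP' p G) :
    generalizedFittingSubgroup G = pCore p G := by
  have hle : pCore p G ≤ fittingSubgroup G := Grp.pCore_le_fittingSubgroup
  have hc : Subgroup.centralizer (fittingSubgroup G : Set G) ≤ fittingSubgroup G :=
    (Subgroup.centralizer_le (SetLike.coe_subset_coe.2 hle)).trans (h.trans hle)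
  rw [generalizedFittingSubgroup, Grp.layer_eq_bot_of_centralizer_fitting_le hc, bot_sup_eq]
  refine le_antisymm ?_ hle
  rw [Grp.fittingSubgroup_eq_iSup_pCore]
  refine iSup_le fun q => ?_
  by_cases hq : (q : ℕ) = p
  · rw [hq]
  · haveI := Fact.mk q.2
    haveI h1 : (pCore (q : ℕ) G).Normal := Grp.pCore_isNormal
    haveI h2 : (pCore p G).Normal := Grp.pCore_isNormal
    have hdisj : pCore (q : ℕ) G ⊓ pCore p G = ⊥ := by
      obtain ⟨k, hk⟩ := (Grp.pCore_isPGroup (p := (q : ℕ)) (G := G)).exists_card_eq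
      obtain ⟨l, hl⟩ := (Grp.pCore_isPGroup (p := p) (G := G)).exists_card_eq
      refine Grp.inf_eq_bot_of_coprime ?_
      rw [hk, hl]
      exact (((Nat.coprime_primes q.2 Fact.out).2 hq).pow_left k).pow_right l
    exact (Subgroup.commutator_eq_bot_iff_le_centralizer.1
      (Subgroup.commutator_eq_bot_of_disjoint (disjoint_iff.2 hdisj))).trans h

/-- If all centralizers of involutions have characteristic 2, the group has characteristic 2 type. -/
theorem isCharacteristicTwoType_of_centralizers (h2 : Even (Nat.card G))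
    (h : ∀ t : G, orderOf t = 2 → Invol.CharP' 2 ↥(Subgroup.centralizer ({t} : Set G))) :
    IsCharacteristicTwoType G := by
  haveI : Fact (Nat.Prime 2) := ⟨Nat.prime_two⟩
  refine ⟨h2, fun T hT hne => ?_⟩
  obtain ⟨z, hz⟩ : ∃ z : T, orderOf z = 2 := by
    refine exists_prime_orderOf_dvd_card' 2 ?_
    obtain ⟨k, hk⟩ := hT.exists_card_eq
    rw [hk]
    refine dvd_pow_self 2 fun h0 => hne ?_
    rw [h0, pow_zero] at hk
    exact Subgroup.card_eq_one.1 hk
  exact charP_normalizer_of_centralizer hT z.2 (h _ (by rw [Subgroup.orderOf_coe, hz]))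

end Cfsg.Agent.Fus
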