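import Cfsg.Prelude.Def_Transfer
import Mathlib

/-!
Elementary abelian subgroups of a 2-group with a large normal elementary abelian subgroup.
-/

set_option autoImplicit false
set_option linter.style.haveILetI false

open scoped commutatorElement Pointwise

namespace Cfsg.Agent.Fus

open Subgroup

variable {X : Type*} [Group X]

theorem isElementaryAbelian_mono {p : ℕ} {A B : Subgroup X} (hB : IsElementaryAbelian p B)
    (h : A ≤ B) : IsElementaryAbelian p A :=
  ⟨⟨⟨fun a b => Subtype.ext (congrArg (fun z : B => (z : X))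
    (hB.1.is_comm.comm (⟨a, h a.2⟩ : B) ⟨b, h b.2⟩))⟩⟩, fun a ha => hB.2 a (h ha)⟩

theorem IsElementaryAbelian.commute {p : ℕ} {A : Subgroup X} (hA : IsElementaryAbelian p A)
    {a b : X} (ha : a ∈ A) (hb : b ∈ A) : a * b = b * a :=
  congrArg (fun z : A => (z : X)) (hA.1.is_comm.comm (⟨a, ha⟩ : A) ⟨b, hb⟩)

theorem commutator_eq_bot_of_le {p : ℕ} {A B D : Subgroup X} (hD : IsElementaryAbelian p D)
    (hA : A ≤ D) (hB : B ≤ D) : ⁅A, B⁆ = ⊥ := by
  refine le_bot_iff.1 (Subgroup.commutator_le.2 fun a ha b hb => Subgroup.mem_bot.2 ?_)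
  rw [commutatorElement_eq_one_iff_mul_comm]
  exact IsElementaryAbelian.commute hD (hA ha) (hB hb)

theorem isElementaryAbelian_sup {p : ℕ} {A B : Subgroup X} (hA : IsElementaryAbelian p A)
    (hB : IsElementaryAbelian p B) (h : ∀ a ∈ A, ∀ b ∈ B, a * b = b * a) :
    IsElementaryAbelian p (A ⊔ B) := by
  have key : ∀ z ∈ A ⊔ B, ∃ a ∈ A, ∃ b ∈ B, z = a * b := by
    intro z hz
    rw [← SetLike.mem_coe, Subgroup.coe_mul_of_left_le_normalizer_right A B ?_] at hz
    · obtain ⟨a, ha, b, hb, rfl⟩ := hz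
      exact ⟨a, ha, b, hb, rfl⟩
    · intro a ha
      refine Subgroup.centralizer_le_normalizer _ ?_
      exact Subgroup.mem_centralizer_iff.2 fun b hb => (h a ha b hb).symm
  refine ⟨⟨⟨fun z w => Subtype.ext ?_⟩⟩, fun z hz => ?_⟩
  · obtain ⟨a, ha, b, hb, hz⟩ := key z z.2
    obtain ⟨c, hc, d, hd, hw⟩ := key w w.2
    show (z : X) * w = w * z
    rw [hz, hw]
    calc a * b * (c * d) = a * (b * c) * d := by group
      _ = a * (c * b) * d := by rw [h c hc b hb]
      _ = (a * c) * (b * d) := by group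
      _ = (c * a) * (d * b) := by
        rw [IsElementaryAbelian.commute hA ha hc, IsElementaryAbelian.commute hB hb hd]
      _ = c * (a * d) * b := by group
      _ = c * (d * a) * b := by rw [h a ha d hd]
      _ = c * d * (a * b) := by group
  · obtain ⟨a, ha, b, hb, rfl⟩ := key z hz
    rw [(show Commute a b from h a ha b hb).mul_pow, hA.2 a ha, hB.2 b hb, one_mul]

theorem isElementaryAbelian_zpowers {u : X} (hu : u ^ 2 = 1) :
    IsElementaryAbelian 2 (Subgroup.zpowers u) := by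
  refine ⟨inferInstance, ?_⟩
  rintro _ ⟨i, rfl⟩
  show (u ^ i) ^ 2 = 1
  rw [← zpow_natCast, ← zpow_mul, mul_comm, zpow_mul, zpow_natCast, hu, one_zpow]

theorem isKleinFour_iff_elementary {V : Subgroup X} :
    IsKleinFour V ↔ IsElementaryAbelian 2 V ∧ Nat.card V = 4 := by
  constructor
  · intro h
    have h2 : ∀ a : V, a ^ 2 = 1 := fun a => by
      rw [← h.exponent_two]; exact Monoid.pow_exponent_eq_one a
    refine ⟨⟨⟨⟨fun a b => mul_comm_of_exponent_two h.exponent_two a b⟩⟩, fun a ha =>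
      congrArg Subtype.val (h2 ⟨a, ha⟩)⟩, h.card_four⟩
  · rintro ⟨hV, hc⟩
    haveI : Finite V := Nat.finite_of_card_ne_zero (by omega)
    haveI : Nontrivial V := Finite.one_lt_card_iff_nontrivial.1 (by omega)
    refine ⟨hc, ?_⟩
    have hd : Monoid.exponent V ∣ 2 :=
      Monoid.exponent_dvd_of_forall_pow_eq_one fun a => Subtype.ext (hV.2 a a.2)
    rcases (Nat.dvd_prime Nat.prime_two).1 hd with h1 | h1
    · exact absurd (Monoid.exp_eq_one_iff.1 h1) (not_subsingleton V)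
    · exact h1

variable [Finite X]

/-- The centralizer in `E` of an element squaring to one has order at least `√|E|`. -/
theorem card_le_centralizer_sq {E : Subgroup X} (hE : IsElementaryAbelian 2 E) {u : X}
    (hu : u ^ 2 = 1) (hN : u ∈ Subgroup.normalizer (E : Set X)) :
    Nat.card E ≤ Nat.card ↥(E ⊓ Subgroup.centralizer {u}) ^ 2 := by
  have hconj : ∀ e ∈ E, u * e * u⁻¹ ∈ E := fun e he => (Subgroup.mem_normalizer_iff.1 hN e).1 he
  let f : E →* E := MonoidHom.mk' (fun e => ⟨u * (e : X) * u⁻¹ * (e : X)⁻¹,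
      E.mul_mem (hconj e e.2) (E.inv_mem e.2)⟩) fun a b => Subtype.ext (by
    show u * ((a : X) * b) * u⁻¹ * ((a : X) * b)⁻¹ =
      u * a * u⁻¹ * (a : X)⁻¹ * (u * b * u⁻¹ * (b : X)⁻¹)
    rw [mul_inv_rev]
    calc u * ((a : X) * b) * u⁻¹ * ((b : X)⁻¹ * (a : X)⁻¹)
        = (u * a * u⁻¹) * ((u * b * u⁻¹ * (b : X)⁻¹) * (a : X)⁻¹) := by group
      _ = (u * a * u⁻¹) * ((a : X)⁻¹ * (u * b * u⁻¹ * (b : X)⁻¹)) := by
        rw [IsElementaryAbelian.commute hE (E.mul_mem (hconj b b.2) (E.inv_mem b.2))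
          (E.inv_mem a.2)]
      _ = _ := by group)
  have hu' : u⁻¹ = u := by
    rw [sq] at hu
    exact inv_eq_of_mul_eq_one_right hu
  have hker : Nat.card f.ker ≤ Nat.card ↥(E ⊓ Subgroup.centralizer {u}) := by
    refine Nat.card_le_card_of_injective (fun x => ⟨((x : E) : X), (x : E).2, ?_⟩) fun a b h => ?_
    · have h1 : u * ((x : E) : X) * u⁻¹ * ((x : E) : X)⁻¹ = 1 := congrArg Subtype.val x.2
      rw [mul_inv_eq_one, mul_inv_eq_iff_eq_mul] at h1
      exact Subgroup.mem_centralizer_singleton_iff.2 h1.symm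
    · exact Subtype.ext (Subtype.ext (congrArg Subtype.val h :))
  have hran : Nat.card f.range ≤ Nat.card ↥(E ⊓ Subgroup.centralizer {u}) := by
    refine Nat.card_le_card_of_injective (fun x => ⟨((x : E) : X), (x : E).2, ?_⟩) fun a b h => ?_
    · obtain ⟨e, he⟩ := x.2
      have hval : ((x : E) : X) = u * e * u⁻¹ * (e : X)⁻¹ := (congrArg Subtype.val he).symm
      refine Subgroup.mem_centralizer_singleton_iff.2 ?_
      rw [hval]
      have hi : ∀ y ∈ E, y⁻¹ = y := fun y hy =>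
        inv_eq_of_mul_eq_one_right (by rw [← sq]; exact hE.2 y hy)
      have h2 : u * (u * e * u⁻¹ * (e : X)⁻¹) * u⁻¹ = u * e * u⁻¹ * (e : X)⁻¹ := by
        rw [hi e e.2, hu']
        have hc := IsElementaryAbelian.commute hE e.2 (hconj e e.2)
        rw [hu'] at hc
        calc u * (u * e * u * e) * u = (u * u) * (e * (u * e * u)) := by group
          _ = u * e * u * e := by rw [← sq, hu, one_mul, hc]
      calc u * e * u⁻¹ * (e : X)⁻¹ * u = u * (u * e * u⁻¹ * (e : X)⁻¹) * u⁻¹ * u := by rw [h2]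
        _ = u * (u * e * u⁻¹ * (e : X)⁻¹) := by group
    · exact Subtype.ext (Subtype.ext (congrArg Subtype.val h :))
  have h := f.ker.card_mul_index
  rw [Subgroup.index_ker] at h
  rw [← h, sq]
  exact Nat.mul_le_mul hker hran

theorem exists_le_card (hX : IsPGroup 2 X) {V W : Subgroup X} (hVW : V ≤ W) {m : ℕ}
    (hV : Nat.card V ≤ 2 ^ m) (hW : 2 ^ m ≤ Nat.card W) :
    ∃ A, V ≤ A ∧ A ≤ W ∧ Nat.card A = 2 ^ m := by
  haveI : Fact (Nat.Prime 2) := ⟨Nat.prime_two⟩
  obtain ⟨a, ha⟩ := (hX.to_subgroup V).exists_card_eq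
  obtain ⟨b, hb⟩ := (hX.to_subgroup W).exists_card_eq
  have hV' : Nat.card (V.subgroupOf W) = 2 ^ a := by
    rw [Nat.card_congr (Subgroup.subgroupOfEquivOfLe hVW).toEquiv, ha]
  have ham : a ≤ m := (Nat.pow_le_pow_iff_right one_lt_two).1 (ha ▸ hV)
  have hmb : m ≤ b := (Nat.pow_le_pow_iff_right one_lt_two).1 (hb ▸ hW)
  obtain ⟨K, hK, hle⟩ := Sylow.exists_subgroup_card_pow_prime_le 2 (hb ▸ Nat.pow_dvd_pow 2 hmb)
    (V.subgroupOf W) hV' ham
  refine ⟨K.map W.subtype, fun v hv => ⟨⟨v, hVW hv⟩, hle hv, rfl⟩, Subgroup.map_subtype_le K, ?_⟩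
  rw [Subgroup.card_map_of_injective W.subtype_injective, hK]

theorem exists_central_involution (hX : IsPGroup 2 X) {E : Subgroup X} [E.Normal]
    (hE : IsElementaryAbelian 2 E) (hne : E ≠ ⊥) :
    ∃ z ∈ E, z ≠ 1 ∧ ∀ x : X, x * z = z * x ∧ z ^ 2 = 1 := by
  haveI : Fact (Nat.Prime 2) := ⟨Nat.prime_two⟩
  have hdvd : 2 ∣ Nat.card E := by
    obtain ⟨k, hk⟩ := (hX.to_subgroup E).exists_card_eq
    rw [hk]
    refine dvd_pow_self 2 fun h0 => hne ?_
    rw [h0, pow_zero] at hk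
    exact Subgroup.card_eq_one.1 hk
  let α : MulAction (ConjAct X) E := inferInstance
  have h1 : (1 : E) ∈ MulAction.fixedPoints (ConjAct X) E := fun g => smul_one g
  obtain ⟨z, hz, hz1⟩ := (hX.of_equiv ConjAct.toConjAct).exists_fixed_point_of_prime_dvd_card_of_fixed_point
    E hdvd h1
  refine ⟨z, z.2, fun e => hz1 (Subtype.ext e.symm), fun x => ⟨?_, hE.2 z z.2⟩⟩
  have h2 : x * (z : X) * x⁻¹ = z := congrArg Subtype.val (hz (ConjAct.toConjAct x))
  calc x * (z : X) = x * z * x⁻¹ * x := by group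
    _ = z * x := by rw [h2]

theorem card_zpowers_sup_le {a b : X} (hab : a * b = b * a) (ha : a ^ 2 = 1) (hb : b ^ 2 = 1) :
    Nat.card ↥(Subgroup.zpowers a ⊔ Subgroup.zpowers b) ≤ 4 := by
  have hle : Subgroup.zpowers a ≤ Subgroup.normalizer ((Subgroup.zpowers b : Subgroup X) : Set X) :=
    Subgroup.zpowers_le.2 (Subgroup.centralizer_le_normalizer _ (Subgroup.mem_centralizer_iff.2 (by
      rintro _ ⟨i, rfl⟩
      exact ((show Commute b a from hab.symm).zpow_left i).eq)))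
  have h := Subgroup.coe_mul_of_left_le_normalizer_right _ _ hle
  rw [← SetLike.coe_sort_coe, h]
  refine Set.natCard_mul_le.trans ?_
  have h2 : ∀ u : X, u ^ 2 = 1 → Nat.card ((Subgroup.zpowers u : Subgroup X) : Set X) ≤ 2 :=
    fun u hu => by
      rw [SetLike.coe_sort_coe, Nat.card_zpowers]
      exact Nat.le_of_dvd two_pos (orderOf_dvd_of_pow_eq_one hu)
  exact (Nat.mul_le_mul (h2 a ha) (h2 b hb)).trans (by norm_num)

theorem exists_mem_notMem {A : Subgroup X} {W : Subgroup X} (h : Nat.card W < Nat.card A) :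
    ∃ a ∈ A, a ∉ W := by
  by_contra! hc
  exact absurd (Subgroup.card_le_of_le (hc : A ≤ W)) (not_le.2 h)

end Cfsg.Agent.Fus
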