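import Mathlib
import Cfsg.Agent.Lib.Grp.QuadraticGroup
import Cfsg.Agent.Lib.Grp.Frattini
import Cfsg.Agent.Lib.Grp.Solvable
import Cfsg.Agent.Lib.Grp.Cores
import Cfsg.Agent.S0029

/-!
Solvable groups of odd order with Sylow subgroups of cyclic derived subgroup have `p`-length one.
-/

set_option autoImplicit false

namespace Cfsg.Agent.Fus

universe u

variable {G : Type u} [Group G] [Finite G] {p : ℕ} [hp : Fact p.Prime]

/-- In a solvable group with trivial `p'`-core the `p`-core contains its centralizer. -/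
theorem centralizer_pCore_le_of_solvable [Group.IsSolvable G] (h : Cfsg.pPrimeCore p G = ⊥) :
    Subgroup.centralizer (Cfsg.pCore p G : Set G) ≤ Cfsg.pCore p G := by
  have hF : Cfsg.fittingSubgroup G = Cfsg.pCore p G := by
    refine le_antisymm ?_ Grp.pCore_le_fittingSubgroup
    rw [Grp.fittingSubgroup_eq_iSup_pCore]
    refine iSup_le fun q => ?_
    haveI := Fact.mk q.2
    by_cases hq : (q : ℕ) = p
    · rw [hq]
    · obtain ⟨n, hn⟩ := IsPGroup.iff_card.mp (Grp.pCore_isPGroup (p := (q : ℕ)) (G := G))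
      have h1 : Cfsg.pCore (q : ℕ) G ≤ Cfsg.pPrimeCore p G := Grp.le_pPrimeCore Grp.pCore_isNormal
        (by rw [hn]; exact ((Nat.coprime_primes q.2 hp.out).mpr hq).pow_left n)
      exact (h1.trans h.le).trans bot_le
  exact hF ▸ Grp.centralizer_fittingSubgroup_le

omit hp in
/-- Groups of odd order do not involve `Qd(p)` for odd `p`. -/
theorem not_involves_qd_of_odd [Fact p.Prime] (hp2 : p ≠ 2) (hodd : Odd (Nat.card G)) :
    ¬ Cfsg.Involves ↥(Cfsg.qd p) G := by
  rintro ⟨K, R, hR, ⟨e⟩⟩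
  haveI : Fact (2 < p) := ⟨lt_of_le_of_ne (Fact.out : p.Prime).two_le (Ne.symm hp2)⟩
  let M : Matrix.SpecialLinearGroup (Fin 3) (ZMod p) := ⟨!![-1, 0, 0; 0, -1, 0; 0, 0, 1], by
    simp [Matrix.det_fin_three]⟩
  have hM : M ∈ Cfsg.qd p := Subgroup.subset_closure ⟨rfl, rfl, rfl⟩
  have hM2 : (⟨M, hM⟩ : ↥(Cfsg.qd p)) ^ 2 = 1 := by
    refine Subtype.ext (Subtype.ext ?_)
    show ((M ^ 2 : Matrix.SpecialLinearGroup (Fin 3) (ZMod p)) : Matrix (Fin 3) (Fin 3) (ZMod p)) = 1
    rw [Matrix.SpecialLinearGroup.coe_pow]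
    ext i j
    fin_cases i <;> fin_cases j <;> simp [M, pow_two, Matrix.mul_apply, Fin.sum_univ_three]
  have hM1 : (⟨M, hM⟩ : ↥(Cfsg.qd p)) ≠ 1 := fun h => by
    have h1 : (-1 : ZMod p) = 1 := congrArg
      (fun x : ↥(Cfsg.qd p) => ((x : Matrix.SpecialLinearGroup (Fin 3) (ZMod p)) : Matrix (Fin 3) (Fin 3) (ZMod p)) 0 0) h
    exact ZMod.neg_one_ne_one h1
  have h2 : 2 ∣ Nat.card ↥(Cfsg.qd p) := by
    rw [← orderOf_eq_prime hM2 hM1]
    exact orderOf_dvd_natCard _
  have h3 : Nat.card ↥(Cfsg.qd p) ∣ Nat.card G := by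
    rw [← Nat.card_congr e.toEquiv]
    exact (Subgroup.card_quotient_dvd_card _).trans (Subgroup.card_subgroup_dvd_card K)
  exact (Nat.not_even_iff_odd.mpr hodd) (even_iff_two_dvd.mpr (h2.trans h3))

/-- The normality of the Sylow subgroup when the `p'`-core is trivial. -/
theorem sylow_normal_of_odd [Group.IsSolvable G] (hp2 : p ≠ 2) (hodd : Odd (Nat.card G))
    (hcore : Cfsg.pPrimeCore p G = ⊥) (T : Sylow p G)
    (hcyc : IsCyclic (⁅(T : Subgroup G), (T : Subgroup G)⁆ : Subgroup G)) :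
    (T : Subgroup G).Normal := by
  obtain ⟨P, hPdef⟩ : ∃ P : Subgroup G, P = Cfsg.pCore p G := ⟨_, rfl⟩
  haveI hPn : P.Normal := hPdef ▸ Grp.pCore_isNormal
  have hPp : IsPGroup p P := hPdef ▸ Grp.pCore_isPGroup
  have hPT : P ≤ (T : Subgroup G) := hPdef ▸ Grp.pCore_le_sylow T
  have hCP : Subgroup.centralizer (P : Set G) ≤ P := hPdef ▸ centralizer_pCore_le_of_solvable hcore
  obtain ⟨F, hFdef⟩ : ∃ F : Subgroup G, F = (frattini P).map P.subtype := ⟨_, rfl⟩
  haveI : F.Normal := hFdef ▸ inferInstance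
  set g := QuotientGroup.mk' F with hg
  have hgk : ∀ x, g x = 1 ↔ x ∈ F := fun x => QuotientGroup.eq_one_iff x
  obtain ⟨V, hVdef⟩ : ∃ V : Subgroup (G ⧸ F), V = P.map g := ⟨_, rfl⟩
  haveI hVn : V.Normal := hVdef ▸ hPn.map g (QuotientGroup.mk'_surjective F)
  have hVp : IsPGroup p V := hVdef ▸ hPp.map g
  obtain ⟨Tb, hTdef⟩ : ∃ Tb : Subgroup (G ⧸ F), Tb = (T : Subgroup G).map g := ⟨_, rfl⟩
  have hTp : IsPGroup p Tb := hTdef ▸ T.isPGroup'.map g
  obtain ⟨W, hWdef⟩ : ∃ W : Subgroup (G ⧸ F), W = ⁅V, Tb⁆ := ⟨_, rfl⟩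
  have hWV : W ≤ V := hWdef ▸ Subgroup.commutator_le_left V Tb
  have hWT : W ≤ Tb := hWV.trans (hVdef ▸ hTdef ▸ Subgroup.map_mono hPT)
  -- the commutator of the Frattini quotient with the Sylow image has order at most `p`
  have hVexp : ∀ v ∈ V, v ^ p = 1 := by
    rw [hVdef]
    rintro _ ⟨v, hv, rfl⟩
    rw [← map_pow, hgk, hFdef]
    exact ⟨_, Grp.pGroup_pow_mem_frattini hPp ⟨v, hv⟩, rfl⟩
  have hWcard : Nat.card W ∣ p := by
    have hWle : W ≤ (⁅(T : Subgroup G), (T : Subgroup G)⁆ : Subgroup G).map g := by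
      rw [hWdef, hVdef, hTdef, ← Subgroup.map_commutator]
      exact Subgroup.map_mono (Subgroup.commutator_mono hPT le_rfl)
    haveI := hcyc
    haveI : IsCyclic ↥((⁅(T : Subgroup G), (T : Subgroup G)⁆ : Subgroup G).map g) :=
      isCyclic_of_surjective _ (g.subgroupMap_surjective _)
    haveI : IsCyclic W := Subgroup.isCyclic_of_le hWle
    obtain ⟨w, hw⟩ := IsCyclic.exists_generator (α := W)
    rw [← orderOf_eq_card_of_forall_mem_zpowers hw]
    exact orderOf_dvd_of_pow_eq_one (Subtype.ext (hVexp _ (hWV w.2)))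
  have hWcomm : ⁅W, Tb⁆ = ⊥ := by
    rcases (Nat.dvd_prime hp.out).mp hWcard with h1 | h1
    · rw [Subgroup.card_eq_one.mp h1, Subgroup.commutator_bot_left]
    · set W' := W.subgroupOf Tb with hW'
      haveI : W'.Normal := by
        refine Subgroup.normal_subgroupOf_iff hWT |>.mpr fun w t hw ht => ?_
        have hn : Tb ≤ Subgroup.normalizer (W : Set (G ⧸ F)) :=
          hWdef ▸ Grp.right_le_normalizer_commutator Tb V
        exact (Subgroup.mem_normalizer_iff.mp (hn ht) w).mp hw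
      have hc : Nat.card W' = p := by
        rw [Nat.card_congr (Subgroup.subgroupOfEquivOfLe hWT).toEquiv, h1]
      have hne : W' ≠ ⊥ := fun e => by
        rw [e, Subgroup.card_bot] at hc
        exact hp.out.ne_one hc.symm
      haveI := hTp.isNilpotent
      have hi := Grp.inf_center_ne_bot W' hne
      have hle : W' ≤ Subgroup.center Tb := by
        haveI : Fact (Nat.card W').Prime := ⟨hc ▸ hp.out⟩
        rcases Subgroup.eq_bot_or_eq_top_of_prime_card ((Subgroup.center Tb).subgroupOf W') with e | e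
        · refine absurd ?_ hi
          rw [Subgroup.subgroupOf_eq_bot, disjoint_iff] at e
          rw [inf_comm]; exact e
        · exact Subgroup.subgroupOf_eq_top.mp e
      rw [Subgroup.commutator_eq_bot_iff_le_centralizer]
      intro w hw
      rw [Subgroup.mem_centralizer_iff]
      intro t ht
      exact congrArg Subtype.val (Subgroup.mem_center_iff.mp (hle (show (⟨w, hWT hw⟩ : Tb) ∈ W' from hw)) ⟨t, ht⟩)
  -- quadratic elements lie in the core
  have hodd' : Odd (Nat.card (G ⧸ F)) := hodd.of_dvd_nat (Subgroup.card_quotient_dvd_card F)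
  have hst := Grp.Quad.isPStableOn_of_free hp2 (not_involves_qd_of_odd hp2 hodd') V hVp
  set h := (QuotientGroup.mk' (Subgroup.centralizer (V : Set (G ⧸ F)))).comp g with hh
  have hker : IsPGroup p h.ker := by
    have hprime : ∀ q : ℕ, q.Prime → q ∣ Nat.card h.ker → q = p := by
      intro q hq hd
      haveI := Fact.mk hq
      by_contra hne
      obtain ⟨y, hy⟩ := exists_prime_orderOf_dvd_card' q hd
      have hy' : orderOf (y : G) = q := by rw [Subgroup.orderOf_coe, hy]
      have hyC : g y ∈ Subgroup.centralizer (V : Set (G ⧸ F)) := (QuotientGroup.eq_one_iff _).mp y.2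
      have hA := S0029.result (Subgroup.zpowers (y : G)) P
        (fun z _ => Subgroup.normalizer_eq_top (H := P) ▸ Subgroup.mem_top z)
        (by
          obtain ⟨n, hn⟩ := IsPGroup.iff_card.mp (hPp.to_subgroup (frattini P))
          rw [Nat.card_zpowers, hy', hn]
          exact ((Nat.coprime_primes hq hp.out).mpr hne).pow_right n)
        (by
          intro a ha k hk
          rw [← hFdef, ← hgk]
          have haC : g a ∈ Subgroup.centralizer (V : Set (G ⧸ F)) := by
            obtain ⟨m, rfl⟩ := Subgroup.mem_zpowers_iff.mp ha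
            rw [map_zpow]
            exact Subgroup.zpow_mem _ hyC m
          have hc := Subgroup.mem_centralizer_iff.mp haC (g k) (hVdef ▸ Subgroup.mem_map_of_mem g hk)
          rw [map_mul, map_mul, map_mul, map_inv, map_inv, ← hc, mul_inv_cancel_right, mul_inv_cancel])
      have hyP : (y : G) ∈ P := hCP (hA (Subgroup.mem_zpowers _))
      obtain ⟨n, hn⟩ := IsPGroup.iff_orderOf.mp hPp ⟨(y : G), hyP⟩
      rw [Subgroup.orderOf_mk, hy'] at hn
      exact hne ((Nat.prime_dvd_prime_iff_eq hq hp.out).mp (hq.dvd_of_dvd_pow (hn ▸ dvd_refl q : q ∣ p ^ n)))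
    exact IsPGroup.of_card (n := (Nat.card h.ker).primeFactorsList.length)
      (Nat.eq_prime_pow_of_unique_prime_dvd Nat.card_pos.ne' (fun {q} hq hd => hprime q hq hd))
  obtain ⟨D, hDdef⟩ : ∃ D : Subgroup G,
      D = (Cfsg.pCore p ((G ⧸ F) ⧸ Subgroup.centralizer (V : Set (G ⧸ F)))).comap h := ⟨_, rfl⟩
  have hDn : D.Normal := hDdef ▸ Grp.pCore_isNormal.comap h
  have hDp : IsPGroup p D := hDdef ▸ Grp.pCore_isPGroup.comap_of_ker_isPGroup h hker
  have hTD : (T : Subgroup G) ≤ D := by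
    intro x hx
    rw [hDdef]
    refine hst (g x) ?_
    have hz : Subgroup.zpowers (g x) ≤ Tb := Subgroup.zpowers_le.mpr (hTdef ▸ Subgroup.mem_map_of_mem g hx)
    refine le_bot_iff.mp (le_trans (Subgroup.commutator_mono ?_ hz) hWcomm.le)
    rw [hWdef]
    exact Subgroup.commutator_mono le_rfl hz
  rwa [← T.is_maximal' hDp hTD]

/-- `O_{p'}(G) S` is normal in a solvable group of odd order when `S` has cyclic derived subgroup. -/
theorem sup_sylow_normal_of_odd [Group.IsSolvable G] (hodd : Odd (Nat.card G)) (S : Sylow p G)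
    (hS : IsCyclic (⁅(S : Subgroup G), (S : Subgroup G)⁆ : Subgroup G)) :
    (Cfsg.pPrimeCore p G ⊔ (S : Subgroup G)).Normal := by
  haveI := Grp.pPrimeCore_isNormal (p := p) (G := G)
  set N := Cfsg.pPrimeCore p G with hN
  set f := QuotientGroup.mk' N with hf
  by_cases hp2 : p = 2
  · subst hp2
    have htop : N = ⊤ := top_le_iff.mp (Grp.le_pPrimeCore inferInstance (by
      rw [Subgroup.card_top]; exact Nat.coprime_two_right.mpr hodd))
    rw [htop, top_sup_eq]
    infer_instance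
  set T := S.mapSurjective (QuotientGroup.mk'_surjective N) with hT
  have hTc : (T : Subgroup (G ⧸ N)) = (S : Subgroup G).map f := Sylow.coe_mapSurjective _ _
  have hTn : (T : Subgroup (G ⧸ N)).Normal := by
    refine sylow_normal_of_odd hp2 (hodd.of_dvd_nat (Subgroup.card_quotient_dvd_card N))
      Grp.pPrimeCore_quotient_eq_bot T ?_
    rw [hTc, ← Subgroup.map_commutator]
    haveI := hS
    exact isCyclic_of_surjective _ (f.subgroupMap_surjective _)
  have h1 := hTn.comap f
  rwa [hTc, Subgroup.comap_map_eq, QuotientGroup.ker_mk', sup_comm] at h1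

end Cfsg.Agent.Fus
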