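import Mathlib
import Cfsg.Prelude.Def_OddOrderLocal
import Cfsg.Agent.S1480
import Cfsg.Agent.S0629
import Cfsg.Agent.S1950
import Cfsg.Agent.Lib.Grp.DisconnectedGraph

/-!
The transitivity theorem for a self-centralizing abelian normal subgroup of a Sylow subgroup of a
group of odd order with solvable local subgroups.
-/

set_option autoImplicit false
set_option linter.style.haveILetI false

namespace Cfsg.Agent.Fus.TransOdd

open Subgroup

universe u

theorem isPSolvable_of_solvable {p : ℕ} (hp : p.Prime) : ∀ (n : ℕ) (G : Type u) [Group G] [Finite G],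
    Nat.card G = n → Group.IsSolvable G → Cfsg.IsPSolvable p G := by
  intro n
  induction n using Nat.strong_induction_on with
  | _ n ih =>
  intro G _ _ hn hsolv
  rcases subsingleton_or_nontrivial G with hs | hs
  · exact Cfsg.Agent.S1950.isPSolvable_of_card G
      (Or.inl ⟨0, by rw [pow_zero]; exact Nat.card_of_subsingleton 1⟩)
  obtain ⟨q, N, hq, hN, hqN, hN1⟩ := Cfsg.Agent.Grp.Graph.exists_normal_pGroup (G := G)
  haveI := hN
  haveI := Fact.mk hq
  haveI := Fact.mk hp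
  obtain ⟨k, hk⟩ := IsPGroup.iff_card.1 hqN
  refine Cfsg.Agent.S1950.isPSolvable_ext N ?_
    (ih _ (hn ▸ Cfsg.Agent.Grp.card_quotient_lt hN1) (G ⧸ N) rfl inferInstance)
  by_cases hqp : q = p
  · exact Or.inl ⟨k, hqp ▸ hk⟩
  · exact Or.inr (hk ▸ ((Nat.coprime_primes hq hp).2 hqp).pow_left k)

theorem isPConstrained_of_solvable {G : Type u} [Group G] [Finite G] {p : ℕ} [hp : Fact p.Prime]
    (hG : Group.IsSolvable G) : Cfsg.IsPConstrained p G := fun P => by
  haveI := hG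
  exact Cfsg.Agent.S0629.result P (isPSolvable_of_solvable hp.out _ _ rfl inferInstance) P

variable {X : Type u} [Group X] [Finite X] {p : ℕ} [hp : Fact p.Prime]

theorem mem_of_centralizes (P : Sylow p X) {B : Subgroup X} (hBP : B ≤ (P : Subgroup X))
    (hBn : ∀ x ∈ (P : Subgroup X), ∀ b ∈ B, x * b * x⁻¹ ∈ B)
    (hBc : (P : Subgroup X) ⊓ centralizer (B : Set X) = B)
    {x : X} (hx : x ∈ centralizer (B : Set X)) (hxp : IsPGroup p (zpowers x)) : x ∈ B := by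
  obtain ⟨N, hN⟩ : ∃ N, N = normalizer (B : Set X) := ⟨_, rfl⟩
  have hPN : (P : Subgroup X) ≤ N := by
    intro y hy
    rw [hN, Subgroup.mem_normalizer_iff]
    intro b
    refine ⟨fun hb => hBn y hy b hb, fun hb => ?_⟩
    have := hBn y⁻¹ (inv_mem hy) _ hb
    simpa [mul_assoc] using this
  have hxN : x ∈ N := by
    rw [hN]; exact centralizer_le_normalizer _ hx
  have hzN : zpowers x ≤ N := zpowers_le.2 hxN
  obtain ⟨S, hS⟩ := (hxp.comap_of_injective N.subtype N.subtype_injective).exists_le_sylow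
  obtain ⟨n, hn⟩ := MulAction.exists_smul_eq N (P.subtype hPN) S
  have hxS : (⟨x, hxN⟩ : N) ∈ (S : Subgroup N) := hS (show x ∈ zpowers x from mem_zpowers x)
  rw [← hn, Sylow.coe_subgroup_smul, Subgroup.mem_pointwise_smul_iff_inv_smul_mem] at hxS
  have hy : ((n⁻¹ : N) : X) * x * ((n⁻¹ : N) : X)⁻¹ ∈ (P : Subgroup X) := by
    have h1 := hxS
    simp only [Sylow.coe_subtype, MulAut.smul_def, mem_subgroupOf] at h1
    simpa [MulAut.conj_inv_apply, mul_assoc] using h1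
  have hy2 : ((n⁻¹ : N) : X) * x * ((n⁻¹ : N) : X)⁻¹ ∈ centralizer (B : Set X) := by
    refine mem_centralizer_iff.2 fun b hb => ?_
    have hnn : (n : X) ∈ normalizer (B : Set X) := by rw [← hN]; exact n.2
    have hb' : (n : X) * b * (n : X)⁻¹ ∈ B := (Subgroup.mem_normalizer_iff.1 hnn b).1 hb
    have h := mem_centralizer_iff.1 hx _ hb'
    rw [Subgroup.coe_inv, inv_inv]
    calc b * ((n : X)⁻¹ * x * (n : X)) = (n : X)⁻¹ * ((n : X) * b * (n : X)⁻¹ * x) * n := by group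
      _ = (n : X)⁻¹ * (x * ((n : X) * b * (n : X)⁻¹)) * n := by rw [h]
      _ = (n : X)⁻¹ * x * n * b := by group
  have hy' : ((n⁻¹ : N) : X) * x * ((n⁻¹ : N) : X)⁻¹ ∈ B := hBc.le ⟨hy, hy2⟩
  have hni : ((n⁻¹ : N) : X) ∈ normalizer (B : Set X) := hN ▸ (n⁻¹).2
  exact (Subgroup.mem_normalizer_iff.1 hni x).2 hy'

theorem transitivity_odd
    (hloc : ∀ T : Subgroup X, IsPGroup p T → T ≠ ⊥ → Group.IsSolvable (normalizer (T : Set X)))
    (hodd : Odd (Nat.card X)) (P : Sylow p X) (B : Subgroup X) (hBP : B ≤ (P : Subgroup X))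
    (hBn : ∀ x ∈ (P : Subgroup X), ∀ b ∈ B, x * b * x⁻¹ ∈ B) (hBa : IsMulCommutative B)
    (hBc : (P : Subgroup X) ⊓ centralizer (B : Set X) = B)
    (hB3 : ∃ E : Subgroup X, E ≤ B ∧ (∀ e ∈ E, e ^ p = 1) ∧ p ^ 3 ≤ Nat.card E)
    (q : ℕ) [hq : Fact q.Prime] (hqp : q ≠ p) (Q₁ Q₂ : Subgroup X)
    (h₁ : IsPGroup q Q₁ ∧ B ≤ normalizer (Q₁ : Set X) ∧ ∀ R : Subgroup X, IsPGroup q R →
      B ≤ normalizer (R : Set X) → Q₁ ≤ R → R = Q₁)
    (h₂ : IsPGroup q Q₂ ∧ B ≤ normalizer (Q₂ : Set X) ∧ ∀ R : Subgroup X, IsPGroup q R →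
      B ≤ normalizer (R : Set X) → Q₂ ≤ R → R = Q₂) :
    ∃ c ∈ centralizer (B : Set X), Q₂ = Q₁.map (MulAut.conj c).toMonoidHom := by
  obtain ⟨E, hEB, hEe, hE3⟩ := hB3
  have hp2 : p ≠ 2 := by
    rintro rfl
    have h4 : 4 ∣ Nat.card E := by
      obtain ⟨k, hk⟩ := IsPGroup.iff_card.mp ((P.isPGroup'.to_le hBP).to_le hEB)
      rw [hk] at hE3 ⊢
      exact pow_dvd_pow 2 (show 2 ≤ k by
        by_contra hlt
        have : 2 ^ k ≤ 2 := le_trans (Nat.pow_le_pow_right (by norm_num) (by omega : k ≤ 1)) (by norm_num)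
        omega)
    have := (dvd_trans (by norm_num : 2 ∣ 4) h4).trans (Subgroup.card_subgroup_dvd_card E)
    exact (Nat.not_even_iff_odd.2 hodd) (even_iff_two_dvd.2 this)
  haveI := hBa
  have hrank : ¬ Cfsg.PRankLE p 2 B := by
    intro h
    have hE' := h (E.subgroupOf B) inferInstance (fun a ha => Subtype.ext (by simpa using hEe _ ha))
    rw [Nat.card_congr (subgroupOfEquivOfLe hEB).toEquiv] at hE'
    have := Nat.pow_lt_pow_right hp.out.one_lt (show 2 < 3 by norm_num)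
    omega
  have hmax : ∀ Q : Subgroup X, (IsPGroup q Q ∧ B ≤ normalizer (Q : Set X) ∧ ∀ R : Subgroup X,
      IsPGroup q R → B ≤ normalizer (R : Set X) → Q ≤ R → R = Q) →
      Q ∈ Cfsg.maxInvSubgroups ⊤ B ({q} : Set ℕ) := fun Q hQ =>
    ⟨Transfer.Transitivity.mem_inv_iff.2 ⟨hQ.1, hQ.2.1⟩, fun R hR hle =>
      hQ.2.2 R (Transfer.Transitivity.mem_inv_iff.1 hR).1 (Transfer.Transitivity.mem_inv_iff.1 hR).2 hle⟩
  obtain ⟨k, hk, he⟩ := Cfsg.Agent.S1480.result p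
    (fun T hT hT1 => isPConstrained_of_solvable (hloc T hT hT1)) (fun h => absurd h hp2) B
    (P.isPGroup'.to_le hBP) hBa hrank (fun x hx hxp => mem_of_centralizes P hBP hBn hBc hx hxp)
    q hqp Q₁ (hmax Q₁ h₁) Q₂ (hmax Q₂ h₂)
  exact ⟨k, Subgroup.map_subtype_le _ hk, he⟩

end Cfsg.Agent.Fus.TransOdd
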