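import Cfsg.Agent.Lib.Fus.Saturation

/-!
The fusion system of a finite group on a Sylow subgroup is saturated.
-/

set_option autoImplicit false
set_option linter.style.haveILetI false

open scoped Classical Pointwise

namespace Cfsg.Agent.Fus

open Subgroup FusionSystem

variable {Ω : Type*} [Group Ω]

theorem groupFusionSystem_eq (S : Subgroup Ω) :
    groupFusionSystem S = fusionSystemOfSubgroup ⊤ S le_top := by
  refine eq_of_hom_eq fun P => Set.ext fun φ => ⟨?_, ?_⟩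
  · rintro ⟨h1, h2, g, h3⟩
    exact ⟨h1, h2, g, Subgroup.mem_top g, h3⟩
  · rintro ⟨h1, h2, g, -, h3⟩
    exact ⟨h1, h2, g, h3⟩

theorem isMap_ofSubgroup {H T : Subgroup Ω} {hTH : T ≤ H} {P : Subgroup Ω} {f : Ω → Ω} :
    IsMap (fusionSystemOfSubgroup H T hTH) P f ↔
      P ≤ T ∧ ∃ g ∈ H, ∀ x ∈ P, f x = g * x * g⁻¹ ∧ g * x * g⁻¹ ∈ T := by
  constructor
  · rintro ⟨φ, ⟨hP, hT, g, hg, hφ⟩, e⟩
    exact ⟨hP, g, hg, fun x hx => ⟨(e ⟨x, hx⟩).symm.trans (hφ ⟨x, hx⟩),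
      (hφ ⟨x, hx⟩) ▸ hT ⟨x, hx⟩⟩⟩
  · rintro ⟨hP, g, hg, h⟩
    exact ⟨conjHom P g, ⟨hP, fun x => (h x x.2).2, g, hg, fun x => rfl⟩,
      fun x => (h x x.2).1.symm⟩

theorem isMap_group {S P : Subgroup Ω} {f : Ω → Ω} :
    IsMap (groupFusionSystem S) P f ↔
      P ≤ S ∧ ∃ g, ∀ x ∈ P, f x = g * x * g⁻¹ ∧ g * x * g⁻¹ ∈ S := by
  rw [groupFusionSystem_eq, isMap_ofSubgroup]
  simp only [Subgroup.mem_top, true_and]

theorem isConj_ofSubgroup {H T : Subgroup Ω} {hTH : T ≤ H} {P Q : Subgroup Ω} :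
    (fusionSystemOfSubgroup H T hTH).IsConj P Q ↔
      P ≤ T ∧ Q ≤ T ∧ ∃ g ∈ H, P.map (MulAut.conj g).toMonoidHom = Q := by
  constructor
  · intro h
    refine ⟨isConj_le_left h, isConj_le_right h, ?_⟩
    obtain ⟨f, hf, rfl⟩ := isConj_iff.1 h
    obtain ⟨-, g, hg, hfg⟩ := isMap_ofSubgroup.1 hf
    exact ⟨g, hg, (fimg_conj_eq_map g).symm.trans (fimg_congr fun x hx => ((hfg x hx).1).symm)⟩
  · rintro ⟨hP, hQ, g, hg, rfl⟩
    refine isConj_iff.2 ⟨fun x => g * x * g⁻¹,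
      isMap_ofSubgroup.2 ⟨hP, g, hg, fun x hx => ⟨rfl, hQ ⟨x, hx, rfl⟩⟩⟩, fimg_conj_eq_map g⟩

/-- A Sylow subgroup of `H`, as a subgroup of the ambient group. -/
def IsSylowOf (p : ℕ) (T H : Subgroup Ω) : Prop :=
  T ≤ H ∧ ∃ R : Sylow p H, (R : Subgroup H) = T.subgroupOf H

theorem isSylowOf_top {p : ℕ} (S : Sylow p Ω) : IsSylowOf p (S : Subgroup Ω) ⊤ :=
  ⟨le_top, S.subtype le_top, rfl⟩

namespace IsSylowOf

variable {p : ℕ} {T H : Subgroup Ω}

theorem isPGroup (h : IsSylowOf p T H) : IsPGroup p T := by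
  obtain ⟨hTH, R, hR⟩ := h
  have : IsPGroup p (T.subgroupOf H) := hR ▸ R.2
  exact this.of_equiv (Subgroup.subgroupOfEquivOfLe hTH)

/-- Every `p`-subgroup of `H` is conjugate in `H` into a Sylow subgroup. -/
theorem exists_conj_le [Finite H] [Fact p.Prime] (h : IsSylowOf p T H) {A : Subgroup Ω}
    (hA : IsPGroup p A) (hAH : A ≤ H) : ∃ g ∈ H, A.map (MulAut.conj g).toMonoidHom ≤ T := by
  obtain ⟨hTH, R, hR⟩ := h
  obtain ⟨R', hR'⟩ :=
    (IsPGroup.comap_subtype hA (K := H) : IsPGroup p (A.subgroupOf H)).exists_le_sylow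
  obtain ⟨g, hg⟩ := MulAction.exists_smul_eq H R' R
  refine ⟨g, g.2, ?_⟩
  rintro _ ⟨x, hx, rfl⟩
  have : g * ⟨x, hAH hx⟩ * g⁻¹ ∈ (R : Subgroup H) := by
    rw [← hg]
    exact ⟨_, hR' (show (⟨x, hAH hx⟩ : H) ∈ A.subgroupOf H from hx), rfl⟩
  rw [hR] at this
  exact this

theorem card_le [Finite H] [Fact p.Prime] (h : IsSylowOf p T H) {A : Subgroup Ω}
    (hA : IsPGroup p A) (hAH : A ≤ H) : Nat.card A ≤ Nat.card T := by
  obtain ⟨g, hg, hle⟩ := h.exists_conj_le hA hAH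
  haveI : Finite T := finite_of_le h.1
  rw [← Subgroup.card_map_of_injective (K := A) (f := (MulAut.conj g).toMonoidHom)
    (MulAut.conj g).injective]
  exact Subgroup.card_le_of_le hle

theorem of_card_le [Finite H] (hTH : T ≤ H) (hT : IsPGroup p T)
    (h : ∀ A ≤ H, IsPGroup p A → T ≤ A → A ≤ T) : IsSylowOf p T H := by
  refine ⟨hTH, { toSubgroup := T.subgroupOf H
                 isPGroup' := hT.of_equiv (Subgroup.subgroupOfEquivOfLe hTH).symm
                 is_maximal' := ?_ }, rfl⟩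
  intro Q hQ hle
  refine le_antisymm ?_ hle
  have h1 := h (Q.map H.subtype) (Subgroup.map_subtype_le Q) (hQ.map _) (by
    intro x hx
    exact ⟨⟨x, hTH hx⟩, hle hx, rfl⟩)
  exact fun x hx => h1 ⟨x, hx, rfl⟩

end IsSylowOf

variable {p : ℕ} [Fact p.Prime] {H T : Subgroup Ω} [Finite H]

theorem mem_normalizer_conj {P : Subgroup Ω} {g n : Ω}
    (hn : n ∈ Subgroup.normalizer (P : Set Ω)) :
    g * n * g⁻¹ ∈ Subgroup.normalizer ((P.map (MulAut.conj g).toMonoidHom : Subgroup Ω) : Set Ω) := by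
  refine mem_normalizer_of_forall ?_ ?_ <;> rintro _ ⟨x, hx, rfl⟩
  · exact ⟨n * x * n⁻¹, (Subgroup.mem_normalizer_iff.1 hn x).1 hx, by simp [mul_assoc]⟩
  · exact ⟨n⁻¹ * x * n, (Subgroup.mem_normalizer_iff''.1 hn x).1 hx, by simp [mul_assoc]⟩

/-- For a fully normalized `P`, `N_T(P)` is a Sylow subgroup of `N_H(P)`. -/
theorem isSylowOf_normalizerIn (hT : IsSylowOf p T H) {hTH : T ≤ H} {P : Subgroup Ω}
    (hP : (fusionSystemOfSubgroup H T hTH).IsFullyNormalized P) :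
    IsSylowOf p (normalizerIn T P) (H ⊓ Subgroup.normalizer (P : Set Ω)) := by
  haveI : Finite ↥(H ⊓ Subgroup.normalizer (P : Set Ω)) := finite_of_le (S := H) inf_le_left
  haveI : Finite T := finite_of_le hTH
  refine IsSylowOf.of_card_le (inf_le_inf_right _ hTH)
    (hT.isPGroup.to_le inf_le_left) fun A hA hAp hle => ?_
  obtain ⟨g, hg, hgT⟩ := hT.exists_conj_le hAp (hA.trans inf_le_left)
  have hPA : P ≤ A := (le_normalizerIn hP.1).trans hle
  let P' := P.map (MulAut.conj g).toMonoidHom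
  have hP' : (fusionSystemOfSubgroup H T hTH).IsConj P P' :=
    isConj_ofSubgroup.2 ⟨hP.1, (Subgroup.map_mono hPA).trans hgT, g, hg, rfl⟩
  have hAN : A.map (MulAut.conj g).toMonoidHom ≤ normalizerIn T P' := by
    rintro _ ⟨x, hx, rfl⟩
    exact ⟨hgT ⟨x, hx, rfl⟩, mem_normalizer_conj (g := g) (hA hx).2⟩
  haveI : Finite ↥(normalizerIn T P') := finite_of_le (S := T) inf_le_left
  haveI : Finite A := finite_of_le (hA.trans inf_le_left)
  refine (Subgroup.eq_of_le_of_card_ge hle ?_).ge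
  rw [← Subgroup.card_map_of_injective (K := A) (f := (MulAut.conj g).toMonoidHom)
    (MulAut.conj g).injective]
  exact (Subgroup.card_le_of_le hAN).trans (hP.2 P' hP')

omit [Finite H] in
theorem autGroup_ofSubgroup {hTH : T ≤ H} {P : Subgroup Ω} (hP : P ≤ T) :
    (fusionSystemOfSubgroup H T hTH).autGroup P = autInducedBy H P := by
  ext α
  rw [mem_autGroup hP, isMap_ofSubgroup, mem_autInducedBy]
  constructor
  · rintro ⟨-, g, hg, h⟩
    exact ⟨g, hg, fun x => (autFun_coe α x).symm.trans (h x x.2).1⟩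
  · rintro ⟨g, hg, h⟩
    refine ⟨hP, g, hg, fun x hx => ?_⟩
    have := h ⟨x, hx⟩
    refine ⟨(autFun_coe α ⟨x, hx⟩).trans this, ?_⟩
    rw [← this]
    exact hP (SetLike.coe_mem _)

theorem fullyAutomized_ofSubgroup (hT : IsSylowOf p T H) {hTH : T ≤ H} {P : Subgroup Ω}
    (hP : (fusionSystemOfSubgroup H T hTH).IsFullyNormalized P) :
    (fusionSystemOfSubgroup H T hTH).IsFullyAutomized p P := by
  refine ⟨hP.1, ?_⟩
  obtain ⟨hle, R, hR⟩ := isSylowOf_normalizerIn hT hP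
  haveI : Finite ↥(H ⊓ Subgroup.normalizer (P : Set Ω)) := finite_of_le (S := H) inf_le_left
  let Φ : ↥(H ⊓ Subgroup.normalizer (P : Set Ω)) →*
      ↥((fusionSystemOfSubgroup H T hTH).autGroup P) :=
    (P.normalizerMonoidHom.comp (Subgroup.inclusion inf_le_right)).codRestrict _ fun g => by
      rw [autGroup_ofSubgroup hP.1]
      exact mem_autInducedBy.2 ⟨g, g.2.1, fun x => rfl⟩
  have hΦ : Function.Surjective Φ := by
    rintro ⟨α, hα⟩
    rw [autGroup_ofSubgroup hP.1] at hα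
    obtain ⟨g, hg, h⟩ := mem_autInducedBy.1 hα
    exact ⟨⟨g, hg, mem_normalizer_of_conj_aut h⟩,
      Subtype.ext (MulEquiv.ext fun x => Subtype.ext (h x).symm)⟩
  refine ⟨R.mapSurjective hΦ, ?_⟩
  rw [Sylow.coe_mapSurjective, hR]
  ext α
  rw [Subgroup.mem_map, Subgroup.mem_subgroupOf, mem_autInducedBy]
  constructor
  · rintro ⟨g, hg, rfl⟩
    exact ⟨g, hg.1, fun x => rfl⟩
  · rintro ⟨g, hg, h⟩
    refine ⟨⟨g, hTH hg, mem_normalizer_of_conj_aut h⟩, ⟨hg, mem_normalizer_of_conj_aut h⟩,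
      Subtype.ext (MulEquiv.ext fun x => Subtype.ext (h x).symm)⟩

theorem receptive_ofSubgroup (hT : IsSylowOf p T H) {hTH : T ≤ H} {P : Subgroup Ω}
    (hP : (fusionSystemOfSubgroup H T hTH).IsFullyNormalized P) :
    (fusionSystemOfSubgroup H T hTH).IsReceptive P := by
  refine receptive_of hP.1 fun R f hf hfP N hRN hN => ?_
  obtain ⟨hR, g, hg, hfg⟩ := isMap_ofSubgroup.1 hf
  have hPR : ∀ y ∈ P, ∃ x ∈ R, g * x * g⁻¹ = y := fun y hy => by
    obtain ⟨x, hx, hxy⟩ := hf.mem_fimg_iff.1 (hfP.symm ▸ hy : y ∈ fimg f R)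
    exact ⟨x, hx, (hfg x hx).1.symm.trans hxy⟩
  let C : Subgroup Ω := H ⊓ Subgroup.centralizer (P : Set Ω)
  let K : Subgroup Ω := normalizerIn T P ⊔ C
  have hK : K ≤ H ⊓ Subgroup.normalizer (P : Set Ω) :=
    sup_le (inf_le_inf_right _ hTH) (inf_le_inf_left _ (Subgroup.centralizer_le_normalizer _))
  have hNK : N.map (MulAut.conj g).toMonoidHom ≤ K := by
    rintro _ ⟨n, hn, rfl⟩
    obtain ⟨hnT, hnR, h, hh, he⟩ := (hN n).1 hn
    have h1 : ∀ x ∈ R, g * (n * x * n⁻¹) * g⁻¹ = h * (g * x * g⁻¹) * h⁻¹ := fun x hx => by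
      rw [← (hfg x hx).1, ← (hfg _ ((Subgroup.mem_normalizer_iff.1 hnR x).1 hx)).1]
      exact he x hx
    have hhN : h ∈ normalizerIn T P := by
      refine ⟨hh, mem_normalizer_of_forall (fun y hy => ?_) fun y hy => ?_⟩ <;>
        obtain ⟨x, hx, rfl⟩ := hPR y hy
      · have hx' := (Subgroup.mem_normalizer_iff.1 hnR x).1 hx
        rw [← h1 x hx, ← (hfg _ hx').1, ← hfP]
        exact apply_mem_fimg f hx'
      · have hx' := (Subgroup.mem_normalizer_iff''.1 hnR x).1 hx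
        have h2 := h1 _ hx'
        rw [show n * (n⁻¹ * x * n) * n⁻¹ = x by group] at h2
        rw [h2, show h⁻¹ * (h * (g * (n⁻¹ * x * n) * g⁻¹) * h⁻¹) * h = g * (n⁻¹ * x * n) * g⁻¹
          by group, ← (hfg _ hx').1, ← hfP]
        exact apply_mem_fimg f hx'
    have hc : h⁻¹ * (g * n * g⁻¹) ∈ C := by
      refine ⟨H.mul_mem (H.inv_mem (hTH hh)) (H.mul_mem (H.mul_mem hg (hTH hnT)) (H.inv_mem hg)),
        Subgroup.mem_centralizer_iff.2 fun y hy => ?_⟩
      obtain ⟨x, hx, rfl⟩ := hPR y hy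
      have h2 := congrArg (fun z => h⁻¹ * z * (g * n * g⁻¹)) (h1 x hx)
      simp only [mul_assoc, inv_mul_cancel_left] at h2 ⊢
      exact h2.symm
    show g * n * g⁻¹ ∈ K
    rw [show g * n * g⁻¹ = h * (h⁻¹ * (g * n * g⁻¹)) by group]
    exact K.mul_mem (Subgroup.mem_sup_left hhN) (Subgroup.mem_sup_right hc)
  have hsylN := isSylowOf_normalizerIn hT hP
  haveI : Finite ↥K := finite_of_le (S := H) (hK.trans inf_le_left)
  haveI : Finite ↥(H ⊓ Subgroup.normalizer (P : Set Ω)) := finite_of_le (S := H) inf_le_left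
  have hsylK : IsSylowOf p (normalizerIn T P) K := by
    refine IsSylowOf.of_card_le le_sup_left (hT.isPGroup.to_le inf_le_left) fun A hA hAp hle => ?_
    haveI : Finite A := finite_of_le hA
    exact (Subgroup.eq_of_le_of_card_ge hle (hsylN.card_le hAp (hA.trans hK))).ge
  have hNT : N ≤ T := fun n hn => ((hN n).1 hn).1
  obtain ⟨k, hk, hkN⟩ := hsylK.exists_conj_le ((hT.isPGroup.to_le hNT).map _) hNK
  have hCn : (normalizerIn T P : Subgroup Ω) ≤ Subgroup.normalizer (C : Set Ω) := by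
    intro a ha
    refine mem_normalizer_of_forall (fun c hc => ?_) fun c hc => ?_
    all_goals
      refine ⟨by
        first
          | exact H.mul_mem (H.mul_mem (hTH ha.1) hc.1) (H.inv_mem (hTH ha.1))
          | exact H.mul_mem (H.mul_mem (H.inv_mem (hTH ha.1)) hc.1) (hTH ha.1),
        Subgroup.mem_centralizer_iff.2 fun y hy => ?_⟩
    · have h1 := Subgroup.mem_centralizer_iff.1 hc.2 _
        ((Subgroup.mem_normalizer_iff''.1 ha.2 y).1 hy)
      calc y * (a * c * a⁻¹) = a * (a⁻¹ * y * a * c) * a⁻¹ := by group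
        _ = a * (c * (a⁻¹ * y * a)) * a⁻¹ := by rw [h1]
        _ = a * c * a⁻¹ * y := by group
    · have h1 := Subgroup.mem_centralizer_iff.1 hc.2 _
        ((Subgroup.mem_normalizer_iff.1 ha.2 y).1 hy)
      calc y * (a⁻¹ * c * a) = a⁻¹ * (a * y * a⁻¹ * c) * a := by group
        _ = a⁻¹ * (c * (a * y * a⁻¹)) * a := by rw [h1]
        _ = a⁻¹ * c * a * y := by group
  have hk' : k ∈ ((normalizerIn T P : Set Ω) * (C : Set Ω)) := by
    have : k ∈ ((normalizerIn T P ⊔ C : Subgroup Ω) : Set Ω) := hk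
    rwa [Subgroup.coe_mul_of_left_le_normalizer_right _ _ hCn] at this
  obtain ⟨a, ha, c, hc, rfl⟩ := hk'
  have hval : ∀ x ∈ N, (c * g) * x * (c * g)⁻¹ ∈ T := by
    intro x hx
    have h1 := (hkN ⟨_, ⟨x, hx, rfl⟩, rfl⟩).1
    simp only [MulEquiv.toMonoidHom_eq_coe, MonoidHom.coe_coe, MulAut.conj_apply] at h1
    have h2 := T.mul_mem (T.mul_mem (T.inv_mem ha.1) h1) ha.1
    convert h2 using 1
    group
  refine ⟨fun x => (c * g) * x * (c * g)⁻¹, isMap_ofSubgroup.2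
    ⟨hNT, c * g, H.mul_mem hc.1 hg, fun x hx => ⟨rfl, hval x hx⟩⟩, fun x hx => ?_⟩
  have h1 := (hfg x hx).1
  have h2 : f x * c = c * f x :=
    Subgroup.mem_centralizer_iff.1 hc.2 (f x) (hfP ▸ apply_mem_fimg f hx)
  show c * g * x * (c * g)⁻¹ = f x
  rw [show c * g * x * (c * g)⁻¹ = c * (g * x * g⁻¹) * c⁻¹ by group, ← h1, ← h2,
    mul_inv_cancel_right]

theorem isSaturated_ofSubgroup (hT : IsSylowOf p T H) (hTH : T ≤ H) :
    (fusionSystemOfSubgroup H T hTH).IsSaturated p := by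
  intro P hP
  haveI : Finite T := finite_of_le hTH
  obtain ⟨Q, hQ, hQn⟩ := exists_fullyNormalized (fusionSystemOfSubgroup H T hTH) hP
  exact ⟨Q, hQ, fullyAutomized_ofSubgroup hT hQn, receptive_ofSubgroup hT hQn⟩

theorem isSaturated_group [Finite Ω] (S : Sylow p Ω) :
    (groupFusionSystem (S : Subgroup Ω)).IsSaturated p := by
  rw [groupFusionSystem_eq]
  exact isSaturated_ofSubgroup (isSylowOf_top S) le_top

end Cfsg.Agent.Fus
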