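import Cfsg.Agent.Lib.Fus.HyperfocalApp
import Cfsg.Agent.Lib.Fus.GroupSystem
import Cfsg.Agent.Lib.Invol.ZStar
import Cfsg.Agent.Lib.Grp.Frattini

/-!
Elements isolated in a Sylow 2-subgroup are central modulo the odd core; the centre of the fusion
system of a group at the prime 2.
-/

set_option autoImplicit false
set_option linter.style.haveILetI false
set_option linter.unusedSectionVars false

open scoped Classical

namespace Cfsg.Agent.Fus

open Subgroup FusionSystem

universe u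

variable {G : Type u} [Group G] [Finite G]

/-- `z` is the only conjugate of itself in `S`. -/
def IsoElt (S : Sylow 2 G) (z : G) : Prop := z ∈ S ∧ ∀ g : G, g * z * g⁻¹ ∈ S → g * z * g⁻¹ = z

theorem IsoElt.comm {S : Sylow 2 G} {z : G} (h : IsoElt S z) {s : G} (hs : s ∈ S) :
    s * z = z * s := by
  have e := h.2 s (mul_mem (mul_mem hs h.1) (inv_mem hs))
  calc s * z = s * z * s⁻¹ * s := by group
    _ = z * s := by rw [e]

theorem isPGroup_zpowers_of_mem (S : Sylow 2 G) {z : G} (hz : z ∈ S) :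
    IsPGroup 2 (Subgroup.zpowers z) :=
  S.2.to_le (Subgroup.zpowers_le.2 hz)

theorem IsoElt.pow {S : Sylow 2 G} {z : G} (h : IsoElt S z) (m : ℕ) : IsoElt S (z ^ m) := by
  haveI : Fact (Nat.Prime 2) := ⟨Nat.prime_two⟩
  refine ⟨pow_mem h.1 m, fun g hg => ?_⟩
  set C := Subgroup.centralizer ({z ^ m} : Set G) with hC
  have hSC : (S : Subgroup G) ≤ C := fun s hs =>
    Subgroup.mem_centralizer_singleton_iff.2 (Commute.pow_right (h.comm hs) m).eq
  have hzC : g⁻¹ * z * g ∈ C := Subgroup.mem_centralizer_singleton_iff.2 (by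
    calc g⁻¹ * z * g * z ^ m = g⁻¹ * (z * (g * z ^ m * g⁻¹)) * g := by group
      _ = g⁻¹ * (g * z ^ m * g⁻¹ * z) * g := by rw [h.comm hg]
      _ = z ^ m * (g⁻¹ * z * g) := by group)
  have hp2 : IsPGroup 2 (Subgroup.zpowers (g⁻¹ * z * g)) := by
    have := (isPGroup_zpowers_of_mem S h.1).map (MulAut.conj g⁻¹).toMonoidHom
    rwa [MonoidHom.map_zpowers, show (MulAut.conj g⁻¹).toMonoidHom z = g⁻¹ * z * g by simp] at this
  obtain ⟨c, hc, hcS⟩ := (show IsSylowOf 2 (S : Subgroup G) C from ⟨hSC, S.subtype hSC, rfl⟩)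
    |>.exists_conj_le hp2 (Subgroup.zpowers_le.2 hzC)
  have h1 : c * (g⁻¹ * z * g) * c⁻¹ ∈ S :=
    hcS ⟨_, Subgroup.mem_zpowers _, rfl⟩
  have h2 := h.2 (c * g⁻¹) (by
    rw [show c * g⁻¹ * z * (c * g⁻¹)⁻¹ = c * (g⁻¹ * z * g) * c⁻¹ by group]
    exact h1)
  have h3 : Commute (c * g⁻¹) z := by
    show c * g⁻¹ * z = z * (c * g⁻¹)
    calc c * g⁻¹ * z = c * g⁻¹ * z * (c * g⁻¹)⁻¹ * (c * g⁻¹) := by group
      _ = z * (c * g⁻¹) := by rw [h2]
  have h4 := (h3.pow_right m).eq
  have h5 := Subgroup.mem_centralizer_singleton_iff.1 hc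
  calc g * z ^ m * g⁻¹ = g * c⁻¹ * (c * z ^ m) * g⁻¹ := by group
    _ = g * c⁻¹ * (z ^ m * c) * g⁻¹ := by rw [h5]
    _ = g * c⁻¹ * (z ^ m * (c * g⁻¹)) := by group
    _ = g * c⁻¹ * (c * g⁻¹ * z ^ m) := by rw [h4]
    _ = z ^ m := by group

theorem IsoElt.map {S : Sylow 2 G} {z : G} (h : IsoElt S z) (N : Subgroup G) [N.Normal] :
    haveI : Fact (Nat.Prime 2) := ⟨Nat.prime_two⟩
    IsoElt (S.mapSurjective (QuotientGroup.mk'_surjective N)) (QuotientGroup.mk' N z) := by
  haveI : Fact (Nat.Prime 2) := ⟨Nat.prime_two⟩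
  set f := QuotientGroup.mk' N with hf
  refine ⟨?_, fun q hq => ?_⟩
  · rw [← SetLike.mem_coe]
    show f z ∈ ((S.mapSurjective (QuotientGroup.mk'_surjective N) : Sylow 2 (G ⧸ N)) :
      Subgroup (G ⧸ N))
    rw [Sylow.coe_mapSurjective]
    exact ⟨z, h.1, rfl⟩
  obtain ⟨g, rfl⟩ := QuotientGroup.mk'_surjective N q
  have hq' : f g * f z * (f g)⁻¹ ∈ ((S : Subgroup G).map f) := by
    have : f g * f z * (f g)⁻¹ ∈ ((S.mapSurjective (QuotientGroup.mk'_surjective N) :
      Sylow 2 (G ⧸ N)) : Subgroup (G ⧸ N)) := hq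
    rwa [Sylow.coe_mapSurjective] at this
  rw [← map_inv, ← map_mul, ← map_mul] at hq' ⊢
  obtain ⟨s, hs, hse⟩ := hq'
  have hmem : g * z * g⁻¹ ∈ (S : Subgroup G) ⊔ N := by
    have hn : s⁻¹ * (g * z * g⁻¹) ∈ N := QuotientGroup.eq.1 hse
    have := mul_mem (Subgroup.mem_sup_left hs : s ∈ (S : Subgroup G) ⊔ N)
      (Subgroup.mem_sup_right hn)
    rwa [mul_inv_cancel_left] at this
  have hp2 : IsPGroup 2 (Subgroup.zpowers (g * z * g⁻¹)) := by
    have := (isPGroup_zpowers_of_mem S h.1).map (MulAut.conj g).toMonoidHom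
    rwa [MonoidHom.map_zpowers, show (MulAut.conj g).toMonoidHom z = g * z * g⁻¹ by simp] at this
  obtain ⟨c, hc, hcS⟩ := (show IsSylowOf 2 (S : Subgroup G) ((S : Subgroup G) ⊔ N) from
    ⟨le_sup_left, S.subtype le_sup_left, rfl⟩).exists_conj_le hp2 (Subgroup.zpowers_le.2 hmem)
  obtain ⟨a, ha, n, hn, rfl⟩ := Subgroup.mem_sup_of_normal_right.1 hc
  have h1 : a * n * (g * z * g⁻¹) * (a * n)⁻¹ ∈ S := hcS ⟨_, Subgroup.mem_zpowers _, rfl⟩
  have h2 := h.2 (a * n * g) (by
    rw [show a * n * g * z * (a * n * g)⁻¹ = a * n * (g * z * g⁻¹) * (a * n)⁻¹ by group]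
    exact h1)
  have hn1 : f n = 1 := (QuotientGroup.eq_one_iff n).2 hn
  have h3 : f a * f (g * z * g⁻¹) * (f a)⁻¹ = f z := by
    refine Eq.trans ?_ (congrArg f h2)
    simp [hn1, mul_assoc]
  have h4 : f a * f z = f z * f a := by rw [← map_mul, h.comm ha, map_mul]
  calc f (g * z * g⁻¹) = (f a)⁻¹ * (f a * f (g * z * g⁻¹) * (f a)⁻¹) * f a := by group
    _ = (f a)⁻¹ * (f z * f a) := by rw [h3]; group
    _ = f z := by rw [← h4]; group

/-- The preimage of the odd core of the quotient by a central involution is that group, when the odd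
core is trivial. -/
theorem eq_of_central_two (hO : pPrimeCore 2 G = ⊥) {N : Subgroup G} [N.Normal]
    (hN : Nat.card N = 2) (hNc : N ≤ Subgroup.center G) :
    (pPrimeCore 2 (G ⧸ N)).comap (QuotientGroup.mk' N) ≤ N := by
  haveI : (pPrimeCore 2 (G ⧸ N)).Normal := Grp.pPrimeCore_isNormal
  set M := (pPrimeCore 2 (G ⧸ N)).comap (QuotientGroup.mk' N) with hM
  haveI : M.Normal := Subgroup.Normal.comap inferInstance _
  have hNM : N ≤ M := fun n hn => by
    show QuotientGroup.mk' N n ∈ pPrimeCore 2 (G ⧸ N)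
    rw [show QuotientGroup.mk' N n = 1 from (QuotientGroup.eq_one_iff n).2 hn]
    exact one_mem _
  have hidx : N.relIndex M = Nat.card (pPrimeCore 2 (G ⧸ N)) := by
    have hmap : M.map (QuotientGroup.mk' N) = pPrimeCore 2 (G ⧸ N) :=
      Subgroup.map_comap_eq_self_of_surjective (QuotientGroup.mk'_surjective N) _
    rw [← Subgroup.relIndex_bot_left, ← hmap, ← Subgroup.relIndex_comap, MonoidHom.comap_bot,
      QuotientGroup.ker_mk']
  have hodd : (N.relIndex M).Coprime 2 := hidx ▸ Grp.pPrimeCore_coprime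
  obtain ⟨K, hK⟩ := Subgroup.exists_right_complement'_of_coprime (N := N.subgroupOf M) (by
    rw [Nat.card_congr (Subgroup.subgroupOfEquivOfLe hNM).toEquiv, hN]
    exact hodd.symm)
  have hcardK : Nat.card K = N.relIndex M := by
    have h1 := hK.card_mul
    rw [Nat.card_congr (Subgroup.subgroupOfEquivOfLe hNM).toEquiv, hN] at h1
    have h2 := Subgroup.card_mul_index (N.subgroupOf M)
    rw [Nat.card_congr (Subgroup.subgroupOfEquivOfLe hNM).toEquiv, hN] at h2
    have h3 : (N.subgroupOf M).index = N.relIndex M := rfl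
    omega
  have hodd' : ∀ x : M, (orderOf x).Coprime 2 → x ∈ K := by
    intro x hx
    obtain ⟨⟨n, k⟩, hnk⟩ := hK.2 x
    dsimp only at hnk
    have hcomm : Commute (n : M) (k : M) :=
      Subtype.ext (Subgroup.mem_center_iff.1 (hNc n.2) (k : M)).symm
    have hn2 : (n : M) ^ 2 = 1 := by
      have := congrArg Subtype.val (pow_card_eq_one' (x := (⟨(n : M), n.2⟩ : N.subgroupOf M)))
      rwa [Nat.card_congr (Subgroup.subgroupOfEquivOfLe hNM).toEquiv, hN, Subgroup.coe_pow,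
        OneMemClass.coe_one] at this
    have h1 : (n : M) = 1 := by
      set r := orderOf x * Nat.card K with hr
      have hkr : (k : M) ^ r = 1 := by
        rw [hr, mul_comm, pow_mul, show (k : M) ^ Nat.card K = 1 from
          congrArg Subtype.val (pow_card_eq_one' (x := k)), one_pow]
      have hnr : (n : M) ^ r = 1 := by
        have : x ^ r = 1 := by rw [hr, pow_mul, pow_orderOf_eq_one, one_pow]
        rwa [← hnk, hcomm.mul_pow, hkr, mul_one] at this
      have hcop : r.Coprime 2 := Nat.Coprime.mul_left hx (hcardK ▸ hodd)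
      rw [← pow_one (n : M), ← hcop.gcd_eq_one]
      exact pow_gcd_eq_one.2 ⟨hnr, hn2⟩
    rw [← hnk, h1, one_mul]
    exact k.2
  have hKn : (K.map M.subtype).Normal := ⟨fun x hx g => by
    obtain ⟨k, hk, rfl⟩ := hx
    refine ⟨⟨g * k * g⁻¹, (inferInstance : M.Normal).conj_mem _ k.2 g⟩, hodd' _ ?_, rfl⟩
    have h1 : orderOf (⟨g * k * g⁻¹, (inferInstance : M.Normal).conj_mem _ k.2 g⟩ : M) =
        orderOf k := by
      rw [← orderOf_injective M.subtype M.subtype_injective, ← orderOf_injective M.subtype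
        M.subtype_injective k]
      exact (MulEquiv.orderOf_eq (MulAut.conj g) (k : G))
    rw [h1, ← Subgroup.orderOf_mk k hk]
    exact (hcardK ▸ hodd).coprime_dvd_left (orderOf_dvd_natCard _)⟩
  have hKbot : K.map M.subtype ≤ ⊥ := hO ▸ Grp.le_pPrimeCore hKn (by
    rw [Subgroup.card_map_of_injective M.subtype_injective, hcardK]
    exact hodd)
  intro x hx
  obtain ⟨⟨n, k⟩, hnk⟩ := hK.2 ⟨x, hx⟩
  dsimp only at hnk
  have hk : ((k : M) : G) = 1 := Subgroup.mem_bot.1 (hKbot ⟨k, k.2, rfl⟩)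
  rw [show x = ((n : M) : G) by
    rw [show x = ((⟨x, hx⟩ : M) : G) from rfl, ← hnk, Subgroup.coe_mul, hk, mul_one]]
  exact n.2

/-- Glauberman's theorem for elements of `2`-power order. -/
theorem IsoElt.commutator_mem : ∀ (n : ℕ) (G : Type u) [Group G] [Finite G], Nat.card G = n →
    ∀ (S : Sylow 2 G) (z : G), IsoElt S z → ∀ g : G, z * g * z⁻¹ * g⁻¹ ∈ pPrimeCore 2 G := by
  haveI : Fact (Nat.Prime 2) := ⟨Nat.prime_two⟩
  intro n
  induction n using Nat.strong_induction_on with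
  | _ n ih =>
  intro G _ _ hn S z h g
  haveI : (pPrimeCore 2 G).Normal := Grp.pPrimeCore_isNormal
  have step : ∀ (N : Subgroup G) [N.Normal], N ≠ ⊥ → ∀ g : G,
      QuotientGroup.mk' N (z * g * z⁻¹ * g⁻¹) ∈ pPrimeCore 2 (G ⧸ N) := by
    intro N _ hbot g
    have hlt : Nat.card (G ⧸ N) < n := by
      rw [← hn, Subgroup.card_eq_card_quotient_mul_card_subgroup N]
      exact lt_mul_of_one_lt_right Nat.card_pos
        ((Subgroup.one_lt_card_iff_ne_bot N).2 hbot)
    have := ih _ hlt (G ⧸ N) rfl _ _ (h.map N) (QuotientGroup.mk' N g)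
    rwa [← map_mul, ← map_inv, ← map_mul, ← map_inv, ← map_mul] at this
  by_cases hO : pPrimeCore 2 G = ⊥
  swap
  · have := step _ hO g
    rw [Grp.pPrimeCore_quotient_eq_bot, Subgroup.mem_bot] at this
    exact (QuotientGroup.eq_one_iff _).1 this
  rw [hO, Subgroup.mem_bot]
  obtain ⟨k, hk⟩ := IsPGroup.iff_orderOf.1 S.2 ⟨z, h.1⟩
  have hk' : orderOf z = 2 ^ k := by rwa [← Subgroup.orderOf_mk z h.1]
  rcases k with _ | k
  · rw [pow_zero, orderOf_eq_one_iff] at hk'
    subst hk'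
    group
  set t := z ^ 2 ^ k with ht
  have hto : orderOf t = 2 := by
    rw [ht, orderOf_pow_of_dvd (pow_ne_zero _ two_ne_zero) (hk' ▸ pow_dvd_pow 2 k.le_succ), hk',
      Nat.pow_div k.le_succ (by norm_num)]
    simp
  have htI : IsoElt S t := h.pow _
  have htiso := ZStar.isIsolated_of_sylow htI.1 hto htI.2
  have htc : Subgroup.zpowers t ≤ Subgroup.center G := by
    rw [Subgroup.zpowers_le, Subgroup.mem_center_iff]
    intro x
    have h1 := ZStar.commutator_mem_oddCore _ G rfl t htiso x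
    rw [hO, Subgroup.mem_bot, mul_inv_eq_one, mul_inv_eq_iff_eq_mul] at h1
    exact h1.symm
  haveI : (Subgroup.zpowers t).Normal := ⟨fun x hx y => by
    rw [Subgroup.mem_center_iff.1 (htc hx) y, mul_inv_cancel_right]; exact hx⟩
  have hmem := eq_of_central_two hO (by rw [Nat.card_zpowers, hto]) htc
    (step _ (by
      rw [Subgroup.zpowers_ne_bot]
      intro h1
      rw [h1, orderOf_one] at hto
      omega) g)
  -- the conjugate of `z` lies in `S`
  have h1 : g * z⁻¹ * g⁻¹ ∈ S := by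
    have := mul_mem (inv_mem h.1) (Subgroup.zpowers_le.2 htI.1 hmem)
    rwa [show z⁻¹ * (z * g * z⁻¹ * g⁻¹) = g * z⁻¹ * g⁻¹ by group] at this
  have h2 := h.2 g (by
    have := inv_mem h1
    rwa [show (g * z⁻¹ * g⁻¹)⁻¹ = g * z * g⁻¹ by group] at this)
  calc z * g * z⁻¹ * g⁻¹ = z * (g * z * g⁻¹)⁻¹ := by group
    _ = 1 := by rw [h2, mul_inv_cancel]

/-- An element of `S` in the centre of the fusion system. -/
theorem mem_center_group_iff (S : Sylow 2 G) {z : G} :
    z ∈ (groupFusionSystem (S : Subgroup G)).center ↔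
      z ∈ (S : Subgroup G) ∧ ∀ g : G, z * g * z⁻¹ * g⁻¹ ∈ pPrimeCore 2 G := by
  haveI : Fact (Nat.Prime 2) := ⟨Nat.prime_two⟩
  haveI : (pPrimeCore 2 G).Normal := Grp.pPrimeCore_isNormal
  constructor
  · intro hz
    have hzS := (isCentral_center (groupFusionSystem (S : Subgroup G))).1 hz
    refine ⟨hzS, fun g => IsoElt.commutator_mem _ G rfl S z ⟨hzS, fun a ha => ?_⟩ g⟩
    have hf : IsMap (groupFusionSystem (S : Subgroup G)) (Subgroup.zpowers z)
        (fun x => a * x * a⁻¹) := by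
      refine isMap_group.2 ⟨Subgroup.zpowers_le.2 hzS, a, fun x hx => ⟨rfl, ?_⟩⟩
      obtain ⟨i, rfl⟩ := Subgroup.mem_zpowers_iff.1 hx
      rw [← conj_zpow]
      exact zpow_mem ha i
    exact hf.fix_center (Subgroup.mem_zpowers z) hz
  · rintro ⟨hzS, hz⟩
    suffices hc : (groupFusionSystem (S : Subgroup G)).IsCentral (Subgroup.zpowers z) from
      le_center hc (Subgroup.mem_zpowers z)
    rw [isCentral_iff]
    refine ⟨Subgroup.zpowers_le.2 hzS, fun P f hf => ?_⟩
    have hfS : ∀ x ∈ P, f x ∈ (S : Subgroup G) := fun x hx => hf.apply_mem hx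
    have hPS := hf.source_le
    obtain ⟨-, g, hg'⟩ := isMap_group.1 hf
    have hg := fun x hx => (hg' x hx).1
    have hcS : ∀ s ∈ (S : Subgroup G), s * z = z * s := fun s hs => by
      have h1 : z * s * z⁻¹ * s⁻¹ ∈ pPrimeCore 2 G := hz s
      have h2 : z * s * z⁻¹ * s⁻¹ ∈ (S : Subgroup G) :=
        mul_mem (mul_mem (mul_mem hzS hs) (inv_mem hzS)) (inv_mem hs)
      have h3 : z * s * z⁻¹ * s⁻¹ = 1 := by
        obtain ⟨k, hk⟩ := IsPGroup.iff_orderOf.1 S.2 ⟨_, h2⟩
        rw [← orderOf_eq_one_iff, ← Subgroup.orderOf_mk _ h2]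
        refine Nat.eq_one_of_dvd_coprimes ((Grp.pPrimeCore_coprime (p := 2) (G := G)).pow_right k)
          ?_ hk.dvd
        rw [Subgroup.orderOf_mk, ← Subgroup.orderOf_mk _ h1]
        exact orderOf_dvd_natCard _
      rw [mul_inv_eq_one, mul_inv_eq_iff_eq_mul] at h3
      exact h3.symm
    set O := pPrimeCore 2 G with hOdef
    let H : Subgroup G := (Subgroup.zpowers z ⊔ O) ⊓
      Subgroup.centralizer (fimg f P : Set G)
    have hQS : fimg f P ≤ (S : Subgroup G) := hf.fimg_le_S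
    have hzH : Subgroup.zpowers z ≤ H := by
      rw [Subgroup.zpowers_le]
      exact ⟨Subgroup.mem_sup_left (Subgroup.mem_zpowers z),
        Subgroup.mem_centralizer_iff.2 fun y hy => hcS y (hQS hy)⟩
    have hz'H : g * z * g⁻¹ ∈ H := by
      refine ⟨?_, Subgroup.mem_centralizer_iff.2 fun y hy => ?_⟩
      · have := mul_mem (Subgroup.mem_sup_right (S := Subgroup.zpowers z) (inv_mem (hz g)))
          (Subgroup.mem_sup_left (T := O) (Subgroup.mem_zpowers z))
        rwa [show (z * g * z⁻¹ * g⁻¹)⁻¹ * z = g * z * g⁻¹ by group] at this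
      · obtain ⟨x, hx, rfl⟩ := hf.mem_fimg_iff.1 hy
        rw [hg x hx]
        calc g * x * g⁻¹ * (g * z * g⁻¹) = g * (x * z) * g⁻¹ := by group
          _ = g * (z * x) * g⁻¹ := by rw [hcS x (hPS hx)]
          _ = g * z * g⁻¹ * (g * x * g⁻¹) := by group
    have hzp := isPGroup_zpowers_of_mem S hzS
    have hdisj : ∀ a ∈ Subgroup.zpowers z, a ∈ O → a = 1 := fun a ha hO => by
      obtain ⟨k, hk⟩ := IsPGroup.iff_orderOf.1 hzp ⟨a, ha⟩
      rw [← orderOf_eq_one_iff, ← Subgroup.orderOf_mk _ ha]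
      refine Nat.eq_one_of_dvd_coprimes ((Grp.pPrimeCore_coprime (p := 2) (G := G)).pow_right k)
        ?_ hk.dvd
      rw [Subgroup.orderOf_mk, ← Subgroup.orderOf_mk _ hO]
      exact orderOf_dvd_natCard _
    have hsyl : IsSylowOf 2 (Subgroup.zpowers z) H := by
      refine IsSylowOf.of_card_le hzH hzp fun A hA hAp hzA a ha => ?_
      obtain ⟨b, hb, o, ho, rfl⟩ := Subgroup.mem_sup_of_normal_right.1 (hA ha).1
      suffices o = 1 by rw [this, mul_one]; exact hb
      have hoA : o ∈ A := by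
        have := mul_mem (inv_mem (hzA hb)) ha
        rwa [inv_mul_cancel_left] at this
      obtain ⟨k, hk⟩ := IsPGroup.iff_orderOf.1 hAp ⟨o, hoA⟩
      rw [← orderOf_eq_one_iff, ← Subgroup.orderOf_mk _ hoA]
      refine Nat.eq_one_of_dvd_coprimes ((Grp.pPrimeCore_coprime (p := 2) (G := G)).pow_right k)
        ?_ hk.dvd
      rw [Subgroup.orderOf_mk, ← Subgroup.orderOf_mk _ ho]
      exact orderOf_dvd_natCard _
    have hz'p : IsPGroup 2 (Subgroup.zpowers (g * z * g⁻¹)) := by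
      have := hzp.map (MulAut.conj g).toMonoidHom
      rwa [MonoidHom.map_zpowers, show (MulAut.conj g).toMonoidHom z = g * z * g⁻¹ by simp] at this
    obtain ⟨c, hc, hcz⟩ := hsyl.exists_conj_le hz'p (Subgroup.zpowers_le.2 hz'H)
    have h5 : c * (g * z * g⁻¹) * c⁻¹ ∈ Subgroup.zpowers z := hcz ⟨_, Subgroup.mem_zpowers _, rfl⟩
    have h6 : c * g * z * (c * g)⁻¹ = z := by
      have h7 := hz (c * g)
      have h8 : z * (c * g * z * (c * g)⁻¹)⁻¹ ∈ Subgroup.zpowers z := by
        rw [show c * g * z * (c * g)⁻¹ = c * (g * z * g⁻¹) * c⁻¹ by group]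
        exact mul_mem (Subgroup.mem_zpowers z) (inv_mem h5)
      have h9 := hdisj _ h8 (by
        rwa [show z * (c * g * z * (c * g)⁻¹)⁻¹ = z * (c * g) * z⁻¹ * (c * g)⁻¹ by group])
      exact (mul_inv_eq_one.1 h9).symm
    have hg1 : ∀ x ∈ P, c * g * x * (c * g)⁻¹ = f x := fun x hx => by
      have h10 := Subgroup.mem_centralizer_iff.1 hc.2 _ (apply_mem_fimg f hx)
      rw [show c * g * x * (c * g)⁻¹ = c * (g * x * g⁻¹) * c⁻¹ by group, ← hg x hx, ← h10,
        mul_inv_cancel_right]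
    refine ⟨fun x => c * g * x * (c * g)⁻¹, isMap_group.2 ⟨sup_le hPS (Subgroup.zpowers_le.2 hzS),
      c * g, fun x hx => ⟨rfl, ?_⟩⟩, hg1, fun x hx => ?_⟩
    · suffices P ⊔ Subgroup.zpowers z ≤ (S : Subgroup G).comap (MulAut.conj (c * g)).toMonoidHom
        from this hx
      refine sup_le (fun y hy => ?_) (Subgroup.zpowers_le.2 ?_)
      · show c * g * y * (c * g)⁻¹ ∈ (S : Subgroup G)
        rw [hg1 y hy]
        exact hfS y hy
      · show c * g * z * (c * g)⁻¹ ∈ (S : Subgroup G)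
        rw [h6]
        exact hzS
    · obtain ⟨i, rfl⟩ := Subgroup.mem_zpowers_iff.1 hx
      show c * g * z ^ i * (c * g)⁻¹ = z ^ i
      rw [← conj_zpow, h6]

end Cfsg.Agent.Fus
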