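import Cfsg.Agent.Lib.Fus.Saturation

/-!
Centric subgroups; uniqueness of extensions from centric subgroups.
-/

set_option autoImplicit false
set_option linter.style.haveILetI false

open scoped Classical

namespace Cfsg.Agent.Fus

open Subgroup FusionSystem

variable {Ω : Type*} [Group Ω] {S : Subgroup Ω} {F : FusionSystem S}

theorem centric_mono {Q R : Subgroup Ω} (hQ : F.IsCentric Q) (hQR : Q ≤ R) (hR : R ≤ S) :
    F.IsCentric R := by
  refine ⟨hR, fun T hT => ?_⟩
  obtain ⟨f, hf, rfl⟩ := isConj_iff.1 hT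
  refine le_trans ?_ ((hQ.2 _ (hf.res hQR).isConj).trans (fimg_mono f hQR))
  exact inf_le_inf_left _ (Subgroup.centralizer_le (fimg_mono f hQR))

theorem centric_of_isConj {Q R : Subgroup Ω} (hQ : F.IsCentric Q) (h : F.IsConj Q R) :
    F.IsCentric R :=
  ⟨isConj_le_right h, fun T hT => hQ.2 T (isConj_trans h hT)⟩

theorem centric_self (F : FusionSystem S) [Finite S] : F.IsCentric S :=
  ⟨le_rfl, fun Q hQ => by rw [eq_top_of_isConj hQ]; exact inf_le_left⟩

theorem centralizerIn_le_of_centric {Q : Subgroup Ω} (hQ : F.IsCentric Q) :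
    centralizerIn S Q ≤ Q :=
  hQ.2 Q (isConj_refl F hQ.1)

variable [Finite S] {p : ℕ} [Fact p.Prime]

/-- An automorphism that is trivial on a normal centric subgroup is inner by an element of its
centre. -/
theorem exists_conj_of_fix_normal (hS : IsPGroup p S) (hF : F.IsSaturated p) {P Q : Subgroup Ω}
    (hQP : Q ≤ P) (hQn : P ≤ Subgroup.normalizer (Q : Set Ω)) (hQ : F.IsCentric Q) {f : Ω → Ω}
    (hf : IsMap F P f) (hfix : ∀ x ∈ Q, f x = x) :
    ∃ z ∈ Q, z ∈ Subgroup.centralizer (Q : Set Ω) ∧ ∀ y ∈ P, f y = z * y * z⁻¹ := by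
  have hPS := hf.source_le
  have hd : ∀ y ∈ P, f y * y⁻¹ ∈ centralizerIn S Q := by
    intro y hy
    refine mem_centralizerIn.2
      ⟨S.mul_mem (hf.apply_mem hy) (S.inv_mem (hPS hy)), fun x hx => ?_⟩
    have hx' := (Subgroup.mem_normalizer_iff''.1 (hQn hy) x).1 hx
    have h1 := hf.map_conj hy (hQP hx')
    rw [hfix _ hx', show y * (y⁻¹ * x * y) * y⁻¹ = x by group, hfix x hx] at h1
    conv_lhs => rw [h1]
    group
  have hdQ : ∀ y ∈ P, f y * y⁻¹ ∈ Q := fun y hy => centralizerIn_le_of_centric hQ (hd y hy)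
  have hfP : fimg f P = P := by
    haveI := finite_of_le hPS
    refine Subgroup.eq_of_le_of_card_ge (fimg_le fun y hy => ?_) hf.card_fimg.ge
    rw [show f y = f y * y⁻¹ * y by group]
    exact P.mul_mem (hQP (hdQ y hy)) hy
  obtain ⟨α, hα, hαf⟩ := hf.exists_aut hfP
  haveI := finite_of_le hPS
  obtain ⟨n, hn⟩ := (hS.to_le hPS).exists_card_eq
  have hαn : α ^ Nat.card P = 1 := by
    refine mulAut_ext fun y hy => ?_
    have key : ∀ k, autFun (α ^ k) y = (f y * y⁻¹) ^ k * y := by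
      intro k
      induction k with
      | zero => rw [pow_zero, pow_zero, one_mul, autFun_one hy]
      | succ k ih =>
        have hdk : (f y * y⁻¹) ^ k ∈ Q := Q.pow_mem (hdQ y hy) k
        rw [pow_succ', autFun_mul _ _ hy, ih, hαf _ (P.mul_mem (hQP hdk) hy),
          hf.map_mul (hQP hdk) hy, hfix _ hdk, pow_succ]
        group
    rw [key, autFun_one hy]
    have : (⟨f y * y⁻¹, hQP (hdQ y hy)⟩ : P) ^ Nat.card P = 1 := pow_card_eq_one'
    rw [show (f y * y⁻¹) ^ Nat.card P = 1 from congrArg Subtype.val this, one_mul]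
  obtain ⟨P', hP', hP'n⟩ := exists_fullyNormalized F hPS
  obtain ⟨θ, hθ, hθP⟩ := isConj_iff.1 hP'
  obtain ⟨hP'S, R, hR⟩ := fullyAutomized_of_fullyNormalized hS hF hP'n
  haveI := finite_of_le hP'S
  obtain ⟨e, he, heA⟩ := exists_mulEquiv hθ hθP
  let γ : F.autGroup P' := ⟨MulAut.congr e α, (heA _).1 hα⟩
  have hγp : IsPGroup p (Subgroup.zpowers γ) := by
    refine IsPGroup.of_card_dvd_pow (n := n) ?_
    rw [Nat.card_zpowers, ← hn]
    refine orderOf_dvd_of_pow_eq_one (Subtype.ext ?_)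
    show (MulAut.congr e α) ^ Nat.card P = 1
    rw [← map_pow (MulAut.congr e), hαn, map_one]
  obtain ⟨T, hT⟩ := hγp.exists_le_sylow
  obtain ⟨b, hb⟩ := MulAction.exists_smul_eq (F.autGroup P') T R
  have hbR : b * γ * b⁻¹ ∈ (R : Subgroup (F.autGroup P')) := by
    rw [← hb]
    exact ⟨γ, hT (Subgroup.mem_zpowers γ), rfl⟩
  rw [hR, Subgroup.mem_subgroupOf] at hbR
  obtain ⟨s, hs, hse⟩ := mem_autInducedBy.1 hbR
  let θ' : Ω → Ω := fun x => autFun (b : MulAut P') (θ x)
  have hθ' : IsMap F P θ' :=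
    hθ.comp ((mem_autGroup hP'S).1 b.2) fun x hx => hθP ▸ apply_mem_fimg θ hx
  have hkey : ∀ x ∈ P, θ' (f x) = s * θ' x * s⁻¹ := by
    intro x hx
    have h1 := hse ((b : MulAut P') (e ⟨x, hx⟩))
    have h2 : θ' x = ((b : MulAut P') (e ⟨x, hx⟩) : P') := by
      show autFun _ _ = _
      rw [← autFun_coe, he]
    have h3 : θ' (f x) = ((b : MulAut P') (e (α ⟨x, hx⟩)) : P') := by
      show autFun _ _ = _
      rw [← autFun_coe (b : MulAut P'), he, ← autFun_coe α ⟨x, hx⟩, hαf x hx]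
    rw [h3, h2]
    refine Eq.trans ?_ h1
    simp [γ, MulAut.congr]
  have hsC : s ∈ centralizerIn S (fimg θ' Q) := by
    refine mem_centralizerIn.2 ⟨hs, fun u hu => ?_⟩
    obtain ⟨x, hx, rfl⟩ := (hθ'.res hQP).mem_fimg_iff.1 hu
    have h1 := hkey x (hQP hx)
    rw [hfix x hx] at h1
    conv_lhs => rw [h1]
    group
  obtain ⟨z, hz, hzs⟩ := (hθ'.res hQP).mem_fimg_iff.1
    (hQ.2 _ (hθ'.res hQP).isConj hsC)
  have hfz : ∀ y ∈ P, f y = z * y * z⁻¹ := by
    intro y hy
    have h1 := hkey y hy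
    rw [← hzs, ← hθ'.map_conj (hQP hz) hy] at h1
    exact hθ'.injOn (hfP ▸ apply_mem_fimg f hy)
      (P.mul_mem (P.mul_mem (hQP hz) hy) (P.inv_mem (hQP hz))) h1
  refine ⟨z, hz, Subgroup.mem_centralizer_iff.2 fun x hx => ?_, hfz⟩
  have h1 := (hfz x (hQP hx)).symm.trans (hfix x hx)
  conv_lhs => rw [← h1]
  group

/-- Two maps that agree on a centric subgroup differ by conjugation by an element of its centre. -/
theorem exists_conj_of_eqOn_centric (hS : IsPGroup p S) (hF : F.IsSaturated p) :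
    ∀ {P Q : Subgroup Ω}, Q ≤ P → F.IsCentric Q → ∀ {f f' : Ω → Ω}, IsMap F P f → IsMap F P f' →
      (∀ x ∈ Q, f x = f' x) →
      ∃ z ∈ Q, z ∈ Subgroup.centralizer (Q : Set Ω) ∧ ∀ y ∈ P, f' y = f (z * y * z⁻¹) := by
  intro P Q
  induction hn : Nat.card S - Nat.card Q using Nat.strong_induction_on generalizing Q with
  | _ n ih =>
    intro hQP hQ f f' hf hf' h
    have hPS := hf.source_le
    rcases hQP.eq_or_lt with rfl | hlt
    · exact ⟨1, one_mem _, one_mem _, fun y hy => by simpa using (h y hy).symm⟩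
    haveI := finite_of_le hPS
    have hNP : normalizerIn P Q ≤ P := inf_le_left
    have hlt' : Q < normalizerIn P Q := lt_normalizerIn (S := P) (hS.to_le hPS) hlt
    haveI := finite_of_le (hNP.trans hPS)
    have hcard := card_lt_of_lt hlt'
    have hcard' := Subgroup.card_le_of_le (hNP.trans hPS)
    -- the case of a normal subgroup, applied to `N_P(Q)`
    obtain ⟨z, hz, hzc, hz'⟩ : ∃ z ∈ Q, z ∈ Subgroup.centralizer (Q : Set Ω) ∧
        ∀ y ∈ normalizerIn P Q, f' y = f (z * y * z⁻¹) := by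
      obtain ⟨g, hg, hg1, hg2, -⟩ := (hf.res hNP).exists_inv
      have hmem : ∀ y ∈ normalizerIn P Q, f' y ∈ fimg f (normalizerIn P Q) := by
        intro y hy
        have hc : f' y * (f y)⁻¹ ∈ centralizerIn S (fimg f Q) := by
          refine mem_centralizerIn.2
            ⟨S.mul_mem (hf'.apply_mem hy.1) (S.inv_mem (hf.apply_mem hy.1)), fun u hu => ?_⟩
          obtain ⟨x, hx, rfl⟩ := (hf.res hlt.le).mem_fimg_iff.1 hu
          have hx' := (Subgroup.mem_normalizer_iff''.1 hy.2 x).1 hx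
          have h1 := hf.map_conj hy.1 (hlt.le hx')
          have h2 := hf'.map_conj hy.1 (hlt.le hx')
          rw [show y * (y⁻¹ * x * y) * y⁻¹ = x by group] at h1 h2
          rw [← h x hx, ← h _ hx'] at h2
          conv_lhs => rw [h2]
          conv_rhs => rw [h1]
          group
        obtain ⟨w, hw, hwe⟩ := (hf.res hlt.le).mem_fimg_iff.1
          (hQ.2 _ (hf.res hlt.le).isConj hc)
        rw [show f' y = f' y * (f y)⁻¹ * f y by group, ← hwe]
        exact Subgroup.mul_mem _ (apply_mem_fimg f (hlt'.le hw)) (apply_mem_fimg f hy)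
      obtain ⟨z, hz, hzc, hz'⟩ := exists_conj_of_fix_normal hS hF hlt'.le inf_le_right hQ
        ((hf'.res hNP).comp hg hmem) (fun x hx => by rw [← h x hx]; exact hg1 x (hlt'.le hx))
      refine ⟨z, hz, hzc, fun y hy => ?_⟩
      rw [← hz' y hy]
      exact ((hg2 _ (hmem y hy)).2).symm
    have hzP : z ∈ P := hlt.le hz
    have hf'' : IsMap F P (fun y => f (z * y * z⁻¹)) :=
      (isMap_conj F hPS (hPS hzP)).comp hf fun y hy => P.mul_mem (P.mul_mem hzP hy) (P.inv_mem hzP)
    obtain ⟨w, hw, hwc, hw'⟩ := ih _ (by omega) (Q := normalizerIn P Q) rfl hNP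
      (centric_mono hQ hlt'.le (hNP.trans hPS)) hf'' hf' fun x hx => (hz' x hx).symm
    have hwc' : w ∈ Subgroup.centralizer (Q : Set Ω) :=
      Subgroup.centralizer_le (fun x hx => hlt'.le hx) hwc
    have hwQ : w ∈ Q := centralizerIn_le_of_centric hQ ⟨hPS (hNP hw), hwc'⟩
    refine ⟨z * w, Q.mul_mem hz hwQ, Subgroup.mul_mem _ hzc hwc', fun y hy => ?_⟩
    rw [hw' y hy]
    congr 1
    group

end Cfsg.Agent.Fus
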