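import Cfsg.Agent.Lib.Fus.Normal
import Cfsg.Agent.Lib.Fus.Saturation

/-!
Criteria for simplicity of a fusion system.
-/

set_option autoImplicit false
set_option linter.style.haveILetI false

open scoped Classical

namespace Cfsg.Agent.Fus

open Subgroup FusionSystem

variable {Ω : Type*} [Group Ω] {S : Subgroup Ω} {F : FusionSystem S}

/-- The Frattini clause of invariance, in the function language. -/
theorem frattini_of_isInvariantIn {T : Subgroup Ω} {E : FusionSystem T} (hE : E.IsInvariantIn F)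
    {P : Subgroup Ω} {f : Ω → Ω} (hP : P ≤ T) (hf : IsMap F P f) :
    ∃ α ∈ F.autGroup T, ∃ f₀, IsMap E P f₀ ∧ ∀ x ∈ P, f x = autFun α (f₀ x) := by
  obtain ⟨φ, hφ, e⟩ := hf.exists_hom
  obtain ⟨α, hα, φ₀, hφ₀, h⟩ := hE.2.2.2 P hP φ hφ
  refine ⟨α, hα, _, isMap_toFun hφ₀, fun x hx => ?_⟩
  have hT := (E.le_of_mem hφ₀).2 ⟨x, hx⟩
  rw [toFun_apply φ₀ hx, ← e ⟨x, hx⟩, h ⟨x, hx⟩ hT]
  exact (autFun_coe α ⟨_, hT⟩).symm

/-- An invariant subsystem over `S` containing `Aut_F(S)` is the whole system. -/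
theorem hom_eq_of_isInvariantIn {E : FusionSystem S} (hE : E.IsInvariantIn F)
    (h : F.autGroup S ≤ E.autGroup S) (P : Subgroup Ω) : E.Hom P = F.Hom P := by
  refine Set.Subset.antisymm (hE.1 P) fun φ hφ => ?_
  obtain ⟨α, hα, f₀, hf₀, he⟩ := frattini_of_isInvariantIn hE (F.le_of_mem hφ).1 (isMap_toFun hφ)
  refine mem_hom_of_isMap ((hf₀.comp ((mem_autGroup le_rfl).1 (h hα))
    fun x hx => hf₀.apply_mem hx).congr fun x hx => (he x hx).symm) fun x => (toFun_coe φ x).symm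

theorem isSimple_of_autGroup_eq_inn {p : ℕ} (hF : F.IsSaturated p) (hS1 : S ≠ ⊥)
    (htop : F.autGroup S = Inn ↥S) (hsc : ∀ T : Subgroup Ω, F.StronglyClosed T → T = ⊥ ∨ T = S) :
    F.IsSimple p := by
  refine ⟨hF, hS1, fun T E hE => ?_⟩
  obtain ⟨⟨-, -, hEi⟩, -⟩ := hE
  rcases hsc T hEi.2.1 with h | h
  · exact Or.inl h
  · subst h
    exact Or.inr ⟨rfl, hom_eq_of_isInvariantIn hEi (by
      rw [htop, inn_eq_autInducedBy]; exact autInducedBy_le_autGroup E le_rfl)⟩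

end Cfsg.Agent.Fus
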