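import Cfsg.Agent.Lib.Fus.Centric
import Cfsg.Agent.Lib.Fus.Simple

/-!
Invariant subsystems.
-/

set_option autoImplicit false
set_option linter.style.haveILetI false

open scoped Classical

namespace Cfsg.Agent.Fus

open Subgroup FusionSystem

variable {Ω : Type*} [Group Ω] {S T : Subgroup Ω} {F : FusionSystem S} {E : FusionSystem T}

/-- The invariance clause, in the function language. -/
theorem invariant_isMap (hE : E.IsInvariantIn F) {P : Subgroup Ω} {f : Ω → Ω} (hf : IsMap E P f)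
    {α : MulAut T} (hα : α ∈ F.autGroup T) :
    ∃ k, IsMap E (fimg (autFun α) P) k ∧ ∀ x ∈ P, k (autFun α x) = autFun α (f x) := by
  obtain ⟨φ, hφ, e⟩ := hf.exists_hom
  have hPT := hf.source_le
  obtain ⟨χ, hχ, hχe⟩ := hE.2.2.1 P hPT φ hφ α hα
  have hαm : IsMap F T (autFun α) := (mem_autGroup hE.2.1.1).1 hα
  have heq : (P.subgroupOf T).map (T.subtype.comp α.toMonoidHom) = fimg (autFun α) P := by
    ext y
    rw [(hαm.res hPT).mem_fimg_iff, Subgroup.mem_map]
    constructor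
    · rintro ⟨t, ht, rfl⟩
      exact ⟨t, ht, autFun_coe α t⟩
    · rintro ⟨x, hx, rfl⟩
      exact ⟨⟨x, hPT hx⟩, hx, (autFun_coe α ⟨x, hPT hx⟩).symm⟩
  refine ⟨toFun χ, heq ▸ isMap_toFun hχ, fun x hx => ?_⟩
  have hm : ((α ⟨x, hPT hx⟩ : T) : Ω) ∈ (P.subgroupOf T).map (T.subtype.comp α.toMonoidHom) :=
    ⟨⟨x, hPT hx⟩, hx, rfl⟩
  have h1 := hχe ⟨x, hx⟩ ((E.le_of_mem hφ).2 _) hm
  rw [show autFun α x = ((α ⟨x, hPT hx⟩ : T) : Ω) from autFun_coe α ⟨x, hPT hx⟩, toFun_apply χ hm,
    h1, ← e ⟨x, hx⟩]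
  exact (autFun_coe α ⟨_, (E.le_of_mem hφ).2 _⟩).symm

/-- In an invariant subsystem, `Aut_E(R)` is normal in `Aut_F(R)`. -/
theorem autGroup_conj_mem (hE : E.IsInvariantIn F) {R : Subgroup Ω} (hR : R ≤ T)
    {β γ : MulAut R} (hβ : β ∈ F.autGroup R) (hγ : γ ∈ E.autGroup R) :
    β * γ * β⁻¹ ∈ E.autGroup R := by
  obtain ⟨α, hα, f₀, hf₀, he⟩ := frattini_of_isInvariantIn hE hR
    ((mem_autGroup (hR.trans hE.2.1.1)).1 hβ)
  have hαm : IsMap F T (autFun α) := (mem_autGroup hE.2.1.1).1 hα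
  obtain ⟨g, hg, hg1, hg2, -⟩ := hf₀.exists_inv
  have hγm := (mem_autGroup hR).1 hγ
  obtain ⟨k, hk, hke⟩ := invariant_isMap hE
    ((hg.comp hγm fun y hy => (hg2 y hy).1).comp hf₀ fun y hy => autFun_mem γ (hg2 y hy).1) hα
  have hRi : fimg (autFun α) (fimg f₀ R) = R := by
    rw [← hf₀.fimg_comp, ← fimg_congr he, fimg_autFun]
  rw [hRi] at hk
  refine (mem_autGroup hR).2 (hk.congr fun x hx => ?_)
  have hx' : autFun β⁻¹ x ∈ R := autFun_mem _ hx
  have hxe : x = autFun α (f₀ (autFun β⁻¹ x)) := by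
    rw [← he _ hx', ← autFun_mul _ _ hx, mul_inv_cancel, autFun_one hx]
  rw [autFun_mul _ _ hx, autFun_mul _ _ hx', he _ (autFun_mem γ hx')]
  conv_lhs => rw [hxe]
  rw [hke _ (apply_mem_fimg f₀ hx'), hg1 _ hx']

/-- In an invariant subsystem the automorphisms of `p`-power order of a fully automized subgroup
all lie in the subsystem, if the latter contains those induced by `S`. -/
theorem mem_autGroup_of_isPGroup (hE : E.IsInvariantIn F) {p : ℕ} [Fact p.Prime] [Finite S]
    {R : Subgroup Ω} (hR : R ≤ T) (hRa : F.IsFullyAutomized p R)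
    (hS : autInducedBy S R ≤ E.autGroup R) {β : MulAut R} (hβ : β ∈ F.autGroup R)
    {k : ℕ} (hk : β ^ p ^ k = 1) : β ∈ E.autGroup R := by
  obtain ⟨hRS, P, hP⟩ := hRa
  haveI := finite_of_le hRS
  let β' : F.autGroup R := ⟨β, hβ⟩
  have hp : IsPGroup p (Subgroup.zpowers β') := by
    refine IsPGroup.of_card_dvd_pow (n := k) ?_
    rw [Nat.card_zpowers]
    exact orderOf_dvd_of_pow_eq_one (Subtype.ext hk)
  obtain ⟨Q, hQ⟩ := hp.exists_le_sylow
  obtain ⟨b, hb⟩ := MulAction.exists_smul_eq (F.autGroup R) Q P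
  have hbP : b * β' * b⁻¹ ∈ (P : Subgroup (F.autGroup R)) := by
    rw [← hb]
    exact ⟨β', hQ (Subgroup.mem_zpowers β'), rfl⟩
  rw [hP, Subgroup.mem_subgroupOf] at hbP
  have h1 := autGroup_conj_mem hE hR ((F.autGroup R).inv_mem b.2) (hS hbP)
  convert h1 using 1
  show β = (b : MulAut R)⁻¹ * ((b : MulAut R) * β * (b : MulAut R)⁻¹) * (b : MulAut R)⁻¹⁻¹
  group

/-- A centric subgroup is fully centralized. -/
theorem fullyCentralized_of_centric [Finite S] {P : Subgroup Ω} (hP : F.IsCentric P) :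
    F.IsFullyCentralized P := by
  refine ⟨hP.1, fun Q hQ => ?_⟩
  obtain ⟨g, hg, hgQ⟩ := isConj_iff.1 (isConj_symm hQ)
  haveI : Finite ↥(centralizerIn S P) := finite_of_le (S := S) inf_le_left
  have hle : centralizerIn S Q ≤ Q := hP.2 Q hQ
  rw [← (hg.res hle).card_fimg]
  refine Subgroup.card_le_of_le (fimg_le fun c hc => ?_)
  rw [← hgQ]
  exact hg.map_centralizerIn le_rfl (hle hc) hc.2

theorem centric_of_subsystem {E : FusionSystem S} (h : E.IsSubsystemOf F) {P : Subgroup Ω}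
    (hP : F.IsCentric P) : E.IsCentric P := by
  refine ⟨hP.1, fun Q hQ => hP.2 Q ?_⟩
  obtain ⟨φ, hφ, e⟩ := hQ
  exact ⟨φ, h P hφ, e⟩

/-- If a map on `S` restricts on a centric subgroup to a map of a saturated subsystem, it belongs
to that subsystem. -/
theorem isMap_of_centric_restrict [Finite S] {p : ℕ} [Fact p.Prime] (hS : IsPGroup p S)
    (hF : F.IsSaturated p) {E : FusionSystem S} (hEF : E.IsSubsystemOf F) (hE : E.IsSaturated p)
    {a : Ω → Ω} (ha : IsMap F S a) :
    ∀ {R : Subgroup Ω}, F.IsCentric R → IsMap E R a → IsMap E S a := by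
  intro R
  induction hn : Nat.card S - Nat.card R using Nat.strong_induction_on generalizing R with
  | _ n ih =>
    intro hR hRa
    have hRS := hR.1
    rcases hRS.eq_or_lt with rfl | hlt
    · exact hRa
    have hQ := centric_of_isConj hR (hRa.mono hEF).isConj
    have hrec : E.IsReceptive (fimg a R) := receptive_of_fullyCentralized hS hE
      (fullyCentralized_of_centric (centric_of_subsystem hEF hQ))
    have hN : normalizerIn S R ≤ S := inf_le_left
    obtain ⟨f, hf, hfe⟩ := receptive_extend hrec hRa rfl (N := normalizerIn S R) (fun g hg =>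
      ⟨hg, a g, ha.apply_mem hg.1, fun x hx => ha.map_conj hg.1 (hRS hx)⟩) (le_normalizerIn hRS)
    obtain ⟨z, hz, -, hz'⟩ := exists_conj_of_eqOn_centric hS hF (le_normalizerIn hRS) hR
      (hf.mono hEF) (ha.res hN) hfe
    have hm : IsMap E (normalizerIn S R) a := by
      refine ((isMap_conj E hN (hRS hz)).comp hf fun y hy => ?_).congr fun y hy => (hz' y hy).symm
      exact Subgroup.mul_mem _ (Subgroup.mul_mem _ (le_normalizerIn hRS hz) hy)
        (Subgroup.inv_mem _ (le_normalizerIn hRS hz))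
    haveI := finite_of_le hN
    have h1 := card_lt_of_lt (lt_normalizerIn hS hlt)
    have h2 := Subgroup.card_le_of_le hN
    exact ih _ (by omega) rfl (centric_mono hR (le_normalizerIn hRS) hN) hm

end Cfsg.Agent.Fus
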