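import Cfsg.Agent.Lib.Fus.SPE
import Cfsg.Agent.Lib.Fus.Centric
import Cfsg.Agent.Lib.Fus.Invariant

/-!
Extendable automorphisms, essential subgroups and Alperin's fusion theorem.
-/

set_option autoImplicit false
set_option linter.style.haveILetI false

open scoped Classical

namespace Cfsg.Agent.Fus

open Subgroup FusionSystem

variable {Ω : Type*} [Group Ω] {S : Subgroup Ω} (F : FusionSystem S)

/-- The automorphisms of `P` extending to a map of the system on a strictly larger subgroup. -/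
def extAuts (P : Subgroup Ω) : Set (MulAut P) :=
  {α | ∃ (Q : Subgroup Ω) (hPQ : P < Q) (φ : Q →* Ω), φ ∈ F.Hom Q ∧
    ∀ x : P, φ (Subgroup.inclusion hPQ.le x) = α x}

variable {F}

theorem mem_extAuts {P : Subgroup Ω} {α : MulAut P} :
    α ∈ extAuts F P ↔ ∃ Q f, P < Q ∧ IsMap F Q f ∧ ∀ x ∈ P, f x = autFun α x := by
  constructor
  · rintro ⟨Q, hPQ, φ, hφ, h⟩
    refine ⟨Q, toFun φ, hPQ, isMap_toFun hφ, fun x hx => ?_⟩
    rw [toFun_apply φ (hPQ.le hx), show autFun α x = (α ⟨x, hx⟩ : Ω) from autFun_coe α ⟨x, hx⟩]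
    exact h ⟨x, hx⟩
  · rintro ⟨Q, f, hPQ, hf, h⟩
    obtain ⟨φ, hφ, e⟩ := hf.exists_hom
    refine ⟨Q, hPQ, φ, hφ, fun x => ?_⟩
    rw [e, ← autFun_coe α x]
    exact h x x.2

theorem closure_extAuts_le (P : Subgroup Ω) : Subgroup.closure (extAuts F P) ≤ F.autGroup P := by
  refine (Subgroup.closure_le _).2 fun α hα => ?_
  obtain ⟨Q, f, hPQ, hf, h⟩ := mem_extAuts.1 hα
  exact (mem_autGroup (hPQ.le.trans hf.source_le)).2 ((hf.res hPQ.le).congr h)

theorem inn_le_autGroup (F : FusionSystem S) {P : Subgroup Ω} (hP : P ≤ S) :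
    Inn P ≤ F.autGroup P := by
  rw [inn_eq_autInducedBy]
  exact (autInducedBy_mono hP P).trans (autInducedBy_le_autGroup F hP)

theorem inn_subgroupOf_normal (F : FusionSystem S) (P : Subgroup Ω) :
    ((Inn P).subgroupOf (F.autGroup P)).Normal := by
  refine ⟨fun c hc b => ?_⟩
  obtain ⟨g, hg⟩ : (c : MulAut P) ∈ Inn P := hc
  refine ⟨(b : MulAut P) g, MulEquiv.ext fun x => ?_⟩
  have hv : ((b * c * b⁻¹ : F.autGroup P) : MulAut P) x =
      (b : MulAut P) ((c : MulAut P) ((b : MulAut P)⁻¹ x)) := rfl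
  show MulAut.conj _ x = ((b * c * b⁻¹ : F.autGroup P) : MulAut P) x
  rw [hv, ← hg]
  simp

/-- A map between the automorphisms induced by `S` gives an extendable automorphism. -/
theorem mem_extAuts_of_conj {P : Subgroup Ω} (hPr : F.IsReceptive P) {α : MulAut P}
    (hα : α ∈ F.autGroup P) {R : Subgroup (MulAut P)} (hRle : R ≤ autInducedBy S P)
    (hlt : ¬ R ≤ Inn P) (hIR : Inn P ≤ R) (hconj : ∀ r ∈ R, α * r * α⁻¹ ∈ autInducedBy S P) :
    α ∈ extAuts F P := by
  have hPS := hPr.1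
  have hαm : IsMap F P (autFun α) := (mem_autGroup hPS).1 hα
  let N : Subgroup Ω :=
    normalizerIn S P ⊓ (R.comap P.normalizerMonoidHom).map
      (Subgroup.normalizer (P : Set Ω)).subtype
  have hPN : P ≤ N := fun x hx => ⟨le_normalizerIn hPS hx, ⟨x, Subgroup.le_normalizer hx⟩,
    hIR ⟨⟨x, hx⟩, MulEquiv.ext fun y => Subtype.ext rfl⟩, rfl⟩
  obtain ⟨f, hf, hfe⟩ := receptive_extend hPr hαm (fimg_autFun α) (N := N) (fun g hg => by
    obtain ⟨hg1, ⟨g', hg'n⟩, hg'R, hgg⟩ := hg
    have hgg : g' = g := hgg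
    subst hgg
    refine ⟨hg1, ?_⟩
    obtain ⟨k, hk, hke⟩ := mem_autInducedBy.1 (hconj _ hg'R)
    refine ⟨k, hk, fun x hx => ?_⟩
    have h2 := hke (α ⟨x, hx⟩)
    simp only [MulAut.mul_apply, MulAut.inv_apply_self] at h2
    have hgx := (Subgroup.mem_normalizer_iff.1 hg1.2 x).1 hx
    rw [show autFun α (g' * x * g'⁻¹) = ((α ⟨_, hgx⟩ : P) : Ω) from autFun_coe α ⟨_, hgx⟩,
      show autFun α x = ((α ⟨x, hx⟩ : P) : Ω) from autFun_coe α ⟨x, hx⟩, ← h2]
    congr 2) hPN
  refine mem_extAuts.2 ⟨N, f, lt_of_le_of_ne hPN fun heq => hlt ?_, hf, hfe⟩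
  intro r hr
  obtain ⟨g, hg, hgr⟩ := mem_autInducedBy.1 (hRle hr)
  have hgN : g ∈ N := ⟨⟨hg, mem_normalizer_of_conj_aut hgr⟩, ⟨g, mem_normalizer_of_conj_aut hgr⟩,
    (show P.normalizerMonoidHom ⟨g, mem_normalizer_of_conj_aut hgr⟩ ∈ R by
      rwa [show P.normalizerMonoidHom ⟨g, mem_normalizer_of_conj_aut hgr⟩ = r from
        MulEquiv.ext fun y => Subtype.ext (hgr y).symm]), rfl⟩
  rw [← heq] at hgN
  exact ⟨⟨g, hgN⟩, MulEquiv.ext fun y => Subtype.ext (hgr y).symm⟩

/-- If `P` is fully normalized but not centric, all its automorphisms extend. -/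
theorem extAuts_of_not_centric [Finite S] {p : ℕ} [Fact p.Prime] (hS : IsPGroup p S)
    (hF : F.IsSaturated p) {P : Subgroup Ω} (hP : F.IsFullyNormalized P) (hc : ¬ F.IsCentric P)
    {α : MulAut P} (hα : α ∈ F.autGroup P) : α ∈ extAuts F P := by
  have hPr := receptive_of_fullyNormalized hS hF hP
  have hPc := fullyCentralized_of_receptive hPr
  have hnot : ¬ centralizerIn S P ≤ P := by
    intro hle
    refine hc ⟨hP.1, fun Q hQ => ?_⟩
    obtain ⟨f, hf, rfl⟩ := isConj_iff.1 hQ
    haveI : Finite ↥(centralizerIn S (fimg f P)) := finite_of_le (S := S) inf_le_left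
    have h1 : fimg f (centralizerIn S P) ≤ centralizerIn S (fimg f P) :=
      fimg_le fun d hd => hf.map_centralizerIn le_rfl (hle hd) hd.2
    rw [← Subgroup.eq_of_le_of_card_ge h1 ((hf.res hle).card_fimg.symm ▸ hPc.2 _ hQ)]
    exact fimg_mono f hle
  have hαm : IsMap F P (autFun α) := (mem_autGroup hP.1).1 hα
  have hle : P ⊔ centralizerIn S P ≤ normalizerIn S P :=
    sup_le (le_normalizerIn hP.1) (centralizerIn_le_normalizerIn P)
  obtain ⟨f, hf, hfe⟩ := receptive_extend hPr hαm (fimg_autFun α) (N := P ⊔ centralizerIn S P)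
    (fun g hg => by
      have h1 : P ⊔ centralizerIn S P ≤ extender S P (Classical.choose hαm) := by
        refine sup_le (le_extender (Classical.choose_spec hαm).1) fun c hc => ?_
        obtain ⟨hcS, hcc⟩ := mem_centralizerIn.1 hc
        refine mem_extender.2 ⟨hcS, (centralizerIn_le_normalizerIn P hc).2, 1, S.one_mem,
          fun x hx => ?_⟩
        rw [show c * x * c⁻¹ = x by rw [← hcc x hx, mul_inv_cancel_right]]
        simp
      obtain ⟨-, h2, k, hk, hke⟩ := mem_extender.1 (h1 hg)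
      refine ⟨hle hg, k, hk, fun x hx => ?_⟩
      have hgx := (Subgroup.mem_normalizer_iff.1 h2 x).1 hx
      have := hke x hx
      rwa [toFun_apply _ hgx, toFun_apply _ hx, (Classical.choose_spec hαm).2,
        (Classical.choose_spec hαm).2] at this) le_sup_left
  exact mem_extAuts.2 ⟨_, f, left_lt_sup.2 hnot, hf, hfe⟩

section

variable [Finite S] {p : ℕ} [Fact p.Prime]

/-- For centric fully normalized `P < S` some automorphism induced by `S` is not inner. -/
theorem not_autInducedBy_le_inn (hS : IsPGroup p S) {P : Subgroup Ω} (hPS : P < S)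
    (hPc : F.IsCentric P) : ¬ autInducedBy S P ≤ Inn P := by
  intro hle
  obtain ⟨g, hg, hgP⟩ := SetLike.lt_iff_le_and_exists.1 (lt_normalizerIn hS hPS) |>.2
  obtain ⟨y, hy⟩ := hle (mem_autInducedBy.2 ⟨g, hg.1, fun x => rfl⟩ :
    P.normalizerMonoidHom ⟨g, hg.2⟩ ∈ autInducedBy S P)
  refine hgP ?_
  have hc : (y : Ω)⁻¹ * g ∈ centralizerIn S P := by
    refine mem_centralizerIn.2 ⟨S.mul_mem (S.inv_mem (hPS.le y.2)) hg.1, fun x hx => ?_⟩
    have h1 : (y : Ω) * x * (y : Ω)⁻¹ = g * x * g⁻¹ :=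
      congrArg (fun α : MulAut P => ((α ⟨x, hx⟩ : P) : Ω)) hy
    calc x * ((y : Ω)⁻¹ * g) = (y : Ω)⁻¹ * ((y : Ω) * x * (y : Ω)⁻¹) * g := by group
      _ = (y : Ω)⁻¹ * (g * x * g⁻¹) * g := by rw [h1]
      _ = (y : Ω)⁻¹ * g * x := by group
  rw [← mul_inv_cancel_left (y : Ω) g]
  exact P.mul_mem y.2 (centralizerIn_le_of_centric hPc hc)

/-- The Sylow subgroup of `Out_F(P)` coming from `S`. -/
theorem exists_sylow_out (hS : IsPGroup p S) (hF : F.IsSaturated p) {P : Subgroup Ω}
    (hP : F.IsFullyNormalized P) [((Inn P).subgroupOf (F.autGroup P)).Normal] :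
    ∃ T : Sylow p (F.autGroup P ⧸ (Inn P).subgroupOf (F.autGroup P)),
      (T : Subgroup (F.autGroup P ⧸ (Inn P).subgroupOf (F.autGroup P))).comap (QuotientGroup.mk' _) = (autInducedBy S P).subgroupOf (F.autGroup P) := by
  obtain ⟨-, P₀, hP₀⟩ := fullyAutomized_of_fullyNormalized hS hF hP
  haveI := finite_of_le hP.1
  refine ⟨P₀.mapSurjective (QuotientGroup.mk'_surjective _), ?_⟩
  rw [Sylow.coe_mapSurjective, Subgroup.comap_map_eq, QuotientGroup.ker_mk', hP₀, sup_eq_left]
  intro c hc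
  rw [Subgroup.mem_subgroupOf] at hc ⊢
  rw [inn_eq_autInducedBy] at hc
  exact autInducedBy_mono hP.1 P hc

/-- If not all automorphisms are generated by extendable ones, `P` is centric and the extendable
ones give a strongly `p`-embedded subgroup of `Out_F(P)`. -/
theorem spe_of_closure_ne (hS : IsPGroup p S) (hF : F.IsSaturated p) {P : Subgroup Ω}
    (hP : F.IsFullyNormalized P) (hPS : P < S)
    (hne : Subgroup.closure (extAuts F P) ≠ F.autGroup P)
    [((Inn P).subgroupOf (F.autGroup P)).Normal] :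
    F.IsCentric P ∧ IsStronglyPEmbedded p (((Subgroup.closure (extAuts F P)).subgroupOf
      (F.autGroup P)).map (QuotientGroup.mk' ((Inn P).subgroupOf (F.autGroup P)))) := by
  haveI := finite_of_le hP.1
  have hc : F.IsCentric P := by
    by_contra hc
    exact hne (le_antisymm (closure_extAuts_le P) fun α hα =>
      Subgroup.subset_closure (extAuts_of_not_centric hS hF hP hc hα))
  refine ⟨hc, ?_⟩
  set B := F.autGroup P with hB
  set I := (Inn P).subgroupOf B with hI
  obtain ⟨T, hT⟩ := exists_sylow_out hS hF hP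
  have hA := not_autInducedBy_le_inn hS hPS hc
  -- normalizers of nontrivial subgroups of the Sylow subgroup consist of extendable automorphisms
  have hkey : ∀ Q ≤ (T : Subgroup (B ⧸ I)), Q ≠ ⊥ → Subgroup.normalizer (Q : Set (B ⧸ I)) ≤
      ((Subgroup.closure (extAuts F P)).subgroupOf B).map (QuotientGroup.mk' I) := by
    intro Q hQT hQ x hx
    obtain ⟨α, rfl⟩ := QuotientGroup.mk'_surjective I x
    refine ⟨α, Subgroup.subset_closure (mem_extAuts_of_conj
      (receptive_of_fullyNormalized hS hF hP) α.2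
      (R := (Q.comap (QuotientGroup.mk' I)).map B.subtype) ?_ ?_ ?_ ?_), rfl⟩
    · rintro _ ⟨b, hb, rfl⟩
      have h1 : b ∈ (T : Subgroup (B ⧸ I)).comap (QuotientGroup.mk' I) := hQT hb
      rw [hT] at h1
      exact h1
    · intro hle
      refine hQ (le_bot_iff.1 fun q hq => ?_)
      obtain ⟨b, rfl⟩ := QuotientGroup.mk'_surjective I q
      exact (QuotientGroup.eq_one_iff b).2 (hle ⟨b, hq, rfl⟩)
    · intro c hc'
      refine ⟨⟨c, inn_le_autGroup F hP.1 hc'⟩, ?_, rfl⟩
      show QuotientGroup.mk' I _ ∈ Q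
      rw [show QuotientGroup.mk' I (⟨c, inn_le_autGroup F hP.1 hc'⟩ : B) = 1 from
        (QuotientGroup.eq_one_iff _).2 hc']
      exact Q.one_mem
    · rintro _ ⟨b, hb, rfl⟩
      have h1 := (Subgroup.mem_normalizer_iff.1 hx _).1 hb
      rw [← map_inv, ← map_mul, ← map_mul] at h1
      have h2 : α * b * α⁻¹ ∈ (T : Subgroup (B ⧸ I)).comap (QuotientGroup.mk' I) := hQT h1
      rw [hT] at h2
      exact h2
  have hTne : (T : Subgroup (B ⧸ I)) ≠ ⊥ := by
    intro h
    refine hA fun r hr => ?_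
    have h1 : (⟨r, autInducedBy_le_autGroup F hP.1 hr⟩ : B) ∈
        (T : Subgroup (B ⧸ I)).comap (QuotientGroup.mk' I) := by
      rw [hT]; exact hr
    rw [h, Subgroup.mem_comap, Subgroup.mem_bot] at h1
    exact ((QuotientGroup.eq_one_iff (⟨r, autInducedBy_le_autGroup F hP.1 hr⟩ : B)).1 h1 :)
  refine ⟨?_, ?_, T, kGeneratedCore_one_le hkey⟩
  · obtain ⟨n, hn⟩ := T.2.exists_card_eq
    refine dvd_trans ?_ (T : Subgroup (B ⧸ I)).card_subgroup_dvd_card
    rw [hn]
    refine dvd_pow_self p fun h0 => hTne ?_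
    rw [h0, pow_zero] at hn
    exact Subgroup.card_eq_one.1 hn
  · intro htop
    refine hne (le_antisymm (closure_extAuts_le P) fun α hα => ?_)
    obtain ⟨β, hβ, hβα⟩ := htop.ge (Subgroup.mem_top (QuotientGroup.mk' I ⟨α, hα⟩))
    have h1 : β⁻¹ * ⟨α, hα⟩ ∈ I := (QuotientGroup.eq).1 hβα
    rw [← mul_inv_cancel_left (β : MulAut P) α]
    refine mul_mem hβ ?_
    -- inner automorphisms extend
    refine Subgroup.subset_closure (mem_extAuts.2 ?_)
    obtain ⟨y, hy⟩ := (h1 : ((β⁻¹ * ⟨α, hα⟩ : B) : MulAut P) ∈ Inn P)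
    refine ⟨S, fun x => (y : Ω) * x * (y : Ω)⁻¹, hPS, isMap_conj F le_rfl (hPS.le y.2),
      fun x hx => ?_⟩
    rw [show (β : MulAut P)⁻¹ * α = ((β⁻¹ * ⟨α, hα⟩ : B) : MulAut P) from rfl,
      show ((β⁻¹ * ⟨α, hα⟩ : B) : MulAut P) = MulAut.conj y from hy.symm]
    show (y : Ω) * x * (y : Ω)⁻¹ = autFun (MulAut.conj y) x
    rw [show autFun (MulAut.conj y) x = ((MulAut.conj y ⟨x, hx⟩ : P) : Ω) from
      autFun_coe (MulAut.conj y) ⟨x, hx⟩]
    rfl

theorem closure_ne_of_essential (hS : IsPGroup p S) (hF : F.IsSaturated p) {P : Subgroup Ω}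
    (hPess : F.IsEssential p P) : Subgroup.closure (extAuts F P) ≠ F.autGroup P := by
  obtain ⟨hc, hP, hn, E, -, hEtop, P', hE⟩ := hPess
  haveI := hn
  haveI := finite_of_le hP.1
  set B := F.autGroup P with hB
  set I := (Inn P).subgroupOf B with hI
  intro heq
  obtain ⟨T, hT⟩ := exists_sylow_out hS hF hP
  obtain ⟨g, hg⟩ := MulAction.exists_smul_eq (B ⧸ I) T P'
  have hTP : (T : Subgroup (B ⧸ I)).map (MulAut.conj g).toMonoidHom = (P' : Subgroup (B ⧸ I)) := by
    rw [← hg]; rfl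
  have hext : ∀ α ∈ extAuts F P, ∀ hα : α ∈ B,
      g * (QuotientGroup.mk' I ⟨α, hα⟩) * g⁻¹ ∈ E := by
    intro α hαe hα
    obtain ⟨Q, f, hPQ, hf, hfe⟩ := mem_extAuts.1 hαe
    have hQS := hf.source_le
    haveI := finite_of_le hQS
    have hlt := lt_normalizerIn (S := Q) (hS.to_le hQS) hPQ
    obtain ⟨q, hq, hqP⟩ := SetLike.lt_iff_le_and_exists.1 hlt |>.2
    have hfP : fimg f P = P := (fimg_congr hfe).trans (fimg_autFun α)
    have hfq : f q ∈ normalizerIn S P := by
      have := hf.map_normalizerIn hPQ.le hq.1 hq.2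
      rwa [hfP] at this
    let c : B := ⟨P.normalizerMonoidHom ⟨q, hq.2⟩, autInducedBy_le_autGroup F hP.1
      (mem_autInducedBy.2 ⟨q, hQS hq.1, fun x => rfl⟩)⟩
    have hcT : QuotientGroup.mk' I c ∈ (T : Subgroup (B ⧸ I)) := by
      have : c ∈ (T : Subgroup (B ⧸ I)).comap (QuotientGroup.mk' I) := by
        rw [hT]; exact mem_autInducedBy.2 ⟨q, hQS hq.1, fun x => rfl⟩
      exact this
    have hconjT : QuotientGroup.mk' I (⟨α, hα⟩ * c * ⟨α, hα⟩⁻¹) ∈ (T : Subgroup (B ⧸ I)) := by
      have : (⟨α, hα⟩ * c * ⟨α, hα⟩⁻¹ : B) ∈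
          (T : Subgroup (B ⧸ I)).comap (QuotientGroup.mk' I) := by
        rw [hT]
        refine mem_autInducedBy.2 ⟨f q, hfq.1, fun x => ?_⟩
        obtain ⟨y, rfl⟩ := α.surjective x
        have hqy := (Subgroup.mem_normalizer_iff.1 hq.2 y).1 y.2
        have h1 : ((α ⟨_, hqy⟩ : P) : Ω) = f q * (α y : Ω) * (f q)⁻¹ := by
          rw [← autFun_coe α ⟨_, hqy⟩, ← autFun_coe α y, ← hfe _ hqy, ← hfe _ y.2]
          exact hf.map_conj hq.1 (hPQ.le y.2)
        refine Eq.trans ?_ h1
        show ((α ((c : MulAut P) (α⁻¹ (α y))) : P) : Ω) = _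
        rw [MulAut.inv_apply_self]
        rfl
      exact this
    have hc1 : QuotientGroup.mk' I c ≠ 1 := by
      intro h1
      obtain ⟨y, hy⟩ := ((QuotientGroup.eq_one_iff c).1 h1 : (c : MulAut P) ∈ Inn P)
      refine hqP ?_
      have hcz : (y : Ω)⁻¹ * q ∈ centralizerIn S P := by
        refine mem_centralizerIn.2 ⟨S.mul_mem (S.inv_mem (hP.1 y.2)) (hQS hq.1), fun x hx => ?_⟩
        have h2 : (y : Ω) * x * (y : Ω)⁻¹ = q * x * q⁻¹ :=
          congrArg (fun α : MulAut P => ((α ⟨x, hx⟩ : P) : Ω)) hy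
        calc x * ((y : Ω)⁻¹ * q) = (y : Ω)⁻¹ * ((y : Ω) * x * (y : Ω)⁻¹) * q := by group
          _ = (y : Ω)⁻¹ * (q * x * q⁻¹) * q := by rw [h2]
          _ = (y : Ω)⁻¹ * q * x := by group
      rw [← mul_inv_cancel_left (y : Ω) q]
      exact P.mul_mem y.2 (centralizerIn_le_of_centric hc hcz)
    refine mem_of_conj_le_sylow P' hE
      (R := Subgroup.zpowers (g * QuotientGroup.mk' I c * g⁻¹)) ?_ ?_ ?_
    · rw [Subgroup.zpowers_le, ← hTP]
      exact ⟨_, hcT, rfl⟩
    · rw [Ne, Subgroup.zpowers_eq_bot, conj_eq_one_iff]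
      exact hc1
    · rw [MonoidHom.map_zpowers, Subgroup.zpowers_le, ← hTP]
      refine ⟨_, hconjT, ?_⟩
      simp [mul_assoc]
  refine hEtop (eq_top_iff.2 fun x _ => ?_)
  obtain ⟨b, hb⟩ := QuotientGroup.mk'_surjective I (g⁻¹ * x * g)
  have key : ∀ α ∈ Subgroup.closure (extAuts F P), ∀ hα : α ∈ B,
      g * (QuotientGroup.mk' I ⟨α, hα⟩) * g⁻¹ ∈ E := by
    intro α hα
    induction hα using Subgroup.closure_induction with
    | mem a ha => exact hext a ha
    | one =>
      intro h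
      rw [show (⟨1, h⟩ : B) = 1 from rfl, map_one]
      simp
    | mul a b ha hb iha ihb =>
      intro h
      have haB : a ∈ B := closure_extAuts_le P ha
      have hbB : b ∈ B := closure_extAuts_le P hb
      have := E.mul_mem (iha haB) (ihb hbB)
      convert this using 1
      rw [show (⟨a * b, h⟩ : B) = ⟨a, haB⟩ * ⟨b, hbB⟩ from rfl, map_mul]
      group
    | inv a ha iha =>
      intro h
      have haB : a ∈ B := closure_extAuts_le P ha
      have := E.inv_mem (iha haB)
      convert this using 1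
      rw [show (⟨a⁻¹, h⟩ : B) = (⟨a, haB⟩ : B)⁻¹ from rfl, map_inv]
      group
  have h1 := key b (heq.ge b.2) b.2
  rw [show (⟨(b : MulAut P), b.2⟩ : B) = b from rfl, hb] at h1
  convert h1 using 1
  group

/-- The dichotomy at a fully normalized proper subgroup. -/
theorem essential_dichotomy (hS : IsPGroup p S) (hF : F.IsSaturated p) {P : Subgroup Ω}
    (hP : F.IsFullyNormalized P) (hPS : P < S) :
    F.IsEssential p P ∨ Subgroup.closure (extAuts F P) = F.autGroup P := by
  by_cases h : Subgroup.closure (extAuts F P) = F.autGroup P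
  · exact Or.inr h
  · haveI := inn_subgroupOf_normal F P
    obtain ⟨hc, hspe⟩ := spe_of_closure_ne hS hF hP hPS h
    exact Or.inl ⟨hc, hP, inferInstance, _, hspe⟩

/-- Alperin's fusion theorem: a property of maps closed under composition and restriction that
holds for the automorphisms of `S`, and for those of an essential subgroup as soon as it holds for
all maps with larger source, holds for all maps. -/
theorem alperin' (hS : IsPGroup p S) (hF : F.IsSaturated p) (D : Subgroup Ω → (Ω → Ω) → Prop)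
    (hcongr : ∀ P f g, D P f → (∀ x ∈ P, f x = g x) → D P g)
    (hcomp : ∀ P Q f g, IsMap F P f → IsMap F Q g → (∀ x ∈ P, f x ∈ Q) → D P f → D Q g →
      D P (fun x => g (f x)))
    (hres : ∀ P Q f, IsMap F Q f → P ≤ Q → D Q f → D P f)
    (htop : ∀ α ∈ F.autGroup S, D S (autFun α))
    (hess : ∀ P, F.IsEssential p P → (∀ R g, IsMap F R g → Nat.card P < Nat.card R → D R g) →
      ∀ α ∈ F.autGroup P, D P (autFun α))
    {P : Subgroup Ω} {f : Ω → Ω} (hf : IsMap F P f) : D P f := by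
  induction hn : Nat.card S - Nat.card P using Nat.strong_induction_on generalizing P f with
  | _ n ih =>
    have hPS := hf.source_le
    rcases hPS.eq_or_lt with rfl | hlt
    · obtain ⟨α, hα, hαe⟩ := hf.exists_aut (fimg_eq_self_of_source_top hf)
      exact hcongr _ _ _ (htop α hα) hαe
    have big : ∀ R g, IsMap F R g → Nat.card P < Nat.card R → D R g := by
      intro R g hg hcard
      have := Subgroup.card_le_of_le hg.source_le
      exact ih _ (by omega) hg rfl
    obtain ⟨Q, hQ, hQn⟩ := exists_fullyNormalized F hPS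
    have hQcard := isConj_card hQ
    have hQlt : Q < S := lt_of_le_of_ne hQn.1 fun e => by
      have h2 := card_lt_of_lt hlt
      rw [e] at hQcard
      omega
    have hautQ : ∀ α ∈ F.autGroup Q, D Q (autFun α) := by
      intro α hα
      rcases essential_dichotomy hS hF hQn hQlt with h | h
      · exact hess Q h (fun R g hg hc => big R g hg (by omega)) α hα
      rw [← h] at hα
      refine (?_ : D Q (autFun α) ∧ D Q (autFun α⁻¹)).1
      induction hα using Subgroup.closure_induction with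
      | mem a ha =>
        obtain ⟨R, g, hQR, hg, hge⟩ := mem_extAuts.1 ha
        haveI := finite_of_le hg.source_le
        have hRcard := card_lt_of_lt hQR
        refine ⟨hcongr _ _ _ (hres _ _ _ hg hQR.le (big R g hg (by omega))) hge, ?_⟩
        obtain ⟨g', hg', hg1, -, -⟩ := hg.exists_inv
        have hle : Q ≤ fimg g R := by
          intro x hx
          have h1 := apply_mem_fimg g (hQR.le (autFun_mem a⁻¹ hx))
          rwa [hge _ (autFun_mem a⁻¹ hx), ← autFun_mul _ _ hx, mul_inv_cancel, autFun_one hx] at h1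
        refine hcongr _ _ _ (hres _ _ _ hg' hle (big _ g' hg' (by rw [hg.card_fimg]; omega)))
          fun x hx => ?_
        have h1 := hg1 _ (hQR.le (autFun_mem a⁻¹ hx))
        rwa [hge _ (autFun_mem a⁻¹ hx), ← autFun_mul _ _ hx, mul_inv_cancel, autFun_one hx] at h1
      | one =>
        have h1 : D Q (autFun (1 : MulAut Q)) := by
          refine hcongr _ _ _ (hres Q S _ ((mem_autGroup le_rfl).1 (one_mem _)) hQn.1
            (htop 1 (one_mem _))) fun x hx => ?_
          rw [autFun_one (hQn.1 hx), autFun_one hx]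
        exact ⟨h1, by rwa [inv_one]⟩
      | mul a b ha hb iha ihb =>
        have hm : ∀ c ∈ Subgroup.closure (extAuts F Q), IsMap F Q (autFun c) := fun c hc =>
          (mem_autGroup hQn.1).1 (closure_extAuts_le Q hc)
        refine ⟨hcongr _ _ _ (hcomp _ _ _ _ (hm b hb) (hm a ha) (fun x hx => autFun_mem b hx)
          ihb.1 iha.1) fun x hx => (autFun_mul a b hx).symm, ?_⟩
        rw [mul_inv_rev]
        exact hcongr _ _ _ (hcomp _ _ _ _ (hm _ (inv_mem ha)) (hm _ (inv_mem hb))
          (fun x hx => autFun_mem a⁻¹ hx) iha.2 ihb.2) fun x hx => (autFun_mul b⁻¹ a⁻¹ hx).symm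
      | inv a _ iha => exact ⟨iha.2, by rw [inv_inv]; exact iha.1⟩
    have hcN : ∀ R, R < S → Nat.card P = Nat.card R →
        Nat.card P < Nat.card (normalizerIn S R) := fun R hR hc => by
      haveI : Finite ↥(normalizerIn S R) := finite_of_le (S := S) inf_le_left
      rw [hc]; exact card_lt_of_lt (lt_normalizerIn hS hR)
    obtain ⟨u, hu, huQ, -⟩ := exists_map_to_fullyNormalized hS hF hQn hQ
    have hfc : F.IsConj (fimg f P) Q := isConj_trans (isConj_symm hf.isConj) hQ
    obtain ⟨v, hv, hvQ, -⟩ := exists_map_to_fullyNormalized hS hF hQn hfc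
    obtain ⟨u', hu', hu1, -, -⟩ := hu.exists_inv
    obtain ⟨v', hv', hv1, -, -⟩ := hv.exists_inv
    have hPN := le_normalizerIn (S := S) hPS
    have hfN := le_normalizerIn (S := S) hf.fimg_le_S
    have hflt : fimg f P < S := lt_of_le_of_ne hf.fimg_le_S fun e => by
      have h2 := card_lt_of_lt hlt
      have h3 := hf.card_fimg
      rw [e] at h3
      omega
    have hc2 := hcN _ hflt hf.card_fimg.symm
    have hv'res : Q ≤ fimg v (normalizerIn S (fimg f P)) := hvQ ▸ fimg_mono v hfN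
    have hu'res : Q ≤ fimg u (normalizerIn S P) := huQ ▸ fimg_mono u hPN
    have hu'Q : ∀ y ∈ Q, u' y ∈ P := by
      intro y hy
      rw [← huQ] at hy
      obtain ⟨x, hx, rfl⟩ := (hu.res hPN).mem_fimg_iff.1 hy
      rw [hu1 x (hPN hx)]
      exact hx
    have hmid : IsMap F Q (fun y => v (f (u' y))) :=
      ((hu'.res hu'res).comp hf hu'Q).comp (hv.res hfN)
        fun y hy => apply_mem_fimg f (hu'Q y hy)
    have hmidQ : fimg (fun y => v (f (u' y))) Q = Q := by
      haveI := finite_of_le hQn.1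
      exact Subgroup.eq_of_le_of_card_ge (fimg_le fun y hy => hvQ ▸
        apply_mem_fimg v (apply_mem_fimg f (hu'Q y hy))) hmid.card_fimg.ge
    obtain ⟨β, hβ, hβe⟩ := hmid.exists_aut hmidQ
    have d1 : D P u := hres _ _ _ hu hPN (big _ u hu (hcN P hlt rfl))
    have d3 : D Q v' := hres _ _ _ hv' hv'res (big _ v' hv' (by rw [hv.card_fimg]; exact hc2))
    have hβm : IsMap F Q (autFun β) := (mem_autGroup hQn.1).1 hβ
    refine hcongr _ _ _ (hcomp P Q (fun x => autFun β (u x)) v'
      ((hu.res hPN).comp hβm fun x hx => huQ ▸ apply_mem_fimg u hx) (hv'.res hv'res)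
      (fun x hx => autFun_mem β (huQ ▸ apply_mem_fimg u hx))
      (hcomp P Q u (autFun β) (hu.res hPN) hβm (fun x hx => huQ ▸ apply_mem_fimg u hx) d1
        (hautQ β hβ)) d3) fun x hx => ?_
    have h1 : u x ∈ Q := huQ ▸ apply_mem_fimg u hx
    show v' (autFun β (u x)) = f x
    rw [hβe _ h1]
    show v' (v (f (u' (u x)))) = f x
    rw [hu1 x (hPN hx), hv1 _ (hfN (apply_mem_fimg f hx))]

/-- Alperin's fusion theorem: a property of maps closed under composition and restriction that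
holds for the automorphisms of `S` and of the essential subgroups holds for all maps. -/
theorem alperin (hS : IsPGroup p S) (hF : F.IsSaturated p) (D : Subgroup Ω → (Ω → Ω) → Prop)
    (hcongr : ∀ P f g, D P f → (∀ x ∈ P, f x = g x) → D P g)
    (hcomp : ∀ P Q f g, IsMap F P f → IsMap F Q g → (∀ x ∈ P, f x ∈ Q) → D P f → D Q g →
      D P (fun x => g (f x)))
    (hres : ∀ P Q f, IsMap F Q f → P ≤ Q → D Q f → D P f)
    (htop : ∀ α ∈ F.autGroup S, D S (autFun α))
    (hess : ∀ P, F.IsEssential p P → ∀ α ∈ F.autGroup P, D P (autFun α))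
    {P : Subgroup Ω} {f : Ω → Ω} (hf : IsMap F P f) : D P f :=
  alperin' hS hF D hcongr hcomp hres htop (fun P hP _ => hess P hP) hf

end

end Cfsg.Agent.Fus
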