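import Cfsg.Agent.Lib.Fus.Alperin
import Cfsg.Agent.Lib.Fus.Normal
import Cfsg.Agent.Lib.Grp.Cores

/-!
Criteria for normal and central subgroups of a saturated fusion system.
-/

set_option autoImplicit false
set_option linter.style.haveILetI false

open scoped Classical Pointwise commutatorElement

namespace Cfsg.Agent.Fus

open Subgroup FusionSystem

variable {Ω : Type*} [Group Ω] {S : Subgroup Ω} {F : FusionSystem S}

/-- The inner automorphisms of a `p`-group form a `p`-group. -/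
theorem isPGroup_inn {p : ℕ} {P : Subgroup Ω} (hP : IsPGroup p P) : IsPGroup p (Inn P) :=
  hP.of_surjective (MulAut.conj : P →* MulAut P).rangeRestrict
    (MulAut.conj : P →* MulAut P).rangeRestrict_surjective

theorem StronglyClosed.conj_mem' {T : Subgroup Ω} (hT : F.StronglyClosed T) {s q : Ω}
    (hs : s ∈ S) (hq : q ∈ T) : s * q * s⁻¹ ∈ T :=
  StronglyClosed.apply_mem hT (isMap_conj F hT.1 hs) le_rfl hq

/-- A characteristic subgroup of a normal subgroup is strongly closed. -/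
theorem stronglyClosed_of_characteristic {Q U : Subgroup Ω} (hQ : F.IsNormal Q) (hUQ : U ≤ Q)
    (hU : (U.subgroupOf Q).Characteristic) : F.StronglyClosed U :=
  stronglyClosed_of_isNormal (isNormal_of_characteristic hQ hUQ hU)

section

variable [Finite S] {p : ℕ} [Fact p.Prime]

/-- An essential subgroup is radical. -/
theorem radical_of_essential (hS : IsPGroup p S) {P : Subgroup Ω} (hP : F.IsEssential p P) :
    F.IsRadical p P := by
  obtain ⟨hc, hPn, hn, E, -, hEtop, P', hE⟩ := hP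
  haveI := hn
  haveI := finite_of_le hPn.1
  refine ⟨hPn.1, ?_⟩
  set B := F.autGroup P with hB
  set I := (Inn P).subgroupOf B with hI
  refine le_antisymm ?_ fun α hα => ?_
  · rintro _ ⟨α, hα, rfl⟩
    haveI := Grp.pCore_isNormal (p := p) (G := B)
    have hnorm : ((pCore p B).map (QuotientGroup.mk' I)).Normal :=
      Subgroup.Normal.map inferInstance _ (QuotientGroup.mk'_surjective I)
    have hQ : (pCore p B).map (QuotientGroup.mk' I) = ⊥ := by
      by_contra hne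
      have hle : (pCore p B).map (QuotientGroup.mk' I) ≤ (P' : Subgroup (B ⧸ I)) := by
        haveI := hnorm
        exact (Grp.pCore_isPGroup (p := p) (G := B)).map _ |>.le_sylow_of_normal P'
      refine hEtop (top_le_iff.1 ?_)
      have := normalizer_le_of_kGeneratedCore P'.2 hE hle hne
      rwa [@Subgroup.normalizer_eq_top _ _ _ hnorm] at this
    have h1 : QuotientGroup.mk' I α = 1 := (Subgroup.mem_bot).1 (hQ ▸ ⟨α, hα, rfl⟩)
    exact ((QuotientGroup.eq_one_iff α).1 h1 :)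
  · refine ⟨⟨α, inn_le_autGroup F hPn.1 hα⟩, ?_, rfl⟩
    exact Grp.le_pCore hn ((isPGroup_inn (hS.to_le hPn.1)).comap_of_injective
      (F.autGroup P).subtype Subtype.coe_injective) hα

/-- If the automorphisms of a centric radical `P` induced by `Q` lie in a normal `p`-subgroup of
`Aut_F(P)`, then `Q ≤ P`. -/
theorem le_of_pgroup_aut (hS : IsPGroup p S) {P Q : Subgroup Ω} (hPc : F.IsCentric P)
    (hPr : F.IsRadical p P) (hQS : Q ≤ S) (hQn : ∀ s ∈ S, ∀ q ∈ Q, s * q * s⁻¹ ∈ Q)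
    (K : Subgroup (F.autGroup P)) (hKn : K.Normal) (hKp : IsPGroup p K)
    (hQK : ∀ α : F.autGroup P, (α : MulAut P) ∈ autInducedBy Q P → α ∈ K) : Q ≤ P := by
  have hPS := hPc.1
  haveI := finite_of_le hPS
  haveI : Finite ↥(P ⊔ Q) := finite_of_le (S := S) (sup_le hPS hQS)
  by_contra hnle
  have hlt : P < P ⊔ Q := left_lt_sup.2 hnle
  obtain ⟨g, hg, hgP⟩ := SetLike.lt_iff_le_and_exists.1
    (lt_normalizerIn (S := P ⊔ Q) (hS.to_le (sup_le hPS hQS)) hlt) |>.2
  have hnormQ : P ≤ Subgroup.normalizer (Q : Set Ω) := fun x hx => by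
    refine mem_normalizer_of_forall (hQn x (hPS hx)) fun y hy => ?_
    simpa using hQn x⁻¹ (S.inv_mem (hPS hx)) y hy
  obtain ⟨x, hx, q, hq, rfl⟩ : g ∈ (P : Set Ω) * (Q : Set Ω) := by
    rw [← Subgroup.coe_mul_of_left_le_normalizer_right P Q hnormQ]
    exact hg.1
  have hqN : q ∈ Subgroup.normalizer (P : Set Ω) := by
    have := (Subgroup.normalizer (P : Set Ω)).mul_mem
      ((Subgroup.normalizer (P : Set Ω)).inv_mem (Subgroup.le_normalizer hx)) hg.2
    simpa using this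
  have hqS := hQS hq
  let c : F.autGroup P := ⟨P.normalizerMonoidHom ⟨q, hqN⟩, autInducedBy_le_autGroup F hPS
    (mem_autInducedBy.2 ⟨q, hqS, fun x => rfl⟩)⟩
  have hcK : c ∈ K := hQK c (mem_autInducedBy.2 ⟨q, hq, fun x => rfl⟩)
  have hinn : (c : MulAut P) ∈ Inn P := by
    rw [← hPr.2]
    exact ⟨c, Grp.le_pCore hKn hKp hcK, rfl⟩
  obtain ⟨y, hy⟩ := hinn
  refine hgP (P.mul_mem hx ?_)
  have hcz : (y : Ω)⁻¹ * q ∈ centralizerIn S P := by
    refine mem_centralizerIn.2 ⟨S.mul_mem (S.inv_mem (hPS y.2)) hqS, fun z hz => ?_⟩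
    have h2 : (y : Ω) * z * (y : Ω)⁻¹ = q * z * q⁻¹ :=
      congrArg (fun α : MulAut P => ((α ⟨z, hz⟩ : P) : Ω)) hy
    calc z * ((y : Ω)⁻¹ * q) = (y : Ω)⁻¹ * ((y : Ω) * z * (y : Ω)⁻¹) * q := by group
      _ = (y : Ω)⁻¹ * (q * z * q⁻¹) * q := by rw [h2]
      _ = (y : Ω)⁻¹ * q * z := by group
  rw [← mul_inv_cancel_left (y : Ω) q]
  exact P.mul_mem y.2 (centralizerIn_le_of_centric hPc hcz)

/-- A normal subgroup lies in every centric radical subgroup. -/
theorem le_of_isNormal (hS : IsPGroup p S) {P Q : Subgroup Ω} (hQ : F.IsNormal Q)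
    (hPc : F.IsCentric P) (hPr : F.IsRadical p P) : Q ≤ P := by
  have hsc := stronglyClosed_of_isNormal hQ
  have hPS := hPc.1
  refine le_of_pgroup_aut hS hPc hPr hQ.1 (fun s hs q hq => StronglyClosed.conj_mem' hsc hs hq)
    ((autInducedBy Q P).subgroupOf (F.autGroup P)) ⟨fun c hc b => ?_⟩ ?_ fun α hα => hα
  · obtain ⟨q, hq, hqe⟩ := mem_autInducedBy.1 (Subgroup.mem_subgroupOf.1 hc)
    obtain ⟨g, hg, hg1, hg2⟩ := (isNormal_iff.1 hQ).2 P _ ((mem_autGroup hPS).1 b.2)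
    refine Subgroup.mem_subgroupOf.2 (mem_autInducedBy.2
      ⟨g q, hg2 ▸ apply_mem_fimg g hq, fun x => ?_⟩)
    obtain ⟨y, rfl⟩ := (b : MulAut P).surjective x
    have hqm : q ∈ Subgroup.normalizer (P : Set Ω) := mem_normalizer_of_conj_aut hqe
    have hqy := (Subgroup.mem_normalizer_iff.1 hqm y).1 y.2
    have h1 : autFun (b : MulAut P) (q * y * q⁻¹) = g q * ((b : MulAut P) y : Ω) * (g q)⁻¹ := by
      rw [← hg1 _ hqy, ← autFun_coe (b : MulAut P) y, ← hg1 _ y.2]
      exact hg.map_conj (mem_sup_right hq) (mem_sup_left y.2)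
    refine Eq.trans ?_ h1
    rw [show q * (y : Ω) * q⁻¹ = (((c : MulAut P) y : P) : Ω) from (hqe y).symm, autFun_coe]
    show ((((b * c * b⁻¹ : F.autGroup P) : MulAut P) ((b : MulAut P) y) : P) : Ω) = _
    simp
  · refine IsPGroup.comap_of_injective ?_ (F.autGroup P).subtype Subtype.coe_injective
    rw [autInducedBy_eq_map]
    exact ((hS.to_le hQ.1).comap_of_injective _ Subtype.coe_injective).map _

/-- A subgroup of `S` lying in `S` and in all essential subgroups and invariant under their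
automorphism groups is normal. -/
theorem isNormal_of_essential (hS : IsPGroup p S) (hF : F.IsSaturated p) {Q : Subgroup Ω}
    (hQS : Q ≤ S) (htop : ∀ α ∈ F.autGroup S, ∀ x ∈ Q, autFun α x ∈ Q)
    (hess : ∀ P, F.IsEssential p P → Q ≤ P ∧ ∀ α ∈ F.autGroup P, ∀ x ∈ Q, autFun α x ∈ Q) :
    F.IsNormal Q := by
  haveI := finite_of_le hQS
  refine isNormal_iff.2 ⟨hQS, fun P f hf => ?_⟩
  obtain ⟨g, hg, hg1, hgQ⟩ : ∃ g, IsMap F (P ⊔ Q) g ∧ (∀ x ∈ P, g x = f x) ∧
      ∀ x ∈ Q, g x ∈ Q := by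
    refine alperin hS hF (fun P f => ∃ g, IsMap F (P ⊔ Q) g ∧ (∀ x ∈ P, g x = f x) ∧
      ∀ x ∈ Q, g x ∈ Q) ?_ ?_ ?_ ?_ ?_ hf
    · rintro P f f' ⟨g, hg, h1, h2⟩ e
      exact ⟨g, hg, fun x hx => (h1 x hx).trans (e x hx), h2⟩
    · rintro P R f f' hf hf' hfR ⟨g, hg, h1, h2⟩ ⟨g', hg', h1', h2'⟩
      have hle : fimg g (P ⊔ Q) ≤ R ⊔ Q := by
        rw [hg.fimg_sup]
        exact sup_le ((fimg_le fun x hx => (h1 x hx).symm ▸ hfR x hx).trans le_sup_left)
          ((fimg_le h2).trans le_sup_right)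
      refine ⟨fun x => g' (g x), hg.comp hg' fun x hx => hle (apply_mem_fimg g hx),
        fun x hx => ?_, fun x hx => h2' _ (h2 x hx)⟩
      show g' (g x) = f' (f x)
      rw [h1 x hx, h1' _ (hfR x hx)]
    · rintro P R f hf hPR ⟨g, hg, h1, h2⟩
      exact ⟨g, hg.res (sup_le_sup_right hPR Q), fun x hx => h1 x (hPR hx), h2⟩
    · intro α hα
      exact ⟨autFun α, by rw [sup_eq_left.2 hQS]; exact (mem_autGroup le_rfl).1 hα,
        fun x hx => rfl, htop α hα⟩
    · intro R hR α hα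
      exact ⟨autFun α, by rw [sup_eq_left.2 (hess R hR).1]; exact (mem_autGroup hR.1.1).1 hα,
        fun x hx => rfl, (hess R hR).2 α hα⟩
  exact ⟨g, hg, hg1, Subgroup.eq_of_le_of_card_ge (fimg_le hgQ)
    (hg.res le_sup_right).card_fimg.ge⟩

/-- A strongly closed subgroup contained in all centric radical subgroups is normal. -/
theorem isNormal_of_stronglyClosed (hS : IsPGroup p S) (hF : F.IsSaturated p) {Q : Subgroup Ω}
    (hQ : F.StronglyClosed Q) (h : ∀ P, F.IsCentric P → F.IsRadical p P → Q ≤ P) :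
    F.IsNormal Q :=
  isNormal_of_essential hS hF hQ.1
    (fun _ hα _ hx => StronglyClosed.apply_mem hQ (((mem_autGroup le_rfl).1 hα).res hQ.1) le_rfl hx)
    fun P hP => ⟨h P hP.1 (radical_of_essential hS hP), fun _ hα _ hx => StronglyClosed.apply_mem hQ
      (((mem_autGroup hP.1.1).1 hα).res (h P hP.1 (radical_of_essential hS hP))) le_rfl hx⟩

omit [Finite S] [Fact p.Prime] in
/-- An automorphism of `p'`-order stabilizing a chain of subgroups of a `p`-group is trivial: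
one step. -/
theorem fix_step (hS : IsPGroup p S) {P : Subgroup Ω} (hPS : P ≤ S) (α : MulAut P) {m : ℕ}
    (hm : m.Coprime p) (hα : α ^ m = 1) {x : P} (hfix : α (x⁻¹ * α x) = x⁻¹ * α x) :
    α x = x := by
  have hpow : ∀ k : ℕ, (α ^ k) x = x * (x⁻¹ * α x) ^ k := by
    intro k
    induction k with
    | zero => simp
    | succ k ih =>
      have e : ∀ c : P, α x * c = x * ((x⁻¹ * α x) * c) := fun c => by group
      rw [pow_succ', MulAut.mul_apply, ih, map_mul, map_pow, hfix, pow_succ', e]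
  have h1 := hpow m
  rw [hα, MulAut.one_apply, eq_comm, mul_eq_left] at h1
  obtain ⟨k, hk⟩ := hS.to_le hPS (x⁻¹ * α x)
  have h3 : (x⁻¹ * α x) = 1 := by
    rw [← orderOf_eq_one_iff]
    exact Nat.eq_one_of_dvd_coprimes ((Nat.Coprime.pow_right k hm).symm)
      (orderOf_dvd_of_pow_eq_one hk) (orderOf_dvd_of_pow_eq_one h1)
  exact (inv_mul_eq_one.1 h3).symm

/-- If a subgroup `Q` acts trivially on the factors of an `Aut_F(P)`-invariant chain in a centric
radical `P`, whose bottom is fixed by all automorphisms of order prime to `p`, then `Q ≤ P`. -/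
theorem le_of_chain_stab (hS : IsPGroup p S) {P Q : Subgroup Ω} (hPc : F.IsCentric P)
    (hPr : F.IsRadical p P) (hQS : Q ≤ S) (hQn : ∀ s ∈ S, ∀ q ∈ Q, s * q * s⁻¹ ∈ Q)
    (n : ℕ) (A : ℕ → Subgroup Ω)
    (hinv : ∀ β ∈ F.autGroup P, ∀ i ≤ n, ∀ x : P, (x : Ω) ∈ A i → ((β x : P) : Ω) ∈ A i)
    (hbase : ∀ β ∈ F.autGroup P, ∀ m : ℕ, m.Coprime p → β ^ m = 1 → ∀ x : P, (x : Ω) ∈ A 0 →
      β x = x)
    (hlast : ∀ q ∈ Q, q ∈ Subgroup.normalizer (P : Set Ω) → ∀ x ∈ P,
      x⁻¹ * (q * x * q⁻¹) ∈ A n)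
    (hstep : ∀ i < n, ∀ q ∈ Q, q ∈ Subgroup.normalizer (P : Set Ω) → ∀ x ∈ P, x ∈ A (i + 1) →
      x⁻¹ * (q * x * q⁻¹) ∈ A i) : Q ≤ P := by
  have hPS := hPc.1
  haveI := finite_of_le hPS
  -- the stabilizer of the chain
  let K : Subgroup (F.autGroup P) :=
    { carrier := {α | (∀ x : P, ((x⁻¹ * (α : MulAut P) x : P) : Ω) ∈ A n) ∧
        ∀ i < n, ∀ x : P, (x : Ω) ∈ A (i + 1) →
          ((x⁻¹ * (α : MulAut P) x : P) : Ω) ∈ A i}
      mul_mem' := by
        intro a b ha hb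
        have e : ∀ x : P, x⁻¹ * ((a * b : F.autGroup P) : MulAut P) x =
            (x⁻¹ * (b : MulAut P) x) *
              (((b : MulAut P) x)⁻¹ * (a : MulAut P) ((b : MulAut P) x)) := fun x => by
          simp [mul_assoc]
        refine ⟨fun x => ?_, fun i hi x hx => ?_⟩
        · rw [e, Subgroup.coe_mul]
          exact mul_mem (hb.1 x) (ha.1 _)
        · rw [e, Subgroup.coe_mul]
          exact mul_mem (hb.2 i hi x hx) (ha.2 i hi _ (hinv b b.2 _ hi x hx))
      one_mem' := ⟨fun x => by simp, fun i hi x hx => by simp⟩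
      inv_mem' := by
        intro a ha
        have e : ∀ x : P, x⁻¹ * ((a⁻¹ : F.autGroup P) : MulAut P) x =
            ((((a⁻¹ : F.autGroup P) : MulAut P) x)⁻¹ *
              (a : MulAut P) (((a⁻¹ : F.autGroup P) : MulAut P) x))⁻¹ := fun x => by
          simp
        refine ⟨fun x => ?_, fun i hi x hx => ?_⟩
        · rw [e, Subgroup.coe_inv]
          exact inv_mem (ha.1 _)
        · rw [e, Subgroup.coe_inv]
          exact inv_mem (ha.2 i hi _ (hinv _ (a⁻¹).2 _ hi x hx)) }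
  have hKn : K.Normal := by
    refine ⟨fun c hc b => ?_⟩
    have e : ∀ x : P, x⁻¹ * ((b * c * b⁻¹ : F.autGroup P) : MulAut P) x = (b : MulAut P)
        ((((b⁻¹ : F.autGroup P) : MulAut P) x)⁻¹ *
          (c : MulAut P) (((b⁻¹ : F.autGroup P) : MulAut P) x)) := fun x => by
      simp
    refine ⟨fun x => ?_, fun i hi x hx => ?_⟩
    · rw [e]
      exact hinv _ b.2 _ le_rfl _ (hc.1 _)
    · rw [e]
      exact hinv _ b.2 _ hi.le _ (hc.2 i hi _ (hinv _ (b⁻¹).2 _ hi x hx))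
  have hKp : IsPGroup p K := by
    intro α
    obtain ⟨k, m, hm, hord⟩ := Nat.exists_eq_pow_mul_and_not_dvd
      (orderOf_pos α).ne' p (Fact.out : p.Prime).ne_one
    refine ⟨k, ?_⟩
    set β := α ^ p ^ k with hβ
    have hβm : ((β : F.autGroup P) : MulAut P) ^ m = 1 := by
      rw [← SubgroupClass.coe_pow, ← SubgroupClass.coe_pow, hβ, ← pow_mul, ← hord,
        pow_orderOf_eq_one]
      rfl
    have hmc : m.Coprime p := ((Fact.out : p.Prime).coprime_iff_not_dvd.2 hm).symm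
    have hfix : ∀ i ≤ n, ∀ x : P, (x : Ω) ∈ A i → ((β : F.autGroup P) : MulAut P) x = x := by
      intro i
      induction i with
      | zero => exact fun _ x hx => hbase _ (β : F.autGroup P).2 m hmc hβm x hx
      | succ i ih =>
        intro hi x hx
        exact fix_step hS hPS _ hmc hβm (ih (Nat.le_of_succ_le hi) _ (β.2.2 i hi x hx))
    refine Subtype.ext (Subtype.ext (MulEquiv.ext fun x => ?_))
    exact fix_step hS hPS _ hmc hβm (hfix n le_rfl _ (β.2.1 x))
  refine le_of_pgroup_aut hS hPc hPr hQS hQn K hKn hKp fun α hα => ?_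
  obtain ⟨q, hq, hqe⟩ := mem_autInducedBy.1 hα
  have hqN := mem_normalizer_of_conj_aut hqe
  refine ⟨fun x => ?_, fun i hi x hx => ?_⟩
  · rw [Subgroup.coe_mul, Subgroup.coe_inv, hqe]
    exact hlast q hq hqN x x.2
  · rw [Subgroup.coe_mul, Subgroup.coe_inv, hqe]
    exact hstep i hi q hq hqN x x.2 hx

omit [Finite S] [Fact p.Prime] in
/-- A subgroup invariant under restrictions of maps is invariant under `Aut_F(P)`. -/
theorem StronglyClosed.aut_apply_mem {A P : Subgroup Ω} (hA : F.StronglyClosed A) (hPS : P ≤ S)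
    {β : MulAut P} (hβ : β ∈ F.autGroup P) {x : P} (hx : (x : Ω) ∈ A) :
    ((β x : P) : Ω) ∈ A := by
  rw [← autFun_coe]
  exact StronglyClosed.apply_mem hA (((mem_autGroup hPS).1 hβ).res (Subgroup.zpowers_le.2 x.2))
    (Subgroup.zpowers_le.2 hx) (Subgroup.mem_zpowers _)

/-- A strongly closed subgroup with a central chain of strongly closed subgroups is normal. -/
theorem isNormal_of_chain (hS : IsPGroup p S) (hF : F.IsSaturated p) {n : ℕ}
    (Qs : Fin (n + 1) → Subgroup Ω) (h0 : Qs 0 = ⊥) (hmono : Monotone Qs)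
    (h : ∀ i : Fin n, F.StronglyClosed (Qs i.succ) ∧
      ⁅Qs (Fin.last n), Qs i.succ⁆ ≤ Qs (Fin.castSucc i)) :
    F.IsNormal (Qs (Fin.last n)) := by
  rcases Nat.eq_zero_or_pos n with rfl | hn
  · rw [show Fin.last 0 = 0 from rfl, h0]
    exact isNormal_bot F
  have hsc : ∀ i, i ≠ 0 → F.StronglyClosed (Qs i) := by
    intro i hi
    obtain ⟨j, rfl⟩ := Fin.eq_succ_of_ne_zero hi
    exact (h j).1
  have hQsc : F.StronglyClosed (Qs (Fin.last n)) := hsc _ fun e => by
    have := congrArg Fin.val e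
    simp at this
    omega
  refine isNormal_of_stronglyClosed hS hF hQsc fun P hPc hPr => ?_
  have hPS := hPc.1
  have hnormQ : ∀ i, ∀ x : P, ∀ y ∈ Qs i, (x : Ω) * y * (x : Ω)⁻¹ ∈ Qs i := by
    intro i x y hy
    rcases eq_or_ne i 0 with rfl | hi
    · rw [h0, Subgroup.mem_bot] at hy ⊢
      simp [hy]
    · exact StronglyClosed.conj_mem' (hsc i hi) (hPS x.2) hy
  obtain ⟨A, hA⟩ : ∃ A : ℕ → Subgroup Ω, ∀ i (hi : i < n + 1), A i = Qs ⟨i, hi⟩ :=
    ⟨fun i => if hi : i < n + 1 then Qs ⟨i, hi⟩ else ⊥, fun i hi => dif_pos hi⟩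
  refine le_of_chain_stab hS hPc hPr hQsc.1
    (fun s hs q hq => StronglyClosed.conj_mem' hQsc hs hq) n A ?_ ?_ ?_ ?_
  · intro β hβ i hi x hx
    rw [hA i (by omega)] at hx ⊢
    rcases eq_or_ne (⟨i, by omega⟩ : Fin (n + 1)) 0 with e | e
    · rw [e, h0, Subgroup.mem_bot, OneMemClass.coe_eq_one] at hx ⊢
      rw [hx, map_one]
    · exact StronglyClosed.aut_apply_mem (hsc _ e) hPS hβ hx
  · intro β _ m _ _ x hx
    rw [hA 0 (by omega), show (⟨0, _⟩ : Fin (n + 1)) = 0 from rfl, h0, Subgroup.mem_bot,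
      OneMemClass.coe_eq_one] at hx
    rw [hx, map_one]
  · intro q hq _ x hx
    rw [hA n (by omega)]
    rw [show x⁻¹ * (q * x * q⁻¹) = ((⟨x, hx⟩⁻¹ : P) : Ω) * q * ((⟨x, hx⟩⁻¹ : P) : Ω)⁻¹ * q⁻¹ by
      rw [Subgroup.coe_inv]; group]
    exact mul_mem (hnormQ _ _ q hq) (inv_mem hq)
  · intro i hi q hq _ x hx hxA
    rw [hA (i + 1) (by omega)] at hxA
    rw [hA i (by omega)]
    rw [show x⁻¹ * (q * x * q⁻¹) = ((⟨x, hx⟩⁻¹ : P) : Ω) * ⁅q, x⁆ * ((⟨x, hx⟩⁻¹ : P) : Ω)⁻¹ by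
      rw [Subgroup.coe_inv, commutatorElement_def]; group]
    exact hnormQ _ _ _ ((h ⟨i, hi⟩).2 (Subgroup.commutator_mem_commutator hq hxA))

/-- A subgroup whose characteristic subgroups are strongly closed is normal. -/
theorem exists_chain_of_characteristic_closed (hS : IsPGroup p S)
    {Q : Subgroup Ω} (hQS : Q ≤ S)
    (h : ∀ U ≤ Q, (U.subgroupOf Q).Characteristic → F.StronglyClosed U) :
    ∃ (n : ℕ) (Qs : Fin (n + 1) → Subgroup Ω), Qs 0 = ⊥ ∧ Qs (Fin.last n) = Q ∧ Monotone Qs ∧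
      ∀ i : Fin n, F.StronglyClosed (Qs i.succ) ∧ ⁅Q, Qs i.succ⁆ ≤ Qs (Fin.castSucc i) := by
  haveI := finite_of_le hQS
  haveI : Group.IsNilpotent Q := (hS.to_le hQS).isNilpotent
  refine ⟨Group.nilpotencyClass Q, fun i => (Subgroup.upperCentralSeries Q i.val).map Q.subtype,
    by simp, ?_, ?_, fun i => ⟨?_, ?_⟩⟩
  · simp [← MonoidHom.range_eq_map]
  · intro i j hij
    exact Subgroup.map_mono (Subgroup.upperCentralSeries_mono Q (Fin.le_def.1 hij))
  · refine h _ (Subgroup.map_subtype_le _) ?_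
    rw [Subgroup.subgroupOf, Subgroup.comap_map_eq_self_of_injective Q.subtype_injective]
    infer_instance
  · rw [Subgroup.commutator_comm]
    conv_lhs => arg 2; rw [← Q.range_subtype, MonoidHom.range_eq_map]
    rw [← Subgroup.map_commutator]
    refine Subgroup.map_mono ?_
    exact Subgroup.commutator_upperCentralSeries_top_le Q i

/-- In a normal subgroup all characteristic subgroups are strongly closed; the chain. -/
theorem chain_of_isNormal (hS : IsPGroup p S)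
    {Q : Subgroup Ω} (hQ : F.IsNormal Q) :
    ∃ (n : ℕ) (Qs : Fin (n + 1) → Subgroup Ω), Qs 0 = ⊥ ∧ Qs (Fin.last n) = Q ∧ Monotone Qs ∧
      ∀ i : Fin n, F.StronglyClosed (Qs i.succ) ∧ ⁅Q, Qs i.succ⁆ ≤ Qs (Fin.castSucc i) :=
  exists_chain_of_characteristic_closed hS hQ.1 fun _ hU hc =>
    stronglyClosed_of_characteristic hQ hU hc

end

end Cfsg.Agent.Fus
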