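import Mathlib
import Cfsg.Agent.Lib.Grp.SL2Section

/-!
Automorphisms of an elementary abelian group of order `p ^ 2`: two elements of order `p` generating
different subgroups generate a copy of `SL(2, p)`.
-/

set_option autoImplicit false
set_option linter.unusedSectionVars false
set_option linter.style.haveILetI false

universe u

namespace Cfsg.Agent.Fus.RankTwoAut

open Cfsg.Agent.Grp.SL2

variable {p : ℕ} [hp : Fact p.Prime] {Q : Type u} [Group Q]

local notation "SLp" => Matrix.SpecialLinearGroup (Fin 2) (ZMod p)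

theorem up_low_generate (K : Subgroup SLp) (hu : ∀ c : ZMod p, up c ∈ K)
    (hl : ∀ c : ZMod p, low c ∈ K) : K = ⊤ := by
  rw [eq_top_iff, ← Classical.SL_closure_transvections, Subgroup.closure_le]
  rintro _ ⟨⟨i, j, hij, c⟩, rfl⟩
  fin_cases i <;> fin_cases j
  · exact absurd rfl hij
  · refine (congrArg (fun z => z ∈ K) (Subtype.ext ?_ : _ = up c)).mpr (hu c)
    ext r s; fin_cases r <;> fin_cases s <;>
      simp [up, Matrix.TransvectionStruct.toSpecialLinearGroup,
        Matrix.SpecialLinearGroup.transvection_coe]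
  · refine (congrArg (fun z => z ∈ K) (Subtype.ext ?_ : _ = low c)).mpr (hl c)
    ext r s; fin_cases r <;> fin_cases s <;>
      simp [low, Matrix.TransvectionStruct.toSpecialLinearGroup,
        Matrix.SpecialLinearGroup.transvection_coe]
  · exact absurd rfl hij

variable (e : Multiplicative (Fin 2 → ZMod p) ≃* Q)

/-- The linear map of `(ZMod p)²` corresponding to an automorphism. -/
noncomputable def lin (a : MulAut Q) : (Fin 2 → ZMod p) →ₗ[ZMod p] (Fin 2 → ZMod p) :=
  AddMonoidHom.toZModLinearMap p
    (MonoidHom.toAdditive (e.symm.toMonoidHom.comp (a.toMonoidHom.comp e.toMonoidHom)))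

theorem lin_apply (a : MulAut Q) (x : (Fin 2 → ZMod p)) :
    lin e a x = Multiplicative.toAdd (e.symm (a (e (Multiplicative.ofAdd x)))) := rfl

theorem lin_mul (a b : MulAut Q) (x : (Fin 2 → ZMod p)) : lin e (a * b) x = lin e a (lin e b x) := by
  simp [lin_apply]

theorem lin_injective {a b : MulAut Q} (h : lin e a = lin e b) : a = b := by
  refine MulEquiv.ext fun q => ?_
  have := congrArg (fun L : (Fin 2 → ZMod p) →ₗ[ZMod p] (Fin 2 → ZMod p) => L (Multiplicative.toAdd (e.symm q))) h
  simpa [lin_apply] using this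

theorem lin_one (x : (Fin 2 → ZMod p)) : lin e 1 x = x := by simp [lin_apply]

/-- The action of `SL(2, p)` through the coordinates. -/
noncomputable def act : SLp →* MulAut Q where
  toFun A := (e.symm.trans (AddEquiv.toMultiplicative
    (Matrix.SpecialLinearGroup.toLin' A).toAddEquiv)).trans e
  map_one' := MulEquiv.ext fun q => by simp
  map_mul' A B := MulEquiv.ext fun q => by simp

theorem lin_act (A : SLp) (x : (Fin 2 → ZMod p)) :
    lin e (act e A) x = (A : Matrix (Fin 2) (Fin 2) (ZMod p)).mulVec x := by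
  simp [lin_apply, act, Matrix.SpecialLinearGroup.toLin'_apply]

theorem act_injective : Function.Injective (act e) := by
  intro A B h
  refine Subtype.ext (Matrix.toLin'.injective (LinearMap.ext fun x => ?_))
  rw [Matrix.toLin'_apply, Matrix.toLin'_apply, ← lin_act e A x, ← lin_act e B x, h]

theorem eq_act_of_basis {a : MulAut Q} {A : SLp}
    (h : ∀ i : Fin 2, lin e a (Pi.single i 1) =
      (A : Matrix (Fin 2) (Fin 2) (ZMod p)).mulVec (Pi.single i 1)) : a = act e A := by
  refine lin_injective e ?_
  refine (Pi.basisFun (ZMod p) (Fin 2)).ext fun i => ?_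
  rw [lin_act, Pi.basisFun_apply]
  exact h i

/-- An element of order `p` fixing the `i`-th basis vector is a transvection. -/
theorem eq_shear {a : MulAut Q} (ha : a ^ p = 1) :
    (lin e a (Pi.single 0 1) = Pi.single 0 1 → ∃ s : ZMod p, a = act e (up s)) ∧
    (lin e a (Pi.single 1 1) = Pi.single 1 1 → ∃ s : ZMod p, a = act e (low s)) := by
  have key : ∀ i j : Fin 2, i ≠ j → lin e a (Pi.single i 1) = Pi.single i 1 →
      lin e a (Pi.single j 1) j = 1 := by
    intro i j hij hfix
    set y := lin e a (Pi.single j 1) with hy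
    have hy2 : y = y i • Pi.single i 1 + y j • Pi.single j 1 := by
      funext k
      fin_cases i <;> fin_cases j <;> fin_cases k <;> first | exact absurd rfl hij | simp
    have hpow : ∀ n : ℕ, lin e (a ^ n) (Pi.single j 1) j = y j ^ n := by
      intro n
      induction n with
      | zero => simp [lin_one]
      | succ n ih =>
        rw [pow_succ, lin_mul, ← hy, hy2, map_add, map_smul, map_smul]
        have hfixn : lin e (a ^ n) (Pi.single i 1) = Pi.single i 1 := by
          clear ih
          induction n with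
          | zero => simp [lin_one]
          | succ n ih => rw [pow_succ, lin_mul, hfix, ih]
        rw [hfixn]
        simp [Pi.single_eq_of_ne hij.symm, ih, pow_succ']
    have := hpow p
    rw [ha, lin_one, ZMod.pow_card, Pi.single_eq_same] at this
    exact this.symm
  refine ⟨fun h => ⟨lin e a (Pi.single 1 1) 0, eq_act_of_basis e fun i => ?_⟩,
    fun h => ⟨lin e a (Pi.single 0 1) 1, eq_act_of_basis e fun i => ?_⟩⟩
  · have h1 := key 0 1 (by decide) h
    fin_cases i
    · refine h.trans ?_
      funext k; fin_cases k <;> simp [up]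
    · funext k; fin_cases k <;> simp [up, h1]
  · have h1 := key 1 0 (by decide) h
    fin_cases i
    · funext k; fin_cases k <;> simp [low, h1]
    · refine h.trans ?_
      funext k; fin_cases k <;> simp [low]

theorem up_mem_zpowers {c : ZMod p} (hc : c ≠ 0) (d : ZMod p) : up d ∈ Subgroup.zpowers (up c) := by
  refine ⟨((d / c).val : ℤ), ?_⟩
  simp only [zpow_natCast]
  rw [up_pow, ZMod.natCast_zmod_val, div_mul_cancel₀ _ hc]

theorem low_mem_zpowers {c : ZMod p} (hc : c ≠ 0) (d : ZMod p) :
    low d ∈ Subgroup.zpowers (low c) := by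
  refine ⟨((d / c).val : ℤ), ?_⟩
  simp only [zpow_natCast]
  rw [low_pow, ZMod.natCast_zmod_val, div_mul_cancel₀ _ hc]

/-- Coordinates with prescribed independent vectors. -/
theorem exists_coords [Finite Q] (hc : ∀ x y : Q, x * y = y * x) (hexp : ∀ x : Q, x ^ p = 1)
    (hcard : Nat.card Q = p ^ 2) {v w : Q} (hv : v ≠ 1) (hw : w ∉ Subgroup.zpowers v) :
    ∃ e : Multiplicative (Fin 2 → ZMod p) ≃* Q, e (Multiplicative.ofAdd (Pi.single 0 1)) = v ∧
      e (Multiplicative.ofAdd (Pi.single 1 1)) = w := by
  have hpow : ∀ (x : Q) (c d : ZMod p), x ^ (c + d).val = x ^ c.val * x ^ d.val := fun x c d => by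
    rw [← pow_add, ZMod.val_add, ← pow_eq_pow_mod (c.val + d.val) (hexp x)]
  let f : Multiplicative (Fin 2 → ZMod p) →* Q :=
    { toFun := fun x => v ^ (x.toAdd 0).val * w ^ (x.toAdd 1).val
      map_one' := by simp
      map_mul' := fun x y => by
        simp only [toAdd_mul, Pi.add_apply, hpow]
        rw [mul_assoc, mul_assoc, ← mul_assoc (v ^ (y.toAdd 0).val),
          hc (v ^ (y.toAdd 0).val) (w ^ (x.toAdd 1).val), mul_assoc] }
  have hinj : Function.Injective f := by
    refine (injective_iff_map_eq_one f).2 fun x hx => ?_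
    have hx : v ^ (x.toAdd 0).val * w ^ (x.toAdd 1).val = 1 := hx
    have h1 : x.toAdd 1 = 0 := by
      by_contra h
      refine hw ?_
      have hm : w ^ (x.toAdd 1).val ∈ Subgroup.zpowers v := by
        rw [eq_inv_of_mul_eq_one_right hx]
        exact inv_mem (pow_mem (Subgroup.mem_zpowers v) _)
      have := pow_mem hm ((x.toAdd 1)⁻¹).val
      rwa [← pow_mul, pow_eq_pow_mod _ (hexp w), ← ZMod.val_mul, mul_inv_cancel₀ h, ZMod.val_one,
        pow_one] at this
    have h0 : x.toAdd 0 = 0 := by
      rw [h1, ZMod.val_zero, pow_zero, mul_one] at hx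
      by_contra h
      have hd : orderOf v = p := orderOf_eq_prime (hexp v) hv
      have := orderOf_dvd_of_pow_eq_one hx
      rw [hd] at this
      exact h ((ZMod.val_eq_zero _).1 (Nat.eq_zero_of_dvd_of_lt this (ZMod.val_lt _)))
    refine Multiplicative.toAdd.injective (funext fun k => ?_)
    fin_cases k
    · exact h0
    · exact h1
  have hbij : Function.Bijective f :=
    (Nat.bijective_iff_injective_and_card _).2 ⟨hinj, by simp [hcard]⟩
  refine ⟨MulEquiv.ofBijective f hbij, ?_, ?_⟩
  · simp [f, ZMod.val_one]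
  · simp [f, ZMod.val_one]

/-- An automorphism group of `C_p × C_p` with a subgroup of order `p` that is not normal contains
the image of `SL(2, p)` in coordinates in which the given element is a transvection. -/
theorem exists_sl2_coords [Finite Q] (hc : ∀ x y : Q, x * y = y * x) (hexp : ∀ x : Q, x ^ p = 1)
    (hcard : Nat.card Q = p ^ 2) (A : Subgroup (MulAut Q)) {a g : MulAut Q} (haA : a ∈ A)
    (hgA : g ∈ A) (hap : a ^ p = 1) (hg : g * a * g⁻¹ ∉ Subgroup.zpowers a) :
    ∃ (e : Multiplicative (Fin 2 → ZMod p) ≃* Q) (s : ZMod p), s ≠ 0 ∧ a = act e (up s) ∧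
      ∀ B : SLp, act e B ∈ A := by
  have hpp : p.Prime := Fact.out
  haveI : Fintype Q := Fintype.ofFinite Q
  obtain ⟨v, hv, hv1⟩ := Equiv.Perm.exists_fixed_point_of_prime' (n := 1)
    (show p ∣ Fintype.card Q by
      rw [← Nat.card_eq_fintype_card, hcard]; exact dvd_pow_self p two_ne_zero)
    (σ := a.toEquiv) (by
      refine Equiv.ext fun x => ?_
      have : ∀ n : ℕ, (a.toEquiv ^ n) x = (a ^ n) x := fun n => by
        induction n with
        | zero => rfl
        | succ n ih => rw [pow_succ', Equiv.Perm.mul_apply, ih, pow_succ']; rfl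
      rw [this, pow_one, hap]; rfl)
    (a := 1) (map_one a)
  have hv : a v = v := hv
  have hgv : ∀ h : g v ∈ Subgroup.zpowers v, False := by
    intro h
    obtain ⟨k, hk⟩ : ∃ k : ℤ, v ^ k = g v := h
    have hgv1 : g v ≠ 1 := fun e => hv1 (g.injective (e.trans (map_one g).symm))
    have hd : orderOf (g v) = p := orderOf_eq_prime (hexp _) hgv1
    obtain ⟨w, hw⟩ : ∃ w, w ∉ Subgroup.zpowers v := by
      by_contra hh
      push Not at hh
      have : Nat.card Q ≤ p := by
        rw [← Subgroup.card_top, ← top_le_iff.1 fun x _ => hh x, Nat.card_zpowers,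
          orderOf_eq_prime (hexp v) hv1]
      rw [hcard] at this
      exact absurd this (not_le.2 (by nlinarith [hpp.two_le]))
    obtain ⟨e, he0, -⟩ := exists_coords hc hexp hcard hv1 hw
    have hfix : ∀ b : MulAut Q, b v = v → lin e b (Pi.single 0 1) = Pi.single 0 1 := fun b hb => by
      rw [lin_apply, he0, hb, ← he0, MulEquiv.symm_apply_apply, toAdd_ofAdd]
    have hbv : (g * a * g⁻¹) v = v := by
      have e1 : (g * a * g⁻¹) (g v) = g v := by simp [hv]
      rw [← hk, map_zpow] at e1
      have hcop : Int.gcd k (orderOf v) = 1 := by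
        rw [orderOf_eq_prime (hexp v) hv1, Int.gcd_comm, Int.gcd_eq_natAbs, Int.natAbs_natCast]
        refine hpp.coprime_iff_not_dvd.2 fun hdv => hgv1 ?_
        obtain ⟨j, rfl⟩ := Int.ofNat_dvd_left.2 hdv
        rw [← hk, zpow_mul, zpow_natCast, hexp, one_zpow]
      have hb := Int.gcd_eq_gcd_ab k (orderOf v)
      rw [hcop] at hb
      have hv' : v = (v ^ k) ^ Int.gcdA k (orderOf v) := by
        conv_lhs => rw [← zpow_one v]
        rw [show (1 : ℤ) = ((1 : ℕ) : ℤ) by rfl, hb, zpow_add, zpow_mul, zpow_mul, zpow_natCast,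
          pow_orderOf_eq_one, one_zpow, mul_one]
      rw [hv', map_zpow, map_zpow, e1]
    obtain ⟨s, hs⟩ := (eq_shear e hap).1 (hfix a hv)
    obtain ⟨t, ht⟩ := (eq_shear e (a := g * a * g⁻¹) (by
      rw [conj_pow, hap, mul_one, mul_inv_cancel])).1 (hfix _ hbv)
    have hs0 : s ≠ 0 := by
      rintro rfl
      rw [up_zero, map_one] at hs
      exact hg (by rw [hs]; simp)
    refine hg ?_
    rw [hs] at ht ⊢
    rw [ht, ← MonoidHom.map_zpowers]
    exact Subgroup.mem_map_of_mem _ (up_mem_zpowers hs0 t)
  obtain ⟨e, he0, he1⟩ := exists_coords hc hexp hcard hv1 (fun h => hgv h)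
  obtain ⟨s, hs⟩ := (eq_shear e hap).1
    (by rw [lin_apply, he0, hv, ← he0, MulEquiv.symm_apply_apply, toAdd_ofAdd])
  obtain ⟨t, ht⟩ := (eq_shear e (a := g * a * g⁻¹) (by
    rw [conj_pow, hap, mul_one, mul_inv_cancel])).2 (by
      rw [lin_apply, he1, show (g * a * g⁻¹) (g v) = g v by simp [hv], ← he1,
        MulEquiv.symm_apply_apply, toAdd_ofAdd])
  have ha1 : a ≠ 1 := fun h => hg (by rw [h]; simp)
  have hs0 : s ≠ 0 := by rintro rfl; exact ha1 (by rw [hs, up_zero, map_one])
  have ht0 : t ≠ 0 := by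
    rintro rfl
    rw [low_zero, map_one, conj_eq_one_iff] at ht
    exact ha1 ht
  have hle : (A.comap (act e)) = ⊤ := by
    refine up_low_generate _ (fun c => ?_) (fun c => ?_)
    · exact (Subgroup.zpowers_le.2 (show act e (up s) ∈ A from hs ▸ haA)) (by
        rw [← MonoidHom.map_zpowers]
        exact Subgroup.mem_map_of_mem _ (up_mem_zpowers hs0 c))
    · exact (Subgroup.zpowers_le.2
        (show act e (low t) ∈ A from ht ▸ A.mul_mem (A.mul_mem hgA haA) (A.inv_mem hgA))) (by
        rw [← MonoidHom.map_zpowers]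
        exact Subgroup.mem_map_of_mem _ (low_mem_zpowers ht0 c))
  exact ⟨e, s, hs0, hs, fun B => hle.ge (Subgroup.mem_top B)⟩

/-- An automorphism group of `C_p × C_p` with a subgroup of order `p` that is not normal contains
`SL(2, p)`. -/
theorem exists_sl2 [Finite Q] (hc : ∀ x y : Q, x * y = y * x) (hexp : ∀ x : Q, x ^ p = 1)
    (hcard : Nat.card Q = p ^ 2) (A : Subgroup (MulAut Q)) {a g : MulAut Q} (haA : a ∈ A)
    (hgA : g ∈ A) (hap : a ^ p = 1) (hg : g * a * g⁻¹ ∉ Subgroup.zpowers a) :
    ∃ K : Subgroup ↥A, Nonempty (↥K ≃* SLp) := by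
  obtain ⟨e, s, -, -, hle⟩ := exists_sl2_coords hc hexp hcard A haA hgA hap hg
  refine ⟨((act e).codRestrict A hle).range, ⟨(MonoidHom.ofInjective ?_).symm⟩⟩
  exact fun x y h => act_injective e (congrArg Subtype.val h)

end Cfsg.Agent.Fus.RankTwoAut
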