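import Mathlib
import Cfsg.Agent.Lib.Fus.NormalCrit
import Cfsg.Agent.Lib.Fus.RankTwoAut
import Cfsg.Agent.Lib.Grp.Frattini

/-!
Essential subgroups of small rank: the automorphism group of an essential subgroup has no normal
`p`-subgroup containing all its `p`-elements, so it stabilizes no chain with factors of order `p`
down to the Frattini subgroup.
-/

set_option autoImplicit false
set_option linter.unusedSectionVars false
set_option linter.style.haveILetI false

universe u

namespace Cfsg.Agent.Fus

open Subgroup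

variable {Ω : Type u} [Group Ω] {S : Subgroup Ω} [Finite S] {p : ℕ} [hp : Fact p.Prime]
  {F : FusionSystem S}

/-- The `p`-elements of the automorphism group of an essential subgroup do not all lie in one
normal `p`-subgroup. -/
theorem not_essential_of_normal_pgroup (hS : IsPGroup p S) {P : Subgroup Ω}
    (hP : F.IsEssential p P) (K : Subgroup (F.autGroup P)) (hKn : K.Normal) (hKp : IsPGroup p K)
    (h : ∀ g : F.autGroup P, ∀ k : ℕ, g ^ p ^ k = 1 → g ∈ K) : False := by
  have hrad := radical_of_essential hS hP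
  obtain ⟨hc, -, hn, E, hE⟩ := hP
  haveI := hn
  haveI := finite_of_le hc.1
  obtain ⟨q, hq⟩ := exists_prime_orderOf_dvd_card'
    (G := F.autGroup P ⧸ (Inn P).subgroupOf (F.autGroup P)) p hE.1
  obtain ⟨g, rfl⟩ := QuotientGroup.mk'_surjective ((Inn P).subgroupOf (F.autGroup P)) q
  obtain ⟨k, m, hm, hgm⟩ := Nat.exists_eq_pow_mul_and_not_dvd (orderOf_pos g).ne' p hp.out.ne_one
  have hmem : g ^ m ∈ K := h _ k (by rw [← pow_mul, mul_comm, ← hgm, pow_orderOf_eq_one])
  have hinn : ((g ^ m : F.autGroup P) : MulAut P) ∈ Inn P := by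
    rw [← hrad.2]
    exact ⟨_, Grp.le_pCore hKn hKp hmem, rfl⟩
  have h1 : QuotientGroup.mk' ((Inn P).subgroupOf (F.autGroup P)) g ^ m = 1 := by
    rw [← map_pow]
    exact (QuotientGroup.eq_one_iff _).2 hinn
  exact hm (hq ▸ orderOf_dvd_of_pow_eq_one h1)

/-- For an abelian essential subgroup, a subgroup of automorphisms of order `p` is not normal. -/
theorem exists_aut_of_essential_comm (hS : IsPGroup p S) {P : Subgroup Ω}
    (hP : F.IsEssential p P) (hcm : ∀ x ∈ P, ∀ y ∈ P, x * y = y * x) :
    ∃ a ∈ F.autGroup P, a ^ p = 1 ∧ ∃ g ∈ F.autGroup P, g * a * g⁻¹ ∉ zpowers a := by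
  have hrad := radical_of_essential hS hP
  obtain ⟨hc, -, hn, E, hE⟩ := hP
  haveI := hn
  haveI := finite_of_le hc.1
  set B := F.autGroup P with hB
  have hInn : Inn P = ⊥ := by
    rw [eq_bot_iff]
    rintro _ ⟨y, rfl⟩
    refine Subgroup.mem_bot.2 (MulEquiv.ext fun x => Subtype.ext ?_)
    show (y : Ω) * x * (y : Ω)⁻¹ = x
    rw [hcm _ y.2 _ x.2, mul_inv_cancel_right]
  have hd : p ∣ Nat.card B := hE.1.trans (Subgroup.card_quotient_dvd_card _)
  obtain ⟨a, ha⟩ := exists_prime_orderOf_dvd_card' (G := B) p hd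
  refine ⟨a, a.2, ?_, ?_⟩
  · rw [← SubgroupClass.coe_pow, ← ha, pow_orderOf_eq_one]; rfl
  by_contra hno
  push Not at hno
  have hK : (zpowers a).Normal := ⟨fun x hx g => by
    obtain ⟨i, rfl⟩ := hx
    rw [← conj_zpow]
    obtain ⟨j, hj⟩ := hno (g : MulAut P) g.2
    refine zpow_mem (show g * a * g⁻¹ ∈ zpowers a from ⟨j, Subtype.ext ?_⟩) i
    rw [SubgroupClass.coe_zpow, Subgroup.coe_mul, Subgroup.coe_mul, Subgroup.coe_inv]
    exact hj⟩
  have hle := Grp.le_pCore hK (IsPGroup.of_card (p := p) (n := 1)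
    (by rw [Nat.card_zpowers, ha, pow_one])) (mem_zpowers a)
  have : (a : MulAut P) ∈ Inn P := by rw [← hrad.2]; exact ⟨a, hle, rfl⟩
  rw [hInn, Subgroup.mem_bot, OneMemClass.coe_eq_one] at this
  rw [this, orderOf_one] at ha
  exact hp.out.ne_one ha.symm

/-- An automorphism of `p`-power order acts trivially on an invariant factor of order at most `p`. -/
theorem factor_fix {Q : Type u} [Group Q] [Finite Q] {U X : Subgroup Q} [U.Normal] (hUX : U ≤ X)
    (hc : Nat.card X ≤ p * Nat.card U) (g : MulAut Q) {k : ℕ} (hg : g ^ p ^ k = 1)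
    (hU : ∀ x ∈ U, g x ∈ U) (hX : ∀ x ∈ X, g x ∈ X) {x : Q} (hx : x ∈ X) : x⁻¹ * g x ∈ U := by
  by_cases hxU : x ∈ U
  · exact U.mul_mem (U.inv_mem hxU) (hU x hxU)
  set A := X.map (QuotientGroup.mk' U) with hA
  have hcard : Nat.card A ≤ p := by
    have h1 : Nat.card A * Nat.card U = Nat.card X := by
      have h2 := Subgroup.relIndex_ker (QuotientGroup.mk' U) (K := X)
      rw [QuotientGroup.ker_mk'] at h2
      rw [hA, ← Grp.card_mul_relIndex hUX, h2, mul_comm]
    exact Nat.le_of_mul_le_mul_right (h1 ▸ hc) Nat.card_pos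
  set y := QuotientGroup.mk' U x with hy
  have hy1 : y ≠ 1 := fun e => hxU ((QuotientGroup.eq_one_iff x).1 e)
  let h : Q ⧸ U →* Q ⧸ U := QuotientGroup.map U U g.toMonoidHom hU
  have hnp : ∀ i : ℕ, h^[i] y = QuotientGroup.mk' U ((g ^ i) x) := fun i => by
    induction i with
    | zero => rfl
    | succ i ih => rw [Function.iterate_succ_apply', ih, pow_succ']; rfl
  have hper : Function.IsPeriodicPt h (p ^ k) y := by
    show h^[p ^ k] y = y
    rw [hnp, hg]; rfl
  set n := Function.minimalPeriod h y with hn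
  obtain ⟨j, -, hj⟩ := (Nat.dvd_prime_pow hp.out).1 hper.minimalPeriod_dvd
  have hlt : n < p := by
    have hmemA : ∀ i : Fin n, h^[(i : ℕ)] y ∈ ((A : Set (Q ⧸ U)) \ {1}) := fun i => by
      refine ⟨?_, fun e1 => hy1 ?_⟩
      · rw [hnp]
        refine Subgroup.mem_map_of_mem (QuotientGroup.mk' U) ?_
        clear hn hj
        induction (i : ℕ) with
        | zero => exact hx
        | succ i ih => rw [pow_succ', MulAut.mul_apply]; exact hX _ ih
      · have h1 : h^[n - i] (h^[(i : ℕ)] y) = y := by
          rw [← Function.iterate_add_apply, Nat.sub_add_cancel i.2.le]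
          exact Function.iterate_minimalPeriod
        rw [Set.mem_singleton_iff.1 e1, iterate_map_one] at h1
        exact h1.symm
    have hle := Nat.card_le_card_of_injective
      (fun i : Fin n => (⟨_, hmemA i⟩ : ((A : Set (Q ⧸ U)) \ {1} : Set (Q ⧸ U))))
      (fun a b e => Fin.ext (Function.iterate_injOn_Iio_minimalPeriod a.2 b.2
        (congrArg Subtype.val e)))
    rw [Nat.card_fin, Nat.card_coe_set_eq, Set.ncard_diff_singleton_of_mem A.one_mem,
      ← Nat.card_coe_set_eq] at hle
    have := hp.out.two_le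
    simp only [SetLike.coe_sort_coe] at hle
    omega
  have hj0 : j = 0 := by
    by_contra h0
    have : p ≤ n := by rw [hn, hj]; exact Nat.le_self_pow h0 p
    omega
  have hfix : h y = y := by
    have := (Function.minimalPeriod_eq_one_iff_isFixedPt (f := h) (x := y)).1
      (by rw [hj, hj0, pow_zero])
    exact this
  exact QuotientGroup.eq.1 hfix.symm

/-- Burnside: an automorphism of prime order prime to `p` acting trivially modulo the Frattini
subgroup of a `p`-group is trivial. -/
theorem fixed_of_frattini {Q : Type u} [Group Q] [Finite Q] (hQ : IsPGroup p Q) (β : MulAut Q)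
    {q : ℕ} (hq : q.Prime) (hqp : q ≠ p) (hβ : β ^ q = 1)
    (h : ∀ x, x⁻¹ * β x ∈ frattini Q) : β = 1 := by
  classical
  haveI := Fintype.ofFinite Q
  let C : Subgroup Q :=
    { carrier := {x | β x = x}
      one_mem' := map_one β
      mul_mem' := fun {x y} hx hy => by
        show β (x * y) = x * y
        rw [map_mul, show β x = x from hx, show β y = y from hy]
      inv_mem' := fun {x} hx => by
        show β x⁻¹ = x⁻¹
        rw [map_inv, show β x = x from hx] }
  have hCF : C ⊔ frattini Q = ⊤ := by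
    refine eq_top_iff.2 fun x _ => ?_
    let T := {y : Q // x⁻¹ * y ∈ frattini Q}
    have hiff : ∀ y, x⁻¹ * y ∈ frattini Q ↔ x⁻¹ * β y ∈ frattini Q := fun y => by
      rw [show x⁻¹ * β y = x⁻¹ * y * (y⁻¹ * β y) by group]
      exact (Subgroup.mul_mem_cancel_right _ (h y)).symm
    let σ : Equiv.Perm T := Equiv.subtypeEquiv β.toEquiv hiff
    have hσn : ∀ n : ℕ, ∀ y : T, ((σ ^ n) y : Q) = (β ^ n) y.1 := fun n => by
      induction n with
      | zero => intro y; rfl
      | succ n ih => intro y; rw [pow_succ, Equiv.Perm.mul_apply, ih, pow_succ]; rfl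
    have hσ : σ ^ q ^ 1 = 1 := by
      refine Equiv.ext fun y => Subtype.ext ?_
      rw [hσn, pow_one, hβ]
      rfl
    have hcardT : Nat.card T = Nat.card (frattini Q) := Nat.card_congr
      { toFun := fun y => ⟨x⁻¹ * y.1, y.2⟩
        invFun := fun z => ⟨x * z.1, by rw [inv_mul_cancel_left]; exact z.2⟩
        left_inv := fun y => Subtype.ext (mul_inv_cancel_left x y.1)
        right_inv := fun z => Subtype.ext (inv_mul_cancel_left x z.1) }
    haveI : Fact q.Prime := ⟨hq⟩
    have hnd : ¬ q ∣ Fintype.card T := by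
      rw [← Nat.card_eq_fintype_card, hcardT]
      obtain ⟨n, hn⟩ := IsPGroup.iff_card.1 (hQ.to_subgroup (frattini Q))
      rw [hn]
      exact fun hd => hqp ((Nat.prime_dvd_prime_iff_eq hq hp.out).1 (hq.dvd_of_dvd_pow hd))
    obtain ⟨y, hy⟩ := Equiv.Perm.exists_fixed_point_of_prime hnd hσ
    have hyC : (y.1 : Q) ∈ C := congrArg Subtype.val hy
    have := (C ⊔ frattini Q).mul_mem (Subgroup.mem_sup_left hyC)
      (Subgroup.mem_sup_right ((frattini Q).inv_mem y.2))
    rwa [mul_inv_rev, inv_inv, mul_inv_cancel_left] at this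
  have hC := frattini_nongenerating hCF
  exact MulEquiv.ext fun x => (hC.ge (Subgroup.mem_top x) : β x = x)

/-- An essential subgroup has no `Aut_F(P)`-invariant chain with factors of order at most `p`
down to its Frattini subgroup. -/
theorem not_essential_of_chain (hS : IsPGroup p S) {P : Subgroup Ω} (hP : F.IsEssential p P)
    {n : ℕ} (W : ℕ → Subgroup P) (h0 : W 0 = frattini P) (hn : W n = ⊤)
    (hmono : ∀ i < n, W i ≤ W (i + 1))
    (hcard : ∀ i < n, Nat.card (W (i + 1)) ≤ p * Nat.card (W i))
    (hinv : ∀ g ∈ F.autGroup P, ∀ i ≤ n, ∀ x ∈ W i, g x ∈ W i) : False := by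
  have hPS := hP.1.1
  haveI := finite_of_le hPS
  have hPp : IsPGroup p P := hS.to_le hPS
  have hle : ∀ i ≤ n, frattini P ≤ W i := fun i => by
    induction i with
    | zero => exact fun _ => h0.ge
    | succ i ih => exact fun hi => (ih (by omega)).trans (hmono i (by omega))
  have hWn : ∀ i ≤ n, (W i).Normal := fun i hi => ⟨fun c hc g => by
    have h1 : g * c * g⁻¹ * c⁻¹ ∈ W i := hle i hi (Grp.pGroup_commutator_le_frattini hPp
      (Subgroup.commutator_mem_commutator (Subgroup.mem_top g) (Subgroup.mem_top c)))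
    simpa using (W i).mul_mem h1 hc⟩
  let K : Subgroup (F.autGroup P) :=
    { carrier := {g | ∀ i < n, ∀ x ∈ W (i + 1), x⁻¹ * (g : MulAut P) x ∈ W i}
      one_mem' := fun i _ x _ => by simp
      mul_mem' := fun {a b} ha hb i hi x hx => by
        have e : x⁻¹ * ((a * b : F.autGroup P) : MulAut P) x = (x⁻¹ * (b : MulAut P) x) *
            (((b : MulAut P) x)⁻¹ * (a : MulAut P) ((b : MulAut P) x)) := by simp [mul_assoc]
        rw [e]
        exact mul_mem (hb i hi x hx) (ha i hi _ (hinv _ b.2 _ hi x hx))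
      inv_mem' := fun {a} ha i hi x hx => by
        have e : x⁻¹ * ((a⁻¹ : F.autGroup P) : MulAut P) x =
            ((((a⁻¹ : F.autGroup P) : MulAut P) x)⁻¹ *
              (a : MulAut P) (((a⁻¹ : F.autGroup P) : MulAut P) x))⁻¹ := by simp
        rw [e]
        exact inv_mem (ha i hi _ (hinv _ (a⁻¹).2 _ hi x hx)) }
  have hKn : K.Normal := by
    refine ⟨fun c hc b i hi x hx => ?_⟩
    have e : x⁻¹ * ((b * c * b⁻¹ : F.autGroup P) : MulAut P) x = (b : MulAut P)
        ((((b⁻¹ : F.autGroup P) : MulAut P) x)⁻¹ *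
          (c : MulAut P) (((b⁻¹ : F.autGroup P) : MulAut P) x)) := by simp
    rw [e]
    exact hinv _ b.2 _ hi.le _ (hc i hi _ (hinv _ (b⁻¹).2 _ hi x hx))
  refine not_essential_of_normal_pgroup hS hP K hKn ?_ fun g k hg i hi x hx => ?_
  · intro α
    obtain ⟨k, m, hm, hord⟩ := Nat.exists_eq_pow_mul_and_not_dvd (orderOf_pos α).ne' p hp.out.ne_one
    refine ⟨k, ?_⟩
    by_contra hne
    have hm1 : m ≠ 1 := fun e => hne (by
      rw [e, mul_one] at hord
      rw [← hord, pow_orderOf_eq_one])
    obtain ⟨q, hq, d, rfl⟩ := Nat.exists_prime_and_dvd hm1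
    have hqp : q ≠ p := fun e => hm (e ▸ dvd_mul_right q d)
    set β := α ^ (p ^ k * d) with hβ
    have hβq : β ^ q = 1 := by
      rw [hβ, ← pow_mul, mul_assoc, mul_comm d q, ← hord, pow_orderOf_eq_one]
    have hcop : q.Coprime p := (Nat.coprime_primes hq hp.out).2 hqp
    set B : MulAut P := ((β : F.autGroup P) : MulAut P) with hB
    have hBq : B ^ q = 1 := by
      rw [hB, ← SubgroupClass.coe_pow, ← SubgroupClass.coe_pow, hβq]; rfl
    -- `β` acts trivially modulo the Frattini subgroup
    have hfix : ∀ i ≤ n, ∀ x ∈ W i, x⁻¹ * B x ∈ W 0 := by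
      intro i
      induction i with
      | zero => exact fun _ x hx =>
          (W 0).mul_mem ((W 0).inv_mem hx) (hinv _ (β : F.autGroup P).2 0 (Nat.zero_le n) x hx)
      | succ i ih =>
        intro hi x hx
        haveI := hWn 0 (Nat.zero_le n)
        have hw : x⁻¹ * B x ∈ W i := β.2 i (by omega) x hx
        have hmk : ∀ y ∈ W i, QuotientGroup.mk' (W 0) (B y) = QuotientGroup.mk' (W 0) y :=
          fun y hy => (QuotientGroup.eq.2 (ih (by omega) y hy)).symm
        obtain ⟨w, hwdef⟩ : ∃ w, w = x⁻¹ * B x := ⟨_, rfl⟩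
        have hBx : B x = x * w := by rw [hwdef, mul_inv_cancel_left]
        rw [← hwdef] at hw ⊢
        have hpow : ∀ m : ℕ, QuotientGroup.mk' (W 0) ((B ^ m) x) =
            QuotientGroup.mk' (W 0) (x * w ^ m) := by
          intro m
          induction m with
          | zero => simp
          | succ m ihm =>
            obtain ⟨z, hz⟩ : ∃ z, z = ((B ^ m) x)⁻¹ * (x * w ^ m) := ⟨_, rfl⟩
            have hz0 : z ∈ W 0 := by rw [hz]; exact QuotientGroup.eq.1 ihm
            have e1 : (B ^ m) x = x * w ^ m * z⁻¹ := by rw [hz]; group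
            have hz1 : QuotientGroup.mk' (W 0) (B z) = 1 := (QuotientGroup.eq_one_iff _).2
              (hinv _ (β : F.autGroup P).2 0 (Nat.zero_le n) _ hz0)
            rw [pow_succ', MulAut.mul_apply, e1, map_mul B, map_mul B, map_pow B, map_inv B, hBx]
            simp only [map_mul, map_pow, map_inv, hz1, inv_one, mul_one, hmk _ hw, pow_succ',
              mul_assoc]
        have h1 := hpow q
        rw [hBq, MulAut.one_apply, map_mul, left_eq_mul, map_pow] at h1
        obtain ⟨j, hj⟩ := hPp w
        have h2 : QuotientGroup.mk' (W 0) w ^ p ^ j = 1 := by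
          rw [← map_pow, hj, map_one]
        exact (QuotientGroup.eq_one_iff _).1 (orderOf_eq_one_iff.1
          (Nat.eq_one_of_dvd_coprimes (Nat.Coprime.pow_right j hcop)
            (orderOf_dvd_of_pow_eq_one h1) (orderOf_dvd_of_pow_eq_one h2)))
    have hB1 : B = 1 := fixed_of_frattini hPp B hq hqp hBq fun x => by
      rw [← h0]
      exact hfix n le_rfl x (hn.ge (Subgroup.mem_top x))
    have hβ1 : β = 1 := Subtype.ext (Subtype.ext hB1)
    rw [hβ] at hβ1
    have hd : orderOf α ∣ p ^ k * d := orderOf_dvd_of_pow_eq_one hβ1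
    rw [hord, ← mul_assoc, mul_comm (p ^ k) q, mul_assoc] at hd
    have hpd : 0 < p ^ k * d := by
      refine Nat.pos_of_ne_zero fun e => ?_
      have := orderOf_pos α
      rw [hord, ← mul_assoc, mul_comm (p ^ k) q, mul_assoc, e, mul_zero] at this
      omega
    have := Nat.le_of_dvd hpd hd
    nlinarith [hq.two_le]
  · haveI := hWn i hi.le
    exact factor_fix (hmono i hi) (hcard i hi) (g : MulAut P) (k := k)
      (by rw [← SubgroupClass.coe_pow, hg]; rfl) (fun y hy => hinv _ g.2 i hi.le y hy)
      (fun y hy => hinv _ g.2 (i + 1) hi y hy) hx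

/-- The Frattini subgroup of an essential subgroup has index more than `p`. -/
theorem lt_frattini_index_of_essential (hS : IsPGroup p S) {P : Subgroup Ω}
    (hP : F.IsEssential p P) : p < (frattini P).index := by
  haveI := finite_of_le hP.1.1
  by_contra h
  refine not_essential_of_chain hS hP (n := 1) (fun i => if i = 0 then frattini P else ⊤) rfl rfl
    (fun i hi => ?_) (fun i hi => ?_) (fun g _ i hi x hx => ?_)
  · simp
  · obtain rfl : i = 0 := by omega
    show Nat.card (⊤ : Subgroup P) ≤ p * Nat.card (frattini P)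
    rw [Subgroup.card_top, ← (frattini P).index_mul_card]
    exact Nat.mul_le_mul_right _ (not_lt.1 h)
  · split_ifs at hx ⊢ with hi0
    · 
      have := (inferInstance : (frattini P).Characteristic).fixed g
      exact this.ge hx
    · trivial

/-- An essential subgroup has no invariant subgroup of index at most `p` and of order at most `p`
times that of the Frattini subgroup, containing it. -/
theorem not_essential_of_between (hS : IsPGroup p S) {P : Subgroup Ω} (hP : F.IsEssential p P)
    {U : Subgroup P} (hle : frattini P ≤ U) (hcU : Nat.card U ≤ p * Nat.card (frattini P))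
    (hidx : U.index ≤ p) (hinv : ∀ g ∈ F.autGroup P, ∀ x ∈ U, g x ∈ U) : False := by
  haveI := finite_of_le hP.1.1
  refine not_essential_of_chain hS hP (n := 2)
    (fun i => if i = 0 then frattini P else if i = 1 then U else ⊤) rfl rfl
    (fun i hi => ?_) (fun i hi => ?_) (fun g hg i hi x hx => ?_)
  · interval_cases i
    · simpa using hle
    · simp
  · interval_cases i
    · simpa using hcU
    · simp only [one_ne_zero, if_false, if_true, Nat.reduceAdd, OfNat.ofNat_ne_zero,
        show (2 : ℕ) ≠ 1 by omega, Subgroup.card_top]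
      rw [← U.index_mul_card]
      exact Nat.mul_le_mul_right _ hidx
  · interval_cases i
    · simp only [if_true] at hx ⊢
      exact ((inferInstance : (frattini P).Characteristic).fixed g).ge hx
    · simp only [one_ne_zero, if_false, if_true] at hx ⊢
      exact hinv g hg x hx
    · trivial

end Cfsg.Agent.Fus

namespace Cfsg.Agent.Fus

variable {Ω : Type u} [Group Ω] {S : Subgroup Ω} [Finite S] {p : ℕ} [hp : Fact p.Prime]
  {F : FusionSystem S}

/-- An essential subgroup of order `p ^ 2` has exponent `p` and `Aut_F` contains `SL(2, p)`. -/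
theorem essential_card_sq (hS : IsPGroup p S) {H : Subgroup Ω} (hH : F.IsEssential p H)
    (hcard : Nat.card H = p ^ 2) : Cfsg.IsElementaryAbelian p H ∧ ∃ K : Subgroup ↥(F.autGroup H),
      Nonempty (↥K ≃* Matrix.SpecialLinearGroup (Fin 2) (ZMod p)) := by
  haveI := finite_of_le hH.1.1
  have hc : ∀ x y : H, x * y = y * x := IsPGroup.commutative_of_card_eq_prime_sq hcard
  have hexp : ∀ x : H, x ^ p = 1 := by
    intro x
    by_contra hx
    have hox : orderOf (x ^ p) = p := by
      refine orderOf_eq_prime ?_ hx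
      rw [← pow_mul, ← sq, ← hcard, pow_card_eq_one']
    have h1 : p ∣ Nat.card (frattini H) := by
      rw [← hox]
      exact (frattini H).orderOf_dvd_natCard (Grp.pGroup_pow_mem_frattini (hS.to_le hH.1.1) x)
    have h2 := lt_frattini_index_of_essential hS hH
    have h3 : (frattini H).index * Nat.card (frattini H) = p ^ 2 := by
      rw [Subgroup.index_mul_card, hcard]
    have h4 := Nat.le_of_dvd Nat.card_pos h1
    nlinarith [hp.out.two_le]
  refine ⟨⟨⟨⟨hc⟩⟩, fun a ha => congrArg Subtype.val (hexp ⟨a, ha⟩)⟩, ?_⟩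
  obtain ⟨a, ha, hap, g, hg, hga⟩ := exists_aut_of_essential_comm hS hH
    fun x hx y hy => congrArg Subtype.val (hc ⟨x, hx⟩ ⟨y, hy⟩)
  exact RankTwoAut.exists_sl2 hc hexp hcard _ ha hg hap hga

end Cfsg.Agent.Fus
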