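import Mathlib
import Cfsg.Agent.Lib.Fus.EssentialSmall

/-!
Abelian essential subgroups of rank at most two are homocyclic, and elementary for `p ≥ 5`.
-/

set_option autoImplicit false
set_option linter.unusedSectionVars false
set_option linter.style.haveILetI false

universe u

namespace Cfsg.Agent.Fus

open Subgroup

variable {Ω : Type u} [Group Ω] {S : Subgroup Ω} [Finite S] {p : ℕ} [hp : Fact p.Prime]
  {F : FusionSystem S}

/-- An automorphism in `Aut_F(P)` acting trivially modulo the Frattini subgroup of an essential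
subgroup is inner. -/
theorem mem_inn_of_frattini_stab (hS : IsPGroup p S) {P : Subgroup Ω} (hP : F.IsEssential p P)
    {a : MulAut P} (ha : a ∈ F.autGroup P) (h : ∀ y, y⁻¹ * a y ∈ frattini P) : a ∈ Inn P := by
  haveI := finite_of_le hP.1.1
  have hPp : IsPGroup p P := hS.to_le hP.1.1
  have hinv : ∀ g : MulAut P, ∀ y ∈ frattini P, g y ∈ frattini P := fun g y hy =>
    ((inferInstance : (frattini P).Characteristic).fixed g).ge hy
  let K : Subgroup (F.autGroup P) :=
    { carrier := {g | ∀ y, y⁻¹ * (g : MulAut P) y ∈ frattini P}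
      one_mem' := fun y => by simp
      mul_mem' := fun {a b} ha hb y => by
        have e : y⁻¹ * ((a * b : F.autGroup P) : MulAut P) y = (y⁻¹ * (b : MulAut P) y) *
            (((b : MulAut P) y)⁻¹ * (a : MulAut P) ((b : MulAut P) y)) := by simp [mul_assoc]
        rw [e]; exact mul_mem (hb y) (ha _)
      inv_mem' := fun {a} ha y => by
        have e : y⁻¹ * ((a⁻¹ : F.autGroup P) : MulAut P) y =
            ((((a⁻¹ : F.autGroup P) : MulAut P) y)⁻¹ *
              (a : MulAut P) (((a⁻¹ : F.autGroup P) : MulAut P) y))⁻¹ := by simp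
        rw [e]; exact inv_mem (ha _) }
  have hKn : K.Normal := ⟨fun c hc b y => by
    have e : y⁻¹ * ((b * c * b⁻¹ : F.autGroup P) : MulAut P) y = (b : MulAut P)
        ((((b⁻¹ : F.autGroup P) : MulAut P) y)⁻¹ *
          (c : MulAut P) (((b⁻¹ : F.autGroup P) : MulAut P) y)) := by simp
    rw [e]; exact hinv _ _ (hc _)⟩
  have hKp : IsPGroup p K := by
    intro α
    obtain ⟨k, m, hm, hord⟩ := Nat.exists_eq_pow_mul_and_not_dvd (orderOf_pos α).ne' p hp.out.ne_one
    refine ⟨k, ?_⟩
    by_contra hne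
    have hm1 : m ≠ 1 := fun e => hne (by
      rw [e, mul_one] at hord
      rw [← hord, pow_orderOf_eq_one])
    obtain ⟨q, hq, d, rfl⟩ := Nat.exists_prime_and_dvd hm1
    have hqp : q ≠ p := fun e => hm (e ▸ dvd_mul_right q d)
    have hord' : orderOf α = q * (p ^ k * d) := by rw [hord]; ring
    have hβ : (α ^ (p ^ k * d)) ^ q = 1 := by
      rw [← pow_mul, mul_comm _ q, ← hord', pow_orderOf_eq_one]
    obtain ⟨β, hβdef⟩ : ∃ β : K, β = α ^ (p ^ k * d) := ⟨_, rfl⟩
    rw [← hβdef] at hβ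
    have h1 := fixed_of_frattini hPp ((β : F.autGroup P) : MulAut P) hq hqp
      (by rw [← SubgroupClass.coe_pow, ← SubgroupClass.coe_pow, hβ]; rfl) β.2
    have hβ1 : β = 1 := Subtype.ext (Subtype.ext h1)
    rw [hβdef] at hβ1
    have hd := orderOf_dvd_of_pow_eq_one hβ1
    rw [hord'] at hd
    have hpos : 0 < p ^ k * d := by
      refine Nat.pos_of_ne_zero fun e => ?_
      have := orderOf_pos α
      rw [hord', e, mul_zero] at this
      omega
    have := Nat.le_of_dvd hpos hd
    nlinarith [hq.two_le]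
  rw [← (radical_of_essential hS hP).2]
  exact ⟨⟨a, ha⟩, Grp.le_pCore hKn hKp (show (⟨a, ha⟩ : F.autGroup P) ∈ K from h), rfl⟩

section RankTwo

variable {Q : Type u} [CommGroup Q] [Finite Q] {k : ℕ}

theorem homocyclic_of_data (hQ : IsPGroup p Q) (hidx : (frattini Q).index = p ^ 2)
    (hexp : ∀ x : Q, x ^ p ^ k = 1)
    (hout : ∀ x : Q, x ∉ frattini Q → orderOf x = p ^ k) :
    Nonempty (Q ≃* Multiplicative (ZMod (p ^ k) × ZMod (p ^ k))) := by
  have hpp : p.Prime := hp.out
  set Φ := frattini Q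
  haveI : NeZero (p ^ k) := ⟨(pow_pos hpp.pos k).ne'⟩
  have hne : Φ ≠ ⊤ := fun e => by
    rw [e, Subgroup.index_top] at hidx
    exact absurd hidx.symm (Nat.one_lt_pow two_ne_zero hpp.one_lt).ne'
  obtain ⟨x, hx⟩ : ∃ x, x ∉ Φ := by
    by_contra h
    push Not at h
    exact hne (eq_top_iff.2 fun a _ => h a)
  -- the order of the quotient elements
  have hpowΦ : ∀ z : Q, z ^ p ∈ Φ := Grp.pGroup_pow_mem_frattini hQ
  have hz : ∀ (U : Subgroup Q) (z : Q), Φ ≤ U → z ∉ U → ∀ j : ℕ, z ^ j ∈ U → p ∣ j := by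
    intro U z hU hzU j hj
    by_contra hd
    obtain ⟨a, b, hab⟩ : ∃ a b : ℤ, (p : ℤ) * a + (j : ℤ) * b = 1 := by
      have hcop : Int.gcd (p : ℤ) (j : ℤ) = 1 := by
        rw [Int.gcd_natCast_natCast]
        exact (hpp.coprime_iff_not_dvd.2 hd)
      exact ⟨_, _, by rw [← Int.gcd_eq_gcd_ab, hcop]; rfl⟩
    refine hzU ?_
    rw [← zpow_one z, ← hab, zpow_add, zpow_mul, zpow_mul, zpow_natCast, zpow_natCast]
    exact mul_mem (zpow_mem (hU (hpowΦ z)) a) (zpow_mem hj b)
  obtain ⟨U, hUdef⟩ : ∃ U, U = Φ ⊔ zpowers x := ⟨_, rfl⟩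
  have hxU : x ∈ U := hUdef ▸ mem_sup_right (mem_zpowers x)
  have hΦU : Φ ≤ U := hUdef ▸ le_sup_left
  have hmem : ∀ w ∈ U, ∃ f ∈ Φ, ∃ i : ℕ, w = f * x ^ i := by
    intro w hw
    rw [hUdef] at hw
    obtain ⟨f, hf, g, hg, rfl⟩ := Subgroup.mem_sup.1 hw
    obtain ⟨i, rfl⟩ := (Submonoid.mem_powers_iff _ _).1 ((isOfFinOrder_of_finite x).mem_powers_iff_mem_zpowers.2 hg)
    exact ⟨f, hf, i, rfl⟩
  obtain ⟨y, hy⟩ : ∃ y, y ∉ U := by
    by_contra h
    push Not at h
    have hx' : (QuotientGroup.mk' Φ x) ^ p = 1 := by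
      rw [← map_pow]; exact (QuotientGroup.eq_one_iff _).2 (hpowΦ x)
    have htop : zpowers (QuotientGroup.mk' Φ x) = ⊤ := eq_top_iff.2 fun z _ => by
      obtain ⟨w, rfl⟩ := QuotientGroup.mk'_surjective Φ z
      obtain ⟨f, hf, i, rfl⟩ := hmem w (h w)
      refine ⟨i, ?_⟩
      show QuotientGroup.mk' Φ x ^ (i : ℤ) = _
      rw [zpow_natCast, map_mul, map_pow, show QuotientGroup.mk' Φ f = 1 from
        (QuotientGroup.eq_one_iff _).2 hf, one_mul]
    have hc := Nat.card_zpowers (QuotientGroup.mk' Φ x)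
    rw [htop, Subgroup.card_top, ← Subgroup.index_eq_card, hidx] at hc
    have := Nat.le_of_dvd hpp.pos (orderOf_dvd_of_pow_eq_one hx')
    rw [← hc] at this
    nlinarith [hpp.two_le]
  have hsup : U ⊔ zpowers y = ⊤ := by
    obtain ⟨i, -, hi⟩ := (Nat.dvd_prime_pow hpp).1 (hidx ▸ Subgroup.index_dvd_of_le hΦU)
    obtain ⟨j, -, hj⟩ := (Nat.dvd_prime_pow hpp).1
      (hidx ▸ Subgroup.index_dvd_of_le (hΦU.trans (le_sup_left : U ≤ U ⊔ zpowers y)))
    have hlt1 : U.index < Φ.index := Subgroup.index_strictAnti (lt_of_le_of_ne hΦU fun e =>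
      hx (e ▸ hxU))
    have hlt2 : (U ⊔ zpowers y).index < U.index := Subgroup.index_strictAnti
      (left_lt_sup.2 fun h => hy (h (mem_zpowers y)))
    rw [hi, hidx, Nat.pow_lt_pow_iff_right hpp.one_lt] at hlt1
    rw [hi, hj, Nat.pow_lt_pow_iff_right hpp.one_lt] at hlt2
    rw [← Subgroup.index_eq_one, hj, show j = 0 by omega, pow_zero]
  -- independence modulo the Frattini subgroup
  have hindep : ∀ i j : ℕ, x ^ i * y ^ j ∈ Φ → p ∣ i ∧ p ∣ j := by
    intro i j h
    have hyU : y ^ j ∈ U := by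
      have := U.mul_mem (U.inv_mem (U.pow_mem hxU i)) (hΦU h)
      rwa [inv_mul_cancel_left] at this
    have hj := hz U y hΦU hy j hyU
    refine ⟨?_, hj⟩
    obtain ⟨c, rfl⟩ := hj
    refine hz Φ x le_rfl hx i ?_
    have hyc : y ^ (p * c) ∈ Φ := by rw [pow_mul]; exact pow_mem (hpowΦ y) c
    have := Φ.mul_mem h (Φ.inv_mem hyc)
    rwa [mul_inv_cancel_right] at this
  have hpw : ∀ (z : Q) (c d : ZMod (p ^ k)), z ^ (c + d).val = z ^ c.val * z ^ d.val := fun z c d => by
    rw [← pow_add, ZMod.val_add, ← pow_eq_pow_mod (c.val + d.val) (hexp z)]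
  let f : Multiplicative (ZMod (p ^ k) × ZMod (p ^ k)) →* Q :=
    { toFun := fun v => x ^ v.toAdd.1.val * y ^ v.toAdd.2.val
      map_one' := by simp
      map_mul' := fun v w => by
        simp only [toAdd_mul, Prod.fst_add, Prod.snd_add, hpw]
        rw [mul_mul_mul_comm] }
  have hinj : Function.Injective f := by
    refine (injective_iff_map_eq_one f).2 fun v hv => ?_
    by_contra hne'
    set i := v.toAdd.1.val with hi
    set j := v.toAdd.2.val with hj
    have hij : i ≠ 0 ∨ j ≠ 0 := by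
      by_contra h
      push Not at h
      exact hne' (Multiplicative.toAdd.injective (Prod.ext ((ZMod.val_eq_zero _).1 h.1)
        ((ZMod.val_eq_zero _).1 h.2)))
    have hv : x ^ i * y ^ j = 1 := hv
    have hg0 : i.gcd j ≠ 0 := by
      intro e; rcases hij with h | h
      · exact h (Nat.gcd_eq_zero_iff.1 e).1
      · exact h (Nat.gcd_eq_zero_iff.1 e).2
    obtain ⟨m, r, hr, hg⟩ := Nat.exists_eq_pow_mul_and_not_dvd hg0 p hpp.ne_one
    obtain ⟨i', hi'⟩ : p ^ m ∣ i := (dvd_mul_right _ r).trans (hg ▸ Nat.gcd_dvd_left i j)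
    obtain ⟨j', hj'⟩ : p ^ m ∣ j := (dvd_mul_right _ r).trans (hg ▸ Nat.gcd_dvd_right i j)
    have hmk : m < k := by
      by_contra h
      have hle : p ^ k ≤ p ^ m := Nat.pow_le_pow_right hpp.pos (not_lt.1 h)
      rcases hij with h | h
      · have := Nat.le_of_dvd (Nat.pos_of_ne_zero h) ⟨i', hi'⟩
        have := ZMod.val_lt v.toAdd.1
        omega
      · have := Nat.le_of_dvd (Nat.pos_of_ne_zero h) ⟨j', hj'⟩
        have := ZMod.val_lt v.toAdd.2
        omega
    by_cases hw : x ^ i' * y ^ j' ∈ Φ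
    · obtain ⟨hpi, hpj⟩ := hindep _ _ hw
      refine hr ?_
      have h1 : p ^ m * p ∣ i.gcd j :=
        Nat.dvd_gcd (hi' ▸ mul_dvd_mul_left _ hpi) (hj' ▸ mul_dvd_mul_left _ hpj)
      rw [hg] at h1
      exact (Nat.mul_dvd_mul_iff_left (pow_pos hpp.pos m)).1 h1
    · have h1 : (x ^ i' * y ^ j') ^ p ^ m = 1 := by
        rw [mul_pow, ← pow_mul, ← pow_mul, mul_comm i', mul_comm j', ← hi', ← hj', hv]
      have := orderOf_dvd_of_pow_eq_one h1
      rw [hout _ hw] at this
      have := (Nat.pow_dvd_pow_iff_le_right hpp.one_lt).1 this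
      omega
  have hsurj : Function.Surjective f := by
    have hgen : f.range ⊔ Φ = ⊤ := by
      have hxr : ∀ z : Q, z ∈ zpowers x ∨ z ∈ zpowers y → z ∈ f.range := by
        have hfx : f (Multiplicative.ofAdd ((1, 0) : ZMod (p ^ k) × ZMod (p ^ k))) = x := by
          show x ^ (1 : ZMod (p ^ k)).val * y ^ (0 : ZMod (p ^ k)).val = x
          rw [ZMod.val_zero, pow_zero, mul_one, ZMod.val_one'' (fun e => ?_), pow_one]
          have := hexp x
          rw [e, pow_one] at this
          exact hx (this ▸ one_mem _)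
        have hfy : f (Multiplicative.ofAdd ((0, 1) : ZMod (p ^ k) × ZMod (p ^ k))) = y := by
          show x ^ (0 : ZMod (p ^ k)).val * y ^ (1 : ZMod (p ^ k)).val = y
          rw [ZMod.val_zero, pow_zero, one_mul, ZMod.val_one'' (fun e => ?_), pow_one]
          have := hexp x
          rw [e, pow_one] at this
          exact hx (this ▸ one_mem _)
        rintro z (hz | hz)
        · exact (zpowers_le.2 ⟨_, hfx⟩ : zpowers x ≤ f.range) hz
        · exact (zpowers_le.2 ⟨_, hfy⟩ : zpowers y ≤ f.range) hz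
      refine eq_top_iff.2 (hsup ▸ sup_le (hUdef ▸ sup_le le_sup_right ?_) ?_)
      · exact fun z hz => mem_sup_left (hxr z (Or.inl hz))
      · exact fun z hz => mem_sup_left (hxr z (Or.inr hz))
    intro z
    have := frattini_nongenerating hgen
    exact (this.ge (mem_top z) :)
  exact ⟨(MulEquiv.ofBijective f ⟨hinj, hsurj⟩).symm⟩

/-- For `p ≥ 5` an element of order `p` acts trivially on the Frattini quotient of a homocyclic
group of rank two and exponent at least `p ^ 2`. -/
theorem frattini_stab_of_five (h5 : 5 ≤ p) (hQ : IsPGroup p Q) (hcard : (frattini Q).index ≤ p ^ 2)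
    (hom : ∀ x : Q, x ^ p = 1 → x ∈ frattini Q) (hpow : ∀ x ∈ frattini Q, ∃ z : Q, z ^ p = x)
    (a : MulAut Q) (ha : a ^ p = 1) : ∀ y, y⁻¹ * a y ∈ frattini Q := by
  classical
  have hpp : p.Prime := hp.out
  set Φ := frattini Q with hΦ
  have hΦinv : ∀ y ∈ Φ, a y ∈ Φ := fun y hy =>
    ((inferInstance : Φ.Characteristic).fixed a).ge hy
  -- the second iterate lands in the Frattini subgroup
  let D : Q →* Q := MonoidHom.mk' (fun y => y⁻¹ * a y) fun u v => by
    rw [map_mul, mul_inv, mul_mul_mul_comm]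
  let L : Subgroup Q := Φ.comap D
  have hΦL : Φ ≤ L := fun y hy => Φ.mul_mem (Φ.inv_mem hy) (hΦinv y hy)
  have hD2 : ∀ y, D (D y) ∈ Φ := by
    by_cases hLtop : L = ⊤
    · intro y
      exact (hLtop.ge (mem_top (D y)) : D y ∈ L)
    intro y
    haveI := Fintype.ofFinite (Q ⧸ Φ)
    let h : Q ⧸ Φ →* Q ⧸ Φ := QuotientGroup.map Φ Φ a.toMonoidHom hΦinv
    have hlt : 1 < Φ.index := by
      exact Subgroup.one_lt_index_of_ne_top fun e => hLtop (top_le_iff.1 (e ▸ hΦL))
    have hLidx : L.index ≤ p := by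
      by_cases hLe : L = Φ
      swap
      · have hlt' : L.index < Φ.index := Subgroup.index_strictAnti
          (lt_of_le_of_ne hΦL (Ne.symm hLe))
        obtain ⟨i, hi⟩ := hQ.index L
        rw [hi]
        rw [hi] at hlt'
        have := (Nat.pow_lt_pow_iff_right hpp.one_lt).1 (lt_of_lt_of_le hlt' hcard)
        exact (Nat.pow_le_pow_right hpp.pos (show i ≤ 1 by omega)).trans (pow_one p).le
      exfalso
      let σ : Equiv.Perm (Q ⧸ Φ) :=
        { toFun := h
          invFun := QuotientGroup.map Φ Φ a⁻¹.toMonoidHom fun z hz =>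
            ((inferInstance : Φ.Characteristic).fixed a⁻¹).ge hz
          left_inv := fun z => by
            obtain ⟨w, rfl⟩ := QuotientGroup.mk_surjective z
            exact congrArg QuotientGroup.mk (MulAut.inv_apply_self Q a w)
          right_inv := fun z => by
            obtain ⟨w, rfl⟩ := QuotientGroup.mk_surjective z
            exact congrArg QuotientGroup.mk (MulAut.apply_inv_self Q a w) }
      have hσ : σ ^ p ^ 1 = 1 := by
        refine Equiv.ext fun z => ?_
        obtain ⟨w, rfl⟩ := QuotientGroup.mk_surjective z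
        have hn : ∀ n : ℕ, (σ ^ n) (QuotientGroup.mk w) = QuotientGroup.mk ((a ^ n) w) := fun n => by
          induction n with
          | zero => rfl
          | succ n ih => rw [pow_succ', Equiv.Perm.mul_apply, ih, pow_succ']; rfl
        rw [hn, pow_one, ha]; rfl
      have hd : p ∣ Fintype.card (Q ⧸ Φ) := by
        rw [← Nat.card_eq_fintype_card, ← Subgroup.index_eq_card]
        obtain ⟨i, hi⟩ := hQ.index Φ
        rw [hi]
        exact dvd_pow_self p fun e => by rw [hi, e, pow_zero] at hlt; omega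
      obtain ⟨z, hz, hz1⟩ := Equiv.Perm.exists_fixed_point_of_prime' hd hσ (a := 1) (map_one h)
      obtain ⟨w, rfl⟩ := QuotientGroup.mk_surjective z
      have hwL : w ∈ L := QuotientGroup.eq.1 hz.symm
      exact hz1 ((QuotientGroup.eq_one_iff w).2 (hLe.le hwL))
    have hLinv : ∀ z ∈ L, a z ∈ L := fun z hz => by
      have := hΦinv _ (show z⁻¹ * a z ∈ Φ from hz)
      rw [map_mul, map_inv] at this
      exact this
    have hmem := factor_fix (p := p) (U := L) (X := ⊤) le_top (by
      rw [Subgroup.card_top, ← L.index_mul_card]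
      exact Nat.mul_le_mul_right _ hLidx) a (k := 1) (by rw [pow_one, ha]) hLinv
      (fun z _ => mem_top _) (mem_top y)
    exact (hmem : D y ∈ L)
  intro y
  refine (?_ : D y ∈ Φ)
  -- the binomial expansion of `a ^ p`
  let A : AddMonoid.End (Additive Q) := MonoidHom.toAdditive a.toMonoidHom
  let N : AddMonoid.End (Additive Q) := MonoidHom.toAdditive D
  have hAN : A = N + 1 := AddMonoidHom.ext fun z => by
    show Additive.ofMul (a z.toMul) = Additive.ofMul (z.toMul⁻¹ * a z.toMul) + z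
    rw [← ofMul_toMul z, ← ofMul_mul, toMul_ofMul, mul_comm, mul_inv_cancel_left]
  have hAn : ∀ n : ℕ, ∀ z : Additive Q, (A ^ n) z = Additive.ofMul ((a ^ n) z.toMul) := fun n => by
    induction n with
    | zero => intro z; rfl
    | succ n ih => intro z; rw [pow_succ]; show (A ^ n) (A z) = _; rw [ih]; rfl
  let T2 : AddSubgroup (Additive Q) := (nsmulAddMonoidHom (α := Additive Q) (p ^ 2)).range
  have hT1 : ∀ z, ∃ w : Additive Q, p • w = N (N z) := fun z => by
    obtain ⟨w, hw⟩ := hpow _ (hD2 z.toMul)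
    exact ⟨Additive.ofMul w, congrArg Additive.ofMul hw⟩
  have hterm : ∀ m, 2 ≤ m → m ≤ p → p.choose m • (N ^ m) (Additive.ofMul y) ∈ T2 := by
    intro m hm2 hmp
    rcases eq_or_lt_of_le hmp with rfl | hlt
    · rw [Nat.choose_self, one_nsmul]
      obtain ⟨r, rfl⟩ : ∃ r, m = r + 4 := ⟨m - 4, by omega⟩
      obtain ⟨w, hw⟩ := hT1 (Additive.ofMul y)
      obtain ⟨w', hw'⟩ := hT1 w
      refine ⟨(N ^ r) w', ?_⟩
      rw [pow_add]
      show (r + 4) ^ 2 • (N ^ r) w' = (N ^ r) (N (N (N (N (Additive.ofMul y)))))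
      rw [← hw, map_nsmul, map_nsmul, ← hw', ← mul_nsmul, ← sq, map_nsmul]
    · obtain ⟨c, hc⟩ := hpp.dvd_choose_self (by omega) hlt
      obtain ⟨r, rfl⟩ : ∃ r, m = r + 2 := ⟨m - 2, by omega⟩
      obtain ⟨w, hw⟩ := hT1 (Additive.ofMul y)
      refine ⟨c • (N ^ r) w, ?_⟩
      rw [pow_add]
      show p ^ 2 • c • (N ^ r) w = p.choose (r + 2) • (N ^ r) (N (N (Additive.ofMul y)))
      rw [← hw, map_nsmul, hc, ← mul_nsmul', ← mul_nsmul']
      congr 1
      ring
  have hsum : (A ^ p) (Additive.ofMul y) =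
      ∑ m ∈ Finset.range (p + 1), p.choose m • (N ^ m) (Additive.ofMul y) := by
    rw [hAN, (Commute.one_right N).add_pow]
    refine (AddMonoidHom.finset_sum_apply _ _ _).trans (Finset.sum_congr rfl fun m _ => ?_)
    rw [one_pow, mul_one, ← nsmul_eq_mul']
    rfl
  rw [hAn, ha] at hsum
  obtain ⟨r, rfl⟩ : ∃ r, p = r + 1 := ⟨p - 1, by omega⟩
  rw [Finset.sum_range_succ', Finset.sum_range_succ', Nat.choose_zero_right, one_nsmul,
    pow_zero] at hsum
  have hmem : (r + 1).choose (0 + 1) • (N ^ (0 + 1)) (Additive.ofMul y) ∈ T2 := by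
    have h0 : (∑ k ∈ Finset.range r, (r + 1).choose (k + 1 + 1) •
        (N ^ (k + 1 + 1)) (Additive.ofMul y)) +
          (r + 1).choose (0 + 1) • (N ^ (0 + 1)) (Additive.ofMul y) = 0 := by
      refine (add_eq_right (b := Additive.ofMul y)).1 ?_
      exact hsum.symm
    rw [eq_neg_of_add_eq_zero_right h0]
    exact T2.neg_mem (T2.sum_mem fun m hm => hterm _ (by omega) (by
      have := Finset.mem_range.1 hm; omega))
  obtain ⟨w, hw⟩ := hmem
  rw [Nat.choose_one_right, zero_add, pow_one] at hw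
  have h1 : (D y * (w.toMul ^ (r + 1))⁻¹) ^ (r + 1) = 1 := by
    have e : w.toMul ^ (r + 1) ^ 2 = D y ^ (r + 1) := congrArg Additive.toMul hw
    rw [mul_pow, inv_pow, ← pow_mul, ← sq, e, mul_inv_cancel]
  have := Φ.mul_mem (hom _ h1) (Grp.pGroup_pow_mem_frattini hQ w.toMul)
  rwa [inv_mul_cancel_right] at this

end RankTwo

/-- An abelian essential subgroup of rank at most two. -/
theorem essential_rank_two (hS : IsPGroup p S) {H : Subgroup Ω} (hH : F.IsEssential p H)
    (hab : IsMulCommutative H) (hrk : (frattini ↥H).index ≤ p ^ 2) :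
    (Cfsg.IsElementaryAbelian p H ∧ Nat.card H = p ^ 2) ∨
      (p ≤ 3 ∧ ∃ k : ℕ, Nonempty (↥H ≃* Multiplicative (ZMod (p ^ k) × ZMod (p ^ k)))) := by
  haveI := finite_of_le hH.1.1
  have hpp : p.Prime := hp.out
  have hHp : IsPGroup p H := hS.to_le hH.1.1
  letI : CommGroup H :=
    { (inferInstance : Group H) with mul_comm := fun a b => hab.is_comm.comm a b }
  set Φ := frattini H with hΦdef
  have hidx : Φ.index = p ^ 2 := by
    obtain ⟨i, hi⟩ := hHp.index Φ
    have h1 := lt_frattini_index_of_essential hS hH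
    rw [← hΦdef, hi] at h1
    rw [hi] at hrk
    have h3 := (Nat.pow_le_pow_iff_right hpp.one_lt).1 hrk
    have h4 : 1 < i := by
      by_contra h
      exact absurd h1 (not_lt.2 ((Nat.pow_le_pow_right hpp.pos (not_lt.1 h)).trans (pow_one p).le))
    rw [hi, show i = 2 by omega]
  have hΦpow : ∀ x ∈ Φ, ∃ z : H, z ^ p = x := by
    refine fun x hx => ?_
    haveI : (powMonoidHom p : H →* H).range.Normal := Subgroup.normal_of_comm _
    have hle : Φ ≤ (powMonoidHom p : H →* H).range := Grp.frattini_le_of_elementary hpp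
      (Subgroup.commutator_le.2 fun a _ b _ => by
        rw [commutatorElement_eq_one_iff_mul_comm.2 (mul_comm a b)]
        exact one_mem _)
      (fun z => ⟨z, rfl⟩)
    exact hle hx
  obtain ⟨K, hK⟩ := hHp.exists_card_eq
  classical
  have hex : ∃ k : ℕ, ∀ x : H, x ^ p ^ k = 1 := ⟨K, fun x => by rw [← hK, pow_card_eq_one']⟩
  let k := Nat.find hex
  have hk : ∀ x : H, x ^ p ^ k = 1 := Nat.find_spec hex
  have hk0 : k ≠ 0 := by
    intro e
    have : Φ = ⊤ := eq_top_iff.2 fun x _ => by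
      have := hk x
      rw [e, pow_zero, pow_one] at this
      rw [this]; exact one_mem _
    rw [this, Subgroup.index_top] at hidx
    exact (Nat.one_lt_pow two_ne_zero hpp.one_lt).ne hidx
  have hout : ∀ x : H, x ∉ Φ → orderOf x = p ^ k := by
    intro x hx
    obtain ⟨j, hj, hox⟩ := (Nat.dvd_prime_pow hpp).1 (orderOf_dvd_of_pow_eq_one (hk x))
    by_contra hne
    have hjk : j < k := lt_of_le_of_ne hj fun e => hne (e ▸ hox)
    set U : Subgroup H := Φ ⊔ (powMonoidHom (p ^ (k - 1)) : H →* H).ker with hU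
    have hxU : x ∈ U := mem_sup_right (by
      show x ^ p ^ (k - 1) = 1
      rw [← orderOf_dvd_iff_pow_eq_one, hox]
      exact Nat.pow_dvd_pow p (by omega))
    have hUne : U ≠ ⊤ := by
      intro e
      refine Nat.find_min hex (m := k - 1) (by omega) fun z => ?_
      obtain ⟨f, hf, g, hg, rfl⟩ := Subgroup.mem_sup.1 (e.ge (mem_top z) : z ∈ U)
      obtain ⟨w, rfl⟩ := hΦpow f hf
      rw [mul_pow, ← pow_mul, ← pow_succ', show k - 1 + 1 = k by omega, hk, one_mul]
      exact hg
    obtain ⟨i, -, hi⟩ := (Nat.dvd_prime_pow hpp).1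
      (hidx ▸ Subgroup.index_dvd_of_le (le_sup_left : Φ ≤ U))
    have hlt : U.index < Φ.index :=
      Subgroup.index_strictAnti (lt_of_le_of_ne le_sup_left fun e => hx (e ▸ hxU))
    rw [hi, hidx, Nat.pow_lt_pow_iff_right hpp.one_lt] at hlt
    have hi1 : U.index = p := by
      rcases Nat.eq_zero_or_pos i with rfl | hp0
      · exact absurd (Subgroup.index_eq_one.1 (by rw [hi, pow_zero])) hUne
      · rw [hi, show i = 1 by omega, pow_one]
    refine not_essential_of_between hS hH (U := U) le_sup_left ?_ hi1.le fun g _ y hy => ?_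
    · have h := U.index_mul_card
      rw [hi1, ← Φ.index_mul_card, hidx, sq, mul_assoc] at h
      exact (Nat.eq_of_mul_eq_mul_left hpp.pos h).le
    · obtain ⟨f, hf, z, hz, rfl⟩ := Subgroup.mem_sup.1 hy
      rw [map_mul]
      refine Subgroup.mul_mem_sup (((inferInstance : Φ.Characteristic).fixed g).ge hf) ?_
      show g z ^ p ^ (k - 1) = 1
      rw [← map_pow, show z ^ p ^ (k - 1) = 1 from hz, map_one]
  by_cases hk1 : k = 1
  · left
    refine ⟨⟨hab, fun a ha => ?_⟩, ?_⟩
    · have := congrArg Subtype.val (hk ⟨a, ha⟩)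
      simpa [hk1] using this
    · have hΦ : Φ = ⊥ := by
        refine eq_bot_iff.2 fun x hx => ?_
        obtain ⟨z, rfl⟩ := hΦpow x hx
        have := hk z
        rw [hk1, pow_one] at this
        exact this
      rw [← hidx, hΦ, Subgroup.index_bot]
  right
  refine ⟨?_, k, homocyclic_of_data hHp hidx hk hout⟩
  by_contra h3
  have h5 : 5 ≤ p := by
    by_contra h
    have hp4 : p = 4 := by omega
    rw [hp4] at hpp
    norm_num at hpp
  have hom : ∀ x : H, x ^ p = 1 → x ∈ Φ := fun x hx => by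
    by_contra hxΦ
    have := orderOf_dvd_of_pow_eq_one hx
    rw [hout x hxΦ] at this
    have := (Nat.pow_dvd_pow_iff_le_right hpp.one_lt).1
      (by rwa [pow_one] : p ^ k ∣ p ^ 1)
    omega
  obtain ⟨a, haA, hap, g, hgA, hga⟩ := exists_aut_of_essential_comm hS hH
    fun x hx y hy => congrArg Subtype.val (hab.is_comm.comm (⟨x, hx⟩ : H) ⟨y, hy⟩)
  obtain ⟨y, hy⟩ := mem_inn_of_frattini_stab hS hH haA
    (frattini_stab_of_five h5 hHp hrk hom hΦpow a hap)
  refine hga ?_
  have : a = 1 := by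
    rw [← hy]
    refine MulEquiv.ext fun z => ?_
    show y * z * y⁻¹ = z
    rw [mul_comm y z, mul_inv_cancel_right]
  rw [this]
  simp

end Cfsg.Agent.Fus
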