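import Cfsg.Agent.Lib.Fus.Invariant
import Cfsg.Agent.Lib.Fus.GroupSystem

/-!
Strong invariance is equivalent to invariance.
-/

set_option autoImplicit false
set_option linter.style.haveILetI false

open scoped Classical

namespace Cfsg.Agent.Fus

open Subgroup FusionSystem

/-- A Sylow subgroup meets a normal subgroup in a Sylow subgroup of it. -/
theorem isSylowOf_inf_normal {G : Type*} [Group G] [Finite G] {p : ℕ} [Fact p.Prime] (P : Sylow p G)
    (H : Subgroup G) [H.Normal] : IsSylowOf p ((P : Subgroup G) ⊓ H) H := by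
  refine IsSylowOf.of_card_le inf_le_right (P.2.to_le inf_le_left) fun A hA hAp hle => ?_
  obtain ⟨g, -, hg⟩ := (isSylowOf_top P).exists_conj_le hAp le_top
  haveI : Finite A := inferInstance
  refine (Subgroup.eq_of_le_of_card_ge hle ?_).ge
  rw [← Subgroup.card_map_of_injective (K := A) (f := (MulAut.conj g).toMonoidHom)
    (MulAut.conj g).injective]
  refine Subgroup.card_le_of_le (le_inf hg ?_)
  rintro _ ⟨x, hx, rfl⟩
  exact Subgroup.Normal.conj_mem inferInstance x (hA hx) g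

variable {Ω : Type*} [Group Ω] {S T : Subgroup Ω} (F : FusionSystem S) (E : FusionSystem T)

/-- Strong invariance, in the function language. -/
def StrongInv : Prop :=
  ∀ (P Q : Subgroup Ω) (f u : Ω → Ω), P ≤ Q → Q ≤ T → IsMap E P f → (∀ x ∈ P, f x ∈ Q) →
    IsMap F Q u → ∃ k, IsMap E (fimg u P) k ∧ ∀ x ∈ P, k (u x) = u (f x)

/-- A map that is an element of `Aut_F(T)` after a map of `E`. -/
def Dec (P : Subgroup Ω) (f : Ω → Ω) : Prop :=
  ∃ α ∈ F.autGroup T, ∃ f₀, IsMap E P f₀ ∧ ∀ x ∈ P, f x = autFun α (f₀ x)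

variable {F E}

theorem strongInv_aut (hE : StrongInv F E) (hT : T ≤ S) {P : Subgroup Ω} {f : Ω → Ω}
    (hf : IsMap E P f) {α : MulAut T} (hα : α ∈ F.autGroup T) :
    ∃ k, IsMap E (fimg (autFun α) P) k ∧ ∀ x ∈ P, k (autFun α x) = autFun α (f x) :=
  hE P T f _ hf.source_le le_rfl hf (fun _ hx => hf.apply_mem hx) ((mem_autGroup hT).1 hα)

theorem Dec.of_isMap (_hT : T ≤ S) {P : Subgroup Ω} {f : Ω → Ω} (hf : IsMap E P f) : Dec F E P f :=
  ⟨1, one_mem _, f, hf, fun _ hx => (autFun_one (hf.apply_mem hx)).symm⟩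

theorem Dec.congr {P : Subgroup Ω} {f g : Ω → Ω} (hf : Dec F E P f) (h : ∀ x ∈ P, f x = g x) :
    Dec F E P g :=
  let ⟨α, hα, f₀, hf₀, e⟩ := hf
  ⟨α, hα, f₀, hf₀, fun x hx => (h x hx).symm.trans (e x hx)⟩

theorem Dec.res {P Q : Subgroup Ω} {f : Ω → Ω} (hf : Dec F E Q f) (h : P ≤ Q) : Dec F E P f :=
  let ⟨α, hα, f₀, hf₀, e⟩ := hf
  ⟨α, hα, f₀, hf₀.res h, fun x hx => e x (h hx)⟩

theorem Dec.comp (hE : StrongInv F E) (hT : T ≤ S) {P Q : Subgroup Ω} {f g : Ω → Ω}
    (hf : Dec F E P f) (hg : Dec F E Q g) (h : ∀ x ∈ P, f x ∈ Q) :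
    Dec F E P (fun x => g (f x)) := by
  obtain ⟨α, hα, f₀, hf₀, e⟩ := hf
  obtain ⟨β, hβ, g₀, hg₀, e'⟩ := hg
  obtain ⟨k, hk, hke⟩ := strongInv_aut hE hT hg₀ (inv_mem hα)
  have hmem : ∀ x ∈ P, f₀ x ∈ fimg (autFun α⁻¹) Q := fun x hx => by
    have h1 := apply_mem_fimg (autFun α⁻¹) (h x hx)
    rwa [e x hx, autFun_inv_apply α (hf₀.apply_mem hx)] at h1
  refine ⟨β * α, mul_mem hβ hα, _, hf₀.comp hk hmem, fun x hx => ?_⟩
  have hfx := h x hx
  have h1 := hke _ hfx
  rw [e x hx, autFun_inv_apply α (hf₀.apply_mem hx), ← e x hx] at h1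
  show g (f x) = autFun (β * α) (k (f₀ x))
  rw [h1, autFun_mul _ _ (autFun_mem _ (hg₀.apply_mem hfx)), ← autFun_mul α _ (hg₀.apply_mem hfx),
    mul_inv_cancel, autFun_one (hg₀.apply_mem hfx), e' _ hfx]

theorem Dec.exists_inv (hE : StrongInv F E) (hT : T ≤ S) {P : Subgroup Ω} {f : Ω → Ω}
    (hf : Dec F E P f) : ∃ g, Dec F E (fimg f P) g ∧ ∀ x ∈ P, g (f x) = x := by
  obtain ⟨α, hα, f₀, hf₀, e⟩ := hf
  obtain ⟨g₀, hg₀, hg1, -, -⟩ := hf₀.exists_inv
  obtain ⟨k, hk, hke⟩ := strongInv_aut hE hT hg₀ hα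
  rw [← hf₀.fimg_comp, ← fimg_congr e] at hk
  refine ⟨fun y => autFun α⁻¹ (k y), ⟨α⁻¹, inv_mem hα, k, hk, fun _ _ => rfl⟩, fun x hx => ?_⟩
  show autFun α⁻¹ (k (f x)) = x
  rw [e x hx, hke _ (apply_mem_fimg f₀ hx), hg1 x hx, autFun_inv_apply α (hf₀.source_le hx)]

variable [Finite S] {p : ℕ} [Fact p.Prime]

/-- Strong invariance implies the Frattini condition. -/
theorem dec_of_strongInv (hS : IsPGroup p S) (hF : F.IsSaturated p) (hE : StrongInv F E)
    (hT : F.StronglyClosed T) :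
    ∀ {P : Subgroup Ω} {f : Ω → Ω}, P ≤ T → IsMap F P f → Dec F E P f := by
  intro P
  induction hn : Nat.card T - Nat.card P using Nat.strong_induction_on generalizing P with
  | _ n ih =>
    intro f hPT hf
    haveI : Finite T := finite_of_le hT.1
    rcases hPT.eq_or_lt with rfl | hlt
    · have hfT : fimg f P = P := Subgroup.eq_of_le_of_card_ge
        (fimg_le fun x hx => StronglyClosed.apply_mem hT hf le_rfl hx) hf.card_fimg.ge
      obtain ⟨α, hα, hαe⟩ := hf.exists_aut hfT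
      exact ⟨α, hα, _, isMap_id E le_rfl, fun x hx => (hαe x hx).symm⟩
    -- maps on larger subgroups decompose
    have big : ∀ R : Subgroup Ω, R ≤ T → Nat.card P < Nat.card R → ∀ g, IsMap F R g →
        Dec F E R g := by
      intro R hR hcard g hg
      have := Subgroup.card_le_of_le hR
      exact ih _ (by omega) rfl hR hg
    obtain ⟨Q, hQ, hQn⟩ := exists_fullyNormalized F (hPT.trans hT.1)
    have hQT : Q ≤ T := by
      obtain ⟨u, hu, rfl⟩ := isConj_iff.1 hQ
      exact fimg_le fun x hx => StronglyClosed.apply_mem hT hu hPT hx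
    have hcardQ := isConj_card hQ
    -- a map of a conjugate onto `Q`
    have onto : ∀ R : Subgroup Ω, R ≤ T → F.IsConj P R →
        ∃ g, IsMap F R g ∧ fimg g R = Q ∧ Dec F E R g := by
      intro R hRT hR
      obtain ⟨g, hg, hgR, -⟩ := exists_map_to_fullyNormalized hS hF hQn
        (isConj_trans (isConj_symm hR) hQ)
      have hRN : R ≤ normalizerIn T R := le_normalizerIn hRT
      have hle : normalizerIn T R ≤ normalizerIn S R := inf_le_inf_right _ hT.1
      haveI : Finite ↥(normalizerIn T R) := finite_of_le (S := T) inf_le_left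
      have hlt' : R < T := lt_of_le_of_ne hRT fun e => by
        have h1 := isConj_card hR
        have h2 := card_lt_of_lt hlt
        rw [e] at h1
        omega
      have hcard : Nat.card P < Nat.card (normalizerIn T R) := by
        rw [← isConj_card hR]
        exact card_lt_of_lt (lt_normalizerIn (S := T) (hS.to_le hT.1) hlt')
      exact ⟨g, (hg.res hle).res hRN, hgR, (big _ inf_le_left hcard g (hg.res hle)).res hRN⟩
    -- automorphisms of `Q`
    have autQ : ∀ β ∈ F.autGroup Q, Dec F E Q (autFun β) := by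
      intro β hβ
      haveI := finite_of_le hQn.1
      let A : Subgroup (F.autGroup Q) := (E.autGroup Q).subgroupOf (F.autGroup Q)
      haveI hAn : A.Normal := ⟨fun a ha b => by
        rw [Subgroup.mem_subgroupOf] at ha ⊢
        obtain ⟨k, hk, hke⟩ := hE Q Q _ _ le_rfl hQT ((mem_autGroup hQT).1 ha)
          (fun x hx => autFun_mem _ hx) ((mem_autGroup hQn.1).1 b.2)
        rw [fimg_autFun] at hk
        refine (mem_autGroup hQT).2 (hk.congr fun x hx => ?_)
        have hx' : autFun (b : MulAut Q)⁻¹ x ∈ Q := autFun_mem _ hx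
        show k x = autFun ((b : MulAut Q) * (a : MulAut Q) * (b : MulAut Q)⁻¹) x
        rw [autFun_mul _ _ hx, autFun_mul _ _ hx', ← hke _ hx', ← autFun_mul _ _ hx,
          mul_inv_cancel, autFun_one hx]⟩
      obtain ⟨-, P₀, hP₀⟩ := fullyAutomized_of_fullyNormalized hS hF hQn
      have hR := isSylowOf_inf_normal P₀ A
      let β' : F.autGroup Q := ⟨β, hβ⟩
      obtain ⟨a, ha, hale⟩ := hR.exists_conj_le (hR.isPGroup.map (MulAut.conj β').toMonoidHom)
        (Subgroup.map_le_iff_le_comap.2 fun x hx => hAn.conj_mem x hx.2 β')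
      have hconj : ∀ x ∈ (P₀ : Subgroup (F.autGroup Q)) ⊓ A,
          (a * β') * x * (a * β')⁻¹ ∈ (P₀ : Subgroup (F.autGroup Q)) ⊓ A := fun x hx => by
        have := hale ⟨_, ⟨x, hx, rfl⟩, rfl⟩
        simpa [mul_assoc] using this
      have hm : IsMap F Q (autFun ((a * β' : F.autGroup Q) : MulAut Q)) :=
        (mem_autGroup hQn.1).1 (a * β').2
      obtain ⟨g, hg, hge⟩ := receptive_extend (receptive_of_fullyNormalized hS hF hQn) hm
        (fimg_autFun _) (N := normalizerIn T Q) (fun t ht => by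
          have htS : t ∈ normalizerIn S Q := ⟨hT.1 ht.1, ht.2⟩
          refine ⟨htS, ?_⟩
          have hc : Q.normalizerMonoidHom ⟨t, ht.2⟩ ∈ autInducedBy S Q :=
            mem_autInducedBy.2 ⟨t, htS.1, fun x => rfl⟩
          have hcE : Q.normalizerMonoidHom ⟨t, ht.2⟩ ∈ E.autGroup Q :=
            autInducedBy_le_autGroup E hQT (mem_autInducedBy.2 ⟨t, ht.1, fun x => rfl⟩)
          let c : F.autGroup Q := ⟨_, autInducedBy_le_autGroup F hQn.1 hc⟩
          have h0 : (a * β') * c * (a * β')⁻¹ ∈ (P₀ : Subgroup (F.autGroup Q)) :=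
            (hconj c ⟨hP₀ ▸ (hc : c ∈ (autInducedBy S Q).subgroupOf (F.autGroup Q)), hcE⟩).1
          have h1 : (a * β') * c * (a * β')⁻¹ ∈ (autInducedBy S Q).subgroupOf (F.autGroup Q) :=
            hP₀ ▸ h0
          rw [Subgroup.mem_subgroupOf] at h1
          obtain ⟨k, hk, hke⟩ := mem_autInducedBy.1 h1
          refine ⟨k, hk, fun x hx => ?_⟩
          have h2 := hke (((a * β' : F.autGroup Q) : MulAut Q) ⟨x, hx⟩)
          simp only [Subgroup.coe_mul, Subgroup.coe_inv, MulAut.mul_apply, mul_inv_rev,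
            MulAut.inv_apply_self] at h2
          have htx := (Subgroup.mem_normalizer_iff.1 ht.2 x).1 hx
          rw [show autFun ((a * β' : F.autGroup Q) : MulAut Q) (t * x * t⁻¹) =
              (((a * β' : F.autGroup Q) : MulAut Q) ⟨_, htx⟩ : Q) from autFun_coe _ ⟨_, htx⟩,
            show autFun ((a * β' : F.autGroup Q) : MulAut Q) x =
              (((a * β' : F.autGroup Q) : MulAut Q) ⟨x, hx⟩ : Q) from autFun_coe _ ⟨x, hx⟩]
          exact h2) (le_normalizerIn hQT)
      have hcard : Nat.card P < Nat.card (normalizerIn T Q) := by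
        haveI : Finite ↥(normalizerIn T Q) := finite_of_le (S := T) inf_le_left
        rw [← hcardQ]
        refine card_lt_of_lt (lt_normalizerIn (S := T) (hS.to_le hT.1) (lt_of_le_of_ne hQT
          fun e => ?_))
        have h2 := card_lt_of_lt hlt
        rw [e] at hcardQ
        omega
      have d1 : Dec F E Q (autFun ((a * β' : F.autGroup Q) : MulAut Q)) :=
        ((big _ inf_le_left hcard g hg).res (le_normalizerIn hQT)).congr hge
      have d2 : Dec F E Q (autFun ((a : MulAut Q)⁻¹)) :=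
        Dec.of_isMap hT.1 ((mem_autGroup hQT).1 (inv_mem ha))
      refine (d1.comp hE hT.1 d2 fun x hx => autFun_mem _ hx).congr fun x hx => ?_
      rw [← autFun_mul _ _ hx, Subgroup.coe_mul, inv_mul_cancel_left]
    -- the general map
    obtain ⟨g₁, hg₁, hg₁Q, d₁⟩ := onto P hPT (isConj_refl F (hPT.trans hT.1))
    have hfT : fimg f P ≤ T := fimg_le fun x hx => StronglyClosed.apply_mem hT hf hPT hx
    obtain ⟨g₂, hg₂, hg₂Q, d₂⟩ := onto _ hfT hf.isConj
    obtain ⟨i₁, hi₁, hi₁l, hi₁r, -⟩ := hg₁.exists_inv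
    rw [hg₁Q] at hi₁ hi₁r
    have hmid : IsMap F Q (fun y => g₂ (f (i₁ y))) :=
      (hi₁.comp hf fun y hy => (hi₁r y hy).1).comp hg₂ fun y hy =>
        apply_mem_fimg f (hi₁r y hy).1
    have hmidQ : fimg (fun y => g₂ (f (i₁ y))) Q = Q := by
      haveI := finite_of_le hQn.1
      exact Subgroup.eq_of_le_of_card_ge (fimg_le fun y hy => hg₂Q ▸
        apply_mem_fimg g₂ (apply_mem_fimg f (hi₁r y hy).1)) hmid.card_fimg.ge
    obtain ⟨β, hβ, hβe⟩ := hmid.exists_aut hmidQ
    obtain ⟨j₂, dj₂, hj₂⟩ := d₂.exists_inv hE hT.1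
    rw [hg₂Q] at dj₂
    refine ((d₁.comp hE hT.1 (autQ β hβ) fun x hx => hg₁Q ▸ apply_mem_fimg g₁ hx).comp hE hT.1 dj₂
      fun x hx => autFun_mem β (hg₁Q ▸ apply_mem_fimg g₁ hx)).congr fun x hx => ?_
    have h3 : g₁ x ∈ Q := hg₁Q ▸ apply_mem_fimg g₁ hx
    simp only [hβe _ h3, hi₁l x hx]
    exact hj₂ _ (apply_mem_fimg f hx)

end Cfsg.Agent.Fus
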