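import Mathlib
import Cfsg.Agent.Lib.Grp.Frattini

/-!
For odd `p`, a point fixed by a Sylow subgroup and by the normalizer of a weakly closed subgroup
generated by elements acting quadratically is fixed by the whole group.
-/

set_option autoImplicit false
set_option linter.style.haveILetI false

open scoped Classical

namespace Cfsg.Agent.Fus

variable {G V : Type*} [Group G] [Finite G] [CommGroup V] [Finite V] {p : ℕ} [Fact p.Prime]
  (ρ : G →* MulAut V)

/-- The product of the `p` translates of an element under a quadratic automorphism of `p`-th power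
one is a `p`-th power, for odd `p`. -/
theorem prod_pow_eq_pow (hp : p ≠ 2) {x : G} (hx : ∀ v, ρ x (ρ x v * v⁻¹) = ρ x v * v⁻¹)
    (u : V) (hxp : ρ (x ^ p) u = u) : ∏ i ∈ Finset.range p, ρ (x ^ i) u = u ^ p := by
  set d := ρ x u * u⁻¹ with hd
  have hxu : ρ x u = d * u := by rw [hd, inv_mul_cancel_right]
  have hi : ∀ i, ρ (x ^ i) u = d ^ i * u := by
    intro i
    induction i with
    | zero => simp
    | succ i ih =>
      rw [pow_succ', map_mul, MulAut.mul_apply, ih, map_mul, map_pow, hxu, show ρ x d = d from hx u,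
        pow_succ]
      exact (mul_assoc _ _ _).symm
  have hdp : d ^ p = 1 := by
    have := hi p
    rw [hxp] at this
    exact mul_eq_right.1 this.symm
  simp only [hi, Finset.prod_mul_distrib, Finset.prod_const, Finset.card_range]
  rw [Finset.prod_pow_eq_pow_sum (Finset.range p) (fun i => i) d, Finset.sum_range_id]
  have hodd : Odd p := (Fact.out : p.Prime).odd_of_ne_two hp
  obtain ⟨k, hk⟩ := hodd
  have e : p * (p - 1) / 2 = p * k := by
    rw [show p - 1 = 2 * k by omega, show p * (2 * k) = p * k * 2 by ring, Nat.mul_div_cancel _ two_pos]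
  rw [e, pow_mul, hdp, one_pow, one_mul]

/-- An orbit product of a `p`-group generated by quadratic elements is a `p`-th power unless the
orbit is a single point. -/
theorem exists_orbit_prod_eq_pow (hp : p ≠ 2) {H : Subgroup G} (hH : IsPGroup p H) {X : Set G}
    (hX : Subgroup.closure X = H) (hquad : ∀ x ∈ X, ∀ v, ρ x (ρ x v * v⁻¹) = ρ x v * v⁻¹)
    {w : V} (hw : ∃ h ∈ H, ρ h w ≠ w) {W : Subgroup V}
    (hW : ∀ g, ∀ v ∈ W, ρ g v ∈ W) (hwW : w ∈ W) {O : Finset V}
    (hO : ∀ v, v ∈ O ↔ ∃ h ∈ H, ρ h w = v) : ∃ u ∈ W, ∏ v ∈ O, v = u ^ p := by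
  haveI := Fintype.ofFinite V
  let St : Subgroup H :=
    { carrier := {h | ρ (h : G) w = w}
      one_mem' := show ρ ((1 : H) : G) w = w by simp
      mul_mem' := fun {a b} (ha : ρ (a : G) w = w) (hb : ρ (b : G) w = w) =>
        show ρ ((a * b : H) : G) w = w by rw [Subgroup.coe_mul, map_mul, MulAut.mul_apply, hb, ha]
      inv_mem' := fun {a} (ha : ρ (a : G) w = w) => show ρ ((a⁻¹ : H) : G) w = w by
        rw [Subgroup.coe_inv, map_inv]
        conv_lhs => rw [← ha]
        exact MulAut.inv_apply_self _ _ _ }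
  have hSt : St ≠ ⊤ := fun e => by
    obtain ⟨h, hh, hne⟩ := hw
    exact hne (show (⟨h, hh⟩ : H) ∈ St from e ▸ Subgroup.mem_top _)
  obtain ⟨M, hM, hStM⟩ := (eq_top_or_exists_le_coatom St).resolve_left hSt
  obtain ⟨hMn, hMi⟩ := Grp.coatom_index_eq_of_pGroup hH hM
  -- a generator outside `M`
  obtain ⟨x, hxX, hxM⟩ : ∃ x : H, (x : G) ∈ X ∧ x ∉ M := by
    by_contra hne
    push Not at hne
    refine hM.1 (eq_top_iff.2 fun h _ => ?_)
    have hle : H ≤ M.map H.subtype := by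
      conv_lhs => rw [← hX]
      refine (Subgroup.closure_le _).2 fun y hy => ?_
      have hyH : y ∈ H := hX ▸ Subgroup.subset_closure hy
      exact ⟨⟨y, hyH⟩, hne ⟨y, hyH⟩ hy, rfl⟩
    obtain ⟨m, hm, e⟩ := hle h.2
    rwa [← show m = h from Subtype.ext e]
  set A := (Finset.univ : Finset V).filter (fun v => ∃ h ∈ M, ρ ((h : H) : G) w = v) with hA
  have hcardQ : Nat.card (H ⧸ M) = p := hMi
  have hgen : ∀ q : H ⧸ M, q ∈ Subgroup.zpowers (QuotientGroup.mk x : H ⧸ M) := fun q => by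
    refine mem_zpowers_of_prime_card hcardQ ?_
    rw [Ne, QuotientGroup.eq_one_iff]
    exact hxM
  have hord : orderOf (QuotientGroup.mk x : H ⧸ M) = p := by
    rw [← hcardQ]
    exact orderOf_eq_card_of_forall_mem_zpowers hgen
  have hcover : O = (Finset.range p).biUnion fun i => A.image (ρ ((x : G) ^ i)) := by
    ext v
    simp only [hO, Finset.mem_biUnion, Finset.mem_image, Finset.mem_range, hA, Finset.mem_filter,
      Finset.mem_univ, true_and]
    constructor
    · rintro ⟨h, hh, rfl⟩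
      obtain ⟨i, hi, e⟩ : ∃ i < p, (QuotientGroup.mk x : H ⧸ M) ^ i = QuotientGroup.mk ⟨h, hh⟩ := by
        obtain ⟨i, e⟩ := Submonoid.mem_powers_iff _ _ |>.1 (mem_powers_iff_mem_zpowers.2 (hgen (QuotientGroup.mk ⟨h, hh⟩)))
        exact ⟨i % p, Nat.mod_lt _ (Fact.out : p.Prime).pos, by rw [← hord, pow_mod_orderOf, e]⟩
      rw [← QuotientGroup.mk_pow, QuotientGroup.eq] at e
      refine ⟨i, hi, _, ⟨(x ^ i)⁻¹ * ⟨h, hh⟩, e, rfl⟩, ?_⟩
      rw [← MulAut.mul_apply, ← map_mul]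
      congr 2
      push_cast
      group
    · rintro ⟨i, -, _, ⟨m, -, rfl⟩, rfl⟩
      refine ⟨(x : G) ^ i * m, H.mul_mem (H.pow_mem x.2 _) (m : H).2, ?_⟩
      rw [map_mul, MulAut.mul_apply]
  have hdisj : (↑(Finset.range p) : Set ℕ).PairwiseDisjoint fun i => A.image (ρ ((x : G) ^ i)) := by
    intro i hi j hj hij
    refine Finset.disjoint_left.2 fun v hv hv' => hij ?_
    simp only [Finset.mem_image, hA, Finset.mem_filter, Finset.mem_univ, true_and] at hv hv'
    obtain ⟨_, ⟨m, hm, rfl⟩, rfl⟩ := hv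
    obtain ⟨_, ⟨m', hm', rfl⟩, e⟩ := hv'
    rw [← MulAut.mul_apply, ← MulAut.mul_apply, ← map_mul, ← map_mul] at e
    have hst : (x ^ i * m)⁻¹ * (x ^ j * m') ∈ St := by
      show ρ (((x ^ i * m)⁻¹ * (x ^ j * m') : H) : G) w = w
      push_cast
      rw [map_mul, MulAut.mul_apply, e, map_inv]
      exact MulAut.inv_apply_self _ _ _
    have h1 := hStM hst
    rw [← QuotientGroup.eq_one_iff, QuotientGroup.mk_mul, QuotientGroup.mk_inv,
      QuotientGroup.mk_mul, QuotientGroup.mk_mul, (QuotientGroup.eq_one_iff m).2 hm,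
      (QuotientGroup.eq_one_iff m').2 hm', mul_one, mul_one, QuotientGroup.mk_pow,
      QuotientGroup.mk_pow, inv_mul_eq_one] at h1
    simp only [Finset.coe_range, Set.mem_Iio] at hi hj
    exact pow_injOn_Iio_orderOf (by rw [hord]; exact hi) (by rw [hord]; exact hj) h1
  refine ⟨∏ v ∈ A, v, Subgroup.prod_mem _ fun v hv => ?_, ?_⟩
  · simp only [hA, Finset.mem_filter, Finset.mem_univ, true_and] at hv
    obtain ⟨m, -, rfl⟩ := hv
    exact hW _ _ hwW
  have hxA : ρ ((x : G) ^ p) (∏ v ∈ A, v) = ∏ v ∈ A, v := by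
    have hxpM : x ^ p ∈ M := by
      rw [← QuotientGroup.eq_one_iff (N := M), QuotientGroup.mk_pow, ← hord, pow_orderOf_eq_one]
    rw [map_prod, ← Finset.prod_image (f := fun v => v) (g := ⇑(ρ ((x : G) ^ p))) (s := A)
      (ρ _).injective.injOn]
    congr 1
    refine Finset.eq_of_subset_of_card_le (fun v hv => ?_)
      (Finset.card_image_of_injective _ (ρ _).injective).ge
    simp only [hA, Finset.mem_image, Finset.mem_filter, Finset.mem_univ, true_and] at hv ⊢
    obtain ⟨_, ⟨m, hm, rfl⟩, rfl⟩ := hv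
    exact ⟨x ^ p * m, M.mul_mem hxpM hm,
      by rw [Subgroup.coe_mul, SubgroupClass.coe_pow, map_mul, MulAut.mul_apply]⟩
  rw [hcover, Finset.prod_biUnion hdisj,
    ← prod_pow_eq_pow ρ hp (hquad _ hxX) (∏ v ∈ A, v) hxA]
  refine Finset.prod_congr rfl fun i _ => ?_
  rw [Finset.prod_image ((ρ ((x : G) ^ i)).injective.injOn), map_prod]

/-- The fixed point theorem. -/
theorem fixed_of_quadratic_gen (hp : p ≠ 2) (hV : IsPGroup p V) (T : Sylow p G) {X : Set G}
    (hXT : X ⊆ (T : Set G)) (hquad : ∀ x ∈ X, ∀ v, ρ x (ρ x v * v⁻¹) = ρ x v * v⁻¹)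
    (hclosed : ∀ g : G, ∀ x ∈ X, g * x * g⁻¹ ∈ T → g * x * g⁻¹ ∈ X) {z : V}
    (hT : ∀ t ∈ T, ρ t z = z)
    (hN : ∀ g ∈ Subgroup.normalizer (Subgroup.closure X : Set G), ρ g z = z) (g : G) :
    ρ g z = z := by
  suffices aux : ∀ (n : ℕ) (W : Subgroup V), Nat.card W = n → (∀ g, ∀ v ∈ W, ρ g v ∈ W) →
      ∀ z ∈ W, (∀ t ∈ T, ρ t z = z) →
      (∀ g ∈ Subgroup.normalizer (Subgroup.closure X : Set G), ρ g z = z) → ∀ g, ρ g z = z from
    aux _ ⊤ rfl (fun _ _ _ => Subgroup.mem_top _) z (Subgroup.mem_top _) hT hN g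
  haveI := Fintype.ofFinite V
  clear hT hN z g
  intro n
  induction n using Nat.strong_induction_on with
  | _ n IH =>
  intro W hn hW z hz hT hN
  rcases eq_or_ne W ⊥ with rfl | hWb
  · rw [Subgroup.mem_bot] at hz
    simp [hz]
  set H := Subgroup.closure X with hHdef
  have hHT : H ≤ T := (Subgroup.closure_le _).2 hXT
  have hH : IsPGroup p H := T.2.to_le hHT
  set O := (Finset.univ : Finset V).filter (fun v => ∃ g, ρ g z = v) with hO
  have hzO : z ∈ O := by
    simp only [hO, Finset.mem_filter, Finset.mem_univ, true_and]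
    exact ⟨1, by simp⟩
  have hOfix : ∀ g, ρ g (∏ v ∈ O, v) = ∏ v ∈ O, v := by
    intro g
    rw [map_prod, ← Finset.prod_image (f := fun v => v) (g := ⇑(ρ g)) (s := O) (ρ g).injective.injOn]
    congr 1
    refine Finset.eq_of_subset_of_card_le (fun v hv => ?_)
      (Finset.card_image_of_injective _ (ρ g).injective).ge
    simp only [hO, Finset.mem_image, Finset.mem_filter, Finset.mem_univ, true_and] at hv ⊢
    obtain ⟨_, ⟨k, rfl⟩, rfl⟩ := hv
    exact ⟨g * k, by rw [map_mul, MulAut.mul_apply]⟩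
  -- `z` is the only point of its orbit fixed by `H`
  have hone : ∀ v ∈ O, (∀ h ∈ H, ρ h v = v) → v = z := by
    intro v hv hfix
    simp only [hO, Finset.mem_filter, Finset.mem_univ, true_and] at hv
    obtain ⟨g, rfl⟩ := hv
    let Gz : Subgroup G :=
      { carrier := {k | ρ k z = z}
        one_mem' := show ρ 1 z = z by simp
        mul_mem' := fun {a b} (ha : ρ a z = z) (hb : ρ b z = z) =>
          show ρ (a * b) z = z by rw [map_mul, MulAut.mul_apply, hb, ha]
        inv_mem' := fun {a} (ha : ρ a z = z) => show ρ a⁻¹ z = z by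
          rw [map_inv]
          conv_lhs => rw [← ha]
          exact MulAut.inv_apply_self _ _ _ }
    have hle : H.map (MulAut.conj g⁻¹).toMonoidHom ≤ Gz := by
      rintro _ ⟨h, hh, rfl⟩
      show ρ (g⁻¹ * h * g⁻¹⁻¹) z = z
      rw [inv_inv, map_mul, map_mul, MulAut.mul_apply, MulAut.mul_apply, hfix h hh, map_inv]
      exact MulAut.inv_apply_self _ _ _
    obtain ⟨T', hT'⟩ := ((hH.map (MulAut.conj g⁻¹).toMonoidHom).comap_subtype (K := Gz) :
      IsPGroup p ((H.map (MulAut.conj g⁻¹).toMonoidHom).subgroupOf Gz)).exists_le_sylow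
    have hTG : (T : Subgroup G) ≤ Gz := fun t ht => hT t ht
    obtain ⟨k, hk⟩ := MulAction.exists_smul_eq Gz T' (T.subtype hTG)
    have hkey : ∀ h ∈ H, (k : G) * g⁻¹ * h * ((k : G) * g⁻¹)⁻¹ ∈ T := by
      intro h hh
      have h1 : k * ⟨g⁻¹ * h * g⁻¹⁻¹, hle ⟨h, hh, rfl⟩⟩ * k⁻¹ ∈
          ((T.subtype hTG : Sylow p Gz) : Subgroup Gz) := by
        rw [← hk]
        exact ⟨_, hT' (Subgroup.mem_subgroupOf.2 ⟨h, hh, rfl⟩), rfl⟩
      rw [Sylow.coe_subtype, Subgroup.mem_subgroupOf] at h1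
      rw [show (k : G) * g⁻¹ * h * ((k : G) * g⁻¹)⁻¹ = (k : G) * (g⁻¹ * h * g⁻¹⁻¹) * (k : G)⁻¹ by
        group]
      exact h1
    have hn' : (k : G) * g⁻¹ ∈ Subgroup.normalizer (H : Set G) := by
      have hle' : H.map (MulAut.conj ((k : G) * g⁻¹)).toMonoidHom ≤ H := by
        rw [hHdef, MonoidHom.map_closure]
        refine Subgroup.closure_mono ?_
        rintro _ ⟨x, hx, rfl⟩
        exact hclosed _ x hx (hkey x (Subgroup.subset_closure hx))
      have heq := Subgroup.eq_of_le_of_card_ge hle'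
        (Subgroup.card_map_of_injective (MulEquiv.injective _)).ge
      refine Subgroup.mem_normalizer_iff.2 fun h => ⟨fun hh => hle' ⟨h, hh, rfl⟩, fun hh => ?_⟩
      rw [← heq] at hh
      obtain ⟨h', hh', e⟩ := hh
      rwa [← (MulEquiv.injective _ e : h' = h)]
    have h1 := hN _ (Subgroup.inv_mem _ hn')
    rw [mul_inv_rev, inv_inv, map_mul, MulAut.mul_apply, show ρ (k : G)⁻¹ z = z from Gz.inv_mem k.2]
      at h1
    exact h1
  -- products over invariant sets without fixed points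
  have hsum : ∀ (s : Finset V), (∀ v ∈ s, v ∈ W) → (∀ h ∈ H, ∀ v ∈ s, ρ h v ∈ s) →
      (∀ v ∈ s, ∃ h ∈ H, ρ h v ≠ v) → ∃ u ∈ W, ∏ v ∈ s, v = u ^ p := by
    intro s
    induction s using Finset.strongInduction with
    | _ s ih =>
    intro hsW hinv hfree
    rcases s.eq_empty_or_nonempty with rfl | ⟨w, hw⟩
    · exact ⟨1, W.one_mem, by simp⟩
    set o := (Finset.univ : Finset V).filter (fun v => ∃ h ∈ H, ρ h w = v) with ho
    have hmem : ∀ v, v ∈ o ↔ ∃ h ∈ H, ρ h w = v := fun v => by simp [ho]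
    have hos : o ⊆ s := fun v hv => by
      obtain ⟨h, hh, rfl⟩ := (hmem v).1 hv
      exact hinv h hh w hw
    have hwo : w ∈ o := (hmem w).2 ⟨1, one_mem _, by simp⟩
    have hlt : s \ o ⊂ s := Finset.sdiff_ssubset hos ⟨w, hwo⟩
    obtain ⟨u, hu, e⟩ := exists_orbit_prod_eq_pow ρ hp hH rfl hquad (hfree w hw) hW (hsW w hw)
      hmem
    obtain ⟨u', hu', e'⟩ := ih _ hlt (fun v hv => hsW v (Finset.mem_sdiff.1 hv).1)
      (fun h hh v hv => Finset.mem_sdiff.2 ⟨hinv h hh v (Finset.mem_sdiff.1 hv).1, fun hvo => by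
        obtain ⟨k, hk, e⟩ := (hmem _).1 hvo
        refine (Finset.mem_sdiff.1 hv).2 ((hmem v).2 ⟨h⁻¹ * k, mul_mem (inv_mem hh) hk, ?_⟩)
        rw [map_mul, MulAut.mul_apply, e, map_inv]
        exact MulAut.inv_apply_self _ _ _⟩)
      fun v hv => hfree v (Finset.mem_sdiff.1 hv).1
    exact ⟨u' * u, W.mul_mem hu' hu, by rw [← Finset.prod_sdiff hos, e, e', mul_pow]⟩
  have hOW : ∀ v ∈ O, v ∈ W := fun v hv => by
    simp only [hO, Finset.mem_filter, Finset.mem_univ, true_and] at hv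
    obtain ⟨g, rfl⟩ := hv
    exact hW _ _ hz
  obtain ⟨u, hu, hue⟩ := hsum (O.erase z) (fun v hv => hOW v (Finset.mem_of_mem_erase hv))
    (fun h hh v hv => by
      rw [Finset.mem_erase] at hv ⊢
      refine ⟨fun e => hv.1 ?_, ?_⟩
      · have h1 := hT h⁻¹ ((T : Subgroup G).inv_mem (hHT hh))
        rw [← e, map_inv, MulAut.inv_apply_self, e] at h1
        exact h1
      · have hv2 := hv.2
        simp only [hO, Finset.mem_filter, Finset.mem_univ, true_and] at hv2 ⊢
        obtain ⟨g, rfl⟩ := hv2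
        exact ⟨h * g, by rw [map_mul, MulAut.mul_apply]⟩)
    fun v hv => by
      by_contra hne
      push Not at hne
      exact (Finset.mem_erase.1 hv).1 (hone v (Finset.mem_of_mem_erase hv) hne)
  have hz' : u ^ p = (∏ v ∈ O, v) * z⁻¹ := by
    rw [← hue, ← Finset.mul_prod_erase O (fun v => v) hzO]
    simp [mul_comm, mul_left_comm]
  set W' := W.map (powMonoidHom p : V →* V) with hW'
  have hW'lt : Nat.card W' < n := by
    rw [← hn]
    refine lt_of_le_of_ne (Nat.card_le_card_of_surjective (fun v : W => (⟨_, v, v.2, rfl⟩ : W'))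
      fun ⟨_, v, hv, e⟩ => ⟨⟨v, hv⟩, Subtype.ext e⟩) fun e => ?_
    haveI : Nontrivial W := (Subgroup.nontrivial_iff_ne_bot W).2 hWb
    obtain ⟨k, hk, hk'⟩ := (hV.to_subgroup W).nontrivial_iff_card.1 inferInstance
    obtain ⟨v, hv⟩ := exists_prime_orderOf_dvd_card' (G := W) p (by rw [hk']; exact dvd_pow_self p hk.ne')
    have hinj : Function.Injective (fun v : W => (⟨_, v, v.2, rfl⟩ : W')) :=
      ((Nat.bijective_iff_surjective_and_card _).2
        ⟨fun ⟨_, v, hv, e⟩ => ⟨⟨v, hv⟩, Subtype.ext e⟩, e.symm⟩).1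
    have h1 : v = 1 := hinj (Subtype.ext (by
      show (v : V) ^ p = ((1 : W) : V) ^ p
      rw [OneMemClass.coe_one, one_pow, ← SubgroupClass.coe_pow, ← hv, pow_orderOf_eq_one]
      rfl))
    rw [h1, orderOf_one] at hv
    exact (Fact.out : p.Prime).ne_one hv.symm
  intro g
  have hpfix : ∀ g, ρ g (u ^ p) = u ^ p := IH _ hW'lt W' rfl (fun g v hv => by
      obtain ⟨y, hy, rfl⟩ := hv
      exact ⟨ρ g y, hW g y hy, (map_pow (ρ g) y p).symm⟩)
    _ ⟨u, hu, rfl⟩ (fun t ht => by rw [hz', map_mul, hOfix, map_inv, hT t ht])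
    (fun k hk => by rw [hz', map_mul, hOfix, map_inv, hN k hk])
  have h1 := hpfix g
  rw [hz', map_mul, hOfix, map_inv, mul_right_inj, inv_inj] at h1
  exact h1

/-- The fixed point theorem, for elements with trivial `p`-th power on the module. -/
theorem fixed_of_quadratic (hp : p ≠ 2) (hV : IsPGroup p V) (T : Sylow p G) {X : Set G}
    (hXT : X ⊆ (T : Set G)) (hquad : ∀ x ∈ X, ∀ v, ρ x (ρ x v * v⁻¹) = ρ x v * v⁻¹)
    (_hXp : ∀ x ∈ X, ∀ v, ρ (x ^ p) v = v)
    (hclosed : ∀ g : G, ∀ x ∈ X, g * x * g⁻¹ ∈ T → g * x * g⁻¹ ∈ X) {z : V}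
    (hT : ∀ t ∈ T, ρ t z = z)
    (hN : ∀ g ∈ Subgroup.normalizer (Subgroup.closure X : Set G), ρ g z = z) (g : G) :
    ρ g z = z :=
  fixed_of_quadratic_gen ρ hp hV T hXT hquad hclosed hT hN g

end Cfsg.Agent.Fus
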