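import Cfsg.Agent.Lib.Fus.JInduction
import Cfsg.Agent.Lib.Fus.QuadFix

/-!
For odd `p` the centre of a saturated system is the centre of the normalizer of the Thompson
subgroup (Glauberman); the centre of a system whose core contains `Z(S)` is a direct factor of
`Z(S)`.
-/

set_option autoImplicit false
set_option linter.style.haveILetI false

open scoped Classical

namespace Cfsg.Agent.Fus

open Subgroup FusionSystem

variable {Ω : Type*} [Group Ω] {S : Subgroup Ω} {F : FusionSystem S}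

/-- The property of extending to `X` fixing it pointwise. -/
def FixesExt (F : FusionSystem S) (X P : Subgroup Ω) (f : Ω → Ω) : Prop :=
  ∃ g, IsMap F (P ⊔ X) g ∧ (∀ x ∈ P, g x = f x) ∧ ∀ x ∈ X, g x = x

theorem isMapProp_fixesExt (X : Subgroup Ω) : IsMapProp F (FixesExt F X) where
  congr := fun P f g ⟨k, hk, h1, h2⟩ e => ⟨k, hk, fun x hx => (h1 x hx).trans (e x hx), h2⟩
  comp := fun P Q f f' _ _ hfQ ⟨g, hg, h1, h2⟩ ⟨g', hg', h1', h2'⟩ => by
    have hle : fimg g (P ⊔ X) ≤ Q ⊔ X := by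
      rw [hg.fimg_sup]
      exact sup_le ((fimg_le fun x hx => (h1 x hx).symm ▸ hfQ x hx).trans le_sup_left)
        ((fimg_le fun x hx => (h2 x hx).symm ▸ hx).trans le_sup_right)
    refine ⟨fun x => g' (g x), hg.comp hg' fun x hx => hle (apply_mem_fimg g hx), fun x hx => ?_,
      fun x hx => ?_⟩
    · show g' (g x) = f' (f x)
      rw [h1 x hx, h1' _ (hfQ x hx)]
    · show g' (g x) = x
      rw [h2 x hx, h2' x hx]
  res := fun P Q f _ hPQ ⟨g, hg, h1, h2⟩ =>
    ⟨g, hg.res (sup_le_sup_right hPQ X), fun x hx => h1 x (hPQ hx), h2⟩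

theorem le_normalizerIn_of_char {U : Subgroup Ω} (hU : U ≤ S)
    (h : ∀ s ∈ S, ∀ x ∈ U, s * x * s⁻¹ ∈ U) : S ≤ normalizerIn S U := fun s hs =>
  ⟨hs, mem_normalizer_of_forall (h s hs) fun x hx => by simpa using h _ (S.inv_mem hs) x hx⟩

theorem normalizerIn_thompsonA [Finite S] (F : FusionSystem S) :
    normalizerIn S (thompsonSubgroupAOf S) = S := by
  refine le_antisymm inf_le_left (le_normalizerIn_of_char (thompsonA_le S) fun s hs x hx => ?_)
  have hm := isMap_conj F le_rfl hs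
  exact (hm.map_thompsonA (R := S) (thompsonA_le S)
    fun y hy => hm.apply_mem (thompsonA_le S hy)).le (apply_mem_fimg _ hx)

section

variable [Finite S] {p : ℕ} [Fact p.Prime]

set_option maxHeartbeats 1600000 in
/-- For odd `p`, a central subgroup of `S` centralised by the normalizer of `J(S)` is central. -/
theorem isCentral_of_thompson (hp : p ≠ 2) (hS : IsPGroup p S) (hF : F.IsSaturated p)
    {X : Subgroup Ω} (hX : X ≤ S ⊓ Subgroup.centralizer (S : Set Ω))
    (hN : ∀ P f, IsMap F P f → thompsonSubgroupAOf S ≤ P →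
      fimg f (thompsonSubgroupAOf S) = thompsonSubgroupAOf S → FixesExt F X P f) :
    F.IsCentral X := by
  refine isCentral_iff.2 ⟨hX.trans inf_le_left, fun P f hf => ?_⟩
  refine jInduction hS hF (isMapProp_fixesExt X) hX hN ?_ hf
  intro R E hRS hEF hEs hX' U hU hUc hbig hq P₁ f₁ hf₁
  haveI : Finite R := finite_of_le hRS
  have hR : IsPGroup p R := hS.to_le hRS
  have hUR := hU.1
  haveI := finite_of_le (hUR.trans hRS)
  have hsc := stronglyClosed_of_isNormal hU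
  have hNU : normalizerIn R U = R := le_antisymm inf_le_left
    (le_normalizerIn_of_char hUR fun s hs x hx => StronglyClosed.conj_mem' hsc hs hx)
  have hUn : E.IsFullyNormalized U := ⟨hUR, fun Q hQ => by
    rw [hNU]; exact Subgroup.card_le_of_le inf_le_left⟩
  -- the centre of `U` as a group with an action of `Aut_E(U)`
  set V := centralizerIn U U with hV
  haveI : Finite V := finite_of_le (S := U) inf_le_left
  letI : CommGroup V := { (inferInstance : Group V) with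
    mul_comm := fun a b => Subtype.ext ((mem_centralizerIn.1 b.2).2 a (mem_centralizerIn.1 a.2).1) }
  have hXV : X ≤ V := fun w hw => by
    obtain ⟨hwR, hwC⟩ := hX' hw
    have hwU : w ∈ U := hUc (mem_centralizerIn.2 ⟨hwR, fun y hy =>
      Subgroup.mem_centralizer_iff.1 hwC y (hUR hy)⟩)
    exact mem_centralizerIn.2 ⟨hwU, fun y hy => Subgroup.mem_centralizer_iff.1 hwC y (hUR hy)⟩
  have hVU : V ≤ U := inf_le_left
  have hVinv : ∀ (γ : MulAut U) {v : Ω}, v ∈ V → autFun γ v ∈ V := fun γ {v} hv => by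
    obtain ⟨hv1, hv2⟩ := mem_centralizerIn.1 hv
    refine mem_centralizerIn.2 ⟨autFun_mem γ hv1, fun y hy => ?_⟩
    obtain ⟨z, hz⟩ := γ.surjective ⟨y, hy⟩
    have h1 := congrArg (fun w : U => ((γ w : U) : Ω))
      (Subtype.ext (hv2 z z.2) : (z : U) * ⟨v, hv1⟩ = ⟨v, hv1⟩ * z)
    simp only [map_mul, Subgroup.coe_mul, hz] at h1
    rwa [← autFun_coe γ ⟨v, hv1⟩] at h1
  have hmulA : ∀ (γ : MulAut U) {a b : Ω}, a ∈ U → b ∈ U →
      autFun γ (a * b) = autFun γ a * autFun γ b := fun γ a b ha hb => by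
    show autFun γ (((⟨a, ha⟩ * ⟨b, hb⟩ : U) : Ω)) =
      autFun γ ((⟨a, ha⟩ : U) : Ω) * autFun γ ((⟨b, hb⟩ : U) : Ω)
    rw [autFun_coe, autFun_coe, autFun_coe, map_mul, Subgroup.coe_mul]
  let ρ : E.autGroup U →* MulAut V := MonoidHom.mk'
    (fun α =>
      { toFun := fun v => ⟨autFun (α : MulAut U) v, hVinv _ v.2⟩
        invFun := fun v => ⟨autFun ((α : MulAut U)⁻¹) v, hVinv _ v.2⟩
        left_inv := fun v => Subtype.ext (autFun_inv_apply _ (hVU v.2))
        right_inv := fun v => Subtype.ext (by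
          show autFun (α : MulAut U) (autFun ((α : MulAut U)⁻¹) (v : Ω)) = v
          rw [← autFun_mul _ _ (hVU v.2), mul_inv_cancel, autFun_one (hVU v.2)])
        map_mul' := fun a b => Subtype.ext (hmulA _ (hVU a.2) (hVU b.2)) })
    fun α β => MulEquiv.ext fun v => Subtype.ext (autFun_mul (α : MulAut U) β (hVU v.2))
  have hρ : ∀ (α : E.autGroup U) (v : V), ((ρ α v : V) : Ω) = autFun (α : MulAut U) v :=
    fun α v => rfl
  obtain ⟨-, T, hT⟩ := fullyAutomized_of_fullyNormalized hR hEs hUn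
  have hTmem : ∀ c : E.autGroup U, c ∈ T ↔ (c : MulAut U) ∈ autInducedBy R U := fun c => by
    show c ∈ (T : Subgroup (E.autGroup U)) ↔ _
    rw [hT]
    exact Subgroup.mem_subgroupOf
  set Xq : Set (E.autGroup U) := {c | c ∈ T ∧
    (∀ v, ρ c (ρ c v * v⁻¹) = ρ c v * v⁻¹) ∧ ∀ v, ρ (c ^ p) v = v} with hXq
  have hconj : ∀ {y : Ω}, y ∈ R → ∃ c : E.autGroup U, c ∈ T ∧
      ∀ u ∈ U, y * u * y⁻¹ = autFun (c : MulAut U) u := fun {y} hy => by
    have hyn : y ∈ Subgroup.normalizer (U : Set Ω) := (hNU.ge hy).2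
    refine ⟨⟨U.normalizerMonoidHom ⟨y, hyn⟩, autInducedBy_le_autGroup E hUR
      (mem_autInducedBy.2 ⟨y, hy, fun x => rfl⟩)⟩, ?_, fun u hu =>
      (autFun_coe (U.normalizerMonoidHom ⟨y, hyn⟩) ⟨u, hu⟩).symm⟩
    exact (hTmem _).2 (mem_autInducedBy.2 ⟨y, hy, fun x => rfl⟩)
  have hquad : ∀ {y : Ω} {c : E.autGroup U}, y ∈ R → IsQuad p y V → c ∈ T →
      (∀ u ∈ U, y * u * y⁻¹ = autFun (c : MulAut U) u) → c ∈ Xq := by
    intro y c hy hq hc e
    have hcv : ∀ v : V, ((ρ c v : V) : Ω) = y * v * y⁻¹ := fun v => (e v (hVU v.2)).symm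
    have hpow : ∀ (k : ℕ) (v : V), ((ρ (c ^ k) v : V) : Ω) = y ^ k * v * (y ^ k)⁻¹ := by
      intro k v
      induction k with
      | zero => simp
      | succ k ih =>
        rw [pow_succ', map_mul, MulAut.mul_apply, hcv, ih, pow_succ']
        group
    refine ⟨hc, fun v => Subtype.ext ?_, fun v => Subtype.ext ?_⟩
    · rw [hcv, Subgroup.coe_mul, Subgroup.coe_inv, hcv]
      exact (hq v v.2).2
    · rw [hpow, (hq v v.2).1, mul_inv_cancel_right]
  have hclosed : ∀ g : E.autGroup U, ∀ c ∈ Xq, g * c * g⁻¹ ∈ T → g * c * g⁻¹ ∈ Xq := by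
    rintro g c ⟨-, h1, h2⟩ hg
    have hcw : ∀ w, ρ (g * c * g⁻¹) (ρ g w) = ρ g (ρ c w) := fun w => by
      rw [map_mul, map_mul, map_inv, MulAut.mul_apply, MulAut.mul_apply, MulAut.inv_apply_self]
    refine ⟨hg, fun v => ?_, fun v => ?_⟩
    · obtain ⟨w, rfl⟩ := (ρ g).surjective v
      rw [hcw, ← map_inv (ρ g), ← map_mul (ρ g), hcw, h1]
    · obtain ⟨w, rfl⟩ := (ρ g).surjective v
      rw [conj_pow, map_mul, map_mul, MulAut.mul_apply, MulAut.mul_apply, map_inv,
        MulAut.inv_apply_self, h2]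
  -- the subgroup inducing `⟨Xq⟩`
  set H := Subgroup.closure Xq with hHdef
  have hHT : H ≤ T := (Subgroup.closure_le _).2 fun c hc => hc.1
  have hyU : ∀ {y : Ω}, y ∈ R → ∀ u ∈ U, y * u * y⁻¹ ∈ U := fun {y} hy u hu =>
    StronglyClosed.conj_mem' hsc hy hu
  let L : Subgroup Ω :=
    { carrier := {y | y ∈ R ∧ ∃ c ∈ H, ∀ u ∈ U, y * u * y⁻¹ = autFun (c : MulAut U) u}
      one_mem' := ⟨one_mem _, 1, one_mem _, fun u hu => by
        rw [OneMemClass.coe_one, autFun_one hu]; group⟩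
      mul_mem' := fun {a b} ⟨ha, κ, hκ, e⟩ ⟨hb, μ, hμ, e'⟩ => ⟨mul_mem ha hb, κ * μ,
        mul_mem hκ hμ, fun u hu => by
          rw [Subgroup.coe_mul, autFun_mul _ _ hu, ← e' u hu, ← e _ (hyU hb u hu)]
          group⟩
      inv_mem' := fun {a} ⟨ha, κ, hκ, e⟩ => ⟨inv_mem ha, κ⁻¹, inv_mem hκ, fun u hu => by
        have hu' : a⁻¹ * u * a⁻¹⁻¹ ∈ U := hyU (inv_mem ha) u hu
        conv_rhs => rw [show u = a * (a⁻¹ * u * a⁻¹⁻¹) * a⁻¹ by group, e _ hu',
          Subgroup.coe_inv, autFun_inv_apply _ hu']⟩ }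
  have hLR : L ≤ R := fun y hy => hy.1
  have hUL : U < L := by
    obtain ⟨x, hxR, hxU, hx⟩ := hq
    refine lt_of_le_of_ne (fun y hy => ?_) fun e => hxU ?_
    · obtain ⟨c, hc, e⟩ := hconj (hUR hy)
      refine ⟨hUR hy, c, Subgroup.subset_closure (hquad (hUR hy) (fun v hv => ?_) hc e), e⟩
      have h : Commute y v := (mem_centralizerIn.1 hv).2 y hy
      refine ⟨(h.pow_left p).eq, ?_⟩
      rw [h.eq]
      group
    · obtain ⟨c, hc, e'⟩ := hconj hxR
      rw [e]
      exact ⟨hxR, c, Subgroup.subset_closure (hquad hxR hx hc e'), e'⟩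
  have hTH : ∀ t ∈ T, ∀ c ∈ H, t * c * t⁻¹ ∈ H := by
    intro t ht c hc
    induction hc using Subgroup.closure_induction with
    | mem d hd =>
      exact Subgroup.subset_closure (hclosed t d hd
        (show t * d * t⁻¹ ∈ (T : Subgroup (E.autGroup U)) from mul_mem (mul_mem ht hd.1) (inv_mem ht)))
    | one => simp
    | mul a b _ _ iha ihb =>
      rw [show t * (a * b) * t⁻¹ = (t * a * t⁻¹) * (t * b * t⁻¹) by group]; exact mul_mem iha ihb
    | inv a _ iha =>
      rw [show t * a⁻¹ * t⁻¹ = (t * a * t⁻¹)⁻¹ by group]; exact inv_mem iha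
  -- transport of `L`
  have hLinv : ∀ {g : Ω → Ω} {Q : Subgroup Ω} {α : E.autGroup U}, IsMap E Q g → U ≤ Q →
      (∀ u ∈ U, g u = autFun (α : MulAut U) u) → (∀ c ∈ H, α * c * α⁻¹ ∈ H) →
      ∀ y ∈ L, y ∈ Q → g y ∈ L := by
    rintro g Q α hg hUQ hgα hαH y ⟨hy, c, hc, e⟩ hyQ
    refine ⟨hg.apply_mem hyQ, α * c * α⁻¹, hαH c hc, fun u hu => ?_⟩
    obtain ⟨v, hv, rfl⟩ : ∃ v ∈ U, autFun (α : MulAut U) v = u :=
      ⟨_, autFun_mem ((α : MulAut U)⁻¹) hu,
        by rw [← autFun_mul _ _ hu, mul_inv_cancel, autFun_one hu]⟩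
    rw [← hgα v hv, ← hg.map_conj hyQ (hUQ hv), e v hv, hgα v hv, Subgroup.coe_mul,
      Subgroup.coe_mul, Subgroup.coe_inv, autFun_mul _ _ (autFun_mem _ hv),
      autFun_inv_apply _ hv, autFun_mul _ _ hv, hgα _ (autFun_mem _ hv)]
  have hRL : R ≤ Subgroup.normalizer (L : Set Ω) := by
    have key : ∀ {s : Ω}, s ∈ R → ∀ y ∈ L, s * y * s⁻¹ ∈ L := fun {s} hs y hy => by
      obtain ⟨t, ht, e⟩ := hconj hs
      exact hLinv (isMap_conj E le_rfl hs) hUR e (hTH t ht) y hy (hLR hy)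
    exact fun s hs => mem_normalizer_of_forall (key hs) fun y hy => by
      simpa using key (inv_mem hs) y hy
  haveI := finite_of_le (hLR.trans hRS)
  -- the automorphisms normalising `H` fix `X`
  have hfixN : ∀ α ∈ Subgroup.normalizer (H : Set (E.autGroup U)), ∀ z ∈ X,
      autFun (α : MulAut U) z = z := by
    intro α hα z hz
    have hαm := (mem_autGroup hUR).1 α.2
    obtain ⟨θ, hθ, hθe⟩ := receptive_extend (receptive_of_fullyNormalized hR hEs hUn) hαm
      (fimg_autFun (α : MulAut U)) (N := L) (fun y hy => by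
        obtain ⟨hyR, c, hc, e⟩ := hy
        refine ⟨hNU.ge hyR, ?_⟩
        have h1 : α * c * α⁻¹ ∈ H := (Subgroup.mem_normalizer_iff.1 hα c).1 hc
        obtain ⟨k, hk, hke⟩ := mem_autInducedBy.1 ((hTmem _).1 (hHT h1))
        refine ⟨k, hk, fun u hu => ?_⟩
        have hu' : autFun (α : MulAut U) u ∈ U := autFun_mem _ hu
        have h3 := hke ⟨_, hu'⟩
        rw [← autFun_coe, Subgroup.coe_mul, Subgroup.coe_mul, Subgroup.coe_inv,
          autFun_mul _ _ hu', autFun_inv_apply _ hu, autFun_mul _ _ hu] at h3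
        rw [e u hu]
        exact h3) hUL.le
    have hθL : fimg θ L = L := Subgroup.eq_of_le_of_card_ge (fimg_le fun y hy =>
      hLinv hθ hUL.le hθe (fun c hc => (Subgroup.mem_normalizer_iff.1 hα c).1 hc) y hy hy)
      hθ.card_fimg.ge
    obtain ⟨g, -, hg1, hg2⟩ := hbig L hUL hLR hRL L θ hθ le_rfl hθL
    rw [← hθe z (hVU (hXV hz)), ← hg1 z (hUL.le (hVU (hXV hz))), hg2 z hz]
  have hfix : ∀ α : E.autGroup U, ∀ z ∈ X, autFun (α : MulAut U) z = z := by
    intro α z hz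
    have hVp : IsPGroup p V := hS.to_le ((hVU.trans hUR).trans hRS)
    have := fixed_of_quadratic ρ hp hVp T (X := Xq) (fun c hc => hc.1) (fun c hc => hc.2.1)
      (fun c hc => hc.2.2) hclosed (z := ⟨z, hXV hz⟩) (fun t ht => Subtype.ext ?_)
      (fun k hk => Subtype.ext (hfixN k hk z hz)) α
    · exact congrArg Subtype.val this
    · obtain ⟨k, hk, hke⟩ := mem_autInducedBy.1 ((hTmem _).1 ht)
      show autFun (t : MulAut U) z = z
      rw [show z = ((⟨z, hVU (hXV hz)⟩ : U) : Ω) from rfl, autFun_coe, hke]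
      show k * z * k⁻¹ = z
      rw [Subgroup.mem_centralizer_iff.1 (hX' hz).2 k hk, mul_inv_cancel_right]
  obtain ⟨g, hg, hg1, hgU⟩ := (isNormal_iff.1 hU).2 P₁ f₁ hf₁
  obtain ⟨γ, hγ, hγe⟩ := (hg.res le_sup_right).exists_aut hgU
  exact ⟨g, (hg.mono hEF).res (sup_le_sup_left (hXV.trans hVU) P₁), hg1,
    fun z hz => (hγe z (hVU (hXV hz))).symm.trans (hfix ⟨γ, hγ⟩ z hz)⟩

/-- Glauberman: for odd `p`, `Z(N_F(J(S))) = Z(F)`. -/
theorem center_normalizer_thompson (hp : p ≠ 2) (hS : IsPGroup p S) (hF : F.IsSaturated p)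
    {N : FusionSystem (normalizerIn S (thompsonSubgroupAOf S))}
    (hN : F.IsNormalizerSystem (thompsonSubgroupAOf S) N) : N.center = F.center := by
  rw [isNormalizerSystem_unique hN (isNormalizerSystem_normalizerSystem F (thompsonA_le S))]
  set J := thompsonSubgroupAOf S with hJ
  set E := normalizerSystem F J (thompsonA_le S) with hE
  have hNJ : normalizerIn S J = S := normalizerIn_thompsonA F
  haveI : Finite ↥(normalizerIn S J) := finite_of_le (S := S) inf_le_left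
  obtain ⟨hXS, hX⟩ := isCentral_iff.1 (isCentral_center E)
  refine le_antisymm (le_center (isCentral_of_thompson hp hS hF (fun x hx => ⟨(hXS hx).1,
    Subgroup.mem_centralizer_iff.2 fun s hs => ?_⟩) fun P f hf hJP hfJ => ?_)) (le_center ?_)
  · obtain ⟨g, hg, hg1, hg2⟩ := hX E.center _ (isMap_conj E hXS (hNJ.ge hs))
    have h1 : s * x * s⁻¹ = x := (hg1 x hx).symm.trans (hg2 x hx)
    exact mul_inv_eq_iff_eq_mul.1 h1
  · obtain ⟨g, hg, hg1, hg2⟩ := hX P f ((isMap_normalizerSystem _).2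
      ⟨hf.source_le.trans hNJ.ge, fun x hx => hNJ.ge (hf.apply_mem hx), f,
        hf.res (sup_le le_rfl hJP), fun x _ => rfl, hfJ⟩)
    exact ⟨g, hg.mono (normalizerSystem_isSubsystemOf _), hg1, hg2⟩
  · obtain ⟨hZS, hZ⟩ := isCentral_iff.1 (isCentral_center F)
    refine isCentral_iff.2 ⟨hZS.trans hNJ.ge, fun P f hf => ?_⟩
    obtain ⟨hP, -, g, hg, hg1, hgJ⟩ := (isMap_normalizerSystem _).1 hf
    obtain ⟨k, hk, hk1, hk2⟩ := hZ _ g hg
    exact ⟨k, (isMap_normalizerSystem _).2 ⟨sup_le hP (hZS.trans hNJ.ge),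
      fun x hx => hNJ.ge ((hk.res (sup_le_sup_right le_sup_left _)).apply_mem hx), k,
      hk.res (sup_le (sup_le (le_sup_left.trans le_sup_left) le_sup_right)
        (le_sup_right.trans le_sup_left)), fun x _ => rfl,
      (fimg_congr fun x hx => hk1 x (Subgroup.mem_sup_right hx)).trans hgJ⟩,
      fun x hx => (hk1 x (Subgroup.mem_sup_left hx)).trans (hg1 x hx), hk2⟩

/-- If a normal subgroup contains `Z(S)` then `Z(F)` is a direct factor of `Z(S)`. -/
theorem center_directFactor (hS : IsPGroup p S) (hF : F.IsSaturated p) {Q : Subgroup Ω}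
    (hQ : F.IsNormal Q) (hZ : S ⊓ Subgroup.centralizer (S : Set Ω) ≤ Q) :
    ∃ K : Subgroup Ω, K ≤ S ⊓ Subgroup.centralizer (S : Set Ω) ∧ F.center ⊓ K = ⊥ ∧
      F.center ⊔ K = S ⊓ Subgroup.centralizer (S : Set Ω) := by
  set Z := S ⊓ Subgroup.centralizer (S : Set Ω) with hZdef
  have hQS := hQ.1
  haveI := finite_of_le hQS
  haveI : Finite Z := finite_of_le (S := S) inf_le_left
  have hsc := stronglyClosed_of_isNormal hQ
  have hNQ : normalizerIn S Q = S := le_antisymm inf_le_left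
    (le_normalizerIn_of_char hQS fun s hs x hx => StronglyClosed.conj_mem' hsc hs hx)
  have hQn : F.IsFullyNormalized Q := ⟨hQS, fun R hR => by
    rw [hNQ]; exact Subgroup.card_le_of_le inf_le_left⟩
  obtain ⟨-, T, hT⟩ := fullyAutomized_of_fullyNormalized hS hF hQn
  letI : CommGroup Z := { (inferInstance : Group Z) with
    mul_comm := fun a b => Subtype.ext
      (Subgroup.mem_centralizer_iff.1 b.2.2 a a.2.1) }
  -- the transfer of an element of `Z(S)`
  have hTfix : ∀ t ∈ T, ∀ z ∈ Z, autFun ((t : F.autGroup Q) : MulAut Q) z = z := by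
    intro t ht z hz
    have ht' : t ∈ (T : Subgroup (F.autGroup Q)) := ht
    rw [hT, Subgroup.mem_subgroupOf] at ht'
    obtain ⟨k, hk, hke⟩ := mem_autInducedBy.1 ht'
    rw [show z = ((⟨z, hZ hz⟩ : Q) : Ω) from rfl, autFun_coe, hke]
    show k * z * k⁻¹ = z
    rw [Subgroup.mem_centralizer_iff.1 hz.2 k hk, mul_inv_cancel_right]
  let ZQ : Subgroup Q := Subgroup.center Q
  letI : CommGroup ZQ := { (inferInstance : Group ZQ) with
    mul_comm := fun a b => Subtype.ext ((Subgroup.mem_center_iff.1 b.2) a) }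
  have hZQ : ∀ (γ : MulAut Q) (v : Q), v ∈ ZQ → γ v ∈ ZQ := fun γ v hv => by
    refine Subgroup.mem_center_iff.2 fun y => ?_
    obtain ⟨w, rfl⟩ := γ.surjective y
    rw [← map_mul, ← map_mul, Subgroup.mem_center_iff.1 hv w]
  haveI := Fintype.ofFinite (F.autGroup Q ⧸ (T : Subgroup (F.autGroup Q)))
  let q : (F.autGroup Q ⧸ (T : Subgroup (F.autGroup Q))) → F.autGroup Q := fun c => c.out
  let τ : Z →* ZQ := MonoidHom.mk'
    (fun z => ∏ c, (⟨((q c : F.autGroup Q) : MulAut Q) ⟨z, hZ z.2⟩, hZQ _ _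
      (Subgroup.mem_center_iff.2 fun y => Subtype.ext
        (Subgroup.mem_centralizer_iff.1 z.2.2 y (hQS y.2)))⟩ : ZQ))
    fun a b => by
      rw [← Finset.prod_mul_distrib]
      refine Finset.prod_congr rfl fun c _ => Subtype.ext ?_
      exact map_mul ((q c : F.autGroup Q) : MulAut Q) (⟨a, hZ a.2⟩ : Q) ⟨b, hZ b.2⟩
  -- transferred elements are fixed
  have hτfix : ∀ (z : Z) (α : F.autGroup Q), (α : MulAut Q) (τ z : Q) = (τ z : Q) := by
    intro z α
    have hval : ∀ (f : (F.autGroup Q ⧸ (T : Subgroup (F.autGroup Q))) → ZQ) (γ : MulAut Q),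
        γ ((∏ c, f c : ZQ) : Q) = ((∏ c, (⟨γ (f c), hZQ γ _ (f c).2⟩ : ZQ)) : ZQ) := by
      intro f γ
      let γ' : ZQ →* ZQ := MonoidHom.mk' (fun v => ⟨γ v, hZQ γ _ v.2⟩) fun a b =>
        Subtype.ext (map_mul γ (a : Q) b)
      exact congrArg (fun v : ZQ => (v : Q)) (map_prod γ' f Finset.univ)
    show (α : MulAut Q) ((∏ c, _ : ZQ) : Q) = _
    rw [hval]
    congr 1
    refine (Fintype.prod_equiv (MulAction.toPerm α) _ _ fun c => Subtype.ext ?_).trans rfl
    show (α : MulAut Q) (((q c : F.autGroup Q) : MulAut Q) ⟨z, hZ z.2⟩) =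
      ((q (α • c) : F.autGroup Q) : MulAut Q) ⟨z, hZ z.2⟩
    have h1 : (q (α • c))⁻¹ * (α * q c) ∈ (T : Subgroup (F.autGroup Q)) := by
      rw [← QuotientGroup.eq]
      show (QuotientGroup.mk (α • c).out : F.autGroup Q ⧸ (T : Subgroup (F.autGroup Q))) = _
      rw [QuotientGroup.out_eq']
      conv_lhs => rw [← QuotientGroup.out_eq' c]
      rfl
    have h2 := hTfix _ h1 z z.2
    rw [show (z : Ω) = ((⟨z, hZ z.2⟩ : Q) : Ω) from rfl, autFun_coe] at h2
    have h3 := congrArg ((q (α • c) : F.autGroup Q) : MulAut Q) (Subtype.ext h2)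
    rw [Subgroup.coe_mul, Subgroup.coe_inv, MulAut.mul_apply, MulAut.apply_inv_self,
      Subgroup.coe_mul, MulAut.mul_apply] at h3
    exact h3
  -- fixed central elements form the centre of `F`
  have hcen : ∀ x ∈ Z, (∀ α : F.autGroup Q, autFun (α : MulAut Q) x = x) → x ∈ F.center := by
    intro x hx hfx
    refine le_center (isCentral_iff.2 ⟨(Subgroup.zpowers_le.2 hx.1), fun P f hf => ?_⟩)
      (Subgroup.mem_zpowers x)
    obtain ⟨g, hg, hg1, hgQ⟩ := (isNormal_iff.1 hQ).2 P f hf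
    refine ⟨g, hg.res (sup_le le_sup_left ((Subgroup.zpowers_le.2 (hZ hx)).trans le_sup_right)),
      hg1, ?_⟩
    obtain ⟨γ, hγ, hγe⟩ := (hg.res le_sup_right).exists_aut hgQ
    have hgx : g x = x := (hγe x (hZ hx)).symm.trans (hfx ⟨γ, hγ⟩)
    obtain ⟨φ, hφ, e⟩ := hg.exists_hom
    intro w hw
    obtain ⟨n, rfl⟩ := Subgroup.mem_zpowers_iff.1 hw
    have hxm : x ∈ P ⊔ Q := Subgroup.mem_sup_right (hZ hx)
    have h1 := e (⟨x, hxm⟩ ^ n)
    rw [map_zpow, e, SubgroupClass.coe_zpow] at h1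
    rw [← h1]
    show g x ^ n = x ^ n
    rw [hgx]
  obtain ⟨hCS, hC⟩ := isCentral_iff.1 (isCentral_center F)
  have hCZ : F.center ≤ Z := fun x hx => ⟨hCS hx, Subgroup.mem_centralizer_iff.2 fun s hs => by
    obtain ⟨g, hg, hg1, hg2⟩ := hC F.center _ (isMap_conj F hCS hs)
    exact mul_inv_eq_iff_eq_mul.1 ((hg1 x hx).symm.trans (hg2 x hx))⟩
  have hfixC : ∀ x ∈ F.center, ∀ α : F.autGroup Q, autFun (α : MulAut Q) x = x := fun x hx α => by
    obtain ⟨g, hg, hg1, hg2⟩ := hC Q _ ((mem_autGroup hQS).1 α.2)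
    exact (hg1 x (hZ (hCZ hx))).symm.trans (hg2 x hx)
  set m := Nat.card (F.autGroup Q ⧸ (T : Subgroup (F.autGroup Q))) with hm
  have hτpow : ∀ z : Z, (z : Ω) ∈ F.center → ((τ z : Q) : Ω) = (z : Ω) ^ m := by
    intro z hz
    have h1 : τ z = (⟨⟨z, hZ z.2⟩, Subgroup.mem_center_iff.2 fun y => Subtype.ext
        (Subgroup.mem_centralizer_iff.1 z.2.2 y (hQS y.2))⟩ : ZQ) ^ m := by
      rw [hm, Nat.card_eq_fintype_card, ← Finset.card_univ, ← Finset.prod_const]
      refine Finset.prod_congr rfl fun c _ => Subtype.ext (Subtype.ext ?_)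
      show ((((q c : F.autGroup Q) : MulAut Q) ⟨z, hZ z.2⟩ : Q) : Ω) = z
      rw [← autFun_coe]
      exact hfixC z hz _
    rw [h1]
    rfl
  have hτC : ∀ z : Z, ((τ z : Q) : Ω) ∈ F.center := fun z =>
    hcen _ ⟨hQS (τ z : Q).2, Subgroup.mem_centralizer_iff.2 fun s hs => by
      have hsn : s ∈ Subgroup.normalizer (Q : Set Ω) := (hNQ.ge hs).2
      have h1 := congrArg (fun w : Q => (w : Ω)) (hτfix z ⟨Q.normalizerMonoidHom ⟨s, hsn⟩,
        autInducedBy_le_autGroup F hQS (mem_autInducedBy.2 ⟨s, hs, fun x => rfl⟩)⟩)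
      exact mul_inv_eq_iff_eq_mul.1 h1⟩
      fun α => by
        rw [autFun_coe]
        exact congrArg Subtype.val (hτfix z α)
  have hcop : ∀ z : Z, (orderOf z).Coprime m := fun z => by
    obtain ⟨k, hk⟩ := IsPGroup.iff_orderOf.1 (hS.to_le (inf_le_left : Z ≤ S)) z
    rw [hk]
    exact Nat.Coprime.pow_left _ ((Fact.out : p.Prime).coprime_iff_not_dvd.2 T.not_dvd_index)
  refine ⟨τ.ker.map Z.subtype, Subgroup.map_subtype_le _, eq_bot_iff.2 ?_,
    le_antisymm (sup_le hCZ (Subgroup.map_subtype_le _)) fun x hx => ?_⟩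
  · rintro _ ⟨hxC, z, hz, rfl⟩
    rw [Subgroup.mem_bot]
    have h1 : (z : Ω) ^ m = 1 := by
      rw [← hτpow z hxC, show τ z = 1 from hz]; rfl
    have h2 : z ^ m = 1 := Subtype.ext (by rw [SubgroupClass.coe_pow]; exact h1)
    rw [show z = 1 from orderOf_eq_one_iff.1
      ((hcop z).eq_one_of_dvd (orderOf_dvd_of_pow_eq_one h2))]
    rfl
  · set z : Z := ⟨x, hx⟩ with hzdef
    set w : Z := ⟨_, hCZ (hτC z)⟩ with hw
    obtain ⟨k, hk⟩ := exists_pow_eq_self_of_coprime (x := w) (hcop w).symm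
    rw [show x = ((w ^ k : Z) : Ω) * (((w ^ k)⁻¹ * z : Z) : Ω) by
      rw [← Subgroup.coe_mul, mul_inv_cancel_left]]
    refine mul_mem (Subgroup.mem_sup_left ?_) (Subgroup.mem_sup_right ⟨(w ^ k)⁻¹ * z, ?_, rfl⟩)
    · rw [SubgroupClass.coe_pow]
      exact F.center.pow_mem (hτC z) k
    · show τ ((w ^ k)⁻¹ * z) = 1
      rw [map_mul, map_inv]
      refine Subtype.ext (Subtype.ext ?_)
      show (((τ (w ^ k) : Q)⁻¹ * (τ z : Q) : Q) : Ω) = ((1 : Q) : Ω)
      rw [Subgroup.coe_mul, Subgroup.coe_inv, hτpow (w ^ k) (by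
        rw [SubgroupClass.coe_pow]; exact F.center.pow_mem (hτC z) k)]
      have hk' := congrArg (fun v : Z => (v : Ω)) hk
      simp only [SubgroupClass.coe_pow] at hk' ⊢
      rw [← pow_mul, mul_comm k m, pow_mul, hk']
      exact inv_mul_cancel _

end

end Cfsg.Agent.Fus
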