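import Cfsg.Agent.Lib.Fus.WFunctor
import Cfsg.Agent.Lib.Fus.InvariantIff
import Cfsg.Agent.Lib.Fus.OddCenter

/-!
Central elements and characteristic functors.
-/

set_option autoImplicit false
set_option linter.style.haveILetI false
set_option linter.unusedSectionVars false

open scoped Classical

namespace Cfsg.Agent.Fus

open Subgroup FusionSystem

/-- A subgroup containing the trace of a Sylow subgroup and all elements of order prime to `p` of a
normal subgroup contains that normal subgroup. -/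
theorem le_of_sylow_of_coprime {G : Type*} [Group G] [Finite G] {p : ℕ} [Fact p.Prime]
    (T : Sylow p G) (K : Subgroup G) [K.Normal] (H : Subgroup G) (hHK : H ≤ K)
    (hT : ∀ t ∈ (T : Subgroup G), t ∈ K → t ∈ H)
    (hco : ∀ g ∈ K, (orderOf g).Coprime p → g ∈ H) : K ≤ H := by
  suffices h : Nat.card K ∣ Nat.card H by
    exact (Subgroup.eq_of_le_of_card_ge hHK (Nat.le_of_dvd Nat.card_pos h)).ge
  refine (Nat.dvd_iff_prime_pow_dvd_dvd _ _).2 fun q k hq hqk => ?_
  haveI : Fact q.Prime := ⟨hq⟩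
  obtain ⟨Q, hQ⟩ := Sylow.exists_subgroup_card_pow_prime q hqk
  have hQp : IsPGroup q Q := IsPGroup.of_card hQ
  have hQK : Q.map K.subtype ≤ K := Subgroup.map_subtype_le Q
  have hcard : Nat.card (Q.map K.subtype) = q ^ k := by
    rw [Subgroup.card_map_of_injective K.subtype_injective, hQ]
  by_cases hqp : q = p
  · subst hqp
    have h1 := (isSylowOf_inf_normal T K).card_le (hQp.map K.subtype) hQK
    have hTK : (T : Subgroup G) ⊓ K ≤ H := fun t ht => hT t ht.1 ht.2
    obtain ⟨j, hj⟩ := (T.2.to_le (inf_le_left : (T : Subgroup G) ⊓ K ≤ _)).exists_card_eq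
    rw [hcard, hj] at h1
    refine (Nat.pow_dvd_pow q ((Nat.pow_le_pow_iff_right hq.one_lt).1 h1)).trans ?_
    rw [← hj]
    exact Subgroup.card_dvd_of_le hTK
  · rw [← hcard]
    refine Subgroup.card_dvd_of_le fun g hg => hco g (hQK hg) ?_
    obtain ⟨x, hx, rfl⟩ := hg
    obtain ⟨j, hj⟩ := IsPGroup.iff_orderOf.1 hQp ⟨x, hx⟩
    rw [orderOf_injective K.subtype K.subtype_injective x,
      show orderOf x = q ^ j from (orderOf_injective Q.subtype Q.subtype_injective ⟨x, hx⟩).trans hj]
    exact Nat.Coprime.pow_left j ((Nat.coprime_primes hq (Fact.out)).2 hqp)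

universe u

variable {Ω : Type u} [Group Ω] {S : Subgroup Ω} {F : FusionSystem S} {p : ℕ} [Fact p.Prime]

/-- A map fixes an element when it is defined there. -/
def FixesElt (z : Ω) (P : Subgroup Ω) (f : Ω → Ω) : Prop := z ∈ P → f z = z

theorem isMapProp_fixesElt (z : Ω) : IsMapProp F (FixesElt z) where
  congr := fun P f g h e hz => (e z hz).symm.trans (h hz)
  comp := fun P Q f g _ _ hfQ h h' hz => by
    show g (f z) = z
    rw [h hz]
    exact h' (h hz ▸ hfQ z hz)
  res := fun P Q f _ hPQ h hz => h (hPQ hz)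

variable [Finite S]

/-- A central subgroup of `S` fixed elementwise by all maps is central in the system. -/
theorem isCentral_of_fixesElt (hS : IsPGroup p S) (hF : F.IsSaturated p) {X : Subgroup Ω}
    (hX : X ≤ S ⊓ Subgroup.centralizer (S : Set Ω))
    (h : ∀ x ∈ X, ∀ P f, IsMap F P f → FixesElt x P f) : F.IsCentral X := by
  have hXS : X ≤ S := hX.trans inf_le_left
  refine isCentral_iff.2 ⟨hXS, fun P f hf => ?_⟩
  have hm := isMapProp_fixesExt (F := F) X
  refine alperin' hS hF (FixesExt F X) hm.congr hm.comp hm.res (fun α hα => ?_) ?_ hf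
  · exact ⟨autFun α, by rw [sup_eq_left.2 hXS]; exact (mem_autGroup le_rfl).1 hα, fun x _ => rfl,
      fun x hx => h x hx S _ ((mem_autGroup le_rfl).1 hα) (hXS hx)⟩
  · intro Q hQ _ α hα
    have hXQ : X ≤ Q := fun x hx => centralizerIn_le_of_centric hQ.1 (mem_centralizerIn.2
      ⟨hXS hx, fun y hy => Subgroup.mem_centralizer_iff.1 (hX hx).2 y (hQ.1.1 hy)⟩)
    exact ⟨autFun α, by rw [sup_eq_left.2 hXQ]; exact (mem_autGroup hQ.1.1).1 hα, fun x _ => rfl,
      fun x hx => h x hx Q _ ((mem_autGroup hQ.1.1).1 hα) (hXQ hx)⟩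

/-- An element of a normal subgroup `U`, fixed by the Sylow subgroup and fixed modulo `X`, is fixed. -/
theorem fixes_of_mod (hS : IsPGroup p S) (hF : F.IsSaturated p) {U X : Subgroup Ω}
    (hU : F.IsNormal U) (hX : F.IsNormal X) (hXU : X ≤ U) (hXp : IsPGroup p (F.autGroup X))
    (K : Subgroup (F.autGroup U)) [K.Normal] {z : Ω} (hzU : z ∈ U)
    (hzc : z ∈ Subgroup.centralizer (S : Set Ω))
    (hmod : ∀ κ ∈ K, z⁻¹ * autFun (κ : MulAut U) z ∈ X) :
    ∀ κ ∈ K, autFun (κ : MulAut U) z = z := by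
  have hUS := hU.1
  haveI := finite_of_le hUS
  haveI := finite_of_le hX.1
  obtain ⟨-, T, hT⟩ := fullyAutomized_of_fullyNormalized hS hF (isFullyNormalized_of_isNormal hU)
  let St : Subgroup (F.autGroup U) :=
    { carrier := {κ | κ ∈ K ∧ autFun (κ : MulAut U) z = z}
      one_mem' := ⟨one_mem _, by rw [OneMemClass.coe_one, autFun_one hzU]⟩
      mul_mem' := fun {a b} ha hb => ⟨mul_mem ha.1 hb.1, by
        rw [Subgroup.coe_mul, autFun_mul _ _ hzU, hb.2, ha.2]⟩
      inv_mem' := fun {a} ha => ⟨inv_mem ha.1, by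
        rw [Subgroup.coe_inv]
        conv_lhs => rw [← ha.2]
        exact autFun_inv_apply _ hzU⟩ }
  refine fun κ hκ => (le_of_sylow_of_coprime T K St (fun _ h => h.1) ?_ ?_ hκ).2
  · intro t ht htK
    refine ⟨htK, ?_⟩
    rw [hT, Subgroup.mem_subgroupOf] at ht
    obtain ⟨g, hg, e⟩ := mem_autInducedBy.1 ht
    rw [show z = ((⟨z, hzU⟩ : U) : Ω) from rfl, autFun_coe, e]
    show g * z * g⁻¹ = z
    rw [Subgroup.mem_centralizer_iff.1 hzc g hg, mul_inv_cancel_right]
  · intro a ha hco
    refine ⟨ha, ?_⟩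
    set n := orderOf a with hn
    have hm := (mem_autGroup hUS).1 a.2
    have hfX : fimg (autFun (a : MulAut U)) X = X := Subgroup.eq_of_le_of_card_ge
      (fimg_le fun x hx => StronglyClosed.apply_mem (stronglyClosed_of_isNormal hX) (hm.res hXU)
        le_rfl hx) (hm.res hXU).card_fimg.ge
    obtain ⟨β, hβ, hβe⟩ := (hm.res hXU).exists_aut hfX
    have hβn : β ^ n = 1 := mulAut_ext fun x hx => by
      rw [autFun_pow_eq hXU (fun y hy => (hβe y hy).symm) n x hx |>.symm, ← SubgroupClass.coe_pow,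
        hn, pow_orderOf_eq_one, OneMemClass.coe_one, autFun_one (hXU hx), autFun_one hx]
    obtain ⟨j, hj⟩ := IsPGroup.iff_orderOf.1 hXp ⟨β, hβ⟩
    have hdvd : orderOf (⟨β, hβ⟩ : F.autGroup X) ∣ n := orderOf_dvd_of_pow_eq_one (Subtype.ext hβn)
    rw [hj] at hdvd
    have hβ1 : β = 1 := congrArg Subtype.val
      (orderOf_eq_one_iff.1 (hj.trans (((Nat.Coprime.pow_left j hco.symm)).eq_one_of_dvd hdvd)))
    have hfix : ∀ x ∈ X, autFun (a : MulAut U) x = x := fun x hx => by
      rw [← hβe x hx, hβ1, autFun_one hx]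
    set d := z⁻¹ * autFun (a : MulAut U) z with hd
    have hdX : d ∈ X := hmod a ha
    have hpow : ∀ k : ℕ, autFun ((a : MulAut U) ^ k) z = z * d ^ k := by
      intro k
      induction k with
      | zero => rw [pow_zero, pow_zero, mul_one, autFun_one hzU]
      | succ k ih =>
        rw [pow_succ', autFun_mul _ _ hzU, ih,
          hm.map_mul hzU (hXU (X.pow_mem hdX k)), hfix _ (X.pow_mem hdX k), pow_succ',
          show autFun (a : MulAut U) z = z * d by rw [hd, mul_inv_cancel_left], mul_assoc]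
    have hdn : d ^ n = 1 := by
      have := hpow n
      rw [← SubgroupClass.coe_pow, hn, pow_orderOf_eq_one, OneMemClass.coe_one, autFun_one hzU] at this
      exact mul_eq_left.1 this.symm
    obtain ⟨i, hi⟩ := IsPGroup.iff_orderOf.1 (hS.to_le hX.1) ⟨d, hdX⟩
    rw [Subgroup.orderOf_mk] at hi
    have hdvd' : orderOf d ∣ n := orderOf_dvd_of_pow_eq_one hdn
    rw [hi] at hdvd'
    have hd1 : d = 1 := orderOf_eq_one_iff.1
      (hi.trans ((Nat.Coprime.pow_left i hco.symm).eq_one_of_dvd hdvd'))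
    calc autFun (a : MulAut U) z = z * d := by rw [hd, mul_inv_cancel_left]
      _ = z := by rw [hd1, mul_one]

end Cfsg.Agent.Fus
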