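import Mathlib
import Cfsg.Agent.Lib.Grp.Frattini

/-!
An elementary abelian `p`-group `V` with a group action: a point fixed by a Sylow subgroup and by
the normalizer of the subgroup generated by the subgroups none of whose maximal subgroups has more
fixed points is fixed by the whole group.
-/

set_option autoImplicit false
set_option linter.style.haveILetI false

open scoped Classical

namespace Cfsg.Agent.Fus

variable {G V : Type*} [Group G] [Finite G] [CommGroup V] [Finite V] {p : ℕ} [Fact p.Prime]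
  (ρ : G →* MulAut V)

/-- No subgroup of index `p` of `A` has more fixed points than `A`. -/
def IsGoodSub (p : ℕ) (A : Subgroup G) : Prop :=
  ∀ B ≤ A, B.relIndex A = p → ∀ v, (∀ b ∈ B, ρ b v = v) → ∀ a ∈ A, ρ a v = v

theorem isGoodSub_map {A : Subgroup G} (hA : IsGoodSub ρ p A) (g : G) :
    IsGoodSub ρ p (A.map (MulAut.conj g).toMonoidHom) := by
  rintro B hB hi v hv _ ⟨a, ha, rfl⟩
  have hinj : Function.Injective (MulAut.conj g).toMonoidHom := (MulAut.conj g).injective
  have hc : ∀ (x : G) (w : V), ρ (g * x * g⁻¹) w = ρ g (ρ x (ρ g⁻¹ w)) := fun x w => by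
    rw [map_mul, map_mul, MulAut.mul_apply, MulAut.mul_apply]
  have hBe : (B.comap (MulAut.conj g).toMonoidHom).map (MulAut.conj g).toMonoidHom = B :=
    Subgroup.map_comap_eq_self_of_surjective (MulAut.conj g).surjective B
  have h1 : (B.comap (MulAut.conj g).toMonoidHom).relIndex A = p := by
    rw [← hi, ← hBe, Subgroup.relIndex_map_map_of_injective _ _ hinj, hBe]
  have h2 : ∀ b ∈ B.comap (MulAut.conj g).toMonoidHom, ρ b (ρ g⁻¹ v) = ρ g⁻¹ v := fun b hb => by
    have h3 : ρ g (ρ b (ρ g⁻¹ v)) = v := (hc b v).symm.trans (hv _ hb)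
    refine (ρ g).injective ?_
    rw [h3, map_inv]
    exact (MulAut.apply_inv_self _ _ _).symm
  have h4 := hA _ (Subgroup.map_le_map_iff_of_injective hinj |>.1 (hBe.trans_le hB)) h1 _ h2 a ha
  show ρ (g * a * g⁻¹) v = v
  rw [hc, h4, map_inv]
  exact MulAut.apply_inv_self _ _ _

theorem orbit_prod_eq_one (hV : ∀ v : V, v ^ p = 1) {H : Subgroup G} (hH : IsPGroup p H)
    {X : Set (Subgroup G)} (hX : sSup X = H) (hgood : ∀ A ∈ X, IsGoodSub ρ p A) {w : V}
    (hw : ∃ h ∈ H, ρ h w ≠ w) {O : Finset V} (hO : ∀ v, v ∈ O ↔ ∃ h ∈ H, ρ h w = v) :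
    ∏ v ∈ O, v = 1 := by
  haveI := Fintype.ofFinite V
  let St : Subgroup H :=
    { carrier := {h | ρ (h : G) w = w}
      one_mem' := show ρ ((1 : H) : G) w = w by simp
      mul_mem' := fun {a b} (ha : ρ (a : G) w = w) (hb : ρ (b : G) w = w) =>
        show ρ ((a * b : H) : G) w = w by rw [Subgroup.coe_mul, map_mul, MulAut.mul_apply, hb, ha]
      inv_mem' := fun {a} (ha : ρ (a : G) w = w) => show ρ ((a⁻¹ : H) : G) w = w by
        rw [Subgroup.coe_inv, map_inv]
        conv_lhs => rw [← ha]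
        exact MulAut.inv_apply_self _ _ _ }
  have hSt : St ≠ ⊤ := fun e => by
    obtain ⟨h, hh, hne⟩ := hw
    exact hne (show (⟨h, hh⟩ : H) ∈ St from e ▸ Subgroup.mem_top _)
  obtain ⟨M, hM, hStM⟩ := (eq_top_or_exists_le_coatom St).resolve_left hSt
  obtain ⟨hMn, hMi⟩ := Grp.coatom_index_eq_of_pGroup hH hM
  obtain ⟨A, hAX, hAM⟩ : ∃ A ∈ X, ¬ A ≤ M.map H.subtype := by
    by_contra hne
    push Not at hne
    refine hM.1 (eq_top_iff.2 fun h _ => ?_)
    obtain ⟨m, hm, e⟩ := ((sSup_le hne).trans' hX.ge : H ≤ M.map H.subtype) h.2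
    rwa [← show m = h from Subtype.ext e]
  have hAH : A ≤ H := hX ▸ le_sSup hAX
  obtain ⟨a, haA, haM⟩ := SetLike.not_le_iff_exists.1 hAM
  set x : H := ⟨a, hAH haA⟩ with hx
  have hxM : x ∉ M := fun h => haM ⟨x, h, rfl⟩
  have hcardQ : Nat.card (H ⧸ M) = p := hMi
  have hgen : ∀ q : H ⧸ M, q ∈ Subgroup.zpowers (QuotientGroup.mk x : H ⧸ M) := fun q => by
    refine mem_zpowers_of_prime_card hcardQ ?_
    rw [Ne, QuotientGroup.eq_one_iff]
    exact hxM
  have hord : orderOf (QuotientGroup.mk x : H ⧸ M) = p := by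
    rw [← hcardQ]
    exact orderOf_eq_card_of_forall_mem_zpowers hgen
  set Y := (Finset.univ : Finset V).filter (fun v => ∃ h ∈ M, ρ ((h : H) : G) w = v) with hY
  -- the product over the orbit of `M` is fixed by `A`
  have hYfix : ∀ m ∈ M, ρ ((m : H) : G) (∏ v ∈ Y, v) = ∏ v ∈ Y, v := by
    intro m hm
    rw [map_prod, ← Finset.prod_image (f := fun v => v) (g := ⇑(ρ (m : G))) (s := Y)
      (ρ (m : G)).injective.injOn]
    congr 1
    refine Finset.eq_of_subset_of_card_le (fun v hv => ?_)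
      (Finset.card_image_of_injective _ (ρ (m : G)).injective).ge
    simp only [hY, Finset.mem_image, Finset.mem_filter, Finset.mem_univ, true_and] at hv ⊢
    obtain ⟨_, ⟨k, hk, rfl⟩, rfl⟩ := hv
    exact ⟨m * k, M.mul_mem hm hk, by rw [Subgroup.coe_mul, map_mul, MulAut.mul_apply]⟩
  have hB : (A ⊓ M.map H.subtype).relIndex A = p := by
    rw [Subgroup.inf_relIndex_left]
    have hd : (M.map H.subtype).relIndex A ∣ p := by
      have h1 := Subgroup.relIndex_dvd_index_of_normal M (A.subgroupOf H)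
      rw [hMi, ← Subgroup.relIndex_map_map_of_injective (f := H.subtype) _ _ H.subtype_injective,
        Subgroup.map_subgroupOf_eq_of_le hAH] at h1
      exact h1
    exact ((Nat.dvd_prime Fact.out).1 hd).resolve_left fun h =>
      hAM (Subgroup.relIndex_eq_one.1 h)
  have hxfix : ρ (x : G) (∏ v ∈ Y, v) = ∏ v ∈ Y, v :=
    hgood A hAX _ inf_le_left hB _ (fun b hb => by
      obtain ⟨m, hm, rfl⟩ := hb.2
      exact hYfix m hm) a haA
  have hpow : ∀ i : ℕ, ρ ((x : G) ^ i) (∏ v ∈ Y, v) = ∏ v ∈ Y, v := fun i => by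
    induction i with
    | zero => simp
    | succ i ih => rw [pow_succ', map_mul, MulAut.mul_apply, ih, hxfix]
  have hcover : O = (Finset.range p).biUnion fun i => Y.image (ρ ((x : G) ^ i)) := by
    ext v
    simp only [hO, Finset.mem_biUnion, Finset.mem_image, Finset.mem_range, hY, Finset.mem_filter,
      Finset.mem_univ, true_and]
    constructor
    · rintro ⟨h, hh, rfl⟩
      obtain ⟨i, hi, e⟩ : ∃ i < p, (QuotientGroup.mk x : H ⧸ M) ^ i = QuotientGroup.mk ⟨h, hh⟩ := by
        obtain ⟨i, e⟩ := Submonoid.mem_powers_iff _ _ |>.1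
          (mem_powers_iff_mem_zpowers.2 (hgen (QuotientGroup.mk ⟨h, hh⟩)))
        exact ⟨i % p, Nat.mod_lt _ (Fact.out : p.Prime).pos, by rw [← hord, pow_mod_orderOf, e]⟩
      rw [← QuotientGroup.mk_pow, QuotientGroup.eq] at e
      refine ⟨i, hi, _, ⟨(x ^ i)⁻¹ * ⟨h, hh⟩, e, rfl⟩, ?_⟩
      rw [← MulAut.mul_apply, ← map_mul]
      congr 2
      push_cast
      group
    · rintro ⟨i, -, _, ⟨m, -, rfl⟩, rfl⟩
      refine ⟨(x : G) ^ i * m, H.mul_mem (H.pow_mem x.2 _) (m : H).2, ?_⟩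
      rw [map_mul, MulAut.mul_apply]
  have hdisj : (↑(Finset.range p) : Set ℕ).PairwiseDisjoint fun i => Y.image (ρ ((x : G) ^ i)) := by
    intro i hi j hj hij
    refine Finset.disjoint_left.2 fun v hv hv' => hij ?_
    simp only [Finset.mem_image, hY, Finset.mem_filter, Finset.mem_univ, true_and] at hv hv'
    obtain ⟨_, ⟨m, hm, rfl⟩, rfl⟩ := hv
    obtain ⟨_, ⟨m', hm', rfl⟩, e⟩ := hv'
    rw [← MulAut.mul_apply, ← MulAut.mul_apply, ← map_mul, ← map_mul] at e
    have hst : (x ^ i * m)⁻¹ * (x ^ j * m') ∈ St := by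
      show ρ (((x ^ i * m)⁻¹ * (x ^ j * m') : H) : G) w = w
      push_cast
      rw [map_mul, MulAut.mul_apply, e, map_inv]
      exact MulAut.inv_apply_self _ _ _
    have h1 := hStM hst
    rw [← QuotientGroup.eq_one_iff, QuotientGroup.mk_mul, QuotientGroup.mk_inv,
      QuotientGroup.mk_mul, QuotientGroup.mk_mul, (QuotientGroup.eq_one_iff m).2 hm,
      (QuotientGroup.eq_one_iff m').2 hm', mul_one, mul_one, QuotientGroup.mk_pow,
      QuotientGroup.mk_pow, inv_mul_eq_one] at h1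
    simp only [Finset.coe_range, Set.mem_Iio] at hi hj
    exact pow_injOn_Iio_orderOf (by rw [hord]; exact hi) (by rw [hord]; exact hj) h1
  rw [hcover, Finset.prod_biUnion hdisj]
  refine (Finset.prod_congr rfl fun i _ => ?_).trans
    ((Finset.prod_const (∏ v ∈ Y, v)).trans (by rw [Finset.card_range]; exact hV _))
  rw [Finset.prod_image ((ρ ((x : G) ^ i)).injective.injOn), ← map_prod, hpow]

/-- The fixed point theorem. -/
theorem fixed_of_good (hV : ∀ v : V, v ^ p = 1) (T : Sylow p G) {X : Set (Subgroup G)}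
    (hXT : ∀ A ∈ X, A ≤ (T : Subgroup G)) (hgood : ∀ A ∈ X, IsGoodSub ρ p A)
    (hclosed : ∀ g : G, ∀ A ∈ X, A.map (MulAut.conj g).toMonoidHom ≤ (T : Subgroup G) →
      A.map (MulAut.conj g).toMonoidHom ∈ X) {z : V}
    (hT : ∀ t ∈ T, ρ t z = z)
    (hN : ∀ g ∈ Subgroup.normalizer (sSup X : Subgroup G), ρ g z = z) (g : G) :
    ρ g z = z := by
  haveI := Fintype.ofFinite V
  set H := sSup X with hHdef
  have hHT : H ≤ T := sSup_le hXT
  have hH : IsPGroup p H := T.2.to_le hHT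
  set O := (Finset.univ : Finset V).filter (fun v => ∃ g, ρ g z = v) with hO
  have hzO : z ∈ O := by
    simp only [hO, Finset.mem_filter, Finset.mem_univ, true_and]
    exact ⟨1, by simp⟩
  have hOfix : ∀ g, ρ g (∏ v ∈ O, v) = ∏ v ∈ O, v := by
    intro g
    rw [map_prod, ← Finset.prod_image (f := fun v => v) (g := ⇑(ρ g)) (s := O) (ρ g).injective.injOn]
    congr 1
    refine Finset.eq_of_subset_of_card_le (fun v hv => ?_)
      (Finset.card_image_of_injective _ (ρ g).injective).ge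
    simp only [hO, Finset.mem_image, Finset.mem_filter, Finset.mem_univ, true_and] at hv ⊢
    obtain ⟨_, ⟨k, rfl⟩, rfl⟩ := hv
    exact ⟨g * k, by rw [map_mul, MulAut.mul_apply]⟩
  have hone : ∀ v ∈ O, (∀ h ∈ H, ρ h v = v) → v = z := by
    intro v hv hfix
    simp only [hO, Finset.mem_filter, Finset.mem_univ, true_and] at hv
    obtain ⟨g, rfl⟩ := hv
    let Gz : Subgroup G :=
      { carrier := {k | ρ k z = z}
        one_mem' := show ρ 1 z = z by simp
        mul_mem' := fun {a b} (ha : ρ a z = z) (hb : ρ b z = z) =>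
          show ρ (a * b) z = z by rw [map_mul, MulAut.mul_apply, hb, ha]
        inv_mem' := fun {a} (ha : ρ a z = z) => show ρ a⁻¹ z = z by
          rw [map_inv]
          conv_lhs => rw [← ha]
          exact MulAut.inv_apply_self _ _ _ }
    have hle : H.map (MulAut.conj g⁻¹).toMonoidHom ≤ Gz := by
      rintro _ ⟨h, hh, rfl⟩
      show ρ (g⁻¹ * h * g⁻¹⁻¹) z = z
      rw [inv_inv, map_mul, map_mul, MulAut.mul_apply, MulAut.mul_apply, hfix h hh, map_inv]
      exact MulAut.inv_apply_self _ _ _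
    obtain ⟨T', hT'⟩ := ((hH.map (MulAut.conj g⁻¹).toMonoidHom).comap_subtype (K := Gz) :
      IsPGroup p ((H.map (MulAut.conj g⁻¹).toMonoidHom).subgroupOf Gz)).exists_le_sylow
    have hTG : (T : Subgroup G) ≤ Gz := fun t ht => hT t ht
    obtain ⟨k, hk⟩ := MulAction.exists_smul_eq Gz T' (T.subtype hTG)
    have hkey : ∀ h ∈ H, (k : G) * g⁻¹ * h * ((k : G) * g⁻¹)⁻¹ ∈ T := by
      intro h hh
      have h1 : k * ⟨g⁻¹ * h * g⁻¹⁻¹, hle ⟨h, hh, rfl⟩⟩ * k⁻¹ ∈
          ((T.subtype hTG : Sylow p Gz) : Subgroup Gz) := by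
        rw [← hk]
        exact ⟨_, hT' (Subgroup.mem_subgroupOf.2 ⟨h, hh, rfl⟩), rfl⟩
      rw [Sylow.coe_subtype, Subgroup.mem_subgroupOf] at h1
      rw [show (k : G) * g⁻¹ * h * ((k : G) * g⁻¹)⁻¹ = (k : G) * (g⁻¹ * h * g⁻¹⁻¹) * (k : G)⁻¹ by
        group]
      exact h1
    have hn' : (k : G) * g⁻¹ ∈ Subgroup.normalizer (H : Set G) := by
      have hle' : H.map (MulAut.conj ((k : G) * g⁻¹)).toMonoidHom ≤ H := by
        rw [Subgroup.map_le_iff_le_comap, hHdef]
        refine sSup_le fun A hA => Subgroup.map_le_iff_le_comap.1 ?_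
        refine le_sSup (hclosed _ A hA ?_)
        rintro _ ⟨a, ha, rfl⟩
        exact hkey a ((le_sSup hA : A ≤ H) ha)
      have heq := Subgroup.eq_of_le_of_card_ge hle'
        (Subgroup.card_map_of_injective (MulEquiv.injective _)).ge
      refine Subgroup.mem_normalizer_iff.2 fun h => ⟨fun hh => hle' ⟨h, hh, rfl⟩, fun hh => ?_⟩
      rw [← heq] at hh
      obtain ⟨h', hh', e⟩ := hh
      rwa [← (MulEquiv.injective _ e : h' = h)]
    have h1 := hN _ (Subgroup.inv_mem _ hn')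
    rw [mul_inv_rev, inv_inv, map_mul, MulAut.mul_apply, show ρ (k : G)⁻¹ z = z from Gz.inv_mem k.2]
      at h1
    exact h1
  have hsum : ∀ (s : Finset V), (∀ h ∈ H, ∀ v ∈ s, ρ h v ∈ s) →
      (∀ v ∈ s, ∃ h ∈ H, ρ h v ≠ v) → ∏ v ∈ s, v = 1 := by
    intro s
    induction s using Finset.strongInduction with
    | _ s ih =>
    intro hinv hfree
    rcases s.eq_empty_or_nonempty with rfl | ⟨w, hw⟩
    · simp
    set o := (Finset.univ : Finset V).filter (fun v => ∃ h ∈ H, ρ h w = v) with ho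
    have hmem : ∀ v, v ∈ o ↔ ∃ h ∈ H, ρ h w = v := fun v => by simp [ho]
    have hos : o ⊆ s := fun v hv => by
      obtain ⟨h, hh, rfl⟩ := (hmem v).1 hv
      exact hinv h hh w hw
    have hwo : w ∈ o := (hmem w).2 ⟨1, one_mem _, by simp⟩
    have hlt : s \ o ⊂ s := Finset.sdiff_ssubset hos ⟨w, hwo⟩
    have e := orbit_prod_eq_one ρ hV hH rfl hgood (hfree w hw) hmem
    have e' := ih _ hlt
      (fun h hh v hv => Finset.mem_sdiff.2 ⟨hinv h hh v (Finset.mem_sdiff.1 hv).1, fun hvo => by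
        obtain ⟨k, hk, e⟩ := (hmem _).1 hvo
        refine (Finset.mem_sdiff.1 hv).2 ((hmem v).2 ⟨h⁻¹ * k, mul_mem (inv_mem hh) hk, ?_⟩)
        rw [map_mul, MulAut.mul_apply, e, map_inv]
        exact MulAut.inv_apply_self _ _ _⟩)
      fun v hv => hfree v (Finset.mem_sdiff.1 hv).1
    rw [← Finset.prod_sdiff hos, e, e', mul_one]
  have hrest : ∏ v ∈ O.erase z, v = 1 := hsum _
    (fun h hh v hv => by
      rw [Finset.mem_erase] at hv ⊢
      refine ⟨fun e => hv.1 ?_, ?_⟩
      · have h1 := hT h⁻¹ ((T : Subgroup G).inv_mem (hHT hh))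
        rw [← e, map_inv, MulAut.inv_apply_self, e] at h1
        exact h1
      · have hv2 := hv.2
        simp only [hO, Finset.mem_filter, Finset.mem_univ, true_and] at hv2 ⊢
        obtain ⟨g, rfl⟩ := hv2
        exact ⟨h * g, by rw [map_mul, MulAut.mul_apply]⟩)
    fun v hv => by
      by_contra hne
      push Not at hne
      exact (Finset.mem_erase.1 hv).1 (hone v (Finset.mem_of_mem_erase hv) hne)
  have hz : ∏ v ∈ O, v = z := by
    rw [← Finset.mul_prod_erase O (fun v => v) hzO, hrest, mul_one]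
  rw [← hz]
  exact hOfix g

end Cfsg.Agent.Fus
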