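import Cfsg.Agent.Lib.Fus.NormalCrit
import Cfsg.Agent.Lib.Grp.Cores
import Cfsg.Prelude.Def_PLocal

/-!
The subgroup generated by the `p^n`-th powers of the centre of a `p`-group of small class is
normal in every saturated fusion system on the group.
-/

set_option autoImplicit false
set_option linter.style.haveILetI false

open scoped Classical Pointwise commutatorElement

namespace Cfsg.Agent.Fus

open Subgroup FusionSystem

/-- If `(1 + δ)^p = 1` and `δ^(n(p-1)+1) = 0` then `p^n δ = 0`. -/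
theorem nsmul_eq_zero_of_one_add_pow {R : Type*} [Ring R] {p : ℕ} (hp : p.Prime) {δ : R}
    (h : (δ + 1) ^ p = 1) {n : ℕ} (hc : δ ^ (n * (p - 1) + 1) = 0) : p ^ n • δ = 0 := by
  have hp2 := hp.two_le
  suffices key : ∀ i j, 1 ≤ j → n * (p - 1) + 1 ≤ j + i * (p - 1) → p ^ i • δ ^ j = 0 by
    simpa using key n 1 le_rfl (by omega)
  intro i
  induction i with
  | zero =>
    intro j _ hj
    rw [pow_eq_zero_of_le (by simpa using hj) hc, smul_zero]
  | succ i ih =>
    intro j
    induction hk : n * (p - 1) + 1 - j using Nat.strong_induction_on generalizing j with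
    | _ k ih2 =>
      intro hj1 hj
      by_cases hbig : n * (p - 1) + 1 ≤ j
      · rw [pow_eq_zero_of_le hbig hc, smul_zero]
      have hterm : ∀ m ∈ Finset.range (p + 1), m ≠ 0 → m ≠ 1 →
          p ^ i • (δ ^ (j - 1) * (δ ^ m * 1 ^ (p - m) * (p.choose m : R))) = 0 := by
        intro m hm h0 h1
        rw [one_pow, mul_one, ← mul_assoc, ← pow_add, ← Nat.cast_comm, ← nsmul_eq_mul, smul_smul]
        rcases (Nat.lt_succ_iff.1 (Finset.mem_range.1 hm)).lt_or_eq with hlt | rfl
        · obtain ⟨c, hc'⟩ := hp.dvd_choose_self h0 hlt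
          rw [hc', ← mul_assoc, ← pow_succ, mul_comm, mul_smul,
            ih2 _ (by omega) (j - 1 + m) rfl (by omega) (by omega), smul_zero]
        · rw [mul_smul, Nat.choose_self, one_smul]
          exact ih _ (by omega) (by
            have : j - 1 + m = j + (m - 1) := by omega
            rw [this]
            rw [Nat.succ_mul] at hj
            omega)
      have hs := h
      rw [(Commute.one_right δ).add_pow] at hs
      have hsum := congrArg (fun z => p ^ i • (δ ^ (j - 1) * z)) hs
      simp only [Finset.mul_sum, Finset.smul_sum] at hsum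
      rw [Finset.sum_eq_add_of_mem (0 : ℕ) 1 (by simp) (by simp; omega) zero_ne_one
        fun m hm hne => hterm m hm hne.1 hne.2] at hsum
      simp only [pow_zero, one_pow, Nat.choose_zero_right, Nat.cast_one, mul_one, one_mul,
        pow_one, Nat.choose_one_right, add_eq_left] at hsum
      rw [← mul_assoc, ← pow_succ, Nat.sub_add_cancel hj1, ← Nat.cast_comm, ← nsmul_eq_mul,
        smul_smul, ← pow_succ] at hsum
      exact hsum

variable {Ω : Type*} [Group Ω] {S : Subgroup Ω}

/-- Elementwise form: an element normalizing an abelian subgroup, with `p`-th power centralizing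
it, and iterated commutators vanishing after `n(p-1)+1` steps, centralizes the `p^n`-th powers. -/
theorem conj_pow_eq_of_nilpotent {p : ℕ} (hp : p.Prime) {n : ℕ} {V : Subgroup Ω}
    (hV : ∀ x ∈ V, ∀ y ∈ V, x * y = y * x) {g : Ω} (hg : ∀ v ∈ V, g * v * g⁻¹ ∈ V)
    (hgp : ∀ v ∈ V, g ^ p * v * (g ^ p)⁻¹ = v) (L : ℕ → Subgroup Ω) (hL0 : V ≤ L 0)
    (hL : ∀ k, ∀ v ∈ L k, ⁅g, v⁆ ∈ L (k + 1)) (hLc : L (n * (p - 1) + 1) = ⊥) {v : Ω}
    (hv : v ∈ V) : g * v ^ (p ^ n) * g⁻¹ = v ^ (p ^ n) := by
  letI : CommGroup V := { (inferInstance : Group V) with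
    mul_comm := fun a b => Subtype.ext (hV a a.2 b b.2) }
  let γ : V →* V :=
    { toFun := fun x => ⟨g * x * g⁻¹, hg x x.2⟩
      map_one' := Subtype.ext (by simp)
      map_mul' := fun x y => Subtype.ext (by simp [mul_assoc]) }
  let e : AddMonoid.End (Additive V) := MonoidHom.toAdditive γ
  have he : ∀ (k : ℕ) (x : V), ((Additive.toMul ((e ^ k) (Additive.ofMul x)) : V) : Ω) =
      g ^ k * x * (g ^ k)⁻¹ := by
    intro k
    induction k with
    | zero => intro x; simp
    | succ k ih =>
      intro x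
      rw [pow_succ']
      show g * ((Additive.toMul ((e ^ k) (Additive.ofMul x)) : V) : Ω) * g⁻¹ = _
      rw [ih, pow_succ']
      group
  have hep : e ^ p = 1 := by
    ext x
    obtain ⟨x, rfl⟩ := Additive.ofMul.surjective x
    show ((Additive.toMul ((e ^ p) (Additive.ofMul x)) : V) : Ω) = (x : Ω)
    rw [he p x, hgp x x.2]
  set δ := e - 1 with hδ
  have hd : ∀ (k : ℕ) (x : V),
      ((Additive.toMul ((δ ^ k) (Additive.ofMul x)) : V) : Ω) ∈ L k := by
    intro k
    induction k with
    | zero => intro x; simpa using hL0 x.2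
    | succ k ih =>
      intro x
      rw [pow_succ']
      have := hL k _ (ih x)
      rw [commutatorElement_def] at this
      show ((Additive.toMul (δ ((δ ^ k) (Additive.ofMul x))) : V) : Ω) ∈ L (k + 1)
      rw [← div_eq_mul_inv] at this
      exact this
  have hnil : δ ^ (n * (p - 1) + 1) = 0 := by
    ext x
    obtain ⟨x, rfl⟩ := Additive.ofMul.surjective x
    have := hd (n * (p - 1) + 1) x
    rw [hLc, Subgroup.mem_bot] at this
    exact this.trans rfl
  have := nsmul_eq_zero_of_one_add_pow hp (n := n) (by rw [hδ, sub_add_cancel, hep]) hnil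
  have h2 : δ ((p ^ n) • Additive.ofMul (⟨v, hv⟩ : V)) = 0 := by
    rw [map_nsmul]
    exact DFunLike.congr_fun this _
  rw [hδ] at h2
  rw [show (p ^ n) • Additive.ofMul (⟨v, hv⟩ : V) = Additive.ofMul ((⟨v, hv⟩ : V) ^ p ^ n) from rfl]
    at h2
  have h3 := congrArg (fun z => ((Additive.toMul z : V) : Ω)) (sub_eq_zero.1 h2)
  exact h3

variable {F : FusionSystem S}

section

variable [Finite S] {p : ℕ} [Fact p.Prime]

/-- If `K` is normal in `Aut_F(P)` and contains a non-inner automorphism induced by `S`, every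
automorphism is a product of an element of `K` and an extendable one. -/
theorem exists_mul_extAuts (hS : IsPGroup p S) (hF : F.IsSaturated p) {P : Subgroup Ω}
    (hP : F.IsFullyNormalized P) (K : Subgroup (F.autGroup P)) [K.Normal] {c : F.autGroup P}
    (hcK : c ∈ K) (hcS : (c : MulAut P) ∈ autInducedBy S P) (hcI : (c : MulAut P) ∉ Inn P)
    (α : F.autGroup P) : ∃ k ∈ K, ∃ η : F.autGroup P, (η : MulAut P) ∈ extAuts F P ∧
      α = k * η := by
  haveI := finite_of_le hP.1
  obtain ⟨-, T, hT⟩ := fullyAutomized_of_fullyNormalized hS hF hP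
  have hpg : IsPGroup p ↥((T : Subgroup (F.autGroup P)).subgroupOf K) := T.isPGroup'.comap_subtype
  have hidx : ¬ p ∣ ((T : Subgroup (F.autGroup P)).subgroupOf K).index :=
    Grp.sylow_inf_normal_relIndex T K
  have hsup := Sylow.normalizer_sup_eq_top (hpg.toSylow hidx)
  obtain ⟨k, hk, η, hη, rfl⟩ := Subgroup.mem_sup_of_normal_left.1
    ((sup_comm _ _).trans hsup |>.ge (Subgroup.mem_top α))
  rw [show ((hpg.toSylow hidx : Sylow p K) : Subgroup K) =
    (T : Subgroup (F.autGroup P)).subgroupOf K from rfl, Subgroup.subgroupOf_map_subtype] at hη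
  refine ⟨k, hk, η, ?_, rfl⟩
  have hI := inn_le_autGroup F hP.1
  refine mem_extAuts_of_conj (receptive_of_fullyNormalized hS hF hP) η.2
    (R := Inn P ⊔ ((T : Subgroup (F.autGroup P)) ⊓ K).map (F.autGroup P).subtype) ?_ ?_ le_sup_left
    ?_
  · refine sup_le ?_ ?_
    · rw [inn_eq_autInducedBy]; exact autInducedBy_mono hP.1 P
    · rintro _ ⟨b, hb, rfl⟩
      have := hb.1
      rw [hT] at this
      exact this
  · intro hle
    refine hcI (hle (Subgroup.mem_sup_right ⟨c, ⟨?_, hcK⟩, rfl⟩))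
    rw [hT]
    exact hcS
  · intro r hr
    have hle : Inn P ⊔ ((T : Subgroup (F.autGroup P)) ⊓ K).map (F.autGroup P).subtype ≤
        (autInducedBy S P).comap (MulAut.conj (η : MulAut P)).toMonoidHom := by
      refine sup_le ?_ ?_
      · rintro _ ⟨y, rfl⟩
        refine autInducedBy_mono hP.1 P ?_
        rw [← inn_eq_autInducedBy]
        refine ⟨(η : MulAut P) y, MulEquiv.ext fun x => ?_⟩
        simp
      · rintro _ ⟨b, hb, rfl⟩
        have := ((Subgroup.mem_normalizer_iff.1 hη b).1 hb).1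
        rw [hT] at this
        exact this
    exact hle hr

omit [Finite S] [Fact p.Prime] in
theorem mem_centerIn {P : Subgroup Ω} {x : Ω} :
    x ∈ centralizerIn P P ↔ x ∈ P ∧ ∀ y ∈ P, y * x = x * y := by
  rw [mem_centralizerIn]

/-- For class at most `n(p-1)+1` the powers of the centre are normal. -/
theorem isNormal_powerClosure_center (hS : IsPGroup p S) (hF : F.IsSaturated p) {n : ℕ}
    (hcl : Subgroup.lowerCentralSeries S (n * (p - 1) + 1) = ⊥) :
    F.IsNormal (powerClosure p n (S ⊓ Subgroup.centralizer (S : Set Ω))) := by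
  set W := powerClosure p n (S ⊓ Subgroup.centralizer (S : Set Ω)) with hW
  have hWS : W ≤ S := (Subgroup.closure_le _).2 fun y ⟨x, hx, e⟩ => e ▸ S.pow_mem hx.1 _
  have hWC : W ≤ Subgroup.centralizer (S : Set Ω) :=
    (Subgroup.closure_le _).2 fun y ⟨x, hx, e⟩ => e ▸ pow_mem hx.2 _
  have hWc : ∀ w ∈ W, ∀ y ∈ S, y * w = w * y := fun w hw =>
    Subgroup.mem_centralizer_iff.1 (hWC hw)
  have hgen : ∀ {Q : Subgroup Ω} {f : Ω → Ω}, IsMap F Q f → W ≤ Q →
      (∀ z ∈ S ⊓ Subgroup.centralizer (S : Set Ω), f (z ^ p ^ n) ∈ W) → ∀ x ∈ W, f x ∈ W := by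
    intro Q f hf hWQ h x hx
    induction hx using Subgroup.closure_induction with
    | mem y hy => obtain ⟨z, hz, rfl⟩ := hy; exact h z hz
    | one => rw [hf.map_one]; exact W.one_mem
    | mul a b ha hb iha ihb => rw [hf.map_mul (hWQ ha) (hWQ hb)]; exact W.mul_mem iha ihb
    | inv a ha iha => rw [hf.map_inv (hWQ ha)]; exact W.inv_mem iha
  have hsub : ∀ u ∈ S ⊓ Subgroup.centralizer (S : Set Ω), u ^ p ^ n ∈ W := fun u hu =>
    Subgroup.subset_closure (show u ^ p ^ n ∈ {y : Ω | ∃ x ∈ S ⊓ Subgroup.centralizer (S : Set Ω),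
      y = x ^ p ^ n} from ⟨u, hu, rfl⟩)
  refine isNormal_iff.2 ⟨hWS, fun P f hf => ?_⟩
  obtain ⟨g, hg, hg1, hgW⟩ : ∃ g, IsMap F (P ⊔ W) g ∧ (∀ x ∈ P, g x = f x) ∧
      ∀ x ∈ W, g x ∈ W := by
    refine alperin' hS hF (fun P f => ∃ g, IsMap F (P ⊔ W) g ∧ (∀ x ∈ P, g x = f x) ∧
      ∀ x ∈ W, g x ∈ W) ?_ ?_ ?_ ?_ ?_ hf
    · rintro P f f' ⟨g, hg, h1, h2⟩ e
      exact ⟨g, hg, fun x hx => (h1 x hx).trans (e x hx), h2⟩
    · rintro P R f f' hf hf' hfR ⟨g, hg, h1, h2⟩ ⟨g', hg', h1', h2'⟩
      have hle : fimg g (P ⊔ W) ≤ R ⊔ W := by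
        rw [hg.fimg_sup]
        exact sup_le ((fimg_le fun x hx => (h1 x hx).symm ▸ hfR x hx).trans le_sup_left)
          ((fimg_le h2).trans le_sup_right)
      refine ⟨fun x => g' (g x), hg.comp hg' fun x hx => hle (apply_mem_fimg g hx),
        fun x hx => ?_, fun x hx => h2' _ (h2 x hx)⟩
      show g' (g x) = f' (f x)
      rw [h1 x hx, h1' _ (hfR x hx)]
    · rintro P R f hf hPR ⟨g, hg, h1, h2⟩
      exact ⟨g, hg.res (sup_le_sup_right hPR W), fun x hx => h1 x (hPR hx), h2⟩
    · intro α hα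
      have hm := (mem_autGroup le_rfl).1 hα
      refine ⟨autFun α, by rw [sup_eq_left.2 hWS]; exact hm, fun x hx => rfl,
        hgen hm hWS fun z hz => ?_⟩
      suffices hz' : autFun α z ∈ Subgroup.centralizer (S : Set Ω) ∧
          autFun α (z ^ p ^ n) = autFun α z ^ p ^ n by
        rw [hz'.2]
        exact hsub _ ⟨hm.apply_mem hz.1, hz'.1⟩
      refine ⟨?_, ?_⟩
      · refine Subgroup.mem_centralizer_iff.2 fun y hy => ?_
        obtain ⟨u, rfl⟩ : ∃ u : S, ((α u : S) : Ω) = y :=
          ⟨α⁻¹ ⟨y, hy⟩, congrArg Subtype.val (MulAut.apply_inv_self _ α ⟨y, hy⟩)⟩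
        rw [← autFun_coe α u, ← hm.map_mul u.2 hz.1, ← hm.map_mul hz.1 u.2,
          Subgroup.mem_centralizer_iff.1 hz.2 u u.2]
      · rw [show z = ((⟨z, hz.1⟩ : S) : Ω) from rfl, ← SubgroupClass.coe_pow, autFun_coe,
          autFun_coe, map_pow, SubgroupClass.coe_pow]
    · intro Q hQ IH α hα
      have hQS := hQ.1.1
      haveI := finite_of_le hQS
      have hWQ : W ≤ Q := fun w hw => centralizerIn_le_of_centric hQ.1
        (mem_centralizerIn.2 ⟨hWS hw, fun y hy => hWc w hw y (hQS hy)⟩)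
      have hQlt : Q < S := by
        refine lt_of_le_of_ne hQS fun e => ?_
        subst e
        exact closure_ne_of_essential hS hF hQ (le_antisymm (closure_extAuts_le _)
          fun β hβ => absurd hQ fun h => by
            obtain ⟨hc, hn, hI, E, hdvd, hEtop, T, hE⟩ := h
            obtain ⟨T', hT'⟩ := (fullyAutomized_of_fullyNormalized hS hF hn).2
            have hle : (T' : Subgroup (F.autGroup Q)) ≤ (Inn Q).subgroupOf (F.autGroup Q) := by
              rw [hT', inn_eq_autInducedBy]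
            haveI := hI
            have h0 := (T'.mapSurjective (QuotientGroup.mk'_surjective
              ((Inn Q).subgroupOf (F.autGroup Q)))).not_dvd_index
            rw [Sylow.coe_mapSurjective, show (T' : Subgroup (F.autGroup Q)).map
              (QuotientGroup.mk' ((Inn Q).subgroupOf (F.autGroup Q))) = ⊥ by
                rw [Subgroup.map_eq_bot_iff, QuotientGroup.ker_mk']; exact hle,
              Subgroup.index_bot] at h0
            exact h0 hdvd)
      -- the automorphisms fixing the powers of the centre of `Q`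
      let K : Subgroup (F.autGroup Q) :=
        { carrier := {β | ∀ v : Q, (∀ y : Q, y * v = v * y) →
            (β : MulAut Q) (v ^ p ^ n) = v ^ p ^ n}
          one_mem' := fun v _ => rfl
          mul_mem' := fun {a b} ha hb v hv => by
            rw [Subgroup.coe_mul, MulAut.mul_apply, hb v hv, ha v hv]
          inv_mem' := fun {a} ha v hv => by
            rw [Subgroup.coe_inv]
            conv_lhs => rw [← ha v hv]
            exact MulAut.inv_apply_self _ _ _ }
      haveI hKn : K.Normal := ⟨fun b hb a v hv => by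
        have hv' : ∀ y : Q, y * (a : MulAut Q)⁻¹ v = (a : MulAut Q)⁻¹ v * y := fun y => by
          refine (a : MulAut Q).injective ?_
          simp [hv]
        show (a : MulAut Q) ((b : MulAut Q) ((a : MulAut Q)⁻¹ (v ^ p ^ n))) = v ^ p ^ n
        rw [map_pow, hb _ hv', ← map_pow]
        exact MulAut.apply_inv_self _ _ _⟩
      obtain ⟨g₀, hg₀, hg₀Q⟩ := SetLike.lt_iff_le_and_exists.1 (lt_normalizerIn hS hQlt) |>.2
      have hex : ∃ k : ℕ, g₀ ^ p ^ k ∈ Q := by
        obtain ⟨k, hk⟩ := hS ⟨g₀, hg₀.1⟩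
        refine ⟨k, ?_⟩
        rw [show g₀ ^ p ^ k = ((⟨g₀, hg₀.1⟩ ^ p ^ k : S) : Ω) from rfl, hk]
        exact Q.one_mem
      obtain ⟨k, hk⟩ : ∃ k, Nat.find hex = k + 1 := Nat.exists_eq_succ_of_ne_zero fun e => hg₀Q
        (by have := Nat.find_spec hex; rwa [e, pow_zero, pow_one] at this)
      set g := g₀ ^ p ^ k with hgdef
      have hgQ : g ∉ Q := Nat.find_min hex (by omega)
      have hgpQ : g ^ p ∈ Q := by
        rw [hgdef, ← pow_mul, ← pow_succ, ← hk]; exact Nat.find_spec hex
      have hgN : g ∈ normalizerIn S Q := pow_mem hg₀ _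
      let c : F.autGroup Q := ⟨Q.normalizerMonoidHom ⟨g, hgN.2⟩, autInducedBy_le_autGroup F hQS
        (mem_autInducedBy.2 ⟨g, hgN.1, fun x => rfl⟩)⟩
      have hconj : ∀ v ∈ Q, g * v * g⁻¹ ∈ Q := fun v hv =>
        (Subgroup.mem_normalizer_iff.1 hgN.2 v).1 hv
      have hcK : c ∈ K := by
        intro v hv
        refine Subtype.ext ?_
        show g * ((v : Ω) ^ p ^ n) * g⁻¹ = (v : Ω) ^ p ^ n
        refine conj_pow_eq_of_nilpotent Fact.out (V := centralizerIn Q Q) ?_ ?_ ?_
          (fun i => Subgroup.lowerCentralSeries S i) ?_ ?_ hcl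
          (mem_centerIn.2 ⟨v.2, fun y hy => congrArg Subtype.val (hv ⟨y, hy⟩)⟩)
        · exact fun x hx y hy => (mem_centerIn.1 hy).2 x (mem_centerIn.1 hx).1
        · intro x hx
          obtain ⟨hx1, hx2⟩ := mem_centerIn.1 hx
          refine mem_centerIn.2 ⟨hconj x hx1, fun y hy => ?_⟩
          have hy' : g⁻¹ * y * g ∈ Q :=
            (Subgroup.mem_normalizer_iff.1 hgN.2 _).2 (by simpa [mul_assoc] using hy)
          have h1 := hx2 _ hy'
          calc y * (g * x * g⁻¹) = g * (g⁻¹ * y * g * x) * g⁻¹ := by group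
            _ = g * (x * (g⁻¹ * y * g)) * g⁻¹ := by rw [h1]
            _ = g * x * g⁻¹ * y := by group
        · intro x hx
          rw [(mem_centerIn.1 hx).2 _ hgpQ, mul_inv_cancel_right]
        · intro x hx
          exact hQS (mem_centerIn.1 hx).1
        · intro i x hx
          rw [← commutatorElement_inv, Subgroup.lowerCentralSeries_succ]
          exact inv_mem (Subgroup.commutator_mem_commutator hx hgN.1)
      have hcI : (c : MulAut Q) ∉ Inn Q := by
        rintro ⟨y, hy⟩
        refine hgQ ?_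
        have hcz : (y : Ω)⁻¹ * g ∈ centralizerIn S Q := by
          refine mem_centralizerIn.2 ⟨S.mul_mem (S.inv_mem (hQS y.2)) hgN.1, fun x hx => ?_⟩
          have h2 : (y : Ω) * x * (y : Ω)⁻¹ = g * x * g⁻¹ :=
            congrArg (fun β : MulAut Q => ((β ⟨x, hx⟩ : Q) : Ω)) hy
          calc x * ((y : Ω)⁻¹ * g) = (y : Ω)⁻¹ * ((y : Ω) * x * (y : Ω)⁻¹) * g := by group
            _ = (y : Ω)⁻¹ * (g * x * g⁻¹) * g := by rw [h2]
            _ = (y : Ω)⁻¹ * g * x := by group
        rw [← mul_inv_cancel_left (y : Ω) g]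
        exact Q.mul_mem y.2 (centralizerIn_le_of_centric hQ.1 hcz)
      obtain ⟨κ, hκ, η, hη, hαe⟩ := exists_mul_extAuts hS hF hQ.2.1 K hcK
        (mem_autInducedBy.2 ⟨g, hgN.1, fun x => rfl⟩) hcI ⟨α, hα⟩
      have hαe' : α = (κ : MulAut Q) * η := congrArg Subtype.val hαe
      obtain ⟨R, f, hQR, hf, hfe⟩ := mem_extAuts.1 hη
      haveI := finite_of_le hf.source_le
      obtain ⟨f', hf', hf'1, hf'W⟩ := IH R f hf (card_lt_of_lt hQR)
      refine ⟨autFun α, by rw [sup_eq_left.2 hWQ]; exact (mem_autGroup hQS).1 hα, fun x hx => rfl,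
        hgen ((mem_autGroup hQS).1 hα) hWQ fun z hz => ?_⟩
      have hzQ : z ∈ Q := centralizerIn_le_of_centric hQ.1
        (mem_centralizerIn.2 ⟨hz.1, fun y hy => Subgroup.mem_centralizer_iff.1 hz.2 y (hQS hy)⟩)
      have hzW : z ^ p ^ n ∈ W := hsub z hz
      -- `η` carries the centre into the centre of `Q`
      have hv : ∀ y : Q, y * (η : MulAut Q) ⟨z, hzQ⟩ = (η : MulAut Q) ⟨z, hzQ⟩ * y := fun y => by
        refine ((η : MulAut Q)⁻¹).injective ?_
        rw [map_mul, map_mul, MulAut.inv_apply_self]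
        exact Subtype.ext (Subgroup.mem_centralizer_iff.1 hz.2 _ (hQS (Subtype.mem _)))
      have e : autFun α (z ^ p ^ n) = f' (z ^ p ^ n) := by
        rw [hαe', hf'1 _ (hQR.le (hWQ hzW)), hfe _ (hWQ hzW)]
        rw [show z ^ p ^ n = ((⟨z, hzQ⟩ ^ p ^ n : Q) : Ω) from rfl, autFun_coe, autFun_coe,
          MulAut.mul_apply, map_pow (η : MulAut Q), hκ _ hv]
      rw [e]
      exact hf'W _ hzW
  haveI := finite_of_le hWS
  exact ⟨g, hg, hg1, Subgroup.eq_of_le_of_card_ge (fimg_le hgW)
    (hg.res le_sup_right).card_fimg.ge⟩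

end

/-- The exponent of a group of class `c` divides the `c`-th power of that of its centre. -/
theorem pow_eq_one_of_center {G : Type*} [Group G] {c m : ℕ}
    (hc : Subgroup.lowerCentralSeries (⊤ : Subgroup G) c = ⊥)
    (hz : ∀ z ∈ Subgroup.center G, z ^ m = 1) (x : G) : x ^ m ^ c = 1 := by
  have h1 : ∀ i ≤ c, Subgroup.lowerCentralSeries (⊤ : Subgroup G) (c - i) ≤
      Subgroup.upperCentralSeries G i := by
    intro i
    induction i with
    | zero => intro _; rw [Nat.sub_zero, hc]; exact bot_le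
    | succ i ih =>
      intro hi x hx
      rw [Subgroup.mem_upperCentralSeries_succ_iff]
      intro y
      refine ih (by omega) ?_
      rw [show c - i = c - (i + 1) + 1 by omega, Subgroup.lowerCentralSeries_succ]
      exact Subgroup.commutator_mem_commutator hx (Subgroup.mem_top y)
  have h2 : ∀ i, ∀ x ∈ Subgroup.upperCentralSeries G (i + 1),
      x ^ m ∈ Subgroup.upperCentralSeries G i := by
    intro i
    induction i with
    | zero =>
      intro x hx
      rw [zero_add, Subgroup.upperCentralSeries_one] at hx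
      rw [Subgroup.upperCentralSeries_zero, Subgroup.mem_bot]
      exact hz x hx
    | succ i ih =>
      intro x hx
      rw [Subgroup.mem_upperCentralSeries_succ_iff] at hx ⊢
      intro y
      set N := Subgroup.upperCentralSeries G i
      have hm : ((⁅x, y⁆ : G) : G ⧸ N) ^ m = 1 := by
        rw [← QuotientGroup.mk_pow, QuotientGroup.eq_one_iff]
        exact ih _ (hx y)
      have hcen : ∀ q : G ⧸ N, Commute ((⁅x, y⁆ : G) : G ⧸ N) q := by
        intro q
        obtain ⟨t, rfl⟩ := QuotientGroup.mk'_surjective N q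
        have := Subgroup.mem_upperCentralSeries_succ_iff.1 (hx y) t
        rw [← QuotientGroup.eq_one_iff, ← QuotientGroup.mk'_apply, map_commutatorElement,
          commutatorElement_eq_one_iff_mul_comm] at this
        exact this
      rw [← QuotientGroup.eq_one_iff, ← QuotientGroup.mk'_apply, map_commutatorElement,
        commutatorElement_eq_one_iff_mul_comm, map_pow]
      set X := QuotientGroup.mk' N x
      set Y := QuotientGroup.mk' N y
      have hX : X * Y = ((⁅x, y⁆ : G) : G ⧸ N) * (Y * X) := by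
        rw [← QuotientGroup.mk'_apply, map_commutatorElement]
        show X * Y = X * Y * X⁻¹ * Y⁻¹ * (Y * X)
        group
      have e : Y⁻¹ * X * Y = ((⁅x, y⁆ : G) : G ⧸ N) * X := by
        calc Y⁻¹ * X * Y = Y⁻¹ * (X * Y) := mul_assoc _ _ _
          _ = Y⁻¹ * ((⁅x, y⁆ : G) : G ⧸ N) * (Y * X) := by rw [hX, mul_assoc]
          _ = ((⁅x, y⁆ : G) : G ⧸ N) * Y⁻¹ * (Y * X) := by rw [(hcen Y⁻¹).eq]
          _ = _ := by group
      have e2 : (Y⁻¹ * X * Y) ^ m = Y⁻¹ * X ^ m * Y := by
        have := conj_pow (i := m) (a := Y⁻¹) (b := X)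
        rwa [inv_inv] at this
      rw [e, (hcen X).mul_pow, hm, one_mul] at e2
      calc X ^ m * Y = Y * (Y⁻¹ * X ^ m * Y) := by group
        _ = Y * X ^ m := by rw [← e2]
  have h3 : ∀ i, ∀ x ∈ Subgroup.upperCentralSeries G i, x ^ m ^ i = 1 := by
    intro i
    induction i with
    | zero => intro x hx; rw [Subgroup.upperCentralSeries_zero, Subgroup.mem_bot] at hx; simp [hx]
    | succ i ih => intro x hx; rw [pow_succ', pow_mul]; exact ih _ (h2 i x hx)
  refine h3 c x (h1 c le_rfl ?_)
  rw [Nat.sub_self]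
  exact Subgroup.mem_top x

end Cfsg.Agent.Fus
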