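import Cfsg.Agent.Lib.Fus.Normal
import Cfsg.Agent.Lib.Fus.Saturation

/-!
The normalizer system of a fully normalized subgroup is saturated.
-/

set_option autoImplicit false
set_option linter.style.haveILetI false

open scoped Classical

namespace Cfsg.Agent.Fus

open Subgroup FusionSystem

variable {Ω : Type*} [Group Ω] {S : Subgroup Ω} {F : FusionSystem S}

theorem isMap_normalizerSystem {U : Subgroup Ω} (hU : U ≤ S) {P : Subgroup Ω} {f : Ω → Ω} :
    IsMap (normalizerSystem F U hU) P f ↔ P ≤ normalizerIn S U ∧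
      (∀ x ∈ P, f x ∈ normalizerIn S U) ∧
      ∃ g, IsMap F (P ⊔ U) g ∧ (∀ x ∈ P, g x = f x) ∧ fimg g U = U := by
  constructor
  · rintro ⟨φ, hφ, e⟩
    obtain ⟨h1, h2, g, hg, hg1, hg2⟩ := mem_normalizerHom.1 hφ
    exact ⟨h1, fun x hx => e ⟨x, hx⟩ ▸ h2 ⟨x, hx⟩, g, hg,
      fun x hx => (hg1 ⟨x, hx⟩).trans (e ⟨x, hx⟩), hg2⟩
  · rintro ⟨h1, h2, g, hg, hg1, hg2⟩
    obtain ⟨φ, hφ, e⟩ := (hg.res le_sup_left).exists_hom
    exact ⟨φ, mem_normalizerHom.2 ⟨h1, fun x => by rw [e, hg1 x x.2]; exact h2 x x.2, g, hg,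
      fun x => (e x).symm, hg2⟩, fun x => (e x).trans (hg1 x x.2)⟩

theorem normalizerSystem_isSubsystemOf {U : Subgroup Ω} (hU : U ≤ S) :
    (normalizerSystem F U hU).IsSubsystemOf F := fun _ _ hφ => hφ.1

/-- Number of elements of a subgroup of `N_S(Q)` containing `C_S(Q)`. -/
theorem card_eq_card_autInducedBy_mul [Finite S] {Q H : Subgroup Ω}
    (hH : H ≤ normalizerIn S Q) (hC : centralizerIn S Q ≤ H) :
    Nat.card H = Nat.card (autInducedBy H Q) * Nat.card (centralizerIn S Q) := by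
  haveI : Finite H := finite_of_le (hH.trans inf_le_left)
  let θ : H →* MulAut Q := Q.normalizerMonoidHom.comp (Subgroup.inclusion (hH.trans inf_le_right))
  have hr : θ.range = autInducedBy H Q := by
    ext α
    rw [mem_autInducedBy]
    constructor
    · rintro ⟨g, rfl⟩
      exact ⟨g, g.2, fun x => rfl⟩
    · rintro ⟨g, hg, e⟩
      exact ⟨⟨g, hg⟩, MulEquiv.ext fun x => Subtype.ext (e x).symm⟩
  have hk : θ.ker = (centralizerIn S Q).subgroupOf H := by
    ext g
    rw [MonoidHom.mem_ker, Subgroup.mem_subgroupOf]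
    constructor
    · intro h
      refine mem_centralizerIn.2 ⟨(hH g.2).1, fun x hx => ?_⟩
      have h1 : (g : Ω) * x * (g : Ω)⁻¹ = x :=
        congrArg (fun α : MulAut Q => ((α ⟨x, hx⟩ : Q) : Ω)) h
      calc x * (g : Ω) = (g : Ω) * x * (g : Ω)⁻¹ * (g : Ω) := by rw [h1]
        _ = (g : Ω) * x := by group
    · intro h
      refine MulEquiv.ext fun x => Subtype.ext ?_
      show (g : Ω) * x * (g : Ω)⁻¹ = x
      rw [← (mem_centralizerIn.1 h).2 x x.2, mul_inv_cancel_right]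
  rw [← hr, Subgroup.card_eq_card_quotient_mul_card_subgroup θ.ker,
    Nat.card_congr (QuotientGroup.quotientKerEquivRange θ).toEquiv, hk,
    Nat.card_congr (Subgroup.subgroupOfEquivOfLe hC).toEquiv]

/-- The automorphisms stabilizing a set. -/
def stabIn (Q X : Subgroup Ω) : Subgroup (MulAut Q) where
  carrier := {α | ∀ x : Q, ((α x : Q) : Ω) ∈ X ↔ (x : Ω) ∈ X}
  one_mem' := fun _ => Iff.rfl
  mul_mem' := fun {a b} ha hb x => (ha (b x)).trans (hb x)
  inv_mem' := fun {a} ha x => by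
    conv_rhs => rw [← MulAut.apply_inv_self _ a x]
    exact (ha _).symm

theorem stabIn_of_conj {Q X : Subgroup Ω} {α : MulAut Q} {g : Ω}
    (h : ∀ x : Q, ((α x : Q) : Ω) = g * (x : Ω) * g⁻¹)
    (hg : g ∈ Subgroup.normalizer (X : Set Ω)) : α ∈ stabIn Q X := fun x => by
  rw [h x]; exact (Subgroup.mem_normalizer_iff.1 hg x).symm

theorem mem_normalizer_of_stabIn {Q X : Subgroup Ω} (hX : X ≤ Q) {α : MulAut Q} {g : Ω}
    (h : ∀ x : Q, ((α x : Q) : Ω) = g * (x : Ω) * g⁻¹)
    (hα : α ∈ stabIn Q X) : g ∈ Subgroup.normalizer (X : Set Ω) := by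
  refine mem_normalizer_of_forall (fun x hx => ?_) fun x hx => ?_
  · have := (hα ⟨x, hX hx⟩).2 hx
    rwa [h] at this
  · obtain ⟨y, hy⟩ := α.surjective ⟨x, hX hx⟩
    have h1 := h y
    rw [hy] at h1
    have : (y : Ω) ∈ X := (hα y).1 (by rw [hy]; exact hx)
    rwa [show g⁻¹ * x * g = y by rw [show x = g * (y : Ω) * g⁻¹ from h1]; group]

/-- An isomorphism of the system transports stabilizers. -/
theorem stabIn_congr {Q Q' X : Subgroup Ω} (e : Q ≃* Q') {f : Ω → Ω} (he : ∀ x : Q, (e x : Ω) = f x)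
    {P : Subgroup Ω} (hf : IsMap F Q f) (hX : X ≤ Q) (hXP : fimg f X = P) {α : MulAut Q}
    (hα : α ∈ stabIn Q X) : MulAut.congr e α ∈ stabIn Q' P := by
  have key : ∀ z : Q, ((e z : Q') : Ω) ∈ P ↔ (z : Ω) ∈ X := by
    intro z
    rw [← hXP, he, (hf.res hX).mem_fimg_iff]
    exact ⟨fun ⟨y, hy, e'⟩ => hf.injOn (hX hy) z.2 e' ▸ hy, fun hz => ⟨z, hz, rfl⟩⟩
  intro y
  conv_rhs => rw [← e.apply_symm_apply y]
  rw [key, show MulAut.congr e α y = e (α (e.symm y)) from rfl, key]
  exact hα _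

section

variable [Finite S] {p : ℕ} [Fact p.Prime]

/-- The automorphisms of `Q` stabilizing `U` and `P`. -/
def pairAuts (F : FusionSystem S) (Q U P : Subgroup Ω) : Subgroup (MulAut Q) :=
  F.autGroup Q ⊓ stabIn Q U ⊓ stabIn Q P

theorem autInducedBy_le_pairAuts (F : FusionSystem S) {Q U P H : Subgroup Ω} (hQ : Q ≤ S)
    (hH : H ≤ S) (hU : H ≤ Subgroup.normalizer (U : Set Ω))
    (hP : H ≤ Subgroup.normalizer (P : Set Ω)) : autInducedBy H Q ≤ pairAuts F Q U P := by
  intro α hα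
  obtain ⟨g, hg, e⟩ := mem_autInducedBy.1 hα
  exact ⟨⟨autInducedBy_le_autGroup F hQ (autInducedBy_mono hH Q hα), stabIn_of_conj e (hU hg)⟩,
    stabIn_of_conj e (hP hg)⟩

theorem normalizer_sup_le {U P : Subgroup Ω} {g : Ω} (hU : g ∈ Subgroup.normalizer (U : Set Ω))
    (hP : g ∈ Subgroup.normalizer (P : Set Ω)) :
    g ∈ Subgroup.normalizer ((P ⊔ U : Subgroup Ω) : Set Ω) := by
  have key : ∀ {g : Ω}, g ∈ Subgroup.normalizer (U : Set Ω) → g ∈ Subgroup.normalizer (P : Set Ω) →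
      ∀ x ∈ P ⊔ U, g * x * g⁻¹ ∈ P ⊔ U := by
    intro g hU hP x hx
    rw [← Subgroup.closure_eq P, ← Subgroup.closure_eq U, ← Subgroup.closure_union] at hx
    induction hx using Subgroup.closure_induction with
    | mem y hy =>
      rcases hy with hy | hy
      · exact Subgroup.mem_sup_left ((Subgroup.mem_normalizer_iff.1 hP y).1 hy)
      · exact Subgroup.mem_sup_right ((Subgroup.mem_normalizer_iff.1 hU y).1 hy)
    | one => simp
    | mul a b _ _ iha ihb =>
      rw [show g * (a * b) * g⁻¹ = (g * a * g⁻¹) * (g * b * g⁻¹) by group]; exact mul_mem iha ihb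
    | inv a _ iha =>
      rw [show g * a⁻¹ * g⁻¹ = (g * a * g⁻¹)⁻¹ by group]; exact inv_mem iha
  refine mem_normalizer_of_forall (key hU hP) fun x hx => ?_
  simpa using key (inv_mem hU) (inv_mem hP) x hx

/-- The key property of a subgroup fully normalized in the normalizer system. -/
theorem sylow_pairAuts (hS : IsPGroup p S) (hF : F.IsSaturated p) {U : Subgroup Ω}
    (hU : F.IsFullyNormalized U) {P Q : Subgroup Ω}
    (hP : (normalizerSystem F U hU.1).IsFullyNormalized P) (hQdef : Q = P ⊔ U) :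
    (∃ T : Sylow p (pairAuts F Q U P), (T : Subgroup (pairAuts F Q U P)) =
      (autInducedBy (normalizerIn (normalizerIn S U) P) Q).subgroupOf (pairAuts F Q U P)) ∧
    F.IsFullyCentralized Q := by
  set R := normalizerIn S U with hR
  set H := normalizerIn R P with hH
  have hPR : P ≤ R := hP.1
  have hQS : Q ≤ S := hQdef ▸ sup_le (hPR.trans inf_le_left) hU.1
  haveI := finite_of_le hQS
  have hUQ : U ≤ Q := hQdef ▸ le_sup_right
  have hPQ : P ≤ Q := hQdef ▸ le_sup_left
  have hQU : Q ≤ Subgroup.normalizer (U : Set Ω) :=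
    hQdef ▸ sup_le (hPR.trans inf_le_right) Subgroup.le_normalizer
  have hHQ : H ≤ normalizerIn S Q := fun g hg =>
    ⟨hg.1.1, hQdef ▸ normalizer_sup_le hg.1.2 hg.2⟩
  have hYA : autInducedBy H Q ≤ pairAuts F Q U P :=
    autInducedBy_le_pairAuts F hQS (fun g (hg : g ∈ H) => hg.1.1) (fun g (hg : g ∈ H) => hg.1.2)
      fun g (hg : g ∈ H) => hg.2
  have hCH : centralizerIn S Q ≤ H := fun c hc => by
    obtain ⟨hcS, hcc⟩ := mem_centralizerIn.1 hc
    have : ∀ X ≤ Q, c ∈ Subgroup.normalizer (X : Set Ω) := fun X hX =>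
      Subgroup.centralizer_le_normalizer _
        (Subgroup.mem_centralizer_iff.2 fun x hx => hcc x (hX hx))
    exact ⟨⟨hcS, this U hUQ⟩, this P hPQ⟩
  have hYp : IsPGroup p ((autInducedBy H Q).subgroupOf (pairAuts F Q U P)) :=
    ((isPGroup_autInducedBy hS Q).to_le (autInducedBy_mono (fun g (hg : g ∈ H) => hg.1.1) Q)).comap_of_injective
      _ Subtype.coe_injective
  obtain ⟨B, hB⟩ := hYp.exists_le_sylow
  obtain ⟨Q', hQ', hQ'n⟩ := exists_fullyNormalized F hQS
  obtain ⟨u, hu, huQ⟩ := isConj_iff.1 hQ'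
  obtain ⟨e, he, heA⟩ := exists_mulEquiv hu huQ
  haveI := finite_of_le hQ'n.1
  obtain ⟨-, T, hT⟩ := fullyAutomized_of_fullyNormalized hS hF hQ'n
  -- the image of `B` in `Aut_F(Q')`
  let Y : Subgroup (F.autGroup Q') := (((B : Subgroup (pairAuts F Q U P)).map
    (pairAuts F Q U P).subtype).map (MulAut.congr e).toMonoidHom).subgroupOf (F.autGroup Q')
  have hY : IsPGroup p Y := IsPGroup.comap_subtype ((B.2.map _).map _)
  obtain ⟨T', hT'⟩ := hY.exists_le_sylow
  obtain ⟨a, ha⟩ := MulAction.exists_smul_eq (F.autGroup Q') T' T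
  let u' : Ω → Ω := fun x => autFun (a : MulAut Q') (u x)
  have hu' : IsMap F Q u' :=
    hu.comp ((mem_autGroup hQ'n.1).1 a.2) fun x hx => huQ ▸ apply_mem_fimg u hx
  have hu'Q : fimg u' Q = Q' := by
    rw [show u' = fun x => autFun (a : MulAut Q') (u x) from rfl, hu.fimg_comp, huQ, fimg_autFun]
  let e' : Q ≃* Q' := e.trans (a : MulAut Q')
  have he' : ∀ x : Q, (e' x : Ω) = u' x := fun x => by
    show (((a : MulAut Q') (e x) : Q') : Ω) = autFun (a : MulAut Q') (u x)
    rw [← he, autFun_coe]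
  let B' : Subgroup (MulAut Q') := ((B : Subgroup (pairAuts F Q U P)).map
    (pairAuts F Q U P).subtype).map (MulAut.congr e').toMonoidHom
  have hB'S : B' ≤ autInducedBy S Q' := by
    rintro _ ⟨_, ⟨b, hb, rfl⟩, rfl⟩
    have hy : MulAut.congr e (b : MulAut Q) ∈ F.autGroup Q' := (heA _).1 b.2.1.1
    have hyY : (⟨_, hy⟩ : F.autGroup Q') ∈ (T' : Subgroup (F.autGroup Q')) :=
      hT' (Subgroup.mem_subgroupOf.2 ⟨_, ⟨b, hb, rfl⟩, rfl⟩)
    have hyT : a * ⟨_, hy⟩ * a⁻¹ ∈ (T : Subgroup (F.autGroup Q')) := by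
      rw [← ha]; exact ⟨_, hyY, rfl⟩
    rw [hT, Subgroup.mem_subgroupOf] at hyT
    convert hyT using 1
    exact MulEquiv.ext fun x => rfl
  have hstab : ∀ β ∈ B', β ∈ stabIn Q' (fimg u' U) ∧ β ∈ stabIn Q' (fimg u' P) := by
    rintro _ ⟨_, ⟨b, -, rfl⟩, rfl⟩
    exact ⟨stabIn_congr e' he' hu' hUQ rfl b.2.1.2, stabIn_congr e' he' hu' hPQ rfl b.2.2⟩
  let M : Subgroup Ω := normalizerIn S Q' ⊓
    (B'.comap Q'.normalizerMonoidHom).map (Subgroup.normalizer (Q' : Set Ω)).subtype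
  have hMmem : ∀ g ∈ M, g ∈ normalizerIn S Q' ∧ ∃ h : g ∈ Subgroup.normalizer (Q' : Set Ω),
      Q'.normalizerMonoidHom ⟨g, h⟩ ∈ B' := by
    rintro g ⟨hg, x, hx, rfl⟩
    exact ⟨hg, x.2, hx⟩
  have hCM : centralizerIn S Q' ≤ M := fun c hc => by
    have hcN := centralizerIn_le_normalizerIn Q' hc
    refine ⟨hcN, ⟨c, hcN.2⟩, ?_, rfl⟩
    show Q'.normalizerMonoidHom ⟨c, hcN.2⟩ ∈ B'
    rw [show Q'.normalizerMonoidHom ⟨c, hcN.2⟩ = 1 from MulEquiv.ext fun x => Subtype.ext (by
      show c * (x : Ω) * c⁻¹ = x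
      rw [← (mem_centralizerIn.1 hc).2 x x.2, mul_inv_cancel_right])]
    exact one_mem _
  have hMB : autInducedBy M Q' = B' := by
    refine le_antisymm (fun α hα => ?_) fun α hα => ?_
    · obtain ⟨g, hg, hge⟩ := mem_autInducedBy.1 hα
      obtain ⟨-, h, hB'⟩ := hMmem g hg
      rwa [show α = Q'.normalizerMonoidHom ⟨g, h⟩ from
        MulEquiv.ext fun x => Subtype.ext (hge x)]
    · obtain ⟨g, hg, hge⟩ := mem_autInducedBy.1 (hB'S hα)
      have hn := mem_normalizer_of_conj_aut hge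
      refine mem_autInducedBy.2 ⟨g, ⟨⟨hg, hn⟩, ⟨g, hn⟩, ?_, rfl⟩, hge⟩
      show Q'.normalizerMonoidHom ⟨g, hn⟩ ∈ B'
      rwa [show Q'.normalizerMonoidHom ⟨g, hn⟩ = α from
        MulEquiv.ext fun x => Subtype.ext (hge x).symm]
  -- move back to `R`
  have hU' : F.IsConj (fimg u' U) U := isConj_symm (hu'.res hUQ).isConj
  obtain ⟨θ, hθ, hθU, hθN⟩ := exists_map_to_fullyNormalized hS hF hU hU'
  have hUQ' : fimg u' U ≤ Q' := hu'Q ▸ fimg_mono u' hUQ
  have hPQ' : fimg u' P ≤ Q' := hu'Q ▸ fimg_mono u' hPQ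
  have hMU : M ≤ normalizerIn S (fimg u' U) := fun g hg => by
    obtain ⟨hgN, h, hB'⟩ := hMmem g hg
    exact ⟨hgN.1, mem_normalizer_of_stabIn hUQ' (fun x => rfl) (hstab _ hB').1⟩
  have hu'N : ∀ x ∈ Q, u' x ∈ normalizerIn S (fimg u' U) := fun x hx =>
    hu'.map_normalizerIn hUQ hx (hQU hx)
  let ψ : Ω → Ω := fun x => θ (u' x)
  have hψ : IsMap F Q ψ := hu'.comp hθ hu'N
  have hψU : fimg ψ U = U := by
    rw [show ψ = fun x => θ (u' x) from rfl, (hu'.res hUQ).fimg_comp, hθU]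
  have hψP : IsMap (normalizerSystem F U hU.1) P ψ :=
    (isMap_normalizerSystem hU.1).2 ⟨hPR, fun x hx => hθN _ (hu'N x (hPQ hx)), ψ, hQdef ▸ hψ,
      fun _ _ => rfl, hψU⟩
  have hP'eq : fimg θ (fimg u' P) = fimg ψ P := ((hu'.res hPQ).fimg_comp θ).symm
  have hsub : fimg θ M ≤ normalizerIn R (fimg ψ P) := fimg_le fun g hg => by
    obtain ⟨hgN, h, hB'⟩ := hMmem g hg
    refine ⟨hθN g (hMU hg), ?_⟩
    rw [← hP'eq]
    exact (hθ.map_normalizerIn
      (fimg_le fun x hx => hu'N x (hPQ hx)) (hMU hg)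
      (mem_normalizer_of_stabIn hPQ' (fun x => rfl) (hstab _ hB').2)).2
  haveI : Finite ↥(normalizerIn R (fimg ψ P)) :=
    finite_of_le (S := S) (inf_le_left.trans inf_le_left)
  have h1 : Nat.card M ≤ Nat.card H :=
    calc Nat.card M = Nat.card (fimg θ M) := (hθ.res hMU).card_fimg.symm
      _ ≤ Nat.card ↥(normalizerIn R (fimg ψ P)) := Subgroup.card_le_of_le hsub
      _ ≤ Nat.card H := hP.2 _ hψP.isConj
  rw [card_eq_card_autInducedBy_mul inf_le_left hCM, hMB,
    card_eq_card_autInducedBy_mul hHQ hCH] at h1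
  have hB'card : Nat.card B' = Nat.card (B : Subgroup (pairAuts F Q U P)) := by
    rw [show B' = _ from rfl, Subgroup.card_map_of_injective (MulAut.congr e').injective,
      Subgroup.card_map_of_injective (pairAuts F Q U P).subtype_injective]
  rw [hB'card] at h1
  have hYle : Nat.card (autInducedBy H Q) ≤ Nat.card (B : Subgroup (pairAuts F Q U P)) := by
    rw [← Nat.card_congr (Subgroup.subgroupOfEquivOfLe hYA).toEquiv]
    exact Subgroup.card_le_of_le hB
  have hCle := (fullyCentralized_of_fullyNormalized hS hF hQ'n).2 Q (isConj_symm hQ')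
  have hCpos : 0 < Nat.card ↥(centralizerIn S Q') := by
    haveI : Finite ↥(centralizerIn S Q') := finite_of_le (S := S) inf_le_left
    exact Nat.card_pos
  have hBeq : Nat.card (B : Subgroup (pairAuts F Q U P)) ≤ Nat.card (autInducedBy H Q) :=
    Nat.le_of_mul_le_mul_right (h1.trans (Nat.mul_le_mul_left _ hCle)) hCpos
  have hYpos : 0 < Nat.card (autInducedBy H Q) := Nat.card_pos
  have hCeq : Nat.card ↥(centralizerIn S Q') ≤ Nat.card ↥(centralizerIn S Q) :=
    Nat.le_of_mul_le_mul_left ((Nat.mul_le_mul_right _ hYle).trans h1) hYpos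
  refine ⟨⟨B, (Subgroup.eq_of_le_of_card_ge hB ?_).symm⟩, hQS, fun Z hZ => ?_⟩
  · rw [Nat.card_congr (Subgroup.subgroupOfEquivOfLe hYA).toEquiv]
    exact hBeq
  · exact ((fullyCentralized_of_fullyNormalized hS hF hQ'n).2 Z
      (isConj_trans (isConj_symm hQ') hZ)).trans hCeq

/-- Puig's theorem: the normalizer system of a fully normalized subgroup is saturated. -/
theorem isSaturated_normalizerSystem (hS : IsPGroup p S) (hF : F.IsSaturated p) {U : Subgroup Ω}
    (hU : F.IsFullyNormalized U) : (normalizerSystem F U hU.1).IsSaturated p := by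
  set R := normalizerIn S U with hR
  set E := normalizerSystem F U hU.1 with hE
  haveI : Finite R := finite_of_le (S := S) inf_le_left
  have hRp : IsPGroup p R := hS.to_le inf_le_left
  have hUR : U ≤ R := le_normalizerIn hU.1
  refine saturated_of_receptive hRp ?_ fun P hP => ?_
  · -- `R` is fully automized
    obtain ⟨⟨T, hT⟩, -⟩ := sylow_pairAuts hS hF hU (fullyNormalized_self E)
      (Q := R) (sup_eq_left.2 hUR).symm
    have hAeq : pairAuts F R U R = E.autGroup R := by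
      ext α
      constructor
      · rintro ⟨⟨h1, h2⟩, -⟩
        refine (mem_autGroup le_rfl).2 ((isMap_normalizerSystem hU.1).2 ⟨le_rfl,
          fun x hx => autFun_mem α hx, autFun α,
          by rw [sup_eq_left.2 hUR]; exact (mem_autGroup inf_le_left).1 h1, fun x hx => rfl, ?_⟩)
        haveI := finite_of_le hU.1
        refine Subgroup.eq_of_le_of_card_ge (fimg_le fun x hx => ?_)
          (((mem_autGroup (F := F) inf_le_left).1 h1).res hUR).card_fimg.ge
        rw [show x = ((⟨x, hUR hx⟩ : R) : Ω) from rfl, autFun_coe]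
        exact (h2 ⟨x, hUR hx⟩).2 hx
      · intro hα
        obtain ⟨-, -, g, hg, hg1, hg2⟩ := (isMap_normalizerSystem hU.1).1
          ((mem_autGroup le_rfl).1 hα)
        refine ⟨⟨(mem_autGroup inf_le_left).2 ((hg.res le_sup_left).congr hg1), fun x => ?_⟩,
          fun x => ⟨fun _ => x.2, fun _ => (α x).2⟩⟩
        rw [← autFun_coe α x, ← hg1 x x.2]
        constructor
        · intro h
          rw [← hg2, (hg.res le_sup_right).mem_fimg_iff] at h
          obtain ⟨y, hy, hyx⟩ := h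
          exact hg.injOn (Subgroup.mem_sup_right hy) (Subgroup.mem_sup_left x.2) hyx ▸ hy
        · intro h
          have := apply_mem_fimg g h
          rwa [hg2] at this
    have hH : normalizerIn R R = R := normalizerIn_self R
    rw [hH] at hT
    refine ⟨le_rfl, ?_⟩
    revert T
    rw [hAeq]
    exact fun T hT => ⟨T, hT⟩
  · -- receptive
    set Q := P ⊔ U with hQ
    set A2 := pairAuts F Q U P with hA2
    set H := normalizerIn R P with hH
    obtain ⟨⟨T, hT⟩, hQc⟩ : (∃ T : Sylow p A2, (T : Subgroup A2) =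
        (autInducedBy H Q).subgroupOf A2) ∧ F.IsFullyCentralized Q :=
      sylow_pairAuts hS hF hU hP rfl
    have hQr := receptive_of_fullyCentralized hS hF hQc
    have hQS := hQc.1
    haveI := finite_of_le hQS
    refine receptive_of hP.1 fun P₀ f hf hfP N hPN hN => ?_
    obtain ⟨hP₀R, -, g, hg, hg1, hgU⟩ := (isMap_normalizerSystem hU.1).1 hf
    set Q₀ := P₀ ⊔ U with hQ₀
    have hgP : fimg g P₀ = P := (fimg_congr hg1).trans hfP
    have hgQ : fimg g Q₀ = Q := by rw [hg.fimg_sup, hgP, hgU]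
    obtain ⟨e, he, heA⟩ := exists_mulEquiv hg hgQ
    -- `A`: automorphisms trivial on `P`
    let A : Subgroup A2 :=
      { carrier := {α | ∀ x : Q, (x : Ω) ∈ P → (α : MulAut Q) x = x}
        one_mem' := fun x _ => rfl
        mul_mem' := fun {a b} ha hb x hx => by
          rw [Subgroup.coe_mul, MulAut.mul_apply, hb x hx, ha x hx]
        inv_mem' := fun {a} ha x hx => by
          rw [Subgroup.coe_inv]
          conv_lhs => rw [← ha x hx]
          exact MulAut.inv_apply_self _ _ _ }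
    haveI hAn : A.Normal := ⟨fun b hb a x hx => by
      show (a : MulAut Q) ((b : MulAut Q) ((a : MulAut Q)⁻¹ x)) = x
      rw [hb _ (((A2.inv_mem a.2).2 x).2 hx)]
      exact MulAut.apply_inv_self _ _ _⟩
    have hNR : N ≤ R := fun x hx => ((hN x).1 hx).1
    have hNP : N ≤ Subgroup.normalizer (P₀ : Set Ω) := fun x hx => ((hN x).1 hx).2.1
    have hNU : N ≤ Subgroup.normalizer (U : Set Ω) := fun x hx => (hNR hx).2
    let Bn : Subgroup A2 := ((autInducedBy N Q₀).map (MulAut.congr e).toMonoidHom).subgroupOf A2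
    have hBnA : ∀ β ∈ autInducedBy N Q₀, MulAut.congr e β ∈ A2 := by
      intro β hβ
      obtain ⟨⟨h1, h2⟩, h3⟩ := autInducedBy_le_pairAuts F hg.source_le
        (hNR.trans inf_le_left) hNU hNP hβ
      exact ⟨⟨(heA β).1 h1, stabIn_congr e he hg le_sup_right hgU h2⟩,
        stabIn_congr e he hg le_sup_left hgP h3⟩
    have hBnp : IsPGroup p Bn := IsPGroup.comap_subtype (((isPGroup_autInducedBy hS Q₀).to_le
      (autInducedBy_mono (hNR.trans inf_le_left) Q₀)).map _)
    let J : Subgroup A2 := A ⊔ (T : Subgroup A2)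
    have hBnJ : Bn ≤ J := by
      intro b hb
      obtain ⟨β, hβ, hβb⟩ := Subgroup.mem_subgroupOf.1 hb
      obtain ⟨x, hx, hxe⟩ := mem_autInducedBy.1 hβ
      obtain ⟨-, hxn, h, hh, hxh⟩ := (hN x).1 hx
      have hhP : h ∈ Subgroup.normalizer (P : Set Ω) := by
        refine mem_normalizer_of_forall ?_ ?_ <;>
          rw [← hfP] <;> intro y hy <;> obtain ⟨z, hz, rfl⟩ := hf.mem_fimg_iff.1 hy
        · rw [← hxh z hz]
          exact apply_mem_fimg f ((Subgroup.mem_normalizer_iff.1 hxn z).1 hz)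
        · have hzx : x⁻¹ * z * x ∈ P₀ := by
            have := (Subgroup.mem_normalizer_iff.1 (Subgroup.inv_mem _ hxn) z).1 hz
            rwa [inv_inv] at this
          have := hxh _ hzx
          rw [show x * (x⁻¹ * z * x) * x⁻¹ = z by group] at this
          rw [show h⁻¹ * f z * h = f (x⁻¹ * z * x) by rw [this]; group]
          exact apply_mem_fimg f hzx
      have hhQ : h ∈ Subgroup.normalizer (Q : Set Ω) := normalizer_sup_le hh.2 hhP
      let c : A2 := ⟨Q.normalizerMonoidHom ⟨h, hhQ⟩, autInducedBy_le_pairAuts F hQS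
        (H := H) (fun y hy => hy.1.1) (fun y hy => hy.1.2) (fun y hy => hy.2)
        (mem_autInducedBy.2 ⟨h, ⟨hh, hhP⟩, fun y => rfl⟩)⟩
      have hcT : c ∈ (T : Subgroup A2) := by
        rw [hT]; exact mem_autInducedBy.2 ⟨h, ⟨hh, hhP⟩, fun y => rfl⟩
      have hbc : c⁻¹ * b ∈ A := by
        intro y hy
        show (c : MulAut Q)⁻¹ ((b : MulAut Q) y) = y
        refine (c : MulAut Q).injective ?_
        rw [MulAut.apply_inv_self, ← hβb]
        refine Subtype.ext ?_
        show ((e (β (e.symm y)) : Q) : Ω) = h * (y : Ω) * h⁻¹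
        obtain ⟨z, hz, hzy⟩ := hf.mem_fimg_iff.1 (hfP.symm ▸ hy : (y : Ω) ∈ fimg f P₀)
        have hey : e.symm y = ⟨z, Subgroup.mem_sup_left hz⟩ := by
          refine e.injective (Subtype.ext ?_)
          rw [e.apply_symm_apply, he, hg1 z hz, hzy]
        have hzx := (Subgroup.mem_normalizer_iff.1 hxn z).1 hz
        rw [hey, he, hxe, hg1 _ hzx, hxh z hz, hzy]
      rw [show b = c * (c⁻¹ * b) by group]
      exact J.mul_mem (Subgroup.mem_sup_right hcT) (Subgroup.mem_sup_left hbc)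
    have hTJ : (T : Subgroup A2) ≤ J := le_sup_right
    obtain ⟨B₁, hB₁⟩ := (hBnp.comap_subtype (H := Bn) (K := J)).exists_le_sylow
    obtain ⟨w, hw⟩ := MulAction.exists_smul_eq J B₁ (T.subtype hTJ)
    obtain ⟨a, ha, t, ht, hat⟩ := Subgroup.mem_sup_of_normal_left.1 (w.2 : (w : A2) ∈ A ⊔ _)
    -- `a' = t⁻¹ a t` conjugates `Bn` into `T`
    set a' : A2 := t⁻¹ * a * t with ha'
    have ha'A : a' ∈ A := by
      have := hAn.conj_mem a ha t⁻¹
      rwa [inv_inv] at this
    have hBnT : ∀ b ∈ Bn, a' * b * a'⁻¹ ∈ (T : Subgroup A2) := by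
      intro b hb
      have h1 : w * ⟨b, hBnJ hb⟩ * w⁻¹ ∈ (T.subtype hTJ : Subgroup J) := by
        rw [← hw]; exact ⟨_, hB₁ hb, rfl⟩
      rw [Sylow.coe_subtype, Subgroup.mem_subgroupOf] at h1
      have h2 := mul_mem (mul_mem (inv_mem ht) h1) ht
      convert h2 using 1
      rw [ha', Subgroup.coe_mul, Subgroup.coe_mul, Subgroup.coe_inv, ← hat]
      group
    let g' : Ω → Ω := fun x => autFun (a' : MulAut Q) (g x)
    have hgm : ∀ x ∈ Q₀, g x ∈ Q := fun x hx => hgQ ▸ apply_mem_fimg g hx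
    have hg' : IsMap F Q₀ g' := hg.comp ((mem_autGroup hQS).1 a'.2.1.1) hgm
    have hg'Q : fimg g' Q₀ = Q := by
      rw [show g' = fun x => autFun (a' : MulAut Q) (g x) from rfl, hg.fimg_comp, hgQ, fimg_autFun]
    have hg'e : ∀ x : Q₀, g' x = (((a' : MulAut Q) (e x) : Q) : Ω) := fun x => by
      show autFun (a' : MulAut Q) (g x) = _
      rw [← he, autFun_coe]
    obtain ⟨θ, hθ, hθe⟩ := receptive_extend hQr hg' hg'Q (N := N ⊔ Q₀) (fun x hx => by
      have hxN : x ∈ extender S Q₀ (Classical.choose hg') := by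
        refine sup_le (fun z hz => ?_) (le_extender (Classical.choose_spec hg').1) hx
        have hzQ : z ∈ Subgroup.normalizer (Q₀ : Set Ω) := normalizer_sup_le (hNU hz) (hNP hz)
        have hβ : Q₀.normalizerMonoidHom ⟨z, hzQ⟩ ∈ autInducedBy N Q₀ :=
          mem_autInducedBy.2 ⟨z, hz, fun y => rfl⟩
        have hb : (⟨_, hBnA _ hβ⟩ : A2) ∈ Bn := Subgroup.mem_subgroupOf.2 ⟨_, hβ, rfl⟩
        have h1 := hBnT _ hb
        rw [hT, Subgroup.mem_subgroupOf] at h1
        obtain ⟨k, hk, hke⟩ := mem_autInducedBy.1 h1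
        refine mem_extender.2 ⟨(hNR hz).1, hzQ, k, hk.1.1, fun y hy => ?_⟩
        have hzy := (Subgroup.mem_normalizer_iff.1 hzQ y).1 hy
        rw [toFun_apply _ hzy, toFun_apply _ hy, (Classical.choose_spec hg').2,
          (Classical.choose_spec hg').2, hg'e ⟨_, hzy⟩, hg'e ⟨y, hy⟩, ← hke]
        simp [MulAut.congr]
        rfl
      obtain ⟨h1, h2, k, hk, hke⟩ := mem_extender.1 hxN
      refine ⟨⟨h1, h2⟩, k, hk, fun y hy => ?_⟩
      have hxy := (Subgroup.mem_normalizer_iff.1 h2 y).1 hy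
      have := hke y hy
      rwa [toFun_apply _ hxy, toFun_apply _ hy, (Classical.choose_spec hg').2,
        (Classical.choose_spec hg').2] at this) le_sup_right
    have hθU : fimg θ U = U := by
      rw [fimg_congr fun x hx => hθe x (Subgroup.mem_sup_right hx)]
      haveI := finite_of_le hU.1
      refine Subgroup.eq_of_le_of_card_ge (fimg_le fun x hx => ?_)
        (hg'.res le_sup_right).card_fimg.ge
      have hx' : g x ∈ U := by
        have := apply_mem_fimg g hx
        rwa [hgU] at this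
      show autFun (a' : MulAut Q) (g x) ∈ U
      rw [show g x = ((⟨g x, hgm x (Subgroup.mem_sup_right hx)⟩ : Q) : Ω) from rfl, autFun_coe]
      exact (a'.2.1.2 _).2 hx'
    have hUle : U ≤ N ⊔ Q₀ := le_sup_right.trans' le_sup_right
    refine ⟨θ, (isMap_normalizerSystem hU.1).2 ⟨hNR, fun x hx => ?_, θ,
      hθ.res (sup_le le_sup_left hUle), fun _ _ => rfl, hθU⟩, fun x hx => ?_⟩
    · have := hθ.map_normalizerIn hUle (Subgroup.mem_sup_left hx) (hNU hx)
      rwa [hθU] at this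
    · rw [hθe x (Subgroup.mem_sup_left hx)]
      have hx' : g x ∈ P := by
        have := apply_mem_fimg g hx
        rwa [hgP] at this
      show autFun (a' : MulAut Q) (g x) = f x
      rw [show g x = ((⟨g x, hgm x (Subgroup.mem_sup_left hx)⟩ : Q) : Ω) from rfl, autFun_coe,
        ha'A _ hx']
      exact hg1 x hx

end

end Cfsg.Agent.Fus
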