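import Cfsg.Agent.Lib.Fus.Replacement
import Cfsg.Agent.Lib.Fus.NormalizerSat
import Cfsg.Agent.Lib.Fus.NormalCrit
import Cfsg.Agent.Lib.Fus.ClassBound
import Cfsg.Agent.Lib.Fus.Centric

/-!
Induction along the normalizers of Thompson subgroups: a property of maps that holds for the maps
normalising `J(S)` holds for all maps, as soon as it can be deduced in subsystems with a centric
normal subgroup on whose centre some outside element acts quadratically.
-/

set_option autoImplicit false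
set_option linter.style.haveILetI false

open scoped Classical

namespace Cfsg.Agent.Fus

open Subgroup FusionSystem

variable {Ω : Type*} [Group Ω] {S : Subgroup Ω}

/-- A property of maps closed under congruence, composition and restriction. -/
structure IsMapProp (F : FusionSystem S) (D : Subgroup Ω → (Ω → Ω) → Prop) : Prop where
  congr : ∀ P f g, D P f → (∀ x ∈ P, f x = g x) → D P g
  comp : ∀ P Q f g, IsMap F P f → IsMap F Q g → (∀ x ∈ P, f x ∈ Q) → D P f → D Q g →
    D P (fun x => g (f x))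
  res : ∀ P Q f, IsMap F Q f → P ≤ Q → D Q f → D P f

theorem IsMapProp.mono {F : FusionSystem S} {D : Subgroup Ω → (Ω → Ω) → Prop} (h : IsMapProp F D)
    {R : Subgroup Ω} {E : FusionSystem R} (hE : E.IsSubsystemOf F) : IsMapProp E D :=
  ⟨h.congr, fun P Q f g hf hg => h.comp P Q f g (hf.mono hE) (hg.mono hE),
    fun P Q f hf => h.res P Q f (hf.mono hE)⟩

variable {F : FusionSystem S}

theorem isNormal_normalizerSystem_of_isNormal {U N : Subgroup Ω} (hU : U ≤ S) (hN : F.IsNormal N)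
    (hNU : N ≤ normalizerIn S U) : (normalizerSystem F U hU).IsNormal N := by
  refine isNormal_iff.2 ⟨hNU, fun P f hf => ?_⟩
  obtain ⟨hP, hfP, g, hg, hg1, hgU⟩ := (isMap_normalizerSystem hU).1 hf
  obtain ⟨k, hk, hk1, hkN⟩ := (isNormal_iff.1 hN).2 _ g hg
  refine ⟨k, (isMap_normalizerSystem hU).2 ⟨sup_le hP hNU, ?_, k,
    hk.res (sup_le (sup_le (le_sup_left.trans le_sup_left) le_sup_right)
      (le_sup_right.trans le_sup_left)), fun x _ => rfl, ?_⟩, fun x hx => ?_, hkN⟩
  · intro x hx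
    have h1 : k x ∈ fimg k (P ⊔ N) := apply_mem_fimg k hx
    rw [(hk.res (sup_le_sup_right le_sup_left N)).fimg_sup] at h1
    refine (sup_le ?_ ?_ : fimg k P ⊔ fimg k N ≤ normalizerIn S U) h1
    · exact fimg_le fun y hy => (hk1 y (Subgroup.mem_sup_left hy)).trans (hg1 y hy) ▸ hfP y hy
    · rw [hkN]; exact hNU
  · rw [fimg_congr fun x hx => hk1 x (Subgroup.mem_sup_right hx), hgU]
  · rw [hk1 x (Subgroup.mem_sup_left hx), hg1 x hx]

theorem isNormal_normalizerSystem_self {U : Subgroup Ω} (hU : U ≤ S) :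
    (normalizerSystem F U hU).IsNormal U := by
  refine isNormal_iff.2 ⟨le_normalizerIn hU, fun P f hf => ?_⟩
  obtain ⟨hP, hfP, g, hg, hg1, hgU⟩ := (isMap_normalizerSystem hU).1 hf
  refine ⟨g, (isMap_normalizerSystem hU).2 ⟨sup_le hP (le_normalizerIn hU), fun x hx => ?_, g,
    hg.res (sup_le le_rfl le_sup_right), fun x _ => rfl, hgU⟩, hg1, hgU⟩
  have h1 : g x ∈ fimg g (P ⊔ U) := apply_mem_fimg g hx
  rw [hg.fimg_sup, hgU] at h1
  exact (sup_le (fimg_le fun y hy => (hg1 y hy).symm ▸ hfP y hy) (le_normalizerIn hU) :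
    fimg g P ⊔ U ≤ normalizerIn S U) h1

section

variable [Finite S] {p : ℕ} [Fact p.Prime]

set_option maxHeartbeats 1600000 in
/-- If a normal subgroup of `Aut_F(U)`, for `U` centric and normal, contains an outer automorphism
induced by `S` and all maps inducing its elements have the property, then so do all maps, provided
this holds for the maps normalising a strictly larger subgroup. -/
theorem forall_of_kernel (hS : IsPGroup p S) (hF : F.IsSaturated p)
    {D : Subgroup Ω → (Ω → Ω) → Prop} (hD : IsMapProp F D) {U : Subgroup Ω} (hU : F.IsNormal U)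
    (hbig : ∀ L, U < L → L ≤ S → S ≤ Subgroup.normalizer (L : Set Ω) →
      ∀ P f, IsMap F P f → L ≤ P → fimg f L = L → D P f)
    (K : Subgroup (F.autGroup U)) [hKn : K.Normal]
    (hK : ∀ P g, U ≤ P → IsMap F P g → (∃ κ ∈ K, ∀ x ∈ U, g x = autFun (κ : MulAut U) x) →
      D P g)
    (hKI : ∀ y ∈ U, ∃ κ ∈ K, ∀ u ∈ U, y * u * y⁻¹ = autFun (κ : MulAut U) u)
    {x : Ω} (hxS : x ∈ S) (hxU : x ∉ U)
    (hxK : ∃ κ ∈ K, ∀ u ∈ U, x * u * x⁻¹ = autFun (κ : MulAut U) u)
    {P : Subgroup Ω} {f : Ω → Ω} (hf : IsMap F P f) : D P f := by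
  have hUS := hU.1
  haveI := finite_of_le hUS
  have hsc := stronglyClosed_of_isNormal hU
  have hSU : S ≤ Subgroup.normalizer (U : Set Ω) := fun s hs =>
    mem_normalizer_of_forall (fun u hu => StronglyClosed.conj_mem' hsc hs hu) fun u hu => by
      simpa using StronglyClosed.conj_mem' hsc (inv_mem hs) hu
  -- the elements of `S` inducing elements of `K`
  let L : Subgroup Ω :=
    { carrier := {y | y ∈ S ∧ ∃ κ ∈ K, ∀ u ∈ U, y * u * y⁻¹ = autFun (κ : MulAut U) u}
      one_mem' := ⟨one_mem _, 1, one_mem _, fun u hu => by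
        rw [OneMemClass.coe_one, autFun_one hu]; group⟩
      mul_mem' := fun {a b} ⟨ha, κ, hκ, e⟩ ⟨hb, μ, hμ, e'⟩ => ⟨mul_mem ha hb, κ * μ,
        mul_mem hκ hμ, fun u hu => by
          rw [Subgroup.coe_mul, autFun_mul _ _ hu, ← e' u hu,
            ← e _ ((Subgroup.mem_normalizer_iff.1 (hSU hb) u).1 hu)]
          group⟩
      inv_mem' := fun {a} ⟨ha, κ, hκ, e⟩ => ⟨inv_mem ha, κ⁻¹, inv_mem hκ, fun u hu => by
        have hu' : a⁻¹ * u * a⁻¹⁻¹ ∈ U := (Subgroup.mem_normalizer_iff.1 (hSU (inv_mem ha)) u).1 hu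
        conv_rhs => rw [show u = a * (a⁻¹ * u * a⁻¹⁻¹) * a⁻¹ by group, e _ hu',
          Subgroup.coe_inv, autFun_inv_apply _ hu']⟩ }
  have hLS : L ≤ S := fun y hy => hy.1
  -- invariance
  have hinv : ∀ {Q : Subgroup Ω} {g : Ω → Ω}, IsMap F Q g → U ≤ Q → ∀ y ∈ L, y ∈ Q → g y ∈ L := by
    rintro Q g hg hUQ y ⟨hyS, κ, hκ, e⟩ hyQ
    have hgU : fimg g U = U := Subgroup.eq_of_le_of_card_ge
      (fimg_le fun u hu => StronglyClosed.apply_mem hsc (hg.res hUQ) le_rfl hu)
      (hg.res hUQ).card_fimg.ge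
    obtain ⟨γ, hγ, hγe⟩ := (hg.res hUQ).exists_aut hgU
    refine ⟨hg.apply_mem hyQ, ⟨γ, hγ⟩ * κ * ⟨γ, hγ⟩⁻¹, hKn.conj_mem κ hκ _, fun u hu => ?_⟩
    obtain ⟨v, hv, rfl⟩ : ∃ v ∈ U, g v = u := (hg.res hUQ).mem_fimg_iff.1 (hgU.symm ▸ hu)
    rw [← hg.map_conj hyQ (hUQ hv), e v hv, Subgroup.coe_mul, Subgroup.coe_mul, Subgroup.coe_inv,
      autFun_mul _ _ (hgU ▸ apply_mem_fimg g hv),
      autFun_mul _ _ (autFun_mem _ (hgU ▸ apply_mem_fimg g hv)),
      ← hγe v hv, autFun_inv_apply _ hv, hγe _ (autFun_mem _ hv)]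
  have hUL : U < L := lt_of_le_of_ne (fun y hy => ⟨hUS hy, hKI y hy⟩)
    fun e => hxU (e ▸ (⟨hxS, hxK⟩ : x ∈ L))
  have hSL : S ≤ Subgroup.normalizer (L : Set Ω) := fun s hs => by
    have key : ∀ {s : Ω}, s ∈ S → ∀ y ∈ L, s * y * s⁻¹ ∈ L := fun {s} hs y hy =>
      hinv (isMap_conj F le_rfl hs) hUS y hy hy.1
    exact mem_normalizer_of_forall (key hs) fun y hy => by simpa using key (inv_mem hs) y hy
  haveI := finite_of_le hLS
  have hgood : ∀ {Q : Subgroup Ω} {g : Ω → Ω}, IsMap F Q g → L ≤ Q → D Q g := fun {Q g} hg hLQ =>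
    hbig L hUL hLS hSL Q g hg hLQ (Subgroup.eq_of_le_of_card_ge
      (fimg_le fun y hy => hinv hg (hUL.le.trans hLQ) y hy (hLQ hy)) (hg.res hLQ).card_fimg.ge)
  refine alperin' hS hF D hD.congr hD.comp hD.res
    (fun α hα => hgood ((mem_autGroup le_rfl).1 hα) hLS) ?_ hf
  intro Q hQ IH α hα
  have hQS := hQ.1.1
  haveI := finite_of_le hQS
  have hUQ : U ≤ Q := le_of_isNormal hS hU hQ.1 (radical_of_essential hS hQ)
  have hαm := (mem_autGroup hQS).1 hα
  by_cases hLQ : L ≤ Q
  · exact hgood hαm hLQ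
  -- an element of `L` normalising `Q` outside it
  obtain ⟨c, hcL, hcN, hcQ⟩ : ∃ c ∈ L, c ∈ normalizerIn S Q ∧ c ∉ Q := by
    have hQn : Q ≤ Subgroup.normalizer (L : Set Ω) := hQS.trans hSL
    have hle : Q ⊔ L ≤ S := sup_le hQS hLS
    haveI := finite_of_le hle
    obtain ⟨w, hw, hwQ⟩ := SetLike.lt_iff_le_and_exists.1
      (lt_normalizerIn (hS.to_le hle) (lt_of_le_of_ne le_sup_left fun e => hLQ
        (e ▸ le_sup_right : L ≤ Q))) |>.2
    have hwn : w ∈ Subgroup.normalizer (Q : Set Ω) := hw.2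
    have hwX : w ∈ Q ⊔ L := hw.1
    rw [← SetLike.mem_coe, Subgroup.coe_mul_of_left_le_normalizer_right Q L hQn] at hwX
    obtain ⟨q, hq, c, hc, rfl⟩ := hwX
    refine ⟨c, hc, ⟨hLS hc, ?_⟩, fun h => hwQ (mul_mem hq h)⟩
    rw [show c = q⁻¹ * (q * c) by group]
    exact Subgroup.mul_mem _ (Subgroup.inv_mem _ (Subgroup.le_normalizer hq)) hwn
  -- the automorphisms of `Q` inducing elements of `K`
  let KQ : Subgroup (F.autGroup Q) :=
    { carrier := {β | ∃ κ ∈ K, ∀ u ∈ U, autFun (β : MulAut Q) u = autFun (κ : MulAut U) u}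
      one_mem' := ⟨1, one_mem _, fun u hu => by
        rw [OneMemClass.coe_one, OneMemClass.coe_one, autFun_one hu, autFun_one (hUQ hu)]⟩
      mul_mem' := fun {a b} ⟨κ, hκ, e⟩ ⟨μ, hμ, e'⟩ => ⟨κ * μ, mul_mem hκ hμ, fun u hu => by
        rw [Subgroup.coe_mul, Subgroup.coe_mul, autFun_mul _ _ hu, autFun_mul _ _ (hUQ hu),
          e' u hu, e _ (autFun_mem _ hu)]⟩
      inv_mem' := fun {a} ⟨κ, hκ, e⟩ => ⟨κ⁻¹, inv_mem hκ, fun u hu => by
        have hu' : autFun ((κ⁻¹ : F.autGroup U) : MulAut U) u ∈ U := autFun_mem _ hu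
        have h1 : autFun (a : MulAut Q) (autFun ((κ⁻¹ : F.autGroup U) : MulAut U) u) = u := by
          rw [e _ hu', ← autFun_mul _ _ hu, ← Subgroup.coe_mul, mul_inv_cancel,
            OneMemClass.coe_one, autFun_one hu]
        conv_lhs => rw [← h1]
        rw [Subgroup.coe_inv, autFun_inv_apply _ (hUQ hu')]⟩ }
  haveI hKQn : KQ.Normal := ⟨fun β ⟨κ, hκ, e⟩ a => by
    have ham := ((mem_autGroup hQS).1 a.2).res hUQ
    have haU : fimg (autFun (a : MulAut Q)) U = U := Subgroup.eq_of_le_of_card_ge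
      (fimg_le fun u hu => StronglyClosed.apply_mem hsc ham le_rfl hu) ham.card_fimg.ge
    obtain ⟨γ, hγ, hγe⟩ := ham.exists_aut haU
    refine ⟨⟨γ, hγ⟩ * κ * ⟨γ, hγ⟩⁻¹, hKn.conj_mem κ hκ _, fun u hu => ?_⟩
    obtain ⟨v, hv, rfl⟩ : ∃ v ∈ U, autFun (a : MulAut Q) v = u :=
      ham.mem_fimg_iff.1 (haU.symm ▸ hu)
    rw [Subgroup.coe_mul, Subgroup.coe_mul, Subgroup.coe_inv, autFun_mul _ _ (hUQ hu),
      autFun_inv_apply _ (hUQ hv), autFun_mul _ _ (hUQ hv), e v hv, Subgroup.coe_mul,
      Subgroup.coe_mul, Subgroup.coe_inv, autFun_mul _ _ hu, autFun_mul _ _ (autFun_mem _ hu),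
      ← hγe v hv, autFun_inv_apply _ hv, hγe _ (autFun_mem _ hv)]⟩
  let cQ : F.autGroup Q := ⟨Q.normalizerMonoidHom ⟨c, hcN.2⟩, autInducedBy_le_autGroup F hQS
    (mem_autInducedBy.2 ⟨c, hcN.1, fun x => rfl⟩)⟩
  have hcK : cQ ∈ KQ := by
    obtain ⟨-, κ, hκ, e⟩ := hcL
    refine ⟨κ, hκ, fun u hu => ?_⟩
    rw [← e u hu]
    exact autFun_coe (cQ : MulAut Q) ⟨u, hUQ hu⟩
  have hcI : (cQ : MulAut Q) ∉ Inn Q := by
    rintro ⟨y, hy⟩
    refine hcQ ?_
    have hcz : (y : Ω)⁻¹ * c ∈ centralizerIn S Q := by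
      refine mem_centralizerIn.2 ⟨S.mul_mem (S.inv_mem (hQS y.2)) hcN.1, fun z hz => ?_⟩
      have h2 : (y : Ω) * z * (y : Ω)⁻¹ = c * z * c⁻¹ :=
        congrArg (fun β : MulAut Q => ((β ⟨z, hz⟩ : Q) : Ω)) hy
      calc z * ((y : Ω)⁻¹ * c) = (y : Ω)⁻¹ * ((y : Ω) * z * (y : Ω)⁻¹) * c := by group
        _ = (y : Ω)⁻¹ * (c * z * c⁻¹) * c := by rw [h2]
        _ = (y : Ω)⁻¹ * c * z := by group
    rw [← mul_inv_cancel_left (y : Ω) c]
    exact Q.mul_mem y.2 (centralizerIn_le_of_centric hQ.1 hcz)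
  obtain ⟨k, hk, η, hη, hαe⟩ := exists_mul_extAuts hS hF hQ.2.1 KQ hcK
    (mem_autInducedBy.2 ⟨c, hcN.1, fun x => rfl⟩) hcI ⟨α, hα⟩
  obtain ⟨R, g, hQR, hg, hge⟩ := mem_extAuts.1 hη
  haveI := finite_of_le hg.source_le
  obtain ⟨κ, hκ, hκe⟩ := hk
  have hDk : D Q (autFun (k : MulAut Q)) :=
    hK Q _ hUQ ((mem_autGroup hQS).1 k.2) ⟨κ, hκ, hκe⟩
  have hDη : D Q (autFun (η : MulAut Q)) :=
    hD.congr _ _ _ (hD.res _ _ _ hg hQR.le (IH R g hg (card_lt_of_lt hQR))) hge
  refine hD.congr _ _ _ (hD.comp _ _ _ _ ((mem_autGroup hQS).1 η.2) ((mem_autGroup hQS).1 k.2)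
    (fun z hz => autFun_mem _ hz) hDη hDk) fun z hz => ?_
  rw [show α = (k : MulAut Q) * η from congrArg Subtype.val hαe, autFun_mul _ _ hz]

/-- The induction along normalizers of Thompson subgroups, remembering that the
local Thompson subgroup is not contained in the centric normal subgroup. -/
theorem jInductionStrong (hS : IsPGroup p S) (hF : F.IsSaturated p)
    {D : Subgroup Ω → (Ω → Ω) → Prop} (hD : IsMapProp F D) {W₀ : Subgroup Ω}
    (hW : W₀ ≤ S ⊓ Subgroup.centralizer (S : Set Ω))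
    (hN : ∀ P f, IsMap F P f → thompsonSubgroupAOf S ≤ P →
      fimg f (thompsonSubgroupAOf S) = thompsonSubgroupAOf S → D P f)
    (hloc : ∀ (R : Subgroup Ω) (E : FusionSystem R), R ≤ S → E.IsSubsystemOf F →
      E.IsSaturated p → W₀ ≤ R ⊓ Subgroup.centralizer (R : Set Ω) → ∀ U, E.IsNormal U →
      centralizerIn R U ≤ U →
      (∀ L, U < L → L ≤ R → R ≤ Subgroup.normalizer (L : Set Ω) →
        ∀ P f, IsMap E P f → L ≤ P → fimg f L = L → D P f) →
      ¬ thompsonSubgroupAOf R ≤ U →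
      (∃ x ∈ R, x ∉ U ∧ IsQuad p x (centralizerIn U U)) → ∀ P f, IsMap E P f → D P f)
    {P : Subgroup Ω} {f : Ω → Ω} (hf : IsMap F P f) : D P f := by
  suffices aux : ∀ (n : ℕ) (R : Subgroup Ω) (E : FusionSystem R),
      Nat.card R * Nat.card R + (Nat.card R - Nat.card E.core) = n → R ≤ S → E.IsSubsystemOf F →
      E.IsSaturated p → W₀ ≤ R ⊓ Subgroup.centralizer (R : Set Ω) →
      (∀ P f, IsMap E P f → thompsonSubgroupAOf R ≤ P →
        fimg f (thompsonSubgroupAOf R) = thompsonSubgroupAOf R → D P f) →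
      ∀ P f, IsMap E P f → D P f from
    aux _ S F rfl le_rfl (fun _ _ h => h) hF hW hN P f hf
  clear hf hN hW f P
  intro n
  induction n using Nat.strong_induction_on with
  | _ n IH =>
  intro R E hn hRS hEF hEs hW hN
  haveI : Finite R := finite_of_le hRS
  have hR : IsPGroup p R := hS.to_le hRS
  have hDE := hD.mono hEF
  have hcR : E.core ≤ R := (isNormal_core E).1
  haveI := finite_of_le hcR
  have hcsc := stronglyClosed_of_isNormal (isNormal_core E)
  -- maps normalising a normal subgroup outside the core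
  have IHsub : ∀ U, U ≤ R → R ≤ Subgroup.normalizer (U : Set Ω) → ¬ U ≤ E.core →
      ∀ P f, IsMap E P f → U ≤ P → fimg f U = U → D P f := by
    intro U hUR hRU hUc P f hf hUP hfU
    have heq : normalizerIn R U = R := le_antisymm inf_le_left (le_inf le_rfl hRU)
    have hUn : E.IsFullyNormalized U := ⟨hUR, fun Q hQ => by
      rw [heq]; exact Subgroup.card_le_of_le inf_le_left⟩
    set E' := normalizerSystem E U hUn.1 with hE'
    have hsub : E'.IsSubsystemOf E := normalizerSystem_isSubsystemOf hUn.1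
    haveI : Finite ↥(normalizerIn R U) := finite_of_le (S := R) inf_le_left
    have hlt : E.core < E'.core := by
      refine lt_of_lt_of_le (lt_of_le_of_ne le_sup_left fun e => hUc (e ▸ le_sup_right))
        (sup_le (le_core (isNormal_normalizerSystem_of_isNormal hUn.1 (isNormal_core E)
          (by rw [heq]; exact hcR))) (le_core (isNormal_normalizerSystem_self hUn.1)) :
          E.core ⊔ U ≤ E'.core)
    have hc'R : E'.core ≤ R := (isNormal_core E').1.trans inf_le_left
    haveI := finite_of_le hc'R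
    have hcard := card_lt_of_lt hlt
    have hcard' := Subgroup.card_le_of_le hc'R
    have hfm : IsMap E' P f := (isMap_normalizerSystem hUn.1).2
      ⟨by rw [heq]; exact hf.source_le, fun x hx => by rw [heq]; exact hf.apply_mem hx, f,
        hf.res (sup_le le_rfl hUP), fun x _ => rfl, hfU⟩
    refine IH _ ?_ _ E' rfl (by rw [heq]; exact hRS) (fun P φ hφ => hEF P (hsub P hφ))
      (isSaturated_normalizerSystem hR hEs hUn) (by rw [heq]; exact hW) ?_ P f hfm
    · rw [show Nat.card ↥(normalizerIn R U) = Nat.card R by rw [heq]]; omega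
    · intro P g hg
      rw [heq]
      exact hN P g (hg.mono hsub)
  by_cases hcc : centralizerIn R E.core ≤ E.core
  · -- a centric normal subgroup
    set V := centralizerIn E.core E.core with hV
    have hVc : ∀ x ∈ V, ∀ y ∈ V, x * y = y * x := fun x hx y hy =>
      (mem_centralizerIn.1 hy).2 x (mem_centralizerIn.1 hx).1
    have hRc : R ≤ Subgroup.normalizer (E.core : Set Ω) := fun s hs =>
      mem_normalizer_of_forall (fun u hu => StronglyClosed.conj_mem' hcsc hs hu) fun u hu => by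
        simpa using StronglyClosed.conj_mem' hcsc (inv_mem hs) hu
    have hRV : R ≤ Subgroup.normalizer (V : Set Ω) := by
      have key : ∀ {s : Ω}, s ∈ R → ∀ x ∈ V, s * x * s⁻¹ ∈ V := fun {s} hs x hx => by
        obtain ⟨hx1, hx2⟩ := mem_centralizerIn.1 hx
        refine mem_centralizerIn.2 ⟨(Subgroup.mem_normalizer_iff.1 (hRc hs) x).1 hx1,
          fun y hy => ?_⟩
        have h1 := hx2 _ ((Subgroup.mem_normalizer_iff''.1 (hRc hs) y).1 hy)
        calc y * (s * x * s⁻¹) = s * (s⁻¹ * y * s * x) * s⁻¹ := by group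
          _ = s * (x * (s⁻¹ * y * s)) * s⁻¹ := by rw [h1]
          _ = s * x * s⁻¹ * y := by group
      exact fun s hs => mem_normalizer_of_forall (key hs) fun x hx => by
        simpa using key (inv_mem hs) x hx
    by_cases hJ : thompsonSubgroupAOf R ≤ E.core
    rotate_left
    · have hq := (exists_quad_or_thompsonA_le (p := p) (U := E.core) hR (inf_le_left.trans hcR)
        hRV hVc (fun u hu => Subgroup.mem_centralizer_iff.2 fun v hv =>
          ((mem_centralizerIn.1 hv).2 u hu).symm)).resolve_right hJ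
      exact hloc R E hRS hEF hEs hW E.core (isNormal_core E) hcc
        (fun L hL hLR hRL => IHsub L hLR hRL fun h => (hL.trans_le h).false) hJ hq
    · intro P f hf
      obtain ⟨g, hg, hg1, hgc⟩ := (isNormal_iff.1 (isNormal_core E)).2 P f hf
      have hJle : thompsonSubgroupAOf R ≤ P ⊔ E.core := hJ.trans le_sup_right
      exact hD.congr _ _ _ (hDE.res _ _ _ hg le_sup_left (hN _ g hg hJle
        (hg.map_thompsonA hJle fun x hx => hg.apply_mem (hJle hx)))) hg1
  · intro P f hf
    refine alperin' hR hEs D hDE.congr hDE.comp hDE.res (fun α hα => ?_) ?_ hf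
    · exact hN _ _ ((mem_autGroup le_rfl).1 hα) (thompsonA_le R)
        (((mem_autGroup le_rfl).1 hα).map_thompsonA (thompsonA_le R) fun x hx =>
          autFun_mem α (thompsonA_le R hx))
    intro Q hQ big α hα
    have hQR : Q ≤ R := hQ.1.1
    rcases hQR.eq_or_lt with rfl | hlt
    · exact hN _ _ ((mem_autGroup le_rfl).1 hα) (thompsonA_le _)
        (((mem_autGroup le_rfl).1 hα).map_thompsonA (thompsonA_le _) fun x hx =>
          autFun_mem α (thompsonA_le _ hx))
    have hQc : ¬ Q ≤ E.core := fun h => hcc fun c hc => h (centralizerIn_le_of_centric hQ.1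
      (mem_centralizerIn.2 ⟨(mem_centralizerIn.1 hc).1,
        fun x hx => (mem_centralizerIn.1 hc).2 x (h hx)⟩))
    suffices claim : ∀ (m : ℕ) (U : Subgroup Ω), Nat.card R - Nat.card ↥(normalizerIn R U) = m →
        U ≤ R → ¬ U ≤ E.core → Nat.card Q < Nat.card ↥(normalizerIn R U) →
        ∀ P f, IsMap E P f → U ≤ P → P ≤ normalizerIn R U → fimg f U = U → D P f by
      haveI : Finite ↥(normalizerIn R Q) := finite_of_le (S := R) inf_le_left
      haveI := finite_of_le hQR
      exact claim _ Q rfl hQR hQc (card_lt_of_lt (lt_normalizerIn hR hlt)) Q _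
        ((mem_autGroup hQR).1 hα) le_rfl (le_normalizerIn hQR) (fimg_autFun α)
    intro m
    induction m using Nat.strong_induction_on with
    | _ m ihm =>
    intro U hm hUR hUc hcard P f hf hUP hPN hfU
    haveI := finite_of_le hUR
    obtain ⟨U', hU', hU'n⟩ := exists_fullyNormalized E hUR
    obtain ⟨θ, hθ, hθU, hθN⟩ := exists_map_to_fullyNormalized hR hEs hU'n hU'
    obtain ⟨θ', hθ', hθ1, -, -⟩ := hθ.exists_inv
    set N := normalizerIn R U with hNdef
    set R' := normalizerIn R U' with hR'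
    haveI : Finite N := finite_of_le (S := R) inf_le_left
    haveI : Finite R' := finite_of_le (S := R) inf_le_left
    have hDθ : D N θ := big _ θ hθ hcard
    have hDθ' : D (fimg θ N) θ' := big _ θ' hθ' (by rw [hθ.card_fimg]; exact hcard)
    have hUN : U ≤ N := le_normalizerIn hUR
    have hfN : ∀ x ∈ P, f x ∈ N := fun x hx => by
      have := hf.map_normalizerIn hUP hx (hPN hx).2
      rwa [hfU] at this
    set P' := fimg θ P with hP'
    have hP'N : P' ≤ fimg θ N := fimg_mono θ hPN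
    have hθ'P : ∀ y ∈ P', θ' y ∈ P := fun y hy => by
      obtain ⟨x, hx, rfl⟩ := (hθ.res hPN).mem_fimg_iff.1 hy
      rw [hθ1 x (hPN hx)]
      exact hx
    set f' := fun y => θ (f (θ' y)) with hf'def
    have hf' : IsMap E P' f' := ((hθ'.res hP'N).comp hf hθ'P).comp hθ fun y hy => hfN _ (hθ'P y hy)
    have hU'P : U' ≤ P' := hθU ▸ fimg_mono θ hUP
    have hP'R : P' ≤ R' := fimg_le fun x hx => hθN x (hPN hx)
    have hf'U : fimg f' U' = U' := by
      haveI := finite_of_le hU'n.1
      refine Subgroup.eq_of_le_of_card_ge (fimg_le fun y hy => ?_) (hf'.res hU'P).card_fimg.ge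
      rw [← hθU] at hy ⊢
      obtain ⟨x, hx, rfl⟩ := (hθ.res hUN).mem_fimg_iff.1 hy
      show θ (f (θ' (θ x))) ∈ _
      rw [hθ1 x (hUN hx)]
      exact apply_mem_fimg θ (hfU ▸ apply_mem_fimg f hx)
    have hU'c : ¬ U' ≤ E.core := fun h => hUc fun x hx => by
      have h1 : θ x ∈ U' := hθU ▸ apply_mem_fimg θ hx
      have h2 := StronglyClosed.apply_mem hcsc (hθ'.res (fimg_mono θ hUN))
        (hθU.symm ▸ h) (apply_mem_fimg θ hx)
      rwa [hθ1 x (hUN hx)] at h2
    suffices hmain : D P' f' by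
      have d1 : D P θ := hDE.res _ _ _ hθ hPN hDθ
      have d2 : D P (fun x => f' (θ x)) :=
        hDE.comp P P' θ f' (hθ.res hPN) hf' (fun x hx => apply_mem_fimg θ hx) d1 hmain
      refine hD.congr _ _ _ (hDE.comp P (fimg θ N) _ θ' ((hθ.res hPN).comp hf'
        fun x hx => apply_mem_fimg θ hx) hθ' (fun x hx => ?_) d2 hDθ') fun x hx => ?_
      · show θ (f (θ' (θ x))) ∈ fimg θ N
        rw [hθ1 x (hPN hx)]
        exact apply_mem_fimg θ (hfN x hx)
      · show θ' (θ (f (θ' (θ x)))) = f x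
        rw [hθ1 x (hPN hx), hθ1 _ (hfN x hx)]
    have hNR' : Nat.card N ≤ Nat.card R' := hU'n.2 U (isConj_symm hU')
    have hR'R : R' ≤ R := inf_le_left
    have hR'card := Subgroup.card_le_of_le hR'R
    rcases hNR'.lt_or_eq with h | h
    · exact ihm (Nat.card R - Nat.card R') (by omega) U' rfl hU'n.1 hU'c (hcard.trans h) P' f' hf' hU'P hP'R hf'U
    rcases hR'R.eq_or_lt with h' | h'
    · exact IHsub U' hU'n.1 (h'.ge.trans inf_le_right) hU'c P' f' hf' hU'P hf'U
    -- descend to the normalizer system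
    set E' := normalizerSystem E U' hU'n.1 with hE'
    have hsub : E'.IsSubsystemOf E := normalizerSystem_isSubsystemOf hU'n.1
    have hR'lt := card_lt_of_lt h'
    have hW' : W₀ ≤ R' ⊓ Subgroup.centralizer (R' : Set Ω) := fun w hw => by
      obtain ⟨hwR, hwC⟩ := hW hw
      exact ⟨⟨hwR, Subgroup.centralizer_le_normalizer _ (Subgroup.centralizer_le hU'n.1 hwC)⟩,
        Subgroup.centralizer_le hR'R hwC⟩
    have hE'N : ∀ P g, IsMap E' P g → thompsonSubgroupAOf R' ≤ P →
        fimg g (thompsonSubgroupAOf R') = thompsonSubgroupAOf R' → D P g := by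
      intro P₁ g₁ hg₁ hJP hgJ
      set J' := thompsonSubgroupAOf R' with hJ'
      obtain ⟨hP₁, -, g, hg, hg1, hgU⟩ := (isMap_normalizerSystem hU'n.1).1 hg₁
      have hgJ' : fimg g J' = J' := (fimg_congr fun x hx => hg1 x (hJP hx)).trans hgJ
      have hJR' : J' ≤ R' := thompsonA_le R'
      haveI := finite_of_le (hJR'.trans hR'R)
      obtain ⟨w, hw, hwR'⟩ := SetLike.lt_iff_le_and_exists.1 (lt_normalizerIn hR h') |>.2
      have hnJ : normalizerIn R R' ≤ normalizerIn R J' := fun s hs => by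
        have key : ∀ {s : Ω}, s ∈ normalizerIn R R' → ∀ x ∈ J', s * x * s⁻¹ ∈ J' := fun {s} hs => by
          have hm := isMap_conj E hR'R hs.1
          have h1 := hm.map_thompsonA (R := R') hJR' fun x hx =>
            (Subgroup.mem_normalizer_iff.1 hs.2 x).1 (hJR' hx)
          exact fun x hx => h1.le (apply_mem_fimg _ hx)
        exact ⟨hs.1, mem_normalizer_of_forall (key hs) fun x hx => by
          simpa using key (inv_mem hs) x hx⟩
      by_cases hC : centralizerIn R J' ≤ R'
      · have hCJ : centralizerIn R J' ≤ J' := fun c hc =>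
          centralizer_thompsonA_le ⟨hC hc, hc.2⟩
        have hJc : ¬ J' ≤ E.core := fun hle => hcc fun c hc => hle (hCJ
          (mem_centralizerIn.2 ⟨(mem_centralizerIn.1 hc).1,
            fun x hx => (mem_centralizerIn.1 hc).2 x (hle hx)⟩))
        have hcardJ : Nat.card R' < Nat.card ↥(normalizerIn R J') := by
          haveI : Finite ↥(normalizerIn R J') := finite_of_le (S := R) inf_le_left
          exact card_lt_of_lt (lt_of_le_of_ne ((le_normalizerIn hR'R).trans hnJ) fun e =>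
            hwR' (e ▸ hnJ hw))
        have := Subgroup.card_le_of_le (inf_le_left : normalizerIn R J' ≤ R)
        exact ihm (Nat.card R - Nat.card ↥(normalizerIn R J')) (by omega) J' rfl (hJR'.trans hR'R) hJc (by omega) P₁ g₁ (hg₁.mono hsub) hJP
          (hP₁.trans ((le_normalizerIn hR'R).trans hnJ)) hgJ
      · set Z := J' ⊓ Subgroup.centralizer (J' : Set Ω) with hZ
        set U'' := U' ⊔ Z with hU''
        have hU'R' : U' ≤ R' := le_normalizerIn hU'n.1
        have hU''R' : U'' ≤ R' := sup_le hU'R' (inf_le_left.trans hJR')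
        have hJn : R' ≤ Subgroup.normalizer (J' : Set Ω) :=
          ((le_normalizerIn hR'R).trans hnJ).trans inf_le_right
        have hZn : Subgroup.normalizer (J' : Set Ω) ≤ Subgroup.normalizer (Z : Set Ω) := by
          have key : ∀ {s : Ω}, s ∈ Subgroup.normalizer (J' : Set Ω) → ∀ x ∈ Z,
              s * x * s⁻¹ ∈ Z := fun {s} hs x hx => by
            refine ⟨(Subgroup.mem_normalizer_iff.1 hs x).1 hx.1,
              Subgroup.mem_centralizer_iff.2 fun y hy => ?_⟩
            have h1 := Subgroup.mem_centralizer_iff.1 hx.2 _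
              ((Subgroup.mem_normalizer_iff''.1 hs y).1 hy)
            calc y * (s * x * s⁻¹) = s * (s⁻¹ * y * s * x) * s⁻¹ := by group
              _ = s * (x * (s⁻¹ * y * s)) * s⁻¹ := by rw [h1]
              _ = s * x * s⁻¹ * y := by group
          exact fun s hs => mem_normalizer_of_forall (key hs) fun x hx => by
            simpa using key (inv_mem hs) x hx
        have hR'U'' : R' ≤ Subgroup.normalizer (U'' : Set Ω) := fun s hs =>
          normalizer_sup_le (hZn (hJn hs)) hs.2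
        -- an element outside `R'` normalising `U''`
        obtain ⟨c, hcR, hcC, hcn, hcR'⟩ : ∃ c ∈ R, c ∈ Subgroup.centralizer (J' : Set Ω) ∧
            c ∈ Subgroup.normalizer (R' : Set Ω) ∧ c ∉ R' := by
          set C := centralizerIn R J' with hCdef
          have hR'C : R' ≤ Subgroup.normalizer (C : Set Ω) := fun s hs => by
            have key : ∀ {s : Ω}, s ∈ R' → ∀ x ∈ C, s * x * s⁻¹ ∈ C := fun {s} hs x hx => by
              obtain ⟨hx1, hx2⟩ := mem_centralizerIn.1 hx
              refine mem_centralizerIn.2 ⟨R.mul_mem (R.mul_mem (hR'R hs) hx1)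
                (R.inv_mem (hR'R hs)), fun y hy => ?_⟩
              have h1 := hx2 _ ((Subgroup.mem_normalizer_iff''.1 (hJn hs) y).1 hy)
              calc y * (s * x * s⁻¹) = s * (s⁻¹ * y * s * x) * s⁻¹ := by group
                _ = s * (x * (s⁻¹ * y * s)) * s⁻¹ := by rw [h1]
                _ = s * x * s⁻¹ * y := by group
            exact mem_normalizer_of_forall (key hs) fun x hx => by
              simpa using key (inv_mem hs) x hx
          have hle : R' ⊔ C ≤ R := sup_le hR'R inf_le_left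
          haveI := finite_of_le hle
          obtain ⟨v, hv, hvR'⟩ := SetLike.lt_iff_le_and_exists.1
            (lt_normalizerIn (hR.to_le hle) (lt_of_le_of_ne le_sup_left fun e => hC
              (e ▸ le_sup_right : C ≤ R'))) |>.2
          have hvn : v ∈ Subgroup.normalizer (R' : Set Ω) := hv.2
          have hvX : v ∈ R' ⊔ C := hv.1
          rw [← SetLike.mem_coe, Subgroup.coe_mul_of_left_le_normalizer_right R' C hR'C] at hvX
          obtain ⟨r, hr, c, hc, rfl⟩ := hvX
          refine ⟨c, hc.1, hc.2, ?_, fun h => hvR' (mul_mem hr h)⟩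
          rw [show c = r⁻¹ * (r * c) by group]
          exact Subgroup.mul_mem _ (Subgroup.inv_mem _ (Subgroup.le_normalizer hr)) hvn
        have hcU : c ∈ Subgroup.normalizer (U'' : Set Ω) := by
          have key : ∀ {c : Ω}, c ∈ R → c ∈ Subgroup.centralizer (J' : Set Ω) →
              c ∈ Subgroup.normalizer (R' : Set Ω) → ∀ x ∈ U'', c * x * c⁻¹ ∈ U'' := by
            intro c hcR hcC hcn x hx
            have hle : U'' ≤ U''.comap (MulAut.conj c).toMonoidHom := by
              refine sup_le (fun u hu => ?_) fun z hz => ?_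
              · show c * u * c⁻¹ ∈ U''
                have h1 : c * u * c⁻¹ * u⁻¹ ∈ Z := by
                  have hR'm : c * u * c⁻¹ * u⁻¹ ∈ R' := mul_mem
                    ((Subgroup.mem_normalizer_iff.1 hcn u).1 (hU'R' hu)) (inv_mem (hU'R' hu))
                  have hCm : c * u * c⁻¹ * u⁻¹ ∈ Subgroup.centralizer (J' : Set Ω) := by
                    rw [show c * u * c⁻¹ * u⁻¹ = c * (u * c⁻¹ * u⁻¹) by group]
                    refine mul_mem hcC (Subgroup.mem_centralizer_iff.2 fun y hy => ?_)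
                    have h1 := Subgroup.mem_centralizer_iff.1 (Subgroup.inv_mem _ hcC) _
                      ((Subgroup.mem_normalizer_iff''.1 (hJn (hU'R' hu)) y).1 hy)
                    calc y * (u * c⁻¹ * u⁻¹) = u * (u⁻¹ * y * u * c⁻¹) * u⁻¹ := by group
                      _ = u * (c⁻¹ * (u⁻¹ * y * u)) * u⁻¹ := by rw [h1]
                      _ = u * c⁻¹ * u⁻¹ * y := by group
                  exact ⟨centralizer_thompsonA_le ⟨hR'm, hCm⟩, hCm⟩
                rw [show c * u * c⁻¹ = c * u * c⁻¹ * u⁻¹ * u by group]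
                exact mul_mem (Subgroup.mem_sup_right h1) (Subgroup.mem_sup_left hu)
              · show c * z * c⁻¹ ∈ U''
                rw [← Subgroup.mem_centralizer_iff.1 hcC z hz.1, mul_inv_cancel_right]
                exact Subgroup.mem_sup_right hz
            exact hle hx
          exact mem_normalizer_of_forall (key hcR hcC hcn) fun x hx => by
            simpa using key (inv_mem hcR) (inv_mem hcC) (inv_mem hcn) x hx
        have hR'N : R' < normalizerIn R U'' := lt_of_le_of_ne (le_inf hR'R hR'U'')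
          fun e => hcR' (e ▸ (⟨hcR, hcU⟩ : c ∈ normalizerIn R U''))
        haveI : Finite ↥(normalizerIn R U'') := finite_of_le (S := R) inf_le_left
        have hcardU := card_lt_of_lt hR'N
        have := Subgroup.card_le_of_le (inf_le_left : normalizerIn R U'' ≤ R)
        have hle2 : P₁ ⊔ U' ≤ R' := sup_le hP₁ hU'R'
        have hU''P : U'' ≤ P₁ ⊔ U' :=
          sup_le le_sup_right ((inf_le_left.trans hJP).trans le_sup_left)
        have hgU'' : fimg g U'' = U'' := by
          haveI := finite_of_le (hU''R'.trans hR'R)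
          refine Subgroup.eq_of_le_of_card_ge ?_ (hg.res hU''P).card_fimg.ge
          rw [(hg.res hU''P).fimg_sup, hgU]
          refine sup_le le_sup_left ((fimg_le fun z hz => ?_).trans le_sup_right)
          have hJP' : J' ≤ P₁ ⊔ U' := hJP.trans le_sup_left
          refine ⟨hgJ' ▸ apply_mem_fimg g hz.1, Subgroup.mem_centralizer_iff.2 fun y hy => ?_⟩
          rw [← hgJ'] at hy
          obtain ⟨j, hj, rfl⟩ := (hg.res hJP').mem_fimg_iff.1 hy
          rw [← hg.map_mul (hJP' hj) (hJP' hz.1), Subgroup.mem_centralizer_iff.1 hz.2 j hj,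
            hg.map_mul (hJP' hz.1) (hJP' hj)]
        exact hD.congr _ _ _ (hDE.res _ _ _ hg le_sup_left (ihm (Nat.card R - Nat.card ↥(normalizerIn R U'')) (by omega) U'' rfl
          (hU''R'.trans hR'R) (fun hle => hU'c (le_sup_left.trans hle)) (by omega) _ g hg hU''P
          (hle2.trans hR'N.le) hgU'')) hg1
    have hf'm : IsMap E' P' f' := (isMap_normalizerSystem hU'n.1).2
      ⟨hP'R, fun x hx => by
        have := hf'.map_normalizerIn hU'P hx (hP'R hx).2
        rwa [hf'U] at this, f', hf'.res (sup_le le_rfl hU'P), fun x _ => rfl, hf'U⟩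
    refine IH _ ?_ R' E' rfl (hR'R.trans hRS) (fun P φ hφ => hEF P (hsub P hφ))
      (isSaturated_normalizerSystem hR hEs hU'n) hW' hE'N P' f' hf'm
    have h1 : Nat.card R' - Nat.card E'.core ≤ Nat.card R' := Nat.sub_le _ _
    nlinarith

/-- The induction along normalizers of Thompson subgroups. -/
theorem jInduction (hS : IsPGroup p S) (hF : F.IsSaturated p)
    {D : Subgroup Ω → (Ω → Ω) → Prop} (hD : IsMapProp F D) {W₀ : Subgroup Ω}
    (hW : W₀ ≤ S ⊓ Subgroup.centralizer (S : Set Ω))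
    (hN : ∀ P f, IsMap F P f → thompsonSubgroupAOf S ≤ P →
      fimg f (thompsonSubgroupAOf S) = thompsonSubgroupAOf S → D P f)
    (hloc : ∀ (R : Subgroup Ω) (E : FusionSystem R), R ≤ S → E.IsSubsystemOf F →
      E.IsSaturated p → W₀ ≤ R ⊓ Subgroup.centralizer (R : Set Ω) → ∀ U, E.IsNormal U →
      centralizerIn R U ≤ U →
      (∀ L, U < L → L ≤ R → R ≤ Subgroup.normalizer (L : Set Ω) →
        ∀ P f, IsMap E P f → L ≤ P → fimg f L = L → D P f) →
      (∃ x ∈ R, x ∉ U ∧ IsQuad p x (centralizerIn U U)) → ∀ P f, IsMap E P f → D P f)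
    {P : Subgroup Ω} {f : Ω → Ω} (hf : IsMap F P f) : D P f := by
  exact jInductionStrong hS hF hD hW hN
    (fun R E hRS hEF hEs hW' U hU hUc hbig _ hq => hloc R E hRS hEF hEs hW' U hU hUc hbig hq) hf

/-- A property holding for the maps normalising `J(S)` and for those fixing the `p`-th powers of
central elements holds for all maps. -/
theorem forall_of_thompson_powers (hS : IsPGroup p S) (hF : F.IsSaturated p)
    {D : Subgroup Ω → (Ω → Ω) → Prop} (hD : IsMapProp F D) {W₀ : Subgroup Ω}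
    (hW : W₀ ≤ S ⊓ Subgroup.centralizer (S : Set Ω))
    (hN : ∀ P f, IsMap F P f → thompsonSubgroupAOf S ≤ P →
      fimg f (thompsonSubgroupAOf S) = thompsonSubgroupAOf S → D P f)
    (hC : ∀ P f, IsMap F P f → powerClosure p 1 W₀ ≤ P → (∀ x ∈ powerClosure p 1 W₀, f x = x) →
      D P f)
    {P : Subgroup Ω} {f : Ω → Ω} (hf : IsMap F P f) : D P f := by
  refine jInduction hS hF hD hW hN ?_ hf
  intro R E hRS hEF hEs hW' U hU hUc hbig hq P₁ f₁ hf₁
  haveI : Finite R := finite_of_le hRS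
  have hUR := hU.1
  haveI := finite_of_le (hUR.trans hRS)
  set V := centralizerIn U U with hV
  have hVc : ∀ x ∈ V, ∀ y ∈ V, x * y = y * x := fun x hx y hy =>
    (mem_centralizerIn.1 hy).2 x (mem_centralizerIn.1 hx).1
  have hsc := stronglyClosed_of_isNormal hU
  have hVinv : ∀ {γ : MulAut U} {v : Ω}, v ∈ V → autFun γ v ∈ V := fun {γ v} hv => by
    obtain ⟨hv1, hv2⟩ := mem_centralizerIn.1 hv
    refine mem_centralizerIn.2 ⟨autFun_mem γ hv1, fun y hy => ?_⟩
    obtain ⟨z, hz⟩ := γ.surjective ⟨y, hy⟩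
    have h1 := congrArg (fun w : U => ((γ w : U) : Ω))
      (Subtype.ext (hv2 z z.2) : (z : U) * ⟨v, hv1⟩ = ⟨v, hv1⟩ * z)
    simp only [map_mul, Subgroup.coe_mul, hz] at h1
    rwa [← autFun_coe γ ⟨v, hv1⟩] at h1
  let K : Subgroup (E.autGroup U) :=
    { carrier := {κ | ∀ v ∈ V, autFun (κ : MulAut U) (v ^ p) = v ^ p}
      one_mem' := fun v hv => by
        rw [OneMemClass.coe_one, autFun_one (U.pow_mem (mem_centralizerIn.1 hv).1 _)]
      mul_mem' := fun {a b} ha hb v hv => by
        rw [Subgroup.coe_mul, autFun_mul _ _ (U.pow_mem (mem_centralizerIn.1 hv).1 _), hb v hv,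
          ha v hv]
      inv_mem' := fun {a} ha v hv => by
        rw [Subgroup.coe_inv]
        conv_lhs => rw [← ha v hv]
        exact autFun_inv_apply _ (U.pow_mem (mem_centralizerIn.1 hv).1 _) }
  haveI : K.Normal := ⟨fun b hb a v hv => by
    have hvU : v ∈ U := (mem_centralizerIn.1 hv).1
    set w := autFun ((a : MulAut U)⁻¹) v with hw
    have hwU : w ∈ U := autFun_mem _ hvU
    have hpow : ∀ (γ : MulAut U) {x : Ω}, x ∈ U → autFun γ (x ^ p) = autFun γ x ^ p :=
      fun γ x hx => by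
        rw [show x = ((⟨x, hx⟩ : U) : Ω) from rfl, ← SubgroupClass.coe_pow, autFun_coe,
          autFun_coe, map_pow, SubgroupClass.coe_pow]
    rw [Subgroup.coe_mul, Subgroup.coe_mul, Subgroup.coe_inv,
      autFun_mul _ _ (U.pow_mem hvU _), hpow _ hvU, ← hw, autFun_mul _ _ (U.pow_mem hwU _),
      hb w (hVinv hv), hpow _ hwU, hw, ← autFun_mul _ _ hvU, mul_inv_cancel, autFun_one hvU]⟩
  have hW₀V : W₀ ≤ V := fun w hw => by
    obtain ⟨hwR, hwC⟩ := hW' hw
    have hwU : w ∈ U := hUc (mem_centralizerIn.2 ⟨hwR, fun y hy =>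
      Subgroup.mem_centralizer_iff.1 hwC y (hUR hy)⟩)
    exact mem_centralizerIn.2 ⟨hwU, fun y hy => Subgroup.mem_centralizer_iff.1 hwC y (hUR hy)⟩
  obtain ⟨x, hxR, hxU, hx⟩ := hq
  have hconjV : ∀ {y : Ω}, y ∈ R → ∀ a ∈ V, y * a * y⁻¹ ∈ V := fun {y} hy a ha => by
    obtain ⟨γ, -, hγ⟩ := (isMap_conj E hUR hy).exists_aut (Subgroup.eq_of_le_of_card_ge
      (fimg_le fun u hu => StronglyClosed.conj_mem' hsc hy hu)
      (isMap_conj E hUR hy).card_fimg.ge)
    rw [← hγ a (mem_centralizerIn.1 ha).1]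
    exact hVinv ha
  have hconjK : ∀ y ∈ R, (∀ v ∈ V, y * v ^ p * y⁻¹ = v ^ p) →
      ∃ κ ∈ K, ∀ u ∈ U, y * u * y⁻¹ = autFun (κ : MulAut U) u := fun y hy h => by
    obtain ⟨γ, hγm, hγ⟩ := (isMap_conj E hUR hy).exists_aut (Subgroup.eq_of_le_of_card_ge
      (fimg_le fun u hu => StronglyClosed.conj_mem' hsc hy hu) (isMap_conj E hUR hy).card_fimg.ge)
    exact ⟨⟨γ, hγm⟩, fun v hv => (hγ _ (U.pow_mem (mem_centralizerIn.1 hv).1 _)).trans (h v hv),
      fun u hu => (hγ u hu).symm⟩
  refine forall_of_kernel (hS.to_le hRS) hEs (hD.mono hEF) hU hbig K ?_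
    (fun y hy => hconjK y (hUR hy) fun v hv => ?_) hxR hxU
    (hconjK x hxR fun v hv => hx.conj_pow_eq hVc (hconjV hxR) hv) hf₁
  · rintro P₂ g hUP hg ⟨κ, hκ, e⟩
    have hle : powerClosure p 1 W₀ ≤ P₂ := (Subgroup.closure_le _).2 fun z ⟨w, hw, ez⟩ =>
      ez ▸ P₂.pow_mem (hUP (mem_centralizerIn.1 (hW₀V hw)).1) _
    refine hC P₂ g (hg.mono hEF) hle fun z hz => ?_
    have key : z ∈ P₂ ∧ g z = z := by
      induction hz using Subgroup.closure_induction with
      | mem y hy =>
        obtain ⟨w, hw, rfl⟩ := hy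
        have hwU : w ∈ U := (mem_centralizerIn.1 (hW₀V hw)).1
        rw [pow_one]
        exact ⟨hUP (U.pow_mem hwU _), by rw [e _ (U.pow_mem hwU _), hκ w (hW₀V hw)]⟩
      | one => exact ⟨one_mem _, hg.map_one⟩
      | mul a b _ _ iha ihb =>
        exact ⟨mul_mem iha.1 ihb.1, by rw [hg.map_mul iha.1 ihb.1, iha.2, ihb.2]⟩
      | inv a _ iha => exact ⟨inv_mem iha.1, by rw [hg.map_inv iha.1, iha.2]⟩
    exact key.2
  · have h : Commute y v := (mem_centralizerIn.1 hv).2 y hy
    rw [(h.pow_right p).eq, mul_inv_cancel_right]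

end

end Cfsg.Agent.Fus
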