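import Cfsg.Agent.Lib.Fus.ModelSigma

/-!
The model of a saturated system with a centric normal subgroup.
-/

set_option autoImplicit false
set_option linter.style.haveILetI false
set_option linter.unusedSectionVars false

open scoped Classical IsMulCommutative

attribute [local instance] Fintype.ofFinite

namespace Cfsg.Agent.Fus

open Subgroup FusionSystem

universe u

variable {Ω : Type u} [Group Ω] {S : Subgroup Ω} [Finite S] {F : FusionSystem S} {U : Subgroup Ω}
  {p : ℕ} [Fact p.Prime]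

/-- The index of the image of `S` in the automorphisms of a normal subgroup is prime to `p`. -/
theorem not_dvd_index_conjOn (hS : IsPGroup p S) (hF : F.IsSaturated p) (hU : F.IsNormal U) :
    ¬ p ∣ (conjOn hU).range.index := by
  haveI := finite_of_le hU.1
  obtain ⟨-, T, hT⟩ := fullyAutomized_of_fullyNormalized hS hF (isFullyNormalized_of_isNormal hU)
  have hr : (conjOn hU).range = (T : Subgroup (F.autGroup U)) := by
    rw [hT]
    ext a
    rw [Subgroup.mem_subgroupOf, mem_autInducedBy, MonoidHom.mem_range]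
    constructor
    · rintro ⟨s, rfl⟩
      exact ⟨s, s.2, fun x => rfl⟩
    · rintro ⟨k, hk, e⟩
      exact ⟨⟨k, hk⟩, conjOn_eq_of_forall hU fun u hu =>
        (e ⟨u, hu⟩).symm.trans (autFun_coe _ ⟨u, hu⟩).symm⟩
  rw [hr]
  exact T.not_dvd_index

/-- What is used of the monomial embedding. -/
structure IsSigma (hU : F.IsNormal U) (σ : S →* monoExt hU) : Prop where
  right_eq : ∀ s, (σ s).1.right = conjOn hU s
  left_eq : ∀ u : S, (u : Ω) ∈ U → ∀ y : CosetSpace hU,
    ((σ u).1.left y : Ω) = autFun ((y.out⁻¹ : F.autGroup U) : MulAut U) u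
  exists_map : ∀ y : CosetSpace hU, ∃ (P : Subgroup Ω) (f : Ω → Ω), IsMap F P f ∧ U ≤ P ∧
    ∀ s : S, conjOn hU s • y = y → (s : Ω) ∈ P ∧ ((σ s).1.left y : Ω) = f s

variable [Finite U] {hU : F.IsNormal U} {σ : S →* monoExt hU}

/-- The group of the model. -/
abbrev ModelGroup (hU : F.IsNormal U) := monoExt hU ⧸ monoKer hU

/-- The projection of the model group to the automorphisms of `U`. -/
noncomputable def modelRight (hU : F.IsNormal U) : ModelGroup hU →* F.autGroup U :=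
  QuotientGroup.lift (monoKer hU) (monoRight hU) fun e he => by
    obtain ⟨G, rfl, -⟩ := he
    rfl

theorem modelRight_mk (e : monoExt hU) :
    modelRight hU (QuotientGroup.mk' (monoKer hU) e) = e.1.right := rfl

theorem modelRight_surjective : Function.Surjective (modelRight hU) := fun a => by
  obtain ⟨e, he⟩ := monoRight_surjective hU a
  exact ⟨QuotientGroup.mk' _ e, he⟩

/-- The embedding of `S` in the model group. -/
noncomputable abbrev modelEmb (σ : S →* monoExt hU) : S →* ModelGroup hU :=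
  (QuotientGroup.mk' (monoKer hU)).comp σ

theorem modelRight_emb (hσ : IsSigma hU σ) (s : S) :
    modelRight hU (modelEmb σ s) = conjOn hU s := hσ.right_eq s

theorem IsSigma.exists_baseElt (hσ : IsSigma hU σ) (z : Subgroup.center U) :
    ∃ Gz, baseElt hU Gz = σ ⟨((z : U) : Ω), hU.1 (z : U).2⟩ ∧
      normProd hU Gz = z ^ Nat.card (CosetSpace hU) := by
  refine ⟨fun y => centerMap y.out⁻¹ z, monoExt_ext ?_ fun y => ?_, ?_⟩
  · rw [hσ.right_eq, conjOn_eq_one hU (z := z) rfl]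
    rfl
  · refine Eq.trans ?_ (hσ.left_eq ⟨((z : U) : Ω), hU.1 (z : U).2⟩ (z : U).2 y).symm
    exact (autFun_coe ((y.out⁻¹ : F.autGroup U) : MulAut U) (z : U)).symm
  · rw [normProd, Nat.card_eq_fintype_card, ← Finset.card_univ, ← Finset.prod_const]
    refine Finset.prod_congr (by ext; simp) fun y _ => ?_
    rw [← centerMap_mul, mul_inv_cancel, centerMap_one]

theorem coprime_card_center (hS : IsPGroup p S) (hF : F.IsSaturated p) (hU : F.IsNormal U) :
    (Nat.card (Subgroup.center U)).Coprime (Nat.card (CosetSpace hU)) := by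
  obtain ⟨k, hk⟩ := ((hS.to_le hU.1).to_subgroup (Subgroup.center U)).exists_card_eq
  rw [hk]
  exact Nat.Coprime.pow_left k
    ((Fact.out : p.Prime).coprime_iff_not_dvd.2 (not_dvd_index_conjOn hS hF hU))

theorem exists_center_of_modelRight_eq_one (hS : IsPGroup p S) (hF : F.IsSaturated p)
    (hUc : centralizerIn S U ≤ U) (hσ : IsSigma hU σ) (l : ModelGroup hU)
    (hl : modelRight hU l = 1) :
    ∃ z : Subgroup.center U, modelEmb σ ⟨((z : U) : Ω), hU.1 (z : U).2⟩ = l := by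
  obtain ⟨e, rfl⟩ := QuotientGroup.mk_surjective l
  obtain ⟨G0, rfl⟩ := eq_baseElt hU hUc (e := e) hl
  obtain ⟨z, hz⟩ := (powCoprime (coprime_card_center hS hF hU)).surjective (normProd hU G0)
  rw [powCoprime_apply] at hz
  obtain ⟨Gz, hGz, hn⟩ := hσ.exists_baseElt z
  refine ⟨z, QuotientGroup.eq.2 ⟨Gz⁻¹ * G0, ?_, ?_⟩⟩
  · rw [eq_inv_mul_iff_mul_eq, ← hGz, ← baseElt_mul, mul_inv_cancel_left]
  · have := normProd_mul hU Gz (Gz⁻¹ * G0)
    rw [mul_inv_cancel_left, hn, ← hz] at this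
    exact mul_eq_left.1 this.symm

theorem modelEmb_injective (hS : IsPGroup p S) (hF : F.IsSaturated p)
    (hUc : centralizerIn S U ≤ U) (hσ : IsSigma hU σ) : Function.Injective (modelEmb σ) := by
  refine (injective_iff_map_eq_one (modelEmb σ)).2 fun s hs => ?_
  obtain ⟨G0, hG0, hn0⟩ := (QuotientGroup.eq_one_iff _).1 hs
  obtain ⟨z, hz⟩ := mem_of_conjOn_eq_one hU hUc (s := s) (by rw [← hσ.right_eq, ← hG0]; rfl)
  obtain ⟨Gz, hGz, hn⟩ := hσ.exists_baseElt z
  have hs' : (⟨((z : U) : Ω), hU.1 (z : U).2⟩ : S) = s := Subtype.ext hz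
  rw [hs', ← hG0] at hGz
  rw [baseElt_inj hU hGz, hn0] at hn
  have h1 : z = 1 := (powCoprime (coprime_card_center hS hF hU)).injective (by
    rw [powCoprime_apply, powCoprime_apply, one_pow, ← hn])
  refine Subtype.ext ?_
  rw [← hz, h1]
  rfl

theorem exists_stab_conj (hS : IsPGroup p S) (hF : F.IsSaturated p) (hUcen : F.IsCentric U)
    (hσ : IsSigma hU σ) {Q : Subgroup Ω} {f : Ω → Ω} (hf : IsMap F Q f) (hUQ : U ≤ Q)
    (e : monoExt hU) (hfe : ∀ u ∈ U, f u = autFun ((e.1.right : F.autGroup U) : MulAut U) u)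
    (fS : Q.subgroupOf S →* S) (hfS : ∀ q, (fS q : Ω) = f (q : S)) (y : CosetSpace hU) :
    ∃ z : Subgroup.center U, ∀ q, (σ (fS q)).1.right • y = y →
      ((σ (fS q)).1.left y : Ω) * (z : U) =
        ((z : U) : Ω) * ((e * σ (q : S) * e⁻¹).1.left y) := by
  set a := e.1.right with ha
  have hc : ∀ q : Q.subgroupOf S, conjOn hU (fS q) * a = a * conjOn hU (q : S) := fun q => by
    rw [show fS q = ⟨f (q : S), hf.apply_mem q.2⟩ from Subtype.ext (hfS q)]
    exact conjOn_map hU hf hUQ hfe q.2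
  set x := a⁻¹ • y with hx
  obtain ⟨P₁, f₁, hf₁, hUP₁, h₁⟩ := hσ.exists_map x
  obtain ⟨P₂, f₂, hf₂, hUP₂, h₂⟩ := hσ.exists_map y
  set k := e.1.left y with hk
  let D : Subgroup Ω :=
    (((MulAction.stabilizer (F.autGroup U) y).comap ((monoRight hU).comp (σ.comp fS)))).map
      (S.subtype.comp (Q.subgroupOf S).subtype)
  have hD : ∀ v ∈ D, ∃ q : Q.subgroupOf S, ((q : S) : Ω) = v ∧ conjOn hU (fS q) • y = y ∧
      conjOn hU (q : S) • x = x := by
    rintro _ ⟨q, hq, rfl⟩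
    have hq : (σ (fS q)).1.right • y = y := hq
    rw [hσ.right_eq] at hq
    refine ⟨q, rfl, hq, ?_⟩
    rw [hx, ← mul_smul, show conjOn hU (q : S) * a⁻¹ = a⁻¹ * conjOn hU (fS q) by
      rw [eq_mul_inv_of_mul_eq (hc q)]; group, mul_smul, hq]
  have hDQ : D ≤ Q := by
    rintro _ ⟨q, -, rfl⟩
    exact q.2
  have hDP₁ : ∀ v ∈ D, v ∈ P₁ := fun v hv => by
    obtain ⟨q, rfl, -, hq⟩ := hD v hv
    exact (h₁ _ hq).1
  have hDP₂ : ∀ v ∈ D, f v ∈ P₂ := fun v hv => by
    obtain ⟨q, rfl, hq, -⟩ := hD v hv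
    rw [← hfS]
    exact (h₂ _ hq).1
  have hUD : U ≤ D := fun u hu =>
    ⟨⟨⟨u, hU.1 hu⟩, hUQ hu⟩, show (σ (fS ⟨⟨u, hU.1 hu⟩, hUQ hu⟩)).1.right • y = y by
      rw [hσ.right_eq]
      exact conjOn_smul_of_mem hU (by rw [hfS, hfe u hu]; exact autFun_mem _ hu) y, rfl⟩
  have hα : IsMap F D fun v => (k : Ω) * f₁ v * (k : Ω)⁻¹ :=
    ((hf₁.res hDP₁).comp (isMap_conj F le_rfl k.2) fun v hv => hf₁.apply_mem (hDP₁ v hv))
  have hβ : IsMap F D fun v => f₂ (f v) := (hf.res hDQ).comp hf₂ hDP₂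
  have hαU : ∀ u ∈ U, (k : Ω) * f₁ u * (k : Ω)⁻¹ =
      autFun ((y.out⁻¹ * a : F.autGroup U) : MulAut U) u := by
    intro u hu
    have h := (h₁ ⟨u, hU.1 hu⟩ (conjOn_smul_of_mem hU hu x)).2
    rw [hσ.left_eq ⟨u, hU.1 hu⟩ hu] at h
    rw [← h, ← autFun_conjOn hU k (autFun_mem _ hu), ← autFun_mul _ _ hu, ← Subgroup.coe_mul,
      e.2 y, ← ha, ← hx, mul_inv_cancel_right]
  have hagree : ∀ u ∈ U, (k : Ω) * f₁ u * (k : Ω)⁻¹ = f₂ (f u) := fun u hu => by
    have hfu : f u ∈ U := hfe u hu ▸ autFun_mem _ hu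
    have h := (h₂ ⟨f u, hU.1 hfu⟩ (conjOn_smul_of_mem hU hfu y)).2
    rw [hσ.left_eq ⟨f u, hU.1 hfu⟩ hfu] at h
    rw [hαU u hu, Subgroup.coe_mul, autFun_mul _ _ hu, ← hfe u hu, h]
  obtain ⟨z, hz, hzc, hze⟩ := exists_conj_of_eqOn_centric hS hF hUD hUcen hα hβ hagree
  refine ⟨centerMap (y.out⁻¹ * a) ⟨⟨z, hz⟩, Subgroup.mem_center_iff.2 fun w =>
    Subtype.ext (Subgroup.mem_centralizer_iff.1 hzc w w.2)⟩, fun q hq => ?_⟩
  have hqD : ((q : S) : Ω) ∈ D := ⟨q, hq, rfl⟩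
  have hq' : conjOn hU (fS q) • y = y := by
    rw [← hσ.right_eq]
    exact hq
  obtain ⟨q₀, hq₀, -, hqx⟩ := hD _ hqD
  rw [Subtype.ext hq₀] at hqx
  have e1 : ((e * σ (q : S) * e⁻¹).1.left y : Ω) = k * f₁ (q : S) * (k : Ω)⁻¹ := by
    set τ := e * σ (q : S) * e⁻¹ with hτ
    have hr : τ.1.right = (σ (fS q)).1.right := by
      show a * (σ (q : S)).1.right * a⁻¹ = (σ (fS q)).1.right
      rw [hσ.right_eq, hσ.right_eq, ← hc, mul_inv_cancel_right]
    have h' : (τ.1.left y : Ω) * (e.1.left (τ.1.right⁻¹ • y) : Ω) =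
        (e.1.left y : Ω) * ((σ (q : S)).1.left (a⁻¹ • y) : Ω) := by
      have h := congrArg (fun d : monoExt hU => (d.1.left y : Ω))
        (inv_mul_cancel_right (e * σ (q : S)) e : τ * e = e * σ (q : S))
      exact h
    rw [show τ.1.right⁻¹ • y = y by rw [hr, inv_smul_eq_iff]; exact hq.symm, ← hk,
      ← hx, (h₁ _ hqx).2] at h'
    exact eq_mul_inv_of_mul_eq h'
  have e2 : ((σ (fS q)).1.left y : Ω) = f₂ (f (q : S)) := by rw [← hfS]; exact (h₂ _ hq').2
  rw [e1, e2]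
  show f₂ (f (q : S)) * ((((y.out⁻¹ * a : F.autGroup U) : MulAut U) ⟨z, hz⟩ : U) : Ω) = _
  rw [← autFun_coe, ← hαU z hz, hze _ hqD]
  show (k : Ω) * f₁ (z * (q : S) * z⁻¹) * (k : Ω)⁻¹ * ((k : Ω) * f₁ z * (k : Ω)⁻¹) =
    ((((y.out⁻¹ * a : F.autGroup U) : MulAut U) ⟨z, hz⟩ : U) : Ω) * _
  rw [← autFun_coe, ← hαU z hz, hf₁.map_conj (hUP₁ hz) (hDP₁ _ hqD)]
  group

theorem exists_lift_model (hS : IsPGroup p S) (hF : F.IsSaturated p) (hUcen : F.IsCentric U)
    (hUc : centralizerIn S U ≤ U) (hσ : IsSigma hU σ) {Q : Subgroup Ω} {f : Ω → Ω}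
    (hf : IsMap F Q f) (hUQ : U ≤ Q) (e : monoExt hU)
    (hfe : ∀ u ∈ U, f u = autFun ((e.1.right : F.autGroup U) : MulAut U) u) :
    ∃ l, modelRight hU l = e.1.right ∧ ∀ q : S, ∀ hq : (q : Ω) ∈ Q,
      l * modelEmb σ q = modelEmb σ ⟨f q, hf.apply_mem hq⟩ * l := by
  set a := e.1.right with ha
  let τ : Q.subgroupOf S →* monoExt hU :=
    (MulAut.conj e).toMonoidHom.comp (σ.comp (Q.subgroupOf S).subtype)
  let fS : Q.subgroupOf S →* S := MonoidHom.mk' (fun q => ⟨f (q : S), hf.apply_mem q.2⟩)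
    fun q q' => Subtype.ext (hf.map_mul q.2 q'.2)
  let ρ : Q.subgroupOf S →* monoExt hU := σ.comp fS
  have hright : ∀ q, (τ q).1.right = (ρ q).1.right := fun q => by
    show a * (σ (q : S)).1.right * a⁻¹ = (σ (fS q)).1.right
    rw [hσ.right_eq, hσ.right_eq,
      ← (show conjOn hU (fS q) * a = a * conjOn hU (q : S) from conjOn_map hU hf hUQ hfe q.2),
      mul_inv_cancel_right]
  have hstab : ∀ y, ∃ z : Subgroup.center U, ∀ q, (ρ q).1.right • y = y →
      ((ρ q).1.left y : Ω) * (z : U) = ((z : U) : Ω) * (τ q).1.left y :=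
    exists_stab_conj hS hF hUcen hσ hf hUQ e hfe fS fun _ => rfl
  obtain ⟨G, hG⟩ := exists_conj_of_stab hU hUc τ ρ hright hstab
  refine ⟨QuotientGroup.mk' _ (baseElt hU G * e), one_mul a, fun q hq => ?_⟩
  show QuotientGroup.mk' (monoKer hU) (baseElt hU G * e) * QuotientGroup.mk' _ (σ q) =
    QuotientGroup.mk' _ (σ ⟨f q, hf.apply_mem hq⟩) * QuotientGroup.mk' _ (baseElt hU G * e)
  rw [← map_mul, ← map_mul]
  congr 1
  show baseElt hU G * e * σ q = ρ ⟨q, hq⟩ * (baseElt hU G * e)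
  rw [← mul_assoc, hG, mul_assoc, mul_assoc]
  congr 1
  exact (inv_mul_cancel_right _ _).symm

theorem modelEmb_conj (hσ : IsSigma hU σ) (l : ModelGroup hU) (u : S) (hu : (u : Ω) ∈ U) :
    l * modelEmb σ u * l⁻¹ = modelEmb σ
      ⟨autFun ((modelRight hU l : F.autGroup U) : MulAut U) u, hU.1 (autFun_mem _ hu)⟩ := by
  obtain ⟨e, rfl⟩ := QuotientGroup.mk_surjective l
  rw [mul_inv_eq_iff_eq_mul]
  show QuotientGroup.mk' (monoKer hU) e * QuotientGroup.mk' _ (σ u) =
    QuotientGroup.mk' _ (σ ⟨_, hU.1 (autFun_mem _ hu)⟩) * QuotientGroup.mk' _ e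
  rw [← map_mul, ← map_mul]
  congr 1
  set a := e.1.right with ha
  set v : S := ⟨autFun (a : MulAut U) u, hU.1 (autFun_mem _ hu)⟩ with hv
  show e * σ u = σ v * e
  have hvU : (v : Ω) ∈ U := autFun_mem _ hu
  refine monoExt_ext ?_ fun y => ?_
  · show a * (σ u).1.right = (σ v).1.right * a
    rw [hσ.right_eq, hσ.right_eq]
    exact (conjOn_map hU ((mem_autGroup hU.1).1 a.2) le_rfl (fun _ _ => rfl) hu).symm
  rw [monoExt_mul_left, monoExt_mul_left, hσ.right_eq, ← map_inv,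
    conjOn_smul_of_mem hU (u := v⁻¹) (U.inv_mem hvU), Subgroup.coe_mul, Subgroup.coe_mul,
    hσ.left_eq u hu, hσ.left_eq v hvU, ← ha]
  set x := a⁻¹ • y with hx
  have h1 : autFun ((y.out⁻¹ : F.autGroup U) : MulAut U) v =
      (e.1.left y : Ω) * autFun ((x.out⁻¹ : F.autGroup U) : MulAut U) u * (e.1.left y : Ω)⁻¹ := by
    rw [← autFun_conjOn hU (e.1.left y) (autFun_mem _ hu), ← autFun_mul _ _ hu, ← Subgroup.coe_mul,
      ← autFun_mul _ _ hu, ← Subgroup.coe_mul, e.2 y, ← ha, ← hx, mul_inv_cancel_right]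
  rw [h1, inv_mul_cancel_right]

omit [Finite U] in
/-- The model theorem: a saturated system with a centric normal subgroup `U` is realized by a
finite group having a normal self-centralizing image of `U`. -/
theorem exists_model_of_normal (hS : IsPGroup p S) (hF : F.IsSaturated p) (hU : F.IsNormal U)
    (hUc : centralizerIn S U ≤ U) :
    ∃ (G : Type u) (_ : Group G) (ι : S →* G), F.IsModel p G ι ∧
      ((U.subgroupOf S).map ι).Normal ∧
      Subgroup.centralizer ((U.subgroupOf S).map ι : Set G) ≤ (U.subgroupOf S).map ι := by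
  haveI := finite_of_le hU.1
  have hUcen : F.IsCentric U := by
    refine ⟨hU.1, fun Q hQ => ?_⟩
    obtain ⟨f, hf, rfl⟩ := isConj_iff.1 hQ
    rw [show fimg f U = U from Subgroup.eq_of_le_of_card_ge (fimg_le fun x hx =>
      StronglyClosed.apply_mem (stronglyClosed_of_isNormal hU) hf le_rfl hx) hf.card_fimg.ge]
    exact hUc
  obtain ⟨σ, hσr, hσU, hσf⟩ := exists_sigma hU hS hF
  have hσ : IsSigma hU σ := ⟨hσr, hσU, hσf⟩
  haveI : Finite (Wreath hU) := Finite.of_equiv _ SemidirectProduct.equivProd.symm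
  let ι := modelEmb σ
  let R := modelRight hU
  have hker := exists_center_of_modelRight_eq_one hS hF hUc hσ
  have hιinj : Function.Injective ι := modelEmb_injective hS hF hUc hσ
  have hlift := @exists_lift_model _ _ _ _ _ _ _ _ _ _ _ hS hF hUcen hUc hσ
  have hconjU := modelEmb_conj hσ
  have hrange : ι.range = (conjOn hU).range.comap R := by
    ext l
    constructor
    · rintro ⟨s, rfl⟩
      exact ⟨s, (hσr s).symm⟩
    · rintro ⟨s, hs⟩
      obtain ⟨z, hz⟩ := hker ((ι s)⁻¹ * l) (by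
        rw [map_mul, map_inv, ← hs]
        exact inv_mul_eq_one.2 (hσr s))
      exact ⟨s * ⟨((z : U) : Ω), hU.1 (z : U).2⟩, by rw [map_mul, hz, mul_inv_cancel_left]⟩
  have hp1 : IsPGroup p ι.range := hS.of_equiv (MonoidHom.ofInjective hιinj)
  have hp2 : ¬ p ∣ ι.range.index := by
    rw [hrange, Subgroup.index_comap_of_surjective _ modelRight_surjective]
    exact not_dvd_index_conjOn hS hF hU
  have hnor : ((U.subgroupOf S).map ι).Normal := ⟨by
    rintro _ ⟨u, hu, rfl⟩ l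
    exact ⟨⟨_, hU.1 (autFun_mem _ hu)⟩, autFun_mem _ hu, (hconjU l u hu).symm⟩⟩
  have hcent : Subgroup.centralizer ((U.subgroupOf S).map ι : Set (ModelGroup hU)) ≤
      (U.subgroupOf S).map ι := by
    intro l hl
    have hR : R l = 1 := by
      refine Subtype.ext (mulAut_ext fun u hu => ?_)
      have h := Subgroup.mem_centralizer_iff.1 hl (ι ⟨u, hU.1 hu⟩) ⟨_, hu, rfl⟩
      have h2 := hconjU l ⟨u, hU.1 hu⟩ hu
      rw [← h, mul_inv_cancel_right] at h2
      rw [OneMemClass.coe_one, autFun_one hu]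
      exact (congrArg Subtype.val (hιinj h2)).symm
    obtain ⟨z, rfl⟩ := hker l hR
    exact ⟨_, (z : U).2, rfl⟩
  refine ⟨_, inferInstance, ι, ⟨inferInstance, ⟨hιinj, fun P hP φ hφ => ?_⟩,
    ⟨hp1.toSylow hp2, IsPGroup.toSylow_coe hp1 hp2⟩, ?_⟩, hnor, hcent⟩
  · constructor
    · intro h
      obtain ⟨g, hg, hg1, hgU⟩ := (isNormal_iff.1 hU).2 P _ (isMap_toFun h)
      obtain ⟨α, hα, hαe⟩ := (hg.res le_sup_right).exists_aut hgU
      obtain ⟨e, he⟩ := monoRight_surjective hU ⟨α, hα⟩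
      rw [monoRight_apply] at he
      obtain ⟨l, -, hl⟩ := hlift hg le_sup_right e (by rw [he]; exact fun u hu => (hαe u hu).symm)
      refine ⟨l, fun x => eq_mul_inv_of_mul_eq ?_⟩
      rw [hl ⟨x, hP x.2⟩ (Subgroup.mem_sup_left x.2)]
      congr 2
      exact Subtype.ext ((toFun_coe φ x).symm.trans (hg1 x x.2).symm)
    · rintro ⟨l, hl⟩
      set a := R l with ha
      let K : Subgroup S := (conjOn hU).range.comap ((MulAut.conj a).toMonoidHom.comp (conjOn hU))
      have hK : P ⊔ U ≤ K.map S.subtype := by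
        refine sup_le (fun v hv => ⟨⟨v, hP hv⟩, ⟨⟨φ ⟨v, hv⟩, hφ _⟩, ?_⟩, rfl⟩)
          fun u hu => ⟨⟨u, hU.1 hu⟩, ?_, rfl⟩
        · have := congrArg R (hl ⟨v, hv⟩)
          rw [map_mul, map_mul, map_inv, ← ha] at this
          exact ((hσr _).symm.trans this).trans (by
            show a * (σ ⟨v, hP hv⟩).1.right * a⁻¹ = a * conjOn hU ⟨v, hP hv⟩ * a⁻¹
            rw [hσr])
        · have h := conjOn_map hU ((mem_autGroup hU.1).1 a.2) le_rfl (fun _ _ => rfl)
            (s := ⟨u, hU.1 hu⟩) hu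
          exact ⟨_, eq_mul_inv_of_mul_eq h⟩
      obtain ⟨f, hf, hfa⟩ := receptive_extend
        (receptive_of_fullyNormalized hS hF (isFullyNormalized_of_isNormal hU))
        ((mem_autGroup hU.1).1 a.2) (fimg_autFun _) (N := P ⊔ U) (fun v hv => by
          obtain ⟨s, ⟨k, hk⟩, rfl⟩ := hK hv
          refine ⟨⟨s.2, le_normalizer_of_isNormal hU s.2⟩, k, k.2, fun u hu => ?_⟩
          rw [← autFun_conjOn hU k (autFun_mem _ hu), hk, ← autFun_mul _ _ hu, ← Subgroup.coe_mul]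
          show autFun (a : MulAut U) ((s : Ω) * u * (s : Ω)⁻¹) =
            autFun ((a * conjOn hU s * a⁻¹ * a : F.autGroup U) : MulAut U) u
          rw [inv_mul_cancel_right, Subgroup.coe_mul, autFun_mul _ _ hu, autFun_conjOn hU s hu])
        le_sup_right
      obtain ⟨e, he⟩ := monoRight_surjective hU a
      rw [monoRight_apply] at he
      obtain ⟨l', hl'r, hl'⟩ := hlift hf le_sup_right e (by rw [he]; exact hfa)
      obtain ⟨z, hz⟩ := hker (l'⁻¹ * l) (by
        rw [map_mul, map_inv, hl'r, he, inv_mul_cancel])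
      set zS : S := ⟨((z : U) : Ω), hU.1 (z : U).2⟩ with hzS
      have hzP : ((z : U) : Ω) ∈ P ⊔ U := Subgroup.mem_sup_right (z : U).2
      have hPS : P ⊔ U ≤ S := sup_le hP hU.1
      have hcomp : IsMap F P fun v => f ((z : U) * v * ((z : U) : Ω)⁻¹) :=
        ((isMap_conj F hPS zS.2).comp hf fun v hv =>
          (P ⊔ U).mul_mem ((P ⊔ U).mul_mem hzP hv) ((P ⊔ U).inv_mem hzP)).res le_sup_left
      refine mem_hom_of_isMap hcomp fun x => ?_
      have hll : l = l' * ι zS := by rw [hz, mul_inv_cancel_left]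
      have hmem : ((zS * ⟨x, hP x.2⟩ * zS⁻¹ : S) : Ω) ∈ P ⊔ U := (P ⊔ U).mul_mem
        ((P ⊔ U).mul_mem hzP (Subgroup.mem_sup_left x.2)) ((P ⊔ U).inv_mem hzP)
      refine congrArg Subtype.val (a₁ := (⟨φ x, hφ x⟩ : S)) (a₂ := ⟨_, hf.apply_mem hmem⟩)
        (hιinj ?_)
      rw [hl x, hll, eq_mul_inv_of_mul_eq (hl' _ hmem).symm, map_mul, map_mul, map_inv]
      simp only [ι]
      group
  · have hle : (U.subgroupOf S).map ι ≤ pCore p (ModelGroup hU) :=
      le_sSup ⟨hnor, ((hS.to_subgroup (U.subgroupOf S)).map ι)⟩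
    exact (Subgroup.centralizer_le hle).trans (hcent.trans hle)

end Cfsg.Agent.Fus
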