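import Cfsg.Agent.Lib.Fus.FunctorInduction
import Cfsg.Agent.Lib.Fus.Model
import Cfsg.Agent.Lib.Grp.Cores

/-!
Positive characteristic `p`-functors relative to a normal subgroup, and the quotient of a model by
a normal subgroup on which the system acts as a `p`-group.
-/

set_option autoImplicit false
set_option linter.style.haveILetI false
set_option linter.unusedSectionVars false

open scoped Classical

namespace Cfsg.Agent.Fus

open Subgroup FusionSystem

universe u v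

section

variable (W : ∀ (Q : Type u) [Group Q], Subgroup Q) {Ω : Type u} [Group Ω]

/-- The preimage in `R` of `W(R/X)`. -/
def wMod (R X : Subgroup Ω) : Subgroup Ω :=
  ((W (R ⧸ (X.subgroupOf R).normalCore)).comap (QuotientGroup.mk' _)).map R.subtype

theorem wMod_le (R X : Subgroup Ω) : wMod W R X ≤ R := Subgroup.map_subtype_le _

theorem mem_wMod {R X : Subgroup Ω} {x : Ω} (hx : x ∈ R) : x ∈ wMod W R X ↔
    (QuotientGroup.mk ⟨x, hx⟩ : R ⧸ (X.subgroupOf R).normalCore) ∈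
      W (R ⧸ (X.subgroupOf R).normalCore) := by
  constructor
  · rintro ⟨y, hy, e⟩
    rwa [show (⟨x, hx⟩ : R) = y from Subtype.ext e.symm]
  · exact fun h => ⟨⟨x, hx⟩, h, rfl⟩

theorem le_wMod {R X : Subgroup Ω} (hXR : X ≤ R) (hX : R ≤ Subgroup.normalizer (X : Set Ω)) :
    X ≤ wMod W R X := fun x hx => by
  haveI : (X.subgroupOf R).Normal := Subgroup.normal_subgroupOf_of_le_normalizer hX
  rw [mem_wMod W (hXR hx), (QuotientGroup.eq_one_iff _).2
    (by rw [Subgroup.normalCore_eq_self]; exact hx)]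
  exact one_mem _

variable {p : ℕ}

theorem lt_wMod
    (hW1 : ∀ (Q : Type u) [Group Q] [Finite Q], IsPGroup p Q → Nontrivial Q → W Q ≠ ⊥)
    {R X : Subgroup Ω} [Finite R] (hR : IsPGroup p R) (hXR : X < R)
    (hX : R ≤ Subgroup.normalizer (X : Set Ω)) : X < wMod W R X := by
  refine lt_of_le_of_ne (le_wMod W hXR.le hX) fun e => ?_
  haveI : (X.subgroupOf R).Normal := Subgroup.normal_subgroupOf_of_le_normalizer hX
  set N := (X.subgroupOf R).normalCore with hN
  have hNX : N = X.subgroupOf R := Subgroup.normalCore_eq_self _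
  obtain ⟨r, hrR, hrX⟩ := SetLike.exists_of_lt hXR
  haveI : Nontrivial (R ⧸ N) := ⟨⟨(⟨r, hrR⟩ : R), 1, fun h => hrX (by
    have h1 := (QuotientGroup.eq_one_iff _).1 h
    rw [hNX] at h1
    exact h1)⟩⟩
  refine hW1 (R ⧸ N) (hR.to_quotient N) inferInstance ((Subgroup.eq_bot_iff_forall _).2 fun z hz => ?_)
  obtain ⟨s, rfl⟩ := QuotientGroup.mk_surjective z
  have hs : (s : Ω) ∈ wMod W R X := (mem_wMod W s.2).2 hz
  rw [← e] at hs
  exact (QuotientGroup.eq_one_iff s).2 (by rw [hNX]; exact hs)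

/-- Maps on `R` preserving `X` preserve `wMod R X`. -/
theorem wMod_invariant
    (hW2 : ∀ (Q R : Type u) [Group Q] [Group R] [Finite Q], IsPGroup p Q → ∀ φ : Q ≃* R,
      (W Q).map φ.toMonoidHom = W R)
    {S R X : Subgroup Ω} {F : FusionSystem S} [Finite R] (hR : IsPGroup p R) {f : Ω → Ω}
    (hf : IsMap F R f) (hfR : fimg f R = R) (hXR : X ≤ R)
    (hX : R ≤ Subgroup.normalizer (X : Set Ω)) (hfX : fimg f X = X) {x : Ω}
    (hx : x ∈ wMod W R X) : f x ∈ wMod W R X := by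
  haveI : (X.subgroupOf R).Normal := Subgroup.normal_subgroupOf_of_le_normalizer hX
  set N := (X.subgroupOf R).normalCore with hN
  have hNX : N = X.subgroupOf R := Subgroup.normalCore_eq_self _
  obtain ⟨α, -, hα⟩ := hf.exists_aut hfR
  have hxR := wMod_le W R X hx
  have hmap : N.map α.toMonoidHom = N := by
    rw [hNX]
    ext y
    simp only [Subgroup.mem_map, Subgroup.mem_subgroupOf, MulEquiv.coe_toMonoidHom]
    constructor
    · rintro ⟨z, hz, rfl⟩
      rw [← autFun_coe, hα z z.2, ← hfX]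
      exact apply_mem_fimg f hz
    · intro hy
      rw [← hfX] at hy
      obtain ⟨z, hz, e⟩ := (hf.res hXR).mem_fimg_iff.1 hy
      exact ⟨⟨z, hXR hz⟩, hz, Subtype.ext (by rw [← autFun_coe, hα z (hXR hz)]; exact e)⟩
  set c := QuotientGroup.congr N N α hmap with hc
  have h1 : c (QuotientGroup.mk ⟨x, hxR⟩) ∈ W (R ⧸ N) := by
    rw [← hW2 (R ⧸ N) (R ⧸ N) (hR.to_quotient N) c]
    exact ⟨_, (mem_wMod W hxR).1 hx, rfl⟩
  rw [← hα x hxR, mem_wMod W (autFun_mem α hxR)]
  convert h1 using 1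
  exact congrArg QuotientGroup.mk (Subtype.ext (autFun_coe α ⟨x, hxR⟩))

theorem wMod_bot
    (hW2 : ∀ (Q R : Type u) [Group Q] [Group R] [Finite Q], IsPGroup p Q → ∀ φ : Q ≃* R,
      (W Q).map φ.toMonoidHom = W R)
    {R : Subgroup Ω} [Finite R] (hR : IsPGroup p R) : wMod W R ⊥ = (W R).map R.subtype := by
  set N := ((⊥ : Subgroup Ω).subgroupOf R).normalCore with hN
  have hNb : N = ⊥ := le_bot_iff.1 (by
    refine (Subgroup.normalCore_le _).trans ?_
    rw [Subgroup.bot_subgroupOf])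
  set φ : R ≃* R ⧸ N := MulEquiv.ofBijective (QuotientGroup.mk' N)
    ⟨(MonoidHom.ker_eq_bot_iff _).1 (by rw [QuotientGroup.ker_mk', hNb]),
      QuotientGroup.mk'_surjective N⟩ with hφ
  rw [wMod, ← hW2 R (R ⧸ N) hR φ]
  congr 1
  exact Subgroup.comap_map_eq_self_of_injective φ.injective _

end

section

variable {Ω : Type u} [Group Ω] {p : ℕ} [Fact p.Prime] {R : Subgroup Ω} {E : FusionSystem R}
  [Finite R] {X : Subgroup Ω}

/-- A normal subgroup of a group realizing a system lying in the image is normal in the system. -/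
theorem isNormal_of_realized {L : Type v} [Group L] {ι : R →* L} (h : E.IsRealizedBy ι)
    {N : Subgroup Ω} (hN : N ≤ R) (hn : ((N.subgroupOf R).map ι).Normal) : E.IsNormal N := by
  refine isNormal_iff.2 ⟨hN, fun P f hf => ?_⟩
  obtain ⟨φ, hφ, e⟩ := hf.exists_hom
  have hPR := hf.source_le
  obtain ⟨g, hg⟩ := (h.2 P hPR φ fun x => (E.le_of_mem hφ).2 x).1 hφ
  have hle : P ⊔ N ≤ R := sup_le hPR hN
  let K : Subgroup R := ι.range.comap ((MulAut.conj g).toMonoidHom.comp ι)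
  have hK : P ⊔ N ≤ K.map R.subtype := sup_le
    (fun x hx => ⟨⟨x, hPR hx⟩, ⟨_, hg ⟨x, hx⟩⟩, rfl⟩) fun x hx => by
      obtain ⟨y, -, hy⟩ := hn.conj_mem (ι ⟨x, hN hx⟩) ⟨_, hx, rfl⟩ g
      exact ⟨⟨x, hN hx⟩, ⟨y, hy⟩, rfl⟩
  have hv : ∀ x : ↥(P ⊔ N), ∃ y : R, ι y = g * ι ⟨x, hle x.2⟩ * g⁻¹ := fun x => by
    obtain ⟨s, ⟨y, hy⟩, e'⟩ := hK x.2
    exact ⟨y, by rw [hy, show s = ⟨x, hle x.2⟩ from Subtype.ext e']; rfl⟩
  choose ψ₀ hψ₀ using hv
  let ψ : ↥(P ⊔ N) →* Ω := MonoidHom.mk' (fun x => (ψ₀ x : Ω)) fun a b => by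
    rw [← Subgroup.coe_mul]
    refine congrArg Subtype.val (h.1 ?_)
    rw [map_mul, hψ₀, hψ₀, hψ₀,
      show (⟨((a * b : ↥(P ⊔ N)) : Ω), hle (a * b).2⟩ : R) =
        ⟨(a : Ω), hle a.2⟩ * ⟨(b : Ω), hle b.2⟩ from rfl, map_mul]
    group
  have hψ : ψ ∈ E.Hom (P ⊔ N) := (h.2 _ hle ψ fun x => (ψ₀ x).2).2 ⟨g, hψ₀⟩
  refine ⟨toFun ψ, isMap_toFun hψ, fun x hx => ?_, ?_⟩
  · rw [toFun_apply ψ (Subgroup.mem_sup_left hx), ← e ⟨x, hx⟩]
    refine congrArg Subtype.val (a₁ := ψ₀ _) (a₂ := ⟨φ ⟨x, hx⟩, (E.le_of_mem hφ).2 _⟩) (h.1 ?_)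
    rw [hψ₀, hg]
  · haveI := finite_of_le hN
    refine Subgroup.eq_of_le_of_card_ge (fimg_le fun x hx => ?_)
      ((isMap_toFun hψ).res le_sup_right).card_fimg.ge
    rw [toFun_apply ψ (Subgroup.mem_sup_right hx)]
    obtain ⟨y, hy, e'⟩ := hn.conj_mem (ι ⟨x, hN hx⟩) ⟨_, hx, rfl⟩ g
    show (ψ₀ _ : Ω) ∈ N
    rw [show ψ₀ ⟨x, Subgroup.mem_sup_right hx⟩ = y from h.1 ((hψ₀ _).trans e'.symm)]
    exact hy

/-- Maps of the system are induced by the elements of a realizing group. -/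
theorem exists_conj_of_isMap {L : Type v} [Group L] {ι : R →* L} (h : E.IsRealizedBy ι)
    {P : Subgroup Ω} {f : Ω → Ω} (hf : IsMap E P f) :
    ∃ l : L, ∀ x : R, ∀ hx : (x : Ω) ∈ P, ι ⟨f x, hf.apply_mem hx⟩ = l * ι x * l⁻¹ := by
  obtain ⟨φ, hφ, e⟩ := hf.exists_hom
  obtain ⟨g, hg⟩ := (h.2 P hf.source_le φ fun x => (E.le_of_mem hφ).2 x).1 hφ
  refine ⟨g, fun x hx => ?_⟩
  rw [← hg ⟨x, hx⟩]
  exact congrArg ι (Subtype.ext (e ⟨x, hx⟩).symm)

/-- The elements of a realizing group normalising the image of a subgroup induce maps. -/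
theorem exists_isMap_of_conj {L : Type v} [Group L] {ι : R →* L} (h : E.IsRealizedBy ι)
    {P : Subgroup Ω} (hP : P ≤ R) (l : L) (hl : ∀ x : R, (x : Ω) ∈ P → l * ι x * l⁻¹ ∈ ι.range) :
    ∃ f, IsMap E P f ∧
      ∀ x : R, (x : Ω) ∈ P → ∃ y : R, (y : Ω) = f x ∧ ι y = l * ι x * l⁻¹ := by
  have hv : ∀ x : P, ∃ y : R, ι y = l * ι ⟨x, hP x.2⟩ * l⁻¹ := fun x =>
    hl ⟨x, hP x.2⟩ x.2
  choose ψ₀ hψ₀ using hv
  let ψ : P →* Ω := MonoidHom.mk' (fun x => (ψ₀ x : Ω)) fun a b => by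
    rw [← Subgroup.coe_mul]
    refine congrArg Subtype.val (h.1 ?_)
    rw [map_mul, hψ₀, hψ₀, hψ₀,
      show (⟨((a * b : P) : Ω), hP (a * b).2⟩ : R) =
        ⟨(a : Ω), hP a.2⟩ * ⟨(b : Ω), hP b.2⟩ from rfl, map_mul]
    group
  have hψ : ψ ∈ E.Hom P := (h.2 _ hP ψ fun x => (ψ₀ x).2).2 ⟨l, hψ₀⟩
  refine ⟨toFun ψ, isMap_toFun hψ, fun x hx => ⟨ψ₀ ⟨x, hx⟩, ?_, hψ₀ _⟩⟩
  rw [toFun_apply ψ hx]
  rfl

/-- The data of the quotient of a model. -/
structure ModelQuot (E : FusionSystem R) (X : Subgroup Ω) (p : ℕ) where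
  /-- the model -/
  L : Type u
  [group : Group L]
  [finite : Finite L]
  /-- the quotient -/
  Q : Type u
  [groupQ : Group Q]
  [finiteQ : Finite Q]
  /-- the embedding -/
  ι : R →* L
  /-- the projection -/
  π : L →* Q
  surj : Function.Surjective π
  realized : E.IsRealizedBy ι
  ker_π : π.ker = (X.subgroupOf R).map ι
  core_normal : ((E.core.subgroupOf R).map ι).Normal
  centralizer_core : Subgroup.centralizer ((E.core.subgroupOf R).map ι : Set L) ≤
    (E.core.subgroupOf R).map ι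
  /-- the Sylow subgroup of the quotient -/
  P : Sylow p Q
  range_eq : (P : Subgroup Q) = (π.comp ι).range
  pCore_eq : pCore p Q = (E.core.subgroupOf R).map (π.comp ι)

attribute [instance] ModelQuot.group ModelQuot.finite ModelQuot.groupQ ModelQuot.finiteQ

theorem ModelQuot.ker_comp {M : ModelQuot E X p} (r : R) (hX : X ≤ R) :
    M.π (M.ι r) = 1 ↔ (r : Ω) ∈ X := by
  rw [← MonoidHom.mem_ker, M.ker_π]
  exact ⟨fun ⟨x, hx, e⟩ => M.realized.1 e ▸ hx, fun h => ⟨r, h, rfl⟩⟩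

/-- A system with centric core has such a quotient. -/
theorem exists_modelQuot (hR : IsPGroup p R) (hE : E.IsSaturated p) (hX : E.IsNormal X)
    (hcc : centralizerIn R E.core ≤ E.core) : Nonempty (ModelQuot E X p) := by
  have hU := isNormal_core E
  obtain ⟨L, i, ι, ⟨hfin, hreal, ⟨T, hT⟩, -⟩, hUn, hUc⟩ := exists_model_of_normal hR hE hU hcc
  haveI := hfin
  have hXU : X ≤ E.core := le_core hX
  haveI := finite_of_le hX.1
  haveI hXn : ((X.subgroupOf R).map ι).Normal := ⟨by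
    rintro _ ⟨x, hx, rfl⟩ l
    obtain ⟨f, hf, hfe⟩ := exists_isMap_of_conj hreal hU.1 l fun y hy => by
      obtain ⟨z, -, e⟩ := hUn.conj_mem (ι y) ⟨y, hy, rfl⟩ l
      exact ⟨z, e⟩
    obtain ⟨y, hy, hye⟩ := hfe x (hXU hx)
    exact ⟨y, show (y : Ω) ∈ X from hy ▸
      StronglyClosed.apply_mem (stronglyClosed_of_isNormal hX) (hf.res hXU) le_rfl hx, hye⟩⟩
  set π := QuotientGroup.mk' ((X.subgroupOf R).map ι) with hπ
  have hsurj : Function.Surjective π := QuotientGroup.mk'_surjective _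
  have hP : ((T.mapSurjective hsurj : Sylow p _) : Subgroup _) = (π.comp ι).range := by
    rw [Sylow.coe_mapSurjective, hT, MonoidHom.range_comp]
  refine ⟨{ L := L, Q := L ⧸ (X.subgroupOf R).map ι, ι := ι, π := π, surj := hsurj,
            realized := hreal, ker_π := QuotientGroup.ker_mk' _, core_normal := hUn,
            centralizer_core := hUc, P := T.mapSurjective hsurj, range_eq := hP,
            pCore_eq := le_antisymm ?_ ?_ }⟩
  · intro q hq
    obtain ⟨l, rfl⟩ := hsurj q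
    haveI hcn := Grp.pCore_isNormal (p := p) (G := L ⧸ (X.subgroupOf R).map ι)
    set M := (pCore p (L ⧸ (X.subgroupOf R).map ι)).comap π with hM
    have hMp : IsPGroup p M := Grp.pCore_isPGroup.comap_of_ker_isPGroup π
      (by rw [hπ, QuotientGroup.ker_mk']; exact (hR.to_subgroup _).map ι)
    have hMn : M.Normal := inferInstance
    have hMT : M ≤ ι.range := hT ▸ (Grp.le_pCore hMn hMp).trans (Grp.pCore_le_sylow T)
    set N := (M.comap ι).map R.subtype with hN
    have hNeq : (N.subgroupOf R).map ι = M := by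
      rw [hN, Subgroup.subgroupOf, Subgroup.comap_map_eq_self_of_injective R.subtype_injective,
        Subgroup.map_comap_eq, inf_eq_right.2 hMT]
    have hNU : N ≤ E.core := le_core (isNormal_of_realized hreal (Subgroup.map_subtype_le _)
      (hNeq.symm ▸ hMn))
    obtain ⟨r, hr, e⟩ := hNeq.ge (show l ∈ M from hq)
    exact ⟨r, hNU hr, congrArg π e⟩
  · refine Grp.le_pCore ?_ (((hR.to_subgroup _).map _))
    rw [← Subgroup.map_map]
    exact hUn.map π hsurj

variable (W : ∀ (Q : Type u) [Group Q], Subgroup Q)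

/-- The image of `wMod` is `W` of the Sylow subgroup of the quotient. -/
theorem ModelQuot.map_wMod (M : ModelQuot E X p) (hR : IsPGroup p R)
    (hW2 : ∀ (Q R : Type u) [Group Q] [Group R] [Finite Q], IsPGroup p Q → ∀ φ : Q ≃* R,
      (W Q).map φ.toMonoidHom = W R) (hX : E.IsNormal X) :
    (W (M.P : Subgroup M.Q)).map (M.P : Subgroup M.Q).subtype =
      ((wMod W R X).subgroupOf R).map (M.π.comp M.ι) := by
  set N := (X.subgroupOf R).normalCore with hN
  haveI : (X.subgroupOf R).Normal :=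
    Subgroup.normal_subgroupOf_of_le_normalizer (le_normalizer_of_isNormal hX)
  have hNX : N = X.subgroupOf R := Subgroup.normalCore_eq_self _
  let ψ₀ : R →* (M.P : Subgroup M.Q) := (M.π.comp M.ι).codRestrict _
    fun r => M.range_eq.ge ⟨r, rfl⟩
  have hker : ∀ r : R, ψ₀ r = 1 ↔ r ∈ N := fun r => by
    rw [hNX, Subgroup.mem_subgroupOf, ← M.ker_comp r hX.1]
    exact Subtype.ext_iff
  let ψ : R ⧸ N ≃* (M.P : Subgroup M.Q) := MulEquiv.ofBijective
    (QuotientGroup.lift N ψ₀ fun r hr => (hker r).2 hr) (by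
      refine ⟨(injective_iff_map_eq_one _).2 fun q hq => ?_, fun q => ?_⟩
      · obtain ⟨r, rfl⟩ := QuotientGroup.mk_surjective q
        exact (QuotientGroup.eq_one_iff r).2 ((hker r).1 hq)
      · obtain ⟨r, hr⟩ := M.range_eq.le q.2
        exact ⟨QuotientGroup.mk r, Subtype.ext hr⟩)
  rw [← hW2 (R ⧸ N) _ (hR.to_quotient N) ψ, Subgroup.map_map]
  rw [show (wMod W R X).subgroupOf R = (W (R ⧸ N)).comap (QuotientGroup.mk' N) from
    Subgroup.comap_map_eq_self_of_injective R.subtype_injective _]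
  conv_lhs => rw [← Subgroup.map_comap_eq_self_of_surjective (QuotientGroup.mk'_surjective N)
    (W (R ⧸ N)), Subgroup.map_map]
  rfl

/-- When `W` of the Sylow subgroup of the quotient is normal, all maps normalise `wMod`. -/
theorem ModelQuot.forall_of_normal (M : ModelQuot E X p) (hR : IsPGroup p R)
    (hW2 : ∀ (Q R : Type u) [Group Q] [Group R] [Finite Q], IsPGroup p Q → ∀ φ : Q ≃* R,
      (W Q).map φ.toMonoidHom = W R) (hX : E.IsNormal X)
    (hn : ((W (M.P : Subgroup M.Q)).map (M.P : Subgroup M.Q).subtype).Normal) :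
    E.IsNormal (wMod W R X) := by
  refine isNormal_of_realized M.realized (wMod_le W R X) ?_
  rw [M.map_wMod W hR hW2 hX, ← Subgroup.map_map] at hn
  have hle : M.π.ker ≤ ((wMod W R X).subgroupOf R).map M.ι := by
    rw [M.ker_π]
    exact Subgroup.map_mono fun x hx =>
      le_wMod W hX.1 (le_normalizer_of_isNormal hX) hx
  rw [← Subgroup.comap_map_eq_self hle]
  exact hn.comap _

/-- A property follows from its validity on the maps normalising a normal subgroup. -/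
theorem forall_of_isNormal {F' : FusionSystem R} {D : Subgroup Ω → (Ω → Ω) → Prop}
    (hD : IsMapProp F' D) {Y : Subgroup Ω} (hY : F'.IsNormal Y)
    (h : ∀ P f, IsMap F' P f → Y ≤ P → fimg f Y = Y → D P f) {P : Subgroup Ω} {f : Ω → Ω}
    (hf : IsMap F' P f) : D P f := by
  obtain ⟨g, hg, hg1, hgY⟩ := (isNormal_iff.1 hY).2 P f hf
  exact hD.congr _ _ _ (hD.res _ _ _ hg le_sup_left (h _ g hg le_sup_right hgY)) hg1

end

end Cfsg.Agent.Fus
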