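import Cfsg.Agent.Lib.Fus.QdGroup
import Cfsg.Agent.Lib.Fus.WFunctor
import Cfsg.Agent.Lib.Fus.JInduction
import Cfsg.Agent.Lib.Fus.NormalCrit
import Cfsg.Agent.Lib.Fus.GroupSystem
import Cfsg.Prelude.Def_FusionReduction

/-!
`Qd(p)`-free fusion systems: no subgroup has a quotient on which the system induces `SL(2, p)`.
-/

set_option autoImplicit false
set_option linter.style.haveILetI false
set_option linter.unusedSectionVars false

open scoped Classical

namespace Cfsg.Agent.Fus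

open Subgroup FusionSystem

universe u v

variable {Ω : Type u} [Group Ω] {S : Subgroup Ω} {F : FusionSystem S} {p : ℕ}

/-- Some subgroup has a quotient on which the system induces all of `SL(2, p)`. -/
def QdWitness (F : FusionSystem S) (p : ℕ) : Prop :=
  ∃ V : Subgroup Ω, V ≤ S ∧ IsQdAction p (F.autGroup V : Set (MulAut V))

theorem QdWitness.mono {T : Subgroup Ω} {E : FusionSystem T} (h : QdWitness E p)
    (hE : E.IsSubsystemOf F) : QdWitness F p := by
  obtain ⟨V, hV, hA⟩ := h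
  exact ⟨V, ((isMap_id E hV).mono hE).source_le, hA.mono fun α hα => autGroup_mono hE V hα⟩

theorem grpQdWitness_of_qdAction {L : Type v} [Group L] (hS : IsPGroup p S) {ι : S →* L}
    (hι : Function.Injective ι) {V : Subgroup Ω} (hV : V ≤ S) {A : Set (MulAut V)}
    (hA : IsQdAction p A) (hl : ∀ α ∈ A, ∃ l : L, ∀ v : V,
      ι ⟨(α v : Ω), hV (α v).2⟩ = l * ι ⟨v, hV v.2⟩ * l⁻¹) : GrpQdWitness L p := by
  refine ⟨(V.subgroupOf S).map ι, (hS.to_subgroup _).map ι, ?_⟩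
  let e : V ≃* ((V.subgroupOf S).map ι) :=
    (Subgroup.subgroupOfEquivOfLe hV).symm.trans ((V.subgroupOf S).equivMapOfInjective ι hι)
  have he : ∀ v : V, (e v : L) = ι ⟨v, hV v.2⟩ := fun _ => rfl
  refine hA.transport e fun α hα => ?_
  obtain ⟨l, hl⟩ := hl α hα
  refine ⟨MulAut.congr e α, ⟨l, fun w => ?_⟩, fun v => ?_⟩
  · obtain ⟨v, rfl⟩ := e.surjective w
    rw [he, ← hl v, ← he]
    simp [MulAut.congr]
  · simp [MulAut.congr]

theorem grpQdWitness_of_realized [Finite S] {L : Type u} [Group L] (hS : IsPGroup p S) {ι : S →* L}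
    (h : F.IsRealizedBy ι) (hw : QdWitness F p) : GrpQdWitness L p := by
  obtain ⟨V, hV, hA⟩ := hw
  refine grpQdWitness_of_qdAction hS h.1 hV hA fun α hα => ?_
  obtain ⟨l, hl⟩ := exists_conj_of_isMap h ((mem_autGroup hV).1 hα)
  refine ⟨l, fun v => ?_⟩
  rw [← hl ⟨v, hV v.2⟩ v.2]
  exact congrArg ι (Subtype.ext (autFun_coe α v).symm)

theorem qdWitness_of_grp {L : Type u} [Group L] [Finite L] [Fact p.Prime] {ι : S →* L}
    (h : F.IsRealizedBy ι) (T : Sylow p L) (hT : (T : Subgroup L) = ι.range)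
    (hw : GrpQdWitness L p) : QdWitness F p := by
  obtain ⟨V, hVp, hA⟩ := hw
  obtain ⟨g, -, hg⟩ := (isSylowOf_top T).exists_conj_le hVp le_top
  have hV₁ : V.map (MulAut.conj g).toMonoidHom ≤ ι.range := by
    rintro _ ⟨x, hx, rfl⟩
    exact hT ▸ hg ⟨x, hx, rfl⟩
  set V₂ : Subgroup S := (V.map (MulAut.conj g).toMonoidHom).comap ι with hV₂
  set V' : Subgroup Ω := V₂.map S.subtype with hV'
  have hV'S : V' ≤ S := Subgroup.map_subtype_le _
  have hmap : V₂.map ι = V.map (MulAut.conj g).toMonoidHom :=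
    Subgroup.map_comap_eq_self hV₁
  let e : V ≃* V' :=
    (((V.equivMapOfInjective _ (MulAut.conj g).injective).trans
      (MulEquiv.subgroupCongr hmap.symm)).trans (V₂.equivMapOfInjective ι h.1).symm).trans
      (V₂.equivMapOfInjective S.subtype S.subtype_injective)
  have he : ∀ v : V, ι ⟨(e v : Ω), hV'S (e v).2⟩ = g * v * g⁻¹ := by
    intro v
    let y : V₂ := (V₂.equivMapOfInjective ι h.1).symm
      (MulEquiv.subgroupCongr hmap.symm (V.equivMapOfInjective _ (MulAut.conj g).injective v))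
    show ι (y : S) = _
    have hy := congrArg Subtype.val ((V₂.equivMapOfInjective ι h.1).apply_symm_apply
      (MulEquiv.subgroupCongr hmap.symm (V.equivMapOfInjective _ (MulAut.conj g).injective v)))
    exact hy
  refine ⟨V', hV'S, hA.transport e fun α ⟨x, hx⟩ => ?_⟩
  have hmem : V'.subtype.comp (MulAut.congr e α).toMonoidHom ∈ F.Hom V' := by
    refine (h.2 V' hV'S _ fun w => hV'S (MulAut.congr e α w).2).2 ⟨g * x * g⁻¹, fun w => ?_⟩
    obtain ⟨v, rfl⟩ := e.surjective w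
    have h1 : MulAut.congr e α (e v) = e (α v) := by simp [MulAut.congr]
    refine Eq.trans (congrArg ι (Subtype.ext (congrArg (fun z : V' => (z : Ω)) h1) :
      (⟨(MulAut.congr e α (e v) : Ω), hV'S (MulAut.congr e α (e v)).2⟩ : S) =
        ⟨(e (α v) : Ω), hV'S (e (α v)).2⟩)) ?_
    rw [he, he, hx]
    group
  exact ⟨MulAut.congr e α, Subgroup.subset_closure hmem, fun v => by simp [MulAut.congr]⟩

theorem involves_iff_qdWitness [Finite S] {L : Type u} [Group L] [Finite L] [Fact p.Prime]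
    (hS : IsPGroup p S) {ι : S →* L} (h : F.IsRealizedBy ι) (T : Sylow p L)
    (hT : (T : Subgroup L) = ι.range) : Involves ↥(qd p) L ↔ QdWitness F p :=
  involves_qd_iff.trans ⟨qdWitness_of_grp h T hT, grpQdWitness_of_realized hS h⟩

theorem isSectionFree_of_not_qdWitness [Finite S] [Fact p.Prime] (hS : IsPGroup p S)
    (h : ¬ QdWitness F p) : F.IsSectionFree p ↥(qd p) := by
  intro Q hQn _ N hN L _ ι hmod hinv
  obtain ⟨hfin, hι, ⟨T, hT⟩, -⟩ := hmod
  haveI : Finite ↥(normalizerIn S Q) := finite_of_le (S := S) inf_le_left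
  haveI : Finite ↥(S ⊓ Subgroup.normalizer (Q : Set Ω)) := finite_of_le (S := S) inf_le_left
  refine h (((involves_iff_qdWitness (hS.to_le inf_le_left) hι T hT).1 hinv).mono ?_)
  exact fun P φ hφ => ((hN P).le hφ).1

variable [Finite S] [Fact p.Prime]

/-- `Q` carries a witness made of its own automorphisms. -/
def QdAt (F : FusionSystem S) (p : ℕ) (Q : Subgroup Ω) : Prop :=
  ∃ V ≤ Q, IsQdAction p {α : MulAut V | ∃ β, IsMap F Q β ∧ fimg β Q = Q ∧
    ∀ x : V, β x = (α x : Ω)}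

/-- A conjugate of a subgroup with a witness has one. -/
theorem QdAt.of_isConj {Q Q' : Subgroup Ω} (h : QdAt F p Q) (hcj : F.IsConj Q Q') :
    QdAt F p Q' := by
  obtain ⟨V, hVQ, hA⟩ := h
  obtain ⟨k, hk, rfl⟩ := isConj_iff.1 hcj
  obtain ⟨e, he, -⟩ := exists_mulEquiv (hk.res hVQ) rfl
  refine ⟨fimg k V, fimg_mono k hVQ, hA.transport e fun α ⟨β, hβ, hβQ, hβV⟩ => ?_⟩
  obtain ⟨k', hk', hk'1, hk'2, -⟩ := hk.exists_inv
  refine ⟨MulAut.congr e α, ⟨k ∘ β ∘ k', ?_, ?_, fun y => ?_⟩, fun v => by simp [MulAut.congr]⟩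
  · exact (hk'.comp hβ fun y hy => (hk'2 y hy).1).comp hk
      fun y hy => hβQ.le (apply_mem_fimg β (hk'2 y hy).1)
  · refine le_antisymm (fimg_le fun y hy => apply_mem_fimg k
      (hβQ.le (apply_mem_fimg β (hk'2 y hy).1))) ?_
    refine fimg_le fun x hx => ?_
    obtain ⟨z, hz, hzx⟩ := hβ.mem_fimg_iff.1 (hβQ.ge hx)
    have := apply_mem_fimg (k ∘ β ∘ k') (apply_mem_fimg k hz)
    simpa [Function.comp, hk'1 z hz, hzx] using this
  · obtain ⟨x, rfl⟩ := e.surjective y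
    show k (β (k' (e x : Ω))) = _
    rw [he, hk'1 x (hVQ x.2), hβV,
      show MulAut.congr e α (e x) = e (α x) by simp [MulAut.congr], he]

theorem exists_qdAt (hS : IsPGroup p S) (hF : F.IsSaturated p)
    (h : QdWitness F p) :
    ∃ Q : Subgroup Ω, F.IsFullyNormalized Q ∧ F.IsCentric Q ∧ QdAt F p Q := by
  obtain ⟨V₀, hV₀, hA₀⟩ := h
  obtain ⟨V, hcj, hVn⟩ : ∃ V, F.IsConj V₀ V ∧ F.IsFullyNormalized V :=
    exists_fullyNormalized F hV₀
  obtain ⟨f, hf, hfV⟩ := isConj_iff.1 hcj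
  obtain ⟨e₀, -, he₀⟩ := exists_mulEquiv hf hfV
  have hA : IsQdAction p (F.autGroup V : Set (MulAut V)) :=
    hA₀.transport e₀ fun α hα => ⟨_, (he₀ α).1 hα, fun v => by simp [MulAut.congr]⟩
  have hVc := fullyCentralized_of_fullyNormalized hS hF hVn
  set Q := V ⊔ centralizerIn S V with hQ
  have hQS : Q ≤ S := sup_le hVn.1 inf_le_left
  haveI := finite_of_le hQS
  have hQc : F.IsCentric Q := by
    refine ⟨hQS, fun Q' hQ' => ?_⟩
    obtain ⟨k, hk, rfl⟩ := isConj_iff.1 hQ'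
    have hVQ : V ≤ Q := le_sup_left
    have hCQ : centralizerIn S V ≤ Q := le_sup_right
    have h1 : fimg k (centralizerIn S V) ≤ centralizerIn S (fimg k V) :=
      fimg_le fun x hx => hk.map_centralizerIn hVQ (hCQ hx) hx.2
    haveI := finite_of_le (S := S) (P := centralizerIn S (fimg k V)) inf_le_left
    have h2 : fimg k (centralizerIn S V) = centralizerIn S (fimg k V) :=
      Subgroup.eq_of_le_of_card_ge h1
        ((hVc.2 _ (hk.res hVQ).isConj).trans (hk.res hCQ).card_fimg.ge)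
    refine (le_trans ?_ h2.ge).trans (fimg_mono k hCQ)
    exact inf_le_inf_left _ (Subgroup.centralizer_le (fimg_mono k hVQ))
  have hA' : IsQdAction p {α : MulAut V | ∃ β, IsMap F Q β ∧ fimg β Q = Q ∧
      ∀ x : V, β x = (α x : Ω)} := by
    refine hA.mono fun α hα => ?_
    have hα' := (mem_autGroup hVn.1).1 hα
    have hCN : centralizerIn S V ≤ Subgroup.normalizer (V : Set Ω) :=
      inf_le_right.trans (Subgroup.centralizer_le_normalizer _)
    have hdec : ∀ g ∈ Q, ∃ a ∈ V, ∃ b ∈ centralizerIn S V, a * b = g := fun g hg => by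
      have : g ∈ ((V ⊔ centralizerIn S V : Subgroup Ω) : Set Ω) := hg
      rwa [Subgroup.coe_mul_of_right_le_normalizer_left _ _ hCN] at this
    obtain ⟨β, hβ, hβe⟩ := receptive_extend (receptive_of_fullyNormalized hS hF hVn) hα'
      (fimg_autFun α) (N := Q) (fun g hg => by
        obtain ⟨a, ha, b, hb, rfl⟩ := hdec g hg
        refine ⟨⟨hQS hg, Subgroup.mul_mem _ (Subgroup.le_normalizer ha) (hCN hb)⟩,
          autFun α a, hα'.apply_mem ha, fun x hx => ?_⟩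
        rw [← hα'.map_conj ha hx]
        congr 1
        rw [mul_inv_rev, show a * b * x * (b⁻¹ * a⁻¹) = a * (b * x * b⁻¹) * a⁻¹ by group,
          ← Subgroup.mem_centralizer_iff.1 hb.2 x hx, mul_inv_cancel_right])
      le_sup_left
    have hβV : ∀ x : V, β x = (α x : Ω) := fun x => (hβe x x.2).trans (autFun_coe α x)
    have himg : fimg β V = V := (fimg_congr hβe).trans (fimg_autFun α)
    refine ⟨β, hβ, Subgroup.eq_of_le_of_card_ge (fimg_le fun g hg => ?_) hβ.card_fimg.ge, hβV⟩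
    obtain ⟨a, ha, b, hb, rfl⟩ := hdec g hg
    rw [hβ.map_mul (Subgroup.mem_sup_left ha) (Subgroup.mem_sup_right hb)]
    refine Q.mul_mem (Subgroup.mem_sup_left (himg.le (apply_mem_fimg β ha)))
      (Subgroup.mem_sup_right ?_)
    have := hβ.map_centralizerIn le_sup_left (Subgroup.mem_sup_right hb) hb.2
    rwa [himg] at this
  obtain ⟨Q', hcjQ, hQ'n⟩ : ∃ Q', F.IsConj Q Q' ∧ F.IsFullyNormalized Q' :=
    exists_fullyNormalized F hQS
  exact ⟨Q', hQ'n, centric_of_isConj hQc hcjQ,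
    QdAt.of_isConj ⟨V, le_sup_left, hA'⟩ hcjQ⟩

theorem exists_model_involves (hS : IsPGroup p S) (hF : F.IsSaturated p) {Q : Subgroup Ω}
    (hQn : F.IsFullyNormalized Q) (hQc : F.IsCentric Q) (h : QdAt F p Q) :
    ∃ (L : Type u) (_ : Group L) (ι : ↥(normalizerIn S Q) →* L),
      (normalizerSystem F Q hQn.1).IsModel p L ι ∧ Involves ↥(qd p) L := by
  obtain ⟨V, hVQ, hA⟩ := h
  have hR : normalizerIn S Q ≤ S := inf_le_left
  haveI := finite_of_le hR
  obtain ⟨L, _, ι, hmod, -, -⟩ := exists_model_of_normal (hS.to_le hR)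
    (isSaturated_normalizerSystem hS hF hQn) (isNormal_normalizerSystem_self hQn.1)
    ((inf_le_inf_right _ hR).trans (centralizerIn_le_of_centric hQc))
  refine ⟨L, inferInstance, ι, hmod, ?_⟩
  haveI : Finite L := hmod.1
  refine involves_of_grpQdWitness (grpQdWitness_of_qdAction (hS.to_le hR) hmod.2.1.1
    (hVQ.trans (le_normalizerIn hQn.1)) hA fun α ⟨β, hβ, hβQ, hβV⟩ => ?_)
  have hN : IsMap (normalizerSystem F Q hQn.1) Q β := by
    refine (isMap_normalizerSystem hQn.1).2 ⟨le_normalizerIn hQn.1, fun x hx =>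
      le_normalizerIn hQn.1 (hβQ.le (apply_mem_fimg β hx)), β, by rwa [sup_idem],
      fun _ _ => rfl, hβQ⟩
  obtain ⟨l, hl⟩ := exists_conj_of_isMap hmod.2.1 hN
  refine ⟨l, fun v => ?_⟩
  rw [← hl ⟨v, _⟩ (hVQ v.2)]
  exact congrArg ι (Subtype.ext (hβV v).symm)

theorem not_isSectionFree_of_qdWitness (hS : IsPGroup p S) (hF : F.IsSaturated p)
    (h : QdWitness F p) : ¬ F.IsSectionFree p ↥(qd p) := by
  obtain ⟨Q, hQn, hQc, hQ⟩ := exists_qdAt hS hF h
  obtain ⟨L, _, ι, hmod, hinv⟩ := exists_model_involves hS hF hQn hQc hQ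
  exact fun hfree =>
    hfree Q hQn hQc _ (isNormalizerSystem_normalizerSystem F hQn.1) L ι hmod hinv

theorem isSectionFree_qd_iff (hS : IsPGroup p S) (hF : F.IsSaturated p) :
    F.IsSectionFree p ↥(qd p) ↔ ¬ QdWitness F p :=
  ⟨fun h hw => not_isSectionFree_of_qdWitness hS hF hw h, isSectionFree_of_not_qdWitness hS⟩

set_option maxHeartbeats 1600000 in
/-- A witness at a subgroup that is not radical climbs. -/
theorem exists_qdAt_lt (hS : IsPGroup p S) (hF : F.IsSaturated p) {Q : Subgroup Ω}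
    (hQn : F.IsFullyNormalized Q) (hQc : F.IsCentric Q) (h : QdAt F p Q)
    (hrad : ¬ F.IsRadical p Q) : ∃ R : Subgroup Ω, F.IsFullyNormalized R ∧ F.IsCentric R ∧
      QdAt F p R ∧ Nat.card Q < Nat.card R := by
  have hQS := hQn.1
  haveI := finite_of_le hQS
  set A := F.autGroup Q with hA
  set K := (pCore p A).map A.subtype with hK
  have hInn : Inn Q ≤ K := fun α hα => by
    refine ⟨⟨α, inn_le_autGroup F hQS hα⟩, ?_, rfl⟩
    refine Grp.le_pCore (?_ : ((Inn Q).subgroupOf A).Normal)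
      ((isPGroup_inn (hS.to_le hQS)).comap_of_injective A.subtype Subtype.coe_injective) hα
    refine ⟨fun n hn a => ?_⟩
    obtain ⟨y, hy⟩ := (hn : (n : MulAut Q) ∈ Inn Q)
    refine (⟨(a : MulAut Q) y, ?_⟩ : ((a * n * a⁻¹ : A) : MulAut Q) ∈ Inn Q)
    rw [Subgroup.coe_mul, Subgroup.coe_mul, Subgroup.coe_inv,
      show (n : MulAut Q) = MulAut.conj y from hy.symm]
    ext z
    simp
  obtain ⟨-, T, hT⟩ := fullyAutomized_of_fullyNormalized hS hF hQn
  have hKS : K ≤ autInducedBy S Q := by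
    rintro _ ⟨α, hα, rfl⟩
    haveI := Grp.pCore_isNormal (p := p) (G := A)
    have := (Grp.pCore_isPGroup (p := p) (G := A)).le_sylow_of_normal T hα
    rwa [hT] at this
  set R₁ : Subgroup Ω :=
    (K.comap Q.normalizerMonoidHom).map (Subgroup.normalizer (Q : Set Ω)).subtype ⊓ S with hR₁
  have hmem : ∀ g, g ∈ R₁ ↔ g ∈ S ∧
      ∃ hg : g ∈ Subgroup.normalizer (Q : Set Ω), Q.normalizerMonoidHom ⟨g, hg⟩ ∈ K := fun g =>
    ⟨fun hg => by
      obtain ⟨⟨x, hx, rfl⟩, hgS⟩ := hg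
      exact ⟨hgS, x.2, hx⟩, fun ⟨hgS, hgN, hgK⟩ => ⟨⟨⟨g, hgN⟩, hgK, rfl⟩, hgS⟩⟩
  have hQR : Q ≤ R₁ := fun q hq =>
    (hmem q).2 ⟨hQS hq, Subgroup.le_normalizer hq, hInn ⟨⟨q, hq⟩, by ext z; rfl⟩⟩
  have hR₁S : R₁ ≤ S := inf_le_right
  have hR₁N : R₁ ≤ normalizerIn S Q := fun g hg => by
    obtain ⟨h1, h2, -⟩ := (hmem g).1 hg
    exact ⟨h1, h2⟩
  haveI := finite_of_le hR₁S
  have hlt : Q < R₁ := by
    refine lt_of_le_of_ne hQR fun heq => hrad ⟨hQS, ?_⟩
    refine le_antisymm (fun α hα => ?_) hInn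
    obtain ⟨g, hgS, hg⟩ := mem_autInducedBy.1 (hKS hα)
    have hgN := mem_normalizer_of_conj_aut hg
    have hn : Q.normalizerMonoidHom ⟨g, hgN⟩ = α :=
      MulEquiv.ext fun x => Subtype.ext (hg x).symm
    have hgQ : g ∈ Q := heq.ge ((hmem g).2 ⟨hgS, hgN, hn.symm ▸ hα⟩)
    exact ⟨⟨g, hgQ⟩, hn ▸ (by ext z; rfl)⟩
  obtain ⟨R, hcj, hRn⟩ : ∃ R, F.IsConj R₁ R ∧ F.IsFullyNormalized R :=
    exists_fullyNormalized F hR₁S
  have hR₁c := centric_mono hQc hQR hR₁S
  refine ⟨R, hRn, centric_of_isConj hR₁c hcj, QdAt.of_isConj ?_ hcj,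
    (card_lt_of_lt hlt).trans_le (isConj_card hcj).ge⟩
  obtain ⟨V, hVQ, hV⟩ := h
  refine ⟨V, hVQ.trans hQR, hV.mono fun α ⟨β, hβ, hβQ, hβV⟩ => ?_⟩
  obtain ⟨a, ha, hae⟩ := hβ.exists_aut hβQ
  have hconj : ∀ g ∈ R₁, ∀ hgN : g ∈ Subgroup.normalizer (Q : Set Ω),
      a * Q.normalizerMonoidHom ⟨g, hgN⟩ * a⁻¹ ∈ K := fun g hg hgN => by
    obtain ⟨-, _, k, hk1, hk2⟩ := (hmem g).1 hg
    haveI := Grp.pCore_isNormal (p := p) (G := A)
    exact ⟨⟨a, ha⟩ * k * ⟨a, ha⟩⁻¹, Subgroup.Normal.conj_mem inferInstance k hk1 _, by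
      show a * (k : MulAut Q) * a⁻¹ = _
      rw [← hk2]; rfl⟩
  obtain ⟨β', hβ', hβ'e⟩ := receptive_extend (receptive_of_fullyNormalized hS hF hQn) hβ hβQ
    (N := R₁) (fun g hg => by
      obtain ⟨hgS, hgN, -⟩ := (hmem g).1 hg
      obtain ⟨h, hh, hhe⟩ := mem_autInducedBy.1 (hKS (hconj g hg hgN))
      refine ⟨⟨hgS, hgN⟩, h, hh, fun x hx => ?_⟩
      have hgx := (Subgroup.mem_normalizer_iff.1 hgN x).1 hx
      rw [← hae _ hgx, ← hae _ hx, show autFun a x = (a ⟨x, hx⟩ : Ω) from autFun_coe a ⟨x, hx⟩,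
        ← hhe, show autFun a (g * x * g⁻¹) = (a ⟨_, hgx⟩ : Ω) from autFun_coe a ⟨_, hgx⟩]
      simp only [MulAut.mul_apply, MulAut.inv_apply_self]
      rfl) hQR
  refine ⟨β', hβ', Subgroup.eq_of_le_of_card_ge (fimg_le fun g hg => ?_) hβ'.card_fimg.ge,
    fun x => (hβ'e x (hVQ x.2)).trans (hβV x)⟩
  obtain ⟨hgS, hgN, -⟩ := (hmem g).1 hg
  have himg : fimg β' Q = Q := (fimg_congr hβ'e).trans hβQ
  have h1 := hβ'.map_normalizerIn hQR hg hgN
  rw [himg] at h1
  refine (hmem _).2 ⟨h1.1, h1.2, ?_⟩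
  have : Q.normalizerMonoidHom ⟨β' g, h1.2⟩ = a * Q.normalizerMonoidHom ⟨g, hgN⟩ * a⁻¹ := by
    refine MulEquiv.ext fun y => Subtype.ext ?_
    obtain ⟨x, rfl⟩ := a.surjective y
    simp only [MulAut.mul_apply, MulAut.inv_apply_self, normalizerMonoidHom_apply]
    have hax : ∀ z : Q, ((a z : Q) : Ω) = β' z := fun z =>
      ((hβ'e z z.2).trans ((hae z z.2).symm.trans (autFun_coe a z))).symm
    rw [hax, hax, normalizerMonoidHom_apply, hβ'.map_conj hg (hQR x.2)]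
  rw [this]
  exact hconj g hg hgN

/-- A witness gives one at a fully normalized centric radical subgroup. -/
theorem exists_radical_qdAt (hS : IsPGroup p S) (hF : F.IsSaturated p) (h : QdWitness F p) :
    ∃ Q : Subgroup Ω, F.IsFullyNormalized Q ∧ F.IsCentric Q ∧ F.IsRadical p Q ∧ QdAt F p Q := by
  let s : Set (Subgroup Ω) := {Q | F.IsFullyNormalized Q ∧ F.IsCentric Q ∧ QdAt F p Q}
  have hfin : s.Finite := finite_subgroups_le.subset fun Q hQ => hQ.1.1
  obtain ⟨Q₀, hQ₀⟩ : s.Nonempty := exists_qdAt hS hF h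
  obtain ⟨Q, ⟨hQn, hQc, hQ⟩, hmax⟩ :=
    hfin.exists_maximalFor (fun Q : Subgroup Ω => Nat.card Q) _ ⟨Q₀, hQ₀⟩
  refine ⟨Q, hQn, hQc, by_contra fun hr => ?_, hQ⟩
  obtain ⟨R, hRn, hRc, hR, hlt⟩ := exists_qdAt_lt hS hF hQn hQc hQ hr
  exact absurd (hmax (j := R) ⟨hRn, hRc, hR⟩ hlt.le) (not_le.2 hlt)

end Cfsg.Agent.Fus
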