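import Cfsg.Agent.Lib.Fus.QdGroup

/-!
`Qd(2)` is the symmetric group of degree four; two transvections of an elementary abelian
`2`-group generating more than a `2`-group induce `SL(2, 2)` on a four-group.
-/

set_option autoImplicit false
set_option linter.style.haveILetI false
set_option linter.unusedSectionVars false

namespace Cfsg.Agent.Fus

open Matrix

local notation "SL2" => Matrix.SpecialLinearGroup (Fin 2) (ZMod 2)
local notation "F2" => Multiplicative (Fin 2 → ZMod 2)

/-- The translation part. -/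
def qdVec (x : qd 2) : F2 := Multiplicative.ofAdd ![x.1.1 0 2, x.1.1 1 2]

theorem qdVec_mul (x y : qd 2) : qdVec (x * y) = qdVec x * matAct (qdBlock 2 x) (qdVec y) := by
  obtain ⟨a0, a1, a2⟩ := qd_apply x
  obtain ⟨b0, b1, b2⟩ := qd_apply y
  apply Multiplicative.toAdd.injective
  show ![((HMul.hMul (α := Matrix _ _ (ZMod 2)) x.1.1 y.1.1)) 0 2,
    ((HMul.hMul (α := Matrix _ _ (ZMod 2)) x.1.1 y.1.1)) 1 2] =
    ![x.1.1 0 2, x.1.1 1 2] + (qdBlock 2 x).1 *ᵥ ![y.1.1 0 2, y.1.1 1 2]
  ext i
  fin_cases i <;>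
    simp [qdBlock_coe, Matrix.mul_apply, Matrix.mulVec, dotProduct, Fin.sum_univ_three,
      Fin.sum_univ_two, b2] <;> ring

theorem qdVec_one : qdVec (1 : qd 2) = 1 := by
  apply Multiplicative.toAdd.injective
  show ![(1 : Matrix (Fin 3) (Fin 3) (ZMod 2)) 0 2, (1 : Matrix (Fin 3) (Fin 3) (ZMod 2)) 1 2] = 0
  ext i
  fin_cases i <;> simp

/-- `qd 2` acts on the four points of the plane. -/
noncomputable def qdPerm : qd 2 →* Equiv.Perm F2 :=
  letI : MulAction (qd 2) F2 :=
    { smul := fun x v => qdVec x * matAct (qdBlock 2 x) v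
      one_smul := fun v => by
        show qdVec 1 * matAct (qdBlock 2 1) v = v
        rw [qdVec_one, map_one, matAct_one, one_mul]
      mul_smul := fun x y v => by
        show qdVec (x * y) * matAct (qdBlock 2 (x * y)) v =
          qdVec x * matAct (qdBlock 2 x) (qdVec y * matAct (qdBlock 2 y) v)
        rw [qdVec_mul, map_mul, matAct_mul, matAct_map_mul, mul_assoc] }
  MulAction.toPermHom (qd 2) F2

theorem qdPerm_apply (x : qd 2) (v : F2) : qdPerm x v = qdVec x * matAct (qdBlock 2 x) v := rfl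

theorem qdPerm_injective : Function.Injective qdPerm := fun x y h => by
  have h0 : qdVec x = qdVec y := by
    have := Equiv.congr_fun h 1
    simpa [qdPerm_apply, matAct_map_one] using this
  have h1 : qdBlock 2 x = qdBlock 2 y := eq_of_matAct_eq fun v => by
    have := Equiv.congr_fun h v
    rw [qdPerm_apply, qdPerm_apply, h0] at this
    exact mul_left_cancel this
  rw [qd_decomp x, qd_decomp y, h1]
  exact congrArg (fun t => qdTrans 2 t * qdLift 2 (qdBlock 2 y)) h0

theorem qdPerm_bijective : Function.Bijective qdPerm := by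
  refine (Nat.bijective_iff_injective_and_card _).2 ⟨qdPerm_injective, ?_⟩
  have e : qd 2 ≃ F2 × SL2 :=
    { toFun := fun x => (qdVec x, qdBlock 2 x)
      invFun := fun a => qdTrans 2 a.1 * qdLift 2 a.2
      left_inv := fun x => (qd_decomp x).symm
      right_inv := fun a => by
        refine Prod.ext ?_ ?_
        · show qdVec (qdTrans 2 a.1 * qdLift 2 a.2) = a.1
          rw [qdVec_mul, qdBlock_trans, matAct_one]
          apply Multiplicative.toAdd.injective
          ext i
          fin_cases i <;> simp [qdVec, qdTrans, qdLift]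
        · show qdBlock 2 (qdTrans 2 a.1 * qdLift 2 a.2) = a.2
          rw [map_mul, qdBlock_trans, qdBlock_lift, one_mul] }
  rw [Nat.card_congr e, Nat.card_prod, Nat.card_eq_fintype_card (α := SL2), Nat.card_perm,
    show Nat.card F2 = 4 by rw [Nat.card_eq_fintype_card]; rfl,
    show Fintype.card SL2 = 6 by decide]
  rfl

/-- `Qd(2)` is the symmetric group of degree four. -/
theorem exists_qd_two_equiv : Nonempty (qd 2 ≃* Equiv.Perm (Fin 4)) :=
  ⟨(MulEquiv.ofBijective qdPerm qdPerm_bijective).trans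
    (Fintype.equivFinOfCardEq (show Fintype.card F2 = 4 by rfl)).permCongrHom⟩

variable {W : Type*} [CommGroup W] [Finite W]

theorem sq_diff_fixed (hW : ∀ w : W, w ^ 2 = 1) {t : MulAut W} (ht : t * t = 1) (v : W) :
    t (t v * v⁻¹) = t v * v⁻¹ := by
  have h1 : t (t v) = v := by rw [← MulAut.mul_apply, ht, MulAut.one_apply]
  have h2 : ∀ w : W, w⁻¹ = w := fun w => inv_eq_of_mul_eq_one_right (by rw [← pow_two, hW])
  rw [map_mul, map_inv, h1, h2, h2, mul_comm]

/-- A transvection has one nontrivial commutator. -/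
theorem exists_diff_point (hW : ∀ w : W, w ^ 2 = 1) {t : MulAut W} (ht : t * t = 1) (ht1 : t ≠ 1)
    (hfix : ∀ a b : W, t a ≠ a → t b ≠ b → t (a * b) = a * b) :
    ∃ u, u ≠ 1 ∧ t u = u ∧ ∀ v, t v = v ∨ t v = v * u := by
  obtain ⟨a, ha⟩ : ∃ a, t a ≠ a := by
    by_contra h
    push Not at h
    exact ht1 (MulEquiv.ext h)
  have h2 : ∀ w : W, w⁻¹ = w := fun w => inv_eq_of_mul_eq_one_right (by rw [← pow_two, hW])
  refine ⟨t a * a⁻¹, fun h => ha (mul_inv_eq_one.1 h), sq_diff_fixed hW ht a, fun v => ?_⟩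
  by_cases hv : t v = v
  · exact Or.inl hv
  · refine Or.inr ?_
    have h := hfix a v ha hv
    rw [map_mul] at h
    calc t v = (t a)⁻¹ * (t a * t v) := by group
      _ = (t a)⁻¹ * (a * v) := by rw [h]
      _ = v * (t a * a⁻¹) := by rw [h2, h2, mul_comm v, mul_assoc]

/-- Two transvections one of which fixes the point of the other generate a `2`-group. -/
theorem isPGroup_of_transvections (hW : ∀ w : W, w ^ 2 = 1) {s t : MulAut W} {u u' : W}
    (hu : t u = u) (hts : ∀ v, t v = v ∨ t v = v * u) (hu' : s u' = u')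
    (hss : ∀ v, s v = v ∨ s v = v * u') (h : t u' = u') :
    IsPGroup 2 (Subgroup.closure {s, t}) := by
  set W₀ := Subgroup.closure ({u, u'} : Set W) with hW₀
  have hu₀ : u ∈ W₀ := Subgroup.subset_closure (by simp)
  have hu₁ : u' ∈ W₀ := Subgroup.subset_closure (by simp)
  let P : Subgroup (MulAut W) :=
    { carrier := {f | (∀ v, f v * v⁻¹ ∈ W₀) ∧ (∀ w ∈ W₀, f w * w⁻¹ ∈ Subgroup.zpowers u') ∧ f u' = u'}
      one_mem' := ⟨fun v => by simp, fun v _ => by simp, rfl⟩
      mul_mem' := fun {f g} ⟨f1, f2, f3⟩ ⟨g1, g2, g3⟩ => by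
        have hg : ∀ w ∈ W₀, g w ∈ W₀ := fun w hw => by
          have h' := W₀.mul_mem (g1 w) hw
          rwa [inv_mul_cancel_right] at h'
        refine ⟨fun v => ?_, fun w hw => ?_, ?_⟩
        · rw [MulAut.mul_apply, show f (g v) * v⁻¹ = f (g v) * (g v)⁻¹ * (g v * v⁻¹) by group]
          exact W₀.mul_mem (f1 _) (g1 v)
        · rw [MulAut.mul_apply, show f (g w) * w⁻¹ = f (g w) * (g w)⁻¹ * (g w * w⁻¹) by group]
          exact (Subgroup.zpowers u').mul_mem (f2 _ (hg w hw)) (g2 w hw)
        · rw [MulAut.mul_apply, g3, f3]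
      inv_mem' := fun {f} ⟨f1, f2, f3⟩ => by
        have key : ∀ v, f⁻¹ v * v⁻¹ = (f (f⁻¹ v) * (f⁻¹ v)⁻¹)⁻¹ := fun v => by
          rw [MulAut.apply_inv_self]
          group
        refine ⟨fun v => by rw [key]; exact W₀.inv_mem (f1 _), fun w hw => ?_, ?_⟩
        · rw [key]
          refine (Subgroup.zpowers u').inv_mem (f2 _ ?_)
          have h' := W₀.mul_mem (W₀.inv_mem (f1 (f⁻¹ w))) hw
          rwa [MulAut.apply_inv_self, _root_.mul_inv_rev, inv_inv, inv_mul_cancel_right] at h'
        · conv_lhs => rw [← f3]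
          exact MulAut.inv_apply_self _ _ _ }
  have hmemP : ∀ f : MulAut W, (∀ v, f v * v⁻¹ ∈ W₀) →
      f u * u⁻¹ ∈ Subgroup.zpowers u' → f u' = u' → f ∈ P := fun f h1 h2 h3 => by
    refine ⟨h1, fun w hw => ?_, h3⟩
    induction hw using Subgroup.closure_induction with
    | mem y hy =>
      rcases hy with rfl | rfl
      · exact h2
      · rw [h3, mul_inv_cancel]; exact one_mem _
    | one => simp
    | mul a b _ _ iha ihb =>
      rw [map_mul, mul_inv, mul_mul_mul_comm]
      exact mul_mem iha ihb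
    | inv a _ iha =>
      rw [map_inv, ← mul_inv]
      exact inv_mem iha
  have hle : Subgroup.closure {s, t} ≤ P := by
    rw [Subgroup.closure_le]
    rintro f (rfl | rfl)
    · refine hmemP _ (fun v => ?_) ?_ hu'
      · rcases hss v with e | e <;> rw [e]
        · simp
        · rw [mul_comm v, mul_inv_cancel_right]; exact hu₁
      · rcases hss u with e | e <;> rw [e]
        · simp
        · rw [mul_comm u, mul_inv_cancel_right]; exact Subgroup.mem_zpowers _
    · refine hmemP _ (fun v => ?_) ?_ h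
      · rcases hts v with e | e <;> rw [e]
        · simp
        · rw [mul_comm v, mul_inv_cancel_right]; exact hu₀
      · rw [hu, mul_inv_cancel]; exact one_mem _
  refine fun f => ⟨2, Subtype.ext ?_⟩
  obtain ⟨f1, f2, f3⟩ := hle f.2
  rw [SubgroupClass.coe_pow, OneMemClass.coe_one]
  set g : MulAut W := (f : MulAut W) with hg
  have hfix : ∀ w ∈ W₀, g (g w) = w := fun w hw => by
    obtain ⟨k, hk⟩ := Subgroup.mem_zpowers_iff.1 (f2 w hw)
    rw [show g w = u' ^ k * w by rw [hk, inv_mul_cancel_right], map_mul, map_zpow, f3,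
      show g w = u' ^ k * w by rw [hk, inv_mul_cancel_right], ← mul_assoc, ← pow_two, hW, one_mul]
  refine MulEquiv.ext fun v => ?_
  show (g ^ 4) v = v
  have h1 : ∀ x, g (g x) * x⁻¹ ∈ W₀ := fun x => by
    rw [show g (g x) * x⁻¹ = g (g x) * (g x)⁻¹ * (g x * x⁻¹) by group]
    exact W₀.mul_mem (f1 _) (f1 x)
  show g (g (g (g v))) = v
  calc g (g (g (g v))) = g (g (g (g v) * v⁻¹ * v)) := by rw [inv_mul_cancel_right]
    _ = g (g v) * v⁻¹ * g (g v) := by rw [map_mul g, map_mul g, hfix _ (h1 v)]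
    _ = g (g v) * g (g v) * v⁻¹ := mul_right_comm _ _ _
    _ = v := by rw [← pow_two, hW, one_mul, inv_eq_of_mul_eq_one_right (by rw [← pow_two, hW])]

/-- Two transvections generating more than a `2`-group induce all of `SL(2, 2)` on a four-group. -/
theorem exists_sl_two_action (hW : ∀ w : W, w ^ 2 = 1) {s t : MulAut W} {u u' : W}
    (hu : t u = u) (hts : ∀ v, t v = v ∨ t v = v * u) (hu' : s u' = u')
    (hss : ∀ v, s v = v ∨ s v = v * u') (hn : ¬ IsPGroup 2 (Subgroup.closure {s, t})) :
    ∃ ψ : F2 →* W, Function.Injective ψ ∧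
      ∀ g : SL2, ∃ f ∈ Subgroup.closure {s, t}, ∀ x, f (ψ x) = ψ (matAct g x) := by
  have htu' : t u' = u' * u := (hts u').resolve_left fun h =>
    hn (isPGroup_of_transvections hW hu hts hu' hss h)
  have hsu : s u = u * u' := (hss u).resolve_left fun h => hn (by
    rw [show ({s, t} : Set (MulAut W)) = {t, s} from Set.pair_comm _ _]
    exact isPGroup_of_transvections hW hu' hss hu hts h)
  have hu0 : u ≠ 1 := fun h => hn (isPGroup_of_transvections hW hu hts hu' hss
    (by rw [htu', h, mul_one]))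
  have hu1 : u' ≠ 1 := fun h => hn (isPGroup_of_transvections hW hu hts hu' hss
    (by rw [h, map_one]))
  have hpow : ∀ (w : W) (a b : ZMod 2), w ^ (a + b).val = w ^ a.val * w ^ b.val := fun w a b => by
    rw [← pow_add, ZMod.val_add, ← pow_eq_pow_mod _ (hW w)]
  let ψ : F2 →* W := MonoidHom.mk' (fun x => u ^ (x.toAdd 0).val * u' ^ (x.toAdd 1).val)
    fun x y => by
      show u ^ (x.toAdd 0 + y.toAdd 0).val * u' ^ (x.toAdd 1 + y.toAdd 1).val = _
      rw [hpow, hpow, mul_mul_mul_comm]
  have hcases : ∀ a : ZMod 2, a = 0 ∨ a = 1 := by decide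
  have h10 : (ZMod.val (0 : ZMod 2)) = 0 := rfl
  have h11 : (ZMod.val (1 : ZMod 2)) = 1 := rfl
  refine ⟨ψ, (injective_iff_map_eq_one ψ).2 fun x hx => ?_, fun g => ?_⟩
  · change u ^ (x.toAdd 0).val * u' ^ (x.toAdd 1).val = 1 at hx
    apply Multiplicative.toAdd.injective
    ext i
    rcases hcases (x.toAdd 0) with h0 | h0 <;> rcases hcases (x.toAdd 1) with h1 | h1 <;>
      rw [h0, h1] at hx
    · fin_cases i <;> simpa
    · simp [h10, h11, hu1] at hx
    · simp [h10, h11, hu0] at hx
    · simp only [h11, pow_one] at hx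
      have he : u = u' := by
        rw [eq_inv_of_mul_eq_one_left hx]
        exact inv_eq_of_mul_eq_one_right (by rw [← pow_two, hW])
      refine absurd ?_ hu0
      have := htu'
      rw [← he, hu] at this
      exact (mul_eq_left.1 this.symm)
  · let A : SL2 := ⟨!![1, 1; 0, 1], by decide⟩
    let B : SL2 := ⟨!![1, 0; 1, 1], by decide⟩
    have hall : ∀ g : SL2, g = 1 ∨ g = A ∨ g = B ∨ g = A * B ∨ g = B * A ∨ g = A * B * A := by
      have key : ∀ a b c d : ZMod 2, a * d - b * c = 1 →
          (a, b, c, d) = (1, 0, 0, 1) ∨ (a, b, c, d) = (1, 1, 0, 1) ∨ (a, b, c, d) = (1, 0, 1, 1) ∨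
            (a, b, c, d) = (0, 1, 1, 1) ∨ (a, b, c, d) = (1, 1, 1, 0) ∨
              (a, b, c, d) = (0, 1, 1, 0) := by decide
      intro g
      have hd : g.1.det = 1 := g.2
      rw [Matrix.det_fin_two] at hd
      have hext : ∀ (k : SL2), g.1 0 0 = k.1 0 0 → g.1 0 1 = k.1 0 1 → g.1 1 0 = k.1 1 0 →
          g.1 1 1 = k.1 1 1 → g = k := fun k h0 h1 h2 h3 => by
        apply Subtype.ext
        ext i j
        fin_cases i <;> fin_cases j <;> assumption
      rcases key _ _ _ _ hd with h | h | h | h | h | h <;> simp only [Prod.mk.injEq] at h <;>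
        obtain ⟨h0, h1, h2, h3⟩ := h
      · exact Or.inl (hext 1 (h0.trans (by decide)) (h1.trans (by decide)) (h2.trans (by decide))
          (h3.trans (by decide)))
      · exact Or.inr (Or.inl (hext A (h0.trans (by decide)) (h1.trans (by decide))
          (h2.trans (by decide)) (h3.trans (by decide))))
      · exact Or.inr (Or.inr (Or.inl (hext B (h0.trans (by decide)) (h1.trans (by decide))
          (h2.trans (by decide)) (h3.trans (by decide)))))
      · exact Or.inr (Or.inr (Or.inr (Or.inl (hext (A * B) (h0.trans (by decide))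
          (h1.trans (by decide)) (h2.trans (by decide)) (h3.trans (by decide))))))
      · exact Or.inr (Or.inr (Or.inr (Or.inr (Or.inl (hext (B * A) (h0.trans (by decide))
          (h1.trans (by decide)) (h2.trans (by decide)) (h3.trans (by decide)))))))
      · exact Or.inr (Or.inr (Or.inr (Or.inr (Or.inr (hext (A * B * A) (h0.trans (by decide))
          (h1.trans (by decide)) (h2.trans (by decide)) (h3.trans (by decide)))))))
    let Ok : SL2 → Prop := fun g => ∃ f ∈ Subgroup.closure {s, t}, ∀ x, f (ψ x) = ψ (matAct g x)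
    have hmul : ∀ {g k}, Ok g → Ok k → Ok (g * k) := fun {g k} ⟨f, hf, e⟩ ⟨f', hf', e'⟩ =>
      ⟨f * f', mul_mem hf hf', fun x => by rw [MulAut.mul_apply, e', e, matAct_mul]⟩
    have hone : Ok 1 := ⟨1, one_mem _, fun x => by rw [matAct_one]; rfl⟩
    have hgen : ∀ (f : MulAut W) (M : Matrix (Fin 2) (Fin 2) (ZMod 2)) (hM : M.det = 1),
        f u = u ^ (M 0 0).val * u' ^ (M 1 0).val → f u' = u ^ (M 0 1).val * u' ^ (M 1 1).val →
        ∀ x, f (ψ x) = ψ (matAct ⟨M, hM⟩ x) := by
      intro f M hM h0 h1 x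
      show f (u ^ (x.toAdd 0).val * u' ^ (x.toAdd 1).val) =
        u ^ ((M *ᵥ x.toAdd) 0).val * u' ^ ((M *ᵥ x.toAdd) 1).val
      simp only [Matrix.mulVec, dotProduct, Fin.sum_univ_two, hpow, map_mul, map_pow, h0, h1]
      rcases hcases (x.toAdd 0) with a0 | a0 <;> rcases hcases (x.toAdd 1) with a1 | a1 <;>
        simp [a0, a1, h10, h11, mul_mul_mul_comm]
    have hA : Ok A := ⟨t, Subgroup.subset_closure (by simp), hgen t _ _
      (by simp [h10, h11, hu]) (by simp [h10, h11, htu', mul_comm])⟩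
    have hB : Ok B := ⟨s, Subgroup.subset_closure (by simp), hgen s _ _
      (by simp [h10, h11, hsu]) (by simp [h10, h11, hu'])⟩
    rcases hall g with rfl | rfl | rfl | rfl | rfl | rfl
    exacts [hone, hA, hB, hmul hA hB, hmul hB hA, hmul (hmul hA hB) hA]

end Cfsg.Agent.Fus
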