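import Cfsg.Agent.Lib.Fus.OddCenter
import Cfsg.Agent.Lib.Fus.GoodFix
import Cfsg.Agent.Lib.Fus.SFourQd
import Cfsg.Agent.Lib.Fus.QdWitness
import Cfsg.Agent.Lib.Invol.Transvection
import Cfsg.Agent.Lib.Grp.Baer
import Cfsg.Agent.Lib.Grp.Cores

/-!
For `p = 2` and systems without a symmetric group of degree four in a model, a central subgroup of
`S` centralised by the normalizer of `J(S)` is central.
-/

set_option autoImplicit false
set_option linter.style.haveILetI false
set_option linter.unusedSectionVars false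

open scoped Classical

attribute [local instance] Fintype.ofFinite

namespace Cfsg.Agent.Fus

open Subgroup FusionSystem

universe u

variable {Ω : Type u} [Group Ω] {R : Subgroup Ω} [Finite R] {E : FusionSystem R} {U : Subgroup Ω}

/-- The elements of the centre of `U` of order at most two. -/
def omegaCentre (U : Subgroup Ω) : Subgroup Ω where
  carrier := {v | v ∈ centralizerIn U U ∧ v ^ 2 = 1}
  one_mem' := ⟨one_mem _, one_pow _⟩
  mul_mem' := fun {a b} ⟨ha, ha2⟩ ⟨hb, hb2⟩ => ⟨mul_mem ha hb, by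
    rw [show (a * b) ^ 2 = a ^ 2 * b ^ 2 from
      (show Commute a b from ((mem_centralizerIn.1 hb).2 a (mem_centralizerIn.1 ha).1)).mul_pow 2,
      ha2, hb2, mul_one]⟩
  inv_mem' := fun {a} ⟨ha, ha2⟩ => ⟨inv_mem ha, by rw [inv_pow, ha2, inv_one]⟩

theorem omegaCentre_le : omegaCentre U ≤ U := fun _ h => (mem_centralizerIn.1 h.1).1

instance omegaCentreComm (U : Subgroup Ω) : IsMulCommutative (omegaCentre U) :=
  ⟨⟨fun a b => Subtype.ext ((mem_centralizerIn.1 b.2.1).2 a (omegaCentre_le a.2))⟩⟩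

open scoped IsMulCommutative in
instance omegaCentreGroup (U : Subgroup Ω) : CommGroup (omegaCentre U) := inferInstance

set_option maxHeartbeats 1600000 in
/-- The local step: without a witness, every map fixes a central subgroup whose squares are
fixed. -/
theorem fixesExt_local_two {S : Subgroup Ω} {F : FusionSystem S} (hEF : E.IsSubsystemOf F) (hR : IsPGroup 2 R) (hEs : E.IsSaturated 2) (hw : ¬ QdWitness E 2)
    {X : Subgroup Ω} (hX : X ≤ R ⊓ Subgroup.centralizer (R : Set Ω))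
    (hU : E.IsNormal U) (hUc : centralizerIn R U ≤ U)
    (hbig : ∀ L, U < L → L ≤ R → R ≤ Subgroup.normalizer (L : Set Ω) →
      ∀ P f, IsMap E P f → L ≤ P → fimg f L = L → FixesExt F X P f)
    (hJ : ¬ thompsonSubgroupAOf R ≤ U)
    (hsq : ∀ z ∈ X, ∀ α ∈ E.autGroup U, autFun α (z ^ 2) = z ^ 2)
    {P₁ : Subgroup Ω} {f₁ : Ω → Ω} (hf₁ : IsMap E P₁ f₁) : FixesExt F X P₁ f₁ := by
  have hUR := hU.1
  haveI := finite_of_le hUR
  have hRU : R ≤ Subgroup.normalizer (U : Set Ω) := le_normalizer_of_isNormal hU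
  have hUn := isFullyNormalized_of_isNormal hU
  have hXV : X ≤ centralizerIn U U := fun w hw => by
    obtain ⟨hwR, hwC⟩ := hX hw
    have hwU : w ∈ U := hUc (mem_centralizerIn.2 ⟨hwR, fun y hy =>
      Subgroup.mem_centralizer_iff.1 hwC y (hUR hy)⟩)
    exact mem_centralizerIn.2 ⟨hwU, fun y hy => Subgroup.mem_centralizer_iff.1 hwC y (hUR hy)⟩
  have hXU : X ≤ U := fun z hz => (mem_centralizerIn.1 (hXV hz)).1
  set W := omegaCentre U with hWdef
  haveI : Finite W := finite_of_le (S := U) omegaCentre_le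
  have hW2 : ∀ w : W, w ^ 2 = 1 := fun w => Subtype.ext (by
    rw [SubgroupClass.coe_pow, OneMemClass.coe_one]; exact w.2.2)
  have hmulA : ∀ (γ : MulAut U) {a b : Ω}, a ∈ U → b ∈ U →
      autFun γ (a * b) = autFun γ a * autFun γ b := fun γ a b ha hb => by
    show autFun γ (((⟨a, ha⟩ * ⟨b, hb⟩ : U) : Ω)) =
      autFun γ ((⟨a, ha⟩ : U) : Ω) * autFun γ ((⟨b, hb⟩ : U) : Ω)
    rw [autFun_coe, autFun_coe, autFun_coe, map_mul, Subgroup.coe_mul]
  have hVinv : ∀ (γ : MulAut U) {v : Ω}, v ∈ centralizerIn U U →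
      autFun γ v ∈ centralizerIn U U := fun γ {v} hv => by
    obtain ⟨hv1, hv2⟩ := mem_centralizerIn.1 hv
    refine mem_centralizerIn.2 ⟨autFun_mem γ hv1, fun y hy => ?_⟩
    obtain ⟨z, hz⟩ := γ.surjective ⟨y, hy⟩
    have h1 := congrArg (fun w : U => ((γ w : U) : Ω))
      (Subtype.ext (hv2 z z.2) : (z : U) * ⟨v, hv1⟩ = ⟨v, hv1⟩ * z)
    simp only [map_mul, Subgroup.coe_mul, hz] at h1
    rwa [← autFun_coe γ ⟨v, hv1⟩] at h1
  have hWinv : ∀ (γ : MulAut U) {v : Ω}, v ∈ W → autFun γ v ∈ W := fun γ {v} hv => by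
    refine ⟨hVinv γ hv.1, ?_⟩
    have hvU := omegaCentre_le hv
    rw [pow_two, ← hmulA γ hvU hvU, ← pow_two, hv.2]
    show autFun γ (((1 : U) : Ω)) = 1
    rw [autFun_coe, map_one]
    rfl
  let ρ : E.autGroup U →* MulAut W := MonoidHom.mk'
    (fun α =>
      { toFun := fun v => ⟨autFun (α : MulAut U) v, hWinv _ v.2⟩
        invFun := fun v => ⟨autFun ((α : MulAut U)⁻¹) v, hWinv _ v.2⟩
        left_inv := fun v => Subtype.ext (autFun_inv_apply _ (omegaCentre_le v.2))
        right_inv := fun v => Subtype.ext (by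
          show autFun (α : MulAut U) (autFun ((α : MulAut U)⁻¹) (v : Ω)) = v
          rw [← autFun_mul _ _ (omegaCentre_le v.2), mul_inv_cancel,
            autFun_one (omegaCentre_le v.2)])
        map_mul' := fun a b => Subtype.ext (hmulA _ (omegaCentre_le a.2) (omegaCentre_le b.2)) })
    fun α β => MulEquiv.ext fun v => Subtype.ext
      (autFun_mul (α : MulAut U) β (omegaCentre_le v.2))
  set φ := conjOn hU with hφdef
  obtain ⟨-, T, hT⟩ := fullyAutomized_of_fullyNormalized hR hEs hUn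
  have hTr : (T : Subgroup (E.autGroup U)) = φ.range := by
    rw [hT]
    ext a
    rw [Subgroup.mem_subgroupOf, mem_autInducedBy, MonoidHom.mem_range]
    constructor
    · rintro ⟨k, hk, e⟩
      exact ⟨⟨k, hk⟩, conjOn_eq_of_forall hU fun u hu =>
        (e ⟨u, hu⟩).symm.trans (autFun_coe _ ⟨u, hu⟩).symm⟩
    · rintro ⟨s, rfl⟩
      exact ⟨s, s.2, fun x => rfl⟩
  have hTfix : ∀ t ∈ (T : Subgroup (E.autGroup U)), ∀ z ∈ X, autFun (t : MulAut U) z = z := by
    intro t ht z hz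
    rw [hTr] at ht
    obtain ⟨r, rfl⟩ := ht
    rw [autFun_conjOn hU r (hXU hz), Subgroup.mem_centralizer_iff.1 (hX hz).2 r r.2,
      mul_inv_cancel_right]
  -- the deviation of an automorphism at an element of `X`
  have hcW : ∀ (α : E.autGroup U), ∀ z ∈ X, autFun (α : MulAut U) z * z⁻¹ ∈ W := by
    intro α z hz
    refine ⟨mul_mem (hVinv _ (hXV hz)) (inv_mem (hXV hz)), ?_⟩
    have h1 : Commute (autFun (α : MulAut U) z) z⁻¹ :=
      ((mem_centralizerIn.1 (inv_mem (hXV hz))).2 _ (autFun_mem _ (hXU hz)))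
    rw [h1.mul_pow, pow_two (autFun _ z), ← hmulA _ (hXU hz) (hXU hz), ← pow_two,
      hsq z hz α α.2, inv_pow, mul_inv_cancel]
  let cw : E.autGroup U → ∀ z ∈ X, W := fun α z hz => ⟨_, hcW α z hz⟩
  have hcz : ∀ (α : E.autGroup U) (z : Ω) (hz : z ∈ X),
      autFun (α : MulAut U) z = (cw α z hz : Ω) * z := fun α z hz =>
    (inv_mul_cancel_right _ _).symm
  have hcoc : ∀ (α β : E.autGroup U) (z : Ω) (hz : z ∈ X),
      cw (α * β) z hz = ρ α (cw β z hz) * cw α z hz := fun α β z hz => Subtype.ext (by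
    show autFun ((α * β : E.autGroup U) : MulAut U) z * z⁻¹ =
      autFun (α : MulAut U) (autFun (β : MulAut U) z * z⁻¹) * (autFun (α : MulAut U) z * z⁻¹)
    rw [← mul_assoc, ← hmulA _ (mul_mem (autFun_mem _ (hXU hz)) (inv_mem (hXU hz))) (hXU hz),
      inv_mul_cancel_right, Subgroup.coe_mul, autFun_mul _ _ (hXU hz)])
  have hcone : ∀ (z : Ω) (hz : z ∈ X), cw 1 z hz = 1 := fun z hz => Subtype.ext (by
    show autFun ((1 : E.autGroup U) : MulAut U) z * z⁻¹ = 1
    rw [OneMemClass.coe_one, autFun_one (hXU hz), mul_inv_cancel])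
  have hcT : ∀ t ∈ (T : Subgroup (E.autGroup U)), ∀ (z : Ω) (hz : z ∈ X), cw t z hz = 1 :=
    fun t ht z hz => Subtype.ext (by
      show autFun (t : MulAut U) z * z⁻¹ = 1
      rw [hTfix t ht z hz, mul_inv_cancel])
  have hodd : Odd (T : Subgroup (E.autGroup U)).index :=
    Nat.not_even_iff_odd.1 fun h => T.not_dvd_index (even_iff_two_dvd.1 h)
  -- the kernel on `W` fixes `X`
  have hker : ∀ κ : E.autGroup U, ρ κ = 1 → ∀ z ∈ X, autFun (κ : MulAut U) z = z := by
    intro κ hκ z hz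
    have hpowc : ∀ k : ℕ, cw (κ ^ k) z hz = cw κ z hz ^ k := fun k => by
      induction k with
      | zero => rw [pow_zero, pow_zero, hcone z hz]
      | succ k ih => rw [pow_succ', hcoc κ (κ ^ k) z hz, ih, hκ, MulAut.one_apply, pow_succ]
    obtain ⟨a, b, hb, hab⟩ := Nat.exists_eq_two_pow_mul_odd (orderOf_pos κ).ne'
    have hκ2 : IsPGroup 2 (Subgroup.zpowers (κ ^ b)) := fun x => ⟨a, by
      obtain ⟨k, hk⟩ := Subgroup.mem_zpowers_iff.1 x.2
      refine Subtype.ext ?_
      have h1 : (κ ^ b) ^ (2 ^ a) = 1 := by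
        rw [← pow_mul, mul_comm, ← hab, pow_orderOf_eq_one]
      rw [SubgroupClass.coe_pow, ← hk, ← zpow_natCast, ← _root_.zpow_mul, mul_comm,
        _root_.zpow_mul, zpow_natCast, h1, one_zpow, OneMemClass.coe_one]⟩
    obtain ⟨T', hT'⟩ := hκ2.exists_le_sylow
    obtain ⟨g, hg⟩ := MulAction.exists_smul_eq (E.autGroup U) T' T
    have ht : g * κ ^ b * g⁻¹ ∈ (T : Subgroup (E.autGroup U)) := by
      rw [← hg]
      exact ⟨κ ^ b, hT' (Subgroup.mem_zpowers _), rfl⟩
    have hρb : ρ (κ ^ b) = 1 := by rw [map_pow, hκ, one_pow]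
    have hρg : ρ (g * κ ^ b * g⁻¹) = 1 := by
      rw [map_mul, map_mul, hρb, mul_one, map_inv, mul_inv_cancel]
    have h1 : cw (g * κ ^ b) z hz = cw g z hz := by
      rw [show g * κ ^ b = g * κ ^ b * g⁻¹ * g by group, hcoc _ _ z hz, hcT _ ht z hz, hρg,
        MulAut.one_apply, mul_one]
    rw [hcoc _ _ z hz, mul_eq_right] at h1
    have h2 : cw (κ ^ b) z hz = 1 := (ρ g).injective (by rw [h1, map_one])
    rw [hpowc] at h2
    obtain ⟨j, rfl⟩ := hb
    rw [pow_succ, pow_mul, hW2, one_pow, one_mul] at h2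
    rw [hcz κ z hz, h2, OneMemClass.coe_one, one_mul]
  -- the preimage of the core of the image
  set π := ρ.rangeRestrict with hπdef
  have hπs : Function.Surjective π := ρ.rangeRestrict_surjective
  haveI hPn : (pCore 2 ρ.range).Normal := Grp.pCore_isNormal
  set M := (pCore 2 ρ.range).comap π with hMdef
  have hMfix : ∀ m ∈ M, ∀ z ∈ X, autFun (m : MulAut U) z = z := by
    intro m hm z hz
    have h1 : π m ∈ ((T.mapSurjective hπs : Sylow 2 ρ.range) : Subgroup ρ.range) :=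
      Grp.pCore_le_sylow _ hm
    rw [Sylow.coe_mapSurjective] at h1
    obtain ⟨t, ht, e⟩ := h1
    have hk : ρ (m * t⁻¹) = 1 := by
      rw [map_mul, map_inv, mul_inv_eq_one]
      exact (congrArg Subtype.val e).symm
    conv_lhs => rw [show m = m * t⁻¹ * t by group, Subgroup.coe_mul, autFun_mul _ _ (hXU hz),
      hTfix t ht z hz, hker _ hk z hz]
  have hψU : ∀ r : R, (r : Ω) ∈ U → ρ (φ r) = 1 := fun r hr => MulEquiv.ext fun v => Subtype.ext (by
    show autFun ((φ r : E.autGroup U) : MulAut U) (v : Ω) = v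
    rw [autFun_conjOn hU r (omegaCentre_le v.2),
      (mem_centralizerIn.1 v.2.1).2 r hr, mul_inv_cancel_right])
  obtain ⟨g₁, hg₁, hg₁1, hg₁U⟩ := (isNormal_iff.1 hU).2 P₁ f₁ hf₁
  by_cases hcase1 : ∃ x : R, (x : Ω) ∉ U ∧ φ x ∈ M
  · obtain ⟨x, hxU, hxM⟩ := hcase1
    haveI : M.Normal := hPn.comap π
    refine forall_of_kernel hR hEs ((isMapProp_fixesExt X).mono hEF) hU hbig M ?_
      (fun y hy => ⟨φ ⟨y, hUR hy⟩, ?_, fun u hu => (autFun_conjOn hU ⟨y, hUR hy⟩ hu).symm⟩) x.2 hxU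
      ⟨φ x, hxM, fun u hu => (autFun_conjOn hU x hu).symm⟩ hf₁
    · rintro P g hUP hg ⟨κ, hκ, e⟩
      refine ⟨g, (hg.mono hEF).res (sup_le le_rfl (hXU.trans hUP)), fun x _ => rfl, fun z hz => ?_⟩
      rw [e z (hXU hz), hMfix κ hκ z hz]
    · show π (φ ⟨y, hUR hy⟩) ∈ pCore 2 ρ.range
      rw [show π (φ ⟨y, hUR hy⟩) = 1 from Subtype.ext (hψU ⟨y, hUR hy⟩ hy)]
      exact one_mem _
  push Not at hcase1
  suffices hfix : ∀ α : E.autGroup U, ∀ z ∈ X, autFun (α : MulAut U) z = z by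
    obtain ⟨γ, hγ, hγe⟩ := (hg₁.res le_sup_right).exists_aut hg₁U
    exact ⟨g₁, (hg₁.mono hEF).res (sup_le_sup_left hXU P₁), hg₁1,
      fun z hz => (hγe z (hXU hz)).symm.trans (hfix ⟨γ, hγ⟩ z hz)⟩
  by_cases hcase2 : ∃ A : Subgroup (E.autGroup U), A ≤ (T : Subgroup (E.autGroup U)) ∧
      IsGoodSub ρ 2 A ∧ ∃ a ∈ A, ρ a ≠ 1
  · -- good subgroups
    set 𝒳 : Set (Subgroup (E.autGroup U)) :=
      {A | A ≤ (T : Subgroup (E.autGroup U)) ∧ IsGoodSub ρ 2 A} with h𝒳
    set H := sSup 𝒳 with hHdef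
    have hHT : H ≤ (T : Subgroup (E.autGroup U)) := sSup_le fun A hA => hA.1
    set L := (H.comap φ).map R.subtype with hLdef
    have hLR : L ≤ R := Subgroup.map_subtype_le _
    have hUH : ∀ u : R, (u : Ω) ∈ U → φ u ∈ H := fun u hu => by
      refine (le_sSup (show Subgroup.zpowers (φ u) ∈ 𝒳 from ⟨?_, ?_⟩) :
        Subgroup.zpowers (φ u) ≤ H) (Subgroup.mem_zpowers _)
      · rw [Subgroup.zpowers_le, hTr]; exact ⟨u, rfl⟩
      · intro B _ _ v _ a ha
        obtain ⟨k, rfl⟩ := Subgroup.mem_zpowers_iff.1 ha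
        rw [map_zpow, hψU u hu, one_zpow, MulAut.one_apply]
    have hUL : U < L := by
      refine lt_of_le_of_ne (fun u hu => ⟨⟨u, hUR hu⟩, hUH ⟨u, hUR hu⟩ hu, rfl⟩) fun e => ?_
      obtain ⟨A, hAT, hA, a, ha, hne⟩ := hcase2
      have haT := hAT ha
      rw [hTr] at haT
      obtain ⟨r, rfl⟩ := haT
      refine hne (hψU r ?_)
      rw [e]
      exact ⟨r, (le_sSup (⟨hAT, hA⟩ : A ∈ 𝒳) : A ≤ H) ha, rfl⟩
    have hTH : ∀ t ∈ (T : Subgroup (E.autGroup U)), ∀ c ∈ H, t * c * t⁻¹ ∈ H := by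
      intro t ht c hc
      have hle : H.map (MulAut.conj t).toMonoidHom ≤ H := by
        rw [Subgroup.map_le_iff_le_comap, hHdef]
        refine sSup_le fun A hA => Subgroup.map_le_iff_le_comap.1
          (le_sSup ⟨?_, isGoodSub_map ρ hA.2 t⟩)
        rintro _ ⟨a, ha, rfl⟩
        exact mul_mem (mul_mem ht (hA.1 ha)) (inv_mem ht)
      exact hle ⟨c, hc, rfl⟩
    have hLinv : ∀ {g : Ω → Ω} {Q : Subgroup Ω} {α : E.autGroup U}, IsMap E Q g → U ≤ Q →
        (∀ u ∈ U, g u = autFun (α : MulAut U) u) → (∀ c ∈ H, α * c * α⁻¹ ∈ H) →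
        ∀ y ∈ L, y ∈ Q → g y ∈ L := by
      rintro g Q α hg hUQ hgα hαH _ ⟨y, hy, rfl⟩ hyQ
      refine ⟨⟨g (y : Ω), hg.apply_mem hyQ⟩, ?_, rfl⟩
      show φ ⟨g (y : Ω), hg.apply_mem hyQ⟩ ∈ H
      rw [eq_mul_inv_of_mul_eq (conjOn_map hU hg hUQ hgα (s := y) hyQ)]
      exact hαH _ hy
    have hRL : R ≤ Subgroup.normalizer (L : Set Ω) := by
      have key : ∀ {s : Ω}, s ∈ R → ∀ y ∈ L, s * y * s⁻¹ ∈ L := fun {s} hs y hy =>
        hLinv (α := φ ⟨s, hs⟩) (isMap_conj E le_rfl hs) hUR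
          (fun u hu => (autFun_conjOn hU ⟨s, hs⟩ hu).symm) (hTH _ (hTr ▸ ⟨_, rfl⟩)) y hy (hLR hy)
      exact fun s hs => mem_normalizer_of_forall (key hs) fun y hy => by
        simpa using key (inv_mem hs) y hy
    haveI := finite_of_le hLR
    have hfixN : ∀ α ∈ Subgroup.normalizer (H : Set (E.autGroup U)), ∀ z ∈ X,
        autFun (α : MulAut U) z = z := by
      intro α hα z hz
      obtain ⟨θ, hθ, hθe⟩ := receptive_extend (receptive_of_fullyNormalized hR hEs hUn)
        ((mem_autGroup hUR).1 α.2) (fimg_autFun (α : MulAut U)) (N := L) (fun y hy => by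
          obtain ⟨y, hy, rfl⟩ := hy
          refine ⟨⟨y.2, hRU y.2⟩, ?_⟩
          have h1 : α * φ y * α⁻¹ ∈ H := (Subgroup.mem_normalizer_iff.1 hα _).1 hy
          have h2 := hHT h1
          rw [hTr] at h2
          obtain ⟨k, hk⟩ := h2
          refine ⟨k, k.2, fun u hu => ?_⟩
          show autFun (α : MulAut U) ((y : Ω) * u * (y : Ω)⁻¹) = _
          rw [← autFun_conjOn hU y hu, ← autFun_conjOn hU k (autFun_mem _ hu), hk,
            ← autFun_mul _ _ hu, ← autFun_mul _ _ hu, ← Subgroup.coe_mul, ← Subgroup.coe_mul,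
            inv_mul_cancel_right]) hUL.le
      have hθL : fimg θ L = L := Subgroup.eq_of_le_of_card_ge (fimg_le fun y hy =>
        hLinv hθ hUL.le hθe (fun c hc => (Subgroup.mem_normalizer_iff.1 hα c).1 hc) y hy hy)
        hθ.card_fimg.ge
      obtain ⟨g, -, hg1, hg2⟩ := hbig L hUL hLR hRL L θ hθ le_rfl hθL
      rw [← hθe z (hXU hz), ← hg1 z (hUL.le (hXU hz)), hg2 z hz]
    intro α z hz
    -- average the deviation
    have hq : ∀ g k : E.autGroup U, QuotientGroup.leftRel (T : Subgroup (E.autGroup U)) g k →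
        cw g z hz = cw k z hz := fun g k hgk => by
      rw [QuotientGroup.leftRel_apply] at hgk
      rw [← mul_inv_cancel_left g k, hcoc g _ z hz, hcT _ hgk z hz, map_one, one_mul]
    let C : E.autGroup U ⧸ (T : Subgroup (E.autGroup U)) → W :=
      Quotient.lift (fun g => cw g z hz) hq
    set w := ∏ x, C x with hwdef
    have key : ∀ g, ρ g w * cw g z hz = w := fun g => by
      have h1 : cw g z hz = cw g z hz ^ Nat.card (E.autGroup U ⧸ (T : Subgroup (E.autGroup U))) := by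
        obtain ⟨j, hj⟩ := hodd
        rw [show Nat.card (E.autGroup U ⧸ (T : Subgroup (E.autGroup U))) = 2 * j + 1 from hj,
          pow_succ, pow_mul, hW2, one_pow, one_mul]
      rw [h1, hwdef, map_prod, Nat.card_eq_fintype_card, ← Finset.card_univ, ← Finset.prod_const,
        ← Finset.prod_mul_distrib]
      refine Fintype.prod_equiv (MulAction.toPerm g) _ _ fun x => ?_
      induction x using Quotient.inductionOn with
      | h k => exact (hcoc g k z hz).symm
    have hcv : ∀ g : E.autGroup U, autFun (g : MulAut U) z = z ↔ ρ g w = w := fun g => by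
      constructor
      · intro h
        have : cw g z hz = 1 := Subtype.ext (by
          show autFun (g : MulAut U) z * z⁻¹ = 1
          rw [h, mul_inv_cancel])
        rw [← mul_one (ρ g w), ← this, key]
      · intro h
        have h1 := key g
        rw [h, mul_eq_left] at h1
        rw [hcz g z hz, h1, OneMemClass.coe_one, one_mul]
    rw [hcv]
    refine fixed_of_good ρ hW2 T (X := 𝒳) (fun A hA => hA.1) (fun A hA => hA.2)
      (fun g A hA h => ⟨h, isGoodSub_map ρ hA.2 g⟩) (fun t ht => (hcv t).1 (hTfix t ht z hz))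
      (fun g hg => (hcv g).1 (hfixN g hg z hz)) α
  -- otherwise a transvection outside the core, and a symmetric group of degree four
  exfalso
  push Not at hcase2
  obtain ⟨A, hA, hAU⟩ : ∃ A, IsMaxAb R A ∧ ¬ A ≤ U := by
    by_contra h
    push Not at h
    exact hJ (thompsonA_le_of h)
  set ψ := ρ.comp φ with hψdef
  set A' := A.subgroupOf R with hA'
  haveI := finite_of_le hA.1
  have hA'ne : A'.map ψ ≠ ⊥ := fun h => by
    obtain ⟨a, ha, haU⟩ := SetLike.not_le_iff_exists.1 hAU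
    refine hcase1 ⟨a, hA.1 ha⟩ haU ?_
    show π (φ ⟨a, hA.1 ha⟩) ∈ pCore 2 ρ.range
    have h1 : ψ ⟨a, hA.1 ha⟩ ∈ A'.map ψ := ⟨_, ha, rfl⟩
    rw [h, Subgroup.mem_bot] at h1
    rw [show π (φ ⟨a, hA.1 ha⟩) = 1 from Subtype.ext h1]
    exact one_mem _
  have hψact : ∀ (a : R) (v : W), ((ψ a v : W) : Ω) = (a : Ω) * v * (a : Ω)⁻¹ := fun a v =>
    autFun_conjOn hU a (omegaCentre_le v.2)
  have hWR : W ≤ R := omegaCentre_le.trans hUR
  have hoff : Nat.card W ≤ Nat.card (A'.map ψ) *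
      Nat.card (Invol.autFix ((A'.map ψ : Subgroup (MulAut W)) : Set (MulAut W))) := by
    set A0 := (A' ⊓ ψ.ker).map R.subtype with hA0
    have hA0A : A0 ≤ A := by rintro _ ⟨a, ⟨ha, -⟩, rfl⟩; exact ha
    have hA0W : ∀ a ∈ A0, ∀ v ∈ W, a * v = v * a := by
      rintro _ ⟨a, ⟨-, ha⟩, rfl⟩ v hv
      have h1 := hψact a ⟨v, hv⟩
      rw [show ψ a = 1 from ha] at h1
      exact eq_mul_inv_iff_mul_eq.1 h1 |>.symm
    have hn : A0 ≤ Subgroup.normalizer (W : Set Ω) := fun a ha => Subgroup.centralizer_le_normalizer _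
      (Subgroup.mem_centralizer_iff.2 fun v hv => (hA0W a ha v hv).symm)
    have hle : A0 ⊔ W ≤ R := sup_le (hA0A.trans hA.1) hWR
    haveI := finite_of_le hle
    have hcomm : ∀ x ∈ A0 ⊔ W, ∀ y ∈ A0 ⊔ W, x * y = y * x := by
      intro x hx y hy
      rw [← SetLike.mem_coe, Subgroup.coe_mul_of_left_le_normalizer_right A0 W hn] at hx hy
      obtain ⟨a, ha, v, hv, rfl⟩ := hx
      obtain ⟨b, hb, w, hw', rfl⟩ := hy
      exact (((show Commute a b from hA.2.1 a (hA0A ha) b (hA0A hb)).mul_right (hA0W a ha w hw')).mul_left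
        ((show Commute v b from (hA0W b hb v hv).symm).mul_right
          (show Commute v w from congrArg Subtype.val (mul_comm (⟨v, hv⟩ : W) ⟨w, hw'⟩)))).eq
    have h1 := hA.2.2 _ hle hcomm
    have h2 := Grp.card_sup_mul_card_inf hn
    haveI := finite_of_le hA.1
    haveI : Finite ↥(A ⊓ W) := finite_of_le (S := A) inf_le_left
    have h3 : Nat.card ↥(A0 ⊓ W) ≤
        Nat.card (Invol.autFix ((A'.map ψ : Subgroup (MulAut W)) : Set (MulAut W))) := by
      refine Nat.card_le_card_of_injective (fun x => (⟨⟨x, x.2.2⟩, ?_⟩ :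
        Invol.autFix ((A'.map ψ : Subgroup (MulAut W)) : Set (MulAut W)))) fun x y h =>
          Subtype.ext (congrArg (fun t => (((t : W)) : Ω))
            (congrArg Subtype.val h))
      rw [Invol.mem_autFix]
      rintro _ ⟨a, ha, rfl⟩
      refine Subtype.ext ?_
      rw [hψact, show (a : Ω) * (x : Ω) = x * a from hA.2.1 _ ha _ (hA0A x.2.1), mul_inv_cancel_right]
    have h4 : Nat.card A = Nat.card (A'.map ψ) * Nat.card A0 := by
      rw [hA0, Subgroup.card_map_of_injective R.subtype_injective,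
        ← Nat.card_congr (Subgroup.subgroupOfEquivOfLe hA.1).toEquiv]
      have h5 := (ψ.comp A'.subtype).ker.card_eq_card_quotient_mul_card_subgroup
      rw [Nat.card_congr (QuotientGroup.quotientKerEquivRange _).toEquiv, MonoidHom.range_comp,
        Subgroup.range_subtype] at h5
      rw [h5]
      congr 1
      rw [← Subgroup.card_map_of_injective (K := (ψ.comp A'.subtype).ker) A'.subtype_injective]
      congr 1
      rw [← MonoidHom.comap_ker, Subgroup.map_comap_eq, Subgroup.range_subtype]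
    have hpos : 0 < Nat.card A0 := by
      haveI := finite_of_le (hA0A.trans hA.1)
      exact Nat.card_pos
    by_contra hlt
    push Not at hlt
    have h6 : Nat.card A0 * Nat.card W ≤ Nat.card A0 * (Nat.card (A'.map ψ) *
        Nat.card (Invol.autFix ((A'.map ψ : Subgroup (MulAut W)) : Set (MulAut W)))) := by
      rw [← h2, ← mul_assoc, mul_comm (Nat.card A0) (Nat.card (A'.map ψ)), ← h4]
      exact Nat.mul_le_mul h1 h3
    exact absurd (Nat.le_of_mul_le_mul_left h6 hpos) (not_le.2 hlt)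
  -- a smallest offender
  set Off : Set (Subgroup (MulAut W)) := {Y | Y ≤ A'.map ψ ∧ Y ≠ ⊥ ∧
    Nat.card W ≤ Nat.card Y * Nat.card (Invol.autFix (Y : Set (MulAut W)))} with hOff
  obtain ⟨Y, ⟨hYA, hY1, hYoff⟩, hYmin⟩ := Set.exists_min_image Off (fun Y => Nat.card Y)
    (Set.toFinite _) ⟨_, le_rfl, hA'ne, hoff⟩
  set Ah := A'.map φ ⊓ Y.comap ρ with hAh
  have hAhT : Ah ≤ (T : Subgroup (E.autGroup U)) := fun a ha => by
    rw [hTr]
    obtain ⟨r, -, rfl⟩ := ha.1
    exact ⟨r, rfl⟩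
  have hρAh : Ah.map ρ = Y := by
    refine le_antisymm (by rintro _ ⟨a, ha, rfl⟩; exact ha.2) fun y hy => ?_
    obtain ⟨r, hr, rfl⟩ := hYA hy
    exact ⟨φ r, ⟨⟨r, hr, rfl⟩, hy⟩, rfl⟩
  have hYp : IsPGroup 2 Y := hρAh ▸ (T.2.to_le hAhT).map ρ
  have hY2 : Nat.card Y = 2 := by
    by_contra hne
    obtain ⟨y, hy, hy1⟩ : ∃ y ∈ Y, y ≠ 1 := by
      by_contra h
      push Not at h
      exact hY1 ((Subgroup.eq_bot_iff_forall Y).2 h)
    obtain ⟨a₀, ha₀, rfl⟩ : y ∈ Ah.map ρ := hρAh.symm ▸ hy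
    refine hy1 (hcase2 Ah hAhT ?_ a₀ ha₀)
    intro C hC hCi v hv a ha
    set Y1 := C.map ρ with hY1def
    have hY1Y : Y1 ≤ Y := hρAh ▸ Subgroup.map_mono hC
    have hd : Y1.relIndex Y ∣ 2 := by
      have h1 := Subgroup.index_map_dvd (H := C.subgroupOf Ah) (f := ρ.subgroupMap Ah)
        (ρ.subgroupMap_surjective Ah)
      have h2 : (C.subgroupOf Ah).map (ρ.subgroupMap Ah) = Y1.subgroupOf (Ah.map ρ) := by
        ext y
        constructor
        · rintro ⟨c, hc, rfl⟩
          exact ⟨c, hc, rfl⟩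
        · rintro ⟨c, hc, e⟩
          exact ⟨⟨c, hC hc⟩, hc, Subtype.ext e⟩
      rw [h2] at h1
      change Y1.relIndex (Ah.map ρ) ∣ C.relIndex Ah at h1
      rwa [hρAh, hCi] at h1
    have hfixY : ∀ w : W, (∀ f ∈ Y1, f w = w) → ∀ f ∈ Y, f w = w := by
      rcases (Nat.dvd_prime Nat.prime_two).1 hd with h | h
      · intro w hw f hf; exact hw f (Subgroup.relIndex_eq_one.1 h hf)
      · have hc : Nat.card Y1 * 2 = Nat.card Y := by
          rw [← h]; exact Grp.card_mul_relIndex hY1Y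
        have hY1ne : Y1 ≠ ⊥ := fun e => hne (by rw [← hc, e, Subgroup.card_bot])
        have hlt : Nat.card Y1 * Nat.card (Invol.autFix (Y1 : Set (MulAut W))) < Nat.card W := by
          by_contra hge
          have := hYmin Y1 ⟨hY1Y.trans hYA, hY1ne, not_lt.1 hge⟩
          have hpos : 0 < Nat.card Y1 := Nat.card_pos
          omega
        have hle : Invol.autFix (Y : Set (MulAut W)) ≤ Invol.autFix (Y1 : Set (MulAut W)) :=
          Invol.autFix_anti hY1Y
        have heq : Invol.autFix (Y : Set (MulAut W)) = Invol.autFix (Y1 : Set (MulAut W)) := by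
          refine Subgroup.eq_of_le_of_card_ge hle ?_
          obtain ⟨m, hm⟩ := Subgroup.card_dvd_of_le hle
          have h7 := hlt.trans_le hYoff
          rw [hm, ← hc] at h7
          rw [hm]
          have hm2 : m < 2 := by
            by_contra hm2
            push Not at hm2
            have := Nat.mul_le_mul_left (Nat.card Y1 * Nat.card (Invol.autFix (Y : Set (MulAut W)))) hm2
            nlinarith
          calc Nat.card (Invol.autFix (Y : Set (MulAut W))) * m
              ≤ Nat.card (Invol.autFix (Y : Set (MulAut W))) * 1 :=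
                Nat.mul_le_mul_left _ (by omega)
            _ = _ := mul_one _
        intro w hw
        exact Invol.mem_autFix.1 (heq.ge (Invol.mem_autFix.2 hw))
    exact hfixY v (by rintro _ ⟨c, hc, rfl⟩; exact hv c hc) _ (hρAh ▸ ⟨a, ha, rfl⟩)
  -- the transvection
  obtain ⟨t, ht, ht1⟩ : ∃ t ∈ Y, t ≠ 1 := by
    by_contra h
    push Not at h
    exact hY1 ((Subgroup.eq_bot_iff_forall Y).2 h)
  have htt : t * t = 1 := by
    have h1 : (⟨t, ht⟩ : Y) ^ Nat.card Y = 1 := pow_card_eq_one'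
    rw [hY2, pow_two] at h1
    exact congrArg Subtype.val h1
  have hYt : ∀ f ∈ Y, f = 1 ∨ f = t := fun f hf => by
    by_contra h
    push Not at h
    haveI : Fintype Y := Fintype.ofFinite _
    have h3 : Fintype.card Y ≥ 3 := by
      rw [ge_iff_le]
      calc 3 = ({⟨f, hf⟩, ⟨t, ht⟩, 1} : Finset Y).card := by
            rw [Finset.card_insert_of_notMem (by simp [h.1, h.2]),
              Finset.card_insert_of_notMem (by simp [ht1]), Finset.card_singleton]
        _ ≤ _ := Finset.card_le_univ _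
    rw [← Nat.card_eq_fintype_card, hY2] at h3
    omega
  obtain ⟨u, hu1, hu, hts⟩ := exists_diff_point hW2 htt ht1 fun a b ha hb => by
    set Fx := Invol.autFix (Y : Set (MulAut W)) with hFx
    have hi : Fx.index ≤ 2 := by
      have h1 := Fx.card_mul_index
      rw [← h1, hY2, mul_comm 2] at hYoff
      exact Nat.le_of_mul_le_mul_left hYoff Nat.card_pos
    have hmem : ∀ w, w ∈ Fx ↔ t w = w := fun w => ⟨fun h => h t ht, fun h f hf => by
      rcases hYt f hf with rfl | rfl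
      · rfl
      · exact h⟩
    have hne : Fx.index ≠ 1 := fun h => ha ((hmem a).1 (Subgroup.index_eq_one.1 h ▸ Subgroup.mem_top a))
    have hpos : Fx.index ≠ 0 := Subgroup.index_ne_zero_of_finite
    refine (hmem _).1 ((Subgroup.mul_mem_iff_of_index_two (by omega)).2 ?_)
    simp only [hmem, ha, hb]
  -- it lies outside the core
  obtain ⟨x, hx, hxt⟩ := hYA ht
  set tR : ρ.range := ⟨t, φ x, hxt⟩ with htR
  have htC : tR ∉ pCore 2 ρ.range := fun h => hcase1 x (fun hxU => ht1 (hxt.symm.trans (hψU x hxU)))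
    (show π (φ x) ∈ pCore 2 ρ.range by rwa [show π (φ x) = tR from Subtype.ext hxt])
  obtain ⟨g, hg⟩ : ∃ g, ¬ IsPGroup 2 (Subgroup.closure {tR, g * tR * g⁻¹}) := by
    by_contra h
    push Not at h
    exact htC (Grp.baer_suzuki tR h)
  obtain ⟨_, α, rfl⟩ := g
  set s := ρ α * t * (ρ α)⁻¹ with hs
  have hmap : (Subgroup.closure {tR, (⟨ρ α, α, rfl⟩ : ρ.range) * tR * (⟨ρ α, α, rfl⟩ : ρ.range)⁻¹}).map
      ρ.range.subtype = Subgroup.closure {s, t} := by
    rw [MonoidHom.map_closure, Set.image_pair, Set.pair_comm]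
    rfl
  have hn : ¬ IsPGroup 2 (Subgroup.closure {s, t}) := fun h => hg (by
    rw [← hmap] at h
    exact h.of_equiv (Subgroup.equivMapOfInjective _ _ ρ.range.subtype_injective).symm)
  have hsu : s (ρ α u) = ρ α u := by
    rw [hs, MulAut.mul_apply, MulAut.mul_apply, MulAut.inv_apply_self, hu]
  have hss : ∀ v, s v = v ∨ s v = v * ρ α u := fun v => by
    rw [hs, MulAut.mul_apply, MulAut.mul_apply]
    rcases hts ((ρ α)⁻¹ v) with e | e
    · rw [e, MulAut.apply_inv_self]; exact Or.inl rfl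
    · rw [e, map_mul, MulAut.apply_inv_self]; exact Or.inr rfl
  obtain ⟨ψ0, hψ0, hreal⟩ := exists_sl_two_action hW2 hu hts hsu hss hn
  set ψΩ := W.subtype.comp ψ0 with hψΩ
  have hinj : Function.Injective ψΩ := W.subtype_injective.comp hψ0
  set V0 := ψΩ.range with hV0
  have hV0W : V0 ≤ W := by rintro _ ⟨x, rfl⟩; exact (ψ0 x).2
  have hV0U : V0 ≤ U := hV0W.trans omegaCentre_le
  let e := MonoidHom.ofInjective hinj
  refine hw ⟨V0, hV0U.trans hUR, e.symm.toMonoidHom, e.symm.surjective, fun g => ?_⟩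
  obtain ⟨f, hf, hfe⟩ := hreal g
  have hfr : f ∈ ρ.range := by
    refine (Subgroup.closure_le _).2 ?_ hf
    rintro y (rfl | rfl)
    · exact mul_mem (mul_mem ⟨α, rfl⟩ ⟨φ x, hxt⟩) (inv_mem ⟨α, rfl⟩)
    · exact ⟨φ x, hxt⟩
  obtain ⟨β, rfl⟩ := hfr
  have hβe : ∀ y, autFun (β : MulAut U) (ψΩ y) = ψΩ (matAct g y) := fun y =>
    congrArg Subtype.val (hfe y)
  haveI := finite_of_le (hV0U.trans hUR)
  have hm := ((mem_autGroup hUR).1 β.2).res hV0U
  have hmV : fimg (autFun (β : MulAut U)) V0 = V0 := Subgroup.eq_of_le_of_card_ge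
    (fimg_le fun v hv => by
      obtain ⟨y, rfl⟩ := hv
      exact ⟨matAct g y, (hβe y).symm⟩) hm.card_fimg.ge
  obtain ⟨γ, hγ, hγe⟩ := hm.exists_aut hmV
  refine ⟨γ, hγ, fun v => ?_⟩
  obtain ⟨y, rfl⟩ := e.surjective v
  show e.symm (γ (e y)) = matAct g (e.symm (e y))
  rw [e.symm_apply_apply, MulEquiv.symm_apply_eq]
  refine Subtype.ext ?_
  rw [← autFun_coe, hγe _ (e y).2]
  exact hβe y

end Cfsg.Agent.Fus
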