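import Cfsg.Agent.Lib.Fus.FactorExtend
import Cfsg.Prelude.Def_FusionComponents

/-!
Factor systems of saturated systems are saturated.
-/

set_option autoImplicit false
set_option linter.style.haveILetI false
set_option linter.unusedSectionVars false

open scoped Classical

namespace Cfsg.Agent.Fus

open Subgroup FusionSystem

universe u v

variable {Ω : Type u} [Group Ω] {S : Subgroup Ω} {F : FusionSystem S} {T : Subgroup Ω}
  {Ω' : Type v} [Group Ω'] {S' : Subgroup Ω'} {θ : S →* Ω'} {E : FusionSystem S'}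

theorem mem_preimageAlong {P' : Subgroup Ω'} {x : Ω} :
    x ∈ preimageAlong θ P' ↔ ∃ h : x ∈ S, θ ⟨x, h⟩ ∈ P' :=
  ⟨fun ⟨y, hy, e⟩ => e ▸ ⟨y.2, hy⟩, fun ⟨h, hx⟩ => ⟨⟨x, h⟩, hx, rfl⟩⟩

theorem preimageAlong_le (P' : Subgroup Ω') : preimageAlong θ P' ≤ S := Subgroup.map_subtype_le _

theorem factor_le_preimage (hE : F.IsFactorSystem T θ E) (P' : Subgroup Ω') :
    T ≤ preimageAlong θ P' := fun x hx =>
  mem_preimageAlong.2 ⟨hE.1 hx, by rw [(hE.2.1 ⟨x, hE.1 hx⟩).2 hx]; exact P'.one_mem⟩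

theorem factor_map_eq_iff (hE : F.IsFactorSystem T θ E) {a b : S} :
    θ a = θ b ↔ (a : Ω)⁻¹ * b ∈ T := by
  rw [show (a : Ω)⁻¹ * b = ((a⁻¹ * b : S) : Ω) from rfl, ← hE.2.1, map_mul, map_inv,
    inv_mul_eq_one]

/-- The source of a map containing `T` is the preimage of its image. -/
theorem preimageAlong_imageAlong (hE : F.IsFactorSystem T θ E) {P : Subgroup Ω} (hPS : P ≤ S)
    (hTP : T ≤ P) : preimageAlong θ (imageAlong θ P) = P := by
  ext x
  rw [mem_preimageAlong]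
  constructor
  · rintro ⟨h, y, hy, e⟩
    have hd := (factor_map_eq_iff hE).1 e
    rw [show x = (y : Ω) * ((y : Ω)⁻¹ * x) by group]
    exact P.mul_mem hy (hTP hd)
  · exact fun hx => ⟨hPS hx, ⟨x, hPS hx⟩, hx, rfl⟩

theorem imageAlong_preimageAlong {P' : Subgroup Ω'} (hP' : P' ≤ θ.range) :
    imageAlong θ (preimageAlong θ P') = P' := by
  rw [imageAlong, preimageAlong, Subgroup.subgroupOf,
    Subgroup.comap_map_eq_self_of_injective S.subtype_injective,
    Subgroup.map_comap_eq_self hP']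

variable [Finite S]

/-- A map of the system on a preimage induces a map of the factor system. -/
theorem exists_induced (hE : F.IsFactorSystem T θ E) (hT : F.StronglyClosed T) {P' : Subgroup Ω'}
    (hP' : P' ≤ S') {g : Ω → Ω} (hg : IsMap F (preimageAlong θ P') g) :
    ∃ g' : Ω' → Ω', IsMap E P' g' ∧ ∀ (x : Ω) (hx : x ∈ preimageAlong θ P'),
      g' (θ ⟨x, (preimageAlong_le P') hx⟩) = θ ⟨g x, hg.apply_mem hx⟩ := by
  obtain ⟨φ, hφ, e⟩ := hg.exists_hom
  have hr : P' ≤ θ.range := hE.2.2.1.symm ▸ hP'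
  have hpre : ∀ y : P', ∃ x : preimageAlong θ P', θ ⟨x, preimageAlong_le P' x.2⟩ = y := by
    rintro ⟨y, hy⟩
    obtain ⟨x, rfl⟩ := hr hy
    exact ⟨⟨x, x, hy, rfl⟩, rfl⟩
  choose σ hσ using hpre
  have key : ∀ a b : preimageAlong θ P',
      θ ⟨a, preimageAlong_le P' a.2⟩ = θ ⟨b, preimageAlong_le P' b.2⟩ →
      θ ⟨φ a, (F.le_of_mem hφ).2 a⟩ = θ ⟨φ b, (F.le_of_mem hφ).2 b⟩ := fun a b h => by
    rw [factor_map_eq_iff hE] at h ⊢
    show (φ a)⁻¹ * φ b ∈ T
    rw [← map_inv, ← map_mul, e]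
    exact StronglyClosed.apply_mem hT (hg.res (inf_le_left : preimageAlong θ P' ⊓ T ≤ _))
      inf_le_right ⟨(a⁻¹ * b).2, h⟩
  let φ' : P' →* Ω' := MonoidHom.mk' (fun y => θ ⟨φ (σ y), (F.le_of_mem hφ).2 _⟩) fun y z => by
    refine (key _ (σ y * σ z) ?_).trans ?_
    · rw [hσ, Subgroup.coe_mul, ← hσ y, ← hσ z, ← map_mul]
      rfl
    · rw [← map_mul]
      exact congrArg θ (Subtype.ext (map_mul φ _ _))
  have hmemP : ∀ x : preimageAlong θ P', θ ⟨x, preimageAlong_le P' x.2⟩ ∈ P' := fun x =>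
    (mem_preimageAlong.1 x.2).2
  have hind : ∀ x : preimageAlong θ P',
      φ' ⟨θ ⟨x, preimageAlong_le P' x.2⟩, hmemP x⟩ = θ ⟨φ x, (F.le_of_mem hφ).2 x⟩ := fun x =>
    key _ x (hσ _)
  have hmem : φ' ∈ E.Hom P' :=
    (hE.2.2.2 P' φ').2 ⟨hP', φ, hφ, preimageAlong_le P', (F.le_of_mem hφ).2, hmemP, hind⟩
  refine ⟨toFun φ', isMap_toFun hmem, fun x hx => ?_⟩
  rw [toFun_apply φ' (hmemP ⟨x, hx⟩), hind ⟨x, hx⟩]
  exact congrArg θ (Subtype.ext (e ⟨x, hx⟩))

/-- A map of the factor system lifts. -/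
theorem exists_lift (hE : F.IsFactorSystem T θ E) {P' : Subgroup Ω'} {g' : Ω' → Ω'}
    (hg' : IsMap E P' g') :
    ∃ g, IsMap F (preimageAlong θ P') g ∧ ∀ (x : Ω) (hx : x ∈ preimageAlong θ P')
      (hgx : g x ∈ S), θ ⟨g x, hgx⟩ = g' (θ ⟨x, (preimageAlong_le P') hx⟩) := by
  obtain ⟨φ', hφ', e'⟩ := hg'.exists_hom
  obtain ⟨-, φ, hφ, _, hφS, hP, h⟩ := (hE.2.2.2 P' φ').1 hφ'
  refine ⟨toFun φ, isMap_toFun hφ, fun x hx hgx => ?_⟩
  rw [← e' ⟨_, hP ⟨x, hx⟩⟩, h ⟨x, hx⟩]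
  exact congrArg θ (Subtype.ext (toFun_apply φ hx))

variable {p : ℕ} [Fact p.Prime]

/-- The natural map to a factor system is a morphism. -/
theorem isMorphism_factor (hS : IsPGroup p S) (hF : F.IsSaturated p) (hT : F.StronglyClosed T)
    (hE : F.IsFactorSystem T θ E) : F.IsMorphism E θ := by
  refine ⟨fun s => hE.2.2.1.le ⟨s, rfl⟩, fun P φ hφ => ?_⟩
  have hPS := (F.le_of_mem hφ).1
  obtain ⟨g, hg, -, hgP⟩ := extMod_of_isMap hS hF hT (isMap_toFun hφ)
  have hle : imageAlong θ P ≤ S' := by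
    rintro _ ⟨x, -, rfl⟩
    exact hE.2.2.1.le ⟨x, rfl⟩
  have hpre : preimageAlong θ (imageAlong θ P) ≤ P ⊔ T := by
    intro x hx
    obtain ⟨h, y, hy, e⟩ := mem_preimageAlong.1 hx
    rw [show x = (y : Ω) * ((y : Ω)⁻¹ * x) by group]
    exact mul_mem (Subgroup.mem_sup_left hy)
      (Subgroup.mem_sup_right ((factor_map_eq_iff hE).1 e))
  obtain ⟨g', hg', hg'e⟩ := exists_induced hE hT hle (hg.res hpre)
  obtain ⟨φ', hφ', e'⟩ := hg'.exists_hom
  have hmem : ∀ x : P, θ ⟨x, hPS x.2⟩ ∈ imageAlong θ P := fun x =>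
    ⟨⟨x, hPS x.2⟩, x.2, rfl⟩
  refine ⟨φ', hφ', hPS, (F.le_of_mem hφ).2, hmem, fun x => ?_⟩
  rw [e', hg'e x (mem_preimageAlong.2 ⟨hPS x.2, hmem x⟩)]
  refine (factor_map_eq_iff hE).2 ?_
  have h := hgP x x.2
  rwa [toFun_apply φ x.2] at h

/-- Conjugation by a preimage. -/
theorem factor_conj {a b : S} : θ (a * b * a⁻¹) = θ a * θ b * (θ a)⁻¹ := by
  rw [map_mul, map_mul, map_inv]

/-- Factor systems of saturated systems by strongly closed subgroups are saturated. -/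
theorem isSaturated_factor (hS : IsPGroup p S) (hF : F.IsSaturated p) (hT : F.StronglyClosed T)
    (hE : F.IsFactorSystem T θ E) : E.IsSaturated p := by
  intro P' hP'
  set P := preimageAlong θ P' with hP
  have hTP : T ≤ P := factor_le_preimage hE P'
  obtain ⟨Q, hPQ, hQn⟩ := exists_fullyNormalized F (preimageAlong_le (θ := θ) P')
  obtain ⟨f, hf, hfQ⟩ := isConj_iff.1 hPQ
  have hQS := hQn.1
  haveI := finite_of_le hQS
  have hTQ : T ≤ Q := hfQ ▸ (fimg_stronglyClosed hT hf hTP).ge.trans (fimg_mono f hTP)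
  set Q' := imageAlong θ Q with hQ'
  have hQ'S : Q' ≤ S' := by
    rintro _ ⟨x, -, rfl⟩
    exact hE.2.2.1.le ⟨x, rfl⟩
  have hQpre : preimageAlong θ Q' = Q := preimageAlong_imageAlong hE hQS hTQ
  have hQmem : ∀ {x : S}, θ x ∈ Q' ↔ (x : Ω) ∈ Q := fun {x} => by
    conv_rhs => rw [← hQpre, mem_preimageAlong]
    exact ⟨fun h => ⟨x.2, h⟩, fun ⟨_, h⟩ => h⟩
  refine ⟨Q', ?_, ?_, ?_⟩
  · -- conjugate
    obtain ⟨f', hf', hf'e⟩ := exists_induced hE hT hP' hf
    refine isConj_iff.2 ⟨f', hf', le_antisymm (fimg_le fun y hy => ?_) ?_⟩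
    · obtain ⟨x, rfl⟩ := (hE.2.2.1.symm ▸ hP' : P' ≤ θ.range) hy
      rw [show x = ⟨(x : Ω), x.2⟩ from rfl, hf'e x (mem_preimageAlong.2 ⟨x.2, hy⟩)]
      exact hQmem.2 (hfQ.le (apply_mem_fimg f (mem_preimageAlong.2 ⟨x.2, hy⟩)))
    · rintro _ ⟨x, hx, rfl⟩
      obtain ⟨y, hy, hyx⟩ := hf.mem_fimg_iff.1 (hfQ.ge hx)
      obtain ⟨hyS, hy'⟩ := mem_preimageAlong.1 hy
      have h1 := apply_mem_fimg f' hy'
      rw [hf'e y hy] at h1
      convert h1 using 2
      exact Subtype.ext hyx.symm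
  · -- fully automized
    obtain ⟨-, R, hR⟩ := fullyAutomized_of_fullyNormalized hS hF hQn
    have hlift : ∀ α : F.autGroup Q, ∃ β : E.autGroup Q', ∀ (x : Ω) (hx : x ∈ Q)
        (hx' : θ ⟨x, hQS hx⟩ ∈ Q'), ((β : MulAut Q') ⟨_, hx'⟩ : Ω') =
          θ ⟨((α : MulAut Q) ⟨x, hx⟩ : Ω), hQS ((α : MulAut Q) ⟨x, hx⟩).2⟩ := by
      intro α
      obtain ⟨g', hg', hg'e⟩ := exists_induced hE hT hQ'S (P' := Q')
        (g := autFun (α : MulAut Q)) (by rw [hQpre]; exact (mem_autGroup hQS).1 α.2)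
      haveI : Finite Q' := Finite.of_surjective
        (fun x : Q.subgroupOf S => (⟨θ x, ⟨x, x.2, rfl⟩⟩ : Q'))
        (by rintro ⟨_, x, hx, rfl⟩; exact ⟨⟨x, hx⟩, rfl⟩)
      have himg : fimg g' Q' = Q' := by
        refine Subgroup.eq_of_le_of_card_ge (fimg_le fun y hy => ?_) hg'.card_fimg.ge
        obtain ⟨x, hx, rfl⟩ := hy
        rw [show x = ⟨(x : Ω), x.2⟩ from rfl, hg'e x (hQpre.ge hx)]
        exact hQmem.2 (autFun_mem _ hx)
      obtain ⟨β, hβ, hβe⟩ := hg'.exists_aut himg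
      refine ⟨⟨β, hβ⟩, fun x hx hx' => ?_⟩
      rw [← autFun_coe, hβe _ hx', hg'e x (hQpre.ge hx)]
      exact congrArg θ (Subtype.ext (autFun_coe _ ⟨x, hx⟩))
    choose Θ₀ hΘ₀ using hlift
    have hext : ∀ {a b : E.autGroup Q'}, (∀ (x : Ω) (hx : x ∈ Q) (hx' : θ ⟨x, hQS hx⟩ ∈ Q'),
        ((a : MulAut Q') ⟨_, hx'⟩ : Ω') = ((b : MulAut Q') ⟨_, hx'⟩ : Ω')) → a = b := by
      intro a b h
      refine Subtype.ext (MulEquiv.ext ?_)
      rintro ⟨_, x, hx, rfl⟩
      exact Subtype.ext (h x hx ⟨x, hx, rfl⟩)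
    let Θ : F.autGroup Q →* E.autGroup Q' := MonoidHom.mk' Θ₀ fun a b => by
      refine hext fun x hx hx' => ?_
      rw [Subgroup.coe_mul, MulAut.mul_apply, hΘ₀ (a * b) x hx hx']
      have hb := hΘ₀ b x hx hx'
      set y := (b : MulAut Q) ⟨x, hx⟩ with hy
      have hy' : θ ⟨(y : Ω), hQS y.2⟩ ∈ Q' := hQmem.2 y.2
      rw [show (Θ₀ b : MulAut Q') ⟨_, hx'⟩ = ⟨_, hy'⟩ from Subtype.ext hb, hΘ₀ a y y.2 hy']
      rfl
    have hΘs : Function.Surjective Θ := by
      intro β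
      obtain ⟨g, hg, hge⟩ := exists_lift hE ((mem_autGroup hQ'S).1 β.2)
      rw [hQpre] at hg
      have hge' : ∀ (x : Ω) (hx : x ∈ Q) (hx' : θ ⟨x, hQS hx⟩ ∈ Q') (hgx : g x ∈ S),
          θ ⟨g x, hgx⟩ = ((β : MulAut Q') ⟨_, hx'⟩ : Ω') := fun x hx hx' hgx =>
        (hge x (hQpre.ge hx) hgx).trans (autFun_coe _ ⟨_, hx'⟩)
      have himg : fimg g Q = Q :=
        Subgroup.eq_of_le_of_card_ge (fimg_le fun x hx => hQmem.1
          (show θ ⟨g x, hg.apply_mem hx⟩ ∈ Q' by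
            rw [hge' x hx (hQmem.2 hx)]; exact SetLike.coe_mem _)) hg.card_fimg.ge
      obtain ⟨α, hα, hαe⟩ := hg.exists_aut himg
      refine ⟨⟨α, hα⟩, hext fun x hx hx' => ?_⟩
      rw [show Θ ⟨α, hα⟩ = Θ₀ ⟨α, hα⟩ from rfl, hΘ₀ _ x hx hx', ← hge' x hx hx' (hg.apply_mem hx)]
      exact congrArg θ (Subtype.ext ((autFun_coe α ⟨x, hx⟩).symm.trans (hαe x hx)))
    haveI : Finite (F.autGroup Q) := inferInstance
    refine ⟨hQ'S, R.mapSurjective hΘs, ?_⟩
    rw [Sylow.coe_mapSurjective, hR]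
    ext β
    rw [Subgroup.mem_subgroupOf, Subgroup.mem_map]
    constructor
    · rintro ⟨α, hα, rfl⟩
      obtain ⟨s, hs, hse⟩ := mem_autInducedBy.1 (Subgroup.mem_subgroupOf.1 hα)
      refine mem_autInducedBy.2 ⟨θ ⟨s, hs⟩, hE.2.2.1.le ⟨_, rfl⟩, ?_⟩
      rintro ⟨_, x, hx, rfl⟩
      show ((Θ₀ α : MulAut Q') ⟨θ x, _⟩ : Ω') = _
      rw [hΘ₀ α x hx ⟨x, hx, rfl⟩, ← factor_conj]
      exact congrArg θ (Subtype.ext (hse ⟨x, hx⟩))
    · intro hβ
      obtain ⟨k, hk, hke⟩ := mem_autInducedBy.1 hβ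
      obtain ⟨s, rfl⟩ := hE.2.2.1.ge hk
      have hsn : (s : Ω) ∈ Subgroup.normalizer (Q : Set Ω) := by
        have hn := mem_normalizer_of_conj_aut hke
        refine Subgroup.mem_normalizer_iff.2 fun x => ⟨fun hx => ?_, fun hx => ?_⟩
        · refine (hQmem (x := s * ⟨x, hQS hx⟩ * s⁻¹)).1 ?_
          rw [factor_conj]
          exact (Subgroup.mem_normalizer_iff.1 hn _).1 (hQmem.2 hx)
        · have hxS : x ∈ S := by
            have := S.mul_mem (S.mul_mem (S.inv_mem s.2) (hQS hx)) s.2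
            simpa [mul_assoc] using this
          refine (hQmem (x := ⟨x, hxS⟩)).1 ((Subgroup.mem_normalizer_iff.1 hn _).2 ?_)
          rw [← factor_conj]
          exact hQmem.2 hx
      refine ⟨⟨Q.normalizerMonoidHom ⟨s, hsn⟩, autInducedBy_le_autGroup F hQS
        (mem_autInducedBy.2 ⟨s, s.2, fun _ => rfl⟩)⟩, Subgroup.mem_subgroupOf.2
        (mem_autInducedBy.2 ⟨s, s.2, fun _ => rfl⟩), hext fun x hx hx' => ?_⟩
      rw [hke]
      show ((Θ₀ _ : MulAut Q') ⟨θ ⟨x, hQS hx⟩, _⟩ : Ω') = _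
      rw [hΘ₀ _ x hx hx', ← factor_conj]
      rfl
  · -- receptive
    refine receptive_of hQ'S fun R' f' hf' hf'Q N' hRN hN' => ?_
    set R := preimageAlong θ R' with hR'
    obtain ⟨g, hg, hge⟩ := exists_lift hE hf'
    have hgQ : fimg g R = Q := by
      refine le_antisymm (fimg_le fun x hx => hQmem.1
        (show θ ⟨g x, hg.apply_mem hx⟩ ∈ Q' by
          rw [hge x hx]
          exact hf'Q.le (apply_mem_fimg f' (mem_preimageAlong.1 hx).2))) fun q hq => ?_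
      obtain ⟨y, hy, hyq⟩ := hf'.mem_fimg_iff.1 (hf'Q.ge (hQmem (x := ⟨q, hQS hq⟩) |>.2 hq))
      obtain ⟨r, rfl⟩ := (hE.2.2.1.symm ▸ hf'.source_le : R' ≤ θ.range) hy
      have hrR : (r : Ω) ∈ R := mem_preimageAlong.2 ⟨r.2, hy⟩
      rw [← hge r hrR (hg.apply_mem hrR), factor_map_eq_iff hE] at hyq
      rw [show q = g r * ((g r)⁻¹ * q) by group]
      exact mul_mem (apply_mem_fimg g hrR) ((fimg_stronglyClosed hT hg
        (factor_le_preimage hE R')).ge.trans (fimg_mono g (factor_le_preimage hE R')) hyq)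
    obtain ⟨e, he, heA⟩ := exists_mulEquiv hg hgQ
    obtain ⟨-, Sy, hSy⟩ := fullyAutomized_of_fullyNormalized hS hF hQn
    let K : Subgroup (F.autGroup Q) :=
      { carrier := modKer F T Q
        one_mem' := fun x => by simp
        mul_mem' := fun {a b} ha hb x => by
          have : (((a * b : F.autGroup Q) : MulAut Q) x : Ω) * (x : Ω)⁻¹ =
              (((a : MulAut Q) ((b : MulAut Q) x) : Ω) * (((b : MulAut Q) x : Q) : Ω)⁻¹) *
                ((((b : MulAut Q) x : Q) : Ω) * (x : Ω)⁻¹) := by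
            rw [Subgroup.coe_mul, MulAut.mul_apply]
            group
          rw [this]
          exact T.mul_mem (ha _) (hb x)
        inv_mem' := fun {a} ha x => by
          have h := ha (((a⁻¹ : F.autGroup Q) : MulAut Q) x)
          rw [Subgroup.coe_inv, MulAut.apply_inv_self] at h
          have := T.inv_mem h
          rwa [mul_inv_rev, inv_inv] at this }
    haveI hKn : K.Normal := ⟨fun k hk a x => by
      show (((a * k * a⁻¹ : F.autGroup Q) : MulAut Q) x : Ω) * (x : Ω)⁻¹ ∈ T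
      rw [Subgroup.coe_mul, Subgroup.coe_mul, Subgroup.coe_inv, MulAut.mul_apply,
        MulAut.mul_apply]
      set y := ((a : MulAut Q)⁻¹ x) with hy
      have hxy : x = (a : MulAut Q) y := by rw [hy, MulAut.apply_inv_self]
      set d : Q := (k : MulAut Q) y * y⁻¹ with hd
      have hdT : (d : Ω) ∈ T := hk y
      have : (((a : MulAut Q) ((k : MulAut Q) y) : Ω) * (x : Ω)⁻¹) =
          (((a : MulAut Q) d : Q) : Ω) := by
        rw [hxy, hd, map_mul, map_inv, Subgroup.coe_mul, Subgroup.coe_inv]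
      rw [this, ← autFun_coe]
      exact StronglyClosed.apply_mem hT (((mem_autGroup hQS).1 a.2).res
        (inf_le_left : Q ⊓ T ≤ Q)) inf_le_right ⟨d.2, hdT⟩⟩
    set M := preimageAlong θ N' with hM
    have hRM : R ≤ M := fun x hx => by
      obtain ⟨h, hx'⟩ := mem_preimageAlong.1 hx
      exact mem_preimageAlong.2 ⟨h, hRN hx'⟩
    have hMN : M ≤ normalizerIn S R := fun m hm => by
      obtain ⟨hmS, hm'⟩ := mem_preimageAlong.1 hm
      obtain ⟨-, hn, -⟩ := (hN' _).1 hm'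
      refine ⟨hmS, Subgroup.mem_normalizer_iff.2 fun x => ?_⟩
      constructor
      · intro hx
        obtain ⟨hxS, hx'⟩ := mem_preimageAlong.1 hx
        refine mem_preimageAlong.2 ⟨S.mul_mem (S.mul_mem hmS hxS) (S.inv_mem hmS), ?_⟩
        show θ (⟨m, hmS⟩ * ⟨x, hxS⟩ * ⟨m, hmS⟩⁻¹) ∈ R'
        rw [factor_conj]
        exact (Subgroup.mem_normalizer_iff.1 hn _).1 hx'
      · intro hx
        obtain ⟨hxS', hx'⟩ := mem_preimageAlong.1 hx
        have hxS : x ∈ S := by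
          have := S.mul_mem (S.mul_mem (S.inv_mem hmS) hxS') hmS
          simpa [mul_assoc] using this
        refine mem_preimageAlong.2 ⟨hxS, (Subgroup.mem_normalizer_iff.1 hn _).2 ?_⟩
        rw [← factor_conj]
        exact hx'
    -- the transported automorphisms
    let cM : M →* MulAut Q := (MulAut.congr e).toMonoidHom.comp
      ((R.normalizerMonoidHom).comp
        (Subgroup.inclusion (fun m hm => (hMN hm).2 : M ≤ Subgroup.normalizer (R : Set Ω))))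
    have hcA : ∀ m : M, cM m ∈ F.autGroup Q := fun m => (heA _).1
      (autInducedBy_le_autGroup F (preimageAlong_le R') (mem_autInducedBy.2
        ⟨m, (hMN m.2).1, fun _ => rfl⟩))
    let c : M →* F.autGroup Q := cM.codRestrict _ hcA
    have hcval : ∀ (m : M) (x : R), (((c m : F.autGroup Q) : MulAut Q) (e x) : Ω) =
        g ((m : Ω) * x * (m : Ω)⁻¹) := fun m x => by
      rw [← normalizerMonoidHom_apply ⟨(m : Ω), (hMN m.2).2⟩ x, ← he]
      simp [c, cM, MulAut.congr]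
      rfl
    have hcH : ∀ m : M, c m ∈ (Sy : Subgroup (F.autGroup Q)) ⊔ K := by
      intro m
      obtain ⟨hmS, hm'⟩ := mem_preimageAlong.1 m.2
      obtain ⟨-, hn, k, hk, hke⟩ := (hN' _).1 hm'
      obtain ⟨s, rfl⟩ := hE.2.2.1.ge hk
      have hcs : ∀ x : R, θ (s * ⟨g x, hg.apply_mem x.2⟩ * s⁻¹) =
          θ ⟨g ((m : Ω) * x * (m : Ω)⁻¹), hg.apply_mem
            ((Subgroup.mem_normalizer_iff.1 (hMN m.2).2 _).1 x.2)⟩ := fun x => by
        obtain ⟨hxS, hx'⟩ := mem_preimageAlong.1 x.2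
        rw [factor_conj, hge x x.2, hge _ ((Subgroup.mem_normalizer_iff.1 (hMN m.2).2 _).1 x.2),
          ← hke _ hx', ← factor_conj]
        rfl
      have hsn : (s : Ω) ∈ Subgroup.normalizer (Q : Set Ω) := by
        suffices h : ∀ q ∈ Q, (s : Ω) * q * (s : Ω)⁻¹ ∈ Q by
          refine Subgroup.mem_normalizer_iff.2 fun x => ⟨h x, fun hx => ?_⟩
          haveI : Finite Q := inferInstance
          have hbij : Function.Bijective (fun q : Q => (⟨_, h q q.2⟩ : Q)) :=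
            Finite.injective_iff_bijective.1 fun a b hab => Subtype.ext
              (mul_left_cancel (mul_right_cancel (congrArg Subtype.val hab :)))
          obtain ⟨q, hq⟩ := hbij.2 ⟨_, hx⟩
          have h2 : (s : Ω) * q * (s : Ω)⁻¹ = (s : Ω) * x * (s : Ω)⁻¹ := congrArg Subtype.val hq
          rw [← mul_left_cancel (mul_right_cancel h2)]
          exact q.2
        intro q hq
        obtain ⟨r, hr, rfl⟩ := hg.mem_fimg_iff.1 (hgQ.ge hq)
        refine (hQmem (x := s * ⟨g r, hg.apply_mem hr⟩ * s⁻¹)).1 ?_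
        rw [hcs ⟨r, hr⟩]
        exact hQmem.2 (hgQ.le (apply_mem_fimg g
          ((Subgroup.mem_normalizer_iff.1 (hMN m.2).2 _).1 hr)))
      set cs : F.autGroup Q := ⟨Q.normalizerMonoidHom ⟨s, hsn⟩, autInducedBy_le_autGroup F hQS
        (mem_autInducedBy.2 ⟨s, s.2, fun _ => rfl⟩)⟩ with hcsdef
      have hd : c m * cs⁻¹ ∈ K := by
        intro y
        obtain ⟨x, hx⟩ := e.surjective (((cs⁻¹ : F.autGroup Q) : MulAut Q) y)
        have hy : (y : Ω) = (s : Ω) * g x * (s : Ω)⁻¹ := by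
          rw [← he x, hx]
          refine Eq.trans ?_ (normalizerMonoidHom_apply ⟨(s : Ω), hsn⟩ _)
          rw [Subgroup.coe_inv, show (cs : MulAut Q) = Q.normalizerMonoidHom ⟨(s : Ω), hsn⟩ from rfl,
            MulAut.apply_inv_self]
        rw [Subgroup.coe_mul, MulAut.mul_apply, ← hx, hcval, hy]
        have h1 := (factor_map_eq_iff hE).1 (hcs x)
        have h2 := StronglyClosed.conj_mem' hT
          (S.mul_mem (S.mul_mem s.2 (hg.apply_mem x.2)) (S.inv_mem s.2)) h1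
        simpa [mul_assoc] using h2
      rw [show c m = (c m * cs⁻¹) * cs by group]
      refine mul_mem (Subgroup.mem_sup_right hd) (Subgroup.mem_sup_left ?_)
      rw [hSy]
      exact Subgroup.mem_subgroupOf.2 (mem_autInducedBy.2 ⟨s, s.2, fun _ => rfl⟩)
    haveI := finite_of_le (preimageAlong_le (θ := θ) N' : M ≤ S)
    have hY : IsPGroup p c.range :=
      (hS.to_le (preimageAlong_le (θ := θ) N')).of_surjective c.rangeRestrict
        c.rangeRestrict_surjective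
    obtain ⟨a, ha, hak⟩ := IsSylowOf.exists_conj_le (p := p) (T := (Sy : Subgroup (F.autGroup Q)))
      (H := (Sy : Subgroup (F.autGroup Q)) ⊔ K) ⟨le_sup_left, Sy.subtype le_sup_left, rfl⟩ hY
      (fun _ ⟨m, hm⟩ => hm ▸ hcH m)
    obtain ⟨r, hr, k, hk, rfl⟩ := Subgroup.mem_sup_of_normal_right.1 ha
    have hkY : ∀ m : M, k * c m * k⁻¹ ∈ (Sy : Subgroup (F.autGroup Q)) := fun m => by
      have h1 : r * k * c m * (r * k)⁻¹ ∈ (Sy : Subgroup (F.autGroup Q)) :=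
        hak ⟨c m, ⟨m, rfl⟩, rfl⟩
      have := mul_mem (mul_mem (inv_mem hr) h1) hr
      simpa [mul_assoc] using this
    have hg₂ : IsMap F R fun x => autFun (k : MulAut Q) (g x) :=
      hg.comp ((mem_autGroup hQS).1 k.2) fun x hx => hgQ.le (apply_mem_fimg g hx)
    obtain ⟨ψ, hψ, hψe⟩ := receptive_extend (receptive_of_fullyNormalized hS hF hQn) hg₂
      (show fimg (fun x => autFun (k : MulAut Q) (g x)) R = Q by
        rw [hg.fimg_comp, hgQ, fimg_autFun])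
      (N := M) (fun m hm => by
        refine ⟨hMN hm, ?_⟩
        have h1 := hkY ⟨m, hm⟩
        rw [hSy, Subgroup.mem_subgroupOf] at h1
        obtain ⟨h, hh, hhe⟩ := mem_autInducedBy.1 h1
        refine ⟨h, hh, fun x hx => ?_⟩
        have h2 := hhe ((k : MulAut Q) (e ⟨x, hx⟩))
        rw [← he ⟨x, hx⟩, autFun_coe, ← h2]
        simp only [Subgroup.coe_mul, Subgroup.coe_inv, MulAut.mul_apply, MulAut.inv_apply_self]
        have h3 := hcval ⟨m, hm⟩ ⟨x, hx⟩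
        rw [← h3, autFun_coe]) hRM
    obtain ⟨ψ', hψ', hψ'e⟩ := exists_induced hE hT (fun y hy => ((hN' y).1 hy).1) hψ
    refine ⟨ψ', hψ', fun y hy => ?_⟩
    obtain ⟨x, rfl⟩ := (hE.2.2.1.symm ▸ hf'.source_le : R' ≤ θ.range) hy
    have hxR : (x : Ω) ∈ R := mem_preimageAlong.2 ⟨x.2, hy⟩
    rw [show x = ⟨(x : Ω), x.2⟩ from rfl, hψ'e x (hRM hxR), ← hge x hxR (hg.apply_mem hxR),
      factor_map_eq_iff hE]
    show (ψ x)⁻¹ * g x ∈ T
    rw [hψe x hxR, ← he ⟨x, hxR⟩, autFun_coe]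
    have h1 := hk (e ⟨x, hxR⟩)
    have h2 := StronglyClosed.conj_mem' hT
      (S.inv_mem (hQS ((k : MulAut Q) (e ⟨x, hxR⟩)).2)) (T.inv_mem h1)
    simpa [mul_assoc] using h2

end Cfsg.Agent.Fus
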