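import Cfsg.Agent.Lib.Fus.WFunctor
import Cfsg.Agent.Lib.Fus.FactorSat
import Cfsg.Agent.Lib.Fus.NormalizerSat
import Cfsg.Agent.Lib.Fus.GroupSystem

/-!
Basic properties of models: saturation, constraint, and the `p`-core of a model as the largest
normal subgroup of the system.
-/

set_option autoImplicit false
set_option linter.style.haveILetI false
set_option linter.unusedSectionVars false

open scoped Classical

namespace Cfsg.Agent.Fus

open Subgroup FusionSystem

universe u v

variable {Ω : Type u} [Group Ω] {S : Subgroup Ω} [Finite S] {F : FusionSystem S}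
  {G : Type v} [Group G] {ι : S →* G} {p : ℕ} [Fact p.Prime]

/-- A system realized on a Sylow subgroup of a finite group is saturated. -/
theorem isSaturated_of_realized [Finite G] (h : F.IsRealizedBy ι) {T : Sylow p G}
    (hT : (T : Subgroup G) = ι.range) : F.IsSaturated p := by
  let e : S ≃* ι.range := MonoidHom.ofInjective h.1
  let θ : ι.range →* Ω := S.subtype.comp e.symm.toMonoidHom
  have he : ∀ x : ι.range, ι (e.symm x) = (x : G) := fun x =>
    congrArg Subtype.val (e.apply_symm_apply x)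
  have hE : (groupFusionSystem ι.range).IsFactorSystem ⊥ θ F := by
    refine ⟨bot_le, fun x => ?_, ?_, fun P' φ' => ?_⟩
    · rw [Subgroup.mem_bot, ← he x]
      show ((e.symm x : S) : Ω) = 1 ↔ _
      rw [OneMemClass.coe_eq_one, map_eq_one_iff _ h.1]
    · ext y
      constructor
      · rintro ⟨x, rfl⟩
        exact (e.symm x).2
      · intro hy
        exact ⟨e ⟨y, hy⟩, congrArg Subtype.val (e.symm_apply_apply ⟨y, hy⟩)⟩
    · have hmem : ∀ x : preimageAlong θ P', ∃ hx : (x : G) ∈ ι.range, θ ⟨x, hx⟩ ∈ P' := fun x =>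
        mem_preimageAlong.1 x.2
      constructor
      · intro hφ'
        have hP'S := (F.le_of_mem hφ').1
        refine ⟨hP'S, ?_⟩
        obtain ⟨g, hg⟩ := (h.2 P' hP'S φ' (F.le_of_mem hφ').2).1 hφ'
        have hv : ∀ x : preimageAlong θ P',
            ι ⟨φ' ⟨θ ⟨x, (hmem x).1⟩, (hmem x).2⟩, (F.le_of_mem hφ').2 _⟩ =
              g * (x : G) * g⁻¹ := fun x => by
          rw [hg]
          exact congrArg (fun t => g * t * g⁻¹) (he ⟨x, (hmem x).1⟩)
        refine ⟨conjHom _ g, ⟨preimageAlong_le P', fun x => ?_, g, fun x => rfl⟩,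
          preimageAlong_le P', fun x => ?_, fun x => (hmem x).2, fun x => ?_⟩
        · exact ⟨_, hv x⟩
        · exact ⟨_, hv x⟩
        · refine congrArg Subtype.val (a₁ := (⟨φ' _, (F.le_of_mem hφ').2 _⟩ : S))
            (a₂ := e.symm ⟨conjHom _ g x, _⟩) (h.1 ?_)
          rw [he]
          exact hv x
      · rintro ⟨hP', φ, ⟨hP, hφS, g, hg⟩, hle, hφ2, hmem', hφe⟩
        have hx : ∀ y : P', (ι ⟨y, hP' y.2⟩ : G) ∈ preimageAlong θ P' := fun y =>
          mem_preimageAlong.2 ⟨⟨_, rfl⟩, by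
            show ((e.symm (e ⟨y, hP' y.2⟩) : S) : Ω) ∈ P'
            rw [e.symm_apply_apply]
            exact y.2⟩
        have hy : ∀ y : P', ∃ s : S, φ' y = s ∧ ι s = g * ι ⟨y, hP' y.2⟩ * g⁻¹ := fun y => by
          refine ⟨e.symm ⟨φ ⟨_, hx y⟩, hφS _⟩, ?_, ?_⟩
          · have h1 := hφe ⟨_, hx y⟩
            refine Eq.trans ?_ h1
            refine congrArg φ' (Subtype.ext ?_)
            show (y : Ω) = ((e.symm (e ⟨y, hP' y.2⟩) : S) : Ω)
            rw [e.symm_apply_apply]
          · rw [he]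
            exact hg ⟨_, hx y⟩
        have hφ'S : ∀ y : P', φ' y ∈ S := fun y => by
          obtain ⟨s, hs, -⟩ := hy y
          rw [hs]
          exact s.2
        refine (h.2 P' hP' φ' hφ'S).2 ⟨g, fun y => ?_⟩
        obtain ⟨s, hs, hs'⟩ := hy y
        rw [← hs']
        exact congrArg ι (Subtype.ext hs)
  haveI : Finite ι.range := inferInstance
  have hs : (groupFusionSystem ι.range).IsSaturated p := hT ▸ isSaturated_group T
  exact isSaturated_factor (hT ▸ T.2) hs
    ⟨bot_le, fun R hR φ hφ x => by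
      have : x = 1 := Subtype.ext (Subgroup.mem_bot.1 (hR x.2))
      rw [this, map_one]; exact one_mem _⟩ hE

/-- The subgroup of `S` carried by a model onto its `p`-core. -/
def modelCore (p : ℕ) (ι : S →* G) : Subgroup Ω := ((pCore p G).comap ι).map S.subtype

theorem modelCore_le : modelCore p ι ≤ S := Subgroup.map_subtype_le _

theorem mem_modelCore {x : S} : (x : Ω) ∈ modelCore p ι ↔ ι x ∈ pCore p G := by
  constructor
  · rintro ⟨y, hy, e⟩
    rwa [← Subtype.ext e]
  · exact fun h => ⟨x, h, rfl⟩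

theorem subgroupOf_modelCore : (modelCore p ι).subgroupOf S = (pCore p G).comap ι :=
  Subgroup.comap_map_eq_self_of_injective S.subtype_injective _

theorem map_modelCore [Finite G] {T : Sylow p G} (hT : (T : Subgroup G) = ι.range) :
    ((modelCore p ι).subgroupOf S).map ι = pCore p G := by
  rw [subgroupOf_modelCore, Subgroup.map_comap_eq_self]
  exact hT ▸ Grp.pCore_le_sylow T

theorem isNormal_modelCore [Finite G] (h : F.IsRealizedBy ι) {T : Sylow p G}
    (hT : (T : Subgroup G) = ι.range) : F.IsNormal (modelCore p ι) :=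
  isNormal_of_realized h modelCore_le (by rw [map_modelCore hT]; exact Grp.pCore_isNormal)

theorem centralizerIn_modelCore (hG : F.IsModel p G ι) :
    centralizerIn S (modelCore p ι) ≤ modelCore p ι := by
  obtain ⟨hfin, h, ⟨T, hT⟩, hC⟩ := hG
  intro x hx
  refine (mem_modelCore (x := ⟨x, hx.1⟩)).2 (hC (Subgroup.mem_centralizer_iff.2 fun y hy => ?_))
  rw [SetLike.mem_coe, ← map_modelCore hT] at hy
  obtain ⟨u, hu, rfl⟩ := hy
  rw [← map_mul, ← map_mul]
  exact congrArg ι (Subtype.ext (Subgroup.mem_centralizer_iff.1 hx.2 u hu))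

/-- A conjugate of a normal subgroup is the subgroup itself. -/
theorem eq_of_isConj_normal {U Q : Subgroup Ω} (hU : F.IsNormal U) (h : F.IsConj U Q) : Q = U := by
  obtain ⟨f, hf, rfl⟩ := isConj_iff.1 h
  haveI := finite_of_le hU.1
  exact Subgroup.eq_of_le_of_card_ge (fimg_le fun x hx =>
    StronglyClosed.apply_mem (stronglyClosed_of_isNormal hU) hf le_rfl hx) hf.card_fimg.ge

theorem isCentric_of_normal {U : Subgroup Ω} (hU : F.IsNormal U)
    (hc : centralizerIn S U ≤ U) : F.IsCentric U :=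
  ⟨hU.1, fun Q hQ => by rw [eq_of_isConj_normal hU hQ]; exact hc⟩

/-- A system with a model is constrained. -/
theorem isConstrained_of_model (hG : F.IsModel p G ι) : F.IsConstrained p := by
  have hc := centralizerIn_modelCore hG
  obtain ⟨hfin, h, ⟨T, hT⟩, -⟩ := hG
  exact ⟨isSaturated_of_realized h hT, _, isNormal_modelCore h hT,
    isCentric_of_normal (isNormal_modelCore h hT) hc⟩

/-- A subgroup normal in the system lies in the core of the model. -/
theorem le_modelCore (hS : IsPGroup p S) (hG : F.IsModel p G ι) {R : Subgroup Ω}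
    (hR : F.IsNormal R) : R ≤ modelCore p ι := by
  obtain ⟨hfin, h, ⟨T, hT⟩, hC⟩ := hG
  have hUn := isNormal_modelCore h hT
  set U := modelCore p ι with hU
  have hnor : ((R.subgroupOf S).map ι).Normal := ⟨by
    rintro _ ⟨r, hr, rfl⟩ l
    obtain ⟨f, hf, hfe⟩ := exists_isMap_of_conj h hUn.1 l fun x hx => by
      have h1 : l * ι x * l⁻¹ ∈ pCore p G :=
        (Grp.pCore_isNormal (p := p) (G := G)).conj_mem _ (mem_modelCore.1 hx) l
      rw [← hT]
      exact Grp.pCore_le_sylow T h1
    obtain ⟨g, hg, hg1, hgR⟩ := (isNormal_iff.1 hR).2 U f hf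
    obtain ⟨k, hk⟩ := exists_conj_of_isMap h hg
    have hz : k⁻¹ * l ∈ pCore p G := by
      refine hC (Subgroup.mem_centralizer_iff.2 fun y hy => ?_)
      rw [SetLike.mem_coe, ← map_modelCore hT] at hy
      obtain ⟨u, hu, rfl⟩ := hy
      obtain ⟨v, hv, hv'⟩ := hfe u hu
      have h1 := hk u (Subgroup.mem_sup_left hu)
      rw [show (⟨g u, hg.apply_mem (Subgroup.mem_sup_left hu)⟩ : S) = v from
        Subtype.ext ((hg1 u hu).trans hv.symm), hv'] at h1
      calc ι u * (k⁻¹ * l) = k⁻¹ * (k * ι u * k⁻¹) * l := by group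
        _ = k⁻¹ * (l * ι u * l⁻¹) * l := by rw [h1]
        _ = k⁻¹ * l * ι u := by group
    obtain ⟨z, hz'⟩ : k⁻¹ * l ∈ ι.range := hT ▸ Grp.pCore_le_sylow T hz
    have hzr : ((z * r * z⁻¹ : S) : Ω) ∈ R :=
      (Subgroup.mem_normalizer_iff.1 (le_normalizer_of_isNormal hR z.2) r).1 hr
    refine ⟨⟨g (z * r * z⁻¹ : S), hg.apply_mem (Subgroup.mem_sup_right hzr)⟩,
      hgR.le (apply_mem_fimg g hzr), ?_⟩
    rw [hk _ (Subgroup.mem_sup_right hzr), map_mul, map_mul, map_inv, hz']
    group⟩
  intro x hx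
  exact (mem_modelCore (x := ⟨x, hR.1 hx⟩)).2
    (Grp.le_pCore hnor ((hS.to_subgroup _).map ι) ⟨_, hx, rfl⟩)

/-- The core of a model is the core of the system. -/
theorem modelCore_eq_core (hS : IsPGroup p S) (hG : F.IsModel p G ι) :
    modelCore p ι = F.core := by
  refine le_antisymm (le_core ?_) (le_modelCore hS hG (isNormal_core F))
  obtain ⟨hfin, h, ⟨T, hT⟩, -⟩ := hG
  exact isNormal_modelCore h hT

/-- In the normalizer system of a radical centric subgroup, it contains every normal subgroup. -/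
theorem le_of_radical (hS : IsPGroup p S) {R : Subgroup Ω} (hRS : R ≤ S)
    (hRr : F.IsRadical p R) (hRc : F.IsCentric R) {E : FusionSystem (normalizerIn S R)}
    (hE : F.IsNormalizerSystem R E) (hR : E.IsNormal R) {U : Subgroup Ω} (hU : E.IsNormal U) :
    U ≤ R := by
  let N := normalizerIn S R
  haveI := finite_of_le hRS
  have haut : E.autGroup R = F.autGroup R := by
    refine le_antisymm (autGroup_mono (fun P φ hφ => ((hE P).le hφ).1) R) fun a ha => ?_
    refine Subgroup.subset_closure ?_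
    show R.subtype.comp a.toMonoidHom ∈ E.Hom R
    rw [hE]
    have hm := (mem_autGroup hRS).1 ha
    refine mem_normalizerHom.2 ⟨le_normalizerIn hRS, fun x => le_normalizerIn hRS (a x).2,
      autFun a, by rw [sup_idem]; exact hm, fun x => autFun_coe a x, fimg_autFun a⟩
  let K : Subgroup (E.autGroup R) := (U.subgroupOf N).map (conjOn hR)
  have hKp : IsPGroup p K :=
    (((hS.to_le (inf_le_left : N ≤ S)).to_subgroup _).map _)
  have hKn : K.Normal := ⟨by
    rintro _ ⟨u, hu, rfl⟩ a
    obtain ⟨g, hg, hg1, hgU⟩ := (isNormal_iff.1 hU).2 R _ ((mem_autGroup hR.1).1 a.2)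
    have h1 := conjOn_map hR hg le_sup_left hg1 (s := u) (Subgroup.mem_sup_right hu)
    exact ⟨⟨g u, hg.apply_mem (Subgroup.mem_sup_right hu)⟩,
      hgU.le (apply_mem_fimg g hu), eq_mul_inv_of_mul_eq h1⟩⟩
  intro u hu
  have hmem : conjOn hR ⟨u, hU.1 hu⟩ ∈ pCore p (E.autGroup R) :=
    Grp.le_pCore hKn hKp ⟨_, hu, rfl⟩
  have hinn : ((conjOn hR ⟨u, hU.1 hu⟩ : E.autGroup R) : MulAut R) ∈ Inn R := by
    rw [← hRr.2, ← haut]
    exact ⟨_, hmem, rfl⟩
  rw [inn_eq_autInducedBy, mem_autInducedBy] at hinn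
  obtain ⟨r, hr, hre⟩ := hinn
  have hc : r⁻¹ * u ∈ centralizerIn S R := by
    refine mem_centralizerIn.2 ⟨mul_mem (inv_mem (hRS hr)) (hU.1 hu).1, fun x hx => ?_⟩
    have h1 : u * x * u⁻¹ = r * x * r⁻¹ := (conjOn_apply hR ⟨u, hU.1 hu⟩ ⟨x, hx⟩).symm.trans
      (hre ⟨x, hx⟩)
    calc x * (r⁻¹ * u) = r⁻¹ * (r * x * r⁻¹) * u := by group
      _ = r⁻¹ * (u * x * u⁻¹) * u := by rw [h1]
      _ = r⁻¹ * u * x := by group
  have h2 := hRc.2 R (isConj_refl F hRS) hc
  simpa using mul_mem hr h2

/-- A subgroup is normal in its normalizer system. -/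
theorem isNormal_of_isNormalizerSystem {R : Subgroup Ω} (hRS : R ≤ S)
    {E : FusionSystem (normalizerIn S R)} (hE : F.IsNormalizerSystem R E) : E.IsNormal R := by
  rw [isNormalizerSystem_unique hE (isNormalizerSystem_normalizerSystem F hRS)]
  exact isNormal_normalizerSystem_self hRS

end Cfsg.Agent.Fus
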