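import Mathlib
import Cfsg.Agent.Lib.Fus.EssentialSmall

/-!
Invariant chains with factors of order at most `p` and the automorphisms of order prime to `p`
stabilizing them; common fixed lines of commuting automorphisms of exponent `p - 1`.
-/

set_option autoImplicit false
set_option linter.unusedSectionVars false
set_option linter.style.haveILetI false

universe u

namespace Cfsg.Agent.Fus.FineChain

variable {p : ℕ} [hp : Fact p.Prime] {Q : Type u} [Group Q] [Finite Q]

/-- On an invariant factor of order at most `p` an automorphism is a power map. -/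
theorem exists_power (hQ : IsPGroup p Q) {U X : Subgroup Q} [U.Normal] (hUX : U ≤ X)
    (hc : Nat.card X ≤ p * Nat.card U) (g : MulAut Q) (hU : ∀ x ∈ U, g x ∈ U)
    (hX : ∀ x ∈ X, g x ∈ X) :
    ∃ a : ℤ, ∀ x ∈ X, QuotientGroup.mk' U (g x) = QuotientGroup.mk' U x ^ a := by
  set A := X.map (QuotientGroup.mk' U) with hA
  have hcard : Nat.card A ≤ p := by
    have h1 : Nat.card A * Nat.card U = Nat.card X := by
      have h2 := Subgroup.relIndex_ker (QuotientGroup.mk' U) (K := X)
      rw [QuotientGroup.ker_mk'] at h2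
      rw [hA, ← Grp.card_mul_relIndex hUX, h2, mul_comm]
    exact Nat.le_of_mul_le_mul_right (h1 ▸ hc) Nat.card_pos
  obtain ⟨n, hn⟩ := IsPGroup.iff_card.1 ((hQ.to_quotient U).to_subgroup A)
  haveI : IsCyclic A := by
    rcases n with _ | n
    · haveI : Subsingleton A := (Nat.card_eq_one_iff_unique.1 (by rw [hn, pow_zero])).1
      infer_instance
    · refine isCyclic_of_prime_card (p := p) ?_
      have h1 : p ^ (n + 1) ≤ p ^ 1 := by rw [← hn, pow_one]; exact hcard
      have := (Nat.pow_le_pow_iff_right hp.out.one_lt).1 h1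
      rw [hn, show n = 0 by omega, pow_one]
  have hmem : ∀ y : A, QuotientGroup.map U U g.toMonoidHom hU (y : Q ⧸ U) ∈ A := by
    rintro ⟨_, x, hx, rfl⟩
    exact ⟨g x, hX x hx, rfl⟩
  obtain ⟨a, ha⟩ := MonoidHom.map_cyclic
    (((QuotientGroup.map U U g.toMonoidHom hU).comp A.subtype).codRestrict A hmem)
  exact ⟨a, fun x hx => congrArg Subtype.val (ha ⟨_, Subgroup.mem_map_of_mem _ hx⟩)⟩

/-- An automorphism of order prime to `p` trivial on all factors of a chain is trivial modulo the
bottom. -/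
theorem trivial_mod_bottom (hQ : IsPGroup p Q) {n : ℕ} (W : ℕ → Subgroup Q) [(W 0).Normal]
    (B : MulAut Q) {m : ℕ} (hm : m.Coprime p) (hB : B ^ m = 1)
    (h0 : ∀ x ∈ W 0, B x ∈ W 0) (hfac : ∀ i < n, ∀ x ∈ W (i + 1), x⁻¹ * B x ∈ W i) :
    ∀ i ≤ n, ∀ x ∈ W i, x⁻¹ * B x ∈ W 0 := by
  intro i
  induction i with
  | zero => exact fun _ x hx => (W 0).mul_mem ((W 0).inv_mem hx) (h0 x hx)
  | succ i ih =>
    intro hi x hx
    obtain ⟨w, hwdef⟩ : ∃ w, w = x⁻¹ * B x := ⟨_, rfl⟩
    have hBx : B x = x * w := by rw [hwdef, mul_inv_cancel_left]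
    have hw : w ∈ W i := hwdef ▸ hfac i (by omega) x hx
    rw [← hwdef]
    have hmk : ∀ y ∈ W i, QuotientGroup.mk' (W 0) (B y) = QuotientGroup.mk' (W 0) y :=
      fun y hy => (QuotientGroup.eq.2 (ih (by omega) y hy)).symm
    have hpow : ∀ k : ℕ, QuotientGroup.mk' (W 0) ((B ^ k) x) =
        QuotientGroup.mk' (W 0) (x * w ^ k) := by
      intro k
      induction k with
      | zero => simp
      | succ k ihk =>
        obtain ⟨z, hz⟩ : ∃ z, z = ((B ^ k) x)⁻¹ * (x * w ^ k) := ⟨_, rfl⟩
        have hz0 : z ∈ W 0 := by rw [hz]; exact QuotientGroup.eq.1 ihk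
        have e1 : (B ^ k) x = x * w ^ k * z⁻¹ := by rw [hz]; group
        have hz1 : QuotientGroup.mk' (W 0) (B z) = 1 :=
          (QuotientGroup.eq_one_iff _).2 (h0 _ hz0)
        rw [pow_succ', MulAut.mul_apply, e1, map_mul B, map_mul B, map_pow B, map_inv B, hBx]
        simp only [map_mul, map_pow, map_inv, hz1, inv_one, mul_one, hmk _ hw, pow_succ', mul_assoc]
    have h1 := hpow m
    rw [hB, MulAut.one_apply, map_mul, left_eq_mul, map_pow] at h1
    obtain ⟨j, hj⟩ := hQ w
    have h2 : QuotientGroup.mk' (W 0) w ^ p ^ j = 1 := by rw [← map_pow, hj, map_one]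
    exact (QuotientGroup.eq_one_iff _).1 (orderOf_eq_one_iff.1
      (Nat.eq_one_of_dvd_coprimes (Nat.Coprime.pow_right j hm)
        (orderOf_dvd_of_pow_eq_one h1) (orderOf_dvd_of_pow_eq_one h2)))

/-- A group of automorphisms of order prime to `p` stabilizing a chain with factors of order at most
`p`, faithful modulo the bottom, is abelian of exponent dividing `p - 1`. -/
theorem abelian_exp_of_chain (hQ : IsPGroup p Q) {n : ℕ} (W : ℕ → Subgroup Q) (hn : W n = ⊤)
    (hmono : ∀ i < n, W i ≤ W (i + 1)) (hnorm : ∀ i ≤ n, (W i).Normal)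
    (hcard : ∀ i < n, Nat.card (W (i + 1)) ≤ p * Nat.card (W i)) (H : Subgroup (MulAut Q))
    (hH : (Nat.card H).Coprime p) (hinv : ∀ g ∈ H, ∀ i ≤ n, ∀ x ∈ W i, g x ∈ W i)
    (hbase : ∀ β ∈ H, (∀ x, x⁻¹ * β x ∈ W 0) → β = 1) :
    IsMulCommutative H ∧ ∀ h ∈ H, h ^ (p - 1) = 1 := by
  have key : ∀ β ∈ H, (∀ i < n, ∀ x ∈ W (i + 1), x⁻¹ * β x ∈ W i) → β = 1 := by
    intro β hβ hfac
    refine hbase β hβ fun x => ?_
    haveI := hnorm 0 (Nat.zero_le n)
    refine trivial_mod_bottom hQ W β (m := Nat.card H) hH ?_ (hinv β hβ 0 (Nat.zero_le n)) hfac n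
      le_rfl x (hn.ge (Subgroup.mem_top x))
    exact congrArg Subtype.val (pow_card_eq_one' (x := (⟨β, hβ⟩ : H)))
  refine ⟨⟨⟨fun g h => ?_⟩⟩, fun h hh => ?_⟩
  · refine Subtype.ext ?_
    obtain ⟨g, hg⟩ := g; obtain ⟨h, hh⟩ := h
    show g * h = h * g
    have := key ((h * g)⁻¹ * (g * h)) (H.mul_mem (H.inv_mem (H.mul_mem hh hg)) (H.mul_mem hg hh))
      fun i hi x hx => ?_
    · exact (inv_mul_eq_one.1 this).symm
    haveI := hnorm i hi.le
    obtain ⟨a, ha⟩ := exists_power hQ (hmono i hi) (hcard i hi) g (hinv g hg i hi.le)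
      (hinv g hg (i + 1) hi)
    obtain ⟨b, hb⟩ := exists_power hQ (hmono i hi) (hcard i hi) h (hinv h hh i hi.le)
      (hinv h hh (i + 1) hi)
    have e : QuotientGroup.mk' (W i) (g (h x)) = QuotientGroup.mk' (W i) (h (g x)) := by
      rw [ha _ (hinv h hh (i + 1) hi x hx), hb _ (hinv g hg (i + 1) hi x hx), ha x hx, hb x hx,
        ← zpow_mul, ← zpow_mul, mul_comm]
    have hd : (h (g x))⁻¹ * g (h x) ∈ W i := QuotientGroup.eq.1 e.symm
    have hd' := hinv _ (H.inv_mem (H.mul_mem hh hg)) i hi.le _ hd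
    rw [map_mul, map_inv] at hd'
    simpa using hd'
  · refine key _ (H.pow_mem hh _) fun i hi x hx => ?_
    haveI := hnorm i hi.le
    obtain ⟨a, ha⟩ := exists_power hQ (hmono i hi) (hcard i hi) h (hinv h hh i hi.le)
      (hinv h hh (i + 1) hi)
    have hpw : ∀ k : ℕ, (h ^ k) x ∈ W (i + 1) ∧
        QuotientGroup.mk' (W i) ((h ^ k) x) = QuotientGroup.mk' (W i) x ^ (a ^ k) := by
      intro k
      induction k with
      | zero => exact ⟨hx, by rw [pow_zero, pow_zero, zpow_one]; rfl⟩
      | succ k ih =>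
        rw [pow_succ', MulAut.mul_apply]
        exact ⟨hinv h hh (i + 1) hi _ ih.1, by rw [ha _ ih.1, ih.2, ← zpow_mul, pow_succ]⟩
    refine QuotientGroup.eq.1 ?_
    refine ((hpw (p - 1)).2.trans ?_).symm
    by_cases hxU : x ∈ W i
    · rw [show QuotientGroup.mk' (W i) x = 1 from (QuotientGroup.eq_one_iff x).2 hxU, one_zpow]
      exact ((QuotientGroup.eq_one_iff x).2 hxU).symm
    · set y := QuotientGroup.mk' (W i) x with hy
      have hyp : y ^ p = 1 := by
        set A := (W (i + 1)).map (QuotientGroup.mk' (W i))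
        have hA : Nat.card A * Nat.card (W i) = Nat.card (W (i + 1)) := by
          have h2 := Subgroup.relIndex_ker (QuotientGroup.mk' (W i)) (K := W (i + 1))
          rw [QuotientGroup.ker_mk'] at h2
          rw [← Grp.card_mul_relIndex (hmono i hi), h2, mul_comm]
        have hle : Nat.card A ≤ p :=
          Nat.le_of_mul_le_mul_right (hA ▸ hcard i hi) Nat.card_pos
        obtain ⟨k, hk⟩ := IsPGroup.iff_card.1 ((hQ.to_quotient (W i)).to_subgroup A)
        have hk1 : k ≤ 1 := by
          refine (Nat.pow_le_pow_iff_right hp.out.one_lt).1 ?_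
          rw [← hk, pow_one]; exact hle
        have hyA : y ∈ A := Subgroup.mem_map_of_mem _ hx
        have h1 : y ^ p ^ k = 1 := by
          rw [← hk]; exact congrArg Subtype.val (pow_card_eq_one' (x := (⟨y, hyA⟩ : A)))
        interval_cases k
        · rw [pow_zero, pow_one] at h1
          rw [h1, one_pow]
        · rwa [pow_one] at h1
      have hy1 : y ≠ 1 := fun e => hxU ((QuotientGroup.eq_one_iff x).1 e)
      have hord : orderOf y = p := orderOf_eq_prime hyp hy1
      have ha0 : (a : ZMod p) ≠ 0 := by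
        intro e
        have h1 := ha x hx
        obtain ⟨c, hc⟩ := (ZMod.intCast_zmod_eq_zero_iff_dvd a p).1 e
        rw [hc, zpow_mul, zpow_natCast, ← hy, hyp, one_zpow] at h1
        refine hxU ?_
        have h2 := hinv h⁻¹ (H.inv_mem hh) i hi.le _ ((QuotientGroup.eq_one_iff _).1 h1)
        rwa [MulAut.inv_apply_self] at h2
      show y ^ a ^ (p - 1) = y
      conv_rhs => rw [← zpow_one y]
      rw [zpow_eq_zpow_iff_modEq, hord, ← ZMod.intCast_eq_intCast_iff]
      push_cast
      exact ZMod.pow_card_sub_one_eq_one ha0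

/-- A linear map with `L ^ p = L` over `ZMod p` has an eigenvector. -/
theorem exists_eigen_end {M : Type*} [AddCommGroup M] [Module (ZMod p) M] [Nontrivial M]
    (L : Module.End (ZMod p) M) (hLp : L ^ p = L) : ∃ x : M, x ≠ 0 ∧ ∃ c : ZMod p, L x = c • x := by
  by_contra hcon
  push Not at hcon
  have hinj : ∀ c : ZMod p,
      Function.Injective ⇑(L - algebraMap (ZMod p) (Module.End (ZMod p) M) c) := by
    intro c
    refine (injective_iff_map_eq_zero _).2 fun z hz => ?_
    by_contra hz0
    rw [LinearMap.sub_apply, sub_eq_zero, Module.algebraMap_end_apply] at hz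
    exact hcon z hz0 c hz
  have hpoly : ((Polynomial.X : Polynomial (ZMod p)) ^ p - Polynomial.X) =
      ∏ c : ZMod p, (Polynomial.X - Polynomial.C c) := by
    have hr := FiniteField.roots_X_pow_card_sub_X (ZMod p)
    rw [ZMod.card] at hr
    have hmonic : ((Polynomial.X : Polynomial (ZMod p)) ^ p - Polynomial.X).Monic :=
      Polynomial.monic_X_pow_sub (by rw [Polynomial.degree_X]; exact_mod_cast hp.out.one_lt)
    have hdeg := FiniteField.X_pow_card_sub_X_natDegree_eq (ZMod p) hp.out.one_lt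
    have h := Polynomial.prod_multiset_X_sub_C_of_monic_of_roots_card_eq hmonic (by
      rw [hr, hdeg]; simp)
    rw [hr] at h
    exact h.symm
  have h0 := congrArg (Polynomial.aeval L) hpoly
  rw [map_sub, map_pow, Polynomial.aeval_X, hLp, sub_self] at h0
  have hall : ∀ s : Finset (ZMod p),
      Function.Injective ⇑(Polynomial.aeval L (∏ c ∈ s, (Polynomial.X - Polynomial.C c))) := by
    intro s
    induction s using Finset.induction_on with
    | empty => simp [Function.Injective]
    | @insert c s hc ih =>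
      rw [Finset.prod_insert hc, map_mul, map_sub, Polynomial.aeval_X, Polynomial.aeval_C]
      exact (hinj c).comp ih
  obtain ⟨x, hx⟩ := exists_ne (0 : M)
  have h1 := hall Finset.univ
  rw [← h0] at h1
  exact hx (h1 (a₁ := x) (a₂ := 0) rfl)

/-- An automorphism with `a ^ p = a` of a nontrivial group of exponent `p` has an eigenvector. -/
theorem exists_eigen {V : Type u} [CommGroup V] [Finite V] [Nontrivial V]
    (hexp : ∀ x : V, x ^ p = 1) (a : MulAut V) (ha : a ^ (p - 1) = 1) :
    ∃ x : V, x ≠ 1 ∧ ∃ c : ℕ, a x = x ^ c := by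
  letI : Module (ZMod p) (Additive V) :=
    AddCommGroup.zmodModule fun x => congrArg Additive.ofMul (hexp x.toMul)
  have hap : a ^ p = a := by
    conv_lhs => rw [show p = p - 1 + 1 from (Nat.sub_add_cancel hp.out.one_le).symm, pow_succ,
      ha, one_mul]
  obtain ⟨z, hz, c, hc⟩ := exists_eigen_end (p := p)
    (AddMonoidHom.toZModLinearMap p (MonoidHom.toAdditive a.toMonoidHom) :
      Module.End (ZMod p) (Additive V)) (by
      have hn : ∀ k : ℕ, ∀ z : Additive V,
          ((AddMonoidHom.toZModLinearMap p (MonoidHom.toAdditive a.toMonoidHom) :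
            Module.End (ZMod p) (Additive V)) ^ k) z = Additive.ofMul ((a ^ k) z.toMul) := fun k => by
        induction k with
        | zero => intro z; rfl
        | succ k ih => intro z; rw [pow_succ, Module.End.mul_apply, ih]; rfl
      refine LinearMap.ext fun z => ?_
      rw [hn, hap]
      rfl)
  refine ⟨z.toMul, fun e => hz (Additive.toMul.injective e), c.val, ?_⟩
  have h1 : c • z = c.val • z := by rw [← Nat.cast_smul_eq_nsmul (ZMod p), ZMod.natCast_zmod_val]
  exact congrArg Additive.toMul (hc.trans h1)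

/-- Commuting automorphisms of exponent `p - 1` fix a common line. -/
theorem exists_line : ∀ (N : ℕ) {V : Type u} [CommGroup V] [Finite V] [Nontrivial V],
    Nat.card V = N → (∀ x : V, x ^ p = 1) → ∀ H : Subgroup (MulAut V), IsMulCommutative H →
      (∀ a ∈ H, a ^ (p - 1) = 1) → ∃ x : V, x ≠ 1 ∧ ∀ a ∈ H, a x ∈ Subgroup.zpowers x := by
  intro N
  induction N using Nat.strong_induction_on with
  | _ N ih =>
  intro V _ _ _ hN hexp H hc ha
  by_cases hsc : ∀ a ∈ H, ∀ x : V, a x ∈ Subgroup.zpowers x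
  · obtain ⟨x, hx⟩ := exists_ne (1 : V)
    exact ⟨x, hx, fun a haH => hsc a haH x⟩
  push Not at hsc
  obtain ⟨a, haH, x₀, hx₀⟩ := hsc
  obtain ⟨x, hx, c, hxc⟩ := exists_eigen hexp a (ha a haH)
  let E : Subgroup V :=
    { carrier := {y | a y = y ^ c}
      one_mem' := by simp
      mul_mem' := fun {y z} hy hz => by
        show a (y * z) = (y * z) ^ c
        rw [map_mul, show a y = y ^ c from hy, show a z = z ^ c from hz, mul_pow]
      inv_mem' := fun {y} hy => by
        show a y⁻¹ = y⁻¹ ^ c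
        rw [map_inv, show a y = y ^ c from hy, inv_pow] }
  have hEinv : ∀ b ∈ H, ∀ y ∈ E, b y ∈ E := fun b hb y hy => by
    have e : a * b = b * a := congrArg Subtype.val (hc.is_comm.comm (⟨a, haH⟩ : H) ⟨b, hb⟩)
    show a (b y) = b y ^ c
    rw [← MulAut.mul_apply, e, MulAut.mul_apply, show a y = y ^ c from hy, map_pow]
  haveI : Nontrivial E := ⟨⟨⟨x, hxc⟩, 1, fun e => hx (congrArg Subtype.val e)⟩⟩
  have hlt : Nat.card E < N := by
    refine hN ▸ lt_of_le_of_ne (Subgroup.card_le_card_group E) fun e => hx₀ ?_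
    have : x₀ ∈ E := (Subgroup.eq_top_of_card_eq E e).ge (Subgroup.mem_top x₀)
    rw [show a x₀ = x₀ ^ c from this]
    exact Subgroup.pow_mem _ (Subgroup.mem_zpowers x₀) c
  have hmem : ∀ b : H, ∀ y : E, (b : MulAut V) y ∈ E := fun b y => hEinv b b.2 y y.2
  let res : H →* MulAut E :=
    { toFun := fun b =>
        { toFun := fun y => ⟨(b : MulAut V) y, hmem b y⟩
          invFun := fun y => ⟨((b : MulAut V)⁻¹ : MulAut V) y, hmem b⁻¹ y⟩
          left_inv := fun y => Subtype.ext (MulAut.inv_apply_self _ (b : MulAut V) y)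
          right_inv := fun y => Subtype.ext (MulAut.apply_inv_self _ (b : MulAut V) y)
          map_mul' := fun y z => Subtype.ext (map_mul (b : MulAut V) (y : V) (z : V)) }
      map_one' := MulEquiv.ext fun y => Subtype.ext rfl
      map_mul' := fun b b' => MulEquiv.ext fun y => Subtype.ext rfl }
  have hrc : IsMulCommutative res.range := ⟨⟨by
    rintro ⟨_, b, rfl⟩ ⟨_, b', rfl⟩
    exact Subtype.ext (by
      show res b * res b' = res b' * res b
      rw [← map_mul, ← map_mul, hc.is_comm.comm b b'])⟩⟩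
  obtain ⟨y, hy, hyl⟩ := ih _ hlt (V := E) rfl (fun y => Subtype.ext (hexp y)) res.range hrc (by
    rintro _ ⟨b, rfl⟩
    rw [← map_pow, show b ^ (p - 1) = 1 from Subtype.ext (ha b b.2), map_one])
  refine ⟨y, fun e => hy (Subtype.ext e), fun b hb => ?_⟩
  obtain ⟨k, hk⟩ := hyl _ ⟨⟨b, hb⟩, rfl⟩
  exact ⟨k, congrArg Subtype.val hk⟩

end Cfsg.Agent.Fus.FineChain
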