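import Cfsg.Agent.Lib.Fus.GroupSystem

/-!
Fully normalized and fully centralized subgroups in the fusion system of a group.
-/

set_option autoImplicit false
set_option linter.style.haveILetI false

open scoped Classical

namespace Cfsg.Agent.Fus

open Subgroup FusionSystem

variable {G : Type*} [Group G]

theorem conjMap_mem_normalizer {P : Subgroup G} {g : G} {A : Subgroup G}
    (hA : A ≤ Subgroup.normalizer (P : Set G)) :
    A.map (MulAut.conj g).toMonoidHom ≤
      Subgroup.normalizer ((P.map (MulAut.conj g).toMonoidHom : Subgroup G) : Set G) := by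
  rintro _ ⟨x, hx, rfl⟩
  exact mem_normalizer_conj (g := g) (hA hx)

theorem conjMap_mem_centralizer {P : Subgroup G} {g : G} {A : Subgroup G}
    (hA : A ≤ Subgroup.centralizer (P : Set G)) :
    A.map (MulAut.conj g).toMonoidHom ≤
      Subgroup.centralizer ((P.map (MulAut.conj g).toMonoidHom : Subgroup G) : Set G) := by
  rintro _ ⟨x, hx, rfl⟩
  refine Subgroup.mem_centralizer_iff.2 ?_
  rintro _ ⟨y, hy, rfl⟩
  simp only [MulEquiv.toMonoidHom_eq_coe, MonoidHom.coe_coe, ← map_mul]
  rw [Subgroup.mem_centralizer_iff.1 (hA hx) y hy]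

theorem conjMap_inv_conjMap {A : Subgroup G} (g : G) :
    (A.map (MulAut.conj g).toMonoidHom).map (MulAut.conj g⁻¹).toMonoidHom = A := by
  rw [Subgroup.map_map]
  convert Subgroup.map_id A using 2
  ext x
  simp [mul_assoc]

theorem conjMap_comp {A : Subgroup G} (g k : G) :
    (A.map (MulAut.conj g).toMonoidHom).map (MulAut.conj k).toMonoidHom =
      A.map (MulAut.conj (k * g)).toMonoidHom := by
  rw [Subgroup.map_map]
  congr 1
  ext x
  simp [mul_assoc]

theorem card_conjMap (A : Subgroup G) (g : G) :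
    Nat.card (A.map (MulAut.conj g).toMonoidHom : Subgroup G) = Nat.card A :=
  Subgroup.card_map_of_injective (K := A) (f := (MulAut.conj g).toMonoidHom)
    (MulAut.conj g).injective

theorem mem_normalizer_centralizer {Q : Subgroup G} {a : G}
    (ha : a ∈ Subgroup.normalizer (Q : Set G)) :
    a ∈ Subgroup.normalizer ((Subgroup.centralizer (Q : Set G) : Subgroup G) : Set G) := by
  refine mem_normalizer_of_forall (fun c hc => ?_) fun c hc => ?_ <;>
    refine Subgroup.mem_centralizer_iff.2 fun y hy => ?_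
  · have h1 := Subgroup.mem_centralizer_iff.1 hc _
      ((Subgroup.mem_normalizer_iff''.1 ha y).1 hy)
    calc y * (a * c * a⁻¹) = a * (a⁻¹ * y * a * c) * a⁻¹ := by group
      _ = a * (c * (a⁻¹ * y * a)) * a⁻¹ := by rw [h1]
      _ = a * c * a⁻¹ * y := by group
  · have h1 := Subgroup.mem_centralizer_iff.1 hc _
      ((Subgroup.mem_normalizer_iff.1 ha y).1 hy)
    calc y * (a⁻¹ * c * a) = a⁻¹ * (a * y * a⁻¹ * c) * a := by group
      _ = a⁻¹ * (c * (a * y * a⁻¹)) * a := by rw [h1]
      _ = a⁻¹ * c * a * y := by group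

variable [Finite G] {p : ℕ} [Fact p.Prime] (S : Sylow p G)

omit [Finite G] [Fact p.Prime] in
theorem isConj_group {P Q : Subgroup G} :
    (groupFusionSystem (S : Subgroup G)).IsConj P Q ↔
      P ≤ S ∧ Q ≤ S ∧ ∃ g, P.map (MulAut.conj g).toMonoidHom = Q := by
  rw [groupFusionSystem_eq, isConj_ofSubgroup]
  simp only [Subgroup.mem_top, true_and]

theorem isFullyNormalized_group_iff {P : Subgroup G} (hP : P ≤ (S : Subgroup G)) :
    (groupFusionSystem (S : Subgroup G)).IsFullyNormalized P ↔
      IsSylowOf p (normalizerIn (S : Subgroup G) P) (Subgroup.normalizer (P : Set G)) := by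
  constructor
  · intro h
    rw [groupFusionSystem_eq] at h
    have := isSylowOf_normalizerIn (isSylowOf_top S) h
    rwa [top_inf_eq] at this
  · refine fun h => ⟨hP, fun Q hQ => ?_⟩
    obtain ⟨-, -, g, rfl⟩ := (isConj_group S).1 hQ
    rw [← card_conjMap (normalizerIn _ _) g⁻¹]
    refine h.card_le ((S.2.to_le inf_le_left).map _) ?_
    refine (conjMap_mem_normalizer inf_le_right).trans ?_
    rw [conjMap_inv_conjMap]

theorem isSylowOf_centralizerIn {P : Subgroup G}
    (h : IsSylowOf p (normalizerIn (S : Subgroup G) P) (Subgroup.normalizer (P : Set G))) :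
    IsSylowOf p (centralizerIn (S : Subgroup G) P) (Subgroup.centralizer (P : Set G)) := by
  refine IsSylowOf.of_card_le inf_le_right (S.2.to_le inf_le_left) fun A hA hAp hle => ?_
  obtain ⟨k, hk, hkA⟩ := h.exists_conj_le hAp (hA.trans (Subgroup.centralizer_le_normalizer _))
  have hk' : A.map (MulAut.conj k).toMonoidHom ≤ centralizerIn (S : Subgroup G) P := by
    refine le_inf (hkA.trans inf_le_left) ((conjMap_mem_centralizer (g := k) hA).trans ?_)
    refine Subgroup.centralizer_le ?_
    intro x hx
    exact ⟨k⁻¹ * x * k, (Subgroup.mem_normalizer_iff''.1 hk x).1 hx, by simp [mul_assoc]⟩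
  refine (Subgroup.eq_of_le_of_card_ge hle ?_).ge
  rw [← card_conjMap A k]
  exact Subgroup.card_le_of_le hk'

theorem isFullyCentralized_group_iff {P : Subgroup G} (hP : P ≤ (S : Subgroup G)) :
    (groupFusionSystem (S : Subgroup G)).IsFullyCentralized P ↔
      IsSylowOf p (centralizerIn (S : Subgroup G) P) (Subgroup.centralizer (P : Set G)) := by
  constructor
  · intro h
    refine IsSylowOf.of_card_le inf_le_right (S.2.to_le inf_le_left) fun A hA hAp hle => ?_
    refine (Subgroup.eq_of_le_of_card_ge hle ?_).ge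
    obtain ⟨Q, hQ, hQn⟩ := exists_fullyNormalized (groupFusionSystem (S : Subgroup G)) hP
    have hQC := isSylowOf_centralizerIn S ((isFullyNormalized_group_iff S hQn.1).1 hQn)
    obtain ⟨-, -, g, rfl⟩ := (isConj_group S).1 hQ
    rw [← card_conjMap A g]
    exact (hQC.card_le (hAp.map _) (conjMap_mem_centralizer hA)).trans (h.2 _ hQ)
  · refine fun h => ⟨hP, fun Q hQ => ?_⟩
    obtain ⟨-, -, g, rfl⟩ := (isConj_group S).1 hQ
    rw [← card_conjMap (centralizerIn _ _) g⁻¹]
    refine h.card_le ((S.2.to_le inf_le_left).map _) ?_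
    refine (conjMap_mem_centralizer inf_le_right).trans ?_
    rw [conjMap_inv_conjMap]

end Cfsg.Agent.Fus
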