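import Cfsg.Agent.Lib.Fus.ModelBasic
import Cfsg.Agent.S5118

/-!
A normal subgroup of a realizing group gives a normal subsystem; minimal realizing groups of simple
systems are simple.
-/

set_option autoImplicit false
set_option linter.style.haveILetI false
set_option linter.unusedSectionVars false

open scoped Classical

namespace Cfsg.Agent.Fus

open Subgroup FusionSystem
open scoped Pointwise

universe u v

variable {Ω : Type u} [Group Ω] {S : Subgroup Ω} {G : Type v} [Group G] (ι : S →* G)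

/-- The homomorphism `ι` as a function on the ambient group. -/
noncomputable def extFun : Ω → G := fun x => if h : x ∈ S then ι ⟨x, h⟩ else 1

theorem extFun_apply {x : Ω} (h : x ∈ S) : extFun ι x = ι ⟨x, h⟩ := dif_pos h

theorem extFun_mul {x y : Ω} (hx : x ∈ S) (hy : y ∈ S) :
    extFun ι (x * y) = extFun ι x * extFun ι y := by
  rw [extFun_apply ι hx, extFun_apply ι hy, extFun_apply ι (S.mul_mem hx hy), ← map_mul]
  rfl

theorem extFun_inv {x : Ω} (hx : x ∈ S) : extFun ι x⁻¹ = (extFun ι x)⁻¹ := by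
  rw [extFun_apply ι hx, extFun_apply ι (S.inv_mem hx), ← map_inv]
  rfl

/-- The part of `S` carried into `H`. -/
def pullSub (H : Subgroup G) : Subgroup Ω := (H.comap ι).map S.subtype

theorem pullSub_le (H : Subgroup G) : pullSub ι H ≤ S := Subgroup.map_subtype_le _

theorem mem_pullSub {H : Subgroup G} {x : Ω} :
    x ∈ pullSub ι H ↔ x ∈ S ∧ extFun ι x ∈ H := by
  constructor
  · rintro ⟨y, hy, rfl⟩
    exact ⟨y.2, by
      show extFun ι (y : Ω) ∈ H
      rw [extFun_apply ι y.2]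
      exact hy⟩
  · rintro ⟨hx, hm⟩
    exact ⟨⟨x, hx⟩, by rwa [extFun_apply ι hx] at hm, rfl⟩

variable {ι}

theorem extFun_injOn (hι : Function.Injective ι) {x y : Ω} (hx : x ∈ S) (hy : y ∈ S)
    (h : extFun ι x = extFun ι y) : x = y := by
  rw [extFun_apply ι hx, extFun_apply ι hy] at h
  exact congrArg Subtype.val (hι h)

theorem exists_pull (hι : Function.Injective ι) {T R : Subgroup Ω} (hT : T ≤ S) (hR : R ≤ S)
    (g : G) (h : ∀ x ∈ R, ∃ y ∈ T, extFun ι y = g * extFun ι x * g⁻¹) :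
    ∃ φ : R →* Ω, (∀ x : R, φ x ∈ T) ∧ ∀ x : R, extFun ι (φ x) = g * extFun ι x * g⁻¹ := by
  choose y hy hye using fun x : R => h x x.2
  refine ⟨MonoidHom.mk' y fun a b => extFun_injOn hι (hT (hy _)) (S.mul_mem (hT (hy a)) (hT (hy b))) ?_,
    hy, hye⟩
  rw [extFun_mul ι (hT (hy a)) (hT (hy b)), hye, hye, hye, Subgroup.coe_mul,
    extFun_mul ι (hR a.2) (hR b.2)]
  group

/-- The system induced on the part of `S` in `H` by conjugations in `H`. -/
noncomputable def realSys (hι : Function.Injective ι) (H : Subgroup G) :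
    FusionSystem (pullSub ι H) where
  Hom P := {φ | P ≤ pullSub ι H ∧ (∀ x : P, φ x ∈ pullSub ι H) ∧
    ∃ g ∈ H, ∀ x : P, extFun ι (φ x) = g * extFun ι x * g⁻¹}
  le_of_mem h := ⟨h.1, h.2.1⟩
  injective_of_mem := by
    rintro P φ ⟨hP, -, g, -, hg⟩ a b hab
    refine Subtype.ext (extFun_injOn hι (pullSub_le ι H (hP a.2)) (pullSub_le ι H (hP b.2)) ?_)
    exact mul_left_cancel (mul_right_cancel (((hg a).symm.trans (congrArg _ hab)).trans (hg b)))
  conj_mem := by
    intro P g hP hg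
    have hgS := ((mem_pullSub ι).1 hg).1
    refine ⟨hP, fun x => Subgroup.mul_mem _ (Subgroup.mul_mem _ hg (hP x.2)) (Subgroup.inv_mem _ hg),
      extFun ι g, ((mem_pullSub ι).1 hg).2, fun x => ?_⟩
    show extFun ι (g * (x : Ω) * g⁻¹) = _
    have hxS := pullSub_le ι H (hP x.2)
    rw [extFun_mul ι (S.mul_mem hgS hxS) (S.inv_mem hgS), extFun_mul ι hgS hxS, extFun_inv ι hgS]
  comp_mem := by
    rintro P Q φ ψ ⟨hP, -, g, hgH, hg⟩ ⟨-, hψT, k, hkH, hk⟩ hQ
    refine ⟨hP, fun x => hψT _, k * g, H.mul_mem hkH hgH, fun x => ?_⟩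
    show extFun ι (ψ ⟨φ x, hQ x⟩) = _
    rw [hk, hg]
    group
  inv_mem := by
    rintro P φ ⟨hP, hφT, g, hgH, hg⟩
    have hinj : Function.Injective φ := fun a b hab =>
      Subtype.ext (extFun_injOn hι (pullSub_le ι H (hP a.2)) (pullSub_le ι H (hP b.2))
        (mul_left_cancel (mul_right_cancel (((hg a).symm.trans (congrArg _ hab)).trans (hg b)))))
    let e := MonoidHom.ofInjective hinj
    refine ⟨P.subtype.comp e.symm.toMonoidHom, ⟨fun y hy => ?_, fun y => hP (e.symm y).2, g⁻¹,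
      H.inv_mem hgH, fun y => ?_⟩, fun x => congrArg Subtype.val (e.symm_apply_apply x)⟩
    · obtain ⟨x, rfl⟩ := hy
      exact hφT x
    · have h := hg (e.symm y)
      rw [show φ (e.symm y) = (y : Ω) from congrArg Subtype.val (e.apply_symm_apply y)] at h
      show extFun ι ((e.symm y : P) : Ω) = _
      rw [h]
      group

variable [Finite G] {p : ℕ} [Fact p.Prime] {F : FusionSystem S}

theorem map_pullSub {H : Subgroup G} :
    ((pullSub ι H).subgroupOf S).map ι = ι.range ⊓ H := by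
  rw [pullSub, Subgroup.subgroupOf, Subgroup.comap_map_eq_self_of_injective S.subtype_injective,
    Subgroup.map_comap_eq]

/-- Realization in `H` of the induced system. -/
theorem realSys_realizedBy (h : F.IsRealizedBy ι) {T : Sylow p G} (hT : (T : Subgroup G) = ι.range)
    (N : Subgroup G) [N.Normal] :
    ∃ ν : ↥(pullSub ι N) →* N, (realSys h.1 N).IsRealizedBy ν ∧
      (∀ x : ↥(pullSub ι N), ((ν x : N) : G) = extFun ι x) ∧
      ∃ T' : Sylow p N, (T' : Subgroup N) = ν.range := by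
  let ν : ↥(pullSub ι N) →* N :=
    (ι.comp (Subgroup.inclusion (pullSub_le ι N))).codRestrict N fun x => by
      have := ((mem_pullSub ι).1 x.2).2
      rwa [extFun_apply ι (pullSub_le ι N x.2)] at this
  have hν : ∀ x : ↥(pullSub ι N), ((ν x : N) : G) = extFun ι x := fun x =>
    (extFun_apply ι (pullSub_le ι N x.2)).symm
  refine ⟨ν, ⟨fun a b e => Subtype.ext (extFun_injOn h.1 (pullSub_le ι N a.2) (pullSub_le ι N b.2)
    (by rw [← hν, ← hν, e])), fun P hP φ hφ => ?_⟩, hν, ?_⟩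
  · constructor
    · rintro ⟨-, -, g, hg, hge⟩
      refine ⟨⟨g, hg⟩, fun x => Subtype.ext ?_⟩
      simp only [Subgroup.coe_mul, Subgroup.coe_inv, hν]
      exact hge x
    · rintro ⟨g, hg⟩
      refine ⟨hP, hφ, g, g.2, fun x => ?_⟩
      have := congrArg Subtype.val (hg x)
      simp only [Subgroup.coe_mul, Subgroup.coe_inv, hν] at this
      exact this
  · have hS := S5118.isSylowOf_inf T N
    have hr : ν.range.map N.subtype = (T : Subgroup G) ⊓ N := by
      rw [hT, ← map_pullSub]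
      ext y
      constructor
      · rintro ⟨_, ⟨x, rfl⟩, rfl⟩
        exact ⟨⟨x, pullSub_le ι N x.2⟩, x.2, rfl⟩
      · rintro ⟨s, hs, rfl⟩
        exact ⟨_, ⟨⟨s, hs⟩, rfl⟩, rfl⟩
    refine ⟨Sylow.ofCard ν.range ?_, rfl⟩
    rw [Nat.card_congr (Subgroup.equivMapOfInjective ν.range _ N.subtype_injective).toEquiv, hr]
    obtain ⟨a, ha⟩ := IsPGroup.iff_card.1 hS.isPGroup
    obtain ⟨T', hT'⟩ := hS.2
    have h1 := T'.card_eq_multiplicity
    rw [hT', Nat.card_congr (Subgroup.subgroupOfEquivOfLe inf_le_right).toEquiv] at h1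
    exact h1

/-- A normal subgroup of a realizing group gives a normal subsystem. -/
theorem realSys_isNormalIn [Finite S] (h : F.IsRealizedBy ι) {T : Sylow p G}
    (hT : (T : Subgroup G) = ι.range) (N : Subgroup G) [hN : N.Normal] :
    (realSys h.1 N).IsNormalIn F p := by
  have hle := pullSub_le ι N
  obtain ⟨ν, hν, -, T', hT'⟩ := realSys_realizedBy h hT N
  haveI : Finite ↥(pullSub ι N) := Finite.of_injective _ (Subgroup.inclusion_injective hle)
  have hF : ∀ (P : Subgroup Ω) (φ : P →* Ω), P ≤ S → (∀ x : P, φ x ∈ S) →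
      (φ ∈ F.Hom P ↔ ∃ g : G, ∀ x : P, extFun ι (φ x) = g * extFun ι x * g⁻¹) := by
    intro P φ hP hφ
    rw [h.2 P hP φ hφ]
    refine exists_congr fun g => forall_congr' fun x => ?_
    rw [extFun_apply ι (hφ x), extFun_apply ι (hP x.2)]
  have hrange : ∀ y : G, y ∈ (T : Subgroup G) ⊓ N →
      ∃ x ∈ pullSub ι N, extFun ι x = y := by
    intro y hy
    rw [hT, ← map_pullSub] at hy
    obtain ⟨s, hs, rfl⟩ := hy
    exact ⟨s, hs, extFun_apply ι s.2⟩
  have himg : ∀ x ∈ pullSub ι N, extFun ι x ∈ (T : Subgroup G) ⊓ N := fun x hx =>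
    ⟨by rw [hT, extFun_apply ι (hle hx)]; exact ⟨_, rfl⟩, ((mem_pullSub ι).1 hx).2⟩
  have haut : ∀ α ∈ F.autGroup (pullSub ι N), ∃ g : G, ∀ t : ↥(pullSub ι N),
      extFun ι (α t : ↥(pullSub ι N)) = g * extFun ι t * g⁻¹ := by
    intro α hα
    have hm := (mem_autGroup hle).1 hα
    obtain ⟨φ, hφ, e⟩ := hm
    obtain ⟨g, hg⟩ := (hF _ φ hle (F.le_of_mem hφ).2).1 hφ
    refine ⟨g, fun t => ?_⟩
    rw [← hg t, e t, autFun_coe]
  refine ⟨⟨isSaturated_of_realized hν hT', isSaturated_of_realized h hT, ?_, ?_, ?_, ?_⟩, ?_⟩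
  · rintro P φ ⟨hP, hφ, g, -, hg⟩
    exact (hF P φ (hP.trans hle) fun x => hle (hφ x)).2 ⟨g, hg⟩
  · refine ⟨hle, fun R hR φ hφ x => ?_⟩
    obtain ⟨g, hg⟩ := (hF R φ (hR.trans hle) (F.le_of_mem hφ).2).1 hφ
    refine (mem_pullSub ι).2 ⟨(F.le_of_mem hφ).2 x, ?_⟩
    rw [hg]
    exact hN.conj_mem _ ((mem_pullSub ι).1 (hR x.2)).2 g
  · rintro P hPT φ ⟨-, hφ, n, hn, hne⟩ α hα
    obtain ⟨g, hg⟩ := haut α hα
    set Q := (P.subgroupOf (pullSub ι N)).map ((pullSub ι N).subtype.comp α.toMonoidHom) with hQ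
    have hQT : Q ≤ pullSub ι N := by
      rintro _ ⟨t, -, rfl⟩
      exact (α t).2
    have hmem : ∀ y ∈ Q, ∃ z ∈ pullSub ι N,
        extFun ι z = g * n * g⁻¹ * extFun ι y * (g * n * g⁻¹)⁻¹ := by
      rintro _ ⟨t, ht, rfl⟩
      refine ⟨(α ⟨_, hφ ⟨t, ht⟩⟩ : ↥(pullSub ι N)), SetLike.coe_mem _, ?_⟩
      show extFun ι ((α ⟨_, hφ ⟨t, ht⟩⟩ : ↥(pullSub ι N)) : Ω) = _ * extFun ι ((α t : ↥(pullSub ι N)) : Ω) * _
      rw [hg, hg, hne]
      group
    obtain ⟨χ, hχ, hχe⟩ := exists_pull h.1 hle (hQT.trans hle) _ hmem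
    refine ⟨χ, ⟨hQT, hχ, _, hN.conj_mem n hn g, hχe⟩, fun x hφx hαx => ?_⟩
    refine extFun_injOn h.1 (hle (hχ _)) (hle (SetLike.coe_mem _)) ?_
    rw [hχe, hg ⟨_, hφx⟩]
    show _ * extFun ι ((α ⟨x, hPT x.2⟩ : ↥(pullSub ι N)) : Ω) * _ = g * extFun ι (φ x) * g⁻¹
    rw [hg, hne]
    group
  · intro P hPT φ hφ
    obtain ⟨g, hg⟩ := (hF P φ (hPT.trans hle) (F.le_of_mem hφ).2).1 hφ
    obtain ⟨a, ha, n, hn, rfl⟩ := S5118.frattini T N g
    obtain ⟨φ₀, hφ₀, hφ₀e⟩ := exists_pull h.1 hle (hPT.trans hle) n fun x hx => by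
      refine hrange _ ((Subgroup.mem_normalizer_iff.1 ha _).2 ⟨?_, ?_⟩)
      · rw [hT, show a * (n * extFun ι x * n⁻¹) * a⁻¹ = extFun ι (φ ⟨x, hx⟩) by rw [hg]; group,
          extFun_apply ι ((F.le_of_mem hφ).2 _)]
        exact ⟨_, rfl⟩
      · exact hN.conj_mem _ (hN.conj_mem _ ((mem_pullSub ι).1 (hPT hx)).2 n) a
    obtain ⟨ψ, hψ, hψe⟩ := exists_pull h.1 hle hle a fun x hx =>
      hrange _ ((Subgroup.mem_normalizer_iff.1 ha _).1 (himg x hx))
    have hψm : ψ ∈ F.Hom (pullSub ι N) := (hF _ ψ hle fun x => hle (hψ x)).2 ⟨a, hψe⟩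
    obtain ⟨α, hα, hαe⟩ := (isMap_toFun hψm).exists_aut (by
      refine Subgroup.eq_of_le_of_card_ge (fimg_le fun x hx => ?_)
        (IsMap.card_fimg (isMap_toFun hψm)).ge
      rw [toFun_apply ψ hx]
      exact hψ _)
    refine ⟨α, hα, φ₀, ⟨hPT, hφ₀, n, hn, hφ₀e⟩, fun x hx => ?_⟩
    refine extFun_injOn h.1 ((F.le_of_mem hφ).2 x) (hle (SetLike.coe_mem _)) ?_
    rw [← autFun_coe α ⟨_, hx⟩, hαe _ hx, toFun_apply ψ hx, hψe, hg]
    show _ = a * extFun ι (φ₀ x) * a⁻¹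
    rw [hφ₀e]
    group
  · rintro α hα
    obtain ⟨φ, ⟨-, hφ, n, hn, hne⟩, hφα⟩ := (mem_autGroup le_rfl).1 hα
    have hαn : ∀ t : ↥(pullSub ι N), extFun ι (α t : ↥(pullSub ι N)) = n * extFun ι t * n⁻¹ := by
      intro t
      rw [← hne t, hφα t, autFun_coe]
    -- the same automorphism inside the group
    set T₀ : Subgroup G := (T : Subgroup G) ⊓ N with hT₀
    have hnT : ∀ y ∈ T₀, n * y * n⁻¹ ∈ T₀ := fun y hy => by
      obtain ⟨x, hx, rfl⟩ := hrange y hy
      rw [← hαn ⟨x, hx⟩]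
      exact himg _ (SetLike.coe_mem _)
    obtain ⟨α', hα', hα'e⟩ := (isMap_ofSubgroup.2 ⟨le_rfl, n, hn, fun x hx => ⟨rfl, hnT x hx⟩⟩ :
        IsMap (fusionSystemOfSubgroup N T₀ inf_le_right) T₀ fun x => n * x * n⁻¹).exists_aut (by
      refine Subgroup.eq_of_le_of_card_ge (fimg_le hnT) ?_
      rw [fimg_conj_eq_map]
      exact (card_conjMap _ _).ge)
    obtain ⟨β', hβ', hb1, hb2⟩ := (S5118.result p T N).2 α' hα'
    obtain ⟨-, k, hk⟩ := isMap_group.1 ((mem_autGroup (sup_le inf_le_left inf_le_left)).1 hβ')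
    have hβk : ∀ y : ↥(T₀ ⊔ centralizerIn (T : Subgroup G) T₀),
        ((β' y : ↥(T₀ ⊔ centralizerIn (T : Subgroup G) T₀)) : G) = k * y * k⁻¹ := fun y =>
      (autFun_coe β' y).symm.trans (hk y y.2).1
    set W := pullSub ι N ⊔ centralizerIn S (pullSub ι N) with hW
    have hWS : W ≤ S := sup_le hle inf_le_left
    have hcen : ∀ c ∈ centralizerIn S (pullSub ι N),
        extFun ι c ∈ centralizerIn (T : Subgroup G) T₀ := by
      rintro c ⟨hcS, hc⟩
      refine ⟨by rw [hT, extFun_apply ι hcS]; exact ⟨_, rfl⟩, Subgroup.mem_centralizer_iff.2 ?_⟩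
      intro y hy
      obtain ⟨x, hx, rfl⟩ := hrange y hy
      rw [← extFun_mul ι (hle hx) hcS, ← extFun_mul ι hcS (hle hx),
        Subgroup.mem_centralizer_iff.1 hc x hx]
    have hcen' : ∀ y ∈ centralizerIn (T : Subgroup G) T₀,
        ∃ c ∈ centralizerIn S (pullSub ι N), extFun ι c = y := by
      rintro y ⟨hyT, hy⟩
      rw [hT] at hyT
      obtain ⟨s, rfl⟩ := hyT
      refine ⟨s, ⟨s.2, Subgroup.mem_centralizer_iff.2 fun x hx => ?_⟩, extFun_apply ι s.2⟩
      refine extFun_injOn h.1 (S.mul_mem (hle hx) s.2) (S.mul_mem s.2 (hle hx)) ?_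
      rw [extFun_mul ι (hle hx) s.2, extFun_mul ι s.2 (hle hx), extFun_apply ι s.2]
      exact Subgroup.mem_centralizer_iff.1 hy _ (himg x hx)
    let U : Subgroup Ω := ((T₀ ⊔ centralizerIn (T : Subgroup G) T₀).comap ι).map S.subtype
    have hUW : U ≤ W := by
      rintro _ ⟨s, hs, rfl⟩
      have hN' : centralizerIn (T : Subgroup G) T₀ ≤ Subgroup.normalizer (T₀ : Set G) :=
        inf_le_right.trans (Subgroup.centralizer_le_normalizer _)
      have hs' : ι s ∈ ((T₀ : Set G) * (centralizerIn (T : Subgroup G) T₀ : Set G)) := by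
        rw [← Subgroup.coe_mul_of_right_le_normalizer_left _ _ hN']
        exact hs
      obtain ⟨a, ha, b, hb, e⟩ := hs'
      obtain ⟨a', ha', rfl⟩ := hrange a ha
      obtain ⟨b', hb', rfl⟩ := hcen' b hb
      have : (s : Ω) = a' * b' := extFun_injOn h.1 s.2 (S.mul_mem (hle ha') hb'.1) (by
        rw [extFun_mul ι (hle ha') hb'.1, extFun_apply ι s.2]
        exact e.symm)
      show (s : Ω) ∈ W
      rw [this]
      exact W.mul_mem (Subgroup.mem_sup_left ha') (Subgroup.mem_sup_right hb')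
    have hWimg : ∀ x ∈ W, extFun ι x ∈ T₀ ⊔ centralizerIn (T : Subgroup G) T₀ := by
      intro x hx
      have hWU : W ≤ U := by
        refine sup_le (fun y hy => ?_) (fun y hy => ?_)
        · exact ⟨⟨y, hle hy⟩, Subgroup.mem_comap.2 (extFun_apply ι (hle hy) ▸
            Subgroup.mem_sup_left (himg y hy)), rfl⟩
        · exact ⟨⟨y, hy.1⟩, Subgroup.mem_comap.2 (extFun_apply ι hy.1 ▸
            Subgroup.mem_sup_right (hcen y hy)), rfl⟩
      obtain ⟨s, hs, rfl⟩ := hWU hx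
      show extFun ι (s : Ω) ∈ _
      rw [extFun_apply ι s.2]
      exact hs
    obtain ⟨ψ, hψ, hψe⟩ := exists_pull h.1 hWS hWS k fun x hx => by
      have h1 : k * extFun ι x * k⁻¹ ∈ T₀ ⊔ centralizerIn (T : Subgroup G) T₀ := by
        rw [← hβk ⟨_, hWimg x hx⟩]
        exact SetLike.coe_mem _
      have hSx : k * extFun ι x * k⁻¹ ∈ (T : Subgroup G) :=
        (sup_le inf_le_left inf_le_left : T₀ ⊔ centralizerIn (T : Subgroup G) T₀ ≤ _) h1
      rw [hT] at hSx
      obtain ⟨s, hs⟩ := hSx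
      exact ⟨s, hUW ⟨s, Subgroup.mem_comap.2 (hs ▸ h1), rfl⟩, (extFun_apply ι s.2).trans hs⟩
    haveI : Finite ↥W := Finite.of_injective _ (Subgroup.inclusion_injective hWS)
    have hψm : ψ ∈ F.Hom W := (hF _ ψ hWS fun x => hWS (hψ x)).2 ⟨k, hψe⟩
    obtain ⟨β, hβ, hβe⟩ := (isMap_toFun hψm).exists_aut (by
      refine Subgroup.eq_of_le_of_card_ge (fimg_le fun x hx => ?_)
        (IsMap.card_fimg (isMap_toFun hψm)).ge
      rw [toFun_apply ψ hx]
      exact hψ _)
    have hβv : ∀ x : W, extFun ι ((β x : W) : Ω) = k * extFun ι x * k⁻¹ := fun x => by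
      rw [← autFun_coe β x, hβe x x.2, toFun_coe, hψe]
    refine ⟨β, hβ, fun x => ?_, fun c hc => ?_⟩
    · refine extFun_injOn h.1 (hWS (SetLike.coe_mem _)) (hle (SetLike.coe_mem _)) ?_
      have h1 := hb1 ⟨_, himg x x.2⟩
      rw [hβk, ← autFun_coe α', hα'e _ (himg x x.2)] at h1
      rw [hβv, hαn]
      exact h1
    · have h1 := hb2 ⟨_, hWimg c c.2⟩ (hcen c hc)
      rw [hβk] at h1
      have hβS : ((β c : W) : Ω) ∈ S := hWS (SetLike.coe_mem _)
      have hcS : (c : Ω) ∈ S := hWS c.2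
      have h2 : extFun ι ((c : Ω)⁻¹ * ((β c : W) : Ω)) =
          (extFun ι c)⁻¹ * (k * extFun ι c * k⁻¹) := by
        rw [extFun_mul ι (S.inv_mem hcS) hβS, extFun_inv ι hcS, hβv]
      obtain ⟨z, hz, hze⟩ := hrange _ h1.1
      have hzeq : (c : Ω)⁻¹ * ((β c : W) : Ω) = z :=
        extFun_injOn h.1 (S.mul_mem (S.inv_mem hcS) hβS) (hle hz) (h2.trans hze.symm)
      rw [hzeq]
      refine ⟨hz, Subgroup.mem_centralizer_iff.2 fun x hx => ?_⟩
      refine extFun_injOn h.1 (S.mul_mem (hle hx) (hle hz)) (S.mul_mem (hle hz) (hle hx)) ?_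
      rw [extFun_mul ι (hle hx) (hle hz), extFun_mul ι (hle hz) (hle hx), hze]
      exact Subgroup.mem_centralizer_iff.1 h1.2 _ (himg x hx)

/-- A quotient by a normal subgroup of order prime to `p` realizes the same system. -/
theorem realized_quotient (hS : IsPGroup p S) (h : F.IsRealizedBy ι) {T : Sylow p G}
    (hT : (T : Subgroup G) = ι.range) (N : Subgroup G) [hN : N.Normal]
    (hp : ι.range ⊓ N = ⊥) :
    F.IsRealizedBy ((QuotientGroup.mk' N).comp ι) ∧
      ∃ T' : Sylow p (G ⧸ N), (T' : Subgroup (G ⧸ N)) = ((QuotientGroup.mk' N).comp ι).range := by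
  have hker : ∀ s : S, ι s ∈ N → s = 1 := fun s hs => by
    have : ι s ∈ (⊥ : Subgroup G) := hp ▸ ⟨⟨s, rfl⟩, hs⟩
    exact h.1 ((Subgroup.mem_bot.1 this).trans (map_one ι).symm)
  have hcop : ¬ p ∣ Nat.card N := by
    intro hd
    obtain ⟨x, hx⟩ := exists_prime_orderOf_dvd_card' p hd
    have hx' : IsPGroup p (Subgroup.zpowers (x : G)) :=
      IsPGroup.of_card (n := 1) (by rw [Nat.card_zpowers, Subgroup.orderOf_coe, hx, pow_one])
    obtain ⟨g, -, hg⟩ := (isSylowOf_top T).exists_conj_le hx' le_top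
    have hmem : g * (x : G) * g⁻¹ ∈ ι.range ⊓ N :=
      ⟨hT ▸ hg ⟨x, Subgroup.mem_zpowers _, rfl⟩, hN.conj_mem _ x.2 g⟩
    rw [hp, Subgroup.mem_bot, conj_eq_one_iff, OneMemClass.coe_eq_one] at hmem
    rw [hmem, orderOf_one] at hx
    exact (Fact.out : p.Prime).one_lt.ne hx
  constructor
  · refine ⟨fun a b e => ?_, fun P hP φ hφ => ?_⟩
    · have : ι (a⁻¹ * b) ∈ N := by
        rw [map_mul, map_inv]
        exact QuotientGroup.eq.1 e
      exact inv_mul_eq_one.1 (hker _ this)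
    · rw [h.2 P hP φ hφ]
      constructor
      · rintro ⟨g, hg⟩
        exact ⟨QuotientGroup.mk' N g, fun x => by
          simp only [MonoidHom.comp_apply, hg x, map_mul, map_inv]⟩
      · rintro ⟨gbar, hg⟩
        obtain ⟨g, rfl⟩ := QuotientGroup.mk'_surjective N gbar
        set A : Subgroup G := ((P.subgroupOf S).map ι).map (MulAut.conj g).toMonoidHom with hA
        let φ' : P →* S := φ.codRestrict S hφ
        set B : Subgroup G := (ι.comp φ').range with hB
        have hAp : IsPGroup p A := ((hS.to_subgroup _).map _).map _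
        have hBp : IsPGroup p B :=
          IsPGroup.of_equiv ((hS.to_subgroup φ'.range).map ι)
            (MulEquiv.subgroupCongr (MonoidHom.range_comp ι φ').symm)
        have hmod : ∀ x : P, (g * ι ⟨x, hP x.2⟩ * g⁻¹)⁻¹ * ι (φ' x) ∈ N := fun x => by
          refine QuotientGroup.eq.1 ?_
          exact ((hg x).trans (by simp)).symm
        have hAB : A ≤ N ⊔ B := by
          rintro _ ⟨_, ⟨⟨y, hy⟩, hyP, rfl⟩, rfl⟩
          have := hmod ⟨y, hyP⟩
          show g * ι ⟨y, hy⟩ * g⁻¹ ∈ _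
          rw [show g * ι ⟨y, hy⟩ * g⁻¹ =
            ι (φ' ⟨y, hyP⟩) * ((g * ι ⟨y, hy⟩ * g⁻¹)⁻¹ * ι (φ' ⟨y, hyP⟩))⁻¹ by group]
          exact Subgroup.mul_mem _ (Subgroup.mem_sup_right ⟨_, rfl⟩)
            (Subgroup.inv_mem _ (Subgroup.mem_sup_left this))
        have hBN : B ⊓ N = ⊥ := by
          rw [eq_bot_iff]
          rintro _ ⟨⟨x, rfl⟩, hx⟩
          rw [MonoidHom.comp_apply, hker _ hx, map_one]
          exact Subgroup.one_mem _
        have hSyl : IsSylowOf p B (N ⊔ B) := by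
          refine IsSylowOf.of_card_le le_sup_right hBp fun C hC hCp hBC c hc => ?_
          have hc' : c ∈ ((N : Set G) * (B : Set G)) := by
            rw [← Subgroup.normal_mul]
            exact hC hc
          obtain ⟨n, hn, b, hb, rfl⟩ := hc'
          have hnC : n ∈ C := by
            have := C.mul_mem hc (C.inv_mem (hBC hb))
            rwa [mul_inv_cancel_right] at this
          obtain ⟨k, hk⟩ := hCp ⟨n, hnC⟩
          have hk' : orderOf n ∣ p ^ k := by
            rw [← Subgroup.orderOf_mk n hnC]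
            exact orderOf_dvd_of_pow_eq_one hk
          obtain ⟨j, -, hj⟩ := (Nat.dvd_prime_pow Fact.out).1 hk'
          rcases Nat.eq_zero_or_pos j with rfl | hjpos
          · rw [pow_zero, orderOf_eq_one_iff] at hj
            show n * b ∈ B
            rw [hj, one_mul]
            exact hb
          · exfalso
            exact hcop ((dvd_pow_self p hjpos.ne').trans
              (hj ▸ (Subgroup.orderOf_mk n hn).symm ▸ orderOf_dvd_natCard (⟨n, hn⟩ : N)))
        obtain ⟨m, hm, hmle⟩ := hSyl.exists_conj_le hAp hAB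
        have hm' : m ∈ ((B : Set G) * (N : Set G)) := by
          rw [← Subgroup.mul_normal, sup_comm]
          exact hm
        obtain ⟨b, hb, n, hn, rfl⟩ := hm'
        refine ⟨n * g, fun x => ?_⟩
        have h1 : n * (g * ι ⟨x, hP x.2⟩ * g⁻¹) * n⁻¹ ∈ B := by
          have h2 := hmle ⟨_, ⟨_, ⟨⟨x, hP x.2⟩, x.2, rfl⟩, rfl⟩, rfl⟩
          simp only [MulEquiv.toMonoidHom_eq_coe, MonoidHom.coe_coe, MulAut.conj_apply] at h2
          have h3 := B.mul_mem (B.mul_mem (B.inv_mem hb) h2) hb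
          convert h3 using 1
          group
        have h4 : (n * (g * ι ⟨x, hP x.2⟩ * g⁻¹) * n⁻¹)⁻¹ * ι (φ' x) ∈ B ⊓ N := by
          refine ⟨B.mul_mem (B.inv_mem h1) ⟨x, rfl⟩, ?_⟩
          rw [show (n * (g * ι ⟨x, hP x.2⟩ * g⁻¹) * n⁻¹)⁻¹ * ι (φ' x) =
            n * ((g * ι ⟨x, hP x.2⟩ * g⁻¹)⁻¹ * n⁻¹ * (g * ι ⟨x, hP x.2⟩ * g⁻¹)) *
              ((g * ι ⟨x, hP x.2⟩ * g⁻¹)⁻¹ * ι (φ' x)) by group]
          exact N.mul_mem (N.mul_mem hn (hN.conj_mem' _ (N.inv_mem hn) _)) (hmod x)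
        rw [hBN, Subgroup.mem_bot, inv_mul_eq_one] at h4
        show ι (φ' x) = _
        rw [← h4]
        group
  · refine ⟨T.mapSurjective (QuotientGroup.mk'_surjective N), ?_⟩
    rw [Sylow.coe_mapSurjective, hT, MonoidHom.range_comp]

end Cfsg.Agent.Fus
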