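import Mathlib
import Cfsg.Agent.Lib.Fus.FineChains
import Cfsg.Agent.Lib.Fus.RealizedNormal

/-!
Fusion systems of supersoluble type: a strongly closed chain with cyclic steps is the same as
`S` normal and automorphisms of order prime to `p` abelian of exponent dividing `p - 1`.
-/

set_option autoImplicit false
set_option linter.unusedSectionVars false
set_option linter.style.haveILetI false

open scoped Classical commutatorElement IsMulCommutative Pointwise

universe u

namespace Cfsg.Agent.Fus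

open Subgroup

variable {Ω : Type u} [Group Ω] {S : Subgroup Ω} [Finite S] {p : ℕ} [hp : Fact p.Prime]
  {F : FusionSystem S}

/-- A strongly closed chain with cyclic steps. -/
def HasCyclicChain (F : FusionSystem S) : Prop :=
  ∃ (m : ℕ) (c : Fin (m + 1) → Subgroup Ω), c 0 = ⊥ ∧ c (Fin.last m) = S ∧
    (∀ i : Fin (m + 1), F.StronglyClosed (c i)) ∧
    ∀ i : Fin m, c i.castSucc ≤ c i.succ ∧
      ∃ x ∈ S, c i.succ = c i.castSucc ⊔ Subgroup.zpowers x

/-- A strongly closed chain from `⊥` to `T` with factors of order at most `p`. -/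
def FineTo (F : FusionSystem S) (p : ℕ) (T : Subgroup Ω) : Prop :=
  ∃ (n : ℕ) (Qs : ℕ → Subgroup Ω), Qs 0 = ⊥ ∧ Qs n = T ∧ ∀ i < n, Qs i ≤ Qs (i + 1) ∧
    Nat.card (Qs (i + 1)) ≤ p * Nat.card (Qs i) ∧ F.StronglyClosed (Qs (i + 1))

theorem fineTo_bot : FineTo F p ⊥ := ⟨0, fun _ => ⊥, rfl, rfl, fun i hi => absurd hi (by omega)⟩

theorem FineTo.step {T U : Subgroup Ω} (h : FineTo F p T) (hTU : T ≤ U)
    (hc : Nat.card U ≤ p * Nat.card T) (hU : F.StronglyClosed U) : FineTo F p U := by
  obtain ⟨n, Qs, h0, hn, hstep⟩ := h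
  refine ⟨n + 1, fun i => if i ≤ n then Qs i else U, by simp [h0], by simp, fun i hi => ?_⟩
  rcases Nat.lt_or_ge i n with hin | hin
  · have e1 : i ≤ n := hin.le
    have e2 : i + 1 ≤ n := hin
    simp only [e1, e2, if_true]
    exact hstep i hin
  · obtain rfl : i = n := by omega
    simp only [le_refl, if_true, show ¬ i + 1 ≤ i by omega, if_false, hn]
    exact ⟨hTU, hc, hU⟩

theorem StronglyClosed.normal_in {T : Subgroup Ω} (hT : F.StronglyClosed T) :
    (T.subgroupOf S).Normal :=
  ⟨fun t ht s => Subgroup.mem_subgroupOf.2 (StronglyClosed.conj_mem' hT s.2 ht)⟩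

theorem card_subgroupOf {T : Subgroup Ω} (hT : T ≤ S) : Nat.card (T.subgroupOf S) = Nat.card T :=
  Nat.card_congr (Subgroup.subgroupOfEquivOfLe hT).toEquiv

/-- A chain with cyclic steps refines to a chain with factors of order at most `p`. -/
theorem fineTo_of_cyclicChain (hS : IsPGroup p S) (h : HasCyclicChain F) : FineTo F p S := by
  obtain ⟨m, c, h0, hlast, hcl, hstep⟩ := h
  suffices ∀ k, ∀ hk : k < m + 1, FineTo F p (c ⟨k, hk⟩) by
    exact hlast ▸ this m (Nat.lt_succ_self m)
  intro k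
  induction k with
  | zero =>
    intro hk
    rw [show c ⟨0, hk⟩ = ⊥ from h0]
    exact fineTo_bot
  | succ k ih =>
    intro hk
    obtain ⟨hle, x, hxS, hx⟩ := hstep ⟨k, by omega⟩
    have hB := hcl ⟨k, by omega⟩
    have hC := hcl ⟨k + 1, hk⟩
    set B := c ⟨k, by omega⟩ with hBdef
    set C := c ⟨k + 1, hk⟩ with hCdef
    have hle : B ≤ C := hle
    have hx : C = B ⊔ zpowers x := hx
    have hxC : x ∈ C := hx ▸ mem_sup_right (mem_zpowers x)
    have hnorm : ∀ g ∈ S, ∀ b ∈ B, g * b * g⁻¹ ∈ B := fun g hg b hb =>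
      StronglyClosed.conj_mem' hB hg hb
    have hxN : zpowers x ≤ Subgroup.normalizer (B : Set Ω) := zpowers_le.2
      (mem_normalizer_of_forall (hnorm x hxS) fun b hb => by
        simpa using hnorm x⁻¹ (S.inv_mem hxS) b hb)
    have hdec : ∀ y ∈ C, ∃ b ∈ B, ∃ i : ℤ, y = b * x ^ i := by
      intro y hy
      rw [hx, ← SetLike.mem_coe, Subgroup.coe_mul_of_right_le_normalizer_left _ _ hxN] at hy
      obtain ⟨b, hb, _, ⟨i, rfl⟩, rfl⟩ := hy
      exact ⟨b, hb, i, rfl⟩
    obtain ⟨K, hK⟩ := hS ⟨x, hxS⟩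
    have hK : x ^ p ^ K = 1 := by simpa using congrArg Subtype.val hK
    -- the intermediate steps
    obtain ⟨U, hUdef⟩ : ∃ U : ℕ → Subgroup Ω, ∀ j, U j = B ⊔ zpowers (x ^ p ^ j) :=
      ⟨_, fun _ => rfl⟩
    have hUle : ∀ j, U j ≤ C := fun j => by
      rw [hUdef]; exact sup_le hle (zpowers_le.2 (C.pow_mem hxC _))
    have hUN : ∀ j, zpowers (x ^ p ^ j) ≤ Subgroup.normalizer (B : Set Ω) := fun j =>
      (zpowers_le.2 (pow_mem (mem_zpowers x) _)).trans hxN
    -- membership is detected by the order modulo `B`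
    haveI := StronglyClosed.normal_in hB
    let π : S →* S ⧸ B.subgroupOf S := QuotientGroup.mk' _
    set q := π ⟨x, hxS⟩ with hq
    have hπ : ∀ y : S, π y = 1 ↔ (y : Ω) ∈ B := fun y =>
      (QuotientGroup.eq_one_iff y).trans Subgroup.mem_subgroupOf
    have hqK : q ^ p ^ K = 1 := by
      rw [hq, ← map_pow, hπ]; simp [hK]
    have hclosed : ∀ j, F.StronglyClosed (U j) := by
      intro j
      refine stronglyClosed_of_forall ((hUle j).trans hC.1) fun R hR f hf y hy => ?_
      have hyC := hUle j (hR hy)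
      have hfy : f y ∈ C :=
        StronglyClosed.apply_mem hC hf (hR.trans (hUle j)) hy
      -- a power landing in `B`
      obtain ⟨b, hb, i, hi⟩ : ∃ b ∈ B, ∃ i : ℤ, y = b * (x ^ p ^ j) ^ i := by
        have h1 := hR hy
        rw [hUdef, ← SetLike.mem_coe, Subgroup.coe_mul_of_right_le_normalizer_left _ _ (hUN j)] at h1
        obtain ⟨b, hb, _, ⟨i, rfl⟩, rfl⟩ := h1
        exact ⟨b, hb, i, rfl⟩
      obtain ⟨a, ha, hord⟩ := (Nat.dvd_prime_pow hp.out).1 (orderOf_dvd_of_pow_eq_one hqK)
      obtain ⟨b', hb', i', hi'⟩ := hdec _ hfy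
      rw [hUdef]
      rcases Nat.lt_or_ge a j with haj | haj
      · -- the step is trivial
        have : x ^ p ^ j ∈ B := by
          have h1 : q ^ p ^ j = 1 := orderOf_dvd_iff_pow_eq_one.1 (hord ▸ Nat.pow_dvd_pow p haj.le)
          rw [hq, ← map_pow, hπ] at h1
          simpa using h1
        refine mem_sup_left ?_
        have hyB : y ∈ B := hi ▸ B.mul_mem hb (B.zpow_mem this i)
        exact StronglyClosed.apply_mem hB (hf.res (zpowers_le.2 hy)) (zpowers_le.2 hyB)
          (mem_zpowers y)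
      · have hyS : y ∈ S := hC.1 hyC
        have hbS : b ∈ S := hB.1 hb
        have h1 : (⟨y, hyS⟩ : S) ^ p ^ (a - j) ∈ B.subgroupOf S := by
          rw [← QuotientGroup.eq_one_iff, QuotientGroup.mk_pow]
          have e : π ⟨y, hyS⟩ = (q ^ p ^ j) ^ i := by
            rw [show (⟨y, hyS⟩ : S) = ⟨b, hbS⟩ * (⟨x, hxS⟩ ^ p ^ j) ^ i from Subtype.ext (by simp [hi]),
              map_mul, map_zpow, map_pow, (hπ ⟨b, hbS⟩).2 hb, one_mul]
          show π ⟨y, hyS⟩ ^ p ^ (a - j) = 1
          rw [e, ← zpow_natCast ((q ^ p ^ j) ^ i), ← zpow_mul, mul_comm i, zpow_mul, zpow_natCast,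
            ← pow_mul, ← pow_add, Nat.add_sub_of_le haj, ← hord, pow_orderOf_eq_one, one_zpow]
        have h1 : y ^ p ^ (a - j) ∈ B := h1
        have h2 : f y ^ p ^ (a - j) ∈ B := by
          have hpw : ∀ n : ℕ, f (y ^ n) = f y ^ n := fun n => by
            induction n with
            | zero => simpa using hf.map_one
            | succ n ih => rw [pow_succ, pow_succ, hf.map_mul (R.pow_mem hy n) hy, ih]
          rw [← hpw]
          exact StronglyClosed.apply_mem hB (hf.res (zpowers_le.2 (R.pow_mem hy _)))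
            (zpowers_le.2 h1) (mem_zpowers _)
        have h3 : q ^ (i' * (p ^ (a - j) : ℕ)) = 1 := by
          have hfS := hC.1 hfy
          have h4 := (hπ (⟨f y, hfS⟩ ^ p ^ (a - j))).2 (by simpa using h2)
          rw [show (⟨f y, hfS⟩ : S) = ⟨b', hB.1 hb'⟩ * ⟨x, hxS⟩ ^ i' from Subtype.ext (by simp [hi']),
            map_pow, map_mul, map_zpow, (hπ ⟨b', hB.1 hb'⟩).2 hb', one_mul, ← zpow_natCast,
            ← zpow_mul] at h4
          exact h4
        rw [← orderOf_dvd_iff_zpow_eq_one, hord] at h3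
        obtain ⟨d, hd⟩ := h3
        have hdiv : i' = (p ^ j : ℕ) * d := by
          have e : ((p ^ a : ℕ) : ℤ) = ((p ^ j : ℕ) : ℤ) * ((p ^ (a - j) : ℕ) : ℤ) := by
            rw [← Nat.cast_mul, ← pow_add, Nat.add_sub_of_le haj]
          rw [e] at hd
          have hne : ((p ^ (a - j) : ℕ) : ℤ) ≠ 0 := by
            exact_mod_cast (pow_pos hp.out.pos _).ne'
          exact mul_right_cancel₀ hne (hd.trans (by ring))
        rw [hi', hdiv, zpow_mul, zpow_natCast]
        exact mul_mem (mem_sup_left hb') (mem_sup_right (zpow_mem (mem_zpowers _) d))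
    have hfine : ∀ j, j ≤ K → FineTo F p (U (K - j)) := by
      intro j
      induction j with
      | zero =>
        intro _
        rw [hUdef, Nat.sub_zero, hK, zpowers_one_eq_bot, sup_bot_eq]
        exact ih (by omega)
      | succ j ihj =>
        intro hj
        obtain ⟨l, hl⟩ : ∃ l, l = K - (j + 1) := ⟨_, rfl⟩
        have hl1 : K - j = l + 1 := by omega
        rw [← hl]
        refine (hl1 ▸ ihj (by omega)).step ?_ ?_ (hclosed l)
        · rw [hUdef, hUdef]
          refine sup_le_sup_left (zpowers_le.2 ?_) B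
          rw [pow_succ, pow_mul]
          exact pow_mem (mem_zpowers _) p
        · -- the factor
          haveI := finite_of_le ((hUle l).trans hC.1)
          haveI := finite_of_le ((hUle (l + 1)).trans hC.1)
          have hfun : ∀ u ∈ U l, ∃ v ∈ U (l + 1), ∃ r : Fin p, u = v * (x ^ p ^ l) ^ (r : ℕ) := by
            intro u hu
            rw [hUdef, ← SetLike.mem_coe,
              Subgroup.coe_mul_of_right_le_normalizer_left _ _ (hUN l)] at hu
            obtain ⟨b, hb, _, ⟨i, rfl⟩, rfl⟩ := hu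
            have hp0 : (p : ℤ) ≠ 0 := by exact_mod_cast hp.out.ne_zero
            refine ⟨b * (x ^ p ^ (l + 1)) ^ (i / p), ?_, ⟨(i % p).toNat, by
              have := Int.emod_lt_of_pos i (show (0 : ℤ) < p by exact_mod_cast hp.out.pos)
              have := Int.emod_nonneg i hp0
              omega⟩, ?_⟩
            · rw [hUdef]
              exact mul_mem (mem_sup_left hb) (mem_sup_right (zpow_mem (mem_zpowers _) _))
            · show b * (x ^ p ^ l) ^ i = _
              rw [mul_assoc]
              congr 1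
              rw [pow_succ, pow_mul, ← zpow_natCast (x ^ p ^ l) p, ← zpow_mul,
                ← zpow_natCast _ ((i % p).toNat), ← zpow_add,
                Int.toNat_of_nonneg (Int.emod_nonneg i hp0), Int.mul_ediv_add_emod]
          choose v hv r hr using fun u : U l => hfun u u.2
          have hinj : Function.Injective (fun u : U l => (((⟨v u, hv u⟩ : U (l + 1)), r u))) := by
            intro a b hab
            simp only [Prod.mk.injEq, Subtype.mk.injEq] at hab
            exact Subtype.ext (by rw [hr a, hr b, hab.1, hab.2])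
          have := Nat.card_le_card_of_injective _ hinj
          rw [Nat.card_prod, Nat.card_fin, mul_comm] at this
          exact this
    have := hfine K le_rfl
    rw [hUdef, Nat.sub_self, pow_zero, pow_one, ← hx] at this
    exact this

/-- A chain with factors of order at most `p` makes `S` normal. -/
theorem isNormal_of_fineTo (hS : IsPGroup p S) (hF : F.IsSaturated p) (h : FineTo F p S) :
    F.IsNormal S := by
  obtain ⟨n, Qs, h0, hn, hstep⟩ := h
  have hmono : ∀ i j, i ≤ j → j ≤ n → Qs i ≤ Qs j := fun i j hij => by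
    induction j, hij using Nat.le_induction with
    | base => exact fun _ => le_rfl
    | succ j _ ih => exact fun hj => (ih (by omega)).trans (hstep j (by omega)).1
  have hres := isNormal_of_chain hS hF (fun i : Fin (n + 1) => Qs i) h0
    (fun i j hij => hmono i j hij (by omega)) fun i => ⟨(hstep i i.2).2.2, ?_⟩
  · simpa [hn] using hres
  show ⁅Qs n, Qs (i + 1)⁆ ≤ Qs i
  rw [hn, Subgroup.commutator_le]
  intro s hs y hy
  obtain ⟨hle, hc, hcl⟩ := hstep i i.2
  have hB : ∀ g ∈ S, ∀ b ∈ Qs i, g * b * g⁻¹ ∈ Qs i := by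
    intro g hg b hb
    rcases Nat.eq_zero_or_pos (i : ℕ) with e | e
    · rw [e, h0, Subgroup.mem_bot] at hb ⊢
      simp [hb]
    · obtain ⟨j, hj⟩ : ∃ j, (i : ℕ) = j + 1 := ⟨i - 1, by omega⟩
      rw [hj] at hb ⊢
      exact StronglyClosed.conj_mem' (hstep j (by omega)).2.2 hg hb
  haveI : ((Qs i).subgroupOf S).Normal :=
    ⟨fun b hb g => Subgroup.mem_subgroupOf.2 (hB g g.2 b hb)⟩
  have hQS : Qs (i + 1) ≤ S := hcl.1
  have hsp : ∃ k : ℕ, (MulAut.conj (⟨s, hs⟩ : S)) ^ p ^ k = 1 := by
    obtain ⟨k, hk⟩ := hS ⟨s, hs⟩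
    exact ⟨k, by rw [← map_pow, hk, map_one]⟩
  obtain ⟨k, hk⟩ := hsp
  have h1 := factor_fix (p := p) (U := (Qs i).subgroupOf S) (X := (Qs (i + 1)).subgroupOf S)
    (fun a ha => hle ha) (by rw [card_subgroupOf hQS, card_subgroupOf (hle.trans hQS)]; exact hc)
    (MulAut.conj ⟨s, hs⟩) hk (fun a ha => hB s hs a ha)
    (fun a ha => StronglyClosed.conj_mem' hcl hs ha) (x := ⟨y, hQS hy⟩) hy
  have h2 : y⁻¹ * (s * y * s⁻¹) ∈ Qs i := h1
  have h3 := hB y (hQS hy) _ h2
  rw [commutatorElement_def]
  simpa [mul_assoc] using h3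

/-- A chain with factors of order at most `p` restricts the automorphisms of order prime to `p`. -/
theorem abelian_exp_of_fineTo (hS : IsPGroup p S) (h : FineTo F p S) (H : Subgroup (MulAut S))
    (hH : (Nat.card H).Coprime p) (hHF : H ≤ F.autGroup S) :
    IsMulCommutative H ∧ ∀ h ∈ H, h ^ (p - 1) = 1 := by
  obtain ⟨n, Qs, h0, hn, hstep⟩ := h
  have hcl : ∀ i ≤ n, F.StronglyClosed (Qs i) := by
    intro i hi
    rcases i with _ | i
    · rw [h0]
      refine stronglyClosed_of_forall bot_le fun R hR f hf x hx => ?_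
      rw [Subgroup.mem_bot] at *
      rw [show x = 1 from Subgroup.mem_bot.1 (hR hx)]
      exact hf.map_one
    · exact (hstep i (by omega)).2.2
  refine FineChain.abelian_exp_of_chain hS (n := n) (fun i => (Qs i).subgroupOf S) ?_
    (fun i hi a ha => (hstep i hi).1 ha) (fun i hi => StronglyClosed.normal_in (hcl i hi))
    (fun i hi => ?_) H hH (fun g hg i hi x hx => ?_) (fun β _ hb => ?_)
  · simp [hn]
  · rw [card_subgroupOf (hcl i hi.le).1, card_subgroupOf (hcl (i + 1) hi).1]
    exact (hstep i hi).2.1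
  · exact StronglyClosed.aut_apply_mem (hcl i hi) le_rfl (hHF hg) hx
  · refine MulEquiv.ext fun x => ?_
    have h1 := hb x
    rw [Subgroup.mem_subgroupOf, h0, Subgroup.mem_bot, OneMemClass.coe_eq_one] at h1
    exact (inv_mul_eq_one.1 h1).symm

/-- The system realized by an injective homomorphism. -/
theorem exists_isRealizedBy {G : Type*} [Group G] (ι : S →* G) (hι : Function.Injective ι) :
    ∃ F : FusionSystem S, F.IsRealizedBy ι := by
  have hT : pullSub ι ⊤ = S := le_antisymm (pullSub_le ι ⊤) fun x hx =>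
    (mem_pullSub ι).2 ⟨hx, Subgroup.mem_top _⟩
  suffices ∀ (T : Subgroup Ω) (E : FusionSystem T), T = S →
      (∀ (P : Subgroup Ω) (φ : P →* Ω), φ ∈ E.Hom P ↔ P ≤ T ∧ (∀ x : P, φ x ∈ T) ∧
        ∃ g ∈ (⊤ : Subgroup G), ∀ x : P, extFun ι (φ x) = g * extFun ι x * g⁻¹) →
      ∃ F : FusionSystem S, F.IsRealizedBy ι from
    this _ (realSys hι ⊤) hT fun P φ => Iff.rfl
  intro T E hT hE
  subst hT
  refine ⟨E, hι, fun P hP φ hφ => ?_⟩
  rw [hE]
  refine ⟨fun ⟨_, _, g, _, hg⟩ => ⟨g, fun x => ?_⟩,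
    fun ⟨g, hg⟩ => ⟨hP, hφ, g, Subgroup.mem_top g, fun x => ?_⟩⟩
  · have := hg x
    rwa [extFun_apply ι (hφ x), extFun_apply ι (hP x.2)] at this
  · rw [extFun_apply ι (hφ x), extFun_apply ι (hP x.2)]
    exact hg x

/-- A group of automorphisms of order prime to `p` occurs in a saturated system. -/
theorem exists_saturated_with_aut (hS : IsPGroup p S) (H : Subgroup (MulAut S))
    (hH : (Nat.card H).Coprime p) :
    ∃ F : FusionSystem S, F.IsSaturated p ∧ H ≤ F.autGroup S := by
  let θ : ↥H →* MulAut S := H.subtype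
  let ι : S →* SemidirectProduct S H θ := SemidirectProduct.inl
  haveI : Finite H := Nat.finite_of_card_ne_zero fun e => by
    rw [e, Nat.coprime_zero_left] at hH
    exact hp.out.ne_one hH
  haveI : Finite (SemidirectProduct S H θ) := Finite.of_equiv _ SemidirectProduct.equivProd.symm
  obtain ⟨F, hF⟩ := exists_isRealizedBy ι SemidirectProduct.inl_injective
  have hidx : ι.range.index = Nat.card H := by
    have h1 := ι.range.index_mul_card
    have h2 : Nat.card ι.range = Nat.card S :=
      Nat.card_congr (MonoidHom.ofInjective SemidirectProduct.inl_injective).symm.toEquiv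
    rw [h2, Nat.card_congr SemidirectProduct.equivProd, Nat.card_prod, mul_comm (Nat.card S)] at h1
    exact Nat.eq_of_mul_eq_mul_right Nat.card_pos h1
  have hp' : IsPGroup p ι.range := hS.of_equiv (MonoidHom.ofInjective SemidirectProduct.inl_injective)
  have hnd : ¬ p ∣ ι.range.index := by
    rw [hidx]
    exact hp.out.coprime_iff_not_dvd.1 hH.symm
  refine ⟨F, isSaturated_of_realized hF (T := hp'.toSylow hnd) rfl, fun α hα => ?_⟩
  refine Subgroup.subset_closure ?_
  show S.subtype.comp α.toMonoidHom ∈ F.Hom S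
  refine (hF.2 S le_rfl _ fun x => (α x).2).2 ⟨SemidirectProduct.inr ⟨α, hα⟩, fun x => ?_⟩
  exact (SemidirectProduct.inl_aut (φ := θ) ⟨α, hα⟩ x).trans (by rw [map_inv])

/-- One further step of a chain. -/
theorem exists_step (hS : IsPGroup p S) (hF : F.IsSaturated p) (hnorm : F.IsNormal S)
    (A : Subgroup (MulAut S)) (hgen : F.autGroup S ≤ Inn S ⊔ A) (hAc : IsMulCommutative A)
    (hAe : ∀ a ∈ A, a ^ (p - 1) = 1) (hAF : A ≤ F.autGroup S) {T : Subgroup Ω}
    (hT : F.StronglyClosed T) (hne : T ≠ S) :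
    ∃ U, T < U ∧ Nat.card U ≤ p * Nat.card T ∧ F.StronglyClosed U := by
  haveI := StronglyClosed.normal_in hT
  set T' := T.subgroupOf S with hT'
  have hTle := hT.1
  have hQne : T' ≠ ⊤ := fun e => hne (le_antisymm hTle (Subgroup.subgroupOf_eq_top.1 e))
  haveI : Nontrivial (S ⧸ T') := QuotientGroup.nontrivial_iff.2 hQne
  have hQp : IsPGroup p (S ⧸ T') := hS.to_quotient T'
  let V : Subgroup (Subgroup.center (S ⧸ T')) := (powMonoidHom p :
    Subgroup.center (S ⧸ T') →* Subgroup.center (S ⧸ T')).ker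
  haveI : Nontrivial (Subgroup.center (S ⧸ T')) := hQp.center_nontrivial
  haveI : Nontrivial V := by
    obtain ⟨n, hn⟩ := IsPGroup.iff_card.1 (hQp.to_subgroup (Subgroup.center (S ⧸ T')))
    have hn0 : n ≠ 0 := fun e => by
      rw [e, pow_zero] at hn
      exact Finite.one_lt_card.ne' hn
    obtain ⟨z, hz⟩ := exists_prime_orderOf_dvd_card' (G := Subgroup.center (S ⧸ T')) p
      (hn ▸ dvd_pow_self p hn0)
    refine ⟨⟨⟨z, show z ^ p = 1 by rw [← hz, pow_orderOf_eq_one]⟩, 1, fun e => ?_⟩⟩
    rw [show z = 1 from congrArg Subtype.val e, orderOf_one] at hz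
    exact hp.out.ne_one hz.symm
  have hTinv : ∀ a ∈ F.autGroup S, ∀ x ∈ T', a x ∈ T' := fun a ha x hx =>
    StronglyClosed.aut_apply_mem hT le_rfl ha hx
  -- the action on the quotient
  let act : ↥A →* MulAut (S ⧸ T') :=
    { toFun := fun a =>
        { toFun := QuotientGroup.map T' T' (a : MulAut S).toMonoidHom (hTinv _ (hAF a.2))
          invFun := QuotientGroup.map T' T' ((a : MulAut S)⁻¹ : MulAut S).toMonoidHom
            (hTinv _ ((F.autGroup S).inv_mem (hAF a.2)))
          left_inv := fun z => by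
            obtain ⟨x, rfl⟩ := QuotientGroup.mk_surjective z
            exact congrArg QuotientGroup.mk (MulAut.inv_apply_self _ (a : MulAut S) x)
          right_inv := fun z => by
            obtain ⟨x, rfl⟩ := QuotientGroup.mk_surjective z
            exact congrArg QuotientGroup.mk (MulAut.apply_inv_self _ (a : MulAut S) x)
          map_mul' := map_mul _ }
      map_one' := MulEquiv.ext fun z => by
        obtain ⟨x, rfl⟩ := QuotientGroup.mk_surjective z
        rfl
      map_mul' := fun a b => MulEquiv.ext fun z => by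
        obtain ⟨x, rfl⟩ := QuotientGroup.mk_surjective z
        rfl }
  have hcen : ∀ (a : A) (z : S ⧸ T'), z ∈ Subgroup.center (S ⧸ T') →
      act a z ∈ Subgroup.center (S ⧸ T') := fun a z hz =>
    Subgroup.mem_center_iff.2 fun g => by
      obtain ⟨g, rfl⟩ := (act a).surjective g
      rw [← map_mul, ← map_mul, Subgroup.mem_center_iff.1 hz g]
  have hV : ∀ (a : A) (z : V), ∃ w : V, ((w : Subgroup.center (S ⧸ T')) : S ⧸ T') =
      act a ((z : Subgroup.center (S ⧸ T')) : S ⧸ T') := fun a z =>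
    ⟨⟨⟨_, hcen a _ (z : Subgroup.center (S ⧸ T')).2⟩, Subtype.ext (by
      show (act a _) ^ p = 1
      rw [← map_pow, show ((z : Subgroup.center (S ⧸ T')) : S ⧸ T') ^ p = 1 from
        congrArg Subtype.val (show (z : Subgroup.center (S ⧸ T')) ^ p = 1 from z.2), map_one])⟩, rfl⟩
  choose w hw using hV
  have wext : ∀ {u v : V}, ((u : Subgroup.center (S ⧸ T')) : S ⧸ T') =
      ((v : Subgroup.center (S ⧸ T')) : S ⧸ T') → u = v := fun h => Subtype.ext (Subtype.ext h)
  let res : A →* MulAut V :=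
    { toFun := fun a =>
        { toFun := w a
          invFun := w a⁻¹
          left_inv := fun z => wext (by
            rw [hw, hw, ← MulAut.mul_apply, ← map_mul, inv_mul_cancel, map_one]; rfl)
          right_inv := fun z => wext (by
            rw [hw, hw, ← MulAut.mul_apply, ← map_mul, mul_inv_cancel, map_one]; rfl)
          map_mul' := fun y z => wext (by simp [hw]) }
      map_one' := MulEquiv.ext fun z => wext (by
        show ((w 1 z : Subgroup.center (S ⧸ T')) : S ⧸ T') = _
        rw [hw, map_one]; rfl)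
      map_mul' := fun a b => MulEquiv.ext fun z => wext (by
        show ((w (a * b) z : Subgroup.center (S ⧸ T')) : S ⧸ T') = (w a (w b z) : _)
        rw [hw, hw, hw, map_mul]; rfl) }
  have hrc : IsMulCommutative res.range := ⟨⟨by
    rintro ⟨_, b, rfl⟩ ⟨_, b', rfl⟩
    exact Subtype.ext (by
      show res b * res b' = res b' * res b
      rw [← map_mul, ← map_mul, hAc.is_comm.comm b b'])⟩⟩
  obtain ⟨v, hv1, hv⟩ := FineChain.exists_line (p := p) (Nat.card V) (V := V) rfl
    (fun z => Subtype.ext z.2) res.range hrc (by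
      rintro _ ⟨b, rfl⟩
      rw [← map_pow, show b ^ (p - 1) = 1 from Subtype.ext (hAe b b.2), map_one])
  set y : S ⧸ T' := ((v : Subgroup.center (S ⧸ T')) : S ⧸ T') with hy
  have hyc : y ∈ Subgroup.center (S ⧸ T') := (v : Subgroup.center (S ⧸ T')).2
  have hyp : y ^ p = 1 := congrArg Subtype.val (show (v : Subgroup.center (S ⧸ T')) ^ p = 1 from v.2)
  have hy1 : y ≠ 1 := fun e => hv1 (wext (by rw [← hy, e]; rfl))
  set U' : Subgroup S := (zpowers y).comap (QuotientGroup.mk' T') with hU'
  have hTU : T' ≤ U' := fun x hx => by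
    show QuotientGroup.mk' T' x ∈ zpowers y
    rw [show QuotientGroup.mk' T' x = 1 from (QuotientGroup.eq_one_iff x).2 hx]
    exact one_mem _
  have hAinv : ∀ α ∈ A, ∀ x ∈ U', α x ∈ U' := by
    intro α hα x hx
    obtain ⟨k, hk⟩ : ∃ k : ℤ, y ^ k = QuotientGroup.mk' T' x := hx
    obtain ⟨j, hj⟩ := hv _ ⟨⟨α, hα⟩, rfl⟩
    have hj' : act ⟨α, hα⟩ y = y ^ j := by
      rw [hy, ← hw]
      exact (congrArg (fun u : V => ((u : Subgroup.center (S ⧸ T')) : S ⧸ T')) hj).symm.trans
        (by simp)
    show QuotientGroup.mk' T' (α x) ∈ zpowers y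
    rw [show QuotientGroup.mk' T' (α x) = act ⟨α, hα⟩ (QuotientGroup.mk' T' x) from rfl, ← hk,
      map_zpow, hj']
    exact zpow_mem (zpow_mem (mem_zpowers y) j) k
  have hIinv : ∀ g : S, ∀ x ∈ U', g * x * g⁻¹ ∈ U' := by
    intro g x hx
    obtain ⟨k, hk⟩ : ∃ k : ℤ, y ^ k = QuotientGroup.mk' T' x := hx
    show QuotientGroup.mk' T' (g * x * g⁻¹) ∈ zpowers y
    rw [map_mul, map_mul, ← hk,
      Subgroup.mem_center_iff.1 (zpow_mem hyc k) (QuotientGroup.mk' T' g), map_inv,
      mul_inv_cancel_right]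
    exact zpow_mem (mem_zpowers y) k
  have hinv : ∀ a ∈ F.autGroup S, ∀ x ∈ U', a x ∈ U' := by
    let K : Subgroup (MulAut S) :=
      { carrier := {a | ∀ x, a x ∈ U' ↔ x ∈ U'}
        one_mem' := fun x => Iff.rfl
        mul_mem' := fun {a b} ha hb x => (ha (b x)).trans (hb x)
        inv_mem' := fun {a} ha x => by
          conv_rhs => rw [← MulAut.apply_inv_self _ a x]
          exact (ha _).symm }
    have hA : A ≤ K := fun α hα x => ⟨fun h => by
      have := hAinv _ (A.inv_mem hα) _ h
      rwa [MulAut.inv_apply_self] at this, hAinv α hα x⟩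
    have hI : Inn S ≤ K := by
      rintro _ ⟨g, rfl⟩ x
      refine ⟨fun h => ?_, hIinv g x⟩
      have h2 := hIinv g⁻¹ _ h
      simpa [mul_assoc] using h2
    exact fun a ha x hx => ((sup_le hI hA (hgen ha)) x).2 hx
  refine ⟨U'.map S.subtype, ?_, ?_, ?_⟩
  · refine lt_of_le_of_ne (fun x hx => ⟨⟨x, hTle hx⟩, hTU hx, rfl⟩) fun e => hy1 ?_
    obtain ⟨g, hg⟩ := QuotientGroup.mk'_surjective T' y
    have hgU : g ∈ U' := show QuotientGroup.mk' T' g ∈ zpowers y by rw [hg]; exact mem_zpowers y
    have : (g : Ω) ∈ T := e ▸ Subgroup.mem_map_of_mem S.subtype hgU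
    rw [← hg]
    exact (QuotientGroup.eq_one_iff g).2 this
  · have h2 := Subgroup.relIndex_ker (QuotientGroup.mk' T') (K := U')
    rw [QuotientGroup.ker_mk'] at h2
    rw [Subgroup.card_map_of_injective S.subtype_injective, ← Grp.card_mul_relIndex hTU, h2,
      card_subgroupOf hTle, mul_comm p]
    refine Nat.mul_le_mul_left _ ?_
    rw [hU', Subgroup.map_comap_eq_self_of_surjective (QuotientGroup.mk'_surjective T'),
      Nat.card_zpowers]
    exact Nat.le_of_dvd hp.out.pos (orderOf_dvd_of_pow_eq_one hyp)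
  · refine stronglyClosed_of_forall (Subgroup.map_subtype_le _) fun R hR f hf x hx => ?_
    obtain ⟨g, hg, h1, h2⟩ := (isNormal_iff.1 hnorm).2 R f hf
    obtain ⟨α, hα, e⟩ := (hg.res le_sup_right).exists_aut h2
    obtain ⟨z, hz, hzx⟩ := hR hx
    rw [← h1 x hx, ← e x (hf.source_le hx), show x = ((z : S) : Ω) from hzx.symm, autFun_coe]
    exact Subgroup.mem_map_of_mem _ (hinv α hα z hz)

/-- `S` normal with restricted automorphisms gives a chain with cyclic steps. -/
theorem hasCyclicChain_of (hS : IsPGroup p S) (hF : F.IsSaturated p) (hnorm : F.IsNormal S)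
    (hA : ∀ H : Subgroup (MulAut S), (Nat.card H).Coprime p →
      IsMulCommutative H ∧ ∀ h ∈ H, h ^ (p - 1) = 1) : HasCyclicChain F := by
  obtain ⟨-, R, hR⟩ := fullyAutomized_of_fullyNormalized hS hF (fullyNormalized_self F)
  haveI hIn := inn_subgroupOf_normal F S
  set I := (Inn S).subgroupOf (F.autGroup S) with hI
  have hIcard : ¬ p ∣ I.index := by
    have : I = (R : Subgroup (F.autGroup S)) := by rw [hR, ← inn_eq_autInducedBy]
    rw [this]; exact R.not_dvd_index
  have hIp : IsPGroup p I := IsPGroup.comap_subtype (isPGroup_inn hS)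
  obtain ⟨j, hj⟩ := IsPGroup.iff_card.1 hIp
  obtain ⟨C, hC⟩ := Subgroup.exists_right_complement'_of_coprime (N := I) (by
    rw [hj]; exact Nat.Coprime.pow_left j (hp.out.coprime_iff_not_dvd.2 hIcard))
  set A := C.map (F.autGroup S).subtype with hAdef
  have hAF : A ≤ F.autGroup S := Subgroup.map_subtype_le _
  have hAc : (Nat.card A).Coprime p := by
    rw [hAdef, Subgroup.card_map_of_injective (F.autGroup S).subtype_injective]
    have : Nat.card C = I.index := by
      have h1 := hC.card_mul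
      rw [← I.index_mul_card, mul_comm (Nat.card I)] at h1
      exact Nat.eq_of_mul_eq_mul_right Nat.card_pos h1
    rw [this]; exact (hp.out.coprime_iff_not_dvd.2 hIcard).symm
  obtain ⟨hc, he⟩ := hA A hAc
  have hgen : F.autGroup S ≤ Inn S ⊔ A := fun a ha => by
    obtain ⟨i, hi, c, hc', e⟩ : (⟨a, ha⟩ : F.autGroup S) ∈
        (I : Set (F.autGroup S)) * (C : Set (F.autGroup S)) := by
      rw [hC.mul_eq]; trivial
    rw [show a = (i : MulAut S) * (c : MulAut S) from (congrArg Subtype.val e).symm]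
    exact mul_mem (mem_sup_left hi) (mem_sup_right (Subgroup.mem_map_of_mem _ hc'))
  -- the chain
  suffices ∀ d, ∀ T, F.StronglyClosed T → FineTo F p T → Nat.card S - Nat.card T = d →
      FineTo F p S by
    have hb : F.StronglyClosed ⊥ := stronglyClosed_of_forall bot_le fun R hR f hf x hx => by
      rw [Subgroup.mem_bot, show x = 1 from Subgroup.mem_bot.1 (hR hx)]
      exact hf.map_one
    obtain ⟨n, Qs, h0, hn, hstep⟩ := this _ ⊥ hb fineTo_bot rfl
    refine ⟨n, fun i => Qs i, h0, hn, fun i => ?_, fun i => ?_⟩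
    · rcases i with ⟨_ | i, hi⟩
      · show F.StronglyClosed (Qs 0)
        rw [h0]; exact hb
      · exact (hstep i (by omega)).2.2
    · obtain ⟨hle, hcard, hcl⟩ := hstep i i.2
      refine ⟨hle, ?_⟩
      show ∃ x ∈ S, Qs (i + 1) = Qs i ⊔ zpowers x
      by_cases heq : Qs i = Qs (i + 1)
      · exact ⟨1, S.one_mem, by rw [zpowers_one_eq_bot, sup_bot_eq, heq]⟩
      · obtain ⟨x, hx, hxn⟩ := (SetLike.lt_iff_le_and_exists.1 (lt_of_le_of_ne hle heq)).2
        refine ⟨x, hcl.1 hx, ?_⟩
        haveI : Finite (Qs (i + 1)) := finite_of_le hcl.1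
        refine (Subgroup.eq_of_le_of_card_ge (sup_le hle (zpowers_le.2 hx)) ?_).symm
        haveI : Finite ↥(Qs i) := finite_of_le (hle.trans hcl.1)
        haveI : Finite ↥(Qs i ⊔ zpowers x) :=
          finite_of_le (S := S) (sup_le (hle.trans hcl.1) (zpowers_le.2 (hcl.1 hx)))
        have hlt : Nat.card (Qs i) < Nat.card ↥(Qs i ⊔ zpowers x) :=
          card_lt_of_lt (left_lt_sup.2 fun h => hxn (h (mem_zpowers x)))
        obtain ⟨a, ha⟩ := IsPGroup.iff_card.1 (hS.to_le (hle.trans hcl.1))
        obtain ⟨b, hb'⟩ := IsPGroup.iff_card.1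
          (hS.to_le (sup_le (hle.trans hcl.1) (zpowers_le.2 (hcl.1 hx))) : IsPGroup p ↥(Qs i ⊔ zpowers x))
        rw [ha] at hcard hlt
        rw [hb'] at hlt ⊢
        have hab := (Nat.pow_lt_pow_iff_right hp.out.one_lt).1 hlt
        exact hcard.trans (by
          rw [← pow_succ']; exact Nat.pow_le_pow_right hp.out.pos hab)
  intro d
  induction d using Nat.strong_induction_on with
  | _ d ih =>
  intro T hT hfine hd
  by_cases hne : T = S
  · exact hne ▸ hfine
  obtain ⟨U, hlt, hcard, hU⟩ := exists_step hS hF hnorm A hgen hc he hAF hT hne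
  haveI := finite_of_le hU.1
  have h1 := card_lt_of_lt hlt
  have h2 := Subgroup.card_le_of_le hU.1
  exact ih (Nat.card S - Nat.card U) (by omega) U hU (hfine.step hlt.le hcard hU) rfl

/-- The characterization of supersoluble type. -/
theorem supersoluble_iff (hS : IsPGroup p S) :
    (∀ F : FusionSystem S, F.IsSaturated p → HasCyclicChain F) ↔
      (∀ F : FusionSystem S, F.IsSaturated p → F.IsNormal S) ∧
        ∀ H : Subgroup (MulAut S), (Nat.card H).Coprime p →
          IsMulCommutative H ∧ ∀ h ∈ H, h ^ (p - 1) = 1 := by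
  constructor
  · intro h
    refine ⟨fun F hF => isNormal_of_fineTo hS hF (fineTo_of_cyclicChain hS (h F hF)), fun H hH => ?_⟩
    obtain ⟨F, hF, hHF⟩ := exists_saturated_with_aut hS H hH
    exact abelian_exp_of_fineTo hS (fineTo_of_cyclicChain hS (h F hF)) H hH hHF
  · rintro ⟨hn, hA⟩ F hF
    exact hasCyclicChain_of hS hF (hn F hF) hA

end Cfsg.Agent.Fus
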