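import Mathlib
import Cfsg.Prelude.Def_CaseTheorems
import Cfsg.Agent.Lib.Fus.Supersoluble
import Cfsg.Agent.Lib.Invol.QuasiDihedral

/-!
Dihedral, semidihedral and quaternion groups carry saturated systems in which they are not normal:
Sylow 2-subgroups of `PGL(2, q)`, `GL(2, q)` and `SL(2, q)` for `q ≡ 3 mod 4`.
-/

set_option autoImplicit false
set_option linter.unusedSectionVars false
set_option linter.style.haveILetI false

open scoped Classical

universe u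

namespace Cfsg.Agent.Fus.NonSuper

open Subgroup

section General

/-- A homomorphism between groups with a cyclic subgroup of index two given by the same relations. -/
theorem exists_hom_index_two {S G : Type*} [Group S] [Group G] {x y : S} {X Y : G} {a m : ℤ}
    (hord : orderOf x = orderOf X) (hc : y * x * y⁻¹ = x ^ a) (hC : Y * X * Y⁻¹ = X ^ a)
    (hsq : y * y = x ^ m) (hSQ : Y * Y = X ^ m) (hy : y ∉ zpowers x) (hY : Y ∉ zpowers X)
    (hall : ∀ s : S, ∃ i : ℤ, s = x ^ i ∨ s = x ^ i * y) :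
    ∃ φ : S →* G, Function.Injective φ ∧ φ x = X ∧ φ y = Y := by
  have hiff : ∀ i j : ℤ, x ^ i = x ^ j ↔ X ^ i = X ^ j := fun i j => by
    rw [zpow_eq_zpow_iff_modEq, zpow_eq_zpow_iff_modEq, hord]
  let R : S → G → Prop := fun s g => ∃ i : ℤ, (s = x ^ i ∧ g = X ^ i) ∨ (s = x ^ i * y ∧ g = X ^ i * Y)
  have hex : ∀ s, ∃ g, R s g := fun s => by
    obtain ⟨i, h | h⟩ := hall s
    · exact ⟨_, i, Or.inl ⟨h, rfl⟩⟩
    · exact ⟨_, i, Or.inr ⟨h, rfl⟩⟩
  have hdist : ∀ i j : ℤ, x ^ i ≠ x ^ j * y := fun i j h => hy (by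
    rw [show y = x ^ (-j) * x ^ i by rw [h]; group]
    exact mul_mem (zpow_mem (mem_zpowers x) _) (zpow_mem (mem_zpowers x) _))
  have huniq : ∀ s g g', R s g → R s g' → g = g' := by
    rintro s g g' ⟨i, ⟨h1, rfl⟩ | ⟨h1, rfl⟩⟩ ⟨j, ⟨h2, rfl⟩ | ⟨h2, rfl⟩⟩
    · exact (hiff i j).1 (h1.symm.trans h2)
    · exact absurd (h1.symm.trans h2) (hdist i j)
    · exact absurd (h2.symm.trans h1) (hdist j i)
    · rw [(hiff i j).1 (mul_right_cancel (h1.symm.trans h2))]
  have hpush : ∀ {K : Type _} [Group K] (X Y : K), Y * X * Y⁻¹ = X ^ a → ∀ j : ℤ,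
      Y * X ^ j = X ^ (a * j) * Y := fun X Y h j => by
    have := (MulAut.conj Y).toMonoidHom.map_zpow X j
    simp only [MulEquiv.coe_toMonoidHom, MulAut.conj_apply, h, ← zpow_mul] at this
    rw [← this, inv_mul_cancel_right]
  have hpS := fun j => hpush x y hc j
  have hpG : ∀ j : ℤ, Y * X ^ j = X ^ (a * j) * Y := fun j => by
    have := (MulAut.conj Y).toMonoidHom.map_zpow X j
    simp only [MulEquiv.coe_toMonoidHom, MulAut.conj_apply, hC, ← zpow_mul] at this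
    rw [← this, inv_mul_cancel_right]
  have hmul : ∀ s s' g g', R s g → R s' g' → R (s * s') (g * g') := by
    rintro s s' g g' ⟨i, ⟨rfl, rfl⟩ | ⟨rfl, rfl⟩⟩ ⟨j, ⟨rfl, rfl⟩ | ⟨rfl, rfl⟩⟩
    · exact ⟨i + j, Or.inl ⟨(zpow_add _ _ _).symm, (zpow_add _ _ _).symm⟩⟩
    · exact ⟨i + j, Or.inr ⟨by rw [zpow_add, mul_assoc], by rw [zpow_add, mul_assoc]⟩⟩
    · exact ⟨i + a * j, Or.inr ⟨by rw [mul_assoc, hpS, zpow_add, mul_assoc],
        by rw [mul_assoc, hpG, zpow_add, mul_assoc]⟩⟩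
    · exact ⟨i + a * j + m, Or.inl
        ⟨by rw [mul_assoc, ← mul_assoc y, hpS, mul_assoc, hsq, ← mul_assoc, ← zpow_add, ← zpow_add],
          by rw [mul_assoc, ← mul_assoc Y, hpG, mul_assoc, hSQ, ← mul_assoc, ← zpow_add, ← zpow_add]⟩⟩
  choose f hf using hex
  let φ : S →* G := MonoidHom.mk' f fun s s' =>
    huniq _ _ _ (hf _) (hmul _ _ _ _ (hf s) (hf s'))
  have hval : ∀ s g, R s g → φ s = g := fun s g h => huniq _ _ _ (hf s) h
  refine ⟨φ, (injective_iff_map_eq_one φ).2 fun s hs => ?_,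
    hval x X ⟨1, Or.inl ⟨(zpow_one _).symm, (zpow_one _).symm⟩⟩,
    hval y Y ⟨0, Or.inr ⟨by simp, by simp⟩⟩⟩
  obtain ⟨i, ⟨h1, h2⟩ | ⟨h1, h2⟩⟩ := hf s
  · have h3 : X ^ i = X ^ (0 : ℤ) := by rw [zpow_zero]; exact h2.symm.trans hs
    rw [h1, (hiff i 0).2 h3, zpow_zero]
  · refine absurd ?_ hY
    have h3 : X ^ i * Y = 1 := h2.symm.trans hs
    rw [eq_inv_of_mul_eq_one_right h3]
    exact inv_mem (zpow_mem (mem_zpowers X) i)

variable {Ω : Type u} [Group Ω] {S : Subgroup Ω} [Finite S] {p : ℕ} [hp : Fact p.Prime]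

/-- Conjugate elements on both sides of an invariant subgroup exclude supersoluble type. -/
theorem false_of_realized {G : Type*} [Group G] [Finite G] (hS : IsPGroup p S) (ι : S →* G)
    (hι : Function.Injective ι) (hidx : ¬ p ∣ ι.range.index) (C : Subgroup S)
    (hC : ∀ α : MulAut S, ∀ s ∈ C, α s ∈ C) {u v : S} (hu : u ∈ C) (hv : v ∉ C)
    (hconj : ∃ g : G, g * ι u * g⁻¹ = ι v)
    (h : ∀ F : FusionSystem S, F.IsSaturated p → HasCyclicChain F) : False := by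
  obtain ⟨F, hF⟩ := exists_isRealizedBy ι hι
  have hsat := isSaturated_of_realized hF
    (T := (hS.of_equiv (MonoidHom.ofInjective hι)).toSylow hidx) rfl
  have hn := ((supersoluble_iff hS).1 h).1 F hsat
  obtain ⟨g, hg⟩ := hconj
  set P := zpowers (u : Ω) with hP
  have hPS : P ≤ S := zpowers_le.2 u.2
  have hmem : ∀ x : P, ∃ k : ℤ, (⟨x, hPS x.2⟩ : S) = u ^ k := fun x => by
    obtain ⟨k, hk⟩ := x.2
    exact ⟨k, Subtype.ext (by simp [← hk])⟩
  have himg : ∀ x : P, g * ι ⟨x, hPS x.2⟩ * g⁻¹ ∈ ι.range := fun x => by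
    obtain ⟨k, hk⟩ := hmem x
    exact ⟨v ^ k, by rw [hk, map_zpow, map_zpow, ← conj_zpow, hg]⟩
  let e := MonoidHom.ofInjective hι
  let φ : P →* Ω := MonoidHom.mk' (fun x => ((e.symm ⟨_, himg x⟩ : S) : Ω)) fun a b => by
    rw [← Subgroup.coe_mul, ← map_mul]
    refine congrArg (fun r : ι.range => ((e.symm r : S) : Ω)) (Subtype.ext ?_)
    show g * ι (⟨a, hPS a.2⟩ * ⟨b, hPS b.2⟩) * g⁻¹ = _
    rw [map_mul]
    simp [mul_assoc]
  have hφS : ∀ x, φ x ∈ S := fun x => (e.symm ⟨_, himg x⟩).2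
  have hφ : φ ∈ F.Hom P := (hF.2 P hPS φ hφS).2 ⟨g, fun x => by
    have := congrArg Subtype.val (e.apply_symm_apply ⟨_, himg x⟩)
    exact this⟩
  obtain ⟨f, hf, h1, h2⟩ := (isNormal_iff.1 hn).2 P (toFun φ) (isMap_toFun hφ)
  obtain ⟨α, -, hα⟩ := (hf.res le_sup_right).exists_aut h2
  have e1 : ((α u : S) : Ω) = φ ⟨u, mem_zpowers _⟩ := by
    rw [← autFun_coe α u, hα _ u.2, h1 _ (mem_zpowers _), toFun_apply _ (mem_zpowers _)]
  refine hv ?_
  have : α u = v := hι (by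
    have e2 : α u = e.symm ⟨_, himg ⟨u, mem_zpowers _⟩⟩ := Subtype.ext e1
    rw [e2]
    exact (congrArg Subtype.val (e.apply_symm_apply ⟨_, himg ⟨u, mem_zpowers _⟩⟩)).trans hg)
  exact this ▸ hC α u hu

end General

section Concrete

open Matrix

/-- The matrices generating a semidihedral Sylow 2-subgroup of `GL(2, q)`. -/
theorem exists_matrices (n : ℕ) (hn : 3 ≤ n) : ∃ (q : ℕ) (_ : Fact q.Prime)
    (X Y : GL (Fin 2) (ZMod q)),
    q % 4 = 3 ∧ orderOf X = 2 ^ n ∧ Y * Y = 1 ∧ Y * X * Y⁻¹ = X ^ ((2 : ℤ) ^ (n - 1) - 1) ∧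
      Y ∉ zpowers X ∧
      ((X ^ 2 ^ (n - 1) : GL (Fin 2) (ZMod q)) : Matrix (Fin 2) (Fin 2) (ZMod q)) = -1 ∧
      (X : Matrix (Fin 2) (Fin 2) (ZMod q)).det = -1 ∧
      (Y : Matrix (Fin 2) (Fin 2) (ZMod q)).det = -1 ∧
      (∃ r, ¬ 2 ∣ r ∧ Nat.card (GL (Fin 2) (ZMod q)) = 2 ^ (n + 1) * r) ∧
      ∃ r, ¬ 2 ∣ r ∧ Nat.card (Matrix.GeneralLinearGroup.det :
        GL (Fin 2) (ZMod q) →* (ZMod q)ˣ).ker = 2 ^ n * r := by
  obtain ⟨w, hw⟩ : ∃ w, 2 ^ (n - 1) = 4 * w := by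
    refine ⟨2 ^ (n - 3), ?_⟩
    rw [show n - 1 = (n - 3) + 2 by omega, pow_add]; ring
  have hw2 : 2 ^ n = 8 * w := by
    rw [show n = n - 1 + 1 by omega, pow_succ, hw]; ring
  have hwpos : 0 < w := by
    rcases Nat.eq_zero_or_pos w with h | h
    · rw [h, mul_zero] at hw; exact absurd hw (pow_pos two_pos _).ne'
    · exact h
  obtain ⟨q, hq1, hq, hqmod⟩ := Nat.forall_exists_prime_gt_and_modEq 3
    (q := 2 ^ n) (a := 4 * w - 1) (pow_pos two_pos n).ne' (by
      refine (Nat.Coprime.pow_right n ?_)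
      rw [Nat.coprime_two_right, Nat.odd_iff]
      omega)
  have hqdiv : q % (8 * w) = 4 * w - 1 := by
    have h := hqmod
    rw [Nat.ModEq, hw2, Nat.mod_eq_of_lt (show 4 * w - 1 < 8 * w by omega)] at h
    exact h
  obtain ⟨s, hs⟩ : ∃ s, q + 1 = 4 * w * (2 * s + 1) := ⟨q / (8 * w), by
    have := Nat.div_add_mod q (8 * w)
    rw [hqdiv] at this
    have h4 : 4 * w * (2 * (q / (8 * w)) + 1) = 8 * w * (q / (8 * w)) + 4 * w := by ring
    omega⟩
  have hq4 : q % 4 = 3 := by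
    have : (q + 1) % 4 = 0 := by rw [hs, mul_assoc, Nat.mul_mod_right]
    omega
  haveI hqf : Fact q.Prime := ⟨hq⟩
  refine ⟨q, hqf, ?_⟩
  -- a root of unity in the quadratic extension
  set L := GaloisField q 2 with hL
  haveI : Fintype L := Fintype.ofFinite L
  have hLcard : Nat.card L = q ^ 2 := GaloisField.card q 2 two_ne_zero
  obtain ⟨ζ, hζ⟩ : ∃ ζ : Lˣ, orderOf ζ = 2 ^ n := by
    obtain ⟨g, hg⟩ := IsCyclic.exists_generator (α := Lˣ)
    have hgo : orderOf g = q ^ 2 - 1 := by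
      rw [orderOf_eq_card_of_forall_mem_zpowers hg, Nat.card_units, hLcard]
    obtain ⟨z, hz⟩ : 2 ^ n ∣ q ^ 2 - 1 := by
      rw [show q ^ 2 - 1 = (q + 1) * (q - 1) by rw [← Nat.sq_sub_sq, one_pow], hs, hw2]
      obtain ⟨t, ht⟩ : ∃ t, q - 1 = 2 * t := ⟨(q - 1) / 2, by omega⟩
      exact ⟨(2 * s + 1) * t, by rw [ht]; ring⟩
    refine ⟨g ^ z, ?_⟩
    have hz0 : z ≠ 0 := by
      rintro rfl
      have := orderOf_pos g
      rw [hgo, hz, mul_zero] at this
      omega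
    rw [orderOf_pow_of_dvd hz0 (by rw [hgo, hz]; exact dvd_mul_left z _), hgo, hz,
      Nat.mul_div_cancel _ (Nat.pos_of_ne_zero hz0)]
  set ξ : L := (ζ : L) with hξ
  have hξord : orderOf ξ = 2 ^ n := by rw [hξ, orderOf_units, hζ]
  have hξ0 : ξ ≠ 0 := ζ.ne_zero
  have hhalf : ξ ^ 2 ^ (n - 1) = -1 := by
    have h2 : (ξ ^ 2 ^ (n - 1)) ^ 2 = 1 := by
      rw [← pow_mul, ← pow_succ, show n - 1 + 1 = n by omega, ← hξord, pow_orderOf_eq_one]
    rcases sq_eq_one_iff.1 h2 with h | h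
    · exfalso
      have := Nat.le_of_dvd (pow_pos two_pos _) (hξord ▸ orderOf_dvd_of_pow_eq_one h)
      rw [hw, hw2] at this
      omega
    · exact h
  have hq1' : ξ ^ q * ξ = -1 := by
    rw [← pow_succ, hs, ← hw, pow_mul, hhalf, Odd.neg_one_pow ⟨s, rfl⟩]
  have hξq : ξ ^ q = -ξ⁻¹ := by
    rw [eq_comm, ← mul_left_inj' hξ0, hq1', neg_mul, inv_mul_cancel₀ hξ0]
  -- the trace
  obtain ⟨t, ht⟩ : ∃ t : ZMod q, algebraMap (ZMod q) L t = ξ - ξ⁻¹ := by
    have hfix : (ξ - ξ⁻¹) ^ Nat.card (ZMod q) = ξ - ξ⁻¹ := by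
      rw [Nat.card_zmod, sub_pow_char, hξq, inv_pow, hξq, inv_neg, inv_inv]
      ring
    have hb : (ξ - ξ⁻¹) ∈ (⊥ : Subfield L) := by
      rw [Subfield.mem_bot_iff_pow_eq_self L q]
      rwa [Nat.card_zmod] at hfix
    have hle : (⊥ : Subfield L) ≤ (algebraMap (ZMod q) L).fieldRange := bot_le
    exact hle hb
  have hsq : ξ * ξ = algebraMap (ZMod q) L t * ξ + 1 := by
    rw [ht, sub_mul, inv_mul_cancel₀ hξ0]; ring
  let Xm : Matrix (Fin 2) (Fin 2) (ZMod q) := !![0, 1; 1, t]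
  let Ym : Matrix (Fin 2) (Fin 2) (ZMod q) := !![1, t; 0, -1]
  have hXd : Xm.det = -1 := by simp [Xm, Matrix.det_fin_two]
  have hYd : Ym.det = -1 := by simp [Ym, Matrix.det_fin_two]
  let X : GL (Fin 2) (ZMod q) := Matrix.GeneralLinearGroup.mkOfDetNeZero Xm (by rw [hXd]; simp)
  let Y : GL (Fin 2) (ZMod q) := Matrix.GeneralLinearGroup.mkOfDetNeZero Ym (by rw [hYd]; simp)
  have hXm : (X : Matrix (Fin 2) (Fin 2) (ZMod q)) = Xm := rfl
  have hYm : (Y : Matrix (Fin 2) (Fin 2) (ZMod q)) = Ym := rfl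
  -- powers follow the root
  have hcoef : ∀ k : ℕ, ∃ u v : ZMod q, Xm ^ k = !![u, v; v, u + t * v] ∧
      ξ ^ k = algebraMap (ZMod q) L u + algebraMap (ZMod q) L v * ξ := by
    intro k
    induction k with
    | zero =>
      refine ⟨1, 0, ?_, by simp⟩
      ext i j; fin_cases i <;> fin_cases j <;> simp
    | succ k ih =>
      obtain ⟨u, v, h1, h2⟩ := ih
      refine ⟨v, u + t * v, ?_, ?_⟩
      · rw [pow_succ, h1]
        ext i j; fin_cases i <;> fin_cases j <;>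
          simp [Xm, Matrix.mul_apply, Fin.sum_univ_two] <;> ring
      · rw [pow_succ, h2, add_mul, mul_assoc, hsq, map_add, map_mul]; ring
  have hξnot : ∀ c : ZMod q, algebraMap (ZMod q) L c ≠ ξ := by
    intro c hc
    have h1 : ξ ^ (q - 1) = 1 := by
      rw [← hc, ← map_pow, ZMod.pow_card_sub_one_eq_one (fun e => hξ0 (by rw [← hc, e, map_zero])),
        map_one]
    have h3 := orderOf_dvd_of_pow_eq_one h1
    rw [hξord, hw2] at h3
    have h4 : 4 ∣ q - 1 := Dvd.dvd.trans ⟨2 * w, by ring⟩ h3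
    omega
  have hind : ∀ u v c : ZMod q,
      algebraMap (ZMod q) L u + algebraMap (ZMod q) L v * ξ = algebraMap (ZMod q) L c →
        u = c ∧ v = 0 := by
    intro u v c h
    have hv : v = 0 := by
      by_contra hv
      refine hξnot ((c - u) * v⁻¹) ?_
      have hv' : algebraMap (ZMod q) L v ≠ 0 := (map_ne_zero _).2 hv
      rw [map_mul, map_sub, map_inv₀, ← h, add_sub_cancel_left,
        mul_comm (algebraMap (ZMod q) L v), mul_assoc, mul_inv_cancel₀ hv', mul_one]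
    refine ⟨(algebraMap (ZMod q) L).injective ?_, hv⟩
    rwa [hv, map_zero, zero_mul, add_zero] at h
  have hXk : ∀ (k : ℕ) (c : ZMod q), ξ ^ k = algebraMap (ZMod q) L c → Xm ^ k = !![c, 0; 0, c] := by
    intro k c hk
    obtain ⟨u, v, h1, h2⟩ := hcoef k
    obtain ⟨rfl, rfl⟩ := hind u v c (h2.symm.trans hk)
    rw [h1, mul_zero, add_zero]
  have hXord : orderOf X = 2 ^ n := by
    rw [← orderOf_units, hXm, ← hξord]
    refine orderOf_eq_orderOf_iff.2 fun k => ⟨fun h => ?_, fun h => ?_⟩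
    · obtain ⟨u, v, h1, h2⟩ := hcoef k
      rw [h] at h1
      have e00 := congrFun (congrFun h1 0) 0
      have e01 := congrFun (congrFun h1 0) 1
      simp at e00 e01
      rw [h2, ← e00, ← e01]
      simp
    · rw [hXk k 1 (by rw [h, map_one])]
      exact Matrix.one_fin_two.symm
  have hXneg : ((X ^ 2 ^ (n - 1) : GL (Fin 2) (ZMod q)) : Matrix (Fin 2) (Fin 2) (ZMod q)) = -1 := by
    rw [Units.val_pow_eq_pow_val, hXm, hXk _ (-1) (by rw [hhalf, map_neg, map_one])]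
    ext i j; fin_cases i <;> fin_cases j <;> simp
  have h2ne : (2 : ZMod q) ≠ 0 := by
    intro e
    have h : ((2 : ℕ) : ZMod q) = 0 := by exact_mod_cast e
    have := Nat.le_of_dvd two_pos ((ZMod.natCast_eq_zero_iff 2 q).1 h)
    omega
  refine ⟨X, Y, hq4, hXord, Units.ext ?_, ?_, ?_, hXneg, by rw [hXm, hXd], by rw [hYm, hYd], ?_, ?_⟩
  · show Ym * Ym = 1
    ext i j; fin_cases i <;> fin_cases j <;> simp [Ym, Matrix.mul_apply, Fin.sum_univ_two]
  · rw [_root_.zpow_sub_one, show (2 : ℤ) ^ (n - 1) = ((2 ^ (n - 1) : ℕ) : ℤ) by push_cast; rfl,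
      zpow_natCast, mul_inv_eq_iff_eq_mul, ← mul_inv_eq_iff_eq_mul, ← mul_inv_eq_iff_eq_mul]
    refine Units.ext ?_
    simp only [inv_inv, Units.val_mul, Matrix.coe_units_inv, hXm, hYm, hXneg]
    rw [Matrix.inv_def, hYd, show Ring.inverse (-1 : ZMod q) = -1 by simp]
    ext i j; fin_cases i <;> fin_cases j <;>
      simp [Xm, Ym, Matrix.adjugate_fin_two, Matrix.mul_apply, Fin.sum_univ_two] <;> ring
  · intro hm
    obtain ⟨k, hk⟩ := hm
    have hcomm : Y * X = X * Y := by rw [← hk]; exact (Commute.refl X).zpow_left k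
    have := congrFun (congrFun (congrArg (fun g : GL (Fin 2) (ZMod q) =>
      (g : Matrix (Fin 2) (Fin 2) (ZMod q))) hcomm) 1) 0
    simp [hXm, hYm, Xm, Ym, Matrix.mul_apply, Fin.sum_univ_two] at this
    exact h2ne (by linear_combination -this)
  · obtain ⟨r', hr'⟩ : ∃ r', q - 1 = 2 * r' := ⟨(q - 1) / 2, by omega⟩
    refine ⟨q * (r' * r') * (2 * s + 1), fun hd => ?_, ?_⟩
    · rcases Nat.prime_two.dvd_mul.1 hd with h | h
      · rcases Nat.prime_two.dvd_mul.1 h with h | h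
        · omega
        · rcases Nat.prime_two.dvd_mul.1 h with h | h <;> omega
      · omega
    · rw [Matrix.card_GL_field]
      simp only [Fin.prod_univ_two, ZMod.card, Fin.val_zero, pow_zero, Fin.val_one, pow_one]
      rw [show q ^ 2 - 1 = (q + 1) * (q - 1) by rw [← Nat.sq_sub_sq, one_pow],
        show q ^ 2 - q = q * (q - 1) by rw [Nat.mul_sub, mul_one, sq], hs, hr', pow_succ, hw2]
      ring
  · obtain ⟨r', hr'⟩ : ∃ r', q - 1 = 2 * r' := ⟨(q - 1) / 2, by omega⟩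
    refine ⟨q * r' * (2 * s + 1), fun hd => ?_, ?_⟩
    · rcases Nat.prime_two.dvd_mul.1 hd with h | h
      · rcases Nat.prime_two.dvd_mul.1 h with h | h <;> omega
      · omega
    · set d := (Matrix.GeneralLinearGroup.det : GL (Fin 2) (ZMod q) →* (ZMod q)ˣ)
      have hsurj : d.range = ⊤ := MonoidHom.range_eq_top.2 fun c =>
        ⟨Matrix.GeneralLinearGroup.mkOfDetNeZero !![(c : ZMod q), 0; 0, 1]
          (by simp [Matrix.det_fin_two]), Units.ext (by simp [d, Matrix.det_fin_two])⟩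
      have h := d.ker.card_mul_index
      rw [Subgroup.index_ker, hsurj, Subgroup.card_top, Nat.card_units, Nat.card_zmod,
        Matrix.card_GL_field] at h
      simp only [Fin.prod_univ_two, ZMod.card, Fin.val_zero, pow_zero, Fin.val_one, pow_one] at h
      rw [show q ^ 2 - 1 = (q + 1) * (q - 1) by rw [← Nat.sq_sub_sq, one_pow],
        show q ^ 2 - q = q * (q - 1) by rw [Nat.mul_sub, mul_one, sq], hs, hr'] at h
      have hr0 : 0 < 2 * r' := by omega
      refine Nat.eq_of_mul_eq_mul_right hr0 (h.trans ?_)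
      rw [hw2]; ring

variable {q : ℕ} [hq : Fact q.Prime]

/-- Elements squaring to `-1` are conjugate, by a matrix of prescribed determinant. -/
theorem exists_conj_sq_neg (h4 : q % 4 = 3) {A B : GL (Fin 2) (ZMod q)}
    (hA : ((A * A : GL (Fin 2) (ZMod q)) : Matrix (Fin 2) (Fin 2) (ZMod q)) = -1)
    (hB : ((B * B : GL (Fin 2) (ZMod q)) : Matrix (Fin 2) (Fin 2) (ZMod q)) = -1) :
    ∃ g : GL (Fin 2) (ZMod q),
      (g : Matrix (Fin 2) (Fin 2) (ZMod q)).det = 1 ∧ g * A * g⁻¹ = B := by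
  let W : Matrix (Fin 2) (Fin 2) (ZMod q) := !![0, -1; 1, 0]
  have key : ∀ A : GL (Fin 2) (ZMod q),
      ((A * A : GL (Fin 2) (ZMod q)) : Matrix (Fin 2) (Fin 2) (ZMod q)) = -1 →
      ∃ P : Matrix (Fin 2) (Fin 2) (ZMod q), P.det = 1 ∧
        (A : Matrix (Fin 2) (Fin 2) (ZMod q)) * P = P * W := by
    intro A hA
    rw [Units.val_mul] at hA
    set M := (A : Matrix (Fin 2) (Fin 2) (ZMod q)) with hM
    have e00 := congrFun (congrFun hA 0) 0
    have e10 := congrFun (congrFun hA 1) 0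
    simp [Matrix.mul_apply, Fin.sum_univ_two] at e00 e10
    have hc : M 1 0 ≠ 0 := by
      intro hz
      rw [hz, mul_zero, add_zero] at e00
      exact ZMod.mod_four_ne_three_of_sq_eq_neg_one (y := M 0 0) (by rw [sq, e00]) h4
    obtain ⟨a, b, hab⟩ := ZMod.sq_add_sq q (M 1 0)⁻¹
    let P₀ : Matrix (Fin 2) (Fin 2) (ZMod q) := !![1, M 0 0; 0, M 1 0]
    let C : Matrix (Fin 2) (Fin 2) (ZMod q) := !![a, -b; b, a]
    refine ⟨P₀ * C, ?_, ?_⟩
    · rw [Matrix.det_mul]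
      simp [P₀, C, Matrix.det_fin_two]
      rw [show a * a + b * b = (M 1 0)⁻¹ by rw [← hab]; ring, mul_inv_cancel₀ hc]
    · rw [← Matrix.mul_assoc]
      have h0 : M * P₀ = P₀ * W := by
        ext i j; fin_cases i <;> fin_cases j <;>
          simp [P₀, W, Matrix.mul_apply, Fin.sum_univ_two] <;>
          first | linear_combination e00 | linear_combination e10
      have h1 : W * C = C * W := by
        ext i j; fin_cases i <;> fin_cases j <;> simp [C, W, Matrix.mul_apply, Fin.sum_univ_two]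
      rw [h0, Matrix.mul_assoc, h1, Matrix.mul_assoc]
  obtain ⟨P, hP, hPA⟩ := key A hA
  obtain ⟨R, hR, hRB⟩ := key B hB
  let P' := Matrix.GeneralLinearGroup.mkOfDetNeZero P (by rw [hP]; exact one_ne_zero)
  let R' := Matrix.GeneralLinearGroup.mkOfDetNeZero R (by rw [hR]; exact one_ne_zero)
  have hP' : (P' : Matrix (Fin 2) (Fin 2) (ZMod q)) = P := rfl
  have hR' : (R' : Matrix (Fin 2) (Fin 2) (ZMod q)) = R := rfl
  refine ⟨R' * P'⁻¹, ?_, ?_⟩
  · rw [Units.val_mul, Matrix.det_mul, Matrix.coe_units_inv, hR', hP', Matrix.det_nonsing_inv, hR,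
      hP]
    simp
  · let W' := Matrix.GeneralLinearGroup.mkOfDetNeZero W (by simp [W, Matrix.det_fin_two])
    have hA' : A * P' = P' * W' := Units.ext hPA
    have hB' : B * R' = R' * W' := Units.ext hRB
    calc R' * P'⁻¹ * A * (R' * P'⁻¹)⁻¹ = R' * (P'⁻¹ * (A * P')) * R'⁻¹ := by group
      _ = B := by rw [hA', inv_mul_cancel_left, ← hB', mul_inv_cancel_right]

end Concrete

end Cfsg.Agent.Fus.NonSuper
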