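import Mathlib
import Cfsg.Agent.Lib.Fus.NonSupersoluble

/-!
Dihedral, semidihedral and quaternion 2-groups are not of supersoluble type.
-/

set_option autoImplicit false
set_option linter.unusedSectionVars false
set_option linter.style.haveILetI false

open scoped Classical

universe u

namespace Cfsg.Agent.Fus.NonSuper

open Subgroup

/-- A subgroup generated by an element of largest order is invariant under all automorphisms. -/
theorem zpowers_invariant {T : Type*} [Group T] {x : T}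
    (h : ∀ t : T, orderOf t = orderOf x → t ∈ zpowers x) :
    ∀ α : MulAut T, ∀ s ∈ zpowers x, α s ∈ zpowers x := by
  rintro α s ⟨i, rfl⟩
  show α (x ^ i) ∈ _
  rw [map_zpow]
  exact zpow_mem (h (α x) (MulEquiv.orderOf_eq α x)) i

theorem odd_index_range {G T : Type*} [Group G] [Finite G] [Group T] (φ : T →* G)
    (hφ : Function.Injective φ) {m r : ℕ} (hT : Nat.card T = 2 ^ m) (hr : ¬ 2 ∣ r)
    (hG : Nat.card G = 2 ^ m * r) : ¬ 2 ∣ φ.range.index := by
  have h := φ.range.card_mul_index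
  rw [← Nat.card_congr (MonoidHom.ofInjective hφ).toEquiv, hT, hG] at h
  rwa [Nat.eq_of_mul_eq_mul_left (pow_pos two_pos m) h]

/-- Cyclic permutation of the three cyclic subgroups of order four of `Q₈`. -/
def q8Perm : QuaternionGroup 2 → QuaternionGroup 2 := fun z => match z with
  | .a i => ![.a 0, .xa 0, .a 2, .xa 2] i
  | .xa i => ![.xa 1, .a 1, .xa 3, .a 3] i

theorem q8Perm_mul : ∀ y z : QuaternionGroup 2, q8Perm (y * z) = q8Perm y * q8Perm z := by decide

theorem q8Perm_three : ∀ z : QuaternionGroup 2, q8Perm (q8Perm (q8Perm z)) = z := by decide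

theorem exists_q8_aut_three : ∃ ω : MulAut (QuaternionGroup 2), ω ^ 3 = 1 ∧ ω ≠ 1 := by
  let ω : MulAut (QuaternionGroup 2) :=
    { toFun := q8Perm
      invFun := fun z => q8Perm (q8Perm z)
      left_inv := q8Perm_three
      right_inv := q8Perm_three
      map_mul' := q8Perm_mul }
  refine ⟨ω, MulEquiv.ext q8Perm_three, fun e => ?_⟩
  exact absurd (congrArg (fun a : MulAut (QuaternionGroup 2) => a (QuaternionGroup.a 1)) e)
    (show q8Perm (QuaternionGroup.a 1) ≠ QuaternionGroup.a 1 by decide)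

variable {Ω : Type u} [Group Ω] {S : Subgroup Ω} [Finite S]

theorem false_of_quasiDihedral (hS : IsPGroup 2 S) (hqd : Cfsg.IsQuasiDihedral S)
    (h : ∀ F : FusionSystem S, F.IsSaturated 2 → HasCyclicChain F) : False := by
  haveI : Fact (Nat.Prime 2) := ⟨Nat.prime_two⟩
  obtain ⟨n, x, y, hq⟩ := Invol.exists_qd hqd
  have hn := hq.hn
  obtain ⟨q, hqf, X, Y, h4, hX, hYY, hconj, hY, hneg, -, -, ⟨r, hr, hcard⟩, -⟩ := exists_matrices n hn
  haveI := hqf
  have hqq : 2 * Invol.qq n = (2 : ℤ) ^ (n - 1) := by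
    rw [Invol.qq, show n - 1 = n - 2 + 1 by omega, pow_succ']
  obtain ⟨φ, hφ, hφx, hφy⟩ := exists_hom_index_two (x := x) (y := y) (X := X) (Y := Y)
    (a := (2 : ℤ) ^ (n - 1) - 1) (m := 0) (by rw [hq.ox, hX])
    (by
      rw [hq.conj, ← zpow_natCast]
      congr 1
      rw [Nat.cast_sub Nat.one_le_two_pow]; push_cast; rfl)
    hconj (by rw [zpow_zero]; exact hq.y_mul_self) (by rw [zpow_zero]; exact hYY)
    hq.y_notMem hY hq.cases'
  have hbig : 4 < 2 ^ n := lt_of_lt_of_le (by norm_num) (Nat.pow_le_pow_right two_pos hn)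
  refine false_of_realized hS φ hφ (odd_index_range φ hφ hq.card hr hcard) (zpowers x)
    (zpowers_invariant fun t ht => ?_) (u := x ^ Invol.qq n) (v := x ^ (1 : ℤ) * y)
    (zpow_mem (mem_zpowers x) _) (fun hm => hq.y_notMem ?_) ?_ h
  · obtain ⟨i, rfl | rfl⟩ := hq.cases' t
    · exact zpow_mem (mem_zpowers x) i
    · exfalso
      rw [hq.ox] at ht
      by_cases hi : 2 ∣ i
      · rw [hq.orderOf_mul_y_even hi] at ht; omega
      · rw [hq.orderOf_mul_y_odd hi] at ht; omega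
  · have := mul_mem (inv_mem (zpow_mem (mem_zpowers x) 1)) hm
    rwa [inv_mul_cancel_left] at this
  · have hz : φ (x ^ (2 * Invol.qq n)) = X ^ 2 ^ (n - 1) := by
      rw [map_zpow, hφx, hqq, ← zpow_natCast]; push_cast; rfl
    obtain ⟨g, -, hg⟩ := exists_conj_sq_neg h4 (A := φ (x ^ Invol.qq n)) (B := φ (x ^ (1 : ℤ) * y))
      (by rw [← map_mul, ← zpow_add, ← two_mul, hz]; exact hneg)
      (by rw [← map_mul, hq.sq_mul_y, one_mul, hz]; exact hneg)
    exact ⟨g, hg⟩

theorem false_of_quaternion (hS : IsPGroup 2 S) {n : ℕ} (hn : 2 ≤ n) (e : ↥S ≃* QuaternionGroup n)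
    (h : ∀ F : FusionSystem S, F.IsSaturated 2 → HasCyclicChain F) : False := by
  haveI : Fact (Nat.Prime 2) := ⟨Nat.prime_two⟩
  haveI : NeZero n := ⟨by omega⟩
  obtain ⟨m, hm⟩ := IsPGroup.iff_card.1 hS
  rw [Nat.card_congr e.toEquiv, Nat.card_eq_fintype_card, QuaternionGroup.card] at hm
  obtain ⟨k, -, hk⟩ := (Nat.dvd_prime_pow Nat.prime_two).1 (Dvd.intro_left 4 hm : n ∣ 2 ^ m)
  by_cases h2 : n = 2
  · subst h2
    -- an automorphism of order three
    haveI : Fact (Nat.Prime 3) := ⟨Nat.prime_three⟩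
    obtain ⟨ω, h3, hne⟩ := exists_q8_aut_three
    obtain ⟨-, hA⟩ := (supersoluble_iff hS).1 h
    set ω' : MulAut S := MulAut.congr e.symm ω with hω'
    have hω3 : ω' ^ 3 = 1 := by rw [hω', ← map_pow, h3, map_one]
    have hω1 : ω' ≠ 1 := fun h' => hne ((MulAut.congr e.symm).injective (h'.trans (map_one _).symm))
    refine hω1 ?_
    simpa using (hA (zpowers ω') (by
      rw [Nat.card_zpowers, orderOf_eq_prime hω3 hω1]; decide)).2 ω' (mem_zpowers _)
  have hk2 : 2 ≤ k := by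
    rcases k with _ | _ | k
    · omega
    · exact absurd hk h2
    · omega
  have hm' : m = k + 2 := by
    refine Nat.pow_right_injective (le_refl 2) ?_
    show 2 ^ m = 2 ^ (k + 2)
    rw [← hm, hk, pow_add]; ring
  obtain ⟨q, hqf, X, Y, h4, hX, hYY, hconj, hY, hneg, hdX, hdY, -, ⟨r, hr, hcard⟩⟩ :=
    exists_matrices (k + 2) (by omega)
  haveI := hqf
  set D : Subgroup (GL (Fin 2) (ZMod q)) := (Matrix.GeneralLinearGroup.det :
    GL (Fin 2) (ZMod q) →* (ZMod q)ˣ).ker with hD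
  have hmemD : ∀ g : GL (Fin 2) (ZMod q),
      (g : Matrix (Fin 2) (Fin 2) (ZMod q)).det = 1 → g ∈ D := fun g hg => by
    rw [hD, MonoidHom.mem_ker]
    exact Units.ext hg
  have hk1 : k + 2 - 1 = k + 1 := rfl
  rw [hk1] at hconj hneg
  let Q' : D := ⟨X ^ 2, hmemD _ (by simp [Units.val_pow_eq_pow_val, Matrix.det_pow, hdX])⟩
  let W' : D := ⟨X * Y, hmemD _ (by simp [Units.val_mul, Matrix.det_mul, hdX, hdY])⟩
  have hpush : ∀ j : ℤ, Y * X ^ j * Y⁻¹ = X ^ (((2 : ℤ) ^ (k + 1) - 1) * j) := fun j => by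
    rw [← conj_zpow, hconj, ← zpow_mul]
  have hXX : (2 : ℤ) ^ (k + 1) = ((2 ^ (k + 1) : ℕ) : ℤ) := by push_cast; rfl
  have hsq1 : (X * Y) * (X * Y) = X ^ 2 ^ (k + 1) := by
    calc X * Y * (X * Y) = X * (Y * X * Y⁻¹) * (Y * Y) := by group
      _ = X ^ 2 ^ (k + 1) := by
        rw [hconj, hYY, mul_one, ← zpow_one_add, show 1 + ((2 : ℤ) ^ (k + 1) - 1) = 2 ^ (k + 1) by ring,
          hXX, zpow_natCast]
  have hordQ : orderOf Q' = 2 ^ (k + 1) := by
    rw [← Subgroup.orderOf_coe]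
    show orderOf (X ^ 2) = _
    rw [orderOf_pow' _ two_ne_zero, hX, Nat.gcd_eq_right (dvd_pow_self 2 (by omega)),
      pow_succ, Nat.mul_div_cancel _ two_pos]
  have hxa : orderOf (QuaternionGroup.a 1 : QuaternionGroup n) = 2 ^ (k + 1) := by
    rw [QuaternionGroup.orderOf_a_one, hk]; ring
  have hall : ∀ z : QuaternionGroup n, ∃ i : ℤ, z = QuaternionGroup.a 1 ^ i ∨
      z = QuaternionGroup.a 1 ^ i * QuaternionGroup.xa 0 := by
    have hai : ∀ i : ZMod (2 * n), QuaternionGroup.a i = QuaternionGroup.a 1 ^ (i.val : ℤ) := fun i => by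
      rw [zpow_natCast, QuaternionGroup.a_one_pow, ZMod.natCast_zmod_val]
    rintro (i | i)
    · exact ⟨_, Or.inl (hai i)⟩
    · refine ⟨((-i).val : ℤ), Or.inr ?_⟩
      rw [← hai, QuaternionGroup.a_mul_xa, zero_sub, neg_neg]
  obtain ⟨φ, hφ, hφx, hφy⟩ := exists_hom_index_two (S := QuaternionGroup n) (G := D)
    (x := QuaternionGroup.a 1) (y := QuaternionGroup.xa 0) (X := Q') (Y := W')
    (a := -1) (m := (n : ℤ)) (by rw [hxa, hordQ])
    (by
      rw [zpow_neg_one, mul_inv_eq_iff_eq_mul, eq_inv_mul_iff_mul_eq, QuaternionGroup.xa_mul_a,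
        QuaternionGroup.a_mul_xa]
      simp)
    (by
      refine Subtype.ext ?_
      show X * Y * X ^ 2 * (X * Y)⁻¹ = ((Q' ^ (-1 : ℤ) : D) : GL (Fin 2) (ZMod q))
      rw [zpow_neg_one, Subgroup.coe_inv]
      show X * Y * X ^ 2 * (X * Y)⁻¹ = (X ^ 2)⁻¹
      calc X * Y * X ^ 2 * (X * Y)⁻¹ = X * (Y * X ^ ((2 : ℕ) : ℤ) * Y⁻¹) * X⁻¹ := by
            rw [zpow_natCast]; group
        _ = _ := by
          rw [hpush, ← zpow_one_add, ← zpow_sub_one, ← zpow_natCast X 2, ← zpow_neg,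
            zpow_eq_zpow_iff_modEq, hX, Int.modEq_iff_dvd]
          refine ⟨-1, ?_⟩
          push_cast
          ring)
    (by rw [QuaternionGroup.xa_mul_xa, zpow_natCast, QuaternionGroup.a_one_pow]; simp)
    (by
      refine Subtype.ext ?_
      show X * Y * (X * Y) = ((Q' ^ (n : ℤ) : D) : GL (Fin 2) (ZMod q))
      rw [zpow_natCast, SubmonoidClass.coe_pow, hsq1]
      show _ = (X ^ 2) ^ n
      rw [← pow_mul, hk, pow_succ'])
    (fun hm => by
      obtain ⟨i, hi⟩ := hm
      obtain ⟨j, hj⟩ := ZMod.intCast_surjective (n := 2 * n) 0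
      have hi' : QuaternionGroup.a 1 ^ i = (QuaternionGroup.xa 0 : QuaternionGroup n) := hi
      obtain ⟨l, hl⟩ : ∃ l : ℕ, QuaternionGroup.a (1 : ZMod (2 * n)) ^ i = QuaternionGroup.a 1 ^ l :=
        ⟨(i % orderOf (QuaternionGroup.a 1 : QuaternionGroup n)).toNat, by
          rw [← zpow_natCast, Int.toNat_of_nonneg (Int.emod_nonneg _ (by
            rw [hxa]; positivity)), zpow_mod_orderOf]⟩
      rw [hl, QuaternionGroup.a_one_pow] at hi'
      exact absurd hi' (by simp))
    (fun hm => by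
      obtain ⟨i, hi⟩ := hm
      refine hY ?_
      have hi' : ((Q' ^ i : D) : GL (Fin 2) (ZMod q)) = X * Y := congrArg Subtype.val hi
      rw [SubgroupClass.coe_zpow] at hi'
      have := mul_mem (inv_mem (mem_zpowers X)) (zpow_mem (pow_mem (mem_zpowers X) 2) i)
      rw [show (Q' : GL (Fin 2) (ZMod q)) = X ^ 2 from rfl] at hi'
      rwa [hi', inv_mul_cancel_left] at this)
    hall
  let ι : S →* D := φ.comp e.toMonoidHom
  have hι : Function.Injective ι := hφ.comp e.injective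
  let C : Subgroup S := zpowers (e.symm (QuaternionGroup.a 1))
  have hxaord : ∀ i, orderOf (QuaternionGroup.xa i : QuaternionGroup n) = 4 :=
    fun i => QuaternionGroup.orderOf_xa i
  have hbig : 4 < 2 ^ (k + 1) := lt_of_lt_of_le (by norm_num)
    (Nat.pow_le_pow_right two_pos (show 3 ≤ k + 1 by omega))
  have hinC : ∀ z : QuaternionGroup n, z ∈ zpowers (QuaternionGroup.a 1) → e.symm z ∈ C := by
    rintro z ⟨i, rfl⟩
    exact ⟨i, (map_zpow e.symm _ i).symm⟩
  refine false_of_realized hS ι hι ?_ C (zpowers_invariant fun t ht => ?_)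
    (u := e.symm (QuaternionGroup.a 1 ^ (2 ^ (k - 1)))) (v := e.symm (QuaternionGroup.xa 0))
    (hinC _ (pow_mem (mem_zpowers _) _)) (fun hm => ?_) ?_ h
  · refine odd_index_range ι hι (m := k + 2) ?_ hr hcard
    rw [Nat.card_congr e.toEquiv, Nat.card_eq_fintype_card, QuaternionGroup.card, hm, hm']
  · rw [MulEquiv.orderOf_eq, hxa] at ht
    rw [← e.symm_apply_apply t]
    rw [← MulEquiv.orderOf_eq e] at ht
    refine hinC _ ?_
    obtain ⟨i, hi | hi⟩ := hall (e t)
    · rw [hi]; exact zpow_mem (mem_zpowers _) i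
    · exfalso
      rw [hi] at ht
      obtain ⟨l, hl⟩ : ∃ l, QuaternionGroup.a (1 : ZMod (2 * n)) ^ i * QuaternionGroup.xa 0 =
          QuaternionGroup.xa l := by
        obtain ⟨j, hj⟩ : ∃ j, QuaternionGroup.a (1 : ZMod (2 * n)) ^ i = QuaternionGroup.a j := by
          have h1 : QuaternionGroup.a (1 : ZMod (2 * n)) ^ i ∈ zpowers (QuaternionGroup.a 1) :=
            zpow_mem (mem_zpowers _) i
          obtain ⟨l, hl⟩ := (isOfFinOrder_of_finite _).mem_powers_iff_mem_zpowers.2 h1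
          exact ⟨l, hl.symm.trans (QuaternionGroup.a_one_pow l)⟩
        exact ⟨_, by rw [hj, QuaternionGroup.a_mul_xa]⟩
      rw [hl, hxaord] at ht
      omega
  · obtain ⟨i, hi⟩ := hm
    have h1 : QuaternionGroup.a 1 ^ i = (QuaternionGroup.xa 0 : QuaternionGroup n) := by
      have := congrArg e hi
      simpa [map_zpow] using this
    obtain ⟨l, hl⟩ := (isOfFinOrder_of_finite _).mem_powers_iff_mem_zpowers.2
      (h1 ▸ zpow_mem (mem_zpowers (QuaternionGroup.a (1 : ZMod (2 * n)))) i :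
        (QuaternionGroup.xa 0 : QuaternionGroup n) ∈ zpowers (QuaternionGroup.a 1))
    have hl' : QuaternionGroup.a (1 : ZMod (2 * n)) ^ l = QuaternionGroup.xa 0 := hl
    rw [QuaternionGroup.a_one_pow] at hl'
    exact absurd hl' (by simp)
  · obtain ⟨g, hg, hgc⟩ := exists_conj_sq_neg h4
      (A := ((φ (QuaternionGroup.a 1 ^ (2 ^ (k - 1))) : D) : GL (Fin 2) (ZMod q)))
      (B := ((φ (QuaternionGroup.xa 0) : D) : GL (Fin 2) (ZMod q))) (by
        rw [← Subgroup.coe_mul, ← map_mul, ← pow_add, ← two_mul, ← pow_succ',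
          show k - 1 + 1 = k by omega, map_pow, hφx, SubmonoidClass.coe_pow]
        show (((X ^ 2) ^ 2 ^ k : GL (Fin 2) (ZMod q)) : Matrix (Fin 2) (Fin 2) (ZMod q)) = -1
        rw [← pow_mul, ← pow_succ']
        exact hneg) (by
        rw [← Subgroup.coe_mul, hφy]
        show (((X * Y) * (X * Y) : GL (Fin 2) (ZMod q)) : Matrix (Fin 2) (Fin 2) (ZMod q)) = -1
        rw [hsq1]
        exact hneg)
    refine ⟨⟨g, hmemD g hg⟩, Subtype.ext ?_⟩
    simpa [ι] using hgc

theorem false_of_dihedral (hS : IsPGroup 2 S) {n : ℕ} (hn : 3 ≤ n) (e : ↥S ≃* DihedralGroup n)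
    (h : ∀ F : FusionSystem S, F.IsSaturated 2 → HasCyclicChain F) : False := by
  haveI : Fact (Nat.Prime 2) := ⟨Nat.prime_two⟩
  haveI : NeZero n := ⟨by omega⟩
  obtain ⟨m, hm⟩ := IsPGroup.iff_card.1 hS
  rw [Nat.card_congr e.toEquiv, DihedralGroup.nat_card] at hm
  obtain ⟨k, -, hk⟩ := (Nat.dvd_prime_pow Nat.prime_two).1 (Dvd.intro_left 2 hm : n ∣ 2 ^ m)
  have hk2 : 2 ≤ k := by
    rcases k with _ | _ | k <;> omega
  obtain ⟨q, hqf, X, Y, h4, hX, hYY, hconj, hY, hneg, hdX, -, ⟨r, hr, hcard⟩, -⟩ :=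
    exists_matrices (k + 1) (by omega)
  haveI := hqf
  have hk1 : k + 1 - 1 = k := rfl
  rw [hk1] at hconj hneg
  set Z := Subgroup.center (GL (Fin 2) (ZMod q)) with hZ
  let π := QuotientGroup.mk' Z
  have hnegZ : X ^ 2 ^ k ∈ Z := Subgroup.mem_center_iff.2 fun g => Units.ext (by
    rw [Units.val_mul, Units.val_mul, hneg]; simp)
  have hscal : ∀ g ∈ Z, ∀ i j : Fin 2, i ≠ j → (g : Matrix (Fin 2) (Fin 2) (ZMod q)) i j = 0 := by
    intro g hg i j hij
    have hE : ∀ a b : ZMod q, Matrix.det !![(1 : ZMod q), a; b, 1 + a * b] ≠ 0 := fun a b => by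
      simp [Matrix.det_fin_two]
    have h1 := congrArg (fun u : GL (Fin 2) (ZMod q) => (u : Matrix (Fin 2) (Fin 2) (ZMod q)))
      (Subgroup.mem_center_iff.1 hg (Matrix.GeneralLinearGroup.mkOfDetNeZero _ (hE 1 0)))
    have h2 := congrArg (fun u : GL (Fin 2) (ZMod q) => (u : Matrix (Fin 2) (Fin 2) (ZMod q)))
      (Subgroup.mem_center_iff.1 hg (Matrix.GeneralLinearGroup.mkOfDetNeZero _ (hE 0 1)))
    have a1 := congrFun (congrFun h1 0) 0
    have a2 := congrFun (congrFun h2 0) 0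
    simp [Matrix.mul_apply, Fin.sum_univ_two] at a1 a2
    fin_cases i <;> fin_cases j <;> simp_all
  have hordπ : orderOf (π X) = 2 ^ k := by
    refine orderOf_eq_of_pow_and_pow_div_prime (pow_pos two_pos k) ?_ ?_
    · rw [← map_pow]; exact (QuotientGroup.eq_one_iff _).2 hnegZ
    · intro l hl hld
      obtain rfl : l = 2 := (Nat.prime_dvd_prime_iff_eq hl Nat.prime_two).1 (hl.dvd_of_dvd_pow hld)
      rw [show 2 ^ k / 2 = 2 ^ (k - 1) by
        rw [← Nat.pow_div (show 1 ≤ k by omega) two_pos, pow_one], ← map_pow]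
      intro e1
      have hA : X ^ 2 ^ (k - 1) ∈ Z := (QuotientGroup.eq_one_iff _).1 e1
      set A := X ^ 2 ^ (k - 1) with hAdef
      have hAA : ((A * A : GL (Fin 2) (ZMod q)) : Matrix (Fin 2) (Fin 2) (ZMod q)) = -1 := by
        rw [hAdef, ← pow_add, ← two_mul, ← pow_succ', show k - 1 + 1 = k by omega]
        exact hneg
      rw [Units.val_mul] at hAA
      have e00 := congrFun (congrFun hAA 0) 0
      simp [Matrix.mul_apply, Fin.sum_univ_two, hscal A hA 0 1 (by decide)] at e00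
      exact ZMod.mod_four_ne_three_of_sq_eq_neg_one
        (y := (A : Matrix (Fin 2) (Fin 2) (ZMod q)) 0 0) (by rw [sq, e00]) h4
  have hrel : π Y * π X * (π Y)⁻¹ = (π X) ^ (-1 : ℤ) := by
    rw [← map_inv, ← map_mul, ← map_mul, hconj, map_zpow, zpow_eq_zpow_iff_modEq, hordπ,
      Int.modEq_iff_dvd]
    exact ⟨-1, by push_cast; ring⟩
  have hall : ∀ z : DihedralGroup n, ∃ i : ℤ, z = DihedralGroup.r 1 ^ i ∨
      z = DihedralGroup.r 1 ^ i * DihedralGroup.sr 0 := by
    have hri : ∀ i : ZMod n, DihedralGroup.r i = DihedralGroup.r 1 ^ (i.val : ℤ) := fun i => by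
      rw [zpow_natCast, DihedralGroup.r_one_pow, ZMod.natCast_zmod_val]
    rintro (i | i)
    · exact ⟨_, Or.inl (hri i)⟩
    · refine ⟨((-i).val : ℤ), Or.inr ?_⟩
      rw [← hri, DihedralGroup.r_mul_sr, zero_sub, neg_neg]
  have hsr : ∀ i : ℤ, ∀ j : ZMod n, DihedralGroup.r (1 : ZMod n) ^ i ≠ DihedralGroup.sr j := by
    intro i j hij
    obtain ⟨l, hl⟩ := (isOfFinOrder_of_finite _).mem_powers_iff_mem_zpowers.2
      (hij ▸ zpow_mem (mem_zpowers (DihedralGroup.r (1 : ZMod n))) i :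
        (DihedralGroup.sr j : DihedralGroup n) ∈ zpowers (DihedralGroup.r 1))
    have hl' : DihedralGroup.r (1 : ZMod n) ^ l = DihedralGroup.sr j := hl
    rw [DihedralGroup.r_one_pow] at hl'
    exact absurd hl' (by simp)
  obtain ⟨φ, hφ, hφx, hφy⟩ := exists_hom_index_two (S := DihedralGroup n)
    (G := GL (Fin 2) (ZMod q) ⧸ Z) (x := DihedralGroup.r 1) (y := DihedralGroup.sr 0)
    (X := π X) (Y := π Y) (a := -1) (m := 0)
    (by rw [DihedralGroup.orderOf_r_one, hordπ, hk])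
    (by
      rw [zpow_neg_one, mul_inv_eq_iff_eq_mul, eq_inv_mul_iff_mul_eq, DihedralGroup.sr_mul_r,
        DihedralGroup.r_mul_sr]
      simp)
    hrel (by simp) (by rw [zpow_zero, ← map_mul, hYY, map_one])
    (fun hm => by obtain ⟨i, hi⟩ := hm; exact hsr i 0 hi)
    (fun hm => by
      obtain ⟨i, hi⟩ := hm
      have hc : π Y * π X * (π Y)⁻¹ = π X := by
        rw [show π Y = π X ^ i from hi.symm]; group
      rw [hrel] at hc
      have h2 : π X ^ (2 : ℤ) = 1 := by
        calc π X ^ (2 : ℤ) = π X * π X := zpow_two _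
          _ = π X ^ (-1 : ℤ) * π X := by rw [hc]
          _ = 1 := by group
      rw [← orderOf_dvd_iff_zpow_eq_one, hordπ] at h2
      have := Nat.le_of_dvd two_pos (Int.natCast_dvd_natCast.1 h2)
      have : 2 ^ 2 ≤ 2 ^ k := Nat.pow_le_pow_right two_pos hk2
      omega)
    hall
  let ι : S →* GL (Fin 2) (ZMod q) ⧸ Z := φ.comp e.toMonoidHom
  have hι : Function.Injective ι := hφ.comp e.injective
  let C : Subgroup S := zpowers (e.symm (DihedralGroup.r 1))
  have hinC : ∀ z : DihedralGroup n, z ∈ zpowers (DihedralGroup.r 1) → e.symm z ∈ C := by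
    rintro z ⟨i, rfl⟩
    exact ⟨i, (map_zpow e.symm _ i).symm⟩
  refine false_of_realized hS ι hι ?_ C (zpowers_invariant fun t ht => ?_)
    (u := e.symm (DihedralGroup.r 1 ^ (2 ^ (k - 1)))) (v := e.symm (DihedralGroup.r 1 * DihedralGroup.sr 0))
    (hinC _ (pow_mem (mem_zpowers _) _)) (fun hm => ?_) ?_ h
  · -- a Sylow subgroup of the quotient
    intro hd
    have h2 : (2 : ℕ) ^ (k + 2) ∣ Nat.card (GL (Fin 2) (ZMod q)) := ⟨r, hcard⟩
    haveI : Finite (GL (Fin 2) (ZMod q) ⧸ Z) := inferInstance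
    have hcZ : 2 ∣ Nat.card Z := by
      have h' := Subgroup.orderOf_dvd_natCard Z hnegZ
      suffices ho : orderOf (X ^ 2 ^ k) = 2 by rwa [ho] at h'
      rw [orderOf_pow' _ (pow_pos two_pos k).ne', hX,
        Nat.gcd_eq_right (pow_dvd_pow 2 (by omega)), Nat.pow_div (by omega) two_pos]
      simp
    obtain ⟨c, hc⟩ := hcZ
    have hmul := Z.index_mul_card
    rw [Subgroup.index_eq_card, hcard, hc] at hmul
    have h3 := ι.range.card_mul_index
    rw [← Nat.card_congr (MonoidHom.ofInjective hι).toEquiv, Nat.card_congr e.toEquiv,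
      DihedralGroup.nat_card, hk] at h3
    obtain ⟨d, hd'⟩ := hd
    rw [hd'] at h3
    rw [← h3] at hmul
    have : r = 2 * (d * c) := by
      refine Nat.eq_of_mul_eq_mul_left (pow_pos two_pos (k + 1 + 1)) (hmul.symm.trans ?_)
      ring
    exact hr ⟨_, this⟩
  · rw [MulEquiv.orderOf_eq, DihedralGroup.orderOf_r_one] at ht
    rw [← MulEquiv.orderOf_eq e] at ht
    rw [← e.symm_apply_apply t]
    refine hinC _ ?_
    cases hz : e t with
    | r i =>
      rw [show DihedralGroup.r i = DihedralGroup.r 1 ^ i.val by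
        rw [DihedralGroup.r_one_pow, ZMod.natCast_zmod_val]]
      exact pow_mem (mem_zpowers _) _
    | sr i =>
      rw [hz, DihedralGroup.orderOf_sr] at ht
      omega
  · obtain ⟨i, hi⟩ := hm
    have h1 : DihedralGroup.r 1 ^ i = (DihedralGroup.r 1 * DihedralGroup.sr 0 : DihedralGroup n) := by
      have := congrArg e hi
      simpa [map_zpow] using this
    rw [DihedralGroup.r_mul_sr] at h1
    exact hsr i _ h1
  · obtain ⟨g, -, hg⟩ := exists_conj_sq_neg h4 (A := X ^ 2 ^ (k - 1)) (B := X * Y) (by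
        rw [← pow_add, ← two_mul, ← pow_succ', show k - 1 + 1 = k by omega]
        exact hneg) (by
        rw [show X * Y * (X * Y) = X ^ 2 ^ k from ?_]
        · exact hneg
        calc X * Y * (X * Y) = X * (Y * X * Y⁻¹) * (Y * Y) := by group
          _ = X ^ 2 ^ k := by
            rw [hconj, hYY, mul_one, ← zpow_one_add, ← zpow_natCast]
            congr 1; push_cast; ring)
    refine ⟨π g, ?_⟩
    show π g * φ (e (e.symm _)) * (π g)⁻¹ = φ (e (e.symm _))
    rw [e.apply_symm_apply, e.apply_symm_apply, map_pow, map_mul, hφx, hφy, ← map_pow, ← map_mul,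
      ← map_inv, ← map_mul, ← map_mul, hg]

end Cfsg.Agent.Fus.NonSuper
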