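import Cfsg.Agent.Lib.Fus.NormalCrit
import Cfsg.Agent.Lib.Fus.GroupSystem

/-!
Fusion systems over an abelian `p`-group, and the inner system.
-/

set_option autoImplicit false
set_option linter.style.haveILetI false

open scoped Classical commutatorElement

namespace Cfsg.Agent.Fus

open Subgroup FusionSystem

variable {Ω : Type*} [Group Ω] {S : Subgroup Ω} {F : FusionSystem S}

theorem isMap_inner {P : Subgroup Ω} {f : Ω → Ω} :
    IsMap (innerFusionSystem S) P f ↔ P ≤ S ∧ ∃ g ∈ S, ∀ x ∈ P, f x = g * x * g⁻¹ := by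
  constructor
  · rintro ⟨φ, ⟨hP, g, hg, h⟩, e⟩
    exact ⟨hP, g, hg, fun x hx => (e ⟨x, hx⟩).symm.trans (h ⟨x, hx⟩)⟩
  · rintro ⟨hP, g, hg, h⟩
    exact ⟨conjHom P g, ⟨hP, g, hg, fun x => rfl⟩, fun x => (h x x.2).symm⟩

theorem inner_isSubsystemOf {T : Subgroup Ω} (hT : T ≤ S) (F : FusionSystem S) :
    (innerFusionSystem T).IsSubsystemOf F := by
  rintro P φ ⟨hP, g, hg, h⟩
  exact mem_hom_of_isMap (isMap_conj F (hP.trans hT) (hT hg)) h

theorem inner_eq_ofSubgroup (S : Subgroup Ω) :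
    innerFusionSystem S = fusionSystemOfSubgroup S S le_rfl := by
  refine eq_of_hom_eq fun P => Set.ext fun φ => ⟨?_, ?_⟩
  · rintro ⟨hP, g, hg, h⟩
    exact ⟨hP, fun x => (h x).symm ▸ S.mul_mem (S.mul_mem hg (hP x.2)) (S.inv_mem hg), g, hg, h⟩
  · rintro ⟨hP, -, g, hg, h⟩
    exact ⟨hP, g, hg, h⟩

/-- The inner fusion system of a finite `p`-group is saturated. -/
theorem isSaturated_inner [Finite S] {p : ℕ} [Fact p.Prime] (hS : IsPGroup p S) :
    (innerFusionSystem S).IsSaturated p := by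
  rw [inner_eq_ofSubgroup]
  refine isSaturated_ofSubgroup (IsSylowOf.of_card_le le_rfl hS fun A hA _ _ => hA) le_rfl

section

variable [Finite S] {p : ℕ} [Fact p.Prime]

/-- Over an abelian group, `S` is normal in the system. -/
theorem isNormal_top_of_comm (hS : IsPGroup p S) (hF : F.IsSaturated p)
    (hab : ∀ x ∈ S, ∀ y ∈ S, x * y = y * x) : F.IsNormal S := by
  refine isNormal_of_chain hS hF ![⊥, S] rfl ?_ fun i => ?_
  · exact Fin.monotone_iff_le_succ.2 fun i => by fin_cases i; exact bot_le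
  · fin_cases i
    refine ⟨⟨le_rfl, fun R _ φ hφ x => (F.le_of_mem hφ).2 x⟩, ?_⟩
    show ⁅S, S⁆ ≤ ⊥
    refine Subgroup.commutator_le.2 fun a ha b hb => Subgroup.mem_bot.2 ?_
    rw [commutatorElement_eq_one_iff_mul_comm]
    exact hab a ha b hb

/-- Over an abelian group every map is the restriction of an automorphism of `S`. -/
theorem exists_aut_extends_of_comm (hS : IsPGroup p S) (hF : F.IsSaturated p)
    (hab : ∀ x ∈ S, ∀ y ∈ S, x * y = y * x) {P : Subgroup Ω} {f : Ω → Ω} (hf : IsMap F P f) :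
    ∃ α ∈ F.autGroup S, ∀ x ∈ P, autFun α x = f x := by
  obtain ⟨g, hg, h1, h2⟩ := (isNormal_iff.1 (isNormal_top_of_comm hS hF hab)).2 P f hf
  obtain ⟨α, hα, e⟩ := (hg.res le_sup_right).exists_aut h2
  exact ⟨α, hα, fun x hx => (e x (hf.source_le hx)).trans (h1 x hx)⟩

/-- Over an abelian group `Aut_F(S)` has order prime to `p`. -/
theorem coprime_card_autGroup_of_comm (hS : IsPGroup p S) (hF : F.IsSaturated p)
    (hab : ∀ x ∈ S, ∀ y ∈ S, x * y = y * x) : (Nat.card (F.autGroup S)).Coprime p := by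
  have hfn : F.IsFullyNormalized S := ⟨le_rfl, fun Q hQ => by
    obtain rfl : Q = S := Subgroup.eq_of_le_of_card_ge (isConj_le_right hQ) (isConj_card hQ).ge
    exact le_rfl⟩
  obtain ⟨-, R, hR⟩ := fullyAutomized_of_fullyNormalized hS hF hfn
  have hbot : (R : Subgroup (F.autGroup S)) = ⊥ := by
    rw [hR, eq_bot_iff]
    intro α hα
    obtain ⟨g, hg, h⟩ := mem_autInducedBy.1 (Subgroup.mem_subgroupOf.1 hα)
    refine Subgroup.mem_bot.2 (Subtype.ext (MulEquiv.ext fun x => Subtype.ext ?_))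
    rw [h x, hab g hg x x.2, mul_inv_cancel_right]
    rfl
  have h1 := R.not_dvd_index
  rw [hbot, Subgroup.index_bot] at h1
  exact ((Fact.out : p.Prime).coprime_iff_not_dvd.2 h1).symm

end

end Cfsg.Agent.Fus
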