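import Cfsg.Agent.Lib.Fus.JInduction
import Cfsg.Agent.Lib.Fus.NormalCrit
import Cfsg.Agent.Lib.Fus.InvariantIff

/-!
Modulo a strongly closed subgroup `T`, every map extends to a map normalising `T`.
-/

set_option autoImplicit false
set_option linter.style.haveILetI false
set_option linter.unusedSectionVars false

open scoped Classical

namespace Cfsg.Agent.Fus

open Subgroup FusionSystem

universe u

variable {Ω : Type u} [Group Ω] {S : Subgroup Ω} {F : FusionSystem S} {T : Subgroup Ω}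

/-- The map agrees modulo `T` with a map on `P ⊔ T` carrying `T` onto itself. -/
def ExtMod (F : FusionSystem S) (T P : Subgroup Ω) (f : Ω → Ω) : Prop :=
  ∃ g, IsMap F (P ⊔ T) g ∧ fimg g T = T ∧ ∀ x ∈ P, (g x)⁻¹ * f x ∈ T

theorem le_normalizer_of_stronglyClosed (hT : F.StronglyClosed T) :
    S ≤ Subgroup.normalizer (T : Set Ω) := fun s hs =>
  mem_normalizer_of_forall (fun _ hx => StronglyClosed.conj_mem' hT hs hx) fun x hx => by
    simpa using StronglyClosed.conj_mem' hT (S.inv_mem hs) hx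

variable [Finite S]

theorem fimg_stronglyClosed (hT : F.StronglyClosed T) {K : Subgroup Ω} {g : Ω → Ω}
    (hg : IsMap F K g) (hTK : T ≤ K) : fimg g T = T := by
  haveI := finite_of_le hT.1
  exact Subgroup.eq_of_le_of_card_ge
    (fimg_le fun x hx => StronglyClosed.apply_mem hT (hg.res hTK) le_rfl hx)
    (hg.res hTK).card_fimg.ge

theorem ExtMod.of_isMap (hT : F.StronglyClosed T) {P : Subgroup Ω} {f : Ω → Ω}
    (hf : IsMap F P f) (hTP : T ≤ P) : ExtMod F T P f :=
  ⟨f, by rwa [sup_eq_left.2 hTP], fimg_stronglyClosed hT hf hTP,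
    fun x _ => by rw [inv_mul_cancel]; exact T.one_mem⟩

theorem ExtMod.congr {P : Subgroup Ω} {f f' : Ω → Ω} (h : ExtMod F T P f)
    (e : ∀ x ∈ P, f x = f' x) : ExtMod F T P f' := by
  obtain ⟨g, hg, hgT, hgP⟩ := h
  exact ⟨g, hg, hgT, fun x hx => e x hx ▸ hgP x hx⟩

theorem ExtMod.res {P Q : Subgroup Ω} {f : Ω → Ω} (h : ExtMod F T Q f) (hPQ : P ≤ Q) :
    ExtMod F T P f := by
  obtain ⟨g, hg, hgT, hgP⟩ := h
  exact ⟨g, hg.res (sup_le_sup_right hPQ T), hgT, fun x hx => hgP x (hPQ hx)⟩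

/-- The value of the map is the value of its extension up to `T`. -/
theorem eq_mul_mem {g f : Ω → Ω} {x : Ω} (h : (g x)⁻¹ * f x ∈ T) : ∃ t ∈ T, f x = g x * t :=
  ⟨_, h, by group⟩

theorem ExtMod.comp (hT : F.StronglyClosed T) {P Q : Subgroup Ω} {f₁ f₂ : Ω → Ω}
    (_hf₁ : IsMap F P f₁) (h₁ : ExtMod F T P f₁) (h₂ : ExtMod F T Q f₂)
    (h : ∀ x ∈ P, f₁ x ∈ Q) : ExtMod F T P fun x => f₂ (f₁ x) := by
  obtain ⟨g₁, hg₁, hg₁T, hg₁P⟩ := h₁
  obtain ⟨g₂, hg₂, hg₂T, hg₂P⟩ := h₂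
  have hmem : ∀ x ∈ P ⊔ T, g₁ x ∈ Q ⊔ T := by
    refine fun x hx => (fimg_le (P := P ⊔ T) (K := Q ⊔ T) ?_ : fimg g₁ (P ⊔ T) ≤ Q ⊔ T)
      (apply_mem_fimg g₁ hx)
    intro y hy
    have hsup : P ⊔ T ≤ Subgroup.closure {y | y ∈ P ⊔ T ∧ g₁ y ∈ Q ⊔ T} := sup_le
      (fun a ha => Subgroup.subset_closure ⟨Subgroup.mem_sup_left ha, by
        obtain ⟨t, ht, e⟩ := eq_mul_mem (hg₁P a ha)
        have h' : g₁ a = f₁ a * t⁻¹ := by rw [e, mul_inv_cancel_right]
        rw [h']
        exact mul_mem (Subgroup.mem_sup_left (h a ha)) (Subgroup.mem_sup_right (inv_mem ht))⟩)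
      (fun a ha => Subgroup.subset_closure ⟨Subgroup.mem_sup_right ha,
        Subgroup.mem_sup_right (hg₁T.le (apply_mem_fimg g₁ ha))⟩)
    have hy' := hsup hy
    suffices y ∈ P ⊔ T ∧ g₁ y ∈ Q ⊔ T from this.2
    clear hy
    induction hy' using Subgroup.closure_induction with
    | mem a ha => exact ha
    | one => exact ⟨one_mem _, by rw [hg₁.map_one]; exact one_mem _⟩
    | mul a b _ _ iha ihb =>
      exact ⟨mul_mem iha.1 ihb.1, by rw [hg₁.map_mul iha.1 ihb.1]; exact mul_mem iha.2 ihb.2⟩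
    | inv a _ iha => exact ⟨inv_mem iha.1, by rw [hg₁.map_inv iha.1]; exact inv_mem iha.2⟩
  have hc := hg₁.comp hg₂ hmem
  refine ⟨_, hc, fimg_stronglyClosed hT hc le_sup_right, fun x hx => ?_⟩
  obtain ⟨t, ht, e⟩ := eq_mul_mem (hg₁P x hx)
  obtain ⟨t', ht', e'⟩ := eq_mul_mem (hg₂P (f₁ x) (h x hx))
  have hgx : g₁ x ∈ Q ⊔ T := hmem x (Subgroup.mem_sup_left hx)
  show (g₂ (g₁ x))⁻¹ * f₂ (f₁ x) ∈ T
  rw [e', e, hg₂.map_mul hgx (Subgroup.mem_sup_right ht), show
    (g₂ (g₁ x))⁻¹ * (g₂ (g₁ x) * g₂ t * t') = g₂ t * t' by group]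
  exact mul_mem (hg₂T.le (apply_mem_fimg g₂ ht)) ht'

theorem ExtMod.inv (hT : F.StronglyClosed T) {P : Subgroup Ω} {f f' : Ω → Ω}
    (hf : IsMap F P f) (h : ExtMod F T P f) (h' : ∀ x ∈ P, f' (f x) = x) :
    ExtMod F T (fimg f P) f' := by
  obtain ⟨g, hg, hgT, hgP⟩ := h
  obtain ⟨k, hk, hk1, hk2, -⟩ := hg.exists_inv
  have hle : fimg f P ⊔ T ≤ fimg g (P ⊔ T) := by
    refine sup_le (fimg_le fun x hx => ?_) (hgT.ge.trans (fimg_mono g le_sup_right))
    obtain ⟨t, ht, e⟩ := eq_mul_mem (hgP x hx)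
    rw [e]
    exact mul_mem (apply_mem_fimg g (Subgroup.mem_sup_left hx))
      ((hgT.ge.trans (fimg_mono g le_sup_right)) ht)
  have hk' := hk.res hle
  refine ⟨k, hk', fimg_stronglyClosed hT hk' le_sup_right, ?_⟩
  intro y hy
  obtain ⟨x, hx, rfl⟩ := hf.mem_fimg_iff.1 hy
  rw [h' x hx]
  obtain ⟨t, ht, e⟩ := eq_mul_mem (hgP x hx)
  have htK : t ∈ fimg g (P ⊔ T) := (hgT.ge.trans (fimg_mono g le_sup_right)) ht
  rw [e, hk.map_mul (apply_mem_fimg g (Subgroup.mem_sup_left hx)) htK,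
    hk1 x (Subgroup.mem_sup_left hx), show (x * k t)⁻¹ * x = (k t)⁻¹ by group]
  refine inv_mem ?_
  exact StronglyClosed.apply_mem hT (hk'.res le_sup_right) le_rfl ht

variable {p : ℕ} [Fact p.Prime]

/-- The automorphisms of `P` trivial modulo `T`. -/
def modKer (F : FusionSystem S) (T P : Subgroup Ω) : Set (F.autGroup P) :=
  {κ | ∀ x : P, ((κ : MulAut P) x : Ω) * (x : Ω)⁻¹ ∈ T}

/-- Modulo a strongly closed subgroup every map extends. -/
theorem extMod_of_isMap (hS : IsPGroup p S) (hF : F.IsSaturated p) (hT : F.StronglyClosed T)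
    {P : Subgroup Ω} {f : Ω → Ω} (hf : IsMap F P f) : ExtMod F T P f := by
  suffices main : ∀ n, ∀ (P : Subgroup Ω) (f : Ω → Ω), Nat.card S - Nat.card P = n →
      IsMap F P f → ExtMod F T P f from main _ P f rfl hf
  intro n
  induction n using Nat.strong_induction_on with
  | _ n ih =>
  intro P f hn hf
  have big : ∀ {K : Subgroup Ω} {g : Ω → Ω}, Nat.card P < Nat.card K → IsMap F K g →
      ExtMod F T K g := fun {K g} hlt hg => by
    have := Subgroup.card_le_of_le hg.source_le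
    exact ih _ (by omega) K g rfl hg
  have hPS := hf.source_le
  rcases hPS.eq_or_lt with rfl | hlt
  · exact ExtMod.of_isMap hT hf hT.1
  obtain ⟨Q, hQ, hQn⟩ := exists_fullyNormalized F hPS
  have hQS := hQn.1
  have hfa := fullyAutomized_of_fullyNormalized hS hF hQn
  have hrec := receptive_of_fullyNormalized hS hF hQn
  haveI := finite_of_le hQS
  have hQlt : Q < S := lt_of_le_of_ne hQS fun e => by
    subst e
    exact hlt.ne (eq_top_of_isConj (isConj_symm hQ))
  -- automorphisms of `Q`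
  have key : ∀ α : F.autGroup Q, ExtMod F T Q (autFun (α : MulAut Q)) := by
    intro α
    by_cases hTQ : T ≤ Q
    · exact ExtMod.of_isMap hT ((mem_autGroup hQS).1 α.2) hTQ
    let K : Subgroup (F.autGroup Q) :=
      { carrier := modKer F T Q
        one_mem' := fun x => by simp
        mul_mem' := fun {a b} ha hb x => by
          have : (((a * b : F.autGroup Q) : MulAut Q) x : Ω) * (x : Ω)⁻¹ =
              (((a : MulAut Q) ((b : MulAut Q) x) : Ω) * (((b : MulAut Q) x : Q) : Ω)⁻¹) *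
                ((((b : MulAut Q) x : Q) : Ω) * (x : Ω)⁻¹) := by
            rw [Subgroup.coe_mul, MulAut.mul_apply]
            group
          rw [this]
          exact T.mul_mem (ha _) (hb x)
        inv_mem' := fun {a} ha x => by
          have h := ha (((a⁻¹ : F.autGroup Q) : MulAut Q) x)
          rw [Subgroup.coe_inv, MulAut.apply_inv_self] at h
          have := T.inv_mem h
          rwa [mul_inv_rev, inv_inv] at this }
    haveI hKn : K.Normal := ⟨fun k hk a x => by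
      show (((a * k * a⁻¹ : F.autGroup Q) : MulAut Q) x : Ω) * (x : Ω)⁻¹ ∈ T
      rw [Subgroup.coe_mul, Subgroup.coe_mul, Subgroup.coe_inv, MulAut.mul_apply,
        MulAut.mul_apply]
      set y := ((a : MulAut Q)⁻¹ x) with hy
      have hxy : x = (a : MulAut Q) y := by rw [hy, MulAut.apply_inv_self]
      set d : Q := (k : MulAut Q) y * y⁻¹ with hd
      have hdT : (d : Ω) ∈ T := hk y
      have : (((a : MulAut Q) ((k : MulAut Q) y) : Ω) * (x : Ω)⁻¹) =
          (((a : MulAut Q) d : Q) : Ω) := by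
        rw [hxy, hd, map_mul, map_inv, Subgroup.coe_mul, Subgroup.coe_inv]
      rw [this, ← autFun_coe]
      exact StronglyClosed.apply_mem hT (((mem_autGroup hQS).1 a.2).res
        (inf_le_left : Q ⊓ T ≤ Q)) inf_le_right ⟨d.2, hdT⟩⟩
    obtain ⟨-, R, hR⟩ := hfa
    obtain ⟨P', hP'⟩ : ∃ P' : Sylow p K, ((R : Subgroup (F.autGroup Q)) ⊓ K).subgroupOf K = P' := by
      obtain ⟨-, P', hP'⟩ := isSylowOf_inf_normal R K
      exact ⟨P', hP'.symm⟩
    have hFr : Subgroup.normalizer (((R : Subgroup (F.autGroup Q)) ⊓ K : Subgroup _) :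
        Set (F.autGroup Q)) ⊔ K = ⊤ := by
      have e : (P' : Subgroup K).map K.subtype = (R : Subgroup (F.autGroup Q)) ⊓ K := by
        rw [← hP', Subgroup.subgroupOf_map_subtype, inf_eq_left.2 inf_le_right]
      rw [← e]
      exact P'.normalizer_sup_eq_top
    obtain ⟨β, hβ, κ, hκ, rfl⟩ := Subgroup.mem_sup_of_normal_right.1
      (show α ∈ _ ⊔ K by rw [hFr]; exact Subgroup.mem_top α)
    have hκE : ExtMod F T Q (autFun (κ : MulAut Q)) := by
      refine ⟨fun x => x, isMap_id F (sup_le hQS hT.1), fimg_id T, fun x hx => ?_⟩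
      have h1 := hκ ⟨x, hx⟩
      have h2 := StronglyClosed.conj_mem' hT (inv_mem (hQS hx)) h1
      rw [show autFun (κ : MulAut Q) x = ((κ : MulAut Q) ⟨x, hx⟩ : Ω) from autFun_coe _ ⟨x, hx⟩]
      simpa [mul_assoc] using h2
    have hβE : ExtMod F T Q (autFun (β : MulAut Q)) := by
      have hβm := (mem_autGroup hQS).1 β.2
      obtain ⟨φ, hφ, hφe⟩ := hβm.exists_hom
      set N := extender S Q φ with hN
      have hNle : ∀ g, g ∈ N ↔ g ∈ normalizerIn S Q ∧
          ∃ h ∈ S, ∀ x ∈ Q, autFun (β : MulAut Q) (g * x * g⁻¹) =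
            h * autFun (β : MulAut Q) x * h⁻¹ := fun g => by
        rw [hN, mem_extender]
        constructor
        · rintro ⟨h1, h2, h, hh, he⟩
          refine ⟨⟨h1, h2⟩, h, hh, fun x hx => ?_⟩
          have := he x hx
          rwa [toFun_apply φ hx, toFun_apply φ ((Subgroup.mem_normalizer_iff.1 h2 x).1 hx),
            hφe, hφe] at this
        · rintro ⟨⟨h1, h2⟩, h, hh, he⟩
          refine ⟨h1, h2, h, hh, fun x hx => ?_⟩
          rw [toFun_apply φ hx, toFun_apply φ ((Subgroup.mem_normalizer_iff.1 h2 x).1 hx),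
            hφe, hφe]
          exact he x hx
      have hQN : Q ≤ N := le_extender hφ
      obtain ⟨g, hg, hgQ⟩ : ∃ g ∈ N, g ∉ Q := by
        have hsup : Q < Q ⊔ T := left_lt_sup.2 hTQ
        haveI := finite_of_le (S := S) (sup_le hQS hT.1)
        obtain ⟨w, hw, hwQ⟩ := SetLike.lt_iff_le_and_exists.1
          (lt_normalizerIn (hS.to_le (sup_le hQS hT.1)) hsup) |>.2
        have hw1 : w ∈ ((Q ⊔ T : Subgroup Ω) : Set Ω) := hw.1
        rw [Subgroup.coe_mul_of_left_le_normalizer_right Q T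
          (hQS.trans (le_normalizer_of_stronglyClosed hT))] at hw1
        obtain ⟨q, hq, t, ht, rfl⟩ := hw1
        have htN : t ∈ Subgroup.normalizer (Q : Set Ω) := by
          have := mul_mem (inv_mem (Subgroup.le_normalizer hq)) hw.2
          simpa using this
        have htQ : t ∉ Q := fun h => hwQ (Q.mul_mem hq h)
        refine ⟨t, (hNle t).2 ⟨⟨hT.1 ht, htN⟩, ?_⟩, htQ⟩
        set c : F.autGroup Q := ⟨Q.normalizerMonoidHom ⟨t, htN⟩, autInducedBy_le_autGroup F hQS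
          (mem_autInducedBy.2 ⟨t, hT.1 ht, fun x => rfl⟩)⟩ with hc
        have hcR : c ∈ (R : Subgroup (F.autGroup Q)) ⊓ K := by
          refine ⟨hR.symm ▸ Subgroup.mem_subgroupOf.2
            (mem_autInducedBy.2 ⟨t, hT.1 ht, fun x => rfl⟩), fun x => ?_⟩
          show t * (x : Ω) * t⁻¹ * (x : Ω)⁻¹ ∈ T
          rw [show t * (x : Ω) * t⁻¹ * (x : Ω)⁻¹ = t * ((x : Ω) * t⁻¹ * (x : Ω)⁻¹) by group]
          exact T.mul_mem ht (StronglyClosed.conj_mem' hT (hQS x.2) (T.inv_mem ht))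
        have h1 : β * c * β⁻¹ ∈ (R : Subgroup (F.autGroup Q)) :=
          ((Subgroup.mem_normalizer_iff.1 hβ c).1 hcR).1
        rw [hR, Subgroup.mem_subgroupOf] at h1
        obtain ⟨h, hh, he⟩ := mem_autInducedBy.1 h1
        refine ⟨h, hh, fun x hx => ?_⟩
        have h2 := he ((β : MulAut Q) ⟨x, hx⟩)
        rw [show autFun (β : MulAut Q) x = ((β : MulAut Q) ⟨x, hx⟩ : Ω) from
          autFun_coe _ ⟨x, hx⟩, ← h2,
          show autFun (β : MulAut Q) (t * x * t⁻¹) =
            ((β : MulAut Q) ⟨_, (Subgroup.mem_normalizer_iff.1 htN x).1 hx⟩ : Ω) from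
            autFun_coe _ ⟨_, _⟩]
        simp only [Subgroup.coe_mul, Subgroup.coe_inv, MulAut.mul_apply, MulAut.inv_apply_self]
        rfl
      have hNS : N ≤ S := fun g hg => ((hNle g).1 hg).1.1
      obtain ⟨g', hg', hge⟩ := receptive_extend hrec hβm (fimg_autFun _) (N := N)
        (fun g hg => (hNle g).1 hg) hQN
      haveI := finite_of_le hNS
      have hcard : Nat.card P < Nat.card N := by
        rw [← isConj_card hQ]
        exact card_lt_of_lt (lt_of_le_of_ne hQN fun e => hgQ (e ▸ hg))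
      exact ((big hcard hg').res hQN).congr hge
    exact (ExtMod.comp hT ((mem_autGroup hQS).1 κ.2) hκE hβE
      fun x hx => autFun_mem _ hx).congr fun x hx => by rw [Subgroup.coe_mul, autFun_mul _ _ hx]
  -- maps from the normalizers onto `Q`
  have hcard : ∀ P' : Subgroup Ω, F.IsConj P P' → ∃ f₀, IsMap F P' f₀ ∧ fimg f₀ P' = Q ∧
      ExtMod F T P' f₀ := by
    intro P' hP'
    have hP'S := isConj_le_right hP'
    obtain ⟨f₀, hf₀, hf₀Q, -⟩ := exists_map_normalizerIn hS hfa hrec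
      (isConj_trans (isConj_symm hP') hQ)
    have hlt' : P' < normalizerIn S P' := lt_normalizerIn hS (lt_of_le_of_ne hP'S fun e => by
      subst e
      exact hlt.ne (eq_top_of_isConj (isConj_symm hP')))
    haveI := finite_of_le (S := S) (P := normalizerIn S P') inf_le_left
    exact ⟨f₀, hf₀.res (le_normalizerIn hP'S), hf₀Q,
      (big ((isConj_card hP').ge.trans_lt (card_lt_of_lt hlt')) hf₀).res (le_normalizerIn hP'S)⟩
  obtain ⟨a, ha, haQ, haE⟩ := hcard P (isConj_refl F hPS)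
  obtain ⟨b, hb, hbQ, hbE⟩ := hcard (fimg f P) hf.isConj
  obtain ⟨a', ha', ha'1, ha'2, -⟩ := ha.exists_inv
  obtain ⟨b', hb', hb'1, hb'2, -⟩ := hb.exists_inv
  rw [haQ] at ha' ha'2
  have hbf : IsMap F P fun x => b (f x) := hf.comp hb fun x hx => apply_mem_fimg f hx
  have hm : IsMap F Q fun y => b (f (a' y)) := ha'.comp hbf fun y hy => (ha'2 y hy).1
  have himg : fimg (fun y => b (f (a' y))) Q = Q :=
    Subgroup.eq_of_le_of_card_ge (fimg_le fun y hy =>
      hbQ.le (apply_mem_fimg b (apply_mem_fimg f (ha'2 y hy).1))) hm.card_fimg.ge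
  obtain ⟨α, hα, hαe⟩ := hm.exists_aut himg
  have hQb : ExtMod F T Q b' := hbQ ▸ ExtMod.inv hT hb hbE hb'1
  have h1 := ExtMod.comp hT ha haE (key ⟨α, hα⟩) fun x hx => haQ.le (apply_mem_fimg a hx)
  have h1m : IsMap F P fun x => autFun α (a x) :=
    ha.comp ((mem_autGroup hQS).1 hα) fun x hx => haQ.le (apply_mem_fimg a hx)
  refine (ExtMod.comp hT h1m h1 hQb fun x hx =>
    autFun_mem _ (haQ.le (apply_mem_fimg a hx))).congr fun x hx => ?_
  have haQx : a x ∈ Q := haQ.le (apply_mem_fimg a hx)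
  show b' (autFun α (a x)) = f x
  rw [hαe _ haQx, ha'1 x hx, hb'1 _ (apply_mem_fimg f hx)]

end Cfsg.Agent.Fus
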