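import Cfsg.Agent.Lib.Fus.Hyperfocal
import Cfsg.Agent.Lib.Fus.FactorExtend
import Cfsg.Agent.Lib.Fus.NormalizerSat

/-!
Consequences of the transfer: central focal elements, Tate's theorem and inner criteria.
-/

set_option autoImplicit false
set_option linter.style.haveILetI false
set_option linter.unusedSectionVars false

open scoped Classical commutatorElement

namespace Cfsg.Agent.Fus

open Subgroup FusionSystem

universe u

variable {Ω : Type u} [Group Ω] {S : Subgroup Ω} {F : FusionSystem S} {p : ℕ}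

theorem IsMap.fix_center [Finite S] {P : Subgroup Ω} {f : Ω → Ω} (hf : IsMap F P f) {z : Ω}
    (hz : z ∈ P) (hzC : z ∈ F.center) : f z = z := by
  obtain ⟨g, hg, h1, h2⟩ := (isCentral_iff.1 (isCentral_center F)).2 P f hf
  rw [← h1 z hz, h2 z hzC]

theorem center_comm [Finite S] (F : FusionSystem S) {z : Ω} (hz : z ∈ F.center) {s : Ω}
    (hs : s ∈ S) : s * z = z * s := by
  have h := (isMap_conj F (le_refl S) hs).fix_center ((isCentral_center F).1 hz) hz
  calc s * z = s * z * s⁻¹ * s := by group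
    _ = z * s := by rw [h]

/-- Central focal elements lie in the derived subgroup. -/
theorem focal_inf_center [Finite S] [Fact p.Prime] (hS : IsPGroup p S) (hF : F.IsSaturated p) :
    F.focalSubgroup ⊓ F.center = ⁅S, S⁆ ⊓ F.center := by
  refine le_antisymm (fun z hz => ⟨?_, hz.2⟩) (inf_le_inf_right _ (commutator_le_focal F))
  obtain ⟨hzF, hzZ⟩ := hz
  let ψ : S →* Abelianization S := Abelianization.of
  have hinv : ∀ s ∈ S, ∀ (z : Ω) (hz : z ∈ S) (hz' : s * z * s⁻¹ ∈ S),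
      ψ ⟨_, hz'⟩ = ψ ⟨z, hz⟩ := fun s hs z hz hz' => by
    rw [show (⟨_, hz'⟩ : S) = ⟨s, hs⟩ * ⟨z, hz⟩ * ⟨s, hs⟩⁻¹ from rfl, map_mul, map_mul, map_inv,
      mul_comm (ψ ⟨s, hs⟩), mul_inv_cancel_right]
  obtain ⟨d, D, hd, -, hDZ, hinvT⟩ := exists_orbitTransfer' hS hF le_rfl ψ hinv ⊤ F.center
    (fun z hz s hs => center_comm F hz hs) fun P f hf => by
      refine ⟨fun z hz _ => hf.apply_mem hz, ?_⟩
      let δ : P →* (⊤ : Subgroup (Abelianization S)) := MonoidHom.mk'
        (fun z => ⟨(ψ ⟨z, hf.source_le z.2⟩)⁻¹ * ψ ⟨f z, hf.apply_mem z.2⟩, Subgroup.mem_top _⟩)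
        fun z w => by
          refine Subtype.ext ?_
          show _ = (_ * _) * (_ * _)
          rw [show (⟨((z * w : P) : Ω), hf.source_le (z * w).2⟩ : S) =
              ⟨z, hf.source_le z.2⟩ * ⟨w, hf.source_le w.2⟩ from rfl,
            show (⟨f ((z * w : P) : Ω), hf.apply_mem (z * w).2⟩ : S) =
              ⟨_, hf.apply_mem z.2⟩ * ⟨_, hf.apply_mem w.2⟩ from
              Subtype.ext (hf.map_mul z.2 w.2), map_mul, map_mul, mul_inv_rev]
          ac_rfl
      refine ⟨δ, fun z hz hzC => Subtype.ext ?_, fun z hz h1 h2 => ?_⟩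
      · show _ * _ = (1 : Abelianization S)
        rw [inv_mul_eq_one]
        exact congrArg ψ (Subtype.ext (hf.fix_center hz hzC).symm)
      · show _ = _ * (_ * _)
        rw [mul_inv_cancel_left]
  let T : S →* Abelianization S := ψ ^ d * D
  have hT : F.focalSubgroup ≤ T.ker.map S.subtype := by
    refine focalSubgroup_le_iff.2 fun P f hf z hz => ?_
    refine ⟨(⟨z, hf.source_le hz⟩ : S)⁻¹ * ⟨f z, hf.apply_mem hz⟩, ?_, rfl⟩
    show T _ = 1
    rw [map_mul, map_inv, inv_mul_eq_one]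
    exact hinvT P f hf z hz (hf.source_le hz) (hf.apply_mem hz)
  have hzS : z ∈ S := (isCentral_center F).1 hzZ
  obtain ⟨w, hw, e⟩ := hT hzF
  have hw' : w = ⟨z, hzS⟩ := Subtype.ext e
  subst hw'
  have e1 : ψ ⟨z, hzS⟩ ^ d * D ⟨z, hzS⟩ = 1 := hw
  rw [hDZ _ hzZ, mul_one] at e1
  obtain ⟨k, hk⟩ := hS ⟨z, hzS⟩
  have h1 : ψ ⟨z, hzS⟩ = 1 := by
    rw [← pow_one (ψ ⟨z, hzS⟩),
      ← (((Fact.out : p.Prime).coprime_iff_not_dvd.2 hd).symm.pow_right k).gcd_eq_one]
    exact pow_gcd_eq_one.2 ⟨e1, by rw [← map_pow, hk, map_one]⟩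
  rw [← Subgroup.map_subtype_commutator]
  exact ⟨⟨z, hzS⟩, (QuotientGroup.eq_one_iff _).1 h1, rfl⟩

/-- Tate's theorem for fusion systems. -/
theorem tate_iff [Finite S] [Fact p.Prime] (hS : IsPGroup p S) (hF : F.IsSaturated p)
    {H : FusionSystem S} (hH : H.IsSaturated p) (hHF : H.IsSubsystemOf F) :
    ((frattini ↥S).map S.subtype ⊔ F.focalSubgroup = (frattini ↥S).map S.subtype ⊔ H.focalSubgroup ↔
        F.focalSubgroup = H.focalSubgroup) ∧
      (F.focalSubgroup = H.focalSubgroup ↔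
        F.hyperfocalSubgroup p = H.hyperfocalSubgroup p) := by
  refine ⟨⟨fun h => ?_, fun h => by rw [h]⟩, fun h => ?_, fun h => ?_⟩
  · exact focal_eq_of_le_frattini_sup hS hF (commutator_le_focal H) (focalSubgroup_mono hHF)
      (le_sup_right.trans h.le)
  · refine le_antisymm ?_ (hyperfocal_mono hHF)
    refine hyperfocal_le_of_le_sup hS hF (hyperfocal_mono hHF)
      (fun s hs z hz => hyperfocal_conj_mem hs hz) ?_
    rw [← focal_eq_hyperfocal_sup hS hH, ← h]
    exact hyperfocal_le_focal F p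
  · rw [focal_eq_hyperfocal_sup hS hF, focal_eq_hyperfocal_sup hS hH, h]

theorem commutator_le_frattini_map [Finite S] [Fact p.Prime] (hS : IsPGroup p S) :
    ⁅S, S⁆ ≤ (frattini ↥S).map S.subtype := by
  rw [← Subgroup.map_subtype_commutator]
  exact Subgroup.map_mono (Grp.pGroup_commutator_le_frattini hS)

/-- The automorphisms of `S` are inner when its normalizer system is. -/
theorem top_inner_of_normalizer
    (hN : ∀ N : FusionSystem (FusionSystem.normalizerIn S S), F.IsNormalizerSystem S N →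
      ∀ P : Subgroup Ω, N.Hom P = (innerFusionSystem (FusionSystem.normalizerIn S S)).Hom P)
    {α : MulAut S} (hα : α ∈ F.autGroup S) :
    ∃ s ∈ S, ∀ z ∈ S, autFun α z = s * z * s⁻¹ := by
  have h := isInner_iff.2 (hN _ (isNormalizerSystem_normalizerSystem F le_rfl))
  obtain ⟨s, hs, e⟩ := h S (autFun α) ((isMap_normalizerSystem le_rfl).2
    ⟨le_normalizerIn le_rfl, fun x hx => le_normalizerIn le_rfl (autFun_mem α hx), autFun α,
      by rw [sup_idem]; exact (mem_autGroup le_rfl).1 hα, fun x _ => rfl, fimg_autFun α⟩)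
  exact ⟨s, hs.1, e⟩

theorem isInner_of_normal_between [Finite S] [Fact p.Prime] (hS : IsPGroup p S)
    (hF : F.IsSaturated p) {Q : Subgroup Ω} (h1 : ⁅S, S⁆ ≤ Q)
    (h2 : Q ≤ (frattini ↥S).map S.subtype)
    (htop : ∀ α ∈ F.autGroup S, ∃ s ∈ S, ∀ z ∈ S, autFun α z = s * z * s⁻¹)
    {R : Subgroup Ω} (hR : R = S) (E : FusionSystem R) (hE : E.IsSaturated p)
    (hEF : E.IsSubsystemOf F) (hQ : E.IsNormal Q) : IsInner E := by
  subst hR
  refine isInner_of_focal_le_frattini hS hE (le_trans ?_ h2)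
  refine focal_le_of_extMod hS hE hQ.1 h1 (fun P f hf z hz hzQ => ?_) (fun P f hf => ?_)
    fun α hα => htop α (autGroup_mono hEF _ hα)
  · exact StronglyClosed.apply_mem (stronglyClosed_of_isNormal hQ)
      (hf.res (inf_le_left : P ⊓ Q ≤ P)) inf_le_right ⟨hz, hzQ⟩
  · obtain ⟨g, hg, hge, -⟩ := (isNormal_iff.1 hQ).2 P f hf
    exact ⟨g, hg, fun z hz => by rw [hge z hz, inv_mul_cancel]; exact Q.one_mem⟩

end Cfsg.Agent.Fus
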