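import Cfsg.Agent.Lib.Fus.CTSimpleAction
import Cfsg.Agent.Lib.Block.SmallPSL.Recognize
import Cfsg.Agent.Lib.Lie.TwoPronormalPSL

/-!
Finite simple groups with abelian centralisers are the groups `PSL(2, 2^f)`.
-/

set_option autoImplicit false
set_option linter.unusedSectionVars false
set_option linter.style.haveILetI false

namespace Cfsg.Agent.Fus.CTSimple

open Matrix

universe u

section Linear

variable {F : Type*} [Field F]

/-- The commutant of a non-scalar two by two matrix is commutative. -/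
theorem commute_two {A B C : Matrix (Fin 2) (Fin 2) F}
    (hB : B 0 1 ≠ 0 ∨ B 1 0 ≠ 0 ∨ B 0 0 ≠ B 1 1) (hA : A * B = B * A) (hC : C * B = B * C) :
    A * C = C * A := by
  have a00 := congrFun (congrFun hA 0) 0
  have a01 := congrFun (congrFun hA 0) 1
  have a10 := congrFun (congrFun hA 1) 0
  have c00 := congrFun (congrFun hC 0) 0
  have c01 := congrFun (congrFun hC 0) 1
  have c10 := congrFun (congrFun hC 1) 0
  simp only [Matrix.mul_apply, Fin.sum_univ_two] at a00 a01 a10 c00 c01 c10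
  have k1 : A 0 1 * C 1 0 = C 0 1 * A 1 0 ∧ A 0 1 * (C 0 0 - C 1 1) = C 0 1 * (A 0 0 - A 1 1) ∧
      A 1 0 * (C 0 0 - C 1 1) = C 1 0 * (A 0 0 - A 1 1) := by
    rcases hB with h | h | h
    · have e1 : A 0 1 * C 1 0 = C 0 1 * A 1 0 :=
        mul_left_cancel₀ h (by linear_combination C 0 1 * a00 - A 0 1 * c00)
      refine ⟨e1, mul_left_cancel₀ h ?_, mul_left_cancel₀ h ?_⟩
      · linear_combination A 0 1 * c01 - C 0 1 * a01
      · linear_combination A 1 0 * c01 - C 1 0 * a01 - (B 0 0 - B 1 1) * e1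
    · have e3 : A 1 0 * (C 0 0 - C 1 1) = C 1 0 * (A 0 0 - A 1 1) :=
        mul_left_cancel₀ h (by linear_combination C 1 0 * a10 - A 1 0 * c10)
      refine ⟨mul_left_cancel₀ h ?_, mul_left_cancel₀ h ?_, e3⟩
      · linear_combination C 1 0 * a00 - A 1 0 * c00
      · linear_combination (C 0 0 - C 1 1) * a00 - (A 0 0 - A 1 1) * c00 + B 0 1 * e3
    · have h' : B 0 0 - B 1 1 ≠ 0 := sub_ne_zero.mpr h
      have e3 : A 1 0 * (C 0 0 - C 1 1) = C 1 0 * (A 0 0 - A 1 1) :=
        mul_left_cancel₀ h' (by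
          linear_combination (C 0 0 - C 1 1) * a10 - (A 0 0 - A 1 1) * c10)
      refine ⟨mul_left_cancel₀ h' ?_, mul_left_cancel₀ h' ?_, e3⟩
      · linear_combination A 1 0 * c01 - C 1 0 * a01 - B 0 1 * e3
      · linear_combination (A 0 0 - A 1 1) * c01 - (C 0 0 - C 1 1) * a01
  obtain ⟨k1, k2, k3⟩ := k1
  ext i j
  fin_cases i <;> fin_cases j <;>
    simp only [Matrix.mul_apply, Fin.sum_univ_two, Fin.zero_eta, Fin.mk_one]
  · linear_combination k1
  · linear_combination -k2
  · linear_combination k3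
  · linear_combination -k1

local notation "SL₂" => Matrix.SpecialLinearGroup (Fin 2) F
local notation "PSL₂" => Matrix.ProjectiveSpecialLinearGroup (Fin 2) F

theorem center_eq_bot_of_two (h2 : (2 : F) = 0) : Subgroup.center SL₂ = ⊥ := by
  refine (Subgroup.eq_bot_iff_forall _).mpr fun z hz => ?_
  obtain ⟨r, hr, hs⟩ := Matrix.SpecialLinearGroup.mem_center_iff.mp hz
  rw [Fintype.card_fin] at hr
  have hr1 : r = 1 := by
    have h0 : (r - 1) * (r - 1) = 0 := by linear_combination hr - (r - 1) * h2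
    exact sub_eq_zero.mp (mul_self_eq_zero.mp h0)
  apply Subtype.ext
  rw [← hs, hr1]
  simp

theorem isCT_of_two (h2 : (2 : F) = 0) : IsCT PSL₂ := by
  intro a b d ha hb hd hab hbd
  obtain ⟨A, rfl⟩ := QuotientGroup.mk_surjective a
  obtain ⟨B, rfl⟩ := QuotientGroup.mk_surjective b
  obtain ⟨D, rfl⟩ := QuotientGroup.mk_surjective d
  have hlift : ∀ {X Y : SL₂}, Commute (X : PSL₂) (Y : PSL₂) → X * Y = Y * X := fun {X Y} h => by
    have h' := QuotientGroup.eq.mp h.eq
    rw [center_eq_bot_of_two h2, Subgroup.mem_bot] at h'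
    exact inv_mul_eq_one.mp h'
  have hB : (B : Matrix (Fin 2) (Fin 2) F) 0 1 ≠ 0 ∨ (B : Matrix (Fin 2) (Fin 2) F) 1 0 ≠ 0 ∨
      (B : Matrix (Fin 2) (Fin 2) F) 0 0 ≠ (B : Matrix (Fin 2) (Fin 2) F) 1 1 := by
    by_contra h
    push Not at h
    refine hb ((QuotientGroup.eq_one_iff B).mpr
      (Matrix.SpecialLinearGroup.mem_center_iff.mpr ⟨(B : Matrix (Fin 2) (Fin 2) F) 0 0, ?_, ?_⟩))
    · have hdet := B.2
      rw [Matrix.det_fin_two, h.1, ← h.2.2] at hdet
      rw [Fintype.card_fin, sq]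
      linear_combination hdet
    · ext i j
      fin_cases i <;> fin_cases j <;> simp [Matrix.scalar_apply, h.1, h.2.1, h.2.2]
  have e : A * D = D * A := Subtype.ext (commute_two hB (congrArg Subtype.val (hlift hab))
    (congrArg Subtype.val (hlift hbd).symm))
  show (A : PSL₂) * (D : PSL₂) = (D : PSL₂) * (A : PSL₂)
  rw [← QuotientGroup.mk_mul, ← QuotientGroup.mk_mul, e]

/-- In `PSL(2, q)`, `q ≥ 7` odd, some involution has a non-abelian centraliser. -/
theorem exists_inv_centralizer_nonabelian [Fintype F] (hodd : Fintype.card F % 2 = 1)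
    (h7 : 7 ≤ Fintype.card F) :
    ∃ a b d : PSL₂, orderOf a = 2 ∧ Commute b a ∧ Commute d a ∧ ¬ Commute b d := by
  classical
  have h2 : (2 : F) ≠ 0 := Fus.PSLTwo.two_ne_zero_of_odd hodd
  obtain ⟨g, hg⟩ := IsCyclic.exists_ofOrder_eq_natCard (α := Fˣ)
  rw [Nat.card_units, Nat.card_eq_fintype_card] at hg
  set s : F := (g : F) with hsdef
  have hs0 : s ≠ 0 := g.ne_zero
  have hs4 : s ^ 4 ≠ 1 := by
    intro e
    have : g ^ 4 = 1 := Units.ext (by rw [Units.val_pow_eq_pow_val, e, Units.val_one])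
    have := Nat.le_of_dvd (by norm_num) (orderOf_dvd_of_pow_eq_one this)
    omega
  have hp : 1 + s * s ≠ 0 := fun e => hs4 (by linear_combination (s * s - 1) * e)
  have hm : 1 - s * s ≠ 0 := fun e => hs4 (by linear_combination -(1 + s * s) * e)
  set x : F := (1 - s * s) / (1 + s * s) with hxdef
  set y : F := 2 * s / (1 + s * s) with hydef
  have hx : x ≠ 0 := div_ne_zero hm hp
  have hy : y ≠ 0 := div_ne_zero (mul_ne_zero h2 hs0) hp
  have hxy : x * x + y * y = 1 := by
    rw [hxdef, hydef, div_mul_div_comm, div_mul_div_comm, ← add_div,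
      div_eq_one_iff_eq (mul_ne_zero hp hp)]
    ring
  obtain ⟨u, w, huw⟩ := Fus.PSLTwo.exists_sq_add_sq hodd (-1 : F)
  let T : SL₂ := Fus.PSLTwo.mk2 0 1 (-1) 0 (by ring)
  let R : SL₂ := Fus.PSLTwo.mk2 x y (-y) x (by linear_combination hxy)
  let V : SL₂ := Fus.PSLTwo.mk2 u w w (-u) (by linear_combination -huw)
  have hTR : Commute (R : PSL₂) (T : PSL₂) := by
    show (R : PSL₂) * (T : PSL₂) = (T : PSL₂) * (R : PSL₂)
    rw [← QuotientGroup.mk_mul, ← QuotientGroup.mk_mul]
    congr 1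
    apply Subtype.ext
    ext i j
    fin_cases i <;> fin_cases j <;>
      simp [T, R, Matrix.SpecialLinearGroup.coe_mul, Matrix.mul_apply, Fin.sum_univ_two]
  have hneg : (-1 : SL₂) ∈ Subgroup.center SL₂ := Matrix.SpecialLinearGroup.mem_center_iff.mpr
    ⟨-1, by simp, by rw [map_neg, map_one]; simp⟩
  have hTV : Commute (T : PSL₂) (V : PSL₂) := by
    show (T : PSL₂) * (V : PSL₂) = (V : PSL₂) * (T : PSL₂)
    rw [← QuotientGroup.mk_mul, ← QuotientGroup.mk_mul, QuotientGroup.eq]
    have e : V * T = (T * V) * (-1) := by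
      apply Subtype.ext
      ext i j
      fin_cases i <;> fin_cases j <;>
        simp [T, V, Matrix.SpecialLinearGroup.coe_mul, Matrix.mul_apply, Fin.sum_univ_two]
    rw [e, inv_mul_cancel_left]
    exact hneg
  have hne : ∀ {a b c d : F} (hd : a * d - b * c = 1),
      (Fus.PSLTwo.mk2 a b c d hd : PSL₂) = 1 → b = 0 ∧ c = 0 ∧ a = d := by
    intro a b c d hd e
    obtain ⟨r, -, hr⟩ := Matrix.SpecialLinearGroup.mem_center_iff.mp ((QuotientGroup.eq_one_iff _).mp e)
    have e00 := congrFun (congrFun hr 0) 0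
    have e01 := congrFun (congrFun hr 0) 1
    have e10 := congrFun (congrFun hr 1) 0
    have e11 := congrFun (congrFun hr 1) 1
    simp [Fus.PSLTwo.mk2, Matrix.scalar_apply] at e00 e01 e10 e11
    exact ⟨e01.symm, e10.symm, e00.symm.trans e11⟩
  have hT1 : (T : PSL₂) ≠ 1 := fun e => one_ne_zero (hne _ e).1
  have hT2 : (T : PSL₂) * (T : PSL₂) = 1 := by
    rw [← QuotientGroup.mk_mul, QuotientGroup.eq_one_iff]
    convert hneg
    apply Subtype.ext
    ext i j
    fin_cases i <;> fin_cases j <;>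
      simp [T, Matrix.SpecialLinearGroup.coe_mul, Matrix.mul_apply, Fin.sum_univ_two]
  refine ⟨(T : PSL₂), (R : PSL₂), (V : PSL₂), Invol.orderOf_two_iff.mpr ⟨hT2, hT1⟩, hTR, hTV.symm,
    fun hc => ?_⟩
  have hRV : (R : PSL₂) * (V : PSL₂) = (V : PSL₂) * (R : PSL₂) := hc.eq
  rw [← QuotientGroup.mk_mul, ← QuotientGroup.mk_mul, QuotientGroup.eq,
    Matrix.SpecialLinearGroup.mem_center_iff] at hRV
  obtain ⟨r, hr, hs⟩ := hRV
  rw [Fintype.card_fin] at hr
  have e : ((R * V : SL₂) : Matrix (Fin 2) (Fin 2) F) * Matrix.scalar (Fin 2) r =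
      ((V * R : SL₂) : Matrix (Fin 2) (Fin 2) F) := by
    rw [hs, ← Matrix.SpecialLinearGroup.coe_mul, mul_inv_cancel_left]
  have e00 := congrFun (congrFun e 0) 0
  have e01 := congrFun (congrFun e 0) 1
  simp [R, V, Matrix.mul_apply, Fin.sum_univ_two] at e00 e01
  have hr2 : r = 1 ∨ r = -1 := by
    rw [← mul_self_eq_one_iff, ← sq, hr]
  rcases hr2 with hr1 | hr1 <;> rw [hr1] at e00 e01
  · have hu : (2 : F) * (y * w) = 0 := by linear_combination e00
    have hw : (2 : F) * (y * u) = 0 := by linear_combination -e01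
    rcases mul_eq_zero.mp hu with h' | h'
    · exact h2 h'
    rcases mul_eq_zero.mp hw with h'' | h''
    · exact h2 h''
    rw [(mul_eq_zero.mp h').resolve_left hy, (mul_eq_zero.mp h'').resolve_left hy] at huw
    simp at huw
  · have hu : (2 : F) * (x * u) = 0 := by linear_combination -e00
    have hw : (2 : F) * (x * w) = 0 := by linear_combination -e01
    rcases mul_eq_zero.mp hu with h' | h'
    · exact h2 h'
    rcases mul_eq_zero.mp hw with h'' | h''
    · exact h2 h''
    rw [(mul_eq_zero.mp h').resolve_left hx, (mul_eq_zero.mp h'').resolve_left hx] at huw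
    simp at huw

end Linear

variable {G : Type u} [Group G] [Finite G]

theorem Cfg.all_inv {t : G} {S : Sylow 2 G} (c : Cfg t S) :
    ∀ a ∈ A t, a ≠ 1 → orderOf a = 2 := by
  by_contra hall
  have hn : ((A t).subgroupOf (MulAction.stabilizer G (Cfg.x0 t))).Normal := by
    rw [Cfg.stab_x0]; exact Subgroup.normal_in_normalizer
  rcases S0731.result c.zassenhaus (Cfg.x0 t) (A t) (Cfg.stab_x0.ge.trans' A_le_M) hn
    ⟨⟨fun a b => Subtype.ext (c.comm _ _ a.2 b.2)⟩⟩ (fun y z hy hz => c.A_reg hy hz) with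
    ⟨h3, -⟩ | ⟨K, i1, i2, hK, ⟨φ⟩⟩
  · refine hall fun a ha ha1 => ?_
    obtain ⟨y, hy⟩ := c.exists_ne
    have hmk : ∀ b ∈ A t, b ≠ 1 → ∃ e : Fin 3 ↪ (G ⧸ M t),
        e 0 = Cfg.x0 t ∧ e 1 = y ∧ e 2 = b • y := by
      intro b hb hb1
      have h1 : b • y ≠ y := fun e => hy (c.fix_A hb hb1 e)
      have h2 : b • y ≠ Cfg.x0 t := fun e =>
        hy (MulAction.injective b (e.trans (Cfg.smul_x0_iff.mpr (A_le_M hb)).symm))
      refine ⟨⟨![Cfg.x0 t, y, b • y], fun i j h => ?_⟩, rfl, rfl, rfl⟩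
      fin_cases i <;> fin_cases j <;> first | rfl | simp [hy, hy.symm, h1, h1.symm, h2, h2.symm] at h
    obtain ⟨e, he0, he1, he2⟩ := hmk t c.toPre.t_mem c.toPre.ht1
    obtain ⟨e', he0', he1', he2'⟩ := hmk a ha ha1
    obtain ⟨g, hg⟩ := MulAction.isMultiplyPretransitive_iff.mp h3 e e'
    have hg' : ∀ i, g • e i = e' i := fun i => by rw [← hg]; rfl
    have hgx : g • Cfg.x0 t = Cfg.x0 t := by
      have := hg' 0; rwa [he0, he0'] at this
    have hgy : g • y = y := by
      have := hg' 1; rwa [he1, he1'] at this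
    have hgz : g • t • y = a • y := by
      have := hg' 2; rwa [he2, he2'] at this
    have hconj : (g * t * g⁻¹) • y = a • y := by
      rw [mul_smul, mul_smul, inv_smul_eq_iff.mpr hgy.symm, hgz]
    have hmem : g * t * g⁻¹ ∈ A t := c.toPre.conj_mem_A (Cfg.smul_x0_iff.mp hgx) c.toPre.t_mem
    obtain ⟨r, -, hu⟩ := c.A_reg hy (z := a • y)
      (fun e => hy (MulAction.injective a (e.trans (Cfg.smul_x0_iff.mpr (A_le_M ha)).symm)))
    have heq : (g * t * g⁻¹ : G) = a :=
      congrArg Subtype.val ((hu ⟨_, hmem⟩ hconj).trans (hu ⟨a, ha⟩ rfl).symm)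
    rw [← heq, Invol.orderOf_conj_eq, c.ht]
  · have hodd : Fintype.card K % 2 = 1 := FiniteField.odd_card_of_char_ne_two hK
    have hcard := Lie.TwoPronormalPSL.card_psl_two (F := K) (Nat.odd_iff.mpr hodd)
    rw [← Nat.card_congr φ.toEquiv, c.card_G] at hcard
    -- size of the centraliser
    have hlt : ((A t).subgroupOf (M t)).index + 2 ≤ Nat.card (A t) := by
      obtain ⟨y, hy⟩ := c.exists_ne
      push Not at hall
      obtain ⟨a, ha, ha1, ha2⟩ := hall
      rw [← (c.base hy).2.1]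
      have hcard2 : Nat.card (Option (Option {i : G // orderOf i = 2 ∧ i ∈ M t})) ≤
          Nat.card (A t) := by
        refine Nat.card_le_card_of_injective (fun o => o.elim (⟨a, ha⟩ : A t) fun o' =>
          o'.elim 1 fun i => ⟨i.1, c.toPre.inv_mem_A i.2.2 i.2.1⟩) ?_
        rintro (_ | _ | i) (_ | _ | j) h <;> replace h := congrArg Subtype.val h
        · rfl
        · exact absurd h ha1
        · exact absurd (show orderOf a = 2 from (show a = (j : G) from h) ▸ j.2.1) ha2
        · exact absurd (show a = 1 from h.symm) ha1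
        · rfl
        · exact absurd (show (j : G) = 1 from h.symm) (Invol.ne_one_of_orderOf_two j.2.1)
        · exact absurd (show orderOf a = 2 from (show a = (i : G) from h.symm) ▸ i.2.1) ha2
        · exact absurd (show (i : G) = 1 from h) (Invol.ne_one_of_orderOf_two i.2.1)
        · exact congrArg (some ∘ some) (Subtype.ext (show (i : G) = (j : G) from h))
      rw [Finite.card_option, Finite.card_option] at hcard2
      exact hcard2
    have h1 := c.one_lt
    have hho := Nat.odd_iff.mp c.h_odd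
    have hev := c.two_dvd_card_A
    set h := ((A t).subgroupOf (M t)).index
    set n := Nat.card (A t)
    set q := Fintype.card K with hq
    have hq7 : 7 ≤ q := by
      by_contra hlt'
      have h3 : 3 ≤ h := by omega
      have h6 : 6 ≤ n := by omega
      have hb : 7 * (6 * 3) ≤ (n + 1) * (n * h) := by gcongr <;> omega
      have : q = 1 ∨ q = 3 ∨ q = 5 := by omega
      rcases this with e | e | e <;> rw [e] at hcard <;> omega
    obtain ⟨a, b, d, ha, hba, hda, hbd⟩ := exists_inv_centralizer_nonabelian hodd hq7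
    have hψ : orderOf (φ.symm a) = 2 := by rw [MulEquiv.orderOf_eq, ha]
    obtain ⟨g, hg⟩ := _root_.isConj_iff.mp (Invol.isConj_involutions (c.toPre.se c.ne_top) hψ c.ht)
    have hmem : ∀ x, Commute x a → g * φ.symm x * g⁻¹ ∈ A t := fun x hx => by
      refine mem_A.mpr ?_
      rw [← hg]
      simpa using (hx.map φ.symm).map (MulAut.conj g)
    have hc := ((c.comm _ _ (hmem b hba) (hmem d hda)).map (MulAut.conj g⁻¹)).map φ
    exact hbd (by simpa [mul_assoc] using hc)

/-- A configuration forces `PSL(2, 2^f)`. -/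
theorem Cfg.iso_psl {t : G} {S : Sylow 2 G} (c : Cfg t S) :
    ∃ (F : Type) (_ : Field F) (_ : Fintype F) (f : ℕ), 2 ≤ f ∧ Fintype.card F = 2 ^ f ∧
      Nonempty (G ≃* Matrix.ProjectiveSpecialLinearGroup (Fin 2) F) := by
  obtain ⟨F, i1, i2, f, hf, hF, ⟨e⟩⟩ := c.iso_pgl c.all_inv
  obtain ⟨e2⟩ := Block.SmallPSL.pgl_iso_psl (F := F) (by omega) hF hF
  exact ⟨F, i1, i2, f, hf, hF, ⟨e.trans e2⟩⟩

/-- A finite simple group with abelian centralisers is `PSL(2, 2^f)`. -/
theorem iso_psl (hct : IsCT G) [IsSimpleGroup G] (hna : ¬ IsMulCommutative G) :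
    ∃ (F : Type) (_ : Field F) (_ : Fintype F) (f : ℕ), 2 ≤ f ∧ Fintype.card F = 2 ^ f ∧
      Nonempty (G ≃* Matrix.ProjectiveSpecialLinearGroup (Fin 2) F) := by
  obtain ⟨t, S, c⟩ := exists_cfg hct hna
  exact c.iso_psl

theorem two_eq_zero {F : Type*} [Field F] [Fintype F] {f : ℕ} (hf : 1 ≤ f)
    (hF : Fintype.card F = 2 ^ f) : (2 : F) = 0 := by
  have h : ((Fintype.card F : ℕ) : F) = 0 := Nat.cast_card_eq_zero F
  rw [hF, Nat.cast_pow, Nat.cast_ofNat] at h
  exact pow_eq_zero_iff (by omega) |>.mp h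

end Cfsg.Agent.Fus.CTSimple
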