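import Cfsg.Prelude.Def_Classification2

/-!
Invariance of the predicate of known simple groups under isomorphism.
-/

set_option autoImplicit false

namespace Cfsg.Agent.Fus

theorem isKnownSimple'_congr {G H : Type*} [Group G] [Group H] (e : G ≃* H) :
    Cfsg.IsKnownSimple' G ↔ Cfsg.IsKnownSimple' H := by
  have key : ∀ {X : Type} [Group X], Nonempty (G ≃* X) ↔ Nonempty (H ≃* X) :=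
    ⟨fun ⟨f⟩ => ⟨e.symm.trans f⟩, fun ⟨f⟩ => ⟨e.trans f⟩⟩
  have hc : Nat.card G = Nat.card H := Nat.card_congr e.toEquiv
  simp only [Cfsg.IsKnownSimple', Cfsg.IsPrimeCyclic, Cfsg.IsAlternating, Cfsg.IsPSL, Cfsg.IsPSp,
    Cfsg.IsPSU, Cfsg.IsPOmegaOdd, Cfsg.IsPOmegaPlus, Cfsg.IsPOmegaMinus,
    Cfsg.IsExceptionalLieType, Cfsg.Lie.IsoChevG2, Cfsg.Lie.IsoF4, Cfsg.Lie.IsoChevE6,
    Cfsg.Lie.IsoE7, Cfsg.Lie.IsoE8, Cfsg.Lie.Iso2E6, Cfsg.Lie.Iso3D4, Cfsg.Lie.IsoSuzuki,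
    Cfsg.Lie.IsoRee, Cfsg.Lie.Iso2F4, Cfsg.Lie.IsoTits, Cfsg.Lie.ChevalleyDatum.IsGroupOver,
    Cfsg.IsSporadicGroup, Cfsg.Spor.IsoM11, Cfsg.Spor.IsoM12, Cfsg.Spor.IsoM22, Cfsg.Spor.IsoM23,
    Cfsg.Spor.IsoM24, Cfsg.Spor.IsoJ1, Cfsg.Spor.IsoJ2, Cfsg.Spor.IsoJ3, Cfsg.Spor.IsoJ4,
    Cfsg.Spor.IsoCo1, Cfsg.Spor.IsoCo2, Cfsg.Spor.IsoCo3, Cfsg.Spor.IsoMcL, Cfsg.Spor.IsoHS,
    Cfsg.Spor.IsoSuz, Cfsg.Spor.IsoHe, Cfsg.Spor.IsoRu, Cfsg.Spor.IsoON, Cfsg.Spor.IsoLy,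
    Cfsg.Spor.IsoFi22, Cfsg.Spor.IsoFi23, Cfsg.Spor.IsoFi24', Cfsg.Spor.IsoHN, Cfsg.Spor.IsoTh,
    Cfsg.Spor.IsoB, Cfsg.Spor.IsoM, key, hc]

end Cfsg.Agent.Fus
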