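import Cfsg.Agent.Lib.Fus.RankTwoPearl
import Cfsg.Agent.Lib.Transfer.OmegaFixed
import Cfsg.Agent.Lib.Transfer.RankOneCyclic
import Cfsg.Agent.Lib.Grp.Cores

/-!
For `p ≥ 5`, in a group of rank two no essential subgroup has a characteristic nonabelian subgroup
of order `p³` and exponent `p` detecting its automorphisms of order prime to `p`.
-/

set_option autoImplicit false
set_option linter.unusedSectionVars false
set_option linter.style.haveILetI false

universe u v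

namespace Cfsg.Agent.Fus.RankTwo

open Cfsg FusionSystem RankTwoAut TorusExt Invol.CubicStable
open Grp.SL2 (up low up_mul up_pow up_zero)

/-- Restriction of automorphisms to a characteristic subgroup. -/
def restrictChar {E : Type v} [Group E] (D : Subgroup E) [D.Characteristic] :
    MulAut E →* MulAut D where
  toFun α :=
    { toFun := fun x => ⟨α x, Subgroup.characteristic_iff_map_le.1 inferInstance α ⟨x, x.2, rfl⟩⟩
      invFun := fun x =>
        ⟨α.symm x, Subgroup.characteristic_iff_map_le.1 inferInstance α.symm ⟨x, x.2, rfl⟩⟩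
      left_inv := fun x => Subtype.ext (α.symm_apply_apply x)
      right_inv := fun x => Subtype.ext (α.apply_symm_apply x)
      map_mul' := fun x y => Subtype.ext (map_mul α (x : E) y) }
  map_one' := MulEquiv.ext fun _ => rfl
  map_mul' _ _ := MulEquiv.ext fun _ => rfl

@[simp] theorem restrictChar_apply {E : Type v} [Group E] (D : Subgroup E) [D.Characteristic]
    (α : MulAut E) (x : D) : ((restrictChar D α x : D) : E) = α x := rfl

variable {p : ℕ} [hp : Fact p.Prime]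

/-- An automorphism with two weights multiplies the centre by their product. -/
theorem Frame.map_z {D : Type v} [Group D] (f : Frame p D) {α : MulAut D} {μ ν : ZMod p}
    (h₀ : (f.x₀ ^ μ.val)⁻¹ * α f.x₀ ∈ Subgroup.center D)
    (h₁ : (f.x₁ ^ ν.val)⁻¹ * α f.x₁ ∈ Subgroup.center D) : α f.z = f.z ^ (μ * ν).val := by
  obtain ⟨m₀, hm₀⟩ := f.mem_center_iff.1 h₀
  obtain ⟨m₁, hm₁⟩ := f.mem_center_iff.1 h₁
  have e₀ : α f.x₀ = f.x₀ ^ μ.val * f.z ^ m₀ := inv_mul_eq_iff_eq_mul.1 hm₀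
  have e₁ : α f.x₁ = f.x₁ ^ ν.val * f.z ^ m₁ := inv_mul_eq_iff_eq_mul.1 hm₁
  have h1 := congrArg α f.rel
  rw [map_mul, map_mul, map_mul, map_inv, map_pow, e₀, e₁] at h1
  have hc : ∀ (n : ℕ) (d : D), Commute (f.z ^ n) d := fun n d => (f.hz d).pow_left n
  have h2 : f.x₁ ^ ν.val * f.x₀ ^ μ.val * (f.x₁ ^ ν.val)⁻¹ =
      f.x₀ ^ μ.val * f.z ^ (f.s * ν.val * μ.val) := by
    rw [← conj_pow, f.conj_x₁_pow, ((hc _ _).symm).mul_pow, ← pow_mul]
  rw [show f.x₁ ^ ν.val * f.z ^ m₁ * (f.x₀ ^ μ.val * f.z ^ m₀) * (f.x₁ ^ ν.val * f.z ^ m₁)⁻¹ =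
      f.x₁ ^ ν.val * (f.z ^ m₁ * (f.x₀ ^ μ.val * f.z ^ m₀) * (f.z ^ m₁)⁻¹) * (f.x₁ ^ ν.val)⁻¹ by
        group, (hc m₁ _).eq, mul_inv_cancel_right,
    show f.x₁ ^ ν.val * (f.x₀ ^ μ.val * f.z ^ m₀) * (f.x₁ ^ ν.val)⁻¹ =
      f.x₁ ^ ν.val * f.x₀ ^ μ.val * (f.x₁ ^ ν.val)⁻¹ *
        (f.x₁ ^ ν.val * f.z ^ m₀ * (f.x₁ ^ ν.val)⁻¹) by group,
    h2, ← (hc m₀ _).eq, mul_inv_cancel_right, mul_assoc (f.x₀ ^ μ.val), mul_assoc (f.x₀ ^ μ.val),
    mul_left_cancel_iff,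
    (hc _ (f.z ^ m₀)).eq, mul_left_cancel_iff] at h1
  obtain ⟨b, hb⟩ : ∃ b : ℕ, ((f.s * b : ℕ) : ZMod p) = ((1 : ℕ) : ZMod p) :=
    ⟨((f.s : ZMod p)⁻¹).val, by
      rw [Nat.cast_mul, ZMod.natCast_zmod_val, mul_inv_cancel₀ f.hs, Nat.cast_one]⟩
  have hzp : α f.z ^ p = 1 := by rw [← map_pow, f.hzp, map_one]
  have h3 := congrArg (· ^ b) h1.symm
  simp only [← pow_mul] at h3
  rw [pow_eq_of_cast hzp hb, pow_one] at h3
  refine h3.trans (pow_eq_of_cast f.hzp ?_)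
  simp only [Nat.cast_mul, Nat.cast_one, ZMod.natCast_zmod_val] at hb ⊢
  linear_combination (μ * ν) * hb

/-- An abelian `p`-group with at most `p` solutions of `x ^ p = 1` is cyclic. -/
theorem isCyclic_of_omega {A : Type v} [CommGroup A] [Finite A] (hA : IsPGroup p A)
    (h : Nat.card (powMonoidHom p : A →* A).ker ≤ p) : IsCyclic A := by
  set R := (powMonoidHom p : A →* A).range
  have hR : R ≤ frattini A := by
    rintro _ ⟨y, rfl⟩
    exact Grp.pGroup_pow_mem_frattini hA y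
  have hidx : R.index ≤ p := by
    refine le_trans (le_of_eq ?_) h
    have h1 := (powMonoidHom p : A →* A).ker.index_mul_card
    rw [Subgroup.index_ker] at h1
    exact Nat.eq_of_mul_eq_mul_left Nat.card_pos (((mul_comm _ _).trans R.index_mul_card).trans h1.symm)
  by_cases hRt : R = ⊤
  · have : (⊥ : Subgroup A) = ⊤ := frattini_nongenerating (eq_top_iff.2 (hRt.ge.trans (hR.trans le_sup_right)))
    haveI : Subsingleton A := subsingleton_of_bot_eq_top this |> fun _ => ⟨fun a b => by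
      have ha : a ∈ (⊥ : Subgroup A) := this ▸ Subgroup.mem_top a
      have hb : b ∈ (⊥ : Subgroup A) := this ▸ Subgroup.mem_top b
      rw [Subgroup.mem_bot] at ha hb
      rw [ha, hb]⟩
    infer_instance
  obtain ⟨x, hx⟩ : ∃ x, x ∉ R := by
    by_contra hne
    push Not at hne
    exact hRt (eq_top_iff.2 fun x _ => hne x)
  have htop : Subgroup.zpowers x ⊔ R = ⊤ := by
    refine Subgroup.index_eq_one.1 ?_
    have hd := Subgroup.index_dvd_of_le (le_sup_right : R ≤ Subgroup.zpowers x ⊔ R)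
    obtain ⟨i, hi⟩ := hA.index R
    obtain ⟨j, hj⟩ := hA.index (Subgroup.zpowers x ⊔ R)
    have hlt : (Subgroup.zpowers x ⊔ R).index < R.index :=
      Subgroup.index_strictAnti (lt_of_le_of_ne le_sup_right fun e =>
        hx (e.ge (Subgroup.mem_sup_left (Subgroup.mem_zpowers x))))
    rw [hj] at hlt ⊢
    rcases Nat.eq_zero_or_pos j with hj0 | hj0
    · rw [hj0, pow_zero]
    · have h2 : p ≤ p ^ j := Nat.le_self_pow hj0.ne' p
      omega
  refine ⟨x, fun a => ?_⟩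
  have : Subgroup.zpowers x = ⊤ :=
    frattini_nongenerating (top_le_iff.1 (htop.ge.trans (sup_le_sup_left hR _)))
  exact this.ge (Subgroup.mem_top a)

variable {Ω : Type u} [Group Ω] {S : Subgroup Ω} [Finite S] {F : FusionSystem S}

theorem ker_le_inn (hS : IsPGroup p S) {E : Subgroup Ω} (hE : F.IsEssential p E) {Q : Type v}
    [Group Q] (r : F.autGroup E →* MulAut Q)
    (h : ∀ g, r g = 1 → (orderOf g).Coprime p → g = 1) : ∀ g, r g = 1 → (g : MulAut E) ∈ Inn E := by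
  intro g hg
  haveI := finite_of_le hE.2.1.1
  haveI : Finite (MulAut E) := Finite.of_injective (fun e : MulAut E => (e : E → E)) DFunLike.coe_injective
  have hKp : IsPGroup p r.ker := by
    intro x
    refine ⟨(orderOf (x : F.autGroup E)).factorization p, Subtype.ext ?_⟩
    rw [SubmonoidClass.coe_pow, OneMemClass.coe_one]
    refine h _ ?_ ?_
    · rw [map_pow, MonoidHom.mem_ker.1 x.2, one_pow]
    · rw [orderOf_pow_of_dvd (pow_ne_zero _ hp.out.ne_zero) (Nat.ordProj_dvd _ _)]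
      exact (Nat.coprime_ordCompl hp.out (orderOf_pos (x : F.autGroup E)).ne').symm
  rw [← (radical_of_essential hS hE).2]
  exact ⟨g, Grp.le_pCore inferInstance hKp (MonoidHom.mem_ker.2 hg), rfl⟩

set_option maxHeartbeats 1600000 in
/-- The case of a nonabelian critical subgroup. -/
theorem extraspecial_case (hS : IsPGroup p S) (hF : F.IsSaturated p) (h5 : 5 ≤ p) (hR : RankLe p S)
    {E : Subgroup Ω} (hE : F.IsEssential p E) (D : Subgroup ↥E) [D.Characteristic] (f₁ : Frame p ↥D)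
    (hfix : ∀ α : MulAut E, (orderOf α).Coprime p → (∀ x ∈ D, α x = x) → α = 1) : False := by
  classical
  have hpp : p.Prime := hp.out
  have hodd : p ≠ 2 := by omega
  have hES : E ≤ S := hE.2.1.1
  haveI := finite_of_le hES
  haveI : Finite (MulAut E) := Finite.of_injective (fun e : MulAut E => (e : E → E)) DFunLike.coe_injective
  have hCE : centralizerIn S E ≤ E := hE.1.2 E (isConj_refl F hES)
  set q := QuotientGroup.mk' (Subgroup.center ↥D)
  set r := ((Frame.quotAut ↥D).comp (restrictChar D)).comp (F.autGroup E).subtype with hr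
  have hrap : ∀ (g : F.autGroup E) (d : D), r g (q d) = q (restrictChar D (g : MulAut E) d) :=
    fun g d => rfl
  have hker : ∀ g, r g = 1 → (g : MulAut E) ∈ Inn E := ker_le_inn hS hE r fun g hg hgp => by
    refine Subtype.ext ?_
    have hgp' : (orderOf (g : MulAut E)).Coprime p := by rwa [Subgroup.orderOf_coe]
    refine hfix _ hgp' fun x hx => ?_
    obtain ⟨d, hd⟩ := f₁.mem_inn_of_quotAut (α := restrictChar D (g : MulAut E)) hg
    have hDp : IsPGroup p D := (hS.to_le hES).to_subgroup D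
    obtain ⟨k, hk⟩ := hDp d
    have hone : restrictChar D (g : MulAut E) = 1 := by
      rw [← orderOf_eq_one_iff]
      refine Nat.eq_one_of_dvd_coprimes
        ((Nat.Coprime.pow_right k hgp').coprime_dvd_left (orderOf_map_dvd (restrictChar D) _))
        dvd_rfl (orderOf_dvd_of_pow_eq_one ?_)
      rw [← hd, ← map_pow, hk, map_one]
    exact congrArg (fun α : MulAut D => ((α ⟨x, hx⟩ : D) : E)) hone
  obtain ⟨u, huE, hu1, hg, hinn⟩ :=
    exists_nonnormal hS hCE r hker f₁.card_quot hF hE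
  obtain ⟨hup, hgen⟩ := TorusExt.exists_pow_eq hS hCE r hker f₁.card_quot hES hu1
  obtain ⟨e, s, hs, hau, htor⟩ := exists_torus hS hCE r hker f₁.card_quot f₁.quot_comm f₁.quot_exp hF
    hE.2.1 hu1 hg
  obtain ⟨X₀, hX₀⟩ := QuotientGroup.mk'_surjective (Subgroup.center ↥D)
    (e (Multiplicative.ofAdd (Pi.single 0 1)))
  obtain ⟨X₁, hX₁⟩ := QuotientGroup.mk'_surjective (Subgroup.center ↥D)
    (e (Multiplicative.ofAdd (Pi.single 1 1)))
  obtain ⟨f, hf₀, hf₁, -⟩ := f₁.exists_frame hodd (X₀ := X₀) (X₁ := X₁)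
    (fun h => coord_f₀_ne_one e (hX₀.symm.trans h)) fun q => by
      obtain ⟨i, j, h⟩ := exists_coord e q
      exact ⟨i, j, h.trans (by rw [← hX₀, ← hX₁]; rfl)⟩
  subst hf₀ hf₁
  set x₀ : Ω := (((f.x₀ : D) : E) : Ω) with hx₀
  set x₁ : Ω := (((f.x₁ : D) : E) : Ω) with hx₁
  set z : Ω := (((f.z : D) : E) : Ω) with hz
  have hx₀E : x₀ ∈ E := ((f.x₀ : D) : E).2
  have hx₁E : x₁ ∈ E := ((f.x₁ : D) : E).2
  have hzE : z ∈ E := ((f.z : D) : E).2
  have toΩ : ∀ {a b : D}, a = b → (((a : D) : E) : Ω) = (((b : D) : E) : Ω) := fun h =>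
    congrArg (fun d : D => ((d : E) : Ω)) h
  have hzp : z ^ p = 1 := by simpa using toΩ f.hzp
  have hx₀p : x₀ ^ p = 1 := by simpa using toΩ f.hx₀p
  have hx₁p : x₁ ^ p = 1 := by simpa using toΩ f.hx₁p
  have hrel : x₁ * x₀ * x₁⁻¹ = x₀ * z ^ f.s := by simpa using toΩ f.rel
  have hzx₀ : Commute z x₀ := toΩ (f.hz f.x₀).eq
  have hzx₁ : Commute z x₁ := toΩ (f.hz f.x₁).eq
  have hz1 : z ≠ 1 := fun h => f.hz1 (Subtype.ext (Subtype.ext h))
  have hnc : ¬ Commute x₁ x₀ := fun h => f.x₁_not_commute (Subtype.ext (Subtype.ext h.eq))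
  have hx₀z : x₀ ∉ Subgroup.zpowers z := by
    rintro ⟨k, hk⟩
    exact hnc (hk ▸ (hzx₁.zpow_left k).symm)
  -- the part centralizing `D`
  set C : Subgroup Ω := E ⊓ Subgroup.centralizer {x₀, x₁} with hC
  have hmemC : ∀ {a : Ω}, a ∈ C ↔ a ∈ E ∧ Commute a x₀ ∧ Commute a x₁ := fun {a} => by
    rw [hC, Subgroup.mem_inf, Subgroup.mem_centralizer_iff]
    refine and_congr_right fun _ => ⟨fun h => ⟨(h x₀ (by simp)).symm, (h x₁ (by simp)).symm⟩, ?_⟩
    rintro ⟨h1, h2⟩ y (rfl | rfl)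
    exacts [h1.symm.eq, h2.symm.eq]
  have hCS : C ≤ S := inf_le_left.trans hES
  haveI := finite_of_le hCS
  have hcomz : ∀ {a : Ω}, Commute a x₀ → Commute a x₁ → Commute a z := fun {a} h0 h1 => by
    have h2 : Commute a (x₀⁻¹ * (x₁ * x₀ * x₁⁻¹)) :=
      h0.inv_right.mul_right ((h1.mul_right h0).mul_right h1.inv_right)
    rw [hrel, inv_mul_cancel_left] at h2
    exact (commute_of_pow hzp f.hs h2.symm).symm
  have hx₀C : ∀ i : ℕ, x₀ ^ i ∈ C → (i : ZMod p) = 0 := fun i hi => by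
    by_contra h
    exact hnc (commute_of_pow hx₀p h (hmemC.1 hi).2.2).symm
  have hΩC : ∀ a ∈ C, a ^ p = 1 → ∃ i : ℕ, a = z ^ i := fun a ha hap => by
    obtain ⟨haE, h0, h1⟩ := hmemC.1 ha
    obtain ⟨i, j, rfl⟩ := hR.exists_pow_mul_of_commute (hES hzE) (hES hx₀E) (hES haE) hzp hx₀p hap
      hz1 hx₀z hzx₀ (hcomz h0 h1) h0
    refine ⟨i, ?_⟩
    have hj : (j : ZMod p) = 0 := hx₀C j (hmemC.2 ⟨E.pow_mem hx₀E j, (Commute.refl x₀).pow_left j, by
      have h2 := ((hzx₁.pow_left i).inv_left).mul_left h1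
      rwa [inv_mul_cancel_left] at h2⟩)
    rw [(pow_eq_of_cast hx₀p (b := 0) (by simpa using hj)).trans (pow_zero _), mul_one]
  have hdec : ∀ a ∈ E, ∃ i j : ℕ, ∃ b ∈ C, a = x₀ ^ i * x₁ ^ j * b := by
    intro a ha
    obtain ⟨d, hd⟩ := f.mem_inn_of_quotAut
      (α := restrictChar D ((cj F hES ⟨a, le_normalizerIn hES ha⟩ : F.autGroup E) : MulAut E))
      (hinn ⟨a, le_normalizerIn hES ha⟩ ha)
    obtain ⟨i, j, k, rfl⟩ := f.exists_word d
    have hact : ∀ w : D, x₀ ^ i * x₁ ^ j * z ^ k * ((w : E) : Ω) * (x₀ ^ i * x₁ ^ j * z ^ k)⁻¹ =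
        a * ((w : E) : Ω) * a⁻¹ := fun w => by
      have h := toΩ (show f.x₀ ^ i * f.x₁ ^ j * f.z ^ k * w * (f.x₀ ^ i * f.x₁ ^ j * f.z ^ k)⁻¹ = _
        from congrArg (fun α : MulAut D => α w) hd)
      simpa using h
    refine ⟨i, j, (x₀ ^ i * x₁ ^ j)⁻¹ * a, ?_, (mul_inv_cancel_left _ _).symm⟩
    have key : ∀ w : D, Commute (z ^ k) ((w : E) : Ω) →
        Commute ((x₀ ^ i * x₁ ^ j)⁻¹ * a) ((w : E) : Ω) := fun w hw => by
      have h := hact w
      rw [show x₀ ^ i * x₁ ^ j * z ^ k * ((w : E) : Ω) * (x₀ ^ i * x₁ ^ j * z ^ k)⁻¹ =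
        x₀ ^ i * x₁ ^ j * (z ^ k * ((w : E) : Ω) * (z ^ k)⁻¹) * (x₀ ^ i * x₁ ^ j)⁻¹ by group,
        hw.eq, mul_inv_cancel_right] at h
      show _ = _
      calc (x₀ ^ i * x₁ ^ j)⁻¹ * a * ((w : E) : Ω)
          = (x₀ ^ i * x₁ ^ j)⁻¹ * (a * ((w : E) : Ω) * a⁻¹) * a := by group
        _ = ((w : E) : Ω) * ((x₀ ^ i * x₁ ^ j)⁻¹ * a) := by rw [← h]; group
    exact hmemC.2 ⟨E.mul_mem (E.inv_mem (E.mul_mem (E.pow_mem hx₀E i) (E.pow_mem hx₁E j))) ha,
      key f.x₀ (hzx₀.pow_left k), key f.x₁ (hzx₁.pow_left k)⟩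
  -- `C` is central
  have hCcomm : ∀ a ∈ C, ∀ b ∈ C, Commute a b := by
    have hCp : IsPGroup p C := hS.to_le hCS
    have hcyc : IsCyclic C := by
      refine Transfer.RankOneCyclic.isCyclic_of_abelian_cyclic hodd hCp fun A hA => ?_
      letI : CommGroup A := { (inferInstance : Group A) with mul_comm := fun x y => hA.is_comm.comm x y }
      refine isCyclic_of_omega (hCp.to_subgroup A) ?_
      set K := (powMonoidHom p : A →* A).ker
      haveI := finite_of_le (Subgroup.zpowers_le.2 (hES hzE))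
      have hmemK : ∀ x : K, (((x : A) : C) : Ω) ∈ Subgroup.zpowers z := fun x => by
        obtain ⟨i, hi⟩ := hΩC _ ((x : A) : C).2 (by
          have := congrArg (fun w : A => ((w : C) : Ω)) (MonoidHom.mem_ker.1 x.2)
          simpa using this)
        rw [hi]
        exact Subgroup.pow_mem _ (Subgroup.mem_zpowers z) i
      refine le_trans (Nat.card_le_card_of_injective (fun x : K =>
        (⟨_, hmemK x⟩ : ↥(Subgroup.zpowers z))) fun x y h =>
          Subtype.ext (Subtype.ext (Subtype.ext (congrArg Subtype.val h :)))) ?_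
      rw [Nat.card_zpowers, orderOf_eq_prime hzp hz1]
    letI := IsCyclic.commGroup (α := C)
    exact fun a ha b hb => congrArg Subtype.val (mul_comm (⟨a, ha⟩ : C) ⟨b, hb⟩)
  have hCE' : ∀ c ∈ C, ∀ a ∈ E, Commute c a := fun c hc a ha => by
    obtain ⟨i, j, b, hb, rfl⟩ := hdec a ha
    exact (((hmemC.1 hc).2.1.pow_right i).mul_right ((hmemC.1 hc).2.2.pow_right j)).mul_right
      (hCcomm c hc b hb)
  have hzC : z ∈ C := hmemC.2 ⟨hzE, hzx₀, hzx₁⟩
  -- the torus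
  obtain ⟨c, hc0, hc1, hc2, -⟩ := exists_scalar (p := p) h5
  obtain ⟨t, β, htp, ht, hβ, hβt, hβN, hβu⟩ := htor c c⁻¹ (mul_inv_cancel₀ hc0)
  set T := restrictChar D (t : MulAut E) with hT
  have hT₀ : (f.x₀ ^ c.val)⁻¹ * T f.x₀ ∈ Subgroup.center D := by
    refine QuotientGroup.eq.1 (show q (f.x₀ ^ c.val) = q (T f.x₀) from ?_)
    rw [hT, ← hrap, map_pow, hX₀, ht]
    exact (act_dg e _ _ _).1.symm
  have hT₁ : (f.x₁ ^ (c⁻¹).val)⁻¹ * T f.x₁ ∈ Subgroup.center D := by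
    refine QuotientGroup.eq.1 (show q (f.x₁ ^ (c⁻¹).val) = q (T f.x₁) from ?_)
    rw [hT, ← hrap, map_pow, hX₁, ht]
    exact (act_dg e _ _ _).2.symm
  have hβz : β z = z := by
    rw [hz, hβt]
    have h := f.map_z hT₀ hT₁
    rw [mul_inv_cancel₀ hc0, ZMod.val_one, pow_one] at h
    exact toΩ h
  have hNE := le_normalizerIn (S := S) hES
  obtain ⟨m₀, hm₀⟩ : ∃ m₀ : ℕ, β x₀ = x₀ ^ c.val * z ^ m₀ := by
    obtain ⟨m, hm⟩ := f.mem_center_iff.1 hT₀
    refine ⟨m, ?_⟩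
    rw [hx₀, hβt]
    simpa [hT, hz] using toΩ (inv_mul_eq_iff_eq_mul.1 hm)
  obtain ⟨n₀, hn₀⟩ : ∃ n₀ : ℕ, β x₁ = x₁ ^ (c⁻¹).val * z ^ n₀ := by
    obtain ⟨m, hm⟩ := f.mem_center_iff.1 hT₁
    refine ⟨m, ?_⟩
    rw [hx₁, hβt]
    simpa [hT, hz] using toΩ (inv_mul_eq_iff_eq_mul.1 hm)
  have hβC : ∀ a ∈ C, β a = a := by
    have hmap : ∀ a ∈ C, β a ∈ C := by
      intro a ha
      obtain ⟨haE, h0, h1⟩ := hmemC.1 ha
      have hbE : β a ∈ E := by rw [show a = ((⟨a, haE⟩ : E) : Ω) from rfl, hβt]; exact SetLike.coe_mem _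
      have key : ∀ {y : Ω}, y ∈ E → Commute a y → Commute (β a) (β y) := fun {y} hy h => by
        show _ = _
        rw [← hβ.map_mul (hNE haE) (hNE hy), ← hβ.map_mul (hNE hy) (hNE haE), h.eq]
      have hb0 := key hx₀E h0
      have hb1 := key hx₁E h1
      have hbz := key hzE (hcomz h0 h1)
      rw [hβz] at hbz
      rw [hm₀] at hb0
      rw [hn₀] at hb1
      have h2 := hb0.mul_right (hbz.pow_right m₀).inv_right
      rw [mul_inv_cancel_right] at h2
      have h3 := hb1.mul_right (hbz.pow_right n₀).inv_right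
      rw [mul_inv_cancel_right] at h3
      exact hmemC.2 ⟨hbE,
        (commute_of_pow hx₀p (by rw [ZMod.natCast_zmod_val]; exact hc0) h2.symm).symm,
        (commute_of_pow hx₁p (by rw [ZMod.natCast_zmod_val]; exact inv_ne_zero hc0) h3.symm).symm⟩
    let γ : MulAut C := MulEquiv.ofBijective
      (MonoidHom.mk' (fun a : C => (⟨β a, hmap a a.2⟩ : C)) fun a b =>
        Subtype.ext (hβ.map_mul (hNE (hmemC.1 a.2).1) (hNE (hmemC.1 b.2).1)))
      ((Finite.injective_iff_bijective).1 fun a b h =>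
        Subtype.ext (hβ.injOn (hNE (hmemC.1 a.2).1) (hNE (hmemC.1 b.2).1) (congrArg Subtype.val h)))
    have hγ : ∀ (n : ℕ) (a : C), (((γ ^ n) a : C) : Ω) =
        (((t : MulAut E) ^ n) ⟨a, (hmemC.1 a.2).1⟩ : E) := by
      intro n
      induction n with
      | zero => intro a; rfl
      | succ n ih =>
        intro a
        rw [pow_succ', pow_succ', MulAut.mul_apply, MulAut.mul_apply]
        show β (((γ ^ n) a : C) : Ω) = _
        rw [ih, hβt]
    have hγ1 : γ = 1 := by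
      refine Transfer.aut_eq_one_of_fix_omega hodd (hS.to_le hCS) ?_ fun a hap => ?_
      · refine htp.coprime_dvd_left (orderOf_dvd_of_pow_eq_one ?_)
        refine MulEquiv.ext fun a => Subtype.ext ?_
        rw [hγ, ← SubgroupClass.coe_pow, pow_orderOf_eq_one]
        rfl
      · obtain ⟨i, hi⟩ := hΩC a a.2 (by simpa using congrArg Subtype.val hap)
        refine Subtype.ext ?_
        show β a = a
        rw [hi]
        clear hi
        induction i with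
        | zero => rw [pow_zero, hβ.map_one]
        | succ i ih => rw [pow_succ, hβ.map_mul (hNE (E.pow_mem hzE i)) (hNE hzE), ih, hβz]
    exact fun a ha => congrArg (fun g : MulAut C => ((g ⟨a, ha⟩ : C) : Ω)) hγ1
  have hpowβ : ∀ {a : Ω}, a ∈ normalizerIn S E → ∀ n : ℕ, β (a ^ n) = β a ^ n := fun {a} ha n => by
    induction n with
    | zero => rw [pow_zero, pow_zero, hβ.map_one]
    | succ n ih => rw [pow_succ, pow_succ, hβ.map_mul (pow_mem ha n) ha, ih]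
  -- `u` acts on the frame
  set n := (c * c).val with hn
  have huz : Commute (u : Ω) z := by
    obtain ⟨k, hk⟩ : ∃ k : ℕ, (u : Ω) * z * (u : Ω)⁻¹ = z ^ k := by
      have hmem : restrictChar D ((cj F hES u : F.autGroup E) : MulAut E) f.z ∈ Subgroup.center D :=
        (Subgroup.characteristic_iff_map_le.1 inferInstance _)
          ⟨_, f.mem_center_iff.2 ⟨1, (pow_one _).symm⟩, rfl⟩
      obtain ⟨k, hk⟩ := f.mem_center_iff.1 hmem
      exact ⟨k, by simpa using toΩ hk⟩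
    have hiter : ∀ m : ℕ, (u : Ω) ^ m * z * ((u : Ω) ^ m)⁻¹ = z ^ k ^ m := by
      intro m
      induction m with
      | zero => simp
      | succ m ih =>
        rw [pow_succ' (u : Ω), show (u : Ω) * (u : Ω) ^ m * z * ((u : Ω) * (u : Ω) ^ m)⁻¹ =
          (u : Ω) * ((u : Ω) ^ m * z * ((u : Ω) ^ m)⁻¹) * (u : Ω)⁻¹ by group, ih, ← conj_pow, hk,
          ← pow_mul, pow_succ']
    obtain ⟨N, hN⟩ := hS ⟨u, u.2.1⟩
    have hN' : (u : Ω) ^ p ^ N = 1 := by simpa using congrArg Subtype.val hN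
    have h1 := hiter (p ^ N)
    rw [hN', one_mul, inv_one, mul_one] at h1
    have h2 := cast_eq_of_pow hzp hz1 (a := 1) (b := k ^ p ^ N)
      (by rw [pow_one]; exact h1)
    rw [Nat.cast_one, Nat.cast_pow, ZMod.pow_card_pow] at h2
    refine mul_inv_eq_iff_eq_mul.1 (hk.trans ((pow_eq_of_cast hzp (b := 1) ?_).trans (pow_one z)))
    rw [Nat.cast_one]
    exact h2.symm
  obtain ⟨v, hvE, hvx₀, hvu, hvz⟩ : ∃ v : Ω, v ∈ normalizerIn S E ∧ Commute v x₀ ∧
      (∃ k : ℕ, v = x₁ ^ k * u) ∧ Commute v z := by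
    obtain ⟨j, hj⟩ : ∃ j : ℕ, (u : Ω) * x₀ * (u : Ω)⁻¹ = x₀ * z ^ j := by
      have h : q (restrictChar D ((cj F hES u : F.autGroup E) : MulAut E) f.x₀) = q f.x₀ := by
        rw [← hrap, hau, hX₀]; exact (act_up e s).1
      obtain ⟨j, hj⟩ := f.mem_center_iff.1 (QuotientGroup.eq.1 h.symm)
      exact ⟨j, by simpa using toΩ (inv_mul_eq_iff_eq_mul.1 hj)⟩
    set k := (-(j : ZMod p) * (f.s : ZMod p)⁻¹).val with hk
    refine ⟨x₁ ^ k * u, mul_mem (hNE (E.pow_mem hx₁E k)) u.2, ?_, ⟨k, rfl⟩,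
      (hzx₁.symm.pow_left k).mul_left huz⟩
    refine mul_inv_eq_iff_eq_mul.1 ?_
    have hpk : x₁ ^ k * x₀ * (x₁ ^ k)⁻¹ = x₀ * z ^ (f.s * k) := by
      simpa using toΩ (f.conj_x₁_pow k)
    rw [show x₁ ^ k * (u : Ω) * x₀ * (x₁ ^ k * (u : Ω))⁻¹ =
      x₁ ^ k * ((u : Ω) * x₀ * (u : Ω)⁻¹) * (x₁ ^ k)⁻¹ by group, hj,
      show x₁ ^ k * (x₀ * z ^ j) * (x₁ ^ k)⁻¹ =
        x₁ ^ k * x₀ * (x₁ ^ k)⁻¹ * (x₁ ^ k * z ^ j * (x₁ ^ k)⁻¹) by group, hpk,
      ← (hzx₁.pow_pow j k).eq, mul_inv_cancel_right, mul_assoc, ← pow_add]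
    refine mul_eq_left.2 ((pow_eq_of_cast hzp (b := 0) ?_).trans (pow_zero z))
    rw [Nat.cast_add, Nat.cast_mul, hk, ZMod.natCast_zmod_val, mul_left_comm,
      mul_inv_cancel₀ f.hs, mul_one, neg_add_cancel, Nat.cast_zero]
  obtain ⟨k, hvk⟩ := hvu
  have hvnE : v ∉ E := fun h => huE (by
    have := E.mul_mem (E.inv_mem (E.pow_mem hx₁E k)) h
    rwa [hvk, inv_mul_cancel_left] at this)
  obtain ⟨w, hwE, hw⟩ : ∃ w ∈ E, β v = w * v ^ n := by
    refine ⟨β v * (v ^ n)⁻¹, ?_, (inv_mul_cancel_right _ _).symm⟩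
    have hn' : ∀ m : ℕ, (x₁ ^ k * (u : Ω)) ^ m * ((u : Ω) ^ m)⁻¹ ∈ E := by
      intro m
      induction m with
      | zero => simp
      | succ m ih =>
        rw [show (x₁ ^ k * (u : Ω)) ^ (m + 1) * ((u : Ω) ^ (m + 1))⁻¹ =
          x₁ ^ k * ((u : Ω) * ((x₁ ^ k * (u : Ω)) ^ m * ((u : Ω) ^ m)⁻¹) * (u : Ω)⁻¹) by
            rw [pow_succ', pow_succ']; group]
        exact E.mul_mem (E.pow_mem hx₁E k) ((Subgroup.mem_normalizer_iff.1 u.2.2 _).1 ih)
    rw [hvk, hβ.map_mul (hNE (E.pow_mem hx₁E k)) u.2,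
      show β (x₁ ^ k) * β u * ((x₁ ^ k * (u : Ω)) ^ n)⁻¹ = β (x₁ ^ k) *
        ((β u * ((u : Ω) ^ n)⁻¹) * ((x₁ ^ k * (u : Ω)) ^ n * ((u : Ω) ^ n)⁻¹)⁻¹) by group]
    refine E.mul_mem ?_ (E.mul_mem hβu (E.inv_mem (hn' n)))
    rw [show x₁ ^ k = ((⟨x₁ ^ k, E.pow_mem hx₁E k⟩ : E) : Ω) from rfl, hβt]
    exact SetLike.coe_mem _
  -- `v` centralizes `C`
  have hn1 : ((n : ℕ) : ZMod p) = c * c := by rw [hn, ZMod.natCast_zmod_val]
  obtain ⟨a, b, hab⟩ : ∃ a b : ℕ, a * (n - 1) = b * p + 1 := by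
    have hn0 : 1 ≤ n := Nat.one_le_iff_ne_zero.2 fun h => by
      rw [h, Nat.cast_zero] at hn1
      exact mul_ne_zero hc0 hc0 hn1.symm
    have hne : ((n - 1 : ℕ) : ZMod p) ≠ 0 := by
      rw [Nat.cast_sub hn0, hn1, Nat.cast_one, sub_ne_zero]; exact hc2
    refine ⟨(((n - 1 : ℕ) : ZMod p)⁻¹).val, (((((n - 1 : ℕ) : ZMod p)⁻¹).val * (n - 1)) / p), ?_⟩
    have h1 : (((((n - 1 : ℕ) : ZMod p)⁻¹).val * (n - 1) : ℕ) : ZMod p) = ((1 : ℕ) : ZMod p) := by
      rw [Nat.cast_mul, ZMod.natCast_zmod_val, inv_mul_cancel₀ hne, Nat.cast_one]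
    rw [ZMod.natCast_eq_natCast_iff', Nat.one_mod_eq_one.2 hpp.ne_one] at h1
    conv_lhs => rw [← Nat.div_add_mod ((((n - 1 : ℕ) : ZMod p)⁻¹).val * (n - 1)) p]
    rw [h1, mul_comm p]
  obtain ⟨i, k₀, hk₀, hvp⟩ : ∃ i : ℕ, ∃ k₀ ∈ C, v ^ p = x₀ ^ i * k₀ := by
    have hvpE : v ^ p ∈ E := by
      have h1 := TorusExt.mem_of_map_eq hCE r hker hES (x := (⟨v, hvE⟩ : ↥(normalizerIn S E)) ^ p)
        (y := 1) (by
          obtain ⟨l, hl⟩ := hgen ⟨v, hvE⟩
          rw [map_pow, map_pow, hl, ← pow_mul, mul_comm, pow_mul, hup, one_pow, map_one, map_one])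
      rwa [OneMemClass.coe_one, inv_one, mul_one, SubmonoidClass.coe_pow] at h1
    obtain ⟨i, j, b₀, hb₀, heq⟩ := hdec _ hvpE
    refine ⟨i, b₀, hb₀, ?_⟩
    rcases eq_or_ne (j : ZMod p) 0 with hj | hj
    · rw [heq, (pow_eq_of_cast hx₁p (b := 0) (by simpa using hj)).trans (pow_zero _), mul_one]
    · exfalso
      have h1 : Commute (x₀ ^ i * x₁ ^ j * b₀) x₀ := heq ▸ hvx₀.pow_left p
      have h2 := h1.mul_left (hmemC.1 hb₀).2.1.inv_left
      rw [mul_inv_cancel_right] at h2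
      have h3 := ((Commute.refl x₀).pow_left i).inv_left.mul_left h2
      rw [inv_mul_cancel_left] at h3
      exact hnc (commute_of_pow hx₁p hj h3)
  have hvC : ∀ a' ∈ C, Commute v a' := by
    intro a' ha'
    have hca : v * a' * v⁻¹ ∈ C := by
      have hvaE := (Subgroup.mem_normalizer_iff.1 hvE.2 a').1 (hmemC.1 ha').1
      have key : ∀ y ∈ E, Commute (v * a' * v⁻¹) y := fun y hy => by
        have h := (hCE' a' ha' _ ((Subgroup.mem_normalizer_iff''.1 hvE.2 y).1 hy)).eq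
        show _ = _
        calc v * a' * v⁻¹ * y = v * (a' * (v⁻¹ * y * v)) * v⁻¹ := by group
          _ = v * (v⁻¹ * y * v * a') * v⁻¹ := by rw [h]
          _ = y * (v * a' * v⁻¹) := by group
      exact hmemC.2 ⟨hvaE, key _ hx₀E, key _ hx₁E⟩
    have h1 : v * a' * v⁻¹ = v ^ n * a' * (v ^ n)⁻¹ := by
      have h2 := hβC _ hca
      rw [hβ.map_conj hvE (hNE (hmemC.1 ha').1), hβC a' ha', hw] at h2
      have hvn : v ^ n * a' * (v ^ n)⁻¹ ∈ E :=
        (Subgroup.mem_normalizer_iff.1 (pow_mem hvE.2 n) a').1 (hmemC.1 ha').1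
      rw [show w * v ^ n * a' * (w * v ^ n)⁻¹ = w * (v ^ n * a' * (v ^ n)⁻¹) * w⁻¹ by group] at h2
      rw [show v ^ n * a' * (v ^ n)⁻¹ = w⁻¹ * (v * a' * v⁻¹) * w by rw [← h2]; group,
        mul_assoc w⁻¹, (hCE' _ hca w hwE).eq, inv_mul_cancel_left]
    have hn0 : 1 ≤ n := by
      by_contra h
      rw [Nat.lt_one_iff.1 (not_le.1 h), Nat.cast_zero] at hn1
      exact mul_ne_zero hc0 hc0 hn1.symm
    have h3 : Commute (v ^ (n - 1)) a' := by
      have h4 : v ^ (n - 1) * a' * (v ^ (n - 1))⁻¹ = v⁻¹ * (v ^ n * a' * (v ^ n)⁻¹) * v := by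
        conv_rhs => rw [← Nat.sub_add_cancel hn0, pow_succ']
        group
      rw [← h1, show v⁻¹ * (v * a' * v⁻¹) * v = a' by group] at h4
      exact mul_inv_eq_iff_eq_mul.1 h4
    have h5 : Commute (v ^ p) a' := hvp ▸
      (((hmemC.1 ha').2.1.symm.pow_left i).mul_left (hCcomm _ hk₀ _ ha'))
    have h6 := h3.pow_left a
    rw [← pow_mul, mul_comm, hab, pow_succ, mul_comm b, pow_mul] at h6
    have h7 := (h5.pow_left b).inv_left.mul_left h6
    rwa [inv_mul_cancel_left] at h7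
  obtain ⟨l, k', hk', hwl⟩ : ∃ l : ℕ, ∃ k' ∈ C, w = x₀ ^ l * k' := by
    have hbv : Commute (β v) x₀ := by
      refine (commute_of_pow hx₀p (a := c.val) (by rw [ZMod.natCast_zmod_val]; exact hc0) ?_).symm
      have h2 : β v * β x₀ = β x₀ * β v := by
        rw [← hβ.map_mul hvE (hNE hx₀E), ← hβ.map_mul (hNE hx₀E) hvE, hvx₀.eq]
      have h4 : β v * β z = β z * β v := by
        rw [← hβ.map_mul hvE (hNE hzE), ← hβ.map_mul (hNE hzE) hvE, hvz.eq]
      rw [hβz] at h4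
      have h3 := (show Commute (β v) (β x₀) from h2).mul_right
        (((show Commute (β v) z from h4).pow_right m₀).inv_right)
      rw [hm₀, mul_inv_cancel_right] at h3
      exact h3.symm
    rw [hw] at hbv
    have h6 := hbv.mul_left ((hvx₀.pow_left n).inv_left)
    rw [mul_inv_cancel_right] at h6
    obtain ⟨l, j, b₀, hb₀, rfl⟩ := hdec w hwE
    refine ⟨l, b₀, hb₀, ?_⟩
    rcases eq_or_ne (j : ZMod p) 0 with hj | hj
    · rw [(pow_eq_of_cast hx₁p (b := 0) (by simpa using hj)).trans (pow_zero _), mul_one]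
    · exfalso
      have h2 := h6.mul_left (hmemC.1 hb₀).2.1.inv_left
      rw [mul_inv_cancel_right] at h2
      have h3 := ((Commute.refl x₀).pow_left l).inv_left.mul_left h2
      rw [inv_mul_cancel_left] at h3
      exact hnc (commute_of_pow hx₁p hj h3)
  have hkx : ∀ {y : Ω}, y ∈ C → Commute x₀ y := fun hy => (hmemC.1 hy).2.1.symm
  have hvw : Commute w (v ^ n) := by
    rw [hwl]
    exact ((hvx₀.symm.pow_left l).mul_left (hvC k' hk').symm).pow_right n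
  have heq : x₀ ^ (c.val * i) * (z ^ (m₀ * i) * k₀) = x₀ ^ (i * n) * (k' ^ p * k₀ ^ n) := by
    have h1 : β (v ^ p) = x₀ ^ (c.val * i) * (z ^ (m₀ * i) * k₀) := by
      rw [hvp, hβ.map_mul (hNE (E.pow_mem hx₀E i)) (hNE (hmemC.1 hk₀).1), hpowβ (hNE hx₀E), hm₀,
        hβC k₀ hk₀, (hzx₀.symm.pow_pow _ _).mul_pow, ← pow_mul, ← pow_mul, mul_assoc]
    rw [← h1, hpowβ hvE, hw, hvw.mul_pow, hwl, ((hkx hk').pow_left l).mul_pow, ← pow_mul,
      mul_comm l p, pow_mul, hx₀p, one_pow, one_mul, ← pow_mul, mul_comm n p, pow_mul, hvp,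
      ((hkx hk₀).pow_left i).mul_pow, ← pow_mul, ← mul_assoc,
      ← ((hkx (C.pow_mem hk' p)).pow_left (i * n)).eq, mul_assoc]
  have hi : (i : ZMod p) = 0 := by
    by_contra hi
    have hC1 : z ^ (m₀ * i) * k₀ ∈ C := C.mul_mem (C.pow_mem hzC _) hk₀
    have hC2 : k' ^ p * k₀ ^ n ∈ C := C.mul_mem (C.pow_mem hk' _) (C.pow_mem hk₀ _)
    have hmem : x₀ ^ (c.val * i + (p - 1) * (i * n)) ∈ C := by
      have h2 : x₀ ^ (c.val * i + (p - 1) * (i * n)) =
          (k' ^ p * k₀ ^ n) * (z ^ (m₀ * i) * k₀)⁻¹ := by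
        refine eq_mul_inv_of_mul_eq ?_
        rw [pow_add,
          ((Commute.refl x₀).pow_pow (c.val * i) ((p - 1) * (i * n))).eq, mul_assoc, heq, ← mul_assoc,
          ← pow_add, show (p - 1) * (i * n) + i * n = p * (i * n) by
            rw [← Nat.succ_mul, Nat.succ_eq_add_one, Nat.sub_add_cancel hpp.one_le], pow_mul, hx₀p,
          one_pow, one_mul]
      rw [h2]
      exact C.mul_mem hC2 (C.inv_mem hC1)
    have h3 := hx₀C _ hmem
    rw [Nat.cast_add, Nat.cast_mul, Nat.cast_mul, Nat.cast_mul, ZMod.natCast_zmod_val,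
      Nat.cast_sub hpp.one_le, ZMod.natCast_self, Nat.cast_one, hn1] at h3
    refine hc1 (mul_left_cancel₀ hc0 (mul_right_cancel₀ hi ?_ : c * c = c * 1))
    linear_combination -h3
  have hp0 : ∀ m : ℕ, (m : ZMod p) = 0 → x₀ ^ m = 1 ∧ z ^ m = 1 := fun m hm =>
    ⟨(pow_eq_of_cast hx₀p (b := 0) (by simpa using hm)).trans (pow_zero _),
      (pow_eq_of_cast hzp (b := 0) (by simpa using hm)).trans (pow_zero _)⟩
  rw [(hp0 _ (by rw [Nat.cast_mul, hi, mul_zero])).1, one_mul,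
    (hp0 _ (by rw [Nat.cast_mul, hi, mul_zero])).2, one_mul,
    (hp0 _ (by rw [Nat.cast_mul, hi, zero_mul])).1, one_mul] at heq
  rw [(hp0 i hi).1, one_mul] at hvp
  -- `v ^ p` is a `p`th power in `C`
  obtain ⟨k₁, hk₁, hkk⟩ : ∃ k₁ ∈ C, k₀ = k₁ ^ p := by
    have hn0 : 1 ≤ n := Nat.one_le_iff_ne_zero.2 fun h => by
      rw [h, Nat.cast_zero] at hn1
      exact mul_ne_zero hc0 hc0 hn1.symm
    have hcc : Commute k' k₀ := hCcomm _ hk' _ hk₀
    refine ⟨(k' ^ a)⁻¹ * (k₀ ^ b)⁻¹, C.mul_mem (C.inv_mem (C.pow_mem hk' a))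
      (C.inv_mem (C.pow_mem hk₀ b)), ?_⟩
    have h2 : k₀ ^ (n - 1) = (k' ^ p)⁻¹ := by
      refine eq_inv_of_mul_eq_one_right (mul_right_cancel (b := k₀) ?_)
      rw [mul_assoc, ← pow_succ, Nat.sub_add_cancel hn0, one_mul]
      exact heq.symm
    have h3 := congrArg (· ^ a) h2
    simp only [← pow_mul, inv_pow] at h3
    rw [mul_comm (n - 1), hab, pow_succ'] at h3
    rw [((hcc.pow_pow a b).inv_inv).mul_pow, inv_pow, inv_pow, ← pow_mul, ← pow_mul, mul_comm a,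
      ← h3, mul_inv_cancel_right]
  have hvk₁ : Commute v k₁ := hvC k₁ hk₁
  have hfin : (v * k₁⁻¹) ^ p = 1 := by rw [hvk₁.inv_right.mul_pow, hvp, hkk, inv_pow, mul_inv_cancel]
  obtain ⟨hk₁E, hk₁x₀, hk₁x₁⟩ := hmemC.1 hk₁
  obtain ⟨i', j', hij⟩ := hR.exists_pow_mul_of_commute (hES hzE) (hES hx₀E)
    (S.mul_mem hvE.1 (S.inv_mem (hES hk₁E))) hzp hx₀p hfin hz1 hx₀z hzx₀
    (hvz.mul_left (hcomz hk₁x₀ hk₁x₁).inv_left) (hvx₀.mul_left hk₁x₀.inv_left)
  refine hvnE ?_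
  rw [mul_inv_eq_iff_eq_mul.1 hij]
  exact E.mul_mem (E.mul_mem (E.pow_mem hzE i') (E.pow_mem hx₀E j')) hk₁E

end Cfsg.Agent.Fus.RankTwo
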