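import Mathlib
import Cfsg.Prelude.Def_ClassicalGeometry

/-!
Totally isotropic frames: counting them and reading off orders of stabilisers of subspaces.
-/

set_option autoImplicit false

namespace Cfsg.Agent.Fus.FrameCount

open Module

variable {F V : Type*} [Field F] [AddCommGroup V] [Module F V]

/-- A map of a finite group whose fibres are the cosets of `K`. -/
theorem natCard_eq_mul {G X : Type*} [Group G] (f : G → X) (K : Subgroup G)
    (hK : ∀ a b, f a = f b ↔ a⁻¹ * b ∈ K) :
    Nat.card G = Nat.card (Set.range f) * Nat.card K := by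
  have hb : Function.Bijective (fun x : G ⧸ K => Quotient.liftOn' x
      (fun g => (⟨f g, g, rfl⟩ : Set.range f))
      fun a b h => Subtype.ext ((hK a b).2 (QuotientGroup.leftRel_apply.1 h))) := by
    constructor
    · intro x y h
      obtain ⟨a, rfl⟩ := QuotientGroup.mk_surjective x
      obtain ⟨b, rfl⟩ := QuotientGroup.mk_surjective y
      exact QuotientGroup.eq.2 ((hK a b).1 (congrArg Subtype.val h))
    · rintro ⟨_, g, rfl⟩
      exact ⟨(g : G ⧸ K), rfl⟩
  rw [Subgroup.card_eq_card_quotient_mul_card_subgroup K, Nat.card_congr (Equiv.ofBijective _ hb)]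

/-- Linearly independent, pairwise orthogonal, isotropic tuples. -/
abbrev Frame (F : Type*) {V : Type*} [Field F] [AddCommGroup V] [Module F V] (b : V → V → F) (k : ℕ) :
    Type _ :=
  {f : Fin k → V // LinearIndependent F f ∧ ∀ i j, b (f i) (f j) = 0}

/-- The vectors extending a frame. -/
abbrev Ext (F : Type*) {V : Type*} [Field F] [AddCommGroup V] [Module F V] (b : V → V → F) {k : ℕ}
    (f : Fin k → V) : Type _ :=
  {x : V // x ∉ Submodule.span F (Set.range f) ∧ (∀ i, b x (f i) = 0) ∧ b x x = 0}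

def frameSnoc (b : V → V → F) (hrefl : ∀ x y, b x y = 0 → b y x = 0) (k : ℕ)
    (p : Σ f : Frame F b k, Ext F b f.1) : Frame F b (k + 1) :=
  ⟨Fin.snoc p.1.1 p.2.1, linearIndependent_finSnoc.2 ⟨p.1.2.1, p.2.2.1⟩, fun i j => by
    induction i using Fin.lastCases with
    | last =>
      induction j using Fin.lastCases with
      | last => simp only [Fin.snoc_last]; exact p.2.2.2.2
      | cast j => simp only [Fin.snoc_last, Fin.snoc_castSucc]; exact p.2.2.2.1 j
    | cast i =>
      induction j using Fin.lastCases with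
      | last => simp only [Fin.snoc_last, Fin.snoc_castSucc]; exact hrefl _ _ (p.2.2.2.1 i)
      | cast j => simp only [Fin.snoc_castSucc]; exact p.1.2.2 i j⟩

theorem frameSnoc_bijective (b : V → V → F) (hrefl : ∀ x y, b x y = 0 → b y x = 0) (k : ℕ) :
    Function.Bijective (frameSnoc b hrefl k) := by
  constructor
  · rintro ⟨⟨f, hf⟩, x, hx⟩ ⟨⟨f', hf'⟩, x', hx'⟩ h
    have h' : Fin.snoc (α := fun _ => V) f x = Fin.snoc (α := fun _ => V) f' x' := congrArg Subtype.val h
    have h1 : f = f' := funext fun i => by simpa using congrFun h' i.castSucc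
    subst h1
    have h2 : x = x' := by simpa using congrFun h' (Fin.last k)
    subst h2
    rfl
  · rintro ⟨g, hg, hgb⟩
    have h : LinearIndependent F (Fin.snoc (Fin.init g) (g (Fin.last k))) := by
      rw [Fin.snoc_init_self]; exact hg
    exact ⟨⟨⟨Fin.init g, (linearIndependent_finSnoc.1 h).1, fun i j => hgb _ _⟩,
      ⟨g (Fin.last k), (linearIndependent_finSnoc.1 h).2, fun i => hgb _ _, hgb _ _⟩⟩,
      Subtype.ext (Fin.snoc_init_self g)⟩

theorem card_frame_succ [Finite V] (b : V → V → F) (hrefl : ∀ x y, b x y = 0 → b y x = 0)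
    (k c : ℕ) (hc : ∀ f : Frame F b k, Nat.card (Ext F b f.1) = c) :
    Nat.card (Frame F b (k + 1)) = Nat.card (Frame F b k) * c := by
  have : Finite (Frame F b k) := Subtype.finite
  have : ∀ f : Frame F b k, Finite (Ext F b f.1) := fun f => Subtype.finite
  have := Fintype.ofFinite (Frame F b k)
  rw [← Nat.card_congr (Equiv.ofBijective _ (frameSnoc_bijective b hrefl k)), Nat.card_sigma, Finset.sum_congr rfl fun f _ => hc f,
    Finset.sum_const, Finset.card_univ, Nat.card_eq_fintype_card, smul_eq_mul]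

theorem card_frame_zero (b : V → V → F) : Nat.card (Frame F b 0) = 1 := by
  refine Nat.card_eq_one_iff_unique.2 ⟨⟨fun f g => Subtype.ext (funext fun i => i.elim0)⟩,
    ⟨⟨fun i => i.elim0, linearIndependent_empty_type, fun i => i.elim0⟩⟩⟩

theorem card_bases [Fintype F] [Finite V] {k : ℕ} (W : Submodule F V) (hW : finrank F W = k) :
    Nat.card {f : Fin k → V // LinearIndependent F f ∧ ∀ i, f i ∈ W} =
      ∏ i : Fin k, (Fintype.card F ^ k - Fintype.card F ^ (i : ℕ)) := by
  have := Fintype.ofFinite W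
  have e : {s : Fin k → W // LinearIndependent F s} ≃
      {f : Fin k → V // LinearIndependent F f ∧ ∀ i, f i ∈ W} :=
    { toFun := fun s => ⟨fun i => (s.1 i : V), s.2.map' W.subtype W.ker_subtype, fun i => (s.1 i).2⟩
      invFun := fun f => ⟨fun i => ⟨f.1 i, f.2.2 i⟩, LinearIndependent.of_comp W.subtype f.2.1⟩
      left_inv := fun s => rfl
      right_inv := fun f => rfl }
  rw [← Nat.card_congr e, card_linearIndependent hW.ge, hW]

theorem span_eq_of_frame [FiniteDimensional F V] {k : ℕ} {W : Submodule F V} (hW : finrank F W = k)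
    {f : Fin k → V} (hf : LinearIndependent F f) (hfW : ∀ i, f i ∈ W) :
    Submodule.span F (Set.range f) = W := by
  refine Submodule.eq_of_le_of_finrank_eq (Submodule.span_le.2 (Set.range_subset_iff.2 hfW)) ?_
  rw [finrank_span_eq_card hf, Fintype.card_fin, hW]

section Stab

open Matrix

variable {E : Type*} [Field E] [Finite E] {ι : Type} [Fintype ι] [DecidableEq ι] {G : Type*} [Group G]
  (M : G →* Matrix ι ι E)

omit [Finite E] in
theorem injective_mulVec (g : G) : Function.Injective fun v : ι → E => M g *ᵥ v := fun u v h => by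
  have h := congrArg (fun x => M g⁻¹ *ᵥ x) h
  simpa [Matrix.mulVec_mulVec, ← map_mul] using h

theorem linearIndependent_image (g : G) {k : ℕ} {e : Fin k → ι → E} (he : LinearIndependent E e) :
    LinearIndependent E fun i => M g *ᵥ e i :=
  he.map' (M g).mulVecLin (LinearMap.ker_eq_bot.2 (injective_mulVec M g))

/-- Fixer of a tuple of vectors. -/
def fix {k : ℕ} (e : Fin k → ι → E) : Subgroup G where
  carrier := {g | ∀ i, M g *ᵥ e i = e i}
  mul_mem' {a b} ha hb i := by rw [map_mul, ← Matrix.mulVec_mulVec, hb i, ha i]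
  one_mem' i := by simp
  inv_mem' {a} ha i := by
    conv_lhs => rw [← ha i]
    rw [Matrix.mulVec_mulVec, ← map_mul, inv_mul_cancel, map_one, Matrix.one_mulVec]

omit [Finite E] in
theorem fibre_iff {k : ℕ} (e : Fin k → ι → E) (a b : G) :
    (fun i => M a *ᵥ e i) = (fun i => M b *ᵥ e i) ↔ a⁻¹ * b ∈ fix M e := by
  constructor
  · intro h i
    rw [map_mul, ← Matrix.mulVec_mulVec, ← congrFun h i, Matrix.mulVec_mulVec, ← map_mul,
      inv_mul_cancel, map_one, Matrix.one_mulVec]
  · intro h
    funext i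
    conv_lhs => rw [← h i]
    rw [Matrix.mulVec_mulVec, ← map_mul, mul_inv_cancel_left]

/-- Order of a group with a given orbit of tuples. -/
theorem card_eq_orbit {k : ℕ} (e : Fin k → ι → E) (P : Subgroup G) (hP : fix M e ≤ P)
    (p : (Fin k → ι → E) → Prop) (hp : ∀ f, p f ↔ ∃ g ∈ P, (fun i => M g *ᵥ e i) = f) :
    Nat.card P = Nat.card {f // p f} * Nat.card (fix M e) := by
  rw [natCard_eq_mul (fun g : P => fun i => M g.1 *ᵥ e i) ((fix M e).subgroupOf P)
    fun a b => (fibre_iff M e a.1 b.1).trans Iff.rfl, Nat.card_congr (Subgroup.subgroupOfEquivOfLe hP).toEquiv]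
  congr 1
  refine Nat.card_congr (Equiv.subtypeEquivRight fun f => ?_)
  rw [hp]
  exact ⟨fun ⟨g, h⟩ => ⟨g.1, g.2, h⟩, fun ⟨g, hg, h⟩ => ⟨⟨g, hg⟩, h⟩⟩

/-- Order of the stabiliser of a totally isotropic subspace, from transitivity on frames. -/
theorem card_stabilizing_mul (b : (ι → E) → (ι → E) → E) (hb : ∀ g u v, b (M g *ᵥ u) (M g *ᵥ v) = b u v)
    {k : ℕ} (W : Submodule E (ι → E)) (hWk : finrank E W = k) (hW : ∀ u ∈ W, ∀ v ∈ W, b u v = 0)
    (htr : ∀ e f : Frame E b k, ∃ g : G, ∀ i, M g *ᵥ e.1 i = f.1 i) :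
    Nat.card (Cfsg.stabilizing M (W : Set (ι → E))) * Nat.card (Frame E b k) =
      Nat.card {f : Fin k → ι → E // LinearIndependent E f ∧ ∀ i, f i ∈ W} * Nat.card G := by
  let B := Module.finBasisOfFinrankEq E W hWk
  let e : Fin k → ι → E := fun i => (B i : ι → E)
  have heW : ∀ i, e i ∈ W := fun i => (B i).2
  have he : LinearIndependent E e := B.linearIndependent.map' W.subtype W.ker_subtype
  have hspan := span_eq_of_frame hWk he heW
  have heF : LinearIndependent E e ∧ ∀ i j, b (e i) (e j) = 0 :=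
    ⟨he, fun i j => hW _ (heW i) _ (heW j)⟩
  have hle : ∀ (g : G), (∀ i, M g *ᵥ e i ∈ W) → g ∈ Cfsg.stabilizing M (W : Set (ι → E)) := by
    intro g hg v
    have h1 : W ≤ W.comap (M g).mulVecLin := by
      conv_lhs => rw [← hspan]
      exact Submodule.span_le.2 (Set.range_subset_iff.2 hg)
    refine ⟨fun hv => h1 hv, fun hv => ?_⟩
    have hbij : Function.Bijective ((M g).mulVecLin.restrict h1) :=
      Finite.injective_iff_bijective.1 fun x y h =>
        Subtype.ext (injective_mulVec M g (congrArg Subtype.val h))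
    obtain ⟨u, hu⟩ := hbij.2 ⟨_, hv⟩
    exact injective_mulVec M g (congrArg Subtype.val hu) ▸ u.2
  have h1 := card_eq_orbit M e (Cfsg.stabilizing M (W : Set (ι → E)))
    (fun g hg => hle g fun i => (hg i).symm ▸ heW i)
    (fun f => LinearIndependent E f ∧ ∀ i, f i ∈ W) fun f => by
      constructor
      · rintro ⟨hf, hfW⟩
        obtain ⟨g, hg⟩ := htr ⟨e, heF⟩ ⟨f, hf, fun i j => hW _ (hfW i) _ (hfW j)⟩
        exact ⟨g, hle g fun i => (hg i).symm ▸ hfW i, funext hg⟩
      · rintro ⟨g, hg, rfl⟩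
        exact ⟨linearIndependent_image M g he, fun i => (hg _).1 (heW i)⟩
  have h2 := card_eq_orbit M e (⊤ : Subgroup G) le_top
    (fun f => LinearIndependent E f ∧ ∀ i j, b (f i) (f j) = 0) fun f => by
      constructor
      · intro hf
        obtain ⟨g, hg⟩ := htr ⟨e, heF⟩ ⟨f, hf⟩
        exact ⟨g, Subgroup.mem_top g, funext hg⟩
      · rintro ⟨g, -, rfl⟩
        exact ⟨linearIndependent_image M g he, fun i j => by rw [hb]; exact heF.2 i j⟩
  rw [Subgroup.card_top] at h2
  rw [h1, h2, Frame]
  ring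

end Stab

end Cfsg.Agent.Fus.FrameCount
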