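import Cfsg.Agent.Lib.Lie.RepDegSUGen
import Cfsg.Prelude.Def_ClassicalGeometry

/-!
`SU_n(q)` is generated by transvections, each of them is a commutator, and `PSU_n(q)` is simple.
-/

set_option autoImplicit false
set_option linter.unusedSectionVars false

open scoped commutatorElement

namespace Cfsg.Agent.Fus.UnitTv

open Matrix Cfsg.Agent.Classical Cfsg.Agent.Classical.PSUAut Cfsg.Agent.Fus.UnitN

variable {F : Type*} [Field F] [Fintype F] {q n : ℕ}

local notation "V" => (Fin n → F)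
local notation "Mn" => Matrix (Fin n) (Fin n) F
local notation "SUn" => SU n F q
local notation "h" => hermForm n F q

variable (hF : Fintype.card F = q ^ 2)

local notation "cj" => qFrob hF

include hF

theorem ut_eq (v : V) (c : F) : unitaryTransvection n q v c = eMat q v 0 c := by
  refine Matrix.ext_iff_mulVec.2 fun x => ?_
  rw [tv_apply' hF, unitaryTransvection, Matrix.add_mulVec, Matrix.one_mulVec, Matrix.smul_mulVec,
    Matrix.vecMulVec_mulVec, show (fun j => v j ^ q) ⬝ᵥ x = h x v by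
      simp [hermForm, dotProduct, mul_comm], op_smul_eq_smul, smul_smul]

theorem eok_of_mem {v : V} {c : F} (hv0 : v ≠ 0) (hvv : h v v = 0) (A : SUn)
    (hA : suVal A = eMat q v 0 c) : EOK (q := q) v 0 c := by
  obtain ⟨y, P⟩ := exists_pair hF hv0 hvv
  have h1 := su_form A y y
  rw [hA, tv_apply' hF] at h1
  simp only [h_add_left, h_add_right hF, h_smul_left, h_smul_right hF, P.ff, P.ef, P.ee, P.fe hF,
    map_mul, map_one] at h1
  exact eOK_transvection hF hvv (by linear_combination h1)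

/-- `SU_n(q)` is generated by transvections. -/
theorem closure_transvections (hn : 3 ≤ n) (h32 : ¬ (n = 3 ∧ q = 2)) :
    Subgroup.closure {A : SUn | ∃ (v : V) (c : F), h v v = 0 ∧
      suVal A = unitaryTransvection n q v c} = ⊤ := by
  refine Lie.RepDegSU.eq_top_of_transvections hF ?_ ?_ hn h32
  · refine ⟨fun x hx g => ?_⟩
    have hg : ∀ y ∈ {A : SUn | ∃ (v : V) (c : F), h v v = 0 ∧
        suVal A = unitaryTransvection n q v c}, g * y * g⁻¹ ∈ {A : SUn | ∃ (v : V) (c : F),
          h v v = 0 ∧ suVal A = unitaryTransvection n q v c} := by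
      rintro A ⟨v, c, hv, hA⟩
      refine ⟨suVal g *ᵥ v, c, by rw [su_form, hv], ?_⟩
      rw [suVal_mul, suVal_mul, hA, ut_eq hF, ut_eq hF, eMat_conj hF, Matrix.mulVec_zero]
    have := Subgroup.mem_map_of_mem (MulAut.conj g).toMonoidHom hx
    rw [MonoidHom.map_closure] at this
    refine (Subgroup.closure_mono ?_) this
    rintro _ ⟨y, hy, rfl⟩
    exact hg y hy
  · intro v c H
    exact Subgroup.subset_closure ⟨v, c, H.ee, by rw [suVal_eSU, ut_eq hF]⟩

/-- Every transvection is a commutator. -/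
theorem mem_commutatorSet (hn : 3 ≤ n) {v : V} {c : F} (hvv : h v v = 0) (A : SUn)
    (hA : suVal A = eMat q v 0 c) : A ∈ commutatorSet SUn := by
  by_cases hv0 : v = 0
  · refine ⟨1, 1, ?_⟩
    rw [commutatorElement_self]
    refine suVal_ext (Matrix.ext_iff_mulVec.2 fun x => ?_)
    rw [hA, hv0, tv_apply' hF, smul_zero, add_zero]
    exact Matrix.one_mulVec x
  have H := eok_of_mem hF hv0 hvv A hA
  have hc : c + cj c = 0 := by
    have := H.cc
    rwa [cj_pow hF, h_zero_left, add_zero] at this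
  obtain ⟨y, P⟩ := exists_pair hF hv0 hvv
  obtain ⟨u, huv, -, huu⟩ := exists_aniso_orth hF hn P
  obtain ⟨γ, hγ⟩ := exists_trace_eq hF (a := (-1 : F)) (by rw [map_neg, map_one])
  obtain ⟨t, ht⟩ : ∃ t, t = c / h u u := ⟨_, rfl⟩
  have htt : cj t = -t := by
    rw [ht, map_div₀, cj_h_self hF, show cj c = -c by linear_combination hc, neg_div]
  obtain ⟨β, hβ⟩ : ∃ β, β = t * γ := ⟨_, rfl⟩
  have hβc : (cj β - β) * h u u = c := by
    rw [hβ, map_mul, htt, show -t * cj γ - t * γ = -t * (γ + cj γ) by ring, hγ, ht]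
    field_simp
  obtain ⟨c₁, H₁⟩ := EOK.exists_c hF hvv huv
  obtain ⟨c₂, H₂⟩ := EOK.exists_c hF hvv (w := β • u) (by rw [h_smul_left, huv, mul_zero])
  refine ⟨eSU hF H₁, eSU hF H₂, ?_⟩
  have e : eSU hF H₁ * eSU hF H₂ = A * (eSU hF H₂ * eSU hF H₁) := by
    rw [show A = eSU hF H from suVal_ext (hA.trans (suVal_eSU hF H).symm), eSU_mul, eSU_mul, eSU_mul]
    refine eSU_congr hF _ _ (by abel) ?_
    rw [h_zero_right hF, h_smul_left, h_smul_right hF]
    linear_combination hβc
  rw [commutatorElement_def, e]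
  group

/-- For a normal subgroup, related isotropic vectors: some element maps one line to the other. -/
def Rel (N : Subgroup SUn) (v w : V) : Prop := ∃ m ∈ N, ∃ a : F, a ≠ 0 ∧ suVal m *ᵥ v = a • w

theorem Rel.symm {N : Subgroup SUn} {v w : V} (r : Rel N v w) : Rel N w v := by
  obtain ⟨m, hm, a, ha, e⟩ := r
  refine ⟨m⁻¹, inv_mem hm, a⁻¹, inv_ne_zero ha, ?_⟩
  rw [show w = a⁻¹ • (suVal m *ᵥ v) by rw [e, smul_smul, inv_mul_cancel₀ ha, one_smul],
    Matrix.mulVec_smul, (inv_apply m v).1]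

theorem Rel.trans {N : Subgroup SUn} {u v w : V} (r : Rel N u v) (r' : Rel N v w) : Rel N u w := by
  obtain ⟨m, hm, a, ha, e⟩ := r
  obtain ⟨m', hm', a', ha', e'⟩ := r'
  exact ⟨m' * m, mul_mem hm' hm, a * a', mul_ne_zero ha ha', by
    rw [mulVec_mul, e, Matrix.mulVec_smul, e', smul_smul]⟩

theorem Rel.map {N : Subgroup SUn} (hN : N.Normal) (g : SUn) {v w : V} (r : Rel N v w) :
    Rel N (suVal g *ᵥ v) (suVal g *ᵥ w) := by
  obtain ⟨m, hm, a, ha, e⟩ := r
  exact ⟨g * m * g⁻¹, hN.conj_mem m hm g, a, ha, by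
    rw [mulVec_mul, mulVec_mul, (inv_apply g v).1, e, Matrix.mulVec_smul]⟩

theorem Rel.smul {N : Subgroup SUn} {v w : V} (r : Rel N v w) {b c : F} (hb : b ≠ 0) (hc : c ≠ 0) :
    Rel N (b • v) (c • w) := by
  obtain ⟨m, hm, a, ha, e⟩ := r
  refine ⟨m, hm, b * a / c, div_ne_zero (mul_ne_zero hb ha) hc, ?_⟩
  rw [Matrix.mulVec_smul, e, smul_smul, smul_smul, div_mul_cancel₀ _ hc]

theorem h_ne_of_pair {v w : V} (h1 : h v w = 1) (hw : h w w = 0) : ¬ ∃ a : F, v = a • w := by
  rintro ⟨a, rfl⟩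
  rw [h_smul_left, hw, mul_zero] at h1
  exact zero_ne_one h1

/-- An isotropic vector non-orthogonal to two orthogonal isotropic vectors. -/
theorem exists_common {v u : V} (hv : h v v = 0) (hvu : h v u = 0)
    (h1 : ¬ ∃ a : F, v = a • u) (h2 : ¬ ∃ a : F, u = a • v) :
    ∃ z, h z z = 0 ∧ h z v = 1 ∧ h z u = 1 := by
  obtain ⟨x₁, hx₁v, hx₁u⟩ := exists_sep hF h1
  obtain ⟨x₂, hx₂u, hx₂v⟩ := exists_sep hF h2
  have hxv : h (x₁ + x₂) v = 1 := by rw [h_add_left, hx₁v, hx₂v, add_zero]
  obtain ⟨a, ha⟩ := exists_trace_eq hF (a := -h (x₁ + x₂) (x₁ + x₂))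
    (by rw [map_neg, cj_h_self hF])
  refine ⟨x₁ + x₂ + a • v, ?_, ?_, ?_⟩
  · rw [h_add_left, h_add_right hF, h_add_right hF (a • v), h_smul_left, h_smul_right hF,
      h_smul_left, h_smul_right hF, hv, hxv, ← cj_h hF (x₁ + x₂) v, hxv, map_one]
    linear_combination ha
  · rw [h_add_left, hxv, h_smul_left, hv, mul_zero, add_zero]
  · rw [h_add_left, h_add_left, h_smul_left, hx₁u, hx₂u, hvu, mul_zero, add_zero, zero_add]

/-- A transvection fixing `v` moving `w` to a non-orthogonal vector. -/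
theorem exists_fix_move {v w : V} (hw : h w w = 0) (hwv : h w v = 0)
    (hne : ¬ ∃ a : F, w = a • v) :
    ∃ g : SUn, suVal g *ᵥ v = v ∧ h w (suVal g *ᵥ w) ≠ 0 := by
  obtain ⟨x, hxw, hxv⟩ := exists_sep hF hne
  obtain ⟨a, ha⟩ := exists_trace_eq hF (a := -h x x) (by rw [map_neg, cj_h_self hF])
  set y := x + a • w with hy
  have hyy : h y y = 0 := by
    rw [hy, h_add_left, h_add_right hF, h_add_right hF, h_smul_right hF, h_smul_left, h_smul_left,
      h_smul_right hF, hw, hxw, ← cj_h hF x w, hxw, map_one]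
    linear_combination ha
  have hyv : h y v = 0 := by rw [hy, h_add_left, h_smul_left, hxv, hwv, mul_zero, add_zero]
  have hyw : h y w = 1 := by rw [hy, h_add_left, h_smul_left, hxw, hw, mul_zero, add_zero]
  have hwy : h w y = 1 := by rw [← cj_h hF, hyw, map_one]
  obtain ⟨t, ht0, ht⟩ := exists_trace_zero hF
  refine ⟨eSU hF (eOK_transvection hF hyy ht), ?_, ?_⟩
  · rw [suVal_eSU, tv_apply' hF, h_comm_zero hF hyv, mul_zero, zero_smul, add_zero]
  · rw [suVal_eSU, tv_apply' hF, hwy, mul_one, h_add_right hF, h_smul_right hF, hw, hwy, zero_add,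
      mul_one]
    exact (map_ne_zero (qFrob hF)).2 ht0

/-- A normal subgroup of `SU_n(q)` not inside the centre is everything. -/
theorem eq_top_of_not_central (hn : 3 ≤ n) (h32 : ¬ (n = 3 ∧ q = 2)) {N : Subgroup SUn}
    (hN : N.Normal) (hnc : ¬ N ≤ Subgroup.center SUn) : N = ⊤ := by
  obtain ⟨v₀, hv₀0, hv₀⟩ := exists_isotropic hF (n := n) (by omega)
  -- a related non-orthogonal pair
  obtain ⟨v, w, P, r⟩ : ∃ v w, IsPair (q := q) v w ∧ Rel N v w := by
    obtain ⟨m, hm, v, hv, hv0, hne⟩ : ∃ m ∈ N, ∃ v : V, h v v = 0 ∧ v ≠ 0 ∧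
        ¬ ∃ a : F, suVal m *ᵥ v = a • v := by
      by_contra hcon
      push Not at hcon
      refine hnc fun m hm => ?_
      have hfix : ∀ (u : V) (c : F) (H : EOK (q := q) u 0 c),
          m * eSU hF H = eSU hF H * m := by
        intro u c H
        by_cases hu0 : u = 0
        · have : eSU hF H = 1 := suVal_ext (Matrix.ext_iff_mulVec.2 fun x => by
            rw [suVal_eSU, hu0, tv_apply' hF, smul_zero, add_zero]
            exact (Matrix.one_mulVec x).symm)
          rw [this, mul_one, one_mul]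
        obtain ⟨y, P⟩ := exists_pair hF hu0 H.ee
        obtain ⟨t, ht0, ht⟩ := exists_trace_zero hF
        have hy0 : y ≠ 0 := (P.swap hF).ne_zero
        have hz : h (u + t • y) (u + t • y) = 0 := by
          rw [h_add_left, h_add_right hF, h_add_right hF, h_smul_left, h_smul_left, h_smul_right hF,
            h_smul_right hF, P.ee, P.ff, P.ef, P.fe hF]
          linear_combination ht
        have hz0 : u + t • y ≠ 0 := fun h0 => by
          have h1 := congrArg (fun x => h x y) h0
          simp [h_add_left, h_smul_left, P.ef, P.ff, h_zero_left] at h1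
        obtain ⟨a, ha⟩ := hcon m hm u H.ee hu0
        obtain ⟨b, hb⟩ := hcon m hm y P.ff hy0
        obtain ⟨d, hd⟩ := hcon m hm _ hz hz0
        rw [Matrix.mulVec_add, Matrix.mulVec_smul, ha, hb] at hd
        have e1 := congrArg (fun x => h x y) hd
        have e2 := congrArg (fun x => h x u) hd
        simp only [h_add_left, h_smul_left, P.ef, P.ff, P.fe hF, P.ee, mul_zero, add_zero, mul_one,
          zero_add] at e1 e2
        have hab : a = b := by
          rw [e1]
          exact (mul_left_cancel₀ ht0 (by linear_combination e2 : t * b = t * d)).symm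
        have hn1 : a * cj a = 1 := by
          have h1 := su_form m u y
          rw [ha, hb, h_smul_left, h_smul_right hF, P.ef, ← hab, mul_one] at h1
          exact h1
        rw [← mul_inv_eq_iff_eq_mul, eSU_conj]
        refine suVal_ext ?_
        rw [suVal_eSU, suVal_eSU, ha, Matrix.mulVec_zero, tv_smul hF, hn1, one_mul]
      have hall : Subgroup.centralizer ({m} : Set SUn) = ⊤ := top_le_iff.1 <| by
        rw [← closure_transvections hF hn h32, Subgroup.closure_le]
        rintro A ⟨u, c, hu, hA⟩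
        rw [ut_eq hF] at hA
        refine Subgroup.mem_centralizer_singleton_iff.2 ?_
        by_cases hu0 : u = 0
        · have : A = 1 := suVal_ext (Matrix.ext_iff_mulVec.2 fun x => by
            rw [hA, hu0, tv_apply' hF, smul_zero, add_zero]
            exact (Matrix.one_mulVec x).symm)
          rw [this, one_mul, mul_one]
        · have H := eok_of_mem hF hu0 hu A hA
          rw [show A = eSU hF H from suVal_ext (hA.trans (suVal_eSU hF H).symm), hfix u c H]
      exact Subgroup.mem_center_iff.2 fun g =>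
        Subgroup.mem_centralizer_singleton_iff.1 (hall ▸ Subgroup.mem_top g)
    set w := suVal m *ᵥ v with hw
    have r : Rel N v w := ⟨m, hm, 1, one_ne_zero, (one_smul _ _).symm⟩
    have hww : h w w = 0 := by rw [hw, su_form, hv]
    have mk : ∀ {a b : V}, h a a = 0 → h b b = 0 → h a b ≠ 0 → Rel N a b →
        ∃ x y, IsPair (q := q) x y ∧ Rel N x y := fun {a b} ha hb hab r =>
      ⟨a, (cj (h a b))⁻¹ • b, ⟨ha, by rw [h_smul_left, h_smul_right hF, hb, mul_zero, mul_zero], by
        rw [h_smul_right hF, map_inv₀, cj_cj, inv_mul_cancel₀ hab]⟩, by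
        simpa using r.smul hF one_ne_zero (inv_ne_zero ((map_ne_zero (qFrob hF)).2 hab))⟩
    by_cases hvw : h v w = 0
    · obtain ⟨g, hgv, hgw⟩ := exists_fix_move hF hww (h_comm_zero hF hvw) hne
      have r' := Rel.map hF hN g r
      rw [hgv] at r'
      exact mk hww (by rw [su_form, hww]) hgw ((r.symm hF).trans hF r')
    · exact mk hv hww hvw r
  -- transitivity
  have non : ∀ a b : V, h a a = 0 → h b b = 0 → h a b ≠ 0 → Rel N a b := by
    intro a b ha hb hab
    have P' : IsPair (q := q) a ((cj (h a b))⁻¹ • b) := ⟨ha,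
      by rw [h_smul_left, h_smul_right hF, hb, mul_zero, mul_zero], by
        rw [h_smul_right hF, map_inv₀, cj_cj, inv_mul_cancel₀ hab]⟩
    obtain ⟨s, hs1, hs2⟩ := exists_su_pair hF hn P P'
    have r' := Rel.map hF hN s r
    rw [hs1, hs2] at r'
    have hc : cj (h a b) ≠ 0 := (map_ne_zero _).2 hab
    have r'' := r'.smul hF one_ne_zero hc
    rwa [one_smul, smul_smul, mul_inv_cancel₀ hc, one_smul] at r''
  have trans : ∀ a b : V, a ≠ 0 → b ≠ 0 → h a a = 0 → h b b = 0 → Rel N a b := by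
    intro a b ha0 hb0 ha hb
    by_cases hab : h a b = 0
    · by_cases h1 : ∃ c : F, a = c • b
      · obtain ⟨c, hc⟩ := h1
        have hc0 : c ≠ 0 := fun e => ha0 (by rw [hc, e, zero_smul])
        exact ⟨1, N.one_mem, c, hc0, by rw [suVal_one', Matrix.one_mulVec, hc]⟩
      have h2 : ¬ ∃ c : F, b = c • a := by
        rintro ⟨c, hc⟩
        have hc0 : c ≠ 0 := fun e => hb0 (by rw [hc, e, zero_smul])
        exact h1 ⟨c⁻¹, by rw [hc, smul_smul, inv_mul_cancel₀ hc0, one_smul]⟩
      obtain ⟨z, hz, hza, hzb⟩ := exists_common hF ha hab h1 h2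
      have haz : h a z ≠ 0 := by rw [← cj_h hF, hza, map_one]; exact one_ne_zero
      exact (non a z ha hz haz).trans hF (non z b hz hb (hzb.symm ▸ one_ne_zero))
    · exact non a b ha hb hab
  -- the transvection group of `v₀`
  let T : Subgroup SUn :=
    { carrier := {s | ∃ c, c + cj c = 0 ∧ suVal s = eMat q v₀ 0 c}
      one_mem' := ⟨0, by simp, by rw [suVal_one', eMat_zero hF]⟩
      mul_mem' := by
        rintro s t ⟨c, hc, hs⟩ ⟨d, hd, ht⟩
        refine ⟨c + d, by rw [map_add]; linear_combination hc + hd, ?_⟩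
        rw [suVal_mul, hs, ht, eMat_mul hF (eOK_transvection hF hv₀ hc) (eOK_transvection hF hv₀ hd),
          add_zero, h_zero_left, sub_zero]
      inv_mem' := by
        rintro s ⟨c, hc, hs⟩
        refine ⟨-c, by rw [map_neg]; linear_combination -hc, ?_⟩
        have hc' : -c + cj (-c) = 0 := by rw [map_neg]; linear_combination -hc
        rw [show s⁻¹ = eSU hF (eOK_transvection hF hv₀ hc') from
          inv_eq_of_mul_eq_one_right (suVal_ext (by
            rw [suVal_mul, hs, suVal_eSU, eMat_mul hF (eOK_transvection hF hv₀ hc)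
              (eOK_transvection hF hv₀ hc'), add_zero, h_zero_left, sub_zero, add_neg_cancel,
              eMat_zero hF, suVal_one'])), suVal_eSU] }
  have hTab : ∀ s ∈ T, ∀ t ∈ T, s * t = t * s := by
    rintro s ⟨c, hc, hs⟩ t ⟨d, hd, ht⟩
    refine suVal_ext ?_
    rw [suVal_mul, suVal_mul, hs, ht,
      eMat_mul hF (eOK_transvection hF hv₀ hc) (eOK_transvection hF hv₀ hd),
      eMat_mul hF (eOK_transvection hF hv₀ hd) (eOK_transvection hF hv₀ hc), h_zero_left, add_comm c d]
  have htop : N ⊔ T = ⊤ := top_le_iff.1 <| by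
    rw [← closure_transvections hF hn h32, Subgroup.closure_le]
    rintro A ⟨u, c, hu, hA⟩
    rw [ut_eq hF] at hA
    by_cases hu0 : u = 0
    · have : A = 1 := suVal_ext (Matrix.ext_iff_mulVec.2 fun x => by
        rw [hA, hu0, tv_apply' hF, smul_zero, add_zero]
        exact (Matrix.one_mulVec x).symm)
      rw [this]
      exact one_mem _
    obtain ⟨m, hm, a, ha, hma⟩ := trans v₀ u hv₀0 hu0 hv₀ hu
    have H := eok_of_mem hF hu0 hu A hA
    have hcc := H.cc
    rw [cj_pow hF, h_zero_left, add_zero] at hcc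
    obtain ⟨d, hd⟩ : ∃ d, d = c / (a * cj a) := ⟨_, rfl⟩
    have haa : a * cj a ≠ 0 := mul_ne_zero ha ((map_ne_zero _).2 ha)
    have hd' : d + cj d = 0 := by
      rw [hd, map_div₀, map_mul, cj_cj, mul_comm (cj a) a, ← add_div, hcc, zero_div]
    have hT : eSU hF (eOK_transvection hF hv₀ hd') ∈ T := ⟨d, hd', suVal_eSU hF _⟩
    have e : A = m * eSU hF (eOK_transvection hF hv₀ hd') * m⁻¹ := suVal_ext (by
      rw [suVal_mul, suVal_mul, suVal_eSU, eMat_conj hF, hma, Matrix.mulVec_zero, tv_smul hF, hA,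
        hd, mul_div_cancel₀ _ haa])
    rw [e]
    exact mul_mem (mul_mem (Subgroup.mem_sup_left hm) (Subgroup.mem_sup_right hT))
      (Subgroup.mem_sup_left (inv_mem hm))
  refine top_le_iff.1 ?_
  rw [← closure_transvections hF hn h32, Subgroup.closure_le]
  rintro A ⟨u, c, hu, hA⟩
  rw [ut_eq hF] at hA
  obtain ⟨x, y, rfl⟩ := mem_commutatorSet hF hn hu A hA
  have := hN
  have hmk : ∀ g : SUn, ∃ t ∈ T, QuotientGroup.mk' N g = QuotientGroup.mk' N t := fun g => by
    obtain ⟨m, hm, t, ht, rfl⟩ := Subgroup.mem_sup_of_normal_left.1 (htop.ge (Subgroup.mem_top g))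
    refine ⟨t, ht, ?_⟩
    rw [map_mul, show QuotientGroup.mk' N m = 1 from (QuotientGroup.eq_one_iff m).2 hm, one_mul]
  obtain ⟨s, hs, hxs⟩ := hmk x
  obtain ⟨t, ht, hyt⟩ := hmk y
  refine (QuotientGroup.eq_one_iff (N := N) _).1 ?_
  show QuotientGroup.mk' N ⁅x, y⁆ = 1
  rw [map_commutatorElement, hxs, hyt, ← map_commutatorElement,
    commutatorElement_eq_one_iff_mul_comm.2 (hTab s hs t ht), map_one]

/-- `PSU_n(q)` is simple. -/
theorem isSimpleGroup_psu (hn : 3 ≤ n) (h32 : ¬ (n = 3 ∧ q = 2)) :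
    IsSimpleGroup (PSU n F q) := by
  obtain ⟨v, hv0, hv⟩ := exists_isotropic hF (n := n) (by omega)
  obtain ⟨t, ht0, ht⟩ := exists_trace_zero hF
  have hnc : eSU hF (eOK_transvection hF hv ht) ∉ Subgroup.center SUn := fun hc => by
    obtain ⟨l, hl⟩ := (pi_eq_one_iff hF).1 ((QuotientGroup.eq_one_iff _).2 hc)
    obtain ⟨y, P⟩ := exists_pair hF hv0 hv
    have h1 := congrArg (fun M : Mn => h (M *ᵥ y) y) hl
    have h2 := congrArg (fun M : Mn => h (M *ᵥ v) y) hl
    simp only [suVal_eSU, tv_apply' hF, Matrix.smul_mulVec, Matrix.one_mulVec, h_add_left,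
      h_smul_left, P.fe hF, P.ee, P.ef, P.ff, mul_zero, zero_smul, add_zero, mul_one, zero_add] at h1 h2
    exact ht0 h1
  have : Nontrivial (PSU n F q) :=
    ⟨⟨_, 1, fun h0 => hnc ((QuotientGroup.eq_one_iff _).1 h0)⟩⟩
  refine ⟨fun K hK => ?_⟩
  have hq : Function.Surjective (QuotientGroup.mk' (Subgroup.center SUn)) :=
    QuotientGroup.mk'_surjective _
  rw [← Subgroup.map_comap_eq_self_of_surjective hq K]
  by_cases hle : K.comap (QuotientGroup.mk' (Subgroup.center SUn)) ≤ Subgroup.center SUn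
  · left
    exact (Subgroup.map_eq_bot_iff _).2 (by rwa [QuotientGroup.ker_mk'])
  · right
    rw [eq_top_of_not_central hF hn h32 (hK.comap _) hle]
    exact Subgroup.map_top_of_surjective _ hq

end Cfsg.Agent.Fus.UnitTv
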