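import Cfsg.Agent.Lib.Fus.PSUFourTwoData
import Cfsg.Agent.Lib.Fus.UnitTransvection
import Cfsg.Agent.Lib.Fus.FrameCount
import Cfsg.Agent.Lib.Classical.SympGen

/-!
`PSU_4(2) ≅ PSp_4(3)`, through the actions on 40 points.
-/

set_option autoImplicit false

namespace Cfsg.Agent.Fus.PSUFourTwo

open Matrix

section Points

variable {E ι : Type*} [Field E] [Fintype ι] [DecidableEq ι] {G : Type*} [Group G] {n : ℕ}
  (M : G →* Matrix ι ι E) (p : Fin n → ι → E) (P : (ι → E) → Prop)
  (hP : ∀ g v, P v → P (M g *ᵥ v)) (hp : ∀ i, P (p i))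
  (hex : ∀ v, P v → ∃ i, ∃ c : E, c ≠ 0 ∧ v = c • p i)
  (huniq : ∀ i j, ∀ c : E, p j = c • p i → j = i)

include hP hp hex huniq

theorem exists_perm_hom : ∃ f : G →* Equiv.Perm (Fin n),
    ∀ g i, ∃ c : E, c ≠ 0 ∧ M g *ᵥ p i = c • p (f g i) := by
  choose π c hc hπ using fun g i => hex _ (hP g _ (hp i))
  have hu : ∀ g i j, ∀ d : E, M g *ᵥ p i = d • p j → π g i = j := fun g i j d hd => by
    refine huniq j (π g i) ((c g i)⁻¹ * d) ?_
    rw [← smul_smul, ← hd, hπ, smul_smul, inv_mul_cancel₀ (hc g i), one_smul]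
  have hmul : ∀ g h i, π (g * h) i = π g (π h i) := fun g h i =>
    hu _ _ _ (c h i * c g (π h i)) (by rw [map_mul, ← Matrix.mulVec_mulVec, hπ, Matrix.mulVec_smul, hπ, smul_smul])
  have hone : ∀ i, π 1 i = i := fun i => hu _ _ _ 1 (by rw [map_one, Matrix.one_mulVec, one_smul])
  refine ⟨{ toFun := fun g => ⟨π g, π g⁻¹, fun i => by rw [← hmul, inv_mul_cancel, hone],
              fun i => by rw [← hmul, mul_inv_cancel, hone]⟩
            map_one' := Equiv.ext hone
            map_mul' := fun g h => Equiv.ext (hmul g h) }, fun g i => ⟨c g i, hc g i, hπ g i⟩⟩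

omit hP hp hex in
theorem perm_eq {f : G →* Equiv.Perm (Fin n)} (hf : ∀ g i, ∃ c : E, c ≠ 0 ∧ M g *ᵥ p i = c • p (f g i))
    {g : G} {i j : Fin n} {d : E} (h : M g *ᵥ p i = d • p j) : f g i = j := by
  obtain ⟨c, hc, hc'⟩ := hf g i
  refine huniq j (f g i) (c⁻¹ * d) ?_
  rw [← smul_smul, ← h, hc', smul_smul, inv_mul_cancel₀ hc, one_smul]

end Points

section Field4

variable {F : Type*} [Field F] {w : F}

/-- Decoding of `F_4`. -/
def dec (w : F) (a : Fin 4) : F := ![0, 1, w, w + 1] a

variable (h2 : (2 : F) = 0) (hw : w * w = w + 1)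

include h2 hw

omit hw in
theorem dec_add (a b : Fin 4) : dec w (add4 a b) = dec w a + dec w b := by
  fin_cases a <;> fin_cases b <;> simp [dec, add4, Fin.ofNat] <;>
    first
      | linear_combination h2
      | linear_combination w * h2
      | linear_combination (w + 1) * h2
      | linear_combination -h2
      | linear_combination (-w) * h2
      | linear_combination -(w + 1) * h2
      | ring

theorem dec_mul (a b : Fin 4) : dec w (mul4 a b) = dec w a * dec w b := by
  fin_cases a <;> fin_cases b <;> simp [dec, mul4, Fin.ofNat] <;>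
    first
      | linear_combination -hw
      | linear_combination -hw - h2
      | linear_combination -hw - w * h2
      | linear_combination -hw - (w + 1) * h2

omit h2 hw in
theorem dec_eq_zero (h0 : w ≠ 0) (h1 : w + 1 ≠ 0) {a : Fin 4} : dec w a = 0 ↔ a = 0 := by
  fin_cases a <;> simp [dec, h0, h1]

theorem dec_sq (a : Fin 4) : dec w a ^ 2 = dec w (mul4 a a) := by rw [dec_mul h2 hw, sq]

theorem hermForm_dec (u v : Fin 4 → Fin 4) :
    Cfsg.hermForm 4 F 2 (fun l => dec w (u l)) (fun l => dec w (v l)) = dec w (herm4 u v) := by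
  simp only [Cfsg.hermForm, Fin.sum_univ_four, dec_sq h2 hw, herm4, dec_add h2, dec_mul h2 hw]

end Field4

theorem exists_omega {F : Type*} [Field F] [Fintype F] (hF : Fintype.card F = 4) :
    ∃ w : F, (2 : F) = 0 ∧ w * w = w + 1 ∧ w ≠ 0 ∧ w + 1 ≠ 0 ∧ Function.Bijective (dec w) := by
  classical
  have h2 : (2 : F) = 0 := by
    obtain ⟨p, hp⟩ := CharP.exists F
    obtain ⟨k, hpp, hk⟩ := FiniteField.card F p
    have hdvd : p ∣ 2 ^ 2 := by rw [show (2 : ℕ) ^ 2 = Fintype.card F from hF.symm, hk]; exact dvd_pow_self p k.ne_zero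
    obtain rfl := (Nat.prime_dvd_prime_iff_eq hpp Nat.prime_two).1 (hpp.dvd_of_dvd_pow hdvd)
    exact_mod_cast CharP.cast_eq_zero F 2
  obtain ⟨w, hw0, hw1⟩ : ∃ w : F, w ≠ 0 ∧ w ≠ 1 := by
    by_contra hcon
    push Not at hcon
    have : (Finset.univ : Finset F) ⊆ {0, 1} := fun a _ => by
      by_cases h0 : a = 0
      · simp [h0]
      · simp [hcon a h0]
    have := (Finset.card_le_card this).trans Finset.card_le_two
    rw [Finset.card_univ, hF] at this
    omega
  have hw3 : w ^ 3 = 1 := by
    have := FiniteField.pow_card_sub_one_eq_one w hw0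
    rwa [hF] at this
  have hww : w * w = w + 1 := by
    have h : (w - 1) * (w * w + w + 1) = 0 := by linear_combination hw3
    have := (mul_eq_zero.1 h).resolve_left (sub_ne_zero.2 hw1)
    linear_combination this - (w + 1) * h2
  have hw' : w + 1 ≠ 0 := fun h => hw1 (by linear_combination h - h2)
  refine ⟨w, h2, hww, hw0, hw', (Fintype.bijective_iff_injective_and_card _).2 ⟨?_, by simp [hF]⟩⟩
  intro a b hab
  have : dec w (add4 a b) = 0 := by rw [dec_add h2, hab]; linear_combination dec w b * h2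
  rw [dec_eq_zero hw0 hw'] at this
  have key : ∀ a b : Fin 4, add4 a b = 0 → a = b := by decide
  exact key a b this

open Cfsg.Agent.Classical Cfsg.Agent.Classical.PSUAut

section U

variable {F : Type*} [Field F] [Fintype F] (hF : Fintype.card F = 2 ^ 2)

local notation "h" => hermForm 4 F 2

/-- The scaled reflection of order three. -/
def rMat (w : F) (v : Fin 4 → F) : Matrix (Fin 4) (Fin 4) F :=
  (w * w) • (1 + Matrix.replicateCol Unit ((w * w) • v) * Matrix.replicateRow Unit (fun i => v i ^ 2))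

omit [Fintype F] in
theorem rMat_mulVec (w : F) (v x : Fin 4 → F) :
    rMat w v *ᵥ x = (w * w) • (x + (w * w * h x v) • v) := by
  have hdot : (fun i => v i ^ 2) ⬝ᵥ x = h x v := by simp [hermForm, dotProduct, mul_comm]
  rw [rMat, Matrix.smul_mulVec, Matrix.add_mulVec, Matrix.one_mulVec, ← Matrix.vecMulVec_eq,
    Matrix.vecMulVec_mulVec, op_smul_eq_smul, hdot, smul_smul, mul_comm (h x v)]

include hF

theorem exists_refl (w : F) (h2 : (2 : F) = 0) (hw : w * w = w + 1) (v : Fin 4 → F) (hv : h v v = 1) :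
    ∃ r : SU 4 F 2, suVal r = rMat w v := by
  have hσw : qFrob hF w = w + 1 := by rw [qFrob_apply, sq, hw]
  have hσc : qFrob hF (w * w) = w := by
    rw [map_mul, hσw]; linear_combination hw + (w + 1) * h2
  have hw3 : w * w * w = 1 := by linear_combination (w + 1) * hw + w * h2
  have hdet : (rMat w v).det = 1 := by
    rw [rMat, Matrix.det_smul, Matrix.det_one_add_replicateCol_mul_replicateRow, Fintype.card_fin]
    have hd : (fun i => v i ^ 2) ⬝ᵥ ((w * w) • v) = w * w := by
      rw [dotProduct_smul, show (fun i => v i ^ 2) ⬝ᵥ v = h v v by simp [hermForm, dotProduct, mul_comm], hv,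
        smul_eq_mul, mul_one]
    rw [hd]
    linear_combination (w ^ 8) * hw + (w ^ 8) * h2 + (w ^ 6 + w ^ 3 + 1) * hw3
  have hpres : ∀ x y, h (rMat w v *ᵥ x) (rMat w v *ᵥ y) = h x y := by
    intro x y
    simp only [rMat_mulVec, h_smul_left, h_smul_right hF, h_add_left, h_add_right hF, hv, map_mul,
      show qFrob hF w * qFrob hF w = w from (map_mul (qFrob hF) w w).symm.trans hσc]
    rw [cj_h hF]
    linear_combination h x y * hw3 + (h x v * h v y) * (hw3 * (w * w) + w * hw3) +
      (h x v * h v y) * (w * w * w + 1) * hw3 + (h x v * h v y) * hw + (h x v * h v y) * (w+1) * h2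
  exact ⟨⟨⟨rMat w v, hdet⟩, hpres⟩, rfl⟩

end U

theorem nonempty_equiv {F K : Type*} [Field F] [Fintype F] [Field K] [Fintype K]
    (hF : Fintype.card F = 4) (hK : Fintype.card K = 3) :
    Nonempty (PSU 4 F 2 ≃* PSp 2 K) := by
  classical
  have hF' : Fintype.card F = 2 ^ 2 := hF
  obtain ⟨w, h2, hw, hw0, hw1, hbij⟩ := exists_omega hF
  have : CharP K 3 := by
    obtain ⟨p, hp⟩ := CharP.exists K
    obtain ⟨k, hpp, hk⟩ := FiniteField.card K p
    rw [hK] at hk
    have hdvd : p ∣ 3 := hk.symm ▸ dvd_pow_self p k.ne_zero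
    rwa [(Nat.prime_dvd_prime_iff_eq hpp Nat.prime_three).1 hdvd] at hp
  let ι : ZMod 3 →+* K := ZMod.castHom dvd_rfl K
  have hι : Function.Bijective ι := (Fintype.bijective_iff_injective_and_card _).2
    ⟨ι.injective, by rw [ZMod.card, hK]⟩
  -- the unitary side
  let u : Fin 40 → Fin 4 → F := fun i l => dec w (uPt i l)
  have hu : ∀ i, hermForm 4 F 2 (u i) (u i) = 1 := fun i => by
    rw [hermForm_dec h2 hw, herm_uPt]; rfl
  have huex : ∀ v, hermForm 4 F 2 v v = 1 → ∃ i, ∃ c : F, c ≠ 0 ∧ v = c • u i := by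
    intro v hv
    choose c hc using fun l => hbij.2 (v l)
    have hc' : v = fun l => dec w (![c 0, c 1, c 2, c 3] l) :=
      funext fun l => by fin_cases l <;> exact (hc _).symm
    rw [hc', hermForm_dec h2 hw] at hv
    obtain ⟨i, k, hk, hik⟩ := exists_uPt _ _ _ _ (hbij.1 (hv.trans (show (1 : F) = dec w 1 from rfl)))
    refine ⟨i, dec w k, fun h0 => hk ((dec_eq_zero hw0 hw1).1 h0), ?_⟩
    rw [hc']
    funext l
    rw [Pi.smul_apply, smul_eq_mul, hik, dec_mul h2 hw]
  have huniq : ∀ i j, ∀ c : F, u j = c • u i → j = i := fun i j c hc => by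
    obtain ⟨k, rfl⟩ := hbij.2 c
    refine unique_uPt i j k fun l => hbij.1 ?_
    rw [dec_mul h2 hw]
    exact congrFun hc l
  let MU : SU 4 F 2 →* Matrix (Fin 4) (Fin 4) F := (slToMat 4 F).comp (SU 4 F 2).subtype
  obtain ⟨fU, hfU⟩ := exists_perm_hom MU u (fun v => hermForm 4 F 2 v v = 1)
    (fun g v hv => (su_form g v v).trans hv) hu huex huniq
  choose R hR using fun i => exists_refl hF' w h2 hw (u i) (hu i)
  have hRperm : ∀ i j, fU (R i) j = pPt i j := fun i j => by
    obtain ⟨k, -, hk⟩ := refl_uPt i j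
    refine perm_eq MU u huniq hfU (d := dec w k) ?_
    show suVal (R i) *ᵥ u j = _
    rw [hR, rMat_mulVec, hermForm_dec h2 hw]
    funext l
    have := congrArg (dec w) (hk l)
    simp only [dec_mul h2 hw, dec_add h2] at this
    simp only [Pi.smul_apply, Pi.add_apply, smul_eq_mul]
    rw [show w * w = dec w 3 from hw]
    exact this
  -- generation of the unitary group
  have hgenU : Subgroup.closure (Set.range R) = ⊤ := by
    have hnorm : (Subgroup.closure (Set.range R)).Normal := by
      refine ⟨fun x hx g => ?_⟩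
      have := Subgroup.mem_map_of_mem (MulAut.conj g).toMonoidHom hx
      rw [MonoidHom.map_closure] at this
      refine (Subgroup.closure_le _).2 ?_ this
      rintro _ ⟨_, ⟨i, rfl⟩, rfl⟩
      obtain ⟨j, c, hc, hj⟩ := huex (suVal g *ᵥ u i) ((su_form g _ _).trans (hu i))
      have hcc : c * qFrob hF' c = 1 := by
        have h1 := hu j
        have h3 := (su_form g (u i) (u i)).trans (hu i)
        rw [hj, h_smul_left, h_smul_right hF', h1, mul_one] at h3
        exact h3
      have hconj : g * R i = R j * g := UnitN.su_ext fun x => by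
        rw [UnitN.mulVec_mul, UnitN.mulVec_mul, hR, hR, rMat_mulVec, rMat_mulVec, Matrix.mulVec_smul,
          Matrix.mulVec_add, Matrix.mulVec_smul, hj, ← su_form g x (u i), hj, h_smul_right hF', smul_smul]
        congr 2
        congr 1
        linear_combination (w * w * hermForm 4 F 2 (suVal g *ᵥ x) (u j)) * hcc
      show g * R i * g⁻¹ ∈ _
      rw [hconj, mul_inv_cancel_right]
      exact Subgroup.subset_closure ⟨j, rfl⟩
    refine UnitTv.eq_top_of_not_central (q := 2) hF' (by norm_num) (by norm_num) hnorm fun hle => ?_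
    have hc := hle (Subgroup.subset_closure (Set.mem_range_self (f := R) 0))
    obtain ⟨c, hc⟩ := suVal_scalar_of_mem_center hF' hc
    -- all points would be fixed
    obtain ⟨j, hj⟩ : ∃ j, pPt 0 j ≠ j := by decide +kernel
    refine hj ((hRperm 0 j).symm.trans (perm_eq MU u huniq hfU (d := c) ?_))
    show suVal (R 0) *ᵥ u j = _
    rw [hc, Matrix.scalar_apply, ← Matrix.smul_one_eq_diagonal, Matrix.smul_mulVec, Matrix.one_mulVec]
  have hkerU : fU.ker = Subgroup.center (SU 4 F 2) := by
    refine le_antisymm (fun g hg => ?_) (fun g hg => ?_)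
    · -- commutes with all generators
      have hfix : ∀ i, ∃ c : F, c * qFrob hF' c = 1 ∧ suVal g *ᵥ u i = c • u i := fun i => by
        obtain ⟨c, hc, hci⟩ := hfU g i
        rw [hg, Equiv.Perm.one_apply] at hci
        refine ⟨c, ?_, hci⟩
        have h3 := (su_form g (u i) (u i)).trans (hu i)
        rw [show suVal g *ᵥ u i = c • u i from hci, h_smul_left, h_smul_right hF', hu, mul_one] at h3
        exact h3
      have hall : Subgroup.centralizer ({g} : Set (SU 4 F 2)) = ⊤ := top_le_iff.1 <| by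
        rw [← hgenU, Subgroup.closure_le]
        rintro _ ⟨i, rfl⟩
        refine Subgroup.mem_centralizer_singleton_iff.2 (UnitN.su_ext fun x => ?_)
        obtain ⟨c, hcc, hci⟩ := hfix i
        rw [UnitN.mulVec_mul, UnitN.mulVec_mul, hR, rMat_mulVec, rMat_mulVec, Matrix.mulVec_smul,
          Matrix.mulVec_add, Matrix.mulVec_smul, hci, ← su_form g x (u i), hci, h_smul_right hF', smul_smul]
        congr 2
        congr 1
        linear_combination (-(w * w * hermForm 4 F 2 (suVal g *ᵥ x) (u i))) * hcc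
      exact Subgroup.mem_center_iff.2 fun x =>
        Subgroup.mem_centralizer_singleton_iff.1 (hall ▸ Subgroup.mem_top x)
    · obtain ⟨c, hc⟩ := suVal_scalar_of_mem_center hF' hg
      refine MonoidHom.mem_ker.2 (Equiv.ext fun i => perm_eq MU u huniq hfU (d := c) ?_)
      show suVal g *ᵥ u i = _
      rw [hc, Matrix.scalar_apply, ← Matrix.smul_one_eq_diagonal, Matrix.smul_mulVec, Matrix.one_mulVec]
      rfl
  -- the symplectic side
  let s : Fin 40 → Fin 2 ⊕ Fin 2 → K := fun i l => ι (wPt i l)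
  have hs : ∀ i, s i ≠ 0 := fun i h0 => by
    obtain ⟨l, hl⟩ := ne_zero_wPt i
    exact hl ((map_eq_zero ι).1 (congrFun h0 l))
  have hsex : ∀ v, v ≠ 0 → ∃ i, ∃ c : K, c ≠ 0 ∧ v = c • s i := by
    intro v hv
    choose c hc using fun l => hι.2 (v l)
    obtain ⟨i, k, hk, e0, e1, e2, e3⟩ := exists_wPt (c (.inl 0)) (c (.inl 1)) (c (.inr 0)) (c (.inr 1))
      fun ⟨z0, z1, z2, z3⟩ => hv (funext fun l => by
        rw [← hc l]; rcases l with l | l <;> fin_cases l <;> simp [z0, z1, z2, z3])
    refine ⟨i, ι k, (map_ne_zero ι).2 hk, funext fun l => ?_⟩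
    rw [Pi.smul_apply, smul_eq_mul, ← map_mul, ← hc l]
    rcases l with l | l <;> fin_cases l
    exacts [congrArg ι e0, congrArg ι e1, congrArg ι e2, congrArg ι e3]
  have hsuniq : ∀ i j, ∀ c : K, s j = c • s i → j = i := fun i j c hc => by
    obtain ⟨k, rfl⟩ := hι.2 c
    refine unique_wPt i j k fun l => hι.1 ?_
    rw [map_mul]
    exact congrFun hc l
  obtain ⟨fS, hfS⟩ := exists_perm_hom (spToMat 2 K) s (fun v => v ≠ 0)
    (fun g v hv h0 => hv (FrameCount.injective_mulVec (spToMat 2 K) g (h0.trans (Matrix.mulVec_zero _).symm)))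
    hs hsex hsuniq
  have hTperm : ∀ i, fS (sympTv (s i) 2) = fU (R i) := fun i => Equiv.ext fun j => by
    rw [hRperm]
    obtain ⟨k, -, hk⟩ := trans_wPt i j
    refine perm_eq (spToMat 2 K) s hsuniq hfS (d := ι k) ?_
    show sympTransvection 2 (s i) 2 *ᵥ s j = _
    rw [sympTransvection_mulVec]
    funext l
    have := congrArg ι (hk l)
    simp only [map_add, map_mul, map_ofNat, symp3, map_sub] at this
    simp only [Pi.add_apply, Pi.smul_apply, smul_eq_mul, sympForm_eq_sum, Fin.sum_univ_two]
    exact this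
  have hgenS : Subgroup.closure (Set.range fun i => sympTv (s i) 2) = ⊤ := top_le_iff.1 <| by
    rw [← closure_sympTvSet, Subgroup.closure_le]
    rintro A ⟨v, c, hA⟩
    obtain rfl : A = sympTv v c := Subtype.ext hA
    show sympTv v c ∈ Subgroup.closure _
    by_cases hv : v = 0
    · have : sympTv v c = 1 := Subtype.ext (by simp [sympTv, sympTransvection, hv])
      rw [this]; exact one_mem _
    obtain ⟨i, d, -, rfl⟩ := hsex v hv
    have e : sympTv (d • s i) c = sympTv (s i) (d ^ 2 * c) := Subtype.ext (sympTransvection_smul _ _ _)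
    rw [e]
    obtain ⟨k, hk⟩ := hι.2 (d ^ 2 * c)
    rw [← hk]
    have h2' : sympTv (s i) (2 : K) ∈ Subgroup.closure (Set.range fun i => sympTv (s i) (2 : K)) :=
      Subgroup.subset_closure ⟨i, rfl⟩
    fin_cases k
    · show sympTv (s i) (ι 0) ∈ _
      rw [map_zero, sympTv_zero]; exact one_mem _
    · show sympTv (s i) (ι 1) ∈ _
      have h3 : ι 1 = 2 + 2 := by
        rw [map_one]; linear_combination -(map_ofNat ι 3).symm.trans (map_zero ι)
      rw [h3, ← sympTv_mul]; exact mul_mem h2' h2'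
    · show sympTv (s i) (ι 2) ∈ _
      rw [map_ofNat]; exact h2'
  have hrange : fU.range = fS.range := by
    rw [MonoidHom.range_eq_map, MonoidHom.range_eq_map, ← hgenU, ← hgenS, MonoidHom.map_closure,
      MonoidHom.map_closure, ← Set.range_comp, ← Set.range_comp]
    congr 2
    funext i
    exact (hTperm i).symm
  have hkerS : fS.ker = Subgroup.center (Matrix.symplecticGroup (Fin 2) K) := by
    refine le_antisymm (fun g hg => ?_) (fun g hg => ?_)
    · have hall : Subgroup.centralizer ({g} : Set (Matrix.symplecticGroup (Fin 2) K)) = ⊤ :=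
        top_le_iff.1 <| by
        rw [← hgenS, Subgroup.closure_le]
        rintro _ ⟨i, rfl⟩
        refine Subgroup.mem_centralizer_singleton_iff.2 ?_
        show sympTv (s i) 2 * g = g * sympTv (s i) 2
        obtain ⟨c, hc, hci⟩ := hfS g i
        rw [hg, Equiv.Perm.one_apply] at hci
        have hc1 : c ^ 2 = 1 := by
          have h1 := FiniteField.pow_card_sub_one_eq_one c hc
          rwa [hK] at h1
        have hconj := sympTv_conj g (s i) (2 : K)
        rw [show (g : Matrix _ _ K) *ᵥ s i = c • s i from hci] at hconj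
        have e : sympTv (c • s i) (2 : K) = sympTv (s i) 2 :=
          Subtype.ext ((sympTransvection_smul _ _ _).trans (by rw [hc1, one_mul]; rfl))
        rw [e, mul_inv_eq_iff_eq_mul] at hconj
        exact hconj.symm
      exact Subgroup.mem_center_iff.2 fun x =>
        Subgroup.mem_centralizer_singleton_iff.1 (hall ▸ Subgroup.mem_top x)
    · obtain ⟨l, -, hl⟩ := eq_scalar_of_commute_sympTv g fun v => (Subgroup.mem_center_iff.1 hg _).symm
      refine MonoidHom.mem_ker.2 (Equiv.ext fun i => perm_eq (spToMat 2 K) s hsuniq hfS (d := l) ?_)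
      show (g : Matrix (Fin 2 ⊕ Fin 2) (Fin 2 ⊕ Fin 2) K) *ᵥ s i = _
      rw [hl (by norm_num), Matrix.smul_mulVec, Matrix.one_mulVec]
      rfl
  exact ⟨((QuotientGroup.quotientMulEquivOfEq hkerU.symm).trans (QuotientGroup.quotientKerEquivRange fU)).trans
    ((MulEquiv.subgroupCongr hrange).trans
      ((QuotientGroup.quotientKerEquivRange fS).symm.trans (QuotientGroup.quotientMulEquivOfEq hkerS)))⟩

end Cfsg.Agent.Fus.PSUFourTwo
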