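import Mathlib
import Cfsg.Agent.Lib.Grp.SL2Basic

/-!
The subgroup of `SL(2, L)` generated by the upper unitriangular matrices over a subfield `k` and
the lower ones over `k * α`.
-/

set_option autoImplicit false

namespace Cfsg.Agent.Fus.AdjoinSL

open Matrix Cfsg.Agent.Grp.SL2

variable (k : Type*) {L : Type*} [Field k] [Field L] [Algebra k L]

local notation "SL₂" => Matrix.SpecialLinearGroup (Fin 2) L

/-- The generators. -/
def gens (α : L) : Set SL₂ :=
  {g | ∃ c : k, g = up (algebraMap k L c)} ∪ {g | ∃ c : k, g = low (algebraMap k L c * α)}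

/-- The generated subgroup. -/
def adjH (α : L) : Subgroup SL₂ := Subgroup.closure (gens k α)

variable {k}

theorem coe_up (t : L) : ((up t : SL₂) : Matrix (Fin 2) (Fin 2) L) = !![1, t; 0, 1] := rfl

theorem coe_low (t : L) : ((low t : SL₂) : Matrix (Fin 2) (Fin 2) L) = !![1, 0; t, 1] := rfl

theorem up_mem (α : L) (c : k) : up (algebraMap k L c) ∈ adjH k α :=
  Subgroup.subset_closure (Or.inl ⟨c, rfl⟩)

theorem low_mem (α : L) (c : k) : low (algebraMap k L c * α) ∈ adjH k α :=
  Subgroup.subset_closure (Or.inr ⟨c, rfl⟩)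

/-- Conjugation is computed by intertwining. -/
theorem conjHom_eq (P : Matrix (Fin 2) (Fin 2) L) (hP : IsUnit P.det) {x z : SL₂}
    (h : P * (x : Matrix (Fin 2) (Fin 2) L) = (z : Matrix (Fin 2) (Fin 2) L) * P) :
    conjHom P hP x = z :=
  Subtype.ext (by rw [conjHom_coe, h, Matrix.mul_assoc, Matrix.mul_nonsing_inv _ hP, mul_one])

/-- The diagonal scalings from `k` normalise the subgroup. -/
theorem up_smul_mem (α : L) (m : k) {t : L} (h : up t ∈ adjH k α) :
    up (algebraMap k L m * t) ∈ adjH k α := by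
  by_cases hm : m = 0
  · rw [hm, map_zero, zero_mul, up_zero]; exact one_mem _
  have hm' : algebraMap k L m ≠ 0 := fun e => hm ((algebraMap k L).injective (by rw [e, map_zero]))
  have hP : IsUnit (!![algebraMap k L m, 0; 0, 1] : Matrix (Fin 2) (Fin 2) L).det := by
    simpa [Matrix.det_fin_two] using hm
  have eu : ∀ s : L, conjHom _ hP (up s) = up (algebraMap k L m * s) := fun s =>
    conjHom_eq _ hP (by ext i j; fin_cases i <;> fin_cases j <;> simp [up, Matrix.mul_apply, Fin.sum_univ_two])
  have el : ∀ s : L, conjHom _ hP (low s) = low (s / algebraMap k L m) := fun s =>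
    conjHom_eq _ hP (by
      ext i j; fin_cases i <;> fin_cases j <;> simp [low, Matrix.mul_apply, Fin.sum_univ_two]
      field_simp)
  have hle : (adjH k α).map (conjHom _ hP) ≤ adjH k α := by
    rw [adjH, MonoidHom.map_closure, Subgroup.closure_le]
    rintro _ ⟨g, (⟨c, rfl⟩ | ⟨c, rfl⟩), rfl⟩
    · rw [eu, ← map_mul]; exact up_mem α _
    · rw [el, mul_div_right_comm, ← map_div₀]; exact low_mem α _
  have := hle (Subgroup.mem_map_of_mem _ h)
  rwa [eu] at this

/-- The upper translations in the subgroup form a `k`-subspace. -/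
def upSub (α : L) : Submodule k L where
  carrier := {t | up t ∈ adjH k α}
  add_mem' := fun {s t} hs ht => by
    show up (s + t) ∈ adjH k α
    rw [← up_mul]; exact mul_mem hs ht
  zero_mem' := by show up (0 : L) ∈ adjH k α; rw [up_zero]; exact one_mem _
  smul_mem' := fun m t ht => by
    show up (m • t) ∈ adjH k α
    rw [Algebra.smul_def]; exact up_smul_mem α m ht

theorem mem_upSub {α t : L} : t ∈ upSub (k := k) α ↔ up t ∈ adjH k α := Iff.rfl

/-- All the unitriangular matrices generate `SL(2, L)`. -/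
theorem eq_top_of_up_low {H : Subgroup SL₂} (hu : ∀ t : L, up t ∈ H) (hl : ∀ t : L, low t ∈ H) :
    H = ⊤ := by
  have key : ∀ g : SL₂, g.1 1 0 ≠ 0 → g ∈ H := by
    intro g hc
    have hd := det_eq g
    have e : g = up ((g.1 0 0 - 1) / g.1 1 0) * low (g.1 1 0) * up ((g.1 1 1 - 1) / g.1 1 0) := by
      refine Subtype.ext ?_
      rw [Matrix.SpecialLinearGroup.coe_mul, Matrix.SpecialLinearGroup.coe_mul]
      show g.1 = !![1, _; 0, 1] * !![1, 0; g.1 1 0, 1] * !![1, _; 0, 1]
      ext i j
      fin_cases i <;> fin_cases j <;>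
        simp [Matrix.mul_apply, Fin.sum_univ_two] <;> field_simp
      · ring
      · linear_combination -hd
      · ring
    rw [e]; exact mul_mem (mul_mem (hu _) (hl _)) (hu _)
  rw [eq_top_iff]
  intro g _
  by_cases hc : g.1 1 0 = 0
  · have hd := det_eq g
    rw [hc, mul_zero, sub_zero] at hd
    have h1 : (g * low 1).1 1 0 ≠ 0 := by
      have e : (g * low 1).1 1 0 = g.1 1 1 := by
        rw [Matrix.SpecialLinearGroup.coe_mul]
        show ((g.1 : Matrix (Fin 2) (Fin 2) L) * (!![1, 0; 1, 1] : Matrix (Fin 2) (Fin 2) L)) 1 0 = _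
        simp [Matrix.mul_apply, Fin.sum_univ_two, hc]
      rw [e]
      intro h
      rw [h, mul_zero] at hd
      exact zero_ne_one hd
    exact (H.mul_mem_cancel_right (hl 1)).mp (key _ h1)
  · exact key g hc

end Cfsg.Agent.Fus.AdjoinSL
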