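import Mathlib
import Cfsg.Agent.Lib.Block.SmallIndex
import Cfsg.Agent.Lib.Block.OrderPrimeCases
import Cfsg.Agent.Lib.Block.OrderPrimeSelfTwo
import Cfsg.Agent.Lib.Block.OrderPrimeSelfFull
import Cfsg.Agent.Lib.Block.OrderPrimeCount
import Cfsg.Agent.Lib.Grp.LeastNonPClosed
import Cfsg.Agent.Lib.Fus.SmallSimple
import Cfsg.Agent.S0144

/-!
Tests that exclude an order for a non-abelian simple group, and the harder orders up to 1092.
-/

set_option autoImplicit false

namespace Cfsg.Agent.Fus.SmallOrd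

open Cfsg.Agent.Block Cfsg.Agent.Char

universe u

variable {G : Type u} [Group G] [Finite G] [IsSimpleGroup G]

/-- No non-abelian simple group has order `p ^ a * q ^ b`. -/
theorem two_primes (hna : ¬ IsMulCommutative G) {p q a b : ℕ} (hp : p.Prime) (hq : q.Prime)
    (h : Nat.card G = p ^ a * q ^ b) : False := by
  haveI := S0144.result p q a b hp hq h
  exact hna ⟨⟨fun x y => IsSimpleGroup.comm_iff_isSolvable.mpr (inferInstance : Group.IsSolvable G) x y⟩⟩

/-- A prime dividing the order exactly that is too large. -/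
theorem large_prime (hna : ¬ IsMulCommutative G) {p m : ℕ} (hp : p.Prime) (hp2 : p ≠ 2)
    (h : Nat.card G = p * m) (hpm : ¬ p ∣ m) (hsmall : 2 * (p * m) < p * (p * p - 1)) : False := by
  haveI : Fact p.Prime := ⟨hp⟩
  exact Grp.LeastNonPClosed.simple_case hna hp2 h hpm (by rw [h]; exact hsmall)

/-- The test that no Sylow number fits. -/
def sylTest (n p m : ℕ) : Bool :=
  (List.range (m + 1)).all fun k =>
    !(decide (0 < k) && m % (p * k + 1) == 0 && (p * k + 1).factorial % (2 * n) == 0 &&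
      (p == 2 || k != 1 || (p * (p - 1)) % (2 * (n / (p * k + 1))) == 0))

/-- No Sylow number fits. -/
theorem no_sylow_number (hna : ¬ IsMulCommutative G) {n p a m : ℕ} (hp : p.Prime) (h : Nat.card G = n)
    (hn : n = p ^ a * m) (ha : a ≠ 0) (hm : 0 < m) (ht : sylTest n p m = true) : False := by
  haveI : Fact p.Prime := ⟨hp⟩
  obtain ⟨P⟩ : Nonempty (Sylow p G) := inferInstance
  obtain ⟨k, hk0, hk, hkd, -, hmul, hfac⟩ := small_sylow_number hna P (h.trans hn) ha
  have hle : p * k + 1 ≤ m := Nat.le_of_dvd hm hkd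
  have hkm : k ≤ m := le_trans (Nat.le_mul_of_pos_left k hp.pos) (by omega)
  have hh := List.all_eq_true.1 ht k (List.mem_range.2 (by omega))
  rw [h] at hfac
  simp [hk0, Nat.mod_eq_zero_of_dvd, hkd, hfac] at hh
  obtain ⟨⟨hp2, hk1⟩, hc⟩ := hh
  subst hk1
  rw [mul_one] at hk hmul hc
  refine hc (Nat.mod_eq_zero_of_dvd ?_)
  have := small_sylow_succ hp2 hna P hk
  rwa [← h, ← hmul, Nat.mul_div_cancel _ (by omega : 0 < p + 1)]

/-- The least prime divisor of the order of a non-abelian simple group of odd order divides it thrice. -/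
theorem odd_cube (hna : ¬ IsMulCommutative G) (hodd : ¬ 2 ∣ Nat.card G) :
    ∃ p : ℕ, p.Prime ∧ p ≠ 2 ∧ p ^ 3 ∣ Nat.card G ∧ ∀ q : ℕ, q.Prime → q ∣ Nat.card G → p ≤ q := by
  have hn1 : Nat.card G ≠ 1 := (Finite.one_lt_card (α := G)).ne'
  obtain ⟨p, hp⟩ : ∃ p, p = (Nat.card G).minFac := ⟨_, rfl⟩
  have hpp : p.Prime := hp ▸ Nat.minFac_prime hn1
  haveI : Fact p.Prime := ⟨hpp⟩
  have hpd : p ∣ Nat.card G := hp ▸ Nat.minFac_dvd _
  have hmin : ∀ q : ℕ, q.Prime → q ∣ Nat.card G → p ≤ q := fun q hq hd => hp ▸ Nat.minFac_le_of_dvd hq.two_le hd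
  have hp2 : p ≠ 2 := fun e => hodd (e ▸ hpd)
  refine ⟨p, hpp, hp2, ?_, hmin⟩
  obtain ⟨P⟩ : Nonempty (Sylow p G) := inferInstance
  obtain ⟨a, ha⟩ := IsPGroup.iff_card.mp P.isPGroup'
  obtain ⟨r, i, j, hr, hrp, hrd, hij, hja, hd⟩ :=
    exists_prime_of_no_complement P ha (simple_no_complement hna hpd)
  by_contra h3
  have ha2 : a ≤ 2 := by
    by_contra h
    exact h3 ((pow_dvd_pow p (by omega)).trans (ha ▸ Subgroup.card_subgroup_dvd_card _))
  have hlt : p < r := lt_of_le_of_ne (hmin r hr hrd) (Ne.symm hrp)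
  have h1 := hpp.two_le
  have hrp' : ¬ r ∣ p := fun h => hrp ((Nat.prime_dvd_prime_iff_eq hr hpp).1 h)
  have hm1 : ¬ r ∣ p - 1 := fun h => by have := Nat.le_of_dvd (by omega) h; omega
  have hm2 : ¬ r ∣ p + 1 := fun h => by
    have hle := Nat.le_of_dvd (by omega) h
    obtain rfl : r = p + 1 := by omega
    rcases hr.eq_two_or_odd with e | e
    · omega
    · rcases hpp.eq_two_or_odd with e' | e' <;> omega
  have hsq : p ^ 2 - p ^ 0 = (p + 1) * (p - 1) := by
    have := Nat.sq_sub_sq p 1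
    simpa using this
  have hlin : p ^ 2 - p ^ 1 = p * (p - 1) := by rw [Nat.mul_sub, mul_one, sq, pow_one]
  obtain ⟨hj, hi⟩ : j ≤ 2 ∧ i ≤ 1 := ⟨by omega, by omega⟩
  interval_cases j <;> interval_cases i
  · exact hm1 (by simpa using hd)
  · rcases (hr.dvd_mul).1 (hsq ▸ hd) with h | h
    · exact hm2 h
    · exact hm1 h
  · rcases (hr.dvd_mul).1 (hlin ▸ hd) with h | h
    · exact hrp' h
    · exact hm1 h

/-- The test that the possible automizer index and centralizer index of a Sylow subgroup of order `p` are listed. -/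
def optTest (p m : ℕ) (L : List (ℕ × ℕ)) : Bool :=
  (List.range (m + 1)).all fun k => !(decide (1 < k) && m % (p * k + 1) == 0) ||
    (List.range p).all fun e => !(decide (1 < e) && (p - 1) % e == 0 && (m / (p * k + 1)) % e == 0) ||
      L.contains (e, m / (p * k + 1) / e)

/-- The possible configurations at a prime dividing the order exactly. -/
theorem options (hna : ¬ IsMulCommutative G) {p m : ℕ} [hp : Fact p.Prime] (h : Nat.card G = p * m)
    (hpm : ¬ p ∣ m) (hp2 : p ≠ 2) (hfac : ¬ 2 * (p * m) ∣ p * (p - 1) * (p + 1)) (L : List (ℕ × ℕ))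
    (ht : optTest p m L = true) (P : Sylow p G) :
    ∃ e c : ℕ, (e, c) ∈ L ∧ Nat.card P = p ∧ c ∣ m ∧
      (Subgroup.centralizer ((P : Subgroup G) : Set G)).relIndex
        (Subgroup.normalizer ((P : Subgroup G) : Set G)) = e ∧
      Nat.card (Subgroup.centralizer ((P : Subgroup G) : Set G)) = p * c := by
  obtain ⟨e, k, c, hk1, hkm, he, he1, hep, hc, hprod⟩ := OrdP.exists_e' hna h hpm hp2 hfac P
  have hp1 := hp.out.two_le
  have hm : 0 < m := Nat.pos_of_ne_zero fun e => hpm (e ▸ dvd_zero p)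
  have hle := Nat.le_of_dvd hm hkm
  have hkle : k ≤ m := le_trans (Nat.le_mul_of_pos_left k hp.out.pos) (by omega)
  have hep' : e < p := lt_of_le_of_lt (Nat.le_of_dvd (by omega) hep) (by omega)
  have hdiv : m / (p * k + 1) = c * e := by rw [← hprod, Nat.mul_div_cancel _ (by omega)]
  have hh := List.all_eq_true.1 ht k (List.mem_range.2 (by omega))
  simp [hk1, Nat.mod_eq_zero_of_dvd hkm, hdiv] at hh
  have hh' : (e, c) ∈ L := by
    rcases hh e hep' with ((h1 | h1) | h1) | h1
    · omega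
    · exact absurd (Nat.mod_eq_zero_of_dvd hep) h1
    · exact absurd (Nat.mul_mod_left c e) h1
    · rwa [Nat.mul_div_cancel _ (by omega : 0 < e)] at h1
  exact ⟨e, c, hh', OrdP.card_sylow_eq h hpm P, ⟨e * (p * k + 1), by rw [← mul_assoc]; exact hprod.symm⟩, he, hc⟩

/-- An empty list of configurations. -/
theorem no_options (hna : ¬ IsMulCommutative G) {p m : ℕ} (hp : p.Prime) (h : Nat.card G = p * m)
    (hpm : ¬ p ∣ m) (hp2 : p ≠ 2) (hfac : ¬ 2 * (p * m) ∣ p * (p - 1) * (p + 1))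
    (ht : optTest p m [] = true) : False := by
  haveI : Fact p.Prime := ⟨hp⟩
  obtain ⟨P⟩ : Nonempty (Sylow p G) := inferInstance
  obtain ⟨e, c, hL, -⟩ := options hna h hpm hp2 hfac [] ht P
  exact List.not_mem_nil hL

/-- The test on the degrees for an automizer of order two. -/
def twoTest (n p : ℕ) : Bool :=
  (List.range n).all fun d => !(decide (d * d < n) && n % d == 0 &&
      ((d % p == 1 && decide (2 * p + 1 ≤ d)) || (d % p == p - 1 && decide (3 * p - 1 ≤ d)))) ||
    ([d - 1, d + 1].all fun d' => !(n % d' == 0) || d' % p == 0)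

/-- An automizer of order two with centralizer larger than the Sylow subgroup. -/
theorem two_elim (hna : ¬ IsMulCommutative G) {n p m c : ℕ} [hp : Fact p.Prime] (h : Nat.card G = n)
    (hn : n = p * m) (hpm : ¬ p ∣ m) (hp3 : 3 < p) (P : Sylow p G) (hP : Nat.card P = p) (hcm : c ∣ m)
    (he : (Subgroup.centralizer ((P : Subgroup G) : Set G)).relIndex
      (Subgroup.normalizer ((P : Subgroup G) : Set G)) = 2)
    (hC : Nat.card (Subgroup.centralizer ((P : Subgroup G) : Set G)) = p * c) (hc1 : c ≠ 1)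
    (ht : twoTest n p = true) : False := by
  obtain ⟨M, hM⟩ := exists_isPModular p hp.out
  obtain ⟨q, v, hq, hqp, hv, hov⟩ := OrdP.exists_prime_elem (p := p) hpm hC hcm hc1
  refine OrdP.two_false hna hM hp3 P hP he hq hqp hv hov ?_
  intro d hd hlt hdc d' hd' hadj hpd'
  rw [h] at hd hlt hd'
  have hd1 : 1 ≤ d := Nat.pos_of_dvd_of_pos hd (h ▸ Nat.card_pos)
  have hdn : d < n := lt_of_le_of_lt (Nat.le_mul_of_pos_left d hd1) hlt
  have hh := List.all_eq_true.1 ht d (List.mem_range.2 hdn)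
  have h1 : n % d = 0 := Nat.mod_eq_zero_of_dvd hd
  have h2 : n % d' = 0 := Nat.mod_eq_zero_of_dvd hd'
  have hne : d' % p ≠ 0 := fun e => hpd' (Nat.dvd_of_mod_eq_zero e)
  have h3 : d' = d - 1 ∨ d' = d + 1 := by omega
  rcases h3 with rfl | rfl <;> simp [hlt, h1, h2, hne] at hh <;> omega

/-- The test on the degrees for a full automizer. -/
def evenTest (n p : ℕ) : Bool :=
  (List.range n).all fun d => !(decide (d * d < n) && n % d == 0 &&
      ((d % p == 1 && decide (2 * p + 1 ≤ d)) || (d % p == p - 1 && decide (3 * p - 1 ≤ d)))) ||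
    d % 2 == 0

/-- A full automizer with centralizer larger than the Sylow subgroup. -/
theorem full_elim (hna : ¬ IsMulCommutative G) {n p m c : ℕ} [hp : Fact p.Prime] (h : Nat.card G = n)
    (hpm : ¬ p ∣ m) (hp2 : p ≠ 2) (P : Sylow p G) (hP : Nat.card P = p) (hcm : c ∣ m)
    (he : (Subgroup.centralizer ((P : Subgroup G) : Set G)).relIndex
      (Subgroup.normalizer ((P : Subgroup G) : Set G)) = p - 1)
    (hC : Nat.card (Subgroup.centralizer ((P : Subgroup G) : Set G)) = p * c) (hc1 : c ≠ 1)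
    (ht : evenTest n p = true) : False := by
  obtain ⟨M, hM⟩ := exists_isPModular p hp.out
  obtain ⟨q, v, hq, hqp, hv, hov⟩ := OrdP.exists_prime_elem (p := p) hpm hC hcm hc1
  refine OrdP.full_even_false hna hM hp2 P hP he hq hqp hv hov ?_
  intro d hd hlt hdc
  rw [h] at hd hlt
  have hd1 : 1 ≤ d := Nat.pos_of_dvd_of_pos hd (h ▸ Nat.card_pos)
  have hdn : d < n := lt_of_le_of_lt (Nat.le_mul_of_pos_left d hd1) hlt
  have hh := List.all_eq_true.1 ht d (List.mem_range.2 hdn)
  have h1 : n % d = 0 := Nat.mod_eq_zero_of_dvd hd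
  simp [hlt, h1] at hh
  exact Nat.even_iff.2 (by omega)

/-- Orders killed by an automizer of order two. -/
theorem only_two (hna : ¬ IsMulCommutative G) {n p m c : ℕ} (hp : p.Prime) (h : Nat.card G = n)
    (hn : n = p * m) (hpm : ¬ p ∣ m) (hp3 : 3 < p) (hfac : ¬ 2 * (p * m) ∣ p * (p - 1) * (p + 1))
    (ht : optTest p m [(2, c)] = true) (hc1 : c ≠ 1) (ht' : twoTest n p = true) : False := by
  haveI : Fact p.Prime := ⟨hp⟩
  obtain ⟨P⟩ : Nonempty (Sylow p G) := inferInstance
  obtain ⟨e, c', hL, hP, hcm, he, hC⟩ := options hna (h.trans hn) hpm (by omega) hfac _ ht P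
  obtain ⟨rfl, rfl⟩ : e = 2 ∧ c' = c := by simpa using hL
  exact two_elim hna h hn hpm hp3 P hP hcm he hC hc1 ht'

theorem ne_756 (hna : ¬ IsMulCommutative G) : Nat.card G ≠ 756 := by
  classical
  intro h
  haveI : Fact (Nat.Prime 7) := ⟨by norm_num⟩
  obtain ⟨M, hM⟩ := exists_isPModular 7 (by norm_num)
  obtain ⟨P⟩ : Nonempty (Sylow 7 G) := inferInstance
  obtain ⟨e, c, hL, hP, hcm, he, hC⟩ := options hna (p := 7) (m := 108) (by rw [h]) (by norm_num)
    (by norm_num) (by norm_num) [(3, 1)] (by decide +kernel) P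
  obtain ⟨rfl, rfl⟩ : e = 3 ∧ c = 1 := by simpa using hL
  obtain ⟨X, y, s, ε, hX, hXd, -, hε, -, hrel, hcol⟩ :=
    OrdP.data hna hM (by norm_num) P hP he (by norm_num) (by norm_num) (by norm_num)
  obtain ⟨hsum, hsz⟩ := OrdP.degree_data hrel hcol
  have hdy := charDeg_dvd y
  rw [h] at hdy hsz
  obtain ⟨χ, χ', hne, rfl⟩ := Finset.card_eq_two.1 (show X.card = 2 by omega)
  have key : ∀ ξ ∈ ({χ, χ'} : Finset (Cfsg.IrrCharacter G)),
      s ξ * (charDegree (ξ : G → ℂ) : ℤ) = -6 ∨ s ξ * (charDegree (ξ : G → ℂ) : ℤ) = -27 := by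
    intro ξ hξ
    obtain ⟨hneξ, hs, hd, -⟩ := hXd ξ hξ
    have hd2 := OrdP.two_le_deg hna hneξ
    have hdv := charDeg_dvd ξ
    rw [h] at hdv
    have h1 : charDegree (ξ : G → ℂ) ^ 2 ≤ ∑ η ∈ ({χ, χ'} : Finset (Cfsg.IrrCharacter G)),
        charDegree (η : G → ℂ) ^ 2 :=
      Finset.single_le_sum (f := fun η : Cfsg.IrrCharacter G => charDegree (η : G → ℂ) ^ 2)
        (fun η _ => Nat.zero_le _) hξ
    have hd27 : charDegree (ξ : G → ℂ) ≤ 27 := by nlinarith
    generalize charDegree (ξ : G → ℂ) = d at hd2 hd hdv hd27 ⊢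
    rw [Int.ModEq] at hd
    interval_cases d <;> first
      | omega
      | (norm_num at hdv; done)
      | (rcases hs with e | e <;> rw [e] at hd ⊢ <;> norm_num at hd ⊢)
  rw [Finset.sum_pair hne] at hsum
  have hy : charDegree (y : G → ℂ) = 11 ∨ charDegree (y : G → ℂ) = 32 ∨ charDegree (y : G → ℂ) = 53 := by
    rcases key χ (Finset.mem_insert_self _ _) with e | e <;>
      rcases key χ' (Finset.mem_insert_of_mem (Finset.mem_singleton_self χ')) with e' | e' <;>
      rw [e, e'] at hsum <;> rcases hε with rfl | rfl <;> omega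
  rcases hy with e | e | e <;> rw [e] at hdy <;> norm_num at hdy

theorem ne_960 (hna : ¬ IsMulCommutative G) : Nat.card G ≠ 960 := by
  intro h
  haveI : Fact (Nat.Prime 5) := ⟨by norm_num⟩
  obtain ⟨P⟩ : Nonempty (Sylow 5 G) := inferInstance
  obtain ⟨e, c, hL, hP, hcm, he, hC⟩ := options hna (p := 5) (m := 192) (by rw [h]) (by norm_num)
    (by norm_num) (by norm_num) [(2, 6), (4, 3), (2, 1)] (by decide +kernel) P
  simp only [List.mem_cons, List.not_mem_nil, or_false, Prod.mk.injEq] at hL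
  rcases hL with ⟨rfl, rfl⟩ | ⟨rfl, rfl⟩ | ⟨rfl, rfl⟩
  · exact two_elim hna h (m := 192) (by norm_num) (by norm_num) (by norm_num) P hP hcm he hC (by norm_num)
      (by decide +kernel)
  · exact full_elim hna h (m := 192) (by norm_num) (by norm_num) P hP hcm he hC (by norm_num)
      (by decide +kernel)
  · obtain ⟨M, hM⟩ := exists_isPModular 5 (by norm_num)
    obtain ⟨d, d', b, hd, hd', hlt, hd2, hmod, hadj, hpd', hb, hb0, hineq⟩ :=
      OrdP.two_self hna hM (by norm_num) P hP (by rw [hC]) he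
    rw [h, show (960 : ℕ) = 2 ^ 6 * 15 by norm_num, Nat.factorization_mul (by norm_num) (by norm_num),
      Finsupp.add_apply, Nat.Prime.factorization_pow Nat.prime_two, Finsupp.single_eq_same,
      Nat.factorization_eq_zero_of_not_dvd (by norm_num : ¬ 2 ∣ 15), add_zero] at hb
    rw [h] at hd hd' hlt hineq
    have hb' : 64 ≤ b := Nat.le_of_dvd hb0 hb
    have hb2 := Nat.pow_le_pow_left hb' 2
    have hd30 : d ≤ 30 := by nlinarith
    have h81 : 20480 * d' ≤ 3840 * d := by nlinarith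
    interval_cases d <;> first | omega | (norm_num at hd; done)

/-- Possible signed degrees, values at the involution and weights for order 720. -/
def kinds720 : List (ℤ × ℤ × ℤ × ℤ) :=
  [(-4, 16, 0, 0), (6, 36, 2, 480), (6, 36, -2, 480), (-9, 81, -1, -80), (16, 256, 0, 0),
    (16, 256, 4, 720), (16, 256, -4, 720), (-24, 576, 0, 0), (-24, 576, -4, -480), (-24, 576, 4, -480)]

/-- The test for order 720. -/
def chk720 (t : ℤ × ℤ × ℤ × ℤ) : Bool :=
  !(decide (t.1 = -1) && decide (t.2.1 ≤ 719) && decide (t.2.2.1 = -1) &&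
    (List.range 40).any fun b => decide (5 * ((b : ℤ) * b) = 720 + t.2.2.2))

theorem chk720_all : OrdP.allPicks chk720 kinds720 4 0 = true := by decide +kernel

theorem kind720 {d : ℕ} {e A : ℤ} (hs : e = 1 ∨ e = -1) (hd2 : 2 ≤ d) (hdv : d ∣ 720) (hd26 : d ≤ 26)
    (hd : (d : ℤ) ≡ e [ZMOD 5]) (h4 : (4 : ℤ) ∣ (d : ℤ) - A)
    (hb1 : 0 ≤ (d : ℤ) + 4 * e + 5 * A) (hb2 : 0 ≤ (d : ℤ) + 4 * e - 5 * A) :
    (e * (d : ℤ), (d : ℤ) ^ 2, e * A, 720 * (e * A ^ 2) / (d : ℤ)) ∈ kinds720 ∧
      (d : ℤ) ∣ 720 * (e * A ^ 2) := by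
  refine ⟨?_, Dvd.dvd.mul_right (by exact_mod_cast hdv) _⟩
  rw [Int.ModEq] at hd
  rcases hs with rfl | rfl <;> interval_cases d <;> first
    | omega
    | (norm_num at hdv; done)
    | (rcases (by omega : A = 0 ∨ A = 2 ∨ A = -2 ∨ A = 4 ∨ A = -4 ∨ A = 1 ∨ A = -1)
        with rfl | rfl | rfl | rfl | rfl | rfl | rfl <;> first | omega | decide)

theorem ne_720 (hna : ¬ IsMulCommutative G) : Nat.card G ≠ 720 := by
  intro h
  haveI : Fact (Nat.Prime 5) := ⟨by norm_num⟩
  obtain ⟨P⟩ : Nonempty (Sylow 5 G) := inferInstance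
  obtain ⟨e, c, hL, hP, hcm, he, hC⟩ := options hna (p := 5) (m := 144) (by rw [h]) (by norm_num)
    (by norm_num) (by norm_num) [(2, 2), (4, 1)] (by decide +kernel) P
  simp only [List.mem_cons, List.not_mem_nil, or_false, Prod.mk.injEq] at hL
  rcases hL with ⟨rfl, rfl⟩ | ⟨rfl, rfl⟩
  · exact two_elim hna h (m := 144) (by norm_num) (by norm_num) (by norm_num) P hP hcm he hC (by norm_num)
      (by decide +kernel)
  · obtain ⟨M, hM⟩ := exists_isPModular 5 (by norm_num)
    obtain ⟨Z, s, a, b, hZc, hZ, hsd, hsa, hsz, hat, heq⟩ :=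
      OrdP.full_self hna hM (by norm_num) P hP (by rw [hC]) (by rw [he])
    rw [h] at hsz heq
    obtain ⟨g, hg⟩ : ∃ g : Cfsg.IrrCharacter G → ℤ × ℤ × ℤ × ℤ, g = fun χ =>
        (s χ * (charDegree (χ : G → ℂ) : ℤ), (charDegree (χ : G → ℂ) : ℤ) ^ 2, s χ * a χ,
          720 * (s χ * a χ ^ 2) / (charDegree (χ : G → ℂ) : ℤ)) := ⟨_, rfl⟩
    have key : ∀ χ ∈ Z, g χ ∈ kinds720 ∧ (charDegree (χ : G → ℂ) : ℤ) ∣ 720 * (s χ * a χ ^ 2) := by
      intro χ hχ
      obtain ⟨hd2, hdv, hlt, hs, hd, h4, hb1, hb2⟩ := hZ χ hχ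
      rw [h] at hdv hlt
      push_cast at hb1 hb2
      rw [hg]
      exact kind720 hs hd2 hdv (by nlinarith) hd h4 (by linarith) (by linarith)
    have hchk := OrdP.allPicks_sound chk720 kinds720 4 0 chk720_all Z g (by omega) fun χ hχ => (key χ hχ).1
    rw [zero_add] at hchk
    have hsum1 : (∑ χ ∈ Z, g χ).1 = -1 := by
      rw [Prod.fst_sum]
      simp only [hg]
      omega
    have hsum2 : (∑ χ ∈ Z, g χ).2.1 ≤ 719 := by
      simp only [Prod.snd_sum, Prod.fst_sum, hg]
      have : ((1 + ∑ χ ∈ Z, charDegree (χ : G → ℂ) ^ 2 : ℕ) : ℤ) ≤ ((720 : ℕ) : ℤ) := by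
        exact_mod_cast hsz
      push_cast at this
      linarith
    have hsum3 : (∑ χ ∈ Z, g χ).2.2.1 = -1 := by
      simp only [Prod.snd_sum, Prod.fst_sum, hg]
      omega
    have hsum4 : 5 * ((b : ℤ) * b) = 720 + (∑ χ ∈ Z, g χ).2.2.2 := by
      simp only [Prod.snd_sum, hg]
      apply Int.cast_injective (α := ℚ)
      push_cast
      rw [Finset.sum_congr rfl (g := fun χ => 720 * (((s χ * a χ ^ 2 : ℤ) : ℚ) /
        (charDegree (χ : G → ℂ) : ℚ))) fun χ hχ => by
          rw [Int.cast_div (key χ hχ).2 (Int.cast_ne_zero.2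
            (Int.natCast_ne_zero.2 (charDeg_pos χ).ne'))]
          push_cast
          ring, ← Finset.mul_sum]
      push_cast at heq ⊢
      linarith
    have hb : b < 40 := by
      by_contra hb'
      have h1 : (∑ χ ∈ Z, g χ).2.2.2 ≤ 4 * 720 := by
        simp only [Prod.snd_sum, hg]
        refine le_trans (Finset.sum_le_card_nsmul Z _ (720 : ℤ) fun χ hχ => ?_) (by
          rw [show Z.card = 4 by omega, nsmul_eq_mul]; norm_num)
        obtain ⟨hk, -⟩ := key χ hχ
        rw [hg] at hk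
        have : ∀ t ∈ kinds720, t.2.2.2 ≤ 720 := by decide
        exact this _ hk
      have h2 : (40 : ℤ) ≤ b := by exact_mod_cast (show 40 ≤ b by omega)
      nlinarith
    refine absurd hchk ?_
    simp only [chk720, Bool.not_eq_true', Bool.and_eq_true, decide_eq_true_eq, Bool.not_eq_false,
      List.any_eq_true, List.mem_range]
    exact ⟨⟨⟨hsum1, hsum2⟩, hsum3⟩, b, hb, hsum4⟩

theorem ne_900 (hna : ¬ IsMulCommutative G) : Nat.card G ≠ 900 := by
  intro h
  haveI : Fact (Nat.Prime 5) := ⟨by norm_num⟩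
  obtain ⟨P⟩ : Nonempty (Sylow 5 G) := inferInstance
  obtain ⟨k, hk0, hk, hkd, -, hmul, hfac⟩ := small_sylow_number hna P (a := 2) (m := 36) (by rw [h]; norm_num)
    (by norm_num)
  rw [h] at hfac hmul
  obtain rfl : k = 7 := by
    have : k ≤ 7 := by have := Nat.le_of_dvd (by norm_num) hkd; omega
    interval_cases k <;> first | rfl | (norm_num at hkd; done) | (norm_num [Nat.factorial] at hfac; done)
  have hPc : Nat.card (P : Subgroup G) = 5 ^ 2 := by
    rw [P.card_eq_multiplicity, h, show (900 : ℕ) = 5 ^ 2 * 36 by norm_num,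
      Nat.factorization_mul (by norm_num) (by norm_num), Finsupp.add_apply,
      Nat.Prime.factorization_pow (by norm_num), Finsupp.single_eq_same,
      Nat.factorization_eq_zero_of_not_dvd (by norm_num : ¬ 5 ∣ 36)]
  have hN : Subgroup.normalizer ((P : Subgroup G) : Set G) = (P : Subgroup G) :=
    (Subgroup.eq_of_le_of_card_ge Subgroup.le_normalizer (by rw [hPc]; omega)).symm
  have hle : Subgroup.normalizer ((P : Subgroup G) : Set G) ≤
      Subgroup.centralizer ((P : Subgroup G) : Set G) := fun x hx => by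
    rw [hN] at hx
    exact Subgroup.mem_centralizer_iff.2 fun y hy => congrArg Subtype.val
      (IsPGroup.commutative_of_card_eq_prime_sq hPc (⟨y, hy⟩ : (P : Subgroup G)) ⟨x, hx⟩)
  have hk' := MonoidHom.ker_transferSylow_isComplement' P hle
  rcases IsSimpleGroup.eq_bot_or_eq_top_of_normal _ (MonoidHom.transferSylow P hle).normal_ker with e | e
  · have := hk'.card_mul
    rw [e, Subgroup.card_bot, one_mul, hPc, h] at this
    norm_num at this
  · have := hk'.card_mul
    rw [e, Subgroup.card_top, hPc, h] at this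
    norm_num at this

end Cfsg.Agent.Fus.SmallOrd
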