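import Mathlib
import Cfsg.Prelude.Def_ClassificationStages
import Cfsg.Agent.Lib.Recog.SpectrumSL3Three
import Cfsg.Agent.Lib.Classical.SLGroup

/-!
Groups all of whose involution centralizers are isomorphic to `GL(2, 3)` share their centralizer of
involution pattern; the involutions of `SL(3, F)`.
-/

set_option autoImplicit false
set_option linter.style.haveILetI false

namespace Cfsg.Agent.Fus.PatternThree

open Matrix

theorem mat_fact : ∀ b : Matrix (Fin 2) (Fin 2) (ZMod 3), b * b = 1 → b ≠ 1 → b ≠ -1 →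
    (Finset.univ.filter fun m : Matrix (Fin 2) (Fin 2) (ZMod 3) => m.det ≠ 0 ∧ m * b = b * m).card ≤ 4 := by
  decide +kernel

/-- An involution of `GL(2, 3)` with a centralizer of order at least eight is the central one. -/
theorem eq_neg_one {b : GL (Fin 2) (ZMod 3)} (hb : orderOf b = 2)
    (hc : 8 ≤ Nat.card (Subgroup.centralizer ({b} : Set (GL (Fin 2) (ZMod 3))))) : b = -1 := by
  by_contra hne
  have hsq : b * b = 1 := by have := pow_orderOf_eq_one b; rwa [hb, sq] at this
  have h := mat_fact b (by rw [← Units.val_mul, hsq]; rfl)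
    (fun e => by rw [orderOf_eq_one_iff.2 (Units.ext e)] at hb; omega) (fun e => hne (Units.ext e))
  have hle := Nat.card_le_card_of_injective
    (fun g : Subgroup.centralizer ({b} : Set (GL (Fin 2) (ZMod 3))) =>
      (⟨((g : GL (Fin 2) (ZMod 3)) : Matrix (Fin 2) (Fin 2) (ZMod 3)), by
        refine Finset.mem_filter.2 ⟨Finset.mem_univ _, ?_, ?_⟩
        · exact ((Matrix.isUnit_iff_isUnit_det _).1 (g : GL (Fin 2) (ZMod 3)).isUnit).ne_zero
        · have := Subgroup.mem_centralizer_singleton_iff.1 g.2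
          rw [← Units.val_mul, this]; rfl⟩ :
        ↥(Finset.univ.filter fun m : Matrix (Fin 2) (Fin 2) (ZMod 3) =>
          m.det ≠ 0 ∧ m * (b : Matrix (Fin 2) (Fin 2) (ZMod 3)) = b * m)))
    fun g g' e => Subtype.ext (Units.ext (congrArg Subtype.val e))
  rw [Nat.card_eq_fintype_card (α := ↥(Finset.univ.filter _)), Fintype.card_coe] at hle
  omega

universe u v

/-- All involution centralizers are isomorphic to `GL(2, 3)` and Sylow 2-subgroups have order 16. -/
structure Good (G : Type u) [Group G] : Prop where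
  sylow : ∀ S : Sylow 2 G, Nat.card (S : Subgroup G) = 16
  cent : ∀ x : G, orderOf x = 2 →
    Nonempty (↥(Subgroup.centralizer ({x} : Set G)) ≃* GL (Fin 2) (ZMod 3))

variable {G : Type u} [Group G] [Finite G]

theorem card_gl : Nat.card (GL (Fin 2) (ZMod 3)) = 48 := by
  rw [Nat.card_eq_fintype_card, ← Nat.card_eq_fintype_card, Matrix.card_GL_field]
  simp [Fin.prod_univ_two]

/-- Central involutions of a 2-subgroup of order at least eight are unique. -/
theorem Good.unique (h : Good G) {R : Subgroup G} (hR : 8 ≤ Nat.card R) {x y : G}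
    (hx : orderOf x = 2) (hy : orderOf y = 2) (hxR : x ∈ R) (hyR : y ∈ R)
    (hcx : ∀ r ∈ R, r * x = x * r) (hcy : ∀ r ∈ R, r * y = y * r) : x = y := by
  obtain ⟨e⟩ := h.cent x hx
  let C := Subgroup.centralizer ({x} : Set G)
  have hRC : R ≤ C := fun r hr => Subgroup.mem_centralizer_singleton_iff.2 (hcx r hr)
  have key : ∀ z : G, ∀ hzR : z ∈ R, orderOf z = 2 → (∀ r ∈ R, r * z = z * r) →
      e ⟨z, hRC hzR⟩ = -1 := by
    intro z hzR hz hcz
    refine eq_neg_one (by rw [MulEquiv.orderOf_eq, Subgroup.orderOf_mk, hz]) (le_trans hR ?_)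
    refine Nat.card_le_card_of_injective (fun r : R => (⟨e ⟨r, hRC r.2⟩, ?_⟩ :
      Subgroup.centralizer ({e ⟨z, hRC hzR⟩} : Set (GL (Fin 2) (ZMod 3))))) ?_
    · rw [Subgroup.mem_centralizer_singleton_iff, ← map_mul, ← map_mul]
      exact congrArg e (Subtype.ext (hcz r r.2))
    · intro r r' hrr
      exact Subtype.ext (congrArg (fun c : C => (c : G)) (e.injective (congrArg Subtype.val hrr)))
  exact congrArg (fun c : C => (c : G)) (e.injective ((key x hxR hx hcx).trans (key y hyR hy hcy).symm))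

/-- An involution in the centre of a given Sylow subgroup. -/
theorem Good.exists_central (h : Good G) (S : Sylow 2 G) :
    ∃ z ∈ (S : Subgroup G), orderOf z = 2 ∧ ∀ r ∈ (S : Subgroup G), r * z = z * r := by
  haveI : Fact (Nat.Prime 2) := ⟨Nat.prime_two⟩
  haveI : Nontrivial (S : Subgroup G) := by
    rw [← Finite.one_lt_card_iff_nontrivial, h.sylow]; norm_num
  haveI := S.isPGroup'.center_nontrivial
  obtain ⟨k, hk⟩ := (S.isPGroup'.to_subgroup (Subgroup.center (S : Subgroup G))).exists_card_eq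
  have hk0 : k ≠ 0 := fun e => by
    have := Finite.one_lt_card (α := Subgroup.center (S : Subgroup G))
    rw [hk, e] at this; omega
  obtain ⟨⟨⟨z, hzS⟩, hzc⟩, hz⟩ := exists_prime_orderOf_dvd_card'
    (G := Subgroup.center (S : Subgroup G)) 2 (hk ▸ dvd_pow_self 2 hk0)
  rw [Subgroup.orderOf_mk, Subgroup.orderOf_mk] at hz
  exact ⟨z, hzS, hz, fun r hr => congrArg Subtype.val (Subgroup.mem_center_iff.1 hzc ⟨r, hr⟩)⟩

/-- All involutions are conjugate. -/
theorem Good.conj (h : Good G) {x y : G} (hx : orderOf x = 2) (hy : orderOf y = 2) : IsConj x y := by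
  haveI : Fact (Nat.Prime 2) := ⟨Nat.prime_two⟩
  obtain ⟨S⟩ : Nonempty (Sylow 2 G) := inferInstance
  obtain ⟨z, hzS, hz, hzc⟩ := h.exists_central S
  suffices ∀ a : G, orderOf a = 2 → IsConj z a from (this x hx).symm.trans (this y hy)
  intro a ha
  obtain ⟨e⟩ := h.cent a ha
  let C := Subgroup.centralizer ({a} : Set G)
  have hC : Nat.card C = 48 := (Nat.card_congr e.toEquiv).trans card_gl
  obtain ⟨K, hK⟩ := Sylow.exists_subgroup_card_pow_prime 2 (G := C) (n := 4) (by rw [hC]; norm_num)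
  have hKc : Nat.card (K.map C.subtype) = 16 := by
    rw [Subgroup.card_map_of_injective C.subtype_injective, hK]; norm_num
  obtain ⟨R, hR⟩ := (IsPGroup.of_card (p := 2) (n := 4) (hKc.trans (by norm_num))).exists_le_sylow
  have hReq : K.map C.subtype = (R : Subgroup G) := Subgroup.eq_of_le_of_card_ge hR (by rw [hKc, h.sylow])
  have hRa : ∀ r ∈ (R : Subgroup G), r * a = a * r := by
    rw [← hReq]
    rintro r ⟨c, -, rfl⟩
    exact Subgroup.mem_centralizer_singleton_iff.1 c.2
  have haR : a ∈ (R : Subgroup G) := by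
    have h2 : IsPGroup 2 (Subgroup.zpowers a) :=
      IsPGroup.of_card (n := 1) (by rw [Nat.card_zpowers, ha, pow_one])
    have hn : (R : Subgroup G) ≤ Subgroup.normalizer (Subgroup.zpowers a : Set G) := fun r hr =>
      Subgroup.mem_normalizer_iff.2 fun g => by
        have hca : ∀ m : ℤ, r * a ^ m * r⁻¹ = a ^ m := fun m => by
          rw [((show Commute r a from hRa r hr).zpow_right m).eq, mul_inv_cancel_right]
        constructor
        · rintro ⟨m, rfl⟩; exact ⟨m, (hca m).symm⟩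
        · rintro ⟨m, hm⟩
          refine ⟨m, ?_⟩
          simp only at hm
          rw [← hca m] at hm
          simpa using mul_left_cancel (mul_right_cancel hm)
    have hp := R.isPGroup'.to_sup_of_normal_right' h2 hn
    have := R.is_maximal' hp le_sup_left
    exact this ▸ Subgroup.mem_sup_right (Subgroup.mem_zpowers a)
  obtain ⟨g, rfl⟩ := MulAction.exists_smul_eq G S R
  refine isConj_iff.2 ⟨g, ?_⟩
  have hmem : ∀ s ∈ (S : Subgroup G), g * s * g⁻¹ ∈ ((g • S : Sylow 2 G) : Subgroup G) := fun s hs => by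
    rw [Sylow.coe_subgroup_smul, Subgroup.mem_pointwise_smul_iff_inv_smul_mem, ← map_inv, MulAut.smul_def,
      MulAut.conj_apply, inv_inv]
    simpa [mul_assoc] using hs
  refine h.unique (R := ((g • S : Sylow 2 G) : Subgroup G)) (by rw [h.sylow]; norm_num) ?_ ha (hmem z hzS) haR
    (fun r hr => ?_) hRa
  · rw [← MulAut.conj_apply, MulEquiv.orderOf_eq, hz]
  · rw [Sylow.coe_subgroup_smul, Subgroup.mem_pointwise_smul_iff_inv_smul_mem, ← map_inv, MulAut.smul_def,
      MulAut.conj_apply, inv_inv] at hr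
    have h1 := hzc _ hr
    calc r * (g * z * g⁻¹) = g * (g⁻¹ * r * g * z) * g⁻¹ := by group
      _ = g * (z * (g⁻¹ * r * g)) * g⁻¹ := by rw [h1]
      _ = g * z * g⁻¹ * r := by group

/-- A Sylow subgroup is isomorphic to a Sylow subgroup of `GL(2, 3)`. -/
theorem Good.sylow_iso (h : Good G) (S : Sylow 2 G) :
    ∃ Q : Sylow 2 (GL (Fin 2) (ZMod 3)), Nonempty (↥(S : Subgroup G) ≃* ↥(Q : Subgroup (GL (Fin 2) (ZMod 3)))) := by
  haveI : Fact (Nat.Prime 2) := ⟨Nat.prime_two⟩
  obtain ⟨z, hzS, hz, hzc⟩ := h.exists_central S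
  obtain ⟨e⟩ := h.cent z hz
  have hle : (S : Subgroup G) ≤ Subgroup.centralizer ({z} : Set G) := fun r hr =>
    Subgroup.mem_centralizer_singleton_iff.2 (hzc r hr)
  let f : ↥(S : Subgroup G) →* GL (Fin 2) (ZMod 3) := e.toMonoidHom.comp (Subgroup.inclusion hle)
  have hf : Function.Injective f := e.injective.comp (Subgroup.inclusion_injective hle)
  have hc : Nat.card f.range = 16 := by rw [← Nat.card_congr (MonoidHom.ofInjective hf).toEquiv, h.sylow]
  obtain ⟨Q, hQ⟩ := (IsPGroup.of_card (p := 2) (n := 4) (hc.trans (by norm_num))).exists_le_sylow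
  have hQc : Nat.card (Q : Subgroup (GL (Fin 2) (ZMod 3))) = 16 := by
    rw [Q.card_eq_multiplicity, card_gl, show (48 : ℕ) = 2 ^ 4 * 3 by norm_num,
      Nat.factorization_mul (by norm_num) (by norm_num), Finsupp.add_apply,
      Nat.Prime.factorization_pow Nat.prime_two, Finsupp.single_eq_same,
      Nat.factorization_eq_zero_of_not_dvd (by norm_num : ¬ 2 ∣ 3)]
    norm_num
  exact ⟨Q, ⟨(MonoidHom.ofInjective hf).trans
    (MulEquiv.subgroupCongr (Subgroup.eq_of_le_of_card_ge hQ (by rw [hQc, hc])))⟩⟩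

/-- Two good groups share the pattern. -/
theorem Good.pattern (h : Good G) {H : Type v} [Group H] [Finite H] (h' : Good H) :
    Cfsg.SameCentralizerInvolutionPattern G H := by
  haveI : Fact (Nat.Prime 2) := ⟨Nat.prime_two⟩
  obtain ⟨S⟩ : Nonempty (Sylow 2 G) := inferInstance
  obtain ⟨T⟩ : Nonempty (Sylow 2 H) := inferInstance
  obtain ⟨Q, ⟨e⟩⟩ := h.sylow_iso S
  obtain ⟨Q', ⟨e'⟩⟩ := h'.sylow_iso T
  let φ : ↥(S : Subgroup G) ≃* ↥(T : Subgroup H) := (e.trans (Q.equiv Q')).trans e'.symm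
  have ho : ∀ a : ↥(S : Subgroup G), orderOf a = 2 → orderOf (a : G) = 2 ∧ orderOf ((φ a : ↥(T : Subgroup H)) : H) = 2 :=
    fun a ha => ⟨by rwa [Subgroup.orderOf_coe], by rwa [Subgroup.orderOf_coe, MulEquiv.orderOf_eq]⟩
  refine ⟨S, T, φ, fun a b ha hb => iff_of_true (h.conj (ho a ha).1 (ho b hb).1) (h'.conj (ho a ha).2 (ho b hb).2),
    fun a ha => ?_⟩
  obtain ⟨e₁⟩ := h.cent _ (ho a ha).1
  obtain ⟨e₂⟩ := h'.cent _ (ho a ha).2
  exact ⟨e₁.trans e₂.symm⟩

/-! ### The involutions of `SL(3, F)` -/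

section SL

variable {F : Type*} [Field F]

local notation "SL3" => Matrix.SpecialLinearGroup (Fin 3) F

/-- The standard involution matrix. -/
def sMat : Matrix (Fin 3) (Fin 3) F := !![-1, 0, 0; 0, -1, 0; 0, 0, 1]

/-- An involution of `SL(3, F)` is conjugate to the standard one in `GL(3, F)`. -/
theorem exists_conj_std (h2 : (2 : F) ≠ 0) {g : SL3} (hg : orderOf g = 2) :
    ∃ P : GL (Fin 3) F, (g : Matrix (Fin 3) (Fin 3) F) * (P : Matrix (Fin 3) (Fin 3) F) =
      (P : Matrix (Fin 3) (Fin 3) F) * sMat := by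
  obtain ⟨M, hM⟩ : ∃ M, M = (g : Matrix (Fin 3) (Fin 3) F) := ⟨_, rfl⟩
  have hMM : M * M = 1 := by
    have : g * g = 1 := by have := pow_orderOf_eq_one g; rwa [hg, sq] at this
    rw [hM, ← Matrix.SpecialLinearGroup.coe_mul, this]; rfl
  have hM1 : M ≠ 1 := fun e => by
    rw [orderOf_eq_one_iff.2 (show g = 1 from Subtype.ext (hM.symm.trans e))] at hg; omega
  obtain ⟨f, hf⟩ : ∃ f : Module.End F (Fin 3 → F), f = Matrix.toLin' M := ⟨_, rfl⟩
  have hff : ∀ x, f (f x) = x := fun x => by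
    rw [hf, ← LinearMap.comp_apply, ← Matrix.toLin'_mul, hMM, Matrix.toLin'_one, LinearMap.id_apply]
  obtain ⟨V, hV⟩ : ∃ V, V = LinearMap.ker (f - LinearMap.id) := ⟨_, rfl⟩
  obtain ⟨W, hW⟩ : ∃ W, W = LinearMap.ker (f + LinearMap.id) := ⟨_, rfl⟩
  have memV : ∀ x, x ∈ V ↔ f x = x := fun x => by simp [hV, sub_eq_zero]
  have memW : ∀ x, x ∈ W ↔ f x = -x := fun x => by simp [hW, add_eq_zero_iff_eq_neg]
  have hcompl : IsCompl W V := by
    constructor
    · refine Submodule.disjoint_def.2 fun x hxW hxV => ?_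
      have h := ((memV x).1 hxV).symm.trans ((memW x).1 hxW)
      have h' : (2 : F) • x = 0 := by rw [two_smul]; exact add_eq_zero_iff_eq_neg.2 h
      exact (smul_eq_zero.1 h').resolve_left h2
    · refine codisjoint_iff.2 (eq_top_iff.2 fun x _ => ?_)
      refine Submodule.mem_sup.2 ⟨(2 : F)⁻¹ • (x - f x), (memW _).2 ?_, (2 : F)⁻¹ • (x + f x), (memV _).2 ?_, ?_⟩
      · rw [map_smul, map_sub, hff, ← smul_neg, neg_sub]
      · rw [map_smul, map_add, hff, add_comm]
      · rw [← smul_add, show x - f x + (x + f x) = (2 : F) • x by rw [two_smul]; abel, inv_smul_smul₀ h2]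
  let bW := Module.finBasis F W
  let bV := Module.finBasis F V
  let b := (bW.prod bV).map (Submodule.prodEquivOfIsCompl W V hcompl)
  have hbl : ∀ i, b (Sum.inl i) = (bW i : Fin 3 → F) := fun i => by simp [b]
  have hbr : ∀ i, b (Sum.inr i) = (bV i : Fin 3 → F) := fun i => by simp [b]
  have hmat : LinearMap.toMatrix b b f = Matrix.diagonal (Sum.elim (fun _ => (-1 : F)) fun _ => 1) := by
    ext i j
    rw [LinearMap.toMatrix_apply]
    rcases j with j | j
    · rw [hbl, (memW _).1 (bW j).2, ← hbl, map_neg, Finsupp.neg_apply, Module.Basis.repr_self,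
        Finsupp.single_apply, Matrix.diagonal_apply]
      rcases i with i | i <;> simp [eq_comm] <;> split_ifs <;> simp
    · rw [hbr, (memV _).1 (bV j).2, ← hbr, Module.Basis.repr_self, Finsupp.single_apply, Matrix.diagonal_apply]
      rcases i with i | i <;> simp [eq_comm]
  have hdet : (-1 : F) ^ Module.finrank F W = 1 := by
    have h := LinearMap.det_toMatrix b f
    rw [hmat, Matrix.det_diagonal, Fintype.prod_sum_type, hf, LinearMap.det_toLin', hM, g.2] at h
    simpa using h
  have hsum : Module.finrank F W + Module.finrank F V = 3 := by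
    rw [Submodule.finrank_add_eq_of_isCompl hcompl, Module.finrank_fin_fun]
  have hW0 : Module.finrank F W ≠ 0 := fun e => by
    have h0 := Submodule.finrank_eq_zero.1 e
    have hVt : V = ⊤ := by have := hcompl.sup_eq_top; rwa [h0, bot_sup_eq] at this
    refine hM1 (Matrix.toLin'.injective ?_)
    rw [← hf, Matrix.toLin'_one]
    exact LinearMap.ext fun x => (memV x).1 (by rw [hVt]; trivial)
  have h1 : (-1 : F) ≠ 1 := fun e => h2 (by linear_combination -e)
  have hW2 : Module.finrank F W = 2 := by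
    obtain ⟨k, hk⟩ := (neg_one_pow_eq_one_iff_even h1).1 hdet
    omega
  have hV1 : Module.finrank F V = 1 := by omega
  let v : Fin 3 → (Fin 3 → F) := ![(bW ⟨0, by omega⟩ : Fin 3 → F), (bW ⟨1, by omega⟩ : Fin 3 → F),
    (bV ⟨0, by omega⟩ : Fin 3 → F)]
  let σ : Fin 3 → Fin (Module.finrank F W) ⊕ Fin (Module.finrank F V) :=
    ![Sum.inl ⟨0, by omega⟩, Sum.inl ⟨1, by omega⟩, Sum.inr ⟨0, by omega⟩]
  have hσ : Function.Injective σ := by
    intro i j e
    fin_cases i <;> fin_cases j <;> simp [σ] at e <;> rfl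
  have hli : LinearIndependent F v := by
    have : v = ⇑b ∘ σ := by funext i; fin_cases i <;> simp [v, σ, hbl, hbr]
    rw [this]
    exact b.linearIndependent.comp σ hσ
  obtain ⟨P, hP⟩ : ∃ P : Matrix (Fin 3) (Fin 3) F, P = Matrix.of fun i j => v j i := ⟨_, rfl⟩
  have hu : IsUnit P := Matrix.linearIndependent_cols_iff_isUnit.1 (by rw [hP]; exact hli)
  refine ⟨hu.unit, ?_⟩
  rw [IsUnit.unit_spec, ← hM]
  ext i j
  have e : ∀ j, (M * P) i j = f (v j) i := fun j => by
    rw [hf, Matrix.toLin'_apply, hP]; rfl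
  rw [e]
  fin_cases j <;> simp [hP, v, sMat, Matrix.mul_apply, Fin.sum_univ_three,
    (memW _).1 (bW _).2, (memV _).1 (bV _).2]

/-- Coercion to matrices. -/
def vl (g : SL3) : Matrix (Fin 3) (Fin 3) F := (g : Matrix (Fin 3) (Fin 3) F)

theorem vl_mul (g g' : SL3) : vl (g * g') = vl g * vl g' := rfl

theorem vl_inj {g g' : SL3} (h : vl g = vl g') : g = g' := Subtype.ext h

/-- A block matrix. -/
def blockMat (M : Matrix (Fin 2) (Fin 2) F) : Matrix (Fin 3) (Fin 3) F :=
  !![M 0 0, M 0 1, 0; M 1 0, M 1 1, 0; 0, 0, (M.det)⁻¹]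

theorem blockMat_mul (A B : Matrix (Fin 2) (Fin 2) F) : blockMat (A * B) = blockMat A * blockMat B := by
  ext i j
  fin_cases i <;> fin_cases j <;>
    simp [blockMat, Matrix.mul_apply, Fin.sum_univ_three, Fin.sum_univ_two, Matrix.det_mul,
      _root_.mul_inv_rev, mul_comm]

theorem blockMat_one : blockMat (1 : Matrix (Fin 2) (Fin 2) F) = 1 := by
  ext i j
  fin_cases i <;> fin_cases j <;> simp [blockMat]

theorem blockMat_det {M : Matrix (Fin 2) (Fin 2) F} (h : M.det ≠ 0) : (blockMat M).det = 1 := by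
  rw [Matrix.det_fin_two] at h
  rw [blockMat, Matrix.det_fin_three, Matrix.det_fin_two]
  simp
  field_simp

/-- The embedding of `GL(2, F)` in the centralizer of the standard involution. -/
def block : GL (Fin 2) F →* SL3 where
  toFun A := ⟨blockMat (A : Matrix (Fin 2) (Fin 2) F),
    blockMat_det ((Matrix.isUnit_iff_isUnit_det _).1 A.isUnit).ne_zero⟩
  map_one' := vl_inj blockMat_one
  map_mul' _ _ := vl_inj (blockMat_mul _ _)

theorem block_val (A : GL (Fin 2) F) : vl (block A) = blockMat (A : Matrix (Fin 2) (Fin 2) F) := rfl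

theorem block_injective : Function.Injective (block : GL (Fin 2) F →* SL3) := by
  intro A B h
  have h' : blockMat (A : Matrix (Fin 2) (Fin 2) F) = blockMat (B : Matrix (Fin 2) (Fin 2) F) := congrArg vl h
  apply Units.ext
  ext i j
  fin_cases i <;> fin_cases j
  · exact congrFun (congrFun h' 0) 0
  · exact congrFun (congrFun h' 0) 1
  · exact congrFun (congrFun h' 1) 0
  · exact congrFun (congrFun h' 1) 1

theorem block_range (h2 : (2 : F) ≠ 0) (g : SL3) :
    g ∈ (block : GL (Fin 2) F →* SL3).range ↔ vl g * sMat = sMat * vl g := by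
  constructor
  · rintro ⟨A, rfl⟩
    rw [block_val]
    ext i j
    fin_cases i <;> fin_cases j <;> simp [blockMat, sMat, Matrix.mul_apply, Fin.sum_univ_three]
  · intro h
    obtain ⟨M, hM⟩ : ∃ M, M = vl g := ⟨_, rfl⟩
    rw [← hM] at h
    have e02 := congrFun (congrFun h 0) 2
    have e12 := congrFun (congrFun h 1) 2
    have e20 := congrFun (congrFun h 2) 0
    have e21 := congrFun (congrFun h 2) 1
    simp [sMat, Matrix.mul_apply, Fin.sum_univ_three] at e02 e12 e20 e21
    have z : ∀ x : F, x = -x → x = 0 := fun x hx =>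
      (mul_eq_zero.1 (show 2 * x = 0 by linear_combination hx)).resolve_left h2
    have hdet : (M 0 0 * M 1 1 - M 0 1 * M 1 0) * M 2 2 = 1 := by
      have : (vl g).det = 1 := g.2
      rw [← hM, Matrix.det_fin_three, z _ e02, z _ e12] at this
      linear_combination this
    have hA : IsUnit (!![M 0 0, M 0 1; M 1 0, M 1 1] : Matrix (Fin 2) (Fin 2) F) :=
      (Matrix.isUnit_iff_isUnit_det _).2 (by
        rw [Matrix.det_fin_two_of]; exact isUnit_iff_ne_zero.2 (left_ne_zero_of_mul_eq_one hdet))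
    refine ⟨hA.unit, vl_inj ?_⟩
    rw [← hM, block_val]
    ext i j
    fin_cases i <;> fin_cases j <;> simp [blockMat, IsUnit.unit_spec, z _ e02, z _ e12, z _ e20.symm, z _ e21.symm]
    exact inv_eq_of_mul_eq_one_right hdet

/-- The centralizer of an involution of `SL(3, F)` is `GL(2, F)`. -/
theorem centralizer_iso (h2 : (2 : F) ≠ 0) {g : SL3} (hg : orderOf g = 2) :
    Nonempty (↥(Subgroup.centralizer ({g} : Set SL3)) ≃* GL (Fin 2) F) := by
  obtain ⟨P, hP⟩ := exists_conj_std h2 hg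
  obtain ⟨Q, hQ⟩ : ∃ Q : Matrix (Fin 3) (Fin 3) F, Q = ((P⁻¹ : GL (Fin 3) F) : Matrix (Fin 3) (Fin 3) F) :=
    ⟨_, rfl⟩
  obtain ⟨R, hR⟩ : ∃ R : Matrix (Fin 3) (Fin 3) F, R = (P : Matrix (Fin 3) (Fin 3) F) := ⟨_, rfl⟩
  have hQR : Q * R = 1 := by rw [hQ, hR]; exact Units.inv_mul P
  have hRQ : R * Q = 1 := by rw [hQ, hR]; exact Units.mul_inv P
  have hdQR : Q.det * R.det = 1 := by rw [← Matrix.det_mul, hQR, Matrix.det_one]
  rw [← hR] at hP
  let c : SL3 →* SL3 :=
    { toFun := fun x => ⟨Q * vl x * R, by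
        rw [Matrix.det_mul, Matrix.det_mul, show (vl x).det = 1 from x.2, mul_one, hdQR]⟩
      map_one' := vl_inj (show Q * 1 * R = 1 by rw [Matrix.mul_one, hQR])
      map_mul' := fun x y => vl_inj (show Q * (vl x * vl y) * R = Q * vl x * R * (Q * vl y * R) by
        rw [← Matrix.mul_assoc (Q * vl x * R), ← Matrix.mul_assoc (Q * vl x * R),
          Matrix.mul_assoc (Q * vl x) R Q, hRQ, Matrix.mul_one, ← Matrix.mul_assoc Q]) }
  have hcv : ∀ x, vl (c x) = Q * vl x * R := fun _ => rfl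
  have hback : ∀ x : SL3, R * vl (c x) * Q = vl x := fun x => by
    rw [hcv, ← Matrix.mul_assoc, ← Matrix.mul_assoc, hRQ, Matrix.one_mul, Matrix.mul_assoc, hRQ, Matrix.mul_one]
  have hc : Function.Injective c := fun x y e => vl_inj (by rw [← hback x, ← hback y, e])
  have hcg : vl (c g) = sMat := by
    rw [hcv, Matrix.mul_assoc, show vl g * R = R * sMat from hP, ← Matrix.mul_assoc, hQR, Matrix.one_mul]
  have key : ∀ x : SL3, x ∈ Subgroup.centralizer ({g} : Set SL3) ↔
      c x ∈ (block : GL (Fin 2) F →* SL3).range := by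
    intro x
    rw [block_range h2, Subgroup.mem_centralizer_singleton_iff, ← hcg, ← vl_mul, ← vl_mul, ← map_mul, ← map_mul]
    exact ⟨fun h => by rw [h], fun h => hc (vl_inj h)⟩
  have hsurj : ∀ A : GL (Fin 2) F, ∃ x : SL3, c x = block A := fun A =>
    ⟨⟨R * vl (block A) * Q, by
      rw [Matrix.det_mul, Matrix.det_mul, show (vl (block A)).det = 1 from (block A).2, mul_one, mul_comm, hdQR]⟩,
      vl_inj (show Q * (R * vl (block A) * Q) * R = vl (block A) by
        rw [← Matrix.mul_assoc, ← Matrix.mul_assoc, hQR, Matrix.one_mul, Matrix.mul_assoc, hQR, Matrix.mul_one])⟩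
  have heq : (Subgroup.centralizer ({g} : Set SL3)).map c = (block : GL (Fin 2) F →* SL3).range := by
    refine le_antisymm (fun y ⟨x, hx, e⟩ => e ▸ (key x).1 hx) fun y hy => ?_
    obtain ⟨A, rfl⟩ := hy
    obtain ⟨x, hx⟩ := hsurj A
    exact ⟨x, (key x).2 ⟨A, hx.symm⟩, hx⟩
  exact ⟨((Subgroup.equivMapOfInjective _ c hc).trans (MulEquiv.subgroupCongr heq)).trans
    (MonoidHom.ofInjective block_injective).symm⟩

end SL

/-- `PSL(3, F)` for a field of three elements is good and has order `5616`. -/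
theorem psl_good {F : Type*} [Field F] [Fintype F] (hF : Fintype.card F = 3) :
    Good (Matrix.ProjectiveSpecialLinearGroup (Fin 3) F) ∧
      Nat.card (Matrix.ProjectiveSpecialLinearGroup (Fin 3) F) = 5616 := by
  haveI : Fact (Nat.Prime 2) := ⟨Nat.prime_two⟩
  obtain ⟨π, hπ⟩ : ∃ π : Matrix.SpecialLinearGroup (Fin 3) F ≃* Matrix.ProjectiveSpecialLinearGroup (Fin 3) F,
      ∀ x, π x = QuotientGroup.mk x :=
    ⟨MulEquiv.ofBijective (QuotientGroup.mk' _)
      ⟨SpectrumSL3Three.mk_injective hF, QuotientGroup.mk'_surjective _⟩, fun _ => rfl⟩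
  have h2 : (2 : F) ≠ 0 := fun h => by
    haveI : CharP F 2 := CharTwo.of_one_ne_zero_of_two_eq_zero one_ne_zero h
    obtain ⟨n, -, hn⟩ := FiniteField.card F 2
    rw [hF] at hn
    exact absurd (hn ▸ dvd_pow_self 2 n.ne_zero : 2 ∣ 3) (by norm_num)
  have hcard : Nat.card (Matrix.SpecialLinearGroup (Fin 3) F) = 5616 := by
    have h := Cfsg.Agent.Classical.natCard_GL_eq_SL_mul (F := F) 3 (by norm_num)
    rw [Matrix.card_GL_field, Cfsg.Agent.Classical.natCard_units_field, hF] at h
    simp [Fin.prod_univ_three] at h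
    omega
  have hcp : Nat.card (Matrix.ProjectiveSpecialLinearGroup (Fin 3) F) = 5616 :=
    (Nat.card_congr π.toEquiv).symm.trans hcard
  obtain ⟨ρ⟩ : Nonempty (ZMod 3 ≃+* F) := ⟨ZMod.ringEquivOfPrime F Nat.prime_three hF⟩
  refine ⟨⟨fun S => ?_, fun x hx => ?_⟩, hcp⟩
  · rw [S.card_eq_multiplicity, hcp, show (5616 : ℕ) = 2 ^ 4 * 351 by norm_num,
      Nat.factorization_mul (by norm_num) (by norm_num), Finsupp.add_apply,
      Nat.Prime.factorization_pow Nat.prime_two, Finsupp.single_eq_same,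
      Nat.factorization_eq_zero_of_not_dvd (by norm_num : ¬ 2 ∣ 351)]
    norm_num
  · obtain ⟨e⟩ := centralizer_iso h2 (g := π.symm x) (by rw [MulEquiv.orderOf_eq, hx])
    have hmap : (Subgroup.centralizer ({π.symm x} : Set (Matrix.SpecialLinearGroup (Fin 3) F))).map
        π.toMonoidHom = Subgroup.centralizer ({x} : Set (Matrix.ProjectiveSpecialLinearGroup (Fin 3) F)) := by
      ext y
      rw [Subgroup.mem_map_equiv, Subgroup.mem_centralizer_singleton_iff,
        Subgroup.mem_centralizer_singleton_iff, ← map_mul, ← map_mul, EmbeddingLike.apply_eq_iff_eq]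
    exact ⟨((((π.subgroupMap _).trans (MulEquiv.subgroupCongr hmap)).symm).trans e).trans
      (Units.mapEquiv (ρ.symm.mapMatrix : Matrix (Fin 2) (Fin 2) F ≃+* _).toMulEquiv)⟩

end Cfsg.Agent.Fus.PatternThree
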