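import Cfsg.Agent.Lib.Classical.OrthCount
import Cfsg.Agent.Lib.Classical.QuadClass
import Cfsg.Agent.Lib.Classical.SLNormal

/-!
`PΩ` groups isomorphic to `PSL_2`: the general criterion and `PΩ_3(q) ≅ PSL_2(q)`.
-/

set_option autoImplicit false

namespace Cfsg.Agent.Fus.OmegaRankOne

open Matrix
open scoped commutatorElement

variable {E : Type*} [Field E]

local notation "SL2(" K ")" => Matrix.SpecialLinearGroup (Fin 2) K

/-- An element commuting with everything modulo the centre is central. -/
theorem mem_center_of_commutators {g : SL2(E)}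
    (hg : ∀ x : SL2(E), x * g * (g * x)⁻¹ ∈ Subgroup.center SL2(E)) :
    g ∈ Subgroup.center SL2(E) := by
  have hcent : Subgroup.centralizer ({g} : Set SL2(E)) = ⊤ := top_le_iff.1 <| by
    rw [← Classical.SL_closure_transvections, Subgroup.closure_le]
    rintro x ⟨t, rfl⟩
    refine Subgroup.mem_centralizer_singleton_iff.2 ?_
    set x := t.toSpecialLinearGroup
    obtain ⟨r, hr, hz⟩ := Matrix.SpecialLinearGroup.mem_center_iff.1 (hg x)
    have hmat : (x * g).1 = r • (g * x).1 := by
      rw [show x * g = x * g * (g * x)⁻¹ * (g * x) from (inv_mul_cancel_right _ _).symm,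
        Matrix.SpecialLinearGroup.coe_mul, ← hz, Matrix.scalar_apply, ← Matrix.smul_eq_diagonal_mul]
    have hconj : (g⁻¹ * x * g).1 = r • x.1 := by
      rw [mul_assoc, Matrix.SpecialLinearGroup.coe_mul, hmat, Matrix.mul_smul,
        ← Matrix.SpecialLinearGroup.coe_mul, inv_mul_cancel_left]
    have htr : Matrix.trace (g⁻¹ * x * g).1 = Matrix.trace x.1 := by
      rw [Matrix.SpecialLinearGroup.coe_mul, Matrix.trace_mul_comm,
        ← Matrix.SpecialLinearGroup.coe_mul, mul_inv_cancel_left]
    have hx2 : Matrix.trace x.1 = 2 := by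
      show Matrix.trace (Matrix.transvection t.i t.j t.c) = 2
      rw [Matrix.transvection, Matrix.trace_add, Matrix.trace_one, Matrix.trace_single_eq_of_ne _ _ _ t.hij]
      simp
    rw [hconj, Matrix.trace_smul, hx2, smul_eq_mul] at htr
    have hr1 : r = 1 := by
      by_cases h2 : (2 : E) = 0
      · rw [Fintype.card_fin] at hr
        have : (r - 1) ^ 2 = 0 := by linear_combination hr + (1 - r) * h2
        exact sub_eq_zero.1 (eq_zero_of_pow_eq_zero this)
      · exact mul_right_cancel₀ h2 (htr.trans (one_mul _).symm)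
    rw [hr1, one_smul] at hmat
    exact Subtype.ext hmat
  exact Subgroup.mem_center_iff.2 fun x =>
    Subgroup.mem_centralizer_singleton_iff.1 (hcent ▸ Subgroup.mem_top x)

/-- Recognition of `PΩ` as `PSL_2`. -/
theorem nonempty_equiv {ι : Type} [Fintype ι] [DecidableEq ι] {F : Type*} [Field F]
    {Q : (ι → F) → F} (ψ : SL2(E) →* isometryGroup F Q)
    (hker : ψ.ker = Subgroup.center SL2(E)) (hrange : ψ.range = Omega F Q) :
    Nonempty (POmega F Q ≃* Matrix.ProjectiveSpecialLinearGroup (Fin 2) E) := by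
  have e : Matrix.ProjectiveSpecialLinearGroup (Fin 2) E ≃* Omega F Q :=
    (QuotientGroup.quotientMulEquivOfEq hker.symm).trans
      ((QuotientGroup.quotientKerEquivRange ψ).trans (MulEquiv.subgroupCongr hrange))
  have hc : Subgroup.center (Matrix.ProjectiveSpecialLinearGroup (Fin 2) E) = ⊥ := by
    refine (Subgroup.eq_bot_iff_forall _).2 fun g hg => ?_
    obtain ⟨g, rfl⟩ := QuotientGroup.mk_surjective g
    refine (QuotientGroup.eq_one_iff g).2 (mem_center_of_commutators fun x => ?_)
    refine (QuotientGroup.eq_one_iff (x * g * (g * x)⁻¹)).1 ?_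
    rw [QuotientGroup.mk_mul, QuotientGroup.mk_inv, QuotientGroup.mk_mul, QuotientGroup.mk_mul,
      Subgroup.mem_center_iff.1 hg (x : SL2(E) ⧸ Subgroup.center SL2(E)), mul_inv_cancel]
  have hc' : Subgroup.center (Omega F Q) = ⊥ := by
    refine (Subgroup.eq_bot_iff_forall _).2 fun z hz => e.symm.injective ?_
    rw [map_one]
    refine (Subgroup.eq_bot_iff_forall _).1 hc _ (Subgroup.mem_center_iff.2 fun y => e.injective ?_)
    rw [map_mul, map_mul, e.apply_symm_apply]
    exact Subgroup.mem_center_iff.1 hz _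
  exact ⟨(QuotientGroup.quotientMulEquivOfEq hc').trans (QuotientGroup.quotientBot.trans e.symm)⟩

/-- Linear maps preserving a function, as a hom into its isometry group. -/
noncomputable def isoHom {G : Type*} [Group G] {ι : Type} [Fintype ι] [DecidableEq ι] {F : Type*} [Field F]
    (L : G → (ι → F) →ₗ[F] (ι → F)) (hone : L 1 = LinearMap.id)
    (hmul : ∀ a b, L (a * b) = (L a).comp (L b)) (Q : (ι → F) → F)
    (hQ : ∀ g v, Q (L g v) = Q v) : G →* isometryGroup F Q :=
  (({ toFun := fun g => LinearMap.toMatrix' (L g)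
      map_one' := by rw [hone, LinearMap.toMatrix'_id]
      map_mul' := fun a b => by rw [hmul, LinearMap.toMatrix'_comp] } :
        G →* Matrix ι ι F).toHomUnits).codRestrict (isometryGroup F Q) fun g u _ => by
    show Q (LinearMap.toMatrix' (L g) *ᵥ u) = Q u
    rw [LinearMap.toMatrix'_mulVec, hQ]

theorem isoHom_mulVec {G : Type*} [Group G] {ι : Type} [Fintype ι] [DecidableEq ι] {F : Type*} [Field F]
    (L : G → (ι → F) →ₗ[F] (ι → F)) (hone : L 1 = LinearMap.id)
    (hmul : ∀ a b, L (a * b) = (L a).comp (L b)) (Q : (ι → F) → F)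
    (hQ : ∀ g v, Q (L g v) = Q v) (g : G) (v : ι → F) :
    ((isoHom L hone hmul Q hQ g).1 : Matrix ι ι F) *ᵥ v = L g v :=
  LinearMap.toMatrix'_mulVec _ _

theorem iso_ext {ι : Type} [Fintype ι] [DecidableEq ι] {F : Type*} [Field F] {Q : (ι → F) → F}
    {g h : isometryGroup F Q} (H : ∀ v, (g.1 : Matrix ι ι F) *ᵥ v = (h.1 : Matrix ι ι F) *ᵥ v) : g = h :=
  Subtype.ext (Units.ext (Matrix.ext_iff_mulVec.2 H))

section Three

variable (F : Type*) [Field F]

local notation "V3" => (Unit ⊕ (Fin 1 ⊕ Fin 1) → F)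

/-- Vectors as trace zero matrices. -/
def toM : V3 →ₗ[F] Matrix (Fin 2) (Fin 2) F where
  toFun v := !![v (.inl ()), v (.inr (.inl 0)); v (.inr (.inr 0)), -v (.inl ())]
  map_add' u v := by ext i j; fin_cases i <;> fin_cases j <;> simp [add_comm]
  map_smul' c v := by ext i j; fin_cases i <;> fin_cases j <;> simp

/-- Coordinates of a trace zero matrix. -/
def ofM : Matrix (Fin 2) (Fin 2) F →ₗ[F] V3 where
  toFun A := Sum.elim (fun _ => A 0 0) (Sum.elim (fun _ => A 0 1) fun _ => A 1 0)
  map_add' A B := by funext x; rcases x with x | x | x <;> rfl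
  map_smul' c A := by funext x; rcases x with x | x | x <;> rfl

theorem ofM_toM (v : V3) : ofM F (toM F v) = v := by
  funext x
  rcases x with x | x | x
  · simp [ofM, toM]
  · obtain rfl := Subsingleton.elim x 0; simp [ofM, toM]
  · obtain rfl := Subsingleton.elim x 0; simp [ofM, toM]

theorem toM_ofM {A : Matrix (Fin 2) (Fin 2) F} (h : A 0 0 + A 1 1 = 0) : toM F (ofM F A) = A := by
  ext i j
  fin_cases i <;> fin_cases j <;> simp [ofM, toM]
  linear_combination -h

/-- The adjoint action. -/
def adL (g : GL (Fin 2) F) : V3 →ₗ[F] V3 :=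
  (ofM F).comp ((LinearMap.mulLeft F g.val).comp
    ((LinearMap.mulRight F (g⁻¹ : GL (Fin 2) F).val).comp (toM F)))

theorem toM_adL (g : GL (Fin 2) F) (v : V3) :
    toM F (adL F g v) = g.val * toM F v * (g⁻¹ : GL (Fin 2) F).val := by
  have htr : Matrix.trace (g.val * toM F v * (g⁻¹ : GL (Fin 2) F).val) = 0 := by
    rw [Matrix.trace_mul_comm, ← mul_assoc, ← Units.val_mul, inv_mul_cancel, Units.val_one, one_mul]
    simp [toM, Matrix.trace_fin_two]
  rw [Matrix.trace_fin_two] at htr
  show toM F (ofM F (g.val * (toM F v * (g⁻¹ : GL (Fin 2) F).val))) = _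
  rw [← mul_assoc, toM_ofM F htr]

theorem quadForm_eq (v : V3) : quadFormOdd 1 F v = -(toM F v).det := by
  simp [quadFormOdd, toM, Matrix.det_fin_two]
  ring

/-- The adjoint representation. -/
noncomputable def adHom : GL (Fin 2) F →* isometryGroup F (quadFormOdd 1 F) :=
  isoHom (adL F)
    (LinearMap.ext fun v => by
      rw [← ofM_toM F (adL F 1 v), toM_adL, inv_one, Units.val_one, one_mul, mul_one, ofM_toM]; rfl)
    (fun a b => LinearMap.ext fun v => by
      rw [LinearMap.comp_apply, ← ofM_toM F (adL F (a * b) v), ← ofM_toM F (adL F a (adL F b v)),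
        toM_adL, toM_adL, toM_adL, _root_.mul_inv_rev, Units.val_mul, Units.val_mul]
      simp only [mul_assoc])
    _ fun g v => by
      rw [quadForm_eq, quadForm_eq, toM_adL, Matrix.det_mul, Matrix.det_mul, mul_right_comm,
        ← Matrix.det_mul, ← Units.val_mul, mul_inv_cancel, Units.val_one, Matrix.det_one, one_mul]

theorem adHom_mulVec (g : GL (Fin 2) F) (v : V3) :
    ((adHom F g).1 : Matrix _ _ F) *ᵥ v = adL F g v :=
  isoHom_mulVec _ _ _ _ _ g v

/-- `-1` in the orthogonal group. -/
noncomputable def negOne : isometryGroup F (quadFormOdd 1 F) :=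
  ⟨⟨-1, -1, by simp, by simp⟩, fun u _ => by
    show quadFormOdd 1 F ((-1 : Matrix _ _ F) *ᵥ u) = quadFormOdd 1 F u
    rw [Matrix.neg_mulVec, Matrix.one_mulVec]
    simp [quadFormOdd]⟩

variable {F}

theorem commute_of_ad {g : GL (Fin 2) F} (hg : adHom F g = 1) (v : V3) :
    g.val * toM F v = toM F v * g.val := by
  have h := congrArg (toM F) ((adHom_mulVec F g v).symm.trans (show _ = v by rw [hg]; exact Matrix.one_mulVec v))
  rw [toM_adL] at h
  conv_rhs => rw [← h]
  rw [mul_assoc, ← Units.val_mul, inv_mul_cancel, Units.val_one, mul_one]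

theorem ad_eq_one_iff (g : GL (Fin 2) F) (h2 : (2 : F) ≠ 0) :
    adHom F g = 1 ↔ ∃ c : F, g.val = Matrix.scalar (Fin 2) c := by
  constructor
  · intro hg
    have hd := commute_of_ad hg (Sum.elim (fun _ => 1) fun _ => 0)
    have hu := commute_of_ad hg (Sum.elim (fun _ => 0) (Sum.elim (fun _ => 1) fun _ => 0))
    have e01 := congrFun (congrFun hd 0) 1
    have e10 := congrFun (congrFun hd 1) 0
    have e11 := congrFun (congrFun hu 0) 1
    simp [toM, Matrix.mul_apply, Fin.sum_univ_two] at e01 e10 e11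
    have z01 : g.val 0 1 = 0 :=
      (mul_eq_zero.1 (show (2 : F) * g.val 0 1 = 0 by linear_combination -e01)).resolve_left h2
    have z10 : g.val 1 0 = 0 :=
      (mul_eq_zero.1 (show (2 : F) * g.val 1 0 = 0 by linear_combination e10)).resolve_left h2
    refine ⟨g.val 0 0, ?_⟩
    ext i j
    fin_cases i <;> fin_cases j <;> simp [z01, z10, e11]
  · rintro ⟨c, hc⟩
    refine iso_ext fun v => ?_
    rw [adHom_mulVec, OneMemClass.coe_one, Units.val_one, Matrix.one_mulVec, ← ofM_toM F (adL F g v),
      toM_adL, hc, (Matrix.scalar_commute c (fun r => Commute.all _ r) (toM F v)).eq, ← hc, mul_assoc,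
      ← Units.val_mul, mul_inv_cancel, Units.val_one, mul_one, ofM_toM]

theorem negOne_ne_ad (h2 : (2 : F) ≠ 0) (g : GL (Fin 2) F) : adHom F g ≠ negOne F := by
  intro hg
  have key : ∀ v, g.val * toM F v = -(toM F v * g.val) := fun v => by
    have h := congrArg (toM F) ((adHom_mulVec F g v).symm.trans (show _ = -v by
      rw [hg, negOne]
      show (-1 : Matrix _ _ F) *ᵥ v = -v
      rw [Matrix.neg_mulVec, Matrix.one_mulVec]))
    rw [toM_adL, map_neg] at h
    rw [← neg_mul, ← h, mul_assoc, ← Units.val_mul, inv_mul_cancel, Units.val_one, mul_one]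
  have hd := key (Sum.elim (fun _ => 1) fun _ => 0)
  have hu := key (Sum.elim (fun _ => 0) (Sum.elim (fun _ => 1) fun _ => 0))
  have e00 := congrFun (congrFun hd 0) 0
  have e11 := congrFun (congrFun hd 1) 1
  have e := congrFun (congrFun hu 0) 0
  simp [toM, Matrix.mul_apply, Fin.sum_univ_two, Matrix.vecMul, dotProduct] at e00 e11 e
  have z00 : g.val 0 0 = 0 :=
    (mul_eq_zero.1 (show (2 : F) * g.val 0 0 = 0 by linear_combination e00)).resolve_left h2
  have z11 : g.val 1 1 = 0 :=
    (mul_eq_zero.1 (show (2 : F) * g.val 1 1 = 0 by linear_combination -e11)).resolve_left h2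
  refine (Matrix.GeneralLinearGroup.det g).ne_zero ?_
  show g.val.det = 0
  rw [Matrix.det_fin_two, z00, z11, e]
  ring

theorem nonempty_pOmega_three [Fintype F] (hodd : Odd (Fintype.card F)) :
    Nonempty (POmega F (quadFormOdd 1 F) ≃* Matrix.ProjectiveSpecialLinearGroup (Fin 2) F) := by
  classical
  have h2 : (2 : F) ≠ 0 := Ring.two_ne_zero fun h => by
    have := ringChar.of_eq h
    have := FiniteField.even_card_of_char_two h
    exact (Nat.not_even_iff_odd.2 hodd) (Nat.even_iff.2 this)
  have hq : 3 ≤ Fintype.card F := by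
    have := Fintype.one_lt_card (α := F)
    obtain ⟨k, hk⟩ := hodd
    omega
  set O := isometryGroup F (quadFormOdd 1 F)
  -- the number of isometries
  have hO : Nat.card O = 2 * (Fintype.card F * (Fintype.card F ^ 2 - 1)) := by
    have h := Classical.order_qfOdd (F := F) h2 1
    rw [← Classical.natCard_isometryGroup' (f := quadFormOdd 1 F) _ (Classical.coe_qfOdd 1)] at h
    have h1 : 1 ≤ Fintype.card F ^ 2 := Nat.one_le_pow _ _ (by omega)
    refine Nat.cast_inj (R := ℤ).1 (h.trans ?_)
    simp [Nat.cast_sub h1]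
    ring
  -- the kernel of the adjoint representation
  have hK : Nat.card (adHom F).ker = Fintype.card F - 1 := by
    rw [← Fintype.card_units, ← Nat.card_eq_fintype_card]
    refine (Nat.card_congr (Equiv.ofBijective (fun u : Fˣ =>
      (⟨Matrix.GeneralLinearGroup.scalar (Fin 2) u, MonoidHom.mem_ker.2 ((ad_eq_one_iff _ h2).2
        ⟨u, rfl⟩)⟩ : (adHom F).ker)) ⟨fun u u' h => ?_, fun g => ?_⟩)).symm
    · exact Units.ext (by
        have := congrArg (fun g : (adHom F).ker => g.1.val 0 0) h
        simpa using this)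
    · obtain ⟨c, hc⟩ := (ad_eq_one_iff g.1 h2).1 g.2
      have hc0 : c ≠ 0 := fun h0 => (Matrix.GeneralLinearGroup.det g.1).ne_zero (by
        show g.1.val.det = 0
        rw [hc, h0]
        simp)
      exact ⟨Units.mk0 c hc0, Subtype.ext (Units.ext hc.symm)⟩
  have hGL : Nat.card (GL (Fin 2) F) = (Fintype.card F - 1) *
      (Fintype.card F * (Fintype.card F ^ 2 - 1)) := by
    rw [Matrix.card_GL_field, Fin.prod_univ_two]
    simp only [Fin.val_zero, Fin.val_one, pow_zero, pow_one]
    rw [pow_two, ← Nat.mul_sub_one]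
    ring
  have hR : Nat.card (adHom F).range = Fintype.card F * (Fintype.card F ^ 2 - 1) := by
    have h := (adHom F).ker.card_eq_card_quotient_mul_card_subgroup
    rw [Nat.card_congr (QuotientGroup.quotientKerEquivRange (adHom F)).toEquiv, hK, hGL,
      mul_comm (Fintype.card F - 1)] at h
    exact Nat.eq_of_mul_eq_mul_right (by omega) h.symm
  -- every isometry is `± Ad`
  have hidx : (adHom F).range.index = 2 := by
    have h := (adHom F).range.card_mul_index
    rw [hR, hO, mul_comm 2] at h
    refine Nat.eq_of_mul_eq_mul_left ?_ h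
    have : 0 < Nat.card (adHom F).range := Nat.card_pos
    rwa [hR] at this
  have hsplit : ∀ g : O, g ∈ (adHom F).range ∨ negOne F * g ∈ (adHom F).range := by
    intro g
    by_cases hg : g ∈ (adHom F).range
    · exact Or.inl hg
    · refine Or.inr ((Subgroup.mul_mem_iff_of_index_two hidx).2 ?_)
      exact iff_of_false (fun ⟨k, hk⟩ => negOne_ne_ad h2 k hk) hg
  have hneg : negOne F ∈ Subgroup.center O := by
    refine Subgroup.mem_center_iff.2 fun g => Subtype.ext (Units.ext ?_)
    show g.1.val * (-1 : Matrix _ _ F) = (-1 : Matrix _ _ F) * g.1.val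
    simp
  let ψ := (adHom F).comp (Matrix.SpecialLinearGroup.toGL (n := Fin 2) (R := F))
  refine nonempty_equiv ψ ?_ ?_
  · ext g
    rw [MonoidHom.mem_ker, MonoidHom.comp_apply, ad_eq_one_iff _ h2, Matrix.SpecialLinearGroup.mem_center_iff]
    constructor
    · rintro ⟨c, hc⟩
      refine ⟨c, ?_, hc.symm⟩
      have := g.2
      rw [show g.1 = Matrix.scalar (Fin 2) c from hc] at this
      simpa using this
    · rintro ⟨c, -, hc⟩
      exact ⟨c, hc.symm⟩
  · have hrange : ψ.range = (Matrix.GeneralLinearGroup.det : GL (Fin 2) F →* Fˣ).ker.map (adHom F) := by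
      rw [MonoidHom.range_comp, Classical.GL_ker_det_eq_range_toGL]
    have hexist : ∃ a : F, a ≠ 0 ∧ a ≠ 1 := by
      by_contra hcon
      push Not at hcon
      have : (Finset.univ : Finset F) ⊆ {0, 1} := fun a _ => by
        by_cases h0 : a = 0
        · simp [h0]
        · simp [hcon a h0]
      have := (Finset.card_le_card this).trans Finset.card_le_two
      rw [Finset.card_univ] at this
      omega
    rw [hrange, Omega]
    refine le_antisymm ?_ ?_
    · rw [← Classical.GL_commutator_eq_ker_det fun _ => hexist, commutator_def, commutator_def,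
        Subgroup.map_commutator]
      exact Subgroup.commutator_mono le_top le_top
    · rw [commutator_def, Subgroup.commutator_le]
      intro g _ g' _
      obtain ⟨ε, hε, k, hk⟩ : ∃ ε ∈ Subgroup.center O, ∃ k, g = ε * adHom F k := by
        rcases hsplit g with ⟨k, hk⟩ | ⟨k, hk⟩
        · exact ⟨1, one_mem _, k, by rw [one_mul, hk]⟩
        · exact ⟨(negOne F)⁻¹, inv_mem hneg, k, by rw [hk, inv_mul_cancel_left]⟩
      obtain ⟨ε', hε', k', hk'⟩ : ∃ ε ∈ Subgroup.center O, ∃ k, g' = ε * adHom F k := by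
        rcases hsplit g' with ⟨k, hk⟩ | ⟨k, hk⟩
        · exact ⟨1, one_mem _, k, by rw [one_mul, hk]⟩
        · exact ⟨(negOne F)⁻¹, inv_mem hneg, k, by rw [hk, inv_mul_cancel_left]⟩
      refine ⟨⁅k, k'⁆, Abelianization.commutator_subset_ker _ ?_, ?_⟩
      · exact Subgroup.commutator_mem_commutator (Subgroup.mem_top _) (Subgroup.mem_top _)
      · have c : ∀ a x : O, a ∈ Subgroup.center O → a * x = x * a :=
          fun a x ha => (Subgroup.mem_center_iff.1 ha x).symm
        rw [map_commutatorElement, hk, hk', commutatorElement_def, commutatorElement_def]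
        symm
        calc ε * adHom F k * (ε' * adHom F k') * (ε * adHom F k)⁻¹ * (ε' * adHom F k')⁻¹
            = ε * (adHom F k * ε') * adHom F k' * (adHom F k)⁻¹ * (ε⁻¹ * (adHom F k')⁻¹) * ε'⁻¹ := by
              group
          _ = ε * (ε' * adHom F k) * adHom F k' * (adHom F k)⁻¹ * ((adHom F k')⁻¹ * ε⁻¹) * ε'⁻¹ := by
              rw [c _ _ hε', c _ _ (inv_mem hε)]
          _ = (ε * ε') * (adHom F k * adHom F k' * (adHom F k)⁻¹ * (adHom F k')⁻¹) * (ε' * ε)⁻¹ := by
              group
          _ = (ε * ε') * (adHom F k * adHom F k' * (adHom F k)⁻¹ * (adHom F k')⁻¹) * (ε * ε')⁻¹ := by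
              rw [c _ ε' hε]
          _ = _ := by rw [c _ _ (mul_mem hε hε'), mul_inv_cancel_right]

end Three

end Cfsg.Agent.Fus.OmegaRankOne
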