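/-
The Klein correspondence: the action of `4 × 4` matrices on alternating matrices and the
Pfaffian, together with a recognition lemma for a central quotient of a derived subgroup.
-/
import Mathlib
import Cfsg.Prelude.Def_Classical

set_option autoImplicit false
set_option linter.unusedSimpArgs false
set_option linter.unnecessarySeqFocus false

namespace Cfsg.Agent.Fus.KleinSix

open Matrix
open scoped commutatorElement

/-- If a quasisimple group `S` maps non-trivially into `O` and its image has at least the order of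
the derived subgroup, then the central quotient of the derived subgroup is that of `S`. -/
theorem nonempty_equiv_of_card {S O : Type*} [Group S] [Finite S] [Group O] [Finite O] (ψ : S →* O)
    (hperf : commutator S = ⊤) (hsimple : IsSimpleGroup (S ⧸ Subgroup.center S))
    (hne : ∃ x, ψ x ≠ 1)
    (hcard : ψ.ker ≤ Subgroup.center S → Nat.card ψ.ker * Nat.card (commutator O) ≤ Nat.card S) :
    Nonempty (↥(commutator O) ⧸ Subgroup.center ↥(commutator O) ≃* S ⧸ Subgroup.center S) := by
  have hdich : ∀ N : Subgroup S, N.Normal → N ≤ Subgroup.center S ∨ N = ⊤ := by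
    intro N hN
    rcases hsimple.eq_bot_or_eq_top_of_normal (N.map (QuotientGroup.mk' (Subgroup.center S)))
      (hN.map _ (QuotientGroup.mk'_surjective _)) with h | h
    · left
      rwa [Subgroup.map_eq_bot_iff, QuotientGroup.ker_mk'] at h
    · right
      have h' : N ⊔ Subgroup.center S = ⊤ := by
        have := congrArg (Subgroup.comap (QuotientGroup.mk' (Subgroup.center S))) h
        rwa [Subgroup.comap_map_eq, QuotientGroup.ker_mk', Subgroup.comap_top] at this
      refine top_le_iff.1 ?_
      rw [← hperf, commutator_def, Subgroup.commutator_le]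
      intro a _ b _
      obtain ⟨n, hn, z, hz, rfl⟩ := Subgroup.mem_sup_of_normal_left.1 (h'.ge (Subgroup.mem_top a))
      have e : ⁅n * z, b⁆ = n * (b * n⁻¹ * b⁻¹) := by
        have hzb : z * b * z⁻¹ = b := by
          rw [← Subgroup.mem_center_iff.1 hz b, mul_inv_cancel_right]
        rw [commutatorElement_def, _root_.mul_inv_rev,
          show n * z * b * (z⁻¹ * n⁻¹) * b⁻¹ = n * ((z * b * z⁻¹) * n⁻¹ * b⁻¹) by group, hzb]
      rw [e]
      exact mul_mem hn (hN.conj_mem _ (inv_mem hn) b)
  have hk : ψ.ker ≤ Subgroup.center S := (hdich ψ.ker inferInstance).resolve_right fun h => by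
    obtain ⟨x, hx⟩ := hne
    exact hx (MonoidHom.mem_ker.1 (h ▸ Subgroup.mem_top x))
  have hmem : ∀ x, ψ x ∈ commutator O := fun x => by
    have : ψ x ∈ (commutator S).map ψ := Subgroup.mem_map_of_mem ψ (hperf.symm ▸ Subgroup.mem_top x)
    rw [commutator_def, Subgroup.map_commutator] at this
    exact Subgroup.commutator_mono le_top le_top this
  let ω : S →* ↥(commutator O) := ψ.codRestrict (commutator O) hmem
  have hω : Function.Surjective ω := by
    rw [← MonoidHom.range_eq_top]
    refine Subgroup.eq_top_of_le_card _ (Nat.le_of_mul_le_mul_left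
      (?_ : Nat.card ω.ker * _ ≤ Nat.card ω.ker * _) Nat.card_pos)
    rw [← Subgroup.index_ker, Subgroup.card_mul_index]
    have he : ω.ker = ψ.ker := by
      ext x
      simp only [MonoidHom.mem_ker, Subtype.ext_iff]
      rfl
    rw [he]
    exact hcard hk
  let π : S →* ↥(commutator O) ⧸ Subgroup.center ↥(commutator O) := (QuotientGroup.mk' _).comp ω
  have hπ : Function.Surjective π := (QuotientGroup.mk'_surjective _).comp hω
  have hker : π.ker = Subgroup.center S := by
    refine le_antisymm ((hdich π.ker inferInstance).resolve_right fun h => ?_) fun x hx => ?_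
    · obtain ⟨x, hx⟩ := hne
      have hall : ∀ a, ω a ∈ Subgroup.center _ := fun a =>
        (QuotientGroup.eq_one_iff _).1 (MonoidHom.mem_ker.1 (h ▸ Subgroup.mem_top a) : π a = 1)
      have hle : commutator S ≤ ω.ker := by
        rw [commutator_def, Subgroup.commutator_le]
        intro a _ b _
        rw [MonoidHom.mem_ker, map_commutatorElement, commutatorElement_eq_one_iff_mul_comm]
        exact Subgroup.mem_center_iff.1 (hall b) _
      exact hx (congrArg Subtype.val (MonoidHom.mem_ker.1 (hle (hperf.symm ▸ Subgroup.mem_top x))))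
    · refine MonoidHom.mem_ker.2 ((QuotientGroup.eq_one_iff _).2 (Subgroup.mem_center_iff.2 fun z => ?_))
      obtain ⟨y, rfl⟩ := hω z
      rw [← map_mul, ← map_mul, Subgroup.mem_center_iff.1 hx y]
  exact ⟨((QuotientGroup.quotientMulEquivOfEq hker.symm).trans
    (QuotientGroup.quotientKerEquivOfSurjective π hπ)).symm⟩

theorem natCard_sq_eq_one (R : Type*) [Field R] [Finite R] :
    Nat.card {c : R // c * c = 1} ≤ 2 ∧ ((2 : R) = 0 → Nat.card {c : R // c * c = 1} ≤ 1) := by
  classical
  refine ⟨le_trans (Nat.card_le_card_of_injective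
      (fun c : {c : R // c * c = 1} => decide (c.1 = 1)) fun a b hab => Subtype.ext ?_) (by simp),
    fun h => (Finite.card_le_one_iff_subsingleton).2 ⟨fun a b => Subtype.ext ?_⟩⟩
  · simp only [decide_eq_decide] at hab
    rcases mul_self_eq_one_iff.1 a.2 with ha | ha <;> rcases mul_self_eq_one_iff.1 b.2 with hb | hb
    · rw [ha, hb]
    · rw [ha, hab.1 ha]
    · rw [hb, hab.2 hb]
    · rw [ha, hb]
  · have h1 : ∀ c : R, c * c = 1 → c = 1 := fun c hc =>
      (mul_self_eq_one_iff.1 hc).elim id fun e => by rw [e]; linear_combination (-h)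
    rw [h1 _ a.2, h1 _ b.2]

section

variable {F : Type*} [CommRing F]

local notation "V6" => (Fin 3 ⊕ Fin 3 → F)
local notation "M4" => Matrix (Fin 4) (Fin 4) F

/-- Coordinates as an alternating matrix; the Pfaffian is `∑ xᵢ yᵢ`. -/
def toA (v : Fin 3 ⊕ Fin 3 → F) : Matrix (Fin 4) (Fin 4) F :=
  !![0, v (.inl 0), v (.inl 1), v (.inl 2);
    -v (.inl 0), 0, v (.inr 2), -v (.inr 1);
    -v (.inl 1), -v (.inr 2), 0, v (.inr 0);
    -v (.inl 2), v (.inr 1), -v (.inr 0), 0]

/-- The coordinates of an alternating matrix. -/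
def ofA (A : Matrix (Fin 4) (Fin 4) F) : Fin 3 ⊕ Fin 3 → F :=
  Sum.elim ![A 0 1, A 0 2, A 0 3] ![A 2 3, -A 1 3, A 1 2]

theorem ofA_toA (v : V6) : ofA (toA v) = v := by
  funext i
  rcases i with i | i <;> fin_cases i <;> simp [ofA, toA]

set_option maxHeartbeats 1000000 in
theorem toA_ofA_congr (g : M4) (v : V6) : toA (ofA (g * toA v * gᵀ)) = g * toA v * gᵀ := by
  ext i j
  fin_cases i <;> fin_cases j <;>
    simp [ofA, toA, Matrix.mul_apply, Fin.sum_univ_four] <;> ring

theorem toA_add (u v : V6) : toA (u + v) = toA u + toA v := by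
  ext i j
  fin_cases i <;> fin_cases j <;> simp [toA] <;> ring

theorem toA_smul (c : F) (v : V6) : toA (c • v) = c • toA v := by
  ext i j
  fin_cases i <;> fin_cases j <;> simp [toA]

theorem ofA_add (A B : M4) : ofA (A + B) = ofA A + ofA B := by
  funext i
  rcases i with i | i <;> fin_cases i <;> simp [ofA] <;> ring

theorem ofA_smul (c : F) (A : M4) : ofA (c • A) = c • ofA A := by
  funext i
  rcases i with i | i <;> fin_cases i <;> simp [ofA]

/-- The action on alternating matrices. -/
def act (g : Matrix (Fin 4) (Fin 4) F) : (Fin 3 ⊕ Fin 3 → F) →ₗ[F] (Fin 3 ⊕ Fin 3 → F) where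
  toFun v := ofA (g * toA v * gᵀ)
  map_add' u v := by rw [toA_add, Matrix.mul_add, Matrix.add_mul, ofA_add]
  map_smul' c v := by rw [toA_smul, Matrix.mul_smul, Matrix.smul_mul, ofA_smul]; rfl

theorem act_one : act (1 : M4) = LinearMap.id := by
  refine LinearMap.ext fun v => ?_
  show ofA _ = v
  rw [Matrix.transpose_one, Matrix.one_mul, Matrix.mul_one, ofA_toA]

theorem act_mul (g h : M4) : act (g * h) = (act g).comp (act h) := by
  refine LinearMap.ext fun v => ?_
  show ofA _ = ofA (g * toA (ofA _) * gᵀ)
  rw [toA_ofA_congr, Matrix.transpose_mul]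
  simp only [Matrix.mul_assoc]

theorem act_scalar (c : F) (v : V6) : act (c • (1 : M4)) v = (c * c) • v := by
  show ofA _ = _
  rw [Matrix.transpose_smul, Matrix.transpose_one, Matrix.smul_mul, Matrix.one_mul, Matrix.mul_smul,
    Matrix.mul_one, smul_smul, ofA_smul, ofA_toA]

/-- The Pfaffian. -/
def pf (v : Fin 3 ⊕ Fin 3 → F) : F := ∑ i : Fin 3, v (.inl i) * v (.inr i)

set_option maxHeartbeats 4000000 in
theorem pf_act (g : M4) (v : V6) : pf (act g v) = g.det * pf v := by
  show pf (ofA (g * toA v * gᵀ)) = _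
  simp [pf, ofA, toA, Matrix.mul_apply, Fin.sum_univ_four, Fin.sum_univ_three,
    Matrix.det_succ_row_zero, Fin.sum_univ_succ, Fin.succAbove]
  ring

/-- Exchange of the two halves of the coordinates. -/
def star (v : Fin 3 ⊕ Fin 3 → F) : Fin 3 ⊕ Fin 3 → F := fun i => v i.swap

set_option maxHeartbeats 4000000 in
theorem star_act (g : M4) (v : V6) :
    act gᵀ (star (act g v)) = g.det • star v := by
  show ofA (gᵀ * toA (star (ofA (g * toA v * gᵀ))) * gᵀᵀ) = _
  funext i
  rcases i with i | i <;> fin_cases i <;>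
    simp [star, ofA, toA, Matrix.mul_apply, Fin.sum_univ_four, Fin.sum_univ_three,
      Matrix.det_succ_row_zero, Fin.sum_univ_succ, Fin.succAbove] <;> ring

end

section

variable {F : Type*} [Field F]

local notation "V6" => (Fin 3 ⊕ Fin 3 → F)
local notation "SL4" => Matrix.SpecialLinearGroup (Fin 4) F

/-- The action of `SL₄` by isometries of the hyperbolic form in dimension six. -/
noncomputable def klein : Matrix.SpecialLinearGroup (Fin 4) F →*
    Cfsg.isometryGroup F (Cfsg.quadFormPlus 3 F) :=
  (({ toFun := fun g => LinearMap.toMatrix' (act g.1)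
      map_one' := by rw [Matrix.SpecialLinearGroup.coe_one, act_one, LinearMap.toMatrix'_id]
      map_mul' := fun a b => by
        rw [Matrix.SpecialLinearGroup.coe_mul, act_mul, LinearMap.toMatrix'_comp] } :
        Matrix.SpecialLinearGroup (Fin 4) F →* Matrix (Fin 3 ⊕ Fin 3) (Fin 3 ⊕ Fin 3) F).toHomUnits).codRestrict
    _ fun g u _ => by
      show pf (LinearMap.toMatrix' (act g.1) *ᵥ u) = pf u
      rw [LinearMap.toMatrix'_mulVec, pf_act, g.2, one_mul]

theorem klein_mulVec (g : SL4) (v : V6) :
    ((klein g).1 : Matrix (Fin 3 ⊕ Fin 3) (Fin 3 ⊕ Fin 3) F) *ᵥ v = act g.1 v :=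
  LinearMap.toMatrix'_mulVec _ _

/-- A transvection moves the first coordinate vector. -/
theorem act_transvection_ne : ∃ (t : SL4) (v : V6), act t.1 v ≠ v := by
  refine ⟨⟨Matrix.transvection 2 1 1, Matrix.det_transvection_of_ne 2 1 (by decide) 1⟩,
    Pi.single (.inl 0) 1, fun h => ?_⟩
  have := congrFun h (.inl 1)
  simp [act, ofA, toA, Matrix.transvection, Matrix.mul_apply, Fin.sum_univ_four, Matrix.single] at this

end

end Cfsg.Agent.Fus.KleinSix
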