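/-
`PΩ⁺₆(q) ≅ PSL₄(q)`.
-/
import Cfsg.Agent.Lib.Fus.KleinSix
import Cfsg.Agent.Lib.Classical.SLGroup
import Cfsg.Agent.Lib.Classical.SLNormal
import Cfsg.Agent.Lib.Classical.OrthPOmegaCard
import Cfsg.Agent.Lib.Classical.OrthGenModels

set_option autoImplicit false

namespace Cfsg.Agent.Fus.OmegaSix

open Matrix Cfsg.Agent.Classical Cfsg.Agent.Classical.OrthAut

variable {F : Type*} [Field F] [Fintype F]

/-- The numerical hypothesis of the recognition lemma from the index of the derived subgroup. -/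
theorem card_bound {ι : Type} [Fintype ι] [DecidableEq ι] (Q : QuadraticForm F (ι → F))
    (hQ : (QuadraticMap.polarBilin Q).Nondegenerate) (hn : 6 ≤ Fintype.card ι ∨ (2 : F) ≠ 0)
    (hn2 : 2 ≤ Fintype.card ι) {k s : ℕ} (hk : k ≤ Nat.card {c : F // c * c = 1})
    (hs : (isoCard Q : ℤ) = 2 * (s : ℤ)) : k * Nat.card (Omega F ⇑Q) ≤ s := by
  have h : Nat.card (Omega F ⇑Q) * (Omega F ⇑Q).index = 2 * s := by
    rw [(Omega F ⇑Q).card_mul_index, natCard_isometryGroup]
    exact_mod_cast hs
  obtain ⟨b2, b1⟩ := KleinSix.natCard_sq_eq_one F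
  by_cases h2 : (2 : F) = 0
  · rw [index_omega_two hQ (genQ_of_card (Or.inr (by
      rcases hn with hn | hn
      · omega
      · exact absurd h2 hn))) h2 (by omega)] at h
    have := Nat.mul_le_mul_right (Nat.card (Omega F ⇑Q)) (hk.trans (b1 h2))
    omega
  · rw [index_omega_odd hQ (genQ_odd hQ h2) h2 hn2] at h
    have := Nat.mul_le_mul_right (Nat.card (Omega F ⇑Q)) (hk.trans b2)
    omega

theorem natCard_SL_four : (Nat.card (Matrix.SpecialLinearGroup (Fin 4) F) : ℤ) =
    (Fintype.card F : ℤ) ^ 6 * ((Fintype.card F : ℤ) ^ 4 - 1) * ((Fintype.card F : ℤ) ^ 3 - 1) *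
      ((Fintype.card F : ℤ) ^ 2 - 1) := by
  have h := natCard_GL_eq_SL_mul (F := F) 4 (by norm_num)
  rw [Matrix.card_GL_field, Nat.card_units, Nat.card_eq_fintype_card] at h
  have hq := Fintype.one_lt_card (α := F)
  simp only [Fin.prod_univ_four, Fin.isValue, Fin.val_zero, Fin.val_one, Fin.val_two] at h

  have h3 : ((3 : Fin 4) : ℕ) = 3 := rfl
  rw [h3] at h
  obtain ⟨q, hqdef⟩ : ∃ q, q = Fintype.card F := ⟨_, rfl⟩
  rw [← hqdef] at h hq ⊢
  have e : ∀ i ≤ 4, q ^ i ≤ q ^ 4 := fun i hi => Nat.pow_le_pow_right (by omega) hi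
  zify [e 0 (by norm_num), e 1 (by norm_num), e 2 (by norm_num), e 3 (by norm_num),
    (by omega : 1 ≤ q)] at h
  refine mul_right_cancel₀ (b := (q : ℤ) - 1) (by omega) ?_
  linear_combination -h

theorem nonempty_pOmega_six_plus : Nonempty (POmega F (quadFormPlus 3 F) ≃*
    Matrix.ProjectiveSpecialLinearGroup (Fin 4) F) := by
  classical
  refine KleinSix.nonempty_equiv_of_card KleinSix.klein
    (SL_commutator_eq_top fun h => by simp at h)
    (PSL_isSimple (by norm_num) fun h => by norm_num at h) ?_ ?_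
  · obtain ⟨t, v, htv⟩ := KleinSix.act_transvection_ne (F := F)
    refine ⟨t, fun e => htv ?_⟩
    have := KleinSix.klein_mulVec t v
    rw [e] at this
    simpa using this.symm
  · intro hle
    have hsc : ∀ x : (KleinSix.klein (F := F)).ker, ∃ r : F, r * r = 1 ∧
        x.1.1 = r • (1 : Matrix (Fin 4) (Fin 4) F) := fun x => by
      obtain ⟨r, -, hr⟩ := Matrix.SpecialLinearGroup.mem_center_iff.1 (hle x.2)
      have hr' : x.1.1 = r • (1 : Matrix (Fin 4) (Fin 4) F) := by
        rw [← hr, Matrix.scalar_apply, Matrix.smul_one_eq_diagonal]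
      refine ⟨r, ?_, hr'⟩
      have := KleinSix.klein_mulVec x.1 (Pi.single (.inl 0) 1)
      rw [MonoidHom.mem_ker.1 x.2, hr', KleinSix.act_scalar] at this
      simpa using (congrFun this (.inl 0)).symm
    have hk : Nat.card (KleinSix.klein (F := F)).ker ≤ Nat.card {c : F // c * c = 1} := by
      choose r hr hr' using hsc
      exact Nat.card_le_card_of_injective (fun x => ⟨r x, hr x⟩) fun a b hab =>
        Subtype.ext (Subtype.ext (by rw [hr' a, hr' b, show r a = r b from congrArg Subtype.val hab]))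
    have := card_bound (qfPlus 3 F) (nondegenerate_qfPlus 3) (Or.inl (by simp)) (by simp) hk
      (s := Nat.card (Matrix.SpecialLinearGroup (Fin 4) F)) (by
        rw [order_qfPlus 2, natCard_SL_four]
        simp [Finset.prod_range_succ]
        ring)
    rwa [coe_qfPlus] at this

end Cfsg.Agent.Fus.OmegaSix
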