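import Cfsg.Agent.Lib.Classical.OrthPlusForms
import Cfsg.Agent.Lib.Classical.DicksonEmbed

/-!
Over the quadratic extension an elliptic form splits.
-/

set_option autoImplicit false
set_option linter.unusedSectionVars false

namespace Cfsg.Agent.Fus.OrthExtSplit

open Cfsg.Agent.Classical Module
open Cfsg.Agent.Classical.OrthAut (Aniso no_root nondegenerate_rat mapOG plus_of_half half_of_root)

variable {F K : Type*} [Field F] [Fintype F] [Field K] [Fintype K]

theorem exists_root (j : F →+* K) {q : ℕ} (hF : Fintype.card F = q) (hK : Fintype.card K = q ^ 2)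
    {a b : F} (hab : Aniso F a b) : ∃ t : K, t ^ 2 + j a * t + j b = 0 := by
  letI := j.toAlgebra
  have hK2 : finrank F K = 2 := by
    have h := Module.card_eq_pow_finrank (K := F) (V := K)
    rw [hK, hF] at h
    exact (Nat.pow_right_injective (hF ▸ Fintype.one_lt_card) h).symm
  haveI : Finite K := inferInstance
  obtain ⟨f, hf⟩ : ∃ f : Polynomial F,
      f = Polynomial.X ^ 2 + Polynomial.C a * Polynomial.X + Polynomial.C b := ⟨_, rfl⟩
  have hdeg : f.natDegree = 2 := by rw [hf]; compute_degree!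
  have hmon : f.Monic := by rw [hf]; monicity!
  have hirr : Irreducible f := by
    rw [hmon.irreducible_iff_roots_eq_zero_of_degree_le_three (by rw [hdeg]) (by rw [hdeg]; norm_num)]
    refine Multiset.eq_zero_of_forall_notMem fun t ht => ?_
    rw [Polynomial.mem_roots hmon.ne_zero, Polynomial.IsRoot] at ht
    exact no_root hab t (by simpa [hf] using ht)
  haveI : Fact (Irreducible f) := ⟨hirr⟩
  have hfin : finrank F (AdjoinRoot f) = 2 := by
    rw [(AdjoinRoot.powerBasis hmon.ne_zero).finrank, AdjoinRoot.powerBasis_dim, hdeg]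
  obtain ⟨φ⟩ := FiniteField.nonempty_algHom_of_finrank_dvd (F := F) (K := AdjoinRoot f) (L := K)
    (by rw [hfin, hK2])
  refine ⟨φ (AdjoinRoot.root f), ?_⟩
  have h := congrArg φ (AdjoinRoot.aeval_eq (f := f) f)
  rw [AdjoinRoot.mk_self, map_zero, ← Polynomial.aeval_algHom_apply] at h
  simpa [hf, RingHom.algebraMap_toAlgebra] using h

theorem main {q : ℕ} (hF : Fintype.card F = q) (hK : Fintype.card K = q ^ 2) {m : ℕ} (hm : 1 ≤ m)
    {a c : F} (hac : Aniso F a c) :
    ∃ φ : ↥(Cfsg.isometryGroup F (Cfsg.quadFormMinus (m - 1) F a c)) →*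
      ↥(Cfsg.isometryGroup K (Cfsg.quadFormPlus m K)), Function.Injective φ := by
  obtain ⟨k, rfl⟩ : ∃ k, m = k + 1 := ⟨m - 1, by omega⟩
  rw [Nat.add_sub_cancel]
  obtain ⟨j⟩ := Cfsg.Agent.Dickson.exists_ringHom_of_card_pow (K := F) (F := K) (m := 2) (by rw [hF, hK])
  have hP : ∀ v, qfMinus k K (j a) (j c) (j ∘ v) = j (qfMinus k F a c v) := fun v => by
    simp [qfMinus_apply, Cfsg.quadFormMinus, map_sum]
  have hn := nondegenerate_rat j hP (nondegenerate_qfMinus k hac)
  obtain ⟨t, ht⟩ := exists_root j hF hK hac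
  obtain ⟨U, hU⟩ := half_of_root (k := k) ht
  obtain ⟨e, he⟩ := plus_of_half (k := k + 1) (by omega) (by simp; omega) hn hU
  obtain ⟨D⟩ := OrthAut.nonempty_isoData (Q := qfMinus k K (j a) (j c))
    (Q' := qfPlus (k + 1) K) (e := e.symm)
    (fun v => by rw [← he, LinearEquiv.apply_symm_apply])
  rw [← coe_qfMinus, ← coe_qfPlus]
  refine ⟨D.og.toMonoidHom.comp (mapOG j hP), D.og.injective.comp fun g h e' => ?_⟩
  refine Subtype.ext (Units.ext ?_)
  have h2 := congrArg (fun x : ↥(Cfsg.isometryGroup K ⇑(qfMinus k K (j a) (j c))) =>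
    (x : Matrix.GeneralLinearGroup ((Fin k ⊕ Fin k) ⊕ Fin 2) K).val) e'
  exact Matrix.map_injective j.injective h2

end Cfsg.Agent.Fus.OrthExtSplit
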