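/-
`PΩ⁻₆(q) ≅ PSU₄(q)`: the Klein correspondence commuting with a semilinear involution.
-/
import Cfsg.Agent.Lib.Fus.OmegaSixPlus
import Cfsg.Agent.Lib.Fus.OmegaRankOne
import Cfsg.Agent.Lib.Fus.UnitTransvection
import Cfsg.Agent.Lib.Fus.OrthExtSplit
import Cfsg.Agent.Lib.Classical.HermTotIsoLines

set_option autoImplicit false

namespace Cfsg.Agent.Fus.OmegaSixMinus

open Matrix Cfsg.Agent.Classical Cfsg.Agent.Classical.OrthAut Cfsg.Agent.Fus.KleinSix

section

variable {K : Type*} [Field K]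

/-- The semilinear involution. -/
def tau (σ : K →+* K) (v : Fin 3 ⊕ Fin 3 → K) : Fin 3 ⊕ Fin 3 → K := fun i => σ (star v i)

theorem act_map (σ : K →+* K) (A : Matrix (Fin 4) (Fin 4) K) (v : Fin 3 ⊕ Fin 3 → K) :
    (fun i => σ (act A v i)) = act (A.map σ) (fun i => σ (v i)) := by
  have hto : toA (fun i => σ (v i)) = (toA v).map σ := by
    ext i j
    fin_cases i <;> fin_cases j <;> simp [toA]
  show _ = ofA (A.map σ * toA (fun i => σ (v i)) * (A.map σ)ᵀ)
  rw [hto, ← Matrix.transpose_map, ← Matrix.map_mul, ← Matrix.map_mul]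
  funext i
  show σ (ofA (A * toA v * Aᵀ) i) = _
  rcases i with i | i <;> fin_cases i <;> simp [ofA]

theorem tau_act (σ : K →+* K) (hσ : ∀ x, σ (σ x) = x) {M : Matrix (Fin 4) (Fin 4) K}
    (hd : M.det = 1) (hM : Mᵀ * M.map σ = 1) (v : Fin 3 ⊕ Fin 3 → K) :
    tau σ (act M v) = act M (tau σ v) := by
  have h1 : M.map σ * Mᵀ = 1 := mul_eq_one_comm.1 hM
  have h2 : star (act M v) = act (M.map σ) (star v) := by
    have := congrArg (act (M.map σ)) (star_act M v)
    rw [hd, one_smul, ← LinearMap.comp_apply, ← act_mul, h1, act_one, LinearMap.id_apply] at this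
    exact this
  show (fun i => σ (star (act M v) i)) = _
  rw [h2, act_map, Matrix.map_map]
  congr 2
  ext i j
  simp [hσ]

theorem act_perm_ne (v : Fin 3 ⊕ Fin 3 → K) (h : v (.inl 0) ≠ v (.inr 2)) :
    act !![0, 0, 1, 0; 1, 0, 0, 0; 0, 1, 0, 0; 0, 0, 0, 1] v ≠ v := by
  intro e
  have := congrFun e (.inr 2)
  simp [act, ofA, toA, Matrix.mul_apply, Fin.sum_univ_four] at this
  exact h this

end

variable {F K : Type*} [Field F] [Fintype F] [Field K] [Fintype K] {q : ℕ}

local notation "V6" => ((Fin 2 ⊕ Fin 2) ⊕ Fin 2 → F)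

set_option maxHeartbeats 1600000 in
theorem nonempty_pOmega_six_minus (hF : Fintype.card F = q) (hK : Fintype.card K = q ^ 2) (a b : F)
    (hab : ∀ z₁ z₂ : F, z₁ ^ 2 + a * z₁ * z₂ + b * z₂ ^ 2 = 0 → z₁ = 0 ∧ z₂ = 0) :
    Nonempty (POmega F (quadFormMinus 2 F a b) ≃* PSU 4 K q) := by
  classical
  obtain ⟨j⟩ := Cfsg.Agent.Dickson.exists_ringHom_of_card_pow (K := F) (F := K) (m := 2) (by rw [hF, hK])
  have hq := two_le_q hK
  have hjfix : ∀ x : F, qFrob hK (j x) = j x := fun x => by
    rw [qFrob_apply, ← map_pow, ← hF, FiniteField.pow_card]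
  obtain ⟨t, ht⟩ := Fus.OrthExtSplit.exists_root j hF hK hab
  have htF : ∀ x, j x ≠ t := fun x hx => by
    have h0 : j (x ^ 2 + a * x + b) = 0 := by
      rw [map_add, map_add, map_mul, map_pow, hx]; exact ht
    exact one_ne_zero (hab x 1 (by linear_combination (map_eq_zero j).1 h0)).2
  have hfix : ∀ c : K, qFrob hK c = c → ∃ x, j x = c := by
    intro c hc
    have hbij : Function.Bijective fun x : F => (⟨j x, by rw [← qFrob_apply hK, hjfix]⟩ : {c : K // c ^ q = c}) :=
      (Nat.bijective_iff_injective_and_card _).2 ⟨fun x y h => j.injective (congrArg Subtype.val h),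
        by rw [Nat.card_eq_fintype_card, HermTotIsoLines.natCard_fixed hK, hF]⟩
    obtain ⟨x, hx⟩ := hbij.2 ⟨c, hc⟩
    exact ⟨x, congrArg Subtype.val hx⟩
  have hst : qFrob hK t ≠ t := fun h => by
    obtain ⟨x, hx⟩ := hfix t h
    exact htF x hx
  have hσt : qFrob hK t = -j a - t := by
    have h1 : qFrob hK t ^ 2 + j a * qFrob hK t + j b = 0 := by
      have := congrArg (qFrob hK) ht
      simpa [hjfix] using this
    have h2 : (qFrob hK t - t) * (qFrob hK t + t + j a) = 0 := by linear_combination h1 - ht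
    linear_combination (mul_eq_zero.1 h2).resolve_left (sub_ne_zero.2 hst)
  have hnorm : ∀ z w : F, (j z - j w * t) * qFrob hK (j z - j w * t) =
      j (z ^ 2 + a * z * w + b * w ^ 2) := fun z w => by
    rw [map_sub, map_mul, hjfix, hjfix, hσt, map_add, map_add, map_mul, map_mul, map_mul, map_pow, map_pow]
    linear_combination (-(j w) ^ 2) * ht
  have hindep : ∀ z w : F, j z - j w * t = 0 → z = 0 ∧ w = 0 := fun z w h => by
    refine hab z w ((map_eq_zero j).1 ?_)
    rw [← hnorm, h, zero_mul]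
  obtain ⟨c, hc⟩ : ∃ c : K, c * qFrob hK c = -1 :=
    exists_norm_eq (qFrob_ne_id hK) (qFrob_qFrob hK) (by rw [map_neg, map_one]) (neg_ne_zero.2 one_ne_zero)
  have hc0 : c ≠ 0 := fun e => by simp [e] at hc
  -- the coordinates
  obtain ⟨δ, hδdef⟩ : ∃ δ, δ = qFrob hK t - t := ⟨_, rfl⟩
  have hδ : δ ≠ 0 := hδdef ▸ sub_ne_zero.2 hst
  let w : V6 → K := fun v => j (v (.inl (.inl 0))) - j (v (.inl (.inl 1))) * t
  let s0 : V6 → F := fun v => v (.inl (.inr 0)) - v (.inl (.inl 0)) - a * v (.inl (.inl 1))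
  let s1 : V6 → F := fun v => v (.inl (.inr 1)) - b * v (.inl (.inl 1))
  let y : V6 → K := fun v => -(j (s1 v) + t * j (s0 v)) / δ
  let z : V6 → K := fun v => j (v (.inr 0)) - j (v (.inr 1)) * t
  let X : V6 → (Fin 3 → K) := fun v => ![w v + y v, c * y v, z v]
  let Φ : V6 → (Fin 3 ⊕ Fin 3 → K) := fun v => Sum.elim (X v) fun i => qFrob hK (X v i)
  have hy0 : ∀ v, y v + qFrob hK (y v) = j (s0 v) := fun v => by
    simp only [y, map_div₀, map_neg, map_add, map_mul, hjfix, hδdef, map_sub, qFrob_qFrob hK]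
    rw [← neg_sub (qFrob hK t) t, div_neg]
    field_simp [sub_ne_zero.2 hst]
    ring
  have hy1 : ∀ v, -(t * qFrob hK (y v) + qFrob hK t * y v) = j (s1 v) := fun v => by
    simp only [y, map_div₀, map_neg, map_add, map_mul, hjfix, hδdef, map_sub, qFrob_qFrob hK]
    rw [← neg_sub (qFrob hK t) t, div_neg]
    field_simp [sub_ne_zero.2 hst]
    ring
  have hpf : ∀ v, pf (Φ v) = j (quadFormMinus 2 F a b v) := fun v => by
    have h0 := hy0 v
    have h1 := hy1 v
    have hw := hnorm (v (.inl (.inl 0))) (v (.inl (.inl 1)))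
    have hz := hnorm (v (.inr 0)) (v (.inr 1))
    simp only [pf, Φ, X, Fin.sum_univ_three, Sum.elim_inl, Sum.elim_inr, Matrix.cons_val_zero,
      Matrix.cons_val_one, Matrix.cons_val_two, Matrix.head_cons, Matrix.tail_cons, z, w] at hw hz ⊢
    generalize y v = Y at h0 h1 ⊢
    rw [hz]
    simp only [quadFormMinus, Fin.sum_univ_two, map_add, map_mul, map_pow, s0, s1, map_sub, hjfix] at h0 h1 hw ⊢
    linear_combination hw + (j (v (.inl (.inl 0)))) * h0 + (j (v (.inl (.inl 1)))) * h1 + (Y * qFrob hK Y) * hc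
  have hadd : ∀ u v, Φ (u + v) = Φ u + Φ v := fun u v => by
    funext i
    rcases i with i | i <;> fin_cases i <;>
      simp [Φ, X, w, y, z, s0, s1, map_add, map_sub, map_mul] <;> field_simp <;> ring
  have hsmul : ∀ (r : F) v, Φ (r • v) = j r • Φ v := fun r v => by
    funext i
    rcases i with i | i <;> fin_cases i <;>
      simp [Φ, X, w, y, z, s0, s1, map_sub, map_mul, hjfix] <;> field_simp <;> ring
  have hΦfix : ∀ v, tau (qFrob hK) (Φ v) = Φ v := fun v => by
    funext i
    rcases i with i | i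
    · exact qFrob_qFrob hK _
    · rfl
  have hΦ0 : ∀ v, Φ v = 0 → v = 0 := by
    intro v hv
    have e0 : w v + y v = 0 := congrFun hv (.inl 0)
    have e1 : c * y v = 0 := congrFun hv (.inl 1)
    have e2 : z v = 0 := congrFun hv (.inl 2)
    have ey := (mul_eq_zero.1 e1).resolve_left hc0
    rw [ey, add_zero] at e0
    obtain ⟨p0, p1⟩ := hindep _ _ e0
    obtain ⟨z0, z1⟩ := hindep _ _ e2
    have ey' : j (s1 v) + t * j (s0 v) = 0 := by
      have e' : -(j (s1 v) + t * j (s0 v)) = 0 := (div_eq_zero_iff.1 ey).resolve_right hδ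
      exact neg_eq_zero.1 e'
    obtain ⟨r1, r0⟩ := hindep (s1 v) (-s0 v) (by rw [map_neg]; linear_combination ey')
    rw [neg_eq_zero] at r0
    simp only [s1, p1, mul_zero, sub_zero] at r1
    simp only [s0, p0, p1, mul_zero, sub_zero] at r0
    funext i
    rcases i with (i | i) | i <;> fin_cases i <;> assumption
  have hΦinj : Function.Injective Φ := fun u v huv => sub_eq_zero.1 (hΦ0 _ (by
    have h := hadd (u - v) v
    rw [sub_add_cancel, huv] at h
    exact add_eq_right.1 h.symm))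
  have hΦsurj : ∀ u, tau (qFrob hK) u = u → ∃ v, Φ v = u := by
    intro u hu
    have hXinj : Function.Injective X := fun v v' h => hΦinj (by
      show Sum.elim (X v) _ = Sum.elim (X v') _
      rw [h])
    have hbij := (Fintype.bijective_iff_injective_and_card X).2 ⟨hXinj, by
      simp [hF, hK, ← pow_mul]⟩
    obtain ⟨v, hv⟩ := hbij.2 fun i => u (.inl i)
    refine ⟨v, funext fun i => ?_⟩
    rcases i with i | i
    · exact congrFun hv i
    · show qFrob hK (X v i) = u (.inr i)
      rw [hv]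
      exact congrFun hu (.inr i)
  -- the action
  have hex : ∀ (g : SU 4 K q) (v : V6), ∃ v', Φ v' = act (suVal g) (Φ v) := fun g v =>
    hΦsurj _ (by rw [tau_act _ (qFrob_qFrob hK) g.1.2 (suVal_transpose_mul hK g), hΦfix])
  choose L hL using hex
  let Ll : SU 4 K q → V6 →ₗ[F] V6 := fun g =>
    { toFun := L g
      map_add' := fun u v => hΦinj (by rw [hL, hadd, map_add, hadd, hL, hL])
      map_smul' := fun r v => hΦinj (by rw [hL, hsmul, map_smul, RingHom.id_apply, hsmul, hL]) }
  have hLl : ∀ g v, Φ (Ll g v) = act (suVal g) (Φ v) := hL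
  let ψ : SU 4 K q →* isometryGroup F (quadFormMinus 2 F a b) :=
    OmegaRankOne.isoHom Ll
      (LinearMap.ext fun v => hΦinj (by
        rw [hLl, LinearMap.id_apply, show suVal (1 : SU 4 K q) = 1 from rfl, act_one, LinearMap.id_apply]))
      (fun g h => LinearMap.ext fun v => hΦinj (by
        rw [hLl, LinearMap.comp_apply, hLl, hLl, suVal_mul, act_mul, LinearMap.comp_apply]))
      _ fun g v => j.injective (by
        rw [← hpf, ← hpf, hLl, pf_act, g.1.2, one_mul])
  have hψ : ∀ g v, ((ψ g).1 : Matrix ((Fin 2 ⊕ Fin 2) ⊕ Fin 2) ((Fin 2 ⊕ Fin 2) ⊕ Fin 2) F) *ᵥ v = Ll g v :=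
    fun g v => OmegaRankOne.isoHom_mulVec _ _ _ _ _ g v
  have hfixed : ∀ g : SU 4 K q, ψ g = 1 → ∀ v, act (suVal g) (Φ v) = Φ v := fun g hg v => by
    rw [← hLl, ← hψ, hg]
    simp
  have hn4 : (3 : ℕ) ≤ 4 := by norm_num
  have h32 : ¬ ((4 : ℕ) = 3 ∧ q = 2) := by omega
  have hperf : commutator (SU 4 K q) = ⊤ := by
    refine top_le_iff.1 ?_
    rw [← UnitTv.closure_transvections hK hn4 h32, Subgroup.closure_le]
    rintro A ⟨v, r, hv, hA⟩
    rw [UnitTv.ut_eq hK] at hA
    obtain ⟨x, x', rfl⟩ := UnitTv.mem_commutatorSet hK hn4 hv A hA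
    exact Subgroup.commutator_mem_commutator (Subgroup.mem_top _) (Subgroup.mem_top _)
  refine KleinSix.nonempty_equiv_of_card ψ hperf (UnitTv.isSimpleGroup_psu hK hn4 h32) ?_ ?_
  · let P : Matrix (Fin 4) (Fin 4) K := !![0, 0, 1, 0; 1, 0, 0, 0; 0, 1, 0, 0; 0, 0, 0, 1]
    have hPd : P.det = 1 := by
      simp [P, Matrix.det_succ_row_zero, Fin.sum_univ_succ, Fin.succAbove]
    have hPu : Pᵀ * P.map (qFrob hK) = 1 := by
      ext i k
      fin_cases i <;> fin_cases k <;> simp [P, Matrix.mul_apply, Fin.sum_univ_four]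
    refine ⟨suMk hK P hPd hPu, fun e => ?_⟩
    obtain ⟨v, hv⟩ := hΦsurj (Sum.elim ![1, 0, 0] ![1, 0, 0]) (funext fun i => by
      rcases i with i | i <;> fin_cases i <;> simp [tau, KleinSix.star])
    have h := hfixed _ e v
    rw [hv, suVal_suMk] at h
    exact act_perm_ne _ (by simp) h
  · intro hle
    have hsc : ∀ x : ψ.ker, ∃ r : F, r * r = 1 ∧ suVal x.1 = j r • (1 : Matrix (Fin 4) (Fin 4) K) := by
      intro x
      obtain ⟨l, hl⟩ := (PSUAut.pi_eq_one_iff hK).1 ((QuotientGroup.eq_one_iff _).2 (hle x.2))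
      obtain ⟨v, hv⟩ := hΦsurj (Sum.elim ![1, 0, 0] ![1, 0, 0]) (funext fun i => by
        rcases i with i | i <;> fin_cases i <;> simp [tau, KleinSix.star])
      have h := hfixed _ (MonoidHom.mem_ker.1 x.2) v
      rw [hl, act_scalar, hv] at h
      have h' : l * l = 1 := by simpa using congrFun h (.inl 0)
      rcases mul_self_eq_one_iff.1 h' with rfl | rfl
      · exact ⟨1, one_mul 1, by rw [hl, map_one]⟩
      · exact ⟨-1, by norm_num, by rw [hl, map_neg, map_one]⟩
    choose r hr hr' using hsc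
    have hk : Nat.card ψ.ker ≤ Nat.card {c : F // c * c = 1} :=
      Nat.card_le_card_of_injective (fun x => ⟨r x, hr x⟩) fun u v huv => Subtype.ext (suVal_ext (by
        rw [hr' u, hr' v, show r u = r v from congrArg Subtype.val huv]))
    have := OmegaSix.card_bound (qfMinus 2 F a b) (nondegenerate_qfMinus 2 hab) (Or.inl (by simp))
      (by simp) hk (s := Nat.card (SU 4 K q)) (by
        have hGU := order_GU hK 4
        rw [natCard_GU_eq_SU hK (by norm_num), Finset.prod_range_succ, Finset.prod_range_succ,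
          Finset.prod_range_succ, Finset.prod_range_succ, Finset.prod_range_zero,
          show (4 : ℕ) * (4 - 1) / 2 = 6 from rfl] at hGU
        simp only [Nat.cast_mul, Nat.cast_add, Nat.cast_one] at hGU
        refine mul_left_cancel₀ (a := (q : ℤ) + 1) (by positivity) ?_
        rw [order_qfMinus 2 hab, hF, Finset.prod_range_succ, Finset.prod_range_succ, Finset.prod_range_zero]
        linear_combination (-2 : ℤ) * hGU)
    rwa [coe_qfMinus] at this

end Cfsg.Agent.Fus.OmegaSixMinus
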