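import Cfsg.Agent.Lib.Fus.TranspTree

/-!
The outer automorphism group when automorphisms are permutations of the generators followed by conjugation.
-/

set_option autoImplicit false

namespace Cfsg.Agent.Fus.Transp

open Cfsg.Agent.Spor.Cos

variable {G : Type*} [Group G] {g : ℕ → G} {n : ℕ}

theorem ext_gen (hgen : Subgroup.closure {x | ∃ s < n, g s = x} = ⊤) {φ ψ : MulAut G}
    (h : ∀ s < n, φ (g s) = ψ (g s)) : φ = ψ := by
  refine MulEquiv.toMonoidHom_injective (MonoidHom.eq_of_eqOn_dense hgen ?_)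
  rintro _ ⟨s, hs, rfl⟩
  exact h s hs

theorem getD_range {s : ℕ} (hs : s < n) : (List.range n).getD s 0 = s := by
  rw [List.getD_eq_getElem _ _ (by simpa using hs), List.getElem_range]

theorem card_out_one (hgen : Subgroup.closure {x | ∃ s < n, g s = x} = ⊤)
    (h : ∀ φ : MulAut G, Setup.Good g n [List.range n] φ) : Nat.card (Cfsg.Out G) = 1 := by
  refine Nat.card_eq_one_iff_unique.2 ⟨⟨fun a b => ?_⟩, ⟨1⟩⟩
  suffices key : ∀ x : Cfsg.Out G, x = 1 by rw [key a, key b]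
  intro x
  obtain ⟨φ, rfl⟩ := QuotientGroup.mk_surjective x
  obtain ⟨c, σ, hσ, hc⟩ := h φ
  obtain rfl := List.mem_singleton.1 hσ
  refine (QuotientGroup.eq_one_iff _).2 ⟨c, ext_gen hgen fun s hs => ?_⟩
  rw [hc s hs, getD_range hs]
  rfl

theorem card_out_two (hgen : Subgroup.closure {x | ∃ s < n, g s = x} = ⊤) {σ : List ℕ}
    (hlt : ∀ s < n, σ.getD s 0 < n) (hinv : ∀ s < n, σ.getD (σ.getD s 0) 0 = s)
    (f : G →* G) (hf : ∀ s < n, f (g s) = g (σ.getD s 0))
    (hout : ∀ c : G, ¬ ∀ s < n, c * g s * c⁻¹ = g (σ.getD s 0))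
    (h : ∀ φ : MulAut G, Setup.Good g n [List.range n, σ] φ) : Nat.card (Cfsg.Out G) = 2 := by
  have hff : f.comp f = MonoidHom.id G := by
    refine MonoidHom.eq_of_eqOn_dense hgen ?_
    rintro _ ⟨s, hs, rfl⟩
    rw [MonoidHom.comp_apply, hf s hs, hf _ (hlt s hs), hinv s hs]
    rfl
  let ψ : MulAut G := f.toMulEquiv f hff hff
  have hψ : ∀ s < n, ψ (g s) = g (σ.getD s 0) := hf
  refine card_out_eq_two ψ ?_ fun φ => ?_
  · rintro ⟨c, hc⟩
    exact hout c fun s hs => by rw [← hψ s hs, ← hc]; rfl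
  · obtain ⟨c, τ, hτ, hc⟩ := h φ
    simp only [List.mem_cons, List.not_mem_nil, or_false] at hτ
    rcases hτ with rfl | rfl
    · exact Or.inl ⟨c, ext_gen hgen fun s hs => by rw [hc s hs, getD_range hs]; rfl⟩
    · refine Or.inr ⟨c, ?_⟩
      rw [eq_mul_inv_iff_mul_eq]
      exact ext_gen hgen fun s hs => by rw [MulAut.mul_apply, hψ s hs, hc s hs]; rfl

end Cfsg.Agent.Fus.Transp
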