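import Cfsg.Agent.Lib.Grp.Quasisimple
import Cfsg.Agent.Lib.Grp.Components

/-!
Perfect central extensions of quasisimple groups.
-/

set_option autoImplicit false

open scoped commutatorElement

namespace Cfsg.Agent.Fus

open Subgroup

/-- A perfect central extension of a quasisimple group is quasisimple. -/
theorem isQuasisimple_of_central {X : Type*} [Group X] (hp : Group.IsPerfect X) (N₀ : Subgroup X)
    [N₀.Normal] (hN₀ : N₀ ≤ center X) (hq : Cfsg.IsQuasisimple (X ⧸ N₀)) :
    Cfsg.IsQuasisimple X := by
  haveI : Nontrivial X :=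
    haveI := Grp.IsQuasisimple.nontrivial hq
    (QuotientGroup.mk'_surjective N₀).nontrivial
  refine Grp.isQuasisimple_of hp fun N hN => ?_
  have hc : commutator X = ⊤ := hp.commutator_eq_top
  set f := QuotientGroup.mk' N₀ with hf
  haveI : (N.map f).Normal := hN.map f (QuotientGroup.mk'_surjective N₀)
  rcases Grp.IsQuasisimple.eq_top_or_le_center hq (N.map f) with e | e
  · left
    have htop : N ⊔ center X = ⊤ := by
      refine top_le_iff.1 (le_trans (le_of_eq ?_) (sup_le_sup_left hN₀ N))
      rw [← QuotientGroup.ker_mk' N₀, ← comap_map_eq, ← hf, e, comap_top]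
    rw [eq_top_iff, ← hc, commutator_def, commutator_le]
    intro x _ y _
    obtain ⟨n, hn, z, hz, rfl⟩ := mem_sup_of_normal_right.mp
      (show x ∈ N ⊔ center X by rw [htop]; trivial)
    have e1 : ⁅n * z, y⁆ = ⁅n, y⁆ := by
      simp only [commutatorElement_def, mul_inv_rev]
      rw [show n * z * y = n * (z * y) by group, ← mem_center_iff.1 hz y]
      group
    rw [e1, commutatorElement_def, mul_assoc n, mul_assoc n]
    exact N.mul_mem hn (hN.conj_mem _ (N.inv_mem hn) y)
  · refine Or.inr fun n hn => ?_
    have hcz : ∀ x : X, ⁅n, x⁆ ∈ center X := fun x => by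
      refine hN₀ ((QuotientGroup.eq_one_iff _).1 ?_)
      show f ⁅n, x⁆ = 1
      rw [map_commutatorElement, commutatorElement_eq_one_iff_mul_comm]
      exact (mem_center_iff.1 (e ⟨n, hn, rfl⟩) (f x)).symm
    let ψ : X →* center X := MonoidHom.mk' (fun x => ⟨⁅n, x⁆, hcz x⟩) fun x y => Subtype.ext <| by
      show ⁅n, x * y⁆ = ⁅n, x⁆ * ⁅n, y⁆
      calc ⁅n, x * y⁆ = ⁅n, x⁆ * (x * ⁅n, y⁆ * x⁻¹) := by
            simp only [commutatorElement_def]; group
        _ = _ := by rw [mem_center_iff.1 (hcz y) x, mul_inv_cancel_right]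
    have hψ : ∀ x, ψ x = 1 := by
      intro x
      have h1 : commutator X ≤ ψ.ker := by
        rw [commutator_def, commutator_le]
        intro a _ b _
        have hc' : ψ a * ψ b = ψ b * ψ a :=
          Subtype.ext (mem_center_iff.1 (ψ b).2 (ψ a : X))
        rw [MonoidHom.mem_ker, commutatorElement_def, map_mul, map_mul, map_mul, map_inv, map_inv,
          hc', mul_inv_cancel_right, mul_inv_cancel]
      exact h1 (hc ▸ mem_top x)
    exact mem_center_iff.2 fun x =>
      (commutatorElement_eq_one_iff_mul_comm.1 (congrArg Subtype.val (hψ x))).symm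

end Cfsg.Agent.Fus
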