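import Cfsg.Agent.Lib.Fus.MathieuTwo
import Cfsg.Agent.S0378
import Cfsg.Agent.S0387

/-! The five groups of the code as set stabilisers, and their orders. -/

set_option autoImplicit false
set_option maxRecDepth 100000

namespace Cfsg.Agent.Fus.Mathieu

open Cfsg.Agent.Spor.Golay
open scoped Pointwise

theorem pts_square : Cfsg.Spor.squareDodecad = pts 340831 := by decide +kernel

theorem square_mem : Cfsg.Spor.squareDodecad ∈ Cfsg.dodecads := by
  rw [pts_square]
  exact mem_dodecads.mpr ⟨340831, mem_weightList.mpr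
    ⟨mem_codeList.mpr (by decide +kernel), by decide +kernel⟩, rfl⟩

theorem pts_top : pts 8388608 = {(none : Cfsg.GolayPt)} := by decide +kernel

theorem pts_zero : pts 1 = {(some 0 : Cfsg.GolayPt)} := by decide +kernel

theorem fix24 : Cfsg.M24 = Fix [] [] := Fix_nil.symm

theorem fix23 : Cfsg.Spor.M23 = Fix [8388608] [] := by
  ext g
  simp only [Cfsg.Spor.M23, Subgroup.mem_inf, MulAction.mem_stabilizer_iff, mem_Fix,
    List.forall_mem_singleton, List.not_mem_nil, false_implies, implies_true, and_true, pts_top,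
    Finset.smul_finset_singleton, Finset.singleton_inj]

theorem fix22 : Cfsg.Spor.M22 = Fix [8388608, 1] [] := by
  ext g
  simp only [Cfsg.Spor.M22, Cfsg.Spor.M23, Subgroup.mem_inf, MulAction.mem_stabilizer_iff,
    mem_Fix, List.forall_mem_cons, List.not_mem_nil, false_implies,
    implies_true, and_true, pts_top, pts_zero, Finset.smul_finset_singleton,
    Finset.singleton_inj, and_assoc]

theorem fix12 : Cfsg.Spor.M12 = Fix [340831] [] := by
  ext g
  simp only [Cfsg.Spor.M12, Subgroup.mem_inf, MulAction.mem_stabilizer_iff, mem_Fix,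
    List.forall_mem_singleton, List.not_mem_nil, false_implies, implies_true, and_true, pts_square]

theorem fix11 : Cfsg.Spor.M11 = Fix [340831, 1] [] := by
  ext g
  simp only [Cfsg.Spor.M11, Cfsg.Spor.M12, Subgroup.mem_inf, MulAction.mem_stabilizer_iff,
    mem_Fix, List.forall_mem_cons, List.not_mem_nil, false_implies,
    implies_true, and_true, pts_square, pts_zero, Finset.smul_finset_singleton,
    Finset.singleton_inj, and_assoc]

theorem card23 : Nat.card Cfsg.Spor.M23 = 10200960 := by
  rw [← card_stabilizer_point (none : Cfsg.GolayPt)]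
  exact Nat.card_congr
    { toFun := fun g => ⟨⟨g.1, g.2.1⟩, g.2.2⟩
      invFun := fun g => ⟨g.1.1, ⟨g.1.2, g.2⟩⟩
      left_inv := fun g => rfl
      right_inv := fun g => rfl }

theorem card22 : Nat.card Cfsg.Spor.M22 = 443520 := by
  rw [← S0378.result (none : Cfsg.GolayPt) (some 0) (by decide)]
  exact Nat.card_congr
    { toFun := fun g => ⟨⟨g.1, g.2.1.1⟩, ⟨g.2.1.2, g.2.2⟩⟩
      invFun := fun g => ⟨g.1.1, ⟨⟨g.1.2, g.2.1⟩, g.2.2⟩⟩
      left_inv := fun g => rfl
      right_inv := fun g => rfl }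

theorem card12 : Nat.card Cfsg.Spor.M12 = 95040 := by
  obtain ⟨g, hg, he⟩ := exists_smul_dd square_mem
  have h : MulAction.stabilizer Cfsg.M24 Cfsg.Spor.squareDodecad =
      (MulAction.stabilizer Cfsg.M24 (pts dd)).map (MulAut.conj ⟨g, hg⟩).toMonoidHom := by
    rw [← MulAction.stabilizer_smul_eq_stabilizer_map_conj]
    exact congrArg _ he.symm
  rw [← card_stabilizer_dd, ← Nat.card_congr
    (Subgroup.equivMapOfInjective (MulAction.stabilizer Cfsg.M24 (pts dd))
      (MulAut.conj ⟨g, hg⟩).toMonoidHom (MulAut.conj (⟨g, hg⟩ : Cfsg.M24)).injective).toEquiv.symm,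
    ← h]
  exact Nat.card_congr
    { toFun := fun g => ⟨⟨g.1, g.2.1⟩, g.2.2⟩
      invFun := fun g => ⟨g.1.1, ⟨g.1.2, g.2⟩⟩
      left_inv := fun g => rfl
      right_inv := fun g => rfl }

theorem card11 : Nat.card Cfsg.Spor.M11 = 7920 := by
  rw [← S0387.result _ square_mem (some 0) (by rw [pts_square]; decide +kernel)]
  exact Nat.card_congr
    { toFun := fun g => ⟨⟨g.1, g.2.1.1⟩, ⟨g.2.1.2, g.2.2⟩⟩
      invFun := fun g => ⟨g.1.1, ⟨⟨g.1.2, g.2.1⟩, g.2.2⟩⟩
      left_inv := fun g => rfl
      right_inv := fun g => rfl }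

end Cfsg.Agent.Fus.Mathieu
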