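import Cfsg.Prelude.Def_OddOrderLocal
import Cfsg.Agent.Lib.Grp.Frattini
import Cfsg.Agent.Lib.Transfer.MaxClass

/-!
A metacyclic `2`-group with a nontrivial automorphism of odd order is `Q₈` or homocyclic of rank two.
-/

set_option autoImplicit false
set_option linter.style.haveILetI false
set_option linter.unusedSectionVars false

open scoped Classical commutatorElement

namespace Cfsg.Agent.Fus.MetaTwo

open Subgroup

universe u

variable {X : Type u} [Group X]

/-- A metacyclic group is a product of two cyclic subgroups, one of them normal. -/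
theorem exists_gens (hm : IsMetacyclic X) : ∃ n x : X, (Subgroup.zpowers n).Normal ∧
    ∀ y : X, ∃ i : ℤ, (x ^ i)⁻¹ * y ∈ Subgroup.zpowers n := by
  obtain ⟨N, hN, hc, hq⟩ := hm
  obtain ⟨n, hn⟩ := (Subgroup.isCyclic_iff_exists_zpowers_eq_top N).1 hc
  obtain ⟨q, hq'⟩ := hq.exists_generator
  obtain ⟨x, rfl⟩ := QuotientGroup.mk_surjective q
  refine ⟨n, x, hn ▸ hN, fun y => ?_⟩
  obtain ⟨i, hi⟩ := Subgroup.mem_zpowers_iff.1 (hq' (QuotientGroup.mk y))
  refine ⟨i, hn ▸ (QuotientGroup.eq).1 ?_⟩
  exact hi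

theorem isMetacyclic_of_gens {n x : X} (hn : (Subgroup.zpowers n).Normal)
    (h : ∀ y : X, ∃ i : ℤ, (x ^ i)⁻¹ * y ∈ Subgroup.zpowers n) : IsMetacyclic X := by
  haveI := hn
  refine ⟨Subgroup.zpowers n, hn, inferInstance, ⟨⟨(QuotientGroup.mk x : X ⧸ Subgroup.zpowers n),
    fun q => ?_⟩⟩⟩
  obtain ⟨y, rfl⟩ := QuotientGroup.mk_surjective q
  obtain ⟨i, hi⟩ := h y
  exact ⟨i, (QuotientGroup.mk_zpow _ _ _).symm.trans (QuotientGroup.eq.2 hi)⟩

/-- A subgroup of a metacyclic group is metacyclic. -/
theorem isMetacyclic_subgroup (hm : IsMetacyclic X) (V : Subgroup X) : IsMetacyclic V := by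
  obtain ⟨N, hN, hc, hq⟩ := hm
  haveI := hN
  refine ⟨N.subgroupOf V, inferInstance, ?_, ?_⟩
  · let f : (N.subgroupOf V) →* N := MonoidHom.mk'
      (fun u => ⟨((u : V) : X), Subgroup.mem_subgroupOf.1 u.2⟩) (fun a b => rfl)
    haveI := hc
    exact isCyclic_of_injective f fun a b e =>
      Subtype.ext (Subtype.ext (congrArg (fun t : N => (t : X)) e))
  · haveI := hq
    refine isCyclic_of_injective (QuotientGroup.lift (N.subgroupOf V)
      ((QuotientGroup.mk' N).comp V.subtype) fun u hu =>
        (QuotientGroup.eq_one_iff _).2 (Subgroup.mem_subgroupOf.1 hu)) ?_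
    refine (injective_iff_map_eq_one _).2 fun q hq' => ?_
    obtain ⟨u, rfl⟩ := QuotientGroup.mk_surjective q
    exact (QuotientGroup.eq_one_iff _).2
      (Subgroup.mem_subgroupOf.2 ((QuotientGroup.eq_one_iff _).1 hq'))

/-- The quotient of a metacyclic group is metacyclic. -/
theorem isMetacyclic_quotient (hm : IsMetacyclic X) (Z : Subgroup X) [Z.Normal] :
    IsMetacyclic (X ⧸ Z) := by
  obtain ⟨n, x, hn, h⟩ := exists_gens hm
  have e : Subgroup.zpowers (QuotientGroup.mk n : X ⧸ Z) =
      (Subgroup.zpowers n).map (QuotientGroup.mk' Z) := (MonoidHom.map_zpowers (QuotientGroup.mk' Z) n).symm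
  refine isMetacyclic_of_gens (n := (QuotientGroup.mk n : X ⧸ Z))
    (x := (QuotientGroup.mk x : X ⧸ Z))
    (e ▸ hn.map _ (QuotientGroup.mk'_surjective Z)) fun q => ?_
  obtain ⟨y, rfl⟩ := QuotientGroup.mk_surjective q
  obtain ⟨i, hi⟩ := h y
  refine ⟨i, ?_⟩
  rw [← QuotientGroup.mk_zpow, ← QuotientGroup.mk_inv, ← QuotientGroup.mk_mul, e]
  exact ⟨_, hi, rfl⟩

/-- An automorphism of prime order `q ≠ p` of a finite `p`-group trivial modulo the Frattini
subgroup is trivial. -/
theorem aut_eq_one [Finite X] {p q : ℕ} [Fact p.Prime] [Fact q.Prime] (hpq : q ≠ p)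
    (hX : IsPGroup p X) {α : MulAut X} (hq : α ^ q = 1) (h : ∀ x, x⁻¹ * α x ∈ frattini X) :
    α = 1 := by
  have hC : (MonoidHom.eqLocus α.toMonoidHom (MonoidHom.id X)) ⊔ frattini X = ⊤ := by
    refine eq_top_iff.2 fun x _ => ?_
    -- a fixed point in the coset of `x`
    have hst : ∀ u : frattini X, x⁻¹ * α (x * u) ∈ frattini X := fun u => by
      rw [map_mul, ← mul_assoc]
      refine (frattini X).mul_mem (h x) ?_
      have := (frattini X).mul_mem u.2 (h (u : X))
      rwa [mul_inv_cancel_left] at this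
    have hiter : ∀ (k : ℕ) (u : frattini X), x⁻¹ * (α ^ k) (x * u) ∈ frattini X := by
      intro k
      induction k with
      | zero => intro u; simpa using u.2
      | succ k ih =>
        intro u
        rw [pow_succ', MulAut.mul_apply]
        have := hst ⟨_, ih u⟩
        rwa [mul_inv_cancel_left] at this
    let σ : Equiv.Perm (frattini X) :=
      { toFun := fun u => ⟨x⁻¹ * α (x * u), hst u⟩
        invFun := fun u => ⟨x⁻¹ * (α ^ (q - 1)) (x * u), hiter _ u⟩
        left_inv := fun u => Subtype.ext (by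
          show x⁻¹ * (α ^ (q - 1)) (x * (x⁻¹ * α (x * u))) = u
          rw [mul_inv_cancel_left, ← MulAut.mul_apply, ← pow_succ,
            Nat.sub_add_cancel (Fact.out : q.Prime).one_le, hq]
          simp)
        right_inv := fun u => Subtype.ext (by
          show x⁻¹ * α (x * (x⁻¹ * (α ^ (q - 1)) (x * u))) = u
          rw [mul_inv_cancel_left, ← MulAut.mul_apply, ← pow_succ',
            Nat.sub_add_cancel (Fact.out : q.Prime).one_le, hq]
          simp) }
    have hσ : ∀ (k : ℕ) (u : frattini X), (((σ ^ k) u : frattini X) : X) = x⁻¹ * (α ^ k) (x * u) := by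
      intro k
      induction k with
      | zero => intro u; simp
      | succ k ih =>
        intro u
        rw [pow_succ', Equiv.Perm.mul_apply]
        show x⁻¹ * α (x * ((σ ^ k) u : frattini X)) = _
        rw [ih, mul_inv_cancel_left, pow_succ', MulAut.mul_apply]
    have hcard : ¬ q ∣ Nat.card (frattini X) := by
      obtain ⟨k, hk⟩ := IsPGroup.iff_card.1 (hX.to_subgroup (frattini X))
      rw [hk]
      exact fun hd => hpq ((Nat.prime_dvd_prime_iff_eq Fact.out Fact.out).1
        ((Fact.out : q.Prime).dvd_of_dvd_pow hd))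
    haveI : Fintype (frattini X) := Fintype.ofFinite _
    obtain ⟨u, hu⟩ := Equiv.Perm.exists_fixed_point_of_prime (p := q) (n := 1)
      (by rw [← Nat.card_eq_fintype_card]; exact hcard) (σ := σ) (by
        refine Equiv.ext fun u => Subtype.ext ?_
        rw [pow_one, hσ, hq]
        simp)
    have hfix : α (x * u) = x * u := by
      have e : x⁻¹ * α (x * u) = u := congrArg Subtype.val hu
      conv_rhs => rw [← e, mul_inv_cancel_left]
    rw [← mul_inv_cancel_right x (u : X)]
    exact Subgroup.mul_mem _ (Subgroup.mem_sup_left hfix)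
      (Subgroup.mem_sup_right ((frattini X).inv_mem u.2))
  have := frattini_nongenerating hC
  exact MulEquiv.ext fun x => (this ▸ Subgroup.mem_top x :
    x ∈ MonoidHom.eqLocus α.toMonoidHom (MonoidHom.id X))

variable [Finite X]

/-- The Frattini subgroup of a metacyclic `2`-group has index at most four. -/
theorem frattini_index_le (hX : IsPGroup 2 X) (hm : IsMetacyclic X) : (frattini X).index ≤ 4 := by
  haveI : Fact (Nat.Prime 2) := ⟨Nat.prime_two⟩
  obtain ⟨n, x, hn, h⟩ := exists_gens hm
  let f : Fin 2 × Fin 2 → X ⧸ frattini X := fun t =>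
    (QuotientGroup.mk x : X ⧸ frattini X) ^ (t.1 : ℕ) * (QuotientGroup.mk n) ^ (t.2 : ℕ)
  have hsurj : Function.Surjective f := fun q => by
    obtain ⟨y, rfl⟩ := QuotientGroup.mk_surjective q
    obtain ⟨i, hi⟩ := h y
    obtain ⟨j, hj⟩ := Subgroup.mem_zpowers_iff.1 hi
    have e2 : ∀ (a : X) (k : ℤ), (QuotientGroup.mk a : X ⧸ frattini X) ^ k =
        QuotientGroup.mk a ^ ((k % 2).toNat) := by
      intro a k
      have h2 : (QuotientGroup.mk a : X ⧸ frattini X) ^ (2 : ℤ) = 1 := by
        rw [show (2 : ℤ) = ((2 : ℕ) : ℤ) from rfl, zpow_natCast, ← QuotientGroup.mk_pow]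
        exact (QuotientGroup.eq_one_iff _).2 (Grp.pGroup_pow_mem_frattini hX a)
      conv_lhs => rw [← Int.emod_add_mul_ediv k 2, zpow_add, zpow_mul, h2, one_zpow, mul_one,
        ← Int.toNat_of_nonneg (Int.emod_nonneg k (by norm_num : (2 : ℤ) ≠ 0)), zpow_natCast]
    refine ⟨⟨⟨(i % 2).toNat, by omega⟩, ⟨(j % 2).toNat, by omega⟩⟩, ?_⟩
    show (QuotientGroup.mk x : X ⧸ frattini X) ^ (i % 2).toNat * _ = _
    rw [← e2, ← e2, ← QuotientGroup.mk_zpow, ← QuotientGroup.mk_zpow, ← QuotientGroup.mk_mul, hj,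
      mul_inv_cancel_left]
  haveI : Finite (Fin 2 × Fin 2) := inferInstance
  refine (Nat.card_le_card_of_surjective f hsurj).trans ?_
  simp

/-- The standing data: an automorphism of odd prime order. -/
structure OddAut (α : MulAut X) (q : ℕ) : Prop where
  prime : q.Prime
  ne_two : q ≠ 2
  ne_one : α ≠ 1
  pow_eq : α ^ q = 1

variable {α : MulAut X} {q : ℕ}

theorem OddAut.moves (hX : IsPGroup 2 X) (h : OddAut α q) :
    ¬ ∀ x, x⁻¹ * α x ∈ frattini X := fun hall => by
  haveI : Fact (Nat.Prime 2) := ⟨Nat.prime_two⟩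
  haveI : Fact q.Prime := ⟨h.prime⟩
  exact h.ne_one (aut_eq_one h.ne_two hX h.pow_eq hall)

theorem OddAut.index_frattini (hX : IsPGroup 2 X) (hm : IsMetacyclic X) (h : OddAut α q) :
    (frattini X).index = 4 := by
  haveI : Fact (Nat.Prime 2) := ⟨Nat.prime_two⟩
  have hle := frattini_index_le hX hm
  obtain ⟨k, hk⟩ := hX.index (frattini X)
  rw [hk] at hle ⊢
  have h2 : k ≤ 2 := (Nat.pow_le_pow_iff_right one_lt_two).1 hle
  by_contra hne
  have hk1 : k ≤ 1 := by
    by_contra hh
    exact hne (by rw [show k = 2 by omega]; norm_num)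
  refine h.moves hX fun x => ?_
  by_cases hx : x ∈ frattini X
  · refine (frattini X).mul_mem ((frattini X).inv_mem hx) ?_
    rw [← Subgroup.Characteristic.fixed (inferInstance : (frattini X).Characteristic) α] at hx
    exact hx
  · interval_cases k
    · rw [pow_zero] at hk
      exact absurd (Subgroup.index_eq_one.1 hk ▸ Subgroup.mem_top x) hx
    · rw [pow_one] at hk
      refine (Subgroup.mul_mem_iff_of_index_two hk).2 ⟨fun hh => absurd ((frattini X).inv_mem_iff.1 hh) hx,
        fun hh => ?_⟩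
      have := (Subgroup.Characteristic.fixed (inferInstance : (frattini X).Characteristic) α)
      exact absurd (show x ∈ frattini X by rw [← this]; exact hh) hx

/-- An invariant subgroup containing the Frattini subgroup is trivial. -/
theorem OddAut.invariant_eq (hX : IsPGroup 2 X) (hm : IsMetacyclic X) (h : OddAut α q)
    {H : Subgroup X} (hle : frattini X ≤ H) (hinv : ∀ x ∈ H, α x ∈ H) :
    H = frattini X ∨ H = ⊤ := by
  haveI : Fact (Nat.Prime 2) := ⟨Nat.prime_two⟩
  by_contra hcon
  push Not at hcon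
  obtain ⟨hne, hnt⟩ := hcon
  obtain ⟨t, ht, htF⟩ := SetLike.exists_of_lt (lt_of_le_of_ne hle (Ne.symm hne))
  have hi4 := h.index_frattini hX hm
  have hmul := Subgroup.relIndex_mul_index hle
  rw [hi4] at hmul
  have hH : H.index = 2 ∧ (frattini X).relIndex H = 2 := by
    have h1 : H.index ≠ 1 := fun e => hnt (Subgroup.index_eq_one.1 e)
    have h2 : (frattini X).relIndex H ≠ 1 := fun e =>
      htF (Subgroup.relIndex_eq_one.1 e ht)
    have hd : H.index ∣ 4 := ⟨_, by rw [← hmul, mul_comm]⟩
    have hi : H.index ≤ 4 := Nat.le_of_dvd (by norm_num) hd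
    interval_cases hh : H.index <;> omega
  have hsame : ∀ a ∈ H, ∀ b ∈ H, a ∉ frattini X → b ∉ frattini X → a⁻¹ * b ∈ frattini X := by
    intro a ha b hb haF hbF
    have := (Subgroup.mul_mem_iff_of_index_two (H := (frattini X).subgroupOf H)
      (a := (⟨a, ha⟩ : H)⁻¹) (b := ⟨b, hb⟩) hH.2).2 ⟨fun hh => absurd (by
        simpa [Subgroup.mem_subgroupOf] using hh) haF, fun hh => absurd (by
        simpa [Subgroup.mem_subgroupOf] using hh) hbF⟩
    simpa [Subgroup.mem_subgroupOf] using this
  have hF : ∀ y, α y ∈ frattini X ↔ y ∈ frattini X := fun y => by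
    have := Subgroup.Characteristic.fixed (inferInstance : (frattini X).Characteristic) α
    constructor
    · intro hy; rw [← this]; exact hy
    · intro hy; rw [← this] at hy; exact hy
  have hfixH : ∀ y ∈ H, y⁻¹ * α y ∈ frattini X := by
    intro y hy
    by_cases hyF : y ∈ frattini X
    · exact (frattini X).mul_mem ((frattini X).inv_mem hyF) ((hF y).2 hyF)
    · exact hsame y hy _ (hinv y hy) hyF fun e => hyF ((hF y).1 e)
  refine h.moves hX fun x => ?_
  by_contra hx
  have hxH : x ∉ H := fun e => hx (hfixH x e)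
  have hstable : ∀ y, α y ∈ H → y ∈ H := fun y hy => by
    have e : ((α ^ (q - 1)) (α y)) = y := by
      rw [← MulAut.mul_apply, ← pow_succ, Nat.sub_add_cancel h.prime.one_le, h.pow_eq]; rfl
    rw [← e]
    clear e
    induction (q - 1) with
    | zero => simpa using hy
    | succ k ih => rw [pow_succ', MulAut.mul_apply]; exact hinv _ ih
  set t' := x⁻¹ * α x with ht'
  clear_value t'
  have ht'H : t' ∈ H := ht' ▸ (Subgroup.mul_mem_iff_of_index_two hH.1).2
    ⟨fun hh => absurd (H.inv_mem_iff.1 hh) hxH, fun hh => absurd (hstable x hh) hxH⟩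
  -- the iterates alternate between two cosets
  haveI : (frattini X).Normal := inferInstance
  set π := QuotientGroup.mk' (frattini X)
  have hk : ∀ k : ℕ, π ((α ^ k) x) = π x * π t' ^ k := by
    intro k
    induction k with
    | zero => simp
    | succ k ih =>
      have e1 : π (α ((α ^ k) x)) = π (α (x * t' ^ k)) := by
        refine (QuotientGroup.eq).2 ?_
        rw [← map_inv, ← map_mul]
        refine (hF _).2 ((QuotientGroup.eq).1 ?_)
        show π ((α ^ k) x) = π (x * t' ^ k)
        rw [ih, map_mul, map_pow]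
      have e2 : π (α t') = π t' := ((QuotientGroup.eq).2 (hfixH t' ht'H)).symm
      rw [pow_succ', MulAut.mul_apply, e1, map_mul, map_pow, map_mul, map_pow, e2,
        show α x = x * t' by rw [ht', mul_inv_cancel_left], map_mul, pow_succ', mul_assoc]
  have hq := hk q
  rw [h.pow_eq, MulAut.one_apply, left_eq_mul] at hq
  have ht2 : π t' ^ 2 = 1 := by
    rw [← map_pow]
    exact (QuotientGroup.eq_one_iff _).2 (Grp.pGroup_pow_mem_frattini hX t')
  obtain ⟨m, hm'⟩ := h.prime.odd_of_ne_two h.ne_two
  rw [hm', pow_succ, pow_mul, ht2, one_pow, one_mul] at hq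
  exact hx ((QuotientGroup.eq_one_iff _).1 hq)

/-- The element outside the Frattini subgroup and its image generate. -/
theorem OddAut.gens (hX : IsPGroup 2 X) (hm : IsMetacyclic X) (h : OddAut α q) :
    ∃ a : X, a ∉ frattini X ∧ Subgroup.zpowers a ⊔ Subgroup.zpowers (α a) = ⊤ ∧
      a⁻¹ * α a ∉ frattini X ∧ ∀ i j : ℤ, a ^ i * (α a) ^ j ∈ frattini X → 2 ∣ i ∧ 2 ∣ j := by
  haveI : Fact (Nat.Prime 2) := ⟨Nat.prime_two⟩
  obtain ⟨a, ha⟩ : ∃ a, a⁻¹ * α a ∉ frattini X := not_forall.1 (h.moves hX)
  have hF : ∀ y, α y ∈ frattini X ↔ y ∈ frattini X := fun y => by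
    have := Subgroup.Characteristic.fixed (inferInstance : (frattini X).Characteristic) α
    constructor
    · intro hy; rw [← this]; exact hy
    · intro hy; rw [← this] at hy; exact hy
  have haF : a ∉ frattini X := fun e =>
    ha ((frattini X).mul_mem ((frattini X).inv_mem e) ((hF a).2 e))
  refine ⟨a, haF, ?_, ha, fun i j hij => ?_⟩
  · refine frattini_nongenerating ?_
    refine (h.invariant_eq hX hm le_sup_right ?_).resolve_left fun e => haF ?_
    · have hI : (Subgroup.zpowers a ⊔ Subgroup.zpowers (α a) ⊔ frattini X).index = 1 := by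
        have hi4 := h.index_frattini hX hm
        set H := Subgroup.zpowers a ⊔ Subgroup.zpowers (α a) ⊔ frattini X
        have hmul := Subgroup.relIndex_mul_index (le_sup_right : frattini X ≤ H)
        replace hmul : (frattini X).relIndex H * H.index = 4 := hmul.trans hi4
        have h3 : 3 ≤ (frattini X).relIndex H := by
          have hf : Function.Injective
              (fun t : Fin 3 => (QuotientGroup.mk (![⟨1, H.one_mem⟩,
                ⟨a, Subgroup.mem_sup_left (Subgroup.mem_sup_left (Subgroup.mem_zpowers a))⟩,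
                ⟨α a, Subgroup.mem_sup_left (Subgroup.mem_sup_right (Subgroup.mem_zpowers (α a)))⟩]
                t) : H ⧸ (frattini X).subgroupOf H)) := by
            intro s t e
            have e' := (QuotientGroup.eq).1 e
            rw [Subgroup.mem_subgroupOf] at e'
            fin_cases s <;> fin_cases t <;> first
              | rfl
              | (exfalso; simp at e';
                 first
                  | exact haF e'
                  | exact haF ((frattini X).inv_mem_iff.1 e')
                  | exact haF ((hF a).1 e')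
                  | exact haF ((hF a).1 ((frattini X).inv_mem_iff.1 e'))
                  | exact ha e'
                  | exact ha (by simpa using (frattini X).inv_mem e'))
          simpa [Subgroup.relIndex, Subgroup.index] using Nat.card_le_card_of_injective _ hf
        have hd : (frattini X).relIndex H ∣ 4 := ⟨_, hmul.symm⟩
        have hle4 : (frattini X).relIndex H ≤ 4 := Nat.le_of_dvd (by norm_num) hd
        clear_value H
        rcases (show (frattini X).relIndex H = 3 ∨ (frattini X).relIndex H = 4 by omega) with e | e <;>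
          rw [e] at hmul <;> omega
      intro y _
      rw [Subgroup.index_eq_one.1 hI]
      exact Subgroup.mem_top _
    · rw [← e]
      exact Subgroup.mem_sup_left (Subgroup.mem_sup_left (Subgroup.mem_zpowers a))
  · set π := QuotientGroup.mk' (frattini X)
    have h2 : ∀ y : X, π y ^ (2 : ℤ) = 1 := fun y => by
      rw [show (2 : ℤ) = ((2 : ℕ) : ℤ) from rfl, zpow_natCast, ← map_pow]
      exact (QuotientGroup.eq_one_iff _).2 (Grp.pGroup_pow_mem_frattini hX y)
    have hne : ∀ y : X, y ∉ frattini X → π y ≠ 1 := fun y hy e => hy ((QuotientGroup.eq_one_iff _).1 e)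
    have hπ : π a ^ i * π (α a) ^ j = 1 := by
      rw [← map_zpow, ← map_zpow, ← map_mul]; exact (QuotientGroup.eq_one_iff _).2 hij
    rcases Int.even_or_odd' i with ⟨k, rfl | rfl⟩ <;> rcases Int.even_or_odd' j with ⟨l, rfl | rfl⟩
    · exact ⟨⟨k, rfl⟩, ⟨l, rfl⟩⟩
    all_goals
      simp only [zpow_add, zpow_mul, h2, one_zpow, one_mul, mul_one, zpow_one] at hπ
      exfalso
    · exact hne _ (fun e => haF ((hF a).1 e)) hπ
    · exact hne a haF hπ
    · refine ha ((QuotientGroup.eq_one_iff _).1 ?_)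
      show π (a⁻¹ * α a) = 1
      rw [map_mul, map_inv]
      have ha2 : (π a)⁻¹ = π a := inv_eq_of_mul_eq_one_left (by
        rw [← pow_two, ← zpow_natCast]; exact h2 a)
      rw [ha2]
      exact hπ

/-- The abelian case. -/
theorem OddAut.homocyclic (hX : IsPGroup 2 X) (hm : IsMetacyclic X) (h : OddAut α q)
    (hc : ∀ a b : X, a * b = b * a) :
    ∃ n : ℕ, Nonempty (X ≃* Multiplicative (ZMod (2 ^ n)) × Multiplicative (ZMod (2 ^ n))) := by
  haveI : Fact (Nat.Prime 2) := ⟨Nat.prime_two⟩
  obtain ⟨a, haF, hgen, -, hpar⟩ := h.gens hX hm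
  letI : CommGroup X := { (inferInstance : Group X) with mul_comm := hc }
  obtain ⟨m, hm'⟩ := IsPGroup.iff_card.1 hX
  obtain ⟨e, -, he⟩ := (Nat.dvd_prime_pow Nat.prime_two).1
    (hm' ▸ (Group.exponent_dvd_nat_card : Monoid.exponent X ∣ Nat.card X))
  have he1 : 1 ≤ e := by
    rcases Nat.eq_zero_or_pos e with rfl | h'
    · refine absurd ?_ haF
      have := Monoid.pow_exponent_eq_one a
      rw [he, pow_zero, pow_one] at this
      rw [this]; exact (frattini X).one_mem
    · exact h'
  have hpe : ∀ y : X, y ^ (2 ^ e) = 1 := fun y => he ▸ Monoid.pow_exponent_eq_one y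
  have h2e : 2 * 2 ^ (e - 1) = 2 ^ e := by rw [← pow_succ', Nat.sub_add_cancel he1]
  set K : Subgroup X := (powMonoidHom (2 ^ (e - 1)) : X →* X).ker with hK
  have hKF : K = frattini X := by
    refine (h.invariant_eq hX hm ?_ fun y hy => ?_).resolve_right fun htop => ?_
    · refine Grp.frattini_le_of_elementary Nat.prime_two (Subgroup.commutator_le.2 fun u _ v _ => ?_)
        fun y => ?_
      · rw [commutatorElement_eq_one_iff_mul_comm.2 (hc u v)]; exact K.one_mem
      · show (y ^ 2) ^ (2 ^ (e - 1)) = 1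
        rw [← pow_mul, h2e, hpe]
    · show (α y) ^ (2 ^ (e - 1)) = 1
      have hy' : y ^ (2 ^ (e - 1)) = 1 := hy
      rw [← map_pow, hy', map_one]
    · have h1 : Monoid.exponent X ∣ 2 ^ (e - 1) :=
        Monoid.exponent_dvd_of_forall_pow_eq_one fun y => (htop ▸ Subgroup.mem_top y : y ∈ K)
      rw [he, Nat.pow_dvd_pow_iff_le_right one_lt_two] at h1
      omega
  have hker : ∀ t : ℕ, t ≤ e → ∀ i j : ℤ, a ^ i * (α a) ^ j = 1 →
      (2 : ℤ) ^ t ∣ i ∧ (2 : ℤ) ^ t ∣ j := by
    intro t
    induction t with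
    | zero => intro _ i j _; simp
    | succ t ih =>
      intro hte i j hij
      obtain ⟨⟨i', rfl⟩, ⟨j', rfl⟩⟩ := ih (by omega) i j hij
      have h1 : a ^ i' * (α a) ^ j' ∈ K := by
        show (a ^ i' * (α a) ^ j') ^ (2 ^ (e - 1)) = 1
        obtain ⟨d, hd⟩ := Nat.exists_eq_add_of_le (show t ≤ e - 1 by omega)
        have h0 : (a ^ i' * (α a) ^ j') ^ (2 ^ t) = 1 := by
          rw [mul_pow, ← zpow_natCast (a ^ i'), ← zpow_natCast (α a ^ j'), ← zpow_mul, ← zpow_mul,
            mul_comm i', mul_comm j']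
          push_cast
          exact hij
        rw [hd, pow_add, pow_mul, h0, one_pow]
      obtain ⟨d1, d2⟩ := hpar _ _ (hKF ▸ h1)
      rw [pow_succ]
      exact ⟨mul_dvd_mul_left _ d1, mul_dvd_mul_left _ d2⟩
  refine ⟨e, ⟨(MulEquiv.ofBijective (MonoidHom.mk' (fun t : Multiplicative (ZMod (2 ^ e)) ×
    Multiplicative (ZMod (2 ^ e)) =>
      a ^ (Multiplicative.toAdd t.1).val * (α a) ^ (Multiplicative.toAdd t.2).val) ?_) ?_).symm⟩⟩
  · intro s t
    show a ^ (Multiplicative.toAdd (s.1 * t.1)).val * α a ^ (Multiplicative.toAdd (s.2 * t.2)).val = _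
    rw [toAdd_mul, toAdd_mul, ZMod.val_add, ZMod.val_add, ← pow_eq_pow_mod _ (hpe a),
      ← pow_eq_pow_mod _ (hpe (α a)), pow_add, pow_add, mul_mul_mul_comm]
  · refine ⟨(injective_iff_map_eq_one _).2 fun t ht => ?_, fun y => ?_⟩
    · have h1 : a ^ ((Multiplicative.toAdd t.1).val : ℤ) *
          (α a) ^ ((Multiplicative.toAdd t.2).val : ℤ) = 1 := by
        rw [zpow_natCast, zpow_natCast]; exact ht
      obtain ⟨d1, d2⟩ := hker e le_rfl _ _ h1
      have hz : ∀ u : Multiplicative (ZMod (2 ^ e)),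
          (2 : ℤ) ^ e ∣ ((Multiplicative.toAdd u).val : ℤ) → u = 1 := fun u hd => by
        have hd' : 2 ^ e ∣ (Multiplicative.toAdd u).val := by exact_mod_cast hd
        have := Nat.eq_zero_of_dvd_of_lt hd' (ZMod.val_lt _)
        rw [ZMod.val_eq_zero] at this
        exact this
      exact Prod.ext (hz _ d1) (hz _ d2)
    · obtain ⟨u, hu, v, hv, rfl⟩ := Subgroup.mem_sup.1 (hgen ▸ Subgroup.mem_top y :
        y ∈ Subgroup.zpowers a ⊔ Subgroup.zpowers (α a))
      obtain ⟨i, rfl⟩ := Subgroup.mem_zpowers_iff.1 hu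
      obtain ⟨j, rfl⟩ := Subgroup.mem_zpowers_iff.1 hv
      refine ⟨(Multiplicative.ofAdd (i : ZMod (2 ^ e)), Multiplicative.ofAdd (j : ZMod (2 ^ e))), ?_⟩
      have hz : ∀ (c : X) (k : ℤ), c ^ ((k : ZMod (2 ^ e))).val = c ^ k := by
        intro c k
        rw [← zpow_natCast, ZMod.val_intCast]
        have : c ^ ((2 ^ e : ℕ) : ℤ) = 1 := by rw [zpow_natCast]; exact hpe c
        conv_rhs => rw [← Int.emod_add_mul_ediv k ((2 ^ e : ℕ) : ℤ), zpow_add, zpow_mul, this,
          one_zpow, mul_one]
      show a ^ _ * α a ^ _ = _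
      rw [toAdd_ofAdd, toAdd_ofAdd, hz, hz]

/-- There are no three independent commuting involutions. -/
theorem three_involutions (hm : IsMetacyclic X) {a b c : X}
    (hab : a * b = b * a) (hac : a * c = c * a) (hbc : b * c = c * b)
    (ha : a ^ 2 = 1) (hb : b ^ 2 = 1) (hc : c ^ 2 = 1)
    (hind : ∀ i j k : ℕ, a ^ i * b ^ j * c ^ k = 1 → 2 ∣ i ∧ 2 ∣ j ∧ 2 ∣ k) : False := by
  obtain ⟨N, hN, hcN, hcQ⟩ := hm
  haveI := hN
  have huniq : ∀ {G : Type u} [Group G] [Finite G] [IsCyclic G] (s t : G), s ^ 2 = 1 → t ^ 2 = 1 →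
      s ≠ 1 → t ≠ 1 → s = t := by
    intro G _ _ _ s t hs ht hs1 ht1
    by_contra hne
    haveI : Fintype G := Fintype.ofFinite G
    have hle := IsCyclic.card_pow_eq_one_le (α := G) (n := 2) two_pos
    have h3 : ({1, s, t} : Finset G).card = 3 := by
      rw [Finset.card_insert_of_notMem (by simp [Ne.symm hs1, Ne.symm ht1]),
        Finset.card_pair hne]
    have hsub : ({1, s, t} : Finset G) ⊆ Finset.univ.filter (fun x => x ^ 2 = 1) := by
      intro x hx
      simp at hx
      rcases hx with rfl | rfl | rfl <;> simp [hs, ht]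
    have := Finset.card_le_card hsub
    omega
  haveI := hcN
  haveI := hcQ
  have hcase : ∀ u : X, u ^ 2 = 1 → (QuotientGroup.mk u : X ⧸ N) ^ 2 = 1 := fun u hu => by
    rw [← QuotientGroup.mk_pow, hu, QuotientGroup.mk_one]
  -- two different nontrivial members of `N`
  have key : ∀ u v : X, u ∈ N → v ∈ N → u ^ 2 = 1 → v ^ 2 = 1 → u ≠ 1 → v ≠ 1 → u = v := by
    intro u v hu hv hu2 hv2 hu1 hv1
    have := huniq (G := N) ⟨u, hu⟩ ⟨v, hv⟩ (Subtype.ext hu2) (Subtype.ext hv2)
      (fun e => hu1 (congrArg Subtype.val e)) (fun e => hv1 (congrArg Subtype.val e))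
    exact congrArg Subtype.val this
  have hne : ∀ i j k : ℕ, ¬ (2 ∣ i ∧ 2 ∣ j ∧ 2 ∣ k) → a ^ i * b ^ j * c ^ k ≠ 1 :=
    fun i j k hn e => hn (hind i j k e)
  have hinN : ∀ u v : X, u ^ 2 = 1 → v ^ 2 = 1 → u ∉ N → v ∉ N → u * v ∈ N := by
    intro u v hu hv huN hvN
    have e := huniq (G := X ⧸ N) _ _ (hcase u hu) (hcase v hv)
      (fun e => huN ((QuotientGroup.eq_one_iff _).1 e))
      (fun e => hvN ((QuotientGroup.eq_one_iff _).1 e))
    have hui : u⁻¹ = u := inv_eq_of_mul_eq_one_left (by rw [← pow_two]; exact hu)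
    have := (QuotientGroup.eq).1 e
    rwa [hui] at this
  have sqr : ∀ {u v : X}, u * v = v * u → u ^ 2 = 1 → v ^ 2 = 1 → (u * v) ^ 2 = 1 :=
    fun huv hu hv => by rw [(show Commute _ _ from huv).mul_pow, hu, hv, one_mul]
  have aa : a * a = 1 := by rw [← pow_two]; exact ha
  have n1 : a ≠ 1 := by simpa using hne 1 0 0 (by decide)
  have n2 : b ≠ 1 := by simpa using hne 0 1 0 (by decide)
  have n3 : c ≠ 1 := by simpa using hne 0 0 1 (by decide)
  have n12 : a * b ≠ 1 := by simpa using hne 1 1 0 (by decide)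
  have n13 : a * c ≠ 1 := by simpa using hne 1 0 1 (by decide)
  have n23 : b * c ≠ 1 := by simpa using hne 0 1 1 (by decide)
  have n123 : a * b * c ≠ 1 := by simpa using hne 1 1 1 (by decide)
  have e12 : ∀ {u v : X}, u ^ 2 = 1 → v ^ 2 = 1 → u = v → u * v = 1 := fun {u v} hu _ e => by
    rw [← e, ← pow_two]; exact hu
  by_cases haN : a ∈ N
  · by_cases hbN : b ∈ N
    · exact n12 (e12 ha hb (key a b haN hbN ha hb n1 n2))
    by_cases hcN' : c ∈ N
    · exact n13 (e12 ha hc (key a c haN hcN' ha hc n1 n3))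
    have := key a (b * c) haN (hinN b c hb hc hbN hcN') ha (sqr hbc hb hc) n1 n23
    exact n123 (by rw [mul_assoc, ← this, aa])
  · by_cases hbN : b ∈ N
    · by_cases hcN' : c ∈ N
      · exact n23 (e12 hb hc (key b c hbN hcN' hb hc n2 n3))
      have := key b (a * c) hbN (hinN a c ha hc haN hcN') hb (sqr hac ha hc) n2 n13
      refine n123 ?_
      rw [this, ← mul_assoc, aa, one_mul, ← pow_two, hc]
    · have hab' := hinN a b ha hb haN hbN
      by_cases hcN' : c ∈ N
      · have := key (a * b) c hab' hcN' (sqr hab ha hb) hc n12 n3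
        exact n123 (e12 (sqr hab ha hb) hc this)
      · have hac' := hinN a c ha hc haN hcN'
        have := key (a * b) (a * c) hab' hac' (sqr hab ha hb) (sqr hac ha hc) n12 n13
        exact n23 (e12 hb hc (mul_left_cancel this))

/-- The classification. -/
theorem classify : ∀ (m : ℕ) {X : Type u} [Group X] [Finite X], Nat.card X = m → IsPGroup 2 X →
    IsMetacyclic X → ∀ {α : MulAut X} {q : ℕ}, OddAut α q →
      Nonempty (X ≃* QuaternionGroup 2) ∨
        ∃ n : ℕ, Nonempty (X ≃* Multiplicative (ZMod (2 ^ n)) × Multiplicative (ZMod (2 ^ n))) := by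
  intro m
  induction m using Nat.strong_induction_on with
  | _ m ih =>
  intro X _ _ hcard hX hm α q h
  haveI : Fact (Nat.Prime 2) := ⟨Nat.prime_two⟩
  by_cases hc : ∀ a b : X, a * b = b * a
  · exact Or.inr (h.homocyclic hX hm hc)
  -- the derived subgroup is cyclic
  have hDc : IsCyclic (commutator X) := by
    obtain ⟨N, hN, hcN, hcQ⟩ := id hm
    haveI := hN
    haveI := hcQ
    have hle : commutator X ≤ N := Subgroup.Normal.quotient_commutative_iff_commutator_le.1
      ⟨⟨fun a b => (IsCyclic.commGroup (α := X ⧸ N)).mul_comm a b⟩⟩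
    haveI := hcN
    exact isCyclic_of_injective (Subgroup.inclusion hle) (Subgroup.inclusion_injective hle)
  haveI := hDc
  have hαD : ∀ y ∈ commutator X, α y ∈ commutator X := fun y hy => by
    rw [← Subgroup.Characteristic.fixed (inferInstance : (commutator X).Characteristic) α] at hy
    exact hy
  -- it is central
  have hcentral : ∀ (y : X), ∀ c ∈ commutator X, y * c = c * y := by
    set C := Subgroup.centralizer (commutator X : Set X) with hC
    have hpowc : ∀ (y : X), ∀ c ∈ commutator X,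
        ∃ i : ℤ, ∀ d ∈ commutator X, y * d * y⁻¹ = d ^ i := by
      intro y c _
      obtain ⟨g, hg⟩ := hDc.exists_generator
      have hyg : y * g * y⁻¹ ∈ commutator X := (inferInstance : (commutator X).Normal).conj_mem _ g.2 y
      obtain ⟨i, hi⟩ := Subgroup.mem_zpowers_iff.1 (hg ⟨_, hyg⟩)
      refine ⟨i, fun d hd => ?_⟩
      obtain ⟨k, hk⟩ := Subgroup.mem_zpowers_iff.1 (hg ⟨d, hd⟩)
      have hk' : (g : X) ^ k = d := congrArg Subtype.val hk
      have hi' : (g : X) ^ i = y * g * y⁻¹ := congrArg Subtype.val hi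
      rw [← hk', ← conj_zpow, ← hi', ← zpow_mul, ← zpow_mul, mul_comm]
    have hdisp : ∀ y : X, y⁻¹ * α y ∈ C := by
      intro y
      refine Subgroup.mem_centralizer_iff.2 fun d hd => ?_
      obtain ⟨i, hi⟩ := hpowc y d hd
      obtain ⟨d', hd'⟩ : ∃ d' ∈ commutator X, α d' = d := ⟨α⁻¹ d, by
        rw [← Subgroup.Characteristic.fixed (inferInstance : (commutator X).Characteristic) α⁻¹] at hd
        exact hd, MulAut.apply_inv_self X α d⟩
      have e : α y * d * (α y)⁻¹ = d ^ i := by
        rw [← hd'.2, ← map_inv, ← map_mul, ← map_mul, hi d' hd'.1, map_zpow]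
      have e' : α y * d * (α y)⁻¹ = y * d * y⁻¹ := e.trans (hi d hd).symm
      calc d * (y⁻¹ * α y) = y⁻¹ * (y * d * y⁻¹) * α y := by group
        _ = y⁻¹ * α y * d := by rw [← e']; group
    intro y c hcc
    have hyC : y ∈ C := by
      have hCn : C.Normal := inferInstance
      have key : C ⊔ frattini X = ⊤ := by
        refine (h.invariant_eq hX hm le_sup_right fun u _ => ?_).resolve_left fun e => ?_
        · rw [← mul_inv_cancel_left u (α u)]
          exact Subgroup.mul_mem _ (by assumption) (Subgroup.mem_sup_left (hdisp u))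
        · refine h.moves hX fun u => ?_
          rw [← e]
          exact Subgroup.mem_sup_left (hdisp u)
      rw [frattini_nongenerating key]
      exact Subgroup.mem_top y
    exact (Subgroup.mem_centralizer_iff.1 hyC c hcc).symm
  -- the involution of the derived subgroup
  obtain ⟨g, hg⟩ := hDc.exists_generator
  have hg1 : g ≠ 1 := fun e => hc fun a b => by
    obtain ⟨k, hk⟩ := Subgroup.mem_zpowers_iff.1 (hg ⟨⁅a, b⁆,
      Subgroup.commutator_mem_commutator (Subgroup.mem_top a) (Subgroup.mem_top b)⟩)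
    rw [e, one_zpow] at hk
    exact commutatorElement_eq_one_iff_mul_comm.1 (congrArg Subtype.val hk).symm
  obtain ⟨e, he⟩ : ∃ e, orderOf g = 2 ^ (e + 1) := by
    obtain ⟨k, hk⟩ := IsPGroup.iff_card.1 (hX.to_subgroup (commutator X))
    obtain ⟨j, -, hj⟩ := (Nat.dvd_prime_pow Nat.prime_two).1 (hk ▸ orderOf_dvd_natCard g)
    rcases j with _ | j
    · rw [pow_zero, orderOf_eq_one_iff] at hj; exact absurd hj hg1
    · exact ⟨j, hj⟩
  set z : X := ((g ^ (2 ^ e) : commutator X) : X) with hz
  have hz2 : z ^ 2 = 1 := by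
    rw [hz, ← SubmonoidClass.coe_pow, ← pow_mul, ← pow_succ, ← he, pow_orderOf_eq_one]; rfl
  have hz1 : z ≠ 1 := fun h' => by
    have h'' : g ^ (2 ^ e) = 1 := Subtype.ext h'
    have := orderOf_dvd_of_pow_eq_one h''
    rw [he, Nat.pow_dvd_pow_iff_le_right one_lt_two] at this
    omega
  have hzD : z ∈ commutator X := SetLike.coe_mem _
  have huniqD : ∀ u ∈ commutator X, u ^ 2 = 1 → u ≠ 1 → u = z := by
    intro u hu hu2 hu1
    obtain ⟨i, hi⟩ := Subgroup.mem_zpowers_iff.1 (hg ⟨u, hu⟩)
    have hi2 : g ^ (i * 2) = 1 := by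
      rw [zpow_mul, hi]
      exact Subtype.ext (by rw [SubgroupClass.coe_zpow]; simpa using hu2)
    have hd : ((2 ^ (e + 1) : ℕ) : ℤ) ∣ i * 2 := he ▸ orderOf_dvd_iff_zpow_eq_one.2 hi2
    obtain ⟨d, hd'⟩ : ((2 ^ e : ℕ) : ℤ) ∣ i := by
      rw [pow_succ] at hd
      push_cast at hd ⊢
      exact (mul_dvd_mul_iff_right (by norm_num : (2 : ℤ) ≠ 0)).1 hd
    have hzz : (g ^ (2 ^ e)) ^ (2 : ℤ) = 1 := by
      rw [show (2 : ℤ) = ((2 : ℕ) : ℤ) from rfl, zpow_natCast]; exact Subtype.ext (by simpa [hz] using hz2)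
    have hu' : u = z ^ d := by
      rw [hz, ← SubgroupClass.coe_zpow]
      refine congrArg Subtype.val (a₁ := (⟨u, hu⟩ : commutator X)) ?_
      rw [← hi, hd', zpow_mul, zpow_natCast]
    rcases Int.even_or_odd' d with ⟨k, rfl | rfl⟩
    · refine absurd ?_ hu1
      rw [hu', zpow_mul, show z ^ (2 : ℤ) = 1 by
        rw [show (2 : ℤ) = ((2 : ℕ) : ℤ) from rfl, zpow_natCast, hz2], one_zpow]
    · rw [hu', zpow_add, zpow_mul, show z ^ (2 : ℤ) = 1 by
        rw [show (2 : ℤ) = ((2 : ℕ) : ℤ) from rfl, zpow_natCast, hz2], one_zpow, one_mul, zpow_one]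
  have hαz : α z = z := huniqD _ (hαD z hzD) (by rw [← map_pow, hz2, map_one])
    fun h' => hz1 (α.map_eq_one_iff.1 h')
  set Z := Subgroup.zpowers z with hZ
  have hzc : ∀ y : X, y * z = z * y := fun y => hcentral y z hzD
  haveI hZn : Z.Normal := ⟨fun c hc' y => by
    obtain ⟨i, rfl⟩ := Subgroup.mem_zpowers_iff.1 hc'
    rw [← conj_zpow, hzc, mul_inv_cancel_right]
    exact Subgroup.zpow_mem _ (Subgroup.mem_zpowers z) i⟩
  have hZcard : Nat.card Z = 2 := by rw [hZ, Nat.card_zpowers, orderOf_eq_prime hz2 hz1]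
  have hZF : Z ≤ frattini X := Subgroup.zpowers_le.2 (Grp.pGroup_commutator_le_frattini hX hzD)
  -- the quotient
  have hmap : Z.map (α : X →* X) = Z := by
    rw [hZ, MonoidHom.map_zpowers]; exact congrArg Subgroup.zpowers hαz
  set β : MulAut (X ⧸ Z) := QuotientGroup.congr Z Z α hmap with hβ
  have hβm : ∀ y : X, β (QuotientGroup.mk y) = QuotientGroup.mk (α y) := fun y => rfl
  have hβq : OddAut β q := by
    refine ⟨h.prime, h.ne_two, fun e => h.moves hX fun y => hZF ?_, ?_⟩
    · refine (QuotientGroup.eq).1 ?_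
      rw [← hβm, e]; rfl
    · refine MulEquiv.ext fun t => ?_
      obtain ⟨y, rfl⟩ := QuotientGroup.mk_surjective t
      have key : ∀ k : ℕ, (β ^ k) (QuotientGroup.mk y) = QuotientGroup.mk ((α ^ k) y) := by
        intro k
        induction k with
        | zero => rfl
        | succ k ih => rw [pow_succ', MulAut.mul_apply, ih, hβm, pow_succ', MulAut.mul_apply]
      rw [key, h.pow_eq]
      rfl
  have hlt : Nat.card (X ⧸ Z) < m := by
    rw [← hcard, Subgroup.card_eq_card_quotient_mul_card_subgroup Z, hZcard]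
    have : 0 < Nat.card (X ⧸ Z) := Nat.card_pos
    omega
  obtain ⟨a, haF, hgen, hab, hpar⟩ := h.gens hX hm
  set b := α a with hb
  rcases ih _ hlt rfl (hX.to_quotient Z) (isMetacyclic_quotient hm Z) hβq with ⟨⟨φ⟩⟩ | ⟨n, ⟨φ⟩⟩
  · -- the quotient is not quaternion
    exfalso
    have hsq : ∀ y : X, y ^ 2 ∈ commutator X := by
      intro y
      obtain ⟨u, v, huv⟩ : ∃ u v : QuaternionGroup 2, φ (QuotientGroup.mk y) ^ 2 = ⁅u, v⁆ := by
        generalize φ (QuotientGroup.mk y) = w
        revert w
        decide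
      obtain ⟨u', hu'⟩ := φ.surjective u
      obtain ⟨v', hv'⟩ := φ.surjective v
      obtain ⟨u₁, rfl⟩ := QuotientGroup.mk_surjective u'
      obtain ⟨v₁, rfl⟩ := QuotientGroup.mk_surjective v'
      have e1 : (QuotientGroup.mk (y ^ 2) : X ⧸ Z) = QuotientGroup.mk' Z ⁅u₁, v₁⁆ :=
        φ.injective (by rw [QuotientGroup.mk_pow, map_pow, huv, map_commutatorElement,
          map_commutatorElement, ← hu', ← hv']; rfl)
      have := (commutator X).mul_mem (Subgroup.commutator_mem_commutator (Subgroup.mem_top u₁)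
        (Subgroup.mem_top v₁)) ((Subgroup.zpowers_le.2 hzD) ((QuotientGroup.eq).1 e1.symm))
      rwa [mul_inv_cancel_left] at this
    have hD2 : ∀ u v : X, ⁅u, v⁆ ^ 2 = 1 := by
      intro u v
      have e1 : ⁅u ^ 2, v⁆ = ⁅u, v⁆ ^ 2 := by
        have hcc := hcentral u ⁅u, v⁆
          (Subgroup.commutator_mem_commutator (Subgroup.mem_top u) (Subgroup.mem_top v))
        calc ⁅u ^ 2, v⁆ = u * ⁅u, v⁆ * u⁻¹ * ⁅u, v⁆ := by
              simp only [commutatorElement_def, pow_two]; group
          _ = ⁅u, v⁆ ^ 2 := by rw [hcc, mul_inv_cancel_right, pow_two]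
      rw [← e1, commutatorElement_eq_one_iff_mul_comm]
      exact (hcentral v _ (hsq u)).symm
    have hcq : ∀ s t : X ⧸ Z, s * t = t * s := by
      intro s t
      obtain ⟨u, rfl⟩ := QuotientGroup.mk_surjective s
      obtain ⟨v, rfl⟩ := QuotientGroup.mk_surjective t
      refine commutatorElement_eq_one_iff_mul_comm.1 ?_
      show ⁅QuotientGroup.mk' Z u, QuotientGroup.mk' Z v⁆ = 1
      rw [← map_commutatorElement]
      refine (QuotientGroup.eq_one_iff _).2 ?_
      by_cases h1 : ⁅u, v⁆ = 1
      · rw [h1]; exact Z.one_mem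
      · rw [huniqD _ (Subgroup.commutator_mem_commutator (Subgroup.mem_top u) (Subgroup.mem_top v))
          (hD2 u v) h1]
        exact Subgroup.mem_zpowers z
    have hh := hcq (φ.symm (QuaternionGroup.a 1)) (φ.symm (QuaternionGroup.xa 0))
    rw [← map_mul, ← map_mul] at hh
    exact absurd (φ.symm.injective hh) (by decide)
  · -- the quotient is homocyclic
    have hcomm2 : ∀ u v : X, ⁅u, v⁆ ∈ Z := fun u v => by
      rw [← QuotientGroup.eq_one_iff]
      show QuotientGroup.mk' Z ⁅u, v⁆ = 1
      rw [map_commutatorElement, commutatorElement_eq_one_iff_mul_comm]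
      exact φ.injective (by rw [map_mul, map_mul, mul_comm])
    have hZpow : ∀ c ∈ Z, c = 1 ∨ c = z := by
      intro c hc'
      by_cases h1 : c = 1
      · exact Or.inl h1
      · refine Or.inr (huniqD c ((Subgroup.zpowers_le.2 hzD) hc') ?_ h1)
        obtain ⟨k, rfl⟩ := Subgroup.mem_zpowers_iff.1 hc'
        rw [← zpow_natCast, ← zpow_mul, mul_comm, zpow_mul, zpow_natCast, hz2, one_zpow]
    have hcab : ⁅a, b⁆ = z := by
      refine (hZpow _ (hcomm2 a b)).resolve_left fun h1 => hc ?_
      have hab' : a * b = b * a := commutatorElement_eq_one_iff_mul_comm.1 h1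
      have hca : ∀ y : X, a * y = y * a := by
        have : Subgroup.zpowers a ⊔ Subgroup.zpowers b ≤ Subgroup.centralizer ({a} : Set X) :=
          sup_le (Subgroup.zpowers_le.2 (Subgroup.mem_centralizer_singleton_iff.2 rfl))
            (Subgroup.zpowers_le.2 (Subgroup.mem_centralizer_singleton_iff.2 hab'.symm))
        exact fun y => (Subgroup.mem_centralizer_singleton_iff.1
          (this (hgen ▸ Subgroup.mem_top y))).symm
      intro u v
      have hzu : Subgroup.zpowers a ⊔ Subgroup.zpowers b ≤ Subgroup.center X := by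
        refine sup_le (Subgroup.zpowers_le.2 (Subgroup.mem_center_iff.2 fun y => (hca y).symm))
          (Subgroup.zpowers_le.2 (Subgroup.mem_center_iff.2 ?_))
        intro y
        have : Subgroup.zpowers a ⊔ Subgroup.zpowers b ≤ Subgroup.centralizer ({b} : Set X) :=
          sup_le (Subgroup.zpowers_le.2 (Subgroup.mem_centralizer_singleton_iff.2 hab'))
            (Subgroup.zpowers_le.2 (Subgroup.mem_centralizer_singleton_iff.2 rfl))
        exact Subgroup.mem_centralizer_singleton_iff.1 (this (hgen ▸ Subgroup.mem_top y))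
      exact (Subgroup.mem_center_iff.1 (hzu (hgen ▸ Subgroup.mem_top u)) v).symm
    have hhalf : ∀ y : X, y ^ (2 ^ (n - 1)) ∈ Z → 1 ≤ n → y ∈ frattini X := by
      intro y hy hn
      have h0 : φ (QuotientGroup.mk y) ^ (2 ^ (n - 1)) = 1 := by
        rw [← map_pow, ← QuotientGroup.mk_pow, (QuotientGroup.eq_one_iff _).2 hy, map_one]
      have hhalfZ : ∀ c : ZMod (2 ^ n), (2 ^ (n - 1)) • c = 0 → ∃ d, c = d + d := by
        intro c hc'
        have hcast : (((2 ^ (n - 1)) * c.val : ℕ) : ZMod (2 ^ n)) = 0 := by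
          rw [Nat.cast_mul, ZMod.natCast_zmod_val, ← nsmul_eq_mul]; exact hc'
        rw [ZMod.natCast_eq_zero_iff] at hcast
        clear hc'
        rename' hcast => hc'
        have e2 : 2 ^ (n - 1) * 2 = 2 ^ n := by rw [← pow_succ, Nat.sub_add_cancel hn]
        obtain ⟨d, hd⟩ := Nat.dvd_of_mul_dvd_mul_left (pow_pos two_pos (n - 1))
          (show 2 ^ (n - 1) * 2 ∣ 2 ^ (n - 1) * c.val from e2.symm ▸ hc')
        exact ⟨(d : ZMod (2 ^ n)), by rw [← ZMod.natCast_zmod_val c, hd, two_mul, Nat.cast_add]⟩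
      obtain ⟨d1, hd1⟩ := hhalfZ (Multiplicative.toAdd (φ (QuotientGroup.mk y)).1) (by
        rw [← toAdd_pow, ← Prod.pow_fst, h0]; rfl)
      obtain ⟨d2, hd2⟩ := hhalfZ (Multiplicative.toAdd (φ (QuotientGroup.mk y)).2) (by
        rw [← toAdd_pow, ← Prod.pow_snd, h0]; rfl)
      obtain ⟨w, hw⟩ := φ.surjective (Multiplicative.ofAdd d1, Multiplicative.ofAdd d2)
      obtain ⟨w', rfl⟩ := QuotientGroup.mk_surjective w
      have hyw : (QuotientGroup.mk (w' ^ 2) : X ⧸ Z) = QuotientGroup.mk y := φ.injective (by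
        rw [QuotientGroup.mk_pow, map_pow, hw, pow_two]
        exact Prod.ext (by show _ = (φ _).1; rw [← ofAdd_toAdd (φ (QuotientGroup.mk y)).1, hd1]; rfl)
          (by show _ = (φ _).2; rw [← ofAdd_toAdd (φ (QuotientGroup.mk y)).2, hd2]; rfl))
      have := (frattini X).mul_mem (Grp.pGroup_pow_mem_frattini hX w')
        (hZF ((QuotientGroup.eq).1 hyw))
      rwa [mul_inv_cancel_left] at this
    have hpowZ : ∀ y : X, y ^ (2 ^ n) ∈ Z := fun y => by
      rw [← QuotientGroup.eq_one_iff, QuotientGroup.mk_pow]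
      refine φ.injective ?_
      rw [map_pow, map_one]
      exact Prod.ext (Multiplicative.toAdd.injective (by
          rw [Prod.pow_fst, toAdd_pow, nsmul_eq_mul, ZMod.natCast_self, zero_mul]; rfl))
        (Multiplicative.toAdd.injective (by
          rw [Prod.pow_snd, toAdd_pow, nsmul_eq_mul, ZMod.natCast_self, zero_mul]; rfl))
    have hsqc : ∀ u v : X, Commute (u ^ 2) v := by
      intro u v
      have hcc := hcentral u ⁅u, v⁆
        (Subgroup.commutator_mem_commutator (Subgroup.mem_top u) (Subgroup.mem_top v))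
      refine commutatorElement_eq_one_iff_mul_comm.1 ?_
      calc ⁅u ^ 2, v⁆ = u * ⁅u, v⁆ * u⁻¹ * ⁅u, v⁆ := by
            simp only [commutatorElement_def, pow_two]; group
        _ = 1 := by
            rw [hcc, mul_inv_cancel_right]
            rcases hZpow _ (hcomm2 u v) with h1 | h1 <;> rw [h1]
            · rw [one_mul]
            · rw [← pow_two, hz2]
    have hcq : ∀ u v : X, Commute (QuotientGroup.mk u : X ⧸ Z) (QuotientGroup.mk v) := fun u v =>
      φ.injective (by rw [map_mul, map_mul, mul_comm])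
    rcases Nat.lt_trichotomy n 1 with hn | rfl | hn
    · exfalso
      obtain rfl : n = 0 := by omega
      exact haF (hZF (by have := hpowZ a; rwa [pow_zero, pow_one] at this))
    · -- order eight
      refine Or.inl ?_
      have hFZ : frattini X = Z := le_antisymm (Grp.frattini_le_of_elementary Nat.prime_two
        (Subgroup.commutator_le.2 fun u _ v _ => hcomm2 u v) fun y => by
          have := hpowZ y; rwa [pow_one] at this) hZF
      have hi4 := h.index_frattini hX hm
      have hcard8 : Nat.card X = 8 := by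
        rw [← (frattini X).card_mul_index, hi4, hFZ, hZcard]
      have hαF : ∀ y ∈ frattini X, α y ∈ frattini X := fun y hy => by
        rw [← Subgroup.Characteristic.fixed (inferInstance : (frattini X).Characteristic) α] at hy
        exact hy
      have hzi : z⁻¹ = z := inv_eq_of_mul_eq_one_left (by rw [← pow_two]; exact hz2)
      have hsq : ∀ y : X, y ^ 2 = 1 ∨ y ^ 2 = z := fun y =>
        hZpow _ (by simpa using hpowZ y)
      have ha2 : b ^ 2 = a ^ 2 := by
        rw [hb, ← map_pow]
        rcases hsq a with h1 | h1 <;> rw [h1]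
        · exact map_one _
        · exact hαz
      have hcoset : ∀ u y : X, u⁻¹ * y ∈ frattini X → y ^ 2 = u ^ 2 := by
        intro u y huy
        obtain ⟨c, hc', rfl⟩ : ∃ c ∈ Z, y = u * c :=
          ⟨u⁻¹ * y, hFZ ▸ huy, (mul_inv_cancel_left u y).symm⟩
        rcases hZpow c hc' with rfl | rfl
        · rw [mul_one]
        · rw [(show Commute u z from hzc u).mul_pow, hz2, mul_one]
      have ha2z : a ^ 2 = z := by
        refine (hsq a).resolve_left fun h1 => ?_
        -- otherwise every involution is outside the coset of `a * b`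
        have hb1 : b ^ 2 = 1 := ha2.trans h1
        have hba : (a * b) ^ 2 = z := by
          have e : b * a = z⁻¹ * (a * b) := by rw [← hcab, commutatorElement_def]; group
          calc (a * b) ^ 2 = a * (b * a) * b := by rw [pow_two]; group
            _ = z * (a ^ 2 * b ^ 2) := by
                rw [e, hzi, pow_two, pow_two]; simp [← mul_assoc, hzc a]
            _ = z := by rw [h1, hb1, mul_one, mul_one]
        set π := QuotientGroup.mk' (frattini X) with hπdef
        have hπ : ∀ u y : X, π u = π y ↔ u⁻¹ * y ∈ frattini X := fun u y => QuotientGroup.eq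
        let f : Fin 2 × Fin 2 → X ⧸ frattini X := fun t => π (a ^ (t.1 : ℤ) * b ^ (t.2 : ℤ))
        have hinj : Function.Injective f := by
          intro s t e
          have e' : π (a ^ ((s.1 : ℤ) - t.1) * b ^ ((s.2 : ℤ) - t.2)) = 1 := by
            rw [show a ^ ((s.1 : ℤ) - t.1) * b ^ ((s.2 : ℤ) - t.2) =
              (a ^ (t.1 : ℤ))⁻¹ * (a ^ (s.1 : ℤ) * b ^ (s.2 : ℤ)) * (b ^ (t.2 : ℤ))⁻¹ by group,
              map_mul, map_mul, show π (a ^ (s.1 : ℤ) * b ^ (s.2 : ℤ)) = _ from e, ← map_mul,
              ← map_mul]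
            rw [show (a ^ (t.1 : ℤ))⁻¹ * (a ^ (t.1 : ℤ) * b ^ (t.2 : ℤ)) * (b ^ (t.2 : ℤ))⁻¹ = 1
              by group, map_one]
          obtain ⟨d1, d2⟩ := hpar _ _ ((QuotientGroup.eq_one_iff _).1 e')
          exact Prod.ext (Fin.ext (by omega)) (Fin.ext (by omega))
        have hbij : Function.Bijective f := hinj.bijective_of_nat_card_le (by
          rw [show Nat.card (X ⧸ frattini X) = 4 from hi4]; simp)
        set H := Subgroup.zpowers (a * b) ⊔ frattini X with hH
        have hmemH : ∀ y : X, y ^ 2 = z → y ∈ H := by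
          intro y hy
          obtain ⟨⟨i, j⟩, hij⟩ := hbij.2 (π y)
          have h' := hcoset _ y ((hπ _ _).1 hij)
          fin_cases i <;> fin_cases j <;> simp [f] at h' hij
          · exact absurd (hy.symm.trans h') hz1
          · exact absurd (hy.symm.trans (h'.trans hb1)) hz1
          · exact absurd (hy.symm.trans (h'.trans h1)) hz1
          · rw [← mul_inv_cancel_left (a * b) y]
            refine H.mul_mem (Subgroup.mem_sup_left (Subgroup.mem_zpowers _))
              (Subgroup.mem_sup_right ((hπ _ _).1 ?_))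
            rw [map_mul]; exact hij
        have hinv : H ≤ H.comap (α : X →* X) := by
          refine sup_le (Subgroup.zpowers_le.2 ?_) fun y hy => ?_
          · show α (a * b) ∈ H
            exact hmemH _ (by rw [← map_pow, hba]; exact hαz)
          · exact Subgroup.mem_sup_right (hαF y hy)
        rcases h.invariant_eq hX hm (le_sup_right : frattini X ≤ H) hinv with hH' | hH'
        · have h2 : a ^ (1 : ℤ) * α a ^ (1 : ℤ) ∈ frattini X := by
            rw [zpow_one, zpow_one, ← hb, ← hH']
            exact Subgroup.mem_sup_left (Subgroup.mem_zpowers _)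
          exact absurd (hpar 1 1 h2).1 (by norm_num)
        · have haH : a ∈ H := (SetLike.ext_iff.1 hH' a).2 (Subgroup.mem_top a)
          obtain ⟨u, hu, v, hv, huv⟩ := Subgroup.mem_sup_of_normal_right.1 haH
          obtain ⟨i, rfl⟩ := Subgroup.mem_zpowers_iff.1 hu
          have hab2 : π (a * b) ^ (2 : ℤ) = 1 := by
            rw [show (2 : ℤ) = ((2 : ℕ) : ℤ) from rfl, zpow_natCast, ← map_pow]
            exact (QuotientGroup.eq_one_iff _).2 (Grp.pGroup_pow_mem_frattini hX _)
          have hπa : π a = π (a * b) ^ i := by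
            rw [← map_zpow]
            refine ((hπ _ _).2 ?_).symm
            rw [inv_mul_eq_iff_eq_mul.2 huv.symm]; exact hv
          rcases Int.even_or_odd' i with ⟨k, rfl | rfl⟩
          · rw [zpow_mul, hab2, one_zpow] at hπa
            exact haF ((QuotientGroup.eq_one_iff _).1 hπa)
          · rw [zpow_add, zpow_mul, hab2, one_zpow, one_mul, zpow_one, map_mul, left_eq_mul] at hπa
            exact absurd (hpar 0 1 (by
              rw [zpow_zero, one_mul, zpow_one]; exact (QuotientGroup.eq_one_iff _).1 hπa)).2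
              (by norm_num)
      have hord : orderOf a = 2 * 2 := by
        show orderOf a = 2 ^ (1 + 1)
        exact orderOf_eq_prime_pow (by rw [pow_one, ha2z]; exact hz1)
          (by rw [pow_succ, pow_one, pow_mul, ha2z, hz2])
      refine Transfer.MaxClass.nonempty_quaternion (a := a) (x := b) two_pos hord ?_ ?_ ?_ ?_
      · have := (Subgroup.zpowers a).card_mul_index
        rw [Nat.card_zpowers, hord, hcard8] at this
        omega
      · intro hbm
        obtain ⟨i, hi⟩ := Subgroup.mem_zpowers_iff.1 hbm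
        exact absurd (hpar (-i) 1 (by
          rw [zpow_neg, zpow_one, ← hi, inv_mul_cancel]; exact (frattini X).one_mem)).2
          (by norm_num)
      · rw [← pow_two]; exact ha2
      · calc b * a * b⁻¹ = ⁅a, b⁆⁻¹ * a := by rw [commutatorElement_def]; group
          _ = a⁻¹ := by rw [hcab, ← ha2z]; group
    · -- the large case
      exfalso
      have hsq4 : ∀ u v : X, (u * v) ^ 4 = u ^ 4 * v ^ 4 := by
        intro u v
        have e : (u ^ 2 * v ^ 2)⁻¹ * (u * v) ^ 2 ∈ Z := by
          refine (QuotientGroup.eq).1 ?_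
          rw [QuotientGroup.mk_mul, QuotientGroup.mk_pow, QuotientGroup.mk_pow, QuotientGroup.mk_pow,
            QuotientGroup.mk_mul, (hcq u v).mul_pow]
        obtain ⟨c, hc', huv⟩ : ∃ c ∈ Z, (u * v) ^ 2 = u ^ 2 * v ^ 2 * c :=
          ⟨_, e, (mul_inv_cancel_left _ _).symm⟩
        have hc2 : c ^ 2 = 1 := by
          rcases hZpow c hc' with rfl | rfl
          · exact one_pow _
          · exact hz2
        have hcc : Commute (u ^ 2 * v ^ 2) c := by
          rcases hZpow c hc' with rfl | rfl
          · exact Commute.one_right _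
          · exact hzc _
        rw [show (4 : ℕ) = 2 * 2 from rfl, pow_mul, huv, hcc.mul_pow, hc2, mul_one,
          (hsqc u (v ^ 2)).mul_pow, ← pow_mul, ← pow_mul]
      have h4n : 2 ^ n = 4 * 2 ^ (n - 2) := by
        rw [show (4 : ℕ) = 2 ^ 2 from rfl, ← pow_add]; congr 1; omega
      have hhom : ∀ u v : X, (u * v) ^ (2 ^ n) = u ^ (2 ^ n) * v ^ (2 ^ n) := by
        intro u v
        rw [h4n, pow_mul, pow_mul, pow_mul, hsq4]
        refine Commute.mul_pow ?_ _
        rw [show (4 : ℕ) = 2 * 2 from rfl, pow_mul]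
        exact (hsqc u _).pow_left 2
      set fh : X →* X := MonoidHom.mk' (fun y => y ^ (2 ^ n)) hhom with hfh
      have hexp : ∀ y : X, y ^ (2 ^ n) = 1 := by
        rcases h.invariant_eq hX hm (H := fh.ker) (Grp.frattini_le_of_elementary Nat.prime_two
          (Subgroup.commutator_le.2 fun u _ v _ => by
            show ⁅u, v⁆ ^ (2 ^ n) = 1
            rw [h4n, show (4 : ℕ) = 2 * 2 from rfl, mul_assoc, pow_mul]
            rcases hZpow _ (hcomm2 u v) with h1 | h1 <;> rw [h1]
            · rw [one_pow, one_pow]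
            · rw [hz2, one_pow])
          fun y => by
            show (y ^ 2) ^ (2 ^ n) = 1
            rw [← pow_mul, mul_comm, pow_mul]
            rcases hZpow _ (hpowZ y) with h1 | h1 <;> rw [h1]
            · rw [one_pow]
            · rw [hz2]) (fun y hy => by
              show α y ^ (2 ^ n) = 1
              rw [← map_pow, show y ^ (2 ^ n) = 1 from hy, map_one]) with hK | hK
        · exfalso
          have h4 := Subgroup.index_ker fh
          rw [hK, h.index_frattini hX hm] at h4
          have hrg : fh.range ≤ Z := by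
            rintro _ ⟨y, rfl⟩
            exact hpowZ y
          have := Subgroup.card_le_of_le hrg
          omega
        · intro y
          exact (hK ▸ Subgroup.mem_top y : y ∈ fh.ker)
      have hcen : ∀ u v : X, Commute (u ^ (2 ^ (n - 1))) v := by
        intro u v
        rw [show 2 ^ (n - 1) = 2 * 2 ^ (n - 2) by rw [← pow_succ']; congr 1; omega, pow_mul]
        exact (hsqc u v).pow_left _
      have h2n : 2 ^ (n - 1) * 2 = 2 ^ n := by rw [← pow_succ]; congr 1; omega
      refine three_involutions hm (a := a ^ (2 ^ (n - 1))) (b := b ^ (2 ^ (n - 1))) (c := z)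
        (hcen _ _) (hzc _) (hzc _) (by rw [← pow_mul, h2n, hexp])
        (by rw [← pow_mul, h2n, hexp]) hz2 ?_
      intro i j k hijk
      have hmem : (a ^ i * b ^ j) ^ (2 ^ (n - 1)) ∈ Z := by
        rw [← QuotientGroup.eq_one_iff, QuotientGroup.mk_pow, QuotientGroup.mk_mul, (hcq _ _).mul_pow,
          QuotientGroup.mk_pow, QuotientGroup.mk_pow, ← pow_mul, ← pow_mul, mul_comm i, mul_comm j,
          pow_mul, pow_mul]
        have e := congrArg (fun y : X => (QuotientGroup.mk y : X ⧸ Z)) hijk
        simp only [QuotientGroup.mk_mul, QuotientGroup.mk_pow, QuotientGroup.mk_one] at e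
        rwa [(QuotientGroup.eq_one_iff z).2 (Subgroup.mem_zpowers z), one_pow, mul_one] at e
      obtain ⟨d1, d2⟩ := hpar i j (by
        rw [zpow_natCast, zpow_natCast]; exact hhalf _ hmem (by omega))
      have d1' : 2 ∣ i := by exact_mod_cast d1
      have d2' : 2 ∣ j := by exact_mod_cast d2
      refine ⟨d1', d2', ?_⟩
      obtain ⟨i', rfl⟩ := d1'
      obtain ⟨j', rfl⟩ := d2'
      rw [← pow_mul, ← pow_mul, ← mul_assoc, ← mul_assoc, h2n, pow_mul a, pow_mul b, hexp, hexp,
        one_pow, one_pow, one_mul, one_mul] at hijk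
      rw [← orderOf_eq_prime hz2 hz1]
      exact orderOf_dvd_of_pow_eq_one hijk

/-- An automorphism group that is not a `2`-group supplies an automorphism of odd prime order. -/
theorem exists_oddAut (hA : ¬ IsPGroup 2 (MulAut X)) :
    ∃ (α : MulAut X) (q : ℕ), OddAut α q := by
  haveI : Finite (MulAut X) :=
    Finite.of_injective (fun e : MulAut X => (e : X → X)) DFunLike.coe_injective
  by_contra hne
  refine hA (IsPGroup.of_card (n := (Nat.card (MulAut X)).primeFactorsList.length)
    (Nat.eq_prime_pow_of_unique_prime_dvd Nat.card_pos.ne' fun {d} hd hdvd => ?_))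
  by_contra hd2
  haveI : Fact d.Prime := ⟨hd⟩
  obtain ⟨α, hα⟩ := exists_prime_orderOf_dvd_card' d hdvd
  refine hne ⟨α, d, hd, hd2, fun e => ?_, hα ▸ pow_orderOf_eq_one α⟩
  rw [e, orderOf_one] at hα
  exact hd.one_lt.ne hα

/-- A metacyclic `2`-group whose automorphism group is not a `2`-group is `Q₈` or homocyclic of
rank at most two. -/
theorem classify_of_not_isPGroup (hX : IsPGroup 2 X) (hm : IsMetacyclic X)
    (hA : ¬ IsPGroup 2 (MulAut X)) :
    Nonempty (X ≃* QuaternionGroup 2) ∨
      ∃ n : ℕ, Nonempty (X ≃* Multiplicative (ZMod (2 ^ n)) × Multiplicative (ZMod (2 ^ n))) := by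
  obtain ⟨α, q, h⟩ := exists_oddAut hA
  exact classify _ rfl hX hm h

end Cfsg.Agent.Fus.MetaTwo
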