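import Cfsg.Agent.Lib.Fus.UnitFrames

/-!
The structure of a Sylow subgroup of `SU_n` in the defining characteristic: it is built from
Heisenberg groups along a flag of isotropic vectors; the radical of the stabiliser of an isotropic
plane.
-/

set_option autoImplicit false
set_option linter.unusedSectionVars false
set_option linter.style.haveILetI false

namespace Cfsg.Agent.Fus.UnitN

open Matrix Cfsg.Agent.Classical Cfsg.Agent.Classical.PSUAut

variable {F : Type*} [Field F] [Fintype F] {q n : ℕ}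

local notation "V" => (Fin n → F)
local notation "Mn" => Matrix (Fin n) (Fin n) F
local notation "SUn" => SU n F q

variable (hF : Fintype.card F = q ^ 2) {p : ℕ} [Fact p.Prime] [CharP F p]

local notation "h" => hermForm n F q
local notation "cj" => qFrob hF

include hF

/-- An element fixing `z` is a Heisenberg element times one fixing the pair. -/
theorem exists_heis_split {W : Submodule F V} (hW : Frame q W) {z y : V} (P : IsPair (q := q) z y)
    (hz : z ∈ W) (hy : y ∈ W) {g : SUn} (hg : g ∈ gW W) (hgz : suVal g *ᵥ z = z) :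
    ∃ (w : V) (c : F) (H : EOK (q := q) z w c), w ∈ nextW (q := q) W z y ∧
      (eSU hF H)⁻¹ * g ∈ gW (nextW (q := q) W z y) := by
  obtain ⟨w, hw⟩ : ∃ w, w = wPart (q := q) z y (suVal g *ᵥ y) := ⟨_, rfl⟩
  have hy' : suVal g *ᵥ y ∈ W := gW_map hF hW hg hy
  have hyz : h (suVal g *ᵥ y) z = 1 := by
    have := su_form g y z
    rwa [hgz, P.fe hF] at this
  obtain ⟨c, hc⟩ : ∃ c, c = h (suVal g *ᵥ y) y := ⟨_, rfl⟩
  have hyeq : suVal g *ᵥ y = c • z + y + w := by
    conv_lhs => rw [wPart_eq (q := q) z y (suVal g *ᵥ y), hyz, one_smul, ← hc, ← hw]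
  have hwn : w ∈ nextW (q := q) W z y := hw ▸ ⟨Submodule.sub_mem _ hy'
    (Submodule.add_mem _ (Submodule.smul_mem _ _ hz) (Submodule.smul_mem _ _ hy)), wPart_mem hF P _⟩
  have H : EOK (q := q) z w c := by
    refine ⟨P.ee, hwn.2.1, ?_⟩
    have h1 : h (suVal g *ᵥ y) (suVal g *ᵥ y) = 0 := by rw [su_form, P.ff]
    rw [hyeq] at h1
    simp only [h_add_left, h_add_right hF, h_smul_left, h_smul_right hF, P.ee, P.ef, P.ff, P.fe hF,
      hwn.2.1, hwn.2.2, h_comm_zero hF hwn.2.1, h_comm_zero hF hwn.2.2] at h1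
    rw [cj_pow hF]; linear_combination h1
  have hEz : suVal (eSU hF H) *ᵥ z = z := by
    rw [suVal_eSU, eMat_mulVec, P.ee, h_comm_zero hF hwn.2.1]; simp
  have hEy : suVal (eSU hF H) *ᵥ y = suVal g *ᵥ y := by
    rw [hyeq, suVal_eSU, eMat_mulVec, P.fe hF, h_comm_zero hF hwn.2.2]
    simp; abel
  refine ⟨w, c, H, hwn, mem_gW_next hF hW P hz hy
    (mul_mem (inv_mem (eSU_mem_gW hF hz hwn.1 H)) hg) ?_ ?_⟩
  · rw [mulVec_mul, hgz]
    exact (congrArg (fun v => suVal (eSU hF H)⁻¹ *ᵥ v) hEz.symm).trans (inv_apply (eSU hF H) z).1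
  · rw [mulVec_mul, ← hEy]
    exact (inv_apply _ y).1

/-- The intersection with `gW W` is a maximal `p`-subgroup of `gW W`. -/
def MaxIn (p : ℕ) (P : Subgroup SUn) (W : Submodule F V) : Prop :=
  ∀ X : Subgroup SUn, X ≤ gW W → IsPGroup p X → P ⊓ gW W ≤ X → X ≤ P

theorem maxIn_top (P : Sylow p SUn) : MaxIn p (P : Subgroup SUn) (⊤ : Submodule F V) :=
  fun _ _ hX hle => (P.3 hX ((le_inf le_rfl fun s _ => gW_top hF s).trans hle)).le

theorem conj_heis {W : Submodule F V} {z : V} (hzz : h z z = 0) {s u : SUn} (hs : s ∈ gW W)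
    (hsz : suVal s *ᵥ z = z) (hu : u ∈ heisU hF z hzz ⊓ gW W) :
    s * u * s⁻¹ ∈ heisU hF z hzz ⊓ gW W := by
  refine ⟨?_, Subgroup.mul_mem _ (Subgroup.mul_mem _ hs hu.2) (Subgroup.inv_mem _ hs)⟩
  obtain ⟨w, c, H, hu⟩ := hu.1
  refine ⟨suVal s *ᵥ w, c, by simpa [hsz] using H.map (su_form s), ?_⟩
  rw [suVal_mul, suVal_mul, hu, eMat_conj hF, hsz]

/-- The Heisenberg group of a fixed vector lies in `P`. -/
theorem heis_le {P : Subgroup SUn} {W : Submodule F V} (hP : IsPGroup p P) (hmax : MaxIn p P W)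
    {z : V} (hzz : h z z = 0) (hfix : ∀ s ∈ P ⊓ gW W, suVal s *ᵥ z = z) :
    heisU hF z hzz ⊓ gW W ≤ P := by
  refine le_trans le_sup_left (hmax (heisU hF z hzz ⊓ gW W ⊔ (P ⊓ gW W))
    (sup_le inf_le_right inf_le_right) ?_ le_sup_right)
  refine IsPGroup.to_sup_of_normal_left' ((isPGroup_heisU hF hzz).to_le inf_le_left)
    (hP.to_le inf_le_left) fun s hs => Subgroup.mem_normalizer_iff.2 fun u => ⟨fun hu =>
      conj_heis hF hzz hs.2 (hfix s hs) hu, fun hu => ?_⟩
  have := conj_heis hF hzz (inv_mem hs.2) (hfix _ (inv_mem hs)) hu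
  simpa [mul_assoc] using this

/-- Maximality passes to the orthogonal space of a pair. -/
theorem maxIn_next {P : Subgroup SUn} {W : Submodule F V} (hW : Frame q W) (hP : IsPGroup p P)
    (hmax : MaxIn p P W) {z y : V} (hzy : IsPair (q := q) z y) (hz : z ∈ W) (hy : y ∈ W)
    (hfix : ∀ s ∈ P ⊓ gW W, suVal s *ᵥ z = z) : MaxIn p P (nextW (q := q) W z y) := by
  intro X hXW hX hle
  have hXg : X ≤ gW W := hXW.trans (gW_mono hF inf_le_left)
  refine le_trans le_sup_right (hmax (heisU hF z hzy.ee ⊓ gW W ⊔ X) (sup_le inf_le_right hXg) ?_ ?_)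
  · refine IsPGroup.to_sup_of_normal_left' ((isPGroup_heisU hF hzy.ee).to_le inf_le_left) hX
      fun s hs => Subgroup.mem_normalizer_iff.2 fun u => ⟨fun hu => ?_, fun hu => ?_⟩
    · exact conj_heis hF hzy.ee (hXg hs) (gW_next_fix hF (hXW hs)).1 hu
    · have := conj_heis hF hzy.ee (inv_mem (hXg hs)) (gW_next_fix hF (hXW (inv_mem hs))).1 hu
      simpa [mul_assoc] using this
  · intro s hs
    obtain ⟨w, c, H, hw, hrest⟩ := exists_heis_split hF hW hzy hz hy hs.2 (hfix s hs)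
    have hE : eSU hF H ∈ heisU hF z hzy.ee ⊓ gW W :=
      ⟨⟨w, c, H, rfl⟩, eSU_mem_gW hF hz hw.1 H⟩
    have hrP : (eSU hF H)⁻¹ * s ∈ X :=
      hle ⟨Subgroup.mul_mem _ (Subgroup.inv_mem _ (heis_le hF hP hmax hzy.ee hfix hE)) hs.1, hrest⟩
    have := mul_mem (Subgroup.mem_sup_left (T := X) hE)
      (Subgroup.mem_sup_right (S := heisU hF z hzy.ee ⊓ gW W) hrP)
    rwa [mul_inv_cancel_left] at this

/-- The maximal `p`-subgroup is generated by Heisenberg elements. -/
theorem le_of_heis {P T : Subgroup SUn} (hP : IsPGroup p P)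
    (hT : ∀ (e w : V) (c : F) (H : EOK (q := q) e w c), e ≠ 0 → eSU hF H ∈ P → eSU hF H ∈ T) :
    ∀ (N : ℕ) (W : Submodule F V), Nat.card W = N → Frame q W → MaxIn p P W → P ⊓ gW W ≤ T := by
  intro N
  induction N using Nat.strong_induction_on with
  | _ N ih =>
  intro W hN hW hmax s hs
  rcases frame_dichotomy hF W with ⟨z0, hz0m, hz0, hz0z⟩ | hline
  · obtain ⟨z, hz, hzne, hzz, hfix⟩ := exists_fixed_isotropic (p := p) hF hW hz0m hz0 hz0z
      (hP.to_le (inf_le_left : P ⊓ gW W ≤ P)) inf_le_right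
    obtain ⟨y, hy, hzy⟩ := exists_partner hF hW hz hzne hzz
    obtain ⟨w, c, H, hw, hrest⟩ := exists_heis_split hF hW hzy hz hy hs.2 (hfix s hs)
    have hEP : eSU hF H ∈ P :=
      heis_le hF hP hmax hzz hfix ⟨⟨w, c, H, rfl⟩, eSU_mem_gW hF hz hw.1 H⟩
    have h2 := ih _ (hN ▸ next_card_lt hF hzy hz) _ rfl (hW.next hF hzy hz hy)
      (maxIn_next hF hW hP hmax hzy hz hy hfix) ⟨Subgroup.mul_mem _ (Subgroup.inv_mem _ hEP) hs.1, hrest⟩
    have h3 := mul_mem (hT z w c H hzne hEP) h2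
    rwa [mul_inv_cancel_left] at h3
  · rw [eq_one_of_line hF hW hline hs.2]
    exact one_mem _

/-! ### An isotropic plane -/

/-- Orthogonal isotropic vectors with their partners. -/
structure Plane (e e2 f f2 : V) : Prop where
  pair1 : IsPair (q := q) e f
  pair2 : IsPair (q := q) e2 f2
  e2e : hermForm n F q e2 e = 0
  e2f : hermForm n F q e2 f = 0
  f2e : hermForm n F q f2 e = 0
  f2f : hermForm n F q f2 f = 0

theorem eSU_apply {e w : V} {c : F} (H : EOK (q := q) e w c) (x : V) :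
    suVal (eSU hF H) *ᵥ x = x + (h x e • w - h x w • e + (c * h x e) • e) := by
  rw [suVal_eSU, eMat_mulVec]

/-- The span of the two vectors. -/
def span2 (e e2 : V) : Submodule F V := Submodule.span F {e, e2}

theorem left_mem (e e2 : V) : e ∈ span2 (F := F) e e2 := Submodule.subset_span (by simp)

theorem right_mem (e e2 : V) : e2 ∈ span2 (F := F) e e2 := Submodule.subset_span (by simp)

theorem orth_span2 {e e2 x : V} (h1 : h x e = 0) (h2 : h x e2 = 0) {v : V}
    (hv : v ∈ span2 (F := F) e e2) : h x v = 0 := by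
  obtain ⟨a, b, rfl⟩ := Submodule.mem_span_pair.1 hv
  rw [h_add_right hF, h_smul_right hF, h_smul_right hF, h1, h2]
  ring

/-- The defining property of the radical of the stabiliser of a plane. -/
def InPlaneRad (e e2 : V) (M : Mn) : Prop :=
  M *ᵥ e = e ∧ M *ᵥ e2 = e2 ∧
    ∀ x : V, h x e = 0 → h x e2 = 0 → M *ᵥ x - x ∈ span2 (F := F) e e2

theorem InPlaneRad.fix {e e2 : V} {M : Mn} (hM : InPlaneRad (q := q) e e2 M) {v : V}
    (hv : v ∈ span2 (F := F) e e2) : M *ᵥ v = v := by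
  obtain ⟨a, b, rfl⟩ := Submodule.mem_span_pair.1 hv
  rw [Matrix.mulVec_add, Matrix.mulVec_smul, Matrix.mulVec_smul, hM.1, hM.2.1]

/-- The radical of the stabiliser of an isotropic plane. -/
def planeRad (e e2 : V) : Subgroup SUn where
  carrier := {s | InPlaneRad (q := q) e e2 (suVal s)}
  one_mem' := ⟨by rw [suVal_one', Matrix.one_mulVec], by rw [suVal_one', Matrix.one_mulVec],
    fun x _ _ => by rw [suVal_one', Matrix.one_mulVec, sub_self]; exact zero_mem _⟩
  mul_mem' := fun {s t} hs ht => ⟨by rw [mulVec_mul, ht.1, hs.1], by rw [mulVec_mul, ht.2.1, hs.2.1],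
    fun x h1 h2 => by
      have ht' := ht.2.2 x h1 h2
      rw [mulVec_mul, ← sub_add_cancel (suVal t *ᵥ x) x, Matrix.mulVec_add, hs.fix hF ht',
        add_sub_assoc]
      exact add_mem ht' (hs.2.2 x h1 h2)⟩
  inv_mem' := fun {s} hs => by
    have e1 : suVal s⁻¹ *ᵥ e = e :=
      (congrArg (fun v => suVal s⁻¹ *ᵥ v) hs.1.symm).trans (inv_apply s e).1
    have e2' : suVal s⁻¹ *ᵥ e2 = e2 :=
      (congrArg (fun v => suVal s⁻¹ *ᵥ v) hs.2.1.symm).trans (inv_apply s e2).1
    refine ⟨e1, e2', fun x h1 h2 => ?_⟩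
    have hl := hs.2.2 x h1 h2
    have hfix : suVal s⁻¹ *ᵥ (suVal s *ᵥ x - x) = suVal s *ᵥ x - x :=
      (congrArg (fun v => suVal s⁻¹ *ᵥ v) (hs.fix hF hl).symm).trans
        (inv_apply s (suVal s *ᵥ x - x)).1
    rw [Matrix.mulVec_sub, (inv_apply s x).1] at hfix
    rw [show suVal s⁻¹ *ᵥ x - x = -(suVal s *ᵥ x - x) by linear_combination (norm := module) -hfix]
    exact neg_mem hl

theorem isPGroup_planeRad (e e2 : V) :
    IsPGroup p (planeRad hF e e2) := by
  rintro ⟨s, hs⟩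
  refine ⟨2, Subtype.ext (suVal_ext ?_)⟩
  rw [SubgroupClass.coe_pow, suVal_pow]
  show suVal s ^ p ^ 2 = 1
  obtain ⟨N, hN⟩ : ∃ N, N = suVal s - 1 := ⟨_, rfl⟩
  have hNv : ∀ x, N *ᵥ x = suVal s *ᵥ x - x := fun x => by
    rw [hN, Matrix.sub_mulVec, Matrix.one_mulVec]
  have hN3 : N ^ 3 = 0 := by
    refine Matrix.ext_iff_mulVec.2 fun x => ?_
    rw [pow_succ, pow_two, ← Matrix.mulVec_mulVec, ← Matrix.mulVec_mulVec, Matrix.zero_mulVec, hNv x]
    have h1 : h (suVal s *ᵥ x - x) e = 0 := by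
      have := su_form s x e
      rw [hs.1] at this
      rw [h_sub_left, this, sub_self]
    have h2 : h (suVal s *ᵥ x - x) e2 = 0 := by
      have := su_form s x e2
      rw [hs.2.1] at this
      rw [h_sub_left, this, sub_self]
    rw [hNv (suVal s *ᵥ x - x), hNv, hs.fix hF (hs.2.2 _ h1 h2), sub_self]
  have hp3 : 3 ≤ p ^ 2 := by nlinarith [(Fact.out : p.Prime).two_le]
  rcases isEmpty_or_nonempty (Fin n) with hem | hne
  · exact Subsingleton.elim _ _
  haveI : CharP Mn p := inferInstance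
  have h0 : N ^ p ^ 2 = 0 := pow_eq_zero_of_le hp3 hN3
  rw [hN, sub_pow_char_pow_of_commute p 2 (Commute.one_right _), one_pow, sub_eq_zero] at h0
  exact h0

theorem conj_planeRad {e e2 : V} {g s : SUn}
    (hg : ∀ v ∈ span2 (F := F) e e2, suVal g *ᵥ v ∈ span2 (F := F) e e2)
    (hg' : ∀ v ∈ span2 (F := F) e e2, suVal g⁻¹ *ᵥ v ∈ span2 (F := F) e e2)
    (hs : s ∈ planeRad hF e e2) : g * s * g⁻¹ ∈ planeRad hF e e2 := by
  have key : ∀ v ∈ span2 (F := F) e e2, suVal (g * s * g⁻¹) *ᵥ v = v := fun v hv => by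
    rw [mulVec_mul, mulVec_mul, InPlaneRad.fix hF hs (hg' v hv), (inv_apply g v).2]
  refine ⟨key _ (left_mem hF e e2), key _ (right_mem hF e e2), fun x h1 h2 => ?_⟩
  have hy : ∀ v ∈ span2 (F := F) e e2, h (suVal g⁻¹ *ᵥ x) v = 0 := fun v hv => by
    rw [← su_form g, (inv_apply g x).2]
    exact orth_span2 hF h1 h2 (hg v hv)
  have hl := hs.2.2 _ (hy e (left_mem hF e e2)) (hy e2 (right_mem hF e e2))
  have := hg _ hl
  rwa [Matrix.mulVec_sub, (inv_apply g x).2, ← mulVec_mul g s, ← mulVec_mul (g * s)] at this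

theorem eSU_mem_planeRad {e e2 v w : V} {c : F} (he : h e e = 0) (he2 : h e2 e2 = 0)
    (h21 : h e2 e = 0) (hv : v ∈ span2 (F := F) e e2) (hw1 : h w e = 0) (hw2 : h w e2 = 0)
    (H : EOK (q := q) v w c) : eSU hF H ∈ planeRad hF e e2 := by
  have hev : h e v = 0 := orth_span2 hF he (h_comm_zero hF h21) hv
  have he2v : h e2 v = 0 := orth_span2 hF h21 he2 hv
  refine ⟨?_, ?_, fun x h1 h2 => ?_⟩
  · rw [eSU_apply hF, hev, h_comm_zero hF hw1]; simp
  · rw [eSU_apply hF, he2v, h_comm_zero hF hw2]; simp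
  · rw [eSU_apply hF, add_sub_cancel_left, orth_span2 hF h1 h2 hv, zero_smul, zero_sub, mul_zero,
      zero_smul, add_zero]
    exact neg_mem (Submodule.smul_mem _ _ hv)

include p in
/-- Commuting with the radical means lying in it up to a scalar. -/
theorem mem_planeRad_of_commute {e e2 f f2 : V} (D : Plane (q := q) e e2 f f2) {s : SUn}
    (hc : ∀ u ∈ planeRad hF e e2, s * u * s⁻¹ = u) :
    ∃ u ∈ planeRad hF e e2, ∃ l : F, suVal s = l • suVal u := by
  obtain ⟨t, ht0, ht⟩ := exists_trace_zero hF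
  -- eigenvectors
  have eig : ∀ v, v ≠ 0 → h v v = 0 → v ∈ span2 (F := F) e e2 →
      ∃ l : F, l * cj l = 1 ∧ suVal s *ᵥ v = l • v := by
    intro v hv hvv hvL
    have h1 := congrArg suVal (hc _ (eSU_mem_planeRad hF D.pair1.ee D.pair2.ee D.e2e hvL
      (h_zero_left e) (h_zero_left e2) (eOK_transvection hF hvv ht)))
    rw [suVal_mul, suVal_mul, suVal_eSU, eMat_conj hF, Matrix.mulVec_zero] at h1
    obtain ⟨l, -, hl⟩ := exists_smul_of_tv_eq hF (fun h' => hv (su_injective s h')) ht0 h1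
    refine ⟨l, ?_, hl⟩
    rw [hl, tv_smul hF] at h1
    exact mul_right_cancel₀ ht0 ((tv_coeff_inj hF hv h1).trans (one_mul t).symm)
  obtain ⟨l, hl, hse⟩ := eig e D.pair1.ne_zero D.pair1.ee (left_mem hF e e2)
  obtain ⟨l2, hl2, hse2⟩ := eig e2 D.pair2.ne_zero D.pair2.ee (right_mem hF e e2)
  have perp : ∀ (v v' : V), IsPair (q := q) v v' → v ∈ span2 (F := F) e e2 → ∀ (l : F),
      l * cj l = 1 → suVal s *ᵥ v = l • v → ∀ w, h w e = 0 → h w e2 = 0 →
      ∃ r : F, suVal s *ᵥ w = l • w + r • v := by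
    intro v v' Pv hv l hl hsv w hw1 hw2
    have hwv : h w v = 0 := orth_span2 hF hw1 hw2 hv
    obtain ⟨c, H⟩ := EOK.exists_c hF Pv.ee hwv
    have h1 := congrArg suVal (hc _ (eSU_mem_planeRad hF D.pair1.ee D.pair2.ee D.e2e hv hw1 hw2 H))
    rw [suVal_mul, suVal_mul, suVal_eSU, eMat_conj hF, hsv] at h1
    have h2 := congrArg (· *ᵥ v') h1
    simp only [eMat_mulVec, h_smul_right hF, Pv.fe hF, mul_one, one_smul, add_right_inj] at h2
    refine ⟨l * (l * h v' (suVal s *ᵥ w) - c * cj l * l - h v' w + c), ?_⟩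
    have h3 := congrArg (l • ·) h2
    simp only [smul_add, smul_sub, smul_smul, hl, one_smul] at h3
    linear_combination (norm := module) h3
  have hll : l = l2 := by
    obtain ⟨r, hr⟩ := perp e2 f2 D.pair2 (right_mem hF e e2) l2 hl2 hse2 e D.pair1.ee
      (h_comm_zero hF D.e2e)
    rw [hse] at hr
    have := congrArg (fun x => h x f) hr
    simpa [h_add_left, h_smul_left, D.pair1.ef, D.e2f] using this
  have hperp : ∀ w, h w e = 0 → h w e2 = 0 → suVal s *ᵥ w = l • w := by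
    intro w hw1 hw2
    obtain ⟨r, hr⟩ := perp e f D.pair1 (left_mem hF e e2) l hl hse w hw1 hw2
    obtain ⟨r', hr'⟩ := perp e2 f2 D.pair2 (right_mem hF e e2) l2 hl2 hse2 w hw1 hw2
    rw [← hll, hr, add_right_inj] at hr'
    have := congrArg (fun x => h x f) hr'
    simp [h_smul_left, D.pair1.ef, D.e2f] at this
    rw [hr, this, zero_smul, add_zero]
  have hcl : cj l ≠ 0 := fun h0 => by rw [h0, mul_zero] at hl; exact zero_ne_one hl
  obtain ⟨M, hM⟩ : ∃ M : Mn, M = cj l • suVal s := ⟨_, rfl⟩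
  have hMform : ∀ x y, h (M *ᵥ x) (M *ᵥ y) = h x y := fun x y => by
    rw [hM, Matrix.smul_mulVec, Matrix.smul_mulVec, h_smul_left, h_smul_right hF, cj_cj, su_form]
    linear_combination (h x y) * hl
  have hMperp : ∀ w, h w e = 0 → h w e2 = 0 → M *ᵥ w = w := fun w h1 h2 => by
    rw [hM, Matrix.smul_mulVec, hperp w h1 h2, smul_smul, mul_comm, hl, one_smul]
  have hMe : M *ᵥ e = e := hMperp e D.pair1.ee (h_comm_zero hF D.e2e)
  have hMe2 : M *ᵥ e2 = e2 := hMperp e2 D.e2e D.pair2.ee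
  have hdet : M.det = 1 := by
    obtain ⟨i⟩ : Nonempty (Fin n) := (Function.ne_iff.1 D.pair1.ne_zero).nonempty
    haveI : Nonempty (Fin n) := ⟨i⟩
    haveI : CharP Mn p := inferInstance
    have h2 : (M - 1) * (M - 1) = 0 := by
      refine Matrix.ext_iff_mulVec.2 fun x => ?_
      rw [← Matrix.mulVec_mulVec, Matrix.zero_mulVec, Matrix.sub_mulVec, Matrix.sub_mulVec,
        Matrix.one_mulVec, Matrix.one_mulVec, sub_eq_zero]
      refine hMperp _ ?_ ?_
      · rw [h_sub_left]; nth_rewrite 1 [← hMe]; rw [hMform, sub_self]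
      · rw [h_sub_left]; nth_rewrite 1 [← hMe2]; rw [hMform, sub_self]
    have h3 : M ^ p = 1 := by
      have := pow_eq_zero_of_le (Fact.out : p.Prime).two_le (show (M - 1) ^ 2 = 0 by rw [sq]; exact h2)
      rwa [sub_pow_char_of_commute p (Commute.one_right M), one_pow, sub_eq_zero] at this
    have h4 : M.det ^ p = 1 := by rw [← Matrix.det_pow, h3, Matrix.det_one]
    refine sub_eq_zero.1 (pow_eq_zero_iff (Fact.out : p.Prime).ne_zero |>.1 ?_)
    rw [sub_pow_char_of_commute p (Commute.one_right _), h4, one_pow, sub_self]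
  refine ⟨⟨⟨M, hdet⟩, hMform⟩, ⟨hMe, hMe2, fun x h1 h2 => ?_⟩, l, ?_⟩
  · show M *ᵥ x - x ∈ _
    rw [hMperp x h1 h2, sub_self]; exact zero_mem _
  · show suVal s = l • M
    rw [hM, smul_smul, hl, one_smul]

end Cfsg.Agent.Fus.UnitN
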