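import Mathlib

/-! A concrete field with eight elements, `a₀ + a₁ x + a₂ x²` being written in binary, with `x³ = x + 1`. -/

set_option autoImplicit false
set_option maxRecDepth 100000

namespace Cfsg.Agent.Fus

/-- The field with eight elements. -/
inductive F8 where
  | e0 | e1 | e2 | e3 | e4 | e5 | e6 | e7
  deriving DecidableEq

namespace F8

/-- The binary code. -/
def toNat : F8 → ℕ
  | e0 => 0 | e1 => 1 | e2 => 2 | e3 => 3 | e4 => 4 | e5 => 5 | e6 => 6 | e7 => 7

/-- The element with a binary code. -/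
def ofNum : ℕ → F8
  | 1 => e1 | 2 => e2 | 3 => e3 | 4 => e4 | 5 => e5 | 6 => e6 | 7 => e7 | _ => e0

instance : Fintype F8 where
  elems := {e0, e1, e2, e3, e4, e5, e6, e7}
  complete x := by cases x <;> decide

instance : Zero F8 := ⟨e0⟩
instance : One F8 := ⟨e1⟩
instance : Neg F8 := ⟨fun x => x⟩
instance : Add F8 := ⟨fun a b => ofNum (Nat.xor a.toNat b.toNat)⟩
instance : Mul F8 := ⟨fun a b => ofNum ([0, 0, 0, 0, 0, 0, 0, 0, 0, 1, 2, 3, 4, 5, 6, 7, 0, 2, 4, 6, 3, 1, 7, 5, 0, 3, 6, 5, 7, 4, 1, 2, 0, 4, 3, 7, 6, 2, 5, 1, 0, 5, 1, 4, 2, 7, 3, 6, 0, 6, 7, 1, 5, 3, 2, 4, 0, 7, 5, 2, 1, 6, 4, 3].getD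
  (8 * a.toNat + b.toNat) 0)⟩
instance : Inv F8 := ⟨fun
  | e0 => e0 | e1 => e1 | e2 => e5 | e3 => e6 | e4 => e7 | e5 => e2 | e6 => e3 | e7 => e4⟩

instance : Field F8 :=
  Field.ofMinimalAxioms F8 (by decide +kernel) (by decide +kernel) (by decide +kernel) (by decide +kernel)
    (by decide +kernel) (by decide +kernel) (by decide +kernel) (by decide +kernel) (by decide +kernel)
    ⟨e0, e1, by decide⟩

theorem card_eq : Fintype.card F8 = 8 := rfl

/-- The Frobenius automorphism. -/
def frob : F8 →+* F8 where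
  toFun x := x * x
  map_one' := by decide +kernel
  map_mul' := by decide +kernel
  map_zero' := by decide +kernel
  map_add' := by decide +kernel

theorem frob_three : ∀ x : F8, frob (frob (frob x)) = x := by decide +kernel

theorem frob_fixed : ∀ x : F8, frob x = x → x = 0 ∨ x = 1 := by decide +kernel

end F8

end Cfsg.Agent.Fus
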