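import Cfsg.Agent.Lib.Transfer.MaxClass

/-!
# The nonabelian groups of order eight

Such a group is dihedral or quaternion.
-/

set_option autoImplicit false

namespace Cfsg.Agent.Fus

/-- A nonabelian group of order eight is dihedral or quaternion. -/
theorem dihedral_or_quaternion_of_card_eight {H : Type*} [Group H] [Finite H] (h8 : Nat.card H = 8)
    (hna : ¬ ∀ a b : H, a * b = b * a) :
    Nonempty (H ≃* DihedralGroup 4) ∨ Nonempty (H ≃* QuaternionGroup 2) := by
  obtain ⟨a, ha⟩ : ∃ a : H, a * a ≠ 1 := by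
    by_contra hno
    push Not at hno
    refine hna fun a b => ?_
    have hi : ∀ c : H, c⁻¹ = c := fun c => inv_eq_of_mul_eq_one_left (hno c)
    rw [← hi (a * b), mul_inv_rev, hi a, hi b]
  have hle : ∀ c : H, orderOf c ≠ 8 := by
    intro c hc
    refine hna fun s t => ?_
    have htop : Subgroup.zpowers c = ⊤ := Subgroup.eq_top_of_card_eq _ (by rw [Nat.card_zpowers, hc, h8])
    obtain ⟨i, rfl⟩ := Subgroup.mem_zpowers_iff.1 (htop ▸ Subgroup.mem_top s)
    obtain ⟨j, rfl⟩ := Subgroup.mem_zpowers_iff.1 (htop ▸ Subgroup.mem_top t)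
    rw [← zpow_add, ← zpow_add, add_comm]
  have ha4 : orderOf a = 4 := by
    obtain ⟨i, hi, he⟩ := (Nat.dvd_prime_pow Nat.prime_two (m := 3)).1 (h8 ▸ orderOf_dvd_natCard a)
    rcases i with _ | _ | _ | _ | i
    · have he0 : orderOf a = 1 := by simpa using he
      exact absurd (by rw [orderOf_eq_one_iff.1 he0, one_mul]) ha
    · have he2 : orderOf a = 2 := by simpa using he
      exact absurd (by rw [← pow_two, ← he2, pow_orderOf_eq_one]) ha
    · simpa using he
    · exact absurd (by simpa using he) (hle a)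
    · omega
  have hidx : (Subgroup.zpowers a).index = 2 := by
    have := (Subgroup.zpowers a).card_mul_index
    rw [Nat.card_zpowers, ha4, h8] at this
    omega
  have hpow : ∀ s : H, s ∈ Subgroup.zpowers a → ∃ i < 4, a ^ i = s := by
    intro s hs
    obtain ⟨i, hi⟩ := (isOfFinOrder_of_finite a).mem_powers_iff_mem_zpowers.2 hs
    refine ⟨i % 4, Nat.mod_lt _ (by norm_num), ?_⟩
    rw [← ha4, pow_mod_orderOf]
    exact hi
  obtain ⟨x, hxa⟩ : ∃ x : H, x * a ≠ a * x := by
    by_contra hno
    push Not at hno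
    obtain ⟨y, hy⟩ : ∃ y : H, y ∉ Subgroup.zpowers a := by
      by_contra hall
      push Not at hall
      rw [show Subgroup.zpowers a = ⊤ from eq_top_iff.2 fun y _ => hall y, Subgroup.index_top] at hidx
      omega
    refine hna fun s t => ?_
    have hc : ∀ g : H, Commute g a := hno
    have hy1 : ∀ g : H, Commute g y := fun g => by
      by_cases hg : g ∈ Subgroup.zpowers a
      · obtain ⟨i, rfl⟩ := Subgroup.mem_zpowers_iff.1 hg
        exact ((hc y).symm.zpow_left i)
      · obtain ⟨i, hi⟩ := Subgroup.mem_zpowers_iff.1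
          ((Subgroup.mul_mem_iff_of_index_two hidx).2 (iff_of_false hg hy) : g * y ∈ Subgroup.zpowers a)
        rw [show g = a ^ i * y⁻¹ by rw [hi]; group]
        exact ((hc y).symm.zpow_left i).mul_left (Commute.refl y).inv_left
    by_cases hg : t ∈ Subgroup.zpowers a
    · obtain ⟨i, rfl⟩ := Subgroup.mem_zpowers_iff.1 hg
      exact ((hc s).zpow_right i).eq
    · obtain ⟨i, hi⟩ := Subgroup.mem_zpowers_iff.1
        ((Subgroup.mul_mem_iff_of_index_two hidx).2 (iff_of_false hg hy) : t * y ∈ Subgroup.zpowers a)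
      rw [show t = a ^ i * y⁻¹ by rw [hi]; group]
      exact (((hc s).zpow_right i).mul_right (hy1 s).inv_right).eq
  have hx : x ∉ Subgroup.zpowers a := fun hm => by
    obtain ⟨i, rfl⟩ := Subgroup.mem_zpowers_iff.1 hm
    exact hxa ((Commute.refl a).zpow_left i).eq
  have hN : (Subgroup.zpowers a).Normal := Subgroup.normal_of_index_eq_two hidx
  have hinv : x * a * x⁻¹ = a⁻¹ := by
    obtain ⟨i, hi, hie⟩ := hpow _ (hN.conj_mem a (Subgroup.mem_zpowers a) x)
    have ho : orderOf (x * a * x⁻¹) = 4 := by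
      rw [← ha4]; exact orderOf_injective (MulAut.conj x).toMonoidHom (MulAut.conj x).injective a
    interval_cases i
    · rw [← hie, pow_zero, orderOf_one] at ho; omega
    · rw [pow_one] at hie; exact absurd (mul_inv_eq_iff_eq_mul.1 hie.symm) hxa
    · rw [← hie] at ho
      have h2 : (a ^ 2) ^ 2 = 1 := by
        rw [← pow_mul, show 2 * 2 = orderOf a by rw [ha4], pow_orderOf_eq_one]
      have := Nat.le_of_dvd two_pos (orderOf_dvd_of_pow_eq_one h2)
      omega
    · rw [← hie, eq_comm, inv_eq_iff_mul_eq_one, ← pow_succ',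
        show 3 + 1 = orderOf a by rw [ha4], pow_orderOf_eq_one]
  obtain ⟨i, hi, hie⟩ := hpow (x * x)
    ((Subgroup.mul_mem_iff_of_index_two hidx).2 Iff.rfl)
  have hcx : x * a ^ i = a ^ i * x := by rw [hie, mul_assoc]
  interval_cases i
  · exact Or.inl (Transfer.MaxClass.nonempty_dihedral (by norm_num) ha4 hidx hx (by rw [← hie, pow_zero]) hinv)
  · exact absurd (by simpa using hcx) hxa
  · exact Or.inr (Transfer.MaxClass.nonempty_quaternion (by norm_num) (by rw [ha4]) hidx hx hie.symm hinv)
  · refine absurd ?_ hxa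
    have h3 : a ^ 3 = a⁻¹ := eq_inv_of_mul_eq_one_left (by
      rw [← pow_succ, show 3 + 1 = orderOf a by rw [ha4], pow_orderOf_eq_one])
    rw [h3] at hcx
    have h4 : Commute x a⁻¹ := hcx
    exact (Commute.inv_right_iff.1 h4).eq

end Cfsg.Agent.Fus
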