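import Mathlib
import Cfsg.Prelude.Def_CaseTheorems

/-!
The commuting graph of four-subgroups and the 2-generated core.
-/

set_option autoImplicit false
set_option linter.style.haveILetI false

namespace Cfsg.Agent.Fus.FourGraph

variable {G : Type*} [Group G]

/-- Commuting four-subgroups. -/
def Adj (A B : Subgroup G) : Prop := IsKleinFour A ∧ IsKleinFour B ∧ ∀ a ∈ A, ∀ b ∈ B, a * b = b * a

theorem adj_symm {A B : Subgroup G} (h : Adj A B) : Adj B A :=
  ⟨h.2.1, h.1, fun b hb a ha => (h.2.2 a ha b hb).symm⟩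

theorem reach_symm {A B : Subgroup G} (h : Relation.ReflTransGen Adj A B) :
    Relation.ReflTransGen Adj B A := by
  induction h with
  | refl => exact .refl
  | tail _ hbc ih => exact ih.head (adj_symm hbc)

theorem isKleinFour_map {H : Type*} [Group H] (f : G →* H) (hf : Function.Injective f)
    {A : Subgroup G} (hA : IsKleinFour A) : IsKleinFour (A.map f) where
  card_four := by rw [Subgroup.card_map_of_injective hf]; exact hA.card_four
  exponent_two := by
    rw [← Monoid.exponent_eq_of_mulEquiv (Subgroup.equivMapOfInjective A f hf)]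
    exact hA.exponent_two

theorem reach_map {H : Type*} [Group H] (f : G →* H) (hf : Function.Injective f) {A B : Subgroup G}
    (h : Relation.ReflTransGen Adj A B) : Relation.ReflTransGen Adj (A.map f) (B.map f) := by
  refine h.lift (fun X : Subgroup G => X.map f) ?_
  rintro X Y ⟨hX, hY, hc⟩
  refine ⟨isKleinFour_map f hf hX, isKleinFour_map f hf hY, ?_⟩
  rintro _ ⟨a, ha, rfl⟩ _ ⟨b, hb, rfl⟩
  rw [← map_mul, hc a ha b hb, map_mul]

theorem isPGroup_klein {A : Subgroup G} (hA : IsKleinFour A) : IsPGroup 2 A :=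
  IsPGroup.of_card (n := 2) (by rw [hA.card_four]; norm_num)

theorem not_prankLE_of_klein {A : Subgroup G} (hA : IsKleinFour A) {Q : Subgroup G} (h : A ≤ Q) :
    ¬ Cfsg.PRankLE 2 1 Q := by
  intro hQ
  have hsq : ∀ x : A, x ^ 2 = 1 := fun x => by
    rw [← hA.exponent_two]; exact Monoid.pow_exponent_eq_one x
  have := hQ (A.subgroupOf Q) ⟨⟨fun a b => Subtype.ext (Subtype.ext ?_)⟩⟩ fun a ha => ?_
  · rw [Nat.card_congr (Subgroup.subgroupOfEquivOfLe h).toEquiv, hA.card_four] at this
    norm_num at this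
  · exact congrArg Subtype.val
      (mul_comm_of_exponent_two hA.exponent_two (⟨(a.1 : G), a.2⟩ : A) ⟨(b.1 : G), b.2⟩) |>.trans rfl
  · exact Subtype.ext (congrArg Subtype.val (hsq ⟨_, ha⟩) :)

theorem exists_klein_le [Finite G] {Q : Subgroup G} (h : ¬ Cfsg.PRankLE 2 1 Q) :
    ∃ A : Subgroup G, IsKleinFour A ∧ A ≤ Q := by
  simp only [Cfsg.PRankLE, not_forall, not_le] at h
  obtain ⟨A, -, hA2, hcard⟩ := h
  haveI : Fact (Nat.Prime 2) := ⟨Nat.prime_two⟩
  have hp : IsPGroup 2 A := fun x => ⟨1, Subtype.ext (by rw [pow_one]; exact hA2 x x.2)⟩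
  obtain ⟨k, hk⟩ := hp.exists_card_eq
  have h2k : 2 ≤ k := by
    by_contra hlt
    interval_cases k <;> omega
  obtain ⟨B, hB⟩ := Sylow.exists_subgroup_card_pow_prime (G := A) 2 (n := 2)
    (by rw [hk]; exact pow_dvd_pow 2 h2k)
  have hKB : IsKleinFour B := by
    refine ⟨by rw [hB]; norm_num, Nat.dvd_antisymm (Monoid.exponent_dvd_of_forall_pow_eq_one
      fun x => Subtype.ext (Subtype.ext (hA2 _ x.1.2))) ?_⟩
    haveI : Nontrivial B := Finite.one_lt_card_iff_nontrivial.1 (by rw [hB]; norm_num)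
    obtain ⟨x, hx⟩ := exists_ne (1 : B)
    have : orderOf x = 2 := orderOf_eq_prime (Subtype.ext (Subtype.ext (hA2 _ x.1.2))) hx
    exact this ▸ Monoid.order_dvd_exponent x
  refine ⟨(B.map A.subtype).map Q.subtype, isKleinFour_map _ Q.subtype_injective
    (isKleinFour_map _ A.subtype_injective hKB), Subgroup.map_subtype_le _⟩

theorem not_prankLE_map [Finite G] {Q : Subgroup G} (h : ¬ Cfsg.PRankLE 2 1 Q) (g : G) :
    ¬ Cfsg.PRankLE 2 1 (Q.map (MulAut.conj g).toMonoidHom) := by
  obtain ⟨A, hA, hAQ⟩ := exists_klein_le h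
  exact not_prankLE_of_klein (isKleinFour_map (MulAut.conj g).toMonoidHom (MulAut.conj g).injective hA)
    (Subgroup.map_mono hAQ)

theorem map_conj_map (A : Subgroup G) (g h : G) :
    (A.map (MulAut.conj h).toMonoidHom).map (MulAut.conj g).toMonoidHom =
      A.map (MulAut.conj (g * h)).toMonoidHom := by
  rw [Subgroup.map_map]
  congr 1
  ext x
  simp [mul_assoc]

variable (S : Sylow 2 G)

/-- The 2-generated core. -/
def core : Subgroup G := ⨆ Q : {Q : Subgroup G // Q ≤ (S : Subgroup G) ∧ ¬ Cfsg.PRankLE 2 1 Q},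
  Subgroup.normalizer ((Q : Subgroup G) : Set G)

variable {S}

theorem normalizer_le_core {Q : Subgroup G} (h1 : Q ≤ (S : Subgroup G))
    (h2 : ¬ Cfsg.PRankLE 2 1 Q) : Subgroup.normalizer (Q : Set G) ≤ core S :=
  le_iSup (fun Q : {Q : Subgroup G // Q ≤ (S : Subgroup G) ∧ ¬ Cfsg.PRankLE 2 1 Q} =>
    Subgroup.normalizer ((Q : Subgroup G) : Set G)) ⟨Q, h1, h2⟩

theorem conj_normalizer_le {Q : Subgroup G} {g : G} (hg : g ∈ Subgroup.normalizer (Q : Set G)) :
    Q.map (MulAut.conj g).toMonoidHom = Q := by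
  apply le_antisymm
  · rintro _ ⟨x, hx, rfl⟩
    exact (Subgroup.mem_normalizer_iff.1 hg x).1 hx
  · intro x hx
    refine ⟨g⁻¹ * x * g, ?_, by simp [mul_assoc]⟩
    refine (Subgroup.mem_normalizer_iff.1 hg _).2 ?_
    simpa [mul_assoc] using hx

theorem sylow_smul (g : G) (T : Sylow 2 G) :
    ((g • T : Sylow 2 G) : Subgroup G) = (T : Subgroup G).map (MulAut.conj g).toMonoidHom := by
  ext x
  rfl

/-- A larger intersection inside a bigger 2-group. -/
theorem exists_lt_le [Finite G] {Q P : Subgroup G} (hP : IsPGroup 2 P) (h : Q < P) :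
    Q < P ⊓ Subgroup.normalizer (Q : Set G) := by
  haveI : Fact (Nat.Prime 2) := ⟨Nat.prime_two⟩
  refine lt_of_le_of_ne (le_inf h.le Subgroup.le_normalizer) fun e => ?_
  haveI := hP.isNilpotent
  have hne : Q.subgroupOf P ≠ ⊤ := fun ht => h.not_ge (Subgroup.subgroupOf_eq_top.1 ht)
  obtain ⟨x, hx, hxQ⟩ := SetLike.exists_of_lt
    (Group.normalizerCondition_of_isNilpotent (Q.subgroupOf P) (lt_top_iff_ne_top.2 hne))
  refine hxQ (Subgroup.mem_subgroupOf.2 (e.ge ⟨x.2, ?_⟩))
  refine Subgroup.mem_normalizer_iff.2 fun y => ?_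
  constructor
  · intro hy
    exact Subgroup.mem_subgroupOf.1
      ((Subgroup.mem_normalizer_iff.1 hx ⟨y, h.le hy⟩).1 (Subgroup.mem_subgroupOf.2 hy))
  · intro hy
    have hyP : y ∈ P := by
      have := P.mul_mem (P.mul_mem (P.inv_mem x.2) (h.le hy)) x.2
      simpa [mul_assoc] using this
    exact Subgroup.mem_subgroupOf.1
      ((Subgroup.mem_normalizer_iff.1 hx ⟨y, hyP⟩).2 (Subgroup.mem_subgroupOf.2 hy))

/-- Sylow subgroups meeting `S` in rank two are conjugate to it inside the core. -/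
theorem exists_core_conj [Finite G] (hS : ¬ Cfsg.PRankLE 2 1 (S : Subgroup G)) :
    ∀ (d : ℕ) (T : Sylow 2 G),
      Nat.card (S : Subgroup G) - Nat.card ↥((S : Subgroup G) ⊓ T) ≤ d →
      ¬ Cfsg.PRankLE 2 1 ↥((S : Subgroup G) ⊓ T) → ∃ m ∈ core S, T = m • S := by
  haveI : Fact (Nat.Prime 2) := ⟨Nat.prime_two⟩
  intro d
  induction d using Nat.strong_induction_on with
  | _ d ih =>
    intro T hd hrk
    set Q := (S : Subgroup G) ⊓ (T : Subgroup G) with hQ
    by_cases heq : (S : Subgroup G) ≤ T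
    · exact ⟨1, one_mem _, by rw [one_smul]; exact Sylow.ext (S.is_maximal' T.isPGroup' heq)⟩
    have hQS : Q < (S : Subgroup G) :=
      lt_of_le_of_ne inf_le_left fun e => heq (e ▸ inf_le_right)
    have hQT : Q < (T : Subgroup G) := lt_of_le_of_ne inf_le_right fun e => heq
      (S.is_maximal' T.isPGroup' ?_ ▸ le_rfl)
    swap
    · have hcard : Nat.card (S : Subgroup G) = Nat.card (T : Subgroup G) := by
        rw [Sylow.card_eq_multiplicity, Sylow.card_eq_multiplicity]
      have hTS : (T : Subgroup G) ≤ S := e ▸ inf_le_left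
      exact (Subgroup.eq_of_le_of_card_ge hTS hcard.le).ge
    have hNS := exists_lt_le S.isPGroup' hQS
    have hNT := exists_lt_le T.isPGroup' hQT
    set N := Subgroup.normalizer (Q : Set G) with hN
    obtain ⟨P₁, hP₁⟩ := ((S.isPGroup'.to_le (inf_le_left : (S : Subgroup G) ⊓ N ≤ S)).comap_subtype
      (K := N)).exists_le_sylow
    obtain ⟨P₂, hP₂⟩ := ((T.isPGroup'.to_le (inf_le_left : (T : Subgroup G) ⊓ N ≤ T)).comap_subtype
      (K := N)).exists_le_sylow
    obtain ⟨x, hx⟩ := MulAction.exists_smul_eq N P₂ P₁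
    obtain ⟨T₁, hT₁⟩ := (P₁.isPGroup'.map N.subtype).exists_le_sylow
    have hS1 : (S : Subgroup G) ⊓ N ≤ (S : Subgroup G) ⊓ T₁ := le_inf inf_le_left fun y hy =>
      hT₁ ⟨⟨y, hy.2⟩, hP₁ (Subgroup.mem_subgroupOf.2 hy), rfl⟩
    have hlt1 : Nat.card Q < Nat.card ↥((S : Subgroup G) ⊓ T₁) := by
      refine lt_of_lt_of_le ?_ (Subgroup.card_le_of_le hS1)
      exact Set.Finite.card_lt_card (Set.toFinite _) hNS
    have hQle : ∀ R : Subgroup G, Q ≤ R → ¬ Cfsg.PRankLE 2 1 R := fun R hR => by
      obtain ⟨A, hA, hAQ⟩ := exists_klein_le hrk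
      exact not_prankLE_of_klein hA (hAQ.trans hR)
    have hsize : Nat.card Q < Nat.card (S : Subgroup G) :=
      Set.Finite.card_lt_card (Set.toFinite _) hQS
    obtain ⟨m, hm, hm'⟩ := ih _ (by omega) T₁ le_rfl
      (hQle _ (hNS.le.trans hS1))
    set T₂ : Sylow 2 G := (m⁻¹ * (x : G)) • T with hT₂
    have hQfix : ∀ y ∈ N, Q.map (MulAut.conj y).toMonoidHom = Q := fun y hy =>
      conj_normalizer_le hy
    have hT2 : ((T : Subgroup G) ⊓ N).map (MulAut.conj (m⁻¹ * (x : G))).toMonoidHom ≤
        (S : Subgroup G) ⊓ T₂ := by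
      rintro _ ⟨y, hy, rfl⟩
      refine ⟨?_, ?_⟩
      · have h1 : x * (⟨y, hy.2⟩ : N) * x⁻¹ ∈ (P₁ : Subgroup N) := by
          rw [← hx]
          exact ⟨⟨y, hy.2⟩, hP₂ (Subgroup.mem_subgroupOf.2 hy), rfl⟩
        have h2 : (x : G) * y * (x : G)⁻¹ ∈ (T₁ : Subgroup G) := hT₁ ⟨_, h1, rfl⟩
        rw [hm', sylow_smul] at h2
        obtain ⟨s, hs, hse⟩ := h2
        show (MulAut.conj (m⁻¹ * (x : G))) y ∈ (S : Subgroup G)
        have hse' : m * s * m⁻¹ = x * y * (x : G)⁻¹ := hse
        rw [MulAut.conj_apply, show m⁻¹ * (x : G) * y * (m⁻¹ * (x : G))⁻¹ =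
          m⁻¹ * ((x : G) * y * (x : G)⁻¹) * m by group, ← hse']
        rw [show m⁻¹ * (m * s * m⁻¹) * m = s by group]
        exact hs
      · exact ⟨y, hy.1, rfl⟩
    have hlt2 : Nat.card Q < Nat.card ↥((S : Subgroup G) ⊓ T₂) := by
      refine lt_of_lt_of_le ?_ (Subgroup.card_le_of_le hT2)
      rw [Subgroup.card_map_of_injective (MulAut.conj _).injective]
      exact Set.Finite.card_lt_card (Set.toFinite _) hNT
    have hrk2 : ¬ Cfsg.PRankLE 2 1 ↥((S : Subgroup G) ⊓ T₂) := by
      obtain ⟨A, hA, hAQ⟩ := exists_klein_le hrk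
      exact not_prankLE_of_klein (isKleinFour_map (MulAut.conj (m⁻¹ * (x : G))).toMonoidHom
        (MulAut.conj (m⁻¹ * (x : G))).injective hA) ((Subgroup.map_mono (hAQ.trans hNT.le)).trans hT2)
    obtain ⟨m', hm'm, hm''⟩ := ih _ (by omega) T₂ le_rfl hrk2
    refine ⟨(m⁻¹ * (x : G))⁻¹ * m', mul_mem (inv_mem (mul_mem (inv_mem hm) ?_)) hm'm, ?_⟩
    · exact normalizer_le_core inf_le_left hrk x.2
    · rw [mul_smul, ← hm'', hT₂, inv_smul_smul]

theorem not_prankLE_sylow [Finite G] (h2 : ¬ Cfsg.PRankLE 2 1 G) (S : Sylow 2 G) :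
    ¬ Cfsg.PRankLE 2 1 (S : Subgroup G) := by
  obtain ⟨A, hA, -⟩ := exists_klein_le (Q := (⊤ : Subgroup G)) fun h => h2 fun B hB hB2 => by
    haveI := hB
    refine (Nat.card_congr (Subgroup.equivMapOfInjective B (Subgroup.topEquiv (G := G)).symm.toMonoidHom
      (Subgroup.topEquiv (G := G)).symm.injective).toEquiv).trans_le (h _ inferInstance ?_)
    rintro _ ⟨b, hb, rfl⟩
    rw [← map_pow, hB2 b hb, map_one]
  haveI : Fact (Nat.Prime 2) := ⟨Nat.prime_two⟩
  obtain ⟨T, hT⟩ := (isPGroup_klein hA).exists_le_sylow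
  obtain ⟨g, hg⟩ := MulAction.exists_smul_eq G T S
  refine not_prankLE_of_klein (isKleinFour_map (MulAut.conj g).toMonoidHom (MulAut.conj g).injective hA) ?_
  rw [← hg, sylow_smul]
  exact Subgroup.map_mono hT

theorem reach_of_le [Finite G] (hS : Cfsg.IsFourConnected (S : Subgroup G)) {U V : Subgroup G}
    (hU : IsKleinFour U) (hV : IsKleinFour V) (hUS : U ≤ (S : Subgroup G))
    (hVS : V ≤ (S : Subgroup G)) : Relation.ReflTransGen Adj U V := by
  have key : ∀ W : Subgroup G, IsKleinFour W → W ≤ (S : Subgroup G) →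
      IsKleinFour (W.subgroupOf (S : Subgroup G)) ∧
      (W.subgroupOf (S : Subgroup G)).map (S : Subgroup G).subtype = W := fun W hW hWS => by
    refine ⟨⟨?_, ?_⟩, Subgroup.map_subgroupOf_eq_of_le hWS⟩
    · rw [Nat.card_congr (Subgroup.subgroupOfEquivOfLe hWS).toEquiv]; exact hW.card_four
    · rw [Monoid.exponent_eq_of_mulEquiv (Subgroup.subgroupOfEquivOfLe hWS)]; exact hW.exponent_two
  obtain ⟨hU', eU⟩ := key U hU hUS
  obtain ⟨hV', eV⟩ := key V hV hVS
  have := reach_map _ (S : Subgroup G).subtype_injective (hS _ _ hU' hV')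
  rwa [eU, eV] at this

/-- The graph is connected exactly if the core is everything. -/
theorem connected_iff [Finite G] (h2 : ¬ Cfsg.PRankLE 2 1 G) (S : Sylow 2 G)
    (hS : Cfsg.IsFourConnected (S : Subgroup G)) : Cfsg.IsFourConnected G ↔ core S = ⊤ := by
  haveI : Fact (Nat.Prime 2) := ⟨Nat.prime_two⟩
  have hSr := not_prankLE_sylow h2 S
  obtain ⟨U₀, hU₀, hU₀S⟩ := exists_klein_le hSr
  constructor
  · intro hG
    refine (Subgroup.eq_top_iff' _).2 fun g => ?_
    have hUg := isKleinFour_map (MulAut.conj g).toMonoidHom (MulAut.conj g).injective hU₀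
    have hmain : ∀ W : Subgroup G, Relation.ReflTransGen Adj U₀ W →
        ∀ T : Sylow 2 G, W ≤ T → ∃ m ∈ core S, T = m • S := by
      intro W hW
      induction hW with
      | refl =>
        intro T hT
        exact exists_core_conj hSr _ T le_rfl (not_prankLE_of_klein hU₀ (le_inf hU₀S hT))
      | @tail V W _ hVW ih =>
        intro T hT
        obtain ⟨hV, hW', hc⟩ := hVW
        have hVn : V ≤ Subgroup.normalizer (W : Set G) := fun v hv =>
          Subgroup.mem_normalizer_iff.2 fun y => by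
            constructor
            · intro hy
              rwa [hc v hv y hy, mul_inv_cancel_right]
            · intro hy
              have h' := hc v hv _ hy
              rw [inv_mul_cancel_right] at h'
              have e : v * y * v⁻¹ = y := mul_left_cancel h'
              rwa [← e]
        obtain ⟨T', hT'⟩ := ((isPGroup_klein hV).to_sup_of_normal_right'
          (isPGroup_klein hW') hVn).exists_le_sylow
        obtain ⟨m, hm, rfl⟩ := ih T' (le_sup_left.trans hT')
        obtain ⟨m', hm', he⟩ := exists_core_conj hSr _ (m⁻¹ • T) le_rfl (by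
          refine not_prankLE_of_klein (isKleinFour_map (MulAut.conj m⁻¹).toMonoidHom
            (MulAut.conj m⁻¹).injective hW') (le_inf ?_ ?_)
          · have h' := le_sup_right.trans hT'
            rw [sylow_smul] at h'
            refine (Subgroup.map_mono h').trans (le_of_eq ?_)
            rw [map_conj_map, inv_mul_cancel, map_one]
            exact Subgroup.map_id _
          · rw [sylow_smul]; exact Subgroup.map_mono hT)
        exact ⟨m * m', mul_mem hm hm', by rw [mul_smul, ← he, smul_inv_smul]⟩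
    obtain ⟨m, hm, he⟩ := hmain _ (hG U₀ _ hU₀ hUg) (g • S)
      (by rw [sylow_smul]; exact Subgroup.map_mono hU₀S)
    have hmem : m⁻¹ * g ∈ Subgroup.normalizer ((S : Subgroup G) : Set G) := by
      refine Sylow.smul_eq_iff_mem_normalizer.1 ?_
      rw [mul_smul, he, inv_smul_smul]
    simpa using mul_mem hm (normalizer_le_core le_rfl hSr hmem)
  · intro htop
    let C : Subgroup G :=
      { carrier := {g | Relation.ReflTransGen Adj U₀ (U₀.map (MulAut.conj g).toMonoidHom)}
        one_mem' := by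
          show Relation.ReflTransGen Adj U₀ _
          rw [map_one]
          convert Relation.ReflTransGen.refl using 1
          exact Subgroup.map_id _
        mul_mem' := fun {a b} ha hb => by
          show Relation.ReflTransGen Adj U₀ _
          rw [← map_conj_map]
          exact ha.trans (reach_map _ (MulAut.conj a).injective hb)
        inv_mem' := fun {a} ha => by
          show Relation.ReflTransGen Adj U₀ _
          have := reach_symm (reach_map (MulAut.conj a⁻¹).toMonoidHom (MulAut.conj a⁻¹).injective ha)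
          rw [map_conj_map, inv_mul_cancel, map_one] at this
          convert this using 1
          exact (Subgroup.map_id _).symm }
    have hle : core S ≤ C := iSup_le fun ⟨Q, hQS, hQ⟩ => fun g hg => by
      obtain ⟨U, hU, hUQ⟩ := exists_klein_le hQ
      have h0 := reach_of_le hS hU₀ hU hU₀S (hUQ.trans hQS)
      have hUg' := isKleinFour_map (MulAut.conj g).toMonoidHom (MulAut.conj g).injective hU
      have h1 : Relation.ReflTransGen Adj U (U.map (MulAut.conj g).toMonoidHom) :=
        reach_of_le hS hU hUg' (hUQ.trans hQS)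
          (((Subgroup.map_mono hUQ).trans (conj_normalizer_le hg).le).trans hQS)
      exact (h0.trans h1).trans
        (reach_symm (reach_map _ (MulAut.conj g).injective h0))
    have hall : ∀ V : Subgroup G, IsKleinFour V → Relation.ReflTransGen Adj U₀ V := by
      intro V hV
      obtain ⟨T, hT⟩ := (isPGroup_klein hV).exists_le_sylow
      obtain ⟨g, hg⟩ := MulAction.exists_smul_eq G T S
      have hV' := isKleinFour_map (MulAut.conj g).toMonoidHom (MulAut.conj g).injective hV
      have h1 := reach_of_le hS hU₀ hV' hU₀S (by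
        rw [← hg, sylow_smul]; exact Subgroup.map_mono hT)
      have h2' := reach_map (MulAut.conj g⁻¹).toMonoidHom (MulAut.conj g⁻¹).injective h1
      rw [map_conj_map, inv_mul_cancel, map_one] at h2'
      have hg' : g⁻¹ ∈ C := hle (htop ▸ Subgroup.mem_top _)
      refine Relation.ReflTransGen.trans hg' ?_
      convert h2' using 1
      exact (Subgroup.map_id _).symm
    exact fun U V hU hV => (reach_symm (hall U hU)).trans (hall V hV)

end Cfsg.Agent.Fus.FourGraph
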