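import Cfsg.Agent.Lib.Fus.FreeFunctorTwo

/-!
Consequences of a functor at the prime two.
-/

set_option autoImplicit false
set_option linter.style.haveILetI false
set_option linter.unusedSectionVars false

open scoped Classical

namespace Cfsg.Agent.Fus.FreeFunctor

open Subgroup FusionSystem

universe u

variable (Φ : FreeFunctor.{u} 2) {Ω : Type u} [Group Ω] {S : Subgroup Ω} [Finite S]

include Φ

/-- Systems with automizers free of `S₃` are constrained. -/
theorem constrained_of_three (hS : IsPGroup 2 S) (F : FusionSystem S) (hF : F.IsSaturated 2)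
    (h3 : ∀ U : Subgroup Ω, U ≤ S → ¬ Involves (Equiv.Perm (Fin 3)) ↥(F.autGroup U)) :
    F.IsConstrained 2 := Φ.isConstrained hS hF (not_qdWitness_of_three h3)

/-- The characteristic subgroup normal in every system free of `S₄`. -/
theorem exists_normal_four (hS : IsPGroup 2 S) (hS1 : S ≠ ⊥) :
    ∃ W : Subgroup Ω, W ≤ S ∧ W ≠ ⊥ ∧ (W.subgroupOf S).Characteristic ∧
      ∀ F : FusionSystem S, F.IsSaturated 2 → F.IsSectionFree 2 (Equiv.Perm (Fin 4)) →
        F.IsNormal W :=
  ⟨_, Subgroup.map_subtype_le _, Φ.map_ne_bot hS hS1, Φ.map_characteristic hS,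
    fun _ hF h4 => Φ.isNormal hS hF (not_qdWitness_of_four hS hF h4)⟩

/-- A free functor for every prime. -/
theorem exists_prime (p : ℕ) [Fact p.Prime] : Nonempty (FreeFunctor.{u} p) := by
  by_cases hp : p = 2
  · subst hp; exact ⟨Φ⟩
  · exact ⟨zjFreeFunctor hp⟩

/-- The characteristic subgroup of a free system, for every prime. -/
theorem exists_normal_free (p : ℕ) [Fact p.Prime] (hS : IsPGroup p S) (hS1 : S ≠ ⊥)
    (F : FusionSystem S) (hF : F.IsSaturated p)
    (hfree : ∀ Q : Subgroup Ω, F.IsCentric Q → F.IsFullyNormalized Q →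
      ∀ E : FusionSystem (FusionSystem.normalizerIn S Q), F.IsNormalizerSystem Q E →
        ∀ (G : Type u) (_ : Group G) (ι : ↥(FusionSystem.normalizerIn S Q) →* G),
          E.IsModel p G ι → ¬ Cfsg.Involves ↥(Cfsg.qd p) G) :
    ∃ W : Subgroup Ω, W ≤ S ∧ W ≠ ⊥ ∧ (W.subgroupOf S).Characteristic ∧ F.IsNormal W := by
  obtain ⟨Ψ⟩ := exists_prime Φ p
  have hw : ¬ QdWitness F p := (isSectionFree_qd_iff hS hF).1
    fun Q hQn hQc N hN L i ι hmod => hfree Q hQc hQn N hN L i ι hmod
  exact ⟨_, Subgroup.map_subtype_le _, Ψ.map_ne_bot hS hS1, Ψ.map_characteristic hS,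
    Ψ.isNormal hS hF hw⟩

/-- Free systems are realizable and solvable. -/
theorem realizable_solvable (p : ℕ) [Fact p.Prime] (hS : IsPGroup p S) (F : FusionSystem S)
    (hF : F.IsSaturated p) (hfree : F.IsSectionFree p ↥(Cfsg.qd p)) :
    F.IsRealizable p ∧ F.IsSolvableSystem := by
  obtain ⟨Ψ⟩ := exists_prime Φ p
  have hw : ¬ QdWitness F p := (isSectionFree_qd_iff hS hF).1 hfree
  exact ⟨Ψ.isRealizable hS hF hw, Ψ.isSolvableSystem hS hF hw⟩

end Cfsg.Agent.Fus.FreeFunctor
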