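import Cfsg.Agent.Lib.Fus.StellMain
import Cfsg.Agent.Lib.Fus.FreeFunctorApps

/-!
The functor for the prime two, and control of fusion by its normaliser.
-/

set_option autoImplicit false
set_option linter.unusedSectionVars false
set_option linter.style.haveILetI false

namespace Cfsg.Agent.Fus.Stell

open Subgroup FusionSystem Cfsg.Agent.Block.SFour
open scoped Pointwise commutatorElement

universe u v

theorem core_top (L : Type u) [Group L] [Finite L] :
    core (⊤ : Subgroup L) = Cfsg.pCore 2 L := by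
  haveI : Fact (Nat.Prime 2) := ⟨Nat.prime_two⟩
  haveI : (Cfsg.pCore 2 L).Normal := Grp.pCore_isNormal
  refine le_antisymm (Grp.le_pCore ?_ (core_isPGroup _))
    (le_core le_top Grp.pCore_isPGroup (Subgroup.normalizer_eq_top (H := Cfsg.pCore 2 L)).ge)
  exact Subgroup.normalizer_eq_top_iff.mp (top_le_iff.mp (le_normalizer_core (⊤ : Subgroup L)))

theorem map_top_eq {L : Type u} [Group L] [Finite L] (P : Subgroup L) :
    (wSub (⊤ : Subgroup P)).map P.subtype = wSub P := by
  rw [wSub_map P.subtype_injective, ← MonoidHom.range_eq_map, Subgroup.range_subtype]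

/-- The value is normal in a constrained group without a section `S₄`. -/
theorem wSub_normal_of_free {L : Type u} [Group L] [Finite L] (P : Sylow 2 L)
    (hC : Subgroup.centralizer (Cfsg.pCore 2 L : Set L) ≤ Cfsg.pCore 2 L)
    (hfree : ¬ Cfsg.Involves (Equiv.Perm (Fin 4)) L) : (wSub (P : Subgroup L)).Normal := by
  haveI : Fact (Nat.Prime 2) := ⟨Nat.prime_two⟩
  have hnt : NoThree L := noThree_of_sfourFree hC hfree
  refine Subgroup.normalizer_eq_top_iff.mp (top_le_iff.mp
    (wSub_normal _ ⊤ (P : Subgroup L) rfl (hnt.subgroup ⊤)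
      ⟨le_top, P.isPGroup', by rw [Subgroup.relIndex_top_right]; exact P.not_dvd_index⟩ ?_))
  rw [core_top, top_inf_eq]
  exact hC

/-- The functor at the prime two. -/
noncomputable def functor : FreeFunctor.{u} 2 where
  W Q _ := wSub (⊤ : Subgroup Q)
  ne_bot Q _ _ hQ hn h := by
    haveI := hn
    have hbot : omegaZ (⊤ : Subgroup Q) = ⊥ :=
      le_bot_iff.mp (h ▸ omegaZ_le_wSub (⊤ : Subgroup Q))
    exact omegaZ_ne_bot (hQ.to_subgroup ⊤) top_ne_bot hbot
  map_eq Q R _ _ _ hQ φ := by
    haveI : Finite R := Finite.of_equiv Q φ.toEquiv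
    rw [wSub_map (f := φ.toMonoidHom) φ.injective,
      Subgroup.map_top_of_surjective φ.toMonoidHom φ.surjective]
  normal L _ _ P hc hinv := by
    obtain ⟨e⟩ := exists_qd_two_equiv
    rw [map_top_eq]
    exact wSub_normal_of_free P hc fun h => hinv ((involves_congr e).2 h)

theorem functor_W (Q : Type u) [Group Q] : (functor.{u}).W Q = wSub (⊤ : Subgroup Q) := rfl

variable {G : Type u} [Group G] [Finite G]

theorem map_functor (S : Subgroup G) :
    ((functor.{u}).W S).map S.subtype = wSub S := map_top_eq S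

theorem characteristic_top (S : Type u) [Group S] [Finite S] :
    (wSub (⊤ : Subgroup S)).Characteristic :=
  Subgroup.characteristic_iff_map_eq.2 fun φ => by
    rw [wSub_map (f := φ.toMonoidHom) φ.injective,
      Subgroup.map_top_of_surjective φ.toMonoidHom φ.surjective]

theorem omegaOne_center_le (S : Subgroup G) :
    Cfsg.omegaOne 2 ((Subgroup.center S).map S.subtype) ≤ wSub S := by
  refine ((Subgroup.closure_le _).mpr ?_).trans (omegaZ_le_wSub S)
  rintro _ ⟨⟨z, hz, rfl⟩, h2⟩
  exact ⟨⟨z.2, h2⟩, fun s hs => congrArg Subtype.val (Subgroup.mem_center_iff.mp hz ⟨s, hs⟩)⟩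

theorem wSub_le_omegaOne (S : Subgroup G) :
    wSub S ≤ Cfsg.omegaOne 2 (Cfsg.centerThompsonOf 2 S) := by
  intro x hx
  refine Subgroup.subset_closure ⟨⟨?_, ?_⟩, (good_wSub S).el.2 x hx⟩
  · obtain ⟨A, hA⟩ := Invol.JComp.exists_maxEl S
    exact hA.le_thompsonEl (wSub_le_maxEl hA hx)
  · have hle : Cfsg.thompsonSubgroupOf 2 S ≤ Subgroup.centralizer (wSub S : Set G) :=
      Invol.thompsonEl_le_of fun A hA a ha => Subgroup.mem_centralizer_iff.mpr fun w hw =>
        hA.2.1.1 w (wSub_le_maxEl hA hw) a ha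
    exact Subgroup.le_centralizer_iff.mp hle hx

/-- The normaliser controls strong fusion. -/
theorem controls_fusion (hfree : ¬ Cfsg.Involves (Equiv.Perm (Fin 4)) G) (S : Sylow 2 G)
    {A : Set G} (hA : A ⊆ (S : Subgroup G)) :
    Cfsg.ControlsStrongFusionOf (Subgroup.normalizer (wSub (S : Subgroup G) : Set G))
      (S : Subgroup G) A := by
  haveI : Fact (Nat.Prime 2) := ⟨Nat.prime_two⟩
  have hreal : (groupFusionSystem (S : Subgroup G)).IsRealizedBy (S : Subgroup G).subtype := by
    refine ⟨(S : Subgroup G).subtype_injective, fun P hP φ hφ => ⟨?_, ?_⟩⟩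
    · rintro ⟨-, -, g, hg⟩
      exact ⟨g, hg⟩
    · rintro ⟨g, hg⟩
      exact ⟨hP, hφ, g, hg⟩
  obtain ⟨e⟩ := exists_qd_two_equiv
  have hw : ¬ QdWitness (groupFusionSystem (S : Subgroup G)) 2 := fun h => hfree ((involves_congr e).1
    ((involves_iff_qdWitness S.isPGroup' hreal S (Subgroup.range_subtype _).symm).2 h))
  have hn := (functor.{u}).isNormal S.isPGroup' (isSaturated_group S) hw
  rw [map_functor] at hn
  obtain ⟨-, hn⟩ := isNormal_iff.1 hn
  refine ⟨hA, fun g hg => ?_⟩
  have hcl : ∀ x ∈ Subgroup.closure A, g * x * g⁻¹ ∈ (S : Subgroup G) := by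
    intro x hx
    exact (Subgroup.closure_le ((S : Subgroup G).comap (MulAut.conj g).toMonoidHom)).mpr
      (fun a ha => hg ⟨a, ha, rfl⟩) hx
  have hf : IsMap (groupFusionSystem (S : Subgroup G)) (Subgroup.closure A)
      (fun x => g * x * g⁻¹) :=
    isMap_group.2 ⟨(Subgroup.closure_le _).mpr hA, g, fun x hx => ⟨rfl, hcl x hx⟩⟩
  obtain ⟨f, hf', hfe, hfW⟩ := hn _ _ hf
  obtain ⟨-, x, hx⟩ := isMap_group.1 hf'
  refine ⟨x, ?_, fun a ha => ?_⟩
  · rw [Grp.mem_normalizer_iff_smul, ← Grp.map_conj_eq_smul]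
    conv_rhs => rw [← hfW]
    exact (fimg_conj_eq_map x).symm.trans
      (fimg_congr fun w hw' => ((hx w (le_sup_right (a := Subgroup.closure A) hw')).1).symm)
  · have ha' := Subgroup.subset_closure ha
    exact ((hfe a ha').symm.trans (hx a (le_sup_left (b := wSub (S : Subgroup G)) ha')).1)

end Cfsg.Agent.Fus.Stell
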