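import Mathlib
import Cfsg.Agent.Lib.Grp.Frattini

/-!
Yoshida's lemma: a character of a maximal subgroup whose product over the conjugates of some
element is nontrivial gives a wreath product `C_p ≀ C_p` as homomorphic image; and the consequence
for transfers from proper subgroups.
-/

set_option autoImplicit false

namespace Cfsg.Agent.Fus

open Cfsg

section Shift

variable {p : ℕ} [hp : Fact p.Prime]

/-- A shift invariant subgroup of `F_p ^ p` with a vector of nonzero sum is everything. -/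
theorem eq_top_of_shift (W : Submodule (ZMod p) (ZMod p → ZMod p))
    (hW : ∀ v ∈ W, (fun j => v (j + 1)) ∈ W) {v₀ : ZMod p → ZMod p} (hv : v₀ ∈ W)
    (hsum : ∑ j, v₀ j ≠ 0) : W = ⊤ := by
  let σ : Module.End (ZMod p) (ZMod p → ZMod p) := LinearMap.funLeft (ZMod p) (ZMod p) (· + 1)
  let Δ : Module.End (ZMod p) (ZMod p → ZMod p) := σ - 1
  have hσn : ∀ (n : ℕ) (v : ZMod p → ZMod p) (j : ZMod p), (σ ^ n) v j = v (j + n) := by
    intro n
    induction n with
    | zero => intro v j; simp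
    | succ n ih =>
      intro v j
      rw [pow_succ, Module.End.mul_apply, ih]
      show v (j + n + 1) = _
      push_cast
      rw [add_assoc]
  have hσp : σ ^ p = 1 := LinearMap.ext fun v => funext fun j => by
    rw [hσn, ZMod.natCast_self, add_zero]; rfl
  have hΔp : Δ ^ p = 0 := by
    have h : ((Polynomial.X - 1 : Polynomial (ZMod p)) ^ p) = Polynomial.X ^ p - 1 := by
      rw [sub_pow_char, one_pow]
    have h2 := congrArg (Polynomial.aeval σ) h
    rwa [map_pow, map_sub, map_sub, Polynomial.aeval_X, map_one, map_pow, Polynomial.aeval_X, hσp,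
      sub_self] at h2
  by_contra htop
  obtain ⟨L, hL0, hLW⟩ := Submodule.exists_le_ker_of_lt_top W (lt_top_iff_ne_top.2 htop)
  have hΔW : ∀ (k : ℕ), ∀ v ∈ W, (Δ ^ k) v ∈ W := by
    intro k
    induction k with
    | zero => intro v hv; simpa using hv
    | succ k ih =>
      intro v hv
      rw [pow_succ, Module.End.mul_apply]
      exact ih _ (W.sub_mem (hW v hv) hv)
  classical
  have hex : ∃ k : ℕ, L ∘ₗ (Δ ^ k) = 0 := ⟨p, by rw [hΔp, LinearMap.comp_zero]⟩
  have hspec := Nat.find_spec hex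
  obtain ⟨k, hk⟩ : ∃ k, Nat.find hex = k + 1 := by
    refine ⟨Nat.find hex - 1, (Nat.sub_add_cancel ?_).symm⟩
    refine Nat.one_le_iff_ne_zero.2 fun h => hL0 ?_
    rw [h, pow_zero] at hspec
    exact LinearMap.ext fun v => LinearMap.congr_fun hspec v
  rw [hk] at hspec
  obtain ⟨M, hM⟩ : ∃ M : (ZMod p → ZMod p) →ₗ[ZMod p] ZMod p, M = L ∘ₗ (Δ ^ k) := ⟨_, rfl⟩
  have hM0 : M ≠ 0 := by
    rw [hM]
    exact Nat.find_min hex (by omega)
  have hMσ : ∀ v, M (σ v) = M v := fun v => by
    have h := LinearMap.congr_fun hspec v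
    rw [LinearMap.comp_apply, pow_succ, Module.End.mul_apply, LinearMap.sub_apply, map_sub, map_sub,
      LinearMap.zero_apply, sub_eq_zero] at h
    rw [hM]
    exact h
  have hc : ∀ j : ZMod p, M (Pi.single j 1) = M (Pi.single 0 1) := by
    intro j
    have key : ∀ n : ℕ, M (Pi.single (n : ZMod p) 1) = M (Pi.single 0 1) := by
      intro n
      induction n with
      | zero => simp
      | succ n ih =>
        rw [← ih, ← hMσ]
        congr 1
        funext i
        show (Pi.single (((n + 1 : ℕ)) : ZMod p) (1 : ZMod p) : ZMod p → ZMod p) (i + 1) = _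
        simp only [Pi.single_apply, Nat.cast_add, Nat.cast_one, add_left_inj]
    simpa using key j.val
  have hv0 : M v₀ = (∑ j, v₀ j) * M (Pi.single 0 1) := by
    conv_lhs => rw [pi_eq_sum_univ' v₀]
    rw [map_sum, Finset.sum_mul]
    refine Finset.sum_congr rfl fun j _ => ?_
    rw [map_smul, hc, smul_eq_mul]
  have h0 : M v₀ = 0 := by
    rw [hM, LinearMap.comp_apply]
    exact hLW (hΔW k _ hv)
  rw [h0, zero_eq_mul] at hv0
  refine hM0 ?_
  refine (Pi.basisFun (ZMod p) (ZMod p)).ext fun j => ?_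
  rw [Pi.basisFun_apply, hc, hv0.resolve_left hsum, LinearMap.zero_apply]

end Shift

universe u

variable {p : ℕ} [hp : Fact p.Prime] {G : Type u} [Group G] [Finite G]

theorem card_sylow_perm_sq (W : Sylow p (Equiv.Perm (Fin (p ^ 2)))) :
    Nat.card (W : Subgroup (Equiv.Perm (Fin (p ^ 2)))) = p ^ (p + 1) := by
  rw [W.card_eq_multiplicity, Nat.card_perm, Nat.card_fin, Nat.factorization_def _ hp.out, sq,
    padicValNat_factorial_mul]
  congr 1
  have h := padicValNat_factorial_mul (p := p) 1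
  rw [mul_one, Nat.factorial_one, padicValNat.one, zero_add] at h
  rw [h, add_comm]

/-- Yoshida's lemma. -/
theorem exists_wreath_image (hG : IsPGroup p G) (M : Subgroup G) [M.Normal] (hMi : M.index = p)
    (χ : M →* Multiplicative (ZMod p)) {y x : G} (hy : y ∉ M) (hx : x ∈ M)
    (hne : ∏ i ∈ Finset.range p, χ ⟨(y ^ i)⁻¹ * x * y ^ i,
      by simpa using Subgroup.Normal.conj_mem inferInstance x hx (y ^ i)⁻¹⟩ ≠ 1) :
    ∃ (W : Sylow p (Equiv.Perm (Fin (p ^ 2))))
      (f : G →* (W : Subgroup (Equiv.Perm (Fin (p ^ 2))))), Function.Surjective f := by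
  have hconj : ∀ (m : M) (g : G), g⁻¹ * (m : G) * g ∈ M := fun m g => by
    simpa using Subgroup.Normal.conj_mem inferInstance (m : G) m.2 g⁻¹
  let χi : ℕ → M →* Multiplicative (ZMod p) := fun i => χ.comp (MonoidHom.mk'
    (fun m => (⟨(y ^ i)⁻¹ * (m : G) * y ^ i, hconj m _⟩ : M))
    fun a b => Subtype.ext (by push_cast; group))
  have hyp : y ^ p ∈ M := by
    rw [← hMi]
    exact M.pow_index_mem y
  have hper : ∀ (i : ℕ) (m : M), χi (i + p) m = χi i m := fun i m => by
    show χ ⟨(y ^ (i + p))⁻¹ * (m : G) * y ^ (i + p), _⟩ = χ ⟨(y ^ i)⁻¹ * (m : G) * y ^ i, _⟩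
    rw [show (⟨(y ^ (i + p))⁻¹ * (m : G) * y ^ (i + p), hconj m _⟩ : M) =
      ⟨y ^ p, hyp⟩⁻¹ * ⟨(y ^ i)⁻¹ * (m : G) * y ^ i, hconj m _⟩ * ⟨y ^ p, hyp⟩ from
      Subtype.ext (by push_cast; rw [pow_add]; group), map_mul, map_mul, map_inv,
      mul_right_comm, inv_mul_cancel, one_mul]
  have hmod : ∀ (i : ℕ) (m : M), χi (i % p) m = χi i m := fun i m => by
    conv_rhs => rw [← Nat.mod_add_div i p]
    induction i / p with
    | zero => rw [mul_zero, add_zero]
    | succ k ih => rw [Nat.mul_succ, ← add_assoc, hper, ih]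
  let Φ : Additive M →+ (ZMod p → ZMod p) :=
    { toFun := fun m j => (χi j.val m.toMul).toAdd
      map_zero' := funext fun j => by
        show (χi j.val 1).toAdd = 0
        rw [map_one]; rfl
      map_add' := fun a b => funext fun j => by
        show (χi j.val (a.toMul * b.toMul)).toAdd = _
        rw [map_mul]; rfl }
  let W := AddSubgroup.toZModSubmodule p Φ.range
  have hmemW : ∀ v, v ∈ W ↔ v ∈ Φ.range := fun v => Iff.rfl
  have htop : W = ⊤ := by
    refine eq_top_of_shift W (fun v hv => ?_) (v₀ := Φ (Additive.ofMul ⟨x, hx⟩))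
      ((hmemW _).2 ⟨_, rfl⟩) ?_
    · obtain ⟨m, rfl⟩ := (hmemW v).1 hv
      refine (hmemW _).2 ⟨Additive.ofMul ⟨y⁻¹ * (m.toMul : G) * y, hconj _ y⟩, funext fun j => ?_⟩
      show (χi j.val _).toAdd = (χi (j + 1).val _).toAdd
      have hp1 : Fact (1 < p) := ⟨hp.out.one_lt⟩
      rw [ZMod.val_add, ZMod.val_one, hmod]
      congr 1
      show χ ⟨(y ^ j.val)⁻¹ * (y⁻¹ * (m.toMul : G) * y) * y ^ j.val, _⟩ =
        χ ⟨(y ^ (j.val + 1))⁻¹ * (m.toMul : G) * y ^ (j.val + 1), _⟩
      congr 1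
      refine Subtype.ext ?_
      show (y ^ j.val)⁻¹ * (y⁻¹ * (m.toMul : G) * y) * y ^ j.val =
        (y ^ (j.val + 1))⁻¹ * (m.toMul : G) * y ^ (j.val + 1)
      rw [pow_succ']
      group
    · intro h
      refine hne (Multiplicative.toAdd.injective ?_)
      rw [toAdd_prod, toAdd_one, ← h]
      refine Finset.sum_bij (fun i _ => (i : ZMod p)) (fun _ _ => Finset.mem_univ _)
        (fun a ha b hb e => ?_) (fun j _ => ⟨j.val, Finset.mem_range.2 (ZMod.val_lt j),
          ZMod.natCast_zmod_val j⟩) fun i hi => ?_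
      · rwa [ZMod.natCast_eq_natCast_iff', Nat.mod_eq_of_lt (Finset.mem_range.1 ha),
          Nat.mod_eq_of_lt (Finset.mem_range.1 hb)] at e
      · show _ = (χi (i : ZMod p).val ⟨x, hx⟩).toAdd
        rw [ZMod.val_natCast, hmod]
        rfl
  have hsurj : Function.Surjective Φ := fun v => (hmemW v).1 (htop ▸ Submodule.mem_top)
  have hχ : Function.Surjective χ := fun a => by
    obtain ⟨m, hm⟩ := hsurj (Pi.single 0 a.toAdd)
    refine ⟨⟨(y ^ 0)⁻¹ * (m.toMul : G) * y ^ 0, hconj _ _⟩, Multiplicative.toAdd.injective ?_⟩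
    have h := congrFun hm 0
    rw [Pi.single_eq_same] at h
    rw [← h]
    show _ = (χi (0 : ZMod p).val _).toAdd
    rw [ZMod.val_zero]
    rfl
  let K : Subgroup G := χ.ker.map M.subtype
  have hKM : K ≤ M := Subgroup.map_subtype_le _
  have hKi : K.index = p ^ 2 := by
    rw [Subgroup.index_map_subtype, hMi, Subgroup.index_ker, MonoidHom.range_eq_top.2 hχ,
      Subgroup.card_top, Nat.card_eq_fintype_card, Fintype.card_multiplicative, ZMod.card, sq]
  haveI : Finite (G ⧸ K) := inferInstance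
  have hcardK : Nat.card (G ⧸ K) = p ^ 2 := by rw [← Subgroup.index_eq_card, hKi]
  let φ : G →* Equiv.Perm (Fin (p ^ 2)) :=
    (Finite.equivFinOfCardEq hcardK).permCongrHom.toMonoidHom.comp (MulAction.toPermHom G (G ⧸ K))
  have hkerφ : φ.ker = K.normalCore := by
    rw [Subgroup.normalCore_eq_ker]
    ext g
    simp [φ, MonoidHom.mem_ker]
  let N : Subgroup G := φ.ker
  have hNK : N ≤ K := by
    show φ.ker ≤ K
    rw [hkerφ]
    exact K.normalCore_le
  have hcore : ∀ m : M, (m : G) ∈ N → Φ (Additive.ofMul m) = 0 := fun m hm => funext fun j => by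
    obtain ⟨m', hm', he⟩ := hNK (show (y ^ j.val)⁻¹ * (m : G) * y ^ j.val ∈ N by
      simpa using Subgroup.Normal.conj_mem (inferInstance : N.Normal) _ hm (y ^ j.val)⁻¹)
    show (χi j.val m).toAdd = 0
    rw [show χi j.val m = χ m' from congrArg χ (Subtype.ext he.symm), MonoidHom.mem_ker.1 hm']
    rfl
  let Φm : M →* Multiplicative (ZMod p → ZMod p) := MonoidHom.mk'
    (fun m => Multiplicative.ofAdd (Φ (Additive.ofMul m)))
    fun a b => by rw [ofMul_mul, map_add, ofAdd_add]
  have hrel : p ^ p ≤ N.relIndex M := by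
    have h1 : (N.subgroupOf M) ≤ Φm.ker := fun m hm =>
      MonoidHom.mem_ker.2 (Multiplicative.toAdd.injective (hcore m (Subgroup.mem_subgroupOf.1 hm)))
    have h2 : Φm.ker.index = p ^ p := by
      rw [Subgroup.index_ker, MonoidHom.range_eq_top.2, Subgroup.card_top,
        Nat.card_eq_fintype_card, Fintype.card_multiplicative, Fintype.card_fun, ZMod.card]
      intro v
      obtain ⟨m, hm⟩ := hsurj v.toAdd
      exact ⟨m.toMul, Multiplicative.toAdd.injective hm⟩
    rw [← h2]
    exact Nat.le_of_dvd (Nat.pos_of_ne_zero Subgroup.index_ne_zero_of_finite)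
      (Subgroup.index_dvd_of_le h1)
  have hrange : p ^ (p + 1) ≤ Nat.card φ.range := by
    rw [← Subgroup.index_ker, ← Subgroup.relIndex_mul_index (hNK.trans hKM), hMi, pow_succ]
    exact Nat.mul_le_mul_right p hrel
  obtain ⟨W', hW'⟩ := (hG.of_surjective φ.rangeRestrict φ.rangeRestrict_surjective).exists_le_sylow
  have heq : φ.range = (W' : Subgroup (Equiv.Perm (Fin (p ^ 2)))) :=
    Subgroup.eq_of_le_of_card_ge hW' (by rw [card_sylow_perm_sq]; exact hrange)
  exact ⟨W', (MulEquiv.subgroupCongr heq).toMonoidHom.comp φ.rangeRestrict,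
    (MulEquiv.subgroupCongr heq).surjective.comp φ.rangeRestrict_surjective⟩

section Transfer

open MulAction

variable {A : Type*} [CommGroup A]

open scoped Classical in
/-- The value of `δ` at the conjugate of `x` belonging to a fixed coset. -/
noncomputable def fixVal (P : Subgroup G) (δ : P →* A) (x : G) (q : G ⧸ P) : A :=
  if h : q.out⁻¹ * x * q.out ∈ P then δ ⟨_, h⟩ else 1

theorem fixVal_mk (P : Subgroup G) (δ : P →* A) (x g : G) (h : g⁻¹ * x * g ∈ P) :
    fixVal P δ x (g : G ⧸ P) = δ ⟨_, h⟩ := by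
  classical
  obtain ⟨u, hu⟩ := QuotientGroup.mk_out_eq_mul P g
  have he : (g : G ⧸ P).out⁻¹ * x * (g : G ⧸ P).out = (u : G)⁻¹ * (g⁻¹ * x * g) * u := by
    rw [hu]; group
  have h' : (g : G ⧸ P).out⁻¹ * x * (g : G ⧸ P).out ∈ P := by
    rw [he]; exact P.mul_mem (P.mul_mem (P.inv_mem u.2) h) u.2
  rw [fixVal, dif_pos h', show (⟨_, h'⟩ : P) = u⁻¹ * ⟨_, h⟩ * u from Subtype.ext he, map_mul,
    map_mul, map_inv, mul_right_comm, inv_mul_cancel, one_mul]

theorem fixVal_mk_of_notMem (P : Subgroup G) (δ : P →* A) (x g : G) (h : g⁻¹ * x * g ∉ P) :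
    fixVal P δ x (g : G ⧸ P) = 1 := by
  classical
  obtain ⟨u, hu⟩ := QuotientGroup.mk_out_eq_mul P g
  rw [fixVal, dif_neg]
  intro h'
  refine h ?_
  have h2 := P.mul_mem (P.mul_mem u.2 h') (P.inv_mem u.2)
  rw [hu] at h2
  convert h2 using 1
  group

theorem smul_eq_iff (P : Subgroup G) (x : G) (q : G ⧸ P) :
    x • q = q ↔ q.out⁻¹ * x * q.out ∈ P := by
  conv_lhs => rw [← QuotientGroup.out_eq' q]
  rw [MulAction.Quotient.smul_coe, smul_eq_mul, eq_comm, QuotientGroup.eq, mul_assoc]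

/-- The transfer evaluated through the fixed cosets, when the longer orbits do not count. -/
theorem transfer_eq_fixVal (P : Subgroup G) [Fintype (G ⧸ P)] (δ : P →* A) (x : G)
    (hsmall : ∀ (g : G) (n : ℕ) (h : g⁻¹ * x ^ n * g ∈ P), orderOf (x ^ n) < orderOf x →
      δ ⟨_, h⟩ = 1) :
    δ.transfer x = ∏ q, fixVal P δ x q := by
  classical
  haveI : Fintype (orbitRel.Quotient (Subgroup.zpowers x) (G ⧸ P)) := Fintype.ofFinite _
  rw [MonoidHom.transfer_eq_prod_quotient_orbitRel_zpowers_quot]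
  have hone : ∀ q : orbitRel.Quotient (Subgroup.zpowers x) (G ⧸ P),
      Function.minimalPeriod (x • ·) q.out ≠ 1 →
      δ ⟨q.out.out⁻¹ * x ^ Function.minimalPeriod (x • ·) q.out * q.out.out,
        QuotientGroup.out_conj_pow_minimalPeriod_mem P x q.out⟩ = 1 := by
    intro q hq
    refine hsmall _ _ _ ?_
    have hper : Function.IsPeriodicPt (x • ·) (orderOf x) q.out := by
      show (x • ·)^[orderOf x] q.out = q.out
      rw [smul_iterate, pow_orderOf_eq_one]
      exact one_smul G _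
    have hd := hper.minimalPeriod_dvd
    have h0 := Nat.pos_of_dvd_of_pos hd (orderOf_pos x)
    rw [orderOf_pow_of_dvd h0.ne' hd]
    exact Nat.div_lt_self (orderOf_pos x) (by omega)
  have hfix : ∀ z : G ⧸ P, fixVal P δ x z ≠ 1 → x • z = z := fun z hz => by
    rw [smul_eq_iff]
    by_contra h
    exact hz (by rw [fixVal, dif_neg h])
  refine Finset.prod_bij_ne_one (fun q _ _ => q.out) (fun _ _ _ => Finset.mem_univ _)
    (fun a _ _ b _ _ e => Quotient.out_injective e) (fun z _ hz => ?_) fun q _ hq => ?_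
  · have hzf := hfix z hz
    have horb : (Quotient.mk'' z : orbitRel.Quotient (Subgroup.zpowers x) (G ⧸ P)).out = z := by
      obtain ⟨⟨w, hw⟩, hwe⟩ := Quotient.exact (Quotient.out_eq
        (Quotient.mk'' z : orbitRel.Quotient (Subgroup.zpowers x) (G ⧸ P)))
      rw [← hwe]
      show w • z = z
      have hle : Subgroup.zpowers x ≤ stabilizer G z := Subgroup.zpowers_le.2 hzf
      exact hle hw
    refine ⟨Quotient.mk'' z, Finset.mem_univ _, fun h => hz ?_, horb⟩
    rw [fixVal, dif_pos ((smul_eq_iff P x z).1 hzf)]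
    convert h using 3
    rw [horb, Function.minimalPeriod_eq_one_iff_isFixedPt.2 hzf, pow_one]
  · have hn : Function.minimalPeriod (x • ·) q.out = 1 := not_imp_comm.1 (hone q) hq
    rw [fixVal, dif_pos ((smul_eq_iff P x q.out).1
      (Function.minimalPeriod_eq_one_iff_isFixedPt.1 hn))]
    congr 1
    exact Subtype.ext (by simp only [hn, pow_one])

/-- The transfer from a proper subgroup vanishes at `x` if the longer orbits do not count and the
wreath product is not involved. -/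
theorem transfer_eq_one_of_no_wreath (hG : IsPGroup p G)
    (hnw : ¬ ∃ (W : Sylow p (Equiv.Perm (Fin (p ^ 2))))
      (f : G →* (W : Subgroup (Equiv.Perm (Fin (p ^ 2))))), Function.Surjective f)
    (P : Subgroup G) (hP : P ≠ ⊤) (δ : P →* Multiplicative (ZMod p)) (x : G)
    (hsmall : ∀ (g : G) (n : ℕ) (h : g⁻¹ * x ^ n * g ∈ P), orderOf (x ^ n) < orderOf x →
      δ ⟨_, h⟩ = 1) :
    δ.transfer x = 1 := by
  classical
  obtain ⟨M, hM, hPM⟩ := (eq_top_or_exists_le_coatom P).resolve_left hP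
  obtain ⟨hMn, hMi⟩ := Grp.coatom_index_eq_of_pGroup hG hM
  haveI := hMn
  haveI : Fintype (G ⧸ P) := Fintype.ofFinite _
  rw [transfer_eq_fixVal P δ x hsmall]
  by_cases hxM : x ∈ M
  swap
  · refine Finset.prod_eq_one fun q _ => ?_
    rw [fixVal, dif_neg]
    intro h
    refine hxM ?_
    have h2 := hMn.conj_mem _ (hPM h) q.out
    convert h2 using 1
    group
  obtain ⟨y, -, hy⟩ := SetLike.exists_of_lt (lt_top_iff_ne_top.2 hM.1)
  haveI : Fintype (M ⧸ P.subgroupOf M) := Fintype.ofFinite _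
  let δM : P.subgroupOf M →* Multiplicative (ZMod p) :=
    δ.comp (Subgroup.subgroupOfEquivOfLe hPM).toMonoidHom
  have hxi : ∀ i : ℕ, (y ^ i)⁻¹ * x * y ^ i ∈ M := fun i => by
    simpa using hMn.conj_mem x hxM (y ^ i)⁻¹
  have hχ : ∀ i : ℕ, δM.transfer ⟨_, hxi i⟩ = ∏ q, fixVal (P.subgroupOf M) δM ⟨_, hxi i⟩ q := by
    intro i
    refine transfer_eq_fixVal _ _ _ fun g n h hlt => ?_
    have hi : ((⟨_, hxi i⟩ : M) : G) = MulAut.conj (y ^ i)⁻¹ x := by
      rw [MulAut.conj_apply]; group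
    rw [← Subgroup.orderOf_coe, ← Subgroup.orderOf_coe, SubgroupClass.coe_pow, hi, ← map_pow,
      MulEquiv.orderOf_eq, MulEquiv.orderOf_eq] at hlt
    have hval : (y ^ i * (g : G))⁻¹ * x ^ n * (y ^ i * (g : G)) =
        (((g⁻¹ * ⟨_, hxi i⟩ ^ n * g : M)) : G) := by
      push_cast
      rw [show (y ^ i)⁻¹ * x * y ^ i = MulAut.conj (y ^ i)⁻¹ x from hi, ← map_pow,
        MulAut.conj_apply]
      group
    have h1 := hsmall (y ^ i * (g : G)) n (hval ▸ Subgroup.mem_subgroupOf.1 h) hlt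
    rw [← h1]
    exact congrArg δ (Subtype.ext hval.symm)
  have hnorm : ∏ i ∈ Finset.range p, δM.transfer ⟨_, hxi i⟩ = 1 := by
    by_contra h
    exact hnw (exists_wreath_image hG M hMi δM.transfer hy hxM h)
  refine Eq.trans ?_ hnorm
  rw [← Fin.prod_univ_eq_prod_range (fun i => δM.transfer ⟨_, hxi i⟩) p,
    Finset.prod_congr rfl (fun (i : Fin p) _ => hχ i), ← Fintype.prod_prod_type']
  let e : Fin p × (M ⧸ P.subgroupOf M) → G ⧸ P :=
    fun z => ((y ^ (z.1 : ℕ) * ((z.2.out : M) : G) : G) : G ⧸ P)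
  have hpow : ∀ a b : ℕ, a < p → b < p → (y ^ a)⁻¹ * y ^ b ∈ M → a = b := by
    intro a b ha hb h
    have hoy : orderOf (QuotientGroup.mk' M y) = p := by
      refine orderOf_eq_prime ?_ (fun h1 => hy ((QuotientGroup.eq_one_iff y).1 h1))
      rw [← map_pow]
      exact (QuotientGroup.eq_one_iff _).2 (hMi ▸ M.pow_index_mem y)
    have h1 : QuotientGroup.mk' M y ^ a = QuotientGroup.mk' M y ^ b := by
      rw [← map_pow, ← map_pow]
      exact QuotientGroup.eq.2 h
    rw [pow_inj_mod, hoy, Nat.mod_eq_of_lt ha, Nat.mod_eq_of_lt hb] at h1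
    exact h1
  have he : Function.Bijective e := by
    constructor
    · rintro ⟨i, a⟩ ⟨j, b⟩ hab
      have h1 : (y ^ (i : ℕ) * ((a.out : M) : G))⁻¹ * (y ^ (j : ℕ) * ((b.out : M) : G)) ∈ P :=
        QuotientGroup.eq.1 hab
      have h2 : (y ^ (i : ℕ))⁻¹ * y ^ (j : ℕ) ∈ M := by
        have := M.mul_mem (M.mul_mem (a.out : M).2 (hPM h1)) (M.inv_mem (b.out : M).2)
        convert this using 1
        group
      have hij : i = j := Fin.ext (hpow _ _ i.2 j.2 h2)
      subst hij
      refine Prod.ext rfl ?_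
      show a = b
      rw [← QuotientGroup.out_eq' a, ← QuotientGroup.out_eq' b, QuotientGroup.eq,
        Subgroup.mem_subgroupOf]
      convert h1 using 1
      push_cast
      group
    · intro q
      obtain ⟨i, hip, hi⟩ : ∃ i < p, (y ^ i)⁻¹ * q.out ∈ M := by
        have hc : Nat.card (G ⧸ M) = p := by rw [← Subgroup.index_eq_card, hMi]
        have hgen := zpowers_eq_top_of_prime_card (G := G ⧸ M) hc
          (g := QuotientGroup.mk' M y) (fun h => hy ((QuotientGroup.eq_one_iff y).1 h))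
        obtain ⟨n, hn⟩ : ∃ n : ℕ, QuotientGroup.mk' M y ^ n = QuotientGroup.mk' M q.out :=
          mem_powers_iff_mem_zpowers.2 (hgen ▸ Subgroup.mem_top (QuotientGroup.mk' M q.out))
        refine ⟨n % p, Nat.mod_lt _ hp.out.pos, QuotientGroup.eq.1 ?_⟩
        show QuotientGroup.mk' M (y ^ (n % p)) = QuotientGroup.mk' M q.out
        rw [← hn, map_pow, ← hc, pow_mod_natCard]
      obtain ⟨u, hu⟩ := QuotientGroup.mk_out_eq_mul (P.subgroupOf M) ⟨_, hi⟩
      refine ⟨⟨⟨i, hip⟩, ((⟨_, hi⟩ : M) : M ⧸ P.subgroupOf M)⟩, ?_⟩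
      conv_rhs => rw [← QuotientGroup.out_eq' q]
      refine QuotientGroup.eq.2 ?_
      rw [hu]
      have h3 := P.inv_mem (Subgroup.mem_subgroupOf.1 u.2)
      convert h3 using 1
      push_cast
      group
  refine (Fintype.prod_bijective e he _ _ fun z => ?_).symm
  obtain ⟨i, a⟩ := z
  have hval : (y ^ (i : ℕ) * ((a.out : M) : G))⁻¹ * x * (y ^ (i : ℕ) * ((a.out : M) : G)) =
      (((a.out : M)⁻¹ * ⟨_, hxi i⟩ * (a.out : M) : M) : G) := by
    push_cast
    group
  show fixVal (P.subgroupOf M) δM ⟨_, hxi i⟩ a =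
    fixVal P δ x ((y ^ (i : ℕ) * ((a.out : M) : G) : G) : G ⧸ P)
  by_cases h : (a.out : M)⁻¹ * ⟨_, hxi i⟩ * (a.out : M) ∈ P.subgroupOf M
  · rw [fixVal, dif_pos h, fixVal_mk P δ x _ (hval ▸ Subgroup.mem_subgroupOf.1 h)]
    exact congrArg δ (Subtype.ext hval.symm)
  · rw [fixVal, dif_neg h, fixVal_mk_of_notMem]
    rw [hval]
    exact fun h' => h (Subgroup.mem_subgroupOf.2 h')

end Transfer

end Cfsg.Agent.Fus
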