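import Cfsg.Agent.Lib.Fus.FunctorInduction
import Cfsg.Agent.Lib.Fus.QdWitness

/-!
The quotient of a model is constrained, and inherits freeness from the system.
-/

set_option autoImplicit false
set_option linter.style.haveILetI false
set_option linter.unusedSectionVars false

open scoped Classical

namespace Cfsg.Agent.Fus

open Subgroup FusionSystem

universe u

/-- A group without nontrivial elements of order prime to `p` is a `p`-group. -/
theorem isPGroup_of_coprime_trivial {G : Type*} [Group G] [Finite G] {p : ℕ} [Fact p.Prime]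
    (h : ∀ g : G, (orderOf g).Coprime p → g = 1) : IsPGroup p G := fun g => by
  refine ⟨(orderOf g).factorization p, h _ ?_⟩
  have hn : orderOf g ≠ 0 := (orderOf_pos g).ne'
  rw [orderOf_pow_of_dvd (pow_ne_zero _ (Fact.out : p.Prime).ne_zero) (Nat.ordProj_dvd _ _)]
  exact (Nat.coprime_ordCompl Fact.out hn).symm

variable {Ω : Type u} [Group Ω] {R : Subgroup Ω} [Finite R] {E : FusionSystem R} {X : Subgroup Ω}
  {p : ℕ} [Fact p.Prime]

/-- The quotient of a model does not involve `Qd(p)` when the system is free of it. -/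
theorem ModelQuot.not_involves (M : ModelQuot E X p) (hR : IsPGroup p R) (h : ¬ QdWitness E p) :
    ¬ Involves ↥(qd p) M.Q := by
  intro hinv
  obtain ⟨K, R₀, hn, ⟨e⟩⟩ := hinv
  have hs : Invol.IsSectionOf ↥(qd p) M.Q :=
    ⟨K, e.toMonoidHom.comp (QuotientGroup.mk' (R₀.subgroupOf K)),
      e.surjective.comp (QuotientGroup.mk'_surjective _)⟩
  have hker : IsPGroup p M.π.ker := M.ker_π ▸ (hR.to_subgroup _).map M.ι
  let T := M.P.comapOfKerIsPGroup M.π hker
    (by rw [MonoidHom.range_eq_top.2 M.surj]; exact le_top)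
  have hT : (T : Subgroup M.L) = M.ι.range := by
    show (M.P : Subgroup M.Q).comap M.π = _
    rw [M.range_eq, MonoidHom.range_comp, Subgroup.comap_map_eq, sup_eq_left, M.ker_π]
    exact Subgroup.map_le_range _ _
  exact h ((involves_iff_qdWitness hR M.realized T hT).1
    (hs.trans (Invol.IsSectionOf.of_surjective M.π M.surj)).involves)

/-- The quotient of a model by a normal subgroup with `p`-group of automorphisms is constrained. -/
theorem ModelQuot.centralizer_pCore (M : ModelQuot E X p) (hR : IsPGroup p R) (hX : E.IsNormal X)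
    (hXp : IsPGroup p (E.autGroup X)) :
    Subgroup.centralizer (pCore p M.Q : Set M.Q) ≤ pCore p M.Q := by
  haveI := Grp.pCore_isNormal (p := p) (G := M.Q)
  haveI := finite_of_le hX.1
  set U' := (E.core.subgroupOf R).map M.ι with hU'
  set C := (Subgroup.centralizer (pCore p M.Q : Set M.Q)).comap M.π with hC
  set Xi := (X.subgroupOf R).map M.ι with hXi
  haveI : Xi.Normal := hXi ▸ M.ker_π ▸ (inferInstance : M.π.ker.Normal)
  let e : X ≃* Xi := (Subgroup.subgroupOfEquivOfLe hX.1).symm.trans
    ((X.subgroupOf R).equivMapOfInjective M.ι M.realized.1)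
  have he : ∀ x : X, (e x : M.L) = M.ι ⟨x, hX.1 x.2⟩ := fun _ => rfl
  let ρ₀ : M.L →* MulAut X := (MulAut.congr e.symm).toMonoidHom.comp MulAut.conjNormal
  have hρe : ∀ l (x : X), (e (ρ₀ l x) : M.L) = l * e x * l⁻¹ := fun l x => by
    simp [ρ₀, MulAut.congr, MulAut.conjNormal_apply]
  have hρ : ∀ l, ρ₀ l ∈ E.autGroup X := fun l => by
    refine Subgroup.subset_closure ((M.realized.2 X hX.1 _ fun x => hX.1 (ρ₀ l x).2).2
      ⟨l, fun x => ?_⟩)
    exact hρe l x
  have hCp : IsPGroup p C := isPGroup_of_coprime_trivial fun c hco => by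
    have hcX : ∀ x : X, (c : M.L) * e x * (c : M.L)⁻¹ = e x := fun x => by
      set a : E.autGroup X := ⟨ρ₀ c, hρ c⟩ with ha
      obtain ⟨j, hj⟩ := IsPGroup.iff_orderOf.1 hXp a
      have hd : orderOf a ∣ orderOf c := by
        rw [← orderOf_injective (E.autGroup X).subtype Subtype.coe_injective a]
        exact (orderOf_map_dvd (ρ₀.comp C.subtype) c)
      rw [hj] at hd
      have h1 : a = 1 := orderOf_eq_one_iff.1
        (hj.trans ((Nat.Coprime.pow_left j hco.symm).eq_one_of_dvd hd))
      rw [← hρe, show ρ₀ c = 1 from congrArg Subtype.val h1]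
      rfl
    have hcU : (c : M.L) ∈ Subgroup.centralizer (U' : Set M.L) := by
      refine Subgroup.mem_centralizer_iff.2 fun y hy => ?_
      have hd : y⁻¹ * ((c : M.L) * y * (c : M.L)⁻¹) ∈ Xi := by
        rw [hXi, ← M.ker_π, MonoidHom.mem_ker]
        have hπy : M.π y ∈ pCore p M.Q := by
          rw [M.pCore_eq, ← Subgroup.map_map]
          exact ⟨y, hy, rfl⟩
        simp only [map_mul, map_inv]
        rw [← Subgroup.mem_centralizer_iff.1 (Subgroup.mem_comap.1 c.2) _ hπy,
          mul_inv_cancel_right, inv_mul_cancel]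
      set d := y⁻¹ * ((c : M.L) * y * (c : M.L)⁻¹) with hdef
      obtain ⟨x, hx⟩ := e.surjective ⟨d, hd⟩
      have hcd : (c : M.L) * d * (c : M.L)⁻¹ = d := by
        have := hcX x
        rwa [hx] at this
      have hpow : ∀ k : ℕ, (c : M.L) ^ k * y * ((c : M.L) ^ k)⁻¹ = y * d ^ k := fun k => by
        induction k with
        | zero => simp
        | succ k ih =>
          calc (c : M.L) ^ (k + 1) * y * ((c : M.L) ^ (k + 1))⁻¹
              = (c : M.L) * ((c : M.L) ^ k * y * ((c : M.L) ^ k)⁻¹) * (c : M.L)⁻¹ := by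
                rw [pow_succ']; group
            _ = ((c : M.L) * y * (c : M.L)⁻¹) * ((c : M.L) * d * (c : M.L)⁻¹) ^ k := by
                rw [ih, conj_pow]; group
            _ = y * d ^ (k + 1) := by rw [hcd, pow_succ', ← mul_assoc, hdef, mul_inv_cancel_left]
      have hdn : d ^ orderOf c = 1 := by
        have := hpow (orderOf c)
        rw [← SubgroupClass.coe_pow, pow_orderOf_eq_one, OneMemClass.coe_one, one_mul, inv_one,
          mul_one] at this
        exact mul_eq_left.1 this.symm
      obtain ⟨i, hi⟩ := IsPGroup.iff_orderOf.1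
        ((hR.to_subgroup (X.subgroupOf R)).map M.ι) ⟨d, hd⟩
      rw [Subgroup.orderOf_mk] at hi
      have hdvd : orderOf d ∣ orderOf c := orderOf_dvd_of_pow_eq_one hdn
      rw [hi] at hdvd
      have hd1 : d = 1 := orderOf_eq_one_iff.1
        (hi.trans ((Nat.Coprime.pow_left i hco.symm).eq_one_of_dvd hdvd))
      exact mul_inv_eq_iff_eq_mul.1 (inv_mul_eq_one.1 hd1).symm |>.symm
    obtain ⟨i, hi⟩ := IsPGroup.iff_orderOf.1 ((hR.to_subgroup (E.core.subgroupOf R)).map M.ι)
      ⟨(c : M.L), M.centralizer_core hcU⟩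
    rw [Subgroup.orderOf_mk, Subgroup.orderOf_coe] at hi
    have h1 := hco.pow_right i
    rw [← hi, Nat.coprime_self] at h1
    exact orderOf_eq_one_iff.1 h1
  have hCn : C.Normal := inferInstance
  intro q hq
  obtain ⟨c, rfl⟩ := M.surj q
  exact Grp.le_pCore (hCn.map M.π M.surj) (hCp.map M.π) ⟨c, hq, rfl⟩

end Cfsg.Agent.Fus
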