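import Cfsg.Agent.Lib.Fus.ZJTheorem
import Cfsg.Agent.Lib.Fus.FactorSat
import Cfsg.Agent.Lib.Fus.QdWitness
import Cfsg.Agent.Lib.Invol.ThompsonJ
import Cfsg.Agent.S5205

/-!
The centre of the Thompson subgroup as a Glauberman functor, and factor systems of systems
without a `Qd(p)` witness.
-/

set_option autoImplicit false
set_option linter.style.haveILetI false
set_option linter.unusedSectionVars false

open scoped Classical

namespace Cfsg.Agent.Fus

open Subgroup FusionSystem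

universe u v

/-- The centre of the Thompson subgroup. -/
def zjW (Q : Type u) [Group Q] : Subgroup Q :=
  thompsonSubgroupA Q ⊓ Subgroup.centralizer (thompsonSubgroupA Q : Set Q)

theorem map_zjW {Q R : Type u} [Group Q] [Group R] [Finite Q] (φ : Q ≃* R) :
    (zjW Q).map φ.toMonoidHom = zjW R := by
  ext y
  rw [zjW, zjW, ← Invol.map_thompsonSubgroupA φ, Subgroup.map_inf _ _ φ.toMonoidHom φ.injective,
    Subgroup.mem_inf, Subgroup.mem_inf, and_congr_right_iff]
  intro _
  constructor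
  · rintro ⟨x, hx, rfl⟩
    refine Subgroup.mem_centralizer_iff.2 ?_
    rintro _ ⟨j, hj, rfl⟩
    exact congrArg φ (Subgroup.mem_centralizer_iff.1 hx j hj) |> fun h => by simpa using h
  · intro hy
    refine ⟨φ.symm y, Subgroup.mem_centralizer_iff.2 fun j hj => φ.injective ?_,
      φ.apply_symm_apply y⟩
    simpa using Subgroup.mem_centralizer_iff.1 hy (φ j) ⟨j, hj, rfl⟩

theorem zjW_ne_bot {p : ℕ} [Fact p.Prime] {Q : Type u} [Group Q] [Finite Q] (hQ : IsPGroup p Q)
    [Nontrivial Q] : zjW Q ≠ ⊥ := by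
  haveI : Nontrivial (thompsonSubgroupA Q) :=
    (Subgroup.nontrivial_iff_ne_bot _).2 Invol.thompsonSubgroupA_ne_bot
  haveI := (hQ.to_subgroup (thompsonSubgroupA Q)).center_nontrivial
  obtain ⟨z, hz⟩ := exists_ne (1 : Subgroup.center (thompsonSubgroupA Q))
  intro h
  refine hz (Subtype.ext (Subtype.ext ?_))
  have h1 : ((z : thompsonSubgroupA Q) : Q) ∈ zjW Q :=
    ⟨(z : thompsonSubgroupA Q).2, Subgroup.mem_centralizer_iff.2 fun j hj =>
      congrArg Subtype.val (Subgroup.mem_center_iff.1 z.2 ⟨j, hj⟩)⟩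
  rw [h, Subgroup.mem_bot] at h1
  exact h1

theorem centerThompsonAOf_eq_map {G : Type u} [Group G] (P : Subgroup G) :
    centerThompsonAOf P = (zjW P).map P.subtype := by
  rw [zjW, Subgroup.map_inf _ _ _ P.subtype_injective]
  refine le_antisymm (fun x hx => ?_) (fun x hx => ?_)
  · refine Subgroup.mem_inf.2 ⟨hx.1, ?_⟩
    obtain ⟨y, hy, rfl⟩ := hx.1
    exact ⟨y, Subgroup.mem_centralizer_iff.2 fun j hj => Subtype.ext
      (Subgroup.mem_centralizer_iff.1 hx.2 _ ⟨j, hj, rfl⟩), rfl⟩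
  · refine Subgroup.mem_inf.2 ⟨hx.1, ?_⟩
    obtain ⟨y, hy, rfl⟩ := hx.2
    refine Subgroup.mem_centralizer_iff.2 ?_
    rintro _ ⟨j, hj, rfl⟩
    exact congrArg Subtype.val (Subgroup.mem_centralizer_iff.1 hy j hj)

variable {Ω : Type u} [Group Ω] {S : Subgroup Ω} [Finite S] {F : FusionSystem S} {p : ℕ}
  [Fact p.Prime]

/-- A witness of a factor system lifts. -/
theorem qdWitness_of_factor {T : Subgroup Ω} {Ω' : Type v} [Group Ω'] {S' : Subgroup Ω'}
    {θ : S →* Ω'} {E : FusionSystem S'} (hE : F.IsFactorSystem T θ E) (h : QdWitness E p) :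
    QdWitness F p := by
  obtain ⟨-, -, hrange, hhom⟩ := hE
  subst hrange
  haveI : Finite ↥θ.range := Finite.of_surjective θ.rangeRestrict θ.rangeRestrict_surjective
  obtain ⟨V', hV', φ, hφ, hA⟩ := h
  set V := preimageAlong θ V' with hV
  have hVS : V ≤ S := Subgroup.map_subtype_le _
  have hmem : ∀ v : V, θ ⟨v, hVS v.2⟩ ∈ V' := by
    rintro ⟨_, y, hy, rfl⟩
    exact hy
  let π : V →* V' := (θ.comp (Subgroup.inclusion hVS)).codRestrict V' hmem
  have hπ : Function.Surjective π := by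
    rintro ⟨y, hy⟩
    obtain ⟨x, rfl⟩ := hV' hy
    exact ⟨⟨x, x, hy, rfl⟩, rfl⟩
  refine ⟨V, hVS, φ.comp π, hφ.comp hπ, fun g => ?_⟩
  obtain ⟨α, hα, hαg⟩ := hA g
  obtain ⟨ψ, hψ, e⟩ := ((mem_autGroup hV').1 hα).exists_hom
  obtain ⟨-, χ, hχ, _, hχS, _, hχe⟩ := (hhom V' ψ).1 hψ
  have hχe' : ∀ v : V, θ ⟨χ v, hχS v⟩ = ((α (π v) : V') : _) := fun v =>
    ((hχe v).symm.trans (e _)).trans (autFun_coe α (π v))
  have hrc : χ.range = V := by
    haveI := finite_of_le hVS
    refine Subgroup.eq_of_le_of_card_ge ?_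
      (Nat.card_congr (MonoidHom.ofInjective (F.injective_of_mem hχ)).toEquiv).le
    rintro _ ⟨v, rfl⟩
    exact ⟨⟨χ v, hχS v⟩, show θ _ ∈ V' from hχe' v ▸ (α (π v)).2, rfl⟩
  let β : MulAut V :=
    (MonoidHom.ofInjective (F.injective_of_mem hχ)).trans (MulEquiv.subgroupCongr hrc)
  refine ⟨β, Subgroup.subset_closure (show V.subtype.comp β.toMonoidHom ∈ F.Hom V from ?_),
    fun v => ?_⟩
  · exact hχ
  · show φ (π (β v)) = _
    rw [show π (β v) = α (π v) from Subtype.ext (hχe' v)]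
    exact hαg (π v)

/-- Where the centre of the Thompson subgroup is normal in every free constrained group, it is
normal in every free saturated system. -/
theorem isNormal_zjW (hp : p ≠ 2)
    (hst : ∀ (L : Type u) [Group L] [Finite L] (P : Subgroup L) [P.Normal],
      ¬ Involves ↥(qd p) L → IsPGroup p P → IsPStableOn p P)
    (hS : IsPGroup p S) (hF : F.IsSaturated p) (hw : ¬ QdWitness F p) :
    F.IsNormal ((zjW S).map S.subtype) := by
  have hWS : (zjW S).map S.subtype ≤ S := Subgroup.map_subtype_le _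
  have hN := isNormalizerSystem_normalizerSystem F hWS
  have h := Cfsg.Agent.S5205.result hp (fun Q _ => zjW Q)
    (fun Q _ _ hQ hQn => haveI := hQn; zjW_ne_bot hQ) (fun Q R _ _ _ _ φ => map_zjW φ) ?_ hS F hF
    ((isSectionFree_qd_iff hS hF).2 hw) _ hN
  · refine isNormal_iff.2 ⟨hWS, fun P f hf => ?_⟩
    obtain ⟨φ, hφ, e⟩ := hf.exists_hom
    rw [← h P] at hφ
    obtain ⟨-, -, g, hg, hg1, hg2⟩ := mem_normalizerHom.1 ((hN P).le hφ)
    exact ⟨g, hg, fun x hx => (hg1 ⟨x, hx⟩).trans (e ⟨x, hx⟩), hg2⟩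
  · intro L _ _ P hc hinv
    rw [← centerThompsonAOf_eq_map]
    exact (centerThompsonA_normal hp (hc.trans_le inf_le_left)
      (fun Q _ hQ => hst L Q hinv hQ) P ⟨le_rfl, fun _ _ _ h => h⟩)

/-- Free saturated systems are solvable. -/
theorem isSolvableSystem_of_free (hp : p ≠ 2)
    (hst : ∀ (L : Type u) [Group L] [Finite L] (P : Subgroup L) [P.Normal],
      ¬ Involves ↥(qd p) L → IsPGroup p P → IsPStableOn p P)
    (hS : IsPGroup p S) (hF : F.IsSaturated p) (hw : ¬ QdWitness F p) : F.IsSolvableSystem := by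
  intro R hR hRS _ E hE
  haveI : Nontrivial (S ⧸ R.subgroupOf S) :=
    QuotientGroup.nontrivial_iff.2 fun h => hRS (le_antisymm hR.1 (Subgroup.subgroupOf_eq_top.1 h))
  have hSp : IsPGroup p (⊤ : Subgroup (S ⧸ R.subgroupOf S)) := (hS.to_quotient _).to_subgroup ⊤
  haveI : Nontrivial (⊤ : Subgroup (S ⧸ R.subgroupOf S)) :=
    (Subgroup.nontrivial_iff_ne_bot _).2 top_ne_bot
  intro hbot
  refine zjW_ne_bot (Q := (⊤ : Subgroup (S ⧸ R.subgroupOf S))) hSp ?_
  have h1 := le_core (isNormal_zjW hp hst hSp (isSaturated_factor hS hF hR hE)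
    fun h => hw (qdWitness_of_factor hE h))
  rw [hbot, le_bot_iff, Subgroup.map_eq_bot_iff_of_injective _ (Subgroup.subtype_injective _)] at h1
  exact h1

end Cfsg.Agent.Fus
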