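import Cfsg.Agent.Lib.Fus.GlaubermanReplacement
import Cfsg.Agent.Lib.Fus.InvariantIff
import Cfsg.Agent.Lib.Grp.Cores
import Cfsg.Prelude.Def_TwoFusion

/-!
Glauberman's `ZJ`-theorem, for a strongly closed subgroup `D` of a Sylow subgroup.
-/

set_option autoImplicit false
set_option linter.style.haveILetI false
set_option linter.unusedSectionVars false

open scoped Classical commutatorElement

namespace Cfsg.Agent.Fus

open Subgroup

variable {G : Type*} [Group G]

theorem mem_centralizer_iff_commute {H : Subgroup G} {g : G} :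
    g ∈ Subgroup.centralizer (H : Set G) ↔ ∀ h ∈ H, h * g = g * h :=
  Subgroup.mem_centralizer_iff

/-- Conjugation carries an abelian subgroup of largest order to one. -/
theorem IsMaxAb.conj {R A : Subgroup G} (h : IsMaxAb R A) {g : G}
    (hg : g ∈ Subgroup.normalizer (R : Set G)) :
    IsMaxAb R (A.map (MulAut.conj g).toMonoidHom) := by
  refine ⟨?_, ?_, fun B hB hc => ?_⟩
  · rintro _ ⟨a, ha, rfl⟩
    exact (Subgroup.mem_normalizer_iff.1 hg a).1 (h.1 ha)
  · rintro _ ⟨a, ha, rfl⟩ _ ⟨b, hb, rfl⟩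
    rw [← map_mul, h.2.1 a ha b hb, map_mul]
  · rw [Subgroup.card_map_of_injective (MulAut.conj g).injective]
    exact h.2.2 B hB hc

theorem conj_mem_thompsonA {R : Subgroup G} {g x : G} (hg : g ∈ Subgroup.normalizer (R : Set G))
    (hx : x ∈ thompsonSubgroupAOf R) : g * x * g⁻¹ ∈ thompsonSubgroupAOf R :=
  (thompsonA_le_of (R := R) (K := (thompsonSubgroupAOf R).comap (MulAut.conj g).toMonoidHom)
    fun _ hA _ hy => (hA.conj hg).le_thompsonA ⟨_, hy, rfl⟩) hx

theorem conj_mem_centerThompsonA {R : Subgroup G} {g x : G}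
    (hg : g ∈ Subgroup.normalizer (R : Set G)) (hx : x ∈ centerThompsonAOf R) :
    g * x * g⁻¹ ∈ centerThompsonAOf R := by
  refine ⟨conj_mem_thompsonA hg hx.1, mem_centralizer_iff_commute.2 fun h hh => ?_⟩
  have h1 := mem_centralizer_iff_commute.1 hx.2 _ (conj_mem_thompsonA (inv_mem hg) hh)
  calc h * (g * x * g⁻¹) = g * ((g⁻¹ * h * g⁻¹⁻¹) * x) * g⁻¹ := by group
    _ = g * (x * (g⁻¹ * h * g⁻¹⁻¹)) * g⁻¹ := by rw [h1]
    _ = g * x * g⁻¹ * h := by group

/-- An element of `R` centralising an abelian subgroup of largest order lies in it. -/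
theorem IsMaxAb.mem_of_commute [Finite G] {R A : Subgroup G} (h : IsMaxAb R A) {x : G}
    (hx : x ∈ R) (hc : ∀ a ∈ A, a * x = x * a) : x ∈ A := by
  have hg : ∀ u ∈ (A : Set G) ∪ {x}, ∀ v ∈ (A : Set G) ∪ {x}, u * v = v * u := by
    rintro u (hu | rfl) v (hv | rfl)
    · exact h.2.1 u hu v hv
    · exact hc u hu
    · exact (hc v hv).symm
    · rfl
  haveI := Subgroup.isMulCommutative_closure hg
  have hle : Subgroup.closure ((A : Set G) ∪ {x}) ≤ R :=
    (Subgroup.closure_le R).2 (Set.union_subset h.1 (Set.singleton_subset_iff.2 hx))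
  have heq := Subgroup.eq_of_le_of_card_ge (H := A) (K := Subgroup.closure ((A : Set G) ∪ {x}))
    (fun a ha => Subgroup.subset_closure (Or.inl ha)) (h.2.2 _ hle fun u hu v hv =>
      congrArg Subtype.val (IsMulCommutative.is_comm.comm
        (⟨u, hu⟩ : Subgroup.closure ((A : Set G) ∪ {x})) ⟨v, hv⟩))
  exact heq ▸ Subgroup.subset_closure (Or.inr rfl)

theorem centerThompsonA_le_maxAb [Finite G] {R A : Subgroup G} (h : IsMaxAb R A) :
    centerThompsonAOf R ≤ A := fun _ hx =>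
  h.mem_of_commute (thompsonA_le R hx.1)
    fun a ha => mem_centralizer_iff_commute.1 hx.2 a (h.le_thompsonA ha)

variable [Finite G] {p : ℕ} [Fact p.Prime]

/-- A `p`-subgroup equal to its derived subgroup is trivial. -/
theorem eq_bot_of_commutator_eq {B : Subgroup G} (hB : IsPGroup p B) (h : ⁅B, B⁆ = B) : B = ⊥ := by
  haveI := hB.isNilpotent
  by_contra hne
  haveI : Nontrivial B := (Subgroup.nontrivial_iff_ne_bot B).2 hne
  have hlt := Group.IsSolvable.commutator_lt_top_of_nontrivial B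
  refine hlt.ne (Subgroup.map_injective B.subtype_injective ?_)
  rw [Subgroup.map_subtype_commutator, ← MonoidHom.range_eq_map, Subgroup.range_subtype, h]

/-- A normal `p`-subgroup of a class on which the group is `p`-stable meets `Z(J(D))` in a normal subgroup. -/
theorem inf_centerThompsonA_normal_of (hp : p ≠ 2) {Inv : Subgroup G → Prop}
    (hst : ∀ (P : Subgroup G) [P.Normal], IsPGroup p P → Inv P → IsPStableOn p P) (S : Sylow p G)
    {D : Subgroup G} (hD : IsStronglyClosed D (S : Subgroup G))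
    (hI₁ : ∀ B : Subgroup G, Inv B → Inv (Subgroup.normalClosure ((B ⊓ centerThompsonAOf D : Subgroup G) : Set G)))
    (hI₂ : ∀ B : Subgroup G, Inv B → Inv ⁅B, B⁆) :
    ∀ (B : Subgroup G), B.Normal → IsPGroup p B → Inv B → (B ⊓ centerThompsonAOf D).Normal := by
  intro B
  induction hn : Nat.card B using Nat.strong_induction_on generalizing B with
  | _ n IH =>
  intro hBn hBp hBI
  set Z := centerThompsonAOf D with hZ
  have hBS : B ≤ (S : Subgroup G) := hBp.le_sylow_of_normal S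
  have hDn : ∀ s ∈ (S : Subgroup G), s ∈ Subgroup.normalizer (D : Set G) := by
    refine fun s hs => mem_normalizer_of_forall (fun x hx => hD.2 x hx s ?_) fun x hx => ?_
    · exact S.mul_mem (S.mul_mem hs (hD.1 hx)) (S.inv_mem hs)
    · have := hD.2 x hx s⁻¹ (by simpa using S.mul_mem (S.mul_mem (S.inv_mem hs) (hD.1 hx)) hs)
      simpa using this
  set B₁ := Subgroup.normalClosure ((B ⊓ Z : Subgroup G) : Set G) with hB₁
  have hB₁B : B₁ ≤ B := Subgroup.normalClosure_le_normal fun x hx => hx.1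
  have hB₁Z : B₁ ⊓ Z = B ⊓ Z :=
    le_antisymm (inf_le_inf_right _ hB₁B) (le_inf Subgroup.subset_normalClosure inf_le_right)
  rcases hB₁B.lt_or_eq with hlt | heq
  · rw [← hB₁Z]
    exact IH _ (hn ▸ card_lt_of_lt hlt) B₁ rfl inferInstance (hBp.to_le hB₁B) (hI₁ B hBI)
  have hBD : B ≤ D := by
    rw [← heq, hB₁, Subgroup.normalClosure, Subgroup.closure_le]
    intro y hy
    obtain ⟨x, hx, hxy⟩ := Group.mem_conjugatesOfSet_iff.1 hy
    obtain ⟨c, rfl⟩ := _root_.isConj_iff.1 hxy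
    exact hD.2 x (thompsonA_le D hx.2.1) c (hBS (hBn.conj_mem x hx.1 c))
  by_cases hB0 : B = ⊥
  · rw [hB0, bot_inf_eq]
    infer_instance
  have hB'lt : ⁅B, B⁆ < B := lt_of_le_of_ne (Subgroup.commutator_le_self B)
    fun h => hB0 (eq_bot_of_commutator_eq hBp h)
  haveI := hBn
  have hB'n : (⁅B, B⁆).Normal := inferInstance
  set M := ⁅B, B⁆ ⊓ Z with hM
  haveI hMn : M.Normal := IH _ (hn ▸ card_lt_of_lt hB'lt) _ rfl hB'n (hBp.to_le hB'lt.le) (hI₂ B hBI)
  have hcomm : ∀ b ∈ B, ∀ z ∈ B ⊓ Z, ⁅b, z⁆ ∈ M := by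
    refine fun b hb z hz => ⟨Subgroup.commutator_mem_commutator hb hz.1, ?_⟩
    rw [commutatorElement_def]
    exact Z.mul_mem (conj_mem_centerThompsonA (Subgroup.le_normalizer (hBD hb)) hz.2)
      (Z.inv_mem hz.2)
  let C₁ := sectionKernel B M
  haveI : (B.map (QuotientGroup.mk' M)).Normal := hBn.map _ (QuotientGroup.mk'_surjective M)
  haveI : C₁.Normal := Subgroup.Normal.comap inferInstance _
  have hBC₁ : B ≤ C₁ := by
    rw [← heq, hB₁]
    refine Subgroup.normalClosure_le_normal fun z hz => Subgroup.mem_centralizer_iff.2 ?_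
    rintro _ ⟨b, hb, rfl⟩
    have h := hcomm b hb z hz
    rw [← QuotientGroup.ker_mk' M, MonoidHom.mem_ker, map_commutatorElement,
      commutatorElement_eq_one_iff_mul_comm] at h
    exact h
  have hB'Z : ⁅B, B⁆ ≤ Z := by
    refine le_trans (Subgroup.commutator_le.2 fun a ha b hb => ?_) (inf_le_right : M ≤ Z)
    show ⁅a, b⁆ ∈ M
    rw [← QuotientGroup.ker_mk' M, MonoidHom.mem_ker, map_commutatorElement,
      commutatorElement_eq_one_iff_mul_comm]
    exact mem_centralizer_iff_commute.1 (hBC₁ hb) _ (Subgroup.mem_map_of_mem _ ha)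
  have hBC₂ : B ≤ Subgroup.centralizer ((⁅B, B⁆ : Subgroup G) : Set G) := by
    haveI : (Subgroup.centralizer ((⁅B, B⁆ : Subgroup G) : Set G)).Normal := inferInstance
    have hle : ((B ⊓ Z : Subgroup G) : Set G) ⊆
        Subgroup.centralizer ((⁅B, B⁆ : Subgroup G) : Set G) := fun z hz =>
      mem_centralizer_iff_commute.2 fun h hh =>
        mem_centralizer_iff_commute.1 hz.2.2 h (hB'Z hh).1
    conv_lhs => rw [← heq, hB₁]
    exact Subgroup.normalClosure_le_normal hle
  set C := Subgroup.centralizer (B : Set G) with hC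
  haveI : C.Normal := inferInstance
  haveI := Grp.pCore_isNormal (p := p) (G := G ⧸ C)
  set K := (pCore p (G ⧸ C)).comap (QuotientGroup.mk' C) with hK
  haveI hKn : K.Normal := inferInstance
  have hquad : ∀ A, IsMaxAb D A → B ≤ Subgroup.normalizer (A : Set G) → A ≤ K := by
    intro A hA hBA a ha
    refine hst B hBp hBI a (le_bot_iff.1 (Subgroup.commutator_le.2 fun u hu v hv => ?_))
    have hzA : Subgroup.zpowers a ≤ A := (Subgroup.zpowers_le).2 ha
    have huA : u ∈ A := by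
      refine (Subgroup.commutator_le.2 (fun x hx y hy => ?_) :
        ⁅B, Subgroup.zpowers a⁆ ≤ A) hu
      rw [commutatorElement_def]
      exact A.mul_mem ((Subgroup.mem_normalizer_iff.1 (hBA hx) y).1 (hzA hy))
        (A.inv_mem (hzA hy))
    rw [Subgroup.mem_bot, commutatorElement_eq_one_iff_mul_comm]
    exact hA.2.1 u huA v (hzA hv)
  set T := (S : Subgroup G) ⊓ K with hT
  have hTK : K ≤ T ⊔ C := by
    intro k hk
    let f : K →* pCore p (G ⧸ C) :=
      ((QuotientGroup.mk' C).comp K.subtype).codRestrict _ fun x => x.2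
    have hf : Function.Surjective f := by
      rintro ⟨q, hq⟩
      obtain ⟨g, rfl⟩ := QuotientGroup.mk'_surjective C q
      exact ⟨⟨g, hq⟩, rfl⟩
    obtain ⟨-, P, hP⟩ := isSylowOf_inf_normal S K
    have hPtop := (P.mapSurjective hf).is_maximal'
      ((Grp.pCore_isPGroup (p := p) (G := G ⧸ C)).to_subgroup ⊤) le_top
    obtain ⟨x, hx, hxk⟩ : f ⟨k, hk⟩ ∈ (P : Subgroup K).map f :=
      hPtop.le (Subgroup.mem_top _)
    have hxT : (x : G) ∈ T := hP.le hx
    have hc : (x : G)⁻¹ * k ∈ C := QuotientGroup.eq.1 (congrArg Subtype.val hxk)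
    rw [show k = (x : G) * ((x : G)⁻¹ * k) by group]
    exact mul_mem (Subgroup.mem_sup_left hxT) (Subgroup.mem_sup_right hc)
  have hGT : ∀ g : G, ∃ n ∈ Subgroup.normalizer (T : Set G), ∃ c ∈ C, g = n * c := fun g => by
    obtain ⟨-, P, hP⟩ := isSylowOf_inf_normal S K
    have h1 : Subgroup.normalizer (T : Set G) ⊔ K = ⊤ := by
      have hPT : (P : Subgroup K).map K.subtype = T := by
        rw [hP, Subgroup.subgroupOf_map_subtype, inf_eq_left.2 (inf_le_right : T ≤ K)]
      rw [← hPT]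
      exact Sylow.normalizer_sup_eq_top P
    have h2 : Subgroup.normalizer (T : Set G) ⊔ C = ⊤ := top_le_iff.1 (h1 ▸ sup_le le_sup_left
      (hTK.trans (sup_le_sup_right Subgroup.le_normalizer _)))
    obtain ⟨n, hn, c, hc, e⟩ := Subgroup.mem_sup_of_normal_right.1
      (show g ∈ Subgroup.normalizer (T : Set G) ⊔ C by rw [h2]; exact Subgroup.mem_top g)
    exact ⟨n, hn, c, hc, e.symm⟩
  set D₁ := D ⊓ K with hD₁
  have hND₁ : Subgroup.normalizer (T : Set G) ≤ Subgroup.normalizer (D₁ : Set G) := by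
    intro n hn
    have key : ∀ m ∈ Subgroup.normalizer (T : Set G), ∀ x ∈ D₁, m * x * m⁻¹ ∈ D₁ := by
      rintro m hm x ⟨hxD, hxK⟩
      have hxT := (Subgroup.mem_normalizer_iff.1 hm x).1 ⟨hD.1 hxD, hxK⟩
      exact ⟨hD.2 x hxD m hxT.1, hxT.2⟩
    refine mem_normalizer_of_forall (key n hn) fun x hx => ?_
    simpa using key n⁻¹ (inv_mem hn) x hx
  have hfin : ∀ z ∈ B ⊓ Z, ∀ c ∈ C, c * z * c⁻¹ = z := fun z hz c hc => by
    rw [← mem_centralizer_iff_commute.1 hc z hz.1, mul_inv_cancel_right]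
  by_cases hall : ∀ A, IsMaxAb D A → A ≤ K
  · have hJ : thompsonSubgroupAOf D₁ = thompsonSubgroupAOf D := by
      refine le_antisymm (thompsonA_le_of fun A hA => ?_) (thompsonA_le_of fun A hA => ?_)
      · exact IsMaxAb.le_thompsonA ⟨hA.1.trans inf_le_left, hA.2.1, fun A' hA' hc => by
          obtain ⟨hfin', hne⟩ : {A₀ : Subgroup G | A₀ ≤ D ∧ ∀ x ∈ A₀, ∀ y ∈ A₀,
              x * y = y * x}.Finite ∧ {A₀ : Subgroup G | A₀ ≤ D ∧ ∀ x ∈ A₀, ∀ y ∈ A₀,
              x * y = y * x}.Nonempty := ⟨Set.toFinite _, A', hA', hc⟩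
          obtain ⟨A₀, ⟨h1, h2⟩, h3⟩ :=
            Set.exists_max_image _ (fun H : Subgroup G => Nat.card H) hfin' hne
          have hA₀ : IsMaxAb D A₀ := ⟨h1, h2, fun B' hB' hc' => h3 B' ⟨hB', hc'⟩⟩
          exact (h3 A' ⟨hA', hc⟩).trans (hA.2.2 A₀ (le_inf h1 (hall A₀ hA₀)) h2)⟩
      · exact IsMaxAb.le_thompsonA ⟨le_inf hA.1 (hall A hA), hA.2.1,
          fun A' hA' hc => hA.2.2 A' (hA'.trans inf_le_left) hc⟩
    refine ⟨fun z hz g => ?_⟩
    obtain ⟨n, hn', c, hc, rfl⟩ := hGT g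
    rw [show n * c * z * (n * c)⁻¹ = n * (c * z * c⁻¹) * n⁻¹ by group, hfin z hz c hc]
    refine ⟨hBn.conj_mem z hz.1 n, ?_⟩
    have hZ₁ : Z = centerThompsonAOf D₁ := by rw [hZ, centerThompsonAOf, centerThompsonAOf, hJ]
    rw [hZ₁]
    exact conj_mem_centerThompsonA (hND₁ hn') (hZ₁.le hz.2)
  push Not at hall
  exfalso
  obtain ⟨hsf, hsne⟩ : {A | IsMaxAb D A ∧ ¬ A ≤ K}.Finite ∧ {A | IsMaxAb D A ∧ ¬ A ≤ K}.Nonempty :=
    ⟨Set.toFinite _, hall⟩
  obtain ⟨A₁, ⟨hA₁, hA₁K⟩, hmax⟩ :=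
    Set.exists_max_image _ (fun A : Subgroup G => Nat.card ↥(A ⊓ B)) hsf hsne
  have hA₁B : ¬ B ≤ Subgroup.normalizer (A₁ : Set G) := fun h => hA₁K (hquad A₁ hA₁ h)
  obtain ⟨A', hA'D, hA'c, hA'card, hlt, hA'N, -⟩ := glauberman_replacement hp
    (S.2.to_le hD.1) hA₁.1 hBD
    (fun a _ => Subgroup.normalizer_eq_top B ▸ Subgroup.mem_top a) hA₁.2.1
    (fun x hx y hy z hz => ((mem_centralizer_iff_commute.1 (hBC₂ hz)) _
      (Subgroup.commutator_mem_commutator hx hy) :))
    (fun x hx y hy => centerThompsonA_le_maxAb hA₁ (hB'Z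
      (Subgroup.commutator_mem_commutator hx hy))) hA₁B
  have hA' : IsMaxAb D A' := ⟨hA'D, hA'c, fun A'' h1 h2 => (hA₁.2.2 A'' h1 h2).trans hA'card⟩
  have hA'K : A' ≤ K := by
    by_contra h
    exact absurd (hmax A' ⟨hA', h⟩) (not_le.2 (card_lt_of_lt hlt))
  have hA'1 : IsMaxAb D₁ A' := ⟨le_inf hA'D hA'K, hA'c,
    fun A'' h1 h2 => hA'.2.2 A'' (h1.trans inf_le_left) h2⟩
  have hJ₁ : thompsonSubgroupAOf D₁ ≤ thompsonSubgroupAOf D :=
    thompsonA_le_of fun A hA => IsMaxAb.le_thompsonA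
      ⟨hA.1.trans inf_le_left, hA.2.1, fun A'' h1 h2 =>
        (hA'.2.2 A'' h1 h2).trans (hA.2.2 A' hA'1.1 hA'c)⟩
  have hZZ₁ : Z ≤ centerThompsonAOf D₁ := fun z hz =>
    ⟨hA'1.le_thompsonA (centerThompsonA_le_maxAb hA' hz),
      mem_centralizer_iff_commute.2 fun h hh => mem_centralizer_iff_commute.1 hz.2 h (hJ₁ hh)⟩
  refine hA₁B (le_trans ?_ hA'N)
  refine le_trans ?_ (centerThompsonA_le_maxAb hA'1)
  rw [← heq, hB₁, Subgroup.normalClosure, Subgroup.closure_le]
  intro y hy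
  obtain ⟨z, hz, hzy⟩ := Group.mem_conjugatesOfSet_iff.1 hy
  obtain ⟨g, rfl⟩ := _root_.isConj_iff.1 hzy
  obtain ⟨n, hn', c, hc, rfl⟩ := hGT g
  rw [show n * c * z * (n * c)⁻¹ = n * (c * z * c⁻¹) * n⁻¹ by group, hfin z hz c hc]
  exact conj_mem_centerThompsonA (hND₁ hn') (hZZ₁ hz.2)

omit [Finite G] [Fact p.Prime] in
/-- An isomorphism carries `J` into `J` of the image. -/
theorem equiv_mem_thompsonA {G' : Type*} [Group G'] (e : G ≃* G') {R : Subgroup G} {x : G}
    (hx : x ∈ thompsonSubgroupAOf R) : e x ∈ thompsonSubgroupAOf (R.map e.toMonoidHom) := by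
  refine (thompsonA_le_of (R := R) (K := (thompsonSubgroupAOf (R.map e.toMonoidHom)).comap
    e.toMonoidHom) fun A hA y hy => IsMaxAb.le_thompsonA (A := A.map e.toMonoidHom)
      ⟨Subgroup.map_mono hA.1, ?_, fun B hB hc => ?_⟩ ⟨y, hy, rfl⟩) hx
  · rintro _ ⟨a, ha, rfl⟩ _ ⟨b, hb, rfl⟩
    rw [← map_mul, hA.2.1 a ha b hb, map_mul]
  · rw [Subgroup.card_map_of_injective e.injective,
      ← Subgroup.card_map_of_injective (f := e.symm.toMonoidHom) e.symm.injective (K := B)]
    refine hA.2.2 _ ?_ ?_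
    · rintro _ ⟨b, hb, rfl⟩
      obtain ⟨a, ha, rfl⟩ := hB hb
      simpa using ha
    · rintro _ ⟨a, ha, rfl⟩ _ ⟨b, hb, rfl⟩
      rw [← map_mul, hc a ha b hb, map_mul]

omit [Finite G] [Fact p.Prime] in
theorem equiv_mem_centerThompsonA {G' : Type*} [Group G'] (e : G ≃* G') {R : Subgroup G} {x : G}
    (hx : x ∈ centerThompsonAOf R) : e x ∈ centerThompsonAOf (R.map e.toMonoidHom) := by
  refine ⟨equiv_mem_thompsonA e hx.1, mem_centralizer_iff_commute.2 fun h hh => ?_⟩
  have h1 := equiv_mem_thompsonA e.symm hh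
  rw [Subgroup.map_map, show e.symm.toMonoidHom.comp e.toMonoidHom = MonoidHom.id G from
    MonoidHom.ext e.symm_apply_apply, Subgroup.map_id] at h1
  have h2 := congrArg e (mem_centralizer_iff_commute.1 hx.2 _ h1)
  simpa using h2

/-- Glauberman's `ZJ`-theorem with respect to a strongly closed subgroup, asking stability only on a class. -/
theorem centerThompsonA_normal_of (hp : p ≠ 2)
    (hc : Subgroup.centralizer (pCore p G : Set G) ≤ pCore p G) {Inv : Subgroup G → Prop}
    (hst : ∀ (P : Subgroup G) [P.Normal], IsPGroup p P → Inv P → IsPStableOn p P) (S : Sylow p G)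
    {D : Subgroup G} (hD : IsStronglyClosed D (S : Subgroup G)) (hI₀ : Inv (pCore p G))
    (hI₁ : ∀ B : Subgroup G, Inv B → Inv (Subgroup.normalClosure ((B ⊓ centerThompsonAOf D : Subgroup G) : Set G)))
    (hI₂ : ∀ B : Subgroup G, Inv B → Inv ⁅B, B⁆) :
    (centerThompsonAOf D).Normal := by
  haveI hQn := Grp.pCore_isNormal (p := p) (G := G)
  have hQ := Grp.pCore_isPGroup (p := p) (G := G)
  have hle : centerThompsonAOf D ≤ pCore p G := by
    intro z hz
    have hq := hst (pCore p G) hQ hI₀ z (le_bot_iff.1 (Subgroup.commutator_le.2 fun u hu v hv => ?_))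
    · set C := Subgroup.centralizer (pCore p G : Set G)
      haveI := Grp.pCore_isNormal (p := p) (G := G ⧸ C)
      have hKp : IsPGroup p ((pCore p (G ⧸ C)).comap (QuotientGroup.mk' C)) :=
        Grp.pCore_isPGroup.comap_of_ker_isPGroup _ (by
          rw [QuotientGroup.ker_mk']
          exact hQ.to_le hc)
      exact Grp.le_pCore inferInstance hKp hq
    · have hzZ : Subgroup.zpowers z ≤ centerThompsonAOf D := (Subgroup.zpowers_le).2 hz
      have huZ : u ∈ centerThompsonAOf D := by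
        refine (Subgroup.commutator_le.2 (fun x hx y hy => ?_) :
          ⁅pCore p G, Subgroup.zpowers z⁆ ≤ centerThompsonAOf D) hu
        rw [commutatorElement_def]
        refine mul_mem (conj_mem_centerThompsonA ?_ (hzZ hy)) (inv_mem (hzZ hy))
        have hxS : x ∈ (S : Subgroup G) := Grp.pCore_le_sylow S hx
        refine mem_normalizer_of_forall (fun d hd => hD.2 d hd x
          (S.mul_mem (S.mul_mem hxS (hD.1 hd)) (S.inv_mem hxS))) fun d hd => ?_
        have := hD.2 d hd x⁻¹ (S.mul_mem (S.mul_mem (S.inv_mem hxS) (hD.1 hd))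
          (S.inv_mem (S.inv_mem hxS)))
        simpa using this
      rw [Subgroup.mem_bot, commutatorElement_eq_one_iff_mul_comm]
      exact mem_centralizer_iff_commute.1 (hzZ hv).2 u huZ.1
  have h := inf_centerThompsonA_normal_of hp hst S hD hI₁ hI₂ (pCore p G) hQn hQ hI₀
  rwa [inf_eq_right.2 hle] at h

/-- A normal `p`-subgroup meets `Z(J(D))` in a normal subgroup. -/
theorem inf_centerThompsonA_normal (hp : p ≠ 2)
    (hst : ∀ (P : Subgroup G) [P.Normal], IsPGroup p P → IsPStableOn p P) (S : Sylow p G)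
    {D : Subgroup G} (hD : IsStronglyClosed D (S : Subgroup G)) (B : Subgroup G) (hB : B.Normal)
    (hBp : IsPGroup p B) : (B ⊓ centerThompsonAOf D).Normal :=
  inf_centerThompsonA_normal_of hp (Inv := fun _ => True) (fun P _ hP _ => hst P hP) S hD
    (fun _ _ => trivial) (fun _ _ => trivial) B hB hBp trivial

/-- Glauberman's `ZJ`-theorem with respect to a strongly closed subgroup. -/
theorem centerThompsonA_normal (hp : p ≠ 2)
    (hc : Subgroup.centralizer (pCore p G : Set G) ≤ pCore p G)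
    (hst : ∀ (P : Subgroup G) [P.Normal], IsPGroup p P → IsPStableOn p P) (S : Sylow p G)
    {D : Subgroup G} (hD : IsStronglyClosed D (S : Subgroup G)) :
    (centerThompsonAOf D).Normal :=
  centerThompsonA_normal_of hp hc (Inv := fun _ => True) (fun P _ hP _ => hst P hP) S hD trivial
    (fun _ _ => trivial) (fun _ _ => trivial)

/-- Glauberman's `ZJ`-theorem. -/
theorem centerThompsonA_characteristic (hp : p ≠ 2)
    (hc : Subgroup.centralizer (pCore p G : Set G) ≤ pCore p G)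
    (hst : ∀ (P : Subgroup G) [P.Normal], IsPGroup p P → IsPStableOn p P) (S : Sylow p G) :
    (centerThompsonAOf (S : Subgroup G)).Characteristic := by
  have hn := centerThompsonA_normal hp hc hst S ⟨le_rfl, fun _ _ _ h => h⟩
  refine Subgroup.characteristic_iff_map_le.2 fun e => ?_
  rintro _ ⟨z, hz, rfl⟩
  have h1 := equiv_mem_centerThompsonA e hz
  obtain ⟨g, -, hg⟩ := (isSylowOf_top S).exists_conj_le (S.2.map e.toMonoidHom) le_top
  have hmap : ((S : Subgroup G).map e.toMonoidHom).map (MulAut.conj g).toMonoidHom =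
      (S : Subgroup G) := Subgroup.eq_of_le_of_card_ge hg (by
    rw [Subgroup.card_map_of_injective (MulAut.conj g).injective,
      Subgroup.card_map_of_injective e.injective])
  have h2 := equiv_mem_centerThompsonA (MulAut.conj g) h1
  rw [hmap] at h2
  have h3 := hn.conj_mem _ h2 g⁻¹
  simpa [mul_assoc] using h3

end Cfsg.Agent.Fus
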