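import Mathlib
import Cfsg.Agent.Lib.Fus.NormalCrit
import Cfsg.Agent.Lib.Fus.Invariant
import Cfsg.Agent.Lib.Fus.InvariantIff
import Cfsg.Agent.Lib.Fus.GroupSystem
import Cfsg.Agent.Lib.Fus.GroupLocal
import Cfsg.Agent.Lib.Transfer.Cores
import Cfsg.Prelude.Def_TwoFusion

/-!
Normal subsystems of the fusion system of a group of characteristic `p`: the normal subgroup
realizing the subsystem. The first part builds the group `K` of elements acting on `R = O_p(G) ∩ T`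
as the subsystem does and trivially on `O_p(G)/R`, and the transfer of `K` to the Sylow subgroup
modulo `T`.
-/

set_option autoImplicit false
set_option linter.unusedSectionVars false

namespace Cfsg.Agent.Fus

open Cfsg Cfsg.FusionSystem

universe u

variable {G : Type u} [Group G] [Finite G] {p : ℕ} [hp : Fact p.Prime]

theorem mem_of_parts (X : Subgroup G) {g : G}
    (h' : ∀ v ∈ Subgroup.zpowers g, ¬ p ∣ orderOf v → v ∈ X)
    (hu : ∀ v ∈ Subgroup.zpowers g, (∃ k, v ^ p ^ k = 1) → v ∈ X) : g ∈ X := by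
  obtain ⟨a, m, hm, hgo⟩ :=
    Nat.exists_eq_pow_mul_and_not_dvd (orderOf_pos g).ne' p hp.out.one_lt.ne'
  have h1 : g ^ m ∈ X := hu _ (pow_mem (Subgroup.mem_zpowers g) m)
    ⟨a, by rw [← pow_mul, mul_comm, ← hgo, pow_orderOf_eq_one]⟩
  have h2 : g ^ p ^ a ∈ X := by
    refine h' _ (pow_mem (Subgroup.mem_zpowers g) _) ?_
    rw [orderOf_pow_of_dvd (pow_ne_zero _ hp.out.ne_zero) (hgo ▸ Dvd.intro m rfl), hgo,
      Nat.mul_div_cancel_left _ (pow_pos hp.out.pos a)]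
    exact hm
  have hbez := Nat.gcd_eq_gcd_ab (p ^ a) m
  rw [(Nat.Coprime.pow_left a (hp.out.coprime_iff_not_dvd.2 hm)).gcd_eq_one, Nat.cast_one] at hbez
  have h3 : (g ^ p ^ a) ^ Nat.gcdA (p ^ a) m * (g ^ m) ^ Nat.gcdB (p ^ a) m = g := by
    rw [← zpow_natCast g, ← zpow_natCast g m, ← zpow_mul, ← zpow_mul, ← zpow_add, ← hbez,
      zpow_one]
  rw [← h3]
  exact X.mul_mem (X.zpow_mem h2 _) (X.zpow_mem h1 _)

theorem pow_stab {H : Type*} [Group H] {y q : H} (h : Commute y (y * q * y⁻¹ * q⁻¹)) (n : ℕ) :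
    y ^ n * q * (y ^ n)⁻¹ = (y * q * y⁻¹ * q⁻¹) ^ n * q := by
  induction n with
  | zero => simp
  | succ n ih =>
    rw [pow_succ', mul_inv_rev, show y * y ^ n * q * ((y ^ n)⁻¹ * y⁻¹) =
      y * (y ^ n * q * (y ^ n)⁻¹) * y⁻¹ by group, ih,
      show y * ((y * q * y⁻¹ * q⁻¹) ^ n * q) * y⁻¹ =
        (y * (y * q * y⁻¹ * q⁻¹) ^ n) * q * y⁻¹ by group, (h.pow_right n).eq, pow_succ]
    group

/-- A normal subsystem of the fusion system of a group of characteristic `p`. -/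
structure NormalCtx (p : ℕ) {G : Type u} [Group G] (S T : Subgroup G) (E : FusionSystem T) :
    Prop where
  sylow : ∃ P : Sylow p G, (P : Subgroup G) = S
  charp : Subgroup.centralizer ((pCore p G : Subgroup G) : Set G) ≤ pCore p G
  normal : E.IsNormalIn (groupFusionSystem S) p

variable {S T : Subgroup G} {E : FusionSystem T}

/-- `O_p(G) ∩ T`. -/
abbrev coreIn (p : ℕ) (T : Subgroup G) : Subgroup G := pCore p G ⊓ T

namespace NormalCtx

theorem sPGroup (d : NormalCtx p S T E) : IsPGroup p S := by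
  obtain ⟨P, rfl⟩ := d.sylow
  exact P.isPGroup'

theorem core_le (d : NormalCtx p S T E) : pCore p G ≤ S := by
  obtain ⟨P, rfl⟩ := d.sylow
  exact Transfer.pCore_le_sylow P

theorem satF (d : NormalCtx p S T E) : (groupFusionSystem S).IsSaturated p := d.normal.1.2.1

theorem satE (d : NormalCtx p S T E) : E.IsSaturated p := d.normal.1.1

theorem inv (d : NormalCtx p S T E) : E.IsInvariantIn (groupFusionSystem S) := d.normal.1.2.2

theorem le_S (d : NormalCtx p S T E) : T ≤ S := d.inv.2.1.1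

theorem tPGroup (d : NormalCtx p S T E) : IsPGroup p T := d.sPGroup.to_le d.le_S

/-- `T` is strongly closed in `S` with respect to `G`. -/
theorem closed (d : NormalCtx p S T E) {g x : G} (hx : x ∈ T) (h : g * x * g⁻¹ ∈ S) :
    g * x * g⁻¹ ∈ T := by
  have hm : IsMap (groupFusionSystem S) (Subgroup.zpowers x) (fun y => g * y * g⁻¹) := by
    refine isMap_group.2 ⟨Subgroup.zpowers_le.2 (d.le_S hx), g, fun y hy => ⟨rfl, ?_⟩⟩
    obtain ⟨k, rfl⟩ := Subgroup.mem_zpowers_iff.1 hy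
    rw [← conj_zpow]
    exact S.zpow_mem h k
  exact StronglyClosed.apply_mem d.inv.2.1 hm (Subgroup.zpowers_le.2 hx) (Subgroup.mem_zpowers x)

theorem conj_T (d : NormalCtx p S T E) {s x : G} (hs : s ∈ S) (hx : x ∈ T) : s * x * s⁻¹ ∈ T :=
  d.closed hx (S.mul_mem (S.mul_mem hs (d.le_S hx)) (S.inv_mem hs))

theorem R_normal (d : NormalCtx p S T E) : (coreIn p T).Normal := by
  refine ⟨fun x hx g => ?_⟩
  obtain ⟨hxQ, hxT⟩ := Subgroup.mem_inf.1 hx
  have h1 : g * x * g⁻¹ ∈ pCore p G := (Transfer.pCore_normal' p G).conj_mem x hxQ g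
  exact Subgroup.mem_inf.2 ⟨h1, d.closed hxT (d.core_le h1)⟩

theorem comm_mem (d : NormalCtx p S T E) {t q : G} (ht : t ∈ T) (hq : q ∈ pCore p G) :
    t * q * t⁻¹ * q⁻¹ ∈ coreIn p T := by
  refine Subgroup.mem_inf.2 ⟨(pCore p G).mul_mem ((Transfer.pCore_normal' p G).conj_mem q hq t)
    ((pCore p G).inv_mem hq), ?_⟩
  rw [show t * q * t⁻¹ * q⁻¹ = t * (q * t⁻¹ * q⁻¹) by group]
  exact T.mul_mem ht (d.conj_T (d.core_le hq) (T.inv_mem ht))

/-- Elements centralizing `R` and `Q/R` lie in `Q`. -/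
theorem mem_core_of_stab (d : NormalCtx p S T E) {y : G}
    (hy : ∀ r ∈ coreIn p T, y * r = r * y)
    (hyq : ∀ q ∈ pCore p G, y * q * y⁻¹ * q⁻¹ ∈ coreIn p T) : y ∈ pCore p G := by
  haveI := d.R_normal
  haveI := Transfer.pCore_normal' p G
  set R := coreIn p T with hR
  set Q := pCore p G with hQ
  let N : Subgroup G :=
    { carrier := {g | (∀ r ∈ R, g * r = r * g) ∧ ∀ q ∈ Q, g * q * g⁻¹ * q⁻¹ ∈ R}
      one_mem' := ⟨fun r _ => by simp, fun q _ => by simp⟩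
      mul_mem' := fun {a b} ha hb => ⟨fun r hr => by
          rw [mul_assoc, hb.1 r hr, ← mul_assoc, ha.1 r hr, mul_assoc], fun q hq => by
          rw [show a * b * q * (a * b)⁻¹ * q⁻¹ =
            (a * (b * q * b⁻¹ * q⁻¹) * a⁻¹) * (a * q * a⁻¹ * q⁻¹) by group]
          exact R.mul_mem (Subgroup.Normal.conj_mem inferInstance _ (hb.2 q hq) a) (ha.2 q hq)⟩
      inv_mem' := fun {a} ha => ⟨fun r hr => (show Commute a r from ha.1 r hr).inv_left.eq,
        fun q hq => by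
          rw [show a⁻¹ * q * a⁻¹⁻¹ * q⁻¹ = a⁻¹ * (a * q * a⁻¹ * q⁻¹)⁻¹ * a⁻¹⁻¹ by group]
          exact Subgroup.Normal.conj_mem inferInstance _ (R.inv_mem (ha.2 q hq)) a⁻¹⟩ }
  have hN : N.Normal := by
    refine ⟨fun a ha g => ⟨fun r hr => ?_, fun q hq => ?_⟩⟩
    · have h1 := ha.1 _ (Subgroup.Normal.conj_mem inferInstance r hr g⁻¹)
      rw [inv_inv] at h1
      calc g * a * g⁻¹ * r = g * (a * (g⁻¹ * r * g)) * g⁻¹ := by group
        _ = g * ((g⁻¹ * r * g) * a) * g⁻¹ := by rw [h1]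
        _ = r * (g * a * g⁻¹) := by group
    · have h1 := ha.2 _ (Subgroup.Normal.conj_mem inferInstance q hq g⁻¹)
      rw [show g * a * g⁻¹ * q * (g * a * g⁻¹)⁻¹ * q⁻¹ =
        g * (a * (g⁻¹ * q * g⁻¹⁻¹) * a⁻¹ * (g⁻¹ * q * g⁻¹⁻¹)⁻¹) * g⁻¹ by group]
      exact Subgroup.Normal.conj_mem inferInstance _ h1 g
  have hNp : IsPGroup p N := by
    intro a
    obtain ⟨ha1, ha2⟩ : (∀ r ∈ R, (a : G) * r = r * a) ∧
        ∀ q ∈ Q, (a : G) * q * (a : G)⁻¹ * q⁻¹ ∈ R := a.2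
    obtain ⟨j, hj⟩ := (d.tPGroup.to_le (inf_le_right : R ≤ T)).exists_card_eq
    have h1 : (a : G) ^ p ^ j ∈ Q := by
      refine d.charp (Subgroup.mem_centralizer_iff.2 fun q hq => ?_)
      have h2 := pow_stab (H := G) (y := (a : G)) (q := q) (ha1 _ (ha2 q hq)) (p ^ j)
      rw [show ((a : G) * q * (a : G)⁻¹ * q⁻¹) ^ p ^ j = 1 by
        rw [← hj]; exact congrArg Subtype.val (pow_card_eq_one' (x := (⟨_, ha2 q hq⟩ : R))),
        one_mul, mul_inv_eq_iff_eq_mul] at h2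
      exact h2.symm
    obtain ⟨k, hk⟩ := Transfer.pCore_isPGroup p G ⟨_, h1⟩
    refine ⟨j + k, Subtype.ext ?_⟩
    rw [pow_add, pow_mul]
    simpa using congrArg Subtype.val hk
  exact Transfer.le_pCore hN hNp (show y ∈ N from ⟨hy, hyq⟩)

/-- `C_T(R) ≤ R`. -/
theorem cent_le (d : NormalCtx p S T E) {x : G} (hx : x ∈ T)
    (hc : ∀ r ∈ coreIn p T, x * r = r * x) : x ∈ coreIn p T :=
  Subgroup.mem_inf.2 ⟨d.mem_core_of_stab hc fun _ hq => d.comm_mem hx hq, hx⟩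

/-- The elements acting trivially on `Q/R` and as `E` does on `R`. -/
def kSet (p : ℕ) (E : FusionSystem T) : Set G :=
  {g | (∀ q ∈ pCore p G, g * q * g⁻¹ * q⁻¹ ∈ coreIn p T) ∧
    IsMap E (coreIn p T) (fun x => g * x * g⁻¹)}

theorem kSet_mul (d : NormalCtx p S T E) {a b : G} (ha : a ∈ kSet p E) (hb : b ∈ kSet p E) :
    a * b ∈ kSet p E := by
  refine ⟨fun q hq => ?_, ?_⟩
  · rw [show a * b * q * (a * b)⁻¹ * q⁻¹ =
      (a * (b * q * b⁻¹ * q⁻¹) * a⁻¹) * (a * q * a⁻¹ * q⁻¹) by group]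
    exact (coreIn p T).mul_mem (d.R_normal.conj_mem _ (hb.1 q hq) a) (ha.1 q hq)
  · exact (hb.2.comp ha.2 fun x hx => d.R_normal.conj_mem x hx b).congr fun x _ => by group

theorem one_mem_kSet (p : ℕ) (E : FusionSystem T) : (1 : G) ∈ kSet p E :=
  ⟨fun q _ => by simp, (isMap_id E inf_le_right).congr fun x _ => by simp⟩

theorem pow_mem_kSet (d : NormalCtx p S T E) {a : G} (ha : a ∈ kSet p E) :
    ∀ n : ℕ, a ^ n ∈ kSet p E
  | 0 => by rw [pow_zero]; exact one_mem_kSet p E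
  | n + 1 => by rw [pow_succ]; exact d.kSet_mul (pow_mem_kSet d ha n) ha

/-- The group `K`. -/
def K (d : NormalCtx p S T E) : Subgroup G where
  carrier := kSet p E
  one_mem' := one_mem_kSet p E
  mul_mem' := fun ha hb => d.kSet_mul ha hb
  inv_mem' := fun {a} ha => by
    have h : a⁻¹ = a ^ (orderOf a - 1) := by
      refine inv_eq_of_mul_eq_one_left ?_
      rw [← pow_succ, Nat.sub_add_cancel (orderOf_pos a), pow_orderOf_eq_one]
    rw [h]
    exact d.pow_mem_kSet ha _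

theorem T_le_K (d : NormalCtx p S T E) : T ≤ d.K :=
  fun _ ht => ⟨fun _ hq => d.comm_mem ht hq, isMap_conj E inf_le_right ht⟩

theorem exists_conjAut (d : NormalCtx p S T E) (g : G) :
    ∃ α ∈ (groupFusionSystem S).autGroup (coreIn p T),
      ∀ x : coreIn p T, ((α x : coreIn p T) : G) = g * x * g⁻¹ := by
  haveI := d.R_normal
  refine ⟨MulAut.conjNormal g, (mem_autGroup (inf_le_right.trans d.le_S)).2 (isMap_group.2
    ⟨inf_le_right.trans d.le_S, g, fun x hx => ⟨?_, ?_⟩⟩), fun x => MulAut.conjNormal_apply g x⟩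
  · exact (autFun_coe _ ⟨x, hx⟩).trans (MulAut.conjNormal_apply g ⟨x, hx⟩)
  · exact d.le_S (Subgroup.mem_inf.1 (d.R_normal.conj_mem x hx g)).2

theorem K_normal (d : NormalCtx p S T E) : d.K.Normal := by
  refine ⟨fun a ha g => ⟨fun q hq => ?_, ?_⟩⟩
  · have h1 := ha.1 _ ((Transfer.pCore_normal' p G).conj_mem q hq g⁻¹)
    rw [show g * a * g⁻¹ * q * (g * a * g⁻¹)⁻¹ * q⁻¹ =
      g * (a * (g⁻¹ * q * g⁻¹⁻¹) * a⁻¹ * (g⁻¹ * q * g⁻¹⁻¹)⁻¹) * g⁻¹ by group]
    exact d.R_normal.conj_mem _ h1 g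
  · obtain ⟨α, hα, hαe⟩ := d.exists_conjAut g
    obtain ⟨γ, -, hγe⟩ := d.exists_conjAut a
    have hγ : γ ∈ E.autGroup (coreIn p T) := (mem_autGroup inf_le_right).2
      (ha.2.congr fun x hx => ((autFun_coe γ ⟨x, hx⟩).trans (hγe ⟨x, hx⟩)).symm)
    have h1 := (mem_autGroup inf_le_right).1 (autGroup_conj_mem d.inv inf_le_right hα hγ)
    refine h1.congr fun x hx => ?_
    have h2 : ((α⁻¹ ⟨x, hx⟩ : coreIn p T) : G) = g⁻¹ * x * g := by
      have h3 := hαe (α⁻¹ ⟨x, hx⟩)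
      rw [MulAut.apply_inv_self] at h3
      generalize ((α⁻¹ ⟨x, hx⟩ : coreIn p T) : G) = y at h3 ⊢
      have h4 : x = g * y * g⁻¹ := h3
      subst h4
      group
    rw [show autFun (α * γ * α⁻¹) x = ((α (γ (α⁻¹ ⟨x, hx⟩)) : coreIn p T) : G) from
      autFun_coe (α * γ * α⁻¹) ⟨x, hx⟩, hαe, hγe, h2]
    group

theorem normalizerIn_R (d : NormalCtx p S T E) :
    FusionSystem.normalizerIn T (coreIn p T) = T :=
  le_antisymm inf_le_left fun t ht => mem_normalizerIn.2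
    ⟨ht, mem_normalizer_of_forall (fun x hx => d.R_normal.conj_mem x hx t)
      fun x hx => by simpa using d.R_normal.conj_mem x hx t⁻¹⟩

theorem fullyNormalized_R (d : NormalCtx p S T E) : E.IsFullyNormalized (coreIn p T) := by
  refine ⟨inf_le_right, fun Q _ => ?_⟩
  rw [d.normalizerIn_R]
  exact Subgroup.card_le_of_le inf_le_left

/-- `Aut_T(R)` is a Sylow subgroup of `Aut_E(R)`. -/
theorem fullyAutomized_R (d : NormalCtx p S T E) : E.IsFullyAutomized p (coreIn p T) :=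
  fullyAutomized_of_fullyNormalized d.tPGroup d.satE d.fullyNormalized_R

/-- `S ∩ K = T (C_S(R) ∩ K)`. -/
theorem exists_split (d : NormalCtx p S T E) {x : G} (hxS : x ∈ S) (hxK : x ∈ d.K) :
    ∃ t ∈ T, ∃ z, z ∈ pCore p G ∧ z ∈ d.K ∧ x = t * z := by
  obtain ⟨-, P, hP⟩ := d.fullyAutomized_R
  haveI : Finite T := inferInstance
  let A : Subgroup (MulAut (coreIn p T)) :=
    autInducedBy S (coreIn p T) ⊓ E.autGroup (coreIn p T)
  have hA : IsPGroup p A :=
    (isPGroup_autInducedBy d.sPGroup (coreIn p T)).to_le inf_le_left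
  have hle : (P : Subgroup (E.autGroup (coreIn p T))) ≤ A.subgroupOf _ := by
    rw [hP]
    intro a ha
    exact Subgroup.mem_subgroupOf.2 (Subgroup.mem_inf.2
      ⟨autInducedBy_mono d.le_S _ (Subgroup.mem_subgroupOf.1 ha), a.2⟩)
  have heq : A.subgroupOf _ = (P : Subgroup (E.autGroup (coreIn p T))) :=
    P.is_maximal' hA.comap_subtype hle
  obtain ⟨α, -, hαe⟩ := d.exists_conjAut x
  have hαE : α ∈ E.autGroup (coreIn p T) := (mem_autGroup inf_le_right).2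
    (hxK.2.congr fun y hy => ((autFun_coe α ⟨y, hy⟩).trans (hαe ⟨y, hy⟩)).symm)
  have hαA : (⟨α, hαE⟩ : E.autGroup (coreIn p T)) ∈ A.subgroupOf _ :=
    Subgroup.mem_subgroupOf.2 (Subgroup.mem_inf.2 ⟨mem_autInducedBy.2 ⟨x, hxS, hαe⟩, hαE⟩)
  rw [heq, hP, Subgroup.mem_subgroupOf] at hαA
  obtain ⟨t, ht, hte⟩ := mem_autInducedBy.1 hαA
  have hzK : t⁻¹ * x ∈ d.K := d.K.mul_mem (d.K.inv_mem (d.T_le_K ht)) hxK
  refine ⟨t, ht, t⁻¹ * x, d.mem_core_of_stab (fun r hr => ?_) hzK.1, hzK, by group⟩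
  have h1 := (hαe ⟨r, hr⟩).symm.trans (hte ⟨r, hr⟩)
  calc t⁻¹ * x * r = t⁻¹ * (x * r * x⁻¹) * x := by group
    _ = t⁻¹ * (t * r * t⁻¹) * x := by rw [h1]
    _ = r * (t⁻¹ * x) := by group

/-- The transfer of `K` to `(S ∩ K)/T` is the `[K : S ∩ K]`-th power on `S ∩ K`. -/
theorem exists_transfer (d : NormalCtx p S T E) :
    ∃ (A : Type u) (_ : CommGroup A) (τ : d.K →* A),
      (∀ k : d.K, ¬ p ∣ orderOf k → τ k = 1) ∧
      (∀ (k : d.K), (k : G) ∈ T → τ k = 1) ∧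
      ∀ k : d.K, (k : G) ∈ S → τ k = 1 → (k : G) ∈ T := by
  haveI := Transfer.pCore_normal' p G
  let P : Subgroup d.K := S.subgroupOf d.K
  have hPp : IsPGroup p P := d.sPGroup.comap_subtype
  let N : Subgroup P := ((T.subgroupOf d.K).subgroupOf P)
  haveI hN : N.Normal := ⟨fun a ha b => Subgroup.mem_subgroupOf.2 (Subgroup.mem_subgroupOf.2
    (d.conj_T (Subgroup.mem_subgroupOf.1 b.2)
      (Subgroup.mem_subgroupOf.1 (Subgroup.mem_subgroupOf.1 ha))))⟩
  have hmemN : ∀ a : P, a ∈ N ↔ ((a : d.K) : G) ∈ T := fun a => by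
    rw [Subgroup.mem_subgroupOf, Subgroup.mem_subgroupOf]
  -- modulo `T`, every element is represented in `Q ∩ K`
  have hrep : ∀ a : P, ∃ c : P, ((c : d.K) : G) ∈ pCore p G ∧
      (QuotientGroup.mk' N a : P ⧸ N) = QuotientGroup.mk' N c := fun a => by
    obtain ⟨t, ht, z, hzQ, hzK, he⟩ := d.exists_split (Subgroup.mem_subgroupOf.1 a.2) (a : d.K).2
    refine ⟨⟨⟨z, hzK⟩, Subgroup.mem_subgroupOf.2 (d.core_le hzQ)⟩, hzQ, ?_⟩
    refine ((QuotientGroup.mk'_eq_mk' N).2 ⟨(⟨⟨z⁻¹ * t⁻¹ * z, ?_⟩, ?_⟩ : P), ?_, ?_⟩)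
    · exact d.K.mul_mem (d.K.mul_mem (d.K.inv_mem hzK) (d.K.inv_mem (d.T_le_K ht))) hzK
    · exact Subgroup.mem_subgroupOf.2 (S.mul_mem (S.mul_mem (S.inv_mem (d.core_le hzQ))
        (S.inv_mem (d.le_S ht))) (d.core_le hzQ))
    · rw [hmemN]
      simpa using d.conj_T (S.inv_mem (d.core_le hzQ)) (T.inv_mem ht)
    · refine Subtype.ext (Subtype.ext ?_)
      show ((a : d.K) : G) * (z⁻¹ * t⁻¹ * z) = z
      rw [he]; group
  have hcomm : ∀ a b : P ⧸ N, a * b = b * a := by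
    intro a b
    obtain ⟨a, rfl⟩ := QuotientGroup.mk'_surjective N a
    obtain ⟨b, rfl⟩ := QuotientGroup.mk'_surjective N b
    obtain ⟨c, hc, hce⟩ := hrep a
    obtain ⟨e, he, hee⟩ := hrep b
    rw [hce, hee, ← map_mul, ← map_mul, QuotientGroup.mk'_eq_mk']
    refine ⟨(c * e)⁻¹ * (e * c), (hmemN _).2 ?_, by group⟩
    show (((c : d.K) : G) * ((e : d.K) : G))⁻¹ * (((e : d.K) : G) * ((c : d.K) : G)) ∈ T
    have h1 := ((c : d.K)⁻¹).2.1 _ he
    push_cast at h1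
    rw [inv_inv] at h1
    have h2 := (Subgroup.mem_inf.1 (d.R_normal.conj_mem _ h1 ((e : d.K) : G)⁻¹)).2
    convert h2 using 1
    group
  classical
  letI : Fintype (d.K ⧸ P) := Fintype.ofFinite _
  letI : CommGroup (P ⧸ N) := { (inferInstance : Group (P ⧸ N)) with mul_comm := hcomm }
  let φ : P →* P ⧸ N := QuotientGroup.mk' N
  have hφ1 : ∀ a : P, φ a = 1 ↔ ((a : d.K) : G) ∈ T := fun a => by
    rw [← hmemN]; exact QuotientGroup.eq_one_iff a
  let τ := MonoidHom.transfer φ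
  have hA : IsPGroup p (P ⧸ N) := hPp.to_quotient N
  have hp' : ∀ k : d.K, ¬ p ∣ orderOf k → τ k = 1 := fun k hk => by
    obtain ⟨j, hj⟩ := IsPGroup.iff_orderOf.1 hA (τ k)
    have h := orderOf_map_dvd τ k
    rw [hj] at h
    rcases j.eq_zero_or_pos with rfl | hjp
    · exact orderOf_eq_one_iff.1 (by simpa using hj)
    · exact absurd ((dvd_pow_self p hjp.ne').trans h) hk
  have hT1 : ∀ k : d.K, (k : G) ∈ T → τ k = 1 := fun k hk => by
    show MonoidHom.transfer φ k = 1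
    rw [MonoidHom.transfer_eq_prod_quotient_orbitRel_zpowers_quot]
    refine Finset.prod_eq_one fun q _ => (hφ1 _).2 ?_
    have hm := Subgroup.mem_subgroupOf.1 (QuotientGroup.out_conj_pow_minimalPeriod_mem P k q.out)
    push_cast at hm ⊢
    have h2 := d.closed (g := ((q.out.out : d.K) : G)⁻¹) (T.pow_mem hk _) (by rwa [inv_inv])
    rwa [inv_inv] at h2
  refine ⟨P ⧸ N, inferInstance, τ, hp', hT1, fun k hkS hk1 => ?_⟩
  obtain ⟨c, hcQ, hce⟩ := hrep ⟨k, Subgroup.mem_subgroupOf.2 hkS⟩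
  have hkc : τ k = τ (c : d.K) := by
    obtain ⟨n, hn, hne⟩ := (QuotientGroup.mk'_eq_mk' N).1 hce
    rw [← hne, Subgroup.coe_mul, map_mul, hT1 (n : d.K) ((hmemN n).1 hn), mul_one]
  have hpow : τ (c : d.K) = φ c ^ P.index := by
    show MonoidHom.transfer φ (c : d.K) = _
    rw [MonoidHom.transfer_eq_prod_quotient_orbitRel_zpowers_quot,
      Subgroup.index_eq_sum_minimalPeriod P (c : d.K), ← Finset.prod_pow_eq_pow_sum]
    refine Finset.prod_congr rfl fun q _ => ?_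
    rw [← map_pow]
    refine ((QuotientGroup.mk'_eq_mk' N).2 ⟨_, ?_, mul_inv_cancel_left _ _⟩)
    rw [hmemN]
    push_cast
    generalize Function.minimalPeriod ((c : d.K) • ·) q.out = n
    generalize (q.out.out : d.K) = x
    have h1 := (x⁻¹).2.1 _ ((pCore p G).pow_mem hcQ n)
    push_cast at h1
    rw [inv_inv] at h1
    have h2 := (Subgroup.mem_inf.1 h1).2
    have h3 := d.conj_T (S.inv_mem (S.pow_mem (d.core_le hcQ) n))
      (T.inv_mem h2)
    convert h3 using 1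
    group
  have hidx : ¬ p ∣ P.index := by
    haveI := d.K_normal
    obtain ⟨P', hP'⟩ := d.sylow
    obtain ⟨-, R', hR'⟩ := isSylowOf_inf_normal P' d.K
    have : (R' : Subgroup d.K) = P := by
      rw [hR', hP', Subgroup.inf_subgroupOf_right]
    rw [← this]
    exact R'.not_dvd_index
  have h1 : φ c = 1 := by
    have h2 : φ c ^ P.index = 1 := by rw [← hpow, ← hkc, hk1]
    obtain ⟨j, hj⟩ := hA (φ c)
    have h3 := pow_gcd_eq_one.2 ⟨hj, h2⟩
    rwa [(Nat.Coprime.pow_left j (hp.out.coprime_iff_not_dvd.2 hidx)).gcd_eq_one, pow_one] at h3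
  rw [show φ c = φ ⟨k, Subgroup.mem_subgroupOf.2 hkS⟩ from hce.symm] at h1
  exact (hφ1 _).1 h1

end NormalCtx

end Cfsg.Agent.Fus
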