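import Mathlib
import Cfsg.Agent.Lib.Fus.ConstrainedNormalSub
import Cfsg.Agent.Lib.Fus.Alperin

/-!
The normal subgroup of a group of characteristic `p` that realizes a normal subsystem of its
fusion system, and its uniqueness.
-/

set_option autoImplicit false
set_option linter.unusedSectionVars false

namespace Cfsg.Agent.Fus

open Cfsg Cfsg.FusionSystem

universe u

variable {G : Type u} [Group G] [Finite G] {p : ℕ} [hp : Fact p.Prime]
  {S T : Subgroup G} {E : FusionSystem T}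

namespace NormalCtx

/-- The normal subgroup realizing the subsystem. -/
def H (d : NormalCtx p S T E) : Subgroup G :=
  Subgroup.normalClosure ((T : Set G) ∪ {g | g ∈ d.K ∧ ¬ p ∣ orderOf g})

theorem H_normal (d : NormalCtx p S T E) : d.H.Normal := Subgroup.normalClosure_normal

theorem T_le_H (d : NormalCtx p S T E) : T ≤ d.H :=
  fun _ ht => Subgroup.subset_normalClosure (Or.inl ht)

theorem mem_H_of_p' (d : NormalCtx p S T E) {g : G} (hg : g ∈ d.K) (h : ¬ p ∣ orderOf g) :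
    g ∈ d.H :=
  Subgroup.subset_normalClosure (Or.inr ⟨hg, h⟩)

theorem H_le_K (d : NormalCtx p S T E) : d.H ≤ d.K := by
  haveI := d.K_normal
  exact Subgroup.normalClosure_le_normal (Set.union_subset d.T_le_K fun g hg => hg.1)

theorem inf_H (d : NormalCtx p S T E) : S ⊓ d.H = T := by
  refine le_antisymm ?_ (le_inf d.le_S d.T_le_H)
  haveI := d.K_normal
  obtain ⟨A, _, τ, hτ1, hτT, hτ⟩ := d.exists_transfer
  obtain ⟨P, hP⟩ := d.sylow
  have hsyl : IsSylowOf p (S ⊓ d.K) d.K := hP ▸ isSylowOf_inf_normal P d.K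
  have key : d.H ≤ τ.ker.map d.K.subtype := by
    refine (Subgroup.closure_le _).2 fun y hy => ?_
    obtain ⟨x, hx, hxy⟩ := Group.mem_conjugatesOfSet_iff.1 hy
    obtain ⟨g, rfl⟩ := _root_.isConj_iff.1 hxy
    have hxK : x ∈ d.K := hx.elim (fun h => d.T_le_K h) fun h => h.1
    have hyK : g * x * g⁻¹ ∈ d.K := d.K_normal.conj_mem x hxK g
    refine ⟨⟨_, hyK⟩, MonoidHom.mem_ker.2 ?_, rfl⟩
    rcases hx with hx | hx
    · obtain ⟨k, hk⟩ := d.tPGroup ⟨x, hx⟩
      have hp1 : IsPGroup p (Subgroup.zpowers (g * x * g⁻¹)) := by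
        refine IsPGroup.of_card_dvd_pow (n := k) ?_
        rw [Nat.card_zpowers]
        refine orderOf_dvd_of_pow_eq_one ?_
        rw [conj_pow, show x ^ p ^ k = 1 by simpa using congrArg Subtype.val hk]
        group
      obtain ⟨m, hm, hmle⟩ := hsyl.exists_conj_le hp1 (Subgroup.zpowers_le.2 hyK)
      have h1 : m * (g * x * g⁻¹) * m⁻¹ ∈ S :=
        (Subgroup.mem_inf.1 (hmle ⟨_, Subgroup.mem_zpowers _, rfl⟩)).1
      have h2 : m * (g * x * g⁻¹) * m⁻¹ ∈ T := by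
        have h3 := d.closed (g := m * g) hx (by
          convert h1 using 1; group)
        convert h3 using 1
        group
      have h4 := hτT (⟨m, hm⟩ * ⟨_, hyK⟩ * ⟨m, hm⟩⁻¹) h2
      rwa [map_mul, map_mul, map_inv, mul_right_comm, mul_inv_cancel, one_mul] at h4
    · refine hτ1 _ ?_
      rw [← Subgroup.orderOf_coe]
      show ¬ p ∣ orderOf (g * x * g⁻¹)
      rw [show g * x * g⁻¹ = MulAut.conj g x from rfl, MulEquiv.orderOf_eq]
      exact hx.2
  intro y hy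
  obtain ⟨k, hk, rfl⟩ := key (Subgroup.mem_inf.1 hy).2
  exact hτ k (Subgroup.mem_inf.1 hy).1 hk

theorem sylow_H (d : NormalCtx p S T E) : IsSylowOf p T d.H := by
  haveI := d.H_normal
  obtain ⟨P, hP⟩ := d.sylow
  have h := isSylowOf_inf_normal P d.H
  rw [hP, d.inf_H] at h
  exact h

/-- `C_H(R) ≤ R`. -/
theorem cent_H (d : NormalCtx p S T E) {y : G} (hy : y ∈ d.H)
    (hc : ∀ r ∈ coreIn p T, y * r = r * y) : y ∈ coreIn p T :=
  d.cent_le (d.inf_H.le (Subgroup.mem_inf.2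
    ⟨d.core_le (d.mem_core_of_stab hc (d.H_le_K hy).1), hy⟩)) hc

/-- `p`-subgroups of `Aut_E(T)` are inner. -/
theorem mem_inn_of_pow (d : NormalCtx p S T E) {a : MulAut T} (ha : a ∈ E.autGroup T) {k : ℕ}
    (hk : a ^ p ^ k = 1) : a ∈ autInducedBy T T := by
  obtain ⟨-, P, hP⟩ := fullyAutomized_of_fullyNormalized d.tPGroup d.satE (fullyNormalized_self E)
  have hn : (P : Subgroup (E.autGroup T)).Normal := by
    rw [hP, ← inn_eq_autInducedBy]
    exact inn_subgroupOf_normal E T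
  haveI := hn
  have hz : IsPGroup p (Subgroup.zpowers (⟨a, ha⟩ : E.autGroup T)) := by
    refine IsPGroup.of_card_dvd_pow (n := k) ?_
    rw [Nat.card_zpowers]
    exact orderOf_dvd_of_pow_eq_one (Subtype.ext hk)
  have h1 : Subgroup.zpowers (⟨a, ha⟩ : E.autGroup T) ⊔ P = P :=
    P.is_maximal' (hz.to_sup_of_normal_right P.2) le_sup_right
  have h2 : (⟨a, ha⟩ : E.autGroup T) ∈ (P : Subgroup (E.autGroup T)) :=
    h1 ▸ Subgroup.mem_sup_left (Subgroup.mem_zpowers _)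
  rwa [hP, Subgroup.mem_subgroupOf] at h2

/-- An automorphism of `T` in `E` of order prime to `p` is induced by an element of `H`. -/
theorem exists_H_of_p' (d : NormalCtx p S T E) {ψ : MulAut T} (hψ : ψ ∈ E.autGroup T)
    (ho : ¬ p ∣ orderOf ψ) : ∃ g ∈ d.H, ∀ x : T, ((ψ x : T) : G) = g * x * g⁻¹ := by
  haveI := Transfer.pCore_normal' p G
  haveI := d.R_normal
  obtain ⟨β, hβ, hβT, hβC⟩ := d.normal.2 ψ hψ
  obtain ⟨-, g, hg⟩ := isMap_group.1
    ((mem_autGroup (sup_le d.le_S (show centralizerIn S T ≤ S from inf_le_left))).1 hβ)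
  have hgT : ∀ x : T, g * x * g⁻¹ = ((ψ x : T) : G) := fun x => by
    rw [← (hg x (Subgroup.mem_sup_left x.2)).1]
    exact (autFun_coe β (Subgroup.inclusion le_sup_left x)).trans (hβT x)
  have hgC : ∀ c ∈ centralizerIn S T,
      c⁻¹ * (g * c * g⁻¹) ∈ T ⊓ Subgroup.centralizer (T : Set G) := fun c hc => by
    rw [← (hg c (Subgroup.mem_sup_right hc)).1,
      show autFun β c = ((β ⟨c, Subgroup.mem_sup_right hc⟩ : ↥(T ⊔ centralizerIn S T)) : G) from
        autFun_coe β ⟨c, Subgroup.mem_sup_right hc⟩]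
    exact hβC ⟨c, Subgroup.mem_sup_right hc⟩ hc
  have hpowT : ∀ (n : ℕ) (x : T), g ^ n * x * (g ^ n)⁻¹ = (((ψ ^ n) x : T) : G) := by
    intro n
    induction n with
    | zero => intro x; simp
    | succ n ih =>
      intro x
      rw [pow_succ, pow_succ, MulAut.mul_apply, ← ih, ← hgT, mul_inv_rev]
      group
  have hZ : ∀ z ∈ T ⊓ Subgroup.centralizer (T : Set G), ∀ n : ℕ,
      g ^ n * z * (g ^ n)⁻¹ ∈ T ⊓ Subgroup.centralizer (T : Set G) := fun z hz n => by
    obtain ⟨hzT, hzc⟩ := Subgroup.mem_inf.1 hz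
    refine Subgroup.mem_inf.2 ⟨(hpowT n ⟨z, hzT⟩).symm ▸ SetLike.coe_mem _,
      Subgroup.mem_centralizer_iff.2 fun t ht => ?_⟩
    obtain ⟨t', ht'⟩ := (ψ ^ n).surjective ⟨t, ht⟩
    have h1 : t = g ^ n * (t' : G) * (g ^ n)⁻¹ := by rw [hpowT, ht']
    have h2 := Subgroup.mem_centralizer_iff.1 hzc (t' : G) t'.2
    rw [h1, show g ^ n * (t' : G) * (g ^ n)⁻¹ * (g ^ n * z * (g ^ n)⁻¹) =
      g ^ n * ((t' : G) * z) * (g ^ n)⁻¹ by group, h2]
    group
  have hpowC : ∀ (n : ℕ), ∀ c ∈ centralizerIn S T,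
      c⁻¹ * (g ^ n * c * (g ^ n)⁻¹) ∈ T ⊓ Subgroup.centralizer (T : Set G) := by
    intro n
    induction n with
    | zero => intro c _; simp
    | succ n ih =>
      intro c hc
      rw [pow_succ, mul_inv_rev, show c⁻¹ * (g ^ n * g * c * (g⁻¹ * (g ^ n)⁻¹)) =
        (c⁻¹ * (g ^ n * c * (g ^ n)⁻¹)) * (g ^ n * (c⁻¹ * (g * c * g⁻¹)) * (g ^ n)⁻¹) by group]
      exact Subgroup.mul_mem _ (ih c hc) (hZ _ (hgC c hc) n)
  obtain ⟨a, m, hm, hgo⟩ :=
    Nat.exists_eq_pow_mul_and_not_dvd (orderOf_pos g).ne' p hp.out.one_lt.ne'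
  obtain ⟨j, hj1, hj2⟩ := Nat.chineseRemainder
    ((Nat.Coprime.pow_left a (hp.out.coprime_iff_not_dvd.2 ho)) : Nat.Coprime (p ^ a) (orderOf ψ))
    0 1
  have hψj : ψ ^ j = ψ := by
    conv_rhs => rw [← pow_one ψ]
    exact pow_eq_pow_iff_modEq.2 hj2
  have hord : ¬ p ∣ orderOf (g ^ j) := fun h => hm (h.trans (orderOf_dvd_of_pow_eq_one (by
    obtain ⟨i, rfl⟩ := Nat.modEq_zero_iff_dvd.1 hj1
    rw [← pow_mul, mul_right_comm, ← hgo, pow_mul, pow_orderOf_eq_one, one_pow])))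
  refine ⟨g ^ j, d.mem_H_of_p' ⟨fun q hq => ?_, ?_⟩ hord, fun x => by rw [hpowT, hψj]⟩
  · -- the commutators with `Q`
    set y := g ^ j * q * (g ^ j)⁻¹ * q⁻¹ with hy
    have hyQ : y ∈ pCore p G := (pCore p G).mul_mem
      (Subgroup.Normal.conj_mem inferInstance q hq _) ((pCore p G).inv_mem hq)
    obtain ⟨γ, hγ, hγe⟩ : ∃ γ ∈ (groupFusionSystem S).autGroup T,
        ∀ x : T, ((γ x : T) : G) = q * x * q⁻¹ := by
      refine ⟨Subgroup.normalizerMonoidHom T ⟨q, mem_normalizer_of_forall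
        (fun x hx => d.conj_T (d.core_le hq) hx)
        fun x hx => by simpa using d.conj_T (S.inv_mem (d.core_le hq)) hx⟩,
        autInducedBy_le_autGroup _ d.le_S (mem_autInducedBy.2 ⟨q, d.core_le hq, fun x => rfl⟩),
        fun x => rfl⟩
    have hcomm : ψ * (γ * ψ⁻¹ * γ⁻¹) ∈ E.autGroup T :=
      (E.autGroup T).mul_mem hψ (autGroup_conj_mem d.inv le_rfl hγ ((E.autGroup T).inv_mem hψ))
    have hce : ∀ x : T, (((ψ * (γ * ψ⁻¹ * γ⁻¹)) x : T) : G) = y * x * y⁻¹ := fun x => by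
      have e1 : ∀ z : T, ((ψ z : T) : G) = g ^ j * z * (g ^ j)⁻¹ := fun z => by rw [hpowT, hψj]
      have e2 : ∀ z : T, ((γ⁻¹ z : T) : G) = q⁻¹ * z * q := fun z => by
        have h := hγe (γ⁻¹ z)
        rw [MulAut.apply_inv_self] at h
        rw [h]; group
      have e3 : ∀ z : T, ((ψ⁻¹ z : T) : G) = (g ^ j)⁻¹ * z * g ^ j := fun z => by
        have h := e1 (ψ⁻¹ z)
        rw [MulAut.apply_inv_self] at h
        rw [h]; group
      rw [MulAut.mul_apply, MulAut.mul_apply, MulAut.mul_apply, e1, hγe, e3, e2, hy]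
      group
    obtain ⟨k, hk⟩ := isPGroup_autInducedBy d.sPGroup T
      ⟨_, mem_autInducedBy.2 ⟨y, d.core_le hyQ, hce⟩⟩
    obtain ⟨t, ht, hte⟩ := mem_autInducedBy.1
      (d.mem_inn_of_pow hcomm (congrArg Subtype.val hk))
    have hcC : t⁻¹ * y ∈ centralizerIn S T :=
      mem_centralizerIn.2 ⟨S.mul_mem (S.inv_mem (d.le_S ht)) (d.core_le hyQ), fun x hx => by
        have h := (hce ⟨x, hx⟩).symm.trans (hte ⟨x, hx⟩)
        calc x * (t⁻¹ * y) = t⁻¹ * (t * x * t⁻¹) * y := by group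
          _ = t⁻¹ * (y * x * y⁻¹) * y := by rw [h]
          _ = t⁻¹ * y * x := by group⟩
    have hgy : g ^ j * y * (g ^ j)⁻¹ * y⁻¹ ∈ coreIn p T := by
      refine Subgroup.mem_inf.2 ⟨(pCore p G).mul_mem
        (Subgroup.Normal.conj_mem inferInstance y hyQ _) ((pCore p G).inv_mem hyQ), ?_⟩
      obtain ⟨hz, hzc⟩ := Subgroup.mem_inf.1 (hpowC j _ hcC)
      generalize hzd : (t⁻¹ * y)⁻¹ * (g ^ j * (t⁻¹ * y) * (g ^ j)⁻¹) = z at hz hzc
      have hcz : (t⁻¹ * y) * z = z * (t⁻¹ * y) := (mem_centralizerIn.1 hcC).2 z hz |>.symm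
      rw [show g ^ j * y * (g ^ j)⁻¹ * y⁻¹ = (g ^ j * t * (g ^ j)⁻¹) *
        ((t⁻¹ * y) * ((t⁻¹ * y)⁻¹ * (g ^ j * (t⁻¹ * y) * (g ^ j)⁻¹)) * (t⁻¹ * y)⁻¹) * t⁻¹ by
          group, hzd, hcz, mul_inv_cancel_right]
      exact T.mul_mem (T.mul_mem ((hpowT j ⟨t, ht⟩).symm ▸ SetLike.coe_mem _) hz) (T.inv_mem ht)
    -- coprime action
    let π := QuotientGroup.mk' (coreIn p T)
    have hcomm' : Commute (π (g ^ j)) (π (g ^ j) * π q * (π (g ^ j))⁻¹ * (π q)⁻¹) := by
      rw [← map_inv, ← map_inv, ← map_mul, ← map_mul, ← map_mul, ← hy]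
      have h1 : π (g ^ j * y * (g ^ j)⁻¹ * y⁻¹) = 1 := (QuotientGroup.eq_one_iff _).2 hgy
      simp only [map_mul, map_inv] at h1
      exact commutatorElement_eq_one_iff_commute.1 h1
    have h2 := pow_stab hcomm' (orderOf (g ^ j))
    rw [← map_pow, pow_orderOf_eq_one, map_one, one_mul, inv_one, mul_one, ← map_inv, ← map_inv,
      ← map_mul, ← map_mul, ← map_mul, ← hy, ← map_pow, right_eq_mul] at h2
    obtain ⟨k', hk'⟩ := Transfer.pCore_isPGroup p G ⟨y, hyQ⟩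
    have h3 : π y ^ p ^ k' = 1 := by
      rw [← map_pow, show y ^ p ^ k' = 1 by simpa using congrArg Subtype.val hk', map_one]
    have h4 := pow_gcd_eq_one.2 ⟨h3, (map_pow π y _).symm.trans h2⟩
    rw [(Nat.Coprime.pow_left k' (hp.out.coprime_iff_not_dvd.2 hord)).gcd_eq_one, pow_one] at h4
    exact (QuotientGroup.eq_one_iff _).1 h4
  · refine (((mem_autGroup le_rfl).1 hψ).res inf_le_right).congr fun x hx => ?_
    rw [show autFun ψ x = ((ψ ⟨x, (Subgroup.mem_inf.1 hx).2⟩ : T) : G) from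
      autFun_coe ψ ⟨x, (Subgroup.mem_inf.1 hx).2⟩]
    exact (hpowT j ⟨x, _⟩).trans (by rw [hψj]) |>.symm

/-- Every automorphism of `T` in `E` is induced by an element of `H`. -/
theorem autT_le (d : NormalCtx p S T E) : E.autGroup T ≤ autInducedBy d.H T := by
  intro ψ hψ
  refine mem_of_parts (p := p) (autInducedBy d.H T) (fun v hv hvo => ?_) fun v hv hvk => ?_
  · obtain ⟨g, hg, hge⟩ := d.exists_H_of_p' (Subgroup.zpowers_le.2 hψ hv) hvo
    exact mem_autInducedBy.2 ⟨g, hg, hge⟩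
  · obtain ⟨k, hk⟩ := hvk
    exact autInducedBy_mono d.T_le_H T (d.mem_inn_of_pow (Subgroup.zpowers_le.2 hψ hv) hk)

/-- Every automorphism of `R` in `E` is induced by an element of `H`. -/
theorem autR_le (d : NormalCtx p S T E) :
    E.autGroup (coreIn p T) ≤ autInducedBy d.H (coreIn p T) := by
  set R := coreIn p T with hR
  let N : Subgroup (E.autGroup R) := (autInducedBy d.H R).subgroupOf _
  haveI hN : N.Normal := by
    refine ⟨fun n hn a => Subgroup.mem_subgroupOf.2 ?_⟩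
    obtain ⟨h, hh, hhe⟩ := mem_autInducedBy.1 (Subgroup.mem_subgroupOf.1 hn)
    have ha := autGroup_mono d.inv.1 R a.2
    obtain ⟨-, g, hg⟩ := isMap_group.1 ((mem_autGroup (inf_le_right.trans d.le_S)).1 ha)
    refine mem_autInducedBy.2 ⟨g * h * g⁻¹, d.H_normal.conj_mem h hh g, fun x => ?_⟩
    have e1 : ∀ z : R, (((a : MulAut R) z : R) : G) = g * z * g⁻¹ := fun z =>
      (autFun_coe (a : MulAut R) z).symm.trans (hg z z.2).1
    have e2 : (((a : MulAut R)⁻¹ x : R) : G) = g⁻¹ * x * g := by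
      have h := e1 ((a : MulAut R)⁻¹ x)
      rw [MulAut.apply_inv_self] at h
      rw [h]; group
    show (((a : MulAut R) ((n : MulAut R) ((a : MulAut R)⁻¹ x)) : R) : G) = _
    rw [e1, hhe, e2]
    group
  obtain ⟨-, P, hP⟩ := d.fullyAutomized_R
  have hPN : (P : Subgroup (E.autGroup R)) ≤ N := by
    rw [hP]
    exact Subgroup.comap_mono (autInducedBy_mono d.T_le_H R)
  intro α hα
  have htop := Sylow.normalizer_sup_eq_top' P hPN
  have hle : Subgroup.normalizer ((P : Subgroup (E.autGroup R)) : Set (E.autGroup R)) ≤ N := by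
    intro b hb
    have hrec := receptive_of_fullyNormalized d.tPGroup d.satE d.fullyNormalized_R
    have hbm := (mem_autGroup (inf_le_right : R ≤ T)).1 b.2
    obtain ⟨f, hf, hfe⟩ := receptive_extend hrec hbm (fimg_autFun (b : MulAut R)) (N := T)
      (fun t ht => by
        have htN : t ∈ FusionSystem.normalizerIn T R := d.normalizerIn_R.ge ht
        refine ⟨htN, ?_⟩
        let c : E.autGroup R := ⟨R.normalizerMonoidHom ⟨t, (mem_normalizerIn.1 htN).2⟩,
          autInducedBy_le_autGroup E inf_le_right (mem_autInducedBy.2 ⟨t, ht, fun x => rfl⟩)⟩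
        have hcP : c ∈ (P : Subgroup (E.autGroup R)) := by
          rw [hP]
          exact Subgroup.mem_subgroupOf.2 (mem_autInducedBy.2 ⟨t, ht, fun x => rfl⟩)
        have h1 := (Subgroup.mem_normalizer_iff.1 hb c).1 hcP
        rw [hP, Subgroup.mem_subgroupOf] at h1
        obtain ⟨k, hk, hke⟩ := mem_autInducedBy.1 h1
        refine ⟨k, hk, fun x hx => ?_⟩
        have h2 := hke ((b : MulAut R) ⟨x, hx⟩)
        rw [show autFun (b : MulAut R) x = (((b : MulAut R) ⟨x, hx⟩ : R) : G) from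
          autFun_coe (b : MulAut R) ⟨x, hx⟩, ← h2]
        show autFun (b : MulAut R) (t * x * t⁻¹) = (((b : MulAut R) ((c : MulAut R)
          ((b : MulAut R)⁻¹ ((b : MulAut R) ⟨x, hx⟩))) : R) : G)
        rw [MulAut.inv_apply_self]
        exact autFun_coe (b : MulAut R) ((c : MulAut R) ⟨x, hx⟩))
      inf_le_right
    obtain ⟨ψ, hψ, hψe⟩ := hf.exists_aut (fimg_eq_self_of_source_top hf)
    obtain ⟨g, hg, hge⟩ := mem_autInducedBy.1 (d.autT_le hψ)
    refine Subgroup.mem_subgroupOf.2 (mem_autInducedBy.2 ⟨g, hg, fun x => ?_⟩)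
    have hxT : (x : G) ∈ T := (Subgroup.mem_inf.1 x.2).2
    rw [← hge ⟨x, hxT⟩, ← autFun_coe ψ ⟨x, hxT⟩, ← autFun_coe (b : MulAut R) x]
    exact ((hψe x hxT).trans (hfe x x.2)).symm
  have : (⟨α, hα⟩ : E.autGroup R) ∈ N := (sup_le hle le_rfl) (htop ▸ Subgroup.mem_top _)
  exact Subgroup.mem_subgroupOf.1 this

end NormalCtx

end Cfsg.Agent.Fus
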