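import Mathlib
import Cfsg.Agent.Lib.Fus.ConstrainedNormalSubH

/-!
The normal subgroup built from a normal subsystem realizes it, and it is the only one.
-/

set_option autoImplicit false
set_option linter.unusedSectionVars false

namespace Cfsg.Agent.Fus

open Cfsg Cfsg.FusionSystem

universe u

variable {G : Type u} [Group G] [Finite G] {p : ℕ} [hp : Fact p.Prime]
  {S T : Subgroup G} {E : FusionSystem T}

namespace NormalCtx

theorem finiteT (_d : NormalCtx p S T E) : Finite T := inferInstance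

/-- A centric radical subgroup of a subsystem of `F` over `T` contains `R`. -/
theorem R_le_essential (d : NormalCtx p S T E) {D : FusionSystem T}
    (hD : D.IsSubsystemOf (groupFusionSystem S)) {P : Subgroup G} (hP : D.IsEssential p P) :
    coreIn p T ≤ P := by
  have hPT := hP.1.1
  refine le_of_pgroup_aut d.tPGroup hP.1 (radical_of_essential d.tPGroup hP) inf_le_right
    (fun s _ q hq => d.R_normal.conj_mem q hq s)
    ((autInducedBy (coreIn p T) P).subgroupOf (D.autGroup P)) ⟨fun c hc b => ?_⟩ ?_ fun α hα => hα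
  · obtain ⟨q, hq, hqe⟩ := mem_autInducedBy.1 (Subgroup.mem_subgroupOf.1 hc)
    obtain ⟨-, g, hg⟩ := isMap_group.1 (((mem_autGroup hPT).1 b.2).mono hD)
    refine Subgroup.mem_subgroupOf.2 (mem_autInducedBy.2
      ⟨g * q * g⁻¹, d.R_normal.conj_mem q hq g, fun x => ?_⟩)
    have e1 : ∀ z : P, (((b : MulAut P) z : P) : G) = g * z * g⁻¹ := fun z =>
      (autFun_coe (b : MulAut P) z).symm.trans (hg z z.2).1
    have e2 : (((b : MulAut P)⁻¹ x : P) : G) = g⁻¹ * x * g := by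
      have h := e1 ((b : MulAut P)⁻¹ x)
      rw [MulAut.apply_inv_self] at h
      rw [h]; group
    show (((b : MulAut P) ((c : MulAut P) ((b : MulAut P)⁻¹ x)) : P) : G) = _
    rw [e1, hqe, e2]
    group
  · exact (isPGroup_autInducedBy (d.tPGroup.to_le inf_le_right) P).comap_subtype

/-- An automorphism of `U ≥ R` fixing `R` pointwise has `p`-power order. -/
theorem stab_pow (d : NormalCtx p S T E) {U : Subgroup G} (hUT : U ≤ T) (hRU : coreIn p T ≤ U)
    (a : MulAut U) (ha : ∀ x : U, (x : G) ∈ coreIn p T → a x = x) : ∃ k, a ^ p ^ k = 1 := by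
  obtain ⟨j, hj⟩ := (d.tPGroup.to_le (inf_le_right : coreIn p T ≤ T)).exists_card_eq
  refine ⟨j, MulEquiv.ext fun u => ?_⟩
  have hw : ((u⁻¹ * a u : U) : G) ∈ coreIn p T := by
    refine d.cent_le (hUT (SetLike.coe_mem _)) fun r hr => ?_
    have hr' : (u : G) * r * (u : G)⁻¹ ∈ coreIn p T := d.R_normal.conj_mem r hr u
    have h1 : a (u * ⟨r, hRU hr⟩ * u⁻¹) = u * ⟨r, hRU hr⟩ * u⁻¹ := ha _ hr'
    rw [map_mul, map_mul, map_inv, ha ⟨r, hRU hr⟩ hr] at h1
    refine congrArg Subtype.val (show u⁻¹ * a u * ⟨r, hRU hr⟩ = ⟨r, hRU hr⟩ * (u⁻¹ * a u) from ?_)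
    calc u⁻¹ * a u * ⟨r, hRU hr⟩ = u⁻¹ * (a u * ⟨r, hRU hr⟩ * (a u)⁻¹) * a u := by group
      _ = u⁻¹ * (u * ⟨r, hRU hr⟩ * u⁻¹) * a u := by rw [h1]
      _ = ⟨r, hRU hr⟩ * (u⁻¹ * a u) := by group
  have hn : ∀ n : ℕ, (a ^ n) u = u * (u⁻¹ * a u) ^ n := by
    intro n
    induction n with
    | zero => simp
    | succ n ih =>
      rw [pow_succ', MulAut.mul_apply, ih, map_mul, map_pow, ha _ hw, pow_succ', ← mul_assoc u,
        mul_inv_cancel_left]
  rw [hn, show (u⁻¹ * a u) ^ p ^ j = 1 from Subtype.ext (by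
    rw [← hj, SubgroupClass.coe_pow]
    exact congrArg Subtype.val
      (pow_card_eq_one' (x := (⟨_, hw⟩ : coreIn p T)))), mul_one, MulAut.one_apply]

theorem ofH_le_group (d : NormalCtx p S T E) :
    (fusionSystemOfSubgroup d.H T d.T_le_H).IsSubsystemOf (groupFusionSystem S) := by
  rintro P φ ⟨hP, hφ, g, -, hg⟩
  exact ⟨hP.trans d.le_S, fun x => d.le_S (hφ x), g, hg⟩

/-- The automorphisms induced by `H` lie in `E`. -/
theorem autH_le (d : NormalCtx p S T E) {U : Subgroup G} (hUT : U ≤ T) (hRU : coreIn p T ≤ U)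
    (hUn : (fusionSystemOfSubgroup d.H T d.T_le_H).IsFullyNormalized U) :
    autInducedBy d.H U ≤ E.autGroup U := by
  intro α hα
  obtain ⟨h, hhH, hhe⟩ := mem_autInducedBy.1 hα
  have hhN := mem_normalizer_of_conj_aut hhe
  suffices hmem : (⟨h, hhN⟩ : Subgroup.normalizer (U : Set G)) ∈
      (E.autGroup U).comap U.normalizerMonoidHom by
    rw [show α = U.normalizerMonoidHom ⟨h, hhN⟩ from MulEquiv.ext fun x => Subtype.ext (hhe x)]
    exact hmem
  have hUS : U ≤ S := hUT.trans d.le_S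
  have hcF : ∀ n : Subgroup.normalizer (U : Set G),
      U.normalizerMonoidHom n ∈ (groupFusionSystem S).autGroup U := fun n => by
    refine (mem_autGroup hUS).2 (isMap_group.2 ⟨hUS, n, fun x hx => ?_⟩)
    exact ⟨autFun_coe (U.normalizerMonoidHom n) ⟨x, hx⟩,
      hUS ((Subgroup.mem_normalizer_iff.1 n.2 x).1 hx)⟩
  refine mem_of_parts (p := p) _ (fun v hv hvo => ?_) fun v hv hvk => ?_
  · -- the part of order prime to `p`
    have hvH : (v : G) ∈ d.H := by
      obtain ⟨i, rfl⟩ := Subgroup.mem_zpowers_iff.1 hv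
      rw [SubgroupClass.coe_zpow]
      exact d.H.zpow_mem hhH i
    have hvK : IsMap E (coreIn p T) (fun x => (v : G) * x * (v : G)⁻¹) := (d.H_le_K hvH).2
    have hfimg : fimg (fun x => (v : G) * x * (v : G)⁻¹) (coreIn p T) = coreIn p T :=
      Subgroup.eq_of_le_of_card_ge (fimg_le fun x hx => d.R_normal.conj_mem x hx v)
        hvK.card_fimg.ge
    have hrec := receptive_of_fullyNormalized d.tPGroup d.satE d.fullyNormalized_R
    obtain ⟨f, hf, hfe⟩ := receptive_extend hrec hvK hfimg (N := U) (fun u hu => by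
      refine ⟨d.normalizerIn_R.ge (hUT hu), (v : G) * u * (v : G)⁻¹,
        hUT ((Subgroup.mem_normalizer_iff.1 v.2 u).1 hu), fun x _ => by group⟩) hRU
    have hw : ∀ u ∈ U, ((v : G) * u * (v : G)⁻¹)⁻¹ * f u ∈ coreIn p T := fun u hu => by
      refine d.cent_le (T.mul_mem (T.inv_mem (hUT ((Subgroup.mem_normalizer_iff.1 v.2 u).1 hu)))
        (hf.apply_mem hu)) fun r hr => ?_
      have hr1 : (v : G)⁻¹ * r * v ∈ coreIn p T := by
        simpa using d.R_normal.conj_mem r hr (v : G)⁻¹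
      have h1 := hf.map_conj hu (hRU hr1)
      rw [hfe _ hr1, hfe _ (d.R_normal.conj_mem _ hr1 u)] at h1
      generalize f u = y at h1 ⊢
      calc ((v : G) * u * (v : G)⁻¹)⁻¹ * y * r
          = ((v : G) * u * (v : G)⁻¹)⁻¹ * (y * ((v : G) * ((v : G)⁻¹ * r * v) * (v : G)⁻¹) * y⁻¹)
            * y := by group
        _ = ((v : G) * u * (v : G)⁻¹)⁻¹ *
            ((v : G) * (u * ((v : G)⁻¹ * r * v) * u⁻¹) * (v : G)⁻¹) * y := by rw [h1]
        _ = r * (((v : G) * u * (v : G)⁻¹)⁻¹ * y) := by group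
    have hfU : fimg f U = U := Subgroup.eq_of_le_of_card_ge (fimg_le fun u hu => by
      rw [show f u = (v : G) * u * (v : G)⁻¹ * (((v : G) * u * (v : G)⁻¹)⁻¹ * f u) by group]
      exact U.mul_mem ((Subgroup.mem_normalizer_iff.1 v.2 u).1 hu) (hRU (hw u hu)))
      hf.card_fimg.ge
    obtain ⟨χ, hχ, hχe⟩ := hf.exists_aut hfU
    obtain ⟨k, hk⟩ := d.stab_pow hUT hRU ((U.normalizerMonoidHom v)⁻¹ * χ) fun x hx => by
      rw [MulAut.mul_apply, ← MulEquiv.eq_symm_apply]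
      refine Subtype.ext ?_
      show ((χ x : U) : G) = (v : G) * x * (v : G)⁻¹
      rw [← autFun_coe χ x, hχe x x.2, hfe x hx]
    let B : Subgroup ((groupFusionSystem S).autGroup U) := (E.autGroup U).subgroupOf _
    haveI hB : B.Normal := ⟨fun b hb a => Subgroup.mem_subgroupOf.2
      (autGroup_conj_mem d.inv hUT a.2 (Subgroup.mem_subgroupOf.1 hb))⟩
    let π := QuotientGroup.mk' B
    let c : (groupFusionSystem S).autGroup U := ⟨_, hcF v⟩
    let χ' : (groupFusionSystem S).autGroup U := ⟨χ, autGroup_mono d.inv.1 U hχ⟩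
    have h1 : π (c⁻¹ * χ') ^ p ^ k = 1 := by
      rw [← map_pow, show (c⁻¹ * χ') ^ p ^ k = 1 from Subtype.ext hk, map_one]
    have h2 : π χ' = 1 := (QuotientGroup.eq_one_iff _).2 (Subgroup.mem_subgroupOf.2 hχ)
    rw [map_mul, h2, mul_one, map_inv, inv_pow, inv_eq_one] at h1
    have h3 : π c ^ orderOf v = 1 := by
      rw [← map_pow, show c ^ orderOf v = 1 from Subtype.ext (by
        show (U.normalizerMonoidHom v) ^ orderOf v = 1
        rw [← map_pow, pow_orderOf_eq_one, map_one]), map_one]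
    have h4 := pow_gcd_eq_one.2 ⟨h1, h3⟩
    rw [(Nat.Coprime.pow_left k (hp.out.coprime_iff_not_dvd.2 hvo)).gcd_eq_one, pow_one] at h4
    exact Subgroup.mem_subgroupOf.1 ((QuotientGroup.eq_one_iff c).1 h4)
  · -- the `p`-part is conjugate into `T`
    obtain ⟨k, hk⟩ := hvk
    have hvH : (v : G) ∈ d.H := by
      obtain ⟨i, rfl⟩ := Subgroup.mem_zpowers_iff.1 hv
      rw [SubgroupClass.coe_zpow]
      exact d.H.zpow_mem hhH i
    have hsyl := isSylowOf_normalizerIn d.sylow_H hUn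
    have hz : IsPGroup p (Subgroup.zpowers (v : G)) := by
      refine IsPGroup.of_card_dvd_pow (n := k) ?_
      rw [Nat.card_zpowers]
      exact orderOf_dvd_of_pow_eq_one (by simpa using congrArg Subtype.val hk)
    obtain ⟨n, hn, hnle⟩ := hsyl.exists_conj_le hz
      (Subgroup.zpowers_le.2 (Subgroup.mem_inf.2 ⟨hvH, v.2⟩))
    obtain ⟨htT, htN⟩ := mem_normalizerIn.1 (hnle ⟨_, Subgroup.mem_zpowers _, rfl⟩)
    let n' : Subgroup.normalizer (U : Set G) := ⟨n, (Subgroup.mem_inf.1 hn).2⟩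
    have ht : U.normalizerMonoidHom (n' * v * n'⁻¹) ∈ E.autGroup U := by
      refine autInducedBy_le_autGroup E hUT (mem_autInducedBy.2
        ⟨((n' * v * n'⁻¹ : Subgroup.normalizer (U : Set G)) : G), htT, fun x => rfl⟩)
    have h1 := autGroup_conj_mem d.inv hUT (hcF n'⁻¹) ht
    rw [← map_inv, ← map_mul, ← map_mul, inv_inv,
      show n'⁻¹ * (n' * v * n'⁻¹) * n' = v by group] at h1
    exact h1

/-- The maps of `F_T(H)` lie in `E`. -/
theorem isMap_E (d : NormalCtx p S T E) {P : Subgroup G} {f : G → G}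
    (hf : IsMap (fusionSystemOfSubgroup d.H T d.T_le_H) P f) : IsMap E P f := by
  refine alperin d.tPGroup (isSaturated_ofSubgroup d.sylow_H d.T_le_H) (fun P f => IsMap E P f)
    (fun P f g h hc => h.congr hc) (fun P Q f g _ _ hm h1 h2 => h1.comp h2 hm)
    (fun P Q f _ hPQ h => h.res hPQ) (fun α hα => ?_) (fun U hU α hα => ?_) hf
  · rw [autGroup_ofSubgroup le_rfl] at hα
    exact (mem_autGroup le_rfl).1 (d.autH_le le_rfl inf_le_right (fullyNormalized_self _) hα)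
  · rw [autGroup_ofSubgroup hU.1.1] at hα
    exact (mem_autGroup hU.1.1).1
      (d.autH_le hU.1.1 (d.R_le_essential d.ofH_le_group hU) hU.2.1 hα)

/-- The automorphisms in `E` are induced by `H`. -/
theorem autE_le (d : NormalCtx p S T E) {U : Subgroup G} (hUT : U ≤ T) (hRU : coreIn p T ≤ U)
    (hUn : E.IsFullyNormalized U) : E.autGroup U ≤ autInducedBy d.H U := by
  intro φ hφ
  set R := coreIn p T with hR
  have hconj : ∀ a ∈ E.autGroup U, ∀ x : U, (x : G) ∈ R → ((a x : U) : G) ∈ R := fun a ha x hx => by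
    obtain ⟨-, g, hg⟩ := isMap_group.1 (((mem_autGroup hUT).1 ha).mono d.inv.1)
    rw [← autFun_coe a x, (hg x x.2).1]
    exact d.R_normal.conj_mem x hx g
  have hφm := (mem_autGroup hUT).1 hφ
  have hm : IsMap E R (autFun φ) := hφm.res hRU
  have himg : fimg (autFun φ) R = R := Subgroup.eq_of_le_of_card_ge (fimg_le fun x hx => by
    rw [show autFun φ x = ((φ ⟨x, hRU hx⟩ : U) : G) from autFun_coe φ ⟨x, hRU hx⟩]
    exact hconj φ hφ _ hx) hm.card_fimg.ge
  obtain ⟨β, hβ, hβe⟩ := hm.exists_aut himg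
  obtain ⟨h, hh, hhe⟩ := mem_autInducedBy.1 (d.autR_le hβ)
  have hφR : ∀ r (hr : r ∈ R), ((φ ⟨r, hRU hr⟩ : U) : G) = h * r * h⁻¹ := fun r hr => by
    rw [← hhe ⟨r, hr⟩, ← autFun_coe φ ⟨r, hRU hr⟩, ← autFun_coe β ⟨r, hr⟩, hβe r hr]
  have hw : ∀ u : U, ((φ u : U) : G)⁻¹ * (h * u * h⁻¹) ∈ R := fun u => by
    refine d.cent_H (d.H.mul_mem (d.H.inv_mem (d.T_le_H (hUT (φ u).2)))
      (d.H_normal.conj_mem _ (d.T_le_H (hUT u.2)) h)) fun r hr => ?_
    have hr1 : h⁻¹ * r * h ∈ R := by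
      have := d.R_normal.conj_mem r hr h⁻¹
      rwa [inv_inv] at this
    have h1 : ((φ (u * ⟨_, hRU hr1⟩ * u⁻¹) : U) : G) =
        ((φ u * φ ⟨_, hRU hr1⟩ * (φ u)⁻¹ : U) : G) := by rw [map_mul, map_mul, map_inv]
    rw [show u * ⟨_, hRU hr1⟩ * u⁻¹ =
      (⟨(u : G) * (h⁻¹ * r * h) * (u : G)⁻¹, hRU (d.R_normal.conj_mem _ hr1 u)⟩ : U) from rfl,
      hφR _ (d.R_normal.conj_mem _ hr1 u)] at h1
    push_cast at h1
    rw [hφR _ hr1] at h1
    generalize ((φ u : U) : G) = y at h1 ⊢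
    calc y⁻¹ * (h * u * h⁻¹) * r
        = y⁻¹ * (h * (u * (h⁻¹ * r * h) * (u : G)⁻¹) * h⁻¹) * (h * u * h⁻¹) := by group
      _ = y⁻¹ * (y * (h * (h⁻¹ * r * h) * h⁻¹) * y⁻¹) * (h * u * h⁻¹) := by rw [h1]
      _ = r * (y⁻¹ * (h * u * h⁻¹)) := by group
  have hhU : h ∈ Subgroup.normalizer (U : Set G) := by
    have hle : U.map (MulAut.conj h).toMonoidHom = U := by
      refine Subgroup.eq_of_le_of_card_ge ?_ (Subgroup.card_map_of_injective
        (f := (MulAut.conj h).toMonoidHom) (MulAut.conj h).injective).ge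
      rintro _ ⟨u, hu, rfl⟩
      show h * u * h⁻¹ ∈ U
      have h1 := U.mul_mem (φ ⟨u, hu⟩).2 (hRU (hw ⟨u, hu⟩))
      rwa [mul_inv_cancel_left] at h1
    refine mem_normalizer_of_forall (fun x hx => hle.le ⟨x, hx, rfl⟩) fun x hx => ?_
    obtain ⟨y, hy, hye⟩ := hle.ge hx
    rw [← hye]
    show h⁻¹ * (h * y * h⁻¹) * h ∈ U
    simpa [mul_assoc] using hy
  let c : MulAut U := U.normalizerMonoidHom ⟨h, hhU⟩
  have hcE : c ∈ E.autGroup U := by
    refine (mem_autGroup hUT).2 (d.isMap_E (isMap_ofSubgroup.2 ⟨hUT, h, hh, fun x hx => ?_⟩))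
    exact ⟨autFun_coe c ⟨x, hx⟩, hUT ((Subgroup.mem_normalizer_iff.1 hhU x).1 hx)⟩
  let A : Subgroup (E.autGroup U) :=
    { carrier := {a | ∀ x : U, (x : G) ∈ R → (a : MulAut U) x = x}
      one_mem' := fun x _ => rfl
      mul_mem' := fun {a b} ha hb x hx => by
        show (a : MulAut U) ((b : MulAut U) x) = x
        rw [hb x hx, ha x hx]
      inv_mem' := fun {a} ha x hx => by
        show (a : MulAut U).symm x = x
        rw [MulEquiv.symm_apply_eq, ha x hx] }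
  have hAn : A.Normal := ⟨fun a ha b x hx => by
    show (b : MulAut U) ((a : MulAut U) ((b : MulAut U)⁻¹ x)) = x
    rw [ha _ (hconj _ ((E.autGroup U).inv_mem b.2) x hx), MulAut.apply_inv_self]⟩
  have hAp : IsPGroup p A := fun a => by
    obtain ⟨k, hk⟩ := d.stab_pow hUT hRU ((a : E.autGroup U) : MulAut U) a.2
    exact ⟨k, Subtype.ext (Subtype.ext hk)⟩
  obtain ⟨-, P, hP⟩ := fullyAutomized_of_fullyNormalized d.tPGroup d.satE hUn
  have hmem : (⟨c⁻¹ * φ, (E.autGroup U).mul_mem ((E.autGroup U).inv_mem hcE) hφ⟩ :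
      E.autGroup U) ∈ A := fun x hx => by
    show c⁻¹ (φ x) = x
    rw [← MulEquiv.eq_symm_apply]
    exact Subtype.ext (hφR x hx)
  haveI := hAn
  have h2 := hAp.le_sylow_of_normal P hmem
  rw [hP, Subgroup.mem_subgroupOf] at h2
  have h3 := (autInducedBy d.H U).mul_mem (mem_autInducedBy.2 ⟨h, hh, fun x => rfl⟩ : c ∈ _)
    (autInducedBy_mono d.T_le_H U h2)
  rwa [mul_inv_cancel_left] at h3

/-- The maps of `E` lie in `F_T(H)`. -/
theorem isMap_H (d : NormalCtx p S T E) {P : Subgroup G} {f : G → G} (hf : IsMap E P f) :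
    IsMap (fusionSystemOfSubgroup d.H T d.T_le_H) P f := by
  refine alperin d.tPGroup d.satE (fun P f => IsMap (fusionSystemOfSubgroup d.H T d.T_le_H) P f)
    (fun P f g h hc => h.congr hc) (fun P Q f g _ _ hm h1 h2 => h1.comp h2 hm)
    (fun P Q f _ hPQ h => h.res hPQ) (fun α hα => ?_) (fun U hU α hα => ?_) hf
  · refine (mem_autGroup le_rfl).1 ?_
    rw [autGroup_ofSubgroup le_rfl]
    exact d.autE_le le_rfl inf_le_right (fullyNormalized_self _) hα
  · refine (mem_autGroup hU.1.1).1 ?_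
    rw [autGroup_ofSubgroup hU.1.1]
    exact d.autE_le hU.1.1 (d.R_le_essential d.inv.1 hU) hU.2.1 hα

theorem hom_eq (d : NormalCtx p S T E) (P : Subgroup G) :
    E.Hom P = (fusionSystemOfSubgroup d.H T d.T_le_H).Hom P :=
  Set.ext fun _ => ⟨fun h => mem_hom_iff.2 (d.isMap_H (isMap_toFun h)),
    fun h => mem_hom_iff.2 (d.isMap_E (isMap_toFun h))⟩

/-- Uniqueness of the normal subgroup. -/
theorem unique (d : NormalCtx p S T E) {H' : Subgroup G} (hn : H'.Normal) (hTH : T ≤ H')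
    (hsyl : IsSylowOf p T H')
    (he : ∀ P : Subgroup G, E.Hom P = (fusionSystemOfSubgroup H' T hTH).Hom P) : H' = d.H := by
  haveI := Transfer.pCore_normal' p G
  haveI := d.H_normal
  have hR : H' ⊓ pCore p G ≤ coreIn p T := by
    intro x hx
    obtain ⟨g, hg, hgle⟩ := hsyl.exists_conj_le
      ((Transfer.pCore_isPGroup p G).to_le (inf_le_right : H' ⊓ pCore p G ≤ _)) inf_le_left
    refine Subgroup.mem_inf.2 ⟨(Subgroup.mem_inf.1 hx).2, ?_⟩
    obtain ⟨hxH, hxQ⟩ := Subgroup.mem_inf.1 hx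
    have h1 : g * (g⁻¹ * x * g) * g⁻¹ ∈ T := hgle ⟨g⁻¹ * x * g, Subgroup.mem_inf.2
      ⟨H'.mul_mem (H'.mul_mem (H'.inv_mem hg) hxH) hg,
        by simpa using Subgroup.Normal.conj_mem inferInstance x hxQ g⁻¹⟩, rfl⟩
    simpa [mul_assoc] using h1
  have hK : ∀ h ∈ H', h ∈ d.K := fun h hh => by
    refine ⟨fun q hq => hR (Subgroup.mem_inf.2 ⟨?_, (pCore p G).mul_mem
      (Subgroup.Normal.conj_mem inferInstance q hq h) ((pCore p G).inv_mem hq)⟩), ?_⟩
    · rw [show h * q * h⁻¹ * q⁻¹ = h * (q * h⁻¹ * q⁻¹) by group]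
      exact H'.mul_mem hh (hn.conj_mem _ (H'.inv_mem hh) q)
    · have h1 : IsMap (fusionSystemOfSubgroup H' T hTH) (coreIn p T) (fun x => h * x * h⁻¹) :=
        isMap_ofSubgroup.2 ⟨inf_le_right, h, hh, fun x hx =>
          ⟨rfl, (Subgroup.mem_inf.1 (d.R_normal.conj_mem x hx h)).2⟩⟩
      exact h1.mono (fun P => (he P).symm.subset)
  have hle : H' ≤ d.H := by
    intro h hh
    refine mem_of_parts (p := p) d.H (fun v hv hvo => d.mem_H_of_p'
      (hK v (Subgroup.zpowers_le.2 hh hv)) hvo) fun v hv hvk => ?_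
    obtain ⟨k, hk⟩ := hvk
    have hz : IsPGroup p (Subgroup.zpowers v) := by
      refine IsPGroup.of_card_dvd_pow (n := k) ?_
      rw [Nat.card_zpowers]
      exact orderOf_dvd_of_pow_eq_one hk
    obtain ⟨g, -, hgle⟩ := hsyl.exists_conj_le hz
      (Subgroup.zpowers_le.2 (Subgroup.zpowers_le.2 hh hv))
    have h1 : g * v * g⁻¹ ∈ T := hgle ⟨v, Subgroup.mem_zpowers v, rfl⟩
    simpa [mul_assoc] using d.H_normal.conj_mem _ (d.T_le_H h1) g⁻¹
  refine le_antisymm hle fun h hh => ?_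
  obtain ⟨α, -, hα⟩ := d.exists_conjAut h
  have hαE : α ∈ E.autGroup (coreIn p T) := (mem_autGroup inf_le_right).2
    ((d.H_le_K hh).2.congr fun x hx => ((autFun_coe α ⟨x, hx⟩).trans (hα ⟨x, hx⟩)).symm)
  obtain ⟨-, h', hh', he'⟩ := isMap_ofSubgroup.1
    (((mem_autGroup inf_le_right).1 hαE).mono fun P => (he P).subset)
  have h1 : h'⁻¹ * h ∈ coreIn p T := by
    refine d.cent_H (d.H.mul_mem (d.H.inv_mem (hle hh')) hh) fun r hr => ?_
    have h2 := ((autFun_coe α ⟨r, hr⟩).trans (hα ⟨r, hr⟩)).symm.trans (he' r hr).1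
    calc h'⁻¹ * h * r = h'⁻¹ * (h * r * h⁻¹) * h := by group
      _ = h'⁻¹ * (h' * r * h'⁻¹) * h := by rw [h2]
      _ = r * (h'⁻¹ * h) := by group
  simpa using H'.mul_mem hh' (hTH (Subgroup.mem_inf.1 h1).2)

end NormalCtx

end Cfsg.Agent.Fus
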