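import Cfsg.Agent.Lib.Fus.Replacement

/-!
Glauberman's replacement theorem for odd `p`.
-/

set_option autoImplicit false
set_option linter.style.haveILetI false

open scoped Classical

namespace Cfsg.Agent.Fus

open Subgroup

variable {Ω : Type*} [Group Ω]

/-- An element of an odd order group with trivial square is trivial. -/
theorem eq_one_of_sq_eq_one {p : ℕ} [Fact p.Prime] (hp : p ≠ 2) {R : Subgroup Ω}
    (hR : IsPGroup p R) {x : Ω} (hx : x ∈ R) (h : x * x = 1) : x = 1 := by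
  obtain ⟨k, hk⟩ := IsPGroup.iff_orderOf.1 hR ⟨x, hx⟩
  have h2 : orderOf (⟨x, hx⟩ : R) ∣ 2 :=
    orderOf_dvd_of_pow_eq_one (Subtype.ext (by rw [SubgroupClass.coe_pow, sq]; exact h))
  rw [hk] at h2
  have hc : Nat.Coprime (p ^ k) 2 :=
    ((Nat.coprime_primes Fact.out Nat.prime_two).2 hp).pow_left k
  have := hc.eq_one_of_dvd h2
  rw [this] at hk
  exact congrArg Subtype.val (orderOf_eq_one_iff.1 hk)

/-- Glauberman's replacement theorem. -/
theorem glauberman_replacement {p : ℕ} [Fact p.Prime] (hp : p ≠ 2) {R A B : Subgroup Ω} [Finite R]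
    (hRp : IsPGroup p R) (hAR : A ≤ R) (hBR : B ≤ R) (hAB : A ≤ Subgroup.normalizer (B : Set Ω))
    (hAc : ∀ x ∈ A, ∀ y ∈ A, x * y = y * x)
    (hBz : ∀ x ∈ B, ∀ y ∈ B, ∀ z ∈ B, Commute (x * y * x⁻¹ * y⁻¹) z)
    (hBA : ∀ x ∈ B, ∀ y ∈ B, x * y * x⁻¹ * y⁻¹ ∈ A)
    (hnot : ¬ B ≤ Subgroup.normalizer (A : Set Ω)) :
    ∃ A' : Subgroup Ω, A' ≤ R ∧ (∀ x ∈ A', ∀ y ∈ A', x * y = y * x) ∧
      Nat.card A ≤ Nat.card A' ∧ A ⊓ B < A' ⊓ B ∧ A' ≤ Subgroup.normalizer (A : Set Ω) ∧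
      ∀ K : Subgroup Ω, A ≤ K → B ≤ Subgroup.normalizer (K : Set Ω) → A' ≤ K := by
  set N := B ⊓ Subgroup.normalizer (A : Set Ω) with hN
  have hcB : ∀ {a v : Ω}, a ∈ A → v ∈ B → a * v * a⁻¹ ∈ B := fun {a v} ha hv =>
    (Subgroup.mem_normalizer_iff.1 (hAB ha) v).1 hv
  have hIN : A ⊓ B ≤ N := fun x hx => ⟨hx.2, Subgroup.le_normalizer hx.1⟩
  -- an element of `B` moved into `N` by all of `A`
  obtain ⟨v, hvB, hvN, hd⟩ : ∃ v ∈ B, v ∉ N ∧ ∀ a ∈ A, a * v * a⁻¹ * v⁻¹ ∈ N := by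
    have hYX : N ⊔ A < A ⊔ B := by
      refine lt_of_le_of_ne (sup_le (inf_le_left.trans le_sup_right) le_sup_left) fun e => hnot ?_
      intro u hu
      have h1 : u ∈ N ⊔ A := e ▸ Subgroup.mem_sup_right hu
      rw [← SetLike.mem_coe,
        Subgroup.coe_mul_of_left_le_normalizer_right N A inf_le_right] at h1
      obtain ⟨n, hn, a, ha, rfl⟩ := h1
      have haB : a ∈ B := (B.mul_mem_cancel_left hn.1).1 hu
      exact (N.mul_mem hn (hIN ⟨ha, haB⟩)).2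
    have hXR : A ⊔ B ≤ R := sup_le hAR hBR
    haveI := finite_of_le hXR
    obtain ⟨w, hw, hwY⟩ :=
      SetLike.lt_iff_le_and_exists.1 (lt_normalizerIn (hRp.to_le hXR) hYX) |>.2
    have hwn : w ∈ Subgroup.normalizer ((N ⊔ A : Subgroup Ω) : Set Ω) := hw.2
    have hwX : w ∈ A ⊔ B := hw.1
    rw [← SetLike.mem_coe, Subgroup.coe_mul_of_left_le_normalizer_right A B hAB] at hwX
    obtain ⟨a, ha, v, hv, rfl⟩ := hwX
    have haY : a ∈ N ⊔ A := Subgroup.mem_sup_right ha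
    have hvn : v ∈ Subgroup.normalizer ((N ⊔ A : Subgroup Ω) : Set Ω) := by
      rw [show v = a⁻¹ * (a * v) by group]
      exact mul_mem (Subgroup.inv_mem _ (Subgroup.le_normalizer haY)) hwn
    refine ⟨v, hv, fun h => hwY (mul_mem haY (Subgroup.mem_sup_left h)), fun b hb => ?_⟩
    have hbY : b ∈ N ⊔ A := Subgroup.mem_sup_right hb
    have h1 : b * v * b⁻¹ * v⁻¹ ∈ N ⊔ A := by
      rw [show b * v * b⁻¹ * v⁻¹ = b * (v * b⁻¹ * v⁻¹) by group]
      exact mul_mem hbY ((Subgroup.mem_normalizer_iff.1 hvn _).1 (inv_mem hbY))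
    have h2 : b * v * b⁻¹ * v⁻¹ ∈ B := B.mul_mem (hcB hb hv) (B.inv_mem hv)
    rw [← SetLike.mem_coe, Subgroup.coe_mul_of_left_le_normalizer_right N A inf_le_right] at h1
    obtain ⟨n, hn, c, hc, e⟩ := h1
    have e : n * c = b * v * b⁻¹ * v⁻¹ := e
    have hcB' : c ∈ B := (B.mul_mem_cancel_left hn.1).1 (e.symm ▸ h2)
    rw [← e]
    exact N.mul_mem hn (hIN ⟨hc, hcB'⟩)
  set W := A ⊓ B with hW
  let d : Ω → Ω := fun a => a * v * a⁻¹ * v⁻¹
  have hdB : ∀ a ∈ A, d a ∈ B := fun a ha => (hd a ha).1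
  -- `A` fixes the commutators of `B`
  have hAfix : ∀ a ∈ A, ∀ x ∈ B, ∀ y ∈ B,
      a * (x * y * x⁻¹ * y⁻¹) * a⁻¹ = x * y * x⁻¹ * y⁻¹ := fun a ha x hx y hy => by
    rw [hAc a ha _ (hBA x hx y hy), mul_inv_cancel_right]
  -- `W` centralises the translates of `v`
  have hcd : ∀ a ∈ A, ∀ c ∈ W, d a * c = c * d a := by
    intro a ha c hc
    obtain ⟨hcA, hcB'⟩ := hc
    set z := v * c * v⁻¹ * c⁻¹ with hz
    have hzc : ∀ x ∈ B, Commute z x := fun x hx => hBz v hvB c hcB' x hx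
    have h1 : d a * v * c * (d a * v)⁻¹ = z * c := by
      have hca : a⁻¹ * c * a = c := by rw [mul_assoc, hAc c hcA a ha, inv_mul_cancel_left]
      have hfx := hAfix a ha v hvB c hcB'
      calc d a * v * c * (d a * v)⁻¹
          = a * v * (a⁻¹ * c * a) * v⁻¹ * a⁻¹ := by show _ = _; simp only [d]; group
        _ = a * z * a⁻¹ * (a * c * a⁻¹) := by rw [hca, hz]; group
        _ = z * c := by rw [hfx, hAc a ha c hcA, mul_inv_cancel_right]
    have h2 : d a * (z * c) * (d a)⁻¹ = z * c := by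
      calc d a * (z * c) * (d a)⁻¹ = d a * v * c * (d a * v)⁻¹ := by rw [hz]; group
        _ = z * c := h1
    have h3 : z * (d a * c * (d a)⁻¹) = z * c := by
      rw [← mul_assoc, ← mul_assoc, (hzc _ (hdB a ha)).eq, mul_assoc _ z c]
      exact h2
    exact mul_inv_eq_iff_eq_mul.1 (mul_left_cancel h3)
  -- the cocycle, commuting modulo `W`
  have hprod : ∀ a ∈ A, ∀ b ∈ A, d (a * b) = a * d b * a⁻¹ * d a := fun a _ b _ => by
    simp only [d]; group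
  have hmod : ∀ a ∈ A, ∀ b ∈ A, ∃ w ∈ W, a * d b * a⁻¹ = w * d b := fun a ha b hb => by
    refine ⟨a * d b * a⁻¹ * (d b)⁻¹, ⟨?_, B.mul_mem (hcB ha (hdB b hb)) (B.inv_mem (hdB b hb))⟩,
      (inv_mul_cancel_right _ _).symm⟩
    rw [show a * d b * a⁻¹ * (d b)⁻¹ = a * (d b * a⁻¹ * (d b)⁻¹) by group]
    exact A.mul_mem ha ((Subgroup.mem_normalizer_iff.1 (hd b hb).2 _).1 (A.inv_mem ha))
  let Γ : Ω → Ω → Ω := fun a b => d a * d b * (d a)⁻¹ * (d b)⁻¹
  have hΓleft : ∀ a ∈ A, ∀ a' ∈ A, ∀ b ∈ A, Γ (a * a') b = Γ a' b * Γ a b := by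
    intro a ha a' ha' b hb
    obtain ⟨w, hw, e⟩ := hmod a ha a' ha'
    simp only [Γ]
    rw [hprod a ha a' ha', e]
    have hwb : d b * w = w * d b := hcd b hb w hw
    have hwa' : d a' * w = w * d a' := hcd a' ha' w hw
    have hz : Commute (d a * d b * (d a)⁻¹ * (d b)⁻¹) (d a') :=
      hBz _ (hdB a ha) _ (hdB b hb) _ (hdB a' ha')
    have hz' : Commute (d a * d b * (d a)⁻¹ * (d b)⁻¹) (d a' * d b * (d a')⁻¹ * (d b)⁻¹) :=
      hBz _ (hdB a ha) _ (hdB b hb) _ (B.mul_mem (B.mul_mem (B.mul_mem (hdB a' ha') (hdB b hb))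
        (B.inv_mem (hdB a' ha'))) (B.inv_mem (hdB b hb)))
    set z := d a * d b * (d a)⁻¹ * (d b)⁻¹ with hzdef
    have hab : d a * d b * (d a)⁻¹ = z * d b := by rw [hzdef]; group
    calc w * d a' * d a * d b * (w * d a' * d a)⁻¹ * (d b)⁻¹
        = w * (d a' * (d a * d b * (d a)⁻¹) * (d a')⁻¹) * w⁻¹ * (d b)⁻¹ := by group
      _ = w * (z * (d a' * d b * (d a')⁻¹ * (d b)⁻¹) * d b) * w⁻¹ * (d b)⁻¹ := by
          rw [hab, ← mul_assoc (d a') z, ← hz.eq]; group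
      _ = w * (z * (d a' * d b * (d a')⁻¹ * (d b)⁻¹)) * (d b * w⁻¹ * (d b)⁻¹) := by group
      _ = w * (z * (d a' * d b * (d a')⁻¹ * (d b)⁻¹)) * w⁻¹ := by
          rw [show d b * w⁻¹ * (d b)⁻¹ = w⁻¹ from by
            rw [(Commute.inv_right (hwb : Commute (d b) w)).eq, mul_inv_cancel_right]]
      _ = (d a' * d b * (d a')⁻¹ * (d b)⁻¹) * z := by
          have hzw : Commute z w := hBz _ (hdB a ha) _ (hdB b hb) _ hw.2
          have hzw' : Commute (d a' * d b * (d a')⁻¹ * (d b)⁻¹) w :=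
            hBz _ (hdB a' ha') _ (hdB b hb) _ hw.2
          rw [← (hzw.mul_left hzw').eq, mul_inv_cancel_right, hz'.eq]
  have hΓinv : ∀ a ∈ A, ∀ b ∈ A, Γ a⁻¹ b = (Γ a b)⁻¹ := by
    intro a ha b hb
    have h := hΓleft a ha a⁻¹ (A.inv_mem ha) b hb
    rw [mul_inv_cancel, show Γ 1 b = 1 by simp [Γ, d]] at h
    exact eq_inv_of_mul_eq_one_left h.symm
  let φ : Ω → Ω := fun a => v * d a * v⁻¹ * (d a)⁻¹
  have hφ : ∀ a ∈ A, φ a ∈ R ∧ ∀ x ∈ B, Commute (φ a) x := fun a ha =>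
    ⟨hBR (B.mul_mem (B.mul_mem (B.mul_mem hvB (hdB a ha)) (B.inv_mem hvB)) (B.inv_mem (hdB a ha))),
      fun x hx => hBz v hvB _ (hdB a ha) x hx⟩
  have hφmul : ∀ a ∈ A, ∀ b ∈ A, φ (a * b) = Γ a⁻¹ b * φ b * φ a := by
    intro a ha b hb
    have ha' := A.inv_mem ha
    have hcomm : ∀ x ∈ B, Commute (v * (a * d b * a⁻¹) * v⁻¹ * (a * d b * a⁻¹)⁻¹) x :=
      fun x hx => hBz v hvB _ (hcB ha (hdB b hb)) x hx
    have h1 : φ (a * b) = v * (a * d b * a⁻¹) * v⁻¹ * (a * d b * a⁻¹)⁻¹ * φ a := by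
      set u := a * d b * a⁻¹ with hu
      have h := ((hφ a ha).2 u (hcB ha (hdB b hb))).eq
      show v * d (a * b) * v⁻¹ * (d (a * b))⁻¹ = _
      rw [hprod a ha b hb, ← hu]
      calc v * (u * d a) * v⁻¹ * (u * d a)⁻¹ = v * u * v⁻¹ * φ a * u⁻¹ := by
            simp only [φ]; group
        _ = v * u * v⁻¹ * u⁻¹ * φ a := by
            have h' : φ a * u⁻¹ = u⁻¹ * φ a :=
              (Commute.inv_right (h : Commute (φ a) u)).eq
            rw [mul_assoc _ (φ a), h', ← mul_assoc]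
    rw [h1]
    congr 1
    have h2 := hAfix a⁻¹ ha' v hvB _ (hcB ha (hdB b hb))
    rw [← h2, inv_inv]
    have hda : a⁻¹ * v * a = d a⁻¹ * v := by simp only [d]; group
    have hΓz : Commute (d a⁻¹ * d b * (d a⁻¹)⁻¹ * (d b)⁻¹) (φ b) :=
      hBz _ (hdB _ ha') _ (hdB b hb) _ (B.mul_mem (B.mul_mem (B.mul_mem hvB (hdB b hb))
        (B.inv_mem hvB)) (B.inv_mem (hdB b hb)))
    calc a⁻¹ * (v * (a * d b * a⁻¹) * v⁻¹ * (a * d b * a⁻¹)⁻¹) * a
        = (a⁻¹ * v * a) * d b * (a⁻¹ * v * a)⁻¹ * (d b)⁻¹ := by group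
      _ = d a⁻¹ * φ b * d b * (d a⁻¹)⁻¹ * (d b)⁻¹ := by rw [hda]; simp only [φ]; group
      _ = φ b * (d a⁻¹ * d b * (d a⁻¹)⁻¹ * (d b)⁻¹) := by
          rw [← ((hφ b hb).2 _ (hdB _ ha')).eq]; group
      _ = Γ a⁻¹ b * φ b := hΓz.eq.symm
  have hsq : ∀ a ∈ A, ∀ b ∈ A, d a * d b = d b * d a := by
    intro a ha b hb
    have h1 : Γ b⁻¹ a * (φ a * φ b) = Γ a⁻¹ b * (φ b * φ a) :=
      (mul_assoc _ _ _).symm.trans ((hφmul b hb a ha).symm.trans
        ((congrArg φ (hAc b hb a ha)).trans ((hφmul a ha b hb).trans (mul_assoc _ _ _))))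
    rw [((hφ a ha).2 _ (show φ b ∈ B from B.mul_mem (B.mul_mem (B.mul_mem hvB (hdB b hb))
      (B.inv_mem hvB)) (B.inv_mem (hdB b hb)))).eq] at h1
    have h2 : Γ b⁻¹ a = Γ a⁻¹ b := mul_right_cancel h1
    rw [hΓinv a ha b hb, hΓinv b hb a ha, inv_inj] at h2
    have hanti : Γ b a = (Γ a b)⁻¹ := by simp only [Γ]; group
    rw [hanti] at h2
    have h3 : Γ a b = 1 := eq_one_of_sq_eq_one hp hRp (hBR (B.mul_mem (B.mul_mem
      (B.mul_mem (hdB a ha) (hdB b hb)) (B.inv_mem (hdB a ha))) (B.inv_mem (hdB b hb))))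
      (inv_eq_iff_mul_eq_one.1 h2)
    simp only [Γ] at h3
    rwa [← commutatorElement_def, commutatorElement_eq_one_iff_mul_comm] at h3
  set M := W ⊔ Subgroup.closure {y | ∃ a ∈ A, y = d a} with hM
  have hMN : M ≤ N := sup_le hIN ((Subgroup.closure_le N).2 fun y ⟨a, ha, e⟩ => e ▸ hd a ha)
  have hMB : M ≤ B := hMN.trans inf_le_left
  have hdM : ∀ a ∈ A, d a ∈ M := fun a ha => Subgroup.mem_sup_right (Subgroup.subset_closure
    (show d a ∈ {y | ∃ b ∈ A, y = d b} from ⟨a, ha, rfl⟩))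
  have hgenC : ∀ x : Ω, (∀ c ∈ W, x * c = c * x) → (∀ a ∈ A, x * d a = d a * x) →
      x ∈ Subgroup.centralizer (M : Set Ω) := fun x h₁ h₂ => by
    rw [hM, ← Subgroup.closure_eq W, ← Subgroup.closure_union, Subgroup.centralizer_closure,
      Subgroup.mem_centralizer_iff]
    rintro y (hy | ⟨a, ha, rfl⟩)
    · exact (h₁ y hy).symm
    · exact (h₂ a ha).symm
  have hMc : M ≤ Subgroup.centralizer (M : Set Ω) := by
    refine sup_le (fun c hc => hgenC c (fun c' hc' => hAc c hc.1 c' hc'.1) fun a ha =>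
      (hcd a ha c hc).symm) ((Subgroup.closure_le _).2 ?_)
    rintro _ ⟨a, ha, rfl⟩
    exact hgenC _ (fun c hc => hcd a ha c hc) (hsq a ha)
  set C := A ⊓ Subgroup.centralizer (M : Set Ω) with hC
  have hCM : C ≤ Subgroup.centralizer (M : Set Ω) := inf_le_right
  have hCn : C ≤ Subgroup.normalizer (M : Set Ω) :=
    hCM.trans (Subgroup.centralizer_le_normalizer _)
  refine ⟨C ⊔ M, sup_le (inf_le_left.trans hAR) (hMB.trans hBR), ?_, ?_, ?_,
    sup_le (inf_le_left.trans Subgroup.le_normalizer) (hMN.trans inf_le_right),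
    fun K hAK hBK => sup_le (inf_le_left.trans hAK) (sup_le (inf_le_left.trans hAK)
      ((Subgroup.closure_le K).2 fun y ⟨a, ha, e⟩ => e ▸ (by
        rw [show d a = a * (v * a⁻¹ * v⁻¹) by simp only [d]; group]
        exact K.mul_mem (hAK ha) ((Subgroup.mem_normalizer_iff.1 (hBK hvB) _).1
          (K.inv_mem (hAK ha))))))⟩
  · intro x hx y hy
    rw [← SetLike.mem_coe, Subgroup.coe_mul_of_left_le_normalizer_right C M hCn] at hx hy
    obtain ⟨c, hc, m, hm, rfl⟩ := hx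
    obtain ⟨c', hc', m', hm', rfl⟩ := hy
    have e1 : Commute c c' := hAc c hc.1 c' hc'.1
    have e2 : Commute m m' := Subgroup.mem_centralizer_iff.1 (hMc hm') m hm
    have e3 : Commute m c' := Subgroup.mem_centralizer_iff.1 (hCM hc') m hm
    have e4 : Commute m' c := Subgroup.mem_centralizer_iff.1 (hCM hc) m' hm'
    exact ((e1.mul_right e4.symm).mul_left (e3.mul_right e2)).eq
  · haveI := finite_of_le (S := R) hAR
    haveI := finite_of_le (S := R) (hMB.trans hBR)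
    have hkey : ∀ a ∈ A, ∀ b ∈ A, (d a)⁻¹ * d b ∈ W → a⁻¹ * b ∈ C := by
      intro a ha b hb hw
      have hab : a⁻¹ * b ∈ A := A.mul_mem (A.inv_mem ha) hb
      refine ⟨hab, hgenC _ (fun c hc => hAc _ hab c hc.1) fun c hc => ?_⟩
      set w := (d a)⁻¹ * d b with hwdef
      have hb' : d b = d a * w := by rw [hwdef]; group
      have hsw : ∀ e ∈ A, e * d c * e⁻¹ = c * d e * c⁻¹ * d c * (d e)⁻¹ := fun e he => by
        have h1 := hprod e he c hc
        rw [hAc e he c hc, hprod c hc e he] at h1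
        rw [h1]; group
      have hcw : c * w * c⁻¹ = w := by rw [hAc c hc w hw.1, mul_inv_cancel_right]
      have h : b * d c * b⁻¹ = a * d c * a⁻¹ := by
        rw [hsw b hb, hsw a ha, hb']
        have h' : w * d c * w⁻¹ = d c := by
          rw [← hcd c hc w hw, mul_inv_cancel_right]
        calc c * (d a * w) * c⁻¹ * d c * (d a * w)⁻¹
            = c * d a * c⁻¹ * (c * w * c⁻¹ * d c * w⁻¹) * (d a)⁻¹ := by group
          _ = c * d a * c⁻¹ * d c * (d a)⁻¹ := by rw [hcw, h']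
      calc a⁻¹ * b * d c = a⁻¹ * (b * d c * b⁻¹) * b := by group
        _ = d c * (a⁻¹ * b) := by rw [h]; group
    have hCA : C ≤ A := inf_le_left
    have hWM : W ≤ M := le_sup_left
    let ψ : A → M ⧸ W.subgroupOf M := fun a => QuotientGroup.mk ⟨_, hdM a a.2⟩
    have hidx : Nat.card (A ⧸ C.subgroupOf A) ≤ Nat.card (M ⧸ W.subgroupOf M) := by
      refine Nat.card_le_card_of_injective (fun q => ψ q.out) fun q₁ q₂ h => ?_
      rw [← Quotient.out_eq q₁, ← Quotient.out_eq q₂]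
      refine QuotientGroup.eq.2 ?_
      rw [Subgroup.mem_subgroupOf]
      have h' : ψ q₁.out = ψ q₂.out := h
      have h'' := QuotientGroup.eq.1 h'
      rw [Subgroup.mem_subgroupOf] at h''
      exact hkey _ (q₁.out).2 _ (q₂.out).2 h''
    have hA := Subgroup.card_eq_card_quotient_mul_card_subgroup (C.subgroupOf A)
    have hMc' := Subgroup.card_eq_card_quotient_mul_card_subgroup (W.subgroupOf M)
    rw [Nat.card_congr (Subgroup.subgroupOfEquivOfLe hCA).toEquiv] at hA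
    rw [Nat.card_congr (Subgroup.subgroupOfEquivOfLe hWM).toEquiv] at hMc'
    have hB := Grp.card_sup_mul_card_inf hCn
    have hCW : C ⊓ M = W := le_antisymm (fun x hx => ⟨hx.1.1, hMB hx.2⟩) fun x hx =>
      ⟨⟨hx.1, hMc (hWM hx)⟩, hWM hx⟩
    rw [hCW, hMc'] at hB
    haveI : Finite W := finite_of_le (S := R) (inf_le_left.trans hAR)
    refine hA.le.trans ((Nat.mul_le_mul_right _ hidx).trans (le_of_eq ?_))
    refine mul_right_cancel₀ (Nat.card_pos (α := W)).ne' ?_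
    rw [hB]
    ring
  · refine lt_of_lt_of_le ?_ (le_inf le_sup_right hMB : M ≤ (C ⊔ M) ⊓ B)
    refine lt_of_le_of_ne le_sup_left fun e => hvN ⟨hvB, ?_⟩
    haveI := finite_of_le (S := R) hAR
    refine mem_normalizer_of_forall (fun a ha => ?_) fun a ha => ?_
    · have h1 := (e.symm ▸ hdM a⁻¹ (A.inv_mem ha) : d a⁻¹ ∈ W).1
      rw [show v * a * v⁻¹ = a * d a⁻¹ by simp only [d]; group]
      exact A.mul_mem ha h1
    · have h1 : d a ∈ W := e.symm ▸ hdM a ha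
      have h2 : v * d a * v⁻¹ * (d a)⁻¹ ∈ A := hBA v hvB _ (hdB a ha)
      have h3 : v⁻¹ * d a * v⁻¹⁻¹ * (d a)⁻¹ ∈ A := hBA v⁻¹ (B.inv_mem hvB) _ (hdB a ha)
      rw [show v⁻¹ * a * v = (v⁻¹ * d a * v⁻¹⁻¹ * (d a)⁻¹) * d a * a by simp only [d]; group]
      exact A.mul_mem (A.mul_mem h3 h1.1) ha

end Cfsg.Agent.Fus
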