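import Cfsg.Agent.Lib.Fus.InnerLocal
import Cfsg.Agent.Lib.Fus.GlaubermanReplacement
import Cfsg.Agent.Lib.Fus.JInduction

/-!
Criteria of Glauberman-Thompson type for odd `p`: a saturated system is inner as soon as the
normalizer of a suitable abelian normal subgroup is.
-/

set_option autoImplicit false
set_option linter.style.haveILetI false

open scoped Classical commutatorElement

namespace Cfsg.Agent.Fus

open Subgroup FusionSystem

variable {Ω : Type*} [Group Ω]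

/-- All maps of the system are induced by elements of `S`. -/
def IsInner {S : Subgroup Ω} (F : FusionSystem S) : Prop :=
  ∀ P f, IsMap F P f → ∃ s ∈ S, ∀ x ∈ P, f x = s * x * s⁻¹

theorem isInner_iff {S : Subgroup Ω} {F : FusionSystem S} :
    IsInner F ↔ ∀ P : Subgroup Ω, F.Hom P = (innerFusionSystem S).Hom P := by
  refine ⟨fun h P => Set.ext fun φ => ⟨fun hφ => ?_, ?_⟩, fun h P f hf => ?_⟩
  · obtain ⟨s, hs, e⟩ := h P _ (isMap_toFun hφ)
    exact ⟨(isMap_toFun hφ).source_le, s, hs, fun x => (toFun_coe φ x).symm.trans (e x x.2)⟩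
  · rintro ⟨hP, s, hs, e⟩
    exact mem_hom_of_isMap (isMap_conj F hP hs) e
  · obtain ⟨φ, hφ, e⟩ := hf.exists_hom
    rw [h P] at hφ
    obtain ⟨-, s, hs, e'⟩ := hφ
    exact ⟨s, hs, fun x hx => (e ⟨x, hx⟩).symm.trans (e' ⟨x, hx⟩)⟩

theorem centric_of_isNormal {S : Subgroup Ω} {F : FusionSystem S} [Finite S] {U : Subgroup Ω}
    (hU : F.IsNormal U) (hUc : centralizerIn S U ≤ U) : F.IsCentric U := by
  haveI := finite_of_le hU.1
  refine ⟨hU.1, fun Q hQ => ?_⟩
  obtain ⟨f, hf, rfl⟩ := isConj_iff.1 hQ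
  rw [show fimg f U = U from Subgroup.eq_of_le_of_card_ge (fimg_le fun x hx =>
    StronglyClosed.apply_mem (stronglyClosed_of_isNormal hU) hf le_rfl hx) hf.card_fimg.ge]
  exact hUc

section

variable {p : ℕ} [Fact p.Prime]

/-- A system with a centric normal subgroup whose automorphisms are induced by `S` is inner. -/
theorem isInner_of_autGroup {S : Subgroup Ω} {F : FusionSystem S} [Finite S] (hS : IsPGroup p S)
    (hF : F.IsSaturated p) {U : Subgroup Ω} (hU : F.IsNormal U) (hUc : centralizerIn S U ≤ U)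
    (h : F.autGroup U ≤ autInducedBy S U) : IsInner F := by
  intro P f hf
  haveI := finite_of_le hU.1
  obtain ⟨g, hg, hg1, hgU⟩ := (isNormal_iff.1 hU).2 P f hf
  obtain ⟨α, hα, hαe⟩ := (hg.res le_sup_right).exists_aut hgU
  obtain ⟨s, hs, hse⟩ := mem_autInducedBy.1 (h hα)
  have hPU : P ⊔ U ≤ S := hg.source_le
  obtain ⟨z, hz, -, hze⟩ := exists_conj_of_eqOn_centric hS hF le_sup_right
    (centric_of_isNormal hU hUc) (isMap_conj F hPU hs) hg fun x hx => by
      rw [← hαe x hx, show x = ((⟨x, hx⟩ : U) : Ω) from rfl, autFun_coe]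
      exact (hse ⟨x, hx⟩).symm
  refine ⟨s * z, S.mul_mem hs (hU.1 hz), fun x hx => ?_⟩
  rw [← hg1 x hx, hze x (Subgroup.mem_sup_left hx)]
  group

/-- `Z(J)` consists of the elements lying in every abelian subgroup of largest order. -/
theorem mem_centerThompsonA_iff {R : Subgroup Ω} [Finite R] {x : Ω} :
    x ∈ centerThompsonAOf R ↔ x ∈ R ∧ ∀ A, IsMaxAb R A → x ∈ A := by
  obtain ⟨A₀, ⟨hA₀1, hA₀2⟩, hA₀3⟩ := Set.exists_max_image
    {A : Subgroup Ω | A ≤ R ∧ ∀ x ∈ A, ∀ y ∈ A, x * y = y * x} (fun A => Nat.card A)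
    ((finite_subgroups_le (S := R)).subset fun A hA => hA.1) ⟨⊥, bot_le, by simp⟩
  have hA₀ : IsMaxAb R A₀ := ⟨hA₀1, hA₀2, fun B hB hc => hA₀3 B ⟨hB, hc⟩⟩
  constructor
  · rintro ⟨hx, hxc⟩
    refine ⟨thompsonA_le R hx, fun A hA => ?_⟩
    have hc : ∀ a ∈ A, Commute a x := fun a ha =>
      Subgroup.mem_centralizer_iff.1 hxc a (hA.le_thompsonA ha)
    have hn : Subgroup.zpowers x ≤ Subgroup.normalizer (A : Set Ω) :=
      Subgroup.zpowers_le.2 (Subgroup.centralizer_le_normalizer _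
        (Subgroup.mem_centralizer_iff.2 hc))
    have hle : Subgroup.zpowers x ⊔ A ≤ R := sup_le (Subgroup.zpowers_le.2 (thompsonA_le R hx)) hA.1
    haveI := finite_of_le hle
    have := Subgroup.eq_of_le_of_card_ge (le_sup_right : A ≤ Subgroup.zpowers x ⊔ A)
      (hA.2.2 _ hle fun a ha b hb => by
        rw [← SetLike.mem_coe, Subgroup.coe_mul_of_left_le_normalizer_right _ _ hn] at ha hb
        obtain ⟨u, hu, a, ha, rfl⟩ := ha
        obtain ⟨v, hv, b, hb, rfl⟩ := hb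
        obtain ⟨i, rfl⟩ := Subgroup.mem_zpowers_iff.1 hu
        obtain ⟨j, rfl⟩ := Subgroup.mem_zpowers_iff.1 hv
        exact ((((Commute.refl x).zpow_zpow i j).mul_right ((hc b hb).symm.zpow_left i)).mul_left
          (((hc a ha).zpow_right j).mul_right (hA.2.1 a ha b hb))).eq)
    exact this ▸ Subgroup.mem_sup_left (Subgroup.mem_zpowers x)
  · rintro ⟨-, h⟩
    refine ⟨hA₀.le_thompsonA (h A₀ hA₀), Subgroup.mem_centralizer_iff.2 fun y hy => ?_⟩
    have hle : thompsonSubgroupAOf R ≤ Subgroup.centralizer ({x} : Set Ω) :=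
      thompsonA_le_of fun A hA a ha =>
        Subgroup.mem_centralizer_singleton_iff.2 (hA.2.1 a ha x (h A hA))
    exact Subgroup.mem_centralizer_singleton_iff.1 (hle hy)

theorem IsMaxAb.map {Q : Type*} [Group Q] {R : Subgroup Ω} {A : Subgroup Ω} (h : IsMaxAb R A)
    (e : Ω ≃* Q) : IsMaxAb (R.map e.toMonoidHom) (A.map e.toMonoidHom) := by
  refine ⟨Subgroup.map_mono h.1, ?_, fun B hB hc => ?_⟩
  · rintro _ ⟨a, ha, rfl⟩ _ ⟨b, hb, rfl⟩
    show e a * e b = e b * e a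
    rw [← map_mul, ← map_mul, h.2.1 a ha b hb]
  · rw [Subgroup.card_map_of_injective (f := e.toMonoidHom) e.injective,
      ← Subgroup.card_map_of_injective (f := e.symm.toMonoidHom) (K := B) e.symm.injective]
    refine h.2.2 _ (fun b ⟨c, hc', e'⟩ => ?_) ?_
    · obtain ⟨d, hd, rfl⟩ := hB hc'
      rw [← e']
      show e.symm (e d) ∈ R
      rwa [e.symm_apply_apply]
    · rintro _ ⟨a, ha, rfl⟩ _ ⟨b, hb, rfl⟩
      show e.symm a * e.symm b = e.symm b * e.symm a
      rw [← map_mul, ← map_mul, hc a ha b hb]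

/-- `Z(J(P))` is invariant under automorphisms. -/
theorem centerThompsonA_invariant {P : Type*} [Group P] [Finite P] (e : P ≃* P) {x : P}
    (hx : x ∈ centerThompsonAOf (⊤ : Subgroup P)) :
    e x ∈ centerThompsonAOf (⊤ : Subgroup P) := by
  rw [mem_centerThompsonA_iff] at hx ⊢
  refine ⟨Subgroup.mem_top _, fun A hA => ?_⟩
  have h1 := hA.map e.symm
  rw [Subgroup.map_top_of_surjective _ e.symm.surjective] at h1
  obtain ⟨a, ha, e'⟩ := hx.2 _ h1
  rwa [← e', MulEquiv.coe_toMonoidHom, e.apply_symm_apply]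

/-- Automorphisms of a subgroup permute the members of `maxAb` inside it. -/
theorem apply_mem_maxAb {Q : Type*} [Group Q] {Ub : Subgroup Q} (β : MulAut Ub) {u : Ub}
    (hu : ∀ A, IsMaxAb (⊤ : Subgroup Q) A → A ≤ Ub → (u : Q) ∈ A) (A : Subgroup Q)
    (hA : IsMaxAb ⊤ A) (hAU : A ≤ Ub) : ((β u : Ub) : Q) ∈ A := by
  set A' := ((A.subgroupOf Ub).map β.symm.toMonoidHom).map Ub.subtype with hA'
  have hA'U : A' ≤ Ub := Subgroup.map_subtype_le _
  have hA'm : IsMaxAb ⊤ A' := by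
    refine ⟨le_top, ?_, fun B hB hc => (hA.2.2 B hB hc).trans (le_of_eq ?_)⟩
    · rintro _ ⟨_, ⟨a, ha, rfl⟩, rfl⟩ _ ⟨_, ⟨b, hb, rfl⟩, rfl⟩
      rw [← map_mul, ← map_mul, ← map_mul, ← map_mul,
        show a * b = b * a from Subtype.ext (hA.2.1 _ ha _ hb)]
    · rw [hA', Subgroup.card_map_of_injective Ub.subtype_injective,
        Subgroup.card_map_of_injective (f := β.symm.toMonoidHom) β.symm.injective,
        Nat.card_congr (Subgroup.subgroupOfEquivOfLe hAU).toEquiv]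
  obtain ⟨_, ⟨a, ha, rfl⟩, e⟩ := hu A' hA'm hA'U
  rw [show u = β.symm a from Subtype.ext (by exact e.symm), β.apply_symm_apply]
  exact ha

/-- The preimage in `R` of `Z(J(R/X))`. -/
def zjMod (R X : Subgroup Ω) : Subgroup Ω :=
  ((centerThompsonAOf (⊤ : Subgroup (R ⧸ (X.subgroupOf R).normalCore))).comap
    (QuotientGroup.mk' _)).map R.subtype

theorem zjMod_le (R X : Subgroup Ω) : zjMod R X ≤ R := Subgroup.map_subtype_le _

theorem mem_zjMod {R X : Subgroup Ω} {x : Ω} (hx : x ∈ R) : x ∈ zjMod R X ↔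
    (QuotientGroup.mk ⟨x, hx⟩ : R ⧸ (X.subgroupOf R).normalCore) ∈
      centerThompsonAOf (⊤ : Subgroup (R ⧸ (X.subgroupOf R).normalCore)) := by
  constructor
  · rintro ⟨y, hy, e⟩
    rwa [show (⟨x, hx⟩ : R) = y from Subtype.ext e.symm]
  · exact fun h => ⟨⟨x, hx⟩, h, rfl⟩

theorem le_zjMod {R X : Subgroup Ω} (hXR : X ≤ R) (hX : R ≤ Subgroup.normalizer (X : Set Ω)) :
    X ≤ zjMod R X := fun x hx => by
  haveI : (X.subgroupOf R).Normal := Subgroup.normal_subgroupOf_of_le_normalizer hX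
  rw [mem_zjMod (hXR hx), (QuotientGroup.eq_one_iff _).2
    (by rw [Subgroup.normalCore_eq_self]; exact hx)]
  exact one_mem _

theorem lt_zjMod {R X : Subgroup Ω} [Finite R] (hR : IsPGroup p R) (hXR : X < R)
    (hX : R ≤ Subgroup.normalizer (X : Set Ω)) : X < zjMod R X := by
  refine lt_of_le_of_ne (le_zjMod hXR.le hX) fun e => ?_
  haveI : (X.subgroupOf R).Normal := Subgroup.normal_subgroupOf_of_le_normalizer hX
  set N := (X.subgroupOf R).normalCore with hN
  have hNX : N = X.subgroupOf R := Subgroup.normalCore_eq_self _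
  obtain ⟨r, hrR, hrX⟩ := SetLike.exists_of_lt hXR
  haveI : Nontrivial (R ⧸ N) := ⟨⟨(⟨r, hrR⟩ : R), 1, fun h => hrX (by
    have h1 := (QuotientGroup.eq_one_iff _).1 h
    rw [hNX] at h1
    exact h1)⟩⟩
  haveI := (hR.to_quotient N).center_nontrivial
  obtain ⟨⟨z, hz⟩, hz1⟩ := exists_ne (1 : Subgroup.center (R ⧸ N))
  obtain ⟨s, rfl⟩ := QuotientGroup.mk_surjective z
  have hs : (s : Ω) ∈ zjMod R X := by
    rw [mem_zjMod s.2, mem_centerThompsonA_iff]
    refine ⟨Subgroup.mem_top _, fun A hA => ?_⟩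
    have hc := Subgroup.mem_center_iff.1 hz
    have hle := Subgroup.eq_of_le_of_card_ge (le_sup_right : A ≤ Subgroup.zpowers (s : R ⧸ N) ⊔ A)
      (hA.2.2 _ le_top fun a ha b hb => by
        have hn : Subgroup.zpowers (s : R ⧸ N) ≤ Subgroup.normalizer (A : Set (R ⧸ N)) :=
          Subgroup.zpowers_le.2 (Subgroup.centralizer_le_normalizer _
            (Subgroup.mem_centralizer_iff.2 fun y _ => hc y))
        rw [← SetLike.mem_coe, Subgroup.coe_mul_of_left_le_normalizer_right _ _ hn] at ha hb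
        obtain ⟨u, hu, a, ha, rfl⟩ := ha
        obtain ⟨v, hv, b, hb, rfl⟩ := hb
        obtain ⟨i, rfl⟩ := Subgroup.mem_zpowers_iff.1 hu
        obtain ⟨j, rfl⟩ := Subgroup.mem_zpowers_iff.1 hv
        have hz' : ∀ y, Commute (s : R ⧸ N) y := fun y => (hc y).symm
        exact ((((Commute.refl _).zpow_zpow i j).mul_right ((hz' b).zpow_left i)).mul_left
          (((hz' a).symm.zpow_right j).mul_right (hA.2.1 a ha b hb))).eq)
    exact hle ▸ Subgroup.mem_sup_left (Subgroup.mem_zpowers _)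
  refine hz1 (Subtype.ext ((QuotientGroup.eq_one_iff s).2 ?_))
  rw [hNX]
  exact e ▸ hs

/-- Maps on `R` preserving `X` preserve `zjMod R X`. -/
theorem zjMod_invariant {S R X : Subgroup Ω} {F : FusionSystem S} [Finite R] {f : Ω → Ω}
    (hf : IsMap F R f) (hfR : fimg f R = R) (hXR : X ≤ R)
    (hX : R ≤ Subgroup.normalizer (X : Set Ω)) (hfX : fimg f X = X) {x : Ω}
    (hx : x ∈ zjMod R X) : f x ∈ zjMod R X := by
  haveI : (X.subgroupOf R).Normal := Subgroup.normal_subgroupOf_of_le_normalizer hX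
  set N := (X.subgroupOf R).normalCore with hN
  have hNX : N = X.subgroupOf R := Subgroup.normalCore_eq_self _
  obtain ⟨α, -, hα⟩ := hf.exists_aut hfR
  have hxR := zjMod_le R X hx
  have hmap : N.map α.toMonoidHom = N := by
    rw [hNX]
    ext y
    simp only [Subgroup.mem_map, Subgroup.mem_subgroupOf, MulEquiv.coe_toMonoidHom]
    constructor
    · rintro ⟨z, hz, rfl⟩
      rw [← autFun_coe, hα z z.2, ← hfX]
      exact apply_mem_fimg f hz
    · intro hy
      rw [← hfX] at hy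
      obtain ⟨z, hz, e⟩ := (hf.res hXR).mem_fimg_iff.1 hy
      exact ⟨⟨z, hXR hz⟩, hz, Subtype.ext (by rw [← autFun_coe, hα z (hXR hz)]; exact e)⟩
  have h1 := centerThompsonA_invariant (QuotientGroup.congr N N α hmap) ((mem_zjMod hxR).1 hx)
  rw [← hα x hxR, mem_zjMod (autFun_mem α hxR)]
  convert h1 using 1
  exact congrArg QuotientGroup.mk (Subtype.ext (autFun_coe α ⟨x, hxR⟩))

theorem normalizer_zjMod {S R X : Subgroup Ω} (F : FusionSystem S) [Finite R] (hRS : R ≤ S)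
    (hXR : X ≤ R) (hX : S ≤ Subgroup.normalizer (X : Set Ω)) :
    normalizerIn S R ≤ normalizerIn S (zjMod R X) := fun s hs => by
  have key : ∀ {s : Ω}, s ∈ normalizerIn S R → ∀ x ∈ zjMod R X, s * x * s⁻¹ ∈ zjMod R X := by
    intro s hs x hx
    have hm := isMap_conj F hRS hs.1
    have hR : fimg (fun x => s * x * s⁻¹) R = R := by
      ext y; rw [mem_fimg_conj, Subgroup.mem_normalizer_iff''.1 hs.2 y]
    have hXs : fimg (fun x => s * x * s⁻¹) X = X := by
      ext y; rw [mem_fimg_conj, Subgroup.mem_normalizer_iff''.1 (hX hs.1) y]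
    exact zjMod_invariant hm hR hXR (hRS.trans hX) hXs hx
  exact ⟨hs.1, mem_normalizer_of_forall (key hs) fun x hx => by
    simpa using key (inv_mem hs) x hx⟩

/-- The replacement property of the abelian subgroups of largest order, for odd `p`. -/
theorem exists_not_le_normalizing (hp : p ≠ 2) {R D B : Subgroup Ω} [Finite R] (hR : IsPGroup p R)
    (hDR : D ≤ R) (hBR : B ≤ R) (hRB : R ≤ Subgroup.normalizer (B : Set Ω))
    (hBD : B ≤ Subgroup.normalizer (D : Set Ω)) (hcl : ⁅⁅B, B⁆, B⁆ = ⊥)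
    (hBA : ∀ A, IsMaxAb D A → ⁅B, B⁆ ≤ A) (hex : ∃ A, IsMaxAb D A ∧ ¬ B ≤ A) :
    ∃ A, IsMaxAb D A ∧ ¬ B ≤ A ∧ B ≤ Subgroup.normalizer (A : Set Ω) := by
  haveI := finite_of_le hDR
  obtain ⟨A, ⟨hA, hAB⟩, hmax⟩ := Set.exists_max_image
    {A | IsMaxAb D A ∧ ¬ B ≤ A} (fun A => Nat.card ↥(A ⊓ B))
    ((finite_subgroups_le (S := D)).subset fun A hA => hA.1.1) hex
  refine ⟨A, hA, hAB, ?_⟩
  by_contra hnot
  have hmem : ∀ x ∈ B, ∀ y ∈ B, x * y * x⁻¹ * y⁻¹ ∈ ⁅B, B⁆ := fun x hx y hy =>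
    Subgroup.commutator_mem_commutator hx hy
  obtain ⟨A', hA'R, hA'c, hcard, hlt, hA'n, hK⟩ := glauberman_replacement hp hR (hA.1.trans hDR) hBR
    ((hA.1.trans hDR).trans hRB) hA.2.1 (fun x hx y hy z hz =>
      (Subgroup.mem_centralizer_iff.1 (Subgroup.commutator_eq_bot_iff_le_centralizer.1 hcl
        (hmem x hx y hy)) z hz).symm) (fun x hx y hy => hBA A hA (hmem x hx y hy)) hnot
  have hA'm : IsMaxAb D A' :=
    ⟨hK D hA.1 hBD, hA'c, fun C hC hc => (hA.2.2 C hC hc).trans hcard⟩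
  haveI : Finite ↥(A' ⊓ B) := finite_of_le (S := R) (inf_le_left.trans hA'R)
  by_cases hBA' : B ≤ A'
  · exact hnot (hBA'.trans hA'n)
  · exact (hmax A' ⟨hA'm, hBA'⟩).not_gt (card_lt_of_lt hlt)

set_option maxHeartbeats 1600000 in
/-- The bridge to the local theorem. -/
theorem inner_or_invariant (hp : p ≠ 2) {R : Subgroup Ω} [Finite R] {E : FusionSystem R}
    (hR : IsPGroup p R) (hE : E.IsSaturated p) {U : Subgroup Ω} (hU : E.IsNormal U)
    (hUc : centralizerIn R U ≤ U)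
    (hbig : ∀ L, U < L → L ≤ R → R ≤ Subgroup.normalizer (L : Set Ω) →
      ∀ P f, IsMap E P f → L ≤ P → fimg f L = L → ∃ s ∈ R, ∀ x ∈ P, f x = s * x * s⁻¹)
    {X : Subgroup Ω} (hX : E.IsNormal X) (hXU : X ≤ U) (hXp : IsPGroup p (E.autGroup X))
    {P : Type*} [Group P] [Finite P] (π : R →* P) (hπ : Function.Surjective π)
    (hπk : ∀ r : R, π r = 1 ↔ (r : Ω) ∈ X) {W : Subgroup P} [W.Normal]
    (hWc : ∀ a ∈ W, ∀ b ∈ W, a * b = b * a) {𝒜 : Set (Subgroup P)}
    (h𝒜 : ∀ A ∈ 𝒜, ∀ a ∈ A, ∀ b ∈ A, a * b = b * a) (hW1 : ∀ A ∈ 𝒜, W ≤ A)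
    (hW2 : ∀ B : Subgroup P, (∀ A ∈ 𝒜, B ≤ A) → B ≤ W)
    (hinv : ∀ α ∈ E.autGroup U, ∀ β : MulAut ↥((U.subgroupOf R).map π),
      (∀ (r r' : R) (h : (r : Ω) ∈ U), (r' : Ω) = autFun (α : MulAut U) r →
        ((β ⟨π r, r, h, rfl⟩ : ↥((U.subgroupOf R).map π)) : P) = π r') →
      ∀ u : ↥((U.subgroupOf R).map π),
        (∀ A ∈ 𝒜, A ≤ (U.subgroupOf R).map π → (u : P) ∈ A) →
        ∀ A ∈ 𝒜, A ≤ (U.subgroupOf R).map π → ((β u : ↥((U.subgroupOf R).map π)) : P) ∈ A)
    (hrep : ∀ B : Subgroup P, B.Normal → ⁅⁅B, B⁆, B⁆ = ⊥ → ⁅B, B⁆ ≤ W → (∃ A ∈ 𝒜, ¬ B ≤ A) →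
      ∃ A ∈ 𝒜, ¬ B ≤ A ∧ B ≤ Subgroup.normalizer (A : Set P)) :
    IsInner E ∨ ((W.comap π).map R.subtype ≤ U ∧ ∀ P₁ f, IsMap E P₁ f →
      ∃ g, IsMap E (P₁ ⊔ U) g ∧ (∀ x ∈ P₁, g x = f x) ∧
        fimg g ((W.comap π).map R.subtype) = (W.comap π).map R.subtype) := by
  have hUR := hU.1
  haveI := finite_of_le hUR
  have hsc := stronglyClosed_of_isNormal hU
  have hXsc := stronglyClosed_of_isNormal hX
  have hNU : normalizerIn R U = R := le_antisymm inf_le_left fun s hs =>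
    ⟨hs, mem_normalizer_of_forall (fun x hx => StronglyClosed.conj_mem' hsc hs hx) fun x hx => by
      simpa using StronglyClosed.conj_mem' hsc (inv_mem hs) hx⟩
  have hUn : E.IsFullyNormalized U := ⟨hUR, fun Q hQ => by
    rw [hNU]; exact Subgroup.card_le_of_le inf_le_left⟩
  obtain ⟨-, T, hT⟩ := fullyAutomized_of_fullyNormalized hR hE hUn
  have hTmem : ∀ c : E.autGroup U, c ∈ T ↔ (c : MulAut U) ∈ autInducedBy R U := fun c => by
    show c ∈ (T : Subgroup (E.autGroup U)) ↔ _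
    rw [hT]
    exact Subgroup.mem_subgroupOf
  haveI hIn := inn_subgroupOf_normal E U
  set I := (Inn U).subgroupOf (E.autGroup U) with hI
  have hImem : ∀ c : E.autGroup U, c ∈ I ↔ ∃ y ∈ U, ∀ u ∈ U,
      autFun (c : MulAut U) u = y * u * y⁻¹ := fun c => by
    rw [hI, Subgroup.mem_subgroupOf, inn_eq_autInducedBy, mem_autInducedBy]
    exact ⟨fun ⟨y, hy, e⟩ => ⟨y, hy, fun u hu => by
        rw [show u = ((⟨u, hu⟩ : U) : Ω) from rfl, autFun_coe]; exact e ⟨u, hu⟩⟩,
      fun ⟨y, hy, e⟩ => ⟨y, hy, fun u => by rw [← autFun_coe]; exact e u u.2⟩⟩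
  have hIT : I ≤ T := fun c hc => by
    rw [hI, Subgroup.mem_subgroupOf, inn_eq_autInducedBy] at hc
    exact (hTmem c).2 (autInducedBy_mono hUR U hc)
  have hconj : ∀ r : R, ∃ c : E.autGroup U, c ∈ T ∧
      ∀ u ∈ U, autFun (c : MulAut U) u = (r : Ω) * u * (r : Ω)⁻¹ := fun r => by
    have hrn : (r : Ω) ∈ Subgroup.normalizer (U : Set Ω) := (hNU.ge r.2).2
    exact ⟨⟨U.normalizerMonoidHom ⟨r, hrn⟩, autInducedBy_le_autGroup E hUR
      (mem_autInducedBy.2 ⟨r, r.2, fun x => rfl⟩)⟩,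
      (hTmem _).2 (mem_autInducedBy.2 ⟨r, r.2, fun x => rfl⟩),
      fun u hu => autFun_coe (U.normalizerMonoidHom ⟨r, hrn⟩) ⟨u, hu⟩⟩
  have hTconj : ∀ c ∈ T, ∃ r : R,
      ∀ u ∈ U, autFun ((c : E.autGroup U) : MulAut U) u = (r : Ω) * u * (r : Ω)⁻¹ :=
    fun c hc => by
      obtain ⟨k, hk, hke⟩ := mem_autInducedBy.1 ((hTmem c).1 hc)
      exact ⟨⟨k, hk⟩, fun u hu => by
        rw [show u = ((⟨u, hu⟩ : U) : Ω) from rfl, autFun_coe]; exact hke ⟨u, hu⟩⟩
  -- local triviality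
  have hN : LocallyTrivial T I := by
    intro H hHT hIH hTH
    let L : Subgroup Ω :=
      { carrier := {y | y ∈ R ∧ ∃ c ∈ H, ∀ u ∈ U, y * u * y⁻¹ = autFun (c : MulAut U) u}
        one_mem' := ⟨one_mem _, 1, one_mem _, fun u hu => by
          rw [OneMemClass.coe_one, autFun_one hu]; group⟩
        mul_mem' := fun {a b} ⟨ha, κ, hκ, e⟩ ⟨hb, μ, hμ, e'⟩ => ⟨mul_mem ha hb, κ * μ,
          mul_mem hκ hμ, fun u hu => by
            rw [Subgroup.coe_mul, autFun_mul _ _ hu, ← e' u hu,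
              ← e _ (StronglyClosed.conj_mem' hsc hb hu)]
            group⟩
        inv_mem' := fun {a} ⟨ha, κ, hκ, e⟩ => ⟨inv_mem ha, κ⁻¹, inv_mem hκ, fun u hu => by
          have hu' : a⁻¹ * u * a⁻¹⁻¹ ∈ U := StronglyClosed.conj_mem' hsc (inv_mem ha) hu
          conv_rhs => rw [show u = a * (a⁻¹ * u * a⁻¹⁻¹) * a⁻¹ by group, e _ hu',
            Subgroup.coe_inv, autFun_inv_apply _ hu']⟩ }
    have hLR : L ≤ R := fun y hy => hy.1
    have hUL : U < L := by
      refine lt_of_le_of_ne (fun y hy => ?_) fun e => ?_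
      · obtain ⟨c, hc, hce⟩ := hconj ⟨y, hUR hy⟩
        exact ⟨hUR hy, c, hIH.le ((hImem c).2 ⟨y, hy, hce⟩), fun u hu => (hce u hu).symm⟩
      · obtain ⟨c, hc, hcI⟩ := SetLike.exists_of_lt hIH
        obtain ⟨r, hr⟩ := hTconj c (hHT hc)
        refine hcI ((hImem c).2 ⟨r, ?_, hr⟩)
        rw [e]
        exact ⟨r.2, c, hc, fun u hu => (hr u hu).symm⟩
    have hLinv : ∀ {g : Ω → Ω} {Q : Subgroup Ω} {α : E.autGroup U}, IsMap E Q g → U ≤ Q →
        (∀ u ∈ U, g u = autFun (α : MulAut U) u) → (∀ c ∈ H, α * c * α⁻¹ ∈ H) →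
        ∀ y ∈ L, y ∈ Q → g y ∈ L := by
      rintro g Q α hg hUQ hgα hαH y ⟨hy, c, hc, e⟩ hyQ
      refine ⟨hg.apply_mem hyQ, α * c * α⁻¹, hαH c hc, fun u hu => ?_⟩
      obtain ⟨v, hv, rfl⟩ : ∃ v ∈ U, autFun (α : MulAut U) v = u :=
        ⟨_, autFun_mem ((α : MulAut U)⁻¹) hu,
          by rw [← autFun_mul _ _ hu, mul_inv_cancel, autFun_one hu]⟩
      rw [← hgα v hv, ← hg.map_conj hyQ (hUQ hv), e v hv, hgα v hv, Subgroup.coe_mul,
        Subgroup.coe_mul, Subgroup.coe_inv, autFun_mul _ _ (autFun_mem _ hv),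
        autFun_inv_apply _ hv, autFun_mul _ _ hv, hgα _ (autFun_mem _ hv)]
    have hRL : R ≤ Subgroup.normalizer (L : Set Ω) := by
      have key : ∀ {s : Ω}, s ∈ R → ∀ y ∈ L, s * y * s⁻¹ ∈ L := fun {s} hs y hy => by
        obtain ⟨t, ht, e⟩ := hconj ⟨s, hs⟩
        exact hLinv (isMap_conj E le_rfl hs) hUR (fun u hu => (e u hu).symm) (hTH t ht) y hy
          (hLR hy)
      exact fun s hs => mem_normalizer_of_forall (key hs) fun y hy => by
        simpa using key (inv_mem hs) y hy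
    haveI := finite_of_le hLR
    intro α hα
    have hαm := (mem_autGroup hUR).1 α.2
    obtain ⟨θ, hθ, hθe⟩ := receptive_extend (receptive_of_fullyNormalized hR hE hUn) hαm
      (fimg_autFun (α : MulAut U)) (N := L) (fun y hy => by
        obtain ⟨hyR, c, hc, e⟩ := hy
        refine ⟨hNU.ge hyR, ?_⟩
        obtain ⟨k, hk⟩ := hTconj _ (hHT ((Subgroup.mem_normalizer_iff.1 hα c).1 hc))
        refine ⟨k, k.2, fun u hu => ?_⟩
        have hu' : autFun (α : MulAut U) u ∈ U := autFun_mem _ hu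
        rw [e u hu, ← hk _ hu', Subgroup.coe_mul, Subgroup.coe_mul, Subgroup.coe_inv,
          autFun_mul _ _ hu', autFun_inv_apply _ hu, autFun_mul _ _ hu]) hUL.le
    have hθL : fimg θ L = L := Subgroup.eq_of_le_of_card_ge (fimg_le fun y hy =>
      hLinv hθ hUL.le hθe (fun c hc => (Subgroup.mem_normalizer_iff.1 hα c).1 hc) y hy hy)
      hθ.card_fimg.ge
    obtain ⟨s, hs, hse⟩ := hbig L hUL hLR hRL L θ hθ le_rfl hθL
    refine (hTmem α).2 (mem_autInducedBy.2 ⟨s, hs, fun u => ?_⟩)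
    rw [← autFun_coe, ← hθe u u.2]
    exact hse u (hUL.le u.2)
  -- the action on the image of `U`
  set Ub := (U.subgroupOf R).map π with hUb
  let πU : U →* Ub := (π.comp (Subgroup.inclusion hUR)).codRestrict Ub fun u =>
    ⟨Subgroup.inclusion hUR u, u.2, rfl⟩
  have hπU : Function.Surjective πU := by
    rintro ⟨_, r, hr, rfl⟩
    exact ⟨⟨r, hr⟩, rfl⟩
  have hker : ∀ (α : E.autGroup U) (u : U), πU u = 1 → πU ((α : MulAut U) u) = 1 := fun α u hu => by
    have h1 : (u : Ω) ∈ X := (hπk _).1 (congrArg Subtype.val hu)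
    refine Subtype.ext ((hπk _).2 ?_)
    show (((α : MulAut U) u : U) : Ω) ∈ X
    rw [← autFun_coe]
    exact StronglyClosed.apply_mem hXsc (((mem_autGroup hUR).1 α.2).res hXU) le_rfl h1
  let lift : E.autGroup U → (Ub →* Ub) := fun α =>
    πU.liftOfSurjective hπU ⟨πU.comp (α : MulAut U).toMonoidHom, fun u hu =>
      MonoidHom.mem_ker.2 (hker α u (MonoidHom.mem_ker.1 hu))⟩
  have hlift : ∀ α u, lift α (πU u) = πU ((α : MulAut U) u) := fun α u =>
    MonoidHom.liftOfRightInverse_comp_apply _ _ _ _ u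
  let ρ : E.autGroup U →* MulAut Ub := MonoidHom.mk'
    (fun α =>
      { toFun := lift α
        invFun := lift α⁻¹
        left_inv := fun v => by
          obtain ⟨u, rfl⟩ := hπU v
          rw [hlift, hlift, Subgroup.coe_inv, MulAut.inv_apply_self]
        right_inv := fun v => by
          obtain ⟨u, rfl⟩ := hπU v
          rw [hlift, hlift, Subgroup.coe_inv, MulAut.apply_inv_self]
        map_mul' := map_mul (lift α) })
    fun α β => MulEquiv.ext fun v => by
      obtain ⟨u, rfl⟩ := hπU v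
      show lift (α * β) (πU u) = lift α (lift β (πU u))
      rw [hlift, hlift, hlift, Subgroup.coe_mul, MulAut.mul_apply]
  have hρ : ∀ α u, ρ α (πU u) = πU ((α : MulAut U) u) := hlift
  have hρconj : ∀ (c : E.autGroup U) (r : R),
      (∀ u ∈ U, autFun (c : MulAut U) u = (r : Ω) * u * (r : Ω)⁻¹) →
      ∀ v : Ub, ((ρ c v : Ub) : P) = π r * v * (π r)⁻¹ := fun c r e v => by
    obtain ⟨u, rfl⟩ := hπU v
    rw [hρ]
    show π (Subgroup.inclusion hUR ((c : MulAut U) u)) = π r * π (Subgroup.inclusion hUR u) * (π r)⁻¹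
    rw [← map_inv, ← map_mul, ← map_mul]
    congr 1
    refine Subtype.ext ?_
    show (((c : MulAut U) u : U) : Ω) = (r : Ω) * u * (r : Ω)⁻¹
    rw [← autFun_coe]
    exact e u u.2
  have hUbR : ∀ r : R, π r ∈ Ub → (r : Ω) ∈ U := by
    rintro r ⟨u, hu, e⟩
    have h1 : π (u⁻¹ * r) = 1 := by rw [map_mul, map_inv, e, inv_mul_cancel]
    rw [show r = u * (u⁻¹ * r) by group, Subgroup.coe_mul]
    exact U.mul_mem hu (hXU ((hπk _).1 h1))
  have hκI : ∀ r : P, r ∉ Ub → r ^ p ∈ Ub → ∃ t ∈ T, t ∉ I ∧ t ^ p ∈ I ∧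
      ∀ v : Ub, ((ρ t v : Ub) : P) = r * v * r⁻¹ := by
    intro r hr hrp
    obtain ⟨r, rfl⟩ := hπ r
    obtain ⟨c, hc, e⟩ := hconj r
    refine ⟨c, hc, fun hcI => hr ⟨r, ?_, rfl⟩, ?_, hρconj c r e⟩
    · obtain ⟨y, hy, e'⟩ := (hImem c).1 hcI
      have hyr : y⁻¹ * (r : Ω) ∈ centralizerIn R U := by
        refine mem_centralizerIn.2 ⟨R.mul_mem (R.inv_mem (hUR hy)) r.2, fun u hu => ?_⟩
        have h2 : y * u * y⁻¹ = (r : Ω) * u * (r : Ω)⁻¹ := (e' u hu).symm.trans (e u hu)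
        calc u * (y⁻¹ * r) = y⁻¹ * (y * u * y⁻¹) * r := by group
          _ = y⁻¹ * ((r : Ω) * u * (r : Ω)⁻¹) * r := by rw [h2]
          _ = y⁻¹ * r * u := by group
      show (r : Ω) ∈ U
      rw [show (r : Ω) = y * (y⁻¹ * r) by group]
      exact U.mul_mem hy (hUc hyr)
    · rw [← map_pow] at hrp
      refine (hImem _).2 ⟨(r : Ω) ^ p, by simpa using hUbR _ hrp, ?_⟩
      have hk : ∀ (k : ℕ), ∀ u ∈ U, autFun ((c ^ k : E.autGroup U) : MulAut U) u =
          (r : Ω) ^ k * u * ((r : Ω) ^ k)⁻¹ := by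
        intro k
        induction k with
        | zero => intro u hu; simp [autFun_one hu]
        | succ k ih =>
          intro u hu
          rw [pow_succ', Subgroup.coe_mul, autFun_mul _ _ hu, ih u hu,
            e _ ((ih u hu) ▸ autFun_mem _ hu), pow_succ']
          group
      exact hk p
  have hκ : ∀ r : P, ∃ t ∈ T, ∀ v : Ub, ((ρ t v : Ub) : P) = r * v * r⁻¹ := fun r => by
    obtain ⟨r, rfl⟩ := hπ r
    obtain ⟨c, hc, e⟩ := hconj r
    exact ⟨c, hc, hρconj c r e⟩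
  have hκT : ∀ t ∈ T, ∃ r : P, ∀ v : Ub, ((ρ t v : Ub) : P) = r * v * r⁻¹ := fun t ht => by
    obtain ⟨r, e⟩ := hTconj t ht
    exact ⟨π r, hρconj t r e⟩
  have hP : IsPGroup p P := hR.of_surjective π hπ
  rcases sylow_or_invariant hp hP (U := Ub) (W := W) T hIT hN ρ hκ hκI hκT hWc h𝒜 hW1 hW2
      (fun α u hu A hA hAU => hinv α α.2 (ρ α) (fun r r' h e => by
        show ((ρ α (πU ⟨r, h⟩) : Ub) : P) = π r'
        rw [hρ]
        show π (Subgroup.inclusion hUR ((α : MulAut U) ⟨r, h⟩)) = π r'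
        congr 1
        exact Subtype.ext ((autFun_coe (α : MulAut U) ⟨r, h⟩).symm.trans e.symm)) u hu A hA hAU)
      hrep with hS | ⟨hWU, hWinv⟩
  · left
    refine isInner_of_autGroup hR hE hU hUc ?_
    -- `Aut_E(U)` is a `p`-group
    have hpg : IsPGroup p (E.autGroup U) := by
      intro α
      obtain ⟨e, m, hm, hkm⟩ := Nat.exists_eq_pow_mul_and_not_dvd (orderOf_pos α).ne' p
        (Fact.out : p.Prime).ne_one
      refine ⟨e, ?_⟩
      set g := α ^ p ^ e with hg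
      have hgm : orderOf g = m := by
        rw [hg, orderOf_pow, hkm, Nat.gcd_mul_right_left, Nat.mul_div_cancel_left _
          (pow_pos (Fact.out : p.Prime).pos e)]
      have hco : ∀ k, Nat.Coprime (p ^ k) m := fun k =>
        (((Fact.out : p.Prime).coprime_iff_not_dvd.2 hm)).pow_left k
      -- trivial on `U/X`
      have hρg : ρ g = 1 := by
        obtain ⟨t, ht, hte⟩ := hS g
        obtain ⟨k, hk⟩ := IsPGroup.iff_orderOf.1 T.2 ⟨t, ht⟩
        rw [← Subgroup.orderOf_coe] at hk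
        refine orderOf_eq_one_iff.1 (Nat.dvd_one.1 ((hco k).gcd_eq_one ▸ Nat.dvd_gcd ?_ ?_))
        · rw [← hte, ← hk]; exact orderOf_map_dvd ρ t
        · rw [← hgm]; exact orderOf_map_dvd ρ g
      -- trivial on `X`
      haveI := finite_of_le hX.1
      have hgXm := ((mem_autGroup hUR).1 g.2).res hXU
      have hgX : fimg (autFun (g : MulAut U)) X = X := Subgroup.eq_of_le_of_card_ge
        (fimg_le fun x hx => StronglyClosed.apply_mem hXsc hgXm le_rfl hx) hgXm.card_fimg.ge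
      obtain ⟨γ, hγ, hγe⟩ := hgXm.exists_aut hgX
      have hgpow : ∀ (i : ℕ), ∀ x ∈ X, autFun (γ ^ i) x =
          autFun ((g ^ i : E.autGroup U) : MulAut U) x := by
        intro i
        induction i with
        | zero => intro x hx; simp [autFun_one hx, autFun_one (hXU hx)]
        | succ i ih =>
          intro x hx
          rw [pow_succ', autFun_mul _ _ hx, hγe _ (autFun_mem _ hx), ih x hx, pow_succ',
            Subgroup.coe_mul, autFun_mul _ _ (hXU hx)]
      have hfix : ∀ x ∈ X, autFun (g : MulAut U) x = x := fun x hx => by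
        obtain ⟨k, hk⟩ := IsPGroup.iff_orderOf.1 hXp ⟨γ, hγ⟩
        rw [← Subgroup.orderOf_coe] at hk
        have hγm : γ ^ m = 1 := mulAut_ext fun y hy => by
          rw [hgpow m y hy, ← hgm, pow_orderOf_eq_one, OneMemClass.coe_one, autFun_one (hXU hy),
            autFun_one hy]
        have hγ1 : γ = 1 := orderOf_eq_one_iff.1 (Nat.dvd_one.1
          ((hco k).gcd_eq_one ▸ Nat.dvd_gcd hk.dvd (orderOf_dvd_of_pow_eq_one hγm)))
        rw [← hγe x hx, hγ1, autFun_one hx]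
      -- hence trivial
      refine Subtype.ext (MulEquiv.ext fun u => ?_)
      rw [OneMemClass.coe_one, MulAut.one_apply]
      set w := u⁻¹ * (g : MulAut U) u with hw
      have hwX : (w : Ω) ∈ X := by
        refine (hπk (Subgroup.inclusion hUR w)).1 ?_
        have h1 : πU w = 1 := by
          rw [hw, map_mul, map_inv, ← hρ, hρg, MulAut.one_apply, inv_mul_cancel]
        exact congrArg Subtype.val h1
      have hgw : (g : MulAut U) w = w := Subtype.ext (by rw [← autFun_coe]; exact hfix w hwX)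
      have hgu : (g : MulAut U) u = u * w := by rw [hw, mul_inv_cancel_left]
      have hk : ∀ i : ℕ, ((g : MulAut U) ^ i) u = u * w ^ i := by
        intro i
        induction i with
        | zero => simp
        | succ i ih =>
          rw [pow_succ', MulAut.mul_apply, ih, map_mul, map_pow, hgu, hgw, mul_assoc, pow_succ']
      have hwm : w ^ m = 1 := by
        have := hk m
        rw [← SubgroupClass.coe_pow, ← hgm, pow_orderOf_eq_one, OneMemClass.coe_one,
          MulAut.one_apply] at this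
        rw [← hgm]
        exact mul_eq_left.1 this.symm
      obtain ⟨j, hj⟩ := IsPGroup.iff_orderOf.1 (hR.to_le hUR) w
      rw [hgu, show w = 1 from orderOf_eq_one_iff.1 (Nat.dvd_one.1
        ((hco j).gcd_eq_one ▸ Nat.dvd_gcd hj.dvd (orderOf_dvd_of_pow_eq_one hwm))), mul_one]
    intro α hα
    have htop : (T : Subgroup (E.autGroup U)) = ⊤ :=
      (T.3 (IsPGroup.of_equiv hpg Subgroup.topEquiv.symm) le_top).symm
    exact (hTmem ⟨α, hα⟩).1 (show _ ∈ (T : Subgroup (E.autGroup U)) from htop ▸ Subgroup.mem_top _)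
  · right
    have hYU : (W.comap π).map R.subtype ≤ U := by
      rintro _ ⟨r, hr, rfl⟩
      exact hUbR r (hWU hr)
    refine ⟨hYU, fun P₁ f hf => ?_⟩
    obtain ⟨g, hg, hg1, hgU⟩ := (isNormal_iff.1 hU).2 P₁ f hf
    obtain ⟨γ, hγ, hγe⟩ := (hg.res le_sup_right).exists_aut hgU
    haveI := finite_of_le (hYU.trans hUR)
    refine ⟨g, hg, hg1, Subgroup.eq_of_le_of_card_ge (fimg_le ?_)
      (hg.res (hYU.trans le_sup_right)).card_fimg.ge⟩
    intro x hx
    have hxU := hYU hx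
    obtain ⟨r, hr, rfl⟩ := hx
    have hxU' : (r : Ω) ∈ U := hxU
    have h1 := hWinv ⟨γ, hγ⟩ (πU ⟨r, hxU'⟩) hr
    rw [hρ] at h1
    refine ⟨Subgroup.inclusion hUR (γ ⟨r, hxU'⟩), h1, ?_⟩
    show ((γ ⟨r, hxU'⟩ : U) : Ω) = g r
    rw [← autFun_coe]
    exact hγe r hxU'

/-- The induction for the criteria. -/
theorem innerInduction {R : Subgroup Ω} [Finite R] {E : FusionSystem R} (hR : IsPGroup p R)
    (hE : E.IsSaturated p)
    (IH : ∀ R' ≤ R, Nat.card R' < Nat.card R → ∀ E' : FusionSystem R', E'.IsSubsystemOf E →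
      E'.IsSaturated p → ∀ X, E'.IsNormal X → IsPGroup p (E'.autGroup X) →
      (∀ P f, IsMap E' P f → zjMod R' X ≤ P → fimg f (zjMod R' X) = zjMod R' X →
        ∃ s ∈ R', ∀ x ∈ P, f x = s * x * s⁻¹) → IsInner E')
    (htop : ∀ f, IsMap E R f → ∃ s ∈ R, ∀ x ∈ R, f x = s * x * s⁻¹)
    (hloc : ∀ (R₁ : Subgroup Ω) (E₁ : FusionSystem R₁), R₁ = R → E₁.IsSubsystemOf E →
      E₁.IsSaturated p → (∀ N, E.IsNormal N → E₁.IsNormal N) →
      centralizerIn R₁ E₁.core ≤ E₁.core →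
      (∀ L, E₁.core < L → L ≤ R₁ → R₁ ≤ Subgroup.normalizer (L : Set Ω) →
        ∀ P f, IsMap E₁ P f → L ≤ P → fimg f L = L → ∃ s ∈ R₁, ∀ x ∈ P, f x = s * x * s⁻¹) →
      IsInner E₁) :
    IsInner E := by
  suffices aux : ∀ (n : ℕ) (R₁ : Subgroup Ω) (E₁ : FusionSystem R₁), R₁ = R →
      Nat.card R - Nat.card E₁.core = n → E₁.IsSubsystemOf E → E₁.IsSaturated p →
      (∀ N, E.IsNormal N → E₁.IsNormal N) → IsInner E₁ from
    aux _ R E rfl rfl (fun _ _ h => h) hE fun _ h => h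
  intro n
  induction n using Nat.strong_induction_on with
  | _ n ihn =>
  intro R₁ E₁ hR₁ hn hsub hE₁ hnor
  subst hR₁
  set C := E₁.core with hC
  have hCn : E₁.IsNormal C := isNormal_core E₁
  have hCR : C ≤ R₁ := hCn.1
  haveI := finite_of_le hCR
  have hCsc := stronglyClosed_of_isNormal hCn
  have hRC : R₁ ≤ Subgroup.normalizer (C : Set Ω) := fun s hs =>
    mem_normalizer_of_forall (fun u hu => StronglyClosed.conj_mem' hCsc hs hu) fun u hu => by
      simpa using StronglyClosed.conj_mem' hCsc (inv_mem hs) hu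
  have IHsub : ∀ L, L ≤ R₁ → R₁ ≤ Subgroup.normalizer (L : Set Ω) → ¬ L ≤ C →
      ∀ P f, IsMap E₁ P f → L ≤ P → fimg f L = L → ∃ s ∈ R₁, ∀ x ∈ P, f x = s * x * s⁻¹ := by
    intro L hLR hRL hLC P f hf hLP hfL
    have heq : normalizerIn R₁ L = R₁ := le_antisymm inf_le_left (le_inf le_rfl hRL)
    have hLn : E₁.IsFullyNormalized L := ⟨hLR, fun Q hQ => by
      rw [heq]; exact Subgroup.card_le_of_le inf_le_left⟩
    set E' := normalizerSystem E₁ L hLn.1 with hE'
    have hsub' : E'.IsSubsystemOf E₁ := normalizerSystem_isSubsystemOf hLn.1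
    haveI : Finite ↥(normalizerIn R₁ L) := finite_of_le (S := R₁) inf_le_left
    have hnor' : ∀ N, E₁.IsNormal N → E'.IsNormal N := fun N hN =>
      isNormal_normalizerSystem_of_isNormal hLn.1 hN (by rw [heq]; exact hN.1)
    have hlt : C < E'.core := lt_of_lt_of_le
      (lt_of_le_of_ne le_sup_left fun e => hLC (e ▸ le_sup_right))
      (sup_le (le_core (hnor' C hCn)) (le_core (isNormal_normalizerSystem_self hLn.1)) :
        C ⊔ L ≤ E'.core)
    have hc'R : E'.core ≤ R₁ := (isNormal_core E').1.trans inf_le_left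
    haveI := finite_of_le hc'R
    have hcard := card_lt_of_lt hlt
    have hcard' := Subgroup.card_le_of_le hc'R
    have hfm : IsMap E' P f := (isMap_normalizerSystem hLn.1).2
      ⟨by rw [heq]; exact hf.source_le, fun x hx => by rw [heq]; exact hf.apply_mem hx, f,
        hf.res (sup_le le_rfl hLP), fun x _ => rfl, hfL⟩
    obtain ⟨s, hs, hse⟩ := ihn (Nat.card R₁ - Nat.card E'.core) (by omega) _ E' heq rfl
      (fun P φ hφ => hsub P (hsub' P hφ)) (isSaturated_normalizerSystem hR hE₁ hLn)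
      (fun N hN => hnor' N (hnor N hN)) P f hfm
    exact ⟨s, heq ▸ hs, hse⟩
  by_cases hcc : centralizerIn R₁ C ≤ C
  · exact hloc R₁ E₁ rfl hsub hE₁ hnor hcc fun L hL hLR hRL =>
      IHsub L hLR hRL fun h => (hL.trans_le h).false
  -- `Aut(C)` is a `p`-group
  have hCp : IsPGroup p (E₁.autGroup C) := by
    have hle : E₁.autGroup C ≤ autInducedBy R₁ C := by
      intro γ hγ
      have hNC : normalizerIn R₁ C = R₁ := le_antisymm inf_le_left (le_inf le_rfl hRC)
      have hCfn : E₁.IsFullyNormalized C := ⟨hCR, fun Q hQ => by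
        rw [hNC]; exact Subgroup.card_le_of_le inf_le_left⟩
      set K := centralizerIn R₁ C with hK
      have hKn : K ≤ Subgroup.normalizer (C : Set Ω) := inf_le_left.trans hRC
      have hQ₀R : K ⊔ C ≤ R₁ := sup_le inf_le_left hCR
      have hγm := (mem_autGroup hCR).1 hγ
      obtain ⟨θ, hθ, hθe⟩ := receptive_extend (receptive_of_fullyNormalized hR hE₁ hCfn) hγm
        (fimg_autFun γ) (N := K ⊔ C) (fun y hy => by
          refine ⟨hNC.ge (hQ₀R hy), ?_⟩
          rw [← SetLike.mem_coe, Subgroup.coe_mul_of_left_le_normalizer_right K C hKn] at hy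
          obtain ⟨k, hk, c, hc, rfl⟩ := hy
          refine ⟨autFun γ c, hCR (autFun_mem γ hc), fun x hx => ?_⟩
          have hcx : c * x * c⁻¹ ∈ C := C.mul_mem (C.mul_mem hc hx) (C.inv_mem hc)
          rw [show k * c * x * (k * c)⁻¹ = k * (c * x * c⁻¹) * k⁻¹ by group,
            ← (mem_centralizerIn.1 hk).2 _ hcx, mul_inv_cancel_right]
          exact hγm.map_conj hc hx) le_sup_right
      have hθC : fimg θ C = C := (fimg_congr hθe).trans (fimg_autFun γ)
      have hθQ : fimg θ (K ⊔ C) = K ⊔ C := by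
        haveI := finite_of_le hQ₀R
        refine Subgroup.eq_of_le_of_card_ge ?_ hθ.card_fimg.ge
        rw [hθ.fimg_sup, hθC]
        refine sup_le_sup_right (fimg_le fun k hk => mem_centralizerIn.2
          ⟨hθ.apply_mem (Subgroup.mem_sup_left hk), fun x hx => ?_⟩) C
        rw [← hθC] at hx
        obtain ⟨c, hc, rfl⟩ := (hθ.res le_sup_right).mem_fimg_iff.1 hx
        rw [← hθ.map_mul (Subgroup.mem_sup_right hc) (Subgroup.mem_sup_left hk),
          (mem_centralizerIn.1 hk).2 c hc,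
          hθ.map_mul (Subgroup.mem_sup_left hk) (Subgroup.mem_sup_right hc)]
      have hRQ : R₁ ≤ Subgroup.normalizer ((K ⊔ C : Subgroup Ω) : Set Ω) := by
        have key : ∀ {s : Ω}, s ∈ R₁ → ∀ k ∈ K, s * k * s⁻¹ ∈ K := fun {s} hs k hk => by
          obtain ⟨hk1, hk2⟩ := mem_centralizerIn.1 hk
          refine mem_centralizerIn.2 ⟨R₁.mul_mem (R₁.mul_mem hs hk1) (R₁.inv_mem hs), fun y hy => ?_⟩
          have h1 := hk2 _ ((Subgroup.mem_normalizer_iff''.1 (hRC hs) y).1 hy)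
          calc y * (s * k * s⁻¹) = s * (s⁻¹ * y * s * k) * s⁻¹ := by group
            _ = s * (k * (s⁻¹ * y * s)) * s⁻¹ := by rw [h1]
            _ = s * k * s⁻¹ * y := by group
        exact fun s hs => normalizer_sup_le (hRC hs) (mem_normalizer_of_forall (key hs)
          fun x hx => by simpa using key (inv_mem hs) x hx)
      obtain ⟨s, hs, hse⟩ := IHsub (K ⊔ C) hQ₀R hRQ (fun h => hcc (le_sup_left.trans h)) _ θ hθ
        le_rfl hθQ
      refine mem_autInducedBy.2 ⟨s, hs, fun u => ?_⟩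
      rw [← autFun_coe, ← hθe u u.2]
      exact hse u (Subgroup.mem_sup_right u.2)
    exact (isPGroup_autInducedBy hR C).to_le hle
  -- Alperin
  intro P f hf
  refine alperin' hR hE₁ (fun P f => ∃ s ∈ R₁, ∀ x ∈ P, f x = s * x * s⁻¹)
    (fun P f g ⟨s, hs, e⟩ e' => ⟨s, hs, fun x hx => (e' x hx).symm.trans (e x hx)⟩)
    (fun P Q f g _ _ h ⟨s, hs, e⟩ ⟨t, ht, e'⟩ => ⟨t * s, R₁.mul_mem ht hs, fun x hx => by
      show g (f x) = _
      rw [e' _ (h x hx), e x hx]
      group⟩)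
    (fun P Q f _ hPQ ⟨s, hs, e⟩ => ⟨s, hs, fun x hx => e x (hPQ hx)⟩)
    (fun α hα => htop _ (((mem_autGroup le_rfl).1 hα).mono hsub)) ?_ hf
  intro Q hQ big α hα
  have hQR : Q ≤ R₁ := hQ.1.1
  rcases hQR.eq_or_lt with rfl | hlt
  · exact htop _ (((mem_autGroup le_rfl).1 hα).mono hsub)
  have hCQ : C ≤ Q := le_of_isNormal hR hCn hQ.1 (radical_of_essential hR hQ)
  have hQC : ¬ Q ≤ C := fun h => hcc fun c hc => h (centralizerIn_le_of_centric hQ.1
    (mem_centralizerIn.2 ⟨(mem_centralizerIn.1 hc).1,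
      fun x hx => (mem_centralizerIn.1 hc).2 x (h hx)⟩))
  suffices claim : ∀ (m : ℕ) (U : Subgroup Ω), Nat.card R₁ - Nat.card ↥(normalizerIn R₁ U) = m →
      U ≤ R₁ → C ≤ U → ¬ U ≤ C → Nat.card Q < Nat.card ↥(normalizerIn R₁ U) →
      ∀ P f, IsMap E₁ P f → U ≤ P → P ≤ normalizerIn R₁ U → fimg f U = U →
        ∃ s ∈ R₁, ∀ x ∈ P, f x = s * x * s⁻¹ by
    haveI : Finite ↥(normalizerIn R₁ Q) := finite_of_le (S := R₁) inf_le_left
    haveI := finite_of_le hQR
    exact claim _ Q rfl hQR hCQ hQC (card_lt_of_lt (lt_normalizerIn hR hlt)) Q _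
      ((mem_autGroup hQR).1 hα) le_rfl (le_normalizerIn hQR) (fimg_autFun α)
  intro m
  induction m using Nat.strong_induction_on with
  | _ m ihm =>
  intro U hm hUR hCU hUC hcard P f hf hUP hPN hfU
  haveI := finite_of_le hUR
  obtain ⟨U', hU', hU'n⟩ := exists_fullyNormalized E₁ hUR
  obtain ⟨θ, hθ, hθU, hθN⟩ := exists_map_to_fullyNormalized hR hE₁ hU'n hU'
  obtain ⟨θ', hθ', hθ1, -, -⟩ := hθ.exists_inv
  set N := normalizerIn R₁ U with hNdef
  set R' := normalizerIn R₁ U' with hR'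
  haveI : Finite N := finite_of_le (S := R₁) inf_le_left
  haveI : Finite R' := finite_of_le (S := R₁) inf_le_left
  have hUN : U ≤ N := le_normalizerIn hUR
  obtain ⟨t, ht, hte⟩ := big _ θ hθ hcard
  obtain ⟨t', ht', ht'e⟩ := big _ θ' hθ' (by rw [hθ.card_fimg]; exact hcard)
  have hfN : ∀ x ∈ P, f x ∈ N := fun x hx => by
    have := hf.map_normalizerIn hUP hx (hPN hx).2
    rwa [hfU] at this
  set P' := fimg θ P with hP'
  have hP'N : P' ≤ fimg θ N := fimg_mono θ hPN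
  have hθ'P : ∀ y ∈ P', θ' y ∈ P := fun y hy => by
    obtain ⟨x, hx, rfl⟩ := (hθ.res hPN).mem_fimg_iff.1 hy
    rw [hθ1 x (hPN hx)]
    exact hx
  set f' := fun y => θ (f (θ' y)) with hf'def
  have hf' : IsMap E₁ P' f' := ((hθ'.res hP'N).comp hf hθ'P).comp hθ fun y hy => hfN _ (hθ'P y hy)
  have hU'P : U' ≤ P' := hθU ▸ fimg_mono θ hUP
  have hP'R : P' ≤ R' := fimg_le fun x hx => hθN x (hPN hx)
  have hCU' : C ≤ U' := by
    rw [← hθU]
    have hCN : C ≤ N := hCU.trans hUN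
    have hθC : fimg θ C = C := Subgroup.eq_of_le_of_card_ge (fimg_le fun x hx =>
      StronglyClosed.apply_mem hCsc (hθ.res hCN) le_rfl hx) (hθ.res hCN).card_fimg.ge
    rw [← hθC]
    exact fimg_mono θ hCU
  have hU'C : ¬ U' ≤ C := fun h => hUC fun x hx => by
    have h1 : θ x ∈ U' := hθU ▸ apply_mem_fimg θ hx
    have h2 := StronglyClosed.apply_mem hCsc (hθ'.res (fimg_mono θ hUN))
      (hθU.symm ▸ h) (apply_mem_fimg θ hx)
    rwa [hθ1 x (hUN hx)] at h2
  have hf'U : fimg f' U' = U' := by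
    haveI := finite_of_le hU'n.1
    refine Subgroup.eq_of_le_of_card_ge (fimg_le fun y hy => ?_) (hf'.res hU'P).card_fimg.ge
    rw [← hθU] at hy ⊢
    obtain ⟨x, hx, rfl⟩ := (hθ.res hUN).mem_fimg_iff.1 hy
    show θ (f (θ' (θ x))) ∈ _
    rw [hθ1 x (hUN hx)]
    exact apply_mem_fimg θ (hfU ▸ apply_mem_fimg f hx)
  suffices hmain : ∃ s ∈ R₁, ∀ y ∈ P', f' y = s * y * s⁻¹ by
    obtain ⟨s, hs, hse⟩ := hmain
    refine ⟨t' * s * t, R₁.mul_mem (R₁.mul_mem ht' hs) ht, fun x hx => ?_⟩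
    have hfx : f x = θ' (f' (θ x)) := by
      show f x = θ' (θ (f (θ' (θ x))))
      rw [hθ1 x (hPN hx), hθ1 _ (hfN x hx)]
    have hmem : f' (θ x) ∈ fimg θ N := by
      show θ (f (θ' (θ x))) ∈ fimg θ N
      rw [hθ1 x (hPN hx)]
      exact apply_mem_fimg θ (hfN x hx)
    rw [hfx, ht'e _ hmem, hse _ (apply_mem_fimg θ hx), hte x (hPN hx)]
    group
  have hNR' : Nat.card N ≤ Nat.card R' := hU'n.2 U (isConj_symm hU')
  have hR'R : R' ≤ R₁ := inf_le_left
  have hR'card := Subgroup.card_le_of_le hR'R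
  rcases hNR'.lt_or_eq with h | h
  · exact ihm (Nat.card R₁ - Nat.card R') (by omega) U' rfl hU'n.1 hCU' hU'C (hcard.trans h) P' f'
      hf' hU'P hP'R hf'U
  rcases hR'R.eq_or_lt with h' | h'
  · exact IHsub U' hU'n.1 (h'.ge.trans inf_le_right) hU'C P' f' hf' hU'P hf'U
  set E' := normalizerSystem E₁ U' hU'n.1 with hE'
  have hsub' : E'.IsSubsystemOf E₁ := normalizerSystem_isSubsystemOf hU'n.1
  have hU'R' : U' ≤ R' := le_normalizerIn hU'n.1
  have hCR' : C < R' := lt_of_le_of_ne (hCU'.trans hU'R') fun e => hU'C (e ▸ hU'R')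
  have hinner : IsInner E' := by
    refine IH R' hR'R (card_lt_of_lt h') E' (fun P φ hφ => hsub P (hsub' P hφ))
      (isSaturated_normalizerSystem hR hE₁ hU'n) C
      (isNormal_normalizerSystem_of_isNormal hU'n.1 hCn hCR'.le)
      (hCp.to_le (autGroup_mono hsub' C)) ?_
    intro P₁ g₁ hg₁ hYP hgY
    set Y := zjMod R' C with hY
    obtain ⟨hP₁, -, g, hg, hg1, hgU⟩ := (isMap_normalizerSystem hU'n.1).1 hg₁
    have hYR : Y ≤ R' := zjMod_le R' C
    have hCY := lt_zjMod (hR.to_le hR'R) hCR' (hR'R.trans hRC)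
    obtain ⟨w, hw, hwR'⟩ := SetLike.lt_iff_le_and_exists.1 (lt_normalizerIn hR h') |>.2
    have hnY : normalizerIn R₁ R' ≤ normalizerIn R₁ Y :=
      normalizer_zjMod E₁ hR'R hCR'.le hRC
    haveI : Finite ↥(normalizerIn R₁ Y) := finite_of_le (S := R₁) inf_le_left
    have hcardY : Nat.card R' < Nat.card ↥(normalizerIn R₁ Y) :=
      card_lt_of_lt (lt_of_le_of_ne ((le_normalizerIn hR'R).trans hnY) fun e =>
        hwR' (e ▸ hnY hw))
    have : Nat.card ↥(normalizerIn R₁ Y) ≤ Nat.card R₁ := Subgroup.card_le_of_le inf_le_left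
    have hle2 : P₁ ⊔ U' ≤ R' := sup_le hP₁ hU'R'
    have hgY' : fimg g Y = Y := (fimg_congr fun x hx => hg1 x (hYP hx)).trans hgY
    obtain ⟨s, hs, hse⟩ := ihm (Nat.card R₁ - Nat.card ↥(normalizerIn R₁ Y)) (by omega) Y rfl
      (hYR.trans hR'R) hCY.le (fun hle => (hCY.trans_le hle).false) (by omega) _ g hg
      (hYP.trans le_sup_left) (hle2.trans ((le_normalizerIn hR'R).trans hnY)) hgY'
    refine ⟨s, ⟨hs, ?_⟩, fun x hx => (hg1 x hx).symm.trans (hse x (Subgroup.mem_sup_left hx))⟩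
    have hconjU : ∀ y, y ∈ U' ↔ s⁻¹ * y * s ∈ U' := fun y => by
      rw [← mem_fimg_conj, ← fimg_congr fun x hx => hse x (Subgroup.mem_sup_right hx), hgU]
    exact Subgroup.mem_normalizer_iff''.2 hconjU
  have hf'm : IsMap E' P' f' := (isMap_normalizerSystem hU'n.1).2
    ⟨hP'R, fun x hx => by
      have := hf'.map_normalizerIn hU'P hx (hP'R hx).2
      rwa [hf'U] at this, f', hf'.res (sup_le le_rfl hU'P), fun x _ => rfl, hf'U⟩
  obtain ⟨s, hs, hse⟩ := hinner P' f' hf'm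
  exact ⟨s, hR'R hs, hse⟩

/-- Glauberman-Thompson for odd `p`, relative to a normal subgroup. -/
theorem isInner_of_zjMod (hp : p ≠ 2) {R : Subgroup Ω} [Finite R] {E : FusionSystem R}
    (hR : IsPGroup p R) (hE : E.IsSaturated p) {X : Subgroup Ω} (hX : E.IsNormal X)
    (hXp : IsPGroup p (E.autGroup X))
    (hN : ∀ P f, IsMap E P f → zjMod R X ≤ P → fimg f (zjMod R X) = zjMod R X →
      ∃ s ∈ R, ∀ x ∈ P, f x = s * x * s⁻¹) : IsInner E := by
  induction hn : Nat.card R using Nat.strong_induction_on generalizing R X with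
  | _ n ih =>
  have hXsc := stronglyClosed_of_isNormal hX
  have hRX : R ≤ Subgroup.normalizer (X : Set Ω) := fun s hs =>
    mem_normalizer_of_forall (fun u hu => StronglyClosed.conj_mem' hXsc hs hu) fun u hu => by
      simpa using StronglyClosed.conj_mem' hXsc (inv_mem hs) hu
  refine innerInduction hR hE (fun R' hR' hlt E' hsub hE' X' hX' hXp' hN' => by
    haveI := finite_of_le hR'
    exact ih _ (hn ▸ hlt) (hR.to_le hR') hE' hX' hXp' hN' rfl) ?_ ?_
  · intro f hf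
    haveI := finite_of_le hX.1
    haveI := finite_of_le (zjMod_le R X)
    have hfR := fimg_eq_self_of_source_top hf
    have hfX : fimg f X = X := Subgroup.eq_of_le_of_card_ge (fimg_le fun x hx =>
      StronglyClosed.apply_mem hXsc (hf.res hX.1) le_rfl hx) (hf.res hX.1).card_fimg.ge
    refine hN R f hf (zjMod_le R X) (Subgroup.eq_of_le_of_card_ge (fimg_le fun x hx => ?_)
      (hf.res (zjMod_le R X)).card_fimg.ge)
    exact zjMod_invariant hf hfR hX.1 hRX hfX hx
  intro R₁ E₁ hR₁ hsub hE₁ hnor hcc hbig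
  subst hR₁
  have hX₁ := hnor X hX
  haveI : (X.subgroupOf R₁).Normal := Subgroup.normal_subgroupOf_of_le_normalizer hRX
  set Nc := (X.subgroupOf R₁).normalCore with hNc
  set W := centerThompsonAOf (⊤ : Subgroup (R₁ ⧸ Nc)) with hW
  haveI : W.Normal := ⟨fun a ha b => centerThompsonA_invariant (MulAut.conj b) ha⟩
  have hXU := le_core hX₁
  refine (inner_or_invariant hp hR hE₁ (isNormal_core E₁) hcc hbig hX₁ hXU
      (hXp.to_le (autGroup_mono hsub X)) (QuotientGroup.mk' Nc) (QuotientGroup.mk'_surjective Nc)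
      (fun r => by
        rw [QuotientGroup.mk'_apply, QuotientGroup.eq_one_iff, hNc, Subgroup.normalCore_eq_self,
          Subgroup.mem_subgroupOf])
      (W := W) (fun a ha b hb => by
        exact Subgroup.mem_centralizer_iff.1 hb.2 a ha.1)
      (𝒜 := {A | IsMaxAb ⊤ A}) (fun A hA => hA.2.1)
      (fun A hA x hx => (mem_centerThompsonA_iff.1 hx).2 A hA)
      (fun B hB x hx => mem_centerThompsonA_iff.2 ⟨Subgroup.mem_top _, fun A hA => hB A hA hx⟩)
      ?_ ?_).elim id fun ⟨hYU, h⟩ => ?_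
  · intro α _ β _ u hu A hA hAU
    exact apply_mem_maxAb β hu A hA hAU
  · intro B hB hcl hBW hex
    haveI := hB
    exact exists_not_le_normalizing hp (R := ⊤)
      (IsPGroup.of_equiv (hR.to_quotient Nc) Subgroup.topEquiv.symm) le_rfl le_top
      (fun y _ => by rw [Subgroup.normalizer_eq_top]; exact Subgroup.mem_top _)
      (fun y _ => Subgroup.le_normalizer (Subgroup.mem_top _)) hcl
      (fun A hA => hBW.trans fun x hx => (mem_centerThompsonA_iff.1 hx).2 A hA) hex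
  · intro P f hf
    obtain ⟨g, hg, hg1, hgY⟩ := h P f hf
    obtain ⟨s, hs, hse⟩ := hN _ g (hg.mono hsub)
      (show zjMod R₁ X ≤ P ⊔ E₁.core from hYU.trans le_sup_right) hgY
    exact ⟨s, hs, fun x hx => (hg1 x hx).symm.trans (hse x (Subgroup.mem_sup_left hx))⟩

end

end Cfsg.Agent.Fus
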