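import Cfsg.Agent.Lib.Fus.OrbitTransfer
import Cfsg.Agent.Lib.Fus.InnerCrit
import Cfsg.Agent.Lib.Fus.Alperin
import Cfsg.Agent.Lib.Transfer.Residual
import Cfsg.Agent.Lib.Grp.Frattini
import Cfsg.Agent.Lib.Grp.Coprime

/-!
The focal and hyperfocal subgroups of a saturated system: maps are conjugations modulo the
hyperfocal subgroup, Tate's criteria, and criteria for a system to be inner.
-/

set_option autoImplicit false
set_option linter.style.haveILetI false
set_option linter.unusedSectionVars false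

open scoped Classical commutatorElement

namespace Cfsg.Agent.Fus

open Subgroup FusionSystem

universe u

variable {Ω : Type u} [Group Ω] {S : Subgroup Ω} {F : FusionSystem S} {p : ℕ}

theorem IsMap.focal_mem {P : Subgroup Ω} {f : Ω → Ω} (hf : IsMap F P f) {z : Ω} (hz : z ∈ P) :
    z⁻¹ * f z ∈ F.focalSubgroup := by
  obtain ⟨φ, hφ, e⟩ := hf.exists_hom
  exact Subgroup.subset_closure ⟨P, φ, ⟨z, hz⟩, hφ, by rw [e]⟩

theorem focalSubgroup_le_iff {M : Subgroup Ω} :
    F.focalSubgroup ≤ M ↔ ∀ P f, IsMap F P f → ∀ z ∈ P, z⁻¹ * f z ∈ M := by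
  refine ⟨fun h P f hf z hz => h (hf.focal_mem hz), fun h => ?_⟩
  refine (Subgroup.closure_le _).2 ?_
  rintro _ ⟨P, φ, x, hφ, rfl⟩
  rw [← toFun_coe φ x]
  exact h P _ (isMap_toFun hφ) x x.2

theorem focalSubgroup_le (F : FusionSystem S) : F.focalSubgroup ≤ S :=
  focalSubgroup_le_iff.2 fun _ _ hf _ hz => S.mul_mem (S.inv_mem (hf.source_le hz)) (hf.apply_mem hz)

theorem commutator_le_focal (F : FusionSystem S) : ⁅S, S⁆ ≤ F.focalSubgroup := by
  refine Subgroup.commutator_le.2 fun a ha b hb => ?_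
  have := (isMap_conj F (le_refl S) hb).focal_mem (S.inv_mem ha)
  rwa [show a⁻¹⁻¹ * (b * a⁻¹ * b⁻¹) = ⁅a, b⁆ by simp [commutatorElement_def, mul_assoc]] at this

theorem focalSubgroup_mono {H : FusionSystem S} (h : H.IsSubsystemOf F) :
    H.focalSubgroup ≤ F.focalSubgroup :=
  focalSubgroup_le_iff.2 fun _ _ hf _ hz => (IsMap.mono h hf).focal_mem hz

theorem hyperfocal_mem {P : Subgroup Ω} (hP : P ≤ S) {α : F.autGroup P}
    (hα : α ∈ pResidual p (F.autGroup P)) {x : Ω} (hx : x ∈ P) :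
    x⁻¹ * autFun (α : MulAut P) x ∈ F.hyperfocalSubgroup p := by
  rw [show x = ((⟨x, hx⟩ : P) : Ω) from rfl, autFun_coe]
  exact Subgroup.subset_closure ⟨P, α, ⟨x, hx⟩, hP, hα, rfl⟩

theorem hyperfocal_le_iff {M : Subgroup Ω} :
    F.hyperfocalSubgroup p ≤ M ↔ ∀ (P : Subgroup Ω), P ≤ S → ∀ α : F.autGroup P,
      α ∈ pResidual p (F.autGroup P) → ∀ x ∈ P, x⁻¹ * autFun (α : MulAut P) x ∈ M := by
  refine ⟨fun h P hP α hα x hx => h (hyperfocal_mem hP hα hx), fun h => ?_⟩
  refine (Subgroup.closure_le _).2 ?_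
  rintro _ ⟨P, α, x, hP, hα, rfl⟩
  rw [← autFun_coe]
  exact h P hP α hα x x.2

theorem hyperfocal_le_focal (F : FusionSystem S) (p : ℕ) :
    F.hyperfocalSubgroup p ≤ F.focalSubgroup :=
  hyperfocal_le_iff.2 fun _ hP α _ _ hx => ((mem_autGroup hP).1 α.2).focal_mem hx

theorem hyperfocal_le (F : FusionSystem S) (p : ℕ) : F.hyperfocalSubgroup p ≤ S :=
  (hyperfocal_le_focal F p).trans (focalSubgroup_le F)

theorem hyperfocal_mono {H : FusionSystem S} (h : H.IsSubsystemOf F) :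
    H.hyperfocalSubgroup p ≤ F.hyperfocalSubgroup p := by
  refine hyperfocal_le_iff.2 fun P hP α hα x hx => ?_
  exact hyperfocal_mem (F := F) hP (Transfer.pResidual_map_le (Subgroup.inclusion (autGroup_mono h P))
    ⟨α, hα, rfl⟩) hx

theorem hyperfocal_conj_mem {s z : Ω} (hs : s ∈ S) (hz : z ∈ F.hyperfocalSubgroup p) :
    s * z * s⁻¹ ∈ F.hyperfocalSubgroup p := by
  suffices F.hyperfocalSubgroup p ≤
      (F.hyperfocalSubgroup p).comap (MulAut.conj s).toMonoidHom from this hz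
  refine hyperfocal_le_iff.2 fun P hP α hα x hx => ?_
  have hf := isMap_conj F hP hs
  obtain ⟨e, he, heA⟩ := exists_mulEquiv hf rfl
  let E : F.autGroup P →* F.autGroup (fimg (fun y => s * y * s⁻¹) P) :=
    ((MulAut.congr e).toMonoidHom.comp (F.autGroup P).subtype).codRestrict _
      fun β => (heA _).1 β.2
  have h := hyperfocal_mem hf.fimg_le_S (Transfer.pResidual_map_le E ⟨α, hα, rfl⟩)
    (apply_mem_fimg _ hx)
  show s * (x⁻¹ * autFun (α : MulAut P) x) * s⁻¹ ∈ F.hyperfocalSubgroup p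
  have e2 : autFun (E α).1 (s * x * s⁻¹) =
      s * autFun (α : MulAut P) x * s⁻¹ := by
    have e3 : (⟨s * x * s⁻¹, apply_mem_fimg _ hx⟩ : fimg (fun y => s * y * s⁻¹) P) = e ⟨x, hx⟩ :=
      Subtype.ext (he ⟨x, hx⟩).symm
    rw [show autFun (α : MulAut P) x = (((α : MulAut P) ⟨x, hx⟩ : P) : Ω) from autFun_coe _ ⟨x, hx⟩,
      ← he]
    refine (autFun_coe (E α).1 ⟨_, apply_mem_fimg _ hx⟩).trans ?_
    rw [e3]
    simp [E, MulAut.congr]
  rw [e2] at h
  simpa [mul_assoc] using h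

/-- A product of an element of the residual and an induced automorphism. -/
theorem aut_decomp [Finite S] [Fact p.Prime] {P : Subgroup Ω} (hfa : F.IsFullyAutomized p P)
    (α : F.autGroup P) :
    ∃ g ∈ S, ∃ ρ ∈ pResidual p (F.autGroup P),
      ∀ z ∈ P, autFun (α : MulAut P) z = g * autFun (ρ : MulAut P) z * g⁻¹ := by
  obtain ⟨hPS, R, hR⟩ := hfa
  haveI := finite_of_le hPS
  haveI : Finite (F.autGroup P) := inferInstance
  obtain ⟨r, hr, ρ, hρ, rfl⟩ := Subgroup.mem_sup_of_normal_right.1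
    (show α ∈ (R : Subgroup (F.autGroup P)) ⊔ pResidual p (F.autGroup P) by
      rw [Transfer.sylow_sup_pResidual]; exact Subgroup.mem_top α)
  rw [hR] at hr
  obtain ⟨g, hg, hge⟩ := mem_autInducedBy.1 (show (r : MulAut P) ∈ autInducedBy S P from hr)
  refine ⟨g, hg, ρ, hρ, fun z hz => ?_⟩
  rw [Subgroup.coe_mul, autFun_mul _ _ hz]
  have hz' := autFun_mem (ρ : MulAut P) hz
  rw [show autFun (r : MulAut P) (autFun (ρ : MulAut P) z) = _ from
    autFun_coe (r : MulAut P) ⟨_, hz'⟩]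
  exact hge ⟨_, hz'⟩

/-- Every map is a conjugation modulo the hyperfocal subgroup. -/
theorem exists_conj_congr [Finite S] [Fact p.Prime] (hS : IsPGroup p S) (hF : F.IsSaturated p)
    {P : Subgroup Ω} {f : Ω → Ω} (hf : IsMap F P f) :
    ∃ s ∈ S, ∀ z ∈ P, (s * z * s⁻¹)⁻¹ * f z ∈ F.hyperfocalSubgroup p := by
  have key : ∀ Q, F.IsFullyNormalized Q → ∀ α ∈ F.autGroup Q,
      ∃ s ∈ S, ∀ z ∈ Q, (s * z * s⁻¹)⁻¹ * autFun α z ∈ F.hyperfocalSubgroup p := by
    intro Q hQ α hα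
    obtain ⟨g, hg, ρ, hρ, h⟩ := aut_decomp (fullyAutomized_of_fullyNormalized hS hF hQ) ⟨α, hα⟩
    refine ⟨g, hg, fun z hz => ?_⟩
    rw [h z hz, show (g * z * g⁻¹)⁻¹ * (g * autFun (ρ : MulAut Q) z * g⁻¹) =
      g * (z⁻¹ * autFun (ρ : MulAut Q) z) * g⁻¹ by group]
    exact hyperfocal_conj_mem hg (hyperfocal_mem hQ.1 hρ hz)
  refine alperin hS hF
    (fun P f => ∃ s ∈ S, ∀ z ∈ P, (s * z * s⁻¹)⁻¹ * f z ∈ F.hyperfocalSubgroup p)
    ?_ ?_ ?_ (fun α hα => key S (fullyNormalized_self F) α hα) (fun Q hQ => key Q hQ.2.1) hf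
  · rintro P f g ⟨s, hs, h⟩ e
    exact ⟨s, hs, fun z hz => e z hz ▸ h z hz⟩
  · rintro P Q f g - - hfQ ⟨s, hs, h⟩ ⟨t, ht, h'⟩
    refine ⟨t * s, S.mul_mem ht hs, fun z hz => ?_⟩
    have h1 := h' (f z) (hfQ z hz)
    have h2 := hyperfocal_conj_mem ht (h z hz)
    show (t * s * z * (t * s)⁻¹)⁻¹ * g (f z) ∈ _
    rw [show (t * s * z * (t * s)⁻¹)⁻¹ * g (f z) = (t * ((s * z * s⁻¹)⁻¹ * f z) * t⁻¹) *
      ((t * f z * t⁻¹)⁻¹ * g (f z)) by group]
    exact mul_mem h2 h1
  · rintro P Q f - hPQ ⟨s, hs, h⟩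
    exact ⟨s, hs, fun z hz => h z (hPQ hz)⟩

theorem IsMap.apply_mem_hyperfocal [Finite S] [Fact p.Prime] (hS : IsPGroup p S)
    (hF : F.IsSaturated p) {P : Subgroup Ω} {f : Ω → Ω} (hf : IsMap F P f) {z : Ω} (hz : z ∈ P)
    (hzM : z ∈ F.hyperfocalSubgroup p) : f z ∈ F.hyperfocalSubgroup p := by
  obtain ⟨s, hs, h⟩ := exists_conj_congr hS hF hf
  have := mul_mem (hyperfocal_conj_mem hs hzM) (h z hz)
  rwa [show s * z * s⁻¹ * ((s * z * s⁻¹)⁻¹ * f z) = f z by group] at this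

/-- The focal subgroup is the hyperfocal subgroup times the derived subgroup. -/
theorem focal_eq_hyperfocal_sup [Finite S] [Fact p.Prime] (hS : IsPGroup p S)
    (hF : F.IsSaturated p) : F.focalSubgroup = F.hyperfocalSubgroup p ⊔ ⁅S, S⁆ := by
  refine le_antisymm (focalSubgroup_le_iff.2 fun P f hf z hz => ?_)
    (sup_le (hyperfocal_le_focal F p) (commutator_le_focal F))
  obtain ⟨s, hs, h⟩ := exists_conj_congr hS hF hf
  rw [show z⁻¹ * f z = ⁅z⁻¹, s⁆ * ((s * z * s⁻¹)⁻¹ * f z) by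
    simp [commutatorElement_def, mul_assoc]]
  exact mul_mem (Subgroup.mem_sup_right (Subgroup.commutator_mem_commutator
    (S.inv_mem (hf.source_le hz)) hs)) (Subgroup.mem_sup_left (h z hz))

/-- In a finite nilpotent group a normal subgroup contained in its commutator with the group modulo
`T` lies in `T`. -/
theorem le_of_le_sup_commutator {G : Type*} [Group G] [Group.IsNilpotent G] (M T : Subgroup G)
    [T.Normal] (h : M ≤ T ⊔ ⁅M, (⊤ : Subgroup G)⁆) : M ≤ T := by
  obtain ⟨n, hn⟩ := (Subgroup.nilpotent_iff_lowerCentralSeries (G := G ⧸ T)).1 inferInstance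
  have key : ∀ k, M.map (QuotientGroup.mk' T) ≤ (⊤ : Subgroup (G ⧸ T)).lowerCentralSeries k := by
    intro k
    induction k with
    | zero => rw [Subgroup.lowerCentralSeries_zero]; exact le_top
    | succ k ih =>
      have h1 := Subgroup.map_mono (f := QuotientGroup.mk' T) h
      rw [Subgroup.map_sup, Subgroup.map_commutator, QuotientGroup.map_mk'_self, bot_sup_eq] at h1
      exact h1.trans (Subgroup.commutator_mono ih le_top)
  have := key n
  rw [hn, le_bot_iff, Subgroup.map_eq_bot_iff, QuotientGroup.ker_mk'] at this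
  exact this

/-- Tate, hyperfocal form: a normal `T₀` inside the hyperfocal subgroup which covers it modulo the
derived subgroup is all of it. -/
theorem hyperfocal_le_of_le_sup [Finite S] [Fact p.Prime] (hS : IsPGroup p S)
    (hF : F.IsSaturated p) {T₀ : Subgroup Ω} (hT : T₀ ≤ F.hyperfocalSubgroup p)
    (hTn : ∀ s ∈ S, ∀ z ∈ T₀, s * z * s⁻¹ ∈ T₀)
    (hle : F.hyperfocalSubgroup p ≤ T₀ ⊔ ⁅S, S⁆) : F.hyperfocalSubgroup p ≤ T₀ := by
  set M := F.hyperfocalSubgroup p with hM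
  have hMS : M ≤ S := hyperfocal_le F p
  haveI := finite_of_le hMS
  set N := T₀ ⊔ ⁅M, S⁆ with hN
  have hMn : S ≤ Subgroup.normalizer (M : Set Ω) := fun s hs =>
    mem_normalizer_of_forall (fun x hx => hyperfocal_conj_mem hs hx) fun x hx => by
      simpa using hyperfocal_conj_mem (S.inv_mem hs) hx
  have hNM : N ≤ M := sup_le hT (Grp.commutator_le_left_of_le_normalizer hMn)
  have hcomm : ∀ z ∈ M, ∀ s ∈ S, z⁻¹ * (s * z * s⁻¹) ∈ N := fun z hz s hs => by
    rw [show z⁻¹ * (s * z * s⁻¹) = ⁅z⁻¹, s⁆ by simp [commutatorElement_def, mul_assoc]]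
    exact Subgroup.mem_sup_right (Subgroup.commutator_mem_commutator (M.inv_mem hz) hs)
  suffices hMN : M ≤ N by
    haveI : Group.IsNilpotent S := hS.isNilpotent
    haveI : (T₀.subgroupOf S).Normal := ⟨fun n hn g => hTn g g.2 n hn⟩
    have h := le_of_le_sup_commutator (M.subgroupOf S) (T₀.subgroupOf S) (by
      rw [← Subgroup.map_le_map_iff_of_injective S.subtype_injective, Subgroup.map_sup,
        Subgroup.map_commutator, ← MonoidHom.range_eq_map, Subgroup.range_subtype,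
        Subgroup.subgroupOf_map_subtype, Subgroup.subgroupOf_map_subtype, inf_eq_left.2 hMS,
        inf_eq_left.2 (hT.trans hMS)]
      exact hMN)
    intro z hz
    exact h (show (⟨z, hMS hz⟩ : S) ∈ M.subgroupOf S from hz)
  haveI : (N.subgroupOf M).Normal := ⟨fun n hn g => by
    show (g : Ω) * (n : Ω) * (g : Ω)⁻¹ ∈ N
    have h1 := mul_mem (show (n : Ω) ∈ N from hn) (hcomm n n.2 g (hMS g.2))
    rwa [show (n : Ω) * ((n : Ω)⁻¹ * ((g : Ω) * n * (g : Ω)⁻¹)) = (g : Ω) * n * (g : Ω)⁻¹ by group]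
      at h1⟩
  letI : CommGroup (↥M ⧸ N.subgroupOf M) :=
    { (inferInstance : Group (↥M ⧸ N.subgroupOf M)) with
      mul_comm := fun a b => by
        induction a using QuotientGroup.induction_on with
        | _ a =>
        induction b using QuotientGroup.induction_on with
        | _ b =>
        rw [← QuotientGroup.mk_mul, ← QuotientGroup.mk_mul, QuotientGroup.eq]
        show ((a * b)⁻¹ * (b * a) : M).1 ∈ N
        have := hcomm b b.2 _ (S.inv_mem (hMS a.2))
        rw [inv_inv] at this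
        simpa [mul_assoc] using this }
  let ψ : M →* ↥M ⧸ N.subgroupOf M := QuotientGroup.mk' (N.subgroupOf M)
  have hψ : ∀ z : M, ψ z = 1 ↔ (z : Ω) ∈ N := fun z => QuotientGroup.eq_one_iff z
  have hinv : ∀ s ∈ S, ∀ (z : Ω) (hz : z ∈ M) (hz' : s * z * s⁻¹ ∈ M),
      ψ ⟨_, hz'⟩ = ψ ⟨z, hz⟩ := fun s hs z hz hz' => by
    symm
    refine QuotientGroup.eq.2 ?_
    exact hcomm z hz s hs
  obtain ⟨d, D, hd, -, hinvT⟩ := exists_orbitTransfer hS hF hMS ψ hinv ⊤ fun P f hf => by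
    refine ⟨fun z hz hzM => hf.apply_mem_hyperfocal hS hF hz hzM, ?_⟩
    obtain ⟨s, hs, h⟩ := exists_conj_congr hS hF hf
    let δ : P →* (⊤ : Subgroup (↥M ⧸ N.subgroupOf M)) := MonoidHom.mk'
      (fun z => ⟨ψ ⟨_, h z z.2⟩, Subgroup.mem_top _⟩) fun z w => by
        refine Subtype.ext ?_
        show ψ ⟨_, h _ (z * w).2⟩ = ψ ⟨_, h z z.2⟩ * ψ ⟨_, h w w.2⟩
        have hws : ((s * (w : Ω) * s⁻¹)⁻¹) ∈ S :=
          S.inv_mem (S.mul_mem (S.mul_mem hs (hf.source_le w.2)) (S.inv_mem hs))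
        rw [← hinv _ hws _ (h z z.2) (hyperfocal_conj_mem hws (h z z.2)), ← map_mul]
        congr 1
        refine Subtype.ext ?_
        show (s * ((z : Ω) * w) * s⁻¹)⁻¹ * f ((z : Ω) * w) = _
        rw [hf.map_mul z.2 w.2]
        simp [mul_assoc]
    refine ⟨δ, fun z hz h1 h2 => ?_⟩
    show _ = _ * ψ ⟨_, h z hz⟩
    rw [← hinv s hs z h1 (hyperfocal_conj_mem hs h1), ← map_mul]
    exact congrArg ψ (Subtype.ext (mul_inv_cancel_left _ (f z)).symm)
  let T : M →* ↥M ⧸ N.subgroupOf M := ψ ^ d * D.comp (Subgroup.inclusion hMS)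
  have hT' : ∀ z : M, T z = ψ z ^ d * D ⟨z, hMS z.2⟩ := fun z => rfl
  have hTinv : ∀ (P : Subgroup Ω) (f : Ω → Ω), IsMap F P f → ∀ (z : M), (z : Ω) ∈ P →
      ∀ (h2 : f z ∈ M), T ⟨f z, h2⟩ = T z := fun P f hf z hz h2 => by
    rw [hT', hT']
    exact (hinvT P f hf z hz z.2 h2).symm
  -- `T` kills the generators of `M`
  have hker : M ≤ T.ker.map M.subtype := by
    refine hyperfocal_le_iff.2 fun P hP α hα x hx => ?_
    suffices ∀ x (hx : x ∈ P), T ⟨_, hyperfocal_mem (F := F) hP hα hx⟩ = 1 from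
      ⟨⟨_, hyperfocal_mem (F := F) hP hα hx⟩, this x hx, rfl⟩
    clear hx x
    have hMmem : ∀ β ∈ pResidual p (F.autGroup P), ∀ x, x ∈ P →
        x⁻¹ * autFun ((β : F.autGroup P) : MulAut P) x ∈ M :=
      fun β hβ x hx => hyperfocal_mem hP hβ hx
    induction hα using Subgroup.closure_induction with
    | mem a ha =>
      have ham := (mem_autGroup hP).1 a.2
      have haM : ∀ w ∈ P, w⁻¹ * autFun (a : MulAut P) w ∈ M := fun w hw =>
        hMmem a (Subgroup.subset_closure ha) w hw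
      have haP : ∀ w ∈ P, w⁻¹ * autFun (a : MulAut P) w ∈ P := fun w hw =>
        P.mul_mem (P.inv_mem hw) (autFun_mem _ hw)
      -- the value is constant along an orbit
      have key : ∀ w (hw : w ∈ P), T ⟨_, haM _ (autFun_mem (a : MulAut P) hw)⟩ =
          T ⟨_, haM w hw⟩ := fun w hw => by
        refine Eq.trans ?_ (hTinv P _ ham ⟨_, haM w hw⟩ (haP w hw)
          (ham.apply_mem_hyperfocal hS hF (haP w hw) (haM w hw)))
        refine congrArg T (Subtype.ext ?_)
        show _ = autFun (a : MulAut P) (w⁻¹ * autFun (a : MulAut P) w)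
        rw [ham.map_mul (P.inv_mem hw) (autFun_mem _ hw), ham.map_inv hw]
      intro x hx
      have hcongr : ∀ w w' (hw : w ∈ P) (hw' : w' ∈ P), w = w' →
          T ⟨_, haM w hw⟩ = T ⟨_, haM w' hw'⟩ := by
        intro w w' hw hw' e
        subst e
        rfl
      have horb : ∀ k : ℕ,
          T ⟨_, haM _ (autFun_mem ((a ^ k : F.autGroup P) : MulAut P) hx)⟩ = T ⟨_, haM x hx⟩ := by
        intro k
        induction k with
        | zero =>
          exact hcongr _ x (autFun_mem ((a ^ 0 : F.autGroup P) : MulAut P) hx) hx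
            (by rw [pow_zero, Subgroup.coe_one, autFun_one hx])
        | succ k ih =>
          refine Eq.trans ?_ ((key _ (autFun_mem _ hx)).trans ih)
          exact hcongr _ _ (autFun_mem ((a ^ (k + 1) : F.autGroup P) : MulAut P) hx)
            (autFun_mem (a : MulAut P) (autFun_mem ((a ^ k : F.autGroup P) : MulAut P) hx))
            (by rw [pow_succ', Subgroup.coe_mul, autFun_mul _ _ hx])
      have hstep : ∀ k : ℕ, T ⟨_, hMmem _ (pow_mem (Subgroup.subset_closure ha) k) x hx⟩ =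
          T ⟨_, haM x hx⟩ ^ k := by
        intro k
        induction k with
        | zero =>
          refine ((congrArg T (Subtype.ext ?_)).trans (map_one T)).trans (pow_zero _).symm
          show x⁻¹ * autFun ((a ^ 0 : F.autGroup P) : MulAut P) x = 1
          rw [pow_zero, Subgroup.coe_one, autFun_one hx, inv_mul_cancel]
        | succ k ih =>
          refine Eq.trans ?_ (pow_succ _ k).symm
          rw [← ih]
          refine Eq.trans ?_ (congrArg (_ * ·) (horb k))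
          show _ = _ * _
          rw [← map_mul]
          refine congrArg T (Subtype.ext ?_)
          show x⁻¹ * autFun ((a ^ (k + 1) : F.autGroup P) : MulAut P) x = _
          rw [pow_succ', Subgroup.coe_mul, autFun_mul _ _ hx]
          simp [mul_assoc]
      have h0 : T ⟨_, haM x hx⟩ ^ orderOf a = 1 := by
        rw [← hstep]
        refine (congrArg T (Subtype.ext ?_)).trans (map_one T)
        show x⁻¹ * autFun ((a ^ orderOf a : F.autGroup P) : MulAut P) x = 1
        rw [pow_orderOf_eq_one, Subgroup.coe_one, autFun_one hx, inv_mul_cancel]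
      obtain ⟨k, hk⟩ := ((hS.to_le hMS).to_quotient (N.subgroupOf M)) (T ⟨_, haM x hx⟩)
      rw [← pow_one (T _), ← (Nat.Coprime.pow_right k ha).gcd_eq_one]
      exact pow_gcd_eq_one.2 ⟨h0, hk⟩
    | one =>
      intro x hx
      refine (congrArg T (Subtype.ext ?_)).trans (map_one T)
      show x⁻¹ * autFun ((1 : F.autGroup P) : MulAut P) x = 1
      rw [Subgroup.coe_one, autFun_one hx, inv_mul_cancel]
    | mul a b hamem hbmem iha ihb =>
      intro x hx
      refine Eq.trans ?_ (by rw [ihb x hx, iha _ (autFun_mem (b : MulAut P) hx), mul_one] :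
        T ⟨_, hMmem b hbmem x hx⟩ * T ⟨_, hMmem a hamem _ (autFun_mem (b : MulAut P) hx)⟩ = 1)
      rw [← map_mul]
      refine congrArg T (Subtype.ext ?_)
      show x⁻¹ * autFun ((a * b : F.autGroup P) : MulAut P) x = _
      rw [Subgroup.coe_mul, autFun_mul _ _ hx]
      simp [mul_assoc]
    | inv a hamem iha =>
      intro x hx
      have hy := autFun_mem ((a : MulAut P)⁻¹) hx
      refine Eq.trans ?_ (by rw [iha _ hy, inv_one] : (T ⟨_, hMmem a hamem _ hy⟩)⁻¹ = 1)
      rw [← map_inv]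
      refine congrArg T (Subtype.ext ?_)
      show x⁻¹ * autFun ((a⁻¹ : F.autGroup P) : MulAut P) x =
        ((autFun (a : MulAut P)⁻¹ x)⁻¹ * autFun (a : MulAut P) (autFun (a : MulAut P)⁻¹ x))⁻¹
      rw [← autFun_mul _ _ hx, mul_inv_cancel, autFun_one hx, Subgroup.coe_inv, mul_inv_rev,
        inv_inv]
  have hT1 : ∀ z : M, T z = 1 := fun z => by
    obtain ⟨w, hw, e⟩ := hker z.2
    rw [← Subtype.ext e (a1 := w) (a2 := z)]
    exact hw
  have hD : T₀ ⊔ ⁅S, S⁆ ≤ D.ker.map S.subtype := by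
    refine sup_le (fun z hz => ⟨⟨z, hMS (hT hz)⟩, ?_, rfl⟩) ?_
    · have e := hT' ⟨z, hT hz⟩
      rw [hT1, (hψ _).2 (Subgroup.mem_sup_left hz), one_pow, one_mul] at e
      exact e.symm
    · refine Subgroup.commutator_le.2 fun a ha b hb => ⟨⁅(⟨a, ha⟩ : S), ⟨b, hb⟩⁆, ?_, rfl⟩
      show D _ = 1
      rw [map_commutatorElement, commutatorElement_eq_one_iff_mul_comm.2 (mul_comm _ _)]
  intro z hz
  have e := hT' ⟨z, hz⟩
  obtain ⟨w, hw, ew⟩ := hD (hle hz)
  rw [hT1, show (⟨z, hMS hz⟩ : S) = w from Subtype.ext ew.symm,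
    show D w = 1 from hw, mul_one] at e
  obtain ⟨k, hk⟩ := ((hS.to_le hMS).to_quotient (N.subgroupOf M)) (ψ ⟨z, hz⟩)
  refine (hψ ⟨z, hz⟩).1 ?_
  rw [← pow_one (ψ ⟨z, hz⟩),
    ← (((Fact.out : p.Prime).coprime_iff_not_dvd.2 hd).symm.pow_right k).gcd_eq_one]
  exact pow_gcd_eq_one.2 ⟨e.symm, hk⟩

/-- Tate, focal form. -/
theorem focal_eq_of_le_frattini_sup [Finite S] [Fact p.Prime] (hS : IsPGroup p S)
    (hF : F.IsSaturated p) {X : Subgroup Ω} (hX : ⁅S, S⁆ ≤ X) (hXF : X ≤ F.focalSubgroup)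
    (hle : F.focalSubgroup ≤ (frattini ↥S).map S.subtype ⊔ X) : F.focalSubgroup = X := by
  have hXS : X ≤ S := hXF.trans (focalSubgroup_le F)
  haveI : (X.subgroupOf S).Normal := ⟨fun n hn g => by
    show (g : Ω) * (n : Ω) * (g : Ω)⁻¹ ∈ X
    have h1 := mul_mem (hX (Subgroup.commutator_mem_commutator g.2 n.2)) hn
    simpa [commutatorElement_def] using h1⟩
  letI : CommGroup (↥S ⧸ X.subgroupOf S) :=
    { (inferInstance : Group (↥S ⧸ X.subgroupOf S)) with
      mul_comm := fun a b => by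
        induction a using QuotientGroup.induction_on with
        | _ a =>
        induction b using QuotientGroup.induction_on with
        | _ b =>
        rw [← QuotientGroup.mk_mul, ← QuotientGroup.mk_mul, QuotientGroup.eq]
        show ((a * b)⁻¹ * (b * a) : S).1 ∈ X
        have := hX (Subgroup.commutator_mem_commutator (S.inv_mem b.2) (S.inv_mem a.2))
        simpa [commutatorElement_def, mul_assoc] using this }
  let ψ : S →* ↥S ⧸ X.subgroupOf S := QuotientGroup.mk' (X.subgroupOf S)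
  let B := (F.focalSubgroup.subgroupOf S).map ψ
  have hinv : ∀ s ∈ S, ∀ (z : Ω) (hz : z ∈ S) (hz' : s * z * s⁻¹ ∈ S),
      ψ ⟨_, hz'⟩ = ψ ⟨z, hz⟩ := fun s hs z hz hz' => by
    rw [show (⟨_, hz'⟩ : S) = ⟨s, hs⟩ * ⟨z, hz⟩ * ⟨s, hs⟩⁻¹ from rfl, map_mul, map_mul, map_inv,
      mul_comm (ψ ⟨s, hs⟩), mul_inv_cancel_right]
  obtain ⟨d, D, hd, hDB, hinvT⟩ := exists_orbitTransfer hS hF le_rfl ψ hinv B fun P f hf => by
    refine ⟨fun z hz _ => hf.apply_mem hz, ?_⟩
    let δ : P →* B := MonoidHom.mk'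
      (fun z => ⟨ψ ⟨_, S.mul_mem (S.inv_mem (hf.source_le z.2)) (hf.apply_mem z.2)⟩,
        Subgroup.mem_map_of_mem _ (hf.focal_mem z.2)⟩) fun z w => by
        refine Subtype.ext ?_
        show ψ (⟨((z : Ω) * w)⁻¹ * f ((z : Ω) * w), _⟩) = ψ _ * ψ _
        have hz := hf.source_le z.2
        have hw := hf.source_le w.2
        have e : ∀ {a b : Ω} (ha : a ∈ S) (hb : b ∈ S), ψ ⟨a⁻¹ * b, S.mul_mem (S.inv_mem ha) hb⟩ =
            (ψ ⟨a, ha⟩)⁻¹ * ψ ⟨b, hb⟩ := fun ha hb => by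
          rw [← map_inv, ← map_mul]
          rfl
        rw [e (S.mul_mem hz hw) (hf.apply_mem (P.mul_mem z.2 w.2)), e hz (hf.apply_mem z.2),
          e hw (hf.apply_mem w.2),
          show (⟨(z : Ω) * w, S.mul_mem hz hw⟩ : S) = ⟨_, hz⟩ * ⟨_, hw⟩ from rfl,
          show (⟨f ((z : Ω) * w), hf.apply_mem (P.mul_mem z.2 w.2)⟩ : S) =
            ⟨_, hf.apply_mem z.2⟩ * ⟨_, hf.apply_mem w.2⟩ from Subtype.ext (hf.map_mul z.2 w.2),
          map_mul, map_mul, mul_inv_rev]
        ac_rfl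
    refine ⟨δ, fun z hz h1 h2 => ?_⟩
    show _ = _ * ψ _
    rw [← map_mul]
    exact congrArg ψ (Subtype.ext (by show f z = z * (z⁻¹ * f z); group))
  let T : S →* ↥S ⧸ X.subgroupOf S := ψ ^ d * D
  have hT : F.focalSubgroup.subgroupOf S ≤ T.ker := by
    rw [← Subgroup.map_le_map_iff_of_injective S.subtype_injective,
      Subgroup.subgroupOf_map_subtype, inf_eq_left.2 (focalSubgroup_le F)]
    refine focalSubgroup_le_iff.2 fun P f hf z hz => ?_
    refine ⟨(⟨z, hf.source_le hz⟩ : S)⁻¹ * ⟨f z, hf.apply_mem hz⟩, ?_, rfl⟩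
    show T _ = 1
    rw [map_mul, map_inv, inv_mul_eq_one]
    exact hinvT P f hf z hz (hf.source_le hz) (hf.apply_mem hz)
  have hψs : Function.Surjective ψ := QuotientGroup.mk'_surjective _
  have hAp : IsPGroup p (↥S ⧸ X.subgroupOf S) := hS.to_quotient _
  have hcop : (Nat.card (↥S ⧸ X.subgroupOf S)).Coprime d := by
    obtain ⟨k, hk⟩ := IsPGroup.iff_card.1 hAp
    rw [hk]
    exact ((Fact.out : p.Prime).coprime_iff_not_dvd.2 hd).pow_left k
  have hsurj : T.range = ⊤ := by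
    have hKT : T.range.comap ψ ⊔ frattini S = ⊤ := by
      rw [eq_top_iff]
      intro s _
      obtain ⟨a, ha⟩ := (powCoprime hcop).surjective (ψ s)
      obtain ⟨t, rfl⟩ := hψs a
      change ψ t ^ d = ψ s at ha
      obtain ⟨b, hb, hbe⟩ := hDB t
      have hb' : b ∈ frattini S ⊔ X.subgroupOf S := by
        have h1 : b ∈ ((frattini ↥S).map S.subtype ⊔ X).subgroupOf S := hle hb
        rwa [Subgroup.subgroupOf_sup (Subgroup.map_subtype_le _) hXS,
          show ((frattini ↥S).map S.subtype).subgroupOf S = frattini ↥S from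
            Subgroup.comap_map_eq_self_of_injective S.subtype_injective _] at h1
      obtain ⟨φ, hφ, x, hx, rfl⟩ := Subgroup.mem_sup_of_normal_right.1 hb'
      have hx1 : ψ x = 1 := (QuotientGroup.eq_one_iff x).2 hx
      rw [map_mul, hx1, mul_one] at hbe
      refine Subgroup.mem_sup_of_normal_right.2 ⟨s * φ, ⟨t, ?_⟩, φ⁻¹, inv_mem hφ, by group⟩
      show ψ t ^ d * D t = ψ (s * φ)
      rw [map_mul, ← ha, hbe]
    rw [eq_top_iff]
    intro a _
    obtain ⟨s, rfl⟩ := hψs a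
    have h := frattini_nongenerating hKT
    exact (show s ∈ T.range.comap ψ by rw [h]; exact Subgroup.mem_top s)
  have hker : T.ker = X.subgroupOf S := by
    have h1 : T.ker.index = (X.subgroupOf S).index := by
      rw [Subgroup.index_ker, hsurj, Subgroup.card_top, Subgroup.index_eq_card]
    have h2 : X.subgroupOf S ≤ T.ker := le_trans (Subgroup.comap_mono hXF) hT
    refine (Subgroup.eq_of_le_of_card_ge h2 (le_of_eq ?_)).symm
    have e1 := Subgroup.card_mul_index T.ker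
    have e2 := Subgroup.card_mul_index (X.subgroupOf S)
    rw [h1, ← e2] at e1
    exact Nat.eq_of_mul_eq_mul_right (Nat.pos_of_ne_zero Subgroup.index_ne_zero_of_finite) e1
  refine le_antisymm (fun z hz => ?_) hXF
  have := hT (show (⟨z, focalSubgroup_le F hz⟩ : S) ∈ F.focalSubgroup.subgroupOf S from hz)
  rw [hker] at this
  exact this

/-- A saturated system with focal subgroup inside the Frattini subgroup is inner. -/
theorem isInner_of_focal_le_frattini [Finite S] [Fact p.Prime] (hS : IsPGroup p S)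
    (hF : F.IsSaturated p) (h : F.focalSubgroup ≤ (frattini ↥S).map S.subtype) : IsInner F := by
  have hfoc := focal_eq_of_le_frattini_sup hS hF le_rfl (commutator_le_focal F)
    (h.trans le_sup_left)
  have hhyp : F.hyperfocalSubgroup p ≤ ⊥ :=
    hyperfocal_le_of_le_sup hS hF bot_le (fun s _ z hz => by
      rw [Subgroup.mem_bot] at hz ⊢
      subst hz
      simp) (by rw [bot_sup_eq, ← hfoc]; exact hyperfocal_le_focal F p)
  intro P f hf
  obtain ⟨s, hs, hse⟩ := exists_conj_congr hS hF hf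
  exact ⟨s, hs, fun z hz => (inv_mul_eq_one.1 (Subgroup.mem_bot.1 (hhyp (hse z hz)))).symm⟩

/-- If the automorphisms of `S` are inner and maps extend modulo a closed `Q` containing the
derived subgroup, then all maps are trivial modulo `Q`. -/
theorem focal_le_of_extMod [Finite S] [Fact p.Prime] (hS : IsPGroup p S) (hF : F.IsSaturated p)
    {Q : Subgroup Ω} (hQS : Q ≤ S) (hQ : ⁅S, S⁆ ≤ Q)
    (hcl : ∀ P f, IsMap F P f → ∀ z ∈ P, z ∈ Q → f z ∈ Q)
    (hext : ∀ P f, IsMap F P f → ∃ g, IsMap F (P ⊔ Q) g ∧ ∀ z ∈ P, (g z)⁻¹ * f z ∈ Q)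
    (htop : ∀ α ∈ F.autGroup S, ∃ s ∈ S, ∀ z ∈ S, autFun α z = s * z * s⁻¹) :
    F.focalSubgroup ≤ Q := by
  have hconjmod : ∀ s ∈ S, ∀ z ∈ S, z⁻¹ * (s * z * s⁻¹) ∈ Q := fun s hs z hz => by
    rw [show z⁻¹ * (s * z * s⁻¹) = ⁅z⁻¹, s⁆ by simp [commutatorElement_def, mul_assoc]]
    exact hQ (Subgroup.commutator_mem_commutator (S.inv_mem hz) hs)
  have hQn : ∀ s ∈ S, ∀ z ∈ Q, s * z * s⁻¹ ∈ Q := fun s hs z hz => by
    have := mul_mem hz (hconjmod s hs z (hQS hz))
    rwa [show z * (z⁻¹ * (s * z * s⁻¹)) = s * z * s⁻¹ by group] at this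
  have htop' : ∀ α ∈ F.autGroup S, ∀ z ∈ S, z⁻¹ * autFun α z ∈ Q := fun α hα z hz => by
    obtain ⟨s, hs, h⟩ := htop α hα
    rw [h z hz]
    exact hconjmod s hs z hz
  refine focalSubgroup_le_iff.2 fun P₀ f₀ hf₀ => ?_
  refine alperin' hS hF (fun P f => ∀ z ∈ P, z⁻¹ * f z ∈ Q) ?_ ?_ ?_ htop' ?_ hf₀
  · intro P f g h e z hz
    rw [← e z hz]
    exact h z hz
  · intro P R f g _ _ hfR h h' z hz
    have := mul_mem (h z hz) (h' _ (hfR z hz))
    rwa [show z⁻¹ * f z * ((f z)⁻¹ * g (f z)) = z⁻¹ * g (f z) by group] at this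
  · exact fun P R f _ hPR h z hz => h z (hPR hz)
  intro P hP big α hα
  have hPS := hP.1.1
  by_cases hQP : Q ≤ P
  swap
  · intro z hz
    obtain ⟨g, hg, hgP⟩ := hext P _ ((mem_autGroup hPS).1 hα)
    haveI := finite_of_le hg.source_le
    have h1 := big _ g hg (card_lt_of_lt (lt_of_le_of_ne le_sup_left fun e =>
      hQP (e ▸ le_sup_right))) z (Subgroup.mem_sup_left hz)
    have := mul_mem h1 (hgP z hz)
    rwa [show z⁻¹ * g z * ((g z)⁻¹ * autFun α z) = z⁻¹ * autFun α z by group] at this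
  haveI := finite_of_le hPS
  have hPn : ∀ s ∈ S, ∀ z ∈ P, s * z * s⁻¹ ∈ P := fun s hs z hz => by
    have := mul_mem hz (hQP (hconjmod s hs z (hPS hz)))
    rwa [show z * (z⁻¹ * (s * z * s⁻¹)) = s * z * s⁻¹ by group] at this
  let C : Subgroup (F.autGroup P) :=
    { carrier := {β | ∀ z ∈ P, z⁻¹ * autFun (β : MulAut P) z ∈ Q}
      one_mem' := fun z hz => by
        rw [Subgroup.coe_one, autFun_one hz, inv_mul_cancel]
        exact Q.one_mem
      mul_mem' := fun {a b} ha hb z hz => by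
        have := mul_mem (hb z hz) (ha _ (autFun_mem (b : MulAut P) hz))
        rw [Subgroup.coe_mul, autFun_mul _ _ hz]
        rwa [show z⁻¹ * autFun (b : MulAut P) z * ((autFun (b : MulAut P) z)⁻¹ *
          autFun (a : MulAut P) (autFun (b : MulAut P) z)) =
          z⁻¹ * autFun (a : MulAut P) (autFun (b : MulAut P) z) by group] at this
      inv_mem' := fun {a} ha z hz => by
        have := inv_mem (ha _ (autFun_mem ((a : MulAut P)⁻¹) hz))
        rw [← autFun_mul _ _ hz, mul_inv_cancel, autFun_one hz, mul_inv_rev, inv_inv] at this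
        rw [Subgroup.coe_inv]
        exact this }
  haveI : C.Normal := ⟨fun c hc g z hz => by
    rw [Subgroup.coe_mul, Subgroup.coe_mul, Subgroup.coe_inv, autFun_mul _ _ hz,
      autFun_mul _ _ (autFun_mem _ hz)]
    set w := autFun (g : MulAut P)⁻¹ z with hw
    have hwP : w ∈ P := autFun_mem _ hz
    have hzw : z = autFun (g : MulAut P) w := by
      rw [hw, ← autFun_mul _ _ hz, mul_inv_cancel, autFun_one hz]
    have hgm := (mem_autGroup hPS).1 g.2
    have h1 := hcl P _ hgm _ (P.mul_mem (P.inv_mem hwP) (autFun_mem _ hwP)) (hc w hwP)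
    rw [hgm.map_mul (P.inv_mem hwP) (autFun_mem _ hwP), hgm.map_inv hwP, ← hzw] at h1
    exact h1⟩
  obtain ⟨-, R, hR⟩ := fullyAutomized_of_fullyNormalized hS hF hP.2.1
  have hRC : (R : Subgroup (F.autGroup P)) ≤ C := by
    intro r hr z hz
    rw [hR] at hr
    obtain ⟨g, hg, hge⟩ := mem_autInducedBy.1 (show (r : MulAut P) ∈ autInducedBy S P from hr)
    rw [show autFun (r : MulAut P) z = _ from autFun_coe (r : MulAut P) ⟨z, hz⟩, hge ⟨z, hz⟩]
    exact hconjmod g hg z (hPS hz)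
  obtain ⟨ν, hν, c, hc, hνc⟩ := Subgroup.mem_sup_of_normal_right.1
    (show (⟨α, hα⟩ : F.autGroup P) ∈ Subgroup.normalizer (R : Set (F.autGroup P)) ⊔ C by
      rw [Sylow.normalizer_sup_eq_top' R hRC]; exact Subgroup.mem_top _)
  have hνC : ν ∈ C := by
    have hνm := (mem_autGroup hPS).1 ν.2
    obtain ⟨g, hg, hge⟩ := receptive_extend (receptive_of_fullyNormalized hS hF hP.2.1) hνm
      (fimg_autFun (ν : MulAut P)) (N := S) (fun s hs => by
        have hsn : s ∈ Subgroup.normalizer (P : Set Ω) :=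
          mem_normalizer_of_forall (hPn s hs) fun x hx => by
            simpa using hPn _ (S.inv_mem hs) x hx
        refine ⟨⟨hs, hsn⟩, ?_⟩
        set r : MulAut P := P.normalizerMonoidHom ⟨s, hsn⟩ with hr
        have hrI : r ∈ autInducedBy S P := mem_autInducedBy.2 ⟨s, hs, fun x => rfl⟩
        have hrR : (⟨r, autInducedBy_le_autGroup F hPS hrI⟩ : F.autGroup P) ∈
            (R : Subgroup (F.autGroup P)) := by
          rw [hR]
          exact hrI
        have h2 := (Subgroup.mem_normalizer_iff.1 hν _).1 hrR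
        rw [hR] at h2
        obtain ⟨h, hh, hhe⟩ := mem_autInducedBy.1 (show (ν : MulAut P) * r * (ν : MulAut P)⁻¹ ∈
          autInducedBy S P from h2)
        refine ⟨h, hh, fun x hx => ?_⟩
        have e1 : s * x * s⁻¹ = ((r ⟨x, hx⟩ : P) : Ω) := rfl
        rw [e1, autFun_coe, show autFun (ν : MulAut P) x = _ from autFun_coe (ν : MulAut P) ⟨x, hx⟩,
          ← hhe]
        simp) hPS
    obtain ⟨β, hβ, hβe⟩ := hg.exists_aut (fimg_eq_self_of_source_top hg)
    intro z hz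
    rw [← hge z hz, ← hβe z (hPS hz)]
    exact htop' β hβ z (hPS hz)
  have : (⟨α, hα⟩ : F.autGroup P) ∈ C := hνc ▸ mul_mem hνC hc
  exact this

end Cfsg.Agent.Fus
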