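import Mathlib
import Cfsg.Agent.Lib.Fus.Alperin
import Cfsg.Agent.Lib.Fus.InvariantIff
import Cfsg.Agent.Lib.Fus.FactorExtend
import Cfsg.Agent.Lib.Fus.Hyperfocal

/-!
The class in `Aut_F(T)/K` of conjugation on a strongly closed subgroup `T` is respected by the maps
of the system up to conjugation.
-/

set_option autoImplicit false
set_option linter.style.haveILetI false
set_option linter.unusedSectionVars false
set_option linter.unusedVariables false

open scoped Classical Pointwise commutatorElement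

universe u

namespace Cfsg.Agent.Fus.ClassInv

open Subgroup FusionSystem

variable {Ω : Type u} [Group Ω] {S T : Subgroup Ω} {F : FusionSystem S} {p : ℕ}

/-- The automorphism of `T` induced by conjugation, or `1` outside the normalizer. -/
noncomputable def cls (T : Subgroup Ω) (x : Ω) : MulAut T :=
  if h : x ∈ Subgroup.normalizer (T : Set Ω) then T.normalizerMonoidHom ⟨x, h⟩ else 1

theorem cls_apply {x : Ω} (hx : x ∈ Subgroup.normalizer (T : Set Ω)) (y : T) :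
    ((cls T x y : T) : Ω) = x * y * x⁻¹ := by
  rw [cls, dif_pos hx]; rfl

theorem cls_mul {x y : Ω} (hx : x ∈ Subgroup.normalizer (T : Set Ω))
    (hy : y ∈ Subgroup.normalizer (T : Set Ω)) : cls T (x * y) = cls T x * cls T y := by
  rw [cls, cls, cls, dif_pos hx, dif_pos hy, dif_pos (mul_mem hx hy), ← map_mul]
  rfl

theorem cls_one : cls T (1 : Ω) = 1 := by
  rw [cls, dif_pos (one_mem _)]
  exact map_one T.normalizerMonoidHom

theorem cls_inv {x : Ω} (hx : x ∈ Subgroup.normalizer (T : Set Ω)) : cls T x⁻¹ = (cls T x)⁻¹ :=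
  eq_inv_of_mul_eq_one_left (by rw [← cls_mul (inv_mem hx) hx, inv_mul_cancel, cls_one])

/-- The subgroup of the elements of `S` inducing elements of `K` on `T`. -/
def carrier (S T : Subgroup Ω) (K : Subgroup (MulAut T)) : Subgroup Ω :=
  S ⊓ (K.comap T.normalizerMonoidHom).map (Subgroup.normalizer (T : Set Ω)).subtype

theorem mem_carrier (hST : S ≤ Subgroup.normalizer (T : Set Ω)) {K : Subgroup (MulAut T)} {x : Ω} :
    x ∈ carrier S T K ↔ x ∈ S ∧ cls T x ∈ K := by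
  constructor
  · rintro ⟨hx, ⟨y, hy⟩, hyK, e⟩
    obtain rfl : y = x := e
    refine ⟨hx, ?_⟩
    rw [cls, dif_pos hy]
    exact hyK
  · rintro ⟨hx, hK⟩
    refine ⟨hx, ⟨x, hST hx⟩, ?_, rfl⟩
    rw [cls, dif_pos (hST hx)] at hK
    exact hK

theorem carrier_le (K : Subgroup (MulAut T)) : carrier S T K ≤ S := inf_le_left

theorem cls_mem_autGroup (hT : F.StronglyClosed T) {x : Ω} (hx : x ∈ S) :
    cls T x ∈ F.autGroup T :=
  autInducedBy_le_autGroup F hT.1
    (mem_autInducedBy.2 ⟨x, hx, fun y => cls_apply (le_normalizer_of_stronglyClosed hT hx) y⟩)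

/-- A map defined on `T` conjugates the classes exactly. -/
theorem cls_exact (hT : F.StronglyClosed T) {R : Subgroup Ω} {f : Ω → Ω} (hf : IsMap F R f)
    (hTR : T ≤ R) {γ : MulAut T} (hγ : ∀ y ∈ T, autFun γ y = f y) {x : Ω} (hx : x ∈ R) :
    cls T (f x) = γ * cls T x * γ⁻¹ := by
  have hN := le_normalizer_of_stronglyClosed hT
  refine mulAut_ext fun y hy => ?_
  have hy' : autFun γ⁻¹ y ∈ T := autFun_mem _ hy
  have hxN := hN (hf.source_le hx)
  have hxy : x * autFun γ⁻¹ y * x⁻¹ ∈ T := (Subgroup.mem_normalizer_iff.1 hxN _).1 hy'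
  have h1 : autFun (cls T x) (autFun γ⁻¹ y) = x * autFun γ⁻¹ y * x⁻¹ :=
    (autFun_coe (cls T x) ⟨_, hy'⟩).trans (cls_apply hxN _)
  rw [show autFun (cls T (f x)) y = f x * y * (f x)⁻¹ from
      (autFun_coe (cls T (f x)) ⟨y, hy⟩).trans (cls_apply (hN (hf.apply_mem hx)) _),
    autFun_mul _ _ hy, autFun_mul _ _ hy', h1, hγ _ hxy, hf.map_conj hx (hTR hy'),
    ← hγ _ hy', ← autFun_mul _ _ hy, mul_inv_cancel, autFun_one hy]

variable [Finite S] [Fact p.Prime]

/-- A property of maps closed under composition and restriction, holding for the maps defined on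
`T` and for the automorphisms moving elements only by elements of `T`, holds for all maps. -/
theorem alperin_strongly (hS : IsPGroup p S) (hF : F.IsSaturated p) (hT : F.StronglyClosed T)
    (D : Subgroup Ω → (Ω → Ω) → Prop)
    (hcongr : ∀ P f g, D P f → (∀ x ∈ P, f x = g x) → D P g)
    (hcomp : ∀ P Q f g, IsMap F P f → IsMap F Q g → (∀ x ∈ P, f x ∈ Q) → D P f → D Q g →
      D P (fun x => g (f x)))
    (hres : ∀ P Q f, IsMap F Q f → P ≤ Q → D Q f → D P f)
    (hbase : ∀ R, T ≤ R → ∀ g, IsMap F R g → D R g)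
    (hM : ∀ (R : Subgroup Ω) (a : MulAut R), R ≤ S → a ∈ F.autGroup R →
      (∀ x ∈ R, x⁻¹ * autFun a x ∈ T) → D R (autFun a))
    {P : Subgroup Ω} {f : Ω → Ω} (hf : IsMap F P f) : D P f := by
  have hTS := hT.1
  haveI : Finite T := finite_of_le hTS
  have hN := le_normalizer_of_stronglyClosed hT
  refine alperin' hS hF D hcongr hcomp hres
    (fun α hα => hbase S hTS _ ((mem_autGroup le_rfl).1 hα)) ?_ hf
  intro R hR big β hβ
  have hRc := hR.1
  have hRn := hR.2.1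
  have hRS := hRn.1
  haveI : Finite R := finite_of_le hRS
  by_cases hTR : T ≤ R
  · exact hbase R hTR _ ((mem_autGroup hRS).1 hβ)
  set Q := R ⊓ T
  have hQinv : ∀ a : F.autGroup R, ∀ q : R, (q : Ω) ∈ Q → ((a : MulAut R) q : Ω) ∈ Q := fun a q hq =>
    ⟨((a : MulAut R) q).2, by
      rw [← autFun_coe]
      exact StronglyClosed.apply_mem hT (((mem_autGroup hRS).1 a.2).res inf_le_left)
        (inf_le_right : R ⊓ T ≤ T) hq⟩
  -- the automorphisms trivial modulo `Q`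
  let M : Subgroup (F.autGroup R) :=
    { carrier := {a | ∀ x : R, ((x⁻¹ * (a : MulAut R) x : R) : Ω) ∈ Q}
      one_mem' := fun x => by simp
      mul_mem' := fun {a b} ha hb x => by
        show ((x⁻¹ * (a : MulAut R) ((b : MulAut R) x) : R) : Ω) ∈ Q
        rw [show x⁻¹ * (a : MulAut R) ((b : MulAut R) x) = (x⁻¹ * (b : MulAut R) x) *
          (((b : MulAut R) x)⁻¹ * (a : MulAut R) ((b : MulAut R) x)) by group]
        exact mul_mem (hb x) (ha _)
      inv_mem' := fun {a} ha x => by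
        have h2 := ha ((a : MulAut R)⁻¹ x)
        rw [MulAut.apply_inv_self] at h2
        show ((x⁻¹ * (a : MulAut R)⁻¹ x : R) : Ω) ∈ Q
        have h3 := Q.inv_mem h2
        rw [← Subgroup.coe_inv, mul_inv_rev, inv_inv] at h3
        exact h3 }
  haveI hMn : M.Normal := ⟨fun a ha b x => by
    show ((x⁻¹ * (b : MulAut R) ((a : MulAut R) ((b : MulAut R)⁻¹ x)) : R) : Ω) ∈ Q
    have h1 := ha ((b : MulAut R)⁻¹ x)
    have h2 := hQinv b _ h1
    rwa [_root_.map_mul, _root_.map_inv, MulAut.apply_inv_self] at h2⟩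
  obtain ⟨-, P₀, hP₀⟩ := fullyAutomized_of_fullyNormalized hS hF hRn
  have hsyl := isSylowOf_inf_normal P₀ M
  let β' : F.autGroup R := ⟨β, hβ⟩
  obtain ⟨a, ha, hale⟩ := hsyl.exists_conj_le (hsyl.isPGroup.map (MulAut.conj β').toMonoidHom)
    (Subgroup.map_le_iff_le_comap.2 fun x hx => hMn.conj_mem x hx.2 β')
  have hconj : ∀ x ∈ (P₀ : Subgroup (F.autGroup R)) ⊓ M,
      (a * β') * x * (a * β')⁻¹ ∈ (P₀ : Subgroup (F.autGroup R)) ⊓ M := fun x hx => by
    have := hale ⟨_, ⟨x, hx, rfl⟩, rfl⟩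
    simpa [mul_assoc] using this
  set η : MulAut R := ((a * β' : F.autGroup R) : MulAut R) with hηdef
  let W : Subgroup (MulAut R) :=
    Inn R ⊔ ((P₀ : Subgroup (F.autGroup R)) ⊓ M).map (F.autGroup R).subtype
  have hPR : ∀ x ∈ (P₀ : Subgroup (F.autGroup R)), (x : MulAut R) ∈ autInducedBy S R := fun x hx => by
    rw [hP₀] at hx
    exact hx
  have hInnS : Inn R ≤ autInducedBy S R := by
    rw [inn_eq_autInducedBy]
    exact autInducedBy_mono hRS R
  have hηext : η ∈ extAuts F R := by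
    refine mem_extAuts_of_conj (receptive_of_fullyNormalized hS hF hRn) (a * β').2 (R := W)
      (sup_le hInnS (by rintro _ ⟨x, hx, rfl⟩; exact hPR x hx.1)) ?_ le_sup_left ?_
    · intro hle
      have hlt : R < R ⊔ T := left_lt_sup.2 hTR
      haveI : Finite ↥(R ⊔ T) := finite_of_le (sup_le hRS hTS)
      obtain ⟨g, hg, hgR⟩ := SetLike.lt_iff_le_and_exists.1
        (lt_normalizerIn (S := R ⊔ T) (hS.to_le (sup_le hRS hTS)) hlt) |>.2
      obtain ⟨r, hr, t, ht, rfl⟩ : g ∈ (R : Set Ω) * (T : Set Ω) := by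
        rw [← Subgroup.coe_mul_of_left_le_normalizer_right R T (hRS.trans hN)]
        exact hg.1
      have htN : t ∈ Subgroup.normalizer (R : Set Ω) := by
        simpa using Subgroup.mul_mem _ (Subgroup.inv_mem _ (Subgroup.le_normalizer hr)) hg.2
      have htR : t ∉ R := fun h => hgR (mul_mem hr h)
      let c : MulAut R := R.normalizerMonoidHom ⟨t, htN⟩
      have hc : c ∈ autInducedBy S R := mem_autInducedBy.2 ⟨t, hTS ht, fun x => rfl⟩
      have hcW : c ∈ W := Subgroup.mem_sup_right ⟨⟨c, autInducedBy_le_autGroup F hRS hc⟩,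
        ⟨by rw [hP₀]; exact hc, fun x => by
          refine ⟨(x⁻¹ * c x : R).2, ?_⟩
          show (x : Ω)⁻¹ * (t * x * t⁻¹) ∈ T
          rw [show (x : Ω)⁻¹ * (t * x * t⁻¹) = (x : Ω)⁻¹ * t * x * t⁻¹ by group]
          refine T.mul_mem ?_ (T.inv_mem ht)
          have := (Subgroup.mem_normalizer_iff''.1 (hN (hRS x.2)) t).1 ht
          exact this⟩, rfl⟩
      obtain ⟨r', hr'⟩ := hle hcW
      have hcent : (r' : Ω)⁻¹ * t ∈ centralizerIn S R := by
        refine mem_centralizerIn.2 ⟨S.mul_mem (S.inv_mem (hRS r'.2)) (hTS ht), fun z hz => ?_⟩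
        have h1 : (r' : Ω) * z * (r' : Ω)⁻¹ = t * z * t⁻¹ :=
          congrArg (fun e : MulAut R => ((e ⟨z, hz⟩ : R) : Ω)) hr'
        calc z * ((r' : Ω)⁻¹ * t) = (r' : Ω)⁻¹ * ((r' : Ω) * z * (r' : Ω)⁻¹) * t := by group
          _ = (r' : Ω)⁻¹ * (t * z * t⁻¹) * t := by rw [h1]
          _ = (r' : Ω)⁻¹ * t * z := by group
      exact htR (by simpa using R.mul_mem r'.2 (centralizerIn_le_of_centric hRc hcent))
    · intro r hr
      refine (sup_le ?_ ?_ : W ≤ (autInducedBy S R).comap (MulAut.conj η).toMonoidHom) hr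
      · intro i hi
        have h1 := (inn_subgroupOf_normal F R).conj_mem
          ⟨i, inn_le_autGroup F hRS hi⟩ hi (a * β')
        exact hInnS h1
      · rintro _ ⟨x, hx, rfl⟩
        exact hPR _ (hconj x hx).1
  obtain ⟨Q', g, hRQ', hg, hge⟩ := mem_extAuts.1 hηext
  haveI := finite_of_le hg.source_le
  have hDη : D R (autFun η) :=
    hcongr _ _ _ (hres R Q' g hg hRQ'.le (big Q' g hg (card_lt_of_lt hRQ'))) hge
  have hDa : D R (autFun ((a : MulAut R))⁻¹) := by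
    refine hM R _ hRS (inv_mem a.2) fun x hx => ?_
    have h1 := (M.inv_mem ha) ⟨x, hx⟩
    have h2 : autFun (a : MulAut R)⁻¹ x = ((((a : MulAut R))⁻¹ ⟨x, hx⟩ : R) : Ω) :=
      autFun_coe ((a : MulAut R))⁻¹ ⟨x, hx⟩
    rw [h2]
    exact h1.2
  have h := hcomp R R _ _ ((mem_autGroup hRS).1 (a * β').2)
    ((mem_autGroup hRS).1 (inv_mem a.2)) (fun x hx => autFun_mem _ hx) hDη hDa
  refine hcongr _ _ _ h fun x hx => ?_
  rw [← autFun_mul _ _ hx, Subgroup.coe_mul, inv_mul_cancel_left]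

/-- Up to `K`, a map conjugates the classes by one element of `Aut_F(T)`. -/
theorem class_conj (hS : IsPGroup p S) (hF : F.IsSaturated p) (hT : F.StronglyClosed T)
    {K : Subgroup (MulAut T)} (hinn : ∀ t ∈ T, cls T t ∈ K)
    (hKn : ∀ γ ∈ F.autGroup T, ∀ k ∈ K, γ * k * γ⁻¹ ∈ K) {P : Subgroup Ω} {f : Ω → Ω}
    (hf : IsMap F P f) :
    ∃ γ ∈ F.autGroup T, ∀ x ∈ P, (cls T (f x))⁻¹ * (γ * cls T x * γ⁻¹) ∈ K := by
  have hTS := hT.1
  haveI : Finite T := finite_of_le hTS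
  have hN := le_normalizer_of_stronglyClosed hT
  refine alperin_strongly hS hF hT (fun P f =>
      ∃ γ ∈ F.autGroup T, ∀ x ∈ P, (cls T (f x))⁻¹ * (γ * cls T x * γ⁻¹) ∈ K)
    (fun P f g ⟨γ, hγ, h⟩ e => ⟨γ, hγ, fun x hx => e x hx ▸ h x hx⟩) ?_
    (fun P Q f _ hPQ ⟨γ, hγ, h⟩ => ⟨γ, hγ, fun x hx => h x (hPQ hx)⟩) ?_ ?_ hf
  · rintro P Q f g - - hm ⟨γ, hγ, hγe⟩ ⟨γ', hγ', hγe'⟩
    refine ⟨γ' * γ, mul_mem hγ' hγ, fun x hx => ?_⟩
    show (cls T (g (f x)))⁻¹ * (γ' * γ * cls T x * (γ' * γ)⁻¹) ∈ K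
    rw [show (cls T (g (f x)))⁻¹ * (γ' * γ * cls T x * (γ' * γ)⁻¹) =
      (cls T (g (f x)))⁻¹ * (γ' * cls T (f x) * γ'⁻¹) *
        (γ' * ((cls T (f x))⁻¹ * (γ * cls T x * γ⁻¹)) * γ'⁻¹) by group]
    exact mul_mem (hγe' _ (hm x hx)) (hKn γ' hγ' _ (hγe x hx))
  · intro R hTR g hg
    obtain ⟨γ, hγ, hγe⟩ := (hg.res hTR).exists_aut (fimg_stronglyClosed hT hg hTR)
    refine ⟨γ, hγ, fun x hx => ?_⟩
    rw [cls_exact hT hg hTR hγe hx, inv_mul_cancel]
    exact one_mem K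
  · intro R a hRS ha hmod
    refine ⟨1, one_mem _, fun x hx => ?_⟩
    obtain ⟨q, hq, hqe⟩ : ∃ q ∈ T, autFun a x = x * q :=
      ⟨_, hmod x hx, (mul_inv_cancel_left _ _).symm⟩
    rw [hqe, cls_mul (hN (hRS hx)) (hN (hTS hq)), one_mul, inv_one, mul_one, mul_inv_rev,
      inv_mul_cancel_right]
    exact K.inv_mem (hinn q hq)

/-- The carrier of a normal subgroup of `Aut_F(T)` is strongly closed. -/
theorem carrier_stronglyClosed (hS : IsPGroup p S) (hF : F.IsSaturated p) (hT : F.StronglyClosed T)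
    {K : Subgroup (MulAut T)} (hinn : ∀ t ∈ T, cls T t ∈ K)
    (hKn : ∀ γ ∈ F.autGroup T, ∀ k ∈ K, γ * k * γ⁻¹ ∈ K) :
    F.StronglyClosed (carrier S T K) := by
  have hN := le_normalizer_of_stronglyClosed hT
  refine stronglyClosed_of_forall (carrier_le K) fun P hP f hf x hx => ?_
  obtain ⟨γ, hγ, h⟩ := class_conj hS hF hT hinn hKn hf
  refine (mem_carrier hN).2 ⟨hf.apply_mem hx, ?_⟩
  have h1 := hKn γ hγ _ ((mem_carrier hN).1 (hP hx)).2
  have h2 := K.mul_mem h1 (K.inv_mem (h x hx))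
  rwa [show γ * cls T x * γ⁻¹ * ((cls T (f x))⁻¹ * (γ * cls T x * γ⁻¹))⁻¹ = cls T (f x) by
    group] at h2

/-- With an abelian quotient the focal subgroup lies in the carrier. -/
theorem focal_le_carrier (hS : IsPGroup p S) (hF : F.IsSaturated p) (hT : F.StronglyClosed T)
    {K : Subgroup (MulAut T)} (hinn : ∀ t ∈ T, cls T t ∈ K)
    (hKn : ∀ γ ∈ F.autGroup T, ∀ k ∈ K, γ * k * γ⁻¹ ∈ K)
    (hab : ∀ γ ∈ F.autGroup T, ∀ a ∈ F.autGroup T, ⁅γ, a⁆ ∈ K) :
    F.focalSubgroup ≤ carrier S T K := by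
  have hN := le_normalizer_of_stronglyClosed hT
  refine (Subgroup.closure_le _).2 ?_
  rintro _ ⟨P, φ, x, hφ, rfl⟩
  obtain ⟨γ, hγ, h⟩ := class_conj hS hF hT hinn hKn (isMap_toFun hφ)
  have hxS := (F.le_of_mem hφ).1 x.2
  have hfS : φ x ∈ S := (F.le_of_mem hφ).2 x
  refine (mem_carrier hN).2 ⟨S.mul_mem (S.inv_mem hxS) hfS, ?_⟩
  rw [cls_mul (inv_mem (hN hxS)) (hN hfS), cls_inv (hN hxS)]
  have hb := cls_mem_autGroup hT hfS
  have ha := cls_mem_autGroup hT hxS
  have h1 := h x x.2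
  rw [toFun_coe] at h1
  set b := cls T (φ x)
  set a := cls T (x : Ω)
  have h2 : b⁻¹ * ⁅γ, a⁆ * b ∈ K := by
    have := hKn b⁻¹ (inv_mem hb) _ (hab γ hγ a ha)
    rwa [inv_inv] at this
  have h3 := K.mul_mem (K.inv_mem h1) h2
  rwa [show (b⁻¹ * (γ * a * γ⁻¹))⁻¹ * (b⁻¹ * ⁅γ, a⁆ * b) = a⁻¹ * b by
    rw [commutatorElement_def]; group] at h3

end Cfsg.Agent.Fus.ClassInv
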