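import Cfsg.Agent.Lib.Fus.NormalizerSat

/-!
The centralizer system of a fully centralized subgroup is saturated.
-/

set_option autoImplicit false
set_option linter.style.haveILetI false

open scoped Classical

namespace Cfsg.Agent.Fus

open Subgroup FusionSystem

variable {Ω : Type*} [Group Ω] {S : Subgroup Ω} {F : FusionSystem S}

theorem isMap_centralizerSystem {U : Subgroup Ω} (hU : U ≤ S)
    {E : FusionSystem (centralizerIn S U)} (hE : F.IsCentralizerSystem U E) {P : Subgroup Ω}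
    {f : Ω → Ω} :
    IsMap E P f ↔ P ≤ centralizerIn S U ∧ (∀ x ∈ P, f x ∈ centralizerIn S U) ∧
      ∃ g, IsMap F (P ⊔ U) g ∧ (∀ x ∈ P, g x = f x) ∧ ∀ x ∈ U, g x = x := by
  constructor
  · rintro ⟨φ, hφ, e⟩
    rw [hE P] at hφ
    obtain ⟨-, h1, h2, ψ, hψ, hψ1, hψ2⟩ := hφ
    refine ⟨h1, fun x hx => e ⟨x, hx⟩ ▸ h2 ⟨x, hx⟩, toFun ψ, isMap_toFun hψ, fun x hx => ?_,
      fun x hx => ?_⟩
    · rw [toFun_apply ψ (Subgroup.mem_sup_left hx)]
      exact (hψ1 ⟨x, hx⟩).trans (e ⟨x, hx⟩)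
    · rw [toFun_apply ψ (Subgroup.mem_sup_right hx)]
      exact hψ2 ⟨x, hx⟩
  · rintro ⟨h1, h2, g, hg, hg1, hg2⟩
    obtain ⟨φ, hφ, e⟩ := (hg.res le_sup_left).exists_hom
    obtain ⟨ψ, hψ, e'⟩ := hg.exists_hom
    refine ⟨φ, ?_, fun x => (e x).trans (hg1 x x.2)⟩
    rw [hE P]
    exact ⟨hφ, h1, fun x => by rw [e, hg1 x x.2]; exact h2 x x.2, ψ, hψ,
      fun x => (e' _).trans (e x).symm, fun x => (e' _).trans (hg2 x x.2)⟩

/-- The automorphisms fixing a set elementwise. -/
def fixIn (Q X : Subgroup Ω) : Subgroup (MulAut Q) where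
  carrier := {α | ∀ x : Q, (x : Ω) ∈ X → α x = x}
  one_mem' := fun _ _ => rfl
  mul_mem' := fun {a b} ha hb x hx => by rw [MulAut.mul_apply, hb x hx, ha x hx]
  inv_mem' := fun {a} ha x hx => by
    conv_lhs => rw [← ha x hx]
    exact MulAut.inv_apply_self _ _ _

theorem fixIn_of_conj {Q X : Subgroup Ω} {α : MulAut Q} {g : Ω}
    (h : ∀ x : Q, ((α x : Q) : Ω) = g * (x : Ω) * g⁻¹)
    (hg : g ∈ Subgroup.centralizer (X : Set Ω)) : α ∈ fixIn Q X := fun x hx => Subtype.ext (by
  rw [h x, ← Subgroup.mem_centralizer_iff.1 hg x hx, mul_inv_cancel_right])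

theorem mem_centralizer_of_fixIn {Q X : Subgroup Ω} (hX : X ≤ Q) {α : MulAut Q} {g : Ω}
    (h : ∀ x : Q, ((α x : Q) : Ω) = g * (x : Ω) * g⁻¹) (hα : α ∈ fixIn Q X) :
    g ∈ Subgroup.centralizer (X : Set Ω) := Subgroup.mem_centralizer_iff.2 fun x hx => by
  have h1 := h ⟨x, hX hx⟩
  rw [hα ⟨x, hX hx⟩ hx] at h1
  calc x * g = g * x * g⁻¹ * g := by rw [← h1]
    _ = g * x := by group

/-- An isomorphism of the system transports pointwise stabilizers. -/
theorem fixIn_congr {Q Q' X : Subgroup Ω} (e : Q ≃* Q') {f : Ω → Ω} (he : ∀ x : Q, (e x : Ω) = f x)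
    {P : Subgroup Ω} (hf : IsMap F Q f) (hX : X ≤ Q) (hXP : fimg f X = P) {α : MulAut Q}
    (hα : α ∈ fixIn Q X) : MulAut.congr e α ∈ fixIn Q' P := by
  intro y hy
  rw [← hXP, (hf.res hX).mem_fimg_iff] at hy
  obtain ⟨z, hz, hzy⟩ := hy
  have hey : e.symm y = ⟨z, hX hz⟩ := e.injective (Subtype.ext (by
    rw [e.apply_symm_apply, he, hzy]))
  show e (α (e.symm y)) = y
  rw [hey, hα _ hz, ← hey, e.apply_symm_apply]

section

variable [Finite S] {p : ℕ} [Fact p.Prime]

/-- The automorphisms of `Q` fixing `U` and stabilizing `P`. -/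
def centAuts (F : FusionSystem S) (Q U P : Subgroup Ω) : Subgroup (MulAut Q) :=
  F.autGroup Q ⊓ fixIn Q U ⊓ stabIn Q P

theorem autInducedBy_le_centAuts (F : FusionSystem S) {Q U P H : Subgroup Ω} (hQ : Q ≤ S)
    (hH : H ≤ S) (hU : H ≤ Subgroup.centralizer (U : Set Ω))
    (hP : H ≤ Subgroup.normalizer (P : Set Ω)) : autInducedBy H Q ≤ centAuts F Q U P := by
  intro α hα
  obtain ⟨g, hg, e⟩ := mem_autInducedBy.1 hα
  exact ⟨⟨autInducedBy_le_autGroup F hQ (autInducedBy_mono hH Q hα), fixIn_of_conj e (hU hg)⟩,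
    stabIn_of_conj e (hP hg)⟩

/-- The key property of a subgroup fully normalized in the normalizer system. -/
theorem sylow_centAuts (hS : IsPGroup p S) (hF : F.IsSaturated p) {U : Subgroup Ω}
    (hU : F.IsFullyCentralized U) {E : FusionSystem (centralizerIn S U)}
    (hE : F.IsCentralizerSystem U E) {P Q : Subgroup Ω}
    (hP : E.IsFullyNormalized P) (hQdef : Q = P ⊔ U) :
    (∃ T : Sylow p (centAuts F Q U P), (T : Subgroup (centAuts F Q U P)) =
      (autInducedBy (normalizerIn (centralizerIn S U) P) Q).subgroupOf (centAuts F Q U P)) ∧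
    F.IsFullyCentralized Q := by
  set H := normalizerIn (centralizerIn S U) P with hH
  have hPR : P ≤ (centralizerIn S U) := hP.1
  have hQS : Q ≤ S := hQdef ▸ sup_le (hPR.trans inf_le_left) hU.1
  haveI := finite_of_le hQS
  have hUQ : U ≤ Q := hQdef ▸ le_sup_right
  have hPQ : P ≤ Q := hQdef ▸ le_sup_left
  have hPU : P ≤ Subgroup.centralizer (U : Set Ω) := hPR.trans inf_le_right
  have hHQ : H ≤ normalizerIn S Q := fun g hg =>
    ⟨hg.1.1, hQdef ▸ normalizer_sup_le (Subgroup.centralizer_le_normalizer _ hg.1.2) hg.2⟩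
  have hYA : autInducedBy H Q ≤ centAuts F Q U P :=
    autInducedBy_le_centAuts F hQS (fun g (hg : g ∈ H) => hg.1.1) (fun g (hg : g ∈ H) => hg.1.2)
      fun g (hg : g ∈ H) => hg.2
  have hCH : centralizerIn S Q ≤ H := fun c hc => by
    obtain ⟨hcS, hcc⟩ := mem_centralizerIn.1 hc
    have : ∀ X ≤ Q, c ∈ Subgroup.centralizer (X : Set Ω) := fun X hX =>
      Subgroup.mem_centralizer_iff.2 fun x hx => hcc x (hX hx)
    exact ⟨⟨hcS, this U hUQ⟩, Subgroup.centralizer_le_normalizer _ (this P hPQ)⟩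
  have hYp : IsPGroup p ((autInducedBy H Q).subgroupOf (centAuts F Q U P)) :=
    ((isPGroup_autInducedBy hS Q).to_le (autInducedBy_mono (fun g (hg : g ∈ H) => hg.1.1) Q)).comap_of_injective
      _ Subtype.coe_injective
  obtain ⟨B, hB⟩ := hYp.exists_le_sylow
  obtain ⟨Q', hQ', hQ'n⟩ := exists_fullyNormalized F hQS
  obtain ⟨u, hu, huQ⟩ := isConj_iff.1 hQ'
  obtain ⟨e, he, heA⟩ := exists_mulEquiv hu huQ
  haveI := finite_of_le hQ'n.1
  obtain ⟨-, T, hT⟩ := fullyAutomized_of_fullyNormalized hS hF hQ'n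
  -- the image of `B` in `Aut_F(Q')`
  let Y : Subgroup (F.autGroup Q') := (((B : Subgroup (centAuts F Q U P)).map
    (centAuts F Q U P).subtype).map (MulAut.congr e).toMonoidHom).subgroupOf (F.autGroup Q')
  have hY : IsPGroup p Y := IsPGroup.comap_subtype ((B.2.map _).map _)
  obtain ⟨T', hT'⟩ := hY.exists_le_sylow
  obtain ⟨a, ha⟩ := MulAction.exists_smul_eq (F.autGroup Q') T' T
  let u' : Ω → Ω := fun x => autFun (a : MulAut Q') (u x)
  have hu' : IsMap F Q u' :=
    hu.comp ((mem_autGroup hQ'n.1).1 a.2) fun x hx => huQ ▸ apply_mem_fimg u hx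
  have hu'Q : fimg u' Q = Q' := by
    rw [show u' = fun x => autFun (a : MulAut Q') (u x) from rfl, hu.fimg_comp, huQ, fimg_autFun]
  let e' : Q ≃* Q' := e.trans (a : MulAut Q')
  have he' : ∀ x : Q, (e' x : Ω) = u' x := fun x => by
    show (((a : MulAut Q') (e x) : Q') : Ω) = autFun (a : MulAut Q') (u x)
    rw [← he, autFun_coe]
  let B' : Subgroup (MulAut Q') := ((B : Subgroup (centAuts F Q U P)).map
    (centAuts F Q U P).subtype).map (MulAut.congr e').toMonoidHom
  have hB'S : B' ≤ autInducedBy S Q' := by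
    rintro _ ⟨_, ⟨b, hb, rfl⟩, rfl⟩
    have hy : MulAut.congr e (b : MulAut Q) ∈ F.autGroup Q' := (heA _).1 b.2.1.1
    have hyY : (⟨_, hy⟩ : F.autGroup Q') ∈ (T' : Subgroup (F.autGroup Q')) :=
      hT' (Subgroup.mem_subgroupOf.2 ⟨_, ⟨b, hb, rfl⟩, rfl⟩)
    have hyT : a * ⟨_, hy⟩ * a⁻¹ ∈ (T : Subgroup (F.autGroup Q')) := by
      rw [← ha]; exact ⟨_, hyY, rfl⟩
    rw [hT, Subgroup.mem_subgroupOf] at hyT
    convert hyT using 1
    exact MulEquiv.ext fun x => rfl
  have hstab : ∀ β ∈ B', β ∈ fixIn Q' (fimg u' U) ∧ β ∈ stabIn Q' (fimg u' P) := by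
    rintro _ ⟨_, ⟨b, -, rfl⟩, rfl⟩
    exact ⟨fixIn_congr e' he' hu' hUQ rfl b.2.1.2, stabIn_congr e' he' hu' hPQ rfl b.2.2⟩
  let M : Subgroup Ω := normalizerIn S Q' ⊓
    (B'.comap Q'.normalizerMonoidHom).map (Subgroup.normalizer (Q' : Set Ω)).subtype
  have hMmem : ∀ g ∈ M, g ∈ normalizerIn S Q' ∧ ∃ h : g ∈ Subgroup.normalizer (Q' : Set Ω),
      Q'.normalizerMonoidHom ⟨g, h⟩ ∈ B' := by
    rintro g ⟨hg, x, hx, rfl⟩
    exact ⟨hg, x.2, hx⟩
  have hCM : centralizerIn S Q' ≤ M := fun c hc => by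
    have hcN := centralizerIn_le_normalizerIn Q' hc
    refine ⟨hcN, ⟨c, hcN.2⟩, ?_, rfl⟩
    show Q'.normalizerMonoidHom ⟨c, hcN.2⟩ ∈ B'
    rw [show Q'.normalizerMonoidHom ⟨c, hcN.2⟩ = 1 from MulEquiv.ext fun x => Subtype.ext (by
      show c * (x : Ω) * c⁻¹ = x
      rw [← (mem_centralizerIn.1 hc).2 x x.2, mul_inv_cancel_right])]
    exact one_mem _
  have hMB : autInducedBy M Q' = B' := by
    refine le_antisymm (fun α hα => ?_) fun α hα => ?_
    · obtain ⟨g, hg, hge⟩ := mem_autInducedBy.1 hα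
      obtain ⟨-, h, hB'⟩ := hMmem g hg
      rwa [show α = Q'.normalizerMonoidHom ⟨g, h⟩ from
        MulEquiv.ext fun x => Subtype.ext (hge x)]
    · obtain ⟨g, hg, hge⟩ := mem_autInducedBy.1 (hB'S hα)
      have hn := mem_normalizer_of_conj_aut hge
      refine mem_autInducedBy.2 ⟨g, ⟨⟨hg, hn⟩, ⟨g, hn⟩, ?_, rfl⟩, hge⟩
      show Q'.normalizerMonoidHom ⟨g, hn⟩ ∈ B'
      rwa [show Q'.normalizerMonoidHom ⟨g, hn⟩ = α from
        MulEquiv.ext fun x => Subtype.ext (hge x).symm]
  -- move back to `(centralizerIn S U)`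
  have hUQ' : fimg u' U ≤ Q' := hu'Q ▸ fimg_mono u' hUQ
  have hPQ' : fimg u' P ≤ Q' := hu'Q ▸ fimg_mono u' hPQ
  obtain ⟨v, hv, hvu, -⟩ := (hu'.res hUQ).exists_inv
  have hvU : fimg v (fimg u' U) = U := by
    rw [← (hu'.res hUQ).fimg_comp v, fimg_congr fun x hx => hvu x hx, fimg_id]
  have hUS' : fimg u' U ≤ S := (hu'.res hUQ).fimg_le_S
  obtain ⟨θ, hθ, hθv⟩ := receptive_extend (receptive_of_fullyCentralized hS hF hU) hv hvU
    (N := fimg u' U ⊔ centralizerIn S (fimg u' U))
    (fun x hx => by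
      have hnorm : fimg u' U ⊔ centralizerIn S (fimg u' U) ≤
          extender S (fimg u' U) (Classical.choose hv) := by
        refine sup_le (le_extender (Classical.choose_spec hv).1) fun c hc => ?_
        obtain ⟨hcS, hcc⟩ := mem_centralizerIn.1 hc
        refine mem_extender.2 ⟨hcS, Subgroup.centralizer_le_normalizer _ hc.2, 1, one_mem _,
          fun y hy => ?_⟩
        have e : c * y * c⁻¹ = y := by rw [← hcc y hy, mul_inv_cancel_right]
        rw [e]; group
      obtain ⟨h1, h2, k, hk, hke⟩ := mem_extender.1 (hnorm hx)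
      refine ⟨⟨h1, h2⟩, k, hk, fun y hy => ?_⟩
      have hxy := (Subgroup.mem_normalizer_iff.1 h2 y).1 hy
      have := hke y hy
      rwa [toFun_apply _ hxy, toFun_apply _ hy, (Classical.choose_spec hv).2,
        (Classical.choose_spec hv).2] at this) le_sup_left
  have hθfix : ∀ x ∈ U, θ (u' x) = x := fun x hx => by
    rw [hθv _ (apply_mem_fimg u' hx)]
    exact hvu x hx
  have hθC : ∀ g ∈ centralizerIn S (fimg u' U), θ g ∈ (centralizerIn S U) := fun g hg => by
    refine mem_centralizerIn.2 ⟨hθ.apply_mem (Subgroup.mem_sup_right hg), fun x hx => ?_⟩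
    rw [← hθfix x hx, ← hθ.map_mul (Subgroup.mem_sup_left (apply_mem_fimg u' hx))
      (Subgroup.mem_sup_right hg), ← hθ.map_mul (Subgroup.mem_sup_right hg)
      (Subgroup.mem_sup_left (apply_mem_fimg u' hx)),
      (mem_centralizerIn.1 hg).2 _ (apply_mem_fimg u' hx)]
  have hMU : M ≤ centralizerIn S (fimg u' U) := fun g hg => by
    obtain ⟨hgN, h, hB'⟩ := hMmem g hg
    exact ⟨hgN.1, mem_centralizer_of_fixIn hUQ' (fun x => rfl) (hstab _ hB').1⟩
  have hu'P : ∀ x ∈ P, u' x ∈ centralizerIn S (fimg u' U) := fun x hx => by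
    refine mem_centralizerIn.2 ⟨hu'.apply_mem (hPQ hx), fun y hy => ?_⟩
    obtain ⟨z, hz, rfl⟩ := (hu'.res hUQ).mem_fimg_iff.1 hy
    rw [← hu'.map_mul (hUQ hz) (hPQ hx), ← hu'.map_mul (hPQ hx) (hUQ hz),
      Subgroup.mem_centralizer_iff.1 (hPU hx) z hz]
  have hPN : fimg u' P ≤ fimg u' U ⊔ centralizerIn S (fimg u' U) :=
    fimg_le fun x hx => Subgroup.mem_sup_right (hu'P x hx)
  have hu'dom : ∀ x ∈ Q, u' x ∈ fimg u' U ⊔ centralizerIn S (fimg u' U) := by
    intro x hx
    have : fimg u' Q ≤ fimg u' U ⊔ centralizerIn S (fimg u' U) := by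
      have h' : IsMap F (P ⊔ U) u' := by rw [← hQdef]; exact hu'
      rw [hQdef, h'.fimg_sup]
      exact sup_le hPN le_sup_left
    exact this (apply_mem_fimg u' hx)
  let ψ : Ω → Ω := fun x => θ (u' x)
  have hψ : IsMap F Q ψ := hu'.comp hθ hu'dom
  have hψP : IsMap E P ψ := (isMap_centralizerSystem hU.1 hE).2
    ⟨hPR, fun x hx => hθC _ (hu'P x hx), ψ, hQdef ▸ hψ, fun _ _ => rfl, hθfix⟩
  have hP'eq : fimg θ (fimg u' P) = fimg ψ P := ((hu'.res hPQ).fimg_comp θ).symm
  have hsub : fimg θ M ≤ normalizerIn (centralizerIn S U) (fimg ψ P) := fimg_le fun g hg => by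
    obtain ⟨hgN, h, hB'⟩ := hMmem g hg
    refine ⟨hθC g (hMU hg), ?_⟩
    rw [← hP'eq]
    exact (hθ.map_normalizerIn hPN (Subgroup.mem_sup_right (hMU hg))
      (mem_normalizer_of_stabIn hPQ' (fun x => rfl) (hstab _ hB').2)).2
  haveI : Finite ↥(normalizerIn (centralizerIn S U) (fimg ψ P)) :=
    finite_of_le (S := S) (inf_le_left.trans inf_le_left)
  have h1 : Nat.card M ≤ Nat.card H :=
    calc Nat.card M = Nat.card (fimg θ M) := (hθ.res (hMU.trans le_sup_right)).card_fimg.symm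
      _ ≤ Nat.card ↥(normalizerIn (centralizerIn S U) (fimg ψ P)) := Subgroup.card_le_of_le hsub
      _ ≤ Nat.card H := hP.2 _ hψP.isConj
  rw [card_eq_card_autInducedBy_mul inf_le_left hCM, hMB,
    card_eq_card_autInducedBy_mul hHQ hCH] at h1
  have hB'card : Nat.card B' = Nat.card (B : Subgroup (centAuts F Q U P)) := by
    rw [show B' = _ from rfl, Subgroup.card_map_of_injective (MulAut.congr e').injective,
      Subgroup.card_map_of_injective (centAuts F Q U P).subtype_injective]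
  rw [hB'card] at h1
  have hYle : Nat.card (autInducedBy H Q) ≤ Nat.card (B : Subgroup (centAuts F Q U P)) := by
    rw [← Nat.card_congr (Subgroup.subgroupOfEquivOfLe hYA).toEquiv]
    exact Subgroup.card_le_of_le hB
  have hCle := (fullyCentralized_of_fullyNormalized hS hF hQ'n).2 Q (isConj_symm hQ')
  have hCpos : 0 < Nat.card ↥(centralizerIn S Q') := by
    haveI : Finite ↥(centralizerIn S Q') := finite_of_le (S := S) inf_le_left
    exact Nat.card_pos
  have hBeq : Nat.card (B : Subgroup (centAuts F Q U P)) ≤ Nat.card (autInducedBy H Q) :=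
    Nat.le_of_mul_le_mul_right (h1.trans (Nat.mul_le_mul_left _ hCle)) hCpos
  have hYpos : 0 < Nat.card (autInducedBy H Q) := Nat.card_pos
  have hCeq : Nat.card ↥(centralizerIn S Q') ≤ Nat.card ↥(centralizerIn S Q) :=
    Nat.le_of_mul_le_mul_left ((Nat.mul_le_mul_right _ hYle).trans h1) hYpos
  refine ⟨⟨B, (Subgroup.eq_of_le_of_card_ge hB ?_).symm⟩, hQS, fun Z hZ => ?_⟩
  · rw [Nat.card_congr (Subgroup.subgroupOfEquivOfLe hYA).toEquiv]
    exact hBeq
  · exact ((fullyCentralized_of_fullyNormalized hS hF hQ'n).2 Z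
      (isConj_trans (isConj_symm hQ') hZ)).trans hCeq

/-- The centralizer system of a fully centralized subgroup is saturated. -/
theorem isSaturated_centralizerSystem (hS : IsPGroup p S) (hF : F.IsSaturated p) {U : Subgroup Ω}
    (hU : F.IsFullyCentralized U) {E : FusionSystem (centralizerIn S U)}
    (hE : F.IsCentralizerSystem U E) : E.IsSaturated p := by
  haveI : Finite (centralizerIn S U) := finite_of_le (S := S) inf_le_left
  have hRp : IsPGroup p (centralizerIn S U) := hS.to_le inf_le_left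
  refine saturated_of_receptive hRp ?_ fun P hP => ?_
  · -- `(centralizerIn S U)` is fully automized
    set Q := (centralizerIn S U) ⊔ U with hQ
    obtain ⟨⟨T, hT⟩, -⟩ := sylow_centAuts hS hF hU hE (fullyNormalized_self E) (Q := Q) hQ
    have hQS : Q ≤ S := sup_le inf_le_left hU.1
    have hRQ : (centralizerIn S U) ≤ Q := le_sup_left
    have hUQ : U ≤ Q := le_sup_right
    haveI := finite_of_le hQS
    let ρ : centAuts F Q U (centralizerIn S U) →* MulAut (centralizerIn S U) :=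
      { toFun := fun α =>
          { toFun := fun x => ⟨_, ((α.2.2) ⟨x, hRQ x.2⟩).2 x.2⟩
            invFun := fun x => ⟨_, (((centAuts F Q U (centralizerIn S U)).inv_mem α.2).2 ⟨x, hRQ x.2⟩).2 x.2⟩
            left_inv := fun x => Subtype.ext ((congrArg Subtype.val
              (MulAut.inv_apply_self _ (α : MulAut Q) ⟨x, hRQ x.2⟩) :))
            right_inv := fun x => Subtype.ext ((congrArg Subtype.val
              (MulAut.apply_inv_self _ (α : MulAut Q) ⟨x, hRQ x.2⟩) :))
            map_mul' := fun x y => Subtype.ext ((congrArg Subtype.val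
              ((α : MulAut Q).map_mul ⟨x, hRQ x.2⟩ ⟨y, hRQ y.2⟩) :)) }
        map_one' := MulEquiv.ext fun x => Subtype.ext rfl
        map_mul' := fun α β => MulEquiv.ext fun x => Subtype.ext rfl }
    have hρ : ∀ (α : centAuts F Q U (centralizerIn S U)) (x : (centralizerIn S U)), ((ρ α x : (centralizerIn S U)) : Ω) =
        (((α : MulAut Q) ⟨x, hRQ x.2⟩ : Q) : Ω) := fun α x => rfl
    have hrange : ρ.range = E.autGroup (centralizerIn S U) := by
      ext β
      constructor
      · rintro ⟨α, rfl⟩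
        refine (mem_autGroup le_rfl).2 ((isMap_centralizerSystem hU.1 hE).2 ⟨le_rfl,
          fun x hx => autFun_mem _ hx, autFun (α : MulAut Q), (mem_autGroup hQS).1 α.2.1.1,
          fun x hx => ?_, fun x hx => ?_⟩)
        · rw [show x = ((⟨x, hx⟩ : (centralizerIn S U)) : Ω) from rfl, autFun_coe (ρ α), hρ]
          exact autFun_coe (α : MulAut Q) ⟨x, hRQ hx⟩
        · rw [show x = ((⟨x, hUQ hx⟩ : Q) : Ω) from rfl, autFun_coe, α.2.1.2 ⟨x, hUQ hx⟩ hx]
      · intro hβ
        obtain ⟨-, -, g, hg, hg1, hg2⟩ := (isMap_centralizerSystem hU.1 hE).1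
          ((mem_autGroup le_rfl).1 hβ)
        have hgR : fimg g (centralizerIn S U) = (centralizerIn S U) := by
          rw [fimg_congr hg1, fimg_autFun]
        have hgU : fimg g U = U := by rw [fimg_congr hg2, fimg_id]
        have hgQ : fimg g Q = Q := by rw [hQ, hg.fimg_sup, hgR, hgU]
        obtain ⟨α, hα, hαg⟩ := hg.exists_aut hgQ
        have hmem : α ∈ centAuts F Q U (centralizerIn S U) := by
          refine ⟨⟨hα, fun x hx => Subtype.ext ?_⟩, fun x => ?_⟩
          · rw [← autFun_coe α x, hαg _ x.2]; exact hg2 x hx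
          · rw [← autFun_coe α x, hαg _ x.2]
            constructor
            · intro h
              rw [← hgR, (hg.res hRQ).mem_fimg_iff] at h
              obtain ⟨z, hz, hzx⟩ := h
              exact hg.injOn (hRQ hz) x.2 hzx ▸ hz
            · intro h
              have := apply_mem_fimg g h
              rwa [hgR] at this
        refine ⟨⟨α, hmem⟩, MulEquiv.ext fun x => Subtype.ext ?_⟩
        rw [hρ]
        show ((α ⟨x, hRQ x.2⟩ : Q) : Ω) = _
        rw [← autFun_coe α, hαg _ (hRQ x.2)]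
        show g x = ((β x : (centralizerIn S U)) : Ω)
        rw [hg1 x x.2, autFun_coe]
    have hH : normalizerIn (centralizerIn S U) (centralizerIn S U) = (centralizerIn S U) := normalizerIn_self (centralizerIn S U)
    rw [hH] at hT
    refine ⟨le_rfl, ?_⟩
    have hsurj : Function.Surjective ρ.rangeRestrict := ρ.rangeRestrict_surjective
    have key : ∀ T' : Sylow p ρ.range, (T' : Subgroup ρ.range) =
        (autInducedBy (centralizerIn S U) (centralizerIn S U)).subgroupOf ρ.range → ∃ T' : Sylow p (E.autGroup (centralizerIn S U)),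
          (T' : Subgroup (E.autGroup (centralizerIn S U))) = (autInducedBy (centralizerIn S U) (centralizerIn S U)).subgroupOf (E.autGroup (centralizerIn S U)) := by
      rw [hrange]
      exact fun T' h => ⟨T', h⟩
    refine key (T.mapSurjective hsurj) ?_
    rw [Sylow.coe_mapSurjective, hT]
    ext β
    constructor
    · rintro ⟨α, hα, rfl⟩
      obtain ⟨h, hh, he⟩ := mem_autInducedBy.1 (Subgroup.mem_subgroupOf.1 hα)
      exact Subgroup.mem_subgroupOf.2 (mem_autInducedBy.2 ⟨h, hh, fun x => (hρ α x).trans (he _)⟩)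
    · intro hβ
      obtain ⟨h, hh, he⟩ := mem_autInducedBy.1 (Subgroup.mem_subgroupOf.1 hβ)
      have hhQ : h ∈ Subgroup.normalizer (Q : Set Ω) := normalizer_sup_le
        (Subgroup.centralizer_le_normalizer _ hh.2) (Subgroup.le_normalizer hh)
      have hc : Q.normalizerMonoidHom ⟨h, hhQ⟩ ∈ centAuts F Q U (centralizerIn S U) :=
        autInducedBy_le_centAuts F hQS inf_le_left inf_le_right Subgroup.le_normalizer
          (mem_autInducedBy.2 ⟨h, hh, fun x => rfl⟩)
      refine ⟨⟨_, hc⟩, Subgroup.mem_subgroupOf.2 (mem_autInducedBy.2 ⟨h, hh, fun x => rfl⟩),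
        Subtype.ext (MulEquiv.ext fun x => Subtype.ext ?_)⟩
      exact (hρ _ x).trans (he x).symm
  · -- receptive
    set Q := P ⊔ U with hQ
    set A2 := centAuts F Q U P with hA2
    set H := normalizerIn (centralizerIn S U) P with hH
    obtain ⟨⟨T, hT⟩, hQc⟩ : (∃ T : Sylow p A2, (T : Subgroup A2) =
        (autInducedBy H Q).subgroupOf A2) ∧ F.IsFullyCentralized Q :=
      sylow_centAuts hS hF hU hE hP rfl
    have hQr := receptive_of_fullyCentralized hS hF hQc
    have hQS := hQc.1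
    haveI := finite_of_le hQS
    refine receptive_of hP.1 fun P₀ f hf hfP N hPN hN => ?_
    obtain ⟨hP₀R, -, g, hg, hg1, hgfix⟩ := (isMap_centralizerSystem hU.1 hE).1 hf
    have hgU : fimg g U = U := by rw [fimg_congr hgfix, fimg_id]
    set Q₀ := P₀ ⊔ U with hQ₀
    have hgP : fimg g P₀ = P := (fimg_congr hg1).trans hfP
    have hgQ : fimg g Q₀ = Q := by rw [hg.fimg_sup, hgP, hgU]
    obtain ⟨e, he, heA⟩ := exists_mulEquiv hg hgQ
    -- `A`: automorphisms trivial on `P`
    let A : Subgroup A2 :=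
      { carrier := {α | ∀ x : Q, (x : Ω) ∈ P → (α : MulAut Q) x = x}
        one_mem' := fun x _ => rfl
        mul_mem' := fun {a b} ha hb x hx => by
          rw [Subgroup.coe_mul, MulAut.mul_apply, hb x hx, ha x hx]
        inv_mem' := fun {a} ha x hx => by
          rw [Subgroup.coe_inv]
          conv_lhs => rw [← ha x hx]
          exact MulAut.inv_apply_self _ _ _ }
    haveI hAn : A.Normal := ⟨fun b hb a x hx => by
      show (a : MulAut Q) ((b : MulAut Q) ((a : MulAut Q)⁻¹ x)) = x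
      rw [hb _ (((A2.inv_mem a.2).2 x).2 hx)]
      exact MulAut.apply_inv_self _ _ _⟩
    have hNR : N ≤ (centralizerIn S U) := fun x hx => ((hN x).1 hx).1
    have hNP : N ≤ Subgroup.normalizer (P₀ : Set Ω) := fun x hx => ((hN x).1 hx).2.1
    have hNC : N ≤ Subgroup.centralizer (U : Set Ω) := fun x hx => (hNR hx).2
    have hNU : N ≤ Subgroup.normalizer (U : Set Ω) :=
      hNC.trans (Subgroup.centralizer_le_normalizer _)
    let Bn : Subgroup A2 := ((autInducedBy N Q₀).map (MulAut.congr e).toMonoidHom).subgroupOf A2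
    have hBnA : ∀ β ∈ autInducedBy N Q₀, MulAut.congr e β ∈ A2 := by
      intro β hβ
      obtain ⟨⟨h1, h2⟩, h3⟩ := autInducedBy_le_centAuts F hg.source_le
        (hNR.trans inf_le_left) hNC hNP hβ
      exact ⟨⟨(heA β).1 h1, fixIn_congr e he hg le_sup_right hgU h2⟩,
        stabIn_congr e he hg le_sup_left hgP h3⟩
    have hBnp : IsPGroup p Bn := IsPGroup.comap_subtype (((isPGroup_autInducedBy hS Q₀).to_le
      (autInducedBy_mono (hNR.trans inf_le_left) Q₀)).map _)
    let J : Subgroup A2 := A ⊔ (T : Subgroup A2)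
    have hBnJ : Bn ≤ J := by
      intro b hb
      obtain ⟨β, hβ, hβb⟩ := Subgroup.mem_subgroupOf.1 hb
      obtain ⟨x, hx, hxe⟩ := mem_autInducedBy.1 hβ
      obtain ⟨-, hxn, h, hh, hxh⟩ := (hN x).1 hx
      have hhP : h ∈ Subgroup.normalizer (P : Set Ω) := by
        refine mem_normalizer_of_forall ?_ ?_ <;>
          rw [← hfP] <;> intro y hy <;> obtain ⟨z, hz, rfl⟩ := hf.mem_fimg_iff.1 hy
        · rw [← hxh z hz]
          exact apply_mem_fimg f ((Subgroup.mem_normalizer_iff.1 hxn z).1 hz)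
        · have hzx : x⁻¹ * z * x ∈ P₀ := by
            have := (Subgroup.mem_normalizer_iff.1 (Subgroup.inv_mem _ hxn) z).1 hz
            rwa [inv_inv] at this
          have := hxh _ hzx
          rw [show x * (x⁻¹ * z * x) * x⁻¹ = z by group] at this
          rw [show h⁻¹ * f z * h = f (x⁻¹ * z * x) by rw [this]; group]
          exact apply_mem_fimg f hzx
      have hhQ : h ∈ Subgroup.normalizer (Q : Set Ω) := normalizer_sup_le (Subgroup.centralizer_le_normalizer _ hh.2) hhP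
      let c : A2 := ⟨Q.normalizerMonoidHom ⟨h, hhQ⟩, autInducedBy_le_centAuts F hQS
        (H := H) (fun y hy => hy.1.1) (fun y hy => hy.1.2) (fun y hy => hy.2)
        (mem_autInducedBy.2 ⟨h, ⟨hh, hhP⟩, fun y => rfl⟩)⟩
      have hcT : c ∈ (T : Subgroup A2) := by
        rw [hT]; exact mem_autInducedBy.2 ⟨h, ⟨hh, hhP⟩, fun y => rfl⟩
      have hbc : c⁻¹ * b ∈ A := by
        intro y hy
        show (c : MulAut Q)⁻¹ ((b : MulAut Q) y) = y
        refine (c : MulAut Q).injective ?_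
        rw [MulAut.apply_inv_self, ← hβb]
        refine Subtype.ext ?_
        show ((e (β (e.symm y)) : Q) : Ω) = h * (y : Ω) * h⁻¹
        obtain ⟨z, hz, hzy⟩ := hf.mem_fimg_iff.1 (hfP.symm ▸ hy : (y : Ω) ∈ fimg f P₀)
        have hey : e.symm y = ⟨z, Subgroup.mem_sup_left hz⟩ := by
          refine e.injective (Subtype.ext ?_)
          rw [e.apply_symm_apply, he, hg1 z hz, hzy]
        have hzx := (Subgroup.mem_normalizer_iff.1 hxn z).1 hz
        rw [hey, he, hxe, hg1 _ hzx, hxh z hz, hzy]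
      rw [show b = c * (c⁻¹ * b) by group]
      exact J.mul_mem (Subgroup.mem_sup_right hcT) (Subgroup.mem_sup_left hbc)
    have hTJ : (T : Subgroup A2) ≤ J := le_sup_right
    obtain ⟨B₁, hB₁⟩ := (hBnp.comap_subtype (H := Bn) (K := J)).exists_le_sylow
    obtain ⟨w, hw⟩ := MulAction.exists_smul_eq J B₁ (T.subtype hTJ)
    obtain ⟨a, ha, t, ht, hat⟩ := Subgroup.mem_sup_of_normal_left.1 (w.2 : (w : A2) ∈ A ⊔ _)
    -- `a' = t⁻¹ a t` conjugates `Bn` into `T`
    set a' : A2 := t⁻¹ * a * t with ha'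
    have ha'A : a' ∈ A := by
      have := hAn.conj_mem a ha t⁻¹
      rwa [inv_inv] at this
    have hBnT : ∀ b ∈ Bn, a' * b * a'⁻¹ ∈ (T : Subgroup A2) := by
      intro b hb
      have h1 : w * ⟨b, hBnJ hb⟩ * w⁻¹ ∈ (T.subtype hTJ : Subgroup J) := by
        rw [← hw]; exact ⟨_, hB₁ hb, rfl⟩
      rw [Sylow.coe_subtype, Subgroup.mem_subgroupOf] at h1
      have h2 := mul_mem (mul_mem (inv_mem ht) h1) ht
      convert h2 using 1
      rw [ha', Subgroup.coe_mul, Subgroup.coe_mul, Subgroup.coe_inv, ← hat]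
      group
    let g' : Ω → Ω := fun x => autFun (a' : MulAut Q) (g x)
    have hgm : ∀ x ∈ Q₀, g x ∈ Q := fun x hx => hgQ ▸ apply_mem_fimg g hx
    have hg' : IsMap F Q₀ g' := hg.comp ((mem_autGroup hQS).1 a'.2.1.1) hgm
    have hg'Q : fimg g' Q₀ = Q := by
      rw [show g' = fun x => autFun (a' : MulAut Q) (g x) from rfl, hg.fimg_comp, hgQ, fimg_autFun]
    have hg'e : ∀ x : Q₀, g' x = (((a' : MulAut Q) (e x) : Q) : Ω) := fun x => by
      show autFun (a' : MulAut Q) (g x) = _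
      rw [← he, autFun_coe]
    obtain ⟨θ, hθ, hθe⟩ := receptive_extend hQr hg' hg'Q (N := N ⊔ Q₀) (fun x hx => by
      have hxN : x ∈ extender S Q₀ (Classical.choose hg') := by
        refine sup_le (fun z hz => ?_) (le_extender (Classical.choose_spec hg').1) hx
        have hzQ : z ∈ Subgroup.normalizer (Q₀ : Set Ω) := normalizer_sup_le (hNU hz) (hNP hz)
        have hβ : Q₀.normalizerMonoidHom ⟨z, hzQ⟩ ∈ autInducedBy N Q₀ :=
          mem_autInducedBy.2 ⟨z, hz, fun y => rfl⟩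
        have hb : (⟨_, hBnA _ hβ⟩ : A2) ∈ Bn := Subgroup.mem_subgroupOf.2 ⟨_, hβ, rfl⟩
        have h1 := hBnT _ hb
        rw [hT, Subgroup.mem_subgroupOf] at h1
        obtain ⟨k, hk, hke⟩ := mem_autInducedBy.1 h1
        refine mem_extender.2 ⟨(hNR hz).1, hzQ, k, hk.1.1, fun y hy => ?_⟩
        have hzy := (Subgroup.mem_normalizer_iff.1 hzQ y).1 hy
        rw [toFun_apply _ hzy, toFun_apply _ hy, (Classical.choose_spec hg').2,
          (Classical.choose_spec hg').2, hg'e ⟨_, hzy⟩, hg'e ⟨y, hy⟩, ← hke]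
        simp [MulAut.congr]
        rfl
      obtain ⟨h1, h2, k, hk, hke⟩ := mem_extender.1 hxN
      refine ⟨⟨h1, h2⟩, k, hk, fun y hy => ?_⟩
      have hxy := (Subgroup.mem_normalizer_iff.1 h2 y).1 hy
      have := hke y hy
      rwa [toFun_apply _ hxy, toFun_apply _ hy, (Classical.choose_spec hg').2,
        (Classical.choose_spec hg').2] at this) le_sup_right
    have hUle : U ≤ N ⊔ Q₀ := le_sup_right.trans' le_sup_right
    have hθfix : ∀ x ∈ U, θ x = x := fun x hx => by
      rw [hθe x (Subgroup.mem_sup_right hx)]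
      show autFun (a' : MulAut Q) (g x) = x
      rw [hgfix x hx, show x = ((⟨x, (hgQ ▸ hgfix x hx ▸ apply_mem_fimg g
        (Subgroup.mem_sup_right hx) : x ∈ Q)⟩ : Q) : Ω) from rfl, autFun_coe, a'.2.1.2 _ hx]
    refine ⟨θ, (isMap_centralizerSystem hU.1 hE).2 ⟨hNR, fun x hx => ?_, θ,
      hθ.res (sup_le le_sup_left hUle), fun _ _ => rfl, hθfix⟩, fun x hx => ?_⟩
    · refine mem_centralizerIn.2 ⟨hθ.apply_mem (Subgroup.mem_sup_left hx), fun y hy => ?_⟩
      rw [← hθfix y hy, ← hθ.map_mul (hUle hy) (Subgroup.mem_sup_left hx),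
        ← hθ.map_mul (Subgroup.mem_sup_left hx) (hUle hy),
        Subgroup.mem_centralizer_iff.1 (hNC hx) y hy]
    · rw [hθe x (Subgroup.mem_sup_left hx)]
      have hx' : g x ∈ P := by
        have := apply_mem_fimg g hx
        rwa [hgP] at this
      show autFun (a' : MulAut Q) (g x) = f x
      rw [show g x = ((⟨g x, hgm x (Subgroup.mem_sup_left hx)⟩ : Q) : Ω) from rfl, autFun_coe,
        ha'A _ hx']
      exact hg1 x hx

end

end Cfsg.Agent.Fus
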