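import Mathlib
import Cfsg.Agent.Lib.Fus.Saturation

/-!
Stabilizers of a subgroup inside the automizer of a fully automized receptive subgroup.
-/

set_option autoImplicit false
set_option linter.style.haveILetI false
set_option linter.unusedSectionVars false

open scoped Classical Pointwise

universe u

namespace Cfsg.Agent.Fus.SatCrit

open Subgroup FusionSystem

variable {Ω : Type u} [Group Ω] {S : Subgroup Ω} {F : FusionSystem S}

/-- The elements of a finite subgroup of a group conjugated into a Sylow subgroup. -/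
theorem exists_conj_sylow {G : Type*} [Group G] {p : ℕ} [Fact p.Prime] {A : Subgroup G} [Finite A]
    (T : Sylow p A) {U : Subgroup G} (hU : IsPGroup p U) (hUA : U ≤ A) :
    ∃ a ∈ A, ∀ u ∈ U, a * u * a⁻¹ ∈ (T : Subgroup A).map A.subtype := by
  obtain ⟨T', hT'⟩ := (hU.comap_subtype (K := A)).exists_le_sylow
  obtain ⟨a, ha⟩ := MulAction.exists_smul_eq A T' T
  refine ⟨a, a.2, fun u hu => ⟨a * ⟨u, hUA hu⟩ * a⁻¹, ?_, rfl⟩⟩
  rw [← ha, Sylow.coe_subgroup_smul]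
  exact Subgroup.smul_mem_pointwise_smul (⟨u, hUA hu⟩ : A) (MulAut.conj a) _ (hT' hu)

/-- An automorphism carries `A ≤ R` onto `B ≤ R`. -/
def Moves {R : Subgroup Ω} (ξ : MulAut R) (A B : Subgroup Ω) : Prop :=
  ∀ x : R, (ξ x : Ω) ∈ B ↔ (x : Ω) ∈ A

theorem Moves.mul {R A B C : Subgroup Ω} {ξ η : MulAut R} (hξ : Moves ξ B C) (hη : Moves η A B) :
    Moves (ξ * η) A C := fun x => (hξ (η x)).trans (hη x)

theorem Moves.inv {R A B : Subgroup Ω} {ξ : MulAut R} (hξ : Moves ξ A B) : Moves ξ⁻¹ B A := by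
  intro x
  have := hξ (ξ⁻¹ x)
  rw [MulAut.apply_inv_self] at this
  exact this.symm

theorem moves_fimg {R A : Subgroup Ω} (ξ : MulAut R) (hA : A ≤ R) :
    Moves ξ A (fimg (autFun ξ) A) := by
  intro x
  constructor
  · intro hx
    let B : Subgroup Ω := (A.subgroupOf R).map (R.subtype.comp ξ.toMonoidHom)
    have hB : fimg (autFun ξ) A ≤ B :=
      fimg_le fun y hy => ⟨⟨y, hA hy⟩, hy, (autFun_coe ξ ⟨y, hA hy⟩).symm⟩
    obtain ⟨y, hy, hye⟩ := hB hx
    rwa [ξ.injective (Subtype.ext hye : ξ y = ξ x)] at hy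
  · intro hx
    rw [← autFun_coe]
    exact apply_mem_fimg _ hx

theorem Moves.fimg_eq {R A B : Subgroup Ω} {ξ : MulAut R} (h : Moves ξ A B) (hA : A ≤ R)
    (hB : B ≤ R) : fimg (autFun ξ) A = B := by
  refine le_antisymm (fimg_le fun x hx => ?_) fun y hy => ?_
  · rw [show autFun ξ x = ((ξ ⟨x, hA hx⟩ : R) : Ω) from autFun_coe ξ ⟨x, hA hx⟩]
    exact (h _).2 hx
  · have h1 : ((ξ⁻¹ ⟨y, hB hy⟩ : R) : Ω) ∈ A := (h.inv _).2 hy
    have h2 := apply_mem_fimg (autFun ξ) h1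
    rwa [autFun_coe, MulAut.apply_inv_self] at h2

/-- The stabilizer of `P` in the automizer of `R`. -/
def stabSub (F : FusionSystem S) (R P : Subgroup Ω) : Subgroup (MulAut R) where
  carrier := {ξ | ξ ∈ F.autGroup R ∧ Moves ξ P P}
  one_mem' := ⟨one_mem _, fun _ => Iff.rfl⟩
  mul_mem' ha hb := ⟨mul_mem ha.1 hb.1, ha.2.mul hb.2⟩
  inv_mem' ha := ⟨inv_mem ha.1, ha.2.inv⟩

theorem mem_stabSub {R P : Subgroup Ω} {ξ : MulAut R} :
    ξ ∈ stabSub F R P ↔ ξ ∈ F.autGroup R ∧ Moves ξ P P := Iff.rfl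

theorem stabSub_le (F : FusionSystem S) (R P : Subgroup Ω) : stabSub F R P ≤ F.autGroup R :=
  fun _ h => h.1

/-- Conjugation by an element of `S` normalizing `R` and `P` stabilizes `P`. -/
theorem conj_mem_stab {R P : Subgroup Ω} (hR : R ≤ S) {ξ : MulAut R} {g : Ω} (hg : g ∈ S)
    (hgP : g ∈ Subgroup.normalizer (P : Set Ω)) (h : ∀ x : R, (ξ x : Ω) = g * x * g⁻¹) :
    ξ ∈ stabSub F R P ⊓ autInducedBy S R := by
  have hξ : ξ ∈ autInducedBy S R := mem_autInducedBy.2 ⟨g, hg, h⟩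
  exact ⟨⟨autInducedBy_le_autGroup F hR hξ, fun x => by
    rw [h]; exact (Subgroup.mem_normalizer_iff.1 hgP x).symm⟩, hξ⟩

/-- An element inducing a stabilizing automorphism normalizes `P`. -/
theorem mem_normalizerIn_of_stab {R P : Subgroup Ω} (hPR : P ≤ R) {ξ : MulAut R} {g : Ω}
    (hg : g ∈ S) (hξ : Moves ξ P P) (h : ∀ x : R, (ξ x : Ω) = g * x * g⁻¹) :
    g ∈ normalizerIn S P := by
  refine ⟨hg, mem_normalizer_of_forall (fun x hx => ?_) fun x hx => ?_⟩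
  · rw [← h ⟨x, hPR hx⟩]
    exact (hξ _).2 hx
  · have h1 : ((ξ⁻¹ ⟨x, hPR hx⟩ : R) : Ω) ∈ P := (hξ.inv _).2 hx
    have h2 := h (ξ⁻¹ ⟨x, hPR hx⟩)
    rw [MulAut.apply_inv_self] at h2
    have h3 : g⁻¹ * x * g = ((ξ⁻¹ ⟨x, hPR hx⟩ : R) : Ω) := by
      conv_lhs => rw [show x = ((⟨x, hPR hx⟩ : R) : Ω) from rfl, h2]
      group
    rwa [h3]

/-- Transfer of conjugation through an automorphism conjugating it into those induced by `S`. -/
theorem exists_conj_transfer {R : Subgroup Ω} {χ c : MulAut R} {g : Ω}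
    (hgn : g ∈ Subgroup.normalizer (R : Set Ω)) (hc : ∀ x : R, (c x : Ω) = g * x * g⁻¹)
    (h : χ * c * χ⁻¹ ∈ autInducedBy S R) :
    ∃ k ∈ S, ∀ x ∈ R, autFun χ (g * x * g⁻¹) = k * autFun χ x * k⁻¹ := by
  obtain ⟨k, hk, hke⟩ := mem_autInducedBy.1 h
  refine ⟨k, hk, fun x hx => ?_⟩
  have h1 := hke (χ ⟨x, hx⟩)
  simp only [MulAut.mul_apply, MulAut.inv_apply_self] at h1
  have hgx := (Subgroup.mem_normalizer_iff.1 hgn x).1 hx
  rw [show autFun χ (g * x * g⁻¹) = ((χ ⟨_, hgx⟩ : R) : Ω) from autFun_coe χ ⟨_, hgx⟩,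
    show autFun χ x = ((χ ⟨x, hx⟩ : R) : Ω) from autFun_coe χ ⟨x, hx⟩, ← h1]
  exact congrArg (fun z : R => ((χ z : R) : Ω)) (Subtype.ext (hc ⟨x, hx⟩).symm)

/-- The automorphisms induced by `S` contain a Sylow subgroup of the stabilizer of `P`. -/
def SylowAt (F : FusionSystem S) (p : ℕ) (R P : Subgroup Ω) : Prop :=
  ∀ T : Subgroup (MulAut R), IsPGroup p T → T ≤ stabSub F R P →
    ∃ ξ ∈ stabSub F R P, ∀ t ∈ T, ξ * t * ξ⁻¹ ∈ autInducedBy S R

variable {p : ℕ} [Fact p.Prime] [Finite S]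

theorem SylowAt.exists_sylow (hS : IsPGroup p S) {R P : Subgroup Ω} (hR : R ≤ S)
    (h : SylowAt F p R P) :
    ∃ T : Sylow p (stabSub F R P), (T : Subgroup (stabSub F R P)) =
      (autInducedBy S R).subgroupOf (stabSub F R P) := by
  haveI := finite_of_le hR
  set U := (autInducedBy S R).subgroupOf (stabSub F R P)
  obtain ⟨T, hT⟩ := ((isPGroup_autInducedBy hS R).comap_subtype (K := stabSub F R P)).exists_le_sylow
  obtain ⟨ξ, hξ, hξe⟩ := h ((T : Subgroup (stabSub F R P)).map (stabSub F R P).subtype)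
    (T.2.map _) (Subgroup.map_subtype_le _)
  refine ⟨T, (Subgroup.eq_of_le_of_card_ge hT ?_).symm⟩
  let f : ↥(T : Subgroup (stabSub F R P)) → U := fun t => ⟨⟨ξ, hξ⟩ * (t : stabSub F R P) *
    (⟨ξ, hξ⟩)⁻¹, hξe _ ⟨t, t.2, rfl⟩⟩
  exact Nat.card_le_card_of_injective f fun a b hab => Subtype.ext
    (mul_left_cancel (mul_right_cancel (congrArg Subtype.val hab)))

/-- A map from the normalizer of a chain carrying `R` onto a given good conjugate, so that the
image of the smaller member has good stabilizer. -/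
theorem exists_good_map (hS : IsPGroup p S) {R' : Subgroup Ω} (ha : F.IsFullyAutomized p R')
    (hr : F.IsReceptive R') {R Q : Subgroup Ω} (hQR : Q ≤ R) (hRN : R ≤ normalizerIn S Q)
    (hconj : F.IsConj R R') :
    ∃ a, IsMap F (normalizerIn (normalizerIn S Q) R) a ∧ fimg a R = R' ∧
      SylowAt F p R' (fimg a Q) := by
  obtain ⟨f, hf, hfR, hfN⟩ := exists_map_normalizerIn hS ha hr hconj
  obtain ⟨hR'S, W, hW⟩ := ha
  haveI := finite_of_le hR'S
  have hRS : R ≤ S := hRN.trans inf_le_left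
  have hRNR : R ≤ normalizerIn S R := le_normalizerIn hRS
  set P₁ := fimg f Q
  have hP₁ : P₁ ≤ R' := hfR ▸ fimg_mono f hQR
  set A₁ := stabSub F R' P₁
  obtain ⟨T₁, hT₁⟩ := ((isPGroup_autInducedBy hS R').comap_subtype (K := A₁)).exists_le_sylow
  obtain ⟨γ, hγG, hγ⟩ := exists_conj_sylow W
    (T₁.2.map A₁.subtype) ((Subgroup.map_subtype_le _).trans (stabSub_le F R' P₁))
  have hγ' : ∀ u ∈ (T₁ : Subgroup A₁).map A₁.subtype, γ * u * γ⁻¹ ∈ autInducedBy S R' :=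
    fun u hu => by
      obtain ⟨w, hw, hwe⟩ := hγ u hu
      rw [hW] at hw
      rw [← hwe]
      exact hw
  set Nₐ := normalizerIn (normalizerIn S Q) R
  have hNN : Nₐ ≤ normalizerIn S R := fun g hg => ⟨hg.1.1, hg.2⟩
  have hRNa : R ≤ Nₐ := le_inf hRN Subgroup.le_normalizer
  have hg₁ : IsMap F R (fun x => autFun γ (f x)) :=
    (hf.res hRNR).comp ((mem_autGroup hR'S).1 hγG) fun x hx => hfR ▸ apply_mem_fimg f hx
  have hg₁R : fimg (fun x => autFun γ (f x)) R = R' := by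
    rw [(hf.res hRNR).fimg_comp, hfR, fimg_autFun]
  obtain ⟨a, hma, hae⟩ := receptive_extend hr hg₁ hg₁R (N := Nₐ) (fun g hg => by
    refine ⟨hNN hg, ?_⟩
    have hfg : f g ∈ normalizerIn S R' := hfN g (hNN hg)
    let c : MulAut R' := R'.normalizerMonoidHom ⟨f g, hfg.2⟩
    have hfgP : f g ∈ Subgroup.normalizer (P₁ : Set Ω) :=
      (hf.map_normalizerIn (hQR.trans hRNR) (hNN hg) hg.1.2).2
    have hc := conj_mem_stab (F := F) (ξ := c) hR'S hfg.1 hfgP fun x => rfl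
    obtain ⟨k, hk, hke⟩ := exists_conj_transfer (χ := γ) (c := c) hfg.2 (fun x => rfl)
      (hγ' c ⟨⟨c, hc.1⟩, hT₁ hc.2, rfl⟩)
    refine ⟨k, hk, fun x hx => ?_⟩
    show autFun γ (f (g * x * g⁻¹)) = k * autFun γ (f x) * k⁻¹
    rw [hf.map_conj (hNN hg) (hRNR hx)]
    exact hke _ (hfR ▸ apply_mem_fimg f hx)) hRNa
  refine ⟨a, hma, (fimg_congr hae).trans hg₁R, ?_⟩
  have hPc : fimg a Q = fimg (autFun γ) P₁ := by
    rw [fimg_congr fun x hx => hae x (hQR hx), (hf.res (hQR.trans hRNR)).fimg_comp]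
  rw [hPc]
  have hmv : Moves γ P₁ (fimg (autFun γ) P₁) := moves_fimg γ hP₁
  intro T hT hTle
  have hU : T.map (MulAut.conj γ⁻¹).toMonoidHom ≤ A₁ := by
    rintro _ ⟨t, ht, rfl⟩
    show γ⁻¹ * t * γ⁻¹⁻¹ ∈ A₁
    rw [inv_inv]
    exact ⟨mul_mem (mul_mem (inv_mem hγG) (hTle ht).1) hγG,
      (hmv.inv.mul (hTle ht).2).mul hmv⟩
  obtain ⟨δ, hδ, hδe⟩ := exists_conj_sylow T₁ (hT.map _) hU
  refine ⟨γ * δ * γ⁻¹, ⟨mul_mem (mul_mem hγG hδ.1) (inv_mem hγG),
    (hmv.mul hδ.2).mul hmv.inv⟩, fun t ht => ?_⟩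
  have h1 := hγ' _ (hδe _ ⟨t, ht, rfl⟩)
  convert h1 using 1
  simp only [MulEquiv.coe_toMonoidHom, MulAut.conj_apply]
  group

/-- An automorphism of a good subgroup carrying `P` onto `P'` can be corrected to extend. -/
theorem exists_corrected (hS : IsPGroup p S) {R P P' : Subgroup Ω} (hr : F.IsReceptive R)
    (hP : P ≤ R) (hP' : P' ≤ R) (hRN : R ≤ normalizerIn S P) (hsy : SylowAt F p R P')
    {χ : MulAut R} (hχ : χ ∈ F.autGroup R) (hmv : Moves χ P P') :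
    ∃ ξ ∈ stabSub F R P', ∃ h, IsMap F (normalizerIn (normalizerIn S P) R) h ∧
      (∀ x ∈ R, h x = autFun (ξ * χ) x) ∧ fimg h P = P' ∧ fimg h R = R := by
  haveI := finite_of_le hr.1
  set T := (autInducedBy S R ⊓ stabSub F R P).map (MulAut.conj χ).toMonoidHom with hT
  obtain ⟨ξ, hξ, hξe⟩ := hsy T (((isPGroup_autInducedBy hS R).to_le inf_le_left).map _) (by
    rintro _ ⟨t, ht, rfl⟩
    exact ⟨mul_mem (mul_mem hχ ht.2.1) (inv_mem hχ), (hmv.mul ht.2.2).mul hmv.inv⟩)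
  have hξχ : ξ * χ ∈ F.autGroup R := mul_mem hξ.1 hχ
  have hm : IsMap F R (autFun (ξ * χ)) := (mem_autGroup hr.1).1 hξχ
  have hRNc : R ≤ normalizerIn (normalizerIn S P) R := le_inf hRN Subgroup.le_normalizer
  obtain ⟨h, hh, hhe⟩ := receptive_extend hr hm (fimg_autFun _)
    (N := normalizerIn (normalizerIn S P) R) (fun g hg => by
      refine ⟨⟨hg.1.1, hg.2⟩, ?_⟩
      let c : MulAut R := R.normalizerMonoidHom ⟨g, hg.2⟩
      have hc := conj_mem_stab (F := F) (ξ := c) hr.1 hg.1.1 hg.1.2 fun x => rfl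
      refine exists_conj_transfer (χ := ξ * χ) (c := c) hg.2 (fun x => rfl) ?_
      have h1 := hξe _ ⟨c, ⟨hc.2, hc.1⟩, rfl⟩
      convert h1 using 1
      simp only [MulEquiv.coe_toMonoidHom, MulAut.conj_apply]
      group) hRNc
  refine ⟨ξ, hξ, h, hh, hhe, ?_, (fimg_congr hhe).trans (fimg_autFun _)⟩
  rw [fimg_congr fun x hx => hhe x (hP hx)]
  exact (hξ.2.mul hmv).fimg_eq hP hP'

/-- The splitting of a map between chains through a good subgroup. -/
theorem exists_split (hS : IsPGroup p S) {R Q : Subgroup Ω} {f : Ω → Ω} (hf : IsMap F R f)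
    (hQR : Q ≤ R) (hRN : R ≤ normalizerIn S Q) {R' : Subgroup Ω} (hconj : F.IsConj R R')
    (ha : F.IsFullyAutomized p R') (hr : F.IsReceptive R') :
    ∃ a b h : Ω → Ω, IsMap F (normalizerIn (normalizerIn S Q) R) a ∧
      IsMap F (normalizerIn (normalizerIn S (fimg f Q)) (fimg f R)) b ∧
      fimg a R = R' ∧ fimg b (fimg f R) = R' ∧
      SylowAt F p R' (fimg b (fimg f Q)) ∧
      IsMap F (normalizerIn (normalizerIn S (fimg a Q)) R') h ∧
      fimg h (fimg a Q) = fimg b (fimg f Q) ∧ fimg h R' = R' ∧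
      ∃ ξ ∈ stabSub F R' (fimg b (fimg f Q)), ∀ x ∈ R, autFun ξ (b (f x)) = h (a x) := by
  have hRS := hf.source_le
  have hfN : fimg f R ≤ normalizerIn S (fimg f Q) :=
    fimg_le fun x hx => hf.map_normalizerIn hQR hx (hRN hx).2
  obtain ⟨a, hma, haR, -⟩ := exists_good_map hS ha hr hQR hRN hconj
  obtain ⟨b, hmb, hbR, hsy⟩ := exists_good_map hS ha hr (fimg_mono f hQR) hfN
    (isConj_trans (isConj_symm hf.isConj) hconj)
  have hRa : R ≤ normalizerIn (normalizerIn S Q) R := le_inf hRN Subgroup.le_normalizer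
  have hRb : fimg f R ≤ normalizerIn (normalizerIn S (fimg f Q)) (fimg f R) :=
    le_inf hfN Subgroup.le_normalizer
  have hma' := hma.res hRa
  obtain ⟨a', ha', ha1, ha2, -⟩ := hma'.exists_inv
  rw [haR] at ha' ha2
  have hmid : IsMap F R' (fun y => b (f (a' y))) :=
    (ha'.comp hf fun y hy => (ha2 y hy).1).comp (hmb.res hRb) fun y hy =>
      apply_mem_fimg f (ha2 y hy).1
  have hmidR : fimg (fun y => b (f (a' y))) R' = R' := by
    haveI := finite_of_le hr.1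
    exact Subgroup.eq_of_le_of_card_ge (fimg_le fun y hy =>
      hbR ▸ apply_mem_fimg b (apply_mem_fimg f (ha2 y hy).1)) hmid.card_fimg.ge
  obtain ⟨χ, hχ, hχe⟩ := hmid.exists_aut hmidR
  have hPc : fimg a Q ≤ R' := haR ▸ fimg_mono a hQR
  have hPd : fimg b (fimg f Q) ≤ R' := hbR ▸ fimg_mono b (fimg_mono f hQR)
  have hval : ∀ x ∈ R, autFun χ (a x) = b (f x) := fun x hx => by
    rw [hχe _ (haR ▸ apply_mem_fimg a hx), ha1 x hx]
  have hmv : Moves χ (fimg a Q) (fimg b (fimg f Q)) := by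
    have : fimg (autFun χ) (fimg a Q) = fimg b (fimg f Q) := by
      rw [← (hma'.res hQR).fimg_comp, fimg_congr fun x hx => hval x (hQR hx),
        (hf.res hQR).fimg_comp]
    exact this ▸ moves_fimg χ hPc
  have hR'N : R' ≤ normalizerIn S (fimg a Q) :=
    haR ▸ fimg_le fun x hx => hma'.map_normalizerIn hQR hx (hRN hx).2
  obtain ⟨ξ, hξ, h, hh, hhe, hhP, hhR⟩ := exists_corrected hS hr hPc hPd hR'N hsy hχ hmv
  refine ⟨a, b, h, hma, hmb, haR, hbR, hsy, hh, hhP, hhR, ξ, hξ, fun x hx => ?_⟩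
  have hax : a x ∈ R' := haR ▸ apply_mem_fimg a hx
  rw [hhe _ hax, autFun_mul _ _ hax, hval x hx]

end Cfsg.Agent.Fus.SatCrit
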