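import Mathlib
import Cfsg.Agent.Lib.Fus.SatCriterionStab

/-!
Connecting the members of a class of subgroups by maps between their normalizers.
-/

set_option autoImplicit false
set_option linter.style.haveILetI false
set_option linter.unusedSectionVars false

open scoped Classical

universe u

namespace Cfsg.Agent.Fus.SatCrit

open Subgroup FusionSystem

variable {Ω : Type u} [Group Ω] {S : Subgroup Ω} {F : FusionSystem S}

/-- A map on the normalizer of `A` carrying `A` onto `B`. -/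
def Up (F : FusionSystem S) (A B : Subgroup Ω) : Prop :=
  ∃ f, IsMap F (normalizerIn S A) f ∧ fimg f A = B

/-- Two subgroups with a common upper neighbour. -/
def Join (F : FusionSystem S) (A B : Subgroup Ω) : Prop := ∃ U, Up F A U ∧ Up F B U

theorem Up.refl {A : Subgroup Ω} : Up F A A := ⟨_, isMap_id F inf_le_left, fimg_id A⟩

theorem Up.trans {A B C : Subgroup Ω} (hA : A ≤ S) (h₁ : Up F A B) (h₂ : Up F B C) :
    Up F A C := by
  obtain ⟨f, hf, rfl⟩ := h₁
  obtain ⟨g, hg, rfl⟩ := h₂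
  have hAN := le_normalizerIn (S := S) hA
  exact ⟨_, hf.comp hg fun x hx => hf.map_normalizerIn hAN hx hx.2,
    (hf.res hAN).fimg_comp g⟩

theorem Join.symm {A B : Subgroup Ω} (h : Join F A B) : Join F B A :=
  let ⟨U, h₁, h₂⟩ := h; ⟨U, h₂, h₁⟩

theorem isConj_of_map {P₀ Q R : Subgroup Ω} {f : Ω → Ω} (hQ : F.IsConj P₀ Q) (hf : IsMap F R f)
    (hQR : Q ≤ R) : F.IsConj P₀ (fimg f Q) :=
  isConj_trans hQ (hf.res hQR).isConj

/-- The image of a normalizer of a chain under a map defined there. -/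
theorem fimg_chain_le {Q R : Subgroup Ω} {a : Ω → Ω}
    (ha : IsMap F (normalizerIn (normalizerIn S Q) R) a) (hQR : Q ≤ R)
    (hR : R ≤ normalizerIn S Q) :
    fimg a (normalizerIn (normalizerIn S Q) R) ≤
      normalizerIn (normalizerIn S (fimg a Q)) (fimg a R) := by
  have hRa : R ≤ normalizerIn (normalizerIn S Q) R := le_inf hR Subgroup.le_normalizer
  exact fimg_le fun g hg => ⟨ha.map_normalizerIn (hQR.trans hRa) hg hg.1.2,
    (ha.map_normalizerIn hRa hg hg.2).2⟩

variable {p : ℕ} [Fact p.Prime] [Finite S]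

/-- The proper overgroups of members of the class of `P₀` are saturated. -/
def LargerGood (F : FusionSystem S) (p : ℕ) (P₀ : Subgroup Ω) : Prop :=
  ∀ Q R, F.IsConj P₀ Q → Q < R → R ≤ S →
    ∃ R', F.IsConj R R' ∧ F.IsFullyAutomized p R' ∧ F.IsReceptive R'

theorem LargerGood.get {P₀ Q R : Subgroup Ω} (hg : LargerGood F p P₀) (hQ : F.IsConj P₀ Q)
    (hQR : Q < R) (hR : R ≤ S) :
    ∃ R', F.IsConj R R' ∧ F.IsFullyAutomized p R' ∧ F.IsReceptive R' :=
  hg Q R hQ hQR hR

/-- Saturated larger subgroups give saturated overgroups of the class. -/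
theorem LargerGood.of_card [Finite S] {P₀ : Subgroup Ω} (h : ∀ R ≤ S, Nat.card P₀ < Nat.card R →
    ∃ R', F.IsConj R R' ∧ F.IsFullyAutomized p R' ∧ F.IsReceptive R') : LargerGood F p P₀ :=
  fun Q R hQ hQR hR => by
    haveI := finite_of_le hR
    refine h R hR ?_
    rw [← isConj_card hQ]
    exact card_lt_of_lt hQR

theorem card_lt_chain (hS : IsPGroup p S) {Q R : Subgroup Ω} (hR : R < normalizerIn S Q) :
    Nat.card R < Nat.card (normalizerIn (normalizerIn S Q) R) := by
  haveI : Finite ↥(normalizerIn S Q) := finite_of_le (S := S) inf_le_left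
  haveI : Finite ↥(normalizerIn (normalizerIn S Q) R) :=
    finite_of_le (S := S) (inf_le_left.trans inf_le_left)
  exact card_lt_of_lt (lt_normalizerIn (S := normalizerIn S Q) (hS.to_le inf_le_left) hR)

/-- Transitivity at a subgroup, given the steps with source as large as its normalizer. -/
theorem join_trans {P₀ A B C : Subgroup Ω} {k : ℕ} (hP₀ : Nat.card P₀ ≤ k)
    (hstep : ∀ Q R f, F.IsConj P₀ Q → Q < R → R ≤ normalizerIn S Q → IsMap F R f →
      k < Nat.card R → Join F Q (fimg f Q))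
    (hA : A ≤ S) (hC : C ≤ S) (hB : F.IsConj P₀ B) (hk : k < Nat.card (normalizerIn S B))
    (h₁ : Join F A B) (h₂ : Join F B C) : Join F A C := by
  obtain ⟨U, hAU, ⟨f, hf, hfB⟩⟩ := h₁
  obtain ⟨V, ⟨g, hg, hgB⟩, hCV⟩ := h₂
  have hBS := isConj_le_right hB
  have hBN := le_normalizerIn (S := S) hBS
  obtain ⟨f', hf', hf1, hf2, -⟩ := hf.exists_inv
  have hU : F.IsConj P₀ U := hfB ▸ isConj_of_map hB hf hBN
  have hUle : fimg f (normalizerIn S B) ≤ normalizerIn S U :=
    hfB ▸ fimg_le fun x hx => hf.map_normalizerIn hBN hx hx.2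
  have hU' : U ≤ fimg f (normalizerIn S B) := hfB ▸ fimg_mono f hBN
  have hw : IsMap F (fimg f (normalizerIn S B)) (fun y => g (f' y)) :=
    hf'.comp hg fun y hy => (hf2 y hy).1
  have hwU : fimg (fun y => g (f' y)) U = V := by
    rw [← hfB, ← (hf.res hBN).fimg_comp, ← hgB]
    exact fimg_congr fun x hx => by rw [hf1 x (hBN hx)]
  obtain ⟨W, hUW, hVW⟩ := hstep U _ _ hU (lt_of_le_of_ne hU' fun e => by
      have h1 := hf.card_fimg
      rw [← e, isConj_card hU] at h1
      omega) hUle hw (by rw [hf.card_fimg]; exact hk)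
  rw [hwU] at hVW
  exact ⟨W, hAU.trans hA hUW, hCV.trans hC hVW⟩

/-- Every map of larger source gives a common upper neighbour. -/
theorem join_step (hS : IsPGroup p S) {P₀ : Subgroup Ω} (hgood : LargerGood F p P₀)
    {Q R : Subgroup Ω} {f : Ω → Ω} (hQ : F.IsConj P₀ Q) (hQR : Q < R)
    (hRN : R ≤ normalizerIn S Q) (hf : IsMap F R f) : Join F Q (fimg f Q) := by
  induction hn : Nat.card S - Nat.card R using Nat.strong_induction_on generalizing Q R f with
  | _ n ih =>
    have hQS := isConj_le_right hQ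
    have hRS := hf.source_le
    haveI := finite_of_le hRS
    set Q' := fimg f Q
    have hQ' : F.IsConj P₀ Q' := isConj_of_map hQ hf hQR.le
    have hfN : fimg f R ≤ normalizerIn S Q' :=
      fimg_le fun x hx => hf.map_normalizerIn hQR.le hx (hRN hx).2
    rcases hRN.eq_or_lt with e | hlt
    · subst e
      exact ⟨Q', ⟨f, hf, rfl⟩, Up.refl⟩
    rcases hfN.eq_or_lt with e | hlt'
    · obtain ⟨f', hf', hf1, -, -⟩ := hf.exists_inv
      rw [e] at hf'
      refine ⟨Q, Up.refl, f', hf', ?_⟩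
      rw [← (hf.res hQR.le).fimg_comp]
      exact (fimg_congr fun x hx => hf1 x (hQR.le hx)).trans (fimg_id Q)
    obtain ⟨R', hRR', ha', hr'⟩ := hgood.get hQ hQR hRS
    obtain ⟨a, b, h, hma, hmb, haR, hbR, -, hh, hhP, hhR, -⟩ :=
      exists_split hS hf hQR.le hRN hRR' ha' hr'
    have hstep : ∀ Q₁ R₁ g, F.IsConj P₀ Q₁ → Q₁ < R₁ → R₁ ≤ normalizerIn S Q₁ → IsMap F R₁ g →
        Nat.card R < Nat.card R₁ → Join F Q₁ (fimg g Q₁) := by
      intro Q₁ R₁ g h1 h2 h3 h4 h5
      have := Subgroup.card_le_of_le h4.source_le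
      exact ih _ (by omega) h1 h2 h3 h4 rfl
    have hca : Nat.card R < Nat.card (normalizerIn (normalizerIn S Q) R) := card_lt_chain hS hlt
    have hcb : Nat.card R < Nat.card (normalizerIn (normalizerIn S Q') (fimg f R)) := by
      rw [← hf.card_fimg]; exact card_lt_chain hS hlt'
    have hRa : R ≤ normalizerIn (normalizerIn S Q) R := le_inf hRN Subgroup.le_normalizer
    have hRb : fimg f R ≤ normalizerIn (normalizerIn S Q') (fimg f R) :=
      le_inf hfN Subgroup.le_normalizer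
    set Pc := fimg a Q
    set Pd := fimg b Q'
    have hPc : F.IsConj P₀ Pc := isConj_of_map hQ hma (hQR.le.trans hRa)
    have hPd : F.IsConj P₀ Pd := isConj_of_map hQ' hmb ((fimg_mono f hQR.le).trans hRb)
    have hsub : fimg a (normalizerIn (normalizerIn S Q) R) ≤
        normalizerIn (normalizerIn S Pc) R' := haR ▸ fimg_chain_le hma hQR.le hRN
    haveI : Finite ↥(normalizerIn (normalizerIn S Pc) R') :=
      finite_of_le (S := S) (inf_le_left.trans inf_le_left)
    have hcc : Nat.card R < Nat.card (normalizerIn (normalizerIn S Pc) R') := by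
      have := Subgroup.card_le_of_le hsub
      rw [hma.card_fimg] at this
      omega
    have hcardQ : Nat.card Q < Nat.card R := card_lt_of_lt hQR
    have hltc : Pc < normalizerIn (normalizerIn S Pc) R' := by
      refine lt_of_le_of_ne (le_trans ?_ hsub) fun e => ?_
      · exact fimg_mono a (hQR.le.trans hRa)
      · have h1 : Nat.card Pc = Nat.card Q := (hma.res (hQR.le.trans hRa)).card_fimg
        rw [← e, h1] at hcc
        omega
    haveI := finite_of_le hma.source_le
    haveI := finite_of_le hmb.source_le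
    have j₁ : Join F Q Pc := hstep Q _ a hQ (hQR.trans_le hRa) inf_le_left hma hca
    have j₂ : Join F Pc Pd := hhP ▸ hstep Pc _ h hPc hltc inf_le_left hh hcc
    have j₃ : Join F Q' Pd := hstep Q' _ b hQ'
      (lt_of_le_of_ne ((fimg_mono f hQR.le).trans hRb) fun e => by
        have h1 : Nat.card Q' = Nat.card Q := (hf.res hQR.le).card_fimg
        rw [← e, h1] at hcb
        omega) inf_le_left hmb hcb
    have hk₀ : Nat.card P₀ ≤ Nat.card R := by
      rw [← isConj_card hQ]
      exact hcardQ.le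
    haveI : Finite ↥(normalizerIn S Pc) := finite_of_le (S := S) inf_le_left
    haveI : Finite ↥(normalizerIn S Pd) := finite_of_le (S := S) inf_le_left
    have hPcd : Join F Q Pd := join_trans hk₀ hstep hQS (isConj_le_right hPd) hPc
      (lt_of_lt_of_le hcc (Subgroup.card_le_of_le inf_le_left)) j₁ j₂
    refine join_trans hk₀ hstep hQS (isConj_le_right hQ') hPd ?_ hPcd j₃.symm
    have h1 : fimg b (normalizerIn (normalizerIn S Q') (fimg f R)) ≤ normalizerIn S Pd :=
      fimg_le fun x hx => hmb.map_normalizerIn ((fimg_mono f hQR.le).trans hRb) hx hx.1.2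
    have := Subgroup.card_le_of_le h1
    rw [hmb.card_fimg] at this
    exact lt_of_lt_of_le hcb this

/-- The generation argument: a relation closed under composition and inversion, holding for maps
with larger source, holds for all maps on the class. -/
theorem generation (hS : IsPGroup p S) {P₀ : Subgroup Ω} (hP₀ : P₀ < S) {ℋ : Set (Subgroup Ω)}
    (hnot : ∀ Q, F.IsConj P₀ Q → Q ∉ ℋ)
    (hgen : ∀ E : FusionSystem S, (∀ P ∈ ℋ, F.Hom P ⊆ E.Hom P) → F ≤ E)
    (G : Subgroup Ω → (Ω → Ω) → Prop)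
    (hcongr : ∀ Q f g, G Q f → (∀ x ∈ Q, f x = g x) → G Q g)
    (hcomp : ∀ Q f g, F.IsConj P₀ Q → IsMap F Q f → IsMap F (fimg f Q) g → G Q f →
      G (fimg f Q) g → G Q fun x => g (f x))
    (hinv : ∀ Q f g, F.IsConj P₀ Q → IsMap F Q f → IsMap F (fimg f Q) g →
      (∀ x ∈ Q, g (f x) = x) → G Q f → G (fimg f Q) g)
    (hbig : ∀ Q R f, F.IsConj P₀ Q → Q < R → R ≤ normalizerIn S Q → IsMap F R f → G Q f)
    {Q : Subgroup Ω} {f : Ω → Ω} (hQ : F.IsConj P₀ Q) (hf : IsMap F Q f) : G Q f := by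
  have hQlt : ∀ Q, F.IsConj P₀ Q → Q < S := fun Q hQ =>
    lt_of_le_of_ne (isConj_le_right hQ) fun e => by
      have h1 := isConj_card hQ
      rw [e] at h1
      have h2 := card_lt_of_lt hP₀
      omega
  let E : FusionSystem S :=
    { Hom := fun R => {φ | φ ∈ F.Hom R ∧ ∀ Q ≤ R, F.IsConj P₀ Q → G Q (toFun φ)}
      le_of_mem := fun h => F.le_of_mem h.1
      injective_of_mem := fun h => F.injective_of_mem h.1
      conj_mem := fun {R g} hR hg => by
        refine ⟨F.conj_mem hR hg, fun Q hQR hQ => ?_⟩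
        haveI : Finite ↥(normalizerIn S Q) := finite_of_le (S := S) inf_le_left
        refine hcongr _ _ _ (hbig Q _ (fun x => g * x * g⁻¹) hQ (lt_normalizerIn hS (hQlt Q hQ))
          le_rfl (isMap_conj F inf_le_left hg)) fun x hx => ?_
        rw [toFun_apply _ (hQR hx)]
        rfl
      comp_mem := fun {R T φ ψ} hφ hψ hmem => by
        refine ⟨F.comp_mem hφ.1 hψ.1 hmem, fun Q hQR hQ => ?_⟩
        have hmφ := (isMap_toFun hφ.1).res hQR
        have hT : fimg (toFun φ) Q ≤ T := fimg_le fun x hx => by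
          rw [toFun_apply φ (hQR hx)]; exact hmem _
        refine hcongr _ _ _ (hcomp Q _ _ hQ hmφ ((isMap_toFun hψ.1).res hT) (hφ.2 Q hQR hQ)
          (hψ.2 _ hT (isConj_trans hQ hmφ.isConj))) fun x hx => ?_
        rw [toFun_apply φ (hQR hx), toFun_apply _ (hQR hx), toFun_apply ψ (hmem _)]
        rfl
      inv_mem := fun {R φ} hφ => by
        obtain ⟨ψ, hψ, hψe⟩ := F.inv_mem hφ.1
        refine ⟨ψ, ⟨hψ, fun Q hQR hQ => ?_⟩, hψe⟩
        have hmψ := (isMap_toFun hψ).res hQR
        set Q₀ := fimg (toFun ψ) Q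
        have hval : ∀ y ∈ Q, toFun ψ y ∈ R ∧ toFun φ (toFun ψ y) = y := by
          intro y hy
          obtain ⟨x, rfl⟩ := hQR hy
          rw [toFun_apply ψ ⟨x, rfl⟩, hψe x]
          exact ⟨x.2, toFun_coe φ x⟩
        have hQ₀R : Q₀ ≤ R := fimg_le fun y hy => (hval y hy).1
        have hmφ := (isMap_toFun hφ.1).res hQ₀R
        have hQ₀ : F.IsConj P₀ Q₀ := isConj_trans hQ hmψ.isConj
        have hback : fimg (toFun φ) Q₀ = Q := by
          rw [← hmψ.fimg_comp]
          exact (fimg_congr fun y hy => (hval y hy).2).trans (fimg_id Q)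
        have h1 := hinv Q₀ (toFun φ) (toFun ψ) hQ₀ hmφ (hback.symm ▸ hmψ) (fun x hx => by
          rw [toFun_apply φ (hQ₀R hx), toFun_apply ψ ⟨⟨x, hQ₀R hx⟩, rfl⟩]
          exact hψe _) (hφ.2 Q₀ hQ₀R hQ₀)
        rwa [hback] at h1 }
  have hle : F ≤ E := by
    refine hgen E fun R hR φ hφ => ⟨hφ, fun Q hQR hQ => ?_⟩
    have hlt : Q < R := lt_of_le_of_ne hQR fun e => hnot Q hQ (e ▸ hR)
    have hm := isMap_toFun hφ
    haveI := finite_of_le hm.source_le
    exact hbig Q (normalizerIn R Q) _ hQ (lt_normalizerIn (hS.to_le hm.source_le) hlt)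
      (fun x hx => ⟨hm.source_le hx.1, hx.2⟩) (hm.res inf_le_left)
  obtain ⟨φ, hφ, hφe⟩ := hf.exists_hom
  refine hcongr _ _ _ ((hle Q hφ).2 Q le_rfl hQ) fun x hx => ?_
  rw [toFun_apply φ hx]
  exact hφe ⟨x, hx⟩

/-- Every member of the class has a map on its normalizer onto a fully normalized member. -/
theorem exists_transport (hS : IsPGroup p S) {P₀ : Subgroup Ω} (hP₀ : P₀ < S)
    (hn : F.IsFullyNormalized P₀) (hgood : LargerGood F p P₀) {ℋ : Set (Subgroup Ω)}
    (hnot : ∀ Q, F.IsConj P₀ Q → Q ∉ ℋ)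
    (hgen : ∀ E : FusionSystem S, (∀ P ∈ ℋ, F.Hom P ⊆ E.Hom P) → F ≤ E)
    {Q : Subgroup Ω} (hQ : F.IsConj P₀ Q) : Up F Q P₀ := by
  have hbig : ∀ Q₁ R₁ g, F.IsConj P₀ Q₁ → Q₁ < R₁ → R₁ ≤ normalizerIn S Q₁ → IsMap F R₁ g →
      Join F Q₁ (fimg g Q₁) := fun Q₁ R₁ g h1 h2 h3 h4 => join_step hS hgood h1 h2 h3 h4
  have hNlt : ∀ B, F.IsConj P₀ B → Nat.card P₀ < Nat.card (normalizerIn S B) := fun B hB => by
    haveI : Finite ↥(normalizerIn S B) := finite_of_le (S := S) inf_le_left
    rw [← isConj_card hB]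
    refine card_lt_of_lt (lt_normalizerIn hS (lt_of_le_of_ne (isConj_le_right hB) fun e => ?_))
    have h1 := isConj_card hB
    rw [e] at h1
    have h2 := card_lt_of_lt hP₀
    omega
  obtain ⟨f, hf, hfQ⟩ := isConj_iff.1 (isConj_symm hQ)
  have hj : Join F Q P₀ := hfQ ▸ generation hS hP₀ hnot hgen (fun Q f => Join F Q (fimg f Q))
    (fun Q f g h e => by rwa [← fimg_congr e])
    (fun Q f g hQ hf hg h1 h2 => by
      rw [hf.fimg_comp]
      exact join_trans le_rfl (fun Q₁ R₁ g₁ a b c d _ => hbig Q₁ R₁ g₁ a b c d) (isConj_le_right hQ)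
        hg.fimg_le_S (isConj_trans hQ hf.isConj) (hNlt _ (isConj_trans hQ hf.isConj)) h1 h2)
    (fun Q f g hQ hf hg he h1 => by
      rw [← hf.fimg_comp, fimg_congr he, fimg_id]
      exact h1.symm)
    (fun Q R g hQ h1 h2 h3 => hbig Q R g hQ h1 h2 h3) hQ hf
  obtain ⟨U, hQU, g, hg, hgU⟩ := hj
  refine hQU.trans (isConj_le_right hQ) ?_
  have hPN := le_normalizerIn (S := S) hP₀.le
  have hU : F.IsConj P₀ U := hgU ▸ (hg.res hPN).isConj
  haveI : Finite ↥(normalizerIn S U) := finite_of_le (S := S) inf_le_left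
  have heq : fimg g (normalizerIn S P₀) = normalizerIn S U :=
    Subgroup.eq_of_le_of_card_ge (hgU ▸ fimg_le fun x hx => hg.map_normalizerIn hPN hx hx.2)
      (hg.card_fimg.symm ▸ hn.2 U hU)
  obtain ⟨g', hg', hg1, -, -⟩ := hg.exists_inv
  rw [heq] at hg'
  refine ⟨g', hg', ?_⟩
  rw [← hgU, ← (hg.res hPN).fimg_comp]
  exact (fimg_congr fun x hx => hg1 x (hPN hx)).trans (fimg_id P₀)

end Cfsg.Agent.Fus.SatCrit
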