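import Mathlib
import Cfsg.Agent.Lib.Fus.SatCriterionJoin
import Cfsg.Agent.Lib.Grp.Cores

/-!
Extending the automorphisms of a fully normalized member of a class to a larger subgroup.
-/

set_option autoImplicit false
set_option linter.style.haveILetI false
set_option linter.unusedSectionVars false

open scoped Classical Pointwise

universe u

namespace Cfsg.Agent.Fus.SatCrit

open Subgroup FusionSystem

variable {Ω : Type u} [Group Ω] {S : Subgroup Ω} {F : FusionSystem S}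

/-- Restriction of automorphisms stabilizing `P` through a map carrying `P` onto `P₀`. -/
theorem exists_rho [Finite S] {R P P₀ : Subgroup Ω} (hPR : P ≤ R) (hR : R ≤ S) {ψ : Ω → Ω}
    (hψ : IsMap F P ψ) (hψP : fimg ψ P = P₀) :
    ∃ ρ : stabSub F R P →* F.autGroup P₀, ∀ (ξ : stabSub F R P), ∀ x ∈ P,
      autFun (ρ ξ : MulAut P₀) (ψ x) = ψ (autFun (ξ : MulAut R) x) := by
  have hP₀S : P₀ ≤ S := hψP ▸ hψ.fimg_le_S
  have hm : ∀ ξ : stabSub F R P, ∀ x ∈ P, autFun (ξ : MulAut R) x ∈ P := fun ξ x hx => by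
    rw [show autFun (ξ : MulAut R) x = (((ξ : MulAut R) ⟨x, hPR hx⟩ : R) : Ω) from
      autFun_coe _ ⟨x, hPR hx⟩]
    exact (ξ.2.2 _).2 hx
  have hex : ∀ ξ : stabSub F R P, ∃ α : F.autGroup P₀, ∀ x ∈ P,
      autFun (α : MulAut P₀) (ψ x) = ψ (autFun (ξ : MulAut R) x) := by
    intro ξ
    obtain ⟨ψ', hψ', h1, h2, -⟩ := hψ.exists_inv
    rw [hψP] at hψ' h2
    have hξm := ((mem_autGroup hR).1 ξ.2.1).res hPR
    have hmid : IsMap F P₀ (fun y => ψ (autFun (ξ : MulAut R) (ψ' y))) :=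
      (hψ'.comp hξm fun y hy => (h2 y hy).1).comp hψ fun y hy => hm ξ _ (h2 y hy).1
    have hfim : fimg (fun y => ψ (autFun (ξ : MulAut R) (ψ' y))) P₀ = P₀ := by
      haveI := finite_of_le hP₀S
      exact Subgroup.eq_of_le_of_card_ge (fimg_le fun y hy =>
        hψP ▸ apply_mem_fimg ψ (hm ξ _ (h2 y hy).1)) hmid.card_fimg.ge
    obtain ⟨α, hα, hαe⟩ := hmid.exists_aut hfim
    exact ⟨⟨α, hα⟩, fun x hx => by rw [hαe _ (hψP ▸ apply_mem_fimg ψ hx), h1 x hx]⟩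
  choose α hα using hex
  refine ⟨MonoidHom.mk' α fun ξ η => Subtype.ext (mulAut_ext fun y hy => ?_), hα⟩
  rw [← hψP] at hy
  obtain ⟨x, hx, rfl⟩ := hψ.mem_fimg_iff.1 hy
  rw [hα (ξ * η) x hx, Subgroup.coe_mul, Subgroup.coe_mul,
    autFun_mul _ _ (hψP ▸ apply_mem_fimg ψ hx : ψ x ∈ P₀), hα η x hx,
    hα ξ _ (hm η x hx), autFun_mul _ _ (hPR hx)]

/-- An automorphism fixing a centric normal subgroup pointwise has `p`-power order. -/
theorem pow_card_eq_one_of_fix [Finite S] {R P : Subgroup Ω} (hPR : P ≤ R) (hR : R ≤ S)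
    (hRn : R ≤ Subgroup.normalizer (P : Set Ω)) (hc : centralizerIn S P ≤ P) {ξ : MulAut R}
    (hfix : ∀ x : R, (x : Ω) ∈ P → ξ x = x) : ξ ^ Nat.card P = 1 := by
  have hd : ∀ y : R, ((ξ y * y⁻¹ : R) : Ω) ∈ P := by
    intro y
    refine hc (mem_centralizerIn.2 ⟨hR (ξ y * y⁻¹).2, fun x hx => ?_⟩)
    have hx' := (Subgroup.mem_normalizer_iff''.1 (hRn y.2) x).1 hx
    let u : R := ⟨x, hPR hx⟩
    have hu : ξ u = u := hfix u hx
    have h2 : ξ (y⁻¹ * u * y) = y⁻¹ * u * y := hfix _ hx'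
    rw [map_mul, map_mul, map_inv, hu] at h2
    have h3 : u * (ξ y * y⁻¹) = (ξ y * y⁻¹) * u := by
      calc u * (ξ y * y⁻¹) = ξ y * ((ξ y)⁻¹ * u * ξ y) * y⁻¹ := by group
        _ = ξ y * (y⁻¹ * u * y) * y⁻¹ := by rw [h2]
        _ = (ξ y * y⁻¹) * u := by group
    exact congrArg Subtype.val h3
  refine MulEquiv.ext fun y => ?_
  have key : ∀ k, (ξ ^ k) y = (ξ y * y⁻¹) ^ k * y := by
    intro k
    induction k with
    | zero => simp
    | succ k ih =>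
      rw [pow_succ', MulAut.mul_apply, ih, map_mul, map_pow, hfix _ (hd y), pow_succ]
      group
  rw [key, MulAut.one_apply, mul_eq_right]
  haveI := finite_of_le (hPR.trans hR)
  have h4 : (⟨((ξ y * y⁻¹ : R) : Ω), hd y⟩ : P) ^ Nat.card P = 1 := pow_card_eq_one'
  exact Subtype.ext ((SubmonoidClass.coe_pow _ _).trans (congrArg Subtype.val h4))

/-- The elements of `S` inducing on `P₀` an automorphism in `M`. -/
def preM (S P₀ : Subgroup Ω) (M : Subgroup (MulAut P₀)) : Subgroup Ω where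
  carrier := {g | g ∈ S ∧ ∃ m ∈ M, ∀ x : P₀, (m x : Ω) = g * x * g⁻¹}
  one_mem' := ⟨S.one_mem, 1, one_mem _, fun x => by simp⟩
  mul_mem' := by
    rintro g k ⟨hg, m, hm, hme⟩ ⟨hk, n, hn, hne⟩
    refine ⟨mul_mem hg hk, m * n, mul_mem hm hn, fun x => ?_⟩
    rw [MulAut.mul_apply, hme, hne]
    group
  inv_mem' := by
    rintro g ⟨hg, m, hm, hme⟩
    refine ⟨inv_mem hg, m⁻¹, inv_mem hm, fun x => ?_⟩
    have := hme (m⁻¹ x)
    rw [MulAut.apply_inv_self] at this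
    rw [this]
    group

theorem mem_preM {P₀ : Subgroup Ω} {M : Subgroup (MulAut P₀)} {g : Ω} :
    g ∈ preM S P₀ M ↔ g ∈ S ∧ ∃ m ∈ M, ∀ x : P₀, (m x : Ω) = g * x * g⁻¹ := Iff.rfl

theorem preM_le_normalizerIn {P₀ : Subgroup Ω} (M : Subgroup (MulAut P₀)) :
    preM S P₀ M ≤ normalizerIn S P₀ := fun g hg => by
  obtain ⟨hgS, m, -, hme⟩ := hg
  exact ⟨hgS, mem_normalizer_of_conj_aut hme⟩

/-- The data: a normal subgroup `M` of the automizer whose preimage properly contains `P₀`. -/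
structure Datum (F : FusionSystem S) (p : ℕ) (P₀ : Subgroup Ω) (M : Subgroup (MulAut P₀)) :
    Prop where
  le_S : P₀ ≤ S
  le_aut : M ≤ F.autGroup P₀
  normal : ∀ α ∈ F.autGroup P₀, ∀ m ∈ M, α * m * α⁻¹ ∈ M
  inn_le : Inn P₀ ≤ M
  small : (IsPGroup p M ∧ ∀ Q, F.IsConj P₀ Q → centralizerIn S Q ≤ Q) ∨ M ≤ Inn P₀
  lt_pre : P₀ < preM S P₀ M

theorem Datum.invariant {p : ℕ} {P₀ : Subgroup Ω} {M : Subgroup (MulAut P₀)}
    (d : Datum F p P₀ M) {N : Subgroup Ω} {f : Ω → Ω} (hf : IsMap F N f) (hPN : P₀ ≤ N)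
    (hfP : fimg f P₀ = P₀) {g : Ω} (hg : g ∈ N) (hgR : g ∈ preM S P₀ M) :
    f g ∈ preM S P₀ M := by
  obtain ⟨-, m, hm, hme⟩ := hgR
  obtain ⟨γ, hγ, hγe⟩ := (hf.res hPN).exists_aut hfP
  refine ⟨hf.apply_mem hg, γ * m * γ⁻¹, d.normal γ hγ m hm, fun y => ?_⟩
  obtain ⟨x, rfl⟩ := γ.surjective y
  have h1 : ((γ * m * γ⁻¹) (γ x) : Ω) = f (m x : Ω) := by
    rw [MulAut.mul_apply, MulAut.mul_apply, MulAut.inv_apply_self, ← autFun_coe γ, hγe _ (m x).2]
  rw [h1, hme, hf.map_conj hg (hPN x.2), ← hγe _ x.2, autFun_coe]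

theorem Datum.fimg_pre {p : ℕ} [Finite S] {P₀ : Subgroup Ω} {M : Subgroup (MulAut P₀)}
    (d : Datum F p P₀ M) {N : Subgroup Ω} {f : Ω → Ω} (hf : IsMap F N f)
    (hRN : preM S P₀ M ≤ N) (hfP : fimg f P₀ = P₀) : fimg f (preM S P₀ M) = preM S P₀ M := by
  haveI := finite_of_le ((preM_le_normalizerIn M).trans inf_le_left : preM S P₀ M ≤ S)
  exact Subgroup.eq_of_le_of_card_ge
    (fimg_le fun g hg => d.invariant hf (d.lt_pre.le.trans hRN) hfP (hRN hg) hg)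
    (hf.res hRN).card_fimg.ge

/-- An element of `N_S(P₀)` normalizes the preimage of `M`. -/
theorem Datum.conj_fimg {p : ℕ} [Finite S] {P₀ : Subgroup Ω} {M : Subgroup (MulAut P₀)}
    (d : Datum F p P₀ M) {n : Ω} (hn : n ∈ normalizerIn S P₀) :
    fimg (fun x => n * x * n⁻¹) (preM S P₀ M) = preM S P₀ M ∧
      fimg (fun x => n * x * n⁻¹) P₀ = P₀ := by
  have hP : fimg (fun x => n * x * n⁻¹) P₀ = P₀ := by
    refine le_antisymm (fimg_le fun x hx => (Subgroup.mem_normalizer_iff.1 hn.2 x).1 hx) fun x hx => ?_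
    rw [mem_fimg_conj]
    exact (Subgroup.mem_normalizer_iff''.1 hn.2 x).1 hx
  exact ⟨d.fimg_pre (isMap_conj F inf_le_left hn.1) (preM_le_normalizerIn M) hP, hP⟩

theorem Datum.normalizer_pre {p : ℕ} [Finite S] {P₀ : Subgroup Ω} {M : Subgroup (MulAut P₀)}
    (d : Datum F p P₀ M) :
    normalizerIn (normalizerIn S P₀) (preM S P₀ M) = normalizerIn S P₀ := by
  refine le_antisymm inf_le_left fun n hn => ⟨hn, mem_normalizer_of_forall (fun x hx => ?_)
    fun x hx => ?_⟩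
  · exact (d.conj_fimg hn).1 ▸ apply_mem_fimg (fun x => n * x * n⁻¹) hx
  · have h1 := (d.conj_fimg (inv_mem hn)).1 ▸ apply_mem_fimg (fun x => n⁻¹ * x * n⁻¹⁻¹) hx
    rwa [inv_inv] at h1

/-- A function agrees on `P₀` with a map on the preimage of `M`. -/
def Ext (F : FusionSystem S) (P₀ : Subgroup Ω) (M : Subgroup (MulAut P₀)) (f : Ω → Ω) : Prop :=
  ∃ f', IsMap F (preM S P₀ M) f' ∧ fimg f' (preM S P₀ M) = preM S P₀ M ∧ fimg f' P₀ = P₀ ∧
    ∀ x ∈ P₀, f' x = f x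

theorem Ext.congr {P₀ : Subgroup Ω} {M : Subgroup (MulAut P₀)} {f g : Ω → Ω} (h : Ext F P₀ M f)
    (e : ∀ x ∈ P₀, f x = g x) : Ext F P₀ M g :=
  let ⟨f', h1, h2, h3, h4⟩ := h; ⟨f', h1, h2, h3, fun x hx => (h4 x hx).trans (e x hx)⟩

theorem Ext.apply_mem {P₀ : Subgroup Ω} {M : Subgroup (MulAut P₀)} {f : Ω → Ω} (h : Ext F P₀ M f)
    {x : Ω} (hx : x ∈ P₀) : f x ∈ P₀ := by
  obtain ⟨f', -, -, h3, h4⟩ := h
  rw [← h4 x hx, ← h3]
  exact apply_mem_fimg f' hx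

theorem Ext.comp {P₀ : Subgroup Ω} {M : Subgroup (MulAut P₀)} {f g : Ω → Ω}
    (hle : P₀ ≤ preM S P₀ M) (hf : Ext F P₀ M f) (hg : Ext F P₀ M g) :
    Ext F P₀ M (fun x => g (f x)) := by
  obtain ⟨f', h1, h2, h3, h4⟩ := hf
  obtain ⟨g', k1, k2, k3, k4⟩ := hg
  refine ⟨fun x => g' (f' x), h1.comp k1 fun x hx => h2 ▸ apply_mem_fimg f' hx, ?_, ?_,
    fun x hx => ?_⟩
  · rw [h1.fimg_comp, h2, k2]
  · rw [(h1.res hle).fimg_comp, h3, k3]
  · show g' (f' x) = g (f x)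
    rw [k4 _ (h3 ▸ apply_mem_fimg f' hx), h4 x hx]

theorem Ext.exists_inv {P₀ : Subgroup Ω} {M : Subgroup (MulAut P₀)} {f : Ω → Ω}
    (hle : P₀ ≤ preM S P₀ M) (hf : Ext F P₀ M f) :
    ∃ g, Ext F P₀ M g ∧ ∀ x ∈ P₀, g (f x) = x := by
  obtain ⟨f', h1, h2, h3, h4⟩ := hf
  obtain ⟨g, hg, hg1, -, hg3⟩ := h1.exists_inv
  rw [h2] at hg hg3
  refine ⟨g, ⟨g, hg, hg3, ?_, fun x _ => rfl⟩, fun x hx => by rw [← h4 x hx, hg1 x (hle hx)]⟩
  rw [← h3, ← (h1.res hle).fimg_comp, h3]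
  exact (fimg_congr fun x hx => hg1 x (hle hx)).trans (fimg_id P₀)

theorem Datum.ext_conj {p : ℕ} [Finite S] {P₀ : Subgroup Ω} {M : Subgroup (MulAut P₀)}
    (d : Datum F p P₀ M) {n : Ω} (hn : n ∈ normalizerIn S P₀) :
    Ext F P₀ M (fun x => n * x * n⁻¹) :=
  ⟨_, isMap_conj F ((preM_le_normalizerIn M).trans inf_le_left) hn.1, (d.conj_fimg hn).1,
    (d.conj_fimg hn).2, fun _ _ => rfl⟩

variable {p : ℕ} [Fact p.Prime] [Finite S]

/-- The residual automorphism of a good subgroup extends. -/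
theorem ext_delta (hS : IsPGroup p S) {P₀ : Subgroup Ω} {M : Subgroup (MulAut P₀)}
    (d : Datum F p P₀ M) {R P : Subgroup Ω} (hr : F.IsReceptive R) (hsy : SylowAt F p R P)
    (hPR : P ≤ R) (hRN : R ≤ normalizerIn S P) (hPc : F.IsConj P₀ P) {ψ : Ω → Ω}
    (hψ : IsMap F (normalizerIn S P) ψ) (hψP : fimg ψ P = P₀) {g₀ : Ω}
    (hg₀ : g₀ ∈ normalizerIn (normalizerIn S P) R) (hg₀R : g₀ ∉ R)
    (hg₀M : ψ g₀ ∈ preM S P₀ M)
    (hK : ∀ X f, IsMap F X f → P₀ < X → X ≤ normalizerIn S P₀ → fimg f P₀ = P₀ →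
      Nat.card R < Nat.card X → Ext F P₀ M f)
    {δ : MulAut R} (hδ : δ ∈ stabSub F R P) {ε : Ω → Ω}
    (hε : ∀ x ∈ P, ε (ψ x) = ψ (autFun δ x)) : Ext F P₀ M ε := by
  have hRS := hr.1
  have hPS := hPR.trans hRS
  have hPN := le_normalizerIn (S := S) hPS
  haveI := finite_of_le hRS
  haveI := finite_of_le d.le_S
  haveI := finite_of_le hPS
  obtain ⟨ρ, hρ⟩ := exists_rho hPR hRS (hψ.res hPN) hψP
  obtain ⟨T, hT⟩ := hsy.exists_sylow hS hRS
  haveI : (M.subgroupOf (F.autGroup P₀)).Normal :=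
    ⟨fun m hm a => d.normal a a.2 m hm⟩
  set K := (M.subgroupOf (F.autGroup P₀)).comap ρ with hKdef
  haveI : K.Normal := Subgroup.Normal.comap inferInstance ρ
  let TK : Sylow p K := (T.2.comap_subtype (K := K)).toSylow (Grp.sylow_inf_normal_relIndex T K)
  have hmap : (TK : Subgroup K).map K.subtype = (T : Subgroup (stabSub F R P)) ⊓ K :=
    Subgroup.subgroupOf_map_subtype _ _
  have hF := TK.normalizer_sup_eq_top
  rw [hmap] at hF
  obtain ⟨ν, hν, κ, hκ, hνκ⟩ := Subgroup.mem_sup_of_normal_right.1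
    (hF.ge (mem_top (⟨δ, hδ⟩ : stabSub F R P)))
  have hκe : Ext F P₀ M (autFun (ρ κ : MulAut P₀)) := by
    rcases d.small with ⟨hMp, hcent⟩ | hMinn
    · have hKp : IsPGroup p K := by
        intro k
        obtain ⟨i, hi⟩ := hMp ⟨_, k.2⟩
        obtain ⟨n, hn⟩ := (hS.to_le hPS).exists_card_eq
        have hρk : ρ ((k : stabSub F R P) ^ p ^ i) = 1 := by
          rw [map_pow]
          exact Subtype.ext ((SubmonoidClass.coe_pow _ _).trans (congrArg Subtype.val hi))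
        refine ⟨i + n, Subtype.ext (Subtype.ext ?_)⟩
        rw [SubmonoidClass.coe_pow, SubmonoidClass.coe_pow, pow_add, pow_mul, ← hn]
        refine pow_card_eq_one_of_fix hPR hRS (fun x hx => (hRN hx).2) (hcent P hPc) fun x hx => ?_
        have h1 := hρ ((k : stabSub F R P) ^ p ^ i) x hx
        rw [hρk, OneMemClass.coe_one, autFun_one (hψP ▸ apply_mem_fimg ψ hx), autFun_coe] at h1
        refine Subtype.ext (hψ.injOn (hPN (((k : stabSub F R P) ^ p ^ i).2.2 x |>.2 hx)) (hPN hx) ?_)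
        rw [← SubmonoidClass.coe_pow]
        exact h1.symm
      have hκT : κ ∈ (T : Subgroup (stabSub F R P)) := hKp.le_sylow_of_normal T hκ
      rw [hT] at hκT
      obtain ⟨n, hn, hne⟩ := mem_autInducedBy.1 hκT
      have hne : ∀ x : R, (((κ : MulAut R) x : R) : Ω) = n * x * n⁻¹ := hne
      have hnN : n ∈ normalizerIn S P := mem_normalizerIn_of_stab hPR hn κ.2.2 hne
      have hψn : ψ n ∈ normalizerIn S P₀ := hψP ▸ hψ.map_normalizerIn hPN hnN hnN.2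
      refine (d.ext_conj hψn).congr fun y hy => ?_
      rw [← hψP] at hy
      obtain ⟨x, hx, rfl⟩ := (hψ.res hPN).mem_fimg_iff.1 hy
      rw [hρ κ x hx, show autFun (κ : MulAut R) x = (((κ : MulAut R) ⟨x, hPR hx⟩ : R) : Ω) from
        autFun_coe _ ⟨x, hPR hx⟩, hne, hψ.map_conj hnN (hPN hx)]
    · obtain ⟨y, hy⟩ := hMinn hκ
      refine (d.ext_conj (le_normalizerIn d.le_S y.2)).congr fun z hz => ?_
      have := congrArg (fun α : MulAut P₀ => ((α ⟨z, hz⟩ : P₀) : Ω)) hy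
      exact this.trans (autFun_coe (ρ κ : MulAut P₀) ⟨z, hz⟩).symm
  have hνe : Ext F P₀ M (autFun (ρ ν : MulAut P₀)) := by
    set N := R ⊔ Subgroup.zpowers g₀
    have hNle : N ≤ normalizerIn (normalizerIn S P) R :=
      sup_le (le_inf hRN Subgroup.le_normalizer) (zpowers_le.2 hg₀)
    have hνm : IsMap F R (autFun (ν : MulAut R)) := (mem_autGroup hRS).1 ν.2.1
    obtain ⟨φ, hφ, hφe⟩ := hνm.exists_hom
    have hφ' : ∀ x ∈ R, toFun φ x = autFun (ν : MulAut R) x := fun x hx =>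
      (toFun_apply φ hx).trans (hφe ⟨x, hx⟩)
    have hNext : N ≤ extender S R φ := by
      refine sup_le (le_extender hφ) (zpowers_le.2 ?_)
      let c₀ : MulAut R := R.normalizerMonoidHom ⟨g₀, hg₀.2⟩
      have hc₀ := conj_mem_stab (F := F) (ξ := c₀) hRS hg₀.1.1 hg₀.1.2 fun x => rfl
      obtain ⟨-, m, hm, hme⟩ := hg₀M
      have hρc : (ρ ⟨c₀, hc₀.1⟩ : MulAut P₀) = m := mulAut_ext fun y hy => by
        rw [← hψP] at hy
        obtain ⟨x, hx, rfl⟩ := (hψ.res hPN).mem_fimg_iff.1 hy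
        rw [hρ ⟨c₀, hc₀.1⟩ x hx,
          show autFun m (ψ x) = ((m ⟨ψ x, hψP ▸ apply_mem_fimg ψ hx⟩ : P₀) : Ω) from
            autFun_coe m ⟨_, _⟩, hme,
          show autFun c₀ x = g₀ * x * g₀⁻¹ from autFun_coe c₀ ⟨x, hPR hx⟩,
          hψ.map_conj hg₀.1 (hPN hx)]
      have hc₀TK : (⟨c₀, hc₀.1⟩ : stabSub F R P) ∈ (T : Subgroup (stabSub F R P)) ⊓ K := by
        refine ⟨by rw [hT]; exact hc₀.2, ?_⟩
        show (ρ ⟨c₀, hc₀.1⟩ : MulAut P₀) ∈ M
        rw [hρc]; exact hm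
      have h1 := ((Subgroup.mem_normalizer_iff.1 hν _).1 hc₀TK).1
      rw [hT] at h1
      obtain ⟨k, hk, hke⟩ := exists_conj_transfer (χ := (ν : MulAut R)) (c := c₀) hg₀.2
        (fun x => rfl) h1
      refine mem_extender.2 ⟨hg₀.1.1, hg₀.2, k, hk, fun x hx => ?_⟩
      rw [hφ' x hx, hφ' _ ((Subgroup.mem_normalizer_iff.1 hg₀.2 x).1 hx)]
      exact hke x hx
    obtain ⟨θ, hθ, hθe⟩ := receptive_extend hr hνm (fimg_autFun _) (N := N) (fun g hg => by
      obtain ⟨h1, h2, k, hk, hke⟩ := mem_extender.1 (hNext hg)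
      refine ⟨⟨h1, h2⟩, k, hk, fun x hx => ?_⟩
      rw [← hφ' x hx, ← hφ' _ ((Subgroup.mem_normalizer_iff.1 h2 x).1 hx)]
      exact hke x hx) le_sup_left
    have hθP : fimg θ P = P := by
      rw [fimg_congr fun x hx => hθe x (hPR hx)]
      exact ν.2.2.fimg_eq hPR hPR
    have hPNN : P ≤ N := hPR.trans le_sup_left
    have hNN : N ≤ normalizerIn S P := hNle.trans inf_le_left
    have hθN : ∀ g ∈ N, θ g ∈ normalizerIn S P := fun g hg =>
      hθP ▸ hθ.map_normalizerIn hPNN hg (hNN hg).2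
    obtain ⟨ψ', hψ', hψ1, hψ2, -⟩ := (hψ.res hNN).exists_inv
    have hw : IsMap F (fimg ψ N) (fun y => ψ (θ (ψ' y))) :=
      (hψ'.comp hθ fun y hy => (hψ2 y hy).1).comp hψ fun y hy => hθN _ (hψ2 y hy).1
    haveI : Finite ↥N := finite_of_le hθ.source_le
    have hRlt : Nat.card R < Nat.card N :=
      card_lt_of_lt (left_lt_sup.2 fun h => hg₀R (h (mem_zpowers g₀)))
    have hcard : Nat.card R < Nat.card (fimg ψ N) := by
      rw [(hψ.res hNN).card_fimg]; exact hRlt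
    have hwP : fimg (fun y => ψ (θ (ψ' y))) P₀ = P₀ := by
      conv_lhs => rw [← hψP, ← (hψ.res hPN).fimg_comp]
      rw [fimg_congr fun x hx => show ψ (θ (ψ' (ψ x))) = ψ (θ x) by rw [hψ1 x (hPNN hx)],
        (hθ.res hPNN).fimg_comp, hθP, hψP]
    have hsub : fimg ψ N ≤ normalizerIn S P₀ :=
      hψP ▸ fimg_le fun g hg => hψ.map_normalizerIn hPN (hNN hg) (hNN hg).2
    refine (hK _ _ hw (lt_of_le_of_ne (hψP ▸ fimg_mono ψ hPNN) fun e => ?_) hsub hwP hcard).congr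
      fun y hy => ?_
    · rw [← e, ← isConj_card hPc] at hcard
      have := Subgroup.card_le_of_le hPR
      omega
    · rw [← hψP] at hy
      obtain ⟨x, hx, rfl⟩ := (hψ.res hPN).mem_fimg_iff.1 hy
      show ψ (θ (ψ' (ψ x))) = _
      rw [hψ1 x (hPNN hx), hθe x (hPR hx), hρ ν x hx]
  refine (Ext.comp d.lt_pre.le hκe hνe).congr fun y hy => ?_
  rw [← hψP] at hy
  obtain ⟨x, hx, rfl⟩ := (hψ.res hPN).mem_fimg_iff.1 hy
  show autFun (ρ ν : MulAut P₀) (autFun (ρ κ : MulAut P₀) (ψ x)) = ε (ψ x)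
  rw [← autFun_mul _ _ (hψP ▸ apply_mem_fimg ψ hx : ψ x ∈ P₀), ← Subgroup.coe_mul, ← map_mul,
    hνκ, hρ _ x hx, hε x hx]

/-- Every map of `P₀` that extends to a larger subgroup extends to the preimage of `M`. -/
theorem ext_of_larger (hS : IsPGroup p S) {P₀ : Subgroup Ω} {M : Subgroup (MulAut P₀)}
    (d : Datum F p P₀ M) (hgood : LargerGood F p P₀)
    (htr : ∀ Q, F.IsConj P₀ Q → Up F Q P₀)
    {X : Subgroup Ω} {f : Ω → Ω} (hf : IsMap F X f) (hX : P₀ < X) (hXN : X ≤ normalizerIn S P₀)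
    (hfP : fimg f P₀ = P₀) : Ext F P₀ M f := by
  induction hn : Nat.card S - Nat.card X using Nat.strong_induction_on generalizing X f with
  | _ n ih =>
    have hXS := hf.source_le
    haveI := finite_of_le hXS
    haveI : Finite ↥(normalizerIn S P₀) := finite_of_le (S := S) inf_le_left
    by_cases hR₁ : preM S P₀ M ≤ X
    · exact ⟨f, hf.res hR₁, d.fimg_pre hf hR₁ hfP, hfP, fun _ _ => rfl⟩
    have hP₀c : F.IsConj P₀ P₀ := isConj_refl F d.le_S
    have hlt : X < normalizerIn S P₀ :=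
      lt_of_le_of_ne hXN fun e => hR₁ (e ▸ preM_le_normalizerIn M)
    have hfN : fimg f X ≤ normalizerIn S P₀ :=
      hfP ▸ fimg_le fun x hx => hf.map_normalizerIn hX.le hx (hXN hx).2
    have hlt' : fimg f X < normalizerIn S P₀ := lt_of_le_of_ne hfN fun e => by
      have h1 := hf.card_fimg
      rw [e] at h1
      exact absurd h1 (card_lt_of_lt hlt).ne'
    obtain ⟨R', hXR', ha', hr'⟩ := hgood.get hP₀c hX hXS
    obtain ⟨a, b, h, hma, hmb, haX, hbX, hsy, hh, hhP, hhR, ξ, hξ, hξe⟩ :=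
      exists_split hS hf hX.le hXN hXR' ha' hr'
    rw [hfP] at hmb hsy hhP hξ
    have ih' : ∀ Y g, IsMap F Y g → P₀ < Y → Y ≤ normalizerIn S P₀ → fimg g P₀ = P₀ →
        Nat.card X < Nat.card Y → Ext F P₀ M g := fun Y g h1 h2 h3 h4 h5 => by
      have := Subgroup.card_le_of_le h1.source_le
      exact ih _ (by omega) h1 h2 h3 h4 rfl
    set Na := normalizerIn (normalizerIn S P₀) X
    set Nb := normalizerIn (normalizerIn S P₀) (fimg f X)
    have hXa : X ≤ Na := le_inf hXN Subgroup.le_normalizer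
    have hXb : fimg f X ≤ Nb := le_inf hfN Subgroup.le_normalizer
    have hca : Nat.card X < Nat.card Na := card_lt_chain hS hlt
    have hcb : Nat.card X < Nat.card Nb := by
      rw [← hf.card_fimg]; exact card_lt_chain hS hlt'
    have hP₀X' : P₀ ≤ fimg f X := hfP ▸ fimg_mono f hX.le
    set Pc := fimg a P₀
    set Pd := fimg b P₀
    have hPc : F.IsConj P₀ Pc := (hma.res (hX.le.trans hXa)).isConj
    have hPd : F.IsConj P₀ Pd := (hmb.res (hP₀X'.trans hXb)).isConj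
    obtain ⟨ψc, hψc, hψcP⟩ := htr Pc hPc
    obtain ⟨ψd, hψd, hψdP⟩ := htr Pd hPd
    have hNaPc : ∀ x ∈ Na, a x ∈ normalizerIn S Pc := fun x hx =>
      hma.map_normalizerIn (hX.le.trans hXa) hx hx.1.2
    have hNbPd : ∀ x ∈ Nb, b x ∈ normalizerIn S Pd := fun x hx =>
      hmb.map_normalizerIn (hP₀X'.trans hXb) hx hx.1.2
    haveI : Finite ↥Na := finite_of_le hma.source_le
    haveI : Finite ↥Nb := finite_of_le hmb.source_le
    have hA : Ext F P₀ M (fun x => ψc (a x)) := by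
      refine ih' Na _ (hma.comp hψc hNaPc) (hX.trans_le hXa) inf_le_left ?_ hca
      rw [(hma.res (hX.le.trans hXa)).fimg_comp, hψcP]
    have hB : Ext F P₀ M (fun x => ψd (b x)) := by
      refine ih' Nb _ (hmb.comp hψd hNbPd) (lt_of_le_of_ne (hP₀X'.trans hXb) fun e => ?_)
        inf_le_left ?_ hcb
      · rw [← e] at hcb
        exact absurd hcb (card_lt_of_lt hX).not_gt
      · rw [(hmb.res (hP₀X'.trans hXb)).fimg_comp, hψdP]
    set Nc := normalizerIn (normalizerIn S Pc) R'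
    have hXc : fimg a Na ≤ Nc := by
      have := fimg_chain_le hma hX.le hXN
      rw [haX] at this
      exact this
    have hPcR' : Pc ≤ R' := haX ▸ fimg_mono a hX.le
    have hPdR' : Pd ≤ R' := hbX ▸ fimg_mono b hP₀X'
    have hR'c : R' ≤ Nc := le_trans (haX ▸ fimg_mono a hXa) hXc
    haveI : Finite ↥Nc := finite_of_le hh.source_le
    have hcc : Nat.card X < Nat.card Nc := by
      have := Subgroup.card_le_of_le hXc
      rw [hma.card_fimg] at this
      omega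
    have hPcN : Pc ≤ Nc := hPcR'.trans hR'c
    have hNcPd : ∀ x ∈ Nc, h x ∈ normalizerIn S Pd := fun x hx =>
      hhP ▸ hh.map_normalizerIn hPcN hx hx.1.2
    have hNcle : Nc ≤ normalizerIn S Pc := inf_le_left
    obtain ⟨ψc', hψc', hψc1, hψc2, -⟩ := (hψc.res hNcle).exists_inv
    have hPcS : Pc ≤ normalizerIn S Pc := le_normalizerIn (isConj_le_right hPc)
    have hβ : Ext F P₀ M (fun y => ψd (h (ψc' y))) := by
      refine ih' (fimg ψc Nc) _ ((hψc'.comp hh fun y hy => (hψc2 y hy).1).comp hψd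
        fun y hy => hNcPd _ (hψc2 y hy).1) ?_ ?_ ?_ ?_
      · refine lt_of_le_of_ne (hψcP ▸ fimg_mono ψc hPcN) fun e => ?_
        have h1 := (hψc.res hNcle).card_fimg
        rw [← e] at h1
        have h2 := card_lt_of_lt hX
        omega
      · exact hψcP ▸ fimg_le fun x hx => hψc.map_normalizerIn hPcS (hNcle hx) hx.1.2
      · conv_lhs => rw [← hψcP, ← (hψc.res hPcS).fimg_comp]
        rw [fimg_congr fun x hx => show ψd (h (ψc' (ψc x))) = ψd (h x) by rw [hψc1 x (hPcN hx)],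
          (hh.res hPcN).fimg_comp, hhP, hψdP]
      · rw [(hψc.res hNcle).card_fimg]
        exact hcc
    -- an element of the preimage outside `X`
    haveI : Finite ↥(X ⊔ preM S P₀ M) :=
      finite_of_le (sup_le hXS ((preM_le_normalizerIn M).trans inf_le_left))
    obtain ⟨g₀, hg₀N, hg₀M, hg₀X⟩ : ∃ g, g ∈ Na ∧ g ∈ preM S P₀ M ∧ g ∉ X := by
      have hXlt : X < X ⊔ preM S P₀ M := left_lt_sup.2 hR₁
      obtain ⟨g, hg, hgX⟩ := SetLike.lt_iff_le_and_exists.1 (lt_normalizerIn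
        (hS.to_le (sup_le hXS ((preM_le_normalizerIn M).trans inf_le_left))) hXlt) |>.2
      have hXn : X ≤ Subgroup.normalizer (preM S P₀ M : Set Ω) := fun x hx => by
        have := hXN hx
        rw [← d.normalizer_pre] at this
        exact this.2
      obtain ⟨x, hx, r, hr, rfl⟩ :
          g ∈ ((X : Set Ω) * (preM S P₀ M : Set Ω) : Set Ω) := by
        rw [← Subgroup.coe_mul_of_left_le_normalizer_right X (preM S P₀ M) hXn]
        exact hg.1
      refine ⟨r, ⟨preM_le_normalizerIn M hr, ?_⟩, hr, fun h => hgX (mul_mem hx h)⟩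
      have h1 := Subgroup.mul_mem _ (Subgroup.inv_mem _ (Subgroup.le_normalizer hx)) hg.2
      rwa [inv_mul_cancel_left] at h1
    have hag : a g₀ ∈ Nc := hXc (apply_mem_fimg a hg₀N)
    have hagR : a g₀ ∉ R' := fun hc => by
      rw [← haX] at hc
      obtain ⟨x, hx, hxe⟩ := (hma.res hXa).mem_fimg_iff.1 hc
      exact hg₀X (hma.injOn (hXa hx) hg₀N hxe ▸ hx)
    have hgd : h (a g₀) ∈ normalizerIn (normalizerIn S Pd) R' :=
      ⟨hNcPd _ hag, (hhR ▸ hh.map_normalizerIn hR'c hag hag.2).2⟩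
    have hgdR : h (a g₀) ∉ R' := fun hc => by
      rw [← hhR] at hc
      obtain ⟨x, hx, hxe⟩ := (hh.res hR'c).mem_fimg_iff.1 hc
      exact hagR (hh.injOn (hR'c hx) hag hxe ▸ hx)
    have hW : IsMap F Na (fun x => ψd (h (a x))) :=
      (hma.comp hh fun x hx => hXc (apply_mem_fimg a hx)).comp hψd fun x hx =>
        hNcPd _ (hXc (apply_mem_fimg a hx))
    have hgdM : ψd (h (a g₀)) ∈ preM S P₀ M := by
      refine d.invariant hW (hX.le.trans hXa) ?_ hg₀N hg₀M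
      refine ((hma.res (hX.le.trans hXa)).fimg_comp (fun y => ψd (h y))).trans ?_
      rw [(hh.res hPcN).fimg_comp, hhP, hψdP]
    have hcardR : Nat.card R' = Nat.card X := isConj_card hXR'
    obtain ⟨ρ, hρ⟩ := exists_rho hPdR' hr'.1 (hψd.res (le_normalizerIn (isConj_le_right hPd))) hψdP
    have hR'd : R' ≤ normalizerIn S Pd := hhR ▸ fimg_le fun x hx => hNcPd x (hR'c hx)
    have hε : Ext F P₀ M (autFun (ρ ⟨ξ⁻¹, inv_mem hξ⟩ : MulAut P₀)) :=
      ext_delta hS d hr' hsy hPdR' hR'd hPd hψd hψdP hgd hgdR hgdM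
        (fun Y g h1 h2 h3 h4 h5 => ih' Y g h1 h2 h3 h4 (by omega)) (inv_mem hξ)
        fun x hx => hρ ⟨ξ⁻¹, inv_mem hξ⟩ x hx
    have hle := d.lt_pre.le
    obtain ⟨v, hv, hve⟩ := Ext.exists_inv hle hB
    refine ((((hA.comp hle hβ).comp hle hε).comp hle hv).congr fun x hx => ?_)
    have hfx : f x ∈ P₀ := hfP ▸ apply_mem_fimg f hx
    have hbfx : b (f x) ∈ Pd := apply_mem_fimg b hfx
    have hax : a x ∈ Pc := apply_mem_fimg a hx
    have h1 : autFun (ξ⁻¹ : MulAut R') (h (a x)) = b (f x) := by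
      rw [← hξe x (hX.le hx), autFun_inv_apply ξ (hPdR' hbfx)]
    show v (autFun (ρ ⟨ξ⁻¹, inv_mem hξ⟩ : MulAut P₀) (ψd (h (ψc' (ψc (a x)))))) = f x
    rw [hψc1 _ (hPcN hax), hρ _ _ (hhP ▸ apply_mem_fimg h hax), h1, hve _ hfx]

end Cfsg.Agent.Fus.SatCrit
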