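import Mathlib
import Cfsg.Agent.Lib.Fus.SatCriterionExt
import Cfsg.Agent.Lib.Fus.Alperin

/-!
A system generated by a saturated family containing enough centric subgroups is saturated.
-/

set_option autoImplicit false
set_option linter.style.haveILetI false
set_option linter.unusedSectionVars false

open scoped Classical Pointwise

universe u

namespace Cfsg.Agent.Fus.SatCrit

open Subgroup FusionSystem

variable {Ω : Type u} [Group Ω] {S : Subgroup Ω} {F : FusionSystem S} {p : ℕ} [Fact p.Prime]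
  [Finite S]

/-- With all automorphisms extending, `P₀` is fully automized and receptive. -/
theorem good_of_ext (hS : IsPGroup p S) {P₀ : Subgroup Ω} {M : Subgroup (MulAut P₀)}
    (d : Datum F p P₀ M) (hn : F.IsFullyNormalized P₀) (hgood : LargerGood F p P₀)
    (htr : ∀ Q, F.IsConj P₀ Q → Up F Q P₀)
    (hext : ∀ α ∈ F.autGroup P₀, Ext F P₀ M (autFun α)) :
    F.IsFullyAutomized p P₀ ∧ F.IsReceptive P₀ := by
  have hP₀S := d.le_S
  haveI := finite_of_le hP₀S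
  set R₁ := preM S P₀ M
  have hR₁N : R₁ ≤ normalizerIn S P₀ := preM_le_normalizerIn M
  have hR₁S : R₁ ≤ S := hR₁N.trans inf_le_left
  haveI := finite_of_le hR₁S
  have hle : P₀ ≤ R₁ := d.lt_pre.le
  obtain ⟨R', hRR', ha', hr'⟩ := hgood.get (isConj_refl F hP₀S) d.lt_pre hR₁S
  obtain ⟨a, hma, haR, hsy⟩ := exists_good_map hS ha' hr' hle hR₁N hRR'
  rw [d.normalizer_pre] at hma
  have hR'S := hr'.1
  haveI := finite_of_le hR'S
  set Pc := fimg a P₀
  have hPN := le_normalizerIn (S := S) hP₀S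
  have hPcR : Pc ≤ R' := haR ▸ fimg_mono a hle
  have hPc : F.IsConj P₀ Pc := (hma.res hPN).isConj
  have haN : ∀ x ∈ normalizerIn S P₀, a x ∈ normalizerIn S Pc := fun x hx =>
    hma.map_normalizerIn hPN hx hx.2
  have hsurjN : fimg a (normalizerIn S P₀) = normalizerIn S Pc := by
    haveI : Finite ↥(normalizerIn S Pc) := finite_of_le (S := S) inf_le_left
    exact Subgroup.eq_of_le_of_card_ge (fimg_le haN) (hma.card_fimg.symm ▸ hn.2 Pc hPc)
  have hR'N : R' ≤ normalizerIn S Pc := hsurjN ▸ haR ▸ fimg_mono a hR₁N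
  obtain ⟨a', ha'm, ha1, ha2, ha3⟩ := hma.exists_inv
  rw [hsurjN] at ha'm ha2 ha3
  have ha'P : fimg a' Pc = P₀ := by
    rw [← (hma.res hPN).fimg_comp]
    exact (fimg_congr fun x hx => ha1 x (hPN hx)).trans (fimg_id P₀)
  have hPcN : Pc ≤ normalizerIn S Pc := hPcR.trans hR'N
  obtain ⟨ρ, hρ⟩ := exists_rho hPcR hR'S (ha'm.res hPcN) ha'P
  obtain ⟨T, hT⟩ := hsy.exists_sylow hS hR'S
  -- conjugations by the normalizer
  have hconj : ∀ n ∈ normalizerIn S P₀, ∃ c : stabSub F R' Pc,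
      c ∈ (T : Subgroup (stabSub F R' Pc)) ∧
        (∀ x : R', ((c : MulAut R') x : Ω) = a n * x * (a n)⁻¹) ∧
        ∀ x : P₀, ((ρ c : MulAut P₀) x : Ω) = n * x * n⁻¹ := by
    intro n hn'
    have hanP := haN n hn'
    have hanR : a n ∈ Subgroup.normalizer (R' : Set Ω) := by
      have h1 : n ∈ normalizerIn (normalizerIn S P₀) R₁ := d.normalizer_pre.symm ▸ hn'
      exact (haR ▸ hma.map_normalizerIn hR₁N hn' h1.2).2
    have hc := conj_mem_stab (F := F) (ξ := R'.normalizerMonoidHom ⟨a n, hanR⟩) hR'S hanP.1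
      hanP.2 fun x => rfl
    refine ⟨⟨_, hc.1⟩, by rw [hT]; exact hc.2, fun x => rfl, fun x => ?_⟩
    have hax : a x ∈ Pc := apply_mem_fimg a x.2
    have h1 := hρ ⟨_, hc.1⟩ (a x) hax
    rw [ha1 _ (hPN x.2), autFun_coe] at h1
    rw [h1, show autFun (R'.normalizerMonoidHom ⟨a n, hanR⟩) (a x) = a n * a x * (a n)⁻¹ from
      autFun_coe _ ⟨a x, hPcR hax⟩, ← hma.map_conj hn' (hPN x.2)]
    exact ha1 _ (Subgroup.mul_mem _ (Subgroup.mul_mem _ hn' (hPN x.2)) (Subgroup.inv_mem _ hn'))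
  have himg : ∀ t ∈ (T : Subgroup (stabSub F R' Pc)),
      ∃ n ∈ normalizerIn S P₀, (∀ x : R', ((t : MulAut R') x : Ω) = a n * x * (a n)⁻¹) ∧
        ∀ x : P₀, ((ρ t : MulAut P₀) x : Ω) = n * x * n⁻¹ := by
    intro t ht
    rw [hT] at ht
    obtain ⟨k, hk, hke⟩ := mem_autInducedBy.1 ht
    have hkN : k ∈ fimg a (normalizerIn S P₀) :=
      hsurjN ▸ mem_normalizerIn_of_stab hPcR hk t.2.2 hke
    obtain ⟨n, hn', rfl⟩ := hma.mem_fimg_iff.1 hkN
    obtain ⟨c, -, hc, hcP⟩ := hconj n hn'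
    have : c = t := Subtype.ext (MulEquiv.ext fun x => Subtype.ext ((hc x).trans (hke x).symm))
    exact ⟨n, hn', hke, this ▸ hcP⟩
  have hsurj : Function.Surjective ρ := by
    rintro ⟨α, hα⟩
    obtain ⟨f', hf', hf1, hf2, hf3⟩ := hext α hα
    have hf1 : fimg f' R₁ = R₁ := hf1
    have hf'N : ∀ x ∈ R₁, f' x ∈ normalizerIn S P₀ := fun x hx =>
      hR₁N (hf1 ▸ apply_mem_fimg f' hx)
    have ha'R : ∀ y ∈ R', a' y ∈ R₁ := fun y hy => by
      rw [← haR] at hy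
      obtain ⟨x, hx, rfl⟩ := (hma.res hR₁N).mem_fimg_iff.1 hy
      rwa [ha1 x (hR₁N hx)]
    have hm : IsMap F R' (fun y => a (f' (a' y))) :=
      ((ha'm.res hR'N).comp hf' ha'R).comp hma fun y hy => hf'N _ (ha'R y hy)
    have hmR : fimg (fun y => a (f' (a' y))) R' = R' :=
      Subgroup.eq_of_le_of_card_ge (fimg_le fun y hy => haR ▸ apply_mem_fimg a
        (hf1 ▸ apply_mem_fimg f' (ha'R y hy) : f' (a' y) ∈ R₁)) hm.card_fimg.ge
    obtain ⟨ξ, hξ, hξe⟩ := hm.exists_aut hmR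
    have hmv : Moves ξ Pc Pc := by
      have : fimg (autFun ξ) Pc = Pc := by
        rw [fimg_congr fun y hy => hξe y (hPcR hy), ← (hma.res hPN).fimg_comp,
          fimg_congr fun x hx => show a (f' (a' (a x))) = (fun z => a z) (f' x) by
            rw [ha1 x (hPN hx)], (hf'.res hle).fimg_comp, hf2]
      exact (congrArg (Moves ξ Pc) this).mp (moves_fimg ξ hPcR)
    refine ⟨⟨ξ, hξ, hmv⟩, Subtype.ext (mulAut_ext fun x hx => ?_)⟩
    have h1 := hρ ⟨ξ, hξ, hmv⟩ (a x) (apply_mem_fimg a hx)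
    rw [ha1 x (hPN hx), hξe _ (hPcR (apply_mem_fimg a hx)), ha1 x (hPN hx),
      ha1 _ (hPN (hf2 ▸ apply_mem_fimg f' hx))] at h1
    rw [h1, hf3 x hx]
  set T₀ := (autInducedBy S P₀).subgroupOf (F.autGroup P₀) with hT₀
  have hTmap : (T : Subgroup (stabSub F R' Pc)).map ρ ≤ T₀ := by
    rintro _ ⟨t, ht, rfl⟩
    obtain ⟨n, hn', -, hnP⟩ := himg t ht
    exact mem_autInducedBy.2 ⟨n, hn'.1, hnP⟩
  have hauto : F.IsFullyAutomized p P₀ :=
    ⟨hP₀S, T.mapSurjective hsurj, ((T.mapSurjective hsurj).is_maximal'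
      ((isPGroup_autInducedBy hS P₀).comap_subtype) hTmap).symm⟩
  refine ⟨hauto, receptive_of hP₀S fun Q v hv hvQ N hQN hN => ?_⟩
  have hQc : F.IsConj P₀ Q := isConj_symm (hvQ ▸ hv.isConj)
  obtain ⟨w, hw, hwQ⟩ := htr Q hQc
  have hQS := hv.source_le
  have hQNS := le_normalizerIn (S := S) hQS
  have hNle : N ≤ normalizerIn S Q := fun g hg => ⟨((hN g).1 hg).1, ((hN g).1 hg).2.1⟩
  have hwN : ∀ g ∈ normalizerIn S Q, w g ∈ normalizerIn S P₀ := fun g hg =>
    hwQ ▸ hw.map_normalizerIn hQNS hg hg.2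
  obtain ⟨w', hw', hw1, hw2, -⟩ := (hw.res hQNS).exists_inv
  rw [hwQ] at hw' hw2
  have hmid : IsMap F P₀ (fun y => v (w' y)) := hw'.comp hv fun y hy => (hw2 y hy).1
  have hmidP : fimg (fun y => v (w' y)) P₀ = P₀ :=
    Subgroup.eq_of_le_of_card_ge (fimg_le fun y hy => hvQ ▸ apply_mem_fimg v (hw2 y hy).1)
      hmid.card_fimg.ge
  obtain ⟨γ, hγ, hγe⟩ := hmid.exists_aut hmidP
  have hγw : ∀ x ∈ Q, autFun γ (w x) = v x := fun x hx => by
    rw [hγe _ (hwQ ▸ apply_mem_fimg w hx), hw1 x hx]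
  obtain ⟨δ, hδ⟩ := hsurj ⟨γ, hγ⟩
  -- the preimage of the automorphisms induced by `S`
  set L := T₀.comap ρ with hL
  have hTL : (T : Subgroup (stabSub F R' Pc)) ≤ L := fun t ht => hTmap ⟨t, ht, rfl⟩
  let TL : Sylow p L := T.subtype hTL
  have hTLmap : (TL : Subgroup L).map L.subtype = (T : Subgroup (stabSub F R' Pc)) := by
    rw [show (TL : Subgroup L) = (T : Subgroup (stabSub F R' Pc)).subgroupOf L from rfl,
      Subgroup.subgroupOf_map_subtype, inf_eq_left.2 hTL]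
  set N' := fimg a (fimg w N) with hN'
  let U : Subgroup (stabSub F R' Pc) :=
    ((autInducedBy N' R').subgroupOf (stabSub F R' Pc) ⊓ (T : Subgroup (stabSub F R' Pc))).map
      (MulAut.conj δ).toMonoidHom
  have hUp : IsPGroup p U := (T.2.to_le inf_le_right).map _
  have hwNle : fimg w N ≤ normalizerIn S P₀ := fimg_le fun g hg => hwN g (hNle hg)
  have hUL : U ≤ L := by
    rintro _ ⟨c, ⟨hcN, hcT⟩, rfl⟩
    obtain ⟨k, hk, hke⟩ := mem_autInducedBy.1 hcN
    obtain ⟨n, hn', rfl⟩ := (hma.res hwNle).mem_fimg_iff.1 hk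
    obtain ⟨g, hg, rfl⟩ := (hw.res hNle).mem_fimg_iff.1 hn'
    obtain ⟨c', -, hc', hc'P⟩ := hconj (w g) (hwN g (hNle hg))
    have hcc : c' = c := Subtype.ext (MulEquiv.ext fun x => Subtype.ext ((hc' x).trans (hke x).symm))
    obtain ⟨-, hgn, k, hk', hke'⟩ := (hN g).1 hg
    show ρ (δ * c * δ⁻¹) ∈ T₀
    rw [map_mul, map_mul, map_inv, hδ]
    refine mem_autInducedBy.2 ⟨k, hk', fun y => ?_⟩
    obtain ⟨y', rfl⟩ := γ.surjective y
    obtain ⟨x, hx, hxe⟩ := (hw.res hQNS).mem_fimg_iff.1 (hwQ.symm ▸ y'.2 : (y' : Ω) ∈ fimg w Q)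
    have hgx := (Subgroup.mem_normalizer_iff.1 hgn x).1 hx
    show ((γ * (ρ c : MulAut P₀) * γ⁻¹) (γ y') : Ω) = k * (γ y' : Ω) * k⁻¹
    rw [MulAut.mul_apply, MulAut.mul_apply, MulAut.inv_apply_self, ← autFun_coe γ, ← autFun_coe γ y',
      ← hcc, hc'P, ← hxe, ← hw.map_conj (hNle hg) (hQNS hx), hγw x hx, hγw _ hgx]
    exact hke' x hx
  obtain ⟨l, hl, hle'⟩ := exists_conj_sylow TL hUp hUL
  rw [hTLmap] at hle'
  obtain ⟨n, hn', hne⟩ := mem_autInducedBy.1 (show (ρ l : MulAut P₀) ∈ autInducedBy S P₀ from hl)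
  obtain ⟨τ, hτ, -, hτP⟩ := hconj n ⟨hn', mem_normalizer_of_conj_aut hne⟩
  have hρτ : ρ τ = ρ l :=
    Subtype.ext (MulEquiv.ext fun x => Subtype.ext ((hτP x).trans (hne x).symm))
  set η := τ⁻¹ * l * δ with hη
  have hρη : (ρ η : MulAut P₀) = γ := by
    rw [hη, map_mul, map_mul, map_inv, hρτ, inv_mul_cancel, one_mul, hδ]
  have hηm : IsMap F R' (autFun (η : MulAut R')) := (mem_autGroup hR'S).1 η.2.1
  obtain ⟨φ, hφ, hφe⟩ := hηm.exists_hom
  have hφ' : ∀ x ∈ R', toFun φ x = autFun (η : MulAut R') x := fun x hx =>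
    (toFun_apply φ hx).trans (hφe ⟨x, hx⟩)
  have hN'ext : R' ⊔ N' ≤ extender S R' φ := by
    refine sup_le (le_extender hφ) fun k hk => ?_
    obtain ⟨n', hn'', rfl⟩ := (hma.res hwNle).mem_fimg_iff.1 hk
    obtain ⟨c, hc, hce, -⟩ := hconj n' (hwNle hn'')
    have hkn : a n' ∈ Subgroup.normalizer (R' : Set Ω) := mem_normalizer_of_conj_aut hce
    have hcU : δ * c * δ⁻¹ ∈ U := ⟨c, ⟨mem_autInducedBy.2 ⟨_, hk, hce⟩, hc⟩, rfl⟩
    have h1 : η * c * η⁻¹ ∈ (T : Subgroup (stabSub F R' Pc)) := by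
      have h2 := Subgroup.mul_mem _ (Subgroup.mul_mem _ (Subgroup.inv_mem _ hτ) (hle' _ hcU)) hτ
      rw [hη]
      convert h2 using 1
      group
    rw [hT] at h1
    obtain ⟨j, hj, hje⟩ := exists_conj_transfer (χ := (η : MulAut R')) (c := (c : MulAut R')) hkn
      hce h1
    refine mem_extender.2 ⟨(haN n' (hwNle hn'')).1, hkn, j, hj, fun x hx => ?_⟩
    rw [hφ' x hx, hφ' _ ((Subgroup.mem_normalizer_iff.1 hkn x).1 hx)]
    exact hje x hx
  obtain ⟨θ, hθ, hθe⟩ := receptive_extend hr' hηm (fimg_autFun _) (N := R' ⊔ N') (fun g hg => by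
    obtain ⟨h1, h2, j, hj, hje⟩ := mem_extender.1 (hN'ext hg)
    refine ⟨⟨h1, h2⟩, j, hj, fun x hx => ?_⟩
    rw [← hφ' x hx, ← hφ' _ ((Subgroup.mem_normalizer_iff.1 h2 x).1 hx)]
    exact hje x hx) le_sup_left
  have hθP : fimg θ Pc = Pc := by
    rw [fimg_congr fun x hx => hθe x (hPcR hx)]
    exact η.2.2.fimg_eq hPcR hPcR
  have hN'N : R' ⊔ N' ≤ normalizerIn S Pc := sup_le hR'N (fimg_le fun x hx => haN x (hwNle hx))
  have hθN : ∀ g ∈ R' ⊔ N', θ g ∈ normalizerIn S Pc := fun g hg =>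
    hθP ▸ hθ.map_normalizerIn (hPcR.trans le_sup_left) hg (hN'N hg).2
  refine ⟨fun g => a' (θ (a (w g))), (((hw.res hNle).comp hma fun g hg => hwN g (hNle hg)).comp hθ
    fun g hg => Subgroup.mem_sup_right (apply_mem_fimg a (apply_mem_fimg w hg))).comp ha'm
    fun g hg => hθN _ (Subgroup.mem_sup_right (apply_mem_fimg a (apply_mem_fimg w hg))),
    fun x hx => ?_⟩
  have hwx : w x ∈ P₀ := hwQ ▸ apply_mem_fimg w hx
  have hawx : a (w x) ∈ Pc := apply_mem_fimg a hwx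
  show a' (θ (a (w x))) = v x
  rw [hθe _ (hPcR hawx), ← hρ η _ hawx, ha1 _ (hPN hwx), hρη, hγw x hx]

/-- Transported automorphisms for a member of the class. -/
theorem exists_datum (hS : IsPGroup p S) {P₀ : Subgroup Ω} (hP₀ : P₀ ≤ S)
    (htr : ∀ Q, F.IsConj P₀ Q → Up F Q P₀)
    (hstar : F.IsCentric P₀ → ∃ Q, F.IsConj P₀ Q ∧
      ¬ (autInducedBy S Q ⊓ (pCore p ↥(F.autGroup Q)).map (F.autGroup Q).subtype ≤ Inn Q)) :
    ∃ M, Datum F p P₀ M := by
  haveI := finite_of_le hP₀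
  by_cases hc : ∀ Q, F.IsConj P₀ Q → centralizerIn S Q ≤ Q
  · obtain ⟨Q, hQ, hQne⟩ := hstar ⟨hP₀, hc⟩
    haveI := inn_subgroupOf_normal F P₀
    set M := (pCore p ↥(F.autGroup P₀)).map (F.autGroup P₀).subtype with hM
    have hMn : ∀ α ∈ F.autGroup P₀, ∀ m ∈ M, α * m * α⁻¹ ∈ M := by
      rintro α hα _ ⟨m, hm, rfl⟩
      refine ⟨⟨α, hα⟩ * m * ⟨α, hα⟩⁻¹,
        (Grp.pCore_isNormal (p := p) (G := F.autGroup P₀)).conj_mem m hm ⟨α, hα⟩, ?_⟩
      simp
    have hInnM : Inn P₀ ≤ M := fun i hi => by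
      refine ⟨⟨i, inn_le_autGroup F hP₀ hi⟩, Grp.le_pCore (inn_subgroupOf_normal F P₀) ?_ hi, rfl⟩
      rw [inn_eq_autInducedBy]
      exact ((isPGroup_autInducedBy hS P₀).to_le (autInducedBy_mono hP₀ P₀)).comap_subtype
    refine ⟨M, hP₀, Subgroup.map_subtype_le _, hMn, hInnM,
      Or.inl ⟨(Grp.pCore_isPGroup (p := p)).map _, hc⟩, ?_⟩
    obtain ⟨w, hw, hwQ⟩ := htr Q hQ
    have hQS := isConj_le_right hQ
    haveI := finite_of_le hQS
    have hQN := le_normalizerIn (S := S) hQS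
    obtain ⟨β, ⟨hβ, hβp⟩, hβi⟩ := SetLike.not_le_iff_exists.1 hQne
    obtain ⟨e, he, heA⟩ := exists_mulEquiv (hw.res hQN) hwQ
    obtain ⟨g, hg, hge⟩ := mem_autInducedBy.1 hβ
    have hgN : g ∈ normalizerIn S Q := ⟨hg, mem_normalizer_of_conj_aut hge⟩
    have hval : ∀ y : P₀, (MulAut.congr e β y : Ω) = w g * y * (w g)⁻¹ := fun y => by
      obtain ⟨x, rfl⟩ := e.surjective y
      rw [he, ← hw.map_conj hgN (hQN x.2), ← hge, ← he]
      simp [MulAut.congr]
    have hmemM : MulAut.congr e β ∈ M := by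
      let φ : F.autGroup Q →* F.autGroup P₀ :=
        ((MulAut.congr e).toMonoidHom.comp (F.autGroup Q).subtype).codRestrict _
          fun b => (heA _).1 b.2
      have hφs : Function.Surjective φ := fun b => ⟨⟨(MulAut.congr e).symm b,
        (heA _).2 (by rw [MulEquiv.apply_symm_apply]; exact b.2)⟩,
        Subtype.ext ((MulAut.congr e).apply_symm_apply _)⟩
      obtain ⟨b, hb, rfl⟩ := hβp
      exact ⟨φ b, Grp.le_pCore (Grp.pCore_isNormal.map φ hφs)
        ((Grp.pCore_isPGroup (p := p)).map φ) ⟨b, hb, rfl⟩, rfl⟩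
    refine lt_of_le_of_ne (fun y hy => ⟨hP₀ hy, MulAut.conj (⟨y, hy⟩ : P₀),
      hInnM ⟨_, rfl⟩, fun x => rfl⟩) fun heq => hβi ?_
    have h1 : w g ∈ P₀ := heq ▸ ⟨hw.apply_mem hgN, _, hmemM, hval⟩
    rw [← hwQ] at h1
    obtain ⟨x, hx, hxe⟩ := (hw.res hQN).mem_fimg_iff.1 h1
    have hgx : x = g := hw.injOn (hQN hx) hgN hxe
    exact ⟨⟨g, hgx ▸ hx⟩, MulEquiv.ext fun z => Subtype.ext (hge z).symm⟩
  · push Not at hc
    obtain ⟨Q, hQ, hQne⟩ := hc
    refine ⟨Inn P₀, hP₀, inn_le_autGroup F hP₀, fun α hα m hm => ?_, le_rfl, Or.inr le_rfl, ?_⟩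
    · exact (inn_subgroupOf_normal F P₀).conj_mem ⟨m, inn_le_autGroup F hP₀ hm⟩ hm ⟨α, hα⟩
    obtain ⟨c, hc', hcQ⟩ := SetLike.not_le_iff_exists.1 hQne
    obtain ⟨w, hw, hwQ⟩ := htr Q hQ
    have hQN := le_normalizerIn (S := S) (isConj_le_right hQ)
    have hcN := centralizerIn_le_normalizerIn Q hc'
    have hwc : w c ∈ centralizerIn S P₀ := hwQ ▸ hw.map_centralizerIn hQN hcN hc'.2
    refine lt_of_le_of_ne (fun y hy => ⟨hP₀ hy, MulAut.conj (⟨y, hy⟩ : P₀), ⟨_, rfl⟩,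
      fun x => rfl⟩) fun heq => hcQ ?_
    have h1 : w c ∈ P₀ := heq ▸ ⟨hwc.1, 1, one_mem _, fun x => by
      rw [MulAut.one_apply, ← (mem_centralizerIn.1 hwc).2 x x.2, mul_inv_cancel_right]⟩
    rw [← hwQ] at h1
    obtain ⟨x, hx, hxe⟩ := (hw.res hQN).mem_fimg_iff.1 h1
    exact hw.injOn (hQN hx) hcN hxe ▸ hx

/-- Saturation criterion: generation by a saturated invariant family `ℋ`, and every centric
subgroup outside `ℋ` has a conjugate with a noninner `p`-core automorphism induced by `S`. -/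
theorem isSaturated_of_family (hS : IsPGroup p S) (ℋ : Set (Subgroup Ω))
    (hℋconj : ∀ P ∈ ℋ, ∀ Q, F.IsConj P Q → Q ∈ ℋ)
    (hsat : ∀ P ∈ ℋ, ∃ Q, F.IsConj P Q ∧ F.IsFullyAutomized p Q ∧ F.IsReceptive Q)
    (hgen : ∀ E : FusionSystem S, (∀ P ∈ ℋ, F.Hom P ⊆ E.Hom P) → F ≤ E)
    (hstar : ∀ P : Subgroup Ω, F.IsCentric P → P ∉ ℋ → ∃ Q, F.IsConj P Q ∧
      ¬ (autInducedBy S Q ⊓ (pCore p ↥(F.autGroup Q)).map (F.autGroup Q).subtype ≤ Inn Q)) :
    F.IsSaturated p := by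
  intro P hP
  induction hn : Nat.card S - Nat.card P using Nat.strong_induction_on generalizing P with
  | _ n ih =>
    by_cases hPℋ : P ∈ ℋ
    · exact hsat P hPℋ
    obtain ⟨P₀, hPP₀, hP₀n⟩ := exists_fullyNormalized F hP
    have hnot : ∀ Q, F.IsConj P₀ Q → Q ∉ ℋ := fun Q hQ hQℋ =>
      hPℋ (hℋconj Q hQℋ P (isConj_symm (isConj_trans hPP₀ hQ)))
    rcases hP₀n.1.eq_or_lt with e | hlt
    · exfalso
      obtain ⟨Q, hQ, hQne⟩ := hstar P₀ (e ▸ centric_self F) (hnot P₀ (isConj_refl F hP₀n.1))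
      subst e
      obtain rfl := eq_top_of_isConj hQ
      exact hQne (inf_le_left.trans (inn_eq_autInducedBy Q).ge)
    have hgood : LargerGood F p P₀ := LargerGood.of_card fun R hR hcard => by
      have h1 := isConj_card hPP₀
      have h2 := Subgroup.card_le_of_le hR
      exact ih _ (by omega) R hR rfl
    have htr : ∀ Q, F.IsConj P₀ Q → Up F Q P₀ := fun Q hQ =>
      exists_transport hS hlt hP₀n hgood hnot hgen hQ
    obtain ⟨M, d⟩ := exists_datum hS hlt.le htr fun hc =>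
      hstar P₀ hc (hnot P₀ (isConj_refl F hP₀n.1))
    -- the relation of the transported maps
    let G : Subgroup Ω → (Ω → Ω) → Prop := fun Q f => ∀ u v,
      IsMap F (normalizerIn S Q) u → fimg u Q = P₀ →
      IsMap F (normalizerIn S (fimg f Q)) v → fimg v (fimg f Q) = P₀ →
      ∃ e, Ext F P₀ M e ∧ ∀ x ∈ Q, v (f x) = e (u x)
    have hGbig : ∀ Q R f, F.IsConj P₀ Q → Q < R → R ≤ normalizerIn S Q → IsMap F R f → G Q f := by
      intro Q R f hQ hQR hRN hf u v hu huQ hv hvQ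
      have hQN := le_normalizerIn (S := S) (isConj_le_right hQ)
      obtain ⟨u', hu', hu1, hu2, -⟩ := (hu.res hRN).exists_inv
      have hfN : ∀ x ∈ R, f x ∈ normalizerIn S (fimg f Q) := fun x hx =>
        hf.map_normalizerIn hQR.le hx (hRN hx).2
      have hm : IsMap F (fimg u R) (fun y => v (f (u' y))) :=
        (hu'.comp hf fun y hy => (hu2 y hy).1).comp hv fun y hy => hfN _ (hu2 y hy).1
      refine ⟨fun y => v (f (u' y)), ext_of_larger hS d hgood htr hm ?_ ?_ ?_, fun x hx => ?_⟩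
      · refine lt_of_le_of_ne (huQ ▸ fimg_mono u hQR.le) fun e => ?_
        haveI := finite_of_le hf.source_le
        have h1 := (hu.res hRN).card_fimg
        rw [← e, ← isConj_card hQ] at h1
        exact absurd h1 (card_lt_of_lt hQR).ne
      · exact huQ ▸ fimg_le fun x hx => hu.map_normalizerIn hQN (hRN hx) (hRN hx).2
      · conv_lhs => rw [← huQ, ← (hu.res hQN).fimg_comp]
        rw [fimg_congr fun x hx => show v (f (u' (u x))) = v (f x) by rw [hu1 x (hQR.le hx)],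
          (hf.res hQR.le).fimg_comp, hvQ]
      · show v (f x) = v (f (u' (u x)))
        rw [hu1 x (hQR.le hx)]
    have hG : ∀ Q f, F.IsConj P₀ Q → IsMap F Q f → G Q f := fun Q f hQ hf =>
      generation hS hlt hnot hgen G
        (fun Q f g h e u v hu huQ hv hvQ => by
          rw [← fimg_congr e] at hv hvQ
          obtain ⟨e', he', he'e⟩ := h u v hu huQ hv hvQ
          exact ⟨e', he', fun x hx => by rw [← e x hx]; exact he'e x hx⟩)
        (fun Q f g hQ hf hg h1 h2 u v hu huQ hv hvQ => by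
          rw [hf.fimg_comp] at hv hvQ
          obtain ⟨w, hw, hwQ⟩ := htr _ (isConj_trans hQ hf.isConj)
          obtain ⟨e1, he1, he1e⟩ := h1 u w hu huQ hw hwQ
          obtain ⟨e2, he2, he2e⟩ := h2 w v hw hwQ hv hvQ
          refine ⟨_, he1.comp d.lt_pre.le he2, fun x hx => ?_⟩
          show v (g (f x)) = e2 (e1 (u x))
          rw [he2e _ (apply_mem_fimg f hx), he1e x hx])
        (fun Q f g hQ hf hg he h1 u v hu huQ hv hvQ => by
          rw [← hf.fimg_comp, fimg_congr he, fimg_id] at hv hvQ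
          obtain ⟨e1, he1, he1e⟩ := h1 v u hv hvQ hu huQ
          obtain ⟨e2, he2, he2e⟩ := he1.exists_inv d.lt_pre.le
          refine ⟨e2, he2, fun y hy => ?_⟩
          obtain ⟨x, hx, rfl⟩ := hf.mem_fimg_iff.1 hy
          rw [he x hx, he1e x hx, he2e _ (hvQ ▸ apply_mem_fimg v hx)])
        hGbig hQ hf
    have hext : ∀ α ∈ F.autGroup P₀, Ext F P₀ M (autFun α) := by
      intro α hα
      obtain ⟨e, he, hee⟩ := hG P₀ _ (isConj_refl F hlt.le) ((mem_autGroup hlt.le).1 hα)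
        (fun x => x) (fun x => x) (isMap_id F inf_le_left) (fimg_id P₀)
        (isMap_id F inf_le_left) (by rw [fimg_id, fimg_autFun])
      exact he.congr fun x hx => (hee x hx).symm
    exact ⟨P₀, hPP₀, good_of_ext hS d hP₀n hgood htr hext⟩

end Cfsg.Agent.Fus.SatCrit
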