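import Mathlib
import Cfsg.Agent.Lib.Fus.Invariant
import Cfsg.Agent.Lib.Fus.NormalCrit
import Cfsg.Agent.Lib.Fus.SatCriterion

/-!
Classes of maps relative to an invariant subsystem, and centric subgroups meeting its support in
noncentric subgroups.
-/

set_option autoImplicit false
set_option linter.style.haveILetI false
set_option linter.unusedSectionVars false

open scoped Classical Pointwise

universe u

namespace Cfsg.Agent.Fus.InvClass

open Subgroup FusionSystem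

variable {Ω : Type u} [Group Ω] {S T : Subgroup Ω} {F : FusionSystem S} {E : FusionSystem T}
  [Finite S]

/-- A map of the system carries `R ⊓ T` onto `f(R) ⊓ T`. -/
theorem fimg_inf (hT : F.StronglyClosed T) {R : Subgroup Ω} {f : Ω → Ω} (hf : IsMap F R f) :
    fimg f (R ⊓ T) = fimg f R ⊓ T := by
  refine le_antisymm (le_inf (fimg_mono f inf_le_left) (fimg_le fun x hx =>
    StronglyClosed.apply_mem hT (hf.res inf_le_left) inf_le_right hx)) ?_
  rintro y ⟨hy, hyT⟩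
  obtain ⟨g, hg, hg1, hg2, -⟩ := hf.exists_inv
  have h := StronglyClosed.apply_mem hT (hg.res inf_le_left) inf_le_right
    (show y ∈ fimg f R ⊓ T from ⟨hy, hyT⟩)
  rw [← (hg2 y hy).2]
  exact apply_mem_fimg f (show g y ∈ R ⊓ T from ⟨(hg2 y hy).1, h⟩)

/-- Maps of `F` carry centric subgroups of `E` to centric subgroups of `E`. -/
theorem centric_transport (hE : E.IsInvariantIn F) {Q : Subgroup Ω} (hQ : E.IsCentric Q)
    {f : Ω → Ω} (hf : IsMap F Q f) : E.IsCentric (fimg f Q) := by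
  have hQT := hQ.1
  obtain ⟨α, hα, f₀, hf₀, he⟩ := frattini_of_isInvariantIn hE hQT hf
  have hαm : IsMap F T (autFun α) := (mem_autGroup hE.2.1.1).1 hα
  have himg : fimg f Q = fimg (autFun α) (fimg f₀ Q) := by rw [fimg_congr he, hf₀.fimg_comp]
  set Q₁ := fimg f₀ Q
  have hQ₁ : Q₁ ≤ T := hf₀.fimg_le_S
  have hQ₁c : E.IsCentric Q₁ := centric_of_isConj hQ hf₀.isConj
  rw [himg]
  refine ⟨fimg_le fun x hx => autFun_mem α (hQ₁ hx), fun R hR => ?_⟩
  obtain ⟨g, hg, rfl⟩ := isConj_iff.1 hR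
  obtain ⟨k, hk, hke⟩ := invariant_isMap hE hg (inv_mem hα)
  have hinv : ∀ x ∈ T, autFun α⁻¹ (autFun α x) = x := fun x hx => autFun_inv_apply α hx
  have hback : fimg (autFun α⁻¹) (fimg (autFun α) Q₁) = Q₁ := by
    rw [← (hαm.res hQ₁).fimg_comp]
    exact (fimg_congr fun x hx => hinv x (hQ₁ hx)).trans (fimg_id Q₁)
  rw [hback] at hk
  intro c hc
  obtain ⟨hcT, hcc⟩ := mem_centralizerIn.1 hc
  have hαm' : IsMap F T (autFun α⁻¹) := (mem_autGroup hE.2.1.1).1 (inv_mem hα)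
  have h1 : autFun α⁻¹ c ∈ fimg k Q₁ := by
    refine hQ₁c.2 _ hk.isConj (mem_centralizerIn.2 ⟨autFun_mem α⁻¹ hcT, fun y hy => ?_⟩)
    obtain ⟨x, hx, rfl⟩ := hk.mem_fimg_iff.1 hy
    have hxα : autFun α x ∈ fimg (autFun α) Q₁ := apply_mem_fimg _ hx
    have h2 : k x = autFun α⁻¹ (g (autFun α x)) := by rw [← hke _ hxα, hinv x (hQ₁ hx)]
    have hgT : g (autFun α x) ∈ T := hg.apply_mem hxα
    rw [h2, ← hαm'.map_mul hgT hcT, ← hαm'.map_mul hcT hgT, hcc _ (apply_mem_fimg g hxα)]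
  obtain ⟨x, hx, hxe⟩ := hk.mem_fimg_iff.1 h1
  have hxα : autFun α x ∈ fimg (autFun α) Q₁ := apply_mem_fimg _ hx
  have h2 : k x = autFun α⁻¹ (g (autFun α x)) := by rw [← hke _ hxα, hinv x (hQ₁ hx)]
  have hgT : g (autFun α x) ∈ T := hg.apply_mem hxα
  rw [h2] at hxe
  have h3 : g (autFun α x) = c := by
    have := congrArg (autFun α) hxe
    rwa [← autFun_mul α α⁻¹ hgT, ← autFun_mul α α⁻¹ hcT, mul_inv_cancel, autFun_one hgT,
      autFun_one hcT] at this
  exact h3 ▸ apply_mem_fimg g hxα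

/-- Maps of `F` between subgroups of `T` transport the automizers in `E`. -/
theorem congr_autGroup (hE : E.IsInvariantIn F) {R Q : Subgroup Ω} (hR : R ≤ T) {f : Ω → Ω}
    (hf : IsMap F R f) (hfQ : fimg f R = Q) (e : R ≃* Q) (he : ∀ x : R, (e x : Ω) = f x)
    {γ : MulAut R} (hγ : γ ∈ E.autGroup R) : MulAut.congr e γ ∈ E.autGroup Q := by
  obtain ⟨α, hα, f₀, hf₀, hfe⟩ := frattini_of_isInvariantIn hE hR hf
  obtain ⟨g, hg, hg1, hg2, -⟩ := hf₀.exists_inv
  have hγm := (mem_autGroup hR).1 hγ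
  obtain ⟨k, hk, hke⟩ := invariant_isMap hE
    ((hg.comp hγm fun y hy => (hg2 y hy).1).comp hf₀ fun y hy => autFun_mem γ (hg2 y hy).1) hα
  have hQe : fimg (autFun α) (fimg f₀ R) = Q := by rw [← hf₀.fimg_comp, ← fimg_congr hfe, hfQ]
  rw [hQe] at hk
  refine (mem_autGroup (hQe ▸ fimg_le fun y hy => autFun_mem α (hf₀.fimg_le_S hy))).2
    (hk.congr fun y hy => ?_)
  obtain ⟨x, hxe⟩ := e.surjective ⟨y, hy⟩
  have hy' : y = autFun α (f₀ x) := by
    rw [← hfe x x.2, ← he]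
    exact (congrArg Subtype.val hxe).symm
  rw [show autFun (MulAut.congr e γ) y = ((MulAut.congr e γ ⟨y, hy⟩ : Q) : Ω) from
    autFun_coe _ ⟨y, hy⟩, ← hxe]
  have h1 : ((MulAut.congr e γ (e x) : Q) : Ω) = f (γ x : Ω) := by
    simp [MulAut.congr, he]
  rw [h1, hfe _ (γ x).2, hy', hke _ (apply_mem_fimg f₀ x.2)]
  show autFun α (f₀ (autFun γ (g (f₀ x)))) = _
  rw [hg1 x x.2, autFun_coe]

variable {p : ℕ} [Fact p.Prime]

theorem eq_one_of_pow_prime_pow {Δ : Type*} [Group Δ] [Finite Δ]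
    (hΔ : (Nat.card Δ).Coprime p) {d : Δ} {k : ℕ} (h : d ^ p ^ k = 1) : d = 1 := by
  rw [← orderOf_eq_one_iff]
  have h1 : (orderOf d).Coprime (p ^ k) :=
    (hΔ.coprime_dvd_left (orderOf_dvd_natCard d)).pow_right k
  exact h1.eq_one_of_dvd (orderOf_dvd_of_pow_eq_one h)

/-- An automorphism of `T` that restricts to a map of `E` on a centric subgroup of `E` is killed by
every `p'`-quotient killing `Aut_E(T)`. -/
theorem class_eq_one (hS : IsPGroup p S) (hE : E.IsInvariantIn F) (hEs : E.IsSaturated p)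
    {G₀ : Subgroup (MulAut T)} (hG₀ : G₀ ≤ F.autGroup T) {Δ : Type*} [Group Δ] [Finite Δ]
    (hΔ : (Nat.card Δ).Coprime p) (χ : G₀ →* Δ)
    (hker : ∀ γ : G₀, (γ : MulAut T) ∈ E.autGroup T → χ γ = 1)
    {R : Subgroup Ω} (hR : E.IsCentric R) (γ : G₀) (hγ : IsMap E R (autFun (γ : MulAut T))) :
    χ γ = 1 := by
  have hTS := hE.2.1.1
  haveI : Finite T := finite_of_le hTS
  induction hn : Nat.card T - Nat.card R using Nat.strong_induction_on generalizing R γ with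
  | _ n ih =>
    have hRT := hR.1
    rcases hRT.eq_or_lt with e | hlt
    · subst e
      exact hker γ ((mem_autGroup le_rfl).2 hγ)
    have hTp := hS.to_le hTS
    set N := normalizerIn T R
    have hNT : N ≤ T := inf_le_left
    have hRN : R ≤ N := le_normalizerIn hRT
    haveI : Finite ↥N := finite_of_le (S := T) hNT
    haveI := finite_of_le (S := T) hRT
    have hb : IsMap F T (autFun (γ : MulAut T)) := (mem_autGroup hTS).1 (hG₀ γ.2)
    have hb' : IsMap F T (autFun (γ : MulAut T)⁻¹) :=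
      (mem_autGroup hTS).1 (inv_mem (hG₀ γ.2))
    obtain ⟨e₁, he₁, he₁e⟩ := receptive_extend
      (receptive_of_fullyCentralized hTp hEs
        (fullyCentralized_of_centric (centric_of_isConj hR hγ.isConj))) hγ rfl (N := N)
      (fun g hg => ⟨hg, autFun (γ : MulAut T) g, autFun_mem _ hg.1,
        fun x hx => hb.map_conj hg.1 (hRT hx)⟩) hRN
    have hback : fimg (autFun (γ : MulAut T)⁻¹) (fimg e₁ R) = R := by
      rw [fimg_congr he₁e, ← (hb.res hRT).fimg_comp]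
      exact (fimg_congr fun x hx => autFun_inv_apply _ (hRT hx)).trans (fimg_id R)
    have hwm : IsMap F N (fun x => autFun (γ : MulAut T)⁻¹ (e₁ x)) :=
      (he₁.mono hE.1).comp hb' fun x hx => he₁.apply_mem hx
    have hwN : ∀ x ∈ N, autFun (γ : MulAut T)⁻¹ (e₁ x) ∈ N := fun x hx => by
      refine ⟨autFun_mem _ (he₁.apply_mem hx), ?_⟩
      have h1 := hwm.map_normalizerIn hRN hx hx.2
      rw [(he₁.res hRN |>.mono hE.1).fimg_comp, hback] at h1
      exact h1.2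
    obtain ⟨δ, hδ, hδe⟩ := hwm.exists_aut
      (Subgroup.eq_of_le_of_card_ge (fimg_le hwN) hwm.card_fimg.ge)
    have hfix : δ ^ Nat.card R = 1 := by
      refine SatCrit.pow_card_eq_one_of_fix (S := T) hRN hNT (fun x hx => hx.2)
        (centralizerIn_le_of_centric hR) fun x hx => Subtype.ext ?_
      rw [← autFun_coe, hδe _ x.2, he₁e _ hx, autFun_inv_apply _ (hRT hx)]
    have hrep : ∀ k : ℕ, ∃ e, IsMap E N e ∧
        ∀ x ∈ N, autFun (δ ^ k) x = autFun ((γ : MulAut T)⁻¹ ^ k) (e x) := by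
      intro k
      induction k with
      | zero =>
        exact ⟨fun x => x, isMap_id E hNT, fun x hx => by
          rw [pow_zero, pow_zero, autFun_one hx, autFun_one (hNT hx)]⟩
      | succ k ihk =>
        obtain ⟨e, he, hee⟩ := ihk
        obtain ⟨j, hj, hje⟩ := invariant_isMap hE he₁ (pow_mem (hG₀ γ.2) k)
        have hval : ∀ x ∈ N, e x = autFun ((γ : MulAut T) ^ k) (autFun (δ ^ k) x) := fun x hx => by
          rw [hee x hx, ← autFun_mul _ _ (he.apply_mem hx), inv_pow, mul_inv_cancel,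
            autFun_one (he.apply_mem hx)]
        refine ⟨fun x => j (e x), he.comp hj fun x hx => ?_, fun x hx => ?_⟩
        · rw [hval x hx]
          exact apply_mem_fimg _ (autFun_mem _ hx)
        · show _ = autFun ((γ : MulAut T)⁻¹ ^ (k + 1)) (j (e x))
          have h1 : autFun (δ ^ k) x ∈ N := autFun_mem _ hx
          have h2 : e₁ (autFun (δ ^ k) x) ∈ T := he₁.apply_mem h1
          rw [hval x hx, hje _ h1, ← autFun_mul _ _ h2,
            show (γ : MulAut T)⁻¹ ^ (k + 1) * (γ : MulAut T) ^ k = (γ : MulAut T)⁻¹ by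
              rw [pow_succ', mul_assoc, inv_pow, inv_mul_cancel, mul_one],
            pow_succ', autFun_mul _ _ hx, hδe _ h1]
    obtain ⟨e, he, hee⟩ := hrep (Nat.card R)
    rw [hfix] at hee
    obtain ⟨m, hm⟩ := (hTp.to_le hRT).exists_card_eq
    have hγk : IsMap E N (autFun ((γ ^ Nat.card R : G₀) : MulAut T)) := by
      refine he.congr fun x hx => ?_
      have h1 := congrArg (autFun ((γ : MulAut T) ^ Nat.card R)) (hee x hx)
      rw [autFun_one hx, ← autFun_mul _ _ (he.apply_mem hx), inv_pow, mul_inv_cancel,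
        autFun_one (he.apply_mem hx)] at h1
      rw [SubgroupClass.coe_pow]
      exact h1.symm
    have hNlt : Nat.card R < Nat.card N := card_lt_of_lt (lt_normalizerIn hTp hlt)
    have hle : Nat.card N ≤ Nat.card T := Subgroup.card_le_of_le hNT
    have h := ih (Nat.card T - Nat.card N) (by omega) (centric_mono hR hRN hNT) (γ ^ Nat.card R)
      hγk rfl
    rw [map_pow, hm] at h
    exact eq_one_of_pow_prime_pow hΔ h

/-- A centric subgroup whose trace on `T` is not centric in `E` has, in some position, an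
automorphism in the `p`-core induced by `S` and not inner. -/
theorem exists_core_aut (hS : IsPGroup p S) (hF : F.IsSaturated p) (hE : E.IsInvariantIn F)
    {P : Subgroup Ω} (hP : F.IsCentric P) (hPT : ¬ E.IsCentric (P ⊓ T)) :
    ∃ u, IsMap F P u ∧ ∃ x ∈ normalizerIn S (fimg u P), x ∉ fimg u P ∧
      ∃ a : F.autGroup (fimg u P), a ∈ pCore p (F.autGroup (fimg u P)) ∧
        ∀ y : fimg u P, (((a : MulAut (fimg u P)) y : fimg u P) : Ω) = x * y * x⁻¹ := by
  have hTsc := hE.2.1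
  have hPS := hP.1
  obtain ⟨Q₀, hQ₀, hQ₀n⟩ := exists_fullyNormalized F (P := P ⊓ T) (inf_le_left.trans hPS)
  obtain ⟨f, hf, hfP, -⟩ := exists_map_to_fullyNormalized hS hF hQ₀n hQ₀
  have hPN : P ≤ normalizerIn S (P ⊓ T) := fun x hx => by
    refine ⟨hPS hx, mem_normalizer_of_forall (fun y hy => ?_) fun y hy => ?_⟩
    · exact ⟨P.mul_mem (P.mul_mem hx hy.1) (P.inv_mem hx), StronglyClosed.conj_mem' hTsc (hPS hx) hy.2⟩
    · refine ⟨P.mul_mem (P.mul_mem (P.inv_mem hx) hy.1) hx, ?_⟩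
      simpa using StronglyClosed.conj_mem' hTsc (S.inv_mem (hPS hx)) hy.2
  have hfm := hf.res hPN
  refine ⟨f, hfm, ?_⟩
  set P₁ := fimg f P
  have hP₁ : F.IsCentric P₁ := centric_of_isConj hP hfm.isConj
  have hP₁S := hP₁.1
  haveI := finite_of_le hP₁S
  have h₀ : P₁ ⊓ T = Q₀ := by rw [← fimg_inf hTsc hfm, hfP]
  obtain ⟨R, hR, hRc⟩ : ∃ R, F.IsConj Q₀ R ∧ R ≤ T ∧ ¬ centralizerIn T R ≤ R := by
    by_contra hcon
    push Not at hcon
    refine hPT ⟨inf_le_right, fun R hR => ?_⟩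
    obtain ⟨g, hg, rfl⟩ := isConj_iff.1 hR
    exact hcon _ (isConj_trans (isConj_symm hQ₀) (hg.mono hE.1).isConj) hg.fimg_le_S
  obtain ⟨hRT, hRne⟩ := hRc
  obtain ⟨c, hc, hcR⟩ := SetLike.not_le_iff_exists.1 hRne
  obtain ⟨v, hv, hvR, -⟩ := exists_map_to_fullyNormalized hS hF hQ₀n (isConj_symm hR)
  have hcN : c ∈ normalizerIn S R :=
    ⟨hTsc.1 hc.1, Subgroup.centralizer_le_normalizer _ hc.2⟩
  have hRN := le_normalizerIn (S := S) (hRT.trans hTsc.1)
  have hvc : v c ∈ centralizerIn S Q₀ := hvR ▸ hv.map_centralizerIn hRN hcN hc.2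
  have hvcT : v c ∈ T := StronglyClosed.apply_mem hTsc
    (hv.res (Subgroup.zpowers_le.2 hcN)) (Subgroup.zpowers_le.2 hc.1) (mem_zpowers c)
  have hvcQ : v c ∉ Q₀ := fun h => by
    rw [← hvR] at h
    obtain ⟨r, hr, hre⟩ := (hv.res hRN).mem_fimg_iff.1 h
    exact hcR (hv.injOn (hRN hr) hcN hre ▸ hr)
  set C := centralizerIn T Q₀
  have hCn : P₁ ≤ Subgroup.normalizer (C : Set Ω) := fun x hx => by
    have hxQ : ∀ y ∈ Q₀, x * y * x⁻¹ ∈ Q₀ ∧ x⁻¹ * y * x ∈ Q₀ := fun y hy => by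
      rw [← h₀] at hy ⊢
      refine ⟨⟨P₁.mul_mem (P₁.mul_mem hx hy.1) (P₁.inv_mem hx),
        StronglyClosed.conj_mem' hTsc (hP₁S hx) hy.2⟩, P₁.mul_mem (P₁.mul_mem (P₁.inv_mem hx) hy.1) hx, ?_⟩
      simpa using StronglyClosed.conj_mem' hTsc (S.inv_mem (hP₁S hx)) hy.2
    refine mem_normalizer_of_forall (fun z hz => ?_) fun z hz => ?_
    · refine mem_centralizerIn.2 ⟨StronglyClosed.conj_mem' hTsc (hP₁S hx) hz.1, fun y hy => ?_⟩
      have h1 := (mem_centralizerIn.1 hz).2 _ (hxQ y hy).2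
      calc y * (x * z * x⁻¹) = x * (x⁻¹ * y * x * z) * x⁻¹ := by group
        _ = x * (z * (x⁻¹ * y * x)) * x⁻¹ := by rw [h1]
        _ = x * z * x⁻¹ * y := by group
    · refine mem_centralizerIn.2 ⟨by
        simpa using StronglyClosed.conj_mem' hTsc (S.inv_mem (hP₁S hx)) hz.1, fun y hy => ?_⟩
      have h1 := (mem_centralizerIn.1 hz).2 _ (hxQ y hy).1
      calc y * (x⁻¹ * z * x) = x⁻¹ * (x * y * x⁻¹ * z) * x := by group
        _ = x⁻¹ * (z * (x * y * x⁻¹)) * x := by rw [h1]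
        _ = x⁻¹ * z * x * y := by group
  have hCS : C ≤ S := inf_le_left.trans hTsc.1
  haveI : Finite ↥(P₁ ⊔ C) := finite_of_le (sup_le hP₁S hCS)
  have hlt : P₁ < P₁ ⊔ C := left_lt_sup.2 fun h => hvcQ (h₀ ▸ ⟨h ⟨hvcT, hvc.2⟩, hvcT⟩)
  obtain ⟨g, hg, hgP⟩ := SetLike.lt_iff_le_and_exists.1
    (lt_normalizerIn (S := P₁ ⊔ C) (hS.to_le (sup_le hP₁S hCS)) hlt) |>.2
  obtain ⟨r, hr, z, hz, rfl⟩ : g ∈ (P₁ : Set Ω) * (C : Set Ω) := by
    rw [← Subgroup.coe_mul_of_left_le_normalizer_right P₁ C hCn]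
    exact hg.1
  have hzN : z ∈ Subgroup.normalizer (P₁ : Set Ω) := by
    simpa using Subgroup.mul_mem _ (Subgroup.inv_mem _ (Subgroup.le_normalizer hr)) hg.2
  refine ⟨z, ⟨hCS hz, hzN⟩, fun h => hgP (mul_mem hr h), ?_⟩
  -- the stabilizer of the chain `1 ≤ Q₀ ≤ P₁`
  let K : Subgroup (F.autGroup P₁) :=
    { carrier := {a | ∀ x : P₁, ((x : Ω) ∈ Q₀ → (a : MulAut P₁) x = x) ∧
        ((x⁻¹ * (a : MulAut P₁) x : P₁) : Ω) ∈ Q₀}
      one_mem' := fun x => ⟨fun _ => rfl, by simp⟩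
      mul_mem' := fun {a b} ha hb x => by
        refine ⟨fun hx => ?_, ?_⟩
        · show (a : MulAut P₁) ((b : MulAut P₁) x) = x
          rw [(hb x).1 hx, (ha x).1 hx]
        · show ((x⁻¹ * (a : MulAut P₁) ((b : MulAut P₁) x) : P₁) : Ω) ∈ Q₀
          rw [show x⁻¹ * (a : MulAut P₁) ((b : MulAut P₁) x) = (x⁻¹ * (b : MulAut P₁) x) *
            (((b : MulAut P₁) x)⁻¹ * (a : MulAut P₁) ((b : MulAut P₁) x)) by group]
          exact mul_mem (hb x).2 (ha _).2
      inv_mem' := fun {a} ha x => by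
        have h2 := ha ((a : MulAut P₁)⁻¹ x)
        rw [MulAut.apply_inv_self] at h2
        refine ⟨fun hx => ?_, ?_⟩
        · show (a : MulAut P₁)⁻¹ x = x
          conv_lhs => rw [← (ha x).1 hx]
          exact MulAut.inv_apply_self _ _ _
        · show ((x⁻¹ * (a : MulAut P₁)⁻¹ x : P₁) : Ω) ∈ Q₀
          have h3 := Q₀.inv_mem h2.2
          simpa using h3 }
  have hQinv : ∀ a : F.autGroup P₁, ∀ x : P₁, (x : Ω) ∈ Q₀ → ((a : MulAut P₁) x : Ω) ∈ Q₀ :=
    fun a x hx => by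
      rw [← h₀] at hx ⊢
      refine ⟨((a : MulAut P₁) x).2, ?_⟩
      rw [← autFun_coe]
      exact StronglyClosed.apply_mem hTsc
        (((mem_autGroup hP₁S).1 a.2).res inf_le_left) (inf_le_right : P₁ ⊓ T ≤ T) hx
  have hKn : K.Normal := ⟨fun k hk a x => by
    have hx' : (((a⁻¹ : F.autGroup P₁) : MulAut P₁) x) = (a : MulAut P₁)⁻¹ x := rfl
    refine ⟨fun hx => ?_, ?_⟩
    · show (a : MulAut P₁) ((k : MulAut P₁) ((a : MulAut P₁)⁻¹ x)) = x
      rw [(hk ((a : MulAut P₁)⁻¹ x)).1 (show (((a : MulAut P₁)⁻¹ x : P₁) : Ω) ∈ Q₀ from hQinv a⁻¹ x hx), MulAut.apply_inv_self]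
    · show ((x⁻¹ * (a : MulAut P₁) ((k : MulAut P₁) ((a : MulAut P₁)⁻¹ x)) : P₁) : Ω) ∈ Q₀
      have h2 := hQinv a _ (hk ((a : MulAut P₁)⁻¹ x)).2
      rwa [map_mul, map_inv, MulAut.apply_inv_self] at h2⟩
  have hKp : IsPGroup p K := by
    intro k
    haveI := finite_of_le (isConj_le_right hQ₀)
    obtain ⟨m, hm⟩ := (hS.to_le (isConj_le_right hQ₀)).exists_card_eq
    refine ⟨m, Subtype.ext (Subtype.ext ?_)⟩
    rw [SubmonoidClass.coe_pow, SubmonoidClass.coe_pow, ← hm]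
    refine MulEquiv.ext fun x => ?_
    have key : ∀ i, (((k : F.autGroup P₁) : MulAut P₁) ^ i) x =
        x * (x⁻¹ * ((k : F.autGroup P₁) : MulAut P₁) x) ^ i := by
      intro i
      induction i with
      | zero => simp
      | succ i ih =>
        rw [pow_succ', MulAut.mul_apply, ih, map_mul, map_pow, ((k.2) _).1 ((k.2 x).2), pow_succ',
          ← mul_assoc x, mul_inv_cancel_left]
    rw [key]
    show x * _ = x
    rw [mul_eq_left]
    haveI := finite_of_le (isConj_le_right hQ₀)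
    have h4 : (⟨_, (k.2 x).2⟩ : Q₀) ^ Nat.card Q₀ = 1 := pow_card_eq_one'
    exact Subtype.ext ((SubmonoidClass.coe_pow _ _).trans (congrArg Subtype.val h4))
  refine ⟨⟨P₁.normalizerMonoidHom ⟨z, hzN⟩, autInducedBy_le_autGroup F hP₁S
    (mem_autInducedBy.2 ⟨z, hCS hz, fun x => rfl⟩)⟩, Grp.le_pCore hKn hKp fun x => ⟨fun hx => ?_, ?_⟩,
    fun y => rfl⟩
  · refine Subtype.ext ?_
    show z * (x : Ω) * z⁻¹ = x
    rw [← (mem_centralizerIn.1 hz).2 x hx, mul_inv_cancel_right]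
  · rw [← h₀]
    refine ⟨(x⁻¹ * _ : P₁).2, ?_⟩
    show (x : Ω)⁻¹ * (z * (x : Ω) * z⁻¹) ∈ T
    have h5 := StronglyClosed.conj_mem' hTsc (S.inv_mem (hP₁S x.2)) hz.1
    rw [inv_inv] at h5
    have h6 := T.mul_mem h5 (T.inv_mem hz.1)
    rw [← mul_assoc, ← mul_assoc]
    exact h6

end Cfsg.Agent.Fus.InvClass
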