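import Mathlib
import Cfsg.Agent.Lib.Fus.InvariantClass
import Cfsg.Agent.Lib.Fus.CentralizerSat

/-!
The focal subgroup of the centralizer system of a strongly closed subgroup, and the maps commuting
with its fusion.
-/

set_option autoImplicit false
set_option linter.style.haveILetI false
set_option linter.unusedSectionVars false

open scoped Classical Pointwise

universe u

namespace Cfsg.Agent.Fus.FocalCent

open Subgroup FusionSystem

variable {Ω : Type u} [Group Ω] {S : Subgroup Ω} {F : FusionSystem S} {p : ℕ}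

theorem focal_le {U : Subgroup Ω} (D : FusionSystem U) : D.focalSubgroup ≤ U := by
  refine (Subgroup.closure_le _).2 ?_
  rintro y ⟨P, φ, x, hφ, rfl⟩
  exact U.mul_mem (U.inv_mem ((D.le_of_mem hφ).1 x.2)) ((D.le_of_mem hφ).2 x)

theorem focal_mono {U : Subgroup Ω} {D : FusionSystem U} {V : Subgroup Ω} {D' : FusionSystem V}
    (h : ∀ P f, IsMap D P f → IsMap D' P f) : D.focalSubgroup ≤ D'.focalSubgroup := by
  refine (Subgroup.closure_le _).2 ?_
  rintro y ⟨P, φ, x, hφ, rfl⟩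
  obtain ⟨ψ, hψ, hψe⟩ := (h P _ (isMap_toFun hφ)).exists_hom
  refine subset_closure ⟨P, ψ, x, hψ, ?_⟩
  rw [hψe x, toFun_coe]

/-- A homomorphic shift by central elements that commutes with the fusion fixes the focal
subgroup. -/
theorem focal_fix {U : Subgroup Ω} (D : FusionSystem U) {u : Ω → Ω}
    (hmul : ∀ x ∈ U, ∀ y ∈ U, u (x * y) = u x * u y)
    (hz : ∀ x ∈ U, ∀ y ∈ U, x⁻¹ * u x * y = y * (x⁻¹ * u x))
    (hc : ∀ P f, IsMap D P f → ∀ x ∈ P, u (f x) = f x * (x⁻¹ * u x)) :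
    ∀ y ∈ D.focalSubgroup, u y = y := by
  have h1 : u 1 = 1 := by
    have := hmul 1 U.one_mem 1 U.one_mem
    rw [one_mul] at this
    exact mul_eq_left.1 this.symm
  have hinv : ∀ x ∈ U, u x⁻¹ = (u x)⁻¹ := fun x hx => by
    apply eq_inv_of_mul_eq_one_left
    rw [← hmul _ (U.inv_mem hx) _ hx, inv_mul_cancel, h1]
  intro y hy
  induction hy using Subgroup.closure_induction with
  | mem y hy =>
    obtain ⟨P, φ, x, hφ, rfl⟩ := hy
    have hxU := (D.le_of_mem hφ).1 x.2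
    have hfU := (D.le_of_mem hφ).2 x
    have h2 := hc P _ (isMap_toFun hφ) x x.2
    rw [toFun_coe] at h2
    rw [hmul _ (U.inv_mem hxU) _ hfU, hinv _ hxU, h2]
    calc (u (x : Ω))⁻¹ * (φ x * ((x : Ω)⁻¹ * u x))
        = (((x : Ω)⁻¹ * u x))⁻¹ * (((x : Ω)⁻¹ * φ x) * ((x : Ω)⁻¹ * u x)) := by group
      _ = (((x : Ω)⁻¹ * u x))⁻¹ * (((x : Ω)⁻¹ * u x) * ((x : Ω)⁻¹ * φ x)) := by
        rw [hz _ hxU _ (U.mul_mem (U.inv_mem hxU) hfU)]
      _ = (x : Ω)⁻¹ * φ x := by group
  | one => exact h1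
  | mul a b ha hb iha ihb => rw [hmul a (focal_le D ha) b (focal_le D hb), iha, ihb]
  | inv a ha iha => rw [hinv a (focal_le D ha), iha]

/-- Maps carrying `Q` to itself and `C_S(Q)` to itself preserve the focal subgroup of `C_F(Q)`. -/
theorem focal_map_mem {Q : Subgroup Ω} (hQS : Q ≤ S) {u : Ω → Ω}
    (hu : IsMap F (Q ⊔ centralizerIn S Q) u) (huQ : fimg u Q = Q)
    (huC : ∀ c ∈ centralizerIn S Q, u c ∈ centralizerIn S Q) :
    ∀ y ∈ (centralizerSystem F Q hQS).focalSubgroup,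
      u y ∈ (centralizerSystem F Q hQS).focalSubgroup := by
  set D := centralizerSystem F Q hQS
  have hD := isCentralizerSystem_centralizerSystem F hQS
  intro y hy
  induction hy using Subgroup.closure_induction with
  | mem y hy =>
    obtain ⟨P, φ, x, hφ, rfl⟩ := hy
    obtain ⟨hP, hφC, g, hg, hg1, hg2⟩ := (isMap_centralizerSystem hQS hD).1 (isMap_toFun hφ)
    have hPQ : P ⊔ Q ≤ Q ⊔ centralizerIn S Q :=
      sup_le (hP.trans le_sup_right) le_sup_left
    have hgm : ∀ z ∈ P ⊔ Q, g z ∈ Q ⊔ centralizerIn S Q := fun z hz => by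
      have h1 := apply_mem_fimg g hz
      rw [hg.fimg_sup] at h1
      refine (sup_le ?_ ?_ : fimg g P ⊔ fimg g Q ≤ _) h1
      · exact fimg_le fun w hw => Subgroup.mem_sup_right (hg1 w hw ▸ hφC w hw)
      · exact fimg_le fun w hw => Subgroup.mem_sup_left ((hg2 w hw).symm ▸ hw)
    obtain ⟨v, hv, hv1, hv2, -⟩ := (hu.res hPQ).exists_inv
    have hk : IsMap F (fimg u (P ⊔ Q)) (fun z => u (g (v z))) :=
      (hv.comp hg fun z hz => (hv2 z hz).1).comp hu fun z hz => hgm _ (hv2 z hz).1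
    rw [(hu.res hPQ).fimg_sup, huQ] at hk
    have hψ : IsMap D (fimg u P) (fun z => u (g (v z))) := by
      refine (isMap_centralizerSystem hQS hD).2 ⟨fimg_le fun z hz => huC z (hP hz), fun z hz => ?_,
        _, hk, fun _ _ => rfl, fun z hz => ?_⟩
      · obtain ⟨w, hw, rfl⟩ := (hu.res (hP.trans le_sup_right)).mem_fimg_iff.1 hz
        rw [hv1 w (Subgroup.mem_sup_left hw), hg1 w hw]
        exact huC _ (hφC w hw)
      · obtain ⟨w, hw, hwe⟩ := (hu.res (le_sup_left : Q ≤ Q ⊔ centralizerIn S Q)).mem_fimg_iff.1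
          (huQ.symm ▸ hz)
        rw [← hwe, hv1 w (Subgroup.mem_sup_right hw), hg2 w hw]
    obtain ⟨ψ, hψ', hψe⟩ := hψ.exists_hom
    refine subset_closure ⟨fimg u P, ψ, ⟨u x, apply_mem_fimg u x.2⟩, hψ', ?_⟩
    rw [hψe]
    show u ((x : Ω)⁻¹ * φ x) = (u x)⁻¹ * u (g (v (u x)))
    have hxB : (x : Ω) ∈ Q ⊔ centralizerIn S Q := Subgroup.mem_sup_right (hP x.2)
    have hφB : φ x ∈ Q ⊔ centralizerIn S Q := by
      rw [← toFun_coe φ x]
      exact Subgroup.mem_sup_right (hφC x x.2)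
    rw [hv1 _ (Subgroup.mem_sup_left x.2), hg1 x x.2, toFun_coe,
      hu.map_mul (Subgroup.inv_mem _ hxB) hφB, hu.map_inv hxB]
  | one => rw [hu.map_one]; exact one_mem _
  | mul a b ha hb iha ihb =>
    rw [hu.map_mul (Subgroup.mem_sup_right (focal_le D ha)) (Subgroup.mem_sup_right (focal_le D hb))]
    exact mul_mem iha ihb
  | inv a ha iha =>
    rw [hu.map_inv (Subgroup.mem_sup_right (focal_le D ha))]
    exact Subgroup.inv_mem _ iha

/-- Conjugates of automorphisms in `C_F(Q)` by maps preserving `P` and `Q`. -/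
theorem conj_mem_centralizerSystem {Q P : Subgroup Ω} (hQS : Q ≤ S)
    {u : Ω → Ω} (hu : IsMap F (P ⊔ Q) u) (huQ : fimg u Q = Q) {c φ : MulAut P}
    (hc : ∀ x ∈ P, autFun c x = u x) (hφ : φ ∈ (centralizerSystem F Q hQS).autGroup P)
    (hP : P ≤ centralizerIn S Q) :
    c * φ * c⁻¹ ∈ (centralizerSystem F Q hQS).autGroup P := by
  have hD := isCentralizerSystem_centralizerSystem F hQS
  obtain ⟨-, -, g, hg, hg1, hg2⟩ := (isMap_centralizerSystem hQS hD).1 ((mem_autGroup hP).1 hφ)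
  have hgP : fimg g P = P := by rw [fimg_congr hg1, fimg_autFun]
  have hgm : ∀ z ∈ P ⊔ Q, g z ∈ P ⊔ Q := fun z hz => by
    have h1 := apply_mem_fimg g hz
    rwa [hg.fimg_sup, hgP, fimg_eq_self_of_forall hg2] at h1
  obtain ⟨v, hv, hv1, hv2, -⟩ := hu.exists_inv
  have huP : fimg u P = P := by rw [← fimg_congr hc, fimg_autFun]
  rw [hu.fimg_sup, huP, huQ] at hv hv2
  refine (mem_autGroup hP).2 ((isMap_centralizerSystem hQS hD).2
    ⟨hP, fun x hx => hP (autFun_mem _ hx), fun z => u (g (v z)),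
      (hv.comp hg fun z hz => (hv2 z hz).1).comp hu fun z hz => hgm _ (hv2 z hz).1,
      fun x hx => ?_, fun x hx => ?_⟩)
  · have hy : autFun c⁻¹ x ∈ P := autFun_mem _ hx
    have hvx : v x = autFun c⁻¹ x := by
      conv_lhs => rw [← autFun_one hx, ← mul_inv_cancel c, autFun_mul _ _ hx, hc _ hy,
        hv1 _ (Subgroup.mem_sup_left hy)]
    show u (g (v x)) = _
    rw [hvx, hg1 _ hy, autFun_mul _ _ hx, autFun_mul _ _ hy, hc _ (autFun_mem φ hy)]
  · obtain ⟨w, hw, hwe⟩ := (hu.res (le_sup_right : Q ≤ P ⊔ Q)).mem_fimg_iff.1 (huQ.symm ▸ hx)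
    show u (g (v x)) = x
    rw [← hwe, hv1 w (Subgroup.mem_sup_right hw), hg2 w hw]

variable [Fact p.Prime]

/-- An element of `p`-power order lies in a normal Sylow subgroup. -/
theorem mem_of_normal_sylow {G : Type*} [Group G] [Finite G] (R : Sylow p G)
    [(R : Subgroup G).Normal] {x : G} {k : ℕ} (hx : x ^ p ^ k = 1) : x ∈ (R : Subgroup G) := by
  rw [← QuotientGroup.eq_one_iff]
  have hc : (Nat.card (G ⧸ (R : Subgroup G))).Coprime p :=
    ((Fact.out : p.Prime).coprime_iff_not_dvd.2 R.not_dvd_index).symm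
  exact InvClass.eq_one_of_pow_prime_pow hc (k := k)
    (by rw [← QuotientGroup.mk_pow, hx, QuotientGroup.mk_one])

/-- Stabilizers of a chain `1 ≤ Z ≤ P` with `Z` fixed are induced by the group of the system. -/
theorem mem_autInducedBy_of_stab {U : Subgroup Ω} [Finite U] {D : FusionSystem U}
    (hU : IsPGroup p U) (hD : D.IsSaturated p) {P Z : Subgroup Ω} (hP : D.IsFullyNormalized P)
    (hfix : ∀ φ ∈ D.autGroup P, ∀ x : P, (x : Ω) ∈ Z → φ x = x) {a : MulAut P}
    (ha : a ∈ D.autGroup P) (haZ : ∀ x : P, ((x⁻¹ * a x : P) : Ω) ∈ Z) :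
    a ∈ autInducedBy U P := by
  haveI := finite_of_le hP.1
  let K : Subgroup (D.autGroup P) :=
    { carrier := {k | ∀ x : P, ((x⁻¹ * (k : MulAut P) x : P) : Ω) ∈ Z}
      one_mem' := fun x => by simp
      mul_mem' := fun {a b} ha hb x => by
        show ((x⁻¹ * (a : MulAut P) ((b : MulAut P) x) : P) : Ω) ∈ Z
        rw [show x⁻¹ * (a : MulAut P) ((b : MulAut P) x) = (x⁻¹ * (b : MulAut P) x) *
          (((b : MulAut P) x)⁻¹ * (a : MulAut P) ((b : MulAut P) x)) by group]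
        exact mul_mem (hb x) (ha _)
      inv_mem' := fun {a} ha x => by
        have h2 := ha ((a : MulAut P)⁻¹ x)
        rw [MulAut.apply_inv_self] at h2
        show ((x⁻¹ * (a : MulAut P)⁻¹ x : P) : Ω) ∈ Z
        have h3 := Z.inv_mem h2
        simpa using h3 }
  have hKn : K.Normal := ⟨fun k hk b x => by
    show ((x⁻¹ * (b : MulAut P) ((k : MulAut P) ((b : MulAut P)⁻¹ x)) : P) : Ω) ∈ Z
    have h1 := hk ((b : MulAut P)⁻¹ x)
    have h2 := hfix _ b.2 _ h1
    rw [map_mul, map_inv, MulAut.apply_inv_self] at h2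
    rw [h2]
    exact h1⟩
  have hKp : IsPGroup p K := by
    intro k
    obtain ⟨m, hm⟩ := (hU.to_le hP.1).exists_card_eq
    refine ⟨m, Subtype.ext (Subtype.ext (MulEquiv.ext fun x => ?_))⟩
    rw [SubmonoidClass.coe_pow, SubmonoidClass.coe_pow, ← hm]
    have key : ∀ i, (((k : D.autGroup P) : MulAut P) ^ i) x =
        x * (x⁻¹ * ((k : D.autGroup P) : MulAut P) x) ^ i := by
      intro i
      induction i with
      | zero => simp
      | succ i ih =>
        rw [pow_succ', MulAut.mul_apply, ih, map_mul, map_pow, hfix _ (k : D.autGroup P).2 _ (k.2 x),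
          pow_succ', ← mul_assoc x, mul_inv_cancel_left]
    rw [key, pow_card_eq_one', mul_one]
    rfl
  obtain ⟨-, R, hR⟩ := fullyAutomized_of_fullyNormalized hU hD hP
  obtain ⟨R', hR'⟩ := hKp.exists_le_sylow
  obtain ⟨g, rfl⟩ := MulAction.exists_smul_eq (D.autGroup P) R R'
  have h1 : (g * ⟨a, ha⟩ * g⁻¹ : D.autGroup P) ∈ ((g • R : Sylow p _) : Subgroup (D.autGroup P)) :=
    hR' (hKn.conj_mem ⟨a, ha⟩ haZ g)
  rw [Sylow.coe_subgroup_smul] at h1
  obtain ⟨r, hr, hre⟩ := h1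
  have h2 : r = ⟨a, ha⟩ := (MulAut.conj g).injective (by simpa using hre)
  subst h2
  rw [hR] at hr
  exact hr

/-- The commutator of an automorphism of the system with a central shift is induced by the group of
the system. -/
theorem commutator_mem {U : Subgroup Ω} [Finite U] {D : FusionSystem U} (hU : IsPGroup p U)
    (hD : D.IsSaturated p) {P Z : Subgroup Ω} (hP : D.IsFullyNormalized P)
    (hfix : ∀ φ ∈ D.autGroup P, ∀ x : P, (x : Ω) ∈ Z → φ x = x) {c φ : MulAut P}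
    (hc : ∀ x : P, ((x⁻¹ * c x : P) : Ω) ∈ Z) (hφ : φ ∈ D.autGroup P)
    (hcφ : c * φ⁻¹ * c⁻¹ ∈ D.autGroup P) : φ * c * φ⁻¹ * c⁻¹ ∈ autInducedBy U P := by
  refine mem_autInducedBy_of_stab hU hD hP hfix ?_ fun x => ?_
  · rw [show φ * c * φ⁻¹ * c⁻¹ = φ * (c * φ⁻¹ * c⁻¹) by group]
    exact mul_mem hφ hcφ
  · obtain ⟨y, rfl⟩ := c.surjective x
    show (((c y)⁻¹ * φ (c (φ⁻¹ (c⁻¹ (c y)))) : P) : Ω) ∈ Z
    rw [MulAut.inv_apply_self]
    obtain ⟨w, rfl⟩ := φ.surjective y
    rw [MulAut.inv_apply_self]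
    have h2 := hfix φ hφ _ (hc w)
    rw [map_mul, map_inv] at h2
    rw [show (c (φ w))⁻¹ * φ (c w) =
      ((φ w)⁻¹ * c (φ w))⁻¹ * ((φ w)⁻¹ * φ (c w)) by group, h2]
    exact mul_mem (Z.inv_mem (hc (φ w))) (hc w)

variable [Finite S]

/-- It suffices to compare on the automorphisms of the centric fully normalized subgroups. -/
theorem comm_of_aut {U : Subgroup Ω} [Finite U] {D : FusionSystem U} (hU : IsPGroup p U)
    (hD : D.IsSaturated p) (u : Ω → Ω)
    (h : ∀ P, D.IsCentric P → D.IsFullyNormalized P → ∀ φ ∈ D.autGroup P, ∀ x ∈ P,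
      u (autFun φ x) = autFun φ x * (x⁻¹ * u x)) :
    ∀ P f, IsMap D P f → ∀ x ∈ P, u (f x) = f x * (x⁻¹ * u x) := by
  intro P f hf
  refine alperin hU hD (fun P f => ∀ x ∈ P, u (f x) = f x * (x⁻¹ * u x))
    (fun P f g h e x hx => by rw [← e x hx]; exact h x hx)
    (fun P Q f g _ _ hm h1 h2 x hx => ?_) (fun P Q f _ hPQ h x hx => h x (hPQ hx))
    (h U (centric_self D) (fullyNormalized_self D)) (fun P hP => h P hP.1 hP.2.1) hf
  show u (g (f x)) = g (f x) * (x⁻¹ * u x)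
  rw [h2 _ (hm x hx), h1 x hx, inv_mul_cancel_left]

/-- A centric subgroup of `C_F(Q)`, `Q` fully normalized, gives a centric subgroup of `F`. -/
theorem centric_sup (hS : IsPGroup p S) (hF : F.IsSaturated p) {Q : Subgroup Ω}
    (hQ : F.IsFullyNormalized Q) {P : Subgroup Ω}
    (hP : (centralizerSystem F Q hQ.1).IsCentric P) : F.IsCentric (P ⊔ Q) := by
  have hQS := hQ.1
  have hD := isCentralizerSystem_centralizerSystem F hQS
  have hPC := hP.1
  refine ⟨sup_le (hPC.trans inf_le_left) hQS, fun R hR => ?_⟩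
  obtain ⟨f, hf, rfl⟩ := isConj_iff.1 hR
  obtain ⟨h, hh, hhQ, -⟩ := exists_map_to_fullyNormalized hS hF hQ
    (isConj_symm (hf.res le_sup_right).isConj)
  have hfP : ∀ x ∈ P, f x ∈ centralizerIn S (fimg f Q) := fun x hx =>
    hf.map_centralizerIn le_sup_right (Subgroup.mem_sup_left hx) (hPC hx).2
  have hfm : ∀ z ∈ P ⊔ Q, f z ∈ normalizerIn S (fimg f Q) := fun z hz => by
    have h1 := apply_mem_fimg f hz
    rw [hf.fimg_sup] at h1
    exact sup_le (fimg_le fun x hx => centralizerIn_le_normalizerIn _ (hfP x hx))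
      (le_normalizerIn (hf.res le_sup_right).fimg_le_S) h1
  have hQN := le_normalizerIn (S := S) (hf.res le_sup_right : IsMap F Q f).fimg_le_S
  have hhC : ∀ x ∈ centralizerIn S (fimg f Q), h x ∈ centralizerIn S Q := fun x hx =>
    hhQ ▸ hh.map_centralizerIn hQN (centralizerIn_le_normalizerIn _ hx) hx.2
  have hm := hf.comp hh hfm
  have hmQ : fimg (fun z => h (f z)) Q = Q := by
    rw [(hf.res le_sup_right).fimg_comp, hhQ]
  obtain ⟨β, hβ, hβe⟩ := (hm.res le_sup_right).exists_aut hmQ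
  obtain ⟨b, hb, hbe⟩ := receptive_extend (receptive_of_fullyNormalized hS hF hQ)
    ((mem_autGroup hQS).1 (inv_mem hβ)) (fimg_autFun β⁻¹) (N := Q ⊔ centralizerIn S Q) (fun z hz => by
      refine ⟨sup_le (le_normalizerIn hQS) (centralizerIn_le_normalizerIn Q) hz, ?_⟩
      obtain ⟨q, hq, c, hc, rfl⟩ : z ∈ (Q : Set Ω) * (centralizerIn S Q : Set Ω) := by
        rw [← Subgroup.coe_mul_of_right_le_normalizer_left Q (centralizerIn S Q)
          ((centralizerIn_le_normalizerIn (S := S) Q).trans inf_le_right)]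
        exact hz
      have hβm := (mem_autGroup (F := F) hQS).1 (inv_mem hβ)
      refine ⟨autFun β⁻¹ q, hQS (autFun_mem _ hq), fun x hx => ?_⟩
      rw [show q * c * x * (q * c)⁻¹ = q * (c * x * c⁻¹) * q⁻¹ by group,
        show c * x * c⁻¹ = x by rw [← (mem_centralizerIn.1 hc).2 x hx, mul_inv_cancel_right],
        hβm.map_conj hq hx]) le_sup_left
  have hbC : ∀ x ∈ centralizerIn S Q, b x ∈ centralizerIn S Q := fun x hx => by
    have h1 := hb.map_centralizerIn le_sup_left (Subgroup.mem_sup_right hx) hx.2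
    rwa [fimg_congr hbe, fimg_autFun] at h1
  have hmm : ∀ z ∈ P ⊔ Q, h (f z) ∈ Q ⊔ centralizerIn S Q := fun z hz => by
    have h1 := apply_mem_fimg (fun z => h (f z)) hz
    rw [hm.fimg_sup, hmQ] at h1
    exact sup_le ((fimg_le fun x hx => hhC _ (hfP x hx)).trans le_sup_right) le_sup_left h1
  have hk : IsMap (centralizerSystem F Q hQS) P (fun z => b (h (f z))) := by
    refine (isMap_centralizerSystem hQS hD).2 ⟨hPC, fun x hx => hbC _ (hhC _ (hfP x hx)),
      _, hm.comp hb hmm, fun _ _ => rfl, fun x hx => ?_⟩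
    rw [hbe _ (hmQ ▸ apply_mem_fimg (fun z => h (f z)) hx), ← hβe x hx, autFun_inv_apply β hx]
  intro c hc
  obtain ⟨hcS, hcc⟩ := mem_centralizerIn.1 hc
  have hcQ : c ∈ centralizerIn S (fimg f Q) :=
    mem_centralizerIn.2 ⟨hcS, fun y hy => hcc y (fimg_mono f le_sup_right hy)⟩
  have h1 : b (h c) ∈ fimg (fun z => b (h (f z))) P := by
    refine hP.2 _ hk.isConj (mem_centralizerIn.2 ⟨hbC _ (hhC c hcQ), fun y hy => ?_⟩)
    obtain ⟨x, hx, rfl⟩ := hk.mem_fimg_iff.1 hy
    have hxN := hfm x (Subgroup.mem_sup_left hx)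
    have hcN := centralizerIn_le_normalizerIn _ hcQ
    rw [← hb.map_mul (hmm x (Subgroup.mem_sup_left hx)) (Subgroup.mem_sup_right (hhC c hcQ)),
      ← hb.map_mul (Subgroup.mem_sup_right (hhC c hcQ)) (hmm x (Subgroup.mem_sup_left hx)),
      ← hh.map_mul hxN hcN, ← hh.map_mul hcN hxN, hcc _ (apply_mem_fimg f (Subgroup.mem_sup_left hx))]
  obtain ⟨x, hx, hxe⟩ := hk.mem_fimg_iff.1 h1
  have h2 := hb.injOn (hmm x (Subgroup.mem_sup_left hx)) (Subgroup.mem_sup_right (hhC c hcQ)) hxe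
  rw [← hh.injOn (hfm x (Subgroup.mem_sup_left hx)) (centralizerIn_le_normalizerIn _ hcQ) h2]
  exact apply_mem_fimg f (Subgroup.mem_sup_left hx)

variable {T : Subgroup Ω}

/-- Elements of a strongly closed subgroup normalizing `Q` fix the focal subgroup of `C_F(Q)`. -/
theorem conj_fix_focal (hS : IsPGroup p S) (hF : F.IsSaturated p) (hT : F.StronglyClosed T)
    {Q : Subgroup Ω} (hQc : centralizerIn T Q ≤ Q) (hQn : F.IsFullyNormalized Q)
    {t : Ω} (ht : t ∈ T) (htQ : t ∈ Subgroup.normalizer (Q : Set Ω)) :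
    ∀ y ∈ (centralizerSystem F Q hQn.1).focalSubgroup, t * y * t⁻¹ = y := by
  have hQS := hQn.1
  have hTS := hT.1
  set U := centralizerIn S Q with hUdef
  set D := centralizerSystem F Q hQS with hDdef
  have hDc := isCentralizerSystem_centralizerSystem F hQS
  haveI : Finite ↥U := finite_of_le (S := S) inf_le_left
  have hUp : IsPGroup p U := hS.to_le inf_le_left
  have hDs : D.IsSaturated p :=
    isSaturated_centralizerSystem hS hF (fullyCentralized_of_fullyNormalized hS hF hQn) hDc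
  set Z := Q ⊓ U
  have hshift : ∀ s ∈ T, s ∈ Subgroup.normalizer (Q : Set Ω) → ∀ x ∈ U,
      x⁻¹ * (s * x * s⁻¹) ∈ Z := by
    intro s hs hsQ x hx
    obtain ⟨hxS, hxc⟩ := mem_centralizerIn.1 hx
    have h1 : x⁻¹ * (s * x * s⁻¹) ∈ T := by
      have := T.mul_mem (StronglyClosed.conj_mem' hT (S.inv_mem hxS) hs) (T.inv_mem hs)
      rwa [inv_inv, show x⁻¹ * s * x * s⁻¹ = x⁻¹ * (s * x * s⁻¹) by group] at this
    have h2 : s * x * s⁻¹ ∈ U := by
      refine mem_centralizerIn.2 ⟨S.mul_mem (S.mul_mem (hTS hs) hxS) (S.inv_mem (hTS hs)), fun y hy => ?_⟩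
      have hy' := (Subgroup.mem_normalizer_iff''.1 hsQ y).1 hy
      calc y * (s * x * s⁻¹) = s * (s⁻¹ * y * s * x) * s⁻¹ := by group
        _ = s * (x * (s⁻¹ * y * s)) * s⁻¹ := by rw [hxc _ hy']
        _ = s * x * s⁻¹ * y := by group
    have h3 : x⁻¹ * (s * x * s⁻¹) ∈ U := U.mul_mem (U.inv_mem hx) h2
    exact ⟨hQc ⟨h1, h3.2⟩, h3⟩
  have hcomm : ∀ z ∈ Z, ∀ y ∈ U, z * y = y * z := fun z hz y hy =>
    (mem_centralizerIn.1 hy).2 z hz.1
  refine fun y hy => focal_fix D (u := fun x => t * x * t⁻¹) (fun a _ b _ => by group)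
    (fun x hx y hy => hcomm _ (hshift t ht htQ x hx) y hy)
    (comm_of_aut hUp hDs (fun x => t * x * t⁻¹) ?_) y hy
  intro P hP hPn φ hφ
  have hPU := hP.1
  have hZP : Z ≤ P := fun z hz => centralizerIn_le_of_centric hP
    (mem_centralizerIn.2 ⟨hz.2, fun y hy => (hcomm z hz y (hPU hy)).symm⟩)
  have htP : t ∈ Subgroup.normalizer (P : Set Ω) := mem_normalizer_of_forall
    (fun x hx => by
      have h1 := P.mul_mem hx (hZP (hshift t ht htQ x (hPU hx)))
      rwa [mul_inv_cancel_left] at h1)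
    (fun x hx => by
      have h1 := P.mul_mem hx (hZP (hshift _ (T.inv_mem ht) (Subgroup.inv_mem _ htQ) x (hPU hx)))
      rwa [inv_inv, mul_inv_cancel_left] at h1)
  let c : MulAut P := P.normalizerMonoidHom ⟨t, htP⟩
  have hc : ∀ x ∈ P, autFun c x = t * x * t⁻¹ := fun x hx => autFun_coe c ⟨x, hx⟩
  have htQ' : fimg (fun x => t * x * t⁻¹) Q = Q := le_antisymm
    (fimg_le fun x hx => (Subgroup.mem_normalizer_iff.1 htQ x).1 hx)
    fun x hx => mem_fimg_conj.2 ((Subgroup.mem_normalizer_iff''.1 htQ x).1 hx)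
  have hPS : P ⊔ Q ≤ S := sup_le (hPU.trans inf_le_left) hQS
  have hfix : ∀ ψ ∈ D.autGroup P, ∀ x : P, (x : Ω) ∈ Z → ψ x = x := fun ψ hψ x hx => by
    obtain ⟨-, -, g, -, hg1, hg2⟩ := (isMap_centralizerSystem hQS hDc).1 ((mem_autGroup hPU).1 hψ)
    refine Subtype.ext ?_
    rw [← autFun_coe ψ x, ← hg1 x x.2, hg2 x hx.1]
  have hmem := commutator_mem hUp hDs hPn hfix (c := c) (φ := φ)
    (fun x => hshift t ht htQ x (hPU x.2)) hφ
    (conj_mem_centralizerSystem hQS (isMap_conj F hPS (hTS ht)) htQ' hc (inv_mem hφ) hPU)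
  obtain ⟨s, hs, hse⟩ := mem_autInducedBy.1 hmem
  obtain ⟨-, -, g, hg, hg1, hg2⟩ := (isMap_centralizerSystem hQS hDc).1 ((mem_autGroup hPU).1 hφ)
  set R := P ⊔ Q with hRdef
  have hgR : fimg g R = R := by
    rw [hg.fimg_sup, fimg_congr hg1, fimg_autFun, fimg_eq_self_of_forall hg2]
  obtain ⟨Φ, hΦ, hΦe⟩ := hg.exists_hom
  have hΦr : Φ.range = R := (hg.range_eq_fimg hΦe).trans hgR
  have htR : t ∈ Subgroup.normalizer (R : Set Ω) := by
    refine mem_normalizer_of_forall (fun x hx => ?_) fun x hx => ?_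
    · have h1 := apply_mem_fimg (fun y => t * y * t⁻¹) hx
      rwa [hRdef, (isMap_conj F hPS (hTS ht)).fimg_sup, htQ', ← fimg_congr hc, fimg_autFun] at h1
    · have h2 : x ∈ fimg (fun y => t * y * t⁻¹) R := by
        rw [hRdef, (isMap_conj F hPS (hTS ht)).fimg_sup, htQ', ← fimg_congr hc, fimg_autFun]
        exact hx
      exact mem_fimg_conj.1 h2
  have hst : ∀ x ∈ R, g (t * x * t⁻¹) = s * t * g x * (s * t)⁻¹ := by
    have hsS : s * t ∈ S := S.mul_mem hs.1 (hTS ht)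
    intro x hx
    rw [hRdef, Subgroup.sup_eq_closure] at hx
    induction hx using Subgroup.closure_induction with
    | mem x hx =>
      rcases hx with hx | hx
      · have h1 := hse (c (φ ⟨x, hx⟩))
        simp only [MulAut.mul_apply, MulAut.inv_apply_self] at h1
        rw [hg1 x hx, hg1 _ ((Subgroup.mem_normalizer_iff.1 htP x).1 hx),
          show autFun φ x = ((φ ⟨x, hx⟩ : P) : Ω) from autFun_coe φ ⟨x, hx⟩,
          show autFun φ (t * x * t⁻¹) = ((φ (c ⟨x, hx⟩) : P) : Ω) from autFun_coe φ (c ⟨x, hx⟩), h1]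
        show s * (t * _ * t⁻¹) * s⁻¹ = _
        group
      · have hy := (Subgroup.mem_normalizer_iff.1 htQ x).1 hx
        rw [hg2 x hx, hg2 _ hy]
        calc t * x * t⁻¹ = s * (t * x * t⁻¹) * s⁻¹ := by
              rw [← (mem_centralizerIn.1 hs).2 _ hy, mul_inv_cancel_right]
          _ = s * t * x * (s * t)⁻¹ := by group
    | one => rw [mul_one, mul_inv_cancel, hg.map_one, mul_one, mul_inv_cancel]
    | mul a b ha hb iha ihb =>
      have ha' : a ∈ R := by rw [hRdef, Subgroup.sup_eq_closure]; exact ha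
      have hb' : b ∈ R := by rw [hRdef, Subgroup.sup_eq_closure]; exact hb
      have hta := (Subgroup.mem_normalizer_iff.1 htR a).1 ha'
      have htb := (Subgroup.mem_normalizer_iff.1 htR b).1 hb'
      rw [show t * (a * b) * t⁻¹ = t * a * t⁻¹ * (t * b * t⁻¹) by group, hg.map_mul hta htb,
        iha, ihb, hg.map_mul ha' hb']
      group
    | inv a ha iha =>
      have ha' : a ∈ R := by rw [hRdef, Subgroup.sup_eq_closure]; exact ha
      have hta := (Subgroup.mem_normalizer_iff.1 htR a).1 ha'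
      rw [show t * a⁻¹ * t⁻¹ = (t * a * t⁻¹)⁻¹ by group, hg.map_inv hta, iha, hg.map_inv ha']
      group
  have hRc := centric_sup hS hF hQn hP
  obtain ⟨ψ, hψ, hψe⟩ := (receptive_of_fullyCentralized hS hF
    (fullyCentralized_of_centric hRc)).2 R Φ hΦ hΦr
  have htN : t ∈ extender S R Φ := mem_extender.2 ⟨hTS ht, htR, s * t, S.mul_mem hs.1 (hTS ht),
    fun x hx => by
      rw [toFun_apply Φ hx, toFun_apply Φ ((Subgroup.mem_normalizer_iff.1 htR x).1 hx), hΦe, hΦe]
      exact hst x hx⟩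
  have hRN : R ≤ extender S R Φ := le_extender hΦ
  have hψR : ∀ x ∈ R, toFun ψ x = g x := fun x hx => by
    rw [toFun_apply ψ (hRN hx), hψe x hx, hΦe]
  have hψm := isMap_toFun hψ
  set t' := toFun ψ t
  have ht'T : t' ∈ T := StronglyClosed.apply_mem hT
    (hψm.res (Subgroup.zpowers_le.2 htN)) (Subgroup.zpowers_le.2 ht) (mem_zpowers t)
  have hconj : ∀ x ∈ R, g (t * x * t⁻¹) = t' * g x * t'⁻¹ := fun x hx => by
    rw [← hψR _ ((Subgroup.mem_normalizer_iff.1 htR x).1 hx), hψm.map_conj htN (hRN hx), hψR x hx]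
  have hd : t⁻¹ * t' ∈ centralizerIn T Q := by
    refine mem_centralizerIn.2 ⟨T.mul_mem (T.inv_mem ht) ht'T, fun q hq => ?_⟩
    have h1 := hconj q (Subgroup.mem_sup_right hq)
    rw [hg2 q hq, hg2 _ ((Subgroup.mem_normalizer_iff.1 htQ q).1 hq)] at h1
    calc q * (t⁻¹ * t') = t⁻¹ * (t * q * t⁻¹) * t' := by group
      _ = t⁻¹ * (t' * q * t'⁻¹) * t' := by rw [h1]
      _ = t⁻¹ * t' * q := by group
  intro x hx
  have hxR : x ∈ R := Subgroup.mem_sup_left hx
  have hφx : autFun φ x ∈ U := hPU (autFun_mem φ hx)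
  have h1 := hconj x hxR
  have hzx := hshift t ht htQ x (hPU hx)
  rw [show t * x * t⁻¹ = x * (x⁻¹ * (t * x * t⁻¹)) by group,
    hg.map_mul hxR (Subgroup.mem_sup_right hzx.1), hg2 _ hzx.1, hg1 x hx] at h1
  show t * autFun φ x * t⁻¹ = autFun φ x * (x⁻¹ * (t * x * t⁻¹))
  rw [h1]
  have h2 : t⁻¹ * t' * autFun φ x = autFun φ x * (t⁻¹ * t') :=
    (mem_centralizerIn.1 hφx).2 _ (hQc hd)
  calc t * autFun φ x * t⁻¹ = t * (autFun φ x * (t⁻¹ * t')) * t'⁻¹ := by group
    _ = t * (t⁻¹ * t' * autFun φ x) * t'⁻¹ := by rw [h2]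
    _ = t' * autFun φ x * t'⁻¹ := by group

/-- An automorphism of order prime to `p` acting trivially modulo `Z(T)` on `C_S(T)` fixes the
focal subgroup of `C_F(T)`. -/
theorem aut_fix_focal (hS : IsPGroup p S) (hF : F.IsSaturated p) (hT : F.StronglyClosed T)
    (hTn : F.IsFullyNormalized T) {β : MulAut ↥(T ⊔ centralizerIn S T)}
    (hβ : β ∈ F.autGroup (T ⊔ centralizerIn S T)) (hβT : fimg (autFun β) T = T)
    (hfix : ∀ c ∈ centralizerIn S T, c⁻¹ * autFun β c ∈ T ⊓ Subgroup.centralizer (T : Set Ω))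
    {m : ℕ} (hm : m.Coprime p) (hord : β ^ m = 1) :
    ∀ y ∈ (centralizerSystem F T hT.1).focalSubgroup, autFun β y = y := by
  have hTS := hT.1
  set D := centralizerSystem F T hTS with hDdef
  have hDc := isCentralizerSystem_centralizerSystem F hTS
  haveI : Finite ↥(centralizerIn S T) := finite_of_le (S := S) inf_le_left
  have hUp : IsPGroup p (centralizerIn S T) := hS.to_le inf_le_left
  have hDs : D.IsSaturated p :=
    isSaturated_centralizerSystem hS hF (fullyCentralized_of_fullyNormalized hS hF hTn) hDc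
  set Z := T ⊓ Subgroup.centralizer (T : Set Ω)
  have hZU : Z ≤ (centralizerIn S T) := fun z hz => ⟨hTS hz.1, hz.2⟩
  have hcomm : ∀ z ∈ Z, ∀ y ∈ (centralizerIn S T), z * y = y * z := fun z hz y hy =>
    (mem_centralizerIn.1 hy).2 z hz.1
  have hBS : T ⊔ (centralizerIn S T) ≤ S := sup_le hTS inf_le_left
  have hβm : IsMap F (T ⊔ (centralizerIn S T)) (autFun β) := (mem_autGroup hBS).1 hβ
  refine fun y hy => focal_fix D (u := autFun β)
    (fun a ha b hb => hβm.map_mul (Subgroup.mem_sup_right ha) (Subgroup.mem_sup_right hb))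
    (fun x hx y hy => hcomm _ (hfix x hx) y hy) (comm_of_aut hUp hDs (autFun β) ?_) y hy
  intro P hP hPn φ hφ
  have hPU := hP.1
  have hZP : Z ≤ P := fun z hz => centralizerIn_le_of_centric hP
    (mem_centralizerIn.2 ⟨hZU hz, fun y hy => (hcomm z hz y (hPU hy)).symm⟩)
  haveI := finite_of_le hPU
  have hPm := hβm.res (hPU.trans le_sup_right)
  have hβP : fimg (autFun β) P = P := by
    refine Subgroup.eq_of_le_of_card_ge (fimg_le fun x hx => ?_) hPm.card_fimg.ge
    have h1 := P.mul_mem hx (hZP (hfix x (hPU hx)))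
    rwa [mul_inv_cancel_left] at h1
  obtain ⟨c, -, hc⟩ := hPm.exists_aut hβP
  have hPT : P ⊔ T ≤ T ⊔ (centralizerIn S T) := sup_le (hPU.trans le_sup_right) le_sup_left
  have hfixZ : ∀ ψ ∈ D.autGroup P, ∀ x : P, (x : Ω) ∈ Z → ψ x = x := fun ψ hψ x hx => by
    obtain ⟨-, -, g, -, hg1, hg2⟩ := (isMap_centralizerSystem hTS hDc).1 ((mem_autGroup hPU).1 hψ)
    refine Subtype.ext ?_
    rw [← autFun_coe ψ x, ← hg1 x x.2, hg2 x hx.1]
  have hshift : ∀ x : P, ((x⁻¹ * c x : P) : Ω) ∈ Z := fun x => by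
    show (x : Ω)⁻¹ * (c x : Ω) ∈ Z
    rw [← autFun_coe c x, hc x x.2]
    exact hfix x (hPU x.2)
  have hmem := commutator_mem hUp hDs hPn hfixZ hshift hφ
    (conj_mem_centralizerSystem hTS (hβm.res hPT) hβT hc (inv_mem hφ) hPU)
  set a := φ * c * φ⁻¹ * c⁻¹ with ha
  obtain ⟨s, hs, hse⟩ := mem_autInducedBy.1 hmem
  have hca : c * a * c⁻¹ = a := by
    refine MulEquiv.ext fun x => Subtype.ext ?_
    obtain ⟨y, rfl⟩ := c.surjective x
    show ((c (a (c⁻¹ (c y))) : P) : Ω) = a (c y)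
    rw [MulAut.inv_apply_self, hse, ← autFun_coe c, ← autFun_coe c, hse,
      hc _ (hse y ▸ (a y).2), hc _ y.2]
    have hsB : s ∈ T ⊔ (centralizerIn S T) := Subgroup.mem_sup_right hs
    have hyB : (y : Ω) ∈ T ⊔ (centralizerIn S T) := Subgroup.mem_sup_right (hPU y.2)
    rw [hβm.map_conj hsB hyB]
    have hz := hfix s hs
    have hyU : autFun β (y : Ω) ∈ (centralizerIn S T) := by
      rw [← hc _ y.2]
      exact hPU (autFun_mem c y.2)
    calc autFun β s * autFun β y * (autFun β s)⁻¹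
        = s * (s⁻¹ * autFun β s * autFun β y) * (autFun β s)⁻¹ := by group
      _ = s * (autFun β y * (s⁻¹ * autFun β s)) * (autFun β s)⁻¹ := by rw [hcomm _ hz _ hyU]
      _ = s * autFun β y * s⁻¹ := by group
  have hcm : c ^ m = 1 := mulAut_ext fun x hx => by
    rw [autFun_one hx, ← autFun_pow_eq (hPU.trans le_sup_right) (β := β) (α := c)
      (fun x hx => (hc x hx).symm) m x hx, hord, autFun_one (hPT (Subgroup.mem_sup_left hx))]
  have hac : (a * c) ^ m = 1 := by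
    rw [ha, inv_mul_cancel_right, ← MulAut.conj_apply φ c, ← map_pow, hcm, map_one]
  have hca' : Commute a c := by
    have h1 : c * a = a * c := by rw [← mul_inv_eq_iff_eq_mul]; exact hca
    exact h1.symm
  rw [hca'.mul_pow, hcm, mul_one] at hac
  obtain ⟨k, hk⟩ := isPGroup_autInducedBy hUp P ⟨a, hmem⟩
  have ha1 : a = 1 := by
    have hk' : a ^ p ^ k = 1 := (SubmonoidClass.coe_pow _ _).symm.trans (congrArg Subtype.val hk)
    rw [← orderOf_eq_one_iff]
    exact Nat.eq_one_of_dvd_coprimes (hm.pow_right k) (orderOf_dvd_of_pow_eq_one hac)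
      (orderOf_dvd_of_pow_eq_one hk')
  intro x hx
  have h3 : φ (c ⟨x, hx⟩) = c (φ ⟨x, hx⟩) := by
    have h4 : φ * c = c * φ := by
      rw [ha, mul_inv_eq_one, mul_inv_eq_iff_eq_mul] at ha1
      exact ha1
    exact congrArg (fun e : MulAut P => e ⟨x, hx⟩) h4
  have hz : x⁻¹ * autFun β x ∈ Z := hfix x (hPU hx)
  have hφm : IsMap D P (autFun φ) := (mem_autGroup hPU).1 hφ
  rw [← hc _ (autFun_mem φ hx), show autFun φ x = ((φ ⟨x, hx⟩ : P) : Ω) from autFun_coe φ ⟨x, hx⟩,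
    autFun_coe, ← h3, ← autFun_coe φ, ← autFun_coe φ, ← autFun_coe c ⟨x, hx⟩, hc x hx]
  show autFun φ (autFun β x) = _
  conv_lhs => rw [show autFun β x = x * (x⁻¹ * autFun β x) by group]
  rw [hφm.map_mul hx (hZP hz), show autFun φ (x⁻¹ * autFun β x) = x⁻¹ * autFun β x from
    (autFun_coe φ ⟨_, hZP hz⟩).trans (congrArg Subtype.val (hfixZ φ hφ ⟨_, hZP hz⟩ hz))]

end Cfsg.Agent.Fus.FocalCent
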