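import Cfsg.Agent.Lib.Fus.PPowerUnique
import Cfsg.Agent.Lib.Fus.InvariantIff

/-!
The saturated subsystem of `p`-power index over a normal subgroup containing the hyperfocal
subgroup is normal.
-/

set_option autoImplicit false
set_option linter.style.haveILetI false

open scoped Classical

namespace Cfsg.Agent.Fus

open Subgroup FusionSystem

universe u

variable {Ω : Type u} [Group Ω] {S : Subgroup Ω} {F : FusionSystem S}

/-- The homomorphism induced on the automorphism groups by a map `w` defined on an invariant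
subgroup `R` of `P`. -/
theorem exists_induced_hom [Finite S] {P R : Subgroup Ω} {w : Ω → Ω} (hP : P ≤ S)
    (hw : IsMap F R w) (hRP : R ≤ P)
    (hinv : ∀ β ∈ F.autGroup P, ∀ x ∈ R, autFun β x ∈ R) {Q : Subgroup Ω} (hQ : fimg w R = Q) :
    ∃ Φ : F.autGroup P →* F.autGroup Q,
      ∀ (β : F.autGroup P), ∀ x ∈ R,
        autFun (Φ β : MulAut Q) (w x) = w (autFun (β : MulAut P) x) := by
  subst hQ
  obtain ⟨w', hw', hw1, hw2, -⟩ := hw.exists_inv
  haveI := finite_of_le hw.source_le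
  have hex : ∀ β : F.autGroup P, ∃ γ : F.autGroup (fimg w R),
      ∀ y ∈ fimg w R, autFun (γ : MulAut (fimg w R)) y = w (autFun (β : MulAut P) (w' y)) := by
    intro β
    have hm : IsMap F (fimg w R) (fun y => w (autFun (β : MulAut P) (w' y))) :=
      (hw'.comp (((mem_autGroup hP).1 β.2).res hRP) fun y hy => (hw2 y hy).1).comp hw
        fun y hy => hinv _ β.2 _ (hw2 y hy).1
    haveI := finite_of_le hw.fimg_le_S
    obtain ⟨γ, hγ, e⟩ := hm.exists_aut (Subgroup.eq_of_le_of_card_ge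
      (fimg_le fun y hy => apply_mem_fimg w (hinv _ β.2 _ (hw2 y hy).1)) hm.card_fimg.ge)
    exact ⟨⟨γ, hγ⟩, e⟩
  choose g hg using hex
  refine ⟨MonoidHom.mk' g fun β β' => Subtype.ext (mulAut_ext fun y hy => ?_), fun β x hx => ?_⟩
  · have hx := (hw2 y hy).1
    have h1 := hinv _ β'.2 _ hx
    rw [hg _ y hy, Subgroup.coe_mul, Subgroup.coe_mul, autFun_mul _ _ hy,
      autFun_mul _ _ (hRP hx), hg β' y hy, hg β _ (apply_mem_fimg w h1), hw1 _ h1]
  · show autFun (g β : MulAut (fimg w R)) (w x) = _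
    rw [hg β _ (apply_mem_fimg w hx), hw1 x hx]

variable {p : ℕ} [Fact p.Prime] {T : Subgroup Ω}

omit [Fact p.Prime] in
theorem exists_induced_pResidual [Finite S] {P R : Subgroup Ω} {w : Ω → Ω} (hP : P ≤ S)
    (hw : IsMap F R w) (hRP : R ≤ P)
    (hinv : ∀ β ∈ F.autGroup P, ∀ x ∈ R, autFun β x ∈ R) {Q : Subgroup Ω} (hQ : fimg w R = Q)
    {β : F.autGroup P} (hβ : β ∈ pResidual p (F.autGroup P)) :
    ∃ β' : F.autGroup Q, β' ∈ pResidual p (F.autGroup Q) ∧
      ∀ x ∈ R, autFun (β' : MulAut Q) (w x) = w (autFun (β : MulAut P) x) := by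
  obtain ⟨Φ, hΦ⟩ := exists_induced_hom hP hw hRP hinv hQ
  exact ⟨Φ β, Transfer.pResidual_map_le Φ ⟨β, hβ, rfl⟩, hΦ β⟩

/-- A normal subgroup of `S` containing the hyperfocal subgroup is strongly closed. -/
theorem stronglyClosed_of_hyperfocal_le [Finite S] (hS : IsPGroup p S) (hF : F.IsSaturated p)
    (hTS : T ≤ S) (hTn : (T.subgroupOf S).Normal) (hT : F.hyperfocalSubgroup p ≤ T) :
    F.StronglyClosed T := by
  refine ⟨hTS, fun R hR φ hφ x => ?_⟩
  obtain ⟨s, hs, h⟩ := exists_conj_congr hS hF (isMap_toFun hφ)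
  have h1 := T.mul_mem
    (show s * (x : Ω) * s⁻¹ ∈ T from hTn.conj_mem ⟨x, hTS (hR x.2)⟩ (hR x.2) ⟨s, hs⟩)
    (hT (h x x.2))
  rw [toFun_coe] at h1
  rwa [show s * (x : Ω) * s⁻¹ * ((s * (x : Ω) * s⁻¹)⁻¹ * φ x) = φ x by group] at h1

/-- The saturated subsystem of `p`-power index over `T ⊴ S`, `T ≥ hyp(F)`, is normal. -/
theorem isNormalIn_of_pPowerIndex [Finite S] (hS : IsPGroup p S) (hF : F.IsSaturated p)
    (hTS : T ≤ S) (hTn : (T.subgroupOf S).Normal) (hT : F.hyperfocalSubgroup p ≤ T)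
    {E : FusionSystem T} (hEs : E.IsSaturated p) (hEi : E.HasPPowerIndexIn F p) :
    E.IsNormalIn F p := by
  haveI : Finite T := finite_of_le hTS
  have hTp : IsPGroup p T := hS.to_le hTS
  have hTsc := stronglyClosed_of_hyperfocal_le hS hF hTS hTn hT
  have hEF := hEi.1
  have hTfn : F.IsFullyNormalized T := by
    refine ⟨hTS, fun Q hQ => ?_⟩
    obtain ⟨g, hg, rfl⟩ := isConj_iff.1 hQ
    rw [fimg_stronglyClosed hTsc hg le_rfl]
  -- maps of `E` are transported by the automorphisms of `T`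
  have hinvT : ∀ {P : Subgroup Ω} {f : Ω → Ω}, IsMap E P f → ∀ α ∈ F.autGroup T,
      ∃ k, IsMap E (fimg (autFun α) P) k ∧ ∀ x ∈ P, k (autFun α x) = autFun α (f x) := by
    intro P f hf α hα
    have hαm : IsMap F T (autFun α) := (mem_autGroup hTS).1 hα
    have key : ∀ Q, E.IsFullyNormalized Q → ∀ β ∈ E.autGroup Q,
        ∃ k, IsMap E (fimg (autFun α) Q) k ∧
          ∀ x ∈ Q, k (autFun α x) = autFun α (autFun β x) := by
      intro Q hQ β hβ
      obtain ⟨g, hg, ρ, hρ, e⟩ :=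
        aut_decomp (fullyAutomized_of_fullyNormalized hTp hEs hQ) ⟨β, hβ⟩
      have hρF : Subgroup.inclusion (autGroup_mono hEF Q) ρ ∈ pResidual p (F.autGroup Q) :=
        Transfer.pResidual_map_le (Subgroup.inclusion (autGroup_mono hEF Q)) ⟨ρ, hρ, rfl⟩
      obtain ⟨β', hβ', he⟩ := exists_induced_pResidual (hQ.1.trans hTS) (hαm.res hQ.1) le_rfl
        (fun γ _ x hx => autFun_mem γ hx) rfl hρF
      have hQT : fimg (autFun α) Q ≤ T := fimg_le fun x hx => autFun_mem α (hQ.1 hx)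
      have hβ'm : IsMap E (fimg (autFun α) Q) (autFun (β' : MulAut _)) :=
        (mem_autGroup hQT).1 (hEi.2.2 _ hQT (Subgroup.mem_map_of_mem _ hβ'))
      refine ⟨_, hβ'm.comp (isMap_conj E hQT (g := autFun α g) (autFun_mem α hg))
        fun y hy => autFun_mem _ hy, fun x hx => ?_⟩
      show autFun α g * autFun (β' : MulAut ↥(fimg (autFun α) Q)) (autFun α x) * (autFun α g)⁻¹ = _
      rw [he x hx, e x hx]
      exact (hαm.map_conj hg (hQ.1 (autFun_mem (ρ : MulAut Q) hx))).symm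
    refine alperin hTp hEs (fun P f => ∃ k, IsMap E (fimg (autFun α) P) k ∧
      ∀ x ∈ P, k (autFun α x) = autFun α (f x)) ?_ ?_ ?_
      (fun β hβ => key T (fullyNormalized_self E) β hβ) (fun Q hQ => key Q hQ.2.1) hf
    · rintro P f g ⟨k, hk, h⟩ e
      exact ⟨k, hk, fun x hx => by rw [← e x hx]; exact h x hx⟩
    · rintro P Q f g hPf hQg hfQ ⟨k, hk, h⟩ ⟨l, hl, h'⟩
      refine ⟨_, hk.comp hl fun y hy => ?_, fun x hx => ?_⟩
      · obtain ⟨x, hx, rfl⟩ := (hαm.res hPf.source_le).mem_fimg_iff.1 hy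
        rw [h x hx]
        exact apply_mem_fimg _ (hfQ x hx)
      · show l (k (autFun α x)) = _
        rw [h x hx, h' _ (hfQ x hx)]
    · rintro P Q f - hPQ ⟨k, hk, h⟩
      exact ⟨k, hk.res (fimg_mono _ hPQ), fun x hx => h x (hPQ hx)⟩
  -- Frattini decomposition
  have hdec : ∀ {P : Subgroup Ω} {f : Ω → Ω}, IsMap F P f → Dec F E (P ⊓ T) f := by
    intro P f hf
    have key : ∀ Q, F.IsFullyNormalized Q → ∀ β ∈ F.autGroup Q,
        Dec F E (Q ⊓ T) (autFun β) := by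
      intro Q hQ β hβ
      obtain ⟨g, hg, ρ, hρ, e⟩ :=
        aut_decomp (fullyAutomized_of_fullyNormalized hS hF hQ) ⟨β, hβ⟩
      obtain ⟨β', hβ', he⟩ := exists_induced_pResidual hQ.1 (R := Q ⊓ T)
        (w := fun x => x) (isMap_id F (inf_le_left.trans hQ.1)) inf_le_left
        (fun γ hγ x hx => ⟨autFun_mem γ hx.1, StronglyClosed.apply_mem hTsc
          (((mem_autGroup hQ.1).1 hγ).res inf_le_left) inf_le_right hx⟩) (fimg_id _) hρ
      have hm : IsMap E (Q ⊓ T) (autFun (β' : MulAut ↥(Q ⊓ T))) :=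
        (mem_autGroup inf_le_right).1 (hEi.2.2 _ inf_le_right (Subgroup.mem_map_of_mem _ hβ'))
      have hgT : IsMap F T (fun x => g * x * g⁻¹) := isMap_conj F hTS hg
      obtain ⟨c, hc, hce⟩ := hgT.exists_aut (fimg_stronglyClosed hTsc hgT le_rfl)
      refine ⟨c, hc, _, hm, fun x hx => ?_⟩
      rw [hce _ (hm.apply_mem hx), he x hx]
      exact e x hx.1
    refine alperin hS hF (fun P f => Dec F E (P ⊓ T) f) (fun P f g h e => h.congr fun x hx => e x hx.1)
      ?_ ?_ (fun β hβ => key S (fullyNormalized_self F) β hβ) (fun Q hQ => key Q hQ.2.1) hf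
    · rintro P Q f g hPf - hfQ ⟨α, hα, f₀, hf₀, e⟩ ⟨β, hβ, g₀, hg₀, e'⟩
      obtain ⟨k, hk, hke⟩ := hinvT hg₀ α⁻¹ (inv_mem hα)
      have hfx : ∀ x ∈ P ⊓ T, f x ∈ Q ⊓ T := fun x hx => ⟨hfQ x hx.1,
        StronglyClosed.apply_mem hTsc (hPf.res inf_le_left) inf_le_right hx⟩
      have hmem : ∀ x ∈ P ⊓ T, f₀ x ∈ fimg (autFun α⁻¹) (Q ⊓ T) := fun x hx => by
        have h1 := apply_mem_fimg (autFun α⁻¹) (hfx x hx)
        rwa [e x hx, autFun_inv_apply α (hf₀.apply_mem hx)] at h1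
      refine ⟨β * α, mul_mem hβ hα, _, hf₀.comp hk hmem, fun x hx => ?_⟩
      have h1 := hke _ (hfx x hx)
      rw [e x hx, autFun_inv_apply α (hf₀.apply_mem hx), ← e x hx] at h1
      have h2 := hg₀.apply_mem (hfx x hx)
      show g (f x) = autFun (β * α) (k (f₀ x))
      rw [h1, autFun_mul _ _ (autFun_mem _ h2), ← autFun_mul α _ h2,
        mul_inv_cancel, autFun_one h2, e' _ (hfx x hx)]
    · exact fun P Q f _ hPQ h => h.res (inf_le_inf_right T hPQ)
  refine ⟨⟨hEs, hF, hEF, hTsc, ?_, ?_⟩, ?_⟩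
  · -- invariance
    intro P hPT φ hφ α hα
    have hαm : IsMap F T (autFun α) := (mem_autGroup hTS).1 hα
    obtain ⟨k, hk, hke⟩ := hinvT (isMap_toFun hφ) α hα
    have heq : (P.subgroupOf T).map (T.subtype.comp α.toMonoidHom) = fimg (autFun α) P := by
      ext y
      rw [(hαm.res hPT).mem_fimg_iff, Subgroup.mem_map]
      constructor
      · rintro ⟨t, ht, rfl⟩
        exact ⟨t, ht, autFun_coe α t⟩
      · rintro ⟨x, hx, rfl⟩
        exact ⟨⟨x, hPT hx⟩, hx, (autFun_coe α ⟨x, hPT hx⟩).symm⟩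
    rw [← heq] at hk
    obtain ⟨χ, hχ, hχe⟩ := hk.exists_hom
    refine ⟨χ, hχ, fun x hφx hαx => ?_⟩
    rw [hχe]
    show k ((α ⟨x, hPT x.2⟩ : T) : Ω) = _
    rw [← autFun_coe α ⟨x, hPT x.2⟩, hke x x.2, toFun_coe]
    exact autFun_coe α ⟨_, hφx⟩
  · -- Frattini
    intro P hPT φ hφ
    obtain ⟨α, hα, f₀, hf₀, e⟩ := hdec (isMap_toFun hφ)
    rw [inf_eq_left.2 hPT] at hf₀ e
    obtain ⟨φ₀, hφ₀, he⟩ := hf₀.exists_hom
    refine ⟨α, hα, φ₀, hφ₀, fun x hx => ?_⟩
    rw [← toFun_coe φ x, e x x.2, ← he x]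
    exact autFun_coe α ⟨_, hx⟩
  · -- extension
    intro α hα
    obtain ⟨g, hg, ρ, hρ, e⟩ :=
      aut_decomp (fullyAutomized_of_fullyNormalized hTp hEs (fullyNormalized_self E)) ⟨α, hα⟩
    have hTN : S ≤ Subgroup.normalizer (T : Set Ω) := le_normalizer_of_stronglyClosed hTsc
    have hRS : T ⊔ centralizerIn S T ≤ S := sup_le hTS inf_le_left
    have hgfix : ∀ γ ∈ F.autGroup (T ⊔ centralizerIn S T), ∀ x ∈ T, autFun γ x ∈ T :=
      fun γ hγ x hx => StronglyClosed.apply_mem hTsc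
        (((mem_autGroup hRS).1 hγ).res le_sup_left) le_rfl hx
    obtain ⟨Φ, hΦ⟩ := exists_induced_hom hRS (w := fun x => x) (isMap_id F hTS) le_sup_left hgfix
      (fimg_id T)
    haveI := finite_of_le hRS
    have hprod : ∀ c ∈ T ⊔ centralizerIn S T, ∃ t ∈ T, ∃ d ∈ centralizerIn S T, c = t * d := by
      intro c hc
      have h2 : c ∈ (↑(T ⊔ centralizerIn S T) : Set Ω) := hc
      rw [Subgroup.coe_mul_of_right_le_normalizer_left T (centralizerIn S T)
        (inf_le_left.trans hTN), Set.mem_mul] at h2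
      obtain ⟨t, ht, d, hd, h⟩ := h2
      exact ⟨t, ht, d, hd, h.symm⟩
    have hΦs : Function.Surjective Φ := by
      intro γ
      have hγ : IsMap F T (autFun (γ : MulAut T)) := (mem_autGroup hTS).1 γ.2
      have hγT : fimg (autFun (γ : MulAut T)) T = T := fimg_autFun _
      obtain ⟨f', hf', hfe⟩ := receptive_extend (receptive_of_fullyNormalized hS hF hTfn) hγ hγT
        (N := T ⊔ centralizerIn S T) (fun c hc => by
          refine ⟨⟨hRS hc, hTN (hRS hc)⟩, ?_⟩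
          obtain ⟨t, ht, d, hd, hcd⟩ := hprod c hc
          refine ⟨autFun (γ : MulAut T) t, hTS (autFun_mem _ ht), fun x hx => ?_⟩
          rw [hcd, mul_inv_rev, show t * d * x * (d⁻¹ * t⁻¹) = t * (d * x * d⁻¹) * t⁻¹ by group,
            show d * x * d⁻¹ = x by
              rw [← Subgroup.mem_centralizer_iff.1 (mem_centralizerIn.1 hd).2 x hx]; group]
          exact hγ.map_conj ht hx) le_sup_left
      have hfT : fimg f' T = T := by rw [fimg_congr hfe, hγT]
      obtain ⟨β, hβ, hβe⟩ := hf'.exists_aut (Subgroup.eq_of_le_of_card_ge (fimg_le fun c hc => by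
          obtain ⟨t, ht, d, hd, rfl⟩ := hprod c hc
          rw [hf'.map_mul (Subgroup.mem_sup_left ht) (Subgroup.mem_sup_right hd)]
          refine mul_mem (Subgroup.mem_sup_left (hfT ▸ apply_mem_fimg f' ht))
            (Subgroup.mem_sup_right ?_)
          have h3 := hf'.map_centralizerIn (P := T) le_sup_left (Subgroup.mem_sup_right hd)
            (mem_centralizerIn.1 hd).2
          rwa [hfT] at h3) hf'.card_fimg.ge)
      refine ⟨⟨β, hβ⟩, Subtype.ext (mulAut_ext fun x hx => ?_)⟩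
      rw [hΦ ⟨β, hβ⟩ x hx, hβe x (Subgroup.mem_sup_left hx), hfe x hx]
    have hρF : Subgroup.inclusion (autGroup_mono hEF T) ρ ∈ pResidual p (F.autGroup T) :=
      Transfer.pResidual_map_le (Subgroup.inclusion (autGroup_mono hEF T)) ⟨ρ, hρ, rfl⟩
    obtain ⟨ρ', hρ', hρe⟩ : ∃ ρ' ∈ pResidual p (F.autGroup (T ⊔ centralizerIn S T)),
        ∀ x ∈ T, autFun (ρ' : MulAut ↥(T ⊔ centralizerIn S T)) x = autFun (ρ : MulAut T) x := by
      obtain ⟨β', hβ', he⟩ := exists_induced_pResidual hTS (isMap_id F hTS) le_rfl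
        (fun γ _ x hx => autFun_mem γ hx) (fimg_id T) hρF
      rw [← Transfer.pResidual_map_of_surjective hΦs] at hβ'
      obtain ⟨ρ', hρ', rfl⟩ := hβ'
      exact ⟨ρ', hρ', fun x hx => ((hΦ ρ' x hx).symm.trans (he x hx)).trans rfl⟩
    obtain ⟨c₀, hc₀, hc₀e⟩ := (isMap_conj F hRS (g := g) (hTS hg)).exists_aut (by
      refine Subgroup.eq_of_le_of_card_ge (fimg_le fun y hy => ?_)
        (isMap_conj F hRS (g := g) (hTS hg)).card_fimg.ge
      exact mul_mem (mul_mem (Subgroup.mem_sup_left hg) hy) (inv_mem (Subgroup.mem_sup_left hg)))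
    refine ⟨c₀ * ρ', mul_mem hc₀ ρ'.2, fun x => ?_, fun c hc => ?_⟩
    · show (((c₀ * (ρ' : MulAut ↥(T ⊔ centralizerIn S T))) (Subgroup.inclusion le_sup_left x) :
        ↥(T ⊔ centralizerIn S T)) : Ω) = _
      rw [← autFun_coe (c₀ * (ρ' : MulAut ↥(T ⊔ centralizerIn S T))), ← autFun_coe α x, e x x.2]
      show autFun (c₀ * (ρ' : MulAut _)) (x : Ω) = _
      rw [autFun_mul _ _ (Subgroup.mem_sup_left x.2), hc₀e _ (autFun_mem _ (Subgroup.mem_sup_left x.2)),
        hρe x x.2]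
    · rw [← autFun_coe (c₀ * (ρ' : MulAut ↥(T ⊔ centralizerIn S T))) c, autFun_mul _ _ c.2, hc₀e _ (autFun_mem _ c.2)]
      have hρm : IsMap F (T ⊔ centralizerIn S T) (autFun (ρ' : MulAut ↥(T ⊔ centralizerIn S T))) := (mem_autGroup hRS).1 ρ'.2
      have hρT : fimg (autFun (ρ' : MulAut ↥(T ⊔ centralizerIn S T))) T = T := fimg_stronglyClosed hTsc (hρm.res le_sup_left) le_rfl
      have hd := hρm.map_centralizerIn (P := T) le_sup_left c.2 (mem_centralizerIn.1 hc).2
      rw [hρT] at hd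
      rw [show g * autFun (ρ' : MulAut ↥(T ⊔ centralizerIn S T)) (c : Ω) * g⁻¹ = autFun (ρ' : MulAut ↥(T ⊔ centralizerIn S T)) (c : Ω) by
        rw [Subgroup.mem_centralizer_iff.1 (mem_centralizerIn.1 hd).2 g hg]; group]
      exact ⟨hT (hyperfocal_mem hRS hρ' c.2), Subgroup.mul_mem _
        (Subgroup.inv_mem _ (mem_centralizerIn.1 hc).2) (mem_centralizerIn.1 hd).2⟩

end Cfsg.Agent.Fus
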