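import Cfsg.Agent.Lib.Fus.Invariant
import Cfsg.Agent.Lib.Fus.Alperin
import Cfsg.Agent.Lib.Fus.Centric

/-!
Saturated subsystems are controlled by their maps on centric subgroups.
-/

set_option autoImplicit false
set_option linter.style.haveILetI false
set_option linter.unusedSectionVars false

open scoped Classical

namespace Cfsg.Agent.Fus

open Subgroup FusionSystem

universe u

variable {Ω : Type u} [Group Ω] {S : Subgroup Ω} [Finite S] {F F' : FusionSystem S} {p : ℕ}
  [Fact p.Prime]

/-- A map of `F` lies in `F'` if its restriction to a normal centric subgroup of its source does. -/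
theorem mem_of_res_centric_normal (hS : IsPGroup p S) (hF : F.IsSaturated p)
    (hF' : F'.IsSaturated p) (hle : F' ≤ F) {R Q : Subgroup Ω} {f : Ω → Ω} (hf : IsMap F R f)
    (hQR : Q ≤ R) (hRQ : R ≤ Subgroup.normalizer (Q : Set Ω)) (hQ : F.IsCentric Q)
    (hfQ : IsMap F' Q f) : IsMap F' R f := by
  have hT : F'.IsCentric (fimg f Q) :=
    centric_of_subsystem hle (centric_of_isConj hQ (hf.res hQR).isConj)
  obtain ⟨f', hf', e⟩ := receptive_extend
    (receptive_of_fullyCentralized hS hF' (fullyCentralized_of_centric hT)) hfQ rfl (N := R)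
    (fun g hg => ⟨⟨hf.source_le hg, hRQ hg⟩, f g, hf.apply_mem hg,
      fun x hx => hf.map_conj hg (hQR hx)⟩) hQR
  obtain ⟨z, hz, -, hze⟩ := exists_conj_of_eqOn_centric hS hF hQR hQ (hf'.mono hle) hf e
  exact ((isMap_conj F' hf.source_le (hf.source_le (hQR hz))).comp hf'
    fun x hx => R.mul_mem (R.mul_mem (hQR hz) hx) (R.inv_mem (hQR hz))).congr fun x hx =>
      (hze x hx).symm

/-- A map of `F` lies in `F'` if its restriction to a centric subgroup of its source does. -/
theorem mem_of_res_centric (hS : IsPGroup p S) (hF : F.IsSaturated p) (hF' : F'.IsSaturated p)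
    (hle : F' ≤ F) {R : Subgroup Ω} {f : Ω → Ω} (hf : IsMap F R f) {Q : Subgroup Ω} (hQR : Q ≤ R)
    (hQ : F.IsCentric Q) (hfQ : IsMap F' Q f) : IsMap F' R f := by
  have hRS := hf.source_le
  haveI := finite_of_le hRS
  induction hd : Nat.card R - Nat.card Q using Nat.strong_induction_on generalizing Q with
  | _ d ih =>
    rcases eq_top_or_lt hQR with rfl | hlt
    · exact hfQ
    have hlt' : Q < normalizerIn R Q := lt_normalizerIn (hS.to_le hRS) hlt
    have hN : IsMap F' (normalizerIn R Q) f :=
      mem_of_res_centric_normal hS hF hF' hle (hf.res inf_le_left) (le_normalizerIn hQR) inf_le_right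
        hQ hfQ
    have h1 : Nat.card Q < Nat.card ↥(normalizerIn R Q) := by
      haveI := finite_of_le (S := R) (P := normalizerIn R Q) inf_le_left
      exact card_lt_of_lt hlt'
    have h2 : Nat.card ↥(normalizerIn R Q) ≤ Nat.card R := Subgroup.card_le_of_le inf_le_left
    exact ih (Nat.card R - Nat.card ↥(normalizerIn R Q)) (by omega) inf_le_left
      (centric_mono hQ hlt'.le (inf_le_left.trans hRS)) hN rfl

/-- Two saturated systems agree if the smaller contains the automorphisms of the centric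
subgroups. -/
theorem eq_of_centric (hS : IsPGroup p S) (hF : F.IsSaturated p) (hle : F' ≤ F)
    (h : ∀ P f, F.IsCentric P → IsMap F P f → IsMap F' P f) (P : Subgroup Ω) :
    F.Hom P = F'.Hom P := by
  have key : ∀ P f, IsMap F P f → IsMap F' P f := fun P f hf =>
    alperin hS hF (fun P f => IsMap F' P f) (fun P f g hf e => hf.congr e)
      (fun P Q f g _ _ hfQ hf hg => hf.comp hg hfQ) (fun P Q f _ hPQ hf => hf.res hPQ)
      (fun α hα => h S _ (centric_self F) ((mem_autGroup le_rfl).1 hα))
      (fun Q hQ α hα => h Q _ hQ.1 ((mem_autGroup hQ.1.1).1 hα)) hf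
  refine Set.Subset.antisymm (fun φ hφ => ?_) (hle P)
  exact mem_hom_of_isMap (key P _ (isMap_toFun hφ)) fun x => (toFun_coe φ x).symm

theorem exists_minimal_centric {P : Subgroup Ω} (hP : F.IsCentric P) :
    ∃ Q ≤ P, F.IsCentric Q ∧ ∀ R : Subgroup Ω, R < Q → ¬ F.IsCentric R := by
  obtain ⟨Q, ⟨hQP, hQc⟩, hmin⟩ := Set.exists_min_image {Q : Subgroup Ω | Q ≤ P ∧ F.IsCentric Q}
    (fun Q => Nat.card Q) ((finite_subgroups_le (S := S)).subset fun Q hQ => hQ.2.1)
    ⟨P, le_rfl, hP⟩
  refine ⟨Q, hQP, hQc, fun R hR hRc => ?_⟩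
  haveI := finite_of_le hQc.1
  exact absurd (hmin R ⟨hR.le.trans hQP, hRc⟩) (not_le.2 (card_lt_of_lt hR))

end Cfsg.Agent.Fus
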