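import Mathlib
import Cfsg.Agent.Lib.Fus.Alperin
import Cfsg.Agent.Lib.Fus.CentricControl

/-!
Subsystems containing the automorphisms of `p`-power order of the centric subgroups.
-/

set_option autoImplicit false
set_option linter.style.haveILetI false
set_option linter.unusedSectionVars false

open scoped Classical Pointwise

universe u

namespace Cfsg.Agent.Fus.PrimeIndex

open Subgroup FusionSystem

variable {Ω : Type u} [Group Ω] {S : Subgroup Ω} {F E : FusionSystem S} {p : ℕ}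

/-- The subgroup `O^{p'}(Aut_F(P))`. -/
def pGenAuts (F : FusionSystem S) (p : ℕ) (P : Subgroup Ω) : Subgroup (MulAut P) :=
  (Subgroup.closure {α : F.autGroup P | ∃ k : ℕ, orderOf α = p ^ k}).map (F.autGroup P).subtype

theorem pGenAuts_le (F : FusionSystem S) (p : ℕ) (P : Subgroup Ω) :
    pGenAuts F p P ≤ F.autGroup P := Subgroup.map_subtype_le _

theorem congr_pGenAuts {P Q : Subgroup Ω} (e : P ≃* Q)
    (he : ∀ α, α ∈ F.autGroup P ↔ MulAut.congr e α ∈ F.autGroup Q) {α : MulAut P}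
    (hα : α ∈ pGenAuts F p P) : MulAut.congr e α ∈ pGenAuts F p Q := by
  let φ : F.autGroup P →* F.autGroup Q :=
    ((MulAut.congr e).toMonoidHom.comp (F.autGroup P).subtype).codRestrict _
      fun a => (he _).1 a.2
  have hφ : Function.Injective φ := fun a b hab =>
    Subtype.ext ((MulAut.congr e).injective (congrArg Subtype.val hab))
  obtain ⟨a, ha, rfl⟩ := hα
  refine ⟨φ a, ?_, rfl⟩
  refine (Subgroup.closure_le ((Subgroup.closure
    {β : F.autGroup Q | ∃ k : ℕ, orderOf β = p ^ k}).comap φ)).2 ?_ ha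
  rintro x ⟨k, hk⟩
  exact subset_closure ⟨k, by rw [orderOf_injective φ hφ x, hk]⟩

/-- The maps generated by inner maps and by `p`-power order automorphisms of centric subgroups. -/
inductive PGen (F : FusionSystem S) (p : ℕ) : Subgroup Ω → (Ω → Ω) → Prop
  | aut {P Q : Subgroup Ω} {α : MulAut Q} {f : Ω → Ω} : F.IsCentric Q → α ∈ pGenAuts F p Q →
      P ≤ Q → (∀ x ∈ P, f x = autFun α x) → PGen F p P f
  | inner {P : Subgroup Ω} {g : Ω} {f : Ω → Ω} : P ≤ S → g ∈ S →
      (∀ x ∈ P, f x = g * x * g⁻¹) → PGen F p P f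
  | comp {P Q : Subgroup Ω} {f g h : Ω → Ω} : PGen F p P f → PGen F p Q g → (∀ x ∈ P, f x ∈ Q) →
      (∀ x ∈ P, h x = g (f x)) → PGen F p P h

theorem PGen.res {P R : Subgroup Ω} {f : Ω → Ω} (h : PGen F p P f) (hR : R ≤ P) :
    PGen F p R f := by
  induction h generalizing R with
  | aut hQ hα hPQ hf => exact .aut hQ hα (hR.trans hPQ) fun x hx => hf x (hR hx)
  | inner hP hg hf => exact .inner (hR.trans hP) hg fun x hx => hf x (hR hx)
  | comp _ hg hm he ih _ => exact .comp (ih hR) hg (fun x hx => hm x (hR hx)) fun x hx => he x (hR hx)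

theorem PGen.isMap {P : Subgroup Ω} {f : Ω → Ω} (h : PGen F p P f) : IsMap F P f := by
  induction h with
  | aut hQ hα hPQ hf =>
    exact (((mem_autGroup hQ.1).1 (pGenAuts_le F p _ hα)).res hPQ).congr fun x hx => (hf x hx).symm
  | inner hP hg hf => exact (isMap_conj F hP hg).congr fun x hx => (hf x hx).symm
  | comp _ _ hm he ih₁ ih₂ => exact (ih₁.comp ih₂ hm).congr fun x hx => (he x hx).symm

/-- Such maps lie in every system containing the generators. -/
theorem PGen.isMap_of (hE : ∀ Q, F.IsCentric Q → pGenAuts F p Q ≤ E.autGroup Q) {P : Subgroup Ω}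
    {f : Ω → Ω} (h : PGen F p P f) : IsMap E P f := by
  induction h with
  | aut hQ hα hPQ hf =>
    exact (((mem_autGroup hQ.1).1 (hE _ hQ hα)).res hPQ).congr fun x hx => (hf x hx).symm
  | inner hP hg hf => exact (isMap_conj E hP hg).congr fun x hx => (hf x hx).symm
  | comp _ _ hm he ih₁ ih₂ => exact (ih₁.comp ih₂ hm).congr fun x hx => (he x hx).symm

/-- Automorphisms of `S` in the system permute these maps. -/
theorem PGen.twist {β : MulAut S} (hβ : β ∈ F.autGroup S) {P : Subgroup Ω} {f : Ω → Ω}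
    (h : PGen F p P f) :
    PGen F p (fimg (autFun β) P) (fun y => autFun β (f (autFun β⁻¹ y))) := by
  have hb : IsMap F S (autFun β) := (mem_autGroup le_rfl).1 hβ
  have hinv : ∀ x ∈ S, autFun β⁻¹ (autFun β x) = x := fun x hx => autFun_inv_apply β hx
  induction h with
  | @aut P Q α f hQ hα hPQ hf =>
    have hbQ := hb.res hQ.1
    obtain ⟨e, he, heA⟩ := exists_mulEquiv hbQ rfl
    refine .aut (centric_of_isConj hQ hbQ.isConj) (congr_pGenAuts e heA hα)
      (fimg_mono _ hPQ) fun y hy => ?_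
    obtain ⟨x, hx, rfl⟩ := (hb.res (hPQ.trans hQ.1)).mem_fimg_iff.1 hy
    show autFun β (f (autFun β⁻¹ (autFun β x))) = autFun (MulAut.congr e α) (autFun β x)
    rw [hinv x (hQ.1 (hPQ hx)), hf x hx, ← he ⟨x, hPQ hx⟩, autFun_coe,
      show autFun α x = ((α ⟨x, hPQ hx⟩ : Q) : Ω) from autFun_coe α ⟨x, hPQ hx⟩, ← he]
    simp [MulAut.congr]
  | @inner P g f hP hg hf =>
    refine .inner (hb.res hP).fimg_le_S (autFun_mem β hg) fun y hy => ?_
    obtain ⟨x, hx, rfl⟩ := (hb.res hP).mem_fimg_iff.1 hy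
    show autFun β (f (autFun β⁻¹ (autFun β x))) = _
    rw [hinv x (hP hx), hf x hx, hb.map_conj hg (hP hx)]
  | @comp P Q f g h hf hg hm he ih₁ ih₂ =>
    have hPS := hf.isMap.source_le
    refine .comp ih₁ ih₂ (fun y hy => ?_) fun y hy => ?_
    · obtain ⟨x, hx, rfl⟩ := (hb.res hPS).mem_fimg_iff.1 hy
      show autFun β (f (autFun β⁻¹ (autFun β x))) ∈ _
      rw [hinv x (hPS hx)]
      exact apply_mem_fimg _ (hm x hx)
    · obtain ⟨x, hx, rfl⟩ := (hb.res hPS).mem_fimg_iff.1 hy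
      show autFun β (h (autFun β⁻¹ (autFun β x))) =
        autFun β (g (autFun β⁻¹ (autFun β (f (autFun β⁻¹ (autFun β x))))))
      rw [hinv x (hPS hx), hinv _ (hf.isMap.apply_mem hx), he x hx]

variable [Finite S] [Fact p.Prime]

/-- Every map is an automorphism of `S` after a map generated by the `p`-power order automorphisms
of centric subgroups. -/
theorem exists_decomp (hS : IsPGroup p S) (hF : F.IsSaturated p) {P : Subgroup Ω} {f : Ω → Ω}
    (hf : IsMap F P f) :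
    ∃ α ∈ F.autGroup S, ∃ e, PGen F p P e ∧ ∀ x ∈ P, f x = autFun α (e x) := by
  let D : Subgroup Ω → (Ω → Ω) → Prop := fun P f =>
    ∃ α ∈ F.autGroup S, ∃ e, PGen F p P e ∧ ∀ x ∈ P, f x = autFun α (e x)
  have hcongr : ∀ P f g, D P f → (∀ x ∈ P, f x = g x) → D P g :=
    fun P f g ⟨α, hα, e, he, hfe⟩ h => ⟨α, hα, e, he, fun x hx => (h x hx).symm.trans (hfe x hx)⟩
  have hcomp : ∀ P Q f g, IsMap F P f → IsMap F Q g → (∀ x ∈ P, f x ∈ Q) → D P f → D Q g →
      D P (fun x => g (f x)) := by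
    intro P Q f g hf hg hm ⟨a, ha, e, he, hfe⟩ ⟨a', ha', e', he', hge⟩
    have ht := he'.twist (inv_mem ha)
    rw [inv_inv] at ht
    have heq : ∀ x ∈ P, e x = autFun a⁻¹ (f x) := fun x hx => by
      rw [hfe x hx, autFun_inv_apply a (he.isMap.apply_mem hx)]
    refine ⟨a' * a, mul_mem ha' ha, _, .comp he ht (fun x hx => ?_) (fun x _ => rfl), fun x hx => ?_⟩
    · rw [heq x hx]
      exact apply_mem_fimg _ (hm x hx)
    · show g (f x) = autFun (a' * a) (autFun a⁻¹ (e' (autFun a (e x))))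
      have h1 : e' (f x) ∈ S := he'.isMap.apply_mem (hm x hx)
      rw [← hfe x hx, autFun_mul _ _ (autFun_mem a⁻¹ h1), ← autFun_mul a a⁻¹ h1, mul_inv_cancel,
        autFun_one h1, ← hge _ (hm x hx)]
  have hres : ∀ P Q f, IsMap F Q f → P ≤ Q → D Q f → D P f :=
    fun P Q f _ hPQ ⟨α, hα, e, he, hfe⟩ => ⟨α, hα, e, he.res hPQ, fun x hx => hfe x (hPQ hx)⟩
  have htop : ∀ α ∈ F.autGroup S, D S (autFun α) := fun α hα =>
    ⟨α, hα, fun x => x, .inner le_rfl S.one_mem fun x _ => by simp, fun x _ => rfl⟩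
  refine alperin' hS hF D hcongr hcomp hres htop (fun P hP big α hα => ?_) hf
  have hPS : P ≤ S := hP.1.1
  haveI := finite_of_le hPS
  rcases hPS.eq_or_lt with rfl | hlt
  · exact htop α hα
  obtain ⟨-, R, hR⟩ := fullyAutomized_of_fullyNormalized hS hF hP.2.1
  set K : Subgroup (F.autGroup P) :=
    Subgroup.closure {a : F.autGroup P | ∃ k : ℕ, orderOf a = p ^ k} with hK
  haveI : K.Normal := ⟨fun k hk a => by
    refine (Subgroup.closure_le (K.comap (MulAut.conj a).toMonoidHom)).2 ?_ hk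
    rintro x ⟨i, hi⟩
    exact subset_closure ⟨i, by
      rw [orderOf_injective (MulAut.conj a).toMonoidHom (MulAut.conj a).injective, hi]⟩⟩
  have hRK : (R : Subgroup (F.autGroup P)) ≤ K := fun r hr => by
    obtain ⟨k, hk⟩ := R.2 ⟨r, hr⟩
    obtain ⟨j, -, hj⟩ := (Nat.dvd_prime_pow (Fact.out : p.Prime)).1
      (orderOf_dvd_of_pow_eq_one (show r ^ p ^ k = 1 from congrArg Subtype.val hk))
    exact subset_closure ⟨j, hj⟩
  have htop' := R.normalizer_sup_eq_top' hRK
  have hmem : (⟨α, hα⟩ : F.autGroup P) ∈ Subgroup.normalizer ((R : Subgroup (F.autGroup P)) :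
      Set (F.autGroup P)) ⊔ K := htop' ▸ mem_top _
  obtain ⟨n, hn, k, hk, hnk⟩ := Subgroup.mem_sup_of_normal_right.1 hmem
  have dk : D P (autFun (k : MulAut P)) :=
    ⟨1, one_mem _, _, .aut hP.1 ⟨k, hk, rfl⟩ le_rfl (fun x _ => rfl), fun x hx =>
      (autFun_one (hPS (autFun_mem _ hx))).symm⟩
  have hext : (n : MulAut P) ∈ extAuts F P := by
    refine mem_extAuts_of_conj (receptive_of_fullyNormalized hS hF hP.2.1) n.2 le_rfl
      (not_autInducedBy_le_inn hS hlt hP.1) ?_ fun r hr => ?_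
    · rw [inn_eq_autInducedBy]
      exact autInducedBy_mono hPS P
    · have hr' : (⟨r, autInducedBy_le_autGroup F hPS hr⟩ : F.autGroup P) ∈
          (R : Subgroup (F.autGroup P)) := by
        rw [hR]
        exact hr
      have := (Subgroup.mem_normalizer_iff.1 hn _).1 hr'
      rw [hR] at this
      exact this
  obtain ⟨T, g, hPT, hg, hge⟩ := mem_extAuts.1 hext
  haveI := finite_of_le hg.source_le
  have dn : D P (autFun (n : MulAut P)) :=
    hcongr _ _ _ (hres _ _ _ hg hPT.le (big T g hg (card_lt_of_lt hPT))) hge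
  refine hcongr _ _ _ (hcomp _ _ _ _ ((mem_autGroup hPS).1 k.2) ((mem_autGroup hPS).1 n.2)
    (fun x hx => autFun_mem _ hx) dk dn) fun x hx => ?_
  rw [show α = ((n * k : F.autGroup P) : MulAut P) from congrArg Subtype.val hnk.symm,
    Subgroup.coe_mul, autFun_mul _ _ hx]

/-- A subsystem with the `p`-power order automorphisms of the centric subgroups has index prime
to `p`. -/
theorem hasPrimeToPIndexIn (hS : IsPGroup p S) (hF : F.IsSaturated p) (hEF : E.IsSubsystemOf F)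
    (h : ∀ Q, F.IsCentric Q → pGenAuts F p Q ≤ E.autGroup Q) : E.HasPrimeToPIndexIn F p := by
  refine ⟨hEF, fun P hPS => ?_⟩
  rw [Subgroup.map_le_iff_le_comap, Subgroup.closure_le]
  rintro a ⟨k, hk⟩
  obtain ⟨Q, hQ, hQn⟩ := exists_fullyNormalized F hPS
  haveI := finite_of_le hQn.1
  obtain ⟨f, hf, hfQ⟩ := isConj_iff.1 hQ
  obtain ⟨ee, hee, heeA⟩ := exists_mulEquiv hf hfQ
  obtain ⟨-, R, hR⟩ := fullyAutomized_of_fullyNormalized hS hF hQn
  set a' : F.autGroup Q := ⟨MulAut.congr ee (a : MulAut P), (heeA _).1 a.2⟩ with ha'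
  have hp' : IsPGroup p (Subgroup.zpowers a') := IsPGroup.of_card (n := k) (by
    rw [Nat.card_zpowers, ← Subgroup.orderOf_coe]
    show orderOf ((MulAut.congr ee).toMonoidHom (a : MulAut P)) = p ^ k
    rw [orderOf_injective (MulAut.congr ee).toMonoidHom (MulAut.congr ee).injective,
      Subgroup.orderOf_coe, hk])
  obtain ⟨T, hT⟩ := hp'.exists_le_sylow
  obtain ⟨γ, hγ⟩ := MulAction.exists_smul_eq (F.autGroup Q) T R
  have hc : γ * a' * γ⁻¹ ∈ (R : Subgroup (F.autGroup Q)) := by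
    rw [← hγ, Sylow.coe_subgroup_smul]
    exact Subgroup.smul_mem_pointwise_smul a' (MulAut.conj γ) _ (hT (mem_zpowers a'))
  rw [hR] at hc
  obtain ⟨s, hs, hse⟩ := mem_autInducedBy.1 hc
  have hfm : ∀ x ∈ P, f x ∈ Q := fun x hx => hfQ ▸ apply_mem_fimg f hx
  have hh : IsMap F P (fun x => autFun (γ : MulAut Q) (f x)) :=
    hf.comp ((mem_autGroup hQn.1).1 γ.2) hfm
  obtain ⟨b, hb, e, he, hbe⟩ := exists_decomp hS hF hh
  have hkey : ∀ x : P, e ((a : MulAut P) x : P) =
      autFun b⁻¹ s * e x * (autFun b⁻¹ s)⁻¹ := by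
    intro x
    have h1 : autFun (γ : MulAut Q) (f ((a : MulAut P) x : P)) =
        s * autFun (γ : MulAut Q) (f x) * s⁻¹ := by
      rw [← hee, ← hee, autFun_coe, autFun_coe, ← hse]
      simp [ha', MulAut.congr]
    rw [hbe _ ((a : MulAut P) x).2, hbe _ x.2] at h1
    have h2 := congrArg (autFun b⁻¹) h1
    have hbm : IsMap F S (autFun b⁻¹) := (mem_autGroup le_rfl).1 (inv_mem hb)
    rw [autFun_inv_apply b (he.isMap.apply_mem ((a : MulAut P) x).2),
      hbm.map_conj hs (autFun_mem b (he.isMap.apply_mem x.2)),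
      autFun_inv_apply b (he.isMap.apply_mem x.2)] at h2
    exact h2
  have heE := he.isMap_of h
  obtain ⟨e', he', he1, -, -⟩ := heE.exists_inv
  refine (mem_autGroup hPS).2 ?_
  refine ((heE.comp (isMap_conj E heE.fimg_le_S (autFun_mem b⁻¹ hs))
    (fun x hx => apply_mem_fimg e hx)).comp he' fun x hx => ?_).congr fun x hx => ?_
  · rw [← hkey ⟨x, hx⟩]
    exact apply_mem_fimg e ((a : MulAut P) ⟨x, hx⟩).2
  · show e' (autFun b⁻¹ s * e x * (autFun b⁻¹ s)⁻¹) = autFun (a : MulAut P) x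
    rw [← hkey ⟨x, hx⟩, he1 _ ((a : MulAut P) ⟨x, hx⟩).2,
      show autFun (a : MulAut P) x = (((a : MulAut P) ⟨x, hx⟩ : P) : Ω) from
        autFun_coe _ ⟨x, hx⟩]

/-- Such a subsystem has the same centric subgroups. -/
theorem centric_iff (hS : IsPGroup p S) (hF : F.IsSaturated p) (hEF : E.IsSubsystemOf F)
    (h : ∀ Q, F.IsCentric Q → pGenAuts F p Q ≤ E.autGroup Q) {P : Subgroup Ω} :
    E.IsCentric P ↔ F.IsCentric P := by
  refine ⟨fun hP => ⟨hP.1, fun Q hQ => ?_⟩, centric_of_subsystem hEF⟩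
  obtain ⟨f, hf, rfl⟩ := isConj_iff.1 hQ
  obtain ⟨b, hb, e, he, hbe⟩ := exists_decomp hS hF hf
  have hbm : IsMap F S (autFun b) := (mem_autGroup le_rfl).1 hb
  have hbm' : IsMap F S (autFun b⁻¹) := (mem_autGroup le_rfl).1 (inv_mem hb)
  intro c hc
  obtain ⟨hcS, hcc⟩ := mem_centralizerIn.1 hc
  have h1 : autFun b⁻¹ c ∈ fimg e P := by
    refine hP.2 _ (he.isMap_of h).isConj (mem_centralizerIn.2 ⟨autFun_mem b⁻¹ hcS, fun y hy => ?_⟩)
    obtain ⟨x, hx, rfl⟩ := he.isMap.mem_fimg_iff.1 hy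
    have hex := he.isMap.apply_mem hx
    have h2 := congrArg (autFun b⁻¹) (hcc _ (apply_mem_fimg f hx))
    have hfx : f x ∈ S := hf.apply_mem hx
    rw [hbm'.map_mul hfx hcS, hbm'.map_mul hcS hfx, hbe x hx, autFun_inv_apply b hex] at h2
    exact h2
  obtain ⟨x, hx, hxe⟩ := he.isMap.mem_fimg_iff.1 h1
  have : c = f x := by
    rw [hbe x hx, hxe, ← autFun_mul b b⁻¹ hcS, mul_inv_cancel, autFun_one hcS]
  rw [this]
  exact apply_mem_fimg f hx

/-- The Frattini factorization and the consequences. -/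
theorem main (hS : IsPGroup p S) (hF : F.IsSaturated p) (hEF : E.IsSubsystemOf F)
    (h : ∀ Q, F.IsCentric Q → pGenAuts F p Q ≤ E.autGroup Q) :
    E.HasPrimeToPIndexIn F p ∧ (∀ (P : Subgroup Ω) (φ : P →* Ω), φ ∈ F.Hom P →
      ∃ α ∈ F.autGroup S, ∃ φ₀ ∈ E.Hom P, ∀ (x : P) (hx : φ₀ x ∈ S),
        φ x = ((α ⟨φ₀ x, hx⟩ : S) : Ω)) ∧
      ∀ P : Subgroup Ω, E.IsCentric P ↔ F.IsCentric P := by
  refine ⟨hasPrimeToPIndexIn hS hF hEF h, fun P φ hφ => ?_, fun P => centric_iff hS hF hEF h⟩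
  obtain ⟨b, hb, e, he, hbe⟩ := exists_decomp hS hF (isMap_toFun hφ)
  obtain ⟨φ₀, hφ₀, hφ₀e⟩ := (he.isMap_of h).exists_hom
  refine ⟨b, hb, φ₀, hφ₀, fun x hx => ?_⟩
  rw [← toFun_coe φ x, hbe x x.2, ← hφ₀e x]
  exact autFun_coe b ⟨φ₀ x, hx⟩

end Cfsg.Agent.Fus.PrimeIndex
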