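import Mathlib
import Cfsg.Prelude.Def_FusionComponents
import Cfsg.Agent.Lib.Fus.PrimeIndex
import Cfsg.Agent.Lib.Fus.SatCriterion

/-!
The smallest saturated subsystem of index prime to `p`.
-/

set_option autoImplicit false
set_option linter.style.haveILetI false
set_option linter.unusedSectionVars false

open scoped Classical

universe u

namespace Cfsg.Agent.Fus.PrimeIndex

open Subgroup FusionSystem

variable {Ω : Type u} [Group Ω] {S : Subgroup Ω} {F : FusionSystem S} {p : ℕ}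

/-- The inverse of such a map is such a map. -/
theorem PGen.inv {P : Subgroup Ω} {f : Ω → Ω} (h : PGen F p P f) :
    ∀ g : Ω → Ω, (∀ x ∈ P, g (f x) = x) → PGen F p (fimg f P) g := by
  induction h with
  | @aut P Q α f hQ hα hPQ hf =>
    intro g hg
    refine .aut hQ (inv_mem hα) (fimg_le fun x hx => hf x hx ▸ autFun_mem α (hPQ hx)) fun y hy => ?_
    obtain ⟨x, hx, rfl⟩ := ((PGen.aut hQ hα hPQ hf).isMap).mem_fimg_iff.1 hy
    rw [hg x hx, hf x hx, autFun_inv_apply α (hPQ hx)]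
  | @inner P g₀ f hP hg₀ hf =>
    intro g hg
    refine .inner (PGen.inner (F := F) (p := p) hP hg₀ hf).isMap.fimg_le_S (S.inv_mem hg₀) fun y hy => ?_
    obtain ⟨x, hx, rfl⟩ := ((PGen.inner (F := F) (p := p) hP hg₀ hf).isMap).mem_fimg_iff.1 hy
    rw [hg x hx, hf x hx]
    group
  | @comp P Q f₁ f₂ h hf₁ hf₂ hm he ih₁ ih₂ =>
    intro g hg
    obtain ⟨g₁, -, e₁, -, -⟩ := hf₁.isMap.exists_inv
    obtain ⟨g₂, -, e₂, -, -⟩ := hf₂.isMap.exists_inv
    have key : ∀ x ∈ P, g₂ (h x) = f₁ x := fun x hx => by rw [he x hx, e₂ _ (hm x hx)]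
    have hle : fimg h P ≤ fimg f₂ Q := fimg_le fun x hx => he x hx ▸ apply_mem_fimg f₂ (hm x hx)
    refine .comp ((ih₂ g₂ e₂).res hle) (ih₁ g₁ e₁) (fun y hy => ?_) fun y hy => ?_
    · obtain ⟨x, hx, rfl⟩ := ((PGen.comp hf₁ hf₂ hm he).isMap).mem_fimg_iff.1 hy
      rw [key x hx]
      exact apply_mem_fimg f₁ hx
    · obtain ⟨x, hx, rfl⟩ := ((PGen.comp hf₁ hf₂ hm he).isMap).mem_fimg_iff.1 hy
      rw [key x hx, hg x hx, e₁ x hx]

/-- The automorphisms of `S` that are, on some centric subgroup, generated maps. -/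
def autZero (F : FusionSystem S) (p : ℕ) : Subgroup (MulAut S) :=
  Subgroup.closure {β | β ∈ F.autGroup S ∧ ∃ P, F.IsCentric P ∧ PGen F p P (autFun β)}

theorem autZero_le (F : FusionSystem S) (p : ℕ) : autZero F p ≤ F.autGroup S :=
  (Subgroup.closure_le _).2 fun _ h => h.1

/-- A composite of two decomposed maps. -/
theorem decomp_comp {P Q : Subgroup Ω} {f g e e' : Ω → Ω} {a a' : MulAut S}
    (ha : a ∈ F.autGroup S) (he : PGen F p P e) (hfe : ∀ x ∈ P, f x = autFun a (e x))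
    (he' : PGen F p Q e') (hge : ∀ x ∈ Q, g x = autFun a' (e' x)) (hm : ∀ x ∈ P, f x ∈ Q) :
    ∃ e'', PGen F p P e'' ∧ ∀ x ∈ P, g (f x) = autFun (a' * a) (e'' x) := by
  have ht := he'.twist (inv_mem ha)
  rw [inv_inv] at ht
  refine ⟨_, .comp he ht (fun x hx => ?_) (fun x _ => rfl), fun x hx => ?_⟩
  · have : e x = autFun a⁻¹ (f x) := by rw [hfe x hx, autFun_inv_apply a (he.isMap.apply_mem hx)]
    rw [this]
    exact apply_mem_fimg _ (hm x hx)
  · show g (f x) = autFun (a' * a) (autFun a⁻¹ (e' (autFun a (e x))))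
    have h1 : e' (f x) ∈ S := he'.isMap.apply_mem (hm x hx)
    rw [← hfe x hx, autFun_mul _ _ (autFun_mem a⁻¹ h1), ← autFun_mul a a⁻¹ h1, mul_inv_cancel,
      autFun_one h1, ← hge _ (hm x hx)]

/-- The subsystem of the maps decomposing through `autZero`. -/
noncomputable def residual (F : FusionSystem S) (p : ℕ) : FusionSystem S where
  Hom P := {φ | φ ∈ F.Hom P ∧ ∃ β ∈ autZero F p, ∃ e, PGen F p P e ∧
    ∀ x ∈ P, toFun φ x = autFun β (e x)}
  le_of_mem h := F.le_of_mem h.1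
  injective_of_mem h := F.injective_of_mem h.1
  conj_mem {P g} hP hg := ⟨F.conj_mem hP hg, 1, one_mem _, fun x => g * x * g⁻¹,
    .inner hP hg fun _ _ => rfl, fun x hx => by
      rw [toFun_apply _ hx, autFun_one (S.mul_mem (S.mul_mem hg (hP hx)) (S.inv_mem hg))]
      rfl⟩
  comp_mem {P Q φ ψ} hφ hψ hmem := by
    obtain ⟨hφF, a, ha, e, he, hfe⟩ := hφ
    obtain ⟨hψF, a', ha', e', he', hge⟩ := hψ
    refine ⟨F.comp_mem hφF hψF hmem, a' * a, mul_mem ha' ha, ?_⟩
    obtain ⟨e'', he'', h''⟩ := decomp_comp (autZero_le F p ha) he hfe he' hge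
      fun x hx => by rw [toFun_apply φ hx]; exact hmem _
    refine ⟨e'', he'', fun x hx => ?_⟩
    rw [← h'' x hx, toFun_apply _ hx, toFun_apply φ hx, toFun_apply ψ (hmem _)]
    rfl
  inv_mem {P φ} hφ := by
    obtain ⟨hφF, a, ha, e, he, hfe⟩ := hφ
    obtain ⟨ψ, hψ, hψe⟩ := F.inv_mem hφF
    obtain ⟨e₁, -, he1, -, -⟩ := he.isMap.exists_inv
    have ht := (he.inv e₁ he1).twist (autZero_le F p ha)
    have hrange : φ.range = fimg (autFun a) (fimg e P) := by
      rw [(isMap_toFun hφF).range_eq_fimg fun x => (toFun_coe φ x).symm, fimg_congr hfe,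
        he.isMap.fimg_comp]
    refine ⟨ψ, ⟨hψ, a⁻¹, inv_mem ha, _, hrange ▸ ht, fun y hy => ?_⟩, hψe⟩
    obtain ⟨x, rfl⟩ := hy
    rw [toFun_apply ψ ⟨x, rfl⟩, hψe x]
    have h1 : φ x = autFun a (e x) := by rw [← toFun_coe φ x, hfe x x.2]
    show (x : Ω) = autFun a⁻¹ (autFun a (e₁ (autFun a⁻¹ (φ x))))
    rw [h1, autFun_inv_apply a (he.isMap.apply_mem x.2), he1 x x.2,
      autFun_inv_apply a (he.isMap.source_le x.2)]

theorem isMap_residual {P : Subgroup Ω} {f : Ω → Ω} :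
    IsMap (residual F p) P f ↔ IsMap F P f ∧ ∃ β ∈ autZero F p, ∃ e, PGen F p P e ∧
      ∀ x ∈ P, f x = autFun β (e x) := by
  constructor
  · rintro ⟨φ, ⟨hφ, β, hβ, e, he, h⟩, hφf⟩
    exact ⟨⟨φ, hφ, hφf⟩, β, hβ, e, he, fun x hx => by
      rw [← h x hx, toFun_apply φ hx]; exact (hφf ⟨x, hx⟩).symm⟩
  · rintro ⟨⟨φ, hφ, hφf⟩, β, hβ, e, he, h⟩
    exact ⟨φ, ⟨hφ, β, hβ, e, he, fun x hx => by
      rw [toFun_apply φ hx, hφf ⟨x, hx⟩]; exact h x hx⟩, hφf⟩

theorem residual_le (F : FusionSystem S) (p : ℕ) : (residual F p).IsSubsystemOf F :=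
  fun _ _ h => h.1

theorem pGenAuts_le_residual {Q : Subgroup Ω} (hQ : F.IsCentric Q) :
    pGenAuts F p Q ≤ (residual F p).autGroup Q := fun α hα => by
  refine (mem_autGroup hQ.1).2 (isMap_residual.2 ⟨(mem_autGroup hQ.1).1 (pGenAuts_le F p Q hα),
    1, one_mem _, _, .aut hQ hα le_rfl (fun _ _ => rfl), fun x hx => ?_⟩)
  rw [autFun_one (hQ.1 (autFun_mem α hx))]

/-- The class of a map on a centric subgroup does not depend on the decomposition. -/
theorem mem_autZero_of_decomp {P : Subgroup Ω} (hP : F.IsCentric P) {β β' : MulAut S}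
    (hβ : β ∈ autZero F p) (hβ' : β' ∈ F.autGroup S) {e e' : Ω → Ω} (he : PGen F p P e)
    (he' : PGen F p P e') (h : ∀ x ∈ P, autFun β (e x) = autFun β' (e' x)) :
    β' ∈ autZero F p := by
  obtain ⟨e₁, -, he1, -, -⟩ := he.isMap.exists_inv
  have hgen : β'⁻¹ * β ∈ autZero F p := by
    refine subset_closure ⟨mul_mem (inv_mem hβ') (autZero_le F p hβ), fimg e P,
      centric_of_isConj hP he.isMap.isConj, .comp (he.inv e₁ he1) he' (fun y hy => ?_) fun y hy => ?_⟩
    all_goals obtain ⟨x, hx, rfl⟩ := he.isMap.mem_fimg_iff.1 hy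
    · rw [he1 x hx]; exact hx
    · rw [he1 x hx, autFun_mul _ _ (he.isMap.apply_mem hx), h x hx,
        autFun_inv_apply β' (he'.isMap.apply_mem hx)]
  have := mul_mem hβ (inv_mem hgen)
  rwa [mul_inv_rev, inv_inv, mul_inv_cancel_left] at this

variable [Fact p.Prime] [Finite S]

theorem residual_saturated (hS : IsPGroup p S) (hF : F.IsSaturated p) :
    (residual F p).IsSaturated p := by
  have hciff : ∀ P, (residual F p).IsCentric P ↔ F.IsCentric P := fun P =>
    centric_iff hS hF (residual_le F p) fun Q hQ => pGenAuts_le_residual hQ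
  refine SatCrit.isSaturated_of_family hS {P | F.IsCentric P} (fun P hP Q hQ => ?_) (fun P hP => ?_)
    (fun E' hE' Q φ hφ => ?_) fun P hP hPn => absurd ((hciff P).1 hP) hPn
  · obtain ⟨f, hf, rfl⟩ := isConj_iff.1 hQ
    exact centric_of_isConj hP (hf.mono (residual_le F p)).isConj
  · obtain ⟨Q₀, hQ₀, hQ₀n⟩ := exists_fullyNormalized F hP.1
    obtain ⟨f, hf, rfl⟩ := isConj_iff.1 hQ₀
    obtain ⟨b, hb, e, he, hfe⟩ := exists_decomp hS hF hf
    set Q := fimg e P
    have hQn : F.IsFullyNormalized Q := by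
      refine ⟨he.isMap.fimg_le_S, fun R hR => ?_⟩
      have hbm : IsMap F S (autFun b⁻¹) := (mem_autGroup le_rfl).1 (inv_mem hb)
      have h0 : fimg (autFun b⁻¹) (fimg f P) = Q := by
        rw [← hf.fimg_comp]
        exact fimg_congr fun x hx => by rw [hfe x hx, autFun_inv_apply b (he.isMap.apply_mem hx)]
      refine (hQ₀n.2 R (isConj_trans (isConj_trans (isConj_symm hf.isConj) he.isMap.isConj) hR)).trans ?_
      have h1 : fimg (autFun b⁻¹) (normalizerIn S (fimg f P)) ≤ normalizerIn S Q :=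
        h0 ▸ fimg_le fun x hx => hbm.map_normalizerIn hf.fimg_le_S hx.1 hx.2
      haveI : Finite ↥(normalizerIn S Q) := finite_of_le (S := S) inf_le_left
      have h2 := Subgroup.card_le_of_le h1
      exact (hbm.res (inf_le_left : normalizerIn S (fimg f P) ≤ S)).card_fimg.ge.trans h2
    have hQc : F.IsCentric Q := centric_of_isConj hP he.isMap.isConj
    have heE : IsMap (residual F p) P e := isMap_residual.2 ⟨he.isMap, 1, one_mem _, e, he,
      fun x hx => (autFun_one (he.isMap.apply_mem hx)).symm⟩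
    refine ⟨Q, heE.isConj, ⟨hQn.1, ?_⟩, receptive_of hQn.1 fun R v hv hvQ N hRN hN => ?_⟩
    · obtain ⟨-, T, hT⟩ := fullyAutomized_of_fullyNormalized hS hF hQn
      haveI := finite_of_le hQn.1
      set A := (residual F p).autGroup Q
      obtain ⟨W, hW⟩ :=
        ((isPGroup_autInducedBy hS Q).comap_subtype (K := A)).exists_le_sylow
      refine ⟨W, le_antisymm (fun w hw => ?_) hW⟩
      have hAF : A ≤ F.autGroup Q := autGroup_mono (residual_le F p) Q
      let ι : A →* F.autGroup Q := Subgroup.inclusion hAF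
      have h1 : (T : Subgroup (F.autGroup Q)) ≤ (W : Subgroup A).map ι := fun t ht => by
        rw [hT] at ht
        exact ⟨⟨t, autInducedBy_le_autGroup _ hQn.1 ht⟩, hW ht, rfl⟩
      have h2 := T.is_maximal' (W.2.map ι) h1
      have h3 : ι w ∈ (T : Subgroup (F.autGroup Q)) := h2 ▸ ⟨w, hw, rfl⟩
      rw [hT] at h3
      exact h3
    · obtain ⟨hvF, β, hβ, ev, hev, hve⟩ := isMap_residual.1 hv
      obtain ⟨v', hv', hv'e⟩ := receptive_extend (receptive_of_fullyNormalized hS hF hQn) hvF hvQ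
        (N := N) (fun g hg => ⟨⟨((hN g).1 hg).1, ((hN g).1 hg).2.1⟩, ((hN g).1 hg).2.2⟩) hRN
      obtain ⟨b', hb', e', he', hve'⟩ := exists_decomp hS hF hv'
      have hRc : F.IsCentric R := centric_of_isConj hQc (isConj_symm (hvQ ▸ hvF.isConj))
      have hb'0 : b' ∈ autZero F p := mem_autZero_of_decomp hRc hβ hb' hev (he'.res hRN)
        fun x hx => by rw [← hve x hx, ← hv'e x hx, hve' x (hRN hx)]
      exact ⟨v', isMap_residual.2 ⟨hv', b', hb'0, e', he', hve'⟩, hv'e⟩
  · obtain ⟨hφF, β, hβ, e, he, hφe⟩ := hφ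
    have heE : IsMap E' Q e := he.isMap_of fun R hR α hα => by
      obtain ⟨χ, hχ, hχe⟩ := ((mem_autGroup hR.1).1 (pGenAuts_le_residual hR hα)).exists_hom
      exact (mem_autGroup hR.1).2 ⟨χ, hE' R hR hχ, hχe⟩
    have hβm : IsMap E' S (autFun β) := by
      have h1 : IsMap (residual F p) S (autFun β) := isMap_residual.2
        ⟨(mem_autGroup le_rfl).1 (autZero_le F p hβ), β, hβ, fun x => x,
          .inner le_rfl S.one_mem (fun x _ => by simp), fun _ _ => rfl⟩
      obtain ⟨χ, hχ, hχe⟩ := h1.exists_hom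
      exact ⟨χ, hE' S (centric_self F) hχ, hχe⟩
    exact mem_hom_of_isMap (((heE.comp hβm fun x hx => heE.apply_mem hx).congr
      fun x hx => (hφe x hx).symm)) fun x => (toFun_coe φ x).symm

/-- The `p'`-residual subsystem exists. -/
theorem exists_residual (hS : IsPGroup p S) (hF : F.IsSaturated p) :
    ∃ E : FusionSystem S, F.IsPPrimeResidual p E := by
  refine ⟨residual F p, residual_saturated hS hF,
    hasPrimeToPIndexIn hS hF (residual_le F p) fun Q hQ => pGenAuts_le_residual hQ,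
    fun D hD hDi P φ hφ => ?_⟩
  obtain ⟨-, β, hβ, e, he, hφe⟩ := hφ
  have hD' : ∀ Q, F.IsCentric Q → pGenAuts F p Q ≤ D.autGroup Q := fun Q hQ => hDi.2 Q hQ.1
  have heD := he.isMap_of hD'
  have hβD : IsMap D S (autFun β) := by
    refine (mem_autGroup le_rfl).1 ((Subgroup.closure_le (D.autGroup S)).2 ?_ hβ)
    rintro γ ⟨hγ, R, hR, hγR⟩
    exact (mem_autGroup le_rfl).2 (mem_of_res_centric hS hF hD hDi.1 ((mem_autGroup le_rfl).1 hγ)
      hR.1 hR (hγR.isMap_of hD'))
  exact mem_hom_of_isMap ((heD.comp hβD fun x hx => heD.apply_mem hx).congr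
    fun x hx => (hφe x hx).symm) fun x => (toFun_coe φ x).symm

end Cfsg.Agent.Fus.PrimeIndex
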