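import Cfsg.Agent.Lib.Fus.Hyperfocal
import Cfsg.Agent.Lib.Fus.FactorSat
import Cfsg.Agent.Lib.Fus.FactorExtend

/-!
The hyperfocal subgroup, strongly closed subgroups and factor systems.
-/

set_option autoImplicit false
set_option linter.style.haveILetI false
set_option linter.unusedSectionVars false

open scoped Classical

namespace Cfsg.Agent.Fus

open Subgroup FusionSystem

universe u v

variable {Ω : Type u} [Group Ω] {S : Subgroup Ω} {F : FusionSystem S} {T : Subgroup Ω} {p : ℕ}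
  {Ω' : Type v} [Group Ω'] {S' : Subgroup Ω'} {θ : S →* Ω'} {E : FusionSystem S'}

/-- It is enough to test the automorphisms of order prime to `p`. -/
theorem hyperfocal_le_of_coprime {M : Subgroup Ω} (h : ∀ P : Subgroup Ω, P ≤ S →
      ∀ α : F.autGroup P, Nat.Coprime (orderOf α) p → ∀ x ∈ P,
        x⁻¹ * autFun (α : MulAut P) x ∈ M) : F.hyperfocalSubgroup p ≤ M := by
  refine hyperfocal_le_iff.2 fun P hP α hα => ?_
  refine Subgroup.closure_induction (p := fun (α : F.autGroup P) _ =>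
    ∀ x ∈ P, x⁻¹ * autFun (α : MulAut P) x ∈ M) (fun α hα x hx => h P hP α hα x hx)
    (fun x hx => ?_) (fun α β _ _ ha hb x hx => ?_) (fun α _ ha x hx => ?_) hα
  · rw [Subgroup.coe_one, autFun_one hx, inv_mul_cancel]
    exact M.one_mem
  · rw [Subgroup.coe_mul, autFun_mul _ _ hx]
    have := M.mul_mem (hb x hx) (ha _ (autFun_mem (β : MulAut P) hx))
    simpa [mul_assoc] using this
  · have h1 := M.inv_mem (ha _ (autFun_mem ((α : MulAut P)⁻¹) hx))
    rw [← autFun_mul _ _ hx, mul_inv_cancel, autFun_one hx] at h1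
    rw [Subgroup.coe_inv]
    simpa using h1

theorem isFullyNormalized_of_stronglyClosed [Finite S] (hT : F.StronglyClosed T) :
    F.IsFullyNormalized T := by
  refine ⟨hT.1, fun Q hQ => ?_⟩
  obtain ⟨f, hf, rfl⟩ := isConj_iff.1 hQ
  rw [fimg_stronglyClosed hT hf le_rfl]

/-- An element of the hyperfocal subgroup acts on a strongly closed subgroup as an element of
`O^p(Aut_F(T)) Inn(T)`. -/
theorem hyperfocal_action [Finite S] [Fact p.Prime] (hS : IsPGroup p S) (hF : F.IsSaturated p)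
    (hT : F.StronglyClosed T) {x : Ω} (hx : x ∈ F.hyperfocalSubgroup p) :
    ∃ α ∈ ((pResidual p ↥(F.autGroup T)).map (F.autGroup T).subtype ⊔ Inn ↥T :
      Subgroup (MulAut ↥T)), ∀ t : ↥T, ((α t : ↥T) : Ω) = x * (t : Ω) * x⁻¹ := by
  have hTS := hT.1
  haveI := finite_of_le hTS
  set A := F.autGroup T with hA
  haveI := Transfer.pResidual_characteristic p A
  haveI := inn_subgroupOf_normal F T
  let K : Subgroup A := pResidual p A ⊔ (Inn T).subgroupOf A
  haveI : K.Normal := Subgroup.sup_normal _ _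
  obtain ⟨-, R, hR⟩ := fullyAutomized_of_fullyNormalized hS hF
    (isFullyNormalized_of_stronglyClosed hT)
  have hQp : IsPGroup p (A ⧸ K) := by
    refine R.2.of_surjective ((QuotientGroup.mk' K).comp (R : Subgroup A).subtype) fun y => ?_
    obtain ⟨a, rfl⟩ := QuotientGroup.mk'_surjective K y
    obtain ⟨r, hr, ρ, hρ, rfl⟩ := Subgroup.mem_sup_of_normal_right.1
      (show a ∈ (R : Subgroup A) ⊔ pResidual p A by
        rw [Transfer.sylow_sup_pResidual]; exact Subgroup.mem_top a)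
    refine ⟨⟨r, hr⟩, ?_⟩
    show QuotientGroup.mk' K r = _
    rw [map_mul, show QuotientGroup.mk' K ρ = 1 from (QuotientGroup.eq_one_iff ρ).2
      (Subgroup.mem_sup_left hρ), mul_one]
  have hN := le_normalizer_of_stronglyClosed hT
  let c : S →* A := MonoidHom.codRestrict
    (T.normalizerMonoidHom.comp (Subgroup.inclusion hN)) A fun s =>
      autInducedBy_le_autGroup F hTS (mem_autInducedBy.2 ⟨s, s.2, fun x => rfl⟩)
  let Φ : S →* A ⧸ K := (QuotientGroup.mk' K).comp c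
  suffices hle : F.hyperfocalSubgroup p ≤ Φ.ker.map S.subtype by
    obtain ⟨s, hs, rfl⟩ := hle hx
    refine ⟨(c s : MulAut T), ?_, fun t => rfl⟩
    obtain ⟨ρ, hρ, i, hi, e⟩ := Subgroup.mem_sup_of_normal_left.1
      ((QuotientGroup.eq_one_iff (c s)).1 hs : c s ∈ K)
    rw [← e, Subgroup.coe_mul]
    exact mul_mem (Subgroup.mem_sup_left ⟨ρ, hρ, rfl⟩) (Subgroup.mem_sup_right hi)
  refine hyperfocal_le_of_coprime fun P hP α hα z hz => ?_
  obtain ⟨g, hg, hgT, hgP⟩ := extMod_of_isMap hS hF hT ((mem_autGroup hP).1 α.2)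
  obtain ⟨a, ha, hae⟩ := (hg.res le_sup_right).exists_aut hgT
  let a' : A := ⟨a, ha⟩
  have hconj : ∀ y (hy : y ∈ P), Φ ⟨autFun (α : MulAut P) y, hP (autFun_mem _ hy)⟩ =
      QuotientGroup.mk' K a' * Φ ⟨y, hP hy⟩ * (QuotientGroup.mk' K a')⁻¹ := by
    intro y hy
    obtain ⟨t, ht, et⟩ := eq_mul_mem (hgP y hy)
    have hgy : g y ∈ S := hg.apply_mem (Subgroup.mem_sup_left hy)
    rw [show (⟨autFun (α : MulAut P) y, hP (autFun_mem _ hy)⟩ : S) = ⟨g y, hgy⟩ * ⟨t, hTS ht⟩ from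
      Subtype.ext et, map_mul]
    have h1 : Φ ⟨t, hTS ht⟩ = 1 := (QuotientGroup.eq_one_iff _).2 <| Subgroup.mem_sup_right <| by
      rw [Subgroup.mem_subgroupOf, inn_eq_autInducedBy]
      exact mem_autInducedBy.2 ⟨t, ht, fun x => rfl⟩
    rw [h1, mul_one]
    show QuotientGroup.mk' K (c ⟨g y, hgy⟩) = _ * QuotientGroup.mk' K (c ⟨y, hP hy⟩) * _
    rw [← map_inv, ← map_mul, ← map_mul]
    refine congrArg _ (Subtype.ext (MulEquiv.ext fun u => Subtype.ext ?_))
    have hu : ((a⁻¹ u : T) : Ω) ∈ T := SetLike.coe_mem _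
    have hgu : g ((a⁻¹ u : T) : Ω) = (u : Ω) := by
      rw [← hae _ hu, autFun_coe, MulAut.apply_inv_self]
    have hyu : y * ((a⁻¹ u : T) : Ω) * y⁻¹ ∈ T :=
      StronglyClosed.conj_mem' hT (hP hy) hu
    show g y * (u : Ω) * (g y)⁻¹ = ((a ⟨y * ((a⁻¹ u : T) : Ω) * y⁻¹, hyu⟩ : T) : Ω)
    rw [← autFun_coe a ⟨_, hyu⟩]
    show _ = autFun a (y * ((a⁻¹ u : T) : Ω) * y⁻¹)
    rw [hae _ hyu, hg.map_conj (Subgroup.mem_sup_left hy) (Subgroup.mem_sup_right hu), hgu]
  have hiter : ∀ (n : ℕ) y (hy : y ∈ P),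
      Φ ⟨autFun ((α : MulAut P) ^ n) y, hP (autFun_mem _ hy)⟩ =
      QuotientGroup.mk' K a' ^ n * Φ ⟨y, hP hy⟩ * (QuotientGroup.mk' K a' ^ n)⁻¹ := by
    intro n
    induction n with
    | zero =>
      intro y hy
      simp only [pow_zero, one_mul, inv_one, mul_one]
      exact congrArg Φ (Subtype.ext (autFun_one hy))
    | succ n ih =>
      intro y hy
      rw [show (⟨autFun ((α : MulAut P) ^ (n + 1)) y, hP (autFun_mem _ hy)⟩ : S) =
        ⟨autFun (α : MulAut P) (autFun ((α : MulAut P) ^ n) y), hP (autFun_mem _ (autFun_mem _ hy))⟩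
        from Subtype.ext (by
          show autFun ((α : MulAut P) ^ (n + 1)) y = _
          rw [pow_succ', autFun_mul _ _ hy]), hconj _ (autFun_mem _ hy), ih y hy, pow_succ']
      group
  set b := QuotientGroup.mk' K a' with hb
  have hcop : (orderOf α).Coprime (orderOf b) := by
    obtain ⟨k, hk⟩ := hQp b
    exact (hα.pow_right k).coprime_dvd_right (orderOf_dvd_of_pow_eq_one hk)
  obtain ⟨m, hm⟩ := exists_pow_eq_self_of_coprime hcop
  have hcomm : Commute (b ^ orderOf α) (Φ ⟨z, hP hz⟩) := by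
    have h := hiter (orderOf α) z hz
    have e1 : ((α : MulAut P)) ^ orderOf α = 1 := by
      rw [← Subgroup.coe_pow, pow_orderOf_eq_one, Subgroup.coe_one]
    rw [show (⟨autFun ((α : MulAut P) ^ orderOf α) z, hP (autFun_mem _ hz)⟩ : S) = ⟨z, hP hz⟩ from
      Subtype.ext (by show autFun ((α : MulAut P) ^ orderOf α) z = z; rw [e1, autFun_one hz])] at h
    exact (eq_mul_inv_iff_mul_eq.1 h).symm
  have hb' : Commute b (Φ ⟨z, hP hz⟩) := by
    have := hcomm.pow_left m
    rwa [hm] at this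
  refine ⟨(⟨z, hP hz⟩ : S)⁻¹ * ⟨_, hP (autFun_mem (α : MulAut P) hz)⟩, ?_, rfl⟩
  show Φ _ = 1
  rw [map_mul, map_inv, hconj z hz, hb'.eq, mul_inv_cancel_right, inv_mul_cancel]

/-- Powers of an automorphism and of the automorphism it induces along a factor map. -/
theorem induced_pow {P : Subgroup Ω} (hP : P ≤ S) {P' : Subgroup Ω'} {α : MulAut P} {β : MulAut P'}
    (hmem : ∀ x (hx : x ∈ P), θ ⟨x, hP hx⟩ ∈ P')
    (h : ∀ x (hx : x ∈ P), autFun β (θ ⟨x, hP hx⟩) = θ ⟨autFun α x, hP (autFun_mem α hx)⟩) :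
    ∀ (n : ℕ) x (hx : x ∈ P),
      autFun (β ^ n) (θ ⟨x, hP hx⟩) = θ ⟨autFun (α ^ n) x, hP (autFun_mem _ hx)⟩ := by
  intro n
  induction n with
  | zero =>
    intro x hx
    rw [pow_zero, autFun_one (hmem x hx)]
    refine congrArg θ (Subtype.ext ?_)
    show x = autFun (α ^ 0) x
    rw [pow_zero, autFun_one hx]
  | succ n ih =>
    intro x hx
    rw [pow_succ', autFun_mul _ _ (hmem x hx), ih x hx, h _ (autFun_mem _ hx)]
    refine congrArg θ (Subtype.ext ?_)
    show autFun α (autFun (α ^ n) x) = autFun (α ^ (n + 1)) x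
    rw [pow_succ', autFun_mul _ _ hx]

/-- The hyperfocal subgroup of a factor system. -/
theorem hyperfocal_factor [Finite S] [Fact p.Prime] (hS : IsPGroup p S) (hF : F.IsSaturated p)
    (hT : F.StronglyClosed T) (hE : F.IsFactorSystem T θ E) :
    E.hyperfocalSubgroup p = ((F.hyperfocalSubgroup p).subgroupOf S).map θ := by
  refine le_antisymm ?_ ?_
  · refine hyperfocal_le_of_coprime fun P' hP' β hβ y hy => ?_
    obtain ⟨g, hg, hge⟩ := exists_lift hE ((mem_autGroup hP').1 β.2)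
    have hQS : preimageAlong θ P' ≤ S := preimageAlong_le P'
    haveI := finite_of_le hQS
    have hgQ : fimg g (preimageAlong θ P') = preimageAlong θ P' :=
      Subgroup.eq_of_le_of_card_ge (fimg_le fun x hx => mem_preimageAlong.2
        ⟨hg.apply_mem hx, (hge x hx (hg.apply_mem hx)).symm ▸
          autFun_mem (β : MulAut P') (mem_preimageAlong.1 hx).2⟩) hg.card_fimg.ge
    obtain ⟨α, hα, hαe⟩ := hg.exists_aut hgQ
    obtain ⟨x, rfl⟩ : ∃ x : S, θ x = y := (hE.2.2.1.symm ▸ hP') hy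
    have hx : (x : Ω) ∈ preimageAlong θ P' := mem_preimageAlong.2 ⟨x.2, hy⟩
    have hpow := induced_pow hQS (α := α) (β := (β : MulAut P'))
      (fun x hx => (mem_preimageAlong.1 hx).2) (fun x hx => by
        rw [← hge x hx (hg.apply_mem hx)]
        exact congrArg θ (Subtype.ext (hαe x hx).symm))
    -- the part of `α` of order prime to `p`
    let α' : F.autGroup (preimageAlong θ P') := ⟨α, hα⟩
    haveI := Fintype.ofFinite (F.autGroup (preimageAlong θ P'))
    set a := p ^ (orderOf α').factorization p with ha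
    have hβa : (orderOf β).Coprime a := hβ.pow_right _
    obtain ⟨j, hj⟩ := exists_pow_eq_self_of_coprime (x := β) hβa.symm
    have hα'c : (orderOf ((α' ^ a) ^ j)).Coprime p := by
      refine Nat.Coprime.coprime_dvd_left (orderOf_pow_dvd j) ?_
      rw [orderOf_pow_of_dvd (pow_ne_zero _ (Fact.out : p.Prime).pos.ne')
        (Nat.ordProj_dvd _ _)]
      exact (Nat.coprime_ordCompl (Fact.out : p.Prime) (orderOf_pos α').ne').symm
    have hm := hyperfocal_mem (F := F) hQS (α := (α' ^ a) ^ j) (Subgroup.subset_closure hα'c) hx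
    refine ⟨x⁻¹ * ⟨_, hQS (autFun_mem _ hx)⟩, hm, ?_⟩
    rw [map_mul, map_inv]
    refine congrArg _ ?_
    have e1 : (((α' ^ a) ^ j : F.autGroup (preimageAlong θ P')) : MulAut (preimageAlong θ P')) =
        α ^ (a * j) := by rw [← pow_mul, Subgroup.coe_pow]
    have e2 : (β : MulAut P') ^ (a * j) = β := by rw [← Subgroup.coe_pow, pow_mul, hj]
    calc θ ⟨autFun (((α' ^ a) ^ j : F.autGroup (preimageAlong θ P')) : MulAut _) x, _⟩
        = θ ⟨autFun (α ^ (a * j)) x, hQS (autFun_mem _ hx)⟩ :=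
          congrArg θ (Subtype.ext (congrArg (fun γ => autFun γ (x : Ω)) e1))
      _ = autFun (β : MulAut P') (θ x) := by
          rw [← hpow (a * j) x hx, e2]
  · suffices h : F.hyperfocalSubgroup p ≤ ((E.hyperfocalSubgroup p).comap θ).map S.subtype by
      rintro _ ⟨x, hx, rfl⟩
      obtain ⟨x', hx', e⟩ := h hx
      exact (Subtype.ext e : x' = x) ▸ hx'
    refine hyperfocal_le_of_coprime fun P hP α hα x hx => ?_
    obtain ⟨φ, hφ, e⟩ := ((mem_autGroup hP).1 α.2).exists_hom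
    have hmor := (isMorphism_factor hS hF hT hE).2 P φ hφ
    set P' := imageAlong θ P with hP'
    obtain ⟨φ', hφ', hP'', hφS, hmem, he⟩ := hmor
    have hP'S : P' ≤ S' := (E.le_of_mem hφ').1
    haveI : Finite P' := by
      haveI : Finite θ.range := Finite.of_surjective θ.rangeRestrict θ.rangeRestrict_surjective
      exact finite_of_le (S := θ.range) (by rintro _ ⟨y, -, rfl⟩; exact ⟨y, rfl⟩)
    have hf' := isMap_toFun hφ'
    have himg : ∀ y (hy : y ∈ P), toFun φ' (θ ⟨y, hP hy⟩) =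
        θ ⟨autFun (α : MulAut P) y, hP (autFun_mem _ hy)⟩ := fun y hy => by
      rw [toFun_apply φ' (hmem ⟨y, hy⟩), he ⟨y, hy⟩]
      exact congrArg θ (Subtype.ext (e ⟨y, hy⟩))
    have hsrc : ∀ z ∈ P', ∃ y, ∃ hy : y ∈ P, θ ⟨y, hP hy⟩ = z := by
      rintro _ ⟨⟨y, hyS⟩, hy, rfl⟩
      exact ⟨y, hy, rfl⟩
    have hfix : fimg (toFun φ') P' = P' := Subgroup.eq_of_le_of_card_ge (fimg_le fun z hz => by
      obtain ⟨y, hy, rfl⟩ := hsrc z hz
      rw [himg y hy]
      exact hmem ⟨_, autFun_mem _ hy⟩) hf'.card_fimg.ge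
    obtain ⟨β, hβ, hβe⟩ := hf'.exists_aut hfix
    have hpow := induced_pow hP (fun y hy => hmem ⟨y, hy⟩) (α := (α : MulAut P)) (β := β)
      fun y hy => by rw [hβe _ (hmem ⟨y, hy⟩), himg y hy]
    have hβc : (orderOf (⟨β, hβ⟩ : E.autGroup P')).Coprime p := by
      refine Nat.Coprime.coprime_dvd_left (orderOf_dvd_of_pow_eq_one (n := orderOf α)
        (Subtype.ext ?_)) hα
      refine mulAut_ext fun z hz => ?_
      obtain ⟨y, hy, rfl⟩ := hsrc z hz
      show autFun (β ^ orderOf α) _ = autFun 1 _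
      rw [autFun_one hz, hpow _ y hy]
      refine congrArg θ (Subtype.ext ?_)
      show autFun ((α : MulAut P) ^ orderOf α) y = y
      rw [← Subgroup.coe_pow, pow_orderOf_eq_one, Subgroup.coe_one, autFun_one hy]
    have hm := hyperfocal_mem (F := E) hP'S (α := ⟨β, hβ⟩) (Subgroup.subset_closure hβc)
      (hmem ⟨x, hx⟩)
    refine ⟨(⟨x, hP hx⟩ : S)⁻¹ * ⟨_, hP (autFun_mem (α : MulAut P) hx)⟩, ?_, rfl⟩
    show θ _ ∈ E.hyperfocalSubgroup p
    rw [map_mul, map_inv, ← himg x hx, ← hβe _ (hmem ⟨x, hx⟩)]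
    exact hm

end Cfsg.Agent.Fus
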