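import Cfsg.Agent.Lib.Fus.Hyperfocal
import Cfsg.Agent.Lib.Fus.GroupSystem
import Cfsg.Agent.Lib.Fus.FactorExtend
import Cfsg.Agent.Lib.Transfer.Fusion

/-!
The hyperfocal subgroup of the fusion system of a finite group is `S ∩ O^p(G)`.
-/

set_option autoImplicit false
set_option linter.style.haveILetI false

open scoped Classical commutatorElement

namespace Cfsg.Agent.Fus

open Subgroup FusionSystem

universe u

variable {G : Type u} [Group G] [Finite G] {p : ℕ} [Fact p.Prime]

theorem pResidual_self_eq_top (p : ℕ) (G : Type*) [Group G] :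
    pResidual p (pResidual p G) = ⊤ := by
  rw [eq_top_iff]
  rintro ⟨x, hx⟩ -
  suffices h : x ∈ (pResidual p (pResidual p G)).map (pResidual p G).subtype by
    obtain ⟨y, hy, e⟩ := h
    rwa [show (⟨x, hx⟩ : pResidual p G) = y from Subtype.ext e.symm]
  refine (Subgroup.closure_le _).2 (fun g hg => ?_) hx
  refine ⟨⟨g, Subgroup.subset_closure hg⟩, Transfer.mem_pResidual_of_coprime ?_, rfl⟩
  rw [← orderOf_injective (pResidual p G).subtype (pResidual p G).subtype_injective]
  exact hg

theorem hyperfocal_group (S : Sylow p G) :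
    (groupFusionSystem (S : Subgroup G)).hyperfocalSubgroup p =
      (S : Subgroup G) ⊓ pResidual p G := by
  set F := groupFusionSystem (S : Subgroup G) with hFdef
  set H := pResidual p G with hH
  haveI : H.Normal := Transfer.instNormalPResidual p
  refine le_antisymm (le_inf (hyperfocal_le F p) (hyperfocal_le_iff.2 fun P hP α hα x hx => ?_)) ?_
  · have hN : F.autGroup P = autInducedBy ⊤ P := by
      rw [hFdef, groupFusionSystem_eq, autGroup_ofSubgroup hP]
    let φ : Subgroup.normalizer (P : Set G) →* F.autGroup P :=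
      (P.normalizerMonoidHom).codRestrict _ fun g => by
        rw [hN]
        exact mem_autInducedBy.2 ⟨g, Subgroup.mem_top _, fun x => rfl⟩
    have hφ : Function.Surjective φ := fun β => by
      obtain ⟨g, -, hg⟩ := mem_autInducedBy.1 (show (β : MulAut P) ∈ autInducedBy ⊤ P from hN ▸ β.2)
      refine ⟨⟨g, mem_normalizer_of_conj_aut hg⟩, Subtype.ext (MulEquiv.ext fun x => Subtype.ext ?_)⟩
      exact (hg x).symm
    rw [← Transfer.pResidual_map_of_surjective hφ] at hα
    obtain ⟨g, hg, rfl⟩ := hα
    have hgH : (g : G) ∈ H :=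
      Transfer.pResidual_map_le (Subgroup.normalizer (P : Set G)).subtype ⟨g, hg, rfl⟩
    rw [show autFun ((φ g : F.autGroup P) : MulAut P) x = _ from autFun_coe _ ⟨x, hx⟩]
    show x⁻¹ * ((g : G) * x * (g : G)⁻¹) ∈ H
    have := mul_mem ((inferInstance : H.Normal).conj_mem _ hgH x⁻¹) (inv_mem hgH)
    simpa [mul_assoc] using this
  · set T := (S : Subgroup G) ⊓ H with hT
    obtain ⟨-, R, hR⟩ := isSylowOf_inf_normal S H
    have hTs : IsSylowOf p T H := ⟨inf_le_right, R, hR⟩
    set E := fusionSystemOfSubgroup H T inf_le_right with hE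
    have hTp : IsPGroup p T := hTs.isPGroup
    have hEs : E.IsSaturated p := isSaturated_ofSubgroup hTs inf_le_right
    have hEF : E.hyperfocalSubgroup p ≤ F.hyperfocalSubgroup p := by
      refine hyperfocal_le_iff.2 fun P hP α hα x hx => ?_
      have hsub : E.IsSubsystemOf F := by
        rintro Q φ ⟨hQ, hφ, g, -, hg⟩
        exact ⟨hQ.trans inf_le_left, fun y => (hφ y).1, g, hg⟩
      exact hyperfocal_mem (F := F) (hP.trans inf_le_left)
        (Transfer.pResidual_map_le (Subgroup.inclusion (autGroup_mono hsub P)) ⟨α, hα, rfl⟩) hx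
    have hfoc : T ≤ E.focalSubgroup := by
      intro x hx
      have h1 := Transfer.le_commutator_of_pResidual_eq_top R (pResidual_self_eq_top p G)
        (show (⟨x, hx.2⟩ : H) ∈ (R : Subgroup H) by rw [hR]; exact hx)
      have h2 := Transfer.commutator_inf_sylow_le R
        (K := E.focalSubgroup.subgroupOf H) (fun y hy u hu => ?_) ⟨h1, by
          show (⟨x, hx.2⟩ : H) ∈ (R : Subgroup H)
          rw [hR]; exact hx⟩
      · exact h2
      · rw [hR] at hy hu
        have hm : IsMap E (Subgroup.zpowers (y : G)) (fun z => (u : G) * z * (u : G)⁻¹) := by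
          refine isMap_ofSubgroup.2 ⟨Subgroup.zpowers_le.2 hy, u, u.2, fun z hz => ⟨rfl, ?_⟩⟩
          obtain ⟨i, rfl⟩ := Subgroup.mem_zpowers_iff.1 hz
          rw [← conj_zpow]
          exact zpow_mem (show (u : G) * y * (u : G)⁻¹ ∈ T from hu) i
        exact hm.focal_mem (Subgroup.mem_zpowers _)
    haveI : Finite T := inferInstance
    haveI : Group.IsNilpotent T := hTp.isNilpotent
    haveI : ((E.hyperfocalSubgroup p).subgroupOf T).Normal :=
      ⟨fun n hn g => hyperfocal_conj_mem g.2 hn⟩
    have hle := le_of_le_sup_commutator (⊤ : Subgroup T) ((E.hyperfocalSubgroup p).subgroupOf T) (by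
      rw [← Subgroup.map_le_map_iff_of_injective T.subtype_injective, Subgroup.map_sup,
        Subgroup.map_commutator, ← MonoidHom.range_eq_map, Subgroup.range_subtype,
        Subgroup.subgroupOf_map_subtype, inf_eq_left.2 (hyperfocal_le E p),
        ← focal_eq_hyperfocal_sup hTp hEs]
      exact hfoc)
    intro x hx
    exact hEF (hle (Subgroup.mem_top (⟨x, hx⟩ : T)))

end Cfsg.Agent.Fus
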