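import Cfsg.Agent.Lib.Fus.Alperin
import Cfsg.Agent.Lib.Fus.GroupHyperfocal

/-!
A saturated system is generated by the inner maps and the `O^p` parts of its automorphism groups;
uniqueness of saturated subsystems of `p`-power index over a given subgroup, and the case of the
fusion system of a finite group.
-/

set_option autoImplicit false
set_option linter.style.haveILetI false

open scoped Classical

namespace Cfsg.Agent.Fus

open Subgroup FusionSystem

universe u

variable {Ω : Type u} [Group Ω] {p : ℕ} [Fact p.Prime]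

theorem isSubsystemOf_of_pResidual_le {S U : Subgroup Ω} [Finite S] {F : FusionSystem S}
    {E : FusionSystem U} (hSU : S ≤ U) (hS : IsPGroup p S) (hF : F.IsSaturated p)
    (h : ∀ P : Subgroup Ω, P ≤ S →
      (pResidual p (F.autGroup P)).map (F.autGroup P).subtype ≤ E.autGroup P) :
    F.IsSubsystemOf E := by
  have key : ∀ P : Subgroup Ω, F.IsFullyNormalized P → ∀ α ∈ F.autGroup P,
      IsMap E P (autFun α) := by
    intro P hP α hα
    obtain ⟨g, hg, ρ, hρ, e⟩ :=
      aut_decomp (fullyAutomized_of_fullyNormalized hS hF hP) ⟨α, hα⟩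
    have hm : IsMap E P (autFun (ρ : MulAut P)) :=
      (mem_autGroup (hP.1.trans hSU)).1 (h P hP.1 ⟨ρ, hρ, rfl⟩)
    exact (hm.comp (isMap_conj E (hP.1.trans hSU) (hSU hg)) fun x hx => autFun_mem _ hx).congr
      fun x hx => (e x hx).symm
  intro P φ hφ
  refine mem_hom_iff.2 (alperin hS hF (fun Q f => IsMap E Q f) (fun _ _ _ hf he => hf.congr he)
    (fun _ _ _ _ _ _ hmem hf hg => hf.comp hg hmem) (fun _ _ _ _ hle hf => hf.res hle) ?_ ?_
    (mem_hom_iff.1 hφ))
  · intro α hα
    refine key S ⟨le_rfl, fun Q hQ => ?_⟩ α hα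
    have h1 : Q ≤ S := isConj_le_right hQ
    have h2 : Q = S := Subgroup.eq_of_le_of_card_ge h1 (isConj_card hQ).ge
    rw [h2]
  · intro Q hQ α hα
    exact key Q hQ.2.1 α hα

/-- Two saturated subsystems of `p`-power index over the same subgroup coincide. -/
theorem hom_eq_of_pPowerIndex {S : Subgroup Ω} [Finite S] {F : FusionSystem S}
    {T T' : Subgroup Ω} {E : FusionSystem T} {D : FusionSystem T'} (hTT : T = T')
    (hTS : T ≤ S) (hS : IsPGroup p S)
    (hE : E.IsSaturated p) (hEi : E.HasPPowerIndexIn F p)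
    (hD : D.IsSaturated p) (hDi : D.HasPPowerIndexIn F p) :
    ∀ P : Subgroup Ω, E.Hom P = D.Hom P := by
  subst hTT
  haveI : Finite T := finite_of_le hTS
  have hT : IsPGroup p T := hS.of_injective (Subgroup.inclusion hTS)
    (Subgroup.inclusion_injective hTS)
  have key : ∀ A B : FusionSystem T, A.IsSaturated p → A.IsSubsystemOf F →
      B.HasPPowerIndexIn F p → A.IsSubsystemOf B := by
    intro A B hA hAF hB
    refine isSubsystemOf_of_pResidual_le le_rfl hT hA fun P hP => le_trans ?_ (hB.2.2 P hP)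
    rintro _ ⟨α, hα, rfl⟩
    exact ⟨Subgroup.inclusion (autGroup_mono hAF P) α,
      Transfer.pResidual_map_le (Subgroup.inclusion (autGroup_mono hAF P)) ⟨α, hα, rfl⟩, rfl⟩
  exact fun P => Set.Subset.antisymm (key E D hE hEi.1 hDi P) (key D E hD hDi.1 hEi P)

theorem ofSubgroup_pResidual_hasPPowerIndex {G : Type u} [Group G] [Finite G] (S : Sylow p G) :
    (fusionSystemOfSubgroup (pResidual p G) ((S : Subgroup G) ⊓ pResidual p G)
      inf_le_right).HasPPowerIndexIn (groupFusionSystem (S : Subgroup G)) p := by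
  refine ⟨?_, (hyperfocal_group S).le, fun P hP => ?_⟩
  · rintro Q φ ⟨hQ, hφ, g, -, hg⟩
    exact ⟨hQ.trans inf_le_left, fun y => (hφ y).1, g, hg⟩
  rw [autGroup_ofSubgroup hP]
  have hN : (groupFusionSystem (S : Subgroup G)).autGroup P = autInducedBy ⊤ P := by
    rw [groupFusionSystem_eq, autGroup_ofSubgroup (hP.trans inf_le_left)]
  let φ : Subgroup.normalizer (P : Set G) →* (groupFusionSystem (S : Subgroup G)).autGroup P :=
    (P.normalizerMonoidHom).codRestrict _ fun g => by
      rw [hN]
      exact mem_autInducedBy.2 ⟨g, Subgroup.mem_top _, fun x => rfl⟩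
  have hφ : Function.Surjective φ := fun β => by
    obtain ⟨g, -, hg⟩ := mem_autInducedBy.1 (show (β : MulAut P) ∈ autInducedBy ⊤ P from hN ▸ β.2)
    refine ⟨⟨g, mem_normalizer_of_conj_aut hg⟩, Subtype.ext (MulEquiv.ext fun x => Subtype.ext ?_)⟩
    exact (hg x).symm
  rintro _ ⟨α, hα, rfl⟩
  rw [← Transfer.pResidual_map_of_surjective hφ] at hα
  obtain ⟨g, hg, rfl⟩ := hα
  exact mem_autInducedBy.2 ⟨g,
    Transfer.pResidual_map_le (Subgroup.normalizer (P : Set G)).subtype ⟨g, hg, rfl⟩, fun x => rfl⟩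

end Cfsg.Agent.Fus
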