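import Cfsg.Prelude.Def_FusionReduction
import Cfsg.Agent.Lib.Fus.PPowerUnique
import Cfsg.Agent.Lib.Fus.PPowerNormal
import Cfsg.Agent.Lib.Fus.HypAction

/-!
Uniqueness of residual limits, and their invariance under normal subsystems of `p`-power index.
-/

set_option autoImplicit false
set_option linter.style.haveILetI false

open scoped Classical

namespace Cfsg.Agent.Fus

open Subgroup FusionSystem

universe u

variable {Ω : Type u} [Group Ω] {p : ℕ}

theorem hasPPowerIndexIn_self {S : Subgroup Ω} (F : FusionSystem S) :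
    F.HasPPowerIndexIn F p := by
  refine ⟨fun P => subset_rfl, hyperfocal_le F p, fun P _ => ?_⟩
  rintro _ ⟨a, -, rfl⟩
  exact a.2

/-- The step of the residual series, with the subgroup given up to equality. -/
theorem limit_step_of_eq {S U : Subgroup Ω} {F : FusionSystem S} {A : FusionSystem U}
    {M : Subgroup Ω} (hM : M = F.hyperfocalSubgroup p) {D D' : FusionSystem M}
    (hD : D.IsSaturated p) (hDi : D.HasPPowerIndexIn F p) (hD' : D.IsPPrimeResidual p D')
    (h : A.IsResidualLimitOf D' p) : A.IsResidualLimitOf F p := by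
  subst hM
  exact IsResidualLimitOf.step F p D D' ⟨hD, hDi⟩ hD' h

variable [Fact p.Prime]

/-- The residual step of a stable system is the system itself. -/
theorem residual_eq_of_stable {S M : Subgroup Ω} {F : FusionSystem S} [Finite S]
    (hS : IsPGroup p S) (hhyp : F.hyperfocalSubgroup p = S) (hF : F.IsPPrimeResidual p F)
    (hM : M = S) {D D' : FusionSystem M} (hD : D.IsSaturated p) (hDi : D.HasPPowerIndexIn F p)
    (hD' : D.IsPPrimeResidual p D') :
    D'.hyperfocalSubgroup p = M ∧ D'.IsPPrimeResidual p D' ∧ HEq D' F := by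
  subst hM
  obtain rfl : D = F := eq_of_hom_eq
    (hom_eq_of_pPowerIndex rfl le_rfl hS hD hDi hF.1 (hasPPowerIndexIn_self F))
  obtain rfl : D' = D := eq_of_hom_eq fun P =>
    Set.Subset.antisymm (hD'.2.2 D hF.1 hF.2.1 P) (hF.2.2 D' hD'.1 hD'.2.1 P)
  exact ⟨hhyp, hD', HEq.rfl⟩

omit [Fact p.Prime] in
theorem limit_of_stable {S U : Subgroup Ω} {F : FusionSystem S} {A : FusionSystem U}
    (h : A.IsResidualLimitOf F p) [hp : Fact p.Prime] [hfin : Finite S] (hS : IsPGroup p S)
    (hhyp : F.hyperfocalSubgroup p = S) (hF : F.IsPPrimeResidual p F) :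
    ∀ P : Subgroup Ω, A.Hom P = F.Hom P := by
  revert hp hfin hS hhyp hF
  induction h with
  | stable F p h1 h2 => intros; rfl
  | @step S A F p D D' hD hD' h ih =>
    intro hp hfin hS hhyp hF
    obtain ⟨h1, h2, h3⟩ := residual_eq_of_stable hS hhyp hF hhyp hD.1 hD.2 hD'
    haveI := finite_of_le (hyperfocal_le F p)
    intro P
    rw [ih (hS.to_le (hyperfocal_le F p)) h1 h2 P]
    have key : ∀ {M : Subgroup Ω} (D : FusionSystem M), M = S → HEq D F → D.Hom P = F.Hom P := by
      rintro M D rfl h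
      rw [eq_of_heq h]
    exact key D' hhyp h3

/-- The residual limit passes to the step of the residual series. -/
theorem limit_of_step {S U : Subgroup Ω} {F : FusionSystem S} {A : FusionSystem U}
    (h : A.IsResidualLimitOf F p) [Finite S] (hS : IsPGroup p S)
    {D D' : FusionSystem (F.hyperfocalSubgroup p)} (hD : F.IsPResidual p D)
    (hD' : D.IsPPrimeResidual p D') : A.IsResidualLimitOf D' p := by
  cases h with
  | stable _ _ h1 h2 =>
    obtain ⟨-, -, h5⟩ := residual_eq_of_stable hS h1 h2 h1 hD.1 hD.2 hD'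
    have key : ∀ {M : Subgroup Ω} (D : FusionSystem M), M = S → HEq D F →
        F.IsResidualLimitOf D p := by
      rintro M D rfl h
      rw [eq_of_heq h]
      exact IsResidualLimitOf.stable F p h1 h2
    exact key D' h1 h5
  | step _ _ D₀ D₀' hD₀ hD₀' h₀ =>
    obtain rfl : D₀ = D := eq_of_hom_eq
      (hom_eq_of_pPowerIndex rfl (hyperfocal_le F p) hS hD₀.1 hD₀.2 hD.1 hD.2)
    obtain rfl : D₀' = D' := eq_of_hom_eq fun P =>
      Set.Subset.antisymm (hD₀'.2.2 D' hD'.1 hD'.2.1 P) (hD'.2.2 D₀' hD₀'.1 hD₀'.2.1 P)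
    exact h₀

omit [Fact p.Prime] in
theorem limit_unique {S U V : Subgroup Ω} {F : FusionSystem S} {A : FusionSystem U}
    {B : FusionSystem V} (hA : A.IsResidualLimitOf F p) (hB : B.IsResidualLimitOf F p)
    [hp : Fact p.Prime] [hfin : Finite S] (hS : IsPGroup p S) : ∀ P : Subgroup Ω, A.Hom P = B.Hom P := by
  revert hB hp hfin hS
  induction hA with
  | stable F p h1 h2 =>
    intro hB hp hfin hS
    exact fun P => (limit_of_stable hB hS h1 h2 P).symm
  | @step S A F p D D' hD hD' h ih =>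
    intro hB hp hfin hS
    haveI := finite_of_le (hyperfocal_le F p)
    exact ih (limit_of_step hB hS hD hD') (hS := hS.to_le (hyperfocal_le F p))

variable {S T : Subgroup Ω} {F : FusionSystem S} {E : FusionSystem T}

omit [Fact p.Prime] in
theorem pResidual_le_of_pPowerIndex (hEi : E.HasPPowerIndexIn F p) {P : Subgroup Ω} (hP : P ≤ T) :
    (pResidual p (F.autGroup P)).map (F.autGroup P).subtype ≤
      (pResidual p (E.autGroup P)).map (E.autGroup P).subtype := by
  rw [pResidual, MonoidHom.map_closure, Subgroup.closure_le]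
  rintro _ ⟨a, ha, rfl⟩
  have hm : (a : MulAut P) ∈ E.autGroup P :=
    hEi.2.2 P hP ⟨a, Subgroup.subset_closure ha, rfl⟩
  refine ⟨⟨a, hm⟩, Subgroup.subset_closure ?_, rfl⟩
  show Nat.Coprime _ p
  rw [← orderOf_injective (E.autGroup P).subtype (Subgroup.subtype_injective _)]
  have ha' : Nat.Coprime (orderOf a) p := ha
  rwa [← orderOf_injective (F.autGroup P).subtype (Subgroup.subtype_injective _)] at ha'

omit [Fact p.Prime] in
/-- A subsystem of `p`-power index over a strongly closed subgroup has the same hyperfocal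
subgroup. -/
theorem hyperfocal_eq_of_pPowerIndex [Finite S] (hS : IsPGroup p S) (hsc : F.StronglyClosed T)
    (hEi : E.HasPPowerIndexIn F p) : E.hyperfocalSubgroup p = F.hyperfocalSubgroup p := by
  have hTS := hsc.1
  refine le_antisymm (hyperfocal_le_iff.2 fun P hP α hα x hx => ?_)
    (hyperfocal_le_of_coprime fun P hP ρ hρ x hx => ?_)
  · exact hyperfocal_mem (F := F) (hP.trans hTS) (Transfer.pResidual_map_le
      (Subgroup.inclusion (autGroup_mono hEi.1 P)) ⟨α, hα, rfl⟩) hx
  set M := E.hyperfocalSubgroup p with hM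
  have hρm : ρ ∈ pResidual p (F.autGroup P) := Transfer.mem_pResidual_of_coprime hρ
  obtain ⟨y, hy⟩ : ∃ y, y = x⁻¹ * autFun (ρ : MulAut P) x := ⟨_, rfl⟩
  have hyT : y ∈ T := hy ▸ hEi.2.1 (hyperfocal_mem hP hρm hx)
  have hyP : y ∈ P := hy ▸ P.mul_mem (P.inv_mem hx) (autFun_mem _ hx)
  obtain ⟨β, hβ, he⟩ := exists_induced_pResidual hP (R := P ⊓ T) (w := fun z => z)
    (isMap_id F (inf_le_left.trans hP)) inf_le_left
    (fun γ hγ z hz => ⟨autFun_mem γ hz.1, StronglyClosed.apply_mem hsc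
      (((mem_autGroup hP).1 hγ).res inf_le_left) inf_le_right hz⟩) (fimg_id _) hρm
  obtain ⟨β', hβ', hββ⟩ := pResidual_le_of_pPowerIndex hEi inf_le_right
    (Subgroup.mem_map_of_mem _ hβ)
  have hmove : ∀ z ∈ P ⊓ T, z⁻¹ * autFun (ρ : MulAut P) z ∈ M := fun z hz => by
    have h1 := hyperfocal_mem (F := E) inf_le_right hβ' hz
    rwa [show (β' : MulAut ↥(P ⊓ T)) = (β : MulAut ↥(P ⊓ T)) from hββ, he z hz] at h1
  have hpow : ∀ i : ℕ, ∃ m ∈ M, m ∈ P ∧ autFun ((ρ : MulAut P) ^ i) x = x * y ^ i * m := by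
    intro i
    induction i with
    | zero => exact ⟨1, M.one_mem, P.one_mem, by rw [pow_zero, autFun_one hx, pow_zero, mul_one, mul_one]⟩
    | succ i ih =>
      obtain ⟨m, hm, hmP, e⟩ := ih
      have hmT : m ∈ T := hyperfocal_le E p hm
      have hz : y ^ i * m ∈ P ⊓ T :=
        ⟨P.mul_mem (P.pow_mem hyP i) hmP, T.mul_mem (T.pow_mem hyT i) hmT⟩
      refine ⟨m * ((y ^ i * m)⁻¹ * autFun (ρ : MulAut P) (y ^ i * m)), M.mul_mem hm (hmove _ hz),
        P.mul_mem hmP (P.mul_mem (P.inv_mem hz.1) (autFun_mem _ hz.1)), ?_⟩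
      rw [pow_succ' (ρ : MulAut P), autFun_mul _ _ hx, e,
        show x * y ^ i * m = x * (y ^ i * m) from mul_assoc _ _ _,
        ((mem_autGroup hP).1 ρ.2).map_mul hx hz.1, pow_succ',
        show autFun (ρ : MulAut P) x = x * y by rw [hy]; group]
      group
  obtain ⟨m, hm, -, e⟩ := hpow (orderOf ρ)
  rw [← Subgroup.coe_pow, pow_orderOf_eq_one, Subgroup.coe_one, autFun_one hx, mul_assoc] at e
  have hyn : y ^ orderOf ρ ∈ M := by
    have h1 : y ^ orderOf ρ * m = 1 := mul_left_cancel (a := x) (by rw [← e, mul_one])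
    rw [eq_inv_of_mul_eq_one_left h1]
    exact M.inv_mem hm
  rw [← hy]
  obtain ⟨k, hk⟩ := hS ⟨y, hTS hyT⟩
  have hk' : y ^ p ^ k = 1 := congrArg Subtype.val hk
  have hcop : Nat.gcd (orderOf ρ) (p ^ k) = 1 := Nat.Coprime.pow_right k hρ
  have h2 := Nat.gcd_eq_gcd_ab (orderOf ρ) (p ^ k)
  rw [hcop] at h2
  have h3 : y = (y ^ orderOf ρ) ^ Nat.gcdA (orderOf ρ) (p ^ k) *
      (y ^ p ^ k) ^ Nat.gcdB (orderOf ρ) (p ^ k) := by
    rw [← zpow_natCast, ← zpow_mul, ← zpow_natCast, ← zpow_mul, ← zpow_add, ← h2]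
    norm_num
  rw [h3, hk', one_zpow, mul_one]
  exact M.zpow_mem hyn _

/-- Residual limits are unchanged by passing to a normal subsystem of `p`-power index. -/
theorem limit_eq_of_pPowerIndex [Finite S] (hS : IsPGroup p S)
    (hsc : F.StronglyClosed T) (hEi : E.HasPPowerIndexIn F p) {U V : Subgroup Ω}
    {A : FusionSystem U} {B : FusionSystem V} (hA : A.IsResidualLimitOf F p)
    (hB : B.IsResidualLimitOf E p) : ∀ P : Subgroup Ω, A.Hom P = B.Hom P := by
  have hhyp := hyperfocal_eq_of_pPowerIndex hS hsc hEi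
  have hB' : B.IsResidualLimitOf F p := by
    cases hB with
    | stable _ _ h1 h2 =>
      exact limit_step_of_eq (h1.symm.trans hhyp) h2.1 hEi h2 (IsResidualLimitOf.stable E p h1 h2)
    | step _ _ D D' hD hD' h =>
      refine limit_step_of_eq hhyp hD.1 ⟨fun P φ hφ => hEi.1 P (hD.2.1 P hφ), hhyp.ge,
        fun P hP => ?_⟩ hD' h
      exact (pResidual_le_of_pPowerIndex hEi (hP.trans (hyperfocal_le E p))).trans (hD.2.2.2 P hP)
  exact limit_unique hA hB' hS

end Cfsg.Agent.Fus
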