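import Mathlib
import Cfsg.Agent.Lib.Fus.InvariantIff
import Cfsg.Agent.Lib.Fus.InvariantClass
import Cfsg.Agent.Lib.Fus.Invariant
import Cfsg.Agent.Lib.Fus.Simple
import Cfsg.Agent.Lib.Fus.PPowerNormal
import Cfsg.Agent.Lib.Fus.PPrimeResidual
import Cfsg.Agent.Lib.Fus.ResidualLimit
import Cfsg.Agent.Lib.Fus.FactorExtend

/-!
The residual subsystems of an invariant subsystem are invariant.
-/

set_option autoImplicit false
set_option linter.style.haveILetI false
set_option linter.unusedSectionVars false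
set_option linter.unusedVariables false

open scoped Classical

universe u

namespace Cfsg.Agent.Fus.ResInv

open Subgroup FusionSystem

variable {Ω : Type u} [Group Ω] {S R : Subgroup Ω} {F : FusionSystem S} {G : FusionSystem R}
  {p : ℕ}

/-- An invariant subsystem is strongly invariant. -/
theorem strongInv_of_invariant (hG : G.IsInvariantIn F) : StrongInv F G := by
  intro P Q f u hPQ hQR hf hfm hu
  obtain ⟨α, hα, g, hg, hue⟩ := frattini_of_isInvariantIn hG hQR hu
  obtain ⟨g', hg', hg1, hg2, -⟩ := (hg.res hPQ).exists_inv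
  have hk0 := (hg'.comp hf fun y hy => (hg2 y hy).1).comp hg fun y hy => hfm _ (hg2 y hy).1
  obtain ⟨k, hk, hke⟩ := invariant_isMap hG hk0 hα
  rw [← (hg.res hPQ).fimg_comp, ← fimg_congr fun x hx => hue x (hPQ hx)] at hk
  refine ⟨k, hk, fun x hx => ?_⟩
  rw [hue x (hPQ hx), hke _ (apply_mem_fimg g hx)]
  show autFun α (g (f (g' (g x)))) = u (f x)
  rw [hg1 x hx, ← hue _ (hfm x hx)]

/-- Strong invariance on a strongly closed subgroup with the Frattini condition is invariance. -/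
theorem isInvariantIn_of_strongInv (hle : G.IsSubsystemOf F) (hR : F.StronglyClosed R)
    (hinv : StrongInv F G) (hdec : ∀ {P : Subgroup Ω} {f : Ω → Ω}, P ≤ R → IsMap F P f →
      Dec F G P f) : G.IsInvariantIn F := by
  refine ⟨hle, hR, ?_, ?_⟩
  · intro P hPR φ hφ α hα
    have hαm : IsMap F R (autFun α) := (mem_autGroup hR.1).1 hα
    obtain ⟨k, hk, hke⟩ := strongInv_aut hinv hR.1 (isMap_toFun hφ) hα
    have heq : (P.subgroupOf R).map (R.subtype.comp α.toMonoidHom) = fimg (autFun α) P := by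
      ext y
      rw [(hαm.res hPR).mem_fimg_iff, Subgroup.mem_map]
      constructor
      · rintro ⟨t, ht, rfl⟩
        exact ⟨t, ht, autFun_coe α t⟩
      · rintro ⟨x, hx, rfl⟩
        exact ⟨⟨x, hPR hx⟩, hx, (autFun_coe α ⟨x, hPR hx⟩).symm⟩
    rw [← heq] at hk
    obtain ⟨χ, hχ, hχe⟩ := hk.exists_hom
    refine ⟨χ, hχ, fun x hφx hαx => ?_⟩
    rw [hχe]
    show k ((α ⟨x, hPR x.2⟩ : R) : Ω) = _
    rw [← autFun_coe α ⟨x, hPR x.2⟩, hke x x.2, toFun_coe]
    exact autFun_coe α ⟨_, hφx⟩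
  · intro P hPR φ hφ
    obtain ⟨α, hα, f₀, hf₀, e⟩ := hdec hPR (isMap_toFun hφ)
    obtain ⟨φ₀, hφ₀, he⟩ := hf₀.exists_hom
    refine ⟨α, hα, φ₀, hφ₀, fun x hx => ?_⟩
    rw [← toFun_coe φ x, e x x.2, ← he x]
    exact autFun_coe α ⟨_, hx⟩

/-- A subsystem stable under `Aut_F(R₁)` and admitting decompositions is invariant. -/
theorem isInvariantIn_of_twist {R₁ : Subgroup Ω} {D : FusionSystem R₁} (hle : D.IsSubsystemOf F)
    (hR : F.StronglyClosed R₁)
    (htw : ∀ {α : MulAut R₁}, α ∈ F.autGroup R₁ → ∀ {P : Subgroup Ω} {f : Ω → Ω}, IsMap D P f →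
      ∃ k, IsMap D (fimg (autFun α) P) k ∧ ∀ x ∈ P, k (autFun α x) = autFun α (f x))
    (hdec : ∀ {P : Subgroup Ω} {f : Ω → Ω}, P ≤ R₁ → IsMap F P f → Dec F D P f) :
    D.IsInvariantIn F := by
  refine isInvariantIn_of_strongInv hle hR ?_ hdec
  intro P Q f u hPQ hQR hf hfm hu
  obtain ⟨α, hα, g, hg, hue⟩ := hdec hQR hu
  obtain ⟨g', hg', hg1, hg2, -⟩ := (hg.res hPQ).exists_inv
  obtain ⟨k, hk, hke⟩ :=
    htw hα ((hg'.comp hf fun y hy => (hg2 y hy).1).comp hg fun y hy => hfm _ (hg2 y hy).1)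
  rw [← (hg.res hPQ).fimg_comp, ← fimg_congr fun x hx => hue x (hPQ hx)] at hk
  refine ⟨k, hk, fun x hx => ?_⟩
  rw [hue x (hPQ hx), hke _ (apply_mem_fimg g hx)]
  show autFun α (g (f (g' (g x)))) = u (f x)
  rw [hg1 x hx, ← hue _ (hfm x hx)]

variable [Finite S] [Fact p.Prime]

/-- Maps of an invariant subsystem are transported between automizers. -/
theorem exists_conj_hom (hG : G.IsInvariantIn F) {Q : Subgroup Ω} (hQR : Q ≤ R) {u : Ω → Ω}
    (hu : IsMap F Q u) :
    ∃ Φ : G.autGroup Q →* G.autGroup (fimg u Q),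
      ∀ β, ∀ x ∈ Q, autFun (Φ β : MulAut ↥(fimg u Q)) (u x) = u (autFun (β : MulAut Q) x) := by
  obtain ⟨e, he, -⟩ := exists_mulEquiv hu rfl
  refine ⟨((MulAut.congr e).toMonoidHom.comp (G.autGroup Q).subtype).codRestrict _
    fun β => InvClass.congr_autGroup hG hQR hu rfl e he β.2, fun β x hx => ?_⟩
  show autFun (MulAut.congr e (β : MulAut Q)) (u x) = _
  rw [← he ⟨x, hx⟩, autFun_coe,
    show autFun (β : MulAut Q) x = (((β : MulAut Q) ⟨x, hx⟩ : Q) : Ω) from autFun_coe _ ⟨x, hx⟩,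
    ← he]
  simp [MulAut.congr]

/-- The `p`-power index subsystem over a strongly closed subgroup of an invariant subsystem is
invariant. -/
theorem invariant_pPower (hS : IsPGroup p S) (hG : G.IsInvariantIn F) (hGs : G.IsSaturated p)
    {R₁ : Subgroup Ω} (hR₁R : R₁ ≤ R) (hR₁ : F.StronglyClosed R₁)
    {D : FusionSystem R₁} (hD : D.IsSaturated p) (hDi : D.HasPPowerIndexIn G p) :
    D.IsInvariantIn F := by
  have hRS := hG.2.1.1
  haveI : Finite R := finite_of_le hRS
  haveI : Finite R₁ := finite_of_le hR₁.1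
  have hRp : IsPGroup p R := hS.to_le hRS
  have hR₁p : IsPGroup p R₁ := hS.to_le hR₁.1
  have hn : (R₁.subgroupOf R).Normal :=
    ⟨fun y hy c => StronglyClosed.conj_mem' hR₁ (hRS c.2) hy⟩
  obtain ⟨⟨-, -, hDinv⟩, -⟩ := isNormalIn_of_pPowerIndex hRp hGs hR₁R hn hDi.2.1 hD hDi
  refine isInvariantIn_of_twist (fun P φ h => hG.1 P (hDi.1 P h)) hR₁ ?_ ?_
  · intro α hα P f hf
    have hαm : IsMap F R₁ (autFun α) := (mem_autGroup hR₁.1).1 hα
    have key : ∀ Q, D.IsFullyNormalized Q → ∀ β ∈ D.autGroup Q,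
        ∃ k, IsMap D (fimg (autFun α) Q) k ∧
          ∀ x ∈ Q, k (autFun α x) = autFun α (autFun β x) := by
      intro Q hQ β hβ
      obtain ⟨g, hg, ρ, hρ, e⟩ :=
        aut_decomp (fullyAutomized_of_fullyNormalized hR₁p hD hQ) ⟨β, hβ⟩
      obtain ⟨Φ, hΦ⟩ := exists_conj_hom hG (hQ.1.trans hR₁R) (hαm.res hQ.1)
      set ρG := Subgroup.inclusion (autGroup_mono hDi.1 Q) ρ
      have hρG : ρG ∈ pResidual p (G.autGroup Q) :=
        Transfer.pResidual_map_le (Subgroup.inclusion (autGroup_mono hDi.1 Q)) ⟨ρ, hρ, rfl⟩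
      have hΦρ := Transfer.pResidual_map_le Φ ⟨ρG, hρG, rfl⟩
      have hQY : fimg (autFun α) Q ≤ R₁ := fimg_le fun x hx => autFun_mem α (hQ.1 hx)
      have hm : IsMap D (fimg (autFun α) Q) (autFun (Φ ρG : MulAut ↥(fimg (autFun α) Q))) :=
        (mem_autGroup hQY).1 (hDi.2.2 _ hQY (Subgroup.mem_map_of_mem _ hΦρ))
      refine ⟨_, hm.comp (isMap_conj D hQY (g := autFun α g) (autFun_mem α hg))
        fun y hy => autFun_mem _ hy, fun x hx => ?_⟩
      show autFun α g * autFun (Φ ρG : MulAut ↥(fimg (autFun α) Q)) (autFun α x) *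
        (autFun α g)⁻¹ = _
      rw [hΦ ρG x hx, e x hx]
      exact (hαm.map_conj hg (hQ.1 (autFun_mem (ρ : MulAut Q) hx))).symm
    refine alperin hR₁p hD (fun P f => ∃ k, IsMap D (fimg (autFun α) P) k ∧
      ∀ x ∈ P, k (autFun α x) = autFun α (f x)) ?_ ?_ ?_
      (fun β hβ => key R₁ (fullyNormalized_self D) β hβ) (fun Q hQ => key Q hQ.2.1) hf
    · rintro P f g ⟨k, hk, h⟩ e
      exact ⟨k, hk, fun x hx => by rw [← e x hx]; exact h x hx⟩
    · rintro P Q f g hPf hQg hfQ ⟨k, hk, h⟩ ⟨l, hl, h'⟩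
      refine ⟨_, hk.comp hl fun y hy => ?_, fun x hx => ?_⟩
      · obtain ⟨x, hx, rfl⟩ := (hαm.res hPf.source_le).mem_fimg_iff.1 hy
        rw [h x hx]
        exact apply_mem_fimg _ (hfQ x hx)
      · show l (k (autFun α x)) = _
        rw [h x hx, h' _ (hfQ x hx)]
    · rintro P Q f - hPQ ⟨k, hk, h⟩
      exact ⟨k, hk.res (fimg_mono _ hPQ), fun x hx => h x (hPQ hx)⟩
  · intro P f hP hf
    obtain ⟨α, hα, g, hg, he⟩ := frattini_of_isInvariantIn hG (hP.trans hR₁R) hf
    obtain ⟨α', hα', g₁, hg₁, he'⟩ := frattini_of_isInvariantIn hDinv hP hg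
    have hαm : IsMap F R (autFun α) := (mem_autGroup hRS).1 hα
    have hα'm : IsMap F R₁ (autFun α') := ((mem_autGroup hR₁R).1 hα').mono hG.1
    have hm := hα'm.comp (hαm.res hR₁R) fun y hy => autFun_mem α' hy
    obtain ⟨β, hβ, hβe⟩ := hm.exists_aut (fimg_stronglyClosed hR₁ hm le_rfl)
    refine ⟨β, hβ, g₁, hg₁, fun x hx => ?_⟩
    rw [hβe _ (hg₁.apply_mem hx), he x hx, he' x hx]

/-- The generated maps are transported by automorphisms of an invariant subsystem. -/
theorem pGen_transport (hG : G.IsInvariantIn F) {α : MulAut R} (hα : α ∈ F.autGroup R)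
    {P : Subgroup Ω} {f : Ω → Ω} (h : PrimeIndex.PGen G p P f) :
    PrimeIndex.PGen G p (fimg (autFun α) P) (fun y => autFun α (f (autFun α⁻¹ y))) := by
  have hRS := hG.2.1.1
  have hb : IsMap F R (autFun α) := (mem_autGroup hRS).1 hα
  have hinv : ∀ x ∈ R, autFun α⁻¹ (autFun α x) = x := fun x hx => autFun_inv_apply α hx
  induction h with
  | @aut P Q γ f hQ hγ hPQ hf =>
    have hbQ := hb.res hQ.1
    obtain ⟨Φ, hΦ⟩ := exists_conj_hom hG hQ.1 hbQ
    haveI := finite_of_le (hQ.1.trans hRS)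
    obtain ⟨a, ha, rfl⟩ := hγ
    have hΦa : (Φ a : MulAut ↥(fimg (autFun α) Q)) ∈
        PrimeIndex.pGenAuts G p (fimg (autFun α) Q) := by
      refine ⟨Φ a, ?_, rfl⟩
      refine (Subgroup.closure_le ((Subgroup.closure
        {β : G.autGroup (fimg (autFun α) Q) | ∃ k : ℕ, orderOf β = p ^ k}).comap Φ)).2 ?_ ha
      rintro b ⟨k, hk⟩
      obtain ⟨i, -, hi⟩ := (Nat.dvd_prime_pow (Fact.out : p.Prime)).1 (hk ▸ orderOf_map_dvd Φ b)
      exact subset_closure ⟨i, hi⟩
    refine .aut (InvClass.centric_transport hG hQ hbQ) hΦa (fimg_mono _ hPQ) fun y hy => ?_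
    obtain ⟨x, hx, rfl⟩ := (hb.res (hPQ.trans hQ.1)).mem_fimg_iff.1 hy
    show autFun α (f (autFun α⁻¹ (autFun α x))) = _
    rw [hinv x (hQ.1 (hPQ hx)), hΦ a x (hPQ hx), hf x hx]
    rfl
  | @inner P g f hP hg hf =>
    refine .inner (fimg_le fun x hx => autFun_mem α (hP hx)) (autFun_mem α hg) fun y hy => ?_
    obtain ⟨x, hx, rfl⟩ := (hb.res hP).mem_fimg_iff.1 hy
    show autFun α (f (autFun α⁻¹ (autFun α x))) = _
    rw [hinv x (hP hx), hf x hx, hb.map_conj hg (hP hx)]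
  | @comp P Q f g h hf hg hm he ih₁ ih₂ =>
    have hPR := hf.isMap.source_le
    refine .comp ih₁ ih₂ (fun y hy => ?_) fun y hy => ?_
    · obtain ⟨x, hx, rfl⟩ := (hb.res hPR).mem_fimg_iff.1 hy
      show autFun α (f (autFun α⁻¹ (autFun α x))) ∈ _
      rw [hinv x (hPR hx)]
      exact apply_mem_fimg _ (hm x hx)
    · obtain ⟨x, hx, rfl⟩ := (hb.res hPR).mem_fimg_iff.1 hy
      show autFun α (h (autFun α⁻¹ (autFun α x))) =
        autFun α (g (autFun α⁻¹ (autFun α (f (autFun α⁻¹ (autFun α x))))))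
      rw [hinv x (hPR hx), hinv _ (hf.isMap.apply_mem hx), he x hx]

/-- A generated map may be replaced by one agreeing with it. -/
theorem pGen_congr {P : Subgroup Ω} {f g : Ω → Ω} (h : PrimeIndex.PGen G p P f)
    (e : ∀ x ∈ P, f x = g x) : PrimeIndex.PGen G p P g := by
  cases h with
  | aut hQ hα hPQ hf => exact .aut hQ hα hPQ fun x hx => (e x hx).symm.trans (hf x hx)
  | inner hP hg hf => exact .inner hP hg fun x hx => (e x hx).symm.trans (hf x hx)
  | comp hf hg hm he => exact .comp hf hg hm fun x hx => (e x hx).symm.trans (he x hx)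

/-- `autZero` is stable under the automorphisms of an invariant subsystem. -/
theorem autZero_transport (hG : G.IsInvariantIn F) {α : MulAut R} (hα : α ∈ F.autGroup R)
    {β : MulAut R} (hβ : β ∈ PrimeIndex.autZero G p) :
    α * β * α⁻¹ ∈ PrimeIndex.autZero G p := by
  have hRS := hG.2.1.1
  have hb : IsMap F R (autFun α) := (mem_autGroup hRS).1 hα
  refine (Subgroup.closure_le ((PrimeIndex.autZero G p).comap (MulAut.conj α).toMonoidHom)).2 ?_ hβ
  rintro γ ⟨hγ, P, hP, hgen⟩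
  have hcong : α * γ * α⁻¹ ∈ G.autGroup R := by
    obtain ⟨k, hk, hke⟩ := invariant_isMap hG ((mem_autGroup le_rfl).1 hγ) hα
    rw [fimg_autFun] at hk
    refine (mem_autGroup le_rfl).2 (hk.congr fun y hy => ?_)
    have hy' : autFun α⁻¹ y ∈ R := autFun_mem _ hy
    rw [autFun_mul _ _ hy, autFun_mul _ _ hy', ← hke _ hy', ← autFun_mul _ _ hy, mul_inv_cancel,
      autFun_one hy]
  refine subset_closure ⟨hcong, fimg (autFun α) P, InvClass.centric_transport hG hP (hb.res hP.1),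
    pGen_congr (pGen_transport hG hα hgen) fun y hy => ?_⟩
  have hy' : y ∈ R := fimg_le (fun x hx => autFun_mem α (hP.1 hx)) hy
  show _ = autFun (α * γ * α⁻¹) y
  rw [autFun_mul _ _ hy', autFun_mul _ _ (autFun_mem _ hy')]

/-- The `p'`-residual lies in the subsystem of the maps decomposing through `autZero`, and
conversely. -/
theorem residual_hom_eq {U : Subgroup Ω} [Finite U] {H D : FusionSystem U} (hU : IsPGroup p U)
    (hH : H.IsSaturated p) (hD : H.IsPPrimeResidual p D) (P : Subgroup Ω) :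
    D.Hom P = (PrimeIndex.residual H p).Hom P := by
  refine Set.Subset.antisymm (hD.2.2 _ (PrimeIndex.residual_saturated hU hH)
    (PrimeIndex.hasPrimeToPIndexIn hU hH (PrimeIndex.residual_le H p) fun Q hQ =>
      PrimeIndex.pGenAuts_le_residual hQ) P) fun φ hφ => ?_
  obtain ⟨-, β, hβ, e, he, hφe⟩ := hφ
  have hD' : ∀ Q, H.IsCentric Q → PrimeIndex.pGenAuts H p Q ≤ D.autGroup Q :=
    fun Q hQ => hD.2.1.2 Q hQ.1
  have heD := he.isMap_of hD'
  have hβD : IsMap D U (autFun β) := by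
    refine (mem_autGroup le_rfl).1 ((Subgroup.closure_le (D.autGroup U)).2 ?_ hβ)
    rintro γ ⟨hγ, Q, hQ, hγQ⟩
    exact (mem_autGroup le_rfl).2 (mem_of_res_centric hU hH hD.1 hD.2.1.1
      ((mem_autGroup le_rfl).1 hγ) hQ.1 hQ (hγQ.isMap_of hD'))
  exact mem_hom_of_isMap ((heD.comp hβD fun x hx => heD.apply_mem hx).congr
    fun x hx => (hφe x hx).symm) fun x => (toFun_coe φ x).symm

/-- The `p'`-residual of an invariant subsystem is invariant. -/
theorem invariant_residual (hS : IsPGroup p S) (hG : G.IsInvariantIn F) (hGs : G.IsSaturated p)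
    {D : FusionSystem R} (hD : G.IsPPrimeResidual p D) : D.IsInvariantIn F := by
  have hRS := hG.2.1.1
  haveI : Finite R := finite_of_le hRS
  have hRp : IsPGroup p R := hS.to_le hRS
  obtain rfl : D = PrimeIndex.residual G p := eq_of_hom_eq (residual_hom_eq hRp hGs hD)
  refine isInvariantIn_of_twist (fun P φ h => hG.1 P (PrimeIndex.residual_le G p P h)) hG.2.1 ?_ ?_
  · intro α hα P f hf
    have hb : IsMap F R (autFun α) := (mem_autGroup hRS).1 hα
    obtain ⟨hfG, β, hβ, e, he, hfe⟩ := PrimeIndex.isMap_residual.1 hf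
    obtain ⟨k, hk, hke⟩ := invariant_isMap hG hfG hα
    refine ⟨k, PrimeIndex.isMap_residual.2 ⟨hk, α * β * α⁻¹, autZero_transport hG hα hβ, _,
      pGen_transport hG hα he, fun y hy => ?_⟩, hke⟩
    obtain ⟨x, hx, rfl⟩ := (hb.res hfG.source_le).mem_fimg_iff.1 hy
    have hxR := hfG.source_le hx
    have hex : e x ∈ R := he.isMap.apply_mem hx
    rw [hke x hx, hfe x hx, autFun_inv_apply α hxR, autFun_mul _ _ (autFun_mem α hex),
      autFun_mul _ _ (autFun_mem _ (autFun_mem α hex)), autFun_inv_apply α hex]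
  · intro P f hP hf
    obtain ⟨α, hα, g, hg, he⟩ := frattini_of_isInvariantIn hG hP hf
    obtain ⟨b, hb, e, hee, hge⟩ := PrimeIndex.exists_decomp hRp hGs hg
    refine ⟨α * b, mul_mem hα (autGroup_mono hG.1 R hb), e,
      PrimeIndex.isMap_residual.2 ⟨hee.isMap, 1, one_mem _, e, hee,
        fun x hx => (autFun_one (hee.isMap.apply_mem hx)).symm⟩, fun x hx => ?_⟩
    rw [he x hx, hge x hx, ← autFun_mul α b (hee.isMap.apply_mem hx)]

end Cfsg.Agent.Fus.ResInv
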