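import Mathlib
import Cfsg.Prelude.Def_FusionReduction
import Cfsg.Agent.Lib.Fus.ResidualInvariant
import Cfsg.Agent.Lib.Fus.Centric

/-!
A stable subsystem over a strongly closed subgroup lies in every residual limit above it.
-/

set_option autoImplicit false
set_option linter.style.haveILetI false
set_option linter.unusedSectionVars false
set_option linter.unusedVariables false

open scoped Classical

universe u

namespace Cfsg.Agent.Fus.ResInv

open Subgroup FusionSystem

variable {Ω : Type u} [Group Ω] {S R U : Subgroup Ω} {F : FusionSystem S} {G : FusionSystem R}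
  {H : FusionSystem U} {p : ℕ}

variable [Finite S] [Fact p.Prime]

/-- The hyperfocal subgroup of an invariant subsystem is strongly closed. -/
theorem hyperfocal_stronglyClosed (hS : IsPGroup p S) (hG : G.IsInvariantIn F)
    (hGs : G.IsSaturated p) : F.StronglyClosed (G.hyperfocalSubgroup p) := by
  have hRS := hG.2.1.1
  haveI : Finite R := finite_of_le hRS
  set M := G.hyperfocalSubgroup p with hM
  have hMR : M ≤ R := hyperfocal_le G p
  have hstable : ∀ α ∈ F.autGroup R, ∀ y ∈ M, autFun α y ∈ M := by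
    intro α hα y hy
    have hαm : IsMap F R (autFun α) := (mem_autGroup hRS).1 hα
    refine Subgroup.closure_induction (p := fun y _ => autFun α y ∈ M) ?_ ?_ ?_ ?_ hy
    · rintro y ⟨P, β, x, hP, hβ, rfl⟩
      obtain ⟨Φ, hΦ⟩ := exists_conj_hom hG hP (hαm.res hP)
      have h1 := hyperfocal_mem (F := G) (p := p) (α := Φ β) (fimg_le fun z hz => autFun_mem α (hP hz))
        (Transfer.pResidual_map_le Φ ⟨β, hβ, rfl⟩) (apply_mem_fimg (autFun α) x.2)
      rw [hΦ β x x.2, autFun_coe (β : MulAut P)] at h1
      rw [hαm.map_mul (R.inv_mem (hP x.2)) (hP ((β : MulAut P) x).2), hαm.map_inv (hP x.2)]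
      exact h1
    · rw [hαm.map_one]; exact one_mem _
    · intro a b ha hb ha' hb'
      rw [hαm.map_mul (hMR ha) (hMR hb)]
      exact mul_mem ha' hb'
    · intro a ha ha'
      rw [hαm.map_inv (hMR ha)]
      exact inv_mem ha'
  have hn : (M.subgroupOf R).Normal := by
    refine ⟨fun y hy c => ?_⟩
    rw [Subgroup.mem_subgroupOf] at hy ⊢
    have hcm := isMap_conj F (P := R) hRS (g := (c : Ω)) (hRS c.2)
    obtain ⟨α, hα, hαe⟩ := hcm.exists_aut (fimg_stronglyClosed hG.2.1 hcm le_rfl)
    have := hstable α hα _ hy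
    rwa [hαe _ y.2] at this
  have hMG := stronglyClosed_of_hyperfocal_le (hS.to_le hRS) hGs hMR hn le_rfl
  refine stronglyClosed_of_forall (hMR.trans hRS) fun P hP f hf x hx => ?_
  obtain ⟨α, hα, g, hg, he⟩ := frattini_of_isInvariantIn hG (hP.trans hMR) hf
  rw [he x hx]
  exact hstable α hα _ (StronglyClosed.apply_mem hMG hg hP hx)

/-- A system equal to its `p`-residual lies in every subsystem of `p`-power index above it. -/
theorem stable_le_pPower (hUS : U ≤ S) (hS : IsPGroup p S) (hH : H.IsSaturated p)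
    (hhyp : H.hyperfocalSubgroup p = U) (hHG : H.IsSubsystemOf G) {R₁ : Subgroup Ω}
    {D : FusionSystem R₁} (hDi : D.HasPPowerIndexIn G p) : H.IsSubsystemOf D := by
  haveI : Finite U := finite_of_le hUS
  have hUR : U ≤ R := ((isMap_id H le_rfl).mono hHG).source_le
  have hUR₁ : U ≤ R₁ := by
    rw [← hhyp]
    refine hyperfocal_le_iff.2 fun P hP α hα x hx => hDi.2.1 ?_
    exact hyperfocal_mem (α := Subgroup.inclusion (autGroup_mono hHG P) α) (hP.trans hUR)
      (Transfer.pResidual_map_le (Subgroup.inclusion (autGroup_mono hHG P)) ⟨α, hα, rfl⟩) hx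
  have hUp : IsPGroup p U := hS.to_le hUS
  have key : ∀ Q, H.IsFullyNormalized Q → ∀ β ∈ H.autGroup Q, IsMap D Q (autFun β) := by
    intro Q hQ β hβ
    obtain ⟨g, hg, ρ, hρ, e⟩ := aut_decomp (fullyAutomized_of_fullyNormalized hUp hH hQ) ⟨β, hβ⟩
    have hρG := Transfer.pResidual_map_le (p := p) (Subgroup.inclusion (autGroup_mono hHG Q))
      ⟨ρ, hρ, rfl⟩
    have hQR₁ : Q ≤ R₁ := hQ.1.trans hUR₁
    have hm : IsMap D Q (autFun (ρ : MulAut Q)) :=
      (mem_autGroup hQR₁).1 (hDi.2.2 _ hQR₁ (Subgroup.mem_map_of_mem _ hρG))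
    exact (hm.comp (isMap_conj D hQR₁ (g := g) (hUR₁ hg)) fun x hx => autFun_mem _ hx).congr
      fun x hx => (e x hx).symm
  intro P φ hφ
  refine mem_hom_of_isMap (f := toFun φ) (alperin hUp hH (fun P f => IsMap D P f)
    (fun P f g h e => h.congr e) (fun P Q f g _ _ hm h h' => h.comp h' hm)
    (fun P Q f _ hPQ h => h.res hPQ) (fun β hβ => key U (fullyNormalized_self H) β hβ)
    (fun Q hQ => key Q hQ.2.1) (isMap_toFun hφ)) fun x => (toFun_coe φ x).symm

/-- A system equal to its `p'`-residual, over a strongly closed subgroup and invariant in `F`, lies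
in every saturated subsystem of index prime to `p` above it. -/
theorem stable_le_primeIndex (hS : IsPGroup p S) (hHF : H.IsInvariantIn F) (hH : H.IsSaturated p)
    (hres : H.IsPPrimeResidual p H) (hGF : G.IsSubsystemOf F) (hRS : R ≤ S)
    (hHG : H.IsSubsystemOf G) {G₁ : FusionSystem R} (hG₁ : G₁.IsSaturated p)
    (hi : G₁.HasPrimeToPIndexIn G p) : H.IsSubsystemOf G₁ := by
  have hUsc := hHF.2.1
  haveI : Finite U := finite_of_le hUsc.1
  haveI : Finite R := finite_of_le hRS
  have hUp : IsPGroup p U := hS.to_le hUsc.1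
  have hRp : IsPGroup p R := hS.to_le hRS
  have hUR : U ≤ R := ((isMap_id H le_rfl).mono hHG).source_le
  -- generated maps
  have hgen : ∀ {P : Subgroup Ω} {e : Ω → Ω}, PrimeIndex.PGen H p P e → IsMap G₁ P e := by
    intro P e he
    induction he with
    | @aut P Q γ f hQ hγ hPQ hf =>
      obtain ⟨a, ha, rfl⟩ := hγ
      have hQR := hQ.1.trans hUR
      haveI := finite_of_le hQR
      have h1 : Subgroup.inclusion (autGroup_mono hHG Q) a ∈
          Subgroup.closure {b : G.autGroup Q | ∃ k : ℕ, orderOf b = p ^ k} := by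
        refine (Subgroup.closure_le ((Subgroup.closure
          {b : G.autGroup Q | ∃ k : ℕ, orderOf b = p ^ k}).comap
            (Subgroup.inclusion (autGroup_mono hHG Q)))).2 ?_ ha
        rintro b ⟨k, hk⟩
        exact subset_closure ⟨k, by
          rw [orderOf_injective _ (Subgroup.inclusion_injective _) b, hk]⟩
      exact (((mem_autGroup hQR).1 (hi.2 Q hQR (Subgroup.mem_map_of_mem _ h1))).res hPQ).congr
        fun x hx => (hf x hx).symm
    | @inner P g f hP hg hf =>
      exact (isMap_conj G₁ (hP.trans hUR) (hUR hg)).congr fun x hx => (hf x hx).symm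
    | comp _ _ hm he ih₁ ih₂ => exact (ih₁.comp ih₂ hm).congr fun x hx => (he x hx).symm
  -- an automorphism of `U` in `G₁` on a centric subgroup
  have hup : ∀ β ∈ H.autGroup U, ∀ N, H.IsCentric N → IsMap G₁ N (autFun β) →
      IsMap G₁ U (autFun β) := by
    intro β hβ N
    induction hn : Nat.card U - Nat.card N using Nat.strong_induction_on generalizing N with
    | _ n ih =>
      intro hN hm
      rcases hN.1.eq_or_lt with rfl | hlt
      · exact hm
      set N' := normalizerIn U N
      have hNN' : N ≤ N' := le_normalizerIn hN.1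
      have hN' : H.IsCentric N' := centric_mono hN hNN' inf_le_left
      haveI : Finite ↥N' := finite_of_le (S := U) inf_le_left
      have hcard : Nat.card N < Nat.card N' := card_lt_of_lt (lt_normalizerIn hUp hlt)
      have hcardU : Nat.card N' ≤ Nat.card U := Subgroup.card_le_of_le inf_le_left
      refine ih _ (by omega) N' rfl hN' ?_
      have hβU : IsMap H U (autFun β) := (mem_autGroup le_rfl).1 hβ
      set M := fimg (autFun β) N
      have hMU : M ≤ U := fimg_le fun x hx => autFun_mem β (hN.1 hx)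
      obtain ⟨K, hK, hKn⟩ := exists_fullyNormalized G₁ (hMU.trans hUR)
      obtain ⟨g, hg, hgK, -⟩ := exists_map_to_fullyNormalized hRp hG₁ hKn hK
      have hgF : IsMap F (normalizerIn R M) g := (hg.mono hi.1).mono hGF
      have hMN : M ≤ normalizerIn R M := le_normalizerIn (hMU.trans hUR)
      have hKc : H.IsCentric K := hgK ▸ InvClass.centric_transport hHF
        (centric_of_isConj hN ((hβU.res hN.1).isConj)) (hgF.res hMN)
      have hβN : ∀ z ∈ N', autFun β z ∈ normalizerIn R M := fun z hz =>
        ⟨hUR (autFun_mem β hz.1), (hβU.map_normalizerIn hN.1 hz.1 hz.2).2⟩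
      have hgb := (hm.comp hg fun x hx => hMN (apply_mem_fimg (autFun β) hx))
      have hgbK : fimg (fun x => g (autFun β x)) N = K := by rw [hm.fimg_comp]; exact hgK
      obtain ⟨θ, hθ, hθe⟩ := receptive_extend (receptive_of_fullyNormalized hRp hG₁ hKn) hgb hgbK
        (N := N') (fun z hz => by
          refine ⟨⟨hUR hz.1, hz.2⟩, g (autFun β z), hg.apply_mem (hβN z hz), fun x hx => ?_⟩
          show g (autFun β (z * x * z⁻¹)) = _
          rw [hβU.map_conj hz.1 (hN.1 hx),
            hg.map_conj (hβN z hz) (hMN (apply_mem_fimg (autFun β) hx))]) hNN'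
      -- both maps send `N'` into `U`
      have hgbG : IsMap G N' (fun x => g (autFun β x)) :=
        ((hβU.mono hHG).res inf_le_left).comp (hg.mono hi.1) hβN
      have hθU : ∀ z ∈ N', θ z ∈ U := fun z hz =>
        StronglyClosed.apply_mem hUsc ((hθ.mono hi.1).mono hGF) inf_le_left hz
      have hgbU : ∀ z ∈ N', g (autFun β z) ∈ U := fun z hz =>
        StronglyClosed.apply_mem hUsc (hgbG.mono hGF) inf_le_left hz
      have hshift : ∀ z ∈ N', (g (autFun β z))⁻¹ * θ z ∈ centralizerIn U K := by
        intro z hz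
        refine mem_centralizerIn.2 ⟨U.mul_mem (U.inv_mem (hgbU z hz)) (hθU z hz), fun y hy => ?_⟩
        rw [← hgbK] at hy
        obtain ⟨x, hx, rfl⟩ := hgb.mem_fimg_iff.1 hy
        have hzx : z * x * z⁻¹ ∈ N := (Subgroup.mem_normalizer_iff.1 hz.2 x).1 hx
        have h1 : θ z * g (autFun β x) * (θ z)⁻¹ =
            g (autFun β z) * g (autFun β x) * (g (autFun β z))⁻¹ := by
          rw [← hgbG.map_conj hz (hNN' hx), ← hθe _ hzx, hθ.map_conj hz (hNN' hx), hθe x hx]
        calc g (autFun β x) * ((g (autFun β z))⁻¹ * θ z)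
            = (g (autFun β z))⁻¹ * (g (autFun β z) * g (autFun β x) * (g (autFun β z))⁻¹) * θ z := by
              group
          _ = (g (autFun β z))⁻¹ * (θ z * g (autFun β x) * (θ z)⁻¹) * θ z := by rw [h1]
          _ = (g (autFun β z))⁻¹ * θ z * g (autFun β x) := by group
      have hKc' : centralizerIn U K ≤ K := centralizerIn_le_of_centric hKc
      set L := fimg (fun x => g (autFun β x)) N'
      have hKL : K ≤ L := hgbK ▸ fimg_mono _ hNN'
      haveI := finite_of_le hgbG.fimg_le_S
      have hθL : fimg θ N' = L := by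
        refine Subgroup.eq_of_le_of_card_ge (fimg_le fun z hz => ?_)
          (by rw [hgbG.card_fimg, hθ.card_fimg])
        have h1 : g (autFun β z) * ((g (autFun β z))⁻¹ * θ z) ∈ L :=
          mul_mem (apply_mem_fimg (fun x => g (autFun β x)) hz) (hKL (hKc' (hshift z hz)))
        rwa [mul_inv_cancel_left] at h1
      obtain ⟨w, hw, hw1, hw2, -⟩ := hgbG.exists_inv
      have hdm : IsMap G L (fun y => θ (w y)) := hw.comp (hθ.mono hi.1) fun y hy => (hw2 y hy).1
      have hdL : fimg (fun y => θ (w y)) L = L := by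
        haveI := finite_of_le hdm.fimg_le_S
        refine Subgroup.eq_of_le_of_card_ge (fimg_le fun y hy => ?_) hdm.card_fimg.ge
        rw [← hθL]
        exact apply_mem_fimg θ (hw2 y hy).1
      obtain ⟨d, hd, hde⟩ := hdm.exists_aut hdL
      have hLR := hgbG.fimg_le_S
      have hdK : ∀ y ∈ K, autFun d y = y := fun y hy => by
        rw [hde y (hKL hy)]
        rw [← hgbK] at hy
        obtain ⟨x, hx, rfl⟩ := hgb.mem_fimg_iff.1 hy
        rw [hw1 x (hNN' hx)]
        exact hθe x hx
      have hdmap : IsMap G L (autFun d) := (mem_autGroup hLR).1 hd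
      have hdc : ∀ y ∈ L, y⁻¹ * autFun d y ∈ K := fun y hy => by
        rw [hde y hy]
        obtain ⟨x, hx, rfl⟩ := hgbG.mem_fimg_iff.1 hy
        rw [hw1 x hx]
        exact hKc' (hshift x hx)
      have hpow : ∀ i : ℕ, ∀ y ∈ L, autFun (d ^ i) y = y * (y⁻¹ * autFun d y) ^ i := by
        intro i
        induction i with
        | zero => intro y hy; rw [pow_zero, autFun_one hy, pow_zero, mul_one]
        | succ i ihi =>
          intro y hy
          have hk := pow_mem (hdc y hy) i
          rw [pow_succ', autFun_mul _ _ hy, ihi y hy, hdmap.map_mul hy (hKL hk), hdK _ hk,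
            pow_succ', ← mul_assoc, mul_inv_cancel_left]
      obtain ⟨k, hk⟩ : ∃ k, orderOf (⟨d, hd⟩ : G.autGroup L) = p ^ k := by
        haveI : Finite K := finite_of_le (hKL.trans hLR)
        have hKp : IsPGroup p K := hS.to_le ((hKL.trans hLR).trans hRS)
        obtain ⟨m, hm'⟩ := IsPGroup.iff_card.1 hKp
        have h1 : (⟨d, hd⟩ : G.autGroup L) ^ p ^ m = 1 := by
          refine Subtype.ext (mulAut_ext fun y hy => ?_)
          rw [SubmonoidClass.coe_pow, hpow _ y hy, OneMemClass.coe_one, autFun_one hy]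
          have h2 : (⟨_, hdc y hy⟩ : K) ^ p ^ m = 1 := by rw [← hm']; exact pow_card_eq_one'
          rw [show (y⁻¹ * autFun d y) ^ p ^ m = 1 from congrArg Subtype.val h2, mul_one]
        obtain ⟨i, -, hi'⟩ := (Nat.dvd_prime_pow (Fact.out : p.Prime)).1
          (orderOf_dvd_of_pow_eq_one h1)
        exact ⟨i, hi'⟩
      have hd₁ : IsMap G₁ L (autFun d) :=
        (mem_autGroup hLR).1 (hi.2 L hLR ⟨⟨d, hd⟩, subset_closure ⟨k, hk⟩, rfl⟩)
      obtain ⟨d', hd', hd1, -, -⟩ := hd₁.exists_inv
      rw [fimg_autFun] at hd'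
      have hgb₁ : IsMap G₁ N' (fun x => g (autFun β x)) := by
        refine (hθ.comp hd' fun x hx => hθL ▸ apply_mem_fimg θ hx).congr fun x hx => ?_
        have hL : g (autFun β x) ∈ L := apply_mem_fimg (fun x => g (autFun β x)) hx
        show d' (θ x) = g (autFun β x)
        have h1 := hd1 _ hL
        rw [hde _ hL, hw1 x hx] at h1
        exact h1
      set A := fimg (autFun β) N'
      have hA : A ≤ normalizerIn R M := fimg_le hβN
      obtain ⟨g', hg', hg1, -, -⟩ := (hg.res hA).exists_inv
      exact (hgb₁.comp hg' fun x hx => apply_mem_fimg g (apply_mem_fimg (autFun β) hx)).congr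
        fun x hx => hg1 _ (apply_mem_fimg (autFun β) hx)
  intro P φ hφ
  rw [residual_hom_eq hUp hH hres P] at hφ
  obtain ⟨-, β, hβ, e, he, hφe⟩ := hφ
  have hβm : IsMap G₁ U (autFun β) := by
    refine (mem_autGroup hUR).1 ((Subgroup.closure_le (G₁.autGroup U)).2 ?_ hβ)
    rintro γ ⟨hγ, Q, hQ, hγQ⟩
    exact (mem_autGroup hUR).2 (hup γ hγ Q hQ (hgen hγQ))
  exact mem_hom_of_isMap (((hgen he).comp hβm fun x hx => he.isMap.apply_mem hx).congr
    fun x hx => (hφe x hx).symm) fun x => (toFun_coe φ x).symm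

omit [Finite S] [Fact p.Prime] in
/-- The residual limit of an invariant saturated subsystem is invariant and stable. -/
theorem limit_props {R U : Subgroup Ω} {G : FusionSystem R} {H : FusionSystem U}
    (h : H.IsResidualLimitOf G p) [Finite S] [hp : Fact p.Prime] (hS : IsPGroup p S)
    (hGs : G.IsSaturated p) (hG : G.IsInvariantIn F) :
    H.IsSaturated p ∧ H.IsInvariantIn F ∧ H.hyperfocalSubgroup p = U ∧ H.IsPPrimeResidual p H := by
  revert hp hS hGs hG
  induction h with
  | stable G p h1 h2 => exact fun _ hGs hG => ⟨hGs, hG, h1, h2⟩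
  | @step R H G p D D' hD hD' h ih =>
    intro _ hS hGs hG
    have hD'' := invariant_residual hS
      (invariant_pPower hS hG hGs (hyperfocal_le G p) (hyperfocal_stronglyClosed hS hG hGs) hD.1 hD.2)
      hD.1 hD'
    exact ih hS hD'.1 hD''

omit [Finite S] [Fact p.Prime] in
/-- A stable invariant subsystem lies in the residual limit of a system above it. -/
theorem le_limit {R V : Subgroup Ω} {G : FusionSystem R} {A : FusionSystem V}
    (h : A.IsResidualLimitOf G p) [Finite S] [hp : Fact p.Prime] (hS : IsPGroup p S)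
    (hHs : H.IsSaturated p) (hHF : H.IsInvariantIn F) (hhyp : H.hyperfocalSubgroup p = U)
    (hres : H.IsPPrimeResidual p H) (hGs : G.IsSaturated p) (hG : G.IsInvariantIn F)
    (hHG : H.IsSubsystemOf G) : H.IsSubsystemOf A := by
  revert hp hS hHs hhyp hres hGs hG hHG
  induction h with
  | stable G p h1 h2 => exact fun _ _ _ _ _ _ hHG => hHG
  | @step R A G p D D' hD hD' h ih =>
    intro _ hS hHs hhyp hres hGs hG hHG
    have hDinv := invariant_pPower hS hG hGs (hyperfocal_le G p)
      (hyperfocal_stronglyClosed hS hG hGs) hD.1 hD.2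
    have h1 := stable_le_pPower hHF.2.1.1 hS hHs hhyp hHG hD.2
    have h2 := stable_le_primeIndex hS hHF hHs hres hDinv.1 hDinv.2.1.1 h1 hD'.1 hD'.2.1
    exact ih hS hHs hhyp hres hD'.1 (invariant_residual hS hDinv hD.1 hD') h2

end Cfsg.Agent.Fus.ResInv
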