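import Cfsg.Agent.Lib.Fus.OrbitTransfer

/-!
A biset with marks depending only on the order of a graph: every fusion system, saturated or not,
is the system induced on `S` by the permutations of this biset commuting with the right action.
-/

set_option autoImplicit false
set_option linter.style.haveILetI false
set_option linter.unusedSectionVars false

open scoped Classical

namespace Cfsg.Agent.Fus

open Subgroup FusionSystem MulAction

universe u

section EquivOfMarks

variable {W X Y : Type*} [Group W] [Finite W] [MulAction W X] [MulAction W Y] [Finite X] [Finite Y]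

/-- Finite actions with the same marks are isomorphic. -/
theorem exists_equiv_of_marks
    (h : ∀ V : Subgroup W, Nat.card (markSet (W := W) X V) = Nat.card (markSet (W := W) Y V)) :
    ∃ e : X ≃ Y, ∀ (w : W) (x : X), e (w • x) = w • e x := by
  haveI := Fintype.ofFinite (Subgroup W)
  obtain ⟨num, hnum⟩ : ∃ num : Subgroup W → ℕ, Function.Injective num :=
    ⟨fun V => (Fintype.equivFin (Subgroup W) V : ℕ),
      fun a b e => (Fintype.equivFin (Subgroup W)).injective (Fin.ext e)⟩
  let wt : Subgroup W → ℕ := fun V => num (conjRep V)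
  have hc : ∀ (g : W) (V : Subgroup W), wt (V.map (MulAut.conj g).toMonoidHom) = wt V := fun g V =>
    congrArg num (conjRep_eq ⟨g, rfl⟩).symm
  have hfib : ∀ k : ℕ × ℕ,
      Nat.card {q : orbitRel.Quotient W X //
        ((stabilizer W q.out).index, wt (stabilizer W q.out)) = k} =
      Nat.card {q : orbitRel.Quotient W Y //
        ((stabilizer W q.out).index, wt (stabilizer W q.out)) = k} := by
    intro k
    rcases Nat.eq_zero_or_pos k.1 with hk | hk
    · haveI : IsEmpty {q : orbitRel.Quotient W X //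
          ((stabilizer W q.out).index, wt (stabilizer W q.out)) = k} :=
        ⟨fun q => Subgroup.index_ne_zero_of_finite ((congrArg Prod.fst q.2).trans hk)⟩
      haveI : IsEmpty {q : orbitRel.Quotient W Y //
          ((stabilizer W q.out).index, wt (stabilizer W q.out)) = k} :=
        ⟨fun q => Subgroup.index_ne_zero_of_finite ((congrArg Prod.fst q.2).trans hk)⟩
      rw [Nat.card_of_isEmpty, Nat.card_of_isEmpty]
    · have e1 : Nat.card {x : X // ((stabilizer W x).index, wt (stabilizer W x)) = k} =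
          Nat.card {y : Y // ((stabilizer W y).index, wt (stabilizer W y)) = k} := by
        rw [card_key_eq_sum (W := W) (X := X) (fun U => (U.index, wt U)) k,
          card_key_eq_sum (W := W) (X := Y) (fun U => (U.index, wt U)) k]
        exact Finset.sum_congr rfl fun U _ => stabCount_eq_all (X := X) (Z := Y) h U
      rw [card_key_eq wt hc k, card_key_eq wt hc k] at e1
      exact Nat.eq_of_mul_eq_mul_left hk e1
  let fe := Equiv.ofFiberEquiv fun k => (Finite.card_eq.1 (hfib k)).some
  have hy : ∀ q : orbitRel.Quotient W X, ∃ y : Y,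
      (Quotient.mk'' y : orbitRel.Quotient W Y) = fe q ∧
        stabilizer W y = stabilizer W q.out := by
    intro q
    have e : conjRep (stabilizer W (fe q).out) = conjRep (stabilizer W q.out) :=
      hnum (congrArg Prod.snd (Equiv.ofFiberEquiv_map
        (fun k => (Finite.card_eq.1 (hfib k)).some) q))
    obtain ⟨g, hg⟩ := conjRep_rel (stabilizer W (fe q).out)
    obtain ⟨g', hg'⟩ := conjRep_rel (stabilizer W q.out)
    refine ⟨(g' * g⁻¹) • (fe q).out, ?_, ?_⟩
    · conv_rhs => rw [← Quotient.out_eq' (fe q)]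
      exact Quotient.eq''.2 (mem_orbit _ _)
    · rw [stabilizer_smul_eq_stabilizer_map_conj, ← hg, Subgroup.map_map, ← hg', e]
      congr 1
      ext x
      simp [mul_assoc]
  choose y hy1 hy2 using hy
  have hrep : ∀ x : X, ∃ w : W, w • (Quotient.mk'' x : orbitRel.Quotient W X).out = x := fun x =>
    mem_orbit_symm.1 (Quotient.exact
      (Quotient.out_eq (Quotient.mk'' x : orbitRel.Quotient W X)))
  choose w hw using hrep
  let f : X → Y := fun x => w x • y (Quotient.mk'' x)
  have hwd : ∀ (q : orbitRel.Quotient W X) (a b : W), a • q.out = b • q.out ↔ a • y q = b • y q := by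
    intro q a b
    rw [← inv_smul_eq_iff, ← mul_smul, ← mem_stabilizer_iff, ← hy2, mem_stabilizer_iff, mul_smul,
      inv_smul_eq_iff]
  have hf : ∀ (v : W) (x : X), f (v • x) = v • f x := by
    intro v x
    have hq : (Quotient.mk'' (v • x) : orbitRel.Quotient W X) = Quotient.mk'' x :=
      Quotient.eq''.2 (mem_orbit x v)
    show w (v • x) • y (Quotient.mk'' (v • x)) = v • w x • y (Quotient.mk'' x)
    rw [← mul_smul, hq, ← hwd, mul_smul, hw]
    conv_rhs => rw [← hw (v • x)]
    rw [hq]
  have hinj : Function.Injective f := by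
    intro a b e
    have hq : (Quotient.mk'' a : orbitRel.Quotient W X) = Quotient.mk'' b := by
      refine fe.injective ?_
      rw [← hy1, ← hy1]
      refine Quotient.eq''.2 ⟨(w a)⁻¹ * w b, ?_⟩
      show ((w a)⁻¹ * w b) • y _ = y _
      rw [mul_smul, inv_smul_eq_iff]
      exact e.symm
    have e' : w a • y (Quotient.mk'' a) = w b • y (Quotient.mk'' a) := by
      conv_rhs => rw [hq]
      exact e
    rw [← hwd, hw] at e'
    rw [e', hq, hw]
  have hcard : Nat.card X = Nat.card Y := by
    have e := h ⊥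
    rwa [Nat.card_congr (Equiv.subtypeUnivEquiv (p := (· ∈ markSet (W := W) X ⊥))
        fun x => (bot_le : (⊥ : Subgroup W) ≤ _)),
      Nat.card_congr (Equiv.subtypeUnivEquiv (p := (· ∈ markSet (W := W) Y ⊥))
        fun x => (bot_le : (⊥ : Subgroup W) ≤ _))] at e
  exact ⟨Equiv.ofBijective f ((Nat.bijective_iff_injective_and_card f).2 ⟨hinj, hcard⟩), hf⟩

end EquivOfMarks

variable {Ω : Type u} [Group Ω] {S : Subgroup Ω} {F : FusionSystem S}

/-- At graphs of order at least `n` the marks depend only on the order and are positive; the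
multiplicities are highly divisible. -/
def UniformFrom (F : FusionSystem S) (n : ℕ) [Fintype (Subgroup (S × S))]
    (c : Subgroup (S × S) → ℕ) : Prop :=
  (∀ L, c L ≠ 0 → IsFGraph F L ∧ n ≤ Nat.card L) ∧ (∀ L, Nat.card (S × S) ^ n ∣ c L) ∧
    ∃ m : ℕ → ℕ, ∀ K, IsFGraph F K → n ≤ Nat.card K → 0 < famMark c K ∧
      famMark c K = m (Nat.card K)

variable [Finite S] [Fintype (Subgroup (S × S))]

theorem uniform_step {n : ℕ} {c : Subgroup (S × S) → ℕ} (hc : UniformFrom F (n + 1) c) :
    ∃ c', UniformFrom F n c' := by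
  obtain ⟨hsupp, hdiv, m, hm⟩ := hc
  let N := Nat.card (S × S)
  let w : Subgroup (S × S) → ℕ := fun K => K.relIndex (Subgroup.normalizer (K : Set (S × S)))
  have hw : ∀ K, w K ∣ N := fun K =>
    (Subgroup.relIndex_dvd_card _ _).trans (Subgroup.card_subgroup_dvd_card _)
  let M := N ^ (n + 1) * (∑ K, famMark c K + 1)
  have hfd : ∀ K, N ^ (n + 1) ∣ famMark c K := fun K => by
    rw [famMark_eq]
    exact Finset.dvd_sum fun L _ => (hdiv L).mul_right _
  have hle : ∀ K, famMark c K < M := fun K => by
    have h1 : famMark c K ≤ ∑ K, famMark c K :=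
      Finset.single_le_sum (fun _ _ => Nat.zero_le _) (Finset.mem_univ K)
    have h2 : 0 < N ^ (n + 1) := pow_pos Nat.card_pos _
    calc famMark c K < ∑ K, famMark c K + 1 := by omega
      _ ≤ M := Nat.le_mul_of_pos_left _ h2
  let δ : Subgroup (S × S) → ℕ := fun L =>
    if Nat.card L = n ∧ IsFGraph F L ∧ conjRep L = L then (M - famMark c L) / w L else 0
  have hδ : ∀ L, δ L ≠ 0 → Nat.card L = n ∧ IsFGraph F L ∧ conjRep L = L := fun L h => by
    by_contra h'
    exact h (if_neg h')
  have hδd : ∀ L, N ^ n ∣ δ L := fun L => by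
    by_cases h : Nat.card L = n ∧ IsFGraph F L ∧ conjRep L = L
    · simp only [δ, if_pos h]
      have h1 : N ^ (n + 1) ∣ M - famMark c L :=
        Nat.dvd_sub (dvd_mul_right _ _) (hfd L)
      obtain ⟨k, hk⟩ := h1
      obtain ⟨a, ha⟩ := hw L
      refine ⟨a * k, ?_⟩
      rw [hk, pow_succ, show N ^ n * N * k = w L * (N ^ n * (a * k)) by
        conv_lhs => arg 1; arg 2; rw [ha]
        ring, Nat.mul_div_cancel_left _ (relIndex_normalizer_pos L)]
    · simp only [δ, if_neg h, dvd_zero]
  have hsum : ∀ K, famMark (fun L => c L + δ L) K = famMark c K + ∑ L, δ L * cosetMark L K := by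
    intro K
    rw [famMark_eq, famMark_eq, ← Finset.sum_add_distrib]
    exact Finset.sum_congr rfl fun L _ => add_mul _ _ _
  have hbig : ∀ K : Subgroup (S × S), n < Nat.card K →
      famMark (fun L => c L + δ L) K = famMark c K := by
    intro K hK
    rw [hsum, Finset.sum_eq_zero, add_zero]
    intro L _
    by_contra h
    obtain ⟨h1, h2⟩ := mul_ne_zero_iff.1 h
    obtain ⟨g, hg⟩ := exists_conj_le h2
    have := Subgroup.card_le_of_le hg
    rw [card_map_conj, (hδ L h1).1] at this
    omega
  have heq : ∀ K, IsFGraph F K → Nat.card K = n → famMark (fun L => c L + δ L) K = M := by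
    intro K hK hcard
    have hrel : GraphRel F (conjRep K) K := graphRel_conjRep F K
    have hRg : IsFGraph F (conjRep K) := hK.of_rel hrel.symm
    have hRc : Nat.card (conjRep K) = n := hrel.card_eq.trans hcard
    rw [hsum, Finset.sum_eq_single (conjRep K)]
    · rw [cosetMark_conjRep_self]
      simp only [δ]
      rw [if_pos ⟨hRc, hRg, conjRep_idem K⟩, Nat.div_mul_cancel, famMark_conjRep c K]
      · have := hle K
        omega
      · exact ((hw _).trans (dvd_pow_self N (Nat.succ_ne_zero n))).trans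
          (Nat.dvd_sub (dvd_mul_right _ _) (hfd _))
    · intro L _ hne
      by_contra h
      obtain ⟨h1, h2⟩ := mul_ne_zero_iff.1 h
      obtain ⟨hc1, -, hc3⟩ := hδ L h1
      exact hne (hc3 ▸ conjRep_eq_of_mark h2 (by omega))
    · exact fun h => absurd (Finset.mem_univ _) h
  refine ⟨fun L => c L + δ L, fun L h => ?_, fun L => ?_,
    fun k => if k = n then M else m k, fun K hK hn => ?_⟩
  · change c L + δ L ≠ 0 at h
    rcases Nat.eq_zero_or_pos (c L) with h1 | h1
    · obtain ⟨h2, h3, -⟩ := hδ L (by omega)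
      exact ⟨h3, h2.ge⟩
    · obtain ⟨h2, h3⟩ := hsupp L h1.ne'
      exact ⟨h2, by omega⟩
  · exact Nat.dvd_add ((pow_dvd_pow _ (Nat.le_succ n)).trans (hdiv L)) (hδd L)
  · rcases hn.lt_or_eq with hlt | heq'
    · dsimp only
      rw [hbig K hlt, if_neg (Nat.ne_of_gt hlt)]
      exact hm K hK hlt
    · dsimp only
      rw [heq K hK heq'.symm, if_pos heq'.symm]
      exact ⟨Nat.zero_lt_of_lt (hle K), rfl⟩

omit [Fintype (Subgroup (S × S))] in
theorem exists_uniform_family (F : FusionSystem S) [Fintype (Subgroup (S × S))] :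
    ∃ c : Subgroup (S × S) → ℕ, (∀ L, c L ≠ 0 → IsFGraph F L) ∧
      ∃ m : ℕ → ℕ, ∀ K, IsFGraph F K → 0 < famMark c K ∧ famMark c K = m (Nat.card K) := by
  suffices ∀ n, n ≤ Nat.card S + 1 → ∃ c, UniformFrom F n c by
    obtain ⟨c, h1, -, m, h3⟩ := this 0 (Nat.zero_le _)
    exact ⟨c, fun L h => (h1 L h).1, m, fun K h => h3 K h (Nat.zero_le _)⟩
  intro n hn
  refine Nat.decreasingInduction (motive := fun m _ => ∃ c, UniformFrom F m c) ?_ ?_ hn
  · intro k _ ih
    obtain ⟨c, hc⟩ := ih
    exact uniform_step hc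
  · refine ⟨fun _ => 0, fun L h => absurd rfl h, fun L => dvd_zero _, fun _ => 0,
      fun K hK hn => ?_⟩
    have := Nat.le_of_dvd Nat.card_pos hK.card_dvd
    omega

/-- The graph of a map, with the inverse direction. -/
def mapGraph {P : Subgroup Ω} (hP : P ≤ S) (φ : P →* S) : Subgroup (S × S) :=
  ((Subgroup.inclusion hP).prod φ).range

theorem isFGraph_inclusion (F : FusionSystem S) {P : Subgroup Ω} (hP : P ≤ S) :
    IsFGraph F (mapGraph hP (Subgroup.inclusion hP)) := by
  refine ⟨S, _, isMap_id F le_rfl, srcOf_le _, ?_⟩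
  rintro _ ⟨x, rfl⟩
  rfl

omit [Fintype (Subgroup (S × S))] in
/-- Every fusion system on a finite group is induced by some finite group. -/
theorem exists_realizedBy (F : FusionSystem S) :
    ∃ (G : Type u) (_ : Group G) (_ : Finite G) (ι : ↥S →* G), F.IsRealizedBy ι := by
  haveI : Fintype (Subgroup (S × S)) := Fintype.ofFinite _
  obtain ⟨c, hsupp, m, hm⟩ := exists_uniform_family F
  let X := Pts c
  let α : S × S →* Equiv.Perm X := MulAction.toPermHom (S × S) X
  let G : Subgroup (Equiv.Perm X) :=
    Subgroup.centralizer (Set.range fun s : S => α (1, s))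
  have hι : ∀ s : S, α (s, 1) ∈ G := fun s => by
    rw [Subgroup.mem_centralizer_iff]
    rintro _ ⟨t, rfl⟩
    rw [← map_mul, ← map_mul]
    simp
  let ι : ↥S →* G := MonoidHom.codRestrict (α.comp (MonoidHom.inl S S)) G hι
  have hιe : ∀ (s : S) (z : X), ((ι s : G) : Equiv.Perm X) z = (s, (1 : S)) • z := fun _ _ => rfl
  have hα : ∀ (g : G) (t : S) (z : X),
      (g : Equiv.Perm X) ((((1 : S), t) : S × S) • z) = ((1 : S), t) • (g : Equiv.Perm X) z := by
    intro g t z
    have h := Subgroup.mem_centralizer_iff.1 g.2 _ ⟨t, rfl⟩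
    exact (Equiv.ext_iff.1 h z).symm
  have hstab : ∀ z : X, IsFGraph F (stabilizer (S × S) z) := by
    rintro ⟨L, i, q⟩
    rw [stabilizer_pts]
    induction q using QuotientGroup.induction_on with
    | _ g =>
      rw [show ((g : S × S) : (S × S) ⧸ L) = g • ((1 : S × S) : (S × S) ⧸ L) by
        show _ = ((g * 1 : S × S) : (S × S) ⧸ L)
        rw [mul_one], stabilizer_smul_eq_stabilizer_map_conj, MulAction.stabilizer_quotient]
      have hL : c L ≠ 0 := fun h0 => (h0 ▸ i).elim0
      exact (hsupp L hL).of_rel (graphRel_conj F L g)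
  have hinj : ∀ {K : Subgroup (S × S)} (_ : IsFGraph F K) (v : S × S), v ∈ K → v.2 = 1 → v = 1 := by
    intro K hK v hv h2
    obtain ⟨Q, f, hf, hQ, e⟩ := hK
    have h1 : f (v.1 : Ω) = f 1 := by rw [e v hv, h2, hf.map_one]; rfl
    exact Prod.ext (Subtype.ext (hf.injOn (hQ (mem_srcOf hv)) Q.one_mem h1)) h2
  have hne : ∀ K, IsFGraph F K → ∃ z : X, K ≤ stabilizer (S × S) z := fun K hK => by
    obtain ⟨⟨z, hz⟩⟩ := (Nat.card_pos_iff.1 (hm K hK).1).1
    exact ⟨z, hz⟩
  refine ⟨G, inferInstance, inferInstance, ι, ?_, fun P hP φ hφ => ⟨fun hmem => ?_, ?_⟩⟩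
  · intro a b hab
    obtain ⟨z, hz⟩ := hne _ (isFGraph_inclusion F (bot_le : (⊥ : Subgroup Ω) ≤ S))
    have h : (a, (1 : S)) • z = (b, (1 : S)) • z := by rw [← hιe, ← hιe, hab]
    rw [← inv_smul_eq_iff, ← mul_smul, ← mem_stabilizer_iff] at h
    have h1 := hinj (hstab z) _ h (by simp)
    exact (inv_mul_eq_one.1 (congrArg Prod.fst h1)).symm
  · -- maps of the system are conjugations
    let φ' : P →* S := φ.codRestrict S hφ
    let j : P × S →* S × S := (Subgroup.inclusion hP).prodMap (MonoidHom.id S)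
    let j' : P × S →* S × S := φ'.prodMap (MonoidHom.id S)
    have hf : IsMap F P (toFun φ) := isMap_toFun hmem
    obtain ⟨g, hg, hg1, hg2, -⟩ := hf.exists_inv
    have hgraph : ∀ V : Subgroup (P × S), IsFGraph F (V.map j) ↔ IsFGraph F (V.map j') := by
      intro V
      constructor
      · rintro ⟨Q, f, hf', hQ, e⟩
        have hsrc : ∀ v ∈ V, (v.1 : Ω) ∈ Q := fun v hv => hQ (mem_srcOf (w := j v) ⟨v, hv, rfl⟩)
        have hT : srcOf (V.map j') ≤ fimg (toFun φ) (P ⊓ Q) := by
          rintro _ ⟨_, ⟨v, hv, rfl⟩, rfl⟩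
          show φ v.1 ∈ _
          rw [← toFun_coe φ v.1]
          exact apply_mem_fimg _ ⟨v.1.2, hsrc v hv⟩
        have hc := (hg.res (fimg_mono _ inf_le_left)).comp hf'
          (fun y hy => by
            obtain ⟨x, hx, rfl⟩ := (hf.res inf_le_left).mem_fimg_iff.1 hy
            rw [hg1 x hx.1]
            exact hx.2)
        refine ⟨_, _, hc.res hT, le_rfl, ?_⟩
        rintro _ ⟨v, hv, rfl⟩
        show f (g (φ v.1)) = (v.2 : Ω)
        rw [← toFun_coe φ v.1, hg1 _ v.1.2]
        exact e (j v) ⟨v, hv, rfl⟩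
      · rintro ⟨Q, f, hf', hQ, e⟩
        have hsrc : ∀ v ∈ V, φ v.1 ∈ Q := fun v hv => hQ (mem_srcOf (w := j' v) ⟨v, hv, rfl⟩)
        have hsP : srcOf (V.map j) ≤ P := by
          rintro _ ⟨_, ⟨v, hv, rfl⟩, rfl⟩
          exact v.1.2
        have hc := (hf.res hsP).comp hf' (fun y hy => by
          obtain ⟨_, ⟨v, hv, rfl⟩, rfl⟩ := hy
          show toFun φ (v.1 : Ω) ∈ Q
          rw [toFun_coe]
          exact hsrc v hv)
        refine ⟨_, _, hc, le_rfl, ?_⟩
        rintro _ ⟨v, hv, rfl⟩
        show f (toFun φ (v.1 : Ω)) = (v.2 : Ω)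
        rw [toFun_coe]
        exact e (j' v) ⟨v, hv, rfl⟩
    have hjinj : Function.Injective j := fun a b hab =>
      Prod.ext (Subgroup.inclusion_injective hP (congrArg Prod.fst hab)) (congrArg Prod.snd hab :)
    have hjinj' : Function.Injective j' := fun a b hab =>
      Prod.ext (F.injective_of_mem hmem (congrArg (fun t : S × S => (t.1 : Ω)) hab))
        (congrArg Prod.snd hab :)
    have hmarks : ∀ V : Subgroup (P × S), famMark c (V.map j) = famMark c (V.map j') := by
      intro V
      by_cases h : IsFGraph F (V.map j)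
      · rw [(hm _ h).2, (hm _ ((hgraph V).1 h)).2,
          ← Nat.card_congr (V.equivMapOfInjective j hjinj).toEquiv,
          ← Nat.card_congr (V.equivMapOfInjective j' hjinj').toEquiv]
      · rw [famMark_eq_zero (fun L h => hsupp L h) h,
          famMark_eq_zero (fun L h => hsupp L h) fun h' => h ((hgraph V).2 h')]
    haveI : Finite P := Finite.of_injective _ (Subgroup.inclusion_injective hP)
    obtain ⟨e, he⟩ := @exists_equiv_of_marks (P × S) X X _ _ (MulAction.compHom X j)
      (MulAction.compHom X j') _ _ (fun V => by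
        refine Eq.trans ?_ ((hmarks V).trans ?_)
        · refine Nat.card_congr (Equiv.subtypeEquivRight fun z => ?_)
          exact (Subgroup.map_le_iff_le_comap (f := j) (K := V)
            (H := stabilizer (S × S) z)).symm
        · refine Nat.card_congr (Equiv.subtypeEquivRight fun z => ?_)
          exact Subgroup.map_le_iff_le_comap (f := j') (K := V) (H := stabilizer (S × S) z))
    replace he : ∀ (v : P × S) (z : X), e (j v • z) = j' v • e z := he
    have heG : e ∈ G := by
      rw [Subgroup.mem_centralizer_iff]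
      rintro _ ⟨t, rfl⟩
      refine Equiv.ext fun z => ?_
      have h := he (1, t) z
      rw [show j (1, t) = (1, t) from Prod.ext (map_one (Subgroup.inclusion hP)) rfl,
        show j' (1, t) = (1, t) from Prod.ext (map_one φ') rfl] at h
      exact h.symm
    refine ⟨⟨e, heG⟩, fun x => eq_mul_inv_of_mul_eq (Subtype.ext (Equiv.ext fun z => ?_))⟩
    exact (he (x, 1) z).symm
  · -- conjugations are maps of the system
    rintro ⟨g, hg⟩
    obtain ⟨z, hz⟩ := hne _ (isFGraph_inclusion F hP)
    have hz' : mapGraph hP (Subgroup.inclusion hP) ≤ stabilizer (S × S) z := hz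
    let φ' : P →* S := φ.codRestrict S hφ
    have hfix : ∀ x : P, (φ' x, Subgroup.inclusion hP x) ∈
        stabilizer (S × S) ((g : Equiv.Perm X) z) := by
      intro x
      have h1 : (Subgroup.inclusion hP x, Subgroup.inclusion hP x) • z = z :=
        hz' ⟨x, rfl⟩
      have h2 : ι (φ' x) * g = g * ι (Subgroup.inclusion hP x) := by
        rw [show ι (φ' x) = g * ι (Subgroup.inclusion hP x) * g⁻¹ from hg x, inv_mul_cancel_right]
      have h3 := Equiv.ext_iff.1 (congrArg Subtype.val h2)
        ((((1 : S), Subgroup.inclusion hP x) : S × S) • z)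
      simp only [Subgroup.coe_mul, Equiv.Perm.mul_apply, hιe] at h3
      rw [hα, ← mul_smul, ← mul_smul] at h3
      simp only [Prod.mk_mul_mk, mul_one, one_mul] at h3
      rw [h1] at h3
      exact h3
    obtain ⟨Q, f, hf, hQ, e⟩ := hstab ((g : Equiv.Perm X) z)
    have hQP : ∀ x : P, φ x ∈ Q := fun x => hQ (mem_srcOf (hfix x))
    have hfe : ∀ x : P, f (φ x) = (x : Ω) := fun x => e _ (hfix x)
    have hr : φ.range ≤ Q := by
      rintro _ ⟨x, rfl⟩
      exact hQP x
    obtain ⟨k, hk, hk1, -, -⟩ := (hf.res hr).exists_inv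
    refine mem_hom_of_isMap (hk.res fun x hx => ?_) fun x => ?_
    · have h := apply_mem_fimg f (P := φ.range) ⟨⟨x, hx⟩, rfl⟩
      rwa [hfe] at h
    · have h := hk1 (φ x) ⟨x, rfl⟩
      rw [hfe x] at h
      exact h.symm

end Cfsg.Agent.Fus
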