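import Mathlib
import Cfsg.Agent.Lib.Fus.RealizeBiset

/-!
The class of a permutation of a stable biset commuting with the right action, with values in an
elementary abelian quotient of `S` invariant under the system.
-/

set_option autoImplicit false
set_option linter.style.haveILetI false
set_option linter.unusedSectionVars false
set_option linter.unusedVariables false

open scoped Classical Pointwise

universe u v

namespace Cfsg.Agent.Fus.BisetClass

open Subgroup FusionSystem MulAction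

variable {Ω : Type u} [Group Ω] {S : Subgroup Ω} {F : FusionSystem S} {A : Type v} [CommGroup A]
  {c : Subgroup (S × S) → ℕ} {p : ℕ}

/-- A stable family with an invariant character of exponent `p`. -/
structure Data (F : FusionSystem S) (p : ℕ) [Fintype (Subgroup (S × S))]
    (c : Subgroup (S × S) → ℕ) (ψ : S →* A) : Prop where
  pgroup : IsPGroup p S
  graphs : ∀ L, c L ≠ 0 → IsFGraph F L
  deg : ¬ p ∣ famDeg c
  stable : ∀ K K', GraphRel F K K' → famMark c K = famMark c K'
  inv : ∀ (x y : S) (P : Subgroup Ω) (f : Ω → Ω),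
    IsMap F P f → (x : Ω) ∈ P → (y : Ω) = f x → ψ y = ψ x
  expo : ∀ a : A, a ^ p = 1

/-- Commutes with the right action. -/
def Eqv (g : Equiv.Perm (Pts c)) : Prop :=
  ∀ (t : S) (z : Pts c), g (((1 : S), t) • z) = ((1 : S), t) • g z

/-- Carries the left action of `Q` to the left action of its image under `f`. -/
def Realizes (Q : Subgroup Ω) (f : Ω → Ω) (g : Equiv.Perm (Pts c)) : Prop :=
  Eqv g ∧ ∀ x y : S, (x : Ω) ∈ Q → (y : Ω) = f x →
    ∀ z, g ((x, (1 : S)) • z) = (y, (1 : S)) • g z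

theorem Eqv.mul {g h : Equiv.Perm (Pts c)} (hg : Eqv g) (hh : Eqv h) : Eqv (g * h) :=
  fun t z => by rw [Equiv.Perm.mul_apply, Equiv.Perm.mul_apply, hh, hg]

theorem Eqv.inv {g : Equiv.Perm (Pts c)} (hg : Eqv g) : Eqv g⁻¹ := fun t z => by
  apply g.injective
  rw [hg t, Equiv.Perm.coe_inv, Equiv.apply_symm_apply, Equiv.apply_symm_apply]

theorem Realizes.congr {Q : Subgroup Ω} {f f' : Ω → Ω} {g : Equiv.Perm (Pts c)}
    (h : Realizes Q f g) (e : ∀ x ∈ Q, f x = f' x) : Realizes Q f' g :=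
  ⟨h.1, fun x y hx hy => h.2 x y hx (hy.trans (e _ hx).symm)⟩

theorem Realizes.res {Q R : Subgroup Ω} {f : Ω → Ω} {g : Equiv.Perm (Pts c)}
    (h : Realizes R f g) (hQR : Q ≤ R) : Realizes Q f g :=
  ⟨h.1, fun x y hx hy => h.2 x y (hQR hx) hy⟩

theorem Realizes.comp {Q R : Subgroup Ω} {f f' : Ω → Ω} {g g' : Equiv.Perm (Pts c)}
    (hg : Realizes Q f g) (hg' : Realizes R f' g') (hm : ∀ x ∈ Q, f x ∈ R)
    (hS : ∀ x ∈ Q, f x ∈ S) : Realizes Q (fun x => f' (f x)) (g' * g) :=
  ⟨hg'.1.mul hg.1, fun x y hx hy z => by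
    rw [Equiv.Perm.mul_apply, Equiv.Perm.mul_apply, hg.2 x ⟨_, hS _ hx⟩ hx rfl,
      hg'.2 ⟨_, hS _ hx⟩ y (hm _ hx) hy]⟩

theorem Realizes.inv {Q : Subgroup Ω} {f f' : Ω → Ω} {g : Equiv.Perm (Pts c)}
    (hg : Realizes Q f g) (hf : IsMap F Q f) (h : ∀ x ∈ Q, f' (f x) = x) :
    Realizes (fimg f Q) f' g⁻¹ := by
  refine ⟨hg.1.inv, fun x y hx hy z => ?_⟩
  obtain ⟨w, hw, hwe⟩ := hf.mem_fimg_iff.1 hx
  rw [← hwe, h w hw] at hy
  apply g.injective
  rw [hg.2 y x (hy ▸ hw) (by rw [hy, hwe]), Equiv.Perm.coe_inv, Equiv.apply_symm_apply,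
    Equiv.apply_symm_apply]

theorem realizes_one (Q : Subgroup Ω) : Realizes (c := c) Q (fun x => x) 1 :=
  ⟨fun _ _ => rfl, fun x y _ hy z => by rw [Subtype.ext hy]; rfl⟩

/-- The left translation. -/
def ltr (c : Subgroup (S × S) → ℕ) (s : S) : Equiv.Perm (Pts c) :=
  MulAction.toPerm ((s, (1 : S)) : S × S)

theorem realizes_ltr (Q : Subgroup Ω) (s : S) :
    Realizes Q (fun x => (s : Ω) * x * (s : Ω)⁻¹) (ltr c s) := by
  refine ⟨fun t z => ?_, fun x y _ hy z => ?_⟩
  · show (s, (1 : S)) • ((1 : S), t) • z = ((1 : S), t) • (s, (1 : S)) • z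
    rw [← mul_smul, ← mul_smul]
    simp
  · show (s, (1 : S)) • (x, (1 : S)) • z = (y, (1 : S)) • (s, (1 : S)) • z
    rw [← mul_smul, ← mul_smul, show y = s * x * s⁻¹ from Subtype.ext hy]
    simp

variable [Finite S] [Fintype (Subgroup (S × S))] {ψ : S →* A}

theorem Data.stab_graph (d : Data F p c ψ) (z : Pts c) :
    IsFGraph F (stabilizer (S × S) z) := by
  obtain ⟨L, i, q⟩ := z
  rw [stabilizer_pts]
  induction q using QuotientGroup.induction_on with
  | _ g =>
    rw [show ((g : S × S) : (S × S) ⧸ L) = g • ((1 : S × S) : (S × S) ⧸ L) by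
      show _ = ((g * 1 : S × S) : (S × S) ⧸ L)
      rw [mul_one], stabilizer_smul_eq_stabilizer_map_conj, MulAction.stabilizer_quotient]
    have hL : c L ≠ 0 := fun h0 => (h0 ▸ i).elim0
    exact (d.graphs L hL).of_rel (graphRel_conj F L g)

theorem Data.right_free (d : Data F p c ψ) {t : S} {z : Pts c}
    (h : ((1 : S), t) • z = z) : t = 1 :=
  (congrArg Prod.snd ((d.stab_graph z).ext_of_fst (show ((1 : S), t) ∈ stabilizer (S × S) z from h)
    (one_mem _) rfl))

/-- The potential. -/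
noncomputable def chi (ψ : S →* A) (z : Pts c) : A := ψ z.pt.out.2 * (ψ z.pt.out.1)⁻¹

theorem Data.chi_smul (d : Data F p c ψ) (w : S × S) (z : Pts c) :
    chi ψ (w • z) = chi ψ z * (ψ w.2 * (ψ w.1)⁻¹) := by
  obtain ⟨L, i, q⟩ := z
  have hL : c L ≠ 0 := fun h0 => (h0 ▸ i).elim0
  obtain ⟨P, f, hf, hP, he⟩ := d.graphs L hL
  have hl : ∀ l ∈ L, ψ l.2 = ψ l.1 := fun l hl =>
    d.inv _ _ P f hf (hP (mem_srcOf hl)) (he l hl).symm
  obtain ⟨⟨l, hlL⟩, hle⟩ := QuotientGroup.mk_out_eq_mul L (w * q.out)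
  have e : (w • q).out = w * q.out * l := by
    conv_lhs => rw [← QuotientGroup.out_eq' q]
    exact hle
  show ψ (w • q).out.2 * (ψ (w • q).out.1)⁻¹ = ψ q.out.2 * (ψ q.out.1)⁻¹ * _
  rw [e]
  simp only [Prod.snd_mul, Prod.fst_mul, map_mul, mul_inv, hl l hlL]
  rw [show ψ w.2 * ψ q.out.2 * ψ l.1 * ((ψ w.1)⁻¹ * (ψ q.out.1)⁻¹ * (ψ l.1)⁻¹) =
    ψ q.out.2 * (ψ q.out.1)⁻¹ * (ψ w.2 * (ψ w.1)⁻¹) * (ψ l.1 * (ψ l.1)⁻¹) by
      simp only [mul_comm, mul_left_comm, mul_assoc], mul_inv_cancel, mul_one]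

/-- The orbits of the right action. -/
def rsetoid (c : Subgroup (S × S) → ℕ) : Setoid (Pts c) where
  r z z' := ∃ t : S, ((1 : S), t) • z = z'
  iseqv :=
    { refl := fun z => ⟨1, by
        show (1 : S × S) • z = z
        rw [one_smul]⟩
      symm := fun {z z'} ⟨t, h⟩ => ⟨t⁻¹, by
        rw [← h, ← mul_smul, show (((1 : S), t⁻¹) : S × S) * (1, t) = 1 by simp, one_smul]⟩
      trans := fun {z z' z''} ⟨t, h⟩ ⟨t', h'⟩ => ⟨t' * t, by
        rw [← h', ← h, ← mul_smul]
        simp⟩ }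

/-- The right orbits. -/
abbrev ROrb (c : Subgroup (S × S) → ℕ) := Quotient (rsetoid c)

noncomputable instance : Fintype (ROrb c) := Fintype.ofFinite _

/-- The increment of the potential. -/
noncomputable def incr (ψ : S →* A) (g : Equiv.Perm (Pts c)) (z : Pts c) : A :=
  chi ψ (g z) * (chi ψ z)⁻¹

/-- The class. -/
noncomputable def cls (ψ : S →* A) (g : Equiv.Perm (Pts c)) : A :=
  ∏ y : ROrb c, incr ψ g y.out

theorem Data.incr_smul (d : Data F p c ψ) {g : Equiv.Perm (Pts c)} (hg : Eqv g) (t : S)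
    (z : Pts c) : incr ψ g (((1 : S), t) • z) = incr ψ g z := by
  rw [incr, incr, hg, d.chi_smul, d.chi_smul, mul_inv,
    mul_mul_mul_comm, mul_inv_cancel, mul_one]

theorem Data.incr_out (d : Data F p c ψ) {g : Equiv.Perm (Pts c)} (hg : Eqv g) {y : ROrb c}
    {z : Pts c} (h : (⟦z⟧ : ROrb c) = y) : incr ψ g y.out = incr ψ g z := by
  obtain ⟨t, ht⟩ := Quotient.exact (h.trans (Quotient.out_eq y).symm)
  rw [← ht, d.incr_smul hg]

/-- The permutation of the right orbits. -/
def orbPerm {g : Equiv.Perm (Pts c)} (hg : Eqv g) : Equiv.Perm (ROrb c) :=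
  Quotient.congr g fun z z' =>
    ⟨fun ⟨t, h⟩ => ⟨t, by rw [← hg, h]⟩, fun ⟨t, h⟩ => ⟨t, g.injective (by rw [hg, h])⟩⟩

theorem orbPerm_mk {g : Equiv.Perm (Pts c)} (hg : Eqv g) (z : Pts c) :
    orbPerm hg (⟦z⟧ : ROrb c) = ⟦g z⟧ := rfl

theorem Data.cls_mul (d : Data F p c ψ) {g h : Equiv.Perm (Pts c)} (hg : Eqv g) (hh : Eqv h) :
    cls ψ (g * h) = cls ψ g * cls ψ h := by
  simp only [cls]
  rw [← Equiv.prod_comp (orbPerm hh) fun y => incr ψ g y.out, ← Finset.prod_mul_distrib]
  refine Finset.prod_congr rfl fun y _ => ?_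
  rw [d.incr_out hg (z := h y.out) (y := orbPerm hh y)
    (by conv_rhs => rw [← Quotient.out_eq y, orbPerm_mk])]
  simp only [incr, Equiv.Perm.mul_apply]
  rw [mul_assoc, ← mul_assoc ((chi ψ (h y.out))⁻¹), inv_mul_cancel, one_mul]

theorem cls_one : cls (c := c) ψ 1 = 1 :=
  Finset.prod_eq_one fun y _ => mul_inv_cancel _

theorem Data.cls_inv (d : Data F p c ψ) {g : Equiv.Perm (Pts c)} (hg : Eqv g) :
    cls ψ g⁻¹ = (cls ψ g)⁻¹ := by
  apply eq_inv_of_mul_eq_one_left
  rw [← d.cls_mul hg.inv hg, inv_mul_cancel, cls_one]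

/-- The number of right orbits. -/
theorem Data.card_rOrb (d : Data F p c ψ) : Nat.card (ROrb c) = famDeg c := by
  have e : ROrb c × S ≃ Pts c := Equiv.ofBijective (fun w => ((1 : S), w.2) • w.1.out) (by
    refine ⟨fun ⟨y, t⟩ ⟨y', t'⟩ h => ?_, fun z => ?_⟩
    · obtain rfl : y = y' := by
        rw [← Quotient.out_eq y, ← Quotient.out_eq y']
        refine Quotient.sound ⟨t'⁻¹ * t, ?_⟩
        rw [show (((1 : S), t'⁻¹ * t) : S × S) = ((1 : S), t')⁻¹ * (1, t) by simp,
          mul_smul, inv_smul_eq_iff]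
        exact h
      refine Prod.ext rfl ?_
      have h1 : ((1 : S), t'⁻¹ * t) • y.out = y.out := by
        rw [show (((1 : S), t'⁻¹ * t) : S × S) = ((1 : S), t')⁻¹ * (1, t) by simp,
          mul_smul, inv_smul_eq_iff]
        exact h
      exact (inv_mul_eq_one.1 (d.right_free h1)).symm
    · obtain ⟨t, ht⟩ := Quotient.exact (Quotient.out_eq (⟦z⟧ : ROrb c))
      exact ⟨(⟦z⟧, t), ht⟩)
  refine Nat.eq_of_mul_eq_mul_right (Nat.card_pos (α := S)) ?_
  rw [← Nat.card_prod, Nat.card_congr e, Nat.card_congr (ptsEquiv c), Nat.card_sigma, famDeg,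
    Finset.sum_mul]
  refine Finset.sum_congr rfl fun L _ => ?_
  rcases eq_or_ne (c L) 0 with h0 | h0
  · haveI : IsEmpty (Fin (c L)) := by rw [h0]; infer_instance
    simp [h0]
  rw [Nat.card_prod, Nat.card_eq_fintype_card, Fintype.card_fin, mul_assoc, ← Subgroup.index_eq_card]
  congr 1
  refine Nat.eq_of_mul_eq_mul_right (Nat.card_pos (α := L)) ?_
  rw [Subgroup.index_mul_card, Nat.card_prod, mul_right_comm,
    Nat.div_mul_cancel (d.graphs L h0).card_dvd]

theorem Data.cls_ltr (d : Data F p c ψ) (s : S) : cls ψ (ltr c s) = ((ψ s)⁻¹) ^ famDeg c := by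
  rw [cls, Finset.prod_congr rfl (g := fun _ => (ψ s)⁻¹) fun y _ => ?_, Finset.prod_const,
    Finset.card_univ, ← Nat.card_eq_fintype_card, d.card_rOrb]
  show chi ψ ((s, (1 : S)) • y.out) * _ = _
  rw [d.chi_smul, map_one, one_mul, mul_right_comm, mul_inv_cancel, one_mul]

/-- Only fixed points contribute to an invariant product in exponent `p`. -/
theorem prod_fixedPoints [Fact p.Prime] {W Y : Type*} [Group W] [MulAction W Y] [Fintype Y]
    (hW : IsPGroup p W) (hA : ∀ a : A, a ^ p = 1) (f : Y → A)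
    (hf : ∀ (w : W) (y : Y), f (w • y) = f y) :
    ∏ y, f y = ∏ y ∈ Finset.univ.filter (fun y => y ∈ fixedPoints W Y), f y := by
  rw [← Finset.prod_filter_mul_prod_filter_not Finset.univ (fun y => y ∈ fixedPoints W Y) f]
  have key : ∏ y ∈ Finset.univ.filter (fun y => y ∉ fixedPoints W Y), f y = 1 := by
    haveI : Fintype (orbitRel.Quotient W Y) := Fintype.ofFinite _
    rw [← Finset.prod_fiberwise_of_maps_to (t := Finset.univ)
      (g := fun y => (Quotient.mk'' y : orbitRel.Quotient W Y)) fun y _ => Finset.mem_univ _]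
    refine Finset.prod_eq_one fun q _ => ?_
    by_cases hq : q.out ∈ fixedPoints W Y
    · refine Finset.prod_eq_one fun y hy => ?_
      simp only [Finset.mem_filter, Finset.mem_univ, true_and] at hy
      refine absurd ?_ hy.1
      obtain ⟨w, hw⟩ := Quotient.exact (hy.2.trans (Quotient.out_eq q).symm)
      change w • q.out = y at hw
      rw [← hw, hq w]
      exact hq
    · have hset : (Finset.univ.filter (fun y => y ∉ fixedPoints W Y)).filter
          (fun y => (Quotient.mk'' y : orbitRel.Quotient W Y) = q) = (orbit W q.out).toFinset := by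
        ext y
        simp only [Finset.mem_filter, Finset.mem_univ, true_and, Set.mem_toFinset]
        constructor
        · rintro ⟨-, h⟩
          exact Quotient.exact (h.trans (Quotient.out_eq q).symm)
        · rintro ⟨w, rfl⟩
          refine ⟨fun h => hq fun w' => ?_, ?_⟩
          · have h1 := h w⁻¹
            simp only [inv_smul_smul] at h1
            have h2 : w' • w • q.out = w • q.out := h w'
            rw [← h1] at h2
            exact h2
          · conv_rhs => rw [← Quotient.out_eq q]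
            exact Quotient.sound ⟨w, rfl⟩
      rw [hset, Finset.prod_congr rfl (g := fun _ => f q.out) fun y hy => by
        obtain ⟨w, rfl⟩ := Set.mem_toFinset.1 hy
        exact hf w _, Finset.prod_const, Set.toFinset_card]
      obtain ⟨k, hk⟩ := hW.card_orbit q.out
      rcases k with _ | k
      · refine absurd (fun w => ?_) hq
        have h1 : Fintype.card (orbit W q.out) = 1 := by
          rw [← Nat.card_eq_fintype_card, hk, pow_zero]
        exact congrArg Subtype.val (Fintype.card_le_one_iff.1 h1.le ⟨_, mem_orbit _ w⟩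
          ⟨_, mem_orbit_self _⟩)
      · rw [← Nat.card_eq_fintype_card, hk, pow_succ, pow_mul, hA]
  rw [key, mul_one]

/-- The conjugates of a function into `S`. -/
def conjClass {Q : Subgroup Ω} (h : Q → S) : Set (Q → S) :=
  {k | ∃ a : S, k = fun x => a * h x * a⁻¹}

theorem self_mem_conjClass {Q : Subgroup Ω} (h : Q → S) : h ∈ conjClass h := ⟨1, by simp⟩

theorem conjClass_conj {Q : Subgroup Ω} (h : Q → S) (v : S) :
    conjClass (fun x => v * h x * v⁻¹) = conjClass h := by
  ext k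
  constructor
  · rintro ⟨a, rfl⟩
    exact ⟨a * v, funext fun x => by group⟩
  · rintro ⟨a, rfl⟩
    exact ⟨a * v⁻¹, funext fun x => by group⟩

/-- The class of a permutation commuting with the left action of `Q` comes from the centralizers
of the images of `Q`. -/
theorem Data.cls_centralizing [Fact p.Prime] (d : Data F p c ψ) {Q : Subgroup Ω} (hQ : Q ≤ S)
    {g : Equiv.Perm (Pts c)} (hg : Realizes Q (fun x => x) g) (W : Subgroup A)
    (hW : ∀ f : Ω → Ω, IsMap F Q f → ∀ v : S, (v : Ω) ∈ centralizerIn S (fimg f Q) → ψ v ∈ W) :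
    cls ψ g ∈ W := by
  have hgE := hg.1
  let lQ : Q → S := fun x => ⟨x, hQ x.2⟩
  have hlr : ∀ (x : S) (t : S) (z : Pts c),
      (x, (1 : S)) • ((1 : S), t) • z = ((1 : S), t) • (x, (1 : S)) • z := fun x t z => by
    rw [← mul_smul, ← mul_smul]
    simp
  letI : MulAction Q (ROrb c) :=
    { smul := fun x => Quotient.map (fun z => (lQ x, (1 : S)) • z)
        fun z z' ⟨t, h⟩ => ⟨t, by rw [← hlr, h]⟩
      one_smul := fun y => by
        induction y using Quotient.inductionOn with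
        | _ z =>
          refine congrArg (Quotient.mk (rsetoid c)) ?_
          exact one_smul (S × S) z
      mul_smul := fun a b y => by
        induction y using Quotient.inductionOn with
        | _ z =>
          refine congrArg (Quotient.mk (rsetoid c)) ?_
          show ((lQ (a * b), (1 : S)) : S × S) • z = (lQ a, (1 : S)) • (lQ b, (1 : S)) • z
          rw [← mul_smul, Prod.mk_mul_mk, one_mul]
          rfl }
  have hsmk : ∀ (x : Q) (z : Pts c), x • (⟦z⟧ : ROrb c) = ⟦(lQ x, (1 : S)) • z⟧ := fun _ _ => rfl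
  have hinv : ∀ (x : Q) (y : ROrb c), incr ψ g (x • y).out = incr ψ g y.out := fun x y => by
    rw [d.incr_out hgE (z := (lQ x, (1 : S)) • y.out) (y := x • y)
      (by conv_rhs => rw [← Quotient.out_eq y, hsmk])]
    simp only [incr]
    rw [hg.2 (lQ x) (lQ x) x.2 rfl, d.chi_smul, d.chi_smul, mul_inv, mul_mul_mul_comm,
      mul_inv_cancel, mul_one]
  rw [cls, prod_fixedPoints (d.pgroup.to_le hQ) d.expo _ hinv]
  set Fix := Finset.univ.filter (fun y : ROrb c => y ∈ fixedPoints Q (ROrb c)) with hFixdef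
  have hex : ∀ y : ROrb c, ∃ h : Q → S, y ∈ Fix → ∀ x : Q, (lQ x, h x) • y.out = y.out := by
    intro y
    by_cases hy : y ∈ Fix
    · have h1 : ∀ x : Q, ∃ t : S, (lQ x, t) • y.out = y.out := by
        intro x
        have h2 := (Finset.mem_filter.1 hy).2 x
        rw [← Quotient.out_eq y, hsmk] at h2
        obtain ⟨t, ht⟩ := Quotient.exact h2
        refine ⟨t, ?_⟩
        rw [show ((lQ x, t) : S × S) = ((1 : S), t) * (lQ x, 1) by simp, mul_smul]
        exact ht
      choose h hh using h1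
      exact ⟨h, fun _ => hh⟩
    · exact ⟨fun _ => 1, fun h => absurd h hy⟩
  choose h hh using hex
  let pick : Set (Q → S) → (Q → S) := fun E => if hE : E.Nonempty then hE.choose else fun _ => 1
  have hpick : ∀ y, ∃ a : S, pick (conjClass (h y)) = fun x => a * h y x * a⁻¹ := fun y => by
    have hne : (conjClass (h y)).Nonempty := ⟨_, self_mem_conjClass _⟩
    simp only [pick, dif_pos hne]
    exact hne.choose_spec
  choose a ha using hpick
  let r : ROrb c → Pts c := fun y => ((1 : S), a y) • y.out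
  let k : ROrb c → Q → S := fun y => pick (conjClass (h y))
  have hmk : ∀ y, (⟦r y⟧ : ROrb c) = y := fun y => by
    conv_rhs => rw [← Quotient.out_eq y]
    exact Quotient.sound ((rsetoid c).symm ⟨a y, rfl⟩)
  have hrfix : ∀ y ∈ Fix, ∀ x : Q, (lQ x, k y x) • r y = r y := fun y hy x => by
    show (lQ x, k y x) • ((1 : S), a y) • y.out = ((1 : S), a y) • y.out
    conv_rhs => rw [← hh y hy x, ← mul_smul]
    rw [← mul_smul]
    congr 1
    simp [k, ha]
  have hFix : ∀ y, orbPerm hgE y ∈ Fix ↔ y ∈ Fix := by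
    intro y
    induction y using Quotient.inductionOn with
    | _ z =>
      simp only [hFixdef, Finset.mem_filter, Finset.mem_univ, true_and, mem_fixedPoints]
      refine forall_congr' fun x => ?_
      rw [orbPerm_mk, hsmk, hsmk, ← hg.2 (lQ x) (lQ x) x.2 rfl, ← orbPerm_mk hgE, ← orbPerm_mk hgE,
        (orbPerm hgE).apply_eq_iff_eq]
  have hv : ∀ y, ∃ v : S, g (r y) = ((1 : S), v) • r (orbPerm hgE y) := fun y => by
    obtain ⟨t, ht⟩ := Quotient.exact (show (⟦r (orbPerm hgE y)⟧ : ROrb c) = ⟦g (r y)⟧ by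
      rw [hmk, ← orbPerm_mk hgE, hmk])
    exact ⟨t, ht.symm⟩
  choose v hv using hv
  have e1 : ∏ y ∈ Fix, incr ψ g y.out =
      ∏ y ∈ Fix, ψ (v y) * (chi ψ (r (orbPerm hgE y)) * (chi ψ (r y))⁻¹) := by
    refine Finset.prod_congr rfl fun y _ => ?_
    rw [d.incr_out hgE (hmk y), incr, hv, d.chi_smul]
    simp only [map_one, inv_one, mul_one]
    rw [mul_comm (chi ψ _) (ψ (v y)), mul_assoc]
  rw [e1, Finset.prod_mul_distrib, Finset.prod_mul_distrib,
    Finset.prod_bij (s := Fix) (t := Fix) (fun y _ => orbPerm hgE y) (g := fun y => chi ψ (r y))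
      (fun y hy => (hFix y).2 hy) (fun _ _ _ _ e => (orbPerm hgE).injective e)
      (fun y hy => ⟨(orbPerm hgE).symm y, (hFix _).1 (by rwa [Equiv.apply_symm_apply]),
        Equiv.apply_symm_apply _ _⟩) (fun _ _ => rfl),
    Finset.prod_inv_distrib, mul_inv_cancel, mul_one]
  refine W.prod_mem fun y hy => ?_
  have hy' : orbPerm hgE y ∈ Fix := (hFix y).2 hy
  have hconj : ∀ x : Q, k y x = v y * k (orbPerm hgE y) x * (v y)⁻¹ := by
    intro x
    have h1 : (lQ x, k y x) • g (r y) = g (r y) := by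
      rw [show ((lQ x, k y x) : S × S) = ((1 : S), k y x) * (lQ x, 1) by simp, mul_smul,
        ← hg.2 (lQ x) (lQ x) x.2 rfl, ← hgE, ← mul_smul]
      congr 1
      simpa using hrfix y hy x
    have h2 : (lQ x, v y * k (orbPerm hgE y) x * (v y)⁻¹) • g (r y) = g (r y) := by
      rw [hv, ← mul_smul,
        show ((lQ x, v y * k (orbPerm hgE y) x * (v y)⁻¹) : S × S) * ((1 : S), v y) =
          ((1 : S), v y) * (lQ x, k (orbPerm hgE y) x) by simp, mul_smul, hrfix _ hy' x]
    exact congrArg Prod.snd ((d.stab_graph (g (r y))).ext_of_fst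
      (show (lQ x, k y x) ∈ stabilizer (S × S) (g (r y)) from h1)
      (show (lQ x, v y * k (orbPerm hgE y) x * (v y)⁻¹) ∈ stabilizer (S × S) (g (r y)) from h2) rfl)
  have hkk : k y = k (orbPerm hgE y) := by
    have hcl : ∀ y, conjClass (k y) = conjClass (h y) := fun y => by
      show conjClass (pick _) = _
      rw [ha, conjClass_conj]
    show pick _ = pick _
    rw [← hcl y, ← hcl (orbPerm hgE y), funext hconj, conjClass_conj]
  obtain ⟨P, f, hf, hP, he⟩ := d.stab_graph (r y)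
  have hQP : Q ≤ P := fun x hx =>
    hP (mem_srcOf (show (lQ ⟨x, hx⟩, k y ⟨x, hx⟩) ∈ _ from hrfix y hy _))
  refine hW f (hf.res hQP) (v y) (mem_centralizerIn.2 ⟨(v y).2, fun w hw => ?_⟩)
  obtain ⟨x, hx, rfl⟩ := (hf.res hQP).mem_fimg_iff.1 hw
  rw [show f x = (k y ⟨x, hx⟩ : Ω) from he _ (hrfix y hy ⟨x, hx⟩)]
  have h3 := hconj ⟨x, hx⟩
  rw [← hkk] at h3
  have h4 : k y ⟨x, hx⟩ * v y = v y * k y ⟨x, hx⟩ := eq_mul_inv_iff_mul_eq.1 h3
  exact congrArg Subtype.val h4

/-- Every map is realized. -/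
theorem Data.exists_realizes (d : Data F p c ψ) {P : Subgroup Ω} {f : Ω → Ω}
    (hf : IsMap F P f) : ∃ g, Realizes (c := c) P f g := by
  have hPS := hf.source_le
  obtain ⟨φ, hφ, hφe⟩ := hf.exists_hom
  let φ' : P →* S := φ.codRestrict S (F.le_of_mem hφ).2
  let j : P × S →* S × S := (Subgroup.inclusion hPS).prodMap (MonoidHom.id S)
  let j' : P × S →* S × S := φ'.prodMap (MonoidHom.id S)
  haveI : Finite P := finite_of_le hPS
  have hmarks : ∀ V : Subgroup (P × S), famMark c (V.map j) = famMark c (V.map j') := by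
    intro V
    have hsrc : srcOf (V.map j) ≤ P := by
      rintro _ ⟨_, ⟨w, hw, rfl⟩, rfl⟩
      exact w.1.2
    refine d.stable _ _ ⟨P, f, hf, 1, hsrc, le_antisymm ?_ ?_⟩
    · rintro _ ⟨⟨_, w, hw, rfl⟩, rfl⟩
      refine ⟨w, hw, Prod.ext (Subtype.ext ?_) (by simp [graphHom_snd, j, j'])⟩
      rw [graphHom_fst]
      exact hφe w.1
    · rintro _ ⟨w, hw, rfl⟩
      refine ⟨⟨j w, w, hw, rfl⟩, Prod.ext (Subtype.ext ?_) (by simp [graphHom_snd, j, j'])⟩
      rw [graphHom_fst]
      exact (hφe w.1).symm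
  obtain ⟨e, he⟩ := @exists_equiv_of_marks (P × S) (Pts c) (Pts c) _ _ (MulAction.compHom _ j)
    (MulAction.compHom _ j') _ _ (fun V => by
      refine Eq.trans ?_ ((hmarks V).trans ?_)
      · refine Nat.card_congr (Equiv.subtypeEquivRight fun z => ?_)
        exact (Subgroup.map_le_iff_le_comap (f := j) (K := V)
          (H := stabilizer (S × S) z)).symm
      · refine Nat.card_congr (Equiv.subtypeEquivRight fun z => ?_)
        exact Subgroup.map_le_iff_le_comap (f := j') (K := V) (H := stabilizer (S × S) z))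
  replace he : ∀ (w : P × S) (z : Pts c), e (j w • z) = j' w • e z := he
  refine ⟨e, fun t z => ?_, fun x y hx hy z => ?_⟩
  · have h := he (1, t) z
    rwa [show j (1, t) = (1, t) from Prod.ext (map_one (Subgroup.inclusion hPS)) rfl,
      show j' (1, t) = (1, t) from Prod.ext (map_one φ') rfl] at h
  · have h := he (⟨x, hx⟩, 1) z
    rwa [show j (⟨x, hx⟩, 1) = (x, 1) from rfl,
      show j' (⟨x, hx⟩, 1) = (y, 1) from
        Prod.ext (Subtype.ext ((hφe ⟨x, hx⟩).trans hy.symm)) rfl] at h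

end Cfsg.Agent.Fus.BisetClass
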