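import Mathlib
import Cfsg.Prelude.Def_FusionSystem
import Cfsg.Agent.Lib.Fus.BisetClass
import Cfsg.Agent.Lib.Fus.Hyperfocal
import Cfsg.Agent.Lib.Fus.Normal
import Cfsg.Agent.Lib.Fus.SatCriterionStab

/-!
Saturated subsystems of `p`-power index exist.
-/

set_option autoImplicit false
set_option linter.style.haveILetI false
set_option linter.unusedSectionVars false
set_option linter.unusedVariables false

open scoped Classical Pointwise

universe u v

namespace Cfsg.Agent.Fus.PPowerExist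

open Subgroup FusionSystem BisetClass

variable {Ω : Type u} [Group Ω] {S : Subgroup Ω} {F : FusionSystem S} {A : Type v} [CommGroup A]
  {p : ℕ} [Fintype (Subgroup (S × S))] {c : Subgroup (S × S) → ℕ} {ψ : S →* A} [Finite S]

/-- The kernel of the character. -/
def ker (ψ : S →* A) : Subgroup Ω := ψ.ker.map S.subtype

theorem ker_le (ψ : S →* A) : ker ψ ≤ S := Subgroup.map_subtype_le _

theorem mem_ker {x : Ω} (hx : x ∈ S) : x ∈ ker ψ ↔ ψ ⟨x, hx⟩ = 1 :=
  ⟨fun ⟨⟨y, hy⟩, h, e⟩ => by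
    obtain rfl : y = x := e
    exact h, fun h => ⟨⟨x, hx⟩, h, rfl⟩⟩

theorem apply_mem_ker (d : Data F p c ψ) {P : Subgroup Ω} {f : Ω → Ω} (hf : IsMap F P f) {x : Ω}
    (hx : x ∈ P) (hxT : x ∈ ker ψ) : f x ∈ ker ψ := by
  rw [mem_ker (hf.apply_mem hx), d.inv ⟨x, ker_le ψ hxT⟩ _ P f hf hx rfl]
  exact (mem_ker _).1 hxT

/-- The maps realized in class `1`. -/
noncomputable def clsSys (d : Data F p c ψ) : FusionSystem (ker ψ) where
  Hom P := {φ | φ ∈ F.Hom P ∧ P ≤ ker ψ ∧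
    ∃ g : Equiv.Perm (Pts c), Realizes P (toFun φ) g ∧ cls ψ g = 1}
  le_of_mem {P φ} h := ⟨h.2.1, fun x => by
    rw [← toFun_coe φ x]
    exact apply_mem_ker d (isMap_toFun h.1) x.2 (h.2.1 x.2)⟩
  injective_of_mem h := F.injective_of_mem h.1
  conj_mem {P s} hP hs := ⟨F.conj_mem (hP.trans (ker_le ψ)) (ker_le ψ hs), hP,
    ltr c ⟨s, ker_le ψ hs⟩, (realizes_ltr P ⟨s, ker_le ψ hs⟩).congr fun x hx => by
      rw [toFun_apply _ hx]; rfl,
    by rw [d.cls_ltr, (mem_ker _).1 hs, inv_one, one_pow]⟩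
  comp_mem {P Q φ χ} hφ hχ hmem := by
    obtain ⟨hφF, hP, g, hg, hg1⟩ := hφ
    obtain ⟨hχF, hQ, g', hg', hg'1⟩ := hχ
    refine ⟨F.comp_mem hφF hχF hmem, hP, g' * g, (hg.comp hg' (fun x hx => ?_) fun x hx => ?_).congr
      fun x hx => ?_, by rw [d.cls_mul hg'.1 hg.1, hg1, hg'1, one_mul]⟩
    · rw [toFun_apply φ hx]; exact hmem _
    · rw [toFun_apply φ hx]; exact (F.le_of_mem hφF).2 _
    · show toFun χ (toFun φ x) = toFun (χ.comp (φ.codRestrict Q hmem)) x
      rw [toFun_apply φ hx, toFun_apply χ (hmem ⟨x, hx⟩), toFun_apply _ hx]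
      rfl
  inv_mem {P φ} hφ := by
    obtain ⟨hφF, hP, g, hg, hg1⟩ := hφ
    obtain ⟨χ, hχ, hχe⟩ := F.inv_mem hφF
    have hr : φ.range = fimg (toFun φ) P :=
      (isMap_toFun hφF).range_eq_fimg fun x => (toFun_coe φ x).symm
    have h := hg.inv (isMap_toFun hφF) (f' := toFun χ) fun x hx => by
      rw [toFun_apply φ hx, toFun_apply χ ⟨⟨x, hx⟩, rfl⟩]
      exact hχe _
    rw [← hr] at h
    refine ⟨χ, ⟨hχ, ?_, g⁻¹, h, by rw [d.cls_inv hg.1, hg1, inv_one]⟩, hχe⟩
    rintro _ ⟨x, rfl⟩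
    rw [← toFun_coe φ x]
    exact apply_mem_ker d (isMap_toFun hφF) x.2 (hP x.2)

theorem isMap_clsSys (d : Data F p c ψ) {P : Subgroup Ω} {f : Ω → Ω} :
    IsMap (clsSys d) P f ↔ IsMap F P f ∧ P ≤ ker ψ ∧
      ∃ g : Equiv.Perm (Pts c), Realizes P f g ∧ cls ψ g = 1 := by
  constructor
  · rintro ⟨φ, hφ, hφf⟩
    have hφ' : φ ∈ F.Hom P ∧ P ≤ ker ψ ∧
        ∃ g : Equiv.Perm (Pts c), Realizes P (toFun φ) g ∧ cls ψ g = 1 := hφ
    obtain ⟨h1, h2, g, hg, hg1⟩ := hφ'
    exact ⟨⟨φ, h1, hφf⟩, h2, g, hg.congr fun x hx => (toFun_apply φ hx).trans (hφf ⟨x, hx⟩), hg1⟩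
  · rintro ⟨hf, h2, g, hg, hg1⟩
    obtain ⟨φ, hφ, hφf⟩ := hf.exists_hom
    have hφ' : φ ∈ F.Hom P ∧ P ≤ ker ψ ∧
        ∃ g : Equiv.Perm (Pts c), Realizes P (toFun φ) g ∧ cls ψ g = 1 :=
      ⟨hφ, h2, g, hg.congr fun x hx => ((toFun_apply φ hx).trans (hφf ⟨x, hx⟩)).symm, hg1⟩
    exact ⟨φ, hφ', hφf⟩

theorem clsSys_le (d : Data F p c ψ) : (clsSys d).IsSubsystemOf F := fun P φ h =>
  (show φ ∈ F.Hom P ∧ _ from h).1

variable [Fact p.Prime]

/-- In exponent `p` a power prime to `p` can be inverted. -/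
theorem exists_root (d : Data F p c ψ) : ∃ k : ℕ, ∀ a : A, (a ^ famDeg c) ^ k = a := by
  obtain ⟨k, hk⟩ := Nat.exists_mul_mod_eq_one_of_coprime
    (((Fact.out : p.Prime).coprime_iff_not_dvd.2 d.deg).symm) (Fact.out : p.Prime).one_lt
  refine ⟨k, fun a => ?_⟩
  rw [← pow_mul, ← Nat.div_add_mod (famDeg c * k) p, pow_add, pow_mul, d.expo, one_pow, one_mul,
    hk.2, pow_one]

/-- At a fully centralized position the class of a centralizing permutation is a value on the
centralizer. -/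
theorem cls_fixing (d : Data F p c ψ) (hF : F.IsSaturated p) {Q : Subgroup Ω}
    (hQ : F.IsFullyCentralized Q) {g : Equiv.Perm (Pts c)}
    (hg : Realizes Q (fun x => x) g) :
    ∃ w : S, (w : Ω) ∈ centralizerIn S Q ∧ ψ w = cls ψ g := by
  obtain ⟨w, hw, hwe⟩ := d.cls_centralizing hQ.1 hg
    (((centralizerIn S Q).subgroupOf S).map ψ) (fun f hf v hv => by
      obtain ⟨h, hh, hh1, hh2, hhQ⟩ := hf.exists_inv
      have hNS : fimg f Q ⊔ centralizerIn S (fimg f Q) ≤ normalizerIn S (fimg f Q) :=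
        sup_le (le_normalizerIn hf.fimg_le_S) (centralizerIn_le_normalizerIn _)
      obtain ⟨h', hh', hh'e⟩ := receptive_extend
        (receptive_of_fullyCentralized d.pgroup hF hQ) hh hhQ
        (N := fimg f Q ⊔ centralizerIn S (fimg f Q)) (fun z hz => by
          refine ⟨hNS hz, ?_⟩
          obtain ⟨q, hq, w, hw, rfl⟩ : z ∈ (fimg f Q : Set Ω) *
              (centralizerIn S (fimg f Q) : Set Ω) := by
            rw [← Subgroup.coe_mul_of_right_le_normalizer_left _ _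
              ((centralizerIn_le_normalizerIn (S := S) (fimg f Q)).trans inf_le_right)]
            exact hz
          refine ⟨h q, hh.apply_mem hq, fun x hx => ?_⟩
          rw [show q * w * x * (q * w)⁻¹ = q * (w * x * w⁻¹) * q⁻¹ by group,
            show w * x * w⁻¹ = x by rw [← (mem_centralizerIn.1 hw).2 x hx, mul_inv_cancel_right],
            hh.map_conj hq hx]) le_sup_left
      have hvD : (v : Ω) ∈ fimg f Q ⊔ centralizerIn S (fimg f Q) := Subgroup.mem_sup_right hv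
      refine ⟨⟨h' v, hh'.apply_mem hvD⟩, ?_, d.inv _ _ _ h' hh' hvD rfl⟩
      have h1 := hh'.map_centralizerIn le_sup_left hvD hv.2
      rw [fimg_congr hh'e, hhQ] at h1
      exact h1)
  exact ⟨w, hw, hwe⟩

variable (hsurj : Function.Surjective ψ)

include hsurj in
/-- Every subgroup of the kernel is conjugate in the subsystem to one fully normalized in `F`. -/
theorem exists_fullyNormalized_position (d : Data F p c ψ) (hF : F.IsSaturated p) {P : Subgroup Ω}
    (hP : P ≤ ker ψ) :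
    ∃ f, IsMap (clsSys d) P f ∧ F.IsFullyNormalized (fimg f P) := by
  obtain ⟨Q₀, hQ₀, hQ₀n⟩ := exists_fullyNormalized F (hP.trans (ker_le ψ))
  obtain ⟨f, hf, rfl⟩ := isConj_iff.1 hQ₀
  obtain ⟨g, hg⟩ := d.exists_realizes hf
  obtain ⟨k, hk⟩ := exists_root d
  obtain ⟨s, hs⟩ := hsurj (cls ψ g ^ k)
  have hcm : IsMap F S (fun x => (s : Ω) * x * (s : Ω)⁻¹) := isMap_conj F le_rfl s.2
  have hf' := hf.comp hcm fun x hx => hf.apply_mem hx
  refine ⟨_, (isMap_clsSys d).2 ⟨hf', hP, _, hg.comp (realizes_ltr (fimg f P) s)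
    (fun x hx => apply_mem_fimg f hx) (fun x hx => hf.apply_mem hx), ?_⟩, hf'.fimg_le_S, fun R hR => ?_⟩
  · rw [d.cls_mul (realizes_ltr (fimg f P) s).1 hg.1, d.cls_ltr, inv_pow, hs, ← pow_mul, mul_comm k,
      pow_mul, hk, inv_mul_cancel]
  have e : fimg (fun x => (s : Ω) * x * (s : Ω)⁻¹) (fimg f P) =
      fimg (fun x => (s : Ω) * f x * (s : Ω)⁻¹) P :=
    (hf.fimg_comp (fun x => (s : Ω) * x * (s : Ω)⁻¹)).symm
  refine (hQ₀n.2 R (isConj_trans (isConj_trans (isConj_symm hf.isConj) hf'.isConj) hR)).trans ?_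
  have h1 : fimg (fun x => (s : Ω) * x * (s : Ω)⁻¹) (normalizerIn S (fimg f P)) ≤
      normalizerIn S (fimg (fun x => (s : Ω) * f x * (s : Ω)⁻¹) P) :=
    e ▸ fimg_le fun x hx => hcm.map_normalizerIn hf.fimg_le_S hx.1 hx.2
  haveI : Finite ↥(normalizerIn S (fimg (fun x => (s : Ω) * f x * (s : Ω)⁻¹) P)) :=
    finite_of_le (S := S) inf_le_left
  have h2 := Subgroup.card_le_of_le h1
  exact (hcm.res (inf_le_left : normalizerIn S (fimg f P) ≤ S)).card_fimg.ge.trans h2

include hsurj in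
theorem clsSys_saturated (d : Data F p c ψ) (hF : F.IsSaturated p) :
    (clsSys d).IsSaturated p := by
  intro P hP
  obtain ⟨f, hf, hQn⟩ := exists_fullyNormalized_position hsurj d hF hP
  obtain ⟨k, hk⟩ := exists_root d
  set Q := fimg f P
  have hQT : Q ≤ ker ψ := hf.fimg_le_S
  have hQS := hQn.1
  haveI : Finite ↥Q := finite_of_le hQS
  have hQc := fullyCentralized_of_fullyNormalized d.pgroup hF hQn
  refine ⟨Q, hf.isConj, ⟨hQT, ?_⟩, receptive_of hQT fun R v hv hvQ N hRN hN => ?_⟩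
  · obtain ⟨-, W₀, hW₀⟩ := fullyAutomized_of_fullyNormalized d.pgroup hF hQn
    set B := (clsSys d).autGroup Q
    have hBF : B ≤ F.autGroup Q := autGroup_mono (clsSys_le d) Q
    obtain ⟨W, hW⟩ := ((isPGroup_autInducedBy (d.pgroup.to_le (ker_le ψ)) Q).comap_subtype
      (K := B)).exists_le_sylow
    refine ⟨W, (Subgroup.eq_of_le_of_card_ge hW ?_).symm⟩
    haveI : Finite (F.autGroup Q) := inferInstance
    obtain ⟨a, ha, hac⟩ := SatCrit.exists_conj_sylow W₀ (W.2.map B.subtype)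
      ((Subgroup.map_subtype_le _).trans hBF)
    have key : ∀ u ∈ (W : Subgroup B), a * (u : MulAut Q) * a⁻¹ ∈ autInducedBy (ker ψ) Q := by
      intro u hu
      obtain ⟨r, hr, hre⟩ := hac _ ⟨u, hu, rfl⟩
      rw [hW₀] at hr
      obtain ⟨s, hs, hse⟩ := mem_autInducedBy.1
        (show (r : MulAut Q) ∈ autInducedBy S Q from hr)
      have hre' : (r : MulAut Q) = a * (u : MulAut Q) * a⁻¹ := hre
      -- the class of the conjugate
      obtain ⟨-, -, g, hg, hg1⟩ := (isMap_clsSys d).1 ((mem_autGroup hQT).1 u.2)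
      obtain ⟨ga, hga⟩ := d.exists_realizes ((mem_autGroup hQS).1 ha)
      have hinv : Realizes Q (autFun a⁻¹) ga⁻¹ := by
        have h := hga.inv ((mem_autGroup hQS).1 ha) (f' := autFun a⁻¹)
          fun x hx => autFun_inv_apply a hx
        rwa [fimg_autFun] at h
      have h1 := (hinv.comp hg (fun x hx => autFun_mem _ hx)
        (fun x hx => hQS (autFun_mem _ hx))).comp hga
        (fun x hx => autFun_mem _ (autFun_mem _ hx))
        (fun x hx => hQS (autFun_mem _ (autFun_mem _ hx)))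
      let s' : S := ⟨s, hs⟩
      have hsQ : s ∈ Subgroup.normalizer (Q : Set Ω) := mem_normalizer_of_conj_aut hse
      have h1' : Realizes Q (fun x => s * x * s⁻¹) (ga * (g * ga⁻¹)) :=
        h1.congr fun x hx => by
          show autFun a (autFun (u : MulAut Q) (autFun a⁻¹ x)) = _
          rw [← autFun_mul _ _ (autFun_mem _ hx), ← autFun_mul _ _ hx, ← hre',
            show autFun (r : MulAut Q) x = (((r : MulAut Q) ⟨x, hx⟩ : Q) : Ω) from
              autFun_coe (r : MulAut Q) ⟨x, hx⟩, hse]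
      have h2 : Realizes Q (fun x => x) ((ltr c s')⁻¹ * (ga * (g * ga⁻¹))) := by
        have hsi := (realizes_ltr (c := c) Q s').inv (isMap_conj F hQS hs)
          (f' := fun x => s⁻¹ * x * s) fun x hx => by
            show s⁻¹ * (s * x * s⁻¹) * s = x
            group
        refine (h1'.comp hsi (fun x hx => apply_mem_fimg (fun x => s * x * s⁻¹) hx)
          fun x hx => S.mul_mem (S.mul_mem hs (hQS hx)) (S.inv_mem hs)).congr fun x hx => ?_
        show s⁻¹ * (s * x * s⁻¹) * s = x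
        group
      obtain ⟨w, hw, hwe⟩ := cls_fixing d hF hQc h2
      rw [d.cls_mul (realizes_ltr Q s').1.inv (hga.1.mul (hg.1.mul hga.1.inv)),
        d.cls_mul hga.1 (hg.1.mul hga.1.inv), d.cls_mul hg.1 hga.1.inv, hg1, one_mul,
        d.cls_inv hga.1, mul_inv_cancel, mul_one, d.cls_inv (realizes_ltr Q s').1, d.cls_ltr,
        inv_pow, inv_inv] at hwe
      -- an element of the kernel inducing it
      have hψ : ψ (w ^ k) = ψ s' := by rw [map_pow, hwe, hk]
      have hwk : ((w ^ k : S) : Ω) ∈ centralizerIn S Q := by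
        rw [Subgroup.coe_pow]
        exact Subgroup.pow_mem _ hw k
      rw [← hre']
      refine mem_autInducedBy.2 ⟨((s' * (w ^ k)⁻¹ : S) : Ω),
        (mem_ker (s' * (w ^ k)⁻¹).2).2 (by rw [map_mul, map_inv, hψ, mul_inv_cancel]),
        fun x => ?_⟩
      rw [hse x]
      show s * x * s⁻¹ = s * ((w ^ k : S) : Ω)⁻¹ * x * (s * ((w ^ k : S) : Ω)⁻¹)⁻¹
      have h4 := (mem_centralizerIn.1 hwk).2 x x.2
      calc s * x * s⁻¹ = s * ((w ^ k : S) : Ω)⁻¹ * (((w ^ k : S) : Ω) * x) * s⁻¹ := by group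
        _ = s * ((w ^ k : S) : Ω)⁻¹ * (x * ((w ^ k : S) : Ω)) * s⁻¹ := by rw [h4]
        _ = _ := by group
    haveI : Finite ↥(autInducedBy (ker ψ) Q) := inferInstance
    have hle : autInducedBy (ker ψ) Q ≤ B := autInducedBy_le_autGroup (clsSys d) hQT
    calc Nat.card (W : Subgroup B)
        = Nat.card (((W : Subgroup B).map B.subtype).map (MulAut.conj a).toMonoidHom) := by
          rw [← Nat.card_congr (((W : Subgroup B).map B.subtype).equivMapOfInjective _
              (MulAut.conj a).injective).toEquiv,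
            ← Nat.card_congr ((W : Subgroup B).equivMapOfInjective _ B.subtype_injective).toEquiv]
      _ ≤ Nat.card ↥(autInducedBy (ker ψ) Q) := Subgroup.card_le_of_le (by
          rintro _ ⟨_, ⟨u, hu, rfl⟩, rfl⟩
          exact key u hu)
      _ = Nat.card ((autInducedBy (ker ψ) Q).subgroupOf B) :=
          (Nat.card_congr (Subgroup.subgroupOfEquivOfLe hle).toEquiv).symm
  · obtain ⟨hvF, hR, g, hg, hg1⟩ := (isMap_clsSys d).1 hv
    have hNT : N ≤ ker ψ := fun z hz => ((hN z).1 hz).1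
    obtain ⟨v', hv', hv'e⟩ := receptive_extend (receptive_of_fullyNormalized d.pgroup hF hQn)
      hvF hvQ (N := N) (fun z hz => by
        obtain ⟨h1, h2, h, hh, hhe⟩ := (hN z).1 hz
        exact ⟨⟨ker_le ψ h1, h2⟩, h, ker_le ψ hh, hhe⟩) hRN
    obtain ⟨g', hg'⟩ := d.exists_realizes hv'
    obtain ⟨i, hi, hi1, hi2, -⟩ := hvF.exists_inv
    have hginv := hg.inv hvF (f' := i) hi1
    rw [hvQ] at hginv hi2
    have hid : Realizes Q (fun x => x) (g' * g⁻¹) :=
      (hginv.comp (hg'.res hRN) (fun x hx => (hi2 x hx).1)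
        (fun x hx => hR.trans (ker_le ψ) (hi2 x hx).1)).congr fun x hx => by
        show v' (i x) = x
        rw [hv'e _ (hi2 x hx).1, (hi2 x hx).2]
    obtain ⟨w, hw, hwe⟩ := cls_fixing d hF hQc hid
    rw [d.cls_mul hg'.1 hg.1.inv, d.cls_inv hg.1, hg1, inv_one, mul_one] at hwe
    have hcm := isMap_conj F (le_refl S) (w ^ k : S).2
    refine ⟨_, (isMap_clsSys d).2 ⟨hv'.comp hcm fun x hx => hv'.apply_mem hx, hNT, _,
      hg'.comp (realizes_ltr S (w ^ k)) (fun x hx => hv'.apply_mem hx)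
        (fun x hx => hv'.apply_mem hx), ?_⟩, fun x hx => ?_⟩
    · rw [d.cls_mul (realizes_ltr S (w ^ k)).1 hg'.1, d.cls_ltr, map_pow, inv_pow, ← pow_mul,
        mul_comm k, pow_mul, hk, hwe, inv_mul_cancel]
    · show ((w ^ k : S) : Ω) * v' x * ((w ^ k : S) : Ω)⁻¹ = v x
      have hwk : ((w ^ k : S) : Ω) ∈ centralizerIn S Q := by
        rw [Subgroup.coe_pow]
        exact Subgroup.pow_mem _ hw k
      rw [hv'e x hx, ← (mem_centralizerIn.1 hwk).2 _ (hvQ ▸ apply_mem_fimg v hx),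
        mul_inv_cancel_right]

theorem clsSys_hasPPowerIndexIn (d : Data F p c ψ) : (clsSys d).HasPPowerIndexIn F p := by
  refine ⟨clsSys_le d, hyperfocal_le_iff.2 ?_, fun P hP => ?_⟩
  · intro P hP α hα x hx
    have hαm : IsMap F P (autFun (α : MulAut P)) := (mem_autGroup hP).1 α.2
    have hy : autFun (α : MulAut P) x ∈ S := hP (autFun_mem _ hx)
    rw [mem_ker (S.mul_mem (S.inv_mem (hP hx)) hy),
      show (⟨x⁻¹ * autFun (α : MulAut P) x, S.mul_mem (S.inv_mem (hP hx)) hy⟩ : S) =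
        (⟨x, hP hx⟩ : S)⁻¹ * ⟨_, hy⟩ from rfl, map_mul, map_inv,
      d.inv ⟨x, hP hx⟩ ⟨_, hy⟩ P _ hαm hx rfl, inv_mul_cancel]
  · rw [Subgroup.map_le_iff_le_comap, pResidual, Subgroup.closure_le]
    intro a (ha : Nat.Coprime (orderOf a) p)
    obtain ⟨u, hu⟩ := exists_pow_eq_self_of_coprime ha.symm
    have hPS : P ≤ S := hP.trans (ker_le ψ)
    have ham : IsMap F P (autFun (a : MulAut P)) := (mem_autGroup hPS).1 a.2
    obtain ⟨g, hg⟩ := d.exists_realizes ham
    have hpow : ∀ i : ℕ, Realizes P (autFun ((a : MulAut P) ^ i)) (g ^ i) ∧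
        cls ψ (g ^ i) = cls ψ g ^ i := by
      intro i
      induction i with
      | zero =>
        exact ⟨(realizes_one P).congr fun x hx => (autFun_one hx).symm, by
          rw [pow_zero, pow_zero, cls_one]⟩
      | succ i ih =>
        rw [pow_succ' g, pow_succ' (a : MulAut P), pow_succ' (cls ψ g)]
        exact ⟨(ih.1.comp hg (fun x hx => autFun_mem _ hx) fun x hx => hPS (autFun_mem _ hx)).congr
          fun x hx => (autFun_mul _ _ hx).symm, by rw [d.cls_mul hg.1 ih.1.1, ih.2]⟩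
    obtain ⟨h1, h2⟩ := hpow (p * u)
    have hau : (a : MulAut P) ^ (p * u) = a := by
      rw [pow_mul, ← SubmonoidClass.coe_pow, ← SubmonoidClass.coe_pow]
      exact congrArg Subtype.val hu
    rw [hau] at h1
    exact (mem_autGroup hP).2 ((isMap_clsSys d).2 ⟨ham, hP, _, h1,
      by rw [h2, pow_mul, d.expo, one_pow]⟩)

end Cfsg.Agent.Fus.PPowerExist
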