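import Mathlib
import Cfsg.Agent.Lib.Fus.PPowerExist
import Cfsg.Agent.Lib.Fus.PPowerUnique
import Cfsg.Agent.Lib.Grp.Frattini

/-!
A saturated subsystem of `p`-power index exists over every subgroup containing the hyperfocal
subgroup.
-/

set_option autoImplicit false
set_option linter.style.haveILetI false
set_option linter.unusedSectionVars false

open scoped Classical commutatorElement

universe u

namespace Cfsg.Agent.Fus.PPowerExist

open Subgroup FusionSystem BisetClass

variable {Ω : Type u} [Group Ω] {S : Subgroup Ω} {F : FusionSystem S} {p : ℕ} [Fact p.Prime]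

/-- One step of index `p`. -/
theorem exists_step [Finite S] (hS : IsPGroup p S) (hF : F.IsSaturated p) {M : Subgroup Ω}
    (hMS : M ≤ S) [(M.subgroupOf S).Normal] (hidx : (M.subgroupOf S).index = p)
    (hM : F.hyperfocalSubgroup p ≤ M) :
    ∃ E : FusionSystem M, E.IsSaturated p ∧ E.HasPPowerIndexIn F p := by
  haveI := Fintype.ofFinite (Subgroup (S × S))
  obtain ⟨c, hgr, hdeg, hst⟩ := exists_stable_family hS hF
  have hp := (Fact.out : p.Prime)
  have hcard : Nat.card (S ⧸ M.subgroupOf S) = p := by rw [← Subgroup.index_eq_card, hidx]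
  have hcard' : Nat.card (Multiplicative (ZMod p)) = p := by
    rw [Nat.card_congr Multiplicative.toAdd, Nat.card_zmod]
  let e : S ⧸ M.subgroupOf S ≃* Multiplicative (ZMod p) := mulEquivOfPrimeCardEq hcard hcard'
  let ψ : S →* Multiplicative (ZMod p) := e.toMonoidHom.comp (QuotientGroup.mk' _)
  have hker : ψ.ker = M.subgroupOf S := by
    ext x
    rw [MonoidHom.mem_ker, ← QuotientGroup.eq_one_iff]
    exact e.map_eq_one_iff
  have hfoc : F.focalSubgroup ≤ M := by
    rw [focal_eq_hyperfocal_sup hS hF]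
    refine sup_le hM (Subgroup.commutator_le.2 fun a ha b hb => ?_)
    have h1 : ⁅(⟨a, ha⟩ : S), (⟨b, hb⟩ : S)⁆ ∈ M.subgroupOf S := by
      rw [← hker, MonoidHom.mem_ker, map_commutatorElement]
      exact commutatorElement_eq_one_iff_mul_comm.2 (mul_comm _ _)
    exact h1
  have hker' : ker ψ = M := by
    rw [ker, hker, Subgroup.subgroupOf_map_subtype, inf_eq_left.2 hMS]
  have d : Data F p c ψ := ⟨hS, hgr, hdeg, hst, fun x y P f hf hx hy => by
    have h1 : x⁻¹ * y ∈ ψ.ker := by
      rw [hker, Subgroup.mem_subgroupOf]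
      show (x : Ω)⁻¹ * (y : Ω) ∈ M
      rw [hy]
      exact hfoc (hf.focal_mem hx)
    rw [MonoidHom.mem_ker, map_mul, map_inv, inv_mul_eq_one] at h1
    exact h1.symm, fun a => by
      have := pow_card_eq_one' (x := a)
      rwa [hcard'] at this⟩
  have h1 := clsSys_saturated (e.surjective.comp (QuotientGroup.mk'_surjective _)) d hF
  have h2 := clsSys_hasPPowerIndexIn (ψ := ψ) d
  revert h1 h2
  generalize clsSys d = E
  revert E
  rw [hker']
  exact fun E h1 h2 => ⟨E, h1, h2⟩

/-- The saturated subsystem of `p`-power index over `T`. -/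
theorem exists_pPowerIndex [Finite S] (hS : IsPGroup p S) (hF : F.IsSaturated p) {T : Subgroup Ω}
    (hTS : T ≤ S) (hT : F.hyperfocalSubgroup p ≤ T) :
    ∃ E : FusionSystem T, E.IsSaturated p ∧ E.HasPPowerIndexIn F p := by
  induction hn : Nat.card S using Nat.strong_induction_on generalizing S with
  | _ n ih =>
    rcases hTS.eq_or_lt with rfl | hlt
    · refine ⟨F, hF, fun P => le_rfl, hT, fun P _ => Subgroup.map_subtype_le _⟩
    obtain ⟨M', hM', hTM⟩ := (eq_top_or_exists_le_coatom (T.subgroupOf S)).resolve_left fun h =>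
      hlt.not_ge (Subgroup.subgroupOf_eq_top.1 h)
    haveI : Group.IsNilpotent S := hS.isNilpotent
    haveI : M'.Normal := (Group.normalizerCondition_of_isNilpotent (G := S)).normal_of_coatom M' hM'
    have hidx : M'.index = p := (Grp.coatom_index_eq_of_pGroup hS hM').2
    set M := M'.map S.subtype with hMdef
    have hMS : M ≤ S := Subgroup.map_subtype_le _
    have hsub : M.subgroupOf S = M' := Subgroup.comap_map_eq_self_of_injective
      S.subtype_injective M'
    haveI : (M.subgroupOf S).Normal := by rw [hsub]; infer_instance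
    have hTM' : T ≤ M := fun x hx => ⟨⟨x, hTS hx⟩, hTM hx, rfl⟩
    obtain ⟨E₁, hE₁, hE₁i⟩ := exists_step hS hF hMS (by rw [hsub, hidx]) (hT.trans hTM')
    haveI : Finite M := finite_of_le hMS
    have hlt' : Nat.card M < n := by
      rw [← hn]
      refine card_lt_of_lt (lt_of_le_of_ne hMS fun h => hM'.1 ?_)
      rw [← hsub, h, Subgroup.subgroupOf_self]
    have hmono : E₁.hyperfocalSubgroup p ≤ F.hyperfocalSubgroup p := by
      refine hyperfocal_le_iff.2 fun P hP α hα x hx => ?_
      exact hyperfocal_mem (α := Subgroup.inclusion (autGroup_mono hE₁i.1 P) α) (hP.trans hMS)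
        (Transfer.pResidual_map_le (Subgroup.inclusion (autGroup_mono hE₁i.1 P)) ⟨α, hα, rfl⟩) hx
    obtain ⟨E, hE, hEi⟩ := ih _ hlt' (hS.to_le hMS) hE₁ hTM' (hmono.trans hT) rfl
    refine ⟨E, hE, fun P => (hEi.1 P).trans (hE₁i.1 P), hT, fun P hP => ?_⟩
    rw [Subgroup.map_le_iff_le_comap, pResidual, Subgroup.closure_le]
    intro a (ha : Nat.Coprime (orderOf a) p)
    have h1 : (a : MulAut P) ∈ E₁.autGroup P :=
      hE₁i.2.2 P (hP.trans hTM') ⟨a, subset_closure ha, rfl⟩
    refine hEi.2.2 P hP ⟨⟨a, h1⟩, subset_closure ?_, rfl⟩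
    show Nat.Coprime (orderOf (⟨(a : MulAut P), h1⟩ : E₁.autGroup P)) p
    rw [← Subgroup.orderOf_coe] at ha ⊢
    exact ha

end Cfsg.Agent.Fus.PPowerExist
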