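import Mathlib
import Cfsg.Prelude.Def_FusionSystem
import Cfsg.Agent.Lib.Fus.Invariant
import Cfsg.Agent.Lib.Fus.Normal

/-!
Subsystems over the same group through which every map decomposes after an automorphism of `S`.
-/

set_option autoImplicit false
set_option linter.style.haveILetI false
set_option linter.unusedSectionVars false

open scoped Classical Pointwise

universe u

namespace Cfsg.Agent.Fus.Decomp

open Subgroup FusionSystem

variable {Ω : Type u} [Group Ω] {S : Subgroup Ω} {F E : FusionSystem S} {p : ℕ}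

/-- Every map of `F` is an automorphism of `S` after a map of `E`. -/
def HasDecomp (F E : FusionSystem S) : Prop :=
  ∀ {P : Subgroup Ω} {f : Ω → Ω}, IsMap F P f →
    ∃ b ∈ F.autGroup S, ∃ e, IsMap E P e ∧ ∀ x ∈ P, f x = autFun b (e x)

variable [Finite S] [Fact p.Prime]

/-- A subsystem with the `p`-power order automorphisms of the centric subgroups has index prime
to `p`. -/
theorem hasPrimeToPIndexIn_of_decomp (hS : IsPGroup p S) (hF : F.IsSaturated p) (hEF : E.IsSubsystemOf F)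
    (hdec : HasDecomp F E) : E.HasPrimeToPIndexIn F p := by
  refine ⟨hEF, fun P hPS => ?_⟩
  rw [Subgroup.map_le_iff_le_comap, Subgroup.closure_le]
  rintro a ⟨k, hk⟩
  obtain ⟨Q, hQ, hQn⟩ := exists_fullyNormalized F hPS
  haveI := finite_of_le hQn.1
  obtain ⟨f, hf, hfQ⟩ := isConj_iff.1 hQ
  obtain ⟨ee, hee, heeA⟩ := exists_mulEquiv hf hfQ
  obtain ⟨-, R, hR⟩ := fullyAutomized_of_fullyNormalized hS hF hQn
  set a' : F.autGroup Q := ⟨MulAut.congr ee (a : MulAut P), (heeA _).1 a.2⟩ with ha'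
  have hp' : IsPGroup p (Subgroup.zpowers a') := IsPGroup.of_card (n := k) (by
    rw [Nat.card_zpowers, ← Subgroup.orderOf_coe]
    show orderOf ((MulAut.congr ee).toMonoidHom (a : MulAut P)) = p ^ k
    rw [orderOf_injective (MulAut.congr ee).toMonoidHom (MulAut.congr ee).injective,
      Subgroup.orderOf_coe, hk])
  obtain ⟨T, hT⟩ := hp'.exists_le_sylow
  obtain ⟨γ, hγ⟩ := MulAction.exists_smul_eq (F.autGroup Q) T R
  have hc : γ * a' * γ⁻¹ ∈ (R : Subgroup (F.autGroup Q)) := by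
    rw [← hγ, Sylow.coe_subgroup_smul]
    exact Subgroup.smul_mem_pointwise_smul a' (MulAut.conj γ) _ (hT (mem_zpowers a'))
  rw [hR] at hc
  obtain ⟨s, hs, hse⟩ := mem_autInducedBy.1 hc
  have hfm : ∀ x ∈ P, f x ∈ Q := fun x hx => hfQ ▸ apply_mem_fimg f hx
  have hh : IsMap F P (fun x => autFun (γ : MulAut Q) (f x)) :=
    hf.comp ((mem_autGroup hQn.1).1 γ.2) hfm
  obtain ⟨b, hb, e, he, hbe⟩ := hdec hh
  have hkey : ∀ x : P, e ((a : MulAut P) x : P) =
      autFun b⁻¹ s * e x * (autFun b⁻¹ s)⁻¹ := by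
    intro x
    have h1 : autFun (γ : MulAut Q) (f ((a : MulAut P) x : P)) =
        s * autFun (γ : MulAut Q) (f x) * s⁻¹ := by
      rw [← hee, ← hee, autFun_coe, autFun_coe, ← hse]
      simp [ha', MulAut.congr]
    rw [hbe _ ((a : MulAut P) x).2, hbe _ x.2] at h1
    have h2 := congrArg (autFun b⁻¹) h1
    have hbm : IsMap F S (autFun b⁻¹) := (mem_autGroup le_rfl).1 (inv_mem hb)
    rw [autFun_inv_apply b ((he.mono hEF).apply_mem ((a : MulAut P) x).2),
      hbm.map_conj hs (autFun_mem b ((he.mono hEF).apply_mem x.2)),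
      autFun_inv_apply b ((he.mono hEF).apply_mem x.2)] at h2
    exact h2
  have heE := he
  obtain ⟨e', he', he1, -, -⟩ := heE.exists_inv
  refine (mem_autGroup hPS).2 ?_
  refine ((heE.comp (isMap_conj E heE.fimg_le_S (autFun_mem b⁻¹ hs))
    (fun x hx => apply_mem_fimg e hx)).comp he' fun x hx => ?_).congr fun x hx => ?_
  · rw [← hkey ⟨x, hx⟩]
    exact apply_mem_fimg e ((a : MulAut P) ⟨x, hx⟩).2
  · show e' (autFun b⁻¹ s * e x * (autFun b⁻¹ s)⁻¹) = autFun (a : MulAut P) x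
    rw [← hkey ⟨x, hx⟩, he1 _ ((a : MulAut P) ⟨x, hx⟩).2,
      show autFun (a : MulAut P) x = (((a : MulAut P) ⟨x, hx⟩ : P) : Ω) from
        autFun_coe _ ⟨x, hx⟩]

/-- Such a subsystem has the same centric subgroups. -/
theorem centric_iff_of_decomp (hEF : E.IsSubsystemOf F)
    (hdec : HasDecomp F E) {P : Subgroup Ω} :
    E.IsCentric P ↔ F.IsCentric P := by
  refine ⟨fun hP => ⟨hP.1, fun Q hQ => ?_⟩, centric_of_subsystem hEF⟩
  obtain ⟨f, hf, rfl⟩ := isConj_iff.1 hQ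
  obtain ⟨b, hb, e, he, hbe⟩ := hdec hf
  have hbm : IsMap F S (autFun b) := (mem_autGroup le_rfl).1 hb
  have hbm' : IsMap F S (autFun b⁻¹) := (mem_autGroup le_rfl).1 (inv_mem hb)
  intro c hc
  obtain ⟨hcS, hcc⟩ := mem_centralizerIn.1 hc
  have h1 : autFun b⁻¹ c ∈ fimg e P := by
    refine hP.2 _ he.isConj (mem_centralizerIn.2 ⟨autFun_mem b⁻¹ hcS, fun y hy => ?_⟩)
    obtain ⟨x, hx, rfl⟩ := (he.mono hEF).mem_fimg_iff.1 hy
    have hex := (he.mono hEF).apply_mem hx
    have h2 := congrArg (autFun b⁻¹) (hcc _ (apply_mem_fimg f hx))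
    have hfx : f x ∈ S := hf.apply_mem hx
    rw [hbm'.map_mul hfx hcS, hbm'.map_mul hcS hfx, hbe x hx, autFun_inv_apply b hex] at h2
    exact h2
  obtain ⟨x, hx, hxe⟩ := (he.mono hEF).mem_fimg_iff.1 h1
  have : c = f x := by
    rw [hbe x hx, hxe, ← autFun_mul b b⁻¹ hcS, mul_inv_cancel, autFun_one hcS]
  rw [this]
  exact apply_mem_fimg f hx

/-- Every subgroup is conjugate in the subsystem to a subgroup fully normalized in `F`. -/
theorem exists_fullyNormalized_of_decomp (hEF : E.IsSubsystemOf F) (hdec : HasDecomp F E)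
    {P : Subgroup Ω} (hP : P ≤ S) :
    ∃ e, IsMap E P e ∧ F.IsFullyNormalized (fimg e P) := by
  obtain ⟨Q₀, hQ₀, hQ₀n⟩ := exists_fullyNormalized F hP
  obtain ⟨f, hf, rfl⟩ := isConj_iff.1 hQ₀
  obtain ⟨b, hb, e, he, hfe⟩ := hdec hf
  have heF := he.mono hEF
  refine ⟨e, he, heF.fimg_le_S, fun R hR => ?_⟩
  have hbm : IsMap F S (autFun b⁻¹) := (mem_autGroup le_rfl).1 (inv_mem hb)
  have h0 : fimg (autFun b⁻¹) (fimg f P) = fimg e P := by
    rw [← hf.fimg_comp]
    exact fimg_congr fun x hx => by rw [hfe x hx, autFun_inv_apply b (heF.apply_mem hx)]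
  refine (hQ₀n.2 R (isConj_trans (isConj_trans (isConj_symm hf.isConj) heF.isConj) hR)).trans ?_
  have h1 : fimg (autFun b⁻¹) (normalizerIn S (fimg f P)) ≤ normalizerIn S (fimg e P) :=
    h0 ▸ fimg_le fun x hx => hbm.map_normalizerIn hf.fimg_le_S hx.1 hx.2
  haveI : Finite ↥(normalizerIn S (fimg e P)) := finite_of_le (S := S) inf_le_left
  have h2 := Subgroup.card_le_of_le h1
  exact (hbm.res (inf_le_left : normalizerIn S (fimg f P) ≤ S)).card_fimg.ge.trans h2

/-- A saturated subsystem over `S`, invariant under `Aut_F(S)` and decomposing `F`, is normal. -/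
theorem isNormalIn_of_decomp (hF : F.IsSaturated p) (hE : E.IsSaturated p)
    (hEF : E.IsSubsystemOf F) (hdec : HasDecomp F E)
    (htwist : ∀ {P : Subgroup Ω} {f : Ω → Ω} {α : MulAut S}, IsMap E P f → α ∈ F.autGroup S →
      IsMap E (fimg (autFun α) P) (fun y => autFun α (f (autFun α⁻¹ y)))) :
    E.IsNormalIn F p := by
  refine ⟨⟨hE, hF, hEF, ⟨le_rfl, fun R _ φ hφ x => (F.le_of_mem hφ).2 x⟩, ?_, ?_⟩, ?_⟩
  · intro P hPS φ hφ α hα
    have hαm : IsMap F S (autFun α) := (mem_autGroup le_rfl).1 hα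
    have heq : (P.subgroupOf S).map (S.subtype.comp α.toMonoidHom) = fimg (autFun α) P := by
      ext y
      rw [(hαm.res hPS).mem_fimg_iff, Subgroup.mem_map]
      constructor
      · rintro ⟨t, ht, rfl⟩
        exact ⟨t, ht, autFun_coe α t⟩
      · rintro ⟨x, hx, rfl⟩
        exact ⟨⟨x, hPS hx⟩, hx, (autFun_coe α ⟨x, hPS hx⟩).symm⟩
    have hk := htwist (isMap_toFun hφ) hα
    rw [← heq] at hk
    obtain ⟨χ, hχ, hχe⟩ := hk.exists_hom
    refine ⟨χ, hχ, fun x hφx hαx => ?_⟩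
    rw [hχe]
    show autFun α (toFun φ (autFun α⁻¹ ((α ⟨x, hPS x.2⟩ : S) : Ω))) = _
    rw [← autFun_coe α ⟨x, hPS x.2⟩, autFun_inv_apply α (hPS x.2), toFun_coe]
    exact autFun_coe α ⟨φ x, hφx⟩
  · intro P hPS φ hφ
    obtain ⟨b, hb, e, he, hbe⟩ := hdec (isMap_toFun hφ)
    obtain ⟨φ₀, hφ₀, he₀⟩ := he.exists_hom
    refine ⟨b, hb, φ₀, hφ₀, fun x hx => ?_⟩
    rw [← toFun_coe φ x, hbe x x.2, ← he₀ x]
    exact autFun_coe b ⟨φ₀ x, hx⟩
  · intro α hα
    have h : S ⊔ centralizerIn S S = S := sup_eq_left.2 inf_le_left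
    have hαF : IsMap F (S ⊔ centralizerIn S S) (autFun α) := by
      rw [h]
      exact ((mem_autGroup le_rfl).1 hα).mono hEF
    obtain ⟨β, hβ, hβe⟩ := hαF.exists_aut (by rw [h]; exact fimg_autFun α)
    refine ⟨β, hβ, fun x => ?_, fun c hc => ?_⟩
    · rw [← autFun_coe β, hβe _ (Subgroup.inclusion le_sup_left x).2]
      exact autFun_coe α x
    · obtain ⟨hcS, hcc⟩ := mem_centralizerIn.1 hc
      rw [← autFun_coe β, hβe _ c.2]
      have h1 : autFun α c ∈ centralizerIn S S := by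
        refine mem_centralizerIn.2 ⟨autFun_mem α hcS, fun y hy => ?_⟩
        obtain ⟨z, rfl⟩ : ∃ z : S, autFun α z = y :=
          ⟨α⁻¹ ⟨y, hy⟩, by rw [autFun_coe, MulAut.apply_inv_self]⟩
        have hαm : IsMap F S (autFun α) := ((mem_autGroup le_rfl).1 hα).mono hEF
        rw [← hαm.map_mul z.2 hcS, ← hαm.map_mul hcS z.2, hcc z z.2]
      exact Subgroup.mul_mem _ (Subgroup.inv_mem _ hc) h1

end Cfsg.Agent.Fus.Decomp
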