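import Mathlib
import Cfsg.Prelude.Def_FusionComponents
import Cfsg.Agent.Lib.Fus.InvariantClass
import Cfsg.Agent.Lib.Fus.PrimeIndex

/-!
The subsystem of index prime to `p` belonging to a `p'`-quotient of the automizer of the support of
an invariant subsystem.
-/

set_option autoImplicit false
set_option linter.style.haveILetI false
set_option linter.unusedSectionVars false
set_option linter.unusedVariables false

open scoped Classical Pointwise

universe u

namespace Cfsg.Agent.Fus.PrimeQuot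

open Subgroup FusionSystem

variable {Ω : Type u} [Group Ω] {S T : Subgroup Ω} {F : FusionSystem S} {E : FusionSystem T}
  {p : ℕ} [Fact p.Prime] [Finite S] {Δ : Type*} [Group Δ] [Finite Δ]

/-- The hypotheses: an invariant saturated subsystem and a `p'`-quotient of `Aut_F(T)` killing
`Aut_E(T)`. -/
structure Setup (F : FusionSystem S) (E : FusionSystem T) (p : ℕ) (χ : ↥(F.autGroup T) →* Δ) :
    Prop where
  pgroup : IsPGroup p S
  sat : F.IsSaturated p
  inv : E.IsInvariantIn F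
  esat : E.IsSaturated p
  coprime : (Nat.card Δ).Coprime p
  surj : Function.Surjective χ
  kills : ∀ γ : F.autGroup T, (γ : MulAut T) ∈ E.autGroup T → χ γ = 1

variable {χ : ↥(F.autGroup T) →* Δ}

/-- The subgroups of the family: centric, with centric trace on `T`. -/
def Fam (F : FusionSystem S) (E : FusionSystem T) (R : Subgroup Ω) : Prop :=
  F.IsCentric R ∧ E.IsCentric (R ⊓ T)

theorem Fam.conj (hE : E.IsInvariantIn F) {R : Subgroup Ω} (h : Fam F E R) {f : Ω → Ω}
    (hf : IsMap F R f) : Fam F E (fimg f R) := by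
  refine ⟨centric_of_isConj h.1 hf.isConj, ?_⟩
  rw [← InvClass.fimg_inf hE.2.1 hf]
  exact InvClass.centric_transport hE h.2 (hf.res inf_le_left)

theorem Fam.mono {R X : Subgroup Ω} (h : Fam F E R) (hRX : R ≤ X) (hX : X ≤ S) : Fam F E X :=
  ⟨centric_mono h.1 hRX hX, centric_mono h.2 (inf_le_inf_right T hRX) inf_le_right⟩

theorem fam_self (hE : E.IsInvariantIn F) : Fam F E S := by
  refine ⟨centric_self F, ?_⟩
  rw [inf_eq_right.2 hE.2.1.1]
  haveI : Finite T := finite_of_le hE.2.1.1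
  exact centric_self E

/-- The map `f` on `R` has class `v`. -/
def HasCls (χ : ↥(F.autGroup T) →* Δ) (E : FusionSystem T) (R : Subgroup Ω) (f : Ω → Ω) (v : Δ) :
    Prop :=
  ∃ (α : F.autGroup T) (e : Ω → Ω), IsMap E (R ⊓ T) e ∧
    (∀ x ∈ R ⊓ T, f x = autFun (α : MulAut T) (e x)) ∧ χ α = v

theorem HasCls.congr {R : Subgroup Ω} {f g : Ω → Ω} {v : Δ} (h : HasCls χ E R f v)
    (e : ∀ x ∈ R, f x = g x) : HasCls χ E R g v :=
  let ⟨α, k, hk, hke, hv⟩ := h
  ⟨α, k, hk, fun x hx => (e x hx.1).symm.trans (hke x hx), hv⟩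

theorem HasCls.res {R X : Subgroup Ω} {f : Ω → Ω} {v : Δ} (h : HasCls χ E X f v) (hRX : R ≤ X) :
    HasCls χ E R f v :=
  let ⟨α, k, hk, hke, hv⟩ := h
  ⟨α, k, hk.res (inf_le_inf_right T hRX), fun x hx => hke x (inf_le_inf_right T hRX hx), hv⟩

theorem Setup.exists_cls (d : Setup F E p χ) {R : Subgroup Ω} {f : Ω → Ω} (hf : IsMap F R f) :
    ∃ v, HasCls χ E R f v := by
  obtain ⟨α, hα, e, he, hfe⟩ :=
    frattini_of_isInvariantIn d.inv (inf_le_right : R ⊓ T ≤ T) (hf.res inf_le_left)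
  exact ⟨_, ⟨α, hα⟩, e, he, hfe, rfl⟩

theorem Setup.cls_unique (d : Setup F E p χ) {R : Subgroup Ω} (hR : E.IsCentric (R ⊓ T))
    {f : Ω → Ω} {v w : Δ} (hv : HasCls χ E R f v) (hw : HasCls χ E R f w) : v = w := by
  obtain ⟨α, e, he, hfe, rfl⟩ := hv
  obtain ⟨α', e', he', hfe', rfl⟩ := hw
  obtain ⟨g, hg, hg1, hg2, -⟩ := he.exists_inv
  have h1 : χ (α'⁻¹ * α) = 1 := by
    refine InvClass.class_eq_one d.pgroup d.inv d.esat le_rfl d.coprime χ d.kills
      (centric_of_isConj hR he.isConj) _ ((hg.comp he' fun y hy => (hg2 y hy).1).congr fun y hy => ?_)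
    obtain ⟨x, hx, rfl⟩ := he.mem_fimg_iff.1 hy
    rw [hg1 x hx, Subgroup.coe_mul, Subgroup.coe_inv, autFun_mul _ _ (he.apply_mem hx),
      ← hfe x hx, hfe' x hx, autFun_inv_apply _ (he'.apply_mem hx)]
  rw [map_mul, map_inv, inv_mul_eq_one] at h1
  exact h1.symm

theorem Setup.cls_comp (d : Setup F E p χ) {R Q : Subgroup Ω} {f g : Ω → Ω} {v w : Δ}
    (hf : IsMap F R f) (hm : ∀ x ∈ R, f x ∈ Q) (hv : HasCls χ E R f v) (hw : HasCls χ E Q g w) :
    HasCls χ E R (fun x => g (f x)) (w * v) := by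
  obtain ⟨α, e, he, hfe, rfl⟩ := hv
  obtain ⟨α', e', he', hge, rfl⟩ := hw
  obtain ⟨k, hk, hke⟩ := invariant_isMap d.inv he' (inv_mem α.2)
  have hfx : ∀ x ∈ R ⊓ T, f x ∈ Q ⊓ T := fun x hx =>
    ⟨hm x hx.1, StronglyClosed.apply_mem d.inv.2.1 (hf.res inf_le_left) inf_le_right hx⟩
  have hex : ∀ x ∈ R ⊓ T, e x = autFun (α : MulAut T)⁻¹ (f x) := fun x hx => by
    rw [hfe x hx, autFun_inv_apply _ (he.apply_mem hx)]
  refine ⟨α' * α, fun x => k (e x), he.comp hk fun x hx => ?_, fun x hx => ?_, map_mul χ α' α⟩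
  · rw [hex x hx]
    exact apply_mem_fimg _ (hfx x hx)
  · show g (f x) = autFun ((α' * α : F.autGroup T) : MulAut T) (k (e x))
    have h1 : e' (f x) ∈ T := he'.apply_mem (hfx x hx)
    rw [hex x hx, hke _ (hfx x hx), Subgroup.coe_mul, autFun_mul _ _ (autFun_mem _ h1),
      ← autFun_mul _ _ h1, mul_inv_cancel, autFun_one h1, ← hge _ (hfx x hx)]

theorem Setup.cls_id (d : Setup F E p χ) {R : Subgroup Ω} :
    HasCls χ E R (fun x => x) (1 : Δ) :=
  ⟨1, fun x => x, isMap_id E inf_le_right, fun x hx =>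
    (autFun_one (hx.2 : x ∈ T)).symm, map_one χ⟩

theorem Setup.cls_inner (d : Setup F E p χ) {R : Subgroup Ω} {g : Ω} (hg : g ∈ S) :
    HasCls χ E R (fun x => g * x * g⁻¹) (1 : Δ) := by
  have hTS := d.inv.2.1.1
  have hgT : g ∈ Subgroup.normalizer (T : Set Ω) := mem_normalizer_of_forall
    (fun x hx => StronglyClosed.conj_mem' d.inv.2.1 hg hx)
    (fun x hx => by simpa using StronglyClosed.conj_mem' d.inv.2.1 (S.inv_mem hg) hx)
  let c : MulAut T := T.normalizerMonoidHom ⟨g, hgT⟩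
  have hcI : c ∈ autInducedBy S T := mem_autInducedBy.2 ⟨g, hg, fun x => rfl⟩
  have hc : c ∈ F.autGroup T := autInducedBy_le_autGroup F hTS hcI
  obtain ⟨k, hk⟩ := isPGroup_autInducedBy d.pgroup T ⟨c, hcI⟩
  refine ⟨⟨c, hc⟩, fun x => x, isMap_id E inf_le_right, fun x hx =>
    (autFun_coe c ⟨x, hx.2⟩).symm, InvClass.eq_one_of_pow_prime_pow d.coprime (k := k) ?_⟩
  have h1 : (⟨c, hc⟩ : F.autGroup T) ^ p ^ k = 1 :=
    Subtype.ext ((SubmonoidClass.coe_pow _ _).trans
      ((SubmonoidClass.coe_pow (⟨c, hcI⟩ : autInducedBy S T) _).symm.trans (congrArg Subtype.val hk)))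
  rw [← map_pow, h1, map_one]

/-- The maps generated by maps of trivial class on the family. -/
inductive Gen (χ : ↥(F.autGroup T) →* Δ) (E : FusionSystem T) : Subgroup Ω → (Ω → Ω) → Prop
  | base {R X : Subgroup Ω} {f g : Ω → Ω} : Fam F E X → IsMap F X f → HasCls χ E X f 1 → R ≤ X →
      (∀ x ∈ R, g x = f x) → Gen χ E R g
  | comp {R Q : Subgroup Ω} {f g h : Ω → Ω} : Gen χ E R f → Gen χ E Q g → (∀ x ∈ R, f x ∈ Q) →
      (∀ x ∈ R, h x = g (f x)) → Gen χ E R h

theorem Gen.res {R R' : Subgroup Ω} {f : Ω → Ω} (h : Gen χ E R f) (hR : R' ≤ R) :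
    Gen χ E R' f := by
  induction h generalizing R' with
  | base hX hf hc hle he => exact .base hX hf hc (hR.trans hle) fun x hx => he x (hR hx)
  | comp _ hg hm he ih _ => exact .comp (ih hR) hg (fun x hx => hm x (hR hx)) fun x hx => he x (hR hx)

theorem Gen.congr {R : Subgroup Ω} {f g : Ω → Ω} (h : Gen χ E R f) (e : ∀ x ∈ R, f x = g x) :
    Gen χ E R g := by
  cases h with
  | base hX hf hc hle he => exact .base hX hf hc hle fun x hx => (e x hx).symm.trans (he x hx)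
  | comp hf hg hm he => exact .comp hf hg hm fun x hx => (e x hx).symm.trans (he x hx)

theorem Gen.isMap {R : Subgroup Ω} {f : Ω → Ω} (h : Gen χ E R f) : IsMap F R f := by
  induction h with
  | base _ hf _ hle he => exact (hf.res hle).congr fun x hx => (he x hx).symm
  | comp _ _ hm he ih₁ ih₂ => exact (ih₁.comp ih₂ hm).congr fun x hx => (he x hx).symm

theorem Gen.cls (d : Setup F E p χ) {R : Subgroup Ω} {f : Ω → Ω} (h : Gen χ E R f) :
    HasCls χ E R f 1 := by
  induction h with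
  | base _ _ hc hle he => exact (hc.res hle).congr fun x hx => (he x hx).symm
  | comp hf _ hm he ih₁ ih₂ =>
    have := d.cls_comp hf.isMap hm ih₁ ih₂
    rw [one_mul] at this
    exact this.congr fun x hx => (he x hx).symm

theorem Setup.gen_inner (d : Setup F E p χ) {R : Subgroup Ω} (hR : R ≤ S) {g : Ω} (hg : g ∈ S) :
    Gen χ E R (fun x => g * x * g⁻¹) :=
  .base (fam_self d.inv) (isMap_conj F le_rfl hg) (d.cls_inner hg) hR fun _ _ => rfl

theorem Setup.gen_inv (d : Setup F E p χ) {R : Subgroup Ω} {f : Ω → Ω} (h : Gen χ E R f) :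
    ∀ g : Ω → Ω, (∀ x ∈ R, g (f x) = x) → Gen χ E (fimg f R) g := by
  induction h with
  | @base R X f f₁ hX hf hc hle he =>
    intro g hg
    obtain ⟨k, hk, hk1, hk2, -⟩ := hf.exists_inv
    have hFam : Fam F E (fimg f X) := hX.conj d.inv hf
    obtain ⟨v, hv⟩ := d.exists_cls hk
    have hcomp := d.cls_comp hf (fun x hx => apply_mem_fimg f hx) hc hv
    have hv1 : v = 1 := by
      have := d.cls_unique hX.2 (hcomp.congr fun x hx => hk1 x hx) (d.cls_id (R := X))
      rwa [mul_one] at this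
    refine .base hFam hk (hv1 ▸ hv) ?_ fun y hy => ?_
    · rw [fimg_congr he]
      exact fimg_mono f hle
    · obtain ⟨x, hx, rfl⟩ := ((hf.res hle).congr fun x hx => (he x hx).symm).mem_fimg_iff.1 hy
      rw [hg x hx, he x hx, hk1 x (hle hx)]
  | @comp R Q f₁ f₂ h hf₁ hf₂ hm he ih₁ ih₂ =>
    intro g hg
    obtain ⟨g₁, -, e₁, -, -⟩ := hf₁.isMap.exists_inv
    obtain ⟨g₂, -, e₂, -, -⟩ := hf₂.isMap.exists_inv
    have key : ∀ x ∈ R, g₂ (h x) = f₁ x := fun x hx => by rw [he x hx, e₂ _ (hm x hx)]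
    have hle : fimg h R ≤ fimg f₂ Q := fimg_le fun x hx => he x hx ▸ apply_mem_fimg f₂ (hm x hx)
    refine .comp ((ih₂ g₂ e₂).res hle) (ih₁ g₁ e₁) (fun y hy => ?_) fun y hy => ?_
    · obtain ⟨x, hx, rfl⟩ := ((Gen.comp hf₁ hf₂ hm he).isMap).mem_fimg_iff.1 hy
      rw [key x hx]
      exact apply_mem_fimg f₁ hx
    · obtain ⟨x, hx, rfl⟩ := ((Gen.comp hf₁ hf₂ hm he).isMap).mem_fimg_iff.1 hy
      rw [key x hx, hg x hx, e₁ x hx]

theorem Setup.gen_twist (d : Setup F E p χ) {β : MulAut S} (hβ : β ∈ F.autGroup S)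
    {R : Subgroup Ω} {f : Ω → Ω} (h : Gen χ E R f) :
    Gen χ E (fimg (autFun β) R) (fun y => autFun β (f (autFun β⁻¹ y))) := by
  have hb : IsMap F S (autFun β) := (mem_autGroup le_rfl).1 hβ
  have hb' : IsMap F S (autFun β⁻¹) := (mem_autGroup le_rfl).1 (inv_mem hβ)
  have hinv : ∀ x ∈ S, autFun β⁻¹ (autFun β x) = x := fun x hx => autFun_inv_apply β hx
  induction h with
  | @base R X f g hX hf hc hle he =>
    have hXS := hf.source_le
    have hbX := hb.res hXS
    have hmem : ∀ y ∈ fimg (autFun β) X, autFun β⁻¹ y ∈ X := fun y hy => by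
      obtain ⟨x, hx, rfl⟩ := hbX.mem_fimg_iff.1 hy
      rwa [hinv x (hXS hx)]
    have hm : IsMap F (fimg (autFun β) X) (fun y => autFun β (f (autFun β⁻¹ y))) :=
      ((hb'.res hbX.fimg_le_S).comp hf hmem).comp hb fun y hy => hf.apply_mem (hmem y hy)
    obtain ⟨v, hv⟩ := d.exists_cls hb
    obtain ⟨w, hw⟩ := d.exists_cls hb'
    have hvw : v * w = 1 := by
      have h1 := d.cls_comp hb' (fun x hx => autFun_mem _ hx) hw hv
      refine d.cls_unique (fam_self d.inv).2 (h1.congr fun x hx => ?_) (d.cls_id (R := S))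
      show autFun β (autFun β⁻¹ x) = x
      rw [← autFun_mul _ _ hx, mul_inv_cancel, autFun_one hx]
    refine .base (hX.conj d.inv hbX) hm ?_ (fimg_mono _ hle) fun y hy => ?_
    · have h1 := d.cls_comp (hb'.res hbX.fimg_le_S) hmem (hw.res hbX.fimg_le_S) hc
      have h2 := d.cls_comp ((hb'.res hbX.fimg_le_S).comp hf hmem)
        (fun y hy => hf.apply_mem (hmem y hy)) h1 hv
      rw [one_mul, hvw] at h2
      exact h2
    · obtain ⟨x, hx, rfl⟩ := (hb.res (hle.trans hXS)).mem_fimg_iff.1 hy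
      show autFun β (g (autFun β⁻¹ (autFun β x))) = _
      rw [hinv x (hXS (hle hx)), he x hx]
  | @comp R Q f g h hf hg hm he ih₁ ih₂ =>
    have hRS := hf.isMap.source_le
    refine .comp ih₁ ih₂ (fun y hy => ?_) fun y hy => ?_
    · obtain ⟨x, hx, rfl⟩ := (hb.res hRS).mem_fimg_iff.1 hy
      show autFun β (f (autFun β⁻¹ (autFun β x))) ∈ _
      rw [hinv x (hRS hx)]
      exact apply_mem_fimg _ (hm x hx)
    · obtain ⟨x, hx, rfl⟩ := (hb.res hRS).mem_fimg_iff.1 hy
      show autFun β (h (autFun β⁻¹ (autFun β x))) =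
        autFun β (g (autFun β⁻¹ (autFun β (f (autFun β⁻¹ (autFun β x))))))
      rw [hinv x (hRS hx), hinv _ (hf.isMap.apply_mem hx), he x hx]

/-- The subsystem of the generated maps. -/
noncomputable def genSys (d : Setup F E p χ) : FusionSystem S where
  Hom P := {φ | φ ∈ F.Hom P ∧ Gen χ E P (toFun φ)}
  le_of_mem h := F.le_of_mem h.1
  injective_of_mem h := F.injective_of_mem h.1
  conj_mem {P g} hP hg := ⟨F.conj_mem hP hg,
    (d.gen_inner hP hg).congr fun x hx => by rw [toFun_apply _ hx]; rfl⟩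
  comp_mem {P Q φ ψ} hφ hψ hmem := by
    refine ⟨F.comp_mem hφ.1 hψ.1 hmem, .comp hφ.2 hψ.2
      (fun x hx => by rw [toFun_apply φ hx]; exact hmem _) fun x hx => ?_⟩
    rw [toFun_apply _ hx, toFun_apply φ hx, toFun_apply ψ (hmem _)]
    rfl
  inv_mem {P φ} hφ := by
    obtain ⟨ψ, hψ, hψe⟩ := F.inv_mem hφ.1
    have hr : φ.range = fimg (toFun φ) P :=
      (isMap_toFun hφ.1).range_eq_fimg fun x => (toFun_coe φ x).symm
    have h := d.gen_inv hφ.2 (toFun ψ) fun x hx => by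
      rw [toFun_apply φ hx, toFun_apply ψ ⟨⟨x, hx⟩, rfl⟩]
      exact hψe _
    rw [← hr] at h
    exact ⟨ψ, ⟨hψ, h⟩, hψe⟩

theorem isMap_genSys (d : Setup F E p χ) {P : Subgroup Ω} {f : Ω → Ω} :
    IsMap (genSys d) P f ↔ Gen χ E P f := by
  constructor
  · rintro ⟨φ, hφ, hφf⟩
    have hφ' : φ ∈ F.Hom P ∧ Gen χ E P (toFun φ) := hφ
    exact hφ'.2.congr fun x hx => (toFun_apply φ hx).trans (hφf ⟨x, hx⟩)
  · intro h
    obtain ⟨φ, hφ, hφf⟩ := h.isMap.exists_hom
    have h' : φ ∈ F.Hom P ∧ Gen χ E P (toFun φ) :=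
      ⟨hφ, h.congr fun x hx => ((toFun_apply φ hx).trans (hφf ⟨x, hx⟩)).symm⟩
    exact ⟨φ, h', hφf⟩

theorem genSys_le (d : Setup F E p χ) : (genSys d).IsSubsystemOf F := fun P φ h =>
  (show φ ∈ F.Hom P ∧ Gen χ E P (toFun φ) from h).1

/-- The automorphisms of `S` realize every class. -/
theorem Setup.exists_lift (d : Setup F E p χ) (v : Δ) :
    ∃ b ∈ F.autGroup S, HasCls χ E S (autFun b) v := by
  have hTS := d.inv.2.1.1
  haveI := finite_of_le hTS
  have hST : S ≤ normalizerIn S T := fun g hg => ⟨hg, mem_normalizer_of_forall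
    (fun x hx => StronglyClosed.conj_mem' d.inv.2.1 hg hx)
    (fun x hx => by simpa using StronglyClosed.conj_mem' d.inv.2.1 (S.inv_mem hg) hx)⟩
  have hTn : F.IsFullyNormalized T := ⟨hTS, fun Q _ =>
    le_of_le_of_eq (Subgroup.card_le_of_le inf_le_left)
      (congrArg (fun H : Subgroup Ω => Nat.card H) (le_antisymm hST inf_le_left))⟩
  obtain ⟨-, R, hR⟩ := fullyAutomized_of_fullyNormalized d.pgroup d.sat hTn
  have hRK : (R : Subgroup (F.autGroup T)) ≤ χ.ker := fun r hr => by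
    obtain ⟨k, hk⟩ := R.2 ⟨r, hr⟩
    refine InvClass.eq_one_of_pow_prime_pow d.coprime (k := k) ?_
    rw [← map_pow, show r ^ p ^ k = 1 from congrArg Subtype.val hk, map_one]
  obtain ⟨a, rfl⟩ := d.surj v
  obtain ⟨n, hn, k, hk, rfl⟩ := Subgroup.mem_sup_of_normal_right.1
    ((R.normalizer_sup_eq_top' hRK).ge (mem_top a))
  have hnm : IsMap F T (autFun (n : MulAut T)) := (mem_autGroup hTS).1 n.2
  obtain ⟨b, hb, hbe⟩ := receptive_extend (receptive_of_fullyNormalized d.pgroup d.sat hTn) hnm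
    (fimg_autFun _) (N := S) (fun g hg => by
      refine ⟨hST hg, ?_⟩
      let c : MulAut T := T.normalizerMonoidHom ⟨g, (hST hg).2⟩
      have hc : c ∈ autInducedBy S T := mem_autInducedBy.2 ⟨g, hg, fun x => rfl⟩
      have hcR : (⟨c, autInducedBy_le_autGroup F hTS hc⟩ : F.autGroup T) ∈
          (R : Subgroup (F.autGroup T)) := by rw [hR]; exact hc
      have h1 := (Subgroup.mem_normalizer_iff.1 hn _).1 hcR
      rw [hR] at h1
      exact SatCrit.exists_conj_transfer (hST hg).2 (fun x => rfl) h1) hTS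
  obtain ⟨β, hβ, hβe⟩ := hb.exists_aut (fimg_eq_self_of_source_top hb)
  refine ⟨β, hβ, n, fun x => x, isMap_id E inf_le_right, fun x hx => ?_, ?_⟩
  · rw [hβe x hx.1, hbe x hx.2]
  · rw [map_mul, show χ k = 1 from hk, mul_one]

/-- A centric radical subgroup lies in the family. -/
theorem Setup.fam_of_radical (d : Setup F E p χ) {P : Subgroup Ω} (hP : F.IsCentric P)
    (hrad : F.IsRadical p P) : Fam F E P := by
  refine ⟨hP, by_contra fun hPT => ?_⟩
  obtain ⟨u, hu, x, hx, hxP, a, ha, hax⟩ := InvClass.exists_core_aut d.pgroup d.sat d.inv hP hPT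
  obtain ⟨e, he, heA⟩ := exists_mulEquiv hu rfl
  let φ : ↥(F.autGroup P) →* ↥(F.autGroup (fimg u P)) :=
    ((MulAut.congr e).toMonoidHom.comp (F.autGroup P).subtype).codRestrict _ fun b => (heA _).1 b.2
  have hφi : Function.Injective φ := fun b c h =>
    Subtype.ext ((MulAut.congr e).injective (congrArg Subtype.val h))
  haveI := finite_of_le hP.1
  haveI := finite_of_le hu.fimg_le_S
  obtain ⟨b, hb⟩ : ∃ b : ↥(F.autGroup P), φ b = a :=
    ⟨⟨(MulAut.congr e).symm a, (heA _).2 (by rw [MulEquiv.apply_symm_apply]; exact a.2)⟩,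
      Subtype.ext ((MulAut.congr e).apply_symm_apply _)⟩
  have hbK : b ∈ pCore p ↥(F.autGroup P) :=
    Grp.le_pCore ((Grp.pCore_isNormal (p := p) (G := ↥(F.autGroup (fimg u P)))).comap φ)
      ((Grp.pCore_isPGroup (p := p)).comap_of_injective φ hφi) (by
        show φ b ∈ pCore p ↥(F.autGroup (fimg u P))
        rw [hb]
        exact ha)
  have hinn : (b : MulAut P) ∈ Inn P := by
    rw [← hrad.2]
    exact ⟨b, hbK, rfl⟩
  obtain ⟨y, hy⟩ := hinn
  apply hxP
  have hc : (u y)⁻¹ * x ∈ centralizerIn S (fimg u P) := by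
    refine mem_centralizerIn.2 ⟨S.mul_mem (S.inv_mem (hu.apply_mem y.2)) hx.1, fun z hz => ?_⟩
    obtain ⟨w, hw⟩ := e.surjective ⟨z, hz⟩
    have h2 : z = u w := by rw [← he]; exact (congrArg Subtype.val hw).symm
    have h1 : x * z * x⁻¹ = u y * z * (u y)⁻¹ := by
      rw [show x * z * x⁻¹ = (((a : MulAut (fimg u P)) ⟨z, hz⟩ : fimg u P) : Ω) from
        (hax ⟨z, hz⟩).symm, ← hb, ← hw]
      show ((MulAut.congr e (b : MulAut P) (e w) : fimg u P) : Ω) = _
      rw [show MulAut.congr e (b : MulAut P) (e w) = e ((b : MulAut P) w) by simp [MulAut.congr],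
        he, h2, ← hu.map_conj y.2 w.2, ← hy]
      rfl
    calc z * ((u y)⁻¹ * x) = (u y)⁻¹ * (u y * z * (u y)⁻¹) * x := by group
      _ = (u y)⁻¹ * (x * z * x⁻¹) * x := by rw [h1]
      _ = (u y)⁻¹ * x * z := by group
  have := (centric_of_isConj hP hu.isConj).2 _ (isConj_refl F hu.fimg_le_S) hc
  simpa using Subgroup.mul_mem _ (apply_mem_fimg u y.2) this

/-- Every map is an automorphism of `S` after a generated map. -/
theorem Setup.decomp (d : Setup F E p χ) {P : Subgroup Ω} {f : Ω → Ω} (hf : IsMap F P f) :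
    ∃ b ∈ F.autGroup S, ∃ e, Gen χ E P e ∧ ∀ x ∈ P, f x = autFun b (e x) := by
  let D : Subgroup Ω → (Ω → Ω) → Prop := fun P f =>
    ∃ b ∈ F.autGroup S, ∃ e, Gen χ E P e ∧ ∀ x ∈ P, f x = autFun b (e x)
  refine alperin d.pgroup d.sat D
    (fun P f g ⟨b, hb, e, he, hfe⟩ h => ⟨b, hb, e, he, fun x hx => (h x hx).symm.trans (hfe x hx)⟩)
    ?_ (fun P Q f _ hPQ ⟨b, hb, e, he, hfe⟩ => ⟨b, hb, e, he.res hPQ, fun x hx => hfe x (hPQ hx)⟩)
    (fun α hα => ⟨α, hα, fun x => x,
      (d.gen_inner le_rfl S.one_mem).congr fun x _ => by simp, fun x _ => rfl⟩) ?_ hf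
  · intro P Q f g hf hg hm ⟨a, ha, e, he, hfe⟩ ⟨a', ha', e', he', hge⟩
    have ht := d.gen_twist (inv_mem ha) he'
    rw [inv_inv] at ht
    have heq : ∀ x ∈ P, e x = autFun a⁻¹ (f x) := fun x hx => by
      rw [hfe x hx, autFun_inv_apply a (he.isMap.apply_mem hx)]
    refine ⟨a' * a, mul_mem ha' ha, _, .comp he ht (fun x hx => ?_) (fun x _ => rfl), fun x hx => ?_⟩
    · rw [heq x hx]
      exact apply_mem_fimg _ (hm x hx)
    · show g (f x) = autFun (a' * a) (autFun a⁻¹ (e' (autFun a (e x))))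
      have h1 : e' (f x) ∈ S := he'.isMap.apply_mem (hm x hx)
      rw [← hfe x hx, autFun_mul _ _ (autFun_mem a⁻¹ h1), ← autFun_mul a a⁻¹ h1, mul_inv_cancel,
        autFun_one h1, ← hge _ (hm x hx)]
  · intro P hP α hα
    have hPS := hP.1.1
    have hαm : IsMap F P (autFun α) := (mem_autGroup hPS).1 hα
    have hFam := d.fam_of_radical hP.1 (radical_of_essential d.pgroup hP)
    obtain ⟨v, hv⟩ := d.exists_cls hαm
    obtain ⟨b, hb, hbv⟩ := d.exists_lift v⁻¹
    have hbm : IsMap F S (autFun b) := (mem_autGroup le_rfl).1 hb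
    have hmem : ∀ x ∈ P, autFun α x ∈ S := fun x hx => hαm.apply_mem hx
    have h1 := d.cls_comp hαm hmem hv hbv
    rw [inv_mul_cancel] at h1
    refine ⟨b⁻¹, inv_mem hb, fun x => autFun b (autFun α x),
      .base hFam (hαm.comp hbm hmem) h1 le_rfl (fun _ _ => rfl), fun x hx => ?_⟩
    show autFun α x = autFun b⁻¹ (autFun b (autFun α x))
    rw [autFun_inv_apply b (hmem x hx)]

end Cfsg.Agent.Fus.PrimeQuot
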