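import Mathlib
import Cfsg.Agent.Lib.Fus.PrimeQuotient
import Cfsg.Agent.Lib.Fus.DecompIndex

/-!
Properties of the subsystem belonging to a `p'`-quotient of the automizer of the support of an
invariant subsystem.
-/

set_option autoImplicit false
set_option linter.style.haveILetI false
set_option linter.unusedSectionVars false

open scoped Classical Pointwise

universe u

namespace Cfsg.Agent.Fus.PrimeQuot

open Subgroup FusionSystem Decomp

variable {Ω : Type u} [Group Ω] {S T : Subgroup Ω} {F : FusionSystem S} {E : FusionSystem T}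
  {p : ℕ} [Fact p.Prime] [Finite S] {Δ : Type*} [Group Δ] [Finite Δ]
  {χ : ↥(F.autGroup T) →* Δ}

theorem Setup.hasDecomp (d : Setup F E p χ) : HasDecomp F (genSys d) := by
  intro P f hf
  obtain ⟨b, hb, e, he, hfe⟩ := d.decomp hf
  exact ⟨b, hb, e, (isMap_genSys d).2 he, hfe⟩

theorem Setup.hasPrimeToPIndexIn (d : Setup F E p χ) : (genSys d).HasPrimeToPIndexIn F p :=
  hasPrimeToPIndexIn_of_decomp d.pgroup d.sat (genSys_le d) d.hasDecomp

theorem genSys_saturated (d : Setup F E p χ) : (genSys d).IsSaturated p := by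
  have hciff : ∀ P, (genSys d).IsCentric P ↔ F.IsCentric P := fun P =>
    centric_iff_of_decomp (genSys_le d) d.hasDecomp
  refine SatCrit.isSaturated_of_family d.pgroup {P | Fam F E P} (fun P hP Q hQ => ?_)
    (fun P hP => ?_) (fun E' hE' Q φ hφ => ?_) fun P hP hPn => ?_
  · obtain ⟨f, hf, rfl⟩ := isConj_iff.1 hQ
    exact Fam.conj d.inv hP (hf.mono (genSys_le d))
  · obtain ⟨e, he, hQn⟩ := exists_fullyNormalized_of_decomp (genSys_le d) d.hasDecomp hP.1.1
    have heF := he.mono (genSys_le d)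
    have hQ : Fam F E (fimg e P) := Fam.conj d.inv hP heF
    refine ⟨fimg e P, he.isConj, ⟨hQn.1, ?_⟩, receptive_of hQn.1 fun R v hv hvQ N hRN hN => ?_⟩
    · obtain ⟨-, W₀, hW₀⟩ := fullyAutomized_of_fullyNormalized d.pgroup d.sat hQn
      haveI := finite_of_le hQn.1
      set A := (genSys d).autGroup (fimg e P)
      obtain ⟨W, hW⟩ :=
        ((isPGroup_autInducedBy d.pgroup (fimg e P)).comap_subtype (K := A)).exists_le_sylow
      refine ⟨W, le_antisymm (fun w hw => ?_) hW⟩
      let ι : A →* F.autGroup (fimg e P) := Subgroup.inclusion (autGroup_mono (genSys_le d) _)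
      have h1 : (W₀ : Subgroup (F.autGroup (fimg e P))) ≤ (W : Subgroup A).map ι := fun t ht => by
        rw [hW₀] at ht
        exact ⟨⟨t, autInducedBy_le_autGroup _ hQn.1 ht⟩, hW ht, rfl⟩
      have h3 : ι w ∈ (W₀ : Subgroup (F.autGroup (fimg e P))) :=
        (W₀.is_maximal' (W.2.map ι) h1) ▸ ⟨w, hw, rfl⟩
      rw [hW₀] at h3
      exact h3
    · have hvF := hv.mono (genSys_le d)
      obtain ⟨v', hv', hv'e⟩ := receptive_extend (receptive_of_fullyNormalized d.pgroup d.sat hQn)
        hvF hvQ (N := N)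
        (fun g hg => ⟨⟨((hN g).1 hg).1, ((hN g).1 hg).2.1⟩, ((hN g).1 hg).2.2⟩) hRN
      obtain ⟨g, hg, -, -, hgR⟩ := hvF.exists_inv
      rw [hvQ] at hg hgR
      have hR : Fam F E R := hgR ▸ Fam.conj d.inv hQ hg
      obtain ⟨w, hw⟩ := d.exists_cls hv'
      obtain rfl : w = 1 := d.cls_unique hR.2 ((hw.res hRN).congr hv'e)
        (((isMap_genSys d).1 hv).cls d)
      exact ⟨v', (isMap_genSys d).2 (.base (hR.mono hRN hv'.source_le) hv' hw le_rfl fun _ _ => rfl),
        hv'e⟩
  · have key : ∀ {R : Subgroup Ω} {f : Ω → Ω}, Gen χ E R f → IsMap E' R f := by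
      intro R f h
      induction h with
      | @base R X f g hX hf hc hle he =>
        obtain ⟨ψ, hψ, hψe⟩ :=
          ((isMap_genSys d).2 (.base hX hf hc le_rfl fun _ _ => rfl) : IsMap (genSys d) X f).exists_hom
        have h1 : IsMap E' X f := ⟨ψ, hE' X hX hψ, hψe⟩
        exact (h1.res hle).congr fun x hx => (he x hx).symm
      | comp _ _ hm he ih₁ ih₂ => exact (ih₁.comp ih₂ hm).congr fun x hx => (he x hx).symm
    exact mem_hom_of_isMap (key ((isMap_genSys d).1 (isMap_toFun hφ))) fun x => (toFun_coe φ x).symm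
  · have hPF := (hciff P).1 hP
    obtain ⟨u, hu, x, hx, hxP, a, ha, hax⟩ := InvClass.exists_core_aut d.pgroup d.sat d.inv hPF
      fun h => hPn ⟨hPF, h⟩
    obtain ⟨b, hb, e, he, hue⟩ := d.hasDecomp hu
    have heF := he.mono (genSys_le d)
    have hbm : IsMap F S (autFun b⁻¹) := (mem_autGroup le_rfl).1 (inv_mem hb)
    have hP1S := hu.fimg_le_S
    have hQP : fimg (autFun b⁻¹) (fimg u P) = fimg e P := by
      rw [← hu.fimg_comp]
      exact fimg_congr fun z hz => by rw [hue z hz, autFun_inv_apply b (heF.apply_mem hz)]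
    set Q := fimg e P
    have hbP := hbm.res hP1S
    obtain ⟨c, hc, hcA⟩ := exists_mulEquiv hbP hQP
    haveI := finite_of_le hP1S
    haveI := finite_of_le heF.fimg_le_S
    let φ : ↥(F.autGroup (fimg u P)) →* ↥(F.autGroup Q) :=
      ((MulAut.congr c).toMonoidHom.comp (F.autGroup (fimg u P)).subtype).codRestrict _
        fun i => (hcA _).1 i.2
    have hφs : Function.Surjective φ := fun i => ⟨⟨(MulAut.congr c).symm i,
      (hcA _).2 (by rw [MulEquiv.apply_symm_apply]; exact i.2)⟩,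
      Subtype.ext ((MulAut.congr c).apply_symm_apply _)⟩
    have hcore : φ a ∈ pCore p ↥(F.autGroup Q) := Grp.le_pCore (Grp.pCore_isNormal.map φ hφs)
      ((Grp.pCore_isPGroup (p := p)).map φ) ⟨a, ha, rfl⟩
    have hxS := hx.1
    have hval : ∀ z : Q, (((φ a : MulAut Q) z : Q) : Ω) =
        autFun b⁻¹ x * z * (autFun b⁻¹ x)⁻¹ := fun z => by
      obtain ⟨y, rfl⟩ := c.surjective z
      show ((MulAut.congr c (a : MulAut (fimg u P)) (c y) : Q) : Ω) = _
      rw [show MulAut.congr c (a : MulAut (fimg u P)) (c y) = c ((a : MulAut (fimg u P)) y) by simp [MulAut.congr],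
        hc, hc, ← hbm.map_conj hxS (hP1S y.2), hax]
    have hy : autFun b⁻¹ x ∈ S := autFun_mem _ hxS
    have hind : (φ a : MulAut Q) ∈ autInducedBy S Q := mem_autInducedBy.2 ⟨_, hy, hval⟩
    refine ⟨Q, he.isConj, fun hle => hxP ?_⟩
    have hgen : (φ a : MulAut Q) ∈ (genSys d).autGroup Q :=
      autInducedBy_le_autGroup _ heF.fimg_le_S hind
    let ι : (genSys d).autGroup Q →* F.autGroup Q := Subgroup.inclusion (autGroup_mono (genSys_le d) Q)
    have hc2 : (⟨φ a, hgen⟩ : (genSys d).autGroup Q) ∈ pCore p ↥((genSys d).autGroup Q) :=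
      Grp.le_pCore ((Grp.pCore_isNormal (p := p) (G := ↥(F.autGroup Q))).comap ι)
        ((Grp.pCore_isPGroup (p := p)).comap_of_injective ι (Subgroup.inclusion_injective _))
        (show ι ⟨φ a, hgen⟩ ∈ pCore p ↥(F.autGroup Q) from hcore)
    obtain ⟨q, hq⟩ := hle ⟨hind, ⟨φ a, hgen⟩, hc2, rfl⟩
    have hcent : (q : Ω)⁻¹ * autFun b⁻¹ x ∈ centralizerIn S Q := by
      refine mem_centralizerIn.2 ⟨S.mul_mem (S.inv_mem (heF.fimg_le_S q.2)) hy, fun z hz => ?_⟩
      have h1 : (q : Ω) * z * (q : Ω)⁻¹ = autFun b⁻¹ x * z * (autFun b⁻¹ x)⁻¹ := by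
        rw [← hval ⟨z, hz⟩, ← hq]
        rfl
      calc z * ((q : Ω)⁻¹ * autFun b⁻¹ x) = (q : Ω)⁻¹ * ((q : Ω) * z * (q : Ω)⁻¹) * autFun b⁻¹ x := by
            group
        _ = (q : Ω)⁻¹ * autFun b⁻¹ x * z := by rw [h1]; group
    have hyQ : autFun b⁻¹ x ∈ fimg (autFun b⁻¹) (fimg u P) := by
      rw [hQP]
      simpa using Q.mul_mem q.2 ((centralizerIn_le_of_centric (centric_of_isConj hPF heF.isConj)) hcent)
    obtain ⟨z, hz, hze⟩ := hbP.mem_fimg_iff.1 hyQ
    exact hbm.injOn (hP1S hz) hxS hze ▸ hz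

/-- The subsystem is normal. -/
theorem genSys_isNormalIn (d : Setup F E p χ) : (genSys d).IsNormalIn F p :=
  isNormalIn_of_decomp d.sat (genSys_saturated d) (genSys_le d) d.hasDecomp fun hf hα =>
    (isMap_genSys d).2 (d.gen_twist hα ((isMap_genSys d).1 hf))

/-- With a nontrivial quotient the subsystem is proper. -/
theorem genSys_proper (d : Setup F E p χ) [Nontrivial Δ] :
    ¬ ∀ P : Subgroup Ω, (genSys d).Hom P = F.Hom P := by
  intro h
  obtain ⟨v, hv⟩ := exists_ne (1 : Δ)
  obtain ⟨b, hb, hbv⟩ := d.exists_lift v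
  obtain ⟨φ, hφ, hφe⟩ := ((mem_autGroup le_rfl).1 hb).exists_hom
  have hg : IsMap (genSys d) S (autFun b) := ⟨φ, (h S).symm ▸ hφ, hφe⟩
  exact hv (d.cls_unique (fam_self d.inv).2 hbv (((isMap_genSys d).1 hg).cls d))

/-- The automorphisms of `S` in the subsystem. -/
theorem mem_autGroup_genSys (d : Setup F E p χ) {α : MulAut S} :
    α ∈ (genSys d).autGroup S ↔ α ∈ F.autGroup S ∧ ∃ β : F.autGroup T, χ β = 1 ∧
      ∀ t ∈ T, autFun (β : MulAut T) t = autFun α t := by
  have hTS := d.inv.2.1.1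
  haveI := finite_of_le hTS
  constructor
  · intro hα
    refine ⟨autGroup_mono (genSys_le d) S hα, ?_⟩
    obtain ⟨α', e, he, hfe, hv⟩ := ((isMap_genSys d).1 ((mem_autGroup le_rfl).1 hα)).cls d
    rw [inf_eq_right.2 hTS] at he hfe
    obtain ⟨ε, hε, hεe⟩ := he.exists_aut (fimg_eq_self_of_source_top he)
    refine ⟨α' * ⟨ε, autGroup_mono d.inv.1 T hε⟩, ?_, fun t ht => ?_⟩
    · rw [map_mul, hv, d.kills ⟨ε, autGroup_mono d.inv.1 T hε⟩ hε, one_mul]
    · rw [hfe t ht, Subgroup.coe_mul, autFun_mul _ _ ht, hεe t ht]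
  · rintro ⟨hα, β, hβ, hβe⟩
    refine (mem_autGroup le_rfl).2 ((isMap_genSys d).2 (.base (fam_self d.inv)
      ((mem_autGroup le_rfl).1 hα) ⟨β, fun x => x, isMap_id E inf_le_right,
        fun x hx => (hβe x hx.2).symm, hβ⟩ le_rfl fun _ _ => rfl))

/-- A fully centralized subgroup joined with its centralizer is centric. -/
theorem centric_sup_centralizerIn {Q : Subgroup Ω} (hQ : F.IsFullyCentralized Q) :
    F.IsCentric (Q ⊔ centralizerIn S Q) := by
  have hCS : centralizerIn S Q ≤ S := inf_le_left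
  refine ⟨sup_le hQ.1 hCS, fun R hR => ?_⟩
  obtain ⟨f, hf, rfl⟩ := isConj_iff.1 hR
  haveI : Finite ↥(centralizerIn S (fimg f Q)) := finite_of_le (S := S) inf_le_left
  have h1 : fimg f (centralizerIn S Q) ≤ centralizerIn S (fimg f Q) := fimg_le fun c hc =>
    hf.map_centralizerIn le_sup_left (Subgroup.mem_sup_right hc) hc.2
  have h2 : fimg f (centralizerIn S Q) = centralizerIn S (fimg f Q) :=
    Subgroup.eq_of_le_of_card_ge h1
      ((hf.res le_sup_right).card_fimg.symm ▸ hQ.2 _ (hf.res le_sup_left).isConj)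
  refine le_trans (inf_le_inf_left S (Subgroup.centralizer_le (fimg_mono f le_sup_left))) ?_
  exact h2.ge.trans (fimg_mono f le_sup_right)

/-- The invariant subsystem lies in the subsystem. -/
theorem le_genSys (d : Setup F E p χ) : E.IsSubsystemOf (genSys d) := by
  have hTS := d.inv.2.1.1
  haveI := finite_of_le hTS
  have hTp := d.pgroup.to_le hTS
  have main : ∀ Q, E.IsCentric Q → F.IsFullyNormalized Q → ∀ α ∈ E.autGroup Q,
      Gen χ E Q (autFun α) := by
    intro Q hQ hQn α hα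
    have hαE := (mem_autGroup hQ.1).1 hα
    have hfc := fullyCentralized_of_fullyNormalized d.pgroup d.sat hQn
    obtain ⟨a, ha, hae⟩ := receptive_extend (receptive_of_fullyNormalized d.pgroup d.sat hQn)
      (hαE.mono d.inv.1) (fimg_autFun α) (N := Q ⊔ centralizerIn S Q) (fun g hg => by
        refine ⟨sup_le (le_normalizerIn hQn.1) (centralizerIn_le_normalizerIn Q) hg, ?_⟩
        have hN : Q ⊔ centralizerIn S Q ≤
            extender S Q (Classical.choose (hαE.mono d.inv.1)) := by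
          have hspec := Classical.choose_spec (hαE.mono d.inv.1)
          refine sup_le (le_extender hspec.1) fun c hc => ?_
          obtain ⟨hcS, hcc⟩ := mem_centralizerIn.1 hc
          refine mem_extender.2 ⟨hcS, (centralizerIn_le_normalizerIn Q hc).2, 1, S.one_mem,
            fun x hx => ?_⟩
          rw [show c * x * c⁻¹ = x by rw [← hcc x hx, mul_inv_cancel_right]]
          simp
        obtain ⟨-, h2, k, hk, hke⟩ := mem_extender.1 (hN hg)
        refine ⟨k, hk, fun x hx => ?_⟩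
        have hgx := (Subgroup.mem_normalizer_iff.1 h2 x).1 hx
        have h3 := hke x hx
        rwa [toFun_apply _ hgx, toFun_apply _ hx, (Classical.choose_spec (hαE.mono d.inv.1)).2,
          (Classical.choose_spec (hαE.mono d.inv.1)).2] at h3) le_sup_left
    have hfam : Fam F E (Q ⊔ centralizerIn S Q) :=
      ⟨centric_sup_centralizerIn hfc, centric_mono hQ (le_inf le_sup_left hQ.1) inf_le_right⟩
    obtain ⟨w, hw⟩ := d.exists_cls ha
    have hQT : Q ⊓ T = Q := inf_eq_left.2 hQ.1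
    obtain rfl : w = 1 := d.cls_unique (hQT.symm ▸ hQ) ((hw.res le_sup_left).congr hae)
      ⟨1, autFun α, hαE.res inf_le_left,
        fun x hx => (autFun_one (hαE.apply_mem (show x ∈ Q from hx.1))).symm, map_one χ⟩
    exact .base hfam ha hw le_sup_left fun x hx => (hae x hx).symm
  intro P φ hφ
  have key : Gen χ E P (toFun φ) := by
    refine alperin hTp d.esat (fun P f => Gen χ E P f) (fun P f g h e => h.congr e)
      (fun P Q f g _ _ hm h h' => .comp h h' hm fun _ _ => rfl)
      (fun P Q f _ hPQ h => h.res hPQ) ?_ ?_ (isMap_toFun hφ)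
    · intro α hα
      refine main T (centric_self E) ⟨hTS, fun Q hQ => ?_⟩ α hα
      obtain ⟨g, hg, rfl⟩ := isConj_iff.1 hQ
      haveI : Finite ↥(fimg g T) := finite_of_le hg.fimg_le_S
      rw [Subgroup.eq_of_le_of_card_ge (fimg_le fun x hx => StronglyClosed.apply_mem d.inv.2.1 hg
        le_rfl hx) hg.card_fimg.ge]
    · intro Q hQ α hα
      obtain ⟨e, he, hn⟩ := exists_fullyNormalized_of_decomp (genSys_le d) d.hasDecomp
        (hQ.1.1.trans hTS)
      have heF := he.mono (genSys_le d)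
      have he' := (isMap_genSys d).1 he
      obtain ⟨g, hg, hg1, hg2, -⟩ := heF.exists_inv
      obtain ⟨c, hc, -⟩ := exists_mulEquiv heF rfl
      have h1 := main _ (InvClass.centric_transport d.inv hQ.1 heF) hn _
        (InvClass.congr_autGroup d.inv hQ.1.1 heF rfl c hc hα)
      refine .comp (.comp he' h1 (fun x hx => apply_mem_fimg e hx) fun _ _ => rfl)
        (d.gen_inv he' g hg1) (fun x hx => autFun_mem _ (apply_mem_fimg e hx)) fun x hx => ?_
      show autFun α x = g (autFun (MulAut.congr c α) (e x))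
      rw [show autFun α x = ((α ⟨x, hx⟩ : Q) : Ω) from autFun_coe α ⟨x, hx⟩, ← hc ⟨x, hx⟩,
        autFun_coe, show MulAut.congr c α (c ⟨x, hx⟩) = c (α ⟨x, hx⟩) by simp [MulAut.congr], hc,
        hg1 _ (α ⟨x, hx⟩).2]
  exact mem_hom_of_isMap ((isMap_genSys d).2 key) fun x => (toFun_coe φ x).symm

end Cfsg.Agent.Fus.PrimeQuot
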