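import Mathlib
import Cfsg.Agent.Lib.Fus.ClassInvariance
import Cfsg.Agent.Lib.Fus.LimitMonotone
import Cfsg.Agent.Lib.Fus.FocalCentralizer
import Cfsg.Agent.Lib.Fus.PrimeQuotientMain
import Cfsg.Agent.Lib.Fus.PPowerChain

/-!
Levels between a system and the envelope of a normal subsystem, and the passage from one level to
the next.
-/

set_option autoImplicit false
set_option linter.style.haveILetI false
set_option linter.unusedSectionVars false
set_option linter.unusedVariables false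

open scoped Classical Pointwise commutatorElement

universe u

namespace Cfsg.Agent.Fus.Envelope

open Subgroup FusionSystem ClassInv

variable {Ω : Type u} [Group Ω] {S T R : Subgroup Ω} {F : FusionSystem S} {E : FusionSystem T}
  {G : FusionSystem R} {p : ℕ}

/-- A level of the descent from `F`: a system with automizer `K` on `T`. -/
structure Level (F : FusionSystem S) (E : FusionSystem T) (p : ℕ) {R : Subgroup Ω}
    (G : FusionSystem R) (K : Subgroup (MulAut T)) : Prop where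
  inv : G.IsInvariantIn F
  sat : G.IsSaturated p
  normal : E.IsNormalIn G p
  aut : G.autGroup T = K
  carrier_eq : R = carrier S T K
  lim : ∀ (U : Subgroup Ω) (H : FusionSystem U), H.IsResidualLimitOf F p → H.IsSubsystemOf G

/-- A subgroup of `Aut_F(T)` containing `Aut_E(T)` and normalized by `Aut_F(T)`. -/
structure Mid (F : FusionSystem S) (E : FusionSystem T) (K : Subgroup (MulAut T)) : Prop where
  ge : E.autGroup T ≤ K
  le : K ≤ F.autGroup T
  conj : ∀ γ ∈ F.autGroup T, ∀ k ∈ K, γ * k * γ⁻¹ ∈ K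

theorem cls_mem_of_mem {t : Ω} (ht : t ∈ T) : cls T t ∈ E.autGroup T :=
  autInducedBy_le_autGroup E le_rfl
    (mem_autInducedBy.2 ⟨t, ht, fun y => cls_apply (Subgroup.le_normalizer ht) y⟩)

theorem Mid.inn {K : Subgroup (MulAut T)} (h : Mid F E K) : ∀ t ∈ T, cls T t ∈ K :=
  fun _ ht => h.ge (cls_mem_of_mem ht)

theorem cls_eq_one {x : Ω} (hx : x ∈ centralizerIn S T) : cls T x = 1 := by
  have hN : x ∈ Subgroup.normalizer (T : Set Ω) := Subgroup.centralizer_le_normalizer _ hx.2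
  refine mulAut_ext fun y hy => ?_
  rw [autFun_one hy, show autFun (cls T x) y = x * y * x⁻¹ from
    (autFun_coe (cls T x) ⟨y, hy⟩).trans (cls_apply hN _)]
  rw [← (mem_centralizerIn.1 hx).2 y hy, mul_inv_cancel_right]

theorem le_carrier_sup (hT : F.StronglyClosed T) {K : Subgroup (MulAut T)} (h : Mid F E K) :
    T ⊔ centralizerIn S T ≤ carrier S T K := by
  have hN := le_normalizer_of_stronglyClosed hT
  refine sup_le (fun t ht => (mem_carrier hN).2 ⟨hT.1 ht, h.inn t ht⟩) fun c hc =>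
    (mem_carrier hN).2 ⟨hc.1, ?_⟩
  rw [cls_eq_one hc]
  exact one_mem K

/-- A system is invariant in itself. -/
theorem invariant_self (F : FusionSystem S) [Finite S] : F.IsInvariantIn F := by
  refine ResInv.isInvariantIn_of_twist (fun P => subset_rfl)
    ⟨le_rfl, fun R _ φ hφ x => (F.le_of_mem hφ).2 x⟩ (fun {α} hα {P f} hf => ?_) fun {P f} _ hf => ?_
  · have hαm : IsMap F S (autFun α) := (mem_autGroup le_rfl).1 hα
    obtain ⟨a', ha', ha1, ha2, -⟩ := (hαm.res hf.source_le).exists_inv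
    refine ⟨_, (ha'.comp hf fun y hy => (ha2 y hy).1).comp hαm
      fun y hy => hf.apply_mem (ha2 y hy).1, fun x hx => ?_⟩
    show autFun α (f (a' (autFun α x))) = _
    rw [ha1 x hx]
  · exact ⟨1, one_mem _, f, hf, fun x hx => (autFun_one (hf.apply_mem hx)).symm⟩

/-- An invariant saturated subsystem whose support contains its centralizer is normal. -/
theorem isNormalIn_of_selfCentralizing [Finite S] [Fact p.Prime] (hF : F.IsSaturated p)
    (hG : G.IsInvariantIn F) (hGs : G.IsSaturated p) (hC : centralizerIn S R ≤ R) :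
    G.IsNormalIn F p := by
  have hRS := hG.2.1.1
  haveI : Finite R := finite_of_le hRS
  refine ⟨⟨hGs, hF, hG⟩, fun α hα => ?_⟩
  have e : R ⊔ centralizerIn S R = R := sup_eq_left.2 hC
  have hαm : IsMap F R (autFun α) := ((mem_autGroup le_rfl).1 hα).mono hG.1
  have hUS : R ⊔ centralizerIn S R ≤ S := e.le.trans hRS
  haveI : Finite ↥(R ⊔ centralizerIn S R) := finite_of_le hUS
  have hm : IsMap F (R ⊔ centralizerIn S R) (autFun α) := hαm.res e.le
  obtain ⟨β, hβ, hβe⟩ := hm.exists_aut (Subgroup.eq_of_le_of_card_ge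
    (fimg_le fun x hx => Subgroup.mem_sup_left (autFun_mem α (e.le hx))) hm.card_fimg.ge)
  refine ⟨β, hβ, fun x => ?_, fun c hc => ?_⟩
  · rw [← autFun_coe β, ← autFun_coe α x]
    exact hβe _ (Subgroup.mem_sup_left x.2)
  · rw [← autFun_coe β, hβe _ c.2]
    have h1 := hαm.map_centralizerIn (P := R) le_rfl (hC hc) (mem_centralizerIn.1 hc).2
    rw [fimg_autFun] at h1
    exact ⟨R.mul_mem (R.inv_mem (hC hc)) (hC h1),
      (Subgroup.mul_mem _ (Subgroup.inv_mem _ hc) h1).2⟩

variable [Finite S] [Fact p.Prime]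

theorem stronglyClosed_fullyNormalized (hT : F.StronglyClosed T) : F.IsFullyNormalized T := by
  refine ⟨hT.1, fun Q hQ => ?_⟩
  obtain ⟨g, hg, rfl⟩ := isConj_iff.1 hQ
  rw [fimg_stronglyClosed hT hg le_rfl]

/-- The first level. -/
theorem level_top (hS : IsPGroup p S) (hF : F.IsSaturated p) (hE : E.IsNormalIn F p) :
    Level F E p F (F.autGroup T) := by
  have hT := hE.1.2.2.2.1
  have hN := le_normalizer_of_stronglyClosed hT
  refine ⟨invariant_self F, hF, hE, rfl, le_antisymm (fun s hs => (mem_carrier hN).2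
    ⟨hs, cls_mem_autGroup hT hs⟩) (carrier_le _), fun U H h => ?_⟩
  exact (ResInv.limit_props h hS hF (invariant_self F)).2.1.1

/-- The normal subsystem stays normal in a smaller level. -/
theorem normal_descend (hS : IsPGroup p S) (hGF : G.IsSubsystemOf F) (hRS : R ≤ S)
    (hE : E.IsNormalIn G p) {R₁ : Subgroup Ω} {G₁ : FusionSystem R₁} (hG₁ : G₁.IsSaturated p)
    (hle : G₁.IsSubsystemOf G) (hEG₁ : E.IsSubsystemOf G₁)
    (hC : centralizerIn R₁ T = centralizerIn R T)
    (hβ : ∀ β : MulAut ↥(T ⊔ centralizerIn R T), β ∈ G.autGroup (T ⊔ centralizerIn R T) →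
      (orderOf β).Coprime p → (∃ α ∈ E.autGroup T, ∀ x ∈ T, autFun β x = autFun α x) →
      IsMap G₁ (T ⊔ centralizerIn R T) (autFun β)) : E.IsNormalIn G₁ p := by
  obtain ⟨⟨hEs, hGs, hEinv⟩, hext⟩ := hE
  have hTG := hEinv.2.1
  haveI : Finite R := finite_of_le hRS
  have hR₁R : R₁ ≤ R := ((isMap_id G₁ le_rfl).mono hle).source_le
  haveI : Finite R₁ := finite_of_le (hR₁R.trans hRS)
  haveI : Finite T := finite_of_le (hTG.1.trans hRS)
  have hTp : IsPGroup p T := hS.to_le (hTG.1.trans hRS)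
  have hTR₁ : T ≤ R₁ := ((isMap_id E le_rfl).mono hEG₁).source_le
  have hT₁ : G₁.StronglyClosed T := stronglyClosed_of_forall hTR₁
    fun P hP f hf x hx => StronglyClosed.apply_mem hTG (hf.mono hle) hP hx
  have hsi : StrongInv G₁ E := fun P Q f u hPQ hQT hf hm hu =>
    ResInv.strongInv_of_invariant hEinv P Q f u hPQ hQT hf hm (hu.mono hle)
  refine ⟨⟨hEs, hG₁, ResInv.isInvariantIn_of_strongInv hEG₁ hT₁ hsi
    fun hP hf => dec_of_strongInv (hS.to_le (hR₁R.trans hRS)) hG₁ hsi hT₁ hP hf⟩, fun α hα => ?_⟩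
  suffices h : ∀ C : Subgroup Ω, C = centralizerIn R T → ∃ β ∈ G₁.autGroup (T ⊔ C),
      (∀ x : T, ((β (Subgroup.inclusion le_sup_left x) : ↥(T ⊔ C)) : Ω) = ((α x : T) : Ω)) ∧
      ∀ c : ↥(T ⊔ C), (c : Ω) ∈ C →
        (c : Ω)⁻¹ * ((β c : ↥(T ⊔ C)) : Ω) ∈ T ⊓ Subgroup.centralizer (T : Set Ω) from h _ hC
  rintro C rfl
  set U := T ⊔ centralizerIn R T with hUdef
  have hUR : U ≤ R := sup_le hTG.1 inf_le_left
  haveI : Finite U := finite_of_le hUR
  have hUR₁ : U ≤ R₁ := sup_le hTR₁ (hC ▸ inf_le_left)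
  set Z := T ⊓ Subgroup.centralizer (T : Set Ω) with hZdef
  let Good : MulAut T → Prop := fun a => ∃ β, IsMap G₁ U β ∧ (∀ y ∈ T, β y = autFun a y) ∧
    ∀ c ∈ centralizerIn R T, c⁻¹ * β c ∈ Z
  have hmul : ∀ a b, Good a → Good b → Good (a * b) := by
    rintro a b ⟨β, hβ', h1, h2⟩ ⟨δ, hδ, k1, k2⟩
    have hshift : ∀ c ∈ centralizerIn R T, ∃ w ∈ Z, δ c = c * w := fun c hc =>
      ⟨_, k2 c hc, by group⟩
    have hm : ∀ z ∈ U, δ z ∈ U := fun z hz => by
      have h := apply_mem_fimg δ hz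
      rw [hδ.fimg_sup] at h
      refine sup_le (fimg_le fun y hy => Subgroup.mem_sup_left
        ((k1 y hy).symm ▸ autFun_mem b hy)) (fimg_le fun c hc => ?_) h
      obtain ⟨w, hw, e⟩ := hshift c hc
      rw [e]
      exact mul_mem (Subgroup.mem_sup_right hc) (Subgroup.mem_sup_left hw.1)
    refine ⟨_, hδ.comp hβ' hm, fun y hy => ?_, fun c hc => ?_⟩
    · show β (δ y) = _
      rw [k1 y hy, h1 _ (autFun_mem b hy), autFun_mul _ _ hy]
    · obtain ⟨w, hw, e⟩ := hshift c hc
      show c⁻¹ * β (δ c) ∈ Z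
      rw [e, hβ'.map_mul (Subgroup.mem_sup_right hc) (Subgroup.mem_sup_left hw.1), ← mul_assoc]
      refine mul_mem (h2 c hc) ⟨(h1 w hw.1).symm ▸ autFun_mem a hw.1, ?_⟩
      have h3 := hβ'.map_centralizerIn (P := T) le_sup_left (Subgroup.mem_sup_left hw.1) hw.2
      rw [fimg_stronglyClosed hT₁ hβ' le_sup_left] at h3
      exact h3.2
  have hone : Good 1 := ⟨fun x => x, isMap_id G₁ hUR₁, fun y hy => (autFun_one hy).symm,
    fun c _ => by rw [inv_mul_cancel]; exact one_mem _⟩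
  have hpow : ∀ {a : MulAut T}, Good a → ∀ k : ℕ, Good (a ^ k) := fun ha k => by
    induction k with
    | zero => rw [pow_zero]; exact hone
    | succ k ih => rw [pow_succ]; exact hmul _ _ ih ha
  have hgen : ∀ a : E.autGroup T, (orderOf a).Coprime p → Good (a : MulAut T) := by
    intro a ha
    obtain ⟨B, hB, hBT, hBC⟩ := hext a a.2
    have hBm : IsMap G U (autFun B) := (mem_autGroup hUR).1 hB
    have hBe : ∀ x ∈ T, autFun B x = autFun (a : MulAut T) x := fun x hx => by
      rw [show autFun (a : MulAut T) x = (((a : MulAut T) ⟨x, hx⟩ : T) : Ω) from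
        autFun_coe (a : MulAut T) ⟨x, hx⟩, ← hBT ⟨x, hx⟩]
      exact autFun_coe B ⟨x, Subgroup.mem_sup_left hx⟩
    have hZa : ∀ z ∈ Z, autFun B z ∈ Z := fun z hz => by
      have h3 := hBm.map_centralizerIn (P := T) le_sup_left (Subgroup.mem_sup_left hz.1) hz.2
      rw [fimg_stronglyClosed hTG hBm le_sup_left] at h3
      exact ⟨(hBe z hz.1).symm ▸ autFun_mem _ hz.1, h3.2⟩
    have hshift : ∀ i : ℕ, ∀ c ∈ centralizerIn R T, c⁻¹ * autFun (B ^ i) c ∈ Z := by
      intro i c hc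
      have hcU : c ∈ U := Subgroup.mem_sup_right hc
      induction i with
      | zero => rw [pow_zero, autFun_one hcU, inv_mul_cancel]; exact one_mem _
      | succ i ih =>
        obtain ⟨z, hz, hze⟩ : ∃ z ∈ Z, autFun (B ^ i) c = c * z := ⟨_, ih, by group⟩
        rw [pow_succ', autFun_mul _ _ hcU, hze, hBm.map_mul hcU (Subgroup.mem_sup_left hz.1),
          ← mul_assoc]
        refine mul_mem ?_ (hZa z hz)
        rw [show autFun B c = ((B ⟨c, hcU⟩ : U) : Ω) from autFun_coe B ⟨c, hcU⟩]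
        exact hBC ⟨c, hcU⟩ hc
    obtain ⟨j, m, hm, hn⟩ :=
      Nat.exists_eq_pow_mul_and_not_dvd (orderOf_pos B).ne' p (Fact.out : p.Prime).ne_one
    have hmp : m.Coprime p := ((Fact.out : p.Prime).coprime_iff_not_dvd.2 hm).symm
    obtain ⟨s, hs⟩ := exists_pow_eq_self_of_coprime
      ((ha.pow_right j).symm : (p ^ j).Coprime (orderOf a))
    have hγm : (B ^ (p ^ j * s)) ^ m = 1 := by
      rw [← pow_mul, show p ^ j * s * m = p ^ j * m * s by ring, pow_mul, ← hn, pow_orderOf_eq_one,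
        one_pow]
    have hs' : (a : MulAut T) ^ (p ^ j * s) = a := by
      rw [pow_mul, ← SubmonoidClass.coe_pow, ← SubmonoidClass.coe_pow, hs]
    have hγT : ∀ y ∈ T, autFun (B ^ (p ^ j * s)) y = autFun (a : MulAut T) y := fun y hy => by
      rw [autFun_pow_eq le_sup_left hBe _ y hy, hs']
    exact ⟨_, hβ _ (pow_mem hB _)
      (Nat.Coprime.coprime_dvd_left (orderOf_dvd_of_pow_eq_one hγm) hmp) ⟨a, a.2, hγT⟩,
      hγT, hshift _⟩
  obtain ⟨g, hg, ρ, hρ, e⟩ :=
    aut_decomp (fullyAutomized_of_fullyNormalized hTp hEs (fullyNormalized_self E)) ⟨α, hα⟩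
  have hρG : Good (ρ : MulAut T) := by
    refine Subgroup.closure_induction (p := fun (a : E.autGroup T) _ => Good (a : MulAut T))
      (fun a ha => hgen a ha) hone (fun a b _ _ ha hb => hmul _ _ ha hb) (fun a _ ha => ?_) hρ
    show Good ((a : MulAut T))⁻¹
    rw [inv_eq_of_mul_eq_one_right
      (show (a : MulAut T) * (a : MulAut T) ^ (orderOf (a : MulAut T) - 1) = 1 by
        rw [← pow_succ', Nat.sub_add_cancel (orderOf_pos _), pow_orderOf_eq_one])]
    exact hpow ha _
  obtain ⟨β, hβ', hβT, hβC⟩ := hρG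
  have hm : ∀ z ∈ U, β z ∈ U := fun z hz => by
    have h := apply_mem_fimg β hz
    rw [hβ'.fimg_sup] at h
    refine sup_le (fimg_le fun y hy => Subgroup.mem_sup_left
      ((hβT y hy).symm ▸ autFun_mem _ hy)) (fimg_le fun c hc => ?_) h
    have h2 := mul_mem (Subgroup.mem_sup_right hc : c ∈ U) (Subgroup.mem_sup_left (hβC c hc).1)
    rwa [mul_inv_cancel_left] at h2
  have hgU : g ∈ U := Subgroup.mem_sup_left hg
  have hmap := hβ'.comp (isMap_conj G₁ hUR₁ (hTR₁ hg)) hm
  obtain ⟨B, hB, hBe⟩ := hmap.exists_aut (Subgroup.eq_of_le_of_card_ge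
    (fimg_le fun z hz => mul_mem (mul_mem hgU (hm z hz)) (inv_mem hgU)) hmap.card_fimg.ge)
  refine ⟨B, hB, fun x => ?_, fun c hc => ?_⟩
  · rw [← autFun_coe B, ← autFun_coe α x, e x x.2, ← hβT x x.2]
    exact hBe x (Subgroup.mem_sup_left x.2)
  · rw [← autFun_coe B, hBe c c.2]
    have hcc : β (c : Ω) ∈ centralizerIn R₁ T := by
      rw [hC]
      have h1 := hβ'.map_centralizerIn (P := T) le_sup_left c.2 (mem_centralizerIn.1 hc).2
      rwa [fimg_stronglyClosed hT₁ hβ' le_sup_left, hC] at h1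
    show (c : Ω)⁻¹ * (g * β c * g⁻¹) ∈ Z
    rw [(mem_centralizerIn.1 hcc).2 g hg, mul_inv_cancel_right]
    exact hβC c hc

end Cfsg.Agent.Fus.Envelope
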