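import Mathlib
import Cfsg.Agent.Lib.Fus.FocalCentralizer
import Cfsg.Agent.Lib.Fus.Alperin

/-!
The maps of a normal subsystem over `T` fix the focal subgroup of `C_F(T)`.
-/

set_option autoImplicit false
set_option linter.style.haveILetI false
set_option linter.unusedSectionVars false

open scoped Classical Pointwise

universe u

namespace Cfsg.Agent.Fus.FocalCent

open Subgroup FusionSystem

variable {Ω : Type u} [Group Ω] {S T : Subgroup Ω} {F : FusionSystem S} {E : FusionSystem T}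
  {p : ℕ}

/-- The map extends to `P ⊔ X` fixing `X`. -/
def Fixes (F : FusionSystem S) (X P : Subgroup Ω) (f : Ω → Ω) : Prop :=
  ∃ g, IsMap F (P ⊔ X) g ∧ (∀ x ∈ P, g x = f x) ∧ ∀ y ∈ X, g y = y

variable {X : Subgroup Ω}

theorem Fixes.congr {P : Subgroup Ω} {f f' : Ω → Ω} (h : Fixes F X P f)
    (e : ∀ x ∈ P, f x = f' x) : Fixes F X P f' :=
  let ⟨g, hg, h1, h2⟩ := h; ⟨g, hg, fun x hx => (h1 x hx).trans (e x hx), h2⟩

theorem Fixes.res {P R : Subgroup Ω} {f : Ω → Ω} (h : Fixes F X R f) (hPR : P ≤ R) :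
    Fixes F X P f :=
  let ⟨g, hg, h1, h2⟩ := h; ⟨g, hg.res (sup_le_sup_right hPR X), fun x hx => h1 x (hPR hx), h2⟩

theorem Fixes.map_mem {P Q : Subgroup Ω} {f g : Ω → Ω} (hg : IsMap F (P ⊔ X) g)
    (h1 : ∀ x ∈ P, g x = f x) (h2 : ∀ y ∈ X, g y = y) (hm : ∀ x ∈ P, f x ∈ Q) :
    ∀ z ∈ P ⊔ X, g z ∈ Q ⊔ X := fun z hz => by
  have h := apply_mem_fimg g hz
  rw [hg.fimg_sup, fimg_eq_self_of_forall h2] at h
  refine (sup_le ?_ le_sup_right : fimg g P ⊔ X ≤ _) h
  exact fimg_le fun w hw => Subgroup.mem_sup_left ((h1 w hw).symm ▸ hm w hw)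

theorem Fixes.comp {P Q : Subgroup Ω} {f f' : Ω → Ω} (h : Fixes F X P f) (h' : Fixes F X Q f')
    (hm : ∀ x ∈ P, f x ∈ Q) : Fixes F X P (fun x => f' (f x)) := by
  obtain ⟨g, hg, h1, h2⟩ := h
  obtain ⟨g', hg', h1', h2'⟩ := h'
  refine ⟨_, hg.comp hg' (Fixes.map_mem hg h1 h2 hm), fun x hx => ?_, fun y hy => ?_⟩
  · show g' (g x) = f' (f x)
    rw [h1 x hx, h1' _ (hm x hx)]
  · show g' (g y) = y
    rw [h2 y hy, h2' y hy]

/-- The good automorphisms form a subgroup. -/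
def goodAuts (F : FusionSystem S) (X Q : Subgroup Ω) (h : Q ⊔ X ≤ S) : Subgroup (MulAut Q) where
  carrier := {α | Fixes F X Q (autFun α)}
  one_mem' := ⟨fun x => x, isMap_id F h, fun x hx => (autFun_one hx).symm, fun _ _ => rfl⟩
  mul_mem' {a b} ha hb :=
    (hb.comp ha fun x hx => autFun_mem b hx).congr fun x hx => (autFun_mul a b hx).symm
  inv_mem' := by
    rintro a ⟨g, hg, h1, h2⟩
    obtain ⟨g', hg', hg1, -, -⟩ := hg.exists_inv
    rw [hg.fimg_sup, fimg_congr h1, fimg_autFun, fimg_eq_self_of_forall h2] at hg'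
    refine ⟨g', hg', fun x hx => ?_, fun y hy => ?_⟩
    · have h3 := hg1 _ (Subgroup.mem_sup_left (autFun_mem a⁻¹ hx))
      rwa [h1 _ (autFun_mem a⁻¹ hx), ← autFun_mul _ _ hx, mul_inv_cancel, autFun_one hx] at h3
    · conv_lhs => rw [← h2 y hy]
      exact hg1 y (Subgroup.mem_sup_right hy)

theorem mem_goodAuts {Q : Subgroup Ω} {h : Q ⊔ X ≤ S} {α : MulAut Q} :
    α ∈ goodAuts F X Q h ↔ Fixes F X Q (autFun α) := Iff.rfl

variable [Fact p.Prime] [Finite S]

/-- An automorphism of a fully normalized subgroup extends over its centralizer. -/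
theorem exists_ext (hS : IsPGroup p S) (hF : F.IsSaturated p) {Q : Subgroup Ω}
    (hQ : F.IsFullyNormalized Q) {γ : MulAut Q} (hγ : γ ∈ F.autGroup Q) :
    ∃ g, IsMap F (Q ⊔ centralizerIn S Q) g ∧ (∀ x ∈ Q, g x = autFun γ x) ∧
      fimg g Q = Q ∧ ∀ c ∈ centralizerIn S Q, g c ∈ centralizerIn S Q := by
  have hQS := hQ.1
  have hγm := (mem_autGroup hQS).1 hγ
  obtain ⟨g, hg, hge⟩ := receptive_extend (receptive_of_fullyNormalized hS hF hQ) hγm
    (fimg_autFun γ) (N := Q ⊔ centralizerIn S Q) (fun z hz => by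
      refine ⟨sup_le (le_normalizerIn hQS) (centralizerIn_le_normalizerIn Q) hz, ?_⟩
      obtain ⟨q, hq, c, hc, rfl⟩ : z ∈ (Q : Set Ω) * (centralizerIn S Q : Set Ω) := by
        rw [← Subgroup.coe_mul_of_right_le_normalizer_left Q (centralizerIn S Q)
          ((centralizerIn_le_normalizerIn (S := S) Q).trans inf_le_right)]
        exact hz
      refine ⟨autFun γ q, hQS (autFun_mem _ hq), fun x hx => ?_⟩
      rw [show q * c * x * (q * c)⁻¹ = q * (c * x * c⁻¹) * q⁻¹ by group,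
        show c * x * c⁻¹ = x by rw [← (mem_centralizerIn.1 hc).2 x hx, mul_inv_cancel_right],
        hγm.map_conj hq hx]) le_sup_left
  have hgQ : fimg g Q = Q := by rw [fimg_congr hge, fimg_autFun]
  refine ⟨g, hg, hge, hgQ, fun c hc => ?_⟩
  have h1 := hg.map_centralizerIn le_sup_left (Subgroup.mem_sup_right hc) hc.2
  rwa [hgQ] at h1

/-- The maps of a normal subsystem fix a subgroup of `C_S(T)` that is stable under the
automorphisms of `T C_S(T)`, is fixed by the suitable automorphisms of `T C_S(T)` of order prime to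
`p`, and commutes, after an automorphism of a centric subgroup, with the normalizer in `T`. -/
theorem fixes_of_stable (hS : IsPGroup p S) (hF : F.IsSaturated p) (hE : E.IsNormalIn F p)
    {X : Subgroup Ω} (hXC : X ≤ centralizerIn S T)
    (hXγ : ∀ γ : Ω → Ω, IsMap F (T ⊔ centralizerIn S T) γ → fimg γ T = T →
      (∀ c ∈ centralizerIn S T, γ c ∈ centralizerIn S T) → ∀ y ∈ X, γ y ∈ X)
    (hXtop : ∀ (α : MulAut T), α ∈ E.autGroup T → ∀ β : MulAut ↥(T ⊔ centralizerIn S T),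
      β ∈ F.autGroup (T ⊔ centralizerIn S T) → (∀ x ∈ T, autFun β x = autFun α x) →
      (∀ c ∈ centralizerIn S T, c⁻¹ * autFun β c ∈ T ⊓ Subgroup.centralizer (T : Set Ω)) →
      ∀ m : ℕ, m.Coprime p → β ^ m = 1 → ∀ y ∈ X, autFun β y = y)
    (hXloc : ∀ Q₀ : Subgroup Ω, Q₀ ≤ T → E.IsCentric Q₀ → F.IsFullyNormalized Q₀ →
      ∀ b ∈ E.autGroup Q₀, ∀ b' : Ω → Ω, IsMap F (Q₀ ⊔ centralizerIn S Q₀) b' →
        (∀ x ∈ Q₀, b' x = autFun b x) →
        ∀ t ∈ normalizerIn T Q₀, ∀ y ∈ X, t * b' y * t⁻¹ = b' y)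
    {P : Subgroup Ω} {f : Ω → Ω} (hf : IsMap E P f) :
    Fixes F X P f := by
  obtain ⟨⟨hEs, -, hinv⟩, hext⟩ := hE
  have hEF := hinv.1
  have hT := hinv.2.1
  have hTS := hT.1
  haveI : Finite T := finite_of_le hTS
  have hTp : IsPGroup p T := hS.to_le hTS
  have hXS : X ≤ S := hXC.trans inf_le_left
  haveI : Finite ↥X := finite_of_le hXS
  have hTn : F.IsFullyNormalized T := by
    refine ⟨hTS, fun Q hQ => ?_⟩
    obtain ⟨g, hg, rfl⟩ := isConj_iff.1 hQ
    haveI : Finite ↥(fimg g T) := finite_of_le hg.fimg_le_S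
    rw [Subgroup.eq_of_le_of_card_ge (fimg_le fun x hx => StronglyClosed.apply_mem hT hg
      le_rfl hx) hg.card_fimg.ge]
  have htfix : ∀ {Q : Subgroup Ω}, Q ≤ S → ∀ {t : Ω}, t ∈ T → ∀ {c : MulAut Q},
      (∀ x : Q, (c x : Ω) = t * x * t⁻¹) → Fixes F X Q (autFun c) := by
    intro Q hQS t ht c hc
    refine ⟨fun x => t * x * t⁻¹, isMap_conj F (sup_le hQS hXS) (hTS ht), fun x hx => ?_,
      fun y hy => ?_⟩
    · rw [show autFun c x = ((c ⟨x, hx⟩ : Q) : Ω) from autFun_coe c ⟨x, hx⟩, hc]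
    · show t * y * t⁻¹ = y
      rw [(mem_centralizerIn.1 (hXC hy)).2 t ht, mul_inv_cancel_right]
  -- the automorphisms of `T`
  have htop : ∀ α ∈ E.autGroup T, Fixes F X T (autFun α) := by
    intro α hα
    obtain ⟨β, hβ, hβT, hβC⟩ := hext α hα
    have hBS : T ⊔ centralizerIn S T ≤ S := sup_le hTS inf_le_left
    haveI : Finite ↥(T ⊔ centralizerIn S T) := finite_of_le hBS
    have hβm : IsMap F (T ⊔ centralizerIn S T) (autFun β) := (mem_autGroup hBS).1 hβ
    have hβe : ∀ x ∈ T, autFun β x = autFun α x := fun x hx => by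
      rw [show autFun α x = ((α ⟨x, hx⟩ : T) : Ω) from autFun_coe α ⟨x, hx⟩, ← hβT ⟨x, hx⟩]
      exact autFun_coe β ⟨x, Subgroup.mem_sup_left hx⟩
    have hαm : IsMap F T (autFun α) := ((mem_autGroup le_rfl).1 hα).mono hEF
    have hZα : ∀ z ∈ T ⊓ Subgroup.centralizer (T : Set Ω),
        autFun α z ∈ T ⊓ Subgroup.centralizer (T : Set Ω) := fun z hz => by
      refine ⟨autFun_mem α hz.1, Subgroup.mem_centralizer_iff.2 fun y hy => ?_⟩
      obtain ⟨w, hw, rfl⟩ := hαm.mem_fimg_iff.1 ((fimg_autFun α).symm ▸ hy : y ∈ fimg (autFun α) T)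
      rw [← hαm.map_mul hw hz.1, ← hαm.map_mul hz.1 hw, Subgroup.mem_centralizer_iff.1 hz.2 w hw]
    have hshift : ∀ i : ℕ, ∀ c ∈ centralizerIn S T,
        c⁻¹ * autFun (β ^ i) c ∈ T ⊓ Subgroup.centralizer (T : Set Ω) := by
      intro i c hc
      have hcB : c ∈ T ⊔ centralizerIn S T := Subgroup.mem_sup_right hc
      induction i with
      | zero => rw [pow_zero, autFun_one hcB, inv_mul_cancel]; exact one_mem _
      | succ i ih =>
        rw [pow_succ', autFun_mul _ _ hcB]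
        obtain ⟨z, hz, hze⟩ : ∃ z ∈ T ⊓ Subgroup.centralizer (T : Set Ω),
            autFun (β ^ i) c = c * z := ⟨_, ih, by group⟩
        rw [hze, hβm.map_mul hcB (Subgroup.mem_sup_left hz.1), hβe z hz.1, ← mul_assoc]
        refine mul_mem ?_ (hZα z hz)
        rw [show autFun β c = ((β ⟨c, hcB⟩ : ↥(T ⊔ centralizerIn S T)) : Ω) from autFun_coe β ⟨c, hcB⟩]
        exact hβC ⟨c, hcB⟩ hc
    obtain ⟨j, m, hm, hn⟩ :=
      Nat.exists_eq_pow_mul_and_not_dvd (orderOf_pos β).ne' p (Fact.out : p.Prime).ne_one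
    have hmp : m.Coprime p := ((Fact.out : p.Prime).coprime_iff_not_dvd.2 hm).symm
    have hXfix := hXtop (α ^ p ^ j) (pow_mem hα _) (β ^ p ^ j) (pow_mem hβ _)
      (autFun_pow_eq le_sup_left hβe _) (hshift (p ^ j)) m hmp
      (by rw [← pow_mul, ← hn, pow_orderOf_eq_one])
    have h1 : α ^ p ^ j ∈ goodAuts F X T (sup_le hTS hXS) := by
      refine ⟨autFun (β ^ p ^ j), ((mem_autGroup hBS).1 (pow_mem hβ _)).res
        (sup_le le_sup_left (hXC.trans le_sup_right)),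
        fun x hx => autFun_pow_eq le_sup_left hβe _ x hx, hXfix⟩
    have h2 : α ^ m ∈ goodAuts F X T (sup_le hTS hXS) := by
      obtain ⟨-, R, hR⟩ := fullyAutomized_of_fullyNormalized hTp hEs (fullyNormalized_self E)
      haveI hRn : (R : Subgroup (E.autGroup T)).Normal := by
        rw [hR, ← inn_eq_autInducedBy]
        exact inn_subgroupOf_normal E T
      have hαn : α ^ orderOf β = 1 := mulAut_ext fun x hx => by
        rw [← autFun_pow_eq le_sup_left hβe _ x hx, pow_orderOf_eq_one, autFun_one hx,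
          autFun_one (Subgroup.mem_sup_left hx)]
      have h3 : (⟨α ^ m, pow_mem hα m⟩ : E.autGroup T) ∈ (R : Subgroup (E.autGroup T)) :=
        mem_of_normal_sylow R (k := j) (Subtype.ext (by
          rw [SubmonoidClass.coe_pow, ← pow_mul, mul_comm, ← hn, hαn]; rfl))
      rw [hR] at h3
      obtain ⟨t, ht, hte⟩ := mem_autInducedBy.1 h3
      exact htfix hTS ht hte
    have h3 : α = (α ^ p ^ j) ^ ((p ^ j : ℕ).gcdA m) * (α ^ m) ^ ((p ^ j : ℕ).gcdB m) := by
      rw [← zpow_natCast α (p ^ j), ← zpow_natCast α m, ← zpow_mul, ← zpow_mul, ← zpow_add,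
        ← Nat.gcd_eq_gcd_ab, Nat.Coprime.gcd_eq_one ((hmp.pow_right j).symm), Nat.cast_one, zpow_one]
    rw [h3]
    exact mul_mem (Subgroup.zpow_mem _ h1 _) (Subgroup.zpow_mem _ h2 _)
  refine alperin' hTp hEs (fun P f => Fixes F X P f) (fun P f g h e => h.congr e)
    (fun P Q f g _ _ hm h h' => h.comp h' hm) (fun P Q f _ hPQ h => h.res hPQ) htop ?_ hf
  intro Q hQ big α hα
  have hQT : Q ≤ T := hQ.1.1
  rcases hQT.eq_or_lt with rfl | hlt
  · exact htop α hα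
  have hQS := hQT.trans hTS
  obtain ⟨Q₀, hQQ₀, hQ₀n⟩ := exists_fullyNormalized F hQS
  obtain ⟨f₀, hf₀, hf₀Q, hf₀N⟩ := exists_map_to_fullyNormalized hS hF hQ₀n hQQ₀
  have hNS : normalizerIn T Q ≤ normalizerIn S Q := fun x hx => ⟨hTS hx.1, hx.2⟩
  have hQN : Q ≤ normalizerIn T Q := le_normalizerIn hQT
  obtain ⟨γ, hγ, e, he, hfe⟩ := frattini_of_isInvariantIn hinv
    (inf_le_left : normalizerIn T Q ≤ T) (hf₀.res hNS)
  haveI : Finite ↥(T ⊓ Subgroup.normalizer (Q : Set Ω)) := finite_of_le (S := T) inf_le_left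
  obtain ⟨g, hg, hg1, hg2⟩ := big _ e he (card_lt_of_lt (lt_normalizerIn hTp hlt))
  obtain ⟨γ', hγ', hγ'e, hγ'T, hγ'C⟩ := exists_ext hS hF hTn hγ
  have hgm : ∀ z ∈ normalizerIn T Q ⊔ X, g z ∈ T ⊔ centralizerIn S T := fun z hz =>
    sup_le_sup_left hXC T (Fixes.map_mem hg hg1 hg2 (fun x hx => he.apply_mem hx) z hz)
  have hQX : Q ⊔ X ≤ normalizerIn T Q ⊔ X := sup_le_sup_right hQN X
  have hh := ((hg.res hQX).comp hγ' fun z hz => hgm z (hQX hz))
  have hhQ : ∀ x ∈ Q, γ' (g x) = f₀ x := fun x hx => by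
    rw [hg1 x (hQN hx), hγ'e _ (he.apply_mem (hQN hx)), ← hfe x (hQN hx)]
  have hhX : fimg (fun z => γ' (g z)) X = X := by
    haveI := finite_of_le hh.fimg_le_S
    refine Subgroup.eq_of_le_of_card_ge (fimg_le fun y hy => ?_)
      (hh.res le_sup_right).card_fimg.ge
    show γ' (g y) ∈ X
    rw [hg2 y hy]
    exact hXγ γ' hγ' hγ'T hγ'C y hy
  have hhimg : fimg (fun z => γ' (g z)) (Q ⊔ X) = Q₀ ⊔ X := by
    rw [hh.fimg_sup, hhX, fimg_congr hhQ, hf₀Q]
  -- the position `Q₀`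
  have hf₀Q' := hf₀.res (le_normalizerIn hQS)
  have hQ₀T : Q₀ ≤ T := hf₀Q ▸ fimg_le fun x hx =>
    StronglyClosed.apply_mem hT hf₀Q' hQT hx
  have hQ₀c : E.IsCentric Q₀ := hf₀Q ▸ InvClass.centric_transport hinv hQ.1 hf₀Q'
  have hQ₀S := hQ₀n.1
  haveI := finite_of_le hQ₀S
  have hQ₀E : E.IsFullyNormalized Q₀ := by
    refine ⟨hQ₀T, fun R hR => ?_⟩
    obtain ⟨r, hr, rfl⟩ := isConj_iff.1 hR
    obtain ⟨h, hh', hhR, hhN⟩ :=
      exists_map_to_fullyNormalized hS hF hQ₀n (isConj_symm (hr.mono hEF).isConj)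
    have hle : normalizerIn T (fimg r Q₀) ≤ normalizerIn S (fimg r Q₀) :=
      fun x hx => ⟨hTS hx.1, hx.2⟩
    haveI : Finite ↥(normalizerIn T Q₀) := finite_of_le (S := T) inf_le_left
    rw [← (hh'.res hle).card_fimg]
    exact Subgroup.card_le_of_le (fimg_le fun x hx =>
      ⟨StronglyClosed.apply_mem hT (hh'.res hle) inf_le_left hx, (hhN x (hle hx)).2⟩)
  have hXCQ : X ≤ centralizerIn S Q₀ :=
    hXC.trans (inf_le_inf_left S (Subgroup.centralizer_le hQ₀T))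
  have hcard : Nat.card Q₀ = Nat.card Q := isConj_card hQQ₀
  -- every automorphism of `Q₀` is good
  have hgood : ∀ δ ∈ E.autGroup Q₀, δ ∈ goodAuts F X Q₀ (sup_le hQ₀S hXS) := by
    intro δ hδ
    obtain ⟨-, R, hR⟩ := fullyAutomized_of_fullyNormalized hTp hEs hQ₀E
    set G := goodAuts F X Q₀ (sup_le hQ₀S hXS)
    set K : Subgroup (E.autGroup Q₀) :=
      Subgroup.closure {a : E.autGroup Q₀ | ∃ k : ℕ, orderOf a = p ^ k} with hK
    haveI : K.Normal := ⟨fun k hk a => by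
      refine (Subgroup.closure_le (K.comap (MulAut.conj a).toMonoidHom)).2 ?_ hk
      rintro x ⟨i, hi⟩
      exact subset_closure ⟨i, by
        rw [orderOf_injective (MulAut.conj a).toMonoidHom (MulAut.conj a).injective, hi]⟩⟩
    have hRK : (R : Subgroup (E.autGroup Q₀)) ≤ K := fun r hr => by
      obtain ⟨k, hk⟩ := R.2 ⟨r, hr⟩
      obtain ⟨i, -, hi⟩ := (Nat.dvd_prime_pow (Fact.out : p.Prime)).1
        (orderOf_dvd_of_pow_eq_one (show r ^ p ^ k = 1 from congrArg Subtype.val hk))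
      exact subset_closure ⟨i, hi⟩
    have hKG : K ≤ G.comap (E.autGroup Q₀).subtype := by
      refine (Subgroup.closure_le _).2 ?_
      rintro a ⟨k, hk⟩
      have hp' : IsPGroup p (Subgroup.zpowers a) := IsPGroup.of_card (n := k) (by
        rw [Nat.card_zpowers, hk])
      obtain ⟨W, hW⟩ := hp'.exists_le_sylow
      obtain ⟨b, hb⟩ := MulAction.exists_smul_eq (E.autGroup Q₀) W R
      have hc : b * a * b⁻¹ ∈ (R : Subgroup (E.autGroup Q₀)) := by
        rw [← hb, Sylow.coe_subgroup_smul]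
        exact Subgroup.smul_mem_pointwise_smul a (MulAut.conj b) _ (hW (mem_zpowers a))
      rw [hR] at hc
      obtain ⟨t, ht, hte⟩ := mem_autInducedBy.1 hc
      have htn : t ∈ Subgroup.normalizer (Q₀ : Set Ω) := mem_normalizer_of_conj_aut hte
      obtain ⟨b', hb', hb'e, hb'Q, hb'C⟩ := exists_ext hS hF hQ₀n
        (autGroup_mono hEF Q₀ b.2)
      obtain ⟨b'', hb'', hb1, hb2, -⟩ := hb'.exists_inv
      have hWle : Q₀ ⊔ X ≤ Q₀ ⊔ centralizerIn S Q₀ := sup_le_sup_left hXCQ _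
      have hW' : fimg b' (Q₀ ⊔ centralizerIn S Q₀) = Q₀ ⊔ centralizerIn S Q₀ := by
        haveI : Finite ↥(Q₀ ⊔ centralizerIn S Q₀) :=
          finite_of_le (sup_le hQ₀S inf_le_left)
        refine Subgroup.eq_of_le_of_card_ge ?_ hb'.card_fimg.ge
        rw [hb'.fimg_sup, hb'Q]
        exact sup_le_sup_left (fimg_le hb'C) _
      rw [hW'] at hb'' hb2
      have hWn : ∀ z ∈ Q₀ ⊔ centralizerIn S Q₀, t * z * t⁻¹ ∈ Q₀ ⊔ centralizerIn S Q₀ := by
        have hcm := isMap_conj F (P := Q₀ ⊔ centralizerIn S Q₀) (sup_le hQ₀S inf_le_left) (hTS ht)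
        intro z hz
        have h1 := apply_mem_fimg (fun y => t * y * t⁻¹) hz
        rw [hcm.fimg_sup] at h1
        refine (sup_le ?_ ?_ : fimg (fun y => t * y * t⁻¹) Q₀ ⊔
          fimg (fun y => t * y * t⁻¹) (centralizerIn S Q₀) ≤ _) h1
        · exact fimg_le fun w hw => Subgroup.mem_sup_left ((Subgroup.mem_normalizer_iff.1 htn w).1 hw)
        · refine fimg_le fun w hw => Subgroup.mem_sup_right (mem_centralizerIn.2
            ⟨S.mul_mem (S.mul_mem (hTS ht) hw.1) (S.inv_mem (hTS ht)), fun y hy => ?_⟩)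
          have hy' := (Subgroup.mem_normalizer_iff''.1 htn y).1 hy
          calc y * (t * w * t⁻¹) = t * (t⁻¹ * y * t * w) * t⁻¹ := by group
            _ = t * (w * (t⁻¹ * y * t)) * t⁻¹ := by rw [(mem_centralizerIn.1 hw).2 _ hy']
            _ = t * w * t⁻¹ * y := by group
      have hb'm : ∀ z ∈ Q₀ ⊔ centralizerIn S Q₀, b' z ∈ Q₀ ⊔ centralizerIn S Q₀ := fun z hz =>
        hW' ▸ apply_mem_fimg b' hz
      have hmap := (hb'.comp (isMap_conj F (sup_le hQ₀S inf_le_left) (hTS ht)) hb'm).comp hb''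
        fun z hz => hWn _ (hb'm z hz)
      refine ⟨_, hmap.res hWle, fun x hx => ?_, fun y hy => ?_⟩
      · show b'' (t * b' x * t⁻¹) = autFun (a : MulAut Q₀) x
        have hax : autFun (a : MulAut Q₀) x ∈ Q₀ := autFun_mem _ hx
        have h1 := hte ((b : MulAut Q₀) ⟨x, hx⟩)
        simp only [Subgroup.coe_subtype, Subgroup.coe_mul, Subgroup.coe_inv, MulAut.mul_apply,
          MulAut.inv_apply_self] at h1
        rw [hb'e x hx, show autFun (b : MulAut Q₀) x = (((b : MulAut Q₀) ⟨x, hx⟩ : Q₀) : Ω) from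
          autFun_coe (b : MulAut Q₀) ⟨x, hx⟩, ← h1,
          ← autFun_coe (b : MulAut Q₀), ← hb'e _ ((a : MulAut Q₀) ⟨x, hx⟩).2,
          hb1 _ (Subgroup.mem_sup_left ((a : MulAut Q₀) ⟨x, hx⟩).2)]
        exact (autFun_coe _ _).symm
      · show b'' (t * b' y * t⁻¹) = y
        rw [hXloc Q₀ hQ₀T hQ₀c hQ₀n _ b.2 b' hb' hb'e t ⟨ht, htn⟩ y hy,
          hb1 _ (hWle (Subgroup.mem_sup_right hy))]
    have htop' := R.normalizer_sup_eq_top' hRK
    have hmem : (⟨δ, hδ⟩ : E.autGroup Q₀) ∈ Subgroup.normalizer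
        ((R : Subgroup (E.autGroup Q₀)) : Set (E.autGroup Q₀)) ⊔ K := htop' ▸ mem_top _
    obtain ⟨n, hn, k, hk, hnk⟩ := Subgroup.mem_sup_of_normal_right.1 hmem
    have hlt₀ : Q₀ < T := lt_of_le_of_ne hQ₀T fun e' => by
      have h2 := card_lt_of_lt hlt
      rw [e'] at hcard
      omega
    have hn' : (n : MulAut Q₀) ∈ extAuts E Q₀ := by
      refine mem_extAuts_of_conj (receptive_of_fullyNormalized hTp hEs hQ₀E) n.2 le_rfl
        (not_autInducedBy_le_inn hTp hlt₀ hQ₀c) ?_ fun r hr => ?_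
      · rw [inn_eq_autInducedBy]
        exact autInducedBy_mono hQ₀T Q₀
      · have hr' : (⟨r, autInducedBy_le_autGroup E hQ₀T hr⟩ : E.autGroup Q₀) ∈
            (R : Subgroup (E.autGroup Q₀)) := by
          rw [hR]
          exact hr
        have := (Subgroup.mem_normalizer_iff.1 hn _).1 hr'
        rw [hR] at this
        exact this
    obtain ⟨N, gn, hQN', hgn, hgne⟩ := mem_extAuts.1 hn'
    haveI := finite_of_le hgn.source_le
    have hnG : (n : MulAut Q₀) ∈ G :=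
      ((big N gn hgn (hcard ▸ card_lt_of_lt hQN')).res hQN'.le).congr hgne
    have hprod : δ = (n : MulAut Q₀) * (k : MulAut Q₀) := congrArg Subtype.val hnk.symm
    rw [hprod]
    exact mul_mem hnG (hKG hk)
  obtain ⟨e', he', -⟩ := exists_mulEquiv hf₀Q' hf₀Q
  obtain ⟨g₀, hg₀, hg₀1, hg₀2⟩ :=
    hgood _ (InvClass.congr_autGroup hinv hQT hf₀Q' hf₀Q e' he' hα)
  obtain ⟨h', hh', hh1, hh2, -⟩ := hh.exists_inv
  rw [hhimg] at hh' hh2
  have hhm : ∀ z ∈ Q ⊔ X, γ' (g z) ∈ Q₀ ⊔ X := fun z hz =>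
    hhimg ▸ apply_mem_fimg (fun z => γ' (g z)) hz
  refine ⟨_, (hh.comp hg₀ hhm).comp hh' fun z hz =>
    Fixes.map_mem hg₀ hg₀1 hg₀2 (fun x hx => autFun_mem _ hx) _ (hhm z hz), fun x hx => ?_,
    fun y hy => ?_⟩
  · show h' (g₀ (γ' (g x))) = autFun α x
    rw [hhQ x hx, hg₀1 _ (hf₀Q ▸ apply_mem_fimg f₀ hx), ← he' ⟨x, hx⟩, autFun_coe,
      show (MulAut.congr e') α (e' ⟨x, hx⟩) = e' (α ⟨x, hx⟩) by simp [MulAut.congr], he',
      ← hhQ _ (α ⟨x, hx⟩).2, hh1 _ (Subgroup.mem_sup_left (α ⟨x, hx⟩).2)]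
    exact (autFun_coe α ⟨x, hx⟩).symm
  · show h' (g₀ (γ' (g y))) = y
    have hyX : γ' (g y) ∈ X := hhX ▸ apply_mem_fimg (fun z => γ' (g z)) hy
    rw [hg₀2 _ hyX, hh1 y (Subgroup.mem_sup_right hy)]

/-- The maps of a normal subsystem fix the focal subgroup of the centralizer of its support. -/
theorem fixes_focal (hS : IsPGroup p S) (hF : F.IsSaturated p) (hE : E.IsNormalIn F p)
    {P : Subgroup Ω} {f : Ω → Ω} (hf : IsMap E P f) :
    Fixes F (centralizerSystem F T hE.1.2.2.2.1.1).focalSubgroup P f := by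
  have hT := hE.1.2.2.2.1
  have hTS := hT.1
  set X := (centralizerSystem F T hTS).focalSubgroup with hXdef
  have hTn : F.IsFullyNormalized T := by
    refine ⟨hTS, fun Q hQ => ?_⟩
    obtain ⟨g, hg, rfl⟩ := isConj_iff.1 hQ
    haveI : Finite ↥T := finite_of_le hTS
    haveI : Finite ↥(fimg g T) := finite_of_le hg.fimg_le_S
    rw [Subgroup.eq_of_le_of_card_ge (fimg_le fun x hx => StronglyClosed.apply_mem hT hg
      le_rfl hx) hg.card_fimg.ge]
  refine fixes_of_stable hS hF hE (focal_le _) (fun γ hγ hγT hγC => focal_map_mem hTS hγ hγT hγC)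
    (fun α _ β hβ hβe hshift m hm hβm => aut_fix_focal hS hF hT hTn hβ
      (by rw [fimg_congr hβe, fimg_autFun]) hshift hm hβm)
    (fun Q₀ hQ₀T hQ₀c hQ₀n b _ b' hb' hb'e t ht y hy => ?_) hf
  have hQ₀S := hQ₀n.1
  have hb'Q : fimg b' Q₀ = Q₀ := by rw [fimg_congr hb'e, fimg_autFun]
  have hb'C : ∀ c ∈ centralizerIn S Q₀, b' c ∈ centralizerIn S Q₀ := fun c hc => by
    have h1 := hb'.map_centralizerIn (P := Q₀) le_sup_left (Subgroup.mem_sup_right hc) hc.2
    rwa [hb'Q] at h1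
  have hle : centralizerIn S T ≤ centralizerIn S Q₀ :=
    inf_le_inf_left S (Subgroup.centralizer_le hQ₀T)
  have hXY : X ≤ (centralizerSystem F Q₀ hQ₀S).focalSubgroup := by
    refine focal_mono fun P f hPf => ?_
    obtain ⟨hP, hPC, k, hk, hk1, hk2⟩ :=
      (isMap_centralizerSystem hTS (isCentralizerSystem_centralizerSystem F hTS)).1 hPf
    exact (isMap_centralizerSystem hQ₀S (isCentralizerSystem_centralizerSystem F hQ₀S)).2
      ⟨hP.trans hle, fun x hx => hle (hPC x hx), k, hk.res (sup_le_sup_left hQ₀T P), hk1,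
        fun x hx => hk2 x (hQ₀T hx)⟩
  exact conj_fix_focal hS hF hT (centralizerIn_le_of_centric hQ₀c) hQ₀n ht.1 ht.2 _
    (focal_map_mem hQ₀S hb' hb'Q hb'C y (hXY hy))

/-- The focal subgroup of `C_F(T)` is centralized by a normal subsystem over `T`. -/
theorem hom_subset_centralizerHom (hS : IsPGroup p S) (hF : F.IsSaturated p)
    (hE : E.IsNormalIn F p) (P : Subgroup Ω) :
    E.Hom P ⊆ F.centralizerHom (centralizerSystem F T hE.1.2.2.2.1.1).focalSubgroup P := by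
  intro φ hφ
  obtain ⟨g, hg, hg1, hg2⟩ := fixes_focal hS hF hE (isMap_toFun hφ)
  have hTS := hE.1.2.2.2.1.1
  have hXC : ∀ y ∈ T, y ∈ centralizerIn S (centralizerSystem F T hTS).focalSubgroup := fun y hy =>
    mem_centralizerIn.2 ⟨hTS hy,
      fun x hx => ((mem_centralizerIn.1 (focal_le _ hx)).2 y hy).symm⟩
  refine mem_centralizerHom.2 ⟨fun y hy => hXC y ((E.le_of_mem hφ).1 hy), fun x => ?_, g, hg,
    fun x => (hg1 x x.2).trans (toFun_coe φ x), hg2⟩
  exact hXC _ ((E.le_of_mem hφ).2 x)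

end Cfsg.Agent.Fus.FocalCent
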