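import Mathlib
import Cfsg.Agent.Lib.Fus.FocalCentralizerMain
import Cfsg.Agent.Lib.Fus.InvariantClass
import Cfsg.Agent.Lib.Fus.NormalCrit
import Cfsg.Agent.Lib.Fus.Simple
import Cfsg.Agent.Lib.Fus.Hyperfocal
import Cfsg.Agent.Lib.Fus.Centric
import Cfsg.Agent.Lib.Fus.CentralizerSat
import Cfsg.Agent.Lib.Fus.FactorExtend
import Cfsg.Agent.Lib.Grp.Cores

/-!
For a normal subsystem over `T` and the largest subgroup `Y` of `C_S(T)` it centralizes, every
map on a subgroup of `Y` extends over `T`.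
-/

set_option autoImplicit false
set_option linter.style.haveILetI false
set_option linter.unusedSectionVars false
set_option linter.unusedVariables false

open scoped Classical Pointwise

universe u

namespace Cfsg.Agent.Fus.CentNormal

open Subgroup FusionSystem FocalCent

variable {Ω : Type u} [Group Ω] {S T : Subgroup Ω} {F : FusionSystem S} {E : FusionSystem T}
  {p : ℕ}

/-- A centric radical subgroup meets the support of an invariant saturated subsystem in a centric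
subgroup. -/
theorem centric_inf_of_radical [Fact p.Prime] [Finite S] (hS : IsPGroup p S)
    (hF : F.IsSaturated p) (hE : E.IsInvariantIn F) {P : Subgroup Ω} (hP : F.IsCentric P)
    (hrad : F.IsRadical p P) : E.IsCentric (P ⊓ T) := by
  by_contra hPT
  obtain ⟨u, hu, x, hx, hxP, a, ha, hax⟩ := InvClass.exists_core_aut hS hF hE hP hPT
  obtain ⟨e, he, heA⟩ := exists_mulEquiv hu rfl
  let φ : ↥(F.autGroup P) →* ↥(F.autGroup (fimg u P)) :=
    ((MulAut.congr e).toMonoidHom.comp (F.autGroup P).subtype).codRestrict _ fun b => (heA _).1 b.2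
  have hφi : Function.Injective φ := fun b c h =>
    Subtype.ext ((MulAut.congr e).injective (congrArg Subtype.val h))
  haveI := finite_of_le hP.1
  haveI := finite_of_le hu.fimg_le_S
  obtain ⟨b, hb⟩ : ∃ b : ↥(F.autGroup P), φ b = a :=
    ⟨⟨(MulAut.congr e).symm a, (heA _).2 (by rw [MulEquiv.apply_symm_apply]; exact a.2)⟩,
      Subtype.ext ((MulAut.congr e).apply_symm_apply _)⟩
  have hbK : b ∈ pCore p ↥(F.autGroup P) :=
    Grp.le_pCore ((Grp.pCore_isNormal (p := p) (G := ↥(F.autGroup (fimg u P)))).comap φ)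
      ((Grp.pCore_isPGroup (p := p)).comap_of_injective φ hφi) (by
        show φ b ∈ pCore p ↥(F.autGroup (fimg u P))
        rw [hb]
        exact ha)
  obtain ⟨y, hy⟩ : (b : MulAut P) ∈ Inn P := by
    rw [← hrad.2]
    exact ⟨b, hbK, rfl⟩
  apply hxP
  have hc : (u y)⁻¹ * x ∈ centralizerIn S (fimg u P) := by
    refine mem_centralizerIn.2 ⟨S.mul_mem (S.inv_mem (hu.apply_mem y.2)) hx.1, fun z hz => ?_⟩
    obtain ⟨w, hw⟩ := e.surjective ⟨z, hz⟩
    have h2 : z = u w := by rw [← he]; exact (congrArg Subtype.val hw).symm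
    have h1 : x * z * x⁻¹ = u y * z * (u y)⁻¹ := by
      rw [show x * z * x⁻¹ = (((a : MulAut (fimg u P)) ⟨z, hz⟩ : fimg u P) : Ω) from
        (hax ⟨z, hz⟩).symm, ← hb, ← hw]
      show ((MulAut.congr e (b : MulAut P) (e w) : fimg u P) : Ω) = _
      rw [show MulAut.congr e (b : MulAut P) (e w) = e ((b : MulAut P) w) by simp [MulAut.congr],
        he, h2, ← hu.map_conj y.2 w.2, ← hy]
      rfl
    calc z * ((u y)⁻¹ * x) = (u y)⁻¹ * (u y * z * (u y)⁻¹) * x := by group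
      _ = (u y)⁻¹ * (x * z * x⁻¹) * x := by rw [h1]
      _ = (u y)⁻¹ * x * z := by group
  have := (centric_of_isConj hP hu.isConj).2 _ (isConj_refl F hu.fimg_le_S) hc
  simpa using Subgroup.mul_mem _ (apply_mem_fimg u y.2) this

/-- An automorphism of `T C_S(T)` carries a subgroup centralized by an invariant subsystem to
another one. -/
theorem cent_image [Finite S] (hE : E.IsInvariantIn F) {Y : Subgroup Ω}
    (hY : Y ≤ centralizerIn S T)
    (hfix : ∀ {P : Subgroup Ω} {f : Ω → Ω}, IsMap E P f → Fixes F Y P f) {g : Ω → Ω}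
    (hg : IsMap F (T ⊔ centralizerIn S T) g) (hgT : fimg g T = T)
    (hgC : ∀ c ∈ centralizerIn S T, g c ∈ centralizerIn S T) :
    fimg g Y ≤ centralizerIn S T ∧
      ∀ P : Subgroup Ω, E.Hom P ⊆ F.centralizerHom (fimg g Y) P := by
  have hTS := hE.2.1.1
  have hY' : fimg g Y ≤ centralizerIn S T := fimg_le fun z hz => hgC z (hY hz)
  refine ⟨hY', fun P φ hφ => ?_⟩
  have hgU : fimg g (T ⊔ centralizerIn S T) = T ⊔ centralizerIn S T := by
    haveI := finite_of_le (sup_le hTS inf_le_left : T ⊔ centralizerIn S T ≤ S)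
    refine Subgroup.eq_of_le_of_card_ge ?_ hg.card_fimg.ge
    rw [hg.fimg_sup, hgT]
    exact sup_le_sup_left (fimg_le hgC) _
  obtain ⟨α, hα, hge'⟩ := (hg.res le_sup_left).exists_aut hgT
  have hge : ∀ x ∈ T, g x = autFun α x := fun x hx => (hge' x hx).symm
  have hYU : Y ≤ T ⊔ centralizerIn S T := hY.trans le_sup_right
  have hPT := (E.le_of_mem hφ).1
  have hTY' : ∀ t ∈ T, t ∈ centralizerIn S (fimg g Y) := fun t ht =>
    mem_centralizerIn.2 ⟨hTS ht, fun z hz => ((mem_centralizerIn.1 (hY' hz)).2 t ht).symm⟩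
  obtain ⟨g', hg', hg1, -, -⟩ := hg.exists_inv
  rw [hgU] at hg'
  have hg'T : ∀ x ∈ T, g' x = autFun α⁻¹ x := fun x hx => by
    have h1 : g (autFun α⁻¹ x) = x := by
      rw [hge _ (autFun_mem _ hx), ← autFun_mul _ _ hx, mul_inv_cancel, autFun_one hx]
    conv_lhs => rw [← h1]
    exact hg1 _ (Subgroup.mem_sup_left (autFun_mem _ hx))
  obtain ⟨k, hk, hke⟩ := invariant_isMap hE (isMap_toFun hφ) (α := α⁻¹) (inv_mem hα)
  obtain ⟨h, hh, hh1, hh2⟩ := hfix hk
  have hdom : P ⊔ fimg g Y ≤ T ⊔ centralizerIn S T :=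
    sup_le (hPT.trans le_sup_left) (hY'.trans le_sup_right)
  have hm : ∀ z ∈ P ⊔ fimg g Y, g' z ∈ fimg (autFun α⁻¹) P ⊔ Y := fun z hz => by
    have h1 := apply_mem_fimg g' hz
    rw [(hg'.res hdom).fimg_sup] at h1
    refine sup_le_sup (fimg_congr fun x hx => hg'T x (hPT hx)).le (fimg_le fun w hw => ?_) h1
    obtain ⟨y', hy', rfl⟩ := (hg.res hYU).mem_fimg_iff.1 hw
    rw [hg1 y' (hYU hy')]
    exact hy'
  have hm2 : ∀ z ∈ fimg (autFun α⁻¹) P ⊔ Y, h z ∈ T ⊔ centralizerIn S T := fun z hz =>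
    sup_le_sup_left hY T (Fixes.map_mem hh hh1 hh2 (fun x hx => hk.apply_mem hx) z hz)
  refine mem_centralizerHom.2 ⟨fun x hx => hTY' x (hPT hx), fun x => hTY' _ ((E.le_of_mem hφ).2 x),
    _, ((hg'.res hdom).comp hh hm).comp hg fun z hz => hm2 _ (hm z hz), fun x => ?_, fun z hz => ?_⟩
  · show g (h (g' x)) = φ x
    have hφx : toFun φ x ∈ T := (toFun_coe φ x).symm ▸ (E.le_of_mem hφ).2 x
    rw [hg'T _ (hPT x.2), hh1 _ (apply_mem_fimg _ x.2), hke x x.2, hge _ (autFun_mem _ hφx),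
      ← autFun_mul _ _ hφx, mul_inv_cancel, autFun_one hφx, toFun_coe]
  · show g (h (g' z)) = z
    obtain ⟨y', hy', rfl⟩ := (hg.res hYU).mem_fimg_iff.1 hz
    rw [hg1 y' (hYU hy'), hh2 y' hy']

/-- `Y` is the largest subgroup of `C_S(T)` centralized by the normal subsystem `E`. -/
structure Setup (F : FusionSystem S) (E : FusionSystem T) (p : ℕ) (Y : Subgroup Ω) : Prop where
  pgroup : IsPGroup p S
  sat : F.IsSaturated p
  norm : E.IsNormalIn F p
  le : Y ≤ centralizerIn S T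
  cent : ∀ P : Subgroup Ω, E.Hom P ⊆ F.centralizerHom Y P
  max : ∀ Y' : Subgroup Ω, Y' ≤ centralizerIn S T →
    (∀ P : Subgroup Ω, E.Hom P ⊆ F.centralizerHom Y' P) → Y' ≤ Y

variable {Y : Subgroup Ω}

/-- The map extends to `P ⊔ T`. -/
def Ext (F : FusionSystem S) (T P : Subgroup Ω) (f : Ω → Ω) : Prop :=
  ∃ g, IsMap F (P ⊔ T) g ∧ ∀ x ∈ P, g x = f x

theorem Ext.congr {P : Subgroup Ω} {f f' : Ω → Ω} (h : Ext F T P f)
    (e : ∀ x ∈ P, f x = f' x) : Ext F T P f' :=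
  let ⟨g, hg, h1⟩ := h; ⟨g, hg, fun x hx => (h1 x hx).trans (e x hx)⟩

namespace Setup

variable (d : Setup F E p Y)
include d

theorem inv : E.IsInvariantIn F := d.norm.1.2.2
theorem esat : E.IsSaturated p := d.norm.1.1
theorem tsc : F.StronglyClosed T := d.norm.1.2.2.2.1
theorem tS : T ≤ S := d.tsc.1
theorem yS : Y ≤ S := d.le.trans inf_le_left

theorem fixes {P : Subgroup Ω} {f : Ω → Ω} (hf : IsMap E P f) : Fixes F Y P f := by
  obtain ⟨φ, hφ, hφe⟩ := hf.exists_hom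
  obtain ⟨-, -, g, hg, hg1, hg2⟩ := mem_centralizerHom.1 (d.cent P hφ)
  exact ⟨g, hg, fun x hx => (hg1 ⟨x, hx⟩).trans (hφe ⟨x, hx⟩), hg2⟩

theorem comm {y : Ω} (hy : y ∈ Y) {t : Ω} (ht : t ∈ T) : t * y = y * t :=
  (mem_centralizerIn.1 (d.le hy)).2 t ht

variable [Finite S]

theorem tfn : F.IsFullyNormalized T := by
  refine ⟨d.tS, fun Q hQ => ?_⟩
  obtain ⟨g, hg, rfl⟩ := isConj_iff.1 hQ
  rw [fimg_stronglyClosed d.tsc hg le_rfl]

theorem ext_image {P : Subgroup Ω} {g : Ω → Ω} (hg : IsMap F (P ⊔ T) g) {Q : Subgroup Ω}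
    (hm : ∀ x ∈ P, g x ∈ Q) : ∀ z ∈ P ⊔ T, g z ∈ Q ⊔ T := fun z hz => by
  have h1 := apply_mem_fimg g hz
  rw [hg.fimg_sup, fimg_stronglyClosed d.tsc hg le_sup_right] at h1
  exact (sup_le_sup_right (fimg_le hm) T) h1

theorem ext_comp {P Q : Subgroup Ω} {f h : Ω → Ω} (hf : Ext F T P f) (hh : Ext F T Q h)
    (hm : ∀ x ∈ P, f x ∈ Q) : Ext F T P (fun x => h (f x)) := by
  obtain ⟨g, hg, hg1⟩ := hf
  obtain ⟨g', hg', hg1'⟩ := hh
  refine ⟨_, hg.comp hg' (d.ext_image hg fun x hx => (hg1 x hx).symm ▸ hm x hx), fun x hx => ?_⟩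
  show g' (g x) = h (f x)
  rw [hg1 x hx, hg1' _ (hm x hx)]

variable [Fact p.Prime]

theorem focal_le_Y : (centralizerSystem F T d.tS).focalSubgroup ≤ Y :=
  d.max _ (FocalCent.focal_le _) (hom_subset_centralizerHom d.pgroup d.sat d.norm)

/-- An automorphism of `T` extends to `T C_S(T)` stabilizing `Y`. -/
theorem exists_gamma {α : MulAut T} (hα : α ∈ F.autGroup T) :
    ∃ g, IsMap F (T ⊔ centralizerIn S T) g ∧ (∀ x ∈ T, g x = autFun α x) ∧
      (∀ c ∈ centralizerIn S T, g c ∈ centralizerIn S T) ∧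
      fimg g (T ⊔ centralizerIn S T) = T ⊔ centralizerIn S T ∧ ∀ y ∈ Y, g y ∈ Y := by
  obtain ⟨g, hg, hge, hgT, hgC⟩ := FocalCent.exists_ext d.pgroup d.sat d.tfn hα
  have hUS : T ⊔ centralizerIn S T ≤ S := sup_le d.tS inf_le_left
  haveI := finite_of_le hUS
  have hgU : fimg g (T ⊔ centralizerIn S T) = T ⊔ centralizerIn S T := by
    refine Subgroup.eq_of_le_of_card_ge ?_ hg.card_fimg.ge
    rw [hg.fimg_sup, hgT]
    exact sup_le_sup_left (fimg_le hgC) _
  obtain ⟨h1, h2⟩ := cent_image d.inv d.le (fun hf => d.fixes hf) hg hgT hgC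
  exact ⟨g, hg, hge, hgC, hgU, fun y hy => d.max _ h1 h2 (apply_mem_fimg g hy)⟩

/-- A map extending over `T` carries `Y` into `Y`. -/
theorem ext_mem {P : Subgroup Ω} (hP : P ≤ Y) {f : Ω → Ω} (hf : Ext F T P f) :
    ∀ x ∈ P, f x ∈ Y := by
  obtain ⟨g, hg, hge⟩ := hf
  have hgT : IsMap F T g := hg.res le_sup_right
  obtain ⟨α, hα, hαe⟩ := hgT.exists_aut (fimg_stronglyClosed d.tsc hgT le_rfl)
  obtain ⟨γ, hγ, hγe, hγC, hγU, hγY⟩ := d.exists_gamma hα
  obtain ⟨γ', hγ', hγ1, hγ2, -⟩ := hγ.exists_inv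
  rw [hγU] at hγ' hγ2
  intro x hx
  have hgC : ∀ z ∈ P, g z ∈ centralizerIn S T := fun z hz => by
    have h1 := hg.map_centralizerIn (P := T) le_sup_right (Subgroup.mem_sup_left hz)
      (mem_centralizerIn.1 (d.le (hP hz))).2
    rwa [fimg_stronglyClosed d.tsc hgT le_rfl] at h1
  have hm : ∀ z ∈ P ⊔ T, g z ∈ T ⊔ centralizerIn S T := fun z hz =>
    (sup_comm (centralizerIn S T) T).le (d.ext_image hg hgC z hz)
  have hgc := hg.comp hγ' hm
  have hfix : ∀ t ∈ T, γ' (g t) = t := fun t ht => by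
    rw [← hαe t ht, ← hγe t ht, hγ1 t (Subgroup.mem_sup_left ht)]
  have hc' : γ' (g x) ∈ centralizerIn S T := by
    have h1 := hgc.map_centralizerIn (P := T) le_sup_right (Subgroup.mem_sup_left hx)
      (mem_centralizerIn.1 (d.le (hP hx))).2
    rwa [fimg_eq_self_of_forall hfix] at h1
  have hmap : IsMap (centralizerSystem F T d.tS) P (fun z => γ' (g z)) := by
    refine (isMap_centralizerSystem d.tS (isCentralizerSystem_centralizerSystem F d.tS)).2
      ⟨hP.trans d.le, fun z hz => ?_, _, hgc, fun _ _ => rfl, hfix⟩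
    have h1 := hgc.map_centralizerIn (P := T) le_sup_right (Subgroup.mem_sup_left hz)
      (mem_centralizerIn.1 (d.le (hP hz))).2
    rwa [fimg_eq_self_of_forall hfix] at h1
  have h2 : γ' (g x) ∈ Y := by
    have h3 := Y.mul_mem (hP hx) (d.focal_le_Y (hmap.focal_mem hx))
    rwa [mul_inv_cancel_left] at h3
  rw [← hge x hx, ← (hγ2 (g x) (hm x (Subgroup.mem_sup_left hx))).2]
  exact hγY _ h2

/-- Maps on `P ⊔ Q` with `Q` centric in `E` extend over `T`. -/
theorem good {Q : Subgroup Ω} (hQ : E.IsCentric Q) :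
    ∀ {P : Subgroup Ω} {ψ : Ω → Ω}, P ≤ Y → IsMap F (P ⊔ Q) ψ → Ext F T P ψ := by
  induction hn : Nat.card T - Nat.card Q using Nat.strong_induction_on generalizing Q with
  | _ n ih =>
  intro P ψ hP hψ
  haveI : Finite T := finite_of_le d.tS
  have hTp : IsPGroup p T := d.pgroup.to_le d.tS
  rcases hQ.1.eq_or_lt with rfl | hlt
  · exact ⟨ψ, hψ, fun _ _ => rfl⟩
  have hcardT := card_lt_of_lt hlt
  have big : ∀ {R : Subgroup Ω}, E.IsCentric R → Nat.card Q < Nat.card R →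
      ∀ {P' : Subgroup Ω} {θ : Ω → Ω}, P' ≤ Y → IsMap F (P' ⊔ R) θ → Ext F T P' θ :=
    fun {R} hR hc => ih _ (by omega) hR rfl
  have hQS := hQ.1.trans d.tS
  have hψQ : IsMap F Q ψ := hψ.res le_sup_right
  set Q₁ := fimg ψ Q
  have hQ₁T : Q₁ ≤ T := fimg_le fun x hx => StronglyClosed.apply_mem d.tsc hψQ hQ.1 hx
  have hQ₁ : E.IsCentric Q₁ := InvClass.centric_transport d.inv hQ hψQ
  have hcard₁ : Nat.card Q₁ = Nat.card Q := hψQ.card_fimg
  obtain ⟨Q₀, hQ₁₀, hQ₀n⟩ := exists_fullyNormalized F (hQ₁T.trans d.tS)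
  obtain ⟨f, hf, hfQ, hfN⟩ := exists_map_to_fullyNormalized d.pgroup d.sat hQ₀n hQ₁₀
  have hQ₁N : Q₁ ≤ normalizerIn S Q₁ := le_normalizerIn (hQ₁T.trans d.tS)
  have hQ₀T : Q₀ ≤ T := hfQ ▸ fimg_le fun x hx =>
    StronglyClosed.apply_mem d.tsc (hf.res hQ₁N) hQ₁T hx
  have hQ₀ : E.IsCentric Q₀ := hfQ ▸ InvClass.centric_transport d.inv hQ₁ (hf.res hQ₁N)
  have hcard₀ : Nat.card Q₀ = Nat.card Q := (isConj_card hQ₁₀).trans hcard₁
  have hψm : ∀ z ∈ P ⊔ Q, ψ z ∈ normalizerIn S Q₁ := fun z hz => by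
    have h1 := apply_mem_fimg ψ hz
    rw [hψ.fimg_sup] at h1
    refine sup_le (fimg_le fun x hx => centralizerIn_le_normalizerIn _ ?_) hQ₁N h1
    exact hψ.map_centralizerIn (P := Q) le_sup_right (Subgroup.mem_sup_left hx)
      (fun q hq => d.comm (hP hx) (hQ.1 hq))
  have hφ := hψ.comp hf hψm
  have hφQ : fimg (fun z => f (ψ z)) Q = Q₀ := by rw [hψQ.fimg_comp]; exact hfQ
  -- a map of `Q` onto `Q₀` stabilizing `Y`
  obtain ⟨α, hα, e, he, hee⟩ := frattini_of_isInvariantIn d.inv hQ.1 (hφ.res le_sup_right)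
  obtain ⟨g₁, hg₁, hg₁e, hg₁Y⟩ := d.fixes he
  obtain ⟨γ, hγ, hγe, hγC, hγU, hγY⟩ := d.exists_gamma hα
  have hg₁m : ∀ z ∈ Q ⊔ Y, g₁ z ∈ T ⊔ centralizerIn S T := fun z hz =>
    sup_le_sup_left d.le T (Fixes.map_mem hg₁ hg₁e hg₁Y (fun x hx => he.apply_mem hx) z hz)
  have hh := hg₁.comp hγ hg₁m
  have hhQ : ∀ x ∈ Q, γ (g₁ x) = f (ψ x) := fun x hx => by
    rw [hg₁e x hx, hγe _ (he.apply_mem hx)]
    exact (hee x hx).symm
  have hhP : ∀ x ∈ P, γ (g₁ x) = γ x := fun x hx => by rw [hg₁Y x (hP hx)]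
  set P' := fimg γ P with hP'def
  have hP'Y : P' ≤ Y := fimg_le fun x hx => hγY x (hP hx)
  have hPQ : P ⊔ Q ≤ Q ⊔ Y := sup_le (hP.trans le_sup_right) le_sup_left
  obtain ⟨h', hh', hh1, hh2, -⟩ := (hh.res hPQ).exists_inv
  have hhimg : fimg (fun z => γ (g₁ z)) (P ⊔ Q) = P' ⊔ Q₀ := by
    rw [(hh.res hPQ).fimg_sup, fimg_congr hhP, fimg_congr hhQ, hφQ]
  rw [hhimg] at hh' hh2
  have hχ := hh'.comp hφ fun z hz => (hh2 z hz).1
  set χ : Ω → Ω := fun z => f (ψ (h' z)) with hχdef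
  have hχQ : ∀ q ∈ Q₀, χ q = q := fun q hq => by
    rw [← hφQ] at hq
    obtain ⟨w, hw, rfl⟩ := (hφ.res le_sup_right).mem_fimg_iff.1 hq
    show f (ψ (h' (f (ψ w)))) = f (ψ w)
    rw [← hhQ w hw, hh1 w (Subgroup.mem_sup_right hw)]
    exact (hhQ w hw).symm
  have hQ₀S := hQ₀T.trans d.tS
  -- the normalizer of `Q₀` centralizes the image
  have hP'C : P' ≤ centralizerIn S Q₀ :=
    (hP'Y.trans d.le).trans (inf_le_inf_left S (Subgroup.centralizer_le hQ₀T))
  have hχC : ∀ x ∈ P', χ x ∈ centralizerIn S Q₀ := fun x hx => by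
    have h1 := hχ.map_centralizerIn (P := Q₀) le_sup_right (Subgroup.mem_sup_left hx)
      (mem_centralizerIn.1 (hP'C hx)).2
    rwa [fimg_eq_self_of_forall hχQ] at h1
  have hχmap : IsMap (centralizerSystem F Q₀ hQ₀n.1) P' χ :=
    (isMap_centralizerSystem hQ₀n.1 (isCentralizerSystem_centralizerSystem F hQ₀n.1)).2
      ⟨hP'C, hχC, χ, hχ, fun _ _ => rfl, hχQ⟩
  have hfix : ∀ t ∈ normalizerIn T Q₀, ∀ x ∈ P', t * χ x = χ x * t := fun t ht x hx => by
    have h1 := conj_fix_focal d.pgroup d.sat d.tsc (centralizerIn_le_of_centric hQ₀) hQ₀n ht.1 ht.2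
      _ (hχmap.focal_mem hx)
    have h2 := d.comm (hP'Y hx) ht.1
    calc t * χ x = t * x * (x⁻¹ * χ x) := by group
      _ = x * (t * (x⁻¹ * χ x) * t⁻¹) * t := by rw [h2]; group
      _ = χ x * t := by rw [h1]; group
  -- move the image to a receptive position
  set N₀ := normalizerIn T Q₀
  have hN₀Q : Q₀ ≤ N₀ := le_normalizerIn hQ₀T
  have hN₀ : E.IsCentric N₀ := centric_mono hQ₀ hN₀Q inf_le_left
  haveI : Finite ↥N₀ := finite_of_le (S := T) inf_le_left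
  have hlt₀ : Q₀ < T := lt_of_le_of_ne hQ₀T fun h => by rw [h] at hcard₀; omega
  have hN₀card : Nat.card Q < Nat.card N₀ := hcard₀ ▸ card_lt_of_lt (lt_normalizerIn hTp hlt₀)
  set K := fimg χ (P' ⊔ Q₀) with hKdef
  have hKS : K ≤ S := hχ.fimg_le_S
  have hKeq : K = fimg χ P' ⊔ Q₀ := by
    rw [hKdef, hχ.fimg_sup, fimg_eq_self_of_forall hχQ]
  have hKN : ∀ n ∈ N₀, ∀ z ∈ K, n * z * n⁻¹ ∈ K := by
    intro n hn z hz
    have h1 : K ≤ K.comap (MulAut.conj n).toMonoidHom := by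
      conv_lhs => rw [hKeq]
      refine sup_le (fimg_le fun x hx => ?_) fun q hq => ?_
      · show n * χ x * n⁻¹ ∈ K
        rw [hfix n hn x hx, mul_inv_cancel_right]
        exact apply_mem_fimg χ (Subgroup.mem_sup_left hx)
      · show n * q * n⁻¹ ∈ K
        rw [hKeq]
        exact Subgroup.mem_sup_right ((Subgroup.mem_normalizer_iff.1 hn.2 q).1 hq)
    exact h1 hz
  have hN₀K : N₀ ≤ normalizerIn S K := fun n hn => by
    refine ⟨d.tS hn.1, mem_normalizer_of_forall (hKN n hn) fun z hz => ?_⟩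
    have := hKN n⁻¹ (N₀.inv_mem hn) z hz
    rwa [inv_inv] at this
  obtain ⟨K₀, hK₀, hK₀n⟩ := exists_fullyNormalized F hKS
  obtain ⟨g, hg, hgK, -⟩ := exists_map_to_fullyNormalized d.pgroup d.sat hK₀n hK₀
  have hχK : ∀ z ∈ P' ⊔ Q₀, χ z ∈ normalizerIn S K := fun z hz =>
    le_normalizerIn hKS (apply_mem_fimg χ hz)
  have hm := hχ.comp hg hχK
  have hmK : fimg (fun z => g (χ z)) (P' ⊔ Q₀) = K₀ := by rw [hχ.fimg_comp]; exact hgK
  have hP'T : ∀ {H : Subgroup Ω}, H ≤ T → P' ≤ Subgroup.normalizer (H : Set Ω) := fun {H} hH x hx =>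
    Subgroup.centralizer_le_normalizer _ fun t ht => d.comm (hP'Y hx) (hH ht)
  have hdom : P' ⊔ Q₀ ≤ P' ⊔ N₀ := sup_le_sup_left hN₀Q P'
  obtain ⟨θ, hθ, hθe⟩ := receptive_extend (receptive_of_fullyNormalized d.pgroup d.sat hK₀n) hm hmK
    (N := P' ⊔ N₀) (fun z hz => by
      obtain ⟨a, ha, n, hn, rfl⟩ : z ∈ (P' : Set Ω) * (N₀ : Set Ω) := by
        rw [← Subgroup.coe_mul_of_left_le_normalizer_right P' N₀ (hP'T inf_le_left)]
        exact hz
      have hn' : ∀ x ∈ P' ⊔ Q₀, n * x * n⁻¹ ∈ P' ⊔ Q₀ ∧ χ (n * x * n⁻¹) = n * χ x * n⁻¹ := by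
        intro x hx
        obtain ⟨b, hb, q, hq, rfl⟩ : x ∈ (P' : Set Ω) * (Q₀ : Set Ω) := by
          rw [← Subgroup.coe_mul_of_left_le_normalizer_right P' Q₀ (hP'T hQ₀T)]
          exact hx
        have hq' : n * q * n⁻¹ ∈ Q₀ := (Subgroup.mem_normalizer_iff.1 hn.2 q).1 hq
        have e1 : n * (b * q) * n⁻¹ = b * (n * q * n⁻¹) := by
          rw [← mul_assoc n b q, d.comm (hP'Y hb) hn.1]; group
        rw [e1]
        refine ⟨Subgroup.mul_mem_sup hb hq', ?_⟩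
        rw [hχ.map_mul (Subgroup.mem_sup_left hb) (Subgroup.mem_sup_right hq'),
          hχ.map_mul (Subgroup.mem_sup_left hb) (Subgroup.mem_sup_right hq), hχQ _ hq', hχQ _ hq,
          ← mul_assoc n (χ b) q, hfix n hn b hb]
        group
      refine ⟨⟨S.mul_mem (hχ.source_le (Subgroup.mem_sup_left ha)) (d.tS hn.1),
        Subgroup.mul_mem _ (Subgroup.le_normalizer (Subgroup.mem_sup_left ha))
          (mem_normalizer_of_forall (fun x hx => (hn' x hx).1) fun x hx => ?_)⟩, ?_⟩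
      · obtain ⟨b, hb, q, hq, rfl⟩ : x ∈ (P' : Set Ω) * (Q₀ : Set Ω) := by
          rw [← Subgroup.coe_mul_of_left_le_normalizer_right P' Q₀ (hP'T hQ₀T)]
          exact hx
        rw [show n⁻¹ * (b * q) * n = b * (n⁻¹ * q * n) by
          rw [← mul_assoc n⁻¹ b q, d.comm (hP'Y hb) (T.inv_mem hn.1)]; group]
        exact Subgroup.mul_mem_sup hb ((Subgroup.mem_normalizer_iff''.1 hn.2 q).1 hq)
      · refine ⟨g (χ a) * g n, S.mul_mem (hm.apply_mem (Subgroup.mem_sup_left ha))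
          (hg.apply_mem (hN₀K hn)), fun x hx => ?_⟩
        obtain ⟨h1, h2⟩ := hn' x hx
        show g (χ (a * n * x * (a * n)⁻¹)) = g (χ a) * g n * g (χ x) * (g (χ a) * g n)⁻¹
        rw [show a * n * x * (a * n)⁻¹ = a * (n * x * n⁻¹) * a⁻¹ by group]
        refine (hm.map_conj (Subgroup.mem_sup_left ha) h1).trans ?_
        show g (χ a) * g (χ (n * x * n⁻¹)) * (g (χ a))⁻¹ = _
        rw [h2, hg.map_conj (hN₀K hn) (hχK x hx)]
        group) hdom
  -- the map on `P'` extends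
  have hθE := big hN₀ hN₀card hP'Y hθ
  have hθY := d.ext_mem hP'Y hθE
  set A := fimg χ P' ⊔ N₀ with hAdef
  have hA : A ≤ normalizerIn S K :=
    sup_le (fimg_le fun x hx => hχK x (Subgroup.mem_sup_left hx)) hN₀K
  obtain ⟨g', hg', hg1, -, -⟩ := (hg.res hA).exists_inv
  rw [(hg.res hA).fimg_sup] at hg'
  have hgP : fimg g (fimg χ P') ≤ Y := fimg_le fun y hy => by
    obtain ⟨x, hx, rfl⟩ := hχmap.mem_fimg_iff.1 hy
    have h1 := hθY x hx
    rwa [hθe x (Subgroup.mem_sup_left hx)] at h1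
  have hgN : IsMap F N₀ g := hg.res hN₀K
  have hgQ₀ : E.IsCentric (fimg g Q₀) :=
    InvClass.centric_transport d.inv hQ₀ (hgN.res hN₀Q)
  have hgNT : fimg g N₀ ≤ T :=
    fimg_le fun x hx => StronglyClosed.apply_mem d.tsc hgN inf_le_left hx
  have hg'E := big (centric_mono hgQ₀ (fimg_mono g hN₀Q) hgNT)
    (hgN.card_fimg.symm ▸ hN₀card) hgP hg'
  have hχE : Ext F T P' χ := by
    refine (d.ext_comp hθE hg'E fun x hx => ?_).congr fun x hx => ?_
    · rw [hθe x (Subgroup.mem_sup_left hx)]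
      exact apply_mem_fimg g (apply_mem_fimg χ hx)
    · rw [hθe x (Subgroup.mem_sup_left hx)]
      exact hg1 _ (Subgroup.mem_sup_left (apply_mem_fimg χ hx))
  have hγE : Ext F T P γ := ⟨γ, hγ.res (sup_le ((hP.trans d.le).trans le_sup_right) le_sup_left),
    fun _ _ => rfl⟩
  have hφE : Ext F T P (fun z => f (ψ z)) := by
    refine (d.ext_comp hγE hχE fun x hx => apply_mem_fimg γ hx).congr fun x hx => ?_
    show f (ψ (h' (γ x))) = f (ψ x)
    rw [← hhP x hx, hh1 x (Subgroup.mem_sup_left hx)]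
  have hφY := d.ext_mem hP hφE
  -- back from the normalizer position
  set N₁ := normalizerIn T Q₁
  have hN₁Q : Q₁ ≤ N₁ := le_normalizerIn hQ₁T
  have hN₁S : N₁ ≤ normalizerIn S Q₁ := fun x hx => ⟨d.tS hx.1, hx.2⟩
  haveI : Finite ↥N₁ := finite_of_le (S := T) inf_le_left
  have hlt₁ : Q₁ < T := lt_of_le_of_ne hQ₁T fun h => by rw [h] at hcard₁; omega
  have hN₁card : Nat.card Q < Nat.card N₁ := hcard₁ ▸ card_lt_of_lt (lt_normalizerIn hTp hlt₁)
  have hB : fimg ψ P ⊔ N₁ ≤ normalizerIn S Q₁ :=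
    sup_le (fimg_le fun x hx => hψm x (Subgroup.mem_sup_left hx)) hN₁S
  obtain ⟨f', hf', hf1, -, -⟩ := (hf.res hB).exists_inv
  rw [(hf.res hB).fimg_sup] at hf'
  have hfN₁ : IsMap F N₁ f := hf.res hN₁S
  have hfNT : fimg f N₁ ≤ T :=
    fimg_le fun x hx => StronglyClosed.apply_mem d.tsc hfN₁ inf_le_left hx
  have hfP : fimg f (fimg ψ P) ≤ Y := fimg_le fun y hy => by
    obtain ⟨x, hx, rfl⟩ := (hψ.res le_sup_left).mem_fimg_iff.1 hy
    exact hφY x hx
  have hf'E := big (centric_mono hQ₀ (hfQ.symm.le.trans (fimg_mono f hN₁Q)) hfNT)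
    (hfN₁.card_fimg.symm ▸ hN₁card) hfP hf'
  exact (d.ext_comp hφE hf'E fun x hx => apply_mem_fimg f (apply_mem_fimg ψ hx)).congr
    fun x hx => hf1 _ (Subgroup.mem_sup_left (apply_mem_fimg ψ hx))

/-- Every map on a subgroup of `Y` extends over `T`. -/
theorem ext_all {P : Subgroup Ω} {f : Ω → Ω} (hP : P ≤ Y) (hf : IsMap F P f) : Ext F T P f := by
  suffices h : ∀ P', P' ≤ P → P' ≤ Y → Ext F T P' f from h P le_rfl hP
  refine alperin d.pgroup d.sat (fun R g => ∀ P', P' ≤ R → P' ≤ Y → Ext F T P' g)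
    (fun R g g' h e P' h1 h2 => (h P' h1 h2).congr fun x hx => e x (h1 hx)) ?_
    (fun R R' g _ hRR' h P' h1 h2 => h P' (h1.trans hRR') h2) ?_ ?_ hf
  · intro R R' g g' hg hg' hm h h' P' h1 h2
    have hgm := d.ext_mem h2 (h P' h1 h2)
    exact d.ext_comp (h P' h1 h2) (h' (fimg g P') (fimg_le fun x hx => hm x (h1 hx))
      (fimg_le hgm)) fun x hx => apply_mem_fimg g hx
  · intro α hα P' _ h2
    exact ⟨autFun α, ((mem_autGroup le_rfl).1 hα).res (sup_le (h2.trans d.yS) d.tS), fun _ _ => rfl⟩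
  · intro R hR α hα P' h1 h2
    have hc := centric_inf_of_radical d.pgroup d.sat d.inv hR.1 (radical_of_essential d.pgroup hR)
    exact d.good hc h2 (((mem_autGroup hR.1.1).1 hα).res (sup_le h1 inf_le_left))

end Setup

end Cfsg.Agent.Fus.CentNormal
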