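import Mathlib
import Cfsg.Agent.Lib.Fus.CentralizerNormalExt
import Cfsg.Agent.Lib.Fus.PPowerChain
import Cfsg.Agent.Lib.Fus.PPowerNormal

/-!
The centralizer of a normal subsystem is a normal subsystem over the largest subgroup of `C_S(T)`
it centralizes.
-/

set_option autoImplicit false
set_option linter.style.haveILetI false
set_option linter.unusedSectionVars false
set_option linter.unusedVariables false

open scoped Classical Pointwise

universe u

namespace Cfsg.Agent.Fus.CentNormal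

open Subgroup FusionSystem FocalCent

variable {Ω : Type u} [Group Ω] {S T : Subgroup Ω} {F : FusionSystem S} {E : FusionSystem T}
  {p : ℕ} {Y : Subgroup Ω}

namespace Setup

variable [Finite S] [Fact p.Prime] (d : Setup F E p Y)
include d

theorem sclosed : F.StronglyClosed Y :=
  stronglyClosed_of_forall d.yS fun _ hR _ hf => d.ext_mem hR (d.ext_all hR hf)

theorem centralizerSystem_saturated : (centralizerSystem F T d.tS).IsSaturated p :=
  isSaturated_centralizerSystem d.pgroup d.sat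
    (fullyCentralized_of_fullyNormalized d.pgroup d.sat d.tfn)
    (isCentralizerSystem_centralizerSystem F d.tS)

/-- A map on a subgroup of `Y` is an automorphism of `T C_S(T)` after a map centralizing `T`. -/
theorem exists_gamma_decomp {P : Subgroup Ω} {f : Ω → Ω} (hP : P ≤ Y) (hf : IsMap F P f) :
    ∃ γ c, IsMap F (T ⊔ centralizerIn S T) γ ∧ (∀ y ∈ Y, γ y ∈ Y) ∧
      IsMap (centralizerSystem F T d.tS) P c ∧ (∀ x ∈ P, c x ∈ Y) ∧ ∀ x ∈ P, f x = γ (c x) := by
  obtain ⟨g, hg, hge⟩ := d.ext_all hP hf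
  have hgT : IsMap F T g := hg.res le_sup_right
  have hgTT := fimg_stronglyClosed d.tsc hgT le_rfl
  obtain ⟨α, hα, hαe⟩ := hgT.exists_aut hgTT
  obtain ⟨γ, hγ, hγe, hγC, hγU, hγY⟩ := d.exists_gamma hα
  obtain ⟨γ', hγ', hγ1, hγ2, -⟩ := hγ.exists_inv
  rw [hγU] at hγ' hγ2
  have hgC : ∀ z ∈ P, g z ∈ centralizerIn S T := fun z hz => by
    have h1 := hg.map_centralizerIn (P := T) le_sup_right (Subgroup.mem_sup_left hz)
      (mem_centralizerIn.1 (d.le (hP hz))).2
    rwa [hgTT] at h1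
  have hm : ∀ z ∈ P ⊔ T, g z ∈ T ⊔ centralizerIn S T := fun z hz =>
    (sup_comm (centralizerIn S T) T).le (d.ext_image hg hgC z hz)
  have hgc := hg.comp hγ' hm
  have hfix : ∀ t ∈ T, γ' (g t) = t := fun t ht => by
    rw [← hαe t ht, ← hγe t ht, hγ1 t (Subgroup.mem_sup_left ht)]
  have hcY : ∀ x ∈ P, γ' (g x) ∈ Y := d.ext_mem hP ⟨_, hgc, fun _ _ => rfl⟩
  refine ⟨γ, fun z => γ' (g z), hγ, hγY, ?_, hcY, fun x hx => ?_⟩
  · exact (isMap_centralizerSystem d.tS (isCentralizerSystem_centralizerSystem F d.tS)).2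
      ⟨hP.trans d.le, fun z hz => d.le (hcY z hz), _, hgc, fun _ _ => rfl, hfix⟩
  · rw [← hge x hx]
    exact ((hγ2 _ (hm x (Subgroup.mem_sup_left hx))).2).symm

/-- An automorphism of `Y` transports the automorphisms in the centralizer system. -/
theorem exists_twist_hom {α : MulAut Y} (hα : α ∈ F.autGroup Y) {Q : Subgroup Ω} (hQ : Q ≤ Y) :
    ∃ Φ : (centralizerSystem F T d.tS).autGroup Q →*
        (centralizerSystem F T d.tS).autGroup (fimg (autFun α) Q),
      ∀ β, ∀ x ∈ Q, autFun (Φ β : MulAut ↥(fimg (autFun α) Q)) (autFun α x) =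
        autFun α (autFun (β : MulAut Q) x) := by
  set C := centralizerSystem F T d.tS
  have hC := isCentralizerSystem_centralizerSystem F d.tS
  have hαm : IsMap F Y (autFun α) := (mem_autGroup d.yS).1 hα
  obtain ⟨a, ha, hae⟩ := d.ext_all le_rfl hαm
  have haT : fimg a T = T := fimg_stronglyClosed d.tsc (ha.res le_sup_right) le_rfl
  have hQY : Q ⊔ T ≤ Y ⊔ T := sup_le_sup_right hQ T
  obtain ⟨a', ha', ha1, ha2, -⟩ := (ha.res hQY).exists_inv
  have haimg : fimg a (Q ⊔ T) = fimg (autFun α) Q ⊔ T := by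
    rw [(ha.res hQY).fimg_sup, haT, fimg_congr fun x hx => hae x (hQ hx)]
  rw [haimg] at ha' ha2
  have hRY : fimg (autFun α) Q ≤ Y := fimg_le fun x hx => autFun_mem α (hQ hx)
  haveI := finite_of_le (hRY.trans d.yS)
  have hex : ∀ β : C.autGroup Q, ∃ γ : C.autGroup (fimg (autFun α) Q),
      ∀ x ∈ Q, autFun (γ : MulAut ↥(fimg (autFun α) Q)) (autFun α x) =
        autFun α (autFun (β : MulAut Q) x) := by
    intro β
    obtain ⟨-, -, b, hb, hb1, hb2⟩ := (isMap_centralizerSystem d.tS hC).1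
      ((mem_autGroup (hQ.trans d.le)).1 β.2)
    have hbm : ∀ z ∈ Q ⊔ T, b z ∈ Q ⊔ T :=
      Fixes.map_mem hb hb1 hb2 fun x hx => autFun_mem _ hx
    have hG := (ha'.comp hb fun z hz => (ha2 z hz).1).comp (ha.res hQY)
      fun z hz => hbm _ (ha2 z hz).1
    have hval : ∀ x ∈ Q, a (b (a' (autFun α x))) = autFun α (autFun (β : MulAut Q) x) :=
      fun x hx => by
        rw [← hae x (hQ hx), ha1 x (Subgroup.mem_sup_left hx), hb1 x hx,
          hae _ (hQ (autFun_mem _ hx))]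
    have hfixT : ∀ t ∈ T, a (b (a' t)) = t := fun t ht => by
      rw [← haT] at ht
      obtain ⟨w, hw, rfl⟩ := (ha.res le_sup_right).mem_fimg_iff.1 ht
      rw [ha1 w (Subgroup.mem_sup_right hw), hb2 w hw]
    have hCm : IsMap C (fimg (autFun α) Q) (fun z => a (b (a' z))) :=
      (isMap_centralizerSystem d.tS hC).2 ⟨hRY.trans d.le, fun z hz => by
        obtain ⟨x, hx, rfl⟩ := (hαm.res hQ).mem_fimg_iff.1 hz
        rw [hval x hx]
        exact d.le (autFun_mem α (hQ (autFun_mem _ hx))), _, hG, fun _ _ => rfl, hfixT⟩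
    obtain ⟨γ, hγ, hγe⟩ := hCm.exists_aut (Subgroup.eq_of_le_of_card_ge (fimg_le fun z hz => by
      obtain ⟨x, hx, rfl⟩ := (hαm.res hQ).mem_fimg_iff.1 hz
      rw [hval x hx]
      exact apply_mem_fimg _ (autFun_mem _ hx)) hCm.card_fimg.ge)
    exact ⟨⟨γ, hγ⟩, fun x hx => (hγe _ (apply_mem_fimg _ hx)).trans (hval x hx)⟩
  choose Φ hΦ using hex
  refine ⟨MonoidHom.mk' Φ fun β β' => Subtype.ext (mulAut_ext fun z hz => ?_), hΦ⟩
  obtain ⟨x, hx, rfl⟩ := (hαm.res hQ).mem_fimg_iff.1 hz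
  rw [hΦ _ x hx, Subgroup.coe_mul, Subgroup.coe_mul, autFun_mul _ _ hx, autFun_mul _ _ hz,
    hΦ _ x hx, hΦ _ _ (autFun_mem _ hx)]

variable {D : FusionSystem Y}

/-- The subsystem of `p`-power index of the centralizer system is stable under `Aut_F(Y)`. -/
theorem twist (hD : D.IsSaturated p)
    (hDi : D.HasPPowerIndexIn (centralizerSystem F T d.tS) p) {α : MulAut Y}
    (hα : α ∈ F.autGroup Y) {P : Subgroup Ω} {f : Ω → Ω} (hf : IsMap D P f) :
    ∃ k, IsMap D (fimg (autFun α) P) k ∧ ∀ x ∈ P, k (autFun α x) = autFun α (f x) := by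
  haveI : Finite Y := finite_of_le d.yS
  have hYp : IsPGroup p Y := d.pgroup.to_le d.yS
  have hαm : IsMap F Y (autFun α) := (mem_autGroup d.yS).1 hα
  have key : ∀ Q, D.IsFullyNormalized Q → ∀ β ∈ D.autGroup Q,
      ∃ k, IsMap D (fimg (autFun α) Q) k ∧
        ∀ x ∈ Q, k (autFun α x) = autFun α (autFun β x) := by
    intro Q hQ β hβ
    obtain ⟨g, hg, ρ, hρ, e⟩ :=
      aut_decomp (fullyAutomized_of_fullyNormalized hYp hD hQ) ⟨β, hβ⟩
    obtain ⟨Φ, hΦ⟩ := d.exists_twist_hom hα hQ.1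
    set ρC := Subgroup.inclusion (autGroup_mono hDi.1 Q) ρ
    have hρC : ρC ∈ pResidual p ((centralizerSystem F T d.tS).autGroup Q) :=
      Transfer.pResidual_map_le (Subgroup.inclusion (autGroup_mono hDi.1 Q)) ⟨ρ, hρ, rfl⟩
    have hΦρ := Transfer.pResidual_map_le Φ ⟨ρC, hρC, rfl⟩
    have hQY : fimg (autFun α) Q ≤ Y := fimg_le fun x hx => autFun_mem α (hQ.1 hx)
    have hm : IsMap D (fimg (autFun α) Q) (autFun (Φ ρC : MulAut ↥(fimg (autFun α) Q))) :=
      (mem_autGroup hQY).1 (hDi.2.2 _ hQY (Subgroup.mem_map_of_mem _ hΦρ))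
    refine ⟨_, hm.comp (isMap_conj D hQY (g := autFun α g) (autFun_mem α hg))
      fun y hy => autFun_mem _ hy, fun x hx => ?_⟩
    show autFun α g * autFun (Φ ρC : MulAut ↥(fimg (autFun α) Q)) (autFun α x) * (autFun α g)⁻¹ = _
    rw [hΦ ρC x hx, e x hx]
    exact (hαm.map_conj hg (hQ.1 (autFun_mem (ρ : MulAut Q) hx))).symm
  refine alperin hYp hD (fun P f => ∃ k, IsMap D (fimg (autFun α) P) k ∧
    ∀ x ∈ P, k (autFun α x) = autFun α (f x)) ?_ ?_ ?_
    (fun β hβ => key Y (fullyNormalized_self D) β hβ) (fun Q hQ => key Q hQ.2.1) hf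
  · rintro P f g ⟨k, hk, h⟩ e
    exact ⟨k, hk, fun x hx => by rw [← e x hx]; exact h x hx⟩
  · rintro P Q f g hPf hQg hfQ ⟨k, hk, h⟩ ⟨l, hl, h'⟩
    refine ⟨_, hk.comp hl fun y hy => ?_, fun x hx => ?_⟩
    · obtain ⟨x, hx, rfl⟩ := (hαm.res hPf.source_le).mem_fimg_iff.1 hy
      rw [h x hx]
      exact apply_mem_fimg _ (hfQ x hx)
    · show l (k (autFun α x)) = _
      rw [h x hx, h' _ (hfQ x hx)]
  · rintro P Q f - hPQ ⟨k, hk, h⟩
    exact ⟨k, hk.res (fimg_mono _ hPQ), fun x hx => h x (hPQ hx)⟩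

/-- A `p'`-automorphism of `Y` centralizing `T` extends over `C_S(Y)` moving it by `Z(Y)`. -/
theorem exists_shift {a : MulAut Y} (hord : (orderOf a).Coprime p) {b : Ω → Ω}
    (hb : IsMap F (Y ⊔ T) b) (hbY : ∀ y ∈ Y, b y = autFun a y) (hbT : ∀ t ∈ T, b t = t) :
    ∃ β, IsMap F (Y ⊔ centralizerIn S Y) β ∧ (∀ y ∈ Y, β y = autFun a y) ∧
      ∀ c ∈ centralizerIn S Y, c⁻¹ * β c ∈ Y ⊓ Subgroup.centralizer (Y : Set Ω) := by
  have hYsc := d.sclosed
  have hTS := d.tS
  have hWS : Y ⊔ T ≤ S := sup_le d.yS hTS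
  set N := Y ⊔ centralizerIn S Y with hNdef
  have hTN : T ≤ centralizerIn S Y := fun t ht =>
    mem_centralizerIn.2 ⟨hTS ht, fun y hy => (d.comm hy ht).symm⟩
  have hWN : Y ⊔ T ≤ N := sup_le_sup_left hTN Y
  have hNS : N ≤ S := sup_le d.yS inf_le_left
  haveI := finite_of_le hNS
  have hWn : F.IsFullyNormalized (Y ⊔ T) := by
    refine ⟨hWS, fun Q hQ => ?_⟩
    obtain ⟨g, hg, rfl⟩ := isConj_iff.1 hQ
    rw [hg.fimg_sup, fimg_stronglyClosed hYsc hg le_sup_left,
      fimg_stronglyClosed d.tsc hg le_sup_right]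
  have hbW : fimg b (Y ⊔ T) = Y ⊔ T := by
    rw [hb.fimg_sup, fimg_stronglyClosed hYsc hb le_sup_left,
      fimg_stronglyClosed d.tsc hb le_sup_right]
  obtain ⟨β₀, hβ₀, hβ₀e⟩ := receptive_extend (receptive_of_fullyNormalized d.pgroup d.sat hWn) hb
    hbW (N := N) (fun z hz => by
      refine ⟨⟨hNS hz, ?_⟩, ?_⟩
      · refine mem_normalizer_of_forall (fun w hw => ?_) fun w hw => ?_
        · have h := apply_mem_fimg (fun x => z * x * z⁻¹) hw
          rwa [(isMap_conj F hWS (hNS hz)).fimg_sup,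
            fimg_stronglyClosed hYsc (isMap_conj F d.yS (hNS hz)) le_rfl,
            fimg_stronglyClosed d.tsc (isMap_conj F hTS (hNS hz)) le_rfl] at h
        · have h := apply_mem_fimg (fun x => z⁻¹ * x * z⁻¹⁻¹) hw
          rw [(isMap_conj F hWS (S.inv_mem (hNS hz))).fimg_sup,
            fimg_stronglyClosed hYsc (isMap_conj F d.yS (S.inv_mem (hNS hz))) le_rfl,
            fimg_stronglyClosed d.tsc (isMap_conj F hTS (S.inv_mem (hNS hz))) le_rfl] at h
          simpa using h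
      · obtain ⟨y, hy, c, hc, rfl⟩ : z ∈ (Y : Set Ω) * (centralizerIn S Y : Set Ω) := by
          rw [← Subgroup.coe_mul_of_right_le_normalizer_left Y (centralizerIn S Y)
            ((centralizerIn_le_normalizerIn (S := S) Y).trans inf_le_right)]
          exact hz
        refine ⟨b y * c, S.mul_mem (hb.apply_mem (Subgroup.mem_sup_left hy)) hc.1, fun x hx => ?_⟩
        obtain ⟨y₀, hy₀, t, ht, rfl⟩ : x ∈ (Y : Set Ω) * (T : Set Ω) := by
          rw [← Subgroup.coe_mul_of_right_le_normalizer_left Y T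
            (hTS.trans (le_normalizer_of_stronglyClosed hYsc))]
          exact hx
        have hct : c * t * c⁻¹ ∈ T := StronglyClosed.conj_mem' d.tsc hc.1 ht
        have hcy : ∀ u ∈ Y, c * u = u * c := fun u hu => ((mem_centralizerIn.1 hc).2 u hu).symm
        have e1 : c * (y₀ * t) * c⁻¹ = y₀ * (c * t * c⁻¹) := by
          rw [← mul_assoc c y₀ t, hcy y₀ hy₀]; group
        have hbyY : b y₀ ∈ Y := (hbY y₀ hy₀).symm ▸ autFun_mem a hy₀
        rw [show y * c * (y₀ * t) * (y * c)⁻¹ = y * (c * (y₀ * t) * c⁻¹) * y⁻¹ by group, e1,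
          hb.map_conj (Subgroup.mem_sup_left hy) (Subgroup.mul_mem_sup hy₀ hct),
          hb.map_mul (Subgroup.mem_sup_left hy₀) (Subgroup.mem_sup_right hct),
          hb.map_mul (Subgroup.mem_sup_left hy₀) (Subgroup.mem_sup_right ht), hbT _ hct, hbT _ ht,
          show b y₀ * (c * t * c⁻¹) = c * (b y₀ * t) * c⁻¹ by
            rw [← mul_assoc c (b y₀) t, hcy _ hbyY]; group]
        group) hWN
  have hY0 : fimg β₀ Y = Y := fimg_stronglyClosed hYsc hβ₀ le_sup_left
  have hC0 : ∀ c ∈ centralizerIn S Y, β₀ c ∈ centralizerIn S Y := fun c hc => by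
    have h1 := hβ₀.map_centralizerIn (P := Y) le_sup_left (Subgroup.mem_sup_right hc)
      (mem_centralizerIn.1 hc).2
    rwa [hY0] at h1
  obtain ⟨B, hB, hBe⟩ := hβ₀.exists_aut (Subgroup.eq_of_le_of_card_ge (by
    rw [hβ₀.fimg_sup, hY0]
    exact sup_le_sup_left (fimg_le hC0) _) hβ₀.card_fimg.ge)
  have hBY : ∀ y ∈ Y, autFun B y = autFun a y := fun y hy => by
    rw [hBe y (Subgroup.mem_sup_left hy), hβ₀e y (Subgroup.mem_sup_left hy), hbY y hy]
  have hBT : ∀ t ∈ T, autFun B t = t := fun t ht => by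
    rw [hBe t (Subgroup.mem_sup_right (hTN ht)), hβ₀e t (Subgroup.mem_sup_right ht), hbT t ht]
  obtain ⟨j, m, hm, hn⟩ :=
    Nat.exists_eq_pow_mul_and_not_dvd (orderOf_pos B).ne' p (Fact.out : p.Prime).ne_one
  have hmp : m.Coprime p := ((Fact.out : p.Prime).coprime_iff_not_dvd.2 hm).symm
  obtain ⟨s, hs⟩ := exists_pow_eq_self_of_coprime ((hord.pow_right j).symm : (p ^ j).Coprime (orderOf a))
  set γ : MulAut N := (B ^ p ^ j) ^ s
  have hγm : γ ^ m = 1 := by
    show ((B ^ p ^ j) ^ s) ^ m = 1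
    rw [← pow_mul, mul_comm s, pow_mul, ← pow_mul B, ← hn, pow_orderOf_eq_one, one_pow]
  have hγY : ∀ y ∈ Y, autFun γ y = autFun a y := fun y hy => by
    show autFun ((B ^ p ^ j) ^ s) y = _
    rw [← pow_mul, autFun_pow_eq le_sup_left hBY _ y hy, pow_mul, hs]
  have hγT : ∀ t ∈ T, autFun γ t = t := fun t ht => by
    show autFun ((B ^ p ^ j) ^ s) t = t
    rw [← pow_mul, autFun_pow_eq (hTN.trans le_sup_right) (α := (1 : MulAut T))
      (fun x hx => (hBT x hx).trans (autFun_one hx).symm) _ t ht, one_pow, autFun_one ht]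
  have hγ : γ ∈ F.autGroup N := pow_mem (pow_mem hB _) _
  have hγmap : IsMap F N (autFun γ) := (mem_autGroup hNS).1 hγ
  have hγC : ∀ c ∈ centralizerIn S Y, autFun γ c ∈ centralizerIn S Y := fun c hc => by
    have h1 := hγmap.map_centralizerIn (P := Y) le_sup_left (Subgroup.mem_sup_right hc)
      (mem_centralizerIn.1 hc).2
    rwa [fimg_stronglyClosed hYsc hγmap le_sup_left] at h1
  refine ⟨autFun γ, hγmap, hγY, fun c hc => ?_⟩
  have hcN : c ∈ N := Subgroup.mem_sup_right hc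
  set Z := Y ⊓ Subgroup.centralizer (Y : Set Ω) with hZdef
  have hYz : ∀ w ∈ Z, autFun γ w ∈ Z := fun w hw =>
    ⟨(hγY w hw.1).symm ▸ autFun_mem a hw.1,
      (hγC w ⟨d.yS hw.1, hw.2⟩).2⟩
  set z := c⁻¹ * autFun γ c with hzdef
  have hzC : z ∈ centralizerIn S Y :=
    Subgroup.mul_mem _ (Subgroup.inv_mem _ hc) (hγC c hc)
  have hzT : z ∈ centralizerIn S T := by
    refine mem_centralizerIn.2 ⟨hzC.1, fun t ht => ?_⟩
    have hct : c * t * c⁻¹ ∈ T := StronglyClosed.conj_mem' d.tsc hc.1 ht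
    have h1 := hγmap.map_conj hcN (Subgroup.mem_sup_right (hTN ht))
    rw [hγT _ hct, hγT t ht] at h1
    calc t * z = c⁻¹ * (c * t * c⁻¹) * autFun γ c := by rw [hzdef]; group
      _ = z * t := by rw [h1, hzdef]; group
  have hzP : Subgroup.zpowers z ≤ centralizerIn S T := Subgroup.zpowers_le.2 hzT
  have hzd : Subgroup.zpowers z ⊔ T ≤ N :=
    sup_le (Subgroup.zpowers_le.2 (Subgroup.mem_sup_right hzC)) (hTN.trans le_sup_right)
  have hzm : IsMap (centralizerSystem F T hTS) (Subgroup.zpowers z) (autFun γ) := by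
    refine (isMap_centralizerSystem hTS (isCentralizerSystem_centralizerSystem F hTS)).2
      ⟨hzP, fun x hx => ?_, _, hγmap.res hzd, fun _ _ => rfl, hγT⟩
    have h1 := (hγmap.res hzd).map_centralizerIn (P := T) le_sup_right (Subgroup.mem_sup_left hx)
      (mem_centralizerIn.1 (hzP hx)).2
    rwa [fimg_eq_self_of_forall hγT] at h1
  have hw₀ : z⁻¹ * autFun γ z ∈ Z :=
    ⟨d.focal_le_Y (hzm.focal_mem (mem_zpowers z)),
      (Subgroup.mul_mem _ (Subgroup.inv_mem _ hzC) (hγC z hzC)).2⟩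
  have step : ∀ i : ℕ, ∃ w ∈ Z, autFun (γ ^ i) c = c * z ^ i * w := by
    intro i
    induction i with
    | zero => exact ⟨1, one_mem _, by rw [pow_zero, autFun_one hcN, pow_zero, mul_one, mul_one]⟩
    | succ i ih =>
      obtain ⟨w, hw, hwe⟩ := ih
      have hzN : z ∈ N := Subgroup.mem_sup_right hzC
      have hcomm : Commute z (z⁻¹ * autFun γ z) :=
        ((mem_centralizerIn.1 hzC).2 _ hw₀.1).symm
      refine ⟨(z⁻¹ * autFun γ z) ^ i * autFun γ w, mul_mem (pow_mem hw₀ _) (hYz w hw), ?_⟩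
      have hpow : ∀ k : ℕ, autFun γ (z ^ k) = autFun γ z ^ k := fun k => by
        induction k with
        | zero => rw [pow_zero, pow_zero, hγmap.map_one]
        | succ k ihk => rw [pow_succ, hγmap.map_mul (pow_mem hzN k) hzN, ihk, pow_succ]
      rw [pow_succ', autFun_mul _ _ hcN, hwe,
        hγmap.map_mul (mul_mem hcN (pow_mem hzN i)) (Subgroup.mem_sup_left hw.1),
        hγmap.map_mul hcN (pow_mem hzN i), hpow, show autFun γ c = c * z by rw [hzdef]; group,
        show autFun γ z = z * (z⁻¹ * autFun γ z) by group, hcomm.mul_pow, pow_succ']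
      group
  obtain ⟨w, hw, hwe⟩ := step m
  rw [hγm, autFun_one hcN, mul_assoc] at hwe
  have hzw : z ^ m ∈ Z := by
    have h2 : z ^ m * w = 1 := mul_left_cancel (hwe.symm.trans (mul_one c).symm)
    rw [eq_inv_of_mul_eq_one_left h2]
    exact inv_mem hw
  obtain ⟨k, hk⟩ := d.pgroup ⟨z, hzC.1⟩
  have hk' : orderOf z ∣ p ^ k := orderOf_dvd_of_pow_eq_one (congrArg Subtype.val hk)
  obtain ⟨r, hr⟩ := exists_pow_eq_self_of_coprime
    (Nat.Coprime.coprime_dvd_right hk' (hmp.pow_right k))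
  rw [← hr]
  exact pow_mem hzw r

/-- The centralizer of a normal subsystem is normal. -/
theorem exists_normal_index : ∃ D : FusionSystem Y, D.IsNormalIn F p ∧
    D.HasPPowerIndexIn (centralizerSystem F T d.tS) p := by
  have hS := d.pgroup
  have hF := d.sat
  have hTS := d.tS
  set C := centralizerSystem F T hTS with hCdef
  have hC := isCentralizerSystem_centralizerSystem F hTS
  haveI : Finite ↥(centralizerIn S T) := finite_of_le (S := S) inf_le_left
  haveI : Finite Y := finite_of_le d.yS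
  have hCp : IsPGroup p ↥(centralizerIn S T) := hS.to_le inf_le_left
  have hYp : IsPGroup p Y := hS.to_le d.yS
  have hCs := d.centralizerSystem_saturated
  have hYsc := d.sclosed
  have hYn : (Y.subgroupOf (centralizerIn S T)).Normal :=
    ⟨fun y hy c => StronglyClosed.conj_mem' hYsc c.2.1 hy⟩
  have hhyp : C.hyperfocalSubgroup p ≤ Y := (hyperfocal_le_focal C p).trans d.focal_le_Y
  obtain ⟨D, hD, hDi⟩ := PPowerExist.exists_pPowerIndex hCp hCs d.le hhyp
  obtain ⟨⟨-, -, hDinv⟩, -⟩ := isNormalIn_of_pPowerIndex hCp hCs d.le hYn hhyp hD hDi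
  have hCF : C.IsSubsystemOf F := fun P φ hφ => (mem_hom_iff.2 (by
    obtain ⟨-, -, g, hg, hg1, -⟩ := (isMap_centralizerSystem hTS hC).1 (isMap_toFun hφ)
    exact (hg.res le_sup_left).congr hg1))
  have hDF : D.IsSubsystemOf F := fun P φ hφ => hCF P (hDi.1 P hφ)
  refine ⟨D, ⟨⟨hD, hF, hDF, hYsc, ?_, ?_⟩, ?_⟩, hDi⟩
  · intro P hPY φ hφ α hα
    have hαm : IsMap F Y (autFun α) := (mem_autGroup d.yS).1 hα
    obtain ⟨k, hk, hke⟩ := d.twist hD hDi hα (isMap_toFun hφ)
    have heq : (P.subgroupOf Y).map (Y.subtype.comp α.toMonoidHom) = fimg (autFun α) P := by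
      ext y
      rw [(hαm.res hPY).mem_fimg_iff, Subgroup.mem_map]
      constructor
      · rintro ⟨t, ht, rfl⟩
        exact ⟨t, ht, autFun_coe α t⟩
      · rintro ⟨x, hx, rfl⟩
        exact ⟨⟨x, hPY hx⟩, hx, (autFun_coe α ⟨x, hPY hx⟩).symm⟩
    rw [← heq] at hk
    obtain ⟨χ, hχ, hχe⟩ := hk.exists_hom
    refine ⟨χ, hχ, fun x hφx hαx => ?_⟩
    rw [hχe]
    show k ((α ⟨x, hPY x.2⟩ : Y) : Ω) = _
    rw [← autFun_coe α ⟨x, hPY x.2⟩, hke x x.2, toFun_coe]
    exact autFun_coe α ⟨_, hφx⟩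
  · intro P hPY φ hφ
    obtain ⟨γ, c, hγ, hγY, hc, hcY, hce⟩ := d.exists_gamma_decomp hPY (isMap_toFun hφ)
    obtain ⟨α, hα, f₀, hf₀, he⟩ := frattini_of_isInvariantIn hDinv hPY hc
    have hαm : IsMap F Y (autFun α) := ((mem_autGroup d.le).1 hα).mono hCF
    have hm := hαm.comp hγ fun y hy => Subgroup.mem_sup_right (d.le (autFun_mem α hy))
    obtain ⟨β, hβ, hβe⟩ := hm.exists_aut (Subgroup.eq_of_le_of_card_ge
      (fimg_le fun y hy => hγY _ (autFun_mem α hy)) hm.card_fimg.ge)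
    obtain ⟨φ₀, hφ₀, hφe⟩ := hf₀.exists_hom
    refine ⟨β, hβ, φ₀, hφ₀, fun x hx => ?_⟩
    rw [← toFun_coe φ x, hce x x.2, he x x.2, ← hφe x]
    exact (hβe _ hx).symm.trans (autFun_coe β ⟨_, hx⟩)
  · intro α hα
    set U := Y ⊔ centralizerIn S Y with hUdef
    have hUS : U ≤ S := sup_le d.yS inf_le_left
    haveI := finite_of_le hUS
    set Z := Y ⊓ Subgroup.centralizer (Y : Set Ω) with hZdef
    let Good : MulAut Y → Prop := fun α => ∃ β, IsMap F U β ∧ (∀ y ∈ Y, β y = autFun α y) ∧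
      ∀ c ∈ centralizerIn S Y, c⁻¹ * β c ∈ Z
    have hmul : ∀ a b, Good a → Good b → Good (a * b) := by
      rintro a b ⟨β, hβ, h1, h2⟩ ⟨δ, hδ, k1, k2⟩
      have hshift : ∀ c ∈ centralizerIn S Y, ∃ w ∈ Z, δ c = c * w := fun c hc =>
        ⟨_, k2 c hc, by group⟩
      have hm : ∀ z ∈ U, δ z ∈ U := fun z hz => by
        have h := apply_mem_fimg δ hz
        rw [hδ.fimg_sup] at h
        refine sup_le (fimg_le fun y hy => Subgroup.mem_sup_left
          ((k1 y hy).symm ▸ autFun_mem b hy)) (fimg_le fun c hc => ?_) h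
        obtain ⟨w, hw, e⟩ := hshift c hc
        rw [e]
        exact mul_mem (Subgroup.mem_sup_right hc) (Subgroup.mem_sup_left hw.1)
      refine ⟨_, hδ.comp hβ hm, fun y hy => ?_, fun c hc => ?_⟩
      · show β (δ y) = _
        rw [k1 y hy, h1 _ (autFun_mem b hy), autFun_mul _ _ hy]
      · obtain ⟨w, hw, e⟩ := hshift c hc
        show c⁻¹ * β (δ c) ∈ Z
        rw [e, hβ.map_mul (Subgroup.mem_sup_right hc) (Subgroup.mem_sup_left hw.1), ← mul_assoc]
        refine mul_mem (h2 c hc) ⟨(h1 w hw.1).symm ▸ autFun_mem a hw.1, ?_⟩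
        have h3 := hβ.map_centralizerIn (P := Y) le_sup_left (Subgroup.mem_sup_left hw.1) hw.2
        rw [fimg_stronglyClosed hYsc hβ le_sup_left] at h3
        exact h3.2
    have hone : Good 1 := ⟨fun x => x, isMap_id F hUS, fun y hy => (autFun_one hy).symm,
      fun c _ => by rw [inv_mul_cancel]; exact one_mem _⟩
    obtain ⟨g, hg, ρ, hρ, e⟩ :=
      aut_decomp (fullyAutomized_of_fullyNormalized hYp hD (fullyNormalized_self D)) ⟨α, hα⟩
    have hρG : Good (ρ : MulAut Y) := by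
      have hpow : ∀ {a : MulAut Y}, Good a → ∀ k : ℕ, Good (a ^ k) := fun ha k => by
        induction k with
        | zero => rw [pow_zero]; exact hone
        | succ k ih => rw [pow_succ]; exact hmul _ _ ih ha
      refine Subgroup.closure_induction (p := fun (a : D.autGroup Y) _ => Good (a : MulAut Y))
        (fun a ha => ?_) hone (fun a b _ _ ha hb => hmul _ _ ha hb) (fun a _ ha => ?_) hρ
      · obtain ⟨-, -, b, hb, hb1, hb2⟩ := (isMap_centralizerSystem hTS hC).1
          (((mem_autGroup le_rfl).1 a.2).mono hDi.1)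
        exact d.exists_shift (Subgroup.orderOf_coe a ▸ ha) hb hb1 hb2
      · show Good ((a : MulAut Y))⁻¹
        rw [inv_eq_of_mul_eq_one_right
          (show (a : MulAut Y) * (a : MulAut Y) ^ (orderOf (a : MulAut Y) - 1) = 1 by
            rw [← pow_succ', Nat.sub_add_cancel (orderOf_pos _), pow_orderOf_eq_one])]
        exact hpow ha _
    obtain ⟨β, hβ, hβY, hβC⟩ := hρG
    have hm : ∀ z ∈ U, β z ∈ U := fun z hz => by
      have h := apply_mem_fimg β hz
      rw [hβ.fimg_sup] at h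
      refine sup_le (fimg_le fun y hy => Subgroup.mem_sup_left
        ((hβY y hy).symm ▸ autFun_mem _ hy)) (fimg_le fun c hc => ?_) h
      have h2 := mul_mem (Subgroup.mem_sup_right hc : c ∈ U) (Subgroup.mem_sup_left (hβC c hc).1)
      rwa [mul_inv_cancel_left] at h2
    have hgU : g ∈ U := Subgroup.mem_sup_left hg
    have hmap := hβ.comp (isMap_conj F hUS (d.yS hg)) hm
    obtain ⟨B, hB, hBe⟩ := hmap.exists_aut (Subgroup.eq_of_le_of_card_ge
      (fimg_le fun z hz => mul_mem (mul_mem hgU (hm z hz)) (inv_mem hgU)) hmap.card_fimg.ge)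
    refine ⟨B, hB, fun x => ?_, fun c hc => ?_⟩
    · rw [← autFun_coe B, ← autFun_coe α x, e x x.2, ← hβY x x.2]
      exact hBe x (Subgroup.mem_sup_left x.2)
    · rw [← autFun_coe B, hBe c c.2]
      have hcc : β (c : Ω) ∈ centralizerIn S Y := by
        have h1 := hβ.map_centralizerIn (P := Y) le_sup_left c.2 (mem_centralizerIn.1 hc).2
        rwa [fimg_stronglyClosed hYsc hβ le_sup_left] at h1
      show (c : Ω)⁻¹ * (g * β c * g⁻¹) ∈ Z
      rw [(mem_centralizerIn.1 hcc).2 g hg, mul_inv_cancel_right]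
      exact hβC c hc

theorem exists_normal : ∃ D : FusionSystem Y, D.IsNormalIn F p ∧
    ∀ P : Subgroup Ω, D.Hom P ⊆ F.centralizerHom T P :=
  let ⟨D, hD, hi⟩ := d.exists_normal_index
  ⟨D, hD, fun P _ hφ => hi.1 P hφ⟩

end Setup

end Cfsg.Agent.Fus.CentNormal
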