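import Cfsg.Agent.Lib.Fus.InnerCrit

/-!
The inner criterion relative to a family of abelian subgroups.
-/

set_option autoImplicit false
set_option linter.style.haveILetI false

open scoped Classical commutatorElement

namespace Cfsg.Agent.Fus

open Subgroup FusionSystem

variable {Ω : Type*} [Group Ω] {S : Subgroup Ω} [Finite S] {p : ℕ} [Fact p.Prime]
  {F : FusionSystem S}

theorem isPGroup_autGroup_bot : IsPGroup p (F.autGroup (⊥ : Subgroup Ω)) := fun a =>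
  ⟨0, Subtype.ext (MulEquiv.ext fun _ => Subsingleton.elim _ _)⟩

/-- The criterion for a family of abelian subgroups with invariance and replacement. -/
theorem isInner_of_family (hp : p ≠ 2) (hS : IsPGroup p S) (hF : F.IsSaturated p) {W : Subgroup Ω}
    (hWS : W ≤ S) {𝒜 : Set (Subgroup Ω)}
    (h𝒜 : ∀ A ∈ 𝒜, A ≤ S ∧ ∀ a ∈ A, ∀ b ∈ A, a * b = b * a) (hne : 𝒜.Nonempty)
    (hW1 : ∀ A ∈ 𝒜, W ≤ A) (hW2 : ∀ x ∈ S, (∀ A ∈ 𝒜, x ∈ A) → x ∈ W)
    (hinv : ∀ Q f, IsMap F Q f → fimg f Q = Q → (∃ A ∈ 𝒜, A ≤ Q) → ∀ x ∈ Q,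
      (∀ A ∈ 𝒜, A ≤ Q → x ∈ A) → ∀ A ∈ 𝒜, A ≤ Q → f x ∈ A)
    (hrep : ∀ B : Subgroup Ω, B ≤ S → S ≤ Subgroup.normalizer (B : Set Ω) → ⁅⁅B, B⁆, B⁆ = ⊥ →
      ⁅B, B⁆ ≤ W → (∃ A ∈ 𝒜, ¬ B ≤ A) →
      ∃ A ∈ 𝒜, ¬ B ≤ A ∧ B ≤ Subgroup.normalizer (A : Set Ω))
    (hN : ∀ P f, IsMap F P f → W ≤ P → fimg f W = W → ∃ s ∈ S, ∀ x ∈ P, f x = s * x * s⁻¹) :
    IsInner F := by
  haveI := finite_of_le hWS
  have hWf : ∀ f, IsMap F S f → ∀ x ∈ W, f x ∈ W := fun f hf x hx => by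
    obtain ⟨A₀, hA₀⟩ := hne
    exact hW2 _ (hf.apply_mem (hWS hx)) fun A hA => hinv S f hf (fimg_eq_self_of_source_top hf)
      ⟨A₀, hA₀, (h𝒜 A₀ hA₀).1⟩ x (hWS hx) (fun A' hA' _ => hW1 A' hA' hx) A hA (h𝒜 A hA).1
  refine innerInduction hS hF (fun R' hR' _ E' _ hE' X' hX' hXp hN' => ?_) ?_ ?_
  · haveI := finite_of_le hR'
    exact isInner_of_zjMod hp (hS.to_le hR') hE' hX' hXp hN'
  · intro f hf
    exact hN S f hf hWS (Subgroup.eq_of_le_of_card_ge (fimg_le fun x hx => hWf f hf x hx)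
      (hf.res hWS).card_fimg.ge)
  intro R₁ E₁ hR₁ hsub hE₁ hnor hcc hbig
  subst hR₁
  have hWn : (W.subgroupOf R₁).Normal := ⟨fun a ha b => hWf _ (isMap_conj F le_rfl b.2) _ ha⟩
  haveI := hWn
  have hcomap : ∀ K : Subgroup Ω, K ≤ R₁ →
      ((K.subgroupOf R₁).comap (MonoidHom.id R₁)).map R₁.subtype = K := fun K hK => by
    rw [Subgroup.comap_id, Subgroup.subgroupOf_map_subtype, inf_eq_left.2 hK]
  have hUR : E₁.core ≤ R₁ := (isNormal_core E₁).1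
  have hUb : (E₁.core.subgroupOf R₁).map (MonoidHom.id R₁) = E₁.core.subgroupOf R₁ :=
    Subgroup.map_id _
  refine (inner_or_invariant hp hS hE₁ (isNormal_core E₁) hcc hbig (isNormal_bot E₁) bot_le
    isPGroup_autGroup_bot (MonoidHom.id R₁) Function.surjective_id
    (fun r => ?_) (W := W.subgroupOf R₁) (fun a ha b hb => ?_)
    (𝒜 := (fun A : Subgroup Ω => A.subgroupOf R₁) '' 𝒜) ?_ ?_ ?_ ?_ ?_).elim id
      fun ⟨hYU, h⟩ => ?_
  · rw [MonoidHom.id_apply, Subgroup.mem_bot]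
    exact ⟨fun h => h ▸ rfl, fun h => Subtype.ext h⟩
  · obtain ⟨A₀, hA₀⟩ := hne
    exact Subtype.ext ((h𝒜 A₀ hA₀).2 _ (hW1 A₀ hA₀ ha) _ (hW1 A₀ hA₀ hb))
  · rintro _ ⟨A, hA, rfl⟩ a ha b hb
    exact Subtype.ext ((h𝒜 A hA).2 _ ha _ hb)
  · rintro _ ⟨A, hA, rfl⟩ x hx
    exact hW1 A hA hx
  · exact fun B hB x hx => hW2 x x.2 fun A hA => hB _ ⟨A, hA, rfl⟩ hx
  · rintro α hα β hcompat ⟨u, hu⟩ hmem _ ⟨A, hA, rfl⟩ hAU
    rw [hUb] at hAU
    have hle : ∀ A' ∈ 𝒜, A' ≤ E₁.core ↔ A'.subgroupOf R₁ ≤ E₁.core.subgroupOf R₁ := fun A' hA' =>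
      ⟨fun h x hx => h hx, fun h x hx => h (x := ⟨x, (h𝒜 A' hA').1 hx⟩) hx⟩
    have huU : (u : Ω) ∈ E₁.core := by
      have := hu
      rw [hUb] at this
      exact this
    have hm := ((mem_autGroup hUR).1 hα).mono hsub
    have h1 := hinv E₁.core (autFun α) hm (fimg_autFun α) ⟨A, hA, (hle A hA).2 hAU⟩ u huU
      (fun A' hA' hA'U => hmem _ ⟨A', hA', rfl⟩ (by rw [hUb]; exact (hle A' hA').1 hA'U))
      A hA ((hle A hA).2 hAU)
    have h2 := hcompat u ⟨autFun α u, hm.apply_mem huU⟩ huU rfl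
    simp only [MonoidHom.id_apply] at h2
    show ((β ⟨u, hu⟩ : _) : R₁) ∈ A.subgroupOf R₁
    rw [h2]
    exact h1
  · rintro B hB hcl hBW ⟨_, ⟨A, hA, rfl⟩, hBA⟩
    set B' := B.map R₁.subtype with hB'
    have hB'S : B' ≤ R₁ := Subgroup.map_subtype_le _
    have hSB : R₁ ≤ Subgroup.normalizer (B' : Set Ω) := fun s hs => by
      have key : ∀ {s : Ω}, s ∈ R₁ → ∀ x ∈ B', s * x * s⁻¹ ∈ B' := by
        rintro s hs _ ⟨b, hb, rfl⟩
        exact ⟨⟨s, hs⟩ * b * ⟨s, hs⟩⁻¹, hB.conj_mem b hb _, rfl⟩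
      exact mem_normalizer_of_forall (key hs) fun x hx => by simpa using key (inv_mem hs) x hx
    have hcl' : ⁅⁅B', B'⁆, B'⁆ = ⊥ := by
      rw [hB', ← Subgroup.map_commutator, ← Subgroup.map_commutator, hcl, Subgroup.map_bot]
    have hBW' : ⁅B', B'⁆ ≤ W := by
      rw [hB', ← Subgroup.map_commutator]
      exact (Subgroup.map_mono hBW).trans (by rw [Subgroup.subgroupOf_map_subtype]; exact inf_le_left)
    have hB'A : ¬ B' ≤ A := fun h => hBA fun b hb => h ⟨b, hb, rfl⟩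
    obtain ⟨A', hA', hn1, hn2⟩ := hrep B' hB'S hSB hcl' hBW' ⟨A, hA, hB'A⟩
    refine ⟨_, ⟨A', hA', rfl⟩, fun h => hn1 ?_, fun b hb => ?_⟩
    · rintro _ ⟨b, hb, rfl⟩
      exact h hb
    · refine Subgroup.mem_normalizer_iff.2 fun a => ?_
      simp only [Subgroup.mem_subgroupOf, Subgroup.coe_mul, Subgroup.coe_inv]
      exact Subgroup.mem_normalizer_iff.1 (hn2 ⟨b, hb, rfl⟩) a
  · intro P f hf
    obtain ⟨g, hg, hg1, hgY⟩ := h P f hf
    rw [hcomap W hWS] at hgY hYU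
    obtain ⟨s, hs, hse⟩ := hN _ g (hg.mono hsub) (hYU.trans le_sup_right) hgY
    exact ⟨s, hs, fun x hx => (hg1 x hx).symm.trans (hse x (Subgroup.mem_sup_left hx))⟩

/-- Innerness of the normalizer of a normal subgroup, in terms of maps. -/
theorem inner_normalizer_of_hom {W : Subgroup Ω} (hWS : W ≤ S)
    (hSW : S ≤ Subgroup.normalizer (W : Set Ω))
    (h : ∀ N : FusionSystem (normalizerIn S W), F.IsNormalizerSystem W N →
      ∀ P : Subgroup Ω, N.Hom P = (innerFusionSystem (normalizerIn S W)).Hom P)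
    {P : Subgroup Ω} {f : Ω → Ω} (hf : IsMap F P f) (hWP : W ≤ P) (hfW : fimg f W = W) :
    ∃ s ∈ S, ∀ x ∈ P, f x = s * x * s⁻¹ := by
  obtain ⟨s, hs, e⟩ := isInner_iff.2 (h _ (isNormalizerSystem_normalizerSystem F hWS)) P f
    ((isMap_normalizerSystem hWS).2 ⟨hf.source_le.trans (le_inf le_rfl hSW),
      fun x hx => ⟨hf.apply_mem hx, hSW (hf.apply_mem hx)⟩, f, hf.res (sup_le le_rfl hWP),
      fun x _ => rfl, hfW⟩)
  exact ⟨s, hs.1, e⟩

/-- Normalizer systems in an inner system are inner. -/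
theorem inner_hom_normalizer {W : Subgroup Ω} (hWS : W ≤ S)
    (h : ∀ P : Subgroup Ω, F.Hom P = (innerFusionSystem S).Hom P)
    (N : FusionSystem (normalizerIn S W)) (hN : F.IsNormalizerSystem W N) (P : Subgroup Ω) :
    N.Hom P = (innerFusionSystem (normalizerIn S W)).Hom P := by
  rw [isNormalizerSystem_unique hN (isNormalizerSystem_normalizerSystem F hWS)]
  refine isInner_iff.1 (fun P f hf => ?_) P
  obtain ⟨-, -, g, hg, hg1, hgW⟩ := (isMap_normalizerSystem hWS).1 hf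
  obtain ⟨s, hs, e⟩ := isInner_iff.2 h _ g hg
  refine ⟨s, ⟨hs, Subgroup.mem_normalizer_iff''.2 fun y => ?_⟩,
    fun x hx => (hg1 x hx).symm.trans (e x (Subgroup.mem_sup_left hx))⟩
  rw [← mem_fimg_conj, ← fimg_congr fun x hx => e x (Subgroup.mem_sup_right hx), hgW]

theorem normalizer_zj_of_closed {D : Subgroup Ω} (hD : F.StronglyClosed D) :
    S ≤ Subgroup.normalizer (centerThompsonAOf D : Set Ω) := by
  haveI := finite_of_le hD.1
  have key : ∀ {s : Ω}, s ∈ S → ∀ x ∈ centerThompsonAOf D, s * x * s⁻¹ ∈ centerThompsonAOf D := by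
    intro s hs x hx
    obtain ⟨hxD, hxA⟩ := mem_centerThompsonA_iff.1 hx
    refine mem_centerThompsonA_iff.2 ⟨StronglyClosed.conj_mem' hD hs hxD, fun A hA => ?_⟩
    have hDD : D.map (MulAut.conj s⁻¹).toMonoidHom = D := by
      refine Subgroup.eq_of_le_of_card_ge ?_
        (Subgroup.card_map_of_injective (MulEquiv.injective _)).ge
      rintro _ ⟨d, hd, rfl⟩
      exact StronglyClosed.conj_mem' hD (inv_mem hs) hd
    have h1 := hA.map (MulAut.conj s⁻¹)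
    rw [hDD] at h1
    obtain ⟨a, ha, e⟩ := hxA _ h1
    have e : s⁻¹ * a * s⁻¹⁻¹ = x := e
    rwa [← e, show s * (s⁻¹ * a * s⁻¹⁻¹) * s⁻¹ = a by group]
  exact fun s hs => mem_normalizer_of_forall (key hs) fun x hx => by
    simpa using key (inv_mem hs) x hx

/-- The criterion for `Z(J(D))`, `D` strongly closed. -/
theorem isInner_of_zj (hp : p ≠ 2) (hS : IsPGroup p S) (hF : F.IsSaturated p) {D : Subgroup Ω}
    (hD : F.StronglyClosed D)
    (hN : ∀ P f, IsMap F P f → centerThompsonAOf D ≤ P →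
      fimg f (centerThompsonAOf D) = centerThompsonAOf D → ∃ s ∈ S, ∀ x ∈ P, f x = s * x * s⁻¹) :
    IsInner F := by
  have hDS := hD.1
  haveI := finite_of_le hDS
  obtain ⟨A₀, ⟨hA₀1, hA₀2⟩, hA₀3⟩ := Set.exists_max_image
    {A : Subgroup Ω | A ≤ D ∧ ∀ x ∈ A, ∀ y ∈ A, x * y = y * x} (fun A => Nat.card A)
    ((finite_subgroups_le (S := D)).subset fun A hA => hA.1) ⟨⊥, bot_le, by simp⟩
  refine isInner_of_family hp hS hF ((fun x hx => hDS (mem_centerThompsonA_iff.1 hx).1))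
    (𝒜 := {A | IsMaxAb D A}) (fun A hA => ⟨hA.1.trans hDS, hA.2.1⟩)
    ⟨A₀, hA₀1, hA₀2, fun B hB hc => hA₀3 B ⟨hB, hc⟩⟩
    (fun A hA x hx => (mem_centerThompsonA_iff.1 hx).2 A hA)
    (fun x _ hx => mem_centerThompsonA_iff.2 ⟨hA₀1 (hx A₀ ⟨hA₀1, hA₀2, fun B hB hc =>
      hA₀3 B ⟨hB, hc⟩⟩), hx⟩) ?_ ?_ hN
  · intro Q f hf hfQ _ x hx hxall A hA hAQ
    obtain ⟨g, hg, hg1, hg2, -⟩ := hf.exists_inv
    rw [hfQ] at hg
    have hA' : IsMaxAb D (fimg g A) := by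
      refine ⟨fimg_le fun a ha => StronglyClosed.apply_mem hD (hg.res hAQ) hA.1 ha, ?_, fun B hB hc =>
        (hA.2.2 B hB hc).trans (hg.res hAQ).card_fimg.ge⟩
      intro u hu v hv
      obtain ⟨a, ha, rfl⟩ := (hg.res hAQ).mem_fimg_iff.1 hu
      obtain ⟨b, hb, rfl⟩ := (hg.res hAQ).mem_fimg_iff.1 hv
      rw [← hg.map_mul (hAQ ha) (hAQ hb), hA.2.1 a ha b hb, hg.map_mul (hAQ hb) (hAQ ha)]
    have hA'Q : fimg g A ≤ Q := fimg_le fun a ha => by
      have := hAQ ha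
      rw [← hfQ, hf.mem_fimg_iff] at this
      obtain ⟨y, hy, rfl⟩ := this
      rw [hg1 y hy]
      exact hy
    obtain ⟨a, ha, e⟩ := (hg.res hAQ).mem_fimg_iff.1 (hxall _ hA' hA'Q)
    rw [← e, (hg2 a (hfQ.symm ▸ hAQ ha)).2]
    exact ha
  · intro B hBS hSB hcl hBW hex
    exact exists_not_le_normalizing hp hS hDS hBS hSB
      (hBS.trans fun s hs => mem_normalizer_of_forall
        (fun d hd => StronglyClosed.conj_mem' hD hs hd)
        fun d hd => by simpa using StronglyClosed.conj_mem' hD (inv_mem hs) hd)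
      hcl (fun A hA => hBW.trans fun x hx => (mem_centerThompsonA_iff.1 hx).2 A hA) hex

end Cfsg.Agent.Fus
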