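import Cfsg.Agent.Lib.Fus.TwoCenter
import Cfsg.Agent.Lib.Fus.InnerFamily
import Cfsg.Prelude.Def_FusionReduction

/-!
The centre of the normalizer of the Thompson subgroup.
-/

set_option autoImplicit false
set_option linter.style.haveILetI false
set_option linter.unusedSectionVars false

open scoped Classical

namespace Cfsg.Agent.Fus

open Subgroup FusionSystem

universe u

variable {Ω : Type u} [Group Ω] {S : Subgroup Ω} [Finite S] {F : FusionSystem S} {p : ℕ}
  [Fact p.Prime]

theorem powerClosure_le {X : Subgroup Ω} : powerClosure p 1 X ≤ X :=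
  (Subgroup.closure_le X).2 fun _ ⟨_, hw, e⟩ => e ▸ X.pow_mem hw _

/-- The powers of a central subgroup of `S` centralised by the normalizer of `J(S)` are central. -/
theorem isCentral_powers (hS : IsPGroup p S) (hF : F.IsSaturated p) {X : Subgroup Ω}
    (hX : X ≤ S ⊓ Subgroup.centralizer (S : Set Ω))
    (hN : ∀ P f, IsMap F P f → thompsonSubgroupAOf S ≤ P →
      fimg f (thompsonSubgroupAOf S) = thompsonSubgroupAOf S → FixesExt F X P f) :
    F.IsCentral (powerClosure p 1 X) := by
  refine isCentral_iff.2 ⟨powerClosure_le.trans (hX.trans inf_le_left), fun P f hf => ?_⟩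
  refine forall_of_thompson_powers (D := FixesExt F (powerClosure p 1 X)) hS hF
    (isMapProp_fixesExt _) hX (fun P f hf hJ hfJ => ?_) (fun P f hf hle hfix =>
      ⟨f, hf.res (sup_le le_rfl hle), fun x _ => rfl, hfix⟩) hf
  obtain ⟨g, hg, hg1, hg2⟩ := hN P f hf hJ hfJ
  exact ⟨g, hg.res (sup_le_sup_left powerClosure_le P), hg1, fun x hx => hg2 x (powerClosure_le hx)⟩

/-- Freedom from the symmetric group of degree four, as the absence of a witness. -/
theorem not_qdWitness_two {S : Subgroup Ω} [Finite S] {F : FusionSystem S} (hS : IsPGroup 2 S)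
    (hF : F.IsSaturated 2) (h : F.IsSectionFree 2 (Equiv.Perm (Fin 4))) : ¬ QdWitness F 2 := by
  refine (isSectionFree_qd_iff hS hF).1 fun Q hQn hQc N hN L _ ι hmod ⟨K, K₀, hn, ⟨e⟩⟩ => ?_
  obtain ⟨e'⟩ := exists_qd_two_equiv
  exact h Q hQn hQc N hN L ι hmod ⟨K, K₀, hn, ⟨e.trans e'⟩⟩

/-- A central subgroup of `S` centralised by the normalizer of `J(S)` is central. -/
theorem isCentral_of_thompson_all (hS : IsPGroup p S) (hF : F.IsSaturated p)
    (hp : p ≠ 2 ∨ F.IsSectionFree p (Equiv.Perm (Fin 4))) {X : Subgroup Ω}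
    (hX : X ≤ S ⊓ Subgroup.centralizer (S : Set Ω))
    (hN : ∀ P f, IsMap F P f → thompsonSubgroupAOf S ≤ P →
      fimg f (thompsonSubgroupAOf S) = thompsonSubgroupAOf S → FixesExt F X P f) :
    F.IsCentral X := by
  by_cases h2 : p = 2
  swap
  · exact isCentral_of_thompson h2 hS hF hX hN
  subst h2
  obtain ⟨hXS, hpow⟩ := isCentral_iff.1 (isCentral_powers hS hF hX hN)
  have hw := not_qdWitness_two hS hF (hp.resolve_left (fun h => h rfl))
  refine isCentral_iff.2 ⟨hX.trans inf_le_left, fun P f hf => ?_⟩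
  refine jInductionStrong hS hF (isMapProp_fixesExt X) hX hN ?_ hf
  intro R E hRS hEF hEs hX' U hU hUc hbig hJ _ P₁ f₁ hf₁
  haveI : Finite R := finite_of_le hRS
  refine fixesExt_local_two hEF (hS.to_le hRS) hEs (fun h => hw (h.mono hEF)) hX' hU hUc hbig hJ
    (fun z hz α hα => ?_) hf₁
  have hzU : z ∈ U := hUc (mem_centralizerIn.2 ⟨(hX' hz).1, fun y hy =>
    Subgroup.mem_centralizer_iff.1 (hX' hz).2 y (hU.1 hy)⟩)
  have hz2 : z ^ 2 ∈ powerClosure 2 1 X := Subgroup.subset_closure ⟨z, hz, by rw [pow_one]⟩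
  obtain ⟨g, -, hg1, hg2⟩ := hpow U (autFun α) (((mem_autGroup hU.1).1 hα).mono hEF)
  rw [← hg1 _ (U.pow_mem hzU 2), hg2 _ hz2]

/-- The maps normalising `J(S)` fix the centre of its normalizer system. -/
theorem fixesExt_center_normalizer {N : FusionSystem (normalizerIn S (thompsonSubgroupAOf S))}
    (hN : F.IsNormalizerSystem (thompsonSubgroupAOf S) N) :
    N.center ≤ S ⊓ Subgroup.centralizer (S : Set Ω) ∧
    ∀ P f, IsMap F P f → thompsonSubgroupAOf S ≤ P →
      fimg f (thompsonSubgroupAOf S) = thompsonSubgroupAOf S → FixesExt F N.center P f := by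
  rw [isNormalizerSystem_unique hN (isNormalizerSystem_normalizerSystem F (thompsonA_le S))]
  set E := normalizerSystem F (thompsonSubgroupAOf S) (thompsonA_le S) with hE
  have hNJ : normalizerIn S (thompsonSubgroupAOf S) = S := normalizerIn_thompsonA F
  haveI : Finite ↥(normalizerIn S (thompsonSubgroupAOf S)) := finite_of_le (S := S) inf_le_left
  obtain ⟨hXS, hX⟩ := isCentral_iff.1 (isCentral_center E)
  refine ⟨fun x hx => ⟨(hXS hx).1, Subgroup.mem_centralizer_iff.2 fun s hs => ?_⟩,
    fun P f hf hJP hfJ => ?_⟩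
  · obtain ⟨g, hg, hg1, hg2⟩ := hX E.center _ (isMap_conj E hXS (hNJ.ge hs))
    have h1 : s * x * s⁻¹ = x := (hg1 x hx).symm.trans (hg2 x hx)
    exact mul_inv_eq_iff_eq_mul.1 h1
  · obtain ⟨g, hg, hg1, hg2⟩ := hX P f ((isMap_normalizerSystem _).2
      ⟨hf.source_le.trans hNJ.ge, fun x hx => hNJ.ge (hf.apply_mem hx), f,
        hf.res (sup_le le_rfl hJP), fun x _ => rfl, hfJ⟩)
    exact ⟨g, hg.mono (normalizerSystem_isSubsystemOf _), hg1, hg2⟩

/-- The centre of a system is central in the normalizer system of `J(S)`. -/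
theorem center_le_center_normalizer {N : FusionSystem (normalizerIn S (thompsonSubgroupAOf S))}
    (hN : F.IsNormalizerSystem (thompsonSubgroupAOf S) N) : F.center ≤ N.center := by
  rw [isNormalizerSystem_unique hN (isNormalizerSystem_normalizerSystem F (thompsonA_le S))]
  have hNJ : normalizerIn S (thompsonSubgroupAOf S) = S := normalizerIn_thompsonA F
  haveI : Finite ↥(normalizerIn S (thompsonSubgroupAOf S)) := finite_of_le (S := S) inf_le_left
  refine le_center ?_
  obtain ⟨hZS, hZ⟩ := isCentral_iff.1 (isCentral_center F)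
  refine isCentral_iff.2 ⟨hZS.trans hNJ.ge, fun P f hf => ?_⟩
  obtain ⟨hP, -, g, hg, hg1, hgJ⟩ := (isMap_normalizerSystem _).1 hf
  obtain ⟨k, hk, hk1, hk2⟩ := hZ _ g hg
  exact ⟨k, (isMap_normalizerSystem _).2 ⟨sup_le hP (hZS.trans hNJ.ge),
    fun x hx => hNJ.ge ((hk.res (sup_le_sup_right le_sup_left _)).apply_mem hx), k,
    hk.res (sup_le (sup_le (le_sup_left.trans le_sup_left) le_sup_right)
      (le_sup_right.trans le_sup_left)), fun x _ => rfl,
    (fimg_congr fun x hx => hk1 x (Subgroup.mem_sup_right hx)).trans hgJ⟩,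
    fun x hx => (hk1 x (Subgroup.mem_sup_left hx)).trans (hg1 x hx), hk2⟩

end Cfsg.Agent.Fus
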