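import Cfsg.Agent.Lib.Fus.FactorExist
import Cfsg.Agent.Lib.Fus.ThompsonCenter
import Cfsg.Agent.Lib.Fus.HyperfocalApp
import Cfsg.Agent.Lib.Fus.ZJFunctor
import Cfsg.Agent.Lib.Invol.ThompsonJ

/-!
Saturated systems in which the characteristic subgroups of `S` have `p`-groups as automizers.
-/

set_option autoImplicit false
set_option linter.style.haveILetI false
set_option linter.unusedSectionVars false

open scoped Classical commutatorElement

namespace Cfsg.Agent.Fus

open Subgroup FusionSystem

universe u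

/-- A fully automized subgroup with a `p`-group as automizer has it induced by `S`. -/
theorem autGroup_le_autInducedBy_of_isPGroup {Ω : Type u} [Group Ω] {S : Subgroup Ω} {p : ℕ}
    {F : FusionSystem S} {P : Subgroup Ω} (h : F.IsFullyAutomized p P)
    (hA : IsPGroup p (F.autGroup P)) : F.autGroup P ≤ autInducedBy S P := by
  obtain ⟨-, R, hR⟩ := h
  have hT : (⊤ : Subgroup (F.autGroup P)) = R := R.3 (hA.of_equiv Subgroup.topEquiv.symm) le_top
  intro α hα
  exact hR.le (hT.le (Subgroup.mem_top (⟨α, hα⟩ : F.autGroup P)))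

theorem isInner_of_char_pGroup (p : ℕ) [Fact p.Prime] (n : ℕ) :
    ∀ {Ω : Type u} [Group Ω] {S : Subgroup Ω} [Finite S] (F : FusionSystem S),
      Nat.card S ≤ n → IsPGroup p S → F.IsSaturated p → (p ≠ 2 ∨ ¬ QdWitness F 2) →
      (∀ Q : Subgroup Ω, Q ≤ S → Q ≠ ⊥ → (Q.subgroupOf S).Characteristic →
        IsPGroup p (F.autGroup Q)) → IsInner F := by
  induction n with
  | zero =>
    intro Ω _ S _ F hn
    exact absurd hn (by have := Nat.card_pos (α := S); omega)
  | succ n ih =>
    intro Ω _ S _ F hn hS hF hp h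
    by_cases hbot : S = ⊥
    · intro P f hf
      refine ⟨1, S.one_mem, fun x hx => ?_⟩
      have h1 : x = 1 := Subgroup.mem_bot.1 (hbot ▸ hf.source_le hx)
      subst h1
      rw [hf.map_one]
      group
    haveI : Nontrivial S := (Subgroup.nontrivial_iff_ne_bot S).2 hbot
    set J := thompsonSubgroupAOf S with hJ
    have hJS : J ≤ S := thompsonA_le S
    have hNJ : normalizerIn S J = S := normalizerIn_thompsonA F
    have hCJ : S ⊓ Subgroup.centralizer (J : Set Ω) ≤ J := centralizer_thompsonA_le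
    have hJne : J ≠ ⊥ := fun h0 => by
      refine hbot (eq_bot_iff.2 (le_trans (le_inf le_rfl fun s _ => ?_) (h0 ▸ hCJ)))
      refine Subgroup.mem_centralizer_iff.2 fun y hy => ?_
      have hy : y = 1 := Subgroup.mem_bot.1 (h0 ▸ hy : y ∈ (⊥ : Subgroup Ω))
      subst hy
      simp
    have hJc : (J.subgroupOf S).Characteristic := by
      have e : J.subgroupOf S = thompsonSubgroupA S :=
        Subgroup.comap_map_eq_self_of_injective S.subtype_injective _
      rw [e]
      exact Subgroup.characteristic_iff_map_eq.2 fun e => Invol.map_thompsonSubgroupA e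
    have hJn : F.IsFullyNormalized J := ⟨hJS, fun Q _ => by
      rw [hNJ]; exact Subgroup.card_le_of_le inf_le_left⟩
    haveI : Finite ↥(normalizerIn S J) := finite_of_le (S := S) inf_le_left
    have hNinner : IsInner (normalizerSystem F J hJn.1) :=
      isInner_of_autGroup (hS.to_le inf_le_left) (isSaturated_normalizerSystem hS hF hJn)
        (isNormal_normalizerSystem_self hJS)
        (fun x hx => hCJ ⟨(mem_centralizerIn.1 hx).1.1,
          Subgroup.mem_centralizer_iff.2 fun y hy => (Subgroup.mem_centralizer_iff.1 hx.2 y hy)⟩)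
        ((autGroup_mono (normalizerSystem_isSubsystemOf hJS) J).trans
          ((autGroup_le_autInducedBy_of_isPGroup (fullyAutomized_of_fullyNormalized hS hF hJn)
            (h J hJS hJne hJc)).trans (autInducedBy_mono hNJ.ge J)))
    set Z := (S ⊓ Subgroup.centralizer (S : Set Ω) : Subgroup Ω) with hZ
    have hp' : p ≠ 2 ∨ F.IsSectionFree p (Equiv.Perm (Fin 4)) := by
      by_cases h2 : p = 2
      · refine hp.imp_right fun hw => ?_
        subst h2
        obtain ⟨e'⟩ := exists_qd_two_equiv
        exact fun Q hQn hQc N hN L _ ι hmod ⟨K, K₀, hn', ⟨e⟩⟩ =>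
          isSectionFree_of_not_qdWitness hS hw Q hQn hQc N hN L ι hmod
            ⟨K, K₀, hn', ⟨e.trans e'.symm⟩⟩
      · exact Or.inl h2
    have hcen : F.IsCentral Z := by
      refine isCentral_of_thompson_all hS hF hp' le_rfl fun P f hf hJP hfJ => ?_
      obtain ⟨s, hs, e⟩ := hNinner P f ((isMap_normalizerSystem hJS).2
        ⟨hf.source_le.trans hNJ.ge, fun x hx => hNJ.ge (hf.apply_mem hx), f,
          hf.res (sup_le le_rfl hJP), fun x _ => rfl, hfJ⟩)
      refine ⟨fun x => s * x * s⁻¹, isMap_conj F (sup_le hf.source_le inf_le_left) hs.1,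
        fun x hx => (e x hx).symm, fun z hz => ?_⟩
      show s * z * s⁻¹ = z
      rw [Subgroup.mem_centralizer_iff.1 hz.2 s hs.1, mul_inv_cancel_right]
    obtain ⟨hZS, hZext⟩ := isCentral_iff.1 hcen
    have hT : F.StronglyClosed Z := stronglyClosed_of_isNormal (isNormal_iff.2 ⟨hZS, fun P f hf =>
      let ⟨g, hg, hg1, hg2⟩ := hZext P f hf
      ⟨g, hg, hg1, fimg_eq_self_of_forall hg2⟩⟩)
    have hZmem : ∀ s : S, s ∈ Subgroup.center S ↔ (s : Ω) ∈ Z := fun s =>
      ⟨fun hs => ⟨s.2, Subgroup.mem_centralizer_iff.2 fun y hy =>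
        congrArg Subtype.val (Subgroup.mem_center_iff.1 hs ⟨y, hy⟩)⟩,
      fun hs => Subgroup.mem_center_iff.2 fun y =>
        Subtype.ext (Subgroup.mem_centralizer_iff.1 hs.2 y y.2)⟩
    let θ : S →* S ⧸ Subgroup.center S := QuotientGroup.mk' _
    have hker : ∀ s : S, θ s = 1 ↔ (s : Ω) ∈ Z := fun s =>
      (QuotientGroup.eq_one_iff s).trans (hZmem s)
    have hE := isFactorSystem_factorSystemAlong F hT θ hker
    set E := factorSystemAlong F hT θ hker with hEdef
    have hr : θ.range = ⊤ := MonoidHom.range_eq_top.2 (QuotientGroup.mk'_surjective _)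
    haveI : Finite ↥θ.range := Finite.of_surjective θ.rangeRestrict θ.rangeRestrict_surjective
    have hcard : Nat.card θ.range ≤ n := by
      haveI := hS.center_nontrivial
      rw [hr, Subgroup.card_top]
      have h2 := Subgroup.card_eq_card_quotient_mul_card_subgroup (Subgroup.center S)
      have h3 : 1 < Nat.card (Subgroup.center S) := Finite.one_lt_card
      have h4 : 0 < Nat.card (S ⧸ Subgroup.center S) := Nat.card_pos
      nlinarith
    have hEinner : IsInner E := by
      refine ih E hcard (hS.of_surjective θ.rangeRestrict θ.rangeRestrict_surjective)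
        (isSaturated_factor hS hF hT hE)
        (hp.imp_right fun hw he => hw (qdWitness_of_factor hE he)) fun Q' hQ' hQne hQc => ?_
      have hQS : preimageAlong θ Q' ≤ S := preimageAlong_le Q'
      have hchar : ((preimageAlong θ Q').subgroupOf S).Characteristic := by
        refine Subgroup.characteristic_iff_map_le.2 fun ϕ => ?_
        rintro _ ⟨s, hs, rfl⟩
        obtain ⟨_, hsQ⟩ := mem_preimageAlong.1 (Subgroup.mem_subgroupOf.1 hs)
        let ψ : S ⧸ Subgroup.center S ≃* S ⧸ Subgroup.center S :=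
          QuotientGroup.congr _ _ ϕ (Subgroup.characteristic_iff_map_eq.1 inferInstance ϕ)
        let ψ' : θ.range ≃* θ.range := (MulEquiv.subgroupCongr hr).trans
          ((Subgroup.topEquiv.trans (ψ.trans Subgroup.topEquiv.symm)).trans
            (MulEquiv.subgroupCongr hr.symm))
        have h1 := Subgroup.characteristic_iff_map_le.1 hQc ψ'
          (Subgroup.mem_map_of_mem ψ'.toMonoidHom
            (Subgroup.mem_subgroupOf.2 hsQ : (⟨θ s, s, rfl⟩ : θ.range) ∈ Q'.subgroupOf θ.range))
        exact Subgroup.mem_subgroupOf.2 (mem_preimageAlong.2 ⟨(ϕ s).2, h1⟩)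
      have hne : preimageAlong θ Q' ≠ ⊥ := fun h0 => hQne <| eq_bot_iff.2 fun y hy => by
        obtain ⟨x, rfl⟩ := hQ' hy
        have hx : (x : Ω) ∈ preimageAlong θ Q' := mem_preimageAlong.2 ⟨x.2, hy⟩
        rw [h0, Subgroup.mem_bot] at hx
        rw [Subgroup.mem_bot, show x = 1 from Subtype.ext hx, map_one]
      rintro ⟨β, hβ⟩
      obtain ⟨g, hg, hge⟩ := exists_lift hE ((mem_autGroup hQ').1 hβ)
      haveI := finite_of_le hQS
      have hgQ : fimg g (preimageAlong θ Q') = preimageAlong θ Q' :=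
        Subgroup.eq_of_le_of_card_ge (fimg_le fun x hx => mem_preimageAlong.2
          ⟨hg.apply_mem hx, (hge x hx (hg.apply_mem hx)).symm ▸
            autFun_mem β (mem_preimageAlong.1 hx).2⟩) hg.card_fimg.ge
      obtain ⟨α, hα, hαe⟩ := hg.exists_aut hgQ
      obtain ⟨k, hk⟩ := h _ hQS hne hchar ⟨α, hα⟩
      refine ⟨k, Subtype.ext ?_⟩
      have hk' : α ^ p ^ k = 1 := congrArg Subtype.val hk
      have hpow : ∀ (j : ℕ) (x : Ω) (hx : x ∈ preimageAlong θ Q'),
          autFun (β ^ j) (θ ⟨x, hQS hx⟩) = θ ⟨autFun (α ^ j) x, hQS (autFun_mem _ hx)⟩ := by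
        intro j
        induction j with
        | zero =>
          intro x hx
          rw [pow_zero, autFun_one (mem_preimageAlong.1 hx).2]
          refine congrArg θ (Subtype.ext ?_)
          show x = autFun (α ^ 0) x
          rw [pow_zero, autFun_one hx]
        | succ j ihj =>
          intro x hx
          rw [pow_succ', autFun_mul _ _ (mem_preimageAlong.1 hx).2, ihj x hx,
            ← hge _ (autFun_mem _ hx) (hg.apply_mem (autFun_mem _ hx))]
          refine congrArg θ (Subtype.ext ?_)
          show g (autFun (α ^ j) x) = autFun (α ^ (j + 1)) x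
          rw [pow_succ', autFun_mul _ _ hx, hαe _ (autFun_mem _ hx)]
      refine mulAut_ext fun y hy => ?_
      obtain ⟨x, rfl⟩ := hQ' hy
      have hx : (x : Ω) ∈ preimageAlong θ Q' := mem_preimageAlong.2 ⟨x.2, hy⟩
      show autFun (β ^ p ^ k) (θ x) = autFun 1 (θ x)
      rw [autFun_one hy, show x = ⟨(x : Ω), hQS hx⟩ from rfl, hpow _ _ hx]
      refine congrArg θ (Subtype.ext ?_)
      show autFun (α ^ p ^ k) (x : Ω) = x
      rw [hk', autFun_one hx]
    have hfoc : F.focalSubgroup ≤ ⁅S, S⁆ ⊔ Z := by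
      refine focalSubgroup_le_iff.2 fun P f hf z hz => ?_
      obtain ⟨g, hg, hg1, -⟩ := hZext P f hf
      have hpre : preimageAlong θ (imageAlong θ (P ⊔ Z)) = P ⊔ Z :=
        preimageAlong_imageAlong hE hg.source_le le_sup_right
      have hle : imageAlong θ (P ⊔ Z) ≤ θ.range := by
        rintro _ ⟨x, -, rfl⟩
        exact ⟨x, rfl⟩
      obtain ⟨g', hg', hg'e⟩ := exists_induced hE hT hle (g := g) (hpre.symm ▸ hg)
      obtain ⟨s', hs', e⟩ := hEinner _ g' hg'
      obtain ⟨s, rfl⟩ := hs'
      have hzS := hf.source_le hz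
      have hz' : z ∈ preimageAlong θ (imageAlong θ (P ⊔ Z)) :=
        hpre.symm ▸ Subgroup.mem_sup_left hz
      have h2 := (hg'e z hz').symm.trans (e _ (mem_preimageAlong.1 hz').2)
      rw [← factor_conj, factor_map_eq_iff hE] at h2
      have h3 : ((s : Ω) * z * (s : Ω)⁻¹)⁻¹ * f z ∈ Z := by
        rw [← hg1 z hz]
        have h4 := Z.inv_mem h2
        simp only [mul_inv_rev, inv_inv, Subgroup.coe_mul, Subgroup.coe_inv] at h4 ⊢
        exact h4
      rw [show z⁻¹ * f z = ⁅z⁻¹, (s : Ω)⁆ * (((s : Ω) * z * (s : Ω)⁻¹)⁻¹ * f z) by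
        rw [commutatorElement_def]; group]
      exact mul_mem (Subgroup.mem_sup_left
        (Subgroup.commutator_mem_commutator (inv_mem hzS) s.2)) (Subgroup.mem_sup_right h3)
    refine isInner_of_focal_le_frattini hS hF (le_trans ?_ (commutator_le_frattini_map hS))
    intro x hx
    obtain ⟨a, ha, b, hb, rfl⟩ : ∃ a ∈ ⁅S, S⁆, ∃ b ∈ Z, a * b = x := by
      have hn : ⁅S, S⁆ ≤ Subgroup.normalizer (Z : Set Ω) := fun c hc => by
        have hcS : c ∈ S := commutator_le_focal F |>.trans (focalSubgroup_le F) hc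
        refine Subgroup.mem_normalizer_iff.2 fun y => ⟨fun hy => ?_, fun hy => ?_⟩
        · rw [Subgroup.mem_centralizer_iff.1 hy.2 c hcS, mul_inv_cancel_right]
          exact hy
        · have e := Subgroup.mem_centralizer_iff.1 hy.2 c hcS
          have e2 : c * y * c⁻¹ = y := mul_left_cancel (a := c) (e.trans (by group))
          exact e2 ▸ hy
      have hm : x ∈ ((⁅S, S⁆ ⊔ Z : Subgroup Ω) : Set Ω) := hfoc hx
      rw [Subgroup.coe_mul_of_left_le_normalizer_right _ _ hn] at hm
      obtain ⟨a, ha, b, hb, e⟩ := Set.mem_mul.1 hm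
      exact ⟨a, ha, b, hb, e⟩
    have hb' : b ∈ F.focalSubgroup ⊓ F.center := ⟨by
      have := mul_mem (inv_mem (commutator_le_focal F ha)) hx
      rwa [inv_mul_cancel_left] at this, le_center hcen hb⟩
    rw [focal_inf_center hS hF] at hb'
    exact mul_mem ha hb'.1

end Cfsg.Agent.Fus
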