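import Cfsg.Agent.Lib.Fus.FactorSat

/-!
The factor system modulo a strongly closed subgroup.
-/

set_option autoImplicit false
set_option linter.style.haveILetI false
set_option linter.unusedSectionVars false

open scoped Classical

namespace Cfsg.Agent.Fus

open Subgroup FusionSystem

universe u v

variable {Ω : Type u} [Group Ω] {S : Subgroup Ω} {F : FusionSystem S} {T : Subgroup Ω}
  {Ω' : Type v} [Group Ω'] {θ : S →* Ω'}

theorem le_preimageAlong_of_ker (hTS : T ≤ S) (hker : ∀ s : S, θ s = 1 ↔ (s : Ω) ∈ T)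
    (P' : Subgroup Ω') : T ≤ preimageAlong θ P' := fun x hx =>
  mem_preimageAlong.2 ⟨hTS hx, by rw [(hker ⟨x, hTS hx⟩).2 hx]; exact P'.one_mem⟩

/-- The factor system modulo a strongly closed subgroup. -/
def factorSystemAlong [Finite S] (F : FusionSystem S) (hT : F.StronglyClosed T) (θ : S →* Ω')
    (hker : ∀ s : S, θ s = 1 ↔ (s : Ω) ∈ T) : FusionSystem θ.range where
  Hom P' := {φ' | P' ≤ θ.range ∧ ∃ φ ∈ F.Hom (preimageAlong θ P'), InducedAlong θ φ φ'}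
  le_of_mem := by
    rintro P' φ' ⟨hP', φ, hφ, hP, hφS, hPP, he⟩
    refine ⟨hP', fun y => ?_⟩
    obtain ⟨x, hx⟩ := hP' y.2
    have hxp : (x : Ω) ∈ preimageAlong θ P' := mem_preimageAlong.2 ⟨x.2, hx.symm ▸ y.2⟩
    refine ⟨⟨φ ⟨x, hxp⟩, hφS _⟩, ?_⟩
    rw [← he ⟨x, hxp⟩]
    exact congrArg φ' (Subtype.ext hx)
  injective_of_mem := by
    rintro P' φ' ⟨hP', φ, hφ, hP, hφS, hPP, he⟩
    refine (injective_iff_map_eq_one φ').2 fun y hy => ?_
    obtain ⟨x, hx⟩ := hP' y.2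
    have hxp : (x : Ω) ∈ preimageAlong θ P' := mem_preimageAlong.2 ⟨x.2, hx.symm ▸ y.2⟩
    rw [show y = (⟨θ ⟨x, hP hxp⟩, hPP ⟨x, hxp⟩⟩ : P') from Subtype.ext hx.symm] at hy
    have hy := (hker _).1 ((he ⟨x, hxp⟩).symm.trans hy)
    have hf := isMap_toFun hφ
    have hTp := le_preimageAlong_of_ker hT.1 hker P'
    have hy' : toFun φ (x : Ω) ∈ fimg (toFun φ) T := by
      rw [fimg_stronglyClosed hT hf hTp, toFun_apply φ hxp]
      exact hy
    obtain ⟨t, ht, e⟩ := (hf.res hTp).mem_fimg_iff.1 hy'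
    have := hf.injOn (hTp ht) hxp e
    refine Subtype.ext ?_
    rw [← hx, OneMemClass.coe_one, hker]
    exact this ▸ ht
  conj_mem := by
    intro P' g hP' hg
    obtain ⟨s, rfl⟩ := hg
    refine ⟨hP', conjHom _ (s : Ω), F.conj_mem (preimageAlong_le P') s.2, preimageAlong_le P',
      fun x => S.mul_mem (S.mul_mem s.2 (preimageAlong_le P' x.2)) (S.inv_mem s.2),
      fun x => (mem_preimageAlong.1 x.2).2, fun x => ?_⟩
    show θ s * θ ⟨x, _⟩ * (θ s)⁻¹ = _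
    rw [← factor_conj]
    rfl
  comp_mem := by
    rintro P' Q' φ' ψ' ⟨hP', φ, hφ, hP, hφS, hPP, he⟩ ⟨-, ψ, hψ, hQ, hψS, hQQ, he'⟩ h
    have hmem : ∀ x, φ x ∈ preimageAlong θ Q' := fun x =>
      mem_preimageAlong.2 ⟨hφS x, he x ▸ h _⟩
    refine ⟨hP', _, F.comp_mem hφ hψ hmem, hP, fun x => hψS _, hPP, fun x => ?_⟩
    show ψ' ⟨φ' ⟨_, hPP x⟩, h _⟩ = _
    rw [show (⟨φ' ⟨_, hPP x⟩, h _⟩ : Q') = ⟨θ ⟨φ x, hQ (hmem x)⟩, hQQ ⟨φ x, hmem x⟩⟩ from
      Subtype.ext (he x)]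
    exact he' ⟨φ x, hmem x⟩
  inv_mem := by
    rintro P' φ' ⟨hP', φ, hφ, hP, hφS, hPP, he⟩
    have hf := isMap_toFun hφ
    have hTp := le_preimageAlong_of_ker hT.1 hker P'
    have hinj : Function.Injective φ' := by
      refine (injective_iff_map_eq_one φ').2 fun y hy => ?_
      obtain ⟨x, hx⟩ := hP' y.2
      have hxp : (x : Ω) ∈ preimageAlong θ P' := mem_preimageAlong.2 ⟨x.2, hx.symm ▸ y.2⟩
      rw [show y = (⟨θ ⟨x, hP hxp⟩, hPP ⟨x, hxp⟩⟩ : P') from Subtype.ext hx.symm] at hy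
      have hy := (hker _).1 ((he ⟨x, hxp⟩).symm.trans hy)
      have hy' : toFun φ (x : Ω) ∈ fimg (toFun φ) T := by
        rw [fimg_stronglyClosed hT hf hTp, toFun_apply φ hxp]
        exact hy
      obtain ⟨t, ht, e⟩ := (hf.res hTp).mem_fimg_iff.1 hy'
      refine Subtype.ext ?_
      rw [← hx, OneMemClass.coe_one, hker]
      exact hf.injOn (hTp ht) hxp e ▸ ht
    have hpre : preimageAlong θ φ'.range = fimg (toFun φ) (preimageAlong θ P') := by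
      refine le_antisymm (fun y hy => ?_) (fimg_le fun x hx => mem_preimageAlong.2 ⟨hf.apply_mem hx,
        ⟨⟨θ ⟨x, hP hx⟩, hPP ⟨x, hx⟩⟩, (he ⟨x, hx⟩).trans
          (congrArg θ (Subtype.ext (toFun_apply φ hx).symm))⟩⟩)
      obtain ⟨hyS, ⟨z, hz⟩, hzy⟩ := mem_preimageAlong.1 hy
      obtain ⟨x, hx⟩ := hP' hz
      have hxp : (x : Ω) ∈ preimageAlong θ P' := mem_preimageAlong.2 ⟨x.2, hx.symm ▸ hz⟩
      rw [show (⟨z, hz⟩ : P') = ⟨θ ⟨x, hP hxp⟩, hPP ⟨x, hxp⟩⟩ from Subtype.ext hx.symm] at hzy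
      replace hzy := (he ⟨x, hxp⟩).symm.trans hzy
      have hd : (φ ⟨x, hxp⟩)⁻¹ * y ∈ T := by
        have := (hker ((⟨φ ⟨x, hxp⟩, hφS _⟩ : S)⁻¹ * ⟨y, hyS⟩)).1 (by
          rw [map_mul, map_inv, hzy, inv_mul_cancel])
        exact this
      rw [show y = φ ⟨x, hxp⟩ * ((φ ⟨x, hxp⟩)⁻¹ * y) by group]
      refine mul_mem (toFun_apply φ hxp ▸ apply_mem_fimg _ hxp) ?_
      rw [← fimg_stronglyClosed hT hf hTp] at hd
      exact fimg_mono _ hTp hd
    obtain ⟨g, hg, hg1, hg2, -⟩ := hf.exists_inv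
    rw [← hpre] at hg
    obtain ⟨χ, hχ, heχ⟩ := hg.exists_hom
    refine ⟨P'.subtype.comp (MonoidHom.ofInjective hinj).symm.toMonoidHom, ⟨?_, χ, hχ,
      preimageAlong_le _, (F.le_of_mem hχ).2, fun y => (mem_preimageAlong.1 y.2).2, fun y => ?_⟩,
      fun x => ?_⟩
    · rintro _ ⟨z, rfl⟩
      obtain ⟨x, hx⟩ := hP' z.2
      have hxp : (x : Ω) ∈ preimageAlong θ P' := mem_preimageAlong.2 ⟨x.2, hx.symm ▸ z.2⟩
      exact ⟨⟨φ ⟨x, hxp⟩, hφS _⟩, by
        rw [← he ⟨x, hxp⟩]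
        exact congrArg φ' (Subtype.ext hx)⟩
    · have hy : (y : Ω) ∈ fimg (toFun φ) (preimageAlong θ P') := hpre ▸ y.2
      obtain ⟨x, hx, hxy⟩ := hf.mem_fimg_iff.1 hy
      rw [toFun_apply φ hx] at hxy
      have e1 : (⟨θ ⟨(y : Ω), (preimageAlong_le _) y.2⟩, (mem_preimageAlong.1 y.2).2⟩ : φ'.range) =
          MonoidHom.ofInjective hinj ⟨θ ⟨x, hP hx⟩, hPP ⟨x, hx⟩⟩ := Subtype.ext (by
        show θ _ = φ' _
        rw [he ⟨x, hx⟩]
        exact congrArg θ (Subtype.ext hxy.symm))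
      show (((MonoidHom.ofInjective hinj).symm _ : P') : Ω') = _
      rw [e1, MulEquiv.symm_apply_apply]
      refine congrArg θ (Subtype.ext ?_)
      show x = χ y
      rw [heχ]
      have h1 := hg1 x hx
      rw [toFun_apply φ hx, hxy] at h1
      exact h1.symm
    · show (((MonoidHom.ofInjective hinj).symm ⟨φ' x, x, rfl⟩ : P') : Ω') = x
      rw [show (⟨φ' x, x, rfl⟩ : φ'.range) = MonoidHom.ofInjective hinj x from rfl,
        MulEquiv.symm_apply_apply]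

theorem isFactorSystem_factorSystemAlong [Finite S] (F : FusionSystem S) (hT : F.StronglyClosed T)
    (θ : S →* Ω') (hker : ∀ s : S, θ s = 1 ↔ (s : Ω) ∈ T) :
    F.IsFactorSystem T θ (factorSystemAlong F hT θ hker) :=
  ⟨hT.1, hker, rfl, fun _ _ => Iff.rfl⟩

end Cfsg.Agent.Fus
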