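import Cfsg.Agent.Lib.Fus.HypAction
import Cfsg.Agent.Lib.Fus.HyperfocalApp
import Cfsg.Agent.Lib.Fus.OddCenter

/-!
The second centre of a perfect system.
-/

set_option autoImplicit false
set_option linter.style.haveILetI false
set_option linter.unusedSectionVars false

open scoped Classical commutatorElement

namespace Cfsg.Agent.Fus

open Subgroup FusionSystem

universe u v

variable {Ω : Type u} [Group Ω] {S : Subgroup Ω} {F : FusionSystem S} {p : ℕ}
  {Ω' : Type v} [Group Ω'] {S' : Subgroup Ω'} {θ : S →* Ω'} {E : FusionSystem S'}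

theorem stronglyClosed_center [Finite S] (F : FusionSystem S) : F.StronglyClosed F.center :=
  stronglyClosed_of_isNormal (isNormal_iff.2 ⟨(isCentral_center F).1, fun P f hf =>
    let ⟨g, hg, hg1, hg2⟩ := (isCentral_iff.1 (isCentral_center F)).2 P f hf
    ⟨g, hg, hg1, fimg_eq_self_of_forall hg2⟩⟩)

/-- The centre of the system of a perfect system modulo its centre is trivial. -/
theorem center_factor_eq_bot [Finite S] [Fact p.Prime] (hS : IsPGroup p S) (hF : F.IsSaturated p)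
    (hperf : F.hyperfocalSubgroup p = S) (hE : F.IsFactorSystem F.center θ E) : E.center = ⊥ := by
  have hT := stronglyClosed_center F
  haveI : Finite θ.range := Finite.of_surjective θ.rangeRestrict θ.rangeRestrict_surjective
  haveI : Finite S' := hE.2.2.1 ▸ (inferInstance : Finite θ.range)
  set Z := F.center with hZ
  obtain ⟨hX'S, hX'⟩ := isCentral_iff.1 (isCentral_center E)
  set X := preimageAlong θ E.center with hX
  have hXS : X ≤ S := preimageAlong_le _
  have hZX : Z ≤ X := factor_le_preimage hE _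
  -- maps extend to `X`, trivially modulo `Z`
  have key : ∀ P f, IsMap F P f → ∃ g, IsMap F (P ⊔ X) g ∧ (∀ z ∈ P, (g z)⁻¹ * f z ∈ Z) ∧
      ∀ w ∈ X, w⁻¹ * g w ∈ Z := by
    intro P f hf
    obtain ⟨k, hk, hk1, -⟩ := (isCentral_iff.1 (isCentral_center F)).2 P f hf
    have hpre : preimageAlong θ (imageAlong θ (P ⊔ Z)) = P ⊔ Z :=
      preimageAlong_imageAlong hE hk.source_le le_sup_right
    have hle : imageAlong θ (P ⊔ Z) ≤ S' := by
      rintro _ ⟨x, -, rfl⟩
      exact hE.2.2.1.le ⟨x, rfl⟩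
    obtain ⟨k', hk', hk'e⟩ := exists_induced hE hT hle (g := k) (hpre.symm ▸ hk)
    obtain ⟨g', hg', hg'1, hg'2⟩ := hX' _ k' hk'
    obtain ⟨g, hg, hge⟩ := exists_lift hE hg'
    have hsub : P ⊔ X ≤ preimageAlong θ (imageAlong θ (P ⊔ Z) ⊔ E.center) := by
      refine sup_le (fun z hz => ?_) fun w hw => ?_
      · exact mem_preimageAlong.2 ⟨hf.source_le hz, Subgroup.mem_sup_left
          ⟨⟨z, hf.source_le hz⟩, Subgroup.mem_sup_left hz, rfl⟩⟩
      · obtain ⟨h1, h2⟩ := mem_preimageAlong.1 hw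
        exact mem_preimageAlong.2 ⟨h1, Subgroup.mem_sup_right h2⟩
    have hg₁ := hg.res hsub
    refine ⟨g, hg₁, fun z hz => ?_, fun w hw => ?_⟩
    · have hgz : g z ∈ S := hg₁.apply_mem (Subgroup.mem_sup_left hz)
      have h1 := hge z (hsub (Subgroup.mem_sup_left hz)) hgz
      have hz' : z ∈ preimageAlong θ (imageAlong θ (P ⊔ Z)) :=
        hpre.symm ▸ Subgroup.mem_sup_left hz
      rw [hg'1 _ (mem_preimageAlong.1 hz').2, hk'e z hz', factor_map_eq_iff hE] at h1
      rw [← hk1 z hz]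
      exact h1
    · have hgw : g w ∈ S := hg₁.apply_mem (Subgroup.mem_sup_right hw)
      have h1 := hge w (hsub (Subgroup.mem_sup_right hw)) hgw
      rw [hg'2 _ (mem_preimageAlong.1 hw).2] at h1
      exact (factor_map_eq_iff hE).1 h1.symm
  have hcent : ∀ z ∈ Z, ∀ s ∈ S, s * z = z * s := fun z hz s hs => center_comm F hz hs
  have hcomm : ∀ w ∈ X, ∀ s ∈ S, ⁅w, s⁆ ∈ Z := by
    intro w hw s hs
    obtain ⟨hwS, hw'⟩ := mem_preimageAlong.1 hw
    have h := center_comm E hw' (hE.2.2.1.le ⟨⟨s, hs⟩, rfl⟩)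
    have : θ ⁅(⟨w, hwS⟩ : S), ⟨s, hs⟩⁆ = 1 := by
      rw [map_commutatorElement, commutatorElement_eq_one_iff_commute]
      exact h.symm
    exact (hE.2.1 _).1 this
  -- the pairing with an element of `X` kills the focal subgroup
  have hXZ : ∀ w ∈ X, ∀ s ∈ S, ⁅w, s⁆ = 1 := by
    intro w hw
    have hwS := hXS hw
    let ψ : S →* S := MonoidHom.mk' (fun s => ⁅(⟨w, hwS⟩ : S), s⁆) fun s t => Subtype.ext <| by
      show ⁅w, (s : Ω) * t⁆ = ⁅w, (s : Ω)⁆ * ⁅w, (t : Ω)⁆
      rw [show ⁅w, (s : Ω) * t⁆ = ⁅w, (s : Ω)⁆ * ((s : Ω) * ⁅w, (t : Ω)⁆ * (s : Ω)⁻¹) by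
        simp only [commutatorElement_def]; group,
        hcent _ (hcomm w hw t t.2) s s.2, mul_inv_cancel_right]
    have hle : F.focalSubgroup ≤ ψ.ker.map S.subtype := by
      refine focalSubgroup_le_iff.2 fun P f hf z hz => ?_
      obtain ⟨g, hg, hg1, hg2⟩ := key P f hf
      have hzS := hf.source_le hz
      refine ⟨(⟨z, hzS⟩ : S)⁻¹ * ⟨f z, hf.apply_mem hz⟩, ?_, rfl⟩
      show ψ _ = 1
      rw [map_mul, map_inv, inv_mul_eq_one]
      refine Subtype.ext ?_
      show ⁅w, z⁆ = ⁅w, f z⁆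
      have hwg : g ⁅w, z⁆ = ⁅g w, g z⁆ := by
        have hw1 : w ∈ P ⊔ X := Subgroup.mem_sup_right hw
        have hz1 : z ∈ P ⊔ X := Subgroup.mem_sup_left hz
        rw [commutatorElement_def, hg.map_mul (mul_mem (mul_mem hw1 hz1) (inv_mem hw1)) (inv_mem hz1),
          hg.map_mul (mul_mem hw1 hz1) (inv_mem hw1), hg.map_mul hw1 hz1, hg.map_inv hw1,
          hg.map_inv hz1, ← commutatorElement_def]
      rw [hg.fix_center (Subgroup.mem_sup_right (hZX (hcomm w hw z hzS))) (hcomm w hw z hzS)] at hwg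
      rw [hwg]
      obtain ⟨c, hc, ec⟩ := eq_mul_mem (hg1 z hz)
      obtain ⟨d, hd, ed⟩ : ∃ d ∈ Z, g w = w * d := ⟨_, hg2 w hw, by group⟩
      have hgz : g z ∈ S := hg.apply_mem (Subgroup.mem_sup_left hz)
      have e1 : d * g z = g z * d := (hcent d hd _ hgz).symm
      have e2 : ⁅w * d, g z⁆ = ⁅w, g z⁆ := by
        calc ⁅w * d, g z⁆ = w * (d * g z) * d⁻¹ * w⁻¹ * (g z)⁻¹ := by
              simp only [commutatorElement_def]; group
          _ = _ := by rw [e1]; simp only [commutatorElement_def]; group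
      have e3 : ⁅w, g z * c⁆ = ⁅w, g z⁆ := by
        calc ⁅w, g z * c⁆ = w * g z * (c * w⁻¹) * c⁻¹ * (g z)⁻¹ := by
              simp only [commutatorElement_def]; group
          _ = _ := by rw [← hcent c hc _ (S.inv_mem hwS)]; simp only [commutatorElement_def]; group
      rw [ed, ec, e2, e3]
    intro s hs
    obtain ⟨s', hs', rfl⟩ := hle (hyperfocal_le_focal F p (hperf.ge hs))
    exact congrArg Subtype.val (hs' : ψ s' = 1)
  have hXC : ∀ w ∈ X, ∀ s ∈ S, s * w = w * s := fun w hw s hs =>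
    (commutatorElement_eq_one_iff_mul_comm.1 (hXZ w hw s hs)).symm
  -- the automorphisms of order prime to `p` fix `X`
  have haut : ∀ Q, F.IsCentric Q → F.IsFullyNormalized Q → ∀ α ∈ F.autGroup Q,
      FixesExt F X Q (autFun α) := by
    intro Q hQc hQn α hα
    have hQS := hQc.1
    haveI := finite_of_le hQS
    have hXQ : X ≤ Q := fun w hw => hQc.2 Q (isConj_refl F hQS) (mem_centralizerIn.2
      ⟨hXS hw, fun y hy => hXC w hw y (hQS hy)⟩)
    obtain ⟨s, hs, ρ, hρ, hρe⟩ := aut_decomp (fullyAutomized_of_fullyNormalized hS hF hQn) ⟨α, hα⟩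
    have hfix : ∀ w ∈ X, autFun (ρ : MulAut Q) w = w := by
      refine Subgroup.closure_induction (p := fun (γ : F.autGroup Q) _ =>
        ∀ w ∈ X, autFun (γ : MulAut Q) w = w) (fun γ hγ w hw => ?_) (fun w hw => ?_)
        (fun a b _ _ ha hb w hw => ?_) (fun a _ ha w hw => ?_) hρ
      · obtain ⟨g, hg, hg1, hg2⟩ := key Q _ ((mem_autGroup hQS).1 γ.2)
        have hwQ := hXQ hw
        obtain ⟨c, hc, ec⟩ := eq_mul_mem (hg1 w hwQ)
        have hd : ∃ d ∈ Z, autFun (γ : MulAut Q) w = w * d :=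
          ⟨w⁻¹ * g w * c, mul_mem (hg2 w hw) hc, by rw [ec]; group⟩
        obtain ⟨d, hd, ed⟩ := hd
        have hdQ : d ∈ Q := hXQ (hZX hd)
        have hdfix : ∀ γ' : F.autGroup Q, autFun (γ' : MulAut Q) d = d := fun γ' =>
          ((mem_autGroup hQS).1 γ'.2).fix_center hdQ hd
        have hpow : ∀ n : ℕ, autFun ((γ : MulAut Q) ^ n) w = w * d ^ n := by
          intro n
          induction n with
          | zero => rw [pow_zero, autFun_one hwQ, pow_zero, mul_one]
          | succ n ih =>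
            rw [pow_succ, autFun_mul _ _ hwQ, ed, ← Subgroup.coe_pow,
              ((mem_autGroup hQS).1 (γ ^ n).2).map_mul hwQ hdQ, hdfix (γ ^ n), Subgroup.coe_pow, ih,
              mul_assoc, ← pow_succ]
        have h1 := hpow (orderOf γ)
        rw [← Subgroup.coe_pow, pow_orderOf_eq_one, Subgroup.coe_one, autFun_one hwQ,
          left_eq_mul] at h1
        obtain ⟨k, hk⟩ := hS ⟨d, hQS hdQ⟩
        have hk' : d ^ p ^ k = 1 := congrArg Subtype.val hk
        have hd1 : d = 1 := by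
          rw [← pow_one d, ← ((hγ : (orderOf γ).Coprime p).pow_right k).gcd_eq_one]
          exact pow_gcd_eq_one.2 ⟨h1, hk'⟩
        rw [ed, hd1, mul_one]
      · exact autFun_one (hXQ hw)
      · rw [Subgroup.coe_mul, autFun_mul _ _ (hXQ hw), hb w hw, ha w hw]
      · rw [Subgroup.coe_inv]
        conv_lhs => rw [← ha w hw]
        exact autFun_inv_apply _ (hXQ hw)
    refine ⟨autFun α, ((mem_autGroup hQS).1 hα).res (sup_le le_rfl hXQ), fun x _ => rfl,
      fun w hw => ?_⟩
    rw [show autFun α w = s * autFun (ρ : MulAut Q) w * s⁻¹ from hρe w (hXQ hw), hfix w hw,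
      hXC w hw s hs, mul_inv_cancel_right]
  have hXc : F.IsCentral X := isCentral_iff.2 ⟨hXS, fun P f hf =>
    alperin hS hF (FixesExt F X) (isMapProp_fixesExt X).congr (isMapProp_fixesExt X).comp
      (isMapProp_fixesExt X).res (fun α hα => haut S (centric_self F) (fullyNormalized_self F) α hα)
      (fun Q hQ α hα => haut Q hQ.1 hQ.2.1 α hα) hf⟩
  refine eq_bot_iff.2 fun y hy => ?_
  obtain ⟨x, rfl⟩ : ∃ x : S, θ x = y := hE.2.2.1.ge (hX'S hy)
  rw [Subgroup.mem_bot]
  exact (hE.2.1 x).2 (le_center hXc (mem_preimageAlong.2 ⟨x.2, hy⟩))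

end Cfsg.Agent.Fus
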