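import Cfsg.Agent.Lib.Fus.Centric
import Cfsg.Agent.Lib.Fus.NormalCrit

/-!
For a centric normal subgroup `U` of a saturated system over `S`, the monomial group of `S` over the
cosets of the image of `S` in `A = Aut(U)`: the ingredient of the construction of a model.
-/

set_option autoImplicit false
set_option linter.style.haveILetI false

open scoped Classical IsMulCommutative

attribute [local instance] Fintype.ofFinite

namespace Cfsg.Agent.Fus

open Subgroup FusionSystem

variable {Ω : Type*} [Group Ω] {S : Subgroup Ω} {F : FusionSystem S} {U : Subgroup Ω}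

theorem le_normalizer_of_isNormal (hU : F.IsNormal U) :
    S ≤ Subgroup.normalizer (U : Set Ω) := fun s hs => by
  have hsc := stronglyClosed_of_isNormal hU
  exact mem_normalizer_of_forall (fun u hu => StronglyClosed.conj_mem' hsc hs hu) fun u hu => by
    simpa using StronglyClosed.conj_mem' hsc (inv_mem hs) hu

/-- Conjugation of `S` on a normal subgroup. -/
def conjOn (hU : F.IsNormal U) : S →* F.autGroup U :=
  (U.normalizerMonoidHom.comp (Subgroup.inclusion (le_normalizer_of_isNormal hU))).codRestrict _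
    fun s => autInducedBy_le_autGroup F hU.1 (mem_autInducedBy.2 ⟨s, s.2, fun _ => rfl⟩)

variable (hU : F.IsNormal U)

theorem conjOn_apply (s : S) (u : U) :
    (((conjOn hU s : F.autGroup U) : MulAut U) u : Ω) = (s : Ω) * u * (s : Ω)⁻¹ := rfl

theorem autFun_conjOn (s : S) {u : Ω} (hu : u ∈ U) :
    autFun ((conjOn hU s : F.autGroup U) : MulAut U) u = (s : Ω) * u * (s : Ω)⁻¹ :=
  autFun_coe _ ⟨u, hu⟩

theorem conjOn_eq_of_forall {s : S} {a : F.autGroup U}
    (h : ∀ u ∈ U, (s : Ω) * u * (s : Ω)⁻¹ = autFun (a : MulAut U) u) : conjOn hU s = a :=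
  Subtype.ext (mulAut_ext fun u hu => (autFun_conjOn hU s hu).trans (h u hu))

theorem mem_of_conjOn_eq_one (hUc : centralizerIn S U ≤ U) {s : S} (h : conjOn hU s = 1) :
    ∃ z : Subgroup.center U, ((z : U) : Ω) = s := by
  have hc : ∀ u ∈ U, (s : Ω) * u * (s : Ω)⁻¹ = u := fun u hu => by
    rw [← autFun_conjOn hU s hu, h]
    exact autFun_one hu
  have hsU : (s : Ω) ∈ U := hUc (mem_centralizerIn.2 ⟨s.2, fun u hu => by
    conv_lhs => rw [← hc u hu]
    group⟩)
  exact ⟨⟨⟨s, hsU⟩, Subgroup.mem_center_iff.2 fun u => Subtype.ext (by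
    show (u : Ω) * (s : Ω) = (s : Ω) * u
    conv_lhs => rw [← hc u u.2]
    group)⟩, rfl⟩

theorem conjOn_eq_one {s : S} {z : Subgroup.center U} (h : ((z : U) : Ω) = s) :
    conjOn hU s = 1 := by
  refine conjOn_eq_of_forall hU fun u hu => ?_
  rw [OneMemClass.coe_one, autFun_one hu, ← h,
    show ((z : U) : Ω) * u = u * (z : U) from
      congrArg Subtype.val (Subgroup.mem_center_iff.1 z.2 ⟨u, hu⟩).symm,
    mul_inv_cancel_right]

/-- An automorphism acts on the centre. -/
def centerMap (a : F.autGroup U) (z : Subgroup.center U) : Subgroup.center U :=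
  ⟨(a : MulAut U) z, Subgroup.mem_center_iff.2 fun u => by
    obtain ⟨w, rfl⟩ := (a : MulAut U).surjective u
    rw [← map_mul, ← map_mul, Subgroup.mem_center_iff.1 z.2 w]⟩

theorem centerMap_map_mul (a : F.autGroup U) (z z' : Subgroup.center U) :
    centerMap a (z * z') = centerMap a z * centerMap a z' :=
  Subtype.ext (map_mul (a : MulAut U) (z : U) z')

theorem centerMap_mul (a b : F.autGroup U) (z : Subgroup.center U) :
    centerMap (a * b) z = centerMap a (centerMap b z) := rfl

theorem centerMap_one (z : Subgroup.center U) : centerMap (1 : F.autGroup U) z = z := rfl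

theorem centerMap_injective (a : F.autGroup U) : Function.Injective (centerMap a) := fun _ _ h =>
  Subtype.ext ((a : MulAut U).injective (congrArg Subtype.val h))

/-- The cosets of the image of `S`. -/
abbrev CosetSpace := F.autGroup U ⧸ (conjOn hU).range

/-- The wreath product in which the monomial group lives. -/
abbrev Wreath := (CosetSpace hU → S) ⋊[mulAutArrow] F.autGroup U

theorem wreath_mul_left (e e' : Wreath hU) (y : CosetSpace hU) :
    (e * e').left y = e.left y * e'.left (e.right⁻¹ • y) := rfl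

/-- The monomial group. -/
def monoExt : Subgroup (Wreath hU) where
  carrier := {e | ∀ y, conjOn hU (e.left y) = y.out⁻¹ * e.right * (e.right⁻¹ • y).out}
  one_mem' := fun y => by
    show conjOn hU 1 = y.out⁻¹ * 1 * ((1 : F.autGroup U)⁻¹ • y).out
    rw [map_one, inv_one, one_smul, mul_one, inv_mul_cancel]
  mul_mem' := fun {a b} ha hb y => by
    rw [wreath_mul_left, map_mul, ha y, hb, SemidirectProduct.mul_right, mul_inv_rev, mul_smul]
    group
  inv_mem' := fun {a} ha y => by
    show conjOn hU (a.left (a.right⁻¹⁻¹ • y))⁻¹ = y.out⁻¹ * a.right⁻¹ * (a.right⁻¹⁻¹ • y).out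
    rw [map_inv, ha, inv_inv, inv_smul_smul]
    group

variable {hU}

theorem monoExt_mul_left (e e' : monoExt hU) (y : CosetSpace hU) :
    (e * e').1.left y = e.1.left y * e'.1.left (e.1.right⁻¹ • y) := rfl

theorem monoExt_ext {e e' : monoExt hU} (h : e.1.right = e'.1.right)
    (h' : ∀ y, (e.1.left y : Ω) = e'.1.left y) : e = e' :=
  Subtype.ext (SemidirectProduct.ext (funext fun y => Subtype.ext (h' y)) h)

variable (hU)

/-- The projection to `A`. -/
def monoRight : monoExt hU →* F.autGroup U :=
  SemidirectProduct.rightHom.comp (monoExt hU).subtype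

theorem monoRight_apply (e : monoExt hU) : monoRight hU e = e.1.right := rfl

theorem monoRight_surjective : Function.Surjective (monoRight hU) := by
  intro a
  have h : ∀ y : CosetSpace hU, ∃ s : S, conjOn hU s = y.out⁻¹ * a * (a⁻¹ • y).out := by
    intro y
    refine MonoidHom.mem_range.1 ?_
    rw [mul_assoc, ← QuotientGroup.eq, QuotientGroup.out_eq']
    conv_lhs => rw [← smul_inv_smul a y, ← QuotientGroup.out_eq' (a⁻¹ • y)]
    rfl
  choose f hf using h
  exact ⟨⟨⟨f, a⟩, hf⟩, rfl⟩

/-- The kernel of the projection, given by functions with values in the centre. -/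
def baseElt (G : CosetSpace hU → Subgroup.center U) : monoExt hU :=
  ⟨⟨fun y => ⟨((G y : U) : Ω), hU.1 (G y : U).2⟩, 1⟩, fun y => by
    show conjOn hU ⟨((G y : U) : Ω), hU.1 (G y : U).2⟩ = y.out⁻¹ * 1 * ((1 : F.autGroup U)⁻¹ • y).out
    rw [inv_one, one_smul, mul_one, inv_mul_cancel, conjOn_eq_one hU (z := G y) rfl]⟩

theorem baseElt_mul (G G' : CosetSpace hU → Subgroup.center U) :
    baseElt hU (G * G') = baseElt hU G * baseElt hU G' := by
  refine monoExt_ext (mul_one (1 : F.autGroup U)).symm fun y => ?_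
  rw [monoExt_mul_left]
  show _ = ((G y : U) : Ω) * ((G' ((1 : F.autGroup U)⁻¹ • y) : U) : Ω)
  rw [inv_one, one_smul]
  rfl

theorem baseElt_inj {G G' : CosetSpace hU → Subgroup.center U}
    (h : baseElt hU G = baseElt hU G') : G = G' := funext fun y => Subtype.ext (Subtype.ext
  (congrArg (fun e : monoExt hU => (e.1.left y : Ω)) h))

theorem eq_baseElt (hUc : centralizerIn S U ≤ U) {e : monoExt hU} (he : e.1.right = 1) :
    ∃ G, baseElt hU G = e := by
  have h : ∀ y, ∃ z : Subgroup.center U, ((z : U) : Ω) = e.1.left y := fun y =>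
    mem_of_conjOn_eq_one hU hUc (by rw [e.2 y, he, inv_one, one_smul, mul_one, inv_mul_cancel])
  choose G hG using h
  exact ⟨G, monoExt_ext he.symm hG⟩

/-- The transfer map on the base. -/
noncomputable def normProd [Finite U] (G : CosetSpace hU → Subgroup.center U) :
    Subgroup.center U :=
  ∏ y, centerMap y.out (G y)

theorem normProd_mul [Finite U] (G G' : CosetSpace hU → Subgroup.center U) :
    normProd hU (G * G') = normProd hU G * normProd hU G' := by
  simp only [normProd, Pi.mul_apply, centerMap_map_mul, Finset.prod_mul_distrib]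

/-- The kernel of the transfer map. -/
noncomputable def monoKer [Finite U] : Subgroup (monoExt hU) where
  carrier := {e | ∃ G, baseElt hU G = e ∧ normProd hU G = 1}
  one_mem' := ⟨1, monoExt_ext rfl fun _ => rfl,
    Finset.prod_eq_one fun _ _ => Subtype.ext (map_one _)⟩
  mul_mem' := by
    rintro _ _ ⟨G, rfl, h⟩ ⟨G', rfl, h'⟩
    exact ⟨G * G', baseElt_mul hU G G', by rw [normProd_mul, h, h', mul_one]⟩
  inv_mem' := by
    rintro _ ⟨G, rfl, h⟩
    refine ⟨G⁻¹, eq_inv_of_mul_eq_one_left ?_, ?_⟩
    · rw [← baseElt_mul, inv_mul_cancel]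
      exact monoExt_ext rfl fun _ => rfl
    · have := normProd_mul hU G⁻¹ G
      rw [h, mul_one, inv_mul_cancel] at this
      exact this.symm.trans (Finset.prod_eq_one fun _ _ => Subtype.ext (map_one _))

/-- Conjugation on the base. -/
theorem mul_baseElt [Finite U] (e : monoExt hU) (G : CosetSpace hU → Subgroup.center U) :
    ∃ G', baseElt hU G' * e = e * baseElt hU G ∧
      normProd hU G' = centerMap e.1.right (normProd hU G) := by
  set a := e.1.right with ha
  refine ⟨fun y => centerMap (conjOn hU (e.1.left y)) (G (a⁻¹ • y)), ?_, ?_⟩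
  · refine monoExt_ext ?_ fun y => ?_
    · show (1 : F.autGroup U) * a = a * 1
      rw [one_mul, mul_one]
    rw [monoExt_mul_left, monoExt_mul_left]
    show (e.1.left y : Ω) * ((G (a⁻¹ • y) : U) : Ω) * (e.1.left y : Ω)⁻¹ *
      (e.1.left ((1 : F.autGroup U)⁻¹ • y) : Ω) = (e.1.left y : Ω) * ((G (a⁻¹ • y) : U) : Ω)
    rw [inv_one, one_smul, inv_mul_cancel_right]
  · let c : Subgroup.center U →* Subgroup.center U :=
      MonoidHom.mk' (centerMap a) (centerMap_map_mul a)
    show (∏ y : CosetSpace hU,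
      centerMap y.out (centerMap (conjOn hU (e.1.left y)) (G (a⁻¹ • y)))) = c (normProd hU G)
    rw [normProd, map_prod]
    refine Fintype.prod_equiv (MulAction.toPerm a⁻¹) _ _ fun y => ?_
    show centerMap y.out (centerMap (conjOn hU (e.1.left y)) (G (a⁻¹ • y))) =
      centerMap a (centerMap (a⁻¹ • y).out (G (a⁻¹ • y)))
    rw [← centerMap_mul, ← centerMap_mul, e.2 y, ← ha]
    congr 1
    group

instance monoKer_normal [Finite U] : (monoKer hU).Normal := ⟨by
  rintro _ ⟨G, rfl, h⟩ e
  obtain ⟨G', hG', hn⟩ := mul_baseElt hU e G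
  refine ⟨G', eq_mul_inv_of_mul_eq hG', ?_⟩
  rw [hn, h]
  exact Subtype.ext (map_one _)⟩

/-- Two homomorphisms to the monomial group with the same projection that are conjugate at every
point stabilizer are conjugate by an element of the base. -/
theorem exists_conj_of_stab (hUc : centralizerIn S U ≤ U) {P : Type*} [Group P]
    (τ ρ : P →* monoExt hU) (hright : ∀ p, (τ p).1.right = (ρ p).1.right)
    (hstab : ∀ y, ∃ z : Subgroup.center U, ∀ p, (ρ p).1.right • y = y →
      ((ρ p).1.left y : Ω) * (z : U) = ((z : U) : Ω) * (τ p).1.left y) :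
    ∃ G, ∀ p, ρ p * baseElt hU G = baseElt hU G * τ p := by
  let π : P →* F.autGroup U := (monoRight hU).comp ρ
  letI : MulAction P (CosetSpace hU) := MulAction.compHom _ π
  have hπ : ∀ (p : P) (y : CosetSpace hU), p • y = (ρ p).1.right • y := fun p y => rfl
  let rep : CosetSpace hU → CosetSpace hU := fun y =>
    (Quotient.mk (MulAction.orbitRel P (CosetSpace hU)) y).out
  have hrep : ∀ y, ∃ q : P, q • rep y = y := fun y => by
    have := (MulAction.orbitRel P (CosetSpace hU)).symm' (Quotient.exact (Quotient.out_eq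
      (Quotient.mk (MulAction.orbitRel P (CosetSpace hU)) y)))
    rwa [MulAction.orbitRel_apply] at this
  have hrep' : ∀ (p : P) y, rep (p • y) = rep y := fun p y => congrArg Quotient.out
    (Quotient.sound (MulAction.orbitRel_apply.2 ⟨p, rfl⟩))
  choose q hq using hrep
  choose z hz using hstab
  have hyq : ∀ y, (ρ (q y)).1.right⁻¹ • y = rep y := fun y => by
    rw [inv_smul_eq_iff, ← hπ, hq]
  have hker : ∀ y, ∃ w : Subgroup.center U, ((w : U) : Ω) =
      ((ρ (q y)).1.left y : Ω) * (z (rep y) : U) * ((τ (q y)).1.left y : Ω)⁻¹ := fun y => by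
    refine mem_of_conjOn_eq_one hU hUc
      (s := (ρ (q y)).1.left y * ⟨((z (rep y) : U) : Ω), hU.1 (z (rep y) : U).2⟩ *
        ((τ (q y)).1.left y)⁻¹) ?_
    rw [map_mul, map_mul, map_inv, conjOn_eq_one hU (z := z (rep y))
        (s := ⟨((z (rep y) : U) : Ω), hU.1 (z (rep y) : U).2⟩) rfl, mul_one,
      (ρ (q y)).2 y, (τ (q y)).2 y, hright, mul_inv_cancel]
  choose G hG using hker
  refine ⟨G, fun p => monoExt_ext ?_ fun y => ?_⟩
  · show (ρ p).1.right * 1 = 1 * (τ p).1.right
    rw [mul_one, one_mul, hright]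
  rw [monoExt_mul_left, monoExt_mul_left]
  show ((ρ p).1.left y : Ω) * ((G ((ρ p).1.right⁻¹ • y) : U) : Ω) =
    ((G y : U) : Ω) * ((τ p).1.left ((1 : F.autGroup U)⁻¹ • y) : Ω)
  rw [inv_one, one_smul]
  set y' := (ρ p).1.right⁻¹ • y with hy'
  have hpy : p • y' = y := by rw [hπ, hy', smul_inv_smul]
  have hrr : rep y' = rep y := by rw [← hpy, hrep']
  set h := (q y)⁻¹ * p * q y' with hh
  have hfix : (ρ h).1.right • rep y = rep y := by
    rw [← hπ, hh, mul_smul, mul_smul, ← hrr, hq, hpy, inv_smul_eq_iff, hrr, hq]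
  have key : ∀ (θ : P →* monoExt hU), (∀ x, (θ x).1.right = (ρ x).1.right) →
      (θ p).1.left y * (θ (q y')).1.left y' = (θ (q y)).1.left y * (θ h).1.left (rep y) := by
    intro θ hθ
    have e : θ p * θ (q y') = θ (q y) * θ h := by
      rw [← map_mul, ← map_mul, hh]
      congr 1
      group
    have := congrArg (fun d : monoExt hU => d.1.left y) e
    simp only [monoExt_mul_left, hθ] at this
    rwa [hyq, ← hy'] at this
  have k1 : ((ρ p).1.left y : Ω) * (ρ (q y')).1.left y' = (ρ (q y)).1.left y * (ρ h).1.left (rep y) :=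
    congrArg Subtype.val (key ρ fun _ => rfl)
  have k2 : ((τ p).1.left y : Ω) * (τ (q y')).1.left y' = (τ (q y)).1.left y * (τ h).1.left (rep y) :=
    congrArg Subtype.val (key τ hright)
  rw [hG y, hG y', hrr,
    show ((τ p).1.left y : Ω) = (τ (q y)).1.left y * (τ h).1.left (rep y) * ((τ (q y')).1.left y' : Ω)⁻¹
      from by rw [← k2, mul_inv_cancel_right]]
  calc _ = ((ρ p).1.left y : Ω) * (ρ (q y')).1.left y' * (z (rep y) : U) *
      ((τ (q y')).1.left y' : Ω)⁻¹ := by group
    _ = ((ρ (q y)).1.left y : Ω) * (((ρ h).1.left (rep y) : Ω) * (z (rep y) : U)) *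
      ((τ (q y')).1.left y' : Ω)⁻¹ := by rw [k1]; group
    _ = _ := by rw [hz (rep y) h hfix]; group

end Cfsg.Agent.Fus
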