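import Cfsg.Agent.Lib.Fus.NormalizerSat
import Cfsg.Agent.Lib.Fus.MonomialExt

/-!
For a normal subgroup `U` of a saturated system over `S`, the subsystem of the maps acting on `U`
as elements of `S` is saturated.
-/

set_option autoImplicit false
set_option linter.style.haveILetI false
set_option linter.unusedSectionVars false

open scoped Classical

namespace Cfsg.Agent.Fus

open Subgroup FusionSystem

variable {Ω : Type*} [Group Ω] {S : Subgroup Ω} {F : FusionSystem S} {U : Subgroup Ω}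

/-- The maps that act on the normal subgroup `U` as elements of `S`. -/
def InnerOn (F : FusionSystem S) (U P : Subgroup Ω) (f : Ω → Ω) : Prop :=
  ∃ g, IsMap F (P ⊔ U) g ∧ (∀ x ∈ P, g x = f x) ∧ ∃ s ∈ S, ∀ u ∈ U, g u = s * u * s⁻¹

theorem conj_mem_of_isNormal (hU : F.IsNormal U) {s u : Ω} (hs : s ∈ S) (hu : u ∈ U) :
    s * u * s⁻¹ ∈ U :=
  (Subgroup.mem_normalizer_iff.1 (le_normalizer_of_isNormal hU hs) u).1 hu

theorem InnerOn.isMap {P : Subgroup Ω} {f : Ω → Ω} (h : InnerOn F U P f) : IsMap F P f :=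
  let ⟨_, hg, e, _⟩ := h; (hg.res le_sup_left).congr e

/-- The system of the maps acting on `U` as elements of `S`. -/
def innerOnSystem (hU : F.IsNormal U) : FusionSystem S where
  Hom P := {φ | φ ∈ F.Hom P ∧ InnerOn F U P (toFun φ)}
  le_of_mem h := F.le_of_mem h.1
  injective_of_mem h := F.injective_of_mem h.1
  conj_mem := fun {P g} hP hg => ⟨F.conj_mem hP hg, fun x => g * x * g⁻¹,
    isMap_conj F (sup_le hP hU.1) hg, fun x hx => (toFun_apply (conjHom P g) hx).symm,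
    g, hg, fun u _ => rfl⟩
  comp_mem := by
    intro P R φ ψ hφ hψ h
    obtain ⟨hφ, a, ha, ha1, s, hs, ha2⟩ := hφ
    obtain ⟨hψ, b, hb, hb1, t, ht, hb2⟩ := hψ
    refine ⟨F.comp_mem hφ hψ h, fun x => b (a x), ha.comp hb fun x hx => ?_, fun x hx => ?_,
      t * s, S.mul_mem ht hs, fun u hu => ?_⟩
    · have h2 := apply_mem_fimg a hx
      rw [ha.fimg_sup] at h2
      have hle : fimg a P ⊔ fimg a U ≤ R ⊔ U := sup_le_sup
        (fimg_le fun y hy => by rw [ha1 y hy, toFun_apply φ hy]; exact h ⟨y, hy⟩)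
        (fimg_le fun u hu => (ha2 u hu).symm ▸ conj_mem_of_isNormal hU hs hu)
      exact hle h2
    · show b (a x) = _
      rw [ha1 x hx, toFun_apply φ hx, hb1 _ (h ⟨x, hx⟩), toFun_apply ψ (h ⟨x, hx⟩),
        toFun_apply _ hx]
      rfl
    · show b (a u) = _
      rw [ha2 u hu, hb2 _ (conj_mem_of_isNormal hU hs hu)]
      group
  inv_mem := by
    intro P φ hφ
    obtain ⟨hφ, a, ha, ha1, s, hs, ha2⟩ := hφ
    have hr : φ.range = fimg a P :=
      (ha.res le_sup_left).range_eq_fimg fun x => by rw [ha1 x x.2, toFun_coe]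
    have hUa : fimg a U = U := by
      refine le_antisymm (fimg_le fun u hu => (ha2 u hu).symm ▸ conj_mem_of_isNormal hU hs hu)
        fun u hu => ?_
      have h1 := conj_mem_of_isNormal hU (S.inv_mem hs) hu
      have h2 := apply_mem_fimg a h1
      rw [ha2 _ h1] at h2
      simpa [mul_assoc] using h2
    obtain ⟨g, hg, hg1, -, -⟩ := ha.exists_inv
    rw [ha.fimg_sup, ← hr, hUa] at hg
    obtain ⟨ψ, hψ, e⟩ := (hg.res le_sup_left).exists_hom
    refine ⟨ψ, ⟨hψ, g, hg, fun x hx => by rw [toFun_apply ψ hx]; exact (e ⟨x, hx⟩).symm,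
      s⁻¹, S.inv_mem hs, fun u hu => ?_⟩, fun x => ?_⟩
    · have h1 := conj_mem_of_isNormal hU (S.inv_mem hs) hu
      conv_lhs => rw [show u = a (s⁻¹ * u * s⁻¹⁻¹) by rw [ha2 _ h1]; group]
      exact hg1 _ (Subgroup.mem_sup_right h1)
    · rw [e]
      show g (φ x) = x
      rw [← toFun_coe φ x, ← ha1 x x.2, hg1 _ (Subgroup.mem_sup_left x.2)]

theorem isMap_innerOnSystem (hU : F.IsNormal U) {P : Subgroup Ω} {f : Ω → Ω} :
    IsMap (innerOnSystem hU) P f ↔ InnerOn F U P f := by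
  constructor
  · rintro ⟨φ, ⟨-, g, hg, hg1, hg2⟩, e⟩
    exact ⟨g, hg, fun x hx => (hg1 x hx).trans ((toFun_apply φ hx).trans (e ⟨x, hx⟩)), hg2⟩
  · intro h
    obtain ⟨φ, hφ, e⟩ := h.isMap.exists_hom
    obtain ⟨g, hg, hg1, hg2⟩ := h
    exact ⟨φ, ⟨hφ, g, hg, fun x hx => (hg1 x hx).trans (by rw [toFun_apply φ hx, e]), hg2⟩, e⟩

theorem innerOnSystem_isSubsystemOf (hU : F.IsNormal U) :
    (innerOnSystem hU).IsSubsystemOf F := fun _ _ hφ => hφ.1

/-- The automorphisms of `Q` fixing `P` and acting on `U` as elements of `S`. -/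
def innAuts (hU : F.IsNormal U) {Q : Subgroup Ω} (hUQ : U ≤ Q) (P : Subgroup Ω) :
    Subgroup (MulAut Q) :=
  F.autGroup Q ⊓ stabIn Q P ⊓
    { carrier := {α | ∃ s ∈ S, ∀ x : Q, (x : Ω) ∈ U → ((α x : Q) : Ω) = s * x * s⁻¹}
      one_mem' := ⟨1, one_mem _, fun x _ => by simp⟩
      mul_mem' := fun {a b} ⟨s, hs, ha⟩ ⟨t, ht, hb⟩ => ⟨s * t, S.mul_mem hs ht, fun x hx => by
        rw [MulAut.mul_apply, ha _ (by rw [hb x hx]; exact conj_mem_of_isNormal hU ht hx), hb x hx]
        group⟩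
      inv_mem' := fun {a} ⟨s, hs, ha⟩ => ⟨s⁻¹, S.inv_mem hs, fun x hx => by
        have h1 := conj_mem_of_isNormal hU (S.inv_mem hs) hx
        have h2 : a ⟨_, hUQ h1⟩ = x := Subtype.ext (by
          rw [ha ⟨_, hUQ h1⟩ h1]
          show s * (s⁻¹ * (x : Ω) * s⁻¹⁻¹) * s⁻¹ = x
          group)
        conv_lhs => rw [← h2]
        rw [MulAut.inv_apply_self]⟩ }

section

variable [Finite S] {p : ℕ} [Fact p.Prime]

theorem autInducedBy_le_innAuts (hU : F.IsNormal U) {Q P H : Subgroup Ω} (hUQ : U ≤ Q)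
    (hQ : Q ≤ S) (hH : H ≤ S) (hP : H ≤ Subgroup.normalizer (P : Set Ω)) :
    autInducedBy H Q ≤ innAuts hU hUQ P := by
  intro α hα
  obtain ⟨g, hg, e⟩ := mem_autInducedBy.1 hα
  exact ⟨⟨autInducedBy_le_autGroup F hQ (autInducedBy_mono hH Q hα), stabIn_of_conj e (hP hg)⟩,
    g, hH hg, fun x _ => e x⟩

/-- The key property of a subgroup fully normalized in the system of maps inner on `U`. -/
theorem sylow_innAuts (hS : IsPGroup p S) (hF : F.IsSaturated p) (hU : F.IsNormal U)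
    {P Q : Subgroup Ω} (hP : (innerOnSystem hU).IsFullyNormalized P) (hQdef : Q = P ⊔ U)
    (hUQ : U ≤ Q) :
    (∃ T : Sylow p (innAuts hU hUQ P), (T : Subgroup (innAuts hU hUQ P)) =
      (autInducedBy (normalizerIn S P) Q).subgroupOf (innAuts hU hUQ P)) ∧
    F.IsFullyCentralized Q := by
  set H := normalizerIn S P with hH
  have hPS : P ≤ S := hP.1
  have hQS : Q ≤ S := hQdef ▸ sup_le hPS hU.1
  haveI := finite_of_le hQS
  have hPQ : P ≤ Q := hQdef ▸ le_sup_left
  have hSU := le_normalizer_of_isNormal hU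
  have hHQ : H ≤ normalizerIn S Q := fun g hg =>
    ⟨hg.1, hQdef ▸ normalizer_sup_le (hSU hg.1) hg.2⟩
  have hYA : autInducedBy H Q ≤ innAuts hU hUQ P :=
    autInducedBy_le_innAuts hU hUQ hQS (fun g (hg : g ∈ H) => hg.1) fun g (hg : g ∈ H) => hg.2
  have hCH : centralizerIn S Q ≤ H := fun c hc => by
    obtain ⟨hcS, hcc⟩ := mem_centralizerIn.1 hc
    exact ⟨hcS, Subgroup.centralizer_le_normalizer _
      (Subgroup.mem_centralizer_iff.2 fun x hx => hcc x (hPQ hx))⟩
  have hYp : IsPGroup p ((autInducedBy H Q).subgroupOf (innAuts hU hUQ P)) :=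
    ((isPGroup_autInducedBy hS Q).to_le (autInducedBy_mono (fun g (hg : g ∈ H) => hg.1) Q)).comap_of_injective
      _ Subtype.coe_injective
  obtain ⟨B, hB⟩ := hYp.exists_le_sylow
  obtain ⟨Q', hQ', hQ'n⟩ := exists_fullyNormalized F hQS
  obtain ⟨u, hu, huQ⟩ := isConj_iff.1 hQ'
  obtain ⟨e, he, heA⟩ := exists_mulEquiv hu huQ
  haveI := finite_of_le hQ'n.1
  obtain ⟨-, T, hT⟩ := fullyAutomized_of_fullyNormalized hS hF hQ'n
  -- the image of `B` in `Aut_F(Q')`
  let Y : Subgroup (F.autGroup Q') := (((B : Subgroup (innAuts hU hUQ P)).map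
    (innAuts hU hUQ P).subtype).map (MulAut.congr e).toMonoidHom).subgroupOf (F.autGroup Q')
  have hY : IsPGroup p Y := IsPGroup.comap_subtype ((B.2.map _).map _)
  obtain ⟨T', hT'⟩ := hY.exists_le_sylow
  obtain ⟨a, ha⟩ := MulAction.exists_smul_eq (F.autGroup Q') T' T
  let u' : Ω → Ω := fun x => autFun (a : MulAut Q') (u x)
  have hu' : IsMap F Q u' :=
    hu.comp ((mem_autGroup hQ'n.1).1 a.2) fun x hx => huQ ▸ apply_mem_fimg u hx
  have hu'Q : fimg u' Q = Q' := by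
    rw [show u' = fun x => autFun (a : MulAut Q') (u x) from rfl, hu.fimg_comp, huQ, fimg_autFun]
  let e' : Q ≃* Q' := e.trans (a : MulAut Q')
  have he' : ∀ x : Q, (e' x : Ω) = u' x := fun x => by
    show (((a : MulAut Q') (e x) : Q') : Ω) = autFun (a : MulAut Q') (u x)
    rw [← he, autFun_coe]
  let B' : Subgroup (MulAut Q') := ((B : Subgroup (innAuts hU hUQ P)).map
    (innAuts hU hUQ P).subtype).map (MulAut.congr e').toMonoidHom
  have hB'S : B' ≤ autInducedBy S Q' := by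
    rintro _ ⟨_, ⟨b, hb, rfl⟩, rfl⟩
    have hy : MulAut.congr e (b : MulAut Q) ∈ F.autGroup Q' := (heA _).1 b.2.1.1
    have hyY : (⟨_, hy⟩ : F.autGroup Q') ∈ (T' : Subgroup (F.autGroup Q')) :=
      hT' (Subgroup.mem_subgroupOf.2 ⟨_, ⟨b, hb, rfl⟩, rfl⟩)
    have hyT : a * ⟨_, hy⟩ * a⁻¹ ∈ (T : Subgroup (F.autGroup Q')) := by
      rw [← ha]; exact ⟨_, hyY, rfl⟩
    rw [hT, Subgroup.mem_subgroupOf] at hyT
    convert hyT using 1
    exact MulEquiv.ext fun x => rfl
  have hstab : ∀ β ∈ B', β ∈ stabIn Q' (fimg u' P) := by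
    rintro _ ⟨_, ⟨b, -, rfl⟩, rfl⟩
    exact stabIn_congr e' he' hu' hPQ rfl b.2.1.2
  let M : Subgroup Ω := normalizerIn S Q' ⊓
    (B'.comap Q'.normalizerMonoidHom).map (Subgroup.normalizer (Q' : Set Ω)).subtype
  have hMmem : ∀ g ∈ M, g ∈ normalizerIn S Q' ∧ ∃ h : g ∈ Subgroup.normalizer (Q' : Set Ω),
      Q'.normalizerMonoidHom ⟨g, h⟩ ∈ B' := by
    rintro g ⟨hg, x, hx, rfl⟩
    exact ⟨hg, x.2, hx⟩
  have hCM : centralizerIn S Q' ≤ M := fun c hc => by
    have hcN := centralizerIn_le_normalizerIn Q' hc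
    refine ⟨hcN, ⟨c, hcN.2⟩, ?_, rfl⟩
    show Q'.normalizerMonoidHom ⟨c, hcN.2⟩ ∈ B'
    rw [show Q'.normalizerMonoidHom ⟨c, hcN.2⟩ = 1 from MulEquiv.ext fun x => Subtype.ext (by
      show c * (x : Ω) * c⁻¹ = x
      rw [← (mem_centralizerIn.1 hc).2 x x.2, mul_inv_cancel_right])]
    exact one_mem _
  have hMB : autInducedBy M Q' = B' := by
    refine le_antisymm (fun α hα => ?_) fun α hα => ?_
    · obtain ⟨g, hg, hge⟩ := mem_autInducedBy.1 hα
      obtain ⟨-, h, hB'⟩ := hMmem g hg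
      rwa [show α = Q'.normalizerMonoidHom ⟨g, h⟩ from
        MulEquiv.ext fun x => Subtype.ext (hge x)]
    · obtain ⟨g, hg, hge⟩ := mem_autInducedBy.1 (hB'S hα)
      have hn := mem_normalizer_of_conj_aut hge
      refine mem_autInducedBy.2 ⟨g, ⟨⟨hg, hn⟩, ⟨g, hn⟩, ?_, rfl⟩, hge⟩
      show Q'.normalizerMonoidHom ⟨g, hn⟩ ∈ B'
      rwa [show Q'.normalizerMonoidHom ⟨g, hn⟩ = α from
        MulEquiv.ext fun x => Subtype.ext (hge x).symm]
  -- undo the action on `U`
  have hu'U : fimg u' U = U := by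
    haveI := finite_of_le hU.1
    exact Subgroup.eq_of_le_of_card_ge (fimg_le fun x hx => StronglyClosed.apply_mem
      (stronglyClosed_of_isNormal hU) (hu'.res hUQ) le_rfl hx) (hu'.res hUQ).card_fimg.ge
  obtain ⟨γ₀, hγ₀, hγe⟩ := (hu'.res hUQ).exists_aut hu'U
  set γ : F.autGroup U := ⟨γ₀, hγ₀⟩ with hγ
  have hUQ' : U ≤ Q' := hu'Q ▸ hu'U ▸ fimg_mono u' hUQ
  have hPQ' : fimg u' P ≤ Q' := hu'Q ▸ fimg_mono u' hPQ
  have hQ'S : Q' ≤ S := hQ'n.1
  have hγe' : ∀ u ∈ U, u' u = autFun (γ : MulAut U) u := fun u hu => (hγe u hu).symm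
  let K : Subgroup S := (conjOn hU).range.comap ((MulAut.conj γ⁻¹).toMonoidHom.comp (conjOn hU))
  have hK : M ⊔ Q' ≤ K.map S.subtype := by
    refine sup_le (fun g hg => ?_) fun x hx => ?_
    · obtain ⟨hgN, h, hB'⟩ := hMmem g hg
      obtain ⟨_, ⟨b, -, rfl⟩, hb⟩ := hB'
      obtain ⟨s, hs, hsb⟩ := b.2.2
      refine ⟨⟨g, hgN.1⟩, ⟨⟨s, hs⟩, ?_⟩, rfl⟩
      refine conjOn_eq_of_forall hU fun v hv => ?_
      show s * v * s⁻¹ = autFun ((γ⁻¹ * conjOn hU ⟨g, hgN.1⟩ * γ⁻¹⁻¹ : F.autGroup U) : MulAut U) v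
      have hv' : v ∈ Q := hUQ hv
      rw [inv_inv, Subgroup.coe_mul, Subgroup.coe_mul, autFun_mul _ _ hv,
        autFun_mul _ _ (autFun_mem _ hv), ← hγe' v hv,
        autFun_conjOn hU _ (by rw [hγe' v hv]; exact autFun_mem _ hv)]
      have h1 := congrArg (fun β : MulAut Q' => ((β (e' ⟨v, hv'⟩) : Q') : Ω)) hb
      simp only [MulEquiv.coe_toMonoidHom, MulAut.congr, MulEquiv.coe_mk, Equiv.coe_fn_mk,
        MulEquiv.trans_apply, MulEquiv.symm_apply_apply, he'] at h1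
      have h1 : u' ((b : MulAut Q) ⟨v, hv'⟩ : Q) = g * u' v * g⁻¹ := h1.trans (by
        show g * ((e' ⟨v, hv'⟩ : Q') : Ω) * g⁻¹ = _
        rw [he'])
      have h2 := hsb ⟨v, hv'⟩ hv
      show s * v * s⁻¹ = autFun ((γ⁻¹ : F.autGroup U) : MulAut U) (g * u' v * g⁻¹)
      rw [← h1, h2, Subgroup.coe_inv, hγe' _ (conj_mem_of_isNormal hU hs hv),
        autFun_inv_apply _ (conj_mem_of_isNormal hU hs hv)]
    · rw [← hu'Q, hu'.mem_fimg_iff] at hx
      obtain ⟨y, hy, rfl⟩ := hx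
      refine ⟨⟨u' y, hu'.apply_mem hy⟩, ⟨⟨y, hQS hy⟩, ?_⟩, rfl⟩
      refine conjOn_eq_of_forall hU fun v hv => ?_
      show y * v * y⁻¹ =
        autFun ((γ⁻¹ * conjOn hU ⟨u' y, hu'.apply_mem hy⟩ * γ⁻¹⁻¹ : F.autGroup U) : MulAut U) v
      rw [inv_inv, Subgroup.coe_mul, Subgroup.coe_mul, autFun_mul _ _ hv,
        autFun_mul _ _ (autFun_mem _ hv), ← hγe' v hv,
        autFun_conjOn hU _ (by rw [hγe' v hv]; exact autFun_mem _ hv)]
      show _ = autFun ((γ⁻¹ : F.autGroup U) : MulAut U) (u' y * u' v * (u' y)⁻¹)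
      rw [← hu'.map_conj hy (hUQ hv), hγe' _ (conj_mem_of_isNormal hU (hQS hy) hv),
        Subgroup.coe_inv, autFun_inv_apply _ (conj_mem_of_isNormal hU (hQS hy) hv)]
  have hUn : F.IsFullyNormalized U := ⟨hU.1, fun Z _ => by
    rw [show normalizerIn S U = S from le_antisymm inf_le_left (le_inf le_rfl hSU)]
    exact Subgroup.card_le_of_le inf_le_left⟩
  obtain ⟨θ, hθ, hθe⟩ := receptive_extend (receptive_of_fullyNormalized hS hF hUn)
    ((mem_autGroup hU.1).1 (γ⁻¹).2) (fimg_autFun _) (N := M ⊔ Q') (fun g hg => by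
      obtain ⟨s, ⟨k, hk⟩, rfl⟩ := hK hg
      refine ⟨⟨s.2, hSU s.2⟩, k, k.2, fun v hv => ?_⟩
      rw [← autFun_conjOn hU k (autFun_mem _ hv), hk]
      show autFun ((γ⁻¹ : F.autGroup U) : MulAut U) ((s : Ω) * v * (s : Ω)⁻¹) =
        autFun ((γ⁻¹ * conjOn hU s * γ⁻¹⁻¹ : F.autGroup U) : MulAut U)
          (autFun ((γ⁻¹ : F.autGroup U) : MulAut U) v)
      rw [← autFun_conjOn hU s hv, ← autFun_mul _ _ hv, ← autFun_mul _ _ hv, ← Subgroup.coe_mul,
        ← Subgroup.coe_mul, inv_mul_cancel_right]) (hUQ'.trans le_sup_right)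
  have hu'm : ∀ x ∈ Q, u' x ∈ M ⊔ Q' := fun x hx =>
    Subgroup.mem_sup_right (hu'Q ▸ apply_mem_fimg u' hx)
  let ψ : Ω → Ω := fun x => θ (u' x)
  have hψ : IsMap F Q ψ := hu'.comp hθ hu'm
  have hψU : ∀ v ∈ U, ψ v = v := fun v hv => by
    show θ (u' v) = v
    rw [hθe _ (hγe' v hv ▸ autFun_mem _ hv), hγe' v hv, Subgroup.coe_inv, autFun_inv_apply _ hv]
  have hψP : IsMap (innerOnSystem hU) P ψ := (isMap_innerOnSystem hU).2
    ⟨ψ, hQdef ▸ hψ, fun _ _ => rfl, 1, one_mem _, fun v hv => by simp [hψU v hv]⟩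
  have hP'eq : fimg θ (fimg u' P) = fimg ψ P := ((hu'.res hPQ).fimg_comp θ).symm
  have hsub : fimg θ M ≤ normalizerIn S (fimg ψ P) := fimg_le fun g hg => by
    obtain ⟨hgN, h, hB'⟩ := hMmem g hg
    rw [← hP'eq]
    exact hθ.map_normalizerIn (hPQ'.trans le_sup_right) (Subgroup.mem_sup_left hg)
      (mem_normalizer_of_stabIn hPQ' (fun x => rfl) (hstab _ hB'))
  haveI : Finite ↥(normalizerIn S (fimg ψ P)) := finite_of_le (S := S) inf_le_left
  have h1 : Nat.card M ≤ Nat.card H :=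
    calc Nat.card M = Nat.card (fimg θ M) := (hθ.res le_sup_left).card_fimg.symm
      _ ≤ Nat.card ↥(normalizerIn S (fimg ψ P)) := Subgroup.card_le_of_le hsub
      _ ≤ Nat.card H := hP.2 _ hψP.isConj
  rw [card_eq_card_autInducedBy_mul inf_le_left hCM, hMB,
    card_eq_card_autInducedBy_mul hHQ hCH] at h1
  have hB'card : Nat.card B' = Nat.card (B : Subgroup (innAuts hU hUQ P)) := by
    rw [show B' = _ from rfl, Subgroup.card_map_of_injective (MulAut.congr e').injective,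
      Subgroup.card_map_of_injective (innAuts hU hUQ P).subtype_injective]
  rw [hB'card] at h1
  have hYle : Nat.card (autInducedBy H Q) ≤ Nat.card (B : Subgroup (innAuts hU hUQ P)) := by
    rw [← Nat.card_congr (Subgroup.subgroupOfEquivOfLe hYA).toEquiv]
    exact Subgroup.card_le_of_le hB
  have hCle := (fullyCentralized_of_fullyNormalized hS hF hQ'n).2 Q (isConj_symm hQ')
  have hCpos : 0 < Nat.card ↥(centralizerIn S Q') := by
    haveI : Finite ↥(centralizerIn S Q') := finite_of_le (S := S) inf_le_left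
    exact Nat.card_pos
  have hBeq : Nat.card (B : Subgroup (innAuts hU hUQ P)) ≤ Nat.card (autInducedBy H Q) :=
    Nat.le_of_mul_le_mul_right (h1.trans (Nat.mul_le_mul_left _ hCle)) hCpos
  have hYpos : 0 < Nat.card (autInducedBy H Q) := Nat.card_pos
  have hCeq : Nat.card ↥(centralizerIn S Q') ≤ Nat.card ↥(centralizerIn S Q) :=
    Nat.le_of_mul_le_mul_left ((Nat.mul_le_mul_right _ hYle).trans h1) hYpos
  refine ⟨⟨B, (Subgroup.eq_of_le_of_card_ge hB ?_).symm⟩, hQS, fun Z hZ => ?_⟩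
  · rw [Nat.card_congr (Subgroup.subgroupOfEquivOfLe hYA).toEquiv]
    exact hBeq
  · exact ((fullyCentralized_of_fullyNormalized hS hF hQ'n).2 Z
      (isConj_trans (isConj_symm hQ') hZ)).trans hCeq


/-- The system of the maps acting on a normal subgroup as elements of `S` is saturated. -/
theorem isSaturated_innerOnSystem (hS : IsPGroup p S) (hF : F.IsSaturated p) (hU : F.IsNormal U) :
    (innerOnSystem hU).IsSaturated p := by
  set E := innerOnSystem hU with hE
  have hSU := le_normalizer_of_isNormal hU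
  refine saturated_of_receptive hS ?_ fun P hP => ?_
  · -- `S` is fully automized
    obtain ⟨-, T, hT⟩ := fullyAutomized_of_fullyNormalized hS hF (fullyNormalized_self F)
    have hle : E.autGroup S ≤ F.autGroup S := autGroup_mono (innerOnSystem_isSubsystemOf hU) S
    have hTE : autInducedBy S S ≤ E.autGroup S := autInducedBy_le_autGroup E le_rfl
    have hp1 : IsPGroup p ((autInducedBy S S).subgroupOf (E.autGroup S)) :=
      (isPGroup_autInducedBy hS S).comap_of_injective _ Subtype.coe_injective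
    have hp2 : ¬ p ∣ ((autInducedBy S S).subgroupOf (E.autGroup S)).index := fun h => by
      refine T.not_dvd_index (h.trans ?_)
      rw [hT, ← Subgroup.relIndex, ← Subgroup.relIndex, ← Subgroup.relIndex_mul_relIndex _ _ _ hTE hle]
      exact dvd_mul_right _ _
    exact ⟨le_rfl, hp1.toSylow hp2, IsPGroup.toSylow_coe hp1 hp2⟩
  · -- receptive
    set Q := P ⊔ U with hQ
    have hUQ : U ≤ Q := le_sup_right
    set A2 := innAuts hU hUQ P with hA2
    set H := normalizerIn S P with hH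
    obtain ⟨⟨T, hT⟩, hQc⟩ : (∃ T : Sylow p A2, (T : Subgroup A2) =
        (autInducedBy H Q).subgroupOf A2) ∧ F.IsFullyCentralized Q :=
      sylow_innAuts hS hF hU hP rfl hUQ
    have hQr := receptive_of_fullyCentralized hS hF hQc
    have hQS := hQc.1
    haveI := finite_of_le hQS
    refine receptive_of hP.1 fun P₀ f hf hfP N hPN hN => ?_
    obtain ⟨g, hg, hg1, s₀, hs₀, hg2⟩ := (isMap_innerOnSystem hU).1 hf
    set Q₀ := P₀ ⊔ U with hQ₀
    have hgP : fimg g P₀ = P := (fimg_congr hg1).trans hfP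
    have hgU : fimg g U = U := by
      haveI := finite_of_le hU.1
      exact Subgroup.eq_of_le_of_card_ge
        (fimg_le fun u hu => (hg2 u hu).symm ▸ conj_mem_of_isNormal hU hs₀ hu)
        (hg.res le_sup_right).card_fimg.ge
    have hgQ : fimg g Q₀ = Q := by rw [hg.fimg_sup, hgP, hgU]
    obtain ⟨e, he, heA⟩ := exists_mulEquiv hg hgQ
    -- `A`: automorphisms trivial on `P`
    let A : Subgroup A2 :=
      { carrier := {α | ∀ x : Q, (x : Ω) ∈ P → (α : MulAut Q) x = x}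
        one_mem' := fun x _ => rfl
        mul_mem' := fun {a b} ha hb x hx => by
          rw [Subgroup.coe_mul, MulAut.mul_apply, hb x hx, ha x hx]
        inv_mem' := fun {a} ha x hx => by
          rw [Subgroup.coe_inv]
          conv_lhs => rw [← ha x hx]
          exact MulAut.inv_apply_self _ _ _ }
    haveI hAn : A.Normal := ⟨fun b hb a x hx => by
      show (a : MulAut Q) ((b : MulAut Q) ((a : MulAut Q)⁻¹ x)) = x
      rw [hb _ (((A2.inv_mem a.2).1.2 x).2 hx)]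
      exact MulAut.apply_inv_self _ _ _⟩
    have hNS : N ≤ S := fun x hx => ((hN x).1 hx).1
    have hNP : N ≤ Subgroup.normalizer (P₀ : Set Ω) := fun x hx => ((hN x).1 hx).2.1
    have hNU : N ≤ Subgroup.normalizer (U : Set Ω) := fun x hx => hSU (hNS hx)
    let Bn : Subgroup A2 := ((autInducedBy N Q₀).map (MulAut.congr e).toMonoidHom).subgroupOf A2
    have hUQ₀ : U ≤ Q₀ := le_sup_right
    have hBnA : ∀ β ∈ autInducedBy N Q₀, MulAut.congr e β ∈ A2 := by
      intro β hβ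
      obtain ⟨x, hx, hxe⟩ := mem_autInducedBy.1 hβ
      refine ⟨⟨(heA β).1 (autInducedBy_le_autGroup F hg.source_le (autInducedBy_mono hNS Q₀ hβ)),
        stabIn_congr e he hg le_sup_left hgP (stabIn_of_conj hxe (hNP hx))⟩,
        s₀ * x * s₀⁻¹, S.mul_mem (S.mul_mem hs₀ (hNS hx)) (S.inv_mem hs₀), fun y hy => ?_⟩
      set v := s₀⁻¹ * (y : Ω) * s₀⁻¹⁻¹ with hv
      have hvU : v ∈ U := conj_mem_of_isNormal hU (S.inv_mem hs₀) hy
      have hey : e.symm y = ⟨v, hUQ₀ hvU⟩ := by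
        refine e.injective (Subtype.ext ?_)
        rw [e.apply_symm_apply, he, hg2 v hvU, hv]
        group
      show ((e (β (e.symm y)) : Q) : Ω) = _
      rw [hey, he, hxe]
      show g (x * v * x⁻¹) = _
      rw [hg2 _ (conj_mem_of_isNormal hU (hNS hx) hvU), hv]
      group
    have hBnp : IsPGroup p Bn := IsPGroup.comap_subtype (((isPGroup_autInducedBy hS Q₀).to_le
      (autInducedBy_mono hNS Q₀)).map _)
    let J : Subgroup A2 := A ⊔ (T : Subgroup A2)
    have hBnJ : Bn ≤ J := by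
      intro b hb
      obtain ⟨β, hβ, hβb⟩ := Subgroup.mem_subgroupOf.1 hb
      obtain ⟨x, hx, hxe⟩ := mem_autInducedBy.1 hβ
      obtain ⟨-, hxn, h, hh, hxh⟩ := (hN x).1 hx
      have hhP : h ∈ Subgroup.normalizer (P : Set Ω) := by
        refine mem_normalizer_of_forall ?_ ?_ <;>
          rw [← hfP] <;> intro y hy <;> obtain ⟨z, hz, rfl⟩ := hf.mem_fimg_iff.1 hy
        · rw [← hxh z hz]
          exact apply_mem_fimg f ((Subgroup.mem_normalizer_iff.1 hxn z).1 hz)
        · have hzx : x⁻¹ * z * x ∈ P₀ := by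
            have := (Subgroup.mem_normalizer_iff.1 (Subgroup.inv_mem _ hxn) z).1 hz
            rwa [inv_inv] at this
          have := hxh _ hzx
          rw [show x * (x⁻¹ * z * x) * x⁻¹ = z by group] at this
          rw [show h⁻¹ * f z * h = f (x⁻¹ * z * x) by rw [this]; group]
          exact apply_mem_fimg f hzx
      have hhQ : h ∈ Subgroup.normalizer (Q : Set Ω) := normalizer_sup_le (hSU hh) hhP
      let c : A2 := ⟨Q.normalizerMonoidHom ⟨h, hhQ⟩, autInducedBy_le_innAuts hU hUQ hQS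
        (H := H) (fun y hy => hy.1) (fun y hy => hy.2)
        (mem_autInducedBy.2 ⟨h, ⟨hh, hhP⟩, fun y => rfl⟩)⟩
      have hcT : c ∈ (T : Subgroup A2) := by
        rw [hT]; exact mem_autInducedBy.2 ⟨h, ⟨hh, hhP⟩, fun y => rfl⟩
      have hbc : c⁻¹ * b ∈ A := by
        intro y hy
        show (c : MulAut Q)⁻¹ ((b : MulAut Q) y) = y
        refine (c : MulAut Q).injective ?_
        rw [MulAut.apply_inv_self, ← hβb]
        refine Subtype.ext ?_
        show ((e (β (e.symm y)) : Q) : Ω) = h * (y : Ω) * h⁻¹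
        obtain ⟨z, hz, hzy⟩ := hf.mem_fimg_iff.1 (hfP.symm ▸ hy : (y : Ω) ∈ fimg f P₀)
        have hey : e.symm y = ⟨z, Subgroup.mem_sup_left hz⟩ := by
          refine e.injective (Subtype.ext ?_)
          rw [e.apply_symm_apply, he, hg1 z hz, hzy]
        have hzx := (Subgroup.mem_normalizer_iff.1 hxn z).1 hz
        rw [hey, he, hxe, hg1 _ hzx, hxh z hz, hzy]
      rw [show b = c * (c⁻¹ * b) by group]
      exact J.mul_mem (Subgroup.mem_sup_right hcT) (Subgroup.mem_sup_left hbc)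
    have hTJ : (T : Subgroup A2) ≤ J := le_sup_right
    obtain ⟨B₁, hB₁⟩ := (hBnp.comap_subtype (H := Bn) (K := J)).exists_le_sylow
    obtain ⟨w, hw⟩ := MulAction.exists_smul_eq J B₁ (T.subtype hTJ)
    obtain ⟨a, ha, t, ht, hat⟩ := Subgroup.mem_sup_of_normal_left.1 (w.2 : (w : A2) ∈ A ⊔ _)
    -- `a' = t⁻¹ a t` conjugates `Bn` into `T`
    set a' : A2 := t⁻¹ * a * t with ha'
    have ha'A : a' ∈ A := by
      have := hAn.conj_mem a ha t⁻¹
      rwa [inv_inv] at this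
    have hBnT : ∀ b ∈ Bn, a' * b * a'⁻¹ ∈ (T : Subgroup A2) := by
      intro b hb
      have h1 : w * ⟨b, hBnJ hb⟩ * w⁻¹ ∈ (T.subtype hTJ : Subgroup J) := by
        rw [← hw]; exact ⟨_, hB₁ hb, rfl⟩
      rw [Sylow.coe_subtype, Subgroup.mem_subgroupOf] at h1
      have h2 := mul_mem (mul_mem (inv_mem ht) h1) ht
      convert h2 using 1
      rw [ha', Subgroup.coe_mul, Subgroup.coe_mul, Subgroup.coe_inv, ← hat]
      group
    let g' : Ω → Ω := fun x => autFun (a' : MulAut Q) (g x)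
    have hgm : ∀ x ∈ Q₀, g x ∈ Q := fun x hx => hgQ ▸ apply_mem_fimg g hx
    have hg' : IsMap F Q₀ g' := hg.comp ((mem_autGroup hQS).1 a'.2.1.1) hgm
    have hg'Q : fimg g' Q₀ = Q := by
      rw [show g' = fun x => autFun (a' : MulAut Q) (g x) from rfl, hg.fimg_comp, hgQ, fimg_autFun]
    have hg'e : ∀ x : Q₀, g' x = (((a' : MulAut Q) (e x) : Q) : Ω) := fun x => by
      show autFun (a' : MulAut Q) (g x) = _
      rw [← he, autFun_coe]
    obtain ⟨θ, hθ, hθe⟩ := receptive_extend hQr hg' hg'Q (N := N ⊔ Q₀) (fun x hx => by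
      have hxN : x ∈ extender S Q₀ (Classical.choose hg') := by
        refine sup_le (fun z hz => ?_) (le_extender (Classical.choose_spec hg').1) hx
        have hzQ : z ∈ Subgroup.normalizer (Q₀ : Set Ω) := normalizer_sup_le (hNU hz) (hNP hz)
        have hβ : Q₀.normalizerMonoidHom ⟨z, hzQ⟩ ∈ autInducedBy N Q₀ :=
          mem_autInducedBy.2 ⟨z, hz, fun y => rfl⟩
        have hb : (⟨_, hBnA _ hβ⟩ : A2) ∈ Bn := Subgroup.mem_subgroupOf.2 ⟨_, hβ, rfl⟩
        have h1 := hBnT _ hb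
        rw [hT, Subgroup.mem_subgroupOf] at h1
        obtain ⟨k, hk, hke⟩ := mem_autInducedBy.1 h1
        refine mem_extender.2 ⟨hNS hz, hzQ, k, hk.1, fun y hy => ?_⟩
        have hzy := (Subgroup.mem_normalizer_iff.1 hzQ y).1 hy
        rw [toFun_apply _ hzy, toFun_apply _ hy, (Classical.choose_spec hg').2,
          (Classical.choose_spec hg').2, hg'e ⟨_, hzy⟩, hg'e ⟨y, hy⟩, ← hke]
        simp [MulAut.congr]
        rfl
      obtain ⟨h1, h2, k, hk, hke⟩ := mem_extender.1 hxN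
      refine ⟨⟨h1, h2⟩, k, hk, fun y hy => ?_⟩
      have hxy := (Subgroup.mem_normalizer_iff.1 h2 y).1 hy
      have := hke y hy
      rwa [toFun_apply _ hxy, toFun_apply _ hy, (Classical.choose_spec hg').2,
        (Classical.choose_spec hg').2] at this) le_sup_right
    obtain ⟨sa, hsa, hsae⟩ := a'.2.2
    have hUle : U ≤ N ⊔ Q₀ := le_sup_right.trans' le_sup_right
    refine ⟨θ, (isMap_innerOnSystem hU).2 ⟨θ, hθ.res (sup_le le_sup_left hUle), fun _ _ => rfl,
      sa * s₀, S.mul_mem hsa hs₀, fun u hu => ?_⟩, fun x hx => ?_⟩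
    · rw [hθe u (Subgroup.mem_sup_right hu)]
      show autFun (a' : MulAut Q) (g u) = _
      have hgu : g u ∈ U := (hg2 u hu).symm ▸ conj_mem_of_isNormal hU hs₀ hu
      rw [show g u = ((⟨g u, hUQ hgu⟩ : Q) : Ω) from rfl, autFun_coe, hsae ⟨g u, hUQ hgu⟩ hgu]
      show sa * g u * sa⁻¹ = _
      rw [hg2 u hu]
      group
    · rw [hθe x (Subgroup.mem_sup_left hx)]
      have hx' : g x ∈ P := by
        have := apply_mem_fimg g hx
        rwa [hgP] at this
      show autFun (a' : MulAut Q) (g x) = f x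
      rw [show g x = ((⟨g x, hgm x (Subgroup.mem_sup_left hx)⟩ : Q) : Ω) from rfl, autFun_coe,
        ha'A _ hx']
      exact hg1 x hx

end

end Cfsg.Agent.Fus
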