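import Mathlib
import Cfsg.Agent.Lib.Fus.NormalCrit
import Cfsg.Agent.Lib.Fus.InnerOnSystem
import Cfsg.Agent.Lib.Fus.Invariant
import Cfsg.Agent.Lib.Fus.GroupSystem
import Cfsg.Prelude.Def_FusionComponents

/-!
Saturated subsystems over strongly closed subgroups of constrained systems are constrained.
-/

set_option autoImplicit false

namespace Cfsg.Agent.Fus

open Cfsg Cfsg.FusionSystem
open scoped commutatorElement

universe u

variable {Ω : Type u} [Group Ω] {p : ℕ} [Fact p.Prime]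

/-- A saturated subsystem over a strongly closed subgroup of a constrained system is constrained. -/
theorem isConstrained_of_subsystem {S T : Subgroup Ω} [Finite S] (hS : IsPGroup p S) {F : FusionSystem S}
    (hF : F.IsConstrained p) {E : FusionSystem T} (hEF : E.IsSubsystemOf F) (hT : F.StronglyClosed T)
    (hE : E.IsSaturated p) : E.IsConstrained p := by
  obtain ⟨-, Q, hQn, hQc⟩ := hF
  haveI : Finite T := finite_of_le hT.1
  haveI : Finite Q := finite_of_le hQn.1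
  have hTp : IsPGroup p T := hS.to_le hT.1
  have hQp : IsPGroup p Q := hS.to_le hQn.1
  haveI := hQp.isNilpotent
  have hCQ : centralizerIn S Q ≤ Q := hQc.2 Q (isConj_refl F hQc.1)
  have hconjQ : ∀ t ∈ T, ∀ q ∈ Q, t * q * t⁻¹ ∈ Q := fun t ht q hq => conj_mem_of_isNormal hQn (hT.1 ht) hq
  have hconjT : ∀ s ∈ S, ∀ t ∈ T, s * t * s⁻¹ ∈ T := fun s hs t ht => StronglyClosed.apply_mem hT
    (isMap_conj F (P := Subgroup.zpowers t) (Subgroup.zpowers_le.2 (hT.1 ht)) hs)
    (Subgroup.zpowers_le.2 ht) (Subgroup.mem_zpowers t)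
  -- the intersection with the normal centric subgroup is normal
  obtain ⟨c, hc⟩ : ∃ c, Subgroup.upperCentralSeries Q c = ⊤ :=
    ⟨_, Subgroup.upperCentralSeries_nilpotencyClass⟩
  let Qs : Fin (c + 1) → Subgroup Ω := fun i => (Subgroup.upperCentralSeries Q i).map Q.subtype ⊓ T
  have hlast : Qs (Fin.last c) = Q ⊓ T := by
    show (Subgroup.upperCentralSeries Q c).map Q.subtype ⊓ T = Q ⊓ T
    rw [hc, ← MonoidHom.range_eq_map, Subgroup.range_subtype]
  have hU : E.IsNormal (Q ⊓ T) := by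
    rw [← hlast]
    refine isNormal_of_chain hTp hE Qs (by simp [Qs]) (fun i j hij => inf_le_inf_right _ (Subgroup.map_mono
      (Subgroup.upperCentralSeries_mono Q hij))) fun i => ⟨?_, ?_⟩
    · refine stronglyClosed_of_forall inf_le_right fun R hR f hf x hx => ⟨?_, hf.apply_mem hx⟩
      obtain ⟨g, hg, hg1, hg2⟩ := (isNormal_iff.1 hQn).2 R f (hf.mono hEF)
      rw [← hg1 x hx]
      have hle : (Subgroup.upperCentralSeries Q (i.succ : ℕ)).map Q.subtype ≤ Q := Subgroup.map_subtype_le _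
      have hchar : (((Subgroup.upperCentralSeries Q (i.succ : ℕ)).map Q.subtype).subgroupOf Q).Characteristic := by
        rw [Subgroup.subgroupOf, Subgroup.comap_map_eq_self_of_injective Q.subtype_injective]
        infer_instance
      rw [← (hg.res le_sup_right).fimg_characteristic hg2 hle hchar]
      exact apply_mem_fimg g ((hR.trans inf_le_left) hx)
    · rw [hlast, Subgroup.commutator_le]
      rintro a ⟨haQ, haT⟩ x ⟨⟨b, hb, rfl⟩, hbT⟩
      refine ⟨⟨⁅(⟨a, haQ⟩ : Q), b⁆, ?_, rfl⟩, ?_⟩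
      · have h1 := Subgroup.mem_upperCentralSeries_succ_iff.mp
          (show b ∈ Subgroup.upperCentralSeries Q ((i : ℕ) + 1) from hb) ⟨a, haQ⟩
        have h2 := Subgroup.inv_mem _ h1
        simpa [commutatorElement_def, mul_assoc] using h2
      · exact T.mul_mem (T.mul_mem (T.mul_mem haT hbT) (T.inv_mem haT)) (T.inv_mem hbT)
  -- so is its centralizer
  obtain ⟨C, hCdef⟩ : ∃ C : Subgroup Ω, C = T ⊓ Subgroup.centralizer ((Q ⊓ T : Subgroup Ω) : Set Ω) := ⟨_, rfl⟩
  have hCT : C ≤ T := hCdef ▸ inf_le_left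
  have hCc : ∀ c ∈ C, ∀ u ∈ Q ⊓ T, u * c = c * u := fun c hc u hu => by
    rw [hCdef] at hc
    exact Subgroup.mem_centralizer_iff.mp hc.2 u hu
  have hmemC : ∀ x ∈ T, (∀ u ∈ Q ⊓ T, u * x = x * u) → x ∈ C := fun x hx h => by
    rw [hCdef]; exact ⟨hx, Subgroup.mem_centralizer_iff.mpr h⟩
  have hscC : E.StronglyClosed C := by
    refine stronglyClosed_of_forall hCT fun R hR f hf x hx => hmemC _ (hf.apply_mem hx) fun u hu => ?_
    obtain ⟨g, hg, hg1, hg2⟩ := (isNormal_iff.1 hU).2 R f hf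
    obtain ⟨v, hv, rfl⟩ := (hg.res le_sup_right).mem_fimg_iff.mp (hg2.ge hu)
    rw [← hg1 x hx, ← hg.map_mul (Subgroup.mem_sup_right hv) (Subgroup.mem_sup_left hx),
      ← hg.map_mul (Subgroup.mem_sup_left hx) (Subgroup.mem_sup_right hv), hCc x (hR hx) v hv]
  have hCQU : ⁅C, Q⁆ ≤ Q ⊓ T := by
    rw [Subgroup.commutator_le]
    intro a ha q hq
    refine ⟨Q.mul_mem (hconjQ a (hCT ha) q hq) (Q.inv_mem hq), ?_⟩
    rw [commutatorElement_def, show a * q * a⁻¹ * q⁻¹ = a * (q * a⁻¹ * q⁻¹) by group]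
    exact T.mul_mem (hCT ha) (hconjT q (hQn.1 hq) _ (T.inv_mem (hCT ha)))
  have hUC : ⁅Q ⊓ T, C⁆ = ⊥ := by
    rw [Subgroup.commutator_eq_bot_iff_le_centralizer]
    exact fun u hu => Subgroup.mem_centralizer_iff.mpr fun c hc => (hCc c hc u hu).symm
  have h1 : ⁅⁅C, Q⁆, C⁆ = ⊥ := le_bot_iff.mp ((Subgroup.commutator_mono hCQU le_rfl).trans hUC.le)
  have hCC : ⁅C, C⁆ ≤ C ⊓ (Q ⊓ T) := by
    have h2 : ⁅⁅Q, C⁆, C⁆ = ⊥ := by rwa [Subgroup.commutator_comm Q C]
    have h3 := Subgroup.commutator_eq_bot_iff_le_centralizer.mp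
      (Subgroup.commutator_commutator_eq_bot_of_rotate h1 h2 : ⁅⁅C, C⁆, Q⁆ = ⊥)
    intro x hx
    have hxC : x ∈ C := Subgroup.commutator_le.mpr
      (fun a ha b hb => C.mul_mem (C.mul_mem (C.mul_mem ha hb) (C.inv_mem ha)) (C.inv_mem hb)) hx
    exact ⟨hxC, hCQ ⟨hT.1 (hCT hxC), h3 hx⟩, hCT hxC⟩
  have hC : E.IsNormal C := by
    have h := isNormal_of_chain hTp hE ![⊥, C ⊓ (Q ⊓ T), C] rfl ?_ fun i => ?_
    · exact h
    · refine Fin.monotone_iff_le_succ.2 fun i => ?_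
      fin_cases i
      · exact bot_le
      · exact inf_le_left
    · fin_cases i
      · refine ⟨stronglyClosed_of_forall (inf_le_left.trans hCT) fun R hR f hf x hx =>
          ⟨StronglyClosed.apply_mem hscC hf (hR.trans inf_le_left) hx,
            StronglyClosed.apply_mem (stronglyClosed_of_isNormal hU) hf (hR.trans inf_le_right) hx⟩, ?_⟩
        show ⁅C, C ⊓ (Q ⊓ T)⁆ ≤ ⊥
        rw [Subgroup.commutator_comm]
        exact (Subgroup.commutator_mono inf_le_right le_rfl).trans hUC.le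
      · exact ⟨hscC, hCC⟩
  have hR := isNormal_sup hU hC
  refine ⟨hE, _, hR, hR.1, fun P hP x hx => ?_⟩
  have hPe : P = Q ⊓ T ⊔ C := by
    obtain ⟨g, hg, hge⟩ := isConj_iff.1 hP
    haveI : Finite ↥(Q ⊓ T ⊔ C : Subgroup Ω) := finite_of_le hR.1
    rw [← hge]
    refine Subgroup.eq_of_le_of_card_ge ?_ hg.card_fimg.ge
    exact fimg_le fun y hy => StronglyClosed.apply_mem (stronglyClosed_of_isNormal hR) hg le_rfl hy
  rw [hPe] at hx ⊢
  refine Subgroup.mem_sup_right (hmemC x hx.1 fun u hu => ?_)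
  exact Subgroup.mem_centralizer_iff.mp hx.2 u (Subgroup.mem_sup_left hu)

omit [Fact p.Prime] in
/-- A subnormal subsystem of a constrained system is constrained. -/
theorem isConstrained_of_subnormal {S : Subgroup Ω} {F : FusionSystem S} {T : Subgroup Ω}
    {E : FusionSystem T} (hE : E.IsSubnormalIn F p) :
    p.Prime → Finite S → IsPGroup p S → F.IsConstrained p → E.IsConstrained p := by
  induction hE with
  | refl F p => exact fun _ _ _ h => h
  | step h1 h2 ih =>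
    intro hp hfin hS hF
    haveI : Fact (Nat.Prime _) := ⟨hp⟩
    obtain ⟨⟨hD, -, hI⟩, -⟩ := h2
    haveI := hfin
    exact ih hp (finite_of_le hI.2.1.1) (hS.to_le hI.2.1.1) (isConstrained_of_subsystem hS hF hI.1 hI.2.1 hD)

end Cfsg.Agent.Fus

namespace Cfsg.Agent.Fus

open Cfsg Cfsg.FusionSystem

universe v

variable {G : Type v} [Group G] [Finite G] {p : ℕ} [Fact p.Prime]

/-- Constrained group fusion descends to subnormal subgroups, inside the ambient group. -/
theorem constrained_subnormal_ambient (S : Sylow p G)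
    (hF : (groupFusionSystem (S : Subgroup G)).IsConstrained p) {H : Subgroup G} (hH : H.IsSubnormal) :
    IsSylowOf p ((S : Subgroup G) ⊓ H) H ∧
      ∀ {hle : (S : Subgroup G) ⊓ H ≤ H},
        (fusionSystemOfSubgroup H ((S : Subgroup G) ⊓ H) hle).IsConstrained p := by
  induction hH with
  | top =>
    refine ⟨?_, ?_⟩
    · rw [inf_top_eq]; exact isSylowOf_top S
    · rw [inf_top_eq]
      intro hle
      rw [← groupFusionSystem_eq]
      exact hF
  | step H K hHK _ hN ih =>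
    obtain ⟨hT, hK⟩ := ih
    haveI := hN
    have hconj : ∀ g ∈ K, ∀ x ∈ H, g * x * g⁻¹ ∈ H := fun g hg x hx =>
      hN.conj_mem ⟨x, hHK hx⟩ hx ⟨g, hg⟩
    have hS' : IsSylowOf p ((S : Subgroup G) ⊓ H) H := by
      refine IsSylowOf.of_card_le inf_le_right (S.isPGroup'.to_le inf_le_left) fun A hAH hA hle => ?_
      obtain ⟨g, hg, hgA⟩ := hT.exists_conj_le hA (hAH.trans hHK)
      have h1 : A.map (MulAut.conj g).toMonoidHom ≤ (S : Subgroup G) ⊓ H := by
        rintro _ ⟨a, ha, rfl⟩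
        exact ⟨(hgA ⟨a, ha, rfl⟩).1, hconj g hg a (hAH ha)⟩
      have h2 := Subgroup.card_le_of_le h1
      rw [Subgroup.card_map_of_injective (MulAut.conj g).injective] at h2
      exact (Subgroup.eq_of_le_of_card_ge hle h2).ge
    refine ⟨hS', fun {hle} => isConstrained_of_subsystem (S.isPGroup'.to_le inf_le_left)
      (hK (hle := inf_le_right)) ?_ ?_ (isSaturated_ofSubgroup hS' hle)⟩
    · rintro P φ ⟨hP, hφ, g, hg, h⟩
      exact ⟨hP.trans (inf_le_inf_left _ hHK), fun x => inf_le_inf_left _ hHK (hφ x), g, hHK hg, h⟩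
    · refine stronglyClosed_of_forall (inf_le_inf_left _ hHK) fun R hR f hf x hx => ?_
      obtain ⟨-, g, hg, h⟩ := isMap_ofSubgroup.1 hf
      obtain ⟨h1, h2⟩ := h x hx
      rw [h1]
      exact ⟨h2.1, hconj g hg x (hR hx).2⟩

/-- Constrained group fusion descends to subnormal subgroups. -/
theorem constrained_subnormal (S : Sylow p G)
    (hF : (groupFusionSystem (S : Subgroup G)).IsConstrained p) {H : Subgroup G} (hH : H.IsSubnormal) :
    (groupFusionSystem ((S : Subgroup G).subgroupOf H)).IsConstrained p := by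
  obtain ⟨hS', hC⟩ := constrained_subnormal_ambient S hF hH
  obtain ⟨-, R, hR⟩ := hS'
  obtain ⟨-, Q, hQn, hQc⟩ := hC (hle := inf_le_right)
  have hR' : (R : Subgroup H) = (S : Subgroup G).subgroupOf H := by
    rw [← Subgroup.inf_subgroupOf_right (S : Subgroup G) H]
    exact hR
  rw [← hR']
  refine ⟨isSaturated_group R, Q.subgroupOf H, ?_, ?_⟩
  · refine isNormal_iff.2 ⟨fun x hx => ?_, fun P f hf => ?_⟩
    · rw [hR']; exact (hQn.1 hx).1
    obtain ⟨hP, g, hg⟩ := isMap_group.1 hf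
    have hPm : IsMap (fusionSystemOfSubgroup H ((S : Subgroup G) ⊓ H) inf_le_right) (P.map H.subtype)
        (fun x => (g : G) * x * (g : G)⁻¹) := by
      refine isMap_ofSubgroup.2 ⟨?_, g, g.2, ?_⟩
      · rintro _ ⟨y, hy, rfl⟩
        exact ⟨(show y ∈ (S : Subgroup G).subgroupOf H from hR' ▸ hP hy), y.2⟩
      · rintro _ ⟨y, hy, rfl⟩
        exact ⟨rfl, (show g * y * g⁻¹ ∈ (S : Subgroup G).subgroupOf H from hR' ▸ (hg y hy).2), (g * y * g⁻¹).2⟩
    obtain ⟨k, hk, hk1, hk2⟩ := (isNormal_iff.1 hQn).2 _ _ hPm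
    obtain ⟨hle, a, ha, hka⟩ := isMap_ofSubgroup.1 hk
    have hQH : Q ≤ H := hQn.1.trans inf_le_right
    have hmem : ∀ x ∈ P ⊔ Q.subgroupOf H, (x : G) ∈ P.map H.subtype ⊔ Q := fun x hx => by
      have := Subgroup.mem_map_of_mem H.subtype hx
      rw [Subgroup.map_sup, Subgroup.map_subgroupOf_eq_of_le hQH] at this
      exact this
    refine ⟨fun x => ⟨a, ha⟩ * x * ⟨a, ha⟩⁻¹, isMap_group.2 ⟨sup_le hP ?_, ⟨a, ha⟩, fun x hx => ⟨rfl, ?_⟩⟩,
      fun x hx => ?_, ?_⟩
    · intro x hx; rw [hR']; exact (hQn.1 hx).1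
    · rw [hR']
      exact (hka x (hmem x hx)).2.1
    · rw [(hg x hx).1]
      refine Subtype.ext ?_
      exact (hka x (hmem x (Subgroup.mem_sup_left hx))).1.symm.trans (hk1 x ⟨x, hx, rfl⟩)
    · refine Subgroup.eq_of_le_of_card_ge (fimg_le fun x hx => ?_) ?_
      · show a * (x : G) * a⁻¹ ∈ Q
        rw [← (hka x (hmem x (Subgroup.mem_sup_right hx))).1, ← hk2]
        exact apply_mem_fimg k hx
      · rw [fimg_conj_eq_map, Subgroup.card_map_of_injective (MulAut.conj _).injective]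
  · refine ⟨fun x hx => ?_, fun P hP x hx => ?_⟩
    · rw [hR']; exact (hQn.1 hx).1
    obtain ⟨f, hf, rfl⟩ := isConj_iff.1 hP
    obtain ⟨hle, g, hg⟩ := isMap_group.1 hf
    have hQH : Q ≤ H := hQn.1.trans inf_le_right
    have hQm : IsMap (fusionSystemOfSubgroup H ((S : Subgroup G) ⊓ H) inf_le_right) Q
        (fun y => (g : G) * y * (g : G)⁻¹) := isMap_ofSubgroup.2 ⟨hQn.1, g, g.2, fun y hy =>
      ⟨rfl, (show g * ⟨y, hQH hy⟩ * g⁻¹ ∈ (S : Subgroup G).subgroupOf H from hR' ▸ (hg ⟨y, hQH hy⟩ hy).2),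
        (g * ⟨y, hQH hy⟩ * g⁻¹).2⟩⟩
    have hsub := hQc.2 _ hQm.isConj
    have hxm : (x : G) ∈ centralizerIn ((S : Subgroup G) ⊓ H) (fimg (fun y => (g : G) * y * (g : G)⁻¹) Q) := by
      refine ⟨⟨(show x ∈ (S : Subgroup G).subgroupOf H from hR' ▸ hx.1), x.2⟩,
        Subgroup.mem_centralizer_iff.mpr fun z hz => ?_⟩
      obtain ⟨y, hy, rfl⟩ := hQm.mem_fimg_iff.mp hz
      have h1 := Subgroup.mem_centralizer_iff.mp hx.2 _ (apply_mem_fimg f (show (⟨y, hQH hy⟩ : H) ∈ Q.subgroupOf H from hy))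
      rw [(hg ⟨y, hQH hy⟩ hy).1] at h1
      exact congrArg Subtype.val h1
    obtain ⟨y, hy, hyx⟩ := hQm.mem_fimg_iff.mp (hsub hxm)
    have h2 := apply_mem_fimg f (show (⟨y, hQH hy⟩ : H) ∈ Q.subgroupOf H from hy)
    rw [(hg ⟨y, hQH hy⟩ hy).1] at h2
    convert h2 using 1
    exact Subtype.ext hyx.symm

end Cfsg.Agent.Fus
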