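import Mathlib
import Cfsg.Agent.Lib.Fus.NormalCrit
import Cfsg.Agent.Lib.Fus.Invariant
import Cfsg.Agent.Lib.Fus.AbelianSystem

/-!
Normal subgroups of fusion systems from weakly normal subsystems.
-/

set_option autoImplicit false

namespace Cfsg.Agent.Fus

open Cfsg Cfsg.FusionSystem
open scoped commutatorElement

universe u

variable {Ω : Type u} [Group Ω] {S : Subgroup Ω} {p : ℕ} [Fact p.Prime] {F : FusionSystem S}

/-- A subgroup is normal once every map between its subgroups extends to one of its automorphisms. -/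
theorem isNormal_of_extends [Finite S] (hS : IsPGroup p S) (hF : F.IsSaturated p) {Q : Subgroup Ω}
    (hQ : Q ≤ S)
    (h : ∀ P ≤ Q, ∀ f, IsMap F P f → ∃ g, IsMap F Q g ∧ fimg g Q = Q ∧ ∀ x ∈ P, g x = f x) :
    F.IsNormal Q := by
  haveI : Finite Q := finite_of_le hQ
  have hQp : IsPGroup p Q := hS.to_le hQ
  haveI := hQp.isNilpotent
  obtain ⟨c, hc⟩ : ∃ c, Subgroup.upperCentralSeries Q c = ⊤ :=
    ⟨_, Subgroup.upperCentralSeries_nilpotencyClass⟩
  let Qs : Fin (c + 1) → Subgroup Ω := fun i => (Subgroup.upperCentralSeries Q i).map Q.subtype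
  have hlast : Qs (Fin.last c) = Q := by
    show (Subgroup.upperCentralSeries Q c).map Q.subtype = Q
    rw [hc, ← MonoidHom.range_eq_map, Subgroup.range_subtype]
  rw [← hlast]
  refine isNormal_of_chain hS hF Qs (by simp [Qs]) (fun i j hij => Subgroup.map_mono
    (Subgroup.upperCentralSeries_mono Q hij)) fun i => ⟨?_, ?_⟩
  · refine stronglyClosed_of_forall ((Subgroup.map_subtype_le _).trans hQ) fun R hR f hf x hx => ?_
    have hle : Qs i.succ ≤ Q := Subgroup.map_subtype_le _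
    obtain ⟨g, hg, hgQ, he⟩ := h R (hR.trans hle) f hf
    rw [← he x hx]
    have hchar : ((Qs i.succ).subgroupOf Q).Characteristic := by
      show (((Subgroup.upperCentralSeries Q (i.succ : ℕ)).map Q.subtype).subgroupOf Q).Characteristic
      rw [Subgroup.subgroupOf, Subgroup.comap_map_eq_self_of_injective Q.subtype_injective]
      infer_instance
    rw [← hg.fimg_characteristic hgQ hle hchar]
    exact apply_mem_fimg g (hR hx)
  · rw [hlast, Subgroup.commutator_le]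
    rintro a ha _ ⟨b, hb, rfl⟩
    refine ⟨⁅(⟨a, ha⟩ : Q), b⁆, ?_, rfl⟩
    have h1 := Subgroup.mem_upperCentralSeries_succ_iff.mp
      (show b ∈ Subgroup.upperCentralSeries Q ((i : ℕ) + 1) from hb) ⟨a, ha⟩
    have h2 := Subgroup.inv_mem _ h1
    rw [show Fin.castSucc i = (⟨i, by omega⟩ : Fin (c + 1)) from rfl]
    simpa [commutatorElement_def, mul_assoc] using h2

/-- `F = N_F(Q)` if and only if `F_Q(Q)` is weakly normal. -/
theorem isNormal_iff_inner_weaklyNormal [Finite S] (hS : IsPGroup p S) (hF : F.IsSaturated p) {Q : Subgroup Ω}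
    (hQ : Q ≤ S) : F.IsNormal Q ↔ (innerFusionSystem Q).IsWeaklyNormalIn F p := by
  haveI : Finite Q := finite_of_le hQ
  constructor
  · intro hn
    refine ⟨isSaturated_inner (hS.to_le hQ), hF, inner_isSubsystemOf hQ F, stronglyClosed_of_isNormal hn, ?_, ?_⟩
    · rintro P hPT φ ⟨-, q, hq, hqe⟩ α -
      let χ : (P.subgroupOf Q).map (Q.subtype.comp α.toMonoidHom) →* Ω :=
        (MulAut.conj ((α ⟨q, hq⟩ : Q) : Ω)).toMonoidHom.comp (Subgroup.subtype _)
      refine ⟨χ, ⟨?_, _, (α ⟨q, hq⟩).2, fun x => rfl⟩, fun x hφx hαx => ?_⟩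
      · rintro _ ⟨y, -, rfl⟩
        exact (α y).2
      · show ((α ⟨q, hq⟩ : Q) : Ω) * (α ⟨x, hPT x.2⟩ : Q) * ((α ⟨q, hq⟩ : Q) : Ω)⁻¹ = _
        rw [show (⟨φ x, hφx⟩ : Q) = ⟨q, hq⟩ * ⟨x, hPT x.2⟩ * ⟨q, hq⟩⁻¹ from Subtype.ext (hqe x), map_mul, map_mul,
          map_inv]
        rfl
    · intro P hP φ hφ
      obtain ⟨g, hg, hg1, hg2⟩ := (isNormal_iff.1 hn).2 P _ (isMap_toFun hφ)
      obtain ⟨α, hα, e⟩ := (hg.res le_sup_right).exists_aut hg2
      refine ⟨α, hα, P.subtype, subtype_mem _ hP, fun x hx => ?_⟩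
      have h1 := e x (hP x.2)
      rw [show autFun α (x : Ω) = ((α ⟨x, hP x.2⟩ : Q) : Ω) from autFun_coe α ⟨x, hP x.2⟩, hg1 x x.2,
        toFun_coe] at h1
      exact h1.symm
  · rintro ⟨-, -, hE⟩
    refine isNormal_of_extends hS hF hQ fun P hP f hf => ?_
    obtain ⟨α, hα, f₀, hf₀, he⟩ := frattini_of_isInvariantIn hE hP hf
    obtain ⟨-, q, hq, hqe⟩ := isMap_inner.mp hf₀
    have hc : IsMap F Q (fun x => q * x * q⁻¹) := isMap_conj F hQ (hQ hq)
    have hcQ : ∀ x ∈ Q, q * x * q⁻¹ ∈ Q := fun x hx => Q.mul_mem (Q.mul_mem hq hx) (Q.inv_mem hq)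
    have hm := hc.comp ((mem_autGroup hQ).1 hα) hcQ
    refine ⟨_, hm, ?_, fun x hx => ?_⟩
    · rw [hc.fimg_comp]
      have e1 : fimg (fun x => q * x * q⁻¹) Q = Q := by
        refine Subgroup.eq_of_le_of_card_ge (fimg_le hcQ) ?_
        rw [hc.card_fimg]
      rw [e1, fimg_autFun]
    · show autFun α (q * x * q⁻¹) = f x
      rw [he x hx, hqe x hx]

/-- The conjugates of a normal subgroup of a weakly normal subsystem generate a normal subgroup. -/
theorem isNormal_of_weaklyNormal [Finite S] (hS : IsPGroup p S) (hF : F.IsSaturated p) {T : Subgroup Ω}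
    {E : FusionSystem T} (hE : E.IsWeaklyNormalIn F p) {R : Subgroup Ω} (hR : E.IsNormal R) :
    F.IsNormal (Subgroup.closure {x : Ω | ∃ φ ∈ F.Hom R, ∃ r : R, x = φ r}) := by
  obtain ⟨-, -, hI⟩ := hE
  have hTS : T ≤ S := hI.2.1.1
  have hRT : R ≤ T := hR.1
  haveI : Finite T := finite_of_le hTS
  set Rs := Subgroup.closure {x : Ω | ∃ φ ∈ F.Hom R, ∃ r : R, x = φ r}
  -- each conjugate is normal in `E`
  have hconj : ∀ α ∈ F.autGroup T, E.IsNormal (fimg (autFun α) R) := by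
    intro α hα
    refine isNormal_iff.2 ⟨fimg_le fun x hx => autFun_mem α (hRT hx), fun P f hf => ?_⟩
    have hPT : P ≤ T := hf.source_le
    obtain ⟨k, hk, hke⟩ := invariant_isMap hI hf (inv_mem hα)
    obtain ⟨g, hg, hg1, hg2⟩ := (isNormal_iff.1 hR).2 _ k hk
    obtain ⟨k', hk', hk'e⟩ := invariant_isMap hI hg hα
    have hαm : IsMap F T (autFun α) := (mem_autGroup hTS).1 hα
    have hP' : ∀ x ∈ P, autFun α⁻¹ x ∈ fimg (autFun α⁻¹) P := fun x hx => apply_mem_fimg _ hx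
    have hback : ∀ x ∈ T, autFun α (autFun α⁻¹ x) = x := fun x hx => by
      rw [← autFun_mul _ _ hx, mul_inv_cancel, autFun_one hx]
    have hle : P ⊔ fimg (autFun α) R ≤ fimg (autFun α) (fimg (autFun α⁻¹) P ⊔ R) :=
      sup_le (fun x hx => by
        have := apply_mem_fimg (autFun α) (Subgroup.mem_sup_left (T := R) (hP' x hx))
        rwa [hback x (hPT hx)] at this) (fimg_mono _ le_sup_right)
    refine ⟨k', hk'.res hle, fun x hx => ?_, ?_⟩
    · conv_lhs => rw [← hback x (hPT hx)]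
      rw [hk'e _ (Subgroup.mem_sup_left (hP' x hx)), hg1 _ (hP' x hx), hke x hx,
        hback _ (hf.apply_mem hx)]
    · haveI : Finite ↥(fimg (autFun α) R) := finite_of_le (hαm.res hRT).fimg_le_S
      refine Subgroup.eq_of_le_of_card_ge (fimg_le fun y hy => ?_) ?_
      · obtain ⟨r, hr, rfl⟩ := ((hαm.res hRT).mem_fimg_iff).mp hy
        rw [hk'e _ (Subgroup.mem_sup_right hr)]
        refine apply_mem_fimg _ ?_
        rw [← hg2]
        exact apply_mem_fimg g hr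
      · rw [(hk'.res (fimg_mono _ le_sup_right)).card_fimg]
  have hset : ∀ φ ∈ F.Hom R, ∃ α ∈ F.autGroup T, ∀ r : R, φ r ∈ fimg (autFun α) R := by
    intro φ hφ
    obtain ⟨α, hα, f₀, hf₀, he⟩ := frattini_of_isInvariantIn hI hRT (isMap_toFun hφ)
    refine ⟨α, hα, fun r => ?_⟩
    rw [← toFun_coe φ r, he r r.2]
    refine apply_mem_fimg _ ?_
    exact StronglyClosed.apply_mem (stronglyClosed_of_isNormal hR) hf₀ le_rfl r.2
  have hRsT : Rs ≤ T := by
    rw [Subgroup.closure_le]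
    rintro _ ⟨φ, hφ, r, rfl⟩
    obtain ⟨α, hα, h⟩ := hset φ hφ
    exact (hconj α hα).1 (h r)
  have himg : ∀ α ∈ F.autGroup T, fimg (autFun α) R ≤ Rs := by
    intro α hα
    refine fimg_le fun r hr => Subgroup.subset_closure ?_
    obtain ⟨ψ, hψ, e⟩ := (((mem_autGroup hTS).1 hα).res hRT).exists_hom
    exact ⟨ψ, hψ, ⟨r, hr⟩, (e ⟨r, hr⟩).symm⟩
  have hRsE : E.IsNormal Rs := by
    have hM : (fun X => E.IsNormal X ∧ X ≤ Rs) (sSup {X | E.IsNormal X ∧ X ≤ Rs}) :=
      sSup_property (S := T) (C := fun X => E.IsNormal X ∧ X ≤ Rs) ⟨isNormal_bot E, bot_le⟩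
        (fun A B hA hB => ⟨isNormal_sup hA.1 hB.1, sup_le hA.2 hB.2⟩) fun X hX => hX.1.1
    have hge : Rs ≤ sSup {X | E.IsNormal X ∧ X ≤ Rs} := by
      rw [Subgroup.closure_le]
      rintro _ ⟨φ, hφ, r, rfl⟩
      obtain ⟨α, hα, h⟩ := hset φ hφ
      exact le_sSup (show fimg (autFun α) R ∈ {X | E.IsNormal X ∧ X ≤ Rs} from ⟨hconj α hα, himg α hα⟩) (h r)
    have heq : Rs = sSup {X | E.IsNormal X ∧ X ≤ Rs} := le_antisymm hge hM.2
    exact heq ▸ hM.1
  refine isNormal_of_extends hS hF (hRsT.trans hTS) fun P hP f hf => ?_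
  obtain ⟨α, hα, f₀, hf₀, he⟩ := frattini_of_isInvariantIn hI (hP.trans hRsT) hf
  obtain ⟨g, hg, hg1, hg2⟩ := (isNormal_iff.1 hRsE).2 P f₀ hf₀
  have hgF : IsMap F Rs g := (hg.res le_sup_right).mono hI.1
  have hαm : IsMap F T (autFun α) := (mem_autGroup hTS).1 hα
  have hgT : ∀ x ∈ Rs, g x ∈ T := fun x hx => hRsT (hg2.le (apply_mem_fimg g hx))
  refine ⟨_, hgF.comp hαm hgT, ?_, fun x hx => ?_⟩
  · rw [hgF.fimg_comp, hg2]
    haveI : Finite Rs := finite_of_le (hRsT.trans hTS)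
    refine Subgroup.eq_of_le_of_card_ge ?_ (by rw [(hαm.res hRsT).card_fimg])
    refine fimg_le fun x hx => ?_
    have hgen : Rs ≤ ((Rs.subgroupOf T).comap α.toMonoidHom).map T.subtype := by
      rw [Subgroup.closure_le]
      rintro _ ⟨φ, hφ, r, rfl⟩
      obtain ⟨β, hβ, h⟩ := hset φ hφ
      refine ⟨⟨φ r, (hconj β hβ).1 (h r)⟩, ?_, rfl⟩
      show ((α ⟨φ r, (hconj β hβ).1 (h r)⟩ : T) : Ω) ∈ Rs
      refine himg (α * β) (mul_mem hα hβ) ?_
      obtain ⟨s, hs, hse⟩ := (((mem_autGroup hTS).1 hβ).res hRT).mem_fimg_iff.mp (h r)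
      rw [← autFun_coe α ⟨φ r, (hconj β hβ).1 (h r)⟩]
      show autFun α (φ r) ∈ _
      rw [← hse, ← autFun_mul _ _ (hRT hs)]
      exact apply_mem_fimg _ hs
    obtain ⟨y, hy, rfl⟩ := hgen hx
    rw [show autFun α (T.subtype y) = ((α y : T) : Ω) from autFun_coe α y]
    exact hy
  · show autFun α (g x) = f x
    rw [hg1 x hx, he x hx]

end Cfsg.Agent.Fus
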