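import Cfsg.Agent.Lib.Fus.CentralLiftFactor
import Cfsg.Agent.Lib.Fus.SubnormalConstrained
import Cfsg.Agent.Lib.Fus.WeaklyNormalInner
import Cfsg.Agent.Lib.Fus.CentralizerNormal
import Cfsg.Agent.Lib.Fus.CharInner
import Cfsg.Agent.Lib.Fus.PPowerChain
import Cfsg.Agent.Lib.Fus.PPowerNormal
import Cfsg.Agent.Lib.Fus.HypAction
import Cfsg.Agent.Lib.Fus.FactorExist
import Cfsg.Agent.Lib.Fus.InnerCrit
import Cfsg.Agent.Lib.Fus.AbelianSystem
import Cfsg.Agent.Lib.Fus.SecondCenter
import Cfsg.Agent.S5148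

/-!
A saturated system is constrained exactly when it has no components.
-/

set_option autoImplicit false
set_option linter.style.haveILetI false
set_option linter.unusedSectionVars false

open scoped Classical

universe u

namespace Cfsg.Agent.Fus.CompFree

open Subgroup FusionSystem

variable {Ω : Type u} [Group Ω] {S : Subgroup Ω} {F : FusionSystem S} {p : ℕ} [Fact p.Prime]

theorem isPGroup_of_coprime {G : Type*} [Group G] [Finite G]
    (h : ∀ a : G, (orderOf a).Coprime p → a = 1) : IsPGroup p G := by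
  intro a
  obtain ⟨j, m, hm, hord⟩ :=
    Nat.exists_eq_pow_mul_and_not_dvd (orderOf_pos a).ne' p (Fact.out : p.Prime).ne_one
  refine ⟨j, h _ ?_⟩
  refine Nat.Coprime.coprime_dvd_left (orderOf_dvd_of_pow_eq_one (n := m) ?_)
    ((Fact.out : p.Prime).coprime_iff_not_dvd.2 hm).symm
  rw [← pow_mul, ← hord, pow_orderOf_eq_one]

variable [Finite S]

/-- An inner system has trivial hyperfocal subgroup. -/
theorem hyperfocal_eq_bot (hS : IsPGroup p S)
    (h : ∀ P f, IsMap F P f → ∃ s ∈ S, ∀ x ∈ P, f x = s * x * s⁻¹) :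
    F.hyperfocalSubgroup p = ⊥ := by
  refine eq_bot_iff.2 (hyperfocal_le_of_coprime fun P hP α hα x hx => ?_)
  obtain ⟨s, hs, hse⟩ := h P _ ((mem_autGroup hP).1 α.2)
  have hαS : (α : MulAut P) ∈ autInducedBy S P :=
    mem_autInducedBy.2 ⟨s, hs, fun y => by rw [← autFun_coe, hse _ y.2]⟩
  obtain ⟨k, hk⟩ := isPGroup_autInducedBy hS P ⟨_, hαS⟩
  have h1 : (α : MulAut P) = 1 := InvExt.eq_one_of_coprime_pow (p := p) (n := orderOf α) hα
    (congrArg Subtype.val hk : _) (by
      rw [← SubmonoidClass.coe_pow, pow_orderOf_eq_one, OneMemClass.coe_one])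
  rw [h1, autFun_one hx, inv_mul_cancel]
  exact Subgroup.one_mem _

/-- With hyperfocal subgroup inside the centre, the whole of `S` is normal. -/
theorem isNormal_self (hS : IsPGroup p S) (hF : F.IsSaturated p)
    (h : F.hyperfocalSubgroup p ≤ F.center) : F.IsNormal S := by
  have hp : ∀ P, P ≤ S → IsPGroup p (F.autGroup P) := fun P hP => by
    haveI := finite_of_le hP
    refine isPGroup_of_coprime fun α hα => Subtype.ext (mulAut_ext fun x hx => ?_)
    have hz := h (hyperfocal_mem hP (α := α) (Subgroup.subset_closure hα) hx)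
    obtain ⟨g, -, hg1, hg2⟩ := (isCentral_iff.1 (isCentral_center F)).2 P _ ((mem_autGroup hP).1 α.2)
    have hfix : ∀ z ∈ P, z ∈ F.center → autFun (α : MulAut P) z = z := fun z hz1 hz2 => by
      rw [← hg1 z hz1]
      exact hg2 z hz2
    obtain ⟨z, hzdef⟩ : ∃ z, z = x⁻¹ * autFun (α : MulAut P) x := ⟨_, rfl⟩
    have hzP : z ∈ P := hzdef ▸ mul_mem (Subgroup.inv_mem _ hx) (autFun_mem _ hx)
    have hzc : z ∈ F.center := hzdef ▸ hz
    have hit : ∀ r : ℕ, autFun ((α : MulAut P) ^ r) x = x * z ^ r := by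
      intro r
      induction r with
      | zero => rw [pow_zero, autFun_one hx, pow_zero, mul_one]
      | succ r ih =>
        rw [pow_succ', autFun_mul _ _ hx, ih,
          ((mem_autGroup hP).1 α.2).map_mul hx (pow_mem hzP r),
          hfix _ (pow_mem hzP r) (pow_mem hzc r), hzdef, pow_succ', ← mul_assoc,
          mul_inv_cancel_left]
    have h1 : z ^ orderOf α = 1 := by
      have := hit (orderOf α)
      rw [← SubmonoidClass.coe_pow, pow_orderOf_eq_one, OneMemClass.coe_one, autFun_one hx] at this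
      exact left_eq_mul.1 this
    obtain ⟨k, hk⟩ := hS.to_le hP ⟨z, hzP⟩
    have hz1 : z = 1 :=
      InvExt.eq_one_of_coprime_pow (p := p) hα (congrArg Subtype.val hk : _) h1
    rw [OneMemClass.coe_one, autFun_one hx, ← mul_inv_cancel_left x (autFun (α : MulAut P) x),
      ← hzdef, hz1, mul_one]
  have key : ∀ {P : Subgroup Ω} {f : Ω → Ω}, IsMap F P f →
      ∃ s ∈ S, ∀ x ∈ P, f x = s * x * s⁻¹ := by
    intro P f hf
    have haut : ∀ Q, F.IsFullyNormalized Q → ∀ α ∈ F.autGroup Q,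
        ∃ s ∈ S, ∀ x ∈ Q, autFun α x = s * x * s⁻¹ := fun Q hQ α hα => by
      obtain ⟨s, hs, hse⟩ := mem_autInducedBy.1 (autGroup_le_autInducedBy_of_isPGroup
        (fullyAutomized_of_fullyNormalized hS hF hQ) (hp Q hQ.1) hα)
      exact ⟨s, hs, fun x hx => by
        rw [show autFun α x = ((α ⟨x, hx⟩ : Q) : Ω) from autFun_coe α ⟨x, hx⟩, hse]⟩
    refine alperin hS hF (fun P f => ∃ s ∈ S, ∀ x ∈ P, f x = s * x * s⁻¹)
      (fun P f g ⟨s, hs, hse⟩ e => ⟨s, hs, fun x hx => (e x hx).symm.trans (hse x hx)⟩) ?_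
      (fun P Q f _ hPQ ⟨s, hs, hse⟩ => ⟨s, hs, fun x hx => hse x (hPQ hx)⟩)
      (fun α hα => haut S (fullyNormalized_self F) α hα) (fun Q hQ => haut Q hQ.2.1) hf
    rintro P Q f g - - hm ⟨s, hs, hse⟩ ⟨t, ht, hte⟩
    refine ⟨t * s, S.mul_mem ht hs, fun x hx => ?_⟩
    show g (f x) = _
    rw [hte _ (hm x hx), hse x hx]
    group
  refine isNormal_iff.2 ⟨le_rfl, fun P f hf => ?_⟩
  obtain ⟨s, hs, hse⟩ := key hf
  have hPS := hf.source_le
  refine ⟨fun x => s * x * s⁻¹, isMap_conj F (sup_le hPS le_rfl) hs,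
    fun x hx => (hse x hx).symm, ?_⟩
  exact Subgroup.eq_of_le_of_card_ge
    (fimg_le fun x hx => S.mul_mem (S.mul_mem hs hx) (S.inv_mem hs))
    (isMap_conj F le_rfl hs).card_fimg.ge

/-- A normal subgroup gives a normal subsystem with inner maps. -/
theorem inner_isNormalIn (hS : IsPGroup p S) (hF : F.IsSaturated p) {R : Subgroup Ω}
    (hR : F.IsNormal R) : (innerFusionSystem R).IsNormalIn F p := by
  refine ⟨(isNormal_iff_inner_weaklyNormal hS hF hR.1).1 hR, fun α hα => ?_⟩
  obtain ⟨-, u, hu, hue⟩ := isMap_inner.1 ((mem_autGroup le_rfl).1 hα)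
  have hUS : R ⊔ centralizerIn S R ≤ S := sup_le hR.1 inf_le_left
  have hm : IsMap F (R ⊔ centralizerIn S R) (fun x => u * x * u⁻¹) := isMap_conj F hUS (hR.1 hu)
  haveI := finite_of_le hUS
  obtain ⟨β, hβ, hβe⟩ := hm.exists_aut (Subgroup.eq_of_le_of_card_ge (fimg_le fun x hx =>
    mul_mem (mul_mem (Subgroup.mem_sup_left hu) hx)
      (Subgroup.inv_mem _ (Subgroup.mem_sup_left hu))) hm.card_fimg.ge)
  refine ⟨β, hβ, fun x => ?_, fun c hc => ?_⟩
  · rw [← autFun_coe β, Subgroup.coe_inclusion, hβe _ (Subgroup.mem_sup_left x.2),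
      ← autFun_coe α x, hue _ x.2]
  · rw [← autFun_coe β, hβe _ c.2, hc.2 u hu]
    simp

/-- The maximal normal subgroups of subnormal pieces lie in the core. -/
theorem le_core_of_weaklyNormal (hS : IsPGroup p S) (hF : F.IsSaturated p) {T : Subgroup Ω}
    {E : FusionSystem T} (hE : E.IsWeaklyNormalIn F p) {R : Subgroup Ω} (hR : E.IsNormal R) :
    R ≤ F.core := by
  refine le_trans (fun x hx => Subgroup.subset_closure ?_) (le_core (isNormal_of_weaklyNormal hS hF hE hR))
  exact ⟨R.subtype, subtype_mem F (hR.1.trans hE.2.2.2.1.1), ⟨x, hx⟩, rfl⟩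

/-- A constrained normal subsystem meets the centralizer of the core in the core. -/
theorem le_core_of_constrained (hS : IsPGroup p S) (hF : F.IsSaturated p) {T : Subgroup Ω}
    {E : FusionSystem T} (hE : E.IsNormalIn F p) (hc : E.IsConstrained p) {x : Ω} (hx : x ∈ T)
    (hxR : x ∈ Subgroup.centralizer (F.core : Set Ω)) : x ∈ F.core := by
  obtain ⟨-, Q, hQn, hQc⟩ := hc
  haveI : Finite T := finite_of_le hE.1.2.2.2.1.1
  have hQ := le_core_of_weaklyNormal hS hF hE.1 hQn
  exact hQ (centralizerIn_le_of_centric hQc ⟨hx, fun y hy => hxR y (hQ hy)⟩)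

/-- The image of a normal subgroup in a factor system is normal. -/
theorem isNormal_img {Z : Subgroup Ω} {Ω' : Type*} [Group Ω'] {θ : S →* Ω'} {S' T' : Subgroup Ω'}
    {Fb : FusionSystem S'} {E' : FusionSystem T'} (q : CentralLift.Quot F p Z θ Fb E')
    {Q : Subgroup Ω} (hQ : F.IsNormal Q) : Fb.IsNormal (imageAlong θ Q) := by
  refine isNormal_iff.2 ⟨q.img_le hQ.1, fun P' f' hf' => ?_⟩
  have hP'S := hf'.source_le
  obtain ⟨P, hPdef⟩ : ∃ P, P = preimageAlong θ P' := ⟨_, rfl⟩
  have hPS : P ≤ S := hPdef ▸ preimageAlong_le P'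
  have hZP : Z ≤ P := hPdef ▸ factor_le_preimage q.factor P'
  have himg : imageAlong θ P = P' := hPdef ▸ imageAlong_preimageAlong (q.range_eq.symm ▸ hP'S)
  obtain ⟨g, hg, hge, -⟩ := q.lift hPS hZP (himg.symm ▸ hf')
  obtain ⟨k, hk, hk1, hk2⟩ := (isNormal_iff.1 hQ).2 P g hg
  have hPQ : P ⊔ Q ≤ S := sup_le hPS hQ.1
  obtain ⟨k', hk', hke, -⟩ := q.induced hPQ (hZP.trans le_sup_left) hk
  have hle : P' ⊔ imageAlong θ Q ≤ imageAlong θ (P ⊔ Q) :=
    sup_le (himg ▸ CentralLift.img_mono le_sup_left) (CentralLift.img_mono le_sup_right)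
  refine ⟨k', hk'.res hle, fun y hy => ?_, ?_⟩
  · rw [← himg] at hy
    obtain ⟨x, hx, rfl⟩ := (CentralLift.mem_img hPS).1 hy
    rw [hke x (Subgroup.mem_sup_left hx), hk1 x hx, hge x hx]
  · haveI := q.finite'
    haveI : Finite ↥(imageAlong θ Q) := finite_of_le (q.img_le hQ.1)
    refine Subgroup.eq_of_le_of_card_ge (fimg_le fun y hy => ?_)
      (hk'.res (CentralLift.img_mono le_sup_right)).card_fimg.ge
    obtain ⟨x, hx, rfl⟩ := (CentralLift.mem_img hQ.1).1 hy
    rw [hke x (Subgroup.mem_sup_right hx)]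
    exact CentralLift.th_mem_img hQ.1 (hk2.le (apply_mem_fimg k hx))

/-- Every system has a factor system modulo its centre. -/
theorem exists_factor (F : FusionSystem S) :
    ∃ E : FusionSystem (⊤ : Subgroup (S ⧸ (F.center).subgroupOf S)),
      F.IsFactorSystem F.center (QuotientGroup.mk' ((F.center).subgroupOf S)) E := by
  set θ := QuotientGroup.mk' ((F.center).subgroupOf S) with hθ
  have hT := stronglyClosed_center F
  have hker : ∀ s : S, θ s = 1 ↔ (s : Ω) ∈ F.center := fun s =>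
    (QuotientGroup.eq_one_iff s).trans Subgroup.mem_subgroupOf
  have hr : θ.range = ⊤ := MonoidHom.range_eq_top.2 (QuotientGroup.mk'_surjective _)
  have h := isFactorSystem_factorSystemAlong F hT θ hker
  revert h
  generalize factorSystemAlong F hT θ hker = E
  revert E
  rw [hr]
  exact fun E h => ⟨E, h⟩

/-- A quasisimple system is not constrained. -/
theorem not_constrained_of_quasisimple (hS : IsPGroup p S) (hq : F.Quasisimple p) :
    ¬ F.IsConstrained p := by
  rintro ⟨hF, Q, hQn, hQc⟩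
  obtain ⟨E, hE⟩ := exists_factor F
  obtain ⟨-, hperf, hsimple⟩ := id hq
  obtain ⟨hEs, hne, hnormal⟩ := hsimple E hE
  have hT := stronglyClosed_center F
  set θ := QuotientGroup.mk' ((F.center).subgroupOf S) with hθ
  have hZS : F.center ≤ S := (isCentral_center F).1
  have htop : E.hyperfocalSubgroup p = ⊤ := by
    rw [hyperfocal_factor hS hF hT hE, hperf, Subgroup.subgroupOf_self, ← MonoidHom.range_eq_map]
    exact MonoidHom.range_eq_top.2 (QuotientGroup.mk'_surjective _)
  have hTp : IsPGroup p (⊤ : Subgroup (S ⧸ (F.center).subgroupOf S)) :=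
    (hS.to_quotient _).to_subgroup _
  have hin := inner_isNormalIn hTp hEs (isNormal_bot E)
  have q : CentralLift.Quot F p F.center θ E (innerFusionSystem (⊥ : Subgroup _)) :=
    ⟨hS, hF, le_rfl, hE, hin⟩
  have hQ' := isNormal_img q hQn
  obtain h | ⟨h, hhom⟩ := hnormal _ _ (inner_isNormalIn hTp hEs hQ')
  · refine S5148.result p hS F hq ⟨⟨fun a b => Subtype.ext ?_⟩⟩
    have hQZ : Q ≤ F.center := fun x hx => by
      refine (q.th_one_iff (hQn.1 hx)).1 ?_
      have := CentralLift.th_mem_img (θ := θ) hQn.1 hx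
      rwa [h, Subgroup.mem_bot] at this
    have hall : ∀ y ∈ S, y ∈ Q := fun y hy => centralizerIn_le_of_centric hQc
      ⟨hy, fun z hz => (F.center_le_centralizer (hQZ hz) y hy).symm⟩
    exact F.center_le_centralizer (hQZ (hall _ b.2)) a a.2
  · have hbot := hyperfocal_eq_bot (p := p) (F := E) hTp fun P f hf => by
      obtain ⟨φ, hφ, e⟩ := hf.exists_hom
      rw [← hhom P] at hφ
      obtain ⟨-, g, hg, hge⟩ := hφ
      exact ⟨g, h ▸ hg, fun x hx => (e ⟨x, hx⟩).symm.trans (hge ⟨x, hx⟩)⟩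
    exact hne (htop ▸ hbot)

/-- A constrained system has no components. -/
theorem not_component_of_constrained (hS : IsPGroup p S) (hc : F.IsConstrained p) {T : Subgroup Ω}
    (hTS : T ≤ S) {C : FusionSystem T} : ¬ C.IsComponentIn F p := fun h => by
  haveI := finite_of_le hTS
  exact not_constrained_of_quasisimple (hS.to_le hTS) h.2
    (isConstrained_of_subnormal h.1 Fact.out ‹Finite S› hS hc)

omit [Fact p.Prime] [Finite S] in
/-- The support of a subnormal subsystem lies in `S`. -/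
theorem subnormal_le {T : Subgroup Ω} {E : FusionSystem T} (h : E.IsSubnormalIn F p) : T ≤ S := by
  induction h with
  | refl F p => exact le_rfl
  | step _ h2 ih => exact ih.trans h2.1.2.2.2.1.1

/-- Without components the system is constrained. -/
theorem isConstrained_of_no_components :
    ∀ (n m : ℕ) {S : Subgroup Ω} [Finite S] (F : FusionSystem S),
      Nat.card S ≤ n → Nat.card (F.autGroup S) ≤ m → IsPGroup p S → F.IsSaturated p →
      (∀ (T : Subgroup Ω) (C : FusionSystem T), ¬ C.IsComponentIn F p) → F.IsConstrained p := by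
  intro n
  induction n using Nat.strong_induction_on with
  | _ n ihn =>
  intro m
  induction m using Nat.strong_induction_on with
  | _ m ihm =>
  intro S hfin F hn hm hS hF hnc
  -- normal subsystems that are smaller
  have small : ∀ {T : Subgroup Ω} (D : FusionSystem T), D.IsNormalIn F p →
      (T < S ∨ ∃ α ∈ F.autGroup S, ∃ e : T = S, (e ▸ D).autGroup S ≠ ⊤ ∧ α ∉ (e ▸ D).autGroup S) →
      ∀ x ∈ T, x ∈ Subgroup.centralizer (F.core : Set Ω) → x ∈ F.core := by
    intro T D hD hlt x hx hxR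
    have hTS : T ≤ S := hD.1.2.2.2.1.1
    haveI := finite_of_le hTS
    have hncD : ∀ (U : Subgroup Ω) (C : FusionSystem U), ¬ C.IsComponentIn D p :=
      fun U C hC => hnc U C ⟨.step hC.1 hD, hC.2⟩
    refine le_core_of_constrained hS hF hD ?_ hx hxR
    rcases hlt with hlt | ⟨α, hα, e, -, hαD⟩
    · exact ihn (Nat.card T) (lt_of_lt_of_le (card_lt_of_lt hlt) hn) _ D le_rfl le_rfl
        (hS.to_le hTS) hD.1.1 hncD
    · subst e
      refine ihm (Nat.card (D.autGroup T)) ?_ D hn le_rfl hS hD.1.1 hncD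
      haveI : Finite (MulAut T) := inferInstance
      have hlt' : D.autGroup T < F.autGroup T :=
        lt_of_le_of_ne (autGroup_mono hD.1.2.2.1 T) fun he => hαD (he ▸ hα)
      exact lt_of_lt_of_le (card_lt_of_lt hlt') hm
  set R := F.core with hRdef
  have hRn : F.IsNormal R := isNormal_core F
  suffices hc : centralizerIn S R ≤ R from ⟨hF, R, hRn, centric_of_isNormal hRn hc⟩
  -- the centralizer of the core
  have hinn := inner_isNormalIn hS hF hRn
  have hext : ∀ P : Subgroup Ω, (innerFusionSystem R).Hom P ⊆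
      F.centralizerHom (centralizerIn S R) P := by
    intro P φ hφ
    obtain ⟨hP, g, hg, hge⟩ := hφ
    have hle : R ≤ centralizerIn S (centralizerIn S R) := fun r hr =>
      ⟨hRn.1 hr, fun c hc => (hc.2 r hr).symm⟩
    refine mem_centralizerHom.2 ⟨hP.trans hle, fun x => ?_, fun x => g * x * g⁻¹,
      isMap_conj F (sup_le (hP.trans hRn.1) inf_le_left) (hRn.1 hg), fun x => (hge x).symm,
      fun c hc => ?_⟩
    · rw [hge x]
      exact mul_mem (mul_mem (hle hg) (hle (hP x.2))) (Subgroup.inv_mem _ (hle hg))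
    · show g * c * g⁻¹ = c
      rw [hc.2 g hg, mul_inv_cancel_right]
  have hset : CentNormal.Setup F (innerFusionSystem R) p (centralizerIn S R) :=
    ⟨hS, hF, hinn, le_rfl, hext, fun Y hY _ => hY⟩
  obtain ⟨D, hD, hDC⟩ := hset.exists_normal
  have hCS : centralizerIn S R ≤ S := inf_le_left
  intro x hx
  rcases hCS.eq_or_lt with hCeq | hlt
  swap
  · exact small D hD (Or.inl hlt) x hx hx.2
  revert D
  rw [hCeq]
  intro D hD hDC
  by_cases hAD : F.autGroup S ≤ D.autGroup S
  swap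
  · obtain ⟨α, hα, hαD⟩ := SetLike.not_le_iff_exists.1 hAD
    exact small D hD (Or.inr ⟨α, hα, rfl, fun h => hαD (h ▸ mem_top α), hαD⟩) x hx.1 hx.2
  -- the core is central
  have hRc : F.IsCentral R := by
    refine isCentral_iff.2 ⟨hRn.1, fun P f hf => ?_⟩
    obtain ⟨φ, hφ, e⟩ := hf.exists_hom
    rw [← hom_eq_of_isInvariantIn hD.1.2.2 hAD P] at hφ
    obtain ⟨-, -, g, hg, hg1, hg2⟩ := mem_centralizerHom.1 (hDC P hφ)
    exact ⟨g, hg, fun y hy => (hg1 ⟨y, hy⟩).trans (e ⟨y, hy⟩), hg2⟩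
  have hZ : F.center = R := le_antisymm (le_core (isNormal_iff.2 ⟨(isCentral_center F).1,
    fun P f hf => let ⟨g, hg, hg1, hg2⟩ := (isCentral_iff.1 (isCentral_center F)).2 P f hf
      ⟨g, hg, hg1, fimg_eq_self_of_forall hg2⟩⟩)) (le_center hRc)
  by_contra hxR
  have hSR : ¬ S ≤ R := fun h => hxR (h hx.1)
  have hcen : ∀ y ∈ S, y ∈ Subgroup.centralizer (R : Set Ω) := fun y hy z hz =>
    (F.center_le_centralizer (hZ.ge hz) y hy).symm
  -- the hyperfocal subgroup
  have hperf : F.hyperfocalSubgroup p = S := by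
    refine (hyperfocal_le F p).eq_or_lt.resolve_right fun hlt => hSR (le_core ?_)
    obtain ⟨E, hEs, hEi⟩ := PPowerExist.exists_pPowerIndex hS hF hlt.le le_rfl
    have hn' : ((F.hyperfocalSubgroup p).subgroupOf S).Normal :=
      ⟨fun z hz s => hyperfocal_conj_mem s.2 hz⟩
    have hE := isNormalIn_of_pPowerIndex hS hF hlt.le hn' le_rfl hEs hEi
    refine isNormal_self hS hF fun z hz => hZ.ge ?_
    exact small E hE (Or.inl hlt) z hz (hcen z (hlt.le hz))
  -- the factor system is simple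
  refine hnc S F ⟨.refl F p, hF, hperf, fun Fb hFb => ?_⟩
  set θ := QuotientGroup.mk' ((F.center).subgroupOf S) with hθ
  have hTc := stronglyClosed_center F
  have hFbs := isSaturated_factor hS hF hTc hFb
  refine ⟨hFbs, fun h => hSR fun y hy => hZ.le ?_, fun T' E' hE' => ?_⟩
  · have : θ ⟨y, hy⟩ ∈ (⊤ : Subgroup (S ⧸ (F.center).subgroupOf S)) := mem_top _
    rw [h, Subgroup.mem_bot] at this
    exact (hFb.2.1 ⟨y, hy⟩).1 this
  have q : CentralLift.Quot F p F.center θ Fb E' := ⟨hS, hF, le_rfl, hFb, hE'⟩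
  have hTn := CentralLift.genSys_isNormalIn q.ctx
  by_contra hcon
  push Not at hcon
  obtain ⟨hbot, hcon⟩ := hcon
  rcases (q.pre_le : preimageAlong θ T' ≤ S).eq_or_lt with hT | hlt
  swap
  · refine hbot (eq_bot_iff.2 fun y hy => ?_)
    obtain ⟨s, hs, rfl⟩ := q.exists_th (q.tT hy)
    rw [Subgroup.mem_bot, q.th_one_iff hs, hZ]
    exact small _ hTn (Or.inl hlt) s (CentralLift.mem_pre.2 ⟨hs, hy⟩) (hcen s hs)
  have hT' : T' = ⊤ := by
    rw [← q.img_top, hT]
    refine eq_top_iff.2 fun y _ => ?_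
    obtain ⟨s, rfl⟩ := QuotientGroup.mk'_surjective _ y
    exact ⟨s, s.2, rfl⟩
  subst hT'
  obtain ⟨P, hP⟩ := hcon rfl
  haveI := q.finite'
  have hnle : ¬ Fb.autGroup (⊤ : Subgroup (S ⧸ (F.center).subgroupOf S)) ≤ E'.autGroup ⊤ := fun h =>
    hP (hom_eq_of_isInvariantIn hE'.1.2.2 h P)
  obtain ⟨β, hβ, hβE⟩ := SetLike.not_le_iff_exists.1 hnle
  obtain ⟨g, hg, hge, hgi⟩ := q.lift (P := S) le_rfl (isCentral_center F).1
    (((mem_autGroup le_rfl).1 hβ).res le_top)
  obtain ⟨α, hα, hαe⟩ := hg.exists_aut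
    (Subgroup.eq_of_le_of_card_ge hg.fimg_le_S hg.card_fimg.ge)
  have hαover : α ∉ CentralLift.liftAuts F θ E' S := fun h => by
    obtain ⟨-, γ, hγ, hγe⟩ := (CentralLift.mem_liftAuts le_rfl).1 h
    refine hβE ?_
    have hSimg : imageAlong θ S = ⊤ := eq_top_iff.2 fun y _ => by
      obtain ⟨s, rfl⟩ := QuotientGroup.mk'_surjective _ y
      exact ⟨s, s.2, rfl⟩
    revert γ
    rw [hSimg]
    intro γ hγ hγe
    suffices β = γ from this ▸ hγ
    refine mulAut_ext fun y hy => ?_
    obtain ⟨s, hs, rfl⟩ := q.exists_th hy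
    rw [← hγe s hs, hαe s hs, hge s hs]
  have key : ∀ (T : Subgroup Ω) (e : T = S) (D : FusionSystem T), D.IsNormalIn F p →
      D.autGroup T ≤ CentralLift.liftAuts F θ E' T → False := by
    rintro _ rfl D hD hle
    exact hxR (small D hD (Or.inr ⟨α, hα, rfl, fun h => hαover (hle (h ▸ mem_top α)),
      fun h => hαover (hle h)⟩) x hx.1 hx.2)
  exact key _ hT _ hTn ((CentralLift.good_all q.ctx q.ctx.top).1 _ (isConj_refl _ le_rfl))

/-- Constrained exactly when there is no component. -/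
theorem isConstrained_iff (hS : IsPGroup p S) (hF : F.IsSaturated p) :
    F.IsConstrained p ↔
      ¬ ∃ (T : Subgroup Ω) (C : FusionSystem T), C.IsComponentIn F p :=
  ⟨fun hc ⟨_, _, hC⟩ => not_component_of_constrained hS hc (subnormal_le hC.1) hC,
    fun h => isConstrained_of_no_components _ _ F le_rfl le_rfl hS hF
      fun T C hC => h ⟨T, C, hC⟩⟩

end Cfsg.Agent.Fus.CompFree
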