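import Mathlib
import Cfsg.Agent.Lib.Fus.FactorSat
import Cfsg.Agent.Lib.Fus.FactorExist
import Cfsg.Agent.Lib.Fus.Invariant
import Cfsg.Agent.Lib.Fus.HypAction

/-!
Transport of subsystems and their properties along isomorphisms of fusion systems.
-/

set_option autoImplicit false
set_option linter.style.haveILetI false
set_option linter.unusedSectionVars false

open scoped Classical

universe u v

namespace Cfsg.Agent.Fus.Transport

open Subgroup FusionSystem

variable {Ω : Type u} [Group Ω] {Ω' : Type v} [Group Ω']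

/-- The image of a subgroup under a function. -/
def img (f : Ω → Ω') (P : Subgroup Ω) : Subgroup Ω' := Subgroup.closure (f '' (P : Set Ω))

theorem apply_mem_img {P : Subgroup Ω} (f : Ω → Ω') {x : Ω} (h : x ∈ P) : f x ∈ img f P :=
  subset_closure ⟨x, h, rfl⟩

theorem img_le {P : Subgroup Ω} {K : Subgroup Ω'} {f : Ω → Ω'} (h : ∀ x ∈ P, f x ∈ K) :
    img f P ≤ K := (closure_le K).2 (by rintro _ ⟨x, hx, rfl⟩; exact h x hx)

theorem img_mono {P Q : Subgroup Ω} (f : Ω → Ω') (h : P ≤ Q) : img f P ≤ img f Q :=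
  img_le fun _ hx => apply_mem_img f (h hx)

theorem img_congr {P : Subgroup Ω} {f f' : Ω → Ω'} (h : ∀ x ∈ P, f x = f' x) :
    img f P = img f' P := by
  unfold img; congr 1; exact Set.image_congr h

variable {S T : Subgroup Ω} {S' T' : Subgroup Ω'} {F : FusionSystem S} {F' : FusionSystem S'}
  {E : FusionSystem T} {E' : FusionSystem T'} {f : Ω → Ω'} {g : Ω' → Ω} {p : ℕ}

/-- An isomorphism of fusion systems, as a pair of functions on the ambient groups. -/
structure Iso (F : FusionSystem S) (F' : FusionSystem S') (f : Ω → Ω') (g : Ω' → Ω) : Prop where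
  mem : ∀ x ∈ S, f x ∈ S'
  mem' : ∀ y ∈ S', g y ∈ S
  left : ∀ x ∈ S, g (f x) = x
  right : ∀ y ∈ S', f (g y) = y
  mul : ∀ x ∈ S, ∀ y ∈ S, f (x * y) = f x * f y
  map : ∀ {P : Subgroup Ω} {h : Ω → Ω}, IsMap F P h → IsMap F' (img f P) (fun y => f (h (g y)))
  map' : ∀ {Q : Subgroup Ω'} {h : Ω' → Ω'}, IsMap F' Q h → IsMap F (img g Q) (fun x => g (h (f x)))

variable (I : Iso F F' f g)
include I

theorem Iso.mul' (x : Ω') (hx : x ∈ S') (y : Ω') (hy : y ∈ S') : g (x * y) = g x * g y := by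
  conv_lhs => rw [← I.right x hx, ← I.right y hy, ← I.mul _ (I.mem' x hx) _ (I.mem' y hy)]
  exact I.left _ (S.mul_mem (I.mem' x hx) (I.mem' y hy))

theorem Iso.symm : Iso F' F g f :=
  ⟨I.mem', I.mem, I.right, I.left, I.mul', I.map', I.map⟩

theorem Iso.one : f 1 = 1 := by
  have h := I.mul 1 S.one_mem 1 S.one_mem
  rw [mul_one] at h
  exact mul_eq_left.1 h.symm

theorem Iso.inv {x : Ω} (hx : x ∈ S) : f x⁻¹ = (f x)⁻¹ :=
  eq_inv_of_mul_eq_one_left (by rw [← I.mul _ (S.inv_mem hx) _ hx, inv_mul_cancel, I.one])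

theorem Iso.mem_img {P : Subgroup Ω} (hP : P ≤ S) {y : Ω'} :
    y ∈ img f P ↔ ∃ x ∈ P, f x = y := by
  refine ⟨fun hy => ?_, fun ⟨x, hx, e⟩ => e ▸ apply_mem_img f hx⟩
  induction hy using Subgroup.closure_induction with
  | mem z hz => exact hz
  | one => exact ⟨1, P.one_mem, I.one⟩
  | mul a b _ _ iha ihb =>
    obtain ⟨u, hu, rfl⟩ := iha
    obtain ⟨w, hw, rfl⟩ := ihb
    exact ⟨u * w, P.mul_mem hu hw, I.mul u (hP hu) w (hP hw)⟩
  | inv a _ iha =>
    obtain ⟨u, hu, rfl⟩ := iha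
    exact ⟨u⁻¹, P.inv_mem hu, I.inv (hP hu)⟩

theorem Iso.img_le_S {P : Subgroup Ω} (hP : P ≤ S) : img f P ≤ S' :=
  img_le fun x hx => I.mem x (hP hx)

theorem Iso.img_img {P : Subgroup Ω} (hP : P ≤ S) : img g (img f P) = P := by
  refine le_antisymm (img_le fun y hy => ?_) fun x hx => ?_
  · obtain ⟨x, hx, rfl⟩ := (I.mem_img hP).1 hy
    rwa [I.left x (hP hx)]
  · rw [← I.left x (hP hx)]
    exact apply_mem_img g (apply_mem_img f hx)

theorem Iso.img_top : img f S = S' :=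
  le_antisymm (I.img_le_S le_rfl) fun y hy => by
    rw [← I.right y hy]; exact apply_mem_img f (I.mem' y hy)

theorem Iso.g_mem {P : Subgroup Ω} (hP : P ≤ S) {y : Ω'} (hy : y ∈ img f P) :
    g y ∈ P ∧ y ∈ S' := by
  obtain ⟨x, hx, rfl⟩ := (I.mem_img hP).1 hy
  exact ⟨(I.left x (hP hx)).symm ▸ hx, I.mem x (hP hx)⟩

theorem Iso.fimg_map {P : Subgroup Ω} {h : Ω → Ω} (hh : IsMap F P h) :
    fimg (fun y => f (h (g y))) (img f P) = img f (fimg h P) := by
  refine le_antisymm (Fus.fimg_le fun y hy => ?_) (img_le fun z hz => ?_)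
  · exact apply_mem_img f (apply_mem_fimg h (I.g_mem hh.source_le hy).1)
  · obtain ⟨x, hx, rfl⟩ := hh.mem_fimg_iff.1 hz
    have := apply_mem_fimg (fun y => f (h (g y))) (apply_mem_img f hx)
    simp only [I.left x (hh.source_le hx)] at this
    exact this

theorem Iso.aut {P : Subgroup Ω} (hP : P ≤ S) {α : MulAut P} (hα : α ∈ F.autGroup P) :
    ∃ β ∈ F'.autGroup (img f P), ∀ y ∈ img f P, autFun β y = f (autFun α (g y)) :=
  (I.map ((mem_autGroup hP).1 hα)).exists_aut
    (by rw [I.fimg_map ((mem_autGroup hP).1 hα), fimg_autFun])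

theorem Iso.aut' {P : Subgroup Ω} {Q : Subgroup Ω'} (hP : P ≤ S) (hPQ : img f P = Q)
    {α : MulAut P} (hα : α ∈ F.autGroup P) :
    ∃ β ∈ F'.autGroup Q, ∀ y ∈ Q, autFun β y = f (autFun α (g y)) := by
  subst hPQ
  exact I.aut hP hα

theorem Iso.stronglyClosed (hT : F.StronglyClosed T) : F'.StronglyClosed (img f T) := by
  refine stronglyClosed_of_forall (I.img_le_S hT.1) fun R hR h hh y hy => ?_
  have h1 := I.map' hh
  have hle : img g R ≤ T := img_le fun z hz => (I.g_mem hT.1 (hR hz)).1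
  have h2 : g (h (f (g y))) ∈ T := StronglyClosed.apply_mem hT h1 hle (apply_mem_img g hy)
  rw [I.right y (hh.source_le hy)] at h2
  rw [← I.right (h y) (hh.apply_mem hy)]
  exact apply_mem_img f h2

theorem Iso.congr {f' : Ω → Ω'} {g' : Ω' → Ω} (hf : ∀ x ∈ S, f x = f' x)
    (hg : ∀ y ∈ S', g y = g' y) : Iso F F' f' g' := by
  refine ⟨fun x hx => hf x hx ▸ I.mem x hx, fun y hy => hg y hy ▸ I.mem' y hy,
    fun x hx => by rw [← hf x hx, ← hg _ (I.mem x hx), I.left x hx],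
    fun y hy => by rw [← hg y hy, ← hf _ (I.mem' y hy), I.right y hy],
    fun x hx y hy => by rw [← hf x hx, ← hf y hy, ← hf _ (S.mul_mem hx hy), I.mul x hx y hy],
    fun {P h} hh => ?_, fun {Q h} hh => ?_⟩
  · have hP := hh.source_le
    rw [← img_congr fun x hx => hf x (hP hx)]
    refine (I.map hh).congr fun y hy => ?_
    obtain ⟨hgy, hyS⟩ := I.g_mem hP hy
    rw [← hg y hyS]
    exact hf _ (hh.apply_mem hgy)
  · have hQ := hh.source_le
    rw [← img_congr fun y hy => hg y (hQ hy)]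
    refine (I.map' hh).congr fun x hx => ?_
    obtain ⟨hfx, hxS⟩ := I.symm.g_mem hQ hx
    rw [← hf x hxS]
    exact hg _ (hh.apply_mem hfx)

/-- The image system is determined by the isomorphism. -/
theorem Iso.unique {F'' : FusionSystem S'} (J : Iso F F'' f g) : F' = F'' := by
  refine eq_of_hom_eq fun Q => ?_
  have key : ∀ {A B : FusionSystem S'}, Iso F A f g → Iso F B f g → A.Hom Q ⊆ B.Hom Q := by
    intro A B IA IB φ hφ
    have hm := isMap_toFun hφ
    have h1 := IB.map (IA.map' hm)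
    rw [IA.symm.img_img hm.source_le] at h1
    refine mem_hom_of_isMap h1 fun x => ?_
    show φ x = f (g (toFun φ (f (g x))))
    rw [IA.right _ (hm.source_le x.2), IA.right _ (hm.apply_mem x.2), toFun_coe]
  exact Set.Subset.antisymm (key I J) (key J I)

omit I

/-- The function on the ambient group given by a homomorphism defined on `S`. -/
noncomputable def hf (θ : S →* Ω') (x : Ω) : Ω' := if h : x ∈ S then θ ⟨x, h⟩ else 1

theorem hf_eq {θ : S →* Ω'} {x : Ω} (h : x ∈ S) : hf θ x = θ ⟨x, h⟩ := dif_pos h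

variable [Finite S] [Fact p.Prime]

theorem stronglyClosed_bot (F : FusionSystem S) : F.StronglyClosed ⊥ := by
  refine stronglyClosed_of_forall bot_le fun R hR h hh x hx => ?_
  rw [Subgroup.mem_bot] at *
  obtain rfl : x = 1 := Subgroup.mem_bot.1 (hR hx)
  exact hh.map_one

/-- A factor system modulo the trivial subgroup is isomorphic. -/
theorem Iso.of_factor {θ : S →* Ω'} (hE : F.IsFactorSystem ⊥ θ F') :
    ∃ g : Ω' → Ω, Iso F F' (hf θ) g := by
  have hinj : ∀ {x y : Ω} (hx : x ∈ S) (hy : y ∈ S), θ ⟨x, hx⟩ = θ ⟨y, hy⟩ → x = y :=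
    fun hx hy e => inv_mul_eq_one.1 (Subgroup.mem_bot.1 ((factor_map_eq_iff hE).1 e))
  have hex : ∀ y : Ω', ∃ x : Ω, y ∈ S' → ∃ hx : x ∈ S, θ ⟨x, hx⟩ = y := by
    intro y
    by_cases hy : y ∈ S'
    · obtain ⟨x, rfl⟩ := hE.2.2.1.ge hy
      exact ⟨x, fun _ => ⟨x.2, rfl⟩⟩
    · exact ⟨1, fun h => absurd h hy⟩
  choose g hg using hex
  have hleft : ∀ x ∈ S, g (hf θ x) = x := fun x hx => by
    rw [hf_eq hx]
    obtain ⟨h, e⟩ := hg (θ ⟨x, hx⟩) (hE.2.2.1.le ⟨_, rfl⟩)
    exact hinj h hx e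
  have hmem : ∀ x ∈ S, hf θ x ∈ S' := fun x hx => by
    rw [hf_eq hx]; exact hE.2.2.1.le ⟨_, rfl⟩
  refine ⟨g, hmem, fun y hy => (hg y hy).1, hleft, fun y hy => ?_, fun x hx y hy => ?_,
    fun {P h} hh => ?_, fun {Q h} hh => ?_⟩
  · obtain ⟨h, e⟩ := hg y hy
    rw [hf_eq h, e]
  · rw [hf_eq hx, hf_eq hy, hf_eq (S.mul_mem hx hy), ← map_mul]
    rfl
  · have hP := hh.source_le
    have himg : img (hf θ) P = imageAlong θ P := by
      refine le_antisymm (img_le fun x hx => ?_) ?_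
      · rw [hf_eq (hP hx)]; exact ⟨⟨x, hP hx⟩, hx, rfl⟩
      · rintro _ ⟨x, hx, rfl⟩
        rw [← hf_eq x.2]
        exact apply_mem_img _ hx
    rw [himg]
    have hle : imageAlong θ P ≤ S' := himg ▸ img_le fun x hx => hmem x (hP hx)
    have hpre := preimageAlong_imageAlong hE hP bot_le
    obtain ⟨g', hg', he⟩ := exists_induced hE (stronglyClosed_bot F) hle (hpre.symm ▸ hh)
    refine hg'.congr fun y hy => ?_
    obtain ⟨⟨x, hxS⟩, hx, rfl⟩ := hy
    have hx' : x ∈ P := hx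
    have hl := hleft x hxS
    rw [hf_eq hxS] at hl
    show g' (θ ⟨x, hxS⟩) = hf θ (h (g (θ ⟨x, hxS⟩)))
    rw [hl, hf_eq (hh.apply_mem hx')]
    exact he x (hpre.symm ▸ hx')
  · have hQ := hh.source_le
    obtain ⟨h', hh', he⟩ := exists_lift hE hh
    have hpre : img g Q ≤ preimageAlong θ Q := img_le fun y hy => by
      obtain ⟨hy', e⟩ := hg y (hQ hy)
      exact mem_preimageAlong.2 ⟨hy', e.symm ▸ hy⟩
    refine (hh'.res hpre).congr fun x hx => ?_
    have hxp := hpre hx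
    have hxS := preimageAlong_le Q hxp
    have e1 := he x hxp (hh'.apply_mem hxp)
    show h' x = g (h (hf θ x))
    rw [hf_eq hxS, ← e1, ← hf_eq (hh'.apply_mem hxp), hleft _ (hh'.apply_mem hxp)]

/-- An isomorphism is a factor system modulo the trivial subgroup. -/
theorem Iso.isFactor (I : Iso F F' f g) : ∃ θ : S →* Ω', (∀ x : S, θ x = f x) ∧
    F.IsFactorSystem ⊥ θ F' := by
  let θ : S →* Ω' := MonoidHom.mk' (fun x => f x) fun x y => I.mul x x.2 y y.2
  refine ⟨θ, fun _ => rfl, bot_le, fun x => ?_, ?_, fun P' φ' => ?_⟩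
  · constructor
    · intro hx
      have := I.left x x.2
      rw [show f x = 1 from hx, I.symm.one] at this
      rw [Subgroup.mem_bot, ← this]
    · intro hx
      show f x = 1
      rw [Subgroup.mem_bot.1 hx, I.one]
  · refine le_antisymm ?_ fun y hy => ⟨⟨g y, I.mem' y hy⟩, I.right y hy⟩
    rintro _ ⟨x, rfl⟩
    exact I.mem x x.2
  · have hpre : ∀ {Q : Subgroup Ω'}, Q ≤ S' → preimageAlong θ Q = img g Q := by
      intro Q hQ
      ext x
      rw [mem_preimageAlong, I.symm.mem_img hQ]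
      constructor
      · rintro ⟨hx, hθ⟩
        exact ⟨f x, hθ, I.left x hx⟩
      · rintro ⟨y, hy, rfl⟩
        exact ⟨I.mem' y (hQ hy), show f (g y) ∈ Q by rwa [I.right y (hQ hy)]⟩
    constructor
    · intro hφ'
      have hm := isMap_toFun hφ'
      have hP := hm.source_le
      have hk : IsMap F (preimageAlong θ P') (fun x => g (toFun φ' (f x))) :=
        (hpre hP).symm ▸ I.map' hm
      obtain ⟨φ, hφ, e⟩ := hk.exists_hom
      refine ⟨hP, φ, hφ, preimageAlong_le P', (F.le_of_mem hφ).2,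
        fun x => (mem_preimageAlong.1 x.2).2, fun x => ?_⟩
      have hx' := mem_preimageAlong.1 x.2
      obtain ⟨hxS, hxP⟩ := hx'
      have hxP' : f x ∈ P' := hxP
      show φ' ⟨f x, hxP'⟩ = f (φ x)
      rw [e, I.right _ (hm.apply_mem hxP'), toFun_apply φ' hxP']
    · rintro ⟨hP', φ, hφ, hsub, hval, hmem, hind⟩
      have h1 : IsMap F (img g P') (toFun φ) := hpre hP' ▸ isMap_toFun hφ
      have hk := I.map h1
      rw [I.symm.img_img hP'] at hk
      refine mem_hom_of_isMap hk fun y => ?_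
      have hy : g y ∈ preimageAlong θ P' := (hpre hP').symm ▸ apply_mem_img g y.2
      have h2 := hind ⟨g y, hy⟩
      have e : (⟨θ ⟨g y, hsub hy⟩, hmem ⟨g y, hy⟩⟩ : P') = y :=
        Subtype.ext (I.right y (hP' y.2))
      rw [e] at h2
      show φ' y = f (toFun φ (g y))
      rw [h2, toFun_apply φ hy]
      rfl

theorem Iso.saturated (I : Iso F F' f g) (hS : IsPGroup p S) (hF : F.IsSaturated p) :
    F'.IsSaturated p := by
  obtain ⟨θ, -, hθ⟩ := I.isFactor
  exact isSaturated_factor hS hF (stronglyClosed_bot F) hθ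

theorem Iso.pgroup (I : Iso F F' f g) (hS : IsPGroup p S) : IsPGroup p S' := by
  let θ : S →* S' := MonoidHom.mk' (fun x => ⟨f x, I.mem x x.2⟩)
    fun x y => Subtype.ext (I.mul x x.2 y y.2)
  exact hS.of_surjective θ fun y => ⟨⟨g y, I.mem' y y.2⟩, Subtype.ext (I.right y y.2)⟩

theorem Iso.finite (I : Iso F F' f g) : Finite S' :=
  Finite.of_surjective (fun x : S => (⟨f x, I.mem x x.2⟩ : S'))
    fun y => ⟨⟨g y, I.mem' y y.2⟩, Subtype.ext (I.right y y.2)⟩

/-- A subsystem is carried to a subsystem. -/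
theorem Iso.exists_push (I : Iso F F' f g) (hTS : T ≤ S) (E : FusionSystem T) :
    ∃ E' : FusionSystem (img f T), Iso E E' f g := by
  haveI := finite_of_le hTS
  let θ : T →* Ω' := MonoidHom.mk' (fun x => f x) fun x y => I.mul x (hTS x.2) y (hTS y.2)
  have hker : ∀ s : T, θ s = 1 ↔ (s : Ω) ∈ (⊥ : Subgroup Ω) := fun s => by
    rw [Subgroup.mem_bot]
    constructor
    · intro h
      have := I.left s (hTS s.2)
      rwa [show f s = 1 from h, I.symm.one, eq_comm] at this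
    · intro h
      show f s = 1
      rw [h, I.one]
  have hrange : θ.range = img f T := by
    ext y
    rw [I.mem_img hTS, MonoidHom.mem_range]
    exact ⟨fun ⟨x, e⟩ => ⟨x, x.2, e⟩, fun ⟨x, hx, e⟩ => ⟨⟨x, hx⟩, e⟩⟩
  obtain ⟨E', hE'⟩ : ∃ E' : FusionSystem (img f T), E.IsFactorSystem ⊥ θ E' := by
    rw [← hrange]
    exact ⟨_, isFactorSystem_factorSystemAlong E (stronglyClosed_bot E) θ hker⟩
  obtain ⟨g', J⟩ := Iso.of_factor hE'
  refine ⟨E', J.congr (fun x hx => hf_eq hx) fun y hy => ?_⟩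
  have hg' := J.mem' y hy
  have h1 : f (g' y) = y := by
    have := J.right y hy
    rwa [hf_eq hg'] at this
  conv_rhs => rw [← h1]
  exact (I.left _ (hTS hg')).symm

variable (I : Iso F F' f g) (J : Iso E E' f g)
include I J

theorem Iso.img_sub : img f T = T' := J.img_top

theorem Iso.subsystem (h : E.IsSubsystemOf F) : E'.IsSubsystemOf F' := by
  intro Q φ hφ
  have hm := isMap_toFun hφ
  have h1 := I.map (IsMap.mono h (J.map' hm))
  rw [J.symm.img_img hm.source_le] at h1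
  refine mem_hom_of_isMap h1 fun x => ?_
  show φ x = f (g (toFun φ (f (g x))))
  rw [J.right _ (hm.source_le x.2), J.right _ (hm.apply_mem x.2), toFun_coe]

theorem Iso.invariant (h : E.IsInvariantIn F) : E'.IsInvariantIn F' := by
  have hTS := h.2.1.1
  have hT' : img f T = T' := J.img_top
  have hsc : F'.StronglyClosed T' := hT' ▸ I.stronglyClosed h.2.1
  have hT'S := hsc.1
  have hback : img g T' = T := J.symm.img_top
  refine ⟨I.subsystem J h.1, hsc, fun P' hP'T φ hφ α' hα' => ?_, fun P' hP'T φ hφ => ?_⟩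
  · have hm := isMap_toFun hφ
    obtain ⟨α, hαm, hαe⟩ : ∃ α ∈ F.autGroup T, ∀ x ∈ T, autFun α x = g (autFun α' (f x)) := by
      have := I.symm.aut hT'S hα'
      rwa [hback] at this
    obtain ⟨k, hk, hke⟩ := invariant_isMap h (J.map' hm) hαm
    have hk' := J.map hk
    have hα'm : IsMap F' T' (autFun α') := (mem_autGroup hT'S).1 hα'
    have hgP : img g P' ≤ T := img_le fun y hy => J.mem' y (hP'T hy)
    have hαg : ∀ y ∈ P', f (autFun α (g y)) = autFun α' y := fun y hy => by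
      rw [hαe _ (J.mem' y (hP'T hy)), J.right y (hP'T hy),
        J.right _ (autFun_mem α' (hP'T hy))]
    have heq : (P'.subgroupOf T').map (T'.subtype.comp α'.toMonoidHom) =
        img f (fimg (autFun α) (img g P')) := by
      ext y
      rw [Subgroup.mem_map, I.mem_img (((mem_autGroup hTS).1 hαm).res hgP).fimg_le_S]
      constructor
      · rintro ⟨t, ht, rfl⟩
        exact ⟨_, apply_mem_fimg _ (apply_mem_img g ht), (hαg t ht).trans (autFun_coe α' t)⟩
      · rintro ⟨z, hz, rfl⟩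
        obtain ⟨w, hw, rfl⟩ := (((mem_autGroup hTS).1 hαm).res hgP).mem_fimg_iff.1 hz
        obtain ⟨y, hy, rfl⟩ := (J.symm.mem_img hP'T).1 hw
        exact ⟨⟨y, hP'T hy⟩, hy, (autFun_coe α' ⟨y, hP'T hy⟩).symm.trans (hαg y hy).symm⟩
    rw [← heq] at hk'
    obtain ⟨χ, hχ, hχe⟩ := hk'.exists_hom
    refine ⟨χ, hχ, fun x hφx hαx => ?_⟩
    rw [hχe]
    show f (k (g ((α' ⟨x, hP'T x.2⟩ : T') : Ω'))) = _
    rw [← autFun_coe α' ⟨x, hP'T x.2⟩, ← hαg x x.2,
      J.left _ (autFun_mem α (hgP (apply_mem_img g x.2))),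
      hke _ (apply_mem_img g x.2), J.right _ (hP'T x.2), toFun_coe,
      hαe _ (J.mem' _ (E'.le_of_mem hφ |>.2 x)), J.right _ (E'.le_of_mem hφ |>.2 x),
      J.right _ (autFun_mem α' ((E'.le_of_mem hφ).2 x))]
    exact autFun_coe α' ⟨φ x, hφx⟩
  · have hm := isMap_toFun hφ
    have hgP : img g P' ≤ T := img_le fun y hy => J.mem' y (hP'T hy)
    obtain ⟨α, hα, f₀, hf₀, he⟩ := frattini_of_isInvariantIn h hgP (I.map' hm)
    obtain ⟨α', hα', hα'e⟩ := I.aut' hTS hT' hα
    have hf₀' := J.map hf₀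
    rw [J.symm.img_img hP'T] at hf₀'
    obtain ⟨φ₀, hφ₀, he₀⟩ := hf₀'.exists_hom
    refine ⟨α', hα', φ₀, hφ₀, fun x hx => ?_⟩
    have h1 := he _ (apply_mem_img g x.2)
    rw [J.right _ (hP'T x.2), toFun_coe] at h1
    rw [← autFun_coe α' ⟨φ₀ x, hx⟩]
    show φ x = autFun α' (φ₀ x)
    rw [hα'e _ hx, he₀ x, J.left _ (hf₀.apply_mem (apply_mem_img g x.2)), ← h1,
      I.right _ ((F'.le_of_mem hφ).2 x)]

theorem Iso.weaklyNormal (hS : IsPGroup p S) (h : E.IsWeaklyNormalIn F p) :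
    E'.IsWeaklyNormalIn F' p := by
  haveI := finite_of_le h.2.2.2.1.1
  exact ⟨J.saturated (hS.to_le h.2.2.2.1.1) h.1, I.saturated hS h.2.1, I.invariant J h.2.2⟩

theorem Iso.normal (hS : IsPGroup p S) (h : E.IsNormalIn F p) : E'.IsNormalIn F' p := by
  refine ⟨I.weaklyNormal J hS h.1, fun α' hα' => ?_⟩
  have hTS := h.1.2.2.2.1.1
  have hT' : img f T = T' := J.img_top
  have hT'S : T' ≤ S' := hT' ▸ I.img_le_S hTS
  obtain ⟨α, hα, hαe⟩ : ∃ α ∈ E.autGroup T, ∀ x ∈ T, autFun α x = g (autFun α' (f x)) := by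
    have := J.symm.aut le_rfl hα'
    rwa [J.symm.img_top] at this
  obtain ⟨β, hβ, hβ1, hβ2⟩ := h.2 α hα
  have hC : img f (centralizerIn S T) = centralizerIn S' T' := by
    refine le_antisymm (img_le fun c hc => ?_) fun y hy => ?_
    · obtain ⟨hcS, hcc⟩ := mem_centralizerIn.1 hc
      refine mem_centralizerIn.2 ⟨I.mem c hcS, fun z hz => ?_⟩
      obtain ⟨x, hx, rfl⟩ := (I.mem_img hTS).1 (hT'.symm ▸ hz)
      rw [← I.mul x (hTS hx) c hcS, ← I.mul c hcS x (hTS hx), hcc x hx]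
    · obtain ⟨hyS, hyc⟩ := mem_centralizerIn.1 hy
      rw [← I.right y hyS]
      refine apply_mem_img f (mem_centralizerIn.2 ⟨I.mem' y hyS, fun x hx => ?_⟩)
      have hfx : f x ∈ T' := hT' ▸ apply_mem_img f hx
      have := hyc _ hfx
      rw [← I.left x (hTS hx), ← I.mul' _ (I.mem x (hTS hx)) _ hyS,
        ← I.mul' _ hyS _ (I.mem x (hTS hx)), this]
  have hUS : T ⊔ centralizerIn S T ≤ S := sup_le hTS inf_le_left
  have hU : img f (T ⊔ centralizerIn S T) = T' ⊔ centralizerIn S' T' := by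
    refine le_antisymm (img_le fun x hx => ?_) (sup_le ?_ ?_)
    · suffices T ⊔ centralizerIn S T ≤ (img g (T' ⊔ centralizerIn S' T')) by
        obtain ⟨y, hy, rfl⟩ := (I.symm.mem_img (sup_le hT'S inf_le_left)).1 (this hx)
        rwa [I.right y (sup_le hT'S inf_le_left hy)]
      refine sup_le (fun x hx => ?_) fun x hx => ?_
      · rw [← I.left x (hTS hx)]
        exact apply_mem_img g (le_sup_left (α := Subgroup Ω') (hT' ▸ apply_mem_img f hx))
      · rw [← I.left x hx.1]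
        exact apply_mem_img g (le_sup_right (α := Subgroup Ω') (hC ▸ apply_mem_img f hx))
    · rw [← hT']; exact img_mono f le_sup_left
    · rw [← hC]; exact img_mono f le_sup_right
  obtain ⟨β', hβ', hβ'e⟩ := I.aut' hUS hU hβ
  refine ⟨β', hβ', fun x => ?_, fun c hc => ?_⟩
  · rw [← autFun_coe β', ← autFun_coe α']
    show autFun β' (x : Ω') = _
    rw [hβ'e _ (Subgroup.mem_sup_left x.2)]
    have hgx : g x ∈ T := J.mem' x x.2
    have h1 := hβ1 ⟨g x, hgx⟩
    rw [← autFun_coe β, ← autFun_coe α] at h1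
    rw [show autFun β (g x) = autFun α (g x) from h1, hαe _ hgx, J.right _ x.2,
      J.right _ (autFun_mem α' x.2)]
  · rw [← autFun_coe β', hβ'e _ c.2]
    have hcS : (c : Ω') ∈ S' := hc.1
    have hc' : (c : Ω') ∈ img f (centralizerIn S T) :=
      @Eq.mpr _ _ (congrArg (fun K : Subgroup Ω' => (c : Ω') ∈ K) hC) hc
    have hgc : g c ∈ centralizerIn S T := (I.g_mem inf_le_left hc').1
    have h1 := hβ2 ⟨g c, Subgroup.mem_sup_right hgc⟩ hgc
    rw [← autFun_coe β] at h1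
    obtain ⟨h2, h3⟩ := h1
    have hβS : autFun β (g c) ∈ S := hUS (autFun_mem β (Subgroup.mem_sup_right hgc))
    have e : (c : Ω')⁻¹ * f (autFun β (g c)) = f ((g c)⁻¹ * autFun β (g c)) := by
      rw [I.mul _ (S.inv_mem hgc.1) _ hβS, I.inv hgc.1, I.right _ hcS]
    rw [e]
    refine ⟨hT'.le (apply_mem_img f h2), Subgroup.mem_centralizer_iff.2 fun y hy => ?_⟩
    obtain ⟨x, hx, rfl⟩ := (I.mem_img hTS).1 (hT'.ge hy)
    rw [← I.mul x (hTS hx) _ (hTS h2), ← I.mul _ (hTS h2) x (hTS hx),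
      Subgroup.mem_centralizer_iff.1 h3 x hx]

end Cfsg.Agent.Fus.Transport
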