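import Mathlib
import Cfsg.Agent.Lib.Fus.IsoTransport
import Cfsg.Agent.Lib.Fus.ComponentFree
import Cfsg.Agent.Lib.Invol.PResidual

/-!
Conjugates and automorphic images of components are components.
-/

set_option autoImplicit false
set_option linter.style.haveILetI false
set_option linter.unusedSectionVars false

open scoped Classical

universe u v w

namespace Cfsg.Agent.Fus.Transport

open Subgroup FusionSystem

variable {Ω : Type u} [Group Ω] {Ω' : Type v} [Group Ω'] {S T : Subgroup Ω} {S' T' : Subgroup Ω'}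
  {F : FusionSystem S} {F' : FusionSystem S'} {E : FusionSystem T} {E' : FusionSystem T'}
  {f : Ω → Ω'} {g : Ω' → Ω} {p : ℕ}

theorem Iso.trans {Ω'' : Type w} [Group Ω''] {S'' : Subgroup Ω''} {F'' : FusionSystem S''}
    {f' : Ω' → Ω''} {g' : Ω'' → Ω'} (I : Iso F F' f g) (J : Iso F' F'' f' g') :
    Iso F F'' (fun x => f' (f x)) (fun z => g (g' z)) := by
  refine ⟨fun x hx => J.mem _ (I.mem x hx), fun z hz => I.mem' _ (J.mem' z hz),
    fun x hx => ?_, fun z hz => ?_, fun x hx y hy => ?_, fun {P h} hh => ?_, fun {Q h} hh => ?_⟩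
  · rw [J.left _ (I.mem x hx), I.left x hx]
  · rw [I.right _ (J.mem' z hz), J.right z hz]
  · rw [I.mul x hx y hy, J.mul _ (I.mem x hx) _ (I.mem y hy)]
  · have hP := hh.source_le
    have e : img (fun x => f' (f x)) P = img f' (img f P) := by
      refine le_antisymm (img_le fun x hx => apply_mem_img f' (apply_mem_img f hx))
        (img_le fun y hy => ?_)
      obtain ⟨x, hx, rfl⟩ := (I.mem_img hP).1 hy
      exact apply_mem_img (fun x => f' (f x)) hx
    rw [e]
    exact J.map (I.map hh)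
  · have hQ := hh.source_le
    have e : img (fun z => g (g' z)) Q = img g (img g' Q) := by
      refine le_antisymm (img_le fun x hx => apply_mem_img g (apply_mem_img g' hx))
        (img_le fun y hy => ?_)
      obtain ⟨x, hx, rfl⟩ := (J.symm.mem_img hQ).1 hy
      exact apply_mem_img (fun z => g (g' z)) hx
    rw [e]
    exact I.map' (J.map' hh)

theorem Iso.refl (F : FusionSystem S) : Iso F F id id := by
  have e : ∀ P : Subgroup Ω, img (id : Ω → Ω) P = P := fun P => by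
    show Subgroup.closure (id '' (P : Set Ω)) = P
    rw [Set.image_id, Subgroup.closure_eq]
  exact ⟨fun _ h => h, fun _ h => h, fun _ _ => rfl, fun _ _ => rfl, fun _ _ _ _ => rfl,
    fun {P h} hh => by rw [e]; exact hh, fun {P h} hh => by rw [e]; exact hh⟩

variable [Finite S] [Fact p.Prime]

/-- An automorphism of an invariant subsystem induced by the system. -/
theorem Iso.of_autGroup (hE : E.IsInvariantIn F) {α : MulAut T} (hα : α ∈ F.autGroup T) :
    Iso E E (autFun α) (autFun α⁻¹) := by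
  have key : ∀ {β : MulAut T}, β ∈ F.autGroup T → ∀ {P : Subgroup Ω} {h : Ω → Ω}, IsMap E P h →
      IsMap E (img (autFun β) P) (fun y => autFun β (h (autFun β⁻¹ y))) := by
    intro β hβ P h hh
    have hP := hh.source_le
    obtain ⟨k, hk, hke⟩ := invariant_isMap hE hh hβ
    refine hk.congr fun y hy => ?_
    obtain ⟨x, hx, rfl⟩ := (((mem_autGroup hE.2.1.1).1 hβ).res hP).mem_fimg_iff.1 hy
    rw [hke x hx, autFun_inv_apply β (hP hx)]
  refine ⟨fun x hx => autFun_mem α hx, fun x hx => autFun_mem α⁻¹ hx,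
    fun x hx => autFun_inv_apply α hx, fun x hx => ?_, fun x hx y hy => ?_,
    fun hh => key hα hh, fun hh => ?_⟩
  · rw [← autFun_mul _ _ hx, mul_inv_cancel, autFun_one hx]
  · exact ((mem_autGroup hE.2.1.1).1 hα).map_mul hx hy
  · have := key (Subgroup.inv_mem _ hα) hh
    rwa [inv_inv] at this

/-- The image of a system under a multiplicative injection of its support. -/
theorem exists_image {h : Ω → Ω'} [Finite T] (E : FusionSystem T)
    (hmul : ∀ x ∈ T, ∀ y ∈ T, h (x * y) = h x * h y) (hinj : ∀ x ∈ T, h x = 1 → x = 1) :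
    ∃ (g : Ω' → Ω) (E' : FusionSystem (img h T)), Iso E E' h g := by
  let θ : T →* Ω' := MonoidHom.mk' (fun x => h x) fun x y => hmul x x.2 y y.2
  have hker : ∀ s : T, θ s = 1 ↔ (s : Ω) ∈ (⊥ : Subgroup Ω) := fun s => by
    rw [Subgroup.mem_bot]
    refine ⟨hinj s s.2, fun e => ?_⟩
    rw [show s = 1 from Subtype.ext e, map_one]
  have hrange : θ.range = img h T := by
    refine le_antisymm ?_ (img_le fun x hx => ⟨⟨x, hx⟩, rfl⟩)
    rintro _ ⟨x, rfl⟩
    exact apply_mem_img h x.2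
  obtain ⟨E', hE'⟩ : ∃ E' : FusionSystem (img h T), E.IsFactorSystem ⊥ θ E' := by
    rw [← hrange]
    exact ⟨_, isFactorSystem_factorSystemAlong E (stronglyClosed_bot E) θ hker⟩
  obtain ⟨g, J⟩ := Iso.of_factor hE'
  exact ⟨g, E', J.congr (fun x hx => hf_eq hx) fun y _ => rfl⟩

/-- Two images of the same system along the same function coincide. -/
theorem Iso.transfer {S'' : Subgroup Ω'} {F'' : FusionSystem S''} {f' : Ω → Ω'} {g' : Ω' → Ω}
    (I : Iso F F' f g) (J : Iso F F'' f' g') (hfg : ∀ x ∈ S, f x = f' x)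
    {motive : ∀ U : Subgroup Ω', FusionSystem U → Prop} (h : motive S' F') : motive S'' F'' := by
  obtain rfl : S' = S'' := by rw [← I.img_top, ← J.img_top, img_congr hfg]
  have hg : ∀ y ∈ S', g y = g' y := fun y hy => by
    conv_rhs => rw [← I.right y hy, hfg _ (I.mem' y hy)]
    exact (J.left _ (I.mem' y hy)).symm
  rwa [← (I.congr hfg hg).unique J]

theorem subnormal_finite {C : FusionSystem T} (h : C.IsSubnormalIn F p) : Finite T :=
  finite_of_le (CompFree.subnormal_le h)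

/-- Subnormality is carried along isomorphisms. -/
theorem Iso.subnormal (hE : E.IsSubnormalIn F p) : ∀ (_ : IsPGroup p S)
    {S' T' : Subgroup Ω'} {F' : FusionSystem S'} {E' : FusionSystem T'} {f : Ω → Ω'} {g : Ω' → Ω},
    Iso F F' f g → Iso E E' f g → E'.IsSubnormalIn F' p := by
  revert ‹Finite S› ‹Fact p.Prime›
  induction hE with
  | refl F p =>
    intro _ _ _ S' T' F' E' f g I J
    exact I.transfer J (fun _ _ => rfl) (motive := fun _ X => X.IsSubnormalIn F' p)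
      (IsSubnormalIn.refl F' p)
  | step _ hDF ih =>
    intro _ _ hS S' T' F' E' f g I J
    rename_i T U S E D F p _ _ _
    have hUS : U ≤ S := hDF.1.2.2.2.1.1
    haveI := finite_of_le hUS
    obtain ⟨D', K⟩ := I.exists_push hUS D
    exact IsSubnormalIn.step (ih (hS.to_le hUS) K J) (I.normal K hS hDF)

theorem Iso.pow_aut (I : Iso F F' f g) {P : Subgroup Ω} (hP : P ≤ S) {α : MulAut P}
    {β : MulAut (img f P)} (h : ∀ y ∈ img f P, autFun β y = f (autFun α (g y))) :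
    ∀ (n : ℕ), ∀ y ∈ img f P, autFun (β ^ n) y = f (autFun (α ^ n) (g y)) := by
  intro n
  induction n with
  | zero =>
    intro y hy
    obtain ⟨h1, h2⟩ := I.g_mem hP hy
    rw [pow_zero, pow_zero, autFun_one hy, autFun_one h1, I.right y h2]
  | succ n ih =>
    intro y hy
    obtain ⟨h1, h2⟩ := I.g_mem hP hy
    rw [pow_succ', pow_succ', autFun_mul _ _ hy, autFun_mul _ _ h1, h _ (autFun_mem _ hy), ih y hy,
      I.left _ (hP (autFun_mem _ h1))]

theorem Iso.hyperfocal_le (I : Iso F F' f g) :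
    img f (F.hyperfocalSubgroup p) ≤ F'.hyperfocalSubgroup p := by
  have hle : F.hyperfocalSubgroup p ≤ img g (F'.hyperfocalSubgroup p) := by
    refine hyperfocal_le_of_coprime fun P hP α hα x hx => ?_
    obtain ⟨β, hβ, hβe⟩ := I.aut hP α.2
    have hpow := I.pow_aut hP hβe
    have h1 : orderOf (⟨β, hβ⟩ : F'.autGroup (img f P)) ∣ orderOf α := by
      refine orderOf_dvd_of_pow_eq_one (Subtype.ext (mulAut_ext fun y hy => ?_))
      obtain ⟨hy1, hy2⟩ := I.g_mem hP hy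
      rw [Subgroup.coe_pow, Subgroup.coe_one, hpow _ y hy, ← Subgroup.coe_pow, pow_orderOf_eq_one,
        Subgroup.coe_one, autFun_one hy1, autFun_one hy, I.right y hy2]
    have h2 := hyperfocal_mem (I.img_le_S hP) (F := F') (α := ⟨β, hβ⟩)
      (Invol.mem_pResidual (hα.coprime_dvd_left h1)) (apply_mem_img f hx)
    have h3 : (f x)⁻¹ * autFun β (f x) = f (x⁻¹ * autFun (α : MulAut P) x) := by
      rw [hβe _ (apply_mem_img f hx), I.left x (hP hx),
        I.mul _ (S.inv_mem (hP hx)) _ (hP (autFun_mem _ hx)), I.inv (hP hx)]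
    rw [show ((⟨β, hβ⟩ : F'.autGroup (img f P)) : MulAut (img f P)) = β from rfl, h3] at h2
    rw [← I.left _ (S.mul_mem (S.inv_mem (hP hx)) (hP (autFun_mem _ hx)))]
    exact apply_mem_img g h2
  refine img_le fun x hx => ?_
  obtain ⟨y, hy, rfl⟩ := (I.symm.mem_img (Fus.hyperfocal_le F' p)).1 (hle hx)
  rwa [I.right y (Fus.hyperfocal_le F' p hy)]

theorem Iso.center_le (I : Iso F F' f g) : img f F.center ≤ F'.center := by
  refine le_center (isCentral_iff.2 ⟨I.img_le_S (isCentral_center F).1, fun P h hh => ?_⟩)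
  obtain ⟨k, hk, hk1, hk2⟩ := (isCentral_iff.1 (isCentral_center F)).2 _ _ (I.map' hh)
  have hP := hh.source_le
  have hle : P ⊔ img f F.center ≤ img f (img g P ⊔ F.center) := by
    refine sup_le (fun y hy => ?_) (img_mono f le_sup_right)
    rw [← I.right y (hP hy)]
    exact apply_mem_img f (Subgroup.mem_sup_left (apply_mem_img g hy))
  refine ⟨fun y => f (k (g y)), (I.map hk).res hle, fun y hy => ?_, fun z hz => ?_⟩
  · show f (k (g y)) = h y
    rw [hk1 _ (apply_mem_img g hy), I.right y (hP hy), I.right _ (hh.apply_mem hy)]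
  · obtain ⟨hz1, hz2⟩ := I.g_mem (isCentral_center F).1 hz
    show f (k (g z)) = z
    rw [hk2 _ hz1, I.right z hz2]

theorem Iso.center_eq (I : Iso F F' f g) : img f F.center = F'.center := by
  haveI := I.finite
  refine le_antisymm I.center_le fun y hy => ?_
  have hyS := (isCentral_center F').1 hy
  rw [← I.right y hyS]
  exact apply_mem_img f (I.symm.center_le (apply_mem_img g hy))

theorem Iso.simple (I : Iso F F' f g) (hS : IsPGroup p S) (hF : F.IsSimple p) :
    F'.IsSimple p := by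
  haveI := I.finite
  refine ⟨I.saturated hS hF.1, fun h => hF.2.1 ?_, fun T' D' hD' => ?_⟩
  · rw [eq_bot_iff]
    intro x hx
    have : f x = 1 := Subgroup.mem_bot.1 (h ▸ I.mem x hx)
    rw [Subgroup.mem_bot, ← I.left x hx, this, I.symm.one]
  · have hT'S : T' ≤ S' := hD'.1.2.2.2.1.1
    obtain ⟨D, K⟩ := I.symm.exists_push hT'S D'
    rcases hF.2.2 _ D (I.symm.normal K (I.pgroup hS) hD') with h | ⟨h, hHom⟩
    · left
      rw [eq_bot_iff]
      intro y hy
      have : g y = 1 := Subgroup.mem_bot.1 (h ▸ apply_mem_img g hy)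
      rw [Subgroup.mem_bot, ← I.right y (hT'S hy), this, I.one]
    · right
      revert D
      rw [h]
      intro D K hHom
      obtain rfl : D = F := eq_of_hom_eq hHom
      exact I.transfer K.symm (fun _ _ => rfl)
        (motive := fun U X => U = S' ∧ ∀ P, X.Hom P = F'.Hom P) ⟨rfl, fun _ => rfl⟩

/-- An isomorphism descends to factor systems: the maps. -/
theorem Iso.factor_map (I : Iso F F' f g) {Z : Subgroup Ω} {Z' : Subgroup Ω'} (hZ : img f Z = Z')
    (hcl' : F'.StronglyClosed Z') {Ω₁ : Type*} [Group Ω₁] {S₁ : Subgroup Ω₁}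
    {E₁ : FusionSystem S₁} {θ₁ : S →* Ω₁} (h₁ : F.IsFactorSystem Z θ₁ E₁) {Ω₂ : Type*} [Group Ω₂]
    {S₂ : Subgroup Ω₂} {E₂ : FusionSystem S₂} {θ₂ : S' →* Ω₂} (h₂ : F'.IsFactorSystem Z' θ₂ E₂)
    {a : Ω₁ → Ω₂} {b : Ω₂ → Ω₁} (ha : ∀ x ∈ S, a (hf θ₁ x) = hf θ₂ (f x))
    (hb : ∀ x ∈ S', b (hf θ₂ x) = hf θ₁ (g x)) {P : Subgroup Ω₁} {h : Ω₁ → Ω₁}
    (hh : IsMap E₁ P h) : IsMap E₂ (img a P) (fun z => a (h (b z))) := by
  haveI := I.finite
  have hP := hh.source_le
  obtain ⟨k, hk, hke⟩ := exists_lift h₁ hh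
  set Q := img f (preimageAlong θ₁ P) with hQdef
  have hQS : Q ≤ S' := I.img_le_S (preimageAlong_le P)
  have himg : img a P ≤ imageAlong θ₂ Q := by
    refine img_le fun y hy => ?_
    obtain ⟨x, rfl⟩ := h₁.2.2.1.ge (hP hy)
    rw [← hf_eq x.2, ha _ x.2, hf_eq (I.mem _ x.2)]
    exact ⟨⟨_, I.mem _ x.2⟩, apply_mem_img f (mem_preimageAlong.2 ⟨x.2, hy⟩), rfl⟩
  have hpre : preimageAlong θ₂ (img a P) ≤ Q := by
    intro y hy
    obtain ⟨hyS, hy'⟩ := mem_preimageAlong.1 hy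
    obtain ⟨w, hw, e⟩ := himg hy'
    have hd := (factor_map_eq_iff h₂).1 e
    rw [show y = (w : Ω') * ((w : Ω')⁻¹ * y) by group]
    refine Q.mul_mem hw ?_
    rw [← hZ] at hd
    exact img_mono f (factor_le_preimage h₁ P) hd
  have hle : img a P ≤ S₂ := himg.trans (by
    rintro _ ⟨w, -, rfl⟩; exact h₂.2.2.1.le ⟨w, rfl⟩)
  obtain ⟨h', hh', he'⟩ := exists_induced h₂ hcl' hle ((I.map hk).res hpre)
  refine hh'.congr fun z hz => ?_
  obtain ⟨w, rfl⟩ := h₂.2.2.1.ge (hle hz)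
  have hwp : (w : Ω') ∈ preimageAlong θ₂ (img a P) := mem_preimageAlong.2 ⟨w.2, hz⟩
  have hgw : g w ∈ preimageAlong θ₁ P := (I.g_mem (preimageAlong_le P) (hpre hwp)).1
  have hgS := I.mem' _ w.2
  show h' (θ₂ w) = a (h (b (θ₂ w)))
  rw [← hf_eq w.2, hb _ w.2]
  have e3 := hke _ hgw (hk.apply_mem hgw)
  rw [← hf_eq (hk.apply_mem hgw), ← hf_eq hgS] at e3
  rw [← e3, ha _ (hk.apply_mem hgw), hf_eq w.2, hf_eq (I.mem _ (hk.apply_mem hgw))]
  exact he' w hwp

/-- Factor systems of isomorphic systems over corresponding subgroups are isomorphic. -/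
theorem Iso.factors (I : Iso F F' f g) {Z : Subgroup Ω} {Z' : Subgroup Ω'} (hZ : img f Z = Z')
    (hcl : F.StronglyClosed Z) {Ω₁ : Type w} [Group Ω₁] {S₁ : Subgroup Ω₁} {E₁ : FusionSystem S₁}
    {θ₁ : S →* Ω₁} (h₁ : F.IsFactorSystem Z θ₁ E₁) {Ω₂ : Type*} [Group Ω₂] {S₂ : Subgroup Ω₂}
    {E₂ : FusionSystem S₂} {θ₂ : S' →* Ω₂} (h₂ : F'.IsFactorSystem Z' θ₂ E₂) :
    ∃ (a : Ω₁ → Ω₂) (b : Ω₂ → Ω₁), Iso E₁ E₂ a b := by
  haveI := I.finite
  have hcl' : F'.StronglyClosed Z' := hZ ▸ I.stronglyClosed hcl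
  have hex₁ : ∀ y : Ω₁, ∃ x : Ω, y ∈ S₁ → ∃ hx : x ∈ S, θ₁ ⟨x, hx⟩ = y := by
    intro y
    by_cases hy : y ∈ S₁
    · obtain ⟨x, rfl⟩ := h₁.2.2.1.ge hy
      exact ⟨x, fun _ => ⟨x.2, rfl⟩⟩
    · exact ⟨1, fun h => absurd h hy⟩
  have hex₂ : ∀ y : Ω₂, ∃ x : Ω', y ∈ S₂ → ∃ hx : x ∈ S', θ₂ ⟨x, hx⟩ = y := by
    intro y
    by_cases hy : y ∈ S₂
    · obtain ⟨x, rfl⟩ := h₂.2.2.1.ge hy
      exact ⟨x, fun _ => ⟨x.2, rfl⟩⟩
    · exact ⟨1, fun h => absurd h hy⟩
  choose σ₁ hσ₁ using hex₁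
  choose σ₂ hσ₂ using hex₂
  have hZS : Z ≤ S := hcl.1
  -- congruence modulo the kernels
  have c12 : ∀ x ∈ S, ∀ y ∈ S, hf θ₁ x = hf θ₁ y → hf θ₂ (f x) = hf θ₂ (f y) := by
    intro x hx y hy h
    rw [hf_eq hx, hf_eq hy, factor_map_eq_iff h₁] at h
    rw [hf_eq (I.mem x hx), hf_eq (I.mem y hy), factor_map_eq_iff h₂]
    show (f x)⁻¹ * f y ∈ Z'
    rw [← I.inv hx, ← I.mul _ (S.inv_mem hx) _ hy, ← hZ]
    exact apply_mem_img f h
  have c21 : ∀ x ∈ S', ∀ y ∈ S', hf θ₂ x = hf θ₂ y → hf θ₁ (g x) = hf θ₁ (g y) := by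
    intro x hx y hy h
    rw [hf_eq hx, hf_eq hy, factor_map_eq_iff h₂] at h
    rw [hf_eq (I.mem' x hx), hf_eq (I.mem' y hy), factor_map_eq_iff h₁]
    show (g x)⁻¹ * g y ∈ Z
    rw [← I.symm.inv hx, ← I.mul' _ (S'.inv_mem hx) _ hy]
    exact (I.g_mem hZS (hZ.symm ▸ h)).1
  have hs₁ : ∀ y ∈ S₁, σ₁ y ∈ S ∧ hf θ₁ (σ₁ y) = y := fun y hy => by
    obtain ⟨h, e⟩ := hσ₁ y hy
    exact ⟨h, by rw [hf_eq h, e]⟩
  have hs₂ : ∀ y ∈ S₂, σ₂ y ∈ S' ∧ hf θ₂ (σ₂ y) = y := fun y hy => by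
    obtain ⟨h, e⟩ := hσ₂ y hy
    exact ⟨h, by rw [hf_eq h, e]⟩
  have hm₁ : ∀ x ∈ S, hf θ₁ x ∈ S₁ := fun x hx => by rw [hf_eq hx]; exact h₁.2.2.1.le ⟨_, rfl⟩
  have hm₂ : ∀ x ∈ S', hf θ₂ x ∈ S₂ := fun x hx => by rw [hf_eq hx]; exact h₂.2.2.1.le ⟨_, rfl⟩
  let a : Ω₁ → Ω₂ := fun y => hf θ₂ (f (σ₁ y))
  let b : Ω₂ → Ω₁ := fun y => hf θ₁ (g (σ₂ y))
  have ha : ∀ x ∈ S, a (hf θ₁ x) = hf θ₂ (f x) := fun x hx =>
    c12 _ (hs₁ _ (hm₁ x hx)).1 x hx (hs₁ _ (hm₁ x hx)).2
  have hb : ∀ x ∈ S', b (hf θ₂ x) = hf θ₁ (g x) := fun x hx =>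
    c21 _ (hs₂ _ (hm₂ x hx)).1 x hx (hs₂ _ (hm₂ x hx)).2
  refine ⟨a, b, fun y hy => hm₂ _ (I.mem _ (hs₁ y hy).1),
    fun y hy => hm₁ _ (I.mem' _ (hs₂ y hy).1), fun y hy => ?_, fun y hy => ?_,
    fun x hx y hy => ?_, fun {P h} hh => ?_, fun {Q h} hh => ?_⟩
  · obtain ⟨h, e⟩ := hs₁ y hy
    show b (hf θ₂ (f (σ₁ y))) = y
    rw [hb _ (I.mem _ h), I.left _ h, e]
  · obtain ⟨h, e⟩ := hs₂ y hy
    show a (hf θ₁ (g (σ₂ y))) = y
    rw [ha _ (I.mem' _ h), I.right _ h, e]
  · obtain ⟨hx', ex⟩ := hs₁ x hx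
    obtain ⟨hy', ey⟩ := hs₁ y hy
    have e : x * y = hf θ₁ (σ₁ x * σ₁ y) := by
      rw [hf_eq (S.mul_mem hx' hy')]
      conv_lhs => rw [← ex, ← ey, hf_eq hx', hf_eq hy', ← map_mul]
      rfl
    conv_lhs => rw [e, ha _ (S.mul_mem hx' hy'), I.mul _ hx' _ hy']
    rw [hf_eq (S'.mul_mem (I.mem _ hx') (I.mem _ hy'))]
    show _ = hf θ₂ (f (σ₁ x)) * hf θ₂ (f (σ₁ y))
    rw [hf_eq (I.mem _ hx'), hf_eq (I.mem _ hy'), ← map_mul]
    rfl
  · exact I.factor_map hZ hcl' h₁ h₂ ha hb hh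
  · exact I.symm.factor_map (by rw [← hZ, I.img_img hZS]) hcl h₂ h₁ hb ha hh

/-- Quasisimplicity is carried along isomorphisms. -/
theorem Iso.quasisimple (I : Iso F F' f g) (hS : IsPGroup p S) (hq : F.Quasisimple p) :
    F'.Quasisimple p := by
  haveI := I.finite
  refine ⟨I.saturated hS hq.1, le_antisymm (Fus.hyperfocal_le F' p) ?_, fun E' hE' => ?_⟩
  · exact I.img_top.ge.trans ((img_mono f hq.2.1.ge).trans I.hyperfocal_le)
  · obtain ⟨E, hE⟩ := CompFree.exists_factor F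
    obtain ⟨a, b, J⟩ := I.factors I.center_eq (stronglyClosed_center F) hE hE'
    exact J.simple ((hS.to_quotient _).of_equiv Subgroup.topEquiv.symm) (hq.2.2 E hE)

/-- Components are carried to components. -/
theorem Iso.component (I : Iso F F' f g) (J : Iso E E' f g) (hS : IsPGroup p S)
    (hE : E.IsComponentIn F p) : E'.IsComponentIn F' p := by
  haveI := subnormal_finite hE.1
  exact ⟨Iso.subnormal hE.1 hS I J,
    J.quasisimple (hS.to_le (CompFree.subnormal_le hE.1)) hE.2⟩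

/-- The image of a subnormal subsystem under a map of the system is subnormal. -/
theorem subnormal_image {C : FusionSystem T} (hC : C.IsSubnormalIn F p) : IsPGroup p S →
    F.IsSaturated p → ∀ {h g : Ω → Ω}, IsMap F T h → ∀ {T' : Subgroup Ω} {E : FusionSystem T'},
    Iso C E h g → E.IsSubnormalIn F p := by
  revert ‹Finite S› ‹Fact p.Prime›
  induction hC with
  | refl F p =>
    intro _ _ hS hF h g hh T' E J
    have hfi : fimg h T = T :=
      Subgroup.eq_of_le_of_card_ge hh.fimg_le_S (by rw [hh.card_fimg])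
    obtain ⟨α, hα, hαe⟩ := hh.exists_aut hfi
    have hinv : F.IsInvariantIn F := by
      refine ⟨fun P φ hφ => hφ, ⟨le_rfl, fun R _ φ hφ x => (F.le_of_mem hφ).2 x⟩,
        fun P hPT φ hφ α hα => ?_, fun P hP φ hφ => ?_⟩
      · have hαm : IsMap F T (autFun α) := (mem_autGroup le_rfl).1 hα
        obtain ⟨g', hg', hg1, hg2, -⟩ := (hαm.res hPT).exists_inv
        have hk := (hg'.comp (isMap_toFun hφ) fun x hx => (hg2 x hx).1).comp hαm
          fun x hx => (isMap_toFun hφ).apply_mem (hg2 x hx).1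
        have heq : (P.subgroupOf T).map (T.subtype.comp α.toMonoidHom) = fimg (autFun α) P := by
          ext y
          rw [(hαm.res hPT).mem_fimg_iff, Subgroup.mem_map]
          constructor
          · rintro ⟨t, ht, rfl⟩
            exact ⟨t, ht, autFun_coe α t⟩
          · rintro ⟨x, hx, rfl⟩
            exact ⟨⟨x, hPT hx⟩, hx, (autFun_coe α ⟨x, hPT hx⟩).symm⟩
        rw [← heq] at hk
        obtain ⟨χ, hχ, hχe⟩ := hk.exists_hom
        refine ⟨χ, hχ, fun x hφx hαx => ?_⟩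
        rw [hχe]
        show autFun α (toFun φ (g' ((α ⟨x, hPT x.2⟩ : T) : Ω))) = _
        rw [← autFun_coe α ⟨x, hPT x.2⟩, hg1 _ x.2, toFun_coe]
        exact autFun_coe α ⟨φ x, hφx⟩
      · exact ⟨1, one_mem _, φ, hφ, fun x hx => rfl⟩
    exact (Iso.of_autGroup hinv hα).transfer J hαe
      (motive := fun _ X => X.IsSubnormalIn F p) (IsSubnormalIn.refl F p)
  | step hsub hDF ih =>
    intro _ _ hS hF h g hh T' E J
    rename_i U S C D F p _ _
    have hinv := hDF.1.2.2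
    have hUS : U ≤ S := hinv.2.1.1
    haveI := finite_of_le hUS
    have hTU : T ≤ U := CompFree.subnormal_le hsub
    haveI := finite_of_le (hTU.trans hUS)
    obtain ⟨α, hα, f₀, hf₀, he⟩ := frattini_of_isInvariantIn hinv hTU hh
    obtain ⟨g₁, C₁, K⟩ := exists_image (h := f₀) C (fun x hx y hy => hf₀.map_mul hx hy)
      fun x hx e => hf₀.injOn hx (one_mem T) (e.trans hf₀.map_one.symm)
    have h1 : C₁.IsSubnormalIn D p := ih (hS.to_le hUS) hDF.1.1 hf₀ K
    have hC1U : img f₀ T ≤ U := CompFree.subnormal_le h1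
    have A := Iso.of_autGroup hinv hα
    obtain ⟨C₂, L⟩ := A.exists_push hC1U C₁
    have h2 := Iso.subnormal h1 (hS.to_le hUS) A L
    exact (K.trans L).transfer J (fun x hx => (he x hx).symm)
      (motive := fun _ X => X.IsSubnormalIn F p) (IsSubnormalIn.step h2 hDF)

/-- A conjugate of a component is a component. -/
theorem component_image {C : FusionSystem T} (hS : IsPGroup p S) (hF : F.IsSaturated p)
    (hC : C.IsComponentIn F p) {h g : Ω → Ω} (hh : IsMap F T h) {T' : Subgroup Ω}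
    {E : FusionSystem T'} (J : Iso C E h g) : E.IsComponentIn F p := by
  haveI := subnormal_finite hC.1
  exact ⟨subnormal_image hC.1 hS hF hh J,
    J.quasisimple (hS.to_le (CompFree.subnormal_le hC.1)) hC.2⟩

/-- A morphism of a system to itself with an inverse morphism is an isomorphism. -/
theorem Iso.of_morphism (α : ↥S ≃* ↥S) (hα : F.IsMorphism F (S.subtype.comp α.toMonoidHom))
    (hα' : F.IsMorphism F (S.subtype.comp α.symm.toMonoidHom)) :
    Iso F F (hf (S.subtype.comp α.toMonoidHom)) (hf (S.subtype.comp α.symm.toMonoidHom)) := by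
  have e : ∀ (β : ↥S ≃* ↥S) {x : Ω} (hx : x ∈ S),
      hf (S.subtype.comp β.toMonoidHom) x = β ⟨x, hx⟩ := fun β x hx => hf_eq hx
  have key : ∀ β : ↥S ≃* ↥S, F.IsMorphism F (S.subtype.comp β.toMonoidHom) →
      ∀ {P : Subgroup Ω} {h : Ω → Ω}, IsMap F P h → IsMap F (img (hf (S.subtype.comp β.toMonoidHom)) P)
        (fun y => hf (S.subtype.comp β.toMonoidHom) (h (hf (S.subtype.comp β.symm.toMonoidHom) y))) := by
    intro β hβ P h hh
    obtain ⟨φ, hφ, he⟩ := hh.exists_hom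
    obtain ⟨φ', hφ', hP, hv, hP', hind⟩ := hβ.2 P φ hφ
    have hle : img (hf (S.subtype.comp β.toMonoidHom)) P ≤
        imageAlong (S.subtype.comp β.toMonoidHom) P := img_le fun x hx => by
      rw [hf_eq (hP hx)]; exact ⟨⟨x, hP hx⟩, hx, rfl⟩
    refine ((isMap_toFun hφ').res hle).congr fun y hy => ?_
    obtain ⟨x, hx, rfl⟩ := hle hy
    have hsymm : hf (S.subtype.comp β.symm.toMonoidHom) ((β x : S) : Ω) = (x : Ω) := by
      rw [e β.symm (β x).2]
      exact congrArg Subtype.val (β.symm_apply_apply x)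
    show toFun φ' ((β x : S) : Ω) =
      hf (S.subtype.comp β.toMonoidHom) (h (hf (S.subtype.comp β.symm.toMonoidHom) ((β x : S) : Ω)))
    have hm : ((β x : S) : Ω) ∈ imageAlong (S.subtype.comp β.toMonoidHom) P := hP' ⟨x, hx⟩
    rw [hsymm, toFun_apply φ' hm, hf_eq (hh.apply_mem (show (x : Ω) ∈ P from hx))]
    refine (hind ⟨x, hx⟩).trans (congrArg _ (Subtype.ext ?_))
    exact he ⟨x, hx⟩
  refine ⟨fun x hx => ?_, fun x hx => ?_, fun x hx => ?_, fun x hx => ?_, fun x hx y hy => ?_,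
    fun hh => key α hα hh, fun {Q h} hh => ?_⟩
  · rw [e α hx]; exact SetLike.coe_mem _
  · rw [e α.symm hx]; exact SetLike.coe_mem _
  · rw [e α hx, e α.symm (α _).2]; exact congrArg Subtype.val (α.symm_apply_apply _)
  · rw [e α.symm hx, e α (α.symm _).2]; exact congrArg Subtype.val (α.apply_symm_apply _)
  · rw [e α hx, e α hy, e α (S.mul_mem hx hy)]
    exact congrArg Subtype.val (map_mul α ⟨x, hx⟩ ⟨y, hy⟩)
  · exact key α.symm hα' hh

/-- An automorphism of a system preserves its layer. -/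
theorem Iso.layer {f' g' : Ω → Ω} (I : Iso F F f' g') (hS : IsPGroup p S) (hE : E.IsLayerOf F p) :
    img f' T = T ∧ ∀ (P : Subgroup Ω) (h : Ω → Ω), IsMap E P h →
      IsMap E (img f' P) (fun y => f' (h (g' y))) := by
  have hTS : T ≤ S := hE.1.1.2.2.2.1.1
  haveI := finite_of_le hTS
  obtain ⟨E₁, J⟩ := I.symm.exists_push hTS E
  have hsub : E.IsSubsystemOf E₁ := by
    refine hE.2.2 _ E₁ (I.symm.normal J hS hE.1) fun U C hC => ?_
    haveI := subnormal_finite hC.1
    obtain ⟨C₀, K⟩ := I.exists_push (CompFree.subnormal_le hC.1) C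
    have h0 := hE.2.1 _ C₀ (I.component K hS hC)
    exact J.subsystem K.symm h0
  have hle : T ≤ img g' T := by
    intro x hx
    exact (isMap_id E le_rfl).mono hsub |>.source_le hx
  have hT : img f' T = T := by
    have h1 : img f' T ≤ T := img_le fun x hx => (I.symm.g_mem hTS (hle hx)).1
    haveI := finite_of_le (I.img_le_S hTS)
    refine Subgroup.eq_of_le_of_card_ge h1 ?_
    refine Nat.card_le_card_of_injective (fun x : T => (⟨f' x, apply_mem_img f' x.2⟩ : img f' T))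
      fun x y e => Subtype.ext ?_
    have := congrArg (fun z : img f' T => g' (z : Ω)) e
    simpa [I.left _ (hTS x.2), I.left _ (hTS y.2)] using this
  exact ⟨hT, fun P h hh => J.map' (hh.mono hsub)⟩

end Cfsg.Agent.Fus.Transport
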