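import Cfsg.Agent.Lib.Fus.FactorSat
import Cfsg.Agent.S5089
import Cfsg.Agent.S5132

/-!
Solvable saturated systems: chains of strongly closed subgroups with abelian factors.
-/

set_option autoImplicit false
set_option linter.style.haveILetI false
set_option linter.unusedSectionVars false

open scoped Classical commutatorElement

namespace Cfsg.Agent.Fus

open Subgroup FusionSystem

universe u v

variable {Ω : Type u} [Group Ω] {S : Subgroup Ω} {F : FusionSystem S} {p : ℕ}

/-- The intersection of two strongly closed subgroups is strongly closed. -/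
theorem stronglyClosed_inf {A B : Subgroup Ω} (hA : F.StronglyClosed A) (hB : F.StronglyClosed B) :
    F.StronglyClosed (A ⊓ B) :=
  ⟨inf_le_left.trans hA.1, fun R hR φ hφ x =>
    ⟨hA.2 R (hR.trans inf_le_left) φ hφ x, hB.2 R (hR.trans inf_le_right) φ hφ x⟩⟩

theorem mem_sup_dest {A B : Subgroup Ω} (h : A ≤ Subgroup.normalizer (B : Set Ω)) {x : Ω}
    (hx : x ∈ A ⊔ B) : ∃ a ∈ A, ∃ b ∈ B, a * b = x := by
  rwa [← SetLike.mem_coe, Subgroup.coe_mul_of_left_le_normalizer_right A B h] at hx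

variable [Finite S] [Fact p.Prime]

/-- The centralizer in `S` of a normal subgroup is strongly closed. -/
theorem stronglyClosed_centralizerIn {Q : Subgroup Ω} (hQ : F.IsNormal Q) :
    F.StronglyClosed (centralizerIn S Q) := by
  refine ⟨inf_le_left, fun R hR φ hφ x => ?_⟩
  obtain ⟨g, hg, hg1, hgQ⟩ := (isNormal_iff.1 hQ).2 R _ (isMap_toFun hφ)
  have h := hg.map_centralizerIn le_sup_right (Subgroup.mem_sup_left x.2) (hR x.2).2
  rwa [hgQ, hg1 x x.2, toFun_apply φ x.2] at h

/-- The product of two strongly closed subgroups is strongly closed. -/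
theorem stronglyClosed_sup (hS : IsPGroup p S) (hF : F.IsSaturated p) {A B : Subgroup Ω}
    (hA : F.StronglyClosed A) (hB : F.StronglyClosed B) : F.StronglyClosed (A ⊔ B) := by
  refine ⟨sup_le hA.1 hB.1, fun R hR φ hφ x => ?_⟩
  obtain ⟨g, hg, hgA, hgR⟩ := extMod_of_isMap hS hF hA (isMap_toFun hφ)
  obtain ⟨b, hb, a, ha, hx⟩ := mem_sup_dest (hB.1.trans (le_normalizer_of_stronglyClosed hA))
    (sup_comm A B ▸ hR x.2 : (x : Ω) ∈ B ⊔ A)
  obtain ⟨t, ht, e⟩ := eq_mul_mem (hgR x x.2)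
  rw [toFun_apply φ x.2] at e
  have hbK : b ∈ R ⊔ A := by
    rw [show b = (x : Ω) * a⁻¹ by rw [← hx, mul_inv_cancel_right]]
    exact mul_mem (Subgroup.mem_sup_left x.2) (Subgroup.mem_sup_right (inv_mem ha))
  show φ x ∈ A ⊔ B
  rw [show φ x = g x * t from e, ← hx, hg.map_mul hbK (Subgroup.mem_sup_right ha)]
  refine mul_mem (mul_mem (Subgroup.mem_sup_right ?_) (Subgroup.mem_sup_left
    (hgA.le (apply_mem_fimg g ha)))) (Subgroup.mem_sup_left ht)
  exact StronglyClosed.apply_mem hB (hg.res (Subgroup.zpowers_le.2 hbK))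
    (Subgroup.zpowers_le.2 hb) (Subgroup.mem_zpowers b)

/-- `T C_S(T)` is strongly closed for strongly closed `T`. -/
theorem stronglyClosed_sup_centralizer (hS : IsPGroup p S) (hF : F.IsSaturated p) {T : Subgroup Ω}
    (hT : F.StronglyClosed T) : F.StronglyClosed (T ⊔ centralizerIn S T) := by
  refine ⟨sup_le hT.1 inf_le_left, fun R hR φ hφ x => ?_⟩
  obtain ⟨g, hg, hgT, hgR⟩ := extMod_of_isMap hS hF hT (isMap_toFun hφ)
  obtain ⟨c, hc, a, ha, hx⟩ := mem_sup_dest
    ((inf_le_left : centralizerIn S T ≤ S).trans (le_normalizer_of_stronglyClosed hT))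
    (sup_comm T (centralizerIn S T) ▸ hR x.2 : (x : Ω) ∈ centralizerIn S T ⊔ T)
  obtain ⟨t, ht, e⟩ := eq_mul_mem (hgR x x.2)
  rw [toFun_apply φ x.2] at e
  have hcK : c ∈ R ⊔ T := by
    rw [show c = (x : Ω) * a⁻¹ by rw [← hx, mul_inv_cancel_right]]
    exact mul_mem (Subgroup.mem_sup_left x.2) (Subgroup.mem_sup_right (inv_mem ha))
  show φ x ∈ T ⊔ centralizerIn S T
  rw [show φ x = g x * t from e, ← hx, hg.map_mul hcK (Subgroup.mem_sup_right ha)]
  refine mul_mem (mul_mem (Subgroup.mem_sup_right ?_) (Subgroup.mem_sup_left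
    (hgT.le (apply_mem_fimg g ha)))) (Subgroup.mem_sup_left ht)
  have h := hg.map_centralizerIn le_sup_right hcK hc.2
  rwa [hgT] at h

variable {Ω' : Type v} [Group Ω'] {S' : Subgroup Ω'} {θ : S →* Ω'} {E : FusionSystem S'}
  {T : Subgroup Ω}

/-- Preimages of strongly closed subgroups of a factor system. -/
theorem stronglyClosed_preimageAlong (hS : IsPGroup p S) (hF : F.IsSaturated p)
    (hT : F.StronglyClosed T) (hE : F.IsFactorSystem T θ E) {W' : Subgroup Ω'}
    (hW : E.StronglyClosed W') : F.StronglyClosed (preimageAlong θ W') := by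
  refine ⟨preimageAlong_le W', fun R hR φ hφ x => ?_⟩
  obtain ⟨φ', hφ', hP, hφS, hP', h⟩ := (isMorphism_factor hS hF hT hE).2 R φ hφ
  have hle : imageAlong θ R ≤ W' := by
    rintro _ ⟨y, hy, rfl⟩
    exact (mem_preimageAlong.1 (hR hy)).2
  refine mem_preimageAlong.2 ⟨hφS x, ?_⟩
  rw [← h x]
  exact hW.2 _ hle φ' hφ' _

/-- Images of strongly closed subgroups in a factor system. -/
theorem stronglyClosed_imageAlong (hE : F.IsFactorSystem T θ E) {W : Subgroup Ω}
    (hW : F.StronglyClosed W) : E.StronglyClosed (imageAlong θ W) := by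
  have hle : imageAlong θ W ≤ S' := by
    rintro _ ⟨y, -, rfl⟩
    exact hE.2.2.1.le ⟨y, rfl⟩
  refine ⟨hle, fun R' hR' φ' hφ' y => ?_⟩
  obtain ⟨g, hg, hge⟩ := exists_lift hE (isMap_toFun hφ')
  obtain ⟨x, hxW, hxy⟩ := hR' y.2
  have hxR : (x : Ω) ∈ preimageAlong θ R' := mem_preimageAlong.2 ⟨x.2, hxy.symm ▸ y.2⟩
  have h1 := StronglyClosed.apply_mem hW (hg.res (Subgroup.zpowers_le.2 hxR))
    (Subgroup.zpowers_le.2 hxW) (Subgroup.mem_zpowers (x : Ω))
  refine ⟨⟨g x, hg.apply_mem hxR⟩, h1, ?_⟩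
  rw [hge x hxR, show θ ⟨(x : Ω), preimageAlong_le R' hxR⟩ = (y : Ω') from hxy, toFun_apply φ' y.2]

/-- A solvable system has a chain of strongly closed subgroups with abelian factors. -/
theorem exists_chain_of_solvable (hS : IsPGroup p S) (hF : F.IsSaturated p)
    (h : F.IsSolvableSystem) : ∃ (n : ℕ) (T : Fin (n + 1) → Subgroup Ω), T 0 = ⊥ ∧
      T (Fin.last n) = S ∧ Monotone T ∧ (∀ i, F.StronglyClosed (T i)) ∧
      ∀ i : Fin n, ⁅T i.succ, T i.succ⁆ ≤ T (Fin.castSucc i) := by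
  suffices main : ∀ m (R : Subgroup Ω), Nat.card S - Nat.card R = m → F.StronglyClosed R →
      ∃ (n : ℕ) (T : Fin (n + 1) → Subgroup Ω), T 0 = R ∧
        T (Fin.last n) = S ∧ Monotone T ∧ (∀ i, F.StronglyClosed (T i)) ∧
        ∀ i : Fin n, ⁅T i.succ, T i.succ⁆ ≤ T (Fin.castSucc i) from
    main _ ⊥ rfl (stronglyClosed_of_isNormal (isNormal_bot F))
  intro m
  induction m using Nat.strong_induction_on with
  | _ m ih =>
  intro R hm hR
  by_cases hRS : R = S
  · refine ⟨0, fun _ => R, rfl, hRS, fun _ _ _ => le_rfl, fun _ => hR, fun i => i.elim0⟩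
  haveI hn : (R.subgroupOf S).Normal :=
    Subgroup.normal_subgroupOf_of_le_normalizer (le_normalizer_of_stronglyClosed hR)
  obtain ⟨E, hE⟩ := Cfsg.Agent.S5132.result p hS F R hR
  have hEs := isSaturated_factor hS hF hR hE
  have hSp : IsPGroup p (⊤ : Subgroup (S ⧸ R.subgroupOf S)) := (hS.to_quotient _).to_subgroup ⊤
  obtain ⟨W', hW'ne, hW'ab, hW'⟩ :=
    (Cfsg.Agent.S5089.result p hSp E hEs).1 (h R hR hRS E hE)
  set W := preimageAlong (QuotientGroup.mk' (R.subgroupOf S)) W' with hW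
  have hWs := stronglyClosed_preimageAlong hS hF hR hE hW'
  have hRW : R ≤ W := factor_le_preimage hE W'
  have hlt : R < W := by
    refine lt_of_le_of_ne hRW fun e => hW'ne (le_bot_iff.1 fun y hy => ?_)
    obtain ⟨x, rfl⟩ := QuotientGroup.mk'_surjective _ y
    exact Subgroup.mem_bot.2 ((hE.2.1 x).2 (e.ge (mem_preimageAlong.2 ⟨x.2, hy⟩)))
  haveI := finite_of_le hWs.1
  have h1 : Nat.card W ≤ Nat.card S := Subgroup.card_le_of_le hWs.1
  have h2 : Nat.card R < Nat.card W := card_lt_of_lt hlt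
  obtain ⟨n, T, h0, hl, hmono, hsc, hab⟩ := ih _ (by omega) W rfl hWs
  refine ⟨n + 1, Fin.cons R T, Fin.cons_zero _ _, ?_, ?_, ?_, ?_⟩
  · rw [← Fin.succ_last, Fin.cons_succ, hl]
  · refine Fin.monotone_iff_le_succ.2 fun i => ?_
    induction i using Fin.cases with
    | zero => simpa [h0] using hRW
    | succ j =>
      rw [← Fin.succ_castSucc, Fin.cons_succ, Fin.cons_succ]
      exact hmono (Fin.castSucc_le_succ j)
  · intro i
    induction i using Fin.cases with
    | zero => simpa using hR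
    | succ j => simpa using hsc j
  · intro i
    induction i using Fin.cases with
    | zero =>
      rw [Fin.castSucc_zero, Fin.cons_zero, Fin.cons_succ, h0]
      refine Subgroup.commutator_le.2 fun a ha b hb => ?_
      obtain ⟨haS, ha'⟩ := mem_preimageAlong.1 ha
      obtain ⟨hbS, hb'⟩ := mem_preimageAlong.1 hb
      refine (hE.2.1 ⁅(⟨a, haS⟩ : S), ⟨b, hbS⟩⁆).1 ?_
      rw [map_commutatorElement, commutatorElement_eq_one_iff_mul_comm]
      exact congrArg Subtype.val (mul_comm' (⟨_, ha'⟩ : W') ⟨_, hb'⟩)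
    | succ j =>
      rw [← Fin.succ_castSucc, Fin.cons_succ, Fin.cons_succ]
      exact hab j

/-- A system with such a chain is solvable. -/
theorem isSolvableSystem_of_chain (hS : IsPGroup p S) (hF : F.IsSaturated p) {n : ℕ}
    {T : Fin (n + 1) → Subgroup Ω} (h0 : T 0 = ⊥) (hl : T (Fin.last n) = S)
    (hsc : ∀ i, F.StronglyClosed (T i))
    (hab : ∀ i : Fin n, ⁅T i.succ, T i.succ⁆ ≤ T (Fin.castSucc i)) : F.IsSolvableSystem := by
  intro R hR hRS _ E hE
  obtain ⟨i, hi, hi'⟩ : ∃ i : Fin n, ¬ T i.succ ≤ R ∧ T (Fin.castSucc i) ≤ R := by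
    by_contra hne
    push Not at hne
    have : ∀ i, T i ≤ R := fun i => by
      induction i using Fin.induction with
      | zero => rw [h0]; exact bot_le
      | succ j ihj => exact by_contra fun hj => hne j hj ihj
    exact hRS (le_antisymm hR.1 (hl ▸ this _))
  have hEs := isSaturated_factor hS hF hR hE
  have hSp : IsPGroup p (⊤ : Subgroup (S ⧸ R.subgroupOf S)) := (hS.to_quotient _).to_subgroup ⊤
  refine (Cfsg.Agent.S5089.result p hSp E hEs).2
    ⟨imageAlong (QuotientGroup.mk' (R.subgroupOf S)) (T i.succ), fun hbot => hi fun x hx => ?_,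
      ⟨⟨fun a b => ?_⟩⟩, stronglyClosed_imageAlong hE (hsc _)⟩
  · refine (hE.2.1 ⟨x, (hsc _).1 hx⟩).1 (Subgroup.mem_bot.1 (hbot ▸ ?_))
    exact ⟨⟨x, (hsc _).1 hx⟩, hx, rfl⟩
  · obtain ⟨_, a, ha, rfl⟩ := a
    obtain ⟨_, b, hb, rfl⟩ := b
    refine Subtype.ext ?_
    show QuotientGroup.mk' _ a * QuotientGroup.mk' _ b = QuotientGroup.mk' _ b * QuotientGroup.mk' _ a
    rw [← commutatorElement_eq_one_iff_mul_comm, ← map_commutatorElement, hE.2.1]
    exact hi' (hab i (Subgroup.commutator_mem_commutator ha hb))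

/-- Solvable saturated systems are constrained. -/
theorem isConstrained_of_solvable (hS : IsPGroup p S) (hF : F.IsSaturated p)
    (h : F.IsSolvableSystem) : F.IsConstrained p := by
  have hQ := isNormal_core F
  refine ⟨hF, F.core, hQ, hQ.1, fun Q' hQ' => ?_⟩
  obtain ⟨f, hf, rfl⟩ := isConj_iff.1 hQ'
  rw [fimg_stronglyClosed (stronglyClosed_of_isNormal hQ) hf le_rfl]
  obtain ⟨n, T, h0, hl, hmono, hsc, hab⟩ := exists_chain_of_solvable hS hF h
  set C := centralizerIn S F.core with hC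
  have hCs := stronglyClosed_centralizerIn (F := F) hQ
  suffices hall : ∀ i, T i ⊓ C ≤ F.core from fun x hx => hall (Fin.last n) ⟨hl.ge hx.1, hx⟩
  intro i
  induction i using Fin.induction with
  | zero => rw [h0, bot_inf_eq]; exact bot_le
  | succ j ihj =>
    refine le_core (isNormal_of_chain hS hF ![⊥, T (Fin.castSucc j) ⊓ C, T j.succ ⊓ C]
      rfl ?_ fun k => ?_)
    · refine Fin.monotone_iff_le_succ.2 fun k => ?_
      fin_cases k
      · exact bot_le
      · exact inf_le_inf_right _ (hmono (Fin.castSucc_le_succ j))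
    · fin_cases k
      · refine ⟨stronglyClosed_inf (hsc _) hCs, ?_⟩
        show ⁅T j.succ ⊓ C, T (Fin.castSucc j) ⊓ C⁆ ≤ ⊥
        refine Subgroup.commutator_le.2 fun a ha b hb => Subgroup.mem_bot.2 ?_
        rw [commutatorElement_eq_one_iff_mul_comm]
        exact (Subgroup.mem_centralizer_iff.1 ha.2.2 b (ihj hb)).symm
      · refine ⟨stronglyClosed_inf (hsc _) hCs, ?_⟩
        show ⁅T j.succ ⊓ C, T j.succ ⊓ C⁆ ≤ T (Fin.castSucc j) ⊓ C
        exact le_inf ((Subgroup.commutator_mono inf_le_left inf_le_left).trans (hab j))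
          ((Subgroup.commutator_mono inf_le_right inf_le_right).trans
            (Subgroup.commutator_le_self C))

end Cfsg.Agent.Fus
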