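import Mathlib
import Cfsg.Agent.Lib.Fus.ComponentFree
import Cfsg.Agent.Lib.Fus.FocalCentralizerMain
import Cfsg.Agent.Lib.Fus.CentralizerNormal
import Cfsg.Agent.Lib.Fus.PPowerUnique
import Cfsg.Agent.Lib.Fus.Hyperfocal
import Cfsg.Agent.Lib.Fus.SolvableSystem

/-!
The components of a saturated system centralize its core: the maps of a normal subsystem over `T`
extend over a normal subgroup `Q` so as to be trivial on `Q` modulo `Q ⊓ T`, and components are
perfect.
-/

set_option autoImplicit false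
set_option linter.style.haveILetI false
set_option linter.unusedSectionVars false

open scoped Classical commutatorElement

universe u

namespace Cfsg.Agent.Fus.CoreCent

open Subgroup FusionSystem FocalCent CompFree

variable {Ω : Type u} [Group Ω] {S : Subgroup Ω} {F : FusionSystem S} {p : ℕ}

/-- A normal subgroup meets a strongly closed subgroup in a normal subgroup of a saturated
subsystem over the latter. -/
theorem isNormal_inf [Finite S] [Fact p.Prime] (hS : IsPGroup p S) {T : Subgroup Ω}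
    {E : FusionSystem T} (hEF : E.IsSubsystemOf F) (hT : F.StronglyClosed T)
    (hE : E.IsSaturated p) {Q : Subgroup Ω} (hQn : F.IsNormal Q) : E.IsNormal (Q ⊓ T) := by
  haveI : Finite T := finite_of_le hT.1
  haveI : Finite Q := finite_of_le hQn.1
  have hTp : IsPGroup p T := hS.to_le hT.1
  haveI := (hS.to_le hQn.1).isNilpotent
  obtain ⟨c, hc⟩ : ∃ c, Subgroup.upperCentralSeries Q c = ⊤ :=
    ⟨_, Subgroup.upperCentralSeries_nilpotencyClass⟩
  let Qs : Fin (c + 1) → Subgroup Ω := fun i => (Subgroup.upperCentralSeries Q i).map Q.subtype ⊓ T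
  have hlast : Qs (Fin.last c) = Q ⊓ T := by
    show (Subgroup.upperCentralSeries Q c).map Q.subtype ⊓ T = Q ⊓ T
    rw [hc, ← MonoidHom.range_eq_map, Subgroup.range_subtype]
  rw [← hlast]
  refine isNormal_of_chain hTp hE Qs (by simp [Qs]) (fun i j hij => inf_le_inf_right _ (Subgroup.map_mono
    (Subgroup.upperCentralSeries_mono Q hij))) fun i => ⟨?_, ?_⟩
  · refine stronglyClosed_of_forall inf_le_right fun R hR f hf x hx => ⟨?_, hf.apply_mem hx⟩
    obtain ⟨g, hg, hg1, hg2⟩ := (isNormal_iff.1 hQn).2 R f (hf.mono hEF)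
    rw [← hg1 x hx]
    have hle : (Subgroup.upperCentralSeries Q (i.succ : ℕ)).map Q.subtype ≤ Q := Subgroup.map_subtype_le _
    have hchar : (((Subgroup.upperCentralSeries Q (i.succ : ℕ)).map Q.subtype).subgroupOf Q).Characteristic := by
      rw [Subgroup.subgroupOf, Subgroup.comap_map_eq_self_of_injective Q.subtype_injective]
      infer_instance
    rw [← (hg.res le_sup_right).fimg_characteristic hg2 hle hchar]
    exact apply_mem_fimg g ((hR.trans inf_le_left) hx)
  · rw [hlast, Subgroup.commutator_le]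
    rintro a ⟨haQ, haT⟩ x ⟨⟨b, hb, rfl⟩, hbT⟩
    refine ⟨⟨⁅(⟨a, haQ⟩ : Q), b⁆, ?_, rfl⟩, ?_⟩
    · have h1 := Subgroup.mem_upperCentralSeries_succ_iff.mp
        (show b ∈ Subgroup.upperCentralSeries Q ((i : ℕ) + 1) from hb) ⟨a, haQ⟩
      have h2 := Subgroup.inv_mem _ h1
      simpa [commutatorElement_def, mul_assoc] using h2
    · exact T.mul_mem (T.mul_mem (T.mul_mem haT hbT) (T.inv_mem haT)) (T.inv_mem hbT)

/-- The map extends over `Q`, trivially modulo `T`. -/
def Mod (F : FusionSystem S) (Q T P : Subgroup Ω) (f : Ω → Ω) : Prop :=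
  ∃ g, IsMap F (P ⊔ Q) g ∧ (∀ x ∈ P, g x = f x) ∧ ∀ q ∈ Q, q⁻¹ * g q ∈ T

variable {Q T : Subgroup Ω}

theorem Mod.congr {P : Subgroup Ω} {f f' : Ω → Ω} (h : Mod F Q T P f)
    (e : ∀ x ∈ P, f x = f' x) : Mod F Q T P f' :=
  let ⟨g, hg, h1, h2⟩ := h; ⟨g, hg, fun x hx => (h1 x hx).trans (e x hx), h2⟩

theorem Mod.res {P R : Subgroup Ω} {f : Ω → Ω} (h : Mod F Q T R f) (hPR : P ≤ R) :
    Mod F Q T P f :=
  let ⟨g, hg, h1, h2⟩ := h; ⟨g, hg.res (sup_le_sup_right hPR Q), fun x hx => h1 x (hPR hx), h2⟩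

theorem Mod.map_Q (hQ : F.StronglyClosed Q) {P : Subgroup Ω} {g : Ω → Ω}
    (hg : IsMap F (P ⊔ Q) g) {q : Ω} (hq : q ∈ Q) : g q ∈ Q :=
  StronglyClosed.apply_mem hQ (hg.res le_sup_right) le_rfl hq

theorem Mod.comp (hQ : F.StronglyClosed Q) (hT : F.StronglyClosed T) {P R : Subgroup Ω}
    {f f' : Ω → Ω} (h : Mod F Q T P f) (h' : Mod F Q T R f') (hm : ∀ x ∈ P, f x ∈ R) :
    Mod F Q T P (fun x => f' (f x)) := by
  obtain ⟨g, hg, h1, h2⟩ := h
  obtain ⟨g', hg', h1', h2'⟩ := h'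
  have hm' : ∀ z ∈ P ⊔ Q, g z ∈ R ⊔ Q := fun z hz => by
    have h3 := apply_mem_fimg g hz
    rw [hg.fimg_sup] at h3
    refine (sup_le ?_ ?_ : fimg g P ⊔ fimg g Q ≤ R ⊔ Q) h3
    · exact fimg_le fun w hw => Subgroup.mem_sup_left ((h1 w hw).symm ▸ hm w hw)
    · exact fimg_le fun w hw => Subgroup.mem_sup_right (Mod.map_Q hQ hg hw)
  refine ⟨_, hg.comp hg' hm', fun x hx => ?_, fun q hq => ?_⟩
  · show g' (g x) = f' (f x)
    rw [h1 x hx, h1' _ (hm x hx)]
  · show q⁻¹ * g' (g q) ∈ T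
    obtain ⟨w, hw, hwT, hwe⟩ : ∃ w ∈ Q, w ∈ T ∧ g q = q * w :=
      ⟨q⁻¹ * g q, Q.mul_mem (Q.inv_mem hq) (Mod.map_Q hQ hg hq), h2 q hq, by group⟩
    rw [hwe, hg'.map_mul (Subgroup.mem_sup_right hq) (Subgroup.mem_sup_right hw), ← mul_assoc]
    refine T.mul_mem (h2' q hq) ?_
    exact StronglyClosed.apply_mem hT (hg'.res (inf_le_left.trans le_sup_right : Q ⊓ T ≤ R ⊔ Q))
      inf_le_right ⟨hw, hwT⟩

/-- The automorphisms that are trivial on `Q` modulo `T`. -/
def modAuts (hQ : F.StronglyClosed Q) (hT : F.StronglyClosed T) (P : Subgroup Ω)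
    (h : P ⊔ Q ≤ S) [Finite S] : Subgroup (MulAut P) where
  carrier := {α | Mod F Q T P (autFun α)}
  one_mem' := ⟨fun x => x, isMap_id F h, fun x hx => (autFun_one hx).symm,
    fun q _ => by rw [inv_mul_cancel]; exact T.one_mem⟩
  mul_mem' {a b} ha hb :=
    (hb.comp hQ hT ha fun x hx => autFun_mem b hx).congr fun x hx => (autFun_mul a b hx).symm
  inv_mem' := by
    rintro a ⟨g, hg, h1, h2⟩
    obtain ⟨g', hg', hg1, hg2, -⟩ := hg.exists_inv
    have himg : fimg g (P ⊔ Q) = P ⊔ Q := by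
      rw [hg.fimg_sup, fimg_congr h1, fimg_autFun, fimg_stronglyClosed hQ (hg.res le_sup_right) le_rfl]
    rw [himg] at hg' hg2
    refine ⟨g', hg', fun x hx => ?_, fun q hq => ?_⟩
    · have h3 := hg1 _ (Subgroup.mem_sup_left (autFun_mem a⁻¹ hx))
      rwa [h1 _ (autFun_mem a⁻¹ hx), ← autFun_mul _ _ hx, mul_inv_cancel, autFun_one hx] at h3
    · obtain ⟨hr, hre⟩ := hg2 q (Subgroup.mem_sup_right hq)
      have hrQ : g' q ∈ Q := Mod.map_Q hQ hg' hq
      have h4 := T.inv_mem (h2 _ hrQ)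
      rw [hre] at h4
      simpa using h4

theorem mem_modAuts [Finite S] {hQ : F.StronglyClosed Q} {hT : F.StronglyClosed T}
    {P : Subgroup Ω} {h : P ⊔ Q ≤ S} {α : MulAut P} :
    α ∈ modAuts hQ hT P h ↔ Mod F Q T P (autFun α) := Iff.rfl

/-- Such automorphisms form a normal subgroup. -/
theorem modAuts_conj [Finite S] (hQn : F.IsNormal Q) (hT : F.StronglyClosed T) {P : Subgroup Ω}
    {α β : MulAut P} (hβ : β ∈ F.autGroup P) (hα : Mod F Q T P (autFun α)) :
    Mod F Q T P (autFun (β * α * β⁻¹)) := by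
  have hQ := stronglyClosed_of_isNormal hQn
  obtain ⟨g, hg, h1, h2⟩ := hα
  have hPS : P ≤ S := le_sup_left.trans hg.source_le
  obtain ⟨k, hk, hk1, -⟩ := (isNormal_iff.1 hQn).2 P _ ((mem_autGroup hPS).1 hβ)
  have himg : fimg k (P ⊔ Q) = P ⊔ Q := by
    rw [hk.fimg_sup, fimg_congr hk1, fimg_autFun, fimg_stronglyClosed hQ (hk.res le_sup_right) le_rfl]
  obtain ⟨k', hk', hk'1, hk'2, -⟩ := hk.exists_inv
  rw [himg] at hk' hk'2
  have hgm : ∀ z ∈ P ⊔ Q, g z ∈ P ⊔ Q := fun z hz => by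
    have h3 := apply_mem_fimg g hz
    rwa [hg.fimg_sup, fimg_congr h1, fimg_autFun,
      fimg_stronglyClosed hQ (hg.res le_sup_right) le_rfl] at h3
  refine ⟨_, (hk'.comp hg fun z hz => (hk'2 z hz).1).comp hk fun z hz => hgm _ (hk'2 z hz).1,
    fun x hx => ?_, fun q hq => ?_⟩
  · show k (g (k' x)) = _
    have h3 : k' x = autFun β⁻¹ x := by
      conv_lhs => rw [show x = k (autFun β⁻¹ x) by
        rw [hk1 _ (autFun_mem _ hx), ← autFun_mul _ _ hx, mul_inv_cancel, autFun_one hx]]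
      rw [hk'1 _ (Subgroup.mem_sup_left (autFun_mem _ hx))]
    rw [h3, h1 _ (autFun_mem _ hx), hk1 _ (autFun_mem _ (autFun_mem _ hx)), autFun_mul _ _ hx,
      autFun_mul _ _ (autFun_mem _ hx)]
  · show q⁻¹ * k (g (k' q)) ∈ T
    have hr : k' q ∈ Q := Mod.map_Q hQ hk' hq
    obtain ⟨w, hw, hwT, hwe⟩ : ∃ w ∈ Q, w ∈ T ∧ g (k' q) = k' q * w :=
      ⟨(k' q)⁻¹ * g (k' q), Q.mul_mem (Q.inv_mem hr) (Mod.map_Q hQ hg hr), h2 _ hr, by group⟩
    rw [hwe, hk.map_mul (Subgroup.mem_sup_right hr) (Subgroup.mem_sup_right hw),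
      (hk'2 q (Subgroup.mem_sup_right hq)).2, inv_mul_cancel_left]
    exact StronglyClosed.apply_mem hT (hk.res (inf_le_left.trans le_sup_right : Q ⊓ T ≤ P ⊔ Q))
      inf_le_right ⟨hw, hwT⟩

variable [Finite S] [Fact p.Prime]

/-- Conjugation by an element of `T` is trivial on `Q` modulo `T`. -/
theorem mod_conj (hT : F.StronglyClosed T) (hQn : F.IsNormal Q) {P : Subgroup Ω} (hPS : P ≤ S)
    {t : Ω} (ht : t ∈ T) {f : Ω → Ω} (he : ∀ x ∈ P, f x = t * x * t⁻¹) : Mod F Q T P f := by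
  refine ⟨fun x => t * x * t⁻¹, isMap_conj F (sup_le hPS hQn.1) (hT.1 ht),
    fun x hx => (he x hx).symm, fun q hq => ?_⟩
  show q⁻¹ * (t * q * t⁻¹) ∈ T
  rw [show q⁻¹ * (t * q * t⁻¹) = (q⁻¹ * t * (q⁻¹)⁻¹) * t⁻¹ by group]
  exact T.mul_mem (StronglyClosed.conj_mem' hT (S.inv_mem (hQn.1 hq)) ht) (T.inv_mem ht)

/-- The automorphisms of the support of a normal subsystem extend over a normal subgroup,
trivially modulo the support. -/
theorem mod_top (hS : IsPGroup p S) {E : FusionSystem T} (hE : E.IsNormalIn F p)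
    (hQn : F.IsNormal Q) {α : MulAut T} (hα : α ∈ E.autGroup T) : Mod F Q T T (autFun α) := by
  obtain ⟨⟨hEs, -, hinv⟩, hext⟩ := hE
  have hT := hinv.2.1
  have hTS := hT.1
  have hQ := stronglyClosed_of_isNormal hQn
  haveI : Finite T := finite_of_le hTS
  have hTp : IsPGroup p T := hS.to_le hTS
  set U := T ⊔ centralizerIn S T with hUdef
  obtain ⟨β, hβ, hβT, hβC⟩ := hext α hα
  have hUS : U ≤ S := sup_le hTS inf_le_left
  haveI : Finite ↥U := finite_of_le hUS
  have hβm : IsMap F U (autFun β) := (mem_autGroup hUS).1 hβ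
  obtain ⟨g, hg, hg1, -⟩ := (isNormal_iff.1 hQn).2 U _ hβm
  set W := U ⊔ Q with hWdef
  have hWS : W ≤ S := sup_le hUS hQn.1
  haveI : Finite ↥W := finite_of_le hWS
  have himg : fimg g W = W := by
    rw [hWdef, hg.fimg_sup, fimg_congr hg1, fimg_autFun,
      fimg_stronglyClosed hQ (hg.res le_sup_right) le_rfl]
  obtain ⟨γ, hγ, hγg⟩ := hg.exists_aut himg
  have hγm : IsMap F W (autFun γ) := (mem_autGroup hWS).1 hγ
  have hTW : T ≤ W := le_sup_left.trans le_sup_left
  have hTT : ∀ {k : Ω → Ω}, IsMap F W k → ∀ t ∈ T, k t ∈ T := fun hk t ht =>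
    StronglyClosed.apply_mem hT (hk.res hTW) le_rfl ht
  have hγα : ∀ x ∈ T, autFun γ x = autFun α x := fun x hx => by
    rw [hγg x (hTW hx), hg1 x (Subgroup.mem_sup_left hx),
      show autFun α x = ((α ⟨x, hx⟩ : T) : Ω) from autFun_coe α ⟨x, hx⟩, ← hβT ⟨x, hx⟩]
    exact autFun_coe β ⟨x, Subgroup.mem_sup_left hx⟩
  have hUT : T ≤ Subgroup.normalizer ((centralizerIn S T : Subgroup Ω) : Set Ω) := by
    intro t ht
    have key : ∀ s ∈ T, ∀ c ∈ centralizerIn S T, s * c * s⁻¹ ∈ centralizerIn S T := by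
      intro s hs c hc
      rw [(mem_centralizerIn.1 hc).2 s hs, mul_inv_cancel_right]
      exact hc
    exact mem_normalizer_of_forall (key t ht) fun c hc => by simpa using key t⁻¹ (T.inv_mem ht) c hc
  -- on `U` the shifts lie in `T`
  have hγU : ∀ i : ℕ, ∀ u ∈ U, u⁻¹ * autFun (γ ^ i) u ∈ T := by
    intro i
    induction i with
    | zero =>
      intro u hu
      rw [pow_zero, autFun_one (Subgroup.mem_sup_left hu), inv_mul_cancel]
      exact T.one_mem
    | succ i ih =>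
      intro u hu
      have huW : u ∈ W := Subgroup.mem_sup_left hu
      have hbase : u⁻¹ * autFun γ u ∈ T := by
        obtain ⟨t, ht, c, hc, rfl⟩ := mem_sup_dest hUT hu
        have hcU : c ∈ U := Subgroup.mem_sup_right hc
        rw [hγg _ huW, hg1 _ hu, hβm.map_mul (Subgroup.mem_sup_left ht) hcU]
        have h1 : c⁻¹ * autFun β c ∈ T := by
          rw [show autFun β c = ((β ⟨c, hcU⟩ : U) : Ω) from autFun_coe β ⟨c, hcU⟩]
          exact (hβC ⟨c, hcU⟩ hc).1
        have h2 : autFun β t ∈ T := StronglyClosed.apply_mem hT (hβm.res le_sup_left) le_rfl ht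
        rw [show (t * c)⁻¹ * (autFun β t * autFun β c) =
          (c⁻¹ * (t⁻¹ * autFun β t) * (c⁻¹)⁻¹) * (c⁻¹ * autFun β c) by group]
        exact T.mul_mem (StronglyClosed.conj_mem' hT (S.inv_mem hc.1)
          (T.mul_mem (T.inv_mem ht) h2)) h1
      obtain ⟨w, hw, hwe⟩ : ∃ w ∈ T, autFun (γ ^ i) u = u * w := ⟨_, ih u hu, by group⟩
      rw [pow_succ', autFun_mul _ _ huW, hwe, hγm.map_mul huW (hTW hw), ← mul_assoc]
      exact T.mul_mem hbase (hTT hγm w hw)
  obtain ⟨j, m, hm, hn⟩ :=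
    Nat.exists_eq_pow_mul_and_not_dvd (orderOf_pos γ).ne' p (Fact.out : p.Prime).ne_one
  have hmp : m.Coprime p := ((Fact.out : p.Prime).coprime_iff_not_dvd.2 hm).symm
  obtain ⟨-, R, hR⟩ := fullyAutomized_of_fullyNormalized hTp hEs (fullyNormalized_self E)
  haveI hRn : (R : Subgroup (E.autGroup T)).Normal := by
    rw [hR, ← inn_eq_autInducedBy]
    exact inn_subgroupOf_normal E T
  set δ := γ ^ p ^ j with hδ
  have hδm : IsMap F W (autFun δ) := (mem_autGroup hWS).1 (pow_mem hγ _)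
  have hδα : ∀ x ∈ T, autFun δ x = autFun (α ^ p ^ j) x := autFun_pow_eq hTW hγα _
  have h1 : Mod F Q T T (autFun (α ^ p ^ j)) := by
    refine ⟨autFun δ, hδm.res (sup_le_sup_right le_sup_left Q), hδα, fun q hq => ?_⟩
    have hqW : q ∈ W := Subgroup.mem_sup_right hq
    set w := q⁻¹ * autFun δ q with hw
    have hwQ : w ∈ Q := Q.mul_mem (Q.inv_mem hq)
      (StronglyClosed.apply_mem hQ (hδm.res le_sup_right) le_rfl hq)
    have hwW : w ∈ W := Subgroup.mem_sup_right hwQ
    have hqS : q ∈ S := hQn.1 hq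
    -- `w` acts on `T` as an element of `T`
    have hwU : w ∈ U := by
      have hαm : α ^ p ^ j ∈ E.autGroup T := pow_mem hα _
      have hαF : α ^ p ^ j ∈ F.autGroup T := autGroup_mono hinv.1 T hαm
      have hqN : q ∈ Subgroup.normalizer (T : Set Ω) := le_normalizer_of_stronglyClosed hT hqS
      have hwN : w ∈ Subgroup.normalizer (T : Set Ω) :=
        le_normalizer_of_stronglyClosed hT (hQn.1 hwQ)
      set cq : MulAut T := T.normalizerMonoidHom ⟨q, hqN⟩ with hcq
      have hcqF : cq ∈ F.autGroup T := autInducedBy_le_autGroup F hTS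
        (mem_autInducedBy.2 ⟨q, hqS, fun _ => rfl⟩)
      set cw : MulAut T := T.normalizerMonoidHom ⟨w, hwN⟩ with hcw
      have hcwe : cw = cq⁻¹ * (α ^ p ^ j * cq * (α ^ p ^ j)⁻¹) := by
        refine mulAut_ext fun x hx => ?_
        have hy : autFun ((α ^ p ^ j)⁻¹) x ∈ T := autFun_mem _ hx
        have hy' := autFun_mem cq hy
        rw [autFun_mul _ _ hx, autFun_mul _ _ hx, autFun_mul _ _ hy]
        have e1 : autFun cq (autFun ((α ^ p ^ j)⁻¹) x) =
            q * autFun ((α ^ p ^ j)⁻¹) x * q⁻¹ :=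
          (autFun_coe cq ⟨_, hy⟩).trans rfl
        rw [← hδα _ hy', e1, hδm.map_conj hqW (hTW hy), hδα _ hy, ← autFun_mul _ _ hx,
          mul_inv_cancel, autFun_one hx]
        have hz : autFun δ q * x * (autFun δ q)⁻¹ ∈ T :=
          StronglyClosed.conj_mem' hT (hδm.apply_mem hqW) hx
        have e2 : autFun cq⁻¹ (autFun δ q * x * (autFun δ q)⁻¹) = w * x * w⁻¹ := by
          have hwx : w * x * w⁻¹ ∈ T := (Subgroup.mem_normalizer_iff.1 hwN x).1 hx
          rw [show autFun δ q * x * (autFun δ q)⁻¹ = autFun cq (w * x * w⁻¹) by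
            rw [show autFun cq (w * x * w⁻¹) = q * (w * x * w⁻¹) * q⁻¹ from
              (autFun_coe cq ⟨_, hwx⟩).trans rfl, hw]
            group]
          exact autFun_inv_apply cq hwx
        rw [e2]
        exact (autFun_coe cw ⟨x, hx⟩).trans rfl
      have hcwE : cw ∈ E.autGroup T := by
        rw [hcwe, show cq⁻¹ * (α ^ p ^ j * cq * (α ^ p ^ j)⁻¹) =
          (cq⁻¹ * α ^ p ^ j * (cq⁻¹)⁻¹) * (α ^ p ^ j)⁻¹ by group]
        exact mul_mem (autGroup_conj_mem hinv le_rfl (inv_mem hcqF) hαm) (inv_mem hαm)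
      obtain ⟨k, hk⟩ := hS ⟨w, hQn.1 hwQ⟩
      have hcwR : (⟨cw, hcwE⟩ : E.autGroup T) ∈ (R : Subgroup (E.autGroup T)) :=
        mem_of_normal_sylow R (k := k) (Subtype.ext (by
          show cw ^ p ^ k = 1
          rw [hcw, ← map_pow]
          have : (⟨w, hwN⟩ : ↥(Subgroup.normalizer (T : Set Ω))) ^ p ^ k = 1 :=
            Subtype.ext (congrArg Subtype.val hk :)
          rw [this, map_one]))
      rw [hR] at hcwR
      obtain ⟨t, ht, hte⟩ := mem_autInducedBy.1 hcwR
      have hc : t⁻¹ * w ∈ centralizerIn S T := by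
        refine mem_centralizerIn.2 ⟨S.mul_mem (S.inv_mem (hTS ht)) (hQn.1 hwQ), fun x hx => ?_⟩
        have h3 : w * x * w⁻¹ = t * x * t⁻¹ := hte ⟨x, hx⟩
        calc x * (t⁻¹ * w) = t⁻¹ * (t * x * t⁻¹) * w := by group
          _ = t⁻¹ * (w * x * w⁻¹) * w := by rw [h3]
          _ = t⁻¹ * w * x := by group
      have h4 := U.mul_mem (Subgroup.mem_sup_left ht) (Subgroup.mem_sup_right hc : t⁻¹ * w ∈ U)
      rwa [mul_inv_cancel_left] at h4
    -- the powers shift `q` by the powers of `w` modulo `T`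
    have hit : ∀ i : ℕ, ∃ t ∈ T, autFun (δ ^ i) q = q * w ^ i * t := by
      intro i
      induction i with
      | zero => exact ⟨1, T.one_mem, by rw [pow_zero, autFun_one hqW]; simp⟩
      | succ i ih =>
        obtain ⟨t, ht, he⟩ := ih
        have hwi : w ^ i ∈ U := U.pow_mem hwU i
        obtain ⟨t', ht', he'⟩ : ∃ t' ∈ T, autFun δ (w ^ i) = w ^ i * t' :=
          ⟨(w ^ i)⁻¹ * autFun δ (w ^ i), hγU (p ^ j) _ hwi, by group⟩
        refine ⟨t' * autFun δ t, T.mul_mem ht' (hTT hδm t ht), ?_⟩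
        have hwiW : w ^ i ∈ W := Subgroup.mem_sup_left hwi
        rw [pow_succ', autFun_mul _ _ hqW, he, hδm.map_mul (W.mul_mem hqW hwiW) (hTW ht),
          hδm.map_mul hqW hwiW, he', show autFun δ q = q * w by rw [hw]; group, pow_succ']
        group
    obtain ⟨t, ht, he⟩ := hit m
    rw [hδ, ← pow_mul, ← hn, pow_orderOf_eq_one, autFun_one hqW] at he
    have hwm : w ^ m ∈ T := by
      have h5 : w ^ m = t⁻¹ := by
        rw [mul_assoc, left_eq_mul] at he
        exact eq_inv_of_mul_eq_one_left he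
      rw [h5]; exact T.inv_mem ht
    obtain ⟨k, hk⟩ := hS ⟨w, hQn.1 hwQ⟩
    have hwk : w ^ p ^ k = 1 := congrArg Subtype.val hk
    have h6 : w = (w ^ m) ^ (m.gcdA (p ^ k)) := by
      have h7 := Nat.gcd_eq_gcd_ab m (p ^ k)
      rw [Nat.Coprime.gcd_eq_one (hmp.pow_right k), Nat.cast_one] at h7
      have h9 : w ^ (1 : ℤ) =
          (w ^ (m : ℤ)) ^ m.gcdA (p ^ k) * (w ^ ((p ^ k : ℕ) : ℤ)) ^ m.gcdB (p ^ k) := by
        rw [← zpow_mul, ← zpow_mul, ← zpow_add, ← h7]
      rwa [zpow_one, zpow_natCast, zpow_natCast, hwk, one_zpow, mul_one] at h9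
    show w ∈ T
    rw [h6]
    exact T.zpow_mem hwm _
  have h2 : Mod F Q T T (autFun (α ^ m)) := by
    have hαn : α ^ orderOf γ = 1 := mulAut_ext fun x hx => by
      rw [← autFun_pow_eq hTW hγα _ x hx, pow_orderOf_eq_one, autFun_one hx, autFun_one (hTW hx)]
    have h3 : (⟨α ^ m, pow_mem hα m⟩ : E.autGroup T) ∈ (R : Subgroup (E.autGroup T)) :=
      mem_of_normal_sylow R (k := j) (Subtype.ext (by
        rw [SubmonoidClass.coe_pow, ← pow_mul, mul_comm, ← hn, hαn]; rfl))
    rw [hR] at h3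
    obtain ⟨t, ht, hte⟩ := mem_autInducedBy.1 h3
    exact mod_conj hT hQn hTS ht fun x hx => (autFun_coe _ ⟨x, hx⟩).trans (hte ⟨x, hx⟩)
  have hTQ : T ⊔ Q ≤ S := sup_le hTS hQn.1
  show α ∈ modAuts hQ hT T hTQ
  have h3 : α = (α ^ p ^ j) ^ ((p ^ j : ℕ).gcdA m) * (α ^ m) ^ ((p ^ j : ℕ).gcdB m) := by
    rw [← zpow_natCast α (p ^ j), ← zpow_natCast α m, ← zpow_mul, ← zpow_mul, ← zpow_add,
      ← Nat.gcd_eq_gcd_ab, Nat.Coprime.gcd_eq_one ((hmp.pow_right j).symm), Nat.cast_one, zpow_one]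
  rw [h3]
  exact mul_mem (Subgroup.zpow_mem _ (mem_modAuts.2 h1) _) (Subgroup.zpow_mem _ (mem_modAuts.2 h2) _)

/-- The maps of a normal subsystem extend over a normal subgroup, trivially modulo its support. -/
theorem mod_of_normal (hS : IsPGroup p S) {E : FusionSystem T} (hE : E.IsNormalIn F p)
    (hQn : F.IsNormal Q) {P : Subgroup Ω} {f : Ω → Ω} (hf : IsMap E P f) : Mod F Q T P f := by
  obtain ⟨⟨hEs, -, hinv⟩, -⟩ := id hE
  have hT := hinv.2.1
  have hQ := stronglyClosed_of_isNormal hQn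
  haveI : Finite T := finite_of_le hT.1
  have hTp : IsPGroup p T := hS.to_le hT.1
  refine alperin' hTp hEs (fun P f => Mod F Q T P f) (fun P f g h e => h.congr e)
    (fun P R f g _ _ hm h h' => h.comp hQ hT h' hm) (fun P R f _ hPR h => h.res hPR)
    (fun α hα => mod_top hS hE hQn hα) ?_ hf
  intro R hR big α hα
  have hRT : R ≤ T := hR.1.1
  have hRS : R ≤ S := hRT.trans hT.1
  haveI := finite_of_le hRS
  rcases hRT.eq_or_lt with he | hlt
  · subst he
    exact mod_top hS hE hQn hα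
  have hRQ : R ⊔ Q ≤ S := sup_le hRS hQn.1
  set K := (modAuts hQ hT R hRQ).subgroupOf (E.autGroup R) with hK
  haveI hKn : K.Normal := ⟨fun a ha b =>
    modAuts_conj hQn hT (autGroup_mono hinv.1 R b.2) ha⟩
  obtain ⟨-, P0, hP0⟩ := fullyAutomized_of_fullyNormalized hTp hEs hR.2.1
  have hPK : (P0 : Subgroup (E.autGroup R)) ≤ K := fun a ha => by
    rw [hP0] at ha
    obtain ⟨t, ht, hte⟩ := mem_autInducedBy.1 ha
    exact mod_conj hT hQn hRS ht fun x hx => (autFun_coe _ ⟨x, hx⟩).trans (hte ⟨x, hx⟩)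
  suffices h : (⟨α, hα⟩ : E.autGroup R) ∈ K from h
  have htop := Sylow.normalizer_sup_eq_top (P0.subtype hPK)
  have hmem : (⟨α, hα⟩ : E.autGroup R) ∈
      Subgroup.normalizer (((P0.subtype hPK : Sylow p K) : Subgroup K).map K.subtype :
        Set (E.autGroup R)) ⊔ K := by
    rw [htop]; exact Subgroup.mem_top _
  refine (sup_le ?_ le_rfl : _ ⊔ K ≤ K) hmem
  intro a ha
  rw [Sylow.coe_subtype, Subgroup.map_subgroupOf_eq_of_le hPK] at ha
  have ham := (mem_autGroup hRT).1 a.2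
  obtain ⟨a', ha', hae⟩ := receptive_extend (receptive_of_fullyNormalized hTp hEs hR.2.1) ham
    (fimg_autFun _) (N := normalizerIn T R) (fun t ht => by
      refine ⟨ht, ?_⟩
      obtain ⟨htT, htn⟩ := ht
      let c : E.autGroup R := ⟨R.normalizerMonoidHom ⟨t, htn⟩,
        autInducedBy_le_autGroup E hRT (mem_autInducedBy.2 ⟨t, htT, fun _ => rfl⟩)⟩
      have hc : c ∈ (P0 : Subgroup (E.autGroup R)) := by
        rw [hP0]; exact mem_autInducedBy.2 ⟨t, htT, fun _ => rfl⟩
      have hac := (Subgroup.mem_normalizer_iff.1 ha c).1 hc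
      rw [hP0] at hac
      obtain ⟨s, hs, hse⟩ := mem_autInducedBy.1 hac
      refine ⟨s, hs, fun x hx => ?_⟩
      have h4 := hse ((a : MulAut R) ⟨x, hx⟩)
      rw [show autFun (a : MulAut R) x = (((a : MulAut R) ⟨x, hx⟩ : R) : Ω) from
        autFun_coe _ ⟨x, hx⟩, ← h4,
        show t * x * t⁻¹ = ((((c : MulAut R) ⟨x, hx⟩ : R)) : Ω) from rfl, autFun_coe]
      simp) (le_normalizerIn hRT)
  haveI : Finite ↥(normalizerIn T R) := finite_of_le (S := T) inf_le_left
  have hM : Mod F Q T (normalizerIn T R) a' :=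
    big _ _ ha' (card_lt_of_lt (lt_normalizerIn hTp hlt))
  exact (hM.res (le_normalizerIn hRT)).congr hae

/-- A quasisimple system has core in its centre. -/
theorem core_le_center (hS : IsPGroup p S) (hq : F.Quasisimple p) : F.core ≤ F.center := by
  obtain ⟨E, hE⟩ := exists_factor F
  obtain ⟨hF, hperf, hsimple⟩ := id hq
  obtain ⟨hEs, hne, hnormal⟩ := hsimple E hE
  have hQn := isNormal_core F
  have hT := stronglyClosed_center F
  set θ := QuotientGroup.mk' ((F.center).subgroupOf S) with hθ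
  have htop : E.hyperfocalSubgroup p = ⊤ := by
    rw [hyperfocal_factor hS hF hT hE, hperf, Subgroup.subgroupOf_self, ← MonoidHom.range_eq_map]
    exact MonoidHom.range_eq_top.2 (QuotientGroup.mk'_surjective _)
  have hTp : IsPGroup p (⊤ : Subgroup (S ⧸ (F.center).subgroupOf S)) :=
    (hS.to_quotient _).to_subgroup _
  have hin := inner_isNormalIn hTp hEs (isNormal_bot E)
  have q : CentralLift.Quot F p F.center θ E (innerFusionSystem (⊥ : Subgroup _)) :=
    ⟨hS, hF, le_rfl, hE, hin⟩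
  have hQ' := isNormal_img q hQn
  obtain h | ⟨h, hhom⟩ := hnormal _ _ (inner_isNormalIn hTp hEs hQ')
  · intro x hx
    refine (q.th_one_iff (hQn.1 hx)).1 ?_
    have := CentralLift.th_mem_img (θ := θ) hQn.1 hx
    rwa [h, Subgroup.mem_bot] at this
  · exfalso
    have hbot := hyperfocal_eq_bot (p := p) (F := E) hTp fun P f hf => by
      obtain ⟨φ, hφ, e⟩ := hf.exists_hom
      rw [← hhom P] at hφ
      obtain ⟨-, g, hg, hge⟩ := hφ
      exact ⟨g, h ▸ hg, fun x hx => (e ⟨x, hx⟩).symm.trans (hge ⟨x, hx⟩)⟩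
    exact hne (htop ▸ hbot)

/-- A component centralizes the core. -/
theorem fixes_core {TC : Subgroup Ω} {C : FusionSystem TC} (hsub : C.IsSubnormalIn F p)
    (hS : IsPGroup p S) (hF : F.IsSaturated p) (hq : C.Quasisimple p) :
    C.IsSubsystemOf F ∧ TC ≤ centralizerIn S F.core ∧
      ∀ P f, IsMap C P f → Fixes F F.core P f := by
  suffices main : ∀ {U : Subgroup Ω} (G : FusionSystem U), C.IsSubnormalIn G p → Finite U →
      IsPGroup p U → G.IsSaturated p → C.IsSubsystemOf G ∧ TC ≤ centralizerIn U G.core ∧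
        ∀ P f, IsMap C P f → Fixes G G.core P f from main F hsub ‹_› hS hF
  intro U G hsubU
  clear hsub hS hF
  revert ‹Fact p.Prime›
  induction hsubU with
  | refl G p =>
    intro _ hfin hU hG
    have hle := core_le_center hU hq
    refine ⟨fun P => le_rfl, fun x hx => mem_centralizerIn.2 ⟨hx, fun c hc =>
      (G.center_le_centralizer (hle hc) x hx).symm⟩, fun P f hf => ?_⟩
    obtain ⟨g, hg, hg1, hg2⟩ := (isCentral_iff.1 (isCentral_center G)).2 P f hf
    exact ⟨g, hg.res (sup_le_sup_left hle P), hg1, fun y hy => hg2 y (hle hy)⟩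
  | @step V U C D G p hsubD hDG ih =>
    intro _ hfin hU hG
    obtain ⟨⟨hDs, -, hinv⟩, -⟩ := id hDG
    have hV := hinv.2.1
    haveI : Finite V := finite_of_le hV.1
    have hVp : IsPGroup p V := hU.to_le hV.1
    obtain ⟨hCD, hTC, hfix⟩ := ih hq inferInstance hVp hDs
    have hCG : C.IsSubsystemOf G := fun P φ hφ => hinv.1 P (hCD P hφ)
    have hTCV : TC ≤ V := hTC.trans inf_le_left
    haveI : Finite TC := finite_of_le hTCV
    have hTCp : IsPGroup p TC := hVp.to_le hTCV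
    have hQn := isNormal_core G
    set Q := G.core with hQdef
    have hQsc := stronglyClosed_of_isNormal hQn
    have hZD : Q ⊓ V ≤ D.core := le_core (isNormal_inf hU hinv.1 hV hDs hQn)
    -- automorphisms of order prime to `p` fix the core
    have hco : ∀ P ≤ TC, ∀ α : C.autGroup P, (orderOf α).Coprime p →
        Fixes G Q P (autFun (α : MulAut P)) ∧ ∀ x ∈ P, ∀ q ∈ Q,
          q * (x⁻¹ * autFun (α : MulAut P) x) = x⁻¹ * autFun (α : MulAut P) x * q := by
      intro P hP α hα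
      haveI : Finite P := finite_of_le hP
      have hαm : IsMap C P (autFun (α : MulAut P)) := (mem_autGroup hP).1 α.2
      obtain ⟨h, hh, hh1, hh2⟩ := hfix P _ hαm
      have hPU : P ≤ U := hP.trans (hTCV.trans hV.1)
      have hmod := mod_of_normal hU hDG hQn (hh.res (sup_le_sup_left hZD P))
      obtain ⟨g, hg, hg1, hg2⟩ := hmod
      rw [sup_assoc, sup_eq_right.2 (inf_le_left : Q ⊓ V ≤ Q)] at hg
      have hgP : ∀ x ∈ P, g x = autFun (α : MulAut P) x := fun x hx => by
        rw [hg1 x (Subgroup.mem_sup_left hx), hh1 x hx]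
      have hgZ : ∀ z ∈ Q ⊓ V, g z = z := fun z hz => by
        rw [hg1 z (Subgroup.mem_sup_right hz), hh2 z (hZD hz)]
      set W := P ⊔ Q with hWdef
      have hWU : W ≤ U := sup_le hPU hQn.1
      haveI : Finite ↥W := finite_of_le hWU
      have himg : fimg g W = W := by
        rw [hWdef, hg.fimg_sup, fimg_congr hgP, fimg_autFun,
          fimg_stronglyClosed hQsc (hg.res le_sup_right) le_rfl]
      obtain ⟨γ, hγ, hγg⟩ := hg.exists_aut himg
      have hγm : IsMap G W (autFun γ) := (mem_autGroup hWU).1 hγ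
      have hPW : P ≤ W := le_sup_left
      have hγα : ∀ x ∈ P, autFun γ x = autFun (α : MulAut P) x := fun x hx => by
        rw [hγg x (hPW hx), hgP x hx]
      have hshift : ∀ q ∈ Q, ∀ i : ℕ, autFun (γ ^ i) q = q * (q⁻¹ * autFun γ q) ^ i := by
        intro q hq i
        have hqW : q ∈ W := Subgroup.mem_sup_right hq
        obtain ⟨w, hw⟩ : ∃ w, w = q⁻¹ * autFun γ q := ⟨_, rfl⟩
        have hwZ : w ∈ Q ⊓ V := by
          rw [hw, hγg q hqW]
          exact ⟨Q.mul_mem (Q.inv_mem hq)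
            (StronglyClosed.apply_mem hQsc (hg.res le_sup_right) le_rfl hq), hg2 q hq⟩
        rw [← hw]
        induction i with
        | zero => rw [pow_zero, autFun_one hqW, pow_zero, mul_one]
        | succ i ih =>
          have hwi : w ^ i ∈ Q ⊓ V := Subgroup.pow_mem _ hwZ i
          have hwiW : w ^ i ∈ W := Subgroup.mem_sup_right hwi.1
          rw [pow_succ', autFun_mul _ _ hqW, ih, hγm.map_mul hqW hwiW, hγg _ hwiW, hgZ _ hwi,
            pow_succ', ← mul_assoc q w, show q * w = autFun γ q by rw [hw]; group]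
      obtain ⟨j, m, hm, hn⟩ :=
        Nat.exists_eq_pow_mul_and_not_dvd (orderOf_pos γ).ne' p (Fact.out : p.Prime).ne_one
      have hmp : m.Coprime p := ((Fact.out : p.Prime).coprime_iff_not_dvd.2 hm).symm
      obtain ⟨a, ha⟩ : ∃ a, orderOf γ ∣ p ^ j * a * m ∧ (p ^ j * a) % orderOf α = 1 % orderOf α := by
        obtain ⟨a, -, ha⟩ := Nat.exists_mul_mod_eq_of_coprime (n := p ^ j) (k := orderOf α) 1
          (hα.pow_right j).symm (orderOf_pos α).ne'
        exact ⟨a, ⟨a, by rw [hn]; ring⟩, ha⟩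
      obtain ⟨hae, hamod⟩ := ha
      set δ := γ ^ (p ^ j * a) with hδ
      have hδm : IsMap G W (autFun δ) := (mem_autGroup hWU).1 (pow_mem hγ _)
      have hδα : ∀ x ∈ P, autFun δ x = autFun (α : MulAut P) x := fun x hx => by
        rw [hδ, autFun_pow_eq hPW hγα _ x hx]
        congr 1
        rw [← SubmonoidClass.coe_pow]
        congr 1
        conv_rhs => rw [← pow_one α]
        exact pow_eq_pow_iff_modEq.2 hamod
      have hδQ : ∀ q ∈ Q, autFun δ q = q := by
        intro q hq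
        have hqW : q ∈ W := Subgroup.mem_sup_right hq
        rw [hδ, hshift q hq]
        set w := q⁻¹ * autFun γ q with hw
        have h1 := hshift q hq (p ^ j * a * m)
        rw [orderOf_dvd_iff_pow_eq_one.1 hae, autFun_one hqW, left_eq_mul, pow_mul] at h1
        have hwQ : w ∈ Q := Q.mul_mem (Q.inv_mem hq) (by
          rw [hγg q hqW]; exact StronglyClosed.apply_mem hQsc (hg.res le_sup_right) le_rfl hq)
        obtain ⟨k, hk⟩ := hU ⟨w ^ (p ^ j * a), hQn.1 (Q.pow_mem hwQ _)⟩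
        have h2 : w ^ (p ^ j * a) = 1 := InvExt.eq_one_of_coprime_pow (p := p)
          hmp (congrArg Subtype.val hk :) h1
        rw [h2, mul_one]
      refine ⟨⟨autFun δ, hδm, hδα, hδQ⟩, fun x hx q hq => ?_⟩
      have hxV : x ∈ V := hTCV (hP hx)
      have hxU : x ∈ U := hV.1 hxV
      have hqU : q ∈ U := hQn.1 hq
      obtain ⟨z, hz, hze⟩ : ∃ z ∈ Q ⊓ V, q * x * q⁻¹ = x * z := by
        refine ⟨x⁻¹ * (q * x * q⁻¹), ⟨?_, V.mul_mem (V.inv_mem hxV)
          (StronglyClosed.conj_mem' hV hqU hxV)⟩, by group⟩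
        rw [show x⁻¹ * (q * x * q⁻¹) = (x⁻¹ * q * (x⁻¹)⁻¹) * q⁻¹ by group]
        exact Q.mul_mem (StronglyClosed.conj_mem' hQsc (U.inv_mem hxU) hq) (Q.inv_mem hq)
      have hxW : x ∈ W := hPW hx
      have hqW : q ∈ W := Subgroup.mem_sup_right hq
      have e := congrArg (autFun δ) hze
      rw [hδm.map_conj hqW hxW, hδm.map_mul hxW (Subgroup.mem_sup_right hz.1), hδQ q hq,
        hδQ z hz.1, hδα x hx] at e
      set y := x⁻¹ * autFun (α : MulAut P) x with hy
      have hyTC : y ∈ TC := TC.mul_mem (TC.inv_mem (hP hx)) (hP (autFun_mem _ hx))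
      have hzy : z * y = y * z := (mem_centralizerIn.1 (hTC hyTC)).2 z (hZD hz)
      calc q * y = (q * x * q⁻¹)⁻¹ * (q * autFun (α : MulAut P) x * q⁻¹) * q := by rw [hy]; group
        _ = z⁻¹ * (y * z) * q := by rw [hze, e, hy]; group
        _ = y * q := by rw [← hzy]; group
    have hperf := hq.2.1
    have hTCQ : TC ≤ centralizerIn U Q := by
      refine le_inf (hTCV.trans hV.1) ?_
      rw [← hperf]
      exact hyperfocal_le_of_coprime fun P hP α hα x hx =>
        Subgroup.mem_centralizer_iff.2 fun q hq => (hco P hP α hα).2 x hx q hq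
    refine ⟨hCG, hTCQ, fun P f hf => ?_⟩
    have hconj : ∀ R ≤ TC, ∀ t ∈ TC, ∀ k : Ω → Ω, (∀ x ∈ R, k x = t * x * t⁻¹) →
        Fixes G Q R k := fun R hR t ht k hk =>
      ⟨fun x => t * x * t⁻¹,
        isMap_conj G (sup_le (hR.trans (hTCV.trans hV.1)) hQn.1) (hV.1 (hTCV ht)),
        fun x hx => (hk x hx).symm, fun y hy => by
          show t * y * t⁻¹ = y
          rw [← (mem_centralizerIn.1 (hTCQ ht)).2 y hy, mul_inv_cancel_right]⟩
    have haut : ∀ R, C.IsFullyNormalized R → ∀ α ∈ C.autGroup R, Fixes G Q R (autFun α) := by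
      intro R hR α hα
      have hRU : R ⊔ Q ≤ U := sup_le (hR.1.trans (hTCV.trans hV.1)) hQn.1
      obtain ⟨t, ht, ρ, hρ, e⟩ :=
        aut_decomp (fullyAutomized_of_fullyNormalized hTCp hq.1 hR) ⟨α, hα⟩
      have hρ' : Fixes G Q R (autFun (ρ : MulAut R)) :=
        mem_goodAuts.1 (Subgroup.closure_induction
          (p := fun (b : C.autGroup R) _ => (b : MulAut R) ∈ goodAuts G Q R hRU)
          (fun b hb => mem_goodAuts.2 (hco R hR.1 b hb).1) (one_mem _)
          (fun _ _ _ _ ha hb => mul_mem ha hb) (fun _ _ ha => inv_mem ha) hρ)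
      exact (hρ'.comp (hconj R hR.1 t ht (fun x => t * x * t⁻¹) fun _ _ => rfl)
        fun x hx => autFun_mem _ hx).congr fun x hx => (e x hx).symm
    exact alperin' hTCp hq.1 (fun R k => Fixes G Q R k) (fun R k k' h h' => h.congr h')
      (fun R R' k k' _ _ hm h h' => h.comp h' hm) (fun R R' k _ hR h => h.res hR)
      (fun α hα => haut TC (fullyNormalized_self C) α hα) (fun R hR _ => haut R hR.2.1) hf

/-- The layer lies in the centralizer system of the core. -/
theorem layer_le_centralizer (hS : IsPGroup p S) (hF : F.IsSaturated p) {TE : Subgroup Ω}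
    {E : FusionSystem TE} (hE : E.IsLayerOf F p) (P : Subgroup Ω) :
    E.Hom P ⊆ F.centralizerHom F.core P := by
  have hQn := isNormal_core F
  set R := F.core with hR
  have hinn := inner_isNormalIn hS hF hQn
  have hle : R ≤ centralizerIn S (centralizerIn S R) := fun r hr =>
    ⟨hQn.1 hr, fun c hc => (hc.2 r hr).symm⟩
  have hext : ∀ P : Subgroup Ω,
      (innerFusionSystem R).Hom P ⊆ F.centralizerHom (centralizerIn S R) P := by
    rintro P φ ⟨hP, g, hg, hge⟩
    refine mem_centralizerHom.2 ⟨hP.trans hle, fun x => ?_, fun x => g * x * g⁻¹,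
      isMap_conj F (sup_le (hP.trans hQn.1) inf_le_left) (hQn.1 hg), fun x => (hge x).symm,
      fun c hc => ?_⟩
    · rw [hge x]
      exact mul_mem (mul_mem (hle hg) (hle (hP x.2))) (Subgroup.inv_mem _ (hle hg))
    · show g * c * g⁻¹ = c
      rw [hc.2 g hg, mul_inv_cancel_right]
  have hset : CentNormal.Setup F (innerFusionSystem R) p (centralizerIn S R) :=
    ⟨hS, hF, hinn, le_rfl, hext, fun Y hY _ => hY⟩
  obtain ⟨D, hD, hDi⟩ := hset.exists_normal_index
  haveI : Finite ↥(centralizerIn S R) := finite_of_le (S := S) inf_le_left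
  have hCs := hset.centralizerSystem_saturated
  have hCp : IsPGroup p ↥(centralizerIn S R) := hS.to_le inf_le_left
  have heq := hom_eq_of_pPowerIndex (F := centralizerSystem F R hQn.1) rfl le_rfl hCp hD.1.1 hDi hCs
    ⟨fun _ => le_rfl, (hyperfocal_le_focal _ p).trans (FocalCent.focal_le _ |>.trans le_rfl),
      fun _ _ => Subgroup.map_subtype_le _⟩
  refine (hE.2.2 _ D hD fun U C hC Q' => ?_) P |>.trans fun φ hφ => ?_
  · intro φ hφ
    rw [heq Q']
    obtain ⟨hCF, hU, hfix⟩ := fixes_core hC.1 hS hF hC.2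
    obtain ⟨g, hg, hg1, hg2⟩ := hfix Q' _ (isMap_toFun hφ)
    exact mem_centralizerHom.2 ⟨(C.le_of_mem hφ).1.trans hU, fun x => hU ((C.le_of_mem hφ).2 x),
      g, hg, fun x => (hg1 x x.2).trans (toFun_coe φ x), hg2⟩
  · exact hDi.1 P hφ

end Cfsg.Agent.Fus.CoreCent
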