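import Cfsg.Agent.Lib.Fus.FocalCentralizerMain
import Cfsg.Agent.Lib.Fus.SatCriterionExt

/-!
For a normal subsystem over `T`, every automorphism of a centric fully normalized subgroup `Q`
extends over `C_S(Q)` acting trivially on it modulo `T`.
-/

set_option autoImplicit false
set_option linter.style.haveILetI false
set_option linter.unusedSectionVars false

open scoped Classical

universe u

namespace Cfsg.Agent.Fus.InvExt

open Subgroup FusionSystem FocalCent

variable {Ω : Type u} [Group Ω] {S T : Subgroup Ω} {F : FusionSystem S} {E : FusionSystem T}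
  {p : ℕ}

/-- The automorphism extends over `C_S(Q)`, trivially modulo `T`. -/
def Triv (F : FusionSystem S) (T Q : Subgroup Ω) (α : MulAut Q) : Prop :=
  ∃ g, IsMap F (Q ⊔ centralizerIn S Q) g ∧ (∀ x ∈ Q, g x = autFun α x) ∧
    ∀ c ∈ centralizerIn S Q, c⁻¹ * g c ∈ T

theorem apply_mem_centralizer {Q W : Subgroup Ω} {α : MulAut Q} {g : Ω → Ω} (hg : IsMap F W g)
    (hQW : Q ≤ W) (he : ∀ x ∈ Q, g x = autFun α x) {c : Ω} (hc : c ∈ centralizerIn S Q)
    (hcW : c ∈ W) : g c ∈ centralizerIn S Q := by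
  have h := hg.map_centralizerIn hQW hcW hc.2
  rwa [show fimg g Q = Q from (fimg_congr he).trans (fimg_autFun α)] at h

theorem fimg_sup_centralizer [Finite S] {Q : Subgroup Ω} (hQS : Q ≤ S) {α : MulAut Q} {g : Ω → Ω}
    (hg : IsMap F (Q ⊔ centralizerIn S Q) g) (he : ∀ x ∈ Q, g x = autFun α x) :
    fimg g (Q ⊔ centralizerIn S Q) = Q ⊔ centralizerIn S Q := by
  haveI : Finite ↥(Q ⊔ centralizerIn S Q) := finite_of_le (sup_le hQS inf_le_left)
  refine Subgroup.eq_of_le_of_card_ge ?_ hg.card_fimg.ge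
  rw [hg.fimg_sup, show fimg g Q = Q from (fimg_congr he).trans (fimg_autFun α)]
  exact sup_le_sup_left (fimg_le fun c hc =>
    apply_mem_centralizer hg le_sup_left he hc (Subgroup.mem_sup_right hc)) _

theorem Triv.mul {Q : Subgroup Ω} [Finite S] (hQS : Q ≤ S) {α β : MulAut Q}
    (ha : Triv F T Q α) (hb : Triv F T Q β) : Triv F T Q (α * β) := by
  obtain ⟨g, hg, hge, hgc⟩ := ha
  obtain ⟨k, hk, hke, hkc⟩ := hb
  refine ⟨fun z => g (k z), hk.comp hg fun z hz =>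
    fimg_sup_centralizer hQS hk hke ▸ apply_mem_fimg k hz, fun x hx => ?_, fun c hc => ?_⟩
  · show g (k x) = _
    rw [hke x hx, hge _ (autFun_mem _ hx), autFun_mul _ _ hx]
  · have h1 := apply_mem_centralizer hk le_sup_left hke hc (Subgroup.mem_sup_right hc)
    show c⁻¹ * g (k c) ∈ T
    rw [show c⁻¹ * g (k c) = (c⁻¹ * k c) * ((k c)⁻¹ * g (k c)) by group]
    exact T.mul_mem (hkc c hc) (hgc _ h1)

theorem Triv.inv {Q : Subgroup Ω} [Finite S] (hQS : Q ≤ S) {α : MulAut Q} (ha : Triv F T Q α) :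
    Triv F T Q α⁻¹ := by
  obtain ⟨g, hg, hge, hgc⟩ := ha
  obtain ⟨g', hg', hg1, hg2, -⟩ := hg.exists_inv
  rw [fimg_sup_centralizer hQS hg hge] at hg' hg2
  have hge' : ∀ x ∈ Q, g' x = autFun α⁻¹ x := fun x hx => by
    have h1 : g (autFun α⁻¹ x) = x := by
      rw [hge _ (autFun_mem _ hx), ← autFun_mul _ _ hx, mul_inv_cancel, autFun_one hx]
    conv_lhs => rw [← h1]
    exact hg1 _ (Subgroup.mem_sup_left (autFun_mem _ hx))
  refine ⟨g', hg', hge', fun c hc => ?_⟩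
  have h1 := hgc _ (apply_mem_centralizer hg' le_sup_left hge' hc (Subgroup.mem_sup_right hc))
  rw [(hg2 c (Subgroup.mem_sup_right hc)).2] at h1
  simpa using T.inv_mem h1

/-- The automorphisms extending trivially modulo `T`. -/
def trivAuts [Finite S] (F : FusionSystem S) (T Q : Subgroup Ω) (hQ : Q ≤ S) :
    Subgroup (MulAut Q) where
  carrier := {α | Triv F T Q α}
  mul_mem' ha hb := Triv.mul hQ ha hb
  one_mem' := ⟨fun x => x, isMap_id F (sup_le hQ inf_le_left),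
    fun _ hx => (autFun_one hx).symm, fun c _ => by rw [inv_mul_cancel]; exact T.one_mem⟩
  inv_mem' ha := Triv.inv hQ ha

theorem mem_trivAuts [Finite S] {Q : Subgroup Ω} {hQ : Q ≤ S} {α : MulAut Q} :
    α ∈ trivAuts F T Q hQ ↔ Triv F T Q α := Iff.rfl

variable [Finite S]

theorem triv_conj (hT : F.StronglyClosed T) {Q : Subgroup Ω} (hQS : Q ≤ S) {α β : MulAut Q}
    {b : Ω → Ω} (hb : IsMap F (Q ⊔ centralizerIn S Q) b) (hbe : ∀ x ∈ Q, b x = autFun β x)
    (ha : Triv F T Q α) : Triv F T Q (β * α * β⁻¹) := by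
  obtain ⟨g, hg, hge, hgc⟩ := ha
  obtain ⟨b', hb', hb1, hb2, -⟩ := hb.exists_inv
  have hbU := fimg_sup_centralizer hQS hb hbe
  rw [hbU] at hb' hb2
  have hgm : ∀ z ∈ Q ⊔ centralizerIn S Q, g z ∈ Q ⊔ centralizerIn S Q := fun z hz =>
    fimg_sup_centralizer hQS hg hge ▸ apply_mem_fimg g hz
  have hbe' : ∀ x ∈ Q, b' x = autFun β⁻¹ x := fun x hx => by
    have h1 : b (autFun β⁻¹ x) = x := by
      rw [hbe _ (autFun_mem _ hx), ← autFun_mul _ _ hx, mul_inv_cancel, autFun_one hx]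
    conv_lhs => rw [← h1]
    exact hb1 _ (Subgroup.mem_sup_left (autFun_mem _ hx))
  refine ⟨fun z => b (g (b' z)), (hb'.comp hg fun z hz => (hb2 z hz).1).comp hb
    fun z hz => hgm _ (hb2 z hz).1, fun x hx => ?_, fun c hc => ?_⟩
  · show b (g (b' x)) = _
    rw [hbe' x hx, hge _ (autFun_mem _ hx), hbe _ (autFun_mem _ (autFun_mem _ hx)),
      autFun_mul _ _ hx, autFun_mul _ _ (autFun_mem _ hx)]
  · set d := b' c with hd
    have hdC : d ∈ centralizerIn S Q :=
      apply_mem_centralizer hb' le_sup_left hbe' hc (Subgroup.mem_sup_right hc)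
    have hdU : d ∈ Q ⊔ centralizerIn S Q := Subgroup.mem_sup_right hdC
    have hcd : c = b d := ((hb2 c (Subgroup.mem_sup_right hc)).2).symm
    show c⁻¹ * b (g d) ∈ T
    rw [hcd, ← hb.map_inv hdU, ← hb.map_mul (Subgroup.inv_mem _ hdU) (hgm d hdU)]
    exact StronglyClosed.apply_mem hT
      (hb.res (inf_le_right : T ⊓ (Q ⊔ centralizerIn S Q) ≤ _)) inf_le_left
      ⟨hgc d hdC, mul_mem (Subgroup.inv_mem _ hdU) (hgm d hdU)⟩

theorem autInducedBy_le_trivAuts (hT : F.StronglyClosed T) {Q : Subgroup Ω} (hQS : Q ≤ S) :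
    autInducedBy T Q ≤ trivAuts F T Q hQS := fun α hα => by
  obtain ⟨t, ht, hte⟩ := mem_autInducedBy.1 hα
  refine ⟨fun z => t * z * t⁻¹, isMap_conj F (sup_le hQS inf_le_left) (hT.1 ht), fun x hx => ?_,
    fun c hc => ?_⟩
  · show t * x * t⁻¹ = _
    rw [show autFun α x = ((α ⟨x, hx⟩ : Q) : Ω) from autFun_coe α ⟨x, hx⟩, hte]
  · rw [show c⁻¹ * (t * c * t⁻¹) = c⁻¹ * t * (c⁻¹)⁻¹ * t⁻¹ by group]
    exact T.mul_mem (StronglyClosed.conj_mem' hT (S.inv_mem hc.1) ht) (T.inv_mem ht)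

/-- Transport along a map between the normalizers. -/
theorem triv_transport (hT : F.StronglyClosed T) {Q Q₀ : Subgroup Ω} (hQS : Q ≤ S) {v : Ω → Ω}
    (hv : IsMap F (normalizerIn S Q) v) (hvQ : fimg v Q = Q₀)
    (hvN : fimg v (normalizerIn S Q) = normalizerIn S Q₀) (e : Q ≃* Q₀)
    (he : ∀ x : Q, (e x : Ω) = v x) {α : MulAut Q} (hα : Triv F T Q₀ (MulAut.congr e α)) :
    Triv F T Q α := by
  obtain ⟨g, hg, hge, hgc⟩ := hα
  have hQN := le_normalizerIn (S := S) hQS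
  have hUN : Q ⊔ centralizerIn S Q ≤ normalizerIn S Q :=
    sup_le hQN (centralizerIn_le_normalizerIn Q)
  have hQ₀S : Q₀ ≤ S := hvQ ▸ (hv.res hQN).fimg_le_S
  obtain ⟨v', hv', hv1, hv2, -⟩ := hv.exists_inv
  rw [hvN] at hv' hv2
  have hvC : ∀ c ∈ centralizerIn S Q, v c ∈ centralizerIn S Q₀ := fun c hc =>
    hvQ ▸ hv.map_centralizerIn hQN (centralizerIn_le_normalizerIn Q hc) hc.2
  have hvU : ∀ z ∈ Q ⊔ centralizerIn S Q, v z ∈ Q₀ ⊔ centralizerIn S Q₀ := fun z hz => by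
    have h1 := apply_mem_fimg v hz
    rw [(hv.res hUN).fimg_sup, hvQ] at h1
    exact sup_le_sup_left (fimg_le hvC) _ h1
  have hgm : ∀ z ∈ Q₀ ⊔ centralizerIn S Q₀, g z ∈ normalizerIn S Q₀ := fun z hz =>
    sup_le (le_normalizerIn hQ₀S) (centralizerIn_le_normalizerIn Q₀)
      (fimg_sup_centralizer hQ₀S hg hge ▸ apply_mem_fimg g hz)
  refine ⟨fun z => v' (g (v z)), ((hv.res hUN).comp hg hvU).comp hv' fun z hz => hgm _ (hvU z hz),
    fun x hx => ?_, fun c hc => ?_⟩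
  · have hvx : v x ∈ Q₀ := hvQ ▸ apply_mem_fimg v hx
    show v' (g (v x)) = _
    rw [hge _ hvx, ← he ⟨x, hx⟩, autFun_coe,
      show (MulAut.congr e) α (e ⟨x, hx⟩) = e (α ⟨x, hx⟩) by simp [MulAut.congr], he,
      hv1 _ (hQN (α ⟨x, hx⟩).2)]
    exact (autFun_coe α ⟨x, hx⟩).symm
  · have hd := hgc _ (hvC c hc)
    have hcN := centralizerIn_le_normalizerIn Q hc
    have hvc : v c ∈ normalizerIn S Q₀ := centralizerIn_le_normalizerIn Q₀ (hvC c hc)
    have hgvc := hgm _ (Subgroup.mem_sup_right (hvC c hc))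
    show c⁻¹ * v' (g (v c)) ∈ T
    conv => enter [2, 1, 1]; rw [← hv1 c hcN]
    rw [← hv'.map_inv hvc, ← hv'.map_mul (Subgroup.inv_mem _ hvc) hgvc]
    exact StronglyClosed.apply_mem hT
      (hv'.res (inf_le_right : T ⊓ normalizerIn S Q₀ ≤ _)) inf_le_left
      ⟨hd, mul_mem (Subgroup.inv_mem _ hvc) hgvc⟩

/-- A fully normalized subgroup of `T` is fully normalized in the subsystem. -/
theorem fullyNormalized_sub [Fact p.Prime] (hS : IsPGroup p S) (hF : F.IsSaturated p)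
    (hT : F.StronglyClosed T) (hEF : E.IsSubsystemOf F) {Q : Subgroup Ω} (hQT : Q ≤ T)
    (hQn : F.IsFullyNormalized Q) : E.IsFullyNormalized Q := by
  refine ⟨hQT, fun R hR => ?_⟩
  obtain ⟨r, hr, rfl⟩ := isConj_iff.1 hR
  obtain ⟨h, hh, -, hhN⟩ :=
    exists_map_to_fullyNormalized hS hF hQn (isConj_symm (hr.mono hEF).isConj)
  have hle : normalizerIn T (fimg r Q) ≤ normalizerIn S (fimg r Q) :=
    fun x hx => ⟨hT.1 hx.1, hx.2⟩
  haveI : Finite ↥(normalizerIn T Q) :=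
    finite_of_le (S := S) (inf_le_left.trans hT.1 : normalizerIn T Q ≤ S)
  rw [← (hh.res hle).card_fimg]
  exact Subgroup.card_le_of_le (fimg_le fun x hx =>
    ⟨StronglyClosed.apply_mem hT (hh.res hle) inf_le_left hx, (hhN x (hle hx)).2⟩)

/-- Automorphisms in a saturated subsystem induced by `S` are induced by `T`. -/
theorem inducedBy_of_mem [Fact p.Prime] (hS : IsPGroup p S) (hT : T ≤ S) (hEs : E.IsSaturated p)
    {Q : Subgroup Ω} (hQ : E.IsFullyNormalized Q) {χ : MulAut Q} (hχE : χ ∈ E.autGroup Q)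
    (hχS : χ ∈ autInducedBy S Q) : χ ∈ autInducedBy T Q := by
  haveI : Finite T := finite_of_le hT
  obtain ⟨-, W, hW⟩ := fullyAutomized_of_fullyNormalized (hS.to_le hT) hEs hQ
  haveI := finite_of_le hQ.1
  have h1 : (W : Subgroup (E.autGroup Q)) ≤ (autInducedBy S Q).subgroupOf (E.autGroup Q) := by
    rw [hW]
    exact Subgroup.comap_mono (autInducedBy_mono hT Q)
  have h2 := W.is_maximal' (isPGroup_autInducedBy hS Q).comap_subtype h1
  have h3 : (⟨χ, hχE⟩ : E.autGroup Q) ∈ (autInducedBy S Q).comap (E.autGroup Q).subtype := hχS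
  rw [h2, hW] at h3
  exact h3

end Cfsg.Agent.Fus.InvExt
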