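import Mathlib
import Cfsg.Agent.Lib.Fus.CoreCentralizes
import Cfsg.Agent.Lib.Fus.InvariantExtension
import Cfsg.Agent.Lib.Fus.ResidualInvariant
import Cfsg.Agent.Lib.Fus.HypAction

/-!
The `p'`-residual of a weakly normal subsystem is normal: its automorphisms of the support extend
over the centralizer, trivially modulo the support.
-/

set_option autoImplicit false
set_option linter.style.haveILetI false
set_option linter.unusedSectionVars false

open scoped Classical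

universe u

namespace Cfsg.Agent.Fus.ResNorm

open Subgroup FusionSystem FocalCent CoreCent

variable {Ω : Type u} [Group Ω] {S T : Subgroup Ω} {F : FusionSystem S} {E : FusionSystem T}
  {p : ℕ}

/-- An element of `p`-power order lies in every normal subgroup containing a Sylow subgroup. -/
theorem mem_of_sylow_le {G : Type*} [Group G] [Finite G] [Fact p.Prime] (W : Sylow p G)
    (K : Subgroup G) [K.Normal] (h : (W : Subgroup G) ≤ K) {x : G} {k : ℕ} (hx : x ^ p ^ k = 1) :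
    x ∈ K := by
  rw [← QuotientGroup.eq_one_iff]
  have hc : (Nat.card (G ⧸ K)).Coprime p :=
    ((Fact.out : p.Prime).coprime_iff_not_dvd.2 fun hd =>
      W.not_dvd_index (hd.trans (Subgroup.index_dvd_of_le h))).symm
  exact InvClass.eq_one_of_pow_prime_pow hc (k := k)
    (by rw [← QuotientGroup.mk_pow, hx, QuotientGroup.mk_one])

theorem centralizerIn_comm {t c : Ω} (ht : t ∈ T) (hc : c ∈ centralizerIn S T) :
    t * c = c * t := (mem_centralizerIn.1 hc).2 t ht

theorem le_normalizer_centralizerIn {P : Subgroup Ω} :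
    P ≤ Subgroup.normalizer ((centralizerIn S P : Subgroup Ω) : Set Ω) := by
  have key : ∀ s ∈ P, ∀ c ∈ centralizerIn S P, s * c * s⁻¹ ∈ centralizerIn S P := by
    intro s hs c hc
    rwa [(mem_centralizerIn.1 hc).2 s hs, mul_inv_cancel_right]
  exact fun t ht => mem_normalizer_of_forall (key t ht) fun c hc => by
    simpa using key t⁻¹ (P.inv_mem ht) c hc

variable [Finite S] [Fact p.Prime]

/-- Composition of maps extending trivially modulo `T`. -/
theorem Mod.comp' (hT : F.StronglyClosed T) {P R : Subgroup Ω} {f f' : Ω → Ω}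
    (h : Mod F (centralizerIn S T) T P f) (h' : Mod F (centralizerIn S T) T R f')
    (hm : ∀ x ∈ P, f x ∈ R) (hP : P ≤ T)
    (hcent : centralizerIn T (fimg f P) ≤ R) (hR : R ≤ T) :
    Mod F (centralizerIn S T) T P (fun x => f' (f x)) := by
  obtain ⟨g, hg, h1, h2⟩ := h
  obtain ⟨g', hg', h1', h2'⟩ := h'
  set C := centralizerIn S T with hC
  have hsplit : ∀ c ∈ C, ∃ w ∈ R, g c = c * w := by
    intro c hc
    refine ⟨c⁻¹ * g c, hcent (mem_centralizerIn.2 ⟨h2 c hc, fun y hy => ?_⟩), by group⟩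
    obtain ⟨x, hx, rfl⟩ := (((hg.res le_sup_left).congr h1).mem_fimg_iff).1 hy
    have hxT : f x ∈ T := hR (hm x hx)
    have e1 : f x * g c = g c * f x := by
      rw [← h1 x hx, ← hg.map_mul (Subgroup.mem_sup_left hx) (Subgroup.mem_sup_right hc),
        ← hg.map_mul (Subgroup.mem_sup_right hc) (Subgroup.mem_sup_left hx),
        centralizerIn_comm (hP hx) hc]
    have e2 : f x * c = c * f x := centralizerIn_comm hxT hc
    calc f x * (c⁻¹ * g c) = c⁻¹ * (c * f x) * c⁻¹ * g c := by group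
      _ = c⁻¹ * (f x * g c) := by rw [← e2]; group
      _ = c⁻¹ * g c * f x := by rw [e1]; group
  have hm' : ∀ z ∈ P ⊔ C, g z ∈ R ⊔ C := fun z hz => by
    have h3 := apply_mem_fimg g hz
    rw [hg.fimg_sup] at h3
    refine (sup_le ?_ ?_ : fimg g P ⊔ fimg g C ≤ R ⊔ C) h3
    · exact fimg_le fun w hw => Subgroup.mem_sup_left ((h1 w hw).symm ▸ hm w hw)
    · exact fimg_le fun c hc => by
        obtain ⟨w, hw, he⟩ := hsplit c hc
        rw [he]
        exact mul_mem (Subgroup.mem_sup_right hc) (Subgroup.mem_sup_left hw)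
  refine ⟨_, hg.comp hg' hm', fun x hx => ?_, fun c hc => ?_⟩
  · show g' (g x) = f' (f x)
    rw [h1 x hx, h1' _ (hm x hx)]
  · show c⁻¹ * g' (g c) ∈ T
    obtain ⟨w, hw, he⟩ := hsplit c hc
    rw [he, hg'.map_mul (Subgroup.mem_sup_right hc) (Subgroup.mem_sup_left hw), ← mul_assoc]
    exact T.mul_mem (h2' c hc) (StronglyClosed.apply_mem hT (hg'.res le_sup_left) hR hw)

/-- The automorphisms of `p`-power order of centric subgroups extend trivially modulo `T`. -/
theorem mod_pGenAuts (hS : IsPGroup p S) (hE : E.IsWeaklyNormalIn F p) {Q : Subgroup Ω}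
    (hQ : E.IsCentric Q) {α : MulAut Q} (hα : α ∈ PrimeIndex.pGenAuts E p Q) :
    Mod F (centralizerIn S T) T Q (autFun α) := by
  obtain ⟨hEs, hF, hinv⟩ := hE
  have hT := hinv.2.1
  have hTS := hT.1
  haveI : Finite T := finite_of_le hTS
  have hTp : IsPGroup p T := hS.to_le hTS
  have hQT : Q ≤ T := hQ.1
  have hQS : Q ≤ S := hQT.trans hTS
  haveI := finite_of_le hQS
  obtain ⟨R, hR, hRn⟩ := exists_fullyNormalized F hQS
  obtain ⟨v, hv, hvQ, -⟩ := exists_map_to_fullyNormalized hS hF hRn hR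
  subst hvQ
  set R := fimg v Q with hRdef
  have hQN := le_normalizerIn (S := S) hQS
  have hvQm := hv.res hQN
  have hRc : E.IsCentric R := InvClass.centric_transport hinv hQ hvQm
  have hRT : R ≤ T := hRc.1
  have hRS : R ≤ S := hRn.1
  haveI := finite_of_le hRS
  obtain ⟨e, he, -⟩ := exists_mulEquiv hvQm rfl
  obtain ⟨w, hw, hw1, hw2, hwi⟩ := hvQm.exists_inv
  have he' : ∀ y : R, (e.symm y : Ω) = w y := by
    intro y
    obtain ⟨x, rfl⟩ := e.surjective y
    rw [e.symm_apply_apply, he, hw1 x x.2]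
  have hwR : fimg w R = Q := by
    rw [hRdef, ← hvQm.fimg_comp]
    exact (fimg_congr fun x hx => hw1 x hx).trans (fimg_id Q)
  have heE : ∀ γ, γ ∈ E.autGroup Q ↔ MulAut.congr e γ ∈ E.autGroup R := fun γ => by
    refine ⟨fun h => InvClass.congr_autGroup hinv hQT hvQm rfl e he h, fun h => ?_⟩
    have h' := InvClass.congr_autGroup hinv hRT hw hwR e.symm he' h
    convert h' using 1
    ext x
    simp [MulAut.congr]
  have hβ := PrimeIndex.congr_pGenAuts e heE hα
  obtain ⟨g, hg, hge, hgc⟩ : InvExt.Triv F T R (MulAut.congr e α) := by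
    obtain ⟨-, W, hW⟩ := fullyAutomized_of_fullyNormalized hTp hEs
      (InvExt.fullyNormalized_sub hS hF hT hinv.1 hRT hRn)
    set K := (InvExt.trivAuts F T R hRS).subgroupOf (E.autGroup R) with hK
    haveI : K.Normal := ⟨fun a ha b => by
      obtain ⟨k, hk, hke⟩ := receptive_extend (receptive_of_fullyNormalized hS hF hRn)
        ((mem_autGroup hRS).1 (autGroup_mono hinv.1 R b.2)) (fimg_autFun _)
        (N := R ⊔ centralizerIn S R) (fun z hz => by
          obtain ⟨x, hx, c, hc, rfl⟩ := mem_sup_dest le_normalizer_centralizerIn hz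
          refine ⟨Subgroup.mul_mem _ (le_normalizerIn hRS hx)
            (centralizerIn_le_normalizerIn R hc), autFun (b : MulAut R) x,
            hRS (autFun_mem _ hx), fun y hy => ?_⟩
          have hb := (mem_autGroup hRS).1 (autGroup_mono hinv.1 R b.2)
          rw [show x * c * y * (x * c)⁻¹ = x * (c * y * c⁻¹) * x⁻¹ by group,
            show c * y * c⁻¹ = y by rw [← (mem_centralizerIn.1 hc).2 y hy, mul_inv_cancel_right],
            hb.map_conj hx hy]) le_sup_left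
      exact InvExt.triv_conj hT hRS hk hke ha⟩
    have hWK : (W : Subgroup (E.autGroup R)) ≤ K := by
      rw [hW]
      exact Subgroup.comap_mono (InvExt.autInducedBy_le_trivAuts hT hRS)
    obtain ⟨a, ha, hae⟩ := Subgroup.mem_map.1 hβ
    have : a ∈ K := (Subgroup.closure_le K).2 (fun x hx => by
      obtain ⟨k, hk⟩ := hx
      exact mem_of_sylow_le W K hWK (k := k) (hk ▸ pow_orderOf_eq_one x)) ha
    rw [← hae]
    exact this
  -- pull back along `v`
  set C := centralizerIn S T with hC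
  have hCQ : C ≤ centralizerIn S Q := inf_le_inf_left S (Subgroup.centralizer_le hQT)
  have hMN : Q ⊔ C ≤ normalizerIn S Q :=
    sup_le hQN (hCQ.trans (centralizerIn_le_normalizerIn Q))
  have hvM := hv.res hMN
  have hvC : ∀ c ∈ C, v c ∈ centralizerIn S R := fun c hc =>
    hv.map_centralizerIn hQN (hMN (Subgroup.mem_sup_right hc)) (hCQ hc).2
  have hgR : ∀ y ∈ R, g y ∈ R := fun y hy => by rw [hge y hy]; exact autFun_mem _ hy
  have hgvc : ∀ c ∈ C, ∃ x ∈ Q, g (v c) = v (c * x) := by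
    intro c hc
    have h1 := InvExt.apply_mem_centralizer hg le_sup_left hge (hvC c hc)
      (Subgroup.mem_sup_right (hvC c hc))
    have h2 : (v c)⁻¹ * g (v c) ∈ R := centralizerIn_le_of_centric hRc ⟨hgc _ (hvC c hc),
      Subgroup.mul_mem _ (Subgroup.inv_mem _ (hvC c hc).2) h1.2⟩
    obtain ⟨x, hx, hxe⟩ := hvQm.mem_fimg_iff.1 h2
    refine ⟨x, hx, ?_⟩
    rw [hvM.map_mul (Subgroup.mem_sup_right hc) (Subgroup.mem_sup_left hx), hxe]
    group
  have hvsub : ∀ z ∈ Q ⊔ C, v z ∈ R ⊔ centralizerIn S R := fun z hz => by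
    have h1 := apply_mem_fimg v hz
    rw [hvM.fimg_sup] at h1
    exact (sup_le_sup_left (fimg_le hvC) R) h1
  have hgv : ∀ z ∈ Q ⊔ C, g (v z) ∈ fimg v (Q ⊔ C) := fun z hz => by
    have h1 := apply_mem_fimg (fun z => g (v z)) hz
    rw [(hvM.comp hg hvsub).fimg_sup] at h1
    refine (sup_le (fimg_le fun x hx => ?_) (fimg_le fun c hc => ?_) :
      fimg (fun z => g (v z)) Q ⊔ fimg (fun z => g (v z)) C ≤ fimg v (Q ⊔ C)) h1
    · exact fimg_mono v le_sup_left (hgR _ (apply_mem_fimg v hx))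
    · obtain ⟨x, hx, hxe⟩ := hgvc c hc
      show g (v c) ∈ _
      rw [hxe]
      exact apply_mem_fimg v (mul_mem (Subgroup.mem_sup_right hc) (Subgroup.mem_sup_left hx))
  obtain ⟨v', hv', hv1, hv2, -⟩ := hvM.exists_inv
  refine ⟨fun z => v' (g (v z)), (hvM.comp hg hvsub).comp hv' hgv, fun x hx => ?_, fun c hc => ?_⟩
  · show v' (g (v x)) = _
    rw [hge _ (apply_mem_fimg v hx), show v x = ((e ⟨x, hx⟩ : R) : Ω) from (he ⟨x, hx⟩).symm,
      autFun_coe, show (MulAut.congr e) α (e ⟨x, hx⟩) = e (α ⟨x, hx⟩) by simp [MulAut.congr], he,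
      hv1 _ (Subgroup.mem_sup_left (α ⟨x, hx⟩).2)]
    exact (autFun_coe α ⟨x, hx⟩).symm
  · obtain ⟨x, hx, hxe⟩ := hgvc c hc
    show c⁻¹ * v' (g (v c)) ∈ T
    rw [hxe, hv1 _ (mul_mem (Subgroup.mem_sup_right hc) (Subgroup.mem_sup_left hx)),
      inv_mul_cancel_left]
    exact hQT hx

/-- Generated maps from centric subgroups extend trivially modulo `T`. -/
theorem mod_pGen (hS : IsPGroup p S) (hE : E.IsWeaklyNormalIn F p) {P : Subgroup Ω} {f : Ω → Ω}
    (h : PrimeIndex.PGen E p P f) : E.IsCentric P → Mod F (centralizerIn S T) T P f := by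
  obtain ⟨hEs, hF, hinv⟩ := id hE
  have hT := hinv.2.1
  induction h with
  | aut hQ hα hPQ hf =>
    intro _
    exact ((mod_pGenAuts hS hE hQ hα).res hPQ).congr fun x hx => (hf x hx).symm
  | @inner P t f hP ht hf =>
    intro _
    refine ⟨fun x => t * x * t⁻¹, isMap_conj F (sup_le (hP.trans hT.1) inf_le_left) (hT.1 ht),
      fun x hx => (hf x hx).symm, fun c hc => ?_⟩
    show c⁻¹ * (t * c * t⁻¹) ∈ T
    rw [centralizerIn_comm ht hc, mul_inv_cancel_right, inv_mul_cancel]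
    exact T.one_mem
  | @comp P Q f g k hf hg hm hk ihf ihg =>
    intro hP
    have hfP : E.IsCentric (fimg f P) := centric_of_isConj hP hf.isMap.isConj
    have hQT : Q ≤ T := hg.isMap.source_le
    have hle : fimg f P ≤ Q := fimg_le hm
    have hQ : E.IsCentric Q := centric_mono hfP hle hQT
    exact (Mod.comp' hT (ihf hP) (ihg hQ) hm hP.1
      ((centralizerIn_le_of_centric hfP).trans hle) hQT).congr fun x hx => (hk x hx).symm

/-- The automorphisms of `M` acting on `P` as elements of `N` and trivially on `C` modulo `T`. -/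
def innerish (F : FusionSystem S) (hT : F.StronglyClosed T) {P C M N : Subgroup Ω}
    (hMS : M ≤ S) (hPM : P ≤ M) (hCM : C ≤ M) (hNP : N ≤ Subgroup.normalizer (P : Set Ω))
    [Finite M] : Subgroup (MulAut M) :=
  let X : Submonoid (MulAut M) :=
    { carrier := {a | a ∈ F.autGroup M ∧ ∃ t ∈ N, (∀ x ∈ P, autFun a x = t * x * t⁻¹) ∧
        ∀ c ∈ C, c⁻¹ * autFun a c ∈ T}
      one_mem' := ⟨one_mem _, 1, N.one_mem, fun x hx => by rw [autFun_one (hPM hx)]; simp,
        fun c hc => by rw [autFun_one (hCM hc), inv_mul_cancel]; exact T.one_mem⟩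
      mul_mem' := by
        rintro a b ⟨ha, t, ht, hat, hac⟩ ⟨hb, s, hs, hbs, hbc⟩
        refine ⟨mul_mem ha hb, t * s, N.mul_mem ht hs, fun x hx => ?_, fun c hc => ?_⟩
        · rw [autFun_mul _ _ (hPM hx), hbs x hx,
            hat _ ((Subgroup.mem_normalizer_iff.1 (hNP hs) x).1 hx)]
          group
        · have hz : c⁻¹ * autFun b c ∈ T ⊓ M :=
            ⟨hbc c hc, M.mul_mem (M.inv_mem (hCM hc)) (autFun_mem b (hCM hc))⟩
          have ham := (mem_autGroup hMS).1 ha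
          rw [autFun_mul _ _ (hCM hc), show autFun b c = c * (c⁻¹ * autFun b c) by group,
            ham.map_mul (hCM hc) hz.2, ← mul_assoc]
          exact T.mul_mem (hac c hc)
            (StronglyClosed.apply_mem hT (ham.res inf_le_right) inf_le_left hz) }
  { X with inv_mem' := fun {a} ha =>
      (Submonoid.powers_le.2 ha) (mem_powers_iff_mem_zpowers.2
        (inv_mem (Subgroup.mem_zpowers a))) }

theorem mem_innerish {hT : F.StronglyClosed T} {P C M N : Subgroup Ω} {hMS : M ≤ S}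
    {hPM : P ≤ M} {hCM : C ≤ M} {hNP : N ≤ Subgroup.normalizer (P : Set Ω)} [Finite M]
    {a : MulAut M} :
    a ∈ innerish F hT hMS hPM hCM hNP ↔ a ∈ F.autGroup M ∧ ∃ t ∈ N,
      (∀ x ∈ P, autFun a x = t * x * t⁻¹) ∧ ∀ c ∈ C, c⁻¹ * autFun a c ∈ T := Iff.rfl

theorem autFun_pow_conj {P M : Subgroup Ω} (hPM : P ≤ M) {t : Ω}
    (ht : t ∈ Subgroup.normalizer (P : Set Ω)) {a : MulAut M}
    (h : ∀ x ∈ P, autFun a x = t * x * t⁻¹) (n : ℕ) :
    ∀ x ∈ P, autFun (a ^ n) x = t ^ n * x * (t ^ n)⁻¹ := by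
  induction n with
  | zero => intro x hx; rw [pow_zero, autFun_one (hPM hx)]; simp
  | succ n ih =>
    intro x hx
    rw [pow_succ, autFun_mul _ _ (hPM hx), h x hx,
      ih _ ((Subgroup.mem_normalizer_iff.1 ht x).1 hx), pow_succ]
    group

theorem autFun_pow_shift {M : Subgroup Ω} {a : MulAut M} {u z : Ω} (hu : u ∈ M) (hz : z ∈ M)
    (h : autFun a u = u * z) (hfix : autFun a z = z) (ham : ∀ x ∈ M, ∀ y ∈ M,
      autFun a (x * y) = autFun a x * autFun a y) (n : ℕ) :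
    autFun (a ^ n) u = u * z ^ n := by
  induction n with
  | zero => rw [pow_zero, autFun_one hu, pow_zero, mul_one]
  | succ n ih =>
    have hzn : autFun a (z ^ n) = z ^ n := by
      clear ih
      induction n with
      | zero =>
        have := ham 1 M.one_mem 1 M.one_mem
        rw [mul_one, left_eq_mul] at this
        rw [pow_zero]
        exact this
      | succ n ih => rw [pow_succ, ham _ (M.pow_mem hz n) _ hz, ih, hfix]
    rw [pow_succ', autFun_mul _ _ hu, ih, ham _ hu _ (M.pow_mem hz n), h, hzn, pow_succ', mul_assoc]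

theorem isPGroup_innerish (hS : IsPGroup p S) {hT : F.StronglyClosed T} {P C M N : Subgroup Ω}
    {hMS : M ≤ S} {hPM : P ≤ M} {hCM : C ≤ M} {hNP : N ≤ Subgroup.normalizer (P : Set Ω)}
    [Finite M] (hNT : N ≤ T) (hMPC : ∀ u ∈ M, ∃ x ∈ P, ∃ c ∈ C, x * c = u)
    (hCP : ∀ x ∈ P, ∀ c ∈ C, x * c = c * x) (hPc : centralizerIn T P ≤ P) :
    IsPGroup p (innerish F hT hMS hPM hCM hNP) := by
  rintro ⟨a, ha⟩
  obtain ⟨haF, t, ht, hat, -⟩ := mem_innerish.1 ha
  obtain ⟨i, hi⟩ := hS ⟨t, hT.1 (hNT ht)⟩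
  obtain ⟨l, hl⟩ := IsPGroup.iff_card.1 hS
  set b := a ^ p ^ i with hb
  have hbP : ∀ x ∈ P, autFun b x = x := fun x hx => by
    rw [hb, autFun_pow_conj hPM (hNP ht) hat _ x hx, show t ^ p ^ i = 1 from congrArg Subtype.val hi]
    simp
  obtain ⟨hbF, -, -, -, hbC⟩ := mem_innerish.1 (pow_mem ha (p ^ i))
  have hbm := (mem_autGroup hMS).1 hbF
  have hbl : b ^ p ^ l = 1 := by
    refine mulAut_ext fun u hu => ?_
    rw [autFun_one hu]
    obtain ⟨x, hx, c, hc, rfl⟩ := hMPC u hu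
    have hcM := hCM hc
    set z := c⁻¹ * autFun b c with hz
    have hzT : z ∈ T := hbC c hc
    have hzP : z ∈ P := hPc (mem_centralizerIn.2 ⟨hzT, fun y hy => by
      have e1 : y * autFun b c = autFun b c * y := by
        rw [← hbP y hy, ← hbm.map_mul (hPM hy) hcM, ← hbm.map_mul hcM (hPM hy), hCP y hy c hc]
      calc y * z = c⁻¹ * (c * y) * c⁻¹ * autFun b c := by rw [hz]; group
        _ = c⁻¹ * (y * autFun b c) := by rw [← hCP y hy c hc]; group
        _ = z * y := by rw [e1, hz]; group⟩)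
    have h1 : ∀ n, autFun (b ^ n) c = c * z ^ n :=
      autFun_pow_shift hcM (hPM hzP) (by rw [hz]; group) (hbP z hzP)
        fun u hu w hw => hbm.map_mul hu hw
    have hbx : ∀ n : ℕ, autFun (b ^ n) x = x := fun n => by
      have h := autFun_pow_conj (t := 1) hPM (Subgroup.one_mem _)
        (fun y hy => by rw [hbP y hy]; simp) n x hx
      simpa using h
    have hzl : z ^ p ^ l = 1 := by
      have h := pow_card_eq_one' (x := (⟨z, hT.1 hzT⟩ : S))
      rw [hl] at h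
      exact congrArg Subtype.val h
    rw [((mem_autGroup hMS).1 (pow_mem hbF _)).map_mul (hPM hx) hcM, hbx, h1, hzl, mul_one]
  exact ⟨i + l, Subtype.ext (by rw [SubmonoidClass.coe_pow, pow_add, pow_mul, ← hb, hbl]; rfl)⟩

/-- The step: a coprime automorphism of `P ⊔ C` fixing a centric `P` has a power extending over
`N_T(P)`, fixing it. -/
theorem lift_step (hS : IsPGroup p S) (hE : E.IsWeaklyNormalIn F p) {P : Subgroup Ω}
    (hP : E.IsCentric P) {C M : Subgroup Ω} (hC : C = centralizerIn S T) (hMdef : M = P ⊔ C)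
    {γ : MulAut M} (hγ : γ ∈ F.autGroup M) (hfix : ∀ x ∈ P, autFun γ x = x) :
    ∃ (j : ℕ) (δ : MulAut ↥(normalizerIn T P ⊔ C)),
      δ ∈ F.autGroup (normalizerIn T P ⊔ C) ∧
      (∀ n ∈ normalizerIn T P, autFun δ n = n) ∧ (orderOf δ).Coprime p ∧
      ∀ u ∈ M, autFun δ u = autFun (γ ^ p ^ j) u := by
  obtain ⟨hEs, hF, hinv⟩ := hE
  have hT := hinv.2.1
  have hTS := hT.1
  haveI : Finite T := finite_of_le hTS
  have hPT : P ≤ T := hP.1
  set N := normalizerIn T P with hN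
  set W := N ⊔ C with hWdef
  have hNT : N ≤ T := inf_le_left
  have hNP : N ≤ Subgroup.normalizer (P : Set Ω) := inf_le_right
  have hPN : P ≤ N := le_normalizerIn hPT
  have hMW : M ≤ W := hMdef ▸ sup_le_sup_right hPN C
  have hWS : W ≤ S := sup_le (hNT.trans hTS) (hC ▸ inf_le_left)
  have hMS : M ≤ S := hMW.trans hWS
  haveI : Finite ↥M := finite_of_le hMS
  haveI : Finite ↥W := finite_of_le hWS
  have hPM : P ≤ M := hMdef ▸ le_sup_left
  have hCM : C ≤ M := hMdef ▸ le_sup_right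
  have hNC : N ≤ Subgroup.normalizer (C : Set Ω) := hC ▸ hNT.trans le_normalizer_centralizerIn
  have hcomm : ∀ n ∈ T, ∀ c ∈ C, n * c = c * n := fun n hn c hc =>
    centralizerIn_comm (S := S) hn (hC ▸ hc)
  have hγm : IsMap F M (autFun γ) := (mem_autGroup hMS).1 hγ
  have hMPC : ∀ u ∈ M, ∃ x ∈ P, ∃ c ∈ C, x * c = u := fun u hu => by
    rw [hMdef] at hu
    obtain ⟨x, hx, c, hc, rfl⟩ := mem_sup_dest (hPN.trans hNC) hu
    exact ⟨x, hx, c, hc, rfl⟩
  set X := innerish F hT hMS hPM hCM hNP with hX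
  have hXp : IsPGroup p X := isPGroup_innerish hS hNT hMPC
    (fun x hx c hc => hcomm x (hPT hx) c hc) (centralizerIn_le_of_centric hP)
  -- twisting conjugation by elements of `N` by `γ` stays in `X`
  have hWM : ∀ w ∈ W, w ∈ Subgroup.normalizer (M : Set Ω) := by
    refine fun w hw => (sup_le (fun n hn => ?_) (fun c hc => ?_) :
      N ⊔ C ≤ Subgroup.normalizer (M : Set Ω)) hw
    · have key : ∀ n ∈ N, ∀ u ∈ M, n * u * n⁻¹ ∈ M := by
        intro n hn u hu
        obtain ⟨x, hx, c, hc, rfl⟩ := hMPC u hu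
        rw [show n * (x * c) * n⁻¹ = n * x * n⁻¹ * (n * c * n⁻¹) by group,
          show n * c * n⁻¹ = c by rw [hcomm n (hNT hn) c hc, mul_inv_cancel_right]]
        exact M.mul_mem (hPM ((Subgroup.mem_normalizer_iff.1 (hNP hn) x).1 hx)) (hCM hc)
      exact mem_normalizer_of_forall (key n hn) fun u hu => by
        simpa using key n⁻¹ (N.inv_mem hn) u hu
    · exact Subgroup.le_normalizer (hCM hc)
  have hXmem : ∀ n ∈ N, ∃ a ∈ X, ∀ u ∈ M,
      autFun a (autFun γ u) = autFun γ (n * u * n⁻¹) := by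
    intro n hn
    have hnM := hWM n (Subgroup.mem_sup_left hn)
    set cn : MulAut M := M.normalizerMonoidHom ⟨n, hnM⟩ with hcn
    have hcnF : cn ∈ F.autGroup M := autInducedBy_le_autGroup F hMS
      (mem_autInducedBy.2 ⟨n, hTS (hNT hn), fun _ => rfl⟩)
    have hcne : ∀ u ∈ M, autFun cn u = n * u * n⁻¹ := fun u hu =>
      (autFun_coe cn ⟨u, hu⟩).trans rfl
    have hae : ∀ u ∈ M, autFun (γ * cn * γ⁻¹) (autFun γ u) = autFun γ (n * u * n⁻¹) :=
      fun u hu => by
        rw [autFun_mul _ _ (autFun_mem γ hu), autFun_inv_apply γ hu, autFun_mul _ _ hu, hcne u hu]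
    refine ⟨γ * cn * γ⁻¹, mem_innerish.2 ⟨mul_mem (mul_mem hγ hcnF) (inv_mem hγ), n, hn,
      fun x hx => ?_, fun c hc => ?_⟩, hae⟩
    · have h := hae x (hPM hx)
      rwa [hfix x hx, hfix _ ((Subgroup.mem_normalizer_iff.1 (hNP hn) x).1 hx)] at h
    · have hd : autFun γ⁻¹ c ∈ M := autFun_mem _ (hCM hc)
      have hγd : autFun γ (autFun γ⁻¹ c) = c := by
        rw [← autFun_mul _ _ (hCM hc), mul_inv_cancel, autFun_one (hCM hc)]
      have h := hae _ hd
      rw [hγd] at h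
      obtain ⟨x, hx, d, hdC, he⟩ := hMPC _ hd
      have hnx : n * x * n⁻¹ * x⁻¹ ∈ P :=
        P.mul_mem ((Subgroup.mem_normalizer_iff.1 (hNP hn) x).1 hx) (P.inv_mem hx)
      rw [h, ← he, show n * (x * d) * n⁻¹ = n * x * n⁻¹ * x⁻¹ * (x * d) by
        rw [show n * (x * d) * n⁻¹ = n * x * n⁻¹ * (n * d * n⁻¹) by group,
          hcomm n (hNT hn) d hdC, mul_inv_cancel_right]
        group,
        hγm.map_mul (hPM hnx) (M.mul_mem (hPM hx) (hCM hdC)), hfix _ hnx, he, hγd]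
      rw [show c⁻¹ * (n * x * n⁻¹ * x⁻¹ * c) = c⁻¹ * (n * x * n⁻¹ * x⁻¹) * (c⁻¹)⁻¹ by group]
      exact StronglyClosed.conj_mem' hT (S.inv_mem (hMS (hCM hc))) (hPT hnx)
  -- move `X` into the automizer of a fully normalized conjugate
  obtain ⟨Q, hQ, hQn⟩ := exists_fullyNormalized F hMS
  haveI := finite_of_le hQn.1
  obtain ⟨φ, hφ, hφQ, hφX⟩ : ∃ φ, IsMap F M φ ∧ fimg φ M = Q ∧
      ∀ a ∈ X, ∃ s ∈ S, ∀ u ∈ M, φ (autFun a u) = s * φ u * s⁻¹ := by
    obtain ⟨v, hv, hvQ⟩ := isConj_iff.1 hQ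
    obtain ⟨e, he, heA⟩ := exists_mulEquiv hv hvQ
    obtain ⟨-, R, hR⟩ := fullyAutomized_of_fullyNormalized hS hF hQn
    let ψ : X →* F.autGroup Q := ((MulAut.congr e).toMonoidHom.comp X.subtype).codRestrict _
      fun a => (heA _).1 (mem_innerish.1 a.2).1
    obtain ⟨R', hR'⟩ := (IsPGroup.of_surjective hXp ψ.rangeRestrict ψ.rangeRestrict_surjective).exists_le_sylow
    obtain ⟨b, hb⟩ := MulAction.exists_smul_eq (F.autGroup Q) R' R
    have hbm := (mem_autGroup hQn.1).1 b.2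
    have hvm : ∀ u ∈ M, v u ∈ Q := fun u hu => hvQ ▸ apply_mem_fimg v hu
    refine ⟨fun u => autFun (b : MulAut Q) (v u), hv.comp hbm hvm,
      by rw [hv.fimg_comp, hvQ, fimg_autFun], fun a ha => ?_⟩
    have h1 : b * ψ ⟨a, ha⟩ * b⁻¹ ∈ (R : Subgroup (F.autGroup Q)) := by
      rw [← hb]
      exact Subgroup.smul_mem_pointwise_smul _ (MulAut.conj b) _ (hR' ⟨⟨a, ha⟩, rfl⟩)
    rw [hR] at h1
    obtain ⟨s, hs, hse⟩ := mem_autInducedBy.1 h1
    refine ⟨s, hs, fun u hu => ?_⟩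
    show autFun (b : MulAut Q) (v (autFun a u)) =
      s * autFun (b : MulAut Q) (v u) * s⁻¹
    have e0 : v u = ((e ⟨u, hu⟩ : Q) : Ω) := (he ⟨u, hu⟩).symm
    have e1 : v (autFun a u) = ((e (a ⟨u, hu⟩) : Q) : Ω) := by
      rw [show autFun a u = ((a ⟨u, hu⟩ : M) : Ω) from autFun_coe a ⟨u, hu⟩, he]
    rw [e0, e1, autFun_coe, autFun_coe]
    refine Eq.trans ?_ (hse ((b : MulAut Q) (e ⟨u, hu⟩)))
    congr 1
    show (b : MulAut Q) (e (a ⟨u, hu⟩)) =
      (b : MulAut Q) ((MulAut.congr e a) ((b : MulAut Q)⁻¹ ((b : MulAut Q) (e ⟨u, hu⟩))))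
    simp [MulAut.congr]
  have hrec := receptive_of_fullyNormalized hS hF hQn
  have hXconj : ∀ n ∈ N, ∃ s ∈ S, ∀ u ∈ M,
      φ (n * u * n⁻¹) = s * φ u * s⁻¹ := by
    intro n hn
    have hnM := hWM n (Subgroup.mem_sup_left hn)
    set cn : MulAut M := M.normalizerMonoidHom ⟨n, hnM⟩
    have hcn : cn ∈ X := mem_innerish.2 ⟨autInducedBy_le_autGroup F hMS
      (mem_autInducedBy.2 ⟨n, hTS (hNT hn), fun _ => rfl⟩), n, hn,
      fun x hx => (autFun_coe cn ⟨x, hPM hx⟩).trans rfl, fun c hc => by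
      rw [(autFun_coe cn ⟨c, hCM hc⟩).trans rfl]
      show c⁻¹ * (n * c * n⁻¹) ∈ T
      rw [hcomm n (hNT hn) c hc, mul_inv_cancel_right, inv_mul_cancel]
      exact T.one_mem⟩
    obtain ⟨s, hs, hse⟩ := hφX _ hcn
    exact ⟨s, hs, fun u hu => by rw [← hse u hu, (autFun_coe cn ⟨u, hu⟩).trans rfl]; rfl⟩
  have hWN : W ≤ normalizerIn S M := fun w hw => ⟨hWS hw, hWM w hw⟩
  obtain ⟨Φ, hΦ, hΦe⟩ := receptive_extend hrec hφ hφQ (N := W) (fun w hw => by
    refine ⟨hWN hw, ?_⟩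
    obtain ⟨n, hn, c, hc, rfl⟩ := mem_sup_dest hNC hw
    obtain ⟨s, hs, hse⟩ := hXconj n hn
    refine ⟨s * φ c, S.mul_mem hs (hφ.apply_mem (hCM hc)), fun u hu => ?_⟩
    rw [show n * c * u * (n * c)⁻¹ = n * (c * u * c⁻¹) * n⁻¹ by group,
      hse _ (M.mul_mem (M.mul_mem (hCM hc) hu) (M.inv_mem (hCM hc))), hφ.map_conj (hCM hc) hu]
    group) hMW
  have hΦQ : fimg Φ M = Q := (fimg_congr hΦe).trans hφQ
  obtain ⟨Φ', hΦ', hΦ1, hΦ2, -⟩ := hΦ.exists_inv
  set U := fimg Φ W with hU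
  have hQU : Q ≤ U := hΦQ ▸ fimg_mono Φ hMW
  have hΦ'Q : ∀ y ∈ Q, Φ' y ∈ M := by
    intro y hy
    rw [← hΦQ] at hy
    obtain ⟨u, hu, rfl⟩ := (hΦ.res hMW).mem_fimg_iff.1 hy
    rw [hΦ1 u (hMW hu)]; exact hu
  set f : Ω → Ω := fun y => Φ (autFun γ (Φ' y)) with hfdef
  have hf : IsMap F Q f :=
    ((hΦ'.res hQU).comp hγm hΦ'Q).comp (hΦ.res hMW) fun y hy => autFun_mem γ (hΦ'Q y hy)
  have hfΦ : ∀ u ∈ M, f (Φ u) = Φ (autFun γ u) := fun u hu => by
    rw [hfdef]; simp only [hΦ1 u (hMW hu)]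
  have hfQ : fimg f Q = Q := by
    refine Subgroup.eq_of_le_of_card_ge (fimg_le fun y hy => ?_) hf.card_fimg.ge
    rw [← hΦQ]
    exact apply_mem_fimg Φ (autFun_mem γ (hΦ'Q y hy))
  obtain ⟨f', hf', hf'e⟩ := receptive_extend hrec hf hfQ (N := U) (fun w hw => by
    obtain ⟨w, hw', rfl⟩ := hΦ.mem_fimg_iff.1 hw
    refine ⟨by rw [← hΦQ]; exact hΦ.map_normalizerIn hMW hw' (hWM w hw'), ?_⟩
    obtain ⟨n, hn, c, hc, rfl⟩ := mem_sup_dest hNC hw'
    obtain ⟨a, ha, hae⟩ := hXmem n hn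
    obtain ⟨s, hs, hse⟩ := hφX a ha
    have hγc : autFun γ c ∈ M := autFun_mem γ (hCM hc)
    refine ⟨s * φ (autFun γ c), S.mul_mem hs (hφ.apply_mem hγc), fun y hy => ?_⟩
    rw [← hΦQ] at hy
    obtain ⟨u, hu, rfl⟩ := (hΦ.res hMW).mem_fimg_iff.1 hy
    have hcu : c * u * c⁻¹ ∈ M := M.mul_mem (M.mul_mem (hCM hc) hu) (M.inv_mem (hCM hc))
    have hwu : n * c * u * (n * c)⁻¹ ∈ M :=
      (Subgroup.mem_normalizer_iff.1 (hWM _ hw') u).1 hu
    rw [← hΦ.map_conj hw' (hMW hu), hfΦ _ hwu, hfΦ _ hu, hΦe _ (autFun_mem γ hwu),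
      hΦe _ (autFun_mem γ hu),
      show n * c * u * (n * c)⁻¹ = n * (c * u * c⁻¹) * n⁻¹ by group, ← hae _ hcu,
      hse _ (autFun_mem γ hcu), hγm.map_conj (hCM hc) hu,
      hφ.map_conj hγc (autFun_mem γ hu)]
    group) hQU
  -- the extension preserves the image of `N`
  have hPc : E.IsCentric (fimg Φ P) :=
    InvClass.centric_transport hinv hP (hΦ.res (hPM.trans hMW))
  have hn' : ∀ n ∈ N, ∃ z ∈ P, f' (Φ n) = Φ (n * z) := by
    intro n hn
    have hnW : n ∈ W := Subgroup.mem_sup_left hn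
    have hΦn : Φ n ∈ T := StronglyClosed.apply_mem hT (hΦ.res le_sup_left) hNT hn
    have hΦnU : Φ n ∈ U := apply_mem_fimg Φ hnW
    have hf'n : f' (Φ n) ∈ T := StronglyClosed.apply_mem hT
      (hf'.res (inf_le_right : T ⊓ U ≤ U)) inf_le_left ⟨hΦn, hΦnU⟩
    have hfP : ∀ x ∈ P, f' (Φ x) = Φ x := fun x hx => by
      rw [hf'e _ (hΦQ ▸ apply_mem_fimg Φ (hPM hx)), hfΦ x (hPM hx), hfix x hx]
    have hz : (Φ n)⁻¹ * f' (Φ n) ∈ fimg Φ P := by
      refine centralizerIn_le_of_centric hPc (mem_centralizerIn.2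
        ⟨T.mul_mem (T.inv_mem hΦn) hf'n, fun y hy => ?_⟩)
      obtain ⟨x, hx, rfl⟩ := (hΦ.res (hPM.trans hMW)).mem_fimg_iff.1 hy
      have hxW : x ∈ W := hMW (hPM hx)
      have hcj : n * x * n⁻¹ ∈ P := (Subgroup.mem_normalizer_iff.1 (hNP hn) x).1 hx
      have e1 := hfP _ hcj
      rw [hΦ.map_conj hnW hxW, hf'.map_conj hΦnU (apply_mem_fimg Φ hxW), hfP x hx] at e1
      calc Φ x * ((Φ n)⁻¹ * f' (Φ n))
          = (Φ n)⁻¹ * (Φ n * Φ x * (Φ n)⁻¹) * f' (Φ n) := by group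
        _ = (Φ n)⁻¹ * f' (Φ n) * Φ x := by rw [← e1]; group
    obtain ⟨z, hz1, hz2⟩ := (hΦ.res (hPM.trans hMW)).mem_fimg_iff.1 hz
    refine ⟨z, hz1, ?_⟩
    rw [hΦ.map_mul hnW (hMW (hPM hz1)), hz2]; group
  have hf'U : ∀ y ∈ U, f' y ∈ U := fun y hy => by
    obtain ⟨w, hw, rfl⟩ := hΦ.mem_fimg_iff.1 hy
    obtain ⟨n, hn, c, hc, rfl⟩ := mem_sup_dest hNC hw
    obtain ⟨z, hz, hze⟩ := hn' n hn
    have hnW : n ∈ W := Subgroup.mem_sup_left hn
    have hcW : c ∈ W := Subgroup.mem_sup_right hc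
    rw [hΦ.map_mul hnW hcW, hf'.map_mul (apply_mem_fimg Φ hnW) (apply_mem_fimg Φ hcW)]
    refine U.mul_mem ?_ ?_
    · rw [hze]; exact apply_mem_fimg Φ (W.mul_mem hnW (hMW (hPM hz)))
    · rw [hf'e _ (hΦQ ▸ apply_mem_fimg Φ (hCM hc)), hfΦ c (hCM hc)]
      exact apply_mem_fimg Φ (hMW (autFun_mem γ (hCM hc)))
  have hΦm : ∀ w ∈ W, Φ w ∈ U := fun w hw => apply_mem_fimg Φ hw
  set d0 : Ω → Ω := fun w => Φ' (f' (Φ w)) with hd0def
  have hd0 : IsMap F W d0 := (hΦ.comp hf' hΦm).comp hΦ' fun w hw => hf'U _ (hΦm w hw)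
  have hd0img : fimg d0 W = W := Subgroup.eq_of_le_of_card_ge
    (fimg_le fun w hw => (hΦ2 _ (hf'U _ (hΦm w hw))).1) hd0.card_fimg.ge
  obtain ⟨δ0, hδ0, hδ0e⟩ := hd0.exists_aut hd0img
  have hδ0m : IsMap F W (autFun δ0) := (mem_autGroup hWS).1 hδ0
  have hδ0γ : ∀ u ∈ M, autFun δ0 u = autFun γ u := fun u hu => by
    rw [hδ0e u (hMW hu)]
    show Φ' (f' (Φ u)) = _
    rw [hf'e _ (hΦQ ▸ apply_mem_fimg Φ hu), hfΦ u hu, hΦ1 _ (hMW (autFun_mem γ hu))]
  obtain ⟨j, m, hm, hdm⟩ :=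
    Nat.exists_eq_pow_mul_and_not_dvd (orderOf_pos δ0).ne' p (Fact.out : p.Prime).ne_one
  have hmp : m.Coprime p := ((Fact.out : p.Prime).coprime_iff_not_dvd.2 hm).symm
  have hone : δ0 ^ (p ^ j * m) = 1 := by rw [← hdm, pow_orderOf_eq_one]
  refine ⟨j, δ0 ^ p ^ j, pow_mem hδ0 _, fun n hn => ?_, ?_,
    autFun_pow_eq hMW hδ0γ _⟩
  · obtain ⟨z, hz, hze⟩ := hn' n hn
    have hnW : n ∈ W := Subgroup.mem_sup_left hn
    have hzW : z ∈ W := hMW (hPM hz)
    have h1 : ∀ i, autFun (δ0 ^ i) n = n * z ^ i := by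
      refine autFun_pow_shift hnW hzW ?_ ?_ fun u hu w hw => hδ0m.map_mul hu hw
      · rw [hδ0e n hnW]
        show Φ' (f' (Φ n)) = _
        rw [hze, hΦ1 _ (W.mul_mem hnW hzW)]
      · rw [hδ0γ z (hPM hz), hfix z hz]
    have h2 : z ^ (p ^ j * m) = 1 := by
      have h := h1 (p ^ j * m)
      rw [hone, autFun_one hnW, left_eq_mul] at h
      exact h
    obtain ⟨k, hk⟩ := hS ⟨z ^ p ^ j, hTS (T.pow_mem (hPT hz) _)⟩
    have h3 : z ^ p ^ j = 1 :=
      InvExt.eq_one_of_coprime_pow (p := p) hmp (congrArg Subtype.val hk :)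
        (by rw [← pow_mul]; exact h2)
    rw [h1, h3, mul_one]
  · exact Nat.Coprime.coprime_dvd_left (orderOf_dvd_of_pow_eq_one
      (by rw [← pow_mul]; exact hone)) hmp

/-- A coprime automorphism of `P ⊔ C` fixing a centric `P` has a power agreeing on `C` with an
automorphism of `T ⊔ C` fixing `T`. -/
theorem exists_trivial_lift (hS : IsPGroup p S) (hE : E.IsWeaklyNormalIn F p) {P : Subgroup Ω}
    (hP : E.IsCentric P) {γ : MulAut ↥(P ⊔ centralizerIn S T)}
    (hγ : γ ∈ F.autGroup (P ⊔ centralizerIn S T)) (hfix : ∀ x ∈ P, autFun γ x = x) :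
    ∃ (K : ℕ) (a : MulAut ↥(T ⊔ centralizerIn S T)),
      a ∈ F.autGroup (T ⊔ centralizerIn S T) ∧ (∀ x ∈ T, autFun a x = x) ∧
      ∀ c ∈ centralizerIn S T, autFun a c = autFun (γ ^ p ^ K) c := by
  have hT := hE.2.2.2.1
  haveI : Finite T := finite_of_le hT.1
  induction hn : Nat.card T - Nat.card P using Nat.strong_induction_on generalizing P with
  | _ n ih =>
  rcases hP.1.eq_or_lt with he | hlt
  · subst he
    exact ⟨0, γ, hγ, hfix, fun c hc => by rw [pow_zero, pow_one]⟩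
  obtain ⟨j, δ, hδ, hδN, -, hδγ⟩ := lift_step hS hE hP rfl rfl hγ hfix
  have hNc : E.IsCentric (normalizerIn T P) := centric_mono hP (le_normalizerIn hP.1) inf_le_left
  haveI : Finite ↥(normalizerIn T P) := finite_of_le (S := T) inf_le_left
  have h1 : Nat.card P < Nat.card (normalizerIn T P) :=
    card_lt_of_lt (lt_normalizerIn (hS.to_le hT.1) hlt)
  have h2 : Nat.card (normalizerIn T P) ≤ Nat.card T := Subgroup.card_le_of_le inf_le_left
  obtain ⟨K, a, ha, haT, hac⟩ := ih _ (by omega) hNc hδ hδN rfl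
  refine ⟨j + K, a, ha, haT, fun c hc => ?_⟩
  rw [hac c hc, pow_add, pow_mul]
  exact autFun_pow_eq (sup_le_sup_right (le_normalizerIn hP.1) _) hδγ _ c
    (Subgroup.mem_sup_right hc)

/-- An automorphism of `T` in `E` extending trivially modulo `T` on a centric subgroup does so on
`T`. -/
theorem triv_of_mod (hS : IsPGroup p S) (hE : E.IsWeaklyNormalIn F p) {β : MulAut T}
    (hβ : β ∈ E.autGroup T) {P : Subgroup Ω} (hP : E.IsCentric P)
    (hmod : Mod F (centralizerIn S T) T P (autFun β)) : InvExt.Triv F T T β := by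
  obtain ⟨hEs, hF, hinv⟩ := id hE
  have hT := hinv.2.1
  have hTS := hT.1
  haveI : Finite T := finite_of_le hTS
  have hPT : P ≤ T := hP.1
  set C := centralizerIn S T with hC
  set W := T ⊔ C with hWdef
  set M := P ⊔ C with hMdef
  have hMW : M ≤ W := sup_le_sup_right hPT C
  have hWS : W ≤ S := sup_le hTS inf_le_left
  haveI : Finite ↥W := finite_of_le hWS
  haveI : Finite ↥M := finite_of_le (hMW.trans hWS)
  have hβm : IsMap F T (autFun β) := (mem_autGroup hTS).1 (autGroup_mono hinv.1 T hβ)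
  obtain ⟨b0, hb0, hb0e⟩ := receptive_extend (receptive_of_fullyNormalized hS hF
    (isFullyNormalized_of_stronglyClosed hT)) hβm (fimg_autFun β) (N := W) (fun w hw => by
      obtain ⟨x, hx, c, hc, rfl⟩ := mem_sup_dest le_normalizer_centralizerIn hw
      refine ⟨Subgroup.mul_mem _ (le_normalizerIn hTS hx) (centralizerIn_le_normalizerIn T hc),
        autFun β x, hTS (autFun_mem _ hx), fun y hy => ?_⟩
      rw [show x * c * y * (x * c)⁻¹ = x * (c * y * c⁻¹) * x⁻¹ by group,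
        show c * y * c⁻¹ = y by rw [← centralizerIn_comm hy hc, mul_inv_cancel_right],
        hβm.map_conj hx hy]) le_sup_left
  have hbT : fimg b0 T = T := (fimg_congr hb0e).trans (fimg_autFun β)
  have hbC : ∀ c ∈ C, b0 c ∈ C := fun c hc => by
    have h := hb0.map_centralizerIn le_sup_left (Subgroup.mem_sup_right hc) hc.2
    rwa [hbT] at h
  obtain ⟨b, hb, hbe⟩ := hb0.exists_aut (Subgroup.eq_of_le_of_card_ge (by
    rw [hWdef, hb0.fimg_sup, hbT]
    exact sup_le_sup_left (fimg_le hbC) T) hb0.card_fimg.ge)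
  have hbm : IsMap F W (autFun b) := (mem_autGroup hWS).1 hb
  have hbβ : ∀ x ∈ T, autFun b x = autFun β x := fun x hx => by
    rw [hbe x (Subgroup.mem_sup_left hx), hb0e x hx]
  obtain ⟨g, hg, hge, hgc⟩ := hmod
  have hsplit : ∀ u ∈ M, ∃ x ∈ P, ∃ c ∈ C, x * c = u := fun u hu => by
    obtain ⟨x, hx, c, hc, rfl⟩ := mem_sup_dest (hPT.trans le_normalizer_centralizerIn) hu
    exact ⟨x, hx, c, hc, rfl⟩
  have hnorm : ∀ {c t : Ω}, c ∈ S → t ∈ T → c⁻¹ * t * c ∈ T := fun {c t} hc ht => by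
    simpa using StronglyClosed.conj_mem' hT (S.inv_mem hc) ht
  have hgT : ∀ u ∈ M, u⁻¹ * g u ∈ T := fun u hu => by
    obtain ⟨x, hx, c, hc, rfl⟩ := hsplit u hu
    rw [hg.map_mul (Subgroup.mem_sup_left hx) (Subgroup.mem_sup_right hc), hge x hx,
      show (x * c)⁻¹ * (autFun β x * g c) = c⁻¹ * (x⁻¹ * autFun β x) * c * (c⁻¹ * g c) by group]
    exact T.mul_mem (hnorm hc.1 (T.mul_mem (T.inv_mem (hPT hx)) (autFun_mem β (hPT hx))))
      (hgc c hc)
  haveI : Finite ↥(fimg (autFun b) M) := finite_of_le (hbm.res hMW).fimg_le_S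
  have himg : fimg g M = fimg (autFun b) M := by
    refine Subgroup.eq_of_le_of_card_ge ?_ (by rw [hg.card_fimg, (hbm.res hMW).card_fimg])
    rw [hg.fimg_sup, (hbm.res hMW).fimg_sup]
    have hPb : fimg g P = fimg (autFun b) P :=
      fimg_congr fun x hx => by rw [hge x hx, hbβ x (hPT hx)]
    refine sup_le (hPb.le.trans le_sup_left) (fimg_le fun c hc => ?_)
    haveI : Finite ↥C := finite_of_le (le_sup_right.trans hWS)
    have hbCC : fimg (autFun b) C = C := Subgroup.eq_of_le_of_card_ge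
      (fimg_le fun x hx => by rw [hbe x (Subgroup.mem_sup_right hx)]; exact hbC x hx)
      (hbm.res le_sup_right).card_fimg.ge
    have hPβ : E.IsCentric (fimg g P) := InvClass.centric_transport hinv hP (hg.res le_sup_left)
    have hw : c⁻¹ * g c ∈ fimg g P := by
      refine centralizerIn_le_of_centric hPβ (mem_centralizerIn.2 ⟨hgc c hc, fun y hy => ?_⟩)
      obtain ⟨x, hx, rfl⟩ := (hg.res le_sup_left).mem_fimg_iff.1 hy
      have e1 : g x * g c = g c * g x := by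
        rw [← hg.map_mul (Subgroup.mem_sup_left hx) (Subgroup.mem_sup_right hc),
          ← hg.map_mul (Subgroup.mem_sup_right hc) (Subgroup.mem_sup_left hx),
          centralizerIn_comm (hPT hx) hc]
      have hgxT : g x ∈ T := by rw [hge x hx]; exact autFun_mem β (hPT hx)
      have e2 : g x * c = c * g x := centralizerIn_comm hgxT hc
      calc g x * (c⁻¹ * g c) = c⁻¹ * (c * g x) * c⁻¹ * g c := by group
        _ = c⁻¹ * (g x * g c) := by rw [← e2]; group
        _ = c⁻¹ * g c * g x := by rw [e1]; group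
    rw [show g c = c * (c⁻¹ * g c) by group]
    refine mul_mem (Subgroup.mem_sup_right ?_) (Subgroup.mem_sup_left (hPb ▸ hw))
    rw [hbCC]; exact hc
  obtain ⟨g', hg', hg1, hg2, -⟩ := hg.exists_inv
  have hbM : ∀ u ∈ M, autFun b u ∈ fimg g M := fun u hu => himg ▸ apply_mem_fimg _ hu
  have hγ0 : IsMap F M (fun u => g' (autFun b u)) := (hbm.res hMW).comp hg' hbM
  obtain ⟨γ, hγ, hγe⟩ := hγ0.exists_aut (Subgroup.eq_of_le_of_card_ge
    (fimg_le fun u hu => (hg2 _ (hbM u hu)).1) hγ0.card_fimg.ge)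
  have hγfix : ∀ x ∈ P, autFun γ x = x := fun x hx => by
    rw [hγe x (Subgroup.mem_sup_left hx)]
    show g' (autFun b x) = x
    rw [hbβ x (hPT hx), ← hge x hx, hg1 x (Subgroup.mem_sup_left hx)]
  have hγb : ∀ u ∈ M, (autFun γ u)⁻¹ * autFun b u ∈ T := fun u hu => by
    have h : g (autFun γ u) = autFun b u := by
      rw [hγe u hu]; exact (hg2 _ (hbM u hu)).2
    exact h ▸ hgT _ (autFun_mem γ hu)
  have hbTT : ∀ t ∈ T, autFun b t ∈ T := fun t ht => by rw [hbβ t ht]; exact autFun_mem β ht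
  have hiter : ∀ i : ℕ, ∀ u ∈ M, (autFun (γ ^ i) u)⁻¹ * autFun (b ^ i) u ∈ T := by
    intro i
    induction i with
    | zero =>
      intro u hu
      rw [pow_zero, pow_zero, autFun_one hu, autFun_one (hMW hu), inv_mul_cancel]
      exact T.one_mem
    | succ i ih =>
      intro u hu
      obtain ⟨t, ht, hte⟩ : ∃ t ∈ T, autFun (b ^ i) u = autFun (γ ^ i) u * t :=
        ⟨_, ih u hu, by group⟩
      rw [pow_succ', pow_succ', autFun_mul _ _ hu, autFun_mul _ _ (hMW hu), hte,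
        hbm.map_mul (hMW (autFun_mem _ hu)) (Subgroup.mem_sup_left ht), ← mul_assoc]
      exact T.mul_mem (hγb _ (autFun_mem _ hu)) (hbTT t ht)
  obtain ⟨J, a, ha, haT, hac⟩ := exists_trivial_lift hS hE hP hγ hγfix
  have ham : IsMap F W (autFun a) := (mem_autGroup hWS).1 ha
  set ψ := b ^ p ^ J * a⁻¹ with hψdef
  have hψm : IsMap F W (autFun ψ) := (mem_autGroup hWS).1 (mul_mem (pow_mem hb _) (inv_mem ha))
  have hbJm : IsMap F W (autFun (b ^ p ^ J)) := (mem_autGroup hWS).1 (pow_mem hb _)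
  have hpow : β ^ p ^ J ∈ InvExt.trivAuts F T T hTS := by
    refine InvExt.mem_trivAuts.2 ⟨autFun ψ, hψm, fun x hx => ?_, fun c hc => ?_⟩
    · have hxW : x ∈ W := Subgroup.mem_sup_left hx
      have hax : autFun a⁻¹ x = x := by
        conv_lhs => rw [← haT x hx]
        exact autFun_inv_apply a hxW
      rw [hψdef, autFun_mul _ _ hxW, hax, autFun_pow_eq (le_sup_left : T ≤ W) hbβ _ x hx]
    · have hcW : c ∈ W := Subgroup.mem_sup_right hc
      obtain ⟨t, ht, d, hd, htd⟩ :=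
        mem_sup_dest le_normalizer_centralizerIn (autFun_mem a⁻¹ hcW : autFun a⁻¹ c ∈ T ⊔ C)
      have htW : t ∈ W := Subgroup.mem_sup_left ht
      have hdW : d ∈ W := Subgroup.mem_sup_right hd
      have hdM : d ∈ M := Subgroup.mem_sup_right hd
      have hc' : c = autFun a (t * d) := by
        rw [htd, ← autFun_mul _ _ hcW, mul_inv_cancel, autFun_one hcW]
      rw [ham.map_mul htW hdW, haT t ht, hac d hd] at hc'
      have hbt : autFun (b ^ p ^ J) t ∈ T := by
        rw [autFun_pow_eq (le_sup_left : T ≤ W) hbβ _ t ht]; exact autFun_mem _ ht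
      rw [hψdef, autFun_mul _ _ hcW, ← htd, hbJm.map_mul htW hdW, hc',
        show (t * autFun (γ ^ p ^ J) d)⁻¹ * (autFun (b ^ p ^ J) t * autFun (b ^ p ^ J) d) =
          (autFun (γ ^ p ^ J) d)⁻¹ * (t⁻¹ * autFun (b ^ p ^ J) t) * autFun (γ ^ p ^ J) d *
            ((autFun (γ ^ p ^ J) d)⁻¹ * autFun (b ^ p ^ J) d) by group]
      exact T.mul_mem (hnorm ((hMW.trans hWS) (autFun_mem _ hdM))
        (T.mul_mem (T.inv_mem ht) hbt)) (hiter _ d hdM)
  -- the part of order a power of `p` is inner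
  obtain ⟨i, m, hm, hdm⟩ :=
    Nat.exists_eq_pow_mul_and_not_dvd (orderOf_pos β).ne' p (Fact.out : p.Prime).ne_one
  have hmp : m.Coprime p := ((Fact.out : p.Prime).coprime_iff_not_dvd.2 hm).symm
  obtain ⟨-, R, hR⟩ := fullyAutomized_of_fullyNormalized (hS.to_le hTS) hEs (fullyNormalized_self E)
  haveI hRn : (R : Subgroup (E.autGroup T)).Normal := by
    rw [hR, ← inn_eq_autInducedBy]
    exact inn_subgroupOf_normal E T
  have hpm : β ^ m ∈ InvExt.trivAuts F T T hTS := by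
    have h3 : (⟨β ^ m, pow_mem hβ m⟩ : E.autGroup T) ∈ (R : Subgroup (E.autGroup T)) :=
      mem_of_normal_sylow R (k := i) (Subtype.ext (by
        rw [SubmonoidClass.coe_pow, ← pow_mul, mul_comm, ← hdm, pow_orderOf_eq_one]; rfl))
    rw [hR] at h3
    exact InvExt.autInducedBy_le_trivAuts hT hTS h3
  show β ∈ InvExt.trivAuts F T T hTS
  have h4 : β = (β ^ p ^ J) ^ ((p ^ J : ℕ).gcdA m) * (β ^ m) ^ ((p ^ J : ℕ).gcdB m) := by
    rw [← zpow_natCast β (p ^ J), ← zpow_natCast β m, ← zpow_mul, ← zpow_mul, ← zpow_add,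
      ← Nat.gcd_eq_gcd_ab, Nat.Coprime.gcd_eq_one ((hmp.pow_right J).symm), Nat.cast_one, zpow_one]
  rw [h4]
  exact mul_mem (Subgroup.zpow_mem _ hpow _) (Subgroup.zpow_mem _ hpm _)

/-- The `p'`-residual of a weakly normal subsystem is normal. -/
theorem residual_isNormalIn (hS : IsPGroup p S) (hE : E.IsWeaklyNormalIn F p)
    {D : FusionSystem T} (hD : E.IsPPrimeResidual p D) : D.IsNormalIn F p := by
  obtain ⟨hEs, hF, hinv⟩ := id hE
  have hT := hinv.2.1
  have hTS := hT.1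
  haveI : Finite T := finite_of_le hTS
  have hTp : IsPGroup p T := hS.to_le hTS
  refine ⟨⟨hD.1, hF, ResInv.invariant_residual hS hinv hEs hD⟩, fun α hα => ?_⟩
  obtain rfl : D = PrimeIndex.residual E p :=
    eq_of_hom_eq (ResInv.residual_hom_eq hTp hEs hD)
  obtain ⟨-, β, hβ, e, he, hαe⟩ := PrimeIndex.isMap_residual.1 ((mem_autGroup le_rfl).1 hα)
  have hgood : β ∈ InvExt.trivAuts F T T hTS := by
    refine (Subgroup.closure_le _).2 ?_ hβ
    rintro γ ⟨hγ, P, hP, hγP⟩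
    exact triv_of_mod hS hE hγ hP (mod_pGen hS hE hγP hP)
  obtain ⟨g, hg, hge, hgc⟩ := (Mod.comp' hT (mod_pGen hS hE he (centric_self E))
    (InvExt.mem_trivAuts.1 hgood : Mod F (centralizerIn S T) T T (autFun β))
    (fun x hx => he.isMap.apply_mem hx) le_rfl inf_le_left le_rfl).congr
      fun x hx => (hαe x hx).symm
  set W := T ⊔ centralizerIn S T with hW
  have hWS : W ≤ S := sup_le hTS inf_le_left
  haveI : Finite ↥W := finite_of_le hWS
  obtain ⟨γ, hγ, hγg⟩ := hg.exists_aut (InvExt.fimg_sup_centralizer hTS hg hge)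
  refine ⟨γ, hγ, fun x => ?_, fun c hc => ?_⟩
  · rw [← autFun_coe γ (Subgroup.inclusion le_sup_left x), ← autFun_coe α x]
    exact (hγg _ (Subgroup.mem_sup_left x.2)).trans (hge _ x.2)
  · rw [← autFun_coe γ c, hγg _ c.2]
    have hcen := InvExt.apply_mem_centralizer hg le_sup_left hge hc c.2
    exact ⟨hgc _ hc, Subgroup.mul_mem _ (Subgroup.inv_mem _ hc.2) hcen.2⟩

end Cfsg.Agent.Fus.ResNorm
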