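import Mathlib
import Cfsg.Agent.Lib.Fus.ResidualNormal

/-!
The `p'`-residual of a weakly normal subsystem over `T` lies in every weakly normal subsystem over
`T`.
-/

set_option autoImplicit false
set_option linter.style.haveILetI false
set_option linter.unusedSectionVars false

open scoped Classical

universe u

namespace Cfsg.Agent.Fus.ResLeast

open Subgroup FusionSystem

variable {Ω : Type u} [Group Ω] {S T : Subgroup Ω} {F : FusionSystem S} {E D : FusionSystem T}
  {p : ℕ} [Finite S] [Fact p.Prime]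

theorem centric_other (hE : E.IsInvariantIn F) (hD : D.IsInvariantIn F) {P : Subgroup Ω}
    (hP : E.IsCentric P) : D.IsCentric P := by
  refine ⟨hP.1, fun R hR => ?_⟩
  obtain ⟨f, hf, rfl⟩ := isConj_iff.1 hR
  exact centralizerIn_le_of_centric (InvClass.centric_transport hE hP (hf.mono hD.1))

/-- Two weakly normal subsystems over the same subgroup have the same automorphisms of `p`-power
order on centric subgroups. -/
theorem pGenAuts_le (hS : IsPGroup p S) (hE : E.IsWeaklyNormalIn F p)
    (hD : D.IsWeaklyNormalIn F p) {Q : Subgroup Ω} (hQT : Q ≤ T) :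
    PrimeIndex.pGenAuts E p Q ≤ D.autGroup Q := by
  obtain ⟨hEs, hF, hinv⟩ := hE
  obtain ⟨hDs, -, hDinv⟩ := hD
  have hT := hinv.2.1
  have hTS := hT.1
  haveI : Finite T := finite_of_le hTS
  have hTp : IsPGroup p T := hS.to_le hTS
  intro α hα
  obtain ⟨R, hR, hRn⟩ := exists_fullyNormalized F (hQT.trans hTS)
  obtain ⟨v, hv, hvR⟩ := isConj_iff.1 hR
  subst hvR
  set R := fimg v Q with hRdef
  have hRT : R ≤ T := fimg_le fun x hx => StronglyClosed.apply_mem hT hv hQT hx
  haveI : Finite Q := finite_of_le hQT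
  haveI := finite_of_le hRn.1
  obtain ⟨e, he, -⟩ := exists_mulEquiv hv rfl
  obtain ⟨w, hw, hw1, hw2, -⟩ := hv.exists_inv
  have he' : ∀ y : R, (e.symm y : Ω) = w y := by
    intro y
    obtain ⟨x, rfl⟩ := e.surjective y
    rw [e.symm_apply_apply, he, hw1 x x.2]
  have hwR : fimg w R = Q := by
    rw [hRdef, ← hv.fimg_comp]
    exact (fimg_congr fun x hx => hw1 x hx).trans (fimg_id Q)
  have hback : ∀ {G : FusionSystem T}, G.IsInvariantIn F → ∀ γ,
      (γ ∈ G.autGroup Q ↔ MulAut.congr e γ ∈ G.autGroup R) := fun {G} hG γ => by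
    refine ⟨fun h => InvClass.congr_autGroup hG hQT hv rfl e he h, fun h => ?_⟩
    have h' := InvClass.congr_autGroup hG hRT hw hwR e.symm he' h
    convert h' using 1
    ext x
    simp [MulAut.congr]
  rw [hback hDinv]
  have hβ := PrimeIndex.congr_pGenAuts e (hback hinv) hα
  obtain ⟨-, W, hW⟩ := fullyAutomized_of_fullyNormalized hTp hEs
    (InvExt.fullyNormalized_sub hS hF hT hinv.1 hRT hRn)
  set K := (D.autGroup R).subgroupOf (E.autGroup R) with hK
  haveI : K.Normal := ⟨fun a ha b =>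
    autGroup_conj_mem hDinv hRT (autGroup_mono hinv.1 R b.2) ha⟩
  have hWK : (W : Subgroup (E.autGroup R)) ≤ K := by
    rw [hW]
    exact Subgroup.comap_mono (autInducedBy_le_autGroup D hRT)
  obtain ⟨a, ha, hae⟩ := Subgroup.mem_map.1 hβ
  have h : a ∈ K := (Subgroup.closure_le K).2 (fun x hx => by
    obtain ⟨k, hk⟩ := hx
    exact ResNorm.mem_of_sylow_le W K hWK (k := k) (hk ▸ pow_orderOf_eq_one x)) ha
  rw [← hae]
  exact h

/-- The residual of a weakly normal subsystem lies in every weakly normal subsystem over the same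
subgroup. -/
theorem residual_le (hS : IsPGroup p S) (hE : E.IsWeaklyNormalIn F p)
    (hD : D.IsWeaklyNormalIn F p) {R : FusionSystem T} (hR : E.IsPPrimeResidual p R) :
    R.IsSubsystemOf D := by
  obtain ⟨hEs, hF, hinv⟩ := id hE
  obtain ⟨hDs, -, hDinv⟩ := id hD
  have hT := hinv.2.1
  haveI : Finite T := finite_of_le hT.1
  have hTp : IsPGroup p T := hS.to_le hT.1
  obtain rfl : R = PrimeIndex.residual E p :=
    eq_of_hom_eq (ResInv.residual_hom_eq hTp hEs hR)
  have hgen : ∀ {P f}, PrimeIndex.PGen E p P f → IsMap D P f := fun {P f} h =>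
    h.isMap_of fun Q hQ => pGenAuts_le hS hE hD hQ.1
  set A := E.autGroup T
  set B := D.autGroup T
  have hBn : ∀ g ∈ F.autGroup T, ∀ b ∈ B, g * b * g⁻¹ ∈ B := fun g hg b hb =>
    autGroup_conj_mem hDinv le_rfl hg hb
  set G₀ := A ⊔ B
  have hG₀ : G₀ ≤ F.autGroup T := sup_le (autGroup_mono hinv.1 T) (autGroup_mono hDinv.1 T)
  haveI hN : (B.subgroupOf G₀).Normal := ⟨fun b hb g => hBn g (hG₀ g.2) b hb⟩
  haveI : Finite (MulAut T) := inferInstance
  haveI hAN : (B.subgroupOf A).Normal := ⟨fun b hb g => hBn g (autGroup_mono hinv.1 T g.2) b hb⟩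
  have hcop : (Nat.card (G₀ ⧸ B.subgroupOf G₀)).Coprime p := by
    refine ((Fact.out : p.Prime).coprime_iff_not_dvd.2 fun hd => ?_).symm
    obtain ⟨-, W, hW⟩ := fullyAutomized_of_fullyNormalized hTp hEs (fullyNormalized_self E)
    have hle : (W : Subgroup A) ≤ B.subgroupOf A := by
      rw [hW]
      exact Subgroup.comap_mono (autInducedBy_le_autGroup D le_rfl)
    refine W.not_dvd_index (hd.trans (dvd_trans (dvd_of_eq ?_) (Subgroup.index_dvd_of_le hle)))
    have hnorm : A ≤ Subgroup.normalizer (B : Set (MulAut T)) := fun g hg =>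
      mem_normalizer_of_forall (fun b hb => hBn g (autGroup_mono hinv.1 T hg) b hb)
        fun b hb => by simpa using hBn g⁻¹ (inv_mem (autGroup_mono hinv.1 T hg)) b hb
    exact (Nat.card_congr (QuotientGroup.quotientInfEquivProdNormalizerQuotient A B hnorm).toEquiv).symm
  rintro P φ hφ
  obtain ⟨-, β, hβ, e, he, hφe⟩ := PrimeIndex.isMap_residual.1 (isMap_toFun hφ)
  have hβD : β ∈ B := by
    refine (Subgroup.closure_le _).2 ?_ hβ
    rintro γ ⟨hγ, Q, hQ, hγQ⟩
    have h := InvClass.class_eq_one hS hDinv hDs hG₀ hcop (QuotientGroup.mk' (B.subgroupOf G₀))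
      (fun x hx => (QuotientGroup.eq_one_iff x).2 hx) (centric_other hinv hDinv hQ)
      ⟨γ, Subgroup.mem_sup_left hγ⟩ (hgen hγQ)
    exact (QuotientGroup.eq_one_iff (⟨γ, Subgroup.mem_sup_left hγ⟩ : G₀)).1 h
  exact mem_hom_of_isMap (((hgen he).comp ((mem_autGroup le_rfl).1 hβD)
    fun x hx => (hgen he).apply_mem hx).congr fun x hx => (hφe x hx).symm)
      fun x => (toFun_coe φ x).symm

end Cfsg.Agent.Fus.ResLeast
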