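import Mathlib
import Cfsg.Agent.Lib.Fus.Model
import Cfsg.Agent.Lib.Fus.ModelBasic
import Cfsg.Agent.Lib.Fus.RealizedNormal
import Cfsg.Agent.Lib.Grp.PSolvable
import Cfsg.Agent.Lib.Grp.Frattini

/-!
Systems of `p`-soluble groups: constrained systems whose automizer of the core is `p`-soluble.
-/

set_option autoImplicit false
set_option linter.style.haveILetI false
set_option linter.unusedSectionVars false

open scoped Classical

universe u v

namespace Cfsg.Agent.Fus

open Subgroup FusionSystem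

/-- An extension of a `p`-soluble group by a normal `p`-subgroup is `p`-soluble. -/
theorem isPSolvable_of_pGroup_quotient {G : Type*} [Group G] [Finite G] {p : ℕ} [Fact p.Prime]
    (N : Subgroup G) [N.Normal] (hN : IsPGroup p N) (h : Cfsg.IsPSolvable p (G ⧸ N)) :
    Cfsg.IsPSolvable p G := by
  obtain ⟨n, H, h0, hl, hm, hn, hi⟩ := h
  set f := QuotientGroup.mk' N with hf
  let K : Fin (n + 2) → Subgroup G := Fin.cases ⊥ fun i => (H i).comap f
  refine ⟨n + 1, K, rfl, ?_, Fin.monotone_iff_le_succ.2 fun i => ?_, fun i => ?_, fun i => ?_⟩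
  · rw [← Fin.succ_last]
    show (H (Fin.last n)).comap f = ⊤
    rw [hl, Subgroup.comap_top]
  · induction i using Fin.cases with
    | zero => exact bot_le
    | succ j =>
      rw [← Fin.succ_castSucc]
      exact Subgroup.comap_mono (hm j.castSucc_le_succ)
  · induction i using Fin.cases with
    | zero => exact (inferInstance : (⊥ : Subgroup G).Normal)
    | succ j => exact (hn j).comap f
  · induction i using Fin.cases with
    | zero =>
      left
      obtain ⟨m, hm'⟩ := hN.exists_card_eq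
      refine ⟨m, ?_⟩
      show (⊥ : Subgroup G).relIndex ((H 0).comap f) = p ^ m
      rw [h0, MonoidHom.comap_bot, hf, QuotientGroup.ker_mk', Subgroup.relIndex_bot_left, hm']
    | succ j =>
      rw [← Fin.succ_castSucc]
      show (∃ m, ((H j.castSucc).comap f).relIndex ((H j.succ).comap f) = p ^ m) ∨ _
      rw [Subgroup.relIndex_comap, Subgroup.map_comap_eq_self_of_surjective
        (QuotientGroup.mk'_surjective N)]
      show (∃ m, (H j.castSucc).relIndex (H j.succ) = p ^ m) ∨
        (((H j.castSucc).comap f).relIndex ((H j.succ).comap f)).Coprime p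
      rw [Subgroup.relIndex_comap, Subgroup.map_comap_eq_self_of_surjective
        (QuotientGroup.mk'_surjective N)]
      exact hi j

variable {Ω : Type u} [Group Ω] {S : Subgroup Ω} [Finite S] {F : FusionSystem S}
  {G : Type v} [Group G] {ι : S →* G} {p : ℕ} [Fact p.Prime]

/-- A realizing group acts on a subgroup with normal image through the automizer. -/
theorem exists_toAut (h : F.IsRealizedBy ι) {U : Subgroup Ω} (hU : U ≤ S)
    [hN : ((U.subgroupOf S).map ι).Normal] :
    ∃ ρ : G →* MulAut U, ρ.range = F.autGroup U ∧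
      ρ.ker ≤ Subgroup.centralizer (((U.subgroupOf S).map ι : Subgroup G) : Set G) := by
  let e : U ≃* ((U.subgroupOf S).map ι : Subgroup G) :=
    (Subgroup.subgroupOfEquivOfLe hU).symm.trans ((U.subgroupOf S).equivMapOfInjective ι h.1)
  have he : ∀ x : U, ((e x : ((U.subgroupOf S).map ι : Subgroup G)) : G) = ι ⟨x, hU x.2⟩ :=
    fun x => rfl
  let ρ : G →* MulAut U := (MulAut.congr e.symm).toMonoidHom.comp MulAut.conjNormal
  have hρ : ∀ g : G, ∀ x : U, ι ⟨(ρ g x : Ω), hU (ρ g x).2⟩ = g * ι ⟨x, hU x.2⟩ * g⁻¹ := by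
    intro g x
    rw [← he, ← he]
    show ((e (e.symm (MulAut.conjNormal g (e x)))) : G) = _
    rw [e.apply_symm_apply]
    rfl
  refine ⟨ρ, le_antisymm ?_ ?_, ?_⟩
  · rintro _ ⟨g, rfl⟩
    refine (mem_autGroup hU).2 ⟨U.subtype.comp (ρ g).toMonoidHom, ?_, fun x => (autFun_coe _ x).symm⟩
    exact (h.2 U hU _ fun x => hU (ρ g x).2).2 ⟨g, fun x => hρ g x⟩
  · intro α hα
    obtain ⟨φ, hφ, hφe⟩ := (mem_autGroup hU).1 hα
    obtain ⟨g, hg⟩ := (h.2 U hU φ (F.le_of_mem hφ).2).1 hφ
    refine ⟨g, MulEquiv.ext fun x => Subtype.ext ?_⟩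
    refine congrArg Subtype.val (a₁ := (⟨_, hU (ρ g x).2⟩ : S)) (a₂ := ⟨_, hU (α x).2⟩) (h.1 ?_)
    rw [hρ, ← hg]
    exact congrArg ι (Subtype.ext ((hφe x).trans (autFun_coe α x)))
  · intro g hg
    rw [Subgroup.mem_centralizer_iff]
    rintro _ ⟨u, hu, rfl⟩
    have h1 : g * ι u * g⁻¹ = ι u := by
      refine (hρ g ⟨u, hu⟩).symm.trans (congrArg ι (Subtype.ext ?_))
      rw [show ρ g = 1 from hg]
      rfl
    exact (mul_inv_eq_iff_eq_mul.1 h1).symm

/-- A saturated system is the system of a finite `p`-soluble group exactly when it is constrained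
with `p`-soluble automizer of its core. -/
theorem pSolvable_system_iff (hS : IsPGroup p S) (hF : F.IsSaturated p) :
    (∃ (G : Type u) (_ : Group G) (_ : Finite G) (ι : S →* G), Cfsg.IsPSolvable p G ∧
      F.IsRealizedBy ι ∧ ∃ T : Sylow p G, (T : Subgroup G) = ι.range) ↔
    (F.IsConstrained p ∧ Cfsg.IsPSolvable p ↥(F.autGroup F.core)) := by
  constructor
  · rintro ⟨G, _, _, ι, hsol, hr, T, hT⟩
    haveI := Grp.pPrimeCore_isNormal (p := p) (G := G)
    have hinf : ι.range ⊓ Cfsg.pPrimeCore p G = ⊥ := by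
      refine Subgroup.inf_eq_bot_of_coprime ?_
      obtain ⟨k, hk⟩ := (hT ▸ T.2 : IsPGroup p ι.range).exists_card_eq
      rw [hk]
      exact Nat.Coprime.pow_left k (Grp.pPrimeCore_coprime (p := p) (G := G)).symm
    obtain ⟨hr', T', hT'⟩ := realized_quotient hS hr hT _ hinf
    set π := QuotientGroup.mk' (Cfsg.pPrimeCore p G)
    have hsol' := Grp.isPSolvable_map hsol π (QuotientGroup.mk'_surjective _)
    have hmod : F.IsModel p (G ⧸ Cfsg.pPrimeCore p G) (π.comp ι) :=
      ⟨inferInstance, hr', ⟨T', hT'⟩,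
        Grp.centralizer_pCore_le_of_pSolvable hsol' Grp.pPrimeCore_quotient_eq_bot⟩
    refine ⟨isConstrained_of_model hmod, ?_⟩
    rw [← modelCore_eq_core hS hmod]
    haveI : (((modelCore p (π.comp ι)).subgroupOf S).map (π.comp ι)).Normal := by
      rw [map_modelCore hT']
      exact Grp.pCore_isNormal
    obtain ⟨ρ, hρ, -⟩ := exists_toAut hr' (U := modelCore p (π.comp ι)) modelCore_le
    rw [← hρ]
    exact Grp.isPSolvable_map hsol' ρ.rangeRestrict ρ.rangeRestrict_surjective
  · rintro ⟨⟨-, Q, hQn, hQc⟩, hsol⟩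
    have hUn := isNormal_core F
    haveI := finite_of_le hUn.1
    have hUc : centralizerIn S F.core ≤ F.core := by
      intro x hx
      refine le_core hQn (hQc.2 Q (isConj_refl F hQn.1) (mem_centralizerIn.2 ⟨hx.1, fun y hy => ?_⟩))
      exact (mem_centralizerIn.1 hx).2 y (le_core hQn hy)
    obtain ⟨G, _, ι, ⟨hfin, hr, hT, -⟩, hN, hC⟩ := exists_model_of_normal hS hF hUn hUc
    obtain ⟨ρ, hρ, hker⟩ := exists_toAut hr (U := F.core) hUn.1
    refine ⟨G, inferInstance, hfin, ι, ?_, hr, hT⟩
    refine isPSolvable_of_pGroup_quotient ρ.ker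
      (((hS.to_subgroup _).map ι).to_le (hker.trans hC)) ?_
    let e : G ⧸ ρ.ker ≃* F.autGroup F.core :=
      (QuotientGroup.quotientKerEquivRange ρ).trans (MulEquiv.subgroupCongr hρ)
    exact Grp.isPSolvable_map hsol e.symm.toMonoidHom e.symm.surjective

end Cfsg.Agent.Fus
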