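import Mathlib
import Cfsg.Agent.Lib.Fus.ConstrainedNormalSubEq
import Cfsg.Agent.Lib.Fus.RealizedNormal
import Cfsg.Agent.Lib.Fus.IsoComponent
import Cfsg.Agent.Lib.Fus.GroupHyperfocal
import Cfsg.Agent.Lib.Fus.SolvableModel
import Cfsg.Agent.Lib.Fus.SolvableSystem
import Cfsg.Agent.Lib.Fus.PPowerNormal
import Cfsg.Agent.Lib.Fus.PPowerChain
import Cfsg.Agent.Lib.Fus.PPrimeResidual
import Cfsg.Agent.Lib.Fus.ResidualLeast
import Cfsg.Agent.Lib.Fus.EnvelopeLevel
import Cfsg.Agent.Lib.Block.PPartDerived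
import Cfsg.Agent.Lib.Invol.CharP
import Cfsg.Agent.S1950

/-!
The alternating residual series of a saturated system terminates exactly for constrained systems
with `p`-soluble models.
-/

set_option autoImplicit false
set_option linter.style.haveILetI false
set_option linter.unusedSectionVars false

open scoped Classical

universe u v

namespace Cfsg.Agent.Fus.ResSeries

open Subgroup FusionSystem Transport
open scoped commutatorElement

section Groups

variable {p : ℕ} [Fact p.Prime]

/-- An extension of `p`-soluble groups is `p`-soluble. -/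
theorem isPSolvable_extension : ∀ (n : ℕ) (G : Type u) [Group G] [Finite G], Nat.card G ≤ n →
    ∀ (N : Subgroup G) [N.Normal], IsPSolvable p N → IsPSolvable p (G ⧸ N) → IsPSolvable p G := by
  intro n
  induction n with
  | zero => exact fun G _ _ h => absurd h (by have := Nat.card_pos (α := G); omega)
  | succ n ih =>
    intro G _ _ hn N _ hN hQ
    by_cases hb : N = ⊥
    · exact Grp.isPSolvable_map hQ
        ((QuotientGroup.quotientMulEquivOfEq hb).trans QuotientGroup.quotientBot).toMonoidHom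
        (MulEquiv.surjective _)
    obtain ⟨M₀, hM₀, hchar, hcard⟩ : ∃ M₀ : Subgroup N, M₀ ≠ ⊥ ∧ M₀.Characteristic ∧
        ((∃ m, Nat.card M₀ = p ^ m) ∨ (Nat.card M₀).Coprime p) := by
      by_cases h1 : pCore p N = ⊥
      · refine ⟨pPrimeCore p N, fun h2 => hb ?_, inferInstance, Or.inr Grp.pPrimeCore_coprime⟩
        have h := Grp.isPSolvable_eq_top_of_cores hN h1 h2
        rw [← Subgroup.map_eq_bot_iff_of_injective (⊤ : Subgroup N) N.subtype_injective,
          ← MonoidHom.range_eq_map, Subgroup.range_subtype] at h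
        exact h
      · exact ⟨pCore p N, h1, inferInstance, Or.inl Grp.pCore_isPGroup.exists_card_eq⟩
    haveI := hchar
    obtain ⟨M, hM⟩ : ∃ M, M = M₀.map N.subtype := ⟨_, rfl⟩
    haveI hMn : M.Normal := hM ▸ inferInstance
    have hcM : Nat.card M = Nat.card M₀ := by
      rw [hM, Subgroup.card_map_of_injective N.subtype_injective]
    have hMN : M ≤ N := hM ▸ Subgroup.map_subtype_le _
    refine S1950.isPSolvable_ext M (hcM ▸ hcard) ?_
    haveI : (N.map (QuotientGroup.mk' M)).Normal :=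
      Subgroup.Normal.map inferInstance _ (QuotientGroup.mk'_surjective M)
    refine ih (G ⧸ M) ?_ (N.map (QuotientGroup.mk' M))
      (Grp.isPSolvable_map hN ((QuotientGroup.mk' M).subgroupMap N)
        (MonoidHom.subgroupMap_surjective _ _))
      (Grp.isPSolvable_map hQ (QuotientGroup.quotientQuotientEquivQuotient M N hMN).symm.toMonoidHom
        (MulEquiv.surjective _))
    have h1 := M.card_eq_card_quotient_mul_card_subgroup
    have h2 : 2 ≤ Nat.card M := by
      have : M ≠ ⊥ := by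
        rw [hM, Ne, Subgroup.map_eq_bot_iff_of_injective _ N.subtype_injective]
        exact hM₀
      exact M.one_lt_card_iff_ne_bot.2 this
    have h3 : 1 ≤ Nat.card (G ⧸ M) := Nat.card_pos
    nlinarith

theorem pow_mem_of_sylow_le {G : Type u} [Group G] [Finite G] (T : Sylow p G) {H : Subgroup G}
    [H.Normal] (hT : (T : Subgroup G) ≤ H) : (Nat.card (G ⧸ H)).Coprime p :=
  ((Fact.out : p.Prime).coprime_iff_not_dvd.2 fun h =>
    T.not_dvd_index (h.trans (Subgroup.index_dvd_of_le hT))).symm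

/-- A group with a normal `p`-soluble subgroup containing a Sylow subgroup of the `p`-residual. -/
theorem isPSolvable_of_residual_sylow {G : Type u} [Group G] [Finite G] (T : Sylow p G)
    {H : Subgroup G} [H.Normal] (hH : IsPSolvable p H)
    (hT : (T : Subgroup G) ⊓ pResidual p G ≤ H) : IsPSolvable p G := by
  refine isPSolvable_extension _ G le_rfl H hH ?_
  obtain ⟨K, hK⟩ : ∃ K, K = pResidual p G := ⟨_, rfl⟩
  haveI : K.Normal := hK ▸ Transfer.instNormalPResidual p
  obtain ⟨N, hN⟩ : ∃ N, N = K.map (QuotientGroup.mk' H) := ⟨_, rfl⟩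
  haveI : N.Normal := hN ▸ Subgroup.Normal.map inferInstance _ (QuotientGroup.mk'_surjective H)
  refine S1950.isPSolvable_ext N (Or.inr ?_) (S1950.isPSolvable_of_card _ (Or.inl ?_))
  · obtain ⟨-, R, hR⟩ := isSylowOf_inf_normal T K
    rw [← hK] at hT
    have h1 : Nat.card N = H.relIndex K := by
      rw [hN, ← Subgroup.relIndex_ker, QuotientGroup.ker_mk']
    refine ((Fact.out : p.Prime).coprime_iff_not_dvd.2 fun h => ?_).symm
    refine R.not_dvd_index (h.trans (h1 ▸ Subgroup.index_dvd_of_le ?_))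
    rw [hR]
    exact fun x hx => hT hx
  · refine IsPGroup.iff_card.1 fun x => ?_
    obtain ⟨y, rfl⟩ := QuotientGroup.mk'_surjective N x
    obtain ⟨z, rfl⟩ := QuotientGroup.mk'_surjective H y
    obtain ⟨k, hk⟩ := Invol.isPGroup_quotient_pResidual (p := p) (G := G) (z : G ⧸ pResidual p G)
    refine ⟨k, ?_⟩
    rw [← QuotientGroup.mk_pow, QuotientGroup.eq_one_iff] at hk
    rw [← map_pow, ← map_pow]
    exact (QuotientGroup.eq_one_iff _).2 (hN ▸ ⟨_, hK ▸ hk, rfl⟩)

theorem charP_normal {G : Type u} [Group G] [Finite G] (hG : Invol.CharP' p G) (H : Subgroup G)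
    [H.Normal] : Invol.CharP' p H :=
  Invol.charP_of_le_normalizer hG H (Subgroup.normalizer_eq_top H ▸ le_top)

end Groups

section Transport

variable {Ω : Type u} [Group Ω] {S : Subgroup Ω} [Finite S] {G : Type v} [Group G]
  {ι : S →* G} {F : FusionSystem S} {p : ℕ} [Fact p.Prime] [Finite G]

/-- A realized system is isomorphic to the system of the group. -/
theorem exists_realIso (h : F.IsRealizedBy ι) {U : Sylow p G} (hU : (U : Subgroup G) = ι.range) :
    ∃ g, Iso F (groupFusionSystem (U : Subgroup G)) (extFun ι) g := by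
  let g : G → Ω := fun y => if hy : ∃ x ∈ S, extFun ι x = y then hy.choose else 1
  have himg : ∀ y, y ∈ (U : Subgroup G) ↔ ∃ x ∈ S, extFun ι x = y := fun y => by
    rw [hU]
    exact ⟨fun ⟨x, hx⟩ => ⟨x, x.2, (extFun_apply ι x.2).trans hx⟩,
      fun ⟨x, hx, e⟩ => ⟨⟨x, hx⟩, (extFun_apply ι hx).symm.trans e⟩⟩
  have hg : ∀ y ∈ (U : Subgroup G), g y ∈ S ∧ extFun ι (g y) = y := fun y hy => by
    have hy' := (himg y).1 hy
    simp only [g, dif_pos hy']
    exact hy'.choose_spec
  have hf : ∀ x ∈ S, extFun ι x ∈ (U : Subgroup G) := fun x hx => (himg _).2 ⟨x, hx, rfl⟩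
  have hleft : ∀ x ∈ S, g (extFun ι x) = x := fun x hx =>
    extFun_injOn h.1 (hg _ (hf x hx)).1 hx (hg _ (hf x hx)).2
  have hconj : ∀ (P : Subgroup Ω) (φ : P →* Ω), P ≤ S → (∀ x : P, φ x ∈ S) →
      (φ ∈ F.Hom P ↔ ∃ c : G, ∀ x : P, extFun ι (φ x) = c * extFun ι x * c⁻¹) := by
    intro P φ hP hφ
    rw [h.2 P hP φ hφ]
    refine exists_congr fun c => forall_congr' fun x => ?_
    rw [extFun_apply ι (hφ x), extFun_apply ι (hP x.2)]
  have himg' : ∀ P, P ≤ S → ∀ y ∈ img (extFun ι) P, ∃ x ∈ P, extFun ι x = y := by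
    intro P hP y hy
    have hle : img (extFun ι) P ≤ (P.subgroupOf S).map ι := img_le fun x hx =>
      ⟨⟨x, hP hx⟩, hx, (extFun_apply ι (hP hx)).symm⟩
    obtain ⟨s, hs, rfl⟩ := hle hy
    exact ⟨s, hs, extFun_apply ι s.2⟩
  refine ⟨g, hf, fun y hy => (hg y hy).1, hleft, fun y hy => (hg y hy).2,
    fun x hx y hy => extFun_mul ι hx hy, fun {P m} hm => ?_, fun {Q m} hm => ?_⟩
  · obtain ⟨φ, hφ, e⟩ := hm.exists_hom
    obtain ⟨hP, hφS⟩ := F.le_of_mem hφ
    obtain ⟨c, hc⟩ := (hconj P φ hP hφS).1 hφ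
    refine isMap_group.2 ⟨img_le fun x hx => hf x (hP hx), c, fun y hy => ?_⟩
    obtain ⟨x, hx, rfl⟩ := himg' P hP y hy
    have he : extFun ι (m x) = c * extFun ι x * c⁻¹ := e ⟨x, hx⟩ ▸ hc ⟨x, hx⟩
    exact ⟨by rw [hleft x (hP hx), he], he ▸ hf _ (e ⟨x, hx⟩ ▸ hφS ⟨x, hx⟩)⟩
  · obtain ⟨hQ, c, hc⟩ := isMap_group.1 hm
    obtain ⟨P, hPdef⟩ : ∃ P, P = img g Q := ⟨_, rfl⟩
    have hgmul : ∀ a ∈ (U : Subgroup G), ∀ b ∈ (U : Subgroup G), g (a * b) = g a * g b :=
      fun a ha b hb => by
      refine extFun_injOn h.1 (hg _ (mul_mem ha hb)).1 (S.mul_mem (hg a ha).1 (hg b hb).1) ?_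
      rw [(hg _ (mul_mem ha hb)).2, extFun_mul ι (hg a ha).1 (hg b hb).1, (hg a ha).2, (hg b hb).2]
    have hginv : ∀ a ∈ (U : Subgroup G), g a⁻¹ = (g a)⁻¹ := fun a ha => by
      refine extFun_injOn h.1 (hg _ (inv_mem ha)).1 (S.inv_mem (hg a ha).1) ?_
      rw [(hg _ (inv_mem ha)).2, extFun_inv ι (hg a ha).1, (hg a ha).2]
    have hP : P ≤ S := hPdef ▸ img_le fun y hy => (hg y (hQ hy)).1
    have hPQ : ∀ x ∈ P, extFun ι x ∈ Q := by
      intro x hx
      rw [hPdef] at hx
      induction hx using Subgroup.closure_induction with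
      | mem z hz =>
        obtain ⟨y, hy, rfl⟩ := hz
        rw [(hg y (hQ hy)).2]; exact hy
      | one => rw [extFun_apply ι S.one_mem, show (⟨1, S.one_mem⟩ : S) = 1 from rfl, map_one]
               exact Q.one_mem
      | mul a b ha hb iha ihb =>
        have haS : a ∈ S := (hPdef ▸ hP) ha
        have hbS : b ∈ S := (hPdef ▸ hP) hb
        rw [extFun_mul ι haS hbS]
        exact Q.mul_mem iha ihb
      | inv a ha iha =>
        rw [extFun_inv ι ((hPdef ▸ hP) ha)]
        exact Q.inv_mem iha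
    obtain ⟨φ, hφS, hφc⟩ := exists_pull h.1 (T := S) le_rfl hP c fun x hx => by
      have h1 := (hc _ (hPQ x hx)).2
      exact ⟨_, (hg _ h1).1, (hg _ h1).2⟩
    rw [← hPdef]
    refine ⟨φ, (hconj P φ hP hφS).2 ⟨c, hφc⟩, fun x => ?_⟩
    show φ x = g (m (extFun ι x))
    rw [(hc _ (hPQ x x.2)).1, ← hφc x, hleft _ (hφS x)]

/-- Normal subsystems of a modelled system come from normal subgroups of the model. -/
theorem exists_normal_realizing (hS : IsPGroup p S) (hG : F.IsModel p G ι) {T : Subgroup Ω}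
    {E : FusionSystem T} (hE : E.IsNormalIn F p) :
    ∃ H : Subgroup G, H.Normal ∧ pullSub ι H = T ∧
      ∃ ν : T →* H, (∀ x : T, ((ν x : H) : G) = extFun ι x) ∧ E.IsModel p H ν := by
  obtain ⟨-, h, ⟨U, hU⟩, hC⟩ := hG
  obtain ⟨g, I⟩ := exists_realIso h hU
  have hTS : T ≤ S := hE.1.2.2.2.1.1
  obtain ⟨E', J⟩ := I.exists_push hTS E
  have d : NormalCtx p (U : Subgroup G) (img (extFun ι) T) E' :=
    ⟨⟨U, rfl⟩, hC, I.normal J hS hE⟩
  haveI := d.H_normal
  have hfT : ∀ x ∈ T, extFun ι x ∈ d.H := fun x hx => d.T_le_H (apply_mem_img _ hx)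
  let ν : T →* d.H := (ι.comp (Subgroup.inclusion hTS)).codRestrict _ fun x => by
    have := hfT x x.2
    rwa [extFun_apply ι (hTS x.2)] at this
  have hν : ∀ x : T, ((ν x : d.H) : G) = extFun ι x := fun x => (extFun_apply ι (hTS x.2)).symm
  refine ⟨d.H, d.H_normal, le_antisymm (fun x hx => ?_) (fun x hx => (mem_pullSub ι).2
    ⟨hTS hx, hfT x hx⟩), ν, hν, inferInstance, ⟨fun a b e => Subtype.ext (extFun_injOn h.1
      (hTS a.2) (hTS b.2) (by rw [← hν, ← hν, e])), fun P hP φ hφ => ?_⟩, ?_, charP_normal hC d.H⟩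
  · obtain ⟨hxS, hxH⟩ := (mem_pullSub ι).1 hx
    have h1 : extFun ι x ∈ img (extFun ι) T := d.inf_H ▸ Subgroup.mem_inf.2 ⟨I.mem x hxS, hxH⟩
    obtain ⟨t, ht, e⟩ := (I.mem_img hTS).1 h1
    exact extFun_injOn h.1 (hTS ht) hxS e ▸ ht
  · constructor
    · intro hφE
      have h1 := J.map (isMap_toFun hφE)
      obtain ⟨χ, hχ, hχe⟩ := h1.exists_hom
      rw [d.hom_eq] at hχ
      obtain ⟨-, -, c, hc, hce⟩ := hχ
      refine ⟨⟨c, hc⟩, fun x => Subtype.ext ?_⟩
      simp only [Subgroup.coe_mul, Subgroup.coe_inv, hν]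
      have h2 := hχe ⟨_, apply_mem_img _ x.2⟩
      rw [hce] at h2
      simp only [J.left x (hP x.2), toFun_coe] at h2
      exact h2.symm
    · rintro ⟨⟨c, hc⟩, hce⟩
      have hce' : ∀ x : P, extFun ι (φ x) = c * extFun ι x * c⁻¹ := fun x => by
        have := congrArg Subtype.val (hce x)
        simpa only [Subgroup.coe_mul, Subgroup.coe_inv, hν] using this
      have h1 : IsMap E' (img (extFun ι) P) (fun y => c * y * c⁻¹) := by
        obtain ⟨χ, hχ, hχe⟩ := (isMap_ofSubgroup (hTH := d.T_le_H)).2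
          ⟨J.img_le_S hP, c, hc, fun y hy => ⟨rfl, by
            obtain ⟨x, hx, rfl⟩ := (J.mem_img hP).1 hy
            rw [← hce' ⟨x, hx⟩]
            exact J.mem _ (hφ ⟨x, hx⟩)⟩⟩
        rw [← d.hom_eq] at hχ
        exact ⟨χ, hχ, hχe⟩
      have h2 := J.map' h1
      rw [J.img_img hP] at h2
      refine mem_hom_of_isMap h2 fun x => ?_
      show φ x = g (c * extFun ι x * c⁻¹)
      rw [← hce' x, J.left _ (hφ x)]
  · obtain ⟨-, R, hR⟩ := d.sylow_H
    refine ⟨R, hR.trans ?_⟩
    ext y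
    rw [Subgroup.mem_subgroupOf, MonoidHom.mem_range, I.mem_img hTS]
    constructor
    · rintro ⟨x, hx, e⟩
      exact ⟨⟨x, hx⟩, Subtype.ext ((hν _).trans e)⟩
    · rintro ⟨x, rfl⟩
      exact ⟨x, x.2, (hν x).symm⟩

end Transport

section Constrained

variable {Ω : Type u} [Group Ω] {S : Subgroup Ω} [Finite S] {F : FusionSystem S} {p : ℕ}
  [Fact p.Prime]

/-- A system with a normal constrained subsystem over the whole group is constrained. -/
theorem constrained_of_normal_full (hS : IsPGroup p S) (hF : F.IsSaturated p) {E : FusionSystem S}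
    (hE : E.IsNormalIn F p) (hc : E.IsConstrained p) : F.IsConstrained p := by
  refine ⟨hF, F.core, isNormal_core F, isCentric_of_normal (isNormal_core F) fun x hx => ?_⟩
  exact CompFree.le_core_of_constrained hS hF hE hc hx.1 hx.2

/-- A system with a constrained normal subsystem of `p`-power index is constrained. -/
theorem constrained_of_pPower (hS : IsPGroup p S) (hF : F.IsSaturated p) {T : Subgroup Ω}
    (hyp : F.hyperfocalSubgroup p ≤ T) {E : FusionSystem T} (hE : E.IsNormalIn F p)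
    (hc : E.IsConstrained p) : F.IsConstrained p := by
  have hT : F.StronglyClosed T := hE.1.2.2.2.1
  have hTS : T ≤ S := hT.1
  obtain ⟨K, hK⟩ : ∃ K, K = F.core := ⟨_, rfl⟩
  have hKn : F.IsNormal K := hK ▸ isNormal_core F
  have hKsc := stronglyClosed_of_isNormal hKn
  obtain ⟨C, hCdef⟩ : ∃ C, C = centralizerIn S K := ⟨_, rfl⟩
  have hCsc : F.StronglyClosed C := hCdef ▸ stronglyClosed_centralizerIn hKn
  have hCT : C ⊓ T ≤ K := fun x hx => by
    rw [hCdef] at hx
    exact hK ▸ CompFree.le_core_of_constrained hS hF hE hc hx.2 (hK ▸ hx.1.2)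
  haveI : Group.IsNilpotent S := hS.isNilpotent
  obtain ⟨c, hc'⟩ : ∃ c, Subgroup.lowerCentralSeries S c = ⊥ := by
    obtain ⟨c, hc⟩ := Subgroup.nilpotent_iff_lowerCentralSeries.1 (inferInstance : Group.IsNilpotent S)
    refine ⟨c, ?_⟩
    have : ∀ n, ((⊤ : Subgroup S).lowerCentralSeries n).map S.subtype = S.lowerCentralSeries n := by
      intro n
      induction n with
      | zero => exact (MonoidHom.range_eq_map S.subtype).symm.trans (Subgroup.range_subtype S)
      | succ n ih =>
        rw [Subgroup.lowerCentralSeries_succ, Subgroup.lowerCentralSeries_succ,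
          Subgroup.map_commutator, ih, ← MonoidHom.range_eq_map, Subgroup.range_subtype]
    rw [← this, hc, Subgroup.map_bot]
  have hγ : ∀ i, S.lowerCentralSeries i ≤ S := fun i =>
    (S.lowerCentralSeries_antitone (Nat.zero_le i)).trans_eq S.lowerCentralSeries_zero
  have hsc : ∀ i, F.StronglyClosed (T ⊔ S.lowerCentralSeries i) := fun i => by
    refine stronglyClosed_of_hyperfocal_le hS hF (sup_le hTS (hγ i)) ?_ (hyp.trans le_sup_left)
    refine (Subgroup.normal_subgroupOf_iff_le_normalizer (sup_le hTS (hγ i))).2 ?_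
    exact fun g hg => normalizer_sup_le (S.self_le_normalizer_lowerCentralSeries i hg)
      (le_normalizer_of_stronglyClosed hT hg)
  have key : ∀ k i, i + k = c → C ⊓ (T ⊔ S.lowerCentralSeries i) ≤ K := by
    intro k
    induction k with
    | zero =>
      intro i hi
      rw [show i = c from hi, hc', sup_bot_eq]
      exact hCT
    | succ k ih =>
      intro i hi
      have h' := ih (i + 1) (by omega)
      obtain ⟨L, hL⟩ : ∃ L, L = C ⊓ (T ⊔ S.lowerCentralSeries i) := ⟨_, rfl⟩
      have hLsc : F.StronglyClosed L := hL ▸ stronglyClosed_inf hCsc (hsc i)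
      rw [← hL]
      have hLL : ⁅L, L⁆ ≤ L ⊓ K := by
        refine le_inf (Subgroup.commutator_le_self L) ((Subgroup.commutator_le.2 ?_).trans h')
        intro a ha b hb
        have haL : a ∈ C ⊓ (T ⊔ S.lowerCentralSeries i) := hL ▸ ha
        have hbL : b ∈ C ⊓ (T ⊔ S.lowerCentralSeries i) := hL ▸ hb
        refine ⟨C.mul_mem (C.mul_mem (C.mul_mem haL.1 hbL.1) (C.inv_mem haL.1)) (C.inv_mem hbL.1), ?_⟩
        obtain ⟨N, hN⟩ : ∃ N, N = T ⊔ S.lowerCentralSeries (i + 1) := ⟨_, rfl⟩
        have hNn : S ≤ Subgroup.normalizer (N : Set Ω) :=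
          le_normalizer_of_stronglyClosed (hN ▸ hsc (i + 1))
        rw [← hN]
        have hbS : b ∈ S := sup_le hTS (hγ i) hbL.2
        obtain ⟨z, hz, t, ht, rfl⟩ := mem_sup_dest
          ((hγ i).trans (le_normalizer_of_stronglyClosed hT)) (sup_comm T _ ▸ haL.2)
        have h1 : ⁅t, b⁆ ∈ T := by
          rw [commutatorElement_def, show t * b * t⁻¹ * b⁻¹ = t * (b * t⁻¹ * b⁻¹) by group]
          exact T.mul_mem ht ((Subgroup.mem_normalizer_iff.1
            (le_normalizer_of_stronglyClosed hT hbS) _).1 (T.inv_mem ht))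
        have h2 : ⁅z, b⁆ ∈ S.lowerCentralSeries (i + 1) :=
          Subgroup.commutator_mem_commutator hz hbS
        have h3 : ⁅z * t, b⁆ = z * ⁅t, b⁆ * z⁻¹ * ⁅z, b⁆ := by
          simp only [commutatorElement_def]; group
        rw [h3]
        refine N.mul_mem ?_ (hN ▸ Subgroup.mem_sup_right h2)
        exact (Subgroup.mem_normalizer_iff.1 (hNn (hγ i hz)) _).1 (hN ▸ Subgroup.mem_sup_left h1)
      have hLK : ⁅L, L ⊓ K⁆ ≤ ⊥ := Subgroup.commutator_le.2 fun a ha b hb => by
        rw [Subgroup.mem_bot, commutatorElement_eq_one_iff_commute]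
        have : a ∈ centralizerIn S K := by
          rw [← hCdef]; exact (hL ▸ ha : a ∈ C ⊓ (T ⊔ S.lowerCentralSeries i)).1
        exact (this.2 b hb.2).symm
      have hLn : F.IsNormal L := by
        have h := isNormal_of_chain hS hF ![⊥, L ⊓ K, L] rfl ?_ fun j => ?_
        · exact h
        · refine Fin.monotone_iff_le_succ.2 fun j => ?_
          fin_cases j
          · exact bot_le
          · exact inf_le_left
        · fin_cases j
          · exact ⟨stronglyClosed_inf hLsc hKsc, hLK⟩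
          · exact ⟨hLsc, hLL⟩
      exact hK ▸ le_core hLn
  refine ⟨hF, K, hKn, isCentric_of_normal hKn fun x hx => key c 0 (Nat.zero_add c) ⟨?_, ?_⟩⟩
  · rw [hCdef]; exact hx
  · exact Subgroup.mem_sup_right (S.lowerCentralSeries_zero.symm ▸ hx.1)

end Constrained

section Residual

variable {Ω : Type u} [Group Ω] {S : Subgroup Ω} [Finite S] {F : FusionSystem S} {p : ℕ}
  [Fact p.Prime]

/-- Index prime to `p` is transitive. -/
theorem primeIndex_trans {E D : FusionSystem S} (hE : E.HasPrimeToPIndexIn F p)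
    (hD : D.HasPrimeToPIndexIn E p) : D.HasPrimeToPIndexIn F p := by
  refine ⟨fun P => (hD.1 P).trans (hE.1 P), fun P hP => ?_⟩
  rw [Subgroup.map_le_iff_le_comap, Subgroup.closure_le]
  rintro α ⟨k, hk⟩
  have h1 : (α : MulAut P) ∈ E.autGroup P :=
    hE.2 P hP ⟨α, Subgroup.subset_closure ⟨k, hk⟩, rfl⟩
  exact hD.2 P hP ⟨⟨α, h1⟩, Subgroup.subset_closure
    ⟨k, by rwa [← Subgroup.orderOf_coe, Subgroup.coe_mk, Subgroup.orderOf_coe]⟩, rfl⟩

/-- A subsystem containing one of index prime to `p` has index prime to `p`, and the reverse. -/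
theorem primeIndex_between {E D : FusionSystem S} (hE : E.HasPrimeToPIndexIn F p)
    (hED : E.IsSubsystemOf D) (hDF : D.IsSubsystemOf F) :
    D.HasPrimeToPIndexIn F p ∧ E.HasPrimeToPIndexIn D p := by
  refine ⟨⟨hDF, fun P hP => (hE.2 P hP).trans (autGroup_mono hED P)⟩, hED, fun P hP => ?_⟩
  rw [Subgroup.map_le_iff_le_comap, Subgroup.closure_le]
  rintro α ⟨k, hk⟩
  exact hE.2 P hP ⟨⟨α, autGroup_mono hDF P α.2⟩, Subgroup.subset_closure
    ⟨k, by rwa [← Subgroup.orderOf_coe, Subgroup.coe_mk, Subgroup.orderOf_coe]⟩, rfl⟩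

theorem residual_normal_self (hS : IsPGroup p S) (hF : F.IsSaturated p) {E : FusionSystem S}
    (hE : F.IsPPrimeResidual p E) : E.IsNormalIn F p :=
  ResNorm.residual_isNormalIn hS ⟨hF, hF, Envelope.invariant_self F⟩ hE

theorem pResidual_normal (hS : IsPGroup p S) (hF : F.IsSaturated p)
    {D : FusionSystem (F.hyperfocalSubgroup p)} (hD : F.IsPResidual p D) : D.IsNormalIn F p :=
  isNormalIn_of_pPowerIndex hS hF (hyperfocal_le F p)
    ⟨fun _ hn g => hyperfocal_conj_mem g.2 hn⟩ le_rfl hD.1 hD.2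

/-- In a realizing group the residual meets the Sylow subgroup in the hyperfocal subgroup. -/
theorem hyperfocal_image {G : Type u} [Group G] [Finite G] {ι : S →* G}
    (h : F.IsRealizedBy ι) {U : Sylow p G} (hU : (U : Subgroup G) = ι.range) {y : G}
    (hy : y ∈ (U : Subgroup G) ⊓ pResidual p G) :
    ∃ x ∈ F.hyperfocalSubgroup p, extFun ι x = y := by
  obtain ⟨g, I⟩ := exists_realIso h hU
  rw [← hyperfocal_group] at hy
  have hyU : y ∈ (U : Subgroup G) := hyperfocal_le _ p hy
  exact ⟨g y, I.symm.hyperfocal_le (apply_mem_img g hy), I.right y hyU⟩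

end Residual

section Main

variable {Ω : Type u} [Group Ω] {p : ℕ}

/-- The modelled system of a terminating series is constrained with `p`-soluble models. -/
theorem forward {S : Subgroup Ω} {F : FusionSystem S}
    (h : F.HasTerminatingResidualSeries p) : p.Prime → Finite S → IsPGroup p S → F.IsSaturated p →
      F.IsConstrained p ∧
        ∀ (G : Type u) [Group G] (ι : S →* G), F.IsModel p G ι → IsPSolvable p G := by
  induction h with
  | trivial F p hb =>
    intro hp hfin hS hF
    haveI : Fact (Nat.Prime _) := ⟨hp⟩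
    haveI := hfin
    refine ⟨⟨hF, F.core, isNormal_core F, isCentric_of_normal (isNormal_core F) fun x hx => ?_⟩,
      fun G _ ι hG => ?_⟩
    · have hx1 : x ∈ (⊥ : Subgroup Ω) := hb ▸ hx.1
      rw [Subgroup.mem_bot.1 hx1]
      exact one_mem _
    · obtain ⟨hG', -, ⟨U, hU⟩, hC⟩ := hG
      haveI := hG'
      have hU' : (U : Subgroup G) = ⊥ := by
        rw [hU, MonoidHom.range_eq_bot_iff]
        refine MonoidHom.ext fun x => ?_
        rw [show x = 1 from Subtype.ext (Subgroup.mem_bot.1 (hb ▸ x.2)), map_one, map_one]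
      have h0 : pCore _ G = ⊥ := le_bot_iff.1 (hU' ▸ Grp.pCore_le_sylow U)
      rw [h0] at hC
      have h1 : (⊤ : Subgroup G) = ⊥ := le_bot_iff.1 fun x _ => hC (by
        rw [Subgroup.mem_centralizer_iff]
        intro y hy
        rw [SetLike.mem_coe, Subgroup.mem_bot] at hy
        rw [hy, one_mul, mul_one])
      refine S1950.isPSolvable_of_card G (Or.inl ⟨0, ?_⟩)
      rw [← Subgroup.card_top, h1, Subgroup.card_bot, pow_zero]
  | step F E p D hE hD _ ih =>
    intro hp hfin hS hF
    haveI : Fact (Nat.Prime _) := ⟨hp⟩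
    haveI := hfin
    have hEn := residual_normal_self hS hF hE
    have hDn := pResidual_normal hS hE.1 hD
    obtain ⟨hDc, hDm⟩ := ih hp (finite_of_le (hyperfocal_le E p))
      (hS.to_le (hyperfocal_le E p)) hD.1
    have hEc := constrained_of_pPower hS hE.1 le_rfl hDn hDc
    refine ⟨constrained_of_normal_full hS hF hEn hEc, fun G _ ι hG => ?_⟩
    haveI := hG.1
    obtain ⟨H, hH, hHS, ν, hν, hνm⟩ := exists_normal_realizing hS hG hEn
    have hHsol : IsPSolvable p H := by
      obtain ⟨H', hH', hH'T, μ, -, hμm⟩ := exists_normal_realizing hS hνm hDn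
      haveI := hH'
      obtain ⟨-, hr, ⟨U, hU⟩, -⟩ := hνm
      refine isPSolvable_of_residual_sylow U (hDm H' μ hμm) fun y hy => ?_
      obtain ⟨x, hx, rfl⟩ := hyperfocal_image hr hU hy
      exact ((mem_pullSub ν).1 (hH'T.symm ▸ hx)).2
    obtain ⟨-, hr, ⟨U, hU⟩, -⟩ := hG
    refine isPSolvable_of_residual_sylow U hHsol fun y hy => ?_
    obtain ⟨x, hx, rfl⟩ := hyperfocal_image hr hU hy
    exact ((mem_pullSub ι).1 (hHS.symm ▸ hyperfocal_le F p hx)).2

/-- A normal subgroup containing the Sylow subgroup gives a subsystem over the whole group. -/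
theorem exists_full_subsystem {S : Subgroup Ω} [Finite S] {F : FusionSystem S} [Fact p.Prime]
    {G : Type u} [Group G] [Finite G] {ι : S →* G} (h : F.IsRealizedBy ι) {U : Sylow p G}
    (hU : (U : Subgroup G) = ι.range) (N : Subgroup G) [N.Normal] (hUN : (U : Subgroup G) ≤ N) :
    ∃ E : FusionSystem S, E.IsNormalIn F p ∧ ∃ ν : S →* N, E.IsRealizedBy ν ∧
      ∃ W : Sylow p N, (W : Subgroup N) = ν.range := by
  have hT : pullSub ι N = S := le_antisymm (pullSub_le ι N) fun x hx =>
    (mem_pullSub ι).2 ⟨hx, hUN (hU ▸ ⟨⟨x, hx⟩, (extFun_apply ι hx).symm⟩)⟩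
  have key : ∀ {T : Subgroup Ω}, pullSub ι N = T → ∃ E : FusionSystem T, E.IsNormalIn F p ∧
      ∃ ν : T →* N, E.IsRealizedBy ν ∧ ∃ W : Sylow p N, (W : Subgroup N) = ν.range := by
    rintro T rfl
    obtain ⟨ν, hν, -, W, hW⟩ := realSys_realizedBy h hU N
    exact ⟨_, realSys_isNormalIn h hU N, ν, hν, W, hW⟩
  exact key hT

theorem exists_proper_normal {G : Type u} [Group G] [Finite G] [Nontrivial G] [Fact p.Prime]
    (hG : IsPSolvable p G) : ∃ N : Subgroup G, N.Normal ∧ N ≠ ⊤ ∧
      ((∃ m, N.index = p ^ m) ∨ N.index.Coprime p) := by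
  obtain ⟨n, H, h0, hl, hm, hn, hi⟩ := hG
  by_contra hne
  have : ∀ i : Fin (n + 1), H i = ⊤ := by
    intro i
    induction i using Fin.reverseInduction with
    | last => exact hl
    | cast i ih =>
      by_contra hi'
      have h := hi i
      rw [ih, Subgroup.relIndex_top_right] at h
      exact hne ⟨_, hn _, hi', h⟩
  exact bot_ne_top (h0.symm.trans (this 0))

/-- The system of a finite `p`-soluble group has a terminating residual series. -/
theorem backward [Fact p.Prime] : ∀ (n : ℕ) (G : Type u) [Group G] [Finite G], Nat.card G ≤ n →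
    IsPSolvable p G → ∀ {S : Subgroup Ω} [Finite S] {F : FusionSystem S} (ι : S →* G),
    IsPGroup p S → F.IsRealizedBy ι → (∃ U : Sylow p G, (U : Subgroup G) = ι.range) →
    F.HasTerminatingResidualSeries p := by
  intro n
  induction n with
  | zero => exact fun G _ _ h => absurd h (by have := Nat.card_pos (α := G); omega)
  | succ n ih =>
    intro G _ _ hn hG S _ F ι hS h hUex
    obtain ⟨U, hU⟩ := hUex
    by_cases hSb : S = ⊥
    · exact .trivial F p hSb
    have hF : F.IsSaturated p := isSaturated_of_realized h hU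
    haveI := Grp.pPrimeCore_isNormal (p := p) (G := G)
    by_cases hO : pPrimeCore p G = ⊥
    swap
    · have hinf : ι.range ⊓ pPrimeCore p G = ⊥ := by
        rw [← disjoint_iff]
        refine Subgroup.disjoint_of_coprime_natCard ?_
        obtain ⟨k, hk⟩ := (hU ▸ U.2 : IsPGroup p ι.range).exists_card_eq
        rw [hk]
        exact Nat.Coprime.pow_left k (Grp.pPrimeCore_coprime (p := p) (G := G)).symm
      obtain ⟨hr', hU'⟩ := realized_quotient hS h hU _ hinf
      refine ih (G ⧸ pPrimeCore p G) ?_ (Grp.isPSolvable_map hG (QuotientGroup.mk' _)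
        (QuotientGroup.mk'_surjective _)) _ hS hr' hU'
      have h1 := (pPrimeCore p G).card_eq_card_quotient_mul_card_subgroup
      have h2 : 2 ≤ Nat.card (pPrimeCore p G) := (pPrimeCore p G).one_lt_card_iff_ne_bot.2 hO
      have h3 : 1 ≤ Nat.card (G ⧸ pPrimeCore p G) := Nat.card_pos
      nlinarith
    have hmod : F.IsModel p G ι :=
      ⟨inferInstance, h, ⟨U, hU⟩, Grp.centralizer_pCore_le_of_pSolvable hG hO⟩
    have hlt : ∀ N : Subgroup G, N ≠ ⊤ → Nat.card N ≤ n := fun N hN => by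
      have h1 := Subgroup.card_le_card_group N
      have h2 : Nat.card N ≠ Nat.card G := fun e => hN (Subgroup.eq_top_of_card_eq N e)
      omega
    obtain ⟨E, hE⟩ := PrimeIndex.exists_residual hS hF
    have hEn := residual_normal_self hS hF hE
    by_cases hN : ∃ N : Subgroup G, N.Normal ∧ N ≠ ⊤ ∧ (U : Subgroup G) ≤ N
    · obtain ⟨N, hNn, hNt, hUN⟩ := hN
      obtain ⟨E', hE'n, ν, hν, hW⟩ := exists_full_subsystem h hU N hUN
      have hterm := ih N (hlt N hNt) (Block.PPartDerived.isPSolvable_subgroup hG N) ν hS hν hW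
      cases hterm with
      | trivial _ _ hb => exact absurd hb hSb
      | step _ E₂ _ D hE₂ hD hterm' =>
        refine .step F E₂ p D ?_ hD hterm'
        have hEE' : E.IsSubsystemOf E' :=
          ResLeast.residual_le hS ⟨hF, hF, Envelope.invariant_self F⟩ hE'n.1 hE
        obtain ⟨h1, h2⟩ := primeIndex_between hE.2.1 hEE' hE'n.1.2.2.1
        exact ⟨hE₂.1, primeIndex_trans h1 hE₂.2.1, fun D₀ hD₀ hD₀i P =>
          (hE₂.2.2 E hE.1 h2 P).trans (hE.2.2 D₀ hD₀ hD₀i P)⟩
    push Not at hN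
    have hEF : F.IsPPrimeResidual p F := by
      obtain ⟨H, hHn, hHS, ν, hν, hνm⟩ := exists_normal_realizing hS hmod hEn
      have hHtop : H = ⊤ := by
        by_contra hHt
        refine hN H hHn hHt fun y hy => ?_
        obtain ⟨x, rfl⟩ := (hU ▸ hy : y ∈ ι.range)
        have := ((mem_pullSub ι).1 (hHS.symm ▸ x.2 : (x : Ω) ∈ pullSub ι H)).2
        rwa [extFun_apply ι x.2] at this
      obtain rfl : E = F := eq_of_hom_eq fun P => by
        ext φ
        refine ⟨fun hφ => hEn.1.2.2.1 P hφ, fun hφ => ?_⟩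
        obtain ⟨hP, hφS⟩ := F.le_of_mem hφ
        obtain ⟨c, hc⟩ := (h.2 P hP φ hφS).1 hφ
        refine (hνm.2.1.2 P hP φ hφS).2 ⟨⟨c, hHtop ▸ Subgroup.mem_top c⟩, fun x => Subtype.ext ?_⟩
        simp only [Subgroup.coe_mul, Subgroup.coe_inv, hν]
        rw [extFun_apply ι (hφS x), extFun_apply ι (hP x.2)]
        exact hc x
      exact hE
    haveI : Nontrivial G := by
      by_contra hG'
      rw [not_nontrivial_iff_subsingleton] at hG'
      exact hSb ((Subgroup.eq_bot_iff_forall _).2 fun x hx =>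
        congrArg Subtype.val (h.1 (Subsingleton.elim (ι ⟨x, hx⟩) (ι 1))))
    have hres : pResidual p G ≠ ⊤ := fun htop => by
      obtain ⟨N, hNn, hNt, hidx⟩ := exists_proper_normal hG
      rcases hidx with ⟨m, hm⟩ | hc
      · refine hNt (top_le_iff.1 (htop ▸ Invol.pResidual_le_of_isPGroup_quotient ?_))
        exact IsPGroup.of_card (n := m) (hm ▸ N.index_eq_card.symm)
      · refine hN N hNn hNt fun y hy => ?_
        rw [← QuotientGroup.eq_one_iff]
        obtain ⟨k, hk⟩ := U.2 ⟨y, hy⟩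
        refine orderOf_eq_one_iff.1 (Nat.eq_one_of_dvd_coprimes (hc.pow_right k) ?_
          (orderOf_dvd_of_pow_eq_one ?_))
        · rw [Subgroup.index_eq_card]
          exact orderOf_dvd_natCard _
        · rw [← QuotientGroup.mk_pow, show y ^ p ^ k = 1 from congrArg Subtype.val hk]
          rfl
    obtain ⟨D, hDs, hDi⟩ := PPowerExist.exists_pPowerIndex hS hF (hyperfocal_le F p) le_rfl
    have hDn := pResidual_normal hS hF ⟨hDs, hDi⟩
    obtain ⟨H, hHn, hHT, ν, -, hνm⟩ := exists_normal_realizing hS hmod hDn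
    have hHt : H ≠ ⊤ := fun e => by
      refine hN (pResidual p G) (Transfer.instNormalPResidual p) hres fun y hy => ?_
      obtain ⟨x, rfl⟩ := (hU ▸ hy : y ∈ ι.range)
      have hx : (x : Ω) ∈ F.hyperfocalSubgroup p := hHT ▸ (mem_pullSub ι).2
        ⟨x.2, e ▸ Subgroup.mem_top _⟩
      obtain ⟨g, I⟩ := exists_realIso h hU
      have h1 := I.hyperfocal_le (apply_mem_img (extFun ι) hx)
      rw [hyperfocal_group, extFun_apply ι x.2] at h1
      exact h1.2
    haveI : Finite (F.hyperfocalSubgroup p) := finite_of_le (hyperfocal_le F p)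
    exact .step F F p D hEF ⟨hDs, hDi⟩ (ih H (hlt H hHt)
      (Block.PPartDerived.isPSolvable_subgroup hG H) ν (hS.to_le (hyperfocal_le F p))
      hνm.2.1 hνm.2.2.1)

/-- The criterion. -/
theorem terminating_iff {S : Subgroup Ω} [Finite S] [Fact p.Prime] (hS : IsPGroup p S)
    (F : FusionSystem S) (hF : F.IsSaturated p) : F.HasTerminatingResidualSeries p ↔
      (F.IsConstrained p ∧
        ∀ (G : Type u) [Group G] (ι : S →* G), F.IsModel p G ι → IsPSolvable p G) := by
  refine ⟨fun h => forward h Fact.out inferInstance hS hF, fun ⟨hc, hm⟩ => ?_⟩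
  obtain ⟨-, Q, hQn, hQc⟩ := hc
  obtain ⟨G, _, ι, hG, -, -⟩ := exists_model_of_normal hS hF hQn (centralizerIn_le_of_centric hQc)
  haveI := hG.1
  exact backward _ G le_rfl (hm G ι hG) ι hS hG.2.1 hG.2.2.1

end Main

end Cfsg.Agent.Fus.ResSeries
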