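import Cfsg.Agent.Lib.Fus.OmegaChainNormal
import Cfsg.Agent.Lib.Fus.HypAction
import Cfsg.Agent.Lib.Grp.Frattini
import Mathlib.NumberTheory.Multiplicity
import Cfsg.Prelude.Def_OddOrderLocal

/-!
For odd `p` a strongly closed metacyclic subgroup is normal.
-/

set_option autoImplicit false
set_option linter.style.haveILetI false

open scoped Classical commutatorElement Pointwise

namespace Cfsg.Agent.Fus

open Subgroup FusionSystem

universe u

/-- If `a ^ p ≡ 1` modulo `p ^ k` then `p (a - 1) ≡ 0`, for odd `p`. -/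
theorem pow_dvd_mul_sub_one {p k : ℕ} [hp : Fact p.Prime] (hp2 : p ≠ 2) {a : ℤ}
    (h : (p : ℤ) ^ k ∣ a ^ p - 1) : (p : ℤ) ^ k ∣ (p : ℤ) * (a - 1) := by
  rcases k with _ | k
  · simp
  have hdvd : (p : ℤ) ∣ a ^ p - 1 := (dvd_pow_self _ k.succ_ne_zero).trans h
  have ha1 : (p : ℤ) ∣ a - 1 := by
    rw [← ZMod.intCast_zmod_eq_zero_iff_dvd] at hdvd ⊢
    push_cast at hdvd ⊢
    rwa [ZMod.pow_card] at hdvd
  have hna : ¬ (p : ℤ) ∣ a := fun h1 => by
    have h2 := dvd_sub h1 ha1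
    rw [sub_sub_cancel] at h2
    exact hp.out.not_dvd_one (Int.natCast_dvd_natCast.1 (by simpa using h2))
  have hLTE := Int.emultiplicity_pow_sub_pow hp.out (hp.out.odd_of_ne_two hp2) (y := 1)
    ha1 hna p
  rw [one_pow] at hLTE
  rw [pow_dvd_iff_le_emultiplicity] at h ⊢
  rw [emultiplicity_mul (Nat.prime_iff_prime_int.1 hp.out)]
  rw [hLTE, add_comm] at h
  rw [Int.natCast_emultiplicity]
  simpa [add_comm] using h

/-- The elements of order dividing `p` of a metacyclic `p`-group, `p` odd, form a subgroup that is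
abelian of order at most `p ^ 2`. -/
theorem exists_omega_metacyclic {R : Type u} [Group R] [Finite R] {p : ℕ} [hp : Fact p.Prime]
    (hp2 : p ≠ 2) (hR : IsPGroup p R) (hm : IsMetacyclic R) :
    ∃ V : Subgroup R, (∀ x, x ∈ V ↔ x ^ p = 1) ∧ (∀ a ∈ V, ∀ b ∈ V, a * b = b * a) ∧
      Nat.card V ≤ p ^ 2 := by
  obtain ⟨N, hN, hNc, hQc⟩ := hm
  haveI := hN
  obtain ⟨g, hg⟩ := IsCyclic.exists_generator (α := N)
  have hz : ∀ n ∈ N, ∃ i : ℤ, (g : R) ^ i = n := fun n hn => by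
    obtain ⟨i, hi⟩ := Subgroup.mem_zpowers_iff.1 (hg ⟨n, hn⟩)
    exact ⟨i, by rw [← Subgroup.coe_zpow, hi]⟩
  letI : CommGroup (Subgroup.zpowers (g : R)) := IsCyclic.commGroup
  let Z : Subgroup R := ((powMonoidHom p : Subgroup.zpowers (g : R) →* Subgroup.zpowers (g : R)).ker).map
    (Subgroup.zpowers (g : R)).subtype
  have hZ : ∀ x, x ∈ Z ↔ x ∈ N ∧ x ^ p = 1 := by
    intro x
    constructor
    · rintro ⟨⟨y, hy⟩, hyk, rfl⟩
      obtain ⟨i, rfl⟩ := Subgroup.mem_zpowers_iff.1 hy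
      exact ⟨N.zpow_mem g.2 i, congrArg Subtype.val (MonoidHom.mem_ker.1 hyk)⟩
    · rintro ⟨hx, hxp⟩
      obtain ⟨i, rfl⟩ := hz x hx
      exact ⟨⟨_, Subgroup.mem_zpowers_iff.2 ⟨i, rfl⟩⟩, MonoidHom.mem_ker.2 (Subtype.ext hxp), rfl⟩
  have hZcard : Nat.card Z ≤ p := by
    rw [Subgroup.card_map_of_injective (Subgroup.subtype_injective _)]
    haveI := Fintype.ofFinite (Subgroup.zpowers (g : R))
    refine le_trans (le_of_eq ?_)
      (IsCyclic.card_pow_eq_one_le (α := Subgroup.zpowers (g : R)) hp.out.pos)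
    rw [← Nat.card_eq_finsetCard]
    exact Nat.card_congr (Equiv.subtypeEquivRight fun x => by simp [MonoidHom.mem_ker])
  have hNab : ∀ a ∈ N, ∀ b ∈ N, a * b = b * a := fun a ha b hb => by
    obtain ⟨i, rfl⟩ := hz a ha
    obtain ⟨j, rfl⟩ := hz b hb
    exact (Commute.zpow_zpow (Commute.refl _) i j).eq
  by_cases hall : ∀ x : R, x ^ p = 1 → x ∈ N
  · refine ⟨Z, fun x => ⟨fun h => ((hZ x).1 h).2, fun h => (hZ x).2 ⟨hall x h, h⟩⟩,
      fun a ha b hb => hNab a ((hZ a).1 ha).1 b ((hZ b).1 hb).1, hZcard.trans ?_⟩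
    exact Nat.le_self_pow two_ne_zero p
  push Not at hall
  obtain ⟨x, hxp, hxN⟩ := hall
  -- the action of `x` on `N`
  obtain ⟨a, ha⟩ := hz _ (hN.conj_mem _ g.2 x)
  have hact : ∀ n ∈ N, x * n * x⁻¹ = n ^ a := by
    intro n hn
    obtain ⟨i, rfl⟩ := hz n hn
    rw [← conj_zpow, ← ha, zpow_comm]
  have hiter : ∀ i : ℕ, x ^ i * (g : R) * (x ^ i)⁻¹ = (g : R) ^ (a ^ i) := by
    intro i
    induction i with
    | zero => simp
    | succ i ih =>
      rw [pow_succ' x, show x * x ^ i * (g : R) * (x * x ^ i)⁻¹ = x * (x ^ i * g * (x ^ i)⁻¹) * x⁻¹ by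
        group, ih, hact _ (N.zpow_mem g.2 _), ← zpow_mul, ← pow_succ]
  have hmove : ∀ n ∈ N, (n ^ (a - 1)) ^ p = 1 := by
    intro n hn
    obtain ⟨i, rfl⟩ := hz n hn
    obtain ⟨k, hk⟩ := (IsPGroup.iff_orderOf.1 hR) (g : R)
    have h1 := hiter p
    rw [hxp, one_mul, inv_one, mul_one] at h1
    have h2 : ((orderOf (g : R) : ℕ) : ℤ) ∣ a ^ p - 1 := by
      rw [orderOf_dvd_iff_zpow_eq_one, zpow_sub, ← h1, zpow_one, mul_inv_cancel]
    rw [hk, Nat.cast_pow] at h2
    have h3 := pow_dvd_mul_sub_one hp2 h2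
    rw [← Nat.cast_pow, ← hk, orderOf_dvd_iff_zpow_eq_one] at h3
    rw [← zpow_natCast, ← zpow_mul, ← zpow_mul, show i * ((a - 1) * (p : ℤ)) = (p : ℤ) * (a - 1) * i by
      ring, zpow_mul, h3, one_zpow]
  have hxZ : ∀ z ∈ Z, x * z * x⁻¹ = z := by
    intro z hzZ
    obtain ⟨hzN, hzp⟩ := (hZ z).1 hzZ
    obtain ⟨k, hk⟩ := (IsPGroup.iff_orderOf.1 hR) (g : R)
    rcases k with _ | k
    · rw [pow_zero, orderOf_eq_one_iff] at hk
      obtain ⟨i, rfl⟩ := hz z hzN
      rw [hk, one_zpow]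
      group
    have ha1 : (p : ℤ) ∣ a - 1 := by
      have h1 := hiter p
      rw [hxp, one_mul, inv_one, mul_one] at h1
      have h2 : ((orderOf (g : R) : ℕ) : ℤ) ∣ a ^ p - 1 := by
        rw [orderOf_dvd_iff_zpow_eq_one, zpow_sub, ← h1, zpow_one, mul_inv_cancel]
      rw [hk, Nat.cast_pow] at h2
      have hdvd : (p : ℤ) ∣ a ^ p - 1 := (dvd_pow_self _ k.succ_ne_zero).trans h2
      rw [← ZMod.intCast_zmod_eq_zero_iff_dvd] at hdvd ⊢
      push_cast at hdvd ⊢
      rwa [ZMod.pow_card] at hdvd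
    obtain ⟨c, hc⟩ := ha1
    rw [hact z hzN, show a = (a - 1) + 1 by ring, hc, zpow_add, zpow_mul, zpow_natCast, hzp,
      one_zpow, zpow_one, one_mul]
  -- every element of order dividing `p` lies in `Z ⟨x⟩`
  let V : Subgroup R :=
    { carrier := {y | ∃ z ∈ Z, ∃ j : ℤ, y = z * x ^ j}
      one_mem' := ⟨1, one_mem _, 0, by simp⟩
      mul_mem' := fun {y y'} hy hy' => by
        obtain ⟨z, hz', j, rfl⟩ := hy
        obtain ⟨z', hz'', j', rfl⟩ := hy'
        refine ⟨z * z', mul_mem hz' hz'', j + j', ?_⟩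
        have hc : Commute z' (x ^ j) :=
          ((show Commute x z' from by
            show x * z' = z' * x
            have := hxZ z' hz''
            rwa [mul_inv_eq_iff_eq_mul] at this).zpow_left j).symm
        calc z * x ^ j * (z' * x ^ j') = z * (x ^ j * z') * x ^ j' := by group
          _ = z * (z' * x ^ j) * x ^ j' := by rw [hc.eq]
          _ = z * z' * x ^ (j + j') := by rw [zpow_add]; group
      inv_mem' := fun {y} hy => by
        obtain ⟨z, hz', j, rfl⟩ := hy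
        refine ⟨z⁻¹, inv_mem hz', -j, ?_⟩
        have hc : Commute z (x ^ j) :=
          ((show Commute x z from by
            show x * z = z * x
            have := hxZ z hz'
            rwa [mul_inv_eq_iff_eq_mul] at this).zpow_left j).symm
        rw [hc.eq, mul_inv_rev, zpow_neg] }
  have hcommZ : ∀ z ∈ Z, ∀ j : ℤ, Commute z (x ^ j) := fun z hz' j =>
    ((show Commute x z from by
      show x * z = z * x
      have := hxZ z hz'
      rwa [mul_inv_eq_iff_eq_mul] at this).zpow_left j).symm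
  have hV : ∀ y, y ∈ V ↔ y ^ p = 1 := by
    intro y
    constructor
    · rintro ⟨z, hz', j, rfl⟩
      rw [(hcommZ z hz' j).mul_pow, ((hZ z).1 hz').2, one_mul, ← zpow_natCast, ← zpow_mul,
        mul_comm, zpow_mul, zpow_natCast, hxp, one_zpow]
    intro hy
    -- the image of `y` in the cyclic quotient is a power of the image of `x`
    obtain ⟨j, hj⟩ : ∃ j : ℤ, y * (x ^ j)⁻¹ ∈ N := by
      let π := QuotientGroup.mk' N
      letI : CommGroup (R ⧸ N) := IsCyclic.commGroup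
      haveI : Fintype (R ⧸ N) := Fintype.ofFinite _
      have hxo : orderOf (π x) = p := by
        refine orderOf_eq_prime (by rw [← map_pow, hxp, map_one]) fun e => hxN ?_
        exact (QuotientGroup.eq_one_iff x).1 e
      have hK : Subgroup.zpowers (π x) = (powMonoidHom p : (R ⧸ N) → R ⧸ N) ⁻¹' {1} := by
        refine Set.eq_of_subset_of_ncard_le ?_ ?_ (Set.toFinite _)
        · intro w hw
          obtain ⟨i, rfl⟩ := Subgroup.mem_zpowers_iff.1 hw
          show (π x ^ i) ^ p = 1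
          rw [← zpow_natCast, ← zpow_mul, mul_comm, zpow_mul, zpow_natCast, ← map_pow, hxp,
            map_one, one_zpow]
        · rw [show (Subgroup.zpowers (π x) : Set (R ⧸ N)).ncard = p from
            (Nat.card_coe_set_eq _).symm.trans ((Nat.card_zpowers _).trans hxo)]
          refine le_trans (le_of_eq ?_) (IsCyclic.card_pow_eq_one_le (α := R ⧸ N) hp.out.pos)
          rw [Set.ncard_eq_toFinset_card']
          congr 1
          ext w
          simp
      have hyK : π y ∈ ((powMonoidHom p : (R ⧸ N) → R ⧸ N) ⁻¹' {1}) := by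
        show π y ^ p = 1
        rw [← map_pow, hy, map_one]
      rw [← hK] at hyK
      obtain ⟨j, hj⟩ := Subgroup.mem_zpowers_iff.1 hyK
      refine ⟨j, (QuotientGroup.eq_one_iff _).1 ?_⟩
      show π (y * (x ^ j)⁻¹) = 1
      rw [map_mul, map_inv, map_zpow, hj, mul_inv_cancel]
    obtain ⟨n, hn, rfl⟩ : ∃ n ∈ N, y = n * x ^ j := ⟨_, hj, by group⟩
    refine ⟨n, (hZ n).2 ⟨hn, ?_⟩, j, rfl⟩
    -- power formula
    set u := x ^ j with hu
    have hup : u ^ p = 1 := by
      rw [hu, ← zpow_natCast, ← zpow_mul, mul_comm, zpow_mul, zpow_natCast, hxp, one_zpow]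
    obtain ⟨w, hwZ, hw⟩ : ∃ w ∈ Z, u * n * u⁻¹ = n * w := by
      let M : Subgroup R :=
        { carrier := {v | v * n * v⁻¹ * n⁻¹ ∈ Z ∧ ∀ z ∈ Z, v * z * v⁻¹ = z}
          one_mem' := ⟨by simp [one_mem], fun z _ => by simp⟩
          mul_mem' := fun {v v'} hv hv' => ⟨by
            have h1 := hv.2 _ hv'.1
            have h2 : v * v' * n * (v * v')⁻¹ * n⁻¹ =
                (v * (v' * n * v'⁻¹ * n⁻¹) * v⁻¹) * (v * n * v⁻¹ * n⁻¹) := by group
            rw [h2, h1]
            exact mul_mem hv'.1 hv.1, fun z hz' => by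
            rw [show v * v' * z * (v * v')⁻¹ = v * (v' * z * v'⁻¹) * v⁻¹ by group, hv'.2 z hz',
              hv.2 z hz']⟩
          inv_mem' := fun {v} hv => by
            have hz2 : ∀ z ∈ Z, v⁻¹ * z * v⁻¹⁻¹ = z := fun z hz' => by
              have h := hv.2 z hz'
              calc v⁻¹ * z * v⁻¹⁻¹ = v⁻¹ * (v * z * v⁻¹) * v := by rw [h, inv_inv]
                _ = z := by group
            refine ⟨?_, hz2⟩
            have h1 := hz2 _ (inv_mem hv.1)
            rw [show v⁻¹ * (v * n * v⁻¹ * n⁻¹)⁻¹ * v⁻¹⁻¹ = v⁻¹ * n * v⁻¹⁻¹ * n⁻¹ by group] at h1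
            rw [h1]
            exact inv_mem hv.1 }
      have hxM : x ∈ M := by
        refine ⟨(hZ _).2 ⟨N.mul_mem (hN.conj_mem n hn x) (N.inv_mem hn), ?_⟩, hxZ⟩
        rw [hact n hn, ← zpow_sub_one]
        exact hmove n hn
      have huM : u ∈ M := M.zpow_mem hxM j
      refine ⟨u * n * u⁻¹ * n⁻¹, huM.1, ?_⟩
      rw [hNab n hn _ ((hZ _).1 huM.1).1]
      group
    have hwu : Commute w u := hcommZ w hwZ j
    have hwn : Commute w n := hNab w ((hZ w).1 hwZ).1 n hn
    have hform : ∀ i : ℕ, (n * u) ^ i = n ^ i * w ^ i.choose 2 * u ^ i ∧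
        u ^ i * n = n * w ^ i * u ^ i := by
      intro i
      induction i with
      | zero => simp
      | succ i ih =>
        have hun : u * n = n * w * u := by rw [← hw]; group
        constructor
        · have hc : (i + 1).choose 2 = i + i.choose 2 := by
            rw [Nat.choose_succ_succ', Nat.choose_one_right]
          rw [pow_succ, ih.1, hc]
          calc n ^ i * w ^ i.choose 2 * u ^ i * (n * u)
              = n ^ i * w ^ i.choose 2 * (u ^ i * n) * u := by group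
            _ = n ^ i * (w ^ i.choose 2 * n) * w ^ i * (u ^ i * u) := by rw [ih.2]; group
            _ = n ^ i * (n * w ^ i.choose 2) * w ^ i * u ^ (i + 1) := by
              rw [(hwn.pow_left _).eq, ← pow_succ]
            _ = n ^ (i + 1) * w ^ (i + i.choose 2) * u ^ (i + 1) := by
              rw [pow_succ n, add_comm i (i.choose 2), pow_add]; group
        · rw [pow_succ' u, mul_assoc, ih.2]
          calc u * (n * w ^ i * u ^ i) = (u * n) * w ^ i * u ^ i := by group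
            _ = n * w * (u * w ^ i) * u ^ i := by rw [hun]; group
            _ = n * w * (w ^ i * u) * u ^ i := by rw [(hwu.pow_left i).eq]
            _ = n * w ^ (i + 1) * (u * u ^ i) := by rw [pow_succ' w]; group
    have h1 := (hform p).1
    obtain ⟨c, hc⟩ := hp.out.dvd_choose_self two_ne_zero
      (lt_of_le_of_ne hp.out.two_le (Ne.symm hp2))
    rw [hy, hup, mul_one, hc, pow_mul, ((hZ w).1 hwZ).2, one_pow, mul_one] at h1
    exact h1.symm
  refine ⟨V, hV, ?_, ?_⟩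
  · rintro _ ⟨z, hz', j, rfl⟩ _ ⟨z', hz'', j', rfl⟩
    have h1 : Commute z z' := hNab z ((hZ z).1 hz').1 z' ((hZ z').1 hz'').1
    exact ((h1.mul_right (hcommZ z hz' j')).mul_left
      ((hcommZ z' hz'' j).symm.mul_right (Commute.zpow_zpow_self x j j'))).eq
  · have hle : (V : Set R) ⊆ (Z : Set R) * (Subgroup.zpowers x : Set R) := by
      rintro _ ⟨z, hz', j, rfl⟩
      exact Set.mul_mem_mul hz' (Subgroup.mem_zpowers_iff.2 ⟨j, rfl⟩)
    calc Nat.card V = (V : Set R).ncard := Nat.card_coe_set_eq _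
      _ ≤ ((Z : Set R) * (Subgroup.zpowers x : Set R)).ncard :=
        Set.ncard_le_ncard hle (Set.toFinite _)
      _ ≤ Nat.card Z * Nat.card (Subgroup.zpowers x) := by
        rw [← Nat.card_coe_set_eq, ← SetLike.coe_sort_coe Z, ← SetLike.coe_sort_coe (Subgroup.zpowers x)]
        exact Set.natCard_mul_le
      _ ≤ p * p := Nat.mul_le_mul hZcard
        (by rw [Nat.card_zpowers]; exact Nat.le_of_dvd hp.out.pos (orderOf_dvd_of_pow_eq_one hxp))
      _ = p ^ 2 := (sq p).symm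

variable {Ω : Type u} [Group Ω] {S : Subgroup Ω} {F : FusionSystem S} {p : ℕ} [Fact p.Prime]

/-- For odd `p` a strongly closed metacyclic subgroup is normal. -/
theorem isNormal_of_metacyclic [Finite S] (hS : IsPGroup p S) (hF : F.IsSaturated p) (hp : p ≠ 2)
    {P : Subgroup Ω} (hP : F.StronglyClosed P) (hm : IsMetacyclic ↥P) : F.IsNormal P := by
  have hPS := hP.1
  haveI := finite_of_le hPS
  obtain ⟨V₀, hV₀, hV₀c, hV₀card⟩ := exists_omega_metacyclic hp (hS.to_le hPS) hm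
  set V := omegaOne p P with hV
  have hVmem : ∀ x, x ∈ V ↔ x ∈ P ∧ x ^ p = 1 := by
    have hle : V ≤ V₀.map P.subtype := (Subgroup.closure_le _).2 fun x hx =>
      ⟨⟨x, hx.1⟩, (hV₀ _).2 (Subtype.ext hx.2), rfl⟩
    refine fun x => ⟨fun h => ?_, fun h => Subgroup.subset_closure h⟩
    obtain ⟨y, hy, rfl⟩ := hle h
    exact ⟨y.2, congrArg Subtype.val ((hV₀ y).1 hy)⟩
  have hVP : V ≤ P := omegaOne_le P
  have hVc : ∀ a ∈ V, ∀ b ∈ V, a * b = b * a := fun a ha b hb =>
    congrArg Subtype.val (hV₀c ⟨a, hVP ha⟩ ((hV₀ _).2 (Subtype.ext ((hVmem a).1 ha).2))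
      ⟨b, hVP hb⟩ ((hV₀ _).2 (Subtype.ext ((hVmem b).1 hb).2)))
  have hVS : V ≤ S := hVP.trans hPS
  haveI := finite_of_le hVS
  have hVsc : F.StronglyClosed V := by
    refine ⟨hVS, fun R hR φ hφ x => ?_⟩
    have hm' := isMap_toFun hφ
    refine (hVmem _).2 ⟨hP.2 R (hR.trans hVP) φ hφ x, ?_⟩
    have h1 : x ^ p = 1 := Subtype.ext ((hVmem (x : Ω)).1 (hR x.2)).2
    rw [← map_pow, h1, map_one]
  refine (isNormal_iff_omega_chain hS hF hp hP).2 ?_
  have hbot : F.StronglyClosed (⊥ : Subgroup Ω) :=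
    stronglyClosed_of_isNormal (isNormal_bot F)
  by_cases hcen : ⁅V, P⁆ = ⊥
  · exact ⟨1, ![⊥, V], rfl, rfl, fun i j hij => by
      fin_cases i <;> fin_cases j <;> simp_all,
      fun i => by fin_cases i <;> simp [hbot, hVsc], fun i => by
      fin_cases i; simp [hcen]⟩
  -- the middle term
  set Q := V ⊓ Subgroup.centralizer (P : Set Ω) with hQdef
  have hSP : S ≤ Subgroup.normalizer (P : Set Ω) := le_normalizer_of_stronglyClosed hP
  have hSV : S ≤ Subgroup.normalizer (V : Set Ω) := le_normalizer_of_stronglyClosed hVsc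
  have hQV : Q ≤ V := inf_le_left
  have hQne : Q ≠ V := fun e => hcen (Subgroup.commutator_eq_bot_iff_le_centralizer.2
    (e.ge.trans inf_le_right))
  have hQ1 : Q ≠ ⊥ := by
    haveI := (hS.to_le hPS).isNilpotent
    haveI : (V.subgroupOf P).Normal :=
      Subgroup.normal_subgroupOf_of_le_normalizer (hPS.trans hSV)
    intro e
    refine Grp.inf_center_ne_bot (V.subgroupOf P) (fun e1 => hcen ?_) (eq_bot_iff.2 fun y hy => ?_)
    · rw [Subgroup.subgroupOf_eq_bot, disjoint_iff, inf_eq_left.2 hVP] at e1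
      rw [e1, Subgroup.commutator_bot_left]
    · have h1 : (y : Ω) ∈ Q := ⟨hy.1, Subgroup.mem_centralizer_iff.2 fun z hz =>
        congrArg Subtype.val (Subgroup.mem_center_iff.1 hy.2 ⟨z, hz⟩)⟩
      rw [e, Subgroup.mem_bot] at h1
      exact Subgroup.mem_bot.2 (Subtype.ext h1)
  haveI := finite_of_le (hQV.trans hVS)
  have hp' : p.Prime := Fact.out
  have hVcard : Nat.card V ≤ p ^ 2 := by
    refine le_trans ?_ hV₀card
    rw [← Subgroup.card_map_of_injective P.subtype_injective (K := V₀)]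
    haveI : Finite ↥(V₀.map P.subtype) := finite_of_le ((Subgroup.map_subtype_le V₀).trans hPS)
    exact Subgroup.card_le_of_le fun x hx => ⟨⟨x, hVP hx⟩,
      (hV₀ _).2 (Subtype.ext ((hVmem x).1 hx).2), rfl⟩
  obtain ⟨hQc, hVc2⟩ : Nat.card Q = p ∧ Nat.card V = p ^ 2 := by
    obtain ⟨i, hi⟩ := (IsPGroup.iff_card.1 (hS.to_le (hQV.trans hVS)) : ∃ n, Nat.card Q = p ^ n)
    obtain ⟨j, hj⟩ := (IsPGroup.iff_card.1 (hS.to_le hVS) : ∃ n, Nat.card V = p ^ n)
    have h1 : Nat.card Q < Nat.card V := card_lt_of_lt (lt_of_le_of_ne hQV hQne)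
    have h2 : Nat.card Q ≠ 1 := fun h => hQ1 (Subgroup.card_eq_one.1 h)
    rw [hi, hj] at h1
    rw [hj] at hVcard
    have hij := (Nat.pow_lt_pow_iff_right hp'.one_lt).1 h1
    have hj2 := (Nat.pow_le_pow_iff_right hp'.one_lt).1 hVcard
    have hi0 : i ≠ 0 := fun e => h2 (by rw [hi, e, pow_zero])
    obtain rfl : i = 1 := by omega
    obtain rfl : j = 2 := by omega
    exact ⟨by rw [hi, pow_one], hj⟩
  -- a non-identity element of `Q` and one outside generate `V`
  have hspan : ∀ z ∈ Q, z ≠ 1 → ∀ y ∈ V, y ∉ Q → ∀ v ∈ V, ∃ i j : ℕ, v = z ^ i * y ^ j := by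
    intro z hzQ hz1 y hy hyQ v hv
    have hzo : orderOf z = p := orderOf_eq_prime ((hVmem z).1 (hQV hzQ)).2 hz1
    have hyo : orderOf y = p := orderOf_eq_prime ((hVmem y).1 hy).2 fun e => hyQ (e ▸ one_mem _)
    have hQz : Subgroup.zpowers z = Q := Subgroup.eq_of_le_of_card_ge (Subgroup.zpowers_le.2 hzQ)
      (by rw [Nat.card_zpowers, hzo, hQc])
    have hsup : Subgroup.zpowers z ⊔ Subgroup.zpowers y = V := by
      refine Subgroup.eq_of_le_of_card_ge (sup_le (Subgroup.zpowers_le.2 (hQV hzQ))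
        (Subgroup.zpowers_le.2 hy)) ?_
      rw [hQz, hVc2]
      haveI : Finite ↥(Q ⊔ Subgroup.zpowers y) :=
        finite_of_le ((sup_le hQV (Subgroup.zpowers_le.2 hy)).trans hVS)
      have hlt : Q < Q ⊔ Subgroup.zpowers y := lt_of_le_of_ne le_sup_left fun e =>
        hyQ (e ▸ Subgroup.mem_sup_right (Subgroup.mem_zpowers y))
      obtain ⟨j, hj⟩ := (IsPGroup.iff_card.1 (hS.to_le ((sup_le hQV
        (Subgroup.zpowers_le.2 hy)).trans hVS)) : ∃ n, Nat.card ↥(Q ⊔ Subgroup.zpowers y) = p ^ n)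
      have h1 := card_lt_of_lt hlt
      rw [hQc, hj] at h1
      rw [hj]
      refine Nat.pow_le_pow_right hp'.pos ?_
      exact (Nat.pow_lt_pow_iff_right hp'.one_lt).1 (by rwa [pow_one] : p ^ 1 < p ^ j)
    rw [← hsup] at hv
    have hn : Subgroup.zpowers y ≤ Subgroup.normalizer (Subgroup.zpowers z : Set Ω) :=
      Subgroup.zpowers_le.2 (Subgroup.centralizer_le_normalizer _
        (Subgroup.mem_centralizer_iff.2 fun w hw => hVc w ((Subgroup.zpowers_le.2 (hQV hzQ)) hw) y hy))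
    rw [← SetLike.mem_coe, Subgroup.coe_mul_of_right_le_normalizer_left _ _ hn] at hv
    obtain ⟨_, ha, _, hb, rfl⟩ := hv
    have hzf : IsOfFinOrder z := orderOf_pos_iff.1 (hzo ▸ hp'.pos)
    have hyf : IsOfFinOrder y := orderOf_pos_iff.1 (hyo ▸ hp'.pos)
    obtain ⟨i, rfl⟩ := hzf.mem_powers_iff_mem_zpowers.2 ha
    obtain ⟨j, rfl⟩ := hyf.mem_powers_iff_mem_zpowers.2 hb
    exact ⟨i, j, rfl⟩
  -- conjugation by `P` is trivial modulo `Q`
  have hmodQ : ∀ y ∈ V, ∀ a ∈ P, y⁻¹ * (a * y * a⁻¹) ∈ Q := by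
    intro y hy a ha
    by_cases hyQ : y ∈ Q
    · rw [show a * y * a⁻¹ = y by
        rw [Subgroup.mem_centralizer_iff.1 hyQ.2 a ha, mul_inv_cancel_right], inv_mul_cancel]
      exact one_mem _
    obtain ⟨z, hzQ, hz1⟩ := (Q.bot_or_exists_ne_one).resolve_left hQ1
    obtain ⟨i, j, hij⟩ := hspan z hzQ hz1 y hy hyQ _
      ((Subgroup.mem_normalizer_iff.1 (hSV (hPS ha)) y).1 hy)
    have hzy : Commute z y := hVc z (hQV hzQ) y hy
    have hit : ∀ n : ℕ, ∃ i : ℕ, a ^ n * y * (a ^ n)⁻¹ = z ^ i * y ^ (j ^ n) := by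
      intro n
      induction n with
      | zero => exact ⟨0, by simp⟩
      | succ n ih =>
        obtain ⟨i', e⟩ := ih
        refine ⟨i' + i * j ^ n, ?_⟩
        rw [pow_succ' a, show a * a ^ n * y * (a * a ^ n)⁻¹ = a * (a ^ n * y * (a ^ n)⁻¹) * a⁻¹ by
          group, e, ← conj_mul, ← conj_pow, ← conj_pow,
          show a * z * a⁻¹ = z by
            rw [Subgroup.mem_centralizer_iff.1 hzQ.2 a ha, mul_inv_cancel_right],
          hij, (hzy.pow_pow i j).mul_pow, ← mul_assoc, ← pow_mul, ← pow_mul, ← pow_add, pow_succ' j]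
    obtain ⟨k, hk⟩ := hS ⟨a, hPS ha⟩
    have hk' : a ^ p ^ k = 1 := congrArg Subtype.val hk
    obtain ⟨i', e⟩ := hit (p ^ k)
    rw [hk', one_mul, inv_one, mul_one] at e
    have hjmod : (j : ZMod p) = 1 := by
      by_contra hne
      refine hyQ ?_
      have hyQ' : y ^ (((j ^ p ^ k : ℕ) : ℤ) - 1) ∈ Q := by
        rw [zpow_sub_one, zpow_natCast]
        have : (z ^ i')⁻¹ = y ^ (j ^ p ^ k) * y⁻¹ := by
          rw [inv_eq_iff_mul_eq_one, ← mul_assoc, ← e, mul_inv_cancel]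
        rw [← this]
        exact inv_mem (Q.pow_mem hzQ i')
      have hcop : ¬ (p : ℤ) ∣ ((j ^ p ^ k : ℕ) : ℤ) - 1 := by
        rw [← ZMod.intCast_zmod_eq_zero_iff_dvd]
        push_cast
        rw [ZMod.pow_card_pow, sub_eq_zero]
        exact hne
      have hyp : y ^ (p : ℤ) = 1 := by rw [zpow_natCast]; exact ((hVmem y).1 hy).2
      obtain ⟨u, v, huv⟩ := ((Prime.coprime_iff_not_dvd (Nat.prime_iff_prime_int.1 hp')).2 hcop)
      have : y = (y ^ (p : ℤ)) ^ u * (y ^ (((j ^ p ^ k : ℕ) : ℤ) - 1)) ^ v := by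
        rw [← zpow_mul, ← zpow_mul, ← zpow_add, mul_comm _ u, mul_comm _ v, huv, zpow_one]
      rw [this, hyp, one_zpow, one_mul]
      exact Q.zpow_mem hyQ' v
    rw [hij, ← mul_assoc, (hzy.symm.inv_left.pow_right i).eq, mul_assoc]
    refine Q.mul_mem (Q.pow_mem hzQ i) ?_
    have : y ^ j = y := by
      conv_rhs => rw [← pow_one y]
      refine pow_eq_pow_iff_modEq.2 ?_
      rw [orderOf_eq_prime ((hVmem y).1 hy).2 fun e => hyQ (e ▸ one_mem _)]
      exact (ZMod.natCast_eq_natCast_iff _ _ _).1 (by simpa using hjmod)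
    rw [this, inv_mul_cancel]
    exact one_mem _
  have hVPQ : ⁅V, P⁆ ≤ Q := Subgroup.commutator_le.2 fun y hy a ha => by
    have h1 := inv_mem (hmodQ _ (inv_mem hy) a ha)
    rw [show (y⁻¹⁻¹ * (a * y⁻¹ * a⁻¹))⁻¹ = a * y * a⁻¹ * y⁻¹ by group] at h1
    have := inv_mem h1
    rwa [show (a * y * a⁻¹ * y⁻¹)⁻¹ = ⁅y, a⁆ by rw [commutatorElement_def]; group] at this
  -- `Q` is central in `S`
  have hQS : ∀ s ∈ S, ∀ q ∈ Q, s * q * s⁻¹ ∈ Q := by
    intro s hs q hq
    refine ⟨(Subgroup.mem_normalizer_iff.1 (hSV hs) q).1 hq.1,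
      Subgroup.mem_centralizer_iff.2 fun b hb => ?_⟩
    have hb' := (Subgroup.mem_normalizer_iff''.1 (hSP hs) b).1 hb
    have h := Subgroup.mem_centralizer_iff.1 hq.2 _ hb'
    calc b * (s * q * s⁻¹) = s * (s⁻¹ * b * s * q) * s⁻¹ := by group
      _ = s * (q * (s⁻¹ * b * s)) * s⁻¹ := by rw [h]
      _ = s * q * s⁻¹ * b := by group
  have hQcent : ∀ s ∈ S, ∀ q ∈ Q, s * q = q * s := by
    haveI : (Q.subgroupOf S).Normal := ⟨fun n hn g => hQS g g.2 n hn⟩
    haveI := hS.isNilpotent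
    have hne : Q.subgroupOf S ≠ ⊥ := fun e => hQ1 (by
      rw [Subgroup.subgroupOf_eq_bot, disjoint_iff, inf_eq_left.2 (hQV.trans hVS)] at e
      exact e)
    obtain ⟨w, hw, hw1⟩ := ((Q.subgroupOf S ⊓ Subgroup.center S).bot_or_exists_ne_one).resolve_left
      (Grp.inf_center_ne_bot (Q.subgroupOf S) hne)
    have hwQ : Subgroup.zpowers (w : Ω) = Q := by
      refine Subgroup.eq_of_le_of_card_ge (Subgroup.zpowers_le.2 hw.1) ?_
      rw [hQc, Nat.card_zpowers, orderOf_eq_prime (x := (w : Ω)) ((hVmem _).1 (hQV hw.1)).2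
        fun e => hw1 (Subtype.ext e)]
    intro s hs q hq
    rw [← hwQ] at hq
    obtain ⟨i, rfl⟩ := Subgroup.mem_zpowers_iff.1 hq
    exact ((show Commute s (w : Ω) from
      congrArg Subtype.val (Subgroup.mem_center_iff.1 hw.2 ⟨s, hs⟩)).zpow_right i).eq
  have hQsc : F.StronglyClosed Q := by
    refine stronglyClosed_of_forall (hQV.trans hVS) fun R hR f hf q hq => ?_
    by_contra hbad
    have hq1 : q ≠ 1 := fun e => hbad (by rw [e, hf.map_one]; exact one_mem _)
    have hqQ : q ∈ Q := hR hq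
    obtain ⟨y, hy⟩ : ∃ y, y = f q := ⟨_, rfl⟩
    rw [← hy] at hbad
    have hyV : y ∈ V := hy ▸ StronglyClosed.apply_mem hVsc hf (hR.trans hQV) hq
    have hQn : F.IsFullyNormalized (Subgroup.zpowers q) := by
      have hle : Subgroup.zpowers q ≤ S := Subgroup.zpowers_le.2 (hQV.trans hVS hqQ)
      refine ⟨hle, fun T _ => ?_⟩
      have : normalizerIn S (Subgroup.zpowers q) = S := le_antisymm inf_le_left (le_inf le_rfl
        fun s hs => Subgroup.centralizer_le_normalizer _ (Subgroup.mem_centralizer_iff.2 fun w hw => by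
          obtain ⟨i, rfl⟩ := Subgroup.mem_zpowers_iff.1 hw
          exact ((show Commute s q from hQcent s hs q hqQ).zpow_right i).symm.eq))
      rw [this]
      exact Subgroup.card_le_of_le inf_le_left
    have hfq := hf.res (Subgroup.zpowers_le.2 hq)
    have hfimg : fimg f (Subgroup.zpowers q) = Subgroup.zpowers y := by
      refine le_antisymm (fimg_le fun w hw => ?_) (Subgroup.zpowers_le.2
        (hy ▸ apply_mem_fimg f (Subgroup.mem_zpowers q)))
      obtain ⟨i, rfl⟩ := Subgroup.mem_zpowers_iff.1 hw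
      have hφ := hfq.exists_hom
      obtain ⟨φ, -, e⟩ := hφ
      have h1 := e (⟨q, Subgroup.mem_zpowers q⟩ ^ i)
      rw [map_zpow, e ⟨q, _⟩, ← hy, Subgroup.coe_zpow] at h1
      exact Subgroup.mem_zpowers_iff.2 ⟨i, h1⟩
    obtain ⟨g, hg, hg1, -, hgimg⟩ := hfq.exists_inv
    rw [hfimg] at hg hgimg
    have hgy : g y = q := hy ▸ hg1 q (Subgroup.mem_zpowers q)
    obtain ⟨k, hk, hke⟩ := receptive_extend (receptive_of_fullyNormalized hS hF hQn) hg hgimg
      (N := V) (fun v hv => by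
        have hvy : ∀ w ∈ Subgroup.zpowers y, v * w * v⁻¹ = w := fun w hw => by
          rw [hVc v hv w (Subgroup.zpowers_le.2 hyV hw), mul_inv_cancel_right]
        exact ⟨⟨hVS hv, Subgroup.centralizer_le_normalizer _
          (Subgroup.mem_centralizer_iff.2 fun w hw => hVc w (Subgroup.zpowers_le.2 hyV hw) v hv)⟩,
          1, one_mem _, fun w hw => by rw [hvy w hw]; group⟩) (Subgroup.zpowers_le.2 hyV)
    have hky : k y = q := (hke y (Subgroup.mem_zpowers y)).trans hgy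
    have hkV : fimg k V = V := fimg_stronglyClosed hVsc hk le_rfl
    obtain ⟨β, hβ, hβe⟩ := hk.exists_aut hkV
    -- a transvection fixing `Q`
    obtain ⟨a, haP, hamov⟩ : ∃ a ∈ P, y⁻¹ * (a * y * a⁻¹) ≠ 1 := by
      by_contra hcon
      push Not at hcon
      refine hbad ⟨hyV, Subgroup.mem_centralizer_iff.2 fun a ha => ?_⟩
      have h1 := inv_mul_eq_one.1 (hcon a ha)
      calc a * y = (a * y * a⁻¹) * a := by group
        _ = y * a := by rw [← h1]
    obtain ⟨z, hzdef⟩ : ∃ z, z = y⁻¹ * (a * y * a⁻¹) := ⟨_, rfl⟩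
    have hzQ : z ∈ Q := hzdef ▸ hmodQ y hyV a haP
    have hz1 : z ≠ 1 := hzdef ▸ hamov
    have hzy : Commute z y := hVc z (hQV hzQ) y hyV
    have haN : a ∈ Subgroup.normalizer (V : Set Ω) := hSV (hPS haP)
    have hu : IsMap F V (fun w => a * w * a⁻¹) := isMap_conj F hVS (hPS haP)
    obtain ⟨u, huA, hue⟩ := hu.exists_aut (Subgroup.eq_of_le_of_card_ge (fimg_le fun w hw =>
      (Subgroup.mem_normalizer_iff.1 haN w).1 hw) hu.card_fimg.ge)
    have huz : ∀ w ∈ Q, autFun u w = w := fun w hw => by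
      rw [hue w hw.1, Subgroup.mem_centralizer_iff.1 hw.2 a haP, mul_inv_cancel_right]
    have huy : autFun u y = y * z := by rw [hue y hyV, hzdef]; group
    obtain ⟨δ, hδA, hδq⟩ : ∃ δ ∈ F.autGroup V, autFun δ q = y := by
      refine ⟨β⁻¹, inv_mem hβ, ?_⟩
      rw [← hky, ← hβe y hyV, autFun_inv_apply β hyV]
    have hδm : IsMap F V (autFun δ) := (mem_autGroup hVS).1 hδA
    have hum : ∀ m : ℕ, autFun (u ^ m) y = y * z ^ m := by
      intro m
      induction m with
      | zero => rw [pow_zero, autFun_one hyV, pow_zero, mul_one]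
      | succ m ih =>
        rw [pow_succ' u, autFun_mul _ _ hyV, ih,
          ((mem_autGroup hVS).1 huA).map_mul hyV (V.pow_mem (hQV hzQ) m), huy,
          huz _ (Q.pow_mem hzQ m), mul_assoc, ← pow_succ']
    have humQ : ∀ m : ℕ, ∀ w ∈ Q, autFun (u ^ m) w = w := by
      intro m w hw
      induction m with
      | zero => rw [pow_zero, autFun_one hw.1]
      | succ m ih => rw [pow_succ' u, autFun_mul _ _ hw.1, ih, huz w hw]
    -- powers of `q` and `z`
    obtain ⟨i₀, _, hi₀⟩ := hspan z hzQ hz1 y hyV hbad q hqQ.1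
    -- the preimage of `z` under `δ`
    obtain ⟨w, hwV, hwz⟩ : ∃ w ∈ V, autFun δ w = z :=
      ⟨autFun δ⁻¹ z, autFun_mem _ (hQV hzQ), by
        rw [← autFun_mul _ _ (hQV hzQ), mul_inv_cancel, autFun_one (hQV hzQ)]⟩
    obtain ⟨t, r, hts⟩ := hspan q hqQ hq1 y hyV hbad w hwV
    have hpowmap : ∀ {f : Ω → Ω}, IsMap F V f → ∀ x ∈ V, ∀ n : ℕ, f (x ^ n) = f x ^ n := by
      intro f hf x hx n
      induction n with
      | zero => rw [pow_zero, hf.map_one, pow_zero]
      | succ n ih => rw [pow_succ, hf.map_mul (V.pow_mem hx n) hx, ih, pow_succ]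
    obtain ⟨c, hzc⟩ : ∃ c : ℕ, z = q ^ c := by
      have hqo : orderOf q = p := orderOf_eq_prime ((hVmem q).1 hqQ.1).2 hq1
      have hQq : Subgroup.zpowers q = Q := Subgroup.eq_of_le_of_card_ge (Subgroup.zpowers_le.2 hqQ)
        (by rw [Nat.card_zpowers, hqo, hQc])
      have hqf : IsOfFinOrder q := orderOf_pos_iff.1 (by rw [hqo]; exact hp'.pos)
      obtain ⟨c, hc⟩ := hqf.mem_powers_iff_mem_zpowers.2 (hQq.ge hzQ)
      exact ⟨c, hc.symm⟩
    have hδz : autFun δ z = y ^ c := by rw [hzc, hpowmap hδm q hqQ.1, hδq]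
    have hnotQ : ∀ n : ℕ, y ^ n ∈ Q → y ^ n = 1 := by
      intro n hn
      rcases hp'.eq_one_or_self_of_dvd _ (Nat.gcd_dvd_right n p) with h | h
      · exfalso
        refine hbad ?_
        have e := Nat.gcd_eq_gcd_ab n p
        rw [h] at e
        rw [← zpow_one y, show (1 : ℤ) = ((1 : ℕ) : ℤ) from rfl, e, zpow_add, zpow_mul, zpow_mul,
          zpow_natCast, zpow_natCast, ((hVmem y).1 hyV).2, one_zpow, mul_one]
        exact Q.zpow_mem hn _
      · obtain ⟨n', rfl⟩ : p ∣ n := h ▸ Nat.gcd_dvd_left n p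
        rw [pow_mul, ((hVmem y).1 hyV).2, one_pow]
    have hr : ¬ p ∣ r := by
      rintro ⟨r', rfl⟩
      rw [pow_mul, ((hVmem y).1 hyV).2, one_pow, mul_one] at hts
      rw [hts, hpowmap hδm q hqQ.1, hδq] at hwz
      exact hz1 (by rw [← hwz]; exact hnotQ t (hwz ▸ hzQ))
    have hc0 : ¬ p ∣ c := by
      rintro ⟨c', rfl⟩
      exact hz1 (by rw [hzc, pow_mul, ((hVmem q).1 hqQ.1).2, one_pow])
    obtain ⟨m, hm'⟩ : ∃ m : ℕ, ((c * (m * r) : ℕ) : ZMod p) = -1 := by
      refine ⟨((-1 : ZMod p) * ((c * r : ℕ) : ZMod p)⁻¹).val, ?_⟩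
      have h0 : ((c * r : ℕ) : ZMod p) ≠ 0 := fun h =>
        (hp'.not_dvd_mul hc0 hr) ((ZMod.natCast_eq_zero_iff _ _).1 h)
      rw [mul_left_comm, Nat.cast_mul, ZMod.natCast_zmod_val, mul_assoc,
        inv_mul_cancel₀ h0, mul_one]
    have hyinv : y ^ (c * (m * r)) = y⁻¹ := by
      have h1 : ((c * (m * r) + 1 : ℕ) : ZMod p) = 0 := by
        rw [Nat.cast_add, hm', Nat.cast_one, neg_add_cancel]
      obtain ⟨d, hd⟩ := (ZMod.natCast_eq_zero_iff _ _).1 h1
      rw [eq_inv_iff_mul_eq_one, ← pow_succ, hd, pow_mul, ((hVmem y).1 hyV).2, one_pow]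
    obtain ⟨v, hvdef⟩ : ∃ v, v = δ * u ^ m * δ⁻¹ := ⟨_, rfl⟩
    have hvA : v ∈ F.autGroup V := hvdef ▸ mul_mem (mul_mem hδA (pow_mem huA m)) (inv_mem hδA)
    have hvm : IsMap F V (autFun v) := (mem_autGroup hVS).1 hvA
    have hum' : IsMap F V (autFun u) := (mem_autGroup hVS).1 huA
    have hvy : autFun v y = y := by
      have h1 : autFun δ⁻¹ y = q := by rw [← hδq, autFun_inv_apply δ hqQ.1]
      rw [hvdef, autFun_mul _ _ hyV, h1, autFun_mul _ _ hqQ.1, humQ m q hqQ, hδq]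
    have hvz : autFun v z = z * y⁻¹ := by
      have h1 : autFun δ⁻¹ z = w := by rw [← hwz, autFun_inv_apply δ hwV]
      have humm : IsMap F V (autFun (u ^ m)) := (mem_autGroup hVS).1 (pow_mem huA m)
      have hw' : autFun (u ^ m) w = w * z ^ (m * r) := by
        rw [hts, humm.map_mul (V.pow_mem hqQ.1 t) (V.pow_mem hyV r), humQ m _ (Q.pow_mem hqQ t),
          hpowmap humm y hyV r, hum m, (hzy.symm.pow_right m).mul_pow, ← pow_mul, mul_assoc]
      rw [hvdef, autFun_mul _ _ (hQV hzQ), h1, autFun_mul _ _ hwV, hw',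
        hδm.map_mul hwV (V.pow_mem (hQV hzQ) _), hwz, hpowmap hδm z (hQV hzQ), hδz, ← pow_mul,
        hyinv]
    -- the inversion of `V`
    have hzV : z ∈ V := hQV hzQ
    have hτz : autFun (u * v * u) z = y⁻¹ := by
      rw [autFun_mul _ _ hzV, autFun_mul _ _ (autFun_mem u hzV), huz z hzQ, hvz,
        hum'.map_mul hzV (V.inv_mem hyV), hum'.map_inv hyV, huz z hzQ, huy, mul_inv_rev,
        ← mul_assoc, mul_inv_cancel, one_mul]
    have hτy : autFun (u * v * u) y = z := by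
      rw [autFun_mul _ _ hyV, autFun_mul _ _ (autFun_mem u hyV), huy, hvm.map_mul hyV hzV, hvy, hvz,
        show y * (z * y⁻¹) = z by rw [← mul_assoc, ← hzy.eq, mul_inv_cancel_right], huz z hzQ]
    have hτA : u * v * u * (u * v * u) ∈ F.autGroup V :=
      mul_mem (mul_mem (mul_mem huA hvA) huA) (mul_mem (mul_mem huA hvA) huA)
    have hτm : IsMap F V (autFun (u * v * u)) :=
      (mem_autGroup hVS).1 (mul_mem (mul_mem huA hvA) huA)
    have hσm : IsMap F V (autFun (u * v * u * (u * v * u))) := (mem_autGroup hVS).1 hτA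
    have hσz : autFun (u * v * u * (u * v * u)) z = z⁻¹ := by
      rw [autFun_mul _ _ hzV, hτz, hτm.map_inv hyV, hτy]
    have hσy : autFun (u * v * u * (u * v * u)) y = y⁻¹ := by
      rw [autFun_mul _ _ hyV, hτy, hτz]
    have hσ : ∀ x ∈ V, autFun (u * v * u * (u * v * u)) x = x⁻¹ := by
      intro x hx
      obtain ⟨i, j, rfl⟩ := hspan z hzQ hz1 y hyV hbad x hx
      rw [hσm.map_mul (V.pow_mem hzV i) (V.pow_mem hyV j), hpowmap hσm z hzV, hpowmap hσm y hyV,
        hσz, hσy, mul_inv_rev, inv_pow, inv_pow]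
      exact ((hzy.pow_pow i j).inv_inv).eq
    -- it extends to an automorphism of `S`
    obtain ⟨γ, hγ, hγe⟩ := receptive_extend
      (receptive_of_fullyNormalized hS hF (isFullyNormalized_of_stronglyClosed hVsc)) hσm
      (fimg_autFun _) (N := S) (fun g hg => ⟨⟨hg, hSV hg⟩, g, hg, fun x hx => by
        rw [hσ x hx, hσ _ ((Subgroup.mem_normalizer_iff.1 (hSV hg) x).1 hx)]
        group⟩) hVS
    have hγP : ∀ x ∈ P, γ x ∈ P := fun x hx =>
      StronglyClosed.apply_mem hP (hγ.res hPS) le_rfl hx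
    -- it fixes no non-identity element of `P`
    have hfpf : ∀ x ∈ P, γ x = x → x = 1 := by
      intro x hx hfix
      by_contra hx1
      have hpx : ∀ n : ℕ, γ (x ^ n) = x ^ n := by
        intro n
        induction n with
        | zero => rw [pow_zero, hγ.map_one]
        | succ n ih => rw [pow_succ, hγ.map_mul (hPS (P.pow_mem hx n)) (hPS hx), ih, hfix]
      obtain ⟨k, hk⟩ := (IsPGroup.iff_orderOf.1 (hS.to_le hPS)) ⟨x, hx⟩
      rw [← Subgroup.orderOf_coe] at hk
      have hk0 : k ≠ 0 := fun e => hx1 (orderOf_eq_one_iff.1 (by rw [hk, e, pow_zero]))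
      obtain ⟨k, rfl⟩ := Nat.exists_eq_succ_of_ne_zero hk0
      have he : x ^ p ^ k ∈ V := (hVmem _).2 ⟨P.pow_mem hx _, by
        rw [← pow_mul, ← pow_succ, ← hk]; exact pow_orderOf_eq_one x⟩
      have h1 := hpx (p ^ k)
      rw [hγe _ he, hσ _ he, inv_eq_iff_mul_eq_one, ← pow_add, ← two_mul, ← orderOf_dvd_iff_pow_eq_one,
        hk, pow_succ] at h1
      have h2 : p ∣ 2 := (Nat.mul_dvd_mul_iff_left (pow_pos hp'.pos k)).1
        (by rwa [mul_comm 2] at h1)
      exact hp ((Nat.prime_two.eq_one_or_self_of_dvd p h2).resolve_left hp'.ne_one)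
    -- hence every element of `P` is a commutator with it, and centralizes `V`
    have hinj : Function.Injective fun x : P => (⟨(x : Ω)⁻¹ * γ x,
        P.mul_mem (P.inv_mem x.2) (hγP x x.2)⟩ : P) := by
      intro a b hab
      have h1 : (a : Ω)⁻¹ * γ a = (b : Ω)⁻¹ * γ b := congrArg Subtype.val hab
      refine Subtype.ext (mul_inv_eq_one.1 (hfpf _ (P.mul_mem a.2 (P.inv_mem b.2)) ?_))
      rw [hγ.map_mul (hPS a.2) (S.inv_mem (hPS b.2)), hγ.map_inv (hPS b.2),
        show γ a = (a : Ω) * ((b : Ω)⁻¹ * γ b) by rw [← h1]; group]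
      group
    obtain ⟨x, hx⟩ := (Finite.injective_iff_surjective.1 hinj) ⟨a, haP⟩
    have hax : a = (x : Ω)⁻¹ * γ x := (congrArg Subtype.val hx).symm
    refine hamov ?_
    -- `γ x` acts on `V` as `x` does
    have hxy : γ x * y * (γ x)⁻¹ = x * y * (x : Ω)⁻¹ := by
      have hyi := V.inv_mem hyV
      have hxyi : (x : Ω) * y⁻¹ * (x : Ω)⁻¹ ∈ V :=
        (Subgroup.mem_normalizer_iff.1 (hSV (hPS x.2)) _).1 hyi
      have h1 := hγ.map_conj (hPS x.2) (hVS hyi)
      rw [hγe _ hyi, hσ _ hyi, inv_inv, hγe _ hxyi, hσ _ hxyi] at h1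
      rw [← h1]
      group
    rw [hax, show (x : Ω)⁻¹ * γ x * y * ((x : Ω)⁻¹ * γ x)⁻¹ =
      (x : Ω)⁻¹ * (γ x * y * (γ x)⁻¹) * x by group, hxy]
    group
  refine ⟨2, ![⊥, Q, V], rfl, rfl, ?_, fun i => ?_, fun i => ?_⟩
  · refine Fin.monotone_iff_le_succ.2 fun i => ?_
    fin_cases i
    · exact bot_le
    · exact hQV
  · fin_cases i
    · exact hbot
    · exact hQsc
    · exact hVsc
  · have h0 : ⁅Q, P⁆ = ⊥ := Subgroup.commutator_eq_bot_iff_le_centralizer.2 inf_le_right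
    fin_cases i
    · exact h0.le
    · exact hVPQ

end Cfsg.Agent.Fus
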