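import Cfsg.Agent.Lib.Fus.AbelianIndexP

/-!
The essential subgroups other than `A` over a group with a unique abelian subgroup `A` of index `p`,
and the structure they force on the group.
-/

set_option autoImplicit false
set_option linter.style.haveILetI false
set_option linter.unusedSectionVars false

open scoped Classical commutatorElement

namespace Cfsg.Agent.Fus

open Subgroup FusionSystem

universe u

variable {Ω : Type u} [Group Ω] {S A : Subgroup Ω} {F : FusionSystem S} {p : ℕ}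

/-- The consequences of an essential subgroup `P ≠ A`. -/
structure AIEss (S A P : Subgroup Ω) (p : ℕ) (x w : Ω) : Prop where
  x_mem : x ∈ S
  x_not : x ∉ A
  w_mem : w ∈ A
  w_comm : ⁅w, x⁆ ∈ zS S
  w_not : w ∉ zS S
  w_pow : w ^ p ∈ zS S
  w_gen : ∀ b ∈ A, ⁅b, x⁆ ∈ zS S → ∃ k : ℕ, b * (w ^ k)⁻¹ ∈ zS S
  shape : P = zS S ⊔ Subgroup.zpowers x ∨
    (x ∈ P ∧ ∀ b ∈ A, b ∈ P ↔ ⁅b, x⁆ ∈ zS S)
  index_eq : (P.subgroupOf (S ⊓ Subgroup.normalizer (P : Set Ω))).index = p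

variable [Finite S] [hp : Fact p.Prime]

/-- An element of `N_S(P)` stabilizing an invariant series of an essential `P` lies in it. -/
theorem mem_of_series (hS : IsPGroup p S) {P : Subgroup Ω} (hP : F.IsEssential p P) {U : Subgroup Ω}
    (hU : ∀ α ∈ F.autGroup P, ∀ u ∈ U, u ∈ P → autFun α u ∈ U) {b : Ω} (hb : b ∈ S)
    (hbn : b ∈ Subgroup.normalizer (P : Set Ω)) (hfix : ∀ u ∈ U, u ∈ P → b * u * b⁻¹ = u)
    (hdisp : ∀ y ∈ P, y⁻¹ * (b * y * b⁻¹) ∈ U) : b ∈ P := by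
  have hPS := hP.1.1
  haveI := finite_of_le hPS
  set G := F.autGroup P with hG
  set UP : Subgroup P := U.subgroupOf P with hUP
  have hinv : ∀ g ∈ G, ∀ u ∈ UP, g u ∈ UP := fun g hg u hu => by
    rw [hUP, Subgroup.mem_subgroupOf] at hu ⊢
    rw [← autFun_coe]
    exact hU g hg _ hu u.2
  have hn : ((seriesStab G UP).subgroupOf G).Normal := by
    refine ⟨fun c hc g => ?_⟩
    rw [Subgroup.mem_subgroupOf] at hc ⊢
    rw [Subgroup.coe_mul, Subgroup.coe_mul, Subgroup.coe_inv]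
    refine ⟨G.mul_mem (G.mul_mem g.2 c.2) (G.inv_mem g.2), fun u hu => ?_, fun y => ?_⟩
    · show (g : MulAut P) ((c : MulAut P) ((g : MulAut P)⁻¹ u)) = u
      rw [hc.2.1 _ (hinv _ (G.inv_mem g.2) u hu), MulAut.apply_inv_self]
    · show y⁻¹ * (g : MulAut P) ((c : MulAut P) ((g : MulAut P)⁻¹ y)) ∈ UP
      have h := hinv _ g.2 _ (hc.2.2 ((g : MulAut P)⁻¹ y))
      rwa [map_mul, map_inv, MulAut.apply_inv_self] at h
  have hpg : IsPGroup p ((seriesStab G UP).subgroupOf G) :=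
    (isPGroup_seriesStab (hS.to_le hPS) G UP).comap_of_injective G.subtype G.subtype_injective
  set σ : MulAut P := P.normalizerMonoidHom ⟨b, hbn⟩ with hσ
  have hσe : ∀ y : P, ((σ y : P) : Ω) = b * y * b⁻¹ := fun y => rfl
  have hσG : σ ∈ G := autInducedBy_le_autGroup F hPS (mem_autInducedBy.2 ⟨b, hb, hσe⟩)
  have hσK : σ ∈ seriesStab G UP :=
    ⟨hσG, fun u hu => Subtype.ext (hfix u (Subgroup.mem_subgroupOf.1 hu) u.2),
      fun y => Subgroup.mem_subgroupOf.2 (hdisp y y.2)⟩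
  obtain ⟨-, hrad⟩ := radical_of_essential hS hP
  have hσI : σ ∈ Inn P := hrad ▸ ⟨⟨σ, hσG⟩, Grp.le_pCore hn hpg hσK, rfl⟩
  obtain ⟨u, hu⟩ := hσI
  have hcen : (u : Ω)⁻¹ * b ∈ P := by
    refine centralizerIn_le_of_centric hP.1
      (mem_centralizerIn.2 ⟨S.mul_mem (S.inv_mem (hPS u.2)) hb, fun y hy => ?_⟩)
    have e := hσe ⟨y, hy⟩
    rw [← hu] at e
    have e' : (u : Ω) * y * (u : Ω)⁻¹ = b * y * b⁻¹ := e
    calc y * ((u : Ω)⁻¹ * b) = (u : Ω)⁻¹ * ((u : Ω) * y * (u : Ω)⁻¹) * b := by group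
      _ = (u : Ω)⁻¹ * b * y := by rw [e']; group
  rw [← mul_inv_cancel_left (u : Ω) b]
  exact P.mul_mem u.2 hcen

/-- A subgroup with one generator of order `p` modulo it has index `p`. -/
theorem index_eq_of_gen {N P : Subgroup Ω} [Finite N] (hPN : P ≤ N)
    (hnorm : ∀ g ∈ N, g ∈ Subgroup.normalizer (P : Set Ω)) {s : Ω} (hs : s ∈ N) (hsP : s ∉ P)
    (hpow : s ^ p ∈ P) (hgen : ∀ g ∈ N, ∃ n : ℕ, g * (s ^ n)⁻¹ ∈ P) :
    (P.subgroupOf N).index = p := by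
  haveI hn : (P.subgroupOf N).Normal := ⟨fun c hc g => by
    rw [Subgroup.mem_subgroupOf] at hc ⊢
    simpa using (Subgroup.mem_normalizer_iff.1 (hnorm g g.2) c).1 hc⟩
  set q : ↥N ⧸ P.subgroupOf N := QuotientGroup.mk (⟨s, hs⟩ : N) with hq
  have h1 : q ≠ 1 := fun e => hsP (Subgroup.mem_subgroupOf.1
    ((QuotientGroup.eq_one_iff (⟨s, hs⟩ : N)).1 e))
  have h2 : q ^ p = 1 := by
    rw [hq, ← QuotientGroup.mk_pow]
    exact (QuotientGroup.eq_one_iff _).2 (Subgroup.mem_subgroupOf.2 (by simpa using hpow))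
  have h3 : Subgroup.zpowers q = ⊤ := eq_top_iff.2 fun r _ => by
    obtain ⟨g, rfl⟩ := QuotientGroup.mk_surjective r
    obtain ⟨n, hn⟩ := hgen g g.2
    have : (QuotientGroup.mk (g * ((⟨s, hs⟩ : N) ^ n)⁻¹) : ↥N ⧸ P.subgroupOf N) = 1 :=
      (QuotientGroup.eq_one_iff _).2 (Subgroup.mem_subgroupOf.2 (by simpa using hn))
    rw [QuotientGroup.mk_mul, QuotientGroup.mk_inv, QuotientGroup.mk_pow, mul_inv_eq_one] at this
    rw [this]
    exact Subgroup.pow_mem _ (Subgroup.mem_zpowers q) n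
  rw [Subgroup.index_eq_card, ← Subgroup.card_top, ← h3, Nat.card_zpowers, orderOf_eq_prime h2 h1]

namespace AIFrame

variable (hA : AIFrame S A p)
include hA

omit [Finite S] in
omit hp in
theorem comm_elt_inv {x : Ω} (hx : x ∈ S) {a : Ω} (ha : a ∈ A) : ⁅a⁻¹, x⁆ = ⁅a, x⁆⁻¹ := by
  have h := hA.comm_elt_mul hx (A.inv_mem ha) ha
  rw [inv_mul_cancel, commutatorElement_one_left] at h
  exact eq_inv_of_mul_eq_one_left h.symm

omit [Finite S] in
omit hp in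
theorem comm_elt_npow {x : Ω} (hx : x ∈ S) {a : Ω} (ha : a ∈ A) (n : ℕ) :
    ⁅a ^ n, x⁆ = ⁅a, x⁆ ^ n := by
  induction n with
  | zero => simp
  | succ n ih => rw [pow_succ, hA.comm_elt_mul hx (A.pow_mem ha n) ha, ih, pow_succ]

/-- An element of `A` with `⁅b, x⁆ ∈ P` normalizes a subgroup `P` generated by `x` and part of
`A`. -/
theorem normalizes {P : Subgroup Ω} (hPS : P ≤ S) {x : Ω} (hx : x ∈ P) (hxA : x ∉ A) {b : Ω}
    (hb : b ∈ A) (hbx : ⁅b, x⁆ ∈ P) : b ∈ Subgroup.normalizer (P : Set Ω) := by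
  have hone : ∀ b ∈ A, ⁅b, x⁆ ∈ P → ∀ y ∈ P, b * y * b⁻¹ ∈ P := by
    intro b hb hbx y hy
    obtain ⟨i, hi⟩ := hA.gen x (hPS hx) hxA y (hPS hy)
    rw [← inv_mul_cancel_right y (x ^ i)]
    have e : b * (y * (x ^ i)⁻¹ * x ^ i) * b⁻¹ = y * (x ^ i)⁻¹ * (⁅b, x⁆ * x) ^ i := by
      rw [commutatorElement_def, inv_mul_cancel_right (b * x * b⁻¹) x, conj_pow]
      calc b * (y * (x ^ i)⁻¹ * x ^ i) * b⁻¹
          = b * (y * (x ^ i)⁻¹) * b⁻¹ * (b * x ^ i * b⁻¹) := by group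
        _ = _ := by rw [hA.comm b hb _ hi, mul_inv_cancel_right]
    rw [e]
    exact P.mul_mem (P.mul_mem hy (P.inv_mem (P.pow_mem hx i))) (P.pow_mem (P.mul_mem hbx hx) i)
  refine mem_normalizer_of_forall (hone b hb hbx) fun y hy => ?_
  have := hone b⁻¹ (A.inv_mem hb) (by rw [hA.comm_elt_inv (hPS hx) hb]; exact P.inv_mem hbx) y hy
  simpa using this

theorem exists_aiEss (hS : IsPGroup p S) (hF : F.IsSaturated p) (hp2 : p ≠ 2) {P : Subgroup Ω}
    (hP : F.IsEssential p P) (hne : P ≠ A) : ∃ x w : Ω, AIEss S A P p x w := by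
  obtain ⟨hPS, hZP, x, hx, hxA, -⟩ := hA.ess_cases hP hne
  haveI := finite_of_le hPS
  haveI : Finite ↥(S ⊓ Subgroup.normalizer (P : Set Ω)) := finite_of_le (S := S) inf_le_left
  have hxS := hPS hx
  have hPlt : P < S := by
    refine lt_of_le_of_ne hPS fun e => ?_
    obtain ⟨-, hn, hnI, E, hsp, -, -⟩ := hP
    subst e
    obtain ⟨-, R, hR⟩ := fullyAutomized_of_fullyNormalized hS hF hn
    rw [← inn_eq_autInducedBy] at hR
    haveI := hnI
    have hdvd : p ∣ Nat.card (F.autGroup P ⧸ (Inn ↥P).subgroupOf (F.autGroup P)) := hsp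
    exact R.not_dvd_index (hR ▸ hdvd)
  have hPN : P ≤ S ⊓ Subgroup.normalizer (P : Set Ω) := le_inf hPS Subgroup.le_normalizer
  have hNA : ∀ g ∈ S ⊓ Subgroup.normalizer (P : Set Ω), ∃ i : ℕ,
      g * (x ^ i)⁻¹ ∈ A ∧ g * (x ^ i)⁻¹ ∈ Subgroup.normalizer (P : Set Ω) ∧
        ⁅g * (x ^ i)⁻¹, x⁆ ∈ P := by
    intro g hg
    obtain ⟨i, hi⟩ := hA.gen x hxS hxA g hg.1
    have hn : g * (x ^ i)⁻¹ ∈ Subgroup.normalizer (P : Set Ω) :=
      Subgroup.mul_mem _ hg.2 (Subgroup.le_normalizer (P.inv_mem (P.pow_mem hx i)))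
    refine ⟨i, hi, hn, ?_⟩
    rw [commutatorElement_def]
    exact P.mul_mem ((Subgroup.mem_normalizer_iff.1 hn x).1 hx) (P.inv_mem hx)
  by_cases hcase : ∀ a ∈ P, a ∈ A → a ∈ zS S
  · have hgenP : ∀ t ∈ P, ∃ i : ℕ, t * (x ^ i)⁻¹ ∈ zS S := fun t ht => by
      obtain ⟨i, hi⟩ := hA.gen x hxS hxA t (hPS ht)
      exact ⟨i, hcase _ (P.mul_mem ht (P.inv_mem (P.pow_mem hx i))) hi⟩
    obtain ⟨z, hz, hz1, hzp, ⟨b, hb, hbz⟩, hzc, -⟩ :=
      hA.exists_inversion hS hF hp2 hP hx hxA hgenP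
    have hbn := hA.normalizes hPS hx hxA hb (hbz ▸ hZP hz)
    have hbZ : b ∉ zS S := fun h => hz1 (by
      rw [← hbz, commutatorElement_eq_one_iff_mul_comm]; exact ((mem_zS.1 h).2 x hxS).symm)
    have hpow : ∀ n : ℕ, ⁅b ^ n, x⁆ = z ^ n := fun n => by rw [hA.comm_elt_npow hxS hb, hbz]
    have hwg : ∀ c ∈ A, ⁅c, x⁆ ∈ zS S → ∃ k : ℕ, c * (b ^ k)⁻¹ ∈ zS S := by
      intro c hc hcz
      obtain ⟨k, hk⟩ := (Submonoid.mem_powers_iff _ _).1
        ((isOfFinOrder_iff_pow_eq_one.2 ⟨p, hp.out.pos, hzp⟩).mem_powers_iff_mem_zpowers.2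
          (hzc c hc hcz))
      refine ⟨k, hA.cent x hxS hxA _ (A.mul_mem hc (A.inv_mem (A.pow_mem hb k))) ?_⟩
      rw [← commutatorElement_eq_one_iff_mul_comm, hA.comm_elt_mul hxS hc
        (A.inv_mem (A.pow_mem hb k)), hA.comm_elt_inv hxS (A.pow_mem hb k), hpow, hk, mul_inv_cancel]
    refine ⟨x, b, hxS, hxA, hb, hbz ▸ hz, hbZ, ?_, hwg, Or.inl ?_, ?_⟩
    · refine hA.cent x hxS hxA _ (A.pow_mem hb p) ?_
      rw [← commutatorElement_eq_one_iff_mul_comm, hpow, hzp]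
    · refine le_antisymm (fun t ht => ?_) (sup_le hZP (Subgroup.zpowers_le.2 hx))
      obtain ⟨i, hi⟩ := hgenP t ht
      rw [← inv_mul_cancel_right t (x ^ i)]
      exact mul_mem (Subgroup.mem_sup_left hi)
        (Subgroup.mem_sup_right (Subgroup.pow_mem _ (Subgroup.mem_zpowers x) i))
    · refine index_eq_of_gen hPN (fun g hg => hg.2) (s := b) ⟨hA.le hb, hbn⟩
        (fun h => hbZ (hcase b h hb)) ?_ fun g hg => ?_
      · refine hZP (hA.cent x hxS hxA _ (A.pow_mem hb p) ?_)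
        rw [← commutatorElement_eq_one_iff_mul_comm, hpow, hzp]
      · obtain ⟨i, hiA, -, hiP⟩ := hNA g hg
        obtain ⟨k, hk⟩ := hwg _ hiA (hcase _ hiP (hA.comm_elt_mem hxS hiA))
        refine ⟨k, ?_⟩
        have e : g * (b ^ k)⁻¹ = g * (x ^ i)⁻¹ * (b ^ k)⁻¹ * (b ^ k * x ^ i * (b ^ k)⁻¹) := by
          group
        rw [e]
        exact P.mul_mem (hZP hk) ((Subgroup.mem_normalizer_iff.1
          (Subgroup.pow_mem _ hbn k) _).1 (P.pow_mem hx i))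
  -- the nonabelian case
  push Not at hcase
  obtain ⟨w, hwP, hwA, hwZ⟩ := hcase
  have hcen : ∀ v ∈ P, (∀ t ∈ P, t * v = v * t) → v ∈ zS S := by
    intro v hv hvc
    by_cases hvA : v ∈ A
    · exact hA.cent x hxS hxA v hvA (hvc x hx).symm
    · exact absurd (hA.cent v (hPS hv) hvA w hwA (hvc w hwP)) hwZ
  have hinvZ : ∀ α ∈ F.autGroup P, ∀ u ∈ zS S, u ∈ P → autFun α u ∈ zS S := by
    intro α _ u hu huP
    refine hcen _ (autFun_mem α huP) fun t ht => ?_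
    obtain ⟨v, hv⟩ := α.surjective ⟨t, ht⟩
    have e : v * (⟨u, huP⟩ : P) = ⟨u, huP⟩ * v := Subtype.ext ((mem_zS.1 hu).2 v (hPS v.2))
    have := congrArg (fun r : P => ((α r : P) : Ω)) e
    simpa [map_mul, hv, ← autFun_coe] using this
  -- `P ∩ A` moves
  obtain ⟨α, hα, a, haP, haA, hαa⟩ : ∃ α ∈ F.autGroup P, ∃ a ∈ P, a ∈ A ∧ autFun α a ∉ A := by
    by_contra hcon
    push Not at hcon
    obtain ⟨s, hs, hsP⟩ := SetLike.exists_of_lt (lt_normalizerIn hS hPlt)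
    obtain ⟨i, hiA, hin, -⟩ := hNA s hs
    have h := mem_of_series hS hP (U := A) (fun α hα u hu huP => hcon α hα u huP hu)
      (hA.le hiA) hin (fun u hu _ => by rw [hA.comm _ hiA u hu, mul_inv_cancel_right])
      fun y hy => by
        rw [show y⁻¹ * (s * (x ^ i)⁻¹ * y * (s * (x ^ i)⁻¹)⁻¹) =
          (y⁻¹ * (s * (x ^ i)⁻¹) * y) * (s * (x ^ i)⁻¹)⁻¹ by group]
        refine A.mul_mem ?_ (A.inv_mem hiA)
        simpa using hA.normal y⁻¹ (S.inv_mem (hPS hy)) _ hiA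
    refine hsP ?_
    rw [← inv_mul_cancel_right s (x ^ i)]
    exact P.mul_mem h (P.pow_mem hx i)
  have hmeet : ∀ v ∈ P, v ∈ A → autFun α⁻¹ v ∈ A → v ∈ zS S := by
    intro v hv hvA hv'
    refine hA.cent _ (hPS (autFun_mem α haP)) hαa v hvA ?_
    have e : (⟨autFun α⁻¹ v, autFun_mem α⁻¹ hv⟩ : P) * ⟨a, haP⟩ =
        ⟨a, haP⟩ * ⟨autFun α⁻¹ v, autFun_mem α⁻¹ hv⟩ := Subtype.ext (hA.comm _ hv' a haA)
    have e2 : α ⟨autFun α⁻¹ v, autFun_mem α⁻¹ hv⟩ = ⟨v, hv⟩ := Subtype.ext (by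
      rw [← autFun_coe]
      show autFun α (autFun α⁻¹ v) = v
      have := autFun_inv_apply α⁻¹ hv
      rwa [inv_inv] at this)
    have h3 := congrArg (fun r : P => α r) e
    simp only [map_mul, e2] at h3
    have h4 := congrArg Subtype.val h3
    simpa [← autFun_coe] using h4
  have hw' : autFun α⁻¹ w ∉ A := fun h => hwZ (hmeet w hwP hwA h)
  have hinvhom : ∀ (u v : Ω), u ∈ P → v ∈ P →
      autFun α⁻¹ (u * v) = autFun α⁻¹ u * autFun α⁻¹ v := by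
    intro u v hu hv
    rw [show u * v = ((⟨u, hu⟩ * ⟨v, hv⟩ : P) : Ω) from rfl, autFun_coe, map_mul,
      Subgroup.coe_mul, ← autFun_coe, ← autFun_coe]
  have hinvpow : ∀ (u : Ω), u ∈ P → ∀ n : ℕ, autFun α⁻¹ (u ^ n) = autFun α⁻¹ u ^ n := by
    intro u hu n
    rw [show u ^ n = (((⟨u, hu⟩ : P) ^ n : P) : Ω) by simp, autFun_coe, map_pow,
      SubmonoidClass.coe_pow, ← autFun_coe]
  have hwgen : ∀ c ∈ P, c ∈ A → ∃ k : ℕ, c * (w ^ k)⁻¹ ∈ zS S := by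
    intro c hc hcA
    obtain ⟨k, hk⟩ := hA.gen _ (hPS (autFun_mem α⁻¹ hwP)) hw' _ (hPS (autFun_mem α⁻¹ hc))
    refine ⟨k, hmeet _ (P.mul_mem hc (P.inv_mem (P.pow_mem hwP k)))
      (A.mul_mem hcA (A.inv_mem (A.pow_mem hwA k))) ?_⟩
    have e : autFun α⁻¹ (c * (w ^ k)⁻¹) = autFun α⁻¹ c * (autFun α⁻¹ w ^ k)⁻¹ := by
      rw [eq_mul_inv_iff_mul_eq, ← hinvpow w hwP, ← hinvhom _ _
        (P.mul_mem hc (P.inv_mem (P.pow_mem hwP k))) (P.pow_mem hwP k), inv_mul_cancel_right]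
    rw [e]
    exact hk
  have hwp : w ^ p ∈ zS S := hmeet _ (P.pow_mem hwP p) (A.pow_mem hwA p) (by
    rw [hinvpow w hwP]
    exact hA.powA _ (hPS (autFun_mem α⁻¹ hwP)))
  have hwpow : ∀ k : ℕ, w ^ k ∈ zS S → p ∣ k := fun k hk => by
    by_contra hndvd
    obtain ⟨m, -, hm⟩ := Nat.exists_mul_mod_eq_one_of_coprime
      ((hp.out.coprime_iff_not_dvd).2 hndvd).symm hp.out.one_lt
    refine hwZ ?_
    have h : w ^ (k * m) ∈ zS S := by rw [pow_mul]; exact (zS S).pow_mem hk m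
    rw [← Nat.div_add_mod (k * m) p, hm, pow_add, pow_mul, pow_one] at h
    exact ((zS S).mul_mem_cancel_left ((zS S).pow_mem hwp _)).1 h
  -- the commutator of `w` with `x` is central
  have hwx : ⁅w, x⁆ ∈ zS S := by
    have hcA : x * w * x⁻¹ ∈ A := hA.normal x hxS w hwA
    obtain ⟨m, hm⟩ := hwgen _ (P.mul_mem (P.mul_mem hx hwP) (P.inv_mem hx)) hcA
    have hiter : ∀ i : ℕ, x ^ i * w * (x ^ i)⁻¹ * (w ^ (m ^ i))⁻¹ ∈ zS S := by
      intro i
      induction i with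
      | zero => simp
      | succ i ih =>
        set c := x ^ i * w * (x ^ i)⁻¹ * (w ^ (m ^ i))⁻¹ with hc
        set d := x * w * x⁻¹ * (w ^ m)⁻¹ with hd
        have e : x ^ (i + 1) * w * (x ^ (i + 1))⁻¹ = c * (d * w ^ m) ^ (m ^ i) := by
          rw [hd, inv_mul_cancel_right, conj_pow,
            show x ^ (i + 1) * w * (x ^ (i + 1))⁻¹ = x * (c * w ^ (m ^ i)) * x⁻¹ by
              rw [hc, inv_mul_cancel_right, pow_succ']; group]
          calc x * (c * w ^ m ^ i) * x⁻¹ = x * c * x⁻¹ * (x * w ^ m ^ i * x⁻¹) := by group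
            _ = _ := by rw [(mem_zS.1 ih).2 x hxS, mul_inv_cancel_right]
        have hdw : Commute d (w ^ m) :=
          ((mem_zS.1 hm).2 _ (hA.le (A.pow_mem hwA m))).symm
        rw [e, hdw.mul_pow, ← pow_mul, ← pow_succ', ← mul_assoc, mul_inv_cancel_right]
        exact (zS S).mul_mem ih ((zS S).pow_mem hm _)
    have hxp : x ^ p * w * (x ^ p)⁻¹ = w := by
      rw [hA.comm _ (hA.powA x hxS) w hwA, mul_inv_cancel_right]
    have hip := hiter p
    rw [hxp] at hip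
    obtain ⟨j, hj⟩ : ∃ j : ℕ, m = 1 + p * j := by
      have hmp : ((m ^ p : ℕ) : ZMod p) = 1 := by
        by_cases hle : 1 ≤ m ^ p
        · have h : w ^ (m ^ p - 1) ∈ zS S := by
            have e : w * (w ^ (m ^ p))⁻¹ = (w ^ (m ^ p - 1))⁻¹ := by
              conv_lhs => rw [← Nat.sub_add_cancel hle, pow_succ]
              group
            rw [e] at hip
            simpa using hip
          have h2 := (ZMod.natCast_eq_zero_iff _ _).2 (hwpow _ h)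
          rw [Nat.cast_sub hle, Nat.cast_one, sub_eq_zero] at h2
          exact h2
        · rw [Nat.not_le, Nat.lt_one_iff] at hle
          rw [hle, pow_zero, inv_one, mul_one] at hip
          exact absurd hip hwZ
      rw [Nat.cast_pow, ZMod.pow_card] at hmp
      have hm1 : 1 ≤ m := Nat.one_le_iff_ne_zero.2 fun e => by
        rw [e, Nat.cast_zero] at hmp
        exact zero_ne_one hmp
      have h2 : ((m - 1 : ℕ) : ZMod p) = 0 := by
        rw [Nat.cast_sub hm1, hmp, Nat.cast_one, sub_self]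
      obtain ⟨j, hj⟩ := (ZMod.natCast_eq_zero_iff _ _).1 h2
      exact ⟨j, by omega⟩
    have h : x * w * x⁻¹ * w⁻¹ ∈ zS S := by
      rw [hj, pow_add, pow_one, pow_mul, mul_inv_rev, ← mul_assoc] at hm
      have hwpj := (zS S).pow_mem hwp j
      have e : x * w * x⁻¹ * w⁻¹ = x * w * x⁻¹ * ((w ^ p) ^ j)⁻¹ * w⁻¹ * (w ^ p) ^ j := by
        have hc : Commute w⁻¹ ((w ^ p) ^ j) := (((Commute.refl w).pow_right p).pow_right j).inv_left
        rw [mul_assoc _ w⁻¹, hc.eq, ← mul_assoc, inv_mul_cancel_right]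
      rw [e]
      exact (zS S).mul_mem hm hwpj
    have := (zS S).inv_mem h
    rw [← commutatorElement_def, commutatorElement_inv] at this
    exact this
  have hmem : ∀ b ∈ A, b ∈ P ↔ ⁅b, x⁆ ∈ zS S := by
    intro b hb
    refine ⟨fun hbP => ?_, fun hbz => ?_⟩
    · obtain ⟨k, hk⟩ := hwgen b hbP hb
      rw [← inv_mul_cancel_right b (w ^ k), hA.comm_elt_mul hxS
        (A.mul_mem hb (A.inv_mem (A.pow_mem hwA k))) (A.pow_mem hwA k), hA.comm_elt_npow hxS hwA,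
        commutatorElement_eq_one_iff_mul_comm.2 ((mem_zS.1 hk).2 x hxS).symm, one_mul]
      exact (zS S).pow_mem hwx k
    · refine mem_of_series hS hP hinvZ (hA.le hb) (hA.normalizes hPS hx hxA hb (hZP hbz))
        (fun u hu _ => by rw [(mem_zS.1 hu).2 b (hA.le hb), mul_inv_cancel_right]) fun y hy => ?_
      obtain ⟨i, hi⟩ := hA.gen x hxS hxA y (hPS hy)
      have hc := hA.comm_elt_pow hxS hb hbz hi i
      rw [inv_mul_cancel_right] at hc
      have hm : b * y * b⁻¹ * y⁻¹ ∈ zS S := by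
        rw [← commutatorElement_def, hc]
        exact (zS S).pow_mem hbz i
      rw [show y⁻¹ * (b * y * b⁻¹) = y⁻¹ * (b * y * b⁻¹ * y⁻¹) * y by group,
        (mem_zS.1 hm).2 y⁻¹ (S.inv_mem (hPS hy)), inv_mul_cancel_right]
      exact hm
  refine ⟨x, w, hxS, hxA, hwA, hwx, hwZ, hwp,
    fun b hb hbz => hwgen b ((hmem b hb).2 hbz) hb, Or.inr ⟨hx, hmem⟩, ?_⟩
  obtain ⟨s, hs, hsP⟩ := SetLike.exists_of_lt (lt_normalizerIn hS hPlt)
  obtain ⟨i, hiA, hin, hiP⟩ := hNA s hs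
  set b := s * (x ^ i)⁻¹ with hb
  have hbP : b ∉ P := fun h => hsP (by
    rw [← inv_mul_cancel_right s (x ^ i)]; exact P.mul_mem h (P.pow_mem hx i))
  obtain ⟨l, hl⟩ := hwgen _ hiP (hA.comm_elt_mem hxS hiA)
  have hlp : ¬ p ∣ l := by
    rintro ⟨j, rfl⟩
    refine hbP ((hmem b hiA).2 ?_)
    rw [← inv_mul_cancel_right ⁅b, x⁆ (w ^ (p * j))]
    exact (zS S).mul_mem hl (by rw [pow_mul]; exact (zS S).pow_mem hwp j)
  have hzmod : ∀ k c : ℕ, ⁅b, x⁆ ^ k * w ^ c ∈ zS S ↔ p ∣ l * k + c := by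
    intro k c
    have hcm : Commute (⁅b, x⁆ * (w ^ l)⁻¹) (w ^ l) :=
      hA.comm _ (A.mul_mem (hA.comm_elt_mem hxS hiA) (A.inv_mem (A.pow_mem hwA l))) _
        (A.pow_mem hwA l)
    have e : ⁅b, x⁆ ^ k * w ^ c = (⁅b, x⁆ * (w ^ l)⁻¹) ^ k * w ^ (l * k + c) := by
      have h := hcm.mul_pow k
      rw [inv_mul_cancel_right] at h
      rw [h, pow_add, pow_mul, mul_assoc]
    rw [e, (zS S).mul_mem_cancel_left ((zS S).pow_mem hl k)]
    refine ⟨hwpow _, fun ⟨j, hj⟩ => ?_⟩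
    rw [hj, pow_mul]
    exact (zS S).pow_mem hwp j
  refine index_eq_of_gen hPN (fun g hg => hg.2) (s := b) ⟨hA.le hiA, hin⟩ hbP ?_ fun g hg => ?_
  · refine (hmem _ (A.pow_mem hiA p)).2 ?_
    rw [hA.comm_elt_npow hxS hiA]
    simpa using (hzmod p 0).2 (by simp)
  · obtain ⟨i', hi'A, -, hi'P⟩ := hNA g hg
    obtain ⟨c, hc⟩ := hwgen _ hi'P (hA.comm_elt_mem hxS hi'A)
    obtain ⟨k, hk⟩ : ∃ k : ℕ, p ∣ l * k + c := by
      refine ⟨(-(c : ZMod p) * (l : ZMod p)⁻¹).val, (ZMod.natCast_eq_zero_iff _ _).1 ?_⟩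
      have hl0 : (l : ZMod p) ≠ 0 := fun e => hlp ((ZMod.natCast_eq_zero_iff _ _).1 e)
      push_cast
      rw [ZMod.natCast_zmod_val]
      field_simp
      ring
    -- `g * b ^ k ∈ P`
    have hgb : g * (x ^ i')⁻¹ * b ^ k ∈ P := by
      refine (hmem _ (A.mul_mem hi'A (A.pow_mem hiA k))).2 ?_
      rw [hA.comm_elt_mul hxS hi'A (A.pow_mem hiA k), hA.comm_elt_npow hxS hiA,
        ← inv_mul_cancel_right ⁅g * (x ^ i')⁻¹, x⁆ (w ^ c), mul_assoc _ (w ^ c),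
        hA.comm (w ^ c) (A.pow_mem hwA c) _ (A.pow_mem (hA.comm_elt_mem hxS hiA) k)]
      exact (zS S).mul_mem hc ((hzmod k c).2 hk)
    have hfin : IsOfFinOrder b := by
      exact (Submonoid.isOfFinOrder_coe (H := S.toSubmonoid) (x := ⟨b, hA.le hiA⟩)).2
        (isOfFinOrder_of_finite (⟨b, hA.le hiA⟩ : S))
    obtain ⟨n, hn⟩ := (Submonoid.mem_powers_iff _ _).1
      (hfin.mem_powers_iff_mem_zpowers.2 (Subgroup.inv_mem _
        (Subgroup.pow_mem _ (Subgroup.mem_zpowers b) k)))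
    refine ⟨n, ?_⟩
    rw [hn, inv_inv]
    have e : g * b ^ k = g * (x ^ i')⁻¹ * b ^ k * ((b ^ k)⁻¹ * x ^ i' * b ^ k) := by group
    rw [e]
    refine P.mul_mem hgb ?_
    have := (Subgroup.mem_normalizer_iff.1
      (Subgroup.inv_mem _ (Subgroup.pow_mem _ hin k)) _).1 (P.pow_mem hx i')
    rwa [inv_inv] at this

end AIFrame

end Cfsg.Agent.Fus
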