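import Cfsg.Agent.Lib.Fus.MetacyclicTwoAut
import Cfsg.Agent.Lib.Fus.AbelianIndexPEss
import Cfsg.Agent.Lib.Fus.NormalCrit

/-!
A strongly closed metacyclic `2`-subgroup that is not dihedral, semidihedral or quaternion is normal.
-/

set_option autoImplicit false
set_option linter.style.haveILetI false
set_option linter.unusedSectionVars false

open scoped Classical commutatorElement Pointwise

namespace Cfsg.Agent.Fus

open Subgroup FusionSystem

universe u

namespace MetaTwo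

variable {X : Type u} [Group X]

/-- A group embedded in a metacyclic group is metacyclic. -/
theorem isMetacyclic_of_injective {Y : Type u} [Group Y] (f : Y →* X) (hf : Function.Injective f)
    (hm : IsMetacyclic X) : IsMetacyclic Y := by
  have hr := isMetacyclic_subgroup hm f.range
  obtain ⟨n, x, hn, h⟩ := exists_gens hr
  let e : Y ≃* f.range := MonoidHom.ofInjective hf
  have hmap : (Subgroup.zpowers n).comap (e : Y →* f.range) = Subgroup.zpowers (e.symm n) := by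
    ext y
    rw [Subgroup.mem_comap, Subgroup.mem_zpowers_iff, Subgroup.mem_zpowers_iff]
    refine exists_congr fun i => ?_
    rw [← map_zpow]
    exact ⟨fun h => e.symm_apply_eq.2 h, fun h => e.symm_apply_eq.1 h⟩
  refine isMetacyclic_of_gens (n := e.symm n) (x := e.symm x) (hmap ▸ hn.comap _) fun y => ?_
  obtain ⟨i, hi⟩ := h (e y)
  refine ⟨i, ?_⟩
  rw [← hmap, Subgroup.mem_comap]
  show e _ ∈ _
  rw [map_mul, map_inv, map_zpow,
    e.apply_symm_apply]
  exact hi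

/-- An automorphism of order prime to `p` trivial modulo the Frattini subgroup is trivial. -/
theorem aut_eq_one_of_coprime [Finite X] {p m : ℕ} [hp : Fact p.Prime] (hX : IsPGroup p X)
    {α : MulAut X} (hm : m.Coprime p) (hα : α ^ m = 1) (h : ∀ x, x⁻¹ * α x ∈ frattini X) :
    α = 1 := by
  by_contra hne
  have hd := orderOf_dvd_of_pow_eq_one hα
  obtain ⟨q, hq, c, hc⟩ := Nat.exists_prime_and_dvd
    (fun e => hne (orderOf_eq_one_iff.1 e) : orderOf α ≠ 1)
  haveI : Fact q.Prime := ⟨hq⟩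
  have hqp : q ≠ p := by
    rintro rfl
    exact (hq.coprime_iff_not_dvd.1 hm.symm) ((Dvd.intro c hc.symm).trans hd)
  have hk : ∀ (k : ℕ) (x : X), x⁻¹ * (α ^ k) x ∈ frattini X := by
    intro k
    induction k with
    | zero => intro x; simp
    | succ k ih =>
      intro x
      have := (frattini X).mul_mem (ih x) (h ((α ^ k) x))
      rwa [mul_assoc, mul_inv_cancel_left, ← MulAut.mul_apply, ← pow_succ'] at this
  have h0 : 0 < orderOf α := by
    rw [orderOf_pos_iff, isOfFinOrder_iff_pow_eq_one]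
    refine ⟨m, Nat.pos_of_ne_zero fun e => ?_, hα⟩
    rw [e, Nat.coprime_zero_left] at hm
    exact hp.out.ne_one hm
  have hc0 : 0 < c := by
    rcases Nat.eq_zero_or_pos c with rfl | h'
    · rw [hc, mul_zero] at h0; omega
    · exact h'
  have h1 : α ^ c = 1 := aut_eq_one hqp hX (by rw [← pow_mul, mul_comm, ← hc, pow_orderOf_eq_one])
    (hk c)
  have := Nat.le_of_dvd hc0 (orderOf_dvd_of_pow_eq_one h1)
  rw [hc] at this
  have : c * 2 ≤ q * c := by rw [mul_comm]; exact Nat.mul_le_mul_right c hq.two_le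
  omega

/-- In a finite cyclic group an element is a power of any element whose order is a multiple. -/
theorem mem_zpowers_of_orderOf_dvd [Finite X] [IsCyclic X] {y z : X}
    (h : orderOf y ∣ orderOf z) : y ∈ Subgroup.zpowers z := by
  haveI := Fintype.ofFinite X
  have hsub : Finset.univ.filter (fun t => t ∈ Subgroup.zpowers z) ⊆
      Finset.univ.filter (fun t : X => t ^ orderOf z = 1) := by
    intro t ht
    simp only [Finset.mem_filter, Finset.mem_univ, true_and] at ht ⊢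
    obtain ⟨i, rfl⟩ := Subgroup.mem_zpowers_iff.1 ht
    rw [← zpow_natCast, ← zpow_mul, mul_comm, zpow_mul, zpow_natCast, pow_orderOf_eq_one, one_zpow]
  have hcard : (Finset.univ.filter (fun t : X => t ^ orderOf z = 1)).card ≤
      (Finset.univ.filter (fun t => t ∈ Subgroup.zpowers z)).card := by
    refine (IsCyclic.card_pow_eq_one_le (orderOf_pos z)).trans (le_of_eq ?_)
    rw [← Fintype.card_zpowers, ← Nat.card_eq_fintype_card, ← Nat.card_eq_finsetCard]
    exact Nat.card_congr (Equiv.subtypeEquivRight fun t => by simp)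
  have hy : y ∈ Finset.univ.filter (fun t : X => t ^ orderOf z = 1) := by
    simp only [Finset.mem_filter, Finset.mem_univ, true_and]
    exact orderOf_dvd_iff_pow_eq_one.1 h
  rw [← Finset.eq_of_subset_of_card_le hsub hcard] at hy
  simpa using hy

/-- In a cyclic `2`-group an element whose square is in a subgroup it is outside of generates a
subgroup whose squares contain that subgroup. -/
theorem exists_sq_of_not_mem [Finite X] [IsCyclic X] (hX : IsPGroup 2 X) {g v : X}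
    (hg : g ∉ Subgroup.zpowers v) : ∃ i : ℤ, v = g ^ (2 * i) := by
  haveI : Fact (Nat.Prime 2) := ⟨Nat.prime_two⟩
  obtain ⟨a, ha⟩ := (IsPGroup.iff_orderOf.1 hX) g
  obtain ⟨b, hb⟩ := (IsPGroup.iff_orderOf.1 hX) v
  have hba : b ≤ a := by
    by_contra hh
    exact hg (mem_zpowers_of_orderOf_dvd (ha ▸ hb ▸ pow_dvd_pow 2 (by omega)))
  obtain ⟨i, hi⟩ := Subgroup.mem_zpowers_iff.1
    (mem_zpowers_of_orderOf_dvd (hb ▸ ha ▸ pow_dvd_pow 2 hba) : v ∈ Subgroup.zpowers g)
  rcases Int.even_or_odd' i with ⟨j, rfl | rfl⟩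
  · exact ⟨j, hi.symm⟩
  · obtain ⟨s, t, hst⟩ : IsCoprime (2 * j + 1) ((2 : ℤ) ^ a) :=
      IsCoprime.pow_right ⟨1, -j, by ring⟩
    refine absurd (Subgroup.mem_zpowers_iff.2 ⟨s, ?_⟩) hg
    have hga : g ^ ((2 : ℤ) ^ a) = 1 := by
      rw [show ((2 : ℤ) ^ a) = ((2 ^ a : ℕ) : ℤ) by norm_cast, zpow_natCast, ← ha, pow_orderOf_eq_one]
    have e : g = (g ^ (2 * j + 1)) ^ s * (g ^ ((2 : ℤ) ^ a)) ^ t := by
      rw [← zpow_mul, ← zpow_mul, ← zpow_add, mul_comm (2 * j + 1), mul_comm ((2 : ℤ) ^ a), hst,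
        zpow_one]
    rw [hga, one_zpow, mul_one, hi] at e
    exact e.symm

/-- An element of a metacyclic `2`-group that normalizes an abelian subgroup `V` of exponent at most
`2 ^ k`, `k ≥ 2`, and whose square is in `V`, moves the elements of `V` only by elements of exponent
`2 ^ (k - 1)`. -/
theorem comm_pow_eq_one [Finite X] (hX : IsPGroup 2 X) {N : Subgroup X} [N.Normal]
    (hN : IsCyclic N) (hQ : IsCyclic (X ⧸ N)) {V : Subgroup X} {k : ℕ} (hk : 2 ≤ k)
    (hVc : ∀ a ∈ V, ∀ b ∈ V, a * b = b * a) (hVe : ∀ a ∈ V, a ^ (2 ^ k) = 1) {g : X}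
    (hgV : ∀ a ∈ V, g * a * g⁻¹ ∈ V) (hg2 : g * g ∈ V) {v : X} (hv : v ∈ V) :
    (g * v * g⁻¹ * v⁻¹) ^ (2 ^ (k - 1)) = 1 := by
  haveI : Fact (Nat.Prime 2) := ⟨Nat.prime_two⟩
  obtain ⟨n₀, hn₀⟩ := hN.exists_generator
  have hNz : ∀ y ∈ N, ∃ i : ℤ, (n₀ : X) ^ i = y := fun y hy => by
    obtain ⟨i, hi⟩ := Subgroup.mem_zpowers_iff.1 (hn₀ ⟨y, hy⟩)
    exact ⟨i, by rw [← Subgroup.coe_zpow, hi]⟩
  have hact : ∀ y : X, ∃ r : ℤ, ∀ n ∈ N, y * n * y⁻¹ = n ^ r := by
    intro y
    obtain ⟨r, hr⟩ := hNz _ ((inferInstance : N.Normal).conj_mem _ n₀.2 y)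
    refine ⟨r, fun n hn => ?_⟩
    obtain ⟨i, rfl⟩ := hNz n hn
    rw [← conj_zpow, ← hr, zpow_comm]
  have hNc : ∀ a ∈ N, ∀ b ∈ N, Commute a b := fun a ha b hb => by
    obtain ⟨i, rfl⟩ := hNz a ha
    obtain ⟨j, rfl⟩ := hNz b hb
    exact Commute.zpow_zpow (Commute.refl _) i j
  by_cases hcase : ∃ w ∈ V, w⁻¹ * g ∈ N
  · obtain ⟨w, hw, hn'⟩ := hcase
    obtain ⟨n', hnN, rfl⟩ : ∃ n' ∈ N, g = w * n' :=
      ⟨w⁻¹ * g, hn', (mul_inv_cancel_left w g).symm⟩
    clear hn'
    have hnV : n' * v * n'⁻¹ ∈ V := by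
      rw [show n' * v * n'⁻¹ = w⁻¹ * (w * n' * v * (w * n')⁻¹) * w by group]
      exact V.mul_mem (V.mul_mem (V.inv_mem hw) (hgV v hv)) hw
    have hgv : w * n' * v * (w * n')⁻¹ * v⁻¹ = n' * v * n'⁻¹ * v⁻¹ := by
      rw [show w * n' * v * (w * n')⁻¹ = w * (n' * v * n'⁻¹) * w⁻¹ by group, hVc w hw _ hnV,
        mul_inv_cancel_right]
    rw [hgv]
    set c := n' * v * n'⁻¹ * v⁻¹ with hc
    clear_value c
    obtain ⟨r, hr⟩ := hact v
    have hcr : c = n' ^ (1 - r) := by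
      rw [hc, sub_eq_add_neg, zpow_add, zpow_one, zpow_neg, ← hr n' hnN]
      group
    have hcV : c ∈ V := hc ▸ V.mul_mem hnV (V.inv_mem hv)
    have hcN : c ∈ N := hcr ▸ N.zpow_mem hnN _
    by_contra hne
    have hcord : orderOf c = 2 ^ k := by
      obtain ⟨j, hj, hj'⟩ := (Nat.dvd_prime_pow Nat.prime_two).1
        (orderOf_dvd_of_pow_eq_one (hVe c hcV))
      rcases eq_or_lt_of_le hj with rfl | hlt
      · exact hj'
      · refine absurd ?_ hne
        rw [← orderOf_dvd_iff_pow_eq_one, hj']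
        exact pow_dvd_pow 2 (by omega)
    have hfix : ∀ (y : X) (s : ℤ), y ∈ V → (∀ n ∈ N, y * n * y⁻¹ = n ^ s) →
        ((2 : ℤ) ^ k) ∣ s - 1 := by
      intro y s hy hs
      have e := hs c hcN
      rw [hVc y hy c hcV, mul_inv_cancel_right] at e
      have : c ^ (s - 1) = 1 := by rw [zpow_sub, ← e, zpow_one, mul_inv_cancel]
      rw [← orderOf_dvd_iff_zpow_eq_one, hcord] at this
      exact_mod_cast this
    obtain ⟨t, ht⟩ := hfix v r hv hr
    obtain ⟨r', hr'⟩ := hact w⁻¹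
    obtain ⟨t', ht'⟩ := hfix w⁻¹ r' (V.inv_mem hw) hr'
    have hm : n' ^ (r' + 1) ∈ V := by
      have e : w * n' * (w * n') = w * w * ((w⁻¹ * n' * w⁻¹⁻¹) * n') := by group
      rw [hr' n' hnN, ← zpow_add_one] at e
      rw [e] at hg2
      exact (V.mul_mem_cancel_left (V.mul_mem hw hw)).1 hg2
    have hord : n' ^ (((2 : ℤ) ^ (k + 1)) * (1 + (2 : ℤ) ^ (k - 1) * t')) = 1 := by
      have h1 := hVe _ hm
      rw [← zpow_natCast, ← zpow_mul] at h1
      rw [← h1]
      congr 1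
      rw [show r' = 1 + 2 ^ k * t' by linarith]
      push_cast
      rw [show (2 : ℤ) ^ k = 2 * 2 ^ (k - 1) by rw [← pow_succ']; congr 1; omega, pow_succ',
        show (2 : ℤ) ^ k = 2 * 2 ^ (k - 1) by rw [← pow_succ']; congr 1; omega]
      ring
    have hlow : n' ^ ((2 : ℤ) ^ (k + 1)) = 1 := by
      obtain ⟨a, ha⟩ := (IsPGroup.iff_orderOf.1 hX) n'
      rw [← orderOf_dvd_iff_zpow_eq_one, ha] at hord ⊢
      push_cast at hord ⊢
      refine IsCoprime.dvd_of_dvd_mul_right (IsCoprime.pow_left (Int.prime_two.coprime_iff_not_dvd.2 ?_))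
        hord
      rintro ⟨d, hd⟩
      have h2 : (2 : ℤ) ∣ 2 ^ (k - 1) * t' := (dvd_pow_self (2 : ℤ) (by omega)).mul_right _
      omega
    refine hne ?_
    rw [← zpow_natCast, hcr, ← zpow_mul,
      show (1 - r) * ((2 ^ (k - 1) : ℕ) : ℤ) = 2 ^ (k + 1) * (-t * 2 ^ (k - 2)) by
        push_cast
        rw [show r = 1 + 2 ^ k * t by linarith, show (2 : ℤ) ^ (k - 1) = 2 * 2 ^ (k - 2) by
          rw [← pow_succ']; congr 1; omega, pow_succ]
        ring, zpow_mul, hlow, one_zpow]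
  · push Not at hcase
    have hgz : (QuotientGroup.mk g : X ⧸ N) ∉ Subgroup.zpowers (QuotientGroup.mk v : X ⧸ N) := by
      intro h
      obtain ⟨i, hi⟩ := Subgroup.mem_zpowers_iff.1 h
      rw [← QuotientGroup.mk_zpow] at hi
      exact hcase _ (V.zpow_mem hv i) ((QuotientGroup.eq).1 hi)
    haveI := hQ
    obtain ⟨i, hi⟩ := exists_sq_of_not_mem (hX.to_quotient N) hgz
    rw [← QuotientGroup.mk_zpow] at hi
    have hn : (g ^ (2 * i))⁻¹ * v ∈ N := (QuotientGroup.eq).1 hi.symm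
    set n := (g ^ (2 * i))⁻¹ * v with hn'
    have hgi : g ^ (2 * i) ∈ V := by
      rw [zpow_mul, show g ^ (2 : ℤ) = g * g from zpow_two g]
      exact V.zpow_mem hg2 i
    have hnV : n ∈ V := hn' ▸ V.mul_mem (V.inv_mem hgi) hv
    have hvn : v = g ^ (2 * i) * n := by rw [hn', mul_inv_cancel_left]
    clear_value n
    set c := g * n * g⁻¹ * n⁻¹ with hc
    have hcV : c ∈ V := V.mul_mem (hgV n hnV) (V.inv_mem hnV)
    have hgv : g * v * g⁻¹ * v⁻¹ = c := by
      rw [hvn, show g * (g ^ (2 * i) * n) * g⁻¹ * (g ^ (2 * i) * n)⁻¹ =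
        g ^ (2 * i) * c * (g ^ (2 * i))⁻¹ by rw [hc]; group, hVc _ hgi _ hcV, mul_inv_cancel_right]
    have hcg : g * n * g⁻¹ ∈ N := (inferInstance : N.Normal).conj_mem _ hn g
    rw [hgv, hc, (hNc _ hcg _ (N.inv_mem hn)).mul_pow, conj_pow, inv_pow]
    have hm2 : (n ^ 2 ^ (k - 1)) ^ 2 = 1 := by
      rw [← pow_mul, ← pow_succ, Nat.sub_add_cancel (by omega : 1 ≤ k), hVe n hnV]
    have hm3 : (g * n ^ 2 ^ (k - 1) * g⁻¹) ^ 2 = 1 := by
      rw [conj_pow, hm2, mul_one, mul_inv_cancel]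
    have hmN : n ^ 2 ^ (k - 1) ∈ N := N.pow_mem hn _
    by_cases hm1 : n ^ 2 ^ (k - 1) = 1
    · rw [hm1]; simp
    · haveI := hN
      have h2 := mem_zpowers_of_orderOf_dvd (X := N)
        (y := ⟨_, (inferInstance : N.Normal).conj_mem _ hmN g⟩) (z := ⟨_, hmN⟩) (by
          rw [Subgroup.orderOf_mk, Subgroup.orderOf_mk, orderOf_eq_prime hm2 hm1]
          exact orderOf_dvd_of_pow_eq_one hm3)
      obtain ⟨j, hj⟩ := Subgroup.mem_zpowers_iff.1 h2
      have hj' : (n ^ 2 ^ (k - 1)) ^ j = g * n ^ 2 ^ (k - 1) * g⁻¹ := congrArg Subtype.val hj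
      rcases Int.even_or_odd' j with ⟨l, rfl | rfl⟩
      · rw [zpow_mul, show (n ^ 2 ^ (k - 1)) ^ (2 : ℤ) = 1 by
          rw [show (2 : ℤ) = ((2 : ℕ) : ℤ) from rfl, zpow_natCast, hm2], one_zpow] at hj'
        exact absurd (by simpa using hj'.symm) hm1
      · rw [zpow_add, zpow_mul, show (n ^ 2 ^ (k - 1)) ^ (2 : ℤ) = 1 by
          rw [show (2 : ℤ) = ((2 : ℕ) : ℤ) from rfl, zpow_natCast, hm2], one_zpow, one_mul,
          zpow_one] at hj'
        rw [← hj', mul_inv_cancel]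

end MetaTwo

section

variable {Ω : Type u} [Group Ω] {S : Subgroup Ω} {F : FusionSystem S} [Finite S] {p : ℕ}
  [hp : Fact p.Prime]

omit hp in
/-- If `E` normalizes a subgroup not inside it, some element of that subgroup outside `E`
normalizes `E`. -/
theorem exists_mem_normalizer [Fact p.Prime] (hS : IsPGroup p S) {E D : Subgroup Ω} (hE : E ≤ S)
    (hD : D ≤ S) (hn : ∀ x ∈ E, ∀ y ∈ D, x * y * x⁻¹ ∈ D) (hnle : ¬ D ≤ E) :
    ∃ q ∈ D, q ∈ Subgroup.normalizer (E : Set Ω) ∧ q ∉ E := by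
  haveI : Finite ↥(E ⊔ D) := finite_of_le (S := S) (sup_le hE hD)
  obtain ⟨g, hg, hgE⟩ := SetLike.lt_iff_le_and_exists.1
    (lt_normalizerIn (S := E ⊔ D) (hS.to_le (sup_le hE hD)) (left_lt_sup.2 hnle)) |>.2
  have hnD : E ≤ Subgroup.normalizer (D : Set Ω) := fun x hx => by
    refine mem_normalizer_of_forall (hn x hx) fun y hy => ?_
    simpa using hn x⁻¹ (E.inv_mem hx) y hy
  obtain ⟨x, hx, q, hq, rfl⟩ : g ∈ (E : Set Ω) * (D : Set Ω) := by
    rw [← Subgroup.coe_mul_of_left_le_normalizer_right E D hnD]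
    exact hg.1
  have hqN : q ∈ Subgroup.normalizer (E : Set Ω) := by
    have := (Subgroup.normalizer (E : Set Ω)).mul_mem
      ((Subgroup.normalizer (E : Set Ω)).inv_mem (Subgroup.le_normalizer hx)) hg.2
    simpa using this
  exact ⟨q, hq, hqN, fun h => hgE (E.mul_mem hx h)⟩

/-- An element of `N_S(E)` inducing on an essential `E` an automorphism in the stabilizer of
`W ≤ V ≤ E` is in `E`, if that stabilizer fixes `V` in order prime to `p`. -/
theorem mem_of_stab (hS : IsPGroup p S) {E : Subgroup Ω} (hE : F.IsEssential p E) (V W : Subgroup E)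
    (hV : ∀ β ∈ F.autGroup E, ∀ x ∈ V, β x ∈ V) (hW : ∀ β ∈ F.autGroup E, ∀ x ∈ W, β x ∈ W)
    (hfix : ∀ β ∈ F.autGroup E, ∀ m : ℕ, m.Coprime p → β ^ m = 1 →
      (∀ x ∈ V, x⁻¹ * β x ∈ W) → ∀ x ∈ V, β x = x)
    {b : Ω} (hb : b ∈ S) (hbn : b ∈ Subgroup.normalizer (E : Set Ω))
    (hd1 : ∀ x : E, x⁻¹ * E.normalizerMonoidHom ⟨b, hbn⟩ x ∈ V)
    (hd2 : ∀ x ∈ V, x⁻¹ * E.normalizerMonoidHom ⟨b, hbn⟩ x ∈ W) : b ∈ E := by
  have hES := hE.1.1
  haveI := finite_of_le hES
  let K : Subgroup (F.autGroup E) :=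
    { carrier := {α | (∀ x : E, x⁻¹ * (α : MulAut E) x ∈ V) ∧
        ∀ x ∈ V, x⁻¹ * (α : MulAut E) x ∈ W}
      mul_mem' := by
        intro a c ha hc
        have e : ∀ x : E, x⁻¹ * ((a * c : F.autGroup E) : MulAut E) x =
            (x⁻¹ * (c : MulAut E) x) *
              (((c : MulAut E) x)⁻¹ * (a : MulAut E) ((c : MulAut E) x)) := fun x => by
          simp [mul_assoc]
        refine ⟨fun x => ?_, fun x hx => ?_⟩
        · rw [e]; exact mul_mem (hc.1 x) (ha.1 _)
        · rw [e]; exact mul_mem (hc.2 x hx) (ha.2 _ (hV _ c.2 _ hx))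
      one_mem' := ⟨fun x => by simp, fun x hx => by simp⟩
      inv_mem' := by
        intro a ha
        have e : ∀ x : E, x⁻¹ * ((a⁻¹ : F.autGroup E) : MulAut E) x =
            ((((a⁻¹ : F.autGroup E) : MulAut E) x)⁻¹ *
              (a : MulAut E) (((a⁻¹ : F.autGroup E) : MulAut E) x))⁻¹ := fun x => by
          simp
        refine ⟨fun x => ?_, fun x hx => ?_⟩
        · rw [e]; exact inv_mem (ha.1 _)
        · rw [e]; exact inv_mem (ha.2 _ (hV _ (a⁻¹).2 _ hx)) }
  have hKn : K.Normal := by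
    refine ⟨fun c hc a => ?_⟩
    have e : ∀ x : E, x⁻¹ * ((a * c * a⁻¹ : F.autGroup E) : MulAut E) x = (a : MulAut E)
        ((((a⁻¹ : F.autGroup E) : MulAut E) x)⁻¹ *
          (c : MulAut E) (((a⁻¹ : F.autGroup E) : MulAut E) x)) := fun x => by
      simp
    refine ⟨fun x => ?_, fun x hx => ?_⟩
    · rw [e]; exact hV _ a.2 _ (hc.1 _)
    · rw [e]; exact hW _ a.2 _ (hc.2 _ (hV _ (a⁻¹).2 _ hx))
  have hKp : IsPGroup p K := by
    intro α
    obtain ⟨k, m, hm, hord⟩ := Nat.exists_eq_pow_mul_and_not_dvd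
      (orderOf_pos α).ne' p hp.out.ne_one
    refine ⟨k, ?_⟩
    set β := α ^ p ^ k with hβ
    have hβm : ((β : F.autGroup E) : MulAut E) ^ m = 1 := by
      rw [← SubgroupClass.coe_pow, ← SubgroupClass.coe_pow, hβ, ← pow_mul, ← hord,
        pow_orderOf_eq_one]
      rfl
    have hmc : m.Coprime p := (hp.out.coprime_iff_not_dvd.2 hm).symm
    refine Subtype.ext (Subtype.ext (MulEquiv.ext fun x => ?_))
    exact fix_step hS hES _ hmc hβm
      (hfix _ (β : F.autGroup E).2 m hmc hβm β.2.2 _ (β.2.1 x))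
  set σ : MulAut E := E.normalizerMonoidHom ⟨b, hbn⟩ with hσ
  have hσe : ∀ y : E, ((σ y : E) : Ω) = b * y * b⁻¹ := fun y => rfl
  have hσG : σ ∈ F.autGroup E :=
    autInducedBy_le_autGroup F hES (mem_autInducedBy.2 ⟨b, hb, hσe⟩)
  obtain ⟨-, hrad⟩ := radical_of_essential hS hE
  have hσI : σ ∈ Inn E := hrad ▸ ⟨⟨σ, hσG⟩, Grp.le_pCore hKn hKp ⟨hd1, hd2⟩, rfl⟩
  obtain ⟨u, hu⟩ := hσI
  have hcen : (u : Ω)⁻¹ * b ∈ E := by
    refine centralizerIn_le_of_centric hE.1
      (mem_centralizerIn.2 ⟨S.mul_mem (S.inv_mem (hES u.2)) hb, fun y hy => ?_⟩)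
    have e := hσe ⟨y, hy⟩
    rw [← hu] at e
    have e' : (u : Ω) * y * (u : Ω)⁻¹ = b * y * b⁻¹ := e
    calc y * ((u : Ω)⁻¹ * b) = (u : Ω)⁻¹ * ((u : Ω) * y * (u : Ω)⁻¹) * b := by group
      _ = (u : Ω)⁻¹ * b * y := by rw [e']; group
  rw [← mul_inv_cancel_left (u : Ω) b]
  exact E.mul_mem u.2 hcen

/-- The restriction of an automorphism to an invariant subgroup. -/
theorem exists_restrict {E : Type u} [Group E] [Finite E] (V : Subgroup E) (β : MulAut E)
    (h : ∀ x ∈ V, β x ∈ V) : ∃ α : MulAut V, ∀ x : V, ((α x : V) : E) = β x := by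
  let f : V →* V := MonoidHom.mk' (fun x => ⟨β x, h x x.2⟩) fun a b => Subtype.ext (map_mul β _ _)
  have hf : Function.Injective f := fun a b e => Subtype.ext (β.injective (congrArg Subtype.val e))
  exact ⟨MulEquiv.ofBijective f ⟨hf, Finite.injective_iff_surjective.1 hf⟩, fun x => rfl⟩

end

section Main

variable {Ω : Type u} [Group Ω] {S : Subgroup Ω} {F : FusionSystem S} [Finite S]

/-- A `2`-group of maximal class is dihedral, semidihedral or quaternion. -/
theorem MetaTwo.not_maxClass {X : Type u} [Group X] [Finite X] {n : ℕ} (hn : 3 ≤ n)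
    (hX : Nat.card X = 2 ^ n) (hc : Group.nilpotencyClass X = n - 1)
    (hd : ¬ ∃ m : ℕ, Nonempty (X ≃* DihedralGroup m))
    (hq : ¬ ∃ m : ℕ, Nonempty (X ≃* QuaternionGroup m)) (hsd : ¬ IsQuasiDihedral X) : False := by
  obtain ⟨h4, hne⟩ := Transfer.MaxClass.index_four_of_class hn hX hc
  rcases Transfer.MaxClass.classify (IsPGroup.of_card hX) h4 hne with
    ⟨k, hk⟩ | ⟨k, hk, a, b, ha, hb, hab⟩ | ⟨k, hk⟩
  · exact hd ⟨_, hk⟩
  · exact hsd ⟨k + 3, by omega, hk, a, b, ha, hb, hab⟩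
  · exact hq ⟨_, hk⟩

/-- For `p = 2` a strongly closed metacyclic subgroup that is not dihedral, semidihedral or
quaternion lies in every essential subgroup. -/
theorem MetaTwo.le_essential [Fact (Nat.Prime 2)] (hS : IsPGroup 2 S) {P : Subgroup Ω}
    (hP : F.StronglyClosed P) (hm : IsMetacyclic ↥P)
    (hd : ¬ ∃ m : ℕ, Nonempty (↥P ≃* DihedralGroup m))
    (hq : ¬ ∃ m : ℕ, Nonempty (↥P ≃* QuaternionGroup m)) (hsd : ¬ IsQuasiDihedral ↥P)
    {E : Subgroup Ω} (hE : F.IsEssential 2 E) : P ≤ E := by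
  by_contra hnle
  have hES := hE.1.1
  have hPS := hP.1
  haveI := finite_of_le hES
  haveI := finite_of_le hPS
  have hPn : ∀ s ∈ S, ∀ y ∈ P, s * y * s⁻¹ ∈ P := fun s hs y hy =>
    StronglyClosed.conj_mem' hP hs hy
  set V : Subgroup E := P.subgroupOf E with hVdef
  have hmemV : ∀ x : E, x ∈ V ↔ (x : Ω) ∈ P := fun x => Subgroup.mem_subgroupOf
  have hVinv : ∀ β ∈ F.autGroup E, ∀ x ∈ V, β x ∈ V := fun β hβ x hx =>
    (hmemV _).2 (StronglyClosed.aut_apply_mem hP hES hβ ((hmemV x).1 hx))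
  let ι : V →* P := MonoidHom.mk' (fun x => ⟨((x : E) : Ω), (hmemV _).1 x.2⟩) fun a b => rfl
  have hι : Function.Injective ι := fun a b e =>
    Subtype.ext (Subtype.ext (congrArg (fun t : P => (t : Ω)) e))
  have hVp : IsPGroup 2 V := (hS.to_le hES).to_subgroup V
  have hVm : IsMetacyclic V := MetaTwo.isMetacyclic_of_injective ι hι hm
  set W : Subgroup E := (frattini V).map V.subtype with hWdef
  have hWinv : ∀ β ∈ F.autGroup E, ∀ x ∈ W, β x ∈ W := by
    rintro β hβ _ ⟨w, hw, rfl⟩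
    obtain ⟨α, hα⟩ := exists_restrict V β (hVinv β hβ)
    refine ⟨α w, ?_, hα w⟩
    rw [← Subgroup.Characteristic.fixed (inferInstance : (frattini V).Characteristic) α] at hw
    exact hw
  -- an element of `N_P(E)` whose square is in `E`
  obtain ⟨g, hgP, hgN, hgE, hg2⟩ : ∃ g ∈ P, g ∈ Subgroup.normalizer (E : Set Ω) ∧ g ∉ E ∧
      g * g ∈ E := by
    obtain ⟨q, hqP, hqN, hqE⟩ :=
      exists_mem_normalizer hS hES hPS (fun x hx y hy => hPn x (hES hx) y hy) hnle
    obtain ⟨i, hi⟩ := hS ⟨q, hPS hqP⟩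
    have hex : ∃ i, q ^ (2 ^ i) ∈ E := by
      refine ⟨i, ?_⟩
      have h1 := congrArg Subtype.val hi
      simp only [SubmonoidClass.coe_pow, OneMemClass.coe_one] at h1
      rw [h1]; exact E.one_mem
    have h0 : Nat.find hex ≠ 0 := fun e => hqE (by
      have := Nat.find_spec hex; rwa [e, pow_zero, pow_one] at this)
    refine ⟨q ^ (2 ^ (Nat.find hex - 1)), P.pow_mem hqP _,
      (Subgroup.normalizer (E : Set Ω)).pow_mem hqN _, Nat.find_min hex (by omega), ?_⟩
    rw [← pow_add, ← two_mul, ← pow_succ', Nat.sub_add_cancel (Nat.pos_of_ne_zero h0)]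
    exact Nat.find_spec hex
  set σ : MulAut E := E.normalizerMonoidHom ⟨g, hgN⟩ with hσdef
  have hσ : ∀ y : E, ((σ y : E) : Ω) = g * y * g⁻¹ := fun y => rfl
  have hσV : ∀ x : E, x⁻¹ * σ x ∈ V := fun x => (hmemV _).2 (by
    rw [Subgroup.coe_mul, Subgroup.coe_inv, hσ,
      show (x : Ω)⁻¹ * (g * x * g⁻¹) = ((x : Ω)⁻¹ * g * ((x : Ω)⁻¹)⁻¹) * g⁻¹ by group]
    exact P.mul_mem (hPn _ (S.inv_mem (hES x.2)) g hgP) (P.inv_mem hgP))
  -- some automorphism of odd order moves `V`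
  have hA : ¬ IsPGroup 2 (MulAut V) := by
    intro hA
    refine hgE (mem_of_stab hS hE V V hVinv hVinv ?_ (hPS hgP) hgN hσV fun x _ => hσV x)
    intro β hβ m hm hβm _ x hx
    obtain ⟨α, hα⟩ := exists_restrict V β (hVinv β hβ)
    have hpow : ∀ (k : ℕ) (y : V), (((α ^ k) y : V) : E) = (β ^ k) y := by
      intro k
      induction k with
      | zero => intro y; rfl
      | succ k ih => intro y; rw [pow_succ', MulAut.mul_apply, hα, ih, pow_succ', MulAut.mul_apply]
    have hαm : α ^ m = 1 := MulEquiv.ext fun y => Subtype.ext (by rw [hpow, hβm]; rfl)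
    obtain ⟨i, hi⟩ := (IsPGroup.iff_orderOf.1 hA) α
    have h1 : orderOf α = 1 := Nat.eq_one_of_dvd_coprimes ((Nat.Coprime.pow_right i hm).symm)
      (hi ▸ dvd_rfl) (orderOf_dvd_of_pow_eq_one hαm)
    have := hα ⟨x, hx⟩
    rw [orderOf_eq_one_iff.1 h1] at this
    exact this.symm
  -- `g` moves `V` modulo its Frattini subgroup
  obtain ⟨v, hv, hvW⟩ : ∃ v ∈ V, v⁻¹ * σ v ∉ W := by
    by_contra hcon
    push Not at hcon
    refine hgE (mem_of_stab hS hE V W hVinv hWinv ?_ (hPS hgP) hgN hσV hcon)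
    intro β hβ m hm hβm hst x hx
    obtain ⟨α, hα⟩ := exists_restrict V β (hVinv β hβ)
    have hpow : ∀ (k : ℕ) (y : V), (((α ^ k) y : V) : E) = (β ^ k) y := by
      intro k
      induction k with
      | zero => intro y; rfl
      | succ k ih => intro y; rw [pow_succ', MulAut.mul_apply, hα, ih, pow_succ', MulAut.mul_apply]
    have h1 : α = 1 := MetaTwo.aut_eq_one_of_coprime hVp hm
      (MulEquiv.ext fun y => Subtype.ext (by rw [hpow, hβm]; rfl)) fun y => by
        obtain ⟨w, hw, e⟩ := hst y y.2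
        have : y⁻¹ * α y = w := Subtype.ext (by rw [Subgroup.coe_mul, Subgroup.coe_inv, hα]; exact e.symm)
        rw [this]; exact hw
    have := hα ⟨x, hx⟩
    rw [h1] at this
    exact this.symm
  -- the centralizer of `V` in `P`
  have hcent : ∀ y ∈ P, (∀ x ∈ V, y * (x : Ω) = (x : Ω) * y) → y ∈ E := by
    by_contra hcon
    push Not at hcon
    obtain ⟨y, hyP, hyc, hyE⟩ := hcon
    let D : Subgroup Ω := P ⊓ Subgroup.centralizer ((P ⊓ E : Subgroup Ω) : Set Ω)
    have hyD : y ∈ D := ⟨hyP, Subgroup.mem_centralizer_iff.2 fun x hx =>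
      (hyc ⟨x, hx.2⟩ ((hmemV _).2 hx.1)).symm⟩
    obtain ⟨q, hqD, hqN, hqE⟩ := exists_mem_normalizer hS hES (inf_le_left.trans hPS)
      (D := D) (fun x hx z hz => ⟨hPn x (hES hx) z hz.1, Subgroup.mem_centralizer_iff.2 fun w hw => by
        have hw' : x⁻¹ * w * x ∈ P ⊓ E :=
          ⟨by simpa using hPn x⁻¹ (S.inv_mem (hES hx)) w hw.1,
            E.mul_mem (E.mul_mem (E.inv_mem hx) hw.2) hx⟩
        have e : x⁻¹ * w * x * z = z * (x⁻¹ * w * x) :=
          Subgroup.mem_centralizer_iff.1 hz.2 _ hw'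
        calc w * (x * z * x⁻¹) = x * (x⁻¹ * w * x * z) * x⁻¹ := by group
          _ = x * z * x⁻¹ * w := by rw [e]; group⟩) fun hle => hyE (hle hyD)
    refine hqE (mem_of_series hS hE (U := P) (fun α hα u hu huE => ?_) (hPS hqD.1) hqN
      (fun u hu huE => ?_) fun z hz => ?_)
    · rw [show u = ((⟨u, huE⟩ : E) : Ω) from rfl, autFun_coe]
      exact StronglyClosed.aut_apply_mem hP hES hα (x := ⟨u, huE⟩) hu
    · rw [← Subgroup.mem_centralizer_iff.1 hqD.2 u ⟨hu, huE⟩, mul_inv_cancel_right]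
    · rw [show z⁻¹ * (q * z * q⁻¹) = (z⁻¹ * q * z⁻¹⁻¹) * q⁻¹ by group]
      exact P.mul_mem (hPn _ (S.inv_mem (hES hz)) q hqD.1) (P.inv_mem hqD.1)
  -- the image of `V` in `P`
  set A : Subgroup P := E.subgroupOf P with hA'
  have hmemA : ∀ x : P, x ∈ A ↔ (x : Ω) ∈ E := fun x => Subgroup.mem_subgroupOf
  let eA : A ≃* V :=
    { toFun := fun x => ⟨⟨((x : P) : Ω), (hmemA _).1 x.2⟩, (hmemV _).2 (x : P).2⟩
      invFun := fun x => ⟨⟨((x : E) : Ω), (hmemV _).1 x.2⟩, (hmemA _).2 (x : E).2⟩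
      left_inv := fun x => rfl
      right_inv := fun x => rfl
      map_mul' := fun x y => rfl }
  obtain ⟨n, hn⟩ := IsPGroup.iff_card.1 (hS.to_le hPS)
  have hcentA : Subgroup.centralizer (A : Set P) ≤ A := fun y hy => (hmemA y).2
    (hcent y y.2 fun x hx => (congrArg Subtype.val (Subgroup.mem_centralizer_iff.1 hy
      ⟨x, (hmemV x).1 hx⟩ ((hmemA _).2 x.2))).symm)
  have hAlt : A ≠ ⊤ := fun e => hgE ((hmemA ⟨g, hgP⟩).1 (e ▸ Subgroup.mem_top _))
  rcases MetaTwo.classify_of_not_isPGroup hVp hVm hA with ⟨⟨φ⟩⟩ | ⟨k, ⟨φ⟩⟩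
  · -- quaternion
    have hA8 : Nat.card A = 2 ^ 3 := by
      rw [Nat.card_congr (eA.trans φ).toEquiv, Nat.card_eq_fintype_card, QuaternionGroup.card]
      rfl
    have hAna : ¬ IsMulCommutative A := fun hcm => by
      have h := hcm.is_comm.comm ((eA.trans φ).symm (QuaternionGroup.a 1))
        ((eA.trans φ).symm (QuaternionGroup.xa 0))
      rw [← map_mul, ← map_mul] at h
      exact absurd ((eA.trans φ).symm.injective h) (by decide)
    have hn3 : 3 ≤ n := by
      have := Subgroup.card_subgroup_dvd_card A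
      rw [hA8, hn, Nat.pow_dvd_pow_iff_le_right one_lt_two] at this
      exact this
    exact MetaTwo.not_maxClass hn3 hn
      (Transfer.MaxClass.class_of_nonabelian_cube hn A hA8 hAna hcentA) hd hq hsd
  · have hAc : ∀ a b : A, a * b = b * a := fun a b =>
      (eA.trans φ).injective (by rw [map_mul, map_mul, mul_comm])
    have hpow : ∀ a : A, a ^ (2 ^ k) = 1 := fun a => (eA.trans φ).injective (by
      rw [map_pow, map_one]
      exact Prod.ext (Multiplicative.toAdd.injective (by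
          rw [Prod.pow_fst, toAdd_pow, nsmul_eq_mul, ZMod.natCast_self, zero_mul]; rfl))
        (Multiplicative.toAdd.injective (by
          rw [Prod.pow_snd, toAdd_pow, nsmul_eq_mul, ZMod.natCast_self, zero_mul]; rfl)))
    rcases Nat.lt_trichotomy k 1 with hk | rfl | hk
    · obtain rfl : k = 0 := by omega
      have hv1 : (⟨v, hv⟩ : V) = 1 := eA.symm.injective (by
        rw [map_one]; have := hpow (eA.symm ⟨v, hv⟩); rwa [pow_zero, pow_one] at this)
      have hv1' : v = 1 := congrArg Subtype.val hv1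
      rw [hv1', map_one, inv_one, one_mul] at hvW
      exact hvW W.one_mem
    · have hA4 : Nat.card A = 2 ^ 2 := by
        rw [Nat.card_congr (eA.trans φ).toEquiv]
        simp [Nat.card_prod]
      have hC : Subgroup.centralizer (A : Set P) = A := le_antisymm hcentA fun y hy =>
        Subgroup.mem_centralizer_iff.2 fun x hx =>
          congrArg Subtype.val (hAc ⟨x, hx⟩ ⟨y, hy⟩)
      have hn3 : 3 ≤ n := by
        have h1 := Subgroup.card_subgroup_dvd_card A
        rw [hA4, hn, Nat.pow_dvd_pow_iff_le_right one_lt_two] at h1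
        by_contra hh
        obtain rfl : n = 2 := by omega
        exact hAlt (Subgroup.eq_top_of_card_eq A (hA4.trans hn.symm))
      exact MetaTwo.not_maxClass hn3 hn
        (Transfer.MaxClass.class_of_selfCentralizing n hn A hA4 hC) hd hq hsd
    · -- homocyclic of larger exponent
      obtain ⟨N, hN, hNc, hQc⟩ := hm
      haveI := hN
      have hgA : ∀ a ∈ A, (⟨g, hgP⟩ : P) * a * (⟨g, hgP⟩ : P)⁻¹ ∈ A := fun a ha =>
        (hmemA _).2 ((Subgroup.mem_normalizer_iff.1 hgN (a : Ω)).1 ((hmemA a).1 ha))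
      have hcp := MetaTwo.comm_pow_eq_one (hS.to_le hPS) hNc hQc (V := A) (k := k) hk
        (fun a ha b hb => congrArg Subtype.val (hAc ⟨a, ha⟩ ⟨b, hb⟩))
        (fun a ha => congrArg Subtype.val (hpow ⟨a, ha⟩)) hgA ((hmemA _).2 hg2)
        (v := ⟨(v : Ω), (hmemV v).1 hv⟩) ((hmemA _).2 v.2)
      refine hvW ?_
      set c : V := ⟨v⁻¹ * σ v, V.mul_mem (V.inv_mem hv)
        ((hmemV _).2 (by rw [hσ]; exact hPn _ (hPS hgP) _ ((hmemV v).1 hv)))⟩ with hcdef
      have hVc : ∀ a b : V, a * b = b * a := fun a b =>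
        φ.injective (by rw [map_mul, map_mul, mul_comm])
      have hc2 : c ^ (2 ^ (k - 1)) = 1 := by
        have e : c = ⟨σ v, (hmemV _).2 (by rw [hσ]; exact hPn _ (hPS hgP) _ ((hmemV v).1 hv))⟩ *
            (⟨v, hv⟩ : V)⁻¹ := by
          rw [hVc]; rfl
        refine Subtype.ext (Subtype.ext ?_)
        rw [e]
        have h' := congrArg (fun t : P => (t : Ω)) hcp
        simp only [SubmonoidClass.coe_pow, OneMemClass.coe_one, Subgroup.coe_mul, Subgroup.coe_inv] at h' ⊢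
        rw [hσ]; exact h'
      obtain ⟨d1, hd1⟩ := exists_add_self k (Multiplicative.toAdd (φ c).1) (by
        rw [← toAdd_pow, ← Prod.pow_fst, ← map_pow, hc2, map_one]; rfl) (by omega)
      obtain ⟨d2, hd2⟩ := exists_add_self k (Multiplicative.toAdd (φ c).2) (by
        rw [← toAdd_pow, ← Prod.pow_snd, ← map_pow, hc2, map_one]; rfl) (by omega)
      have hcF : c ∈ frattini V := by
        have e : c = (φ.symm (Multiplicative.ofAdd d1, Multiplicative.ofAdd d2)) ^ 2 :=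
          φ.injective (by
            rw [map_pow, φ.apply_symm_apply, pow_two]
            exact Prod.ext (by rw [← ofAdd_toAdd (φ c).1, hd1]; rfl)
              (by rw [← ofAdd_toAdd (φ c).2, hd2]; rfl))
        rw [e]
        exact Grp.pGroup_pow_mem_frattini hVp _
      exact ⟨c, hcF, rfl⟩
where
  exists_add_self (n : ℕ) (c : ZMod (2 ^ n)) (hc : (2 ^ (n - 1)) • c = 0) (hn : 1 ≤ n) :
      ∃ d, c = d + d := by
    have hcast : (((2 ^ (n - 1)) * c.val : ℕ) : ZMod (2 ^ n)) = 0 := by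
      rw [Nat.cast_mul, ZMod.natCast_zmod_val, ← nsmul_eq_mul]; exact hc
    rw [ZMod.natCast_eq_zero_iff] at hcast
    have e2 : 2 ^ (n - 1) * 2 = 2 ^ n := by rw [← pow_succ, Nat.sub_add_cancel hn]
    obtain ⟨d, hd⟩ := Nat.dvd_of_mul_dvd_mul_left (pow_pos two_pos (n - 1))
      (show 2 ^ (n - 1) * 2 ∣ 2 ^ (n - 1) * c.val from e2.symm ▸ hcast)
    exact ⟨(d : ZMod (2 ^ n)), by rw [← ZMod.natCast_zmod_val c, hd, two_mul, Nat.cast_add]⟩

/-- For `p = 2` a strongly closed metacyclic subgroup that is not dihedral, semidihedral or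
quaternion is normal. -/
theorem isNormal_metacyclic_two [Fact (Nat.Prime 2)] (hS : IsPGroup 2 S) (hF : F.IsSaturated 2)
    {P : Subgroup Ω} (hP : F.StronglyClosed P) (hm : IsMetacyclic ↥P)
    (hd : ¬ ∃ m : ℕ, Nonempty (↥P ≃* DihedralGroup m))
    (hq : ¬ ∃ m : ℕ, Nonempty (↥P ≃* QuaternionGroup m)) (hsd : ¬ IsQuasiDihedral ↥P) :
    F.IsNormal P :=
  isNormal_of_essential hS hF hP.1
    (fun _ hα _ hx => StronglyClosed.apply_mem hP (((mem_autGroup le_rfl).1 hα).res hP.1) le_rfl hx)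
    fun E hE =>
      have hle := MetaTwo.le_essential hS hP hm hd hq hsd hE
      ⟨hle, fun _ hα _ hx =>
        StronglyClosed.apply_mem hP (((mem_autGroup hE.1.1).1 hα).res hle) le_rfl hx⟩

/-- A metacyclic `2`-group that is not homocyclic, dihedral, semidihedral or quaternion supports only
the inner fusion system. -/
theorem hom_eq_inner_of_metacyclic [Fact (Nat.Prime 2)] (hS : IsPGroup 2 S) (hF : F.IsSaturated 2)
    (hm : IsMetacyclic ↥S)
    (hh : ¬ ∃ n k : ℕ, Nonempty (↥S ≃* Multiplicative (Fin k → ZMod (2 ^ n))))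
    (hd : ¬ ∃ m : ℕ, Nonempty (↥S ≃* DihedralGroup m))
    (hq : ¬ ∃ m : ℕ, Nonempty (↥S ≃* QuaternionGroup m)) (hsd : ¬ IsQuasiDihedral ↥S)
    (P : Subgroup Ω) : F.Hom P = (innerFusionSystem S).Hom P := by
  have hA : IsPGroup 2 (MulAut S) := by
    by_contra hA
    rcases MetaTwo.classify_of_not_isPGroup hS hm hA with h | ⟨n, ⟨φ⟩⟩
    · exact hq ⟨2, h⟩
    · let ψ : Multiplicative (ZMod (2 ^ n)) × Multiplicative (ZMod (2 ^ n)) ≃*
          Multiplicative (Fin 2 → ZMod (2 ^ n)) :=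
        { toFun := fun t => Multiplicative.ofAdd ![Multiplicative.toAdd t.1, Multiplicative.toAdd t.2]
          invFun := fun t => (Multiplicative.ofAdd (Multiplicative.toAdd t 0),
            Multiplicative.ofAdd (Multiplicative.toAdd t 1))
          left_inv := fun t => rfl
          right_inv := fun t => Multiplicative.toAdd.injective (funext fun i => by fin_cases i <;> rfl)
          map_mul' := fun a b => Multiplicative.toAdd.injective
            (funext fun i => by fin_cases i <;> rfl) }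
      exact hh ⟨n, 2, ⟨φ.trans ψ⟩⟩
  have hnorm : F.IsNormal S := isNormal_metacyclic_two hS hF
    ⟨le_rfl, fun R hR φ hφ x => (F.le_of_mem hφ).2 x⟩ hm hd hq hsd
  -- every automorphism of `S` in the system is inner
  have hinner : ∀ α ∈ F.autGroup S, ∃ s ∈ S, ∀ x : S, ((α x : S) : Ω) = s * x * s⁻¹ := by
    obtain ⟨Q, hSQ, ⟨-, R, hR⟩, -⟩ := hF S le_rfl
    haveI := finite_of_le (isConj_le_right hSQ)
    obtain rfl : Q = S := Subgroup.eq_of_le_of_card_ge (isConj_le_right hSQ) (isConj_card hSQ).ge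
    have htop : (⊤ : Subgroup (F.autGroup Q)) ≤ R :=
      (R.3 ((hA.to_subgroup _).to_subgroup ⊤) le_top).le
    intro α hα
    have h := htop (Subgroup.mem_top ⟨α, hα⟩)
    rw [hR, Subgroup.mem_subgroupOf, mem_autInducedBy] at h
    exact h
  refine Set.Subset.antisymm (fun φ hφ => ?_) ?_
  · obtain ⟨g, hg, hg1, hg2⟩ := (isNormal_iff.1 hnorm).2 P _ (isMap_toFun hφ)
    have hPS := (F.le_of_mem hφ).1
    rw [sup_eq_right.2 hPS] at hg
    obtain ⟨α, hα, e⟩ := hg.exists_aut hg2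
    obtain ⟨s, hs, hse⟩ := hinner α hα
    refine ⟨hPS, s, hs, fun x => ?_⟩
    rw [← toFun_coe φ x, ← hg1 x x.2, ← e x (hPS x.2)]
    exact (autFun_coe α ⟨x, hPS x.2⟩).trans (hse _)
  · rintro φ ⟨hPS, s, hs, e⟩
    have : φ = conjHom P s := MonoidHom.ext fun x => e x
    rw [this]
    exact F.conj_mem hPS hs

end Main

end Cfsg.Agent.Fus
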