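import Mathlib
import Cfsg.Agent.Lib.Fus.Supersoluble
import Cfsg.Agent.Lib.Fus.AbelianSystem

/-!
An abelian `p`-group is of supersoluble type iff it has no direct factor `C_{p^n} × C_{p^n}`.
-/

set_option autoImplicit false
set_option linter.unusedSectionVars false
set_option linter.style.haveILetI false

open scoped Classical

universe u

namespace Cfsg.Agent.Fus.SuperAb

open Subgroup

variable {p : ℕ} [hp : Fact p.Prime]

section Chain

variable {Q : Type u} [CommGroup Q] [Finite Q]

/-- `Ω₁ ∩ ℧_n`. -/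
def W (p : ℕ) (Q : Type u) [CommGroup Q] (n : ℕ) : Subgroup Q :=
  (powMonoidHom p : Q →* Q).ker ⊓ (powMonoidHom (p ^ n) : Q →* Q).range

/-- A chain of invariant subgroups with factors of order at most `p`. -/
def Fine (p : ℕ) (T : Subgroup Q) : Prop :=
  ∃ (n : ℕ) (Ws : ℕ → Subgroup Q), Ws 0 = ⊥ ∧ Ws n = T ∧
    (∀ i ≤ n, ∀ g : MulAut Q, ∀ x ∈ Ws i, g x ∈ Ws i) ∧
    ∀ i < n, Ws i ≤ Ws (i + 1) ∧ Nat.card (Ws (i + 1)) ≤ p * Nat.card (Ws i)

theorem Fine.step {T U : Subgroup Q} (h : Fine p T) (hTU : T ≤ U)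
    (hU : ∀ g : MulAut Q, ∀ x ∈ U, g x ∈ U) (hc : Nat.card U ≤ p * Nat.card T) : Fine p U := by
  obtain ⟨n, Ws, h0, hn, hinv, hstep⟩ := h
  refine ⟨n + 1, fun i => if i ≤ n then Ws i else U, by simp [h0], by simp, fun i hi => ?_,
    fun i hi => ?_⟩
  · by_cases h1 : i ≤ n
    · simp only [h1, if_true]; exact hinv i h1
    · simp only [h1, if_false]; exact hU
  · rcases Nat.lt_or_ge i n with hin | hin
    · have e1 : i ≤ n := hin.le
      have e2 : i + 1 ≤ n := hin
      simp only [e1, e2, if_true]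
      exact hstep i hin
    · obtain rfl : i = n := by omega
      simp only [le_refl, if_true, show ¬ i + 1 ≤ i by omega, if_false, hn]
      exact ⟨hTU, hc⟩

theorem fine_top (hQ : IsPGroup p Q) (hb : ∀ n, Nat.card (W p Q n) ≤ p * Nat.card (W p Q (n + 1))) :
    Fine p (⊤ : Subgroup Q) := by
  obtain ⟨K, hK⟩ := hQ.exists_card_eq
  have hexp : ∀ x : Q, x ^ p ^ K = 1 := fun x => by rw [← hK, pow_card_eq_one']
  let Om : ℕ → Subgroup Q := fun m => (powMonoidHom (p ^ m) : Q →* Q).ker
  have hOm : ∀ m, ∀ g : MulAut Q, ∀ x ∈ Om m, g x ∈ Om m := fun m g x hx => by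
    show g x ^ p ^ m = 1
    rw [← map_pow, show x ^ p ^ m = 1 from hx, map_one]
  have hOmle : ∀ m, Om m ≤ Om (m + 1) := fun m x hx => by
    show x ^ p ^ (m + 1) = 1
    rw [pow_succ, pow_mul, show x ^ p ^ m = 1 from hx, one_pow]
  suffices ∀ m, Fine p (Om m) by
    have h := this K
    rwa [show Om K = ⊤ from eq_top_iff.2 fun x _ => hexp x] at h
  intro m
  induction m with
  | zero =>
    refine ⟨0, fun _ => Om 0, ?_, rfl, fun i _ => hOm 0, fun i hi => absurd hi (by omega)⟩
    exact eq_bot_iff.2 fun x hx => by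
      have : x ^ p ^ 0 = 1 := hx
      simpa using this
  | succ m ih =>
    by_cases hmK : K ≤ m
    · rwa [show Om (m + 1) = Om m from le_antisymm (fun x _ => by
        show x ^ p ^ m = 1
        rw [show m = K + (m - K) by omega, pow_add, pow_mul, hexp, one_pow]) (hOmle m)]
    push Not at hmK
    let Y : ℕ → Subgroup Q := fun n => Om (m + 1) ⊓ (W p Q n).comap (powMonoidHom (p ^ m))
    have hY : ∀ n, ∀ g : MulAut Q, ∀ x ∈ Y n, g x ∈ Y n := by
      rintro n g x ⟨h1, h2, y, hy⟩
      refine ⟨hOm _ g x h1, ?_, g y, ?_⟩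
      · show (g x ^ p ^ m) ^ p = 1
        rw [← map_pow, ← map_pow, show (x ^ p ^ m) ^ p = 1 from h2, map_one]
      · show g y ^ p ^ n = g x ^ p ^ m
        rw [← map_pow, ← map_pow, show y ^ p ^ n = x ^ p ^ m from hy]
    have key : ∀ j, j ≤ K - m → Fine p (Y (K - j)) := by
      intro j
      induction j with
      | zero =>
        intro _
        rwa [Nat.sub_zero, show Y K = Om m from le_antisymm (by
          rintro x ⟨-, -, y, hy⟩
          show x ^ p ^ m = 1
          rw [← show y ^ p ^ K = x ^ p ^ m from hy, hexp]) fun x hx => by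
            refine ⟨hOmle m hx, ?_, 1, ?_⟩
            · show (x ^ p ^ m) ^ p = 1
              rw [show x ^ p ^ m = 1 from hx, one_pow]
            · show (1 : Q) ^ p ^ K = x ^ p ^ m
              rw [show x ^ p ^ m = 1 from hx, one_pow]]
      | succ j ihj =>
        intro hj
        obtain ⟨n, hn⟩ : ∃ n, n = K - (j + 1) := ⟨_, rfl⟩
        have hn1 : K - j = n + 1 := by omega
        rw [← hn]
        have hle : Y (n + 1) ≤ Y n := by
          rintro x ⟨h1, h2, y, hy⟩
          refine ⟨h1, h2, y ^ p, ?_⟩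
          show (y ^ p) ^ p ^ n = x ^ p ^ m
          rw [← pow_mul, ← pow_succ']
          exact hy
        refine (hn1 ▸ ihj (by omega)).step hle (hY n) ?_
        let f : Y n →* Q := (powMonoidHom (p ^ m)).comp (Y n).subtype
        have hWle : W p Q (n + 1) ≤ W p Q n := by
          rintro x ⟨h1, y, hy⟩
          exact ⟨h1, y ^ p, by
            show (y ^ p) ^ p ^ n = x
            rw [← pow_mul, ← pow_succ']
            exact hy⟩
        have hc : (Y (n + 1)).subgroupOf (Y n) = (W p Q (n + 1)).comap f := by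
          ext x
          exact ⟨fun h => (Subgroup.mem_subgroupOf.1 h).2, fun h => ⟨x.2.1, h⟩⟩
        have hrel : (Y (n + 1)).relIndex (Y n) ≤ p := by
          rw [Subgroup.relIndex, hc, Subgroup.index_comap]
          haveI : (W p Q (n + 1)).IsFiniteRelIndex (W p Q n) := ⟨Subgroup.index_ne_zero_of_finite⟩
          have hdvd : (W p Q (n + 1)).relIndex f.range ≤ (W p Q (n + 1)).relIndex (W p Q n) :=
            Subgroup.relIndex_le_of_le_right (by rintro _ ⟨x, rfl⟩; exact x.2.2)
              (Subgroup.relIndex_ne_zero (H := W p Q (n + 1)) (K := W p Q n))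
          refine hdvd.trans (Nat.le_of_mul_le_mul_left ?_ (Nat.card_pos (α := W p Q (n + 1))))
          rw [Grp.card_mul_relIndex hWle, mul_comm]
          exact hb n
        rw [← Grp.card_mul_relIndex hle, mul_comm p]
        exact Nat.mul_le_mul_left _ hrel
    have h := key (K - m) le_rfl
    rwa [show K - (K - m) = m by omega, show Y m = Om (m + 1) from le_antisymm inf_le_left
      fun x hx => ⟨hx, by
        show (x ^ p ^ m) ^ p = 1
        rw [← pow_mul, ← pow_succ]
        exact hx, x, rfl⟩] at h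

end Chain

/-- In a group without a repeated invariant the successive quotients of `Ω₁ ∩ ℧_n` have order at
most `p`. -/
theorem card_W_le {Q : Type u} [CommGroup Q] [Finite Q] (hQ : IsPGroup p Q)
    (hno : ¬ ∃ (n : ℕ) (H : Type) (_ : CommGroup H), 0 < n ∧
      Nonempty (Q ≃* (Multiplicative (ZMod (p ^ n)) × Multiplicative (ZMod (p ^ n))) × H))
    (n : ℕ) : Nat.card (W p Q n) ≤ p * Nat.card (W p Q (n + 1)) := by
  obtain ⟨ι, _, q, hq, ⟨e⟩⟩ := CommGroup.equiv_prod_multiplicative_zmod_of_finite Q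
  obtain ⟨K, hK⟩ := hQ.exists_card_eq
  haveI : ∀ k, NeZero (q k) := fun k => ⟨by have := hq k; omega⟩
  have hpow : ∀ k, ∃ a, q k = p ^ a := fun k => by
    have h : q k ∣ p ^ K := by
      rw [← hK, Nat.card_congr e.toEquiv, Nat.card_pi]
      refine dvd_trans ?_ (Finset.dvd_prod_of_mem _ (Finset.mem_univ k))
      simp
    obtain ⟨a, -, ha⟩ := (Nat.dvd_prime_pow hp.out).1 h
    exact ⟨a, ha⟩
  have huniq : ∀ i j, q i = q j → i = j := by
    intro i j hij
    by_contra hne
    obtain ⟨a, ha⟩ := hpow i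
    refine hno ⟨a, ∀ k : {k // k ≠ i ∧ k ≠ j}, Multiplicative (ZMod (q k)), inferInstance, ?_, ⟨?_⟩⟩
    · refine Nat.pos_of_ne_zero fun h => ?_
      have := hq i
      rw [ha, h, pow_zero] at this
      omega
    refine e.trans ?_
    let Φ : (∀ k, Multiplicative (ZMod (q k))) →*
        (Multiplicative (ZMod (q i)) × Multiplicative (ZMod (q j))) ×
          (∀ k : {k // k ≠ i ∧ k ≠ j}, Multiplicative (ZMod (q k))) :=
      { toFun := fun x => ((x i, x j), fun k => x k)
        map_one' := rfl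
        map_mul' := fun x y => rfl }
    have hbij : Function.Bijective Φ := by
      refine ⟨fun x y h => funext fun k => ?_, fun z => ⟨fun k =>
        if hi : k = i then hi ▸ z.1.1 else if hj : k = j then hj ▸ z.1.2 else z.2 ⟨k, hi, hj⟩, ?_⟩⟩
      · by_cases hi : k = i
        · subst hi; exact congrArg (fun t => t.1.1) h
        by_cases hj : k = j
        · subst hj; exact congrArg (fun t => t.1.2) h
        exact congrArg (fun t => t.2 ⟨k, hi, hj⟩) h
      · refine Prod.ext (Prod.ext ?_ ?_) (funext fun k => ?_)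
        · simp [Φ]
        · simp [Φ, Ne.symm hne]
        · simp [Φ, k.2.1, k.2.2]
    have h2 := (MulEquiv.ofBijective Φ hbij)
    rw [← hij, ha] at h2
    exact h2
  -- elements killed by the coordinate
  have hker : ∀ x ∈ W p Q n, (∀ k, q k = p ^ (n + 1) → e x k = 1) → x ∈ W p Q (n + 1) := by
    rintro x ⟨hx, y, hy⟩ hcoord
    have hy : y ^ p ^ n = x := hy
    have hx : x ^ p = 1 := hx
    have hex : ∀ k, ∃ z : Multiplicative (ZMod (q k)), z ^ p ^ (n + 1) = e x k := by
      intro k
      obtain ⟨a, ha⟩ := hpow k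
      have hxk : e x k = e y k ^ p ^ n := by rw [← hy, map_pow, Pi.pow_apply]
      by_cases hk : a = n + 1
      · exact ⟨1, by rw [one_pow, hcoord k (hk ▸ ha)]⟩
      rcases Nat.lt_or_ge a (n + 1) with han | han
      · refine ⟨1, ?_⟩
        rw [one_pow, hxk, ← orderOf_dvd_iff_pow_eq_one.1]
        refine (_root_.orderOf_dvd_natCard _).trans ?_
        rw [show Nat.card (Multiplicative (ZMod (q k))) = q k by simp, ha]
        exact Nat.pow_dvd_pow p (by omega)
      · have h1 : (e y k) ^ p ^ (n + 1) = 1 := by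
          rw [pow_succ, pow_mul, ← hxk, ← Pi.pow_apply, ← map_pow, hx, map_one, Pi.one_apply]
        set t : ZMod (q k) := Multiplicative.toAdd (e y k) with ht
        have h2 : ((p ^ (n + 1) * t.val : ℕ) : ZMod (q k)) = 0 := by
          rw [Nat.cast_mul, ZMod.natCast_zmod_val, ← nsmul_eq_mul]
          exact congrArg Multiplicative.toAdd h1
        rw [ZMod.natCast_eq_zero_iff] at h2
        obtain ⟨tv, htv⟩ : ∃ v, v = t.val := ⟨_, rfl⟩
        rw [← htv] at h2
        have h2' : p ^ (n + 1) * p ^ (a - (n + 1)) ∣ p ^ (n + 1) * tv := by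
          rw [← pow_add, Nat.add_sub_cancel' han, ← ha]
          exact h2
        have h3 := (Nat.mul_dvd_mul_iff_left (pow_pos hp.out.pos _)).1 h2'
        obtain ⟨c, hc⟩ : p ∣ t.val := htv ▸ (dvd_pow_self p (by omega)).trans h3
        refine ⟨Multiplicative.ofAdd (c : ZMod (q k)), ?_⟩
        rw [hxk, show e y k = Multiplicative.ofAdd (c : ZMod (q k)) ^ p from ?_, ← pow_mul, ← pow_succ']
        refine Multiplicative.toAdd.injective ?_
        rw [← ht, toAdd_pow, toAdd_ofAdd, nsmul_eq_mul, ← Nat.cast_mul, ← hc, ZMod.natCast_zmod_val]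
    choose z hz using hex
    exact ⟨hx, e.symm z, e.injective (by
      show e (e.symm z ^ p ^ (n + 1)) = e x
      rw [map_pow, MulEquiv.apply_symm_apply]
      exact funext hz)⟩
  by_cases hi : ∃ i, q i = p ^ (n + 1)
  · obtain ⟨i, hi⟩ := hi
    let f : W p Q n →* Multiplicative (ZMod (q i)) :=
      ((Pi.evalMonoidHom (fun k => Multiplicative (ZMod (q k))) i).comp e.toMonoidHom).comp
        (W p Q n).subtype
    have hkerle : f.ker.map (W p Q n).subtype ≤ W p Q (n + 1) := by
      rintro _ ⟨x, hx, rfl⟩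
      exact hker x x.2 fun k hk => by
        rw [huniq k i (hk.trans hi.symm)]
        exact hx
    have hrange : Nat.card f.range ≤ p := by
      haveI : Fintype (Multiplicative (ZMod (q i))) := Fintype.ofFinite _
      refine le_trans ?_ (IsCyclic.card_pow_eq_one_le (α := Multiplicative (ZMod (q i))) hp.out.pos)
      rw [Nat.card_eq_fintype_card, ← Fintype.card_coe]
      refine Fintype.card_le_of_injective
        (fun y => ⟨(y : Multiplicative (ZMod (q i))), ?_⟩) fun a b h => Subtype.ext (congrArg (fun t : {t // _} => (t : Multiplicative (ZMod (q i)))) h)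
      obtain ⟨x, hx⟩ := y.2
      rw [Finset.mem_filter]
      refine ⟨Finset.mem_univ _, ?_⟩
      rw [← hx, ← map_pow, show x ^ p = 1 from Subtype.ext x.2.1, map_one]
    rw [← f.ker.card_mul_index, Subgroup.index_ker, mul_comm p]
    refine Nat.mul_le_mul ?_ hrange
    rw [← Subgroup.card_map_of_injective (W p Q n).subtype_injective]
    exact Subgroup.card_le_of_le hkerle
  · push Not at hi
    refine (Subgroup.card_le_of_le (fun x hx => hker x hx fun k hk => absurd hk (hi k))).trans ?_
    exact Nat.le_mul_of_pos_left _ hp.out.pos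

variable {Ω : Type u} [Group Ω] {S : Subgroup Ω} [Finite S]

/-- Automorphisms of `M × M` violating the condition. -/
theorem exists_bad {M : Type*} [CommGroup M] [Finite M] (g : M) (hg2 : orderOf g = p ∨ p = 2)
    (hg : g ≠ 1) : ∃ H : Subgroup (MulAut (M × M)), (Nat.card H).Coprime p ∧
      ¬ (IsMulCommutative H ∧ ∀ h ∈ H, h ^ (p - 1) = 1) := by
  by_cases h2 : p = 2
  · subst h2
    let ω : MulAut (M × M) :=
      { toFun := fun x => (x.2, x.1⁻¹ * x.2⁻¹)
        invFun := fun x => (x.2⁻¹ * x.1⁻¹, x.1)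
        left_inv := fun x => by simp [mul_comm]
        right_inv := fun x => by simp [mul_comm]
        map_mul' := fun x y => by simp [mul_comm, mul_left_comm, mul_assoc] }
    have h3 : ω ^ 3 = 1 := MulEquiv.ext fun x => by
      show ω (ω (ω x)) = x
      simp [ω, mul_comm]
    have hne : ω ≠ 1 := fun e => by
      have := congrArg (fun a : MulAut (M × M) => (a (1, g)).1) e
      exact hg (by simpa [ω] using this)
    haveI : Fact (Nat.Prime 3) := ⟨Nat.prime_three⟩
    refine ⟨zpowers ω, ?_, fun h => hne ?_⟩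
    · rw [Nat.card_zpowers, orderOf_eq_prime h3 hne]
      decide
    · simpa using h.2 ω (mem_zpowers ω)
  · have hgp : orderOf g = p := hg2.resolve_right h2
    let τ : MulAut (M × M) :=
      { toFun := fun x => (x.1⁻¹, x.2)
        invFun := fun x => (x.1⁻¹, x.2)
        left_inv := fun x => by simp
        right_inv := fun x => by simp
        map_mul' := fun x y => by simp [mul_comm] }
    let ρ : MulAut (M × M) :=
      { toFun := fun x => (x.2⁻¹, x.1)
        invFun := fun x => (x.2, x.1⁻¹)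
        left_inv := fun x => by simp
        right_inv := fun x => by simp
        map_mul' := fun x y => by simp [mul_comm] }
    haveI : Fact (Nat.Prime 2) := ⟨Nat.prime_two⟩
    have hτ : τ ^ 2 ^ 1 = 1 := MulEquiv.ext fun x => by
      show τ (τ x) = x
      simp [τ]
    have hρ : ρ ^ 2 ^ 2 = 1 := MulEquiv.ext fun x => by
      show ρ (ρ (ρ (ρ x))) = x
      simp [ρ]
    have hconj : τ * ρ * τ⁻¹ = ρ⁻¹ := MulEquiv.ext fun x => by
      show τ (ρ (τ.symm x)) = ρ.symm x
      simp [τ, ρ]
    have hzp : ∀ (a : MulAut (M × M)) (k : ℕ), a ^ 2 ^ k = 1 → IsPGroup 2 (zpowers a) :=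
      fun a k ha => by
        obtain ⟨j, -, hj⟩ := (Nat.dvd_prime_pow Nat.prime_two).1 (orderOf_dvd_of_pow_eq_one ha)
        exact IsPGroup.of_card (n := j) (by rw [Nat.card_zpowers, hj])
    have hN : τ ∈ Subgroup.normalizer (zpowers ρ : Set (MulAut (M × M))) := by
      refine mem_normalizer_of_forall (fun x hx => ?_) fun x hx => ?_
      · obtain ⟨i, rfl⟩ := hx
        rw [← conj_zpow, hconj]
        exact zpow_mem (inv_mem (mem_zpowers ρ)) i
      · obtain ⟨i, rfl⟩ := hx
        have hτi : τ⁻¹ = τ := inv_eq_of_mul_eq_one_left (by rw [← sq]; simpa using hτ)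
        show τ⁻¹ * ρ ^ i * τ ∈ zpowers ρ
        rw [show τ⁻¹ * ρ ^ i * τ = τ * ρ ^ i * τ⁻¹ by rw [hτi], ← conj_zpow, hconj]
        exact zpow_mem (inv_mem (mem_zpowers ρ)) i
    obtain ⟨j, hj⟩ := IsPGroup.iff_card.1 (IsPGroup.to_sup_of_normal_right' (hzp τ 1 hτ) (hzp ρ 2 hρ)
      (zpowers_le.2 hN))
    refine ⟨zpowers τ ⊔ zpowers ρ, ?_, fun h => ?_⟩
    · rw [hj]
      exact Nat.Coprime.pow_left j ((Nat.coprime_primes Nat.prime_two hp.out).2 (Ne.symm h2))
    · have hc := congrArg Subtype.val (h.1.is_comm.comm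
        (⟨τ, mem_sup_left (mem_zpowers τ)⟩ : ↥(zpowers τ ⊔ zpowers ρ))
        ⟨ρ, mem_sup_right (mem_zpowers ρ)⟩)
      have := congrArg (fun a : MulAut (M × M) => (a (g, 1)).2) hc
      have hgg : g = g⁻¹ := by simpa [τ, ρ] using this
      have : g ^ 2 = 1 := by rw [sq]; exact mul_eq_one_iff_eq_inv.2 hgg
      have := Nat.le_of_dvd two_pos (hgp ▸ orderOf_dvd_of_pow_eq_one this)
      have := hp.out.two_le
      omega

/-- A direct factor `C_{p^n} × C_{p^n}` gives a system without chain. -/
theorem not_supersoluble_of_homocyclic (hS : IsPGroup p S) {n : ℕ} (hn : 0 < n) {H : Type*}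
    [Group H] (e : ↥S ≃* (Multiplicative (ZMod (p ^ n)) × Multiplicative (ZMod (p ^ n))) × H)
    (h : ∀ F : FusionSystem S, F.IsSaturated p → HasCyclicChain F) : False := by
  obtain ⟨-, hA⟩ := (supersoluble_iff hS).1 h
  set M := Multiplicative (ZMod (p ^ n))
  haveI : NeZero (p ^ n) := ⟨(pow_pos hp.out.pos n).ne'⟩
  obtain ⟨g, hg⟩ := exists_prime_orderOf_dvd_card' (G := M) p (by
    simp [M, dvd_pow_self p hn.ne'])
  obtain ⟨K, hK, hbad⟩ := exists_bad (p := p) g (Or.inl hg) (fun e => hp.out.ne_one (by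
    rw [← hg, e, orderOf_one]))
  let ext : MulAut (M × M) →* MulAut S :=
    (MulAut.congr e.symm).toMonoidHom.comp
      { toFun := fun a => MulEquiv.prodCongr a (MulEquiv.refl H)
        map_one' := MulEquiv.ext fun x => rfl
        map_mul' := fun a b => MulEquiv.ext fun x => rfl }
  have hinj : Function.Injective ext := by
    intro a b hab
    refine MulEquiv.ext fun x => ?_
    have := congrArg (fun t : MulAut S => (e (t (e.symm (x, 1)))).1) hab
    simp [ext, MulAut.congr] at this
    exact this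
  obtain ⟨hc, he⟩ := hA (K.map ext) (by rwa [Subgroup.card_map_of_injective hinj])
  refine hbad ⟨⟨⟨fun a b => Subtype.ext (hinj ?_)⟩⟩, fun a ha => hinj ?_⟩
  · have := congrArg Subtype.val (hc.is_comm.comm
      (⟨ext a, Subgroup.mem_map_of_mem _ a.2⟩ : K.map ext) ⟨ext b, Subgroup.mem_map_of_mem _ b.2⟩)
    simpa using this
  · rw [map_pow, map_one]
    exact he _ (Subgroup.mem_map_of_mem _ ha)

theorem supersoluble_abelian_iff (hS : IsPGroup p S) (hab : IsMulCommutative S) :
    (∀ F : FusionSystem S, F.IsSaturated p → HasCyclicChain F) ↔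
      ¬ ∃ (n : ℕ) (H : Type) (_ : CommGroup H), 0 < n ∧
        Nonempty (↥S ≃* (Multiplicative (ZMod (p ^ n)) × Multiplicative (ZMod (p ^ n))) × H) := by
  constructor
  · rintro h ⟨n, H, _, hn, ⟨e⟩⟩
    exact not_supersoluble_of_homocyclic hS hn e h
  · intro hno
    letI : CommGroup S := { (inferInstance : Group S) with mul_comm := fun a b => hab.is_comm.comm a b }
    refine (supersoluble_iff hS).2 ⟨fun F hF => isNormal_top_of_comm hS hF
      (fun x hx y hy => congrArg Subtype.val (mul_comm (⟨x, hx⟩ : S) ⟨y, hy⟩)), fun H hH => ?_⟩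
    obtain ⟨n, Ws, h0, hn, hinv, hstep⟩ := fine_top hS (card_W_le hS hno)
    refine FineChain.abelian_exp_of_chain hS Ws hn (fun i hi => (hstep i hi).1)
      (fun i _ => ⟨fun x hx g => by rwa [mul_comm g x, mul_inv_cancel_right]⟩)
      (fun i hi => (hstep i hi).2) H hH (fun g _ i hi x hx => hinv i hi g x hx) fun β _ hb => ?_
    refine MulEquiv.ext fun x => ?_
    have h1 := hb x
    rw [h0, Subgroup.mem_bot] at h1
    exact (inv_mul_eq_one.1 h1).symm

end Cfsg.Agent.Fus.SuperAb
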