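import Mathlib
import Cfsg.Agent.Lib.Fus.SupersolubleAbelian
import Cfsg.Agent.Lib.Fus.NonSupersolubleTwo
import Cfsg.Agent.Lib.Fus.EssentialRankTwo
import Cfsg.Agent.Lib.Fus.MetacyclicTwoNormal
import Cfsg.Agent.Lib.Fus.Metacyclic
import Cfsg.Agent.Lib.Transfer.PGroups
import Cfsg.Agent.Lib.Grp.PGroupSmall

/-!
Metacyclic `p`-groups of supersoluble type.
-/

set_option autoImplicit false
set_option linter.unusedSectionVars false
set_option linter.style.haveILetI false

open scoped Classical commutatorElement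

universe u

namespace Cfsg.Agent.Fus.SuperMeta

open Subgroup

variable {p : ℕ} [hp : Fact p.Prime] {X : Type u} [Group X] [Finite X]

/-- An automorphism of order prime to `p` trivial modulo the Frattini subgroup is trivial. -/
theorem eq_one_of_coprime_frattini (hX : IsPGroup p X) {β : MulAut X} {m : ℕ} (hm : m.Coprime p)
    (hβ : β ^ m = 1) (h : ∀ x, x⁻¹ * β x ∈ frattini X) : β = 1 := by
  induction m using Nat.strong_induction_on generalizing β with
  | _ m ih =>
  rcases eq_or_ne m 1 with rfl | hm1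
  · simpa using hβ
  obtain ⟨q, hq, d, rfl⟩ := Nat.exists_prime_and_dvd hm1
  have hqc : q.Coprime p := Nat.Coprime.coprime_dvd_left (dvd_mul_right q d) hm
  have hqp : q ≠ p := fun e => hp.out.ne_one (by rw [e, Nat.coprime_self] at hqc; exact hqc)
  have hd0 : 0 < d := Nat.pos_of_ne_zero fun e => by
    rw [e, mul_zero, Nat.coprime_zero_left] at hm
    exact hp.out.ne_one hm
  refine ih d (lt_mul_of_one_lt_left hd0 hq.one_lt) (Nat.Coprime.coprime_dvd_left (dvd_mul_left d q) hm)
    ?_ h
  refine fixed_of_frattini hX (β ^ d) hq hqp (by rw [← pow_mul, mul_comm, hβ]) ?_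
  clear hd0 ih hβ hm hm1
  induction d with
  | zero => intro x; simp
  | succ d ihd =>
    intro x
    have e : x⁻¹ * (β ^ (d + 1)) x = x⁻¹ * β x * ((β x)⁻¹ * (β ^ d) (β x)) := by
      rw [pow_succ, MulAut.mul_apply]; group
    rw [e]
    exact mul_mem (h x) (ihd _)

/-- An invariant subgroup of index `p` over the Frattini subgroup restricts the automorphisms of
order prime to `p`. -/
theorem abelian_exp_of_line (hX : IsPGroup p X) (hidx : (frattini X).index ≤ p ^ 2) {L : Subgroup X}
    (hL : L.index = p ∨ (L = ⊤ ∧ (frattini X).index ≤ p)) (hle : frattini X ≤ L)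
    (hinv : ∀ g : MulAut X, ∀ x ∈ L, g x ∈ L) (H : Subgroup (MulAut X))
    (hH : (Nat.card H).Coprime p) : IsMulCommutative H ∧ ∀ h ∈ H, h ^ (p - 1) = 1 := by
  have hcomm := Grp.pGroup_commutator_le_frattini hX
  have hnormal : ∀ U : Subgroup X, frattini X ≤ U → U.Normal := fun U hU => ⟨fun c hc g => by
    have h1 : g * c * g⁻¹ * c⁻¹ ∈ U := hU (hcomm
      (Subgroup.commutator_mem_commutator (Subgroup.mem_top g) (Subgroup.mem_top c)))
    simpa using U.mul_mem h1 hc⟩
  refine FineChain.abelian_exp_of_chain hX (n := 2)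
    (fun i => if i = 0 then frattini X else if i = 1 then L else ⊤) rfl (fun i hi => ?_)
    (fun i hi => ?_) (fun i hi => ?_) H hH (fun g _ i hi x hx => ?_) (fun β hβ hb => ?_)
  · interval_cases i
    · simpa using hle
    · simp
  · interval_cases i
    · exact hnormal _ le_rfl
    · exact hnormal _ hle
    · exact hnormal _ le_top
  · have h0 := (frattini X).index_mul_card
    have h1 := L.index_mul_card
    interval_cases i
    · simp only [if_true, if_false, one_ne_zero, Nat.reduceAdd]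
      rcases hL with hL | ⟨rfl, hb⟩
      · rw [hL] at h1
        refine Nat.le_of_mul_le_mul_left ?_ hp.out.pos
        rw [← mul_assoc, ← sq, h1, ← h0]
        exact Nat.mul_le_mul_right _ hidx
      · rw [Subgroup.card_top, ← h0]
        exact Nat.mul_le_mul_right _ hb
    · simp only [if_true, if_false, one_ne_zero, Nat.reduceAdd, OfNat.ofNat_ne_zero,
        show (2 : ℕ) ≠ 1 by omega, Subgroup.card_top]
      rcases hL with hL | ⟨rfl, -⟩
      · rw [← h1, hL]
      · rw [Subgroup.card_top]; exact Nat.le_mul_of_pos_left _ hp.out.pos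
  · interval_cases i
    · simp only [if_true] at hx ⊢
      exact ((inferInstance : (frattini X).Characteristic).fixed g).ge hx
    · simp only [one_ne_zero, if_false, if_true] at hx ⊢
      exact hinv g x hx
    · trivial
  · exact eq_one_of_coprime_frattini hX hH
      (congrArg Subtype.val (pow_card_eq_one' (x := (⟨β, hβ⟩ : H)))) hb

theorem frattini_index_le (hX : IsPGroup p X) (hm : IsMetacyclic X) :
    (frattini X).index ≤ p ^ 2 := by
  obtain ⟨n, x, hn, hdec⟩ := MetaTwo.exists_gens hm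
  have hnorm : (frattini X).Normal := inferInstance
  set π := QuotientGroup.mk' (frattini X)
  have hord : ∀ y : X, Nat.card (zpowers (π y)) ≤ p := fun y => by
    rw [Nat.card_zpowers]
    refine Nat.le_of_dvd hp.out.pos (orderOf_dvd_of_pow_eq_one ?_)
    rw [← map_pow]
    exact (QuotientGroup.eq_one_iff _).2 (Grp.pGroup_pow_mem_frattini hX y)
  have hsurj : Function.Surjective
      (fun z : zpowers (π x) × zpowers (π n) => (z.1 : X ⧸ frattini X) * z.2) := by
    intro q
    obtain ⟨y, rfl⟩ := QuotientGroup.mk'_surjective (frattini X) q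
    obtain ⟨i, hi⟩ := hdec y
    obtain ⟨j, hj⟩ : ∃ j : ℤ, n ^ j = (x ^ i)⁻¹ * y := hi
    refine ⟨(⟨π x ^ i, zpow_mem (mem_zpowers _) i⟩, ⟨π n ^ j, zpow_mem (mem_zpowers _) j⟩), ?_⟩
    show π x ^ i * π n ^ j = π y
    rw [← map_zpow, ← map_zpow, ← map_mul, hj, mul_inv_cancel_left]
  have h := Nat.card_le_card_of_surjective _ hsurj
  rw [Nat.card_prod, ← Subgroup.index_eq_card] at h
  exact h.trans (sq p ▸ Nat.mul_le_mul (hord x) (hord n))

/-- An invariant subgroup of index `p` in a rank two abelian group that is not homocyclic. -/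
theorem exists_line_abelian (hX : IsPGroup p X) (hc : ∀ a b : X, a * b = b * a)
    (hidx : (frattini X).index = p ^ 2)
    (hno : ¬ ∃ n : ℕ, 0 < n ∧ Nonempty (X ≃* Multiplicative (ZMod (p ^ n)) × Multiplicative (ZMod (p ^ n)))) :
    ∃ L : Subgroup X, L.index = p ∧ frattini X ≤ L ∧ ∀ g : MulAut X, ∀ x ∈ L, g x ∈ L := by
  letI : CommGroup X := { (inferInstance : Group X) with mul_comm := hc }
  have hpp : p.Prime := hp.out
  set Φ := frattini X with hΦ
  obtain ⟨K, hK⟩ := hX.exists_card_eq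
  have hex : ∃ k : ℕ, ∀ x : X, x ^ p ^ k = 1 := ⟨K, fun x => by rw [← hK, pow_card_eq_one']⟩
  let k := Nat.find hex
  have hk : ∀ x : X, x ^ p ^ k = 1 := Nat.find_spec hex
  have hk0 : k ≠ 0 := fun e => by
    have hall : ∀ x : X, x = 1 := fun x => by
      have := hk x
      rwa [e, pow_zero, pow_one] at this
    have : Φ = ⊤ := eq_top_iff.2 fun x _ => by rw [hall x]; exact one_mem _
    rw [this, Subgroup.index_top] at hidx
    exact (Nat.one_lt_pow two_ne_zero hpp.one_lt).ne hidx
  haveI : (powMonoidHom p : X →* X).range.Normal := Subgroup.normal_of_isMulCommutative _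
  have hΦpow : ∀ x ∈ Φ, ∃ z : X, z ^ p = x := fun x hx =>
    (Grp.frattini_le_of_elementary hpp (N := (powMonoidHom p : X →* X).range)
      (Subgroup.commutator_le.2 fun a _ b _ => by
        rw [commutatorElement_eq_one_iff_mul_comm.2 (hc a b)]
        exact one_mem _) (fun z => ⟨z, rfl⟩)) hx
  set U : Subgroup X := Φ ⊔ (powMonoidHom (p ^ (k - 1)) : X →* X).ker with hU
  have hUinv : ∀ g : MulAut X, ∀ y ∈ U, g y ∈ U := by
    intro g y hy
    obtain ⟨f, hf, z, hz, rfl⟩ := Subgroup.mem_sup.1 hy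
    rw [map_mul]
    refine Subgroup.mul_mem_sup (((inferInstance : Φ.Characteristic).fixed g).ge hf) ?_
    show g z ^ p ^ (k - 1) = 1
    rw [← map_pow, show z ^ p ^ (k - 1) = 1 from hz, map_one]
  have hUne : U ≠ ⊤ := by
    intro e
    refine Nat.find_min hex (m := k - 1) (by omega) fun z => ?_
    obtain ⟨f, hf, g, hg, rfl⟩ := Subgroup.mem_sup.1 (e.ge (mem_top z) : z ∈ U)
    obtain ⟨w, rfl⟩ := hΦpow f hf
    rw [mul_pow, ← pow_mul, ← pow_succ', show k - 1 + 1 = k by omega, hk, one_mul]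
    exact hg
  obtain ⟨i, hile, hi⟩ := (Nat.dvd_prime_pow hpp).1
    (hidx ▸ Subgroup.index_dvd_of_le (le_sup_left : Φ ≤ U))
  have hi0 : i ≠ 0 := fun e => hUne (Subgroup.index_eq_one.1 (by rw [hi, e, pow_zero]))
  by_cases hi1 : i = 1
  · exact ⟨U, by rw [hi, hi1, pow_one], le_sup_left, hUinv⟩
  exfalso
  have hUΦ : Φ = U := by
    refine le_antisymm le_sup_left ?_
    by_contra h
    have := Subgroup.index_strictAnti (lt_of_le_not_ge (le_sup_left : Φ ≤ U) h)
    rw [hi, hidx, show i = 2 by omega] at this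
    exact lt_irrefl _ this
  refine hno ⟨k, Nat.pos_of_ne_zero hk0, ?_⟩
  obtain ⟨e⟩ := homocyclic_of_data hX hidx hk fun x hx => by
    obtain ⟨j, hj, hox⟩ := (Nat.dvd_prime_pow hpp).1 (orderOf_dvd_of_pow_eq_one (hk x))
    by_contra hne
    have hjk : j < k := lt_of_le_of_ne hj fun e => hne (e ▸ hox)
    refine hx ((hUΦ.symm.le : U ≤ Φ) (mem_sup_right ?_))
    show x ^ p ^ (k - 1) = 1
    rw [← orderOf_dvd_iff_pow_eq_one, hox]
    exact Nat.pow_dvd_pow p (by omega)
  exact ⟨e.trans
    { toFun := fun v => (Multiplicative.ofAdd v.toAdd.1, Multiplicative.ofAdd v.toAdd.2)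
      invFun := fun v => Multiplicative.ofAdd (v.1.toAdd, v.2.toAdd)
      left_inv := fun v => rfl
      right_inv := fun v => rfl
      map_mul' := fun v w => rfl }⟩

/-- An invariant line in a group with derived subgroup of order `p` that is a `p`-th power. -/
theorem exists_line_derived_prime {Y : Type u} [Group Y] [Finite Y] (hY : IsPGroup p Y) (hp2 : p ≠ 2)
    (hidx : (frattini Y).index ≤ p ^ 2) {z : Y} (hz : zpowers z = _root_.commutator Y)
    (hzo : orderOf z = p) {w : Y} (hw : w ^ p = z) :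
    ∃ L : Subgroup Y, L.index = p ∧ frattini Y ≤ L ∧ ∀ g : MulAut Y, ∀ x ∈ L, g x ∈ L := by
  have hpp : p.Prime := hp.out
  set C := zpowers z with hCdef
  haveI hCn : C.Normal := hz ▸ inferInstance
  have hCc : C ≤ Subgroup.center Y :=
    Grp.PSmall.le_center_of_card hY C (by rw [hCdef, Nat.card_zpowers, hzo])
  have hCp : ∀ c ∈ C, c ^ p = 1 := by
    rintro _ ⟨i, rfl⟩
    show (z ^ i) ^ p = 1
    rw [← zpow_natCast, ← zpow_mul, mul_comm, zpow_mul, zpow_natCast, ← hzo, pow_orderOf_eq_one,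
      one_zpow]
  have hsc : Transfer.PGroups.SmallClass p Y := Or.inl ⟨hp2, by
    rw [eq_bot_iff, Subgroup.commutator_le]
    intro a ha b _
    rw [Subgroup.mem_bot, commutatorElement_eq_one_iff_mul_comm]
    exact (mem_center_iff.1 (hCc (hz.symm ▸ ha)) b).symm⟩
  have hmp : ∀ a b : Y, (a * b) ^ p = a ^ p * b ^ p := fun a b =>
    Transfer.PGroups.mul_pow_of_derived hsc (fun g hg => hCp g (hz.symm ▸ hg)) a b
  have hhom : ∀ t : ℕ, ∀ a b : Y, (a * b) ^ p ^ t = a ^ p ^ t * b ^ p ^ t := fun t => by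
    induction t with
    | zero => intro a b; simp
    | succ t ih => intro a b; rw [pow_succ, pow_mul, pow_mul, pow_mul, ih, hmp]
  let f : ℕ → (Y →* Y) := fun t => MonoidHom.mk' (fun a => a ^ p ^ t) (hhom t)
  have hz1 : z ≠ 1 := fun e => hpp.ne_one (by rw [← hzo, e, orderOf_one])
  obtain ⟨K, hK⟩ := hY.exists_card_eq
  let P : ℕ → Prop := fun t => z ∈ (f t).range
  have hP1 : P 1 := ⟨w, by show w ^ p ^ 1 = z; rw [pow_one, hw]⟩
  have hK1 : 1 ≤ K := by
    rcases Nat.eq_zero_or_pos K with e | e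
    · rw [e, pow_zero] at hK
      haveI := (Nat.card_eq_one_iff_unique.1 hK).1
      exact absurd (Subsingleton.elim z 1) hz1
    · exact e
  set t := Nat.findGreatest P K with ht
  have hPt : P t := Nat.findGreatest_spec hK1 hP1
  have ht1 : 1 ≤ t := Nat.le_findGreatest hK1 hP1
  have hmax : ¬ P (t + 1) := fun h => by
    rcases Nat.lt_or_ge K (t + 1) with hK' | hK'
    · obtain ⟨y, hy⟩ := h
      refine hz1 ?_
      rw [← hy]
      show y ^ p ^ (t + 1) = 1
      rw [show t + 1 = K + (t + 1 - K) by omega, pow_add, pow_mul, ← hK, pow_card_eq_one', one_pow]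
    · exact Nat.findGreatest_is_greatest (lt_add_one t) hK' h
  obtain ⟨t', htt⟩ : ∃ t', t = t' + 1 := ⟨t - 1, by omega⟩
  have hfC : C ≤ (f t).ker := fun c hc => by
    show c ^ p ^ t = 1
    rw [htt, pow_succ', pow_mul, hCp c hc, one_pow]
  have hfinv : ∀ (g : MulAut Y) (y : Y), f t (g y) = g (f t y) := fun g y => (map_pow g y _).symm
  have hCinv : ∀ g : MulAut Y, ∀ c ∈ C, g c ∈ C := fun g c hc => by
    rw [hz] at hc ⊢
    exact ((inferInstance : (_root_.commutator Y).Characteristic).fixed g).ge hc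
  have hΦinv : ∀ g : MulAut Y, ∀ y ∈ frattini Y, g y ∈ frattini Y := fun g y hy =>
    ((inferInstance : (frattini Y).Characteristic).fixed g).ge hy
  by_cases hR : (f t).range ≤ C
  · refine ⟨(f t).ker, ?_, ?_, fun g y hy => ?_⟩
    · rw [Subgroup.index_ker, le_antisymm hR (zpowers_le.2 hPt), hCdef, Nat.card_zpowers, hzo]
    · refine Grp.frattini_le_of_elementary hpp (hz ▸ hfC) fun y => ?_
      show (y ^ p) ^ p ^ t = 1
      rw [← pow_mul, mul_comm, pow_mul]
      exact hCp _ (hR ⟨y, rfl⟩)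
    · show f t (g y) = 1
      rw [hfinv, show f t y = 1 from hy, map_one]
  -- the inverse image of the derived subgroup
  set L := frattini Y ⊔ C.comap (f t) with hL
  have hLinv : ∀ g : MulAut Y, ∀ y ∈ L, g y ∈ L := by
    intro g y hy
    have hle : L ≤ L.comap g.toMonoidHom := sup_le
      (fun a ha => mem_sup_left (hΦinv g a ha))
      (fun a ha => mem_sup_right (show f t (g a) ∈ C by rw [hfinv]; exact hCinv g _ ha))
    exact hle hy
  have hΦR : frattini Y ≤ (f (t + 1)).range.comap (f t) := by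
    haveI : ((f (t + 1)).range.comap (f t)).Normal := ⟨fun c hc g => by
      have h1 : f t (g * c * g⁻¹) = f t c := by
        show (g * c * g⁻¹) ^ p ^ t = c ^ p ^ t
        obtain ⟨i, hi⟩ : ∃ i : ℤ, z ^ i = g * c * g⁻¹ * c⁻¹ := by
          have : g * c * g⁻¹ * c⁻¹ ∈ C :=
            hz.symm ▸ Subgroup.commutator_mem_commutator (mem_top g) (mem_top c)
          exact this
        have hk : (g * c * g⁻¹ * c⁻¹) ^ p ^ t = 1 := hfC ⟨i, hi⟩
        rw [show g * c * g⁻¹ = g * c * g⁻¹ * c⁻¹ * c by group, hhom, hk, one_mul]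
      show f t (g * c * g⁻¹) ∈ (f (t + 1)).range
      rw [h1]; exact hc⟩
    refine Grp.frattini_le_of_elementary hpp ?_ fun y => ?_
    · rw [← hz]
      intro c hc
      show f t c ∈ (f (t + 1)).range
      rw [show f t c = 1 from hfC hc]
      exact one_mem _
    · exact ⟨y, by show y ^ p ^ (t + 1) = (y ^ p) ^ p ^ t; rw [← pow_mul, pow_succ']⟩
  refine ⟨L, ?_, le_sup_left, hLinv⟩
  have hne : frattini Y < L := by
    refine lt_of_le_of_ne le_sup_left fun e => ?_
    obtain ⟨y, hy⟩ := hPt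
    have hyL : y ∈ L := mem_sup_right (show f t y ∈ C by rw [hy]; exact mem_zpowers z)
    rw [← e] at hyL
    have := hΦR hyL
    rw [Subgroup.mem_comap, hy] at this
    exact hmax this
  have htop : L ≠ ⊤ := by
    intro e
    refine hR ?_
    set R := (f t).range with hRdef
    have hsup : C.subgroupOf R ⊔ frattini R = ⊤ := by
      refine eq_top_iff.2 fun r _ => ?_
      obtain ⟨y, hy⟩ := r.2
      have hyL : y ∈ L := e.ge (mem_top y)
      haveI : (frattini Y).Normal := inferInstance
      rw [hL, Subgroup.mem_sup_of_normal_left] at hyL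
      obtain ⟨a, ha, b, hb, rfl⟩ := hyL
      have hfa : f t a ∈ R := ⟨a, rfl⟩
      have hfb : f t b ∈ R := ⟨b, rfl⟩
      have h1 : (⟨f t a, hfa⟩ : R) ∈ frattini R := by
        obtain ⟨c, hc⟩ := hΦR ha
        have e1 : (⟨f t a, hfa⟩ : R) = (⟨f t c, ⟨c, rfl⟩⟩ : R) ^ p := Subtype.ext (by
          show f t a = (c ^ p ^ t) ^ p
          rw [← hc, ← pow_mul, ← pow_succ]; rfl)
        rw [e1]
        exact Grp.pGroup_pow_mem_frattini (hY.to_subgroup R) _
      have h2 : (⟨f t b, hfb⟩ : R) ∈ C.subgroupOf R := hb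
      rw [show r = ⟨f t a, hfa⟩ * ⟨f t b, hfb⟩ from Subtype.ext (by rw [← hy, map_mul]; rfl)]
      exact mul_mem (mem_sup_right h1) (mem_sup_left h2)
    exact Subgroup.subgroupOf_eq_top.1 (frattini_nongenerating hsup)
  obtain ⟨i, hi⟩ := hY.index L
  have h1 := Subgroup.index_strictAnti hne
  rw [hi] at h1 ⊢
  have h2 := (Nat.pow_lt_pow_iff_right hpp.one_lt).1 (lt_of_lt_of_le h1 hidx)
  have h3 : i ≠ 0 := fun e => htop (Subgroup.index_eq_one.1 (by rw [hi, e, pow_zero]))
  rw [show i = 1 by omega, pow_one]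

/-- An invariant line in a nonabelian metacyclic group of odd order. -/
theorem exists_line_metacyclic (hX : IsPGroup p X) (hp2 : p ≠ 2) (hm : IsMetacyclic X)
    (hna : ¬ ∀ a b : X, a * b = b * a) :
    ∃ L : Subgroup X, L.index = p ∧ frattini X ≤ L ∧ ∀ g : MulAut X, ∀ x ∈ L, g x ∈ L := by
  have hpp : p.Prime := hp.out
  obtain ⟨N, hN, hNc, hq⟩ := id hm
  haveI := hN
  set C := _root_.commutator X with hC
  have hCN : C ≤ N := Subgroup.Normal.quotient_commutative_iff_commutator_le.1
    ⟨⟨fun a b => (IsCyclic.commGroup (α := X ⧸ N)).mul_comm a b⟩⟩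
  obtain ⟨a, ha⟩ := (Subgroup.isCyclic_iff_exists_zpowers_eq_top N).1 hNc
  haveI : IsCyclic C := isCyclic_of_injective (Subgroup.inclusion hCN) (Subgroup.inclusion_injective hCN)
  obtain ⟨c, hc⟩ := (Subgroup.isCyclic_iff_exists_zpowers_eq_top C).1 inferInstance
  obtain ⟨e, he⟩ : ∃ e : ℤ, a ^ e = c := by
    have : c ∈ zpowers a := ha.symm ▸ hCN (hc ▸ mem_zpowers c)
    exact this
  have hCne : C ≠ N := by
    intro h
    refine hna fun u v => ?_
    obtain ⟨q, hq'⟩ := hq.exists_generator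
    obtain ⟨x, rfl⟩ := QuotientGroup.mk_surjective q
    have htop : zpowers x ⊔ frattini X = ⊤ := by
      refine eq_top_iff.2 fun y _ => ?_
      obtain ⟨i, hi⟩ : ∃ i : ℤ, (QuotientGroup.mk x : X ⧸ N) ^ i = QuotientGroup.mk y :=
        hq' (QuotientGroup.mk y)
      rw [← QuotientGroup.mk_zpow, QuotientGroup.eq] at hi
      have h2 : (x ^ i)⁻¹ * y ∈ frattini X := Grp.pGroup_commutator_le_frattini hX (h ▸ hi : _ ∈ C)
      have := mul_mem (mem_sup_left (T := frattini X) (zpow_mem (mem_zpowers x) i))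
        (mem_sup_right (S := zpowers x) h2)
      rwa [mul_inv_cancel_left] at this
    have hzx := frattini_nongenerating htop
    obtain ⟨i, rfl⟩ : u ∈ zpowers x := hzx.ge (mem_top u)
    obtain ⟨j, rfl⟩ : v ∈ zpowers x := hzx.ge (mem_top v)
    exact (Commute.refl x).zpow_zpow i j
  have hpe : (p : ℤ) ∣ e := by
    by_contra hd
    refine hCne (le_antisymm hCN ?_)
    rw [← ha, zpowers_le]
    obtain ⟨j, hj⟩ := hX a
    obtain ⟨b, b', hb⟩ : ∃ b b' : ℤ, e * b + ((p ^ j : ℕ) : ℤ) * b' = 1 := by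
      have hcop : Int.gcd e ((p ^ j : ℕ) : ℤ) = 1 := by
        rw [Int.gcd_eq_natAbs, Int.natAbs_natCast]
        exact Nat.Coprime.pow_right j
          ((hpp.coprime_iff_not_dvd.2 fun h => hd (Int.natCast_dvd.2 h)).symm)
      exact ⟨_, _, by rw [← Int.gcd_eq_gcd_ab, hcop]; rfl⟩
    rw [← zpow_one a, ← hb, zpow_add, zpow_mul, zpow_mul, zpow_natCast, hj, one_zpow, mul_one, he]
    exact zpow_mem (hc ▸ mem_zpowers c) b
  obtain ⟨e', rfl⟩ := hpe
  haveI : IsMulCommutative C := ⟨⟨(IsCyclic.commGroup (α := C)).mul_comm⟩⟩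
  -- the powers in the derived subgroup
  let K : Subgroup X :=
    { carrier := {y | ∃ d ∈ C, d ^ p = y}
      one_mem' := ⟨1, one_mem _, one_pow p⟩
      mul_mem' := by
        rintro _ _ ⟨d, hd, rfl⟩ ⟨d', hd', rfl⟩
        exact ⟨d * d', mul_mem hd hd', Commute.mul_pow (congrArg Subtype.val
          ((inferInstance : IsMulCommutative C).is_comm.comm (⟨d, hd⟩ : C) ⟨d', hd'⟩)) p⟩
      inv_mem' := by
        rintro _ ⟨d, hd, rfl⟩
        exact ⟨d⁻¹, inv_mem hd, inv_pow d p⟩ }
  have hKinv : ∀ g : MulAut X, ∀ y ∈ K, g y ∈ K := by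
    rintro g _ ⟨d, hd, rfl⟩
    exact ⟨g d, ((inferInstance : C.Characteristic).fixed g).ge hd, (map_pow g d p).symm⟩
  haveI : K.Normal := ⟨fun y hy g => hKinv (MulAut.conj g) y hy⟩
  set π := QuotientGroup.mk' K
  have hzC : zpowers (π c) = _root_.commutator (X ⧸ K) := by
    rw [← MonoidHom.map_zpowers, hc, hC, commutator_def, Subgroup.map_commutator,
      Subgroup.map_top_of_surjective _ (QuotientGroup.mk'_surjective K), commutator_def]
  have hzo : orderOf (π c) = p := by
    refine orderOf_eq_prime ?_ fun h1 => hna fun u v => ?_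
    · rw [← map_pow]
      exact (QuotientGroup.eq_one_iff _).2 ⟨c, hc ▸ mem_zpowers c, rfl⟩
    · obtain ⟨d, hd, hdc⟩ := (QuotientGroup.eq_one_iff c).1 h1
      obtain ⟨j, rfl⟩ : d ∈ zpowers c := hc.symm ▸ hd
      obtain ⟨l, hl⟩ := hX c
      have hc1 : c = 1 := by
        have h2 : c ^ (j * p - 1) = 1 := by
          rw [zpow_sub_one, zpow_mul, zpow_natCast]
          exact mul_inv_eq_one.2 hdc
        rw [← orderOf_dvd_iff_zpow_eq_one] at h2
        obtain ⟨m, -, hm'⟩ := (Nat.dvd_prime_pow hpp).1 (orderOf_dvd_of_pow_eq_one hl)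
        rcases m with _ | m
        · exact orderOf_eq_one_iff.1 (by rw [hm', pow_zero])
        · exfalso
          rw [hm'] at h2
          have h3 : (p : ℤ) ∣ 1 := by
            have h4 := Dvd.dvd.trans (Int.natCast_dvd_natCast.2 (dvd_pow_self p (Nat.succ_ne_zero m))) h2
            have h5 : (p : ℤ) ∣ j * p := dvd_mul_left _ _
            simpa using dvd_sub h5 h4
          exact hpp.ne_one (Nat.dvd_one.1 (by exact_mod_cast h3))
      have huv : ⁅u, v⁆ ∈ zpowers c := hc.symm ▸ commutator_mem_commutator (mem_top u) (mem_top v)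
      rw [hc1, zpowers_one_eq_bot, Subgroup.mem_bot] at huv
      exact commutatorElement_eq_one_iff_mul_comm.1 huv
  have hidx : (frattini (X ⧸ K)).index ≤ p ^ 2 :=
    frattini_index_le (hX.to_quotient K) (MetaTwo.isMetacyclic_quotient hm K)
  obtain ⟨L, hLi, hLΦ, hLinv⟩ := exists_line_derived_prime (hX.to_quotient K) hp2 hidx hzC hzo
    (w := π (a ^ e')) (by
      rw [← map_pow, ← he, ← zpow_natCast (a ^ e'), ← zpow_mul, mul_comm])
  refine ⟨L.comap π, ?_, ?_, fun g y hy => ?_⟩
  · rw [Subgroup.index_comap_of_surjective L (QuotientGroup.mk'_surjective K), hLi]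
  · exact (frattini_le_comap_frattini_of_surjective (φ := π) (QuotientGroup.mk'_surjective K)).trans
      (Subgroup.comap_mono hLΦ)
  · have hg : K.map g.toMonoidHom = K := by
      refine le_antisymm ?_ fun y hy => ⟨g⁻¹ y, hKinv g⁻¹ y hy, MulAut.apply_inv_self _ g y⟩
      rintro _ ⟨y, hy, rfl⟩
      exact hKinv g y hy
    exact hLinv (QuotientGroup.congr K K g hg) (π y) hy

variable {Ω : Type u} [Group Ω] {S : Subgroup Ω} [Finite S]

def dihedralTwoEquiv : DihedralGroup 2 → Multiplicative (ZMod 2) × Multiplicative (ZMod 2) :=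
  fun z => match z with
  | .r i => (Multiplicative.ofAdd i, 1)
  | .sr i => (Multiplicative.ofAdd i, Multiplicative.ofAdd 1)

theorem dihedralTwo_mul : ∀ a b : DihedralGroup 2,
    dihedralTwoEquiv (a * b) = dihedralTwoEquiv a * dihedralTwoEquiv b := by decide

theorem dihedralTwo_bij : Function.Bijective dihedralTwoEquiv := by decide

theorem supersoluble_metacyclic_iff (hS : IsPGroup p S) (hm : IsMetacyclic ↥S) :
    (∀ F : FusionSystem S, F.IsSaturated p → HasCyclicChain F) ↔
      ¬ ((∃ n : ℕ, 0 < n ∧ Nonempty (↥S ≃* Multiplicative (ZMod (p ^ n)) × Multiplicative (ZMod (p ^ n)))) ∨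
        (p = 2 ∧ ((∃ n : ℕ, 2 ≤ n ∧ Nonempty (↥S ≃* DihedralGroup n)) ∨ IsQuasiDihedral ↥S ∨
          (∃ n : ℕ, 2 ≤ n ∧ Nonempty (↥S ≃* QuaternionGroup n))))) := by
  constructor
  · rintro h (⟨n, hn, ⟨e⟩⟩ | ⟨rfl, ⟨n, hn, ⟨e⟩⟩ | hqd | ⟨n, hn, ⟨e⟩⟩⟩)
    · exact SuperAb.not_supersoluble_of_homocyclic hS hn (H := Unit)
        (e.trans MulEquiv.prodUnique.symm) h
    · rcases eq_or_lt_of_le hn with rfl | hn3
      · exact SuperAb.not_supersoluble_of_homocyclic hS (n := 1) one_pos (H := Unit)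
          ((e.trans (MulEquiv.ofBijective (MonoidHom.mk' dihedralTwoEquiv dihedralTwo_mul)
            dihedralTwo_bij)).trans MulEquiv.prodUnique.symm) h
      · exact NonSuper.false_of_dihedral hS hn3 e h
    · exact NonSuper.false_of_quasiDihedral hS hqd h
    · exact NonSuper.false_of_quaternion hS hn e h
  · intro hno
    push Not at hno
    obtain ⟨hhom, htwo⟩ := hno
    have hhom' : ¬ ∃ n : ℕ, 0 < n ∧
        Nonempty (↥S ≃* Multiplicative (ZMod (p ^ n)) × Multiplicative (ZMod (p ^ n))) := by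
      rintro ⟨n, hn, ⟨e⟩⟩
      exact (hhom n hn).false e
    have hidx := frattini_index_le hS hm
    have hlines : (∀ a b : S, a * b = b * a) ∨ p ≠ 2 → ∀ H : Subgroup (MulAut S),
        (Nat.card H).Coprime p → IsMulCommutative H ∧ ∀ h ∈ H, h ^ (p - 1) = 1 := by
      intro hcase
      by_cases hle : (frattini S).index ≤ p
      · exact abelian_exp_of_line hS hidx (L := ⊤) (Or.inr ⟨rfl, hle⟩) le_top fun g y _ => mem_top _
      have hidx2 : (frattini S).index = p ^ 2 := by
        obtain ⟨i, hi⟩ := hS.index (frattini S)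
        rw [hi] at hle hidx ⊢
        have h2 := (Nat.pow_le_pow_iff_right hp.out.one_lt).1 hidx
        have h1 : 1 < i := by
          by_contra h
          exact hle ((Nat.pow_le_pow_right hp.out.pos (not_lt.1 h)).trans (pow_one p).le)
        rw [show i = 2 by omega]
      by_cases hc : ∀ a b : S, a * b = b * a
      · obtain ⟨L, hL, hΦL, hLi⟩ := exists_line_abelian hS hc hidx2 hhom'
        exact abelian_exp_of_line hS hidx (Or.inl hL) hΦL hLi
      · obtain ⟨L, hL, hΦL, hLi⟩ := exists_line_metacyclic hS (hcase.resolve_left hc) hm hc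
        exact abelian_exp_of_line hS hidx (Or.inl hL) hΦL hLi
    refine (supersoluble_iff hS).2 ?_
    by_cases hc : ∀ a b : S, a * b = b * a
    · exact ⟨fun F hF => isNormal_top_of_comm hS hF
        (fun x hx y hy => congrArg Subtype.val (hc ⟨x, hx⟩ ⟨y, hy⟩)), hlines (Or.inl hc)⟩
    by_cases h2 : p = 2
    · subst h2
      obtain ⟨hd, hsd, hq⟩ := htwo rfl
      have hd' : ¬ ∃ m : ℕ, Nonempty (↥S ≃* DihedralGroup m) := by
        rintro ⟨m, ⟨e⟩⟩
        rcases m with _ | _ | m
        · haveI : Finite (DihedralGroup 0) := Finite.of_equiv S e.toEquiv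
          exact not_finite (DihedralGroup 0)
        · refine hc fun a b => e.injective ?_
          rw [map_mul, map_mul]
          revert a b
          intro a b
          generalize e a = a'
          generalize e b = b'
          revert a' b'
          decide
        · exact (hd (m + 2) (by omega)).false e
      have hq' : ¬ ∃ m : ℕ, Nonempty (↥S ≃* QuaternionGroup m) := by
        rintro ⟨m, ⟨e⟩⟩
        rcases m with _ | _ | m
        · haveI : Finite (QuaternionGroup 0) := Finite.of_equiv S e.toEquiv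
          exact Int.infinite.not_finite (Finite.of_injective
            (fun i : ℤ => QuaternionGroup.a (n := 0) i) fun a b h => QuaternionGroup.a.inj h)
        · refine hc fun a b => e.injective ?_
          rw [map_mul, map_mul]
          generalize e a = a'
          generalize e b = b'
          revert a' b'
          decide
        · exact (hq (m + 2) (by omega)).false e
      refine ⟨fun F hF => isNormal_metacyclic_two hS hF
        ⟨le_rfl, fun R hR φ hφ x => (F.le_of_mem hφ).2 x⟩ hm hd' hq' hsd, fun H hH => ?_⟩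
      have hA : IsPGroup 2 (MulAut S) := by
        by_contra hA
        rcases MetaTwo.classify_of_not_isPGroup hS hm hA with h | ⟨n, ⟨φ⟩⟩
        · exact hq' ⟨2, h⟩
        · exact hc fun a b => φ.injective (by rw [map_mul, map_mul, mul_comm])
      obtain ⟨i, hi⟩ := IsPGroup.iff_card.1 (hA.to_subgroup H)
      have hi0 : i = 0 := by
        by_contra h0
        rw [hi] at hH
        have := (Nat.coprime_pow_left_iff (Nat.pos_of_ne_zero h0) 2 2).1 hH
        norm_num at this
      rw [hi0, pow_zero] at hi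
      have hbot := Subgroup.card_eq_one.1 hi
      refine ⟨⟨⟨fun a b => Subtype.ext ?_⟩⟩, fun a ha => ?_⟩
      · show (a : MulAut S) * b = b * a
        rw [Subgroup.mem_bot.1 (hbot.le a.2), one_mul, mul_one]
      · rw [Subgroup.mem_bot.1 (hbot.le ha), one_pow]
    · exact ⟨fun F hF => isNormal_of_metacyclic hS hF h2
        ⟨le_rfl, fun R hR φ hφ x => (F.le_of_mem hφ).2 x⟩ hm, hlines (Or.inr h2)⟩

end Cfsg.Agent.Fus.SuperMeta
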