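import Cfsg.Agent.Lib.Fus.ClassSizeNilpotent
import Cfsg.Agent.Lib.Grp.Frattini

/-!
Camina pairs: centralizer orders, and the nilpotent case of the trichotomy.
-/

namespace Cfsg.Agent.Fus

open Subgroup

variable {G : Type*} [Group G]

/-- Each coset outside `N` lies in one conjugacy class. -/
def IsCamina (N : Subgroup G) : Prop :=
  ∀ g : G, g ∉ N → ∀ n ∈ N, ∃ x : G, x * g * x⁻¹ = g * n

theorem exists_ne_one_of_ne_bot' {H : Type*} [Group H] {K : Subgroup H} (hK : K ≠ ⊥) :
    ∃ x : K, x ≠ 1 := by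
  obtain ⟨x, hx, hx1⟩ := K.bot_or_exists_ne_one.resolve_left hK
  exact ⟨⟨x, hx⟩, fun e => hx1 (congrArg Subtype.val e)⟩

theorem mem_centralizer_singleton_comm {S : Type*} [Group S] {x a : S} :
    a ∈ centralizer ({x} : Set S) ↔ a * x = x * a := by
  rw [mem_centralizer_iff]
  simp only [Set.mem_singleton_iff, forall_eq]
  exact eq_comm

/-- Two elements of `p`-power order in an abelian `p`-group with one subgroup of order `p`. -/
theorem isCyclic_of_unique_order_prime {A : Type*} [CommGroup A] [Finite A] {q : ℕ}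
    [hq : Fact q.Prime] (hA : IsPGroup q A)
    (h : ∀ a b : A, a ^ q = 1 → b ^ q = 1 → a ≠ 1 → b ∈ zpowers a) : IsCyclic A := by
  classical
  haveI := Fintype.ofFinite A
  have h1 : Nat.card (powMonoidHom q : A →* A).ker ≤ q := by
    rcases eq_or_ne (powMonoidHom q : A →* A).ker ⊥ with e | e
    · rw [e, card_bot]; exact hq.out.one_le
    obtain ⟨⟨a, ha⟩, hne⟩ := exists_ne_one_of_ne_bot' e
    rw [MonoidHom.mem_ker, powMonoidHom_apply] at ha
    calc Nat.card (powMonoidHom q : A →* A).ker ≤ Nat.card (zpowers a) :=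
          card_le_of_le fun b hb => h a b ha hb fun e => hne (Subtype.ext e)
      _ ≤ q := by
          rw [Nat.card_zpowers]
          exact Nat.le_of_dvd hq.out.pos (orderOf_dvd_of_pow_eq_one ha)
  have hk : ∀ k, Nat.card (powMonoidHom (q ^ k) : A →* A).ker ≤ q ^ k := by
    intro k
    induction k with
    | zero =>
      have : (powMonoidHom (q ^ 0) : A →* A).ker = ⊥ := by
        ext a; simp
      rw [this, card_bot, pow_zero]
    | succ k ih =>
      let f : (powMonoidHom (q ^ (k + 1)) : A →* A).ker →* A :=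
        (powMonoidHom q).comp (powMonoidHom (q ^ (k + 1)) : A →* A).ker.subtype
      have hr : Nat.card f.range ≤ q ^ k := by
        refine le_trans (card_le_of_le ?_) ih
        rintro _ ⟨⟨a, ha⟩, rfl⟩
        rw [MonoidHom.mem_ker, powMonoidHom_apply, pow_succ', pow_mul] at ha
        exact ha
      have hker : Nat.card f.ker ≤ q := by
        refine le_trans ?_ h1
        exact Nat.card_le_card_of_injective
          (fun x => (⟨(x : (powMonoidHom (q ^ (k + 1)) : A →* A).ker), x.2⟩ :
            (powMonoidHom q : A →* A).ker))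
          fun x y e => Subtype.ext (Subtype.ext (congrArg Subtype.val e :))
      calc Nat.card (powMonoidHom (q ^ (k + 1)) : A →* A).ker
          = Nat.card f.ker * f.ker.index := f.ker.card_mul_index.symm
        _ = Nat.card f.ker * Nat.card f.range := by rw [index_ker]
        _ ≤ q * q ^ k := Nat.mul_le_mul hker hr
        _ = q ^ (k + 1) := (pow_succ' q k).symm
  obtain ⟨m, hm⟩ := IsPGroup.iff_card.mp hA
  apply isCyclic_of_card_pow_eq_one_le
  intro n hn
  obtain ⟨k, -, hk'⟩ := (Nat.dvd_prime_pow hq.out).mp (hm ▸ Nat.gcd_dvd_right n (Nat.card A))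
  calc (Finset.univ.filter fun a : A => a ^ n = 1).card
      ≤ Nat.card (powMonoidHom (q ^ k) : A →* A).ker := by
        rw [← Fintype.card_subtype, ← Nat.card_eq_fintype_card]
        refine Nat.card_le_card_of_injective
          (fun a => ⟨a.1, ?_⟩) fun a b e => Subtype.ext (congrArg Subtype.val e :)
        rw [MonoidHom.mem_ker, powMonoidHom_apply, ← hk']
        exact pow_gcd_eq_one.mpr ⟨a.2, by rw [← hm]; exact pow_card_eq_one'⟩
    _ ≤ q ^ k := hk k
    _ ≤ n := hk' ▸ Nat.le_of_dvd hn (Nat.gcd_dvd_left _ _)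

/-- A maximal abelian normal subgroup of a finite `p`-group is self-centralizing. -/
theorem exists_selfCentralizing_normal_abelian {S : Type*} [Group S] [Finite S] {q : ℕ}
    [Fact q.Prime] (hS : IsPGroup q S) :
    ∃ A : Subgroup S, A.Normal ∧ centralizer (A : Set S) = A := by
  classical
  obtain ⟨A, hA⟩ := (Set.toFinite {A : Subgroup S | A.Normal ∧
    A ≤ centralizer (A : Set S)}).exists_maximal ⟨⊥, inferInstance, bot_le⟩
  obtain ⟨⟨hAn, hAc⟩, hmax⟩ := hA
  refine ⟨A, hAn, le_antisymm ?_ hAc⟩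
  by_contra hne
  haveI := hAn
  set π := QuotientGroup.mk' A
  set C := (centralizer (A : Set S)).map π with hC
  haveI : C.Normal := Subgroup.Normal.map inferInstance π (QuotientGroup.mk'_surjective A)
  have hCne : C ≠ ⊥ := by
    rw [hC, Ne, Subgroup.map_eq_bot_iff, QuotientGroup.ker_mk']
    exact hne
  obtain ⟨c, hcC, hcZ, hc1⟩ : ∃ c ∈ C, c ∈ center (S ⧸ A) ∧ c ≠ 1 := by
    haveI := (hS.to_quotient A).isNilpotent
    obtain ⟨⟨c, hc, hcz⟩, hc1⟩ := exists_ne_one_of_ne_bot' (Grp.inf_center_ne_bot C hCne)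
    exact ⟨c, hc, hcz, fun e => hc1 (Subtype.ext e)⟩
  obtain ⟨x, hx, rfl⟩ := hcC
  have hxA : x ∉ A := fun hh => hc1 ((QuotientGroup.eq_one_iff x).mpr hh)
  have hB : (A ⊔ zpowers x).Normal := ⟨fun b hb s => by
    have hb' : π b ∈ zpowers (π x) := by
      have : (A ⊔ zpowers x).map π = zpowers (π x) := by
        rw [Subgroup.map_sup, MonoidHom.map_zpowers, (Subgroup.map_eq_bot_iff A).mpr (by rw [QuotientGroup.ker_mk']),
          bot_sup_eq]
      rw [← this]; exact mem_map_of_mem π hb
    obtain ⟨i, hi⟩ := hb'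
    have h2 : π (s * b * s⁻¹) = π (x ^ i) := by
      rw [map_mul, map_mul, map_zpow, map_inv, ← hi]
      have := mem_center_iff.mp ((center (S ⧸ A)).zpow_mem hcZ i) (π s)
      simp only at this ⊢
      rw [this, mul_inv_cancel_right]
    have h3 : (x ^ i)⁻¹ * (s * b * s⁻¹) ∈ A := QuotientGroup.eq.mp h2.symm
    have := (A ⊔ zpowers x).mul_mem (mem_sup_right (zpow_mem (mem_zpowers x) i)) (mem_sup_left h3)
    rwa [mul_inv_cancel_left] at this⟩
  have hBc : A ⊔ zpowers x ≤ centralizer ((A ⊔ zpowers x : Subgroup S) : Set S) := by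
    have hxc : x ∈ centralizer (A : Set S) := hx
    rw [sup_le_iff]
    constructor
    · rw [le_centralizer_iff, sup_le_iff]
      exact ⟨hAc, (zpowers_le).mpr hxc⟩
    · rw [zpowers_le, mem_centralizer_iff]
      intro y hy
      have hle : A ⊔ zpowers x ≤ centralizer ({x} : Set S) := by
        rw [sup_le_iff]
        refine ⟨fun a ha => mem_centralizer_singleton_comm.mpr ?_, zpowers_le.mpr ?_⟩
        · exact mem_centralizer_iff.mp hxc a ha
        · exact mem_centralizer_iff.mpr fun z hz => by rw [Set.mem_singleton_iff.mp hz]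
      exact (mem_centralizer_iff.mp (hle hy) x rfl).symm
  exact hxA (hmax ⟨hB, hBc⟩ le_sup_left (mem_sup_right (mem_zpowers x)))
/-- If a nontrivial Sylow subgroup has no two independent commuting elements of prime order, some
element of it has centralizer of `q`-part no more than its order. -/
theorem exists_small_centralizer [Finite G] {q : ℕ} [hq : Fact q.Prime] (S : Sylow q G)
    (hS : (S : Subgroup G) ≠ ⊥)
    (h : ∀ a ∈ (S : Subgroup G), ∀ b ∈ (S : Subgroup G), a ^ q = 1 → b ^ q = 1 → a * b = b * a →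
      a ≠ 1 → b ∈ zpowers a) :
    ∃ g : G, g ≠ 1 ∧ (∃ k, g ^ q ^ k = 1) ∧
      ordProj[q] (Nat.card (centralizer ({g} : Set G))) = orderOf g := by
  obtain ⟨A, hAn, hAc⟩ := exists_selfCentralizing_normal_abelian S.2
  haveI : IsMulCommutative A := le_centralizer_iff_isMulCommutative.mp hAc.ge
  letI : CommGroup A := { (inferInstance : Group A) with mul_comm := mul_comm' }
  have hcyc : IsCyclic A := isCyclic_of_unique_order_prime (q := q) (S.2.to_subgroup A)
    fun a b ha hb hne => by
      have := h a.1.1 a.1.2 b.1.1 b.1.2 (congrArg (fun x : A => (x : S).1) ha)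
        (congrArg (fun x : A => (x : S).1) hb)
        (congrArg (fun x : A => (x : S).1) (mul_comm' a b)) fun e => hne (Subtype.ext (Subtype.ext e))
      obtain ⟨i, hi⟩ := this
      exact ⟨i, Subtype.ext (Subtype.ext hi)⟩
  obtain ⟨a, ha⟩ := hcyc.exists_generator
  have hA : A = zpowers (a : S) := by
    refine le_antisymm (fun x hx => ?_) (zpowers_le.mpr a.2)
    obtain ⟨i, hi⟩ := ha ⟨x, hx⟩
    exact ⟨i, congrArg Subtype.val hi⟩
  refine ⟨((a : S) : G), fun e => ?_, ?_, ?_⟩
  · have hAb : A = ⊥ := by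
      rw [hA, zpowers_eq_bot]; exact Subtype.ext e
    rw [hAb, coe_bot] at hAc
    refine hS ((eq_bot_iff_forall _).mpr fun x hx => ?_)
    have : (⟨x, hx⟩ : S) ∈ centralizer ({1} : Set S) := mem_centralizer_iff.mpr (by simp)
    rw [hAc, mem_bot] at this
    exact congrArg Subtype.val this
  · obtain ⟨k, hk⟩ := S.2 (a : S)
    exact ⟨k, congrArg Subtype.val hk⟩
  set C := centralizer ({((a : S) : G)} : Set G) with hC
  have hSC : (S : Subgroup G) ⊓ C = zpowers ((a : S) : G) := by
    refine le_antisymm (fun x hx => ?_) (le_inf (zpowers_le.mpr (a : S).2) (zpowers_le.mpr ?_))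
    · have : (⟨x, hx.1⟩ : S) ∈ centralizer (A : Set S) := by
        rw [hA, mem_centralizer_iff]
        rintro y ⟨i, rfl⟩
        apply Subtype.ext
        have hc : Commute ((a : S) : G) x := mem_centralizer_iff.mp hx.2 _ rfl
        exact (hc.zpow_left i).eq
      rw [hAc, hA] at this
      obtain ⟨i, hi⟩ := this
      exact ⟨i, congrArg Subtype.val hi⟩
    · exact mem_centralizer_iff.mpr fun z hz => by rw [Set.mem_singleton_iff.mp hz]
  have hn : (S : Subgroup G) ≤ normalizer C := by
    intro s hs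
    have hmem : ∀ t : S, ∃ i : ℤ, ((a : S) : G) ^ i = t.1 * ((a : S) : G) * t.1⁻¹ := fun t => by
      obtain ⟨i, hi⟩ : t * (a : S) * t⁻¹ ∈ zpowers (a : S) := hA ▸ hAn.conj_mem _ a.2 t
      exact ⟨i, congrArg Subtype.val hi⟩
    have hconj : ∀ t : S, ∀ g ∈ C, t.1 * g * t.1⁻¹ ∈ C := fun t g hg => by
      obtain ⟨i, hi⟩ := hmem t⁻¹
      have hc : Commute (((a : S) : G) ^ i) g :=
        (show Commute ((a : S) : G) g from mem_centralizer_iff.mp hg _ rfl).zpow_left i
      rw [hi] at hc
      refine mem_centralizer_iff.mpr fun z hz => ?_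
      rw [Set.mem_singleton_iff.mp hz]
      have h2 := congrArg (fun w => t.1 * w * t.1⁻¹) hc.eq
      simp only [InvMemClass.coe_inv, inv_inv] at h2
      simpa [mul_assoc] using h2
    rw [mem_normalizer_iff]
    intro g
    refine ⟨hconj ⟨s, hs⟩ g, fun hg => ?_⟩
    have := hconj ⟨s, hs⟩⁻¹ _ hg
    simpa [mul_assoc] using this
  have hp : ¬ q ∣ (S : Subgroup G).relIndex C := by
    set M := (S : Subgroup G) ⊔ C
    haveI : (C.subgroupOf M).Normal :=
      (normal_subgroupOf_iff_le_normalizer le_sup_right).mpr (sup_le hn le_normalizer)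
    have h1 := relIndex_sup_right ((S : Subgroup G).subgroupOf M) (C.subgroupOf M)
    rw [← subgroupOf_sup le_sup_left le_sup_right, relIndex_subgroupOf le_rfl,
      relIndex_subgroupOf le_sup_left] at h1
    have hM1 : Nat.card (S : Subgroup G) * (S : Subgroup G).relIndex M = Nat.card M := by
      rw [← relIndex_bot_left, ← relIndex_bot_left]
      exact relIndex_mul_relIndex _ _ _ bot_le le_sup_left
    have hM2 : Nat.card C * C.relIndex M = Nat.card M := by
      rw [← relIndex_bot_left, ← relIndex_bot_left]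
      exact relIndex_mul_relIndex _ _ _ bot_le le_sup_right
    have hS1 : Nat.card ((S : Subgroup G) ⊓ C : Subgroup G) * C.relIndex (S : Subgroup G)
        = Nat.card (S : Subgroup G) := by
      rw [← inf_relIndex_right, inf_comm C, ← relIndex_bot_left, ← relIndex_bot_left]
      exact relIndex_mul_relIndex _ _ _ bot_le inf_le_left
    have hC1 : Nat.card ((S : Subgroup G) ⊓ C : Subgroup G) * (S : Subgroup G).relIndex C
        = Nat.card C := by
      rw [← inf_relIndex_right, ← relIndex_bot_left, ← relIndex_bot_left]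
      exact relIndex_mul_relIndex _ _ _ bot_le inf_le_right
    have heq : (S : Subgroup G).relIndex M = (S : Subgroup G).relIndex C := by
      rw [← hM2, ← hC1, h1, ← hS1] at hM1
      refine Nat.eq_of_mul_eq_mul_left (Nat.pos_of_ne_zero (?_ : Nat.card
        ((S : Subgroup G) ⊓ C : Subgroup G) * C.relIndex (S : Subgroup G) ≠ 0))
        (hM1.trans (mul_right_comm _ _ _))
      rw [hS1]
      exact Nat.card_pos.ne'
    intro hd
    exact S.not_dvd_index ((heq ▸ hd).trans (relIndex_dvd_index_of_le le_sup_left))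
  have hC1 : Nat.card ((S : Subgroup G) ⊓ C : Subgroup G) * (S : Subgroup G).relIndex C
      = Nat.card C := by
    rw [← inf_relIndex_right, ← relIndex_bot_left, ← relIndex_bot_left]
    exact relIndex_mul_relIndex _ _ _ bot_le inf_le_right
  obtain ⟨j, hj⟩ := IsPGroup.iff_card.mp (S.2.to_le (inf_le_left : (S : Subgroup G) ⊓ C ≤ S))
  rw [← hC1, ← Nat.card_zpowers, ← hSC, hj, Nat.ordProj_mul q (pow_ne_zero _ hq.out.ne_zero)
    (fun e => hp (by rw [e]; exact dvd_zero q)), Nat.factorization_eq_zero_of_not_dvd hp, pow_zero, mul_one,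
    Nat.Prime.factorization_pow hq.out, Finsupp.single_eq_same]

/-- Two commuting automorphisms of order `q`, all of whose nontrivial products are fixed-point-free,
force exponent `q`. -/
theorem pow_eq_one_of_fpf_pair {V : Type*} [CommGroup V] {q : ℕ} [hq : Fact q.Prime]
    (A B : MulAut V) (hA : A ^ q = 1) (hB : B ^ q = 1) (hAB : Commute A B)
    (hfpf : ∀ i j : ℕ, ¬ (q ∣ i ∧ q ∣ j) → ∀ v, (A ^ i * B ^ j) v = v → v = 1) (v : V) :
    v ^ q = 1 := by
  have hnorm : ∀ i j : ℕ, ¬ (q ∣ i ∧ q ∣ j) → ∀ w : V,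
      ∏ k ∈ Finset.range q, ((A ^ i * B ^ j) ^ k) w = 1 := by
    intro i j hij w
    set C := A ^ i * B ^ j with hC
    refine hfpf i j hij _ ?_
    have hCq : C ^ q = 1 := by
      rw [hC, (hAB.pow_pow i j).mul_pow, ← pow_mul, ← pow_mul, mul_comm i, mul_comm j, pow_mul,
        pow_mul, hA, hB, one_pow, one_pow, one_mul]
    have h1 := Finset.prod_range_succ' (fun k => (C ^ k) w) q
    have h2 := Finset.prod_range_succ (fun k => (C ^ k) w) q
    rw [hCq] at h2
    simp only [pow_zero, MulAut.one_apply] at h1 h2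
    rw [map_prod]
    refine mul_right_cancel (b := w) ?_
    rw [← h2, h1]
    refine congrArg (· * w) (Finset.prod_congr rfl fun k _ => ?_)
    rw [pow_succ' C, MulAut.mul_apply]
    rfl
  have hall : ∏ j ∈ Finset.range q, ∏ k ∈ Finset.range q, ((A ^ 1 * B ^ j) ^ k) v = 1 :=
    Finset.prod_eq_one fun j _ => hnorm 1 j (fun hh => hq.out.not_dvd_one hh.1) v
  rw [Finset.prod_comm, ← Finset.mul_prod_erase _ _ (Finset.mem_range.mpr hq.out.pos)] at hall
  rw [Finset.prod_eq_one (s := (Finset.range q).erase 0)] at hall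
  · simpa using hall
  intro k hk
  obtain ⟨hk0, hkq⟩ := Finset.mem_erase.mp hk
  have hk' : ¬ q ∣ k := fun hh => hk0 (Nat.eq_zero_of_dvd_of_lt hh (Finset.mem_range.mp hkq))
  have h0 := hnorm 0 k (fun hh => hk' hh.2) v
  calc ∏ j ∈ Finset.range q, ((A ^ 1 * B ^ j) ^ k) v
      = (A ^ k) (∏ j ∈ Finset.range q, ((A ^ 0 * B ^ k) ^ j) v) := by
        rw [map_prod]
        refine Finset.prod_congr rfl fun j _ => ?_
        rw [pow_one, pow_zero, one_mul, (hAB.pow_right j).mul_pow, ← pow_mul, ← pow_mul,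
          mul_comm j k, MulAut.mul_apply]
    _ = 1 := by rw [h0, map_one]

variable [Finite G] {N : Subgroup G} [N.Normal]

omit [Finite G] in
theorem IsCamina.map (h : IsCamina N) (M : Subgroup G) [M.Normal] :
    IsCamina (N.map (QuotientGroup.mk' M)) := by
  intro g hg n hn
  obtain ⟨g, rfl⟩ := QuotientGroup.mk'_surjective M g
  obtain ⟨n, hn, rfl⟩ := hn
  obtain ⟨x, hx⟩ := h g (fun hgN => hg ⟨g, hgN, rfl⟩) n hn
  exact ⟨QuotientGroup.mk' M x, by rw [← map_inv, ← map_mul, ← map_mul, hx, map_mul]⟩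

omit [Finite G] [N.Normal] in
theorem IsCamina.orderOf_mul (h : IsCamina N) {g n : G} (hg : g ∉ N) (hn : n ∈ N) :
    orderOf (g * n) = orderOf g := by
  obtain ⟨x, hx⟩ := h g hg n hn
  rw [← hx]
  exact (MulAut.conj x).orderOf_eq g

omit [N.Normal] in
/-- An element outside `N` commuting with an element of prime order `r` in `N` has order divisible
by `r`. -/
theorem IsCamina.prime_dvd (h : IsCamina N) {g x : G} (hg : g ∉ N) (hx : x ∈ N)
    (hc : g * x = x * g) {r : ℕ} (hr : r.Prime) (hxr : orderOf x = r) : r ∣ orderOf g := by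
  by_contra hnd
  have hcop : (orderOf g).Coprime (orderOf x) := by
    rw [hxr]; exact (hr.coprime_iff_not_dvd.mpr hnd).symm
  have h1 := Commute.orderOf_mul_eq_mul_orderOf_of_coprime hc hcop
  rw [h.orderOf_mul hg hx, hxr] at h1
  have := Nat.eq_of_mul_eq_mul_left (orderOf_pos g) ((mul_one _).trans h1)
  exact hr.ne_one this.symm

/-- An element outside `N` has the same centralizer order as its image modulo `N`. -/
theorem IsCamina.card_centralizer (h : IsCamina N) {g : G} (hg : g ∉ N) :
    Nat.card (centralizer ({g} : Set G))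
      = Nat.card (centralizer ({(g : G ⧸ N)} : Set (G ⧸ N))) := by
  have hf : {y : G | ConjClasses.mk y = ConjClasses.mk g}
      = QuotientGroup.mk ⁻¹' {z : G ⧸ N | ConjClasses.mk z = ConjClasses.mk (g : G ⧸ N)} := by
    ext y
    simp only [Set.mem_preimage, Set.mem_ofPred_eq, ConjClasses.mk_eq_mk_iff_isConj, isConj_iff]
    constructor
    · rintro ⟨c, hc⟩
      exact ⟨(c : G ⧸ N), by rw [← QuotientGroup.mk_mul, ← QuotientGroup.mk_inv,
        ← QuotientGroup.mk_mul, hc]⟩
    · rintro ⟨c, hc⟩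
      obtain ⟨c, rfl⟩ := QuotientGroup.mk_surjective c
      rw [← QuotientGroup.mk_mul, ← QuotientGroup.mk_inv, ← QuotientGroup.mk_mul,
        eq_comm, QuotientGroup.eq] at hc
      obtain ⟨x, hx⟩ := h g hg _ hc
      refine ⟨x⁻¹ * c, ?_⟩
      rw [mul_inv_cancel_left] at hx
      calc x⁻¹ * c * y * (x⁻¹ * c)⁻¹ = x⁻¹ * (c * y * c⁻¹) * x := by group
        _ = g := by rw [← hx]; group
  have h1 : (centralizer ({g} : Set G)).index
      = Nat.card N * (centralizer ({(g : G ⧸ N)} : Set (G ⧸ N))).index := by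
    rw [← card_classFiber g, ← card_classFiber (g : G ⧸ N)]
    exact (congrArg (fun s : Set G => Nat.card s) hf).trans
      ((Nat.card_congr (QuotientGroup.preimageMkEquivSubgroupProdSet N _)).trans (Nat.card_prod _ _))
  have h2 := (centralizer ({g} : Set G)).index_mul_card
  have h3 := (centralizer ({(g : G ⧸ N)} : Set (G ⧸ N))).index_mul_card
  have h4 := N.index_mul_card
  have h5 : Nat.card (G ⧸ N) = N.index := rfl
  rw [← h2, h1, ← h5, ← h3] at h4
  have hpos : 0 < Nat.card N * (centralizer ({(g : G ⧸ N)} : Set (G ⧸ N))).index :=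
    Nat.mul_pos Nat.card_pos (Nat.pos_of_ne_zero index_ne_zero_of_finite)
  refine Nat.eq_of_mul_eq_mul_left hpos (h4.symm.trans ?_)
  ring

omit [Finite G] [N.Normal] in
theorem exists_conj_fix (hN : N.Normal) {q : ℕ} [hq : Fact q.Prime] [Finite N]
    {g : G} (hg : ∃ k, g ^ q ^ k = 1) (hd : q ∣ Nat.card N) :
    ∃ z ∈ N, g * z = z * g ∧ orderOf z = q := by
  haveI := hN
  obtain ⟨k, hk⟩ := hg
  have hP : IsPGroup q (zpowers g) := by
    rintro ⟨_, i, rfl⟩
    refine ⟨k, Subtype.ext ?_⟩
    show (g ^ i) ^ q ^ k = 1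
    rw [← zpow_natCast (g ^ i), ← zpow_mul, mul_comm, zpow_mul, zpow_natCast, hk, one_zpow]
  haveI : Finite (zpowers g) := by
    refine Nat.finite_of_card_ne_zero ?_
    rw [Nat.card_zpowers]
    exact (IsOfFinOrder.orderOf_pos (isOfFinOrder_iff_pow_eq_one.mpr
      ⟨q ^ k, pow_pos hq.out.pos k, hk⟩)).ne'
  let act : MulAction (zpowers g) N := MulAction.compHom N
    ((MulAut.conjNormal (H := N)).comp (zpowers g).subtype)
  have hmod := hP.card_modEq_card_fixedPoints N
  let F : Subgroup N := (centralizer ({g} : Set G)).subgroupOf N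
  have hF : MulAction.fixedPoints (zpowers g) N = (F : Set N) := by
    ext x
    constructor
    · intro hx
      have := congrArg Subtype.val (hx ⟨g, mem_zpowers g⟩)
      change ((MulAut.conjNormal g x : N) : G) = x at this
      rw [MulAut.conjNormal_apply, mul_inv_eq_iff_eq_mul] at this
      exact mem_centralizer_iff.mpr fun z hz => by
        rw [Set.mem_singleton_iff.mp hz]
        exact this
    · rintro hx ⟨_, i, rfl⟩
      apply Subtype.ext
      show ((MulAut.conjNormal (g ^ i) x : N) : G) = x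
      have hc : Commute g (x : G) := mem_centralizer_iff.mp hx _ rfl
      rw [MulAut.conjNormal_apply, (hc.zpow_left i).eq, mul_inv_cancel_right]
  rw [hF] at hmod
  obtain ⟨⟨z, hz⟩, hzq⟩ := exists_prime_orderOf_dvd_card' (G := F) q ((hmod.dvd_iff dvd_rfl).mp hd)
  refine ⟨z, z.2, mem_centralizer_iff.mp hz g rfl, ?_⟩
  rw [← hzq, Subgroup.orderOf_mk]
  exact Subgroup.orderOf_coe z

/-- With `q` dividing both orders, no element of the quotient has a centralizer of `q`-part equal
to its order. -/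
theorem IsCamina.no_small_centralizer (h : IsCamina N) {q : ℕ} [hq : Fact q.Prime]
    (hd : q ∣ Nat.card N) {c : G ⧸ N} (hc1 : c ≠ 1) (hcq : ∃ k, c ^ q ^ k = 1) :
    ordProj[q] (Nat.card (centralizer ({c} : Set (G ⧸ N)))) ≠ orderOf c := by
  intro heq
  -- a `q`-element lift
  obtain ⟨g₀, rfl⟩ := QuotientGroup.mk_surjective c
  obtain ⟨k, hk⟩ := hcq
  set e := (orderOf g₀).factorization q
  set m := orderOf g₀ / q ^ e with hm
  have hom : q ^ e * m = orderOf g₀ := Nat.ordProj_mul_ordCompl_eq_self _ q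
  have hmcop : m.Coprime (q ^ k) :=
    Nat.Coprime.pow_right _ ((Nat.coprime_ordCompl hq.out (orderOf_pos g₀).ne').symm)
  obtain ⟨j, hj⟩ := exists_pow_eq_self_of_coprime
    (x := (g₀ : G ⧸ N)) (Nat.Coprime.coprime_dvd_right (orderOf_dvd_of_pow_eq_one hk) hmcop)
  set g := (g₀ ^ m) ^ j with hgdef
  have hgc : (g : G ⧸ N) = (g₀ : G ⧸ N) := by
    rw [hgdef, QuotientGroup.mk_pow, QuotientGroup.mk_pow, hj]
  have hgq : g ^ q ^ e = 1 := by
    rw [hgdef, ← pow_mul, mul_comm j, pow_mul, ← pow_mul g₀, mul_comm m, hom, pow_orderOf_eq_one,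
      one_pow]
  have hgN : g ∉ N := fun hh => hc1 (hgc ▸ (QuotientGroup.eq_one_iff g).mpr hh)
  obtain ⟨z, hzN, hzc, hzq⟩ := exists_conj_fix (N := N) inferInstance ⟨e, hgq⟩ hd
  set E := zpowers g ⊔ zpowers z with hE
  have hzg : zpowers z ≤ normalizer (zpowers g : Set G) := by
    refine zpowers_le.mpr (Subgroup.centralizer_le_normalizer _ ?_)
    refine mem_centralizer_iff.mpr ?_
    rintro _ ⟨i, rfl⟩
    exact ((show Commute g z from hzc).zpow_left i).eq
  have hgp : IsPGroup q (zpowers g) := IsPGroup.of_card_dvd_pow (n := e) (by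
    rw [Nat.card_zpowers]; exact orderOf_dvd_of_pow_eq_one hgq)
  have hzp : IsPGroup q (zpowers z) := IsPGroup.of_card (n := 1) (by
    rw [Nat.card_zpowers, hzq, pow_one])
  have hEp : IsPGroup q E := hgp.to_sup_of_normal_left' hzp hzg
  have hEC : E ≤ centralizer ({g} : Set G) := by
    refine sup_le (zpowers_le.mpr ?_) (zpowers_le.mpr ?_) <;>
      refine mem_centralizer_iff.mpr fun y hy => ?_ <;> rw [Set.mem_singleton_iff.mp hy]
    exact hzc
  obtain ⟨j', hj'⟩ := IsPGroup.iff_card.mp hEp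
  have hdvd : q ^ j' ∣ ordProj[q] (Nat.card (centralizer ({(g₀ : G ⧸ N)} : Set (G ⧸ N)))) := by
    rw [← hgc, ← h.card_centralizer hgN]
    refine (hq.out.pow_dvd_iff_dvd_ordProj Nat.card_pos.ne').mp ?_
    rw [← hj']
    exact card_dvd_of_le hEC
  rw [heq, ← hgc] at hdvd
  -- the kernel of the image
  let f : E →* G ⧸ N := (QuotientGroup.mk' N).comp E.subtype
  have hrange : orderOf (g : G ⧸ N) ≤ Nat.card f.range := by
    rw [← Nat.card_zpowers]
    refine card_le_of_le (zpowers_le.mpr ⟨⟨g, mem_sup_left (mem_zpowers g)⟩, rfl⟩)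
  have hker : q ≤ Nat.card f.ker := by
    refine Nat.le_of_dvd Nat.card_pos ?_
    let z' : f.ker := ⟨⟨z, mem_sup_right (mem_zpowers z)⟩, (QuotientGroup.eq_one_iff z).mpr hzN⟩
    have : orderOf z' = q := by rw [← orderOf_coe, ← orderOf_coe, ← hzq]
    rw [← this]
    exact orderOf_dvd_natCard z'
  have hcard : Nat.card f.ker * Nat.card f.range = q ^ j' := by
    rw [← index_ker, card_mul_index, hj']
  have hle := Nat.le_of_dvd (orderOf_pos _) hdvd
  have h2 := Nat.mul_le_mul hker hrange
  rw [hcard] at h2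
  have h3 : 0 < orderOf (g : G ⧸ N) := orderOf_pos _
  nlinarith [hq.out.two_le]

/-- A nilpotent kernel of a Camina pair with a common prime is a group of prime power order. -/
theorem IsCamina.nilpotent_case (h : IsCamina N) (hNn : Group.IsNilpotent N) {q t : ℕ}
    [hq : Fact q.Prime] [ht : Fact t.Prime] (hne : t ≠ q) (hqN : q ∣ Nat.card N)
    (htN : t ∣ Nat.card N) (hqI : q ∣ N.index) : False := by
  classical
  have hn : ∀ (s : ℕ) (_ : Fact s.Prime) (Q : Sylow s N), (Q : Subgroup N).Normal := by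
    have htfae := (Group.isNilpotent_of_finite_tfae (G := N)).out 0 3
    exact htfae.mp hNn
  obtain ⟨R⟩ : Nonempty (Sylow t N) := inferInstance
  haveI := R.characteristic_of_normal (hn t ht R)
  set R' : Subgroup G := (R : Subgroup N).map N.subtype with hR'
  haveI : R'.Normal := inferInstance
  set V : Subgroup G := (center R').map R'.subtype with hV
  haveI : V.Normal := inferInstance
  have hVN : V ≤ N := (map_subtype_le _).trans (map_subtype_le _)
  have hR'p : IsPGroup t R' := R.2.map _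
  have hVp : IsPGroup t V := (hR'p.to_subgroup _).map _
  have hVne : V ≠ ⊥ := by
    rw [hV, Ne, map_eq_bot_iff_of_injective _ R'.subtype_injective]
    have hR0 : R' ≠ ⊥ := by
      rw [hR', Ne, map_eq_bot_iff_of_injective _ N.subtype_injective]
      intro hb
      have := R.card_eq_multiplicity
      rw [hb, card_bot] at this
      have h1 := (ht.out.factorization_pos_of_dvd Nat.card_pos.ne' htN)
      exact (Nat.one_lt_pow h1.ne' ht.out.one_lt).ne this
    haveI : Nontrivial R' := (nontrivial_iff_ne_bot _).mpr hR0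
    haveI := hR'p.isNilpotent
    intro hb
    exact (nontrivial_iff_ne_bot _).mp (hR'p.center_nontrivial) hb
  letI : CommGroup V := { (inferInstance : Group V) with
    mul_comm := by
      rintro ⟨_, a, ha, rfl⟩ ⟨_, b, hb, rfl⟩
      exact Subtype.ext (congrArg Subtype.val (mem_center_iff.mp hb a) :) }
  -- Sylow of the quotient
  obtain ⟨S⟩ : Nonempty (Sylow q (G ⧸ N)) := inferInstance
  have hS : (S : Subgroup (G ⧸ N)) ≠ ⊥ := by
    intro hb
    have := S.card_eq_multiplicity
    rw [hb, card_bot] at this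
    have h1 := (hq.out.factorization_pos_of_dvd (n := Nat.card (G ⧸ N)) Nat.card_pos.ne' hqI)
    exact (Nat.one_lt_pow h1.ne' hq.out.one_lt).ne this
  by_cases hpair : ∀ a ∈ (S : Subgroup (G ⧸ N)), ∀ b ∈ (S : Subgroup (G ⧸ N)),
      a ^ q = 1 → b ^ q = 1 → a * b = b * a → a ≠ 1 → b ∈ zpowers a
  · obtain ⟨c, hc1, hcq, hc⟩ := exists_small_centralizer S hS hpair
    exact h.no_small_centralizer hqN hc1 hcq hc
  push Not at hpair
  obtain ⟨a, ha, b, hb, haq, hbq, hab, ha1, hba⟩ := hpair
  -- lifts in a Sylow subgroup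
  set K := (S : Subgroup (G ⧸ N)).comap (QuotientGroup.mk' N)
  obtain ⟨Q⟩ : Nonempty (Sylow q K) := inferInstance
  have hQlift : ∀ c ∈ (S : Subgroup (G ⧸ N)), ∃ g ∈ (Q : Subgroup K).map K.subtype,
      (g : G ⧸ N) = c := by
    let f : K →* (S : Subgroup (G ⧸ N)) := (QuotientGroup.mk' N).subgroupComap _
    have hf : Function.Surjective f :=
      (QuotientGroup.mk' N).subgroupComap_surjective_of_surjective _ (QuotientGroup.mk'_surjective N)
    have htop : ((Q.mapSurjective hf : Sylow q (S : Subgroup (G ⧸ N))) :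
        Subgroup (S : Subgroup (G ⧸ N))) = ⊤ := by
      haveI := Q.mapSurjective hf
      obtain ⟨n, hn'⟩ := IsPGroup.iff_card.mp S.2
      apply eq_top_of_card_eq
      rw [(Q.mapSurjective hf).card_eq_multiplicity, hn', hq.out.factorization_pow,
        Finsupp.single_eq_same]
    intro c hc
    have hmem : (⟨c, hc⟩ : (S : Subgroup (G ⧸ N))) ∈ (Q : Subgroup K).map f := by
      have : ((Q.mapSurjective hf : Sylow q _) : Subgroup _) = (Q : Subgroup K).map f :=
        Q.coe_mapSurjective hf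
      rw [← this, htop]
      exact mem_top _
    obtain ⟨x, hx, hxc⟩ := hmem
    exact ⟨x.1, ⟨x, hx, rfl⟩, congrArg Subtype.val hxc⟩
  obtain ⟨g, hgQ, rfl⟩ := hQlift a ha
  obtain ⟨k, hkQ, rfl⟩ := hQlift b hb
  set Q' := (Q : Subgroup K).map K.subtype
  have hQ'p : IsPGroup q Q' := Q.2.map _
  -- q-elements of N act trivially on V
  have hact : ∀ u ∈ Q', u ∈ N → MulAut.conjNormal (H := V) u = 1 := by
    intro u hu huN
    apply MulEquiv.ext
    intro v
    apply Subtype.ext
    rw [MulAut.conjNormal_apply, MulAut.one_apply, mul_inv_eq_iff_eq_mul]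
    obtain ⟨P, hP⟩ := (hQ'p.comap_subtype (K := N)).exists_le_sylow
    haveI := hn q hq P
    haveI := hn t ht R
    have hdis : Disjoint (P : Subgroup N) (R : Subgroup N) :=
      IsPGroup.disjoint_of_ne q t hne.symm _ _ P.2 R.2
    obtain ⟨r, hr, hrv⟩ := map_subtype_le _ v.2
    have := commute_of_normal_of_disjoint _ _ inferInstance inferInstance hdis ⟨u, huN⟩ r
      (hP hu) hr
    have h2 := congrArg Subtype.val this.eq
    rw [← hrv]
    exact h2
  have hfix : ∀ u ∈ Q', u ∉ N → ∀ v : V, MulAut.conjNormal (H := V) u v = v → v = 1 := by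
    intro u hu huN v hv
    by_contra hv1
    have hc : u * v = v * u := by
      have := congrArg Subtype.val hv
      rwa [MulAut.conjNormal_apply, mul_inv_eq_iff_eq_mul] at this
    obtain ⟨m, hm⟩ := hVp v
    have hm' : (v : G) ^ t ^ m = 1 := congrArg Subtype.val hm
    obtain ⟨l, -, hl⟩ := (Nat.dvd_prime_pow ht.out).mp (orderOf_dvd_of_pow_eq_one hm')
    have hl0 : l ≠ 0 := fun h0 => hv1 (Subtype.ext (orderOf_eq_one_iff.mp (by rw [hl, h0, pow_zero])))
    have hx : orderOf ((v : G) ^ t ^ (l - 1)) = t := by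
      rw [orderOf_pow' _ (pow_ne_zero _ ht.out.ne_zero), hl,
        Nat.gcd_eq_right (pow_dvd_pow _ (Nat.sub_le _ _)), Nat.pow_div (Nat.sub_le _ _) ht.out.pos,
        Nat.sub_sub_self (Nat.one_le_iff_ne_zero.mpr hl0), pow_one]
    have hdvd := h.prime_dvd huN (N.pow_mem (hVN v.2) _)
      ((show Commute u v from hc).pow_right _).eq ht.out hx
    obtain ⟨i, hi⟩ := hQ'p ⟨u, hu⟩
    have hi' : u ^ q ^ i = 1 := congrArg Subtype.val hi
    exact hne ((Nat.prime_dvd_prime_iff_eq ht.out hq.out).mp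
      (ht.out.dvd_of_dvd_pow (hdvd.trans (orderOf_dvd_of_pow_eq_one hi'))))
  set A := MulAut.conjNormal (H := V) g with hA
  set B := MulAut.conjNormal (H := V) k with hB
  have hq1 : A ^ q = 1 := by
    rw [hA, ← map_pow]
    exact hact _ (Q'.pow_mem hgQ q) ((QuotientGroup.eq_one_iff _).mp (by simpa using haq))
  have hq2 : B ^ q = 1 := by
    rw [hB, ← map_pow]
    exact hact _ (Q'.pow_mem hkQ q) ((QuotientGroup.eq_one_iff _).mp (by simpa using hbq))
  have hcomm : Commute A B := by
    have h1 := hact _ (Q'.mul_mem (Q'.mul_mem hgQ hkQ) (Q'.inv_mem (Q'.mul_mem hkQ hgQ)))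
      ((QuotientGroup.eq_one_iff _).mp (by simp [hab]))
    rw [map_mul, map_inv, map_mul, map_mul, mul_inv_eq_one] at h1
    exact h1
  have hfpf : ∀ i j : ℕ, ¬ (q ∣ i ∧ q ∣ j) → ∀ v, (A ^ i * B ^ j) v = v → v = 1 := by
    intro i j hij v hv
    rw [hA, hB, ← map_pow, ← map_pow, ← map_mul] at hv
    refine hfix _ (Q'.mul_mem (Q'.pow_mem hgQ i) (Q'.pow_mem hkQ j)) (fun hN => hij ?_) v hv
    have e : (g : G ⧸ N) ^ i * (k : G ⧸ N) ^ j = 1 := by
      rw [← QuotientGroup.mk_pow, ← QuotientGroup.mk_pow, ← QuotientGroup.mk_mul,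
        QuotientGroup.eq_one_iff]
      exact hN
    have hj : q ∣ j := by
      by_contra hj
      refine hba ?_
      have hmem : (k : G ⧸ N) ^ j ∈ zpowers (g : G ⧸ N) := by
        rw [eq_inv_of_mul_eq_one_right e]
        exact inv_mem (pow_mem (mem_zpowers _) i)
      obtain ⟨l, hl⟩ := exists_pow_eq_self_of_coprime (x := (k : G ⧸ N)) (n := j)
        (Nat.Coprime.coprime_dvd_right (orderOf_dvd_of_pow_eq_one hbq)
          (hq.out.coprime_iff_not_dvd.mpr hj).symm)
      rw [← hl]
      exact pow_mem hmem l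
    refine ⟨?_, hj⟩
    obtain ⟨l, rfl⟩ := hj
    rw [pow_mul (k : G ⧸ N), hbq, one_pow, mul_one] at e
    rw [← orderOf_eq_prime (p := q) haq ha1]
    exact orderOf_dvd_of_pow_eq_one e
  obtain ⟨v, hv⟩ := exists_ne_one_of_ne_bot' hVne
  have hvq := pow_eq_one_of_fpf_pair A B hq1 hq2 hcomm hfpf v
  obtain ⟨m, hm⟩ := hVp v
  refine hv (orderOf_eq_one_iff.mp (Nat.eq_one_of_dvd_coprimes
    (Nat.Coprime.pow_left m ((Nat.coprime_primes ht.out hq.out).mpr hne))
    (orderOf_dvd_of_pow_eq_one hm) (orderOf_dvd_of_pow_eq_one hvq)))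
end Cfsg.Agent.Fus
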