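/-
A group of order 7920 with disconnected prime graph is simple.
-/
import Mathlib
import Cfsg.Agent.Lib.Fus.SmallOrders

set_option autoImplicit false
set_option linter.style.haveILetI false

namespace Cfsg.Agent.Fus.Order7920

open Subgroup
open scoped commutatorElement

universe u

/-- A coprime prime normalises, hence centralises, a Sylow subgroup of a normal subgroup. -/
theorem exists_centralizing {G : Type*} [Group G] [Finite G] (N : Subgroup G) [N.Normal] {s r : ℕ}
    [hs : Fact s.Prime] [hr : Fact r.Prime] (hsG : s ∣ Nat.card G) (hsN : ¬ s ∣ Nat.card N)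
    (hgap : ∀ a b : ℕ, r ^ a ∣ Nat.card N → b < a → ¬ s ∣ r ^ a - r ^ b) (R : Sylow r N) :
    ∃ y : G, orderOf y = s ∧ ∀ z ∈ R, y * ((z : N) : G) = ((z : N) : G) * y := by
  classical
  set R' : Subgroup G := (R : Subgroup N).map N.subtype
  have hF : normalizer (R' : Set G) ⊔ N = ⊤ := Sylow.normalizer_sup_eq_top R
  have hdiv : s ∣ Nat.card (normalizer (R' : Set G)) * Nat.card N := by
    rw [show Nat.card G = Nat.card (normalizer (R' : Set G) ⊔ N : Subgroup G) by rw [hF, Subgroup.card_top]] at hsG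
    exact hsG.trans (Grp.card_sup_dvd_mul Subgroup.le_normalizer_of_normal)
  obtain ⟨y, hy⟩ := exists_prime_orderOf_dvd_card' (G := normalizer (R' : Set G)) s
    ((hs.out.dvd_mul.1 hdiv).resolve_right hsN)
  rw [← Subgroup.orderOf_coe] at hy
  refine ⟨y, hy, ?_⟩
  let σ : Equiv.Perm R' := (R'.normalizerMonoidHom y).toEquiv
  have hσ : σ ^ s ^ 1 = 1 := by
    rw [pow_one]
    have h1 : (y : normalizer (R' : Set G)) ^ s = 1 := Subtype.ext (by
      rw [SubmonoidClass.coe_pow, ← hy, pow_orderOf_eq_one]; rfl)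
    let f : normalizer (R' : Set G) →* Equiv.Perm R' :=
      MonoidHom.mk' (fun g => (R'.normalizerMonoidHom g).toEquiv) fun a b => by rw [map_mul]; rfl
    show f y ^ s = 1
    rw [← map_pow, h1, map_one]
  -- the fixed subgroup
  let C : Subgroup G := R' ⊓ centralizer {(y : G)}
  have hfix : Nat.card (Function.fixedPoints σ) = Nat.card C := by
    refine Nat.card_congr
      { toFun := fun z => ⟨(z.1 : G), z.1.2, mem_centralizer_singleton_iff.2 ?_⟩
        invFun := fun z => ⟨⟨z.1, z.2.1⟩, ?_⟩
        left_inv := fun z => rfl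
        right_inv := fun z => rfl }
    · have h : (y : G) * z.1 * (y : G)⁻¹ = z.1 := congrArg Subtype.val (z.2 : σ z.1 = z.1)
      exact (mul_inv_eq_iff_eq_mul.1 h).symm
    · refine Subtype.ext ?_
      show (y : G) * z.1 * (y : G)⁻¹ = z.1
      rw [← mem_centralizer_singleton_iff.1 z.2.2, mul_inv_cancel_right]
  have hmod : Nat.card R' ≡ Nat.card C [MOD s] := by
    rw [← hfix]
    cases nonempty_fintype R'
    let e : Equiv.Perm R' →* Function.End R' :=
      { toFun := fun e => (e : R' → R'), map_one' := rfl, map_mul' := fun _ _ => rfl }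
    have := Equiv.Perm.card_fixedPoints_modEq (f := e σ) (p := s) (n := 1)
      (by rw [← map_pow, hσ, map_one])
    simp only [Nat.card_eq_fintype_card] at this ⊢
    exact this
  obtain ⟨a, ha⟩ := IsPGroup.iff_card.1 R.isPGroup'
  have ha' : Nat.card R' = r ^ a := by
    rw [Nat.card_congr (Subgroup.equivMapOfInjective _ N.subtype N.subtype_injective).toEquiv.symm]
    exact ha
  obtain ⟨b, hb, hb'⟩ := (Nat.dvd_prime_pow hr.out).1 (ha' ▸ Subgroup.card_dvd_of_le (inf_le_left : C ≤ R'))
  have hCR : C = R' := by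
    refine Subgroup.eq_of_le_of_card_ge inf_le_left ?_
    rcases eq_or_lt_of_le hb with rfl | hlt
    · rw [ha', hb']
    · exfalso
      refine hgap a b (ha ▸ Subgroup.card_subgroup_dvd_card _) hlt ?_
      rw [ha', hb'] at hmod
      exact (Nat.modEq_iff_dvd' (Nat.pow_le_pow_right hr.out.pos hlt.le)).1 hmod.symm
  intro z hz
  have hzC : ((z : N) : G) ∈ C := hCR ▸ Subgroup.mem_map_of_mem N.subtype hz
  exact (mem_centralizer_singleton_iff.1 hzC.2).symm

variable {G : Type u} [Group G] [Finite G]

local instance : Fact (Nat.Prime 11) := ⟨by norm_num⟩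

theorem gap720 {r : ℕ} (hr : r.Prime) {n : ℕ} (hn : n ∣ 720) (a b : ℕ) (ha : r ^ a ∣ n) (hb : b < a) :
    ¬ 11 ∣ r ^ a - r ^ b := by
  have h := ha.trans hn
  have hle : r ^ a ≤ 720 := Nat.le_of_dvd (by norm_num) h
  have ha10 : a < 10 := by
    have := Nat.pow_le_pow_left hr.two_le a
    by_contra hcon
    have : 2 ^ 10 ≤ 2 ^ a := Nat.pow_le_pow_right (by norm_num) (not_lt.1 hcon)
    omega
  have hr5 : r = 2 ∨ r = 3 ∨ r = 5 := by
    have h1 : r ∣ 2 ^ 4 * 3 ^ 2 * 5 := (dvd_pow_self r (by omega)).trans h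
    rcases (hr.dvd_mul).1 h1 with h2 | h2
    · rcases (hr.dvd_mul).1 h2 with h3 | h3
      · exact Or.inl ((Nat.prime_dvd_prime_iff_eq hr Nat.prime_two).1 (hr.dvd_of_dvd_pow h3))
      · exact Or.inr (Or.inl ((Nat.prime_dvd_prime_iff_eq hr Nat.prime_three).1 (hr.dvd_of_dvd_pow h3)))
    · exact Or.inr (Or.inr ((Nat.prime_dvd_prime_iff_eq hr (by norm_num)).1 h2))
  rcases hr5 with rfl | rfl | rfl <;> interval_cases a <;> interval_cases b <;> first | (norm_num; done) | (norm_num at h)

/-- A normal subgroup of order prime to eleven is centralised by the Sylow `11`-subgroups. -/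
theorem commute_of_not_dvd (hord : Nat.card G = 7920) (N : Subgroup G) [N.Normal]
    (h : ¬ 11 ∣ Nat.card N) {x : G} (hx : orderOf x = 11) {z : G} (hz : z ∈ N) : x * z = z * x := by
  classical
  have hN720 : Nat.card N ∣ 720 := by
    have h1 : Nat.card N ∣ 720 * 11 := by simpa [hord] using Subgroup.card_subgroup_dvd_card N
    exact (((Nat.Prime.coprime_iff_not_dvd (by norm_num : Nat.Prime 11)).2 h).symm).dvd_of_dvd_mul_right h1
  let C : Subgroup N := (centralizer ({x} : Set G)).subgroupOf N
  suffices C = ⊤ by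
    have hzC : (⟨z, hz⟩ : N) ∈ C := this ▸ Subgroup.mem_top _
    exact (mem_centralizer_singleton_iff.1 hzC).symm
  refine Subgroup.eq_top_of_le_card _ (Nat.le_of_dvd Nat.card_pos ?_)
  refine (Nat.dvd_iff_prime_pow_dvd_dvd _ _).2 fun r k hr hk => ?_
  haveI := Fact.mk hr
  obtain ⟨R⟩ : Nonempty (Sylow r N) := inferInstance
  obtain ⟨y, hy, hcomm⟩ := exists_centralizing N (s := 11) (by rw [hord]; norm_num) h
    (fun a b => gap720 hr hN720 a b) R
  -- conjugate the element to `x`
  obtain ⟨P, hP⟩ := (IsPGroup.of_card (p := 11) (n := 1)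
    (show Nat.card (Subgroup.zpowers x) = 11 ^ 1 by rw [Nat.card_zpowers, hx, pow_one])).exists_le_sylow
  obtain ⟨Q, hQ⟩ := (IsPGroup.of_card (p := 11) (n := 1)
    (show Nat.card (Subgroup.zpowers y) = 11 ^ 1 by rw [Nat.card_zpowers, hy, pow_one])).exists_le_sylow
  have hP11 : ∀ P : Sylow 11 G, Nat.card (P : Subgroup G) = 11 := fun P => by
    rw [P.card_eq_multiplicity, hord, show (7920 : ℕ) = 11 * 720 by norm_num,
      Nat.factorization_mul (by norm_num) (by norm_num), Finsupp.add_apply,
      Nat.Prime.factorization_self (by norm_num),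
      Nat.factorization_eq_zero_of_not_dvd (by norm_num : ¬ 11 ∣ 720), add_zero, pow_one]
  obtain ⟨g, hg⟩ := MulAction.exists_smul_eq G Q P
  have hxg : x ∈ (Subgroup.zpowers y).map (MulAut.conj g).toMonoidHom := by
    have hQy : (Q : Subgroup G) = Subgroup.zpowers y :=
      (Subgroup.eq_of_le_of_card_ge hQ (by rw [hP11 Q, Nat.card_zpowers, hy])).symm
    have hxP : x ∈ (P : Subgroup G) := hP (Subgroup.mem_zpowers x)
    rw [← hg] at hxP
    rw [← hQy]
    exact hxP
  obtain ⟨_, ⟨i, rfl⟩, hi⟩ := hxg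
  have hi' : g * y ^ i * g⁻¹ = x := hi
  let f : N →* N := (MulAut.conjNormal g).toMonoidHom
  have hle : (R : Subgroup N).map f ≤ C := by
    rintro _ ⟨z, hz, rfl⟩
    refine mem_centralizer_singleton_iff.2 ?_
    show g * (z : G) * g⁻¹ * x = x * (g * (z : G) * g⁻¹)
    have hc : y ^ i * (z : G) = (z : G) * y ^ i := ((show Commute y (z : G) from hcomm z hz).zpow_left i).eq
    rw [← hi', show g * (z : G) * g⁻¹ * (g * y ^ i * g⁻¹) = g * ((z : G) * y ^ i) * g⁻¹ by group,
      ← hc]
    group
  refine dvd_trans ?_ (Subgroup.card_dvd_of_le hle)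
  rw [Nat.card_congr (Subgroup.equivMapOfInjective _ f (MulAut.conjNormal g).injective).toEquiv.symm,
    R.card_eq_multiplicity]
  exact Nat.pow_dvd_pow r ((hr.pow_dvd_iff_le_factorization Nat.card_pos.ne').1 hk)

theorem main (hord : Nat.card G = 7920) (A : Set ℕ)
    (ha : ∃ a ∈ A, a.Prime ∧ a ∣ Nat.card G) (hb : ∃ b ∉ A, b.Prime ∧ b ∣ Nat.card G)
    (hA : ∀ a ∈ A, ∀ b ∉ A, a.Prime → b.Prime → a ∣ Nat.card G → b ∣ Nat.card G →
      ¬ ∃ g : G, orderOf g = a * b) : IsSimpleGroup G := by
  classical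
  -- commuting elements of prime order lie on the same side
  have hedge : ∀ {p q : ℕ} {u v : G}, p.Prime → q.Prime → orderOf u = p → orderOf v = q →
      u * v = v * u → (p ∈ A ↔ q ∈ A) := by
    intro p q u v hp hq hu hv huv
    by_cases hpq : p = q
    · rw [hpq]
    have ho : orderOf (u * v) = p * q := by
      rw [← hu, ← hv]
      exact (show Commute u v from huv).orderOf_mul_eq_mul_orderOf_of_coprime
        (by rw [hu, hv]; exact (Nat.coprime_primes hp hq).2 hpq)
    constructor
    · intro hpA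
      by_contra hqA
      exact hA p hpA q hqA hp hq (hu ▸ orderOf_dvd_natCard u) (hv ▸ orderOf_dvd_natCard v) ⟨_, ho⟩
    · intro hqA
      by_contra hpA
      exact hA q hqA p hpA hq hp (hv ▸ orderOf_dvd_natCard v) (hu ▸ orderOf_dvd_natCard u)
        ⟨_, ho.trans (mul_comm p q)⟩
  have hprimes : ∀ p : ℕ, p.Prime → p ∣ Nat.card G → p = 2 ∨ p = 3 ∨ p = 5 ∨ p = 11 := by
    intro p hp hd
    rw [hord] at hd
    have : p ∈ Nat.primeFactors 7920 := Nat.mem_primeFactors.2 ⟨hp, hd, by norm_num⟩
    rw [show Nat.primeFactors 7920 = {2, 3, 5, 11} by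
      ext q
      rw [Nat.mem_primeFactors]
      simp only [Finset.mem_insert, Finset.mem_singleton]
      constructor
      · rintro ⟨hq, hq', -⟩
        have h1 : q ∣ 2 ^ 4 * 3 ^ 2 * 5 * 11 := hq'
        rcases (hq.dvd_mul).1 h1 with h2 | h2
        · rcases (hq.dvd_mul).1 h2 with h3 | h3
          · rcases (hq.dvd_mul).1 h3 with h4 | h4
            · exact Or.inl ((Nat.prime_dvd_prime_iff_eq hq Nat.prime_two).1 (hq.dvd_of_dvd_pow h4))
            · exact Or.inr (Or.inl ((Nat.prime_dvd_prime_iff_eq hq Nat.prime_three).1 (hq.dvd_of_dvd_pow h4)))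
          · exact Or.inr (Or.inr (Or.inl ((Nat.prime_dvd_prime_iff_eq hq (by norm_num)).1 h3)))
        · exact Or.inr (Or.inr (Or.inr ((Nat.prime_dvd_prime_iff_eq hq (by norm_num)).1 h2)))
      · rintro (rfl | rfl | rfl | rfl) <;> norm_num] at this
    simpa using this
  have hcon : (11 ∈ A ↔ 2 ∈ A) → (11 ∈ A ↔ 3 ∈ A) → (11 ∈ A ↔ 5 ∈ A) → False := by
    intro h2 h3 h5
    obtain ⟨a, haA, hap, had⟩ := ha
    obtain ⟨b, hbA, hbp, hbd⟩ := hb
    have key : ∀ p : ℕ, p.Prime → p ∣ Nat.card G → (p ∈ A ↔ 11 ∈ A) := fun p hp hd => by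
      rcases hprimes p hp hd with rfl | rfl | rfl | rfl
      exacts [h2.symm, h3.symm, h5.symm, Iff.rfl]
    exact hbA ((key b hbp hbd).2 ((key a hap had).1 haA))
  obtain ⟨P⟩ : Nonempty (Sylow 11 G) := inferInstance
  have hP11 : ∀ P : Sylow 11 G, Nat.card (P : Subgroup G) = 11 := fun P => by
    rw [P.card_eq_multiplicity, hord, show (7920 : ℕ) = 11 * 720 by norm_num,
      Nat.factorization_mul (by norm_num) (by norm_num), Finsupp.add_apply,
      Nat.Prime.factorization_self (by norm_num),
      Nat.factorization_eq_zero_of_not_dvd (by norm_num : ¬ 11 ∣ 720), add_zero, pow_one]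
  obtain ⟨x0, hx0⟩ := exists_prime_orderOf_dvd_card' (G := (P : Subgroup G)) 11 (by rw [hP11])
  obtain ⟨x, hxP, hx⟩ : ∃ x ∈ (P : Subgroup G), orderOf x = 11 :=
    ⟨x0, x0.2, by rw [Subgroup.orderOf_coe, hx0]⟩
  set NP := Subgroup.normalizer ((P : Subgroup G) : Set G) with hNP
  set n := Nat.card (Sylow 11 G) with hn
  have hnidx : n = NP.index := P.card_eq_index_normalizer
  have hnmod : n ≡ 1 [MOD 11] := card_sylow_modEq_one 11 G
  have hndvd : n ∣ 720 := by
    have := P.card_dvd_index
    rwa [show (P : Subgroup G).index = 720 by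
      have := (P : Subgroup G).card_mul_index
      rw [hP11, hord] at this; omega] at this
  have hNPcard : Nat.card NP * n = 7920 := by rw [hnidx, Subgroup.card_mul_index, hord]
  -- `n` is large
  have hnlarge : n = 45 ∨ n = 144 := by
    have hcases : n = 1 ∨ n = 12 ∨ n = 45 ∨ n = 144 := by
      have h1 := Nat.le_of_dvd (by norm_num) hndvd
      have h2 : n ∈ Nat.divisors 720 := Nat.mem_divisors.2 ⟨hndvd, by norm_num⟩
      have h3 : n % 11 = 1 := hnmod
      have key : ∀ d ∈ Nat.divisors 720, d % 11 = 1 → d = 1 ∨ d = 12 ∨ d = 45 ∨ d = 144 := by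
        decide +kernel
      exact key n h2 h3
    by_contra hcon'
    have hsmall : n = 1 ∨ n = 12 := by omega
    have h60 : 660 ∣ Nat.card NP := by
      rcases hsmall with h | h <;> rw [h] at hNPcard
      · exact ⟨12, by omega⟩
      · exact ⟨1, by omega⟩
    let C : Subgroup NP := (P.1.normalizerMonoidHom).ker
    have hCcard : Nat.card C * C.index = Nat.card NP := C.card_mul_index
    have hidx : C.index ∣ 10 := by
      rw [Subgroup.index_ker]
      refine (Subgroup.card_subgroup_dvd_card _).trans ?_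
      have : IsCyclic (P : Subgroup G) := isCyclic_of_prime_card (hP11 P)
      rw [IsCyclic.card_mulAut, hP11, Nat.totient_prime (by norm_num)]
    have hcomm : ∀ c ∈ C, x * (c : G) = (c : G) * x := by
      intro c hc
      have h1 : ((P.1.normalizerMonoidHom c) ⟨x, hxP⟩ : G) = x := by
        rw [MonoidHom.mem_ker.1 hc]; rfl
      have h2 : (c : G) * x * (c : G)⁻¹ = x := h1
      exact (mul_inv_eq_iff_eq_mul.1 h2).symm
    have e11 : ∀ p : ℕ, p.Prime → p ∣ Nat.card C → (11 ∈ A ↔ p ∈ A) := by
      intro p hp hd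
      haveI := Fact.mk hp
      obtain ⟨c, hc⟩ := exists_prime_orderOf_dvd_card' (G := C) p hd
      exact hedge (by norm_num) hp hx (show orderOf ((c : NP) : G) = p by
        rw [Subgroup.orderOf_coe, Subgroup.orderOf_coe, hc]) (hcomm _ c.2)
    have h6 : 6 ∣ Nat.card C := by
      have h1 : 660 ∣ Nat.card C * C.index := hCcard ▸ h60
      have h2 : 660 ∣ Nat.card C * 10 := h1.trans (Nat.mul_dvd_mul_left _ hidx)
      have h3 : 66 * 10 ∣ Nat.card C * 10 := by simpa using h2
      exact (Dvd.intro 11 rfl : 6 ∣ 66).trans (Nat.dvd_of_mul_dvd_mul_right (by norm_num) h3)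
    have e2 := e11 2 Nat.prime_two (dvd_trans (by norm_num) h6)
    have e3 := e11 3 Nat.prime_three (dvd_trans (by norm_num) h6)
    refine hcon e2 e3 ?_
    by_cases h5 : 5 ∣ Nat.card C
    · exact e11 5 (by norm_num) h5
    haveI : Fact (Nat.Prime 5) := ⟨by norm_num⟩
    haveI : Fact (Nat.Prime 3) := ⟨by norm_num⟩
    obtain ⟨R⟩ : Nonempty (Sylow 3 C) := inferInstance
    have hgap : ∀ a b : ℕ, 3 ^ a ∣ Nat.card C → b < a → ¬ 5 ∣ 3 ^ a - 3 ^ b := by
      intro a b ha hba
      have h9 : 3 ^ a ∣ 7920 := ha.trans (((Subgroup.card_subgroup_dvd_card C).trans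
        (Subgroup.card_subgroup_dvd_card NP)).trans (hord ▸ dvd_rfl))
      have ha2 : a < 3 := by
        by_contra hcon
        have : 3 ^ 3 ∣ 7920 := (pow_dvd_pow 3 (not_lt.1 hcon)).trans h9
        norm_num at this
      interval_cases a <;> interval_cases b <;> norm_num
    obtain ⟨y, hy, hyR⟩ := exists_centralizing C (s := 5) ((by norm_num : 5 ∣ 660).trans h60) h5 hgap R
    obtain ⟨z, hz⟩ := exists_prime_orderOf_dvd_card' (G := (R : Subgroup C)) 3 (by
      rw [R.card_eq_multiplicity]
      exact dvd_pow_self 3 (Nat.Prime.factorization_pos_of_dvd Nat.prime_three Nat.card_pos.ne'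
        (dvd_trans (by norm_num) h6)).ne')
    refine e3.trans (hedge (by norm_num) (by norm_num)
      (show orderOf (((z : C) : NP) : G) = 3 by
        rw [Subgroup.orderOf_coe, Subgroup.orderOf_coe, Subgroup.orderOf_coe, hz])
      (show orderOf (y : G) = 5 by rw [Subgroup.orderOf_coe, hy]) ?_)
    exact congrArg Subtype.val (hyR z z.2).symm
  have hnontriv : Nontrivial G := by
    rw [← Finite.one_lt_card_iff_nontrivial, hord]; norm_num
  refine { eq_bot_or_eq_top_of_normal := fun N hNn => ?_ }
  by_contra hN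
  rw [not_or] at hN
  -- a proper normal subgroup containing the elements of order eleven
  obtain ⟨M₀, hM₀n, hM₀, hM₀11⟩ : ∃ M : Subgroup G, M.Normal ∧ M ≠ ⊤ ∧ 11 ∣ Nat.card M := by
    by_cases h11 : 11 ∣ Nat.card N
    · exact ⟨N, hNn, hN.2, h11⟩
    refine ⟨centralizer (N : Set G), inferInstance, fun htop => ?_, ?_⟩
    · obtain ⟨r, hr, hrN⟩ := Nat.exists_prime_and_dvd (fun e : Nat.card N = 1 => hN.1 (Subgroup.card_eq_one.1 e))
      haveI := Fact.mk hr
      obtain ⟨z, hz⟩ := exists_prime_orderOf_dvd_card' (G := N) r hrN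
      have key : ∀ p : ℕ, p.Prime → p ∣ Nat.card G → (r ∈ A ↔ p ∈ A) := fun p hp hd => by
        haveI := Fact.mk hp
        obtain ⟨w, hw⟩ := exists_prime_orderOf_dvd_card' (G := G) p hd
        exact hedge hr hp (show orderOf (z : G) = r by rw [Subgroup.orderOf_coe, hz]) hw
          (Subgroup.mem_centralizer_iff.1 (show w ∈ centralizer (N : Set G) by rw [htop]; trivial) z z.2)
      have k11 := key 11 (by norm_num) (by rw [hord]; norm_num)
      exact hcon (k11.symm.trans (key 2 Nat.prime_two (by rw [hord]; norm_num)))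
        (k11.symm.trans (key 3 Nat.prime_three (by rw [hord]; norm_num)))
        (k11.symm.trans (key 5 (by norm_num) (by rw [hord]; norm_num)))
    · rw [← hx]
      refine Subgroup.orderOf_dvd_natCard _ (Subgroup.mem_centralizer_iff.2 fun z hz => ?_)
      exact (commute_of_not_dvd hord N h11 hx hz).symm
  -- the subgroup they generate
  obtain ⟨M, hMdef⟩ : ∃ M : Subgroup G, M = Subgroup.normalClosure {x} := ⟨_, rfl⟩
  have hMn : M.Normal := hMdef ▸ Subgroup.normalClosure_normal
  have hxM : x ∈ M := hMdef ▸ Subgroup.subset_normalClosure rfl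
  have hmin : ∀ K : Subgroup G, K.Normal → 11 ∣ Nat.card K → M ≤ K := by
    intro K hK h11
    have hxK : x ∈ K := by
      obtain ⟨Q⟩ : Nonempty (Sylow 11 K) := inferInstance
      obtain ⟨k, hk⟩ := exists_prime_orderOf_dvd_card' (G := K) 11 h11
      obtain ⟨R, hR⟩ := (IsPGroup.of_card (p := 11) (n := 1) (show Nat.card (Subgroup.zpowers (k : G)) = 11 ^ 1 by
        rw [Nat.card_zpowers, Subgroup.orderOf_coe, hk, pow_one])).exists_le_sylow
      have hRk : (R : Subgroup G) = Subgroup.zpowers (k : G) :=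
        (Subgroup.eq_of_le_of_card_ge hR (by rw [hP11 R, Nat.card_zpowers, Subgroup.orderOf_coe, hk])).symm
      obtain ⟨g, hg⟩ := MulAction.exists_smul_eq G R P
      rw [← hg] at hxP
      obtain ⟨w, hw, rfl⟩ := hxP
      rw [hRk] at hw
      exact hK.conj_mem w ((Subgroup.zpowers_le.2 k.2) hw) g
    rw [hMdef]
    exact Subgroup.normalClosure_le_normal (Set.singleton_subset_iff.2 hxK)
  have hMtop : M ≠ ⊤ := fun e => hM₀ (top_le_iff.1 (e ▸ hmin M₀ hM₀n hM₀11))
  have hPM : (P : Subgroup G) ≤ M := by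
    have : Subgroup.zpowers x = (P : Subgroup G) := Subgroup.eq_of_le_of_card_ge
      (Subgroup.zpowers_le.2 hxP) (by rw [hP11, Nat.card_zpowers, hx])
    rw [← this]
    exact Subgroup.zpowers_le.2 hxM
  -- the number of Sylow subgroups of `M`
  set PM : Sylow 11 M := P.subtype hPM with hPMdef
  set NM := Subgroup.normalizer ((PM : Subgroup M) : Set M) with hNM
  have hPMcard : Nat.card (PM : Subgroup M) = 11 := by
    show Nat.card ((P : Subgroup G).subgroupOf M) = 11
    rw [Nat.card_congr (Subgroup.subgroupOfEquivOfLe hPM).toEquiv, hP11]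
  have hNMeq : NM = NP.subgroupOf M := by
    rw [hNM, hPMdef, Sylow.coe_subtype, ← Subgroup.subgroupOf_normalizer_eq hPM]
  have hidxM : NM.index = n := by
    have hF : NP ⊔ M = ⊤ := by
      have := Sylow.normalizer_sup_eq_top (N := M) PM
      rwa [hPMdef, Sylow.coe_subtype, Subgroup.map_subgroupOf_eq_of_le hPM] at this
    rw [hnidx, hNMeq]
    show NP.relIndex M = NP.index
    have e1 := Subgroup.relIndex_mul_index (inf_le_left : NP ⊓ M ≤ NP)
    have e2 := Subgroup.relIndex_mul_index (inf_le_right : NP ⊓ M ≤ M)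
    rw [Subgroup.inf_relIndex_left] at e1
    rw [Subgroup.inf_relIndex_right] at e2
    have e3 : M.relIndex NP = M.index := by
      rw [← Subgroup.relIndex_top_right M, ← hF, Subgroup.relIndex_sup_right]
    rw [e3, mul_comm M.index] at e1
    exact Nat.eq_of_mul_eq_mul_right (Nat.pos_of_ne_zero M.index_ne_zero_of_finite) (e2.trans e1.symm)
  have hMcard : Nat.card M < 7920 ∧ Nat.card M ∣ 7920 ∧ 11 * n ∣ Nat.card M := by
    refine ⟨?_, hord ▸ Subgroup.card_subgroup_dvd_card M, ?_⟩
    · rw [← hord]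
      exact lt_of_le_of_ne (Subgroup.card_le_card_group M) fun e => hMtop ((Subgroup.card_eq_iff_eq_top M).1 e)
    · rw [← hidxM, ← NM.card_mul_index]
      exact Nat.mul_dvd_mul_right ((show 11 ∣ Nat.card (PM : Subgroup M) by rw [hPMcard]).trans
        (Subgroup.card_dvd_of_le Subgroup.le_normalizer)) _
  -- perfect
  have hperf : commutator M = ⊤ := by
    by_contra hD
    let D : Subgroup G := (commutator M).map M.subtype
    have hD11 : ¬ 11 ∣ Nat.card D := fun h11 => hD <| top_le_iff.1 fun m _ => by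
      have := hmin D inferInstance h11 m.2
      obtain ⟨w, hw, hwm⟩ := this
      exact (Subtype.ext hwm : w = m) ▸ hw
    have hcen : ∀ m ∈ M, m * x * m⁻¹ = x := by
      intro m hm
      have hqD : m * x * m⁻¹ * x⁻¹ ∈ D := ⟨⁅(⟨m, hm⟩ : M), ⟨x, hxM⟩⁆,
        Subgroup.commutator_mem_commutator (Subgroup.mem_top _) (Subgroup.mem_top _), rfl⟩
      have hc := commute_of_not_dvd hord D hD11 hx hqD
      have h1 : (m * x * m⁻¹ * x⁻¹) ^ 11 = 1 := by
        have h2 : ((m * x * m⁻¹ * x⁻¹) * x) ^ 11 = (m * x * m⁻¹ * x⁻¹) ^ 11 * x ^ 11 :=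
          Commute.mul_pow hc.symm 11
        rw [inv_mul_cancel_right, conj_pow, ← hx, pow_orderOf_eq_one, mul_one, mul_one, mul_inv_cancel] at h2
        rw [← hx]
        exact h2.symm
      have h3 : orderOf (m * x * m⁻¹ * x⁻¹) = 1 := by
        rcases (Nat.dvd_prime (by norm_num : Nat.Prime 11)).1 (orderOf_dvd_of_pow_eq_one h1) with h | h
        · exact h
        · exact absurd (h ▸ Subgroup.orderOf_dvd_natCard D hqD) hD11
      exact mul_inv_eq_one.1 (orderOf_eq_one_iff.1 h3)
    have : NM = ⊤ := by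
      rw [hNMeq, Subgroup.subgroupOf_eq_top]
      intro m hm
      have hz : Subgroup.zpowers x = (P : Subgroup G) := Subgroup.eq_of_le_of_card_ge
        (Subgroup.zpowers_le.2 hxP) (by rw [hP11, Nat.card_zpowers, hx])
      have hcm : ∀ g ∈ (P : Subgroup G), m * g * m⁻¹ = g := fun g hg => by
        rw [← hz] at hg
        obtain ⟨i, rfl⟩ := hg
        rw [← MulAut.conj_apply, map_zpow, MulAut.conj_apply, hcen m hm]
      rw [hNP, Subgroup.mem_normalizer_iff]
      refine fun g => ⟨fun hg => (hcm g hg).symm ▸ hg, fun hg => ?_⟩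
      have := hcm _ hg
      have e : m * g * m⁻¹ = g := (MulAut.conj m).injective this
      exact e ▸ hg
    rw [this, Subgroup.index_top] at hidxM
    omega
  rcases hnlarge with h45 | h144
  · -- a simple quotient
    rw [h45] at hidxM hMcard
    have hMnt : Nontrivial M := Subgroup.nontrivial_iff_exists_ne_one M |>.2
      ⟨x, hxM, fun e => by rw [e, orderOf_one] at hx; norm_num at hx⟩
    obtain ⟨L, ⟨hLn, hLtop⟩, hLmax⟩ := (Set.toFinite {L : Subgroup M | L.Normal ∧ L ≠ ⊤}).exists_maximal
      ⟨⊥, inferInstance, bot_ne_top⟩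
    have : Nontrivial (M ⧸ L) := by
      rw [← not_subsingleton_iff_nontrivial, QuotientGroup.subsingleton_iff]
      exact hLtop
    have hS : IsSimpleGroup (M ⧸ L) := by
      refine { eq_bot_or_eq_top_of_normal := fun K hK => ?_ }
      by_cases htop : K.comap (QuotientGroup.mk' L) = ⊤
      · right
        rw [← Subgroup.map_comap_eq_self_of_surjective (QuotientGroup.mk'_surjective L) K, htop,
          Subgroup.map_top_of_surjective _ (QuotientGroup.mk'_surjective L)]
      · left
        have hle : L ≤ K.comap (QuotientGroup.mk' L) := fun l hl => by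
          show QuotientGroup.mk' L l ∈ K
          rw [show QuotientGroup.mk' L l = 1 from (QuotientGroup.eq_one_iff l).2 hl]
          exact one_mem K
        rw [← Subgroup.map_comap_eq_self_of_surjective (QuotientGroup.mk'_surjective L) K,
          Subgroup.map_eq_bot_iff, QuotientGroup.ker_mk']
        exact hLmax ⟨hK.comap _, htop⟩ hle
    have hna : ¬ IsMulCommutative (M ⧸ L) := fun hc => hLtop <| top_le_iff.1 <| by
      rw [← hperf]
      exact Subgroup.Normal.quotient_commutative_iff_commutator_le.1 hc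
    set S := M ⧸ L
    obtain ⟨nS, hnS⟩ : ∃ t, t = Nat.card (Sylow 11 S) := ⟨_, rfl⟩
    set PS : Sylow 11 S := PM.mapSurjective (QuotientGroup.mk'_surjective L) with hPS
    have hnS45 : nS ∣ 45 := by
      rw [hnS, PS.card_eq_index_normalizer, ← hidxM]
      refine dvd_trans (Subgroup.index_dvd_of_le ?_) (Subgroup.index_map_dvd NM (QuotientGroup.mk'_surjective L))
      exact Subgroup.le_normalizer_map (f := QuotientGroup.mk' L)
    have hSdvd : Nat.card S ∣ Nat.card M := Subgroup.card_quotient_dvd_card L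
    have hS11 : 11 ∣ Nat.card S := by
      by_contra h11
      have hxL : (⟨x, hxM⟩ : M) ∈ L := by
        rw [← QuotientGroup.eq_one_iff, ← orderOf_eq_one_iff]
        have h1 := orderOf_map_dvd (QuotientGroup.mk' L) (⟨x, hxM⟩ : M)
        rw [Subgroup.orderOf_mk, hx] at h1
        exact ((Nat.dvd_prime (by norm_num)).1 h1).resolve_right fun h => h11 (h ▸ orderOf_dvd_natCard _)
      refine hLtop (top_le_iff.1 fun m _ => ?_)
      have hle : M ≤ L.map M.subtype := by
        nth_rw 1 [hMdef]
        rw [Subgroup.normalClosure, Subgroup.closure_le]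
        intro c hc
        obtain ⟨a, ha', hconj⟩ := Group.mem_conjugatesOfSet_iff.1 hc
        rw [Set.mem_singleton_iff.1 ha'] at hconj
        obtain ⟨g, rfl⟩ := _root_.isConj_iff.1 hconj
        have hF : NP ⊔ M = ⊤ := by
          have := Sylow.normalizer_sup_eq_top (N := M) PM
          rwa [hPMdef, Sylow.coe_subtype, Subgroup.map_subgroupOf_eq_of_le hPM] at this
        have hgM : g ∈ M ⊔ NP := by rw [sup_comm, hF]; trivial
        obtain ⟨m, hm, h, hh, rfl⟩ := Subgroup.mem_sup_of_normal_left.1 hgM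
        have hzp : Subgroup.zpowers x = (P : Subgroup G) := Subgroup.eq_of_le_of_card_ge
          (Subgroup.zpowers_le.2 hxP) (by rw [hP11, Nat.card_zpowers, hx])
        obtain ⟨i, hi⟩ : h * x * h⁻¹ ∈ Subgroup.zpowers x :=
          hzp ▸ (Subgroup.mem_normalizer_iff.1 hh x).1 hxP
        refine ⟨⟨m, hm⟩ * (⟨x, hxM⟩ : M) ^ i * (⟨m, hm⟩ : M)⁻¹, hLn.conj_mem _ (L.zpow_mem hxL i) _, ?_⟩
        have hi' : x ^ i = h * x * h⁻¹ := hi
        simp only [map_mul, map_inv, map_zpow, Subgroup.coe_subtype, hi']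
        group
      obtain ⟨w, hw, hwm⟩ := hle m.2
      exact (Subtype.ext hwm : w = m) ▸ hw
    have hnS1 : nS ≠ 1 := fun e => by
      have hnorm : (PS : Subgroup S).Normal := by
        have h0 := PS.card_eq_index_normalizer
        rw [← hnS, e] at h0
        exact Subgroup.normalizer_eq_top_iff.1 (Subgroup.index_eq_one.1 h0.symm)
      have hPS1 : (PS : Subgroup S) ≠ ⊥ := PS.ne_bot_of_dvd_card hS11
      have hPStop := (hnorm.eq_bot_or_eq_top).resolve_left hPS1
      obtain ⟨k, hk⟩ := IsPGroup.iff_card.1 PS.isPGroup'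
      rw [hPStop, Subgroup.card_top] at hk
      haveI := (IsPGroup.of_card hk).isNilpotent
      exact hna ⟨⟨fun a b => IsSimpleGroup.comm_iff_isSolvable.mpr (inferInstance : Group.IsSolvable S) a b⟩⟩
    have hnSmod : nS % 11 = 1 := hnS ▸ card_sylow_modEq_one 11 S
    have hnSval : nS = 45 := by
      have h2 : nS ∈ Nat.divisors 45 := Nat.mem_divisors.2 ⟨hnS45, by norm_num⟩
      have key : ∀ d ∈ Nat.divisors 45, d % 11 = 1 → d = 1 ∨ d = 45 := by decide +kernel
      exact (key nS h2 hnSmod).resolve_left hnS1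
    have h495 : 495 ∣ Nat.card S := by
      have h1 : 45 ∣ (PS : Subgroup S).index := hnSval ▸ hnS ▸ PS.card_dvd_index
      have h2 : 11 ∣ Nat.card (PS : Subgroup S) := by
        rw [PS.card_eq_multiplicity]
        exact dvd_pow_self 11 (Nat.Prime.factorization_pos_of_dvd (by norm_num) Nat.card_pos.ne' hS11).ne'
      rw [← (PS : Subgroup S).card_mul_index]
      exact Nat.mul_dvd_mul h2 h1
    obtain ⟨k, hk⟩ := h495
    have hlt : Nat.card S < 7920 := lt_of_le_of_lt (Nat.le_of_dvd Nat.card_pos hSdvd) hMcard.1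
    have hk16 : k ∣ 16 := by
      have : 495 * k ∣ 495 * 16 := hk ▸ (hSdvd.trans hMcard.2.1)
      exact Nat.dvd_of_mul_dvd_mul_left (by norm_num) this
    have hkle : k ≤ 16 := Nat.le_of_dvd (by norm_num) hk16
    interval_cases k <;> first | (norm_num at hk16; done) | skip
    · exact SmallOrd.no_options hna (p := 11) (m := 45) (by norm_num) (by rw [hk]) (by norm_num) (by norm_num)
        (by norm_num) (by decide +kernel)
    · have := even_simple_dvd hna (by rw [hk]; decide)
      rw [hk] at this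
      norm_num at this
    · exact SmallOrd.only_two hna (n := 1980) (p := 11) (m := 180) (c := 2) (by norm_num) (by rw [hk])
        (by norm_num) (by norm_num) (by norm_num) (by norm_num) (by decide +kernel) (by norm_num)
        (by decide +kernel)
    · exact SmallOrd.only_two hna (n := 3960) (p := 11) (m := 360) (c := 4) (by norm_num) (by rw [hk])
        (by norm_num) (by norm_num) (by norm_num) (by norm_num) (by decide +kernel) (by norm_num)
        (by decide +kernel)
    · omega
  · -- no fusion in the Sylow normaliser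
    rw [h144] at hidxM hMcard
    have hMcard' : Nat.card M = 1584 := by
      obtain ⟨h1, h2, h3⟩ := hMcard
      obtain ⟨k, hk⟩ := h3
      have : k ∣ 5 := Nat.dvd_of_mul_dvd_mul_left (by norm_num : 0 < 11 * 144) (by rw [← hk]; exact h2)
      have := Nat.le_of_dvd (by norm_num) this
      interval_cases k <;> omega
    have hNMP : NM = (PM : Subgroup M) := by
      refine (Subgroup.eq_of_le_of_card_ge Subgroup.le_normalizer ?_).symm
      have := NM.card_mul_index
      rw [hidxM, hMcard'] at this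
      have h11 : Nat.card NM = 11 := by omega
      rw [hPMcard]
      exact h11.le
    have : IsCyclic (PM : Subgroup M) := isCyclic_of_prime_card hPMcard
    have hle : NM ≤ centralizer ((PM : Subgroup M) : Set M) := fun g hg => by
      rw [hNMP] at hg
      obtain ⟨⟨c, hc⟩, hgen⟩ := IsCyclic.exists_generator (α := (PM : Subgroup M))
      refine mem_centralizer_iff.2 fun w hw => ?_
      obtain ⟨i, hi⟩ := hgen ⟨g, hg⟩
      obtain ⟨j, hj⟩ := hgen ⟨w, hw⟩
      have hi' : c ^ i = g := by simpa using congrArg Subtype.val hi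
      have hj' : c ^ j = w := by simpa using congrArg Subtype.val hj
      rw [← hi', ← hj', ← zpow_add, ← zpow_add, add_comm]
    have hk := MonoidHom.ker_transferSylow_isComplement' PM hle
    have hcomm : commutator M ≤ (MonoidHom.transferSylow PM hle).ker := by
      rw [_root_.commutator_def, Subgroup.commutator_le]
      intro a _ b _
      rw [MonoidHom.mem_ker, map_commutatorElement, commutatorElement_eq_one_iff_mul_comm]
      exact (IsCyclic.isMulCommutative (α := (PM : Subgroup M))).is_comm.comm _ _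
    rw [hperf, top_le_iff] at hcomm
    have := hk.card_mul_card
    rw [hcomm, Subgroup.card_top, hPMcard, hMcard'] at this
    norm_num at this

end Cfsg.Agent.Fus.Order7920
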