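import Cfsg.Agent.Lib.Fus.RootSets
import Cfsg.Agent.Lib.Grp.Coprime

/-!
Lines in sets of abstract root subgroups: the members contained in `A⁅A, B⁆`, adjacency of the
members of a line, connectivity of the rank one graph, and homomorphic images.
-/

set_option autoImplicit false
set_option linter.style.haveILetI false

open scoped commutatorElement

namespace Cfsg.Agent.Fus

open Subgroup

variable {G : Type*} [Group G] {S : Set (Subgroup G)}

/-! ### Images of pairs -/

theorem map_conjBy {H : Type*} [Group H] (f : G →* H) (A : Subgroup G) (g : G) :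
    (conjBy A g).map f = conjBy (A.map f) (f g) := by
  simp only [conjBy, Subgroup.map_map]
  congr 1
  ext x
  simp

theorem conjBy_sup (A B : Subgroup G) (g : G) :
    conjBy (A ⊔ B) g = conjBy A g ⊔ conjBy B g := Subgroup.map_sup _ _ _

/-- The image of a rank one pair with different images is a rank one pair. -/
theorem isRankOnePair_map {H : Type*} [Group H] (f : G →* H) {A B : Subgroup G}
    (h : IsRankOnePair A B) (hne : A.map f ≠ B.map f) : IsRankOnePair (A.map f) (B.map f) := by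
  have key : ∀ {A B : Subgroup G}, RankOneCondition A B → A.map f ≠ B.map f →
      RankOneCondition (A.map f) (B.map f) := by
    rintro A B hc hne x ⟨a, ha, rfl⟩ hx1
    obtain ⟨b, hb, -, e⟩ := hc a ha fun e => hx1 (by rw [e, map_one])
    have e' := congrArg (Subgroup.map f) e
    rw [map_conjBy, map_conjBy, map_inv, map_inv] at e'
    refine ⟨f b, ⟨b, hb, rfl⟩, fun hb1 => hne ?_, e'⟩
    rw [hb1, inv_one, conjBy_one, eq_comm, conjBy_eq_iff, inv_inv,
      conjBy_eq_self_of_mem (Subgroup.mem_map_of_mem f ha)] at e'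
    exact e'.symm
  haveI := h.nilpotent_left
  haveI := h.nilpotent_right
  exact ⟨hne, Group.nilpotent_of_surjective _ (f.subgroupMap_surjective A),
    Group.nilpotent_of_surjective _ (f.subgroupMap_surjective B),
    key h.cond_left hne, key h.cond_right hne.symm⟩

theorem isRankOnePair_conjBy {A B : Subgroup G} (h : IsRankOnePair A B) (g : G) :
    IsRankOnePair (conjBy A g) (conjBy B g) :=
  isRankOnePair_map _ h fun e => h.ne (conjBy_injective g e)

theorem fAdj_conjBy (hS : IsRootSubgroupSet S) {A B : Subgroup G} (h : FAdj S A B) (g : G) :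
    FAdj S (conjBy A g) (conjBy B g) :=
  ⟨hS.conj_mem A h.1 g, hS.conj_mem B h.2.1 g, isRankOnePair_conjBy h.2.2 g⟩

theorem rtg_conjBy (hS : IsRootSubgroupSet S) {A B : Subgroup G}
    (h : Relation.ReflTransGen (FAdj S) A B) (g : G) :
    Relation.ReflTransGen (FAdj S) (conjBy A g) (conjBy B g) := by
  induction h with
  | refl => exact Relation.ReflTransGen.refl
  | tail _ h ih => exact ih.tail (fAdj_conjBy hS h g)

theorem rtg_symm {A B : Subgroup G} (h : Relation.ReflTransGen (FAdj S) A B) :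
    Relation.ReflTransGen (FAdj S) B A := by
  induction h with
  | refl => exact Relation.ReflTransGen.refl
  | tail _ h ih => exact ih.head ⟨h.2.1, h.1, RankOnePair_symm h.2.2⟩

theorem not_isolated_of_pair {A B : Subgroup G} (hA : A ∈ S) (hB : B ∈ S)
    (h : IsRankOnePair A B) : ¬ IsIsolatedIn (FAdj S) S A :=
  fun hi => (hi.2 B).1 ⟨hA, hB, h⟩

theorem not_isolated_conjBy (hS : IsRootSubgroupSet S) {A : Subgroup G}
    (hA : ¬ IsIsolatedIn (FAdj S) S A) (hAS : A ∈ S) (g : G) :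
    ¬ IsIsolatedIn (FAdj S) S (conjBy A g) := by
  obtain ⟨B, hB, h⟩ := not_isIsolatedIn hA hAS
  exact not_isolated_of_pair (hS.conj_mem A hAS g) (hS.conj_mem B hB g) (isRankOnePair_conjBy h g)

/-- A member with a rank one partner meets every other member trivially. -/
theorem eq_of_mem_inter (hS : IsRootSubgroupSet S) {A B : Subgroup G}
    (hA : ¬ IsIsolatedIn (FAdj S) S A) (hAS : A ∈ S) (hB : B ∈ S) {a : G} (ha : a ∈ A)
    (haB : a ∈ B) (ha1 : a ≠ 1) : A = B := by
  obtain ⟨C, hC, hAC⟩ := not_isIsolatedIn hA hAS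
  have hcom : ⁅B, A⁆ = ⊥ := commutator_eq_bot_of_centralize hS hB hAS haB ha1 fun a' ha' =>
    IsRootSubgroupSet.commute hS hAS ha ha'
  exact (eq_of_conjBy_eq hS hAS hC hB hAC haB ha1 ha ha1 (fun c _ => rfl) hcom).symm

/-! ### The commutator case -/

theorem RootCommutatorCase.symm' {A B : Subgroup G} (h : RootCommutatorCase S A B) :
    RootCommutatorCase S B A := by
  obtain ⟨h1, h2, h3, h4⟩ := h
  have hinv : ∀ (X : Subgroup G) (u : G → G) (v : G → G), (∀ x, u x = (v x)⁻¹) →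
      Subgroup.closure (u '' (X : Set G)) = Subgroup.closure (v '' (X : Set G)) := by
    intro X u v huv
    refine le_antisymm ((Subgroup.closure_le _).2 ?_) ((Subgroup.closure_le _).2 ?_) <;>
      rintro _ ⟨x, hx, rfl⟩
    · rw [huv]; exact inv_mem (Subgroup.subset_closure ⟨x, hx, rfl⟩)
    · rw [← inv_inv (v x), ← huv]; exact inv_mem (Subgroup.subset_closure ⟨x, hx, rfl⟩)
  unfold RootCommutatorCase
  rw [Subgroup.commutator_comm B A, sup_comm B A]
  refine ⟨h1, h2, fun b hb hb1 => ?_, fun a ha ha1 => ?_⟩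
  · rw [← h4 b hb hb1]; exact hinv A _ _ fun x => by group
  · rw [← h3 a ha ha1]; exact hinv B _ _ fun x => by group

section Case

variable {A B : Subgroup G}

theorem RootCommutatorCase.commute_left (h : RootCommutatorCase S A B) {a c : G} (ha : a ∈ A)
    (hc : c ∈ ⁅A, B⁆) : a * c = c * a := (h.2.1 c hc a (Subgroup.mem_sup_left ha)).symm

theorem RootCommutatorCase.commute_right (h : RootCommutatorCase S A B) {b c : G} (hb : b ∈ B)
    (hc : c ∈ ⁅A, B⁆) : b * c = c * b := (h.2.1 c hc b (Subgroup.mem_sup_right hb)).symm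

theorem RootCommutatorCase.exists_left (h : RootCommutatorCase S A B) {a c : G} (ha : a ∈ A)
    (ha1 : a ≠ 1) (hc : c ∈ ⁅A, B⁆) : ∃ b ∈ B, ⁅a, b⁆ = c := by
  have hc' := hc
  rw [← h.2.2.1 a ha ha1] at hc'
  induction hc' using Subgroup.closure_induction with
  | mem y hy => exact hy
  | one => exact ⟨1, B.one_mem, commutatorElement_one_right a⟩
  | mul y z hy hz ihy ihz =>
    rw [h.2.2.1 a ha ha1] at hy hz
    obtain ⟨b, hb, rfl⟩ := ihy hy
    obtain ⟨b', hb', rfl⟩ := ihz hz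
    refine ⟨b * b', B.mul_mem hb hb', ?_⟩
    calc ⁅a, b * b'⁆ = ⁅a, b⁆ * (b * ⁅a, b'⁆ * b⁻¹) := by
          simp only [commutatorElement_def]; group
      _ = ⁅a, b⁆ * ⁅a, b'⁆ := by rw [RootCommutatorCase.commute_right h hb hz, mul_inv_cancel_right]
  | inv y hy ih =>
    rw [h.2.2.1 a ha ha1] at hy
    obtain ⟨b, hb, rfl⟩ := ih hy
    refine ⟨b⁻¹, B.inv_mem hb, ?_⟩
    calc ⁅a, b⁻¹⁆ = b⁻¹ * ⁅a, b⁆⁻¹ * b⁻¹⁻¹ := by simp only [commutatorElement_def]; group
      _ = ⁅a, b⁆⁻¹ := by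
          rw [RootCommutatorCase.commute_right h (B.inv_mem hb) (inv_mem hy), mul_inv_cancel_right]

theorem RootCommutatorCase.exists_right (h : RootCommutatorCase S A B) {b c : G} (hb : b ∈ B)
    (hb1 : b ≠ 1) (hc : c ∈ ⁅A, B⁆) : ∃ a ∈ A, ⁅a, b⁆ = c := by
  obtain ⟨a, ha, e⟩ := RootCommutatorCase.exists_left (RootCommutatorCase.symm' h) hb hb1
    (c := c⁻¹) (by rw [Subgroup.commutator_comm]; exact inv_mem hc)
  exact ⟨a, ha, by rw [← commutatorElement_inv, e, inv_inv]⟩

theorem RootCommutatorCase.ne_left (hS : IsRootSubgroupSet S) (h : RootCommutatorCase S A B) :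
    A ≠ ⁅A, B⁆ := fun e => hS.ne_bot _ h.1 (Subgroup.commutator_eq_bot_iff_le_centralizer.2
      fun a ha => Subgroup.mem_centralizer_iff.2 fun b hb => RootCommutatorCase.commute_right h hb (e ▸ ha))

/-- No non-identity element of `A` commutes with a non-identity element of `B`. -/
def LineInj (A B : Subgroup G) : Prop := ∀ a ∈ A, ∀ b ∈ B, a * b = b * a → a = 1 ∨ b = 1

theorem LineInj.symm (h : LineInj A B) : LineInj B A :=
  fun b hb a ha e => (h a ha b hb e.symm).symm

theorem lineInj_of_not_isolated (hS : IsRootSubgroupSet S) (hA : ¬ IsIsolatedIn (FAdj S) S A)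
    (hAS : A ∈ S) (h : RootCommutatorCase S A B) : LineInj A B := by
  intro a ha b hb e
  by_contra hcon
  push Not at hcon
  obtain ⟨ha1, hb1⟩ := hcon
  have hAb : A = conjBy A b := eq_of_mem_inter hS hA hAS (hS.conj_mem A hAS b) ha
    (mem_conjBy.2 (by rwa [mul_assoc, e, inv_mul_cancel_left])) ha1
  refine hS.ne_bot _ h.1 ?_
  rw [← h.2.2.2 b hb hb1, Subgroup.closure_eq_bot_iff]
  rintro _ ⟨x, hx, rfl⟩
  show x * b * x⁻¹ * b⁻¹ = 1
  by_contra hne
  refine RootCommutatorCase.ne_left hS h (eq_of_mem_inter hS hA hAS h.1 (a := x * b * x⁻¹ * b⁻¹) ?_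
    (Subgroup.commutator_mem_commutator hx hb) hne)
  rw [show x * b * x⁻¹ * b⁻¹ = x * (b * x⁻¹ * b⁻¹) by group]
  exact A.mul_mem hx (hAb.ge (conj_mem_conjBy b (A.inv_mem hx)))

theorem exists_mem_ne_one {A : Subgroup G} (h : A ≠ ⊥) : ∃ a ∈ A, a ≠ 1 := by
  obtain ⟨a, ha⟩ := A.ne_bot_iff_exists_ne_one.1 h
  exact ⟨a, a.2, fun e => ha (Subtype.ext e)⟩

theorem line_inf (hS : IsRootSubgroupSet S) (hB : B ∈ S) (h : RootCommutatorCase S A B)
    (hi : LineInj A B) {x : G} (hx : x ∈ A) (hxC : x ∈ ⁅A, B⁆) : x = 1 := by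
  obtain ⟨b, hb, hb1⟩ := exists_mem_ne_one (hS.ne_bot B hB)
  exact (hi x hx b hb (RootCommutatorCase.commute_right h hb hxC).symm).resolve_right hb1

theorem conjBy_le_line (A B : Subgroup G) {b : G} (hb : b ∈ B) :
    conjBy A b ≤ A ⊔ ⁅A, B⁆ := by
  rintro _ ⟨a, ha, rfl⟩
  show b * a * b⁻¹ ∈ _
  rw [show b * a * b⁻¹ = ⁅a, b⁆⁻¹ * a by rw [commutatorElement_def]; group]
  exact mul_mem (Subgroup.mem_sup_right (inv_mem (Subgroup.commutator_mem_commutator ha hb)))
    (Subgroup.mem_sup_left ha)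

theorem mem_line (h : RootCommutatorCase S A B) {x : G} (hx : x ∈ A ⊔ ⁅A, B⁆) :
    ∃ a ∈ A, ∃ c ∈ ⁅A, B⁆, a * c = x := by
  have hn : A ≤ Subgroup.normalizer ((⁅A, B⁆ : Subgroup G) : Set G) := fun a ha =>
    Subgroup.centralizer_le_normalizer _
      (Subgroup.mem_centralizer_iff.2 fun c hc => (RootCommutatorCase.commute_left h ha hc).symm)
  rw [← SetLike.mem_coe, Subgroup.coe_mul_of_left_le_normalizer_right _ _ hn] at hx
  obtain ⟨a, ha, c, hc, rfl⟩ := hx
  exact ⟨a, ha, c, hc, rfl⟩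

theorem line_cover (h : RootCommutatorCase S A B) {x : G} (hx : x ∈ A ⊔ ⁅A, B⁆) :
    x ∈ ⁅A, B⁆ ∨ ∃ b ∈ B, x ∈ conjBy A b := by
  obtain ⟨a, ha, c, hc, rfl⟩ := mem_line h hx
  by_cases ha1 : a = 1
  · exact Or.inl (by rwa [ha1, one_mul])
  · obtain ⟨b, hb, e⟩ := RootCommutatorCase.exists_left h ha ha1 (inv_mem hc)
    refine Or.inr ⟨b, hb, a, ha, ?_⟩
    show b * a * b⁻¹ = a * c
    rw [RootCommutatorCase.commute_left h ha hc, ← inv_inv c, ← e, commutatorElement_def]
    group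

theorem line_conj_inf (hS : IsRootSubgroupSet S) (hB : B ∈ S) (h : RootCommutatorCase S A B)
    (hi : LineInj A B) {b b' : G} (hb : b ∈ B) (hb' : b' ∈ B) {x : G} (hx : x ∈ conjBy A b)
    (hx' : x ∈ conjBy A b') (hx1 : x ≠ 1) : b = b' := by
  obtain ⟨a, ha, rfl⟩ := hx
  obtain ⟨a', ha', e⟩ := hx'
  change b' * a' * b'⁻¹ = b * a * b⁻¹ at e
  have e2 : a' = b'⁻¹ * b * a * (b'⁻¹ * b)⁻¹ := by
    rw [show b'⁻¹ * b * a * (b'⁻¹ * b)⁻¹ = b'⁻¹ * (b * a * b⁻¹) * b' by group, ← e]
    group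
  have hbb : b'⁻¹ * b ∈ B := B.mul_mem (B.inv_mem hb') hb
  have hz : a' * a⁻¹ = 1 := line_inf hS hB h hi (A.mul_mem ha' (A.inv_mem ha)) (by
    rw [e2, ← commutatorElement_def, Subgroup.commutator_comm]
    exact Subgroup.commutator_mem_commutator hbb ha)
  rw [mul_inv_eq_one] at hz
  rw [hz] at e2
  have hcm : a * (b'⁻¹ * b) = b'⁻¹ * b * a := (eq_mul_inv_iff_mul_eq.1 e2)
  refine (inv_mul_eq_one.1 ((hi a ha _ hbb hcm).resolve_left fun e => hx1 ?_)).symm
  show b * a * b⁻¹ = 1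
  rw [e, mul_one, mul_inv_cancel]

theorem line_conj_inf_comm (hS : IsRootSubgroupSet S) (hB : B ∈ S)
    (h : RootCommutatorCase S A B) (hi : LineInj A B) {b : G} (hb : b ∈ B) {x : G}
    (hx : x ∈ conjBy A b) (hxC : x ∈ ⁅A, B⁆) : x = 1 := by
  obtain ⟨a, ha, rfl⟩ := hx
  change b * a * b⁻¹ ∈ ⁅A, B⁆ at hxC
  show b * a * b⁻¹ = 1
  rw [line_inf hS hB h hi ha (?_ : a ∈ ⁅A, B⁆), mul_one, mul_inv_cancel]
  rw [show a = b⁻¹ * (b * a * b⁻¹) * b by group, RootCommutatorCase.commute_right h (B.inv_mem hb) hxC,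
    inv_mul_cancel_right]
  exact hxC

theorem line_partition (hS : IsRootSubgroupSet S) (hB : B ∈ S) (h : RootCommutatorCase S A B)
    (hi : LineInj A B) : IsSubgroupPartition (A ⊔ ⁅A, B⁆)
      ((fun b : G => conjBy A b) '' (B : Set G) ∪ {⁅A, B⁆}) := by
  refine ⟨?_, fun x hx _ => ?_, ?_⟩
  · rintro E (⟨b, hb, rfl⟩ | rfl)
    · exact conjBy_le_line A B hb
    · exact le_sup_right
  · rcases line_cover h hx with h' | ⟨b, hb, h'⟩
    · exact ⟨_, Or.inr rfl, h'⟩
    · exact ⟨_, Or.inl ⟨b, hb, rfl⟩, h'⟩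
  · rintro E (⟨b, hb, rfl⟩ | rfl) E' (⟨b', hb', rfl⟩ | rfl) hne
    · refine eq_bot_iff.2 fun x hx => Subgroup.mem_bot.2 (by_contra fun hx1 => hne ?_)
      rw [line_conj_inf hS hB h hi hb hb' hx.1 hx.2 hx1]
    · exact eq_bot_iff.2 fun x hx =>
        Subgroup.mem_bot.2 (line_conj_inf_comm hS hB h hi hb hx.1 hx.2)
    · exact eq_bot_iff.2 fun x hx =>
        Subgroup.mem_bot.2 (line_conj_inf_comm hS hB h hi hb' hx.2 hx.1)
    · exact absurd rfl hne

/-- A member inside `⁅A, B⁆` equals it, when `A` has a rank one partner. -/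
theorem eq_commutator_of_le (hS : IsRootSubgroupSet S) (hA : ¬ IsIsolatedIn (FAdj S) S A)
    (hAS : A ∈ S) (h : RootCommutatorCase S A B) {E : Subgroup G} (hE : E ∈ S)
    (hle : E ≤ ⁅A, B⁆) : E = ⁅A, B⁆ := by
  obtain ⟨D, hD, hAD⟩ := not_isIsolatedIn hA hAS
  obtain ⟨e, he, he1⟩ := exists_mem_ne_one (hS.ne_bot E hE)
  rcases hS.pair ⁅A, B⁆ h.1 D hD with hc | hc | hc
  · exfalso
    obtain ⟨a, ha, ha1⟩ := RankOne.exists_one_ne hAD
    have hz : ∀ y ∈ A ⊔ D, e * y = y * e := fun y hy => by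
      have hle' : A ⊔ D ≤ Subgroup.centralizer {e} := sup_le
        (fun x hx => Subgroup.mem_centralizer_singleton_iff.2 (RootCommutatorCase.commute_left h hx (hle he)))
        (fun x hx => Subgroup.mem_centralizer_singleton_iff.2
          (commute_of_commutator_eq_bot hc (hle he) hx).symm)
      exact (Subgroup.mem_centralizer_singleton_iff.1 (hle' hy)).symm
    obtain ⟨b, hb, e'⟩ := RootCommutatorCase.exists_left h ha ha1 (inv_mem (hle he))
    have hmem : e * a ∈ conjBy A b := ⟨a, ha, by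
      show b * a * b⁻¹ = e * a
      rw [← inv_inv e, ← e', commutatorElement_def]; group⟩
    have hne : e * a ≠ 1 := fun h1 => RootCommutatorCase.ne_left hS h (eq_of_mem_inter hS hA hAS h.1 ha
      (by rw [← inv_eq_of_mul_eq_one_right h1]; exact inv_mem (hle he)) ha1)
    exact he1 (eq_one_of_mul_mem hS hAS hD hAD (hS.conj_mem A hAS b) hz ha ha1 hmem hne)
  · exact (eq_of_mem_inter hS (not_isolated_of_pair h.1 hD hc) h.1 hE (hle he) he he1).symm
  · have hDn := not_isolated_of_pair hD hAS (RankOnePair_symm hAD)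
    have hi : LineInj ⁅A, B⁆ D := (lineInj_of_not_isolated hS hDn hD (RootCommutatorCase.symm' hc)).symm
    obtain ⟨d, hd, hd1⟩ := exists_mem_ne_one (hS.ne_bot D hD)
    rcases hS.pair E hE D hD with hc' | hc' | hc'
    · exact absurd ((hi e (hle he) d hd (commute_of_commutator_eq_bot hc' he hd)).resolve_right hd1)
        he1
    · exact eq_of_mem_inter hS (not_isolated_of_pair hE hD hc') hE h.1 he (hle he) he1
    · refine le_antisymm hle fun c hc0 => ?_
      have heq : ⁅E, D⁆ = ⁅⁅A, B⁆, D⁆ :=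
        (hc'.2.2.1 e he he1).symm.trans (hc.2.2.1 e (hle he) he1)
      obtain ⟨x, hx, ex⟩ := RootCommutatorCase.exists_right hc' hd hd1 (c := ⁅c, d⁆)
        (heq.symm ▸ Subgroup.commutator_mem_commutator hc0 hd)
      have hcomm : x⁻¹ * c * d = d * (x⁻¹ * c) := by
        simp only [commutatorElement_def] at ex
        have ex' : x * d * x⁻¹ = c * d * c⁻¹ := mul_right_cancel ex
        calc x⁻¹ * c * d = x⁻¹ * (c * d * c⁻¹) * c := by group
          _ = x⁻¹ * (x * d * x⁻¹) * c := by rw [ex']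
          _ = d * (x⁻¹ * c) := by group
      have := (hi _ (mul_mem (inv_mem (hle hx)) hc0) d hd hcomm).resolve_right hd1
      rwa [← inv_mul_eq_one.1 this]

/-- The members contained in `A⁅A, B⁆`. -/
theorem membersIn_line (hS : IsRootSubgroupSet S) (hA : ¬ IsIsolatedIn (FAdj S) S A)
    (hAS : A ∈ S) (h : RootCommutatorCase S A B) :
    membersIn S (A ⊔ ⁅A, B⁆) = (fun b : G => conjBy A b) '' (B : Set G) ∪ {⁅A, B⁆} := by
  refine Set.ext fun E => ⟨fun hE => ?_, ?_⟩
  · by_cases hall : E ≤ ⁅A, B⁆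
    · exact Or.inr (eq_commutator_of_le hS hA hAS h hE.1 hall)
    · obtain ⟨e, he, heC⟩ := SetLike.not_le_iff_exists.1 hall
      obtain ⟨b, hb, heb⟩ := (line_cover h (hE.2 he)).resolve_left heC
      exact Or.inl ⟨b, hb, eq_of_mem_inter hS (not_isolated_conjBy hS hA hAS b)
        (hS.conj_mem A hAS b) hE.1 heb he fun e1 => heC (e1 ▸ one_mem _)⟩
  · rintro (⟨b, hb, rfl⟩ | rfl)
    · exact ⟨hS.conj_mem A hAS b, conjBy_le_line A B hb⟩
    · exact ⟨h.1, le_sup_right⟩

/-- If the commutator of two members is a member, they are in the commutator case. -/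
theorem rootCommutatorCase_of_mem (hS : IsRootSubgroupSet S) (hA : A ∈ S) (hB : B ∈ S)
    (hC : ⁅A, B⁆ ∈ S) : RootCommutatorCase S A B := by
  rcases hS.pair A hA B hB with h | h | h
  · exact absurd h (hS.ne_bot _ hC)
  swap
  · exact h
  exfalso
  set C := ⁅A, B⁆ with hCdef
  have hnorm : ∀ {x : G}, x ∈ A ⊔ B → ∀ c ∈ C, x * c * x⁻¹ ∈ C := fun hx c hc =>
    (Subgroup.mem_normalizer_iff.1 ((sup_le (Grp.left_le_normalizer_commutator B A)
      (Grp.right_le_normalizer_commutator B A) : A ⊔ B ≤ Subgroup.normalizer (C : Set G)) hx) c).1 hc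
  have hBC : ∀ D : Subgroup G, D = ⁅B, C⁆ → ∀ z ∈ D, ∀ x ∈ B ⊔ C, z * x = x * z := by
    rintro D rfl z hz x hx
    rcases hS.pair B hB C hC with h' | h' | h'
    · rw [h', Subgroup.mem_bot] at hz; simp [hz]
    · refine absurd ?_ (RankOne.ne_bot h')
      rw [← RankOne.inf_normalizer h', eq_comm, inf_eq_left]
      exact fun b hb => mem_normalizer_iff_conjBy.2 (le_antisymm
        (by rintro _ ⟨c, hc, rfl⟩; exact hnorm (Subgroup.mem_sup_right hb) c hc)
        fun c hc => mem_conjBy.2 (by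
          simpa using hnorm (Subgroup.mem_sup_right (B.inv_mem hb)) c hc))
    · exact h'.2.1 z hz x hx
  -- commutators in `B ⊔ C` lie in `⁅B, C⁆`
  have hder : ∀ x ∈ B ⊔ C, ∀ y ∈ B ⊔ C, ⁅x, y⁆ ∈ ⁅B, C⁆ := by
    have hcl : B ⊔ C = Subgroup.closure ((B : Set G) ∪ C) := by
      rw [Subgroup.closure_union, Subgroup.closure_eq, Subgroup.closure_eq]
    have hcen := hBC _ rfl
    have hgen : ∀ x ∈ (B : Set G) ∪ C, ∀ y ∈ (B : Set G) ∪ C, ⁅x, y⁆ ∈ ⁅B, C⁆ := by
      rintro x (hx | hx) y (hy | hy)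
      · rw [commutatorElement_eq_one_iff_mul_comm.2 (IsRootSubgroupSet.commute hS hB hx hy)]
        exact one_mem _
      · exact Subgroup.commutator_mem_commutator hx hy
      · rw [← commutatorElement_inv]
        exact inv_mem (Subgroup.commutator_mem_commutator hy hx)
      · rw [commutatorElement_eq_one_iff_mul_comm.2 (IsRootSubgroupSet.commute hS hC hx hy)]
        exact one_mem _
    have key : ∀ (T : Set G), T ⊆ (B ⊔ C : Subgroup G) → ∀ x ∈ B ⊔ C,
        (∀ g ∈ (B : Set G) ∪ C, ∀ y ∈ T, ⁅g, y⁆ ∈ ⁅B, C⁆) → ∀ y ∈ T, ⁅x, y⁆ ∈ ⁅B, C⁆ := by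
      intro T hT x hx hg
      rw [hcl] at hx
      induction hx using Subgroup.closure_induction with
      | mem g hg' => exact hg g hg'
      | one => intro y _; rw [commutatorElement_one_left]; exact one_mem _
      | mul u v hu hv ihu ihv =>
        intro y hy
        rw [show ⁅u * v, y⁆ = u * ⁅v, y⁆ * u⁻¹ * ⁅u, y⁆ by
          simp only [commutatorElement_def]; group,
          ← hcen _ (ihv y hy) u (hcl ▸ hu), mul_inv_cancel_right]
        exact mul_mem (ihv y hy) (ihu y hy)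
      | inv u hu ih =>
        intro y hy
        rw [show ⁅u⁻¹, y⁆ = u⁻¹ * ⁅u, y⁆⁻¹ * u⁻¹⁻¹ by simp only [commutatorElement_def]; group,
          ← hcen _ (inv_mem (ih y hy)) u⁻¹ (hcl ▸ inv_mem hu), mul_inv_cancel_right]
        exact inv_mem (ih y hy)
    intro x hx y hy
    refine key (B ⊔ C : Subgroup G) subset_rfl x hx (fun g hg z hz => ?_) y hy
    rw [← commutatorElement_inv]
    refine inv_mem (key {g} ?_ z hz (fun g' hg' y' hy' => ?_) g rfl)
    · rintro _ rfl
      rcases hg with hg | hg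
      exacts [Subgroup.mem_sup_left hg, Subgroup.mem_sup_right hg]
    · rw [Set.mem_singleton_iff.1 hy']; exact hgen g' hg' g hg
  -- `A` lies in `B ⊔ C`
  have hAle : A ≤ B ⊔ C := by
    obtain ⟨a, ha, ha1⟩ := RankOne.exists_one_ne h
    obtain ⟨b, hb, -, e⟩ := RankOne.exists_partner h ha ha1
    intro a' ha'
    obtain ⟨b₀, hb₀, e₀⟩ : b * a' * b⁻¹ ∈ conjBy B a := e.symm ▸ conj_mem_conjBy b ha'
    change a * b₀ * a⁻¹ = b * a' * b⁻¹ at e₀
    rw [show a' = b⁻¹ * (⁅a, b₀⁆ * b₀) * b by rw [commutatorElement_def]; simp [e₀, mul_assoc]]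
    exact mul_mem (mul_mem (Subgroup.mem_sup_left (B.inv_mem hb))
      (mul_mem (Subgroup.mem_sup_right (Subgroup.commutator_mem_commutator ha hb₀))
        (Subgroup.mem_sup_left hb₀))) (Subgroup.mem_sup_left hb)
  have hCle : C ≤ ⁅B, C⁆ := Subgroup.commutator_le.2 fun a ha b hb =>
    hder a (hAle ha) b (Subgroup.mem_sup_left hb)
  have hbot : ⁅B, C⁆ = ⊥ := Subgroup.commutator_eq_bot_iff_le_centralizer.2 fun b hb =>
    Subgroup.mem_centralizer_iff.2 fun c hc =>
      hBC _ rfl c (hCle hc) b (Subgroup.mem_sup_left hb)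
  exact hS.ne_bot _ hC (le_bot_iff.1 (hbot ▸ hCle))

end Case

/-! ### Lines and connectivity -/

/-- Two non-isolated members of a line are joined in the rank one graph. -/
theorem rtg_of_linePartners (hS : IsRootSubgroupSet S) {A B : Subgroup G} (hA : A ∈ S)
    (hAn : ¬ IsIsolatedIn (FAdj S) S A) (hBn : ¬ IsIsolatedIn (FAdj S) S B)
    (hAB : B ∈ linePartners S A) : Relation.ReflTransGen (FAdj S) A B := by
  obtain ⟨⟨hB, hne, hcom⟩, -, hcov, -⟩ := hAB
  by_contra hcon
  obtain ⟨a, ha, ha1⟩ := exists_mem_ne_one (hS.ne_bot A hA)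
  obtain ⟨b, hb, hb1⟩ := exists_mem_ne_one (hS.ne_bot B hB)
  have hab1 : a * b ≠ 1 := fun e => hne (eq_of_mem_inter hS hBn hB hA hb
    (by rw [← inv_eq_of_mul_eq_one_right e]; exact A.inv_mem ha) hb1)
  obtain ⟨E, hE, habE⟩ := hcov (a * b)
    (mul_mem (Subgroup.mem_sup_left ha) (Subgroup.mem_sup_right hb)) hab1
  -- `E` is joined to `A`
  have step : ∀ {A B : Subgroup G}, A ∈ S → B ∈ S → ¬ IsIsolatedIn (FAdj S) S A → ⁅A, B⁆ = ⊥ →
      ¬ Relation.ReflTransGen (FAdj S) A B → ∀ {a b : G}, a ∈ A → a ≠ 1 → b ∈ B → b ≠ 1 →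
      a * b ∈ E → a * b ≠ 1 → Relation.ReflTransGen (FAdj S) A E := by
    intro A B hA hB hAn hcom hcon a b ha ha1 hb hb1 habE hab1
    obtain ⟨D, hD, hAD⟩ := not_isIsolatedIn hAn hA
    have hbA : ∀ x ∈ A, b * x = x * b := fun x hx => (commute_of_commutator_eq_bot hcom hx hb).symm
    have hz : ∀ {z : G}, (∀ x ∈ A, z * x = x * z) → (∀ x ∈ D, z * x = x * z) →
        ∀ y ∈ A ⊔ D, z * y = y * z := fun {z} h1 h2 y hy =>
      (Subgroup.mem_centralizer_singleton_iff.1 ((sup_le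
        (fun x hx => Subgroup.mem_centralizer_singleton_iff.2 (h1 x hx).symm)
        (fun x hx => Subgroup.mem_centralizer_singleton_iff.2 (h2 x hx).symm) :
          A ⊔ D ≤ Subgroup.centralizer {z}) hy)).symm
    rcases hS.pair B hB D hD with hBD | hBD | hBD
    · refine absurd (eq_one_of_mul_mem hS hA hD hAD hE.1
        (hz hbA fun x hx => commute_of_commutator_eq_bot hBD hb hx) ha ha1 ?_ ?_) hb1
      · rwa [hbA a ha]
      · rwa [hbA a ha]
    · exact absurd (Relation.ReflTransGen.head ⟨hA, hD, hAD⟩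
        (Relation.ReflTransGen.single ⟨hD, hB, RankOnePair_symm hBD⟩)) hcon
    rcases hS.pair E hE.1 D hD with hED | hED | hED
    · refine absurd (eq_one_of_mul_mem hS hA hD hAD hB (z := a * b) (a := a⁻¹) (hz (fun x hx => ?_)
        fun x hx => commute_of_commutator_eq_bot hED habE hx) (A.inv_mem ha)
        (inv_ne_one.2 ha1) ?_ ?_) hab1
      · rw [mul_assoc, hbA x hx, ← mul_assoc, IsRootSubgroupSet.commute hS hA ha hx, mul_assoc]
      · rwa [mul_assoc, hbA _ (A.inv_mem ha), mul_inv_cancel_left]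
      · rwa [mul_assoc, hbA _ (A.inv_mem ha), mul_inv_cancel_left]
    · exact Relation.ReflTransGen.head ⟨hA, hD, hAD⟩
        (Relation.ReflTransGen.single ⟨hD, hE.1, RankOnePair_symm hED⟩)
    · exfalso
      have hAb : conjBy A b = A := mem_normalizer_iff_conjBy.1
        (Subgroup.centralizer_le_normalizer _
          (Subgroup.mem_centralizer_iff.2 fun x hx => (hbA x hx).symm))
      have hAD' : IsRankOnePair A (conjBy D b) := hAb ▸ isRankOnePair_conjBy hAD b
      obtain ⟨d, hd, -, ed⟩ := RankOne.exists_partner hAD' ha ha1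
      have hDD : ⁅conjBy D (a * b), D⁆ = ⊥ :=
        RootCommutatorCase.commutator_conjBy_eq_bot hS hD hED habE
      rw [← conjBy_conjBy, ed] at hDD
      have hdD : conjBy D d⁻¹ = D := mem_normalizer_iff_conjBy.1
        (Subgroup.centralizer_le_normalizer _ (Subgroup.mem_centralizer_iff.2 fun x hx =>
          (commute_of_commutator_eq_bot
            (RootCommutatorCase.commutator_conjBy_eq_bot hS hD hBD hb)
            ((conjBy D b).inv_mem hd) hx).symm))
      have := congrArg (fun K => conjBy K d⁻¹) hDD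
      rw [← commutator_conjBy, conjBy_conjBy, inv_mul_cancel, conjBy_one, hdD] at this
      exact RankOne.commutator_ne_bot hAD (RankOne.self_mem A D) (RankOne.right_mem hAD) hAD.ne
        (this.trans (Subgroup.map_bot _))
  have h1 := step hA hB hAn hcom hcon ha ha1 hb hb1 habE hab1
  have hba := commute_of_commutator_eq_bot hcom ha hb
  have h2 := step hB hA hBn (by rw [Subgroup.commutator_comm]; exact hcom)
    (fun h => hcon (rtg_symm h)) hb hb1 ha ha1 (hba ▸ habE) (hba ▸ hab1)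
  exact hcon (h1.trans (rtg_symm h2))

theorem not_isolated_of_component {A A' : Subgroup G}
    (h : A' ∈ componentOf (FAdj S) S A) (hne : A' ≠ A) : ¬ IsIsolatedIn (FAdj S) S A := by
  intro hi
  rcases Relation.ReflTransGen.cases_head h.2 with e | ⟨C, hC, -⟩
  · exact hne e.symm
  · exact (hi.2 C).1 hC

theorem componentOf_eq {A B : Subgroup G} (h : Relation.ReflTransGen (FAdj S) A B) :
    componentOf (FAdj S) S A = componentOf (FAdj S) S B :=
  Set.ext fun _ => ⟨fun hC => ⟨hC.1, (rtg_symm h).trans hC.2⟩, fun hC => ⟨hC.1, h.trans hC.2⟩⟩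

/-- Joined members are conjugate. -/
theorem exists_conj_of_rtg {A B : Subgroup G} (h : Relation.ReflTransGen (FAdj S) A B) :
    ∃ g : G, B = conjBy A g := by
  induction h with
  | refl => exact ⟨1, (conjBy_one A).symm⟩
  | @tail B C _ h ih =>
    obtain ⟨g, rfl⟩ := ih
    obtain ⟨y, -, e⟩ := RankOne.right_mem h.2.2
    exact ⟨y * g, e.trans (conjBy_conjBy _ _ _)⟩

/-- In a class of root subgroups with a non-isolated member the rank one graph is connected. -/
theorem connected_of_class (hS : IsRootSubgroupSet S) (hcl : IsConjClassOfSubgroups S)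
    {A : Subgroup G} (hA : A ∈ S) (hAn : ¬ IsIsolatedIn (FAdj S) S A) :
    IsConnectedFamily (FAdj S) S := by
  let H : Subgroup G :=
    { carrier := {g | Relation.ReflTransGen (FAdj S) A (conjBy A g)}
      one_mem' := by show Relation.ReflTransGen _ A _; rw [conjBy_one]
      mul_mem' := fun {g h} hg hh => by
        show Relation.ReflTransGen _ A _
        rw [← conjBy_conjBy]
        exact Relation.ReflTransGen.trans hg (rtg_conjBy hS hh g)
      inv_mem' := fun {g} hg => by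
        show Relation.ReflTransGen _ A _
        have := rtg_symm (rtg_conjBy hS hg g⁻¹)
        rwa [conjBy_conjBy, inv_mul_cancel, conjBy_one] at this }
  have hH : H = ⊤ := by
    refine eq_top_iff.2 (hS.generates ▸ iSup₂_le fun E hE e he => ?_)
    show Relation.ReflTransGen (FAdj S) A (conjBy A e)
    by_cases he1 : e = 1
    · rw [he1, conjBy_one]
    rcases hS.pair A hA E hE with h | h | h
    · rw [mem_normalizer_iff_conjBy.1 (Subgroup.centralizer_le_normalizer _
        (Subgroup.mem_centralizer_iff.2 fun a ha => commute_of_commutator_eq_bot h ha he))]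
    · have h0 : FAdj S A E := ⟨hA, hE, h⟩
      refine (Relation.ReflTransGen.single h0).tail (?_ : FAdj S E (conjBy A e))
      refine ⟨hE, hS.conj_mem A hA e, ?_⟩
      have := isRankOnePair_conjBy (RankOnePair_symm h) e
      rwa [conjBy_eq_self_of_mem he] at this
    · have hi := lineInj_of_not_isolated hS hAn hA h
      obtain ⟨a, ha, ha1⟩ := exists_mem_ne_one (hS.ne_bot A hA)
      have hle := conjBy_le_line A E he
      have hsup : A ⊔ conjBy A e = A ⊔ ⁅A, E⁆ := by
        refine le_antisymm (sup_le le_sup_left hle) (sup_le le_sup_left fun c hc => ?_)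
        obtain ⟨x, hx, rfl⟩ := RootCommutatorCase.exists_right h he he1 hc
        rw [commutatorElement_def, show x * e * x⁻¹ * e⁻¹ = x * (e * x⁻¹ * e⁻¹) by group]
        exact mul_mem (Subgroup.mem_sup_left hx)
          (Subgroup.mem_sup_right (conj_mem_conjBy e (A.inv_mem hx)))
      refine rtg_of_linePartners hS hA hAn (not_isolated_conjBy hS hAn hA e)
        ⟨⟨hS.conj_mem A hA e, fun heq => ?_, ?_⟩, ?_⟩
      · exact he1 (line_conj_inf hS hE h hi he E.one_mem (heq.symm ▸ ha : a ∈ conjBy A e)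
          (by rwa [conjBy_one]) ha1)
      · refine Subgroup.commutator_eq_bot_iff_le_centralizer.2 fun x hx =>
          Subgroup.mem_centralizer_iff.2 fun y hy => ?_
        obtain ⟨a', ha', c, hc, rfl⟩ := mem_line h (hle hy)
        rw [mul_assoc, ← RootCommutatorCase.commute_left h hx hc, ← mul_assoc,
          IsRootSubgroupSet.commute hS hA ha' hx, mul_assoc]
      · rw [hsup, membersIn_line hS hAn hA h]
        exact line_partition hS hE h hi
  intro B hB C hC
  have key : ∀ B ∈ S, Relation.ReflTransGen (FAdj S) A B := fun B hB => by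
    obtain ⟨g, rfl⟩ := hcl.2 A hA B hB
    exact (hH ▸ Subgroup.mem_top g : g ∈ H)
  exact (rtg_symm (key B hB)).trans (key C hC)

/-- The rank one graph of a set with more than one member is connected exactly for a class with a
non-isolated member. -/
theorem connected_iff (hS : IsRootSubgroupSet S) (h2 : ∃ A ∈ S, ∃ B ∈ S, A ≠ B) :
    IsConnectedFamily (FAdj S) S ↔
      (IsConjClassOfSubgroups S ∧ ∃ A ∈ S, ¬ IsIsolatedIn (FAdj S) S A) := by
  refine ⟨fun hc => ?_, fun ⟨hcl, A, hA, hAn⟩ => connected_of_class hS hcl hA hAn⟩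
  obtain ⟨A, hA, B, hB, hne⟩ := h2
  refine ⟨⟨⟨A, hA⟩, fun C hC D hD => exists_conj_of_rtg (hc C hC D hD)⟩, A, hA, ?_⟩
  exact not_isolated_of_component ⟨hB, hc A hA B hB⟩ hne.symm

/-- Homomorphic images of sets of root subgroups with connected rank one graph. -/
theorem image_root_set (hS : IsRootSubgroupSet S) (hc : IsConnectedFamily (FAdj S) S) {H : Type*}
    [Group H] (f : G →* H) (hf : Function.Surjective f) :
    (IsRootSubgroupSet ((fun A : Subgroup G => A.map f) '' S) ∧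
      IsConnectedFamily (FAdj ((fun A : Subgroup G => A.map f) '' S))
        ((fun A : Subgroup G => A.map f) '' S)) ∨
    ∃ A ∈ S, A.map f = ⊤ := by
  by_cases hbot : ∃ A ∈ S, A.map f = ⊥
  · obtain ⟨A, hA, hAb⟩ := hbot
    refine Or.inr ⟨A, hA, ?_⟩
    have hall : ∀ B ∈ S, B.map f = ⊥ := fun B hB => by
      obtain ⟨g, rfl⟩ := exists_conj_of_rtg (hc A hA B hB)
      rw [map_conjBy, hAb]
      exact Subgroup.map_bot _
    have h1 : (⊤ : Subgroup H) = ⊥ := by
      rw [← Subgroup.map_top_of_surjective f hf, ← hS.generates, Subgroup.map_iSup]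
      refine eq_bot_iff.2 (iSup_le fun B => ?_)
      rw [Subgroup.map_iSup]
      exact iSup_le fun hB => (hall B hB).le
    rw [hAb, h1]
  push Not at hbot
  refine Or.inl ⟨⟨?_, ?_, ?_, ?_, ?_⟩, ?_⟩
  · rintro _ ⟨A, hA, rfl⟩
    refine ⟨⟨fun x y => Subtype.ext ?_⟩⟩
    obtain ⟨a, ha, ea⟩ := x.2
    obtain ⟨a', ha', ea'⟩ := y.2
    show (x : H) * y = y * x
    rw [← ea, ← ea', ← map_mul, ← map_mul, IsRootSubgroupSet.commute hS hA ha ha']
  · rintro _ ⟨A, hA, rfl⟩
    exact hbot A hA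
  · refine eq_top_iff.2 ?_
    rw [← Subgroup.map_top_of_surjective f hf, ← hS.generates, Subgroup.map_iSup]
    refine iSup_le fun A => ?_
    rw [Subgroup.map_iSup]
    exact iSup_le fun hA => le_iSup₂_of_le (A.map f) ⟨A, hA, rfl⟩ le_rfl
  · rintro _ ⟨A, hA, rfl⟩ g
    obtain ⟨x, rfl⟩ := hf g
    exact ⟨conjBy A x, hS.conj_mem A hA x, map_conjBy f A x⟩
  · rintro _ ⟨A, hA, rfl⟩ _ ⟨B, hB, rfl⟩
    show ⁅A.map f, B.map f⁆ = ⊥ ∨ _
    rw [← Subgroup.map_commutator]
    rcases hS.pair A hA B hB with h | h | h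
    · exact Or.inl (by rw [h, Subgroup.map_bot])
    · by_cases e : A.map f = B.map f
      · refine Or.inl ?_
        rw [Subgroup.map_commutator, ← e, ← Subgroup.map_commutator,
          Subgroup.commutator_eq_bot_iff_le_centralizer.2 fun a ha =>
            Subgroup.mem_centralizer_iff.2 fun a' ha' =>
              IsRootSubgroupSet.commute hS hA ha' ha, Subgroup.map_bot]
      · exact Or.inr (Or.inl (isRankOnePair_map f h e))
    · refine Or.inr (Or.inr ?_)
      unfold RootCommutatorCase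
      rw [← Subgroup.map_commutator, ← Subgroup.map_sup]
      refine ⟨⟨_, h.1, rfl⟩, ?_, ?_, ?_⟩
      · rintro _ ⟨c, hc', rfl⟩ _ ⟨x, hx, rfl⟩
        rw [← map_mul, ← map_mul, h.2.1 c hc' x hx]
      · rintro _ ⟨a, ha, rfl⟩ ha1
        rw [← h.2.2.1 a ha fun e => ha1 (by rw [e, map_one]), MonoidHom.map_closure,
          Subgroup.coe_map, Set.image_image, Set.image_image]
        simp [map_mul, map_inv]
      · rintro _ ⟨b, hb, rfl⟩ hb1
        rw [← h.2.2.2 b hb fun e => hb1 (by rw [e, map_one]), MonoidHom.map_closure,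
          Subgroup.coe_map, Set.image_image, Set.image_image]
        simp [map_mul, map_inv]
  · rintro _ ⟨A, hA, rfl⟩ _ ⟨B, hB, rfl⟩
    show Relation.ReflTransGen _ (A.map f) (B.map f)
    have h := hc A hA B hB
    clear hB
    induction h with
    | refl => exact Relation.ReflTransGen.refl
    | @tail B C _ h ih =>
      by_cases e : B.map f = C.map f
      · rwa [← e]
      · exact ih.tail ⟨⟨B, h.1, rfl⟩, ⟨C, h.2.1, rfl⟩, isRankOnePair_map f h.2.2 e⟩

/-! ### The rank one group on a line -/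

/-- The line of `A` and `C = ⁅A, B⁆` under the group generated by `B` and a member `D` with
`⁅D, C⁆ = A`. -/
theorem rank_one_on_line (hS : IsRootSubgroupSet S) {A B D : Subgroup G} (hA : A ∈ S) (hB : B ∈ S)
    (hC : ⁅A, B⁆ ∈ S) (hD : D ∈ S) (hDC : ⁅D, ⁅A, B⁆⁆ = A) :
    IsRankOnePair B D ∧
      {E | ∃ x ∈ B ⊔ D, E = conjBy A x} = {E | ∃ x ∈ B ⊔ D, E = conjBy ⁅A, B⁆ x} ∧
      {E | ∃ x ∈ B ⊔ D, E = conjBy A x} = (fun b : G => conjBy A b) '' (B : Set G) ∪ {⁅A, B⁆} ∧
      {E | ∃ x ∈ B ⊔ D, E = conjBy A x} = (fun d : G => conjBy ⁅A, B⁆ d) '' (D : Set G) ∪ {A} ∧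
      IsSubgroupPartition (A ⊔ ⁅A, B⁆) {E | ∃ x ∈ B ⊔ D, E = conjBy A x} ∧
      ∀ x ∈ (B ⊔ D) ⊓ Subgroup.centralizer ((A ⊔ ⁅A, B⁆ : Subgroup G) : Set G),
        ∀ y ∈ B ⊔ D, x * y = y * x := by
  set C := ⁅A, B⁆ with hCdef
  have h1 : RootCommutatorCase S A B := rootCommutatorCase_of_mem hS hA hB hC
  have hCD : ⁅C, D⁆ = A := by rw [Subgroup.commutator_comm, hDC]
  have h2 : RootCommutatorCase S C D := rootCommutatorCase_of_mem hS hC hD (hCD.symm ▸ hA)
  have hBC : ∀ b ∈ B, ∀ c ∈ C, b * c = c * b := fun b hb c hc => RootCommutatorCase.commute_right h1 hb hc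
  have hAC : ∀ a ∈ A, ∀ c ∈ C, a * c = c * a := fun a ha c hc => RootCommutatorCase.commute_left h1 ha hc
  have hDA : ∀ d ∈ D, ∀ a ∈ A, d * a = a * d := fun d hd a ha =>
    RootCommutatorCase.commute_right h2 hd (hCD.symm ▸ ha)
  have hne : A ≠ C := RootCommutatorCase.ne_left hS h1
  have hBD : IsRankOnePair B D := by
    rcases hS.pair B hB D hD with h | h | h
    · exfalso
      -- `⁅⁅A, B⁆, D⁆` would be trivial
      have hz1 : ⁅⁅B, D⁆, A⁆ = ⊥ := by rw [h, Subgroup.commutator_bot_left]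
      have hz2 : ⁅⁅D, A⁆, B⁆ = ⊥ := by
        rw [Subgroup.commutator_eq_bot_iff_le_centralizer.2 fun d hd =>
          Subgroup.mem_centralizer_iff.2 fun a ha => (hDA d hd a ha).symm,
          Subgroup.commutator_bot_left]
      exact hS.ne_bot A hA (hCD ▸ Subgroup.commutator_commutator_eq_bot_of_rotate hz1 hz2)
    · exact h
    · exfalso
      obtain ⟨a, ha, ha1⟩ := exists_mem_ne_one (hS.ne_bot A hA)
      obtain ⟨d, hd, hd1⟩ := exists_mem_ne_one (hS.ne_bot D hD)
      obtain ⟨c', hc', hne'⟩ := RootCommutatorCase.not_centralize hS (RootCommutatorCase.symm' h2) hd hd1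
      -- `d` moves a fixed point of `B` out of the fixed points
      obtain ⟨b, hb, eb⟩ := RootCommutatorCase.exists_left h1 ha ha1 hc'
      obtain ⟨c, hc, ec⟩ := RootCommutatorCase.exists_right h2 (D.inv_mem hd) (inv_ne_one.2 hd1)
        (hCD.symm ▸ ha : a ∈ ⁅C, D⁆)
      set u := d * b * d⁻¹ with hu
      have hub : ∀ y ∈ B, u * y = y * u := fun y hy => commute_of_commutator_eq_bot
        (RootCommutatorCase.commutator_conjBy_eq_bot hS hB (RootCommutatorCase.symm' h) hd) (conj_mem_conjBy d hb) hy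
      set t := ⁅c', d⁆ with ht
      have htA : t ∈ A := hCD ▸ Subgroup.commutator_mem_commutator hc' hd
      have hval : u * c⁻¹ * u⁻¹ = c⁻¹ * c'⁻¹ * t := by
        have e1 : b * a * b⁻¹ = c'⁻¹ * a := by
          rw [← eb, commutatorElement_def]; group
        calc u * c⁻¹ * u⁻¹
              = d * (b * (c⁻¹ * (c * d⁻¹ * c⁻¹ * d⁻¹⁻¹)) * b⁻¹) * d⁻¹ := by rw [hu]; group
          _ = d * ((b * c⁻¹) * a * b⁻¹) * d⁻¹ := by
              rw [← commutatorElement_def, ec]; group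
          _ = d * (c⁻¹ * (b * a * b⁻¹)) * d⁻¹ := by rw [hBC b hb _ (C.inv_mem hc)]; group
          _ = d * (c⁻¹ * (a * c'⁻¹)) * d⁻¹ := by rw [e1, hAC a ha _ (C.inv_mem hc')]
          _ = d * (c⁻¹ * ⁅c, d⁻¹⁆) * d⁻¹ * (d * c'⁻¹ * d⁻¹) := by rw [ec]; group
          _ = c⁻¹ * c'⁻¹ * t := by rw [ht]; simp only [commutatorElement_def]; group
      have hcent : ∀ y ∈ B, t * y = y * t := fun y hy => by
        have hcen : ∀ x ∈ C, Commute y x := fun x hx => hBC y hy x hx
        have h3 : Commute y (u * c⁻¹ * u⁻¹) :=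
          ((Commute.mul_right (hub y hy).symm (hcen _ (C.inv_mem hc))).mul_right
            ((show Commute y u from (hub y hy).symm).inv_right))
        rw [hval] at h3
        have h4 := (hcen _ (C.inv_mem (C.mul_mem (C.inv_mem hc) (C.inv_mem hc')))).mul_right h3
        rw [inv_mul_cancel_left] at h4
        exact h4.eq.symm
      refine hne' (commutatorElement_eq_one_iff_mul_comm.1 ?_).symm
      rw [← ht]
      by_contra ht1
      obtain ⟨y, hy, hyne⟩ := RootCommutatorCase.not_centralize hS h1 htA ht1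
      exact hyne (hcent y hy)
  have hi1 : LineInj A B := (lineInj_of_not_isolated hS (not_isolated_of_pair hB hD hBD) hB
    (RootCommutatorCase.symm' h1)).symm
  have hi2 : LineInj C D := (lineInj_of_not_isolated hS
    (not_isolated_of_pair hD hB (RankOnePair_symm hBD)) hD (RootCommutatorCase.symm' h2)).symm
  -- fixed points of `B` and `D` on the line
  have hfixB : ∀ n ∈ A ⊔ C, (∀ y ∈ B, n * y = y * n) → n ∈ C := by
    intro n hn hcn
    obtain ⟨a, ha, c, hc, rfl⟩ := mem_line h1 hn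
    obtain ⟨b, hb, hb1⟩ := exists_mem_ne_one (hS.ne_bot B hB)
    have hab : a * b = b * a := by
      have := hcn b hb
      rw [mul_assoc, ← hBC b hb c hc, ← mul_assoc, ← mul_assoc] at this
      exact mul_right_cancel this
    rwa [(hi1 a ha b hb hab).resolve_right hb1, one_mul]
  have hfixD : ∀ n ∈ A ⊔ C, (∀ y ∈ D, n * y = y * n) → n ∈ A := by
    intro n hn hcn
    obtain ⟨a, ha, c, hc, rfl⟩ := mem_line h1 hn
    obtain ⟨d, hd, hd1⟩ := exists_mem_ne_one (hS.ne_bot D hD)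
    have hcd : c * d = d * c := by
      have := hcn d hd
      rw [mul_assoc, ← mul_assoc d a c, hDA d hd a ha, mul_assoc a d c] at this
      exact mul_left_cancel this
    rw [(hi2 c hc d hd hcd).resolve_right hd1, mul_one]; exact ha
  have hNb : ∀ b ∈ B, conjBy A b ≤ A ⊔ C := fun b hb => conjBy_le_line A B hb
  have hNd : ∀ d ∈ D, conjBy C d ≤ A ⊔ C := fun d hd => by
    have := conjBy_le_line C D hd
    rwa [hCD, sup_comm] at this
  have hcomA : ∀ b : G, ∀ x ∈ conjBy A b, ∀ y ∈ conjBy D b, x * y = y * x := by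
    rintro b _ ⟨a, ha, rfl⟩ _ ⟨d, hd, rfl⟩
    rw [← map_mul, ← map_mul, hDA d hd a ha]
  have hcomC : ∀ d : G, ∀ x ∈ conjBy C d, ∀ y ∈ conjBy B d, x * y = y * x := by
    rintro d _ ⟨c, hc, rfl⟩ _ ⟨b, hb, rfl⟩
    rw [← map_mul, ← map_mul, hBC b hb c hc]
  have hnormB : ∀ b ∈ B, conjBy (A ⊔ C) b ≤ A ⊔ C := fun b hb => by
    rw [conjBy_sup]
    refine sup_le (hNb b hb) ?_
    rintro _ ⟨c, hc, rfl⟩
    show b * c * b⁻¹ ∈ _
    rw [hBC b hb c hc, mul_inv_cancel_right]
    exact Subgroup.mem_sup_right hc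
  have hnormD : ∀ d ∈ D, conjBy (A ⊔ C) d ≤ A ⊔ C := fun d hd => by
    rw [conjBy_sup]
    refine sup_le ?_ (hNd d hd)
    rintro _ ⟨a, ha, rfl⟩
    show d * a * d⁻¹ ∈ _
    rw [hDA d hd a ha, mul_inv_cancel_right]
    exact Subgroup.mem_sup_left ha
  -- opposite unipotents have the same fixed points
  have hmatch : ∀ b ∈ B, ∀ d ∈ D, conjBy B d = conjBy D b → conjBy C d = conjBy A b := by
    intro b hb d hd e
    apply le_antisymm
    · intro x hx
      refine mem_conjBy.2 (hfixD _ (hnormB b⁻¹ (B.inv_mem hb)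
        (mem_conjBy.2 (by simpa [mul_assoc] using hNd d hd hx))) fun y hy => ?_)
      have := hcomC d x hx (b * y * b⁻¹) (e.ge (conj_mem_conjBy b hy))
      calc b⁻¹ * x * b * y = b⁻¹ * (x * (b * y * b⁻¹)) * b := by group
        _ = b⁻¹ * (b * y * b⁻¹ * x) * b := by rw [this]
        _ = y * (b⁻¹ * x * b) := by group
    · intro x hx
      refine mem_conjBy.2 (hfixB _ (hnormD d⁻¹ (D.inv_mem hd)
        (mem_conjBy.2 (by simpa [mul_assoc] using hNb b hb hx))) fun y hy => ?_)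
      have := hcomA b x hx (d * y * d⁻¹) (e.le (conj_mem_conjBy d hy))
      calc d⁻¹ * x * d * y = d⁻¹ * (x * (d * y * d⁻¹)) * d := by group
        _ = d⁻¹ * (d * y * d⁻¹ * x) * d := by rw [this]
        _ = y * (d⁻¹ * x * d) := by group
  set T := (fun b : G => conjBy A b) '' (B : Set G) ∪ {C} with hT
  set T' := (fun d : G => conjBy C d) '' (D : Set G) ∪ {A} with hT'
  have hTT : T = T' := by
    refine Set.ext fun E => ⟨?_, ?_⟩
    · rintro (⟨b, hb, rfl⟩ | rfl)
      · by_cases hb1 : b = 1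
        · exact Or.inr (by rw [hb1]; exact conjBy_one A)
        · obtain ⟨d, hd, -, e⟩ := RankOne.exists_partner hBD hb hb1
          exact Or.inl ⟨d, hd, hmatch b hb d hd e.symm⟩
      · exact Or.inl ⟨1, D.one_mem, conjBy_one C⟩
    · rintro (⟨d, hd, rfl⟩ | rfl)
      · by_cases hd1 : d = 1
        · exact Or.inr (by rw [hd1]; exact conjBy_one C)
        · obtain ⟨b, hb, -, e⟩ := RankOne.exists_partner (RankOnePair_symm hBD) hd hd1
          exact Or.inl ⟨b, hb, (hmatch b hb d hd e).symm⟩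
      · exact Or.inl ⟨1, B.one_mem, conjBy_one _⟩
  have hfixC : ∀ y ∈ B, conjBy C y = C := fun y hy => mem_normalizer_iff_conjBy.1
    (Subgroup.centralizer_le_normalizer _
      (Subgroup.mem_centralizer_iff.2 fun c hc => (hBC y hy c hc).symm))
  have hfixA : ∀ y ∈ D, conjBy A y = A := fun y hy => mem_normalizer_iff_conjBy.1
    (Subgroup.centralizer_le_normalizer _
      (Subgroup.mem_centralizer_iff.2 fun a ha => (hDA y hy a ha).symm))
  have hstepB : ∀ y ∈ B, ∀ E ∈ T, conjBy E y ∈ T := by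
    rintro y hy E (⟨b, hb, rfl⟩ | rfl)
    · exact Or.inl ⟨y * b, B.mul_mem hy hb, (conjBy_conjBy A b y).symm⟩
    · exact Or.inr (hfixC y hy)
  have hstepD : ∀ y ∈ D, ∀ E ∈ T, conjBy E y ∈ T := by
    rw [hTT]
    rintro y hy E (⟨d, hd, rfl⟩ | rfl)
    · exact Or.inl ⟨y * d, D.mul_mem hy hd, (conjBy_conjBy C d y).symm⟩
    · exact Or.inr (hfixA y hy)
  have hinvT : ∀ x ∈ B ⊔ D, ∀ E ∈ T, conjBy E x ∈ T ∧ conjBy E x⁻¹ ∈ T := by
    intro x hx
    rw [← Subgroup.closure_eq B, ← Subgroup.closure_eq D, ← Subgroup.closure_union] at hx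
    induction hx using Subgroup.closure_induction with
    | mem y hy =>
      intro E hE
      rcases hy with hy | hy
      · exact ⟨hstepB y hy E hE, hstepB _ (B.inv_mem hy) E hE⟩
      · exact ⟨hstepD y hy E hE, hstepD _ (D.inv_mem hy) E hE⟩
    | one => intro E hE; rw [inv_one, conjBy_one]; exact ⟨hE, hE⟩
    | mul y z _ _ ihy ihz =>
      intro E hE
      refine ⟨?_, ?_⟩
      · rw [← conjBy_conjBy]; exact (ihy _ (ihz E hE).1).1
      · rw [mul_inv_rev, ← conjBy_conjBy]; exact (ihz _ (ihy E hE).2).2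
    | inv y _ ih => intro E hE; rw [inv_inv]; exact ⟨(ih E hE).2, (ih E hE).1⟩
  obtain ⟨x₀, hx₀, hCx⟩ : ∃ x₀ ∈ B ⊔ D, C = conjBy A x₀ := by
    obtain ⟨d, hd, hd1⟩ := exists_mem_ne_one (hS.ne_bot D hD)
    obtain ⟨b, hb, -, e⟩ := RankOne.exists_partner (RankOnePair_symm hBD) hd hd1
    refine ⟨d⁻¹ * b, mul_mem (Subgroup.mem_sup_right (D.inv_mem hd)) (Subgroup.mem_sup_left hb), ?_⟩
    rw [← conjBy_conjBy, ← hmatch b hb d hd e, conjBy_conjBy, inv_mul_cancel, conjBy_one]
  have horb : {E | ∃ x ∈ B ⊔ D, E = conjBy A x} = T := by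
    refine Set.ext fun E => ⟨?_, ?_⟩
    · rintro ⟨x, hx, rfl⟩
      exact (hinvT x hx A (Or.inl ⟨1, B.one_mem, conjBy_one A⟩)).1
    · rintro (⟨b, hb, rfl⟩ | rfl)
      · exact ⟨b, Subgroup.mem_sup_left hb, rfl⟩
      · exact ⟨x₀, hx₀, hCx⟩
  refine ⟨hBD, ?_, horb, horb.trans hTT, horb.symm ▸ line_partition hS hB h1 hi1, ?_⟩
  · refine Set.ext fun E => ⟨?_, ?_⟩
    · rintro ⟨x, hx, rfl⟩
      exact ⟨x * x₀⁻¹, mul_mem hx (inv_mem hx₀), by
        rw [hCx, conjBy_conjBy, inv_mul_cancel_right]⟩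
    · rintro ⟨x, hx, rfl⟩
      exact ⟨x * x₀, mul_mem hx hx₀, by rw [hCx, conjBy_conjBy]⟩
  intro x hx
  obtain ⟨hxX, hxN⟩ := hx
  refine RankOne.commute_of_forall_normalizes hBD fun U hU => ?_
  have hxfix : ∀ n ∈ A ⊔ C, x * n * x⁻¹ = n := fun n hn => by
    rw [← Subgroup.mem_centralizer_iff.1 hxN n hn, mul_inv_cancel_right]
  have hcommN : ∀ (K U : Subgroup G), K ≤ A ⊔ C → (∀ n ∈ K, ∀ y ∈ U, n * y = y * n) →
      ∀ n ∈ K, ∀ y ∈ conjBy U x, n * y = y * n := by
    rintro K U hK hcm n hn _ ⟨y, hy, rfl⟩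
    show n * (x * y * x⁻¹) = x * y * x⁻¹ * n
    rw [← hxfix n (hK hn)]
    calc x * n * x⁻¹ * (x * y * x⁻¹) = x * (n * y) * x⁻¹ := by group
      _ = x * (y * n) * x⁻¹ := by rw [hcm n hn y hy]
      _ = x * y * x⁻¹ * (x * n * x⁻¹) := by group
  obtain ⟨a, ha, ha1⟩ := exists_mem_ne_one (hS.ne_bot A hA)
  obtain ⟨c, hc, hc1⟩ := exists_mem_ne_one (hS.ne_bot C hC)
  have hU' := (RankOne.mem_iff hBD).1 (RankOne.conj_mem hU hxX)
  rcases (RankOne.mem_iff hBD).1 hU with hUe | ⟨b, hb, hUe⟩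
  · rcases hU' with e | ⟨b', hb', e⟩
    · rw [e, hUe]
    · exfalso
      have h3 : ∀ y ∈ conjBy D b', c * y = y * c := fun y hy =>
        hcommN C U le_sup_right (fun n hn z hz => (hBC z (hUe ▸ hz) n hn).symm) c hc y (e ▸ hy)
      have h4 : b'⁻¹ * c * b' ∈ A := hfixD _ (hnormB b'⁻¹ (B.inv_mem hb') (mem_conjBy.2 (by
        simpa [mul_assoc] using Subgroup.mem_sup_right hc))) fun z hz => by
          calc b'⁻¹ * c * b' * z = b'⁻¹ * (c * (b' * z * b'⁻¹)) * b' := by group
            _ = b'⁻¹ * (b' * z * b'⁻¹ * c) * b' := by rw [h3 _ (conj_mem_conjBy b' hz)]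
            _ = z * (b'⁻¹ * c * b') := by group
      exact hc1 (line_conj_inf_comm hS hB h1 hi1 hb' (mem_conjBy.2 h4) hc)
  · set n := b * a * b⁻¹ with hn
    have hnA : n ∈ conjBy A b := conj_mem_conjBy b ha
    have hn1 : n ≠ 1 := fun e => ha1 (by
      rw [show a = b⁻¹ * n * b by rw [hn]; group, e, mul_one, inv_mul_cancel])
    have h3 : ∀ y ∈ conjBy U x, n * y = y * n :=
      hcommN (conjBy A b) U (hNb b hb) (fun m hm z hz => hcomA b m hm z (hUe ▸ hz)) n hnA
    rcases hU' with e | ⟨b', hb', e⟩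
    · exfalso
      exact hn1 (line_conj_inf_comm hS hB h1 hi1 hb hnA
        (hfixB n (hNb b hb hnA) fun y hy => h3 y (e.symm ▸ hy)))
    · rw [e, hUe]
      have h4 : b'⁻¹ * n * b' ∈ A := hfixD _ (hnormB b'⁻¹ (B.inv_mem hb') (mem_conjBy.2 (by
        simpa [mul_assoc] using hNb b hb hnA))) fun z hz => by
          calc b'⁻¹ * n * b' * z = b'⁻¹ * (n * (b' * z * b'⁻¹)) * b' := by group
            _ = b'⁻¹ * (b' * z * b'⁻¹ * n) * b' := by rw [h3 _ (e.symm ▸ conj_mem_conjBy b' hz)]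
            _ = z * (b'⁻¹ * n * b') := by group
      rw [line_conj_inf hS hB h1 hi1 hb hb' hnA (mem_conjBy.2 h4) hn1]

end Cfsg.Agent.Fus
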