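import Cfsg.Prelude.Def_RootSubgroups

/-!
Elementary theory of rank one pairs and of sets of abstract root subgroups.
-/

set_option autoImplicit false
set_option linter.style.haveILetI false

open scoped commutatorElement

namespace Cfsg.Agent.Fus

open Subgroup

variable {G : Type*} [Group G]

theorem conjBy_conjBy (A : Subgroup G) (g h : G) : conjBy (conjBy A g) h = conjBy A (h * g) := by
  simp only [conjBy, Subgroup.map_map]
  congr 1
  ext x
  simp [mul_assoc]

@[simp] theorem conjBy_one (A : Subgroup G) : conjBy A (1 : G) = A := by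
  simp only [conjBy]
  ext x
  simp

theorem conjBy_eq_iff {A C : Subgroup G} {g : G} : conjBy A g = C ↔ A = conjBy C g⁻¹ := by
  constructor
  · rintro rfl; rw [conjBy_conjBy, inv_mul_cancel, conjBy_one]
  · rintro rfl; rw [conjBy_conjBy, mul_inv_cancel, conjBy_one]

theorem conjBy_injective (g : G) : Function.Injective fun A : Subgroup G => conjBy A g :=
  fun _ _ h => Subgroup.map_injective (MulAut.conj g).injective h

theorem mem_conjBy {A : Subgroup G} {g x : G} : x ∈ conjBy A g ↔ g⁻¹ * x * g ∈ A := by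
  constructor
  · rintro ⟨y, hy, rfl⟩
    simpa [mul_assoc] using hy
  · intro h
    exact ⟨_, h, by simp [mul_assoc]⟩

theorem conj_mem_conjBy {A : Subgroup G} (g : G) {x : G} (h : x ∈ A) :
    g * x * g⁻¹ ∈ conjBy A g := ⟨x, h, rfl⟩

theorem mem_normalizer_iff_conjBy {A : Subgroup G} {g : G} :
    g ∈ Subgroup.normalizer (A : Set G) ↔ conjBy A g = A := by
  rw [Subgroup.mem_normalizer_iff]
  constructor
  · intro h
    refine le_antisymm ?_ fun x hx => ?_
    · rintro _ ⟨y, hy, rfl⟩
      exact (h y).1 hy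
    · refine mem_conjBy.2 ((h _).2 ?_)
      simpa [mul_assoc] using hx
  · intro h n
    refine ⟨fun hn => h ▸ conj_mem_conjBy g hn, fun hn => ?_⟩
    rw [← h, mem_conjBy] at hn
    simpa [mul_assoc] using hn

theorem conjBy_eq_self_of_mem {A : Subgroup G} {a : G} (ha : a ∈ A) : conjBy A a = A :=
  mem_normalizer_iff_conjBy.1 (Subgroup.le_normalizer ha)

theorem conjBy_normalizer (A : Subgroup G) (g : G) :
    Subgroup.normalizer ((conjBy A g : Subgroup G) : Set G) =
      conjBy (Subgroup.normalizer (A : Set G)) g := by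
  ext x
  rw [mem_conjBy, mem_normalizer_iff_conjBy, mem_normalizer_iff_conjBy, conjBy_conjBy,
    conjBy_eq_iff (g := g⁻¹ * x * g), conjBy_eq_iff (g := x * g), conjBy_conjBy]
  constructor <;> intro h
  · conv_lhs => rw [h]
    congr 1; group
  · conv_lhs => rw [h]
    congr 1; group

theorem commutator_conjBy (A B : Subgroup G) (g : G) :
    ⁅conjBy A g, conjBy B g⁆ = conjBy ⁅A, B⁆ g :=
  (Subgroup.map_commutator _ _ _).symm

variable {A B : Subgroup G}

namespace RankOne

theorem ne_bot (h : IsRankOnePair A B) : A ≠ ⊥ := by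
  intro hA
  obtain ⟨b, hb⟩ := B.ne_bot_iff_exists_ne_one.1 (hA ▸ h.ne.symm : B ≠ ⊥)
  obtain ⟨a, ha, ha1, -⟩ := h.cond_right b b.2 fun e => hb (Subtype.ext e)
  exact ha1 (Subgroup.mem_bot.1 (hA ▸ ha))

theorem ne_bot_right (h : IsRankOnePair A B) : B ≠ ⊥ := ne_bot (RankOnePair_symm h)

theorem exists_one_ne (h : IsRankOnePair A B) : ∃ a ∈ A, a ≠ 1 := by
  obtain ⟨a, ha⟩ := A.ne_bot_iff_exists_ne_one.1 (ne_bot h)
  exact ⟨a, a.2, fun e => ha (Subtype.ext e)⟩

/-- For `a ∈ A#` the conjugate `a B a⁻¹` is `b A b⁻¹` for some `b ∈ B#`. -/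
theorem exists_partner (h : IsRankOnePair A B) {a : G} (ha : a ∈ A) (ha1 : a ≠ 1) :
    ∃ b ∈ B, b ≠ 1 ∧ conjBy B a = conjBy A b := by
  obtain ⟨b, hb, hb1, e⟩ := h.cond_left a⁻¹ (A.inv_mem ha) (inv_ne_one.2 ha1)
  exact ⟨b⁻¹, B.inv_mem hb, inv_ne_one.2 hb1, by rw [e, inv_inv]⟩

theorem eq_one_of_conjBy_eq (h : IsRankOnePair A B) {a : G} (ha : a ∈ A)
    (he : conjBy B a = B) : a = 1 := by
  by_contra ha1
  obtain ⟨b, hb, -, e⟩ := exists_partner h ha ha1
  rw [he, eq_comm, conjBy_eq_iff, conjBy_eq_self_of_mem (B.inv_mem hb)] at e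
  exact h.ne e

/-- `N_A(B) = 1`. -/
theorem inf_normalizer (h : IsRankOnePair A B) :
    A ⊓ Subgroup.normalizer (B : Set G) = ⊥ :=
  eq_bot_iff.2 fun _ hx => Subgroup.mem_bot.2
    (eq_one_of_conjBy_eq h hx.1 (mem_normalizer_iff_conjBy.1 hx.2))

theorem inj_conj (h : IsRankOnePair A B) {a a' : G} (ha : a ∈ A) (ha' : a' ∈ A)
    (he : conjBy B a = conjBy B a') : a = a' := by
  have h1 : conjBy B (a'⁻¹ * a) = B := by
    rw [← conjBy_conjBy, he, conjBy_conjBy, inv_mul_cancel, conjBy_one]
  exact (inv_mul_eq_one.1 (eq_one_of_conjBy_eq h (A.mul_mem (A.inv_mem ha') ha) h1)).symm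

theorem conj_ne (h : IsRankOnePair A B) {a : G} (ha : a ∈ A) : conjBy B a ≠ A := fun e => by
  rw [conjBy_eq_iff, conjBy_eq_self_of_mem (A.inv_mem ha)] at e
  exact h.ne e.symm

/-- The unipotent subgroups are `A` and the `A`-conjugates of `B`. -/
def points (A B : Subgroup G) : Set (Subgroup G) := {C | C = A ∨ ∃ a ∈ A, C = conjBy B a}

theorem conj_points (h : IsRankOnePair A B) {a : G} (ha : a ∈ A) {C : Subgroup G}
    (hC : C ∈ points A B) : conjBy C a ∈ points A B := by
  rcases hC with rfl | ⟨a', ha', rfl⟩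
  · exact Or.inl (conjBy_eq_self_of_mem ha)
  · exact Or.inr ⟨a * a', A.mul_mem ha ha', conjBy_conjBy B a' a⟩

theorem points_comm (h : IsRankOnePair A B) : points A B ⊆ points B A := by
  rintro C (rfl | ⟨a, ha, rfl⟩)
  · exact Or.inr ⟨1, B.one_mem, (conjBy_one _).symm⟩
  · by_cases ha1 : a = 1
    · exact Or.inl (by rw [ha1, conjBy_one])
    · obtain ⟨b, hb, -, e⟩ := exists_partner h ha ha1
      exact Or.inr ⟨b, hb, e⟩

theorem conj_points_sup (h : IsRankOnePair A B) {x : G} (hx : x ∈ A ⊔ B) :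
    ∀ C ∈ points A B, conjBy C x ∈ points A B ∧ conjBy C x⁻¹ ∈ points A B := by
  rw [← Subgroup.closure_eq A, ← Subgroup.closure_eq B, ← Subgroup.closure_union] at hx
  induction hx using Subgroup.closure_induction with
  | mem y hy =>
    intro C hC
    rcases hy with hy | hy
    · exact ⟨conj_points h hy hC, conj_points h (A.inv_mem hy) hC⟩
    · have h' := RankOnePair_symm h
      exact ⟨points_comm h' (conj_points h' hy (points_comm h hC)),
        points_comm h' (conj_points h' (B.inv_mem hy) (points_comm h hC))⟩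
  | one => intro C hC; rw [inv_one, conjBy_one]; exact ⟨hC, hC⟩
  | mul y z _ _ ihy ihz =>
    intro C hC
    refine ⟨?_, ?_⟩
    · rw [← conjBy_conjBy]; exact (ihy _ (ihz C hC).1).1
    · rw [mul_inv_rev, ← conjBy_conjBy]; exact (ihz _ (ihy C hC).2).2
  | inv y _ ih => intro C hC; rw [inv_inv]; exact ⟨(ih C hC).2, (ih C hC).1⟩

theorem self_mem (A B : Subgroup G) : A ∈ unipotentSubgroups A B :=
  ⟨1, one_mem _, (conjBy_one A).symm⟩

theorem conj_mem {C : Subgroup G} (hC : C ∈ unipotentSubgroups A B) {x : G} (hx : x ∈ A ⊔ B) :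
    conjBy C x ∈ unipotentSubgroups A B := by
  obtain ⟨y, hy, rfl⟩ := hC
  exact ⟨x * y, mul_mem hx hy, conjBy_conjBy _ _ _⟩

theorem mem_iff (h : IsRankOnePair A B) {C : Subgroup G} :
    C ∈ unipotentSubgroups A B ↔ C ∈ points A B := by
  constructor
  · rintro ⟨x, hx, rfl⟩
    exact (conj_points_sup h hx A (Or.inl rfl)).1
  · rintro (rfl | ⟨a, ha, rfl⟩)
    · exact self_mem _ _
    · by_cases ha1 : a = 1
      · rw [ha1, conjBy_one]
        obtain ⟨a₀, ha₀, ha₀1⟩ := exists_one_ne h
        obtain ⟨b, hb, -, e⟩ := exists_partner h ha₀ ha₀1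
        rw [conjBy_eq_iff, conjBy_conjBy] at e
        exact ⟨a₀⁻¹ * b, mul_mem (Subgroup.mem_sup_left (A.inv_mem ha₀))
          (Subgroup.mem_sup_right hb), e⟩
      · obtain ⟨b, hb, -, e⟩ := exists_partner h ha ha1
        exact ⟨b, Subgroup.mem_sup_right hb, e⟩

theorem right_mem (h : IsRankOnePair A B) : B ∈ unipotentSubgroups A B :=
  (mem_iff h).2 (Or.inr ⟨1, A.one_mem, (conjBy_one _).symm⟩)

theorem exists_of_ne (h : IsRankOnePair A B) {C : Subgroup G}
    (hC : C ∈ unipotentSubgroups A B) (hne : C ≠ A) : ∃ a ∈ A, C = conjBy B a :=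
  ((mem_iff h).1 hC).resolve_left hne

/-- Two-transitivity on the unipotent subgroups. -/
theorem exists_to_base (h : IsRankOnePair A B) {C D : Subgroup G}
    (hC : C ∈ unipotentSubgroups A B) (hD : D ∈ unipotentSubgroups A B) (hne : C ≠ D) :
    ∃ x ∈ A ⊔ B, conjBy C x = A ∧ conjBy D x = B := by
  obtain ⟨y, hy, rfl⟩ := hC
  have hD' := conj_mem hD ((A ⊔ B).inv_mem hy)
  obtain ⟨a, ha, e⟩ := exists_of_ne h hD' (fun e => hne (by
    rw [conjBy_eq_iff, inv_inv] at e; exact e.symm))
  refine ⟨a⁻¹ * y⁻¹, mul_mem (Subgroup.mem_sup_left (A.inv_mem ha)) ((A ⊔ B).inv_mem hy), ?_, ?_⟩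
  · rw [conjBy_conjBy, inv_mul_cancel_right, conjBy_eq_self_of_mem (A.inv_mem ha)]
  · rw [← conjBy_conjBy, e, conjBy_conjBy, inv_mul_cancel, conjBy_one]

/-- Two different unipotent subgroups generate the group. -/
theorem sup_eq (h : IsRankOnePair A B) {C D : Subgroup G}
    (hC : C ∈ unipotentSubgroups A B) (hD : D ∈ unipotentSubgroups A B) (hne : C ≠ D) :
    C ⊔ D = A ⊔ B := by
  obtain ⟨x, hx, hxC, hxD⟩ := exists_to_base h hC hD hne
  refine conjBy_injective x (?_ : conjBy (C ⊔ D) x = conjBy (A ⊔ B) x)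
  rw [conjBy_eq_self_of_mem hx]
  exact (Subgroup.map_sup _ _ _).trans (congrArg₂ (· ⊔ ·) hxC hxD)

/-- A unipotent subgroup meets the normalizer of another one trivially. -/
theorem inf_normalizer_points (h : IsRankOnePair A B) {C D : Subgroup G}
    (hC : C ∈ unipotentSubgroups A B) (hD : D ∈ unipotentSubgroups A B) (hne : C ≠ D) :
    C ⊓ Subgroup.normalizer (D : Set G) = ⊥ := by
  obtain ⟨x, -, hxC, hxD⟩ := exists_to_base h hC hD hne
  refine conjBy_injective x (?_ : conjBy (C ⊓ Subgroup.normalizer (D : Set G)) x = conjBy ⊥ x)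
  have h1 := (Subgroup.map_inf C (Subgroup.normalizer (D : Set G))
    (MulAut.conj x).toMonoidHom (MulAut.conj x).injective)
  refine h1.trans ?_
  rw [show (Subgroup.normalizer (D : Set G)).map (MulAut.conj x).toMonoidHom =
    Subgroup.normalizer ((conjBy D x : Subgroup G) : Set G) from (conjBy_normalizer D x).symm,
    hxD, show C.map (MulAut.conj x).toMonoidHom = A from hxC, inf_normalizer h]
  exact (Subgroup.map_bot _).symm

theorem ne_bot_of_mem (h : IsRankOnePair A B) {C : Subgroup G}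
    (hC : C ∈ unipotentSubgroups A B) : C ≠ ⊥ := by
  obtain ⟨x, -, rfl⟩ := hC
  exact fun e => ne_bot h ((Subgroup.map_eq_bot_iff_of_injective _ (MulAut.conj x).injective).1 e)

/-- Different unipotent subgroups do not commute elementwise. -/
theorem commutator_ne_bot (h : IsRankOnePair A B) {C D : Subgroup G}
    (hC : C ∈ unipotentSubgroups A B) (hD : D ∈ unipotentSubgroups A B) (hne : C ≠ D) :
    ⁅C, D⁆ ≠ ⊥ := fun e => by
  refine ne_bot_of_mem h hC ?_
  rw [← inf_normalizer_points h hC hD hne, eq_comm, inf_eq_left]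
  exact (Subgroup.commutator_eq_bot_iff_le_centralizer.1 e).trans
    (centralizer_le_normalizer _)

theorem eq_of_commute (h : IsRankOnePair A B) {C : Subgroup G}
    (hC : C ∈ unipotentSubgroups A B) (e : ⁅A, C⁆ = ⊥) : C = A :=
  by_contra fun hne => commutator_ne_bot h (self_mem A B) hC (Ne.symm hne) e

/-- A non-identity element of `A` commutes with no non-identity element of `B`. -/
theorem not_commute_elements (h : IsRankOnePair A B) {a b : G} (ha : a ∈ A) (ha1 : a ≠ 1)
    (hb : b ∈ B) (hb1 : b ≠ 1) : a * b ≠ b * a := by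
  intro hab
  -- `b` fixes `a B a⁻¹`, so it normalizes it
  have hfix : conjBy (conjBy B a) b = conjBy B a := by
    rw [conjBy_conjBy, ← hab, ← conjBy_conjBy, conjBy_eq_self_of_mem hb]
  have hmem := (mem_iff h).2 (Or.inr ⟨a, ha, rfl⟩)
  have hne : B ≠ conjBy B a := fun e => ha1 (eq_one_of_conjBy_eq h ha e.symm)
  have := inf_normalizer_points h (right_mem h) hmem hne
  exact hb1 (Subgroup.mem_bot.1 (this ▸ ⟨hb, mem_normalizer_iff_conjBy.2 hfix⟩))

/-- An element of the group normalizing all unipotent subgroups centralizes it. -/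
theorem commute_of_forall_normalizes (h : IsRankOnePair A B) {x : G}
    (hx : ∀ C ∈ unipotentSubgroups A B, conjBy C x = C) : ∀ y ∈ A ⊔ B, x * y = y * x := by
  have key : ∀ {A B : Subgroup G}, IsRankOnePair A B →
      (∀ C ∈ unipotentSubgroups A B, conjBy C x = C) → ∀ a ∈ A, x * a = a * x := by
    intro A B h hx a ha
    have hu : x * a * x⁻¹ * a⁻¹ ∈ A ⊓ Subgroup.normalizer (B : Set G) := by
      refine ⟨A.mul_mem ?_ (A.inv_mem ha), mem_normalizer_iff_conjBy.2 ?_⟩
      · exact (hx A (self_mem A B)).le (conj_mem_conjBy x ha)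
      · have e1 : conjBy (conjBy B a⁻¹) x⁻¹ = conjBy B a⁻¹ := by
          rw [conjBy_eq_iff, inv_inv,
            hx _ ((mem_iff h).2 (Or.inr ⟨a⁻¹, A.inv_mem ha, rfl⟩))]
        rw [show x * a * x⁻¹ * a⁻¹ = x * (a * (x⁻¹ * a⁻¹)) by group, ← conjBy_conjBy,
          ← conjBy_conjBy, ← conjBy_conjBy, e1]
        rw [conjBy_conjBy, conjBy_conjBy, mul_inv_cancel_right, hx B (right_mem h)]
    rw [inf_normalizer h, Subgroup.mem_bot, mul_inv_eq_one] at hu
    exact mul_inv_eq_iff_eq_mul.1 hu
  have hB : ∀ b ∈ B, x * b = b * x :=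
    key (RankOnePair_symm h) fun C hC => hx C ((mem_iff h).2
      (points_comm (RankOnePair_symm h) ((mem_iff (RankOnePair_symm h)).1 hC)))
  intro y hy
  have hle : A ⊔ B ≤ Subgroup.centralizer {x} := sup_le
    (fun a ha => Subgroup.mem_centralizer_singleton_iff.2 (key h hx a ha).symm)
    (fun b hb => Subgroup.mem_centralizer_singleton_iff.2 (hB b hb).symm)
  exact (Subgroup.mem_centralizer_singleton_iff.1 (hle hy)).symm

end RankOne

end Cfsg.Agent.Fus

namespace Cfsg.Agent.Fus.RankOne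

open Subgroup

variable {X : Type*} [Group X] {A B : Subgroup X}

/-- In a rank one group an element normalizing every unipotent subgroup is central. -/
theorem mem_center_of_forall (h : IsRankOneGroup X A B) {x : X}
    (hx : ∀ C ∈ unipotentSubgroups A B, conjBy C x = C) : x ∈ Subgroup.center X :=
  Subgroup.mem_center_iff.2 fun y =>
    (commute_of_forall_normalizes h.2 hx y (h.1 ▸ Subgroup.mem_top y)).symm

/-- A normal subgroup is central or supplements `A`. -/
theorem sup_eq_top_or_le_center (h : IsRankOneGroup X A B) {N : Subgroup X} (hN : N.Normal) :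
    N ⊔ A = ⊤ ∨ N ≤ Subgroup.center X := by
  by_cases hall : ∀ x ∈ N, ∀ C ∈ unipotentSubgroups A B, conjBy C x = C
  · exact Or.inr fun x hx => mem_center_of_forall h (hall x hx)
  push Not at hall
  obtain ⟨x, hx, C, hC, hne⟩ := hall
  have hmem : ∀ y : X, y ∈ A ⊔ B := fun y => h.1 ▸ Subgroup.mem_top y
  obtain ⟨y, -, y1, y2⟩ := exists_to_base h.2 hC (conj_mem hC (hmem x)) (Ne.symm hne)
  have hB : conjBy A (y * x * y⁻¹) = B := by
    rw [← y1, ← y2, conjBy_conjBy, conjBy_conjBy, inv_mul_cancel_right]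
  refine Or.inl (top_le_iff.1 (h.1 ▸ sup_le le_sup_right ?_))
  rw [← hB]
  rintro _ ⟨a, ha, rfl⟩
  have hn := Subgroup.mem_sup_left (T := A) (hN.conj_mem x hx y)
  exact mul_mem (mul_mem hn (Subgroup.mem_sup_right ha)) (inv_mem hn)

theorem center_ne_top (h : IsRankOneGroup X A B) : Subgroup.center X ≠ ⊤ := by
  intro e
  obtain ⟨a, ha, ha1⟩ := exists_one_ne h.2
  obtain ⟨b, hb, hb1⟩ := exists_one_ne (RankOnePair_symm h.2)
  exact not_commute_elements h.2 ha ha1 hb hb1
    (Subgroup.mem_center_iff.1 (e.ge (Subgroup.mem_top b)) a)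

theorem upperCentralSeries_two (h : IsRankOneGroup X A B) :
    Subgroup.upperCentralSeries X 2 = Subgroup.center X := by
  refine le_antisymm ?_ ?_
  · intro x hx
    refine mem_center_of_forall h ?_
    rintro C ⟨y, -, rfl⟩
    -- the conjugate `y⁻¹ x y` fixes `A`
    have hx' := ((inferInstance : (Subgroup.upperCentralSeries X 2).Normal).conj_mem x hx y⁻¹)
    rw [Subgroup.mem_upperCentralSeries_succ_iff] at hx'
    simp only [Subgroup.upperCentralSeries_one, inv_inv] at hx'
    have key : conjBy A (y⁻¹ * x * y) = A := by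
      by_contra hne
      set u := y⁻¹ * x * y with hu
      obtain ⟨a, ha, ha1⟩ := exists_one_ne h.2
      have hz := hx' a
      have hzc : conjBy (conjBy A u) (u * a * u⁻¹ * a⁻¹) = conjBy A u := by
        rw [← mem_normalizer_iff_conjBy]
        exact Subgroup.center_le_normalizer _ hz
      have huC : conjBy (conjBy A u) (u * a * u⁻¹) = conjBy A u :=
        conjBy_eq_self_of_mem (conj_mem_conjBy u ha)
      have hfix : conjBy (conjBy A u) a = conjBy A u := by
        conv_lhs => rw [show a = (u * a * u⁻¹ * a⁻¹)⁻¹ * (u * a * u⁻¹) by group, ← conjBy_conjBy,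
          huC]
        rw [conjBy_eq_iff, inv_inv, hzc]
      have hCm : conjBy A u ∈ unipotentSubgroups A B :=
        ⟨u, h.1 ▸ Subgroup.mem_top _, rfl⟩
      exact ha1 (Subgroup.mem_bot.1 ((inf_normalizer_points h.2 (self_mem A B) hCm (Ne.symm hne)) ▸
        ⟨ha, mem_normalizer_iff_conjBy.2 hfix⟩))
    conv_rhs => rw [← key]
    rw [conjBy_conjBy, conjBy_conjBy]
    congr 1
    group
  · rw [← Subgroup.upperCentralSeries_one]
    exact Subgroup.upperCentralSeries_mono X one_le_two

theorem not_isNilpotent (h : IsRankOneGroup X A B) : ¬ Group.IsNilpotent X := by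
  rintro ⟨⟨n, hn⟩⟩
  have key : ∀ n, Subgroup.upperCentralSeries X n ≤ Subgroup.center X := by
    intro n
    induction n with
    | zero => rw [Subgroup.upperCentralSeries_zero]; exact bot_le
    | succ n ih =>
      intro x hx
      rw [← upperCentralSeries_two h, Subgroup.mem_upperCentralSeries_succ_iff]
      intro y
      rw [Subgroup.upperCentralSeries_one]
      exact ih (Subgroup.mem_upperCentralSeries_succ_iff.1 hx y)
  exact center_ne_top h (top_le_iff.1 (hn ▸ key n))

theorem isQuasisimple (h : IsRankOneGroup X A B) (hp : Group.IsPerfect X) :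
    Cfsg.IsQuasisimple X := by
  refine ⟨hp, ?_⟩
  haveI : Nontrivial (X ⧸ Subgroup.center X) :=
    (QuotientGroup.nontrivial_iff.2 (center_ne_top h))
  refine ⟨fun N hN => ?_⟩
  have hN' : (N.comap (QuotientGroup.mk' (Subgroup.center X))).Normal := hN.comap _
  set M := N.comap (QuotientGroup.mk' (Subgroup.center X)) with hM
  rcases sup_eq_top_or_le_center h hN' with h1 | h1
  · refine Or.inr ?_
    suffices M = ⊤ by
      rw [← Subgroup.map_comap_eq_self_of_surjective (QuotientGroup.mk'_surjective _) N, ← hM, this,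
        Subgroup.map_top_of_surjective _ (QuotientGroup.mk'_surjective _)]
    haveI := hN'
    have hsurj : Function.Surjective ((QuotientGroup.mk' M).comp A.subtype) := by
      intro q
      obtain ⟨x, rfl⟩ := QuotientGroup.mk'_surjective M q
      obtain ⟨m, hm, a, ha, rfl⟩ := Subgroup.mem_sup_of_normal_left.1 (h1.ge (Subgroup.mem_top x))
      refine ⟨⟨a, ha⟩, ?_⟩
      show QuotientGroup.mk' M a = QuotientGroup.mk' M (m * a)
      rw [map_mul, show QuotientGroup.mk' M m = 1 from (QuotientGroup.eq_one_iff m).2 hm, one_mul]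
    haveI := h.2.nilpotent_left
    haveI : Group.IsNilpotent (X ⧸ M) := Group.nilpotent_of_surjective _ hsurj
    by_contra hne
    haveI : Nontrivial (X ⧸ M) := QuotientGroup.nontrivial_iff.2 hne
    haveI := hp
    haveI : Group.IsPerfect (X ⧸ M) := inferInstance
    exact Group.IsPerfect.not_isSolvable (X ⧸ M) inferInstance
  · refine Or.inl ?_
    rw [← Subgroup.map_comap_eq_self_of_surjective (QuotientGroup.mk'_surjective _) N, ← hM,
      Subgroup.map_eq_bot_iff, QuotientGroup.ker_mk']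
    exact h1

end Cfsg.Agent.Fus.RankOne
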