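import Mathlib
import Cfsg.Prelude.Def_RootSubgroups
import Cfsg.Agent.Lib.Fus.RootLines
import Cfsg.Agent.Lib.Classical.SLGroup
import Cfsg.Agent.Lib.Classical.SLNormal
import Cfsg.Agent.S5016

/-!
Transvection subgroups of a group of matrices: any two of them commute, or generate an image of
`SL₂`, or are in the commutator case.
-/

set_option autoImplicit false

open scoped commutatorElement

namespace Cfsg.Agent.Fus.TV

open Matrix

variable {F : Type*} [Field F] {ι : Type*} [Fintype ι] [DecidableEq ι] {Γ : Type*} [Group Γ]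
  (ρ : Γ →* Matrix ι ι F)

/-- The matrix of a transvection. -/
def mat (v φ : ι → F) (c : F) : Matrix ι ι F := 1 + c • Matrix.vecMulVec v φ

/-- The group of the transvections of `Γ` with given centre and axis. -/
def root (v φ : ι → F) : Subgroup Γ := Subgroup.closure {g | ∃ c : F, ρ g = mat v φ c}

theorem vec_mul_vec (v φ w ψ : ι → F) :
    Matrix.vecMulVec v φ * Matrix.vecMulVec w ψ = (φ ⬝ᵥ w) • Matrix.vecMulVec v ψ := by
  rw [Matrix.vecMulVec_mul_vecMulVec, Matrix.vecMulVec_smul]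

theorem mat_mul {v φ : ι → F} (h : φ ⬝ᵥ v = 0) (c d : F) :
    mat v φ c * mat v φ d = mat v φ (c + d) := by
  simp only [mat, add_mul, mul_add, one_mul, mul_one, smul_mul_assoc, mul_smul_comm, vec_mul_vec,
    h, zero_smul, smul_zero, add_smul]
  abel

theorem mat_zero (v φ : ι → F) : mat v φ 0 = 1 := by simp [mat]

theorem mat_smul (v φ : ι → F) (a b c : F) :
    mat (a • v) (b • φ) c = mat v φ (a * b * c) := by
  simp only [mat, Matrix.smul_vecMulVec, Matrix.vecMulVec_smul, smul_smul]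
  congr 2
  ring

theorem mat_injective {v φ : ι → F} (hv : v ≠ 0) (hφ : φ ≠ 0) :
    Function.Injective (mat v φ) := by
  intro c d h
  obtain ⟨i, hi⟩ := Function.ne_iff.1 hv
  obtain ⟨j, hj⟩ := Function.ne_iff.1 hφ
  have h' : c • Matrix.vecMulVec v φ = d • Matrix.vecMulVec v φ := add_left_cancel h
  have := congrFun (congrFun h' i) j
  simp only [Matrix.smul_apply, Matrix.vecMulVec_apply, smul_eq_mul] at this
  exact mul_right_cancel₀ (mul_ne_zero hi hj) this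

theorem mem_root (hρ : Function.Injective ρ) {v φ : ι → F} (h : φ ⬝ᵥ v = 0) {g : Γ} :
    g ∈ root ρ v φ ↔ ∃ c : F, ρ g = mat v φ c := by
  refine ⟨fun hg => ?_, fun hg => Subgroup.subset_closure hg⟩
  induction hg using Subgroup.closure_induction with
  | mem g hg => exact hg
  | one => exact ⟨0, by rw [map_one, mat_zero]⟩
  | mul a b _ _ ha hb =>
    obtain ⟨c, hc⟩ := ha
    obtain ⟨d, hd⟩ := hb
    exact ⟨c + d, by rw [map_mul, hc, hd, mat_mul h]⟩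
  | inv a _ ha =>
    obtain ⟨c, hc⟩ := ha
    refine ⟨-c, ?_⟩
    calc ρ a⁻¹ = ρ a⁻¹ * (mat v φ c * mat v φ (-c)) := by
          rw [mat_mul h, add_neg_cancel, mat_zero, mul_one]
      _ = _ := by rw [← mul_assoc, ← hc, ← map_mul, inv_mul_cancel, map_one, one_mul]

/-- Commutation of two transvections. -/
theorem mat_commute {v φ w ψ : ι → F} (hα : φ ⬝ᵥ w = 0) (hβ : ψ ⬝ᵥ v = 0) (c d : F) :
    mat v φ c * mat w ψ d = mat w ψ d * mat v φ c := by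
  simp only [mat, add_mul, mul_add, one_mul, mul_one, smul_mul_assoc, mul_smul_comm, vec_mul_vec,
    hα, hβ, zero_smul, smul_zero]
  abel

theorem mat_commutator {v φ w ψ : ι → F} (hv : φ ⬝ᵥ v = 0) (hw : ψ ⬝ᵥ w = 0) (hα : φ ⬝ᵥ w = 0)
    (c d : F) : mat v φ c * mat w ψ d * (mat v φ (-c) * mat w ψ (-d)) =
      mat w φ (-(c * d * (ψ ⬝ᵥ v))) := by
  simp only [mat, add_mul, mul_add, one_mul, mul_one, smul_mul_assoc, mul_smul_comm, vec_mul_vec,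
    hv, hw, hα, zero_smul, smul_zero, smul_smul, neg_smul, neg_mul, mul_neg, smul_neg, neg_neg,
    neg_zero, add_zero, zero_add, mul_zero, zero_mul, zero_smul]
  module

theorem map_commutator {g h : Γ} {v φ w ψ : ι → F} {c d : F} (hv : φ ⬝ᵥ v = 0) (hw : ψ ⬝ᵥ w = 0)
    (hα : φ ⬝ᵥ w = 0) (hg : ρ g = mat v φ c) (hh : ρ h = mat w ψ d) :
    ρ (g * h * g⁻¹ * h⁻¹) = mat w φ (-(c * d * (ψ ⬝ᵥ v))) := by
  have inv : ∀ {x : Γ} {u χ : ι → F} {e : F}, χ ⬝ᵥ u = 0 → ρ x = mat u χ e →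
      ρ x⁻¹ = mat u χ (-e) := by
    intro x u χ e he hx
    calc ρ x⁻¹ = ρ x⁻¹ * (mat u χ e * mat u χ (-e)) := by
          rw [mat_mul he, add_neg_cancel, mat_zero, mul_one]
      _ = _ := by rw [← mul_assoc, ← hx, ← map_mul, inv_mul_cancel, map_one, one_mul]
  rw [map_mul, map_mul, map_mul, hg, hh, inv hv hg, inv hw hh, mul_assoc,
    mat_commutator hv hw hα]

theorem commutator_eq_bot (hρ : Function.Injective ρ) {v φ w ψ : ι → F} (hv : φ ⬝ᵥ v = 0)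
    (hw : ψ ⬝ᵥ w = 0) (hα : φ ⬝ᵥ w = 0) (hβ : ψ ⬝ᵥ v = 0) :
    ⁅root ρ v φ, root ρ w ψ⁆ = ⊥ := by
  refine le_bot_iff.1 (Subgroup.commutator_le.2 fun g hg h hh => ?_)
  obtain ⟨c, hc⟩ := (mem_root ρ hρ hv).1 hg
  obtain ⟨d, hd⟩ := (mem_root ρ hρ hw).1 hh
  rw [Subgroup.mem_bot, commutatorElement_eq_one_iff_mul_comm]
  exact hρ (by rw [map_mul, map_mul, hc, hd, mat_commute hα hβ])

/-- The commutator case. -/
theorem rootCommutatorCase (hρ : Function.Injective ρ) {S : Set (Subgroup Γ)} {v φ w ψ : ι → F}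
    (hv : φ ⬝ᵥ v = 0) (hw : ψ ⬝ᵥ w = 0) (hα : φ ⬝ᵥ w = 0) (hβ : ψ ⬝ᵥ v ≠ 0)
    (hA : ∀ c : F, ∃ g : Γ, ρ g = mat v φ c) (hB : ∀ c : F, ∃ g : Γ, ρ g = mat w ψ c)
    (hS : root ρ w φ ∈ S) :
    Cfsg.RootCommutatorCase S (root ρ v φ) (root ρ w ψ) := by
  have hle : ⁅root ρ v φ, root ρ w ψ⁆ ≤ root ρ w φ := by
    refine Subgroup.commutator_le.2 fun g hg h hh => ?_
    obtain ⟨c, hc⟩ := (mem_root ρ hρ hv).1 hg
    obtain ⟨d, hd⟩ := (mem_root ρ hρ hw).1 hh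
    rw [commutatorElement_def]
    exact (mem_root ρ hρ hα).2 ⟨_, map_commutator ρ hv hw hα hc hd⟩
  have hleft : ∀ a ∈ root ρ v φ, a ≠ 1 →
      Subgroup.closure ((fun b : Γ => a * b * a⁻¹ * b⁻¹) '' (root ρ w ψ : Set Γ)) =
        root ρ w φ := by
    intro a ha ha1
    obtain ⟨c, hc⟩ := (mem_root ρ hρ hv).1 ha
    have hc0 : c ≠ 0 := fun e => ha1 (hρ (by rw [hc, e, mat_zero, map_one]))
    refine le_antisymm ((Subgroup.closure_le _).2 ?_) fun x hx => ?_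
    · rintro _ ⟨b, hb, rfl⟩
      obtain ⟨d, hd⟩ := (mem_root ρ hρ hw).1 hb
      exact (mem_root ρ hρ hα).2 ⟨_, map_commutator ρ hv hw hα hc hd⟩
    · obtain ⟨e, he⟩ := (mem_root ρ hρ hα).1 hx
      obtain ⟨b, hb⟩ := hB (-e / (c * (ψ ⬝ᵥ v)))
      refine Subgroup.subset_closure ⟨b, (mem_root ρ hρ hw).2 ⟨_, hb⟩, hρ ?_⟩
      show ρ (a * b * a⁻¹ * b⁻¹) = ρ x
      rw [map_commutator ρ hv hw hα hc hb, he]
      congr 1
      field_simp
  have hright : ∀ b ∈ root ρ w ψ, b ≠ 1 →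
      Subgroup.closure ((fun a : Γ => a * b * a⁻¹ * b⁻¹) '' (root ρ v φ : Set Γ)) =
        root ρ w φ := by
    intro b hb hb1
    obtain ⟨d, hd⟩ := (mem_root ρ hρ hw).1 hb
    have hd0 : d ≠ 0 := fun e => hb1 (hρ (by rw [hd, e, mat_zero, map_one]))
    refine le_antisymm ((Subgroup.closure_le _).2 ?_) fun x hx => ?_
    · rintro _ ⟨a, ha, rfl⟩
      obtain ⟨c, hc⟩ := (mem_root ρ hρ hv).1 ha
      exact (mem_root ρ hρ hα).2 ⟨_, map_commutator ρ hv hw hα hc hd⟩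
    · obtain ⟨e, he⟩ := (mem_root ρ hρ hα).1 hx
      obtain ⟨a, ha⟩ := hA (-e / (d * (ψ ⬝ᵥ v)))
      refine Subgroup.subset_closure ⟨a, (mem_root ρ hρ hv).2 ⟨_, ha⟩, hρ ?_⟩
      show ρ (a * b * a⁻¹ * b⁻¹) = ρ x
      rw [map_commutator ρ hv hw hα ha hd, he]
      congr 1
      field_simp
  obtain ⟨a, ha⟩ := hA 1
  have hv0 : v ≠ 0 := fun e => hβ (by rw [e, dotProduct_zero])
  have heq : ⁅root ρ v φ, root ρ w ψ⁆ = root ρ w φ := by
    rcases eq_or_ne φ 0 with rfl | hφ0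
    · refine le_antisymm hle ((Subgroup.closure_le _).2 ?_)
      rintro x ⟨e, he⟩
      have hx : x = 1 := hρ (by rw [he, map_one]; simp [mat])
      rw [hx]
      exact one_mem _
    refine le_antisymm hle ?_
    have ha1 : a ≠ 1 := fun e => by
      rw [e, map_one, ← mat_zero v φ] at ha
      exact one_ne_zero (mat_injective hv0 hφ0 ha).symm
    rw [← hleft a ((mem_root ρ hρ hv).2 ⟨_, ha⟩) ha1]
    refine (Subgroup.closure_le _).2 ?_
    rintro _ ⟨b, hb, rfl⟩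
    exact Subgroup.commutator_mem_commutator ((mem_root ρ hρ hv).2 ⟨_, ha⟩) hb
  rw [Cfsg.RootCommutatorCase, heq]
  refine ⟨hS, fun z hz x hx => ?_, hleft, hright⟩
  obtain ⟨e, he⟩ := (mem_root ρ hρ hα).1 hz
  have hle' : root ρ v φ ⊔ root ρ w ψ ≤ Subgroup.centralizer {z} := by
    refine sup_le (fun g hg => Subgroup.mem_centralizer_iff.2 fun y hy => ?_)
      (fun g hg => Subgroup.mem_centralizer_iff.2 fun y hy => ?_)
    · obtain ⟨c, hc⟩ := (mem_root ρ hρ hv).1 hg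
      rw [Set.mem_singleton_iff.1 hy]
      exact hρ (by rw [map_mul, map_mul, he, hc, mat_commute hv hα])
    · obtain ⟨c, hc⟩ := (mem_root ρ hρ hw).1 hg
      rw [Set.mem_singleton_iff.1 hy]
      exact hρ (by rw [map_mul, map_mul, he, hc, mat_commute hα hw])
  exact Subgroup.mem_centralizer_iff.1 (hle' hx) z rfl

section Pair

variable {v φ w ψ : ι → F}

/-- Columns `v`, `w`. -/
def colsOf (v w : ι → F) : Matrix ι (Fin 2) F := Matrix.of fun i j => ![v, w] j i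

/-- Rows dual to `v`, `w`. -/
def rowsOf (v φ w ψ : ι → F) : Matrix (Fin 2) ι F :=
  Matrix.of ![(ψ ⬝ᵥ v)⁻¹ • ψ, (φ ⬝ᵥ w)⁻¹ • φ]

theorem rows_mul_cols (hv : φ ⬝ᵥ v = 0) (hw : ψ ⬝ᵥ w = 0) (hα : φ ⬝ᵥ w ≠ 0) (hβ : ψ ⬝ᵥ v ≠ 0) :
    rowsOf v φ w ψ * colsOf v w = 1 := by
  ext i j
  have key : (rowsOf v φ w ψ * colsOf v w) i j =
      ![(ψ ⬝ᵥ v)⁻¹ • ψ, (φ ⬝ᵥ w)⁻¹ • φ] i ⬝ᵥ ![v, w] j := rfl
  rw [key]
  fin_cases i <;> fin_cases j <;>
    simp [smul_dotProduct, hv, hw, inv_mul_cancel₀ hα, inv_mul_cancel₀ hβ]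

/-- The block embedding of `SL₂` on the plane of `v`, `w`. -/
noncomputable def block (hv : φ ⬝ᵥ v = 0) (hw : ψ ⬝ᵥ w = 0) (hα : φ ⬝ᵥ w ≠ 0)
    (hβ : ψ ⬝ᵥ v ≠ 0) : Matrix.SpecialLinearGroup (Fin 2) F →* Matrix ι ι F where
  toFun g := 1 + colsOf v w * ((g : Matrix (Fin 2) (Fin 2) F) - 1) * rowsOf v φ w ψ
  map_one' := by simp
  map_mul' g h := by
    have e : colsOf v w * ((g : Matrix (Fin 2) (Fin 2) F) - 1) * rowsOf v φ w ψ *
        (colsOf v w * ((h : Matrix (Fin 2) (Fin 2) F) - 1) * rowsOf v φ w ψ) =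
        colsOf v w * (((g : Matrix (Fin 2) (Fin 2) F) - 1) *
          ((h : Matrix (Fin 2) (Fin 2) F) - 1)) * rowsOf v φ w ψ := by
      simp only [Matrix.mul_assoc]
      rw [← Matrix.mul_assoc (rowsOf v φ w ψ) (colsOf v w), rows_mul_cols hv hw hα hβ,
        Matrix.one_mul]
    rw [add_mul, mul_add, mul_add, one_mul, one_mul, mul_one, e,
      Matrix.SpecialLinearGroup.coe_mul,
      show (g : Matrix (Fin 2) (Fin 2) F) * h - 1 = ((g : Matrix (Fin 2) (Fin 2) F) - 1) +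
        ((h : Matrix (Fin 2) (Fin 2) F) - 1) + ((g : Matrix (Fin 2) (Fin 2) F) - 1) *
          ((h : Matrix (Fin 2) (Fin 2) F) - 1) by noncomm_ring,
      Matrix.mul_add, Matrix.mul_add, Matrix.add_mul, Matrix.add_mul]
    abel

theorem block_injective (hv : φ ⬝ᵥ v = 0) (hw : ψ ⬝ᵥ w = 0) (hα : φ ⬝ᵥ w ≠ 0)
    (hβ : ψ ⬝ᵥ v ≠ 0) : Function.Injective (block hv hw hα hβ) := by
  intro g h e
  have e' := congrArg (fun X => rowsOf v φ w ψ * (X - 1) * colsOf v w) e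
  simp only [block, MonoidHom.coe_mk, OneHom.coe_mk, add_sub_cancel_left] at e'
  rw [← Matrix.mul_assoc, ← Matrix.mul_assoc, rows_mul_cols hv hw hα hβ, Matrix.one_mul,
    Matrix.mul_assoc, rows_mul_cols hv hw hα hβ, Matrix.mul_one, ← Matrix.mul_assoc,
    ← Matrix.mul_assoc, rows_mul_cols hv hw hα hβ, Matrix.one_mul, Matrix.mul_assoc,
    rows_mul_cols hv hw hα hβ, Matrix.mul_one] at e'
  exact Subtype.ext (sub_left_injective e')

theorem block_upper (hv : φ ⬝ᵥ v = 0) (hw : ψ ⬝ᵥ w = 0) (hα : φ ⬝ᵥ w ≠ 0) (hβ : ψ ⬝ᵥ v ≠ 0)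
    {g : Matrix.SpecialLinearGroup (Fin 2) F} (h : (g : Matrix (Fin 2) (Fin 2) F) 1 0 = 0 ∧
      (g : Matrix (Fin 2) (Fin 2) F) 0 0 = 1 ∧ (g : Matrix (Fin 2) (Fin 2) F) 1 1 = 1) :
    block hv hw hα hβ g =
      mat v φ ((g : Matrix (Fin 2) (Fin 2) F) 0 1 * (φ ⬝ᵥ w)⁻¹) := by
  obtain ⟨h1, h2, h3⟩ := h
  ext i j
  simp only [block, mat, MonoidHom.coe_mk, OneHom.coe_mk, Matrix.add_apply]
  congr 1
  simp [Matrix.mul_apply, Fin.sum_univ_two, colsOf, rowsOf, h1, h2, h3, Matrix.vecMulVec_apply]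
  ring

theorem block_lower (hv : φ ⬝ᵥ v = 0) (hw : ψ ⬝ᵥ w = 0) (hα : φ ⬝ᵥ w ≠ 0) (hβ : ψ ⬝ᵥ v ≠ 0)
    {g : Matrix.SpecialLinearGroup (Fin 2) F} (h : (g : Matrix (Fin 2) (Fin 2) F) 0 1 = 0 ∧
      (g : Matrix (Fin 2) (Fin 2) F) 0 0 = 1 ∧ (g : Matrix (Fin 2) (Fin 2) F) 1 1 = 1) :
    block hv hw hα hβ g =
      mat w ψ ((g : Matrix (Fin 2) (Fin 2) F) 1 0 * (ψ ⬝ᵥ v)⁻¹) := by
  obtain ⟨h1, h2, h3⟩ := h
  ext i j
  simp only [block, mat, MonoidHom.coe_mk, OneHom.coe_mk, Matrix.add_apply]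
  congr 1
  simp [Matrix.mul_apply, Fin.sum_univ_two, colsOf, rowsOf, h1, h2, h3, Matrix.vecMulVec_apply]
  ring

theorem exists_block_hom (hρ : Function.Injective ρ) (hv : φ ⬝ᵥ v = 0) (hw : ψ ⬝ᵥ w = 0)
    (hα : φ ⬝ᵥ w ≠ 0) (hβ : ψ ⬝ᵥ v ≠ 0)
    (hA : ∀ c : F, ∃ g : Γ, ρ g = mat v φ c) (hB : ∀ c : F, ∃ g : Γ, ρ g = mat w ψ c) :
    ∃ Φ : Matrix.SpecialLinearGroup (Fin 2) F →* Γ, ∀ g, ρ (Φ g) = block hv hw hα hβ g := by
  have htop : ∀ g, ∃ x : Γ, ρ x = block hv hw hα hβ g := by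
    intro g
    have hg : g ∈ Subgroup.closure (Set.range (Matrix.TransvectionStruct.toSpecialLinearGroup :
        Matrix.TransvectionStruct (Fin 2) F → Matrix.SpecialLinearGroup (Fin 2) F)) := by
      rw [Classical.SL_closure_transvections]
      exact Subgroup.mem_top g
    induction hg using Subgroup.closure_induction with
    | mem x hx =>
      obtain ⟨⟨i, j, hij, c⟩, rfl⟩ := hx
      fin_cases i <;> fin_cases j
      · exact absurd rfl hij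
      · obtain ⟨x, hx⟩ := hA (c * (φ ⬝ᵥ w)⁻¹)
        refine ⟨x, ?_⟩
        rw [hx, block_upper hv hw hα hβ (by simp [Matrix.SpecialLinearGroup.transvection, Matrix.transvection])]
        simp [Matrix.SpecialLinearGroup.transvection, Matrix.transvection]
      · obtain ⟨x, hx⟩ := hB (c * (ψ ⬝ᵥ v)⁻¹)
        refine ⟨x, ?_⟩
        rw [hx, block_lower hv hw hα hβ (by simp [Matrix.SpecialLinearGroup.transvection, Matrix.transvection])]
        simp [Matrix.SpecialLinearGroup.transvection, Matrix.transvection]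
      · exact absurd rfl hij
    | one => exact ⟨1, by rw [map_one, map_one]⟩
    | mul a b _ _ ha hb =>
      obtain ⟨x, hx⟩ := ha
      obtain ⟨y, hy⟩ := hb
      exact ⟨x * y, by rw [map_mul, map_mul, hx, hy]⟩
    | inv a _ ha =>
      obtain ⟨x, hx⟩ := ha
      refine ⟨x⁻¹, ?_⟩
      calc ρ x⁻¹ = ρ x⁻¹ * (block hv hw hα hβ a * block hv hw hα hβ a⁻¹) := by
            rw [← map_mul, mul_inv_cancel, map_one, mul_one]
        _ = _ := by rw [← mul_assoc, ← hx, ← map_mul, inv_mul_cancel, map_one, one_mul]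
  choose f hf using htop
  exact ⟨MonoidHom.mk' f fun a b => hρ (by rw [map_mul, hf, hf, hf, map_mul]), hf⟩

theorem isPSL2PairOver (hρ : Function.Injective ρ) (hv : φ ⬝ᵥ v = 0) (hw : ψ ⬝ᵥ w = 0)
    (hα : φ ⬝ᵥ w ≠ 0) (hβ : ψ ⬝ᵥ v ≠ 0)
    (hA : ∀ c : F, ∃ g : Γ, ρ g = mat v φ c) (hB : ∀ c : F, ∃ g : Γ, ρ g = mat w ψ c) :
    Cfsg.IsPSL2PairOver F (root ρ v φ) (root ρ w ψ) := by
  obtain ⟨Φ, hΦ⟩ := exists_block_hom ρ hρ hv hw hα hβ hA hB
  have hinj : Function.Injective Φ := fun a b e =>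
    block_injective hv hw hα hβ (by rw [← hΦ, ← hΦ, e])
  have hU : (Cfsg.upperUnipotentSL2 F).map Φ = root ρ v φ := by
    rw [Cfsg.upperUnipotentSL2, MonoidHom.map_closure]
    refine le_antisymm ((Subgroup.closure_le _).2 ?_) ((Subgroup.closure_le _).2 ?_)
    · rintro _ ⟨g, hg, rfl⟩
      exact (mem_root ρ hρ hv).2 ⟨_, (hΦ g).trans (block_upper hv hw hα hβ hg)⟩
    · rintro x ⟨c, hc⟩
      refine Subgroup.subset_closure ⟨(⟨!![1, c * (φ ⬝ᵥ w); 0, 1], by simp [Matrix.det_fin_two]⟩ :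
        Matrix.SpecialLinearGroup (Fin 2) F),
        ⟨by simp, by simp, by simp⟩, hρ ?_⟩
      refine ((hΦ _).trans (block_upper hv hw hα hβ ⟨by simp, by simp, by simp⟩)).trans ?_
      rw [hc]
      congr 1
      simp [hα]
  have hL : (Cfsg.lowerUnipotentSL2 F).map Φ = root ρ w ψ := by
    rw [Cfsg.lowerUnipotentSL2, MonoidHom.map_closure]
    refine le_antisymm ((Subgroup.closure_le _).2 ?_) ((Subgroup.closure_le _).2 ?_)
    · rintro _ ⟨g, hg, rfl⟩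
      exact (mem_root ρ hρ hw).2 ⟨_, (hΦ g).trans (block_lower hv hw hα hβ hg)⟩
    · rintro x ⟨c, hc⟩
      refine Subgroup.subset_closure ⟨(⟨!![1, 0; c * (ψ ⬝ᵥ v), 1], by simp [Matrix.det_fin_two]⟩ :
        Matrix.SpecialLinearGroup (Fin 2) F),
        ⟨by simp, by simp, by simp⟩, hρ ?_⟩
      refine ((hΦ _).trans (block_lower hv hw hα hβ ⟨by simp, by simp, by simp⟩)).trans ?_
      rw [hc]
      congr 1
      simp [hβ]
  refine ⟨Φ, ?_, ?_, hU, hL⟩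
  · rw [MonoidHom.range_eq_map, ← hU, ← hL, ← Subgroup.map_sup, sup_comm,
      (Cfsg.Agent.S5016.result F).1.1]
  · rw [(MonoidHom.ker_eq_bot_iff Φ).2 hinj]
    exact bot_le

end Pair

/-- A centre and an axis of transvections all of which lie in `Γ`. -/
structure IsLine (v φ : ι → F) : Prop where
  center_ne : v ≠ 0
  axis_ne : φ ≠ 0
  incident : φ ⬝ᵥ v = 0
  full : ∀ c : F, ∃ g : Γ, ρ g = mat v φ c

section Family

variable {v φ w ψ : ι → F}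

theorem root_ne_bot (hρ : Function.Injective ρ) (h : IsLine ρ v φ) : root ρ v φ ≠ ⊥ := fun e => by
  obtain ⟨g, hg⟩ := h.full 1
  have : g ∈ root ρ v φ := (mem_root ρ hρ h.incident).2 ⟨_, hg⟩
  rw [e, Subgroup.mem_bot] at this
  rw [this, map_one, ← mat_zero v φ] at hg
  exact one_ne_zero (mat_injective h.center_ne h.axis_ne hg).symm

theorem root_comm (hρ : Function.Injective ρ) (h : IsLine ρ v φ) :
    IsMulCommutative (root ρ v φ) := by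
  refine ⟨⟨fun a b => Subtype.ext ?_⟩⟩
  obtain ⟨c, hc⟩ := (mem_root ρ hρ h.incident).1 a.2
  obtain ⟨d, hd⟩ := (mem_root ρ hρ h.incident).1 b.2
  exact hρ (by simp only [Subgroup.coe_mul, map_mul, hc, hd, mat_commute h.incident h.incident])

theorem root_ne (hρ : Function.Injective ρ) (h : IsLine ρ v φ) (h' : IsLine ρ w ψ)
    (hβ : ψ ⬝ᵥ v ≠ 0) : root ρ v φ ≠ root ρ w ψ := by
  intro e
  obtain ⟨g, hg⟩ := h.full 1
  obtain ⟨c, hc⟩ := (mem_root ρ hρ h'.incident).1 (e ▸ (mem_root ρ hρ h.incident).2 ⟨_, hg⟩)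
  rw [hg] at hc
  have := congrArg (fun X => ψ ᵥ* X) hc
  simp only [mat, Matrix.vecMul_add, Matrix.vecMul_one, Matrix.vecMul_smul,
    Matrix.vecMul_vecMulVec, h'.incident, zero_smul, smul_zero, add_zero, one_smul] at this
  rw [add_eq_left] at this
  exact h.axis_ne ((smul_eq_zero_iff_right hβ).1 this)

theorem rankOne_pair (hρ : Function.Injective ρ) (h : IsLine ρ v φ) (h' : IsLine ρ w ψ)
    (hα : φ ⬝ᵥ w ≠ 0) (hβ : ψ ⬝ᵥ v ≠ 0) :
    Cfsg.IsRankOnePair (root ρ v φ) (root ρ w ψ) ∧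
      Cfsg.IsPSL2PairOver F (root ρ v φ) (root ρ w ψ) := by
  have hp := isPSL2PairOver ρ hρ h.incident h'.incident hα hβ h.full h'.full
  refine ⟨?_, hp⟩
  obtain ⟨Φ, -, -, hU, hL⟩ := hp
  rw [← hU, ← hL]
  exact isRankOnePair_map Φ (Cfsg.RankOnePair_symm (Cfsg.Agent.S5016.result F).1.2)
    (by rw [hU, hL]; exact root_ne ρ hρ h h' hβ)

variable {S : Set (Subgroup Γ)}

theorem not_rootCommutatorCase_of_commute (hS : Cfsg.IsRootSubgroupSet S) {A B : Subgroup Γ}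
    (h : ⁅A, B⁆ = ⊥) : ¬ Cfsg.RootCommutatorCase S A B := fun hc => hS.ne_bot _ hc.1 h

theorem not_rootCommutatorCase_of_rankOne (hS : Cfsg.IsRootSubgroupSet S) {A B : Subgroup Γ}
    (hB : B ∈ S) (h : Cfsg.IsRankOnePair A B) : ¬ Cfsg.RootCommutatorCase S A B := fun hc => by
  obtain ⟨a, ha, ha1⟩ := RankOne.exists_one_ne h
  refine RankOne.commutator_ne_bot h (RankOne.conj_mem (RankOne.right_mem h)
    (Subgroup.mem_sup_left ha)) (RankOne.right_mem h) ?_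
    (RootCommutatorCase.commutator_conjBy_eq_bot hS hB hc ha)
  exact fun e => ha1 (RankOne.eq_one_of_conjBy_eq h ha e)

variable {P : Set ((ι → F) × (ι → F))}

/-- The family of transvection groups of a set of centres and axes. -/
def family (P : Set ((ι → F) × (ι → F))) : Set (Subgroup Γ) :=
  {A | ∃ p ∈ P, A = root ρ p.1 p.2}

theorem pair_cases (hρ : Function.Injective ρ) (hP : ∀ p ∈ P, IsLine ρ p.1 p.2)
    (hclosed : ∀ p ∈ P, ∀ q ∈ P, p.2 ⬝ᵥ q.1 = 0 → q.2 ⬝ᵥ p.1 ≠ 0 →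
      root ρ q.1 p.2 ∈ family ρ P)
    {p q : (ι → F) × (ι → F)} (hp : p ∈ P) (hq : q ∈ P) :
    (p.2 ⬝ᵥ q.1 = 0 ∧ q.2 ⬝ᵥ p.1 = 0 ∧ ⁅root ρ p.1 p.2, root ρ q.1 q.2⁆ = ⊥) ∨
    (p.2 ⬝ᵥ q.1 ≠ 0 ∧ q.2 ⬝ᵥ p.1 ≠ 0 ∧
      Cfsg.IsRankOnePair (root ρ p.1 p.2) (root ρ q.1 q.2)) ∨
    ((p.2 ⬝ᵥ q.1 = 0 ↔ q.2 ⬝ᵥ p.1 ≠ 0) ∧
      Cfsg.RootCommutatorCase (family ρ P) (root ρ p.1 p.2) (root ρ q.1 q.2)) := by
  have h := hP p hp
  have h' := hP q hq
  by_cases hα : p.2 ⬝ᵥ q.1 = 0 <;> by_cases hβ : q.2 ⬝ᵥ p.1 = 0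
  · exact Or.inl ⟨hα, hβ, commutator_eq_bot ρ hρ h.incident h'.incident hα hβ⟩
  · exact Or.inr (Or.inr ⟨iff_of_true hα hβ, rootCommutatorCase ρ hρ h.incident h'.incident hα hβ
      h.full h'.full (hclosed p hp q hq hα hβ)⟩)
  · exact Or.inr (Or.inr ⟨iff_of_false hα (not_not.2 hβ), RootCommutatorCase.symm'
      (rootCommutatorCase ρ hρ h'.incident h.incident hβ hα h'.full h.full
        (hclosed q hq p hp hβ hα))⟩)
  · exact Or.inr (Or.inl ⟨hα, hβ, (rankOne_pair ρ hρ h h' hα hβ).1⟩)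

theorem isRootSubgroupSet (hρ : Function.Injective ρ) (hP : ∀ p ∈ P, IsLine ρ p.1 p.2)
    (hclosed : ∀ p ∈ P, ∀ q ∈ P, p.2 ⬝ᵥ q.1 = 0 → q.2 ⬝ᵥ p.1 ≠ 0 →
      root ρ q.1 p.2 ∈ family ρ P)
    (hgen : (⨆ A ∈ family ρ P, A) = ⊤)
    (hconj : ∀ A ∈ family ρ P, ∀ g : Γ, Cfsg.conjBy A g ∈ family ρ P) :
    Cfsg.IsRootSubgroupSet (family ρ P) where
  commutative := by
    rintro A ⟨p, hp, rfl⟩
    exact root_comm ρ hρ (hP p hp)
  ne_bot := by
    rintro A ⟨p, hp, rfl⟩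
    exact root_ne_bot ρ hρ (hP p hp)
  generates := hgen
  conj_mem := hconj
  pair := by
    rintro A ⟨p, hp, rfl⟩ B ⟨q, hq, rfl⟩
    rcases pair_cases ρ hρ hP hclosed hp hq with ⟨-, -, h⟩ | ⟨-, -, h⟩ | ⟨-, h⟩
    exacts [Or.inl h, Or.inr (Or.inl h), Or.inr (Or.inr h)]

theorem isKRootSubgroupSet (hρ : Function.Injective ρ) (hP : ∀ p ∈ P, IsLine ρ p.1 p.2)
    (hclosed : ∀ p ∈ P, ∀ q ∈ P, p.2 ⬝ᵥ q.1 = 0 → q.2 ⬝ᵥ p.1 ≠ 0 →
      root ρ q.1 p.2 ∈ family ρ P)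
    (hS : Cfsg.IsRootSubgroupSet (family ρ P)) :
    Cfsg.IsKRootSubgroupSet F (family ρ P) := by
  refine ⟨hS, ?_⟩
  rintro A ⟨p, hp, rfl⟩ B ⟨q, hq, rfl⟩ hr
  rcases pair_cases ρ hρ hP hclosed hp hq with ⟨-, -, h⟩ | ⟨hα, hβ, -⟩ | ⟨-, h⟩
  · exact absurd h (RankOne.commutator_ne_bot hr (RankOne.self_mem _ _) (RankOne.right_mem hr)
      hr.ne)
  · exact (rankOne_pair ρ hρ (hP p hp) (hP q hq) hα hβ).2
  · exact absurd h (not_rootCommutatorCase_of_rankOne hS ⟨q, hq, rfl⟩ hr)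

end Family

/-- The conjugate of a transvection group is a transvection group. -/
theorem conjBy_root (hρ : Function.Injective ρ) {v φ : ι → F} (h : φ ⬝ᵥ v = 0) (g : Γ) :
    Cfsg.conjBy (root ρ v φ) g = root ρ (ρ g *ᵥ v) (φ ᵥ* ρ g⁻¹) := by
  have hgg : ρ g⁻¹ * ρ g = 1 := by rw [← map_mul, inv_mul_cancel, map_one]
  have hgg' : ρ g * ρ g⁻¹ = 1 := by rw [← map_mul, mul_inv_cancel, map_one]
  have h' : (φ ᵥ* ρ g⁻¹) ⬝ᵥ (ρ g *ᵥ v) = 0 := by
    rw [Matrix.dotProduct_mulVec, Matrix.vecMul_vecMul, hgg, Matrix.vecMul_one, h]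
  have key : ∀ c : F, ρ g * mat v φ c * ρ g⁻¹ = mat (ρ g *ᵥ v) (φ ᵥ* ρ g⁻¹) c := by
    intro c
    rw [mat, mat, mul_add, add_mul, mul_one, hgg', mul_smul_comm, smul_mul_assoc,
      Matrix.mul_vecMulVec, Matrix.vecMulVec_mul]
  ext x
  rw [mem_conjBy, mem_root ρ hρ h, mem_root ρ hρ h']
  refine exists_congr fun c => ⟨fun e => ?_, fun e => ?_⟩
  · rw [← key, ← e, ← map_mul, ← map_mul]
    congr 1
    group
  · rw [map_mul, map_mul, e, ← key]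
    simp only [mul_assoc, hgg, mul_one]
    rw [← mul_assoc, hgg, one_mul]

theorem exists_both_ne_zero {V : Type*} [AddCommGroup V] [Module F V] (a b : V →ₗ[F] F)
    (ha : a ≠ 0) (hb : b ≠ 0) : ∃ x, a x ≠ 0 ∧ b x ≠ 0 := by
  obtain ⟨x, hx⟩ : ∃ x, a x ≠ 0 := by
    by_contra! h
    exact ha (LinearMap.ext h)
  obtain ⟨y, hy⟩ : ∃ y, b y ≠ 0 := by
    by_contra! h
    exact hb (LinearMap.ext h)
  by_cases h1 : b x = 0
  · by_cases h2 : a y = 0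
    · exact ⟨x + y, by simp [h2, hx], by simp [h1, hy]⟩
    · exact ⟨y, h2, hy⟩
  · exact ⟨x, hx, h1⟩

end Cfsg.Agent.Fus.TV
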