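import Mathlib
import Cfsg.Prelude.Def_Transfer
import Cfsg.Agent.Lib.Grp.Frattini

/-!
Automorphisms of extraspecial 2-groups trivial on a subgroup of index two.
-/

set_option autoImplicit false
set_option linter.style.haveILetI false

open scoped commutatorElement

namespace Cfsg.Agent.Fus

open Subgroup

variable {Q : Type*} [Group Q] [Finite Q]

theorem extraspecial_two_facts (hQ : Cfsg.IsExtraspecial 2 Q) :
    (∀ x : Q, x ^ 2 ∈ center Q) ∧ (∀ x y : Q, ⁅x, y⁆ ∈ center Q) := by
  obtain ⟨⟨hp, hΦ, hc⟩, -⟩ := hQ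
  refine ⟨fun x => ?_, fun x y => hc.le (commutator_mem_commutator (mem_top _) (mem_top _))⟩
  haveI : Fact (Nat.Prime 2) := ⟨Nat.prime_two⟩
  rw [← hΦ]
  exact Grp.pGroup_pow_mem_frattini hp x

theorem card_centralizer_step (hQ : Cfsg.IsExtraspecial 2 Q) (K : Subgroup Q) (w : Q) :
    Nat.card K ≤ 2 * Nat.card ↥(K ⊓ centralizer ({w} : Set Q)) := by
  obtain ⟨-, hcomm⟩ := extraspecial_two_facts hQ
  let ψ : K →* center Q := MonoidHom.mk' (fun x => ⟨⁅(x : Q), w⁆, hcomm x w⟩) fun x y =>
    Subtype.ext <| by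
      show ⁅(x : Q) * y, w⁆ = ⁅(x : Q), w⁆ * ⁅(y : Q), w⁆
      have h := (mem_center_iff.1 (hcomm y w) x)
      calc ⁅(x : Q) * y, w⁆ = (x : Q) * ⁅(y : Q), w⁆ * (x : Q)⁻¹ * ⁅(x : Q), w⁆ := by
            simp only [commutatorElement_def]; group
        _ = ⁅(y : Q), w⁆ * ⁅(x : Q), w⁆ := by rw [h, mul_inv_cancel_right]
        _ = _ := (mem_center_iff.1 (hcomm y w) _).symm
  have hker : ψ.ker.map K.subtype ≤ K ⊓ centralizer ({w} : Set Q) := by
    rintro _ ⟨x, hx, rfl⟩
    refine ⟨x.2, mem_centralizer_singleton_iff.2 ?_⟩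
    exact commutatorElement_eq_one_iff_mul_comm.1 (congrArg Subtype.val hx)
  have h1 : Nat.card ψ.ker ≤ Nat.card ↥(K ⊓ centralizer ({w} : Set Q)) := by
    rw [← card_map_of_injective K.subtype_injective]
    exact card_le_of_le hker
  have h2 := card_mul_index ψ.ker
  rw [index_ker] at h2
  have h3 : Nat.card ψ.range ≤ 2 := hQ.2 ▸ card_le_card_group ψ.range
  nlinarith

/-- The centralizer of a subgroup of index two is not central. -/
theorem exists_centralizing (hQ : Cfsg.IsExtraspecial 2 Q) {H : Subgroup Q} (hH : H.index = 2)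
    (hZ : center Q ≤ H) : ∃ w, w ∉ center Q ∧ ∀ h ∈ H, h * w = w * h := by
  by_contra hcon
  simp only [not_exists, not_and] at hcon
  obtain ⟨K, ⟨hKH, hZK, hKcard⟩, hmax⟩ := Set.exists_max_image
    {K : Subgroup Q | K ≤ H ∧ center Q ≤ K ∧
      Nat.card Q * Nat.card (center Q) ≤ Nat.card ↥(centralizer (K : Set Q)) * Nat.card K}
    (fun K => Nat.card K) (Set.toFinite _) ⟨center Q, hZ, le_rfl, le_of_eq (by
      rw [centralizer_eq_top_iff_subset.2 (le_refl _), card_top])⟩
  by_cases hKH' : K = H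
  · subst hKH'
    have hle : centralizer (K : Set Q) ≤ center Q := fun w hw => by
      by_contra hwZ
      exact hcon w hwZ fun h hh => mem_centralizer_iff.1 hw h hh
    have h1 := card_le_of_le hle
    have h2 := card_mul_index K
    rw [hH] at h2
    have h3 : 0 < Nat.card (center Q) := Nat.card_pos
    have h4 : 0 < Nat.card K := Nat.card_pos
    nlinarith
  obtain ⟨w, hwH, hwK⟩ := SetLike.exists_of_lt (lt_of_le_of_ne hKH hKH')
  set K' := K ⊔ zpowers w with hK'
  have hlt : K < K' := left_lt_sup.2 fun h => hwK (h (mem_zpowers w))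
  have h2 : 2 * Nat.card K ≤ Nat.card K' := by
    obtain ⟨m, hm⟩ := card_dvd_of_le hlt.le
    rw [hm]
    have : m ≠ 0 := by rintro rfl; exact (Nat.card_pos (α := K')).ne' (by simpa using hm)
    have : m ≠ 1 := by
      rintro rfl
      exact hlt.ne (eq_of_le_of_card_ge hlt.le (by rw [hm, mul_one]))
    calc 2 * Nat.card K ≤ m * Nat.card K := Nat.mul_le_mul_right _ (by omega)
      _ = _ := mul_comm _ _
  have hK'H : K' ≤ H := sup_le hKH (zpowers_le.2 hwH)
  have h1 := card_centralizer_step hQ (centralizer (K : Set Q)) w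
  have hle : centralizer (K : Set Q) ⊓ centralizer ({w} : Set Q) ≤ centralizer (K' : Set Q) := by
    rintro x ⟨hx1, hx2⟩
    refine mem_centralizer_iff.2 fun y hy => ?_
    suffices K' ≤ centralizer {x} from mem_centralizer_singleton_iff.1 (this hy)
    refine sup_le (fun a ha => mem_centralizer_singleton_iff.2 (mem_centralizer_iff.1 hx1 a ha))
      (zpowers_le.2 (mem_centralizer_singleton_iff.2 (mem_centralizer_singleton_iff.1 hx2).symm))
  have h3 := card_le_of_le hle
  have hK'P : Nat.card Q * Nat.card (center Q) ≤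
      Nat.card ↥(centralizer (K' : Set Q)) * Nat.card K' := by nlinarith
  have := hmax K' ⟨hK'H, hZK.trans hlt.le, hK'P⟩
  have : 0 < Nat.card K := Nat.card_pos
  omega

/-- An involutory automorphism trivial on a subgroup of index at most two is inner. -/
theorem exists_conj_of_index_two (hQ : Cfsg.IsExtraspecial 2 Q) (φ : Q ≃* Q)
    (hφ : ∀ x, φ (φ x) = x) {H : Subgroup Q} (hH : H.index = 2) (hfix : ∀ h ∈ H, φ h = h)
    (hne : ∃ x, φ x ≠ x) : ∃ w : Q, ∀ x, φ x = w * x * w⁻¹ := by
  obtain ⟨hsq, hcomm⟩ := extraspecial_two_facts hQ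
  haveI : H.Normal := normal_of_index_eq_two hH
  obtain ⟨u, hu⟩ := hne
  have huH : u ∉ H := fun h => hu (hfix u h)
  obtain ⟨c, hc⟩ : ∃ c, c = u⁻¹ * φ u := ⟨_, rfl⟩
  have hφu : φ u = u * c := by rw [hc]; group
  have hcH : ∀ h ∈ H, h * c = c * h := fun h hh => by
    have h1 := hfix _ (Normal.conj_mem inferInstance h hh u)
    rw [map_mul, map_mul, map_inv, hfix h hh] at h1
    calc h * c = u⁻¹ * (u * h * u⁻¹) * φ u := by rw [hc]; group
      _ = u⁻¹ * (φ u * h * (φ u)⁻¹) * φ u := by rw [h1]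
      _ = c * h := by rw [hc]; group
  have hcover : ∀ x : Q, x ∈ H ∨ u⁻¹ * x ∈ H := fun x => by
    by_cases hx : x ∈ H
    · exact Or.inl hx
    · exact Or.inr ((mul_mem_iff_of_index_two hH).2 (by simp [huH, hx]))
  -- `H` contains the centre
  have hZH : center Q ≤ H := fun z hz => by
    have : (center Q : Subgroup Q) ≤ H := by
      obtain ⟨⟨-, hΦ, -⟩, -⟩ := hQ
      rw [← hΦ]
      refine frattini_le_coatom ⟨fun h => ?_, fun K hlt => ?_⟩
      · rw [h, index_top] at hH
        omega
      · rcases (Nat.dvd_prime Nat.prime_two).1 (hH ▸ index_dvd_of_le hlt.le) with h | h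
        · exact index_eq_one.1 h
        · have h1 := card_mul_index H
          have h2 := card_mul_index K
          rw [hH] at h1
          rw [h] at h2
          exact absurd (eq_of_le_of_card_ge hlt.le (by omega)) hlt.ne
    exact this hz
  have hcZ : c ∈ center Q := by
    refine mem_center_iff.2 fun x => ?_
    have hcu : u * c = c * u := by
      by_cases hcH' : c ∈ H
      · have h2 : φ (u * u) = u * u := hfix _ (mul_self_mem_of_index_two hH u)
        rw [map_mul, hφu] at h2
        have h3 := congrArg φ hφu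
        rw [hφ, map_mul, hφu, hfix c hcH', mul_assoc, left_eq_mul] at h3
        have h4 : c * u * c = u := mul_left_cancel (a := u) (by rw [← h2]; group)
        calc u * c = c * u * (c * c) := by rw [← mul_assoc, h4]
          _ = c * u := by rw [h3, mul_one]
      · have h5 := hcH _ ((hcover c).resolve_left hcH')
        have h6 : u⁻¹ * c = c * u⁻¹ := mul_right_cancel (b := c) (by rw [h5, mul_assoc])
        calc u * c = u * (c * u⁻¹) * u := by group
          _ = c * u := by rw [← h6]; group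
    rcases hcover x with h | h
    · exact hcH x h
    · have := hcH _ h
      calc x * c = u * (u⁻¹ * x * c) := by group
        _ = u * c * (u⁻¹ * x) := by rw [this]; group
        _ = c * x := by rw [hcu]; group
  obtain ⟨w, hwZ, hw⟩ := exists_centralizing hQ hH hZH
  have hcu : ⁅w, u⁆ ≠ 1 := fun h => hwZ (mem_center_iff.2 fun x => by
    have hwu := commutatorElement_eq_one_iff_mul_comm.1 h
    rcases hcover x with hx | hx
    · exact hw x hx
    · calc x * w = u * (u⁻¹ * x * w) := by group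
        _ = u * w * (u⁻¹ * x) := by rw [hw _ hx]; group
        _ = w * x := by rw [← hwu]; group)
  have hc1 : c ≠ 1 := fun h => hu (by rw [hφu, h, mul_one])
  have hceq : ⁅w, u⁆ = c := by
    obtain ⟨a, -, b⟩ := (Nat.card_eq_two_iff' (⟨1, one_mem _⟩ : center Q)).1 hQ.2
    have e1 := b ⟨⁅w, u⁆, hcomm w u⟩ fun h => hcu (congrArg Subtype.val h)
    have e2 := b ⟨c, hcZ⟩ fun h => hc1 (congrArg Subtype.val h)
    exact congrArg Subtype.val (e1.trans e2.symm)
  have hwu : w * u * w⁻¹ = φ u := by
    rw [hφu, mem_center_iff.1 hcZ u, ← hceq, commutatorElement_def]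
    group
  refine ⟨w, fun x => ?_⟩
  rcases hcover x with hx | hx
  · rw [hfix x hx, ← hw x hx, mul_inv_cancel_right]
  · conv_lhs => rw [show x = u * (u⁻¹ * x) by group, map_mul, hfix _ hx, ← hwu]
    calc w * u * w⁻¹ * (u⁻¹ * x) = w * u * w⁻¹ * ((u⁻¹ * x) * w) * w⁻¹ := by group
      _ = _ := by rw [hw _ hx]; group

end Cfsg.Agent.Fus
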