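import Mathlib
import Cfsg.Prelude.Def_ClassificationK
import Cfsg.Agent.Lib.Grp.SymplecticType
import Cfsg.Agent.Lib.Fus.Extraspecial

/-!
Two-groups of symplectic type and exponent dividing four.
-/

set_option autoImplicit false
set_option linter.style.haveILetI false

namespace Cfsg.Agent.Fus.SympPair

open Subgroup
open scoped commutatorElement

variable {T : Type*} [Group T] [Finite T]

/-- The dihedral, quaternion and quasi-dihedral groups of order at least sixteen have an element of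
order at least eight. -/
theorem exists_order_eight {R : Type*} [Group R] (h16 : 16 ≤ Nat.card R)
    (h : (∃ m : ℕ, Nonempty (R ≃* DihedralGroup m)) ∨ (∃ m : ℕ, Nonempty (R ≃* QuaternionGroup m)) ∨
      Cfsg.IsQuasiDihedral R) : ∃ x : R, 8 ≤ orderOf x := by
  rcases h with ⟨m, ⟨e⟩⟩ | ⟨m, ⟨e⟩⟩ | ⟨n, hn, -, x, -, hx, -⟩
  · refine ⟨e.symm (DihedralGroup.r 1), ?_⟩
    rw [MulEquiv.orderOf_eq, DihedralGroup.orderOf_r_one]
    rw [Nat.card_congr e.toEquiv, DihedralGroup.nat_card] at h16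
    omega
  · refine ⟨e.symm (QuaternionGroup.a 1), ?_⟩
    rw [MulEquiv.orderOf_eq, QuaternionGroup.orderOf_a_one]
    rw [Nat.card_congr e.toEquiv] at h16
    rcases Nat.eq_zero_or_pos m with rfl | hm
    · exfalso
      rw [Nat.card_congr QuaternionGroup.quaternionGroupZeroEquivDihedralGroupZero.toEquiv,
        DihedralGroup.nat_card] at h16
      omega
    · haveI : NeZero m := ⟨hm.ne'⟩
      rw [Nat.card_eq_fintype_card, QuaternionGroup.card] at h16
      omega
  · refine ⟨x, ?_⟩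
    rw [hx]
    calc 8 = 2 ^ 3 := by norm_num
      _ ≤ 2 ^ n := Nat.pow_le_pow_right (by norm_num) hn

/-- In a group of symplectic type and exponent dividing four, squares and commutators are central
of order dividing two, and there is at most one central involution. -/
theorem symp_facts (hT : Cfsg.IsOfSymplecticType T) (h4 : ∀ x : T, x ^ 4 = 1) :
    (∀ x : T, x ^ 2 ∈ center T ∧ (x ^ 2) ^ 2 = 1) ∧
      (∀ x y : T, ⁅x, y⁆ ∈ center T ∧ ⁅x, y⁆ ^ 2 = 1) ∧
      (∀ x ∈ center T, ∀ y ∈ center T, x ^ 2 = 1 → y ^ 2 = 1 → x ≠ 1 → y = 1 ∨ y = x) := by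
  classical
  haveI : Fact (Nat.Prime 2) := ⟨Nat.prime_two⟩
  obtain ⟨hP, hA⟩ := hT
  obtain ⟨E, R, hER, htop, hE, hR⟩ := Grp.Symplectic.main hP hA
  have hRc : IsCyclic R := by
    rcases hR with h | ⟨-, h16, h⟩
    · exact h
    · exfalso
      obtain ⟨x, hx⟩ := exists_order_eight h16 h
      have : orderOf x ∣ 4 := orderOf_dvd_of_pow_eq_one (Subtype.ext (by simpa using h4 (x : T)))
      have := Nat.le_of_dvd (by norm_num) this
      omega
  have hEfacts : ∀ e ∈ E, ∀ e' ∈ E, (e ^ 2 ∈ center T ∧ (⁅e, e'⁆ ∈ center T ∧ ⁅e, e'⁆ ^ 2 = 1)) := by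
    intro e he e' he'
    have hcen : ∀ u : E, u ∈ center E → (u : T) ∈ center T := by
      intro u hu
      rw [Subgroup.mem_center_iff]
      have hle : E ⊔ R ≤ centralizer ({(u : T)} : Set T) := by
        refine sup_le (fun a ha => ?_) (fun a ha => ?_)
        · exact mem_centralizer_singleton_iff.2 (congrArg Subtype.val (mem_center_iff.1 hu ⟨a, ha⟩))
        · exact mem_centralizer_singleton_iff.2 (hER _ u.2 a ha).symm
      exact fun g => mem_centralizer_singleton_iff.1 (hle (htop ▸ mem_top g))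
    rcases hE with rfl | hE
    · rw [mem_bot] at he he'
      subst he; subst he'
      simp
    · obtain ⟨hs, hc⟩ := extraspecial_two_facts hE
      refine ⟨hcen _ (hs ⟨e, he⟩), hcen _ (hc ⟨e, he⟩ ⟨e', he'⟩), ?_⟩
      have hm : (⟨⁅(⟨e, he⟩ : E), ⟨e', he'⟩⁆, hc _ _⟩ : center E) ^ 2 = 1 := by
        conv_lhs => rw [← hE.2]
        exact pow_card_eq_one'
      exact congrArg (fun u : center E => ((u : E) : T)) hm
  have hdec : ∀ x : T, ∃ e ∈ E, ∃ r ∈ R, x = e * r := by
    intro x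
    have hx : x ∈ closure ((E : Set T) ∪ R) := by
      rw [← sup_eq_closure, htop]; exact mem_top x
    induction hx using closure_induction with
    | mem y hy =>
      rcases hy with hy | hy
      · exact ⟨y, hy, 1, one_mem _, (mul_one y).symm⟩
      · exact ⟨1, one_mem _, y, hy, (one_mul y).symm⟩
    | one => exact ⟨1, one_mem _, 1, one_mem _, (one_mul 1).symm⟩
    | mul y w _ _ hy hw =>
      obtain ⟨e, he, r, hr, rfl⟩ := hy
      obtain ⟨e', he', r', hr', rfl⟩ := hw
      refine ⟨e * e', mul_mem he he', r * r', mul_mem hr hr', ?_⟩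
      rw [mul_assoc, ← mul_assoc r, ← hER e' he' r hr]
      group
    | inv y _ hy =>
      obtain ⟨e, he, r, hr, rfl⟩ := hy
      exact ⟨e⁻¹, inv_mem he, r⁻¹, inv_mem hr, by
        rw [mul_inv_rev, (hER e⁻¹ (inv_mem he) r⁻¹ (inv_mem hr))]⟩
  have hRcomm : ∀ r ∈ R, ∀ r' ∈ R, r * r' = r' * r := fun r hr r' hr' =>
    congrArg Subtype.val ((IsCyclic.isMulCommutative (α := R)).is_comm.comm ⟨r, hr⟩ ⟨r', hr'⟩)
  have hRcen : ∀ r ∈ R, r ∈ center T := by
    intro r hr
    rw [Subgroup.mem_center_iff]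
    intro g
    obtain ⟨e, he, r', hr', rfl⟩ := hdec g
    rw [mul_assoc, hRcomm r' hr' r hr, ← mul_assoc, hER e he r hr, mul_assoc]
  refine ⟨fun x => ?_, fun x y => ?_, fun x hx y hy hx2 hy2 hx1 => ?_⟩
  · obtain ⟨e, he, r, hr, rfl⟩ := hdec x
    refine ⟨?_, by rw [← pow_mul]; exact h4 _⟩
    rw [(show Commute e r from hER e he r hr).mul_pow]
    exact mul_mem (hEfacts e he e he).1 (pow_mem (hRcen r hr) 2)
  · obtain ⟨e, he, r, hr, rfl⟩ := hdec x
    obtain ⟨e', he', r', hr', rfl⟩ := hdec y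
    have e1 : ⁅e * r, e' * r'⁆ = ⁅e, e'⁆ := by
      have c1 := Subgroup.mem_center_iff.1 (hRcen r hr)
      have c2 := Subgroup.mem_center_iff.1 (hRcen r' hr')
      rw [commutatorElement_def, commutatorElement_def, mul_inv_rev, mul_inv_rev]
      calc e * r * (e' * r') * (r⁻¹ * e⁻¹) * (r'⁻¹ * e'⁻¹)
          = e * (r * (e' * r')) * r⁻¹ * e⁻¹ * r'⁻¹ * e'⁻¹ := by group
        _ = e * (e' * r') * e⁻¹ * r'⁻¹ * e'⁻¹ := by rw [← c1]; group
        _ = e * e' * (r' * e⁻¹) * r'⁻¹ * e'⁻¹ := by group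
        _ = e * e' * e⁻¹ * e'⁻¹ := by rw [← c2]; group
    rw [e1]
    exact (hEfacts e he e' he').2
  · haveI : IsCyclic (center T) := hA _ inferInstance ⟨⟨fun a b => Subtype.ext (mem_center_iff.1 b.2 a)⟩⟩
    by_cases hy1 : y = 1
    · exact Or.inl hy1
    refine Or.inr ?_
    have hox : orderOf (⟨x, hx⟩ : center T) = 2 :=
      orderOf_eq_prime (Subtype.ext hx2) (fun e => hx1 (congrArg Subtype.val e))
    have hoy : orderOf (⟨y, hy⟩ : center T) = 2 :=
      orderOf_eq_prime (Subtype.ext hy2) (fun e => hy1 (congrArg Subtype.val e))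
    haveI := Fintype.ofFinite (center T)
    have hc := IsCyclic.card_orderOf_eq_totient (α := center T) (d := 2)
      (by rw [← hox]; exact orderOf_dvd_card)
    rw [Nat.totient_two, Finset.card_eq_one] at hc
    obtain ⟨w, hw⟩ := hc
    have h1 : (⟨x, hx⟩ : center T) ∈ ({a : center T | orderOf a = 2} : Finset _) := by simp [hox]
    have h2 : (⟨y, hy⟩ : center T) ∈ ({a : center T | orderOf a = 2} : Finset _) := by simp [hoy]
    rw [hw, Finset.mem_singleton] at h1 h2
    exact congrArg Subtype.val (h2.trans h1.symm)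

end Cfsg.Agent.Fus.SympPair
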