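import Mathlib

/-!
The centraliser of a semisimple element has every determinant.
-/

set_option autoImplicit false

namespace Cfsg.Agent.Fus.CentralizerDet

open Module Polynomial

variable {F V : Type*} [Field F] [Finite F] [AddCommGroup V] [Module F V] [FiniteDimensional F V]

theorem exists_irreducible (T : Module.End F V) [Nontrivial V] :
    ∃ U : Submodule F V, U ≠ ⊥ ∧ (∀ v ∈ U, T v ∈ U) ∧
      ∀ W : Submodule F V, W ≤ U → (∀ v ∈ W, T v ∈ W) → W = ⊥ ∨ W = U := by
  classical
  have hex : ∃ d, ∃ U : Submodule F V, U ≠ ⊥ ∧ (∀ v ∈ U, T v ∈ U) ∧ finrank F U = d :=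
    ⟨_, ⊤, top_ne_bot, fun _ _ => Submodule.mem_top, rfl⟩
  obtain ⟨U, hU0, hUT, hUd⟩ := Nat.find_spec hex
  refine ⟨U, hU0, hUT, fun W hW hWT => ?_⟩
  by_contra! hne
  refine Nat.find_min hex ?_ ⟨W, hne.1, hWT, rfl⟩
  rw [← hUd]
  exact Submodule.finrank_lt_finrank_of_lt (lt_of_le_of_ne hW hne.2)

theorem exists_commute_det (T : Module.End F V) [Nontrivial V]
    (hirr : ∀ W : Submodule F V, (∀ v ∈ W, T v ∈ W) → W = ⊥ ∨ W = ⊤) (d : F) :
    ∃ a : Module.End F V, Commute a T ∧ LinearMap.det a = d := by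
  haveI : Finite V := Module.finite_of_finite F
  have hcm : ∀ g : F[X], Commute (aeval T g) T := fun g => by
    simpa using (Commute.all g X).map (aeval T)
  obtain ⟨f, hf⟩ : ∃ f, f = minpoly F T := ⟨_, rfl⟩
  have hint : IsIntegral F T := Algebra.IsIntegral.isIntegral T
  have hker : ∀ g : F[X], aeval T g ≠ 0 → Function.Injective (aeval T g : Module.End F V) := by
    intro g hg
    refine LinearMap.ker_eq_bot.1 ((hirr _ fun v hv => ?_).resolve_right fun e => hg ?_)
    · rw [LinearMap.mem_ker] at hv ⊢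
      have hc : aeval T g * T = T * aeval T g := hcm g
      have h1 := LinearMap.congr_fun hc v
      rw [Module.End.mul_apply, Module.End.mul_apply, hv, map_zero] at h1
      exact h1
    · exact LinearMap.ker_eq_top.1 e
  have hmon : f.Monic := hf ▸ minpoly.monic hint
  have hirred : Irreducible f := by
    rw [irreducible_of_monic hmon (hf ▸ minpoly.ne_one F T)]
    intro a b ha hb hab
    have hab0 : aeval T a * aeval T b = 0 := by rw [← map_mul, hab, hf, minpoly.aeval]
    by_cases hb0 : aeval T b = 0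
    · left
      have h1 := Polynomial.degree_le_of_dvd (hf ▸ minpoly.dvd F T hb0) hb.ne_zero
      rw [← hab, Polynomial.degree_mul, Polynomial.degree_eq_natDegree ha.ne_zero,
        Polynomial.degree_eq_natDegree hb.ne_zero] at h1
      norm_cast at h1
      exact ha.natDegree_eq_zero.1 (by omega)
    · right
      have ha0 : aeval T a = 0 := by
        refine LinearMap.ext fun v => ?_
        obtain ⟨w, rfl⟩ := LinearMap.surjective_of_injective (hker b hb0) v
        exact LinearMap.congr_fun hab0 w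
      have h1 := Polynomial.degree_le_of_dvd (hf ▸ minpoly.dvd F T ha0) ha.ne_zero
      rw [← hab, Polynomial.degree_mul, Polynomial.degree_eq_natDegree ha.ne_zero,
        Polynomial.degree_eq_natDegree hb.ne_zero] at h1
      norm_cast at h1
      exact hb.natDegree_eq_zero.1 (by omega)
  haveI : Fact (Irreducible f) := ⟨hirred⟩
  haveI : Module.Finite F (AdjoinRoot f) := (AdjoinRoot.powerBasis hmon.ne_zero).finite
  haveI : Finite (AdjoinRoot f) := Module.finite_of_finite F
  let φ : AdjoinRoot f →ₐ[F] Module.End F V :=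
    Ideal.Quotient.liftₐ (Ideal.span {f}) (aeval T) (fun a ha => by
      obtain ⟨b, rfl⟩ := Ideal.mem_span_singleton'.1 ha
      rw [map_mul, hf, minpoly.aeval, mul_zero])
  have hφ : ∀ x, ∃ g : F[X], φ x = aeval T g := by
    intro x
    obtain ⟨g, rfl⟩ := AdjoinRoot.mk_surjective x
    exact ⟨g, rfl⟩
  obtain ⟨u, hu⟩ := exists_ne (0 : V)
  let ψ : AdjoinRoot f →ₗ[F] V :=
    { toFun := fun x => φ x u
      map_add' := fun x y => by rw [map_add, LinearMap.add_apply]
      map_smul' := fun c x => by rw [map_smul, LinearMap.smul_apply]; rfl }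
  have hinj : Function.Injective ψ := by
    rw [injective_iff_map_eq_zero]
    intro x hx
    obtain ⟨g, hg⟩ := hφ x
    by_contra hx0
    refine hu (hker g ?_ ?_)
    · rw [← hg]
      exact fun e => hx0 (φ.toRingHom.injective (by rw [map_zero]; exact e))
    · rw [map_zero, ← hg]; exact hx
  have hsurj : LinearMap.range ψ = ⊤ := by
    refine (hirr _ ?_).resolve_left fun e => ?_
    · rintro _ ⟨x, rfl⟩
      refine ⟨AdjoinRoot.root f * x, ?_⟩
      show φ (AdjoinRoot.root f * x) u = T (φ x u)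
      rw [map_mul, Module.End.mul_apply, show φ (AdjoinRoot.root f) = T from aeval_X T]
    · have h1 : ψ 1 = 0 := by rw [← Submodule.mem_bot F, ← e]; exact ⟨1, rfl⟩
      exact one_ne_zero (hinj (h1.trans (map_zero ψ).symm))
  let e := LinearEquiv.ofBijective ψ ⟨hinj, LinearMap.range_eq_top.1 hsurj⟩
  obtain ⟨x, hx⟩ := FiniteField.norm_surjective F (AdjoinRoot f) d
  refine ⟨φ x, ?_, ?_⟩
  · obtain ⟨g, hg⟩ := hφ x
    rw [hg]
    exact hcm g
  · have hconj : φ x = (e : AdjoinRoot f →ₗ[F] V) ∘ₗ (LinearMap.mulLeft F x) ∘ₗ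
        (e.symm : V →ₗ[F] AdjoinRoot f) := by
      refine LinearMap.ext fun v => ?_
      obtain ⟨y, rfl⟩ := e.surjective v
      show φ x (e y) = e (x * e.symm (e y))
      rw [LinearEquiv.symm_apply_apply]
      show φ x (φ y u) = φ (x * y) u
      rw [map_mul]
      rfl
    rw [hconj, LinearMap.det_conj, ← hx, Algebra.norm_apply]
    rfl

theorem exists_centralizer_det [Nontrivial V] (T : Module.End F V) (hss : T.IsSemisimple) (d : F) :
    ∃ a : Module.End F V, Commute a T ∧ LinearMap.det a = d := by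
  obtain ⟨U, hU0, hUT, hirr⟩ := exists_irreducible T
  obtain ⟨W, hWT, hc⟩ := Module.End.isSemisimple_iff.1 hss U hUT
  haveI : Nontrivial U := Submodule.nontrivial_iff_ne_bot.2 hU0
  obtain ⟨a, ha, had⟩ := exists_commute_det (T.restrict hUT) (fun X hX => by
    rcases hirr (X.map U.subtype) (Submodule.map_subtype_le U X) (fun v hv => by
      obtain ⟨x, hx, rfl⟩ := hv
      exact ⟨_, hX x hx, rfl⟩) with e | e
    · left
      exact Submodule.map_injective_of_injective U.subtype_injective
        (e.trans (Submodule.map_bot _).symm)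
    · right
      exact Submodule.map_injective_of_injective U.subtype_injective
        (e.trans (Submodule.map_subtype_top U).symm)) d
  let e := Submodule.prodEquivOfIsCompl U W hc
  refine ⟨(e : (U × W) →ₗ[F] V) ∘ₗ (a.prodMap LinearMap.id) ∘ₗ (e.symm : V →ₗ[F] U × W), ?_, ?_⟩
  · refine LinearMap.ext fun v => ?_
    obtain ⟨⟨x, y⟩, rfl⟩ := e.surjective v
    have hT : T (e (x, y)) = e (T.restrict hUT x, T.restrict hWT y) := by
      simp only [e, Submodule.coe_prodEquivOfIsCompl', map_add]
      rfl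
    show e (a.prodMap LinearMap.id (e.symm (T (e (x, y))))) =
      T (e (a.prodMap LinearMap.id (e.symm (e (x, y)))))
    rw [hT, LinearEquiv.symm_apply_apply, LinearEquiv.symm_apply_apply]
    have hTa : T (e (a x, y)) = e (T.restrict hUT (a x), T.restrict hWT y) := by
      simp only [e, Submodule.coe_prodEquivOfIsCompl', map_add]
      rfl
    simp only [LinearMap.prodMap_apply, LinearMap.id_apply, hTa]
    exact congrArg (fun z => e (z, T.restrict hWT y)) (LinearMap.congr_fun ha.eq x)
  · rw [LinearMap.det_conj, LinearMap.det_prodMap, had, LinearMap.det_id, mul_one]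

theorem main {F : Type*} [Field F] [Fintype F] {p : ℕ} [Fact p.Prime] [CharP F p] {n : ℕ}
    (x g : GL (Fin n) F) (hx : (orderOf x).Coprime p) :
    ∃ h : GL (Fin n) F, (h : Matrix (Fin n) (Fin n) F).det = 1 ∧
      h * x * h⁻¹ = g * x * g⁻¹ := by
  rcases Nat.eq_zero_or_pos n with rfl | hn
  · exact ⟨g, Matrix.det_fin_zero, rfl⟩
  haveI : Nonempty (Fin n) := ⟨⟨0, hn⟩⟩
  obtain ⟨T, hT⟩ : ∃ T, T = Matrix.toLinAlgEquiv' (x : Matrix (Fin n) (Fin n) F) := ⟨_, rfl⟩
  have hne : ((orderOf x : ℕ) : F) ≠ 0 := by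
    rw [ne_eq, CharP.cast_eq_zero_iff F p]
    exact (Fact.out : p.Prime).coprime_iff_not_dvd.1 hx.symm
  have hss : Module.End.IsSemisimple T := by
    refine Module.End.isSemisimple_of_squarefree_aeval_eq_zero
      (p := X ^ orderOf x - Polynomial.C 1)
      (Polynomial.separable_X_pow_sub_C 1 hne one_ne_zero).squarefree ?_
    rw [hT, map_sub, map_pow, aeval_X, Polynomial.aeval_C, map_one, ← map_pow,
      ← Units.val_pow_eq_pow_val, pow_orderOf_eq_one, Units.val_one, map_one, sub_self]
  obtain ⟨a, ha, had⟩ := exists_centralizer_det T hss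
    ((g : Matrix (Fin n) (Fin n) F).det)⁻¹
  obtain ⟨A, hA⟩ := Matrix.toLinAlgEquiv'.surjective a
  have hdetA : A.det = ((g : Matrix (Fin n) (Fin n) F).det)⁻¹ := by
    rw [← had, ← hA]
    exact (LinearMap.det_toLin' A).symm
  have hg0 : (g : Matrix (Fin n) (Fin n) F).det ≠ 0 :=
    (Matrix.isUnit_iff_isUnit_det _).1 g.isUnit |>.ne_zero
  have hA0 : A.det ≠ 0 := by rw [hdetA]; exact inv_ne_zero hg0
  obtain ⟨c, hc⟩ : ∃ c : GL (Fin n) F, (c : Matrix (Fin n) (Fin n) F) = A :=
    ⟨Matrix.GeneralLinearGroup.mkOfDetNeZero A hA0, rfl⟩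
  have hcx : c * x = x * c := by
    refine Units.ext (Matrix.toLinAlgEquiv'.injective ?_)
    rw [Units.val_mul, Units.val_mul, hc, map_mul, map_mul, hA, ← hT]
    exact ha.eq
  refine ⟨g * c, ?_, ?_⟩
  · rw [Units.val_mul, Matrix.det_mul, hc, hdetA, mul_inv_cancel₀ hg0]
  · rw [mul_assoc g c x, hcx]; group

end Cfsg.Agent.Fus.CentralizerDet
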