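import Cfsg.Agent.Lib.Fus.PSLUnipotent
import Cfsg.Agent.Lib.Grp.Frattini

/-!
The fusion system of `PSLₙ(q)`, `n ≥ 3`, in defining characteristic is simple.
-/

set_option autoImplicit false
set_option linter.style.haveILetI false
set_option linter.unusedSectionVars false

open scoped Classical

namespace Cfsg.Agent.Fus.PSLN

open Matrix

variable {K : Type*} [Field K] [Fintype K] {p : ℕ} [hpF : Fact p.Prime] [hpC : CharP K p] {n : ℕ}
include hpF hpC
variable {G : Type*} [Group G] {π : Matrix.SpecialLinearGroup (Fin n) K →* G}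


theorem eq_one_of_center_pow {z : (Matrix.SpecialLinearGroup (Fin n) K)} (hz : z ∈ Subgroup.center (Matrix.SpecialLinearGroup (Fin n) K)) {k : ℕ}
    (h : z ^ p ^ k = 1) : z = 1 := by
  obtain ⟨c, hc⟩ := (Classical.slMem_center_iff z).1 hz
  have h1 : Matrix.scalar (Fin n) (c ^ p ^ k) = (1 : Matrix (Fin n) (Fin n) K) := by
    rw [map_pow, ← hc, ← Matrix.SpecialLinearGroup.coe_pow, h, Matrix.SpecialLinearGroup.coe_one]
  ext i j
  show (z : Matrix (Fin n) (Fin n) K) i j = (1 : Matrix (Fin n) (Fin n) K) i j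
  have h2 := congrFun (congrFun h1 i) i
  simp at h2
  rw [hc, eq_one_of_pow_prime_pow_eq_one (p := p) h2, map_one]

variable (hker : ∀ A : (Matrix.SpecialLinearGroup (Fin n) K), π A = 1 ↔ A ∈ Subgroup.center (Matrix.SpecialLinearGroup (Fin n) K))
include hker

theorem eq_of_map_eq_unip {u v : (Matrix.SpecialLinearGroup (Fin n) K)} (hu : u ∈ unip K n) (hv : v ^ p ^ n = 1)
    (h : π v = π u) : v = u := by
  have hz : u⁻¹ * v ∈ Subgroup.center (Matrix.SpecialLinearGroup (Fin n) K) := (hker _).1 (by rw [map_mul, map_inv, h, inv_mul_cancel])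
  have hcomm : Commute u (u⁻¹ * v) := (Subgroup.mem_center_iff.1 hz u)
  have h1 : (u⁻¹ * v) ^ p ^ n = 1 := by
    have := hcomm.mul_pow (p ^ n)
    rw [mul_inv_cancel_left, hv, IsUni.exists_pow_eq_one (p := p) hu, one_mul] at this
    exact this.symm
  rw [← mul_one u, ← eq_one_of_center_pow hz h1, mul_inv_cancel_left]

theorem conj_eq_of_map_eq {g u v : (Matrix.SpecialLinearGroup (Fin n) K)} (hu : u ∈ unip K n) (hv : v ∈ unip K n)
    (h : π g * π v * (π g)⁻¹ = π u) : g * v * g⁻¹ = u :=
  eq_of_map_eq_unip (p := p) hker hu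
    (by rw [conj_pow, IsUni.exists_pow_eq_one (p := p) hv, mul_one, mul_inv_cancel])
    (by rw [map_mul, map_mul, map_inv, h])

theorem isUpper_of_map_normalizer {g : (Matrix.SpecialLinearGroup (Fin n) K)}
    (hg : π g ∈ Subgroup.normalizer (((unip K n).map π : Subgroup G) : Set G)) : IsUpper g := by
  refine isUpper_of_conj_mem fun u hu => ?_
  obtain ⟨v, hv, hvu⟩ := (Subgroup.mem_normalizer_iff.1 hg (π u)).1 ⟨u, hu, rfl⟩
  rw [conj_eq_of_map_eq (p := p) hker hv hu hvu.symm]
  exact hv

/-- The image of the unitriangular group is a Sylow subgroup. -/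
theorem eq_map_unip [Finite G] (hπ : Function.Surjective π) (P : Sylow p G)
    (hP : (unip K n).map π ≤ (P : Subgroup G)) : (unip K n).map π = (P : Subgroup G) := by
  by_contra hne
  obtain ⟨-, x, hx, hxU⟩ := SetLike.lt_iff_le_and_exists.1
    (lt_normalizerIn (S := (P : Subgroup G)) P.2 (lt_of_le_of_ne hP hne))
  obtain ⟨g, rfl⟩ := hπ x
  have hup := isUpper_of_map_normalizer (p := p) hker hx.2
  obtain ⟨k, hk⟩ := P.2 ⟨π g, hx.1⟩
  have hk' : π (g ^ p ^ k) = 1 := by
    rw [map_pow]; exact congrArg Subtype.val hk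
  obtain ⟨c, hc⟩ := (Classical.slMem_center_iff _).1 ((hker _).1 hk')
  obtain ⟨t, ht, htu⟩ := exists_diag hup
  refine hxU ⟨_, htu, ?_⟩
  have htg : ∀ i, t i = ent g i i := fun i => by
    have h1 := (show IsUni _ from htu).2 i
    have h2 := ent_diagSL_mul t ht ((diagSL t ht)⁻¹ * g) i i
    rw [mul_inv_cancel_left, h1, mul_one] at h2
    exact h2.symm
  have hpow : ∀ i, t i ^ p ^ k = c := fun i => by
    rw [htg, ← (hup.pow_diag (p ^ k)).2 i]
    show ((g ^ p ^ k : (Matrix.SpecialLinearGroup (Fin n) K)) : Matrix (Fin n) (Fin n) K) i i = c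
    rw [hc]; simp
  have hzc : diagSL t ht ∈ Subgroup.center (Matrix.SpecialLinearGroup (Fin n) K) := by
    rw [Classical.slMem_center_iff]
    rcases Nat.eq_zero_or_pos n with rfl | hn
    · exact ⟨1, Subsingleton.elim _ _⟩
    refine ⟨t ⟨0, hn⟩, ?_⟩
    rw [coe_diagSL, Matrix.scalar_apply]
    congr 1
    ext i
    have hne : t ⟨0, hn⟩ ≠ 0 := by rw [htg]; exact hup.diag_ne_zero _
    refine (div_eq_one_iff_eq hne).1 (eq_one_of_pow_prime_pow_eq_one (p := p) (k := k) ?_)
    rw [div_pow, hpow, hpow, div_self]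
    rw [← hpow ⟨0, hn⟩]
    exact pow_ne_zero _ hne
  rw [map_mul, map_inv, (hker _).2 hzc, inv_one, one_mul]

theorem centralizer_map_le_map_radical (hn : 3 ≤ n) (hπ : Function.Surjective π) {i j : Fin n}
    (hij : (i : ℕ) + 1 = j) :
    Subgroup.centralizer (((radical hij).map π : Subgroup G) : Set G) ≤ (radical hij).map π := by
  intro x hx
  obtain ⟨g, rfl⟩ := hπ x
  obtain ⟨z, hz, hzg⟩ := mem_radical_of_comm hn hij (g := g) fun u hu => by
    have h1 := conj_eq_of_map_eq (p := p) hker (radical_le hij hu) (radical_le hij hu) (g := g) (by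
      rw [← Subgroup.mem_centralizer_iff.1 hx (π u) ⟨u, hu, rfl⟩, mul_inv_cancel_right])
    conv_rhs => rw [← h1]
    group
  refine ⟨_, hzg, ?_⟩
  rw [map_mul, map_inv, (hker _).2 hz, inv_one, one_mul]

theorem map_unip_le_normalizer_radical {i j : Fin n} (hij : (i : ℕ) + 1 = j) :
    (unip K n).map π ≤ Subgroup.normalizer (((radical hij).map π : Subgroup G) : Set G) := by
  rintro _ ⟨u, hu, rfl⟩
  refine mem_normalizer_of_forall ?_ ?_ <;> rintro _ ⟨A, hA, rfl⟩
  · exact ⟨_, conj_mem_radical_of_mem_unip hij hu hA, by simp⟩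
  · exact ⟨_, conj_mem_radical_of_mem_unip hij (inv_mem hu) hA, by simp⟩

theorem map_transvection_mem_normalizer_radical {i j a b : Fin n} (hij : (i : ℕ) + 1 = j)
    (hab : a ≠ b) (h : (a = i ∧ b = j) ∨ (a = j ∧ b = i)) (c : K) :
    π (Matrix.SpecialLinearGroup.transvection hab c) ∈
      Subgroup.normalizer (((radical hij).map π : Subgroup G) : Set G) := by
  rcases h with ⟨rfl, rfl⟩ | ⟨rfl, rfl⟩
  · exact map_unip_le_normalizer_radical (p := p) hker hij
      ⟨_, transvection_mem_unip (by rw [Fin.lt_def]; omega) c, rfl⟩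
  · refine mem_normalizer_of_forall ?_ ?_ <;> rintro _ ⟨A, hA, rfl⟩
    · exact ⟨_, conj_mem_radical_of_lower hij hab c hA, by simp⟩
    · refine ⟨_, conj_mem_radical_of_lower hij hab (-c) hA, ?_⟩
      rw [← Matrix.SpecialLinearGroup.transvection_inv]
      simp

theorem isUni_diag_conj {d : (Matrix.SpecialLinearGroup (Fin n) K)} (t : Fin n → K) (ht : ∏ i, t i = 1) (hd : d = diagSL t ht) :
    ∀ u ∈ unip K n, d * u * d⁻¹ ∈ unip K n ∧ d⁻¹ * u * d ∈ unip K n := by
  have hup : IsUpper d := fun i j h => by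
    rw [hd]; simp [ent, Matrix.diagonal_apply_ne _ h.ne']
  have hup' : IsUpper d⁻¹ := by
    rw [show d⁻¹ = d ^ (orderOf d - 1) from (eq_inv_of_mul_eq_one_left (by
      rw [← pow_succ, Nat.sub_add_cancel (orderOf_pos d), pow_orderOf_eq_one])).symm]
    exact (hup.pow_diag _).1
  have hone : ∀ i, ent d i i * ent d⁻¹ i i = 1 := fun i => by
    rw [← hup.mul_diag hup', mul_inv_cancel]
    exact isUni_one.2 i
  intro u hu
  obtain ⟨hu, hu1⟩ := hu
  refine ⟨⟨(hup.mul hu).mul hup', fun i => ?_⟩, ⟨(hup'.mul hu).mul hup, fun i => ?_⟩⟩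
  · rw [(hup.mul hu).mul_diag hup', hup.mul_diag hu, hu1, mul_one, hone]
  · rw [(hup'.mul hu).mul_diag hup, hup'.mul_diag hu, hu1, mul_one, mul_comm, hone]

theorem map_diag2n_mem_gen [Finite G] (hn : 3 ≤ n) (hπ : Function.Surjective π) (S : Sylow p G)
    (hS : (S : Subgroup G) = (unip K n).map π) {i j : Fin n} (hij : (i : ℕ) + 1 = j) (hne : i ≠ j)
    (a : K) (ha : a ≠ 0) :
    π (Matrix.SpecialLinearGroup.diag2n hne a ha) ∈ simpleGenSet S := by
  refine ⟨?_, Or.inr ⟨(radical hij).map π, ?_, ?_, centralizer_map_le_map_radical (p := p) hker hn hπ hij,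
    ?_⟩⟩
  · have ht : ∏ k, (fun k => if k = i then a else if k = j then a⁻¹ else 1) k = 1 := by
      rw [← Matrix.det_diagonal]
      exact (Matrix.SpecialLinearGroup.diag2n hne a ha).2
    have h := isUni_diag_conj (p := p) hker _ ht
      (show Matrix.SpecialLinearGroup.diag2n hne a ha = diagSL _ ht from rfl)
    rw [hS]
    refine mem_normalizer_of_forall ?_ ?_ <;> rintro _ ⟨u, hu, rfl⟩
    · exact ⟨_, (h u hu).1, by simp⟩
    · exact ⟨_, (h u hu).2, by simp⟩
  · rw [hS]; exact Subgroup.map_mono (radical_le hij)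
  · rw [hS]; exact map_unip_le_normalizer_radical (p := p) hker hij
  · have htr : ∀ {a' b' : Fin n} (hab : a' ≠ b'), ((a' = i ∧ b' = j) ∨ (a' = j ∧ b' = i)) →
        ∀ c : K, π (Matrix.SpecialLinearGroup.transvection hab c) ∈ Subgroup.closure
          {x : G | x ∈ Subgroup.normalizer (((radical hij).map π : Subgroup G) : Set G) ∧
            ∃ k : ℕ, x ^ p ^ k = 1} := fun hab h c =>
      Subgroup.subset_closure ⟨map_transvection_mem_normalizer_radical (p := p) hker hij hab h c, 1,
        by rw [← map_pow, transvection_pow_char hab c, map_one]⟩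
    rw [Classical.diag2n_eq_transvections]
    simp only [map_mul]
    refine mul_mem (mul_mem (mul_mem (mul_mem (mul_mem ?_ ?_) ?_) ?_) ?_) ?_ <;>
      first
        | exact htr _ (Or.inl ⟨rfl, rfl⟩) _
        | exact htr _ (Or.inr ⟨rfl, rfl⟩) _

/-- Simplicity of the fusion system on the image of the unitriangular group. -/
theorem isSimple_of_eq [Finite G] (hn : 3 ≤ n) (hπ : Function.Surjective π) (S : Sylow p G)
    (hS : (S : Subgroup G) = (unip K n).map π) :
    (groupFusionSystem (S : Subgroup G)).IsSimple p := by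
  obtain ⟨z₀, hz₀⟩ : ∃ z₀ : Fin n, (z₀ : ℕ) = 0 := ⟨⟨0, by omega⟩, rfl⟩
  obtain ⟨l, hl⟩ : ∃ l : Fin n, (l : ℕ) = n - 1 := ⟨⟨n - 1, by omega⟩, rfl⟩
  have hzl : z₀ < l := by rw [Fin.lt_def]; omega
  refine isSimple_group_of S ?_ ?_ ?_
  · rw [hS]
    intro h
    have h1 : π (Matrix.SpecialLinearGroup.transvection hzl.ne (1 : K)) = 1 := by
      rw [← Subgroup.mem_bot, ← h]
      exact ⟨_, transvection_mem_unip hzl 1, rfl⟩
    rw [hker, Matrix.SpecialLinearGroup.transvection_mem_center_iff] at h1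
    exact one_ne_zero h1
  · intro T hTS hT hTn hTc
    -- a nontrivial element of `T` centralizing `S`
    haveI : Group.IsNilpotent (S : Subgroup G) := S.2.isNilpotent
    haveI : (T.subgroupOf (S : Subgroup G)).Normal := Subgroup.normal_subgroupOf_of_le_normalizer hTn
    obtain ⟨⟨x, hxS⟩, ⟨hxT, hxc⟩, hx1⟩ := Subgroup.bot_or_exists_ne_one _ |>.resolve_left
      (Grp.inf_center_ne_bot (T.subgroupOf (S : Subgroup G)) fun h => hT (by
        rw [Subgroup.subgroupOf_eq_bot] at h
        exact h.eq_bot_of_le hTS))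
    obtain ⟨g, hg, rfl⟩ : ∃ g ∈ unip K n, π g = x := by rw [hS] at hxS; exact hxS
    have hgc : ∀ {a b : Fin n} (hab : a < b), ent g a a = ent g b b ∧
        (∀ k, k ≠ a → ent g k a = 0) ∧ ∀ k, k ≠ b → ent g b k = 0 := by
      intro a b hab
      refine comm_transvection hab.ne ?_
      have hm : π (Matrix.SpecialLinearGroup.transvection hab.ne (1 : K)) ∈ (S : Subgroup G) := by
        rw [hS]; exact ⟨_, transvection_mem_unip hab 1, rfl⟩
      have h2 : π (Matrix.SpecialLinearGroup.transvection hab.ne (1 : K)) * π g =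
          π g * π (Matrix.SpecialLinearGroup.transvection hab.ne (1 : K)) :=
        congrArg Subtype.val (Subgroup.mem_center_iff.1 hxc ⟨_, hm⟩)
      have h3 := conj_eq_of_map_eq (p := p) hker (transvection_mem_unip hab 1)
        (transvection_mem_unip hab (1 : K)) (g := g) (by rw [← h2, mul_inv_cancel_right])
      conv_rhs => rw [← h3]
      group
    have hgeq : g = Matrix.SpecialLinearGroup.transvection hzl.ne (ent g z₀ l) := by
      ext r s
      show ent g r s = ent (Matrix.SpecialLinearGroup.transvection hzl.ne _) r s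
      rw [ent_transvection]
      by_cases hrs : r = s
      · rw [hrs, if_pos rfl, hg.2 s, if_neg, add_zero]
        rintro ⟨rfl, h2⟩
        exact hzl.ne h2
      rw [if_neg hrs, zero_add]
      by_cases h : r = z₀ ∧ s = l
      · rw [if_pos h, h.1, h.2]
      · rw [if_neg h]
        rcases lt_or_gt_of_ne hrs with hlt | hgt
        · by_cases hr : r = z₀
          · have hsl : s < l := by
              rw [Fin.lt_def] at hlt ⊢
              have : (s : ℕ) ≠ n - 1 := fun e => h ⟨hr, Fin.ext (by omega)⟩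
              omega
            exact (hgc hsl).2.1 r hrs
          · have hzr : z₀ < r := by
              rw [Fin.lt_def]
              have : (r : ℕ) ≠ 0 := fun e => hr (Fin.ext (by omega))
              omega
            exact (hgc hzr).2.2 s (Ne.symm hrs)
        · exact hg.1 r s hgt
    have hc0 : ent g z₀ l ≠ 0 := fun e => hx1 (Subtype.ext (by
      show π g = 1
      rw [hgeq, e, Matrix.SpecialLinearGroup.transvection_coeff_zero, map_one]))
    have htr : ∀ {a b : Fin n} (hab : a < b) (d : K),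
        π (Matrix.SpecialLinearGroup.transvection hab.ne d) ∈ T := by
      intro a b hab d
      by_cases hd : d = 0
      · subst hd; simp
      obtain ⟨q, hq⟩ := _root_.isConj_iff.1 (isConj_transvection hn hzl.ne hab.ne hc0 hd)
      rw [← hgeq] at hq
      have h4 : π (Matrix.SpecialLinearGroup.transvection hab.ne d) = π q * π g * (π q)⁻¹ := by
        rw [← hq, map_mul, map_mul, map_inv]
      rw [h4]
      refine hTc (π q) (π g) hxT ?_
      rw [← h4, hS]
      exact ⟨_, transvection_mem_unip hab d, rfl⟩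
    rw [hS]
    refine Subgroup.map_le_iff_le_comap.2 ((unip_le_closure).trans ((Subgroup.closure_le _).2 ?_))
    rintro _ ⟨a, b, hab, c, rfl⟩
    exact htr hab c
  · intro x hx
    obtain ⟨g, rfl⟩ := hπ x
    rw [hS] at hx
    obtain ⟨t, ht, htu⟩ := exists_diag (isUpper_of_map_normalizer (p := p) hker hx)
    have hgen : ∀ u ∈ unip K n, π u ∈ simpleGenSet S := fun u hu => by
      have : π u ∈ (S : Subgroup G) := by rw [hS]; exact ⟨u, hu, rfl⟩
      exact ⟨Subgroup.le_normalizer this, Or.inl this⟩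
    rw [← mul_inv_cancel_left (diagSL t ht) g, map_mul]
    refine mul_mem ?_ (Subgroup.subset_closure (hgen _ htu))
    refine (Subgroup.closure_le ((Subgroup.closure (simpleGenSet S)).comap π)).2 ?_
      (diagSL_mem_closure_diag2n (by omega) (n - 1) (by omega) t ht fun i hi => by
        have := i.2; omega)
    rintro _ ⟨i, j, hij, a, ha, rfl⟩
    exact Subgroup.subset_closure (map_diag2n_mem_gen (p := p) hker hn hπ S hS hij _ a ha)

omit hker in
/-- The fusion system of `PSLₙ(q)`, `n ≥ 3`, in the defining characteristic is simple. -/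
theorem isSimple_psl (hn : 3 ≤ n)
    (S : Sylow p (Matrix.ProjectiveSpecialLinearGroup (Fin n) K)) :
    (groupFusionSystem (S : Subgroup (Matrix.ProjectiveSpecialLinearGroup (Fin n) K))).IsSimple p := by
  have hker₀ : ∀ A : (Matrix.SpecialLinearGroup (Fin n) K), Classical.slToPSL n K A = 1 ↔ A ∈ Subgroup.center (Matrix.SpecialLinearGroup (Fin n) K) := fun A =>
    QuotientGroup.eq_one_iff A
  obtain ⟨P, hP⟩ := ((isPGroup_unip (K := K) (n := n) (p := p)).map
    (Classical.slToPSL n K)).exists_le_sylow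
  have hPeq := eq_map_unip (p := p) hker₀ Classical.slToPSL_surjective P hP
  obtain ⟨g, hg⟩ := MulAction.exists_smul_eq (Matrix.ProjectiveSpecialLinearGroup (Fin n) K) P S
  refine isSimple_of_eq (π := (MulAut.conj g).toMonoidHom.comp (Classical.slToPSL n K)) ?_ hn ?_ S ?_
  · intro A
    rw [← hker₀]
    simp
  · exact (MulAut.conj g).surjective.comp Classical.slToPSL_surjective
  · rw [← Subgroup.map_map, hPeq, ← hg]
    rfl

end Cfsg.Agent.Fus.PSLN
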