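import Cfsg.Agent.Lib.Fus.SimpleCriterion
import Cfsg.Agent.Lib.Classical.SLGroup
import Cfsg.Agent.Lib.Classical.MatrixOrders

/-!
Upper unitriangular subgroup of `SLₙ` in defining characteristic: Sylow, normalizer, radicals of
the minimal parabolic subgroups.
-/

set_option autoImplicit false
set_option linter.style.haveILetI false
set_option linter.unusedSectionVars false

open scoped Classical

namespace Cfsg.Agent.Fus.PSLN

open Matrix

variable {K : Type*} [Field K] [Fintype K] {p : ℕ} [Fact p.Prime] [CharP K p] {n : ℕ}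

local notation "SLn" => Matrix.SpecialLinearGroup (Fin n) K

/-- Entries of an element of `SLₙ`. -/
abbrev ent (A : SLn) (i j : Fin n) : K := (A : Matrix (Fin n) (Fin n) K) i j

theorem ent_mul (A B : SLn) (i j : Fin n) : ent (A * B) i j = ∑ k, ent A i k * ent B k j := by
  simp [ent, Matrix.SpecialLinearGroup.coe_mul, Matrix.mul_apply]

theorem eq_one_of_pow_prime_pow_eq_one {x : K} {k : ℕ} (h : x ^ p ^ k = 1) : x = 1 := by
  have h1 : (x - 1) ^ p ^ k = 0 := by rw [sub_pow_char_pow, h, one_pow, sub_self]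
  exact sub_eq_zero.1 (eq_zero_of_pow_eq_zero h1)

/-- Upper triangular. -/
def IsUpper (A : SLn) : Prop := ∀ i j : Fin n, j < i → ent A i j = 0

theorem IsUpper.mul {A B : SLn} (hA : IsUpper A) (hB : IsUpper B) : IsUpper (A * B) := by
  intro i j hij
  rw [ent_mul]
  refine Finset.sum_eq_zero fun k _ => ?_
  rcases lt_or_ge k i with h | h
  · rw [hA i k h, zero_mul]
  · rw [hB k j (lt_of_lt_of_le hij h), mul_zero]

theorem IsUpper.mul_diag {A B : SLn} (hA : IsUpper A) (hB : IsUpper B) (i : Fin n) :
    ent (A * B) i i = ent A i i * ent B i i := by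
  rw [ent_mul]
  refine Finset.sum_eq_single i (fun k _ hk => ?_) fun h => absurd (Finset.mem_univ i) h
  rcases lt_or_gt_of_ne hk with h | h
  · rw [hA i k h, zero_mul]
  · rw [hB k i h, mul_zero]

theorem isUpper_one : IsUpper (1 : SLn) := fun i j h => by simp [ent, h.ne']

theorem IsUpper.pow_diag {A : SLn} (hA : IsUpper A) (m : ℕ) :
    IsUpper (A ^ m) ∧ ∀ i, ent (A ^ m) i i = ent A i i ^ m := by
  induction m with
  | zero => exact ⟨by rw [pow_zero]; exact isUpper_one, fun i => by simp [ent]⟩
  | succ m ih =>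
    rw [pow_succ]
    exact ⟨ih.1.mul hA, fun i => by rw [ih.1.mul_diag hA, ih.2, pow_succ]⟩

theorem IsUpper.prod_diag {A : SLn} (hA : IsUpper A) : ∏ i, ent A i i = 1 := by
  rw [← Matrix.det_of_isUpperTriangular (M := (A : Matrix (Fin n) (Fin n) K))
    (fun i j h => hA i j h)]
  exact A.2

theorem IsUpper.diag_ne_zero {A : SLn} (hA : IsUpper A) (i : Fin n) : ent A i i ≠ 0 := fun h => by
  exact zero_ne_one ((Finset.prod_eq_zero (f := fun k => ent A k k) (Finset.mem_univ i) h).symm.trans
    hA.prod_diag)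

/-- Unitriangular. -/
def IsUni (A : SLn) : Prop := IsUpper A ∧ ∀ i, ent A i i = 1

theorem IsUni.mul {A B : SLn} (hA : IsUni A) (hB : IsUni B) : IsUni (A * B) :=
  ⟨hA.1.mul hB.1, fun i => by rw [hA.1.mul_diag hB.1, hA.2, hB.2, one_mul]⟩

theorem isUni_one : IsUni (1 : SLn) := ⟨isUpper_one, fun i => by simp [ent]⟩

theorem IsUni.pow {A : SLn} (hA : IsUni A) (m : ℕ) : IsUni (A ^ m) :=
  ⟨(hA.1.pow_diag m).1, fun i => by rw [(hA.1.pow_diag m).2, hA.2, one_pow]⟩

theorem IsUni.sub_one_pow_eq_zero {A : SLn} (hA : IsUni A) :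
    ∀ m, ∀ i j : Fin n, (j : ℕ) < i + m →
      (((A : Matrix (Fin n) (Fin n) K) - 1) ^ m) i j = 0 := by
  intro m
  induction m with
  | zero =>
    intro i j h
    simp only [add_zero] at h
    rw [pow_zero, Matrix.one_apply_ne]
    rintro rfl
    omega
  | succ m ih =>
    intro i j h
    rw [pow_succ, Matrix.mul_apply]
    refine Finset.sum_eq_zero fun k _ => ?_
    by_cases hk : (k : ℕ) < i + m
    · rw [ih i k hk, zero_mul]
    · have hjk : j ≤ k := by rw [Fin.le_def]; omega
      rcases hjk.eq_or_lt with rfl | hlt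
      · simp [ent, show (A : Matrix (Fin n) (Fin n) K) j j = 1 from hA.2 j]
      · rw [Matrix.sub_apply, show (A : Matrix (Fin n) (Fin n) K) k j = 0 from hA.1 k j hlt,
          Matrix.one_apply_ne hlt.ne', sub_zero, mul_zero]

theorem IsUni.exists_pow_eq_one {A : SLn} (hA : IsUni A) : A ^ p ^ n = 1 := by
  rcases Nat.eq_zero_or_pos n with rfl | hn
  · exact Subsingleton.elim _ _
  haveI : Nonempty (Fin n) := ⟨⟨0, hn⟩⟩
  haveI : CharP (Matrix (Fin n) (Fin n) K) p := inferInstance
  have h1 : ((A : Matrix (Fin n) (Fin n) K) - 1) ^ p ^ n = 0 := by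
    refine pow_eq_zero_of_le (m := n) (Nat.lt_pow_self (Fact.out : p.Prime).one_lt).le ?_
    ext i j
    exact hA.sub_one_pow_eq_zero n i j (by have := j.2; omega)
  rw [sub_pow_char_pow_of_commute p n (Commute.one_right _), one_pow, sub_eq_zero] at h1
  exact Subtype.ext h1

theorem IsUni.inv {A : SLn} (hA : IsUni A) : IsUni A⁻¹ := by
  have h : A ^ (orderOf A - 1) = A⁻¹ := eq_inv_of_mul_eq_one_left (by
    rw [← pow_succ, Nat.sub_add_cancel (orderOf_pos A), pow_orderOf_eq_one])
  rw [← h]
  exact hA.pow _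

variable (K n) in
/-- The upper unitriangular subgroup. -/
def unip : Subgroup SLn where
  carrier := {A | IsUni A}
  one_mem' := isUni_one
  mul_mem' := fun ha hb => IsUni.mul ha hb
  inv_mem' := fun ha => IsUni.inv ha

theorem isPGroup_unip : IsPGroup p (unip K n) :=
  fun A => ⟨n, Subtype.ext (IsUni.exists_pow_eq_one A.2)⟩

theorem ent_transvection {a b : Fin n} (hab : a ≠ b) (c : K) (i j : Fin n) :
    ent (Matrix.SpecialLinearGroup.transvection hab c) i j =
      (if i = j then 1 else 0) + if i = a ∧ j = b then c else 0 := by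
  simp [ent, Matrix.SpecialLinearGroup.transvection_coe, Matrix.one_apply, Matrix.single_apply,
    and_comm, eq_comm]

theorem transvection_mem_unip {a b : Fin n} (hab : a < b) (c : K) :
    Matrix.SpecialLinearGroup.transvection hab.ne c ∈ unip K n := by
  refine ⟨fun i j hij => ?_, fun i => ?_⟩
  · rw [ent_transvection, if_neg hij.ne', if_neg, add_zero]
    rintro ⟨rfl, rfl⟩
    exact lt_asymm hab hij
  · rw [ent_transvection, if_pos rfl, if_neg, add_zero]
    rintro ⟨rfl, rfl⟩
    exact lt_irrefl _ hab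

theorem transvection_pow_char {a b : Fin n} (hab : a ≠ b) (c : K) :
    (Matrix.SpecialLinearGroup.transvection hab c) ^ p ^ 1 = 1 := by
  have key : ∀ m : ℕ, (Matrix.SpecialLinearGroup.transvection hab c) ^ m =
      Matrix.SpecialLinearGroup.transvection hab (m * c) := by
    intro m
    induction m with
    | zero => simp
    | succ m ih =>
      rw [pow_succ, ih]
      apply Subtype.ext
      simp [Matrix.SpecialLinearGroup.transvection_coe, mul_add, add_mul,
        Matrix.single_mul_single_of_ne _ _ _ _ hab.symm, add_assoc, ← Matrix.single_add]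
  rw [pow_one, key, CharP.cast_eq_zero K p, zero_mul]
  simp

/-- A transvection commuting with `g` forces zeros in a row and a column of `g`. -/
theorem comm_transvection {g : SLn} {a b : Fin n} (hab : a ≠ b)
    (h : g * Matrix.SpecialLinearGroup.transvection hab 1 =
      Matrix.SpecialLinearGroup.transvection hab 1 * g) :
    ent g a a = ent g b b ∧ (∀ k, k ≠ a → ent g k a = 0) ∧ ∀ k, k ≠ b → ent g b k = 0 := by
  have hE : ∀ i j : Fin n, (if j = b then ent g i a else 0) = if i = a then ent g b j else 0 := by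
    intro i j
    have h1 := congrArg (fun A : SLn => ent A i j) h
    simp only [ent, Matrix.SpecialLinearGroup.coe_mul, Matrix.SpecialLinearGroup.transvection_coe,
      mul_add, add_mul, mul_one, one_mul, Matrix.add_apply, add_right_inj] at h1
    by_cases hj : j = b <;> by_cases hi : i = a <;>
      simp [hj, hi] at h1 ⊢ <;> exact h1
  refine ⟨?_, fun k hk => ?_, fun k hk => ?_⟩
  · simpa using hE a b
  · simpa [hk] using hE k b
  · simpa [hk] using (hE a k).symm

/-- Upper triangularity from normalizing the unitriangular subgroup. -/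
theorem isUpper_of_conj_mem {g : SLn} (h : ∀ u ∈ unip K n, g * u * g⁻¹ ∈ unip K n) :
    IsUpper g := by
  suffices key : ∀ m : ℕ, ∀ i j : Fin n, n - 1 - (i : ℕ) = m → j < i → ent g i j = 0 from
    fun i j hij => key _ i j rfl hij
  intro m
  induction m using Nat.strong_induction_on with
  | _ m ih =>
    intro i j hm hji
    obtain ⟨hu, hu1⟩ := h _ (transvection_mem_unip hji 1)
    set u := g * Matrix.SpecialLinearGroup.transvection hji.ne (1 : K) * g⁻¹ with hudef
    have hgu : u * g = g * Matrix.SpecialLinearGroup.transvection hji.ne (1 : K) := by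
      rw [hudef, inv_mul_cancel_right]
    have h1 := congrArg (fun A : SLn => ent A i i) hgu
    simp only [ent_mul, ent_transvection] at h1
    rw [Finset.sum_eq_single i (fun k _ hk => by
      rcases lt_or_gt_of_ne hk with hlt | hgt
      · rw [hu i k hlt, zero_mul]
      · rw [ih (n - 1 - (k : ℕ)) (by have := k.2; rw [Fin.lt_def] at hgt; omega) k i
          rfl hgt, mul_zero]) (fun hh => absurd (Finset.mem_univ i) hh), hu1, one_mul] at h1
    simp only [mul_add, mul_ite, mul_one, mul_zero, Finset.sum_add_distrib, and_true] at h1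
    simpa using h1

/-- Diagonal element of `SLₙ`. -/
def diagSL (t : Fin n → K) (h : ∏ i, t i = 1) : SLn :=
  ⟨Matrix.diagonal t, by rw [Matrix.det_diagonal]; exact h⟩

@[simp] theorem coe_diagSL (t : Fin n → K) (h : ∏ i, t i = 1) :
    (diagSL t h : Matrix (Fin n) (Fin n) K) = Matrix.diagonal t := rfl

theorem ent_diagSL_mul (t : Fin n → K) (h : ∏ i, t i = 1) (g : SLn) (i j : Fin n) :
    ent (diagSL t h * g) i j = t i * ent g i j := by
  simp [ent, Matrix.SpecialLinearGroup.coe_mul, Matrix.diagonal_mul]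

theorem exists_diag {g : SLn} (hg : IsUpper g) :
    ∃ (t : Fin n → K) (h : ∏ i, t i = 1), (diagSL t h)⁻¹ * g ∈ unip K n := by
  have h' : ∏ i, (ent g i i)⁻¹ = 1 := by rw [Finset.prod_inv_distrib, hg.prod_diag, inv_one]
  have hdd : diagSL (fun i => ent g i i) hg.prod_diag * diagSL (fun i => (ent g i i)⁻¹) h' = 1 := by
    apply Subtype.ext
    rw [Matrix.SpecialLinearGroup.coe_mul, coe_diagSL, coe_diagSL, Matrix.diagonal_mul_diagonal,
      Matrix.SpecialLinearGroup.coe_one, ← Matrix.diagonal_one]
    congr 1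
    ext i
    exact mul_inv_cancel₀ (hg.diag_ne_zero i)
  refine ⟨_, hg.prod_diag, ?_⟩
  rw [inv_eq_of_mul_eq_one_right hdd]
  exact ⟨fun i j hij => by rw [ent_diagSL_mul, hg i j hij, mul_zero],
    fun i => by rw [ent_diagSL_mul, inv_mul_cancel₀ (hg.diag_ne_zero i)]⟩

theorem diagSL_mem_closure_diag2n (hn : 0 < n) :
    ∀ (k : ℕ), k < n → ∀ (t : Fin n → K) (h : ∏ i, t i = 1), (∀ i : Fin n, k < i → t i = 1) →
      diagSL t h ∈ Subgroup.closure {d : SLn | ∃ (i j : Fin n) (hij : (i : ℕ) + 1 = j) (a : K)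
        (ha : a ≠ 0), d = Matrix.SpecialLinearGroup.diag2n
          (show i ≠ j from fun e => by rw [e] at hij; omega) a ha} := by
  intro k
  induction k with
  | zero =>
    intro _ t h hsupp
    have h0 : t ⟨0, hn⟩ = 1 := by
      rw [← h]
      refine (Finset.prod_eq_single (f := t) ⟨0, hn⟩ (fun b _ hb => hsupp b ?_)
        fun hh => absurd (Finset.mem_univ _) hh).symm
      simp only [ne_eq, Fin.ext_iff] at hb
      exact Nat.pos_of_ne_zero hb
    have : diagSL t h = 1 := by
      apply Subtype.ext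
      rw [coe_diagSL, Matrix.SpecialLinearGroup.coe_one, ← Matrix.diagonal_one]
      congr 1
      ext i
      rcases Nat.eq_zero_or_pos (i : ℕ) with hi | hi
      · rw [show i = ⟨0, hn⟩ from Fin.ext hi, h0]
      · exact hsupp i hi
    rw [this]
    exact one_mem _
  | succ k ih =>
    intro hk t h hsupp
    set a : Fin n := ⟨k, by omega⟩
    set b : Fin n := ⟨k + 1, hk⟩
    have hab : a ≠ b := by simp [a, b]
    have htb : t b ≠ 0 := fun e => by
      have hp : ∏ i, t i = 0 := Finset.prod_eq_zero (Finset.mem_univ b) e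
      exact zero_ne_one (hp.symm.trans h)
    let c : Fin n → K := fun i => if i = a then (t b)⁻¹ else if i = b then ((t b)⁻¹)⁻¹ else 1
    let t' : Fin n → K := fun i => if i = a then t a * t b else if i = b then 1 else t i
    have hsplit : ∀ i, t i = t' i * c i := by
      intro i
      by_cases hia : i = a
      · subst hia; simp [t', c, htb]
      · by_cases hib : i = b
        · subst hib; simp [t', c, hab.symm]
        · simp [t', c, hia, hib]
    have hc : Matrix.diagonal c =
        (Matrix.SpecialLinearGroup.diag2n hab (t b)⁻¹ (inv_ne_zero htb) :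
          Matrix (Fin n) (Fin n) K) := (Matrix.SpecialLinearGroup.diag2n_coe hab _ _).symm
    have hcprod : ∏ i, c i = 1 := by
      rw [← Matrix.det_diagonal, hc]
      exact (Matrix.SpecialLinearGroup.diag2n hab (t b)⁻¹ (inv_ne_zero htb)).2
    have ht' : ∏ i, t' i = 1 := by
      rw [← mul_one (∏ i, t' i), ← hcprod, ← Finset.prod_mul_distrib]
      simp_rw [← hsplit]
      exact h.trans hcprod.symm
    have heq : diagSL t h =
        diagSL t' ht' * Matrix.SpecialLinearGroup.diag2n hab (t b)⁻¹ (inv_ne_zero htb) := by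
      apply Subtype.ext
      rw [Matrix.SpecialLinearGroup.coe_mul, coe_diagSL, coe_diagSL, ← hc,
        Matrix.diagonal_mul_diagonal]
      congr 1
      exact funext hsplit
    rw [heq]
    refine mul_mem (ih (by omega) t' ht' fun i hi => ?_)
      (Subgroup.subset_closure ⟨a, b, rfl, _, _, rfl⟩)
    have hia : i ≠ a := fun e => by rw [e] at hi; simp [a] at hi
    by_cases hib : i = b
    · simp [t', hib, hab.symm]
    · simp only [t', hia, hib, if_false]
      refine hsupp i ?_
      simp only [ne_eq, Fin.ext_iff] at hib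
      simp [b] at hib
      omega

theorem succ_entry_mul {i j : Fin n} (hij : (i : ℕ) + 1 = j) {A B : SLn} (hA : IsUni A)
    (hB : IsUni B) : ent (A * B) i j = ent A i j + ent B i j := by
  have hne : i ≠ j := fun e => by rw [e] at hij; omega
  rw [ent_mul, ← Finset.sum_subset (Finset.subset_univ ({i, j} : Finset (Fin n))),
    Finset.sum_pair hne, hA.2 i, one_mul, hB.2 j, mul_one, add_comm]
  intro k _ hk
  simp only [Finset.mem_insert, Finset.mem_singleton, not_or, Fin.ext_iff] at hk
  rcases lt_or_ge k i with h | h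
  · rw [hA.1 i k h, zero_mul]
  · rw [hB.1 k j ?_, mul_zero]
    rw [Fin.le_def] at h
    rw [Fin.lt_def]
    omega

/-- The unipotent radical of the minimal parabolic attached to the place `(i, j = i + 1)`. -/
def radical {i j : Fin n} (hij : (i : ℕ) + 1 = j) : Subgroup SLn where
  carrier := {A | IsUni A ∧ ent A i j = 0}
  one_mem' := ⟨isUni_one, by
    have : i ≠ j := fun e => by rw [e] at hij; omega
    simp [ent, this]⟩
  mul_mem' := by
    rintro A B ⟨hA, hA0⟩ ⟨hB, hB0⟩
    exact ⟨hA.mul hB, by rw [succ_entry_mul hij hA hB, hA0, hB0, add_zero]⟩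
  inv_mem' := by
    rintro A ⟨hA, hA0⟩
    refine ⟨hA.inv, ?_⟩
    have hne : i ≠ j := fun e => by rw [e] at hij; omega
    have h := succ_entry_mul hij hA hA.inv
    rw [mul_inv_cancel, hA0, zero_add] at h
    rw [← h]
    simp [ent, hne]

theorem radical_le {i j : Fin n} (hij : (i : ℕ) + 1 = j) : (radical hij : Subgroup SLn) ≤ unip K n :=
  fun _ h => h.1

theorem conj_mem_radical_of_mem_unip {i j : Fin n} (hij : (i : ℕ) + 1 = j) {u A : SLn}
    (hu : u ∈ unip K n) (hA : A ∈ radical hij) : u * A * u⁻¹ ∈ radical hij := by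
  obtain ⟨hA, hA0⟩ := hA
  refine ⟨(IsUni.mul hu hA).mul (IsUni.inv hu), ?_⟩
  rw [succ_entry_mul hij (IsUni.mul hu hA) (IsUni.inv hu), succ_entry_mul hij hu hA, hA0, add_zero,
    ← succ_entry_mul hij hu (IsUni.inv hu), mul_inv_cancel]
  have : i ≠ j := fun e => by rw [e] at hij; omega
  simp [ent, this]

theorem transvection_mem_radical {i j a b : Fin n} (hij : (i : ℕ) + 1 = j) (hab : a < b)
    (hne : ¬ (a = i ∧ b = j)) (c : K) :
    Matrix.SpecialLinearGroup.transvection hab.ne c ∈ radical hij := by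
  refine ⟨transvection_mem_unip hab c, ?_⟩
  have : i ≠ j := fun e => by rw [e] at hij; omega
  rw [ent_transvection, if_neg this, if_neg (fun h => hne ⟨h.1.symm, h.2.symm⟩), add_zero]

/-- The opposite root subgroup of the place `(i, j)` normalizes the radical. -/
theorem conj_mem_radical_of_lower {i j : Fin n} (hij : (i : ℕ) + 1 = j) (hji : j ≠ i) (c : K)
    {A : SLn} (hA : A ∈ radical hij) :
    Matrix.SpecialLinearGroup.transvection hji c * A *
      (Matrix.SpecialLinearGroup.transvection hji c)⁻¹ ∈ radical hij := by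
  obtain ⟨⟨hA, hA1⟩, hA0⟩ := hA
  have key : ∀ r s, ent (Matrix.SpecialLinearGroup.transvection hji c * A *
      (Matrix.SpecialLinearGroup.transvection hji c)⁻¹) r s =
      (ent A r s + if r = j then c * ent A i s else 0) -
        if s = i then c * (ent A r j + if r = j then c * ent A i j else 0) else 0 := by
    intro r s
    rw [Matrix.SpecialLinearGroup.transvection_inv]
    simp only [ent_mul, ent_transvection, ite_and, add_mul, mul_add, ite_mul, mul_ite, one_mul,
      mul_one, zero_mul, mul_zero, Finset.sum_add_distrib, Finset.sum_ite_eq, Finset.sum_ite_eq',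
      Finset.mem_univ, if_true]
    split_ifs <;> simp_all <;> ring
  have hlt : i < j := by rw [Fin.lt_def]; omega
  refine ⟨⟨fun r s hrs => ?_, fun r => ?_⟩, ?_⟩
  · rw [key, hA r s hrs, zero_add]
    by_cases hr : r = j
    · subst hr
      rw [if_pos rfl]
      by_cases hs : s = i
      · subst hs
        rw [if_pos rfl, if_pos rfl, hA1, hA1, hA0, mul_zero, add_zero, sub_self]
      · rw [if_neg hs, sub_zero]
        rw [Fin.lt_def] at hrs
        simp only [ne_eq, Fin.ext_iff] at hs
        rw [hA i s (by rw [Fin.lt_def]; omega), mul_zero]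
    · rw [if_neg hr, if_neg hr, zero_sub, add_zero]
      by_cases hs : s = i
      · subst hs
        rw [if_pos rfl, hA r j ?_, mul_zero, neg_zero]
        rw [Fin.lt_def] at hrs ⊢
        simp only [ne_eq, Fin.ext_iff] at hr
        omega
      · rw [if_neg hs, neg_zero]
  · rw [key, hA1]
    by_cases hr : r = j
    · subst hr
      rw [if_pos rfl, if_neg hji, hA0, mul_zero, add_zero, sub_zero]
    · rw [if_neg hr, if_neg hr, add_zero, add_zero]
      by_cases hs : r = i
      · subst hs
        rw [if_pos rfl, hA0, mul_zero, sub_zero]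
      · rw [if_neg hs, sub_zero]
  · rw [key, hA0, if_neg hlt.ne, if_neg hlt.ne', add_zero, sub_zero]

/-- Centralizing all root subgroups of the radical. -/
theorem mem_radical_of_comm (hn : 3 ≤ n) {i j : Fin n} (hij : (i : ℕ) + 1 = j) {g : SLn}
    (h : ∀ u ∈ radical hij, g * u = u * g) :
    ∃ z ∈ Subgroup.center SLn, z⁻¹ * g ∈ radical hij := by
  have hc : ∀ {a b : Fin n} (hab : a < b), ¬ (a = i ∧ b = j) → ent g a a = ent g b b ∧
      (∀ k, k ≠ a → ent g k a = 0) ∧ ∀ k, k ≠ b → ent g b k = 0 := fun hab hne =>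
    comm_transvection hab.ne (h _ (transvection_mem_radical hij hab hne 1))
  obtain ⟨z₀, hz₀⟩ : ∃ z₀ : Fin n, (z₀ : ℕ) = 0 := ⟨⟨0, by omega⟩, rfl⟩
  obtain ⟨l, hl⟩ : ∃ l : Fin n, (l : ℕ) = n - 1 := ⟨⟨n - 1, by omega⟩, rfl⟩
  have hzl : z₀ < l := by rw [Fin.lt_def]; omega
  have hzl' : ¬ (z₀ = i ∧ l = j) := fun ⟨h1, h2⟩ => by
    rw [← h1, ← h2] at hij; omega
  have hdiag : ∀ m, ent g m m = ent g z₀ z₀ := by
    intro m
    by_cases hm0 : m = z₀
    · rw [hm0]
    have hm0' : z₀ < m := by rw [Fin.lt_def]; rw [Fin.ext_iff] at hm0; omega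
    by_cases hex : z₀ = i ∧ m = j
    · have hml : m < l := by
        obtain ⟨h1, h2⟩ := hex
        rw [← h1, ← h2] at hij
        rw [Fin.lt_def]; omega
      rw [(hc hml (fun h' => by rw [h'.1] at hm0; exact hm0 hex.1.symm)).1, ← (hc hzl hzl').1]
    · exact (hc hm0' hex).1.symm
  -- the zero entries
  have hcol : ∀ r s : Fin n, r ≠ s → (s : ℕ) + 2 < n ∨ ((s : ℕ) + 2 = n ∧ s ≠ i) →
      ent g r s = 0 := by
    intro r s hrs hs
    have hsl : s < l := by rw [Fin.lt_def]; omega
    refine (hc hsl fun ⟨h1, h2⟩ => ?_).2.1 r hrs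
    rw [← h1, ← h2] at hij
    rcases hs with hs | ⟨-, hs⟩
    · omega
    · exact hs h1
  have hrow : ∀ r s : Fin n, r ≠ s → 1 < (r : ℕ) ∨ ((r : ℕ) = 1 ∧ r ≠ j) → ent g r s = 0 := by
    intro r s hrs hr
    have hzr : z₀ < r := by rw [Fin.lt_def]; omega
    refine (hc hzr fun ⟨h1, h2⟩ => ?_).2.2 s (Ne.symm hrs)
    rw [← h1, ← h2] at hij
    rcases hr with hr | ⟨-, hr⟩
    · omega
    · exact hr h2
  have hup : IsUpper g := by
    intro r s hrs
    rw [Fin.lt_def] at hrs
    by_cases hs : (s : ℕ) + 2 < n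
    · exact hcol r s (fun e => by rw [e] at hrs; omega) (Or.inl hs)
    · exact hrow r s (fun e => by rw [e] at hrs; omega) (Or.inl (by omega))
  have hlam : ent g z₀ z₀ ^ n = 1 := by
    have := hup.prod_diag
    simp only [hdiag, Finset.prod_const, Finset.card_univ, Fintype.card_fin] at this
    exact this
  refine ⟨diagSL (fun _ => ent g z₀ z₀) (by simpa using hlam), ?_, ?_⟩
  · rw [Classical.slMem_center_iff]
    exact ⟨_, (coe_diagSL _ _).trans rfl⟩
  · have h' : ∏ _i : Fin n, (ent g z₀ z₀)⁻¹ = 1 := by simp [inv_pow, hlam]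
    have hne : ent g z₀ z₀ ≠ 0 := fun e => by
      rw [e, zero_pow (by omega)] at hlam; exact zero_ne_one hlam
    have hinv : (diagSL (fun _ => ent g z₀ z₀) (by simpa using hlam) : SLn)⁻¹ =
        diagSL (fun _ => (ent g z₀ z₀)⁻¹) h' := by
      refine inv_eq_of_mul_eq_one_right (Subtype.ext ?_)
      rw [Matrix.SpecialLinearGroup.coe_mul, coe_diagSL, coe_diagSL, Matrix.diagonal_mul_diagonal,
        Matrix.SpecialLinearGroup.coe_one, ← Matrix.diagonal_one]
      congr 1
      ext
      exact mul_inv_cancel₀ hne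
    rw [hinv]
    refine ⟨⟨fun r s hrs => by rw [ent_diagSL_mul, hup r s hrs, mul_zero],
      fun r => by rw [ent_diagSL_mul, hdiag r, inv_mul_cancel₀ hne]⟩, ?_⟩
    rw [ent_diagSL_mul]
    have hne' : i ≠ j := fun e => by rw [e] at hij; omega
    by_cases hi : (i : ℕ) = 0
    · rw [hcol i j hne' ?_, mul_zero]
      by_cases h3 : (j : ℕ) + 2 < n
      · exact Or.inl h3
      · exact Or.inr ⟨by omega, hne'.symm⟩
    · rw [hrow i j hne' ?_, mul_zero]
      by_cases h1 : (i : ℕ) = 1
      · exact Or.inr ⟨h1, hne'⟩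
      · exact Or.inl (by omega)

/-- The unitriangular subgroup is generated by transvections. -/
theorem unip_le_closure : unip K n ≤ Subgroup.closure {A : SLn | ∃ (a b : Fin n) (hab : a < b) (c : K),
    A = Matrix.SpecialLinearGroup.transvection hab.ne c} := by
  suffices key : ∀ m : ℕ, ∀ A : SLn, IsUni A →
      (Finset.univ.filter fun x : Fin n × Fin n => x.1 < x.2 ∧ ent A x.1 x.2 ≠ 0).card = m →
      A ∈ Subgroup.closure {A : SLn | ∃ (a b : Fin n) (hab : a < b) (c : K),
        A = Matrix.SpecialLinearGroup.transvection hab.ne c} from fun A hA => key _ A hA rfl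
  intro m
  induction m using Nat.strong_induction_on with
  | _ m ih =>
    intro A hA hm
    by_cases hex : ∃ a b, a < b ∧ ent A a b ≠ 0
    swap
    · push Not at hex
      have : A = 1 := by
        ext r s
        show ent A r s = (1 : Matrix (Fin n) (Fin n) K) r s
        rcases lt_trichotomy r s with h | rfl | h
        · rw [hex r s h, Matrix.one_apply_ne h.ne]
        · rw [hA.2, Matrix.one_apply_eq]
        · rw [hA.1 r s h, Matrix.one_apply_ne h.ne']
      rw [this]; exact one_mem _
    obtain ⟨a, ha, hmax⟩ := Finset.exists_max_image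
      (Finset.univ.filter fun a : Fin n => ∃ b, a < b ∧ ent A a b ≠ 0) id
      (by obtain ⟨a, b, h⟩ := hex; exact ⟨a, by simpa using ⟨b, h⟩⟩)
    obtain ⟨b, hab, hne⟩ := (Finset.mem_filter.1 ha).2
    have hb : ∀ s, s ≠ b → ent A b s = 0 := by
      intro s hs
      rcases lt_or_gt_of_ne hs with h | h
      · exact hA.1 b s h
      · by_contra h0
        exact absurd (hmax b (Finset.mem_filter.2 ⟨Finset.mem_univ _, s, h, h0⟩))
          (not_le.2 hab)
    set B := Matrix.SpecialLinearGroup.transvection hab.ne (-ent A a b) * A with hBdef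
    have hBe : ∀ r s, ent B r s = if r = a ∧ s = b then 0 else ent A r s := by
      intro r s
      rw [hBdef, ent_mul]
      simp only [ent_transvection, ite_and, add_mul, ite_mul, one_mul, zero_mul,
        Finset.sum_add_distrib, Finset.sum_ite_eq, Finset.sum_ite_eq', Finset.mem_univ, if_true]
      by_cases hr : r = a
      · subst hr
        by_cases hs : s = b
        · subst hs; simp [hA.2 s]
        · simp [hb s hs, hs]
      · simp [hr]
    have hBuni : IsUni B := IsUni.mul (transvection_mem_unip hab _) hA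
    have hlt : (Finset.univ.filter fun x : Fin n × Fin n => x.1 < x.2 ∧ ent B x.1 x.2 ≠ 0).card <
        m := by
      rw [← hm]
      refine Finset.card_lt_card ⟨fun x hx => ?_, fun hsub => ?_⟩
      · simp only [Finset.mem_filter, Finset.mem_univ, true_and, hBe] at hx ⊢
        refine ⟨hx.1, fun e => hx.2 ?_⟩
        split_ifs <;> simp [e]
      · have := @hsub (a, b) (Finset.mem_filter.2 ⟨Finset.mem_univ _, hab, hne⟩)
        simp [hBe] at this
    rw [← inv_mul_cancel_left (Matrix.SpecialLinearGroup.transvection hab.ne (-ent A a b)) A]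
    exact mul_mem (inv_mem (Subgroup.subset_closure ⟨a, b, hab, _, rfl⟩)) (ih _ hlt B hBuni rfl)

/-- For `n ≥ 3` all nontrivial transvections are conjugate in `SLₙ`. -/
theorem isConj_transvection (hn : 3 ≤ n) {a b a' b' : Fin n} (hab : a ≠ b) (hab' : a' ≠ b') {c d : K}
    (hc : c ≠ 0) (hd : d ≠ 0) :
    IsConj (Matrix.SpecialLinearGroup.transvection hab c)
      (Matrix.SpecialLinearGroup.transvection hab' d) := by
  obtain ⟨σ, hσa, hσb⟩ : ∃ σ : Equiv.Perm (Fin n), σ a' = a ∧ σ b' = b := by
    refine ⟨(Equiv.swap a' a).trans (Equiv.swap ((Equiv.swap a' a) b') b), ?_, ?_⟩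
    · simp only [Equiv.trans_apply, Equiv.swap_apply_left]
      refine Equiv.swap_apply_of_ne_of_ne (fun e => hab' ?_) hab
      exact (Equiv.swap a' a).injective ((Equiv.swap_apply_left a' a).trans e)
    · simp [Equiv.trans_apply]
  obtain ⟨k, hka, hkb⟩ : ∃ k : Fin n, k ≠ a ∧ k ≠ b := by
    obtain ⟨k, -, hk⟩ := Finset.exists_mem_notMem_of_card_lt_card (s := ({a, b} : Finset (Fin n)))
      (t := Finset.univ) (lt_of_le_of_lt Finset.card_le_two (by
        rw [Finset.card_univ, Fintype.card_fin]; omega))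
    simp only [Finset.mem_insert, Finset.mem_singleton, not_or] at hk
    exact ⟨k, hk⟩
  let ε : K := ((Equiv.Perm.sign σ : ℤˣ) : ℤ)
  have hε : ε ≠ 0 := by
    rcases Int.units_eq_one_or (Equiv.Perm.sign σ) with h | h <;> simp [ε, h]
  let t : Fin n → K := fun x => if x = a then d / c else if x = k then (ε * (d / c))⁻¹ else 1
  have ht : ε * ∏ x, t x = 1 := by
    rw [← Finset.prod_subset (Finset.subset_univ ({a, k} : Finset (Fin n))) fun x _ hx => ?_,
      Finset.prod_pair hka.symm]
    · simp [t, hka]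
      field_simp
    · simp only [Finset.mem_insert, Finset.mem_singleton, not_or] at hx
      simp [t, hx.1, hx.2]
  obtain ⟨g, hg⟩ : ∃ g : SLn, ∀ r s, ent g r s = if σ r = s then t s else 0 :=
    ⟨⟨σ.permMatrix K * Matrix.diagonal t, by
      rw [Matrix.det_mul, Matrix.det_permutation, Matrix.det_diagonal]; exact ht⟩,
      fun r s => by
        show (σ.permMatrix K * Matrix.diagonal t) r s = _
        rw [Matrix.mul_diagonal]
        simp [Equiv.Perm.permMatrix, PEquiv.toMatrix_apply, Equiv.toPEquiv_apply]⟩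
  refine _root_.isConj_iff.2 ⟨g, ?_⟩
  rw [mul_inv_eq_iff_eq_mul]
  apply Subtype.ext
  ext r s
  obtain ⟨u, rfl⟩ := σ.surjective s
  show ent (g * _) r (σ u) = ent (_ * g) r (σ u)
  simp only [ent_mul, hg, ent_transvection, ite_and, add_mul, mul_add, ite_mul, mul_ite, one_mul,
    mul_one, zero_mul, mul_zero, Finset.sum_add_distrib, Finset.sum_ite_eq, Finset.sum_ite_eq',
    Finset.mem_univ, if_true, σ.injective.eq_iff, ← hσb]
  by_cases hu : u = b' <;> by_cases hr : r = a'
  · subst hu hr
    have hne : σ u ≠ k := fun e => hkb (e.symm.trans hσb)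
    simp [hσa, hσb, t, hab.symm, hab', hkb.symm]
    field_simp
  · subst hu
    have hra : σ r ≠ a := fun e => hr (σ.injective (e.trans hσa.symm))
    simp [hr, hra]
  · subst hr
    simp [hu]
  · have hra : σ r ≠ a := fun e => hr (σ.injective (e.trans hσa.symm))
    simp [hu, hr, hra]

end Cfsg.Agent.Fus.PSLN
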