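import Mathlib
import Cfsg.Agent.Lib.Fus.SLTwoAdjoinBasic
import Cfsg.Agent.Lib.Classical.DicksonMain
import Cfsg.Agent.Lib.Classical.DicksonTorus

/-!
Generation of `SL(2, k(α))` for finite `k`, from Dickson's list of subgroups.
-/

set_option autoImplicit false

namespace Cfsg.Agent.Fus.AdjoinSL

open Matrix Cfsg.Agent.Grp.SL2 Cfsg.Agent.PSL2Spec Cfsg.Agent.Dickson

variable {k L : Type*} [Field k] [Field L] [Algebra k L] [Fintype L]

local notation "SL₂" => Matrix.SpecialLinearGroup (Fin 2) L

variable (p : ℕ) [hp : Fact p.Prime] [CharP L p]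

theorem not_uni_le_semi {a : Matrix.ProjectiveSpecialLinearGroup (Fin 2) L} (ha : a ≠ 1) (hap : a ^ p ≠ 1)
    {s : L} (hs : s ≠ 0) : proj (up s : SL₂) ∉ tor a := by
  intro h
  have h1 : proj (up s : SL₂) ≠ 1 := fun e => by
    rcases proj_one_iff.mp e with e | e
    · exact hs (eq_of_up_eq (r := 0) (Or.inl (by rw [up_zero]; exact e)))
    · exact hs (eq_of_up_eq (r := 0) (Or.inr (by rw [up_zero]; exact e)))
  refine (pslData (F := L) p).semi_of_ne ha hap h h1 ?_
  rw [← map_pow, up_pow, CharP.cast_eq_zero, zero_mul, up_zero, map_one]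

theorem mem_uni_tor {a g : Matrix.ProjectiveSpecialLinearGroup (Fin 2) L} (ha : a ≠ 1) (hap : a ^ p = 1)
    (hg : g ∈ Subgroup.normalizer (tor a : Set (Matrix.ProjectiveSpecialLinearGroup (Fin 2) L)))
    (hgp : g ^ p = 1) : g ∈ tor a := by
  classical
  set N := Subgroup.normalizer (tor a : Set (Matrix.ProjectiveSpecialLinearGroup (Fin 2) L)) with hN
  have hle : tor a ≤ N := Subgroup.le_normalizer
  haveI : ((tor a).subgroupOf N).Normal := Subgroup.normal_in_normalizer
  have hidx : ((tor a).subgroupOf N).index * del L = Fintype.card L - 1 := by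
    have h1 := ((tor a).subgroupOf N).card_mul_index
    rw [Nat.card_congr (Subgroup.subgroupOfEquivOfLe hle).toEquiv, card_tor_uni p ha hap] at h1
    have h2 : Nat.card N * del L = _ := card_borel p ha hap
    rw [← h1, mul_assoc] at h2
    exact Nat.eq_of_mul_eq_mul_left Fintype.card_pos h2
  have hcop : ¬ p ∣ ((tor a).subgroupOf N).index := fun h => by
    have hq : p ∣ Fintype.card L := by
      obtain ⟨n, -, hn⟩ := FiniteField.card L p
      rw [hn]; exact dvd_pow_self p n.ne_zero
    have h' : p ∣ Fintype.card L - 1 := hidx ▸ dvd_mul_of_dvd_left h _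
    have := Nat.dvd_sub hq h'
    rw [Nat.sub_sub_self Fintype.card_pos] at this
    exact hp.out.not_dvd_one this
  obtain ⟨x, hx⟩ : ∃ x : N ⧸ (tor a).subgroupOf N, x = QuotientGroup.mk ⟨g, hg⟩ := ⟨_, rfl⟩
  have hxp : x ^ p = 1 := by
    rw [hx, ← QuotientGroup.mk_pow, show (⟨g, hg⟩ : N) ^ p = 1 from Subtype.ext (by simpa using hgp)]
    rfl
  have hx1 : orderOf x = 1 := by
    rcases (Nat.dvd_prime hp.out).mp (orderOf_dvd_of_pow_eq_one hxp) with h | h
    · exact h
    · exfalso
      have hd := orderOf_dvd_natCard x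
      rw [h] at hd
      exact hcop hd
  rw [orderOf_eq_one_iff, hx, QuotientGroup.eq_one_iff] at hx1
  exact hx1

theorem adjH_map_not_borel {α : L} (hα : α ≠ 0) (h2 : (2 : L) ≠ 0)
    {a : Matrix.ProjectiveSpecialLinearGroup (Fin 2) L} (ha : a ≠ 1) (hap : a ^ p = 1)
    (h : (adjH k α).map proj ≤ Subgroup.normalizer (tor a : Set (Matrix.ProjectiveSpecialLinearGroup (Fin 2) L))) :
    False := by
  have hu : proj (up (1 : L)) ∈ tor a := by
    refine mem_uni_tor p ha hap (h (Subgroup.mem_map_of_mem _ ?_)) ?_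
    · have := up_mem α (1 : k); rwa [map_one] at this
    · rw [← map_pow, up_pow, CharP.cast_eq_zero, zero_mul, up_zero, map_one]
  have hl : proj (low α) ∈ tor a := by
    refine mem_uni_tor p ha hap (h (Subgroup.mem_map_of_mem _ ?_)) ?_
    · have := low_mem α (1 : k); rwa [map_one, one_mul] at this
    · rw [← map_pow, low_pow, CharP.cast_eq_zero, zero_mul, low_zero, map_one]
  have hc := ((pslData (F := L) p).comm ha hu hl).eq
  rw [← map_mul, ← map_mul] at hc
  rcases proj_eq_iff.mp hc with e | e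
  · have := congrFun (congrFun (congrArg Subtype.val e) 0) 0
    simp [Matrix.SpecialLinearGroup.coe_mul, coe_up, coe_low, Matrix.mul_apply, Fin.sum_univ_two] at this
    exact hα this
  · have := congrFun (congrFun (congrArg Subtype.val e) 0) 1
    simp [Matrix.SpecialLinearGroup.coe_mul, Matrix.SpecialLinearGroup.coe_neg, coe_up, coe_low,
      Matrix.mul_apply, Fin.sum_univ_two] at this
    exact h2 (by linear_combination this)

/-- The squared traces of the elements of a subgroup of subfield type lie in the subfield. -/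
theorem sq_tr_mem {K : Subfield L} {P : GL (Fin 2) L} {y : SL₂}
    (h : toP y ∈ ((pglMap K.subtype).range).map (MulAut.conj (Matrix.ProjGenLinGroup.mk P)).toMonoidHom) :
    tr y ^ 2 ∈ K := by
  obtain ⟨_, ⟨m, rfl⟩, hm⟩ := h
  induction m using Matrix.ProjGenLinGroup.induction_on with | mk M => ?_
  change Matrix.ProjGenLinGroup.mk P * pglMap K.subtype (Matrix.ProjGenLinGroup.mk M) *
    (Matrix.ProjGenLinGroup.mk P)⁻¹ = Matrix.ProjGenLinGroup.mk _ at hm
  rw [pglMap_mk, ← map_inv, ← map_mul, ← map_mul, Matrix.ProjGenLinGroup.mk_eq_mk_iff] at hm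
  obtain ⟨u, hu⟩ := hm
  obtain ⟨X, hX⟩ : ∃ X : Matrix (Fin 2) (Fin 2) L, X = (M : Matrix (Fin 2) (Fin 2) K).map K.subtype := ⟨_, rfl⟩
  have hXu : IsUnit (P : Matrix (Fin 2) (Fin 2) L) := P.isUnit
  have hP : ((P : Matrix (Fin 2) (Fin 2) L) * X * ((P⁻¹ : GL (Fin 2) L) : Matrix (Fin 2) (Fin 2) L)).det = X.det ∧
      ((P : Matrix (Fin 2) (Fin 2) L) * X * ((P⁻¹ : GL (Fin 2) L) : Matrix (Fin 2) (Fin 2) L)).trace = X.trace :=
    ⟨Matrix.det_units_conj P X, Matrix.trace_units_conj P X⟩
  have hu' : (u : L) • ((P : Matrix (Fin 2) (Fin 2) L) * X * ((P⁻¹ : GL (Fin 2) L) : Matrix (Fin 2) (Fin 2) L)) =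
      (y : Matrix (Fin 2) (Fin 2) L) := by
    have := congrArg (fun z : GL (Fin 2) L => (z : Matrix (Fin 2) (Fin 2) L)) hu
    rw [hX]
    simpa [← Matrix.op_smul_eq_mul_diagonal] using this
  have hd := congrArg Matrix.det hu'
  have ht := congrArg Matrix.trace hu'
  rw [Matrix.det_smul, hP.1, Fintype.card_fin, y.2] at hd
  rw [Matrix.trace_smul, hP.2, smul_eq_mul] at ht
  have hd0 : X.det ≠ 0 := fun e => by rw [e, mul_zero] at hd; exact zero_ne_one hd
  have htr : tr y = (u : L) * X.trace := by rw [ht, tr, Matrix.trace_fin_two]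
  have he : tr y ^ 2 = X.trace ^ 2 / X.det := by
    rw [eq_div_iff hd0, htr]; linear_combination (X.trace ^ 2) * hd
  rw [he]
  refine K.div_mem (K.pow_mem ?_ 2) ?_
  · rw [hX, Matrix.trace_fin_two]; exact K.add_mem (Subtype.coe_prop _) (Subtype.coe_prop _)
  · rw [hX, Matrix.det_fin_two]
    exact K.sub_mem (K.mul_mem (Subtype.coe_prop _) (Subtype.coe_prop _))
      (K.mul_mem (Subtype.coe_prop _) (Subtype.coe_prop _))

theorem map_eq_top_of_subfield {α : L} (hα : α ≠ 0) (h2 : (2 : L) ≠ 0)
    (hgen : ∀ K : Subfield L, (∀ c : k, algebraMap k L c ∈ K) → α ∈ K → K = ⊤)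
    (h : SubfieldType ((adjH k α).map proj)) : (adjH k α).map proj = ⊤ := by
  classical
  haveI := finite_pgl (F := L)
  obtain ⟨K, P, -, hK⟩ := h
  have hle : ((adjH k α).map proj).map Matrix.ProjectiveSpecialLinearGroup.toPGL ≤
      ((pglMap K.subtype).range).map (MulAut.conj (Matrix.ProjGenLinGroup.mk P)).toMonoidHom := by
    rcases hK with hK | hK
    · exact hK.le
    · exact hK.le.trans (Subgroup.map_mono (pslImg_le _))
  have htr : ∀ y ∈ adjH k α, tr y ^ 2 ∈ K := fun y hy =>
    sq_tr_mem (hle (Subgroup.mem_map_of_mem _ (Subgroup.mem_map_of_mem _ hy)))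
  have hsq : ∀ c : k, (2 + algebraMap k L c * α) ^ 2 ∈ K := by
    intro c
    have h1 : up (1 : L) * low (algebraMap k L c * α) ∈ adjH k α := by
      have := up_mem α (1 : k); rw [map_one] at this
      exact mul_mem this (low_mem α c)
    have h2' := htr _ h1
    have e : tr (up (1 : L) * low (algebraMap k L c * α)) = 2 + algebraMap k L c * α := by
      simp [tr, Matrix.SpecialLinearGroup.coe_mul, coe_up, coe_low, Matrix.mul_apply, Fin.sum_univ_two]
      ring
    rwa [e] at h2'
  have hca : ∀ c : k, algebraMap k L c * α ∈ K := by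
    intro c
    have h8 : (8 : L) ∈ K := natCast_mem K 8
    have h80 : (8 : L) ≠ 0 := by
      rw [show (8 : L) = 2 * 2 * 2 by norm_num]; exact mul_ne_zero (mul_ne_zero h2 h2) h2
    have h := K.div_mem (K.sub_mem (hsq c) (hsq (-c))) h8
    convert h using 1
    rw [map_neg, eq_div_iff h80]; ring
  have hα' : α ∈ K := by have := hca 1; rwa [map_one, one_mul] at this
  have hKtop : K = ⊤ := hgen K (fun c => by
    have := K.div_mem (hca c) hα'
    rwa [mul_div_assoc, div_self hα, mul_one] at this) hα'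
  refine Subgroup.eq_top_of_le_card _ ?_
  have h1 : Nat.card (((adjH k α).map proj).map Matrix.ProjectiveSpecialLinearGroup.toPGL) =
      Nat.card ((adjH k α).map proj : Subgroup (Matrix.ProjectiveSpecialLinearGroup (Fin 2) L)) :=
    Subgroup.card_map_of_injective Matrix.ProjectiveSpecialLinearGroup.toPGL_injective
  have h2'' : (pslImg K.subtype).map (MulAut.conj (Matrix.ProjGenLinGroup.mk P)).toMonoidHom ≤
      ((adjH k α).map proj).map Matrix.ProjectiveSpecialLinearGroup.toPGL := by
    rcases hK with hK | hK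
    · rw [hK]; exact Subgroup.map_mono (pslImg_le _)
    · rw [hK]
  have h3 := Subgroup.card_le_of_le h2''
  rw [h1, Subgroup.card_map_of_injective (MulEquiv.injective _)] at h3
  subst hKtop
  obtain ⟨e1⟩ := nonempty_pslImg (⊤ : Subfield L).subtype
  obtain ⟨e2⟩ := nonempty_psl_congr (Subfield.topEquiv : (⊤ : Subfield L) ≃+* L)
  rw [Nat.card_congr (e1.trans e2).toEquiv] at h3
  exact h3

/-- For a finite ground field other than the field of three elements the subgroup is everything. -/
theorem adjH_eq_top_of_finite [Finite k] {α : L} (hα : α ≠ 0) (hodd : p ≠ 2) (hk3 : Nat.card k ≠ 3)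
    (hgen : ∀ K : Subfield L, (∀ c : k, algebraMap k L c ∈ K) → α ∈ K → K = ⊤) : adjH k α = ⊤ := by
  classical
  haveI := Fintype.ofFinite k
  haveI : CharP k p := (algebraMap k L).charP (algebraMap k L).injective p
  have h2 : (2 : L) ≠ 0 := two_ne_zero' (p := p) hodd
  have hu1 : up (1 : L) ∈ adjH k α := by
    have := up_mem α (1 : k); rwa [map_one] at this
  have hu2 : up (2 : L) ∈ adjH k α := by
    have := up_mem α (2 : k); rwa [map_ofNat] at this
  have hord : p ∣ Nat.card ((adjH k α).map proj : Subgroup _) := by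
    have h1 : proj (up (1 : L)) ≠ 1 := fun e => up_one_not_scalar (proj_one_iff.mp e)
    have h2' : proj (up (1 : L)) ^ p = 1 := by
      rw [← map_pow, up_pow, CharP.cast_eq_zero, zero_mul, up_zero, map_one]
    rw [← orderOf_eq_prime h2' h1]
    exact Subgroup.orderOf_dvd_natCard _ (Subgroup.mem_map_of_mem _ hu1)
  -- nine divides the order when the characteristic is three
  have hnine : p = 3 → 9 ∣ Nat.card ((adjH k α).map proj : Subgroup _) := by
    intro h3
    obtain ⟨f, hf, hfk⟩ := FiniteField.card k p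
    let ψ : Multiplicative k →* Matrix.ProjectiveSpecialLinearGroup (Fin 2) L :=
      { toFun := fun c => proj (up (algebraMap k L c.toAdd))
        map_one' := by simp [up_zero]
        map_mul' := fun c d => by rw [← map_mul, up_mul, toAdd_mul, map_add] }
    have hψ : Function.Injective ψ := by
      intro c d h
      rcases proj_eq_iff.mp h with e | e
      · exact Multiplicative.toAdd.injective ((algebraMap k L).injective (eq_of_up_eq (Or.inl e)).symm)
      · exact Multiplicative.toAdd.injective ((algebraMap k L).injective (eq_of_up_eq (Or.inr e)).symm)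
    have hle : ψ.range ≤ (adjH k α).map proj := by
      rintro _ ⟨c, rfl⟩; exact Subgroup.mem_map_of_mem _ (up_mem α _)
    refine dvd_trans ?_ (Subgroup.card_dvd_of_le hle)
    rw [← Nat.card_congr (MonoidHom.ofInjective hψ).toEquiv,
      Nat.card_congr Multiplicative.toAdd, Nat.card_eq_fintype_card, hfk, h3]
    rcases Nat.lt_or_ge (f : ℕ) 2 with h | h
    · exfalso
      have hf1 : (f : ℕ) = 1 := by have := f.pos; omega
      rw [Nat.card_eq_fintype_card, hfk, hf1, h3] at hk3
      exact hk3 rfl
    · exact dvd_trans (by norm_num) (pow_dvd_pow 3 h)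
  have htop : (adjH k α).map proj = ⊤ := by
    rcases dickson p ((adjH k α).map proj) with h | ⟨a, -, ha, hap, h⟩ | ⟨a, -, ha, hap, hidx, h, -⟩ |
      ⟨a, -, ha, hap, h⟩ | ⟨hc, -, h⟩ | ⟨hc, -, h⟩ | ⟨hc, -, h⟩ | h
    · exact absurd (Subgroup.mem_bot.mp (h ▸ Subgroup.mem_map_of_mem _ hu1))
        (fun e => up_one_not_scalar (proj_one_iff.mp e))
    · exact absurd (h (Subgroup.mem_map_of_mem _ hu1)) (not_uni_le_semi p ha hap one_ne_zero)
    · refine absurd ?_ (not_uni_le_semi p (s := (1 : L) + 1) ha hap (by rw [one_add_one_eq_two]; exact h2))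
      have := Subgroup.mul_self_mem_of_index_two hidx ⟨proj (up (1 : L)), Subgroup.mem_map_of_mem _ hu1⟩
      rw [Subgroup.mem_subgroupOf, Subgroup.coe_mul, ← map_mul, up_mul] at this
      exact this
    · exact (adjH_map_not_borel p hα h2 ha hap h).elim
    · rcases h with h | h
      · exact absurd hord h
      · have := hnine h; rw [hc] at this; norm_num at this
    · exact absurd hord h
    · rcases h with h | h
      · exact absurd hord h
      · have := hnine h; rw [hc] at this; norm_num at this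
    · exact map_eq_top_of_subfield hα h2 hgen h
  have hpow : ∀ g : SL₂, g ^ p = 1 → g ∈ adjH k α := by
    intro g hg
    obtain ⟨y, hy, e⟩ := Subgroup.mem_map.mp (htop ▸ Subgroup.mem_top (proj g))
    rcases proj_eq_iff.mp e with e | e
    · rw [e]; exact hy
    · have h1 : (-1 : SL₂) ∈ adjH k α := by
        have hyp : y ^ p = -1 := by
          have : y = -g := by rw [e, neg_neg]
          rw [this, neg_pow, hg, mul_one, (hp.out.eq_two_or_odd'.resolve_left hodd).neg_one_pow]
        exact hyp ▸ pow_mem hy p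
      rw [e, ← neg_one_mul]; exact mul_mem h1 hy
  exact eq_top_of_up_low
    (fun t => hpow _ (by rw [up_pow, CharP.cast_eq_zero, zero_mul, up_zero]))
    (fun t => hpow _ (by rw [low_pow, CharP.cast_eq_zero, zero_mul, low_zero]))

end Cfsg.Agent.Fus.AdjoinSL
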