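import Mathlib
import Cfsg.Agent.Lib.Fus.TransvectionRoot
import Cfsg.Agent.Lib.Classical.Transvection

/-!
The point-hyperplane transvection groups of `SL_n`, `n ≥ 3`, and root involutions in characteristic
two.
-/

set_option autoImplicit false

namespace Cfsg.Agent.Fus.SLRoot

open Matrix

variable {F : Type*} [Field F] {n : ℕ}

local notation "N" => Fin (n + 3)
local notation "SLn" => Matrix.SpecialLinearGroup (Fin (n + 3)) F

/-- The inclusion of `SL_n` in the matrices. -/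
def incl : SLn →* Matrix N N F where
  toFun g := g
  map_one' := rfl
  map_mul' _ _ := rfl

theorem incl_injective : Function.Injective (incl (F := F) (n := n)) :=
  fun _ _ h => Subtype.ext h

theorem det_mat {v φ : N → F} (h : φ ⬝ᵥ v = 0) (c : F) : (TV.mat v φ c).det = 1 := by
  rw [TV.mat, ← Matrix.smul_vecMulVec, Matrix.vecMulVec_eq (Fin 1),
    Matrix.det_one_add_replicateCol_mul_replicateRow, dotProduct_smul, h, smul_zero, add_zero]

/-- The transvection with given centre and axis in `SL_n`. -/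
def tv {v φ : N → F} (h : φ ⬝ᵥ v = 0) (c : F) : SLn := ⟨TV.mat v φ c, det_mat h c⟩

theorem isLine {v φ : N → F} (hv : v ≠ 0) (hφ : φ ≠ 0) (h : φ ⬝ᵥ v = 0) :
    TV.IsLine incl v φ := ⟨hv, hφ, h, fun c => ⟨tv h c, rfl⟩⟩

variable (F n) in
/-- All incident pairs of a centre and an axis. -/
def incidentPairs : Set ((N → F) × (N → F)) := {p | p.1 ≠ 0 ∧ p.2 ≠ 0 ∧ p.2 ⬝ᵥ p.1 = 0}

theorem conj_mem {A : Subgroup SLn} (hA : A ∈ TV.family incl (incidentPairs F n)) (g : SLn) :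
    Cfsg.conjBy A g ∈ TV.family incl (incidentPairs F n) := by
  obtain ⟨⟨v, φ⟩, ⟨hv, hφ, h⟩, rfl⟩ := hA
  have hgg : (g⁻¹ : SLn).1 * g.1 = 1 := by
    rw [← Matrix.SpecialLinearGroup.coe_mul, inv_mul_cancel, Matrix.SpecialLinearGroup.coe_one]
  have hgg' : g.1 * (g⁻¹ : SLn).1 = 1 := by
    rw [← Matrix.SpecialLinearGroup.coe_mul, mul_inv_cancel, Matrix.SpecialLinearGroup.coe_one]
  refine ⟨(g.1 *ᵥ v, φ ᵥ* (g⁻¹ : SLn).1), ⟨fun e => hv ?_, fun e => hφ ?_, ?_⟩,
    TV.conjBy_root incl incl_injective h g⟩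
  · have := congrArg ((g⁻¹ : SLn).1 *ᵥ ·) e
    simpa only [Matrix.mulVec_mulVec, hgg, Matrix.one_mulVec, Matrix.mulVec_zero] using this
  · have := congrArg (· ᵥ* g.1) e
    simpa only [Matrix.vecMul_vecMul, hgg, Matrix.vecMul_one, Matrix.zero_vecMul] using this
  · show (φ ᵥ* (g⁻¹ : SLn).1) ⬝ᵥ (g.1 *ᵥ v) = 0
    rw [Matrix.dotProduct_mulVec, Matrix.vecMul_vecMul, hgg, Matrix.vecMul_one, h]

theorem transvection_eq (i j : N) (c : F) :
    Matrix.transvection i j c = TV.mat (Pi.single i 1) (Pi.single j 1) c := by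
  ext a b
  rw [Matrix.transvection, TV.mat, Matrix.add_apply, Matrix.add_apply, Matrix.smul_apply,
    Matrix.vecMulVec_apply]
  congr 1
  by_cases ha : i = a <;> by_cases hb : j = b <;>
    simp [Matrix.single_apply, Pi.single_apply, ha, hb, eq_comm]

theorem single_incident {i j : N} (h : i ≠ j) :
    ((Pi.single i 1, Pi.single j 1) : (N → F) × (N → F)) ∈ incidentPairs F n := by
  refine ⟨fun e => ?_, fun e => ?_, ?_⟩
  · have := congrFun e i; simp at this
  · have := congrFun e j; simp at this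
  · simp [h]

theorem isRootSubgroupSet : Cfsg.IsRootSubgroupSet (TV.family incl (incidentPairs F n)) := by
  refine TV.isRootSubgroupSet incl incl_injective (fun p hp => isLine hp.1 hp.2.1 hp.2.2)
    (fun p hp q hq hα _ => ⟨(q.1, p.2), ⟨hq.1, hp.2.1, hα⟩, rfl⟩) ?_ fun A hA g => conj_mem hA g
  rw [eq_top_iff, ← Classical.SL_closure_transvections, Subgroup.closure_le]
  rintro _ ⟨⟨i, j, hij, c⟩, rfl⟩
  have hp := single_incident (F := F) hij
  refine le_iSup₂ (f := fun A (_ : A ∈ TV.family incl (incidentPairs F n)) => A) _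
    ⟨_, hp, rfl⟩ ((TV.mem_root incl incl_injective hp.2.2).2 ⟨c, ?_⟩)
  show (Matrix.TransvectionStruct.toSpecialLinearGroup ⟨i, j, hij, c⟩ : SLn).1 = _
  rw [← transvection_eq]
  simp [Matrix.TransvectionStruct.toSpecialLinearGroup, Matrix.SpecialLinearGroup.transvection_coe,
    Matrix.transvection]

/-- The generating transvection group of the statements. -/
def base : Subgroup SLn :=
  Subgroup.closure {t : SLn | ∃ c : F, (t : Matrix N N F) = Matrix.transvection 0 1 c}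

theorem base_eq : base (F := F) (n := n) = TV.root incl (Pi.single 0 1) (Pi.single 1 1) := by
  rw [base, TV.root]
  congr 1
  ext t
  simp only [Set.mem_setOf_eq, transvection_eq]
  rfl

/-- All the transvection groups are conjugate. -/
theorem exists_conj {v φ : N → F} (hv : v ≠ 0) (hφ : φ ≠ 0) (h : φ ⬝ᵥ v = 0) :
    ∃ g : SLn, TV.root incl v φ =
      Cfsg.conjBy (TV.root incl (Pi.single 1 1) (Pi.single 0 1)) g := by
  have ht : Cfsg.IsTransvection (tv h (1 : F)).1 := by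
    have he : (tv h (1 : F)).1 - 1 = Matrix.vecMulVec v φ := by
      show TV.mat v φ 1 - 1 = _
      rw [TV.mat, one_smul, add_sub_cancel_left]
    refine ⟨?_, ?_⟩
    · rw [he]
      refine le_antisymm (Matrix.rank_vecMulVec_le _ _) (Nat.one_le_iff_ne_zero.2 fun e => ?_)
      rw [Matrix.rank, Submodule.finrank_eq_zero, LinearMap.range_eq_bot] at e
      obtain ⟨i, hi⟩ := Function.ne_iff.1 hv
      obtain ⟨j, hj⟩ := Function.ne_iff.1 hφ
      have := congrFun (LinearMap.congr_fun e (Pi.single j 1)) i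
      simp [Matrix.vecMulVec_apply] at this
      exact (mul_ne_zero hi hj) (by simp [this])
    · rw [he, TV.vec_mul_vec, h, zero_smul]
  obtain ⟨g, hg⟩ := Classical.exists_sl_conj_std (tv h (1 : F)) ht
  have hgg : (g⁻¹ : SLn).1 * g.1 = 1 := by
    rw [← Matrix.SpecialLinearGroup.coe_mul, inv_mul_cancel, Matrix.SpecialLinearGroup.coe_one]
  have hgg' : g.1 * (g⁻¹ : SLn).1 = 1 := by
    rw [← Matrix.SpecialLinearGroup.coe_mul, mul_inv_cancel, Matrix.SpecialLinearGroup.coe_one]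
  refine ⟨g, ?_⟩
  rw [TV.conjBy_root incl incl_injective (single_incident (F := F) (i := (1 : N)) (j := 0)
    (by simp)).2.2 g]
  have hkey : Matrix.vecMulVec v φ =
      Matrix.vecMulVec (g.1 *ᵥ Pi.single 1 1) ((Pi.single 0 1 : N → F) ᵥ* (g⁻¹ : SLn).1) := by
    rw [Matrix.SpecialLinearGroup.coe_mul, Matrix.SpecialLinearGroup.coe_mul,
      show (tv h (1 : F)).1 = 1 + (1 : F) • Matrix.vecMulVec v φ from rfl, one_smul, mul_add,
      add_mul, mul_one, hgg, add_right_inj] at hg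
    rw [← Classical.vecMulVec_conj, ← hg]
    simp only [mul_assoc, hgg', mul_one]
    rw [← mul_assoc, hgg', one_mul]
  simp only [TV.root, TV.mat]
  show Subgroup.closure _ = Subgroup.closure _
  rw [show incl g = g.1 from rfl, show incl g⁻¹ = (g⁻¹ : SLn).1 from rfl, ← hkey]

theorem setOf_conj_eq : {A : Subgroup SLn | ∃ g : SLn, A = Cfsg.conjBy base g} =
    TV.family incl (incidentPairs F n) := by
  ext A
  constructor
  · rintro ⟨g, rfl⟩
    exact conj_mem ⟨_, single_incident (F := F) (by simp : (0 : N) ≠ 1), base_eq⟩ g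
  · rintro ⟨⟨v, φ⟩, ⟨hv, hφ, h⟩, rfl⟩
    obtain ⟨g, hg⟩ := exists_conj hv hφ h
    have h01 := single_incident (F := F) (by simp : (0 : N) ≠ 1)
    obtain ⟨k, hk⟩ := exists_conj h01.1 h01.2.1 h01.2.2
    refine ⟨g * k⁻¹, ?_⟩
    rw [base_eq, hk, conjBy_conjBy, inv_mul_cancel_right]
    exact hg

theorem exists_common {p q : (N → F) × (N → F)} (hp : p ∈ incidentPairs F n)
    (hq : q ∈ incidentPairs F n) : ∃ r ∈ incidentPairs F n, p.2 ⬝ᵥ r.1 ≠ 0 ∧ r.2 ⬝ᵥ p.1 ≠ 0 ∧
      q.2 ⬝ᵥ r.1 ≠ 0 ∧ r.2 ⬝ᵥ q.1 ≠ 0 := by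
  obtain ⟨u, hu1, hu2⟩ := TV.exists_both_ne_zero (dotProductBilin F F p.2) (dotProductBilin F F q.2)
    (fun e => hp.2.1 (dotProduct_eq_zero _ fun x => LinearMap.congr_fun e x))
    (fun e => hq.2.1 (dotProduct_eq_zero _ fun x => LinearMap.congr_fun e x))
  change p.2 ⬝ᵥ u ≠ 0 at hu1
  change q.2 ⬝ᵥ u ≠ 0 at hu2
  have hu : u ≠ 0 := fun e => hu1 (by rw [e, dotProduct_zero])
  let S : Submodule F (N → F) := LinearMap.ker (dotProductBilin F F u)
  have hne : ∀ x : N → F, x ≠ 0 → (∀ a : F, x ≠ a • u) →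
      (dotProductBilin F F x).comp S.subtype ≠ 0 := by
    intro x hx hxu e
    obtain ⟨i, hi⟩ := Function.ne_iff.1 hu
    obtain ⟨ξ, hξ⟩ : ∃ ξ : N → F, u ⬝ᵥ ξ = 1 :=
      ⟨Pi.single i (u i)⁻¹, by simp [mul_inv_cancel₀ hi]⟩
    refine hxu (x ⬝ᵥ ξ) (eq_of_sub_eq_zero (dotProduct_eq_zero _ fun y => ?_))
    have hy : y - (u ⬝ᵥ y) • ξ ∈ S := by
      simp [S, dotProductBilin, dotProduct_sub, dotProduct_smul, hξ]
    have := LinearMap.congr_fun e ⟨_, hy⟩
    simp [dotProductBilin, dotProduct_sub, dotProduct_smul] at this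
    rw [sub_dotProduct, smul_dotProduct, smul_eq_mul]
    linear_combination this
  obtain ⟨⟨χ, hχ⟩, hc1, hc2⟩ := TV.exists_both_ne_zero ((dotProductBilin F F p.1).comp S.subtype)
    ((dotProductBilin F F q.1).comp S.subtype)
    (hne p.1 hp.1 fun a e => hu1 (by
      have := hp.2.2
      rw [e, dotProduct_smul, smul_eq_mul, mul_eq_zero] at this
      exact this.resolve_left fun h => hp.1 (by rw [e, h, zero_smul])))
    (hne q.1 hq.1 fun a e => hu2 (by
      have := hq.2.2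
      rw [e, dotProduct_smul, smul_eq_mul, mul_eq_zero] at this
      exact this.resolve_left fun h => hq.1 (by rw [e, h, zero_smul])))
  change p.1 ⬝ᵥ χ ≠ 0 at hc1
  change q.1 ⬝ᵥ χ ≠ 0 at hc2
  refine ⟨(u, χ), ⟨hu, fun e => hc1 (by rw [show χ = 0 from e, dotProduct_zero]), ?_⟩,
    hu1, ?_, hu2, ?_⟩
  · rw [dotProduct_comm]; exact hχ
  · rw [dotProduct_comm]; exact hc1
  · rw [dotProduct_comm]; exact hc2

theorem connected :
    Cfsg.IsConnectedFamily (Cfsg.FAdj (TV.family (incl (F := F)) (incidentPairs F n)))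
      (TV.family incl (incidentPairs F n)) := by
  rintro A ⟨p, hp, rfl⟩ B ⟨q, hq, rfl⟩
  obtain ⟨r, hr, h1, h2, h3, h4⟩ := exists_common hp hq
  have hl : ∀ x ∈ incidentPairs F n, TV.IsLine incl x.1 x.2 :=
    fun x hx => isLine hx.1 hx.2.1 hx.2.2
  exact (Relation.ReflTransGen.single ⟨⟨p, hp, rfl⟩, ⟨r, hr, rfl⟩,
      (TV.rankOne_pair incl incl_injective (hl p hp) (hl r hr) h1 h2).1⟩).tail
    ⟨⟨r, hr, rfl⟩, ⟨q, hq, rfl⟩,
      (TV.rankOne_pair incl incl_injective (hl r hr) (hl q hq) h4 h3).1⟩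

theorem nondegenerate :
    Cfsg.IsNondegenerateRootSet (TV.family (incl (F := F)) (incidentPairs F n)) := by
  have h01 : (0 : N) ≠ 1 := by simp
  have h02 : (0 : N) ≠ 2 := by simp [Fin.ext_iff, Nat.mod_eq_of_lt (show 2 < n + 3 by omega)]
  have h12 : (1 : N) ≠ 2 := by simp [Fin.ext_iff, Nat.mod_eq_of_lt (show 2 < n + 3 by omega)]
  have p01 := single_incident (F := F) h01
  have p02 := single_incident (F := F) h02
  have p10 := single_incident (F := F) h01.symm
  have p12 := single_incident (F := F) h12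
  refine ⟨⟨_, ⟨_, p01, rfl⟩, _, ⟨_, p02, rfl⟩, ?_, ?_⟩,
    ⟨_, ⟨_, p01, rfl⟩, _, ⟨_, p10, rfl⟩, ?_⟩, ⟨_, ⟨_, p02, rfl⟩, _, ⟨_, p10, rfl⟩, ?_⟩⟩
  · intro e
    have hmem := (TV.mem_root incl incl_injective p02.2.2).1
      (e ▸ (TV.mem_root incl incl_injective p01.2.2).2 ⟨(1 : F), rfl⟩ :
        tv p01.2.2 (1 : F) ∈ TV.root incl (Pi.single (0 : N) (1 : F)) (Pi.single 2 1))
    obtain ⟨c, hc⟩ := hmem
    have := congrFun (congrFun hc 0) 1
    simp [incl, tv, TV.mat, Matrix.vecMulVec_apply, h12, h01] at this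
  · exact TV.commutator_eq_bot incl incl_injective p01.2.2 p02.2.2 (by simp [h01.symm])
      (by simp [h02.symm])
  · exact (TV.rankOne_pair incl incl_injective (isLine p01.1 p01.2.1 p01.2.2)
      (isLine p10.1 p10.2.1 p10.2.2) (by simp) (by simp)).1
  · exact TV.rootCommutatorCase incl incl_injective p02.2.2 p10.2.2 (by simp [h12.symm])
      (by simp) (fun c => ⟨tv p02.2.2 c, rfl⟩) (fun c => ⟨tv p10.2.2 c, rfl⟩) ⟨_, p12, rfl⟩

end Cfsg.Agent.Fus.SLRoot
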