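import Mathlib
import Cfsg.Agent.Lib.Fus.SLRootGroups

/-!
Transvections in characteristic two are root involutions.
-/

set_option autoImplicit false

namespace Cfsg.Agent.Fus.SLRoot

open Matrix

variable {F : Type*} [Field F] [CharP F 2] {n : ℕ}

/-- An involution of `SL₂` in characteristic two commutes only with matrices of trace zero. -/
theorem trace_eq_zero_of_commute_involution (z x : Matrix.SpecialLinearGroup (Fin 2) F)
    (hz : z * z = 1) (hz1 : z ≠ 1) (h : z * x = x * z) : x.1 0 0 = x.1 1 1 := by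
  have h2 : (2 : F) = 0 := CharTwo.two_eq_zero
  have e00 : z.1 0 0 * z.1 0 0 + z.1 0 1 * z.1 1 0 = 1 := by
    simpa [Matrix.mul_apply, Fin.sum_univ_two] using
      congrFun (congrFun (congrArg Subtype.val hz) 0) 0
  have hdet : z.1 0 0 * z.1 1 1 - z.1 0 1 * z.1 1 0 = 1 := by
    have := z.2
    rwa [Matrix.det_fin_two] at this
  have hd : z.1 0 0 = z.1 1 1 := by
    have e01 : z.1 0 0 * z.1 0 1 + z.1 0 1 * z.1 1 1 = 0 := by
      simpa [Matrix.mul_apply, Fin.sum_univ_two] using
        congrFun (congrFun (congrArg Subtype.val hz) 0) 1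
    by_cases hb : z.1 0 1 = 0
    · rw [hb] at e00 hdet
      have ha : z.1 0 0 ≠ 0 := fun e => by rw [e] at e00; simp at e00
      exact mul_left_cancel₀ ha (by linear_combination e00 - hdet)
    · have : z.1 0 1 * (z.1 0 0 + z.1 1 1) = 0 := by linear_combination e01
      exact CharTwo.add_eq_zero.1 ((mul_eq_zero.1 this).resolve_left hb)
  have k00 : z.1 0 1 * x.1 1 0 = z.1 1 0 * x.1 0 1 := by
    have := congrFun (congrFun (congrArg Subtype.val h) 0) 0
    simp [Matrix.mul_apply, Fin.sum_univ_two] at this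
    linear_combination this
  have k01 : z.1 0 1 * (x.1 1 1 - x.1 0 0) = 0 := by
    have := congrFun (congrFun (congrArg Subtype.val h) 0) 1
    simp [Matrix.mul_apply, Fin.sum_univ_two] at this
    linear_combination this + x.1 0 1 * (z.1 1 1) - x.1 0 1 * z.1 1 1 - x.1 0 1 * hd
  have k10 : z.1 1 0 * (x.1 0 0 - x.1 1 1) = 0 := by
    have := congrFun (congrFun (congrArg Subtype.val h) 1) 0
    simp [Matrix.mul_apply, Fin.sum_univ_two] at this
    linear_combination this + x.1 1 0 * hd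
  rcases mul_eq_zero.1 k01 with hb | hb
  · rcases mul_eq_zero.1 k10 with hc | hc
    · refine absurd ?_ hz1
      rw [hb, hc] at e00
      have ha : z.1 0 0 = 1 := by
        have : (z.1 0 0 - 1) ^ 2 = 0 := by linear_combination e00 + h2 * (1 - z.1 0 0)
        exact sub_eq_zero.1 (pow_eq_zero_iff two_ne_zero |>.1 this)
      refine Subtype.ext ?_
      ext i j
      fin_cases i <;> fin_cases j <;> simp [ha, hb, hc, ← hd]
    · exact sub_eq_zero.1 hc
  · exact (sub_eq_zero.1 hb).symm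

theorem odd_orderOf_of_trace_ne [Finite F] (x : Matrix.SpecialLinearGroup (Fin 2) F)
    (hx : x.1 0 0 ≠ x.1 1 1) : Odd (orderOf x) := by
  by_contra hodd
  rw [Nat.not_odd_iff_even] at hodd
  obtain ⟨k, hk⟩ := hodd
  have hpos := orderOf_pos x
  refine hx (trace_eq_zero_of_commute_involution (x ^ k) x ?_ (fun e => ?_) ?_)
  · rw [← pow_add, ← hk, pow_orderOf_eq_one]
  · have := orderOf_le_of_pow_eq_one (by omega) e
    omega
  · rw [← pow_succ, ← pow_succ']

variable (F n) in
/-- The transvections. -/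
def transvections : Set (Matrix.SpecialLinearGroup (Fin (n + 3)) F) :=
  {t | ∃ p ∈ incidentPairs F n, ∃ c : F, c ≠ 0 ∧ t.1 = TV.mat p.1 p.2 c}

local notation "N" => Fin (n + 3)
local notation "SLn" => Matrix.SpecialLinearGroup (Fin (n + 3)) F

theorem setOf_transvection_eq : {t : SLn | ∃ c : F, c ≠ 0 ∧ ∃ g : SLn,
    ((g⁻¹ * t * g : SLn) : Matrix N N F) = Matrix.transvection 0 1 c} = transvections F n := by
  have h01 := single_incident (F := F) (by simp : (0 : N) ≠ 1)
  ext t
  constructor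
  · rintro ⟨c, hc, g, hg⟩
    have hconj := conj_mem ⟨_, h01, rfl⟩ g
    obtain ⟨p, hp, hpe⟩ := hconj
    have hmem : t ∈ Cfsg.conjBy (TV.root (incl (F := F)) (Pi.single (0 : N) (1 : F))
        (Pi.single 1 1)) g := by
      rw [Cfsg.Agent.Fus.mem_conjBy]
      exact (TV.mem_root incl incl_injective h01.2.2).2 ⟨c, by rw [← transvection_eq]; exact hg⟩
    rw [hpe] at hmem
    obtain ⟨d, hd⟩ := (TV.mem_root incl incl_injective hp.2.2).1 hmem
    refine ⟨p, hp, d, fun e => hc ?_, hd⟩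
    have ht : t = 1 := incl_injective (by rw [hd, e, TV.mat_zero, map_one])
    rw [ht, mul_one, inv_mul_cancel, Matrix.SpecialLinearGroup.coe_one, transvection_eq,
      ← TV.mat_zero (Pi.single (0 : N) (1 : F)) (Pi.single 1 1)] at hg
    exact (TV.mat_injective h01.1 h01.2.1 hg).symm
  · rintro ⟨⟨v, φ⟩, ⟨hv, hφ, h⟩, c, hc, ht⟩
    have hmem : t ∈ TV.root (incl (F := F)) v φ :=
      (TV.mem_root incl incl_injective h).2 ⟨c, ht⟩
    have hA : TV.root (incl (F := F)) v φ ∈ TV.family incl (incidentPairs F n) :=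
      ⟨(v, φ), ⟨hv, hφ, h⟩, rfl⟩
    rw [← setOf_conj_eq] at hA
    obtain ⟨g, hg⟩ := hA
    rw [hg, Cfsg.Agent.Fus.mem_conjBy, base_eq, TV.mem_root incl incl_injective h01.2.2] at hmem
    obtain ⟨d, hd⟩ := hmem
    refine ⟨d, fun e => hc ?_, g, by rw [transvection_eq]; exact hd⟩
    have ht1 : t = 1 := by
      have : g⁻¹ * t * g = 1 := incl_injective (by rw [hd, e, TV.mat_zero, map_one])
      calc t = g * (g⁻¹ * t * g) * g⁻¹ := by group
        _ = 1 := by rw [this]; group
    rw [ht1, Matrix.SpecialLinearGroup.coe_one, ← TV.mat_zero v φ] at ht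
    exact (TV.mat_injective hv hφ ht).symm

theorem orderOf_transvection {t : SLn} (ht : t ∈ transvections F n) : orderOf t = 2 := by
  obtain ⟨p, ⟨hv, hφ, h⟩, c, hc, hte⟩ := ht
  haveI : Fact (Nat.Prime 2) := ⟨Nat.prime_two⟩
  refine orderOf_eq_prime (incl_injective ?_) fun e => hc ?_
  · rw [pow_two, map_mul, map_one]
    show t.1 * t.1 = 1
    rw [hte, TV.mat_mul h, CharTwo.add_self_eq_zero, TV.mat_zero]
  · rw [e, Matrix.SpecialLinearGroup.coe_one, ← TV.mat_zero p.1 p.2] at hte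
    exact (TV.mat_injective hv hφ hte).symm

theorem sq_mem_of_half {p q : (N → F) × (N → F)} (hp : p ∈ incidentPairs F n)
    (hq : q ∈ incidentPairs F n) (hα : p.2 ⬝ᵥ q.1 = 0) (hβ : q.2 ⬝ᵥ p.1 ≠ 0) {c d : F}
    (hc : c ≠ 0) (hd : d ≠ 0) {s t : SLn} (hs : s.1 = TV.mat p.1 p.2 c)
    (ht : t.1 = TV.mat q.1 q.2 d) : (s * t) ^ 2 ∈ transvections F n := by
  refine ⟨(q.1, p.2), ⟨hq.1, hp.2.1, hα⟩, c * d * (q.2 ⬝ᵥ p.1),
    mul_ne_zero (mul_ne_zero hc hd) hβ, ?_⟩
  have hsi : s⁻¹ = s := inv_eq_of_mul_eq_one_right (by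
    have := pow_orderOf_eq_one s
    rwa [orderOf_transvection ⟨p, hp, c, hc, hs⟩, pow_two] at this)
  have hti : t⁻¹ = t := inv_eq_of_mul_eq_one_right (by
    have := pow_orderOf_eq_one t
    rwa [orderOf_transvection ⟨q, hq, d, hd, ht⟩, pow_two] at this)
  have he : (s * t) ^ 2 = s * t * s⁻¹ * t⁻¹ := by rw [hsi, hti, pow_two]; group
  rw [he]
  refine (TV.map_commutator incl hp.2.2 hq.2.2 hα hs ht).trans ?_
  rw [CharTwo.neg_eq]

theorem pair_transvection [Finite F] {p q : (N → F) × (N → F)} (hp : p ∈ incidentPairs F n)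
    (hq : q ∈ incidentPairs F n) {c d : F}
    (hc : c ≠ 0) (hd : d ≠ 0) {s t : SLn} (hs : s.1 = TV.mat p.1 p.2 c)
    (ht : t.1 = TV.mat q.1 q.2 d) :
    (s * t = t * s) ∨ (orderOf (s * t) = 4 ∧ (s * t) ^ 2 ∈ transvections F n) ∨
      (∃ x : Matrix.SpecialLinearGroup (Fin 2) F, orderOf (s * t) = orderOf x ∧ ∃ a b : F,
        a ≠ 0 ∧ b ≠ 0 ∧ x.1 = !![1 + a * b, a; b, 1]) := by
  have hsD : s ∈ transvections F n := ⟨p, hp, c, hc, hs⟩
  have htD : t ∈ transvections F n := ⟨q, hq, d, hd, ht⟩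
  have hfour : (s * t) ^ 2 ∈ transvections F n → orderOf (s * t) = 4 := fun hm => by
    haveI : Fact (Nat.Prime 2) := ⟨Nat.prime_two⟩
    refine orderOf_eq_prime_pow (p := 2) (n := 1) (fun e => ?_) ?_
    · rw [pow_one] at e
      have := orderOf_transvection hm
      rw [e, orderOf_one] at this
      omega
    · have := pow_orderOf_eq_one ((s * t) ^ 2)
      rwa [orderOf_transvection hm, ← pow_mul] at this
  by_cases hα : p.2 ⬝ᵥ q.1 = 0 <;> by_cases hβ : q.2 ⬝ᵥ p.1 = 0
  · left
    refine Subtype.ext ?_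
    show s.1 * t.1 = t.1 * s.1
    rw [hs, ht, TV.mat_commute hα hβ]
  · exact Or.inr (Or.inl ⟨hfour (sq_mem_of_half hp hq hα hβ hc hd hs ht),
      sq_mem_of_half hp hq hα hβ hc hd hs ht⟩)
  · have hm := sq_mem_of_half hq hp hβ hα hd hc ht hs
    have hm' : (s * t) ^ 2 ∈ transvections F n := by
      have hinv : (s * t) ^ 2 = ((t * s) ^ 2)⁻¹ := by
        have h1 : s⁻¹ = s := inv_eq_of_mul_eq_one_right (by
          have := pow_orderOf_eq_one s
          rwa [orderOf_transvection hsD, pow_two] at this)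
        have h2 : t⁻¹ = t := inv_eq_of_mul_eq_one_right (by
          have := pow_orderOf_eq_one t
          rwa [orderOf_transvection htD, pow_two] at this)
        rw [← inv_pow, _root_.mul_inv_rev, h1, h2]
      rw [hinv, inv_eq_of_mul_eq_one_right (a := (t * s) ^ 2) (b := (t * s) ^ 2) (by
        have := pow_orderOf_eq_one ((t * s) ^ 2)
        rwa [orderOf_transvection hm, pow_two] at this)]
      exact hm
    exact Or.inr (Or.inl ⟨hfour hm', hm'⟩)
  · refine Or.inr (Or.inr ?_)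
    obtain ⟨Φ, hΦ⟩ := TV.exists_block_hom incl incl_injective hp.2.2 hq.2.2 hα hβ
      (isLine hp.1 hp.2.1 hp.2.2).full (isLine hq.1 hq.2.1 hq.2.2).full
    have hinj : Function.Injective Φ := fun a b e =>
      TV.block_injective hp.2.2 hq.2.2 hα hβ (by rw [← hΦ, ← hΦ, e])
    let U : Matrix.SpecialLinearGroup (Fin 2) F :=
      ⟨!![1, c * (p.2 ⬝ᵥ q.1); 0, 1], by simp [Matrix.det_fin_two]⟩
    let L : Matrix.SpecialLinearGroup (Fin 2) F :=
      ⟨!![1, 0; d * (q.2 ⬝ᵥ p.1), 1], by simp [Matrix.det_fin_two]⟩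
    have hUs : Φ U = s := incl_injective (by
      refine ((hΦ _).trans (TV.block_upper hp.2.2 hq.2.2 hα hβ
        ⟨by simp [U], by simp [U], by simp [U]⟩)).trans ?_
      show TV.mat p.1 p.2 _ = s.1
      rw [hs]
      congr 1
      simp [U, hα])
    have hLt : Φ L = t := incl_injective (by
      refine ((hΦ _).trans (TV.block_lower hp.2.2 hq.2.2 hα hβ
        ⟨by simp [L], by simp [L], by simp [L]⟩)).trans ?_
      show TV.mat q.1 q.2 _ = t.1
      rw [ht]
      congr 1
      simp [L, hβ])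
    refine ⟨U * L, ?_, _, _, mul_ne_zero hc hα, mul_ne_zero hd hβ, ?_⟩
    · rw [← hUs, ← hLt, ← map_mul, orderOf_injective Φ hinj]
    · show U.1 * L.1 = _
      simp [U, L, Matrix.mul_fin_two]

theorem pow_three_eq_one {a b : F} (ha : a = 1) (hb : b = 1)
    {x : Matrix.SpecialLinearGroup (Fin 2) F} (hx : x.1 = !![1 + a * b, a; b, 1]) :
    x ^ 3 = 1 := by
  refine Subtype.ext ?_
  rw [Matrix.SpecialLinearGroup.coe_pow, hx, ha, hb, Matrix.SpecialLinearGroup.coe_one]
  ext i j
  fin_cases i <;> fin_cases j <;>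
    simp [pow_succ, Matrix.mul_apply, Fin.sum_univ_two, CharTwo.add_self_eq_zero]

theorem isRootInvolutionSet [Finite F] : Cfsg.IsRootInvolutionSet (transvections F n) where
  orderOf_eq _ h := orderOf_transvection h
  generates := by
    rw [eq_top_iff, ← Classical.SL_closure_transvections, Subgroup.closure_le]
    rintro _ ⟨⟨i, j, hij, c⟩, rfl⟩
    by_cases hc : c = 0
    · subst hc
      have : (Matrix.TransvectionStruct.toSpecialLinearGroup ⟨i, j, hij, 0⟩ : SLn) = 1 := by
        refine Subtype.ext ?_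
        simp [Matrix.TransvectionStruct.toSpecialLinearGroup,
          Matrix.SpecialLinearGroup.transvection_coe, Matrix.transvection]
      rw [this]
      exact one_mem _
    refine Subgroup.subset_closure ⟨_, single_incident (F := F) hij, c, hc, ?_⟩
    rw [← transvection_eq]
    simp [Matrix.TransvectionStruct.toSpecialLinearGroup,
      Matrix.SpecialLinearGroup.transvection_coe, Matrix.transvection]
  conj_mem := by
    intro t ht g
    rw [← setOf_transvection_eq] at ht ⊢
    obtain ⟨c, hc, k, hk⟩ := ht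
    exact ⟨c, hc, g * k, by rw [← hk]; congr 1; simp [mul_assoc]; rfl⟩
  pair := by
    rintro s ⟨p, hp, c, hc, hs⟩ t ⟨q, hq, d, hd, ht⟩
    rcases pair_transvection hp hq hc hd hs ht with h | h | ⟨x, hx, a, b, ha, hb, hxe⟩
    · exact Or.inl h
    · exact Or.inr (Or.inr h)
    · refine Or.inr (Or.inl (hx ▸ odd_orderOf_of_trace_ne x fun e => ?_))
      rw [hxe] at e
      simp [ha, hb] at e

theorem threeFourPlus [Fintype F] (hF : Fintype.card F = 2) :
    Cfsg.IsThreeFourPlusTranspositionSet (transvections F n) := by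
  refine ⟨isRootInvolutionSet, ?_⟩
  rintro s hsD t htD hodd
  obtain ⟨p, hp, c, hc, hs⟩ := hsD
  obtain ⟨q, hq, d, hd, ht⟩ := htD
  have h1 : ∀ a : F, a ≠ 0 → a = 1 := fun a ha => by
    simpa [hF] using FiniteField.pow_card_sub_one_eq_one a ha
  rcases pair_transvection hp hq hc hd hs ht with h | h | ⟨x, hx, a, b, ha, hb, hxe⟩
  · left
    have h2 : (s * t) ^ 2 = 1 := by
      rw [(show Commute s t from h).mul_pow]
      have e1 := pow_orderOf_eq_one s
      have e2 := pow_orderOf_eq_one t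
      rw [orderOf_transvection ⟨p, hp, c, hc, hs⟩] at e1
      rw [orderOf_transvection ⟨q, hq, d, hd, ht⟩] at e2
      rw [e1, e2, one_mul]
    rcases (Nat.dvd_prime Nat.prime_two).1 (orderOf_dvd_of_pow_eq_one h2) with e | e
    · exact e
    · rw [e] at hodd; exact absurd hodd (by decide)
  · rw [h.1] at hodd; exact absurd hodd (by decide)
  · rw [hx]
    exact (Nat.dvd_prime Nat.prime_three).1
      (orderOf_dvd_of_pow_eq_one (pow_three_eq_one (h1 a ha) (h1 b hb) hxe))

theorem exists_conj_std {t : SLn} (ht : t ∈ transvections F n) :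
    ∃ g : SLn, ((g⁻¹ * t * g : SLn) : Matrix N N F) =
      1 + Matrix.vecMulVec (Pi.single 1 1) (Pi.single 0 1) := by
  obtain ⟨⟨v, φ⟩, ⟨hv, hφ, h⟩, c, hc, hte⟩ := ht
  refine Classical.exists_sl_conj_std t ⟨?_, ?_⟩
  · rw [hte, TV.mat, add_sub_cancel_left, ← Matrix.smul_vecMulVec]
    refine le_antisymm (Matrix.rank_vecMulVec_le _ _) (Nat.one_le_iff_ne_zero.2 fun e => ?_)
    rw [Matrix.rank, Submodule.finrank_eq_zero, LinearMap.range_eq_bot] at e
    obtain ⟨i, hi⟩ := Function.ne_iff.1 (show c • v ≠ 0 from smul_ne_zero hc hv)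
    obtain ⟨j, hj⟩ := Function.ne_iff.1 hφ
    have := congrFun (LinearMap.congr_fun e (Pi.single j 1)) i
    simp [Matrix.vecMulVec_apply] at this
    exact (mul_ne_zero hi hj) (by rcases this with h' | h' | h' <;> simp [h'])
  · rw [hte, TV.mat, add_sub_cancel_left, smul_mul_assoc, mul_smul_comm, TV.vec_mul_vec, h,
      zero_smul, smul_zero, smul_zero]

theorem isConj {s t : SLn} (hs : s ∈ transvections F n) (ht : t ∈ transvections F n) :
    ∃ g : SLn, t = g * s * g⁻¹ := by
  obtain ⟨g, hg⟩ := exists_conj_std hs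
  obtain ⟨k, hk⟩ := exists_conj_std ht
  have : g⁻¹ * s * g = k⁻¹ * t * k := Subtype.ext (hg.trans hk.symm)
  refine ⟨k * g⁻¹, ?_⟩
  calc t = k * (k⁻¹ * t * k) * k⁻¹ := by group
    _ = k * g⁻¹ * s * (k * g⁻¹)⁻¹ := by rw [← this]; group

end Cfsg.Agent.Fus.SLRoot
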