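import Cfsg.Agent.Lib.Fus.OmegaRankOne
import Cfsg.Agent.Lib.Classical.QuadModels
import Cfsg.Agent.Lib.Fus.FrameCount

/-!
`PΩ⁺_4(q) ≅ PSL_2(q) × PSL_2(q)`: the action `X ↦ g X h⁻¹` on `2 × 2` matrices.
-/

set_option autoImplicit false

namespace Cfsg.Agent.Fus.OmegaFourPlus

open Matrix
open scoped commutatorElement

variable {F : Type*} [Field F]

local notation "V4" => (Fin 2 ⊕ Fin 2 → F)
local notation "M2" => Matrix (Fin 2) (Fin 2) F
local notation "G2" => GL (Fin 2) F
local notation "SL₂" => Matrix.SpecialLinearGroup (Fin 2) F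

/-- A central quotient of the image of `SL₂ × SL₂` is `PSL₂ × PSL₂`. -/
theorem nonempty_equiv {ι : Type} [Fintype ι] [DecidableEq ι] {K : Type*} [Field K]
    {Q : (ι → K) → K} (ψ : SL₂ × SL₂ →* isometryGroup K Q)
    (hker : ψ.ker ≤ (Subgroup.center SL₂).prod (Subgroup.center SL₂)) (hrange : ψ.range = Omega K Q) :
    Nonempty (POmega K Q ≃* Matrix.ProjectiveSpecialLinearGroup (Fin 2) F ×
      Matrix.ProjectiveSpecialLinearGroup (Fin 2) F) := by
  let ω : SL₂ × SL₂ →* Omega K Q := ψ.codRestrict (Omega K Q) fun x => hrange ▸ ⟨x, rfl⟩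
  have hω : Function.Surjective ω := fun y => by
    obtain ⟨x, hx⟩ : (y : isometryGroup K Q) ∈ ψ.range := hrange.symm ▸ y.2
    exact ⟨x, Subtype.ext hx⟩
  let π : SL₂ × SL₂ →* POmega K Q := (QuotientGroup.mk' _).comp ω
  have hπ : Function.Surjective π := (QuotientGroup.mk'_surjective _).comp hω
  let Z := (Subgroup.center SL₂).prod (Subgroup.center SL₂)
  have hkerπ : π.ker = Z := by
    refine le_antisymm (fun x hx => ?_) (fun x hx => ?_)
    · have hc : ω x ∈ Subgroup.center (Omega K Q) := (QuotientGroup.eq_one_iff _).1 hx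
      have hcomm : ∀ y, y * x * (x * y)⁻¹ ∈ Z := fun y => hker <| MonoidHom.mem_ker.2 <| by
        have := congrArg Subtype.val (Subgroup.mem_center_iff.1 hc (ω y))
        rw [map_mul, map_inv, map_mul, map_mul]
        exact mul_inv_eq_one.2 this
      exact ⟨OmegaRankOne.mem_center_of_commutators fun y => (hcomm (y, 1)).1,
        OmegaRankOne.mem_center_of_commutators fun y => (hcomm (1, y)).2⟩
    · refine MonoidHom.mem_ker.2 ((QuotientGroup.eq_one_iff _).2 (Subgroup.mem_center_iff.2 fun z => ?_))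
      obtain ⟨y, rfl⟩ := hω z
      rw [← map_mul, ← map_mul, show y * x = x * y from
        Prod.ext (Subgroup.mem_center_iff.1 hx.1 y.1) (Subgroup.mem_center_iff.1 hx.2 y.2)]
  let pr : SL₂ × SL₂ →* Matrix.ProjectiveSpecialLinearGroup (Fin 2) F ×
      Matrix.ProjectiveSpecialLinearGroup (Fin 2) F :=
    (QuotientGroup.mk' _).prodMap (QuotientGroup.mk' _)
  have hpr : Function.Surjective pr := fun y => by
    obtain ⟨a, ha⟩ := QuotientGroup.mk'_surjective _ y.1
    obtain ⟨b, hb⟩ := QuotientGroup.mk'_surjective _ y.2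
    exact ⟨(a, b), Prod.ext ha hb⟩
  have hkerpr : pr.ker = Z := by
    ext x
    rw [MonoidHom.mem_ker, Prod.ext_iff]
    exact and_congr (QuotientGroup.eq_one_iff _) (QuotientGroup.eq_one_iff _)
  exact ⟨(QuotientGroup.quotientKerEquivOfSurjective π hπ).symm.trans
    ((QuotientGroup.quotientMulEquivOfEq (hkerπ.trans hkerpr.symm)).trans
      (QuotientGroup.quotientKerEquivOfSurjective pr hpr))⟩

variable (F)

/-- Vectors as matrices. -/
def toM : V4 →ₗ[F] M2 where
  toFun v := !![v (.inl 0), v (.inl 1); -v (.inr 1), v (.inr 0)]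
  map_add' u v := by ext i j; fin_cases i <;> fin_cases j <;> simp [add_comm]
  map_smul' c v := by ext i j; fin_cases i <;> fin_cases j <;> simp

/-- Coordinates. -/
def ofM : M2 →ₗ[F] V4 where
  toFun A := Sum.elim ![A 0 0, A 0 1] ![A 1 1, -A 1 0]
  map_add' A B := by funext x; rcases x with x | x <;> fin_cases x <;> simp [add_comm]
  map_smul' c A := by funext x; rcases x with x | x <;> fin_cases x <;> simp

theorem ofM_toM (v : V4) : ofM F (toM F v) = v := by
  funext x; rcases x with x | x <;> fin_cases x <;> simp [ofM, toM]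

theorem toM_ofM (A : M2) : toM F (ofM F A) = A := by
  ext i j; fin_cases i <;> fin_cases j <;> simp [ofM, toM]

theorem quadForm_eq (v : V4) : quadFormPlus 2 F v = (toM F v).det := by
  simp [quadFormPlus, toM, Matrix.det_fin_two, Fin.sum_univ_two]

/-- Pairs with equal determinant. -/
def eqDet : Subgroup (G2 × G2) where
  carrier := {p | p.1.val.det = p.2.val.det}
  one_mem' := rfl
  mul_mem' {a b} ha hb := by
    show (a.1.val * b.1.val).det = (a.2.val * b.2.val).det
    rw [Matrix.det_mul, Matrix.det_mul, show a.1.val.det = a.2.val.det from ha,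
      show b.1.val.det = b.2.val.det from hb]
  inv_mem' {a} ha := by
    show (a.1⁻¹ : G2).val.det = (a.2⁻¹ : G2).val.det
    rw [Matrix.coe_units_inv, Matrix.coe_units_inv, Matrix.det_nonsing_inv, Matrix.det_nonsing_inv,
      show a.1.val.det = a.2.val.det from ha]

/-- The two-sided action. -/
def actL (p : eqDet F) : V4 →ₗ[F] V4 :=
  (ofM F).comp ((LinearMap.mulLeft F p.1.1.val).comp
    ((LinearMap.mulRight F (p.1.2⁻¹ : G2).val).comp (toM F)))

theorem toM_actL (p : eqDet F) (v : V4) :
    toM F (actL F p v) = p.1.1.val * (toM F v * (p.1.2⁻¹ : G2).val) := toM_ofM F _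

/-- The representation on matrices. -/
noncomputable def actHom : eqDet F →* isometryGroup F (quadFormPlus 2 F) :=
  OmegaRankOne.isoHom (actL F)
    (LinearMap.ext fun v => by
      rw [← ofM_toM F (actL F 1 v), toM_actL]
      simp [ofM_toM])
    (fun a b => LinearMap.ext fun v => by
      rw [LinearMap.comp_apply, ← ofM_toM F (actL F (a * b) v), ← ofM_toM F (actL F a (actL F b v)),
        toM_actL, toM_actL, toM_actL, Subgroup.coe_mul, Prod.fst_mul, Prod.snd_mul, _root_.mul_inv_rev,
        Units.val_mul, Units.val_mul]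
      simp only [mul_assoc])
    _ fun p v => by
      rw [quadForm_eq, quadForm_eq, toM_actL, Matrix.det_mul, Matrix.det_mul,
        show p.1.1.val.det = p.1.2.val.det from p.2, mul_left_comm, ← Matrix.det_mul,
        ← Units.val_mul, mul_inv_cancel, Units.val_one, Matrix.det_one, mul_one]

theorem actHom_mulVec (p : eqDet F) (v : V4) :
    ((actHom F p).1 : Matrix _ _ F) *ᵥ v = actL F p v :=
  OmegaRankOne.isoHom_mulVec _ _ _ _ _ p v

/-- Transposition. -/
noncomputable def swapIso : isometryGroup F (quadFormPlus 2 F) :=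
  ⟨⟨LinearMap.toMatrix' ((ofM F).comp ((Matrix.transposeLinearEquiv (Fin 2) (Fin 2) F F).toLinearMap.comp (toM F))),
    LinearMap.toMatrix' ((ofM F).comp ((Matrix.transposeLinearEquiv (Fin 2) (Fin 2) F F).toLinearMap.comp (toM F))),
    by
      rw [← LinearMap.toMatrix'_comp, ← LinearMap.toMatrix'_id]
      exact congrArg _ (LinearMap.ext fun v => by simp [toM_ofM, ofM_toM]),
    by
      rw [← LinearMap.toMatrix'_comp, ← LinearMap.toMatrix'_id]
      exact congrArg _ (LinearMap.ext fun v => by simp [toM_ofM, ofM_toM])⟩, fun u _ => by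
    show quadFormPlus 2 F (LinearMap.toMatrix' _ *ᵥ u) = quadFormPlus 2 F u
    rw [LinearMap.toMatrix'_mulVec, quadForm_eq, quadForm_eq, LinearMap.comp_apply, toM_ofM,
      LinearMap.comp_apply]
    exact Matrix.det_transpose _⟩

theorem toM_swapIso (v : V4) : toM F ((swapIso F).1.val *ᵥ v) = (toM F v)ᵀ := by
  show toM F (LinearMap.toMatrix' _ *ᵥ v) = _
  rw [LinearMap.toMatrix'_mulVec, LinearMap.comp_apply, toM_ofM]
  rfl

variable {F}

theorem toM_act (p : eqDet F) (v : V4) :
    toM F ((actHom F p).1.val *ᵥ v) = p.1.1.val * (toM F v * (p.1.2⁻¹ : G2).val) := by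
  rw [actHom_mulVec, toM_actL]

theorem act_eq_iff (p : eqDet F) :
    actHom F p = 1 ↔ ∃ c : F, p.1.1.val = Matrix.scalar (Fin 2) c ∧ p.1.2.val = Matrix.scalar (Fin 2) c := by
  constructor
  · intro hp
    have hA : ∀ A : M2, p.1.1.val * (A * (p.1.2⁻¹ : G2).val) = A := fun A => by
      have := toM_act p (ofM F A)
      rw [hp, toM_ofM] at this
      rw [← this]
      show toM F ((1 : Matrix _ _ F) *ᵥ ofM F A) = A
      rw [Matrix.one_mulVec, toM_ofM]
    have heq : p.1.1.val = p.1.2.val := by
      have := hA p.1.2.val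
      rwa [← Units.val_mul, mul_inv_cancel, Units.val_one, mul_one] at this
    have hcomm : ∀ A : M2, p.1.1.val * A = A * p.1.1.val := fun A => by
      conv_rhs => rw [heq, ← hA A]
      rw [mul_assoc, mul_assoc, ← Units.val_mul, inv_mul_cancel, Units.val_one, mul_one]
    have e1 := congrFun (congrFun (hcomm !![1, 0; 0, 0]) 0) 1
    have e2 := congrFun (congrFun (hcomm !![1, 0; 0, 0]) 1) 0
    have e3 := congrFun (congrFun (hcomm !![0, 1; 0, 0]) 0) 1
    simp [Matrix.mul_apply, Fin.sum_univ_two] at e1 e2 e3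
    refine ⟨p.1.1.val 0 0, ?_, ?_⟩
    · ext i j; fin_cases i <;> fin_cases j <;> simp [← e1, e2, e3]
    · rw [← heq]; ext i j; fin_cases i <;> fin_cases j <;> simp [← e1, e2, e3]
  · rintro ⟨c, h1, h2⟩
    refine OmegaRankOne.iso_ext fun v => ?_
    rw [← ofM_toM F ((actHom F p).1.val *ᵥ v), toM_act, h1, ← mul_assoc,
      (Matrix.scalar_commute c (fun r => Commute.all _ r) (toM F v)).eq, ← h2, mul_assoc,
      ← Units.val_mul, mul_inv_cancel, Units.val_one, mul_one, ofM_toM]
    exact (Matrix.one_mulVec v).symm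

theorem swap_ne_act (p : eqDet F) : actHom F p ≠ swapIso F := by
  intro hp
  have hA : ∀ A : M2, p.1.1.val * (A * (p.1.2⁻¹ : G2).val) = Aᵀ := fun A => by
    have h := toM_act p (ofM F A)
    rw [hp, toM_swapIso, toM_ofM] at h
    exact h.symm
  have heq : p.1.1.val = p.1.2.val := by
    have := hA 1
    rw [one_mul, Matrix.transpose_one] at this
    calc p.1.1.val = p.1.1.val * (p.1.2⁻¹ : G2).val * p.1.2.val := by
          rw [mul_assoc, ← Units.val_mul, inv_mul_cancel, Units.val_one, mul_one]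
      _ = _ := by rw [this, one_mul]
  have hc : ∀ A B : M2, (A * B)ᵀ = Aᵀ * Bᵀ := fun A B => by
    rw [← hA (A * B), ← hA A, ← hA B, heq]
    simp only [mul_assoc]
    rw [← mul_assoc (p.1.2⁻¹ : G2).val p.1.2.val, ← Units.val_mul, inv_mul_cancel, Units.val_one,
      one_mul]
  have := congrFun (congrFun (hc !![0, 1; 0, 0] !![0, 0; 1, 0]) 0) 0
  simp [Matrix.mul_apply, Fin.sum_univ_two] at this

theorem nonempty_pOmega_four_plus [Fintype F] (hq : 3 ≤ Fintype.card F) :
    Nonempty (POmega F (quadFormPlus 2 F) ≃* Matrix.ProjectiveSpecialLinearGroup (Fin 2) F ×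
      Matrix.ProjectiveSpecialLinearGroup (Fin 2) F) := by
  classical
  set O := isometryGroup F (quadFormPlus 2 F)
  let tg : SL₂ →* G2 := Matrix.SpecialLinearGroup.toGL
  let j : SL₂ × SL₂ →* eqDet F := (tg.prodMap tg).codRestrict (eqDet F)
    fun p => (p.1.2.trans p.2.2.symm : p.1.1.det = p.2.1.det)
  let ψ := (actHom F).comp j
  have hker : ψ.ker ≤ (Subgroup.center SL₂).prod (Subgroup.center SL₂) := fun p hp => by
    obtain ⟨c, h1, h2⟩ := (act_eq_iff (j p)).1 hp
    have h1 : p.1.1 = Matrix.scalar (Fin 2) c := h1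
    have h2 : p.2.1 = Matrix.scalar (Fin 2) c := h2
    have hc : c ^ Fintype.card (Fin 2) = 1 := by
      have := p.1.2
      rw [h1] at this
      simpa using this
    exact ⟨Matrix.SpecialLinearGroup.mem_center_iff.2 ⟨c, hc, h1.symm⟩,
      Matrix.SpecialLinearGroup.mem_center_iff.2 ⟨c, hc, h2.symm⟩⟩
  refine nonempty_equiv ψ hker ?_
  -- orders
  have hH : Nat.card (eqDet F) = (Fintype.card F - 1) * Nat.card SL₂ * Nat.card SL₂ := by
    let f : eqDet F → G2 := fun p => p.1.1
    let K : Subgroup (eqDet F) := ((MonoidHom.fst G2 G2).comp (eqDet F).subtype).ker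
    have h := FrameCount.natCard_eq_mul f K fun a b => by
      rw [MonoidHom.mem_ker, map_mul, map_inv, inv_mul_eq_one]; rfl
    have hr : Set.range f = Set.univ := Set.eq_univ_of_forall fun g => ⟨⟨(g, g), rfl⟩, rfl⟩
    have hK : Nat.card K = Nat.card SL₂ := Nat.card_congr
      { toFun := fun p => ⟨p.1.1.2.val, by
          have h1 : p.1.1.1 = 1 := p.2
          have h2 : p.1.1.1.val.det = p.1.1.2.val.det := p.1.2
          rw [← h2, h1]
          simp⟩
        invFun := fun s => ⟨⟨(1, tg s), by show (1 : M2).det = s.1.det; rw [s.2, Matrix.det_one]⟩, rfl⟩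
        left_inv := fun p => Subtype.ext (Subtype.ext (Prod.ext p.2.symm (Units.ext rfl)))
        right_inv := fun s => rfl }
    rw [h, hr, Nat.card_congr (Equiv.Set.univ _), hK, Classical.natCard_GL_eq_SL_mul 2 (by norm_num),
      Classical.natCard_units_field]
  have hK : Nat.card (actHom F).ker = Fintype.card F - 1 := by
    rw [← Fintype.card_units, ← Nat.card_eq_fintype_card]
    refine (Nat.card_congr (Equiv.ofBijective (fun u : Fˣ =>
      (⟨⟨(Matrix.GeneralLinearGroup.scalar (Fin 2) u, Matrix.GeneralLinearGroup.scalar (Fin 2) u), rfl⟩,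
        MonoidHom.mem_ker.2 ((act_eq_iff _).2 ⟨u, rfl, rfl⟩)⟩ : (actHom F).ker))
      ⟨fun u u' h => ?_, fun p => ?_⟩)).symm
    · have := congrArg (fun p : (actHom F).ker => p.1.1.1.val 0 0) h
      exact Units.ext (by simpa using this)
    · obtain ⟨c, h1, h2⟩ := (act_eq_iff p.1).1 p.2
      have hc0 : c ≠ 0 := fun h0 => (Matrix.GeneralLinearGroup.det p.1.1.1).ne_zero (by
        show p.1.1.1.val.det = 0
        rw [h1, h0]; simp)
      exact ⟨Units.mk0 c hc0, Subtype.ext (Subtype.ext (Prod.ext (Units.ext h1.symm) (Units.ext h2.symm)))⟩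
  have hSL : (Nat.card SL₂ : ℤ) = Fintype.card F * ((Fintype.card F : ℤ) ^ 2 - 1) := by
    have h := Classical.natCard_GL_eq_SL_mul (F := F) 2 (by norm_num)
    rw [Matrix.card_GL_field, Fin.prod_univ_two, Classical.natCard_units_field] at h
    have h := congrArg (Nat.cast : ℕ → ℤ) h
    simp only [Fin.val_zero, Fin.val_one, pow_zero, pow_one] at h
    have hq1 : 1 ≤ Fintype.card F := by omega
    have hq2 : Fintype.card F ≤ Fintype.card F ^ 2 := Nat.le_self_pow two_ne_zero _
    push_cast [Nat.cast_sub hq1, Nat.cast_sub hq2, Nat.cast_sub (Nat.one_le_pow 2 _ hq1)] at h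
    refine mul_left_cancel₀ (sub_ne_zero.2 (show (Fintype.card F : ℤ) ≠ 1 by omega)) ?_
    linear_combination -h
  have hO : Nat.card O = 2 * (Nat.card SL₂ * Nat.card SL₂) := by
    refine Nat.cast_inj (R := ℤ).1 ?_
    rw [Classical.natCard_isometryGroup' (f := quadFormPlus 2 F) _ (Classical.coe_qfPlus 2),
      Classical.order_qfPlus 1, Nat.cast_mul, Nat.cast_mul, hSL]
    simp
    ring
  have hR : Nat.card (actHom F).range = Nat.card SL₂ * Nat.card SL₂ := by
    have h := (actHom F).ker.card_eq_card_quotient_mul_card_subgroup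
    rw [Nat.card_congr (QuotientGroup.quotientKerEquivRange (actHom F)).toEquiv, hK, hH, mul_assoc,
      mul_comm] at h
    exact Nat.eq_of_mul_eq_mul_right (by omega) h.symm
  have hidx : (actHom F).range.index = 2 := by
    have h := (actHom F).range.card_mul_index
    rw [hR, hO, mul_comm 2] at h
    exact Nat.eq_of_mul_eq_mul_left (Nat.mul_pos Nat.card_pos Nat.card_pos) h
  have hsplit : ∀ g : O, g ∈ (actHom F).range ∨ swapIso F * g ∈ (actHom F).range := fun g => by
    by_cases hg : g ∈ (actHom F).range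
    · exact Or.inl hg
    · exact Or.inr ((Subgroup.mul_mem_iff_of_index_two hidx).2
        (iff_of_false (fun ⟨k, hk⟩ => swap_ne_act k hk) hg))
  -- the image is normal
  let T : SL₂ → SL₂ := fun s => ⟨(s⁻¹ : SL₂).1ᵀ, by rw [Matrix.det_transpose]; exact (s⁻¹ : SL₂).2⟩
  have hT1 : T 1 = 1 := Subtype.ext (by simp [T])
  have hinv : ∀ (s : SL₂), ((tg s)⁻¹ : G2).val = (s⁻¹ : SL₂).1 := fun s => by rw [← map_inv]; rfl
  have hswap : ∀ g h : SL₂, swapIso F * ψ (g, h) * (swapIso F)⁻¹ = ψ (T h, T g) := by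
    intro g h
    rw [mul_inv_eq_iff_eq_mul]
    refine OmegaRankOne.iso_ext fun v => ?_
    show ((swapIso F).1.val * (ψ (g, h)).1.val) *ᵥ v = ((ψ _).1.val * (swapIso F).1.val) *ᵥ v
    rw [← Matrix.mulVec_mulVec, ← Matrix.mulVec_mulVec]
    refine Function.LeftInverse.injective (ofM_toM F) ?_
    show toM F _ = toM F _
    rw [toM_swapIso, show ψ (g, h) = actHom F (j (g, h)) from rfl, toM_act,
      show ∀ x, ψ x = actHom F (j x) from fun x => rfl, toM_act, toM_swapIso, Matrix.transpose_mul,
      Matrix.transpose_mul, mul_assoc]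
    show (((tg h)⁻¹ : G2).val)ᵀ * ((toM F v)ᵀ * g.1ᵀ) = (T h).1 * ((toM F v)ᵀ * ((tg (T g))⁻¹ : G2).val)
    rw [hinv, hinv]
    congr 2
    have : (T g)⁻¹ = (⟨g.1ᵀ, by rw [Matrix.det_transpose]; exact g.2⟩ : SL₂) := by
      refine inv_eq_of_mul_eq_one_right (Subtype.ext ?_)
      show (g⁻¹ : SL₂).1ᵀ * g.1ᵀ = 1
      rw [← Matrix.transpose_mul, ← Matrix.SpecialLinearGroup.coe_mul, mul_inv_cancel,
        Matrix.SpecialLinearGroup.coe_one, Matrix.transpose_one]
    rw [this]
  have hnorm : ψ.range.Normal := by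
    have hconjH : ∀ (k : eqDet F) (x : SL₂ × SL₂), ∃ y, actHom F k * ψ x * (actHom F k)⁻¹ = ψ y := by
      intro k x
      have hd : ∀ (a : G2) (s : SL₂), (a * tg s * a⁻¹).val.det = 1 := fun a s => by
        rw [Units.val_mul, Units.val_mul, Matrix.det_mul, Matrix.det_mul, show (tg s).val.det = 1 from s.2,
          mul_one, ← Matrix.det_mul, ← Units.val_mul, mul_inv_cancel, Units.val_one, Matrix.det_one]
      refine ⟨(⟨_, hd k.1.1 x.1⟩, ⟨_, hd k.1.2 x.2⟩), ?_⟩
      show actHom F k * actHom F (j x) * (actHom F k)⁻¹ = actHom F (j _)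
      rw [← map_mul, ← map_inv, ← map_mul]
      exact congrArg _ (Subtype.ext (Prod.ext (Units.ext rfl) (Units.ext rfl)))
    refine ⟨fun y hy g => ?_⟩
    obtain ⟨x, rfl⟩ := hy
    rcases hsplit g with ⟨k, rfl⟩ | ⟨k, hk⟩
    · obtain ⟨y, hy⟩ := hconjH k x
      exact ⟨y, hy.symm⟩
    · obtain ⟨y, hy⟩ := hconjH k x
      refine ⟨(T y.2, T y.1), ?_⟩
      rw [← hswap y.1 y.2, show (y.1, y.2) = y from rfl, ← hy, hk]
      have hss : swapIso F * swapIso F = 1 := OmegaRankOne.iso_ext fun v => by
        show ((swapIso F).1.val * (swapIso F).1.val) *ᵥ v = (1 : Matrix _ _ F) *ᵥ v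
        rw [← Matrix.mulVec_mulVec, Matrix.one_mulVec, ← ofM_toM F ((swapIso F).1.val *ᵥ _), toM_swapIso,
          toM_swapIso, Matrix.transpose_transpose, ofM_toM]
      rw [inv_eq_of_mul_eq_one_right hss, _root_.mul_inv_rev, inv_eq_of_mul_eq_one_right hss]
      simp only [← mul_assoc, hss, one_mul]
      simp only [mul_assoc, hss, mul_one]
  have hexist : ∃ a : F, a ≠ 0 ∧ a ≠ 1 := by
    by_contra hcon
    push Not at hcon
    have : (Finset.univ : Finset F) ⊆ {0, 1} := fun a _ => by
      by_cases h0 : a = 0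
      · simp [h0]
      · simp [hcon a h0]
    have := (Finset.card_le_card this).trans Finset.card_le_two
    rw [Finset.card_univ] at this
    omega
  rw [Omega]
  refine le_antisymm ?_ ?_
  · -- the image is made of commutators
    have hGL := Classical.GL_commutator_eq_ker_det (F := F) (ι := Fin 2) fun _ => hexist
    rw [Classical.GL_ker_det_eq_range_toGL] at hGL
    have hfst : ∀ g : SL₂, ψ (g, 1) ∈ commutator O := by
      intro g
      obtain ⟨y, hy, hy'⟩ : ∃ y ∈ commutator (eqDet F), y.1 = (tg g, 1) := by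
        have hm : tg g ∈ commutator G2 := hGL.symm ▸ ⟨g, rfl⟩
        let A : Subgroup G2 := ((commutator (eqDet F)).map (eqDet F).subtype).comap (MonoidHom.inl G2 G2)
        have hle : commutator G2 ≤ A := by
          rw [commutator_def, Subgroup.commutator_le]
          intro a _ b _
          have hd : ∀ a : G2, ∃ d : G2, d.val = Matrix.diagonal ![a.val.det, 1] := fun a =>
            ⟨Matrix.GeneralLinearGroup.mkOfDetNeZero (Matrix.diagonal ![a.val.det, 1]) (by
              rw [Matrix.det_diagonal, Fin.prod_univ_two]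
              simpa using (Matrix.GeneralLinearGroup.det a).ne_zero), rfl⟩
          obtain ⟨da, hda⟩ := hd a
          obtain ⟨db, hdb⟩ := hd b
          have ha : (a, da) ∈ eqDet F := by
            show a.val.det = da.val.det
            rw [hda, Matrix.det_diagonal, Fin.prod_univ_two]; simp
          have hb : (b, db) ∈ eqDet F := by
            show b.val.det = db.val.det
            rw [hdb, Matrix.det_diagonal, Fin.prod_univ_two]; simp
          refine ⟨⁅(⟨_, ha⟩ : eqDet F), ⟨_, hb⟩⁆, ?_, ?_⟩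
          · rw [commutator_def]
            exact Subgroup.commutator_mem_commutator (Subgroup.mem_top _) (Subgroup.mem_top _)
          · rw [map_commutatorElement]
            refine Prod.ext rfl ?_
            show ⁅da, db⁆ = 1
            refine commutatorElement_eq_one_iff_mul_comm.2 (Units.ext ?_)
            rw [Units.val_mul, Units.val_mul, hda, hdb, Matrix.diagonal_mul_diagonal, Matrix.diagonal_mul_diagonal]
            simp [mul_comm]
        exact hle hm
      have h1 := Subgroup.mem_map_of_mem (actHom F) hy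
      rw [show y = j (g, 1) from Subtype.ext (hy'.trans (Prod.ext rfl (map_one tg).symm))] at h1
      rw [commutator_def, Subgroup.map_commutator] at h1
      exact Subgroup.commutator_mono le_top le_top h1
    rintro _ ⟨⟨g, h⟩, rfl⟩
    rw [show ((g, h) : SL₂ × SL₂) = (g, 1) * (1, h) by simp, map_mul]
    refine mul_mem (hfst g) ?_
    rw [show ψ (1, h) = (swapIso F)⁻¹ * ψ (T h, 1) * ((swapIso F)⁻¹)⁻¹ by
      conv_rhs => rw [← hT1, ← hswap 1 h]
      group]
    exact (inferInstance : (commutator O).Normal).conj_mem _ (hfst _) _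
  · have := hnorm
    rw [← Subgroup.Normal.quotient_commutative_iff_commutator_le]
    have hc : Nat.card (O ⧸ ψ.range) = 2 ∨ Nat.card (O ⧸ ψ.range) = 2 ^ 2 := by
      have h1 := ψ.range.card_mul_index
      have h2 := ψ.ker.card_eq_card_quotient_mul_card_subgroup
      rw [Nat.card_congr (QuotientGroup.quotientKerEquivRange ψ).toEquiv, Nat.card_prod] at h2
      rw [hO, h2] at h1
      have h3 : ψ.range.index = 2 * Nat.card ψ.ker :=
        Nat.eq_of_mul_eq_mul_left (Nat.card_pos : 0 < Nat.card ψ.range) (h1.trans (by ring))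
      have hle : Nat.card ψ.ker ≤ 2 := by
        refine (Nat.card_le_card_of_injective (fun p : ψ.ker => (⟨p.1.1, (hker p.2).1⟩ : Subgroup.center SL₂))
          fun p p' h => ?_).trans ?_
        · have h1 : p.1.1 = p'.1.1 := congrArg Subtype.val h
          obtain ⟨c, hc1, hc2⟩ := (act_eq_iff (j p.1)).1 p.2
          obtain ⟨c', hc1', hc2'⟩ := (act_eq_iff (j p'.1)).1 p'.2
          refine Subtype.ext (Prod.ext h1 (Subtype.ext ?_))
          show p.1.2.1 = p'.1.2.1
          rw [show p.1.2.1 = p.1.1.1 from hc2.trans hc1.symm, show p'.1.2.1 = p'.1.1.1 from hc2'.trans hc1'.symm, h1]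
        · rw [Classical.natCard_center_SL]
          exact Nat.le_of_dvd two_pos (Nat.gcd_dvd_left _ _)
      rw [← Subgroup.index_eq_card, h3]
      have : 0 < Nat.card ψ.ker := Nat.card_pos
      omega
    have : Fact (Nat.Prime 2) := ⟨Nat.prime_two⟩
    rcases hc with h | h
    · have : IsCyclic (O ⧸ ψ.range) := isCyclic_of_prime_card h
      exact IsCyclic.isMulCommutative
    · exact IsPGroup.isMulCommutative_of_card_eq_prime_sq h

end Cfsg.Agent.Fus.OmegaFourPlus
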