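import Mathlib

/-!
Two by two matrices of determinant one over a commutative algebra `R` over a field `k`: the subgroup generated
by the upper unitriangular matrices over `k` and the lower ones over `k * z`, for a unit `z`.
-/

set_option autoImplicit false
set_option linter.unusedSectionVars false

namespace Cfsg.Agent.Fus.RingSL

open Matrix

variable {R : Type*} [CommRing R]

local notation "SL₂" => Matrix.SpecialLinearGroup (Fin 2) R

/-- The upper unitriangular element. -/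
def up (t : R) : SL₂ := ⟨!![1, t; 0, 1], by simp [Matrix.det_fin_two]⟩

/-- The lower unitriangular element. -/
def low (t : R) : SL₂ := ⟨!![1, 0; t, 1], by simp [Matrix.det_fin_two]⟩

/-- The diagonal element. -/
def dia (u : Rˣ) : SL₂ := ⟨!![(u : R), 0; 0, ((u⁻¹ : Rˣ) : R)], by simp [Matrix.det_fin_two]⟩

@[simp] theorem coe_up (t : R) : ((up t : SL₂) : Matrix (Fin 2) (Fin 2) R) = !![1, t; 0, 1] := rfl
@[simp] theorem coe_low (t : R) : ((low t : SL₂) : Matrix (Fin 2) (Fin 2) R) = !![1, 0; t, 1] := rfl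
@[simp] theorem coe_dia (u : Rˣ) :
    ((dia u : SL₂) : Matrix (Fin 2) (Fin 2) R) = !![(u : R), 0; 0, ((u⁻¹ : Rˣ) : R)] := rfl

theorem ext4 {x y : SL₂} (h00 : x.1 0 0 = y.1 0 0) (h01 : x.1 0 1 = y.1 0 1) (h10 : x.1 1 0 = y.1 1 0)
    (h11 : x.1 1 1 = y.1 1 1) : x = y := by
  refine Subtype.ext ?_
  ext i j
  fin_cases i <;> fin_cases j <;> assumption

theorem det_eq (g : SL₂) : g.1 0 0 * g.1 1 1 - g.1 0 1 * g.1 1 0 = 1 := by
  have := g.2
  rwa [Matrix.det_fin_two] at this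

theorem up_mul (s t : R) : (up s : SL₂) * up t = up (s + t) := by
  refine ext4 ?_ ?_ ?_ ?_ <;> simp [Matrix.mul_apply, Fin.sum_univ_two, add_comm]

theorem up_zero : (up 0 : SL₂) = 1 := by refine ext4 ?_ ?_ ?_ ?_ <;> simp

theorem up_inv (t : R) : (up t : SL₂)⁻¹ = up (-t) :=
  inv_eq_of_mul_eq_one_right (by rw [up_mul, add_neg_cancel, up_zero])

/-- Conjugates of upper unitriangular elements. -/
theorem conj_up (g : SL₂) (t : R) :
    (g * up t * g⁻¹).1 = !![1 - g.1 0 0 * g.1 1 0 * t, g.1 0 0 * g.1 0 0 * t;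
      -(g.1 1 0 * g.1 1 0 * t), 1 + g.1 0 0 * g.1 1 0 * t] := by
  have hd := det_eq g
  rw [Matrix.SpecialLinearGroup.coe_mul, Matrix.SpecialLinearGroup.coe_mul, Matrix.SpecialLinearGroup.coe_inv,
    Matrix.adjugate_fin_two, coe_up]
  ext i j
  fin_cases i <;> fin_cases j <;> simp [Matrix.mul_apply, Fin.sum_univ_two]
  · linear_combination hd
  · ring
  · ring
  · linear_combination hd

/-- A triangular element with diagonal entry one is unitriangular. -/
theorem eq_up_of (g : SL₂) (h10 : g.1 1 0 = 0) (h00 : g.1 0 0 = 1) : g = up (g.1 0 1) := by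
  have hd := det_eq g
  rw [h10, h00] at hd
  refine ext4 ?_ ?_ ?_ ?_ <;> simp [h10, h00]
  linear_combination hd

theorem conj_up_of_zero (g : SL₂) (h : g.1 1 0 = 0) (t : R) :
    g * up t * g⁻¹ = up (g.1 0 0 * g.1 0 0 * t) := by
  have e := conj_up g t
  refine Subtype.ext ?_
  rw [e, h, coe_up]
  simp

/-- The scaling automorphism. -/
def scale (u : Rˣ) : SL₂ →* SL₂ where
  toFun g := ⟨!![g.1 0 0, (u : R) * g.1 0 1; ((u⁻¹ : Rˣ) : R) * g.1 1 0, g.1 1 1], by
    have h := det_eq g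
    simp [Matrix.det_fin_two]
    linear_combination h - g.1 0 1 * g.1 1 0 * u.mul_inv⟩
  map_one' := by refine ext4 ?_ ?_ ?_ ?_ <;> simp
  map_mul' g h := by
    refine Subtype.ext ?_
    show !![(g.1 * h.1) 0 0, (u : R) * (g.1 * h.1) 0 1; ((u⁻¹ : Rˣ) : R) * (g.1 * h.1) 1 0, (g.1 * h.1) 1 1] =
      !![g.1 0 0, (u : R) * g.1 0 1; ((u⁻¹ : Rˣ) : R) * g.1 1 0, g.1 1 1] *
        !![h.1 0 0, (u : R) * h.1 0 1; ((u⁻¹ : Rˣ) : R) * h.1 1 0, h.1 1 1]
    ext i j
    fin_cases i <;> fin_cases j <;> simp [Matrix.mul_apply, Fin.sum_univ_two]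
    · linear_combination -(g.1 0 1 * h.1 1 0) * u.mul_inv
    · ring
    · ring
    · linear_combination -(g.1 1 0 * h.1 0 1) * u.mul_inv

theorem coe_scale (u : Rˣ) (g : SL₂) :
    (scale u g).1 = !![g.1 0 0, (u : R) * g.1 0 1; ((u⁻¹ : Rˣ) : R) * g.1 1 0, g.1 1 1] := rfl

theorem scale_up (u : Rˣ) (t : R) : scale u (up t) = up ((u : R) * t) := by
  refine ext4 ?_ ?_ ?_ ?_ <;> simp [coe_scale]

theorem scale_low (u : Rˣ) (t : R) : scale u (low t) = low (((u⁻¹ : Rˣ) : R) * t) := by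
  refine ext4 ?_ ?_ ?_ ?_ <;> simp [coe_scale]

/-- The automorphism interchanging the two unipotent subgroups. -/
def flip (z : Rˣ) : SL₂ →* SL₂ where
  toFun g := ⟨!![g.1 1 1, ((z⁻¹ : Rˣ) : R) * g.1 1 0; (z : R) * g.1 0 1, g.1 0 0], by
    have h := det_eq g
    simp [Matrix.det_fin_two]
    linear_combination h - g.1 0 1 * g.1 1 0 * z.inv_mul⟩
  map_one' := by refine ext4 ?_ ?_ ?_ ?_ <;> simp
  map_mul' g h := by
    refine Subtype.ext ?_
    show !![(g.1 * h.1) 1 1, ((z⁻¹ : Rˣ) : R) * (g.1 * h.1) 1 0; (z : R) * (g.1 * h.1) 0 1, (g.1 * h.1) 0 0] =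
      !![g.1 1 1, ((z⁻¹ : Rˣ) : R) * g.1 1 0; (z : R) * g.1 0 1, g.1 0 0] *
        !![h.1 1 1, ((z⁻¹ : Rˣ) : R) * h.1 1 0; (z : R) * h.1 0 1, h.1 0 0]
    ext i j
    fin_cases i <;> fin_cases j <;> simp [Matrix.mul_apply, Fin.sum_univ_two]
    · linear_combination -(g.1 1 0 * h.1 0 1) * z.inv_mul
    · ring
    · ring
    · linear_combination -(g.1 0 1 * h.1 1 0) * z.mul_inv

theorem coe_flip (z : Rˣ) (g : SL₂) :
    (flip z g).1 = !![g.1 1 1, ((z⁻¹ : Rˣ) : R) * g.1 1 0; (z : R) * g.1 0 1, g.1 0 0] := rfl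

theorem flip_up (z : Rˣ) (t : R) : flip z (up t) = low ((z : R) * t) := by
  refine ext4 ?_ ?_ ?_ ?_ <;> simp [coe_flip]

theorem flip_low (z : Rˣ) (t : R) : flip z (low t) = up (((z⁻¹ : Rˣ) : R) * t) := by
  refine ext4 ?_ ?_ ?_ ?_ <;> simp [coe_flip]

theorem flip_flip (z : Rˣ) (g : SL₂) : flip z (flip z g) = g := by
  refine ext4 ?_ ?_ ?_ ?_ <;> simp [coe_flip]

variable (k : Type*) [Field k] [Algebra k R]

/-- The generators. -/
def gens (z : Rˣ) : Set SL₂ :=
  {g | ∃ c : k, g = up (algebraMap k R c)} ∪ {g | ∃ c : k, g = low (algebraMap k R c * (z : R))}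

/-- The generated subgroup. -/
def adjR (z : Rˣ) : Subgroup SL₂ := Subgroup.closure (gens k z)

variable {k}

theorem up_mem (z : Rˣ) (c : k) : up (algebraMap k R c) ∈ adjR k z :=
  Subgroup.subset_closure (Or.inl ⟨c, rfl⟩)

theorem low_mem (z : Rˣ) (c : k) : low (algebraMap k R c * (z : R)) ∈ adjR k z :=
  Subgroup.subset_closure (Or.inr ⟨c, rfl⟩)

theorem flip_mem {z : Rˣ} {g : SL₂} (h : g ∈ adjR k z) : flip z g ∈ adjR k z := by
  have hle : (adjR k z).map (flip z) ≤ adjR k z := by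
    rw [adjR, MonoidHom.map_closure, Subgroup.closure_le]
    rintro _ ⟨g, (⟨c, rfl⟩ | ⟨c, rfl⟩), rfl⟩
    · rw [flip_up, mul_comm]; exact low_mem z c
    · rw [flip_low, mul_comm (algebraMap k R c), ← mul_assoc, Units.inv_mul, one_mul]; exact up_mem z c
  exact hle ⟨g, h, rfl⟩

theorem scale_mem {z : Rˣ} {m : k} (hm : m ≠ 0) {g : SL₂} (h : g ∈ adjR k z) :
    scale (Units.map (algebraMap k R).toMonoidHom (Units.mk0 m hm)) g ∈ adjR k z := by
  have hle : (adjR k z).map (scale (Units.map (algebraMap k R).toMonoidHom (Units.mk0 m hm))) ≤ adjR k z := by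
    rw [adjR, MonoidHom.map_closure, Subgroup.closure_le]
    rintro _ ⟨g, (⟨c, rfl⟩ | ⟨c, rfl⟩), rfl⟩
    · rw [scale_up]
      simp only [Units.coe_map, RingHom.toMonoidHom_eq_coe, MonoidHom.coe_coe, Units.val_mk0, ← map_mul]
      exact up_mem z _
    · rw [scale_low]
      simp only [Units.coe_map_inv, RingHom.toMonoidHom_eq_coe, MonoidHom.coe_coe, Units.val_inv_eq_inv_val,
        Units.val_mk0, ← mul_assoc, ← map_mul]
      exact low_mem z _
  exact hle ⟨g, h, rfl⟩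

/-- The upper translations in the subgroup. -/
def upSub (k : Type*) [Field k] [Algebra k R] (z : Rˣ) : Submodule k R where
  carrier := {t | up t ∈ adjR k z}
  add_mem' := fun {s t} hs ht => by
    show up (s + t) ∈ adjR k z
    rw [← up_mul]; exact mul_mem hs ht
  zero_mem' := by show up (0 : R) ∈ adjR k z; rw [up_zero]; exact one_mem _
  smul_mem' := fun m t ht => by
    show up (m • t) ∈ adjR k z
    by_cases hm : m = 0
    · rw [hm, zero_smul, up_zero]; exact one_mem _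
    have h := scale_mem hm ht
    rw [scale_up] at h
    rw [Algebra.smul_def]
    exact h

theorem mem_upSub {z : Rˣ} {t : R} : t ∈ upSub k z ↔ up t ∈ adjR k z := Iff.rfl

theorem low_mem_iff {z : Rˣ} {t : R} : low ((z : R) * t) ∈ adjR k z ↔ t ∈ upSub k z := by
  constructor
  · intro h
    have := flip_mem h
    rwa [flip_low, ← mul_assoc, Units.inv_mul, one_mul] at this
  · intro h
    have := flip_mem (show up t ∈ adjR k z from h)
    rwa [flip_up] at this

theorem one_mem_upSub (z : Rˣ) : (1 : R) ∈ upSub k z := by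
  have h := up_mem (k := k) z 1
  rwa [map_one] at h

end Cfsg.Agent.Fus.RingSL
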