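import Mathlib

/-!
A minimal ideal of a finite dimensional commutative algebra, and the subalgebras containing all squares of units.
-/

set_option autoImplicit false
set_option linter.unusedSectionVars false

namespace Cfsg.Agent.Fus.RingSL

universe u v

variable {k : Type v} [Field k] {R : Type u} [CommRing R] [Algebra k R] [FiniteDimensional k R]

/-- The properties of a generator of a minimal ideal used below. -/
def IsMinGen (j : R) : Prop := j ≠ 0 ∧ ∀ a : R, a * j ≠ 0 → ∃ b : R, b * (a * j) = j

theorem exists_minGen (k : Type v) [Field k] [Algebra k R] [FiniteDimensional k R] {x : R} (hx : x ≠ 0)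
    (hxu : ¬ IsUnit x) : ∃ j : R, IsMinGen j ∧ ¬ IsUnit j := by
  have : IsArtinianRing R := isArtinian_of_tower k inferInstance
  obtain ⟨J, ⟨hJ0, hJx⟩, hmin⟩ := IsArtinian.set_has_minimal
    {J : Submodule R R | J ≠ ⊥ ∧ J ≤ Ideal.span {x}}
    ⟨Ideal.span {x}, by simpa [Ideal.span_singleton_eq_bot] using hx, le_rfl⟩
  obtain ⟨j, hj, hj0⟩ := Submodule.exists_mem_ne_zero_of_ne_bot hJ0
  refine ⟨j, ⟨hj0, fun a ha => ?_⟩, fun hu => hxu ?_⟩
  · have h1 : Ideal.span {a * j} ≤ J := (Ideal.span_singleton_le_iff_mem J).2 (Ideal.mul_mem_left J a hj)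
    have h2 : Ideal.span {a * j} = J := by
      refine eq_of_le_of_not_lt h1 (hmin _ ⟨?_, h1.trans hJx⟩)
      simpa [Ideal.span_singleton_eq_bot] using ha
    exact Ideal.mem_span_singleton'.1 (h2 ▸ hj)
  · obtain ⟨c, hc⟩ := Ideal.mem_span_singleton'.1 (hJx hj)
    exact isUnit_of_mul_isUnit_right (hc ▸ hu)

theorem IsMinGen.mul_ne {j : R} (h : IsMinGen j) {a b : R} (ha : a * j ≠ 0) (hb : b * j ≠ 0) :
    a * b * j ≠ 0 := by
  intro e
  obtain ⟨c, hc⟩ := h.2 a ha
  exact hb (by rw [← hc]; linear_combination c * e)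

theorem IsMinGen.mul_self_ne {j : R} (h : IsMinGen j) {r : R} (hr : r ∈ Ideal.span {j}) (hr0 : r ≠ 0)
    (hjj : j * j ≠ 0) : r * j ≠ 0 := by
  obtain ⟨e, rfl⟩ := Ideal.mem_span_singleton'.1 hr
  exact h.mul_ne hr0 hjj

theorem IsMinGen.eq_zero_of_mul {j : R} (h : IsMinGen j) {r : R} (hr : r ∈ Ideal.span {j}) (hjj : j * j ≠ 0)
    (e : r * j = 0) : r = 0 := by
  by_contra h0
  exact h.mul_self_ne hr h0 hjj e

theorem IsMinGen.mul_eq_zero_of_sq {j : R} (hjj : j * j = 0) {r s : R} (hr : r ∈ Ideal.span {j})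
    (hs : s ∈ Ideal.span {j}) : r * s = 0 := by
  obtain ⟨e, rfl⟩ := Ideal.mem_span_singleton'.1 hr
  obtain ⟨f, rfl⟩ := Ideal.mem_span_singleton'.1 hs
  linear_combination (e * f) * hjj

/-- A unit modulo the minimal ideal outside its annihilator is a unit. -/
theorem IsMinGen.isUnit_of {j : R} (h : IsMinGen j) {a w : R} (haw : w * a - 1 ∈ Ideal.span {j})
    (ha : a * j ≠ 0) : IsUnit a := by
  obtain ⟨c, hc⟩ := Ideal.mem_span_singleton'.1 haw
  obtain ⟨b, hb⟩ := h.2 a ha
  exact IsUnit.of_mul_eq_one (w - c * b * j) (by linear_combination -hc - c * hb)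

theorem finrank_quotient_lt (k : Type v) [Field k] [Algebra k R] [FiniteDimensional k R] {I : Ideal R}
    (hI : I ≠ ⊥) : Module.finrank k (R ⧸ I) < Module.finrank k R := by
  obtain ⟨x, hx, hx0⟩ := Submodule.exists_mem_ne_zero_of_ne_bot hI
  have h := LinearMap.finrank_range_add_finrank_ker (Ideal.Quotient.mkₐ k I).toLinearMap
  rw [LinearMap.range_eq_top.2 (Ideal.Quotient.mkₐ_surjective k I), finrank_top] at h
  have : 0 < Module.finrank k (LinearMap.ker (Ideal.Quotient.mkₐ k I).toLinearMap) := by
    refine Module.finrank_pos_iff_exists_ne_zero.2 ⟨⟨x, ?_⟩, fun e => hx0 (congrArg Subtype.val e)⟩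
    exact Ideal.Quotient.eq_zero_iff_mem.2 hx
  omega

instance quotient_finite (I : Ideal R) : FiniteDimensional k (R ⧸ I) :=
  Module.Finite.of_surjective (Ideal.Quotient.mkₐ k I).toLinearMap (Ideal.Quotient.mkₐ_surjective k I)

/-- A subalgebra containing the squares of all units is everything. -/
theorem eq_top_of_sq {c : k} (hc0 : c ≠ 0) (hc1 : c * c ≠ 1) (h2 : (2 : k) ≠ 0) :
    ∀ (n : ℕ) (R : Type u) [CommRing R] [Algebra k R] [FiniteDimensional k R], Module.finrank k R = n →
      ∀ S : Subalgebra k R, (∀ a : R, IsUnit a → a * a ∈ S) → S = ⊤ := by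
  intro n
  induction n using Nat.strong_induction_on with
  | _ n ih =>
    intro R _ _ _ hn S hS
    classical
    have h4 : (4 : k) ≠ 0 := by
      rw [show (4 : k) = 2 * 2 by norm_num]; exact mul_ne_zero h2 h2
    by_cases hf : ∀ x : R, x ≠ 0 → IsUnit x
    · refine Algebra.eq_top_iff.2 fun x => ?_
      have hsq : ∀ y : R, y * y ∈ S := fun y => by
        by_cases hy : y = 0
        · rw [hy, mul_zero]; exact zero_mem S
        · exact hS y (hf y hy)
      have h := sub_mem (hsq (x + 1)) (hsq (x - 1))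
      rw [show (x + 1) * (x + 1) - (x - 1) * (x - 1) = (4 : k) • x by
        rw [Algebra.smul_def, map_ofNat]; ring] at h
      simpa [smul_smul, inv_mul_cancel₀ h4] using S.smul_mem h (4 : k)⁻¹
    push Not at hf
    obtain ⟨x, hx0, hxu⟩ := hf
    obtain ⟨j, hj, hju⟩ := exists_minGen k hx0 hxu
    obtain ⟨I, hI⟩ : ∃ I, I = Ideal.span {j} := ⟨_, rfl⟩
    have hI0 : I ≠ ⊥ := by simpa [hI, Ideal.span_singleton_eq_bot] using hj.1
    obtain ⟨π, hπ⟩ : ∃ π, π = Ideal.Quotient.mkₐ k I := ⟨_, rfl⟩
    have hlift : ∀ a : R ⧸ I, IsUnit a → ∃ a' : R, IsUnit a' ∧ π a' = a := by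
      intro a ha
      obtain ⟨a', rfl⟩ := Ideal.Quotient.mkₐ_surjective k I a
      obtain ⟨b, hb⟩ := ha.exists_left_inv
      obtain ⟨b', rfl⟩ := Ideal.Quotient.mkₐ_surjective k I b
      have hb' : b' * a' - 1 ∈ I := by
        rw [← Ideal.Quotient.mk_eq_mk_iff_sub_mem]
        simpa using hb
      rw [hI] at hb'
      by_cases ha0 : a' * j = 0
      · -- move off the annihilator
        by_cases hjj : j * j = 0
        · exfalso
          obtain ⟨e, he⟩ := Ideal.mem_span_singleton'.1 hb'
          exact hj.1 (by linear_combination b' * ha0 - e * hjj + j * he)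
        · refine ⟨a' + j, hj.isUnit_of (w := b') ?_ ?_, ?_⟩
          · rw [show b' * (a' + j) - 1 = (b' * a' - 1) + b' * j by ring]
            exact add_mem hb' (Ideal.mul_mem_left _ _ (Ideal.mem_span_singleton_self j))
          · rw [add_mul, ha0, zero_add]; exact hjj
          · rw [map_add, hπ, show (Ideal.Quotient.mkₐ k I) j = 0 from
              Ideal.Quotient.eq_zero_iff_mem.2 (hI ▸ Ideal.mem_span_singleton_self j), add_zero]
      · exact ⟨a', hj.isUnit_of hb' ha0, hπ ▸ rfl⟩
    have hmap : S.map π = ⊤ := by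
      refine ih _ (hn ▸ finrank_quotient_lt k hI0) (R ⧸ I) rfl _ fun a ha => ?_
      obtain ⟨a', ha', rfl⟩ := hlift a ha
      exact ⟨a' * a', hS a' ha', map_mul π a' a'⟩
    -- the minimal ideal lies in `S`
    have hne : ∃ i ∈ I, i ∈ S ∧ i ≠ 0 := by
      by_cases hjj : j * j = 0
      · have hu : IsUnit (1 + j) := by
          refine IsUnit.of_mul_eq_one (1 - j) ?_
          linear_combination -hjj
        have h := sub_mem (hS _ hu) (one_mem S)
        rw [show (1 + j) * (1 + j) - 1 = (2 : k) • j by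
          rw [Algebra.smul_def, map_ofNat]; linear_combination hjj] at h
        refine ⟨j, hI ▸ Ideal.mem_span_singleton_self j, ?_, hj.1⟩
        simpa [smul_smul, inv_mul_cancel₀ h2] using S.smul_mem h (2 : k)⁻¹
      · obtain ⟨f, hf⟩ := hj.2 j hjj
        have hm : f * j ∈ I := hI ▸ Ideal.mul_mem_left _ _ (Ideal.mem_span_singleton_self j)
        have hfj : (f * j) * j = j := by rw [mul_assoc]; exact hf
        obtain ⟨d, hd⟩ : ∃ d, d = algebraMap k R c := ⟨_, rfl⟩
        have hdu : IsUnit (1 + (d - 1) * (f * j)) := by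
          refine IsUnit.of_mul_eq_one (1 + (algebraMap k R c⁻¹ - 1) * (f * j)) ?_
          have e : d * algebraMap k R c⁻¹ = 1 := by rw [hd, ← map_mul, mul_inv_cancel₀ hc0, map_one]
          linear_combination (f * j) * e + ((d - 1) * (algebraMap k R c⁻¹ - 1) * f) * hfj
        have h := sub_mem (hS _ hdu) (one_mem S)
        rw [show (1 + (d - 1) * (f * j)) * (1 + (d - 1) * (f * j)) - 1 = (d * d - 1) * (f * j) by
          linear_combination ((d - 1) * (d - 1) * f) * hfj] at h
        refine ⟨(d * d - 1) * (f * j), Ideal.mul_mem_left _ _ hm, h, fun e => ?_⟩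
        rw [hd, ← map_mul, ← map_one (algebraMap k R), ← map_sub, ← Algebra.smul_def, smul_eq_zero] at e
        rcases e with e | e
        · exact hc1 (sub_eq_zero.1 e)
        · rw [e, zero_mul] at hfj; exact hj.1 hfj.symm
    obtain ⟨i, hiI, hiS, hi0⟩ := hne
    have hIS : ∀ y ∈ I, y ∈ S := by
      intro y hy
      rw [hI] at hy hiI
      obtain ⟨a, rfl⟩ := Ideal.mem_span_singleton'.1 hy
      obtain ⟨b, rfl⟩ := Ideal.mem_span_singleton'.1 hiI
      obtain ⟨b', hb'⟩ := hj.2 b hi0
      obtain ⟨s, hs, he⟩ : π (a * b') ∈ S.map π := hmap ▸ trivial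
      -- elements of `S` multiply the ideal as their classes do
      by_cases hjj : j * j = 0
      · have hsub : s - a * b' ∈ I := by
          rw [← Ideal.Quotient.mk_eq_mk_iff_sub_mem]
          rw [hπ] at he
          exact he
        rw [hI] at hsub
        have h0 : (s - a * b') * (b * j) = 0 :=
          IsMinGen.mul_eq_zero_of_sq hjj hsub (Ideal.mul_mem_left _ _ (Ideal.mem_span_singleton_self j))
        have e : a * j = s * (b * j) := by linear_combination (-a) * hb' - h0
        rw [e]; exact mul_mem hs hiS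
      · -- the square of a unit with the right component
        have key : ∀ y : R, y * y * (b * j) ∈ S := by
          intro y
          by_cases hy : y * j = 0
          · rw [show y * y * (b * j) = y * b * (y * j) by ring, hy, mul_zero]; exact zero_mem S
          obtain ⟨f, hf⟩ := hj.2 j hjj
          have hfj : (f * j) * j = j := by rw [mul_assoc]; exact hf
          have hu : IsUnit (1 + (y - 1) * (f * j)) := by
            refine hj.isUnit_of (w := 1) ?_ ?_
            · rw [one_mul, add_sub_cancel_left, ← mul_assoc]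
              exact Ideal.mul_mem_left _ _ (Ideal.mem_span_singleton_self j)
            · rw [show (1 + (y - 1) * (f * j)) * j = y * j by linear_combination (y - 1) * hfj]
              exact hy
          have := mul_mem (hS _ hu) hiS
          have e : (1 + (y - 1) * (f * j)) * (1 + (y - 1) * (f * j)) * (b * j) = y * y * (b * j) := by
            linear_combination (b * (y - 1) * (2 + (y - 1) * (f * j) + (y - 1))) * hfj
          rwa [e] at this
        have := sub_mem (key (a * b' + 1)) (key (a * b' - 1))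
        rw [show (a * b' + 1) * (a * b' + 1) * (b * j) - (a * b' - 1) * (a * b' - 1) * (b * j) =
          (4 : k) • (a * j) by
            rw [Algebra.smul_def, map_ofNat]; linear_combination (4 * a) * hb'] at this
        simpa [smul_smul, inv_mul_cancel₀ h4] using S.smul_mem this (4 : k)⁻¹
    refine Algebra.eq_top_iff.2 fun y => ?_
    obtain ⟨s, hs, he⟩ : π y ∈ S.map π := hmap ▸ trivial
    have hm : s - y ∈ I := by
      rw [← Ideal.Quotient.mk_eq_mk_iff_sub_mem]
      rw [hπ] at he
      exact he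
    have := S.sub_mem hs (hIS _ hm)
    rwa [sub_sub_cancel] at this

end Cfsg.Agent.Fus.RingSL
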