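import Mathlib
import Cfsg.Agent.Lib.Fus.RingSLBasic
import Cfsg.Agent.Lib.Fus.RingSLMinimal

/-!
The inductive step for the generation of `SL(2, R)` by two one-parameter families.
-/

set_option autoImplicit false
set_option linter.unusedSectionVars false

namespace Cfsg.Agent.Fus.RingSL

open Matrix

universe u v

variable {k : Type v} [Field k] {R : Type u} [CommRing R] [Algebra k R] [FiniteDimensional k R]

local notation "SL₂" => Matrix.SpecialLinearGroup (Fin 2) R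

/-- The image in a quotient. -/
theorem map_adjR (J : Ideal R) (z : Rˣ) :
    (adjR k z).map (Matrix.SpecialLinearGroup.map (Ideal.Quotient.mk J)) =
      adjR k (Units.map (Ideal.Quotient.mk J).toMonoidHom z) := by
  have hu : ∀ t : R, Matrix.SpecialLinearGroup.map (Ideal.Quotient.mk J) (up t) = up (Ideal.Quotient.mk J t) :=
    fun t => by refine ext4 ?_ ?_ ?_ ?_ <;> simp
  have hl : ∀ t : R, Matrix.SpecialLinearGroup.map (Ideal.Quotient.mk J) (low t) = low (Ideal.Quotient.mk J t) :=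
    fun t => by refine ext4 ?_ ?_ ?_ ?_ <;> simp
  rw [adjR, MonoidHom.map_closure, adjR]
  congr 1
  ext g
  constructor
  · rintro ⟨_, (⟨c, rfl⟩ | ⟨c, rfl⟩), rfl⟩
    · exact Or.inl ⟨c, by rw [hu]; rfl⟩
    · exact Or.inr ⟨c, by rw [hl, map_mul]; rfl⟩
  · rintro (⟨c, rfl⟩ | ⟨c, rfl⟩)
    · exact ⟨_, Or.inl ⟨c, rfl⟩, by rw [hu]; rfl⟩
    · exact ⟨_, Or.inr ⟨c, rfl⟩, by rw [hl, map_mul]; rfl⟩

/-- The generation property of the quotient by `J`. -/
def Lifts (k : Type v) [Field k] [Algebra k R] (z : Rˣ) (J : Ideal R) : Prop :=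
  ∀ a : R ⧸ J, up a ∈ adjR k (Units.map (Ideal.Quotient.mk J).toMonoidHom z) ∧
    low a ∈ adjR k (Units.map (Ideal.Quotient.mk J).toMonoidHom z)

theorem exists_lift {z : Rˣ} {J : Ideal R} {g' : Matrix.SpecialLinearGroup (Fin 2) (R ⧸ J)}
    (h : g' ∈ adjR k (Units.map (Ideal.Quotient.mk J).toMonoidHom z)) :
    ∃ g ∈ adjR k z, ∀ i l : Fin 2, Ideal.Quotient.mk J (g.1 i l) = g'.1 i l := by
  rw [← map_adjR] at h
  obtain ⟨g, hg, rfl⟩ := h
  exact ⟨g, hg, fun i l => rfl⟩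

theorem exists_lift_up {z : Rˣ} {J : Ideal R} (hL : Lifts k z J) (a : R) :
    ∃ g ∈ adjR k z, g.1 0 0 - 1 ∈ J ∧ g.1 0 1 - a ∈ J ∧ g.1 1 0 ∈ J ∧ g.1 1 1 - 1 ∈ J := by
  obtain ⟨g, hg, he⟩ := exists_lift (hL (Ideal.Quotient.mk J a)).1
  refine ⟨g, hg, ?_, ?_, ?_, ?_⟩
  · rw [← Ideal.Quotient.mk_eq_mk_iff_sub_mem]; simpa using he 0 0
  · rw [← Ideal.Quotient.mk_eq_mk_iff_sub_mem]; simpa using he 0 1
  · rw [← Ideal.Quotient.eq_zero_iff_mem]; simpa using he 1 0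
  · rw [← Ideal.Quotient.mk_eq_mk_iff_sub_mem]; simpa using he 1 1

theorem diag_eq {S : Type*} [CommRing S] (a b : S) (hab : a * b = 1) :
    ∃ d : Matrix.SpecialLinearGroup (Fin 2) S, d.1 = !![a, 0; 0, b] ∧
      d = up a * low (-b) * up a * (up (-1) * low 1 * up (-1)) := by
  refine ⟨_, ?_, rfl⟩
  simp only [Matrix.SpecialLinearGroup.coe_mul, coe_up, coe_low]
  ext i l
  fin_cases i <;> fin_cases l <;> simp [Matrix.mul_apply, Fin.sum_univ_two]
  all_goals first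
    | linear_combination a * hab
    | linear_combination (-a) * hab
    | linear_combination hab
    | linear_combination -hab
    | linear_combination (0 : S) * hab

theorem exists_lift_dia {z : Rˣ} {J : Ideal R} (hL : Lifts k z J) {a b : R} (hab : a * b - 1 ∈ J) :
    ∃ g ∈ adjR k z, g.1 0 0 - a ∈ J ∧ g.1 0 1 ∈ J ∧ g.1 1 0 ∈ J ∧ g.1 1 1 - b ∈ J := by
  obtain ⟨π, hπ⟩ : ∃ π, π = Ideal.Quotient.mk J := ⟨_, rfl⟩
  have hab' : π a * π b = 1 := by
    rw [hπ, ← map_mul, ← map_one (Ideal.Quotient.mk J)]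
    exact (Ideal.Quotient.mk_eq_mk_iff_sub_mem _ _).2 hab
  obtain ⟨d, hd, hdd⟩ := diag_eq (π a) (π b) hab'
  have hmem : d ∈ adjR k (Units.map (Ideal.Quotient.mk J).toMonoidHom z) := by
    rw [hdd]
    exact mul_mem (mul_mem (mul_mem (hL _).1 (hL _).2) (hL _).1)
      (mul_mem (mul_mem (hL _).1 (hL _).2) (hL _).1)
  obtain ⟨g, hg, he⟩ := exists_lift hmem
  subst hπ
  refine ⟨g, hg, ?_, ?_, ?_, ?_⟩
  · rw [← Ideal.Quotient.mk_eq_mk_iff_sub_mem]; simpa [hd] using he 0 0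
  · rw [← Ideal.Quotient.eq_zero_iff_mem]; simpa [hd] using he 0 1
  · rw [← Ideal.Quotient.eq_zero_iff_mem]; simpa [hd] using he 1 0
  · rw [← Ideal.Quotient.mk_eq_mk_iff_sub_mem]; simpa [hd] using he 1 1

/-- An element congruent to the identity modulo `J`. -/
def Ker (J : Ideal R) (g : SL₂) : Prop := Matrix.SpecialLinearGroup.map (Ideal.Quotient.mk J) g = 1

theorem ker_iff {J : Ideal R} {g : SL₂} :
    Ker J g ↔ g.1 0 0 - 1 ∈ J ∧ g.1 0 1 ∈ J ∧ g.1 1 0 ∈ J ∧ g.1 1 1 - 1 ∈ J := by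
  constructor
  · intro h
    have he : ∀ i l : Fin 2, Ideal.Quotient.mk J (g.1 i l) = (1 : Matrix (Fin 2) (Fin 2) (R ⧸ J)) i l :=
      fun i l => congrArg (fun M : Matrix.SpecialLinearGroup (Fin 2) (R ⧸ J) => M.1 i l) h
    refine ⟨?_, ?_, ?_, ?_⟩
    · rw [← Ideal.Quotient.mk_eq_mk_iff_sub_mem]; simpa using he 0 0
    · rw [← Ideal.Quotient.eq_zero_iff_mem]; simpa using he 0 1
    · rw [← Ideal.Quotient.eq_zero_iff_mem]; simpa using he 1 0
    · rw [← Ideal.Quotient.mk_eq_mk_iff_sub_mem]; simpa using he 1 1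
  · rintro ⟨h1, h2, h3, h4⟩
    refine ext4 ?_ ?_ ?_ ?_ <;> simp
    · simpa using (Ideal.Quotient.mk_eq_mk_iff_sub_mem _ _).2 h1
    · exact Ideal.Quotient.eq_zero_iff_mem.2 h2
    · exact Ideal.Quotient.eq_zero_iff_mem.2 h3
    · simpa using (Ideal.Quotient.mk_eq_mk_iff_sub_mem _ _).2 h4

/-- `U` contains `I`: then everything is generated. -/
theorem upSub_eq_top_of_le {z : Rˣ} {j : R} (hj : IsMinGen j) (hju : ¬ IsUnit j)
    (hL : Lifts k z (Ideal.span {j})) (hI : ∀ i ∈ Ideal.span {j}, i ∈ upSub k z) (a : R) : a ∈ upSub k z := by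
  obtain ⟨I, hIdef⟩ : ∃ I, I = Ideal.span {j} := ⟨_, rfl⟩
  rw [← hIdef] at hL hI
  have hlow : ∀ i ∈ I, low i ∈ adjR k z := by
    intro i hi
    have h := (low_mem_iff (k := k) (z := z) (t := ((z⁻¹ : Rˣ) : R) * i)).2 (hI _ (I.mul_mem_left _ hi))
    rwa [← mul_assoc, Units.mul_inv, one_mul] at h
  obtain ⟨g, hg, h00, h01, h10, h11⟩ := exists_lift_up hL a
  -- make the corner entry a unit
  obtain ⟨i, hi, hu⟩ : ∃ i ∈ I, IsUnit (g.1 1 1 + g.1 1 0 * i) := by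
    have hmod : ∀ i ∈ I, (1 : R) * (g.1 1 1 + g.1 1 0 * i) - 1 ∈ Ideal.span {j} := by
      intro i hi
      rw [← hIdef, one_mul, add_sub_right_comm]
      exact I.add_mem h11 (I.mul_mem_left _ hi)
    by_cases hs : g.1 1 1 * j = 0
    · refine ⟨j, hIdef ▸ Ideal.mem_span_singleton_self j, hj.isUnit_of (hmod j (hIdef ▸ Ideal.mem_span_singleton_self j)) ?_⟩
      have hd := det_eq g
      have hr : g.1 1 0 * j ≠ 0 := fun e => hj.1 (by
        linear_combination (-j) * hd + g.1 0 0 * hs - g.1 0 1 * e)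
      have hjj : j * j ≠ 0 := fun e => hr (by
        obtain ⟨c, hc⟩ := Ideal.mem_span_singleton'.1 (hIdef ▸ h10)
        rw [← hc, mul_assoc, e, mul_zero])
      rw [add_mul, hs, zero_add]
      exact hj.mul_ne hr hjj
    · exact ⟨0, I.zero_mem, hj.isUnit_of (hmod 0 I.zero_mem) (by rwa [mul_zero, add_zero])⟩
  obtain ⟨w, hw⟩ := hu.exists_right_inv
  obtain ⟨g', hg'⟩ : ∃ g', g' = g * up i * low (-(g.1 1 0) * w) := ⟨_, rfl⟩
  have hg'mem : g' ∈ adjR k z := by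
    rw [hg']
    exact mul_mem (mul_mem hg (hI i hi)) (hlow _ (I.mul_mem_right _ (I.neg_mem h10)))
  have e10 : g'.1 1 0 = 0 := by
    rw [hg']; simp [Matrix.SpecialLinearGroup.coe_mul, Matrix.mul_apply, Fin.sum_univ_two]
    linear_combination (-g.1 1 0) * hw
  have e01 : g'.1 0 1 = g.1 0 0 * i + g.1 0 1 := by
    rw [hg']; simp [Matrix.SpecialLinearGroup.coe_mul, Matrix.mul_apply, Fin.sum_univ_two]
  have e11 : g'.1 1 1 = g.1 1 1 + g.1 1 0 * i := by
    rw [hg']; simp [Matrix.SpecialLinearGroup.coe_mul, Matrix.mul_apply, Fin.sum_univ_two]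
    ring
  -- the diagonal part
  have hd' := det_eq g'
  rw [e10, mul_zero, sub_zero, e11] at hd'
  obtain ⟨δ, hδ⟩ : ∃ δ, δ = g'.1 0 0 := ⟨_, rfl⟩
  rw [← hδ] at hd'
  obtain ⟨s, hs⟩ : ∃ s, s = g.1 1 1 + g.1 1 0 * i := ⟨_, rfl⟩
  rw [← hs] at hd' e11
  have hs1 : s - 1 ∈ I := by
    rw [hs, add_sub_right_comm]; exact I.add_mem h11 (I.mul_mem_left _ hi)
  have hδ1 : δ - 1 ∈ I := by
    rw [show δ - 1 = -(δ * (s - 1)) by linear_combination hd']
    exact I.neg_mem (I.mul_mem_left _ hs1)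
  obtain ⟨x, hx⟩ : ∃ x, x = (δ - 1) * ((z⁻¹ : Rˣ) : R) := ⟨_, rfl⟩
  have hxI : x ∈ I := hx ▸ I.mul_mem_right _ hδ1
  have hsU : -s ∈ upSub k z := by
    have := (upSub k z).sub_mem (hI _ (I.neg_mem hs1)) (one_mem_upSub z)
    rwa [show -(s - 1) - 1 = -s by ring] at this
  have hz1 : low ((z : R)) ∈ adjR k z := by
    have := low_mem (k := k) z 1
    rwa [map_one, one_mul] at this
  obtain ⟨d, hdd⟩ : ∃ d, d = low ((z : R) * -s) * (up x * low (z : R)) * up (-(x * s)) := ⟨_, rfl⟩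
  have hdmem : d ∈ adjR k z := by
    rw [hdd]
    exact mul_mem (mul_mem (low_mem_iff.2 hsU) (mul_mem (hI x hxI) hz1))
      (hI _ (I.neg_mem (I.mul_mem_right _ hxI)))
  have hxz : x * (z : R) = δ - 1 := by rw [hx, mul_assoc, Units.inv_mul, mul_one]
  have hd00 : d.1 0 0 = δ := by
    rw [hdd]; simp [Matrix.SpecialLinearGroup.coe_mul, Matrix.mul_apply, Fin.sum_univ_two]
    linear_combination hxz
  have hd01 : d.1 0 1 = 0 := by
    rw [hdd]; simp [Matrix.SpecialLinearGroup.coe_mul, Matrix.mul_apply, Fin.sum_univ_two]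
    linear_combination (-(x * s)) * hxz - x * hd'
  have hd10 : d.1 1 0 = 0 := by
    rw [hdd]; simp [Matrix.SpecialLinearGroup.coe_mul, Matrix.mul_apply, Fin.sum_univ_two]
    linear_combination (-(z : R) * s) * hxz - (z : R) * hd'
  have hfin : d⁻¹ * g' ∈ adjR k z := mul_mem (inv_mem hdmem) hg'mem
  have hd11 : d.1 1 1 = s := by
    have := det_eq d
    rw [hd00, hd01, hd10, mul_zero, sub_zero] at this
    linear_combination s * this - d.1 1 1 * hd'
  have hq : d⁻¹ * g' = up (s * g'.1 0 1) := by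
    rw [inv_mul_eq_iff_eq_mul]
    refine ext4 ?_ ?_ ?_ ?_ <;>
      simp [Matrix.SpecialLinearGroup.coe_mul, Matrix.mul_apply, Fin.sum_univ_two, hd00, hd01, hd10, hd11,
        e10, e11, hδ]
    linear_combination (-g'.1 0 1) * hd' + g'.1 0 1 * s * hδ
  rw [hq] at hfin
  have hdiff : s * g'.1 0 1 - a ∈ I := by
    rw [e01, show s * (g.1 0 0 * i + g.1 0 1) - a =
      (s * g.1 0 0) * i + (s - 1) * g.1 0 1 + (g.1 0 1 - a) by ring]
    exact I.add_mem (I.add_mem (I.mul_mem_left _ hi) (I.mul_mem_right _ hs1)) h01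
  have := (upSub k z).sub_mem (show s * g'.1 0 1 ∈ upSub k z from hfin) (hI _ hdiff)
  rwa [sub_sub_cancel] at this

end Cfsg.Agent.Fus.RingSL
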