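import Mathlib
import Cfsg.Agent.Lib.Fus.RingSLStep

/-!
The minimal ideal lies in the translation space, or the congruence subgroup is central.
-/

set_option autoImplicit false
set_option linter.unusedSectionVars false

namespace Cfsg.Agent.Fus.RingSL

open Matrix

universe u v

variable {k : Type v} [Field k] {R : Type u} [CommRing R] [Algebra k R] [FiniteDimensional k R]

local notation "SL₂" => Matrix.SpecialLinearGroup (Fin 2) R

/-- The annihilator of `j`. -/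
def ann (j : R) : Ideal R := LinearMap.ker (LinearMap.toSpanSingleton R R j)

theorem mem_ann {j a : R} : a ∈ ann j ↔ a * j = 0 := by simp [ann, LinearMap.toSpanSingleton_apply]

/-- A nonzero translation in the minimal ideal gives all of them. -/
theorem le_upSub {z : Rˣ} {j : R} (hj : IsMinGen j) (h2 : (2 : k) ≠ 0) (hA : Lifts k z (ann j))
    {i : R} (hi : i ∈ Ideal.span {j}) (hiU : i ∈ upSub k z) (hi0 : i ≠ 0) :
    ∀ y ∈ Ideal.span {j}, y ∈ upSub k z := by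
  obtain ⟨e, rfl⟩ := Ideal.mem_span_singleton'.1 hi
  obtain ⟨b, hb⟩ := hj.2 e hi0
  have key : ∀ a : R, a * a * (e * j) ∈ upSub k z := by
    intro a
    by_cases ha : a * j = 0
    · rw [show a * a * (e * j) = a * e * (a * j) by ring, ha, mul_zero]; exact zero_mem _
    obtain ⟨a', ha'⟩ := hj.2 a ha
    obtain ⟨h, hh, h00, -, h10, -⟩ := exists_lift_dia hA (a := a) (b := a') (mem_ann.2 (by
      linear_combination ha'))
    rw [mem_ann] at h00 h10
    have e0 : h * up (e * j) * h⁻¹ = up (a * a * (e * j)) := by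
      refine Subtype.ext ?_
      rw [conj_up, coe_up, show h.1 0 0 * h.1 1 0 * (e * j) = 0 by linear_combination h.1 0 0 * e * h10,
        show h.1 1 0 * h.1 1 0 * (e * j) = 0 by linear_combination h.1 1 0 * e * h10,
        show h.1 0 0 * h.1 0 0 * (e * j) = a * a * (e * j) by linear_combination (h.1 0 0 + a) * e * h00]
      simp
    have := mul_mem (mul_mem hh (show up (e * j) ∈ adjR k z from hiU)) (inv_mem hh)
    rwa [e0] at this
  intro y hy
  obtain ⟨d, rfl⟩ := Ideal.mem_span_singleton'.1 hy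
  have h4 : (4 : k) ≠ 0 := by
    rw [show (4 : k) = 2 * 2 by norm_num]; exact mul_ne_zero h2 h2
  have := (upSub k z).sub_mem (key (d * b + 1)) (key (d * b - 1))
  rw [show (d * b + 1) * (d * b + 1) * (e * j) - (d * b - 1) * (d * b - 1) * (e * j) = (4 : k) • (d * j) by
    rw [Algebra.smul_def, map_ofNat]; linear_combination (4 * d) * hb] at this
  simpa [smul_smul, inv_mul_cancel₀ h4] using (upSub k z).smul_mem (4 : k)⁻¹ this

/-- A scalar matrix `± 1`. -/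
def IsSign (n : SL₂) : Prop :=
  n.1 0 1 = 0 ∧ n.1 1 0 = 0 ∧ n.1 1 1 = n.1 0 0 ∧ n.1 0 0 * n.1 0 0 = 1

/-- An upper triangular element of the congruence subgroup is a sign. -/
theorem isSign_of_upper {z : Rˣ} {I : Ideal R} (h2 : (2 : k) ≠ 0)
    (hU : ∀ i ∈ I, i ∈ upSub k z → i = 0) {n : SL₂} (hn : n ∈ adjR k z) (hK : Ker I n) (h10 : n.1 1 0 = 0) :
    IsSign n := by
  obtain ⟨h00, h01, -, -⟩ := ker_iff.1 hK
  have e := conj_up_of_zero n h10 1
  rw [mul_one] at e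
  have h1 : up (1 : R) ∈ adjR k z := one_mem_upSub (k := k) z
  have hp : n.1 0 0 * n.1 0 0 - 1 = 0 := by
    refine hU _ ?_ ?_
    · rw [show n.1 0 0 * n.1 0 0 - 1 = (n.1 0 0 + 1) * (n.1 0 0 - 1) by ring]
      exact I.mul_mem_left _ h00
    · refine (upSub k z).sub_mem ?_ (one_mem_upSub z)
      show up (n.1 0 0 * n.1 0 0) ∈ adjR k z
      rw [← e]
      exact mul_mem (mul_mem hn h1) (inv_mem hn)
  have hd := det_eq n
  rw [h10, mul_zero, sub_zero] at hd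
  have h11 : n.1 1 1 = n.1 0 0 := by linear_combination n.1 0 0 * hd - n.1 1 1 * hp
  refine ⟨?_, h10, h11, sub_eq_zero.1 hp⟩
  have hsq : n * n = up (2 * n.1 0 0 * n.1 0 1) := by
    refine ext4 ?_ ?_ ?_ ?_ <;>
      simp [Matrix.SpecialLinearGroup.coe_mul, Matrix.mul_apply, Fin.sum_univ_two, h10, h11]
    · exact sub_eq_zero.1 hp
    · ring
    · exact sub_eq_zero.1 hp
  have hq : (2 * n.1 0 0 * n.1 0 1) = 0 := by
    refine hU _ (I.mul_mem_left _ h01) ?_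
    show up _ ∈ adjR k z
    rw [← hsq]
    exact mul_mem hn hn
  have h2' : IsUnit (2 : R) := by
    rw [← map_ofNat (algebraMap k R) 2]
    exact (Ne.isUnit h2).map _
  refine (h2'.mul_right_eq_zero).1 ?_
  linear_combination n.1 0 0 * hq - 2 * n.1 0 1 * hp

theorem flip_ker {I : Ideal R} (z : Rˣ) {n : SL₂} (hK : Ker I n) : Ker I (flip z n) := by
  obtain ⟨a, b, c, d⟩ := ker_iff.1 hK
  refine ker_iff.2 ?_
  simp only [coe_flip]
  exact ⟨by simpa using d, by simpa using c, by simpa using b, by simpa using a⟩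

theorem isSign_of_lower {z : Rˣ} {I : Ideal R} (h2 : (2 : k) ≠ 0)
    (hU : ∀ i ∈ I, i ∈ upSub k z → i = 0) {n : SL₂} (hn : n ∈ adjR k z) (hK : Ker I n) (h01 : n.1 0 1 = 0) :
    IsSign n := by
  obtain ⟨a, b, c, d⟩ := isSign_of_upper h2 hU (flip_mem hn) (flip_ker z hK)
    (by rw [coe_flip]; simp [h01])
  simp [coe_flip] at a b c d
  refine ⟨h01, a, c.symm, ?_⟩
  rw [c]; exact d

theorem ker_comm {I : Ideal R} {n : SL₂} (hK : Ker I n) (g : SL₂) : Ker I (g * n * g⁻¹ * n⁻¹) := by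
  simp only [Ker, map_mul, map_inv] at hK ⊢
  rw [hK]; simp

theorem ker_conj {I : Ideal R} {n : SL₂} (hK : Ker I n) (g : SL₂) : Ker I (g * n * g⁻¹) := by
  simp only [Ker, map_mul, map_inv] at hK ⊢
  rw [hK]; simp

/-- If the translation space misses the minimal ideal, the congruence subgroup consists of signs. -/
theorem isSign_of_ker {z : Rˣ} {j : R} (hj : IsMinGen j) (h2 : (2 : k) ≠ 0) {c : k} (hc0 : c ≠ 0)
    (hc1 : c * c ≠ 1) (hA : Lifts k z (ann j))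
    (hU : ∀ i ∈ Ideal.span {j}, i ∈ upSub k z → i = 0) {n : SL₂} (hn : n ∈ adjR k z)
    (hK : Ker (Ideal.span {j}) n) : IsSign n := by
  obtain ⟨I, hI⟩ : ∃ I, I = Ideal.span {j} := ⟨_, rfl⟩
  obtain ⟨h00, h01, h10, h11⟩ := ker_iff.1 hK
  refine isSign_of_upper h2 hU hn hK ?_
  by_contra hr
  -- first reduce to `j * j ≠ 0`
  by_cases hjj : j * j = 0
  · have hr2 : n.1 1 0 * n.1 1 0 = 0 := IsMinGen.mul_eq_zero_of_sq hjj h10 h10
    have h1 : up (1 : R) ∈ adjR k z := one_mem_upSub (k := k) z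
    have hm : n * up 1 * n⁻¹ * (up (1 : R))⁻¹ ∈ adjR k z :=
      mul_mem (mul_mem (mul_mem hn h1) (inv_mem hn)) (inv_mem h1)
    have hK' : Ker (Ideal.span {j}) (n * up 1 * n⁻¹ * (up (1 : R))⁻¹) := by
      have := ker_comm hK (up (1 : R))
      have e : n * up 1 * n⁻¹ * (up (1 : R))⁻¹ = (up 1 * n * (up 1)⁻¹ * n⁻¹)⁻¹ := by group
      rw [Ker, e, map_inv, this, inv_one]
    obtain ⟨m, hmdef⟩ : ∃ m, m = n * up 1 * n⁻¹ * (up (1 : R))⁻¹ := ⟨_, rfl⟩
    rw [← hmdef] at hm hK'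
    have hmv : m.1 = !![1 - n.1 0 0 * n.1 1 0 * 1, n.1 0 0 * n.1 0 0 * 1;
        -(n.1 1 0 * n.1 1 0 * 1), 1 + n.1 0 0 * n.1 1 0 * 1] * !![1, -1; 0, 1] := by
      rw [hmdef, Matrix.SpecialLinearGroup.coe_mul, conj_up, up_inv, coe_up]
    obtain ⟨q, w, e, f⟩ := isSign_of_upper h2 hU hm hK' (by rw [hmv]; simp [Matrix.mul_apply, Fin.sum_univ_two, hr2])
    rw [hmv] at e
    simp [Matrix.mul_apply, Fin.sum_univ_two, hr2] at e
    have h2' : IsUnit (2 : R) := by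
      rw [← map_ofNat (algebraMap k R) 2]
      exact (Ne.isUnit h2).map _
    have hpr : n.1 0 0 * n.1 1 0 = 0 := (h2'.mul_right_eq_zero).1 (by linear_combination e)
    exact hr (by linear_combination (-n.1 1 0) * det_eq n + n.1 1 1 * hpr - n.1 0 1 * hr2)
  -- the image modulo the annihilator
  have hrA : n.1 1 0 * j ≠ 0 := hj.mul_self_ne h10 hr hjj
  obtain ⟨d, hd⟩ : ∃ d : k, d ≠ 0 ∧
      (2 + algebraMap k R (d * d) * (n.1 1 0 * n.1 1 0)) * j ≠ 0 := by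
    by_contra h
    push Not at h
    have e1 := h 1 one_ne_zero
    have e2 := h c hc0
    rw [mul_one, map_one] at e1
    have e : algebraMap k R (c * c - 1) * (n.1 1 0 * n.1 1 0 * j) = 0 := by
      rw [map_sub, map_one]; linear_combination e2 - e1
    rw [← Algebra.smul_def, smul_eq_zero, sub_eq_zero] at e
    rcases e with e | e
    · exact hc1 e
    · exact hj.mul_ne hrA hrA e
  obtain ⟨hd0, hdt⟩ := hd
  obtain ⟨t, ht⟩ : ∃ t, t = algebraMap k R d := ⟨_, rfl⟩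
  rw [map_mul, ← ht] at hdt
  have hut : up t ∈ adjR k z := ht ▸ up_mem z d
  obtain ⟨m, hm⟩ : ∃ m, m = n * up t * n⁻¹ * (up t)⁻¹ := ⟨_, rfl⟩
  have hmmem : m ∈ adjR k z := hm ▸ mul_mem (mul_mem (mul_mem hn hut) (inv_mem hn)) (inv_mem hut)
  have hmK : Ker (Ideal.span {j}) m := by
    have := ker_comm hK (up t)
    rw [Ker, hm, show n * up t * n⁻¹ * (up t)⁻¹ = (up t * n * (up t)⁻¹ * n⁻¹)⁻¹ by group, map_inv, this, inv_one]
  have hmv : m.1 = !![1 - n.1 0 0 * n.1 1 0 * t, n.1 0 0 * n.1 0 0 * t;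
      -(n.1 1 0 * n.1 1 0 * t), 1 + n.1 0 0 * n.1 1 0 * t] * !![1, -t; 0, 1] := by
    rw [hm, Matrix.SpecialLinearGroup.coe_mul, conj_up, up_inv, coe_up]
  obtain ⟨p, hp⟩ : ∃ p, p = m.1 0 0 := ⟨_, rfl⟩
  obtain ⟨q, hq⟩ : ∃ q, q = m.1 0 1 := ⟨_, rfl⟩
  obtain ⟨r, hr'⟩ : ∃ r, r = m.1 1 0 := ⟨_, rfl⟩
  obtain ⟨s, hs⟩ : ∃ s, s = m.1 1 1 := ⟨_, rfl⟩
  have hrv : r = -(n.1 1 0 * n.1 1 0 * t) := by
    rw [hr', hmv]; simp [Matrix.mul_apply, Fin.sum_univ_two]
  have htr : p + s = 2 + t * t * (n.1 1 0 * n.1 1 0) := by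
    rw [hp, hs, hmv]; simp [Matrix.mul_apply, Fin.sum_univ_two]; ring
  have htu : t * j ≠ 0 := by
    rw [ht, ← Algebra.smul_def]; exact smul_ne_zero hd0 hj.1
  have hrj : r * j ≠ 0 := by
    rw [hrv, neg_mul, neg_ne_zero]; exact hj.mul_ne (hj.mul_ne hrA hrA) htu
  obtain ⟨π, hπ⟩ : ∃ π, π = Ideal.Quotient.mk (ann j) := ⟨_, rfl⟩
  have hπ0 : ∀ {x : R}, x * j = 0 → π x = 0 := fun hx =>
    hπ ▸ Ideal.Quotient.eq_zero_iff_mem.2 (mem_ann.2 hx)
  obtain ⟨r', hr''⟩ := hj.2 r hrj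
  have hrr : π r' * π r = 1 := by
    rw [← map_mul, ← map_one π, ← sub_eq_zero, ← map_sub]
    exact hπ0 (by linear_combination hr'')
  obtain ⟨x, hx⟩ : ∃ x, x = -(p * r') := ⟨_, rfl⟩
  obtain ⟨g, hg, g00, g01, g10, g11⟩ := exists_lift_up hA x
  obtain ⟨a, ha⟩ : ∃ a, a = algebraMap k R c := ⟨_, rfl⟩
  obtain ⟨a', ha'⟩ : ∃ a', a' = algebraMap k R c⁻¹ := ⟨_, rfl⟩
  have haa : a * a' = 1 := by rw [ha, ha', ← map_mul, mul_inv_cancel₀ hc0, map_one]
  obtain ⟨h, hh, f00, f01, f10, f11⟩ := exists_lift_dia hA (a := a) (b := a') (by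
    rw [haa, sub_self]; exact zero_mem _)
  obtain ⟨n₃, hn₃⟩ : ∃ n₃, n₃ = g * m * g⁻¹ := ⟨_, rfl⟩
  obtain ⟨n₄, hn₄⟩ : ∃ n₄, n₄ = h * n₃ * h⁻¹ * n₃⁻¹ := ⟨_, rfl⟩
  have h3K : Ker (Ideal.span {j}) n₃ := hn₃ ▸ ker_conj hmK g
  have h4K : Ker (Ideal.span {j}) n₄ := hn₄ ▸ ker_comm h3K h
  have h3mem : n₃ ∈ adjR k z := hn₃ ▸ mul_mem (mul_mem hg hmmem) (inv_mem hg)
  have h4mem : n₄ ∈ adjR k z := hn₄ ▸ mul_mem (mul_mem (mul_mem hh h3mem) (inv_mem hh)) (inv_mem h3mem)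
  -- compute modulo the annihilator
  let F := Matrix.SpecialLinearGroup.map (n := Fin 2) π
  have hF : ∀ (y : SL₂) (i l : Fin 2), (F y).1 i l = π (y.1 i l) := fun y i l => rfl
  have hπeq : ∀ {u v : R}, u - v ∈ ann j → π u = π v := fun h =>
    hπ ▸ (Ideal.Quotient.mk_eq_mk_iff_sub_mem _ _).2 h
  have hπz : ∀ {u : R}, u ∈ ann j → π u = 0 := fun h => hπ0 (mem_ann.1 h)
  have e3 : (F n₃).1 = !![0, π q + π x * π s - π x * (π p + π x * π r); π r, π s - π x * π r] := by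
    rw [hn₃, map_mul, map_mul, map_inv, Matrix.SpecialLinearGroup.coe_mul, Matrix.SpecialLinearGroup.coe_mul,
      Matrix.SpecialLinearGroup.coe_inv, Matrix.adjugate_fin_two]
    ext i l
    fin_cases i <;> fin_cases l <;>
      simp [Matrix.mul_apply, Fin.sum_univ_two, hF, hπeq g00, hπeq g01, hπz g10, hπeq g11, ← hp, ← hq, ← hr', ← hs]
    · rw [hx, map_neg, map_mul]; linear_combination (-π p) * hrr
    · ring
    · ring
  have e4 : (F n₄).1 0 1 = 0 ∧
      (F n₄).1 1 0 = π r * (π s - π x * π r) * (π a' * π a' - 1) := by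
    have hd' : (F h).1 = !![π a, 0; 0, π a'] := by
      ext i l
      fin_cases i <;> fin_cases l <;> simp [hF, hπeq f00, hπz f01, hπz f10, hπeq f11]
    rw [hn₄, map_mul, map_mul, map_mul, map_inv, map_inv]
    simp only [Matrix.SpecialLinearGroup.coe_mul, Matrix.SpecialLinearGroup.coe_inv, Matrix.adjugate_fin_two,
      hd', e3]
    constructor <;> simp [Matrix.mul_apply, Fin.sum_univ_two]
    · have haa' : π a * π a' = 1 := by rw [← map_mul, haa, map_one]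
      linear_combination (-π r * (π s - π x * π r)) * haa'
  have hq0 : n₄.1 0 1 = 0 := by
    refine hj.eq_zero_of_mul (ker_iff.1 h4K).2.1 hjj ?_
    have := (hF n₄ 0 1).symm.trans e4.1
    rw [hπ] at this
    exact mem_ann.1 (Ideal.Quotient.eq_zero_iff_mem.1 this)
  obtain ⟨-, hr0, -, -⟩ := isSign_of_lower h2 hU h4mem h4K hq0
  have h0 : π r * (π s - π x * π r) * (π a' * π a' - 1) = 0 := by
    rw [← e4.2, hF, hr0, map_zero]
  have hts : π s - π x * π r = π (p + s) := by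
    rw [map_add, hx, map_neg, map_mul]; linear_combination π p * hrr
  rw [hts, ← map_mul, ← map_mul, ← map_one π, ← map_sub, ← map_mul] at h0
  rw [hπ] at h0
  have h0' := mem_ann.1 (Ideal.Quotient.eq_zero_iff_mem.1 h0)
  refine hj.mul_ne (hj.mul_ne hrj ?_) ?_ h0'
  · rw [htr]; exact hdt
  · rw [ha', ← map_mul, ← map_one (algebraMap k R), ← map_sub, ← Algebra.smul_def]
    refine smul_ne_zero ?_ hj.1
    rw [sub_ne_zero, ← mul_inv, Ne, inv_eq_one]
    exact hc1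

end Cfsg.Agent.Fus.RingSL
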