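import Mathlib

/-!
Orthogonal polynomials for the bilinear forms `(x, y) ↦ τ (w x y)` on a simple algebraic extension.
-/

set_option autoImplicit false

namespace Cfsg.Agent.Fus.AdjoinSL

open Polynomial

variable {k L : Type*} [Field k] [Field L] [Algebra k L] (pb : PowerBasis k L)

/-- The last coordinate in the power basis. -/
noncomputable def tauLin : L →ₗ[k] k :=
  pb.basis.coord ⟨pb.dim - 1, Nat.sub_lt pb.dim_pos one_pos⟩

theorem tau_pow {i : ℕ} (hi : i < pb.dim) :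
    tauLin pb (pb.gen ^ i) = if i = pb.dim - 1 then 1 else 0 := by
  classical
  have e : pb.gen ^ i = pb.basis ⟨i, hi⟩ := (pb.basis_eq_pow ⟨i, hi⟩).symm
  rw [e, tauLin, Module.Basis.coord_apply, pb.basis.repr_self_apply]
  simp [Fin.ext_iff]

theorem tau_top : tauLin pb (pb.gen ^ (pb.dim - 1)) = 1 := by
  rw [tau_pow pb (Nat.sub_lt pb.dim_pos one_pos), if_pos rfl]

theorem eq_zero_of_tau {x : L} (h : ∀ i < pb.dim, tauLin pb (x * pb.gen ^ i) = 0) : x = 0 := by
  by_contra hx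
  have h0 : (tauLin pb).comp (LinearMap.mulLeft k x) = 0 := pb.basis.ext fun i => by
    rw [pb.basis_eq_pow]; simpa using h i i.2
  have := LinearMap.congr_fun h0 (x⁻¹ * pb.gen ^ (pb.dim - 1))
  simp [← mul_assoc, mul_inv_cancel₀ hx, tau_top] at this

/-- Every functional is a translate of `τ`. -/
theorem exists_tau_eq (f : L →ₗ[k] k) : ∃ w, ∀ x, tauLin pb (w * x) = f x := by
  have := pb.finite
  have hinj : Function.Injective ((LinearMap.mul k L).compr₂ (tauLin pb)) := by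
    rw [← LinearMap.ker_eq_bot, LinearMap.ker_eq_bot']
    intro x hx
    exact eq_zero_of_tau pb fun i _ => LinearMap.congr_fun hx (pb.gen ^ i)
  obtain ⟨w, hw⟩ :=
    (LinearMap.injective_iff_surjective_of_finrank_eq_finrank Subspace.dual_finrank_eq.symm).mp hinj f
  exact ⟨w, fun x => LinearMap.congr_fun hw x⟩

/-- The Gram matrix of the first `j` powers. -/
noncomputable def gram (w : L) (j : ℕ) : Matrix (Fin j) (Fin j) k :=
  Matrix.of fun i l => tauLin pb (w * pb.gen ^ ((i : ℕ) + l))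

/-- Its determinant. -/
noncomputable def gdet (w : L) (j : ℕ) : k := (gram pb w j).det

theorem exists_gdet_ne {j : ℕ} (hj : j ≤ pb.dim) : ∃ w, gdet pb w j ≠ 0 := by
  classical
  rcases Nat.eq_zero_or_pos j with rfl | hpos
  · exact ⟨1, by simp [gdet, Matrix.det_fin_zero]⟩
  have hlt : j - 1 < pb.dim := by omega
  obtain ⟨w, hw⟩ := exists_tau_eq pb (pb.basis.coord ⟨j - 1, hlt⟩)
  refine ⟨w, fun h0 => ?_⟩
  have key : ∀ m : ℕ, m ≤ j - 1 → tauLin pb (w * pb.gen ^ m) = if m = j - 1 then 1 else 0 := by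
    intro m hm
    have e : pb.gen ^ m = pb.basis ⟨m, by omega⟩ := (pb.basis_eq_pow ⟨m, by omega⟩).symm
    rw [hw, e, Module.Basis.coord_apply, pb.basis.repr_self_apply]
    simp [Fin.ext_iff]
  have h1 : ((gram pb w j).submatrix id (Fin.revPerm : Equiv.Perm (Fin j))).det = 1 := by
    rw [Matrix.det_of_isLowerTriangular]
    · refine Finset.prod_eq_one fun i _ => ?_
      have : (i : ℕ) + (Fin.rev i : Fin j) = j - 1 := by simp [Fin.val_rev]; omega
      simp only [Matrix.submatrix_apply, id, Fin.revPerm_apply, gram, Matrix.of_apply, this]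
      rw [key _ le_rfl, if_pos rfl]
    · intro i l hil
      have hil' : (i : ℕ) < l := by simpa using hil
      have : (i : ℕ) + (Fin.rev l : Fin j) < j - 1 := by simp [Fin.val_rev]; omega
      simp only [Matrix.submatrix_apply, id, Fin.revPerm_apply, gram, Matrix.of_apply]
      rw [key _ this.le, if_neg this.ne]
  rw [Matrix.det_permute', show (gram pb w j).det = 0 from h0, mul_zero] at h1
  exact zero_ne_one h1

/-- A function that is a polynomial on every line. -/
def LinePoly (f : L → k) : Prop := ∀ a d : L, ∃ Q : k[X], ∀ t : k, Q.eval t = f (a + t • d)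

theorem linePoly_gdet (j : ℕ) : LinePoly (k := k) (fun w => gdet pb w j) := by
  intro a d
  refine ⟨(Matrix.of fun i l : Fin j => C (tauLin pb (a * pb.gen ^ ((i : ℕ) + l))) +
    X * C (tauLin pb (d * pb.gen ^ ((i : ℕ) + l)))).det, fun t => ?_⟩
  rw [← Polynomial.coe_evalRingHom, RingHom.map_det]
  refine congrArg Matrix.det (Matrix.ext fun i l => ?_)
  simp [gram, add_mul, map_add, map_smul, smul_eq_mul]
  ring

theorem LinePoly.mul {f g : L → k} (hf : LinePoly f) (hg : LinePoly g) :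
    LinePoly (fun w => f w * g w) := by
  intro a d
  obtain ⟨P, hP⟩ := hf a d
  obtain ⟨Q, hQ⟩ := hg a d
  exact ⟨P * Q, fun t => by rw [eval_mul, hP, hQ]⟩

theorem LinePoly.comp_mul {f : L → k} (hf : LinePoly f) (c : L) :
    LinePoly (fun w => f (c * w)) := by
  intro a d
  obtain ⟨P, hP⟩ := hf (c * a) (c * d)
  exact ⟨P, fun t => by simp only [hP, mul_add, mul_smul_comm]⟩

theorem exists_common [Infinite k] {f g : L → k} (hf : LinePoly f) (hg : LinePoly g)
    (hfw : ∃ w, f w ≠ 0) (hgw : ∃ w, g w ≠ 0) : ∃ w, f w * g w ≠ 0 := by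
  obtain ⟨a, ha⟩ := hfw
  obtain ⟨b, hb⟩ := hgw
  obtain ⟨P, hP⟩ := hf a (b - a)
  obtain ⟨Q, hQ⟩ := hg a (b - a)
  have hP0 : P ≠ 0 := fun e => ha (by have := hP 0; rw [e, eval_zero, zero_smul, add_zero] at this; exact this.symm)
  have hQ0 : Q ≠ 0 := fun e => hb (by
    have := hQ 1; rw [e, eval_zero, one_smul, add_sub_cancel] at this; exact this.symm)
  obtain ⟨t, ht⟩ : ∃ t, (P * Q).eval t ≠ 0 := by
    by_contra hc
    push Not at hc
    exact mul_ne_zero hP0 hQ0 (Polynomial.funext fun t => by rw [hc t, eval_zero])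
  exact ⟨a + t • (b - a), by rwa [eval_mul, hP, hQ] at ht⟩

/-- The non-degeneracy function. -/
noncomputable def goodFun (w : L) : k :=
  ∏ j ∈ Finset.range (pb.dim + 1), gdet pb w j * gdet pb (pb.gen * w) j

theorem goodFun_spec [Infinite k] (h0 : pb.gen ≠ 0) :
    LinePoly (goodFun pb) ∧ ∃ w, goodFun pb w ≠ 0 := by
  have key : ∀ m, m ≤ pb.dim + 1 →
      LinePoly (fun w => ∏ j ∈ Finset.range m, gdet pb w j * gdet pb (pb.gen * w) j) ∧
      ∃ w, (∏ j ∈ Finset.range m, gdet pb w j * gdet pb (pb.gen * w) j) ≠ 0 := by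
    intro m
    induction m with
    | zero => intro _; exact ⟨fun a d => ⟨1, by simp⟩, 1, by simp⟩
    | succ m ih =>
      intro hm
      obtain ⟨h1, h2⟩ := ih (by omega)
      obtain ⟨w0, hw0⟩ := exists_gdet_ne pb (j := m) (by omega)
      have h3 := linePoly_gdet pb m
      have h4 := h3.comp_mul pb.gen
      have h5 : ∃ w, gdet pb w m * gdet pb (pb.gen * w) m ≠ 0 :=
        exists_common h3 h4 ⟨w0, hw0⟩ ⟨pb.gen⁻¹ * w0, by rwa [← mul_assoc, mul_inv_cancel₀ h0, one_mul]⟩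
      constructor
      · simp only [Finset.prod_range_succ]; exact h1.mul (h3.mul h4)
      · simp only [Finset.prod_range_succ]; exact exists_common h1 (h3.mul h4) h2 h5
  exact key (pb.dim + 1) le_rfl

theorem gdet_of_good {w : L} (hw : goodFun pb w ≠ 0) {j : ℕ} (hj : j ≤ pb.dim) :
    gdet pb w j ≠ 0 ∧ gdet pb (pb.gen * w) j ≠ 0 := by
  have := Finset.prod_ne_zero_iff.mp hw j (Finset.mem_range.mpr (by omega))
  exact mul_ne_zero_iff.mp this

/-- The span of the first `j` powers. -/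
def low' (j : ℕ) : Submodule k L := Submodule.span k (Set.range fun l : Fin j => pb.gen ^ (l : ℕ))

theorem pow_mem_low {i j : ℕ} (h : i < j) : pb.gen ^ i ∈ low' pb j :=
  Submodule.subset_span ⟨⟨i, h⟩, rfl⟩

theorem low_mono {i j : ℕ} (h : i ≤ j) : low' pb i ≤ low' pb j := by
  rw [low', Submodule.span_le]
  rintro _ ⟨l, rfl⟩
  exact pow_mem_low pb (lt_of_lt_of_le l.2 h)

theorem gen_mul_mem {j : ℕ} {x : L} (hx : x ∈ low' pb j) : pb.gen * x ∈ low' pb (j + 1) := by
  refine (Submodule.span_le (p := (low' pb (j + 1)).comap (LinearMap.mulLeft k pb.gen))).mpr ?_ hx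
  rintro _ ⟨l, rfl⟩
  show pb.gen * pb.gen ^ (l : ℕ) ∈ low' pb (j + 1)
  rw [← pow_succ']; exact pow_mem_low pb (by omega)

theorem low_dim_eq_top : low' pb pb.dim = ⊤ := by
  rw [low', ← pb.coe_basis, pb.basis.span_eq]

theorem pow_notMem_low {j : ℕ} (hj : j < pb.dim) : pb.gen ^ j ∉ low' pb j := by
  classical
  intro h
  have h2 : low' pb j ≤ LinearMap.ker (pb.basis.coord ⟨j, hj⟩) := by
    rw [low', Submodule.span_le]
    rintro _ ⟨l, rfl⟩
    have e : pb.gen ^ (l : ℕ) = pb.basis ⟨l, by omega⟩ := (pb.basis_eq_pow ⟨l, by omega⟩).symm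
    simp only [SetLike.mem_coe, LinearMap.mem_ker, e, Module.Basis.coord_apply, pb.basis.repr_self_apply]
    rw [if_neg (by simp [Fin.ext_iff]; omega)]
  have e : pb.gen ^ j = pb.basis ⟨j, hj⟩ := (pb.basis_eq_pow ⟨j, hj⟩).symm
  have := h2 h
  rw [LinearMap.mem_ker, e, Module.Basis.coord_apply, pb.basis.repr_self_apply, if_pos rfl] at this
  exact one_ne_zero this

theorem tau_sum (w : L) {j : ℕ} (c : Fin j → k) (i : Fin j) :
    tauLin pb (w * ((∑ l, c l • pb.gen ^ (l : ℕ)) * pb.gen ^ (i : ℕ))) =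
      Matrix.mulVec (gram pb w j) c i := by
  simp only [Finset.sum_mul, Finset.mul_sum, map_sum, Matrix.mulVec, dotProduct, gram, Matrix.of_apply]
  refine Finset.sum_congr rfl fun l _ => ?_
  rw [smul_mul_assoc, mul_smul_comm, map_smul, smul_eq_mul, ← pow_add, mul_comm, add_comm (l : ℕ)]

theorem orth_unique {w : L} {j : ℕ} (hw : gdet pb w j ≠ 0) {x : L} (hx : x ∈ low' pb j)
    (ho : ∀ i < j, tauLin pb (w * (x * pb.gen ^ i)) = 0) : x = 0 := by
  obtain ⟨c, rfl⟩ := (Submodule.mem_span_range_iff_exists_fun k).mp hx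
  have : c = 0 := Matrix.eq_zero_of_mulVec_eq_zero hw (funext fun i => by
    rw [← tau_sum]; exact ho i i.2)
  simp [this]

/-- The orthogonal polynomial of degree `j`. -/
theorem orth_exists {w : L} {j : ℕ} (hw : gdet pb w j ≠ 0) :
    ∃ p, p - pb.gen ^ j ∈ low' pb j ∧ ∀ i < j, tauLin pb (w * (p * pb.gen ^ i)) = 0 := by
  obtain ⟨v, hv⟩ : ∃ v : Fin j → k, v = fun i : Fin j => -tauLin pb (w * pb.gen ^ (j + (i : ℕ))) := ⟨_, rfl⟩
  obtain ⟨c, hc⟩ : ∃ c, Matrix.mulVec (gram pb w j) c = v :=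
    ⟨Matrix.mulVec (gram pb w j)⁻¹ v, by
      rw [Matrix.mulVec_mulVec, Matrix.mul_nonsing_inv _ (isUnit_iff_ne_zero.mpr hw), Matrix.one_mulVec]⟩
  refine ⟨pb.gen ^ j + ∑ l, c l • pb.gen ^ (l : ℕ), ?_, fun i hi => ?_⟩
  · rw [add_sub_cancel_left]
    exact (Submodule.mem_span_range_iff_exists_fun k).mpr ⟨c, rfl⟩
  · rw [add_mul, mul_add, map_add, tau_sum pb w c ⟨i, hi⟩, hc, hv, ← pow_add]
    simp

end Cfsg.Agent.Fus.AdjoinSL
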