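import Mathlib
import Cfsg.Agent.Lib.Fus.SLTwoAdjoinBasic
import Cfsg.Agent.Lib.Fus.SLTwoAdjoinOrth

/-!
Generation of `SL(2, k(α))` for infinite `k`.
-/

set_option autoImplicit false

namespace Cfsg.Agent.Fus.AdjoinSL

open Matrix Cfsg.Agent.Grp.SL2

variable {k L : Type*} [Field k] [Field L] [Algebra k L] (pb : PowerBasis k L)

/-- The bottom rows occurring in the subgroup. -/
def IsRow (α : L) (C D : L) : Prop :=
  ∃ h ∈ adjH k α, (h : Matrix (Fin 2) (Fin 2) L) 1 0 = C ∧ (h : Matrix (Fin 2) (Fin 2) L) 1 1 = D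

theorem isRow_zero_one (α : L) : IsRow (k := k) α 0 1 := ⟨1, one_mem _, by simp, by simp⟩

theorem isRow_step {α C D : L} (h : IsRow (k := k) α C D) (a b : k) :
    IsRow (k := k) α (C + algebraMap k L b * α * D)
      (D + algebraMap k L a * (C + algebraMap k L b * α * D)) := by
  obtain ⟨g, hg, rfl, rfl⟩ := h
  refine ⟨g * low (algebraMap k L b * α) * up (algebraMap k L a),
    mul_mem (mul_mem hg (low_mem α b)) (up_mem α a), ?_, ?_⟩
  · simp [coe_up, coe_low, Matrix.mul_apply, Fin.sum_univ_two]; ring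
  · simp [coe_up, coe_low, Matrix.mul_apply, Fin.sum_univ_two]; ring

/-- Two interlacing sequences of orthogonal polynomials reach a row whose second entry vanishes. -/
theorem exists_end_row {w : L} (hw : goodFun pb w ≠ 0) (h0 : pb.gen ≠ 0) :
    ∃ μ : k, μ ≠ 0 ∧ IsRow (k := k) pb.gen (algebraMap k L μ * w⁻¹) 0 := by
  classical
  obtain ⟨n, hn⟩ : ∃ n, n = pb.dim := ⟨_, rfl⟩
  obtain ⟨α, hα⟩ : ∃ α, α = pb.gen := ⟨_, rfl⟩
  have hnpos : 0 < n := hn ▸ pb.dim_pos
  have hg : ∀ j ≤ n, gdet pb w j ≠ 0 ∧ gdet pb (pb.gen * w) j ≠ 0 :=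
    fun j hj => gdet_of_good pb hw (hn ▸ hj)
  have hexP : ∀ j, ∃ p, j ≤ n →
      p - α ^ j ∈ low' pb j ∧ ∀ i < j, tauLin pb (w * (p * α ^ i)) = 0 := by
    intro j
    by_cases hj : j ≤ n
    · obtain ⟨p, hp⟩ := orth_exists pb (hg j hj).1
      exact ⟨p, fun _ => hα ▸ hp⟩
    · exact ⟨0, fun h => absurd h hj⟩
  have hexQ : ∀ j, ∃ p, j ≤ n →
      p - α ^ j ∈ low' pb j ∧ ∀ i < j, tauLin pb (α * w * (p * α ^ i)) = 0 := by
    intro j
    by_cases hj : j ≤ n
    · obtain ⟨p, hp⟩ := orth_exists pb (hg j hj).2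
      exact ⟨p, fun _ => hα ▸ hp⟩
    · exact ⟨0, fun h => absurd h hj⟩
  choose p hp using hexP
  choose q hq using hexQ
  subst hα
  have hpsucc : ∀ j, j ≤ n → p j ∈ low' pb (j + 1) := by
    intro j hj
    have := (low' pb (j + 1)).add_mem (low_mono pb (Nat.le_succ j) (hp j hj).1)
      (pow_mem_low pb (Nat.lt_succ_self j))
    rwa [sub_add_cancel] at this
  have hqsucc : ∀ j, j ≤ n → q j ∈ low' pb (j + 1) := by
    intro j hj
    have := (low' pb (j + 1)).add_mem (low_mono pb (Nat.le_succ j) (hq j hj).1)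
      (pow_mem_low pb (Nat.lt_succ_self j))
    rwa [sub_add_cancel] at this
  -- the two leading values do not vanish
  have hh : ∀ j, j < n → tauLin pb (w * (p j * pb.gen ^ j)) ≠ 0 := by
    intro j hj e
    have hz : p j = 0 := orth_unique pb (hg (j + 1) hj).1 (hpsucc j hj.le) (by
      intro i hi
      rcases Nat.lt_succ_iff_lt_or_eq.mp hi with h | rfl
      · exact (hp j hj.le).2 i h
      · exact e)
    have := (hp j hj.le).1
    rw [hz, zero_sub, neg_mem_iff] at this
    exact pow_notMem_low pb (hn ▸ hj) this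
  have hh' : ∀ j, j < n → tauLin pb (pb.gen * w * (q j * pb.gen ^ j)) ≠ 0 := by
    intro j hj e
    have hz : q j = 0 := orth_unique pb (hg (j + 1) hj).2 (hqsucc j hj.le) (by
      intro i hi
      rcases Nat.lt_succ_iff_lt_or_eq.mp hi with h | rfl
      · exact (hq j hj.le).2 i h
      · exact e)
    have := (hq j hj.le).1
    rw [hz, zero_sub, neg_mem_iff] at this
    exact pow_notMem_low pb (hn ▸ hj) this
  have hpn : p n = 0 := orth_unique pb (hg n le_rfl).1 (by rw [hn, low_dim_eq_top]; trivial) (hp n le_rfl).2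
  have hp0 : p 0 = 1 := by
    have := (hp 0 (Nat.zero_le n)).1
    rw [pow_zero, low', Set.range_eq_empty, Submodule.span_empty, Submodule.mem_bot] at this
    exact sub_eq_zero.mp this
  have hq0 : q 0 = 1 := by
    have := (hq 0 (Nat.zero_le n)).1
    rw [pow_zero, low', Set.range_eq_empty, Submodule.span_empty, Submodule.mem_bot] at this
    exact sub_eq_zero.mp this
  -- multiplication by the generator
  have rel1 : ∀ j, j < n → ∃ c : k, c ≠ 0 ∧ pb.gen * q j = p (j + 1) + algebraMap k L c * p j := by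
    intro j hj
    obtain ⟨c, hc⟩ : ∃ c, c = tauLin pb (pb.gen * w * (q j * pb.gen ^ j)) /
        tauLin pb (w * (p j * pb.gen ^ j)) := ⟨_, rfl⟩
    refine ⟨c, hc ▸ div_ne_zero (hh' j hj) (hh j hj), sub_eq_zero.mp ?_⟩
    refine orth_unique pb (hg (j + 1) hj).1 ?_ ?_
    · have e : pb.gen * q j - (p (j + 1) + algebraMap k L c * p j) =
          pb.gen * (q j - pb.gen ^ j) - (p (j + 1) - pb.gen ^ (j + 1)) - algebraMap k L c * p j := by
        ring
      rw [e, ← Algebra.smul_def]
      exact sub_mem (sub_mem (gen_mul_mem pb (hq j hj.le).1) (hp (j + 1) hj).1)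
        (Submodule.smul_mem _ _ (hpsucc j hj.le))
    · intro i hi
      have e : w * ((pb.gen * q j - (p (j + 1) + algebraMap k L c * p j)) * pb.gen ^ i) =
          pb.gen * w * (q j * pb.gen ^ i) - w * (p (j + 1) * pb.gen ^ i) -
            c • (w * (p j * pb.gen ^ i)) := by
        rw [Algebra.smul_def]; ring
      rw [e, map_sub, map_sub, map_smul, smul_eq_mul, (hp (j + 1) hj).2 i hi]
      rcases Nat.lt_succ_iff_lt_or_eq.mp hi with h | rfl
      · rw [(hq j hj.le).2 i h, (hp j hj.le).2 i h]; ring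
      · rw [hc, div_mul_cancel₀ _ (hh i hj)]; ring
  have rel2 : ∀ j, j + 1 < n → ∃ e : k, e ≠ 0 ∧ p (j + 1) = q (j + 1) + algebraMap k L e * q j := by
    intro j hj
    obtain ⟨e, he⟩ : ∃ e, e = tauLin pb (w * (p (j + 1) * pb.gen ^ (j + 1))) /
        tauLin pb (pb.gen * w * (q j * pb.gen ^ j)) := ⟨_, rfl⟩
    refine ⟨e, he ▸ div_ne_zero (hh _ hj) (hh' j (by omega)), sub_eq_zero.mp ?_⟩
    refine orth_unique pb (hg (j + 1) hj.le).2 ?_ ?_
    · have ee : p (j + 1) - (q (j + 1) + algebraMap k L e * q j) =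
          (p (j + 1) - pb.gen ^ (j + 1)) - (q (j + 1) - pb.gen ^ (j + 1)) - algebraMap k L e * q j := by
        ring
      rw [ee, ← Algebra.smul_def]
      exact sub_mem (sub_mem (hp (j + 1) hj.le).1 (hq (j + 1) hj.le).1)
        (Submodule.smul_mem _ _ (hqsucc j (by omega)))
    · intro i hi
      have ee : pb.gen * w * ((p (j + 1) - (q (j + 1) + algebraMap k L e * q j)) * pb.gen ^ i) =
          w * (p (j + 1) * pb.gen ^ (i + 1)) - pb.gen * w * (q (j + 1) * pb.gen ^ i) -
            e • (pb.gen * w * (q j * pb.gen ^ i)) := by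
        rw [Algebra.smul_def]; ring
      rw [ee, map_sub, map_sub, map_smul, smul_eq_mul, (hq (j + 1) hj.le).2 i hi]
      rcases Nat.lt_succ_iff_lt_or_eq.mp hi with h | rfl
      · rw [(hp (j + 1) hj.le).2 (i + 1) (by omega), (hq j (by omega)).2 i h]; ring
      · rw [he, div_mul_cancel₀ _ (hh' i (by omega))]; ring
  -- walking along the rows
  have walk : ∀ j, j < n → ∃ κ l : k, κ ≠ 0 ∧ l ≠ 0 ∧
      IsRow (k := k) pb.gen (algebraMap k L κ * (pb.gen * q j)) (algebraMap k L l * p (j + 1)) := by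
    intro j
    induction j with
    | zero =>
      intro hj
      obtain ⟨c, hc, hrel⟩ := rel1 0 hj
      refine ⟨1, -c⁻¹, one_ne_zero, neg_ne_zero.mpr (inv_ne_zero hc), ?_⟩
      have h := isRow_step (isRow_zero_one (k := k) pb.gen) (-c⁻¹) 1
      rw [hq0, mul_one, hp0, mul_one] at hrel
      have hc' : algebraMap k L c ≠ 0 := fun e => hc ((algebraMap k L).injective (by rw [e, map_zero]))
      convert h using 1
      · rw [hq0]; simp
      · rw [map_one, one_mul, zero_add, mul_one, map_neg, map_inv₀]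
        linear_combination ((algebraMap k L c)⁻¹) * hrel + mul_inv_cancel₀ hc'
    | succ j ih =>
      intro hj
      obtain ⟨κ, l, hκ, hl, h⟩ := ih (by omega)
      obtain ⟨c, hc, hrel1⟩ := rel1 (j + 1) hj
      obtain ⟨e, he, hrel2⟩ := rel2 j hj
      obtain ⟨b, hb⟩ : ∃ b, b = -κ / (l * e) := ⟨_, rfl⟩
      obtain ⟨a, ha⟩ : ∃ a, a = -l / (b * l * c) := ⟨_, rfl⟩
      have hb0 : b ≠ 0 := hb ▸ div_ne_zero (neg_ne_zero.mpr hκ) (mul_ne_zero hl he)
      have hkey : κ + b * l * e = 0 := by rw [hb]; field_simp; ring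
      have hkey2 : l + a * (b * l) * c = 0 := by rw [ha]; field_simp; ring
      refine ⟨b * l, a * (b * l), mul_ne_zero hb0 hl,
        mul_ne_zero (ha ▸ div_ne_zero (neg_ne_zero.mpr hl) (mul_ne_zero (mul_ne_zero hb0 hl) hc))
          (mul_ne_zero hb0 hl), ?_⟩
      have h' := isRow_step h a b
      have hkeyL := congrArg (algebraMap k L) hkey
      have hkey2L := congrArg (algebraMap k L) hkey2
      simp only [map_add, map_mul, map_zero] at hkeyL hkey2L
      have hC : algebraMap k L κ * (pb.gen * q j) +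
          algebraMap k L b * pb.gen * (algebraMap k L l * p (j + 1)) =
            algebraMap k L (b * l) * (pb.gen * q (j + 1)) := by
        rw [map_mul, hrel2]
        linear_combination (pb.gen * q j) * hkeyL
      rw [hC] at h'
      convert h' using 1
      rw [hrel1, map_mul (algebraMap k L) a, map_mul (algebraMap k L) b]
      linear_combination -(p (j + 1)) * hkey2L
  obtain ⟨m, rfl⟩ : ∃ m, n = m + 1 := ⟨n - 1, by omega⟩
  obtain ⟨κ, l, hκ, -, h⟩ := walk m (Nat.lt_succ_self m)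
  rw [hpn, mul_zero] at h
  obtain ⟨h', hh'def⟩ : ∃ h', h' = tauLin pb (pb.gen * w * (q m * pb.gen ^ m)) := ⟨_, rfl⟩
  have hend : w * (pb.gen * q m) = algebraMap k L h' := by
    refine sub_eq_zero.mp (eq_zero_of_tau pb fun i hi => ?_)
    have ee : (w * (pb.gen * q m) - algebraMap k L h') * pb.gen ^ i =
        pb.gen * w * (q m * pb.gen ^ i) - h' • pb.gen ^ i := by
      rw [Algebra.smul_def]; ring
    rw [ee, map_sub, map_smul, tau_pow pb hi, smul_eq_mul]
    by_cases him : i = m
    · subst him; rw [if_pos (by omega), mul_one, hh'def, sub_self]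
    · rw [if_neg (by omega), mul_zero, (hq m (by omega)).2 i (by omega), sub_zero]
  have hw0 : w ≠ 0 := by
    intro e
    refine hh 0 (Nat.succ_pos m) ?_
    rw [e, zero_mul, map_zero]
  refine ⟨κ * h', mul_ne_zero hκ (hh'def ▸ hh' m (Nat.lt_succ_self m)), ?_⟩
  convert h using 1
  rw [map_mul, ← hend]
  field_simp

/-- For an infinite ground field the subgroup is everything. -/
theorem adjH_eq_top_of_infinite [Infinite k] (h2 : (2 : k) ≠ 0) (h0 : pb.gen ≠ 0) :
    adjH k pb.gen = ⊤ := by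
  classical
  obtain ⟨hLP, a, ha⟩ := goodFun_spec pb h0
  have hkeyrow : ∀ w, goodFun pb w ≠ 0 → ∀ t : L, ∃ μ : k, μ ≠ 0 ∧ ∃ g ∈ adjH k pb.gen,
      g * low t * g⁻¹ = up (-t * w ^ 2 / algebraMap k L μ ^ 2) := by
    intro w hw t
    obtain ⟨μ, hμ, g, hg, h1, h2⟩ := exists_end_row pb hw h0
    refine ⟨μ, hμ, g, hg, ?_⟩
    have hd := det_eq g
    rw [h1, h2, mul_zero, zero_sub] at hd
    have hμ' : algebraMap k L μ ≠ 0 := fun e => hμ ((algebraMap k L).injective (by rw [e, map_zero]))
    have hw0 : w ≠ 0 := fun e => by rw [e, _root_.inv_zero, mul_zero, mul_zero, neg_zero] at hd; exact zero_ne_one hd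
    rw [mul_inv_eq_iff_eq_mul]
    refine Subtype.ext ?_
    rw [Matrix.SpecialLinearGroup.coe_mul, Matrix.SpecialLinearGroup.coe_mul]
    show (g : Matrix (Fin 2) (Fin 2) L) * !![1, 0; t, 1] = !![1, _; 0, 1] * (g : Matrix (Fin 2) (Fin 2) L)
    field_simp at hd
    ext i j
    fin_cases i <;> fin_cases j <;> simp [Matrix.mul_apply, Fin.sum_univ_two, h1, h2]
    field_simp
    linear_combination (-t) * hd
  obtain ⟨B, hB⟩ : ∃ B : Submodule k L, B = (upSub pb.gen).comap (LinearMap.mulLeft k pb.gen) :=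
    ⟨_, rfl⟩
  have hsq : ∀ w, goodFun pb w ≠ 0 → w ^ 2 ∈ B := by
    intro w hw
    obtain ⟨μ, hμ, -⟩ := exists_end_row pb hw h0
    rw [hB]
    show up (pb.gen * w ^ 2) ∈ adjH k pb.gen
    obtain ⟨ν, hν, g, hg, he⟩ := hkeyrow w hw pb.gen
    have hmem : g * low pb.gen * g⁻¹ ∈ adjH k pb.gen := by
      have := low_mem pb.gen (1 : k)
      rw [map_one, one_mul] at this
      exact mul_mem (mul_mem hg this) (inv_mem hg)
    rw [he] at hmem
    have := up_smul_mem pb.gen (-ν ^ 2) hmem
    have hν' : algebraMap k L ν ≠ 0 := fun e => hν ((algebraMap k L).injective (by rw [e, map_zero]))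
    convert this using 2
    rw [map_neg, map_pow]
    field_simp
  have hBtop : B = ⊤ := by
    by_contra hne
    obtain ⟨f, hf0, hfB⟩ := Submodule.exists_dual_map_eq_bot_of_lt_top (lt_top_iff_ne_top.mpr hne) inferInstance
    have hzero : ∀ x ∈ B, f x = 0 := fun x hx =>
      (Submodule.mem_bot k).mp (hfB ▸ Submodule.mem_map_of_mem hx)
    have hsq' : ∀ v, f (v ^ 2) = 0 := by
      intro v
      obtain ⟨Q, hQ⟩ := hLP a v
      have hQ0 : Q ≠ 0 := fun e => ha (by
        have := hQ 0; rw [e, Polynomial.eval_zero, zero_smul, add_zero] at this; exact this.symm)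
      obtain ⟨R, hR⟩ : ∃ R : Polynomial k, R = Polynomial.C (f (a ^ 2)) +
          Polynomial.C (2 * f (a * v)) * Polynomial.X + Polynomial.C (f (v ^ 2)) * Polynomial.X ^ 2 :=
        ⟨_, rfl⟩
      have hR0 : R = 0 := by
        refine (mul_eq_zero.mp (Polynomial.funext fun t => ?_ : Q * R = 0)).resolve_left hQ0
        rw [Polynomial.eval_zero, Polynomial.eval_mul, hQ]
        by_cases hgd : goodFun pb (a + t • v) = 0
        · rw [hgd, zero_mul]
        · have h1 := hzero _ (hsq _ hgd)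
          have e : (a + t • v) ^ 2 = a ^ 2 + (2 * t) • (a * v) + (t ^ 2) • v ^ 2 := by
            simp only [Algebra.smul_def, map_mul, map_pow, map_ofNat]; ring
          rw [e, map_add, map_add, map_smul, map_smul, smul_eq_mul, smul_eq_mul] at h1
          rw [hR]
          simp only [Polynomial.eval_add, Polynomial.eval_mul, Polynomial.eval_C, Polynomial.eval_X,
            Polynomial.eval_pow]
          linear_combination goodFun pb (a + t • v) * h1
      have := congrArg (fun P => P.coeff 2) hR0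
      simpa [hR, Polynomial.coeff_C] using this
    refine hf0 (LinearMap.ext fun v => ?_)
    have h4 : (4 : k) ≠ 0 := by
      rw [show (4 : k) = 2 * 2 by norm_num]; exact mul_ne_zero h2 h2
    have e : (4 : k) • v = (v + 1) ^ 2 - (v - 1) ^ 2 := by
      rw [Algebra.smul_def, map_ofNat]; ring
    have := congrArg f e
    rw [map_smul, map_sub, hsq', hsq', sub_zero, smul_eq_mul] at this
    exact (mul_eq_zero.mp this).resolve_left h4
  have hA : ∀ t : L, up t ∈ adjH k pb.gen := by
    intro t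
    have : pb.gen⁻¹ * t ∈ B := hBtop ▸ Submodule.mem_top
    rw [hB] at this
    have h : up (pb.gen * (pb.gen⁻¹ * t)) ∈ adjH k pb.gen := this
    rwa [← mul_assoc, mul_inv_cancel₀ h0, one_mul] at h
  refine eq_top_of_up_low hA fun t => ?_
  obtain ⟨μ, -, g, hg, he⟩ := hkeyrow a ha t
  have : g⁻¹ * (g * low t * g⁻¹) * g ∈ adjH k pb.gen := by
    rw [he]; exact mul_mem (mul_mem (inv_mem hg) (hA _)) hg
  simpa [mul_assoc] using this

end Cfsg.Agent.Fus.AdjoinSL
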