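import Mathlib
import Cfsg.Agent.Lib.Fus.SLTwoAdjoinInfinite
import Cfsg.Agent.Lib.Fus.SLTwoAdjoinFinite

/-!
`SL(2, k(α))` is generated by the upper unitriangular matrices over `k` and the lower ones over `k α`.
-/

set_option autoImplicit false

namespace Cfsg.Agent.Fus.AdjoinSL

open Matrix Cfsg.Agent.Grp.SL2

/-- Generation inside the field `k(α)` itself. -/
theorem adjH_eq_top {k L : Type*} [Field k] [Field L] [Algebra k L] (pb : PowerBasis k L)
    (hk2 : ringChar k ≠ 2) (hk3 : Nat.card k ≠ 3) (h0 : pb.gen ≠ 0) : adjH k pb.gen = ⊤ := by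
  classical
  rcases finite_or_infinite k with hf | hinf
  · have := pb.finite
    have := Module.finite_of_finite k (M := L)
    have := Fintype.ofFinite L
    obtain ⟨p, hp⟩ := CharP.exists k
    have hL : CharP L p := charP_of_injective_algebraMap (algebraMap k L).injective p
    have hpp : Fact p.Prime := ⟨(CharP.char_is_prime_or_zero k p).resolve_right fun e => by
      subst e
      have := CharP.charP_to_charZero k
      exact not_finite k⟩
    refine adjH_eq_top_of_finite p h0 ((ringChar.eq k p) ▸ hk2) hk3 fun K hc ha => eq_top_iff.mpr ?_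
    intro x _
    rw [← pb.basis.sum_repr x]
    refine sum_mem fun i _ => ?_
    rw [Algebra.smul_def, pb.basis_eq_pow]
    exact K.mul_mem (hc _) (K.pow_mem ha _)
  · have : Infinite k := hinf
    exact adjH_eq_top_of_infinite pb (Ring.two_ne_zero hk2) h0

/-- Generation inside a bigger field. -/
theorem closure_eq {k K : Type*} [Field k] [Field K] [Algebra k K]
    (hk2 : ringChar k ≠ 2) (hk3 : Nat.card k ≠ 3) (α : K) (hα : IsAlgebraic k α) (hα0 : α ≠ 0) :
    (Subgroup.closure
      ({g : Matrix.SpecialLinearGroup (Fin 2) K | ∃ c : k,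
          (g : Matrix (Fin 2) (Fin 2) K) = !![1, algebraMap k K c; 0, 1]} ∪
        {g : Matrix.SpecialLinearGroup (Fin 2) K | ∃ c : k,
          (g : Matrix (Fin 2) (Fin 2) K) = !![1, 0; algebraMap k K c * α, 1]}) :
      Set (Matrix.SpecialLinearGroup (Fin 2) K)) =
    {g : Matrix.SpecialLinearGroup (Fin 2) K |
      ∀ i j : Fin 2, (g : Matrix (Fin 2) (Fin 2) K) i j ∈ IntermediateField.adjoin k ({α} : Set K)} := by
  classical
  obtain ⟨S, hS⟩ : ∃ S, S = IntermediateField.adjoin k ({α} : Set K) := ⟨_, rfl⟩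
  subst hS
  have hgen : (IntermediateField.adjoin.powerBasis hα.isIntegral).gen ≠ 0 := by
    rw [IntermediateField.adjoin.powerBasis_gen]
    intro e
    exact hα0 (by simpa using congrArg Subtype.val e)
  have htop := adjH_eq_top (IntermediateField.adjoin.powerBasis hα.isIntegral) hk2 hk3 hgen
  rw [IntermediateField.adjoin.powerBasis_gen] at htop
  let Φ := Matrix.SpecialLinearGroup.map (n := Fin 2)
    ((IntermediateField.adjoin k ({α} : Set K)).val.toRingHom)
  have hup : ∀ c : k, Φ (up (algebraMap k _ c)) = up (algebraMap k K c) := fun c => Subtype.ext (by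
    ext i j; fin_cases i <;> fin_cases j <;> simp [Φ, coe_up])
  have hlow : ∀ c : k, Φ (low (algebraMap k _ c * IntermediateField.AdjoinSimple.gen k α)) =
      low (algebraMap k K c * α) := fun c => Subtype.ext (by
    ext i j; fin_cases i <;> fin_cases j <;> simp [Φ, coe_low])
  have himg : Φ '' gens k (IntermediateField.AdjoinSimple.gen k α) =
      {g : Matrix.SpecialLinearGroup (Fin 2) K | ∃ c : k,
          (g : Matrix (Fin 2) (Fin 2) K) = !![1, algebraMap k K c; 0, 1]} ∪
        {g : Matrix.SpecialLinearGroup (Fin 2) K | ∃ c : k,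
          (g : Matrix (Fin 2) (Fin 2) K) = !![1, 0; algebraMap k K c * α, 1]} := by
    ext g
    constructor
    · rintro ⟨_, (⟨c, rfl⟩ | ⟨c, rfl⟩), rfl⟩
      · exact Or.inl ⟨c, by rw [hup]; rfl⟩
      · exact Or.inr ⟨c, by rw [hlow]; rfl⟩
    · rintro (⟨c, hc⟩ | ⟨c, hc⟩)
      · exact ⟨_, Or.inl ⟨c, rfl⟩, Subtype.ext (by rw [hup]; exact hc.symm)⟩
      · exact ⟨_, Or.inr ⟨c, rfl⟩, Subtype.ext (by rw [hlow]; exact hc.symm)⟩
  rw [← himg, ← MonoidHom.map_closure, show Subgroup.closure (gens k _) = _ from htop]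
  ext g
  constructor
  · rintro ⟨x, -, rfl⟩ i j
    exact (x.1 i j).2
  · intro hg
    refine ⟨⟨Matrix.of fun i j => ⟨g.1 i j, hg i j⟩, Subtype.ext ?_⟩, trivial, Subtype.ext ?_⟩
    · have := g.2
      rw [Matrix.det_fin_two] at this ⊢
      simpa using this
    · ext i j; rfl

end Cfsg.Agent.Fus.AdjoinSL
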