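import Mathlib
import Cfsg.Agent.Lib.Fus.RingSLKernel
import Cfsg.Agent.Lib.Fus.SLTwoAdjoin

/-!
For a finite dimensional commutative `k`-algebra generated by a unit `z`, the matrices `up (c)` and `low (c z)`,
`c ∈ k`, generate all the unitriangular matrices over the algebra.
-/

set_option autoImplicit false
set_option linter.unusedSectionVars false

namespace Cfsg.Agent.Fus.RingSL

open Matrix

universe u v

variable {k : Type v} [Field k]

theorem exists_sq_ne_one (hk2 : ringChar k ≠ 2) (hk3 : Nat.card k ≠ 3) : ∃ c : k, c ≠ 0 ∧ c * c ≠ 1 := by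
  classical
  have h2 : (2 : k) ≠ 0 := Ring.two_ne_zero hk2
  have hne1 : (1 : k) ≠ -1 := fun e => h2 (by linear_combination e)
  by_contra h
  push Not at h
  have hall : ∀ c : k, c = 0 ∨ c = 1 ∨ c = -1 := by
    intro c
    by_cases hc : c = 0
    · exact Or.inl hc
    rcases mul_self_eq_one_iff.1 (h c hc) with e | e
    · exact Or.inr (Or.inl e)
    · exact Or.inr (Or.inr e)
  have hF : Finite k := Finite.of_surjective
    (fun i : Fin 3 => ![(0 : k), 1, -1] i) fun c => by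
      rcases hall c with rfl | rfl | rfl
      exacts [⟨0, rfl⟩, ⟨1, rfl⟩, ⟨2, rfl⟩]
  refine hk3 ?_
  haveI := Fintype.ofFinite k
  rw [Nat.card_eq_fintype_card, ← Finset.card_univ,
    show (Finset.univ : Finset k) = {0, 1, -1} by
      ext c; simpa using hall c]
  rw [Finset.card_insert_of_notMem (by simp [eq_comm (a := (0 : k))]),
    Finset.card_insert_of_notMem (by simpa using hne1), Finset.card_singleton]

section

variable {R : Type u} [CommRing R] [Algebra k R] [FiniteDimensional k R]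

local notation "SL₂" => Matrix.SpecialLinearGroup (Fin 2) R

/-- The translation space cannot miss the minimal ideal. -/
theorem exists_upSub_mem (hk2 : ringChar k ≠ 2) (hk3 : Nat.card k ≠ 3) {z : Rˣ}
    (hgen : Algebra.adjoin k {(z : R)} = ⊤) {j : R} (hj : IsMinGen j) (hju : ¬ IsUnit j)
    (hI : Lifts k z (Ideal.span {j})) (hA : Lifts k z (ann j)) :
    ∃ i ∈ Ideal.span {j}, i ∈ upSub k z ∧ i ≠ 0 := by
  obtain ⟨c, hc0, hc1⟩ := exists_sq_ne_one hk2 hk3
  have h2 : (2 : k) ≠ 0 := Ring.two_ne_zero hk2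
  have h2R : IsUnit (2 : R) := by
    rw [← map_ofNat (algebraMap k R) 2]
    exact (Ne.isUnit h2).map _
  by_contra hcon
  push Not at hcon
  have hsign : ∀ n : SL₂, n ∈ adjR k z → Ker (Ideal.span {j}) n → IsSign n := fun n hn hK =>
    isSign_of_ker hj h2 hc0 hc1 hA (fun i hi hU => hcon i hi hU) hn hK
  obtain ⟨I, hIdef⟩ : ∃ I, I = Ideal.span {j} := ⟨_, rfl⟩
  rw [← hIdef] at hI hsign hcon
  have h1 : up (1 : R) ∈ adjR k z := one_mem_upSub (k := k) z
  -- a conjugate of `up 1` congruent to a translation in the subgroup is a signed translation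
  have key : ∀ g ∈ adjR k z, g.1 1 0 ∈ I → ∀ φ ∈ upSub k z, g.1 0 0 * g.1 0 0 - φ ∈ I →
      g.1 1 0 = 0 ∧ g.1 0 0 * g.1 0 0 = φ := by
    intro g hg h10 φ hφ hp
    obtain ⟨n, hn⟩ : ∃ n, n = g * up 1 * g⁻¹ * (up φ)⁻¹ := ⟨_, rfl⟩
    have hnv : n.1 = !![1 - g.1 0 0 * g.1 1 0 * 1, g.1 0 0 * g.1 0 0 * 1;
        -(g.1 1 0 * g.1 1 0 * 1), 1 + g.1 0 0 * g.1 1 0 * 1] * !![1, -φ; 0, 1] := by
      rw [hn, Matrix.SpecialLinearGroup.coe_mul, conj_up, up_inv, coe_up]
    have hK : Ker I n := by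
      refine ker_iff.2 ⟨?_, ?_, ?_, ?_⟩ <;> rw [hnv] <;>
        simp only [Matrix.mul_apply, Fin.sum_univ_two, Matrix.cons_val', Matrix.cons_val_zero, Matrix.cons_val_one,
          Matrix.of_apply, Matrix.cons_val_fin_one, mul_one, mul_zero, add_zero]
      · rw [show 1 - g.1 0 0 * g.1 1 0 - 1 = -(g.1 0 0 * g.1 1 0) by ring]
        exact I.neg_mem (I.mul_mem_left _ h10)
      · rw [show (1 - g.1 0 0 * g.1 1 0) * -φ + g.1 0 0 * g.1 0 0 =
          (g.1 0 0 * g.1 0 0 - φ) + φ * g.1 0 0 * g.1 1 0 by ring]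
        exact I.add_mem hp (I.mul_mem_left _ h10)
      · exact I.neg_mem (I.mul_mem_left _ h10)
      · rw [show -(g.1 1 0 * g.1 1 0) * -φ + (1 + g.1 0 0 * g.1 1 0) - 1 =
          (g.1 1 0 * φ + g.1 0 0) * g.1 1 0 by ring]
        exact I.mul_mem_left _ h10
    obtain ⟨a, b, e, -⟩ := hsign n (hn ▸ mul_mem (mul_mem (mul_mem hg h1) (inv_mem hg)) (inv_mem hφ)) hK
    rw [hnv] at a b e
    simp [Matrix.mul_apply, Fin.sum_univ_two] at a b e
    have hpr : g.1 0 0 * g.1 1 0 = 0 := (h2R.mul_right_eq_zero).1 (by linear_combination e - φ * b)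
    have hr : g.1 1 0 = 0 := by
      linear_combination (-g.1 1 0) * det_eq g + g.1 1 1 * hpr - g.1 0 1 * b
    exact ⟨hr, by linear_combination a - φ * hpr⟩
  -- the translation space maps onto the quotient
  have honto : ∀ a : R, ∃ φ ∈ upSub k z, φ - a ∈ I := by
    intro a
    obtain ⟨g, hg, g00, g01, g10, g11⟩ := exists_lift_up hI a
    obtain ⟨hr, hp⟩ := key g hg g10 1 (one_mem_upSub z) (by
      rw [show g.1 0 0 * g.1 0 0 - 1 = (g.1 0 0 + 1) * (g.1 0 0 - 1) by ring]
      exact I.mul_mem_left _ g00)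
    have hd := det_eq g
    rw [hr, mul_zero, sub_zero] at hd
    have h11 : g.1 1 1 = g.1 0 0 := by linear_combination g.1 0 0 * hd - g.1 1 1 * hp
    have hsq : g * g = up (2 * g.1 0 0 * g.1 0 1) := by
      refine ext4 ?_ ?_ ?_ ?_ <;>
        simp [Matrix.SpecialLinearGroup.coe_mul, Matrix.mul_apply, Fin.sum_univ_two, hr, h11, hp]
      ring
    have hm : 2 * g.1 0 0 * g.1 0 1 ∈ upSub k z := by
      show up _ ∈ adjR k z
      rw [← hsq]; exact mul_mem hg hg
    refine ⟨g.1 0 0 * g.1 0 1, ?_, ?_⟩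
    · have h := (upSub k z).smul_mem (2 : k)⁻¹ hm
      rwa [mul_assoc, ← map_ofNat (algebraMap k R) 2, ← Algebra.smul_def, smul_smul, inv_mul_cancel₀ h2,
        one_smul] at h
    · rw [show g.1 0 0 * g.1 0 1 - a = (g.1 0 0 - 1) * g.1 0 1 + (g.1 0 1 - a) by ring]
      exact I.add_mem (I.mul_mem_right _ g00) g01
  -- the multipliers of the translation space
  let S : Subalgebra k R :=
    { carrier := {x | ∀ u ∈ upSub k z, x * u ∈ upSub k z}
      mul_mem' := fun {x y} hx hy u hu => by rw [mul_assoc]; exact hx _ (hy u hu)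
      one_mem' := fun u hu => by rwa [one_mul]
      add_mem' := fun {x y} hx hy u hu => by rw [add_mul]; exact add_mem (hx u hu) (hy u hu)
      zero_mem' := fun u hu => by rw [zero_mul]; exact zero_mem _
      algebraMap_mem' := fun r u hu => by rw [← Algebra.smul_def]; exact (upSub k z).smul_mem r hu }
  have hSU : ∀ x ∈ S, x ∈ upSub k z := fun x hx => by
    simpa using hx 1 (one_mem_upSub z)
  obtain ⟨π, hπ⟩ : ∃ π, π = Ideal.Quotient.mkₐ k I := ⟨_, rfl⟩
  have hπm : ∀ {x y : R}, π x = π y → x - y ∈ I := fun {x y} h => by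
    rw [hπ] at h
    exact (Ideal.Quotient.mk_eq_mk_iff_sub_mem _ _).1 h
  have hπi : ∀ {x y : R}, x - y ∈ I → π x = π y := fun {x y} h => by
    rw [hπ]; exact (Ideal.Quotient.mk_eq_mk_iff_sub_mem _ _).2 h
  have hS : S.map π = ⊤ := by
    refine eq_top_of_sq hc0 hc1 h2 _ (R ⧸ I) rfl _ fun a ha => ?_
    obtain ⟨b, hb⟩ := ha.exists_right_inv
    have hsurj : Function.Surjective π := hπ ▸ Ideal.Quotient.mkₐ_surjective k I
    obtain ⟨a', rfl⟩ := hsurj a
    obtain ⟨b', rfl⟩ := hsurj b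
    obtain ⟨g, hg, g00, -, g10, -⟩ := exists_lift_dia hI (a := a') (b := b')
      (hπm (by rw [map_mul, hb, map_one]))
    obtain ⟨φ, hφ, hφa⟩ := honto (g.1 0 0 * g.1 0 0)
    obtain ⟨hr, hp⟩ := key g hg g10 φ hφ (by rw [← neg_sub]; exact I.neg_mem hφa)
    refine ⟨g.1 0 0 * g.1 0 0, fun u hu => ?_, ?_⟩
    · show up _ ∈ adjR k z
      rw [← conj_up_of_zero g hr]
      exact mul_mem (mul_mem hg (show up u ∈ adjR k z from hu)) (inv_mem hg)
    · show π (g.1 0 0 * g.1 0 0) = π a' * π a'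
      rw [map_mul, hπi g00]
  -- the inverse of `z` is a multiplier
  obtain ⟨v, hv, hve⟩ : π ((z⁻¹ : Rˣ) : R) ∈ S.map π := hS ▸ trivial
  obtain ⟨y, hy⟩ : ∃ y, y = (z : R) * v := ⟨_, rfl⟩
  have hy1 : y - 1 ∈ I := by
    rw [hy, show (1 : R) = (z : R) * ((z⁻¹ : Rˣ) : R) by simp, ← mul_sub]
    exact I.mul_mem_left _ (hπm hve)
  have hlow : low (-y) ∈ adjR k z := by
    rw [hy, ← mul_neg]
    exact low_mem_iff.2 (neg_mem (hSU v hv))
  obtain ⟨w, hw⟩ : ∃ w, w = up 1 * low (-y) * up 1 := ⟨_, rfl⟩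
  have hwm : w ∈ adjR k z := hw ▸ mul_mem (mul_mem h1 hlow) h1
  have hw00 : w.1 0 0 = 1 - y := by
    rw [hw]; simp [Matrix.SpecialLinearGroup.coe_mul, Matrix.mul_apply, Fin.sum_univ_two]; ring
  have hw10 : w.1 1 0 = -y := by
    rw [hw]; simp [Matrix.SpecialLinearGroup.coe_mul, Matrix.mul_apply, Fin.sum_univ_two]
  obtain ⟨n, hn⟩ : ∃ n, n = w * up 1 * w⁻¹ * (low (-y))⁻¹ := ⟨_, rfl⟩
  have hli : (low (-y) : SL₂)⁻¹ = low y := inv_eq_of_mul_eq_one_right (by
    refine ext4 ?_ ?_ ?_ ?_ <;> simp [Matrix.SpecialLinearGroup.coe_mul, Matrix.mul_apply, Fin.sum_univ_two])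
  have hnv : n.1 = !![1 - w.1 0 0 * w.1 1 0 * 1, w.1 0 0 * w.1 0 0 * 1;
      -(w.1 1 0 * w.1 1 0 * 1), 1 + w.1 0 0 * w.1 1 0 * 1] * !![1, 0; y, 1] := by
    rw [hn, Matrix.SpecialLinearGroup.coe_mul, conj_up, hli, coe_low]
  have hK : Ker I n := by
    have hp : 1 - y ∈ I := by rw [← neg_sub]; exact I.neg_mem hy1
    refine ker_iff.2 ⟨?_, ?_, ?_, ?_⟩ <;> rw [hnv, hw00, hw10] <;>
      simp only [Matrix.mul_apply, Fin.sum_univ_two, Matrix.cons_val', Matrix.cons_val_zero, Matrix.cons_val_one,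
        Matrix.of_apply, Matrix.cons_val_fin_one, mul_one, mul_zero, zero_add]
    · rw [show 1 - (1 - y) * -y + (1 - y) * (1 - y) * y - 1 = (y + (1 - y) * y) * (1 - y) by ring]
      exact I.mul_mem_left _ hp
    · exact I.mul_mem_left _ hp
    · rw [show -(-y * -y) + (1 + (1 - y) * -y) * y = (y - y * y) * (1 - y) + 0 by ring, add_zero]
      exact I.mul_mem_left _ hp
    · rw [show 1 + (1 - y) * -y - 1 = -y * (1 - y) by ring]
      exact I.mul_mem_left _ hp
  obtain ⟨a, -, e, -⟩ := hsign n (hn ▸ mul_mem (mul_mem (mul_mem hwm h1) (inv_mem hwm)) (inv_mem hlow)) hK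
  rw [hnv, hw00, hw10] at a e
  simp [Matrix.mul_apply, Fin.sum_univ_two] at a e
  have hpy : (1 - y) * y = 0 := (h2R.mul_right_eq_zero).1 (by linear_combination -e - y * a)
  have hy' : y = 1 := by linear_combination -a - hpy
  have hvz : ((z⁻¹ : Rˣ) : R) ∈ S := by
    have : v = ((z⁻¹ : Rˣ) : R) := by
      rw [← mul_one ((z⁻¹ : Rˣ) : R), ← hy', hy, ← mul_assoc, Units.inv_mul, one_mul]
    exact this ▸ hv
  -- hence everything is
  have hzS : (z : R) ∈ S := by
    have hinj : Function.Injective (LinearMap.mulLeft k (⟨_, hvz⟩ : S)) := fun p q h => Subtype.ext (by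
      have h' : ((z⁻¹ : Rˣ) : R) * p = ((z⁻¹ : Rˣ) : R) * q := congrArg Subtype.val h
      simpa using congrArg ((z : R) * ·) h')
    obtain ⟨p, hp⟩ := LinearMap.injective_iff_surjective.1 hinj 1
    have h' : ((z⁻¹ : Rˣ) : R) * p = 1 := congrArg Subtype.val hp
    rw [show (z : R) = p by
      have := congrArg ((z : R) * ·) h'; simpa using this.symm]
    exact p.2
  have hST : S = ⊤ := top_le_iff.1 (hgen ▸ Algebra.adjoin_le (by simpa using hzS))
  exact hj.1 (hcon j (hIdef ▸ Ideal.mem_span_singleton_self j) (hSU j (hST ▸ trivial)))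

end

/-- All the unitriangular matrices are generated. -/
theorem mem_adjR (hk2 : ringChar k ≠ 2) (hk3 : Nat.card k ≠ 3) :
    ∀ (n : ℕ) (R : Type u) [CommRing R] [Algebra k R] [FiniteDimensional k R], Module.finrank k R = n →
      ∀ z : Rˣ, Algebra.adjoin k {(z : R)} = ⊤ → ∀ a : R, up a ∈ adjR k z ∧ low a ∈ adjR k z := by
  intro n
  induction n using Nat.strong_induction_on with
  | _ n ih =>
    intro R _ _ _ hn z hgen
    suffices hU : ∀ a : R, a ∈ upSub k z by
      intro a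
      refine ⟨hU a, ?_⟩
      have := (low_mem_iff (k := k) (z := z) (t := ((z⁻¹ : Rˣ) : R) * a)).2 (hU _)
      rwa [← mul_assoc, Units.mul_inv, one_mul] at this
    classical
    rcases subsingleton_or_nontrivial R with hR | hR
    · intro a; rw [Subsingleton.elim a 0]; exact zero_mem _
    by_cases hf : ∀ x : R, x ≠ 0 → IsUnit x
    · -- the case of a field
      let hF : IsField R :=
        { exists_pair_ne := ⟨0, 1, zero_ne_one⟩
          mul_comm := mul_comm
          mul_inv_cancel := fun {x} hx => (hf x hx).exists_right_inv }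
      letI : Field R := hF.toField
      intro a
      have hint : IsIntegral k (z : R) := IsIntegral.of_finite k _
      let pb : PowerBasis k R :=
        (Algebra.adjoin.powerBasis hint).map
          ((Subalgebra.equivOfEq _ _ hgen).trans Subalgebra.topEquiv)
      have hg : pb.gen = (z : R) := by simp [pb]
      have htop := AdjoinSL.adjH_eq_top pb hk2 hk3 (hg ▸ z.ne_zero)
      have hle : AdjoinSL.adjH k pb.gen ≤ adjR k z := by
        rw [AdjoinSL.adjH, Subgroup.closure_le]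
        rintro g (⟨c, rfl⟩ | ⟨c, rfl⟩)
        · exact up_mem z c
        · rw [hg]; exact low_mem z c
      exact hle (htop ▸ Subgroup.mem_top _)
    push Not at hf
    obtain ⟨x, hx0, hxu⟩ := hf
    obtain ⟨j, hj, hju⟩ := exists_minGen k hx0 hxu
    have hlift : ∀ J : Ideal R, J ≠ ⊥ → Lifts k z J := by
      intro J hJ a
      refine ih _ (hn ▸ finrank_quotient_lt k hJ) (R ⧸ J) rfl _ ?_ a
      rw [eq_top_iff, ← (AlgHom.range_eq_top _).2 (Ideal.Quotient.mkₐ_surjective k J), ← Algebra.map_top,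
        ← hgen, AlgHom.map_adjoin, Set.image_singleton]
      rfl
    have hAne : ann j ≠ ⊥ := by
      intro e
      by_cases hjj : j * j = 0
      · exact hj.1 ((Submodule.eq_bot_iff _).1 e j (mem_ann.2 hjj))
      · obtain ⟨f, hf⟩ := hj.2 j hjj
        have h0 : (1 : R) - f * j = 0 :=
          (Submodule.eq_bot_iff _).1 e _ (mem_ann.2 (by linear_combination -hf))
        exact hju (IsUnit.of_mul_eq_one f (by linear_combination -h0))
    have hIne : Ideal.span {j} ≠ ⊥ := by simpa [Ideal.span_singleton_eq_bot] using hj.1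
    obtain ⟨i, hi, hiU, hi0⟩ := exists_upSub_mem hk2 hk3 hgen hj hju (hlift _ hIne) (hlift _ hAne)
    exact upSub_eq_top_of_le hj hju (hlift _ hIne)
      (le_upSub hj (Ring.two_ne_zero hk2) (hlift _ hAne) hi hiU hi0)

end Cfsg.Agent.Fus.RingSL
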