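import Cfsg.Agent.Lib.Fus.PrimeGraphRoots
import Cfsg.Agent.Lib.Classical.MatrixOrders
import Mathlib

/-! Prime graph adjacency in `PSL n`. -/

set_option autoImplicit false

namespace Cfsg.Agent.Fus.PrimeGraph

open Polynomial Matrix Cfsg.Agent.Classical

variable {F : Type*} [Field F]

/-- Block diagonal embedding. -/
def blk (a b : ℕ) : Matrix (Fin a) (Fin a) F × Matrix (Fin b) (Fin b) F →* Matrix (Fin (a + b)) (Fin (a + b)) F where
  toFun X := Matrix.reindexAlgEquiv F F finSumFinEquiv (Matrix.fromBlocks X.1 0 0 X.2)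
  map_one' := by rw [Prod.fst_one, Prod.snd_one, Matrix.fromBlocks_one, map_one]
  map_mul' X Y := by rw [← map_mul, Matrix.fromBlocks_multiply]; simp

theorem blk_injective (a b : ℕ) : Function.Injective (blk (F := F) a b) := fun X Y h => by
  have h' := Matrix.fromBlocks_inj.1 ((Matrix.reindexAlgEquiv F F finSumFinEquiv).injective h)
  exact Prod.ext h'.1 h'.2.2.2

theorem det_blk {a b : ℕ} (X : Matrix (Fin a) (Fin a) F × Matrix (Fin b) (Fin b) F) :
    (blk a b X).det = X.1.det * X.2.det := by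
  show (Matrix.reindexAlgEquiv F F finSumFinEquiv (Matrix.fromBlocks X.1 0 0 X.2)).det = _
  rw [Matrix.det_reindexAlgEquiv, Matrix.det_fromBlocks_zero₂₁]

theorem blk_eq_scalar {a b : ℕ} {X : Matrix (Fin a) (Fin a) F × Matrix (Fin b) (Fin b) F} {c : F}
    (h : blk a b X = Matrix.scalar (Fin (a + b)) c) : X.1 = Matrix.scalar (Fin a) c ∧ X.2 = Matrix.scalar (Fin b) c := by
  have h2 : blk a b X = blk a b (Matrix.scalar (Fin a) c, Matrix.scalar (Fin b) c) := by
    rw [h]
    show _ = Matrix.reindexAlgEquiv F F finSumFinEquiv _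
    rw [Matrix.scalar_apply, Matrix.scalar_apply, Matrix.scalar_apply, Matrix.fromBlocks_diagonal,
      Matrix.reindexAlgEquiv_apply, Matrix.reindex_apply, Matrix.submatrix_diagonal_equiv]
    congr 1
    funext i
    obtain ⟨j, rfl⟩ := finSumFinEquiv.surjective i
    rcases j with j | j <;> simp
  have h3 := blk_injective a b h2
  exact ⟨congrArg Prod.fst h3, congrArg Prod.snd h3⟩

/-- An element of `SL` from a matrix of determinant one. -/
def slMk {n : ℕ} (M : Matrix (Fin n) (Fin n) F) (h : M.det = 1) : Matrix.SpecialLinearGroup (Fin n) F := ⟨M, h⟩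

variable [Fintype F]

/-- A Singer element. -/
theorem exists_matrix_order {e M : ℕ} (he : 1 ≤ e) (hM : M ∣ Fintype.card F ^ e - 1) :
    ∃ X : Matrix (Fin e) (Fin e) F, orderOf X = M := by
  classical
  obtain ⟨p, hp⟩ := CharP.exists F
  haveI := hp
  haveI : Fact p.Prime := ⟨CharP.char_is_prime F p⟩
  haveI : NeZero e := ⟨by omega⟩
  let K := FiniteField.Extension F p e
  have hK : Module.finrank F K = e := FiniteField.finrank_extension F p e
  letI : Fintype K := Fintype.ofFinite K
  obtain ⟨u, hu⟩ := IsCyclic.exists_generator (α := Kˣ)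
  let bs := Module.finBasisOfFinrankEq F K hK
  have hX : orderOf (Algebra.leftMulMatrix bs (u : K)) = Fintype.card F ^ e - 1 := by
    let L : K →* Matrix (Fin e) (Fin e) F :=
      { toFun := fun z => Algebra.leftMulMatrix bs z, map_one' := map_one _, map_mul' := map_mul _ }
    have hL : orderOf (L (u : K)) = orderOf (u : K) := orderOf_injective L (Algebra.leftMulMatrix_injective bs) (u : K)
    show orderOf (L (u : K)) = _
    rw [hL, orderOf_units,
      orderOf_eq_card_of_forall_mem_zpowers hu, Nat.card_units, Module.natCard_eq_pow_finrank (K := F),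
      Nat.card_eq_fintype_card, hK]
  have hpos : Fintype.card F ^ e - 1 ≠ 0 := by
    have : 2 ≤ Fintype.card F ^ e := le_trans Fintype.one_lt_card (Nat.le_self_pow (by omega) _)
    omega
  exact ⟨_, orderOf_pow_orderOf_div (x := Algebra.leftMulMatrix bs (u : K)) (by rw [hX]; exact hpos)
    (hX.symm ▸ hM)⟩

theorem eq_one_of_coprime {c : F} {M : ℕ} (hM : M.Coprime (Fintype.card F - 1)) (hc0 : c ≠ 0) (hc : c ^ M = 1) :
    c = 1 := by
  have := pow_gcd_eq_one.2 ⟨hc, FiniteField.pow_card_sub_one_eq_one c hc0⟩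
  rwa [hM.gcd_eq_one, pow_one] at this

theorem det_eq_one_of_order {n M : ℕ} {X : Matrix (Fin n) (Fin n) F} (hM0 : M ≠ 0)
    (hM : M.Coprime (Fintype.card F - 1)) (hX : X ^ M = 1) : X.det = 1 := by
  have h : X.det ^ M = 1 := by rw [← Matrix.det_pow, hX, Matrix.det_one]
  exact eq_one_of_coprime hM (fun h0 => by rw [h0, zero_pow hM0] at h; exact zero_ne_one h) h

/-- Padding a matrix of determinant one. -/
theorem exists_sl_order {a n : ℕ} (ha : a ≤ n) {X : Matrix (Fin a) (Fin a) F} (hX : X.det = 1) :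
    ∃ A : Matrix.SpecialLinearGroup (Fin n) F, orderOf A = orderOf X := by
  obtain ⟨b, rfl⟩ := Nat.exists_eq_add_of_le ha
  refine ⟨slMk (blk a b (X, 1)) (by rw [det_blk, hX, Matrix.det_one, one_mul]), ?_⟩
  let c : Matrix.SpecialLinearGroup (Fin (a + b)) F →* Matrix (Fin (a + b)) (Fin (a + b)) F :=
    { toFun := fun A => (A : Matrix (Fin (a + b)) (Fin (a + b)) F)
      map_one' := Matrix.SpecialLinearGroup.coe_one
      map_mul' := fun A B => Matrix.SpecialLinearGroup.coe_mul A B }
  rw [← orderOf_injective c Subtype.val_injective]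
  refine orderOf_eq_orderOf_iff.2 fun j => ?_
  show blk a b (X, 1) ^ j = 1 ↔ _
  rw [← map_pow, map_eq_one_iff _ (blk_injective a b), Prod.pow_mk, one_pow, Prod.mk_eq_one]
  simp

theorem scalar_coeff {n : ℕ} (hn : 1 ≤ n) {c d : F} (h : Matrix.scalar (Fin n) c = Matrix.scalar (Fin n) d) :
    c = d := by
  haveI : Nonempty (Fin n) := ⟨⟨0, hn⟩⟩
  exact Matrix.scalar_inj.1 h

/-- Elements of order prime to `q - 1` keep their order. -/
theorem orderOf_slToPSL {n : ℕ} (hn : 1 ≤ n) (A : Matrix.SpecialLinearGroup (Fin n) F)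
    (hco : (orderOf A).Coprime (Fintype.card F - 1)) : orderOf (slToPSL n F A) = orderOf A := by
  refine Nat.dvd_antisymm (orderOf_map_dvd _ A) (orderOf_dvd_of_pow_eq_one (Subtype.ext ?_))
  obtain ⟨c, hc⟩ := (slToPSL_pow_eq_one_iff A _).1 (pow_orderOf_eq_one (slToPSL n F A))
  have hN : (A : Matrix (Fin n) (Fin n) F) ^ orderOf A = 1 := by
    rw [← Matrix.SpecialLinearGroup.coe_pow, pow_orderOf_eq_one, Matrix.SpecialLinearGroup.coe_one]
  have h1 : c ^ orderOf A = 1 := scalar_coeff hn (by
    rw [map_pow, map_one, ← hc, ← pow_mul, mul_comm, pow_mul, hN, one_pow])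
  have hc0 : c ≠ 0 := fun h => by
    rw [h, zero_pow (orderOf_pos A).ne'] at h1; exact zero_ne_one h1
  rw [Matrix.SpecialLinearGroup.coe_pow, Matrix.SpecialLinearGroup.coe_one, hc, eq_one_of_coprime hco hc0 h1, map_one]

/-- Elements of order prime to `q - 1` lift. -/
theorem exists_lift {n : ℕ} (hn : 1 ≤ n) (y : Matrix.ProjectiveSpecialLinearGroup (Fin n) F) {N : ℕ}
    (hy : orderOf y = N) (hco : N.Coprime (Fintype.card F - 1)) :
    ∃ A : Matrix (Fin n) (Fin n) F, A ^ N = 1 ∧ ∀ j, A ^ j = 1 → N ∣ j := by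
  obtain ⟨A0, rfl⟩ := slToPSL_surjective y
  obtain ⟨c, hc⟩ := (slToPSL_pow_eq_one_iff A0 N).1 (hy ▸ pow_orderOf_eq_one (slToPSL n F A0))
  have hc0 : c ≠ 0 := fun h => by
    have := congrArg Matrix.det hc
    have hne : Nonempty (Fin n) := ⟨⟨0, hn⟩⟩
    rw [Matrix.det_pow, A0.2, one_pow, h, map_zero, Matrix.det_zero] at this
    exact one_ne_zero this
  obtain ⟨m, hm1, hm2⟩ := Nat.chineseRemainder hco 1 0
  refine ⟨(A0 : Matrix (Fin n) (Fin n) F) ^ m, ?_, fun j hj => ?_⟩
  · obtain ⟨w, hw⟩ := Nat.modEq_zero_iff_dvd.1 hm2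
    rw [← pow_mul, mul_comm, pow_mul, hc, ← map_pow, hw, pow_mul, FiniteField.pow_card_sub_one_eq_one c hc0,
      one_pow, map_one]
  · have hym : slToPSL n F A0 ^ m = slToPSL n F A0 := by
      conv_rhs => rw [← pow_one (slToPSL n F A0)]
      exact pow_eq_pow_iff_modEq.2 (hy.symm ▸ hm1)
    rw [← hy]
    refine orderOf_dvd_of_pow_eq_one ?_
    rw [← hym, ← map_pow, ← map_pow, slToPSL_eq_one_iff]
    exact ⟨1, by rw [Matrix.SpecialLinearGroup.coe_pow, Matrix.SpecialLinearGroup.coe_pow, hj, map_one]⟩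

section arith

variable {p r k : ℕ} [Fact p.Prime] [CharP F p]

theorem p_coprime_sub_one : p.Coprime (Fintype.card F - 1) := by
  refine (Fact.out : p.Prime).coprime_iff_not_dvd.2 fun h => ?_
  obtain ⟨e, -, he⟩ := FiniteField.card F p
  have h1 : p ∣ Fintype.card F := he ▸ dvd_pow_self p e.pos.ne'
  have h2 := Nat.dvd_sub h1 h
  rw [Nat.sub_sub_self Fintype.card_pos] at h2
  exact (Fact.out : p.Prime).ne_one (Nat.dvd_one.1 h2)

theorem r_coprime_sub_one (hr : r.Prime) (hk : k = orderOf ((Fintype.card F : ℕ) : ZMod r)) (h2k : 2 ≤ k) :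
    r.Coprime (Fintype.card F - 1) := by
  refine hr.coprime_iff_not_dvd.2 fun h => ?_
  have := Nat.le_of_dvd one_pos (orderOf_dvd_of_dvd hk (δ := 1) (by rwa [pow_one]))
  omega

theorem r_dvd_pow_sub_one (hk : k = orderOf ((Fintype.card F : ℕ) : ZMod r)) {j : ℕ} (h : k ∣ j) :
    r ∣ Fintype.card F ^ j - 1 := by
  rw [dvd_pow_sub_one_iff _ Fintype.card_pos, ← orderOf_dvd_iff_pow_eq_one, ← hk]
  exact h

end arith

variable (p : ℕ) [Fact p.Prime] [CharP F p]

/-- Adjacency of two odd primes in `PSL n`. -/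
theorem psl_two_primes {n : ℕ} (hn : 2 ≤ n) {r s : ℕ} (hr : r.Prime) (hs : s.Prime) (hrp : r ≠ p) (hsp : s ≠ p)
    (hrs : r ≠ s) (hsG : s ∣ Nat.card (Matrix.ProjectiveSpecialLinearGroup (Fin n) F)) {k l : ℕ}
    (hk : k = orderOf ((Fintype.card F : ℕ) : ZMod r)) (hl : l = orderOf ((Fintype.card F : ℕ) : ZMod s))
    (h2k : 2 ≤ k) (hkl : k ≤ l) :
    (r * s ∉ Set.range (orderOf : Matrix.ProjectiveSpecialLinearGroup (Fin n) F → ℕ)) ↔ (n < k + l ∧ ¬ k ∣ l) := by
  classical
  have hrq := r_coprime_sub_one (F := F) hr hk h2k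
  have hsq := r_coprime_sub_one (F := F) hs hl (h2k.trans hkl)
  have hco : (r * s).Coprime (Fintype.card F - 1) := hrq.mul_left hsq
  have hcop : r.Coprime s := (Nat.coprime_primes hr hs).2 hrs
  constructor
  · intro hno
    by_contra hcon
    obtain ⟨a, ha, X, hX⟩ : ∃ a, a ≤ n ∧ ∃ X : Matrix (Fin a) (Fin a) F, orderOf X = r * s := by
      by_cases hd : k ∣ l
      · obtain ⟨y, hy⟩ := exists_prime_orderOf_dvd_card' (hp := ⟨hs⟩) s hsG
        obtain ⟨A, hA, hA'⟩ := exists_lift (by omega) y hy hsq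
        have hln := gl_one (p := p) hs hsp hl hA fun h =>
          hs.ne_one (Nat.dvd_one.1 (hA' 1 (by rw [h, pow_one])))
        rw [Fintype.card_fin] at hln
        exact ⟨l, hln, exists_matrix_order (by omega)
          (hcop.mul_dvd_of_dvd_of_dvd (r_dvd_pow_sub_one hk hd) (r_dvd_pow_sub_one hl dvd_rfl))⟩
      · have hle : k + l ≤ n := by
          by_contra h
          exact hcon ⟨by omega, hd⟩
        obtain ⟨X, hX⟩ := exists_matrix_order (F := F) (e := k) (by omega) (r_dvd_pow_sub_one hk dvd_rfl)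
        obtain ⟨Y, hY⟩ := exists_matrix_order (F := F) (e := l) (by omega) (r_dvd_pow_sub_one hl dvd_rfl)
        exact ⟨k + l, hle, blk k l (X, Y), by
          rw [orderOf_injective _ (blk_injective k l), Prod.orderOf, hX, hY]; exact hcop.lcm_eq_mul⟩
    obtain ⟨A, hA⟩ := exists_sl_order ha
      (det_eq_one_of_order (Nat.mul_ne_zero hr.ne_zero hs.ne_zero) hco (hX ▸ pow_orderOf_eq_one X))
    exact hno ⟨slToPSL n F A, by
      show orderOf (slToPSL n F A) = r * s
      rw [orderOf_slToPSL (by omega) A (by rw [hA, hX]; exact hco), hA, hX]⟩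
  · rintro ⟨hnkl, hd⟩ ⟨y, hy⟩
    obtain ⟨A, hA, hA'⟩ := exists_lift (by omega) y hy hco
    rcases gl_two (p := p) hr hs hrp hsp hrs hk hl hA
      (fun h => hs.ne_one (Nat.dvd_one.1 (Nat.dvd_of_mul_dvd_mul_left hr.pos (by rw [mul_one]; exact hA' r h))))
      (fun h => hr.ne_one (Nat.dvd_one.1 (Nat.dvd_of_mul_dvd_mul_left hs.pos (by
        rw [mul_one, mul_comm]; exact hA' s h)))) with h | h
    · rw [Fintype.card_fin] at h; omega
    · rw [Fintype.card_fin] at h
      obtain ⟨c, hc⟩ := Nat.dvd_lcm_right k l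
      rcases c with _ | _ | c
      · exact Nat.lcm_ne_zero (by omega : k ≠ 0) (by omega : l ≠ 0) (by rw [hc, mul_zero])
      · exact hd ((Nat.dvd_lcm_left k l).trans (by rw [hc]; simp))
      · rw [hc, Nat.mul_succ, Nat.mul_succ] at h; omega

/-- A transvection. -/
def tv : Matrix (Fin 2) (Fin 2) F := !![1, 1; 0, 1]

omit [Fintype F] in
theorem tv_pow (j : ℕ) : (tv : Matrix (Fin 2) (Fin 2) F) ^ j = !![1, (j : F); 0, 1] := by
  induction j with
  | zero => simp [Matrix.one_fin_two]
  | succ j ih => rw [pow_succ, ih, tv]; simp [add_comm]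

omit [Fintype F] in
theorem tv_pow_eq_scalar_iff (j : ℕ) {d c : F} (hd : d ≠ 0) :
    d • (tv : Matrix (Fin 2) (Fin 2) F) ^ j = Matrix.scalar (Fin 2) c ↔ p ∣ j ∧ c = d := by
  rw [tv_pow, ← CharP.cast_eq_zero_iff F p]
  constructor
  · intro h
    have h01 := congrFun (congrFun h 0) 1
    have h00 := congrFun (congrFun h 0) 0
    simp at h01 h00
    exact ⟨h01.resolve_left hd, h00.symm⟩
  · rintro ⟨h, rfl⟩
    ext a b
    fin_cases a <;> fin_cases b <;> simp [h]

theorem root_pow_scalar {K : Type*} [Field K] [Algebra F K] {n N : ℕ} {A : Matrix (Fin n) (Fin n) F} {c : F}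
    (hA : A ^ N = Matrix.scalar (Fin n) c) {x : K} (hx : x ∈ eigRoots K A) : x ^ N = algebraMap F K c := by
  rcases Nat.eq_zero_or_pos n with rfl | hn
  · rw [eigRoots, Matrix.charpoly, Matrix.det_isEmpty] at hx
    simp at hx
  haveI : Nonempty (Fin n) := ⟨⟨0, hn⟩⟩
  have h1 := spectrum.pow_mem_pow (A.map (algebraMap F K)) N (mem_eigRoots_iff.1 hx)
  have h2 : (A.map (algebraMap F K)) ^ N = algebraMap K (Matrix (Fin n) (Fin n) K) (algebraMap F K c) := by
    rw [← Matrix.map_pow, hA, Matrix.scalar_apply, Matrix.diagonal_map (map_zero _), Matrix.algebraMap_eq_diagonal]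
    rfl
  rw [h2, spectrum.scalar_eq] at h1
  simpa using h1

/-- `n = 2`: no element of order `r * p`. -/
theorem psl2_no_rp {r : ℕ} (hr : r.Prime) (hr2 : r ≠ 2) (hrp : r ≠ p)
    (y : Matrix.ProjectiveSpecialLinearGroup (Fin 2) F) : orderOf y ≠ r * p := by
  classical
  intro hy
  obtain ⟨A0, rfl⟩ := slToPSL_surjective y
  obtain ⟨c, hc⟩ := (slToPSL_pow_eq_one_iff A0 (r * p)).1 (hy ▸ pow_orderOf_eq_one _)
  have hc2 : c ^ 2 = 1 := by
    have := congrArg Matrix.det hc
    rw [Matrix.det_pow, A0.2, one_pow, Matrix.scalar_apply, Matrix.det_diagonal, Fin.prod_const] at this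
    exact this.symm
  obtain ⟨m, hm, hym⟩ : ∃ m, c ^ m = 1 ∧ slToPSL 2 F A0 ^ m = slToPSL 2 F A0 := by
    rcases (Fact.out : p.Prime).eq_two_or_odd' with rfl | hodd
    · refine ⟨1, ?_, pow_one _⟩
      have h : (c - 1) ^ 2 = 0 := by rw [sub_pow_char, one_pow, hc2, sub_self]
      rw [pow_one]
      exact sub_eq_zero.1 (eq_zero_of_pow_eq_zero h)
    · obtain ⟨a, ha⟩ := ((hr.eq_two_or_odd').resolve_left hr2).mul hodd
      refine ⟨r * p + 1, ?_, ?_⟩
      · rw [ha, show 2 * a + 1 + 1 = 2 * (a + 1) by ring, pow_mul, hc2, one_pow]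
      · conv_lhs => rw [pow_succ, ← hy, pow_orderOf_eq_one, one_mul]
  have hB : ((A0 : Matrix (Fin 2) (Fin 2) F) ^ m) ^ (r * p) = 1 := by
    rw [← pow_mul, mul_comm, pow_mul, hc, ← map_pow, hm, map_one]
  set B := (A0 : Matrix (Fin 2) (Fin 2) F) ^ m with hBdef
  have hBj : ∀ j, B ^ j = 1 → r * p ∣ j := fun j hj => by
    rw [← hy]
    refine orderOf_dvd_of_pow_eq_one ?_
    rw [← hym, ← map_pow, ← map_pow, slToPSL_eq_one_iff]
    exact ⟨1, by rw [Matrix.SpecialLinearGroup.coe_pow, Matrix.SpecialLinearGroup.coe_pow, ← hBdef, hj, map_one]⟩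
  let K := AlgebraicClosure F
  obtain ⟨x, hx, hrx⟩ := exists_root_dvd p K hr hrp (Fact.out : p.Prime).ne_zero hB fun h =>
    hr.ne_one (Nat.dvd_one.1 (Nat.dvd_of_mul_dvd_mul_right (Fact.out : p.Prime).pos (by rw [one_mul]; exact hBj p h)))
  obtain ⟨-, z, hz⟩ := exists_repeated p K hr.ne_zero hB fun h =>
    (Fact.out : p.Prime).ne_one (Nat.dvd_one.1 (Nat.dvd_of_mul_dvd_mul_left hr.pos (by rw [mul_one]; exact hBj r h)))
  have hR : eigRoots K B = Multiset.replicate 2 z := by
    refine (Multiset.eq_of_le_of_card_le ((Multiset.le_count_iff_replicate_le).1 hz) ?_).symm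
    rw [card_eigRoots, Multiset.card_replicate, Fintype.card_fin]
  have hxz : x = z := Multiset.eq_of_mem_replicate (hR ▸ hx)
  have hdet : (eigRoots K B).prod = 1 := by
    rw [eigRoots, ← Matrix.det_eq_prod_roots_charpoly, ← RingHom.mapMatrix_apply, ← RingHom.map_det, hBdef,
      Matrix.det_pow, A0.2, one_pow, map_one]
  rw [hR, Multiset.prod_replicate, ← hxz] at hdet
  exact hr2 ((Nat.prime_dvd_prime_iff_eq hr Nat.prime_two).1 (hrx.trans (orderOf_dvd_of_pow_eq_one hdet)))

/-- `n = 3`, `(q - 1)_3 = 3`: no element of order `3 * p`. -/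
theorem psl3_no_rp (hp3 : 3 ≠ p) (h3 : 3 ∣ Fintype.card F - 1) (h9 : ¬ 9 ∣ Fintype.card F - 1)
    (y : Matrix.ProjectiveSpecialLinearGroup (Fin 3) F) : orderOf y ≠ 3 * p := by
  classical
  intro hy
  obtain ⟨A0, rfl⟩ := slToPSL_surjective y
  obtain ⟨c, hc⟩ := (slToPSL_pow_eq_one_iff A0 (3 * p)).1 (hy ▸ pow_orderOf_eq_one _)
  have hc3 : c ^ 3 = 1 := by
    have := congrArg Matrix.det hc
    rw [Matrix.det_pow, A0.2, one_pow, Matrix.scalar_apply, Matrix.det_diagonal, Fin.prod_const] at this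
    exact this.symm
  have hp0 : p ≠ 0 := (Fact.out : p.Prime).ne_zero
  have hcop : Nat.Coprime 3 p := (Nat.coprime_primes Nat.prime_three Fact.out).2 hp3
  let K := AlgebraicClosure F
  haveI := charP_of_injective_algebraMap (algebraMap F K).injective p
  set R := eigRoots K (A0 : Matrix (Fin 3) (Fin 3) F) with hRdef
  have h9R : ∀ x ∈ R, x ^ 9 = 1 := fun x hx => by
    have h := root_pow_scalar hc hx
    refine frobenius_inj K p ?_
    rw [frobenius_def, frobenius_def, ← pow_mul, one_pow, show 9 * p = 3 * p * 3 by ring, pow_mul, h, ← map_pow,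
      hc3, map_one]
  by_cases hrep : ∃ a, 2 ≤ R.count a
  · obtain ⟨a, ha⟩ := hrep
    have haR : a ∈ R := Multiset.count_pos.1 (by omega)
    have hRcard : Multiset.card R = 3 := by rw [hRdef, card_eigRoots, Fintype.card_fin]
    have haq : a ^ Fintype.card F = a := by
      by_contra hne
      have h4 : Multiset.replicate 2 a + Multiset.replicate 2 (a ^ Fintype.card F) ≤ R := by
        rw [Multiset.le_iff_count]
        intro z
        rw [Multiset.count_add, Multiset.count_replicate, Multiset.count_replicate]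
        have hq := count_pow_card (A0 : Matrix (Fin 3) (Fin 3) F) a
        rw [← hRdef] at hq
        split_ifs with h1 h2 h2
        · exact absurd (h2.trans h1.symm) hne
        · subst h1; omega
        · subst h2; omega
        · omega
      have h5 := Multiset.card_le_card h4
      rw [Multiset.card_add, Multiset.card_replicate, Multiset.card_replicate, hRcard] at h5
      omega
    have ha0 : a ≠ 0 := fun h => by have := h9R a haR; rw [h] at this; simp at this
    have ha3 : a ^ 3 = 1 := by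
      have h1 : a ^ (Fintype.card F - 1) = 1 := by
        refine mul_right_cancel₀ ha0 ?_
        rw [← pow_succ, Nat.sub_add_cancel Fintype.card_pos, haq, one_mul]
      have hg := pow_gcd_eq_one.2 ⟨h9R a haR, h1⟩
      have hd : Nat.gcd 9 (Fintype.card F - 1) ∣ 3 ^ 2 := Nat.gcd_dvd_left _ _
      obtain ⟨i, hi, hi'⟩ := (Nat.dvd_prime_pow Nat.prime_three).1 hd
      rw [hi'] at hg
      interval_cases i
      · rw [pow_zero, pow_one] at hg; rw [hg, one_pow]
      · rwa [pow_one] at hg
      · refine absurd ?_ h9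
        have h := Nat.gcd_dvd_right 9 (Fintype.card F - 1)
        rw [hi'] at h
        simpa using h
    have hall : R = Multiset.replicate 3 a := by
      obtain ⟨S, hS⟩ := Multiset.le_iff_exists_add.1 ((Multiset.le_count_iff_replicate_le).1 ha)
      have hS1 : Multiset.card S = 1 := by
        rw [hS, Multiset.card_add, Multiset.card_replicate] at hRcard; omega
      obtain ⟨b, rfl⟩ := Multiset.card_eq_one.1 hS1
      have hdet : R.prod = 1 := by
        rw [hRdef, eigRoots, ← Matrix.det_eq_prod_roots_charpoly, ← RingHom.mapMatrix_apply, ← RingHom.map_det,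
          A0.2, map_one]
      rw [hS, Multiset.prod_add, Multiset.prod_replicate, Multiset.prod_singleton] at hdet
      have hba : b = a := mul_left_cancel₀ (pow_ne_zero 2 ha0) (hdet.trans (by rw [← pow_succ, ha3]))
      rw [hS, hba, Multiset.replicate_succ a 2, ← Multiset.singleton_add, add_comm]
    set AK := (A0 : Matrix (Fin 3) (Fin 3) F).map (algebraMap F K)
    have hcp : AK.charpoly = (X - Polynomial.C a) ^ 3 := by
      have h := (IsAlgClosed.splits AK.charpoly).eq_prod_roots_of_monic (Matrix.charpoly_monic _)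
      rw [h, show AK.charpoly.roots = R from rfl, hall, Multiset.map_replicate, Multiset.prod_replicate]
    have hnil := Matrix.aeval_self_charpoly AK
    rw [hcp, map_pow, map_sub, Polynomial.aeval_X, Polynomial.aeval_C] at hnil
    have hp2 : 3 ≤ p ^ 2 := by
      have := Nat.mul_le_mul (Fact.out : p.Prime).two_le (Fact.out : p.Prime).two_le
      rw [sq]; omega
    have hpow : AK ^ p ^ 2 = algebraMap K _ (a ^ p ^ 2) := by
      have h := pow_eq_zero_of_le hp2 hnil
      rw [sub_pow_char_pow_of_commute _ _ (Algebra.commute_algebraMap_right a AK), sub_eq_zero] at h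
      rw [h, map_pow]
    obtain ⟨d, hd⟩ : ∃ d, (A0 : Matrix (Fin 3) (Fin 3) F) ^ p ^ 2 = Matrix.scalar (Fin 3) d := by
      refine ⟨((A0 : Matrix (Fin 3) (Fin 3) F) ^ p ^ 2) 0 0, ?_⟩
      have h : ∀ i j, algebraMap F K (((A0 : Matrix (Fin 3) (Fin 3) F) ^ p ^ 2) i j) =
          if i = j then a ^ p ^ 2 else 0 := fun i j => by
        have := congrFun (congrFun hpow i) j
        rw [← Matrix.map_pow, Matrix.map_apply, Matrix.algebraMap_matrix_apply] at this
        simpa using this
      ext i j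
      refine (algebraMap F K).injective ?_
      rw [h, Matrix.scalar_apply, Matrix.diagonal_apply]
      split_ifs with hij
      · rw [h 0 0, if_pos rfl]
      · rw [map_zero]
    have h1 := orderOf_dvd_of_pow_eq_one ((slToPSL_pow_eq_one_iff A0 _).2 ⟨d, hd⟩)
    rw [hy] at h1
    exact hp3 ((Nat.prime_dvd_prime_iff_eq Nat.prime_three Fact.out).1
      (Nat.prime_three.dvd_of_dvd_pow ((dvd_mul_right 3 p).trans h1)))
  · push Not at hrep
    have h := pow_eq_one_of_eigRoots (K := K) p (A0 : Matrix (Fin 3) (Fin 3) F) (c := 0) (M := 9) (by norm_num) h9R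
      fun x _ => by have := hrep x; rw [hRdef] at this; rw [pow_zero]; omega
    rw [pow_zero, one_mul] at h
    have h1 := orderOf_dvd_of_pow_eq_one ((slToPSL_pow_eq_one_iff A0 9).2 ⟨1, by rw [h, map_one]⟩)
    rw [hy] at h1
    exact hp3 ((Nat.prime_dvd_prime_iff_eq Fact.out Nat.prime_three).1
      ((Fact.out : p.Prime).dvd_of_dvd_pow (n := 2) ((dvd_mul_left p 3).trans h1))).symm

/-- Adjacency of `r` and `p` in `PSL n`. -/
theorem psl_rp {n : ℕ} (hn : 2 ≤ n) {r : ℕ} (hr : r.Prime) (hr2 : r ≠ 2) (hrp : r ≠ p) {k : ℕ}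
    (hk : k = orderOf ((Fintype.card F : ℕ) : ZMod r)) :
    (r * p ∉ Set.range (orderOf : Matrix.ProjectiveSpecialLinearGroup (Fin n) F → ℕ)) ↔
      (n - 2 < k ∨ (n = 3 ∧ r = 3 ∧ 3 ∣ Fintype.card F - 1 ∧ ¬ 9 ∣ Fintype.card F - 1)) := by
  classical
  have hp : p.Prime := Fact.out
  have hk0 : 0 < k := order_pos (p := p) hr hrp hk
  have hcop : r.Coprime p := (Nat.coprime_primes hr hp).2 hrp
  constructor
  · intro hno
    by_contra hcon
    push Not at hcon
    obtain ⟨hkn, hexc⟩ := hcon
    rcases Nat.lt_or_ge k 2 with hk1 | hk2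
    · -- `r` divides `q - 1`
      have hrq : r ∣ Fintype.card F - 1 := by
        have := r_dvd_pow_sub_one (F := F) hk (j := 1) (by rw [show k = 1 by omega])
        rwa [pow_one] at this
      obtain ⟨g, hg⟩ := IsCyclic.exists_generator (α := Fˣ)
      have hgo : orderOf g = Fintype.card F - 1 := by
        rw [orderOf_eq_card_of_forall_mem_zpowers hg, Nat.card_units, Nat.card_eq_fintype_card]
      have hgpos : orderOf g ≠ 0 := (orderOf_pos g).ne'
      have finish : ∀ A : Matrix.SpecialLinearGroup (Fin n) F, slToPSL n F A ^ (r * p) = 1 →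
          slToPSL n F A ^ r ≠ 1 → slToPSL n F A ^ p ≠ 1 → False := fun A h1 h2 h3 => by
        refine hno ⟨slToPSL n F A, ?_⟩
        show orderOf (slToPSL n F A) = r * p
        have hd := orderOf_dvd_of_pow_eq_one h1
        obtain ⟨a, b, ha, hb, hab⟩ := Nat.dvd_mul.1 hd
        rcases (Nat.dvd_prime hr).1 ha with rfl | rfl
        · rw [one_mul] at hab
          exact absurd (orderOf_dvd_iff_pow_eq_one.1 (hab ▸ hb)) h3
        · rcases (Nat.dvd_prime hp).1 hb with rfl | rfl
          · rw [mul_one] at hab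
            exact absurd (orderOf_dvd_iff_pow_eq_one.1 (hab ▸ dvd_refl a)) h2
          · exact hab.symm
      rcases Nat.lt_or_ge n 4 with hn4 | hn4
      · obtain rfl : n = 3 := by omega
        obtain ⟨N, hN, hxN, hN3⟩ : ∃ N, N ∣ Fintype.card F - 1 ∧ N ∣ 3 * (r * p) ∧ ¬ N ∣ 3 * p := by
          by_cases h3 : r = 3
          · subst h3
            refine ⟨9, hexc rfl rfl hrq, ⟨p, by ring⟩, fun h => ?_⟩
            have h' : 3 * 3 ∣ 3 * p := h
            exact hrp ((Nat.prime_dvd_prime_iff_eq Nat.prime_three hp).1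
              (Nat.dvd_of_mul_dvd_mul_left (by norm_num) h'))
          · refine ⟨r, hrq, dvd_mul_of_dvd_right (dvd_mul_right r p) 3, fun h => ?_⟩
            rcases hr.dvd_mul.1 h with h | h
            · exact h3 ((Nat.prime_dvd_prime_iff_eq hr Nat.prime_three).1 h)
            · exact hrp ((Nat.prime_dvd_prime_iff_eq hr hp).1 h)
        obtain ⟨x, hx⟩ : ∃ x : Fˣ, orderOf x = N :=
          ⟨g ^ (orderOf g / N), orderOf_pow_orderOf_div hgpos (hgo ▸ hN)⟩
        let X : Matrix (Fin 2) (Fin 2) F := (x : F) • tv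
        let Y : Matrix (Fin 1) (Fin 1) F := Matrix.scalar (Fin 1) ((((x ^ 2)⁻¹ : Fˣ)) : F)
        have hdet : (blk 2 1 (X, Y)).det = 1 := by
          simp only [det_blk, X, Y, tv, Matrix.det_smul, Matrix.det_fin_two_of, Matrix.scalar_apply,
            Matrix.det_diagonal, Fintype.card_fin, Fin.prod_const]
          simp
        refine finish (slMk (blk 2 1 (X, Y)) hdet) ?_ ?_ ?_
        · rw [slToPSL_pow_eq_one_iff]
          refine ⟨(x : F) ^ (r * p), ?_⟩
          show blk 2 1 (X, Y) ^ (r * p) = _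
          rw [← map_pow, Prod.pow_mk, show X ^ (r * p) = (x : F) ^ (r * p) • tv ^ (r * p) from _root_.smul_pow _ _ _,
            (tv_pow_eq_scalar_iff p (r * p) (pow_ne_zero _ x.ne_zero)).2 ⟨dvd_mul_left p r, rfl⟩]
          have hY : Y ^ (r * p) = Matrix.scalar (Fin 1) ((x : F) ^ (r * p)) := by
            rw [← map_pow, ← Units.val_pow_eq_pow_val, ← Units.val_pow_eq_pow_val]
            congr 2
            rw [inv_pow, inv_eq_iff_mul_eq_one, ← pow_mul, ← pow_add, ← orderOf_dvd_iff_pow_eq_one, hx]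
            exact hxN.trans (dvd_of_eq (by ring))
          rw [hY]
          show Matrix.reindexAlgEquiv F F finSumFinEquiv _ = _
          rw [Matrix.scalar_apply, Matrix.scalar_apply, Matrix.scalar_apply, Matrix.fromBlocks_diagonal,
            Matrix.reindexAlgEquiv_apply, Matrix.reindex_apply, Matrix.submatrix_diagonal_equiv]
          congr 1
          funext i
          obtain ⟨j, rfl⟩ := finSumFinEquiv.surjective i
          rcases j with j | j <;> simp
        · rw [Ne, slToPSL_pow_eq_one_iff]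
          rintro ⟨c, hc⟩
          change blk 2 1 (X, Y) ^ r = _ at hc
          rw [← map_pow, Prod.pow_mk] at hc
          have h := (blk_eq_scalar hc).1
          simp only [X, _root_.smul_pow] at h
          exact hrp.symm ((Nat.prime_dvd_prime_iff_eq hp hr).1
            ((tv_pow_eq_scalar_iff p r (pow_ne_zero _ x.ne_zero)).1 h).1)
        · rw [Ne, slToPSL_pow_eq_one_iff]
          rintro ⟨c, hc⟩
          change blk 2 1 (X, Y) ^ p = _ at hc
          rw [← map_pow, Prod.pow_mk] at hc
          obtain ⟨h1, h2⟩ := blk_eq_scalar hc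
          simp only [X, _root_.smul_pow] at h1
          have hcx := ((tv_pow_eq_scalar_iff p p (pow_ne_zero _ x.ne_zero)).1 h1).2
          simp only [Y] at h2
          rw [← map_pow, hcx] at h2
          have h3 := scalar_coeff le_rfl h2
          rw [← Units.val_pow_eq_pow_val, ← Units.val_pow_eq_pow_val, Units.val_inj, inv_pow, inv_eq_iff_mul_eq_one,
            ← pow_mul, ← pow_add, ← orderOf_dvd_iff_pow_eq_one, hx] at h3
          exact hN3 (h3.trans (dvd_of_eq (by ring)))
      · obtain ⟨b, rfl⟩ : ∃ b, n = 2 + (2 + b) := ⟨n - 4, by omega⟩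
        obtain ⟨z, hz⟩ : ∃ z : Fˣ, orderOf z = r :=
          ⟨g ^ (orderOf g / r), orderOf_pow_orderOf_div hgpos (hgo ▸ hrq)⟩
        let X : Matrix (Fin 2) (Fin 2) F := Matrix.diagonal ![(z : F), ((z⁻¹ : Fˣ) : F)]
        have hXr : X ^ r = 1 := by
          rw [Matrix.diagonal_pow, ← Matrix.diagonal_one]
          congr 1
          funext i
          have h : z ^ r = 1 := hz ▸ pow_orderOf_eq_one z
          fin_cases i <;> simp [← Units.val_pow_eq_pow_val, h]
        have hdet : (blk 2 (2 + b) (X, blk 2 b (tv, 1))).det = 1 := by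
          simp [det_blk, X, tv, Matrix.det_fin_two_of, Matrix.det_diagonal]
        have hpowA : ∀ j, blk 2 (2 + b) (X, blk 2 b (tv, 1)) ^ j = blk 2 (2 + b) (X ^ j, blk 2 b (tv ^ j, 1)) :=
          fun j => by simp [← map_pow, Prod.pow_mk]
        refine finish (slMk (blk 2 (2 + b) (X, blk 2 b (tv, 1))) hdet) ?_ ?_ ?_
        · rw [slToPSL_pow_eq_one_iff]
          refine ⟨1, ?_⟩
          show blk 2 (2 + b) (X, blk 2 b (tv, 1)) ^ (r * p) = _
          have ht : (tv : Matrix (Fin 2) (Fin 2) F) ^ (r * p) = 1 := by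
            have := (tv_pow_eq_scalar_iff p (r * p) (d := (1 : F)) one_ne_zero).2 ⟨dvd_mul_left p r, rfl⟩
            rwa [one_smul, map_one] at this
          rw [hpowA, pow_mul X, hXr, one_pow, ht, ← Prod.one_eq_mk, map_one, ← Prod.one_eq_mk, map_one, map_one]
        · rw [Ne, slToPSL_pow_eq_one_iff]
          rintro ⟨c, hc⟩
          change blk 2 (2 + b) (X, blk 2 b (tv, 1)) ^ r = _ at hc
          rw [hpowA, hXr] at hc
          obtain ⟨h1, h2⟩ := blk_eq_scalar hc
          have hc1 : c = 1 := (scalar_coeff (n := 2) (by norm_num) (by rw [map_one]; exact h1)).symm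
          subst hc1
          have h3 := (blk_eq_scalar h2).1
          rw [← one_smul F (tv ^ r)] at h3
          exact hrp.symm ((Nat.prime_dvd_prime_iff_eq hp hr).1 ((tv_pow_eq_scalar_iff p r one_ne_zero).1 h3).1)
        · rw [Ne, slToPSL_pow_eq_one_iff]
          rintro ⟨c, hc⟩
          change blk 2 (2 + b) (X, blk 2 b (tv, 1)) ^ p = _ at hc
          rw [hpowA] at hc
          obtain ⟨h1, h2⟩ := blk_eq_scalar hc
          have h3 := (blk_eq_scalar h2).1
          rw [← one_smul F (tv ^ p)] at h3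
          have hc1 := ((tv_pow_eq_scalar_iff p p one_ne_zero).1 h3).2
          subst hc1
          rw [Matrix.diagonal_pow, map_one, ← Matrix.diagonal_one] at h1
          have h4 : (z : F) ^ p = 1 := by simpa using congrFun (Matrix.diagonal_injective h1) 0
          rw [← Units.val_pow_eq_pow_val, Units.val_eq_one, ← orderOf_dvd_iff_pow_eq_one, hz] at h4
          exact hrp ((Nat.prime_dvd_prime_iff_eq hr hp).1 h4)
    · -- `r` is prime to `q - 1`
      obtain ⟨X, hX⟩ := exists_matrix_order (F := F) (e := k) (by omega) (r_dvd_pow_sub_one hk dvd_rfl)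
      have ht : orderOf (tv : Matrix (Fin 2) (Fin 2) F) = p := by
        refine orderOf_eq_prime ?_ ?_
        · have := (tv_pow_eq_scalar_iff p p (d := (1 : F)) one_ne_zero).2 ⟨dvd_rfl, rfl⟩
          rwa [one_smul, map_one] at this
        · intro h
          have := congrFun (congrFun h 0) 1
          simp [tv] at this
      have hco : (r * p).Coprime (Fintype.card F - 1) :=
        (r_coprime_sub_one (F := F) hr hk hk2).mul_left p_coprime_sub_one
      have hord : orderOf (blk k 2 (X, tv)) = r * p := by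
        rw [orderOf_injective _ (blk_injective k 2), Prod.orderOf, hX, ht]; exact hcop.lcm_eq_mul
      obtain ⟨A, hA⟩ := exists_sl_order (n := n) (X := blk k 2 (X, tv)) (by omega)
        (det_eq_one_of_order (Nat.mul_ne_zero hr.ne_zero hp.ne_zero) hco (hord ▸ pow_orderOf_eq_one _))
      exact hno ⟨slToPSL n F A, by
        show orderOf (slToPSL n F A) = r * p
        rw [orderOf_slToPSL (by omega) A (by rw [hA, hord]; exact hco), hA, hord]⟩
  · rintro h ⟨y, hy⟩
    by_cases hexc : n = 3 ∧ r = 3 ∧ 3 ∣ Fintype.card F - 1 ∧ ¬ 9 ∣ Fintype.card F - 1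
    · obtain ⟨rfl, rfl, h3, h9⟩ := hexc
      exact psl3_no_rp p hrp h3 h9 y hy
    have hkn : n - 2 < k := h.resolve_right hexc
    rcases Nat.lt_or_ge k 2 with hk1 | hk2
    · obtain rfl : n = 2 := by omega
      exact psl2_no_rp p hr hr2 hrp y hy
    · obtain ⟨A, hA, hA'⟩ := exists_lift (by omega) y hy
        ((r_coprime_sub_one (F := F) hr hk hk2).mul_left p_coprime_sub_one)
      have := gl_rp (p := p) hr hrp hk hk2 hA
        (fun h => hp.ne_one (Nat.dvd_one.1 (Nat.dvd_of_mul_dvd_mul_left hr.pos (by rw [mul_one]; exact hA' r h))))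
        (fun h => hr.ne_one (Nat.dvd_one.1 (Nat.dvd_of_mul_dvd_mul_right hp.pos (by rw [one_mul]; exact hA' p h))))
      rw [Fintype.card_fin] at this
      omega

end Cfsg.Agent.Fus.PrimeGraph
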