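import Cfsg.Agent.Lib.Classical.RootOrders
import Mathlib

/-! Bounds on the dimension from the eigenvalues of elements of order `r * s` or `r * p`. -/

set_option autoImplicit false

namespace Cfsg.Agent.Fus.PrimeGraph

open Polynomial Matrix Cfsg.Agent.Classical

variable {F K : Type*} [Field F] [Fintype F] [Field K] [IsAlgClosed K] [Algebra F K]
  {ι : Type*} [Fintype ι] [DecidableEq ι] {A : Matrix ι ι F}

/-- Multiplicities are constant under Frobenius. -/
theorem count_pow_card [DecidableEq K] (A : Matrix ι ι F) (x : K) :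
    (eigRoots K A).count (x ^ Fintype.card F) = (eigRoots K A).count x := by
  set φ := FiniteField.frobeniusAlgHom F K
  have hmap : (A.map (algebraMap F K)).charpoly.map φ.toRingHom = (A.map (algebraMap F K)).charpoly := by
    rw [Matrix.charpoly_map, Polynomial.map_map]
    congr 1
    exact RingHom.ext fun c => φ.commutes c
  have h : (eigRoots K A).map φ = eigRoots K A := by
    have hc : Multiset.card (A.map (algebraMap F K)).charpoly.roots = (A.map (algebraMap F K)).charpoly.natDegree :=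
      ((IsAlgClosed.splits _).natDegree_eq_card_roots).symm
    have := Polynomial.roots_map_of_injective_of_card_eq_natDegree φ.toRingHom.injective hc
    rw [hmap] at this
    exact this
  conv_lhs => rw [← h]
  rw [show x ^ Fintype.card F = φ x from rfl]
  exact Multiset.count_map_eq_count' φ _ φ.toRingHom.injective x

theorem pow_mem {x : K} (hx : x ∈ eigRoots K A) (i : ℕ) : x ^ Fintype.card F ^ i ∈ eigRoots K A := by
  induction i with
  | zero => simpa using hx
  | succ i ih => rw [pow_succ, pow_mul]; exact pow_card_mem_eigRoots ih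

theorem count_pow [DecidableEq K] (x : K) (i : ℕ) :
    (eigRoots K A).count (x ^ Fintype.card F ^ i) = (eigRoots K A).count x := by
  induction i with
  | zero => simp
  | succ i ih => rw [pow_succ, pow_mul, count_pow_card, ih]

theorem dvd_card_pow_sub_one_of_eq {x : K} {i j : ℕ} (hco : (orderOf x).Coprime (Fintype.card F))
    (h0 : x ≠ 0) (hij : i ≤ j) (h : x ^ Fintype.card F ^ i = x ^ Fintype.card F ^ j) :
    orderOf x ∣ Fintype.card F ^ (j - i) - 1 := by
  rw [← (hco.pow_right i).orderOf_pow]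
  refine orderOf_dvd_of_pow_eq_one (mul_right_cancel₀ (pow_ne_zero (Fintype.card F ^ i) h0) ?_)
  rw [← pow_succ, Nat.sub_add_cancel (Nat.one_le_pow _ _ Fintype.card_pos), ← pow_mul, ← pow_add,
    Nat.add_sub_cancel' hij, ← h, one_mul]

theorem dvd_card_pow_add_one_of_eq {x : K} {i j : ℕ} (hco : (orderOf x).Coprime (Fintype.card F))
    (h0 : x ≠ 0) (hij : i ≤ j) (h : (x ^ Fintype.card F ^ i)⁻¹ = x ^ Fintype.card F ^ j) :
    orderOf x ∣ Fintype.card F ^ (j - i) + 1 := by
  rw [← (hco.pow_right i).orderOf_pow]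
  refine orderOf_dvd_of_pow_eq_one ?_
  rw [pow_succ, ← pow_mul, ← pow_add (Fintype.card F), Nat.add_sub_cancel' hij, ← h,
    inv_mul_cancel₀ (pow_ne_zero _ h0)]

theorem root_facts {N : ℕ} (hN0 : N ≠ 0) (hA : A ^ N = 1) {x : K} (hx : x ∈ eigRoots K A) :
    x ≠ 0 ∧ orderOf x ∣ N := by
  have h := pow_eq_one_of_eigRoot hA hx
  refine ⟨?_, orderOf_dvd_of_pow_eq_one h⟩
  rintro rfl
  rw [zero_pow hN0] at h
  exact zero_ne_one h

/-- A Galois orbit of eigenvalues. -/
theorem exists_orbit_card [DecidableEq K] {x : K} (hx : x ∈ eigRoots K A) (h0 : x ≠ 0)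
    (hco : (orderOf x).Coprime (Fintype.card F)) (m : ℕ)
    (hm : ∀ δ, 0 < δ → δ < m → ¬ orderOf x ∣ Fintype.card F ^ δ - 1) :
    ∃ T : Finset K, T ⊆ (eigRoots K A).toFinset ∧ T.card = m ∧ ∀ y ∈ T, orderOf y = orderOf x := by
  refine ⟨(Finset.range m).image fun i => x ^ Fintype.card F ^ i, ?_, ?_, ?_⟩
  · intro y hy
    obtain ⟨i, -, rfl⟩ := Finset.mem_image.1 hy
    exact Multiset.mem_toFinset.2 (pow_mem hx i)
  · rw [Finset.card_image_of_injOn, Finset.card_range]
    intro i hi j hj h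
    simp only [Finset.coe_range, Set.mem_Iio] at hi hj
    by_contra hne
    rcases lt_or_gt_of_ne hne with hlt | hlt
    · exact hm (j - i) (by omega) (by omega) (dvd_card_pow_sub_one_of_eq hco h0 hlt.le h)
    · exact hm (i - j) (by omega) (by omega) (dvd_card_pow_sub_one_of_eq hco h0 hlt.le h.symm)
  · intro y hy
    obtain ⟨i, -, rfl⟩ := Finset.mem_image.1 hy
    exact (hco.pow_right i).orderOf_pow

/-- An orbit of eigenvalues under Frobenius and inversion. -/
theorem exists_signed_orbit_card [DecidableEq K] (hinv : ∀ y ∈ eigRoots K A, y⁻¹ ∈ eigRoots K A) {x : K}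
    (hx : x ∈ eigRoots K A) (h0 : x ≠ 0) (hco : (orderOf x).Coprime (Fintype.card F)) (m : ℕ)
    (hm : ∀ δ, 0 < δ → δ < m → ¬ orderOf x ∣ Fintype.card F ^ δ - 1)
    (hm' : ∀ δ, δ < m → ¬ orderOf x ∣ Fintype.card F ^ δ + 1) :
    ∃ T : Finset K, T ⊆ (eigRoots K A).toFinset ∧ T.card = 2 * m ∧ ∀ y ∈ T, orderOf y = orderOf x := by
  obtain ⟨T, hT, hTc, hTo⟩ := exists_orbit_card hx h0 hco m hm
  have hord : ∀ y : K, y ≠ 0 → orderOf y⁻¹ = orderOf y := fun y _ => by
    refine orderOf_eq_orderOf_iff.2 fun n => ?_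
    rw [inv_pow, inv_eq_one]
  let O := (Finset.range m).image fun i => x ^ Fintype.card F ^ i
  let O' := (Finset.range m).image fun i => (x ^ Fintype.card F ^ i)⁻¹
  refine ⟨O ∪ O', ?_, ?_, ?_⟩
  · intro y hy
    rw [Multiset.mem_toFinset]
    rcases Finset.mem_union.1 hy with hy | hy <;> obtain ⟨i, -, rfl⟩ := Finset.mem_image.1 hy
    · exact pow_mem hx i
    · exact hinv _ (pow_mem hx i)
  · have hinj : Set.InjOn (fun i => x ^ Fintype.card F ^ i) (Finset.range m) := by
      intro i hi j hj h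
      simp only [Finset.coe_range, Set.mem_Iio] at hi hj
      by_contra hne
      rcases lt_or_gt_of_ne hne with hlt | hlt
      · exact hm (j - i) (by omega) (by omega) (dvd_card_pow_sub_one_of_eq hco h0 hlt.le h)
      · exact hm (i - j) (by omega) (by omega) (dvd_card_pow_sub_one_of_eq hco h0 hlt.le h.symm)
    rw [Finset.card_union_of_disjoint, Finset.card_image_of_injOn hinj, Finset.card_image_of_injOn,
      Finset.card_range, two_mul]
    · exact fun i hi j hj h => hinj hi hj (inv_injective h)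
    · refine Finset.disjoint_left.2 fun y hy hy' => ?_
      obtain ⟨i, hi, rfl⟩ := Finset.mem_image.1 hy
      obtain ⟨j, hj, hij⟩ := Finset.mem_image.1 hy'
      rw [Finset.mem_range] at hi hj
      rcases le_total j i with hle | hle
      · exact hm' (i - j) (by omega) (dvd_card_pow_add_one_of_eq hco h0 hle hij)
      · refine hm' (j - i) (by omega) (dvd_card_pow_add_one_of_eq hco h0 hle ?_)
        rw [← hij, inv_inv]
  · intro y hy
    rcases Finset.mem_union.1 hy with hy | hy <;> obtain ⟨i, -, rfl⟩ := Finset.mem_image.1 hy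
    · exact (hco.pow_right i).orderOf_pow
    · rw [hord _ (pow_ne_zero _ h0)]
      exact (hco.pow_right i).orderOf_pow

theorem card_le_card_roots [DecidableEq K] {T : Finset K} (hT : T ⊆ (eigRoots K A).toFinset) :
    T.card ≤ Fintype.card ι :=
  (Finset.card_le_card hT).trans ((Multiset.toFinset_card_le _).trans (card_eigRoots A).le)

theorem card_add_le [DecidableEq K] {T T' : Finset K} (hT : T ⊆ (eigRoots K A).toFinset)
    (hT' : T' ⊆ (eigRoots K A).toFinset) (hd : ∀ y ∈ T, y ∉ T') : T.card + T'.card ≤ Fintype.card ι := by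
  rw [← Finset.card_union_of_disjoint (Finset.disjoint_left.2 hd)]
  exact card_le_card_roots (Finset.union_subset hT hT')

/-- A repeated eigenvalue gives one more root. -/
theorem card_add_one_le [DecidableEq K] {T : Finset K} (hT : T ⊆ (eigRoots K A).toFinset) {y : K}
    (hy : 2 ≤ (eigRoots K A).count y) : T.card + 1 ≤ Fintype.card ι := by
  have h1 : T.val + {y} ≤ eigRoots K A := by
    rw [Multiset.le_iff_count]
    intro z
    rw [Multiset.count_add, Multiset.count_singleton]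
    have hle : T.val.count z ≤ 1 := Multiset.nodup_iff_count_le_one.1 T.nodup z
    have hmem : 0 < T.val.count z → 0 < (eigRoots K A).count z := fun h =>
      Multiset.count_pos.2 (Multiset.mem_toFinset.1 (hT (Multiset.count_pos.1 h)))
    split_ifs with h
    · subst h; omega
    · rcases Nat.eq_zero_or_pos (T.val.count z) with h' | h'
      · omega
      · have := hmem h'; omega
  have := Multiset.card_le_card h1
  rwa [Multiset.card_add, Multiset.card_singleton, card_eigRoots] at this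

section

variable (p : ℕ) [Fact p.Prime] [CharP F p]

include p in
theorem card_coprime {N : ℕ} (hN : ¬ p ∣ N) : N.Coprime (Fintype.card F) := by
  obtain ⟨e, -, he⟩ := FiniteField.card F p
  rw [he]
  exact (((Fact.out : p.Prime).coprime_iff_not_dvd.2 hN).symm).pow_right _

include p in
/-- If all eigenvalues are `M`-th roots of unity, the order is controlled. -/
theorem pow_eq_one_of_roots (K : Type*) [Field K] [IsAlgClosed K] [Algebra F K] {N M : ℕ} (hM : M ≠ 0)
    (hA : A ^ N = 1) (hroot : ∀ x ∈ eigRoots K A, x ^ M = 1) (hco : ∀ c, Nat.gcd N (p ^ c * M) ∣ M) :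
    A ^ M = 1 := by
  classical
  have := charP_of_injective_algebraMap (algebraMap F K).injective p
  have h := pow_eq_one_of_eigRoots (K := K) p A (c := Nat.clog p (Fintype.card ι)) hM hroot fun x _ =>
    (Multiset.count_le_card x _).trans ((card_eigRoots A).le.trans (Nat.le_pow_clog (Fact.out : p.Prime).one_lt _))
  have h2 := pow_gcd_eq_one.2 ⟨hA, h⟩
  obtain ⟨w, hw⟩ := hco (Nat.clog p (Fintype.card ι))
  rw [hw, pow_mul, h2, one_pow]

include p in
theorem exists_root_dvd (K : Type*) [Field K] [IsAlgClosed K] [Algebra F K] {r s : ℕ} (hr : r.Prime)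
    (hrp : r ≠ p) (hs : s ≠ 0) (hA : A ^ (r * s) = 1) (hAs : A ^ s ≠ 1) :
    ∃ x ∈ eigRoots K A, r ∣ orderOf x := by
  by_contra hcon
  push Not at hcon
  refine hAs (pow_eq_one_of_roots p K hs hA (fun x hx => orderOf_dvd_iff_pow_eq_one.1 ?_) fun c => ?_)
  · have h := (root_facts (Nat.mul_ne_zero hr.ne_zero hs) hA hx).2
    exact ((hr.coprime_iff_not_dvd.2 (hcon x hx)).symm).dvd_of_dvd_mul_left h
  · rw [Nat.gcd_mul_right, ((Nat.coprime_primes hr Fact.out).2 hrp).pow_right c, one_mul]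

include p in
theorem exists_repeated (K : Type*) [Field K] [IsAlgClosed K] [DecidableEq K] [Algebra F K] {r : ℕ} (hr : r ≠ 0)
    (hA : A ^ (r * p) = 1) (hAr : A ^ r ≠ 1) :
    (∀ x ∈ eigRoots K A, x ^ r = 1) ∧ ∃ y, 2 ≤ (eigRoots K A).count y := by
  have := charP_of_injective_algebraMap (algebraMap F K).injective p
  have hroot : ∀ x ∈ eigRoots K A, x ^ r = 1 := fun x hx => by
    have h := pow_eq_one_of_eigRoot hA hx
    exact frobenius_inj K p (by rw [frobenius_def, frobenius_def, ← pow_mul, one_pow, h])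
  refine ⟨hroot, ?_⟩
  by_contra hcon
  push Not at hcon
  have := pow_eq_one_of_eigRoots (K := K) p A (c := 0) hr hroot fun x _ => by
    rw [pow_zero]; have := hcon x; omega
  exact hAr (by simpa using this)

end

theorem dvd_pow_sub_one_iff {r δ : ℕ} (q : ℕ) (hq : 1 ≤ q) :
    r ∣ q ^ δ - 1 ↔ ((q : ℕ) : ZMod r) ^ δ = 1 := by
  rw [← ZMod.natCast_eq_zero_iff, Nat.cast_sub (Nat.one_le_pow _ _ hq), Nat.cast_pow, Nat.cast_one, sub_eq_zero]

theorem dvd_pow_add_one_iff {r δ : ℕ} (q : ℕ) : r ∣ q ^ δ + 1 ↔ ((q : ℕ) : ZMod r) ^ δ = -1 := by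
  rw [← ZMod.natCast_eq_zero_iff, Nat.cast_add, Nat.cast_pow, Nat.cast_one, add_eq_zero_iff_eq_neg]

variable {r s p k l : ℕ}

theorem orderOf_dvd_of_dvd {δ : ℕ} (hk : k = orderOf ((Fintype.card F : ℕ) : ZMod r))
    (h : r ∣ Fintype.card F ^ δ - 1) : k ∣ δ :=
  hk ▸ orderOf_dvd_of_pow_eq_one ((dvd_pow_sub_one_iff _ Fintype.card_pos).1 h)

theorem card_ne_zero_mod [Fact p.Prime] [CharP F p] (hr : r.Prime) (hrp : r ≠ p) :
    ((Fintype.card F : ℕ) : ZMod r) ≠ 0 := by
  rw [Ne, ZMod.natCast_eq_zero_iff]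
  exact fun h => Nat.Prime.not_coprime_iff_dvd.2 ⟨r, hr, dvd_refl r, h⟩
    (card_coprime (F := F) p (fun h' => hrp ((Nat.prime_dvd_prime_iff_eq Fact.out hr).1 h').symm))

theorem order_pos [Fact p.Prime] [CharP F p] (hr : r.Prime) (hrp : r ≠ p)
    (hk : k = orderOf ((Fintype.card F : ℕ) : ZMod r)) : 0 < k := by
  have := Fact.mk hr
  rw [hk, orderOf_pos_iff]
  exact isOfFinOrder_iff_pow_eq_one.2
    ⟨r - 1, Nat.sub_pos_of_lt hr.one_lt, ZMod.pow_card_sub_one_eq_one (card_ne_zero_mod hr hrp)⟩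

/-- An element of order `r * s` needs dimension `k + l` or `lcm k l`. -/
theorem gl_two [Fact p.Prime] [CharP F p] (hr : r.Prime) (hs : s.Prime) (hrp : r ≠ p) (hsp : s ≠ p) (hrs : r ≠ s)
    (hk : k = orderOf ((Fintype.card F : ℕ) : ZMod r)) (hl : l = orderOf ((Fintype.card F : ℕ) : ZMod s))
    (hA : A ^ (r * s) = 1) (hAr : A ^ r ≠ 1) (hAs : A ^ s ≠ 1) :
    k + l ≤ Fintype.card ι ∨ Nat.lcm k l ≤ Fintype.card ι := by
  classical
  let K := AlgebraicClosure F
  obtain ⟨x, hx, hrx⟩ := exists_root_dvd p K hr hrp hs.ne_zero hA hAs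
  obtain ⟨y, hy, hsy⟩ := exists_root_dvd p K hs hsp hr.ne_zero (by rwa [mul_comm] at hA) hAr
  have hN : ¬ p ∣ r * s := fun h => by
    rcases (Fact.out : p.Prime).dvd_mul.1 h with h | h
    · exact hrp ((Nat.prime_dvd_prime_iff_eq Fact.out hr).1 h).symm
    · exact hsp ((Nat.prime_dvd_prime_iff_eq Fact.out hs).1 h).symm
  have hN0 : r * s ≠ 0 := Nat.mul_ne_zero hr.ne_zero hs.ne_zero
  have hco : ∀ z ∈ eigRoots K A, (orderOf z).Coprime (Fintype.card F) := fun z hz =>
    card_coprime p fun h => hN (h.trans (root_facts hN0 hA hz).2)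
  obtain ⟨hx0, hxN⟩ := root_facts hN0 hA hx
  obtain ⟨hy0, hyN⟩ := root_facts hN0 hA hy
  by_cases hboth : s ∣ orderOf x
  · obtain ⟨T, hT, hTc, -⟩ := exists_orbit_card hx hx0 (hco x hx) (Nat.lcm k l) fun δ hδ hlt hd => by
      have := Nat.le_of_dvd hδ (Nat.lcm_dvd (orderOf_dvd_of_dvd hk (hrx.trans hd))
        (orderOf_dvd_of_dvd hl (hboth.trans hd)))
      omega
    exact Or.inr (hTc ▸ card_le_card_roots hT)
  · left
    obtain ⟨T, hT, hTc, hTo⟩ := exists_orbit_card hx hx0 (hco x hx) k fun δ hδ hlt hd => by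
      have := Nat.le_of_dvd hδ (orderOf_dvd_of_dvd hk (hrx.trans hd))
      omega
    obtain ⟨T', hT', hTc', hTo'⟩ := exists_orbit_card hy hy0 (hco y hy) l fun δ hδ hlt hd => by
      have := Nat.le_of_dvd hδ (orderOf_dvd_of_dvd hl (hsy.trans hd))
      omega
    rw [← hTc, ← hTc']
    refine card_add_le hT hT' fun z hz hz' => hboth ?_
    rw [← hTo z hz, hTo' z hz']
    exact hsy

/-- An element of order divisible by `r` needs dimension `k`. -/
theorem gl_one [Fact p.Prime] [CharP F p] (hr : r.Prime) (hrp : r ≠ p)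
    (hk : k = orderOf ((Fintype.card F : ℕ) : ZMod r)) (hA : A ^ r = 1) (hA1 : A ≠ 1) : k ≤ Fintype.card ι := by
  classical
  let K := AlgebraicClosure F
  obtain ⟨x, hx, hrx⟩ := exists_root_dvd p K hr hrp one_ne_zero (by rwa [mul_one]) (by rwa [pow_one])
  obtain ⟨hx0, hxN⟩ := root_facts hr.ne_zero hA hx
  obtain ⟨T, hT, hTc, -⟩ := exists_orbit_card hx hx0
    (card_coprime p fun h => hrp ((Nat.prime_dvd_prime_iff_eq Fact.out hr).1 (h.trans hxN)).symm) k
    fun δ hδ hlt hd => by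
      have := Nat.le_of_dvd hδ (orderOf_dvd_of_dvd hk (hrx.trans hd))
      omega
  exact hTc ▸ card_le_card_roots hT

/-- An element of order `r * p` needs dimension `k + 2`, if `k ≥ 2`. -/
theorem gl_rp [Fact p.Prime] [CharP F p] (hr : r.Prime) (hrp : r ≠ p)
    (hk : k = orderOf ((Fintype.card F : ℕ) : ZMod r)) (h2k : 2 ≤ k) (hA : A ^ (r * p) = 1) (hAr : A ^ r ≠ 1)
    (hAp : A ^ p ≠ 1) : k + 2 ≤ Fintype.card ι := by
  classical
  let K := AlgebraicClosure F
  obtain ⟨x, hx, hrx⟩ := exists_root_dvd p K hr hrp (Fact.out : p.Prime).ne_zero hA hAp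
  obtain ⟨hroot, y, hy⟩ := exists_repeated p K hr.ne_zero hA hAr
  have hxr : orderOf x = r := Nat.dvd_antisymm (orderOf_dvd_of_pow_eq_one (hroot x hx)) hrx
  have hx0 := (root_facts (Nat.mul_ne_zero hr.ne_zero (Fact.out : p.Prime).ne_zero) hA hx).1
  have hco : ∀ {z : K}, orderOf z = r → (orderOf z).Coprime (Fintype.card F) := fun hz =>
    hz ▸ card_coprime p fun h => hrp ((Nat.prime_dvd_prime_iff_eq Fact.out hr).1 h).symm
  obtain ⟨T, hT, hTc, hTo⟩ := exists_orbit_card hx hx0 (hco hxr) k fun δ hδ hlt hd => by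
    have := Nat.le_of_dvd hδ (orderOf_dvd_of_dvd hk (hrx.trans hd))
    omega
  have hle : T.val + {y} + {y ^ Fintype.card F} ≤ eigRoots K A ∨ T.val + {y} + {y} ≤ eigRoots K A := by
    have hsub : T.val ≤ (eigRoots K A) := (Multiset.le_iff_subset T.nodup).2 fun z hz => Multiset.mem_toFinset.1 (hT hz)
    have hcount : ∀ z, T.val.count z ≤ 1 := Multiset.nodup_iff_count_le_one.1 T.nodup
    by_cases hyT : y ∈ T
    · left
      have hyo : orderOf y = r := (hTo y hyT).trans hxr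
      have hy0 : y ≠ 0 := fun h => by rw [h, orderOf_zero] at hyo; exact hr.ne_zero hyo.symm
      have hne : y ^ Fintype.card F ≠ y := fun h => by
        have := orderOf_dvd_of_dvd hk (hyo ▸ dvd_card_pow_sub_one_of_eq (hco hyo) hy0 zero_le_one
          (i := 0) (j := 1) (by simpa using h.symm))
        have := Nat.le_of_dvd (by norm_num) this
        omega
      have hy' : 2 ≤ (eigRoots K A).count (y ^ Fintype.card F) := by rwa [count_pow_card]
      rw [Multiset.le_iff_count]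
      intro z
      rw [Multiset.count_add, Multiset.count_add, Multiset.count_singleton, Multiset.count_singleton]
      have := hcount z
      have := Multiset.count_le_of_le z hsub
      by_cases h1 : z = y
      · subst h1
        rw [if_pos rfl, if_neg hne.symm]
        omega
      · rw [if_neg h1]
        split_ifs with h2
        · subst h2; omega
        · omega
    · right
      rw [Multiset.le_iff_count]
      intro z
      rw [Multiset.count_add, Multiset.count_add, Multiset.count_singleton]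
      have := Multiset.count_le_of_le z hsub
      split_ifs with h1
      · subst h1
        rw [Multiset.count_eq_zero.2 (by exact hyT)]
        omega
      · omega
  rcases hle with h | h <;>
  · have h' := Multiset.card_le_card h
    rw [Multiset.card_add, Multiset.card_add, Multiset.card_singleton, card_eigRoots, Finset.card_val, hTc] at h'
    first | omega | (rw [Multiset.card_singleton] at h'; omega)

/-- `η = k` for odd `k` and `η = k / 2` for even `k`. -/
def Eta (k η : ℕ) : Prop := (Odd k ∧ η = k) ∨ (Even k ∧ 2 * η = k)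

theorem Eta.dvd_of_dvd {η δ : ℕ} (hη : Eta k η) (h : k ∣ δ) : η ∣ δ := by
  rcases hη with ⟨-, rfl⟩ | ⟨-, hk⟩
  · exact h
  · exact (hk ▸ dvd_mul_left η 2 : η ∣ k).trans h

/-- `q ^ δ ≡ -1` forces `k` even and `2 * δ` an odd multiple of `k`. -/
theorem even_of_dvd_add_one {δ : ℕ} (hr2 : r ≠ 2) (hrprime : r.Prime)
    (hk : k = orderOf ((Fintype.card F : ℕ) : ZMod r)) (h : r ∣ Fintype.card F ^ δ + 1) :
    Even k ∧ ∃ u, Odd u ∧ 2 * δ = k * u := by
  rw [dvd_pow_add_one_iff] at h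
  have h2 : k ∣ 2 * δ := hk ▸ orderOf_dvd_of_pow_eq_one (by rw [mul_comm, pow_mul, h, neg_one_sq])
  have hn : ¬ k ∣ δ := fun hd => by
    rw [hk, orderOf_dvd_iff_pow_eq_one, h] at hd
    have h20 : ((2 : ℕ) : ZMod r) = 0 := by push_cast; linear_combination -hd
    exact hr2 ((Nat.prime_dvd_prime_iff_eq hrprime Nat.prime_two).1 ((ZMod.natCast_eq_zero_iff _ _).1 h20))
  obtain ⟨u, hu⟩ := h2
  have hek : Even k := by
    by_contra ho
    rw [Nat.not_even_iff_odd] at ho
    exact hn ((ho.coprime_two_right).dvd_of_dvd_mul_left ⟨u, hu⟩)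
  refine ⟨hek, u, ?_, hu⟩
  by_contra hue
  rw [Nat.not_odd_iff_even] at hue
  obtain ⟨v, rfl⟩ := hue
  exact hn ⟨v, by rw [mul_add] at hu; omega⟩

theorem eta_le_of_dvd {η δ : ℕ} (hr2 : r ≠ 2) (hrprime : r.Prime)
    (hk : k = orderOf ((Fintype.card F : ℕ) : ZMod r)) (hη : Eta k η)
    (h : r ∣ Fintype.card F ^ δ - 1 ∨ r ∣ Fintype.card F ^ δ + 1) : η ∣ δ := by
  rcases h with h | h
  · exact hη.dvd_of_dvd (orderOf_dvd_of_dvd hk h)
  · obtain ⟨hek, u, -, hu⟩ := even_of_dvd_add_one hr2 hrprime hk h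
    rcases hη with ⟨ho, -⟩ | ⟨-, hk2⟩
    · exact absurd hek (Nat.not_even_iff_odd.2 ho)
    · refine ⟨u, ?_⟩
      rw [← hk2, mul_assoc] at hu
      omega

/-- Either `l` is an odd multiple of `k`, or a common exponent is at least `η k + η l`. -/
theorem eta_add_le {ηk ηl δ : ℕ} (hr2 : r ≠ 2) (hs2 : s ≠ 2) (hrprime : r.Prime) (hsprime : s.Prime)
    (hk : k = orderOf ((Fintype.card F : ℕ) : ZMod r)) (hl : l = orderOf ((Fintype.card F : ℕ) : ZMod s))
    (hηk : Eta k ηk) (hηl : Eta l ηl) (hkl : ηk ≤ ηl) (hno : ¬ ∃ t : ℕ, Odd t ∧ l = k * t) (hδ : 0 < δ)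
    (h : (r ∣ Fintype.card F ^ δ - 1 ∧ s ∣ Fintype.card F ^ δ - 1) ∨
      (r ∣ Fintype.card F ^ δ + 1 ∧ s ∣ Fintype.card F ^ δ + 1)) : ηk + ηl ≤ δ := by
  rcases h with ⟨h1, h2⟩ | ⟨h1, h2⟩
  · have hk' := orderOf_dvd_of_dvd hk h1
    have hl' := orderOf_dvd_of_dvd hl h2
    obtain ⟨c, hc⟩ := hηl.dvd_of_dvd hl'
    rcases c with _ | _ | c
    · omega
    · exfalso
      simp only [Nat.zero_add, mul_one] at hc
      subst hc
      rcases hηl with ⟨ho, rfl⟩ | ⟨-, hl2⟩
      · obtain ⟨t, ht⟩ := hk'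
        rw [ht, Nat.odd_mul] at ho
        exact hno ⟨t, ho.2, ht⟩
      · have := Nat.le_of_dvd hδ hl'
        omega
    · rw [hc, Nat.mul_succ, Nat.mul_succ]
      omega
  · obtain ⟨hek, u, hu, hu'⟩ := even_of_dvd_add_one hr2 hrprime hk h1
    obtain ⟨hel, v, hv, hv'⟩ := even_of_dvd_add_one hs2 hsprime hl h2
    rcases hηl with ⟨ho, -⟩ | ⟨-, hl2⟩
    · exact absurd hel (Nat.not_even_iff_odd.2 ho)
    obtain ⟨w, rfl⟩ := hv
    rcases w with _ | w
    · exact absurd ⟨u, hu, by omega⟩ hno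
    · rw [← hl2, mul_assoc] at hv'
      have h3 : ηl * 3 ≤ ηl * (2 * (w + 1) + 1) := Nat.mul_le_mul_left _ (by omega)
      omega

section symp

variable {n : ℕ}

/-- Eigenvalues of symplectic matrices are closed under inversion. -/
theorem inv_mem (B : Matrix.symplecticGroup (Fin n) F) {x : K}
    (hx : x ∈ eigRoots K (B : Matrix (Fin n ⊕ Fin n) (Fin n ⊕ Fin n) F)) :
    x⁻¹ ∈ eigRoots K (B : Matrix (Fin n ⊕ Fin n) (Fin n ⊕ Fin n) F) := by
  set Am := (B : Matrix (Fin n ⊕ Fin n) (Fin n ⊕ Fin n) F).map (algebraMap F K)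
  obtain ⟨u, hu⟩ : IsUnit Am :=
    ((Matrix.isUnit_iff_isUnit_det _).2 (SymplecticGroup.symplectic_det B.2)).map (algebraMap F K).mapMatrix
  have hx0 : x ≠ 0 := fun h => by
    have hz := mem_eigRoots_iff.1 hx
    change x ∈ spectrum K Am at hz
    rw [h, ← hu] at hz
    exact spectrum.zero_notMem K u.isUnit hz
  have h1 : (((Units.mk0 x hx0)⁻¹ : Kˣ) : K) ∈ spectrum K
      ((u⁻¹ : (Matrix (Fin n ⊕ Fin n) (Fin n ⊕ Fin n) K)ˣ) : Matrix (Fin n ⊕ Fin n) (Fin n ⊕ Fin n) K) :=
    (spectrum.inv_mem_iff (r := Units.mk0 x hx0) (a := u)).1 (by rw [Units.val_mk0, hu]; exact mem_eigRoots_iff.1 hx)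
  rw [Units.val_inv_eq_inv_val, Units.val_mk0, Matrix.mem_spectrum_iff_isRoot_charpoly] at h1
  have hJ : Am.transpose * Matrix.J (Fin n) K * Am = Matrix.J (Fin n) K := by
    have h := congrArg (fun M : Matrix (Fin n ⊕ Fin n) (Fin n ⊕ Fin n) F => M.map (algebraMap F K))
      (SymplecticGroup.mem_iff'.1 B.2)
    simp only [Matrix.map_mul, Matrix.map_J] at h
    rw [Matrix.transpose_map] at h
    exact h
  obtain ⟨uJ, huJ⟩ : ∃ uJ : (Matrix (Fin n ⊕ Fin n) (Fin n ⊕ Fin n) K)ˣ,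
      (uJ : Matrix (Fin n ⊕ Fin n) (Fin n ⊕ Fin n) K) = Matrix.J (Fin n) K :=
    (Matrix.isUnit_iff_isUnit_det _).2 (Matrix.isUnit_det_J _ _)
  have hinv : ((u⁻¹ : (Matrix (Fin n ⊕ Fin n) (Fin n ⊕ Fin n) K)ˣ) : Matrix (Fin n ⊕ Fin n) (Fin n ⊕ Fin n) K) =
      (uJ⁻¹ : (Matrix (Fin n ⊕ Fin n) (Fin n ⊕ Fin n) K)ˣ) * Am.transpose * uJ := by
    rw [Units.inv_eq_of_mul_eq_one_left]
    rw [hu, mul_assoc, mul_assoc, ← mul_assoc Am.transpose, huJ, hJ, ← huJ, Units.inv_mul]
  rw [hinv, Matrix.coe_units_inv, Matrix.charpoly_units_conj', Matrix.charpoly_transpose] at h1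
  exact mem_eigRoots_iff.2 (Matrix.mem_spectrum_iff_isRoot_charpoly.2 h1)

omit [Fintype F] in
theorem val_pow_eq_one {B : Matrix.symplecticGroup (Fin n) F} {N : ℕ} :
    (B : Matrix (Fin n ⊕ Fin n) (Fin n ⊕ Fin n) F) ^ N = 1 ↔ B ^ N = 1 := by
  exact ⟨fun h => Subtype.ext (by rw [SubmonoidClass.coe_pow, h]; rfl), fun h => by rw [← SubmonoidClass.coe_pow, h]; rfl⟩

/-- The bound from an eigenvalue of order divisible by `r`. -/
theorem eta_orbit [DecidableEq K] [Fact p.Prime] [CharP F p] {η : ℕ} (B : Matrix.symplecticGroup (Fin n) F)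
    (hr : r.Prime) (hr2 : r ≠ 2) (hk : k = orderOf ((Fintype.card F : ℕ) : ZMod r)) (hη : Eta k η) {x : K}
    (hx : x ∈ eigRoots K (B : Matrix (Fin n ⊕ Fin n) (Fin n ⊕ Fin n) F)) (hx0 : x ≠ 0) (hp : ¬ p ∣ orderOf x)
    (hrx : r ∣ orderOf x) :
    ∃ T : Finset K, T ⊆ (eigRoots K (B : Matrix (Fin n ⊕ Fin n) (Fin n ⊕ Fin n) F)).toFinset ∧ T.card = 2 * η ∧
      ∀ y ∈ T, orderOf y = orderOf x := by
  refine exists_signed_orbit_card (fun y hy => inv_mem B hy) hx hx0 (card_coprime p hp) η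
    (fun δ hδ hlt hd => ?_) (fun δ hlt hd => ?_)
  · have := Nat.le_of_dvd hδ (eta_le_of_dvd hr2 hr hk hη (Or.inl (hrx.trans hd)))
    omega
  · rcases Nat.eq_zero_or_pos δ with rfl | hδ
    · rw [pow_zero] at hd
      exact hr2 ((Nat.prime_dvd_prime_iff_eq hr Nat.prime_two).1 (hrx.trans hd))
    · have := Nat.le_of_dvd hδ (eta_le_of_dvd hr2 hr hk hη (Or.inr (hrx.trans hd)))
      omega

/-- A symplectic element of order `r` needs `η k ≤ n`. -/
theorem sp_one [Fact p.Prime] [CharP F p] {η : ℕ} (hr : r.Prime) (hr2 : r ≠ 2) (hrp : r ≠ p)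
    (hk : k = orderOf ((Fintype.card F : ℕ) : ZMod r)) (hη : Eta k η) {B : Matrix.symplecticGroup (Fin n) F}
    (hB : B ^ r = 1) (hB1 : B ≠ 1) : η ≤ n := by
  classical
  let K := AlgebraicClosure F
  have hA := val_pow_eq_one.2 hB
  obtain ⟨x, hx, hrx⟩ := exists_root_dvd p K hr hrp one_ne_zero (by rw [mul_one]; exact hA)
    (by rw [pow_one]; exact fun h => hB1 (Subtype.ext h))
  obtain ⟨hx0, hxN⟩ := root_facts hr.ne_zero hA hx
  obtain ⟨T, hT, hTc, -⟩ := eta_orbit (p := p) B hr hr2 hk hη hx hx0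
    (fun h => hrp ((Nat.prime_dvd_prime_iff_eq Fact.out hr).1 (h.trans hxN)).symm) hrx
  have := card_le_card_roots hT
  rw [hTc, Fintype.card_sum, Fintype.card_fin] at this
  omega

/-- A symplectic element of order `r * p` needs `η k + 1 ≤ n`. -/
theorem sp_rp [Fact p.Prime] [CharP F p] {η : ℕ} (hr : r.Prime) (hr2 : r ≠ 2) (hrp : r ≠ p)
    (hk : k = orderOf ((Fintype.card F : ℕ) : ZMod r)) (hη : Eta k η) {B : Matrix.symplecticGroup (Fin n) F}
    (hB : B ^ (r * p) = 1) (hBr : B ^ r ≠ 1) (hBp : B ^ p ≠ 1) : η + 1 ≤ n := by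
  classical
  let K := AlgebraicClosure F
  have hA := val_pow_eq_one.2 hB
  obtain ⟨x, hx, hrx⟩ := exists_root_dvd p K hr hrp (Fact.out : p.Prime).ne_zero hA (fun h => hBp (val_pow_eq_one.1 h))
  obtain ⟨hroot, y, hy⟩ := exists_repeated p K hr.ne_zero hA (fun h => hBr (val_pow_eq_one.1 h))
  have hxr : orderOf x = r := Nat.dvd_antisymm (orderOf_dvd_of_pow_eq_one (hroot x hx)) hrx
  obtain ⟨T, hT, hTc, -⟩ := eta_orbit (p := p) B hr hr2 hk hη hx
    (root_facts (Nat.mul_ne_zero hr.ne_zero (Fact.out : p.Prime).ne_zero) hA hx).1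
    (fun h => hrp ((Nat.prime_dvd_prime_iff_eq Fact.out hr).1 (hxr ▸ h)).symm) hrx
  have := card_add_one_le hT hy
  rw [hTc, Fintype.card_sum, Fintype.card_fin] at this
  omega

/-- A symplectic element of order `r * s` needs `η k + η l ≤ n` or `l / k` an odd integer. -/
theorem sp_two [Fact p.Prime] [CharP F p] {ηk ηl : ℕ} (hr : r.Prime) (hs : s.Prime) (hr2 : r ≠ 2) (hs2 : s ≠ 2)
    (hrp : r ≠ p) (hsp : s ≠ p) (hk : k = orderOf ((Fintype.card F : ℕ) : ZMod r))
    (hl : l = orderOf ((Fintype.card F : ℕ) : ZMod s)) (hηk : Eta k ηk) (hηl : Eta l ηl) (hkl : ηk ≤ ηl)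
    {B : Matrix.symplecticGroup (Fin n) F} (hB : B ^ (r * s) = 1) (hBr : B ^ r ≠ 1) (hBs : B ^ s ≠ 1) :
    ηk + ηl ≤ n ∨ ∃ t : ℕ, Odd t ∧ l = k * t := by
  classical
  let K := AlgebraicClosure F
  rw [or_iff_not_imp_right]
  intro hno
  have hA := val_pow_eq_one.2 hB
  obtain ⟨x, hx, hrx⟩ := exists_root_dvd p K hr hrp hs.ne_zero hA (fun h => hBs (val_pow_eq_one.1 h))
  obtain ⟨y, hy, hsy⟩ := exists_root_dvd p K hs hsp hr.ne_zero (by rwa [mul_comm] at hA)
    (fun h => hBr (val_pow_eq_one.1 h))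
  have hN0 : r * s ≠ 0 := Nat.mul_ne_zero hr.ne_zero hs.ne_zero
  have hN : ∀ {z : K}, z ∈ eigRoots K (B : Matrix (Fin n ⊕ Fin n) (Fin n ⊕ Fin n) F) → ¬ p ∣ orderOf z :=
    fun hz h => by
      rcases (Fact.out : p.Prime).dvd_mul.1 (h.trans (root_facts hN0 hA hz).2) with h | h
      · exact hrp ((Nat.prime_dvd_prime_iff_eq Fact.out hr).1 h).symm
      · exact hsp ((Nat.prime_dvd_prime_iff_eq Fact.out hs).1 h).symm
  obtain ⟨hx0, hxN⟩ := root_facts hN0 hA hx
  obtain ⟨hy0, hyN⟩ := root_facts hN0 hA hy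
  have hcard : Fintype.card (Fin n ⊕ Fin n) = n + n := by simp
  by_cases hboth : s ∣ orderOf x
  · obtain ⟨T, hT, hTc, -⟩ := exists_signed_orbit_card (fun z hz => inv_mem B hz) hx hx0
      (card_coprime p (hN hx)) (ηk + ηl)
      (fun δ hδ hlt hd => by
        have := eta_add_le hr2 hs2 hr hs hk hl hηk hηl hkl hno hδ (Or.inl ⟨hrx.trans hd, hboth.trans hd⟩)
        omega)
      (fun δ hlt hd => by
        rcases Nat.eq_zero_or_pos δ with rfl | hδ
        · rw [pow_zero] at hd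
          exact hr2 ((Nat.prime_dvd_prime_iff_eq hr Nat.prime_two).1 (hrx.trans hd))
        · have := eta_add_le hr2 hs2 hr hs hk hl hηk hηl hkl hno hδ (Or.inr ⟨hrx.trans hd, hboth.trans hd⟩)
          omega)
    have := card_le_card_roots hT
    omega
  · obtain ⟨T, hT, hTc, hTo⟩ := eta_orbit (p := p) B hr hr2 hk hηk hx hx0 (hN hx) hrx
    obtain ⟨T', hT', hTc', hTo'⟩ := eta_orbit (p := p) B hs hs2 hl hηl hy hy0 (hN hy) hsy
    have := card_add_le hT hT' fun z hz hz' => hboth (by rw [← hTo z hz, hTo' z hz']; exact hsy)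
    omega

end symp

end Cfsg.Agent.Fus.PrimeGraph
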