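import Mathlib
import Cfsg.Prelude.Def_G2
import Cfsg.Agent.Lib.Classical.SLGroup

/-!
The split octonions as `M₂(F) ⊕ M₂(F)`, and the subgroup `SO₄⁺(F)` of their automorphism group.
-/

set_option autoImplicit false
set_option linter.unusedSectionVars false
set_option linter.style.haveILetI false

namespace Cfsg.Agent.Fus.GTwoSylow

open Matrix

variable {F : Type*} [Field F]

local notation "MM" => Matrix (Fin 2) (Fin 2) F
local notation "V8" => (Fin 8 → F)

/-- The quaternion part. -/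
def mOf (x : Fin 8 → F) : Matrix (Fin 2) (Fin 2) F := !![x 0, x 1; x 4, x 7]

/-- The complementary part. -/
def wOf (x : Fin 8 → F) : Matrix (Fin 2) (Fin 2) F := !![x 2, x 3; x 6, -x 5]

/-- An octonion from its two parts. -/
def bld (M W : Matrix (Fin 2) (Fin 2) F) : Fin 8 → F :=
  ![M 0 0, M 0 1, W 0 0, W 0 1, M 1 0, -W 1 1, W 1 0, M 1 1]

/-- The standard alternating matrix. -/
def jMat (F : Type*) [Field F] : Matrix (Fin 2) (Fin 2) F := !![0, 1; -1, 0]

theorem mOf_bld (M W : MM) : mOf (bld M W) = M := by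
  ext i j; fin_cases i <;> fin_cases j <;> simp [mOf, bld]

theorem wOf_bld (M W : MM) : wOf (bld M W) = W := by
  ext i j; fin_cases i <;> fin_cases j <;> simp [wOf, bld]

theorem bld_parts (x : V8) : bld (mOf x) (wOf x) = x := by
  funext i; fin_cases i <;> simp [bld, mOf, wOf]

theorem ext_parts {x y : V8} (h1 : mOf x = mOf y) (h2 : wOf x = wOf y) : x = y := by
  rw [← bld_parts x, ← bld_parts y, h1, h2]

theorem mOf_add (x y : V8) : mOf (x + y) = mOf x + mOf y := by
  ext i j; fin_cases i <;> fin_cases j <;> simp [mOf]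

theorem wOf_add (x y : V8) : wOf (x + y) = wOf x + wOf y := by
  ext i j; fin_cases i <;> fin_cases j <;> simp [wOf] <;> ring

theorem mOf_smul (c : F) (x : V8) : mOf (c • x) = c • mOf x := by
  ext i j; fin_cases i <;> fin_cases j <;> simp [mOf]

theorem wOf_smul (c : F) (x : V8) : wOf (c • x) = c • wOf x := by
  ext i j; fin_cases i <;> fin_cases j <;> simp [wOf]

theorem bld_add (M W M' W' : MM) : bld (M + M') (W + W') = bld M W + bld M' W' :=
  ext_parts (by rw [mOf_add, mOf_bld, mOf_bld, mOf_bld]) (by rw [wOf_add, wOf_bld, wOf_bld, wOf_bld])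

theorem bld_smul (c : F) (M W : MM) : bld (c • M) (c • W) = c • bld M W :=
  ext_parts (by rw [mOf_smul, mOf_bld, mOf_bld]) (by rw [wOf_smul, wOf_bld, wOf_bld])

theorem mOf_mul (x y : V8) :
    mOf (Lie.zornMul x y) = mOf x * mOf y + jMat F * wOf y * jMat F * (wOf x)ᵀ := by
  ext i j
  fin_cases i <;> fin_cases j <;>
    simp [mOf, wOf, jMat, Lie.zornMul, Lie.dot3, Lie.cross3, Matrix.mul_apply, Matrix.vecMul, dotProduct,
      Fin.sum_univ_two] <;> ring

theorem wOf_mul (x y : V8) :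
    wOf (Lie.zornMul x y) = (mOf x)ᵀ * wOf y + (mOf y).adjugateᵀ * wOf x := by
  ext i j
  fin_cases i <;> fin_cases j <;>
    simp [mOf, wOf, Lie.zornMul, Lie.dot3, Lie.cross3, Matrix.mul_apply, Fin.sum_univ_two,
      Matrix.adjugate_fin_two] <;> ring

theorem jMat_mul_jMat : jMat F * jMat F = -1 := by
  ext i j; fin_cases i <;> fin_cases j <;> simp [jMat]

theorem jMat_congr (A : MM) : A * jMat F * Aᵀ = A.det • jMat F := by
  ext i j
  fin_cases i <;> fin_cases j <;> simp [jMat, Matrix.mul_apply, Fin.sum_univ_two, Matrix.det_fin_two] <;> ring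

variable (F) in
/-- Pairs of matrices of equal determinant. -/
def pairs : Subgroup (GL (Fin 2) F × GL (Fin 2) F) :=
  MonoidHom.eqLocus (Matrix.GeneralLinearGroup.det.comp (MonoidHom.fst _ _))
    (Matrix.GeneralLinearGroup.det.comp (MonoidHom.snd _ _))

/-- The action of a pair. -/
noncomputable def act (p : GL (Fin 2) F × GL (Fin 2) F) : V8 →ₗ[F] V8 where
  toFun x := bld ((p.1 : MM) * mOf x * ((p.1⁻¹ : GL (Fin 2) F) : MM))
    ((((p.1⁻¹ : GL (Fin 2) F) : MM))ᵀ * wOf x * (p.2 : MM)ᵀ)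
  map_add' x y := by
    rw [mOf_add, wOf_add, Matrix.mul_add, Matrix.add_mul, Matrix.mul_add, Matrix.add_mul, bld_add]
  map_smul' c x := by
    rw [mOf_smul, wOf_smul, Matrix.mul_smul, Matrix.smul_mul, Matrix.mul_smul, Matrix.smul_mul, bld_smul,
      RingHom.id_apply]

theorem mOf_act (p : GL (Fin 2) F × GL (Fin 2) F) (x : V8) :
    mOf (act p x) = (p.1 : MM) * mOf x * ((p.1⁻¹ : GL (Fin 2) F) : MM) := mOf_bld _ _

theorem wOf_act (p : GL (Fin 2) F × GL (Fin 2) F) (x : V8) :
    wOf (act p x) = (((p.1⁻¹ : GL (Fin 2) F) : MM))ᵀ * wOf x * (p.2 : MM)ᵀ := wOf_bld _ _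

theorem act_one : act (1 : GL (Fin 2) F × GL (Fin 2) F) = LinearMap.id :=
  LinearMap.ext fun x => ext_parts (by simp [mOf_act]) (by simp [wOf_act])

theorem act_mul (p p' : GL (Fin 2) F × GL (Fin 2) F) : act (p * p') = (act p).comp (act p') :=
  LinearMap.ext fun x => ext_parts
    (by simp [mOf_act, Matrix.mul_assoc])
    (by simp [wOf_act, Matrix.mul_assoc, Matrix.transpose_mul])

theorem act_zorn (p : pairs F) (x y : V8) :
    act p.1 (Lie.zornMul x y) = Lie.zornMul (act p.1 x) (act p.1 y) := by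
  obtain ⟨⟨g, t⟩, hgt⟩ := p
  have hdet : (g : MM).det = (t : MM).det := congrArg Units.val hgt
  set G : MM := (g : MM) with hG
  set G' : MM := ((g⁻¹ : GL (Fin 2) F) : MM) with hG'
  set T : MM := (t : MM) with hT
  have h1 : G * G' = 1 := Units.mul_inv g
  have h2 : G' * G = 1 := Units.inv_mul g
  have h3 : G'.det * G.det = 1 := by rw [← Matrix.det_mul, h2, Matrix.det_one]
  refine ext_parts ?_ ?_
  · rw [mOf_act, mOf_mul, mOf_mul, mOf_act, mOf_act, wOf_act, wOf_act]
    show G * (mOf x * mOf y + jMat F * wOf y * jMat F * (wOf x)ᵀ) * G' =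
      G * mOf x * G' * (G * mOf y * G') + jMat F * (G'ᵀ * wOf y * Tᵀ) * jMat F * (G'ᵀ * wOf x * Tᵀ)ᵀ
    have hT2 : Tᵀ * jMat F * T = T.det • jMat F := by
      simpa [Matrix.det_transpose] using jMat_congr Tᵀ
    have hJ : jMat F * G'ᵀ = G'.det • (G * jMat F) := by
      calc jMat F * G'ᵀ = (G * G') * (jMat F * G'ᵀ) := by rw [h1, Matrix.one_mul]
        _ = G * (G' * jMat F * G'ᵀ) := by simp only [Matrix.mul_assoc]
        _ = _ := by rw [jMat_congr, Matrix.mul_smul]
    have e : jMat F * (G'ᵀ * wOf y * Tᵀ) * jMat F * (G'ᵀ * wOf x * Tᵀ)ᵀ =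
        (jMat F * G'ᵀ) * wOf y * (Tᵀ * jMat F * T) * (wOf x)ᵀ * G' := by
      simp only [Matrix.transpose_mul, Matrix.transpose_transpose, Matrix.mul_assoc]
    have h4 : G'.det * T.det = 1 := by rw [← hdet, h3]
    rw [e, hJ, hT2]
    simp only [Matrix.mul_smul, Matrix.smul_mul, smul_smul]
    rw [mul_comm T.det, h4, one_smul]
    simp only [Matrix.mul_add, Matrix.add_mul, Matrix.mul_assoc]
    congr 1
    rw [← Matrix.mul_assoc G' G, h2, Matrix.one_mul]
  · rw [wOf_act, wOf_mul, wOf_mul, mOf_act, mOf_act, wOf_act, wOf_act]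
    show G'ᵀ * ((mOf x)ᵀ * wOf y + (mOf y).adjugateᵀ * wOf x) * Tᵀ =
      (G * mOf x * G')ᵀ * (G'ᵀ * wOf y * Tᵀ) + (G * mOf y * G').adjugateᵀ * (G'ᵀ * wOf x * Tᵀ)
    have ha : (G * mOf y * G').adjugate = G * (mOf y).adjugate * G' := by
      have e1 : G'.adjugate = G'.det • G := by
        calc G'.adjugate = G'.adjugate * (G' * G) := by rw [h2, Matrix.mul_one]
          _ = _ := by rw [← Matrix.mul_assoc, Matrix.adjugate_mul, Matrix.smul_mul, Matrix.one_mul]
      have e2 : G.adjugate = G.det • G' := by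
        calc G.adjugate = G.adjugate * (G * G') := by rw [h1, Matrix.mul_one]
          _ = _ := by rw [← Matrix.mul_assoc, Matrix.adjugate_mul, Matrix.smul_mul, Matrix.one_mul]
      rw [Matrix.adjugate_mul_distrib, Matrix.adjugate_mul_distrib, e1, e2]
      simp only [Matrix.mul_smul, Matrix.smul_mul, smul_smul, Matrix.mul_assoc]
      rw [mul_comm, h3, one_smul]
    rw [ha]
    have hmid : Gᵀ * G'ᵀ = 1 := by rw [← Matrix.transpose_mul, h2, Matrix.transpose_one]
    simp only [Matrix.transpose_mul, Matrix.mul_add, Matrix.add_mul, Matrix.mul_assoc]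
    rw [← Matrix.mul_assoc Gᵀ G'ᵀ, hmid]
    simp only [Matrix.one_mul]
    rw [← Matrix.mul_assoc Gᵀ G'ᵀ, hmid]
    simp only [Matrix.one_mul]

/-- The matrices of the action. -/
noncomputable def actMat : pairs F →* Matrix (Fin 8) (Fin 8) F where
  toFun p := LinearMap.toMatrix' (act p.1)
  map_one' := by rw [OneMemClass.coe_one, act_one, LinearMap.toMatrix'_id]
  map_mul' p p' := by rw [Subgroup.coe_mul, act_mul, LinearMap.toMatrix'_comp]

/-- The homomorphism into `G₂`. -/
noncomputable def phi : pairs F →* Lie.G2 F :=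
  (actMat (F := F)).toHomUnits.codRestrict (Lie.G2 F) fun p => by
    intro x y
    show actMat p *ᵥ Lie.zornMul x y = Lie.zornMul (actMat p *ᵥ x) (actMat p *ᵥ y)
    simp only [actMat, MonoidHom.coe_mk, OneHom.coe_mk, LinearMap.toMatrix'_mulVec]
    exact act_zorn p x y

/-- The action of an automorphism on vectors. -/
def app (g : Lie.G2 F) (x : Fin 8 → F) : Fin 8 → F := ((g : GL (Fin 8) F) : Matrix (Fin 8) (Fin 8) F) *ᵥ x

theorem app_mul (g h : Lie.G2 F) (x : V8) : app (g * h) x = app g (app h x) :=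
  (Matrix.mulVec_mulVec x _ _).symm

theorem app_one (x : V8) : app (1 : Lie.G2 F) x = x := Matrix.one_mulVec x

theorem app_inv (g : Lie.G2 F) (x : V8) : app g⁻¹ (app g x) = x := by
  rw [← app_mul, inv_mul_cancel, app_one]

theorem app_add (g : Lie.G2 F) (x y : V8) : app g (x + y) = app g x + app g y := Matrix.mulVec_add _ _ _

theorem app_smul (g : Lie.G2 F) (c : F) (x : V8) : app g (c • x) = c • app g x := Matrix.mulVec_smul _ _ _

theorem app_zorn (g : Lie.G2 F) (x y : V8) : app g (Lie.zornMul x y) = Lie.zornMul (app g x) (app g y) :=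
  g.2 x y

theorem app_ext {g h : Lie.G2 F} (e : ∀ x, app g x = app h x) : g = h :=
  Subtype.ext (Units.ext (Matrix.ext_iff_mulVec.2 e))

theorem app_phi (p : pairs F) (x : V8) : app (phi p) x = act p.1 x := LinearMap.toMatrix'_mulVec _ _

/-- Scalar pairs. -/
noncomputable def scal : Fˣ →* pairs F :=
  (((Units.map (Matrix.scalar (Fin 2) : F →+* MM).toMonoidHom).prod
    (Units.map (Matrix.scalar (Fin 2) : F →+* MM).toMonoidHom))).codRestrict (pairs F) fun _ => rfl

theorem scal_injective : Function.Injective (scal (F := F)) := by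
  intro a b h
  have h' : Matrix.scalar (Fin 2) (a : F) = Matrix.scalar (Fin 2) (b : F) :=
    congrArg (fun p : pairs F => (p.1.1 : MM)) h
  exact Units.ext (Matrix.scalar_inj.1 h')

theorem exists_scalar_of_comm {A : MM} (h : ∀ M : MM, A * M = M * A) : ∃ c : F, A = Matrix.scalar (Fin 2) c := by
  refine ⟨A 0 0, ?_⟩
  have h1 := h !![0, 1; 0, 0]
  have h2 := h !![0, 0; 1, 0]
  have a1 := congrFun₂ h1 0 1
  have a2 := congrFun₂ h1 1 1
  have a3 := congrFun₂ h2 0 0
  simp [Matrix.mul_apply, Fin.sum_univ_two] at a1 a2 a3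
  ext i j
  fin_cases i <;> fin_cases j <;> simp [a1, a2, a3]

theorem phi_ker : (phi (F := F)).ker = scal.range := by
  ext p
  constructor
  · intro hp
    obtain ⟨⟨g, t⟩, hgt⟩ := p
    have h : ∀ x, act (g, t) x = x := fun x => by
      rw [← app_phi ⟨(g, t), hgt⟩ x, show phi ⟨(g, t), hgt⟩ = 1 from hp, app_one]
    have hm : ∀ M : MM, (g : MM) * M * ((g⁻¹ : GL (Fin 2) F) : MM) = M := fun M => by
      have := congrArg mOf (h (bld M 0))
      rwa [mOf_act, mOf_bld] at this
    obtain ⟨c, hc⟩ := exists_scalar_of_comm (A := (g : MM)) fun M => by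
      conv_rhs => rw [← hm M, Matrix.mul_assoc, Units.inv_mul, Matrix.mul_one]
    have hc0 : c ≠ 0 := by
      intro h0
      have := Units.mul_inv g
      rw [hc, h0, map_zero, Matrix.zero_mul] at this
      exact zero_ne_one this
    have hw := congrArg wOf (h (bld 0 1))
    rw [wOf_act, wOf_bld, Matrix.mul_one] at hw
    have ht : (t : MM) = Matrix.scalar (Fin 2) c := by
      have h5 : (g : MM)ᵀ * ((((g⁻¹ : GL (Fin 2) F) : MM))ᵀ * (t : MM)ᵀ) = (g : MM)ᵀ := by
        rw [hw, Matrix.mul_one]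
      rw [← Matrix.mul_assoc, ← Matrix.transpose_mul, Units.inv_mul, Matrix.transpose_one, Matrix.one_mul] at h5
      rw [Matrix.transpose_inj.1 h5, hc]
    exact ⟨Units.mk0 c hc0, Subtype.ext (Prod.ext (Units.ext hc.symm) (Units.ext ht.symm))⟩
  · rintro ⟨c, rfl⟩
    refine app_ext fun x => ?_
    rw [app_phi, app_one]
    have e1 : ((((scal c).1.1)⁻¹ : GL (Fin 2) F) : MM) = Matrix.scalar (Fin 2) ((c⁻¹ : Fˣ) : F) := rfl
    refine ext_parts ?_ ?_
    · rw [mOf_act, e1, show ((scal c).1.1 : MM) = Matrix.scalar (Fin 2) (c : F) from rfl]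
      ext i j
      simp [Matrix.scalar_apply, Matrix.diagonal_mul, Matrix.mul_diagonal, mul_comm (c : F)]
    · rw [wOf_act, e1, show ((scal c).1.2 : MM) = Matrix.scalar (Fin 2) (c : F) from rfl]
      ext i j
      simp [Matrix.scalar_apply, Matrix.diagonal_transpose, Matrix.diagonal_mul, Matrix.mul_diagonal,
        mul_comm (c : F)⁻¹]

end Cfsg.Agent.Fus.GTwoSylow
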