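import Cfsg.Agent.Lib.Classical.UnitHeisenberg
import Cfsg.Agent.Lib.Classical.UnitDiagonalOut
import Cfsg.Agent.Lib.Classical.NormalForms
import Cfsg.Agent.Lib.Classical.Witt
import Cfsg.Agent.Lib.Fus.FrameCount

/-!
Orders of the stabilisers of totally isotropic subspaces of `SU_n(q)`.
-/

set_option autoImplicit false
set_option linter.unusedSectionVars false

namespace Cfsg.Agent.Fus.UnitStab

open Matrix Module Cfsg.Agent.Classical Cfsg.Agent.Classical.PSUAut Cfsg.Agent.UnitDiagonalOut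
  FrameCount

variable {F : Type*} [Field F] [Fintype F] {q n : ℕ}

local notation "V" => (Fin n → F)
local notation "h" => hermForm n F q
local notation "Mn" => Matrix (Fin n) (Fin n) F

/-- `GU_n` as matrices. -/
abbrev guToMat (n : ℕ) (F : Type*) [Field F] (q : ℕ) : GU n F q →* Matrix (Fin n) (Fin n) F :=
  (Units.coeHom (Matrix (Fin n) (Fin n) F)).comp (GU n F q).subtype

local notation "M" => guToMat n F q

theorem exists_gu_of_matrix (hF : Fintype.card F = q ^ 2) (A : Mn)
    (hA : ∀ u v, h (A *ᵥ u) (A *ᵥ v) = h u v) : ∃ g : GU n F q, M g = A := by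
  have hdet : A.det ≠ 0 := fun h0 => by
    have := det_unitary hF hA
    rw [h0, zero_mul] at this
    exact zero_ne_one this
  exact ⟨⟨Matrix.GeneralLinearGroup.mkOfDetNeZero A hdet, hA⟩, rfl⟩

theorem exists_gu_map (hF : Fintype.card F = q ^ 2) {k : ℕ} (e f : Frame F h k) :
    ∃ g : GU n F q, ∀ i, M g *ᵥ e.1 i = f.1 i := by
  let X := Submodule.span F (Set.range e.1)
  let B := Basis.span e.2.1
  let ψ : X →ₗ[F] V := B.constr F f.1
  have hψ : ∀ i, ψ (B i) = f.1 i := fun i => B.constr_basis F f.1 i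
  have hBi : ∀ i, (B i : V) = e.1 i := fun i => Basis.coe_span_apply e.2.1 i
  have hexp : ∀ (f₀ : Fin k → V) (c : Fin k → F), (∀ i j, h (f₀ i) (f₀ j) = 0) →
      ∀ d : Fin k → F, h (∑ i, c i • f₀ i) (∑ j, d j • f₀ j) = 0 := by
    intro f₀ c hf₀ d
    show hermB hF n (∑ j, d j • f₀ j) (∑ i, c i • f₀ i) = 0
    rw [map_sum]
    refine Finset.sum_eq_zero fun i _ => ?_
    rw [map_smul, map_sum, LinearMap.sum_apply, Finset.sum_eq_zero fun j _ => ?_, smul_zero]
    rw [LinearMap.map_smulₛₗ, LinearMap.smul_apply, hermB_apply, hf₀, smul_zero]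
  have hinj : Function.Injective ψ := by
    intro x y hxy
    have hcomp : ψ = (Finsupp.linearCombination F f.1).comp B.repr.toLinearMap :=
      B.ext fun i => by simp [hψ]
    rw [hcomp] at hxy
    exact B.repr.injective (f.2.1 hxy)
  obtain ⟨g, hg, hgX⟩ := witt_hermitian (hermB hF n) (qFrob_ne_id hF) (qFrob_qFrob hF)
    (hermB_isSymm hF n) (hermB_nondegenerate hF n) X ψ hinj fun x x' => by
      have e1 : ∀ x : X, (x : V) = ∑ i, B.repr x i • e.1 i := fun x => by
        conv_lhs => rw [← B.sum_repr x]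
        rw [Submodule.coe_sum]
        exact Finset.sum_congr rfl fun i _ => by rw [Submodule.coe_smul, hBi]
      have e2 : ∀ x : X, ψ x = ∑ i, B.repr x i • f.1 i := fun x => by
        conv_lhs => rw [← B.sum_repr x]
        rw [map_sum]
        exact Finset.sum_congr rfl fun i _ => by rw [map_smul, hψ]
      rw [hermB_apply, hermB_apply, e1, e1, e2, e2, hexp _ _ f.2.2, hexp _ _ e.2.2]
  have hMv : ∀ v, LinearMap.toMatrix' g.toLinearMap *ᵥ v = g v := fun v => by
    rw [← Matrix.toLin'_apply, Matrix.toLin'_toMatrix']; rfl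
  obtain ⟨G, hG⟩ := exists_gu_of_matrix hF (LinearMap.toMatrix' g.toLinearMap) fun u v => by
    rw [hMv, hMv]; exact hg v u
  refine ⟨G, fun i => ?_⟩
  rw [hG, hMv, ← hBi, hgX, hψ]

/-- The vectors orthogonal to a tuple. -/
noncomputable def orthMap (hF : Fintype.card F = q ^ 2) {k : ℕ} (f : Fin k → V) : V →ₗ[F] (Fin k → F) :=
  LinearMap.pi fun i => hermB hF n (f i)

theorem mem_ker_orthMap (hF : Fintype.card F = q ^ 2) {k : ℕ} (f : Fin k → V) (x : V) :
    x ∈ LinearMap.ker (orthMap hF f) ↔ ∀ i, h x (f i) = 0 := by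
  rw [LinearMap.mem_ker, funext_iff]
  exact Iff.rfl

theorem finrank_ker_orthMap (hF : Fintype.card F = q ^ 2) {k : ℕ} (f : Fin k → V)
    (hf : LinearIndependent F f) : finrank F (LinearMap.ker (orthMap hF f)) = n - k := by
  classical
  have hsurj : LinearMap.range (orthMap hF f) = ⊤ := by
    by_contra hne
    obtain ⟨φ, hφ0, hφ⟩ := Submodule.exists_le_ker_of_lt_top _ (lt_top_iff_ne_top.2 hne)
    refine hφ0 (LinearMap.pi_ext' fun i => LinearMap.ext_ring ?_)
    have hz : ∑ i, qFrob hF (φ (Pi.single i 1)) • f i = 0 := by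
      refine eq_zero_of_h hF fun x => h_comm_zero hF ?_
      show hermB hF n (∑ i, qFrob hF (φ (Pi.single i 1)) • f i) x = 0
      have h0 : φ (orthMap hF f x) = 0 := hφ ⟨x, rfl⟩
      rw [← h0, map_sum, LinearMap.sum_apply]
      conv_rhs => rw [pi_eq_sum_univ' (orthMap hF f x), map_sum]
      refine Finset.sum_congr rfl fun i _ => ?_
      rw [LinearMap.map_smulₛₗ, LinearMap.smul_apply, qFrob_qFrob, map_smul, smul_eq_mul, smul_eq_mul,
        mul_comm]
      rfl
    have := Fintype.linearIndependent_iff.1 hf _ hz i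
    simpa using (map_eq_zero_iff _ (qFrob hF).injective).1 this
  have := (orthMap hF f).finrank_range_add_finrank_ker
  rw [hsurj, finrank_top, Module.finrank_fin_fun, Module.finrank_fin_fun] at this
  omega

theorem natCard_submodule (hF : Fintype.card F = q ^ 2) (U : Submodule F V) :
    Nat.card U = (q ^ 2) ^ finrank F U := by
  rw [Module.natCard_eq_pow_finrank (K := F), Nat.card_eq_fintype_card, hF]

theorem card_ext (hF : Fintype.card F = q ^ 2) {k : ℕ} (hk : 2 * k ≤ n) (f : Frame F h k) :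
    Nat.card (Ext F h f.1) = q ^ (2 * k) * (normCount (n - 2 * k) F q (0 : F) - 1) := by
  classical
  set W := Submodule.span F (Set.range f.1) with hW
  set O := LinearMap.ker (orthMap hF f.1) with hO
  have hWd : finrank F W = k := by rw [hW, finrank_span_eq_card f.2.1, Fintype.card_fin]
  have hOd : finrank F O = n - k := finrank_ker_orthMap hF f.1 f.2.1
  have hperp : ∀ x ∈ O, ∀ w ∈ W, h x w = 0 := fun x hx => by
    have hle : W ≤ LinearMap.ker ((hermB hF n).flip x) := Submodule.span_le.2 (by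
      rintro _ ⟨i, rfl⟩
      exact (mem_ker_orthMap hF f.1 x).1 hx i)
    exact fun w hw => LinearMap.mem_ker.1 (hle hw)
  have hWO : W ≤ O := Submodule.span_le.2 (by
    rintro _ ⟨i, rfl⟩
    exact (mem_ker_orthMap hF f.1 _).2 fun j => f.2.2 i j)
  -- double orthogonal
  have hdouble : ∀ x : V, (∀ y ∈ O, h x y = 0) → x ∈ W := by
    let g : Fin (n - k) → V := fun i => (Module.finBasisOfFinrankEq F O hOd i : V)
    have hg : LinearIndependent F g :=
      (Module.finBasisOfFinrankEq F O hOd).linearIndependent.map' O.subtype O.ker_subtype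
    have hle : W ≤ LinearMap.ker (orthMap hF g) := fun w hw => (mem_ker_orthMap hF g w).2 fun i =>
      h_comm_zero hF (hperp _ (Module.finBasisOfFinrankEq F O hOd i).2 w hw)
    have heq : W = LinearMap.ker (orthMap hF g) := Submodule.eq_of_le_of_finrank_eq hle (by
      rw [hWd, finrank_ker_orthMap hF g hg]; omega)
    intro x hx
    rw [heq]
    exact (mem_ker_orthMap hF g x).2 fun i => hx _ (Module.finBasisOfFinrankEq F O hOd i).2
  obtain ⟨Wc, hWc⟩ := Submodule.exists_isCompl W
  set X := Wc ⊓ O with hX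
  have hsup : W ⊔ X = O := by
    rw [hX, ← sup_inf_assoc_of_le Wc hWO, hWc.sup_eq_top, top_inf_eq]
  have hdisj : W ⊓ X = ⊥ := by
    rw [hX, ← inf_assoc, hWc.inf_eq_bot, bot_inf_eq]
  have hXd : finrank F X = n - 2 * k := by
    have := Submodule.finrank_sup_add_finrank_inf_eq W X
    rw [hsup, hdisj, finrank_bot, hWd, hOd] at this
    omega
  have hXnd : ∀ w ∈ X, w ≠ 0 → ∃ u ∈ X, hermB hF n w u ≠ 0 := by
    intro w hw hw0
    by_contra hcon
    push Not at hcon
    refine hw0 ((Submodule.mem_bot F).1 (hdisj ▸ ⟨hdouble w fun y hy => ?_, hw⟩))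
    rw [← hsup, Submodule.mem_sup] at hy
    obtain ⟨a, ha, b, hb, rfl⟩ := hy
    rw [h_add_right hF, hperp w hw.2 a ha, h_comm_zero hF (hcon b hb), add_zero]
  obtain ⟨b, hbX, hb⟩ := exists_orthonormal_family_herm (hermB hF n) (qFrob_ne_id hF)
    (qFrob_qFrob hF) (hermB_isSymm hF n) (n - 2 * k) X hXnd hXd
  have hbb : ∀ i j, h (b i) (b j) = if i = j then 1 else 0 := fun i j => by
    rw [← hermB_apply hF, hb]
    exact if_congr eq_comm rfl rfl
  have hsum : ∀ (v : Fin (n - 2 * k) → F) (j : Fin (n - 2 * k)), h (∑ i, v i • b i) (b j) = v j := by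
    intro v j
    show hermB hF n (b j) (∑ i, v i • b i) = v j
    rw [map_sum, Finset.sum_eq_single j (fun i _ hij => by
      rw [map_smul, hermB_apply, hbb, if_neg hij, smul_zero]) (by simp), map_smul, hermB_apply, hbb,
      if_pos rfl, smul_eq_mul, mul_one]
  have hbLI : LinearIndependent F b := Fintype.linearIndependent_iff.2 fun v hv j => by
    rw [← hsum v j, hv, h_zero_left]
  have hspan : Submodule.span F (Set.range b) = X := span_eq_of_frame hXd hbLI hbX
  have hsumX : ∀ v : Fin (n - 2 * k) → F, ∑ i, v i • b i ∈ X :=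
    fun v => Submodule.sum_mem _ fun i _ => X.smul_mem _ (hbX i)
  have hval : ∀ (w : V), w ∈ W → ∀ v : Fin (n - 2 * k) → F,
      h (w + ∑ i, v i • b i) (w + ∑ i, v i • b i) = hermForm (n - 2 * k) F q v v := by
    intro w hw v
    rw [h_add_left, h_add_right hF, h_add_right hF, hperp w (hWO hw) w hw,
      h_comm_zero hF (hperp _ (hsumX v).2 w hw), hperp _ (hsumX v).2 w hw, zero_add, zero_add, zero_add]
    show hermB hF n (∑ i, v i • b i) (∑ i, v i • b i) = _
    rw [map_sum, hermForm]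
    refine Finset.sum_congr rfl fun i _ => ?_
    rw [map_smul, hermB_apply, ← cj_h hF, hsum, qFrob_apply, smul_eq_mul]
  have hnotW : ∀ (w : V), w ∈ W → ∀ v : Fin (n - 2 * k) → F, v ≠ 0 → w + ∑ i, v i • b i ∉ W := by
    intro w hw v hv hmem
    rw [Submodule.add_mem_iff_right _ hw] at hmem
    have h0 : ∑ i, v i • b i = 0 := (Submodule.mem_bot F).1 (hdisj ▸ ⟨hmem, hsumX v⟩)
    exact hv (funext fun j => by rw [← hsum v j, h0, h_zero_left]; rfl)
  let Φ : W × {v : Fin (n - 2 * k) → F // hermForm (n - 2 * k) F q v v = 0 ∧ v ≠ 0} → Ext F h f.1 :=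
    fun p => ⟨p.1.1 + ∑ i, p.2.1 i • b i, hnotW _ p.1.2 _ p.2.2.2,
      (mem_ker_orthMap hF f.1 _).1 (O.add_mem (hWO p.1.2) (hsumX p.2.1).2),
      (hval _ p.1.2 _).trans p.2.2.1⟩
  have hΦ : Function.Bijective Φ := by
    constructor
    · intro p p' hpp
      have heq : p.1.1 + ∑ i, p.2.1 i • b i = p'.1.1 + ∑ i, p'.2.1 i • b i := congrArg Subtype.val hpp
      have hv : p.2.1 = p'.2.1 := funext fun j => by
        have := congrArg (fun x => h x (b j)) heq
        simp only [h_add_left, hsum] at this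
        rwa [h_comm_zero hF (hperp _ (hbX j).2 _ p.1.2), h_comm_zero hF (hperp _ (hbX j).2 _ p'.1.2),
          zero_add, zero_add] at this
      rw [hv] at heq
      exact Prod.ext (Subtype.ext (add_right_cancel heq)) (Subtype.ext hv)
    · rintro ⟨x, hxW, hxf, hxx⟩
      have hxO : x ∈ O := (mem_ker_orthMap hF f.1 x).2 hxf
      obtain ⟨w, hw, y, hy, rfl⟩ := Submodule.mem_sup.1 (hsup.symm ▸ hxO)
      obtain ⟨v, hv⟩ := (Submodule.mem_span_range_iff_exists_fun F).1 (hspan.symm ▸ hy)
      subst hv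
      have hv0 : v ≠ 0 := fun h0 => hxW (by simpa [h0] using hw)
      exact ⟨(⟨w, hw⟩, ⟨v, (hval w hw v).symm.trans hxx, hv0⟩), rfl⟩
  rw [← Nat.card_congr (Equiv.ofBijective Φ hΦ), Nat.card_prod, natCard_submodule hF, hWd, ← pow_mul]
  congr 1
  have e : {v : Fin (n - 2 * k) → F // hermForm (n - 2 * k) F q v v = 0 ∧ v ≠ 0} ≃
      ({v | hermForm (n - 2 * k) F q v v = 0} \ {0} : Set (Fin (n - 2 * k) → F)) :=
    Equiv.subtypeEquivRight fun v => Iff.rfl
  rw [Nat.card_congr e, Nat.card_coe_set_eq, Set.ncard_sdiff_singleton_of_mem (by simp [hermForm]),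
    ← Nat.card_coe_set_eq]
  rfl

/-- The number of non-zero isotropic vectors, as an integer. -/
theorem iso_count (hF : Fintype.card F = q ^ 2) (j : ℕ) :
    ((normCount (j + 2) F q (0 : F) - 1 : ℕ) : ℤ) =
      ((q : ℤ) ^ (j + 2) + (-1) ^ (j + 1)) * ((q : ℤ) ^ (j + 1) + (-1) ^ j) := by
  have hq : (q : ℤ) ≠ 0 := by have := two_le_q hF; omega
  have hpos : 1 ≤ normCount (j + 2) F q (0 : F) :=
    Nat.card_pos_iff.2 ⟨⟨⟨0, by simp [hermForm]⟩⟩, inferInstance⟩
  rw [Nat.cast_sub hpos]
  refine mul_right_cancel₀ hq ?_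
  rw [sub_mul, normCount_zero hF, Nat.cast_one, one_mul]
  rcases neg_one_pow_eq_or ℤ j with h1 | h1 <;> simp only [pow_succ, h1] <;> ring

theorem gu_step (hF : Fintype.card F = q ^ 2) (j : ℕ) :
    (Nat.card (GU (j + 2) F q) : ℤ) = (q : ℤ) ^ (2 * j + 1) *
      ((normCount (j + 2) F q (0 : F) - 1 : ℕ) : ℤ) * Nat.card (GU j F q) := by
  rw [order_GU hF, order_GU hF, iso_count hF, Finset.prod_range_succ, Finset.prod_range_succ]
  have he : (j + 2) * (j + 2 - 1) / 2 = (2 * j + 1) + j * (j - 1) / 2 := by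
    rcases j with _ | i
    · rfl
    · simp only [Nat.add_sub_cancel, show i + 1 + 2 - 1 = i + 2 by omega]
      rw [show (i + 1 + 2) * (i + 2) = (i + 1) * i + (2 * (i + 1) + 1) * 2 by ring,
        Nat.add_mul_div_right _ _ two_pos]
      ring
  rw [he, pow_add]
  ring

/-- The frame count against the orders of the unitary groups. -/
theorem frame_card (hF : Fintype.card F = q ^ 2) : ∀ k, 2 * k ≤ n →
    Nat.card (GU n F q) = q ^ (k * (2 * n - 3 * k)) * Nat.card (GU (n - 2 * k) F q) *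
      Nat.card (Frame F h k) := by
  intro k
  induction k with
  | zero => intro _; simp
  | succ k ih =>
    intro hk
    obtain ⟨j, hj⟩ : ∃ j, n - 2 * k = j + 2 := ⟨n - 2 * k - 2, by omega⟩
    rw [card_frame_succ h (fun x y hxy => h_comm_zero hF hxy) k _ (card_ext hF (by omega)),
      ih (by omega), hj, show n - 2 * (k + 1) = j by omega]
    have hg := gu_step hF j
    have hg' : Nat.card (GU (j + 2) F q) =
        q ^ (2 * j + 1) * (normCount (j + 2) F q (0 : F) - 1) * Nat.card (GU j F q) := by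
      exact_mod_cast hg
    have hn : n = j + 2 + 2 * k := by omega
    have he : k * (2 * n - 3 * k) + (2 * j + 1) = (k + 1) * (2 * n - 3 * (k + 1)) + 2 * k := by
      rw [show 2 * n - 3 * k = 2 * j + 4 + k by omega,
        show 2 * n - 3 * (k + 1) = 2 * j + 1 + k by omega]
      ring
    have hp := congrArg (q ^ ·) he
    simp only [pow_add] at hp
    rw [hg']
    linear_combination ((normCount (j + 2) F q (0 : F) - 1) * Nat.card (GU j F q) *
      Nat.card (Frame F h k)) * hp

theorem frame_pos (hF : Fintype.card F = q ^ 2) {k : ℕ} (hk : 2 * k ≤ n) :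
    0 < Nat.card (Frame F h k) := by
  have h1 := frame_card hF k hk
  have h2 : 0 < Nat.card (GU n F q) := Nat.card_pos
  rw [h1] at h2
  exact Nat.pos_of_mul_pos_left h2

theorem exists_det (hF : Fintype.card F = q ^ 2) (hn : 1 ≤ n) (W : Submodule F V)
    (hW : ∀ u ∈ W, ∀ v ∈ W, h u v = 0) (z : normOne F q) :
    ∃ g ∈ stabilizing M (W : Set V), guDet hF g = z := by
  classical
  by_cases hbot : W = ⊥
  · obtain ⟨g, hg⟩ := guDet_surjective hF hn z
    refine ⟨g, fun v => ?_, hg⟩
    rw [hbot]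
    simp only [SetLike.mem_coe, Submodule.mem_bot]
    refine ⟨fun h0 => by rw [h0, Matrix.mulVec_zero], fun h0 => ?_⟩
    exact injective_mulVec M g (h0.trans (Matrix.mulVec_zero _).symm)
  obtain ⟨e, he, he0⟩ := Submodule.exists_mem_ne_zero_of_ne_bot hbot
  obtain ⟨y, P⟩ := exists_pair hF he0 (hW e he e he)
  have hz : (z.1 : F) * qFrob hF (z.1 : F) = 1 := by
    rw [qFrob_apply, ← pow_succ']; exact congrArg Units.val (show z.1 ^ (q + 1) = 1 from z.2)
  obtain ⟨t, ht⟩ : ∃ t : F, t + (z.1 : F) * qFrob hF t ≠ 0 := by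
    by_contra hcon
    push Not at hcon
    have h1 := hcon 1
    rw [map_one, mul_one] at h1
    refine qFrob_ne_id hF (RingHom.ext fun x => ?_)
    rw [RingHom.id_apply]
    linear_combination (-1 : F) * hcon x + qFrob hF x * h1
  obtain ⟨a, ha⟩ : ∃ a, a = t + (z.1 : F) * qFrob hF t := ⟨_, rfl⟩
  have ha0 : a ≠ 0 := ha ▸ ht
  have hza : (z.1 : F) * qFrob hF a = a := by
    rw [ha, map_add, map_mul, qFrob_qFrob]
    linear_combination t * hz
  obtain ⟨b, hb⟩ : ∃ b, b = (qFrob hF a)⁻¹ := ⟨_, rfl⟩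
  have hca : qFrob hF a ≠ 0 := (map_ne_zero _).2 ha0
  have hab : a * qFrob hF b = 1 := by rw [hb, map_inv₀, qFrob_qFrob, mul_inv_cancel₀ ha0]
  have hba : b * qFrob hF a = 1 := by rw [hb, inv_mul_cancel₀ hca]
  have hyq : ∀ u : V, (fun i => u i ^ q) = fun i => qFrob hF (u i) := fun u => rfl
  have hdot : ∀ u x : V, (fun i => u i ^ q) ⬝ᵥ x = h x u := fun u x => by
    simp [hermForm, dotProduct, mul_comm]
  let A₁ : Mn := 1 + Matrix.replicateCol Unit ((a - 1) • e) * Matrix.replicateRow Unit (fun i => y i ^ q)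
  let A₂ : Mn := 1 + Matrix.replicateCol Unit ((b - 1) • y) * Matrix.replicateRow Unit (fun i => e i ^ q)
  have hA₁ : ∀ x, A₁ *ᵥ x = x + h x y • (a - 1) • e := fun x => by
    rw [show A₁ = 1 + Matrix.vecMulVec ((a - 1) • e) (fun i => y i ^ q) by rw [Matrix.vecMulVec_eq Unit],
      Matrix.add_mulVec, Matrix.one_mulVec, Matrix.vecMulVec_mulVec, op_smul_eq_smul, hdot]
  have hA₂ : ∀ x, A₂ *ᵥ x = x + h x e • (b - 1) • y := fun x => by
    rw [show A₂ = 1 + Matrix.vecMulVec ((b - 1) • y) (fun i => e i ^ q) by rw [Matrix.vecMulVec_eq Unit],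
      Matrix.add_mulVec, Matrix.one_mulVec, Matrix.vecMulVec_mulVec, op_smul_eq_smul, hdot]
  have hA : ∀ x, (A₂ * A₁) *ᵥ x = x + ((a - 1) * h x y) • e + ((b - 1) * h x e) • y := fun x => by
    rw [← Matrix.mulVec_mulVec, hA₁, hA₂, h_add_left, h_smul_left, h_smul_left, P.ee, mul_zero,
      mul_zero, add_zero, smul_smul, smul_smul, mul_comm (h x y), mul_comm (h x e)]
  obtain ⟨g, hg⟩ := exists_gu_of_matrix hF (A₂ * A₁) fun u v => by
    rw [hA, hA]
    simp only [h_add_left, h_add_right hF, h_smul_left, h_smul_right hF, P.ee, P.ef, P.ff, P.fe hF,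
      map_sub, map_mul, map_one, mul_zero, mul_one, add_zero]
    rw [cj_h hF, cj_h hF]
    linear_combination (h u y * h e v) * hab + (h u e * h y v) * hba
  refine ⟨g, fun v => ?_, Subtype.ext (Units.ext ?_)⟩
  · have hmem : ∀ x ∈ W, M g *ᵥ x ∈ W := fun x hx => by
      rw [hg, hA, hW x hx e he, mul_zero, zero_smul, add_zero]
      exact W.add_mem hx (W.smul_mem _ he)
    refine ⟨fun hv => hmem v hv, fun hv => ?_⟩
    have hbij : Function.Bijective ((M g).mulVecLin.restrict hmem) :=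
      Finite.injective_iff_bijective.1 fun x y hxy =>
        Subtype.ext (injective_mulVec M g (congrArg Subtype.val hxy))
    obtain ⟨u, hu⟩ := hbij.2 ⟨_, hv⟩
    exact injective_mulVec M g (congrArg Subtype.val hu) ▸ u.2
  · rw [coe_guDet, show guVal g = A₂ * A₁ from hg, Matrix.det_mul,
      Matrix.det_one_add_replicateCol_mul_replicateRow, Matrix.det_one_add_replicateCol_mul_replicateRow,
      hdot, hdot, h_smul_left, h_smul_left, P.ef, P.fe hF, mul_one, mul_one, hb]
    field_simp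
    linear_combination -hza

/-- The stabiliser in `SU_n` of a totally isotropic subspace. -/
theorem card_parabolic (hF : Fintype.card F = q ^ 2) (k : ℕ) (hn : 1 ≤ n) (hk : 2 * k ≤ n)
    (W : Submodule F V) (hWk : finrank F W = k) (hW : ∀ u ∈ W, ∀ v ∈ W, h u v = 0) :
    (q + 1) * Nat.card ↥((stabilizing (slToMat n F) (W : Set V)).subgroupOf (SU n F q)) =
      q ^ (k * (2 * n - 3 * k)) * (∏ i : Fin k, ((q ^ 2) ^ k - (q ^ 2) ^ (i : ℕ))) *
        (q ^ ((n - 2 * k) * ((n - 2 * k) - 1) / 2) *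
          ∏ i ∈ Finset.range (n - 2 * k), (if Even i then q ^ (i + 1) + 1 else q ^ (i + 1) - 1)) := by
  classical
  set P := stabilizing M (W : Set V) with hP
  -- step 1 : determinant
  let d : P →* normOne F q := (guDet hF).comp P.subtype
  have hd : Function.Surjective d := fun z => by
    obtain ⟨g, hg, hz⟩ := exists_det hF hn W hW z
    exact ⟨⟨g, hg⟩, hz⟩
  have hker : ∀ g : P, g ∈ d.ker ↔ (guVal g.1).det = 1 := fun g => by
    rw [MonoidHom.mem_ker, Subtype.ext_iff, Units.ext_iff]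
    show ((guDet hF g.1).1 : F) = 1 ↔ _
    rw [coe_guDet]
  let S := (stabilizing (slToMat n F) (W : Set V)).subgroupOf (SU n F q)
  let e : d.ker ≃ S :=
    { toFun := fun g => ⟨⟨⟨guVal g.1.1, (hker g.1).1 g.2⟩, fun u v => g.1.1.2 u v⟩, fun v => g.1.2 v⟩
      invFun := fun s => ⟨⟨⟨Matrix.SpecialLinearGroup.toGL s.1.1, fun u v => s.1.2 u v⟩,
        fun v => s.2 v⟩, (hker _).2 s.1.1.2⟩
      left_inv := fun g => Subtype.ext (Subtype.ext (Subtype.ext (Units.ext rfl)))
      right_inv := fun s => rfl }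
  have h1 : Nat.card P = (q + 1) * Nat.card S := by
    rw [d.ker.card_eq_card_quotient_mul_card_subgroup,
      Nat.card_congr (QuotientGroup.quotientKerEquivOfSurjective d hd).toEquiv, natCard_normOne hF,
      Nat.card_congr e]
  -- step 2 : counting frames
  have h2 := card_stabilizing_mul M h (fun g u v => g.2 u v) W hWk hW (exists_gu_map hF)
  rw [← hP, card_bases W hWk, hF, frame_card hF k hk] at h2
  have h3 : (Nat.card (GU (n - 2 * k) F q) : ℤ) = ((q ^ ((n - 2 * k) * ((n - 2 * k) - 1) / 2) *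
      ∏ i ∈ Finset.range (n - 2 * k), (if Even i then q ^ (i + 1) + 1 else q ^ (i + 1) - 1) : ℕ) : ℤ) := by
    have hq1 : 1 ≤ q := by have := two_le_q hF; omega
    rw [order_GU hF, Nat.cast_mul, Nat.cast_pow, Nat.cast_prod]
    simp only [cast_gu_factor hq1]
  rw [← h1, ← Nat.cast_inj.1 h3]
  refine Nat.eq_of_mul_eq_mul_right (frame_pos hF hk) (h2.trans ?_)
  ring

end Cfsg.Agent.Fus.UnitStab
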