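import Cfsg.Agent.Lib.Classical.UnitPointStab

/-!
Nondegenerate subspaces of the Hermitian space, their unitary groups, and generation of these by
elements of `p`-power order.
-/

set_option autoImplicit false
set_option linter.unusedSectionVars false

namespace Cfsg.Agent.Fus.UnitN

open Matrix Cfsg.Agent.Classical Cfsg.Agent.Classical.PSUAut

variable {F : Type*} [Field F] [Fintype F] {q n : ℕ}

local notation "V" => (Fin n → F)
local notation "Mn" => Matrix (Fin n) (Fin n) F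
local notation "SUn" => SU n F q

variable (hF : Fintype.card F = q ^ 2)

local notation "h" => hermForm n F q
local notation "cj" => qFrob hF

omit [Fintype F] in
theorem suVal_one' : suVal (1 : SUn) = (1 : Mn) := rfl

omit [Fintype F] in
theorem mulVec_mul (s t : SUn) (x : V) : suVal (s * t) *ᵥ x = suVal s *ᵥ (suVal t *ᵥ x) := by
  rw [suVal_mul, Matrix.mulVec_mulVec]

theorem inv_apply (s : SUn) (x : V) :
    suVal s⁻¹ *ᵥ (suVal s *ᵥ x) = x ∧ suVal s *ᵥ (suVal s⁻¹ *ᵥ x) = x := by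
  constructor
  · rw [← mulVec_mul, inv_mul_cancel, suVal_one', Matrix.one_mulVec]
  · rw [← mulVec_mul, mul_inv_cancel, suVal_one', Matrix.one_mulVec]

/-- An element of `SU` is determined by its action. -/
theorem su_ext {s t : SUn} (H : ∀ x : V, suVal s *ᵥ x = suVal t *ᵥ x) : s = t :=
  suVal_ext (Matrix.ext_iff_mulVec.2 H)

/-- The elements of `SU` fixing the orthogonal complement of `W` pointwise. -/
def gW (W : Submodule F V) : Subgroup SUn where
  carrier := {s | ∀ x : V, (∀ y ∈ W, hermForm n F q x y = 0) → suVal s *ᵥ x = x}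
  one_mem' := fun x _ => by rw [suVal_one', Matrix.one_mulVec]
  mul_mem' := fun {a b} ha hb x hx => by rw [mulVec_mul, hb x hx, ha x hx]
  inv_mem' := fun {a} ha x hx => by
    conv_lhs => rw [← ha x hx]
    rw [← mulVec_mul, inv_mul_cancel, suVal_one', Matrix.one_mulVec]

omit [Fintype F] in
variable (q) in
/-- Every vector has an orthogonal projection to `W`. -/
def Frame (W : Submodule F V) : Prop :=
  ∀ x : V, ∃ w ∈ W, ∀ y ∈ W, hermForm n F q x y = hermForm n F q w y

omit [Fintype F] in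
theorem frame_top : Frame q (⊤ : Submodule F V) := fun x => ⟨x, trivial, fun _ _ => rfl⟩

include hF

theorem Frame.nondeg {W : Submodule F V} (hW : Frame q W) {w : V} (hw : w ∈ W)
    (h0 : ∀ y ∈ W, h w y = 0) : w = 0 := by
  refine eq_zero_of_h hF fun x => ?_
  obtain ⟨px, hpx, hp⟩ := hW x
  rw [← cj_h hF x w, hp w hw, cj_h hF, h0 px hpx]

theorem Frame.mem_iff {W : Submodule F V} (hW : Frame q W) {u : V} :
    u ∈ W ↔ ∀ x, (∀ y ∈ W, h x y = 0) → h u x = 0 := by
  refine ⟨fun hu x hx => h_comm_zero hF (hx u hu), fun H => ?_⟩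
  obtain ⟨pu, hpu, hp⟩ := hW u
  have hd : ∀ y ∈ W, h (u - pu) y = 0 := fun y hy => by rw [h_sub_left, hp y hy, sub_self]
  suffices u - pu = 0 by rw [sub_eq_zero.1 this]; exact hpu
  refine eq_zero_of_h hF fun x => ?_
  obtain ⟨px, hpx, hq⟩ := hW x
  have h1 : h (u - pu) (x - px) = 0 := by
    have hx : ∀ y ∈ W, h (x - px) y = 0 := fun y hy => by rw [h_sub_left, hq y hy, sub_self]
    rw [h_sub_left, H _ hx, h_comm_zero hF (hx pu hpu), sub_zero]
  rw [← sub_add_cancel x px, h_add_right hF, h1, hd px hpx, add_zero]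

theorem gW_map {W : Submodule F V} (hW : Frame q W) {s : SUn} (hs : s ∈ gW W) {w : V} (hw : w ∈ W) :
    suVal s *ᵥ w ∈ W := by
  rw [hW.mem_iff hF]
  intro x hx
  rw [← hs x hx, su_form]
  exact (hW.mem_iff hF).1 hw x hx

theorem gW_top (s : SUn) : s ∈ gW (⊤ : Submodule F V) := fun x hx => by
  rw [eq_zero_of_h hF fun y => hx y trivial, Matrix.mulVec_zero]

/-- Two elements of `gW W` agreeing on `W` are equal. -/
theorem gW_ext {W : Submodule F V} (hW : Frame q W) {s t : SUn} (hs : s ∈ gW W) (ht : t ∈ gW W)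
    (H : ∀ w ∈ W, suVal s *ᵥ w = suVal t *ᵥ w) : s = t := by
  refine su_ext fun x => ?_
  obtain ⟨px, hpx, hp⟩ := hW x
  have hx : ∀ y ∈ W, h (x - px) y = 0 := fun y hy => by rw [h_sub_left, hp y hy, sub_self]
  rw [← sub_add_cancel x px, Matrix.mulVec_add, Matrix.mulVec_add, hs _ hx, ht _ hx, H px hpx]

theorem eSU_mem_gW {W : Submodule F V} {e w : V} {c : F} (he : e ∈ W) (hw : w ∈ W)
    (H : EOK (q := q) e w c) : eSU hF H ∈ gW W := fun x hx => by
  rw [suVal_eSU, eMat_mulVec, hx e he, hx w hw]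
  simp

/-- The orthogonal complement of a pair inside `W`. -/
def nextW (W : Submodule F V) (z y : V) : Submodule F V := W ⊓ wSub q z y

theorem Frame.next {W : Submodule F V} (hW : Frame q W) {z y : V} (P : IsPair (q := q) z y)
    (hz : z ∈ W) (hy : y ∈ W) : Frame q (nextW (q := q) W z y) := by
  intro x
  obtain ⟨px, hpx, hp⟩ := hW x
  refine ⟨wPart (q := q) z y px, ⟨?_, wPart_mem hF P px⟩, fun v hv => ?_⟩
  · exact Submodule.sub_mem _ hpx
      (Submodule.add_mem _ (Submodule.smul_mem _ _ hz) (Submodule.smul_mem _ _ hy))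
  · rw [hp v hv.1]
    conv_lhs => rw [wPart_eq (q := q) z y px]
    rw [h_add_left, h_add_left, h_smul_left, h_smul_left, h_comm_zero hF hv.2.1, h_comm_zero hF hv.2.2]
    ring

theorem gW_next_fix {W : Submodule F V} {z y : V} {s : SUn}
    (hs : s ∈ gW (nextW (q := q) W z y)) : suVal s *ᵥ z = z ∧ suVal s *ᵥ y = y :=
  ⟨hs z fun _ hv => h_comm_zero hF hv.2.1, hs y fun _ hv => h_comm_zero hF hv.2.2⟩

theorem gW_mono {W W' : Submodule F V} (hle : W' ≤ W) : (gW W' : Subgroup SUn) ≤ gW W :=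
  fun _ hs x hx => hs x fun y hy => hx y (hle hy)

theorem mem_gW_next {W : Submodule F V} (hW : Frame q W) {z y : V} (P : IsPair (q := q) z y)
    (hz : z ∈ W) (hy : y ∈ W) {s : SUn} (hs : s ∈ gW W) (hsz : suVal s *ᵥ z = z)
    (hsy : suVal s *ᵥ y = y) : s ∈ gW (nextW (q := q) W z y) := by
  intro x hx
  obtain ⟨px, hpx, hp⟩ := hW x
  have hd : ∀ v ∈ W, h (x - px) v = 0 := fun v hv => by rw [h_sub_left, hp v hv, sub_self]
  have hw0 : wPart (q := q) z y px = 0 := by
    refine (hW.next hF P hz hy).nondeg hF ⟨?_, wPart_mem hF P px⟩ fun v hv => ?_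
    · exact Submodule.sub_mem _ hpx
        (Submodule.add_mem _ (Submodule.smul_mem _ _ hz) (Submodule.smul_mem _ _ hy))
    · have h1 := hx v hv
      rw [← sub_add_cancel x px, h_add_left, hd v hv.1, zero_add, wPart_eq (q := q) z y px, h_add_left,
        h_add_left, h_smul_left, h_smul_left, h_comm_zero hF hv.2.1, h_comm_zero hF hv.2.2] at h1
      simpa using h1
  rw [← sub_add_cancel x px, Matrix.mulVec_add, hs _ hd, wPart_eq (q := q) z y px, hw0, add_zero,
    Matrix.mulVec_add, Matrix.mulVec_smul, Matrix.mulVec_smul, hsz, hsy]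

theorem next_card_lt {W : Submodule F V} {z y : V} (P : IsPair (q := q) z y) (hz : z ∈ W) :
    Nat.card (nextW (q := q) W z y) < Nat.card W := by
  have hlt : ((nextW (q := q) W z y : Submodule F V) : Set V) ⊂ (W : Set V) :=
    ⟨fun v hv => hv.1, fun hsub => one_ne_zero (P.ef.symm.trans (hsub hz).2.2)⟩
  exact Set.ncard_lt_ncard hlt (Set.toFinite _)

theorem exists_partner {W : Submodule F V} (hW : Frame q W) {z : V} (hz : z ∈ W) (hz0 : z ≠ 0)
    (hzz : h z z = 0) : ∃ y ∈ W, IsPair (q := q) z y := by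
  obtain ⟨y, P⟩ := exists_pair hF hz0 hzz
  obtain ⟨py, hpy, hp⟩ := hW y
  have hzy : h z py = 1 := by rw [← cj_h hF, ← hp z hz, P.fe hF, map_one]
  obtain ⟨a, ha⟩ := exists_trace_eq hF (a := -h py py) (by rw [map_neg, cj_h_self hF])
  refine ⟨py + a • z, Submodule.add_mem _ hpy (Submodule.smul_mem _ a hz), hzz, ?_, ?_⟩
  · rw [h_add_left, h_add_right hF, h_add_right hF, h_smul_right hF, h_smul_right hF, h_smul_left,
      h_smul_left, hzz, hzy, ← cj_h hF z py, hzy, map_one]
    linear_combination ha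
  · rw [h_add_right hF, h_smul_right hF, hzy, hzz, mul_zero, add_zero]

/-- Either `W` has an isotropic vector or it is at most a line. -/
theorem frame_dichotomy (W : Submodule F V) :
    (∃ z ∈ W, z ≠ 0 ∧ h z z = 0) ∨ ∀ x ∈ W, x ≠ 0 → ∀ y ∈ W, ∃ a : F, y = a • x := by
  refine or_iff_not_imp_left.2 fun hno x hx hx0 y hy => ?_
  push Not at hno
  have hxx := hno x hx hx0
  obtain ⟨a, ha⟩ : ∃ a, a = h y x / h x x := ⟨_, rfl⟩
  refine ⟨a, sub_eq_zero.1 (by_contra fun hne => ?_)⟩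
  have hu : y - a • x ∈ W := Submodule.sub_mem _ hy (Submodule.smul_mem _ a hx)
  have hux : h (y - a • x) x = 0 := by rw [h_sub_left, h_smul_left, ha, div_mul_cancel₀ _ hxx, sub_self]
  have huu := hno _ hu hne
  obtain ⟨b, hb⟩ := exists_norm hF (a := -h x x / h (y - a • x) (y - a • x)) (by
    rw [map_div₀, map_neg, cj_h_self hF, cj_h_self hF])
  generalize y - a • x = u at *
  refine hno _ (Submodule.add_mem _ hx (Submodule.smul_mem _ b hu)) (fun h0 => hxx ?_) ?_
  · have h1 := congrArg (fun z => h z x) h0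
    simpa [h_add_left, h_smul_left, hux, h_zero_left] using h1
  · rw [h_add_left, h_add_right hF, h_add_right hF, h_smul_right hF, h_smul_right hF, h_smul_left,
      h_smul_left, hux, h_comm_zero hF hux]
    linear_combination h u u * hb + (div_mul_cancel₀ (-h x x) huu)

/-- A nonzero nondegenerate subspace contains an anisotropic vector. -/
theorem exists_aniso {W : Submodule F V} (hW : Frame q W) {x : V} (hx : x ∈ W) (hx0 : x ≠ 0) :
    ∃ u ∈ W, h u u ≠ 0 := by
  by_cases hxx : h x x = 0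
  · obtain ⟨y, hy, P⟩ := exists_partner hF hW hx hx0 hxx
    obtain ⟨t, ht⟩ := exists_trace_eq hF (a := (1 : F)) (map_one _)
    refine ⟨t • x + y, Submodule.add_mem _ (Submodule.smul_mem _ t hx) hy, ?_⟩
    rw [h_add_left, h_add_right hF, h_add_right hF, h_smul_left, h_smul_left, h_smul_right hF,
      h_smul_right hF, P.ee, P.ef, P.ff, P.fe hF]
    simp [ht]
  · exact ⟨x, hx, hxx⟩

variable {p : ℕ}

/-- The subgroup generated by the elements of `p`-power order fixing `Wᗮ`. -/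
def kW (p : ℕ) (W : Submodule F V) : Subgroup SUn :=
  Subgroup.closure {s | s ∈ gW W ∧ ∃ k : ℕ, s ^ p ^ k = 1}

theorem kW_le (W : Submodule F V) : (kW p W : Subgroup SUn) ≤ gW W :=
  (Subgroup.closure_le _).2 fun _ hs => hs.1

theorem kW_mono {W W' : Submodule F V} (hle : W' ≤ W) : (kW p W' : Subgroup SUn) ≤ kW p W :=
  Subgroup.closure_mono fun _ hs => ⟨gW_mono hF hle hs.1, hs.2⟩

variable [Fact p.Prime] [CharP F p]

theorem eSU_pow {e w : V} {c : F} (H : EOK (q := q) e w c) : eSU hF H ^ p ^ 2 = 1 :=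
  suVal_ext (by rw [suVal_pow, suVal_eSU, sq, eMat_pow_char hF H]; rfl)

theorem eSU_mem_kW {W : Submodule F V} {e w : V} {c : F} (he : e ∈ W) (hw : w ∈ W)
    (H : EOK (q := q) e w c) : eSU hF H ∈ kW p W :=
  Subgroup.subset_closure ⟨eSU_mem_gW hF he hw H, 2, eSU_pow hF H⟩

/-- Two root elements map `z` to a multiple of its partner. -/
theorem exists_monomial {W : Submodule F V} {z y w : V} {c : F} (P : IsPair (q := q) z y)
    (hz : z ∈ W) (hy : y ∈ W) (hw : w ∈ nextW (q := q) W z y) (hc : c ≠ 0)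
    (hcc : c + cj c + h w w = 0) :
    ∃ k ∈ (kW p W : Subgroup SUn), suVal k *ᵥ z = (cj c)⁻¹ • y := by
  have hc0 : cj c ≠ 0 := (map_ne_zero _).2 hc
  have H : EOK (q := q) z w c := ⟨P.ee, hw.2.1, by rw [cj_pow hF]; exact hcc⟩
  obtain ⟨d, hd⟩ : ∃ d, d = (cj c)⁻¹ := ⟨_, rfl⟩
  have hd' : d * cj c = 1 := by rw [hd, inv_mul_cancel₀ hc0]
  have hcd : cj d * c = 1 := by
    have := congrArg (cj) hd'
    rwa [map_mul, cj_cj, map_one] at this
  have H' : EOK (q := q) y (-d • w) d := ⟨P.ff, by rw [h_smul_left, hw.2.2, mul_zero], by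
    rw [cj_pow hF, h_smul_left, h_smul_right hF, map_neg]
    linear_combination (d * cj d) * hcc - d * hcd - cj d * hd'⟩
  refine ⟨eSU hF H * eSU hF H', mul_mem (eSU_mem_kW hF hz hw.1 H)
    (eSU_mem_kW hF hy (Submodule.smul_mem _ _ hw.1) H'), ?_⟩
  rw [mulVec_mul, suVal_eSU, suVal_eSU, eMat_mulVec (e := y), h_smul_right hF, h_comm_zero hF hw.2.1,
    P.ef, eMat_mulVec]
  simp only [one_smul, mul_one, mul_zero, zero_smul, sub_zero, h_add_left, h_smul_left, P.ee, P.fe hF,
    h_comm_zero hF hw.2.1, hw.2.1, h_comm_zero hF hw.2.2, add_zero, zero_add]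
  rw [← hd]
  have e1 : (1 : F) + d * c + d * h w w = 0 := by linear_combination d * hcc - hd'
  match_scalars <;> first | ring1 | linear_combination e1

/-- Isotropic vectors of `W` are reached from multiples of `z`. -/
theorem exists_reach {W : Submodule F V} (hW : Frame q W) {z y : V} (P : IsPair (q := q) z y)
    (hz : z ∈ W) (hy : y ∈ W) {v : V} (hv : v ∈ W) (hv0 : v ≠ 0) (hvv : h v v = 0) :
    ∃ k ∈ (kW p W : Subgroup SUn), ∃ a : F, a ≠ 0 ∧ suVal k *ᵥ (a • z) = v := by
  obtain ⟨t, ht0, ht⟩ := exists_trace_zero hF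
  -- the generic case
  have main : ∀ v ∈ W, h v v = 0 → h v z ≠ 0 →
      ∃ k ∈ (kW p W : Subgroup SUn), ∃ a : F, a ≠ 0 ∧ suVal k *ᵥ (a • z) = v := by
    intro v hv hvv hvz
    obtain ⟨b, hb⟩ : ∃ b, b = h v z := ⟨_, rfl⟩
    obtain ⟨α, hα⟩ : ∃ α, α = h v y := ⟨_, rfl⟩
    obtain ⟨w, hw⟩ : ∃ w, w = wPart (q := q) z y v := ⟨_, rfl⟩
    have hwn : w ∈ nextW (q := q) W z y := hw ▸ ⟨Submodule.sub_mem _ hv
      (Submodule.add_mem _ (Submodule.smul_mem _ _ hz) (Submodule.smul_mem _ _ hy)), wPart_mem hF P v⟩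
    have hveq : v = α • z + b • y + w := by rw [hα, hb, hw]; exact wPart_eq (q := q) z y v
    have hb0 : b ≠ 0 := hb ▸ hvz
    have hcb : cj b ≠ 0 := (map_ne_zero _).2 hb0
    have hiso : α * cj b + b * cj α + h w w = 0 := by
      rw [hveq] at hvv
      simp only [h_add_left, h_add_right hF, h_smul_left, h_smul_right hF, P.ee, P.ef, P.ff, P.fe hF,
        hwn.2.1, hwn.2.2, h_comm_zero hF hwn.2.1, h_comm_zero hF hwn.2.2] at hvv
      linear_combination hvv
    have H : EOK (q := q) z (b⁻¹ • w) (α / b) := ⟨P.ee, by rw [h_smul_left, hwn.2.1, mul_zero], by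
      rw [cj_pow hF, h_smul_left, h_smul_right hF, map_div₀, map_inv₀]
      field_simp
      linear_combination hiso⟩
    obtain ⟨m, hm, hmz⟩ := exists_monomial (p := p) hF (W := W) (w := 0) (c := t) P hz hy
      (Submodule.zero_mem _) ht0 (by rw [h_zero_left, add_zero, ht])
    refine ⟨eSU hF H * m, mul_mem (eSU_mem_kW hF hz (Submodule.smul_mem _ _ hwn.1) H) hm, b * cj t,
      mul_ne_zero hb0 ((map_ne_zero _).2 ht0), ?_⟩
    rw [mulVec_mul, Matrix.mulVec_smul _ (b * cj t), hmz, smul_smul, mul_assoc,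
      mul_inv_cancel₀ ((map_ne_zero _).2 ht0), mul_one, suVal_eSU, eMat_mulVec, hveq]
    simp only [h_smul_left, h_smul_right hF, P.fe hF, h_comm_zero hF hwn.2.2, mul_zero, mul_one,
      zero_smul, sub_zero, smul_smul, mul_inv_cancel₀ hb0, one_smul, div_mul_cancel₀ _ hb0]
    abel
  by_cases hvz : h v z = 0
  swap
  · exact main v hv hvv hvz
  -- move `v` off the hyperplane of `z`
  obtain ⟨u, hu, huz⟩ : ∃ u ∈ (kW p W : Subgroup SUn), h (suVal u *ᵥ v) z ≠ 0 := by
    by_cases hvy : h v y = 0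
    · have hvn : v ∈ nextW (q := q) W z y := ⟨hv, hvz, hvy⟩
      obtain ⟨w, hw, hvw⟩ : ∃ w ∈ nextW (q := q) W z y, h v w ≠ 0 := by
        by_contra hcon
        push Not at hcon
        exact hv0 ((hW.next hF P hz hy).nondeg hF hvn hcon)
      obtain ⟨c, H⟩ := EOK.exists_c hF P.ff hw.2.2
      refine ⟨eSU hF H, eSU_mem_kW hF hy hw.1 H, ?_⟩
      rw [suVal_eSU, eMat_mulVec, hvy]
      simpa [h_add_left, h_sub_left, h_smul_left, h_neg_left, hvz, P.fe hF] using hvw
    · refine ⟨eSU hF (eOK_transvection hF P.ff ht), eSU_mem_kW hF hy (Submodule.zero_mem _) _, ?_⟩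
      rw [suVal_eSU, eMat_mulVec, h_zero_right hF]
      simp [h_add_left, h_smul_left, hvz, P.fe hF, ht0, hvy]
  obtain ⟨k, hk, a, ha, hka⟩ := main _ (gW_map hF hW (kW_le hF W hu) hv) (by rw [su_form, hvv]) huz
  exact ⟨u⁻¹ * k, mul_mem (inv_mem hu) hk, a, ha, by rw [mulVec_mul, hka]; exact (inv_apply u v).1⟩

/-- The unitary group of an anisotropic line in `SU` is trivial. -/
theorem eq_one_of_line {W : Submodule F V} (hW : Frame q W)
    (hline : ∀ x ∈ W, x ≠ 0 → ∀ y ∈ W, ∃ a : F, y = a • x) {g : SUn} (hg : g ∈ gW W) : g = 1 := by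
  refine gW_ext hF hW hg (one_mem _) fun w hw => ?_
  rw [suVal_one', Matrix.one_mulVec]
  by_cases hw0 : w = 0
  · rw [hw0, Matrix.mulVec_zero]
  obtain ⟨a, ha⟩ := hline w hw hw0 _ (gW_map hF hW hg hw)
  have hww : h w w ≠ 0 := fun h0 => hw0 (hW.nondeg hF hw fun y hy => by
    obtain ⟨b, rfl⟩ := hline w hw hw0 y hy
    rw [h_smul_right hF, h0, mul_zero])
  have haa : a * cj a = 1 := by
    have h1 := su_form g w w
    rw [ha, h_smul_left, h_smul_right hF] at h1
    exact mul_right_cancel₀ hww (by linear_combination h1)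
  obtain ⟨r, hr, hdet, hrv⟩ := exists_reflection hF hww haa
  have he : suVal g = (r : Mn) := by
    refine Matrix.ext_iff_mulVec.2 fun x => ?_
    have hd : ∀ v ∈ W, h (x - (h x w / h w w) • w) v = 0 := by
      intro v hv
      obtain ⟨b, rfl⟩ := hline w hw hw0 v hv
      rw [h_smul_right hF, h_sub_left, h_smul_left, div_mul_cancel₀ _ hww, sub_self, mul_zero]
    have := hg _ hd
    rw [Matrix.mulVec_sub, Matrix.mulVec_smul, ha] at this
    rw [hrv]
    linear_combination (norm := module) this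
  have ha1 : a = 1 := by
    have : (suVal g).det = 1 := g.1.2
    rwa [he, hdet] at this
  rw [ha, ha1, one_smul]

/-- Every unitary group of a nondegenerate subspace is generated by elements of `p`-power order
unless it is a line. -/
theorem gW_le_kW : ∀ (N : ℕ) (W : Submodule F V), Nat.card W = N → Frame q W →
    (gW W : Subgroup SUn) ≤ kW p W := by
  intro N
  induction N using Nat.strong_induction_on with
  | _ N ih =>
  intro W hN hW g hg
  rcases frame_dichotomy hF W with ⟨z, hz, hz0, hzz⟩ | hline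
  · obtain ⟨y, hy, P⟩ := exists_partner hF hW hz hz0 hzz
    obtain ⟨k, hk, a, ha, hka⟩ := exists_reach (p := p) hF hW P hz hy (gW_map hF hW hg hz)
      (fun h0 => hz0 (su_injective g h0)) (by rw [su_form, hzz])
    -- `g1 z = a z`
    obtain ⟨g1, hg1def⟩ : ∃ g1, g1 = k⁻¹ * g := ⟨_, rfl⟩
    have hg1 : g1 ∈ gW W := hg1def ▸ mul_mem (inv_mem (kW_le hF W hk)) hg
    have hg1z : suVal g1 *ᵥ z = a • z := by
      rw [hg1def, mulVec_mul, ← hka, (inv_apply k _).1]
    suffices g1 ∈ kW p W by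
      have := mul_mem hk this
      rwa [hg1def, mul_inv_cancel_left] at this
    obtain ⟨W2, hW2⟩ : ∃ W2, W2 = nextW (q := q) W z y := ⟨_, rfl⟩
    have hFr2 : Frame q W2 := hW2 ▸ hW.next hF P hz hy
    have ih2 : (gW W2 : Subgroup SUn) ≤ kW p W :=
      (ih _ (hN ▸ hW2 ▸ next_card_lt hF P hz) W2 rfl hFr2).trans
        (kW_mono hF (hW2 ▸ inf_le_left))
    -- a scalar of `z` is realised when `W2 ≠ 0` or it is fixed by the involution
    have hscale : ∀ a : F, a ≠ 0 → ((∃ x ∈ W2, x ≠ 0) ∨ cj a = a) →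
        ∃ m ∈ (kW p W : Subgroup SUn), suVal m *ᵥ z = a • z := by
      intro a ha hor
      obtain ⟨t, ht0, ht⟩ := exists_trace_zero hF
      have hca : cj a ≠ 0 := (map_ne_zero _).2 ha
      obtain ⟨m1, hm1, hm1z⟩ := exists_monomial (p := p) hF (W := W) (w := 0) (c := t) P hz hy
        (Submodule.zero_mem _) ht0 (by rw [h_zero_left, add_zero, ht])
      obtain ⟨c, hc⟩ : ∃ c, c = (cj a * t)⁻¹ := ⟨_, rfl⟩
      obtain ⟨w, hw, hcw⟩ : ∃ w ∈ nextW (q := q) W y z, c + cj c + h w w = 0 := by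
        rcases hor with ⟨x, hx, hx0⟩ | hfix
        · obtain ⟨u, hu, huu⟩ := exists_aniso hF hFr2 hx hx0
          obtain ⟨b, hb⟩ := exists_norm hF (a := -(c + cj c) / h u u) (by
            rw [map_div₀, map_neg, map_add, cj_cj, cj_h_self hF, add_comm])
          rw [hW2] at hu
          refine ⟨b • u, ⟨Submodule.smul_mem _ _ hu.1, by
            rw [wSub_swap hF]; exact Submodule.smul_mem _ _ hu.2⟩, ?_⟩
          rw [h_smul_left, h_smul_right hF]
          linear_combination h u u * hb + div_mul_cancel₀ (-(c + cj c)) huu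
        · refine ⟨0, Submodule.zero_mem _, ?_⟩
          rw [h_zero_left, add_zero, hc, map_inv₀, map_mul, cj_cj, hfix,
            show cj t = -t by linear_combination ht, mul_neg, inv_neg, add_neg_cancel]
      obtain ⟨m2, hm2, hm2y⟩ := exists_monomial (p := p) hF (P.swap hF) hy hz hw
        (hc ▸ inv_ne_zero (mul_ne_zero hca ht0)) hcw
      refine ⟨m2 * m1, mul_mem hm2 hm1, ?_⟩
      rw [mulVec_mul, hm1z, Matrix.mulVec_smul, hm2y, smul_smul]
      congr 1
      rw [hc, map_inv₀, map_mul, cj_cj]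
      field_simp [(map_ne_zero (qFrob hF)).2 ht0]
    have hcond : (∃ x ∈ W2, x ≠ 0) ∨ cj a = a := by
      by_cases hx : ∃ x ∈ W2, x ≠ 0
      · exact Or.inl hx
      push Not at hx
      refine Or.inr ?_
      -- the determinant
      obtain ⟨a', ha'def⟩ : ∃ a', a' = h (suVal g1 *ᵥ y) z := ⟨_, rfl⟩
      have ha' : a' * cj a = 1 := by
        have h1 := su_form g1 y z
        rw [hg1z, h_smul_right hF, P.fe hF] at h1
        rw [ha'def]; linear_combination h1
      have hdec : ∀ w ∈ W, w = h w y • z + h w z • y := by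
        intro w hw
        have hw2 : wPart (q := q) z y w ∈ W2 := hW2 ▸ ⟨Submodule.sub_mem _ hw
          (Submodule.add_mem _ (Submodule.smul_mem _ _ hz) (Submodule.smul_mem _ _ hy)), wPart_mem hF P w⟩
        conv_lhs => rw [wPart_eq (q := q) z y w, hx _ hw2, add_zero]
      have hg1y : suVal g1 *ᵥ y = h (suVal g1 *ᵥ y) y • z + a' • y :=
        ha'def ▸ hdec _ (gW_map hF hW hg1 hy)
      obtain ⟨γ, hγ⟩ : ∃ γ, γ = h (suVal g1 *ᵥ y) y := ⟨_, rfl⟩
      rw [← hγ] at hg1y
      let U : Matrix (Fin n) (Fin 2) F := Matrix.of fun i j => if j = 0 then z i else y i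
      let R : Matrix (Fin 2) (Fin n) F := Matrix.of fun j i =>
        if j = 0 then (a - 1) * y i ^ q + γ * z i ^ q else (a' - 1) * z i ^ q
      have hd : ∀ v x : V, ∑ i, v i ^ q * x i = h x v := fun v x => by simp [hermForm, mul_comm]
      have hM : suVal g1 = 1 + U * R := by
        refine Matrix.ext_iff_mulVec.2 fun x => ?_
        obtain ⟨px, hpx, hp⟩ := hW x
        have hR : R *ᵥ x = ![(a - 1) * h x y + γ * h x z, (a' - 1) * h x z] := by
          funext j
          fin_cases j <;>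
            simp [R, Matrix.mulVec, dotProduct, add_mul, mul_assoc, Finset.sum_add_distrib,
              ← Finset.mul_sum, hd]
        have hUR : (U * R) *ᵥ x = ((a - 1) * h x y + γ * h x z) • z + ((a' - 1) * h x z) • y := by
          rw [← Matrix.mulVec_mulVec, hR]
          funext i
          simp [U, Matrix.mulVec, dotProduct, Fin.sum_univ_two]
          ring
        rw [Matrix.add_mulVec, Matrix.one_mulVec, hUR, hp y hy, hp z hz]
        have hxp : ∀ v ∈ W, h (x - px) v = 0 := fun v hv => by rw [h_sub_left, hp v hv, sub_self]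
        have hgpx : suVal g1 *ᵥ px = h px y • (a • z) + h px z • (γ • z + a' • y) := by
          rw [← hg1z, ← hg1y, ← Matrix.mulVec_smul, ← Matrix.mulVec_smul, ← Matrix.mulVec_add,
            ← hdec px hpx]
        conv_lhs => rw [← sub_add_cancel x px, Matrix.mulVec_add, hg1 _ hxp, hgpx]
        linear_combination (norm := module) -hdec px hpx
      have hdet : (suVal g1).det = a * a' := by
        rw [hM, Matrix.det_one_add_mul_comm, Matrix.det_fin_two]
        simp [U, R, Matrix.mul_apply, add_mul, mul_assoc, Finset.sum_add_distrib, ← Finset.mul_sum,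
          hd, P.ee, P.ef, P.ff, P.fe hF]
      have h1 : a * a' = 1 := hdet ▸ g1.1.2
      linear_combination cj a * (-h1) + a * ha'
    obtain ⟨m, hm, hmz⟩ := hscale a ha hcond
    obtain ⟨g2, hg2def⟩ : ∃ g2, g2 = m⁻¹ * g1 := ⟨_, rfl⟩
    have hg2 : g2 ∈ gW W := hg2def ▸ mul_mem (inv_mem (kW_le hF W hm)) hg1
    have hg2z : suVal g2 *ᵥ z = z := by
      rw [hg2def, mulVec_mul, hg1z, ← hmz, (inv_apply m z).1]
    obtain ⟨w, hw⟩ : ∃ w, w = wPart (q := q) z y (suVal g2 *ᵥ y) := ⟨_, rfl⟩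
    have hy' : suVal g2 *ᵥ y ∈ W := gW_map hF hW hg2 hy
    have hyz : h (suVal g2 *ᵥ y) z = 1 := by
      have := su_form g2 y z
      rwa [hg2z, P.fe hF] at this
    obtain ⟨c, hc⟩ : ∃ c, c = h (suVal g2 *ᵥ y) y := ⟨_, rfl⟩
    have hyeq : suVal g2 *ᵥ y = c • z + y + w := by
      conv_lhs => rw [wPart_eq (q := q) z y (suVal g2 *ᵥ y), hyz, one_smul, ← hc, ← hw]
    have hwn : w ∈ nextW (q := q) W z y := hw ▸ ⟨Submodule.sub_mem _ hy'
      (Submodule.add_mem _ (Submodule.smul_mem _ _ hz) (Submodule.smul_mem _ _ hy)), wPart_mem hF P _⟩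
    have H : EOK (q := q) z w c := by
      refine ⟨P.ee, hwn.2.1, ?_⟩
      have h1 : h (suVal g2 *ᵥ y) (suVal g2 *ᵥ y) = 0 := by rw [su_form, P.ff]
      rw [hyeq] at h1
      simp only [h_add_left, h_add_right hF, h_smul_left, h_smul_right hF, P.ee, P.ef, P.ff, P.fe hF,
        hwn.2.1, hwn.2.2, h_comm_zero hF hwn.2.1, h_comm_zero hF hwn.2.2] at h1
      rw [cj_pow hF]; linear_combination h1
    have hEz : suVal (eSU hF H) *ᵥ z = z := by
      rw [suVal_eSU, eMat_mulVec, P.ee, h_comm_zero hF hwn.2.1]; simp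
    have hEy : suVal (eSU hF H) *ᵥ y = suVal g2 *ᵥ y := by
      rw [hyeq, suVal_eSU, eMat_mulVec, P.fe hF, h_comm_zero hF hwn.2.2]
      simp; abel
    have hEk := eSU_mem_kW (p := p) hF hz hwn.1 H
    have hg3 : (eSU hF H)⁻¹ * g2 ∈ gW W2 := by
      rw [hW2]
      refine mem_gW_next hF hW P hz hy (mul_mem (inv_mem (kW_le hF W hEk)) hg2) ?_ ?_
      · rw [mulVec_mul, hg2z]
        exact (congrArg (fun v => suVal (eSU hF H)⁻¹ *ᵥ v) hEz.symm).trans (inv_apply (eSU hF H) z).1
      · rw [mulVec_mul, ← hEy]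
        exact (inv_apply _ y).1
    have h4 := mul_mem hm (mul_mem hEk (ih2 hg3))
    rwa [mul_inv_cancel_left, hg2def, mul_inv_cancel_left] at h4
  · rw [eq_one_of_line hF hW hline hg]
    exact one_mem _

/-- A `p`-group acting on `W` fixes an isotropic vector, if there is one. -/
theorem exists_fixed_isotropic {W : Submodule F V} (hW : Frame q W) {z0 : V} (hz : z0 ∈ W)
    (hz0 : z0 ≠ 0) (hzz : h z0 z0 = 0) {X : Subgroup SUn} (hX : IsPGroup p X)
    (hXW : X ≤ gW W) : ∃ z ∈ W, z ≠ 0 ∧ h z z = 0 ∧ ∀ s ∈ X, suVal s *ᵥ z = z := by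
  classical
  -- a fixed nonzero vector in any invariant subspace
  have fixd : ∀ W' : Submodule F V, (∃ x ∈ W', x ≠ 0) → (∀ s ∈ X, ∀ x ∈ W', suVal s *ᵥ x ∈ W') →
      ∃ v ∈ W', v ≠ 0 ∧ ∀ s ∈ X, suVal s *ᵥ v = v := by
    intro W' hne hinv
    let _ : MulAction X W' :=
      { smul := fun s x => ⟨suVal (s : SUn) *ᵥ (x : V), hinv s s.2 x x.2⟩
        one_smul := fun x => Subtype.ext (Matrix.one_mulVec _)
        mul_smul := fun s t x => Subtype.ext (mulVec_mul (s : SUn) (t : SUn) _) }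
    obtain ⟨x, hx, hx0⟩ := hne
    have hdvd : p ∣ Nat.card W' := by
      refine dvd_trans ?_ (addOrderOf_dvd_natCard (⟨x, hx⟩ : W'))
      rw [addOrderOf_eq_prime (p := p) (Subtype.ext ?_) (fun h0 => hx0 (congrArg Subtype.val h0))]
      show p • x = 0
      rw [← Nat.cast_smul_eq_nsmul F, CharP.cast_eq_zero, zero_smul]
    obtain ⟨b, hb, hb0⟩ := hX.exists_fixed_point_of_prime_dvd_card_of_fixed_point W' hdvd
      (a := (0 : W')) (fun s => Subtype.ext (Matrix.mulVec_zero (suVal (s : SUn))))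
    exact ⟨b, b.2, fun h0 => hb0 (Subtype.ext h0.symm), fun s hs => congrArg Subtype.val (hb ⟨s, hs⟩)⟩
  obtain ⟨v, hv, hv0, hvf⟩ := fixd W ⟨z0, hz, hz0⟩ fun s hs x hx => gW_map hF hW (hXW hs) hx
  by_cases hvv : h v v = 0
  · exact ⟨v, hv, hv0, hvv, hvf⟩
  let W' : Submodule F V :=
    { carrier := {x | x ∈ W ∧ hermForm n F q x v = 0}
      add_mem' := fun ha hb => ⟨W.add_mem ha.1 hb.1, by
        rw [hermForm_add_left, ha.2, hb.2, add_zero]⟩
      zero_mem' := ⟨W.zero_mem, h_zero_left v⟩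
      smul_mem' := fun a x hx => ⟨W.smul_mem a hx.1, by rw [hermForm_smul_left, hx.2, mul_zero]⟩ }
  have hz' : z0 - (h z0 v / h v v) • v ∈ W' := ⟨Submodule.sub_mem _ hz (Submodule.smul_mem _ _ hv), by
    rw [h_sub_left, h_smul_left, div_mul_cancel₀ _ hvv, sub_self]⟩
  have hne : z0 - (h z0 v / h v v) • v ≠ 0 := by
    intro h0
    rw [sub_eq_zero] at h0
    rw [h0, h_smul_left, h_smul_right hF, mul_eq_zero, mul_eq_zero] at hzz
    rcases hzz with h1 | h1 | h1
    · exact hz0 (by rw [h0, h1, zero_smul])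
    · exact hz0 (by rw [h0, (map_eq_zero _).1 h1, zero_smul])
    · exact hvv h1
  obtain ⟨w, hw, hw0, hwf⟩ := fixd W' ⟨_, hz', hne⟩ fun s hs x hx => ⟨gW_map hF hW (hXW hs) hx.1, by
    rw [← hvf s hs, su_form]; exact hx.2⟩
  by_cases hww : h w w = 0
  · exact ⟨w, hw.1, hw0, hww, hwf⟩
  obtain ⟨b, hb⟩ := exists_norm hF (a := -h v v / h w w) (by
    rw [map_div₀, map_neg, cj_h_self hF, cj_h_self hF])
  refine ⟨v + b • w, Submodule.add_mem _ hv (Submodule.smul_mem _ b hw.1), fun h0 => hvv ?_, ?_, ?_⟩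
  · have h1 := congrArg (fun x => h x v) h0
    simpa [h_add_left, h_smul_left, hw.2, h_zero_left] using h1
  · rw [h_add_left, h_add_right hF, h_add_right hF, h_smul_right hF, h_smul_right hF, h_smul_left,
      h_smul_left, hw.2, h_comm_zero hF hw.2]
    linear_combination h w w * hb + (div_mul_cancel₀ (-h v v) hww)
  · intro s hs
    rw [Matrix.mulVec_add, Matrix.mulVec_smul, hvf s hs, hwf s hs]

end Cfsg.Agent.Fus.UnitN
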