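import Cfsg.Agent.Lib.Classical.AbelianPermMax

/-!
The abelian groups of even permutations of largest order are all conjugate: they split off an orbit
of length three (`n` divisible by three) or four, carrying the alternating, resp. four, group.
-/

set_option autoImplicit false

namespace Cfsg.Agent.Fus.AbelianAltMax

open Equiv Equiv.Perm
open Cfsg.Agent.AbelianPermMax

/-- The largest order of an abelian group of even permutations of `n` points. -/
def tgt (n : ℕ) : ℕ := if n % 3 = 2 then bdEven (n / 3) else bd n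

/-- The length of the orbit to be split off. -/
def ln (n : ℕ) : ℕ := if n % 3 = 0 then 3 else 4

theorem tgt_zero (k : ℕ) : tgt (3 * k) = 3 ^ k := by
  rw [tgt, if_neg (by omega), bd_zero]

theorem tgt_one (j : ℕ) : tgt (3 * (j + 1) + 1) = 4 * 3 ^ j := by
  rw [tgt, if_neg (by omega), bd_one, if_neg (by omega), Nat.add_sub_cancel]

theorem tgt_two (k : ℕ) : tgt (3 * k + 2) = bdEven k := by
  rw [tgt, if_pos (by omega), show (3 * k + 2) / 3 = k by omega]

theorem bd_pos (n : ℕ) : 0 < bd n := by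
  obtain ⟨k, rfl | rfl | rfl⟩ := cases3 n
  · rw [bd_zero]; positivity
  · rw [bd_one]; split_ifs <;> positivity
  · rw [bd_two]; positivity

theorem tgt_le_bd (n : ℕ) : tgt n ≤ bd n := by
  obtain ⟨k, rfl | rfl | rfl⟩ := cases3 n
  · rw [tgt, if_neg (by omega)]
  · rw [tgt, if_neg (by omega)]
  · rw [tgt_two, bd_two]
    rcases k with _ | _ | j
    · decide
    · decide
    · rw [bdEven_add_two, pow_succ, pow_succ]; omega

theorem two_strict {n : ℕ} (hn : 3 ≤ n) : bd (n - 2) < tgt n := by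
  obtain ⟨k, rfl | rfl | rfl⟩ := cases3 n
  · obtain ⟨j, rfl⟩ : ∃ j, k = j + 1 := ⟨k - 1, by omega⟩
    rw [show 3 * (j + 1) - 2 = 3 * j + 1 by omega, bd_one, tgt_zero, pow_succ]
    rcases j with _ | i
    · simp
    · have := Nat.one_le_pow i 3 (by omega)
      rw [if_neg (by omega), Nat.add_sub_cancel, pow_succ]; omega
  · obtain ⟨j, rfl⟩ : ∃ j, k = j + 1 := ⟨k - 1, by omega⟩
    have := Nat.one_le_pow j 3 (by omega)
    rw [show 3 * (j + 1) + 1 - 2 = 3 * j + 2 by omega, bd_two, tgt_one]; omega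
  · rw [show 3 * k + 2 - 2 = 3 * k by omega, bd_zero, tgt_two]
    rcases k with _ | _ | j
    · omega
    · decide
    · have := Nat.one_le_pow j 3 (by omega)
      rw [bdEven_add_two, pow_succ, pow_succ]; omega

/-- An orbit of a length other than two, three, four loses. -/
theorem other_strict {n s : ℕ} (hn : 3 ≤ n) (hn5 : n ≠ 5) (hs : 1 ≤ s) (hsn : s ≤ n) (h2 : s ≠ 2)
    (h3 : s ≠ 3) (h4 : s ≠ 4) : s * bd (n - s) < tgt n := by
  rcases Nat.lt_or_ge s 2 with h | h
  · obtain rfl : s = 1 := by omega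
    rw [one_mul]
    obtain ⟨k, rfl | rfl | rfl⟩ := cases3 n
    · obtain ⟨j, rfl⟩ : ∃ j, k = j + 1 := ⟨k - 1, by omega⟩
      have := Nat.one_le_pow j 3 (by omega)
      rw [show 3 * (j + 1) - 1 = 3 * j + 2 by omega, bd_two, tgt_zero, pow_succ]; omega
    · obtain ⟨j, rfl⟩ : ∃ j, k = j + 1 := ⟨k - 1, by omega⟩
      have := Nat.one_le_pow j 3 (by omega)
      rw [show 3 * (j + 1) + 1 - 1 = 3 * (j + 1) by omega, bd_zero, tgt_one, pow_succ]; omega
    · obtain ⟨j, rfl⟩ : ∃ j, k = j + 2 := ⟨k - 2, by omega⟩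
      have := Nat.one_le_pow j 3 (by omega)
      rw [show 3 * (j + 2) + 2 - 1 = 3 * (j + 1 + 1) + 1 - 0 by omega, Nat.sub_zero, bd_one,
        if_neg (by omega), Nat.add_sub_cancel, tgt_two, bdEven_add_two, pow_succ]
      omega
  · have h5 : 5 ≤ s := by omega
    have hpos := bd_pos (n - s)
    have hstep : s * bd (n - s) < (s - 3) * bd (n - s + 3) :=
      calc s * bd (n - s) < (s - 3) * 3 * bd (n - s) := Nat.mul_lt_mul_of_pos_right (by omega) hpos
        _ = (s - 3) * (3 * bd (n - s)) := by ring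
        _ ≤ _ := Nat.mul_le_mul_left _ (bd_steps _).2.2
    by_cases h32 : n % 3 = 2
    · obtain ⟨j, rfl⟩ : ∃ j, n = 3 * (j + 2) + 2 := ⟨n / 3 - 2, by omega⟩
      rcases Nat.lt_or_ge s 7 with h7 | h7
      · rw [tgt_two, bdEven_add_two]
        have := Nat.one_le_pow j 3 (by omega)
        obtain rfl | rfl : s = 5 ∨ s = 6 := by omega
        · rw [show 3 * (j + 2) + 2 - 5 = 3 * (j + 1) by omega, bd_zero, pow_succ]; omega
        · rw [show 3 * (j + 2) + 2 - 6 = 3 * j + 2 by omega, bd_two]; omega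
      · refine hstep.trans_le ?_
        rw [tgt_two]
        exact mul_bd_le_bdEven (s - 3) _ (j + 2) (by omega) (by omega) (by omega) (by omega)
    · refine hstep.trans_le ?_
      have := mul_bd_le (s - 3) (n - s + 3) (by omega)
      rw [show n - s + 3 + (s - 3) = n by omega] at this
      rw [tgt, if_neg h32]
      exact this

theorem four_strict {n : ℕ} (h4 : 4 ≤ n) (hn : n % 3 = 0) : 4 * bd (n - 4) < tgt n := by
  obtain ⟨j, rfl⟩ : ∃ j, n = 3 * (j + 2) := ⟨n / 3 - 2, by omega⟩
  have := Nat.one_le_pow j 3 (by omega)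
  rw [show 3 * (j + 2) - 4 = 3 * j + 2 by omega, bd_two, tgt_zero, pow_succ, pow_succ]; omega

theorem three_strict {n : ℕ} (hn : n = 4 ∨ n = 8) : 3 * tgt (n - 3) < tgt n := by
  rcases hn with rfl | rfl <;> decide

theorem tgt_three {n : ℕ} (hn : 3 ≤ n) (h4 : n ≠ 4) (h5 : n ≠ 5) (h8 : n ≠ 8) :
    tgt n = 3 * tgt (n - 3) := by
  obtain ⟨k, rfl | rfl | rfl⟩ := cases3 n
  · obtain ⟨j, rfl⟩ : ∃ j, k = j + 1 := ⟨k - 1, by omega⟩
    rw [show 3 * (j + 1) - 3 = 3 * j by omega, tgt_zero, tgt_zero, pow_succ, mul_comm]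
  · obtain ⟨j, rfl⟩ : ∃ j, k = j + 2 := ⟨k - 2, by omega⟩
    rw [show 3 * (j + 2) + 1 - 3 = 3 * (j + 1) + 1 by omega, tgt_one, tgt_one, pow_succ]; ring
  · obtain ⟨j, rfl⟩ : ∃ j, k = j + 3 := ⟨k - 3, by omega⟩
    rw [show 3 * (j + 3) + 2 - 3 = 3 * (j + 2) + 2 by omega, tgt_two, tgt_two, bdEven_add_two,
      bdEven_add_two, pow_succ]
    ring

theorem tgt_ln {n : ℕ} (hn : 3 ≤ n) (h5 : n ≠ 5) :
    tgt n = ln n * tgt (n - ln n) ∧ tgt (n - ln n) = bd (n - ln n) ∧ ln n ≤ n ∧
      (n - ln n = 0 ∨ (3 ≤ n - ln n ∧ n - ln n ≠ 5)) := by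
  obtain ⟨k, rfl | rfl | rfl⟩ := cases3 n
  · obtain ⟨j, rfl⟩ : ∃ j, k = j + 1 := ⟨k - 1, by omega⟩
    rw [show ln (3 * (j + 1)) = 3 from if_pos (by omega)]
    refine ⟨tgt_three (by omega) (by omega) (by omega) (by omega), ?_, by omega, by omega⟩
    rw [tgt, if_neg (by omega)]
  · obtain ⟨j, rfl⟩ : ∃ j, k = j + 1 := ⟨k - 1, by omega⟩
    rw [show ln (3 * (j + 1) + 1) = 4 from if_neg (by omega),
      show 3 * (j + 1) + 1 - 4 = 3 * j by omega, tgt_one, tgt_zero, bd_zero]
    exact ⟨rfl, rfl, by omega, by omega⟩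
  · obtain ⟨j, rfl⟩ : ∃ j, k = j + 2 := ⟨k - 2, by omega⟩
    rw [show ln (3 * (j + 2) + 2) = 4 from if_neg (by omega),
      show 3 * (j + 2) + 2 - 4 = 3 * (j + 1) + 1 by omega, tgt_one, tgt_two, bdEven_add_two,
      bd_one, if_neg (by omega), Nat.add_sub_cancel]
    exact ⟨by ring, rfl, by omega, by omega⟩

variable {X : Type} [Fintype X] [DecidableEq X]

/-- The orbit of a point under a permutation group. -/
noncomputable def orb (A : Subgroup (Perm X)) (x : X) : Finset X :=
  by classical exact Finset.univ.filter fun y => ∃ a ∈ A, a x = y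

theorem mem_orb {A : Subgroup (Perm X)} {x y : X} : y ∈ orb A x ↔ ∃ a ∈ A, a x = y := by
  simp [orb]

theorem self_mem_orb (A : Subgroup (Perm X)) (x : X) : x ∈ orb A x :=
  mem_orb.2 ⟨1, A.one_mem, rfl⟩

theorem orb_inv {A : Subgroup (Perm X)} {x : X} {g : Perm X} (hg : g ∈ A) (y : X) :
    g y ∈ orb A x ↔ y ∈ orb A x := by
  rw [mem_orb, mem_orb]
  constructor
  · rintro ⟨a, ha, e⟩
    exact ⟨g⁻¹ * a, A.mul_mem (A.inv_mem hg) ha, by simp [e]⟩
  · rintro ⟨a, ha, e⟩
    exact ⟨g * a, A.mul_mem hg ha, by simp [e]⟩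

/-- The restriction to the complement of an orbit. -/
noncomputable def rest (A : Subgroup (Perm X)) (x : X) : A →* Perm {y // y ∉ orb A x} where
  toFun g := (g : Perm X).subtypePerm fun y => not_congr (orb_inv g.2 y)
  map_one' := by ext; rfl
  map_mul' g h := by ext; rfl

theorem det_on_orb {A : Subgroup (Perm X)} (hA : IsMulCommutative A) {x : X} {g h : Perm X}
    (hg : g ∈ A) (hh : h ∈ A) (e : g x = h x) {y : X} (hy : y ∈ orb A x) : g y = h y := by
  obtain ⟨a, ha, rfl⟩ := mem_orb.1 hy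
  have c1 : g * a = a * g := congrArg Subtype.val (hA.is_comm.comm ⟨g, hg⟩ ⟨a, ha⟩)
  have c2 : h * a = a * h := congrArg Subtype.val (hA.is_comm.comm ⟨h, hh⟩ ⟨a, ha⟩)
  rw [← Perm.mul_apply, ← Perm.mul_apply, c1, c2, Perm.mul_apply, Perm.mul_apply, e]

theorem comm_rest {A : Subgroup (Perm X)} (hA : IsMulCommutative A) (x : X) :
    IsMulCommutative (rest A x).range := by
  constructor; constructor
  rintro ⟨_, g, rfl⟩ ⟨_, h, rfl⟩
  ext1
  change rest A x g * rest A x h = rest A x h * rest A x g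
  rw [← map_mul, ← map_mul, hA.is_comm.comm]

/-- The map to the orbit and the restriction. -/
noncomputable def pairMap (A : Subgroup (Perm X)) (x : X) (g : A) :
    {y // y ∈ orb A x} × (rest A x).range :=
  (⟨(g : Perm X) x, mem_orb.2 ⟨g, g.2, rfl⟩⟩, ⟨rest A x g, g, rfl⟩)

theorem pairMap_injective {A : Subgroup (Perm X)} (hA : IsMulCommutative A) (x : X) :
    Function.Injective (pairMap A x) := by
  intro g h e
  simp only [pairMap, Prod.ext_iff, Subtype.ext_iff] at e
  ext y
  by_cases hy : y ∈ orb A x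
  · exact det_on_orb hA g.2 h.2 e.1 hy
  · exact congrArg Subtype.val (Equiv.congr_fun e.2 ⟨y, hy⟩)

theorem card_le_mul {A : Subgroup (Perm X)} (hA : IsMulCommutative A) (x : X) :
    Nat.card A ≤ (orb A x).card * Nat.card (rest A x).range := by
  simpa [Nat.card_prod] using Nat.card_le_card_of_injective _ (pairMap_injective hA x)

theorem pairMap_bijective {A : Subgroup (Perm X)} (hA : IsMulCommutative A) (x : X)
    (h : (orb A x).card * Nat.card (rest A x).range ≤ Nat.card A) :
    Function.Bijective (pairMap A x) :=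
  (pairMap_injective hA x).bijective_of_nat_card_le (by simpa [Nat.card_prod] using h)

/-- An abelian group of even permutations of largest order. -/
structure IsMax (A : Subgroup (Perm X)) : Prop where
  comm : IsMulCommutative A
  even : ∀ g ∈ A, sign g = 1
  card : Nat.card A = tgt (Fintype.card X)

theorem card_compl (A : Subgroup (Perm X)) (x : X) :
    Fintype.card {y // y ∉ orb A x} = Fintype.card X - (orb A x).card := by
  rw [Fintype.card_subtype_compl, Fintype.card_coe]

theorem orb_step {A : Subgroup (Perm X)} (h : IsMax A) (hn : 3 ≤ Fintype.card X)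
    (h5 : Fintype.card X ≠ 5) (x : X) :
    ((orb A x).card = 4 ∧ Fintype.card X % 3 ≠ 0) ∨
      ((orb A x).card = 3 ∧ Fintype.card X ≠ 4 ∧ Fintype.card X ≠ 8 ∧
        IsMax (rest A x).range) := by
  obtain ⟨s', B, hx, hB, hle, h3', h2'⟩ := orbit_step A h.comm x
  have hm : 1 ≤ (orb A x).card := Finset.card_pos.2 ⟨x, self_mem_orb A x⟩
  have hsn : (orb A x).card ≤ Fintype.card X := Finset.card_le_univ _
  have hbound := card_le_bd _ _ (card_compl A x) _ (comm_rest h.comm x)
  have hmul := card_le_mul h.comm x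
  rw [h.card] at hmul
  have h2ne : (orb A x).card ≠ 2 := by
    intro e2
    -- a transposition of the orbit cannot occur alone
    have hinj : Function.Injective fun g : A => (⟨rest A x g, g, rfl⟩ : (rest A x).range) := by
      intro g g' e
      have e' : rest A x g = rest A x g' := congrArg Subtype.val e
      by_contra hne
      have hk : rest A x (g'⁻¹ * g) = 1 := by rw [map_mul, map_inv, e', inv_mul_cancel]
      have hk1 : ((g'⁻¹ * g : A) : Perm X) ≠ 1 := fun hc =>
        hne (inv_mul_eq_one.1 (Subtype.ext hc : g'⁻¹ * g = 1)).symm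
      have hsub : ((g'⁻¹ * g : A) : Perm X).support ⊆ orb A x := by
        intro y hy
        by_contra hys
        exact Perm.mem_support.1 hy (congrArg Subtype.val (Equiv.congr_fun hk ⟨y, hys⟩))
      have hcard : ((g'⁻¹ * g : A) : Perm X).support.card = 2 :=
        le_antisymm (e2 ▸ Finset.card_le_card hsub) (two_le_card_support_of_ne_one hk1)
      have := h.even _ (g'⁻¹ * g).2
      rw [(card_support_eq_two.1 hcard).sign_eq] at this
      exact absurd this (by decide)
    have := Nat.card_le_card_of_injective _ hinj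
    rw [h.card] at this
    rw [e2] at hbound
    have := two_strict hn
    omega
  by_cases e3 : (orb A x).card = 3
  · -- every element is even on an orbit of length three
    have hev : ∀ b ∈ (rest A x).range, sign b = 1 := by
      rintro _ ⟨g, rfl⟩
      have hsp : sign (g : Perm X) =
          sign ((g : Perm X).subtypePerm (orb_inv g.2 (x := x))) * sign (rest A x g) := by
        convert sign_split (g : Perm X) (· ∈ orb A x) (orb_inv g.2)
          fun y => not_congr (orb_inv g.2 y)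
        rfl
      have h1 : sign ((g : Perm X).subtypePerm (orb_inv g.2 (x := x))) = 1 := by
        rcases eq_or_ne ((g : Perm X).subtypePerm (orb_inv g.2 (x := x))) 1 with e | e
        · rw [e, map_one]
        refine IsThreeCycle.sign (card_support_eq_three_iff.1 ?_)
        rw [show ((g : Perm X).subtypePerm (orb_inv g.2 (x := x))).support = Finset.univ from ?_]
        · simpa using e3
        refine Finset.eq_univ_iff_forall.2 fun y => Perm.mem_support.2 fun hy => e ?_
        have hy' : (g : Perm X) y.1 = y.1 := congrArg Subtype.val hy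
        obtain ⟨a, ha, ea⟩ := mem_orb.1 y.2
        have h0 : (g : Perm X) x = x := by
          apply a.injective
          rw [← Perm.mul_apply, ← show (g : Perm X) * a = a * g from
            congrArg Subtype.val (h.comm.is_comm.comm g ⟨a, ha⟩), Perm.mul_apply, ea, hy']
        ext z
        simpa using det_on_orb h.comm g.2 A.one_mem (by simpa using h0) z.2
      rw [h.even _ g.2, h1, one_mul] at hsp
      exact hsp.symm
    have hb : Nat.card (rest A x).range ≤ tgt (Fintype.card X - 3) := by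
      by_cases hr : Fintype.card X % 3 = 2
      · rw [tgt, if_pos (by omega)]
        exact card_le_bdEven _ _ (by rw [card_compl, e3]; omega) _ (comm_rest h.comm x) hev
      · rw [tgt, if_neg (by omega)]
        rwa [e3] at hbound
    rw [e3] at hmul
    have h48 : ¬ (Fintype.card X = 4 ∨ Fintype.card X = 8) := fun e => by
      have := three_strict e; omega
    refine Or.inr ⟨e3, by omega, by omega, comm_rest h.comm x, hev, ?_⟩
    rw [card_compl, e3]
    have := tgt_three hn (by omega) h5 (by omega)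
    omega
  by_cases e4 : (orb A x).card = 4
  · refine Or.inl ⟨e4, fun h0 => ?_⟩
    have := four_strict (n := Fintype.card X) (by omega) h0
    rw [e4] at hmul hbound
    have := Nat.mul_le_mul_left 4 hbound
    omega
  have := other_strict hn h5 hm hsn h2ne e3 e4
  have := Nat.mul_le_mul_left (orb A x).card hbound
  omega

/-- The restricted orbits are orbits. -/
theorem orb_rest (A : Subgroup (Perm X)) (x : X) (z : {y // y ∉ orb A x}) :
    (orb (rest A x).range z).card = (orb A z.1).card := by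
  refine Finset.card_bij (fun y _ => y.1) ?_ ?_ ?_
  · intro y hy
    obtain ⟨_, ⟨g, rfl⟩, hg⟩ := mem_orb.1 hy
    exact mem_orb.2 ⟨g, g.2, congrArg Subtype.val hg⟩
  · exact fun a _ b _ e => Subtype.ext e
  · intro w hw
    obtain ⟨g, hg, rfl⟩ := mem_orb.1 hw
    exact ⟨⟨g z.1, fun hm => z.2 ((orb_inv hg z.1).1 hm)⟩,
      mem_orb.2 ⟨rest A x ⟨g, hg⟩, ⟨⟨g, hg⟩, rfl⟩, rfl⟩, rfl⟩

omit [Fintype X] [DecidableEq X] in
theorem exists_ln (n : ℕ) : ∀ (X : Type) [Fintype X] [DecidableEq X] (A : Subgroup (Perm X)),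
    IsMax A → Fintype.card X = n → 3 ≤ n → n ≠ 5 → ∃ x : X, (orb A x).card = ln n := by
  induction n using Nat.strong_induction_on with
  | _ n ih =>
    intro X _ _ A h hX hn h5
    have : Nonempty X := Fintype.card_pos_iff.1 (by omega)
    obtain ⟨x⟩ := this
    rcases orb_step h (hX ▸ hn) (hX ▸ h5) x with ⟨e, h0⟩ | ⟨e, h4, h8, hB⟩
    · exact ⟨x, by rw [e, ln, if_neg (hX ▸ h0)]⟩
    · by_cases h0 : n % 3 = 0
      · exact ⟨x, by rw [e, ln, if_pos h0]⟩
      obtain ⟨z, hz⟩ := ih (n - 3) (by omega) _ _ hB (by rw [card_compl, e, hX]) (by omega)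
        (by omega)
      refine ⟨z.1, ?_⟩
      rw [← orb_rest, hz, ln, ln, if_neg (by omega), if_neg h0]

/-- The group to be put on a short orbit: even, and of exponent two on four points. -/
def Std {Z : Type} [Fintype Z] [DecidableEq Z] (g : Perm Z) : Prop :=
  sign g = 1 ∧ (Fintype.card Z = 4 → g * g = 1)

theorem std_regular_fin : (∀ g h : Perm (Fin 3), sign g = 1 → sign h = 1 → ∀ z, g z = h z → g = h) ∧
    (∀ g : Perm (Fin 4), (sign g = 1 ∧ g * g = 1) → ∀ h : Perm (Fin 4),
      (sign h = 1 ∧ h * h = 1) → ∀ z, g z = h z → g = h) ∧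
    (∀ g : Perm (Fin 4), sign g = 1 → (∀ z, g z ≠ z) → g * g = 1) := by
  refine ⟨?_, ?_, ?_⟩ <;> decide +kernel

theorem std_congr {Z W : Type} [Fintype Z] [DecidableEq Z] [Fintype W] [DecidableEq W] (e : Z ≃ W)
    (g : Perm Z) : Std (e.permCongr g) ↔ Std g := by
  unfold Std
  rw [sign_permCongr, Fintype.card_congr e]
  refine and_congr_right fun _ => imp_congr_right fun _ => ?_
  rw [← e.permCongr_mul g g, show (1 : Perm W) = e.permCongr 1 from (map_one e.permCongrHom).symm,
    e.permCongr.injective.eq_iff]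

theorem std_regular {Z : Type} [Fintype Z] [DecidableEq Z]
    (hc : Fintype.card Z = 3 ∨ Fintype.card Z = 4) {g h : Perm Z} (hg : Std g) (hh : Std h) {z : Z}
    (e : g z = h z) : g = h := by
  rcases hc with hc | hc
  · let v := Fintype.equivFinOfCardEq hc
    refine v.permCongr.injective (std_regular_fin.1 _ _ ?_ ?_ (v z) ?_)
    · rw [sign_permCongr]; exact hg.1
    · rw [sign_permCongr]; exact hh.1
    · simp [Equiv.permCongr_apply, e]
  · let v := Fintype.equivFinOfCardEq hc
    have hg' := (std_congr v g).2 hg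
    have hh' := (std_congr v h).2 hh
    refine v.permCongr.injective (std_regular_fin.2.1 _ ⟨hg'.1, hg'.2 (Fintype.card_fin 4)⟩ _
      ⟨hh'.1, hh'.2 (Fintype.card_fin 4)⟩ (v z) ?_)
    simp [Equiv.permCongr_apply, e]

/-- Membership in the product of the standard group on `s` and `B`. -/
def Split (s : Finset X) (B : Subgroup (Perm {y // y ∉ s})) (g : Perm X) : Prop :=
  ∃ h : ∀ y, g y ∈ s ↔ y ∈ s,
    Std (g.subtypePerm h) ∧ g.subtypePerm (p := fun y => y ∉ s) (fun y => not_congr (h y)) ∈ B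

omit [Fintype X] in
theorem split_congr {Y : Type} [Fintype Y] [DecidableEq Y] (σ : X ≃ Y) {s : Finset X}
    {s' : Finset Y} (hσ : ∀ y, y ∈ s ↔ σ y ∈ s') {B : Subgroup (Perm {y // y ∉ s})}
    {B' : Subgroup (Perm {y // y ∉ s'})}
    (hB : ∀ b, b ∈ B ↔ (σ.subtypeEquiv fun y => not_congr (hσ y)).permCongr b ∈ B') (g : Perm X) :
    Split s B g ↔ Split s' B' (σ.permCongr g) := by
  have hiff : (∀ y, g y ∈ s ↔ y ∈ s) ↔ ∀ y, σ.permCongr g y ∈ s' ↔ y ∈ s' := by
    refine σ.forall_congr fun {y} => ?_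
    rw [Equiv.permCongr_apply, σ.symm_apply_apply, ← hσ, ← hσ]
  constructor
  · rintro ⟨h, h1, h2⟩
    refine ⟨hiff.1 h, ?_, ?_⟩
    · convert (std_congr (σ.subtypeEquiv hσ) _).2 h1 using 1
      ext y; rfl
    · convert (hB _).1 h2 using 1
      ext y; rfl
  · rintro ⟨h, h1, h2⟩
    refine ⟨hiff.2 h, ?_, ?_⟩
    · rw [← std_congr (σ.subtypeEquiv hσ)]
      convert h1 using 1
      ext y; rfl
    · rw [hB]
      convert h2 using 1
      ext y; rfl

/-- The structure of a group of largest order. -/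
theorem decomp {A : Subgroup (Perm X)} (h : IsMax A) (hn : 3 ≤ Fintype.card X)
    (h5 : Fintype.card X ≠ 5) :
    ∃ (s : Finset X) (B : Subgroup (Perm {y // y ∉ s})), s.card = ln (Fintype.card X) ∧
      IsMax B ∧ ∀ g, g ∈ A ↔ Split s B g := by
  obtain ⟨x, hx⟩ := exists_ln _ X A h rfl hn h5
  obtain ⟨e1, e2, -, -⟩ := tgt_ln hn h5
  have hbd := card_le_bd _ _ (card_compl A x) _ (comm_rest h.comm x)
  rw [hx, ← e2] at hbd
  have hbij : Function.Bijective (pairMap A x) := by
    refine pairMap_bijective h.comm x ?_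
    rw [h.card, e1, hx]
    exact Nat.mul_le_mul_left _ hbd
  have hsplit : ∀ g : Perm X, ∀ hg : g ∈ A,
      sign g = sign (g.subtypePerm (orb_inv hg (x := x))) * sign (rest A x ⟨g, hg⟩) := by
    intro g hg
    convert sign_split g (· ∈ orb A x) (orb_inv hg) fun y => not_congr (orb_inv hg y)
    rfl
  -- the restrictions are even
  have hev : ∀ b ∈ (rest A x).range, sign b = 1 := by
    intro b hb
    obtain ⟨a, ha⟩ := hbij.2 (⟨x, self_mem_orb A x⟩, ⟨b, hb⟩)
    simp only [pairMap, Prod.ext_iff, Subtype.ext_iff] at ha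
    have h1 : (a : Perm X).subtypePerm (orb_inv a.2 (x := x)) = 1 := by
      ext y
      simpa using det_on_orb h.comm a.2 A.one_mem (by simpa using ha.1) y.2
    have := hsplit a a.2
    rw [h.even _ a.2, h1, map_one, one_mul] at this
    rw [← ha.2]
    exact this.symm
  have hs34 : (orb A x).card = 3 ∨ (orb A x).card = 4 := by rw [hx, ln]; split_ifs <;> simp
  have hstd : ∀ g, ∀ hg : g ∈ A, Std (g.subtypePerm (orb_inv hg (x := x))) := by
    intro g hg
    have hsg : sign (g.subtypePerm (orb_inv hg (x := x))) = 1 := by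
      have := hsplit g hg
      rw [h.even _ hg, hev _ ⟨⟨g, hg⟩, rfl⟩, mul_one] at this
      exact this.symm
    refine ⟨hsg, fun hc => ?_⟩
    by_cases hfix : g x = x
    · have h1 : g.subtypePerm (orb_inv hg (x := x)) = 1 := by
        ext y
        simpa using det_on_orb h.comm hg A.one_mem (by simpa using hfix) y.2
      rw [h1, one_mul]
    · let v := Fintype.equivFinOfCardEq hc
      refine v.permCongr.injective ?_
      rw [v.permCongr_mul, show v.permCongr 1 = (1 : Perm (Fin 4)) from map_one v.permCongrHom]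
      refine std_regular_fin.2.2 _ ((sign_permCongr v _).trans hsg) fun z hz => hfix ?_
      rw [Equiv.permCongr_apply] at hz
      have h1 : g.subtypePerm (orb_inv hg (x := x)) (v.symm z) = v.symm z := by
        conv_rhs => rw [← hz]
        simp
      have h2 : g (v.symm z).1 = (v.symm z).1 := congrArg Subtype.val h1
      obtain ⟨a, ha, ea⟩ := mem_orb.1 (v.symm z).2
      apply a.injective
      rw [← Perm.mul_apply, ← show g * a = a * g from
        congrArg Subtype.val (h.comm.is_comm.comm ⟨g, hg⟩ ⟨a, ha⟩), Perm.mul_apply, ea, h2]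
  refine ⟨orb A x, (rest A x).range, hx, ⟨comm_rest h.comm x, hev, ?_⟩, fun g => ⟨fun hg =>
    ⟨orb_inv hg, hstd g hg, ⟨⟨g, hg⟩, rfl⟩⟩, ?_⟩⟩
  · rw [card_compl, hx]
    have hc := Nat.card_eq_of_bijective _ hbij
    rw [Nat.card_prod, h.card, e1, Nat.card_eq_fintype_card (α := {y // y ∈ orb A x}),
      Fintype.card_coe, hx] at hc
    have : 0 < ln (Fintype.card X) := by rw [ln]; split_ifs <;> omega
    exact (Nat.eq_of_mul_eq_mul_left this hc).symm
  · rintro ⟨hs, h1, h2⟩
    obtain ⟨a, ha⟩ := hbij.2 (⟨g x, (hs x).2 (self_mem_orb A x)⟩, ⟨_, h2⟩)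
    simp only [pairMap, Prod.ext_iff, Subtype.ext_iff] at ha
    suffices (a : Perm X) = g from this ▸ a.2
    ext y
    by_cases hy : y ∈ orb A x
    · have hc : Fintype.card {y // y ∈ orb A x} = 3 ∨ Fintype.card {y // y ∈ orb A x} = 4 := by
        simpa only [Fintype.card_coe] using hs34
      have := std_regular hc (hstd _ a.2) h1 (z := ⟨x, self_mem_orb A x⟩) (Subtype.ext ha.1)
      exact congrArg Subtype.val (Equiv.congr_fun this ⟨y, hy⟩)
    · exact congrArg Subtype.val (Equiv.congr_fun ha.2 ⟨y, hy⟩)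

omit [Fintype X] [DecidableEq X] in
/-- Any two groups of largest order correspond under a bijection of the points. -/
theorem exists_equiv (n : ℕ) : ∀ (X Y : Type) [Fintype X] [DecidableEq X] [Fintype Y]
    [DecidableEq Y] (A : Subgroup (Perm X)) (B : Subgroup (Perm Y)), IsMax A → IsMax B →
    Fintype.card X = n → Fintype.card Y = n → (n = 0 ∨ (3 ≤ n ∧ n ≠ 5)) →
    ∃ σ : X ≃ Y, ∀ g, g ∈ A ↔ σ.permCongr g ∈ B := by
  induction n using Nat.strong_induction_on with
  | _ n ih =>
    intro X Y _ _ _ _ A B hA hB hX hY hn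
    rcases hn with rfl | ⟨hn, h5⟩
    · have := Fintype.card_eq_zero_iff.1 hX
      have := Fintype.card_eq_zero_iff.1 hY
      refine ⟨Fintype.equivOfCardEq (hX.trans hY.symm), fun g => ?_⟩
      rw [Subsingleton.elim g 1, Subsingleton.elim (Equiv.permCongr _ 1) 1]
      exact ⟨fun _ => B.one_mem, fun _ => A.one_mem⟩
    obtain ⟨s, A', hs, hA', hAiff⟩ := decomp hA (hX ▸ hn) (hX ▸ h5)
    obtain ⟨t, B', ht, hB', hBiff⟩ := decomp hB (hY ▸ hn) (hY ▸ h5)
    rw [hX] at hs
    rw [hY] at ht
    obtain ⟨-, -, hle, hnext⟩ := tgt_ln hn h5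
    have hlpos : 0 < ln n := by rw [ln]; split_ifs <;> omega
    have hcX : Fintype.card {y // y ∉ s} = n - ln n := by
      rw [Fintype.card_subtype_compl, Fintype.card_coe, hs, hX]
    have hcY : Fintype.card {y // y ∉ t} = n - ln n := by
      rw [Fintype.card_subtype_compl, Fintype.card_coe, ht, hY]
    obtain ⟨τ, hτ⟩ := ih (n - ln n) (by omega) _ _ A' B' hA' hB' hcX hcY hnext
    let e : {y // y ∈ s} ≃ {y // y ∈ t} :=
      Fintype.equivOfCardEq (by rw [Fintype.card_coe, Fintype.card_coe, hs, ht])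
    let σ : X ≃ Y := ((Equiv.sumCompl (· ∈ s)).symm.trans (Equiv.sumCongr e τ)).trans
      (Equiv.sumCompl (· ∈ t))
    have h1 : ∀ (y : X) (h : y ∈ s), σ y = (e ⟨y, h⟩ : Y) := fun y h => by simp [σ, h]
    have h2 : ∀ (y : X) (h : y ∉ s), σ y = (τ ⟨y, h⟩ : Y) := fun y h => by simp [σ, h]
    have hσ : ∀ y, y ∈ s ↔ σ y ∈ t := by
      intro y
      by_cases hy : y ∈ s
      · simp [h1 y hy, hy]
      · rw [h2 y hy]
        exact ⟨fun h => absurd h hy, fun h => absurd h (τ ⟨y, hy⟩).2⟩
    have hτ' : (σ.subtypeEquiv fun y => not_congr (hσ y)) = τ := by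
      ext y
      exact h2 y.1 y.2
    refine ⟨σ, fun g => ?_⟩
    rw [hAiff, hBiff, split_congr σ hσ (B' := B')]
    intro b
    rw [hτ']
    exact hτ b

/-- A group of largest order is normalised by an odd permutation. -/
theorem exists_odd {A : Subgroup (Perm X)} (h : IsMax A) (hn : 3 ≤ Fintype.card X)
    (h5 : Fintype.card X ≠ 5) :
    ∃ τ : Perm X, sign τ = -1 ∧ ∀ g, g ∈ A ↔ τ.permCongr g ∈ A := by
  obtain ⟨s, B, hs, -, hiff⟩ := decomp h hn h5
  have h2 : 1 < s.card := by rw [hs, ln]; split_ifs <;> omega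
  obtain ⟨a, ha, b, hb, hab⟩ := Finset.one_lt_card.1 h2
  refine ⟨swap a b, sign_swap hab, fun g => ?_⟩
  have hσ : ∀ y, y ∈ s ↔ swap a b y ∈ s := by
    intro y
    rw [swap_apply_def]
    split_ifs with h1 h2 <;> simp_all
  rw [hiff, hiff, split_congr (swap a b) hσ (B' := B)]
  intro c
  have he : ((swap a b).subtypeEquiv fun y => not_congr (hσ y) :
      {y // y ∉ s} ≃ {y // y ∉ s}) = Equiv.refl _ := by
    ext y
    exact swap_apply_of_ne_of_ne (fun e => y.2 (e ▸ ha)) (fun e => y.2 (e ▸ hb))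
  rw [he, show (Equiv.refl {y // y ∉ s}).permCongr c = c from Equiv.ext fun _ => rfl]

end Cfsg.Agent.Fus.AbelianAltMax
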