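import Cfsg.Agent.Lib.Grp.Wielandt.Kegel
import Cfsg.Agent.Lib.Grp.Frattini
import Cfsg.Agent.Lib.Grp.Solvable
import Cfsg.Agent.S0572

/-!
The derived length of a product of an abelian subgroup and a subgroup of class at most two.
-/

set_option autoImplicit false
set_option linter.style.haveILetI false

namespace Cfsg.Agent.Fus.AbClassTwo

open Subgroup
open scoped commutatorElement

universe u

variable {G : Type u} [Group G] [Finite G]

omit [Finite G] in
theorem commutatorElement_pow_left {s t : G} (h : Commute s ⁅s, t⁆) (i : ℕ) :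
    ⁅s ^ i, t⁆ = ⁅s, t⁆ ^ i := by
  induction i with
  | zero => simp
  | succ i ih =>
    rw [pow_succ, commutatorElement_mul_left_eq_conj_mul, ih, (h.pow_left i).eq,
      mul_inv_cancel_right, pow_succ']

omit [Finite G] in
theorem commutatorElement_pow_pow {s t : G} (hs : Commute s ⁅s, t⁆) (ht : Commute t ⁅s, t⁆)
    (i j : ℕ) : ⁅s ^ i, t ^ j⁆ = ⁅s, t⁆ ^ (i * j) := by
  have h1 : ⁅s, t ^ j⁆ = ⁅s, t⁆ ^ j := by
    have h' : Commute t ⁅t, s⁆ := by rw [← commutatorElement_inv s t]; exact ht.inv_right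
    rw [← commutatorElement_inv (t ^ j) s, commutatorElement_pow_left h', ← inv_pow,
      commutatorElement_inv]
  rw [commutatorElement_pow_left (by rw [h1]; exact hs.pow_right j), h1, ← pow_mul, mul_comm]

/-- In a product of an abelian and a nilpotent subgroup, a primary element of the second factor that lies in
the first factor modulo a minimal normal subgroup of the same primary type centralizes it. -/
theorem commute_of_mem_factorizer {A B : Subgroup G} (hA : ∀ x ∈ A, ∀ y ∈ A, x * y = y * x)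
    (hB : Group.IsNilpotent B) (hfac : ∀ g : G, ∃ a ∈ A, ∃ b ∈ B, g = a * b) {V : Subgroup G} [V.Normal]
    {q : ℕ} [Fact q.Prime] (hVq : IsPGroup q V)
    (hmin : ∀ K : Subgroup G, K.Normal → K ≤ V → K = ⊥ ∨ K = V)
    {α v : G} (hα : α ∈ A) (hv : v ∈ V) (hu : α * v ∈ B) {n : ℕ} (hn : (α * v) ^ q ^ n = 1) :
    ∀ w ∈ V, Commute (α * v) w := by
  intro w hw
  by_cases hV : V = ⊥
  · rw [hV, mem_bot] at hw
    rw [hw]
    exact Commute.one_right _
  set P : Subgroup G := Grp.Wielandt.part B q with hP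
  set N : Subgroup G := normalClosure {α * v} ⊔ V with hN
  have hNle : N ≤ V ⊔ P := by
    refine sup_le (closure_le _ |>.2 ?_) le_sup_left
    intro x hx
    obtain ⟨y, hy, g, rfl⟩ : ∃ y ∈ ({α * v} : Set G), ∃ g : G, g * y * g⁻¹ = x := by
      obtain ⟨y, hy, hc⟩ := Group.mem_conjugatesOfSet_iff.1 hx
      obtain ⟨g, hg⟩ := _root_.isConj_iff.1 hc
      exact ⟨y, hy, g, hg⟩
    rw [Set.mem_singleton_iff] at hy
    subst hy
    obtain ⟨a, ha, b, hb, hab⟩ := hfac g⁻¹
    have hg : g = b⁻¹ * a⁻¹ := by rw [← mul_inv_rev, ← hab, inv_inv]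
    have hP' : b⁻¹ * (α * v) * b ∈ P := by
      refine Grp.Wielandt.mem_part hB (B.mul_mem (B.mul_mem (B.inv_mem hb) hu) hb) (n := n) ?_
      rw [show b⁻¹ * (α * v) * b = b⁻¹ * (α * v) * b⁻¹⁻¹ by rw [inv_inv], conj_pow, hn, mul_one,
        inv_inv, inv_mul_cancel]
    have hc : g * (α * v) * g⁻¹ = b⁻¹ * (α * v) * b * (b⁻¹ * (v⁻¹ * (a⁻¹ * v * a)) * b) := by
      have : a⁻¹ * α = α * a⁻¹ := hA _ (A.inv_mem ha) _ hα
      calc g * (α * v) * g⁻¹ = b⁻¹ * ((a⁻¹ * α) * v * a) * b := by rw [hg]; group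
        _ = b⁻¹ * (α * a⁻¹ * v * a) * b := by rw [this]
        _ = _ := by group
    rw [SetLike.mem_coe, hc]
    refine mul_mem (mem_sup_right hP') (mem_sup_left ?_)
    have h1 : v⁻¹ * (a⁻¹ * v * a) ∈ V := V.mul_mem (V.inv_mem hv) (by
      simpa using (inferInstance : V.Normal).conj_mem v hv a⁻¹)
    simpa using (inferInstance : V.Normal).conj_mem _ h1 b⁻¹
  have hPq : IsPGroup q P := (Grp.pCore_isPGroup (p := q) (G := B)).map _
  have hNq : IsPGroup q N := (IsPGroup.to_sup_of_normal_left hVq hPq).to_le hNle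
  haveI : Group.IsNilpotent N := hNq.isNilpotent
  haveI hNn : N.Normal := by rw [hN]; infer_instance
  have hVN : V ≤ N := le_sup_right
  have hne : V.subgroupOf N ≠ ⊥ := fun h => hV (by
    have := congrArg (Subgroup.map N.subtype) h
    rwa [subgroupOf_map_subtype, Subgroup.map_bot, inf_eq_left.2 hVN] at this)
  have hW : V ⊓ centralizer (N : Set G) = V := by
    refine (hmin _ inferInstance inf_le_left).resolve_left fun h => ?_
    refine Grp.inf_center_ne_bot (V.subgroupOf N) hne (eq_bot_iff.2 fun y hy => ?_)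
    have : (y : G) ∈ V ⊓ centralizer (N : Set G) :=
      ⟨hy.1, mem_centralizer_iff.2 fun z hz => congrArg Subtype.val (mem_center_iff.1 hy.2 ⟨z, hz⟩)⟩
    rw [h, mem_bot] at this
    exact mem_bot.2 (Subtype.ext this)
  rw [inf_eq_left] at hW
  exact mem_centralizer_iff.1 (hW hw) (α * v) (mem_sup_left (subset_normalClosure rfl))

omit [Finite G] in
/-- The second derived subgroup of a factorised subgroup with abelian parts vanishes. -/
theorem derived_two_of_fac {A N U : Subgroup G} (hA : ∀ x ∈ A, ∀ y ∈ A, x * y = y * x)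
    (hU : ∀ x ∈ U, ∀ y ∈ U, x * y = y * x) (hUN : U ≤ N)
    (hfac : ∀ g ∈ N, ∃ a ∈ A ⊓ N, ∃ b ∈ U, g = a * b) : ⁅⁅N, N⁆, ⁅N, N⁆⁆ = ⊥ := by
  haveI : IsMulCommutative ↥(A.subgroupOf N) :=
    ⟨⟨fun x y => Subtype.ext (Subtype.ext (hA _ x.2 _ y.2))⟩⟩
  haveI : IsMulCommutative ↥(U.subgroupOf N) :=
    ⟨⟨fun x y => Subtype.ext (Subtype.ext (hU _ x.2 _ y.2))⟩⟩
  have h := Cfsg.Agent.S0572.result (A.subgroupOf N) (U.subgroupOf N) fun g => by
    obtain ⟨a, ha, b, hb, e⟩ := hfac g g.2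
    exact ⟨⟨a, ha.2⟩, ha.1, ⟨b, hUN hb⟩, hb, Subtype.ext e⟩
  have h' := congrArg (Subgroup.map N.subtype) h
  rwa [derivedSeries_succ, derivedSeries_succ, derivedSeries_zero, map_commutator, map_commutator,
    ← MonoidHom.range_eq_map, range_subtype, Subgroup.map_bot] at h'

theorem main_aux : ∀ (n : ℕ) (G : Type u) [Group G] [Finite G], Nat.card G = n →
    ∀ A B : Subgroup G, (∀ x ∈ A, ∀ y ∈ A, x * y = y * x) →
      (∀ d ∈ ⁅B, B⁆, ∀ b ∈ B, d * b = b * d) → Group.IsNilpotent B →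
      (∀ g : G, ∃ a ∈ A, ∃ b ∈ B, g = a * b) →
      derivedSeries G (2 * (1 + (Nat.card ↥⁅B, B⁆).primeFactorsList.length)) = ⊥ := by
  intro n
  induction n using Nat.strong_induction_on with
  | _ n ih =>
  intro G _ _ hcard A B hA hcl hB hfac
  haveI : Group.IsSolvable G := Grp.Wielandt.kegel (A := A) (B := B) (by
    letI : CommGroup A := { (inferInstance : Group A) with
      mul_comm := fun x y => Subtype.ext (hA _ x.2 _ y.2) }
    exact CommGroup.isNilpotent) hB hfac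
  by_cases hD : ⁅B, B⁆ = ⊥
  · haveI : IsMulCommutative A := ⟨⟨fun x y => Subtype.ext (hA _ x.2 _ y.2)⟩⟩
    haveI : IsMulCommutative B := Subgroup.commutator_self_eq_bot_iff.mp hD
    exact le_bot_iff.1 ((derivedSeries_antitone G (by omega)).trans (Cfsg.Agent.S0572.result A B hfac).le)
  set D : Subgroup G := ⁅B, B⁆ with hDdef
  have hDB : D ≤ B := commutator_le_self B
  -- a maximal normal subgroup avoiding `D`
  obtain ⟨L, hL⟩ := (Set.toFinite {K : Subgroup G | K.Normal ∧ K ⊓ D = ⊥}).exists_maximal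
    ⟨⊥, inferInstance, bot_inf_eq _⟩
  obtain ⟨hLn, hLD⟩ := hL.1
  haveI := hLn
  set π := QuotientGroup.mk' L with hπ
  have hπs : Function.Surjective π := QuotientGroup.mk'_surjective L
  have htop : (⊤ : Subgroup (G ⧸ L)) ≠ ⊥ := fun h => hD (by
    have h' : L = ⊤ := by
      rw [← QuotientGroup.ker_mk' L, ← MonoidHom.comap_bot, ← h, comap_top]
    rwa [h', top_inf_eq] at hLD)
  obtain ⟨V, hVn, hVne, -, hVmin⟩ := Grp.exists_minimal_normal_le (G := G ⧸ L) (N := ⊤) htop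
  haveI := hVn
  haveI : Group.IsSolvable (G ⧸ L) := Group.isSolvable_of_surjective hπs
  obtain ⟨hVab, q, hq, hVq⟩ := Grp.minimal_normal_solvable (N := V) inferInstance hVne hVmin
  haveI := Fact.mk hq
  have hVc : ∀ x ∈ V, ∀ y ∈ V, Commute x y := fun x hx y hy =>
    congrArg Subtype.val (mul_comm' (⟨x, hx⟩ : V) ⟨y, hy⟩)
  set M := V.comap π with hMdef
  haveI hMn : M.Normal := Normal.comap hVn π
  have hLM : L ≤ M := fun x hx => by
    rw [hMdef, mem_comap, hπ, QuotientGroup.mk'_apply, (QuotientGroup.eq_one_iff x).2 hx]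
    exact V.one_mem
  obtain ⟨x, hxMD, hx1⟩ : ∃ x ∈ M ⊓ D, x ≠ 1 := by
    by_contra! h
    have hle := hL.2 (y := M) ⟨hMn, eq_bot_iff.2 fun x hx => mem_bot.2 (h x hx)⟩ hLM
    refine hVne ?_
    rw [← map_comap_eq_self_of_surjective hπs V]
    exact (Subgroup.map_eq_bot_iff _).2 ((QuotientGroup.ker_mk' L).symm ▸ hle)
  set S : Subgroup G := B ⊓ (A ⊔ M) with hS
  -- the factor of the factorizer is abelian
  have hSc : ∀ s ∈ S, ∀ t ∈ S, s * t = t * s := by
    intro s hs t ht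
    have hcD : ⁅s, t⁆ ∈ D := commutator_mem_commutator hs.1 ht.1
    have dec : ∀ r ∈ S, ∃ α ∈ A, ∃ m ∈ M, α * m = r := fun r hr => mem_sup_of_normal_right.1 hr.2
    have hcM : ⁅s, t⁆ ∈ M := by
      obtain ⟨α, hα, m, hm, rfl⟩ := dec s hs
      obtain ⟨β, hβ, m', hm', rfl⟩ := dec t ht
      rw [← QuotientGroup.eq_one_iff (N := M), ← QuotientGroup.mk'_apply, map_commutatorElement]
      simp only [map_mul, QuotientGroup.mk'_apply, (QuotientGroup.eq_one_iff m).2 hm,
        (QuotientGroup.eq_one_iff m').2 hm', mul_one]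
      rw [← QuotientGroup.mk'_apply, ← QuotientGroup.mk'_apply, ← map_commutatorElement,
        commutatorElement_eq_one_iff_mul_comm.2 (hA α hα β hβ), map_one]
    have hLc : ∀ y ∈ D, π y = 1 → y = 1 := fun y hy h => by
      have : y ∈ L ⊓ D := ⟨(QuotientGroup.eq_one_iff y).1 h, hy⟩
      rwa [hLD, mem_bot] at this
    have hcq : ⁅s, t⁆ ^ q = 1 := hLc _ (D.pow_mem hcD q) (by rw [map_pow]; exact hVq _ hcM)
    obtain ⟨e₁, i, hi, he₁⟩ := Nat.exists_eq_pow_mul_and_not_dvd (orderOf_pos s).ne' q hq.ne_one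
    obtain ⟨e₂, j, hj, he₂⟩ := Nat.exists_eq_pow_mul_and_not_dvd (orderOf_pos t).ne' q hq.ne_one
    have hfac' : ∀ g : G ⧸ L, ∃ a ∈ A.map π, ∃ b ∈ B.map π, g = a * b := fun g => by
      obtain ⟨g, rfl⟩ := hπs g
      obtain ⟨a, ha, b, hb, rfl⟩ := hfac g
      exact ⟨_, mem_map_of_mem _ ha, _, mem_map_of_mem _ hb, map_mul _ _ _⟩
    have hA' : ∀ x ∈ A.map π, ∀ y ∈ A.map π, x * y = y * x := by
      rintro _ ⟨x, hx, rfl⟩ _ ⟨y, hy, rfl⟩
      rw [← map_mul, ← map_mul, hA x hx y hy]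
    have hB' : Group.IsNilpotent ↥(B.map π) :=
      haveI := hB
      Group.nilpotent_of_surjective _ (π.subgroupMap_surjective B)
    have triv : ∀ r ∈ S, ∀ k e : ℕ, (r ^ k) ^ q ^ e = 1 →
        ∃ α ∈ A, ∃ w ∈ V, π (r ^ k) = π α * w ∧ ∀ z ∈ V, Commute (π α) z := by
      intro r hr k e he
      obtain ⟨α, hα, m, hm, hr'⟩ := dec _ (S.pow_mem hr k)
      have key := commute_of_mem_factorizer hA' hB' hfac' (V := V) (fun z => ⟨1, by
        rw [pow_one]; exact Subtype.ext (hVq _ z.2)⟩) hVmin (mem_map_of_mem π hα) (show π m ∈ V from hm)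
        (by rw [← map_mul, hr']; exact mem_map_of_mem π (S.pow_mem hr k).1) (n := e)
        (by rw [← map_mul, hr', ← map_pow, he, map_one])
      refine ⟨α, hα, π m, hm, by rw [← hr', map_mul], fun z hz => ?_⟩
      have := (key z hz).mul_left (hVc _ (V.inv_mem hm) z hz)
      rwa [mul_inv_cancel_right] at this
    obtain ⟨α, hα, w, hw, h1, hαc⟩ := triv s hs i e₁
      (by rw [← pow_mul, mul_comm, ← he₁, pow_orderOf_eq_one])
    obtain ⟨β, hβ, w', hw', h2, hβc⟩ := triv t ht j e₂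
      (by rw [← pow_mul, mul_comm, ← he₂, pow_orderOf_eq_one])
    have hcomm : Commute (π (s ^ i)) (π (t ^ j)) := by
      rw [h1, h2]
      have hab : Commute (π α) (π β) := (show Commute α β from hA α hα β hβ).map π
      exact Commute.mul_left (hab.mul_right (hαc w' hw'))
        (Commute.mul_right (hβc w hw).symm (hVc w hw w' hw'))
    have hsc : Commute s ⁅s, t⁆ := (hcl _ hcD s hs.1).symm
    have htc : Commute t ⁅s, t⁆ := (hcl _ hcD t ht.1).symm
    have hone : ⁅s, t⁆ ^ (i * j) = 1 := hLc _ (D.pow_mem hcD _) (by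
      rw [← commutatorElement_pow_pow hsc htc, map_commutatorElement]
      exact commutatorElement_eq_one_iff_mul_comm.2 hcomm.eq)
    have hco : q.Coprime (i * j) :=
      Nat.Coprime.mul_right (hq.coprime_iff_not_dvd.2 hi) (hq.coprime_iff_not_dvd.2 hj)
    exact commutatorElement_eq_one_iff_mul_comm.1 (orderOf_eq_one_iff.1
      (Nat.eq_one_of_dvd_coprimes hco (orderOf_dvd_of_pow_eq_one hcq) (orderOf_dvd_of_pow_eq_one hone)))
  -- close the factor under conjugation by `B`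
  set T : Set G := {y | ∃ b ∈ B, ∃ s ∈ S, b * s * b⁻¹ = y} with hT
  set U : Subgroup G := closure T with hU
  have hUB : U ≤ B := (closure_le _).2 (by
    rintro _ ⟨b, hb, s, hs, rfl⟩
    exact B.mul_mem (B.mul_mem hb hs.1) (B.inv_mem hb))
  have hSU : S ≤ U := fun s hs => subset_closure ⟨1, B.one_mem, s, hs, by group⟩
  have hUc : ∀ y ∈ U, ∀ z ∈ U, y * z = z * y := by
    have hgen : ∀ y ∈ T, ∀ z ∈ T, Commute y z := by
      rintro _ ⟨b, hb, s, hs, rfl⟩ _ ⟨b', hb', s', hs', rfl⟩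
      have h1 : b * s * b⁻¹ = ⁅b, s⁆ * s := by rw [commutatorElement_def, inv_mul_cancel_right]
      have h2 : b' * s' * b'⁻¹ = ⁅b', s'⁆ * s' := by rw [commutatorElement_def, inv_mul_cancel_right]
      rw [h1, h2]
      have c1 : ∀ y ∈ B, Commute ⁅b, s⁆ y := hcl _ (commutator_mem_commutator hb hs.1)
      have c2 : ∀ y ∈ B, Commute ⁅b', s'⁆ y := hcl _ (commutator_mem_commutator hb' hs'.1)
      refine Commute.mul_left (c1 _ ?_) ((c2 s hs.1).symm.mul_right (hSc s hs s' hs'))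
      exact B.mul_mem (hDB (commutator_mem_commutator hb' hs'.1)) hs'.1
    have h1 : ∀ y ∈ T, U ≤ centralizer {y} := fun y hy => (closure_le _).2 fun z hz =>
      mem_centralizer_singleton_iff.2 (hgen z hz y hy).eq
    intro y hy z hz
    have h2 : U ≤ centralizer {z} := (closure_le _).2 fun w hw =>
      mem_centralizer_singleton_iff.2 (mem_centralizer_singleton_iff.1 (h1 w hw hz)).symm
    exact mem_centralizer_singleton_iff.1 (h2 hy)
  set N : Subgroup G := M ⊔ U with hN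
  have hUn : ∀ g : G, ∀ y ∈ T, g * y * g⁻¹ ∈ N := by
    rintro g _ ⟨b, hb, s, hs, rfl⟩
    obtain ⟨a, ha, b', hb', e⟩ := hfac (g * b)⁻¹
    have hgb : g * b = b'⁻¹ * a⁻¹ := by rw [← mul_inv_rev, ← e, inv_inv]
    obtain ⟨α, hα, m, hm, hsm⟩ := mem_sup_of_normal_right.1 hs.2
    have hc : g * (b * s * b⁻¹) * g⁻¹ =
        b'⁻¹ * s * b'⁻¹⁻¹ * (b' ⁻¹ * (m⁻¹ * (a⁻¹ * m * a)) * b') := by
      calc g * (b * s * b⁻¹) * g⁻¹ = (g * b) * s * (g * b)⁻¹ := by group
        _ = b'⁻¹ * ((a⁻¹ * α) * m * a) * b' := by rw [hgb, ← hsm]; group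
        _ = b'⁻¹ * ((α * a⁻¹) * m * a) * b' := by rw [hA _ (A.inv_mem ha) α hα]
        _ = _ := by rw [← hsm]; group
    rw [hc]
    refine N.mul_mem (mem_sup_right (subset_closure ⟨b'⁻¹, B.inv_mem hb', s, hs, rfl⟩)) (mem_sup_left ?_)
    have h1 : m⁻¹ * (a⁻¹ * m * a) ∈ M :=
      M.mul_mem (M.inv_mem hm) (by simpa using hMn.conj_mem m hm a⁻¹)
    simpa using hMn.conj_mem _ h1 b'⁻¹
  haveI hNn : N.Normal := by
    refine ⟨fun y hy g => ?_⟩
    have hle : N ≤ N.comap (MulAut.conj g).toMonoidHom := sup_le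
      (fun z hz => mem_sup_left (hMn.conj_mem z hz g)) ((closure_le _).2 fun z hz => hUn g z hz)
    exact hle hy
  have hUN : U ≤ N := le_sup_right
  have hNfac : ∀ g ∈ N, ∃ a ∈ A ⊓ N, ∃ b ∈ U, g = a * b := by
    intro g hg
    obtain ⟨m, hm, u, hu, rfl⟩ := mem_sup_of_normal_left.1 hg
    obtain ⟨a, ha, b, hb, rfl⟩ := hfac m
    have hbS : b ∈ S := ⟨hb, by
      have : a⁻¹ * (a * b) ∈ A ⊔ M := mul_mem (mem_sup_left (A.inv_mem ha)) (mem_sup_right hm)
      rwa [inv_mul_cancel_left] at this⟩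
    refine ⟨a, ⟨ha, ?_⟩, b * u, U.mul_mem (hSU hbS) hu, mul_assoc _ _ _⟩
    have : a * b * b⁻¹ ∈ N := N.mul_mem (mem_sup_left hm) (hUN (U.inv_mem (hSU hbS)))
    rwa [mul_inv_cancel_right] at this
  have hN2 := derived_two_of_fac hA hUc hUN hNfac
  have hxN : x ∈ N := mem_sup_left hxMD.1
  have hNne : N ≠ ⊥ := fun h => hx1 (by rw [h, mem_bot] at hxN; exact hxN)
  -- the quotient by `N`
  set ψ := QuotientGroup.mk' N with hψ
  have hψs : Function.Surjective ψ := QuotientGroup.mk'_surjective N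
  have hmap : ⁅B.map ψ, B.map ψ⁆ = D.map ψ := (map_commutator B B ψ).symm
  have hq' := ih _ (hcard ▸ Grp.card_quotient_lt hNne) (G ⧸ N) rfl (A.map ψ) (B.map ψ)
    (by rintro _ ⟨y, hy, rfl⟩ _ ⟨z, hz, rfl⟩; rw [← map_mul, ← map_mul, hA y hy z hz])
    (by
      rw [hmap]
      rintro _ ⟨y, hy, rfl⟩ _ ⟨z, hz, rfl⟩
      rw [← map_mul, ← map_mul, hcl y hy z hz])
    (haveI := hB; Group.nilpotent_of_surjective _ (ψ.subgroupMap_surjective B))
    (fun g => by
      obtain ⟨g, rfl⟩ := hψs g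
      obtain ⟨a, ha, b, hb, rfl⟩ := hfac g
      exact ⟨_, mem_map_of_mem _ ha, _, mem_map_of_mem _ hb, map_mul _ _ _⟩)
  rw [hmap] at hq'
  set k := (Nat.card ↥(D.map ψ)).primeFactorsList.length with hk
  have hlt : k + 1 ≤ (Nat.card ↥D).primeFactorsList.length := by
    have hr : (ψ.comp D.subtype).range = D.map ψ := by rw [MonoidHom.range_comp, range_subtype]
    have hc : Nat.card ↥D = Nat.card (ψ.comp D.subtype).ker * Nat.card ↥(D.map ψ) := by
      rw [← hr, ← index_ker, card_mul_index]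
    have h1 : 1 < Nat.card (ψ.comp D.subtype).ker := by
      refine (one_lt_card_iff_ne_bot _).2 fun h => hx1 ?_
      have : (⟨x, hxMD.2⟩ : D) ∈ (ψ.comp D.subtype).ker := (QuotientGroup.eq_one_iff x).2 hxN
      rw [h, mem_bot] at this
      exact congrArg Subtype.val this
    rw [hc, (Nat.perm_primeFactorsList_mul (by omega) Nat.card_pos.ne').length_eq, List.length_append, ← hk]
    have := List.length_pos_iff.2 (Nat.primeFactorsList_ne_nil _ |>.2 h1)
    omega
  have hle : derivedSeries G (2 * (1 + k)) ≤ N := by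
    rw [← QuotientGroup.ker_mk' N, ← Subgroup.map_eq_bot_iff]
    exact le_bot_iff.1 ((map_derivedSeries_le_derivedSeries ψ _).trans hq'.le)
  refine le_bot_iff.1 ((derivedSeries_antitone G
    (show 2 * (1 + k) + 1 + 1 ≤ 2 * (1 + (Nat.card ↥D).primeFactorsList.length) by omega)).trans ?_)
  rw [derivedSeries_succ, derivedSeries_succ, ← hN2]
  exact commutator_mono (commutator_mono hle hle) (commutator_mono hle hle)

/-- A product of an abelian subgroup and one of class at most two. -/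
theorem main (A B : Subgroup G) (hA : ∀ x ∈ A, ∀ y ∈ A, x * y = y * x)
    (hB : commutator ↥B ≤ center ↥B) (hfac : ∀ g : G, ∃ a ∈ A, ∃ b ∈ B, g = a * b) :
    derivedSeries G (2 * (1 + (Nat.card ↥(commutator ↥B)).primeFactorsList.length)) = ⊥ := by
  have hmap : (commutator ↥B).map B.subtype = ⁅B, B⁆ := map_subtype_commutator B
  rw [show Nat.card ↥(commutator ↥B) = Nat.card ↥⁅B, B⁆ by
    rw [← hmap, card_map_of_injective B.subtype_injective]]
  refine main_aux _ G rfl A B hA ?_ (Grp.isNilpotent_of_commutator_le_center hB) hfac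
  rw [← hmap]
  rintro _ ⟨d, hd, rfl⟩ b hb
  exact (congrArg Subtype.val (mem_center_iff.1 (hB hd) ⟨b, hb⟩)).symm

end Cfsg.Agent.Fus.AbClassTwo
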