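import Cfsg.Agent.Lib.Fus.CenterIndexSqBasic

/-!
Core-free saturated systems over a group with a unique abelian subgroup `A` of index `p`, odd `p`,
in which `A` is not essential.
-/

set_option autoImplicit false
set_option linter.style.haveILetI false
set_option linter.unusedSectionVars false

open scoped Classical commutatorElement Pointwise

namespace Cfsg.Agent.Fus

open Subgroup FusionSystem

universe u

variable {Ω : Type u} [Group Ω] {S A : Subgroup Ω} {F : FusionSystem S} {p : ℕ}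

/-- What is used of the pair `A ≤ S`. -/
structure AIFrame (S A : Subgroup Ω) (p : ℕ) : Prop where
  le : A ≤ S
  comm : ∀ a ∈ A, ∀ b ∈ A, a * b = b * a
  normal : ∀ g ∈ S, ∀ a ∈ A, g * a * g⁻¹ ∈ A
  powA : ∀ g ∈ S, g ^ p ∈ A
  zle : zS S ≤ A
  gen : ∀ x ∈ S, x ∉ A → ∀ t ∈ S, ∃ i : ℕ, t * (x ^ i)⁻¹ ∈ A
  cent : ∀ x ∈ S, x ∉ A → ∀ a ∈ A, a * x = x * a → a ∈ zS S

theorem aiFrame_of_index [Finite S] [hp : Fact p.Prime] (hS : IsPGroup p S)
    (hna : ¬ ∀ a ∈ S, ∀ b ∈ S, a * b = b * a) (hAS : A ≤ S)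
    (hcomm : ∀ a ∈ A, ∀ b ∈ A, a * b = b * a) (hidx : (A.subgroupOf S).index = p) :
    AIFrame S A p := by
  haveI hN : (A.subgroupOf S).Normal := by
    refine Subgroup.normal_of_index_eq_minFac_card ?_
    obtain ⟨n, hn⟩ := IsPGroup.iff_card.1 hS
    have hn0 : n ≠ 0 := fun e => hp.out.one_lt.ne' (Nat.eq_one_of_dvd_one (by
      have := (A.subgroupOf S).index_dvd_card
      rwa [hidx, hn, e, pow_zero] at this))
    rw [hidx, hn, Nat.pow_minFac hn0, hp.out.minFac_eq]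
  have hgen : ∀ x ∈ S, x ∉ A → ∀ t ∈ S, ∃ i : ℕ, t * (x ^ i)⁻¹ ∈ A := by
    intro x hx hxA t ht
    have hcard : Nat.card (↥S ⧸ A.subgroupOf S) = p := hidx
    have hx1 : (QuotientGroup.mk (⟨x, hx⟩ : S) : ↥S ⧸ A.subgroupOf S) ≠ 1 := fun e =>
      hxA (Subgroup.mem_subgroupOf.1 ((QuotientGroup.eq_one_iff (⟨x, hx⟩ : S)).1 e))
    obtain ⟨i, hi⟩ := (Submonoid.mem_powers_iff _ _).1 (mem_powers_of_prime_card
      (g' := (QuotientGroup.mk (⟨t, ht⟩ : S) : ↥S ⧸ A.subgroupOf S)) hcard hx1)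
    refine ⟨i, ?_⟩
    have h1 : (QuotientGroup.mk ((⟨t, ht⟩ : S) * ((⟨x, hx⟩ : S) ^ i)⁻¹) : ↥S ⧸ A.subgroupOf S) = 1 := by
      rw [QuotientGroup.mk_mul, QuotientGroup.mk_inv, QuotientGroup.mk_pow, hi, mul_inv_cancel]
    simpa [Subgroup.mem_subgroupOf] using (QuotientGroup.eq_one_iff _).1 h1
  have hcent : ∀ x ∈ S, x ∉ A → ∀ a ∈ A, a * x = x * a → a ∈ zS S := by
    intro x hx hxA a ha e
    refine mem_zS.2 ⟨hAS ha, fun t ht => ?_⟩
    obtain ⟨i, hi⟩ := hgen x hx hxA t ht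
    have h1 : Commute a (t * (x ^ i)⁻¹) := hcomm a ha _ hi
    have h2 := h1.mul_right ((show Commute a x from e).pow_right i)
    rw [inv_mul_cancel_right] at h2
    exact h2.eq.symm
  refine ⟨hAS, hcomm, fun g hg a ha => ?_, fun g hg => ?_, fun c hc => ?_, hgen, hcent⟩
  · simpa [Subgroup.mem_subgroupOf] using hN.conj_mem ⟨a, hAS ha⟩ ha ⟨g, hg⟩
  · have h := Subgroup.pow_index_mem (A.subgroupOf S) (⟨g, hg⟩ : S)
    rw [hidx] at h
    simpa [Subgroup.mem_subgroupOf] using h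
  · by_contra hcA
    refine hna fun a ha b hb => ?_
    have key : ∀ t ∈ S, ∀ u ∈ A, t * u = u * t := by
      intro t ht u hu
      obtain ⟨i, hi⟩ := hgen c hc.1 hcA t ht
      have h1 : Commute u (t * (c ^ i)⁻¹) := hcomm u hu _ hi
      have h2 := h1.mul_right ((show Commute u c from (mem_zS.1 hc).2 u (hAS hu)).pow_right i)
      rw [inv_mul_cancel_right] at h2
      exact h2.eq.symm
    obtain ⟨i, hi⟩ := hgen c hc.1 hcA b hb
    have h1 : Commute a (b * (c ^ i)⁻¹) := key a ha _ hi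
    have h2 := h1.mul_right ((show Commute a c from (mem_zS.1 hc).2 a ha).pow_right i)
    rw [inv_mul_cancel_right] at h2
    exact h2.eq

namespace AIFrame

variable (hA : AIFrame S A p)
include hA

theorem comm_elt_mem {x : Ω} (hx : x ∈ S) {a : Ω} (ha : a ∈ A) : ⁅a, x⁆ ∈ A := by
  rw [commutatorElement_def, show a * x * a⁻¹ * x⁻¹ = a * (x * a⁻¹ * x⁻¹) by group]
  exact A.mul_mem ha (hA.normal x hx _ (A.inv_mem ha))

theorem comm_elt_mul {x : Ω} (hx : x ∈ S) {a b : Ω} (ha : a ∈ A) (hb : b ∈ A) :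
    ⁅a * b, x⁆ = ⁅a, x⁆ * ⁅b, x⁆ := by
  calc ⁅a * b, x⁆ = a * ⁅b, x⁆ * a⁻¹ * ⁅a, x⁆ := by
        simp only [commutatorElement_def]; group
    _ = ⁅b, x⁆ * ⁅a, x⁆ := by
        rw [hA.comm a ha _ (hA.comm_elt_mem hx hb), mul_inv_cancel_right]
    _ = ⁅a, x⁆ * ⁅b, x⁆ := hA.comm _ (hA.comm_elt_mem hx hb) _ (hA.comm_elt_mem hx ha)

/-- A central commutator with `y` is transported to the powers of `y` times elements of `A`. -/
theorem comm_elt_pow {y : Ω} (hy : y ∈ S) {a : Ω} (ha : a ∈ A) (hc : ⁅a, y⁆ ∈ zS S) {t : Ω}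
    (ht : t ∈ A) (i : ℕ) : ⁅a, t * y ^ i⁆ = ⁅a, y⁆ ^ i := by
  set c := ⁅a, y⁆ with hcd
  have hcy : Commute c y := ((mem_zS.1 hc).2 y hy).symm
  have hconj : a * y * a⁻¹ = c * y := by
    rw [hcd, commutatorElement_def, inv_mul_cancel_right]
  have hci : c ^ i ∈ A := A.pow_mem (hA.zle hc) i
  calc ⁅a, t * y ^ i⁆ = (a * t) * y ^ i * a⁻¹ * (y ^ i)⁻¹ * t⁻¹ := by
        rw [commutatorElement_def]; group
    _ = (t * a) * y ^ i * a⁻¹ * (y ^ i)⁻¹ * t⁻¹ := by rw [hA.comm a ha t ht]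
    _ = t * ((a * y * a⁻¹) ^ i * (y ^ i)⁻¹) * t⁻¹ := by rw [conj_pow]; group
    _ = c ^ i := by
        rw [hconj, hcy.mul_pow, mul_inv_cancel_right, hA.comm t ht _ hci, mul_inv_cancel_right]

/-- Centrality of the commutator does not depend on the element outside `A`. -/
theorem comm_elt_change {x y : Ω} (hx : x ∈ S) (hy : y ∈ S) (hyA : y ∉ A) {a : Ω} (ha : a ∈ A)
    (hc : ⁅a, y⁆ ∈ zS S) : ⁅a, x⁆ ∈ zS S ∧ ⁅a, x⁆ ∈ Subgroup.zpowers ⁅a, y⁆ := by
  obtain ⟨i, hi⟩ := hA.gen y hy hyA x hx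
  rw [← inv_mul_cancel_right x (y ^ i), hA.comm_elt_pow hy ha hc hi i]
  exact ⟨(zS S).pow_mem hc i, Subgroup.pow_mem _ (Subgroup.mem_zpowers _) i⟩

end AIFrame

/-- The stabilizer in `G` of the series `1 ≤ U ≤ P`. -/
def seriesStab {P : Type*} [Group P] (G : Subgroup (MulAut P)) (U : Subgroup P) :
    Subgroup (MulAut P) where
  carrier := {g | g ∈ G ∧ (∀ u ∈ U, g u = u) ∧ ∀ y : P, y⁻¹ * g y ∈ U}
  one_mem' := ⟨G.one_mem, fun u _ => rfl, fun y => by simp⟩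
  mul_mem' := fun {g h} hg hh => ⟨G.mul_mem hg.1 hh.1,
    fun u hu => by rw [MulAut.mul_apply, hh.2.1 u hu, hg.2.1 u hu], fun y => by
      have := U.mul_mem (hh.2.2 y) (hg.2.2 (h y))
      rwa [mul_assoc, mul_inv_cancel_left] at this⟩
  inv_mem' := fun {g} hg => ⟨G.inv_mem hg.1, fun u hu => by
    conv_lhs => rw [← hg.2.1 u hu, MulAut.inv_apply_self], fun y => by
    have := U.inv_mem (hg.2.2 (g⁻¹ y))
    rwa [MulAut.apply_inv_self, mul_inv_rev, inv_inv] at this⟩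

theorem mem_seriesStab {P : Type*} [Group P] {G : Subgroup (MulAut P)} {U : Subgroup P}
    {g : MulAut P} :
    g ∈ seriesStab G U ↔ g ∈ G ∧ (∀ u ∈ U, g u = u) ∧ ∀ y : P, y⁻¹ * g y ∈ U :=
  Iff.rfl

theorem isPGroup_seriesStab {P : Type*} [Group P] [Finite P] [Fact p.Prime]
    (hP : IsPGroup p P) (G : Subgroup (MulAut P)) (U : Subgroup P) :
    IsPGroup p (seriesStab G U) := by
  obtain ⟨n, hn⟩ := IsPGroup.iff_card.1 hP
  refine fun g => ⟨n, Subtype.ext (MulEquiv.ext fun y => ?_)⟩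
  obtain ⟨-, h1, h2⟩ := g.2
  have key : ∀ m : ℕ, ((g : MulAut P) ^ m) y = y * (y⁻¹ * (g : MulAut P) y) ^ m := by
    intro m
    induction m with
    | zero => simp
    | succ m ih =>
      rw [pow_succ', MulAut.mul_apply, ih, map_mul, map_pow, h1 _ (h2 y), pow_succ', ← mul_assoc,
        mul_inv_cancel_left]
  rw [SubmonoidClass.coe_pow, key, ← hn, pow_card_eq_one', mul_one]
  rfl

variable [Finite S] [hp : Fact p.Prime]

omit hp in
theorem autFun_center_mem {γ : MulAut S} {c : Ω} (hc : c ∈ zS S) : autFun γ c ∈ zS S := by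
  refine mem_zS.2 ⟨autFun_mem γ hc.1, fun t ht => ?_⟩
  obtain ⟨u, hu⟩ := γ.surjective ⟨t, ht⟩
  have hm : (⟨c, hc.1⟩ : S) ∈ Subgroup.center S := by
    rw [← zS_subgroupOf, Subgroup.mem_subgroupOf]; exact hc
  have := congrArg (fun v : S => ((γ v : S) : Ω)) (Subgroup.mem_center_iff.1 hm u)
  simpa [map_mul, hu, ← autFun_coe] using this

/-- An automorphism of `S` moving a central element by a fixed element of order `p` fixes it. -/
theorem center_fix (hS : IsPGroup p S) (hF : F.IsSaturated p) {δ : MulAut S}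
    (hδ : δ ∈ F.autGroup S) {z : Ω} (hzS : z ∈ zS S) (hzp : z ^ p = 1) (hz : autFun δ z = z)
    {y : Ω} (hy : y ∈ zS S) {i : ℕ} (hi : autFun δ y = y * z ^ i) : autFun δ y = y := by
  obtain ⟨-, R, hR⟩ := fullyAutomized_of_fullyNormalized hS hF (fullyNormalized_self F)
  haveI : ((autInducedBy S S).subgroupOf (F.autGroup S)).Normal := by
    rw [← inn_eq_autInducedBy]
    exact inn_subgroupOf_normal F S
  set I := (autInducedBy S S).subgroupOf (F.autGroup S) with hI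
  have hm : ¬ p ∣ I.index := by
    rw [← hR]
    exact R.not_dvd_index
  have hmem : (⟨δ, hδ⟩ : F.autGroup S) ^ I.index ∈ I := Subgroup.pow_index_mem _ _
  rw [Subgroup.mem_subgroupOf] at hmem
  obtain ⟨g, hg, hge⟩ := mem_autInducedBy.1 hmem
  have hpow : ∀ n : ℕ, ((δ ^ n) ⟨y, hy.1⟩ : Ω) = y * (z ^ i) ^ n := by
    intro n
    induction n with
    | zero => simp
    | succ n ih =>
      rw [pow_succ', MulAut.mul_apply, ← autFun_coe δ, ih]
      have hδz : δ ⟨z, hzS.1⟩ = ⟨z, hzS.1⟩ :=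
        Subtype.ext ((autFun_coe δ ⟨z, hzS.1⟩).symm.trans hz)
      have hδy : δ ⟨y, hy.1⟩ = ⟨y * z ^ i, S.mul_mem hy.1 (S.pow_mem hzS.1 i)⟩ :=
        Subtype.ext ((autFun_coe δ ⟨y, hy.1⟩).symm.trans hi)
      rw [show y * (z ^ i) ^ n = (((⟨y, hy.1⟩ : S) * ((⟨z, hzS.1⟩ : S) ^ i) ^ n : S) : Ω) by
        simp, autFun_coe, map_mul, map_pow, map_pow, hδz, hδy]
      simp [pow_succ', mul_assoc]
  have h1 := hge ⟨y, hy.1⟩
  rw [show (((⟨δ, hδ⟩ : F.autGroup S) ^ I.index : F.autGroup S) : MulAut S) = δ ^ I.index from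
    SubmonoidClass.coe_pow _ _] at h1
  rw [hpow, (mem_zS.1 hy).2 g hg, mul_inv_cancel_right, mul_eq_left] at h1
  have hzi : z ^ i = 1 := by
    rw [← orderOf_eq_one_iff]
    refine Nat.eq_one_of_dvd_coprimes ((hp.out.coprime_iff_not_dvd.2 hm)) ?_
      (orderOf_dvd_of_pow_eq_one h1)
    exact orderOf_dvd_of_pow_eq_one (by rw [← pow_mul, mul_comm, pow_mul, hzp, one_pow])
  rw [hi, hzi, mul_one]

omit hp in
theorem autFun_aux_mul (γ : MulAut S) {a b : Ω} (ha : a ∈ S) (hb : b ∈ S) :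
    autFun γ (a * b) = autFun γ a * autFun γ b := by
  rw [show a * b = ((⟨a, ha⟩ * ⟨b, hb⟩ : S) : Ω) from rfl, autFun_coe, map_mul, Subgroup.coe_mul,
    ← autFun_coe, ← autFun_coe]

omit hp in
theorem autFun_aux_pow (γ : MulAut S) {a : Ω} (ha : a ∈ S) (n : ℕ) :
    autFun γ (a ^ n) = autFun γ a ^ n := by
  rw [show a ^ n = (((⟨a, ha⟩ : S) ^ n : S) : Ω) by simp, autFun_coe, map_pow,
    SubmonoidClass.coe_pow, ← autFun_coe]

omit hp in
theorem autFun_aux_inv (γ : MulAut S) {a : Ω} (ha : a ∈ S) :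
    autFun γ a⁻¹ = (autFun γ a)⁻¹ := by
  rw [show a⁻¹ = (((⟨a, ha⟩ : S)⁻¹ : S) : Ω) from rfl, autFun_coe, map_inv, Subgroup.coe_inv,
    ← autFun_coe]

/-- Two automorphisms inverting `z` and acting trivially modulo `⟨z⟩` on the centre have the same
fixed points there. -/
theorem center_fix_unique (hS : IsPGroup p S) (hF : F.IsSaturated p) {z : Ω} (hzS : z ∈ zS S)
    (hzp : z ^ p = 1) {δ δ' : MulAut S} (hδ : δ ∈ F.autGroup S) (hδ' : δ' ∈ F.autGroup S)
    (hz : autFun δ z = z⁻¹) (hz' : autFun δ' z = z⁻¹) {y : Ω} (hy : y ∈ zS S)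
    (hfix : autFun δ y = y) {i : ℕ} (hi : autFun δ' y = y * z ^ i) : autFun δ' y = y := by
  have h := center_fix hS hF (mul_mem hδ' hδ) hzS hzp
    (by rw [autFun_mul _ _ hzS.1, hz, autFun_aux_inv δ' hzS.1, hz', inv_inv]) hy (i := i)
    (by rw [autFun_mul _ _ hy.1, hfix, hi])
  rwa [autFun_mul _ _ hy.1, hfix] at h

/-- An automorphism in the system of a group containing the centre, keeping it, agrees there with
one of `S`. -/
theorem exists_top_of_center (hS : IsPGroup p S) (hF : F.IsSaturated p) {P : Subgroup Ω}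
    (hPS : P ≤ S) (hZP : zS S ≤ P) {α : MulAut P} (hα : α ∈ F.autGroup P)
    (hαZ : ∀ y ∈ zS S, autFun α y ∈ zS S) :
    ∃ γ ∈ F.autGroup S, ∀ y ∈ zS S, autFun γ y = autFun α y := by
  haveI := finite_of_le (zS_le S)
  have hnorm : ∀ g ∈ S, g ∈ Subgroup.normalizer (zS S : Set Ω) := fun g hg =>
    mem_normalizer_of_forall
      (fun y hy => by rw [(mem_zS.1 hy).2 g hg, mul_inv_cancel_right]; exact hy)
      (fun y hy => by rw [(mem_zS.1 hy).2 g⁻¹ (S.inv_mem hg), inv_mul_cancel_right]; exact hy)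
  haveI : Finite ↥(normalizerIn S (zS S)) := finite_of_le (S := S) inf_le_left
  have hfn : F.IsFullyNormalized (zS S) := ⟨zS_le S, fun Q _ =>
    Subgroup.card_le_of_le (le_inf inf_le_left fun g hg => hnorm g hg.1)⟩
  have hm := ((mem_autGroup hPS).1 hα).res hZP
  have himg : fimg (autFun α) (zS S) = zS S :=
    Subgroup.eq_of_le_of_card_ge (fimg_le hαZ) hm.card_fimg.ge
  obtain ⟨f, hf, hfe⟩ := receptive_extend (receptive_of_fullyNormalized hS hF hfn) hm himg (N := S)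
    (fun g hg => ⟨⟨hg, hnorm g hg⟩, g, hg, fun y hy => by
      rw [(mem_zS.1 hy).2 g hg, mul_inv_cancel_right, (mem_zS.1 (hαZ y hy)).2 g hg,
        mul_inv_cancel_right]⟩) (zS_le S)
  obtain ⟨δ, hδ, hδe⟩ := hf.exists_aut (fimg_eq_self_of_source_top hf)
  exact ⟨δ, hδ, fun y hy => by rw [hδe y hy.1, hfe y hy]⟩

/-- An essential subgroup other than `A` meets the complement of `A`, contains the centre, and is
either generated by it and one element or has it as its centre. -/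
theorem AIFrame.ess_cases (hA : AIFrame S A p) {R : Subgroup Ω} (hR : F.IsEssential p R)
    (hne : R ≠ A) : R ≤ S ∧ zS S ≤ R ∧ ∃ x ∈ R, x ∉ A ∧
      ((∀ t ∈ R, ∃ i : ℕ, t * (x ^ i)⁻¹ ∈ zS S) ∨
        ∀ α ∈ F.autGroup R, ∀ y ∈ zS S, autFun α y ∈ zS S) := by
  have hRS := hR.1.1
  have hZR : zS S ≤ R := fun c hc => centralizerIn_le_of_centric hR.1
    (mem_centralizerIn.2 ⟨hc.1, fun y hy => (mem_zS.1 hc).2 y (hRS hy)⟩)
  obtain ⟨x, hx, hxA⟩ : ∃ x ∈ R, x ∉ A := by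
    by_contra h
    push Not at h
    exact hne (le_antisymm h fun a ha => centralizerIn_le_of_centric hR.1
      (mem_centralizerIn.2 ⟨hA.le ha, fun y hy => hA.comm y (h y hy) a ha⟩))
  refine ⟨hRS, hZR, ?_⟩
  by_cases hc : ∃ y ∈ R, y ∉ A ∧ ∀ t ∈ R, t * y = y * t
  · obtain ⟨y, hy, hyA, hyc⟩ := hc
    refine ⟨y, hy, hyA, Or.inl fun t ht => ?_⟩
    obtain ⟨i, hi⟩ := hA.gen y (hRS hy) hyA t (hRS ht)
    exact ⟨i, hA.cent y (hRS hy) hyA _ hi
      (hyc _ (R.mul_mem ht (R.inv_mem (R.pow_mem hy i))))⟩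
  · push Not at hc
    refine ⟨x, hx, hxA, Or.inr fun α hα y hy => ?_⟩
    have hαy : autFun α y ∈ R := autFun_mem α (hZR hy)
    have hcomm : ∀ t ∈ R, t * autFun α y = autFun α y * t := by
      intro t ht
      obtain ⟨u, hu⟩ := α.surjective ⟨t, ht⟩
      have e : u * (⟨y, hZR hy⟩ : R) = ⟨y, hZR hy⟩ * u :=
        Subtype.ext ((mem_zS.1 hy).2 u (hRS u.2))
      have := congrArg (fun v : R => ((α v : R) : Ω)) e
      simpa [map_mul, hu, ← autFun_coe] using this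
    refine hA.cent x (hRS hx) hxA _ ?_ (hcomm x hx).symm
    by_contra hαA
    obtain ⟨t, ht, hte⟩ := hc _ hαy hαA
    exact hte (hcomm t ht)

/-- The plane of an abelian essential subgroup and the inversion of it. -/
theorem AIFrame.exists_inversion (hA : AIFrame S A p) (hS : IsPGroup p S) (hF : F.IsSaturated p)
    (hp2 : p ≠ 2) {P : Subgroup Ω} (hP : F.IsEssential p P) {x : Ω} (hx : x ∈ P) (hxA : x ∉ A)
    (hgenP : ∀ t ∈ P, ∃ i : ℕ, t * (x ^ i)⁻¹ ∈ zS S) :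
    ∃ z ∈ zS S, z ≠ 1 ∧ z ^ p = 1 ∧ (∃ b ∈ A, ⁅b, x⁆ = z) ∧
      (∀ b ∈ A, ⁅b, x⁆ ∈ zS S → ⁅b, x⁆ ∈ Subgroup.zpowers z) ∧
      ∃ δ ∈ F.autGroup S, autFun δ z = z⁻¹ ∧
        (∀ y ∈ zS S, ∃ j : ℕ, autFun δ (y * z ^ j) = y * z ^ j) ∧
        ∀ y ∈ zS S, autFun δ y = y → ∀ α ∈ F.autGroup P,
          autFun α y ∈ zS S ∧ autFun δ (autFun α y) = autFun α y := by
  have hPS := hP.1.1
  haveI := finite_of_le hPS
  have hxS := hPS hx
  have hPlt : P < S := by
    refine lt_of_le_of_ne hPS fun e => ?_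
    obtain ⟨-, hn, hnI, E, hsp, -, -⟩ := hP
    subst e
    obtain ⟨-, R, hR⟩ := fullyAutomized_of_fullyNormalized hS hF hn
    rw [← inn_eq_autInducedBy] at hR
    haveI := hnI
    have hdvd : p ∣ Nat.card (F.autGroup P ⧸ (Inn ↥P).subgroupOf (F.autGroup P)) := hsp
    exact R.not_dvd_index (hR ▸ hdvd)
  have hZP : zS S ≤ P := fun c hc => centralizerIn_le_of_centric hP.1
    (mem_centralizerIn.2 ⟨hc.1, fun y hy => (mem_zS.1 hc).2 y (hPS hy)⟩)
  have hab : ∀ t ∈ P, ∀ u ∈ P, t * u = u * t := by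
    intro t ht u hu
    obtain ⟨i, hi⟩ := hgenP t ht
    obtain ⟨j, hj⟩ := hgenP u hu
    have h1 : ∀ {c : Ω}, c ∈ zS S → ∀ v ∈ S, Commute c v :=
      fun hc v hv => ((mem_zS.1 hc).2 v hv).symm
    have hu' : Commute (x ^ i) (u * (x ^ j)⁻¹ * x ^ j) :=
      ((h1 hj _ (S.pow_mem hxS i)).symm).mul_right (Commute.pow_pow_self x i j)
    rw [inv_mul_cancel_right] at hu'
    have ht' := (h1 hi u (hPS hu)).mul_left hu'
    rw [inv_mul_cancel_right] at ht'
    exact ht'.eq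
  have hPA : ∀ t ∈ P, t ∈ A → t ∈ zS S := fun t ht htA =>
    hA.cent x hxS hxA t htA (hab t ht x hx)
  letI : CommGroup P := { (inferInstance : Group P) with
    mul_comm := fun a b => Subtype.ext (hab a a.2 b b.2) }
  have hPp : IsPGroup p P := hS.to_le hPS
  set G := F.autGroup P with hG
  set ZP : Subgroup P := (zS S).subgroupOf P with hZPdef
  have memZP : ∀ y : P, y ∈ ZP ↔ (y : Ω) ∈ zS S := fun y => Subgroup.mem_subgroupOf
  let xP : P := ⟨x, hx⟩
  have hxZ : xP ∉ ZP := fun h => hxA (hA.zle ((memZP _).1 h))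
  -- an element moving the centre
  obtain ⟨α, hαG, hα⟩ : ∃ α ∈ G, ∃ c ∈ ZP, α c ∉ ZP := by
    by_contra hcon
    push Not at hcon
    have hn : ((seriesStab G ZP).subgroupOf G).Normal := by
      refine ⟨fun c hc g => ?_⟩
      rw [Subgroup.mem_subgroupOf] at hc ⊢
      rw [Subgroup.coe_mul, Subgroup.coe_mul, Subgroup.coe_inv]
      refine ⟨G.mul_mem (G.mul_mem g.2 c.2) (G.inv_mem g.2), fun u hu => ?_, fun y => ?_⟩
      · show (g : MulAut P) ((c : MulAut P) ((g : MulAut P)⁻¹ u)) = u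
        rw [hc.2.1 _ (hcon _ (G.inv_mem g.2) u hu), MulAut.apply_inv_self]
      · show y⁻¹ * (g : MulAut P) ((c : MulAut P) ((g : MulAut P)⁻¹ y)) ∈ ZP
        have h := hcon _ g.2 _ (hc.2.2 ((g : MulAut P)⁻¹ y))
        rwa [map_mul, map_inv, MulAut.apply_inv_self] at h
    have hpg : IsPGroup p ((seriesStab G ZP).subgroupOf G) :=
      (isPGroup_seriesStab hPp G ZP).comap_of_injective G.subtype G.subtype_injective
    obtain ⟨s, hs, hsP⟩ := SetLike.exists_of_lt (lt_normalizerIn hS hPlt)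
    set σ : MulAut P := P.normalizerMonoidHom ⟨s, hs.2⟩ with hσ
    have hσe : ∀ y : P, ((σ y : P) : Ω) = s * y * s⁻¹ := fun y => rfl
    have hσG : σ ∈ G := autInducedBy_le_autGroup F hPS (mem_autInducedBy.2 ⟨s, hs.1, hσe⟩)
    have hσK : σ ∈ seriesStab G ZP := by
      refine ⟨hσG, fun u hu => Subtype.ext ?_, fun y => (memZP _).2 ?_⟩
      · rw [hσe, (mem_zS.1 ((memZP u).1 hu)).2 s hs.1, mul_inv_cancel_right]
      · refine hPA _ (SetLike.coe_mem _) ?_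
        rw [Subgroup.coe_mul, Subgroup.coe_inv, hσe]
        obtain ⟨i, hi⟩ := hA.gen x hxS hxA s hs.1
        have e : s * (y : Ω) * s⁻¹ = s * (x ^ i)⁻¹ * y * (s * (x ^ i)⁻¹)⁻¹ := by
          have hc : Commute (y : Ω) (x ^ i) := (show Commute (y : Ω) x from hab y y.2 x hx).pow_right i
          calc s * (y : Ω) * s⁻¹ = s * ((x ^ i)⁻¹ * (y * x ^ i)) * s⁻¹ := by
                rw [hc.eq, inv_mul_cancel_left]
            _ = _ := by group
        rw [e]
        set b := s * (x ^ i)⁻¹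
        rw [show (y : Ω)⁻¹ * (b * y * b⁻¹) = ((y : Ω)⁻¹ * b * y) * b⁻¹ by group]
        refine A.mul_mem ?_ (A.inv_mem hi)
        simpa using hA.normal (y : Ω)⁻¹ (S.inv_mem (hPS y.2)) b hi
    obtain ⟨-, hrad⟩ := radical_of_essential hS hP
    have hσI : σ ∈ Inn P := hrad ▸ ⟨⟨σ, hσG⟩, Grp.le_pCore hn hpg hσK, rfl⟩
    obtain ⟨u, hu⟩ := hσI
    refine hsP (centralizerIn_le_of_centric hP.1 (mem_centralizerIn.2 ⟨hs.1, fun y hy => ?_⟩))
    have e := hσe ⟨y, hy⟩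
    rw [← hu] at e
    have e' : y = s * y * s⁻¹ := by
      refine Eq.trans ?_ e
      show y = (u : Ω) * y * (u : Ω)⁻¹
      rw [hab u u.2 y hy, mul_inv_cancel_right]
    calc y * s = s * y * s⁻¹ * s := by rw [← e']
      _ = s * y := inv_mul_cancel_right _ _
  obtain ⟨c₀, hc₀, hw⟩ := hα
  -- the group induced by `S`
  set R := autInducedBy S P with hR
  have hRG : R ≤ G := autInducedBy_le_autGroup F hPS
  have hRe : ∀ r ∈ R, ∃ b ∈ A, b ∈ Subgroup.normalizer (P : Set Ω) ∧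
      ∀ y : P, ((r y : P) : Ω) = b * y * b⁻¹ := by
    intro r hr
    obtain ⟨g, hg, hge⟩ := mem_autInducedBy.1 hr
    obtain ⟨i, hi⟩ := hA.gen x hxS hxA g hg
    have e : ∀ y : P, ((r y : P) : Ω) = g * (x ^ i)⁻¹ * y * (g * (x ^ i)⁻¹)⁻¹ := fun y => by
      have hc : Commute (y : Ω) (x ^ i) := (show Commute (y : Ω) x from hab y y.2 x hx).pow_right i
      rw [hge]
      calc g * (y : Ω) * g⁻¹ = g * ((x ^ i)⁻¹ * (y * x ^ i)) * g⁻¹ := by
            rw [hc.eq, inv_mul_cancel_left]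
        _ = _ := by group
    refine ⟨_, hi, mem_normalizer_of_forall (fun y hy => ?_) (fun y hy => ?_), e⟩
    · rw [← e ⟨y, hy⟩]; exact SetLike.coe_mem _
    · obtain ⟨v, hv⟩ := r.surjective ⟨y, hy⟩
      have := (e v).symm.trans (congrArg Subtype.val hv)
      rw [show (y : Ω) = (((⟨y, hy⟩ : P)) : Ω) from rfl, ← this]
      generalize g * (x ^ i)⁻¹ = c
      rw [show c⁻¹ * (c * (v : Ω) * c⁻¹) * c = v by group]
      exact v.2
  have hRfix : ∀ r ∈ R, ∀ y ∈ ZP, r y = y := fun r hr y hy => by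
    obtain ⟨b, hb, -, hbe⟩ := hRe r hr
    exact Subtype.ext (by
      rw [hbe, (mem_zS.1 ((memZP y).1 hy)).2 b (hA.le hb), mul_inv_cancel_right])
  have hRdisp : ∀ r ∈ R, ∀ y : P, y⁻¹ * r y ∈ ZP := fun r hr y => by
    obtain ⟨b, hb, -, hbe⟩ := hRe r hr
    refine (memZP _).2 (hPA _ (SetLike.coe_mem _) ?_)
    rw [Subgroup.coe_mul, Subgroup.coe_inv, hbe,
      show (y : Ω)⁻¹ * (b * y * b⁻¹) = ((y : Ω)⁻¹ * b * y) * b⁻¹ by group]
    refine A.mul_mem ?_ (A.inv_mem hb)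
    simpa using hA.normal (y : Ω)⁻¹ (S.inv_mem (hPS y.2)) b hb
  have hRK : R ≤ seriesStab G ZP := fun r hr => ⟨hRG hr, hRfix r hr, hRdisp r hr⟩
  have hfix : ∀ r ∈ R, r ≠ 1 → ∀ y : P, r y = y → y ∈ ZP := by
    intro r hr hr1 y hy
    by_contra hyZ
    obtain ⟨b, hb, -, hbe⟩ := hRe r hr
    have e := (hbe y).symm.trans (congrArg Subtype.val hy)
    have hyA : (y : Ω) ∉ A := fun h => hyZ ((memZP y).2 (hPA _ y.2 h))
    have hbZ := hA.cent y (hPS y.2) hyA b hb (by conv_rhs => rw [← e, inv_mul_cancel_right])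
    refine hr1 (MulEquiv.ext fun v => Subtype.ext ?_)
    rw [hbe, ← (mem_zS.1 hbZ).2 (v : Ω) (hPS v.2), mul_inv_cancel_right]
    rfl
  have hpowp : ∀ y : P, y ^ p ∈ ZP := fun y => (memZP _).2 (hPA _ (SetLike.coe_mem _) (by
    simpa using hA.powA (y : Ω) (hPS y.2)))
  have hRcomm : ∀ r ∈ R, ∀ r' ∈ R, r * r' = r' * r := fun r hr r' hr' =>
    MulEquiv.ext fun y => by
      have e : r y = y * (y⁻¹ * r y) := (mul_inv_cancel_left _ _).symm
      have e' : r' y = y * (y⁻¹ * r' y) := (mul_inv_cancel_left _ _).symm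
      show r (r' y) = r' (r y)
      conv_lhs => rw [e', map_mul, hRfix r hr _ (hRdisp r' hr' y), e]
      conv_rhs => rw [e, map_mul, hRfix r' hr' _ (hRdisp r hr y), e']
      rw [mul_right_comm]
  obtain ⟨-, Sy, hSy⟩ := fullyAutomized_of_fullyNormalized hS hF hP.2.1
  have hcardR : Nat.card Sy = Nat.card R := by
    rw [hSy, Nat.card_congr (Subgroup.subgroupOfEquivOfLe hRG).toEquiv]
  -- a `p`-subgroup is conjugate into the induced one
  have hsyl : ∀ H : Subgroup (MulAut P), H ≤ G → IsPGroup p H →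
      Nat.card H ≤ Nat.card R ∧ ∀ a ∈ H, ∀ b ∈ H, a * b = b * a := by
    intro H hHG hH
    obtain ⟨Q, hQ⟩ := (hH.comap_of_injective G.subtype G.subtype_injective).exists_le_sylow
    refine ⟨?_, fun a ha b hb => ?_⟩
    · rw [← Nat.card_congr (Subgroup.subgroupOfEquivOfLe hHG).toEquiv, ← hcardR,
        ← Nat.card_congr (Sylow.equiv Q Sy).toEquiv]
      exact Subgroup.card_le_of_le hQ
    · obtain ⟨g, hg⟩ := MulAction.exists_smul_eq G Q Sy
      have hmem : ∀ (h : MulAut P) (hh : h ∈ H), (g : MulAut P) * h * (g : MulAut P)⁻¹ ∈ R := by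
        intro h hh
        have h1 : MulAut.conj g • (⟨h, hHG hh⟩ : G) ∈
            MulAut.conj g • (Q : Subgroup G) := Subgroup.smul_mem_pointwise_smul _ _ _ (hQ hh)
        have h2 : MulAut.conj g • (⟨h, hHG hh⟩ : G) ∈ (Sy : Subgroup G) := by
          rw [← hg]; exact h1
        rw [hSy, Subgroup.mem_subgroupOf] at h2
        simpa [MulAut.smul_def] using h2
      have e := hRcomm _ (hmem a ha) _ (hmem b hb)
      have e2 : (g : MulAut P) * (a * b) * (g : MulAut P)⁻¹ =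
          (g : MulAut P) * (b * a) * (g : MulAut P)⁻¹ := by
        rw [← mul_assoc, ← mul_assoc] at e ⊢
        simpa [mul_assoc] using e
      exact mul_left_cancel (mul_right_cancel e2)
  obtain ⟨s, hs, hsP⟩ := SetLike.exists_of_lt (lt_normalizerIn hS hPlt)
  set σ : MulAut P := P.normalizerMonoidHom ⟨s, hs.2⟩ with hσdef
  have hσe : ∀ y : P, ((σ y : P) : Ω) = s * y * s⁻¹ := fun y => rfl
  have hσR : σ ∈ R := mem_autInducedBy.2 ⟨s, hs.1, hσe⟩
  have hσG : σ ∈ G := hRG hσR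
  have hσ1 : σ ≠ 1 := fun e => hsP (centralizerIn_le_of_centric hP.1
    (mem_centralizerIn.2 ⟨hs.1, fun y hy => by
      have := hσe ⟨y, hy⟩
      rw [e] at this
      conv_lhs => rw [show y = s * y * s⁻¹ from this, inv_mul_cancel_right]⟩))
  -- every element is a power of one outside `ZP` modulo `ZP`
  have hsplit : ∀ w : P, w ∉ ZP → ∀ y : P, ∃ k : ℕ, y * (w ^ k)⁻¹ ∈ ZP := by
    intro w hwZ y
    have hwA : (w : Ω) ∉ A := fun h => hwZ ((memZP w).2 (hPA _ w.2 h))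
    obtain ⟨k, hk⟩ := hA.gen w (hPS w.2) hwA y (hPS y.2)
    exact ⟨k, (memZP _).2 (by simpa using hPA _ (P.mul_mem y.2 (P.inv_mem (P.pow_mem w.2 k))) hk)⟩
  -- the induced group has order `p`
  have hRσ : ∀ r ∈ R, r ∈ Subgroup.zpowers σ := by
    by_contra hcon
    push Not at hcon
    obtain ⟨r₁, hr₁, hr₁σ⟩ := hcon
    have hU : ∀ u : P, u ∈ ZP ⊓ ZP.map α.toMonoidHom ↔ u ∈ ZP ∧ α⁻¹ u ∈ ZP := fun u => by
      rw [Subgroup.mem_inf, Subgroup.mem_map]
      refine and_congr_right fun _ => ⟨?_, fun h => ⟨_, h, MulAut.apply_inv_self _ α u⟩⟩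
      rintro ⟨c, hc, rfl⟩
      simpa using hc
    set U := ZP ⊓ ZP.map α.toMonoidHom with hUdef
    set K := seriesStab G U with hK
    have hKp := isPGroup_seriesStab hPp G U
    have hnormK : ∀ ρ ∈ G, (∀ u ∈ U, ρ u = u) → ρ ∈ Subgroup.normalizer (K : Set (MulAut P)) := by
      intro ρ hρ hρU
      have hρU' : ∀ u ∈ U, ρ⁻¹ u = u := fun u hu => by
        conv_lhs => rw [← hρU u hu, MulAut.inv_apply_self]
      have key : ∀ ρ : MulAut P, ρ ∈ G → (∀ u ∈ U, ρ u = u) → (∀ u ∈ U, ρ⁻¹ u = u) →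
          ∀ g ∈ K, ρ * g * ρ⁻¹ ∈ K := by
        intro ρ hρ h1 h2 g hg
        refine ⟨G.mul_mem (G.mul_mem hρ hg.1) (G.inv_mem hρ), fun u hu => ?_, fun y => ?_⟩
        · show ρ (g (ρ⁻¹ u)) = u
          rw [h2 u hu, hg.2.1 u hu, h1 u hu]
        · show y⁻¹ * ρ (g (ρ⁻¹ y)) ∈ U
          have h := hg.2.2 (ρ⁻¹ y)
          have h' := h1 _ h
          rw [map_mul, map_inv, MulAut.apply_inv_self] at h'
          rw [h']
          exact h
      exact mem_normalizer_of_forall (key ρ hρ hρU hρU') fun g hg => by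
        simpa using key ρ⁻¹ (G.inv_mem hρ) hρU' (by simpa using hρU) g hg
    set R' := R.map (MulAut.conj α).toMonoidHom with hR'
    have hR'mem : ∀ τ, τ ∈ R' ↔ ∃ r ∈ R, α * r * α⁻¹ = τ := fun τ => Iff.rfl
    have hR'G : R' ≤ G := fun τ hτ => by
      obtain ⟨r, hr, rfl⟩ := (hR'mem τ).1 hτ
      exact G.mul_mem (G.mul_mem hαG (hRG hr)) (G.inv_mem hαG)
    have hR'fix : ∀ τ ∈ R', ∀ u : P, α⁻¹ u ∈ ZP → τ u = u := fun τ hτ u hu => by
      obtain ⟨r, hr, rfl⟩ := (hR'mem τ).1 hτ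
      show α (r (α⁻¹ u)) = u
      rw [hRfix r hr _ hu, MulAut.apply_inv_self]
    have hR'disp : ∀ τ ∈ R', ∀ y : P, α⁻¹ (y⁻¹ * τ y) ∈ ZP := fun τ hτ y => by
      obtain ⟨r, hr, rfl⟩ := (hR'mem τ).1 hτ
      rw [map_mul, map_inv]
      show (α⁻¹ y)⁻¹ * α⁻¹ (α (r (α⁻¹ y))) ∈ ZP
      rw [MulAut.inv_apply_self]
      exact hRdisp r hr _
    have hRp : IsPGroup p R := (isPGroup_seriesStab hPp G ZP).to_le hRK
    have hRKp : IsPGroup p (R ⊔ K : Subgroup (MulAut P)) := IsPGroup.to_sup_of_normal_right' hRp hKp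
      fun r hr => hnormK r (hRG hr) fun u hu => hRfix r hr u ((hU u).1 hu).1
    have hR'Kp : IsPGroup p (R' ⊔ K : Subgroup (MulAut P)) :=
      IsPGroup.to_sup_of_normal_right' (hRp.map _) hKp
        fun τ hτ => hnormK τ (hR'G hτ) fun u hu => hR'fix τ hτ u ((hU u).1 hu).2
    have hKG : K ≤ G := fun g hg => hg.1
    obtain ⟨hcardRK, hcRK⟩ := hsyl _ (sup_le hRG hKG) hRKp
    obtain ⟨-, hcR'K⟩ := hsyl _ (sup_le hR'G hKG) hR'Kp
    -- a nontrivial element of both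
    have hαxZ : α⁻¹ (α c₀) ∈ ZP := by rw [MulAut.inv_apply_self]; exact hc₀
    obtain ⟨w', hw'Z, hw'⟩ : ∃ w' ∈ ZP, α⁻¹ w' ∉ ZP := by
      by_contra hall
      push Not at hall
      haveI : Finite ZP := inferInstance
      have e : ZP.map (α⁻¹ : MulAut P).toMonoidHom = ZP := Subgroup.eq_of_le_of_card_ge
        (by rintro _ ⟨c, hc, rfl⟩; exact hall c hc)
        (le_of_eq (Nat.card_congr (ZP.equivMapOfInjective _ (α⁻¹ : MulAut P).injective).toEquiv))
      obtain ⟨c, hc, hce⟩ := (e.symm ▸ hc₀ : c₀ ∈ ZP.map (α⁻¹ : MulAut P).toMonoidHom)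
      refine hw ?_
      rw [← hce]
      show α (α⁻¹ c) ∈ ZP
      rwa [MulAut.apply_inv_self]
    have hZU : ∀ y ∈ ZP, ∃ k : ℕ, y * (w' ^ k)⁻¹ ∈ U := by
      intro y hy
      obtain ⟨k, hk⟩ := hsplit (α⁻¹ w') hw' (α⁻¹ y)
      refine ⟨k, (hU _).2 ⟨ZP.mul_mem hy (ZP.inv_mem (ZP.pow_mem hw'Z k)), ?_⟩⟩
      rwa [map_mul, map_inv, map_pow]
    have hw'p : w' ^ p ∈ U := (hU _).2 ⟨ZP.pow_mem hw'Z p, by rw [map_pow]; exact hpowp _⟩
    have hKmem : ∀ r ∈ R, xP⁻¹ * r xP ∈ U → r ∈ K := by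
      intro r hr hrx
      refine ⟨hRG hr, fun u hu => hRfix r hr u ((hU u).1 hu).1, fun y => ?_⟩
      obtain ⟨k, hk⟩ := hsplit xP hxZ y
      have e : y⁻¹ * r y = (xP⁻¹ * r xP) ^ k := by
        conv_lhs =>
          rw [← inv_mul_cancel_right y (xP ^ k), map_mul, hRfix r hr _ hk, map_pow]
        rw [mul_pow, inv_pow, mul_inv_rev, mul_assoc, inv_mul_cancel_left]
      rw [e]
      exact U.pow_mem hrx k
    obtain ⟨r₀, hr₀, hr₀1, hr₀K⟩ : ∃ r₀ ∈ R, r₀ ≠ 1 ∧ r₀ ∈ K := by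
      by_cases hσK : σ ∈ K
      · exact ⟨σ, hσR, hσ1, hσK⟩
      obtain ⟨k, hk⟩ := hZU _ (hRdisp σ hσR xP)
      obtain ⟨l, hl⟩ := hZU _ (hRdisp r₁ hr₁ xP)
      have hkp : ¬ p ∣ k := by
        rintro ⟨d, rfl⟩
        refine hσK (hKmem σ hσR ?_)
        rw [← inv_mul_cancel_right (xP⁻¹ * σ xP) (w' ^ (p * d)), pow_mul]
        exact U.mul_mem (by rwa [pow_mul] at hk) (U.pow_mem hw'p d)
      obtain ⟨n, hn⟩ : ∃ n : ℕ, p ∣ k * n + l := by
        haveI : Fact p.Prime := hp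
        refine ⟨(-(l : ZMod p) * (k : ZMod p)⁻¹).val, (ZMod.natCast_eq_zero_iff _ _).1 ?_⟩
        have hk0 : (k : ZMod p) ≠ 0 := fun e => hkp ((ZMod.natCast_eq_zero_iff _ _).1 e)
        push_cast
        rw [ZMod.natCast_zmod_val]
        field_simp
        ring
      refine ⟨r₁ * σ ^ n, R.mul_mem hr₁ (R.pow_mem hσR n), fun e => hr₁σ ?_,
        hKmem _ (R.mul_mem hr₁ (R.pow_mem hσR n)) ?_⟩
      · rw [eq_inv_of_mul_eq_one_left e]
        exact Subgroup.inv_mem _ (Subgroup.pow_mem _ (Subgroup.mem_zpowers σ) n)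
      · have hσn : ∀ m : ℕ, (σ ^ m) xP = xP * (xP⁻¹ * σ xP) ^ m := by
          intro m
          induction m with
          | zero => simp
          | succ m ih =>
            rw [pow_succ', MulAut.mul_apply, ih, map_mul, map_pow, hRfix σ hσR _ (hRdisp σ hσR xP),
              pow_succ', ← mul_assoc, mul_inv_cancel_left]
        rw [MulAut.mul_apply, hσn, map_mul, map_pow, hRfix r₁ hr₁ _ (hRdisp σ hσR xP), ← mul_assoc]
        set a := xP⁻¹ * σ xP
        set b := xP⁻¹ * r₁ xP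
        obtain ⟨d, hd⟩ := hn
        have e : b * a ^ n = b * (w' ^ l)⁻¹ * (a * (w' ^ k)⁻¹) ^ n * (w' ^ p) ^ d := by
          clear_value a b
          rw [← pow_mul w' p d, ← hd, mul_pow, inv_pow, ← pow_mul w' k n, pow_add, ← mul_assoc,
            mul_assoc _ (a ^ n * (w' ^ (k * n))⁻¹), inv_mul_cancel_right, mul_right_comm b,
            inv_mul_cancel_right]
        rw [e]
        exact U.mul_mem (U.mul_mem hl (U.pow_mem hk n)) (U.pow_mem hw'p d)
    have hR'leK : R' ≤ K := by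
      intro τ hτ
      refine ⟨hR'G hτ, fun u hu => hR'fix τ hτ u ((hU u).1 hu).2, fun y => ?_⟩
      set v := y⁻¹ * τ y with hv
      refine (hU _).2 ⟨hfix r₀ hr₀ hr₀1 v ?_, hR'disp τ hτ y⟩
      have hu := hr₀K.2.2 y
      have hτu := hR'fix τ hτ _ ((hU _).1 hu).2
      have e := DFunLike.congr_fun
        (hcR'K r₀ (Subgroup.mem_sup_right hr₀K) τ (Subgroup.mem_sup_left hτ)) y
      rw [MulAut.mul_apply, MulAut.mul_apply] at e
      have hy : r₀ y = y * (y⁻¹ * r₀ y) := (mul_inv_cancel_left _ _).symm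
      rw [hv, map_mul, map_inv, e]
      generalize y⁻¹ * r₀ y = u at hy hτu
      rw [hy, map_mul, hτu, mul_inv_rev]
      simp [mul_comm, mul_left_comm, mul_assoc]
      rw [mul_left_comm u, mul_inv_cancel_left]
    have heq : R ⊔ K = R :=
      (Subgroup.eq_of_le_of_card_ge le_sup_left hcardRK).symm
    have hτR : α * σ * α⁻¹ ∈ R := heq ▸ Subgroup.mem_sup_right (hR'leK ⟨σ, hσR, rfl⟩)
    refine hw (hfix _ hτR (fun e => hσ1 (by simpa using e)) _ ?_)
    exact hR'fix _ ⟨σ, hσR, rfl⟩ _ hαxZ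
  -- the plane
  set zP : P := xP⁻¹ * σ xP with hzP
  have hzZ : zP ∈ ZP := hRdisp σ hσR xP
  have hσx : σ xP = xP * zP := (mul_inv_cancel_left _ _).symm
  have hz1 : zP ≠ 1 := fun e => hxZ (hfix σ hσR hσ1 xP (by rw [hσx, e, mul_one]))
  have hzp : zP ^ p = 1 := by
    have h := hRfix σ hσR _ (hpowp xP)
    rwa [map_pow, hσx, mul_pow, mul_eq_left] at h
  have hσt : IsTransv p σ zP := by
    refine ⟨hz1, hzp, hRfix σ hσR _ hzZ, fun y => ?_, xP, fun e => hxZ (hfix σ hσR hσ1 xP e)⟩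
    obtain ⟨k, hk⟩ := hsplit xP hxZ y
    refine ⟨k, ?_⟩
    conv_lhs => rw [← inv_mul_cancel_right y (xP ^ k), map_mul, hRfix σ hσR _ hk, map_pow, hσx,
      mul_pow, ← mul_assoc, inv_mul_cancel_right]
  have hzeR : R = Subgroup.zpowers σ :=
    le_antisymm hRσ (Subgroup.zpowers_le.2 hσR)
  have hordσ : orderOf σ = p := orderOf_eq_prime hσt.pow_eq_one hσt.ne
  have hsmall : SmallSylow p G := by
    intro a ha b hb ha1 hb1 hne hcomm
    have hpa : IsPGroup p (Subgroup.zpowers a) :=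
      IsPGroup.of_card (n := 1) (by rw [Nat.card_zpowers, orderOf_eq_prime ha1 hne, pow_one])
    have hpb : IsPGroup p (Subgroup.zpowers b) := by
      obtain ⟨j, -, hj⟩ := (Nat.dvd_prime_pow hp.out).1 (orderOf_dvd_of_pow_eq_one
        (show b ^ p ^ 1 = 1 by rw [pow_one, hb1]))
      exact IsPGroup.of_card (n := j) (by rw [Nat.card_zpowers, hj])
    have hle : Subgroup.zpowers b ≤ Subgroup.normalizer (Subgroup.zpowers a : Set (MulAut P)) := by
      refine le_trans ?_ (Subgroup.centralizer_le_normalizer _)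
      rw [Subgroup.zpowers_le, Subgroup.mem_centralizer_iff]
      rintro _ ⟨n, rfl⟩
      exact ((show Commute a b from hcomm).zpow_left n).eq
    obtain ⟨hc, -⟩ := hsyl _ (sup_le (Subgroup.zpowers_le.2 hb) (Subgroup.zpowers_le.2 ha))
      (IsPGroup.to_sup_of_normal_right' hpb hpa hle)
    rw [hzeR, Nat.card_zpowers, hordσ] at hc
    have e : Subgroup.zpowers a = Subgroup.zpowers b ⊔ Subgroup.zpowers a :=
      Subgroup.eq_of_le_of_card_ge le_sup_right (by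
        rw [Nat.card_zpowers, orderOf_eq_prime ha1 hne]; exact hc)
    exact e ▸ Subgroup.mem_sup_left (Subgroup.mem_zpowers b)
  have hfixpow : ∀ (ρ ρ' : MulAut P) (y : P), ρ' ∈ Subgroup.zpowers ρ → ρ y = y → ρ' y = y := by
    intro ρ ρ' y h e
    have : ρ' ∈ MulAction.stabilizer (MulAut P) y := (Subgroup.zpowers_le.2 e) h
    exact this
  have hstabconj : ∀ (β : MulAut P) (y : P), (β * σ * β⁻¹) y = y ↔ β⁻¹ y ∈ ZP := by
    intro β y
    constructor
    · intro e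
      refine hfix σ hσR hσ1 _ (β.injective ?_)
      rw [MulAut.apply_inv_self]
      exact e
    · intro e
      show β (σ (β⁻¹ y)) = y
      rw [hRfix σ hσR _ e, MulAut.apply_inv_self]
  have hτne : α * σ * α⁻¹ ∉ Subgroup.zpowers σ := fun h => by
    refine hw (hfix _ (hzeR ▸ h) (fun e => hσ1 (by simpa using e)) _ ((hstabconj α _).2 ?_))
    rwa [MulAut.inv_apply_self]
  -- the inversion attached to a second transvection
  have hpairδ : ∀ β ∈ G, β * σ * β⁻¹ ∉ Subgroup.zpowers σ →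
      ∃ δ ∈ F.autGroup S, autFun δ (zP : Ω) = (zP : Ω)⁻¹ ∧
        (∀ y ∈ ZP, ∃ j : ℕ, autFun δ ((y * zP ^ j : P) : Ω) = (y * zP ^ j : P) ∧
          autFun δ (y : Ω) = (y * zP ^ (2 * j) : P)) ∧
        ∀ y ∈ ZP, (autFun δ (y : Ω) = y ↔ (β * σ * β⁻¹) y = y) := by
    intro β hβ hβn
    have hτ't := hσt.conj β
    obtain ⟨x', τ₁, hτ₁G, hτ₁t, hpair, hττ₁, hτ₁τ, -⟩ :=
      exists_pair hsmall hσt hτ't hσG (G.mul_mem (G.mul_mem hβ hσG) (G.inv_mem hβ)) hβn
    obtain ⟨hιz, -, hιw⟩ := hpair.inv_elt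
    set ι : MulAut P := (σ * τ₁ * σ) ^ 2 with hι
    have hιG : ι ∈ G := G.pow_mem (G.mul_mem (G.mul_mem hσG hτ₁G) hσG) 2
    have hdec : ∀ y ∈ ZP, ∃ j : ℕ,
        σ (y * zP ^ j) = y * zP ^ j ∧ τ₁ (y * zP ^ j) = y * zP ^ j ∧
          ι y = y * zP ^ (2 * j) := by
      intro y hy
      obtain ⟨i, j, h1, h2⟩ := IsPair.decomp hσt hτ₁t hpair y
      have hxi : x' ^ i = 1 := by
        have h0 : σ (y * (x' ^ i)⁻¹) = y * (x' ^ i)⁻¹ := by
          rw [map_mul _ (_ * _) (zP ^ j), map_pow, hσt.fix] at h1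
          exact mul_right_cancel h1
        rw [map_mul, map_inv, hRfix σ hσR y hy, map_pow, hpair.sig_x, mul_pow, mul_right_inj,
          inv_inj, mul_eq_left] at h0
        rw [← orderOf_dvd_iff_pow_eq_one, hτ₁t.orderOf_eq, ← hσt.orderOf_eq,
          orderOf_dvd_iff_pow_eq_one, h0]
      rw [hxi, inv_one, mul_one] at h1 h2
      refine ⟨j, h1, h2, ?_⟩
      conv_lhs => rw [show y = y * zP ^ j * (zP ^ j)⁻¹ from (mul_inv_cancel_right _ _).symm,
        map_mul, hιw _ h1 h2, map_inv, map_pow, hιz, inv_pow, inv_inv, mul_assoc, ← pow_add,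
        ← two_mul]
    have hιZ : ∀ y ∈ zS S, autFun ι y ∈ zS S := fun y hy => by
      obtain ⟨j, -, -, h3⟩ := hdec ⟨y, hZP hy⟩ ((memZP _).2 hy)
      rw [show y = ((⟨y, hZP hy⟩ : P) : Ω) from rfl, autFun_coe, h3, ← memZP]
      exact ZP.mul_mem ((memZP _).2 hy) (ZP.pow_mem hzZ _)
    obtain ⟨δ, hδ, hδe⟩ := exists_top_of_center hS hF hPS hZP hιG hιZ
    have hδP : ∀ y ∈ ZP, autFun δ (y : Ω) = (ι y : P) := fun y hy => by
      rw [hδe _ ((memZP y).1 hy), autFun_coe]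
    refine ⟨δ, hδ, by rw [hδP zP hzZ, hιz, Subgroup.coe_inv], fun y hy => ?_, fun y hy => ?_⟩
    · obtain ⟨j, h1, h2, h3⟩ := hdec y hy
      refine ⟨j, ?_, by rw [hδP y hy, h3]⟩
      rw [hδP _ (ZP.mul_mem hy (ZP.pow_mem hzZ j)), hιw _ h1 h2]
    · rw [hδP y hy]
      refine ⟨fun e => ?_, fun e => congrArg Subtype.val
        (hιw y (hRfix σ hσR y hy) (hfixpow _ τ₁ y hτ₁τ e))⟩
      obtain ⟨j, -, h2, h3⟩ := hdec y hy
      have h2j : zP ^ (2 * j) = 1 := by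
        rw [← mul_eq_left (a := y), ← h3]
        exact Subtype.ext e
      have hzj : zP ^ j = 1 := by
        rw [← orderOf_dvd_iff_pow_eq_one, hσt.orderOf_eq] at h2j ⊢
        exact (Nat.Coprime.dvd_of_dvd_mul_left
          ((Nat.coprime_primes hp.out Nat.prime_two).2 hp2) h2j)
      rw [hzj, mul_one] at h2
      exact hfixpow τ₁ _ y hττ₁ h2
  obtain ⟨δ, hδ, hδz, hδdec, hδfix⟩ := hpairδ α hαG hτne
  have hzS : (zP : Ω) ∈ zS S := (memZP zP).1 hzZ
  have hzpΩ : (zP : Ω) ^ p = 1 := by rw [← SubmonoidClass.coe_pow, hzp, OneMemClass.coe_one]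
  have hkey : ∀ y ∈ ZP, autFun δ (y : Ω) = y → ∀ β ∈ G, β y ∈ ZP := by
    intro y hy hyd β hβ
    suffices hgoal : (β⁻¹ * σ * β⁻¹⁻¹) y = y by
      have := (hstabconj β⁻¹ y).1 hgoal
      rwa [inv_inv] at this
    by_cases hn : β⁻¹ * σ * β⁻¹⁻¹ ∈ Subgroup.zpowers σ
    · exact hfixpow σ _ y hn (hRfix σ hσR y hy)
    obtain ⟨δ', hδ', hδ'z, hδ'dec, hδ'fix⟩ := hpairδ β⁻¹ (G.inv_mem hβ) hn
    refine (hδ'fix y hy).1 ?_
    obtain ⟨j, -, hj⟩ := hδ'dec y hy
    exact center_fix_unique hS hF hzS hzpΩ hδ hδ' hδz hδ'z ((memZP y).1 hy) hyd (i := 2 * j)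
      (by rw [hj]; simp)
  have hcomm_eq : ∀ b ∈ A, ∀ hb : b ∈ Subgroup.normalizer (P : Set Ω),
      ((xP⁻¹ * P.normalizerMonoidHom ⟨b, hb⟩ xP : P) : Ω) = ⁅b, x⁆ := by
    intro b hbA hb
    show x⁻¹ * (b * x * b⁻¹) = ⁅b, x⁆
    have hm : b * x * b⁻¹ * x⁻¹ ∈ P :=
      P.mul_mem ((Subgroup.mem_normalizer_iff.1 hb x).1 hx) (P.inv_mem hx)
    rw [commutatorElement_def]
    calc x⁻¹ * (b * x * b⁻¹) = x⁻¹ * ((b * x * b⁻¹ * x⁻¹) * x) := by rw [inv_mul_cancel_right]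
      _ = _ := by rw [hab _ hm x hx, inv_mul_cancel_left]
  refine ⟨zP, hzS, fun e => hz1 (Subtype.ext e), hzpΩ, ?_, fun b hb hbz => ?_, δ, hδ, hδz,
    fun y hy => ?_, fun y hy hyd β hβ => ?_⟩
  · obtain ⟨b, hb, hbn, hbe⟩ := hRe σ hσR
    refine ⟨b, hb, ?_⟩
    rw [← hcomm_eq b hb hbn]
    have e : P.normalizerMonoidHom ⟨b, hbn⟩ = σ :=
      MulEquiv.ext fun y => Subtype.ext (hbe y).symm
    rw [e]
  · have hbn : b ∈ Subgroup.normalizer (P : Set Ω) := by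
      have hone : ∀ b ∈ A, ⁅b, x⁆ ∈ zS S → ∀ y ∈ P, b * y * b⁻¹ ∈ P := by
        intro b hb hbz y hy
        obtain ⟨i, hi⟩ := hgenP y hy
        rw [← inv_mul_cancel_right y (x ^ i)]
        have e : b * (y * (x ^ i)⁻¹ * x ^ i) * b⁻¹ =
            y * (x ^ i)⁻¹ * (⁅b, x⁆ * x) ^ i := by
          rw [commutatorElement_def, inv_mul_cancel_right (b * x * b⁻¹) x, conj_pow]
          calc b * (y * (x ^ i)⁻¹ * x ^ i) * b⁻¹
              = b * (y * (x ^ i)⁻¹) * b⁻¹ * (b * x ^ i * b⁻¹) := by group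
            _ = _ := by rw [(mem_zS.1 hi).2 b (hA.le hb), mul_inv_cancel_right]
        rw [e]
        exact P.mul_mem (hZP hi) (P.pow_mem (P.mul_mem (hZP hbz) hx) i)
      have hbinv : ⁅b⁻¹, x⁆ ∈ zS S := by
        have h := hA.comm_elt_mul hxS (A.inv_mem hb) hb
        rw [inv_mul_cancel, commutatorElement_one_left] at h
        rw [eq_inv_of_mul_eq_one_left h.symm]
        exact (zS S).inv_mem hbz
      refine mem_normalizer_of_forall (hone b hb hbz) fun y hy => ?_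
      simpa using hone b⁻¹ (A.inv_mem hb) hbinv y hy
    rw [← hcomm_eq b hb hbn]
    obtain ⟨n, hn⟩ : ∃ n : ℕ, σ ^ n = P.normalizerMonoidHom ⟨b, hbn⟩ :=
      (Submonoid.mem_powers_iff _ _).1 ((isOfFinOrder_of_finite σ).mem_powers_iff_mem_zpowers.2
        (hRσ _ (mem_autInducedBy.2 ⟨b, hA.le hb, fun y => rfl⟩)))
    rw [← hn, hσt.pow_apply (i := 1) (by rw [pow_one, hσx]), inv_mul_cancel_left, pow_one,
      SubmonoidClass.coe_pow]
    exact Subgroup.pow_mem _ (Subgroup.mem_zpowers _) n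
  · obtain ⟨j, hj, -⟩ := hδdec ⟨y, hZP hy⟩ ((memZP _).2 hy)
    exact ⟨j, by simpa using hj⟩
  · have hy' : (⟨y, hZP hy⟩ : P) ∈ ZP := (memZP _).2 hy
    have hβy : β ⟨y, hZP hy⟩ ∈ ZP := hkey _ hy' hyd β hβ
    rw [show y = ((⟨y, hZP hy⟩ : P) : Ω) from rfl, autFun_coe]
    refine ⟨(memZP _).1 hβy, (hδfix _ hβy).2 ((hstabconj α _).2 ?_)⟩
    rw [← MulAut.mul_apply]
    exact hkey _ hy' hyd _ (G.mul_mem (G.inv_mem hαG) hβ)

/-- The main statement. -/
theorem abelianIndexP_not_essential (hS : IsPGroup p S) (hF : F.IsSaturated p) (hp2 : p ≠ 2)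
    (hna : ¬ ∀ a ∈ S, ∀ b ∈ S, a * b = b * a) (hA : AIFrame S A p)
    (huniq : ∀ γ : MulAut S, ∀ a ∈ A, autFun γ a ∈ A) (hcore : F.core = ⊥)
    (hAe : ¬ F.IsEssential p A) :
    (∃ x ∈ S, x ∉ A ∧ F.IsEssential p (zS S ⊔ Subgroup.zpowers x)) ∧
      zS S ≤ (commutator ↥S).map S.subtype ∧
      ∀ n : ℕ, Nat.card S = p ^ n → Nat.card A * p = Nat.card S → 3 ≤ n →
        Subgroup.lowerCentralSeries S (n - 2) ≠ ⊥ := by
  have hne : ∀ R, F.IsEssential p R → R ≠ A := fun R hR e => hAe (e ▸ hR)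
  have hnt : Nontrivial S := by
    by_contra h
    rw [not_nontrivial_iff_subsingleton] at h
    exact hna fun a ha b hb => congrArg Subtype.val
      (Subsingleton.elim ((⟨a, ha⟩ : S) * ⟨b, hb⟩) (⟨b, hb⟩ * ⟨a, ha⟩))
  have hZne : zS S ≠ ⊥ := fun e => by
    haveI := hS.center_nontrivial
    obtain ⟨⟨c, hc⟩, hc1⟩ := exists_ne (1 : Subgroup.center S)
    refine hc1 (Subtype.ext (Subtype.ext (Subgroup.mem_bot.1 (e ▸ ?_))))
    rwa [← zS_subgroupOf, Subgroup.mem_subgroupOf] at hc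
  -- an abelian essential subgroup exists
  obtain ⟨P, hP, x, hx, hxA, hgenP⟩ : ∃ P, F.IsEssential p P ∧ ∃ x ∈ P, x ∉ A ∧
      ∀ t ∈ P, ∃ i : ℕ, t * (x ^ i)⁻¹ ∈ zS S := by
    by_contra hcon
    refine hZne (le_bot_iff.1 (hcore ▸ le_core (isNormal_of_essential hS hF (zS_le S)
      (fun γ _ y hy => autFun_center_mem hy) fun R hR => ?_)))
    obtain ⟨-, hZR, x, hx, hxA, h | h⟩ := hA.ess_cases hR (hne R hR)
    · exact absurd ⟨R, hR, x, hx, hxA, h⟩ hcon
    · exact ⟨hZR, h⟩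
  have hxS := hP.1.1 hx
  obtain ⟨z, hz, hz1, hzp, ⟨b₀, hb₀, hb₀z⟩, hzc, δ, hδ, hδz, hδdec, hδinv⟩ :=
    hA.exists_inversion hS hF hp2 hP hx hxA hgenP
  have hzgen : ∀ y ∈ S, y ∉ A → ∀ b ∈ A, ⁅b, y⁆ ∈ zS S → ⁅b, y⁆ ∈ Subgroup.zpowers z := by
    intro y hy hyA b hb hc
    have h1 := hzc b hb (hA.comm_elt_change hxS hy hyA hb hc).1
    have h2 := (hA.comm_elt_change hy hxS hxA hb (hA.comm_elt_change hxS hy hyA hb hc).1).2
    exact (Subgroup.zpowers_le.2 h1) h2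
  have hpow : ∀ c ∈ Subgroup.zpowers z, ∃ k : ℕ, z ^ k = c := fun c hc =>
    (Submonoid.mem_powers_iff _ _).1
      ((isOfFinOrder_iff_pow_eq_one.2 ⟨p, hp.out.pos, hzp⟩).mem_powers_iff_mem_zpowers.2 hc)
  -- the complement
  let W : Subgroup Ω :=
    { carrier := {y | y ∈ zS S ∧ autFun δ y = y}
      one_mem' := ⟨(zS S).one_mem, by
        rw [show (1 : Ω) = ((1 : S) : Ω) from rfl, autFun_coe, map_one]⟩
      mul_mem' := fun {a b} ha hb => ⟨(zS S).mul_mem ha.1 hb.1, by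
        rw [autFun_aux_mul δ ha.1.1 hb.1.1, ha.2, hb.2]⟩
      inv_mem' := fun {a} ha => ⟨(zS S).inv_mem ha.1, by
        rw [autFun_aux_inv δ ha.1.1, ha.2]⟩ }
  have hWmem : ∀ y, y ∈ W ↔ y ∈ zS S ∧ autFun δ y = y := fun y => Iff.rfl
  have hδdisp : ∀ u ∈ zS S, ∃ i : ℕ, autFun δ u = u * z ^ i := by
    intro u hu
    obtain ⟨j, hj⟩ := hδdec u hu
    refine ⟨j + j, ?_⟩
    rw [autFun_aux_mul δ hu.1 (S.pow_mem hz.1 j), autFun_aux_pow δ hz.1, hδz, inv_pow,
      mul_inv_eq_iff_eq_mul, mul_assoc, ← pow_add] at hj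
    exact hj
  have htop : ∀ γ ∈ F.autGroup S, ∀ y ∈ W, autFun γ y ∈ W := by
    intro γ hγ y hy
    obtain ⟨hyZ, hyd⟩ := (hWmem y).1 hy
    have hγz : ∀ γ' : MulAut S, ∃ k : ℕ, z ^ k = autFun γ' z := by
      intro γ'
      refine hpow _ ?_
      have hbS := hA.le hb₀
      have e : autFun γ' z = ⁅autFun γ' b₀, autFun γ' x⁆ := by
        rw [← hb₀z, commutatorElement_def, commutatorElement_def]
        rw [autFun_aux_mul γ' (S.mul_mem (S.mul_mem hbS hxS) (S.inv_mem hbS)) (S.inv_mem hxS),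
          autFun_aux_mul γ' (S.mul_mem hbS hxS) (S.inv_mem hbS), autFun_aux_mul γ' hbS hxS,
          autFun_aux_inv γ' hbS, autFun_aux_inv γ' hxS]
      rw [e]
      refine hzgen _ (autFun_mem γ' hxS) (fun h => hxA ?_) _ (huniq γ' b₀ hb₀) ?_
      · have := huniq γ'⁻¹ _ h
        rwa [autFun_inv_apply γ' hxS] at this
      · rw [← e]; exact autFun_center_mem hz
    set δ' := γ * δ * γ⁻¹ with hδ'
    have hδ'mem : δ' ∈ F.autGroup S := mul_mem (mul_mem hγ hδ) (inv_mem hγ)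
    obtain ⟨k, hk⟩ := hγz γ⁻¹
    have hkz : autFun γ (z ^ k) = z := by
      rw [hk, ← autFun_mul _ _ hz.1, mul_inv_cancel,
        show z = ((⟨z, hz.1⟩ : S) : Ω) from rfl, autFun_coe]
      rfl
    have hδ'z : autFun δ' z = z⁻¹ := by
      rw [hδ', autFun_mul _ _ hz.1, ← hk, autFun_mul _ _ (S.pow_mem hz.1 k),
        autFun_aux_pow δ hz.1, hδz, inv_pow, autFun_aux_inv γ (S.pow_mem hz.1 k), hkz]
    have hu : autFun γ y ∈ zS S := autFun_center_mem hyZ
    have hfix' : autFun δ' (autFun γ y) = autFun γ y := by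
      rw [hδ', autFun_mul _ _ hu.1, autFun_inv_apply γ hyZ.1, autFun_mul _ _ hyZ.1, hyd]
    obtain ⟨i, hi⟩ := hδdisp _ hu
    exact (hWmem _).2 ⟨hu, center_fix_unique hS hF hz hzp hδ'mem hδ hδ'z hδz hu hfix' hi⟩
  have hWnormal : F.IsNormal W := by
    refine isNormal_of_essential hS hF (fun y hy => hy.1.1) htop fun R hR => ?_
    obtain ⟨hRS, hZR, y', hy', hy'A, h | h⟩ := hA.ess_cases hR (hne R hR)
    · refine ⟨fun u hu => hZR hu.1, fun α hα u hu => ?_⟩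
      obtain ⟨hu1, hu2⟩ := (hWmem u).1 hu
      obtain ⟨z', hz', hz'1, hz'p, ⟨b', hb', hb'z⟩, -, δ', hδ', hδ'z, hδ'dec, hδ'inv⟩ :=
        hA.exists_inversion hS hF hp2 hR hy' hy'A h
      obtain ⟨k, hk⟩ := hpow z' (hb'z ▸ hzgen y' (hRS hy') hy'A b' hb' (hb'z ▸ hz'))
      have hordz : orderOf z = p := orderOf_eq_prime hzp hz1
      obtain ⟨n, hn⟩ := exists_pow_eq_self_of_coprime (x := z) (n := k) (by
        rw [hordz]
        refine ((hp.out.coprime_iff_not_dvd).2 fun ⟨d, hd⟩ => hz'1 ?_).symm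
        rw [← hk, hd, pow_mul, hzp, one_pow])
      have hzz' : z = z' ^ n := by rw [← hk, hn]
      have hδ'z₀ : autFun δ' z = z⁻¹ := by
        rw [hzz', autFun_aux_pow δ' hz'.1, hδ'z, inv_pow]
      have hdisp' : ∀ v ∈ zS S, ∃ i : ℕ, autFun δ' v = v * z ^ i := by
        intro v hv
        obtain ⟨j, hj⟩ := hδ'dec v hv
        refine ⟨k * (j + j), ?_⟩
        rw [autFun_aux_mul δ' hv.1 (S.pow_mem hz'.1 j), autFun_aux_pow δ' hz'.1, hδ'z, inv_pow,
          mul_inv_eq_iff_eq_mul, mul_assoc, ← pow_add] at hj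
        rw [hj, pow_mul, hk]
      obtain ⟨i, hi⟩ := hdisp' u hu1
      have hu' := center_fix_unique hS hF hz hzp hδ hδ' hδz hδ'z₀ hu1 hu2 hi
      obtain ⟨h1, h2⟩ := hδ'inv u hu1 hu' α hα
      obtain ⟨i', hi'⟩ := hδdisp _ h1
      exact (hWmem _).2 ⟨h1, center_fix_unique hS hF hz hzp hδ' hδ hδ'z₀ hδz h1 h2 hi'⟩
    · refine ⟨fun u hu => hZR hu.1, fun α hα u hu => ?_⟩
      obtain ⟨γ, hγ, hγe⟩ := exists_top_of_center hS hF hRS hZR hα (h α hα)
      rw [← hγe u hu.1]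
      exact htop γ hγ u hu
  have hZz : zS S ≤ Subgroup.zpowers z := by
    intro y hy
    obtain ⟨j, hj⟩ := hδdec y hy
    have hm : y * z ^ j ∈ (⊥ : Subgroup Ω) := hcore ▸ le_core hWnormal
      ((hWmem _).2 ⟨(zS S).mul_mem hy ((zS S).pow_mem hz j), hj⟩)
    rw [eq_inv_of_mul_eq_one_left (Subgroup.mem_bot.1 hm)]
    exact Subgroup.inv_mem _ (Subgroup.pow_mem _ (Subgroup.mem_zpowers z) j)
  refine ⟨⟨x, hxS, hxA, ?_⟩, fun y hy => ?_, fun n hn hcardA hn3 => ?_⟩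
  · have e : P = zS S ⊔ Subgroup.zpowers x := by
      refine le_antisymm (fun t ht => ?_) (sup_le (fun c hc => centralizerIn_le_of_centric hP.1
        (mem_centralizerIn.2 ⟨hc.1, fun y hy => (mem_zS.1 hc).2 y (hP.1.1 hy)⟩))
        (Subgroup.zpowers_le.2 hx))
      obtain ⟨i, hi⟩ := hgenP t ht
      rw [← inv_mul_cancel_right t (x ^ i)]
      exact mul_mem (Subgroup.mem_sup_left hi)
        (Subgroup.mem_sup_right (Subgroup.pow_mem _ (Subgroup.mem_zpowers x) i))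
    exact e ▸ hP
  · obtain ⟨k, hk⟩ := hpow y (hZz hy)
    rw [← hk]
    refine Subgroup.pow_mem _ ?_ k
    refine ⟨⁅(⟨b₀, hA.le hb₀⟩ : S), (⟨x, hxS⟩ : S)⁆, ?_, ?_⟩
    · exact Subgroup.commutator_mem_commutator (Subgroup.mem_top _) (Subgroup.mem_top _)
    · rw [map_commutatorElement]; exact hb₀z
  · haveI := finite_of_le hA.le
    letI : CommGroup A := { (inferInstance : Group A) with
      mul_comm := fun a b => Subtype.ext (hA.comm a a.2 b b.2) }
    let f : A →* A := MonoidHom.mk' (fun a => ⟨⁅(a : Ω), x⁆, hA.comm_elt_mem hxS a.2⟩)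
      fun a b => Subtype.ext (hA.comm_elt_mul hxS a.2 b.2)
    intro hbot
    have hiter : ∀ (k : ℕ) (a : A), ((f^[k] a : A) : Ω) ∈ Subgroup.lowerCentralSeries S k := by
      intro k
      induction k with
      | zero => intro a; exact hA.le a.2
      | succ k ih =>
        intro a
        rw [Function.iterate_succ_apply', Subgroup.lowerCentralSeries_succ]
        exact Subgroup.commutator_mem_commutator (ih a) hxS
    let g : ℕ → (A →* A) := fun k => k.rec (MonoidHom.id A) fun _ h => h.comp f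
    have hg : ∀ (k : ℕ) (a : A), g k a = f^[k] a := by
      intro k
      induction k with
      | zero => intro a; rfl
      | succ k ih => intro a; exact ih (f a)
    have hker1 : Nat.card f.ker ≤ p := by
      rw [← orderOf_eq_prime hzp hz1, ← Nat.card_zpowers]
      haveI : Finite (Subgroup.zpowers z) :=
        (isOfFinOrder_iff_pow_eq_one.2 ⟨p, hp.out.pos, hzp⟩).finite_zpowers
      refine Nat.card_le_card_of_injective
        (fun a => (⟨((a : A) : Ω), hZz (hA.cent x hxS hxA _ (a : A).2 ?_)⟩ : Subgroup.zpowers z))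
        fun a b e => ?_
      · have h1 : ⁅((a : A) : Ω), x⁆ = 1 := congrArg Subtype.val a.2
        exact commutatorElement_eq_one_iff_mul_comm.1 h1
      · exact Subtype.ext (Subtype.ext (congrArg (fun v : Subgroup.zpowers z => (v : Ω)) e))
    have hkerk : ∀ k, Nat.card (g k).ker ≤ p ^ k := by
      intro k
      induction k with
      | zero =>
        rw [pow_zero]
        refine le_of_eq (Nat.card_eq_one_iff_unique.2 ⟨⟨fun a b => Subtype.ext ?_⟩, ⟨1⟩⟩)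
        exact (MonoidHom.mem_ker.1 a.2).trans (MonoidHom.mem_ker.1 b.2).symm
      | succ k ih =>
        have hres : ∀ a ∈ (g (k + 1)).ker, f a ∈ (g k).ker := fun a ha => ha
        let r : (g (k + 1)).ker →* (g k).ker :=
          (f.comp (g (k + 1)).ker.subtype).codRestrict _ fun a => hres a a.2
        have h1 := r.ker.card_mul_index
        rw [Subgroup.index_ker] at h1
        rw [← h1, pow_succ']
        refine Nat.mul_le_mul (le_trans ?_ hker1) ((Subgroup.card_le_card_group _).trans ih)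
        refine Nat.card_le_card_of_injective (fun a => (⟨((a : (g (k + 1)).ker) : A),
          congrArg Subtype.val a.2⟩ : f.ker)) fun a b e => ?_
        exact Subtype.ext (Subtype.ext (congrArg (fun v : f.ker => (v : A)) e))
    have htopker : (g (n - 2)).ker = ⊤ := eq_top_iff.2 fun a _ => by
      rw [MonoidHom.mem_ker, hg]
      exact Subtype.ext (Subgroup.mem_bot.1 (hbot ▸ hiter (n - 2) a))
    have hle := hkerk (n - 2)
    rw [htopker, Subgroup.card_top] at hle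
    have h1 : p ^ n ≤ p ^ (n - 2) * p := by
      rw [← hn, ← hcardA]; exact Nat.mul_le_mul_right p hle
    rw [← pow_succ, Nat.pow_le_pow_iff_right hp.out.one_lt] at h1
    omega

end Cfsg.Agent.Fus
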