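import Cfsg.Agent.Lib.Fus.AbelianIndexPEss

/-!
The second centre, the derived subgroup and the class of a group with an abelian subgroup of index
`p` and an essential subgroup outside it.
-/

set_option autoImplicit false
set_option linter.style.haveILetI false
set_option linter.unusedSectionVars false

open scoped Classical commutatorElement

namespace Cfsg.Agent.Fus

open Subgroup FusionSystem

universe u

variable {Ω : Type u} [Group Ω] {S A P : Subgroup Ω} {p : ℕ} {x w : Ω}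

theorem mem_zTwo {g : Ω} : g ∈ (Subgroup.upperCentralSeries ↥S 2).map S.subtype ↔
    g ∈ S ∧ ∀ t ∈ S, ⁅g, t⁆ ∈ zS S := by
  have hc : ∀ u : S, u ∈ Subgroup.upperCentralSeries ↥S 1 ↔ (u : Ω) ∈ zS S := fun u => by
    rw [Subgroup.upperCentralSeries_one, ← zS_subgroupOf, Subgroup.mem_subgroupOf]
  constructor
  · rintro ⟨u, hu, rfl⟩
    refine ⟨u.2, fun t ht => ?_⟩
    have h := (hc _).1 (Subgroup.mem_upperCentralSeries_succ_iff.1 hu ⟨t, ht⟩)
    exact h
  · rintro ⟨hg, h⟩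
    exact ⟨⟨g, hg⟩, Subgroup.mem_upperCentralSeries_succ_iff.2
      fun t => (hc _).2 (h t t.2), rfl⟩

variable [Finite S] [hp : Fact p.Prime]

namespace AIEss

variable (hA : AIFrame S A p) (h : AIEss S A P p x w)
include hA h

theorem orderOf_comm : orderOf ⁅w, x⁆ = p := by
  refine orderOf_eq_prime ?_ fun e => h.w_not ?_
  · rw [← hA.comm_elt_npow h.x_mem h.w_mem]
    exact commutatorElement_eq_one_iff_mul_comm.2 ((mem_zS.1 h.w_pow).2 x h.x_mem).symm
  · exact hA.cent x h.x_mem h.x_not w h.w_mem (commutatorElement_eq_one_iff_mul_comm.1 e)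

omit hA in
theorem comm_elt_eq (hA : AIFrame S A p) {c : Ω} (hc : c ∈ zS S) {k : ℕ} :
    ⁅c * w ^ k, x⁆ = ⁅w, x⁆ ^ k := by
  rw [hA.comm_elt_mul h.x_mem (hA.zle hc) (A.pow_mem h.w_mem k),
    commutatorElement_eq_one_iff_mul_comm.2 ((mem_zS.1 hc).2 x h.x_mem).symm, one_mul,
    hA.comm_elt_npow h.x_mem h.w_mem]

theorem mem_zTwo_iff {b : Ω} (hb : b ∈ A) :
    b ∈ (Subgroup.upperCentralSeries ↥S 2).map S.subtype ↔ ⁅b, x⁆ ∈ zS S := by
  rw [mem_zTwo]
  refine ⟨fun hh => hh.2 x h.x_mem, fun hc => ⟨hA.le hb, fun t ht => ?_⟩⟩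
  exact (hA.comm_elt_change ht h.x_mem h.x_not hb hc).1

variable (huniq : ∀ B : Subgroup Ω, B ≤ S → IsMulCommutative ↥B →
  (B.subgroupOf S).index = p → B = A)
include huniq

theorem exists_not_central : ∃ a ∈ A, ⁅a, x⁆ ∉ zS S := by
  by_contra hcon
  push Not at hcon
  set B := zS S ⊔ Subgroup.zpowers x with hB
  have hxB : x ∈ B := Subgroup.mem_sup_right (Subgroup.mem_zpowers x)
  have hBS : B ≤ S := sup_le (zS_le S) (Subgroup.zpowers_le.2 h.x_mem)
  have hcomm : ∀ a ∈ B, ∀ b ∈ B, a * b = b * a := by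
    have hle : B ≤ S ⊓ Subgroup.centralizer ({x} : Set Ω) := sup_le
      (fun c hc => ⟨hc.1, Subgroup.mem_centralizer_singleton_iff.2
        ((mem_zS.1 hc).2 x h.x_mem).symm⟩)
      (Subgroup.zpowers_le.2 ⟨h.x_mem, Subgroup.mem_centralizer_singleton_iff.2 rfl⟩)
    intro a ha b hb
    suffices hb' : B ≤ Subgroup.centralizer ({a} : Set Ω) from
      (Subgroup.mem_centralizer_singleton_iff.1 (hb' hb)).symm
    refine sup_le (fun c hc => Subgroup.mem_centralizer_singleton_iff.2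
      ((mem_zS.1 hc).2 a (hBS ha)).symm) (Subgroup.zpowers_le.2 ?_)
    exact Subgroup.mem_centralizer_singleton_iff.2
      (Subgroup.mem_centralizer_singleton_iff.1 (hle ha).2).symm
  have hBA : B ≠ A := fun e => h.x_not (e ▸ hxB)
  refine hBA (huniq B hBS ⟨⟨fun a b => Subtype.ext (hcomm a a.2 b b.2)⟩⟩ ?_)
  have hnA : ∀ b ∈ A, b ∈ Subgroup.normalizer (B : Set Ω) := fun b hb =>
    hA.normalizes hBS hxB h.x_not hb (Subgroup.mem_sup_left (hcon b hb))
  refine index_eq_of_gen hBS (fun g hg => ?_) (s := w) (hA.le h.w_mem) (fun hw => ?_)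
    (Subgroup.mem_sup_left h.w_pow) fun g hg => ?_
  · obtain ⟨i, hi⟩ := hA.gen x h.x_mem h.x_not g hg
    rw [← inv_mul_cancel_right g (x ^ i)]
    exact Subgroup.mul_mem _ (hnA _ hi) (Subgroup.le_normalizer (B.pow_mem hxB i))
  · exact h.w_not (hA.cent x h.x_mem h.x_not w h.w_mem (hcomm w hw x hxB))
  · obtain ⟨i, hi⟩ := hA.gen x h.x_mem h.x_not g hg
    obtain ⟨k, hk⟩ := h.w_gen _ hi (hcon _ hi)
    refine ⟨k, ?_⟩
    have e : g * (w ^ k)⁻¹ = g * (x ^ i)⁻¹ * (w ^ k)⁻¹ * (w ^ k * x ^ i * (w ^ k)⁻¹) := by group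
    rw [e]
    exact B.mul_mem (Subgroup.mem_sup_left hk) ((Subgroup.mem_normalizer_iff.1
      (hnA _ (A.pow_mem h.w_mem k)) _).1 (B.pow_mem hxB i))

theorem zTwo_le : (Subgroup.upperCentralSeries ↥S 2).map S.subtype ≤ A := by
  intro g hg
  obtain ⟨hgS, hgc⟩ := mem_zTwo.1 hg
  by_contra hgA
  obtain ⟨a, ha, hax⟩ := h.exists_not_central hA huniq
  have hag : ⁅a, g⁆ ∈ zS S := by
    rw [← commutatorElement_inv]
    exact (zS S).inv_mem (hgc a (hA.le ha))
  exact hax (hA.comm_elt_change h.x_mem hgS hgA ha hag).1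

theorem shape_eq (hPS : P ≤ S) :
    P = (Subgroup.upperCentralSeries ↥S 2).map S.subtype ⊔ Subgroup.zpowers x ∨
      P = zS S ⊔ Subgroup.zpowers x := by
  rcases h.shape with e | ⟨hxP, hmem⟩
  · exact Or.inr e
  refine Or.inl (le_antisymm (fun t ht => ?_) (sup_le (fun b hb => ?_)
    (Subgroup.zpowers_le.2 hxP)))
  · obtain ⟨i, hi⟩ := hA.gen x h.x_mem h.x_not t (hPS ht)
    rw [← inv_mul_cancel_right t (x ^ i)]
    refine mul_mem (Subgroup.mem_sup_left ?_)
      (Subgroup.mem_sup_right (Subgroup.pow_mem _ (Subgroup.mem_zpowers x) i))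
    exact (h.mem_zTwo_iff hA hi).2
      ((hmem _ hi).1 (P.mul_mem ht (P.inv_mem (P.pow_mem hxP i))))
  · exact (hmem b (h.zTwo_le hA huniq hb)).2
      ((h.mem_zTwo_iff hA (h.zTwo_le hA huniq hb)).1 hb)

theorem index_zTwo :
    ((zS S).subgroupOf ((Subgroup.upperCentralSeries ↥S 2).map S.subtype)).index = p := by
  have hle : (Subgroup.upperCentralSeries ↥S 2).map S.subtype ≤ S := Subgroup.map_subtype_le _
  haveI := finite_of_le hle
  refine index_eq_of_gen ?_ (fun g hg => ?_) (s := w)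
    ((h.mem_zTwo_iff hA h.w_mem).2 h.w_comm) h.w_not h.w_pow fun g hg => ?_
  · exact fun c hc => (h.mem_zTwo_iff hA (hA.zle hc)).2 (by
      rw [commutatorElement_eq_one_iff_mul_comm.2 ((mem_zS.1 hc).2 x h.x_mem).symm]
      exact (zS S).one_mem)
  · exact mem_normalizer_of_forall
      (fun c hc => by rw [(mem_zS.1 hc).2 g (hle hg), mul_inv_cancel_right]; exact hc)
      (fun c hc => by rw [(mem_zS.1 hc).2 g⁻¹ (S.inv_mem (hle hg)), inv_mul_cancel_right]; exact hc)
  · exact h.w_gen g (h.zTwo_le hA huniq hg) ((h.mem_zTwo_iff hA (h.zTwo_le hA huniq hg)).1 hg)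

omit huniq in
theorem derived_mem {c : Ω} :
    c ∈ (commutator ↥S).map S.subtype ↔ ∃ a ∈ A, ⁅a, x⁆ = c := by
  have hx := h.x_mem
  constructor
  · intro hc
    let D : Subgroup Ω :=
      { carrier := {c | ∃ a ∈ A, ⁅a, x⁆ = c}
        one_mem' := ⟨1, A.one_mem, commutatorElement_one_left x⟩
        mul_mem' := fun {u v} ⟨a, ha, hu⟩ ⟨b, hb, hv⟩ =>
          ⟨a * b, A.mul_mem ha hb, by rw [hA.comm_elt_mul hx ha hb, hu, hv]⟩
        inv_mem' := fun {u} ⟨a, ha, hu⟩ => ⟨a⁻¹, A.inv_mem ha, by rw [hA.comm_elt_inv hx ha, hu]⟩ }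
    have hd : ∀ (i : ℕ), ∀ b ∈ A, x ^ i * b * (x ^ i)⁻¹ * b⁻¹ ∈ D := by
      intro i
      induction i with
      | zero => intro b _; simp
      | succ i ih =>
        intro b hb
        have hu : x ^ i * b * (x ^ i)⁻¹ ∈ A := hA.normal _ (S.pow_mem hx i) b hb
        have e : x ^ (i + 1) * b * (x ^ (i + 1))⁻¹ * b⁻¹ =
            ⁅x ^ i * b * (x ^ i)⁻¹, x⁆⁻¹ * (x ^ i * b * (x ^ i)⁻¹ * b⁻¹) := by
          rw [commutatorElement_inv, commutatorElement_def, pow_succ']
          group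
        rw [e]
        exact D.mul_mem (D.inv_mem ⟨_, hu, rfl⟩) (ih b hb)
    have hle : (commutator ↥S).map S.subtype ≤ D := by
      rw [commutator_def, Subgroup.map_commutator, ← MonoidHom.range_eq_map, Subgroup.range_subtype]
      refine Subgroup.commutator_le.2 fun g hg k hk => ?_
      obtain ⟨i, hi⟩ := hA.gen x hx h.x_not g hg
      obtain ⟨j, hj⟩ := hA.gen x hx h.x_not k hk
      set a := g * (x ^ i)⁻¹ with ha
      set b := k * (x ^ j)⁻¹ with hb
      have hg' : g = a * x ^ i := by rw [ha, inv_mul_cancel_right]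
      have hk' : k = b * x ^ j := by rw [hb, inv_mul_cancel_right]
      clear_value a b
      have h1 : x ^ i * b * (x ^ i)⁻¹ ∈ A := hA.normal _ (S.pow_mem hx i) b hj
      have h2 : x ^ j * a⁻¹ * (x ^ j)⁻¹ ∈ A := hA.normal _ (S.pow_mem hx j) _ (A.inv_mem hi)
      have e : ⁅g, k⁆ = a * (x ^ i * b * (x ^ i)⁻¹) * (x ^ j * a⁻¹ * (x ^ j)⁻¹) * b⁻¹ := by
        rw [hg', hk', commutatorElement_def]
        group
      have e2 : ⁅g, k⁆ = (x ^ i * b * (x ^ i)⁻¹ * b⁻¹) * (x ^ j * a⁻¹ * (x ^ j)⁻¹ * a⁻¹⁻¹) := by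
        rw [e, hA.comm a hi _ h1, inv_inv,
          show x ^ i * b * (x ^ i)⁻¹ * a * (x ^ j * a⁻¹ * (x ^ j)⁻¹) * b⁻¹ =
            x ^ i * b * (x ^ i)⁻¹ * (a * (x ^ j * a⁻¹ * (x ^ j)⁻¹) * b⁻¹) by group,
          hA.comm a hi _ h2, hA.comm _ (A.mul_mem h2 hi) _ (A.inv_mem hj)]
        group
      rw [e2]
      exact D.mul_mem (hd i b hj) (hd j _ (A.inv_mem hi))
    exact hle hc
  · rintro ⟨a, ha, rfl⟩
    exact ⟨⁅(⟨a, hA.le ha⟩ : S), (⟨x, hx⟩ : S)⁆,
      Subgroup.commutator_mem_commutator (Subgroup.mem_top _) (Subgroup.mem_top _),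
      map_commutatorElement S.subtype _ _⟩

omit huniq in
theorem center_inf_derived :
    zS S ⊓ (commutator ↥S).map S.subtype = Subgroup.zpowers ⁅w, x⁆ := by
  refine le_antisymm ?_ (Subgroup.zpowers_le.2 ⟨h.w_comm, (h.derived_mem hA).2 ⟨w, h.w_mem, rfl⟩⟩)
  rintro c ⟨hcZ, hcD⟩
  obtain ⟨a, ha, rfl⟩ := (h.derived_mem hA).1 hcD
  obtain ⟨k, hk⟩ := h.w_gen a ha hcZ
  rw [← inv_mul_cancel_right a (w ^ k), h.comm_elt_eq hA hk]
  exact Subgroup.pow_mem _ (Subgroup.mem_zpowers _) k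

omit huniq in
theorem struct_index_class :
    ((zS S ⊔ (commutator ↥S).map S.subtype).subgroupOf A).index = p ∧
      ∀ m : ℕ, ((zS S).subgroupOf S).index = p ^ m → Nat.card A * p = Nat.card S → 3 ≤ m →
        ¬ Subgroup.lowerCentralSeries S (m - 2) ≤ zS S := by
  have hx := h.x_mem
  haveI := finite_of_le hA.le
  letI : CommGroup A := { (inferInstance : Group A) with
    mul_comm := fun a b => Subtype.ext (hA.comm a a.2 b b.2) }
  let f : A →* A := MonoidHom.mk' (fun a => ⟨⁅(a : Ω), x⁆, hA.comm_elt_mem hx a.2⟩)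
    fun a b => Subtype.ext (hA.comm_elt_mul hx a.2 b.2)
  set Zs := (zS S).subgroupOf A with hZs
  have hker : f.ker = Zs := by
    ext a
    rw [MonoidHom.mem_ker, hZs, Subgroup.mem_subgroupOf]
    refine ⟨fun e => hA.cent x hx h.x_not a a.2
      (commutatorElement_eq_one_iff_mul_comm.1 (congrArg Subtype.val e)), fun hz => Subtype.ext ?_⟩
    exact commutatorElement_eq_one_iff_mul_comm.2 ((mem_zS.1 hz).2 x hx).symm
  have hrange : f.range = ((commutator ↥S).map S.subtype).subgroupOf A := by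
    ext a
    rw [MonoidHom.mem_range, Subgroup.mem_subgroupOf, h.derived_mem hA]
    exact ⟨fun ⟨b, e⟩ => ⟨b, b.2, congrArg Subtype.val e⟩,
      fun ⟨b, hb, e⟩ => ⟨⟨b, hb⟩, Subtype.ext e⟩⟩
  have hDA : (commutator ↥S).map S.subtype ≤ A := fun c hc => by
    obtain ⟨a, ha, rfl⟩ := (h.derived_mem hA).1 hc
    exact hA.comm_elt_mem hx ha
  have hinf : Nat.card ↥(Zs ⊓ f.range) = p := by
    rw [hrange, hZs, show (zS S).subgroupOf A ⊓ ((commutator ↥S).map S.subtype).subgroupOf A =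
      (zS S ⊓ (commutator ↥S).map S.subtype).subgroupOf A from rfl, h.center_inf_derived hA,
      Nat.card_congr (Subgroup.subgroupOfEquivOfLe (Subgroup.zpowers_le.2
        (hA.comm_elt_mem hx h.w_mem))).toEquiv, Nat.card_zpowers, h.orderOf_comm hA]
  constructor
  · rw [Subgroup.subgroupOf_sup hA.zle hDA, ← hrange, ← hZs]
    have h1 := Subgroup.relIndex_mul_index (le_sup_right : f.range ≤ Zs ⊔ f.range)
    have h2 : f.range.relIndex (Zs ⊔ f.range) = f.range.relIndex Zs := by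
      rw [sup_comm, Subgroup.relIndex_sup_left]
    have h3 : f.range.relIndex Zs * p = Nat.card Zs := by
      rw [← hinf, ← Subgroup.inf_relIndex_right, mul_comm, inf_comm f.range]
      have := Subgroup.relIndex_mul_relIndex ⊥ (Zs ⊓ f.range) Zs bot_le inf_le_left
      rwa [Subgroup.relIndex_bot_left, Subgroup.relIndex_bot_left] at this
    have h4 : f.range.index = Nat.card Zs := by
      have a1 := f.range.card_mul_index
      have a2 := f.ker.card_mul_index
      rw [Subgroup.index_ker, ← hker] at *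
      exact Nat.eq_of_mul_eq_mul_left Nat.card_pos (a1.trans (a2.symm.trans (mul_comm _ _)))
    rw [h2, h4, ← h3] at h1
    refine Nat.eq_of_mul_eq_mul_left (Nat.pos_of_ne_zero fun e => ?_) h1
    rw [e, zero_mul] at h3
    exact Nat.card_pos.ne' h3.symm
  intro m hm hcard hm3 hle
  have hiter : ∀ (k : ℕ) (a : A), ((f^[k] a : A) : Ω) ∈ Subgroup.lowerCentralSeries S k := by
    intro k
    induction k with
    | zero => intro a; exact hA.le a.2
    | succ k ih =>
      intro a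
      rw [Function.iterate_succ_apply', Subgroup.lowerCentralSeries_succ]
      exact Subgroup.commutator_mem_commutator (ih a) hx
  let g : ℕ → (A →* A) := fun k => k.rec (MonoidHom.id A) fun _ e => e.comp f
  have hg : ∀ (k : ℕ) (a : A), g k a = f^[k] a := by
    intro k
    induction k with
    | zero => intro a; rfl
    | succ k ih => intro a; exact ih (f a)
  have hker0 : ∀ (H : Subgroup A) (r : H →* A), (∀ a : H, r a = f a) →
      Nat.card r.ker ≤ Nat.card ↥(f.ker ⊓ H) := by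
    intro H r hr
    refine Nat.card_le_card_of_injective (fun a => (⟨((a : H) : A), ⟨?_, (a : H).2⟩⟩ :
      ↥(f.ker ⊓ H))) fun a b e => Subtype.ext (Subtype.ext (congrArg (fun v : ↥(f.ker ⊓ H) =>
        (v : A)) e))
    show f (a : H) = 1
    rw [← hr]; exact a.2
  have hL : ∀ k, Nat.card ↥((g k).ker ⊓ f.range) ≤ p ^ k := by
    intro k
    induction k with
    | zero =>
      rw [pow_zero]
      refine le_of_eq (Nat.card_eq_one_iff_unique.2 ⟨⟨fun a b => Subtype.ext ?_⟩, ⟨1⟩⟩)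
      exact (MonoidHom.mem_ker.1 a.2.1).trans (MonoidHom.mem_ker.1 b.2.1).symm
    | succ k ih =>
      set H := (g (k + 1)).ker ⊓ f.range
      let r : H →* A := f.comp H.subtype
      have h1 := r.ker.card_mul_index
      rw [Subgroup.index_ker] at h1
      rw [← h1, pow_succ']
      refine Nat.mul_le_mul ((hker0 H r fun a => rfl).trans ?_) (le_trans ?_ ih)
      · refine (Subgroup.card_le_of_le (inf_le_inf_left _ inf_le_right)).trans ?_
        rw [hker, hinf]
      · exact Subgroup.card_le_of_le fun c ⟨a, e⟩ => e ▸ ⟨(a.2.1 : g k (f a) = 1), ⟨a, rfl⟩⟩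
  have hK : ∀ k, Nat.card (g (k + 1)).ker ≤ Nat.card f.ker * p ^ k := by
    intro k
    set H := (g (k + 1)).ker
    let r : H →* A := f.comp H.subtype
    have h1 := r.ker.card_mul_index
    rw [Subgroup.index_ker] at h1
    rw [← h1]
    refine Nat.mul_le_mul ((hker0 H r fun a => rfl).trans (Subgroup.card_le_of_le inf_le_left))
      (le_trans ?_ (hL k))
    exact Subgroup.card_le_of_le fun c ⟨a, e⟩ => e ▸ ⟨(a.2 : g k (f a) = 1), ⟨a, rfl⟩⟩
  have htop : (g (m - 2 + 1)).ker = ⊤ := eq_top_iff.2 fun a _ => by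
    refine MonoidHom.mem_ker.2 ((hg (m - 2 + 1) a).trans ?_)
    rw [Function.iterate_succ_apply', ← MonoidHom.mem_ker, hker, hZs, Subgroup.mem_subgroupOf]
    exact hle (hiter (m - 2) a)
  have hbound := hK (m - 2)
  rw [htop, Subgroup.card_top, hker, hZs,
    Nat.card_congr (Subgroup.subgroupOfEquivOfLe hA.zle).toEquiv] at hbound
  have hS := ((zS S).subgroupOf S).card_mul_index
  rw [hm, Nat.card_congr (Subgroup.subgroupOfEquivOfLe (zS_le S)).toEquiv, ← hcard] at hS
  have h1 : Nat.card (zS S) * p ^ m ≤ Nat.card (zS S) * p ^ (m - 2 + 1) := by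
    rw [hS, pow_succ, ← mul_assoc]
    exact Nat.mul_le_mul_right p hbound
  haveI := finite_of_le (zS_le S)
  have := Nat.le_of_mul_le_mul_left h1 Nat.card_pos
  rw [Nat.pow_le_pow_iff_right hp.out.one_lt] at this
  omega

end AIEss

end Cfsg.Agent.Fus
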