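import Cfsg.Agent.Lib.Fus.CTSimpleLinear

/-!
Groups in which the centraliser of every involution is abelian: strong embedding, the core, and the
semiregularity of the centraliser of an involution.
-/

set_option autoImplicit false
set_option linter.unusedSectionVars false
set_option linter.style.haveILetI false

namespace Cfsg.Agent.Fus.AbInv

open MulAction Subgroup CTSimple
open Cfsg.Agent.Fus.CTSimple.Cfg (x0 P smul_x0_iff)

universe u

variable {G : Type u} [Group G]

/-- Centralisers of involutions are abelian. -/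
def AI (G : Type*) [Group G] : Prop :=
  ∀ t : G, orderOf t = 2 → ∀ x y : G, Commute x t → Commute y t → Commute x y

theorem AI.of_injective {H : Type*} [Group H] (f : H →* G) (hf : Function.Injective f) (h : AI G) :
    AI H := by
  intro t ht x y hx hy
  have := h (f t) (by rw [orderOf_injective f hf, ht]) (f x) (f y) (hx.map f) (hy.map f)
  exact hf (by rw [map_mul, map_mul]; exact this.eq)

theorem AI.subgroup (h : AI G) (H : Subgroup G) : AI H :=
  h.of_injective H.subtype H.subtype_injective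

/-- Two involutions commute or have a product of odd order. -/
theorem AI.commute_or_odd [Finite G] (h : AI G) {s w : G} (hs : orderOf s = 2) (hw : orderOf w = 2) :
    Commute s w ∨ Odd (orderOf (s * w)) := by
  by_cases he : Odd (orderOf (s * w))
  · exact Or.inr he
  left
  obtain ⟨r, hr⟩ := Nat.not_odd_iff_even.mp he
  set v := (s * w) ^ r with hv
  have hv2 : orderOf v = 2 := by
    have h0 := orderOf_pos (s * w)
    rw [hv, orderOf_pow, hr, Nat.gcd_eq_right ⟨2, by ring⟩, ← two_mul]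
    exact Nat.mul_div_cancel _ (by omega)
  have h1 : Commute s v := by
    have h2 := Invol.mul_zpow_comm hs hw (r : ℤ)
    rwa [zpow_natCast, zpow_neg, zpow_natCast, Invol.inv_of_orderOf_two hv2] at h2
  have h3 : Commute (s * w) v := Commute.self_pow _ r
  have h4 : Commute w v := by
    have := h1.mul_left h3
    rwa [← mul_assoc, Invol.mul_self_of_orderOf_two hs, one_mul] at this
  exact h v hv2 s w h1 h4

/-- An element inverted by one involution and centralised by another squares to one. -/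
theorem AI.not_inverted [Finite G] (h : AI G) {s w d : G} (hs : orderOf s = 2) (hw : orderOf w = 2)
    (hds : Commute d s) (hinv : w * d * w⁻¹ = d⁻¹) : d * d = 1 := by
  have hfin : Commute w d → d * d = 1 := fun hwd => by
    rw [hwd.eq, mul_inv_cancel_right] at hinv
    exact mul_eq_one_iff_eq_inv.mpr hinv
  rcases h.commute_or_odd hs hw with hc | ⟨n, hn⟩
  · exact hfin (h s hs w d hc.symm hds)
  set m := s * w with hm
  have hm1 : m * d * m⁻¹ = d⁻¹ := by
    calc m * d * m⁻¹ = s * (w * d * w⁻¹) * s⁻¹ := by rw [hm]; group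
      _ = d⁻¹ := by rw [hinv, (hds.inv_left.symm).eq, mul_inv_cancel_right]
  have hm2 : Commute (m * m) d := by
    refine mul_inv_eq_iff_eq_mul.mp ?_
    calc m * m * d * (m * m)⁻¹ = m * (m * d * m⁻¹) * m⁻¹ := by group
      _ = (m * d * m⁻¹)⁻¹ := by nth_rewrite 1 [hm1]; group
      _ = d := by rw [hm1, inv_inv]
  have hmd : Commute m d := by
    have he : (m * m) ^ (n + 1) = m := by
      rw [← sq, ← pow_mul, show 2 * (n + 1) = (2 * n + 1) + 1 by ring, pow_succ, ← hn,
        pow_orderOf_eq_one, one_mul]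
    have := hm2.pow_left (n + 1)
    rwa [he] at this
  rw [hmd.eq, mul_inv_cancel_right] at hm1
  exact mul_eq_one_iff_eq_inv.mpr hm1

variable [Finite G]

theorem AI.pre (h : AI G) {t : G} {S : Sylow 2 G} (ht : orderOf t = 2)
    (hcS : ∀ s ∈ (S : Subgroup G), Commute s t) : Pre t S :=
  ⟨ht, fun s hs => mem_A.mpr (hcS s hs), fun x y hx hy => h t ht x y (mem_A.mp hx) (mem_A.mp hy),
    fun i hi hi2 x hx => mem_A.mpr (h i hi2 x t hx (mem_A.mp hi).symm)⟩

section Embedded

variable {t : G} {S : Sylow 2 G} (c : Pre t S) (hne : M t ≠ ⊤)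
include c hne

theorem exists_outside : ∃ u : G, orderOf u = 2 ∧ u ∉ M t := by
  obtain ⟨g, -, hg⟩ := SetLike.exists_of_lt (lt_top_iff_ne_top.mpr hne)
  refine ⟨g * t * g⁻¹, by rw [Invol.orderOf_conj_eq, c.ht], fun hm => hg ?_⟩
  exact c.mem_M_of_inv c.t_mem c.ht (c.inv_mem_A hm (by rw [Invol.orderOf_conj_eq, c.ht]))

/-- The normaliser is transitive on its involutions. -/
theorem exists_conj_M {i : G} (hi : orderOf i = 2) (hiM : i ∈ M t) :
    ∃ d ∈ M t, d * t * d⁻¹ = i := by
  obtain ⟨u, hu, huM⟩ := exists_outside c hne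
  obtain ⟨d, hd, e⟩ := Invol.exists_conj_inf (c.se hne) hu huM c.ht (A_le_M c.t_mem) hi hiM
  exact ⟨d, hd.1, e⟩

theorem one_lt {i : G} (hi : orderOf i = 2) (hiA : i ∈ A t) (hit : i ≠ t) :
    1 < ((A t).subgroupOf (M t)).index := by
  obtain ⟨d, hd, e⟩ := exists_conj_M c hne hi (A_le_M hiA)
  by_contra hcon
  have h1 : ((A t).subgroupOf (M t)).index = 1 :=
    le_antisymm (not_lt.mp hcon) (Nat.one_le_iff_ne_zero.mpr index_ne_zero_of_finite)
  have hdA : d ∈ A t := (index_eq_one.mp h1).ge (mem_top ⟨d, hd⟩)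
  refine hit ?_
  rw [← e, (mem_A.mp hdA).eq, mul_inv_cancel_right]

theorem card_I : Nat.card {i : G // orderOf i = 2 ∧ i ∈ M t} = ((A t).subgroupOf (M t)).index := by
  refine le_antisymm ?_ c.h_le_I
  choose d hd e using fun i : {i : G // orderOf i = 2 ∧ i ∈ M t} => exists_conj_M c hne i.2.1 i.2.2
  rw [index_eq_card]
  refine Nat.card_le_card_of_injective
    (fun i => (QuotientGroup.mk ⟨d i, hd i⟩ : M t ⧸ (A t).subgroupOf (M t))) fun i j h => ?_
  simp only [QuotientGroup.eq] at h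
  have h' : (d i)⁻¹ * d j ∈ A t := h
  refine Subtype.ext ?_
  rw [← e i, ← e j]
  calc d i * t * (d i)⁻¹ = d i * (t * ((d i)⁻¹ * d j)) * (d j)⁻¹ := by group
    _ = d i * ((d i)⁻¹ * d j * t) * (d j)⁻¹ := by rw [(mem_A.mp h').eq]
    _ = d j * t * (d j)⁻¹ := by group

theorem fix_inv {i : G} (hi : orderOf i = 2) {x y : G ⧸ M t} (hx : i • x = x) (hy : i • y = y) :
    x = y := by
  obtain ⟨g, rfl⟩ := QuotientGroup.mk_surjective x
  obtain ⟨k, rfl⟩ := QuotientGroup.mk_surjective y
  exact QuotientGroup.eq.mpr (Invol.stronglyEmbedded_fix (c.se hne) hi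
    (Invol.smul_coset_eq_iff.mp hx) (Invol.smul_coset_eq_iff.mp hy))

theorem P_sq {x y : G ⧸ M t} (hxy : x ≠ y) {d : G} (hd : d ∈ P t x y) (h2 : d * d = 1) : d = 1 :=
  by_contra fun h1 => hxy (fix_inv c hne (Invol.orderOf_two_iff.mpr ⟨h2, h1⟩) hd.1 hd.2)

variable (hAI : AI G)
  (hC : ∀ a ∈ A t, a ≠ 1 → ∀ x : G, Commute x a → x ∈ M t)
include hAI hC

/-- An involution interchanging the base point with another point centralises nothing non-trivial
fixing both. -/
theorem no_fix {y : G ⧸ M t} (hy : y ≠ x0 t) {w z : G} (hw : orderOf w = 2) (hwx : w • x0 t = y)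
    (hwy : w • y = x0 t) (hz : z ∈ P t (x0 t) y) (hz1 : z ≠ 1) (hzw : Commute z w) : False := by
  have hxy : x0 t ≠ y := hy.symm
  have hwn : ∀ d ∈ P t (x0 t) y, w * d * w⁻¹ ∈ P t (x0 t) y := by
    intro d hd
    have hdx : d • x0 t = x0 t := hd.1
    have hdy : d • y = y := hd.2
    refine ⟨?_, ?_⟩
    · show (w * d * w⁻¹) • x0 t = x0 t
      rw [Invol.inv_of_orderOf_two hw, mul_smul, mul_smul, hwx, hdy, hwy]
    · show (w * d * w⁻¹) • y = y
      rw [Invol.inv_of_orderOf_two hw, mul_smul, mul_smul, hwy, hdx, hwx]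
  by_cases hex : ∃ d ∈ P t (x0 t) y, d ∈ A t ∧ d ≠ 1
  swap
  · push Not at hex
    have hle : Nat.card (P t (x0 t) y) ≤ ((A t).subgroupOf (M t)).index := by
      rw [index_eq_card]
      refine Nat.card_le_card_of_injective (fun d : P t (x0 t) y =>
        (QuotientGroup.mk ⟨(d : G), smul_x0_iff.mp d.2.1⟩ : M t ⧸ (A t).subgroupOf (M t)))
        fun d e h => ?_
      simp only [QuotientGroup.eq] at h
      exact Subtype.ext (inv_mul_eq_one.mp (hex _ (mul_mem (inv_mem d.2) e.2) h))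
    have hswap : ∀ i : {i : G // orderOf i = 2 ∧ i • x0 t = y}, w * (i : G) ∈ P t (x0 t) y := by
      rintro ⟨i, hi, hix⟩
      refine ⟨?_, ?_⟩ <;> show (w * i) • _ = _
      · rw [mul_smul, hix, hwy]
      · have hiy : i • y = x0 t := by
          rw [← hix, smul_smul, Invol.mul_self_of_orderOf_two hi, one_smul]
        rw [mul_smul, hiy, hwx]
    let f : {i : G // orderOf i = 2 ∧ i • x0 t = y} → P t (x0 t) y := fun i => ⟨_, hswap i⟩
    have hf : Function.Injective f := fun i j e =>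
      Subtype.ext (mul_left_cancel (congrArg Subtype.val e))
    have h1 := Nat.card_le_card_of_injective f hf
    have h2 := Invol.card_swap_eq (c.se hne) (x0 t) y hxy
    have h3 := card_I c hne
    have hb := (Nat.bijective_iff_injective_and_card f).mpr ⟨hf, by omega⟩
    obtain ⟨i, hi⟩ := hb.2 ⟨z, hz⟩
    have hi' : w * (i : G) = z := congrArg Subtype.val hi
    refine hz1 (P_sq c hne hxy hz ?_)
    have hiw : (i : G) = w * z := by
      rw [← hi', ← mul_assoc, Invol.mul_self_of_orderOf_two hw, one_mul]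
    have h4 := Invol.mul_self_of_orderOf_two i.2.1
    rw [hiw] at h4
    calc z * z = (w * w) * (z * z) := by rw [Invol.mul_self_of_orderOf_two hw, one_mul]
      _ = w * (z * w) * z := by rw [hzw.eq]; group
      _ = 1 := by rw [← h4]; group
  obtain ⟨d, hd, hdA, hd1⟩ := hex
  have hdM : d ∈ M t := smul_x0_iff.mp hd.1
  set d' := w * d * w⁻¹ with hd'
  have hd'P := hwn d hd
  have hd'M : d' ∈ M t := smul_x0_iff.mp hd'P.1
  have hwd' : w * d' * w⁻¹ = d := by
    rw [hd', Invol.inv_of_orderOf_two hw]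
    calc w * (w * d * w) * w = (w * w) * d * (w * w) := by group
      _ = d := by rw [Invol.mul_self_of_orderOf_two hw, one_mul, mul_one]
  -- `d` and its image commute
  have hdd : Commute d d' := by
    set f := d * (d' * d⁻¹ * d'⁻¹) with hf
    have hfA : f ∈ A t := mul_mem hdA (c.conj_mem_A hd'M (inv_mem hdA))
    have hfP : f ∈ P t (x0 t) y :=
      mul_mem hd (mul_mem (mul_mem hd'P (inv_mem hd)) (inv_mem hd'P))
    have hwf : w * f * w⁻¹ = f⁻¹ := by
      calc w * f * w⁻¹ = (w * d * w⁻¹) * ((w * d' * w⁻¹) * (w * d * w⁻¹)⁻¹ * (w * d' * w⁻¹)⁻¹) := by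
            rw [hf]; group
        _ = d' * (d * d'⁻¹ * d⁻¹) := by rw [hwd', ← hd']
        _ = f⁻¹ := by rw [hf]; group
    have h1 := P_sq c hne hxy hfP (hAI.not_inverted c.ht hw (mem_A.mp hfA) hwf)
    show d * d' = d' * d
    calc d * d' = (d * (d' * d⁻¹ * d'⁻¹)) * (d' * d) := by group
      _ = d' * d := by rw [← hf, h1, one_mul]
  set e := d * d' with he
  have hew : Commute e w := by
    refine (mul_inv_eq_iff_eq_mul.mp ?_).symm
    calc w * e * w⁻¹ = (w * d * w⁻¹) * (w * d' * w⁻¹) := by rw [he]; group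
      _ = e := by rw [hwd', ← hd', he, hdd.eq]
  have he1 : e ≠ 1 := fun e1 => hd1 (P_sq c hne hxy hd (hAI.not_inverted c.ht hw (mem_A.mp hdA)
    (by rw [← hd']; exact eq_inv_of_mul_eq_one_right (he ▸ e1))))
  obtain ⟨g, hg⟩ := _root_.isConj_iff.mp (Invol.isConj_involutions (c.se hne) hw c.ht)
  have heA : g * e * g⁻¹ ∈ A t := by
    refine mem_A.mpr ?_
    rw [← hg]; simpa using hew.map (MulAut.conj g)
  have hMem : ∀ x : G, Commute x e → g * x * g⁻¹ ∈ M t := fun x hx =>
    hC _ heA (conj_eq_one_iff.not.mpr he1) _ (by simpa using hx.map (MulAut.conj g))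
  set k := d' * d⁻¹ with hk
  have hwk : w * k * w⁻¹ = k⁻¹ := by
    calc w * k * w⁻¹ = (w * d' * w⁻¹) * (w * d * w⁻¹)⁻¹ := by rw [hk]; group
      _ = k⁻¹ := by rw [hwd', ← hd', hk]; group
  have hkA : (g * k * g⁻¹) * t * (g * k * g⁻¹)⁻¹ ∈ A t := by
    refine c.conj_mem_A (hMem k ?_) c.t_mem
    exact (hdd.symm.mul_right (Commute.refl d')).mul_left ((Commute.refl d).mul_right hdd).inv_left
  -- the square of `k` is fixed and inverted
  have hk2 : (k * k) * (k * k) = 1 := by
    set k' := g * k * g⁻¹ with hk'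
    have htk : t * k' * t⁻¹ = k'⁻¹ := by
      rw [← hg, hk']
      calc g * w * g⁻¹ * (g * k * g⁻¹) * (g * w * g⁻¹)⁻¹ = g * (w * k * w⁻¹) * g⁻¹ := by group
        _ = (g * k * g⁻¹)⁻¹ := by rw [hwk]; group
    have h2 : k' * k' = (k' * t * k'⁻¹) * t⁻¹ := by
      calc k' * k' = k' * (k'⁻¹)⁻¹ := by rw [inv_inv]
        _ = k' * (t * k' * t⁻¹)⁻¹ := by rw [htk]
        _ = _ := by group
    have h3 : k' * k' ∈ A t := h2 ▸ mul_mem hkA (inv_mem c.t_mem)
    have h4 : t * (k' * k') * t⁻¹ = (k' * k')⁻¹ := by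
      calc t * (k' * k') * t⁻¹ = (t * k' * t⁻¹) * (t * k' * t⁻¹) := by group
        _ = (k' * k')⁻¹ := by rw [htk]; group
    rw [← (mem_A.mp h3).eq, mul_inv_cancel_right] at h4
    have h5 : g * ((k * k) * (k * k)) * g⁻¹ = 1 := by
      rw [show g * ((k * k) * (k * k)) * g⁻¹ = (k' * k') * (k' * k') by rw [hk']; group]
      exact mul_eq_one_iff_eq_inv.mpr h4
    exact conj_eq_one_iff.mp h5
  have hkP : k ∈ P t (x0 t) y := mul_mem hd'P (inv_mem hd)
  have hk1 : k = 1 := P_sq c hne hxy hkP (P_sq c hne hxy (mul_mem hkP hkP) hk2)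
  have hdw : w * d * w⁻¹ = d := mul_inv_eq_one.mp hk1
  exact hy (by rw [← hwx]; exact smul_x0_iff.mpr (hC d hdA hd1 w (mul_inv_eq_iff_eq_mul.mp hdw)))

/-- The centraliser acts semiregularly off the base point. -/
theorem fix_of_hC : ∀ a ∈ A t, a ≠ 1 → ∀ g : G, g⁻¹ * a * g ∈ M t → g ∈ M t := by
  intro a ha ha1 g hg
  by_contra hgM
  set y : G ⧸ M t := (g : G ⧸ M t) with hy'
  have hy : y ≠ x0 t := fun e => hgM (inv_mem_iff.mp (by simpa using QuotientGroup.eq.mp e))
  have hay : a • y = y := Invol.smul_coset_eq_iff.mpr hg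
  have hat : Commute a t := mem_A.mp ha
  have haty : a • t • y = t • y := by rw [smul_smul, hat.eq, mul_smul, hay]
  have hty : t • y ≠ y := fun e => hy (fix_inv c hne c.ht e (smul_x0_iff.mpr (A_le_M c.t_mem)))
  obtain ⟨k, hk⟩ := exists_smul_eq G y (x0 t)
  have hky : k⁻¹ • x0 t = y := inv_smul_eq_iff.mpr hk.symm
  refine no_fix c hne hAI hC (y := k • t • y) (w := k * t * k⁻¹) (z := k * a * k⁻¹) ?_ ?_ ?_ ?_
    ⟨?_, ?_⟩ (conj_eq_one_iff.not.mpr ha1) ?_
  · exact fun e => hty (MulAction.injective k (e.trans hk.symm))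
  · rw [Invol.orderOf_conj_eq, c.ht]
  · rw [mul_smul, mul_smul, hky]
  · rw [mul_smul, mul_smul, inv_smul_smul, smul_smul t t, Invol.mul_self_of_orderOf_two c.ht,
      one_smul, hk]
  · show (k * a * k⁻¹) • x0 t = x0 t
    rw [mul_smul, mul_smul, hky, hay, hk]
  · show (k * a * k⁻¹) • k • t • y = k • t • y
    rw [mul_smul, mul_smul, inv_smul_smul, haty]
  · simpa using hat.map (MulAut.conj k)

end Embedded

end Cfsg.Agent.Fus.AbInv
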