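import Cfsg.Agent.Lib.Fus.AltMain

/-!
When a Sylow subgroup of `A_n` is abelian.
-/

set_option autoImplicit false
set_option linter.style.haveILetI false

namespace Cfsg.Agent.Fus.Alt

open Equiv Equiv.Perm
open scoped Classical

variable {p : ℕ} [hp : Fact p.Prime]

/-- Every Sylow subgroup of `A_n` is a model subgroup, for a prescribed `P`. -/
theorem exists_model (n : ℕ) (P : Sylow p (Perm (Fin (n / p))))
    (S : Sylow p (alternatingGroup (Fin n))) :
    ∃ e : (Fin (n / p) × ZMod p) ⊕ Fin (n % p) ≃ Fin n,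
      (S : Subgroup (alternatingGroup (Fin n))) = smallS e (P : Subgroup (Perm (Fin (n / p)))) := by
  have hrp : n % p < p := Nat.mod_lt _ hp.out.pos
  let e0 : (Fin (n / p) × ZMod p) ⊕ Fin (n % p) ≃ Fin n :=
    Fintype.equivFinOfCardEq (by
      rw [Fintype.card_sum, Fintype.card_prod, Fintype.card_fin, Fintype.card_fin, ZMod.card,
        mul_comm, Nat.div_add_mod])
  obtain ⟨B, hB⟩ := exists_sylow_big e0 P hrp
  obtain ⟨Q, hQ⟩ := exists_sylow_small e0 _ hB
  obtain ⟨a, ha⟩ := MulAction.exists_smul_eq (alternatingGroup (Fin n)) Q S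
  refine ⟨e0.trans (a : Perm (Fin n)), ?_⟩
  obtain ⟨B', hB'⟩ := exists_sylow_big (e0.trans (a : Perm (Fin n))) P hrp
  obtain ⟨Q', hQ'⟩ := exists_sylow_small (e0.trans (a : Perm (Fin n))) _ hB'
  have hle : (S : Subgroup (alternatingGroup (Fin n))) ≤
      smallS (e0.trans (a : Perm (Fin n))) (P : Subgroup (Perm (Fin (n / p)))) := by
    rw [← ha, Sylow.coe_subgroup_smul, hQ]
    rintro _ ⟨y, hy, rfl⟩
    obtain ⟨b, π, hπ, hyv⟩ := hy
    refine ⟨b, π, hπ, ?_⟩
    change (y : Perm (Fin n)) = _ at hyv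
    show (a : Perm (Fin n)) * (y : Perm (Fin n)) * (a : Perm (Fin n))⁻¹ = _
    rw [hyv, conj_model e0]
  rw [← hQ'] at hle ⊢
  exact (S.3 Q'.2 hle).symm

theorem isMulCommutative_sylow_iff (n : ℕ) (hn : 6 ≤ n) (S : Sylow p (alternatingGroup (Fin n))) :
    IsMulCommutative S ↔ n < p ^ 2 := by
  rcases Nat.lt_or_ge n (p ^ 2) with hlt | hge
  · refine iff_of_true ⟨⟨fun x y => Subtype.ext (Subtype.ext ?_)⟩⟩ hlt
    obtain ⟨P⟩ := (inferInstance : Nonempty (Sylow p (Perm (Fin (n / p)))))
    obtain ⟨e, he⟩ := exists_model n P S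
    have hk : n / p < p := Nat.div_lt_of_lt_mul (by rwa [← pow_two])
    have hbot : (P : Subgroup (Perm (Fin (n / p)))) = ⊥ := by
      rw [Subgroup.eq_bot_iff_card, Sylow.card_eq_multiplicity, Nat.card_perm, Nat.card_fin,
        Nat.factorization_eq_zero_of_not_dvd (fun h => absurd (hp.out.dvd_factorial.1 h) (not_le.2 hk)),
        pow_zero]
    have hx := x.2
    have hy := y.2
    change (x : alternatingGroup (Fin n)) ∈ (S : Subgroup (alternatingGroup (Fin n))) at hx
    change (y : alternatingGroup (Fin n)) ∈ (S : Subgroup (alternatingGroup (Fin n))) at hy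
    have hx' := he.le hx
    have hy' := he.le hy
    obtain ⟨b, π, hπ, hxv⟩ := hx'
    obtain ⟨c, σ, hσ, hyv⟩ := hy'
    rw [hbot, Subgroup.mem_bot] at hπ hσ
    change ((x : alternatingGroup (Fin n)) : Perm (Fin n)) = _ at hxv
    change ((y : alternatingGroup (Fin n)) : Perm (Fin n)) = _ at hyv
    show ((x : alternatingGroup (Fin n)) : Perm (Fin n)) * ((y : alternatingGroup (Fin n)) : Perm (Fin n)) =
      ((y : alternatingGroup (Fin n)) : Perm (Fin n)) * ((x : alternatingGroup (Fin n)) : Perm (Fin n))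
    rw [hxv, hyv, hπ, hσ, map_one, mul_one, mul_one, ← tr_add, ← tr_add, add_comm]
  · refine iff_of_false (fun hcomm => ?_) (not_lt.2 hge)
    have hpk : p ≤ n / p := (Nat.le_div_iff_mul_le hp.out.pos).2 (by rwa [← pow_two])
    let ι : ZMod p ↪ Fin (n / p) :=
      (Fintype.equivFinOfCardEq (ZMod.card p)).toEmbedding.trans (Fin.castLEEmb hpk)
    have hρp : IsPGroup p (Subgroup.zpowers (shiftPerm ι)) := by
      obtain ⟨i, -, hi⟩ := (Nat.dvd_prime_pow hp.out).1
        (orderOf_dvd_of_pow_eq_one (show shiftPerm ι ^ p ^ 1 = 1 by rw [pow_one, shiftPerm_pow]))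
      exact IsPGroup.of_card (n := i) ((Nat.card_zpowers _).trans hi)
    obtain ⟨P, hP⟩ := hρp.exists_le_sylow
    obtain ⟨e, he⟩ := exists_model n P S
    obtain ⟨v, hv, hv0, hv1⟩ : ∃ v, sign (tr e v) = 1 ∧ v (ι 0) = 1 ∧ v (ι 1) = 0 := by
      have h01 : ι 1 ≠ ι 0 := fun h => one_ne_zero (ι.injective h)
      by_cases h2 : p = 2
      · subst h2
        obtain ⟨l, hl⟩ : ∃ l, l ∉ ({ι 0, ι 1} : Finset (Fin (n / 2))) := by
          by_contra hc
          push Not at hc
          have h1 := Finset.card_le_card (fun x _ => hc x : (Finset.univ : Finset (Fin (n / 2))) ⊆ {ι 0, ι 1})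
          rw [Finset.card_univ, Fintype.card_fin] at h1
          exact absurd (h1.trans Finset.card_le_two) (by omega)
        simp only [Finset.mem_insert, Finset.mem_singleton, not_or] at hl
        refine ⟨Pi.single (ι 0) 1 + Pi.single l 1, ?_, by simp [Ne.symm hl.1],
          by simp [h01, Ne.symm hl.2]⟩
        rw [tr_add, map_mul, sign_tr_single e rfl, sign_tr_single e rfl]
        rfl
      · exact ⟨Pi.single (ι 0) 1, sign_tr e h2 _, by simp, by simp [h01]⟩
    have hs : sign (sh e ι) = 1 := by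
      by_cases h2 : p = 2
      · exact sign_lift_two e h2 _
      · exact sign_eq_one_of_pow_prime h2 (by rw [sh, ← map_pow, shiftPerm_pow, map_one])
    have h1 : (⟨tr e v, mem_alternatingGroup.2 hv⟩ : alternatingGroup (Fin n)) ∈
        (S : Subgroup (alternatingGroup (Fin n))) := by rw [he]; exact tr_mem e _ v
    have h2 : (⟨sh e ι, mem_alternatingGroup.2 hs⟩ : alternatingGroup (Fin n)) ∈
        (S : Subgroup (alternatingGroup (Fin n))) := by
      rw [he]; exact lift_mem e _ (hP (Subgroup.mem_zpowers _))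
    have h3 := congrArg (fun z : S => (((z : alternatingGroup (Fin n)) : Perm (Fin n))) (pt e (ι 0) 0))
      (hcomm.is_comm.comm ⟨_, h1⟩ ⟨_, h2⟩)
    simp only [Subgroup.coe_mul, Perm.mul_apply, sh, lift_pt, tr_pt, shiftPerm_range, zero_add, hv0,
      hv1, add_zero, pt_inj] at h3
    exact zero_ne_one h3.2

end Cfsg.Agent.Fus.Alt
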