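import Mathlib

/-!
A group of given order acting on many points is centralised by a large alternating group.
-/

set_option autoImplicit false

namespace Cfsg.Agent.Fus.AltCentralizer

open Equiv

variable {m : ℕ}

theorem exists_equal_stabilizers (r : ℕ) (H : Subgroup (Perm (Fin m)))
    (hm : 2 ^ Nat.card H * (Nat.card H * r) + 1 ≤ m) :
    ∃ x : Fin r → Fin m, (∀ i j, ∀ h : H, (h : Perm (Fin m)) (x i) = x j → i = j) ∧
      ∀ i j, ∀ h : H, ((h : Perm (Fin m)) (x i) = x i ↔ (h : Perm (Fin m)) (x j) = x j) := by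
  classical
  let st : Fin m → Finset H := fun y => Finset.univ.filter fun h : H => (h : Perm (Fin m)) y = y
  obtain ⟨S, -, hS⟩ := Finset.exists_lt_card_fiber_of_mul_lt_card_of_maps_to
    (s := (Finset.univ : Finset (Fin m))) (t := (Finset.univ : Finset (Finset H))) (f := st)
    (n := Nat.card H * r) (fun a _ => Finset.mem_univ _) (by
      simp only [Finset.card_univ, Fintype.card_finset, Fintype.card_fin]
      rw [← Nat.card_eq_fintype_card]
      omega)
  let T := Finset.univ.filter fun y => st y = S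
  have hex : ∀ k ≤ r, ∃ R : Finset (Fin m), R.card = k ∧ R ⊆ T ∧
      ∀ a ∈ R, ∀ b ∈ R, ∀ h : H, (h : Perm (Fin m)) a = b → a = b := by
    intro k hk
    induction k with
    | zero => exact ⟨∅, rfl, Finset.empty_subset _, by simp⟩
    | succ k ih =>
      obtain ⟨R, hR1, hR2, hR3⟩ := ih (by omega)
      let O := (Finset.univ ×ˢ R).image fun hb : H × Fin m => (hb.1 : Perm (Fin m)) hb.2
      have hO : O.card < T.card := by
        refine lt_of_le_of_lt (Finset.card_image_le.trans ?_) hS
        rw [Finset.card_product, Finset.card_univ, hR1, Nat.card_eq_fintype_card]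
        exact Nat.mul_le_mul_left _ (by omega)
      obtain ⟨y, hyT, hyO⟩ := Finset.exists_mem_notMem_of_card_lt_card hO
      have hne : ∀ b ∈ R, ∀ h : H, (h : Perm (Fin m)) b ≠ y := fun b hb h e =>
        hyO (Finset.mem_image.2 ⟨(h, b), Finset.mk_mem_product (Finset.mem_univ _) hb, e⟩)
      refine ⟨insert y R, by rw [Finset.card_insert_of_notMem
          (fun h => hne y h 1 rfl), hR1], Finset.insert_subset hyT hR2, ?_⟩
      intro a ha b hb h e
      rcases Finset.mem_insert.1 ha with rfl | ha' <;>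
        rcases Finset.mem_insert.1 hb with rfl | hb'
      · rfl
      · refine absurd ?_ (hne b hb' h⁻¹)
        rw [← e, Subgroup.coe_inv, Equiv.Perm.inv_def, Equiv.symm_apply_apply]
      · exact absurd e (hne a ha' h)
      · exact hR3 a ha' b hb' h e
  obtain ⟨R, hR1, hR2, hR3⟩ := hex r le_rfl
  let e := R.equivFinOfCardEq hR1
  refine ⟨fun i => (e.symm i : Fin m), fun i j h heq => e.symm.injective (Subtype.ext
    (hR3 _ (e.symm i).2 _ (e.symm j).2 h heq)), fun i j h => ?_⟩
  have hi := (Finset.mem_filter.1 (hR2 (e.symm i).2)).2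
  have hj := (Finset.mem_filter.1 (hR2 (e.symm j).2)).2
  have hij : h ∈ st (e.symm i : Fin m) ↔ h ∈ st (e.symm j : Fin m) := by rw [hi, hj]
  simpa [st] using hij

theorem main (r : ℕ) (H : Subgroup ↥(alternatingGroup (Fin m)))
    (hm : 2 ^ Nat.card H * (Nat.card H * r) + 1 ≤ m) :
    ∃ K : Subgroup ↥(alternatingGroup (Fin m)), Nonempty (↥K ≃* ↥(alternatingGroup (Fin r))) ∧
      K ≤ Subgroup.centralizer (H : Set ↥(alternatingGroup (Fin m))) := by
  classical
  rcases Nat.eq_zero_or_pos r with rfl | hr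
  · exact ⟨⊥, ⟨{ toFun := fun _ => 1, invFun := fun _ => 1,
                 left_inv := fun a => Subtype.ext (Subgroup.mem_bot.1 a.2).symm,
                 right_inv := fun a => Subsingleton.elim _ _,
                 map_mul' := fun _ _ => (one_mul _).symm }⟩, bot_le⟩
  obtain ⟨x, hx1, hx2⟩ := exists_equal_stabilizers r (H.map (alternatingGroup (Fin m)).subtype)
    (by rwa [Subgroup.card_map_of_injective (Subgroup.subtype_injective _)])
  let H' := H.map (alternatingGroup (Fin m)).subtype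
  let i₀ : Fin r := ⟨0, hr⟩
  let O := {y : Fin m // ∃ h : H', (h : Perm (Fin m)) (x i₀) = y}
  let sec : O → H' := fun y => y.2.choose
  have hsec : ∀ y : O, (sec y : Perm (Fin m)) (x i₀) = y := fun y => y.2.choose_spec
  have key : ∀ (i : Fin r) (a b : H'), (a : Perm (Fin m)) (x i₀) = (b : Perm (Fin m)) (x i₀) ↔
      (a : Perm (Fin m)) (x i) = (b : Perm (Fin m)) (x i) := by
    intro i a b
    have := hx2 i₀ i (b⁻¹ * a)
    simpa [Equiv.Perm.mul_apply, Equiv.symm_apply_eq] using this
  let ι : O × Fin r → Fin m := fun p => (sec p.1 : Perm (Fin m)) (x p.2)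
  have hι : Function.Injective ι := by
    rintro ⟨y, i⟩ ⟨z, j⟩ e
    have hij : i = j := hx1 i j ((sec z)⁻¹ * sec y) (by
      simp only [ι] at e
      simp [Equiv.Perm.mul_apply, e])
    subst hij
    have e' := (key i (sec y) (sec z)).2 e
    rw [hsec, hsec] at e'
    exact Prod.ext (Subtype.ext e') rfl
  let π : Perm (Fin r) →* Perm (Fin m) :=
    { toFun := fun σ => Equiv.Perm.extendDomain (Equiv.prodCongrRight fun _ : O => σ)
        (Equiv.ofInjective ι hι)
      map_one' := by
        rw [show (Equiv.prodCongrRight fun _ : O => (1 : Perm (Fin r))) = 1 from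
          Equiv.ext fun _ => rfl, Equiv.Perm.extendDomain_one]
      map_mul' := fun σ τ => by
        rw [Equiv.Perm.extendDomain_mul]
        congr 1 }
  have hπι : ∀ σ p, π σ (ι p) = ι (p.1, σ p.2) := fun σ p =>
    Equiv.Perm.extendDomain_apply_image _ (Equiv.ofInjective ι hι) p
  have hinj : Function.Injective π := by
    intro σ τ e
    refine Equiv.ext fun i => ?_
    let y₀ : O := ⟨x i₀, 1, rfl⟩
    have h1 := hπι σ (y₀, i)
    rw [e, hπι] at h1
    exact (congrArg Prod.snd (hι h1)).symm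
  have hcomm : ∀ (σ : Perm (Fin r)) (h : H'), π σ * (h : Perm (Fin m)) = h * π σ := by
    intro σ h
    refine Equiv.ext fun w => ?_
    rw [Equiv.Perm.mul_apply, Equiv.Perm.mul_apply]
    have hmove : ∀ (g : H') (p : O × Fin r), ∃ q : O,
        ∀ j, (g : Perm (Fin m)) (ι (p.1, j)) = ι (q, j) := by
      intro g p
      obtain ⟨q, hq⟩ : ∃ q : O, (q : Fin m) = ((g * sec p.1 : H') : Perm (Fin m)) (x i₀) :=
        ⟨⟨_, g * sec p.1, rfl⟩, rfl⟩
      exact ⟨q, fun j => (key j (g * sec p.1) (sec q)).1 (hq.symm.trans (hsec q).symm)⟩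
    by_cases hw : ∃ p, ι p = w
    · obtain ⟨p, rfl⟩ := hw
      obtain ⟨q, hq⟩ := hmove h p
      rw [hq p.2, hπι, hπι, hq]
    · have hhw : ¬ ∃ p, ι p = (h : Perm (Fin m)) w := by
        rintro ⟨p, hp⟩
        obtain ⟨q, hq⟩ := hmove h⁻¹ p
        exact hw ⟨(q, p.2), by rw [← hq p.2, hp, Subgroup.coe_inv, Equiv.Perm.inv_def, Equiv.symm_apply_apply]⟩
      have fix_ : ∀ z, (¬ ∃ p, ι p = z) → π σ z = z := fun z hz =>
        Equiv.Perm.extendDomain_apply_not_subtype _ _ fun hz' => hz (Set.mem_range.1 hz')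
      rw [fix_ _ hhw, fix_ _ hw]
  have halt : ∀ σ : Perm (Fin r), σ ∈ alternatingGroup (Fin r) → π σ ∈ alternatingGroup (Fin m) := by
    intro σ hσ
    rw [Equiv.Perm.mem_alternatingGroup] at hσ ⊢
    show Equiv.Perm.sign (Equiv.Perm.extendDomain _ _) = 1
    rw [Equiv.Perm.sign_extendDomain, Equiv.Perm.sign_prodCongrRight]
    exact Finset.prod_eq_one fun _ _ => hσ
  let f : ↥(alternatingGroup (Fin r)) →* ↥(alternatingGroup (Fin m)) :=
    (π.comp (alternatingGroup (Fin r)).subtype).codRestrict _ fun σ => halt σ.1 σ.2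
  have hf : Function.Injective f := fun a b e => Subtype.ext (hinj (congrArg Subtype.val e))
  refine ⟨f.range, ⟨(MonoidHom.ofInjective hf).symm⟩, ?_⟩
  rintro _ ⟨σ, rfl⟩
  refine Subgroup.mem_centralizer_iff.2 fun h hh => Subtype.ext ?_
  exact (hcomm σ.1 ⟨_, Subgroup.mem_map_of_mem _ hh⟩).symm

end Cfsg.Agent.Fus.AltCentralizer
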