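import Cfsg.Agent.Lib.Fus.AltOdd

/-!
Simplicity of the `p`-fusion system of `A_n`.
-/

set_option autoImplicit false
set_option linter.style.haveILetI false

namespace Cfsg.Agent.Fus.Alt

open Equiv Equiv.Perm
open scoped Classical

variable {p : ℕ} [hp : Fact p.Prime] {β : Type*} [Fintype β] [DecidableEq β]

theorem isSimple_of_model {k r : ℕ} (e : (Fin k × ZMod p) ⊕ Fin r ≃ β) (ι : ZMod p ↪ Fin k)
    (hk : 3 ≤ k) (hpk : p ≤ k) (hr : r ≤ 1) (P : Sylow p (Perm (Fin k))) (hρ : shiftPerm ι ∈ P)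
    (h6 : 6 ≤ Fintype.card β) (S : Sylow p (alternatingGroup β))
    (hS : (S : Subgroup (alternatingGroup β)) = smallS e (P : Subgroup (Perm (Fin k)))) :
    (groupFusionSystem (S : Subgroup (alternatingGroup β))).IsSimple p := by
  refine isSimple_group_of_gen S ?_ ?_ ?_
  · obtain ⟨v, hv, hvi⟩ := exists_even_vector (p := p) e hk ⟨0, by omega⟩
    intro hbot
    have hm : (⟨tr e v, mem_alternatingGroup.2 hv⟩ : alternatingGroup β) ∈
        (S : Subgroup (alternatingGroup β)) := by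
      rw [hS]; exact tr_mem e _ v
    rw [hbot, Subgroup.mem_bot] at hm
    have h1 : tr e v = 1 := congrArg Subtype.val hm
    rw [← tr_zero e] at h1
    rw [tr_injective e h1] at hvi
    exact zero_ne_one hvi
  · intro T hTS hT hTn hTc
    rw [hS] at hTS hTn hTc ⊢
    exact closed_eq_top e ι hr hk hpk P hρ hTS hT hTn hTc
  · intro g hg
    by_cases h2 : p = 2
    · subst h2
      have hgS : g ∈ (S : Subgroup (alternatingGroup β)) := by
        refine SylTwo.mem_of_normalize_alt h6 S g fun s hs => ?_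
        have h1 := (Subgroup.mem_normalizer_iff.1 (Subgroup.inv_mem _ hg) s).1 hs
        rwa [inv_inv] at h1
      refine ⟨S, le_rfl, ?_, hg, Subgroup.subset_closure (Or.inl ⟨hg, ?_⟩)⟩
      · refine le_trans (Subgroup.centralizer_le ?_) ((evenTr_centralizer e hr hk).trans ?_)
        · rw [hS]; exact evenTr_le e _
        · rw [hS]; exact evenTr_le e _
      · obtain ⟨j, hj⟩ := S.2 ⟨g, hgS⟩
        exact ⟨j, by simpa using congrArg Subtype.val hj⟩
    · exact gen_odd e ι h2 hr hk hpk P hρ S hS hg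

theorem conj_model {k r : ℕ} (e : (Fin k × ZMod p) ⊕ Fin r ≃ β) (a : Perm β) (b : Fin k → ZMod p)
    (π : Perm (Fin k)) :
    a * (tr e b * lift e π) * a⁻¹ = tr (e.trans a) b * lift (e.trans a) π := by
  rw [mul_inv_eq_iff_eq_mul]
  have h1 : ∀ i x, a (pt e i x) = pt (e.trans a) i x := fun _ _ => rfl
  have h2 : ∀ j, a (rest e j) = rest (e.trans a) j := fun _ => rfl
  refine perm_ext e (fun i x => ?_) fun j => ?_
  · simp only [Perm.mul_apply, lift_pt, tr_pt, h1]
  · simp only [Perm.mul_apply, lift_rest, tr_rest, h2]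

theorem isSimple_alternating (n : ℕ) (hn : 6 ≤ n) (hnp : p ^ 2 ≤ n) (hb : n % p ≤ 1)
    (S : Sylow p (alternatingGroup (Fin n))) :
    (groupFusionSystem (S : Subgroup (alternatingGroup (Fin n)))).IsSimple p := by
  obtain ⟨k, hk⟩ : ∃ k, k = n / p := ⟨_, rfl⟩
  obtain ⟨r, hr⟩ : ∃ r, r = n % p := ⟨_, rfl⟩
  have hrp : r < p := hr ▸ Nat.mod_lt _ hp.out.pos
  have hpk : p ≤ k := hk ▸ (Nat.le_div_iff_mul_le hp.out.pos).2 (by rwa [← pow_two])
  have hk3 : 3 ≤ k := by
    rcases hp.out.eq_two_or_odd' with h | h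
    · subst h; omega
    · have := hp.out.two_le
      obtain ⟨m, hm⟩ := h
      omega
  let ι : ZMod p ↪ Fin k :=
    (Fintype.equivFinOfCardEq (ZMod.card p)).toEmbedding.trans (Fin.castLEEmb hpk)
  have hρp : IsPGroup p (Subgroup.zpowers (shiftPerm ι)) := by
    obtain ⟨i, -, hi⟩ := (Nat.dvd_prime_pow hp.out).1
      (orderOf_dvd_of_pow_eq_one (show shiftPerm ι ^ p ^ 1 = 1 by rw [pow_one, shiftPerm_pow]))
    exact IsPGroup.of_card (n := i) ((Nat.card_zpowers _).trans hi)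
  obtain ⟨P, hP⟩ := hρp.exists_le_sylow
  let e0 : (Fin k × ZMod p) ⊕ Fin r ≃ Fin n :=
    Fintype.equivFinOfCardEq (by
      rw [Fintype.card_sum, Fintype.card_prod, Fintype.card_fin, Fintype.card_fin, ZMod.card, hk, hr,
        mul_comm, Nat.div_add_mod])
  obtain ⟨B, hB⟩ := exists_sylow_big e0 P hrp
  obtain ⟨Q, hQ⟩ := exists_sylow_small e0 _ hB
  obtain ⟨a, ha⟩ := MulAction.exists_smul_eq (alternatingGroup (Fin n)) Q S
  obtain ⟨e, he⟩ : ∃ e, e = e0.trans (a : Perm (Fin n)) := ⟨_, rfl⟩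
  obtain ⟨B', hB'⟩ := exists_sylow_big e P hrp
  obtain ⟨Q', hQ'⟩ := exists_sylow_small e _ hB'
  have hle : (S : Subgroup (alternatingGroup (Fin n))) ≤ smallS e (P : Subgroup (Perm (Fin k))) := by
    rw [← ha, Sylow.coe_subgroup_smul, hQ]
    rintro _ ⟨y, hy, rfl⟩
    obtain ⟨b, π, hπ, hyv⟩ := hy
    refine ⟨b, π, hπ, ?_⟩
    change (y : Perm (Fin n)) = _ at hyv
    show (a : Perm (Fin n)) * (y : Perm (Fin n)) * (a : Perm (Fin n))⁻¹ = _
    rw [hyv, conj_model e0, he]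
  refine isSimple_of_model e ι hk3 hpk (hr ▸ hb) P (hP (Subgroup.mem_zpowers _))
    (by simpa using hn) S ?_
  rw [← hQ'] at hle ⊢
  exact (S.3 Q'.2 hle).symm

end Cfsg.Agent.Fus.Alt
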