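import Mathlib

/-!
A model for Sylow subgroups of symmetric groups: a product of `k` blocks of size `p` together with
`r < p` further points, translations on the blocks and permutations of the blocks.
-/

set_option autoImplicit false
set_option linter.unusedSectionVars false

namespace Cfsg.Agent.Fus.Alt

open Equiv Equiv.Perm
open scoped Classical

theorem zmod_two_cases : ∀ y : ZMod 2, y = 0 ∨ y = 1 := by decide

variable {p k r : ℕ} [hp : Fact p.Prime] {β : Type*} [Fintype β] [DecidableEq β]
variable (e : (Fin k × ZMod p) ⊕ Fin r ≃ β)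

/-- A point of a block. -/
def pt (i : Fin k) (x : ZMod p) : β := e (Sum.inl (i, x))

/-- A point outside the blocks. -/
def rest (j : Fin r) : β := e (Sum.inr j)

theorem pt_inj {i i' : Fin k} {x x' : ZMod p} : pt e i x = pt e i' x' ↔ i = i' ∧ x = x' := by
  simp [pt]

theorem pt_ne_rest {i : Fin k} {x : ZMod p} {j : Fin r} : pt e i x ≠ rest e j := by
  simp [pt, rest]

theorem cases (z : β) : (∃ i x, z = pt e i x) ∨ ∃ j, z = rest e j := by
  obtain ⟨y, rfl⟩ := e.surjective z
  rcases y with ⟨i, x⟩ | j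
  · exact Or.inl ⟨i, x, rfl⟩
  · exact Or.inr ⟨j, rfl⟩

theorem perm_ext {f g : Perm β} (h1 : ∀ i x, f (pt e i x) = g (pt e i x))
    (h2 : ∀ j, f (rest e j) = g (rest e j)) : f = g :=
  Equiv.ext fun z => by
    rcases cases e z with ⟨i, x, rfl⟩ | ⟨j, rfl⟩
    · exact h1 i x
    · exact h2 j

/-- A permutation of the blocks with their points. -/
def blockPerm : Perm (Fin k × ZMod p) →* Perm β where
  toFun σ := e.permCongr (Equiv.sumCongr σ (1 : Perm (Fin r)))
  map_one' := Equiv.ext fun z => by
    simp only [permCongr_apply, Perm.coe_one]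
    rcases h : e.symm z with y | y <;> simp [← h]
  map_mul' σ τ := Equiv.ext fun z => by
    simp only [permCongr_apply, Perm.mul_apply, symm_apply_apply]
    rcases e.symm z with y | y <;> simp

theorem blockPerm_pt (σ : Perm (Fin k × ZMod p)) (i : Fin k) (x : ZMod p) :
    blockPerm e σ (pt e i x) = pt e (σ (i, x)).1 (σ (i, x)).2 := by
  simp [blockPerm, pt, permCongr_apply]

theorem blockPerm_rest (σ : Perm (Fin k × ZMod p)) (j : Fin r) :
    blockPerm e σ (rest e j) = rest e j := by
  simp [blockPerm, rest, permCongr_apply]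

/-- The translations. -/
def trE (b : Fin k → ZMod p) : Perm (Fin k × ZMod p) where
  toFun y := (y.1, y.2 + b y.1)
  invFun y := (y.1, y.2 - b y.1)
  left_inv y := by simp
  right_inv y := by simp

/-- The translations. -/
def tr (b : Fin k → ZMod p) : Perm β := blockPerm e (trE b)

theorem tr_pt (b : Fin k → ZMod p) (i : Fin k) (x : ZMod p) :
    tr e b (pt e i x) = pt e i (x + b i) := blockPerm_pt e _ i x

theorem tr_rest (b : Fin k → ZMod p) (j : Fin r) : tr e b (rest e j) = rest e j :=
  blockPerm_rest e _ j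

theorem tr_add (b c : Fin k → ZMod p) : tr e (b + c) = tr e b * tr e c :=
  perm_ext e (fun i x => by rw [Perm.mul_apply, tr_pt, tr_pt, tr_pt, Pi.add_apply]; congr 1; ring)
    fun j => by rw [Perm.mul_apply, tr_rest, tr_rest, tr_rest]

theorem tr_zero : tr e (0 : Fin k → ZMod p) = 1 :=
  perm_ext e (fun i x => by rw [tr_pt]; simp) fun j => by rw [tr_rest]; rfl

/-- The translations as a homomorphism. -/
def trHom : Multiplicative (Fin k → ZMod p) →* Perm β where
  toFun b := tr e b.toAdd
  map_one' := tr_zero e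
  map_mul' _ _ := tr_add e _ _

theorem tr_neg (b : Fin k → ZMod p) : tr e (-b) = (tr e b)⁻¹ :=
  eq_inv_of_mul_eq_one_left (by rw [← tr_add, neg_add_cancel, tr_zero])

theorem tr_injective {b c : Fin k → ZMod p} (h : tr e b = tr e c) : b = c := funext fun i => by
  have := congrArg (fun f : Perm β => f (pt e i 0)) h
  simpa [tr_pt, pt_inj] using this

theorem tr_pow (b : Fin k → ZMod p) (n : ℕ) : tr e b ^ n = tr e (n • b) := by
  induction n with
  | zero => rw [pow_zero, zero_smul, tr_zero]
  | succ n ih => rw [pow_succ, ih, ← tr_add, succ_nsmul]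

theorem tr_pow_prime (b : Fin k → ZMod p) : tr e b ^ p = 1 := by
  rw [tr_pow, show p • b = 0 from funext fun i => by simp, tr_zero]

/-- The lift of a permutation of the blocks. -/
def liftE : Perm (Fin k) →* Perm (Fin k × ZMod p) where
  toFun π := Equiv.prodCongrLeft fun _ => π
  map_one' := Equiv.ext fun _ => rfl
  map_mul' _ _ := Equiv.ext fun _ => rfl

/-- The lift of a permutation of the blocks. -/
def lift : Perm (Fin k) →* Perm β := (blockPerm e).comp liftE

theorem lift_pt (π : Perm (Fin k)) (i : Fin k) (x : ZMod p) :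
    lift e π (pt e i x) = pt e (π i) x := blockPerm_pt e _ i x

theorem lift_rest (π : Perm (Fin k)) (j : Fin r) : lift e π (rest e j) = rest e j :=
  blockPerm_rest e _ j

theorem lift_tr (π : Perm (Fin k)) (b : Fin k → ZMod p) :
    lift e π * tr e b = tr e (b ∘ π.symm) * lift e π :=
  perm_ext e (fun i x => by simp [Perm.mul_apply, tr_pt, lift_pt])
    fun j => by simp [Perm.mul_apply, tr_rest, lift_rest]

theorem sign_blockPerm (σ : Perm (Fin k × ZMod p)) : sign (blockPerm e σ) = sign σ := by
  show sign (e.permCongr (Equiv.sumCongr σ (1 : Perm (Fin r)))) = _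
  rw [sign_permCongr, Perm.sign_sumCongr, map_one, mul_one]

theorem sign_lift (π : Perm (Fin k)) : sign (lift e π) = sign π ^ p := by
  rw [lift, MonoidHom.comp_apply, sign_blockPerm]
  show sign (Equiv.prodCongrLeft fun _ : ZMod p => π) = _
  rw [sign_prodCongrLeft, Finset.prod_const, Finset.card_univ, ZMod.card]

theorem sign_lift_two (h2 : p = 2) (π : Perm (Fin k)) : sign (lift e π) = 1 := by
  subst h2; rw [sign_lift]; exact Int.units_sq _

theorem sign_lift_odd (h2 : p ≠ 2) (π : Perm (Fin k)) : sign (lift e π) = sign π := by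
  rw [sign_lift]
  obtain ⟨m, rfl⟩ := (hp.out.eq_two_or_odd').resolve_left h2
  rw [pow_succ, pow_mul, Int.units_sq, one_pow, one_mul]

theorem sign_eq_one_of_pow_prime (h2 : p ≠ 2) {f : Perm β} (h : f ^ p = 1) : sign f = 1 := by
  have h1 := congrArg sign h
  obtain ⟨m, rfl⟩ := (hp.out.eq_two_or_odd').resolve_left h2
  rwa [map_pow, map_one, pow_succ, pow_mul, Int.units_sq, one_pow, one_mul] at h1

theorem sign_tr_single (h2 : p = 2) (i : Fin k) : sign (tr e (Pi.single i 1)) = -1 := by
  subst h2
  have : tr e (Pi.single i 1) = swap (pt e i 0) (pt e i 1) := by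
    refine perm_ext e (fun j x => ?_) fun j => ?_
    · rw [tr_pt]
      rcases eq_or_ne j i with rfl | hji
      · rcases zmod_two_cases x with rfl | rfl
        · rw [swap_apply_left, Pi.single_eq_same, zero_add]
        · rw [swap_apply_right, Pi.single_eq_same]; rfl
      · rw [Pi.single_eq_of_ne hji, add_zero, swap_apply_of_ne_of_ne] <;> simp [pt_inj, hji]
    · rw [tr_rest, swap_apply_of_ne_of_ne] <;> exact (pt_ne_rest e).symm
  rw [this, sign_swap]
  simp [pt_inj]

/-- The moved points of a translation. -/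
theorem card_support_tr (b : Fin k → ZMod p) :
    (tr e b).support.card = p * (Finset.univ.filter fun i => b i ≠ 0).card := by
  have : (tr e b).support =
      ((Finset.univ.filter fun i => b i ≠ 0) ×ˢ (Finset.univ : Finset (ZMod p))).map
        ⟨fun y => pt e y.1 y.2, fun y y' h => Prod.ext ((pt_inj e).1 h).1 ((pt_inj e).1 h).2⟩ := by
    ext z
    rw [Perm.mem_support]
    rcases cases e z with ⟨i, x, rfl⟩ | ⟨j, rfl⟩
    · simp only [tr_pt, ne_eq, pt_inj, true_and, add_eq_left, Finset.mem_map, Finset.mem_product,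
        Finset.mem_filter, Finset.mem_univ, and_true, Function.Embedding.coeFn_mk]
      exact ⟨fun h => ⟨(i, x), h, rfl⟩, fun ⟨⟨a, c⟩, h, hac⟩ => ((pt_inj e).1 hac).1 ▸ h⟩
    · simp only [tr_rest, ne_eq, not_true_eq_false, Finset.mem_map, Function.Embedding.coeFn_mk,
        false_iff, not_exists, not_and]
      exact fun y _ => pt_ne_rest e
  rw [this, Finset.card_map, Finset.card_product, Finset.card_univ, ZMod.card, mul_comm]

/-- Elements of order `p` are conjugate if they move as many points. -/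
theorem isConj_of_card_support {x y : Perm β} (hx : x ^ p = 1) (hy : y ^ p = 1)
    (h : x.support.card = y.support.card) : IsConj x y := by
  rw [isConj_iff_cycleType_eq, cycleType_of_pow_prime_eq_one hx, cycleType_of_pow_prime_eq_one hy]
  have h1 := x.sum_cycleType
  have h2 := y.sum_cycleType
  rw [cycleType_of_pow_prime_eq_one hx, Multiset.sum_replicate] at h1
  rw [cycleType_of_pow_prime_eq_one hy, Multiset.sum_replicate] at h2
  congr 1
  exact Nat.eq_of_mul_eq_mul_right hp.out.pos (by simpa using h1.trans (h.trans h2.symm))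

/-! ### The Sylow subgroup -/

variable (Pi0 : Subgroup (Perm (Fin k)))

/-- Translations by all vectors and lifts of `Π`. -/
def big : Subgroup (Perm β) where
  carrier := {f | ∃ b, ∃ π ∈ Pi0, f = tr e b * lift e π}
  one_mem' := ⟨0, 1, one_mem _, by rw [tr_zero, map_one, one_mul]⟩
  mul_mem' := by
    rintro _ _ ⟨b, π, hπ, rfl⟩ ⟨c, ρ, hρ, rfl⟩
    exact ⟨b + c ∘ π.symm, π * ρ, mul_mem hπ hρ, by
      rw [map_mul, tr_add, mul_assoc, ← mul_assoc (lift e π), lift_tr]; group⟩
  inv_mem' := by
    rintro _ ⟨b, π, hπ, rfl⟩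
    refine ⟨-(b ∘ π⁻¹.symm), π⁻¹, inv_mem hπ, ?_⟩
    rw [_root_.mul_inv_rev, ← map_inv, ← tr_neg, lift_tr]
    rfl

theorem tr_mem (b : Fin k → ZMod p) : tr e b ∈ big e Pi0 :=
  ⟨b, 1, one_mem _, by rw [map_one, mul_one]⟩

theorem lift_mem {π : Perm (Fin k)} (h : π ∈ Pi0) : lift e π ∈ big e Pi0 :=
  ⟨0, π, h, by rw [tr_zero, one_mul]⟩

theorem tr_lift_eq {b c : Fin k → ZMod p} {π σ : Perm (Fin k)}
    (h : tr e b * lift e π = tr e c * lift e σ) : b = c ∧ π = σ := by
  have hπ : π = σ := Equiv.ext fun i => by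
    have := congrArg (fun f : Perm β => f (pt e i 0)) h
    simp only [Perm.mul_apply, lift_pt, tr_pt, pt_inj] at this
    exact this.1
  subst hπ
  exact ⟨tr_injective e (mul_right_cancel h), rfl⟩

theorem card_big : Nat.card (big e Pi0) = p ^ k * Nat.card Pi0 := by
  let φ : (Fin k → ZMod p) × Pi0 → big e Pi0 := fun y => ⟨_, y.1, y.2, y.2.2, rfl⟩
  have hb : Function.Bijective φ := by
    refine ⟨fun y y' h => ?_, ?_⟩
    · obtain ⟨h1, h2⟩ := tr_lift_eq e (congrArg Subtype.val h)
      exact Prod.ext h1 (Subtype.ext h2)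
    · rintro ⟨_, b, π, hπ, rfl⟩
      exact ⟨(b, ⟨π, hπ⟩), rfl⟩
  rw [← Nat.card_congr (Equiv.ofBijective φ hb), Nat.card_prod, Nat.card_fun, Nat.card_fin,
    Nat.card_zmod]

theorem card_beta (e : (Fin k × ZMod p) ⊕ Fin r ≃ β) : Nat.card β = p * k + r := by
  rw [← Nat.card_congr e, Nat.card_sum, Nat.card_prod, Nat.card_fin, Nat.card_fin, Nat.card_zmod,
    mul_comm]

/-- The model is a Sylow subgroup. -/
theorem exists_sylow_big (P : Sylow p (Perm (Fin k))) (hr : r < p) :
    ∃ Q : Sylow p (Perm β), (Q : Subgroup (Perm β)) = big e P := by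
  have hcard : Nat.card (big e (P : Subgroup (Perm (Fin k)))) =
      p ^ (Nat.card (Perm β)).factorization p := by
    rw [card_big, Sylow.card_eq_multiplicity, Nat.card_perm, Nat.card_perm, card_beta e, Nat.card_fin,
      Nat.factorization_def _ hp.out, Nat.factorization_def _ hp.out, padicValNat_factorial_mul_add k hr,
      padicValNat_factorial_mul, ← pow_add, Nat.add_comm]
  exact ⟨Sylow.ofCard _ hcard, rfl⟩

/-- Sylow subgroups of symmetric groups are generated by their elements of order `p`. -/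
theorem sylow_le_closure (n : ℕ) : ∀ P : Sylow p (Perm (Fin n)),
    (P : Subgroup (Perm (Fin n))) ≤ Subgroup.closure {x | x ∈ P ∧ x ^ p = 1} := by
  induction n using Nat.strong_induction_on with
  | _ n ih =>
    intro P
    rcases Nat.eq_zero_or_pos n with rfl | hn
    · intro x _
      rw [Subsingleton.elim x 1]
      exact one_mem _
    obtain ⟨k, hk⟩ : ∃ k, k = n / p := ⟨_, rfl⟩
    obtain ⟨r, hr⟩ : ∃ r, r = n % p := ⟨_, rfl⟩
    have hrp : r < p := hr ▸ Nat.mod_lt _ hp.out.pos
    let e : (Fin k × ZMod p) ⊕ Fin r ≃ Fin n :=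
      (Fintype.equivFinOfCardEq (by
        rw [Fintype.card_sum, Fintype.card_prod, Fintype.card_fin, Fintype.card_fin, ZMod.card, hk, hr,
          mul_comm, Nat.div_add_mod]))
    obtain ⟨P'⟩ := (inferInstance : Nonempty (Sylow p (Perm (Fin k))))
    obtain ⟨Q, hQ⟩ := exists_sylow_big e P' hrp
    obtain ⟨g, hg⟩ := MulAction.exists_smul_eq (Perm (Fin n)) Q P
    have hgen : (Q : Subgroup (Perm (Fin n))) ≤ Subgroup.closure {x | x ∈ Q ∧ x ^ p = 1} := by
      rw [hQ]
      rintro _ ⟨b, π, hπ, rfl⟩
      refine Subgroup.mul_mem _ (Subgroup.subset_closure ⟨?_, tr_pow_prime e b⟩) ?_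
      · show tr e b ∈ (Q : Subgroup (Perm (Fin n)))
        rw [hQ]; exact tr_mem e _ b
      refine ((Subgroup.closure_le ((Subgroup.closure _).comap (lift e))).2 ?_)
        (ih k (hk ▸ Nat.div_lt_self hn hp.out.one_lt) P' hπ)
      rintro x ⟨hx, hxp⟩
      refine Subgroup.subset_closure ⟨?_, by rw [← map_pow, hxp, map_one]⟩
      show lift e x ∈ (Q : Subgroup (Perm (Fin n)))
      rw [hQ]; exact lift_mem e _ hx
    rw [← hg, Sylow.coe_subgroup_smul]
    rintro _ ⟨x, hx, rfl⟩
    refine ((Subgroup.closure_le ((Subgroup.closure _).comap (MulAut.conj g).toMonoidHom)).2 ?_)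
      (hgen hx)
    rintro y ⟨hy, hyp⟩
    refine Subgroup.subset_closure ⟨?_, by rw [← map_pow, hyp, map_one]⟩
    show _ ∈ ((g • Q : Sylow p (Perm (Fin n))) : Subgroup (Perm (Fin n)))
    rw [Sylow.coe_subgroup_smul]
    exact ⟨y, hy, rfl⟩

end Cfsg.Agent.Fus.Alt
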