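import Cfsg.Agent.Lib.Fus.AltSimple

/-!
The normalizer of a Sylow `p`-subgroup of `A_n`, `p` odd, acts through generators.
-/

set_option autoImplicit false
set_option linter.unusedSectionVars false
set_option linter.style.haveILetI false

namespace Cfsg.Agent.Fus.Alt

open Equiv Equiv.Perm
open scoped Classical

variable {p k r : ℕ} [hp : Fact p.Prime] {β : Type*} [Fintype β] [DecidableEq β]
variable (e : (Fin k × ZMod p) ⊕ Fin r ≃ β) (ι : ZMod p ↪ Fin k)

local notation "A" => alternatingGroup β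

/-- The scalings of the blocks. -/
def torE : (Fin k → (ZMod p)ˣ) →* Perm (Fin k × ZMod p) where
  toFun a :=
    { toFun := fun y => (y.1, a y.1 * y.2)
      invFun := fun y => (y.1, ↑(a y.1)⁻¹ * y.2)
      left_inv := fun y => Prod.ext rfl (Units.inv_mul_cancel_left (a y.1) y.2)
      right_inv := fun y => Prod.ext rfl (Units.mul_inv_cancel_left (a y.1) y.2) }
  map_one' := Equiv.ext fun y => Prod.ext rfl (one_mul y.2)
  map_mul' a b := Equiv.ext fun y => Prod.ext rfl (mul_assoc _ _ y.2)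

/-- The scalings of the blocks, on points. -/
def tor : (Fin k → (ZMod p)ˣ) →* Perm β := (blockPerm e).comp torE

theorem tor_pt (a : Fin k → (ZMod p)ˣ) (i : Fin k) (x : ZMod p) :
    tor e a (pt e i x) = pt e i (a i * x) := blockPerm_pt e _ i x

theorem tor_rest (a : Fin k → (ZMod p)ˣ) (j : Fin r) : tor e a (rest e j) = rest e j :=
  blockPerm_rest e _ j

/-- The elements normalizing the translations. -/
def NormE (g : Perm β) : Prop := ∀ b : Fin k → ZMod p, ∃ b', g * tr e b * g⁻¹ = tr e b'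

theorem NormE.mul {g h : Perm β} (hg : NormE e g) (hh : NormE e h) : NormE e (g * h) := by
  intro b
  obtain ⟨b', hb'⟩ := hh b
  obtain ⟨b'', hb''⟩ := hg b'
  exact ⟨b'', by rw [← hb'', ← hb']; group⟩

theorem normE_tr (c : Fin k → ZMod p) : NormE e (tr e c) := fun b =>
  ⟨b, by rw [← tr_add, add_comm, tr_add, mul_inv_cancel_right]⟩

theorem normE_lift (π : Perm (Fin k)) : NormE e (lift e π) := fun b =>
  ⟨b ∘ π.symm, by rw [lift_tr, mul_inv_cancel_right]⟩

theorem normE_tor (a : Fin k → (ZMod p)ˣ) : NormE e (tor e a) := fun b =>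
  ⟨fun i => a i * b i, by
    rw [mul_inv_eq_iff_eq_mul]
    exact perm_ext e (fun i x => by simp [Perm.mul_apply, tr_pt, tor_pt, mul_add])
      fun j => by simp [Perm.mul_apply, tr_rest, tor_rest]⟩

theorem NormE.inv {g : Perm β} (hg : NormE e g) : NormE e g⁻¹ := by
  intro b
  obtain ⟨c, hc⟩ := ThreeTwo.pow_conj_mem (P := (trHom e).range) (g := g)
    (by
      rintro _ ⟨v, rfl⟩
      obtain ⟨b', hb'⟩ := hg v.toAdd
      exact ⟨Multiplicative.ofAdd b', hb'.symm⟩) (tr e b) ⟨Multiplicative.ofAdd b, rfl⟩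
  exact ⟨c.toAdd, by rw [inv_inv]; exact hc.symm⟩

theorem normalizer_evenTr {g : A} (hg : NormE e (g : Perm β)) :
    g ∈ Subgroup.normalizer ((evenTr e : Subgroup A) : Set A) := by
  refine mem_normalizer_of_forall (fun y hy => ?_) fun y hy => ?_
  · obtain ⟨b, hb⟩ := (mem_evenTr e).1 hy
    obtain ⟨b', hb'⟩ := hg b
    exact (mem_evenTr e).2 ⟨b', by rw [← hb', hb]; rfl⟩
  · obtain ⟨b, hb⟩ := (mem_evenTr e).1 hy
    obtain ⟨b', hb'⟩ := NormE.inv e hg b
    rw [inv_inv] at hb'
    exact (mem_evenTr e).2 ⟨b', by rw [← hb', hb]; rfl⟩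

/-- The subgroup generated by `p`-elements normalizing the translations. -/
def kGrp : Subgroup (Perm β) :=
  Subgroup.closure {x : Perm β | NormE e x ∧ ∃ j : ℕ, x ^ p ^ j = 1}

theorem tr_mem_kGrp (b : Fin k → ZMod p) : tr e b ∈ kGrp e :=
  Subgroup.subset_closure ⟨normE_tr e b, 1, by rw [pow_one]; exact tr_pow_prime e b⟩

theorem kGrp_conj {g x : Perm β} (hg : NormE e g) (hx : x ∈ kGrp e) : g * x * g⁻¹ ∈ kGrp e := by
  refine ((Subgroup.closure_le ((kGrp e).comap (MulAut.conj g).toMonoidHom)).2 ?_) hx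
  rintro y ⟨hy, j, hj⟩
  exact Subgroup.subset_closure ⟨(NormE.mul e (NormE.mul e hg hy) (NormE.inv e hg)), j, by
    rw [← map_pow, hj, map_one]⟩

/-- The alternating group is generated by elements of order `p`. -/
theorem alt_le_closure (h2 : p ≠ 2) (hpk : p ≤ k) :
    alternatingGroup (Fin k) ≤ Subgroup.closure {π : Perm (Fin k) | π ^ p = 1} := by
  have hp3 : 3 ≤ p := by have := hp.out.two_le; omega
  rcases Nat.lt_or_ge k 5 with hk | hk
  · have hp3' : p = 3 := by
      rcases (show p = 3 ∨ p = 4 by omega) with h | h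
      · exact h
      · exact absurd hp.out (by rw [h]; norm_num)
    subst hp3'
    rw [← closure_three_cycles_eq_alternating]
    refine Subgroup.closure_mono fun π (hπ : π.IsThreeCycle) => ?_
    show π ^ 3 = 1
    rw [← hπ.orderOf, pow_orderOf_eq_one]
  · haveI := alternatingGroup.isSimpleGroup (α := Fin k) (by simpa using hk)
    obtain ⟨N, hN⟩ : ∃ N, N = (Subgroup.closure {π : Perm (Fin k) | π ^ p = 1}).subgroupOf
      (alternatingGroup (Fin k)) := ⟨_, rfl⟩
    have hn : N.Normal := ⟨fun x hx g => by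
      rw [hN, Subgroup.mem_subgroupOf] at hx ⊢
      refine ((Subgroup.closure_le ((Subgroup.closure _).comap
        (MulAut.conj (g : Perm (Fin k))).toMonoidHom)).2 ?_) hx
      intro y (hy : y ^ p = 1)
      exact Subgroup.subset_closure (show _ ^ p = 1 by rw [← map_pow, hy, map_one])⟩
    haveI : Nontrivial (Fin k) := Fin.nontrivial_iff_two_le.2 (by omega)
    obtain ⟨x, hx⟩ := exists_prime_orderOf_dvd_card' (G := alternatingGroup (Fin k)) p (by
      have h1 : p ∣ 2 * Nat.card (alternatingGroup (Fin k)) := by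
        rw [two_mul_nat_card_alternatingGroup, Nat.card_perm, Nat.card_fin]
        exact Nat.dvd_factorial hp.out.pos hpk
      exact ((Nat.coprime_primes hp.out Nat.prime_two).2 h2).dvd_of_dvd_mul_left h1)
    rcases IsSimpleGroup.eq_bot_or_eq_top_of_normal N hn with h | h
    · exfalso
      have hmem : x ∈ N := by
        rw [hN, Subgroup.mem_subgroupOf]
        exact Subgroup.subset_closure (show (x : Perm (Fin k)) ^ p = 1 by
          rw [← SubgroupClass.coe_pow, ← hx, pow_orderOf_eq_one]; rfl)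
      rw [h, Subgroup.mem_bot] at hmem
      rw [hmem, orderOf_one] at hx
      exact hp.out.one_lt.ne hx
    · rwa [hN, Subgroup.subgroupOf_eq_top] at h

theorem lift_mem_kGrp (h2 : p ≠ 2) (hpk : p ≤ k) {π : Perm (Fin k)} (hπ : sign π = 1) :
    lift e π ∈ kGrp e := by
  refine ((Subgroup.closure_le ((kGrp e).comap (lift e))).2 ?_)
    (alt_le_closure h2 hpk (mem_alternatingGroup.2 hπ))
  intro y (hy : y ^ p = 1)
  exact Subgroup.subset_closure ⟨normE_lift e y, 1, by rw [pow_one, ← map_pow, hy, map_one]⟩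

theorem tor_mem_kGrp (h2 : p ≠ 2) (hk : 3 ≤ k) (hpk : p ≤ k) (a : Fin k → (ZMod p)ˣ)
    (ha : ∏ i, a i = 1) : tor e a ∈ kGrp e := by
  have hpair : ∀ (i j : Fin k) (u : (ZMod p)ˣ), i ≠ j →
      tor e (Pi.mulSingle i u * Pi.mulSingle j u⁻¹) ∈ kGrp e := by
    intro i j u hij
    obtain ⟨l, hl⟩ : ∃ l, l ∉ ({i, j} : Finset (Fin k)) := by
      by_contra hc
      push Not at hc
      have h1 := Finset.card_le_card (fun x _ => hc x : (Finset.univ : Finset (Fin k)) ⊆ {i, j})
      rw [Finset.card_univ, Fintype.card_fin] at h1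
      exact absurd (h1.trans Finset.card_le_two) (by omega)
    simp only [Finset.mem_insert, Finset.mem_singleton, not_or] at hl
    obtain ⟨σ, hσ⟩ : ∃ σ, σ = swap i j * swap j l := ⟨_, rfl⟩
    have hσs : sign σ = 1 := by
      rw [hσ, map_mul, sign_swap hij, sign_swap (Ne.symm hl.2)]; rfl
    have hσi : σ i = j := by
      rw [hσ, Perm.mul_apply, swap_apply_of_ne_of_ne hij (Ne.symm hl.1), swap_apply_left]
    have h1 := (kGrp e).mul_mem (kGrp_conj e (normE_tor e (Pi.mulSingle i u))
      (lift_mem_kGrp e h2 hpk hσs)) ((kGrp e).inv_mem (lift_mem_kGrp e h2 hpk hσs))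
    convert h1 using 1
    rw [← map_inv (tor e), eq_mul_inv_iff_mul_eq]
    refine perm_ext e (fun m x => ?_) fun m => ?_
    · simp only [Perm.mul_apply, tor_pt, lift_pt, Pi.mul_apply, Pi.inv_apply, pt_inj, true_and]
      rw [Units.val_mul, mul_assoc]
      congr 1
      rcases eq_or_ne m i with rfl | hm
      · rw [hσi, Pi.mulSingle_eq_same, Pi.mulSingle_eq_same]
      · rw [Pi.mulSingle_eq_of_ne hm, Pi.mulSingle_eq_of_ne (fun h => hm (σ.injective (h.trans hσi.symm))),
          inv_one]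
    · simp only [Perm.mul_apply, tor_rest, lift_rest]
  obtain ⟨i0, hi0⟩ : ∃ i0 : Fin k, i0 = ⟨0, by omega⟩ := ⟨_, rfl⟩
  have hdec : a = ∏ i, (Pi.mulSingle i (a i) * Pi.mulSingle i0 (a i)⁻¹) := by
    have hz : ∏ i, Pi.mulSingle (M := fun _ : Fin k => (ZMod p)ˣ) i0 (a i)⁻¹ = 1 := by
      have h1 := map_prod (MonoidHom.mulSingle (fun _ : Fin k => (ZMod p)ˣ) i0) (fun i => (a i)⁻¹)
        Finset.univ
      rw [Finset.prod_inv_distrib, ha, inv_one, map_one] at h1
      exact h1.symm
    rw [Finset.prod_mul_distrib, Finset.univ_prod_mulSingle, hz, mul_one]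
  rw [hdec]
  refine ((kGrp e).comap (tor e)).prod_mem fun i _ => ?_
  show tor e _ ∈ kGrp e
  rcases eq_or_ne i i0 with rfl | hi
  · rw [← Pi.mulSingle_mul, mul_inv_cancel, Pi.mulSingle_one, map_one]; exact one_mem _
  · exact hpair i i0 (a i) hi

/-! ### The regular subgroup on the first `p²` points -/

/-- The generators of the second subgroup. -/
def r2Set : Set (Perm β) :=
  insert (sh e ι) {g | ∃ c : Fin k → ZMod p, (∀ y, c (ι y) = c (ι 0)) ∧ g = tr e c}

/-- The generators of the common overgroup. -/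
def jSet : Set (Perm β) := insert (sh e ι) {g | ∃ c : Fin k → ZMod p, g = tr e c}

theorem r2_subset : r2Set e ι ⊆ jSet e ι := by
  rintro g (rfl | ⟨c, -, rfl⟩)
  · exact Set.mem_insert _ _
  · exact Set.mem_insert_of_mem _ ⟨c, rfl⟩

theorem sh_pt (y x : ZMod p) : sh e ι (pt e (ι y) x) = pt e (ι (y + 1)) x := by
  rw [sh, lift_pt, shiftPerm_range]

theorem sh_pt_out {i : Fin k} (hi : i ∉ Set.range ι) (x : ZMod p) :
    sh e ι (pt e i x) = pt e i x := by
  rw [sh, lift_pt, shiftPerm_out ι hi]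

theorem sh_pow (n : ℕ) (y x : ZMod p) : (sh e ι ^ n) (pt e (ι y) x) = pt e (ι (y + n)) x := by
  induction n with
  | zero => simp
  | succ n ih => rw [pow_succ', Perm.mul_apply, ih, sh_pt]; push_cast; rw [add_assoc]

theorem sh_pow_out (n : ℕ) {i : Fin k} (hi : i ∉ Set.range ι) (x : ZMod p) :
    (sh e ι ^ n) (pt e i x) = pt e i x := by
  induction n with
  | zero => simp
  | succ n ih => rw [pow_succ', Perm.mul_apply, ih, sh_pt_out e ι hi]

theorem sh_rest (j : Fin r) : sh e ι (rest e j) = rest e j := lift_rest e _ j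

theorem sh_pow_rest (n : ℕ) (j : Fin r) : (sh e ι ^ n) (rest e j) = rest e j := by
  induction n with
  | zero => simp
  | succ n ih => rw [pow_succ', Perm.mul_apply, ih, sh_rest]

theorem closure_conj_mem {K : Type*} [Group K] {X : Set K} {g : K}
    (h : ∀ x ∈ X, g * x * g⁻¹ ∈ Subgroup.closure X) :
    ∀ x ∈ Subgroup.closure X, g * x * g⁻¹ ∈ Subgroup.closure X := fun x hx =>
  ((Subgroup.closure_le ((Subgroup.closure X).comap (MulAut.conj g).toMonoidHom)).2 h) hx

theorem normalizer_subgroupOf {Q : Subgroup (Perm β)} {g : A}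
    (h : ∀ x ∈ Q, (g : Perm β) * x * (g : Perm β)⁻¹ ∈ Q) :
    g ∈ Subgroup.normalizer ((Q.subgroupOf A : Subgroup A) : Set A) := by
  refine mem_normalizer_of_forall (fun y hy => h _ hy) fun y hy => ?_
  have := ThreeTwo.pow_conj_mem h _ hy
  show ((g⁻¹ * y * g⁻¹⁻¹ : A) : Perm β) ∈ Q
  simpa using this

/-- The embedding of the first `p²` points. -/
noncomputable def emb : ZMod p × ZMod p ↪ β :=
  ⟨fun y => pt e (ι y.1) y.2, fun y y' h =>
    Prod.ext (ι.injective ((pt_inj e).1 h).1) ((pt_inj e).1 h).2⟩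

/-- The transvections on the first `p²` points. -/
noncomputable def uE : Multiplicative (ZMod p) →* Perm (ZMod p × ZMod p) where
  toFun t :=
    { toFun := fun y => (y.1 + t.toAdd * y.2, y.2)
      invFun := fun y => (y.1 - t.toAdd * y.2, y.2)
      left_inv := fun y => by simp
      right_inv := fun y => by simp }
  map_one' := Equiv.ext fun y => by simp
  map_mul' s t := Equiv.ext fun y => by simp [add_mul]; ring

/-- The transvections on the first `p²` points. -/
noncomputable def uu : Multiplicative (ZMod p) →* Perm β :=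
  (Perm.viaEmbeddingHom (emb e ι)).comp uE

/-- The transvection `t`. -/
noncomputable def up (t : ZMod p) : Perm β := uu e ι (Multiplicative.ofAdd t)

theorem up_pt (t y x : ZMod p) : up e ι t (pt e (ι y) x) = pt e (ι (y + t * x)) x :=
  Perm.viaEmbedding_apply _ (emb e ι) (y, x)

theorem up_out (t : ZMod p) {i : Fin k} (hi : i ∉ Set.range ι) (x : ZMod p) :
    up e ι t (pt e i x) = pt e i x :=
  Perm.viaEmbedding_apply_of_notMem _ (emb e ι) _ fun ⟨y, hy⟩ => hi ⟨y.1, ((pt_inj e).1 hy).1⟩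

theorem up_rest (t : ZMod p) (j : Fin r) : up e ι t (rest e j) = rest e j :=
  Perm.viaEmbedding_apply_of_notMem _ (emb e ι) _ fun ⟨_, hy⟩ => pt_ne_rest e hy

theorem up_pow (t : ZMod p) : up e ι t ^ p = 1 := by
  rw [up, ← map_pow]
  convert map_one (uu e ι)
  exact Multiplicative.toAdd.injective (by simp)

/-- The opposite transvection. -/
noncomputable def lo (t : ZMod p) : Perm β := tr e (extv ι fun y => t * y)

theorem lo_pt (t y x : ZMod p) : lo e ι t (pt e (ι y) x) = pt e (ι y) (x + t * y) := by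
  rw [lo, tr_pt, extv_range]

theorem lo_out (t : ZMod p) {i : Fin k} (hi : i ∉ Set.range ι) (x : ZMod p) :
    lo e ι t (pt e i x) = pt e i x := by
  rw [lo, tr_pt, extv_out ι _ hi, add_zero]

theorem up_normalizes (t : ZMod p) :
    ∀ x ∈ Subgroup.closure (r2Set e ι), up e ι t * x * (up e ι t)⁻¹ ∈ Subgroup.closure (r2Set e ι) := by
  refine closure_conj_mem ?_
  rintro g (rfl | ⟨c, hc, rfl⟩)
  · suffices he : up e ι t * sh e ι * (up e ι t)⁻¹ = sh e ι by
      rw [he]; exact Subgroup.subset_closure (Set.mem_insert _ _)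
    rw [mul_inv_eq_iff_eq_mul]
    refine perm_ext e (fun i x => ?_) fun j => ?_
    · by_cases hi : i ∈ Set.range ι
      · obtain ⟨y, rfl⟩ := hi
        simp only [Perm.mul_apply, sh_pt, up_pt]
        congr 2; ring
      · simp only [Perm.mul_apply, sh_pt_out e ι hi, up_out e ι t hi]
    · simp only [Perm.mul_apply, sh_rest, up_rest]
  · have he : up e ι t * tr e c * (up e ι t)⁻¹ = tr e c * sh e ι ^ (t * c (ι 0)).val := by
      rw [mul_inv_eq_iff_eq_mul]
      refine perm_ext e (fun i x => ?_) fun j => ?_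
      · by_cases hi : i ∈ Set.range ι
        · obtain ⟨y, rfl⟩ := hi
          simp only [Perm.mul_apply, up_pt, tr_pt, sh_pow, hc, ZMod.natCast_zmod_val, pt_inj, and_true]
          congr 1; ring
        · simp only [Perm.mul_apply, up_out e ι t hi, tr_pt, sh_pow_out e ι _ hi]
      · simp only [Perm.mul_apply, up_rest, tr_rest, sh_pow_rest]
    rw [he]
    exact Subgroup.mul_mem _ (Subgroup.subset_closure (Set.mem_insert_of_mem _ ⟨c, hc, rfl⟩))
      (Subgroup.pow_mem _ (Subgroup.subset_closure (Set.mem_insert _ _)) _)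

theorem lo_normalizes (t : ZMod p) :
    ∀ x ∈ Subgroup.closure (r2Set e ι), lo e ι t * x * (lo e ι t)⁻¹ ∈ Subgroup.closure (r2Set e ι) := by
  refine closure_conj_mem ?_
  rintro g (rfl | ⟨c, hc, rfl⟩)
  · have he : lo e ι t * sh e ι * (lo e ι t)⁻¹ = tr e (extv ι fun _ => t) * sh e ι := by
      rw [mul_inv_eq_iff_eq_mul]
      refine perm_ext e (fun i x => ?_) fun j => ?_
      · by_cases hi : i ∈ Set.range ι
        · obtain ⟨y, rfl⟩ := hi
          simp only [Perm.mul_apply, sh_pt, lo_pt, tr_pt, extv_range]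
          congr 1; ring
        · simp only [Perm.mul_apply, sh_pt_out e ι hi, lo_out e ι t hi, tr_pt, extv_out ι _ hi, add_zero]
      · simp only [Perm.mul_apply, sh_rest, lo, tr_rest]
    rw [he]
    exact Subgroup.mul_mem _ (Subgroup.subset_closure (Set.mem_insert_of_mem _
      ⟨_, fun y => by rw [extv_range, extv_range], rfl⟩)) (Subgroup.subset_closure (Set.mem_insert _ _))
  · rw [lo, ← tr_add, add_comm, tr_add, mul_inv_cancel_right]
    exact Subgroup.subset_closure (Set.mem_insert_of_mem _ ⟨c, hc, rfl⟩)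

/-- The element realizing a given product of scalings. -/
theorem exists_h (u : (ZMod p)ˣ) :
    ∃ (s1 s2 s3 s4 s5 s6 : ZMod p) (π : Perm (Fin k)) (a : Fin k → (ZMod p)ˣ),
      (∏ i, a i) = u ∧
      up e ι s1 * lo e ι s2 * up e ι s3 * (up e ι s4 * lo e ι s5 * up e ι s6) = lift e π * tor e a ∧
      (lift e π * tor e a) * sh e ι * (lift e π * tor e a)⁻¹ = sh e ι ^ ((↑u⁻¹ : ZMod p)).val := by
  obtain ⟨a, ha⟩ : ∃ a, a = Function.extend ι (fun _ => u) (1 : Fin k → (ZMod p)ˣ) := ⟨_, rfl⟩
  have har : ∀ y, a (ι y) = u := fun y => by rw [ha]; exact ι.injective.extend_apply _ _ y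
  have hao : ∀ i, i ∉ Set.range ι → a i = 1 := fun i hi => by
    rw [ha, Function.extend_apply' _ _ i hi]; rfl
  obtain ⟨π, hπ⟩ : ∃ π, π = Perm.viaEmbeddingHom ι (Units.mulLeft u⁻¹) := ⟨_, rfl⟩
  have hπr : ∀ y, π (ι y) = ι (↑u⁻¹ * y) := fun y => hπ ▸ Perm.viaEmbedding_apply _ ι y
  have hπo : ∀ i, i ∉ Set.range ι → π i = i := fun i hi =>
    hπ ▸ Perm.viaEmbedding_apply_of_notMem _ ι i hi
  refine ⟨(↑u⁻¹ : ZMod p), -(u : ZMod p), (↑u⁻¹ : ZMod p), -1, 1, -1, π, a, ?_, ?_, ?_⟩
  · rw [← Fintype.prod_of_injective ι ι.injective (fun _ => u) a hao (fun y => (har y).symm),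
      Finset.prod_const, Finset.card_univ, ZMod.card]
    obtain ⟨m, hm⟩ : ∃ m, p = m + 1 := ⟨p - 1, by have := hp.out.one_lt; omega⟩
    have h1 := ZMod.units_pow_card_sub_one_eq_one p u
    rw [show p - 1 = m by omega] at h1
    exact (congrArg (u ^ ·) hm).trans (by rw [pow_succ, h1, one_mul])
  · refine perm_ext e (fun i x => ?_) fun j => ?_
    · by_cases hi : i ∈ Set.range ι
      · obtain ⟨y, rfl⟩ := hi
        simp only [Perm.mul_apply, up_pt, lo_pt, lift_pt, tor_pt, hπr, har, pt_inj]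
        have hu : (↑u⁻¹ : ZMod p) * u = 1 := u.inv_mul
        constructor
        · congr 1
          linear_combination -(y * (↑u⁻¹ : ZMod p) - x) * hu
        · linear_combination -y * hu
      · simp only [Perm.mul_apply, up_out e ι _ hi, lo_out e ι _ hi, lift_pt, tor_pt, hπo i hi,
          hao i hi, Units.val_one, one_mul]
    · simp only [Perm.mul_apply, up_rest, lo, tr_rest, lift_rest, tor_rest]
  · rw [mul_inv_eq_iff_eq_mul]
    refine perm_ext e (fun i x => ?_) fun j => ?_
    · by_cases hi : i ∈ Set.range ι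
      · obtain ⟨y, rfl⟩ := hi
        simp only [Perm.mul_apply, sh_pt, tor_pt, lift_pt, hπr, har, sh_pow, ZMod.natCast_zmod_val]
        congr 2; ring
      · simp only [Perm.mul_apply, sh_pt_out e ι hi, tor_pt, lift_pt, hπo i hi, sh_pow_out e ι _ hi]
    · simp only [Perm.mul_apply, sh_rest, tor_rest, lift_rest, sh_pow_rest]

theorem r2_centralizer (h2 : p ≠ 2) (hr : r ≤ 1) (hk : 3 ≤ k) :
    Subgroup.centralizer (((Subgroup.closure (r2Set e ι)).subgroupOf A : Subgroup A) : Set A) ≤
      (Subgroup.closure (r2Set e ι)).subgroupOf A := by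
  intro g hg
  have hsh1 : sign (sh e ι) = 1 :=
    sign_eq_one_of_pow_prime h2 (by rw [sh, ← map_pow, shiftPerm_pow, map_one])
  have hcomm : ∀ x ∈ Subgroup.closure (r2Set e ι), sign x = 1 → (g : Perm β) * x = x * g := by
    intro x hx hs
    have := Subgroup.mem_centralizer_iff.1 hg ⟨x, mem_alternatingGroup.2 hs⟩ hx
    exact (congrArg Subtype.val this).symm
  have hct : ∀ c : Fin k → ZMod p, (∀ y, c (ι y) = c (ι 0)) →
      (g : Perm β) * tr e c = tr e c * g := fun c hc =>
    hcomm _ (Subgroup.subset_closure (Set.mem_insert_of_mem _ ⟨c, hc, rfl⟩)) (sign_tr e h2 c)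
  have hcs := hcomm _ (Subgroup.subset_closure (Set.mem_insert _ _)) hsh1
  -- moved points
  have hind : ∀ z : β, tr e (extv ι fun _ => 1) z ≠ z → ∃ y x, z = pt e (ι y) x := by
    intro z hz
    rcases cases e z with ⟨i, x, rfl⟩ | ⟨j, rfl⟩
    · by_cases hi : i ∈ Set.range ι
      · obtain ⟨y, rfl⟩ := hi; exact ⟨y, x, rfl⟩
      · exact absurd (by rw [tr_pt, extv_out ι _ hi, add_zero]) hz
    · exact absurd (tr_rest e _ j) hz
  obtain ⟨m, c0, hm⟩ : ∃ m c0, (g : Perm β) (pt e (ι 0) 0) = pt e (ι m) c0 := by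
    refine hind _ ?_
    rw [← Perm.mul_apply, ← hct _ (fun y => by rw [extv_range, extv_range]), Perm.mul_apply, tr_pt,
      extv_range]
    exact fun h => one_ne_zero (α := ZMod p) (by simpa [pt_inj] using (g : Perm β).injective h)
  have hrange : ∀ y x, (g : Perm β) (pt e (ι y) x) = pt e (ι (y + m)) (x + c0) := by
    intro y x
    have h1 : pt e (ι y) x = tr e (extv ι fun _ => x) ((sh e ι ^ y.val) (pt e (ι 0) 0)) := by
      rw [sh_pow, tr_pt, extv_range, ZMod.natCast_zmod_val, zero_add, zero_add]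
    rw [h1, ← Perm.mul_apply, hct _ (fun y => by rw [extv_range, extv_range]), Perm.mul_apply,
      ← Perm.mul_apply (g : Perm β), ((show Commute (g : Perm β) (sh e ι) from hcs).pow_right _).eq,
      Perm.mul_apply, hm, sh_pow, tr_pt, extv_range, ZMod.natCast_zmod_val, add_comm m, add_comm c0]
  have hout : ∀ i, i ∉ Set.range ι → ∃ c, ∀ x, (g : Perm β) (pt e i x) = pt e i (x + c) := by
    intro i hi
    have hconst : ∀ d : ZMod p, ∀ y, (Pi.single i d : Fin k → ZMod p) (ι y) = (Pi.single i d : Fin k → ZMod p) (ι 0) := by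
      intro d y
      rw [Pi.single_eq_of_ne (fun h => hi ⟨y, h⟩), Pi.single_eq_of_ne (fun h => hi ⟨0, h⟩)]
    have hne : tr e (Pi.single i 1) ((g : Perm β) (pt e i 0)) ≠ (g : Perm β) (pt e i 0) := by
      rw [← Perm.mul_apply, ← hct _ (hconst 1), Perm.mul_apply, tr_pt, Pi.single_eq_same]
      exact fun h => one_ne_zero (α := ZMod p) (by simpa [pt_inj] using (g : Perm β).injective h)
    rcases cases e ((g : Perm β) (pt e i 0)) with ⟨l, c, h⟩ | ⟨j, h⟩
    · obtain rfl : l = i := by
        by_contra hl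
        exact hne (by rw [h, tr_pt, Pi.single_eq_of_ne hl, add_zero])
      refine ⟨c, fun x => ?_⟩
      have h1 : pt e l x = tr e (Pi.single l x) (pt e l 0) := by
        rw [tr_pt, Pi.single_eq_same, zero_add]
      rw [h1, ← Perm.mul_apply, hct _ (hconst x), Perm.mul_apply, h, tr_pt, Pi.single_eq_same, add_comm]
    · exact absurd (by rw [h, tr_rest]) hne
  choose! cf hcf using hout
  obtain ⟨c, hc⟩ : ∃ c, c = fun i => if i ∈ Set.range ι then c0 else cf i := ⟨_, rfl⟩
  have hg' : (g : Perm β) = tr e c * sh e ι ^ m.val := by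
    refine perm_ext e (fun i x => ?_) fun j => ?_
    · by_cases hi : i ∈ Set.range ι
      · obtain ⟨y, rfl⟩ := hi
        rw [hrange, Perm.mul_apply, sh_pow, tr_pt, ZMod.natCast_zmod_val, hc]
        simp
      · rw [hcf i hi, Perm.mul_apply, sh_pow_out e ι _ hi, tr_pt, hc]
        simp [hi]
    · rw [Perm.mul_apply, sh_pow_rest, tr_rest]
      rcases cases e ((g : Perm β) (rest e j)) with ⟨i, x, h⟩ | ⟨j', h⟩
      · exfalso
        by_cases hi : i ∈ Set.range ι
        · obtain ⟨y, rfl⟩ := hi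
          have h1 := hrange (y - m) (x - c0)
          rw [sub_add_cancel, sub_add_cancel, ← h] at h1
          exact pt_ne_rest e ((g : Perm β).injective h1)
        · have h1 := hcf i hi (x - cf i)
          rw [sub_add_cancel, ← h] at h1
          exact pt_ne_rest e ((g : Perm β).injective h1)
      · rw [h]
        haveI : Subsingleton (Fin r) := Fin.subsingleton_iff_le_one.2 hr
        rw [Subsingleton.elim j' j]
  show (g : Perm β) ∈ Subgroup.closure (r2Set e ι)
  rw [hg']
  refine Subgroup.mul_mem _ (Subgroup.subset_closure (Set.mem_insert_of_mem _ ⟨c, ?_, rfl⟩))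
    (Subgroup.pow_mem _ (Subgroup.subset_closure (Set.mem_insert _ _)) _)
  intro y
  rw [hc]; simp

/-! ### Elements normalizing the Sylow subgroup -/

theorem eq_single_of_card (Pi0 : Subgroup (Perm (Fin k))) {s : Perm β} (hs : s ∈ big e Pi0)
    (hc : s.support.card = p) : ∃ j a, a ≠ 0 ∧ s = tr e (Pi.single j a) := by
  obtain ⟨b, π, -, rfl⟩ := hs
  have hπ : π = 1 := by
    by_contra hne
    obtain ⟨i, hi⟩ : ∃ i, π i ≠ i := by
      by_contra hc'
      push Not at hc'
      exact hne (Equiv.ext hc')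
    have hi2 : π (π i) ≠ π i := fun h => hi (π.injective h)
    have hsub : (({i, π i} : Finset (Fin k)) ×ˢ (Finset.univ : Finset (ZMod p))).image
        (fun y => pt e y.1 y.2) ⊆
        (tr e b * lift e π).support := by
      intro z hz
      simp only [Finset.mem_image, Finset.mem_product, Finset.mem_insert, Finset.mem_singleton,
        Finset.mem_univ, and_true] at hz
      obtain ⟨⟨l, x⟩, hl, rfl⟩ := hz
      rw [Perm.mem_support, Perm.mul_apply, lift_pt, tr_pt, Ne, pt_inj, not_and]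
      intro h
      rcases hl with rfl | rfl
      · exact absurd h hi
      · exact absurd h hi2
    have h1 := Finset.card_le_card hsub
    rw [Finset.card_image_of_injective _ (fun y y' h => Prod.ext ((pt_inj e).1 h).1 ((pt_inj e).1 h).2),
      Finset.card_product, Finset.card_pair (Ne.symm hi), Finset.card_univ,
      ZMod.card, hc] at h1
    have := hp.out.pos
    omega
  subst hπ
  rw [map_one, mul_one] at hc ⊢
  rw [card_support_tr] at hc
  obtain ⟨j, hj⟩ := Finset.card_eq_one.1 ((mul_eq_left₀ hp.out.ne_zero).1 hc)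
  refine ⟨j, b j, ?_, ?_⟩
  · have := (Finset.ext_iff.1 hj j).2 (Finset.mem_singleton_self j)
    simpa using this
  · congr 1
    funext l
    rcases eq_or_ne l j with rfl | hl
    · rw [Pi.single_eq_same]
    · rw [Pi.single_eq_of_ne hl]
      by_contra hne
      exact hl (Finset.mem_singleton.1 ((Finset.ext_iff.1 hj l).1 (by simpa using hne)))

theorem exists_decomp (h2 : p ≠ 2) (hr : r ≤ 1) (Pi0 : Subgroup (Perm (Fin k))) {g : A}
    (hg : g ∈ Subgroup.normalizer ((smallS e Pi0 : Subgroup A) : Set A)) :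
    ∃ (c : Fin k → ZMod p) (π : Perm (Fin k)) (a : Fin k → (ZMod p)ˣ),
      (g : Perm β) = tr e c * lift e π * tor e a := by
  have hcyc : ∀ i : Fin k, ∃ j, ∃ a : ZMod p, a ≠ 0 ∧
      (g : Perm β) * tr e (Pi.single i 1) * (g : Perm β)⁻¹ = tr e (Pi.single j a) := by
    intro i
    have hmem : (⟨tr e (Pi.single i 1), mem_alternatingGroup.2 (sign_tr e h2 _)⟩ : A) ∈ smallS e Pi0 :=
      tr_mem e Pi0 _
    have h1 := (Subgroup.mem_normalizer_iff.1 hg _).1 hmem
    refine eq_single_of_card e Pi0 h1 ?_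
    show ((g : Perm β) * tr e (Pi.single i 1) * (g : Perm β)⁻¹).support.card = p
    rw [Perm.card_support_conj, card_support_tr, show (Finset.univ.filter fun l =>
      (Pi.single i 1 : Fin k → ZMod p) l ≠ 0) = {i} by
        ext l
        rcases eq_or_ne l i with rfl | hl
        · simp
        · simp [hl], Finset.card_singleton, mul_one]
  choose f a ha hfa using hcyc
  have hmove : ∀ i x, (g : Perm β) (pt e i (x + 1)) =
      tr e (Pi.single (f i) (a i)) ((g : Perm β) (pt e i x)) := by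
    intro i x
    rw [← hfa i, Perm.mul_apply, Perm.mul_apply, Perm.inv_def, symm_apply_apply, tr_pt,
      Pi.single_eq_same]
  have hblock : ∀ i, ∃ d, (g : Perm β) (pt e i 0) = pt e (f i) d := by
    intro i
    have hne : tr e (Pi.single (f i) (a i)) ((g : Perm β) (pt e i 0)) ≠ (g : Perm β) (pt e i 0) := by
      rw [← hmove]
      exact fun h => one_ne_zero (α := ZMod p) (by simpa [pt_inj] using (g : Perm β).injective h)
    rcases cases e ((g : Perm β) (pt e i 0)) with ⟨l, c, h⟩ | ⟨j, h⟩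
    · refine ⟨c, ?_⟩
      obtain rfl : l = f i := by
        by_contra hl
        exact hne (by rw [h, tr_pt, Pi.single_eq_of_ne hl, add_zero])
      exact h
    · exact absurd (by rw [h, tr_rest]) hne
  choose d hd using hblock
  have hall : ∀ i x, (g : Perm β) (pt e i x) = pt e (f i) (d i + a i * x) := by
    intro i x
    have hn : ∀ n : ℕ, (g : Perm β) (pt e i (n : ZMod p)) = pt e (f i) (d i + a i * (n : ZMod p)) := by
      intro n
      induction n with
      | zero => simpa using hd i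
      | succ n ih =>
        push_cast
        rw [hmove, ih, tr_pt, Pi.single_eq_same]
        congr 1; ring
    simpa using hn x.val
  have hinj : Function.Injective f := by
    intro i i' h
    obtain ⟨x, hx⟩ : ∃ x, d i + a i * x = d i' :=
      ⟨(a i)⁻¹ * (d i' - d i), by rw [← mul_assoc, mul_inv_cancel₀ (ha i)]; ring⟩
    have h1 := hall i x
    rw [hx, h, ← hd i'] at h1
    exact ((pt_inj e).1 ((g : Perm β).injective h1)).1
  obtain ⟨π, hπ⟩ : ∃ π, π = Equiv.ofBijective f (Finite.injective_iff_bijective.1 hinj) := ⟨_, rfl⟩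
  refine ⟨d ∘ π.symm, π, fun i => Units.mk0 (a i) (ha i), perm_ext e (fun i x => ?_) fun j => ?_⟩
  · rw [hall, Perm.mul_apply, Perm.mul_apply, tor_pt, lift_pt, tr_pt, Function.comp, symm_apply_apply,
      hπ, Equiv.ofBijective_apply, Units.val_mk0, add_comm]
  · rw [Perm.mul_apply, Perm.mul_apply, tor_rest, lift_rest, tr_rest]
    rcases cases e ((g : Perm β) (rest e j)) with ⟨l, x, h⟩ | ⟨j', h⟩
    · exfalso
      obtain ⟨i, rfl⟩ := (Finite.injective_iff_surjective.1 hinj) l
      have h1 := hall i ((a i)⁻¹ * (x - d i))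
      rw [← mul_assoc, mul_inv_cancel₀ (ha i), one_mul, add_sub_cancel, ← h] at h1
      exact pt_ne_rest e ((g : Perm β).injective h1)
    · rw [h]
      haveI : Subsingleton (Fin r) := Fin.subsingleton_iff_le_one.2 hr
      rw [Subsingleton.elim j' j]

theorem gen_odd (h2 : p ≠ 2) (hr : r ≤ 1) (hk : 3 ≤ k) (hpk : p ≤ k)
    (P : Sylow p (Perm (Fin k))) (hρ : shiftPerm ι ∈ P) (S : Sylow p A)
    (hS : (S : Subgroup A) = smallS e (P : Subgroup (Perm (Fin k)))) {g : A}
    (hg : g ∈ Subgroup.normalizer ((S : Subgroup A) : Set A)) :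
    ∃ R : Subgroup A, R ≤ S ∧ Subgroup.centralizer (R : Set A) ≤ R ∧
      g ∈ Subgroup.normalizer (R : Set A) ∧ g ∈ Subgroup.closure (actGenSet S R) := by
  rw [hS] at hg
  obtain ⟨c, π, a, hga⟩ := exists_decomp e h2 hr _ hg
  have hgn : NormE e (g : Perm β) := by
    rw [hga]; exact NormE.mul e (NormE.mul e (normE_tr e c) (normE_lift e π)) (normE_tor e a)
  refine ⟨evenTr e, hS ▸ evenTr_le e _, evenTr_centralizer e hr hk, normalizer_evenTr e hgn, ?_⟩
  obtain ⟨K, hK⟩ : ∃ K, K = Subgroup.closure (actGenSet S (evenTr e)) := ⟨_, rfl⟩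
  rw [← hK]
  have hkK : ∀ x ∈ kGrp e, x ∈ K.map (A).subtype := by
    intro x hx
    refine ((Subgroup.closure_le _).2 ?_) hx
    rintro y ⟨hy, j, hj⟩
    have hs : sign y = 1 := by
      have h1 := congrArg sign hj
      obtain ⟨q, hq⟩ := (Nat.Prime.odd_of_ne_two hp.out h2).pow (n := j)
      rwa [map_pow, map_one, hq, pow_succ, pow_mul, Int.units_sq, one_pow, one_mul] at h1
    exact ⟨⟨y, mem_alternatingGroup.2 hs⟩, hK ▸ Subgroup.subset_closure (Or.inl
      ⟨normalizer_evenTr e hy, j, Subtype.ext (by rw [SubgroupClass.coe_pow]; exact hj)⟩), rfl⟩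
  obtain ⟨s1, s2, s3, s4, s5, s6, μ, a0, hprod, heq, hsh⟩ := exists_h e ι (∏ i, a i)
  have hpu : ∀ t, sign (up e ι t) = 1 := fun t => sign_eq_one_of_pow_prime h2 (up_pow e ι t)
  have hpl : ∀ t, sign (lo e ι t) = 1 := fun t => sign_tr e h2 _
  have hhA : sign (lift e μ * tor e a0) = 1 := by
    rw [← heq]; simp only [map_mul, hpu, hpl, one_mul]
  obtain ⟨h, hh⟩ : ∃ h : A, (h : Perm β) = lift e μ * tor e a0 :=
    ⟨⟨_, mem_alternatingGroup.2 hhA⟩, rfl⟩
  have hhn : NormE e (h : Perm β) := hh ▸ NormE.mul e (normE_lift e μ) (normE_tor e a0)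
  -- the extra generator
  have hhK : h ∈ K := by
    rw [hK]
    refine Subgroup.subset_closure (Or.inr ⟨normalizer_evenTr e hhn,
      (Subgroup.closure (jSet e ι)).subgroupOf A, (Subgroup.closure (r2Set e ι)).subgroupOf A,
      ?_, ?_, ?_, r2_centralizer e ι h2 hr hk, ?_, ?_, ?_⟩)
    · rw [hS]
      refine Subgroup.comap_mono ((Subgroup.closure_le _).2 ?_)
      rintro y (rfl | ⟨b, rfl⟩)
      · exact lift_mem e _ hρ
      · exact tr_mem e _ b
    · intro y hy
      obtain ⟨b, hb⟩ := (mem_evenTr e).1 hy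
      exact Subgroup.subset_closure (Set.mem_insert_of_mem _ ⟨b, hb.symm⟩)
    · exact Subgroup.comap_mono (Subgroup.closure_mono (r2_subset e ι))
    · refine normalizer_subgroupOf (closure_conj_mem ?_)
      rintro y (rfl | ⟨b, rfl⟩)
      · rw [hh, hsh]
        exact Subgroup.pow_mem _ (Subgroup.subset_closure (Set.mem_insert _ _)) _
      · obtain ⟨b', hb'⟩ := hhn b
        exact hb' ▸ Subgroup.subset_closure (Set.mem_insert_of_mem _ ⟨b', rfl⟩)
    · refine normalizer_subgroupOf ?_
      have hN : ∀ g1 g2 : Perm β,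
          (∀ x ∈ Subgroup.closure (r2Set e ι), g1 * x * g1⁻¹ ∈ Subgroup.closure (r2Set e ι)) →
          (∀ x ∈ Subgroup.closure (r2Set e ι), g2 * x * g2⁻¹ ∈ Subgroup.closure (r2Set e ι)) →
          ∀ x ∈ Subgroup.closure (r2Set e ι), g1 * g2 * x * (g1 * g2)⁻¹ ∈ Subgroup.closure (r2Set e ι) := by
        intro g1 g2 h1 h2' x hx
        rw [show g1 * g2 * x * (g1 * g2)⁻¹ = g1 * (g2 * x * g2⁻¹) * g1⁻¹ by group]
        exact h1 _ (h2' x hx)
      rw [hh, ← heq]
      exact hN _ _ (hN _ _ (hN _ _ (up_normalizes e ι s1) (lo_normalizes e ι s2)) (up_normalizes e ι s3))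
        (hN _ _ (hN _ _ (up_normalizes e ι s4) (lo_normalizes e ι s5)) (up_normalizes e ι s6))
    · obtain ⟨L, hL⟩ : ∃ L, L = Subgroup.closure
          (pElemsNorm p ((Subgroup.closure (r2Set e ι)).subgroupOf A)) := ⟨_, rfl⟩
      rw [← hL]
      have hm : ∀ y : Perm β, y ^ p = 1 →
          (∀ x ∈ Subgroup.closure (r2Set e ι), y * x * y⁻¹ ∈ Subgroup.closure (r2Set e ι)) →
          y ∈ L.map (A).subtype := by
        intro y hy hn
        exact ⟨⟨y, mem_alternatingGroup.2 (sign_eq_one_of_pow_prime h2 hy)⟩,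
          hL ▸ Subgroup.subset_closure ⟨normalizer_subgroupOf hn, 1,
            Subtype.ext (by rw [pow_one, SubgroupClass.coe_pow]; exact hy)⟩, rfl⟩
      have hU := fun t => hm _ (up_pow e ι t) (up_normalizes e ι t)
      have hL' := fun t => hm _ (tr_pow_prime e _ : lo e ι t ^ p = 1) (lo_normalizes e ι t)
      have h1 : (h : Perm β) ∈ L.map (A).subtype := by
        rw [hh, ← heq]
        exact Subgroup.mul_mem _ (Subgroup.mul_mem _ (Subgroup.mul_mem _ (hU s1) (hL' s2)) (hU s3))
          (Subgroup.mul_mem _ (Subgroup.mul_mem _ (hU s4) (hL' s5)) (hU s6))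
      obtain ⟨z, hz, hzh⟩ := h1
      rwa [← show z = h from Subtype.ext hzh]
  -- the rest lies in `kGrp`
  have hprod1 : ∏ i, (a0⁻¹ * a) i = 1 := by
    simp only [Pi.mul_apply, Pi.inv_apply, Finset.prod_mul_distrib, Finset.prod_inv_distrib, hprod,
      inv_mul_cancel]
  have hga' : (g : Perm β) = tr e c * lift e (π * μ⁻¹) * (h : Perm β) * tor e (a0⁻¹ * a) := by
    rw [hga, hh, map_mul, map_inv, map_mul, map_inv]; group
  obtain ⟨z, hz, hze⟩ := hkK _ (tor_mem_kGrp e h2 hk hpk _ hprod1)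
  have hsz : sign (tor e (a0⁻¹ * a)) = 1 := by rw [← hze]; exact mem_alternatingGroup.1 z.2
  have hsl : sign (π * μ⁻¹) = 1 := by
    have h1 := mem_alternatingGroup.1 g.2
    rw [hga', map_mul, map_mul, map_mul, sign_tr e h2, hsz, mem_alternatingGroup.1 h.2, one_mul,
      mul_one, mul_one, sign_lift_odd e h2] at h1
    exact h1
  have hfin : (g : Perm β) ∈ K.map (A).subtype := by
    rw [hga']
    exact Subgroup.mul_mem _ (Subgroup.mul_mem _ (Subgroup.mul_mem _ (hkK _ (tr_mem_kGrp e c))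
      (hkK _ (lift_mem_kGrp e h2 hpk hsl))) ⟨h, hhK, rfl⟩) ⟨z, hz, hze⟩
  obtain ⟨w, hw, hwg⟩ := hfin
  rwa [← show w = g from Subtype.ext hwg]

end Cfsg.Agent.Fus.Alt
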