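import Cfsg.Agent.Lib.Fus.SimpleCriterion

/-!
A simplicity criterion for fusion systems of groups allowing generation through self-centralizing
subgroups that are neither normal in the Sylow subgroup nor fully normalized.
-/

set_option autoImplicit false
set_option linter.style.haveILetI false

open scoped Classical

namespace Cfsg.Agent.Fus

open Subgroup FusionSystem

/-- Centric restriction below the top. -/
theorem isMap_of_centric_restrict' {Ω : Type*} [Group Ω] {S : Subgroup Ω} {F : FusionSystem S}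
    [Finite S] {p : ℕ} [Fact p.Prime] (hS : IsPGroup p S)
    (hF : F.IsSaturated p) {E : FusionSystem S} (hEF : E.IsSubsystemOf F) (hE : E.IsSaturated p)
    {J : Subgroup Ω} {a : Ω → Ω} (ha : IsMap F J a) :
    ∀ {R : Subgroup Ω}, R ≤ J → F.IsCentric R → IsMap E R a → IsMap E J a := by
  have hJ : J ≤ S := ha.source_le
  haveI : Finite J := finite_of_le hJ
  intro R
  induction hn : Nat.card J - Nat.card R using Nat.strong_induction_on generalizing R with
  | _ n ih =>
    intro hRJ hR hRa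
    rcases hRJ.eq_or_lt with rfl | hlt
    · exact hRa
    have hQ := centric_of_isConj hR (hRa.mono hEF).isConj
    have hrec : E.IsReceptive (fimg a R) := receptive_of_fullyCentralized hS hE
      (fullyCentralized_of_centric (centric_of_subsystem hEF hQ))
    have hN : normalizerIn J R ≤ J := inf_le_left
    obtain ⟨f, hf, hfe⟩ := receptive_extend hrec hRa rfl (N := normalizerIn J R) (fun g hg =>
      ⟨⟨hJ hg.1, hg.2⟩, a g, ha.apply_mem hg.1, fun x hx => ha.map_conj hg.1 (hRJ hx)⟩)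
      (le_normalizerIn hRJ)
    obtain ⟨z, hz, -, hz'⟩ := exists_conj_of_eqOn_centric hS hF (le_normalizerIn hRJ) hR
      (hf.mono hEF) (ha.res hN) hfe
    have hm : IsMap E (normalizerIn J R) a := by
      refine ((isMap_conj E (hN.trans hJ) (hJ (hRJ hz))).comp hf fun y hy => ?_).congr
        fun y hy => (hz' y hy).symm
      exact Subgroup.mul_mem _ (Subgroup.mul_mem _ (le_normalizerIn hRJ hz) hy)
        (Subgroup.inv_mem _ (le_normalizerIn hRJ hz))
    haveI := finite_of_le hN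
    have hJp : IsPGroup p J := hS.to_le hJ
    have h1 := card_lt_of_lt (lt_normalizerIn hJp hlt)
    have h2 := Subgroup.card_le_of_le hN
    exact ih _ (by omega) rfl hN (centric_mono hR (le_normalizerIn hRJ) (hN.trans hJ)) hm

variable {G : Type*} [Group G] [Finite G] {p : ℕ} [Fact p.Prime] (S : Sylow p G)

/-- The elements of `N(R)` of `p`-power order. -/
def pElemsNorm (p : ℕ) (R : Subgroup G) : Set G :=
  {x : G | x ∈ Subgroup.normalizer (R : Set G) ∧ ∃ k : ℕ, x ^ p ^ k = 1}

/-- Elements known to act on `R` inside every invariant subsystem over `S`. -/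
def actGenSet (R : Subgroup G) : Set G :=
  pElemsNorm p R ∪ {x | x ∈ Subgroup.normalizer (R : Set G) ∧ ∃ J R' : Subgroup G,
    J ≤ S ∧ R ≤ J ∧ R' ≤ J ∧ Subgroup.centralizer (R' : Set G) ≤ R' ∧
      x ∈ Subgroup.normalizer (J : Set G) ∧ x ∈ Subgroup.normalizer (R' : Set G) ∧
      x ∈ Subgroup.closure (pElemsNorm p R')}

omit [Finite G] [Fact p.Prime] in
theorem centric_of_self_centralizing {R : Subgroup G} (hRS : R ≤ S)
    (hRC : Subgroup.centralizer (R : Set G) ≤ R) :
    (groupFusionSystem (S : Subgroup G)).IsCentric R := by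
  refine ⟨hRS, fun Q hQ c hc => ?_⟩
  obtain ⟨f, hf, rfl⟩ := isConj_iff.1 hQ
  obtain ⟨-, a, hfa⟩ := isMap_group.1 hf
  have hc' : a⁻¹ * c * a ∈ R := by
    refine hRC (Subgroup.mem_centralizer_iff.2 fun r hr => ?_)
    have := (mem_centralizerIn.1 hc).2 _ (apply_mem_fimg f hr)
    rw [(hfa r hr).1] at this
    calc r * (a⁻¹ * c * a) = a⁻¹ * (a * r * a⁻¹ * c) * a := by group
      _ = a⁻¹ * (c * (a * r * a⁻¹)) * a := by rw [this]
      _ = a⁻¹ * c * a * r := by group
  have h2 := apply_mem_fimg f hc'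
  rw [(hfa _ hc').1] at h2
  rwa [show a * (a⁻¹ * c * a) * a⁻¹ = c by group] at h2

/-- Simplicity of the fusion system of a group: every element of `N(S)` acts on a self-centralizing
subgroup of `S` as a product of generators. -/
theorem isSimple_group_of_gen (hS1 : (S : Subgroup G) ≠ ⊥)
    (ha : ∀ T : Subgroup G, T ≤ S → T ≠ ⊥ → (S : Subgroup G) ≤ Subgroup.normalizer (T : Set G) →
      (∀ g : G, ∀ x ∈ T, g * x * g⁻¹ ∈ (S : Subgroup G) → g * x * g⁻¹ ∈ T) →
      (S : Subgroup G) ≤ T)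
    (hb : ∀ g ∈ Subgroup.normalizer ((S : Subgroup G) : Set G), ∃ R : Subgroup G, R ≤ S ∧
      Subgroup.centralizer (R : Set G) ≤ R ∧ g ∈ Subgroup.normalizer (R : Set G) ∧
      g ∈ Subgroup.closure (actGenSet S R)) :
    (groupFusionSystem (S : Subgroup G)).IsSimple p := by
  have hsat := isSaturated_group S
  refine ⟨hsat, hS1, fun T E hE => ?_⟩
  obtain ⟨⟨hEsat, -, hEi⟩, -⟩ := hE
  have hconj : ∀ g : G, ∀ x ∈ T, g * x * g⁻¹ ∈ (S : Subgroup G) → g * x * g⁻¹ ∈ T := by
    intro g x hx hgx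
    have hm : IsMap (groupFusionSystem (S : Subgroup G)) (Subgroup.zpowers x)
        (fun y => g * y * g⁻¹) := by
      refine isMap_group.2 ⟨Subgroup.zpowers_le.2 (hEi.2.1.1 hx), g, fun y hy => ⟨rfl, ?_⟩⟩
      obtain ⟨i, rfl⟩ := hy
      show g * x ^ i * g⁻¹ ∈ _
      rw [← conj_zpow]
      exact Subgroup.zpow_mem _ hgx i
    exact StronglyClosed.apply_mem hEi.2.1 hm (Subgroup.zpowers_le.2 hx) (Subgroup.mem_zpowers x)
  by_cases hT : T = ⊥
  · exact Or.inl hT
  have hTS : T = (S : Subgroup G) := le_antisymm hEi.2.1.1 (ha T hEi.2.1.1 hT (fun s hs =>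
    mem_normalizer_of_forall
      (fun x hx => hconj s x hx (Subgroup.mul_mem _ (Subgroup.mul_mem _ hs (hEi.2.1.1 hx))
        (Subgroup.inv_mem _ hs)))
      fun x hx => by
        have := hconj s⁻¹ x hx (Subgroup.mul_mem _ (Subgroup.mul_mem _ (Subgroup.inv_mem _ hs)
          (hEi.2.1.1 hx)) (Subgroup.inv_mem _ (Subgroup.inv_mem _ hs)))
        rwa [inv_inv] at this) hconj)
  subst hTS
  refine Or.inr ⟨rfl, hom_eq_of_isInvariantIn hEi ?_⟩
  have hautG : ∀ P : Subgroup G, P ≤ (S : Subgroup G) →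
      (groupFusionSystem (S : Subgroup G)).autGroup P = autInducedBy ⊤ P := by
    intro P hP
    rw [groupFusionSystem_eq]
    exact autGroup_ofSubgroup hP
  have hconjF : ∀ {x : G} {P : Subgroup G}, P ≤ (S : Subgroup G) →
      (∀ y ∈ P, x * y * x⁻¹ ∈ (S : Subgroup G)) →
      IsMap (groupFusionSystem (S : Subgroup G)) P (fun y => x * y * x⁻¹) := fun {x P} hP h =>
    isMap_group.2 ⟨hP, x, fun y hy => ⟨rfl, h y hy⟩⟩
  have hnormal : ∀ {x : G} {P : Subgroup G}, x ∈ Subgroup.normalizer (P : Set G) → ∀ y ∈ P,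
      x * y * x⁻¹ ∈ P := fun hx y hy => (Subgroup.mem_normalizer_iff.1 hx y).1 hy
  -- the elements acting on `R` inside `E`
  have key : ∀ {R : Subgroup G}, R ≤ (S : Subgroup G) → ∀ {x : G},
      x ∈ ((E.autGroup R).comap R.normalizerMonoidHom).map
          (Subgroup.normalizer (R : Set G)).subtype ↔
        x ∈ Subgroup.normalizer (R : Set G) ∧ IsMap E R (fun y => x * y * x⁻¹) := by
    intro R hR x
    constructor
    · rintro ⟨⟨x, hxn⟩, hx, rfl⟩
      exact ⟨hxn, ((mem_autGroup hR).1 hx).congr fun y hy =>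
        autFun_coe (R.normalizerMonoidHom ⟨x, hxn⟩) ⟨y, hy⟩⟩
    · rintro ⟨hxn, hm⟩
      exact ⟨⟨x, hxn⟩, (mem_autGroup hR).2 (hm.congr fun y hy =>
        (autFun_coe (R.normalizerMonoidHom ⟨x, hxn⟩) ⟨y, hy⟩).symm), rfl⟩
  -- `p`-elements at self-centralizing subgroups
  have hp : ∀ {R : Subgroup G}, R ≤ (S : Subgroup G) → ∀ x ∈ pElemsNorm p R,
      IsMap E R (fun y => x * y * x⁻¹) := by
    intro R hRS x ⟨hxn, k, hk⟩
    obtain ⟨Q, hRQ, hQ⟩ := exists_fullyNormalized (groupFusionSystem (S : Subgroup G)) hRS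
    obtain ⟨φ, hφ, rfl⟩ := isConj_iff.1 hRQ
    obtain ⟨-, a, hφa⟩ := isMap_group.1 hφ
    -- the conjugate element at the fully normalized conjugate
    obtain ⟨x', hx'⟩ : ∃ x', x' = a * x * a⁻¹ := ⟨_, rfl⟩
    have hx'n : ∀ (z : G), z ∈ Subgroup.normalizer (R : Set G) → ∀ y ∈ fimg φ R,
        (a * z * a⁻¹) * y * (a * z * a⁻¹)⁻¹ ∈ fimg φ R := by
      intro z hz y hy
      obtain ⟨r, hr, rfl⟩ := hφ.mem_fimg_iff.1 hy
      have h1 := apply_mem_fimg φ (hnormal hz r hr)
      rw [(hφa _ (hnormal hz r hr)).1] at h1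
      rw [(hφa r hr).1]
      convert h1 using 1
      group
    have hx'N : x' ∈ Subgroup.normalizer ((fimg φ R : Subgroup G) : Set G) := by
      refine mem_normalizer_of_forall (hx' ▸ hx'n x hxn) fun y hy => ?_
      have := hx'n x⁻¹ (Subgroup.inv_mem _ hxn) y hy
      rw [show a * x⁻¹ * a⁻¹ = x'⁻¹ by rw [hx']; group, inv_inv] at this
      exact this
    have hQS : fimg φ R ≤ (S : Subgroup G) := hQ.1
    have hmQ : IsMap E (fimg φ R) (fun y => x' * y * x'⁻¹) := by
      refine ((key hQS).1 ⟨⟨x', hx'N⟩, mem_autGroup_of_isPGroup hEi hQS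
        (fullyAutomized_of_fullyNormalized S.2 hsat hQ) (autInducedBy_le_autGroup E hQS)
        (k := k) ?_ ?_, rfl⟩).2
      · rw [hautG _ hQS]
        exact mem_autInducedBy.2 ⟨x', Subgroup.mem_top x', fun y => rfl⟩
      · rw [← map_pow]
        convert map_one (fimg φ R).normalizerMonoidHom
        exact Subtype.ext (by
          rw [SubgroupClass.coe_pow]
          show x' ^ p ^ k = 1
          rw [hx', conj_pow, hk, mul_one, mul_inv_cancel])
    -- move it back to `R`
    obtain ⟨α, hα, f₀, hf₀, hfe⟩ := frattini_of_isInvariantIn hEi hRS hφ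
    obtain ⟨m, hm, hme⟩ := invariant_isMap hEi hmQ (Subgroup.inv_mem _ hα)
    obtain ⟨f₀', hf₀', hinv, -, -⟩ := hf₀.exists_inv
    have hf₀α : ∀ r ∈ R, autFun α⁻¹ (φ r) = f₀ r := fun r hr => by
      have hS' : f₀ r ∈ (S : Subgroup G) := hf₀.apply_mem hr
      rw [hfe r hr, ← autFun_mul _ _ hS', inv_mul_cancel, autFun_one hS']
    have hsrc : ∀ r ∈ R, f₀ r ∈ fimg (autFun α⁻¹) (fimg φ R) := fun r hr => by
      rw [← hf₀α r hr]
      exact apply_mem_fimg _ (apply_mem_fimg φ hr)
    have hval : ∀ r ∈ R, m (f₀ r) = f₀ (x * r * x⁻¹) := by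
      intro r hr
      rw [← hf₀α r hr, hme _ (apply_mem_fimg φ hr), ← hf₀α _ (hnormal hxn r hr)]
      congr 1
      rw [(hφa r hr).1, (hφa _ (hnormal hxn r hr)).1, hx']
      group
    refine ((hf₀.comp hm hsrc).comp hf₀' fun r hr => ?_).congr fun r hr => ?_
    · rw [hval r hr]
      exact apply_mem_fimg _ (hnormal hxn r hr)
    · rw [hval r hr]
      exact hinv _ (hnormal hxn r hr)
  have hsub : E.IsSubsystemOf (groupFusionSystem (S : Subgroup G)) := hEi.1
  -- passing between self-centralizing subgroups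
  have hact : ∀ {R : Subgroup G}, R ≤ (S : Subgroup G) → Subgroup.closure (actGenSet S R) ≤
      ((E.autGroup R).comap R.normalizerMonoidHom).map
          (Subgroup.normalizer (R : Set G)).subtype := by
    intro R hR
    refine (Subgroup.closure_le _).2 ?_
    rintro x (hx | ⟨hxn, J, R', hJS, hRJ, hR'J, hR'C, hxJ, hxR', hx⟩)
    · exact (key hR).2 ⟨hx.1, hp hR x hx⟩
    refine (key hR).2 ⟨hxn, ?_⟩
    have hR'S := hR'J.trans hJS
    have hle : Subgroup.closure (pElemsNorm p R') ≤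
        ((E.autGroup R').comap R'.normalizerMonoidHom).map
          (Subgroup.normalizer (R' : Set G)).subtype :=
      (Subgroup.closure_le _).2 fun z hz => (key hR'S).2 ⟨hz.1, hp hR'S z hz⟩
    have h1 : IsMap E J (fun y => x * y * x⁻¹) :=
      isMap_of_centric_restrict' S.2 hsat hsub hEsat
        (hconjF hJS fun y hy => hJS (hnormal hxJ y hy)) hR'J
        (centric_of_self_centralizing S hR'S hR'C) ((key hR'S).1 (hle hx)).2
    exact h1.res hRJ
  intro α hα
  rw [hautG _ le_rfl] at hα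
  obtain ⟨g, -, hga⟩ := mem_autInducedBy.1 hα
  have hgN := mem_normalizer_of_conj_aut hga
  obtain ⟨R, hRS, hRC, hgR, hg⟩ := hb g hgN
  refine (mem_autGroup le_rfl).2 ?_
  refine (isMap_of_centric_restrict' S.2 hsat hsub hEsat
    (hconjF le_rfl fun y hy => hnormal hgN y hy) hRS (centric_of_self_centralizing S hRS hRC)
    ((key hRS).1 (hact hRS hg)).2).congr fun y hy => ?_
  exact (hga ⟨y, hy⟩).symm.trans (autFun_coe α ⟨y, hy⟩).symm

end Cfsg.Agent.Fus
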