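import Cfsg.Agent.Lib.Fus.SimpleQuotient
import Cfsg.Agent.Lib.Grp.Frattini

/-!
Sylow 2-subgroups and their fusion in three-dimensional linear and unitary groups in odd
characteristic: wreathed and semidihedral type, from data on a group of matrices.
-/

set_option autoImplicit false
set_option linter.style.haveILetI false
set_option linter.unusedSectionVars false

open scoped Classical

namespace Cfsg.Agent.Fus.ThreeTwo

open Matrix

variable {F : Type*} [Field F]

local notation "SL3" => Matrix.SpecialLinearGroup (Fin 3) F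

/-- A block matrix. -/
def blk (a b c d e : F) : Matrix (Fin 3) (Fin 3) F := !![a, b, 0; c, d, 0; 0, 0, e]

/-- The cyclic permutation matrix. -/
def cycM : Matrix (Fin 3) (Fin 3) F := !![0, 0, 1; 1, 0, 0; 0, 1, 0]

variable {H : Subgroup (Matrix.SpecialLinearGroup (Fin 3) F)}

/-- The matrix of an element. -/
def val (g : H) : Matrix (Fin 3) (Fin 3) F := ((g : SL3) : Matrix (Fin 3) (Fin 3) F)

theorem val_mul (g g' : H) : val (g * g') = val g * val g' := rfl

theorem val_one : val (1 : H) = 1 := rfl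

theorem val_inj {g g' : H} (h : val g = val g') : g = g' :=
  Subtype.ext (Matrix.SpecialLinearGroup.ext _ _ fun i j => congrFun (congrFun h i) j)

theorem val_inv_eq {g : H} {M : Matrix (Fin 3) (Fin 3) F} (h : val g * M = 1) : val g⁻¹ = M := by
  rw [← one_mul M, ← val_one (H := H), ← inv_mul_cancel g, val_mul, mul_assoc, h, mul_one]

theorem conj_eq {g x y : H} (h : val g * val x = val y * val g) : g * x * g⁻¹ = y := by
  rw [mul_inv_eq_iff_eq_mul]
  exact val_inj (by rw [val_mul, val_mul, h])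

theorem blk_mul (a b c d e a' b' c' d' e' : F) : blk a b c d e * blk a' b' c' d' e' =
    blk (a * a' + b * c') (a * b' + b * d') (c * a' + d * c') (c * b' + d * d') (e * e') := by
  ext i j; fin_cases i <;> fin_cases j <;> simp [blk, Matrix.mul_apply, Fin.sum_univ_three]

theorem blk_one : blk (1 : F) 0 0 1 1 = 1 := by
  ext i j; fin_cases i <;> fin_cases j <;> simp [blk]

theorem blk_inj {a b c d e a' b' c' d' e' : F} (h : blk a b c d e = blk a' b' c' d' e') :
    a = a' ∧ b = b' ∧ c = c' ∧ d = d' ∧ e = e' :=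
  ⟨congrFun (congrFun h 0) 0, congrFun (congrFun h 0) 1, congrFun (congrFun h 1) 0,
    congrFun (congrFun h 1) 1, congrFun (congrFun h 2) 2⟩

theorem det_val (g : H) {a b c d e : F} (h : val g = blk a b c d e) : (a * d - b * c) * e = 1 := by
  have h1 : (val g).det = 1 := (g : SL3).2
  rw [h, Matrix.det_fin_three] at h1
  simp [blk] at h1
  linear_combination h1

theorem blk_pow (a b : F) (e : F) (n : ℕ) : blk a 0 0 b e ^ n = blk (a ^ n) 0 0 (b ^ n) (e ^ n) := by
  induction n with
  | zero => simp [blk_one]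
  | succ n ih => rw [pow_succ, ih, blk_mul]; simp [pow_succ]

theorem val_pow (g : H) (n : ℕ) : val (g ^ n) = val g ^ n := by
  induction n with
  | zero => simp [val_one]
  | succ n ih => rw [pow_succ, val_mul, ih, pow_succ]

theorem cyc_conj (a b e : F) : cycM * blk a 0 0 b e = blk e 0 0 a b * cycM := by
  ext i j; fin_cases i <;> fin_cases j <;> simp [blk, cycM, Matrix.mul_apply, Fin.sum_univ_three]

/-- `2`-power order. -/
def Two {M : Type*} [Monoid M] (a : M) : Prop := ∃ j : ℕ, a ^ 2 ^ j = 1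

theorem Two.mul {M : Type*} [Monoid M] {a b : M} (h : Commute a b) (ha : Two a) (hb : Two b) :
    Two (a * b) := by
  obtain ⟨i, hi⟩ := ha
  obtain ⟨j, hj⟩ := hb
  refine ⟨i + j, ?_⟩
  rw [h.mul_pow, pow_add, pow_mul, hi, one_pow, one_mul, mul_comm, pow_mul, hj, one_pow]

theorem Two.inv {M : Type*} [Group M] {a : M} (ha : Two a) : Two a⁻¹ := by
  obtain ⟨i, hi⟩ := ha
  exact ⟨i, by rw [inv_pow, hi, inv_one]⟩

theorem Two.inv₀ {a : F} (ha : Two a) : Two a⁻¹ := by
  obtain ⟨i, hi⟩ := ha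
  exact ⟨i, by rw [inv_pow, hi, inv_one]⟩

theorem Two.of_sq {M : Type*} [Monoid M] {a : M} (ha : Two (a * a)) : Two a := by
  obtain ⟨i, hi⟩ := ha
  exact ⟨i + 1, by rw [pow_succ', pow_mul, pow_two, hi]⟩

theorem Two.ne_zero {a : F} (ha : Two a) : a ≠ 0 := by
  obtain ⟨i, hi⟩ := ha
  rintro rfl
  exact one_ne_zero (hi.symm.trans (zero_pow (pow_ne_zero _ two_ne_zero)))

theorem two_one {M : Type*} [Monoid M] : Two (1 : M) := ⟨0, one_pow _⟩

theorem two_neg_one : Two (-1 : F) := ⟨1, by norm_num⟩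

/-- An element commuting with `diag(-1, -1, 1)` is a block matrix. -/
theorem exists_blk (h2 : (2 : F) ≠ 0) {g : H}
    (h : val g * blk (-1) 0 0 (-1) 1 = blk (-1) 0 0 (-1) 1 * val g) :
    ∃ a b c d e, val g = blk a b c d e := by
  have e02 := congrFun (congrFun h 0) 2
  have e12 := congrFun (congrFun h 1) 2
  have e20 := congrFun (congrFun h 2) 0
  have e21 := congrFun (congrFun h 2) 1
  simp [blk, Matrix.mul_apply, Fin.sum_univ_three] at e02 e12 e20 e21
  have z : ∀ x : F, x = -x → x = 0 := fun x hx =>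
    (mul_eq_zero.1 (show 2 * x = 0 by linear_combination hx)).resolve_left h2
  refine ⟨val g 0 0, val g 0 1, val g 1 0, val g 1 1, val g 2 2, ?_⟩
  ext i j; fin_cases i <;> fin_cases j <;> simp [blk]
  exacts [z _ e02, z _ e12, z _ e20.symm, z _ e21.symm]

theorem pow_conj_mem {K : Type*} [Group K] [Finite K] {P : Subgroup K} {g : K}
    (h : ∀ u ∈ P, g * u * g⁻¹ ∈ P) : ∀ u ∈ P, g⁻¹ * u * g ∈ P := by
  have hn : ∀ n : ℕ, ∀ u ∈ P, g ^ n * u * (g ^ n)⁻¹ ∈ P := by
    intro n
    induction n with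
    | zero => intro u hu; simpa using hu
    | succ n ih => intro u hu; simpa [pow_succ', mul_assoc] using h _ (ih u hu)
  intro u hu
  have he : g⁻¹ = g ^ (orderOf g - 1) := inv_eq_of_mul_eq_one_left (by
    rw [← pow_succ, Nat.sub_add_cancel (orderOf_pos g), pow_orderOf_eq_one])
  have := hn (orderOf g - 1) u hu
  rwa [← he, inv_inv] at this

/-- A nontrivial fusion-closed subgroup of a `2`-group contains a central involution. -/
theorem exists_central_involution {K : Type*} [Group K] [Finite K] {P T : Subgroup K}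
    (hP : IsPGroup 2 P) (hTP : T ≤ P) (hT : T ≠ ⊥)
    (hTc : ∀ g : K, ∀ x ∈ T, g * x * g⁻¹ ∈ P → g * x * g⁻¹ ∈ T) :
    ∃ y ∈ T, y ≠ 1 ∧ y * y = 1 ∧ ∀ u ∈ P, u * y = y * u := by
  haveI : Group.IsNilpotent P := hP.isNilpotent
  haveI : (T.subgroupOf P).Normal := ⟨fun n hn g => hTc _ _ hn
    (P.mul_mem (P.mul_mem g.2 n.2) (P.inv_mem g.2))⟩
  obtain ⟨⟨x, hxP⟩, ⟨hxT, hxc⟩, hx1⟩ := Subgroup.bot_or_exists_ne_one _ |>.resolve_left
    (Grp.inf_center_ne_bot (T.subgroupOf P) fun hb => hT (by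
      rw [Subgroup.subgroupOf_eq_bot] at hb
      exact hb.eq_bot_of_le hTP))
  have hxc' : ∀ u ∈ P, u * x = x * u := fun u hu =>
    congrArg Subtype.val (Subgroup.mem_center_iff.1 hxc ⟨u, hu⟩)
  have hex : ∃ k : ℕ, x ^ 2 ^ k = 1 := by
    obtain ⟨k, hk⟩ := hP ⟨x, hxP⟩
    exact ⟨k, by simpa using congrArg Subtype.val hk⟩
  obtain ⟨m, hm⟩ : ∃ m, Nat.find hex = m + 1 := by
    refine Nat.exists_eq_succ_of_ne_zero fun h0 => hx1 (Subtype.ext ?_)
    have := Nat.find_spec hex
    rwa [h0, pow_zero, pow_one] at this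
  refine ⟨x ^ 2 ^ m, T.pow_mem hxT _, Nat.find_min hex (by omega), ?_, fun u hu =>
    (Commute.pow_right (hxc' u hu) _).eq⟩
  rw [← pow_add, ← two_mul, ← pow_succ']
  exact hm ▸ Nat.find_spec hex

/-! ### Wreathed type -/

/-- Data giving a wreathed Sylow 2-subgroup; `U` is the group of allowed diagonal entries. -/
structure WData (H : Subgroup (Matrix.SpecialLinearGroup (Fin 3) F)) (U : F → Prop) : Prop where
  h2 : (2 : F) ≠ 0
  diag : ∀ (g : H) (a b e : F), val g = blk a 0 0 b e → U a ∧ U b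
  mkd : ∀ a b : F, U a → U b → ∃ g : H, val g = blk a 0 0 b (a * b)⁻¹
  cyc : ∃ g : H, val g = cycM
  swap : ∃ g : H, val g = blk 0 1 1 0 (-1)
  im : ∃ i : F, U i ∧ i ^ 2 = -1
  rot : ∃ g : H, blk 0 1 1 0 (-1) * val g = val g * blk 1 0 0 (-1) (-1)

/-- The wreathed 2-subgroup. -/
def IsW (g : H) : Prop :=
  ∃ a b e : F, Two a ∧ Two b ∧ (val g = blk a 0 0 b e ∨ val g = blk 0 a b 0 e)

/-- Membership is closed under multiplication. -/
theorem IsW.mul {g g' : H} (h : IsW g) (h' : IsW g') : IsW (g * g') := by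
  obtain ⟨a, b, e, ha, hb, h⟩ := h
  obtain ⟨a', b', e', ha', hb', h'⟩ := h'
  rcases h with h | h <;> rcases h' with h' | h'
  · exact ⟨_, _, e * e', ha.mul (.all _ _) ha', hb.mul (.all _ _) hb', Or.inl (by
      rw [val_mul, h, h', blk_mul]; simp)⟩
  · exact ⟨_, _, e * e', ha.mul (.all _ _) ha', hb.mul (.all _ _) hb', Or.inr (by
      rw [val_mul, h, h', blk_mul]; simp)⟩
  · exact ⟨_, _, e * e', ha.mul (.all _ _) hb', hb.mul (.all _ _) ha', Or.inr (by
      rw [val_mul, h, h', blk_mul]; simp)⟩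
  · exact ⟨_, _, e * e', ha.mul (.all _ _) hb', hb.mul (.all _ _) ha', Or.inl (by
      rw [val_mul, h, h', blk_mul]; simp)⟩

/-- The wreathed subgroup as a subgroup. -/
def wGroup (H : Subgroup (Matrix.SpecialLinearGroup (Fin 3) F)) : Subgroup H where
  carrier := {g | IsW g}
  one_mem' := ⟨1, 1, 1, two_one, two_one, Or.inl (by rw [val_one, blk_one])⟩
  mul_mem' := IsW.mul
  inv_mem' := by
    rintro g ⟨a, b, e, ha, hb, h | h⟩
    · have he := det_val g h
      refine ⟨a⁻¹, b⁻¹, e⁻¹, ha.inv₀, hb.inv₀, Or.inl (val_inv_eq ?_)⟩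
      rw [h, blk_mul, mul_inv_cancel₀ (right_ne_zero_of_mul_eq_one he), mul_inv_cancel₀ ha.ne_zero,
        mul_inv_cancel₀ hb.ne_zero]
      simp [blk_one]
    · have he := det_val g h
      refine ⟨b⁻¹, a⁻¹, e⁻¹, hb.inv₀, ha.inv₀, Or.inr (val_inv_eq ?_)⟩
      rw [h, blk_mul, mul_inv_cancel₀ (right_ne_zero_of_mul_eq_one he), mul_inv_cancel₀ ha.ne_zero,
        mul_inv_cancel₀ hb.ne_zero]
      simp [blk_one]

theorem mem_wGroup {g : H} : g ∈ wGroup H ↔ IsW g := Iff.rfl

theorem isPGroup_wGroup : IsPGroup 2 (wGroup H) := by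
  rintro ⟨g, a, b, e, ha, hb, h⟩
  suffices Two g by
    obtain ⟨k, hk⟩ := this
    exact ⟨k, Subtype.ext (by simpa using hk)⟩
  have hdiag : ∀ (x : H) (a b e : F), Two a → Two b → val x = blk a 0 0 b e → Two x := by
    intro x a b e ha hb hx
    have he : e = (a * b)⁻¹ := eq_inv_of_mul_eq_one_right (by simpa using det_val x hx)
    obtain ⟨k, hk⟩ := (ha.mul (.all _ _) hb).inv₀
    obtain ⟨i, hi⟩ := ha
    obtain ⟨j, hj⟩ := hb
    refine ⟨i + j + k, val_inj ?_⟩
    rw [val_pow, hx, blk_pow, val_one, he]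
    have h1 : a ^ 2 ^ (i + j + k) = 1 := by rw [add_assoc, pow_add, pow_mul, hi, one_pow]
    have h2 : b ^ 2 ^ (i + j + k) = 1 := by
      rw [show i + j + k = j + (i + k) by ring, pow_add, pow_mul, hj, one_pow]
    have h3 : (a * b)⁻¹ ^ 2 ^ (i + j + k) = 1 := by
      rw [show i + j + k = k + (i + j) by ring, pow_add, pow_mul, hk, one_pow]
    rw [h1, h2, h3, blk_one]
  rcases h with h | h
  · exact hdiag g a b e ha hb h
  · exact Two.of_sq (hdiag _ (a * b) (b * a) (e * e) (ha.mul (.all _ _) hb) (hb.mul (.all _ _) ha)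
      (by rw [val_mul, h, blk_mul]; simp))

variable {U : F → Prop}

theorem WData.blk_mem (D : WData H U) {a b : F} (ha : Two a) (hb : Two b) (ua : U a) (ub : U b) :
    ∃ g ∈ wGroup H, val g = blk a 0 0 b (a * b)⁻¹ := by
  obtain ⟨g, hg⟩ := D.mkd a b ua ub
  exact ⟨g, ⟨a, b, _, ha, hb, Or.inl hg⟩, hg⟩

theorem WData.one (D : WData H U) : U 1 :=
  (D.diag 1 1 1 1 (by rw [val_one, blk_one])).1

theorem WData.im_two {i : F} (hi : i ^ 2 = -1) : Two i :=
  ⟨2, by linear_combination (i ^ 2 - 1) * hi⟩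

theorem WData.exists_zz (D : WData H U) : ∃ z ∈ wGroup H, val z = blk (-1) 0 0 (-1) 1 := by
  obtain ⟨i, ui, hi⟩ := D.im
  obtain ⟨g, hgP, hg⟩ := D.blk_mem (WData.im_two hi) (WData.im_two hi) ui ui
  refine ⟨g * g, (wGroup H).mul_mem hgP hgP, ?_⟩
  rw [val_mul, hg, blk_mul]
  have h1 : i * i = -1 := by linear_combination hi
  simp [h1]

theorem WData.swap_mem (D : WData H U) : ∃ w ∈ wGroup H, val w = blk 0 1 1 0 (-1) := by
  obtain ⟨w, hw⟩ := D.swap
  exact ⟨w, ⟨1, 1, -1, two_one, two_one, Or.inr hw⟩, hw⟩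

theorem WData.centre_involution (D : WData H U) {y : H} (hy : y ∈ wGroup H) (hy1 : y ≠ 1)
    (hyy : y * y = 1) (hc : ∀ u ∈ wGroup H, u * y = y * u) : val y = blk (-1) 0 0 (-1) 1 := by
  obtain ⟨i, ui, hi⟩ := D.im
  obtain ⟨d, hdP, hd⟩ := D.blk_mem (WData.im_two hi) two_one ui D.one
  obtain ⟨w, hwP, hw⟩ := D.swap_mem
  obtain ⟨a, b, e, ha, hb, h | h⟩ := hy
  · have h1 := congrArg val (hc w hwP)
    rw [val_mul, val_mul, hw, h, blk_mul, blk_mul] at h1
    obtain ⟨-, hab, -, -, -⟩ := blk_inj h1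
    have hab : b = a := by linear_combination hab
    subst hab
    have h2 := congrArg val hyy
    rw [val_mul, h, blk_mul, val_one, ← blk_one] at h2
    obtain ⟨h3, -, -, -, -⟩ := blk_inj h2
    have hdet := det_val y h
    have he : e = 1 := by linear_combination hdet - e * h3
    subst he
    rcases mul_self_eq_one_iff.1 (show b * b = 1 by linear_combination h3) with rfl | rfl
    · exact absurd (val_inj (by rw [h, val_one, blk_one])) hy1
    · exact h
  · have h1 := congrArg val (hc d hdP)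
    rw [val_mul, val_mul, hd, h, blk_mul, blk_mul] at h1
    obtain ⟨-, h2, -, -, -⟩ := blk_inj h1
    have h3 : a * (i - 1) = 0 := by linear_combination h2
    rcases mul_eq_zero.1 h3 with h4 | h4
    · exact absurd h4 ha.ne_zero
    · exact absurd (show (2 : F) = 0 by linear_combination hi - (i + 1) * h4) D.h2

/-- An element normalizing the wreathed subgroup is monomial. -/
theorem WData.normalizing (D : WData H U) [Finite H] {g : H}
    (hg : ∀ u ∈ wGroup H, g * u * g⁻¹ ∈ wGroup H) :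
    ∃ a b e, val g = blk a 0 0 b e ∨ val g = blk 0 a b 0 e := by
  obtain ⟨z, hzP, hz⟩ := D.exists_zz
  have hgz : val (g * z * g⁻¹) = blk (-1) 0 0 (-1) 1 := by
    refine D.centre_involution (hg z hzP) ?_ ?_ fun u hu => ?_
    · rw [Ne, conj_eq_one_iff]
      intro h1
      rw [h1, val_one, ← blk_one] at hz
      exact D.h2 (by linear_combination (blk_inj hz).1)
    · have h1 : z * z = 1 := val_inj (by rw [val_mul, hz, blk_mul, val_one]; simp [blk_one])
      rw [show g * z * g⁻¹ * (g * z * g⁻¹) = g * (z * z) * g⁻¹ by group, h1, mul_one, mul_inv_cancel]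
    · obtain ⟨a, b, e, -, -, h⟩ := pow_conj_mem hg u hu
      have hc : g⁻¹ * u * g * z = z * (g⁻¹ * u * g) := val_inj (by
        rcases h with h | h <;> rw [val_mul _ z, val_mul z, h, hz, blk_mul, blk_mul] <;> simp)
      calc u * (g * z * g⁻¹) = g * (g⁻¹ * u * g * z) * g⁻¹ := by group
        _ = g * (z * (g⁻¹ * u * g)) * g⁻¹ := by rw [hc]
        _ = g * z * g⁻¹ * u := by group
  obtain ⟨a, b, c, d, e, hG⟩ := exists_blk D.h2 (g := g) (by
    have h1 : val (g * z * g⁻¹) * val g = val (g * z) := by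
      rw [← val_mul, inv_mul_cancel_right]
    rw [hgz, val_mul, hz] at h1
    exact h1.symm)
  have hdet := det_val g hG
  obtain ⟨i, ui, hi⟩ := D.im
  obtain ⟨d0, hdP, hd⟩ := D.blk_mem (WData.im_two hi) two_one ui D.one
  obtain ⟨a', b', e', ha', hb', hy⟩ := hg d0 hdP
  have hcomm : val (g * d0 * g⁻¹) * val g = val g * val d0 := by
    rw [← val_mul, inv_mul_cancel_right, val_mul]
  have hii : i * i = -1 := by linear_combination hi
  have h2 := D.h2
  rcases hy with hy | hy
  · rw [hy, hG, hd, blk_mul, blk_mul] at hcomm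
    obtain ⟨e1, e2, e3, e4, -⟩ := blk_inj hcomm
    have hi1 : i - 1 ≠ 0 := fun h0 => h2 (by linear_combination hi - (i + 1) * h0)
    have h12 : a * b * (i - 1) = 0 := by linear_combination (-b) * e1 + a * e2
    have h34 : c * d * (i - 1) = 0 := by linear_combination (-d) * e3 + c * e4
    rcases mul_eq_zero.1 ((mul_eq_zero.1 h12).resolve_right hi1) with rfl | rfl <;>
      rcases mul_eq_zero.1 ((mul_eq_zero.1 h34).resolve_right hi1) with rfl | rfl
    · simp at hdet
    · exact ⟨b, c, e, Or.inr hG⟩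
    · exact ⟨a, d, e, Or.inl hG⟩
    · simp at hdet
  · exfalso
    rw [hy, hG, hd, blk_mul, blk_mul] at hcomm
    obtain ⟨e1, e2, e3, e4, -⟩ := blk_inj hcomm
    -- the rows of the block are exchanged, so squares give a contradiction
    have f1 : a * (a' * b' + 1) = 0 := by linear_combination a' * e3 + i * e1 + a * hii
    have f2 : b * (a' * b' - 1) = 0 := by linear_combination a' * e4 + e2
    have f3 : c * (a' * b' + 1) = 0 := by linear_combination b' * e1 + i * e3 + c * hii
    have f4 : d * (a' * b' - 1) = 0 := by linear_combination b' * e2 + e4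
    have h5 : (a * d - b * c) * (a' * b' + 1) = 0 := by linear_combination d * f1 - b * f3
    have h6 : (a * d - b * c) * (a' * b' - 1) = 0 := by linear_combination a * f4 - c * f2
    have h7 : (a * d - b * c) * 2 = 0 := by linear_combination h5 - h6
    rw [(mul_eq_zero.1 h7).resolve_right h2] at hdet
    simp at hdet

/-- The conjugate of the swap by a monomial element. -/
theorem WData.ratio {g w : H} {a b e : F} (hw : val w = blk 0 1 1 0 (-1))
    (hm : g * w * g⁻¹ ∈ wGroup H) (hb : b ≠ 0)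
    (h : val g = blk a 0 0 b e ∨ val g = blk 0 a b 0 e) : Two (a / b) := by
  obtain ⟨a', b', e', ha', hb', hy⟩ := hm
  have hcomm : val (g * w * g⁻¹) * val g = val g * val w := by
    rw [← val_mul, inv_mul_cancel_right, val_mul]
  rcases h with h | h <;> rcases hy with hy | hy <;> rw [hy, h, hw, blk_mul, blk_mul] at hcomm <;>
    obtain ⟨e1, e2, e3, e4, -⟩ := blk_inj hcomm
  · exfalso
    exact hb ((mul_eq_zero.1 (show b' * b = 0 by linear_combination e4)).resolve_left hb'.ne_zero)
  · rw [show a / b = a' by rw [div_eq_iff hb]; linear_combination -e2]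
    exact ha'
  · exfalso
    exact hb ((mul_eq_zero.1 (show b' * b = 0 by linear_combination e3)).resolve_left hb'.ne_zero)
  · rw [show a / b = a' by rw [div_eq_iff hb]; linear_combination -e1]
    exact ha'

theorem isSimple_wreathed [Finite F] {G : Type*} [Group G] [Finite G] (D : WData H U)
    (θ : H →* G) (hθ : Function.Surjective θ) {m : ℕ} (hm : m.Coprime 2)
    (hker : ∀ s, θ s = 1 → s ∈ Subgroup.center H ∧ s ^ m = 1) (S : Sylow 2 G) :
    (groupFusionSystem (S : Subgroup G)).IsSimple 2 := by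
  refine isSimple_of_central_quotient θ hθ hm hker (wGroup H) isPGroup_wGroup ?_ ?_ ?_ ?_ S
  · intro hb
    obtain ⟨z, hzP, hz⟩ := D.exists_zz
    rw [hb, Subgroup.mem_bot] at hzP
    rw [hzP, val_one, ← blk_one] at hz
    exact D.h2 (by linear_combination (blk_inj hz).1)
  · intro g ⟨k, hk⟩ hg
    obtain ⟨w, hwP, hw⟩ := D.swap_mem
    obtain ⟨a, b, e, h⟩ := D.normalizing hg
    have hdet : a ≠ 0 ∧ b ≠ 0 := by
      rcases h with h | h <;> have := det_val g h <;>
        constructor <;> intro h0 <;> simp [h0] at this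
    rcases h with h | h
    · have h1 := congrArg val hk
      rw [val_pow, h, blk_pow, val_one, ← blk_one] at h1
      exact ⟨a, b, e, ⟨k, (blk_inj h1).1⟩, ⟨k, (blk_inj h1).2.2.2.1⟩, Or.inl h⟩
    · have hr := WData.ratio hw (hg w hwP) hdet.2 (Or.inr h)
      have hab : Two (a * b) := by
        have hg2 : val (g * g) = blk (a * b) 0 0 (b * a) (e * e) := by
          rw [val_mul, h, blk_mul]; simp
        have h1 : (g * g) ^ 2 ^ k = 1 := by
          rw [← pow_two, ← pow_mul, mul_comm, pow_mul, hk, one_pow]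
        have h2 := congrArg val h1
        rw [val_pow, hg2, blk_pow, val_one, ← blk_one] at h2
        exact ⟨k, (blk_inj h2).1⟩
      have ha : Two a := Two.of_sq (by
        have := hab.mul (.all _ _) hr
        have hb0 := hdet.2
        rwa [show a * b * (a / b) = a * a by rw [mul_assoc, mul_div_cancel₀ a hb0]] at this)
      have hb : Two b := by
        have := ha.mul (.all _ _) hr.inv₀
        rwa [show a * (a / b)⁻¹ = b by field_simp [hdet.1]] at this
      exact ⟨a, b, e, ha, hb, Or.inr h⟩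
  · intro T hTP hT hTc
    have conj : ∀ (g : H) (x y : H), x ∈ T → y ∈ wGroup H → val g * val x = val y * val g → y ∈ T := by
      intro g x y hx hy h
      have h1 := hTc g x hx (by rw [conj_eq h]; exact hy)
      rwa [conj_eq h] at h1
    obtain ⟨y, hyT, hy1, hyy, hyc⟩ := exists_central_involution isPGroup_wGroup hTP hT hTc
    have hyv := D.centre_involution (hTP hyT) hy1 hyy hyc
    obtain ⟨P3, hP3⟩ := D.cyc
    obtain ⟨w, hwP, hw⟩ := D.swap_mem
    obtain ⟨gr, hgr⟩ := D.rot
    -- `diag(1, -1, -1)` and the swap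
    obtain ⟨z1, hz1T, hz1⟩ : ∃ z1 ∈ T, val z1 = blk 1 0 0 (-1) (-1) := by
      have hU : U (-1) := (D.diag _ _ _ _ hyv).1
      obtain ⟨z1, hz1P, hz1⟩ := D.blk_mem two_one two_neg_one D.one hU
      rw [one_mul, inv_neg, inv_one] at hz1
      exact ⟨z1, conj P3 y z1 hyT hz1P (by rw [hP3, hyv, hz1, cyc_conj]), hz1⟩
    have hwT : w ∈ T := conj gr z1 w hz1T hwP (by rw [hz1, hw, hgr])
    have hd2 : ∀ c, Two c → U c → U c⁻¹ → ∃ t ∈ T, val t = blk c 0 0 1 c⁻¹ := by
      intro c hc uc uc'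
      obtain ⟨d, hdP, hd⟩ := D.blk_mem hc two_one uc D.one
      rw [mul_one] at hd
      have h1 : w * (d * w * d⁻¹) ∈ T := T.mul_mem hwT (hTc d w hwT
        ((wGroup H).mul_mem ((wGroup H).mul_mem hdP hwP) ((wGroup H).inv_mem hdP)))
      have hdi : val d⁻¹ = blk c⁻¹ 0 0 1 c := val_inv_eq (by
        rw [hd, blk_mul]; simp [hc.ne_zero, blk_one])
      have hv : val (w * (d * w * d⁻¹)) = blk c⁻¹ 0 0 c 1 := by
        rw [val_mul, val_mul, val_mul, hw, hd, hdi, blk_mul, blk_mul, blk_mul]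
        simp [hc.ne_zero]
      obtain ⟨t, htP, ht⟩ := D.blk_mem hc two_one uc D.one
      rw [mul_one] at ht
      refine ⟨t, conj (P3 * P3) _ t h1 htP ?_, ht⟩
      rw [val_mul P3 P3, hP3, hv, ht, mul_assoc, cyc_conj, ← mul_assoc, cyc_conj, mul_assoc]
    intro u hu
    have key : ∀ a b e (x : H), Two a → Two b → val x = blk a 0 0 b e → x ∈ T := by
      intro a b e x ha hb hx
      obtain ⟨ua, ub⟩ := D.diag x a b e hx
      have uinv : ∀ c, Two c → U c → U c⁻¹ := by
        intro c hc uc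
        obtain ⟨d, -, hd⟩ := D.blk_mem hc two_one uc D.one
        rw [mul_one] at hd
        have hdi : val d⁻¹ = blk c⁻¹ 0 0 1 c := val_inv_eq (by
          rw [hd, blk_mul]; simp [hc.ne_zero, blk_one])
        exact (D.diag _ _ _ _ hdi).1
      obtain ⟨t1, ht1T, ht1⟩ := hd2 a ha ua (uinv a ha ua)
      obtain ⟨t2, ht2T, ht2⟩ := hd2 b⁻¹ hb.inv₀ (uinv b hb ub) (by rw [inv_inv]; exact ub)
      obtain ⟨t3, ht3T, ht3⟩ := hd2 b hb ub (uinv b hb ub)
      -- `diag(b⁻¹, b, 1)` from `diag(b, 1, b⁻¹)`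
      obtain ⟨d, hdP, hd⟩ := D.blk_mem hb.inv₀ hb (uinv b hb ub) ub
      rw [inv_mul_cancel₀ hb.ne_zero, inv_one] at hd
      have hdT : d ∈ T := conj P3 t3 d ht3T hdP (by rw [hP3, ht3, hd, cyc_conj])
      have hxe : x = t1 * (t3 * d) := val_inj (by
        have he : e = (a * b)⁻¹ := eq_inv_of_mul_eq_one_right (by simpa using det_val x hx)
        rw [val_mul, val_mul, hx, ht1, ht3, hd, blk_mul, blk_mul]
        simp [hb.ne_zero, he, mul_comm])
      exact hxe ▸ T.mul_mem ht1T (T.mul_mem ht3T hdT)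
    obtain ⟨a, b, e, ha, hb, h | h⟩ := hu
    · exact key a b e u ha hb h
    · have h1 : u * w ∈ T := key a b (e * -1) _ ha hb (by rw [val_mul, h, hw, blk_mul]; simp)
      have := T.mul_mem h1 (T.inv_mem hwT)
      rwa [mul_inv_cancel_right] at this
  · intro g hg
    obtain ⟨w, hwP, hw⟩ := D.swap_mem
    obtain ⟨a, b, e, h⟩ := D.normalizing hg
    have hcomm : ∀ x : H, ∀ A B : F, val x = blk A 0 0 A B → ∀ u ∈ wGroup H, x * u = u * x := by
      rintro x A B hx u ⟨a', b', e', -, -, h | h⟩ <;> apply val_inj <;>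
        rw [val_mul, val_mul, hx, h, blk_mul, blk_mul] <;> simp [mul_comm]
    rcases h with h | h
    · have hb : b ≠ 0 := fun h0 => by have := det_val g h; simp [h0] at this
      obtain ⟨k, hk⟩ := WData.ratio hw (hg w hwP) hb (Or.inl h)
      rw [div_pow, div_eq_one_iff_eq (pow_ne_zero _ hb)] at hk
      refine ⟨k, hcomm _ (b ^ 2 ^ k) (e ^ 2 ^ k) ?_⟩
      rw [val_pow, h, blk_pow, hk]
    · refine ⟨1, hcomm _ (a * b) (e * e) ?_⟩
      rw [pow_one, pow_two, val_mul, h, blk_mul]
      simp [mul_comm]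

/-! ### Semidihedral type -/

/-- Data giving a semidihedral Sylow 2-subgroup. -/
structure SData (H : Subgroup (Matrix.SpecialLinearGroup (Fin 3) F)) : Prop where
  h2 : (2 : F) ≠ 0
  cyc : ∃ g : H, val g = cycM
  jj : ∃ g : H, val g = blk 0 (-1) 1 0 1
  neg : ∃ (g : H) (x y e : F), val g = blk x (-y) y x e ∧ x * x + y * y = -1
  nsq : ∀ (g : H) (x y e : F), val g = blk x (-y) y x e → x = 0 ∨ y = 0 → x * x + y * y ≠ -1
  unit : ∀ (g : H) (x y e : F), val g = blk x (-y) y x e → Two (x * x + y * y) →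
    x * x + y * y = 1 ∨ x * x + y * y = -1
  conj1 : ∀ (g : H) (x y : F), val g = blk x y y (-x) (-1) → x * x + y * y = 1 → x ≠ -1 →
    ∃ k : H, val g * val k = val k * blk 1 0 0 (-1) (-1)
  conj2 : ∀ (g : H) (x y : F), val g = blk x y y (-x) 1 → x * x + y * y = -1 →
    ∃ k : H, val g * val k = val k * blk 0 (-1) 1 0 1

/-- Rotation-like blocks of 2-power order. -/
def IsC (g : H) : Prop := (∃ x y e : F, val g = blk x (-y) y x e) ∧ Two g

theorem kmul (x y e x' y' e' : F) : blk x (-y) y x e * blk x' (-y') y' x' e' =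
    blk (x * x' - y * y') (-(x * y' + y * x')) (x * y' + y * x') (x * x' - y * y') (e * e') := by
  rw [blk_mul]; congr 1 <;> ring

theorem kcomm {g g' : H} (h : ∃ x y e : F, val g = blk x (-y) y x e)
    (h' : ∃ x y e : F, val g' = blk x (-y) y x e) : g * g' = g' * g := by
  obtain ⟨x, y, e, h⟩ := h
  obtain ⟨x', y', e', h'⟩ := h'
  refine val_inj ?_
  rw [val_mul, val_mul, h, h', kmul, kmul]
  congr 1 <;> ring

theorem kform_mul {g g' : H} (h : ∃ x y e : F, val g = blk x (-y) y x e)
    (h' : ∃ x y e : F, val g' = blk x (-y) y x e) :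
    ∃ x y e : F, val (g * g') = blk x (-y) y x e := by
  obtain ⟨x, y, e, h⟩ := h
  obtain ⟨x', y', e', h'⟩ := h'
  exact ⟨_, _, _, by rw [val_mul, h, h', kmul]⟩

theorem kform_pow {g : H} (h : ∃ x y e : F, val g = blk x (-y) y x e) (n : ℕ) :
    ∃ x y e : F, val (g ^ n) = blk x (-y) y x e := by
  induction n with
  | zero => exact ⟨1, 0, 1, by rw [pow_zero, val_one, neg_zero, blk_one]⟩
  | succ n ih => rw [pow_succ]; exact kform_mul ih h

/-- The norm of a rotation-like block is inverse to the last entry. -/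
theorem knorm {g : H} {x y e : F} (h : val g = blk x (-y) y x e) : (x * x + y * y) * e = 1 := by
  linear_combination det_val g h

/-- The norm of a 2-element rotation-like block. -/
theorem two_knorm {g : H} {x y e : F} (h : val g = blk x (-y) y x e) (hg : Two g) :
    Two (x * x + y * y) := by
  obtain ⟨k, hk⟩ := hg
  have h1 : ∀ n : ℕ, val (g ^ n) 2 2 = e ^ n := by
    intro n
    obtain ⟨x', y', e', h'⟩ := kform_pow ⟨x, y, e, h⟩ n
    induction n generalizing x' y' e' with
    | zero => simp [val_one]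
    | succ n ih =>
      obtain ⟨x'', y'', e'', h''⟩ := kform_pow ⟨x, y, e, h⟩ n
      have := ih x'' y'' e'' h''
      rw [pow_succ, val_mul, h'', h, kmul] at *
      simp [blk] at this ⊢
      rw [this, pow_succ]
  refine ⟨k, ?_⟩
  have h2 := h1 (2 ^ k)
  rw [hk, val_one, Matrix.one_apply_eq] at h2
  calc (x * x + y * y) ^ 2 ^ k = (x * x + y * y) ^ 2 ^ k * e ^ 2 ^ k := by rw [← h2, mul_one]
    _ = 1 := by rw [← mul_pow, knorm h, one_pow]

theorem sigma_conj {s g : H} (hs : val s = blk 1 0 0 (-1) (-1)) {x y e : F}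
    (h : val g = blk x (-y) y x e) : val (s * g * s) = blk x (-(-y)) (-y) x e := by
  rw [val_mul, val_mul, hs, h, blk_mul, blk_mul]
  congr 1 <;> ring

theorem sigma_sq {s : H} (hs : val s = blk 1 0 0 (-1) (-1)) : s * s = 1 :=
  val_inj (by rw [val_mul, hs, blk_mul, val_one]; simp [blk_one])

theorem IsC.mul {g g' : H} (h : IsC g) (h' : IsC g') : IsC (g * g') :=
  ⟨kform_mul h.1 h'.1, h.2.mul (kcomm h.1 h'.1) h'.2⟩

theorem IsC.inv [Finite F] {g : H} (h : IsC g) : IsC g⁻¹ := by
  refine ⟨?_, h.2.inv⟩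
  have he : g⁻¹ = g ^ (orderOf g - 1) := inv_eq_of_mul_eq_one_left (by
    rw [← pow_succ, Nat.sub_add_cancel (orderOf_pos g), pow_orderOf_eq_one])
  exact he ▸ kform_pow h.1 _

theorem IsC.conj {s g : H} (hs : val s = blk 1 0 0 (-1) (-1)) (h : IsC g) : IsC (s * g * s) := by
  obtain ⟨⟨x, y, e, hg⟩, k, hk⟩ := h
  refine ⟨⟨x, -y, e, sigma_conj hs hg⟩, k, ?_⟩
  have hs' : s⁻¹ = s := inv_eq_of_mul_eq_one_left (sigma_sq hs)
  rw [show s * g * s = s * g * s⁻¹ by rw [hs'], conj_pow, hk, mul_one, mul_inv_cancel]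

/-- The semidihedral subgroup. -/
def sGroup [Finite F] {s : H} (hs : val s = blk 1 0 0 (-1) (-1)) : Subgroup H where
  carrier := {g | IsC g ∨ IsC (g * s)}
  one_mem' := Or.inl ⟨⟨1, 0, 1, by rw [val_one, neg_zero, blk_one]⟩, two_one⟩
  mul_mem' := by
    intro a b ha hb
    rcases ha with ha | ha <;> rcases hb with hb | hb
    · exact Or.inl (ha.mul hb)
    · exact Or.inr (by rw [mul_assoc]; exact ha.mul hb)
    · refine Or.inr ?_
      have := ha.mul (hb.conj hs)
      rwa [show a * s * (s * b * s) = a * (s * s) * (b * s) by group, sigma_sq hs, mul_one,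
        ← mul_assoc] at this
    · refine Or.inl ?_
      have := ha.mul (hb.conj hs)
      rwa [show a * s * (s * (b * s) * s) = a * (s * s) * (b * (s * s)) by group, sigma_sq hs,
        mul_one, mul_one] at this
  inv_mem' := by
    intro a ha
    rcases ha with ha | ha
    · exact Or.inl ha.inv
    · refine Or.inr ?_
      have := (ha.inv).conj hs
      rwa [_root_.mul_inv_rev, show s * (s⁻¹ * a⁻¹) * s = a⁻¹ * s by group] at this

theorem mem_sGroup [Finite F] {s : H} {hs : val s = blk 1 0 0 (-1) (-1)} {g : H} :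
    g ∈ sGroup hs ↔ IsC g ∨ IsC (g * s) := Iff.rfl

/-- The form of an element outside the rotation part. -/
theorem refl_form {s g : H} (hs : val s = blk 1 0 0 (-1) (-1)) {x y e : F}
    (h : val (g * s) = blk x (-y) y x e) : val g = blk x y y (-x) (-e) := by
  have : g = g * s * s := by rw [mul_assoc, sigma_sq hs, mul_one]
  rw [this, val_mul, h, hs, blk_mul]
  congr 1 <;> ring

theorem refl_sq {g : H} {x y e : F} (h : val g = blk x y y (-x) e) :
    val (g * g) = blk (x * x + y * y) (-0) 0 (x * x + y * y) (e * e) := by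
  rw [val_mul, h, blk_mul]
  congr 1 <;> ring

theorem isPGroup_sGroup [Finite F] {s : H} (hs : val s = blk 1 0 0 (-1) (-1)) :
    IsPGroup 2 (sGroup hs) := by
  rintro ⟨g, hg⟩
  suffices Two g by
    obtain ⟨k, hk⟩ := this
    exact ⟨k, Subtype.ext (by simpa using hk)⟩
  rcases hg with hg | hg
  · exact hg.2
  · obtain ⟨⟨x, y, e, h⟩, h2⟩ := hg
    obtain ⟨k, hk⟩ := two_knorm h h2
    have he : e * (x * x + y * y) = 1 := by linear_combination knorm h
    have h1 := refl_sq (refl_form hs h)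
    refine Two.of_sq ⟨k, val_inj ?_⟩
    have he2 : e ^ 2 ^ k = 1 := by
      calc e ^ 2 ^ k = e ^ 2 ^ k * (x * x + y * y) ^ 2 ^ k := by rw [hk, mul_one]
        _ = 1 := by rw [← mul_pow, he, one_pow]
    rw [val_pow, h1, neg_zero, blk_pow, hk, val_one, neg_mul_neg, mul_pow, he2, mul_one, blk_one]

theorem SData.jj_mem (D : SData H) [Finite F] {s : H} (hs : val s = blk 1 0 0 (-1) (-1)) :
    ∃ g ∈ sGroup hs, val g = blk 0 (-1) 1 0 1 := by
  obtain ⟨g, hg⟩ := D.jj
  refine ⟨g, Or.inl ⟨⟨0, 1, 1, hg⟩, 2, val_inj ?_⟩, hg⟩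
  rw [val_pow, hg, show (2 : ℕ) ^ 2 = 2 * 2 from rfl, pow_mul, pow_two, pow_two, blk_mul, blk_mul,
    val_one]
  simp [blk_one]

theorem SData.self_mem [Finite F] {s : H} (hs : val s = blk 1 0 0 (-1) (-1)) : s ∈ sGroup hs :=
  Or.inr (by rw [sigma_sq hs]; exact ⟨⟨1, 0, 1, by rw [val_one, neg_zero, blk_one]⟩, two_one⟩)

/-- The central involution. -/
theorem SData.centre_involution (D : SData H) [Finite F] {s : H} (hs : val s = blk 1 0 0 (-1) (-1))
    {y : H} (hy : y ∈ sGroup hs) (hy1 : y ≠ 1) (hyy : y * y = 1)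
    (hc : ∀ u ∈ sGroup hs, u * y = y * u) : val y = blk (-1) 0 0 (-1) 1 := by
  rcases hy with ⟨⟨a, b, e, h⟩, -⟩ | ⟨⟨a, b, e, h⟩, -⟩
  · have h1 := congrArg val (hc s (SData.self_mem hs))
    rw [val_mul, val_mul, hs, h, blk_mul, blk_mul] at h1
    obtain ⟨-, h2, -, -, -⟩ := blk_inj h1
    have hb : b = 0 :=
      (mul_eq_zero.1 (show 2 * b = 0 by linear_combination -h2)).resolve_left D.h2
    subst hb
    have h3 := congrArg val hyy
    rw [val_mul, h, kmul, val_one, ← blk_one] at h3
    obtain ⟨h4, -, -, -, -⟩ := blk_inj h3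
    have hn := knorm h
    have he : e = 1 := by linear_combination hn - e * h4
    subst he
    rcases mul_self_eq_one_iff.1 (show a * a = 1 by linear_combination h4) with rfl | rfl
    · exact absurd (val_inj (by rw [h, val_one, neg_zero, blk_one])) hy1
    · rw [h, neg_zero]
  · obtain ⟨j, hjP, hj⟩ := D.jj_mem hs
    have h1 := congrArg val (hc j hjP)
    rw [val_mul, val_mul, hj, refl_form hs h, blk_mul, blk_mul] at h1
    obtain ⟨e1, e2, -, -, -⟩ := blk_inj h1
    have hb : b = 0 :=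
      (mul_eq_zero.1 (show 2 * b = 0 by linear_combination -e1)).resolve_left D.h2
    have ha : a = 0 :=
      (mul_eq_zero.1 (show 2 * a = 0 by linear_combination e2)).resolve_left D.h2
    have := knorm h
    rw [ha, hb] at this
    simp at this

theorem SData.exists_neg_two (D : SData H) [Finite F] :
    ∃ (g : H) (x y e : F), val g = blk x (-y) y x e ∧ x * x + y * y = -1 ∧ Two g := by
  obtain ⟨g, x, y, e, hg, hn⟩ := D.neg
  obtain ⟨j, r, hr, hord⟩ := Nat.exists_eq_pow_mul_and_not_dvd (orderOf_pos g).ne' 2 (by omega)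
  have hpow : ∀ n : ℕ, ∃ x' y' e', val (g ^ n) = blk x' (-y') y' x' e' ∧
      x' * x' + y' * y' = (-1) ^ n := by
    intro n
    induction n with
    | zero => exact ⟨1, 0, 1, by rw [pow_zero, val_one, neg_zero, blk_one], by simp⟩
    | succ n ih =>
      obtain ⟨x', y', e', h', hn'⟩ := ih
      refine ⟨x' * x - y' * y, x' * y + y' * x, e' * e, by rw [pow_succ, val_mul, h', hg, kmul], ?_⟩
      rw [pow_succ, ← hn', ← hn]; ring
  obtain ⟨x', y', e', h', hn'⟩ := hpow r
  refine ⟨g ^ r, x', y', e', h', ?_, j, by rw [← pow_mul, mul_comm, ← hord, pow_orderOf_eq_one]⟩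
  rw [hn', (Nat.odd_iff.2 (by omega)).neg_one_pow]

/-- An element normalizing the semidihedral subgroup. -/
theorem SData.normalizing (D : SData H) [Finite F] {s : H} (hs : val s = blk 1 0 0 (-1) (-1))
    {g : H} (hg : ∀ u ∈ sGroup hs, g * u * g⁻¹ ∈ sGroup hs) :
    (∃ x y e, val g = blk x (-y) y x e) ∨ ∃ x y e, val (g * s) = blk x (-y) y x e := by
  obtain ⟨j, hjP, hj⟩ := D.jj_mem hs
  have hzv : val (j * j) = blk (-1) 0 0 (-1) 1 := by rw [val_mul, hj, blk_mul]; simp
  have hzc : ∀ u ∈ sGroup hs, u * (j * j) = j * j * u := by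
    intro u hu
    refine val_inj ?_
    rw [val_mul u, val_mul _ u, hzv]
    rcases hu with ⟨⟨x, y, e, h⟩, -⟩ | ⟨⟨x, y, e, h⟩, -⟩
    · rw [h, blk_mul, blk_mul]; simp [mul_comm]
    · rw [refl_form hs h, blk_mul, blk_mul]; simp [mul_comm]
  have hgz : val (g * (j * j) * g⁻¹) = blk (-1) 0 0 (-1) 1 := by
    refine D.centre_involution hs (hg _ ((sGroup hs).mul_mem hjP hjP)) ?_ ?_ fun u hu => ?_
    · rw [Ne, conj_eq_one_iff]
      intro h1
      rw [h1, val_one, ← blk_one] at hzv
      exact D.h2 (by linear_combination (blk_inj hzv).1)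
    · have h1 : j * j * (j * j) = 1 := val_inj (by
        rw [val_mul, hzv, blk_mul, val_one]; simp [blk_one])
      rw [show g * (j * j) * g⁻¹ * (g * (j * j) * g⁻¹) = g * (j * j * (j * j)) * g⁻¹ by group, h1,
        mul_one, mul_inv_cancel]
    · calc u * (g * (j * j) * g⁻¹) = g * (g⁻¹ * u * g * (j * j)) * g⁻¹ := by group
        _ = g * (j * j * (g⁻¹ * u * g)) * g⁻¹ := by rw [hzc _ (pow_conj_mem hg u hu)]
        _ = g * (j * j) * g⁻¹ * u := by group
  have hcz : val g * blk (-1) 0 0 (-1) 1 = blk (-1) 0 0 (-1) 1 * val g := by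
    have h1 : val (g * (j * j) * g⁻¹) * val g = val (g * (j * j)) := by
      rw [← val_mul, inv_mul_cancel_right]
    rw [hgz, val_mul g, hzv] at h1
    exact h1.symm
  obtain ⟨a, b, c, d, e, hG⟩ := exists_blk D.h2 hcz
  -- an element of order at least 8
  obtain ⟨c1, x, y, e1, hc1, hn1, h21⟩ := D.exists_neg_two
  have hy0 : y ≠ 0 := fun h0 => D.nsq c1 x y e1 hc1 (Or.inr h0) hn1
  have hx0 : x ≠ 0 := fun h0 => D.nsq c1 x y e1 hc1 (Or.inl h0) hn1
  have he1 : e1 = -1 := by linear_combination -knorm hc1 + e1 * hn1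
  have hc1P : c1 ∈ sGroup hs := Or.inl ⟨⟨x, y, e1, hc1⟩, h21⟩
  have hcomm : val (g * c1 * g⁻¹) * val g = val g * val c1 := by
    rw [← val_mul, inv_mul_cancel_right, val_mul]
  rcases hg c1 hc1P with ⟨⟨x', y', e', hy⟩, -⟩ | ⟨⟨x', y', e', hy⟩, h2y⟩
  swap
  · -- reflections have order at most 4
    exfalso
    have hn' : (x' * x' + y' * y') * (x' * x' + y' * y') = 1 := by
      rcases D.unit _ _ _ _ hy (two_knorm hy h2y) with h | h <;> rw [h] <;> ring
    have he' : e' = x' * x' + y' * y' := by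
      linear_combination (x' * x' + y' * y') * knorm hy - e' * hn'
    have h4 : g * c1 * g⁻¹ * (g * c1 * g⁻¹) * (g * c1 * g⁻¹ * (g * c1 * g⁻¹)) = 1 := val_inj (by
      rw [val_mul, refl_sq (refl_form hs hy), blk_mul, val_one, neg_mul_neg, he']
      simp [hn', blk_one])
    have h4' : g * c1 * g⁻¹ * (g * c1 * g⁻¹) * (g * c1 * g⁻¹ * (g * c1 * g⁻¹)) =
        g * (c1 * c1 * (c1 * c1)) * g⁻¹ := by group
    rw [h4', conj_eq_one_iff] at h4
    have h5 := congrArg val h4
    rw [val_mul, val_mul, hc1, kmul, kmul, val_one, ← blk_one] at h5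
    obtain ⟨h6, h7, -, -, -⟩ := blk_inj h5
    have h8 : x * x - y * y = 0 :=
      (mul_eq_zero.1 (show (4 * (x * y)) * (x * x - y * y) = 0 by linear_combination -h7)).resolve_left
        (mul_ne_zero (by simpa [show (4 : F) = 2 * 2 by norm_num] using D.h2) (mul_ne_zero hx0 hy0))
    have h9 : (2 : F) = 0 := by
      linear_combination -h6 - (x * x + y * y - 1) * hn1 +
        2 * (x * x - y * y) * h8
    exact D.h2 h9
  -- the conjugate is the same rotation or its inverse
  rw [hy, hG, hc1, blk_mul, blk_mul] at hcomm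
  obtain ⟨f1, f2, f3, f4, f5⟩ := blk_inj hcomm
  have hdet := det_val g hG
  have he0 : e ≠ 0 := right_ne_zero_of_mul_eq_one hdet
  have hd0 : a * d - b * c ≠ 0 := left_ne_zero_of_mul_eq_one hdet
  have hee : e' = e1 := mul_right_cancel₀ he0 (by linear_combination f5)
  have hxx : x' = x := by
    have h1 : (x' - x) * (2 * (a * d - b * c)) = 0 := by
      linear_combination d * f1 - c * f2 - b * f3 + a * f4
    exact sub_eq_zero.1 ((mul_eq_zero.1 h1).resolve_right (mul_ne_zero D.h2 hd0))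
  have hyy : y' * y' = y * y := by
    have := knorm hy
    rw [hee, he1, hxx] at this
    linear_combination -this - hn1
  rcases mul_self_eq_mul_self_iff.1 hyy with h | h <;> rw [hxx, h] at f1 f2
  · refine Or.inl ⟨a, c, e, hG.trans ?_⟩
    have hb : b = -c := mul_left_cancel₀ hy0 (by linear_combination -f1)
    have hd : d = a := mul_left_cancel₀ hy0 (by linear_combination -f2)
    rw [hb, hd]
  · refine Or.inr ⟨a, c, -e, ?_⟩
    have hb : b = c := mul_left_cancel₀ hy0 (by linear_combination -f1)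
    have hd : d = -a := mul_left_cancel₀ hy0 (by linear_combination f2)
    rw [val_mul, hG, hs, blk_mul, hb, hd]
    congr 1 <;> ring

theorem isSimple_semidihedral [Finite F] {G : Type*} [Group G] [Finite G] (D : SData H)
    (θ : H →* G) (hθ : Function.Surjective θ) {m : ℕ} (hm : m.Coprime 2)
    (hker : ∀ t, θ t = 1 → t ∈ Subgroup.center H ∧ t ^ m = 1) (S : Sylow 2 G) :
    (groupFusionSystem (S : Subgroup G)).IsSimple 2 := by
  obtain ⟨P3, hP3⟩ := D.cyc
  obtain ⟨j0, hj0⟩ := D.jj
  obtain ⟨s, hs⟩ : ∃ s : H, val s = blk 1 0 0 (-1) (-1) := by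
    refine ⟨P3 * (j0 * j0) * P3⁻¹, ?_⟩
    have hzv : val (j0 * j0) = blk (-1) 0 0 (-1) 1 := by rw [val_mul, hj0, blk_mul]; simp
    rw [val_mul, val_mul, hzv, hP3, cyc_conj, mul_assoc, ← hP3, ← val_mul, mul_inv_cancel, val_one,
      mul_one]
  obtain ⟨j, hjP, hj⟩ := D.jj_mem hs
  refine isSimple_of_central_quotient θ hθ hm hker (sGroup hs) (isPGroup_sGroup hs) ?_ ?_ ?_ ?_ S
  · intro hb
    rw [hb, Subgroup.mem_bot] at hjP
    rw [hjP, val_one, ← blk_one] at hj
    exact one_ne_zero (blk_inj hj).1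
  · intro g hg2 hg
    rcases D.normalizing hs hg with h | h
    · exact Or.inl ⟨h, hg2⟩
    · refine Or.inr ⟨h, ?_⟩
      have hr : IsC (g * s * g⁻¹ * s) := by
        rcases hg s (SData.self_mem hs) with ⟨⟨x, y, e, hc⟩, -⟩ | hr
        · exfalso
          -- the conjugate of `s` is not a rotation
          obtain ⟨x0, y0, e0, h0⟩ := h
          have hgv := refl_form hs h0
          have h1 : val (g * s * g⁻¹) * val g = val g * val s := by
            rw [← val_mul, inv_mul_cancel_right, val_mul]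
          rw [hc, hgv, hs, blk_mul, blk_mul] at h1
          obtain ⟨f1, f2, f3, f4, -⟩ := blk_inj h1
          have h5 : (x0 * x0 + y0 * y0) * x = 0 :=
            (mul_eq_zero.1 (show ((x0 * x0 + y0 * y0) * x) * 2 = 0 by
              linear_combination x0 * f1 + y0 * f2 + y0 * f3 - x0 * f4)).resolve_right D.h2
          have h6 : (x0 * x0 + y0 * y0) * y = 0 :=
            (mul_eq_zero.1 (show ((x0 * x0 + y0 * y0) * y) * 2 = 0 by
              linear_combination -y0 * f1 + x0 * f2 + x0 * f3 + y0 * f4)).resolve_right D.h2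
          have hn := left_ne_zero_of_mul_eq_one (knorm h0)
          have := knorm hc
          rw [(mul_eq_zero.1 h5).resolve_left hn, (mul_eq_zero.1 h6).resolve_left hn] at this
          simp at this
        · exact hr
      have hg22 : Two (g * g) := by
        obtain ⟨k, hk⟩ := hg2
        exact ⟨k, by rw [← pow_two, ← pow_mul, mul_comm, pow_mul, hk, one_pow]⟩
      have hc : Commute (g * s * g⁻¹ * s) (g * g) := by
        obtain ⟨x0, y0, e0, h0⟩ := h
        exact kcomm hr.1 ⟨_, _, _, refl_sq (refl_form hs h0)⟩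
      refine Two.of_sq ?_
      have he : g * s * g⁻¹ * s * (g * g) = (g * s) * (g * s) := by
        obtain ⟨x0, y0, e0, h0⟩ := h
        have hgs : g * s * (s * g) = g * g := by
          rw [mul_assoc g s, ← mul_assoc s s, sigma_sq hs, one_mul]
        have hc2 : (g * s) * (s * g) = (s * g) * (g * s) :=
          kcomm ⟨_, _, _, h0⟩ ⟨x0, -y0, e0, by
            have := sigma_conj hs h0
            rwa [show s * (g * s) * s = s * g * (s * s) by group, sigma_sq hs, mul_one] at this⟩
        rw [← hgs, hc2]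
        calc g * s * g⁻¹ * s * (s * g * (g * s)) = g * s * g⁻¹ * (s * s) * g * (g * s) := by group
          _ = g * s * (g * s) := by rw [sigma_sq hs]; group
      exact he ▸ Two.mul hc hr.2 hg22
  · intro T hTP hT hTc
    have conj : ∀ (g : H) (x y : H), x ∈ T → y ∈ sGroup hs → val g * val x = val y * val g → y ∈ T := by
      intro g x y hx hy h
      have h1 := hTc g x hx (by rw [conj_eq h]; exact hy)
      rwa [conj_eq h] at h1
    obtain ⟨y, hyT, hy1, hyy, hyc⟩ := exists_central_involution (isPGroup_sGroup hs) hTP hT hTc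
    have hyv := D.centre_involution hs (hTP hyT) hy1 hyy hyc
    have hsT : s ∈ T := conj P3 y s hyT (SData.self_mem hs) (by rw [hP3, hyv, hs, cyc_conj])
    have href1 : ∀ u ∈ sGroup hs, ∀ a b : F, val u = blk a b b (-a) (-1) → a * a + b * b = 1 →
        u ∈ T := by
      intro u hu a b huv hn
      by_cases ha : a = -1
      · have hb : b = 0 := mul_self_eq_zero.1 (by rw [ha] at hn; linear_combination hn)
        have : u = y * s := val_inj (by
          rw [val_mul, huv, hyv, hs, blk_mul, ha, hb]; simp)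
        exact this ▸ T.mul_mem hyT hsT
      · obtain ⟨k, hk⟩ := D.conj1 u a b huv hn ha
        exact conj k s u hsT hu (by rw [hk, hs])
    have hrot1 : ∀ u : H, IsC u → ∀ a b e : F, val u = blk a (-b) b a e → a * a + b * b = 1 →
        u ∈ T := by
      intro u hu a b e huv hn
      have he : e = 1 := by linear_combination knorm huv - e * hn
      have hv : val (u * s) = blk a b b (-a) (-1) := by
        rw [val_mul, huv, hs, blk_mul, he]; congr 1 <;> ring
      have h1 := T.mul_mem (href1 (u * s) ((sGroup hs).mul_mem (Or.inl hu) (SData.self_mem hs)) a b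
        hv hn) hsT
      rwa [mul_assoc, sigma_sq hs, mul_one] at h1
    have hjC : IsC j := ⟨⟨0, 1, 1, hj⟩, 2, val_inj (by
      rw [val_pow, hj, show (2 : ℕ) ^ 2 = 2 * 2 from rfl, pow_mul, pow_two, pow_two, blk_mul,
        blk_mul, val_one]
      simp [blk_one])⟩
    have hjT : j ∈ T := hrot1 j hjC 0 1 1 hj (by ring)
    intro u hu
    have key : ∀ v : H, IsC v → v ∈ T := by
      intro v hv
      obtain ⟨a, b, e, hvv⟩ := hv.1
      rcases D.unit v a b e hvv (two_knorm hvv hv.2) with hn | hn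
      · exact hrot1 v hv a b e hvv hn
      · have he : e = -1 := by linear_combination -knorm hvv + e * hn
        have hv' : val (v * s) = blk a b b (-a) 1 := by
          rw [val_mul, hvv, hs, blk_mul, he]; congr 1 <;> ring
        obtain ⟨k, hk⟩ := D.conj2 _ a b hv' hn
        have h1 := T.mul_mem (conj k j (v * s) hjT
          ((sGroup hs).mul_mem (Or.inl hv) (SData.self_mem hs)) (by rw [hk, hj])) hsT
        rwa [mul_assoc, sigma_sq hs, mul_one] at h1
    rcases hu with hu | hu
    · exact key u hu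
    · have h1 := T.mul_mem (key _ hu) hsT
      rwa [mul_assoc, sigma_sq hs, mul_one] at h1
  · intro g hg
    rcases D.normalizing hs hg with h | h
    · -- `g / (s g s)` has 2-power order
      have hsgs : ∃ x y e, val (s * g * s) = blk x (-y) y x e := by
        obtain ⟨x, y, e, h0⟩ := h
        exact ⟨x, -y, e, sigma_conj hs h0⟩
      have hs' : s⁻¹ = s := inv_eq_of_mul_eq_one_left (sigma_sq hs)
      obtain ⟨k, hk⟩ : Two (g * s * g⁻¹ * s) := by
        obtain ⟨k, hk⟩ : ∃ k : ℕ, (g * s * g⁻¹ * s) ^ 2 ^ k = 1 := by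
          obtain ⟨k, hk⟩ := isPGroup_sGroup hs ⟨_,
            (sGroup hs).mul_mem (hg s (SData.self_mem hs)) (SData.self_mem hs)⟩
          exact ⟨k, by simpa using congrArg Subtype.val hk⟩
        exact ⟨k, hk⟩
      refine ⟨k, fun u hu => ?_⟩
      have hgs : g * s * g⁻¹ * s = g * (s * g * s)⁻¹ := by
        rw [_root_.mul_inv_rev, _root_.mul_inv_rev, hs']; group
      have hpow : g ^ 2 ^ k = s * g ^ 2 ^ k * s := by
        have hc : Commute g (s * g * s)⁻¹ := (show Commute g (s * g * s) from kcomm h hsgs).inv_right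
        rw [hgs, hc.mul_pow, inv_pow, mul_inv_eq_one] at hk
        refine hk.trans ?_
        calc (s * g * s) ^ 2 ^ k = (s * g * s⁻¹) ^ 2 ^ k := by rw [hs']
          _ = s * g ^ 2 ^ k * s := by rw [conj_pow, hs']
      have hss : g ^ 2 ^ k * s = s * g ^ 2 ^ k := by
        conv_lhs => rw [hpow, mul_assoc, sigma_sq hs, mul_one]
      rcases hu with hu | hu
      · exact kcomm (kform_pow h _) hu.1
      · have h1 := kcomm (kform_pow h (2 ^ k)) hu.1
        have h2 : u = u * s * s := by rw [mul_assoc, sigma_sq hs, mul_one]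
        rw [h2, ← mul_assoc, h1, mul_assoc (u * s), hss, ← mul_assoc]
    · refine ⟨1, fun u hu => val_inj ?_⟩
      obtain ⟨x, y, e, h0⟩ := h
      rw [pow_one, pow_two, val_mul _ u, val_mul u, refl_sq (refl_form hs h0)]
      rcases hu with ⟨⟨a, b, e', hu⟩, -⟩ | ⟨⟨a, b, e', hu⟩, -⟩
      · rw [hu, blk_mul, blk_mul]; simp [mul_comm]
      · rw [refl_form hs hu, blk_mul, blk_mul]; simp [mul_comm]

end Cfsg.Agent.Fus.ThreeTwo
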