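import Cfsg.Agent.Lib.Fus.AltModel
import Cfsg.Agent.Lib.Fus.SimpleGen
import Cfsg.Agent.Lib.Fus.ThreeTwo
import Cfsg.Agent.Lib.Perm.SylowTwo

/-!
The `p`-fusion system of `A_n` is simple for `n ≥ 6`, `p² ≤ n`, `n ≡ 0, 1` modulo `p`.
-/

set_option autoImplicit false
set_option linter.unusedSectionVars false
set_option linter.style.haveILetI false

namespace Cfsg.Agent.Fus.Alt

open Equiv Equiv.Perm
open scoped Classical

variable {p k r : ℕ} [hp : Fact p.Prime] {β : Type*} [Fintype β] [DecidableEq β]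
variable (e : (Fin k × ZMod p) ⊕ Fin r ≃ β)

/-! ### Centralizers and conjugacy -/

theorem sign_tr (h2 : p ≠ 2) (b : Fin k → ZMod p) : sign (tr e b) = 1 :=
  sign_eq_one_of_pow_prime h2 (tr_pow_prime e b)

theorem exists_even_vector (hk : 3 ≤ k) (i : Fin k) :
    ∃ v : Fin k → ZMod p, sign (tr e v) = 1 ∧ v i = 1 := by
  by_cases h2 : p = 2
  · obtain ⟨j, hj⟩ := Fintype.exists_ne_of_one_lt_card (by simp; omega) i
    refine ⟨Pi.single i 1 + Pi.single j 1, ?_, by simp [hj.symm]⟩
    rw [tr_add, map_mul, sign_tr_single e h2, sign_tr_single e h2]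
    rfl
  · exact ⟨Pi.single i 1, sign_tr e h2 _, by simp⟩

/-- The centralizer of the even translations consists of translations. -/
theorem eq_tr_of_commute (hr : r ≤ 1) (hk : 3 ≤ k) {g : Perm β}
    (hg : ∀ v, sign (tr e v) = 1 → g * tr e v = tr e v * g) :
    ∃ c, g = tr e c := by
  have hmove : ∀ (v : Fin k → ZMod p), sign (tr e v) = 1 → ∀ i x,
      g (pt e i (x + v i)) = tr e v (g (pt e i x)) := fun v hv i x => by
    rw [← tr_pt e v i x, ← Perm.mul_apply, hg v hv, Perm.mul_apply]
  have hsupp : ∀ (v : Fin k → ZMod p), sign (tr e v) = 1 → ∀ i x, v i ≠ 0 →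
      ∃ j y, v j ≠ 0 ∧ g (pt e i x) = pt e j y := by
    intro v hv i x hvi
    have hne : tr e v (g (pt e i x)) ≠ g (pt e i x) := by
      rw [← hmove v hv]
      exact fun h => hvi (by simpa [pt_inj] using g.injective h)
    rcases cases e (g (pt e i x)) with ⟨j, y, h⟩ | ⟨j, h⟩
    · refine ⟨j, y, fun h0 => hne ?_, h⟩
      rw [h, tr_pt, h0, add_zero]
    · exact absurd (by rw [h, tr_rest]) hne
  have hblock : ∀ i x, ∃ y, g (pt e i x) = pt e i y := by
    intro i x
    by_cases h2 : p = 2
    · obtain ⟨j, hj⟩ := Fintype.exists_ne_of_one_lt_card (by simp; omega) i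
      obtain ⟨l, hl⟩ : ∃ l, l ∉ ({i, j} : Finset (Fin k)) := by
        by_contra hc
        push Not at hc
        have h1 := Finset.card_le_card (fun x _ => hc x : (Finset.univ : Finset (Fin k)) ⊆ {i, j})
        rw [Finset.card_univ, Fintype.card_fin] at h1
        exact absurd (h1.trans Finset.card_le_two) (by omega)
      simp only [Finset.mem_insert, Finset.mem_singleton, not_or] at hl
      have hs : ∀ l : Fin k, sign (tr e (Pi.single i 1 + Pi.single l 1)) = 1 := fun l => by
        rw [tr_add, map_mul, sign_tr_single e h2, sign_tr_single e h2]; rfl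
      obtain ⟨a, y, ha, hay⟩ := hsupp _ (hs j) i x (by simp [hj.symm])
      obtain ⟨b, y', hb, hby⟩ := hsupp _ (hs l) i x (by simp [Ne.symm hl.1])
      obtain ⟨rfl, rfl⟩ := (pt_inj e).1 (hay.symm.trans hby)
      refine ⟨y, ?_⟩
      rcases eq_or_ne a i with rfl | hai
      · exact hay
      · exfalso
        rw [Pi.add_apply, Pi.single_eq_of_ne hai, zero_add] at ha hb
        have e1 : a = j := by_contra fun h => ha (Pi.single_eq_of_ne h 1)
        have e2 : a = l := by_contra fun h => hb (Pi.single_eq_of_ne h 1)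
        exact hl.2 (e2.symm.trans e1)
    · obtain ⟨j, y, hj, h⟩ := hsupp (Pi.single i 1) (sign_tr e h2 _) i x (by simp)
      obtain rfl : j = i := by_contra fun h => hj (Pi.single_eq_of_ne h 1)
      exact ⟨y, h⟩
  choose c hc using fun i => hblock i 0
  have hall : ∀ i x, g (pt e i x) = pt e i (x + c i) := by
    intro i x
    obtain ⟨v, hv, hvi⟩ := exists_even_vector (p := p) e hk i
    have hn : ∀ n : ℕ, g (pt e i (n : ZMod p)) = pt e i ((n : ZMod p) + c i) := by
      intro n
      induction n with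
      | zero => simpa using hc i
      | succ n ih =>
        have := hmove v hv i (n : ZMod p)
        rw [hvi, ih, tr_pt, hvi] at this
        push_cast
        rw [this]
        congr 1
        ring
    simpa using hn x.val
  refine ⟨c, perm_ext e (fun i x => by rw [hall, tr_pt]) fun j => ?_⟩
  rw [tr_rest]
  rcases cases e (g (rest e j)) with ⟨i, x, h⟩ | ⟨j', h⟩
  · exfalso
    have h1 := hall i (x - c i)
    rw [sub_add_cancel, ← h] at h1
    exact pt_ne_rest e (g.injective h1)
  · rw [h]
    haveI : Subsingleton (Fin r) := Fin.subsingleton_iff_le_one.2 hr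
    rw [Subsingleton.elim j' j]

/-- A standard vector with given number of moved blocks. -/
theorem exists_std (e : (Fin k × ZMod p) ⊕ Fin r ≃ β) {x : Perm β} (hx : x ^ p = 1) (hr : r < p) :
    ∃ s : Finset (Fin k), (tr e fun i => if i ∈ s then (1 : ZMod p) else 0).support.card = x.support.card := by
  have h1 := x.sum_cycleType
  rw [cycleType_of_pow_prime_eq_one hx, Multiset.sum_replicate, smul_eq_mul] at h1
  have h2 : x.support.card ≤ p * k + r := by
    rw [← card_beta e, Nat.card_eq_fintype_card]; exact Finset.card_le_univ _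
  have hm : Multiset.card x.cycleType ≤ (Finset.univ : Finset (Fin k)).card := by
    rw [Finset.card_univ, Fintype.card_fin]
    by_contra hlt
    have : (k + 1) * p ≤ Multiset.card x.cycleType * p := Nat.mul_le_mul_right p (by omega)
    rw [h1, add_mul, one_mul, mul_comm] at this
    omega
  obtain ⟨s, -, hs⟩ := Finset.exists_subset_card_eq hm
  refine ⟨s, ?_⟩
  rw [card_support_tr, show (Finset.univ.filter fun i => (if i ∈ s then (1 : ZMod p) else 0) ≠ 0) = s by
    ext i; simp, hs, mul_comm, h1]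

/-- Elements of order `p` moving as many points are conjugate by an even permutation. -/
theorem exists_even_conj (e : (Fin k × ZMod p) ⊕ Fin r ≃ β) (hr : r < p) (hk : 3 ≤ k) {x y : Perm β}
    (hx : x ^ p = 1) (hy : y ^ p = 1) (h : x.support.card = y.support.card) :
    ∃ g : Perm β, sign g = 1 ∧ g * x * g⁻¹ = y := by
  obtain ⟨g, hg⟩ := _root_.isConj_iff.1 (isConj_of_card_support hx hy h)
  obtain ⟨s, hs⟩ := exists_std e hx hr
  obtain ⟨v, hv⟩ : ∃ v, v = fun i => if i ∈ s then (1 : ZMod p) else 0 := ⟨_, rfl⟩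
  rw [← hv] at hs
  obtain ⟨q, hq⟩ := _root_.isConj_iff.1 (isConj_of_card_support (tr_pow_prime e v) hx hs)
  obtain ⟨o, ho, hoc⟩ : ∃ o : Perm β, sign o = -1 ∧ o * tr e v * o⁻¹ = tr e v := by
    by_cases h2 : p = 2
    · refine ⟨tr e (Pi.single ⟨0, by omega⟩ 1), sign_tr_single e h2 _, ?_⟩
      rw [← tr_add, add_comm, tr_add, mul_inv_cancel_right]
    · obtain ⟨i, j, hij, hvij⟩ : ∃ i j : Fin k, i ≠ j ∧ (i ∈ s ↔ j ∈ s) := by
        obtain ⟨a, ha⟩ : ∃ a : Fin 3 → Fin k, Function.Injective a :=
          ⟨Fin.castLE hk, Fin.castLE_injective hk⟩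
        obtain ⟨i, j, hij, he⟩ := Fintype.exists_ne_map_eq_of_card_lt (fun m : Fin 3 => decide (a m ∈ s))
          (by simp)
        exact ⟨a i, a j, fun h => hij (ha h), by simpa using he⟩
      refine ⟨lift e (swap i j), by rw [sign_lift_odd e h2, sign_swap hij], ?_⟩
      rw [lift_tr, mul_inv_cancel_right]
      congr 1
      funext l
      rw [hv, Function.comp, symm_swap]
      rcases eq_or_ne l i with rfl | hli
      · rw [swap_apply_left]; simp [hvij]
      · rcases eq_or_ne l j with rfl | hlj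
        · rw [swap_apply_right]; simp [hvij]
        · rw [swap_apply_of_ne_of_ne hli hlj]
  rcases Int.units_eq_one_or (sign g) with hs1 | hs1
  · exact ⟨g, hs1, hg⟩
  · refine ⟨g * (q * o * q⁻¹), ?_, ?_⟩
    · rw [map_mul, map_mul, map_mul, map_inv, hs1, ho]
      rcases Int.units_eq_one_or (sign q) with h' | h' <;> rw [h'] <;> rfl
    · conv_rhs => rw [← hg, ← hq, ← hoc]
      rw [← hq]
      group

/-! ### The model subgroup of the alternating group -/

local notation "A" => alternatingGroup β

variable (Pi0 : Subgroup (Perm (Fin k)))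

/-- The even translations. -/
def evenTr : Subgroup A := (trHom e).range.subgroupOf A

/-- The Sylow subgroup. -/
def smallS : Subgroup A := (big e Pi0).subgroupOf A

theorem mem_evenTr {x : A} : x ∈ evenTr e ↔ ∃ b, tr e b = (x : Perm β) :=
  ⟨fun ⟨b, hb⟩ => ⟨b.toAdd, hb⟩, fun ⟨b, hb⟩ => ⟨Multiplicative.ofAdd b, hb⟩⟩

theorem evenTr_le : evenTr e ≤ smallS e Pi0 := fun x hx => by
  obtain ⟨b, hb⟩ := (mem_evenTr e).1 hx
  show (x : Perm β) ∈ big e Pi0
  exact hb ▸ tr_mem e Pi0 b

theorem evenTr_centralizer (hr : r ≤ 1) (hk : 3 ≤ k) :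
    Subgroup.centralizer (evenTr e : Set A) ≤ evenTr e := by
  intro g hg
  obtain ⟨c, hc⟩ := eq_tr_of_commute e hr hk (g := (g : Perm β)) fun v hv => by
    have := Subgroup.mem_centralizer_iff.1 hg ⟨tr e v, mem_alternatingGroup.2 hv⟩
      ((mem_evenTr e).2 ⟨v, rfl⟩)
    exact (congrArg Subtype.val this).symm
  exact (mem_evenTr e).2 ⟨c, hc.symm⟩

theorem evenTr_normal_in_small {x : A} (hx : x ∈ smallS e Pi0) {y : A} (hy : y ∈ evenTr e) :
    x * y * x⁻¹ ∈ evenTr e := by
  obtain ⟨b, hb⟩ := (mem_evenTr e).1 hy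
  obtain ⟨c, π, -, hxe⟩ := (hx : (x : Perm β) ∈ big e Pi0)
  change (x : Perm β) = _ at hxe
  refine (mem_evenTr e).2 ⟨b ∘ π.symm, ?_⟩
  show _ = (x : Perm β) * (y : Perm β) * (x : Perm β)⁻¹
  rw [hxe, ← hb, mul_assoc (tr e c), lift_tr, ← mul_assoc, ← tr_add, add_comm, tr_add]
  group

/-- The model subgroup is Sylow in the alternating group. -/
theorem exists_sylow_small {P : Sylow p (Perm β)} (hP : (P : Subgroup (Perm β)) = big e Pi0) :
    ∃ Q : Sylow p A, (Q : Subgroup A) = smallS e Pi0 := by
  have hp' : IsPGroup p (smallS e Pi0) := by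
    intro x
    obtain ⟨m, hm⟩ := P.2 ⟨((x : A) : Perm β), hP ▸ x.2⟩
    exact ⟨m, Subtype.ext (Subtype.ext (by simpa using congrArg Subtype.val hm))⟩
  refine ⟨⟨smallS e Pi0, hp', fun {Q} hQ hle => ?_⟩, rfl⟩
  obtain ⟨P', hP'⟩ := (hQ.map (A).subtype).exists_le_sylow
  obtain ⟨g, hg⟩ := MulAction.exists_smul_eq (Perm β) P P'
  refine (Subgroup.eq_of_le_of_card_ge hle ?_).symm
  have h1 : ∀ y ∈ Q, g⁻¹ * (y : Perm β) * g ∈ big e Pi0 := by
    intro y hy
    have h2 : (y : Perm β) ∈ (P' : Subgroup (Perm β)) := hP' ⟨y, hy, rfl⟩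
    rw [← hg, Sylow.coe_subgroup_smul, Subgroup.mem_pointwise_smul_iff_inv_smul_mem, hP] at h2
    simpa [MulAut.smul_def] using h2
  refine Nat.card_le_card_of_injective (fun y : Q =>
    (⟨⟨g⁻¹ * ((y : A) : Perm β) * g, mem_alternatingGroup.2 (by
      rw [map_mul, map_mul, map_inv, mem_alternatingGroup.1 (y : A).2, mul_one, inv_mul_cancel])⟩,
      h1 _ y.2⟩ : smallS e Pi0)) fun y y' h => ?_
  have := congrArg (fun z : smallS e Pi0 => ((z : A) : Perm β)) h
  exact Subtype.ext (Subtype.ext (mul_left_cancel (mul_right_cancel this)))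

theorem smallS_le_closure (hk : 0 < k) (P : Sylow p (Perm (Fin k))) :
    smallS e (P : Subgroup (Perm (Fin k))) ≤
      Subgroup.closure {y | y ∈ smallS e (P : Subgroup (Perm (Fin k))) ∧ y ^ p = 1} := by
  rintro ⟨x, hxA⟩ ⟨b, π, hπ, hx⟩
  change x = tr e b * lift e π at hx
  have hgens : ∀ π ∈ Subgroup.closure {y : Perm (Fin k) | y ∈ P ∧ y ^ p = 1},
      lift e π ∈ (Subgroup.closure
        {y | y ∈ smallS e (P : Subgroup (Perm (Fin k))) ∧ y ^ p = 1}).map (A).subtype := by
    refine (Subgroup.closure_le (((Subgroup.closure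
      {y | y ∈ smallS e (P : Subgroup (Perm (Fin k))) ∧ y ^ p = 1}).map (A).subtype).comap (lift e))).2 ?_
    rintro σ ⟨hσ, hσp⟩
    have hs : sign (lift e σ) = 1 := by
      by_cases h2 : p = 2
      · exact sign_lift_two e h2 σ
      · exact sign_eq_one_of_pow_prime h2 (by rw [← map_pow, hσp, map_one])
    exact ⟨⟨_, mem_alternatingGroup.2 hs⟩, Subgroup.subset_closure
      ⟨lift_mem e _ hσ, Subtype.ext (by rw [SubgroupClass.coe_pow, ← map_pow, hσp, map_one]; rfl)⟩, rfl⟩
  obtain ⟨y, hy, hye⟩ := hgens π (sylow_le_closure k P hπ)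
  have hb : sign (tr e b) = 1 := by
    have h1 : sign x = 1 := mem_alternatingGroup.1 hxA
    rw [hx, map_mul, ← hye] at h1
    rwa [show sign ((A).subtype y) = 1 from mem_alternatingGroup.1 y.2, mul_one] at h1
  rw [show (⟨x, hxA⟩ : A) = ⟨tr e b, mem_alternatingGroup.2 hb⟩ * y from Subtype.ext (by
    show x = tr e b * (y : Perm β)
    rw [hx, ← hye]; rfl)]
  exact Subgroup.mul_mem _ (Subgroup.subset_closure ⟨tr_mem e _ b, Subtype.ext (tr_pow_prime e b)⟩) hy

/-! ### The strongly closed subgroups -/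

variable (ι : ZMod p ↪ Fin k)

/-- The shift of the first `p` blocks. -/
noncomputable def shiftPerm : Perm (Fin k) := Perm.viaEmbeddingHom ι (Equiv.addRight 1)

/-- The shift of the first `p` blocks, on points. -/
noncomputable def sh : Perm β := lift e (shiftPerm ι)

/-- Extension by zero of a vector on the first blocks. -/
noncomputable def extv (f : ZMod p → ZMod p) : Fin k → ZMod p := Function.extend ι f (0 : Fin k → ZMod p)

theorem extv_range (f : ZMod p → ZMod p) (y : ZMod p) : extv ι f (ι y) = f y :=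
  ι.injective.extend_apply f _ y

theorem extv_out (f : ZMod p → ZMod p) {i : Fin k} (hi : i ∉ Set.range ι) : extv ι f i = 0 :=
  Function.extend_apply' f _ i hi

theorem shiftPerm_range (y : ZMod p) : shiftPerm ι (ι y) = ι (y + 1) :=
  Perm.viaEmbedding_apply _ ι y

theorem shiftPerm_out {i : Fin k} (hi : i ∉ Set.range ι) : shiftPerm ι i = i :=
  Perm.viaEmbedding_apply_of_notMem _ ι i hi

theorem shiftPerm_pow : shiftPerm ι ^ p = 1 := by
  rw [shiftPerm, ← map_pow]
  convert map_one (Perm.viaEmbeddingHom ι)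
  have hn : ∀ n : ℕ, (Equiv.addRight (1 : ZMod p)) ^ n = Equiv.addRight (n : ZMod p) := by
    intro n
    induction n with
    | zero => exact Equiv.ext fun y => by simp
    | succ n ih =>
      refine Equiv.ext fun y => ?_
      rw [pow_succ', Perm.mul_apply, ih]
      simp [add_assoc]
  rw [hn]
  exact Equiv.ext fun y => by simp

theorem closed_eq_top (hr : r ≤ 1) (hk : 3 ≤ k) (hpk : p ≤ k) (P : Sylow p (Perm (Fin k)))
    (hρ : shiftPerm ι ∈ P) {T : Subgroup A}
    (hTS : T ≤ smallS e (P : Subgroup (Perm (Fin k)))) (hT : T ≠ ⊥)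
    (hTn : smallS e (P : Subgroup (Perm (Fin k))) ≤ Subgroup.normalizer (T : Set A))
    (hTc : ∀ g : A, ∀ x ∈ T, g * x * g⁻¹ ∈ smallS e (P : Subgroup (Perm (Fin k))) →
      g * x * g⁻¹ ∈ T) :
    smallS e (P : Subgroup (Perm (Fin k))) ≤ T := by
  have hrp : r < p := lt_of_le_of_lt hr hp.out.one_lt
  -- the class lemma
  have hclass : ∀ (x : A) (y : Perm β), x ∈ T → ((x : Perm β)) ^ p = 1 → y ^ p = 1 →
      y ∈ big e (P : Subgroup (Perm (Fin k))) → (x : Perm β).support.card = y.support.card →
      ∃ hy : y ∈ A, (⟨y, hy⟩ : A) ∈ T := by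
    intro x y hx hxp hyp hyS hc
    obtain ⟨g, hg1, hg⟩ := exists_even_conj e hrp hk hxp hyp hc
    obtain ⟨z, hz⟩ : ∃ z : A, z = (⟨g, mem_alternatingGroup.2 hg1⟩ : A) * x *
      (⟨g, mem_alternatingGroup.2 hg1⟩ : A)⁻¹ := ⟨_, rfl⟩
    have hzy : (z : Perm β) = y := by rw [hz]; exact hg
    refine ⟨hzy ▸ z.2, ?_⟩
    rw [show (⟨y, _⟩ : A) = z from Subtype.ext hzy.symm, hz]
    exact hTc _ x hx (by rw [← hz]; show (z : Perm β) ∈ big e _; rw [hzy]; exact hyS)
  have hclassv : ∀ (x : A) (v : Fin k → ZMod p), x ∈ T → ((x : Perm β)) ^ p = 1 →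
      (x : Perm β).support.card = (tr e v).support.card → ∃ hy : tr e v ∈ A, (⟨_, hy⟩ : A) ∈ T :=
    fun x v hx hxp hc => hclass x _ hx hxp (tr_pow_prime e v) (tr_mem e _ v) hc
  -- a nontrivial translation in `T`
  obtain ⟨v, hv0, hvA, hvT⟩ : ∃ v ≠ 0, ∃ h : tr e v ∈ A, (⟨_, h⟩ : A) ∈ T := by
    by_contra hcon
    have hinf : ∀ x ∈ T, x ∈ evenTr e → x = 1 := by
      intro x hx hxE
      obtain ⟨b, hb⟩ := (mem_evenTr e).1 hxE
      by_contra hx1
      refine hcon ⟨b, fun h0 => hx1 (Subtype.ext ?_), hb ▸ x.2, ?_⟩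
      · rw [← hb, h0, tr_zero]; rfl
      · rwa [show (⟨tr e b, _⟩ : A) = x from Subtype.ext hb]
    refine hT ((Subgroup.eq_bot_iff_forall _).2 fun x hx => hinf x hx (evenTr_centralizer e hr hk ?_))
    refine Subgroup.mem_centralizer_iff.2 fun y hy => ?_
    have h1 : x * y * x⁻¹ * y⁻¹ ∈ evenTr e :=
      Subgroup.mul_mem _ (evenTr_normal_in_small e _ (hTS hx) hy) (Subgroup.inv_mem _ hy)
    have h2 : x * y * x⁻¹ * y⁻¹ ∈ T := by
      have := T.mul_mem hx ((Subgroup.mem_normalizer_iff.1 (hTn (evenTr_le e _ hy)) x⁻¹).1 (T.inv_mem hx))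
      simpa [mul_assoc] using this
    have h3 := hinf _ h2 h1
    rw [mul_inv_eq_one, mul_inv_eq_iff_eq_mul] at h3
    exact h3.symm
  -- all single or double translations
  have hsum : ∀ (v w : Fin k → ZMod p), (∃ h : tr e v ∈ A, (⟨_, h⟩ : A) ∈ T) →
      (∃ h : tr e w ∈ A, (⟨_, h⟩ : A) ∈ T) → ∃ h : tr e (v + w) ∈ A, (⟨_, h⟩ : A) ∈ T := by
    rintro v w ⟨hv, hvT⟩ ⟨hw, hwT⟩
    refine ⟨by rw [tr_add]; exact mul_mem hv hw, ?_⟩
    rw [show (⟨tr e (v + w), _⟩ : A) = ⟨_, hv⟩ * ⟨_, hw⟩ from Subtype.ext (tr_add e v w)]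
    exact T.mul_mem hvT hwT
  obtain ⟨i0, hi0⟩ : ∃ i, v i ≠ 0 := Function.ne_iff.1 hv0
  have hE : ∀ b : Fin k → ZMod p, sign (tr e b) = 1 → ∃ h : tr e b ∈ A, (⟨_, h⟩ : A) ∈ T := by
    by_cases h2 : p = 2
    · subst h2
      -- weight two
      have hw2 : ∃ i j : Fin k, i ≠ j ∧
          ∃ h : tr e (Pi.single i 1 + Pi.single j 1 : Fin k → ZMod 2) ∈ A, (⟨_, h⟩ : A) ∈ T := by
        by_cases hall : ∀ i, v i ≠ 0
        · -- move the all-ones vector to a twisted one
          have hv1 : ∀ i, v i = 1 := fun i => (zmod_two_cases (v i)).resolve_left (hall i)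
          obtain ⟨b, hb⟩ : ∃ b : Fin k → ZMod 2, b = fun i => if i ∈ Set.range ι then 0 else 1 :=
            ⟨_, rfl⟩
          obtain ⟨y, hy⟩ : ∃ y, y = tr e b * sh e ι := ⟨_, rfl⟩
          have hρb : b ∘ (shiftPerm ι).symm = b := by
            funext i
            obtain ⟨j, rfl⟩ := (shiftPerm ι).surjective i
            rw [Function.comp, symm_apply_apply, hb]
            by_cases hj : j ∈ Set.range ι
            · obtain ⟨z, rfl⟩ := hj
              simp [shiftPerm_range]
            · rw [shiftPerm_out ι hj]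
          have hy2 : y ^ 2 = 1 := by
            rw [hy, pow_two, mul_assoc, ← mul_assoc (sh e ι), sh, lift_tr, hρb, mul_assoc, ← map_mul,
              ← pow_two (shiftPerm ι), shiftPerm_pow, map_one, mul_one, ← pow_two, tr_pow_prime]
          have hyS : y ∈ big e (P : Subgroup (Perm (Fin k))) := ⟨b, _, hρ, hy⟩
          have hyval : ∀ i x, y (pt e i x) ≠ pt e i x := by
            intro i x
            rw [hy, Perm.mul_apply, sh, lift_pt, tr_pt, Ne, pt_inj]
            rintro ⟨h1, h3⟩
            rw [h1, hb] at h3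
            by_cases hi : i ∈ Set.range ι
            · obtain ⟨z, rfl⟩ := hi
              rw [shiftPerm_range] at h1
              simpa using ι.injective h1
            · simp [hi] at h3
          have hsupp : y.support = (tr e v).support := by
            ext z
            rw [Perm.mem_support, Perm.mem_support]
            rcases cases e z with ⟨i, x, rfl⟩ | ⟨j, rfl⟩
            · simp [hyval, tr_pt, pt_inj, hv1]
            · rw [hy, Perm.mul_apply, sh, lift_rest, tr_rest, tr_rest]
          obtain ⟨hyA, hyT⟩ := hclass ⟨_, hvA⟩ y hvT (tr_pow_prime e v) hy2 hyS (by rw [hsupp])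
          obtain ⟨z, hz⟩ : ∃ z : A, z = ⟨y, hyA⟩ * ⟨_, hvA⟩ := ⟨_, rfl⟩
          have hzT : z ∈ T := hz ▸ T.mul_mem hyT hvT
          have hzv : (z : Perm β) = y * tr e v := by rw [hz]; rfl
          have hcomm : y * tr e v = tr e v * y := by
            rw [hy, mul_assoc, sh, lift_tr, show v ∘ (shiftPerm ι).symm = v from
              funext fun i => by simp [hv1], ← mul_assoc, ← mul_assoc, ← tr_add, ← tr_add, add_comm]
          have hz2 : (z : Perm β) ^ 2 = 1 := by
            rw [hzv, (show Commute y (tr e v) from hcomm).mul_pow, hy2, tr_pow_prime, one_mul]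
          obtain ⟨i, hi⟩ : ∃ i, i = ι 0 := ⟨_, rfl⟩
          obtain ⟨j, hj⟩ : ∃ j, j = ι 1 := ⟨_, rfl⟩
          have hij : i ≠ j := by rw [hi, hj]; exact fun h => zero_ne_one (ι.injective h)
          refine ⟨i, j, hij, hclassv z _ hzT hz2 ?_⟩
          congr 1
          ext w
          rw [Perm.mem_support, Perm.mem_support, hzv]
          rcases cases e w with ⟨l, x, rfl⟩ | ⟨l, rfl⟩
          · rw [Perm.mul_apply, tr_pt, tr_pt, hy, Perm.mul_apply, sh, lift_pt, tr_pt, Ne, Ne, pt_inj,
              pt_inj, hv1]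
            by_cases hl : l ∈ Set.range ι
            · obtain ⟨z', rfl⟩ := hl
              refine iff_of_true (fun h => ?_) (fun h => ?_)
              · rw [shiftPerm_range] at h
                simpa using ι.injective h.1
              · have h3 := h.2
                rcases zmod_two_cases z' with rfl | rfl
                · rw [← hi, Pi.add_apply, Pi.single_eq_same, Pi.single_eq_of_ne hij] at h3
                  simp at h3
                · rw [← hj, Pi.add_apply, Pi.single_eq_same, Pi.single_eq_of_ne hij.symm] at h3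
                  simp at h3
            · have hli : l ≠ i := fun h => hl ⟨0, hi ▸ h.symm⟩
              have hlj : l ≠ j := fun h => hl ⟨1, hj ▸ h.symm⟩
              refine iff_of_false (fun h => h ⟨shiftPerm_out ι hl, ?_⟩) (fun h => h ⟨rfl, ?_⟩)
              · rw [shiftPerm_out ι hl, hb]
                simp only [hl, if_false]
                rw [add_assoc, show (1 : ZMod 2) + 1 = 0 from rfl, add_zero]
              · simp [hli, hlj]
          · simp [Perm.mul_apply, tr_rest, hy, sh, lift_rest]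
        · -- swap a moved block with an unmoved one
          push Not at hall
          obtain ⟨j0, hj0⟩ := hall
          have hne : i0 ≠ j0 := fun h => hi0 (h ▸ hj0)
          have hv1 : v i0 = 1 := (zmod_two_cases (v i0)).resolve_left hi0
          obtain ⟨hwA, hwT⟩ := hclassv ⟨_, hvA⟩ (v ∘ (swap i0 j0).symm) hvT (tr_pow_prime e v) (by
            show (tr e v).support.card = _
            rw [show tr e (v ∘ (swap i0 j0).symm) = lift e (swap i0 j0) * tr e v * (lift e (swap i0 j0))⁻¹ by
              rw [lift_tr, mul_inv_cancel_right], Perm.card_support_conj])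
          refine ⟨i0, j0, hne, ?_⟩
          have he : (Pi.single i0 1 + Pi.single j0 1 : Fin k → ZMod 2) = v + v ∘ (swap i0 j0).symm := by
            funext l
            rw [Pi.add_apply, Pi.add_apply, Function.comp, symm_swap]
            rcases eq_or_ne l i0 with rfl | hli
            · rw [swap_apply_left, hj0, hv1]; simp [hne]
            · rcases eq_or_ne l j0 with rfl | hlj
              · rw [swap_apply_right, hj0, hv1]; simp [hne.symm]
              · rw [swap_apply_of_ne_of_ne hli hlj]
                simp [hli, hlj, CharTwo.add_self_eq_zero]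
          rw [he]
          exact hsum v _ ⟨hvA, hvT⟩ ⟨hwA, hwT⟩
      obtain ⟨i, j, hij, hA2, hT2⟩ := hw2
      have hpairs : ∀ i' j' : Fin k, i' ≠ j' →
          ∃ h : tr e (Pi.single i' 1 + Pi.single j' 1 : Fin k → ZMod 2) ∈ A, (⟨_, h⟩ : A) ∈ T := by
        intro i' j' hij'
        refine hclassv ⟨_, hA2⟩ _ hT2 (tr_pow_prime e _) ?_
        show (tr e _).support.card = (tr e _).support.card
        have hfilter : ∀ {a b : Fin k}, a ≠ b →
            (Finset.univ.filter fun l => (Pi.single a 1 + Pi.single b 1 : Fin k → ZMod 2) l ≠ 0) = {a, b} := by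
          intro a b hab
          ext l
          rcases eq_or_ne l a with rfl | hla
          · simp [hab]
          · rcases eq_or_ne l b with rfl | hlb
            · simp [hab.symm]
            · simp [hla, hlb]
        rw [card_support_tr, card_support_tr, hfilter hij, hfilter hij', Finset.card_pair hij,
          Finset.card_pair hij']
      intro b hb
      -- split off coordinates
      obtain ⟨c0, hc0⟩ : ∃ c : Fin k, c = i := ⟨i, rfl⟩
      have key : ∀ (s : Finset (Fin k)), c0 ∉ s →
          ∃ h : tr e (∑ l ∈ s, (Pi.single l (b l) + Pi.single c0 (b l)) : Fin k → ZMod 2) ∈ A,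
            (⟨_, h⟩ : A) ∈ T := by
        intro s
        induction s using Finset.induction with
        | empty =>
          intro _
          rw [Finset.sum_empty, tr_zero]
          exact ⟨one_mem _, one_mem T⟩
        | insert a s ha ih =>
          intro hc
          rw [Finset.mem_insert, not_or] at hc
          rw [Finset.sum_insert ha]
          refine hsum _ _ ?_ (ih hc.2)
          rcases zmod_two_cases (b a) with h | h <;> rw [h]
          · rw [Pi.single_zero, Pi.single_zero, add_zero, tr_zero]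
            exact ⟨one_mem _, one_mem T⟩
          · exact hpairs a c0 (Ne.symm hc.1)
      obtain ⟨hS, hST⟩ := key (Finset.univ.erase c0) (Finset.notMem_erase _ _)
      have hb' : b = (∑ l ∈ Finset.univ.erase c0, (Pi.single l (b l) + Pi.single c0 (b l))) := by
        obtain ⟨d, hd⟩ : ∃ d, d = b + (∑ l ∈ Finset.univ.erase c0, (Pi.single l (b l) + Pi.single c0 (b l))) :=
          ⟨_, rfl⟩
        have hdl : ∀ l, l ≠ c0 → d l = 0 := by
          intro l hl
          rw [hd, Pi.add_apply, Finset.sum_apply, Finset.sum_eq_single l]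
          · simp [hl, CharTwo.add_self_eq_zero]
          · intro m _ hm; simp [hm.symm, hl]
          · intro hm; exact absurd (Finset.mem_erase.2 ⟨hl, Finset.mem_univ _⟩) hm
        have hdsign : sign (tr e d) = 1 := by
          rw [hd, tr_add, map_mul, hb, mem_alternatingGroup.1 hS, one_mul]
        have hdc : d c0 = 0 := by
          by_contra hne
          have : d = Pi.single c0 1 := funext fun l => by
            rcases eq_or_ne l c0 with rfl | hl
            · rw [Pi.single_eq_same]; exact (zmod_two_cases _).resolve_left hne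
            · rw [Pi.single_eq_of_ne hl, hdl l hl]
          rw [this, sign_tr_single e rfl] at hdsign
          exact absurd hdsign (by decide)
        have hd0 : d = 0 := funext fun l => by
          rcases eq_or_ne l c0 with rfl | hl
          · exact hdc
          · exact hdl l hl
        rw [hd] at hd0
        exact funext fun l => CharTwo.add_eq_zero.1 (congrFun hd0 l)
      rw [hb']
      exact ⟨hS, hST⟩
    · -- one coordinate changed
      obtain ⟨w, hw⟩ : ∃ w, w = v + Pi.single i0 (v i0) := ⟨_, rfl⟩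
      have h2p : (2 : ZMod p) ≠ 0 := fun h => h2 (by
        have h1 : ((2 : ℕ) : ZMod p) = 0 := by exact_mod_cast h
        rw [ZMod.natCast_eq_zero_iff] at h1
        exact (Nat.prime_dvd_prime_iff_eq hp.out Nat.prime_two).1 h1)
      obtain ⟨hwA, hwT⟩ := hclassv ⟨_, hvA⟩ w hvT (tr_pow_prime e v) (by
        show (tr e v).support.card = _
        rw [card_support_tr, card_support_tr]
        congr 2
        ext l
        rcases eq_or_ne l i0 with rfl | hl
        · have : v l + v l ≠ 0 := by
            rw [← two_mul]; exact mul_ne_zero h2p hi0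
          simp [hw, hi0, this]
        · simp [hw, hl])
      obtain ⟨z, hz⟩ : ∃ z : A, z = ⟨_, hvA⟩⁻¹ * ⟨_, hwA⟩ := ⟨_, rfl⟩
      have hzT : z ∈ T := hz ▸ T.mul_mem (T.inv_mem hvT) hwT
      have hzv : (z : Perm β) = tr e (Pi.single i0 (v i0)) := by
        rw [hz]
        show (tr e v)⁻¹ * tr e w = _
        rw [hw, tr_add, inv_mul_cancel_left]
      have hsingle : ∀ i c, ∃ h : tr e (Pi.single i c : Fin k → ZMod p) ∈ A, (⟨_, h⟩ : A) ∈ T := by
        intro i c
        rcases eq_or_ne c 0 with rfl | hc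
        · rw [Pi.single_zero, tr_zero]; exact ⟨one_mem _, one_mem T⟩
        refine hclassv z _ hzT (by rw [hzv, tr_pow_prime]) ?_
        rw [hzv, card_support_tr, card_support_tr]
        have hfilter : ∀ {a : Fin k} {d : ZMod p}, d ≠ 0 →
            (Finset.univ.filter fun l => (Pi.single a d : Fin k → ZMod p) l ≠ 0) = {a} := by
          intro a d hd
          ext l
          rcases eq_or_ne l a with rfl | hla
          · simp [hd]
          · simp [hla]
        rw [hfilter hi0, hfilter hc, Finset.card_singleton, Finset.card_singleton]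
      intro b _
      have key : ∀ (s : Finset (Fin k)),
          ∃ h : tr e (∑ l ∈ s, Pi.single l (b l) : Fin k → ZMod p) ∈ A, (⟨_, h⟩ : A) ∈ T := by
        intro s
        induction s using Finset.induction with
        | empty => rw [Finset.sum_empty, tr_zero]; exact ⟨one_mem _, one_mem T⟩
        | insert a s ha ih => rw [Finset.sum_insert ha]; exact hsum _ _ (hsingle _ _) ih
      obtain ⟨hS, hST⟩ := key Finset.univ
      have hb' : b = ∑ l, Pi.single l (b l) := (Finset.univ_sum_single b).symm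
      rw [hb']
      exact ⟨hS, hST⟩
  refine (smallS_le_closure e (by omega) P).trans ((Subgroup.closure_le _).2 ?_)
  rintro y ⟨hyS, hyp⟩
  have hyp' : (y : Perm β) ^ p = 1 := by
    rw [← SubgroupClass.coe_pow, hyp]; rfl
  obtain ⟨s, hs⟩ := exists_std e hyp' hrp
  obtain ⟨hA1, hT1⟩ := hE (fun i => if i ∈ s then (1 : ZMod p) else 0) (by
    obtain ⟨q, hq⟩ := _root_.isConj_iff.1 (isConj_of_card_support (tr_pow_prime e _) hyp' hs)
    have := congrArg sign hq
    rw [map_mul, map_mul, map_inv, mem_alternatingGroup.1 y.2, mul_inv_cancel_comm] at this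
    exact this)
  obtain ⟨hy', hyT⟩ := hclass ⟨_, hA1⟩ (y : Perm β) hT1 (tr_pow_prime e _) hyp' hyS hs
  exact hyT

end Cfsg.Agent.Fus.Alt
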