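import Mathlib

/-!
The involutions of the alternating group of degree six.
-/

set_option autoImplicit false

namespace Cfsg.Agent.Fus.AltSix

open Equiv Equiv.Perm

/-- The double transposition `(0 1)(2 3)`. -/
def base : Perm (Fin 6) := swap 0 1 * swap 2 3

set_option maxRecDepth 100000 in
theorem perm_facts : ∀ g : Perm (Fin 6), g * g = 1 → sign g = 1 → g ≠ 1 →
    g.support.card = 4 := by
  decide +kernel

set_option maxRecDepth 100000 in
theorem base_mul_facts : ∀ g : Perm (Fin 6), g * g = 1 → sign g = 1 →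
    (base * g) * (base * g) = 1 ∨ (base * g) ^ 3 = 1 ∨ (base * g) ^ 4 = 1 ∨
      (base * g) ^ 5 = 1 := by
  decide +kernel

theorem mul_self_of_two {g : alternatingGroup (Fin 6)} (hg : orderOf g = 2) :
    (g : Perm (Fin 6)) * g = 1 := by
  have := pow_orderOf_eq_one g
  rw [hg, pow_two] at this
  exact congrArg Subtype.val this

theorem cycleType_eq {g : alternatingGroup (Fin 6)} (hg : orderOf g = 2) :
    (g : Perm (Fin 6)).cycleType = Multiset.replicate 2 2 := by
  have : Fact (Nat.Prime 2) := ⟨Nat.prime_two⟩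
  have hord : orderOf (g : Perm (Fin 6)) = 2 := by rw [Subgroup.orderOf_coe, hg]
  have hne : (g : Perm (Fin 6)) ≠ 1 := by
    intro h; rw [h, orderOf_one] at hord; omega
  have hcard := perm_facts _ (mul_self_of_two hg) g.2 hne
  obtain ⟨n, hn⟩ := cycleType_prime_order (σ := (g : Perm (Fin 6))) (hord ▸ Nat.prime_two)
  rw [hord] at hn
  have := sum_cycleType (g : Perm (Fin 6))
  rw [hn, Multiset.sum_replicate, hcard, smul_eq_mul] at this
  rw [hn, show n + 1 = 2 by omega]

/-- The double transposition as an element of the alternating group. -/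
def baseA : alternatingGroup (Fin 6) := ⟨base, Equiv.Perm.mem_alternatingGroup.2 (by decide)⟩

theorem orderOf_baseA : orderOf baseA = 2 := by
  have : Fact (Nat.Prime 2) := ⟨Nat.prime_two⟩
  exact orderOf_eq_prime (by decide +kernel) (by decide +kernel)

theorem isConj_of_two {d e : alternatingGroup (Fin 6)} (hd : orderOf d = 2)
    (he : orderOf e = 2) : IsConj d e := by
  have hc : (d : Perm (Fin 6)).cycleType = (e : Perm (Fin 6)).cycleType :=
    (cycleType_eq hd).trans (cycleType_eq he).symm
  refine alternatingGroup.isConj_of (isConj_of_cycleType_eq hc) ?_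
  rw [← sum_cycleType, cycleType_eq hd]
  decide

theorem pow_small {d e : alternatingGroup (Fin 6)} (hd : orderOf d = 2) (he : orderOf e = 2) :
    (d * e) * (d * e) = 1 ∨ (d * e) ^ 3 = 1 ∨ (d * e) ^ 4 = 1 ∨ (d * e) ^ 5 = 1 := by
  obtain ⟨g, hg⟩ := isConj_iff.1 (isConj_of_two orderOf_baseA hd)
  subst hg
  have he' : orderOf (g⁻¹ * e * g) = 2 := by
    rw [← he]
    exact (SemiconjBy.orderOf_eq g (by show g * (g⁻¹ * e * g) = e * g; group))
  have hx : g * baseA * g⁻¹ * e = g * (baseA * (g⁻¹ * e * g)) * g⁻¹ := by group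
  rw [hx]
  rcases base_mul_facts _ (mul_self_of_two he') (g⁻¹ * e * g).2 with h | h | h | h
  · have h' : baseA * (g⁻¹ * e * g) * (baseA * (g⁻¹ * e * g)) = 1 := Subtype.ext h
    left
    rw [show g * (baseA * (g⁻¹ * e * g)) * g⁻¹ * (g * (baseA * (g⁻¹ * e * g)) * g⁻¹) =
      g * (baseA * (g⁻¹ * e * g) * (baseA * (g⁻¹ * e * g))) * g⁻¹ from by group, h']
    group
  · have h' : (baseA * (g⁻¹ * e * g)) ^ 3 = 1 := Subtype.ext h
    right; left
    rw [conj_pow, h']
    group
  · have h' : (baseA * (g⁻¹ * e * g)) ^ 4 = 1 := Subtype.ext h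
    right; right; left
    rw [conj_pow, h']
    group
  · have h' : (baseA * (g⁻¹ * e * g)) ^ 5 = 1 := Subtype.ext h
    right; right; right
    rw [conj_pow, h']
    group

end Cfsg.Agent.Fus.AltSix
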