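import Cfsg.Agent.S4231

/-!
Two Sylow `2`-subgroups of `Aut(A_6)` meet non-trivially: the stabilisers of two Sylow
`2`-subgroups of `A_6` in the automorphism group are never disjoint.
-/

set_option autoImplicit false

namespace Cfsg.Agent.Fus.AutAltSix

open Equiv Equiv.Perm
open scoped Pointwise

abbrev A6 : Type := alternatingGroup (Fin 6)

/-- A product of transpositions. -/
def sw (l : List (Fin 6 × Fin 6)) : Perm (Fin 6) := (l.map fun p => swap p.1 p.2).prod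

/-- The elements of a Sylow `2`-subgroup. -/
def pL : List (Perm (Fin 6)) :=
  [sw [], sw [(1, 3), (4, 5)], sw [(0, 1), (2, 3)], sw [(0, 1), (1, 2), (2, 3), (4, 5)], sw [(0, 2), (4, 5)], sw [(0, 2), (1, 3)], sw [(0, 3), (3, 2), (2, 1), (4, 5)], sw [(0, 3), (1, 2)]]

/-- Coset representatives for the Sylow subgroups disjoint from the given one. -/
def repL : List (Perm (Fin 6)) :=
  [sw [(3, 4), (4, 5)], sw [(3, 5), (5, 4)], sw [(2, 3), (3, 4)], sw [(2, 3), (3, 5)], sw [(2, 4), (4, 3)], sw [(2, 4), (4, 5)], sw [(2, 4), (3, 5)], sw [(2, 5), (5, 3)], sw [(2, 5), (5, 4)], sw [(2, 5), (3, 4)], sw [(1, 2), (3, 4)], sw [(1, 2), (3, 5)], sw [(1, 2), (2, 3), (3, 4), (4, 5)], sw [(1, 2), (2, 3), (3, 5), (5, 4)], sw [(1, 2), (2, 4)], sw [(1, 2), (2, 5)], sw [(1, 3), (3, 4), (4, 5), (5, 2)], sw [(1, 3), (3, 5), (5, 4), (4, 2)], sw [(1, 3), (3, 4)], sw [(1, 3), (3, 5)], sw [(1, 3), (3, 5), (5, 2), (2, 4)], sw [(1, 3), (3, 4), (4, 2),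 (2, 5)], sw [(0, 1), (1, 2), (2, 3), (3, 4)], sw [(0, 1), (1, 2), (2, 3), (3, 5)], sw [(0, 1), (1, 2), (2, 4), (4, 5)], sw [(0, 1), (1, 2), (2, 4), (3, 5)], sw [(0, 1), (1, 2), (2, 5), (5, 4)], sw [(0, 1), (1, 2), (2, 5), (3, 4)], sw [(0, 1), (1, 3), (3, 4), (4, 5)], sw [(0, 1), (1, 3), (3, 5), (5, 4)], sw [(0, 2), (2, 4), (1, 3), (3, 5)], sw [(0, 2), (2, 5), (1, 3), (3, 4)]]

/-- An outer involution normalising two disjoint Sylow subgroups. -/
def tS : Perm (Fin 6) := sw [(1, 3)]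

/-- The conjugating element to the second Sylow subgroup. -/
def wS : Perm (Fin 6) := sw [(2, 4), (4, 5)]

theorem pL_facts : (1 : Perm (Fin 6)) ∈ pL ∧ (∀ x ∈ pL, sign x = 1) ∧
    (∀ x ∈ pL, ∀ y ∈ pL, x * y ∈ pL) ∧ (∀ x ∈ pL, x⁻¹ ∈ pL) ∧ pL.Nodup ∧ pL.length = 8 := by
  refine ⟨?_, ?_, ?_, ?_, ?_, ?_⟩ <;> decide +kernel

set_option maxRecDepth 100000 in
theorem normaliser_facts : ∀ g : Perm (Fin 6), sign g = 1 →
    (∀ x ∈ pL, g⁻¹ * x * g ∈ pL) → g ∈ pL := by
  decide +kernel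

set_option maxRecDepth 100000 in
theorem disjoint_facts : ∀ g : Perm (Fin 6), sign g = 1 →
    (∀ x ∈ pL, g⁻¹ * x * g ∈ pL → x = 1) → ∃ r ∈ repL, r⁻¹ * g ∈ pL := by
  decide +kernel

theorem rep_facts : (∀ r ∈ repL, sign r = 1) ∧ repL.length = 32 := by decide +kernel

theorem witness_facts : sign wS = 1 ∧ tS * tS = 1 ∧ tS ≠ 1 ∧ (∀ x ∈ pL, tS * x * tS ∈ pL) ∧
    (∀ x ∈ pL, wS⁻¹ * (tS * (wS * x * wS⁻¹) * tS) * wS ∈ pL) ∧
    (∀ x ∈ pL, wS⁻¹ * x * wS ∈ pL → x = 1) := by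
  decide +kernel

/-- The Sylow subgroup as a subgroup of the alternating group. -/
def P0 : Subgroup A6 where
  carrier := {a | (a : Perm (Fin 6)) ∈ pL}
  mul_mem' {a b} ha hb := pL_facts.2.2.1 _ ha _ hb
  one_mem' := pL_facts.1
  inv_mem' {a} ha := pL_facts.2.2.2.1 _ ha

theorem mem_P0 {a : A6} : a ∈ P0 ↔ (a : Perm (Fin 6)) ∈ pL := Iff.rfl

theorem card_P0 : Nat.card P0 = 8 := by
  classical
  let f : P0 → {x // x ∈ pL.toFinset} := fun a => ⟨a.1.1, List.mem_toFinset.2 a.2⟩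
  have hf : Function.Bijective f := by
    refine ⟨fun a b h => Subtype.ext (Subtype.ext (congrArg (fun z => z.1) h)), fun z => ?_⟩
    have hz : z.1 ∈ pL := List.mem_toFinset.1 z.2
    exact ⟨⟨⟨z.1, pL_facts.2.1 _ hz⟩, hz⟩, rfl⟩
  rw [Nat.card_eq_of_bijective f hf, Nat.card_eq_fintype_card, Fintype.card_coe,
    List.toFinset_card_of_nodup pL_facts.2.2.2.2.1, pL_facts.2.2.2.2.2]

theorem card_A6 : Nat.card A6 = 360 := by
  rw [nat_card_alternatingGroup, Nat.card_fin]; rfl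

/-- The Sylow subgroup, bundled. -/
theorem exists_sylow : ∃ S : Sylow 2 A6, (S : Subgroup A6) = P0 := by
  have : Fact (Nat.Prime 2) := ⟨Nat.prime_two⟩
  refine ⟨Sylow.ofCard P0 ?_, rfl⟩
  rw [card_P0, card_A6,
    show (360 : ℕ) = 2 ^ 3 * 45 by norm_num,
    Nat.factorization_mul_apply_of_coprime (by norm_num), Nat.Prime.factorization_pow Nat.prime_two,
    Finsupp.single_eq_same, Nat.factorization_eq_zero_of_not_dvd (by norm_num : ¬ 2 ∣ 45)]
  all_goals norm_num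

theorem mem_conj_P0 {g a : A6} : a ∈ MulAut.conj g • P0 ↔ g⁻¹ * a * g ∈ P0 := by
  rw [Subgroup.mem_pointwise_smul_iff_inv_smul_mem, ← map_inv]
  simp [MulAut.conj_apply]

theorem mem_smul {θ : MulAut A6} {K : Subgroup A6} {a : A6} : a ∈ θ • K ↔ θ⁻¹ a ∈ K := by
  rw [Subgroup.mem_pointwise_smul_iff_inv_smul_mem]
  rfl

/-- The Sylow subgroups. -/
def orb : Set (Subgroup A6) := Set.range fun g : A6 => MulAut.conj g • P0

theorem smul_mem_orb (θ : MulAut A6) {K : Subgroup A6} (hK : K ∈ orb) : θ • K ∈ orb := by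
  have : Fact (Nat.Prime 2) := ⟨Nat.prime_two⟩
  obtain ⟨g, rfl⟩ := hK
  obtain ⟨S, hS⟩ := exists_sylow
  have hc : Nat.card ↥(θ • MulAut.conj g • P0) = 2 ^ (Nat.card A6).factorization 2 := by
    rw [← Nat.card_congr (Subgroup.equivSMul θ (MulAut.conj g • P0)).toEquiv,
      ← Nat.card_congr (Subgroup.equivSMul (MulAut.conj g) P0).toEquiv, ← hS]
    exact S.card_eq_multiplicity
  obtain ⟨x, hx⟩ := MulAction.exists_smul_eq A6 S (Sylow.ofCard _ hc)
  refine ⟨x, ?_⟩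
  have := congrArg (fun T : Sylow 2 A6 => (T : Subgroup A6)) hx
  simp only [Sylow.coe_subgroup_smul, hS] at this
  exact this

theorem card_orb : Nat.card orb = 45 := by
  have hN : ∀ g : A6, MulAut.conj g • P0 = P0 → g ∈ P0 := by
    intro g hg
    refine normaliser_facts g g.2 fun x hx => ?_
    have hx' : (⟨x, pL_facts.2.1 x hx⟩ : A6) ∈ MulAut.conj g • P0 := by rw [hg]; exact hx
    exact mem_conj_P0.1 hx'
  have hP : ∀ g : A6, g ∈ P0 → MulAut.conj g • P0 = P0 := fun g hg =>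
    Subgroup.ext fun a => by
      rw [mem_conj_P0, P0.mul_mem_cancel_right hg, P0.mul_mem_cancel_left (inv_mem hg)]
  let f : A6 ⧸ P0 → orb := Quotient.lift (fun g => ⟨MulAut.conj g • P0, g, rfl⟩) fun a b hab => by
    have h := QuotientGroup.leftRel_apply.1 hab
    apply Subtype.ext
    show MulAut.conj a • P0 = MulAut.conj b • P0
    rw [← hP _ h, ← mul_smul, ← map_mul, mul_inv_cancel_left, hP _ h]
  have hf : Function.Bijective f := by
    refine ⟨fun u v => ?_, fun ⟨K, g, hg⟩ => ⟨QuotientGroup.mk g, Subtype.ext hg⟩⟩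
    induction u using QuotientGroup.induction_on
    rename_i a
    induction v using QuotientGroup.induction_on
    rename_i b
    intro h
    have h' : MulAut.conj a • P0 = MulAut.conj b • P0 := congrArg Subtype.val h
    refine QuotientGroup.eq.2 (hN _ ?_)
    rw [map_mul, mul_smul, ← h', ← mul_smul, ← map_mul, inv_mul_cancel, map_one, one_smul]
  have h := P0.card_mul_index
  rw [card_P0, card_A6, Subgroup.index_eq_card, Nat.card_eq_of_bijective f hf] at h
  omega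

theorem card_aut_of_le (h : 1440 ≤ Nat.card (MulAut A6)) : Nat.card (MulAut A6) = 1440 :=
  le_antisymm (Nat.le_of_dvd (by norm_num) S4231.card_aut_six) h

theorem card_stab (h : 1440 ≤ Nat.card (MulAut A6)) :
    Nat.card (MulAction.stabilizer (MulAut A6) P0) = 32 := by
  have horb : MulAction.orbit (MulAut A6) P0 = orb := by
    refine Set.Subset.antisymm ?_ ?_
    · rintro _ ⟨θ, rfl⟩
      exact smul_mem_orb θ ⟨1, by simp⟩
    · rintro _ ⟨g, rfl⟩
      exact ⟨MulAut.conj g, rfl⟩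
  have h1 := Nat.card_congr (MulAction.orbitEquivQuotientStabilizer (MulAut A6) P0)
  have h2 := (MulAction.stabilizer (MulAut A6) P0).card_mul_index
  rw [Subgroup.index_eq_card, ← h1, horb, card_orb, card_aut_of_le h] at h2
  omega

/-- The outer involution. -/
def tAut : MulAut A6 := MulAut.conjNormal tS

theorem tAut_apply (a : A6) : ((tAut a : A6) : Perm (Fin 6)) = tS * a * tS := by
  rw [tAut, MulAut.conjNormal_apply, inv_eq_of_mul_eq_one_right witness_facts.2.1]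

theorem tAut_inv : tAut⁻¹ = tAut := by
  rw [tAut, ← map_inv, inv_eq_of_mul_eq_one_right witness_facts.2.1]

theorem tAut_ne_one : tAut ≠ 1 := fun h => witness_facts.2.2.1
  (AltAut.conjNormal_injective (α := Fin 6) (by simp) (h.trans (map_one _).symm))

theorem tAut_smul_P0 : tAut • P0 = P0 := by
  ext a
  rw [mem_smul, tAut_inv, mem_P0, mem_P0, tAut_apply]
  refine ⟨fun h => ?_, witness_facts.2.2.2.1 _⟩
  have := witness_facts.2.2.2.1 _ h
  rwa [mul_assoc, mul_assoc, ← mul_assoc, ← mul_assoc, ← mul_assoc, witness_facts.2.1, one_mul,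
    mul_assoc, witness_facts.2.1, mul_one] at this

/-- The second Sylow subgroup. -/
def wA : A6 := ⟨wS, witness_facts.1⟩

theorem tAut_smul_Q : tAut • MulAut.conj wA • P0 = MulAut.conj wA • P0 := by
  have key : ∀ a : A6, a ∈ MulAut.conj wA • P0 → tAut a ∈ MulAut.conj wA • P0 := by
    intro a ha
    rw [mem_conj_P0, mem_P0] at ha ⊢
    have := witness_facts.2.2.2.2.1 _ ha
    simp only [wA, Subgroup.coe_mul, Subgroup.coe_inv, tAut_apply] at this ⊢
    simpa [mul_assoc] using this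
  ext a
  rw [mem_smul, tAut_inv]
  refine ⟨fun h => ?_, key a⟩
  have := key _ h
  rwa [← MulAut.mul_apply, show tAut * tAut = 1 by
    rw [tAut, ← map_mul, witness_facts.2.1, map_one], MulAut.one_apply] at this

/-- Any two Sylow subgroups of the alternating group have a common non-trivial stabiliser. -/
theorem exists_common (h : 1440 ≤ Nat.card (MulAut A6)) {Q : Subgroup A6} (hQ : Q ∈ orb) :
    ∃ y : MulAut A6, y ≠ 1 ∧ y • P0 = P0 ∧ y • Q = Q := by
  classical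
  by_contra hne
  push Not at hne
  set S := MulAction.stabilizer (MulAut A6) P0 with hS
  have hconj : ∀ a ∈ P0, ∀ g : A6, a ∈ MulAut.conj g • P0 → Q = MulAut.conj g • P0 → a = 1 := by
    intro a ha g hg hQg
    by_contra ha1
    have hPa : MulAut.conj a • P0 = P0 := Subgroup.ext fun b => by
      rw [mem_conj_P0, P0.mul_mem_cancel_right ha, P0.mul_mem_cancel_left (inv_mem ha)]
    refine hne (MulAut.conj a) (fun e => ?_) hPa ?_
    · have e' : MulAut.conjNormal (a : Perm (Fin 6)) = (1 : MulAut A6) :=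
        MulEquiv.ext fun x => Subtype.ext (by
          rw [MulAut.conjNormal_apply]; exact congrArg (fun f : MulAut A6 => (f x : A6).1) e)
      exact ha1 (Subtype.ext (AltAut.conjNormal_injective (α := Fin 6) (by simp)
        (e'.trans (map_one _).symm)))
    · rw [hQg]
      ext b
      rw [mem_smul, ← map_inv]
      have := mem_conj_P0.1 hg
      rw [mem_conj_P0, mem_conj_P0, MulAut.conj_apply, inv_inv,
        show g⁻¹ * (a⁻¹ * b * a) * g = (g⁻¹ * a * g)⁻¹ * (g⁻¹ * b * g) * (g⁻¹ * a * g) by group,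
        P0.mul_mem_cancel_right this, P0.mul_mem_cancel_left (inv_mem this)]
  have horbit : ∀ K ∈ MulAction.orbit S Q, ∃ r ∈ repL, ∃ hr : sign r = 1,
      K = MulAut.conj (⟨r, hr⟩ : A6) • P0 := by
    rintro _ ⟨θ, rfl⟩
    obtain ⟨g, hg : MulAut.conj g • P0 = (θ : MulAut A6) • Q⟩ := smul_mem_orb θ hQ
    obtain ⟨g₀, hg₀ : MulAut.conj g₀ • P0 = Q⟩ := hQ
    have hdis : ∀ x ∈ pL, (g : Perm (Fin 6))⁻¹ * x * g ∈ pL → x = 1 := by
      intro x hx hx'
      have hxA : (⟨x, pL_facts.2.1 x hx⟩ : A6) ∈ MulAut.conj g • P0 := mem_conj_P0.2 hx'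
      rw [hg, mem_smul, ← hg₀] at hxA
      have hP : (θ : MulAut A6)⁻¹ (⟨x, pL_facts.2.1 x hx⟩ : A6) ∈ P0 := by
        rw [← mem_smul, θ.2]
        exact hx
      have := hconj _ hP g₀ hxA hg₀.symm
      rw [MulEquiv.map_eq_one_iff] at this
      exact congrArg Subtype.val this
    obtain ⟨r, hr, hrg⟩ := disjoint_facts g g.2 hdis
    refine ⟨r, hr, rep_facts.1 r hr, ?_⟩
    show (θ : MulAut A6) • Q = _
    rw [← hg]
    ext b
    rw [mem_conj_P0, mem_conj_P0]
    have hm : (⟨r, rep_facts.1 r hr⟩ : A6)⁻¹ * g ∈ P0 := hrg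
    rw [show g⁻¹ * b * g = ((⟨r, rep_facts.1 r hr⟩ : A6)⁻¹ * g)⁻¹ *
      ((⟨r, rep_facts.1 r hr⟩ : A6)⁻¹ * b * ⟨r, rep_facts.1 r hr⟩) *
      ((⟨r, rep_facts.1 r hr⟩ : A6)⁻¹ * g) by group, P0.mul_mem_cancel_right hm,
      P0.mul_mem_cancel_left (inv_mem hm)]
  have hfree : Nat.card (MulAction.orbit S Q) = 32 := by
    have h1 := Nat.card_congr (MulAction.orbitEquivQuotientStabilizer S Q)
    have h2 : MulAction.stabilizer S Q = ⊥ := by
      rw [Subgroup.eq_bot_iff_forall]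
      intro y hy
      by_contra hy1
      exact hne y (fun e => hy1 (Subtype.ext e)) y.2 hy
    have h3 := (MulAction.stabilizer S Q).card_mul_index
    rw [Subgroup.index_eq_card, ← h1, h2, Subgroup.card_bot, one_mul, hS, card_stab h] at h3
    exact h3
  let U : Finset (Subgroup A6) := (repL.attach.map fun r =>
    MulAut.conj (⟨r.1, rep_facts.1 r.1 r.2⟩ : A6) • P0).toFinset
  have hsub : MulAction.orbit S Q ⊆ (U : Set (Subgroup A6)) := by
    intro K hK
    obtain ⟨r, hr, -, rfl⟩ := horbit K hK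
    simpa [U] using ⟨r, hr, rfl⟩
  have hUc : U.card ≤ 32 := (List.toFinset_card_le _).trans (by simp [rep_facts.2])
  have heq : MulAction.orbit S Q = (U : Set (Subgroup A6)) := by
    refine Set.eq_of_subset_of_ncard_le hsub ?_ U.finite_toSet
    rw [Set.ncard_coe_finset, ← Nat.card_coe_set_eq, hfree]
    exact hUc
  obtain ⟨r, hr, hrw⟩ := disjoint_facts wS witness_facts.1 witness_facts.2.2.2.2.2
  have hW : MulAut.conj wA • P0 ∈ MulAction.orbit S Q := by
    rw [heq]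
    simp only [U, Finset.mem_coe, List.mem_toFinset, List.mem_map, List.mem_attach, true_and,
      Subtype.exists]
    refine ⟨r, hr, ?_⟩
    ext b
    rw [mem_conj_P0, mem_conj_P0]
    have hm : (⟨r, rep_facts.1 r hr⟩ : A6)⁻¹ * wA ∈ P0 := hrw
    rw [show wA⁻¹ * b * wA = ((⟨r, rep_facts.1 r hr⟩ : A6)⁻¹ * wA)⁻¹ *
      ((⟨r, rep_facts.1 r hr⟩ : A6)⁻¹ * b * ⟨r, rep_facts.1 r hr⟩) *
      ((⟨r, rep_facts.1 r hr⟩ : A6)⁻¹ * wA) by group, P0.mul_mem_cancel_right hm,
      P0.mul_mem_cancel_left (inv_mem hm)]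
  obtain ⟨θ, hθ : (θ : MulAut A6) • Q = MulAut.conj wA • P0⟩ := hW
  refine hne ((θ : MulAut A6)⁻¹ * tAut * θ) (fun e => tAut_ne_one ?_) ?_ ?_
  · simpa [mul_assoc] using congrArg (fun z => (θ : MulAut A6) * z * (θ : MulAut A6)⁻¹) e
  · rw [mul_smul, mul_smul, θ.2, tAut_smul_P0, inv_smul_eq_iff, θ.2]
  · rw [mul_smul, mul_smul, hθ, tAut_smul_Q, inv_smul_eq_iff, hθ]

/-- Two Sylow `2`-subgroups of the automorphism group intersect non-trivially. -/
theorem sylow_inter (h : 1440 ≤ Nat.card (MulAut A6)) (H : Sylow 2 (MulAut A6)) (x : MulAut A6) :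
    ∃ y : MulAut A6, y ≠ 1 ∧ y ∈ H ∧ x⁻¹ * y * x ∈ H := by
  have : Fact (Nat.Prime 2) := ⟨Nat.prime_two⟩
  have : Finite (MulAut A6) := Nat.finite_of_card_ne_zero (by omega)
  have hc : Nat.card (MulAction.stabilizer (MulAut A6) P0) =
      2 ^ (Nat.card (MulAut A6)).factorization 2 := by
    rw [card_stab h, card_aut_of_le h, show (1440 : ℕ) = 2 ^ 5 * 45 by norm_num,
      Nat.factorization_mul_apply_of_coprime (by norm_num),
      Nat.Prime.factorization_pow Nat.prime_two, Finsupp.single_eq_same,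
      Nat.factorization_eq_zero_of_not_dvd (by norm_num : ¬ 2 ∣ 45)]
    all_goals norm_num
  obtain ⟨θ, hθ⟩ := MulAction.exists_smul_eq (MulAut A6) (Sylow.ofCard _ hc) H
  have hmem : ∀ y : MulAut A6, y ∈ H ↔ (θ⁻¹ * y * θ) • P0 = P0 := by
    intro y
    show y ∈ (H : Subgroup (MulAut A6)) ↔ _
    rw [← hθ, Sylow.coe_subgroup_smul, Sylow.coe_ofCard,
      Subgroup.mem_pointwise_smul_iff_inv_smul_mem, MulAction.mem_stabilizer_iff, ← map_inv]
    simp [MulAut.conj_apply, MulAut.smul_def]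
  obtain ⟨y, hy1, hyP, hyQ⟩ := exists_common h
    (smul_mem_orb (θ⁻¹ * x * θ) (K := P0) ⟨1, by simp⟩)
  refine ⟨θ * y * θ⁻¹, fun e => hy1 (conj_eq_one_iff.1 e), (hmem _).2 ?_, (hmem _).2 ?_⟩
  · rw [show θ⁻¹ * (θ * y * θ⁻¹) * θ = y by group]
    exact hyP
  · rw [show θ⁻¹ * (x⁻¹ * (θ * y * θ⁻¹) * x) * θ =
      (θ⁻¹ * x * θ)⁻¹ * y * (θ⁻¹ * x * θ) by group, mul_smul, mul_smul, hyQ, inv_smul_smul]

end Cfsg.Agent.Fus.AutAltSix
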