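import Mathlib
import Cfsg.Prelude.Def_Balance
import Cfsg.Agent.Lib.Grp.LayerBalance
import Cfsg.Agent.Lib.Grp.Quasisimple
import Cfsg.Agent.Lib.Grp.Components
import Cfsg.Agent.Lib.Fus.CentralExt

/-!
Images of 2-components in groups with the B-property.
-/

set_option autoImplicit false
set_option linter.style.haveILetI false

namespace Cfsg.Agent.Fus.BPairs

open Subgroup
open scoped commutatorElement

variable {H Q : Type*} [Group H] [Finite H] [Group Q] [Finite Q]

theorem oddCore_eq (X : Type*) [Group X] : Cfsg.oddCore X = Cfsg.pPrimeCore 2 X := rfl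

/-- A group map with kernel of odd order onto an involution centralizer of a group with the B-property and
trivial core sends a 2-component of a normal subgroup to a component. -/
theorem component_image (hB : Cfsg.HasBProperty Q) (hO : Cfsg.oddCore Q = ⊥) (t : Q) (ht : orderOf t = 2)
    (f : H →* ↥(Subgroup.centralizer ({t} : Set Q))) (hf : Function.Surjective f)
    (hk : Odd (Nat.card f.ker)) {D : Type*} [Group D] [Finite D] (ι : D →* H) (hι : Function.Injective ι)
    (hn : ι.range.IsSubnormal) {J : Subgroup D} (hJ : Cfsg.IsPComponent 2 J) :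
    Cfsg.IsComponent ((J.map ι).map f) ∧
      ∀ E : Subgroup H, Odd (Nat.card E) →
        (∀ j ∈ J.map ι, ∀ e ∈ E, j * e * j⁻¹ ∈ E) →
        ∀ j ∈ J.map ι, ∀ e ∈ E, f (j * e * j⁻¹ * e⁻¹) = 1 := by
  have hsub : ∀ {K : Subgroup D}, K.IsSubnormal → (K.map ι).IsSubnormal := fun {K} hK => by
    have := (hK.map ι.rangeRestrict_surjective).trans' hn
    rwa [Subgroup.map_map, MonoidHom.subtype_comp_rangeRestrict] at this
  haveI : Fact (Nat.Prime 2) := ⟨Nat.prime_two⟩
  obtain ⟨Y, hY⟩ : ∃ Y, Y = (J.map ι).map f := ⟨_, rfl⟩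
  rw [← hY]
  obtain ⟨g, hg⟩ : ∃ g : ↥J →* ↥(Subgroup.centralizer ({t} : Set Q)), g = f.comp (ι.comp J.subtype) :=
    ⟨_, rfl⟩
  have hgr : g.range = Y := by
    rw [hg, MonoidHom.range_comp, MonoidHom.range_comp, Subgroup.range_subtype, hY]
  have hYs : Y.IsSubnormal := hY ▸ (hsub hJ.1).map hf
  have hJp : ⁅J, J⁆ = J := Grp.IsPComponent.perfect hJ
  have hYp : ⁅Y, Y⁆ = Y := by
    rw [hY, Subgroup.map_map, ← Subgroup.map_commutator, hJp]
  -- `J` does not have odd order
  have hqs := Grp.IsPComponent.quotient_quasisimple hJ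
  have hJodd : ¬ Odd (Nat.card ↥J) := fun h => by
    haveI := Grp.IsQuasisimple.nontrivial hqs
    have : Cfsg.pPrimeCore 2 ↥J = ⊤ := top_le_iff.1 (Grp.le_pPrimeCore inferInstance (by
      rw [Subgroup.card_top]; exact Nat.coprime_two_right.2 h))
    exact (not_subsingleton_iff_nontrivial.2 ‹_›) (QuotientGroup.subsingleton_iff.2 this)
  have hgker : Odd (Nat.card g.ker) := by
    obtain ⟨m, hm⟩ : Nat.card g.ker ∣ Nat.card f.ker := by
      rw [← Subgroup.card_map_of_injective (K := g.ker) (f := ι.comp J.subtype)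
        (hι.comp J.subtype_injective)]
      refine Subgroup.card_dvd_of_le ?_
      rintro _ ⟨x, hx, rfl⟩
      have hx' : g x = 1 := hx
      rw [hg] at hx'
      exact hx'
    exact (Nat.odd_mul.1 (hm ▸ hk)).1
  have hYeven : ¬ Odd (Nat.card Y) := fun h => hJodd (by
    rw [← Subgroup.card_mul_index g.ker, Subgroup.index_ker, hgr]
    exact hgker.mul h)
  -- `Y` lies in the layer and centralizes the core
  have hYL : Y ≤ Cfsg.pLayer 2 ↥(Subgroup.centralizer ({t} : Set Q)) := by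
    refine le_trans ?_ (Grp.pLayer_map_le (p := 2) (f.comp ι) ?_)
    · rw [hY, Subgroup.map_map]
      exact Subgroup.map_mono (le_sSup hJ)
    · rw [MonoidHom.range_comp]
      exact hn.map hf
  obtain ⟨N, hN⟩ : ∃ N, N = Cfsg.oddCore ↥(Subgroup.centralizer ({t} : Set Q)) := ⟨_, rfl⟩
  have hNn : N.Normal := hN ▸ Grp.pPrimeCore_isNormal
  have hYN : ∀ y ∈ Y, ∀ n ∈ N, y * n = n * y := fun y hy n hn => by
    have h := hB t ht
    rw [hO, le_bot_iff, Subgroup.map_eq_bot_iff_of_injective _ (Subgroup.subtype_injective _),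
      Subgroup.commutator_eq_bot_iff_le_centralizer, ← hN] at h
    exact (Subgroup.mem_centralizer_iff.1 (h (hYL hy)) n hn).symm
  have hJY : Y ≠ ⊥ := fun e => hYeven (by rw [e, Subgroup.card_bot]; exact odd_one)
  have hnot : ¬ Y ≤ N := fun hle => by
    refine hJY (le_bot_iff.1 ?_)
    rw [← hYp, Subgroup.commutator_le]
    intro a ha b hb
    rw [Subgroup.mem_bot, commutatorElement_eq_one_iff_mul_comm]
    exact hYN a ha b (hle hb)
  haveI hNY : (N.subgroupOf Y).Normal := hNn.subgroupOf Y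
  have hperf : Group.IsPerfect ↥Y := Subgroup.isPerfect_iff.mpr hYp
  have hq : Cfsg.IsQuasisimple (↥Y ⧸ N.subgroupOf Y) := by
    let h₁ : ↥J →* ↥Y ⧸ N.subgroupOf Y :=
      (QuotientGroup.mk' _).comp (g.codRestrict Y fun x => hgr ▸ ⟨x, rfl⟩)
    have h₁s : Function.Surjective h₁ := by
      intro z
      obtain ⟨⟨y, hy⟩, rfl⟩ := QuotientGroup.mk'_surjective _ z
      obtain ⟨x, rfl⟩ : y ∈ g.range := hgr.ge hy
      exact ⟨x, rfl⟩
    have hle : Cfsg.pPrimeCore 2 ↥J ≤ h₁.ker := by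
      intro x hx
      refine MonoidHom.mem_ker.2 ((QuotientGroup.eq_one_iff (N := N.subgroupOf Y) _).2 ?_)
      show g x ∈ N
      have h2 : (Cfsg.pPrimeCore 2 ↥J).map g ≤ N := by
        rw [hN, oddCore_eq]
        refine Grp.le_pPrimeCore_of_isSubnormal ?_ ?_
        · have h3 : ((Cfsg.pPrimeCore 2 ↥J).map J.subtype).IsSubnormal :=
            (Grp.pPrimeCore_isNormal.isSubnormal).trans' hJ.1
          have h4 : (((Cfsg.pPrimeCore 2 ↥J).map J.subtype).map ι).IsSubnormal := hsub h3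
          rw [hg, ← Subgroup.map_map, ← Subgroup.map_map]
          exact h4.map hf
        · exact Nat.Coprime.coprime_dvd_left (Subgroup.card_map_dvd _ _) Grp.pPrimeCore_coprime
      exact h2 ⟨x, hx, rfl⟩
    haveI : Nontrivial (↥Y ⧸ N.subgroupOf Y) := QuotientGroup.nontrivial_iff.2 fun e =>
      hnot (Subgroup.subgroupOf_eq_top.1 e)
    exact Grp.IsQuasisimple.of_surjective hqs (f := QuotientGroup.lift _ h₁ hle)
      (QuotientGroup.lift_surjective_of_surjective _ _ h₁s _)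
  have hYc : Cfsg.IsComponent Y := ⟨hYs, isQuasisimple_of_central hperf (N.subgroupOf Y) (fun n hn =>
    Subgroup.mem_center_iff.2 fun y => Subtype.ext (hYN y y.2 n hn)) hq⟩
  refine ⟨hYc, fun E hE hEn j hj e he => ?_⟩
  obtain ⟨E', hE'⟩ : ∃ E', E' = E.map f := ⟨_, rfl⟩
  have hn : Y ≤ Subgroup.normalizer (E' : Set ↥(Subgroup.centralizer ({t} : Set Q))) := by
    have hfin : ∀ y ∈ Y, ∀ u ∈ E', y * u * y⁻¹ ∈ E' := by
      intro y hy u hu
      rw [hY] at hy
      obtain ⟨a, ha, rfl⟩ := hy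
      rw [hE'] at hu ⊢
      obtain ⟨b, hb, rfl⟩ := hu
      exact ⟨a * b * a⁻¹, hEn a ha b hb, by simp⟩
    exact fun y hy => Subgroup.mem_normalizer_iff.2 fun u => ⟨fun hu => hfin y hy u hu, fun hu => by
      simpa [mul_assoc] using hfin y⁻¹ (inv_mem hy) _ hu⟩
  obtain ⟨X, hX⟩ : ∃ X, X = Y ⊔ E' := ⟨_, rfl⟩
  have hYX : Y ≤ X := hX ▸ le_sup_left
  have hEX : E' ≤ X := hX ▸ le_sup_right
  have hnE : (E'.subgroupOf X).Normal :=
    Subgroup.normal_subgroupOf_of_le_normalizer (hX ▸ sup_le hn Subgroup.le_normalizer)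
  rcases Grp.component_le_or_commute (Grp.IsComponent.subgroupOf hYc hYX) hnE.isSubnormal with h | h
  · exfalso
    have h' : Y ≤ E' := by
      intro y hy
      exact h (show (⟨y, hYX hy⟩ : ↥X) ∈ Y.subgroupOf X from hy)
    obtain ⟨m, hm⟩ := Subgroup.card_dvd_of_le h'
    obtain ⟨k, hk'⟩ := Subgroup.card_map_dvd (H := E) f
    rw [hE'] at hm
    rw [hk', hm] at hE
    exact hYeven (Nat.odd_mul.1 (Nat.odd_mul.1 hE).1).1
  · have hmem : (⁅(⟨f j, hYX (hY ▸ ⟨j, hj, rfl⟩)⟩ : ↥X), ⟨f e, hEX (hE' ▸ ⟨e, he, rfl⟩)⟩⁆) ∈ (⊥ : Subgroup ↥X) := by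
      rw [← h]
      refine Subgroup.commutator_mem_commutator ?_ ?_
      · show f j ∈ Y
        exact hY ▸ ⟨j, hj, rfl⟩
      · show f e ∈ E'
        exact hE' ▸ ⟨e, he, rfl⟩
    have := congrArg Subtype.val (Subgroup.mem_bot.1 hmem)
    simpa [commutatorElement_def] using this

end Cfsg.Agent.Fus.BPairs
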