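import Mathlib
import Cfsg.Prelude.Def_FusionSystem

/-!
Basic calculus of the maps of a fusion system, seen as functions on the ambient group.
-/

set_option autoImplicit false

open scoped Classical

namespace Cfsg.Agent.Fus

open Subgroup

variable {Ω : Type*} [Group Ω] {S : Subgroup Ω}

/-- A function that agrees on `P` with some map of the system with source `P`. -/
def IsMap (F : FusionSystem S) (P : Subgroup Ω) (f : Ω → Ω) : Prop :=
  ∃ φ ∈ F.Hom P, ∀ x : P, φ x = f x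

/-- Extension of a homomorphism defined on `P` to a function on `Ω`. -/
noncomputable def toFun {P : Subgroup Ω} (φ : P →* Ω) : Ω → Ω :=
  fun x => if h : x ∈ P then φ ⟨x, h⟩ else 1

theorem toFun_apply {P : Subgroup Ω} (φ : P →* Ω) {x : Ω} (h : x ∈ P) :
    toFun φ x = φ ⟨x, h⟩ := dif_pos h

@[simp] theorem toFun_coe {P : Subgroup Ω} (φ : P →* Ω) (x : P) : toFun φ (x : Ω) = φ x :=
  dif_pos x.2

/-- The image of `P` under a function. -/
def fimg (f : Ω → Ω) (P : Subgroup Ω) : Subgroup Ω := Subgroup.closure (f '' (P : Set Ω))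

theorem apply_mem_fimg {P : Subgroup Ω} (f : Ω → Ω) {x : Ω} (h : x ∈ P) : f x ∈ fimg f P :=
  subset_closure ⟨x, h, rfl⟩

theorem fimg_le {P K : Subgroup Ω} {f : Ω → Ω} (h : ∀ x ∈ P, f x ∈ K) : fimg f P ≤ K := by
  refine (closure_le K).2 ?_
  rintro _ ⟨x, hx, rfl⟩
  exact h x hx

theorem fimg_mono {P Q : Subgroup Ω} (f : Ω → Ω) (h : P ≤ Q) : fimg f P ≤ fimg f Q :=
  fimg_le fun _ hx => apply_mem_fimg f (h hx)

theorem fimg_congr {P : Subgroup Ω} {f g : Ω → Ω} (h : ∀ x ∈ P, f x = g x) :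
    fimg f P = fimg g P := by
  unfold fimg
  congr 1
  exact Set.image_congr h

variable {F : FusionSystem S}

theorem isMap_toFun {P : Subgroup Ω} {φ : P →* Ω} (hφ : φ ∈ F.Hom P) : IsMap F P (toFun φ) :=
  ⟨φ, hφ, fun x => (toFun_coe φ x).symm⟩

theorem mem_hom_of_isMap {P : Subgroup Ω} {φ : P →* Ω} {f : Ω → Ω} (hf : IsMap F P f)
    (h : ∀ x : P, φ x = f x) : φ ∈ F.Hom P := by
  obtain ⟨ψ, hψ, hψf⟩ := hf
  have : φ = ψ := MonoidHom.ext fun x => (h x).trans (hψf x).symm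
  exact this ▸ hψ

theorem mem_hom_iff {P : Subgroup Ω} {φ : P →* Ω} : φ ∈ F.Hom P ↔ IsMap F P (toFun φ) :=
  ⟨isMap_toFun, fun h => mem_hom_of_isMap h fun x => (toFun_coe φ x).symm⟩

/-- Two systems with the same maps are equal. -/
theorem eq_of_hom_eq {F E : FusionSystem S} (h : ∀ P, F.Hom P = E.Hom P) : F = E := by
  cases F; cases E
  congr
  exact funext h

theorem eq_of_le_of_le {F E : FusionSystem S} (h₁ : F ≤ E) (h₂ : E ≤ F) : F = E :=
  eq_of_hom_eq fun P => Set.Subset.antisymm (h₁ P) (h₂ P)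

/-- An inclusion of systems, in the function language. -/
theorem IsMap.mono {T : Subgroup Ω} {E : FusionSystem T} (h : E.IsSubsystemOf F) {P : Subgroup Ω}
    {f : Ω → Ω} (hf : IsMap E P f) : IsMap F P f :=
  let ⟨φ, hφ, e⟩ := hf; ⟨φ, h P hφ, e⟩

namespace IsMap

variable {P Q R : Subgroup Ω} {f g : Ω → Ω}

theorem source_le (hf : IsMap F P f) : P ≤ S :=
  let ⟨_, hφ, _⟩ := hf; (F.le_of_mem hφ).1

theorem apply_mem (hf : IsMap F P f) {x : Ω} (hx : x ∈ P) : f x ∈ S := by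
  obtain ⟨φ, hφ, e⟩ := hf
  rw [← e ⟨x, hx⟩]
  exact (F.le_of_mem hφ).2 _

theorem map_mul (hf : IsMap F P f) {x y : Ω} (hx : x ∈ P) (hy : y ∈ P) :
    f (x * y) = f x * f y := by
  obtain ⟨φ, _, e⟩ := hf
  rw [← e ⟨x, hx⟩, ← e ⟨y, hy⟩, ← e ⟨x * y, P.mul_mem hx hy⟩, ← _root_.map_mul φ]
  rfl

theorem map_one (hf : IsMap F P f) : f 1 = 1 := by
  obtain ⟨φ, _, e⟩ := hf
  rw [← e ⟨1, P.one_mem⟩]
  exact φ.map_one

theorem map_inv (hf : IsMap F P f) {x : Ω} (hx : x ∈ P) : f x⁻¹ = (f x)⁻¹ := by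
  apply eq_inv_of_mul_eq_one_left
  rw [← hf.map_mul (P.inv_mem hx) hx, inv_mul_cancel, hf.map_one]

theorem injOn (hf : IsMap F P f) {x y : Ω} (hx : x ∈ P) (hy : y ∈ P) (h : f x = f y) : x = y := by
  obtain ⟨φ, hφ, e⟩ := hf
  rw [← e ⟨x, hx⟩, ← e ⟨y, hy⟩] at h
  exact congrArg Subtype.val (F.injective_of_mem hφ h)

theorem map_conj (hf : IsMap F P f) {x y : Ω} (hx : x ∈ P) (hy : y ∈ P) :
    f (x * y * x⁻¹) = f x * f y * (f x)⁻¹ := by
  rw [hf.map_mul (P.mul_mem hx hy) (P.inv_mem hx), hf.map_mul hx hy, hf.map_inv hx]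

theorem congr (hf : IsMap F P f) (h : ∀ x ∈ P, f x = g x) : IsMap F P g :=
  let ⟨φ, hφ, e⟩ := hf; ⟨φ, hφ, fun x => (e x).trans (h x x.2)⟩

/-- The homomorphism behind a map. -/
theorem exists_hom (hf : IsMap F P f) : ∃ φ ∈ F.Hom P, ∀ x : P, φ x = f x := hf

theorem comp (hf : IsMap F P f) (hg : IsMap F Q g) (h : ∀ x ∈ P, f x ∈ Q) :
    IsMap F P (fun x => g (f x)) := by
  obtain ⟨φ, hφ, e⟩ := hf
  obtain ⟨ψ, hψ, e'⟩ := hg
  refine ⟨_, F.comp_mem hφ hψ (fun x => by rw [e]; exact h x x.2), fun x => ?_⟩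
  show ψ (φ.codRestrict Q _ x) = g (f x)
  rw [e']
  show g (φ x) = g (f x)
  rw [e]

theorem res (hf : IsMap F P f) (h : Q ≤ P) : IsMap F Q f := by
  have hQ : Q ≤ S := h.trans hf.source_le
  have h1 : IsMap F Q (fun x => (1 : Ω) * x * (1 : Ω)⁻¹) :=
    ⟨_, F.conj_mem hQ S.one_mem, fun x => rfl⟩
  refine (h1.comp hf fun x hx => by simpa using h hx).congr fun x _ => by simp

theorem mem_fimg_iff (hf : IsMap F P f) {y : Ω} : y ∈ fimg f P ↔ ∃ x ∈ P, f x = y := by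
  refine ⟨fun hy => ?_, fun ⟨x, hx, e⟩ => e ▸ apply_mem_fimg f hx⟩
  induction hy using Subgroup.closure_induction with
  | mem x hx => exact hx
  | one => exact ⟨1, P.one_mem, hf.map_one⟩
  | mul x y _ _ ihx ihy =>
    obtain ⟨a, ha, rfl⟩ := ihx
    obtain ⟨b, hb, rfl⟩ := ihy
    exact ⟨a * b, P.mul_mem ha hb, hf.map_mul ha hb⟩
  | inv x _ ihx =>
    obtain ⟨a, ha, rfl⟩ := ihx
    exact ⟨a⁻¹, P.inv_mem ha, hf.map_inv ha⟩

theorem coe_fimg (hf : IsMap F P f) : (fimg f P : Set Ω) = f '' (P : Set Ω) :=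
  Set.ext fun _ => hf.mem_fimg_iff

theorem fimg_le_S (hf : IsMap F P f) : fimg f P ≤ S := fimg_le fun _ hx => hf.apply_mem hx

theorem range_eq_fimg (hf : IsMap F P f) {φ : P →* Ω} (e : ∀ x : P, φ x = f x) :
    φ.range = fimg f P := by
  ext y
  rw [hf.mem_fimg_iff, MonoidHom.mem_range]
  exact ⟨fun ⟨x, hx⟩ => ⟨x, x.2, (e x).symm.trans hx⟩,
    fun ⟨x, hx, hy⟩ => ⟨⟨x, hx⟩, (e _).trans hy⟩⟩

theorem fimg_comp (hf : IsMap F P f) (g : Ω → Ω) :
    fimg (fun x => g (f x)) P = fimg g (fimg f P) := by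
  conv_rhs => unfold fimg; rw [show ((Subgroup.closure (f '' (P : Set Ω)) : Subgroup Ω) : Set Ω)
    = f '' (P : Set Ω) from hf.coe_fimg]
  unfold fimg
  rw [← Set.image_image g f]

theorem card_fimg (hf : IsMap F P f) : Nat.card (fimg f P) = Nat.card P := by
  obtain ⟨φ, hφ, e⟩ := hf.exists_hom
  rw [← hf.range_eq_fimg e]
  exact Nat.card_congr (MonoidHom.ofInjective (F.injective_of_mem hφ)).toEquiv.symm

/-- Every map has an inverse defined on its image. -/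
theorem exists_inv (hf : IsMap F P f) : ∃ g, IsMap F (fimg f P) g ∧ (∀ x ∈ P, g (f x) = x) ∧
    (∀ y ∈ fimg f P, g y ∈ P ∧ f (g y) = y) ∧ fimg g (fimg f P) = P := by
  obtain ⟨φ, hφ, e⟩ := hf.exists_hom
  obtain ⟨ψ, hψ, hinv⟩ := F.inv_mem hφ
  have hr := hf.range_eq_fimg e
  have hg : IsMap F (fimg f P) (toFun ψ) := hr ▸ isMap_toFun hψ
  have h1 : ∀ x ∈ P, toFun ψ (f x) = x := by
    intro x hx
    rw [← e ⟨x, hx⟩, toFun_apply ψ ⟨⟨x, hx⟩, rfl⟩]
    exact hinv ⟨x, hx⟩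
  have h2 : ∀ y ∈ fimg f P, toFun ψ y ∈ P ∧ f (toFun ψ y) = y := by
    intro y hy
    obtain ⟨x, hx, rfl⟩ := hf.mem_fimg_iff.1 hy
    rw [h1 x hx]
    exact ⟨hx, rfl⟩
  refine ⟨_, hg, h1, h2, le_antisymm (fimg_le fun y hy => (h2 y hy).1) fun x hx => ?_⟩
  rw [← h1 x hx]
  exact apply_mem_fimg _ (apply_mem_fimg f hx)

end IsMap

theorem isMap_conj (F : FusionSystem S) {P : Subgroup Ω} {g : Ω} (hP : P ≤ S) (hg : g ∈ S) :
    IsMap F P (fun x => g * x * g⁻¹) :=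
  ⟨_, F.conj_mem hP hg, fun _ => rfl⟩

theorem isMap_id (F : FusionSystem S) {P : Subgroup Ω} (hP : P ≤ S) : IsMap F P (fun x => x) :=
  (isMap_conj F hP S.one_mem).congr fun x _ => by simp

theorem fimg_id (P : Subgroup Ω) : fimg (fun x => x) P = P := by
  simp [fimg]

theorem subtype_mem (F : FusionSystem S) {P : Subgroup Ω} (hP : P ≤ S) : P.subtype ∈ F.Hom P :=
  mem_hom_of_isMap (isMap_id F hP) fun _ => rfl

theorem mem_fimg_conj {P : Subgroup Ω} {g y : Ω} :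
    y ∈ fimg (fun x => g * x * g⁻¹) P ↔ g⁻¹ * y * g ∈ P := by
  have : fimg (fun x => g * x * g⁻¹) P = P.map (MulAut.conj g).toMonoidHom := by
    apply le_antisymm
    · exact fimg_le fun x hx => ⟨x, hx, rfl⟩
    · rintro _ ⟨x, hx, rfl⟩; exact apply_mem_fimg (fun x => g * x * g⁻¹) hx
  rw [this, Subgroup.mem_map]
  constructor
  · rintro ⟨x, hx, rfl⟩
    show g⁻¹ * (g * x * g⁻¹) * g ∈ P
    rwa [show g⁻¹ * (g * x * g⁻¹) * g = x by group]
  · intro h
    refine ⟨_, h, ?_⟩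
    show g * (g⁻¹ * y * g) * g⁻¹ = y
    group

theorem fimg_conj_eq_map {P : Subgroup Ω} (g : Ω) :
    fimg (fun x => g * x * g⁻¹) P = P.map (MulAut.conj g).toMonoidHom := by
  apply le_antisymm
  · exact fimg_le fun x hx => ⟨x, hx, rfl⟩
  · rintro _ ⟨x, hx, rfl⟩; exact apply_mem_fimg (fun x => g * x * g⁻¹) hx

/-! ### Conjugacy in the system -/

theorem isConj_iff {P Q : Subgroup Ω} :
    F.IsConj P Q ↔ ∃ f, IsMap F P f ∧ fimg f P = Q := by
  constructor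
  · rintro ⟨φ, hφ, rfl⟩
    exact ⟨_, isMap_toFun hφ, ((isMap_toFun hφ).range_eq_fimg fun x => (toFun_coe φ x).symm).symm⟩
  · rintro ⟨f, hf, rfl⟩
    obtain ⟨φ, hφ, e⟩ := hf.exists_hom
    exact ⟨φ, hφ, hf.range_eq_fimg e⟩

theorem IsMap.isConj {P : Subgroup Ω} {f : Ω → Ω} (hf : IsMap F P f) : F.IsConj P (fimg f P) :=
  isConj_iff.2 ⟨f, hf, rfl⟩

theorem isConj_refl (F : FusionSystem S) {P : Subgroup Ω} (hP : P ≤ S) : F.IsConj P P :=
  isConj_iff.2 ⟨_, isMap_id F hP, fimg_id P⟩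

theorem isConj_le_left {P Q : Subgroup Ω} (h : F.IsConj P Q) : P ≤ S := by
  obtain ⟨f, hf, _⟩ := isConj_iff.1 h; exact hf.source_le

theorem isConj_le_right {P Q : Subgroup Ω} (h : F.IsConj P Q) : Q ≤ S := by
  obtain ⟨f, hf, rfl⟩ := isConj_iff.1 h; exact hf.fimg_le_S

theorem isConj_symm {P Q : Subgroup Ω} (h : F.IsConj P Q) : F.IsConj Q P := by
  obtain ⟨f, hf, rfl⟩ := isConj_iff.1 h
  obtain ⟨g, hg, -, -, he⟩ := hf.exists_inv
  exact isConj_iff.2 ⟨g, hg, he⟩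

theorem isConj_trans {P Q R : Subgroup Ω} (h₁ : F.IsConj P Q) (h₂ : F.IsConj Q R) :
    F.IsConj P R := by
  obtain ⟨f, hf, rfl⟩ := isConj_iff.1 h₁
  obtain ⟨g, hg, rfl⟩ := isConj_iff.1 h₂
  exact isConj_iff.2 ⟨_, hf.comp hg fun x hx => apply_mem_fimg f hx, hf.fimg_comp g⟩

theorem isConj_card {P Q : Subgroup Ω} (h : F.IsConj P Q) : Nat.card Q = Nat.card P := by
  obtain ⟨f, hf, rfl⟩ := isConj_iff.1 h; exact hf.card_fimg

/-! ### Automorphism groups -/

/-- An automorphism of `P` as a function on `Ω`. -/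
noncomputable def autFun {P : Subgroup Ω} (α : MulAut P) : Ω → Ω :=
  toFun (P.subtype.comp α.toMonoidHom)

@[simp] theorem autFun_coe {P : Subgroup Ω} (α : MulAut P) (x : P) :
    autFun α (x : Ω) = (α x : Ω) := toFun_coe _ x

theorem autFun_mem {P : Subgroup Ω} (α : MulAut P) {x : Ω} (hx : x ∈ P) : autFun α x ∈ P := by
  rw [show x = ((⟨x, hx⟩ : P) : Ω) from rfl, autFun_coe]; exact SetLike.coe_mem _

theorem autFun_mul {P : Subgroup Ω} (α β : MulAut P) {x : Ω} (hx : x ∈ P) :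
    autFun (α * β) x = autFun α (autFun β x) := by
  rw [show x = ((⟨x, hx⟩ : P) : Ω) from rfl, autFun_coe, autFun_coe, autFun_coe]; rfl

theorem autFun_inv_apply {P : Subgroup Ω} (α : MulAut P) {x : Ω} (hx : x ∈ P) :
    autFun α⁻¹ (autFun α x) = x := by
  rw [← autFun_mul _ _ hx, inv_mul_cancel, show x = ((⟨x, hx⟩ : P) : Ω) from rfl, autFun_coe]
  rfl

theorem fimg_autFun {P : Subgroup Ω} (α : MulAut P) : fimg (autFun α) P = P := by
  refine le_antisymm (fimg_le fun x hx => autFun_mem α hx) fun x hx => ?_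
  have := apply_mem_fimg (autFun α) (autFun_mem α⁻¹ hx) (P := P)
  rwa [← autFun_mul _ _ hx, mul_inv_cancel, show x = ((⟨x, hx⟩ : P) : Ω) from rfl, autFun_coe]
    at this

theorem autFun_one {P : Subgroup Ω} {x : Ω} (hx : x ∈ P) : autFun (1 : MulAut P) x = x := by
  rw [show x = ((⟨x, hx⟩ : P) : Ω) from rfl, autFun_coe]; rfl

theorem mulAut_ext {P : Subgroup Ω} {α β : MulAut P} (h : ∀ x ∈ P, autFun α x = autFun β x) :
    α = β := by
  refine MulEquiv.ext fun x => Subtype.ext ?_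
  have := h x x.2
  rwa [autFun_coe, autFun_coe] at this

theorem mem_autGroup {P : Subgroup Ω} (hP : P ≤ S) {α : MulAut P} :
    α ∈ F.autGroup P ↔ IsMap F P (autFun α) := by
  refine ⟨fun h => ?_, fun h => subset_closure (mem_hom_iff.2 h)⟩
  induction h using Subgroup.closure_induction with
  | mem a ha => exact mem_hom_iff.1 ha
  | one => exact (isMap_id F hP).congr fun x hx => (autFun_one hx).symm
  | mul a b _ _ iha ihb =>
    exact (ihb.comp iha fun x hx => autFun_mem b hx).congr fun x hx => (autFun_mul a b hx).symm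
  | inv a _ iha =>
    obtain ⟨g, hg, hg1, -, -⟩ := iha.exists_inv
    rw [fimg_autFun] at hg
    refine hg.congr fun x hx => ?_
    have h1 := hg1 _ (autFun_mem a⁻¹ hx)
    rwa [← autFun_mul _ _ hx, mul_inv_cancel, autFun_one hx] at h1

theorem autGroup_eq_bot {P : Subgroup Ω} (hP : ¬ P ≤ S) : F.autGroup P = ⊥ := by
  unfold FusionSystem.autGroup
  rw [Subgroup.closure_eq_bot_iff]
  intro α hα
  exact absurd (F.le_of_mem hα).1 hP

theorem autGroup_mono {T : Subgroup Ω} {E : FusionSystem T} (h : E.IsSubsystemOf F)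
    (P : Subgroup Ω) : E.autGroup P ≤ F.autGroup P :=
  Subgroup.closure_mono fun _ hα => h P hα

/-- A map carrying `P` onto itself gives an automorphism in the automorphism group. -/
theorem IsMap.exists_aut {P : Subgroup Ω} {f : Ω → Ω} (hf : IsMap F P f) (h : fimg f P = P) :
    ∃ α ∈ F.autGroup P, ∀ x ∈ P, autFun α x = f x := by
  obtain ⟨g, -, hg1, hg2, -⟩ := hf.exists_inv
  rw [h] at hg2
  have hfP : ∀ x ∈ P, f x ∈ P := fun x hx => h ▸ apply_mem_fimg f hx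
  let α : MulAut P :=
    { toFun := fun x => ⟨f x, hfP x x.2⟩
      invFun := fun x => ⟨g x, (hg2 x x.2).1⟩
      left_inv := fun x => Subtype.ext (hg1 x x.2)
      right_inv := fun x => Subtype.ext (hg2 x x.2).2
      map_mul' := fun x y => Subtype.ext (hf.map_mul x.2 y.2) }
  have e : ∀ x ∈ P, autFun α x = f x := fun x hx => by
    rw [show x = ((⟨x, hx⟩ : P) : Ω) from rfl, autFun_coe]; rfl
  exact ⟨α, (mem_autGroup hf.source_le).2 (hf.congr fun x hx => (e x hx).symm), e⟩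

theorem mem_autInducedBy {K P : Subgroup Ω} {α : MulAut P} :
    α ∈ autInducedBy K P ↔ ∃ g ∈ K, ∀ x : P, ((α x : P) : Ω) = g * (x : Ω) * g⁻¹ := by
  refine ⟨fun h => ?_, fun h => subset_closure h⟩
  induction h using Subgroup.closure_induction with
  | mem a ha => exact ha
  | one => exact ⟨1, K.one_mem, fun x => by simp⟩
  | mul a b _ _ iha ihb =>
    obtain ⟨g, hg, hga⟩ := iha
    obtain ⟨k, hk, hkb⟩ := ihb
    refine ⟨g * k, K.mul_mem hg hk, fun x => ?_⟩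
    rw [MulAut.mul_apply, hga, hkb]
    group
  | inv a _ iha =>
    obtain ⟨g, hg, hga⟩ := iha
    refine ⟨g⁻¹, K.inv_mem hg, fun x => ?_⟩
    have := hga (a⁻¹ x)
    rw [MulAut.apply_inv_self] at this
    rw [this]
    group

theorem normalizerMonoidHom_apply {P : Subgroup Ω} (g : Subgroup.normalizer (P : Set Ω)) (x : P) :
    ((P.normalizerMonoidHom g x : P) : Ω) = (g : Ω) * x * (g : Ω)⁻¹ := rfl

theorem mem_normalizer_of_conj_aut {P : Subgroup Ω} {α : MulAut P} {g : Ω}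
    (h : ∀ x : P, ((α x : P) : Ω) = g * (x : Ω) * g⁻¹) :
    g ∈ Subgroup.normalizer (P : Set Ω) := by
  refine Subgroup.mem_normalizer_iff.2 fun n => ⟨fun hn => ?_, fun hn => ?_⟩
  · rw [← h ⟨n, hn⟩]; exact SetLike.coe_mem _
  · have := h (α⁻¹ ⟨_, hn⟩)
    rw [MulAut.apply_inv_self] at this
    have h2 : n = ((α⁻¹ ⟨_, hn⟩ : P) : Ω) := mul_left_cancel (mul_right_cancel this)
    rw [h2]; exact SetLike.coe_mem _

theorem autInducedBy_eq_map (K P : Subgroup Ω) :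
    autInducedBy K P = (K.subgroupOf (Subgroup.normalizer (P : Set Ω))).map
      P.normalizerMonoidHom := by
  ext α
  rw [mem_autInducedBy, Subgroup.mem_map]
  constructor
  · rintro ⟨g, hg, h⟩
    refine ⟨⟨g, mem_normalizer_of_conj_aut h⟩, hg, ?_⟩
    exact MulEquiv.ext fun x => Subtype.ext (h x).symm
  · rintro ⟨g, hg, rfl⟩
    exact ⟨g, hg, fun x => normalizerMonoidHom_apply g x⟩

theorem autInducedBy_le_autGroup (F : FusionSystem S) {P : Subgroup Ω} (hP : P ≤ S) :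
    autInducedBy S P ≤ F.autGroup P := by
  intro α hα
  obtain ⟨g, hg, h⟩ := mem_autInducedBy.1 hα
  refine (mem_autGroup hP).2 ((isMap_conj F hP hg).congr fun x hx => ?_)
  rw [show x = ((⟨x, hx⟩ : P) : Ω) from rfl, autFun_coe]
  exact (h ⟨x, hx⟩).symm

theorem autInducedBy_mono {K L : Subgroup Ω} (h : K ≤ L) (P : Subgroup Ω) :
    autInducedBy K P ≤ autInducedBy L P := fun _ hα => by
  obtain ⟨g, hg, e⟩ := mem_autInducedBy.1 hα
  exact mem_autInducedBy.2 ⟨g, h hg, e⟩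

theorem inn_eq_autInducedBy (P : Subgroup Ω) : Inn P = autInducedBy P P := by
  ext α
  rw [mem_autInducedBy]
  constructor
  · rintro ⟨g, rfl⟩
    exact ⟨g, g.2, fun x => rfl⟩
  · rintro ⟨g, hg, h⟩
    exact ⟨⟨g, hg⟩, MulEquiv.ext fun x => Subtype.ext (h x).symm⟩

theorem mem_extender {P : Subgroup Ω} {φ : P →* Ω} {g : Ω} :
    g ∈ FusionSystem.extender S P φ ↔
      g ∈ S ∧ g ∈ Subgroup.normalizer (P : Set Ω) ∧
        ∃ h ∈ S, ∀ x ∈ P, toFun φ (g * x * g⁻¹) = h * toFun φ x * h⁻¹ := by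
  have key : ∀ g ∈ Subgroup.normalizer (P : Set Ω),
      ((∃ h ∈ S, ∀ (x : P) (hx : g * (x : Ω) * g⁻¹ ∈ P), φ ⟨g * x * g⁻¹, hx⟩ = h * φ x * h⁻¹) ↔
      ∃ h ∈ S, ∀ x ∈ P, toFun φ (g * x * g⁻¹) = h * toFun φ x * h⁻¹) := by
    intro g hg
    refine exists_congr fun h => and_congr_right fun _ => ⟨fun H x hx => ?_, fun H x hx => ?_⟩
    · have hgx := (Subgroup.mem_normalizer_iff.1 hg x).1 hx
      rw [toFun_apply φ hgx, toFun_apply φ hx]
      exact H ⟨x, hx⟩ hgx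
    · have := H x x.2
      rwa [toFun_apply φ hx, toFun_coe] at this
  constructor
  · intro hg
    induction hg using Subgroup.closure_induction with
    | mem a ha => exact ⟨ha.1, ha.2.1, (key a ha.2.1).1 ha.2.2⟩
    | one => exact ⟨S.one_mem, Subgroup.one_mem _, 1, S.one_mem, fun x _ => by simp⟩
    | mul a b _ _ iha ihb =>
      obtain ⟨haS, haN, h, hh, ha⟩ := iha
      obtain ⟨hbS, hbN, k, hk, hb⟩ := ihb
      refine ⟨S.mul_mem haS hbS, Subgroup.mul_mem _ haN hbN, h * k, S.mul_mem hh hk, fun x hx => ?_⟩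
      have := ha _ ((Subgroup.mem_normalizer_iff.1 hbN x).1 hx)
      rw [hb x hx] at this
      rw [show a * b * x * (a * b)⁻¹ = a * (b * x * b⁻¹) * a⁻¹ by group, this]
      group
    | inv a _ iha =>
      obtain ⟨haS, haN, h, hh, ha⟩ := iha
      refine ⟨S.inv_mem haS, Subgroup.inv_mem _ haN, h⁻¹, S.inv_mem hh, fun x hx => ?_⟩
      have := ha _ ((Subgroup.mem_normalizer_iff.1 (Subgroup.inv_mem _ haN) x).1 hx)
      rw [show a * (a⁻¹ * x * a⁻¹⁻¹) * a⁻¹ = x by group] at this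
      rw [this]
      group
  · rintro ⟨h1, h2, h3⟩
    exact subset_closure ⟨h1, h2, (key g h2).2 h3⟩

theorem extender_le_normalizerIn {P : Subgroup Ω} (φ : P →* Ω) :
    FusionSystem.extender S P φ ≤ FusionSystem.normalizerIn S P := fun _ hg => by
  obtain ⟨h1, h2, -⟩ := mem_extender.1 hg
  exact ⟨h1, h2⟩

theorem mem_normalizerIn {P : Subgroup Ω} {g : Ω} :
    g ∈ FusionSystem.normalizerIn S P ↔ g ∈ S ∧ ∀ x, x ∈ P ↔ g * x * g⁻¹ ∈ P :=
  Iff.rfl.and Subgroup.mem_normalizer_iff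

theorem mem_centralizerIn {P : Subgroup Ω} {g : Ω} :
    g ∈ FusionSystem.centralizerIn S P ↔ g ∈ S ∧ ∀ x ∈ P, x * g = g * x :=
  Iff.rfl.and Subgroup.mem_centralizer_iff

theorem le_normalizerIn {P : Subgroup Ω} (hP : P ≤ S) : P ≤ FusionSystem.normalizerIn S P :=
  le_inf hP Subgroup.le_normalizer

theorem centralizerIn_le_normalizerIn (P : Subgroup Ω) :
    FusionSystem.centralizerIn S P ≤ FusionSystem.normalizerIn S P :=
  inf_le_inf_left _ (Subgroup.centralizer_le_normalizer _)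

theorem finite_of_le [Finite S] {P : Subgroup Ω} (hP : P ≤ S) : Finite P :=
  Finite.of_injective _ (Subgroup.inclusion_injective hP)

end Cfsg.Agent.Fus
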