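import Cfsg.Agent.Lib.Fus.GroupLocal

/-!
Weak closure of the Thompson subgroup in a Sylow subgroup.
-/

set_option autoImplicit false
set_option linter.style.haveILetI false

open scoped Classical

namespace Cfsg.Agent.Fus

open Subgroup

variable {X : Type*} [Group X]

theorem isElementaryAbelian_map {Y : Type*} [Group Y] {p : ℕ} (f : X →* Y) {A : Subgroup X}
    (hA : IsElementaryAbelian p A) : IsElementaryAbelian p (A.map f) := by
  refine ⟨⟨⟨?_⟩⟩, ?_⟩
  · rintro ⟨_, a, ha, rfl⟩ ⟨_, b, hb, rfl⟩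
    refine Subtype.ext ?_
    show f a * f b = f b * f a
    rw [← map_mul, ← map_mul]
    exact congrArg f (congrArg Subtype.val (hA.1.is_comm.comm ⟨a, ha⟩ ⟨b, hb⟩))
  · rintro _ ⟨a, ha, rfl⟩
    rw [← map_pow, hA.2 a ha, map_one]

theorem isPGroup_of_isElementaryAbelian {p : ℕ} {A : Subgroup X} (hA : IsElementaryAbelian p A) :
    IsPGroup p A := fun a => ⟨1, Subtype.ext (by rw [pow_one, SubgroupClass.coe_pow]; exact hA.2 a a.2)⟩

theorem thompsonSubgroupOf_le (p : ℕ) (P : Subgroup X) : thompsonSubgroupOf p P ≤ P :=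
  Subgroup.map_subtype_le _

theorem isElementaryAbelian_subgroupOf {p : ℕ} {A K : Subgroup X} (hA : IsElementaryAbelian p A) :
    IsElementaryAbelian p (A.subgroupOf K) := by
  refine ⟨⟨⟨fun x y => Subtype.ext (Subtype.ext ?_)⟩⟩, fun x hx => Subtype.ext (hA.2 _ hx)⟩
  show ((x : K) : X) * ((y : K) : X) = ((y : K) : X) * ((x : K) : X)
  exact congrArg Subtype.val (hA.1.is_comm.comm ⟨((x : K) : X), x.2⟩ ⟨((y : K) : X), y.2⟩)

variable [Finite X] {p : ℕ} [Fact p.Prime] (P : Sylow p X)

theorem isElementaryAbelian_le_thompson {A : Subgroup X} (hA : IsElementaryAbelian p A)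
    (hAP : A ≤ (P : Subgroup X))
    (hmax : ∀ B : Subgroup X, IsElementaryAbelian p B → Nat.card B ≤ Nat.card A) :
    A ≤ thompsonSubgroupOf p (P : Subgroup X) := by
  intro a ha
  refine ⟨⟨a, hAP ha⟩, le_sSup (a := A.subgroupOf (P : Subgroup X)) ?_ ha, rfl⟩
  refine ⟨?_, fun B hB => ?_⟩
  · exact isElementaryAbelian_subgroupOf hA
  · rw [Nat.card_congr (Subgroup.subgroupOfEquivOfLe hAP).toEquiv,
      ← Subgroup.card_map_of_injective (K := B) (f := (P : Subgroup X).subtype) Subtype.coe_injective]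
    exact hmax _ (isElementaryAbelian_map _ hB)

/-- `J(P)` is weakly closed in `P`: any conjugate lying in a `p`-group together with it is equal
to it. -/
theorem thompson_conj_eq {R : Subgroup X} (hR : IsPGroup p R) {g : X}
    (h₁ : thompsonSubgroupOf p (P : Subgroup X) ≤ R)
    (h₂ : (thompsonSubgroupOf p (P : Subgroup X)).map (MulAut.conj g).toMonoidHom ≤ R) :
    (thompsonSubgroupOf p (P : Subgroup X)).map (MulAut.conj g).toMonoidHom =
      thompsonSubgroupOf p (P : Subgroup X) := by
  obtain ⟨h, -, hh⟩ := (isSylowOf_top P).exists_conj_le hR le_top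
  set J := thompsonSubgroupOf p (P : Subgroup X) with hJ
  have hmove : ∀ a : X, J.map (MulAut.conj a).toMonoidHom ≤ R →
      J.map (MulAut.conj (h * a)).toMonoidHom ≤ J := by
    intro a ha
    refine Subgroup.map_le_iff_le_comap.2 (Subgroup.map_le_iff_le_comap.2 (sSup_le fun A hA =>
      Subgroup.map_le_iff_le_comap.1 (Subgroup.map_le_iff_le_comap.1 ?_)))
    rw [Subgroup.map_map]
    have hmax : ∀ B : Subgroup X, IsElementaryAbelian p B → Nat.card B ≤ Nat.card A := by
      intro B hB
      obtain ⟨b, -, hb⟩ := (isSylowOf_top P).exists_conj_le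
        (isPGroup_of_isElementaryAbelian hB) le_top
      have h3 := hA.2 ((B.map (MulAut.conj b).toMonoidHom).subgroupOf (P : Subgroup X))
        (isElementaryAbelian_subgroupOf (isElementaryAbelian_map _ hB))
      rwa [Nat.card_congr (Subgroup.subgroupOfEquivOfLe hb).toEquiv, card_conjMap] at h3
    have hle : A.map ((MulAut.conj (h * a)).toMonoidHom.comp (P : Subgroup X).subtype) ≤
        (P : Subgroup X) := by
      rintro _ ⟨x, hx, rfl⟩
      have hxJ : (x : X) ∈ J := ⟨x, le_sSup hA hx, rfl⟩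
      have := hh ⟨_, ha ⟨_, hxJ, rfl⟩, rfl⟩
      simpa [mul_assoc] using this
    refine isElementaryAbelian_le_thompson P (isElementaryAbelian_map _ hA.1) hle ?_
    intro B hB
    rw [Subgroup.card_map_of_injective (K := A)
      (f := (MulAut.conj (h * a)).toMonoidHom.comp (P : Subgroup X).subtype)
      (fun x y hxy => Subtype.ext ((MulAut.conj (h * a)).injective hxy))]
    exact hmax B hB
  have e1 : J.map (MulAut.conj h).toMonoidHom = J := by
    refine Subgroup.eq_of_le_of_card_ge ?_ (card_conjMap _ _).ge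
    have := hmove 1 (by rintro _ ⟨x, hx, rfl⟩; simpa using h₁ hx)
    rwa [mul_one] at this
  have e2 : J.map (MulAut.conj (h * g)).toMonoidHom = J :=
    Subgroup.eq_of_le_of_card_ge (hmove g h₂) (card_conjMap _ _).ge
  rw [← conjMap_comp] at e2
  exact Subgroup.map_injective (f := (MulAut.conj h).toMonoidHom) (MulAut.conj h).injective
    (e2.trans e1.symm)

end Cfsg.Agent.Fus
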