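import Mathlib
import Cfsg.Agent.Lib.Lie.Sl2PresNormal

/-!
Two elements of order `p` whose powers satisfy the braid relations `a^s c^(1/s) a^s =
c^(1/s) a^s c^(1/s)` generate an image of `SL₂(p)`.
-/

set_option autoImplicit false
set_option linter.style.haveILetI false
set_option linter.unusedSectionVars false
set_option linter.unusedSimpArgs false

namespace Cfsg.Agent.Fus.BraidSLTwo

open Lie.Sl2Pres

theorem zmod_two_eq_one : ∀ v : ZMod 2, v ≠ 0 → v = 1 := by decide

variable {p : ℕ} [Fact p.Prime] {G : Type*} [Group G]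

/-- The power of `x` to a residue class. -/
def zp (x : G) (t : ZMod p) : G := x ^ t.val

/-- The relations. -/
structure Braided (p : ℕ) [Fact p.Prime] (a c : G) : Prop where
  pow_a : a ^ p = 1
  pow_c : c ^ p = 1
  braid : ∀ s : ZMod p, s ≠ 0 →
    zp a s * zp c s⁻¹ * zp a s = zp c s⁻¹ * zp a s * zp c s⁻¹

theorem zp_one (x : G) : zp x (1 : ZMod p) = x := by
  haveI := Fact.mk (Fact.out : p.Prime).one_lt
  rw [zp, ZMod.val_one, pow_one]

theorem zp_zero (x : G) : zp x (0 : ZMod p) = 1 := by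
  rw [zp, ZMod.val_zero, pow_zero]

theorem zp_add {x : G} (hx : x ^ p = 1) (s t : ZMod p) : zp x (s + t) = zp x s * zp x t := by
  rw [zp, zp, zp, ← pow_add, ZMod.val_add]
  conv_rhs => rw [← Nat.mod_add_div (s.val + t.val) p, pow_add, pow_mul, hx, one_pow, mul_one]

theorem zp_neg {x : G} (hx : x ^ p = 1) (s : ZMod p) : zp x (-s) = (zp x s)⁻¹ :=
  eq_inv_of_mul_eq_one_left (by rw [← zp_add hx, neg_add_cancel, zp_zero])

theorem zp_nat_mul {x : G} (hx : x ^ p = 1) (n : ℕ) (s : ZMod p) :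
    zp x ((n : ZMod p) * s) = zp x s ^ n := by
  induction n with
  | zero => rw [Nat.cast_zero, zero_mul, zp_zero, pow_zero]
  | succ n ih => rw [Nat.cast_succ, add_mul, one_mul, zp_add hx, ih, pow_succ]

theorem zp_map {H : Type*} [Group H] (f : G →* H) (x : G) (s : ZMod p) :
    f (zp x s) = zp (f x) s := map_pow f x _

section

variable {a c : G}

/-- The element exchanging the two subgroups. -/
def W (a c : G) (s : ZMod p) : G := zp a s * zp c s⁻¹ * zp a s

/-- The diagonal element. -/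
def H (a c : G) (s : (ZMod p)ˣ) : G := W a c (s : ZMod p) * (W a c (1 : ZMod p))⁻¹

variable (hb : Braided p a c)
include hb

theorem W_conj_self {s : ZMod p} (hs : s ≠ 0) :
    W a c s * zp a s = zp c s⁻¹ * W a c s ∧ W a c s * zp c s⁻¹ = zp a s * W a c s := by
  refine ⟨?_, ?_⟩
  · calc W a c s * zp a s = zp c s⁻¹ * zp a s * zp c s⁻¹ * zp a s := by rw [W, hb.braid s hs]
      _ = zp c s⁻¹ * W a c s := by rw [W]; group
  · calc W a c s * zp c s⁻¹ = zp a s * (zp c s⁻¹ * zp a s * zp c s⁻¹) := by rw [W]; group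
      _ = zp a s * W a c s := by rw [← hb.braid s hs, W]

theorem W_conj_a {s : ZMod p} (hs : s ≠ 0) (t : ZMod p) :
    W a c s * zp a t * (W a c s)⁻¹ = zp c (t / s ^ 2) := by
  have e : t = ((t / s).val : ZMod p) * s := by
    rw [ZMod.natCast_zmod_val, div_mul_cancel₀ t hs]
  have e2 : t / s ^ 2 = ((t / s).val : ZMod p) * s⁻¹ := by
    rw [ZMod.natCast_zmod_val]; field_simp
  rw [e2]
  conv_lhs => rw [e]
  rw [zp_nat_mul hb.pow_a, zp_nat_mul hb.pow_c, ← conj_pow, (W_conj_self hb hs).1,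
    mul_inv_cancel_right]

theorem W_conj_c {s : ZMod p} (hs : s ≠ 0) (t : ZMod p) :
    W a c s * zp c t * (W a c s)⁻¹ = zp a (t * s ^ 2) := by
  have e : t = ((t * s).val : ZMod p) * s⁻¹ := by
    rw [ZMod.natCast_zmod_val, mul_inv_cancel_right₀ hs]
  have e2 : t * s ^ 2 = ((t * s).val : ZMod p) * s := by
    rw [ZMod.natCast_zmod_val]; ring
  rw [e2]
  conv_lhs => rw [e]
  rw [zp_nat_mul hb.pow_a, zp_nat_mul hb.pow_c, ← conj_pow, (W_conj_self hb hs).2,
    mul_inv_cancel_right]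

theorem W_neg (s : ZMod p) : W a c (-s) = (W a c s)⁻¹ := by
  rw [W, W, inv_neg, zp_neg hb.pow_a, zp_neg hb.pow_c, mul_inv_rev, mul_inv_rev]
  group

theorem W_one_conj (t : ZMod p) :
    W a c (1 : ZMod p) * zp a t * (W a c (1 : ZMod p))⁻¹ = zp c t ∧
      W a c (1 : ZMod p) * zp c t * (W a c (1 : ZMod p))⁻¹ = zp a t :=
  ⟨by rw [W_conj_a hb one_ne_zero, one_pow, div_one],
    by rw [W_conj_c hb one_ne_zero, one_pow, mul_one]⟩

theorem H_conj_a (s : (ZMod p)ˣ) (t : ZMod p) :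
    H a c s * zp a t * (H a c s)⁻¹ = zp a ((s : ZMod p) ^ 2 * t) := by
  have h1 := (W_one_conj hb t).2
  rw [H, ← h1, show W a c (s : ZMod p) * (W a c (1 : ZMod p))⁻¹ *
      (W a c (1 : ZMod p) * zp c t * (W a c (1 : ZMod p))⁻¹) *
      (W a c (s : ZMod p) * (W a c (1 : ZMod p))⁻¹)⁻¹ =
        W a c (s : ZMod p) * zp c t * (W a c (s : ZMod p))⁻¹ by group,
    W_conj_c hb s.ne_zero, mul_comm]

theorem H_conj_c (s : (ZMod p)ˣ) (t : ZMod p) :
    H a c s * zp c t * (H a c s)⁻¹ = zp c (t / (s : ZMod p) ^ 2) := by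
  have h1 := (W_one_conj hb t).1
  conv_lhs => rw [← h1]
  rw [H, show W a c (s : ZMod p) * (W a c (1 : ZMod p))⁻¹ *
      (W a c (1 : ZMod p) * zp a t * (W a c (1 : ZMod p))⁻¹) *
      (W a c (s : ZMod p) * (W a c (1 : ZMod p))⁻¹)⁻¹ =
        W a c (s : ZMod p) * zp a t * (W a c (s : ZMod p))⁻¹ by group,
    W_conj_a hb s.ne_zero]

theorem H_conj_W (r : (ZMod p)ˣ) (s : ZMod p) :
    H a c r * W a c s * (H a c r)⁻¹ = W a c ((r : ZMod p) ^ 2 * s) := by
  calc H a c r * W a c s * (H a c r)⁻¹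
      = (H a c r * zp a s * (H a c r)⁻¹) * (H a c r * zp c s⁻¹ * (H a c r)⁻¹) *
          (H a c r * zp a s * (H a c r)⁻¹) := by rw [W]; group
    _ = W a c ((r : ZMod p) ^ 2 * s) := by
        rw [H_conj_a hb, H_conj_c hb, W, mul_inv, mul_comm ((r : ZMod p) ^ 2)⁻¹, div_eq_mul_inv]

theorem H_conj_H (r s : (ZMod p)ˣ) :
    H a c r * H a c s * (H a c r)⁻¹ = H a c (r ^ 2 * s) * (H a c (r ^ 2))⁻¹ := by
  have h1 := H_conj_W hb r (s : ZMod p)
  have h2 := H_conj_W hb r (1 : ZMod p)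
  calc H a c r * H a c s * (H a c r)⁻¹ = (H a c r * W a c (s : ZMod p) * (H a c r)⁻¹) *
        (H a c r * W a c (1 : ZMod p) * (H a c r)⁻¹)⁻¹ := by
          conv_lhs => rw [show H a c s = W a c (s : ZMod p) * (W a c (1 : ZMod p))⁻¹ from rfl]
          group
    _ = H a c (r ^ 2 * s) * (H a c (r ^ 2))⁻¹ := by
          rw [h1, h2, mul_one, H, H, Units.val_mul, Units.val_pow_eq_pow_val]
          group

theorem W_inv_conj (s : ZMod p) (hs : s ≠ 0) :
    W a c (1 : ZMod p) * W a c s * (W a c (1 : ZMod p))⁻¹ = W a c s⁻¹ := by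
  have h := hb.braid s⁻¹ (inv_ne_zero hs)
  rw [inv_inv] at h
  calc W a c (1 : ZMod p) * W a c s * (W a c (1 : ZMod p))⁻¹
      = (W a c (1 : ZMod p) * zp a s * (W a c (1 : ZMod p))⁻¹) *
        (W a c (1 : ZMod p) * zp c s⁻¹ * (W a c (1 : ZMod p))⁻¹) *
        (W a c (1 : ZMod p) * zp a s * (W a c (1 : ZMod p))⁻¹) := by
          conv_lhs => rw [show W a c s = zp a s * zp c s⁻¹ * zp a s from rfl]
          group
    _ = W a c s⁻¹ := by rw [(W_one_conj hb s).1, (W_one_conj hb s⁻¹).2, W, inv_inv, h]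

/-- The relation coming from the additivity of `c`. -/
theorem W_add {s s' : ZMod p} (hs : s ≠ 0) (hs' : s' ≠ 0) (hσ : s + s' ≠ 0) :
    W a c (-(s ^ 2 / (s + s'))) * W a c s * W a c s' = W a c (s * s' / (s + s')) := by
  have hc : ∀ {x : ZMod p}, x ≠ 0 →
      zp c x⁻¹ = (zp a x)⁻¹ * W a c x * (zp a x)⁻¹ := fun {x} hx => by rw [W]; group
  have hq : s * s' / (s + s') ≠ 0 := div_ne_zero (mul_ne_zero hs hs') hσ
  have h0 : zp c (s * s' / (s + s'))⁻¹ = zp c s⁻¹ * zp c s'⁻¹ := by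
    rw [← zp_add hb.pow_c]
    congr 1
    field_simp
    ring
  rw [hc hq, hc hs, hc hs'] at h0
  set q := s * s' / (s + s') with hqdef
  set e := s ^ 2 / (s + s') with hedef
  set e' := s' ^ 2 / (s + s') with hedef'
  have he : e ≠ 0 := div_ne_zero (pow_ne_zero 2 hs) hσ
  -- pull the middle translation through `W s`
  have hmid : W a c s * (zp a (s + s'))⁻¹ = zp a e * W a c (-e) * zp a e * W a c s := by
    have h1 := W_conj_a hb hs (-(s + s'))
    have h2 : -(s + s') / s ^ 2 = (-e)⁻¹ := by rw [hedef]; field_simp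
    rw [h2] at h1
    rw [← zp_neg hb.pow_a, mul_inv_eq_iff_eq_mul.1 h1, hc (neg_ne_zero.2 he),
      zp_neg hb.pow_a]
    group
  -- pull the next one through both
  have hpush : zp a e * (W a c s * W a c s') = W a c s * W a c s' * zp a e' := by
    have h1 : W a c s * W a c s' * zp a e' * (W a c s * W a c s')⁻¹ = zp a e := by
      calc W a c s * W a c s' * zp a e' * (W a c s * W a c s')⁻¹
          = W a c s * (W a c s' * zp a e' * (W a c s')⁻¹) * (W a c s)⁻¹ := by group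
        _ = _ := by
          rw [W_conj_a hb hs', W_conj_c hb hs]
          congr 1
          rw [hedef, hedef']
          field_simp
    rw [← h1]; group
  have hadd1 : (zp a s)⁻¹ * zp a e = (zp a q)⁻¹ := by
    rw [← zp_neg hb.pow_a, ← zp_neg hb.pow_a, ← zp_add hb.pow_a]
    congr 1
    rw [hedef, hqdef]; field_simp; ring
  have hadd2 : zp a e' * (zp a s')⁻¹ = (zp a q)⁻¹ := by
    rw [← zp_neg hb.pow_a, ← zp_neg hb.pow_a, ← zp_add hb.pow_a]
    congr 1
    rw [hedef', hqdef]; field_simp; ring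
  have hrhs : (zp a s)⁻¹ * W a c s * (zp a s)⁻¹ * ((zp a s')⁻¹ * W a c s' * (zp a s')⁻¹) =
      (zp a q)⁻¹ * (W a c (-e) * W a c s * W a c s') * (zp a q)⁻¹ := by
    calc _ = (zp a s)⁻¹ * (W a c s * (zp a (s + s'))⁻¹) * W a c s' * (zp a s')⁻¹ := by
          rw [show (zp a (s + s'))⁻¹ = (zp a s)⁻¹ * (zp a s')⁻¹ by
            rw [add_comm, zp_add hb.pow_a, mul_inv_rev]]
          group
      _ = ((zp a s)⁻¹ * zp a e) * W a c (-e) * (zp a e * (W a c s * W a c s')) *
          (zp a s')⁻¹ := by rw [hmid]; group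
      _ = ((zp a s)⁻¹ * zp a e) * W a c (-e) * W a c s * W a c s' *
          (zp a e' * (zp a s')⁻¹) := by rw [hpush]; group
      _ = _ := by rw [hadd1, hadd2]; group
  rw [hrhs] at h0
  exact (mul_left_cancel (mul_right_cancel h0)).symm

end

section

variable {a c : G} (hb : Braided p a c) (hgen : Subgroup.closure ({a, c} : Set G) = ⊤)
include hb hgen

theorem mem_center_of_fix {z : G} (h1 : z * a = a * z) (h2 : z * c = c * z) :
    z ∈ Subgroup.center G := by
  refine Subgroup.mem_center_iff.2 fun g => ?_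
  have hle : Subgroup.closure ({a, c} : Set G) ≤ Subgroup.centralizer {z} := by
    rw [Subgroup.closure_le]
    rintro x (rfl | rfl)
    · exact Subgroup.mem_centralizer_singleton_iff.2 h1.symm
    · exact Subgroup.mem_centralizer_singleton_iff.2 h2.symm
  exact Subgroup.mem_centralizer_singleton_iff.1 (hle (hgen.ge (Subgroup.mem_top g)))

/-- The diagonal elements commute. -/
theorem H_commute {ω : (ZMod p)ˣ} (hω : ∀ x : (ZMod p)ˣ, ∃ n : ℕ, x = ω ^ n) (r s : (ZMod p)ˣ) :
    Commute (H a c r) (H a c s) := by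
  have hpow : ∀ (n : ℕ) (t : ZMod p),
      H a c ω ^ n * zp a t * (H a c ω ^ n)⁻¹ = zp a (((ω : ZMod p) ^ n) ^ 2 * t) ∧
      H a c ω ^ n * zp c t * (H a c ω ^ n)⁻¹ = zp c (t / ((ω : ZMod p) ^ n) ^ 2) := by
    intro n
    induction n with
    | zero => intro t; simp
    | succ n ih =>
      intro t
      have e : ∀ x : G, H a c ω ^ (n + 1) * x * (H a c ω ^ (n + 1))⁻¹ =
          H a c ω * (H a c ω ^ n * x * (H a c ω ^ n)⁻¹) * (H a c ω)⁻¹ := fun x => by
        rw [pow_succ']; group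
      rw [e, e, (ih t).1, (ih t).2, H_conj_a hb, H_conj_c hb]
      constructor <;> congr 1 <;> ring
  have hcen : ∀ x : (ZMod p)ˣ, ∃ n : ℕ, ∃ z ∈ Subgroup.center G, H a c x = H a c ω ^ n * z := by
    intro x
    obtain ⟨n, rfl⟩ := hω x
    refine ⟨n, (H a c ω ^ n)⁻¹ * H a c (ω ^ n), mem_center_of_fix hb hgen ?_ ?_,
      (mul_inv_cancel_left _ _).symm⟩
    · have h1 := (hpow n 1).1
      have h2 := H_conj_a hb (ω ^ n) 1
      rw [Units.val_pow_eq_pow_val, ← h1, zp_one] at h2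
      rw [mul_inv_eq_iff_eq_mul] at h2
      rw [mul_assoc, h2]; group
    · have h1 := (hpow n 1).2
      have h2 := H_conj_c hb (ω ^ n) 1
      rw [Units.val_pow_eq_pow_val, ← h1, zp_one] at h2
      rw [mul_inv_eq_iff_eq_mul] at h2
      rw [mul_assoc, h2]; group
  obtain ⟨m, y, hy, e⟩ := hcen r
  obtain ⟨n, z, hz, e'⟩ := hcen s
  rw [e, e']
  have cy : ∀ g, Commute y g := fun g => (Subgroup.mem_center_iff.1 hy g).symm
  have cz : ∀ g, Commute z g := fun g => (Subgroup.mem_center_iff.1 hz g).symm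
  exact (((Commute.refl (H a c ω)).pow_pow m n).mul_right (cz _).symm).mul_left (cy _)

/-- The diagonal elements form a cyclic group, multiplicatively. -/
theorem H_mul {ω : (ZMod p)ˣ} (hω : ∀ x : (ZMod p)ˣ, ∃ n : ℕ, x = ω ^ n) :
    ∀ r s : (ZMod p)ˣ, H a c (r * s) = H a c r * H a c s := by
  set h : (ZMod p)ˣ → G := H a c with hdef
  have comm : ∀ r s, h r * h s = h s * h r := fun r s => H_commute hb hgen hω r s
  have star : ∀ r s, h (r ^ 2 * s) = h s * h (r ^ 2) := fun r s => by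
    have e := H_conj_H hb r s
    rw [← hdef, comm r s, mul_inv_cancel_right] at e
    rw [e, inv_mul_cancel_right]
  have h1 : h 1 = 1 := by rw [hdef, H, Units.val_one, mul_inv_cancel]
  set x := h ω with hx
  set y := h (ω ^ 2) with hy
  have hev : ∀ i : ℤ, h (ω ^ (2 * i)) = y ^ i := by
    intro i
    induction i with
    | zero => simp [h1]
    | succ i ih =>
      rw [show 2 * ((i : ℤ) + 1) = 2 + 2 * i by ring, zpow_add,
        show (ω ^ (2 : ℤ) : (ZMod p)ˣ) = ω ^ 2 from zpow_ofNat ω 2, star, ih, ← hy, zpow_add_one]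
    | pred i ih =>
      have e := star ω (ω ^ (2 * (-(i : ℤ) - 1)))
      rw [← zpow_ofNat ω 2, ← zpow_add, show (2 : ℤ) + 2 * (-i - 1) = 2 * -i by ring, ih,
        show (ω ^ (2 : ℤ) : (ZMod p)ˣ) = ω ^ 2 from zpow_ofNat ω 2, ← hy] at e
      rw [zpow_sub_one, e, mul_inv_cancel_right]
  have hodd : ∀ i : ℤ, h (ω ^ (2 * i + 1)) = x * y ^ i := fun i => by
    rw [zpow_add_one, show ω ^ (2 * i) = (ω ^ i) ^ 2 by
      rw [← zpow_natCast, ← zpow_mul, mul_comm]; rfl, star,
      show (ω ^ i) ^ 2 = ω ^ (2 * i) by rw [← zpow_natCast, ← zpow_mul, mul_comm]; rfl, hev]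
  -- Steinberg's identity
  have key : ∀ s s' σ : (ZMod p)ˣ, (s : ZMod p) + s' = σ →
      h (-(s ^ 2 * σ⁻¹)) * (h (-s))⁻¹ * h s' = h (s * s' * σ⁻¹) := by
    intro s s' σ hσ
    have e := W_add hb s.ne_zero s'.ne_zero (hσ ▸ σ.ne_zero)
    rw [hσ] at e
    have v1 : ((-(s ^ 2 * σ⁻¹) : (ZMod p)ˣ) : ZMod p) = -((s : ZMod p) ^ 2 / σ) := by
      rw [Units.val_neg, Units.val_mul, Units.val_pow_eq_pow_val, Units.val_inv_eq_inv_val,
        div_eq_mul_inv]
    have v2 : ((s * s' * σ⁻¹ : (ZMod p)ˣ) : ZMod p) = (s : ZMod p) * s' / σ := by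
      rw [Units.val_mul, Units.val_mul, Units.val_inv_eq_inv_val, div_eq_mul_inv]
    have v3 : W a c ((-s : (ZMod p)ˣ) : ZMod p) = (W a c (s : ZMod p))⁻¹ := by
      rw [Units.val_neg, W_neg hb]
    simp only [hdef, H, v1, v2, v3]
    rw [← e]
    group
  have hyx : x * x = y := by
    rcases (Fact.out : p.Prime).eq_two_or_odd' with h2 | hp
    · subst h2
      have hall : ∀ v : ZMod 2, v ≠ 0 → v = 1 := zmod_two_eq_one
      have hu : ∀ u : (ZMod 2)ˣ, u = 1 := fun u => Units.ext (hall _ u.ne_zero)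
      rw [hx, hy, hu ω, one_pow, h1, mul_one]
    have hp2 : p ≠ 2 := fun e => by subst e; exact absurd hp (by decide)
    -- two non-squares with sum `1`
    obtain ⟨u, u', hu, hu', huu⟩ : ∃ u u' : (ZMod p)ˣ,
        (∃ i : ℤ, u = ω ^ (2 * i + 1)) ∧ (∃ i : ℤ, u' = ω ^ (2 * i + 1)) ∧
          (u : ZMod p) + u' = 1 := by
      have hpar : ∀ u : (ZMod p)ˣ, ¬ IsSquare (u : ZMod p) → ∃ i : ℤ, u = ω ^ (2 * i + 1) := by
        intro u hu
        obtain ⟨n, rfl⟩ := hω u
        rcases Nat.even_or_odd' n with ⟨k, rfl | rfl⟩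
        · exact absurd ⟨(ω : ZMod p) ^ k, by
            rw [Units.val_pow_eq_pow_val, ← pow_add, two_mul]⟩ hu
        · exact ⟨k, by rw [← zpow_natCast]; norm_num⟩
      classical
      suffices ∃ v : ZMod p, ¬ IsSquare v ∧ ¬ IsSquare (1 - v) by
        obtain ⟨v, hv, hv'⟩ := this
        have hv0 : v ≠ 0 := fun e => hv (e ▸ IsSquare.zero)
        have hv1 : 1 - v ≠ 0 := fun e => hv' (e ▸ IsSquare.zero)
        exact ⟨Units.mk0 v hv0, Units.mk0 _ hv1, hpar _ hv, hpar _ hv', by simp⟩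
      by_contra! hcon
      set Q : Finset (ZMod p) := Finset.univ.filter fun v => ¬ IsSquare v with hQ
      set R : Finset (ZMod p) := Finset.univ.filter fun v => IsSquare v with hR
      -- `v ↦ 1 - v` maps non-squares to squares different from `0` and `1`
      have hsub : Q.image (fun v => 1 - v) ⊆ (R.erase 0).erase 1 := by
        intro z hz
        obtain ⟨v, hv, rfl⟩ := Finset.mem_image.1 hz
        rw [hQ, Finset.mem_filter] at hv
        refine Finset.mem_erase.2 ⟨fun e => hv.2 ?_, Finset.mem_erase.2 ⟨fun e => hv.2 ?_, ?_⟩⟩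
        · rw [sub_eq_self] at e; exact e ▸ IsSquare.zero
        · rw [sub_eq_zero] at e; exact e ▸ IsSquare.one
        · rw [hR, Finset.mem_filter]; exact ⟨Finset.mem_univ _, hcon v hv.2⟩
      have hcard := Finset.card_le_card hsub
      rw [Finset.card_image_of_injective _ (fun _ _ e => sub_right_injective e)] at hcard
      have hchar : ringChar (ZMod p) ≠ 2 := by rwa [ZMod.ringChar_zmod_n]
      obtain ⟨ν, hν⟩ := FiniteField.exists_nonsquare hchar
      -- multiplication by a non-square maps non-zero squares to non-squares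
      have hle : (R.erase 0).card ≤ Q.card := by
        refine Finset.card_le_card_of_injOn (fun v => ν * v) (fun v hv => ?_)
          (fun v _ w _ e => mul_left_cancel₀ (fun e' : ν = 0 => hν (e' ▸ IsSquare.zero)) e)
        simp only [hR, Finset.mem_coe, Finset.mem_erase, Finset.mem_filter] at hv
        simp only [hQ, Finset.mem_coe, Finset.mem_filter, Finset.mem_univ, true_and]
        rintro ⟨r, hr⟩
        obtain ⟨q, hq⟩ := hv.2.2
        have hq0 : q ≠ 0 := fun e => hv.1 (by rw [hq, e, mul_zero])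
        exact hν ⟨r / q, by rw [hq] at hr; field_simp; linear_combination hr⟩
      have h1R : (1 : ZMod p) ∈ R.erase 0 := Finset.mem_erase.2 ⟨one_ne_zero, by
        rw [hR, Finset.mem_filter]; exact ⟨Finset.mem_univ _, IsSquare.one⟩⟩
      have := Finset.card_erase_add_one h1R
      omega
    obtain ⟨i, rfl⟩ := hu
    obtain ⟨j, rfl⟩ := hu'
    obtain ⟨m, hm⟩ := hω (-1)
    have hy2 : Commute x y := comm _ _
    have hneg : ∀ r : (ZMod p)ˣ, -r = ω ^ (m : ℤ) * r := fun r => by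
      rw [zpow_natCast, ← hm, neg_one_mul]
    rcases Nat.even_or_odd' m with ⟨l, rfl | rfl⟩
    · -- `-1` is a square
      have huu' : ((1 : (ZMod p)ˣ) : ZMod p) + ((-(ω ^ (2 * i + 1)) : (ZMod p)ˣ) : ZMod p) =
          ((ω ^ (2 * j + 1) : (ZMod p)ˣ) : ZMod p) := by
        rw [Units.val_one, Units.val_neg]; linear_combination -huu
      have e := key 1 _ _ huu'
      simp only [one_pow, one_mul] at e
      rw [hneg (ω ^ (2 * j + 1))⁻¹, hneg 1, hneg (ω ^ (2 * i + 1)), mul_one, ← zpow_neg,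
        ← zpow_add, ← zpow_add, ← zpow_add, Nat.cast_mul, Nat.cast_ofNat,
        show 2 * (l : ℤ) + -(2 * j + 1) = 2 * (l - j - 1) + 1 by ring,
        show 2 * (l : ℤ) + (2 * i + 1) = 2 * (l + i) + 1 by ring,
        show 2 * ((l : ℤ) + i) + 1 + -(2 * j + 1) = 2 * (l + i - j) by ring,
        hodd, hev, hodd, hev] at e
      have e2 : x * x * y ^ ((l : ℤ) - j - 1 - l + (l + i)) = y ^ ((l : ℤ) + i - j) := by
        rw [← e, zpow_add y ((l : ℤ) - j - 1 - l) (l + i), zpow_sub y ((l : ℤ) - j - 1) l]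
        have := (hy2.zpow_right ((l : ℤ) - j - 1 - l)).eq
        rw [zpow_sub y ((l : ℤ) - j - 1) l] at this
        calc x * x * (y ^ ((l : ℤ) - j - 1) * (y ^ (l : ℤ))⁻¹ * y ^ ((l : ℤ) + i))
            = x * (x * (y ^ ((l : ℤ) - j - 1) * (y ^ (l : ℤ))⁻¹)) * y ^ ((l : ℤ) + i) := by group
          _ = x * (y ^ ((l : ℤ) - j - 1) * (y ^ (l : ℤ))⁻¹ * x) * y ^ ((l : ℤ) + i) := by rw [this]
          _ = _ := by group
      rw [show (l : ℤ) + i - j = ((l : ℤ) - j - 1 - l + (l + i)) + 1 by ring, zpow_add_one,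
        (Commute.zpow_self y _).eq] at e2
      exact mul_right_cancel e2
    · have huu' : ((ω ^ (2 * i + 1) : (ZMod p)ˣ) : ZMod p) +
          ((ω ^ (2 * j + 1) : (ZMod p)ˣ) : ZMod p) = ((1 : (ZMod p)ˣ) : ZMod p) := huu
      have e := key _ _ _ huu'
      simp only [inv_one, mul_one] at e
      rw [hneg ((ω ^ (2 * i + 1)) ^ 2), hneg (ω ^ (2 * i + 1)), ← zpow_ofNat (ω ^ (2 * i + 1)) 2,
        ← zpow_mul, ← zpow_add, ← zpow_add, ← zpow_add, Nat.cast_add, Nat.cast_mul, Nat.cast_ofNat,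
        Nat.cast_one,
        show 2 * (l : ℤ) + 1 + (2 * i + 1) * 2 = 2 * (l + 2 * i + 1) + 1 by ring,
        show 2 * (l : ℤ) + 1 + (2 * i + 1) = 2 * (l + i + 1) by ring,
        show 2 * i + 1 + (2 * j + 1) = 2 * (i + j + 1) by ring,
        hodd, hev, hodd, hev] at e
      have e2 : x * x * y ^ ((l : ℤ) + 2 * i + 1 - (l + i + 1) + j) = y ^ (i + j + 1) := by
        rw [← e]
        have := (hy2.zpow_right ((l : ℤ) + 2 * i + 1 - (l + i + 1))).eq
        rw [zpow_add, zpow_sub] at *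
        calc x * x * (y ^ ((l : ℤ) + 2 * i + 1) * (y ^ ((l : ℤ) + i + 1))⁻¹ * y ^ j)
            = x * (x * (y ^ ((l : ℤ) + 2 * i + 1) * (y ^ ((l : ℤ) + i + 1))⁻¹)) * y ^ j := by group
          _ = x * (y ^ ((l : ℤ) + 2 * i + 1) * (y ^ ((l : ℤ) + i + 1))⁻¹ * x) * y ^ j := by
              rw [this]
          _ = _ := by group
      rw [show i + j + 1 = ((l : ℤ) + 2 * i + 1 - (l + i + 1) + j) + 1 by ring, zpow_add_one,
        (Commute.zpow_self y _).eq] at e2
      exact mul_right_cancel e2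
  intro r s
  obtain ⟨m, rfl⟩ := hω r
  obtain ⟨n, rfl⟩ := hω s
  have hall : ∀ n : ℕ, h (ω ^ n) = x ^ n := by
    intro n
    rcases Nat.even_or_odd' n with ⟨k, rfl | rfl⟩
    · have e := hev k
      rw [show (2 : ℤ) * k = ((2 * k : ℕ) : ℤ) by norm_num, zpow_natCast, zpow_natCast] at e
      rw [e, ← hyx, ← pow_two, ← pow_mul]
    · have e := hodd k
      rw [show (2 : ℤ) * k + 1 = ((2 * k + 1 : ℕ) : ℤ) by norm_num, zpow_natCast,
        zpow_natCast] at e
      rw [e, ← hyx, ← pow_two, ← pow_mul, ← pow_succ']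
  rw [← pow_add, hall, hall, hall, pow_add]

end

/-- The lower unitriangular generator. -/
def slL : Matrix.SpecialLinearGroup (Fin 2) (ZMod p) :=
  ⟨!![1, 0; -1, 1], by simp [Matrix.det_fin_two]⟩

theorem slU_zp (t : ZMod p) : zp (slU (1 : ZMod p)) t = slU t := by
  have h : ∀ n : ℕ, (slU (1 : ZMod p)) ^ n = slU (n : ZMod p) := by
    intro n
    induction n with
    | zero => rw [pow_zero, Nat.cast_zero, slU_zero]
    | succ n ih => rw [pow_succ, ih, ← slU_add, Nat.cast_succ]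
  rw [zp, h, ZMod.natCast_zmod_val]

theorem slL_zp (t : ZMod p) :
    ((zp (slL (p := p)) t : Matrix.SpecialLinearGroup (Fin 2) (ZMod p)) :
      Matrix (Fin 2) (Fin 2) (ZMod p)) = !![1, 0; -t, 1] := by
  have h : ∀ n : ℕ, ((slL (p := p) ^ n : Matrix.SpecialLinearGroup (Fin 2) (ZMod p)) :
      Matrix (Fin 2) (Fin 2) (ZMod p)) = !![1, 0; -(n : ZMod p), 1] := by
    intro n
    induction n with
    | zero => simp [Matrix.one_fin_two]
    | succ n ih =>
      rw [pow_succ, Matrix.SpecialLinearGroup.coe_mul, ih]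
      show !![(1 : ZMod p), 0; -(n : ZMod p), 1] * !![1, 0; -1, 1] = _
      simp [Matrix.mul_fin_two]
      ring
  rw [zp, h, ZMod.natCast_zmod_val]

theorem braided_SL : Braided p (slU (1 : ZMod p)) (slL (p := p)) := by
  refine ⟨?_, ?_, fun s hs => Subtype.ext ?_⟩
  · have h := slU_zp (p := p) 0
    have hn : ∀ n : ℕ, (slU (1 : ZMod p)) ^ n = slU (n : ZMod p) := by
      intro n
      induction n with
      | zero => rw [pow_zero, Nat.cast_zero, slU_zero]
      | succ n ih => rw [pow_succ, ih, ← slU_add, Nat.cast_succ]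
    rw [hn, ZMod.natCast_self, slU_zero]
  · refine Subtype.ext ?_
    have h : ∀ n : ℕ, ((slL (p := p) ^ n : Matrix.SpecialLinearGroup (Fin 2) (ZMod p)) :
        Matrix (Fin 2) (Fin 2) (ZMod p)) = !![1, 0; -(n : ZMod p), 1] := by
      intro n
      induction n with
      | zero => simp [Matrix.one_fin_two]
      | succ n ih =>
        rw [pow_succ, Matrix.SpecialLinearGroup.coe_mul, ih]
        show !![(1 : ZMod p), 0; -(n : ZMod p), 1] * !![1, 0; -1, 1] = _
        simp [Matrix.mul_fin_two]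
        ring
    rw [h, ZMod.natCast_self]
    simp [Matrix.one_fin_two]
  · simp only [Matrix.SpecialLinearGroup.coe_mul, slL_zp, slU_zp]
    simp [slU, Matrix.mul_fin_two, hs]

theorem W_SL {s : ZMod p} (hs : s ≠ 0) :
    ((W (slU (1 : ZMod p)) (slL (p := p)) s : Matrix.SpecialLinearGroup (Fin 2) (ZMod p)) :
      Matrix (Fin 2) (Fin 2) (ZMod p)) = !![0, s; -s⁻¹, 0] := by
  rw [W]
  simp only [Matrix.SpecialLinearGroup.coe_mul, slL_zp, slU_zp]
  simp [slU, Matrix.mul_fin_two, hs]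

theorem W_SL_one : W (slU (1 : ZMod p)) (slL (p := p)) (1 : ZMod p) = slW := by
  refine Subtype.ext ?_
  rw [W_SL one_ne_zero]
  simp [slW]

theorem H_SL (s : (ZMod p)ˣ) : H (slU (1 : ZMod p)) (slL (p := p)) s = slH s := by
  rw [H, W_SL_one, mul_inv_eq_iff_eq_mul]
  refine Subtype.ext ?_
  rw [W_SL s.ne_zero, Matrix.SpecialLinearGroup.coe_mul]
  show _ = !![(s : ZMod p), 0; 0, ((s⁻¹ : (ZMod p)ˣ) : ZMod p)] * !![0, 1; -1, 0]
  rw [Units.val_inv_eq_inv_val, Matrix.mul_fin_two]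
  simp only [mul_zero, zero_mul, mul_one, mul_neg, add_zero, zero_add, neg_zero]

/-- A braided pair gives a homomorphism from `SL₂(p)`. -/
theorem exists_hom {a c : G} (hb : Braided p a c) :
    ∃ φ : Matrix.SpecialLinearGroup (Fin 2) (ZMod p) →* G,
      φ (slU (1 : ZMod p)) = a ∧ φ (slL (p := p)) = c ∧
        φ.range = Subgroup.closure {a, c} := by
  let U₀ : Matrix.SpecialLinearGroup (Fin 2) (ZMod p) × G := (slU (1 : ZMod p), a)
  let L₀ : Matrix.SpecialLinearGroup (Fin 2) (ZMod p) × G := (slL (p := p), c)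
  set K := Subgroup.closure ({U₀, L₀} : Set (Matrix.SpecialLinearGroup (Fin 2) (ZMod p) × G))
  let u : K := ⟨U₀, Subgroup.subset_closure (Or.inl rfl)⟩
  let l : K := ⟨L₀, Subgroup.subset_closure (Or.inr rfl)⟩
  let f1 : K →* Matrix.SpecialLinearGroup (Fin 2) (ZMod p) := (MonoidHom.fst _ _).comp K.subtype
  let f2 : K →* G := (MonoidHom.snd _ _).comp K.subtype
  have hbr : Braided p u l := by
    have h0 := braided_SL (p := p)
    refine ⟨Subtype.ext (Prod.ext h0.pow_a hb.pow_a), Subtype.ext (Prod.ext h0.pow_c hb.pow_c),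
      fun s hs => Subtype.ext (Prod.ext ?_ ?_)⟩
    · change f1 (zp u s * zp l s⁻¹ * zp u s) = f1 (zp l s⁻¹ * zp u s * zp l s⁻¹)
      simp only [map_mul, zp_map]
      exact h0.braid s hs
    · change f2 (zp u s * zp l s⁻¹ * zp u s) = f2 (zp l s⁻¹ * zp u s * zp l s⁻¹)
      simp only [map_mul, zp_map]
      exact hb.braid s hs
  have hgen : Subgroup.closure ({u, l} : Set K) = ⊤ := by
    refine Subgroup.map_injective K.subtype_injective ?_
    rw [MonoidHom.map_closure, ← MonoidHom.range_eq_map, Subgroup.range_subtype, Set.image_pair]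
    rfl
  obtain ⟨ω, hω⟩ := IsCyclic.exists_monoid_generator (α := (ZMod p)ˣ)
  have hω' : ∀ x : (ZMod p)ˣ, ∃ n : ℕ, x = ω ^ n := fun x => by
    obtain ⟨n, hn⟩ := Submonoid.mem_powers_iff x ω |>.1 (hω x)
    exact ⟨n, hn.symm⟩
  have hmul := H_mul hbr hgen hω'
  have hH1 : H u l (1 : (ZMod p)ˣ) = 1 := by rw [H, Units.val_one, mul_inv_cancel]
  let hhom : (ZMod p)ˣ →* K := ⟨⟨H u l, hH1⟩, hmul⟩
  set w := W u l (1 : ZMod p) with hw
  have hWH : ∀ s : (ZMod p)ˣ, W u l (s : ZMod p) = H u l s * w := fun s => by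
    rw [H, hw, inv_mul_cancel_right]
  have hwa : w * u * w⁻¹ = l := by
    have := (W_one_conj hbr (1 : ZMod p)).1
    rwa [zp_one, zp_one] at this
  have hpn : ∀ x : (ZMod p)ˣ, ∃ e : ℕ, H u l x = H u l ω ^ e := fun x => by
    obtain ⟨n, rfl⟩ := hω' x
    exact ⟨n, map_pow hhom ω n⟩
  have hd : BruhatData f1 u w (H u l ω) (fun t => zp u t) ω := by
    refine
      { gen := ?_, add := zp_add hbr.pow_a, one := zp_one u,
        conjh := fun t => H_conj_a hbr ω t, imU := fun t => ?_, imH := ?_, imW := ?_,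
        gen_units := hω', pow_eq := ?_, inv := ?_, sq := ?_, bruhat1 := ?_, bruhat2 := Or.inl ?_ }
    · refine top_le_iff.1 (hgen ▸ (Subgroup.closure_le _).2 ?_)
      rintro x (rfl | rfl)
      · exact Subgroup.subset_closure (Or.inl rfl)
      · rw [← hwa]
        exact mul_mem (mul_mem (Subgroup.subset_closure (Or.inr (Or.inl rfl)))
          (Subgroup.subset_closure (Or.inl rfl)))
          (inv_mem (Subgroup.subset_closure (Or.inr (Or.inl rfl))))
    · rw [zp_map]; exact slU_zp t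
    · rw [H, map_mul, map_inv, W, W]
      simp only [map_mul, zp_map]
      exact H_SL ω
    · rw [hw, W]
      simp only [map_mul, zp_map]
      exact W_SL_one
    · have := map_pow hhom ω (orderOf ω)
      rw [pow_orderOf_eq_one, map_one] at this
      exact this.symm
    · have e := W_inv_conj hbr (ω : ZMod p) ω.ne_zero
      rw [hWH, ← Units.val_inv_eq_inv_val, hWH,
        show H u l ω⁻¹ = (H u l ω)⁻¹ from map_inv hhom ω] at e
      calc w * H u l ω * w⁻¹ = w * (H u l ω * w) * w⁻¹ * w⁻¹ := by group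
        _ = (H u l ω)⁻¹ * w * w⁻¹ := by rw [e]
        _ = _ := by group
    · obtain ⟨k, hk⟩ := hpn (-1)
      refine ⟨k, ?_⟩
      have h1 : H u l (-1 : (ZMod p)ˣ) = (w * w)⁻¹ := by
        rw [H, Units.val_neg, Units.val_one, W_neg hbr, ← hw, mul_inv_rev]
      have h2 : H u l (-1 : (ZMod p)ˣ) * H u l (-1 : (ZMod p)ˣ) = 1 := by
        rw [← hmul, neg_one_mul, neg_neg, hH1]
      rw [← hk]
      exact (inv_inv (w * w)).symm.trans (by rw [← h1]; exact inv_eq_of_mul_eq_one_right h2)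
    · refine ⟨0, ?_⟩
      show w * zp u (1 : ZMod p) * w⁻¹ = _
      rw [zp_one, hwa, zp_neg hbr.pow_a, zp_one, pow_zero, mul_one, hw, W, inv_one, zp_one, zp_one]
      group
    · obtain ⟨e, he⟩ := hpn ω⁻¹
      refine ⟨e, ?_⟩
      show w * zp u (ω : ZMod p) * w⁻¹ = _
      rw [(W_one_conj hbr (ω : ZMod p)).1, zp_neg hbr.pow_a, ← he, mul_assoc _ _ w, ← hWH,
        Units.val_inv_eq_inv_val, W, inv_inv]
      group
  let π := MulEquiv.ofBijective f1 hd.bijective
  have e1 : π.symm (slU (1 : ZMod p)) = u := π.symm_apply_eq.2 rfl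
  have e2 : π.symm (slL (p := p)) = l := π.symm_apply_eq.2 rfl
  refine ⟨f2.comp π.symm.toMonoidHom, congrArg f2 e1, congrArg f2 e2, ?_⟩
  rw [MonoidHom.range_eq_map, ← Subgroup.map_map,
    Subgroup.map_top_of_surjective _ π.symm.surjective, ← hgen, MonoidHom.map_closure,
    Set.image_pair]
  rfl

end Cfsg.Agent.Fus.BraidSLTwo
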