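import Mathlib

/-!
A group of order `2 p ^ 3` with indecomposable representations of arbitrarily large odd degree
having scalar commutant, coming from representations of the Kronecker quiver.
-/

set_option autoImplicit false

namespace Cfsg.Agent.Fus.Brick

open Matrix

variable (p : ℕ) [Fact p.Prime]

/-- The elementary abelian group of order `p ^ 3`. -/
abbrev Base : Type := Multiplicative (Fin 3 → ZMod p)

/-- Inversion. -/
def act : ℤˣ →* MulAut (Base p) where
  toFun u :=
    { toFun := fun v => Multiplicative.ofAdd (u • Multiplicative.toAdd v)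
      invFun := fun v => Multiplicative.ofAdd (u⁻¹ • Multiplicative.toAdd v)
      left_inv := fun v => by
        show Multiplicative.ofAdd (u⁻¹ • u • Multiplicative.toAdd v) = v
        rw [inv_smul_smul]; rfl
      right_inv := fun v => by
        show Multiplicative.ofAdd (u • u⁻¹ • Multiplicative.toAdd v) = v
        rw [smul_inv_smul]; rfl
      map_mul' := fun v w => by simp [smul_add] }
  map_one' := MulEquiv.ext fun v => by simp
  map_mul' u w := MulEquiv.ext fun v => by simp [mul_smul]

/-- The group of order `2 p ^ 3`. -/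
abbrev Grp : Type := Base p ⋊[act p] ℤˣ

theorem card_grp : Nat.card (Grp p) = 2 * p ^ 3 := by
  rw [SemidirectProduct.card, show Nat.card (Base p) = Nat.card (Fin 3 → ZMod p) from
    Nat.card_congr Multiplicative.toAdd, Nat.card_fun, Nat.card_fin, Nat.card_zmod, mul_comm,
    Nat.card_eq_fintype_card, show Fintype.card ℤˣ = 2 from rfl]

variable {p} (k : ℕ)

/-- The three Kronecker maps. -/
def krMat (v : Fin 3 → ZMod p) : Matrix (Fin (k + 1)) (Fin k) (ZMod p) :=
  Matrix.of fun i j => (if (i : ℕ) = j then v 0 else 0) + (if (i : ℕ) = j + 1 then v 1 else 0) +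
    if (i : ℕ) = k ∧ (j : ℕ) = 0 then v 2 else 0

theorem krMat_add (v w : Fin 3 → ZMod p) : krMat k (v + w) = krMat k v + krMat k w := by
  ext i j
  simp only [krMat, of_apply, Matrix.add_apply, Pi.add_apply]
  split_ifs <;> ring

theorem krMat_smul (u : ℤˣ) (v : Fin 3 → ZMod p) :
    krMat k (u • v) = ((u : ℤ) : ZMod p) • krMat k v := by
  ext i j
  simp only [krMat, of_apply, Matrix.smul_apply, Pi.smul_apply, Units.smul_def, zsmul_eq_mul,
    smul_eq_mul]
  split_ifs <;> ring

/-- Reindexing the block matrices. -/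
def blockSL (A : Matrix (Fin k ⊕ Fin (k + 1)) (Fin k ⊕ Fin (k + 1)) (ZMod p)) (hA : A.det = 1) :
    SpecialLinearGroup (Fin (k + (k + 1))) (ZMod p) :=
  ⟨reindex finSumFinEquiv finSumFinEquiv A, by rw [det_reindex_self, hA]⟩

theorem blockSL_mul {A B : Matrix (Fin k ⊕ Fin (k + 1)) (Fin k ⊕ Fin (k + 1)) (ZMod p)}
    (hA : A.det = 1) (hB : B.det = 1) :
    blockSL k (A * B) (by rw [det_mul, hA, hB, mul_one]) = blockSL k A hA * blockSL k B hB := by
  apply Subtype.ext
  show reindex _ _ (A * B) = reindex _ _ A * reindex _ _ B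
  rw [reindex_apply, reindex_apply, reindex_apply, submatrix_mul_equiv]

/-- The unipotent part. -/
def uni : Base p →* SpecialLinearGroup (Fin (k + (k + 1))) (ZMod p) where
  toFun v := blockSL k (fromBlocks 1 0 (krMat k (Multiplicative.toAdd v)) 1)
    (by rw [det_fromBlocks_zero₁₂, det_one, det_one, one_mul])
  map_one' := by
    apply Subtype.ext
    have h0 : krMat k (0 : Fin 3 → ZMod p) = 0 := by ext i j; simp [krMat]
    simp [blockSL, h0, fromBlocks_one]
  map_mul' v w := by
    rw [← blockSL_mul]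
    congr 1
    rw [fromBlocks_multiply, toAdd_mul, krMat_add]
    simp

/-- The involution. -/
def invo (hk : Even (k + 1)) : ℤˣ →* SpecialLinearGroup (Fin (k + (k + 1))) (ZMod p) where
  toFun u := blockSL k (fromBlocks 1 0 0 (((u : ℤ) : ZMod p) • 1)) (by
    rw [det_fromBlocks_zero₁₂, det_one, det_smul, det_one, mul_one, one_mul, Fintype.card_fin]
    rcases Int.units_eq_one_or u with rfl | rfl
    · simp
    · simp [hk.neg_one_pow])
  map_one' := by
    apply Subtype.ext
    simp [blockSL, fromBlocks_one]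
  map_mul' u w := by
    rw [← blockSL_mul]
    congr 1
    rw [fromBlocks_multiply]
    simp [smul_smul, mul_comm]

theorem uni_apply (v : Base p) : ∃ hA, uni k v =
    blockSL k (fromBlocks 1 0 (krMat k (Multiplicative.toAdd v)) 1) hA :=
  ⟨by rw [det_fromBlocks_zero₁₂, det_one, det_one, one_mul], rfl⟩

theorem invo_apply (hk : Even (k + 1)) (u : ℤˣ) : ∃ hA, invo (p := p) k hk u =
    blockSL k (fromBlocks 1 0 0 (((u : ℤ) : ZMod p) • 1)) hA :=
  ⟨by
    rw [det_fromBlocks_zero₁₂, det_one, det_smul, det_one, mul_one, one_mul, Fintype.card_fin]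
    rcases Int.units_eq_one_or u with rfl | rfl
    · simp
    · simp [hk.neg_one_pow], rfl⟩

theorem blockSL_coe {A : Matrix (Fin k ⊕ Fin (k + 1)) (Fin k ⊕ Fin (k + 1)) (ZMod p)} (hA : A.det = 1) :
    ((blockSL k A hA : SpecialLinearGroup (Fin (k + (k + 1))) (ZMod p)) :
      Matrix (Fin (k + (k + 1))) (Fin (k + (k + 1))) (ZMod p)) = reindex finSumFinEquiv finSumFinEquiv A :=
  rfl

/-- The representation. -/
def rep (hk : Even (k + 1)) : Grp p →* SpecialLinearGroup (Fin (k + (k + 1))) (ZMod p) :=
  SemidirectProduct.lift (uni k) (invo k hk) fun u => MonoidHom.ext fun v => by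
    show uni k (act p u v) = invo k hk u * uni k v * (invo k hk u)⁻¹
    rw [← map_inv, Int.units_inv_eq_self]
    obtain ⟨h₁, e₁⟩ := uni_apply k (act p u v)
    obtain ⟨h₂, e₂⟩ := uni_apply k v
    obtain ⟨h₃, e₃⟩ := invo_apply (p := p) k hk u
    rw [e₁, e₂, e₃, ← blockSL_mul, ← blockSL_mul]
    congr 1
    rw [fromBlocks_multiply, fromBlocks_multiply,
      show Multiplicative.toAdd (act p u v) = u • Multiplicative.toAdd v from rfl, krMat_smul]
    simp [smul_smul, ← Int.cast_mul, ← Units.val_mul]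

theorem two_ne (hp : p ≠ 2) : (2 : ZMod p) ≠ 0 := by
  intro h
  have : ((2 : ℕ) : ZMod p) = 0 := by exact_mod_cast h
  rw [ZMod.natCast_eq_zero_iff] at this
  exact hp ((Nat.prime_dvd_prime_iff_eq Fact.out Nat.prime_two).1 this)

/-- The commutant of two shifted identities consists of the scalars. -/
theorem scalar_of_intertwine {R : Type*} [CommRing R] (P Q : ℕ → ℕ → R)
    (h0 : ∀ r i, i < k → r < k → Q r i = P r i) (h0' : ∀ i, i < k → Q k i = 0)
    (h1 : ∀ r i, i < k → r < k → Q (r + 1) (i + 1) = P r i) (h1' : ∀ i, i < k → Q 0 (i + 1) = 0) :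
    ∀ r i, r ≤ k → i ≤ k → Q r i = if r = i then Q 0 0 else 0 := by
  have hs : ∀ r i, r < k → i < k → Q (r + 1) (i + 1) = Q r i :=
    fun r i hr hi => (h1 r i hi hr).trans (h0 r i hi hr).symm
  have hshift : ∀ d r i, r + d ≤ k → i + d ≤ k → Q (r + d) (i + d) = Q r i := by
    intro d
    induction d with
    | zero => intros; rfl
    | succ d ih =>
      intro r i hr hi
      rw [← add_assoc, ← add_assoc, hs _ _ (by omega) (by omega), ih r i (by omega) (by omega)]
  intro r i hr hi
  rcases lt_trichotomy r i with h | h | h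
  · rw [if_neg h.ne]
    have := hshift r 0 (i - r) (by omega) (by omega)
    rw [zero_add, show i - r + r = i by omega] at this
    rw [this, show i - r = (i - r - 1) + 1 by omega]
    exact h1' _ (by omega)
  · subst h
    rw [if_pos rfl]
    have := hshift r 0 0 (by omega) (by omega)
    rwa [zero_add] at this
  · rw [if_neg h.ne']
    have := hshift (k - r) r i (by omega) (by omega)
    rw [show r + (k - r) = k by omega] at this
    rw [← this]
    exact h0' _ (by omega)

theorem block_scalar (hp : p ≠ 2) (hk3 : 3 ≤ k)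
    (G : Matrix (Fin k ⊕ Fin (k + 1)) (Fin k ⊕ Fin (k + 1)) (ZMod p))
    (hx : ∀ v, G * fromBlocks 1 0 (krMat k v) 1 = fromBlocks 1 0 (krMat k v) 1 * G)
    (ht : G * fromBlocks 1 0 0 ((-1 : ZMod p) • 1) = fromBlocks 1 0 0 ((-1 : ZMod p) • 1) * G) :
    ∃ c : ZMod p, G = c • 1 := by
  obtain ⟨P, B, C, Q, rfl⟩ : ∃ (P : Matrix (Fin k) (Fin k) (ZMod p))
      (B : Matrix (Fin k) (Fin (k + 1)) (ZMod p)) (C : Matrix (Fin (k + 1)) (Fin k) (ZMod p))
      (Q : Matrix (Fin (k + 1)) (Fin (k + 1)) (ZMod p)), G = fromBlocks P B C Q :=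
    ⟨_, _, _, _, (fromBlocks_toBlocks G).symm⟩
  simp only [fromBlocks_multiply, Matrix.mul_one, Matrix.one_mul, Matrix.mul_zero, Matrix.zero_mul,
    add_zero, zero_add, Matrix.mul_smul, Matrix.smul_mul, neg_smul, one_smul, fromBlocks_inj] at ht
  obtain ⟨-, hB, hC, -⟩ := ht
  have hB0 : B = 0 := by
    ext i j
    have := congrFun (congrFun hB i) j
    rw [Matrix.mul_neg, Matrix.mul_one, Matrix.neg_apply] at this
    have h2 : (2 : ZMod p) * B i j = 0 := by linear_combination -this
    exact (mul_eq_zero.1 h2).resolve_left (two_ne hp)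
  have hC0 : C = 0 := by
    ext i j
    have := congrFun (congrFun hC i) j
    rw [Matrix.neg_mul, Matrix.one_mul, Matrix.neg_apply] at this
    have h2 : (2 : ZMod p) * C i j = 0 := by linear_combination this
    exact (mul_eq_zero.1 h2).resolve_left (two_ne hp)
  subst hB0 hC0
  have hQP : ∀ v, (Q * krMat k v : Matrix (Fin (k + 1)) (Fin k) (ZMod p)) = krMat k v * P := by
    intro v
    have := hx v
    simp only [fromBlocks_multiply, Matrix.mul_one, Matrix.one_mul, Matrix.mul_zero, Matrix.zero_mul,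
      add_zero, zero_add, fromBlocks_inj] at this
    exact this.2.2.1
  have e1 : ∀ (r : Fin (k + 1)) (i : Fin k), Q r i.castSucc =
      if h : (r : ℕ) < k then P ⟨r, h⟩ i else 0 := by
    intro r i
    have := Matrix.ext_iff.mpr (hQP (Pi.single 0 1)) r i
    change ∑ j, Q r j * krMat k (Pi.single 0 1) j i = ∑ j, krMat k (Pi.single 0 1) r j * P j i at this
    simp only [krMat, of_apply, Pi.single_eq_same, ne_eq, Fin.reduceEq, not_false_eq_true,
      Pi.single_eq_of_ne, ite_self, add_zero, mul_ite, mul_one, mul_zero, ite_mul, one_mul, zero_mul] at this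
    have hl : (∑ x : Fin (k + 1), if (x : ℕ) = i then Q r x else 0) = Q r i.castSucc := by
      rw [Finset.sum_eq_single i.castSucc]
      · simp
      · exact fun b _ hb => if_neg fun e => hb (Fin.ext e)
      · simp
    rw [hl] at this
    rw [this]
    split_ifs with h
    · rw [Finset.sum_eq_single ⟨r, h⟩ (fun b _ hb => if_neg fun e => hb (Fin.ext e.symm)) (by simp),
        if_pos rfl]
    · exact Finset.sum_eq_zero fun b _ => if_neg fun e => h (by have := b.2; omega)
  have e2 : ∀ (r : Fin (k + 1)) (i : Fin k), Q r i.succ =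
      if h : 1 ≤ (r : ℕ) then P ⟨r - 1, by omega⟩ i else 0 := by
    intro r i
    have := Matrix.ext_iff.mpr (hQP (Pi.single 1 1)) r i
    change ∑ j, Q r j * krMat k (Pi.single 1 1) j i = ∑ j, krMat k (Pi.single 1 1) r j * P j i at this
    simp only [krMat, of_apply, Pi.single_eq_same, ne_eq, Fin.reduceEq, not_false_eq_true,
      Pi.single_eq_of_ne, ite_self, add_zero, zero_add, mul_ite, mul_one, mul_zero, ite_mul, one_mul,
      zero_mul] at this
    have hl : (∑ x : Fin (k + 1), if (x : ℕ) = (i : ℕ) + 1 then Q r x else 0) = Q r i.succ := by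
      rw [Finset.sum_eq_single i.succ]
      · simp
      · exact fun b _ hb => if_neg fun e => hb (Fin.ext e)
      · simp
    rw [hl] at this
    rw [this]
    split_ifs with h
    · rw [Finset.sum_eq_single ⟨r - 1, by omega⟩
        (fun b _ hb => if_neg fun e => hb (Fin.ext (show (b : ℕ) = r - 1 by omega))) (by simp),
        if_pos (show (r : ℕ) = r - 1 + 1 by omega)]
    · exact Finset.sum_eq_zero fun b _ => if_neg fun e => h (by omega)
  let Q' : ℕ → ℕ → ZMod p := fun r i => if h : r ≤ k ∧ i ≤ k then Q ⟨r, by omega⟩ ⟨i, by omega⟩ else 0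
  let P' : ℕ → ℕ → ZMod p := fun r i => if h : r < k ∧ i < k then P ⟨r, h.1⟩ ⟨i, h.2⟩ else 0
  have hQ := scalar_of_intertwine k P' Q'
    (fun r i hi hr => by
      simp only [Q', P', hr, hi, hr.le, hi.le, and_self, dite_true]
      exact (e1 ⟨r, by omega⟩ ⟨i, hi⟩).trans (dif_pos hr))
    (fun i hi => by
      simp only [Q', le_refl, hi.le, and_self, dite_true]
      exact (e1 ⟨k, by omega⟩ ⟨i, hi⟩).trans (dif_neg (lt_irrefl k)))
    (fun r i hi hr => by
      simp only [Q', P', hr, hi, show r + 1 ≤ k from hr, show i + 1 ≤ k from hi, and_self, dite_true]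
      exact ((e2 ⟨r + 1, by omega⟩ ⟨i, hi⟩).trans (dif_pos (by simp))).trans (by simp))
    (fun i hi => by
      simp only [Q', zero_le, show i + 1 ≤ k from hi, and_self, dite_true]
      exact (e2 ⟨0, by omega⟩ ⟨i, hi⟩).trans (dif_neg (by simp)))
  refine ⟨Q 0 0, ?_⟩
  rw [← fromBlocks_one, fromBlocks_smul, smul_zero, smul_zero]
  have hQ1 : Q = Q 0 0 • 1 := by
    ext r i
    have := hQ r i (Fin.is_le r) (Fin.is_le i)
    simp only [Q', Fin.is_le r, Fin.is_le i, zero_le, and_self, dite_true] at this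
    rw [Matrix.smul_apply, Matrix.one_apply, smul_eq_mul, mul_ite, mul_one, mul_zero]
    refine this.trans ?_
    simp [Fin.val_inj]
  congr 1
  ext r i
  have h : Q r.castSucc i.castSucc = P r i := (e1 r.castSucc i).trans (dif_pos r.2)
  rw [hQ1] at h
  rw [← h]
  simp [Matrix.one_apply]

/-- Elements of the special linear group commuting with the representation up to scalars are
scalar. -/
theorem rep_centralizer (hp : p ≠ 2) (hk : Even (k + 1)) (hk3 : 3 ≤ k)
    (g : SpecialLinearGroup (Fin (k + (k + 1))) (ZMod p))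
    (hg : ∀ h, g * rep k hk h * g⁻¹ * (rep k hk h)⁻¹ ∈ Subgroup.center _) :
    g ∈ Subgroup.center _ := by
  have hcomm : ∀ (h : Grp p) (d : ℕ), h ^ d = 1 → (d = p ∨ d = 2) →
      g * rep k hk h = rep k hk h * g := by
    intro h d hd hd'
    obtain ⟨z, hz⟩ : ∃ z, z = g * rep k hk h * g⁻¹ * (rep k hk h)⁻¹ := ⟨_, rfl⟩
    have hzc : z ∈ Subgroup.center _ := hz ▸ hg h
    have hzd : z ^ d = 1 := by
      have e : (z * rep k hk h) ^ d = z ^ d * rep k hk h ^ d :=
        Commute.mul_pow ((Subgroup.mem_center_iff.1 hzc _).symm) d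
      rw [← map_pow, hd, map_one, mul_one] at e
      rw [← e, hz, inv_mul_cancel_right, conj_pow, ← map_pow, hd, map_one, mul_one, mul_inv_cancel]
    obtain ⟨c, hcn, hc⟩ := Matrix.SpecialLinearGroup.mem_center_iff.1 hzc
    have hcd : c ^ d = 1 := by
      have := Matrix.SpecialLinearGroup.coe_pow z d
      rw [hzd, ← hc, ← map_pow] at this
      change (1 : Matrix (Fin (k + (k + 1))) (Fin (k + (k + 1))) (ZMod p)) = _ at this
      have := congrFun (congrFun this.symm ⟨0, by omega⟩) ⟨0, by omega⟩
      simpa using this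
    have hc1 : c = 1 := by
      rcases hd' with rfl | rfl
      · rw [ZMod.pow_card] at hcd
        exact hcd
      · rw [Fintype.card_fin, show k + (k + 1) = 2 * k + 1 by ring, pow_succ, pow_mul, hcd, one_pow,
          one_mul] at hcn
        exact hcn
    have hz1 : z = 1 := Subtype.ext (by rw [← hc, hc1, map_one]; rfl)
    rw [hz1] at hz
    rw [eq_comm, mul_inv_eq_one, mul_inv_eq_iff_eq_mul] at hz
    exact hz
  obtain ⟨G, hG⟩ : ∃ G : Matrix (Fin k ⊕ Fin (k + 1)) (Fin k ⊕ Fin (k + 1)) (ZMod p),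
      G = reindex finSumFinEquiv.symm finSumFinEquiv.symm (g : Matrix _ _ (ZMod p)) := ⟨_, rfl⟩
  have hback : (g : Matrix _ _ (ZMod p)) = reindex finSumFinEquiv finSumFinEquiv G := by
    rw [hG]; simp
  have htr : ∀ A hA, g * blockSL k A hA = blockSL k A hA * g → G * A = A * G := by
    intro A hA h
    have h' := Matrix.SpecialLinearGroup.coe_mul g (blockSL k A hA)
    rw [h, Matrix.SpecialLinearGroup.coe_mul, blockSL_coe] at h'
    rw [hback, reindex_apply, reindex_apply, submatrix_mul_equiv, submatrix_mul_equiv] at h'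
    exact ((reindex finSumFinEquiv finSumFinEquiv).injective h').symm
  obtain ⟨c, hc⟩ := block_scalar k hp hk3 G (fun v => htr _ (by rw [det_fromBlocks_zero₁₂, det_one, det_one, one_mul]) (by
      have := hcomm (SemidirectProduct.inl (Multiplicative.ofAdd v)) p ?_ (Or.inl rfl)
      · rw [rep, SemidirectProduct.lift_inl] at this
        exact this
      · rw [← map_pow, ← ofAdd_nsmul, show p • v = 0 from funext fun i => by simp, ofAdd_zero, map_one]))
    (by
      have := hcomm (SemidirectProduct.inr (-1)) 2 (by rw [← map_pow, Int.units_sq, map_one]) (Or.inr rfl)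
      obtain ⟨h₃, e₃⟩ := invo_apply (p := p) k hk (-1)
      rw [rep, SemidirectProduct.lift_inr, e₃] at this
      simpa using htr _ _ this)
  rw [Subgroup.mem_center_iff]
  intro h
  apply Subtype.ext
  show (↑h : Matrix (Fin (k + (k + 1))) (Fin (k + (k + 1))) (ZMod p)) *
      (↑g : Matrix (Fin (k + (k + 1))) (Fin (k + (k + 1))) (ZMod p)) =
    (↑g : Matrix (Fin (k + (k + 1))) (Fin (k + (k + 1))) (ZMod p)) *
      (↑h : Matrix (Fin (k + (k + 1))) (Fin (k + (k + 1))) (ZMod p))
  rw [hback, hc]
  simp [submatrix_smul, Matrix.mul_smul, Matrix.smul_mul]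

theorem rep_injective (hp : p ≠ 2) (hk : Even (k + 1)) (hk3 : 3 ≤ k) (h : Grp p)
    (hh : rep k hk h ∈ Subgroup.center _) : h = 1 := by
  obtain ⟨c, -, hc⟩ := Matrix.SpecialLinearGroup.mem_center_iff.1 hh
  have hrep : rep k hk h = uni k h.left * invo k hk h.right := rfl
  obtain ⟨h₂, e₂⟩ := uni_apply k h.left
  obtain ⟨h₃, e₃⟩ := invo_apply (p := p) k hk h.right
  rw [hrep, e₂, e₃, ← blockSL_mul, blockSL_coe, reindex_apply, fromBlocks_multiply] at hc
  have hb : ∀ i j, fromBlocks (1 : Matrix (Fin k) (Fin k) (ZMod p)) 0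
      (krMat k (Multiplicative.toAdd h.left)) (((h.right : ℤ) : ZMod p) • 1) i j =
      if i = j then c else 0 := by
    intro i j
    have := congrFun (congrFun hc (finSumFinEquiv i)) (finSumFinEquiv j)
    simp only [scalar_apply, diagonal_apply, EmbeddingLike.apply_eq_iff_eq] at this
    rw [this]
    simp
  have hc1 := hb (Sum.inl ⟨0, by omega⟩) (Sum.inl ⟨0, by omega⟩)
  rw [fromBlocks_apply₁₁, one_apply_eq, if_pos rfl] at hc1
  have hu := hb (Sum.inr 0) (Sum.inr 0)
  rw [fromBlocks_apply₂₂, Matrix.smul_apply, one_apply_eq, if_pos rfl, smul_eq_mul, mul_one, ← hc1] at hu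
  refine SemidirectProduct.ext ?_ ?_
  · have hv : ∀ i : Fin (k + 1), krMat k (Multiplicative.toAdd h.left) i ⟨0, by omega⟩ = 0 :=
      fun i => by
        have := hb (Sum.inr i) (Sum.inl ⟨0, by omega⟩)
        rwa [fromBlocks_apply₂₁, if_neg Sum.inr_ne_inl] at this
    have h0 := hv ⟨0, by omega⟩
    have h1 := hv ⟨1, by omega⟩
    have h2 := hv ⟨k, by omega⟩
    simp only [krMat, of_apply] at h0 h1 h2
    simp [show (0 : ℕ) ≠ k by omega] at h0
    simp [show (1 : ℕ) ≠ k by omega] at h1
    simp [show k ≠ 0 by omega, show k ≠ 1 by omega] at h2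
    apply Multiplicative.toAdd.injective
    ext i
    fin_cases i
    · exact h0
    · exact h1
    · exact h2
  · rcases Int.units_eq_one_or h.right with e | e
    · exact e
    · rw [e] at hu
      exfalso
      apply two_ne hp
      simp at hu
      linear_combination -hu

end Cfsg.Agent.Fus.Brick
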