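import Cfsg.Agent.Lib.Fus.CTSimple

/-!
The action of a finite simple group with abelian centralisers on the cosets of the normaliser of an
involution centraliser.
-/

set_option autoImplicit false
set_option linter.unusedSectionVars false
set_option linter.style.haveILetI false

namespace Cfsg.Agent.Fus.CTSimple

open MulAction Subgroup

universe u

variable {G : Type u} [Group G] [Finite G] {t : G} {S : Sylow 2 G}

namespace Cfg

/-- The base point. -/
abbrev x0 (t : G) : G ⧸ M t := ((1 : G) : G ⧸ M t)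

/-- A two-point stabiliser. -/
abbrev P (t : G) (x y : G ⧸ M t) : Subgroup G := stabilizer G x ⊓ stabilizer G y

omit [Finite G] in
theorem smul_x0_iff {g : G} : g • x0 t = x0 t ↔ g ∈ M t := by
  rw [Invol.smul_coset_eq_iff, inv_one, one_mul, mul_one]

omit [Finite G] in
theorem stab_x0 : stabilizer G (x0 t) = M t := by
  ext g; exact smul_x0_iff

variable (c : Cfg t S)
include c

theorem fix_A {a : G} (ha : a ∈ A t) (ha1 : a ≠ 1) {y : G ⧸ M t} (hy : a • y = y) : y = x0 t := by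
  obtain ⟨g, rfl⟩ := QuotientGroup.mk_surjective y
  rw [QuotientGroup.eq, mul_one]
  exact inv_mem (c.fix a ha ha1 g (Invol.smul_coset_eq_iff.mp hy))

theorem P0_inter_A {y : G ⧸ M t} (hy : y ≠ x0 t) {d : G} (hd : d ∈ P t (x0 t) y) (hA : d ∈ A t) :
    d = 1 :=
  by_contra fun h => hy (c.fix_A hA h hd.2)

/-- The two-point stabiliser maps into the quotient of the point stabiliser by the centraliser. -/
theorem P0_toQuot_injective {y : G ⧸ M t} (hy : y ≠ x0 t) :
    Function.Injective fun d : P t (x0 t) y =>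
      (QuotientGroup.mk ⟨(d : G), smul_x0_iff.mp d.2.1⟩ : M t ⧸ (A t).subgroupOf (M t)) := by
  intro d e h
  have h' := QuotientGroup.eq.mp h
  have h1 := c.P0_inter_A hy (mul_mem (inv_mem d.2) e.2) h'
  exact Subtype.ext (inv_mul_eq_one.mp h1)

theorem card_P0_le {y : G ⧸ M t} (hy : y ≠ x0 t) :
    Nat.card (P t (x0 t) y) ≤ ((A t).subgroupOf (M t)).index := by
  rw [index_eq_card]
  exact Nat.card_le_card_of_injective _ (c.P0_toQuot_injective hy)

theorem I_pos : 0 < Nat.card {i : G // orderOf i = 2 ∧ i ∈ M t} :=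
  lt_of_lt_of_le (lt_trans zero_lt_one c.one_lt) c.toPre.h_le_I

theorem exists_swap {x y : G ⧸ M t} (hxy : x ≠ y) :
    ∃ w : G, orderOf w = 2 ∧ w • x = y ∧ w • y = x := by
  have h := Invol.card_swap_eq (c.toPre.se c.ne_top) x y hxy
  obtain ⟨⟨w, hw, hwx⟩⟩ := (Nat.card_pos_iff.mp (h ▸ c.I_pos)).1
  refine ⟨w, hw, hwx, ?_⟩
  rw [← hwx, smul_smul, Invol.mul_self_of_orderOf_two hw, one_smul]

/-- All equalities at the base point. -/
theorem base {y : G ⧸ M t} (hy : y ≠ x0 t) :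
    Nat.card (P t (x0 t) y) = ((A t).subgroupOf (M t)).index ∧
      Nat.card {i : G // orderOf i = 2 ∧ i ∈ M t} = ((A t).subgroupOf (M t)).index ∧
      ∀ w : G, w • x0 t = y → w • y = x0 t → orderOf w = 2 := by
  obtain ⟨u, hu, hux, huy⟩ := c.exists_swap hy.symm
  have hswap : ∀ i : {i : G // orderOf i = 2 ∧ i • x0 t = y}, u * (i : G) ∈ P t (x0 t) y := by
    rintro ⟨i, hi, hix⟩
    refine ⟨?_, ?_⟩ <;> show (u * i) • _ = _
    · rw [mul_smul, hix, huy]
    · have hiy : i • y = x0 t := by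
        rw [← hix, smul_smul, Invol.mul_self_of_orderOf_two hi, one_smul]
      rw [mul_smul, hiy, hux]
  let f : {i : G // orderOf i = 2 ∧ i • x0 t = y} → P t (x0 t) y := fun i => ⟨_, hswap i⟩
  have hf : Function.Injective f := fun i j e =>
    Subtype.ext (mul_left_cancel (congrArg Subtype.val e))
  have h1 := Nat.card_le_card_of_injective f hf
  have h2 := Invol.card_swap_eq (c.toPre.se c.ne_top) (x0 t) y hy.symm
  have h3 := c.card_P0_le hy
  have h4 := c.toPre.h_le_I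
  refine ⟨by omega, by omega, fun w hwx hwy => ?_⟩
  have hb := (Nat.bijective_iff_injective_and_card f).mpr ⟨hf, by omega⟩
  obtain ⟨i, hi⟩ := hb.2 ⟨u * w, by
    refine ⟨?_, ?_⟩ <;> show (u * w) • _ = _
    · rw [mul_smul, hwx, huy]
    · rw [mul_smul, hwy, hux]⟩
  have e : (i : G) = w := mul_left_cancel (congrArg Subtype.val hi)
  exact e ▸ i.2.1

theorem swap_invol {x y : G ⧸ M t} (hxy : x ≠ y) {w : G} (hwx : w • x = y) (hwy : w • y = x) :
    orderOf w = 2 := by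
  obtain ⟨g, hg⟩ := exists_smul_eq G x (x0 t)
  have hy : g • y ≠ x0 t := fun e => hxy (MulAction.injective g (hg.trans e.symm))
  have hgx : g⁻¹ • x0 t = x := inv_smul_eq_iff.mpr hg.symm
  have h := (c.base hy).2.2 (g * w * g⁻¹) (by rw [mul_smul, mul_smul, hgx, hwx])
    (by rw [mul_smul, mul_smul, inv_smul_smul, hwy, hg])
  rwa [Invol.orderOf_conj_eq] at h

/-- Interchanging elements invert the two-point stabiliser. -/
theorem inverts {x y : G ⧸ M t} (hxy : x ≠ y) {w d : G} (hwx : w • x = y) (hwy : w • y = x)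
    (hd : d ∈ P t x y) : w * d * w⁻¹ = d⁻¹ := by
  have hdx : d • x = x := hd.1
  have hdy : d • y = y := hd.2
  have hw := c.swap_invol hxy hwx hwy
  have hwd := c.swap_invol hxy (w := w * d) (by rw [mul_smul, hdx, hwx]) (by rw [mul_smul, hdy, hwy])
  rw [Invol.inv_of_orderOf_two hw]
  exact eq_inv_of_mul_eq_one_left (by
    rw [mul_assoc]; exact Invol.mul_self_of_orderOf_two hwd)

theorem P_comm {x y : G ⧸ M t} (hxy : x ≠ y) {d e : G} (hd : d ∈ P t x y) (he : e ∈ P t x y) :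
    Commute d e := by
  obtain ⟨w, -, hwx, hwy⟩ := c.exists_swap hxy
  have h1 := c.inverts hxy hwx hwy (mul_mem hd he)
  rw [← conj_mul, c.inverts hxy hwx hwy hd, c.inverts hxy hwx hwy he, ← mul_inv_rev] at h1
  exact (inv_injective h1).symm

theorem ne_two {x y : G ⧸ M t} (hxy : x ≠ y) {d : G} (hd : d ∈ P t x y) : orderOf d ≠ 2 := by
  intro hd2
  obtain ⟨g, hg⟩ := exists_smul_eq G x (x0 t)
  have hgx : g⁻¹ • x0 t = x := inv_smul_eq_iff.mpr hg.symm
  have hdx : d • x = x := hd.1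
  have hdy : d • y = y := hd.2
  have h2 : orderOf (g * d * g⁻¹) = 2 := by rw [Invol.orderOf_conj_eq, hd2]
  have hM : g * d * g⁻¹ ∈ M t := smul_x0_iff.mp (by rw [mul_smul, mul_smul, hgx, hdx, hg])
  have h := c.fix_A (c.toPre.inv_mem_A hM h2) (Invol.ne_one_of_orderOf_two h2) (y := g • y)
    (by rw [mul_smul, mul_smul, inv_smul_smul, hdy])
  exact hxy (MulAction.injective g (hg.trans h.symm))

theorem decompose {y : G ⧸ M t} (hy : y ≠ x0 t) {m : G} (hm : m ∈ M t) :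
    ∃ d ∈ P t (x0 t) y, d⁻¹ * m ∈ A t := by
  have hb := (Nat.bijective_iff_injective_and_card _).mpr ⟨c.P0_toQuot_injective hy, by
    rw [← index_eq_card]; exact (c.base hy).1⟩
  obtain ⟨d, hd⟩ := hb.2 (QuotientGroup.mk ⟨m, hm⟩)
  simp only [QuotientGroup.eq] at hd
  exact ⟨d, d.2, hd⟩

/-- Only the identity fixes three points. -/
theorem free3_base {g : G} {y z : G ⧸ M t} (hy : y ≠ x0 t) (hz : z ≠ x0 t) (hyz : y ≠ z)
    (hx : g • x0 t = x0 t) (hgy : g • y = y) (hgz : g • z = z) : g = 1 := by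
  by_contra hg1
  obtain ⟨u, -, huz, huy⟩ := c.exists_swap hyz.symm
  obtain ⟨v, -, hvx, hvz⟩ := c.exists_swap hz.symm
  obtain ⟨w, -, hwx, hwy⟩ := c.exists_swap hy.symm
  have hiu := c.inverts hyz.symm huz huy ⟨hgz, hgy⟩
  have hiv := c.inverts hz.symm hvx hvz ⟨hx, hgz⟩
  have hiw := c.inverts hy.symm hwx hwy ⟨hx, hgy⟩
  set k := u * v with hk
  have hkx : k • x0 t = y := by rw [hk, mul_smul, hvx, huz]
  have hkg : k * g * k⁻¹ = g := by
    calc k * g * k⁻¹ = u * (v * g * v⁻¹) * u⁻¹ := by rw [hk]; group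
      _ = (u * g * u⁻¹)⁻¹ := by rw [hiv]; group
      _ = g := by rw [hiu, inv_inv]
  set e := k⁻¹ * w with he
  have hex : e ∈ M t := smul_x0_iff.mp (by rw [he, mul_smul, hwx, inv_smul_eq_iff, hkx])
  have heg : e * g * e⁻¹ = g⁻¹ := by
    have hkg' : k⁻¹ * g⁻¹ * k = g⁻¹ := by
      calc k⁻¹ * g⁻¹ * k = k⁻¹ * (k * g * k⁻¹)⁻¹ * k := by rw [hkg]
        _ = g⁻¹ := by group
    calc e * g * e⁻¹ = k⁻¹ * (w * g * w⁻¹) * k := by rw [he]; group
      _ = g⁻¹ := by rw [hiw, hkg']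
  obtain ⟨d, hd, hda⟩ := c.decompose hy hex
  have hdg : Commute d g := c.P_comm hy.symm hd ⟨hx, hgy⟩
  set a := d⁻¹ * e with ha
  have hag : a * g * a⁻¹ = g⁻¹ := by
    calc a * g * a⁻¹ = d⁻¹ * (e * g * e⁻¹) * d := by rw [ha]; group
      _ = g⁻¹ := by rw [heg, mul_assoc, (hdg.inv_right.symm).eq, inv_mul_cancel_left]
  have hmem : a * (g * a⁻¹ * g⁻¹) ∈ A t :=
    mul_mem hda (c.toPre.conj_mem_A (smul_x0_iff.mp hx) (inv_mem hda))
  rw [show a * (g * a⁻¹ * g⁻¹) = a * g * a⁻¹ * g⁻¹ by group, hag] at hmem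
  have hP : g⁻¹ * g⁻¹ ∈ P t (x0 t) y :=
    mul_mem (inv_mem (show g ∈ P t (x0 t) y from ⟨hx, hgy⟩)) (inv_mem ⟨hx, hgy⟩)
  have h1 := c.P0_inter_A hy hP hmem
  rw [← mul_inv_rev, inv_eq_one] at h1
  exact c.ne_two hy.symm ⟨hx, hgy⟩ (Invol.orderOf_two_iff.mpr ⟨h1, hg1⟩)

theorem free3 (g : G) (x y z : G ⧸ M t) (hxy : x ≠ y) (hyz : y ≠ z) (hxz : x ≠ z)
    (hx : g • x = x) (hy : g • y = y) (hz : g • z = z) : g = 1 := by
  obtain ⟨k, hk⟩ := exists_smul_eq G x (x0 t)
  have hkx : k⁻¹ • x0 t = x := inv_smul_eq_iff.mpr hk.symm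
  have h := c.free3_base (g := k * g * k⁻¹) (y := k • y) (z := k • z)
    (fun e => hxy (MulAction.injective k (hk.trans e.symm)))
    (fun e => hxz (MulAction.injective k (hk.trans e.symm)))
    (fun e => hyz (MulAction.injective k e))
    (by rw [mul_smul, mul_smul, hkx, hx, hk]) (by rw [mul_smul, mul_smul, inv_smul_smul, hy])
    (by rw [mul_smul, mul_smul, inv_smul_smul, hz])
  exact conj_eq_one_iff.mp h

theorem exists_ne : ∃ y : G ⧸ M t, y ≠ x0 t := by
  by_contra h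
  push Not at h
  exact c.ne_top (eq_top_iff.mpr fun g _ => smul_x0_iff.mp (h _))

theorem exists_P_ne_one {y : G ⧸ M t} (hy : y ≠ x0 t) : ∃ d ∈ P t (x0 t) y, d ≠ 1 := by
  by_contra h
  push Not at h
  have hb : P t (x0 t) y = ⊥ := (eq_bot_iff_forall _).mpr h
  have := (c.base hy).1
  have h1 := c.one_lt
  rw [hb, card_bot] at this
  omega

theorem cent_mem {a x : G} (ha : a ∈ A t) (ha1 : a ≠ 1) (hx : Commute x a) : x ∈ A t := by
  obtain ⟨y, hy⟩ := c.exists_ne
  have hm : x ∈ M t := c.fix a ha ha1 x (by rw [mul_assoc, ← hx.eq, inv_mul_cancel_left]; exact A_le_M ha)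
  obtain ⟨d, hd, hda⟩ := c.decompose hy hm
  have hd' : d⁻¹ * x ∈ A t := hda
  have hda : Commute d a := by
    have h := hx.mul_left (c.comm _ _ (inv_mem hd') ha)
    rwa [mul_inv_rev, inv_inv, mul_inv_cancel_left] at h
  by_contra hxA
  have hd1 : d ≠ 1 := by
    rintro rfl
    rw [inv_one, one_mul] at hd'
    exact hxA hd'
  have hdy : d • y = y := hd.2
  refine hd1 (c.free3 d (x0 t) y (a • y) hy.symm ?_ ?_ hd.1 hdy ?_)
  · exact fun e => hy (c.fix_A ha ha1 e.symm)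
  · exact fun e => hy (MulAction.injective a ((smul_x0_iff.mpr (A_le_M ha)).trans e).symm)
  · rw [smul_smul, hda.eq, mul_smul, hdy]

theorem coprime : (Nat.card (A t)).Coprime ((A t).subgroupOf (M t)).index :=
  c.toPre.coprime fun _ _ ha ha1 hx => c.cent_mem ha ha1 hx

/-- The centraliser is transitive on the points other than the base point. -/
theorem A_trans {y z : G ⧸ M t} (hy : y ≠ x0 t) (hz : z ≠ x0 t) : ∃ a ∈ A t, a • y = z := by
  let N := (A t).subgroupOf (M t)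
  haveI : IsMulCommutative N := ⟨⟨fun a b => Subtype.ext (Subtype.ext (c.comm _ _ a.2 b.2))⟩⟩
  have hcop : (Nat.card N).Coprime N.index := by
    rw [Nat.card_congr (subgroupOfEquivOfLe (A_le_M (t := t))).toEquiv]
    exact c.toPre.coprime fun a x ha ha1 hx => c.cent_mem ha ha1 hx
  have hle : ∀ {y : G ⧸ M t}, P t (x0 t) y ≤ M t := fun {y} => inf_le_left.trans stab_x0.le
  have hcard : ∀ {y : G ⧸ M t}, y ≠ x0 t →
      Nat.card ((P t (x0 t) y).subgroupOf (M t)) = N.index := fun {y} hy => by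
    rw [Nat.card_congr (subgroupOfEquivOfLe hle).toEquiv]; exact (c.base hy).1
  obtain ⟨a, ha, hconj⟩ := Grp.complements_conj_abelian N hcop (hcard hy) (hcard hz)
  obtain ⟨d, hd, hd1⟩ := c.exists_P_ne_one hy
  refine ⟨(a : G), ha, ?_⟩
  have hmem : a * ⟨d, hle hd⟩ * a⁻¹ ∈ (P t (x0 t) z).subgroupOf (M t) := by
    rw [← hconj]
    exact Subgroup.smul_mem_pointwise_smul (⟨d, hle hd⟩ : M t) (MulAut.conj a) _ hd
  have hmem' : (a : G) * d * (a : G)⁻¹ ∈ P t (x0 t) z := hmem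
  have hay : (a : G) • y ≠ x0 t := fun e =>
    hy (MulAction.injective (a : G) (e.trans (smul_x0_iff.mpr a.2).symm))
  by_contra hne
  refine hd1 (conj_eq_one_iff.mp (c.free3 _ (x0 t) ((a : G) • y) z hay.symm hne hz.symm hmem'.1 ?_ hmem'.2))
  rw [mul_smul, mul_smul, inv_smul_smul, show d • y = y from hd.2]

theorem A_reg {y z : G ⧸ M t} (hy : y ≠ x0 t) (hz : z ≠ x0 t) :
    ∃! a : A t, (a : G) • y = z := by
  obtain ⟨a, ha, hay⟩ := c.A_trans hy hz
  refine ⟨⟨a, ha⟩, hay, fun b hb => Subtype.ext ?_⟩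
  by_contra hne
  refine hy (c.fix_A (mul_mem (inv_mem ha) b.2) (fun e => hne (inv_mul_eq_one.mp e).symm) ?_)
  rw [mul_smul, hb, inv_smul_eq_iff, hay]

theorem two_trans : IsMultiplyPretransitive G (G ⧸ M t) 2 := by
  refine is_two_pretransitive_iff.mpr fun {x y z w} hxy hzw => ?_
  obtain ⟨g, hg⟩ := exists_smul_eq G x (x0 t)
  obtain ⟨k, hk⟩ := exists_smul_eq G z (x0 t)
  obtain ⟨a, ha, hay⟩ := c.A_trans (y := g • y) (z := k • w)
    (fun e => hxy (MulAction.injective g (hg.trans e.symm)))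
    (fun e => hzw (MulAction.injective k (hk.trans e.symm)))
  refine ⟨k⁻¹ * a * g, ?_, ?_⟩ <;> rw [mul_smul, mul_smul, inv_smul_eq_iff]
  · rw [hg, smul_x0_iff.mpr (A_le_M ha), hk]
  · exact hay

theorem card_points : Nat.card (G ⧸ M t) = Nat.card (A t) + 1 := by
  classical
  obtain ⟨y, hy⟩ := c.exists_ne
  have hne : ∀ a : A t, (a : G) • y ≠ x0 t := fun a e =>
    hy (MulAction.injective (a : G) (e.trans (smul_x0_iff.mpr (A_le_M a.2)).symm))
  have hb : Function.Bijective (fun a : A t => (⟨(a : G) • y, hne a⟩ : {z : G ⧸ M t // z ≠ x0 t})) := by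
    refine ⟨fun a b e => ?_, fun z => ?_⟩
    · obtain ⟨r, -, hu⟩ := c.A_reg hy (hne a)
      exact (hu a rfl).trans (hu b (congrArg Subtype.val e).symm).symm
    · obtain ⟨a, ha, -⟩ := c.A_reg hy z.2
      exact ⟨a, Subtype.ext ha⟩
  rw [Nat.card_congr (Equiv.ofBijective _ hb), ← Finite.card_option,
    Nat.card_congr (Equiv.optionSubtypeNe (x0 t))]

theorem two_dvd_card_A : 2 ∣ Nat.card (A t) := by
  rw [← c.ht, ← orderOf_mk t c.toPre.t_mem]; exact orderOf_dvd_natCard _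

theorem fix_all {g : G} (h : ∀ x : G ⧸ M t, g • x = x) : g = 1 := by
  by_contra hg
  obtain ⟨y, hy⟩ := c.exists_ne
  have hcard : 3 ≤ Nat.card (G ⧸ M t) := by
    rw [c.card_points]
    have := Nat.le_of_dvd Nat.card_pos c.two_dvd_card_A
    omega
  classical
  haveI := Fintype.ofFinite (G ⧸ M t)
  obtain ⟨z, -, hz⟩ := Finset.exists_mem_notMem_of_card_lt_card (s := ({x0 t, y} : Finset (G ⧸ M t)))
    (t := Finset.univ) (by rw [Finset.card_pair hy.symm, Finset.card_univ, ← Nat.card_eq_fintype_card]; omega)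
  simp only [Finset.mem_insert, Finset.mem_singleton, not_or] at hz
  exact hg (c.free3 g (x0 t) y z hy.symm (Ne.symm hz.2) (Ne.symm hz.1) (h _) (h _) (h _))

theorem faithful : FaithfulSMul G (G ⧸ M t) := by
  refine ⟨fun {g k} hgk => inv_mul_eq_one.mp (c.fix_all (g := g⁻¹ * k) fun x => ?_)⟩
  rw [mul_smul, ← hgk x, inv_smul_smul]

theorem zassenhaus : Cfsg.IsZassenhausGroup G (G ⧸ M t) := by
  obtain ⟨y, hy⟩ := c.exists_ne
  obtain ⟨d, hd, hd1⟩ := c.exists_P_ne_one hy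
  refine ⟨c.faithful, c.two_trans, c.free3, ⟨d, hd1, x0 t, y, hy.symm, hd.1, hd.2⟩, fun N hN hT => ?_⟩
  by_contra hcon
  push Not at hcon
  have hb := hcon (x0 t)
  -- the involution inverts the regular normal subgroup
  have hNM : ∀ n ∈ N, n ∈ M t → n = 1 := fun n hn hm =>
    congrArg Subtype.val ((eq_bot_iff_forall _).mp hb ⟨n, hn⟩ (smul_x0_iff.mpr hm))
  have hinv : ∀ i, i ∈ A t → orderOf i = 2 → ∀ n ∈ N, i * n * i⁻¹ = n⁻¹ := by
    intro i hi hi2
    have hii : i⁻¹ = i := Invol.inv_of_orderOf_two hi2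
    let f : N → N := fun n => ⟨(n : G)⁻¹ * (i * n * i⁻¹), mul_mem (inv_mem n.2) (hN.conj_mem _ n.2 i)⟩
    have hf : Function.Injective f := by
      intro n m e
      have e' : (n : G)⁻¹ * (i * n * i⁻¹) = (m : G)⁻¹ * (i * m * i⁻¹) := congrArg Subtype.val e
      have hc : Commute ((m : G) * (n : G)⁻¹) i := by
        show (m : G) * (n : G)⁻¹ * i = i * ((m : G) * (n : G)⁻¹)
        calc (m : G) * (n : G)⁻¹ * i = (m : G) * ((n : G)⁻¹ * (i * n * i⁻¹)) * (i * (n : G)⁻¹) := by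
              group
          _ = (m : G) * ((m : G)⁻¹ * (i * m * i⁻¹)) * (i * (n : G)⁻¹) := by rw [e']
          _ = i * ((m : G) * (n : G)⁻¹) := by group
      exact Subtype.ext (mul_inv_eq_one.mp (hNM _ (mul_mem m.2 (inv_mem n.2))
        (A_le_M (c.invC i hi hi2 _ hc)))).symm
    intro n hn
    obtain ⟨m, hm⟩ := (Finite.injective_iff_surjective.mp hf) ⟨n, hn⟩
    have hm' : (m : G)⁻¹ * (i * m * i⁻¹) = n := congrArg Subtype.val hm
    rw [← hm']
    calc i * ((m : G)⁻¹ * (i * m * i⁻¹)) * i⁻¹ = i * (m : G)⁻¹ * (i * m) * (i * i)⁻¹ := by group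
      _ = i * (m : G)⁻¹ * (i * m) := by
        rw [Invol.mul_self_of_orderOf_two hi2, inv_one, mul_one]
      _ = ((m : G)⁻¹ * (i * m * i⁻¹))⁻¹ := by simp only [mul_inv_rev, inv_inv, hii, mul_assoc]
  have hmem : d * t * d⁻¹ ∈ A t := c.toPre.conj_mem_A (smul_x0_iff.mp hd.1) c.toPre.t_mem
  set a := t * (d * t * d⁻¹) with ha
  have hfix : ∀ z : G ⧸ M t, a • z = z := by
    intro z
    obtain ⟨n, rfl⟩ := hT.exists_smul_eq (x0 t) z
    show a • ((n : G) • x0 t) = (n : G) • x0 t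
    have hc : a * (n : G) * a⁻¹ = n := by
      calc a * (n : G) * a⁻¹ = t * (d * t * d⁻¹ * n * (d * t * d⁻¹)⁻¹) * t⁻¹ := by rw [ha]; group
        _ = (t * n * t⁻¹)⁻¹ := by
          rw [hinv _ hmem (by rw [Invol.orderOf_conj_eq, c.ht]) _ n.2]; group
        _ = n := by rw [hinv t c.toPre.t_mem c.ht _ n.2, inv_inv]
    rw [← mul_smul, mul_inv_eq_iff_eq_mul.mp hc, mul_smul,
      smul_x0_iff.mpr (A_le_M (mul_mem c.toPre.t_mem hmem))]
  have h1 := c.fix_all hfix
  rw [ha] at h1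
  have hdt : d * t * d⁻¹ = t :=
    (eq_inv_of_mul_eq_one_right h1).trans (Invol.inv_of_orderOf_two c.ht)
  exact hd1 (c.P0_inter_A hy hd (mem_A.mpr (mul_inv_eq_iff_eq_mul.mp hdt)))

theorem h_odd : Odd ((A t).subgroupOf (M t)).index := by
  obtain ⟨y, hy⟩ := c.exists_ne
  rw [← (c.base hy).1, ← Nat.not_even_iff_odd, even_iff_two_dvd]
  intro h
  obtain ⟨d, hd⟩ := exists_prime_orderOf_dvd_card' (G := P t (x0 t) y) 2 h
  exact c.ne_two hy.symm d.2 ((orderOf_coe d).trans hd)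

theorem card_G : Nat.card G =
    (Nat.card (A t) + 1) * (Nat.card (A t) * ((A t).subgroupOf (M t)).index) := by
  rw [← c.card_points, ← Subgroup.index_eq_card,
    ← Nat.card_congr (subgroupOfEquivOfLe (A_le_M (t := t))).toEquiv, Subgroup.card_mul_index,
    mul_comm, Subgroup.card_mul_index]

/-- When the centraliser is elementary the action is sharply triply transitive. -/
theorem three_trans (hall : ∀ a ∈ A t, a ≠ 1 → orderOf a = 2) :
    IsMultiplyPretransitive G (G ⧸ M t) 3 := by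
  obtain ⟨y₀, hy₀⟩ := c.exists_ne
  let z₀ := t • y₀
  have htx : t • x0 t = x0 t := smul_x0_iff.mpr (A_le_M c.toPre.t_mem)
  -- the two-point stabiliser is transitive on the remaining points
  have htr : ∀ z, z ≠ x0 t → z ≠ y₀ → ∃ d ∈ P t (x0 t) y₀, d • z₀ = z := by
    intro z hz hzy
    obtain ⟨a, ha, haz⟩ := c.A_trans hy₀ hz
    have ha1 : a ≠ 1 := fun e => hzy (by rw [← haz, e, one_smul])
    let g : P t (x0 t) y₀ → {i : G // orderOf i = 2 ∧ i ∈ M t} := fun d =>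
      ⟨(d : G) * t * (d : G)⁻¹, by rw [Invol.orderOf_conj_eq, c.ht],
        A_le_M (c.toPre.conj_mem_A (smul_x0_iff.mp d.2.1) c.toPre.t_mem)⟩
    have hinj : Function.Injective g := by
      intro d e h
      have h' : (d : G) * t * (d : G)⁻¹ = (e : G) * t * (e : G)⁻¹ := congrArg Subtype.val h
      have hA : (d : G)⁻¹ * (e : G) ∈ A t := mem_A.mpr (by
        calc (d : G)⁻¹ * (e : G) * t = (d : G)⁻¹ * ((e : G) * t * (e : G)⁻¹) * (e : G) := by group
          _ = (d : G)⁻¹ * ((d : G) * t * (d : G)⁻¹) * (e : G) := by rw [h']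
          _ = t * ((d : G)⁻¹ * (e : G)) := by group)
      exact Subtype.ext (inv_mul_eq_one.mp (c.P0_inter_A hy₀ (mul_mem (inv_mem d.2) e.2) hA))
    have hb := (Nat.bijective_iff_injective_and_card g).mpr
      ⟨hinj, (c.base hy₀).1.trans (c.base hy₀).2.1.symm⟩
    obtain ⟨d, hd⟩ := hb.2 ⟨a, hall a ha ha1, A_le_M ha⟩
    have hd' : (d : G) * t * (d : G)⁻¹ = a := congrArg Subtype.val hd
    refine ⟨d, d.2, ?_⟩
    rw [← haz, ← hd', mul_smul, mul_smul, inv_smul_eq_iff.mpr (show y₀ = (d : G) • y₀ from d.2.2.symm)]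
  have hbase : ∀ x : Fin 3 ↪ (G ⧸ M t), ∃ g : G, g • x 0 = x0 t ∧ g • x 1 = y₀ ∧ g • x 2 = z₀ := by
    intro x
    obtain ⟨g, hg0, hg1⟩ := is_two_pretransitive_iff.mp c.two_trans
      (x.injective.ne (show (0 : Fin 3) ≠ 1 by decide)) hy₀.symm
    obtain ⟨d, hd, hdz⟩ := htr (g • x 2)
      (fun e => x.injective.ne (show (2 : Fin 3) ≠ 0 by decide) (MulAction.injective g (e.trans hg0.symm)))
      (fun e => x.injective.ne (show (2 : Fin 3) ≠ 1 by decide) (MulAction.injective g (e.trans hg1.symm)))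
    refine ⟨d⁻¹ * g, ?_, ?_, ?_⟩ <;> rw [mul_smul, inv_smul_eq_iff]
    · rw [hg0]; exact hd.1.symm
    · rw [hg1]; exact hd.2.symm
    · exact hdz.symm
  refine isMultiplyPretransitive_iff.mpr fun x y => ?_
  obtain ⟨g, hg0, hg1, hg2⟩ := hbase x
  obtain ⟨k, hk0, hk1, hk2⟩ := hbase y
  refine ⟨k⁻¹ * g, ?_⟩
  ext i
  show (k⁻¹ * g) • x i = y i
  rw [mul_smul, inv_smul_eq_iff]
  fin_cases i
  · exact hg0.trans hk0.symm
  · exact hg1.trans hk1.symm
  · exact hg2.trans hk2.symm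

theorem sharp (x : Fin 3 ↪ (G ⧸ M t)) : stabilizer G x = ⊥ := by
  refine (eq_bot_iff_forall _).mpr fun g hg => ?_
  have h : ∀ i, g • x i = x i := fun i => by
    rw [← Function.Embedding.smul_apply, mem_stabilizer_iff.mp hg]
  exact c.free3 g (x 0) (x 1) (x 2) (x.injective.ne (by decide)) (x.injective.ne (by decide))
    (x.injective.ne (by decide)) (h 0) (h 1) (h 2)

/-- With an elementary centraliser the group is `PGL(2, 2^f)`. -/
theorem iso_pgl (hall : ∀ a ∈ A t, a ≠ 1 → orderOf a = 2) :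
    ∃ (F : Type) (_ : Field F) (_ : Fintype F) (f : ℕ), 2 ≤ f ∧ Fintype.card F = 2 ^ f ∧
      Nonempty (G ≃* Matrix.ProjGenLinGroup (Fin 2) F) := by
  classical
  haveI := Fintype.ofFinite (G ⧸ M t)
  haveI := c.faithful
  haveI : Fact (Nat.Prime 2) := ⟨Nat.prime_two⟩
  have hA2 : IsPGroup 2 (A t) := fun a => by
    refine ⟨1, Subtype.ext ?_⟩
    rcases eq_or_ne (a : G) 1 with h | h
    · simp [h]
    · simpa [hall a a.2 h] using pow_orderOf_eq_one (a : G)
  obtain ⟨f, hf⟩ := IsPGroup.iff_card.mp hA2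
  have hI : ((A t).subgroupOf (M t)).index + 1 ≤ Nat.card (A t) := by
    obtain ⟨y, hy⟩ := c.exists_ne
    rw [← (c.base hy).2.1, ← Finite.card_option]
    refine Nat.card_le_card_of_injective
      (fun o : Option {i : G // orderOf i = 2 ∧ i ∈ M t} =>
        o.elim (1 : A t) fun i => ⟨i.1, c.toPre.inv_mem_A i.2.2 i.2.1⟩) ?_
    rintro (_ | i) (_ | j) h
    · rfl
    · exact absurd (congrArg Subtype.val h).symm (Invol.ne_one_of_orderOf_two j.2.1)
    · exact absurd (congrArg Subtype.val h) (Invol.ne_one_of_orderOf_two i.2.1)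
    · exact congrArg some (Subtype.ext (by simpa using h))
  have hf2 : 2 ≤ f := by
    by_contra hlt
    have h1 := c.one_lt
    interval_cases f <;> omega
  have hα : Fintype.card (G ⧸ M t) = 2 ^ f + 1 := by
    rw [← Nat.card_eq_fintype_card, c.card_points, hf]
  let e := MonoidHom.ofInjective (f := toPermHom G (G ⧸ M t)) (fun g k h =>
    FaithfulSMul.eq_of_smul_eq_smul fun x : G ⧸ M t => congrArg (fun p : Equiv.Perm (G ⧸ M t) => p x) h)
  have h3 : IsMultiplyPretransitive (toPermHom G (G ⧸ M t)).range (G ⧸ M t) 3 := by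
    refine isMultiplyPretransitive_iff.mpr fun x y => ?_
    obtain ⟨g, hg⟩ := isMultiplyPretransitive_iff.mp (c.three_trans hall) x y
    exact ⟨e g, Function.Embedding.ext fun i => congrArg (fun z : Fin 3 ↪ (G ⧸ M t) => z i) hg⟩
  have hsh : ∀ x : Fin 3 ↪ (G ⧸ M t), stabilizer (toPermHom G (G ⧸ M t)).range x = ⊥ := by
    intro x
    refine (eq_bot_iff_forall _).mpr fun p hp => ?_
    obtain ⟨g, rfl⟩ := e.surjective p
    have hg : g ∈ stabilizer G x := mem_stabilizer_iff.mpr (Function.Embedding.ext fun i =>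
      congrArg (fun z : Fin 3 ↪ (G ⧸ M t) => z i) (mem_stabilizer_iff.mp hp))
    rw [c.sharp x, Subgroup.mem_bot] at hg
    rw [hg, map_one]
  obtain ⟨F, i1, i2, hF, ⟨φ⟩⟩ := S0727.result (by omega) hα _ h3 hsh
  exact ⟨F, i1, i2, f, hf2, hF, ⟨e.trans φ⟩⟩

end Cfg

end Cfsg.Agent.Fus.CTSimple
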