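import Cfsg.Agent.Lib.Fus.CaminaPairBasic
import Cfsg.Agent.Lib.Char.ExtendMain
import Cfsg.Agent.Lib.Char.PPrimeDegree
import Cfsg.Agent.Lib.Char.Average
import Cfsg.Agent.Lib.Grp.FpfPrime

/-!
Camina pairs: a common prime divides the index of the derived subgroup of the kernel; trichotomy.
-/

namespace Cfsg.Agent.Fus

open Subgroup
open scoped ComplexConjugate commutatorElement
open Cfsg Cfsg.Agent.Char Cfsg.Agent.Block

universe u

variable {G : Type u} [Group G] {N : Subgroup G} [hN : N.Normal]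

/-- Irreducible characters nontrivial on `N` vanish off `N`. -/
theorem IsCamina.char_eq_zero [Finite G] (h : IsCamina N) {χ : G → ℂ}
    (hχ : IsIrrCharacter G χ) (hker : ∃ n : N, χ n ≠ χ 1) {g : G} (hg : g ∉ N) : χ g = 0 := by
  classical
  haveI := Fintype.ofFinite G
  haveI := Fintype.ofFinite N
  rcases avgN_irr N hχ with ⟨-, h0⟩ | ⟨hk, -⟩
  · have h1 : ∀ n : N, χ ((n : G) * g) = χ g := fun n => by
      obtain ⟨x, hx⟩ := h g hg (g⁻¹ * n * g) (by simpa using hN.conj_mem _ n.2 g⁻¹)
      rw [show (n : G) * g = x * g * x⁻¹ by rw [hx]; group, IsIrr.classFun hχ]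
    have h2 := congrFun h0 g
    simp only [avgN, h1, Finset.sum_const, Finset.card_univ, nsmul_eq_mul, Pi.zero_apply,
      ← Nat.card_eq_fintype_card] at h2
    rwa [inv_mul_cancel_left₀ (Nat.cast_ne_zero.mpr Nat.card_pos.ne')] at h2
  · obtain ⟨n, hn⟩ := hker
    exact absurd (hk n) hn

/-- An invariant nonprincipal irreducible character of degree prime to `q`. -/
theorem exists_invariant_irr [Finite G] {q : ℕ} [hq : Fact q.Prime] (Q : Sylow q G)
    (hd : q ∣ Nat.card N) :
    ∃ θ : IrrCharacter N, (θ : N → ℂ) ≠ (fun _ => 1) ∧ ¬ q ∣ charDegree (θ : N → ℂ) ∧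
      ∀ u ∈ (Q : Subgroup G), conjN N u (θ : N → ℂ) = θ := by
  classical
  haveI := Fintype.ofFinite N
  by_contra hno
  push Not at hno
  let d : IrrCharacter N → ℕ := fun θ => charDegree (θ : N → ℂ)
  let act : G → IrrCharacter N → IrrCharacter N :=
    fun g θ => ⟨conjN N g⁻¹ θ, IsIrr.conjN N θ.2 g⁻¹⟩
  have hdeg : ∀ g θ, d (act g θ) = d θ := fun g θ => by
    show charDegree (conjN N g⁻¹ θ) = charDegree (θ : N → ℂ)
    simp only [charDegree]
    congr 2
    rw [conjN_apply]
    exact congrArg (θ : N → ℂ) (Subtype.ext (by simp))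
  let X := {x : IrrCharacter N × ℕ × ℕ // x.2.1 < d x.1 ∧ x.2.2 < d x.1}
  let ε : ∀ P : IrrCharacter N → Prop, {x : X // P x.1.1}
      ≃ Σ θ : {θ : IrrCharacter N // P θ}, Fin (d θ.1) × Fin (d θ.1) := fun P =>
    { toFun := fun x => ⟨⟨x.1.1.1, x.2⟩, ⟨x.1.1.2.1, x.1.2.1⟩, ⟨x.1.1.2.2, x.1.2.2⟩⟩
      invFun := fun y => ⟨⟨(y.1.1, (y.2.1 : ℕ), (y.2.2 : ℕ)), y.2.1.2, y.2.2.2⟩, y.1.2⟩
      left_inv := fun x => rfl
      right_inv := fun y => rfl }
  have hcard : ∀ P : IrrCharacter N → Prop, Nat.card {x : X // P x.1.1}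
      = ∑ θ ∈ Finset.univ.filter P, d θ ^ 2 := fun P => by
    rw [Nat.card_congr (ε P), Nat.card_sigma,
      Finset.sum_subtype (Finset.univ.filter P) (p := P) (fun θ => by simp) fun θ => d θ ^ 2]
    exact Finset.sum_congr rfl fun θ _ => by
      rw [Nat.card_prod, Nat.card_fin, sq]
  haveI hXfin : Finite X := by
    haveI : Finite {x : X // True} := Finite.of_equiv _ (ε fun _ => True).symm
    exact Finite.of_equiv _ (Equiv.subtypeUnivEquiv (p := fun _ : X => True) fun _ => trivial)
  have hX : Nat.card X = Nat.card N := by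
    rw [← Nat.card_congr (Equiv.subtypeUnivEquiv (p := fun _ : X => True) fun _ => trivial),
      hcard fun _ => True]
    have h1 := Cfsg.Agent.Char.sum_degree_sq (G := N)
    simp only [charDeg_spec'] at h1
    rw [Finset.filter_true]
    exact_mod_cast h1
  letI : MulAction (Q : Subgroup G) X :=
    { smul := fun u x => ⟨(act u x.1.1, x.1.2), by
        rw [hdeg]; exact x.2⟩
      one_smul := fun x => Subtype.ext (Prod.ext (Subtype.ext (by
        show conjN N ((1 : G))⁻¹ (x.1.1 : N → ℂ) = _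
        rw [inv_one, conjN_one])) rfl)
      mul_smul := fun u v x => Subtype.ext (Prod.ext (Subtype.ext (by
        show conjN N ((u : G) * v)⁻¹ (x.1.1 : N → ℂ) = conjN N (u : G)⁻¹ (conjN N (v : G)⁻¹ _)
        rw [mul_inv_rev, conjN_mul])) rfl) }
  have hmod := Q.2.card_modEq_card_fixedPoints X
  let P : IrrCharacter N → Prop := fun θ => ∀ u ∈ (Q : Subgroup G), conjN N u (θ : N → ℂ) = θ
  have hfix : Nat.card (MulAction.fixedPoints (Q : Subgroup G) X)
      = Nat.card {x : X // P x.1.1} := Nat.card_congr (Equiv.subtypeEquivRight fun x => by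
    constructor
    · intro hx u hu
      have := congrArg (fun y : X => (y.1.1 : N → ℂ)) (hx ⟨u⁻¹, inv_mem hu⟩)
      change conjN N (u⁻¹)⁻¹ (x.1.1 : N → ℂ) = x.1.1 at this
      rwa [inv_inv] at this
    · intro hx u
      exact Subtype.ext (Prod.ext (Subtype.ext (hx _ (inv_mem u.2))) rfl))
  rw [hfix, hcard P, hX] at hmod
  have h1 : trivialIrr N ∈ Finset.univ.filter P :=
    Finset.mem_filter.mpr ⟨Finset.mem_univ _, fun u _ => funext fun n => rfl⟩
  rw [← Finset.add_sum_erase _ _ h1] at hmod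
  have h2 : d (trivialIrr N) = 1 := charDeg_trivial
  have h3 : q ∣ d (trivialIrr N) ^ 2 + ∑ θ ∈ (Finset.univ.filter P).erase (trivialIrr N), d θ ^ 2 :=
    (hmod.dvd_iff dvd_rfl).mp hd
  refine hq.out.not_dvd_one ((Nat.dvd_add_left (Finset.dvd_sum fun θ hθ => ?_)).mp h3 |>
    fun h' => by simpa [h2] using h')
  obtain ⟨hne, hθP⟩ := Finset.mem_erase.mp hθ
  refine dvd_pow ?_ two_ne_zero
  by_contra hnd
  obtain ⟨u, hu, hne'⟩ := hno θ (fun e => hne (Subtype.ext e)) hnd
  exact hne' ((Finset.mem_filter.mp hθP).2 u hu)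

/-- A prime common to kernel and quotient divides the index of the derived subgroup of the kernel. -/
theorem IsCamina.dvd_commutator_index [Finite G] (h : IsCamina N) {q : ℕ} [hq : Fact q.Prime]
    (hqN : q ∣ Nat.card N) (hqI : q ∣ N.index) : q ∣ (commutator N).index := by
  classical
  haveI := Fintype.ofFinite G
  haveI := Fintype.ofFinite N
  by_contra hnd
  obtain ⟨Q⟩ : Nonempty (Sylow q G) := inferInstance
  obtain ⟨θ, hθ1, hθq, hθfix⟩ := exists_invariant_irr (N := N) Q hqN
  set d := charDegree (θ : N → ℂ)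
  have hd : (θ : N → ℂ) 1 = d := charDeg_spec' θ
  obtain ⟨l, hl⟩ := isCharacter_detChar θ.2
  have hlpow : l ^ (commutator N).index = 1 :=
    pow_index_eq_one l fun n => Abelianization.commutator_subset_ker l n.2
  set T := N ⊔ (Q : Subgroup G) with hT
  haveI := Fintype.ofFinite T
  set NT := N.subgroupOf T with hNT
  haveI : NT.Normal := Subgroup.Normal.subgroupOf inferInstance _
  haveI := Fintype.ofFinite NT
  obtain ⟨k, hk⟩ := PPrime.relIndex_sup_pow Q N
  let e : NT ≃* N := Subgroup.subgroupOfEquivOfLe le_sup_left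
  set θT : NT → ℂ := fun m => (θ : N → ℂ) (e m) with hθTdef
  have hθT : IsIrrCharacter NT θT := IsIrr.comp_mulEquiv e θ.2
  have hinv : ∀ (g : T) (n : NT),
      θT ⟨g * n * g⁻¹, (inferInstance : NT.Normal).conj_mem (n : T) n.2 g⟩ = θT n := by
    intro g n
    obtain ⟨a, ha, b, hb, hab⟩ := Subgroup.mem_sup_of_normal_left.mp g.2
    have h1 := congrFun (hθfix b hb) (e n)
    rw [conjN_apply] at h1
    have h2 := IsIrr.classFun θ.2
      (⟨b * ((e n : N) : G) * b⁻¹, hN.conj_mem _ (e n).2 b⟩ : N) ⟨a, ha⟩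
    refine Eq.trans ?_ (h2.trans h1)
    refine congrArg (θ : N → ℂ) (Subtype.ext ?_)
    show (g : G) * ((n : T) : G) * (g : G)⁻¹ = a * (b * ((n : T) : G) * b⁻¹) * a⁻¹
    rw [← hab]; group
  have hdet : orderOf (detChar θT) ∣ (commutator N).index := by
    refine orderOf_dvd_of_pow_eq_one (funext fun m => ?_)
    rw [Pi.pow_apply, detChar_comp θ.2 e.toMonoidHom hθT (fun _ => rfl) m, hl]
    have := DFunLike.congr_fun hlpow (e m)
    rw [MonoidHom.pow_apply, MonoidHom.one_apply] at this
    show ((l (e m) : ℂˣ) : ℂ) ^ _ = 1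
    rw [← Units.val_pow_eq_pow_val, this, Units.val_one]
  have hcop : Nat.Coprime NT.index (orderOf (detChar θT) * d) := by
    show Nat.Coprime (N.relIndex T) _
    rw [hk]
    refine Nat.Coprime.pow_left _ (hq.out.coprime_iff_not_dvd.mpr fun hh => ?_)
    rcases hq.out.dvd_mul.mp hh with hh | hh
    · exact hnd (hh.trans hdet)
    · exact hθq hh
  have hθT1 : θT 1 = d := by rw [hθTdef]; show (θ : N → ℂ) (e 1) = _; rw [map_one, hd]
  obtain ⟨ψ, hψ, hψres⟩ := Char.Ext.exists_extension_of_witness (N := NT) hθT hinv hθT1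
    fun p hp => Char.Ext.witness_of_coprime hθT hcop hp
  -- the induced character vanishes off N
  have hFc : IsCharacter G (indFun T ψ) := isCharacter_indFun T (IsIrr.isCharacter hψ)
  obtain ⟨a, ha, hdec⟩ := IsChar.exists_decomp_inner hFc
  have hoff : ∀ g, g ∉ N → indFun T ψ g = 0 := by
    intro g hg
    rw [hdec, sum_irr_apply]
    refine Finset.sum_eq_zero fun φ _ => ?_
    rcases Nat.eq_zero_or_pos (a φ) with h0 | h0
    · simp [h0]
    suffices (φ : G → ℂ) g = 0 by simp [this]
    refine h.char_eq_zero φ.2 ?_ hg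
    by_contra hker
    push Not at hker
    have hin : classInner (fun t : T => (φ : G → ℂ) t) ψ ≠ 0 := by
      rw [← classInner_conj_symm, ← classInner_indFun T ψ (IsIrr.classFun φ.2), ha φ,
        Complex.conj_natCast, Nat.cast_ne_zero]
      omega
    have hψ1 : ∀ m : NT, θT m = θT 1 := fun m => by
      rw [← hψres, ← hψres]
      exact constituent_ker (IsChar.res (IsIrr.isCharacter φ.2) T) hψ hin (hker ⟨_, m.2⟩)
    have hconst : (θ : N → ℂ) = fun _ => (d : ℂ) := funext fun n => by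
      have := hψ1 (e.symm n)
      rw [hθT1] at this
      simpa [hθTdef] using this
    have hnorm := classInner_self_irr θ.2
    rw [hconst] at hnorm
    simp [classInner, Nat.card_pos.ne'] at hnorm
    refine hθ1 (hconst.trans (funext fun _ => ?_))
    have : d * d = 1 := by exact_mod_cast hnorm
    rw [Nat.eq_one_of_mul_eq_one_left this, Nat.cast_one]
  -- the induced character of θ
  have hk' : Nat.card T = q ^ k * Nat.card N := by
    rw [← hk, mul_comm, ← relIndex_bot_left, ← relIndex_bot_left]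
    exact (relIndex_mul_relIndex _ _ _ bot_le le_sup_left).symm
  have hind : indFun N (θ : N → ℂ) = ((q : ℂ) ^ k) • indFun T ψ := by
    funext g
    rw [Pi.smul_apply, smul_eq_mul]
    by_cases hg : g ∈ N
    · simp only [indFun]
      have hsum : ∀ x : G, extendByZero T ψ (x⁻¹ * g * x)
          = extendByZero N (θ : N → ℂ) (x⁻¹ * g * x) := fun x => by
        have hm : x⁻¹ * g * x ∈ N := by simpa using hN.conj_mem g hg x⁻¹
        rw [extendByZero_of_mem _ (mem_sup_left hm), extendByZero_of_mem _ hm]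
        exact hψres ⟨⟨_, mem_sup_left hm⟩, hm⟩
      rw [Finset.sum_congr rfl fun x _ => hsum x, hk', Nat.cast_mul, Nat.cast_pow, mul_inv,
        ← mul_assoc, mul_inv_cancel_left₀ (pow_ne_zero _ (Nat.cast_ne_zero.mpr hq.out.ne_zero))]
    · rw [hoff g hg, mul_zero]
      simp only [indFun]
      rw [Finset.sum_eq_zero, mul_zero]
      intro x _
      exact extendByZero_not_mem _ fun hm => hg (by
        simpa [mul_assoc] using hN.conj_mem _ hm x)
  have hnorm := norm_indFun N θ.2
  rw [hind, classInner_smul_left, classInner_smul_right, map_pow, Complex.conj_natCast] at hnorm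
  obtain ⟨m, hm⟩ := IsChar.classInner_nat hFc hFc
  rw [hm] at hnorm
  have h1 : Nat.card N * (q ^ k * (q ^ k * m)) = Nat.card (inertia N (θ : N → ℂ)) := by
    exact_mod_cast hnorm
  have h2 : Nat.card N * (q ^ k * q ^ k) ∣ Nat.card N * N.index := by
    rw [N.card_mul_index]
    refine dvd_trans ⟨m, ?_⟩ (card_subgroup_dvd_card (inertia N (θ : N → ℂ)))
    rw [← h1]; ring
  rw [Nat.mul_dvd_mul_iff_left Nat.card_pos, ← relIndex_mul_index (le_sup_left : N ≤ T), ← hT, hk,
    Nat.mul_dvd_mul_iff_left (pow_pos hq.out.pos k)] at h2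
  have hQT : ¬ q ∣ T.index := fun hh => Q.not_dvd_index (hh.trans (index_dvd_of_le le_sup_right))
  have hk0 : k = 0 := by
    by_contra hk0
    exact hQT ((dvd_pow_self q hk0).trans h2)
  rw [← relIndex_mul_index (le_sup_left : N ≤ T), ← hT, hk, hk0, pow_zero, one_mul] at hqI
  exact hQT hqI

/-- Camina's trichotomy. -/
theorem IsCamina.trichotomy [Finite G] (h : IsCamina N) (hN2 : N ≠ ⊤) :
    (∀ x ∈ N, x ≠ 1 → centralizer ({x} : Set G) ≤ N) ∨ IsPrimePow (Nat.card N) ∨
      IsPrimePow N.index := by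
  classical
  rw [or_iff_not_imp_left]
  intro hF
  push Not at hF
  obtain ⟨x, hx, hx1, hle⟩ := hF
  obtain ⟨g, hgc, hg⟩ := SetLike.not_le_iff_exists.mp hle
  -- a common prime
  obtain ⟨q, hq, hqx⟩ := Nat.exists_prime_and_dvd (mt orderOf_eq_one_iff.mp hx1)
  haveI : Fact q.Prime := ⟨hq⟩
  set x' := x ^ (orderOf x / q) with hx'
  have hx'o : orderOf x' = q := by
    rw [hx', orderOf_pow_of_dvd (Nat.div_pos (Nat.le_of_dvd (orderOf_pos x) hqx) hq.pos).ne'
      (Nat.div_dvd_of_dvd hqx), Nat.div_div_self hqx (orderOf_pos x).ne']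
  have hqN : q ∣ Nat.card N := by
    have hm : x' ∈ N := N.pow_mem hx _
    rw [← hx'o, ← Subgroup.orderOf_mk x' hm]
    exact orderOf_dvd_natCard _
  have hqI : q ∣ N.index := by
    by_contra hnd
    set e := (orderOf g).factorization q
    have hg' : g ^ q ^ e ∉ N := fun hh => hg (by
      rw [← QuotientGroup.eq_one_iff, ← orderOf_eq_one_iff]
      refine Nat.eq_one_of_dvd_coprimes (Nat.Coprime.pow_right e
        ((hq.coprime_iff_not_dvd.mpr hnd).symm)) (orderOf_dvd_natCard _) ?_
      refine orderOf_dvd_of_pow_eq_one ?_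
      rw [← QuotientGroup.mk_pow, QuotientGroup.eq_one_iff]
      exact hh)
    have hcomm : Commute g x := (mem_centralizer_iff.mp hgc x rfl).symm
    have := h.prime_dvd hg' (N.pow_mem hx _) (hcomm.pow_pow _ _).eq hq hx'o
    rw [orderOf_pow' _ (pow_ne_zero _ hq.ne_zero), Nat.gcd_eq_right (Nat.ordProj_dvd _ _)] at this
    exact Nat.not_dvd_ordCompl hq (orderOf_pos g).ne' this
  by_contra hcon
  push Not at hcon
  obtain ⟨hNp, hIp⟩ := hcon
  have other : ∀ m : ℕ, 1 < m → ¬ IsPrimePow m → ∀ p : ℕ, ∃ t, t.Prime ∧ t ≠ p ∧ t ∣ m := by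
    intro m hm hmp p
    by_contra hno
    push Not at hno
    obtain ⟨t, ht, htm⟩ := Nat.exists_prime_and_dvd hm.ne'
    have htp : t = p := by_contra fun hh => hno t ht hh htm
    subst htp
    refine hmp ((isPrimePow_iff_unique_prime_dvd).mpr ⟨t, ⟨ht, htm⟩, fun s hs => ?_⟩)
    by_contra hh
    exact hno s hs.1 hh hs.2
  have hN1' : 1 < Nat.card N := lt_of_lt_of_le hq.one_lt (Nat.le_of_dvd Nat.card_pos hqN)
  have hI1 : 1 < N.index := lt_of_le_of_ne (Nat.pos_of_ne_zero index_ne_zero_of_finite)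
    (fun e => hN2 (index_eq_one.mp e.symm))
  obtain ⟨t, ht, htq, htN⟩ := other _ hN1' hNp q
  haveI : Fact t.Prime := ⟨ht⟩
  obtain ⟨r, hr, hrq, hrI⟩ := other _ hI1 hIp q
  haveI : Fact r.Prime := ⟨hr⟩
  -- the abelian quotient is a q-group
  set M := (commutator N).map N.subtype with hM
  haveI : M.Normal := inferInstance
  set π := QuotientGroup.mk' M with hπ
  haveI : (N.map π).Normal := hN.map π (QuotientGroup.mk'_surjective M)
  have hc := h.map M
  have hMN : M ≤ N := map_subtype_le _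
  have hker : π.ker ≤ N := by rw [hπ, QuotientGroup.ker_mk']; exact hMN
  have hidx : (N.map π).index = N.index :=
    index_map_eq N (QuotientGroup.mk'_surjective M) hker
  let ρ : N →* (N.map π : Subgroup (G ⧸ M)) := π.subgroupMap N
  have hρk : ρ.ker = commutator N := by
    ext n
    rw [MonoidHom.mem_ker, ← OneMemClass.coe_eq_one]
    show π n = 1 ↔ _
    rw [hπ, ← MonoidHom.mem_ker, QuotientGroup.ker_mk', hM,
      mem_map_iff_mem N.subtype_injective |>.symm]
    rfl
  have hcardA : Nat.card (N.map π : Subgroup (G ⧸ M)) = (commutator N).index := by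
    rw [← hρk, index_ker, MonoidHom.range_eq_top.mpr (π.subgroupMap_surjective N), card_top]
  have hAab : Group.IsNilpotent (N.map π : Subgroup (G ⧸ M)) := by
    letI : CommGroup (N.map π : Subgroup (G ⧸ M)) :=
      { (inferInstance : Group (N.map π : Subgroup (G ⧸ M))) with
        mul_comm := fun a b => by
          obtain ⟨a, rfl⟩ := π.subgroupMap_surjective N a
          obtain ⟨b, rfl⟩ := π.subgroupMap_surjective N b
          rw [← mul_inv_eq_one, ← map_mul, ← map_mul, ← map_inv, ← map_mul]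
          refine MonoidHom.mem_ker.mp (?_ : _ ∈ ρ.ker)
          rw [hρk, show a * b * (b * a)⁻¹ = ⁅a, b⁆ by simp [commutatorElement_def, mul_assoc]]
          exact commutator_mem_commutator (mem_top a) (mem_top b) }
    infer_instance
  have hqA : q ∣ Nat.card (N.map π : Subgroup (G ⧸ M)) := hcardA ▸ h.dvd_commutator_index hqN hqI
  -- r is not a common prime
  have hrN : ¬ r ∣ Nat.card N := fun hh => by
    have hrA : r ∣ Nat.card (N.map π : Subgroup (G ⧸ M)) := hcardA ▸ h.dvd_commutator_index hh hrI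
    exact hc.nilpotent_case hAab hrq hqA hrA (hidx.symm ▸ hqI)
  obtain ⟨y, hy⟩ := exists_prime_orderOf_dvd_card' (G := G) r (hrI.trans N.index_dvd_card)
  have hyN : y ∉ N := fun hh => hrN (by
    rw [← hy, ← Subgroup.orderOf_mk y hh]; exact orderOf_dvd_natCard _)
  have hfpf : N ⊓ centralizer {y} = ⊥ := by
    rw [eq_bot_iff_forall]
    rintro z ⟨hzN, hzc⟩
    by_contra hz1
    obtain ⟨s, hs, hsz⟩ := Nat.exists_prime_and_dvd (mt orderOf_eq_one_iff.mp hz1)
    have hso : orderOf (z ^ (orderOf z / s)) = s := by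
      rw [orderOf_pow_of_dvd (Nat.div_pos (Nat.le_of_dvd (orderOf_pos z) hsz) hs.pos).ne'
        (Nat.div_dvd_of_dvd hsz), Nat.div_div_self hsz (orderOf_pos z).ne']
    have hcz : Commute y z := mem_centralizer_iff.mp hzc y rfl
    have hsr := h.prime_dvd hyN (N.pow_mem hzN _) (hcz.pow_right _).eq hs hso
    rw [hy, Nat.prime_dvd_prime_iff_eq hs hr] at hsr
    refine hrN ?_
    rw [← hsr, ← hso, ← Subgroup.orderOf_mk _ (N.pow_mem hzN (orderOf z / s))]
    exact orderOf_dvd_natCard _
  have hnil : Group.IsNilpotent N := Grp.isNilpotent_of_fpf (p := r)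
    (by rw [← hy]; exact pow_orderOf_eq_one y) (by rw [normalizer_eq_top_iff.mpr hN]; exact mem_top y)
    hfpf
  exact h.nilpotent_case hnil htq hqN htN hqI

end Cfsg.Agent.Fus
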