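import Cfsg.Agent.Lib.Fus.CenterIndexSqBasic
import Cfsg.Agent.Lib.Fus.AbelianSystem
import Cfsg.Agent.Lib.Fus.Hyperfocal
import Cfsg.Agent.Lib.Grp.GaschutzYen
import Cfsg.Agent.Lib.Transfer.MaxClass

/-!
A saturated system with trivial core and full hyperfocal subgroup over a group with centre of index
at most `p ^ 2` lives on an extraspecial group of order `p ^ 3`.
-/

set_option autoImplicit false
set_option linter.style.haveILetI false
set_option linter.unusedSectionVars false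

open scoped Classical commutatorElement Pointwise

namespace Cfsg.Agent.Fus

open Subgroup FusionSystem

universe u

variable {Ω : Type u} [Group Ω] {S : Subgroup Ω} {F : FusionSystem S} {p : ℕ} [Finite S]
  [hp : Fact p.Prime] {z : Ω}

theorem Frame.zpowers_exists (hfr : Frame S p z) {γ : MulAut S} :
    ∃ k : ℕ, autFun γ z = z ^ k := by
  obtain ⟨a, ha, b, hb, e⟩ := hfr.isComm
  obtain ⟨k, hk⟩ := hfr.conj _ ((autFun_mem γ ha)) _ (autFun_mem γ hb)
  refine ⟨k, ?_⟩
  have e' : ((γ ⟨a, ha⟩ * γ ⟨b, hb⟩ * (γ ⟨a, ha⟩)⁻¹ : S) : Ω) =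
      (γ ⟨b, hb⟩ * γ ⟨z, hfr.memZ.1⟩ : S) := by
    rw [← map_inv, ← map_mul, ← map_mul, ← map_mul]
    exact congrArg (fun t : S => ((γ t : S) : Ω)) (Subtype.ext e)
  rw [Subgroup.coe_mul, Subgroup.coe_mul, Subgroup.coe_mul, Subgroup.coe_inv, ← autFun_coe,
    ← autFun_coe, ← autFun_coe, hk] at e'
  exact (mul_left_cancel e').symm

omit [Finite S] in
theorem autFun_pow_mem {γ : MulAut S} {A : Subgroup Ω} (hA : A ≤ S)
    (h : ∀ t ∈ A, autFun γ t ∈ A) (n : ℕ) : ∀ t ∈ A, autFun (γ ^ n) t ∈ A := by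
  induction n with
  | zero => intro t ht; rw [pow_zero, autFun_one (hA ht)]; exact ht
  | succ n ih =>
    intro t ht
    rw [pow_succ', autFun_mul _ _ (hA ht)]
    exact h _ (ih t ht)

omit [Finite S] in
theorem autFun_map_mul (γ : MulAut S) {a b : Ω} (ha : a ∈ S) (hb : b ∈ S) :
    autFun γ (a * b) = autFun γ a * autFun γ b := by
  rw [show a * b = ((⟨a, ha⟩ * ⟨b, hb⟩ : S) : Ω) from rfl, autFun_coe, map_mul, Subgroup.coe_mul,
    ← autFun_coe, ← autFun_coe]

omit [Finite S] in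
theorem autFun_map_pow (γ : MulAut S) {a : Ω} (ha : a ∈ S) (n : ℕ) :
    autFun γ (a ^ n) = autFun γ a ^ n := by
  rw [show a ^ n = (((⟨a, ha⟩ : S) ^ n : S) : Ω) by simp, autFun_coe,
    map_pow, SubmonoidClass.coe_pow, ← autFun_coe]

omit [Finite S] in
theorem autFun_mem_zS (γ : MulAut S) {c : Ω} (hc : c ∈ zS S) : autFun γ c ∈ zS S := by
  refine mem_zS.2 ⟨autFun_mem γ hc.1, fun t ht => ?_⟩
  have h := (mem_zS.1 hc).2 _ (autFun_mem γ⁻¹ ht)
  have e : autFun γ (autFun γ⁻¹ t) = t := by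
    rw [← autFun_mul _ _ ht, mul_inv_cancel, autFun_one ht]
  conv_lhs => rw [← e, ← autFun_map_mul γ (autFun_mem γ⁻¹ ht) hc.1, h,
    autFun_map_mul γ hc.1 (autFun_mem γ⁻¹ ht), e]

/-- Elements of `S` commuting with `x` lie in `P`. -/
theorem EssFacts.mem_of_commute {P : Subgroup Ω} {x s : Ω} (hfr : Frame S p z)
    (h : EssFacts F p z P x s) {t : Ω} (ht : t ∈ S) (e : x * t = t * x) : t ∈ P := by
  obtain ⟨i, hi⟩ := hfr.cent x (h.le h.x_mem) h.x_not t ht e
  rw [← inv_mul_cancel_right t (x ^ i)]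
  exact P.mul_mem (h.zS_le hi) (P.pow_mem h.x_mem i)

/-- `P` consists of elements commuting with `x`. -/
theorem EssFacts.commute_of_mem {P : Subgroup Ω} {x s : Ω} (h : EssFacts F p z P x s) {t : Ω}
    (ht : t ∈ P) : x * t = t * x := by
  obtain ⟨i, hi⟩ := h.gen t ht
  rw [← inv_mul_cancel_right t (x ^ i)]
  set c := t * (x ^ i)⁻¹
  calc x * (c * x ^ i) = (x * c) * x ^ i := by group
    _ = c * (x * x ^ i) := by rw [(mem_zS.1 hi).2 x (h.le h.x_mem)]; group
    _ = c * x ^ i * x := by rw [← pow_succ', pow_succ]; group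

omit [Finite S] in
theorem pow_eq_self_or_one {g : Ω} (hg : g ^ 2 = 1) (n : ℕ) : g ^ n = 1 ∨ g ^ n = g := by
  rw [pow_eq_pow_mod n hg]
  rcases Nat.mod_two_eq_zero_or_one n with h | h <;> simp [h]

/-- Automorphisms of `S` keep the essential subgroup when `p = 2`. -/
theorem EssFacts.aut_mem_of_two {P : Subgroup Ω} {x s : Ω} (hfr : Frame S 2 z) (hS : IsPGroup 2 S)
    (hF : F.IsSaturated 2) (h : EssFacts F 2 z P x s) {γ : MulAut S} (hγ : γ ∈ F.autGroup S) :
    autFun γ x ∈ P := by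
  by_contra hy
  set y := autFun γ x with hyd
  haveI : Fact (Nat.Prime 2) := ⟨Nat.prime_two⟩
  have hxS := h.le h.x_mem
  have hyS : y ∈ S := autFun_mem γ hxS
  have hy2 : y ^ 2 = 1 := by
    rw [hyd, ← autFun_map_pow γ hxS, h.x_pow, show (1 : Ω) = ((1 : S) : Ω) from rfl, autFun_coe,
      map_one]
  have hyx : y * x * y⁻¹ = x * z := by
    obtain ⟨k, hk⟩ := hfr.conj y hyS x hxS
    rcases pow_eq_self_or_one hfr.pow_eq k with e | e
    · exact absurd (h.mem_of_commute hfr hyS (by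
        rw [e, mul_one] at hk
        conv_lhs => rw [← hk, inv_mul_cancel_right])) hy
    · rw [hk, e]
  -- an involution outside the centre commutes with `x` or with `y`
  have hkey : ∀ t ∈ S, t ^ 2 = 1 → x * t = t * x ∨ y * t = t * y := by
    intro t ht ht2
    obtain ⟨k, hk⟩ := hfr.conj t ht x hxS
    rcases pow_eq_self_or_one hfr.pow_eq k with e | e
    · left
      rw [e, mul_one] at hk
      conv_lhs => rw [← hk, inv_mul_cancel_right]
    rw [e] at hk
    have hu : t * y⁻¹ ∈ P := by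
      refine h.mem_of_commute hfr (S.mul_mem ht (S.inv_mem hyS)) ?_
      have e2 : (t * y⁻¹) * x * (t * y⁻¹)⁻¹ = x := by
        have e3 : y⁻¹ * x * y = x * z⁻¹ := by
          have hz := (mem_zS.1 hfr.memZ).2 y hyS
          calc y⁻¹ * x * y = y⁻¹ * ((y * x * y⁻¹) * z⁻¹) * y := by rw [hyx]; group
            _ = x * (y⁻¹ * z⁻¹ * y) := by group
            _ = x * z⁻¹ := by
              rw [show y⁻¹ * z⁻¹ * y = (y⁻¹ * (z * y))⁻¹ * 1 by group, ← hz]; group
        calc (t * y⁻¹) * x * (t * y⁻¹)⁻¹ = t * (y⁻¹ * x * y) * t⁻¹ := by group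
          _ = t * x * t⁻¹ * (t * z * t⁻¹)⁻¹ := by rw [e3]; group
          _ = x := by
            rw [(mem_zS.1 hfr.memZ).2 t ht, mul_inv_cancel_right, hk, mul_inv_cancel_right]
      conv_lhs => rw [← e2, inv_mul_cancel_right]
    obtain ⟨i, hi⟩ := h.gen _ hu
    set c := t * y⁻¹ * (x ^ i)⁻¹ with hc
    have htc : t = c * (x ^ i * y) := by rw [hc]; group
    have hcy := (mem_zS.1 hi).2 y hyS
    rcases pow_eq_self_or_one h.x_pow i with ei | ei
    · right
      rw [htc, ei, one_mul, ← mul_assoc, hcy, mul_assoc]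
    rw [ei] at htc
    clear_value c
    exfalso
    have hxyxy : x * y * (x * y) = z := by
      have hxx : x * x = 1 := by rw [← pow_two, h.x_pow]
      have hyy : y * y = 1 := by rw [← pow_two, hy2]
      have hyi : y⁻¹ = y := inv_eq_of_mul_eq_one_left hyy
      rw [hyi] at hyx
      calc x * y * (x * y) = x * (y * x * y) := by group
        _ = z := by rw [hyx, ← mul_assoc, hxx, one_mul]
    have hcz : c ^ 2 = z := by
      have hcxy : x * y * c = c * (x * y) := (mem_zS.1 hi).2 _ (S.mul_mem hxS hyS)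
      have e3 : t ^ 2 = c ^ 2 * z := by
        rw [htc, pow_two, pow_two, mul_assoc, ← mul_assoc (x * y) c, hcxy, mul_assoc, hxyxy,
          ← mul_assoc]
      rw [ht2] at e3
      rw [eq_comm, eq_mul_inv_iff_mul_eq.symm] at e3
      rw [e3, one_mul, inv_eq_of_mul_eq_one_left (show z * z = 1 by rw [← pow_two, hfr.pow_eq])]
    obtain ⟨j, hj⟩ := h.dec c hi
    refine h.z_not ?_
    have hzc : z * c = c * z := ((mem_zS.1 hfr.memZ).2 c hi.1).symm
    have := (wSubP F P).pow_mem hj 2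
    rwa [(show Commute c (z ^ j) from (Commute.pow_right hzc.symm j)).mul_pow, ← pow_mul,
      mul_comm j 2, pow_mul, hfr.pow_eq, one_pow, mul_one, hcz] at this
  have hxy : ¬ x * y = y * x := fun e => hy (h.mem_of_commute hfr hyS e)
  have hyZ : y ∉ zS S := fun hh => hxy ((mem_zS.1 hh).2 x hxS)
  have hcomm : ∀ a ∈ S, ∀ b ∈ S, a * b = b * a →
      autFun γ a * autFun γ b = autFun γ b * autFun γ a := fun a ha b hb e => by
    rw [← autFun_map_mul γ ha hb, ← autFun_map_mul γ hb ha, e]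
  have hyy : autFun γ y ∈ P := by
    have hy3 : autFun γ y ^ 2 = 1 := by
      rw [← autFun_map_pow γ hyS, hy2, show (1 : Ω) = ((1 : S) : Ω) from rfl, autFun_coe, map_one]
    rcases hkey _ (autFun_mem γ hyS) hy3 with e | e
    · exact h.mem_of_commute hfr (autFun_mem γ hyS) e
    · exfalso
      refine hxy ?_
      have e' := congrArg (autFun γ⁻¹) e
      rwa [autFun_map_mul _ hyS (autFun_mem γ hyS), autFun_map_mul _ (autFun_mem γ hyS) hyS,
        autFun_inv_apply γ hyS, hyd, autFun_inv_apply γ hxS] at e'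
  set Q := S ⊓ Subgroup.centralizer ({y} : Set Ω) with hQ
  have hPQ : ∀ t ∈ P, autFun γ t ∈ Q := fun t ht => ⟨autFun_mem γ (h.le ht),
    Subgroup.mem_centralizer_singleton_iff.2 (hcomm _ hxS _ (h.le ht) (h.commute_of_mem ht)).symm⟩
  have hQP : ∀ t ∈ Q, autFun γ t ∈ P := by
    intro t ht
    have e := hcomm _ hyS _ ht.1 (Subgroup.mem_centralizer_singleton_iff.1 ht.2).symm
    have hγy : autFun γ y ∉ zS S := fun hh => hyZ (by
      have := autFun_mem_zS γ⁻¹ hh
      rwa [autFun_inv_apply γ hyS] at this)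
    obtain ⟨i, hi⟩ := hfr.cent _ (h.le hyy) hγy _ (autFun_mem γ ht.1) e
    rw [← inv_mul_cancel_right (autFun γ t) (autFun γ y ^ i)]
    exact P.mul_mem (h.zS_le hi) (P.pow_mem hyy i)
  have h2 : ∀ t ∈ P, autFun (γ ^ 2) t ∈ P := fun t ht => by
    rw [pow_two, autFun_mul _ _ (h.le ht)]
    exact hQP _ (hPQ t ht)
  obtain ⟨-, R, hR⟩ := fullyAutomized_of_fullyNormalized hS hF (fullyNormalized_self F)
  haveI : ((autInducedBy S S).subgroupOf (F.autGroup S)).Normal := by
    rw [← inn_eq_autInducedBy]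
    exact inn_subgroupOf_normal F S
  set I := (autInducedBy S S).subgroupOf (F.autGroup S) with hI
  have hm : ¬ 2 ∣ I.index := by
    rw [← hR]
    exact R.not_dvd_index
  have hmem : (⟨γ, hγ⟩ : F.autGroup S) ^ I.index ∈ I := Subgroup.pow_index_mem _ _
  rw [Subgroup.mem_subgroupOf] at hmem
  obtain ⟨g, hg, hge⟩ := mem_autInducedBy.1 hmem
  have h1 := hge ⟨x, hxS⟩
  rw [show (((⟨γ, hγ⟩ : F.autGroup S) ^ I.index : F.autGroup S) : MulAut S) = γ ^ I.index from
    SubmonoidClass.coe_pow _ _, ← autFun_coe] at h1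
  obtain ⟨n, hn⟩ : ∃ n, I.index = 2 * n + 1 := ⟨I.index / 2, by omega⟩
  rw [hn, pow_succ', pow_mul, autFun_mul _ _ hxS] at h1
  have hQx := hPQ _ (autFun_pow_mem h.le h2 n x h.x_mem)
  rw [h1] at hQx
  obtain ⟨k, hk⟩ := hfr.conj g hg x hxS
  rw [hk] at hQx
  have hxQ : x ∈ Q := by
    have hzQ : z ^ k ∈ Q := ⟨S.pow_mem hfr.memZ.1 k, Subgroup.mem_centralizer_singleton_iff.2
      (((mem_zS.1 ((zS S).pow_mem hfr.memZ k)).2 y hyS).symm)⟩
    have := Q.mul_mem hQx (Q.inv_mem hzQ)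
    rwa [mul_inv_cancel_right] at this
  exact hxy (Subgroup.mem_centralizer_singleton_iff.1 hxQ.2)

/-- The automorphisms of `S` preserving `P` act on it by automorphisms in the system. -/
theorem EssFacts.restrict {P : Subgroup Ω} {x s : Ω} (h : EssFacts F p z P x s)
    {γ : MulAut S} (hγ : γ ∈ F.autGroup S) (hP : ∀ t ∈ P, autFun γ t ∈ P) :
    ∃ α ∈ F.autGroup P, ∀ t ∈ P, autFun α t = autFun γ t := by
  have hm := ((mem_autGroup le_rfl).1 hγ).res h.le
  haveI := finite_of_le h.le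
  exact hm.exists_aut (Subgroup.eq_of_le_of_card_ge (fimg_le hP) hm.card_fimg.ge)

/-- Some element of order `p` lies outside the essential subgroup. -/
theorem EssFacts.exists_outside {P : Subgroup Ω} {x s : Ω} (hfr : Frame S p z)
    (hS : IsPGroup p S) (hF : F.IsSaturated p) (hcore : F.core = ⊥)
    (h : EssFacts F p z P x s) : ∃ y ∈ S, y ∉ P ∧ y ^ p = 1 := by
  by_contra hcon
  push Not at hcon
  have honly : ∀ Q, F.IsEssential p Q → Q = P := by
    intro Q hQ
    obtain ⟨x', s', h'⟩ := exists_essFacts hfr hS hF hQ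
    have hx' : x' ∈ P := by
      by_contra hx
      exact hcon x' (h'.le h'.x_mem) hx h'.x_pow
    ext t
    constructor
    · intro ht
      obtain ⟨i, hi⟩ := h'.gen t ht
      rw [← inv_mul_cancel_right t (x' ^ i)]
      exact P.mul_mem (h.zS_le hi) (P.pow_mem hx' i)
    · intro ht
      refine h'.mem_of_commute hfr (h.le ht) ?_
      obtain ⟨i, hi⟩ := h.gen t ht
      obtain ⟨j, hj⟩ := h.gen x' hx'
      set c := t * (x ^ i)⁻¹ with hc
      set d := x' * (x ^ j)⁻¹ with hd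
      have h1 := (mem_zS.1 hi).2 x' (h'.le h'.x_mem)
      have h2 := (mem_zS.1 hj).2 (x ^ i) (S.pow_mem (h.le h.x_mem) i)
      have hxd : x' = d * x ^ j := by rw [hd, inv_mul_cancel_right]
      have htc : t = c * x ^ i := by rw [hc, inv_mul_cancel_right]
      clear_value c d
      have hxx : x' * x ^ i = x ^ i * x' := by
        rw [hxd, mul_assoc, ← pow_add, add_comm, pow_add, ← mul_assoc, ← h2, mul_assoc]
      rw [htc, ← mul_assoc, h1, mul_assoc, hxx, mul_assoc]
  have htop : ∀ γ ∈ F.autGroup S, ∀ t ∈ P, autFun γ t ∈ P := by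
    intro γ hγ t ht
    have hxP : autFun γ x ∈ P := by
      by_contra hx
      refine hcon _ (autFun_mem γ (h.le h.x_mem)) hx ?_
      rw [← autFun_map_pow γ (h.le h.x_mem), h.x_pow,
        show (1 : Ω) = ((1 : S) : Ω) from rfl, autFun_coe, map_one]
    obtain ⟨i, hi⟩ := h.gen t ht
    rw [← inv_mul_cancel_right t (x ^ i), autFun_map_mul γ hi.1 (S.pow_mem (h.le h.x_mem) i),
      autFun_map_pow γ (h.le h.x_mem)]
    exact P.mul_mem (h.zS_le (autFun_mem_zS γ hi)) (P.pow_mem hxP i)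
  have hn : F.IsNormal P := isNormal_of_essential hS hF h.le htop fun Q hQ => by
    rw [honly Q hQ]
    exact ⟨le_rfl, fun α _ t ht => autFun_mem α ht⟩
  have : x ∈ (⊥ : Subgroup Ω) := hcore ▸ le_core hn h.x_mem
  exact h.x_not (Subgroup.mem_bot.1 this ▸ (zS S).one_mem)

/-- For odd `p` the fixed complements vanish. -/
theorem wSubP_eq_bot_of_odd (hfr : Frame S p z) (hS : IsPGroup p S) (hF : F.IsSaturated p)
    (hcore : F.core = ⊥) (hp2 : p ≠ 2) {P : Subgroup Ω} {x s : Ω}
    (h : EssFacts F p z P x s) : wSubP F P = ⊥ := by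
  have hcop : ∀ j : ℕ, z ^ (2 * j) = 1 → z ^ j = 1 := fun j hj => by
    have hord : orderOf z = p := orderOf_eq_prime hfr.pow_eq hfr.ne_one
    rw [← orderOf_dvd_iff_pow_eq_one, hord] at hj ⊢
    exact ((Nat.coprime_primes hp.out Nat.prime_two).2 hp2).dvd_of_dvd_mul_left hj
  -- the inversion of a complement moves the others by even powers
  have hmove : ∀ {Q : Subgroup Ω} {x' s' : Ω}, EssFacts F p z Q x' s' →
      ∀ δ : MulAut S, autFun δ z = z⁻¹ → (∀ w ∈ wSubP F Q, autFun δ w = w) → ∀ y ∈ zS S,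
        ∃ j : ℕ, y * z ^ j ∈ wSubP F Q ∧ autFun δ y = y * z ^ (2 * j) := by
    intro Q x' s' h' δ h1 h2 y hy
    obtain ⟨j, hj⟩ := h'.dec y hy
    refine ⟨j, hj, ?_⟩
    have e := h2 _ hj
    rw [autFun_map_mul δ hy.1 (S.pow_mem hfr.memZ.1 j), autFun_map_pow δ hfr.memZ.1, h1,
      inv_pow, mul_inv_eq_iff_eq_mul, mul_assoc, ← pow_add, ← two_mul] at e
    exact e
  have heq : ∀ {Q R : Subgroup Ω} {x₁ s₁ x₂ s₂ : Ω}, EssFacts F p z Q x₁ s₁ →
      EssFacts F p z R x₂ s₂ → wSubP F Q ≤ wSubP F R := by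
    intro Q R x₁ s₁ x₂ s₂ h1 h2 y hy
    obtain ⟨δ, hδ, e1, e2⟩ := h1.odd hp2
    obtain ⟨δ', hδ', e1', e2'⟩ := h2.odd hp2
    obtain ⟨j, hj, hje⟩ := hmove h2 δ' e1' e2' y (wSubP_le F Q hy)
    have hyS := (wSubP_le F Q hy).1
    have hfix := hfr.fix_center hS hF (mul_mem hδ' hδ) (by
      rw [autFun_mul _ _ hfr.memZ.1, e1, show z⁻¹ = (((⟨z, hfr.memZ.1⟩ : S)⁻¹ : S) : Ω) from rfl,
        autFun_coe, map_inv, Subgroup.coe_inv, ← autFun_coe, e1', inv_inv])
      (wSubP_le F Q hy) (i := 2 * j) (by rw [autFun_mul _ _ hyS, e2 y hy, hje])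
    rw [autFun_mul _ _ hyS, e2 y hy, hje, mul_eq_left] at hfix
    rwa [hcop j hfix, mul_one] at hj
  obtain ⟨δ, hδ, e1, e2⟩ := h.odd hp2
  have hn : F.IsNormal (wSubP F P) := by
    refine isNormal_of_essential hS hF ((wSubP_le F P).trans (zS_le S)) ?_ fun Q hQ => ?_
    · intro γ hγ y hy
      have hyS := (wSubP_le F P hy).1
      set u := autFun γ y with hu
      have huZ := autFun_mem_zS γ (wSubP_le F P hy)
      obtain ⟨j, hj, hje⟩ := hmove h δ e1 e2 u huZ
      have hz : autFun (γ * δ * γ⁻¹) z = z⁻¹ := by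
        obtain ⟨k, hk⟩ := hfr.zpowers_exists (γ := γ⁻¹)
        rw [autFun_mul _ _ hfr.memZ.1, hk, autFun_mul _ _ (S.pow_mem hfr.memZ.1 k),
          autFun_map_pow δ hfr.memZ.1, e1, inv_pow,
          show (z ^ k)⁻¹ = (((⟨z ^ k, S.pow_mem hfr.memZ.1 k⟩ : S)⁻¹ : S) : Ω) from rfl,
          autFun_coe, map_inv, Subgroup.coe_inv, ← autFun_coe]
        congr 1
        show autFun γ (z ^ k) = z
        rw [← hk, ← autFun_mul _ _ hfr.memZ.1, mul_inv_cancel, autFun_one hfr.memZ.1]
      have huy : autFun (γ * δ * γ⁻¹) u = u := by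
        rw [autFun_mul _ _ (autFun_mem γ hyS), hu, autFun_inv_apply γ hyS, autFun_mul _ _ hyS,
          e2 y hy]
      have hε : δ * (γ * δ * γ⁻¹) ∈ F.autGroup S :=
        mul_mem hδ (mul_mem (mul_mem hγ hδ) (inv_mem hγ))
      have hfix := hfr.fix_center hS hF hε (by
        rw [autFun_mul _ _ hfr.memZ.1, hz,
          show z⁻¹ = (((⟨z, hfr.memZ.1⟩ : S)⁻¹ : S) : Ω) from rfl, autFun_coe, map_inv,
          Subgroup.coe_inv, ← autFun_coe, e1, inv_inv])
        huZ (i := 2 * j) (by rw [autFun_mul _ _ huZ.1, huy, hje])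
      rw [autFun_mul _ _ huZ.1, huy, hje, mul_eq_left] at hfix
      rwa [hcop j hfix, mul_one] at hj
    · obtain ⟨x', s', h'⟩ := exists_essFacts hfr hS hF hQ
      refine ⟨(wSubP_le F P).trans h'.zS_le, fun α hα y hy => ?_⟩
      exact heq h' h (autFun_mem_wSubP hα (heq h h' hy))
  exact le_bot_iff.1 (hcore ▸ le_core hn)

/-- For `p = 2` the fixed complements vanish. -/
theorem wSubP_eq_bot_of_two (hS : IsPGroup 2 S) (hF : F.IsSaturated 2)
    (hfr : Frame S 2 z) (hcore : F.core = ⊥) (hhyp : F.hyperfocalSubgroup 2 = S) {P : Subgroup Ω}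
    {x s : Ω} (h : EssFacts F 2 z P x s) : wSubP F P = ⊥ := by
  haveI : Fact (Nat.Prime 2) := ⟨Nat.prime_two⟩
  have hinvP : ∀ {Q : Subgroup Ω} {x' s' : Ω}, EssFacts F 2 z Q x' s' →
      ∀ γ ∈ F.autGroup S, ∀ t ∈ Q, autFun γ t ∈ Q := by
    intro Q x' s' h' γ hγ t ht
    obtain ⟨i, hi⟩ := h'.gen t ht
    rw [← inv_mul_cancel_right t (x' ^ i), autFun_map_mul γ hi.1 (S.pow_mem (h'.le h'.x_mem) i),
      autFun_map_pow γ (h'.le h'.x_mem)]
    exact Q.mul_mem (h'.zS_le (autFun_mem_zS γ hi))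
      (Q.pow_mem (h'.aut_mem_of_two hfr hS hF hγ) i)
  have hW : ∀ {Q : Subgroup Ω} {x' s' : Ω}, EssFacts F 2 z Q x' s' →
      ∀ γ ∈ F.autGroup S, ∀ w ∈ wSubP F Q, autFun γ w ∈ wSubP F Q := by
    intro Q x' s' h' γ hγ w hw
    obtain ⟨α, hα, hαe⟩ := h'.restrict hγ (hinvP h' γ hγ)
    rw [← hαe w hw.1]
    exact autFun_mem_wSubP hα hw
  -- a second essential subgroup
  obtain ⟨Q, x', s', h', hx'P⟩ :
      ∃ (Q : Subgroup Ω) (x' s' : Ω), EssFacts F 2 z Q x' s' ∧ x' ∉ P := by
    by_contra hcon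
    push Not at hcon
    have hn : F.IsNormal P := isNormal_of_essential hS hF h.le (hinvP h) fun R hR => by
      obtain ⟨x'', s'', h''⟩ := exists_essFacts hfr hS hF hR
      have hPR : P = R := by
        have hxR : ∀ t ∈ R, t ∈ P := fun t ht => by
          obtain ⟨i, hi⟩ := h''.gen t ht
          rw [← inv_mul_cancel_right t (x'' ^ i)]
          exact P.mul_mem (h.zS_le hi) (P.pow_mem (hcon R x'' s'' h'') i)
        refine le_antisymm (fun t ht => h''.mem_of_commute hfr (h.le ht) ?_) hxR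
        obtain ⟨i, hi⟩ := h.gen t ht
        obtain ⟨j, hj⟩ := h.gen x'' (hcon R x'' s'' h'')
        set c := t * (x ^ i)⁻¹ with hc
        set d := x'' * (x ^ j)⁻¹ with hd
        have h1 := (mem_zS.1 hi).2 x'' (h''.le h''.x_mem)
        have h2 := (mem_zS.1 hj).2 (x ^ i) (S.pow_mem (h.le h.x_mem) i)
        have hxd : x'' = d * x ^ j := by rw [hd, inv_mul_cancel_right]
        have htc : t = c * x ^ i := by rw [hc, inv_mul_cancel_right]
        clear_value c d
        have hxx : x'' * x ^ i = x ^ i * x'' := by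
          rw [hxd, mul_assoc, ← pow_add, add_comm, pow_add, ← mul_assoc, ← h2, mul_assoc]
        rw [htc, ← mul_assoc, h1, mul_assoc, hxx, mul_assoc]
      subst hPR
      exact ⟨le_rfl, fun α _ t ht => autFun_mem α ht⟩
    have : x ∈ (⊥ : Subgroup Ω) := hcore ▸ le_core hn h.x_mem
    exact h.x_not (Subgroup.mem_bot.1 this ▸ (zS S).one_mem)
  have hxS := h.le h.x_mem
  have hx'S := h'.le h'.x_mem
  have hx'x : x' * x * x'⁻¹ = x * z := by
    obtain ⟨k, hk⟩ := hfr.conj x' hx'S x hxS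
    rcases pow_eq_self_or_one hfr.pow_eq k with e | e
    · exact absurd (h.mem_of_commute hfr hx'S (by
        rw [e, mul_one] at hk
        conv_lhs => rw [← hk, inv_mul_cancel_right])) hx'P
    · rw [hk, e]
  have hgen : ∀ M : Subgroup Ω, zS S ≤ M → x ∈ M → x' ∈ M → S ≤ M := by
    intro M h1 h2 h3 t ht
    have hM : ∀ u ∈ P, u ∈ M := fun u hu => by
      obtain ⟨i, hi⟩ := h.gen u hu
      rw [← inv_mul_cancel_right u (x ^ i)]
      exact M.mul_mem (h1 hi) (M.pow_mem h2 i)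
    obtain ⟨k, hk⟩ := hfr.conj t ht x hxS
    rcases pow_eq_self_or_one hfr.pow_eq k with e | e
    · refine hM t (h.mem_of_commute hfr ht ?_)
      rw [e, mul_one] at hk
      conv_lhs => rw [← hk, inv_mul_cancel_right]
    rw [e] at hk
    have hu : x'⁻¹ * t ∈ P := by
      refine h.mem_of_commute hfr (S.mul_mem (S.inv_mem hx'S) ht) ?_
      have e2 : x'⁻¹ * t * x * (x'⁻¹ * t)⁻¹ = x := by
        calc x'⁻¹ * t * x * (x'⁻¹ * t)⁻¹ = x'⁻¹ * (t * x * t⁻¹) * x' := by group
          _ = x'⁻¹ * (x' * x * x'⁻¹) * x' := by rw [hk, hx'x]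
          _ = x := by group
      conv_lhs => rw [← e2, inv_mul_cancel_right]
    rw [← mul_inv_cancel_left x' t]
    exact M.mul_mem h3 (hM _ hu)
  -- the essential subgroups are these two
  have honly : ∀ {R : Subgroup Ω} {x'' s'' : Ω}, EssFacts F 2 z R x'' s'' → R = P ∨ R = Q := by
    intro R x'' s'' h''
    have hpair : ∀ {A B : Subgroup Ω} {a a' b b' : Ω}, EssFacts F 2 z A a a' →
        EssFacts F 2 z B b b' → b ∈ A → B = A := by
      intro A B a a' b b' hA hB hb
      have hle : ∀ t ∈ B, t ∈ A := fun t ht => by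
        obtain ⟨i, hi⟩ := hB.gen t ht
        rw [← inv_mul_cancel_right t (b ^ i)]
        exact A.mul_mem (hA.zS_le hi) (A.pow_mem hb i)
      refine le_antisymm hle fun t ht => hB.mem_of_commute hfr (hA.le ht) ?_
      obtain ⟨i, hi⟩ := hA.gen t ht
      obtain ⟨j, hj⟩ := hA.gen b hb
      set c := t * (a ^ i)⁻¹ with hc
      set d := b * (a ^ j)⁻¹ with hd
      have h1 := (mem_zS.1 hi).2 b (hB.le hB.x_mem)
      have h2 := (mem_zS.1 hj).2 (a ^ i) (S.pow_mem (hA.le hA.x_mem) i)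
      have hxd : b = d * a ^ j := by rw [hd, inv_mul_cancel_right]
      have htc : t = c * a ^ i := by rw [hc, inv_mul_cancel_right]
      clear_value c d
      have hxx : b * a ^ i = a ^ i * b := by
        rw [hxd, mul_assoc, ← pow_add, add_comm, pow_add, ← mul_assoc, ← h2, mul_assoc]
      rw [htc, ← mul_assoc, h1, mul_assoc, hxx, mul_assoc]
    by_contra hne
    push Not at hne
    obtain ⟨h1, h2⟩ := hne
    have ha : x'' ∉ P := fun e => h1 (hpair h h'' e)
    have hb : x'' ∉ Q := fun e => h2 (hpair h' h'' e)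
    -- `x'' = c x' x^i` with `i` odd is not an involution
    obtain ⟨k, hk⟩ := hfr.conj x'' (h''.le h''.x_mem) x hxS
    rcases pow_eq_self_or_one hfr.pow_eq k with e | e
    · refine ha (h.mem_of_commute hfr (h''.le h''.x_mem) ?_)
      rw [e, mul_one] at hk
      conv_lhs => rw [← hk, inv_mul_cancel_right]
    rw [e] at hk
    have hu : x'⁻¹ * x'' ∈ P := by
      refine h.mem_of_commute hfr (S.mul_mem (S.inv_mem hx'S) (h''.le h''.x_mem)) ?_
      have e2 : x'⁻¹ * x'' * x * (x'⁻¹ * x'')⁻¹ = x := by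
        calc x'⁻¹ * x'' * x * (x'⁻¹ * x'')⁻¹ = x'⁻¹ * (x'' * x * x''⁻¹) * x' := by group
          _ = x'⁻¹ * (x' * x * x'⁻¹) * x' := by rw [hk, hx'x]
          _ = x := by group
      conv_lhs => rw [← e2, inv_mul_cancel_right]
    obtain ⟨i, hi⟩ := h.gen _ hu
    set c := x'⁻¹ * x'' * (x ^ i)⁻¹ with hc
    have htc : x'' = x' * c * x ^ i := by rw [hc]; group
    rcases pow_eq_self_or_one h.x_pow i with ei | ei
    · rw [htc, ei, mul_one] at hb
      exact hb (Q.mul_mem h'.x_mem (h'.zS_le hi))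
    rw [ei] at htc
    clear_value c
    have hx'x' : x' * x' = 1 := by rw [← pow_two, h'.x_pow]
    have hxx : x * x = 1 := by rw [← pow_two, h.x_pow]
    have hx'i : x'⁻¹ = x' := inv_eq_of_mul_eq_one_left hx'x'
    have e3 : x' * x * (x' * x) = z := by
      calc x' * x * (x' * x) = (x' * x * x'⁻¹) * x := by rw [hx'i]; group
        _ = x * z * x := by rw [hx'x]
        _ = z := by rw [mul_assoc, ← (mem_zS.1 hfr.memZ).2 x hxS, ← mul_assoc, hxx, one_mul]
    have hcx' : x' * c = c * x' := (mem_zS.1 hi).2 x' hx'S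
    have hcxy : x' * x * c = c * (x' * x) := (mem_zS.1 hi).2 _ (S.mul_mem hx'S hxS)
    have hcz : c ^ 2 = z := by
      have e4 : x'' ^ 2 = c ^ 2 * z := by
        rw [htc, hcx', mul_assoc, pow_two, pow_two, mul_assoc, ← mul_assoc (x' * x) c, hcxy,
          mul_assoc, e3, ← mul_assoc]
      rw [h''.x_pow] at e4
      rw [eq_comm, eq_mul_inv_iff_mul_eq.symm] at e4
      rw [e4, one_mul, inv_eq_of_mul_eq_one_left (show z * z = 1 by rw [← pow_two, hfr.pow_eq])]
    obtain ⟨j, hj⟩ := h.dec c hi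
    refine h.z_not ?_
    have hzc : c * z = z * c := (mem_zS.1 hfr.memZ).2 c hi.1
    have := (wSubP F P).pow_mem hj 2
    rwa [(show Commute c (z ^ j) from (Commute.pow_right hzc j)).mul_pow, ← pow_mul,
      mul_comm j 2, pow_mul, hfr.pow_eq, one_pow, mul_one, hcz] at this
  -- the intersection of the two complements is normal
  have hmeet : wSubP F P ⊓ wSubP F Q = ⊥ := by
    refine le_bot_iff.1 (hcore ▸ le_core (isNormal_of_essential hS hF
      (inf_le_left.trans ((wSubP_le F P).trans (zS_le S)))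
      (fun γ hγ w hw => ⟨hW h γ hγ w hw.1, hW h' γ hγ w hw.2⟩) fun R hR => ?_))
    obtain ⟨x'', s'', h''⟩ := exists_essFacts hfr hS hF hR
    refine ⟨inf_le_left.trans ((wSubP_le F P).trans h''.zS_le), fun α hα w hw => ?_⟩
    obtain ⟨μ, -, δ, hδ, hμδ, -, hμW⟩ := h''.two rfl α hα
    have hwR : w ∈ R := h''.zS_le (wSubP_le F P hw.1)
    have hδw : autFun δ w ∈ wSubP F P ⊓ wSubP F Q := ⟨hW h δ hδ w hw.1, hW h' δ hδ w hw.2⟩
    rw [(hμδ w hwR).2]
    rcases honly h'' with e | e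
    · rw [hμW _ (by rw [e]; exact hδw.1)]
      exact hδw
    · rw [hμW _ (by rw [e]; exact hδw.2)]
      exact hδw
  by_contra hne
  obtain ⟨w, hw, hw1⟩ : ∃ w ∈ wSubP F P, w ≠ 1 := by
    by_contra hcon
    push Not at hcon
    exact hne (le_bot_iff.1 fun t ht => Subgroup.mem_bot.2 (hcon t ht))
  have hwz : ∀ u ∈ wSubP F P, u ≠ 1 → u * z ∈ wSubP F Q := by
    intro u hu hu1
    obtain ⟨j, hj⟩ := h'.dec u (wSubP_le F P hu)
    rcases pow_eq_self_or_one hfr.pow_eq j with e | e <;> rw [e] at hj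
    · rw [mul_one] at hj
      exact absurd (Subgroup.mem_bot.1 (hmeet ▸ Subgroup.mem_inf.2 ⟨hu, hj⟩)) hu1
    · exact hj
  have hzz : z * z = 1 := by rw [← pow_two, hfr.pow_eq]
  have hprod : ∀ u ∈ wSubP F P, ∀ v ∈ wSubP F P, u ≠ 1 → v ≠ 1 → u * v = 1 := by
    intro u hu v hv hu1 hv1
    have := (wSubP F Q).mul_mem (hwz u hu hu1) (hwz v hv hv1)
    have hzv : z * v = v * z := ((mem_zS.1 hfr.memZ).2 v (wSubP_le F P hv).1).symm
    rw [show u * z * (v * z) = u * (z * v) * z by group, hzv,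
      show u * (v * z) * z = u * v * (z * z) by group, hzz, mul_one] at this
    exact Subgroup.mem_bot.1 (hmeet ▸ Subgroup.mem_inf.2 ⟨(wSubP F P).mul_mem hu hv, this⟩)
  have hW2 : ∀ u ∈ wSubP F P, u = 1 ∨ u = w := fun u hu => by
    by_cases hu1 : u = 1
    · exact Or.inl hu1
    · right
      exact mul_right_cancel ((hprod u hu w hw hu1 hw1).trans (hprod w hw w hw hw1 hw1).symm)
  -- automorphisms of `S` move elements within `⟨z⟩`
  have hZ2 : ∀ c ∈ zS S, c ^ 2 = 1 := fun c hc => by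
    obtain ⟨j, hj⟩ := h.dec c hc
    have h1 : (c * z ^ j) ^ 2 = 1 := by
      rcases hW2 _ hj with e | e <;> rw [e]
      · rw [one_pow]
      · rw [pow_two, hprod w hw w hw hw1 hw1]
    rwa [(show Commute c (z ^ j) from
      (Commute.pow_right ((mem_zS.1 hfr.memZ).2 c hc.1) j)).mul_pow, ← pow_mul,
      mul_comm j 2, pow_mul, hfr.pow_eq, one_pow, mul_one] at h1
  have hfixZ : ∀ γ ∈ F.autGroup S, ∀ c ∈ zS S, autFun γ c = c := by
    intro γ hγ c hc
    have hz : autFun γ z = z := by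
      obtain ⟨k, hk⟩ := hfr.zpowers_exists (γ := γ)
      rcases pow_eq_self_or_one hfr.pow_eq k with e | e
      · exfalso
        rw [e] at hk
        refine hfr.ne_one ?_
        rw [← autFun_inv_apply γ hfr.memZ.1, hk, show (1 : Ω) = ((1 : S) : Ω) from rfl, autFun_coe,
          map_one]
      · rw [hk, e]
    have hwfix : autFun γ w = w := by
      rcases hW2 _ (hW h γ hγ w hw) with e | e
      · exfalso
        refine hw1 ?_
        rw [← autFun_inv_apply γ (wSubP_le F P hw).1, e, show (1 : Ω) = ((1 : S) : Ω) from rfl,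
          autFun_coe, map_one]
      · exact e
    obtain ⟨j, hj⟩ := h.dec c hc
    have hcj : autFun γ (c * z ^ j) = c * z ^ j := by
      rcases hW2 _ hj with e | e <;> rw [e]
      · rw [show (1 : Ω) = ((1 : S) : Ω) from rfl, autFun_coe, map_one]
      · exact hwfix
    rw [autFun_map_mul γ hc.1 (S.pow_mem hfr.memZ.1 j), autFun_map_pow γ hfr.memZ.1, hz] at hcj
    exact mul_right_cancel hcj
  have hdispx : ∀ {R : Subgroup Ω} {a a' : Ω}, EssFacts F 2 z R a a' → ∀ γ ∈ F.autGroup S,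
      a⁻¹ * autFun γ a ∈ Subgroup.zpowers z := by
    intro R a a' hR γ hγ
    have haS := hR.le hR.x_mem
    obtain ⟨i, hi⟩ := hR.gen _ (hR.aut_mem_of_two hfr hS hF hγ)
    rcases pow_eq_self_or_one hR.x_pow i with e | e <;> rw [e] at hi
    · exfalso
      refine hR.x_not ?_
      rw [inv_one, mul_one] at hi
      rw [← autFun_inv_apply γ haS]
      exact autFun_mem_zS γ⁻¹ hi
    set c := autFun γ a * a⁻¹ with hc
    have hga : autFun γ a = c * a := by rw [hc, inv_mul_cancel_right]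
    obtain ⟨-, T, hT⟩ := fullyAutomized_of_fullyNormalized hS hF (fullyNormalized_self F)
    haveI : ((autInducedBy S S).subgroupOf (F.autGroup S)).Normal := by
      rw [← inn_eq_autInducedBy]
      exact inn_subgroupOf_normal F S
    set I := (autInducedBy S S).subgroupOf (F.autGroup S) with hI
    have hm : ¬ 2 ∣ I.index := by
      rw [← hT]
      exact T.not_dvd_index
    have hmem : (⟨γ, hγ⟩ : F.autGroup S) ^ I.index ∈ I := Subgroup.pow_index_mem _ _
    rw [Subgroup.mem_subgroupOf] at hmem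
    obtain ⟨g, hg, hge⟩ := mem_autInducedBy.1 hmem
    have hpow : ∀ n : ℕ, autFun (γ ^ n) a = c ^ n * a := by
      intro n
      induction n with
      | zero => rw [pow_zero, autFun_one haS, pow_zero, one_mul]
      | succ n ih =>
        rw [pow_succ', autFun_mul _ _ haS, ih, autFun_map_mul γ (S.pow_mem hi.1 n) haS,
          autFun_map_pow γ hi.1, hfixZ γ hγ c hi, hga, ← mul_assoc, ← pow_succ]
    have h1 := hge ⟨a, haS⟩
    rw [show (((⟨γ, hγ⟩ : F.autGroup S) ^ I.index : F.autGroup S) : MulAut S) = γ ^ I.index from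
      SubmonoidClass.coe_pow _ _, ← autFun_coe, hpow] at h1
    obtain ⟨k, hk⟩ := hfr.conj g hg a haS
    rw [hk] at h1
    have hcm : c ^ I.index = c := by
      rw [pow_eq_pow_mod I.index (hZ2 c hi), show I.index % 2 = 1 by omega, pow_one]
    rw [hcm, ← hga] at h1
    rw [h1, inv_mul_cancel_left]
    exact Subgroup.pow_mem _ (Subgroup.mem_zpowers z) k
  set D := Subgroup.zpowers z ⊔ Subgroup.zpowers x ⊔ Subgroup.zpowers x' with hD
  have hzD : Subgroup.zpowers z ≤ D := le_sup_left.trans le_sup_left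
  have hxD : x ∈ D := Subgroup.mem_sup_left (Subgroup.mem_sup_right (Subgroup.mem_zpowers x))
  have hx'D : x' ∈ D := Subgroup.mem_sup_right (Subgroup.mem_zpowers x')
  have hdisp : ∀ γ ∈ F.autGroup S, ∀ t ∈ S, t⁻¹ * autFun γ t ∈ Subgroup.zpowers z := by
    intro γ hγ t ht
    have hcen : ∀ a ∈ Subgroup.zpowers z, ∀ u ∈ S, u * a = a * u := fun a ha u hu =>
      (mem_zS.1 ((Subgroup.zpowers_le.2 hfr.memZ) ha)).2 u hu
    let M : Subgroup Ω :=
      { carrier := {u | u ∈ S ∧ u⁻¹ * autFun γ u ∈ Subgroup.zpowers z}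
        one_mem' := ⟨S.one_mem, by
          rw [show (1 : Ω) = ((1 : S) : Ω) from rfl, autFun_coe, map_one]; simp⟩
        mul_mem' := fun {u v} hu hv => ⟨S.mul_mem hu.1 hv.1, by
          rw [autFun_map_mul γ hu.1 hv.1,
            show (u * v)⁻¹ * (autFun γ u * autFun γ v) =
              v⁻¹ * (u⁻¹ * autFun γ u) * autFun γ v by group,
            hcen _ hu.2 _ (S.inv_mem hv.1), mul_assoc]
          exact Subgroup.mul_mem _ hu.2 hv.2⟩
        inv_mem' := fun {u} hu => ⟨S.inv_mem hu.1, by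
          rw [show u⁻¹ = (((⟨u, hu.1⟩ : S)⁻¹ : S) : Ω) from rfl, autFun_coe, map_inv,
            Subgroup.coe_inv, Subgroup.coe_inv, ← autFun_coe]
          show u⁻¹⁻¹ * (autFun γ u)⁻¹ ∈ _
          have h2 := Subgroup.inv_mem _ hu.2
          rw [mul_inv_rev, inv_inv] at h2
          have e : u⁻¹⁻¹ * (autFun γ u)⁻¹ = u * ((autFun γ u)⁻¹ * u) * u⁻¹ := by group
          rw [e, hcen _ h2 u hu.1, mul_inv_cancel_right]
          exact h2⟩ }
    exact (hgen M (fun c hc => ⟨hc.1, by rw [hfixZ γ hγ c hc, inv_mul_cancel]; exact one_mem _⟩)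
      ⟨hxS, hdispx h γ hγ⟩ ⟨hx'S, hdispx h' γ hγ⟩ ht).2
  have hfoc : F.focalSubgroup ≤ D := by
    refine focalSubgroup_le_iff.2 fun R f hf => ?_
    refine alperin' hS hF (fun R f => ∀ t ∈ R, t⁻¹ * f t ∈ D) ?_ ?_ ?_ ?_ ?_ hf
    · intro R f g hR e t ht
      rw [← e t ht]; exact hR t ht
    · intro R R' f g _ _ hfR h1 h2 t ht
      have := D.mul_mem (h1 t ht) (h2 _ (hfR t ht))
      rwa [mul_assoc, mul_inv_cancel_left] at this
    · exact fun R R' f _ hle h1 t ht => h1 t (hle ht)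
    · exact fun γ hγ t ht => hzD (hdisp γ hγ t ht)
    · intro R hR _ α hα t ht
      obtain ⟨x'', s'', h''⟩ := exists_essFacts hfr hS hF hR
      have key : ∀ {a a' : Ω}, EssFacts F 2 z R a a' → a ∈ D → t⁻¹ * autFun α t ∈ D := by
        intro a a' hR' haD
        obtain ⟨μ, -, δ, hδ, hμδ, hμ, -⟩ := hR'.two rfl α hα
        obtain ⟨hδt, e⟩ := hμδ t ht
        obtain ⟨i, j, hμt⟩ := hμ _ hδt
        rw [e, hμt, ← mul_assoc]
        exact D.mul_mem (hzD (hdisp δ hδ t (hR'.le ht))) (D.mul_mem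
          (hzD (Subgroup.pow_mem _ (Subgroup.mem_zpowers z) i)) (D.pow_mem haD j))
      rcases honly h'' with rfl | rfl
      · exact key h hxD
      · exact key h' hx'D
  have hzx : z * x = x * z := ((mem_zS.1 hfr.memZ).2 x hxS).symm
  have hzx' : z * x' = x' * z := ((mem_zS.1 hfr.memZ).2 x' hx'S).symm
  have hn1 : Subgroup.zpowers x ≤ Subgroup.normalizer (Subgroup.zpowers z : Set Ω) := by
    refine le_trans ?_ (Subgroup.centralizer_le_normalizer _)
    rw [Subgroup.zpowers_le, Subgroup.mem_centralizer_iff]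
    rintro _ ⟨n, rfl⟩
    exact ((show Commute z x from hzx).zpow_left n).eq
  set K := Subgroup.zpowers z ⊔ Subgroup.zpowers x with hK
  have hn2 : Subgroup.zpowers x' ≤ Subgroup.normalizer (K : Set Ω) := by
    rw [Subgroup.zpowers_le]
    have hgz : x' * z * x'⁻¹ = z := by rw [← hzx', mul_inv_cancel_right]
    have hle : K.map (MulAut.conj x').toMonoidHom ≤ K := by
      rw [hK, Subgroup.map_sup, MonoidHom.map_zpowers, MonoidHom.map_zpowers]
      refine sup_le (Subgroup.zpowers_le.2 ?_) (Subgroup.zpowers_le.2 ?_)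
      · show x' * z * x'⁻¹ ∈ _
        rw [hgz]
        exact Subgroup.mem_sup_left (Subgroup.mem_zpowers z)
      · show x' * x * x'⁻¹ ∈ _
        rw [hx'x]
        exact Subgroup.mul_mem _ (Subgroup.mem_sup_right (Subgroup.mem_zpowers x))
          (Subgroup.mem_sup_left (Subgroup.mem_zpowers z))
    refine mem_normalizer_of_forall (fun y hy => hle ⟨y, hy, rfl⟩) fun y hy => ?_
    have := hle ⟨y, hy, rfl⟩
    rw [inv_eq_of_mul_eq_one_left (show x' * x' = 1 by rw [← pow_two, h'.x_pow])]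
    simpa [inv_eq_of_mul_eq_one_left (show x' * x' = 1 by rw [← pow_two, h'.x_pow])] using this
  have hcard : Nat.card D ≤ 8 := by
    have hc : ∀ g : Ω, g ^ 2 = 1 → Nat.card (Subgroup.zpowers g) ≤ 2 := fun g hg => by
      rw [Nat.card_zpowers]
      exact Nat.le_of_dvd two_pos (orderOf_dvd_of_pow_eq_one hg)
    have h1 : Nat.card D ≤ Nat.card K * Nat.card (Subgroup.zpowers x') := by
      have e := Subgroup.coe_mul_of_right_le_normalizer_left K (Subgroup.zpowers x') hn2
      calc Nat.card D = Nat.card ((K : Set Ω) * (Subgroup.zpowers x' : Set Ω) : Set Ω) := by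
            rw [← e]; rfl
        _ ≤ _ := Set.natCard_mul_le
    have h2 : Nat.card K ≤ Nat.card (Subgroup.zpowers z) * Nat.card (Subgroup.zpowers x) := by
      have e := Subgroup.coe_mul_of_right_le_normalizer_left (Subgroup.zpowers z)
        (Subgroup.zpowers x) hn1
      calc Nat.card K = Nat.card
            ((Subgroup.zpowers z : Set Ω) * (Subgroup.zpowers x : Set Ω) : Set Ω) := by
            rw [← e]; rfl
        _ ≤ _ := Set.natCard_mul_le
    calc Nat.card D ≤ _ := h1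
      _ ≤ _ := Nat.mul_le_mul (h2.trans (Nat.mul_le_mul (hc z hfr.pow_eq) (hc x h.x_pow)))
        (hc x' h'.x_pow)
  have hDS : D ≤ S := sup_le (sup_le (Subgroup.zpowers_le.2 hfr.memZ.1)
    (Subgroup.zpowers_le.2 hxS)) (Subgroup.zpowers_le.2 hx'S)
  haveI : Finite D := finite_of_le hDS
  have hS8 : Nat.card S ≤ 8 :=
    (Subgroup.card_le_of_le (hhyp.ge.trans ((hyperfocal_le_focal F 2).trans hfoc))).trans hcard
  rw [hfr.card_eq] at hS8
  haveI : Finite (zS S) := finite_of_le (zS_le S)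
  have hz2 : Nat.card (Subgroup.zpowers z) = 2 := by
    rw [Nat.card_zpowers, orderOf_eq_prime hfr.pow_eq hfr.ne_one]
  have heq : Subgroup.zpowers z = zS S :=
    Subgroup.eq_of_le_of_card_ge (Subgroup.zpowers_le.2 hfr.memZ) (by omega)
  have hwz' : w ∈ Subgroup.zpowers z := heq ▸ wSubP_le F P hw
  obtain ⟨n, rfl⟩ := (Submonoid.mem_powers_iff _ _).1
    ((isOfFinOrder_iff_pow_eq_one.2 ⟨2, two_pos, hfr.pow_eq⟩).mem_powers_iff_mem_zpowers.2 hwz')
  rcases pow_eq_self_or_one hfr.pow_eq n with e | e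
  · exact hw1 e
  · rw [e] at hw
    exact h.z_not hw

/-- With trivial core and full hyperfocal subgroup, a centre of index at most `p ^ 2` forces an
extraspecial group of order `p ^ 3`. -/
theorem extraspecial_of_center_index (hS : IsPGroup p S) (hF : F.IsSaturated p) (hS1 : S ≠ ⊥)
    (hcore : F.core = ⊥) (hhyp : F.hyperfocalSubgroup p = S)
    (hZ : (Subgroup.center ↥S).index ≤ p ^ 2) :
    IsExtraspecial p ↥S ∧ Nat.card S = p ^ 3 ∧ (p ≠ 2 → Monoid.exponent ↥S = p) ∧
      (p = 2 → Nonempty (↥S ≃* DihedralGroup 4)) := by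
  have hna : ¬ ∀ a ∈ S, ∀ b ∈ S, a * b = b * a := fun hab =>
    hS1 (le_bot_iff.1 (hcore ▸ le_core (isNormal_top_of_comm hS hF hab)))
  obtain ⟨z, hfr⟩ := exists_frame hS hna hZ
  obtain ⟨P, hP⟩ : ∃ P, F.IsEssential p P := by
    by_contra hcon
    push Not at hcon
    refine hS1 (le_bot_iff.1 (hcore ▸ le_core (isNormal_of_essential hS hF le_rfl
      (fun α _ t ht => autFun_mem α ht) fun P hP => absurd hP (hcon P))))
  obtain ⟨x, s, h⟩ := exists_essFacts hfr hS hF hP
  have hW : wSubP F P = ⊥ := by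
    by_cases h2 : p = 2
    · subst h2
      exact wSubP_eq_bot_of_two hS hF hfr hcore hhyp h
    · exact wSubP_eq_bot_of_odd hfr hS hF hcore h2 h
  have hZz : zS S = Subgroup.zpowers z := by
    refine le_antisymm (fun c hc => ?_) (Subgroup.zpowers_le.2 hfr.memZ)
    obtain ⟨j, hj⟩ := h.dec c hc
    rw [hW, Subgroup.mem_bot] at hj
    rw [eq_inv_of_mul_eq_one_left hj]
    exact Subgroup.inv_mem _ (Subgroup.pow_mem _ (Subgroup.mem_zpowers z) j)
  have hcardZ : Nat.card (zS S) = p := by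
    rw [hZz, Nat.card_zpowers, orderOf_eq_prime hfr.pow_eq hfr.ne_one]
  have hcard : Nat.card S = p ^ 3 := by rw [hfr.card_eq, hcardZ, ← pow_succ']
  have hc : ∀ t : S, t ∈ Subgroup.center S ↔ (t : Ω) ∈ zS S := fun t => by
    rw [← zS_subgroupOf, Subgroup.mem_subgroupOf]
  have hcentercard : Nat.card (Subgroup.center S) = p := by
    rw [← zS_subgroupOf, Nat.card_congr (Subgroup.subgroupOfEquivOfLe (zS_le S)).toEquiv, hcardZ]
  have hcomm : commutator ↥S = Subgroup.center ↥S := by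
    refine le_antisymm (Subgroup.commutator_le.2 fun a _ b _ => (hc _).2 ?_) fun c hcc => ?_
    · obtain ⟨k, hk⟩ := hfr.conj a a.2 b b.2
      rw [show ((⁅a, b⁆ : S) : Ω) = (a : Ω) * b * (a : Ω)⁻¹ * (b : Ω)⁻¹ by
        simp [commutatorElement_def], hk, (mem_zS.1 ((zS S).pow_mem hfr.memZ k)).2 b b.2,
        mul_inv_cancel_right]
      exact (zS S).pow_mem hfr.memZ k
    · obtain ⟨a, ha, b, hb, e⟩ := hfr.isComm
      have h1 : (c : Ω) ∈ Subgroup.zpowers z := hZz ▸ (hc c).1 hcc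
      obtain ⟨n, hn⟩ := Subgroup.mem_zpowers_iff.1 h1
      have hzc : (⟨z, hfr.memZ.1⟩ : S) = ⁅(⟨a, ha⟩ : S), ⟨b, hb⟩⁆ := Subtype.ext (by
        show z = _
        simp only [commutatorElement_def, Subgroup.coe_mul, Subgroup.coe_inv]
        rw [e, (mem_zS.1 hfr.memZ).2 b hb, mul_inv_cancel_right])
      rw [show c = (⟨z, hfr.memZ.1⟩ : S) ^ n from Subtype.ext (by
        rw [SubgroupClass.coe_zpow]; exact hn.symm)]
      refine Subgroup.zpow_mem _ ?_ n
      rw [hzc]
      exact Subgroup.commutator_mem_commutator (Subgroup.mem_top _) (Subgroup.mem_top _)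
  have hfrat : frattini ↥S = Subgroup.center ↥S := by
    refine le_antisymm (Grp.frattini_le_of_elementary hp.out hcomm.le fun t => (hc _).2 ?_)
      (hcomm ▸ Grp.pGroup_commutator_le_frattini hS)
    simpa using hfr.powZ t t.2
  refine ⟨⟨⟨hS, hfrat, hcomm⟩, hcentercard⟩, hcard, fun hp2 => ?_, fun hp2 => ?_⟩
  · obtain ⟨y, hyS, hyP, hy⟩ := h.exists_outside hfr hS hF hcore
    have hadd : ∀ a ∈ S, ∀ b ∈ S, a ^ p = 1 → b ^ p = 1 → (a * b) ^ p = 1 := by
      intro a ha b hb ea eb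
      obtain ⟨k, hk⟩ := hfr.conj b hb a ha
      have hzk := (mem_zS.1 ((zS S).pow_mem hfr.memZ k)).2
      have hba : b * a = z ^ k * a * b := by
        rw [← inv_mul_cancel_right (b * a) b, hk, hzk a ha]
      rw [Grp.mul_pow_class_two hba (hzk a ha).symm (hzk b hb).symm p, ea, eb, mul_one, mul_one,
        ← pow_mul]
      obtain ⟨m, hm⟩ : p ∣ p.choose 2 :=
        hp.out.dvd_choose_self two_ne_zero (lt_of_le_of_ne hp.out.two_le (Ne.symm hp2))
      rw [hm, ← mul_assoc, mul_comm k p, mul_assoc, pow_mul, hfr.pow_eq, one_pow]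
    have hall : ∀ t ∈ S, t ^ p = 1 := by
      intro t ht
      obtain ⟨k, hk⟩ := hfr.conj t ht x (h.le h.x_mem)
      obtain ⟨l, hl⟩ := hfr.conj y hyS x (h.le h.x_mem)
      have hl1 : z ^ l ≠ 1 := fun e => hyP (h.mem_of_commute hfr hyS (by
        rw [e, mul_one] at hl
        conv_lhs => rw [← hl, inv_mul_cancel_right]))
      obtain ⟨n, hn⟩ : ∃ n : ℕ, (z ^ l) ^ n = z ^ k := by
        have hord : orderOf z = p := orderOf_eq_prime hfr.pow_eq hfr.ne_one
        obtain ⟨m, hm⟩ := exists_pow_eq_self_of_coprime (x := z) (n := l) (by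
          rw [hord]
          exact ((hp.out.coprime_iff_not_dvd).2 fun ⟨c, hc'⟩ => hl1 (by
            rw [hc', pow_mul, hfr.pow_eq, one_pow])).symm)
        exact ⟨m * k, by rw [pow_mul, hm]⟩
      have hyn : ∀ n : ℕ, y ^ n * x * (y ^ n)⁻¹ = x * (z ^ l) ^ n := by
        intro n
        induction n with
        | zero => simp
        | succ n ih =>
          calc y ^ (n + 1) * x * (y ^ (n + 1))⁻¹ = y * (y ^ n * x * (y ^ n)⁻¹) * y⁻¹ := by
                rw [pow_succ']; group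
            _ = (y * x * y⁻¹) * (y * (z ^ l) ^ n * y⁻¹) := by rw [ih]; group
            _ = x * (z ^ l) ^ (n + 1) := by
                rw [hl, (mem_zS.1 ((zS S).pow_mem ((zS S).pow_mem hfr.memZ l) n)).2 y hyS,
                  mul_inv_cancel_right, pow_succ', mul_assoc]
      have hu : (y ^ n)⁻¹ * t ∈ P := by
        refine h.mem_of_commute hfr (S.mul_mem (S.inv_mem (S.pow_mem hyS n)) ht) ?_
        have e2 : (y ^ n)⁻¹ * t * x * ((y ^ n)⁻¹ * t)⁻¹ = x := by
          calc _ = (y ^ n)⁻¹ * (t * x * t⁻¹) * y ^ n := by group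
            _ = (y ^ n)⁻¹ * (y ^ n * x * (y ^ n)⁻¹) * y ^ n := by rw [hk, hyn, hn]
            _ = x := by group
        conv_lhs => rw [← e2, inv_mul_cancel_right]
      obtain ⟨i, hi⟩ := h.gen _ hu
      set c := (y ^ n)⁻¹ * t * (x ^ i)⁻¹ with hc'
      have hcp : c ^ p = 1 := by
        obtain ⟨j, hj⟩ := (hZz ▸ hi : c ∈ Subgroup.zpowers z)
        rw [← hj]
        show (z ^ j) ^ p = 1
        rw [← zpow_natCast (z ^ j), ← zpow_mul, mul_comm j, zpow_mul, zpow_natCast, hfr.pow_eq,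
          one_zpow]
      rw [show t = y ^ n * (c * x ^ i) by rw [hc']; group]
      exact hadd _ (S.pow_mem hyS n) _ (S.mul_mem hi.1 (S.pow_mem (h.le h.x_mem) i))
        (by rw [← pow_mul, mul_comm, pow_mul, hy, one_pow])
        (hadd _ hi.1 _ (S.pow_mem (h.le h.x_mem) i) hcp
          (by rw [← pow_mul, mul_comm, pow_mul, h.x_pow, one_pow]))
    refine ((Nat.dvd_prime hp.out).1 (Monoid.exponent_dvd_of_forall_pow_eq_one fun t =>
      Subtype.ext (by simpa using hall t t.2))).resolve_left fun e => ?_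
    have := Monoid.pow_exponent_eq_one (⟨x, h.le h.x_mem⟩ : S)
    rw [e, pow_one] at this
    exact h.x_not (by rw [show x = 1 from congrArg Subtype.val this]; exact (zS S).one_mem)
  · subst hp2
    obtain ⟨y, hyS, hyP, hy⟩ := h.exists_outside hfr hS hF hcore
    have hxS := h.le h.x_mem
    have hyx : y * x * y⁻¹ = x * z := by
      obtain ⟨k, hk⟩ := hfr.conj y hyS x hxS
      rcases pow_eq_self_or_one hfr.pow_eq k with e | e
      · exact absurd (h.mem_of_commute hfr hyS (by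
          rw [e, mul_one] at hk
          conv_lhs => rw [← hk, inv_mul_cancel_right])) hyP
      · rw [hk, e]
    have hxx : x * x = 1 := by rw [← pow_two, h.x_pow]
    have hyy : y * y = 1 := by rw [← pow_two, hy]
    have hzz : z * z = 1 := by rw [← pow_two, hfr.pow_eq]
    have hyi : y⁻¹ = y := inv_eq_of_mul_eq_one_left hyy
    have ha2 : (x * y) * (x * y) = z := by
      calc x * y * (x * y) = x * (y * x * y⁻¹) := by rw [hyi]; group
        _ = z := by rw [hyx, ← mul_assoc, hxx, one_mul]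
    let a : S := ⟨x * y, S.mul_mem hxS hyS⟩
    have haord : orderOf a = 4 := by
      refine orderOf_eq_prime_pow (p := 2) (n := 1) (fun e => hfr.ne_one ?_) (Subtype.ext ?_)
      · have := congrArg Subtype.val e
        simpa [a, pow_two, ha2] using this
      · show (x * y) ^ (2 ^ 2) = 1
        rw [show (2 : ℕ) ^ 2 = 2 * 2 from rfl, pow_mul, pow_two (x * y), ha2, pow_two, hzz]
    have hidx : (Subgroup.zpowers a).index = 2 := by
      have := (Subgroup.zpowers a).card_mul_index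
      rw [Nat.card_zpowers, haord, hcard] at this
      omega
    have hxn : (⟨x, hxS⟩ : S) ∉ Subgroup.zpowers a := by
      intro hm
      have hy' : (⟨y, hyS⟩ : S) ∈ Subgroup.zpowers a := by
        have e : (⟨y, hyS⟩ : S) = (⟨x, hxS⟩ : S) * a := Subtype.ext (by
          show y = x * (x * y)
          rw [← mul_assoc, hxx, one_mul])
        rw [e]
        exact Subgroup.mul_mem _ hm (Subgroup.mem_zpowers a)
      obtain ⟨m, hm'⟩ := hm
      obtain ⟨n, hn'⟩ := hy'
      refine hyP (h.mem_of_commute hfr hyS ?_)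
      have := (Commute.zpow_zpow_self a m n).eq
      simp only at hm' hn'
      rw [hm', hn'] at this
      exact congrArg Subtype.val this
    refine Transfer.MaxClass.nonempty_dihedral (by norm_num) haord hidx hxn (Subtype.ext hxx)
      (Subtype.ext ?_)
    show x * (x * y) * x⁻¹ = (x * y)⁻¹
    rw [← mul_assoc, hxx, one_mul, mul_inv_rev, hyi]

end Cfsg.Agent.Fus
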