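import Mathlib

/-!
Transvections of a finite abelian group generating a group of automorphisms with Sylow subgroups of
order `p`: two independent ones fix a complement of the plane of their centres.
-/

set_option autoImplicit false
set_option linter.style.haveILetI false
set_option linter.unusedSectionVars false

open scoped Classical

namespace Cfsg.Agent.Fus

variable {A : Type*} [CommGroup A] (p : ℕ)

/-- `σ` moves every element within the group of order `p` generated by `z`, and is not trivial. -/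
structure IsTransv (σ : MulAut A) (z : A) : Prop where
  ne_one : z ≠ 1
  pow_eq : z ^ p = 1
  fix : σ z = z
  disp : ∀ y, ∃ i : ℕ, σ y = y * z ^ i
  moved : ∃ y, σ y ≠ y

variable {p} {σ τ : MulAut A} {z z' : A}

namespace IsTransv

theorem conj (h : IsTransv p σ z) (α : MulAut A) : IsTransv p (α * σ * α⁻¹) (α z) where
  ne_one e := h.ne_one (α.map_eq_one_iff.1 e)
  pow_eq := by rw [← map_pow, h.pow_eq, map_one]
  fix := by simp [h.fix]
  disp y := by
    obtain ⟨i, hi⟩ := h.disp (α⁻¹ y)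
    exact ⟨i, by
      show α (σ (α⁻¹ y)) = _
      rw [hi, map_mul, map_pow, MulAut.apply_inv_self]⟩
  moved := by
    obtain ⟨y, hy⟩ := h.moved
    exact ⟨α y, fun e => hy (α.injective (by simpa using e))⟩

theorem commute (h : IsTransv p σ z) (h' : IsTransv p τ z') (h1 : σ z' = z') (h2 : τ z = z) :
    σ * τ = τ * σ := by
  refine MulEquiv.ext fun y => ?_
  obtain ⟨i, hi⟩ := h.disp y
  obtain ⟨j, hj⟩ := h'.disp y
  show σ (τ y) = τ (σ y)
  rw [hi, hj, map_mul, map_mul, map_pow, map_pow, h1, h2, hi, hj, mul_right_comm]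

variable [hp : Fact p.Prime]

theorem orderOf_eq (h : IsTransv p σ z) : orderOf z = p :=
  orderOf_eq_prime h.pow_eq h.ne_one

theorem exists_pow (h : IsTransv p σ z) {i : ℕ} (hi : z ^ i ≠ 1) : ∃ n : ℕ, (z ^ i) ^ n = z := by
  have hndvd : ¬ p ∣ i := fun hd => hi (by
    obtain ⟨c, rfl⟩ := hd
    rw [pow_mul, h.pow_eq, one_pow])
  refine exists_pow_eq_self_of_coprime ?_
  rw [h.orderOf_eq]
  exact ((hp.out.coprime_iff_not_dvd).2 hndvd).symm

theorem pow_apply (h : IsTransv p σ z) {y : A} {i : ℕ} (hy : σ y = y * z ^ i) (n : ℕ) :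
    (σ ^ n) y = y * (z ^ i) ^ n := by
  induction n with
  | zero => simp
  | succ n ih => rw [pow_succ', MulAut.mul_apply, ih, map_mul, hy, map_pow, map_pow, h.fix,
      pow_succ', mul_assoc]

theorem pow_eq_one (h : IsTransv p σ z) : σ ^ p = 1 := by
  refine MulEquiv.ext fun y => ?_
  obtain ⟨i, hi⟩ := h.disp y
  rw [h.pow_apply hi, ← pow_mul, mul_comm i p, pow_mul, h.pow_eq, one_pow, mul_one]
  rfl

theorem ne (h : IsTransv p σ z) : σ ≠ 1 := fun e => by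
  obtain ⟨y, hy⟩ := h.moved
  exact hy (by rw [e]; rfl)

/-- The centre is determined by the powers. -/
theorem center_mem (h : IsTransv p σ z) (h' : IsTransv p τ z') (hτ : τ ∈ Subgroup.zpowers σ) :
    z' ∈ Subgroup.zpowers z := by
  obtain ⟨y, hy⟩ := h'.moved
  obtain ⟨j, hj⟩ := h'.disp y
  obtain ⟨i, hi⟩ := h.disp y
  haveI : Finite (Subgroup.zpowers σ) := (isOfFinOrder_iff_pow_eq_one.2
    ⟨p, hp.out.pos, h.pow_eq_one⟩).finite_zpowers
  obtain ⟨n, rfl⟩ := (Submonoid.mem_powers_iff _ _).1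
    ((isOfFinOrder_iff_pow_eq_one.2 ⟨p, hp.out.pos, h.pow_eq_one⟩).mem_powers_iff_mem_zpowers.2 hτ)
  rw [h.pow_apply hi] at hj
  have e : (z ^ i) ^ n = z' ^ j := mul_left_cancel hj
  obtain ⟨k, hk⟩ := h'.exists_pow (i := j) fun e' => hy (by
    rw [h.pow_apply hi, e, e', mul_one])
  rw [← hk, ← e, ← pow_mul, ← pow_mul]
  exact Subgroup.pow_mem _ (Subgroup.mem_zpowers z) _

end IsTransv

variable (p) in
/-- Commuting transvections in `G` are powers of one another. -/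
def SmallSylow (G : Subgroup (MulAut A)) : Prop :=
  ∀ σ ∈ G, ∀ τ ∈ G, σ ^ p = 1 → τ ^ p = 1 → σ ≠ 1 → σ * τ = τ * σ → τ ∈ Subgroup.zpowers σ

variable [hp : Fact p.Prime] {G : Subgroup (MulAut A)}

/-- Independent transvections move each other's centres. -/
theorem IsTransv.moves (hG : SmallSylow p G) (h : IsTransv p σ z) (h' : IsTransv p τ z')
    (hσ : σ ∈ G) (hτ : τ ∈ G) (hne : τ ∉ Subgroup.zpowers σ) : σ z' ≠ z' := by
  intro h1
  by_cases h2 : τ z = z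
  · exact hne (hG σ hσ τ hτ h.pow_eq_one h'.pow_eq_one h.ne (h.commute h' h1 h2))
  obtain ⟨k, hk⟩ := h'.disp z
  have hu := h.conj τ
  have hs : σ (τ z) = τ z := by rw [hk, map_mul, map_pow, h.fix, h1]
  have hu1 : (τ * σ * τ⁻¹) z = z := by
    have e : τ⁻¹ z = z * (z' ^ k)⁻¹ := τ.injective (by
      rw [map_mul, map_inv, map_pow, h'.fix, hk, MulAut.apply_inv_self, mul_inv_cancel_right])
    show τ (σ (τ⁻¹ z)) = z
    rw [e, map_mul, map_inv, map_pow, h.fix, h1, map_mul, map_inv, map_pow, h'.fix, hk,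
      mul_inv_cancel_right]
  have hmem := h.center_mem hu (hG σ hσ _ (G.mul_mem (G.mul_mem hτ hσ) (G.inv_mem hτ))
    h.pow_eq_one hu.pow_eq_one h.ne (h.commute hu hs hu1))
  rw [hk] at hmem
  have hk' : z' ^ k ≠ 1 := fun e => h2 (by rw [hk, e, mul_one])
  obtain ⟨n, hn⟩ := h'.exists_pow hk'
  have hz' : z' ∈ Subgroup.zpowers z := by
    rw [← hn]
    refine Subgroup.pow_mem _ ?_ n
    simpa using (Subgroup.zpowers z).mul_mem ((Subgroup.zpowers z).inv_mem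
      (Subgroup.mem_zpowers z)) hmem
  obtain ⟨i, hi⟩ := Subgroup.mem_zpowers_iff.1 hz'
  haveI : Finite (Subgroup.zpowers z) :=
    (isOfFinOrder_iff_pow_eq_one.2 ⟨p, hp.out.pos, h.pow_eq⟩).finite_zpowers
  have heq : Subgroup.zpowers z' = Subgroup.zpowers z := by
    refine Subgroup.eq_of_le_of_card_ge (Subgroup.zpowers_le.2 hz') (le_of_eq ?_)
    rw [Nat.card_zpowers, Nat.card_zpowers, h.orderOf_eq, h'.orderOf_eq]
  obtain ⟨j, hj⟩ := Subgroup.mem_zpowers_iff.1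
    (show z ∈ Subgroup.zpowers z' from heq ▸ Subgroup.mem_zpowers z)
  exact h2 (by rw [← hj, map_zpow, h'.fix])

/-- Normalised generators of a pair of independent transvections. -/
structure IsPair (σ τ : MulAut A) (z x : A) : Prop where
  sig_x : σ x = x * z
  tau_z : τ z = z * x⁻¹
  sig_z : σ z = z
  tau_x : τ x = x

theorem exists_pair (hG : SmallSylow p G) (h : IsTransv p σ z) (h' : IsTransv p τ z')
    (hσ : σ ∈ G) (hτ : τ ∈ G) (hne : τ ∉ Subgroup.zpowers σ) :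
    ∃ (x : A) (τ₁ : MulAut A), τ₁ ∈ G ∧ IsTransv p τ₁ x ∧ IsPair σ τ₁ z x ∧
      τ ∈ Subgroup.zpowers τ₁ ∧ τ₁ ∈ Subgroup.zpowers τ ∧ x ∈ Subgroup.zpowers z' := by
  have hne' : σ ∉ Subgroup.zpowers τ := fun hm => by
    refine hne (hG σ hσ τ hτ h.pow_eq_one h'.pow_eq_one h.ne ?_)
    obtain ⟨n, rfl⟩ := Subgroup.mem_zpowers_iff.1 hm
    exact (Commute.zpow_self τ n).eq
  have m1 := IsTransv.moves hG h h' hσ hτ hne
  have m2 := IsTransv.moves hG h' h hτ hσ hne'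
  obtain ⟨k, hk⟩ := h.disp z'
  obtain ⟨n, hn⟩ := h.exists_pow (i := k) fun e => m1 (by rw [hk, e, mul_one])
  obtain ⟨j, hj⟩ := h'.disp z
  obtain ⟨m, hm⟩ := h'.exists_pow (i := j) fun e => m2 (by rw [hj, e, mul_one])
  have hx : σ (z' ^ n) = z' ^ n * z := by rw [map_pow, hk, mul_pow, hn]
  have hxne : z' ^ n ≠ 1 := fun e => h.ne_one (by rw [e, map_one, one_mul] at hx; exact hx.symm)
  obtain ⟨a, ha⟩ : ∃ a : ℕ, (z' ^ j) ^ a = (z' ^ n)⁻¹ := by
    refine ⟨m * ((p - 1) * n), ?_⟩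
    rw [pow_mul, hm, pow_mul]
    refine eq_inv_of_mul_eq_one_left ?_
    rw [← mul_pow, ← pow_succ, Nat.sub_add_cancel hp.out.one_le, h'.pow_eq, one_pow]
  refine ⟨z' ^ n, τ ^ a, G.pow_mem hτ a, ?_, ⟨hx, ?_, h.fix, ?_⟩, ?_, ?_,
    Subgroup.pow_mem _ (Subgroup.mem_zpowers z') n⟩
  · obtain ⟨b, hb⟩ := h'.exists_pow hxne
    refine ⟨hxne, by rw [← pow_mul, mul_comm, pow_mul, h'.pow_eq, one_pow], ?_, fun y => ?_, z, ?_⟩
    · rw [map_pow, h'.pow_apply (i := 0) (by rw [pow_zero, mul_one, h'.fix]) a]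
      simp
    · obtain ⟨i, hi⟩ := h'.disp y
      exact ⟨b * (i * a), by rw [h'.pow_apply hi, ← pow_mul z' i a, pow_mul (z' ^ n) b, hb]⟩
    · rw [h'.pow_apply hj, ha]
      simpa using hxne
  · rw [h'.pow_apply hj, ha]
  · rw [map_pow, h'.pow_apply (i := 0) (by rw [pow_zero, mul_one, h'.fix]) a]
    simp
  · have hord : orderOf τ = p := orderOf_eq_prime h'.pow_eq_one h'.ne
    have hco : a.Coprime (orderOf τ) := by
      rw [hord]
      refine ((hp.out.coprime_iff_not_dvd).2 fun ⟨c, hc⟩ => hxne ?_).symm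
      have e : (z' ^ j) ^ a = 1 := by
        rw [hc, ← pow_mul, mul_left_comm, pow_mul, h'.pow_eq, one_pow]
      rw [e] at ha
      simpa using ha.symm
    obtain ⟨c, hc⟩ := exists_pow_eq_self_of_coprime hco
    have h1 := Subgroup.pow_mem _ (Subgroup.mem_zpowers (τ ^ a)) c
    rwa [hc] at h1
  · exact Subgroup.pow_mem _ (Subgroup.mem_zpowers τ) a

omit hp in
/-- The fixed complement. -/
theorem IsPair.decomp {τ₁ : MulAut A} {x : A} (h : IsTransv p σ z) (h' : IsTransv p τ₁ x)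
    (hpair : IsPair σ τ₁ z x) (y : A) :
    ∃ i j : ℕ, σ (y * (x ^ i)⁻¹ * z ^ j) = y * (x ^ i)⁻¹ * z ^ j ∧
      τ₁ (y * (x ^ i)⁻¹ * z ^ j) = y * (x ^ i)⁻¹ * z ^ j := by
  obtain ⟨i, hi⟩ := h.disp y
  obtain ⟨j, hj⟩ := h'.disp y
  refine ⟨i, j, ?_, ?_⟩
  · rw [map_mul, map_mul, map_inv, map_pow, map_pow, hi, hpair.sig_x, hpair.sig_z, mul_pow,
      mul_inv_rev]
    simp [mul_comm, mul_assoc, mul_left_comm]
  · rw [map_mul, map_mul, map_inv, map_pow, map_pow, hj, hpair.tau_x, hpair.tau_z, mul_pow, inv_pow]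
    simp [mul_comm, mul_assoc, mul_left_comm]

omit hp in
/-- The square of `σ τ₁ σ` inverts the plane and fixes the complement. -/
theorem IsPair.inv_elt {τ₁ : MulAut A} {x : A} (hpair : IsPair σ τ₁ z x) :
    ((σ * τ₁ * σ) ^ 2) z = z⁻¹ ∧ ((σ * τ₁ * σ) ^ 2) x = x⁻¹ ∧
      ∀ w, σ w = w → τ₁ w = w → ((σ * τ₁ * σ) ^ 2) w = w := by
  obtain ⟨e1, e2, e3, e4⟩ := hpair
  have a1 : (σ * τ₁ * σ) z = x⁻¹ := by
    simp [MulAut.mul_apply, e3, e2, e1, mul_comm]
  have a2 : (σ * τ₁ * σ) x = z := by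
    simp [MulAut.mul_apply, e1, e2, e4, e3]
  refine ⟨?_, ?_, fun w h1 h2 => ?_⟩
  · rw [pow_two, MulAut.mul_apply, a1, map_inv, a2]
  · rw [pow_two, MulAut.mul_apply, a2, a1]
  · simp [pow_two, MulAut.mul_apply, h1, h2]

omit hp in
/-- Automorphisms agreeing on the plane and on the complement are equal. -/
theorem IsPair.aut_ext {τ₁ : MulAut A} {x : A} (h : IsTransv p σ z) (h' : IsTransv p τ₁ x)
    (hpair : IsPair σ τ₁ z x) {φ ψ : MulAut A} (hz : φ z = ψ z) (hx : φ x = ψ x)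
    (hw : ∀ w, σ w = w → τ₁ w = w → φ w = ψ w) : φ = ψ := by
  refine MulEquiv.ext fun v => ?_
  obtain ⟨i, j, f1, f2⟩ := IsPair.decomp h h' hpair v
  have hv : v = v * (x ^ i)⁻¹ * z ^ j * (z ^ j)⁻¹ * x ^ i := by
    rw [mul_inv_cancel_right, inv_mul_cancel_right]
  rw [hv, map_mul _ (_ * _) (x ^ i), map_mul _ (_ * _) (x ^ i), map_mul _ (_ * _) (z ^ j)⁻¹,
    map_mul _ (_ * _) (z ^ j)⁻¹, map_inv, map_inv, map_pow, map_pow, map_pow, map_pow, hz, hx,
    hw _ f1 f2]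

omit hp in
/-- The square of `σ τ₁ σ` commutes with `σ`. -/
theorem IsPair.inv_elt_comm {τ₁ : MulAut A} {x : A} (h : IsTransv p σ z) (h' : IsTransv p τ₁ x)
    (hpair : IsPair σ τ₁ z x) : (σ * τ₁ * σ) ^ 2 * σ = σ * (σ * τ₁ * σ) ^ 2 := by
  obtain ⟨e1, e2, e3⟩ := hpair.inv_elt
  refine IsPair.aut_ext h h' hpair ?_ ?_ fun w f1 f2 => ?_
  · rw [MulAut.mul_apply, MulAut.mul_apply, h.fix, e1, map_inv, h.fix]
  · rw [MulAut.mul_apply, MulAut.mul_apply, hpair.sig_x, map_mul, e1, e2, map_inv, hpair.sig_x,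
      mul_inv_rev, mul_comm]
  · rw [MulAut.mul_apply, MulAut.mul_apply, f1, e3 w f1 f2, f1]

omit hp in
theorem IsTransv.apply_eq_mul_of_two (h : IsTransv 2 σ z) {y : A} (hy : σ y ≠ y) :
    σ y = y * z := by
  obtain ⟨i, hi⟩ := h.disp y
  rw [hi, pow_eq_pow_mod i h.pow_eq] at hy ⊢
  rcases Nat.mod_two_eq_zero_or_one i with h0 | h0 <;> rw [h0] at hy ⊢
  · simp at hy
  · rw [pow_one]

omit hp in
/-- For `p = 2` a third transvection is one of the two, or their conjugate. -/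
theorem IsTransv.third_two {τ' : MulAut A} {z'' : A} (hG : SmallSylow 2 G) (h : IsTransv 2 σ z)
    (h' : IsTransv 2 τ z') (h'' : IsTransv 2 τ' z'') (hσ : σ ∈ G) (hτ : τ ∈ G) (hτ' : τ' ∈ G)
    (hne : τ ∉ Subgroup.zpowers σ) (hne' : τ' ∉ Subgroup.zpowers σ) :
    τ' = τ ∨ (τ' = τ * σ * τ ∧ z'' = z * z') := by
  haveI : Fact (Nat.Prime 2) := ⟨Nat.prime_two⟩
  have hz : ∀ {ρ : MulAut A} {c : A}, IsTransv 2 ρ c → ∀ v ∈ Subgroup.zpowers ρ, v = 1 ∨ v = ρ := by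
    intro ρ c hρ v hv
    obtain ⟨n, rfl⟩ := Subgroup.mem_zpowers_iff.1 hv
    have e2 : ρ ^ (2 : ℤ) = 1 := by simpa using hρ.pow_eq_one
    rcases Int.even_or_odd' n with ⟨k, rfl | rfl⟩
    · exact Or.inl (by rw [zpow_mul, e2, one_zpow])
    · exact Or.inr (by rw [zpow_add, zpow_mul, e2, one_zpow, one_mul, zpow_one])
  have hsymm : ∀ {ρ : MulAut A} {c : A}, IsTransv 2 ρ c → ρ ∈ G → ρ ∉ Subgroup.zpowers σ →
      σ c = c * z ∧ ρ z = z * c := by
    intro ρ c hρ hρG hn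
    refine ⟨h.apply_eq_mul_of_two (IsTransv.moves hG h hρ hσ hρG hn),
      hρ.apply_eq_mul_of_two (IsTransv.moves hG hρ h hρG hσ fun hm => ?_)⟩
    rcases hz hρ _ hm with e | e
    · exact h.ne e
    · exact hn (e ▸ Subgroup.mem_zpowers σ)
  obtain ⟨a1, a2⟩ := hsymm h' hτ hne
  obtain ⟨b1, b2⟩ := hsymm h'' hτ' hne'
  by_cases hin : τ' ∈ Subgroup.zpowers τ
  · rcases hz h' _ hin with e | e
    · exact absurd e h''.ne
    · exact Or.inl e
  refine Or.inr ?_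
  have c1 : τ z'' = z'' * z' :=
    h'.apply_eq_mul_of_two (IsTransv.moves hG h' h'' hτ hτ' hin)
  have hin' : τ ∉ Subgroup.zpowers τ' := fun hm => by
    rcases hz h'' _ hm with e | e
    · exact h'.ne e
    · exact hin (e ▸ Subgroup.mem_zpowers τ)
  have c2 : τ' z' = z' * z'' :=
    h''.apply_eq_mul_of_two (IsTransv.moves hG h'' h' hτ' hτ hin')
  have sq : ∀ {ρ : MulAut A} {c : A}, IsTransv 2 ρ c → c * c = 1 := fun hρ => by
    rw [← pow_two]; exact hρ.pow_eq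
  have hτinv : τ⁻¹ = τ := inv_eq_of_mul_eq_one_left (by rw [← pow_two]; exact h'.pow_eq_one)
  have hu := h''.conj τ
  rw [hτinv] at hu
  have e1 : σ (τ z'') = τ z'' := by
    rw [c1, map_mul, b1, a1, mul_mul_mul_comm, sq h, mul_one]
  have e2 : (τ * τ' * τ) z = z := by
    show τ (τ' (τ z)) = z
    rw [a2, map_mul, b2, c2, show z * z'' * (z' * z'') = z * z' from by
      rw [mul_mul_mul_comm, sq h'', mul_one], map_mul, a2, h'.fix, mul_assoc, sq h', mul_one]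
  rcases hz h _ (hG σ hσ _ (G.mul_mem (G.mul_mem hτ hτ') hτ) h.pow_eq_one hu.pow_eq_one h.ne
      (h.commute hu e1 e2)) with e | e
  · exact absurd e hu.ne
  have hτeq : τ' = τ * σ * τ := by
    rw [← e]
    conv_lhs => rw [show τ' = τ * (τ⁻¹ * τ' * τ⁻¹) * τ by group]
    rw [hτinv]
  refine ⟨hτeq, ?_⟩
  have hc := h.conj τ
  rw [hτinv, ← hτeq] at hc
  have hm := h''.center_mem hc (Subgroup.mem_zpowers τ')
  obtain ⟨n, hn⟩ := Subgroup.mem_zpowers_iff.1 hm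
  have e3 : z'' ^ (2 : ℤ) = 1 := by simpa using h''.pow_eq
  rcases Int.even_or_odd' n with ⟨k, rfl | rfl⟩
  · exact absurd (by rw [← hn, zpow_mul, e3, one_zpow]) hc.ne_one
  · rw [zpow_add, zpow_mul, e3, one_zpow, one_mul, zpow_one] at hn
    rw [hn, a2]

end Cfsg.Agent.Fus
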