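import Cfsg.Agent.Lib.Fus.NormalCrit
import Cfsg.Agent.Lib.Fus.Transvection
import Cfsg.Agent.Lib.Grp.Frattini

/-!
Saturated systems over a group whose centre has index `p ^ 2`: the essential subgroups.
-/

set_option autoImplicit false
set_option linter.style.haveILetI false
set_option linter.unusedSectionVars false
set_option linter.deprecated false
set_option linter.unusedSimpArgs false

open scoped Classical commutatorElement

namespace Cfsg.Agent.Fus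

open Subgroup FusionSystem

universe u

/-- The structure of a non-abelian group with centre of index at most `p ^ 2`. -/
theorem centerIndexSq_facts {H : Type u} [Group H] [Finite H] {p : ℕ} [Fact p.Prime]
    (hH : IsPGroup p H) (hna : ¬ ∀ a b : H, a * b = b * a)
    (hZ : (Subgroup.center H).index ≤ p ^ 2) :
    (Subgroup.center H).index = p ^ 2 ∧ ∃ z a b : H, z ∈ Subgroup.center H ∧ z ≠ 1 ∧ z ^ p = 1 ∧
      a * b * a⁻¹ = b * z ∧ (∀ x y, ∃ k : ℕ, x * y * x⁻¹ = y * z ^ k) ∧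
      (∀ x, x ^ p ∈ Subgroup.center H) ∧
      ∀ x, x ∉ Subgroup.center H → ∀ t, x * t = t * x →
        ∃ i : ℕ, t * (x ^ i)⁻¹ ∈ Subgroup.center H := by
  have hp : p.Prime := Fact.out
  set Z := Subgroup.center H with hZdef
  have hncyc : ¬ IsCyclic (H ⧸ Z) := fun h => hna fun a b =>
    commutative_of_cyclic_center_quotient (QuotientGroup.mk' Z) (by simp [hZdef]) a b
  obtain ⟨k, hk⟩ := IsPGroup.iff_card.1 (hH.to_quotient Z)
  have hcard : Nat.card (H ⧸ Z) = p ^ 2 := by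
    have h2 : k ≤ 2 := (Nat.pow_le_pow_iff_right hp.one_lt).1 (hk ▸ hZ)
    rcases Nat.lt_or_ge k 2 with h | h
    · exfalso
      interval_cases k
      · haveI : Subsingleton (H ⧸ Z) :=
          (Nat.card_eq_one_iff_unique.1 (by rw [hk, pow_zero])).1
        exact hncyc inferInstance
      · exact hncyc (isCyclic_of_prime_card (p := p) (by rw [hk, pow_one]))
    · rw [hk, le_antisymm h2 h]
  have hQc : ∀ a b : H ⧸ Z, a * b = b * a :=
    fun a b => IsPGroup.commutative_of_card_eq_prime_sq hcard a b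
  have hexp : ∀ q : H ⧸ Z, q ^ p = 1 := fun q => by
    obtain ⟨j, hj, hord⟩ := (Nat.dvd_prime_pow hp).1 (hcard ▸ orderOf_dvd_natCard q)
    have hj1 : j ≤ 1 := by
      by_contra h
      refine hncyc (isCyclic_of_orderOf_eq_card q ?_)
      rw [hord, show j = 2 by omega, hcard]
    refine orderOf_dvd_iff_pow_eq_one.1 (hord ▸ ?_)
    exact (pow_dvd_pow p hj1).trans (by rw [pow_one])
  have hpow : ∀ x : H, x ^ p ∈ Z := fun x => by
    rw [← QuotientGroup.eq_one_iff, QuotientGroup.mk_pow, hexp]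
  have hcomm : ∀ x y : H, ⁅x, y⁆ ∈ Z := fun x y => by
    rw [← QuotientGroup.eq_one_iff]
    show QuotientGroup.mk' Z ⁅x, y⁆ = 1
    rw [map_commutatorElement, commutatorElement_eq_one_iff_mul_comm]
    exact hQc _ _
  obtain ⟨a, ha⟩ : ∃ a : H, a ∉ Z := by
    by_contra h
    push Not at h
    exact hna fun x y => (Subgroup.mem_center_iff.1 (h x) y).symm
  -- an element outside the centre generates a maximal subgroup with it
  have hmax : ∀ x : H, x ∉ Z → (Z ⊔ Subgroup.zpowers x).index = p := fun x hx => by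
    have h1 : Nat.card (Subgroup.zpowers (QuotientGroup.mk' Z x)) = p := by
      rw [Nat.card_zpowers]
      exact orderOf_eq_prime (hexp _) fun e => hx ((QuotientGroup.eq_one_iff x).1 e)
    have h2 : (Subgroup.zpowers (QuotientGroup.mk' Z x)).comap (QuotientGroup.mk' Z) =
        Z ⊔ Subgroup.zpowers x := by
      rw [← MonoidHom.map_zpowers, Subgroup.comap_map_eq, QuotientGroup.ker_mk', sup_comm]
    rw [← h2, Subgroup.index_comap_of_surjective _ (QuotientGroup.mk'_surjective Z)]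
    have h3 := (Subgroup.zpowers (QuotientGroup.mk' Z x)).card_mul_index
    rw [h1, hcard, pow_two] at h3
    exact Nat.eq_of_mul_eq_mul_left hp.pos h3
  have htop : ∀ x : H, x ∉ Z → ∀ M : Subgroup H, Z ≤ M → x ∈ M →
      M = Z ⊔ Subgroup.zpowers x ∨ M = ⊤ := fun x hx M hZM hxM => by
    have hle : Z ⊔ Subgroup.zpowers x ≤ M := sup_le hZM (Subgroup.zpowers_le.2 hxM)
    have hd := Subgroup.relIndex_mul_index hle
    rw [hmax x hx] at hd
    rcases hp.eq_one_or_self_of_dvd _ (hd ▸ dvd_mul_right _ M.index) with h | h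
    · exact Or.inl (le_antisymm (Subgroup.relIndex_eq_one.1 h) hle)
    · rw [h] at hd
      exact Or.inr (Subgroup.index_eq_one.1 (Nat.eq_of_mul_eq_mul_left hp.pos
        (hd.trans (mul_one p).symm)))
  obtain ⟨b, hb⟩ : ∃ b : H, b ∉ Z ⊔ Subgroup.zpowers a := by
    by_contra h
    push Not at h
    exact hp.one_lt.ne' ((hmax a ha).symm.trans
      (Subgroup.index_eq_one.2 (eq_top_iff.2 fun y _ => h y)))
  have hgen : ∀ M : Subgroup H, Z ≤ M → a ∈ M → b ∈ M → M = ⊤ := fun M h1 h2 h3 =>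
    (htop a ha M h1 h2).resolve_left fun e => hb (e ▸ h3)
  have hcentral : ∀ x : H, x ∉ Z → ∀ t, x * t = t * x → ∃ i : ℕ, t * (x ^ i)⁻¹ ∈ Z := by
    intro x hx t ht
    have hC : Subgroup.centralizer ({x} : Set H) = Z ⊔ Subgroup.zpowers x := by
      refine (htop x hx _ ?_ ?_).resolve_right fun e => hx ?_
      · exact Subgroup.center_le_centralizer _
      · exact Subgroup.mem_centralizer_singleton_iff.2 rfl
      · refine Subgroup.mem_center_iff.2 fun g => ?_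
        have : g ∈ Subgroup.centralizer ({x} : Set H) := e ▸ Subgroup.mem_top g
        exact Subgroup.mem_centralizer_singleton_iff.1 this
    have htm : t ∈ Z ⊔ Subgroup.zpowers x := hC ▸ Subgroup.mem_centralizer_singleton_iff.2 ht.symm
    obtain ⟨c, hc, u, hu, rfl⟩ := Subgroup.mem_sup_of_normal_left.1 htm
    obtain ⟨i, rfl⟩ := (Submonoid.mem_powers_iff _ _).1
      ((isOfFinOrder_of_finite x).mem_powers_iff_mem_zpowers.2 hu)
    exact ⟨i, by simpa using hc⟩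
  set z := ⁅a, b⁆ with hz
  have hzc : z ∈ Z := hcomm a b
  have hab : a * b * a⁻¹ = b * z := by
    rw [Subgroup.mem_center_iff.1 hzc b, hz, commutatorElement_def]
    group
  have hz1 : z ≠ 1 := fun e => by
    rw [e, mul_one] at hab
    obtain ⟨i, hi⟩ := hcentral a ha b (by
      conv_rhs => rw [← hab, inv_mul_cancel_right])
    exact hb (by
      rw [← inv_mul_cancel_right b (a ^ i)]
      exact mul_mem (Subgroup.mem_sup_left hi)
        (Subgroup.mem_sup_right (Subgroup.pow_mem _ (Subgroup.mem_zpowers a) i)))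
  -- the commutator with a fixed element is a homomorphism
  let c : H → (H →* H) := fun x => MonoidHom.mk' (fun y => ⁅x, y⁆) fun y y' => by
    show ⁅x, y * y'⁆ = ⁅x, y⁆ * ⁅x, y'⁆
    have := Subgroup.mem_center_iff.1 (hcomm x y') y
    calc ⁅x, y * y'⁆ = ⁅x, y⁆ * (y * ⁅x, y'⁆ * y⁻¹) := by
          rw [commutatorElement_def, commutatorElement_def, commutatorElement_def]; group
      _ = ⁅x, y⁆ * ⁅x, y'⁆ := by rw [this, mul_inv_cancel_right]
  have hzp : z ^ p = 1 := by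
    rw [hz, show ⁅a, b⁆ = c a b from rfl, ← map_pow]
    show ⁅a, b ^ p⁆ = 1
    rw [commutatorElement_eq_one_iff_mul_comm]
    exact Subgroup.mem_center_iff.1 (hpow b) a
  have hsymm : ∀ x y, ⁅x, y⁆ ∈ Subgroup.zpowers z → ⁅y, x⁆ ∈ Subgroup.zpowers z := fun x y h => by
    rw [← commutatorElement_inv]
    exact inv_mem h
  have hZker : ∀ x, ∀ y ∈ Z, ⁅x, y⁆ ∈ Subgroup.zpowers z := fun x y hy => by
    rw [commutatorElement_eq_one_iff_mul_comm.2 (Subgroup.mem_center_iff.1 hy x)]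
    exact Subgroup.one_mem _
  have hall : ∀ x, ⁅x, a⁆ ∈ Subgroup.zpowers z → ⁅x, b⁆ ∈ Subgroup.zpowers z →
      ∀ y, ⁅x, y⁆ ∈ Subgroup.zpowers z := fun x h1 h2 y => by
    have := hgen ((Subgroup.zpowers z).comap (c x)) (fun w hw => hZker x w hw) h1 h2
    exact (this.symm ▸ Subgroup.mem_top y : y ∈ (Subgroup.zpowers z).comap (c x))
  have hA := hall a (by simp [commutatorElement_def]) (Subgroup.mem_zpowers z)
  have hB := hall b (hsymm a b (Subgroup.mem_zpowers z)) (by simp [commutatorElement_def])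
  refine ⟨hcard, z, a, b, hzc, hz1, hzp, hab, fun x y => ?_, hpow, hcentral⟩
  have hxy : ⁅x, y⁆ ∈ Subgroup.zpowers z := hall x (hsymm _ _ (hA x)) (hsymm _ _ (hB x)) y
  obtain ⟨n, hn⟩ := (Submonoid.mem_powers_iff _ _).1
    ((isOfFinOrder_of_finite z).mem_powers_iff_mem_zpowers.2 hxy)
  refine ⟨n, ?_⟩
  rw [hn, Subgroup.mem_center_iff.1 (hcomm x y) y, commutatorElement_def]
  group

variable {Ω : Type u} [Group Ω] {S : Subgroup Ω} {F : FusionSystem S} {p : ℕ}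

/-- The centre of `S` in the ambient group. -/
def zS (S : Subgroup Ω) : Subgroup Ω := S ⊓ Subgroup.centralizer (S : Set Ω)

theorem mem_zS {x : Ω} : x ∈ zS S ↔ x ∈ S ∧ ∀ y ∈ S, y * x = x * y :=
  ⟨fun h => ⟨h.1, fun y hy => Subgroup.mem_centralizer_iff.1 h.2 y hy⟩,
    fun h => ⟨h.1, Subgroup.mem_centralizer_iff.2 h.2⟩⟩

theorem zS_le (S : Subgroup Ω) : zS S ≤ S := inf_le_left

theorem zS_subgroupOf : (zS S).subgroupOf S = Subgroup.center S := by
  ext x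
  rw [Subgroup.mem_subgroupOf, mem_zS, Subgroup.mem_center_iff]
  exact ⟨fun h g => Subtype.ext (h.2 g g.2), fun h => ⟨x.2, fun y hy =>
    congrArg Subtype.val (h ⟨y, hy⟩)⟩⟩

/-- What is used of `S`. -/
structure Frame (S : Subgroup Ω) (p : ℕ) (z : Ω) : Prop where
  memZ : z ∈ zS S
  ne_one : z ≠ 1
  pow_eq : z ^ p = 1
  conj : ∀ x ∈ S, ∀ y ∈ S, ∃ k : ℕ, x * y * x⁻¹ = y * z ^ k
  powZ : ∀ x ∈ S, x ^ p ∈ zS S
  cent : ∀ x ∈ S, x ∉ zS S → ∀ t ∈ S, x * t = t * x → ∃ i : ℕ, t * (x ^ i)⁻¹ ∈ zS S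
  isComm : ∃ a ∈ S, ∃ b ∈ S, a * b * a⁻¹ = b * z
  card_eq : Nat.card S = Nat.card (zS S) * p ^ 2

theorem exists_frame [Finite S] [Fact p.Prime] (hS : IsPGroup p S)
    (hna : ¬ ∀ x ∈ S, ∀ y ∈ S, x * y = y * x) (hZ : (Subgroup.center ↥S).index ≤ p ^ 2) :
    ∃ z, Frame S p z := by
  obtain ⟨hidx, z, a, b, hz, hz1, hzp, hab, hconj, hpow, hcent⟩ := centerIndexSq_facts hS
    (fun h => hna fun x hx y hy => congrArg Subtype.val (h ⟨x, hx⟩ ⟨y, hy⟩)) hZ
  have hc : ∀ x : S, x ∈ Subgroup.center S ↔ (x : Ω) ∈ zS S := fun x => by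
    rw [← zS_subgroupOf, Subgroup.mem_subgroupOf]
  refine ⟨z, (hc z).1 hz, fun e => hz1 (Subtype.ext e), ?_, fun x hx y hy => ?_, fun x hx => ?_,
    fun x hx hxZ t ht e => ?_, ⟨a, a.2, b, b.2, congrArg Subtype.val hab⟩, ?_⟩
  · simpa using congrArg Subtype.val hzp
  · obtain ⟨k, hk⟩ := hconj ⟨x, hx⟩ ⟨y, hy⟩
    exact ⟨k, by simpa using congrArg Subtype.val hk⟩
  · simpa using (hc _).1 (hpow ⟨x, hx⟩)
  · obtain ⟨i, hi⟩ := hcent ⟨x, hx⟩ (fun h => hxZ ((hc ⟨x, hx⟩).1 h)) ⟨t, ht⟩ (Subtype.ext e)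
    exact ⟨i, by simpa using (hc _).1 hi⟩
  · rw [← (Subgroup.center S).card_mul_index, hidx, ← zS_subgroupOf,
      Nat.card_congr (Subgroup.subgroupOfEquivOfLe (zS_le S)).toEquiv]

/-- The elements of `P` that all automorphisms keep in the centre of `S`. -/
def wSubP (F : FusionSystem S) (P : Subgroup Ω) : Subgroup Ω where
  carrier := {y | y ∈ P ∧ ∀ β ∈ F.autGroup P, autFun β y ∈ zS S}
  one_mem' := ⟨P.one_mem, fun β _ => by
    rw [show (1 : Ω) = ((1 : P) : Ω) from rfl, autFun_coe, map_one]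
    exact (zS S).one_mem⟩
  mul_mem' := fun {x y} hx hy => ⟨P.mul_mem hx.1 hy.1, fun β hβ => by
    rw [show x * y = (((⟨x, hx.1⟩ : P) * ⟨y, hy.1⟩ : P) : Ω) from rfl, autFun_coe, map_mul,
      Subgroup.coe_mul, ← autFun_coe, ← autFun_coe]
    exact (zS S).mul_mem (hx.2 β hβ) (hy.2 β hβ)⟩
  inv_mem' := fun {x} hx => ⟨P.inv_mem hx.1, fun β hβ => by
    rw [show x⁻¹ = (((⟨x, hx.1⟩ : P)⁻¹ : P) : Ω) from rfl, autFun_coe, map_inv, Subgroup.coe_inv,
      ← autFun_coe]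
    exact (zS S).inv_mem (hx.2 β hβ)⟩

theorem autFun_mem_wSubP {P : Subgroup Ω} {α : MulAut P} (hα : α ∈ F.autGroup P) {y : Ω}
    (hy : y ∈ wSubP F P) : autFun α y ∈ wSubP F P :=
  ⟨autFun_mem α hy.1, fun β hβ => by
    rw [← autFun_mul β α hy.1]
    exact hy.2 _ (mul_mem hβ hα)⟩

theorem wSubP_le (F : FusionSystem S) (P : Subgroup Ω) : wSubP F P ≤ zS S := fun y hy => by
  have := hy.2 1 (one_mem _)
  rwa [autFun_one hy.1] at this

/-- What is used of an essential subgroup. -/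
structure EssFacts (F : FusionSystem S) (p : ℕ) (z : Ω) (P : Subgroup Ω) (x s : Ω) : Prop where
  le : P ≤ S
  zS_le : zS S ≤ P
  s_mem : s ∈ S
  s_not : s ∉ P
  x_mem : x ∈ P
  x_not : x ∉ zS S
  x_pow : x ^ p = 1
  gen : ∀ y ∈ P, ∃ i : ℕ, y * (x ^ i)⁻¹ ∈ zS S
  z_not : z ∉ wSubP F P
  dec : ∀ y ∈ zS S, ∃ j : ℕ, y * z ^ j ∈ wSubP F P
  odd : p ≠ 2 → ∃ δ ∈ F.autGroup S, autFun δ z = z⁻¹ ∧ ∀ w ∈ wSubP F P, autFun δ w = w
  two : p = 2 → ∀ α ∈ F.autGroup P, ∃ μ ∈ F.autGroup P, ∃ δ ∈ F.autGroup S,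
    (∀ y ∈ P, autFun δ y ∈ P ∧ autFun α y = autFun μ (autFun δ y)) ∧
    (∀ y ∈ P, ∃ i j : ℕ, autFun μ y = y * (z ^ i * x ^ j)) ∧
    ∀ w ∈ wSubP F P, autFun μ w = w

variable [Finite S] [hp : Fact p.Prime] {z : Ω}

/-- An automorphism of `S` acting on the centre modulo `⟨z⟩` trivially and fixing `z` fixes it. -/
theorem Frame.fix_center (hfr : Frame S p z) (hS : IsPGroup p S) (hF : F.IsSaturated p)
    {δ : MulAut S} (hδ : δ ∈ F.autGroup S) (hz : autFun δ z = z) {y : Ω} (hy : y ∈ zS S) {i : ℕ}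
    (hi : autFun δ y = y * z ^ i) : autFun δ y = y := by
  obtain ⟨-, R, hR⟩ := fullyAutomized_of_fullyNormalized hS hF (fullyNormalized_self F)
  haveI : ((autInducedBy S S).subgroupOf (F.autGroup S)).Normal := by
    rw [← inn_eq_autInducedBy]
    exact inn_subgroupOf_normal F S
  set I := (autInducedBy S S).subgroupOf (F.autGroup S) with hI
  have hm : ¬ p ∣ I.index := by
    rw [← hR]
    exact R.not_dvd_index
  have hmem : (⟨δ, hδ⟩ : F.autGroup S) ^ I.index ∈ I := Subgroup.pow_index_mem _ _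
  rw [Subgroup.mem_subgroupOf] at hmem
  obtain ⟨g, hg, hge⟩ := mem_autInducedBy.1 hmem
  have hpow : ∀ n : ℕ, ((δ ^ n) ⟨y, hy.1⟩ : Ω) = y * (z ^ i) ^ n := by
    intro n
    induction n with
    | zero => simp
    | succ n ih =>
      rw [pow_succ', MulAut.mul_apply, ← autFun_coe δ, ih]
      have hyS : y ∈ S := hy.1
      have hzS : (z ^ i) ^ n ∈ S := S.pow_mem (S.pow_mem hfr.memZ.1 i) n
      have hδz : δ ⟨z, hfr.memZ.1⟩ = ⟨z, hfr.memZ.1⟩ :=
        Subtype.ext ((autFun_coe δ ⟨z, hfr.memZ.1⟩).symm.trans hz)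
      have hδy : δ ⟨y, hyS⟩ = ⟨y * z ^ i, S.mul_mem hyS (S.pow_mem hfr.memZ.1 i)⟩ :=
        Subtype.ext ((autFun_coe δ ⟨y, hyS⟩).symm.trans hi)
      rw [show y * (z ^ i) ^ n = (((⟨y, hyS⟩ : S) * ((⟨z, hfr.memZ.1⟩ : S) ^ i) ^ n : S) : Ω) by
        simp, autFun_coe, map_mul, map_pow, map_pow, hδz, hδy]
      simp [pow_succ', mul_assoc]
  have h1 := hge ⟨y, hy.1⟩
  rw [show (((⟨δ, hδ⟩ : F.autGroup S) ^ I.index : F.autGroup S) : MulAut S) = δ ^ I.index from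
    SubmonoidClass.coe_pow _ _] at h1
  rw [hpow, (mem_zS.1 hy).2 g hg, mul_inv_cancel_right, mul_eq_left] at h1
  have hzi : z ^ i = 1 := by
    rw [← orderOf_eq_one_iff]
    refine Nat.eq_one_of_dvd_coprimes ((hp.out.coprime_iff_not_dvd.2 hm)) ?_
      (orderOf_dvd_of_pow_eq_one h1)
    exact orderOf_dvd_of_pow_eq_one (by rw [← pow_mul, mul_comm, pow_mul, hfr.pow_eq, one_pow])
  rw [hi, hzi, mul_one]

omit [Finite S] in
theorem Frame.exists_pow_inv (hfr : Frame S p z) (i : ℕ) : ∃ j : ℕ, z ^ j = (z ^ i)⁻¹ :=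
  ⟨(p - 1) * i, eq_inv_of_mul_eq_one_left (by
    rw [← pow_add, ← add_one_mul, Nat.sub_add_cancel hp.out.one_le, pow_mul, hfr.pow_eq, one_pow])⟩

theorem exists_essFacts (hfr : Frame S p z) (hS : IsPGroup p S) (hF : F.IsSaturated p)
    {P : Subgroup Ω} (hP : F.IsEssential p P) : ∃ x s, EssFacts F p z P x s := by
  have hPS := hP.1.1
  haveI := finite_of_le hPS
  have hPlt : P < S := by
    refine lt_of_le_of_ne hPS fun e => ?_
    obtain ⟨-, hn, hnI, E, hsp, hEtop, -⟩ := hP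
    subst e
    obtain ⟨-, R, hR⟩ := fullyAutomized_of_fullyNormalized hS hF hn
    rw [← inn_eq_autInducedBy] at hR
    haveI := hnI
    have hdvd : p ∣ Nat.card (F.autGroup P ⧸ (Inn ↥P).subgroupOf (F.autGroup P)) := hsp
    exact R.not_dvd_index (hR ▸ hdvd)
  have hZP : zS S ≤ P := fun c hc =>
    centralizerIn_le_of_centric hP.1 (mem_centralizerIn.2 ⟨hc.1, fun y hy => (mem_zS.1 hc).2 y (hPS hy)⟩)
  obtain ⟨x₀, hx₀, hx₀Z⟩ : ∃ x₀ ∈ P, x₀ ∉ zS S := by
    by_contra h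
    push Not at h
    exact hPlt.not_ge fun t ht => centralizerIn_le_of_centric hP.1
      (mem_centralizerIn.2 ⟨ht, fun y hy => ((mem_zS.1 (h y hy)).2 t ht).symm⟩)
  -- powers of `x₀` and the centre exhaust `P`
  have hgen0 : ∀ t ∈ P, ∃ i : ℕ, t * (x₀ ^ i)⁻¹ ∈ zS S := by
    intro t ht
    by_contra hcon
    obtain ⟨k, hk⟩ := hfr.conj t (hPS ht) x₀ (hPS hx₀)
    have hkne : z ^ k ≠ 1 := fun e => hcon (hfr.cent x₀ (hPS hx₀) hx₀Z t (hPS ht) (by
      rw [e, mul_one] at hk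
      conv_lhs => rw [← hk, inv_mul_cancel_right]))
    refine hPlt.not_ge fun u hu => ?_
    obtain ⟨l, hl⟩ := hfr.conj u hu x₀ (hPS hx₀)
    obtain ⟨n, hn⟩ : ∃ n : ℕ, (z ^ k) ^ n = (z ^ l)⁻¹ := by
      have hord : orderOf (z ^ k) = p :=
        orderOf_eq_prime (by rw [← pow_mul, mul_comm, pow_mul, hfr.pow_eq, one_pow]) hkne
      have hz' : orderOf z = p := orderOf_eq_prime hfr.pow_eq hfr.ne_one
      obtain ⟨m, hm⟩ := exists_pow_eq_self_of_coprime (x := z) (n := k) (by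
        rw [hz']
        exact ((hp.out.coprime_iff_not_dvd).2 fun ⟨c, hc⟩ => hkne (by
          rw [hc, pow_mul, hfr.pow_eq, one_pow])).symm)
      obtain ⟨j, hj⟩ := hfr.exists_pow_inv l
      exact ⟨m * j, by rw [pow_mul, hm, hj]⟩
    have hpk : ∀ n : ℕ, t ^ n * x₀ * (t ^ n)⁻¹ = x₀ * (z ^ k) ^ n := by
      intro n
      induction n with
      | zero => simp
      | succ n ih =>
        calc t ^ (n + 1) * x₀ * (t ^ (n + 1))⁻¹ = t * (t ^ n * x₀ * (t ^ n)⁻¹) * t⁻¹ := by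
              rw [pow_succ']; group
          _ = (t * x₀ * t⁻¹) * (t * (z ^ k) ^ n * t⁻¹) := by rw [ih]; group
          _ = x₀ * (z ^ k) ^ (n + 1) := by
              rw [hk, (mem_zS.1 ((zS S).pow_mem ((zS S).pow_mem hfr.memZ k) n)).2 t (hPS ht),
                mul_inv_cancel_right, pow_succ', mul_assoc]
    set v := u * t ^ n with hv
    have hvS : v ∈ S := S.mul_mem hu (S.pow_mem (hPS ht) n)
    have hvc : x₀ * v = v * x₀ := by
      have e : v * x₀ * v⁻¹ = x₀ := by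
        calc v * x₀ * v⁻¹ = u * (t ^ n * x₀ * (t ^ n)⁻¹) * u⁻¹ := by rw [hv]; group
          _ = (u * x₀ * u⁻¹) * (u * (z ^ k) ^ n * u⁻¹) := by rw [hpk]; group
          _ = x₀ := by
            rw [hl, (mem_zS.1 ((zS S).pow_mem ((zS S).pow_mem hfr.memZ k) n)).2 u hu,
              mul_inv_cancel_right, hn, mul_inv_cancel_right]
      conv_lhs => rw [← e, inv_mul_cancel_right]
    obtain ⟨i, hi⟩ := hfr.cent x₀ (hPS hx₀) hx₀Z v hvS hvc
    have hvP : v ∈ P := by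
      rw [← inv_mul_cancel_right v (x₀ ^ i)]
      exact P.mul_mem (hZP hi) (P.pow_mem hx₀ i)
    rw [← mul_inv_cancel_right u (t ^ n)]
    exact P.mul_mem hvP (P.inv_mem (P.pow_mem ht n))
  have hab : ∀ t ∈ P, ∀ u ∈ P, t * u = u * t := by
    intro t ht u hu
    obtain ⟨i, hi⟩ := hgen0 t ht
    obtain ⟨j, hj⟩ := hgen0 u hu
    set c := t * (x₀ ^ i)⁻¹ with hc
    set d := u * (x₀ ^ j)⁻¹ with hd
    rw [show t = c * x₀ ^ i by rw [hc, inv_mul_cancel_right],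
      show u = d * x₀ ^ j by rw [hd, inv_mul_cancel_right]]
    have h1 := (mem_zS.1 hi).2 (d * x₀ ^ j) (S.mul_mem hj.1 (S.pow_mem (hPS hx₀) j))
    have h2 := (mem_zS.1 hj).2 (x₀ ^ i) (S.pow_mem (hPS hx₀) i)
    calc c * x₀ ^ i * (d * x₀ ^ j) = c * (x₀ ^ i * d) * x₀ ^ j := by group
      _ = c * d * (x₀ ^ i * x₀ ^ j) := by rw [h2]; group
      _ = c * (d * x₀ ^ j) * x₀ ^ i := by rw [← pow_add, add_comm, pow_add]; group
      _ = d * x₀ ^ j * (c * x₀ ^ i) := by rw [← h1]; group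
  obtain ⟨s, hs, hsP⟩ := SetLike.exists_of_lt hPlt
  have hnorm : ∀ g ∈ S, g ∈ Subgroup.normalizer (P : Set Ω) := fun g hg => by
    refine mem_normalizer_of_forall (fun y hy => ?_) (fun y hy => ?_)
    · obtain ⟨k, hk⟩ := hfr.conj g hg y (hPS hy)
      rw [hk]
      exact P.mul_mem hy (hZP ((zS S).pow_mem hfr.memZ k))
    · obtain ⟨k, hk⟩ := hfr.conj g⁻¹ (S.inv_mem hg) y (hPS hy)
      rw [inv_inv] at hk
      rw [hk]
      exact P.mul_mem hy (hZP ((zS S).pow_mem hfr.memZ k))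
  letI : CommGroup P := { (inferInstance : Group P) with
    mul_comm := fun a b => Subtype.ext (hab a a.2 b b.2) }
  set G := F.autGroup P with hG
  let cj : ↥S → MulAut P := fun g => P.normalizerMonoidHom ⟨g, hnorm g g.2⟩
  have hcj : ∀ (g : S) (y : P), ((cj g y : P) : Ω) = (g : Ω) * y * (g : Ω)⁻¹ := fun g y => rfl
  let zP : P := ⟨z, hZP hfr.memZ⟩
  set σ : MulAut P := cj ⟨s, hs⟩ with hσ
  have hZfix : ∀ y : P, (y : Ω) ∈ zS S → σ y = y := fun y hy => Subtype.ext (by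
    rw [hcj, (mem_zS.1 hy).2 s hs, mul_inv_cancel_right])
  have hfix : ∀ y : P, σ y = y → (y : Ω) ∈ zS S := by
    intro y hy
    by_contra hyZ
    have e : s * (y : Ω) * s⁻¹ = y := (hcj ⟨s, hs⟩ y).symm.trans (congrArg Subtype.val hy)
    obtain ⟨i, hi⟩ := hfr.cent y (hPS y.2) hyZ s hs (by
      conv_lhs => rw [← e, inv_mul_cancel_right])
    refine hsP ?_
    rw [← inv_mul_cancel_right s ((y : Ω) ^ i)]
    exact P.mul_mem (hZP hi) (P.pow_mem y.2 i)
  have hσt : IsTransv p σ zP := by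
    refine ⟨fun e => hfr.ne_one (congrArg Subtype.val e), Subtype.ext hfr.pow_eq,
      hZfix _ hfr.memZ, fun y => ?_, ⟨⟨x₀, hx₀⟩, fun e => hx₀Z (hfix _ e)⟩⟩
    obtain ⟨k, hk⟩ := hfr.conj s hs y (hPS y.2)
    exact ⟨k, Subtype.ext ((hcj _ y).trans hk)⟩
  have hσA : σ ∈ autInducedBy S P := mem_autInducedBy.2 ⟨s, hs, fun y => rfl⟩
  have hσG : σ ∈ G := autInducedBy_le_autGroup F hPS hσA
  have hAS : autInducedBy S P = Subgroup.zpowers σ := by
    refine le_antisymm (fun a ha => ?_) (Subgroup.zpowers_le.2 hσA)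
    obtain ⟨g, hg, hga⟩ := mem_autInducedBy.1 ha
    obtain ⟨k, hk⟩ := hfr.conj g hg x₀ (hPS hx₀)
    obtain ⟨l, hl⟩ := hσt.disp ⟨x₀, hx₀⟩
    obtain ⟨m, hm⟩ := hσt.exists_pow (i := l) fun e => hx₀Z (hfix ⟨x₀, hx₀⟩ (by rw [hl, e, mul_one]))
    have heq : a = σ ^ (m * k) := by
      refine MulEquiv.ext fun y => ?_
      obtain ⟨i, hi⟩ := hgen0 y y.2
      set c : P := ⟨(y : Ω) * (x₀ ^ i)⁻¹, hZP hi⟩ with hc
      have hy : y = c * ⟨x₀, hx₀⟩ ^ i := Subtype.ext (by simp [hc])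
      have h1 : a c = c := Subtype.ext (by
        rw [hga, (mem_zS.1 hi).2 g hg, mul_inv_cancel_right])
      have h2 : a ⟨x₀, hx₀⟩ = ⟨x₀, hx₀⟩ * zP ^ k := Subtype.ext (by rw [hga]; exact hk)
      have h3 : (σ ^ (m * k)) c = c := by
        rw [hσt.pow_apply (i := 0) (by rw [pow_zero, mul_one, hZfix c hi])]
        simp
      have h4 : (σ ^ (m * k)) ⟨x₀, hx₀⟩ = ⟨x₀, hx₀⟩ * zP ^ k := by
        rw [hσt.pow_apply hl, pow_mul, hm]
      rw [hy, map_mul, map_pow, h1, h2, map_mul, map_pow, h3, h4]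
    rw [heq]
    exact Subgroup.pow_mem _ (Subgroup.mem_zpowers σ) _
  obtain ⟨-, R, hR⟩ := fullyAutomized_of_fullyNormalized hS hF hP.2.1
  have hordσ : orderOf σ = p := orderOf_eq_prime hσt.pow_eq_one hσt.ne
  have hcardR : Nat.card R = p := by
    rw [hR, Nat.card_congr (Subgroup.subgroupOfEquivOfLe (autInducedBy_le_autGroup F hPS)).toEquiv,
      hAS, Nat.card_zpowers, hordσ]
  have hsmall : SmallSylow p G := by
    intro a ha b hb ha1 hb1 hne hcomm
    have hpa : IsPGroup p (Subgroup.zpowers a) :=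
      IsPGroup.of_card (n := 1) (by rw [Nat.card_zpowers, orderOf_eq_prime ha1 hne, pow_one])
    have hpb : IsPGroup p (Subgroup.zpowers b) := by
      obtain ⟨j, -, hj⟩ := (Nat.dvd_prime_pow hp.out).1 (orderOf_dvd_of_pow_eq_one
        (show b ^ p ^ 1 = 1 by rw [pow_one, hb1]))
      exact IsPGroup.of_card (n := j) (by rw [Nat.card_zpowers, hj])
    have hle : Subgroup.zpowers b ≤ Subgroup.normalizer (Subgroup.zpowers a : Set (MulAut P)) := by
      refine le_trans ?_ (Subgroup.centralizer_le_normalizer _)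
      rw [Subgroup.zpowers_le, Subgroup.mem_centralizer_iff]
      rintro _ ⟨n, rfl⟩
      exact ((show Commute a b from hcomm).zpow_left n).eq
    set K := Subgroup.zpowers b ⊔ Subgroup.zpowers a with hK
    have hKp : IsPGroup p K := IsPGroup.to_sup_of_normal_right' hpb hpa hle
    have hKG : K ≤ G := sup_le (Subgroup.zpowers_le.2 hb) (Subgroup.zpowers_le.2 ha)
    obtain ⟨Q, hQ⟩ := (hKp.comap_of_injective G.subtype G.subtype_injective).exists_le_sylow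
    have hc : Nat.card K ≤ p := by
      rw [← Nat.card_congr (Subgroup.subgroupOfEquivOfLe hKG).toEquiv]
      refine (Subgroup.card_le_of_le hQ).trans ?_
      rw [Nat.card_congr (Sylow.equiv Q R).toEquiv, hcardR]
    have e : Subgroup.zpowers a = K := Subgroup.eq_of_le_of_card_ge le_sup_right (by
      rw [Nat.card_zpowers, orderOf_eq_prime ha1 hne]; exact hc)
    exact e ▸ Subgroup.mem_sup_left (Subgroup.mem_zpowers b)
  -- some conjugate of `σ` is not a power of it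
  obtain ⟨α, hαG, hα⟩ : ∃ α ∈ G, α * σ * α⁻¹ ∉ Subgroup.zpowers σ := by
    by_contra hcon
    push Not at hcon
    have hn : ((Subgroup.zpowers σ).subgroupOf G).Normal := by
      refine ⟨fun c hc g => ?_⟩
      rw [Subgroup.mem_subgroupOf] at hc ⊢
      obtain ⟨n, hn⟩ := Subgroup.mem_zpowers_iff.1 hc
      rw [Subgroup.coe_mul, Subgroup.coe_mul, Subgroup.coe_inv, ← hn, ← conj_zpow]
      exact Subgroup.zpow_mem _ (hcon _ g.2) n
    have hpg : IsPGroup p ((Subgroup.zpowers σ).subgroupOf G) := by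
      rw [← hAS, ← hR]
      exact R.2
    obtain ⟨-, hrad⟩ := radical_of_essential hS hP
    have hσI : σ ∈ Inn P := hrad ▸ ⟨⟨σ, hσG⟩, Grp.le_pCore hn hpg (Subgroup.mem_zpowers σ), rfl⟩
    obtain ⟨u, hu⟩ := hσI
    refine hσt.ne ?_
    rw [← hu]
    exact MulEquiv.ext fun y => by
      show u * y * u⁻¹ = y
      rw [mul_comm u y, mul_inv_cancel_right]
  -- the plane and its fixed complement
  have hτt := hσt.conj α
  set τ := α * σ * α⁻¹ with hτ
  have hτG : τ ∈ G := G.mul_mem (G.mul_mem hαG hσG) (G.inv_mem hαG)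
  obtain ⟨x, τ₁, hτ₁G, hτ₁t, hpair, hττ₁, hτ₁τ, hxz⟩ :=
    exists_pair hsmall hσt hτt hσG hτG hα
  have hfixpow : ∀ (ρ ρ' : MulAut P) (y : P), ρ' ∈ Subgroup.zpowers ρ → ρ y = y → ρ' y = y := by
    intro ρ ρ' y h e
    have : ρ' ∈ MulAction.stabilizer (MulAut P) y := (Subgroup.zpowers_le.2 e) h
    exact this
  have hstabconj : ∀ (β : MulAut P) (y : P), (β * σ * β⁻¹) y = y ↔ ((β⁻¹ y : P) : Ω) ∈ zS S := by
    intro β y
    constructor
    · intro e
      refine hfix _ (β.injective ?_)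
      rw [MulAut.apply_inv_self]
      exact e
    · intro e
      show β (σ (β⁻¹ y)) = y
      rw [hZfix _ e, MulAut.apply_inv_self]
  set ι : MulAut P := (σ * τ₁ * σ) ^ 2 with hιdef
  obtain ⟨hιz, hιx, hιw⟩ := hpair.inv_elt
  rw [← hιdef] at hιz hιx hιw
  have hιG : ι ∈ G := G.pow_mem (G.mul_mem (G.mul_mem hσG hτ₁G) hσG) 2
  -- extension of an automorphism normalizing the induced ones
  have hext : ∀ ν ∈ G, ν * σ * ν⁻¹ ∈ Subgroup.zpowers σ →
      ∃ δ ∈ F.autGroup S, ∀ y : P, autFun δ (y : Ω) = ((ν y : P) : Ω) := by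
    intro ν hν hνσ
    have hrec := receptive_of_fullyNormalized hS hF hP.2.1
    obtain ⟨f, hf, hfe⟩ := receptive_extend hrec ((mem_autGroup hPS).1 hν) (fimg_autFun ν) (N := S)
      (fun g hg => by
        refine ⟨⟨hg, hnorm g hg⟩, ?_⟩
        have hgσ : cj ⟨g, hg⟩ ∈ Subgroup.zpowers σ := hAS ▸ mem_autInducedBy.2 ⟨g, hg, fun y => rfl⟩
        have hc : ν * cj ⟨g, hg⟩ * ν⁻¹ ∈ autInducedBy S P := by
          rw [hAS]
          obtain ⟨n, hn⟩ := Subgroup.mem_zpowers_iff.1 hgσ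
          rw [← hn, ← conj_zpow]
          exact Subgroup.zpow_mem _ hνσ n
        obtain ⟨k, hk, hke⟩ := mem_autInducedBy.1 hc
        refine ⟨k, hk, fun y hy => ?_⟩
        have h1 := hke (ν ⟨y, hy⟩)
        simp only [MulAut.mul_apply, MulAut.inv_apply_self] at h1
        have hgy : g * y * g⁻¹ ∈ P := (Subgroup.mem_normalizer_iff.1 (hnorm g hg) y).1 hy
        rw [show autFun ν (g * y * g⁻¹) = ((ν ⟨_, hgy⟩ : P) : Ω) from autFun_coe ν ⟨_, hgy⟩,
          show autFun ν y = ((ν ⟨y, hy⟩ : P) : Ω) from autFun_coe ν ⟨y, hy⟩, ← h1]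
        congr 2) hPS
    obtain ⟨δ, hδ, hδe⟩ := hf.exists_aut (fimg_eq_self_of_source_top hf)
    exact ⟨δ, hδ, fun y => by rw [hδe y (hPS y.2), hfe y y.2, autFun_coe]⟩
  -- uniqueness of the complement
  have hkey : ∀ y : P, σ y = y → τ₁ y = y → ∀ β ∈ G, ((β⁻¹ y : P) : Ω) ∈ zS S := by
    intro y hy1 hy2 β hβ
    have hτy : τ y = y := hfixpow τ₁ τ y hττ₁ hy2
    by_cases hβn : β * σ * β⁻¹ ∈ Subgroup.zpowers σ
    · exact (hstabconj β y).1 (hfixpow σ _ y hβn hy1)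
    have hτ't := hσt.conj β
    have hτ'G : β * σ * β⁻¹ ∈ G := G.mul_mem (G.mul_mem hβ hσG) (G.inv_mem hβ)
    rw [← hstabconj β y]
    by_cases h2 : p = 2
    · subst h2
      rcases IsTransv.third_two hsmall hσt hτt hτ't hσG hτG hτ'G hα hβn with e | ⟨e, -⟩
      · rw [e]; exact hτy
      · rw [e]
        simp [MulAut.mul_apply, hτy, hy1]
    obtain ⟨x', τ₁', hτ₁'G, hτ₁'t, hpair', hττ₁', -, -⟩ :=
      exists_pair hsmall hσt hτ't hσG hτ'G hβn
    refine hfixpow τ₁' _ y hττ₁' ?_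
    obtain ⟨hιz', hιx', hιw'⟩ := hpair'.inv_elt
    set ι' : MulAut P := (σ * τ₁' * σ) ^ 2 with hι'
    have hι'G : ι' ∈ G := G.pow_mem (G.mul_mem (G.mul_mem hσG hτ₁'G) hσG) 2
    obtain ⟨i, j, hw1, hw2⟩ := IsPair.decomp hσt hτ₁'t hpair' y
    set w := y * (x' ^ i)⁻¹ * zP ^ j with hw
    have hxi : x' ^ i = 1 := by
      have h0 : σ (x' ^ i) = x' ^ i := by
        have e : x' ^ i = y * zP ^ j * w⁻¹ := by
          rw [hw, mul_inv_rev, mul_inv_rev, inv_inv]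
          rw [mul_comm (x' ^ i) y⁻¹, ← mul_assoc, ← mul_assoc, mul_inv_cancel_right,
            mul_inv_cancel, one_mul]
        rw [e, map_mul, map_mul, map_inv, hy1, hw1, map_pow, hσt.fix]
      rw [map_pow, hpair'.sig_x, mul_pow, mul_eq_left] at h0
      rw [← orderOf_dvd_iff_pow_eq_one, hτ₁'t.orderOf_eq, ← hσt.orderOf_eq,
        orderOf_dvd_iff_pow_eq_one, h0]
    rw [hxi, inv_one, mul_one] at hw
    have hcomm : ι' * ι ∈ G := G.mul_mem hι'G hιG
    have hνσ : ∀ (ρ : MulAut P) (c : P), IsPair σ ρ zP c → IsTransv p ρ c →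
        ((σ * ρ * σ) ^ 2) * σ * ((σ * ρ * σ) ^ 2)⁻¹ ∈ Subgroup.zpowers σ := by
      intro ρ c hc hct
      rw [IsPair.inv_elt_comm hσt hct hc, mul_inv_cancel_right]
      exact Subgroup.mem_zpowers σ
    obtain ⟨δ, hδ, hδe⟩ := hext ι hιG (hνσ τ₁ x hpair hτ₁t)
    obtain ⟨δ', hδ', hδ'e⟩ := hext ι' hι'G (hνσ τ₁' x' hpair' hτ₁'t)
    have hz1 : ι' (ι zP) = zP := by rw [hιz, map_inv, hιz', inv_inv]
    have hmul : ∀ v : P, autFun (δ' * δ) (v : Ω) = ((ι' (ι v) : P) : Ω) := fun v => by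
      rw [autFun_mul _ _ (hPS v.2), hδe, hδ'e]
    have hy' : ι' (ι y) = ι' y := by rw [hιw y hy1 hy2]
    have hw' : ι' y = y * zP ^ (2 * j) := by
      have e : y = w * (zP ^ j)⁻¹ := by rw [hw, mul_inv_cancel_right]
      conv_lhs => rw [e, map_mul, hιw' w hw1 hw2, map_inv, map_pow, hιz', inv_pow, inv_inv]
      rw [hw, mul_assoc, ← pow_add, two_mul]
    have hfixed := hfr.fix_center hS hF (mul_mem hδ' hδ)
      (by rw [show z = (zP : Ω) from rfl, hmul, hz1]) (hfix y hy1) (i := 2 * j)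
      (by rw [hmul, hy', hw']; simp [zP])
    rw [hmul, hy', hw'] at hfixed
    have h2j : zP ^ (2 * j) = 1 := mul_eq_left.1 (Subtype.ext hfixed)
    have hpj : p ∣ j := by
      rw [← orderOf_dvd_iff_pow_eq_one, hσt.orderOf_eq] at h2j
      refine (Nat.Coprime.dvd_of_dvd_mul_left ?_ h2j)
      exact (Nat.coprime_primes hp.out Nat.prime_two).2 h2
    have hzj : zP ^ j = 1 := by
      rw [← orderOf_dvd_iff_pow_eq_one, hσt.orderOf_eq]; exact hpj
    rw [hzj, mul_one] at hw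
    rw [← hw]
    exact hw2
  have hWmem : ∀ y : P, σ y = y → τ₁ y = y → (y : Ω) ∈ wSubP F P := fun y h1 h2 =>
    ⟨y.2, fun β hβ => by
      rw [autFun_coe]
      simpa using hkey y h1 h2 β⁻¹ (G.inv_mem hβ)⟩
  have hWfix : ∀ y : P, (y : Ω) ∈ wSubP F P → σ y = y ∧ τ₁ y = y := fun y hy => by
    refine ⟨hZfix y (wSubP_le F P hy), hfixpow τ τ₁ y hτ₁τ ((hstabconj α y).2 ?_)⟩
    rw [← autFun_coe]
    exact hy.2 _ (G.inv_mem hαG)
  have hxZ : (x : Ω) ∉ zS S := fun h => by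
    have := (hZfix x h).symm.trans hpair.sig_x
    exact hσt.ne_one (left_eq_mul.1 this)
  refine ⟨x, s, hPS, hZP, hs, hsP, x.2, hxZ, congrArg Subtype.val hτ₁t.pow_eq, fun y hy => ?_,
    fun h => ?_, fun y hy => ?_, fun h2 => ?_, fun h2 β hβ => ?_⟩
  · obtain ⟨i, j, h1, -⟩ := IsPair.decomp hσt hτ₁t hpair ⟨y, hy⟩
    refine ⟨i, ?_⟩
    have hsplit : σ (⟨y, hy⟩ * (x ^ i)⁻¹) = ⟨y, hy⟩ * (x ^ i)⁻¹ := by
      rw [map_mul _ (_ * _) (zP ^ j), map_pow, hσt.fix] at h1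
      exact mul_right_cancel h1
    simpa using hfix _ hsplit
  · have h1 := (hWfix zP h).2
    rw [hpair.tau_z, mul_eq_left, inv_eq_one] at h1
    exact hτ₁t.ne_one h1
  · obtain ⟨i, j, h1, h2⟩ := IsPair.decomp hσt hτ₁t hpair ⟨y, hZP hy⟩
    refine ⟨j, ?_⟩
    have hxi : x ^ i = 1 := by
      have h0 : σ (⟨y, hZP hy⟩ * (x ^ i)⁻¹) = ⟨y, hZP hy⟩ * (x ^ i)⁻¹ := by
        rw [map_mul _ (_ * _) (zP ^ j), map_pow, hσt.fix] at h1
        exact mul_right_cancel h1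
      rw [map_mul, map_inv, hZfix ⟨y, hZP hy⟩ hy, map_pow, hpair.sig_x, mul_pow, mul_right_inj,
        inv_inj, mul_eq_left] at h0
      rw [← orderOf_dvd_iff_pow_eq_one, hτ₁t.orderOf_eq, ← hσt.orderOf_eq,
        orderOf_dvd_iff_pow_eq_one, h0]
    rw [hxi, inv_one, mul_one] at h1 h2
    exact hWmem _ h1 h2
  · have hνσ : ι * σ * ι⁻¹ ∈ Subgroup.zpowers σ := by
      have hcom : ι * σ = σ * ι := IsPair.inv_elt_comm hσt hτ₁t hpair
      rw [hcom, mul_inv_cancel_right]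
      exact Subgroup.mem_zpowers σ
    obtain ⟨δ, hδ, hδe⟩ := hext ι hιG hνσ
    refine ⟨δ, hδ, ?_, fun w hw => ?_⟩
    · rw [show z = (zP : Ω) from rfl, hδe, hιz]; rfl
    · obtain ⟨f1, f2⟩ := hWfix ⟨w, hw.1⟩ hw
      rw [show w = ((⟨w, hw.1⟩ : P) : Ω) from rfl, hδe, hιw _ f1 f2]
  · subst h2
    have hτ₁eq : τ₁ = τ := by
      obtain ⟨n, hn⟩ := Subgroup.mem_zpowers_iff.1 hτ₁τ
      have e2 : τ ^ (2 : ℤ) = 1 := by simpa using hτt.pow_eq_one
      rcases Int.even_or_odd' n with ⟨k, rfl | rfl⟩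
      · exact absurd (by rw [← hn, zpow_mul, e2, one_zpow]) hτ₁t.ne
      · rw [← hn, zpow_add, zpow_mul, e2, one_zpow, one_mul, zpow_one]
    obtain ⟨-, hzx, hτfix, hμ⟩ : True ∧ τ₁ zP = zP * x ∧ τ₁ x = x ∧
        (σ * τ₁) * σ * (σ * τ₁)⁻¹ = τ₁ := by
      have hx2 : x⁻¹ = x := inv_eq_of_mul_eq_one_left (by rw [← pow_two]; exact hτ₁t.pow_eq)
      have hz2 : zP * zP = 1 := by rw [← pow_two]; exact hσt.pow_eq
      have hz' : τ₁ zP = zP * x := by rw [hpair.tau_z, hx2]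
      refine ⟨trivial, hz', hpair.tau_x, ?_⟩
      rw [mul_inv_eq_iff_eq_mul]
      have hxx : x * x = 1 := by rw [← pow_two]; exact hτ₁t.pow_eq
      refine IsPair.aut_ext hσt hτ₁t hpair ?_ ?_ fun w f1 f2 => ?_
      · show σ (τ₁ (σ zP)) = τ₁ (σ (τ₁ zP))
        have e : zP * (x * zP) = x := by rw [mul_left_comm, hz2, mul_one]
        rw [hσt.fix, hz', map_mul, hσt.fix, hpair.sig_x, e, hpair.tau_x]
      · show σ (τ₁ (σ x)) = τ₁ (σ (τ₁ x))
        have e : x * (zP * x) = zP := by rw [mul_left_comm, hxx, mul_one]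
        rw [hpair.tau_x, hpair.sig_x, map_mul, hpair.tau_x, hz', e, hσt.fix]
      · simp only [MulAut.mul_apply, f1, f2]
    set D : Subgroup P := Subgroup.zpowers zP ⊔ Subgroup.zpowers x with hD
    have hdispσ : ∀ v : P, v⁻¹ * σ v ∈ D := fun v => by
      obtain ⟨i, hi⟩ := hσt.disp v
      rw [hi, inv_mul_cancel_left]
      exact Subgroup.mem_sup_left (Subgroup.pow_mem _ (Subgroup.mem_zpowers zP) i)
    have hdispτ : ∀ v : P, v⁻¹ * τ₁ v ∈ D := fun v => by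
      obtain ⟨i, hi⟩ := hτ₁t.disp v
      rw [hi, inv_mul_cancel_left]
      exact Subgroup.mem_sup_right (Subgroup.pow_mem _ (Subgroup.mem_zpowers x) i)
    have hcases : ∃ μ ∈ G, μ * σ * μ⁻¹ = β * σ * β⁻¹ ∧ (∀ v : P, v⁻¹ * μ v ∈ D) ∧
        ∀ v : P, σ v = v → τ₁ v = v → μ v = v := by
      by_cases hβn : β * σ * β⁻¹ ∈ Subgroup.zpowers σ
      · refine ⟨1, G.one_mem, ?_, fun v => by simp, fun v _ _ => rfl⟩
        obtain ⟨n, hn⟩ := Subgroup.mem_zpowers_iff.1 hβn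
        have e2 : σ ^ (2 : ℤ) = 1 := by simpa using hσt.pow_eq_one
        rcases Int.even_or_odd' n with ⟨k, rfl | rfl⟩
        · exact absurd (by rw [← hn, zpow_mul, e2, one_zpow]) (hσt.conj β).ne
        · rw [← hn, zpow_add, zpow_mul, e2, one_zpow, one_mul, zpow_one]
          group
      rcases IsTransv.third_two hsmall hσt hτt (hσt.conj β) hσG hτG
        (G.mul_mem (G.mul_mem hβ hσG) (G.inv_mem hβ)) hα hβn with e | ⟨e, -⟩
      · refine ⟨σ * τ₁, G.mul_mem hσG hτ₁G, by rw [hμ, hτ₁eq, e], fun v => ?_, fun v e1 e2 => ?_⟩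
        · show v⁻¹ * σ (τ₁ v) ∈ D
          have := D.mul_mem (hdispτ v) (hdispσ (τ₁ v))
          rwa [mul_assoc, mul_inv_cancel_left] at this
        · simp [MulAut.mul_apply, e1, e2]
      · refine ⟨τ₁, hτ₁G, ?_, hdispτ, fun v _ e2 => e2⟩
        rw [e, hτ₁eq, inv_eq_of_mul_eq_one_left (b := τ) (by rw [← pow_two]; exact hτt.pow_eq_one)]
    obtain ⟨μ, hμG, hμσ, hμD, hμfix⟩ := hcases
    have hνσ : μ⁻¹ * β * σ * (μ⁻¹ * β)⁻¹ ∈ Subgroup.zpowers σ := by
      rw [show μ⁻¹ * β * σ * (μ⁻¹ * β)⁻¹ = μ⁻¹ * (β * σ * β⁻¹) * μ by group, ← hμσ]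
      rw [show μ⁻¹ * (μ * σ * μ⁻¹) * μ = σ by group]
      exact Subgroup.mem_zpowers σ
    obtain ⟨δ, hδ, hδe⟩ := hext _ (G.mul_mem (G.inv_mem hμG) hβ) hνσ
    refine ⟨μ, hμG, δ, hδ, fun y hy => ?_, fun y hy => ?_, fun w hw => ?_⟩
    · rw [show y = ((⟨y, hy⟩ : P) : Ω) from rfl, hδe, autFun_coe, autFun_coe]
      exact ⟨SetLike.coe_mem _, congrArg Subtype.val (MulEquiv.apply_symm_apply μ _).symm⟩
    · have h := hμD ⟨y, hy⟩
      obtain ⟨c, hc, d, hd, e⟩ := Subgroup.mem_sup.1 h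
      haveI : Finite (Subgroup.zpowers zP) := inferInstance
      obtain ⟨i, rfl⟩ := (Submonoid.mem_powers_iff _ _).1
        ((isOfFinOrder_of_finite zP).mem_powers_iff_mem_zpowers.2 hc)
      obtain ⟨j, rfl⟩ := (Submonoid.mem_powers_iff _ _).1
        ((isOfFinOrder_of_finite x).mem_powers_iff_mem_zpowers.2 hd)
      refine ⟨i, j, ?_⟩
      rw [show autFun μ y = ((μ ⟨y, hy⟩ : P) : Ω) from autFun_coe μ ⟨y, hy⟩]
      have h1 : μ ⟨y, hy⟩ = ⟨y, hy⟩ * (zP ^ i * x ^ j) := by rw [e, mul_inv_cancel_left]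
      rw [h1]
      simp [zP]
    · obtain ⟨f1, f2⟩ := hWfix ⟨w, hw.1⟩ hw
      rw [show w = ((⟨w, hw.1⟩ : P) : Ω) from rfl, autFun_coe, hμfix _ f1 f2]

end Cfsg.Agent.Fus
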