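import Cfsg.Agent.Lib.Fus.NormalCrit

/-!
A saturated 2-fusion system in which every element is conjugate into the centre has abelian `S`.
-/

set_option autoImplicit false
set_option linter.style.haveILetI false

namespace Cfsg.Agent.Fus.CentralConjAbelian

open Subgroup FusionSystem

variable {Ω : Type*} [Group Ω] {S : Subgroup Ω} [Finite S] {F : FusionSystem S}

/-- The centre of `S`, inside the ambient group. -/
abbrev Z (S : Subgroup Ω) : Subgroup Ω := FusionSystem.centralizerIn S S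

omit [Finite S] in
theorem commute_Z {z s : Ω} (hz : z ∈ Z S) (hs : s ∈ S) : s * z = z * s :=
  (mem_centralizerIn.1 hz).2 s hs

omit [Finite S] in
theorem aut_mem_Z (α : MulAut S) {z : Ω} (hz : z ∈ Z S) : autFun α z ∈ Z S := by
  have hzS := (mem_centralizerIn.1 hz).1
  refine mem_centralizerIn.2 ⟨autFun_mem α hzS, fun s hs => ?_⟩
  have h : (α⁻¹ ⟨s, hs⟩) * ⟨z, hzS⟩ = ⟨z, hzS⟩ * (α⁻¹ ⟨s, hs⟩) :=
    Subtype.ext (commute_Z hz (α⁻¹ ⟨s, hs⟩).2)
  have h2 := congrArg α h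
  rw [map_mul, map_mul, MulAut.apply_inv_self] at h2
  rw [show z = ((⟨z, hzS⟩ : S) : Ω) from rfl, autFun_coe]
  exact congrArg Subtype.val h2

/-- A map between central elements extends to an automorphism of `S`. -/
theorem central_extend (hS : IsPGroup 2 S) (hF : F.IsSaturated 2) {z₁ z₂ : Ω} (h₁ : z₁ ∈ Z S)
    (h₂ : z₂ ∈ Z S) {f : Ω → Ω} (hf : IsMap F (zpowers z₁) f) (hfz : f z₁ = z₂) :
    ∃ α ∈ F.autGroup S, autFun α z₁ = z₂ := by
  haveI : Fact (Nat.Prime 2) := ⟨Nat.prime_two⟩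
  have hsrc : zpowers z₁ ≤ Z S := zpowers_le.2 h₁
  have himg : fimg f (zpowers z₁) ≤ Z S := fimg_le fun x hx => by
    obtain ⟨i, rfl⟩ := mem_zpowers_iff.1 hx
    obtain ⟨φ, -, e⟩ := hf.exists_hom
    have := e ⟨z₁ ^ i, hx⟩
    rw [← this, show (⟨z₁ ^ i, hx⟩ : zpowers z₁) = ⟨z₁, mem_zpowers _⟩ ^ i from rfl, map_zpow,
      e ⟨z₁, mem_zpowers _⟩, hfz]
    exact zpow_mem h₂ i
  have hC : ∀ T, T ≤ Z S → FusionSystem.centralizerIn S T = S := fun T hT =>
    le_antisymm inf_le_left fun s hs => mem_centralizerIn.2 ⟨hs, fun y hy => (commute_Z (hT hy) hs).symm⟩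
  have hfc : F.IsFullyCentralized (fimg f (zpowers z₁)) :=
    ⟨hf.fimg_le_S, fun Q _ => by rw [hC _ himg]; exact card_le_of_le inf_le_left⟩
  obtain ⟨g, hg, hgx⟩ := receptive_extend (receptive_of_fullyCentralized hS hF hfc) hf rfl
    (N := S) (fun s hs => ⟨mem_normalizerIn.2 ⟨hs, fun x => ⟨fun hx => by
      rwa [commute_Z (hsrc hx) hs, mul_inv_cancel_right], fun hx => by
      have h := commute_Z (hsrc hx) (S.inv_mem hs)
      rw [show x = s⁻¹ * (s * x * s⁻¹) * s by group, h, inv_mul_cancel_right]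
      exact hx⟩⟩, 1, one_mem S, fun x hx => by
      rw [commute_Z (hsrc hx) hs, mul_inv_cancel_right, one_mul, inv_one, mul_one]⟩) hf.source_le
  obtain ⟨α, hα, e⟩ := hg.exists_aut (fimg_eq_self_of_source_top hg)
  exact ⟨α, hα, (e _ (hf.source_le (mem_zpowers _))).trans ((hgx _ (mem_zpowers _)).trans hfz)⟩

/-- An element inverted by an element of `S` is an involution. -/
theorem sq_eq_one_of_real (hS : IsPGroup 2 S) (hF : F.IsSaturated 2) {x g z : Ω} (hx : x ∈ S)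
    (hg : g ∈ S) (hgx : g * x * g⁻¹ = x⁻¹) (hz : z ∈ Z S) {f : Ω → Ω}
    (hf : IsMap F (zpowers x) f) (hfx : f x = z) : x * x = 1 := by
  haveI : Fact (Nat.Prime 2) := ⟨Nat.prime_two⟩
  obtain ⟨h, hh, hhx, -⟩ := hf.exists_inv
  have hxP : zpowers x ≤ S := zpowers_le.2 hx
  have hz' : zpowers z ≤ fimg f (zpowers x) :=
    zpowers_le.2 (hfx ▸ apply_mem_fimg f (mem_zpowers x))
  have hcg : ∀ w ∈ zpowers x, g * w * g⁻¹ ∈ zpowers x := by
    intro w hw
    obtain ⟨i, rfl⟩ := mem_zpowers_iff.1 hw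
    rw [← conj_zpow, hgx]
    exact zpow_mem (inv_mem (mem_zpowers x)) i
  have hmap : ∀ y ∈ zpowers z, h y ∈ zpowers x := by
    intro y hy
    obtain ⟨w, hw, rfl⟩ := hf.mem_fimg_iff.1 (hz' hy)
    rw [hhx w hw]; exact hw
  have hcomp := ((hh.res hz').comp (isMap_conj F hxP hg) hmap).comp hf
    (fun y hy => hcg _ (hmap y hy))
  obtain ⟨α, hα, hαz⟩ := central_extend hS hF hz (inv_mem hz) hcomp (by
    show f (g * h z * g⁻¹) = z⁻¹
    rw [← hfx, hhx x (mem_zpowers x), hgx, hf.map_inv (mem_zpowers x)])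
  obtain ⟨-, R, hR⟩ := fullyAutomized_of_fullyNormalized hS hF (fullyNormalized_self F)
  have hRn : (R : Subgroup (F.autGroup S)).Normal := by
    rw [hR, ← inn_eq_autInducedBy]; infer_instance
  have hodd : ¬ 2 ∣ (R : Subgroup (F.autGroup S)).index := R.not_dvd_index
  have hpow : (⟨α, hα⟩ : F.autGroup S) ^ (R : Subgroup (F.autGroup S)).index ∈ (R : Subgroup (F.autGroup S)) := by
    haveI := hRn
    exact pow_index_mem _ _
  have hpow' : α ^ (R : Subgroup (F.autGroup S)).index ∈ autInducedBy S S :=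
    mem_subgroupOf.1 (hR.le hpow)
  obtain ⟨s, hs, e⟩ := mem_autInducedBy.1 hpow'
  have hzS := (mem_centralizerIn.1 hz).1
  have hiter : ∀ n : ℕ, ((α ^ n) ⟨z, hzS⟩ : Ω) = if Even n then z else z⁻¹ := by
    intro n
    induction n with
    | zero => simp
    | succ n ih =>
      have h1 : (α ⟨z, hzS⟩ : Ω) = z⁻¹ := by rw [← autFun_coe]; exact hαz
      have h2 : α ⟨z, hzS⟩ = (⟨z, hzS⟩ : S)⁻¹ := Subtype.ext h1
      rw [pow_succ, MulAut.mul_apply, h2, map_inv, InvMemClass.coe_inv, ih]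
      by_cases hn : Even n <;> simp [hn, Nat.even_add_one]
  have h1 : ((α ^ (R : Subgroup (F.autGroup S)).index) ⟨z, hzS⟩ : Ω) = z := by
    have := e ⟨z, hzS⟩
    rw [show s * z * s⁻¹ = z by rw [commute_Z hz hs, mul_inv_cancel_right]] at this
    exact this
  rw [hiter, if_neg fun he => hodd (even_iff_two_dvd.1 he)] at h1
  refine hf.injOn (mul_mem (mem_zpowers x) (mem_zpowers x)) (one_mem _) ?_
  rw [hf.map_mul (mem_zpowers x) (mem_zpowers x), hfx, hf.map_one]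
  exact mul_eq_one_iff_eq_inv.2 h1.symm

/-- Every element conjugate into the centre forces `S` to be abelian. -/
theorem comm_of_conj_center (hS : IsPGroup 2 S) (hF : F.IsSaturated 2)
    (h : ∀ x ∈ S, ∃ z ∈ S ⊓ centralizer (S : Set Ω), F.IsConjElt x z) : IsMulCommutative S := by
  haveI : Fact (Nat.Prime 2) := ⟨Nat.prime_two⟩
  have hmap : ∀ x ∈ S, ∃ z ∈ Z S, ∃ f, IsMap F (zpowers x) f ∧ f x = z := by
    intro x hx
    obtain ⟨z, hz, φ, hφ, e⟩ := h x hx
    exact ⟨z, hz, _, isMap_toFun hφ, (toFun_coe φ ⟨x, mem_zpowers x⟩).trans e⟩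
  have hinv : ∀ a ∈ S, ∀ b ∈ S, a * a = 1 → b * b = 1 → a * b = b * a := by
    intro a ha b hb ha2 hb2
    have hai : a⁻¹ = a := inv_eq_of_mul_eq_one_right ha2
    have hbi : b⁻¹ = b := inv_eq_of_mul_eq_one_right hb2
    obtain ⟨z, hz, f, hf, hfx⟩ := hmap _ (mul_mem ha hb)
    have h1 := sq_eq_one_of_real hS hF (mul_mem ha hb) ha
      (by rw [mul_inv_rev, hai, hbi, ← mul_assoc a a b, ha2, one_mul]) hz hf hfx
    rw [← inv_eq_of_mul_eq_one_right h1, mul_inv_rev, hai, hbi]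
  let U : Subgroup Ω :=
    { carrier := {u | u ∈ S ∧ u * u = 1}
      one_mem' := ⟨one_mem _, mul_one 1⟩
      mul_mem' := by
        rintro a b ⟨ha, ha2⟩ ⟨hb, hb2⟩
        refine ⟨mul_mem ha hb, ?_⟩
        calc a * b * (a * b) = a * (b * a) * b := by group
          _ = a * a * (b * b) := by rw [← hinv a ha b hb ha2 hb2]; group
          _ = 1 := by rw [ha2, hb2, mul_one]
      inv_mem' := by
        rintro a ⟨ha, ha2⟩
        exact ⟨inv_mem ha, by rw [← mul_inv_rev, ha2, inv_one]⟩ }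
  have hUc : F.StronglyClosed U := stronglyClosed_of_forall (fun u hu => hu.1)
    fun R hR f hf x hx => ⟨hf.apply_mem hx, by
      rw [← hf.map_mul hx hx, (hR hx).2, hf.map_one]⟩
  have hUn : F.IsNormal U := by
    refine isNormal_of_chain hS hF ![⊥, U] rfl ?_ fun i => ?_
    · exact Fin.monotone_iff_le_succ.2 fun i => by fin_cases i; exact bot_le
    · fin_cases i
      refine ⟨hUc, ?_⟩
      show ⁅U, U⁆ ≤ ⊥
      refine commutator_le.2 fun a ha b hb => mem_bot.2 ?_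
      rw [commutatorElement_eq_one_iff_mul_comm]
      exact hinv a ha.1 b hb.1 ha.2 hb.2
  have hUZ : U ≤ Z S := by
    intro u hu
    refine mem_centralizerIn.2 ⟨hu.1, fun s hs => ?_⟩
    obtain ⟨z, hz, f, hf, hfs⟩ := hmap s hs
    obtain ⟨g, hg, hg1, hg2⟩ := (isNormal_iff.1 hUn).2 _ f hf
    have hsm : s ∈ zpowers s ⊔ U := mem_sup_left (mem_zpowers s)
    have hum : u ∈ zpowers s ⊔ U := mem_sup_right hu
    have hgu : g u ∈ S := hg.apply_mem hum
    have h1 : g (s * u) = g (u * s) := by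
      rw [hg.map_mul hsm hum, hg.map_mul hum hsm, hg1 s (mem_zpowers s), hfs,
        commute_Z hz hgu]
    exact hg.injOn (mul_mem hsm hum) (mul_mem hum hsm) h1
  refine ⟨⟨fun a b => ?_⟩⟩
  by_contra hab
  have hsZ : (a : Ω) ∉ Z S := fun h => hab (Subtype.ext (commute_Z h b.2).symm)
  obtain ⟨e, he⟩ := hS a
  have hex : ∃ j, (a : Ω) ^ 2 ^ j ∈ Z S := ⟨e, by
    rw [show (a : Ω) ^ 2 ^ e = ((a ^ 2 ^ e : S) : Ω) from rfl, he]; exact one_mem _⟩
  classical
  obtain ⟨j, hj⟩ : ∃ j, Nat.find hex = j + 1 := ⟨Nat.find hex - 1, by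
    have : Nat.find hex ≠ 0 := fun h0 => hsZ (by simpa [h0] using Nat.find_spec hex)
    omega⟩
  set x := (a : Ω) ^ 2 ^ j with hxdef
  have hxS : x ∈ S := pow_mem a.2 _
  have hxZ : x ∉ Z S := Nat.find_min hex (by omega)
  have hx2 : x * x ∈ Z S := by
    have := Nat.find_spec hex
    rw [hj, pow_succ, pow_mul, pow_two] at this
    exact this
  obtain ⟨z, hz, f, hf, hfx⟩ := hmap x hxS
  have hxx : x * x ∈ zpowers x := mul_mem (mem_zpowers x) (mem_zpowers x)
  obtain ⟨α, -, hα⟩ := central_extend hS hF hx2 (mul_mem hz hz) (hf.res (zpowers_le.2 hxx))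
    (by rw [hf.map_mul (mem_zpowers x) (mem_zpowers x), hfx])
  set x' := autFun α x with hx'
  have hx'S : x' ∈ S := autFun_mem α hxS
  have hx'2 : x' * x' = z * z := by
    rw [← hα, hx', show x * x = ((⟨x, hxS⟩ * ⟨x, hxS⟩ : S) : Ω) from rfl, autFun_coe, map_mul,
      Subgroup.coe_mul, ← autFun_coe α ⟨x, hxS⟩]
  have hu : x' * z⁻¹ ∈ U := ⟨mul_mem hx'S (inv_mem (mem_centralizerIn.1 hz).1), by
    calc x' * z⁻¹ * (x' * z⁻¹) = x' * (z⁻¹ * x') * z⁻¹ := by group
      _ = x' * x' * (z * z)⁻¹ := by rw [← commute_Z (inv_mem hz) hx'S]; group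
      _ = 1 := by rw [hx'2, mul_inv_cancel]⟩
  have hxZ' : x' ∈ Z S := by simpa using (Z S).mul_mem (hUZ hu) hz
  refine hxZ ?_
  have := aut_mem_Z α⁻¹ hxZ'
  rwa [hx', ← autFun_mul _ _ hxS, inv_mul_cancel, autFun_one hxS] at this

end Cfsg.Agent.Fus.CentralConjAbelian
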