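import Cfsg.Agent.Lib.Fus.CentralConjAbelian
import Cfsg.Agent.Lib.Fus.GroupSystem

/-!
A Sylow 2-subgroup is abelian when every 2-element centralises some Sylow 2-subgroup.
-/

set_option autoImplicit false
set_option linter.style.haveILetI false

namespace Cfsg.Agent.Fus.CentralConjAbelian

open Subgroup
open scoped Pointwise

variable {G : Type*} [Group G] [Finite G]

theorem exists_sylow_le_centralizer_of_odd {x : G}
    (h : ¬ 2 ∣ (centralizer ({x} : Set G)).index) :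
    ∃ Q : Sylow 2 G, (Q : Subgroup G) ≤ centralizer ({x} : Set G) := by
  haveI : Fact (Nat.Prime 2) := ⟨Nat.prime_two⟩
  set C := centralizer ({x} : Set G)
  obtain ⟨R⟩ : Nonempty (Sylow 2 C) := inferInstance
  obtain ⟨Q, hQ⟩ := (R.isPGroup'.map C.subtype).exists_le_sylow
  have hi : ¬ 2 ∣ ((R : Subgroup C).map C.subtype).index := by
    rw [index_map_subtype]
    exact fun hd => (Nat.prime_two.dvd_mul.1 hd).elim R.not_dvd_index h
  have he : (R : Subgroup C).map C.subtype = Q :=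
    congrArg Sylow.toSubgroup (Sylow.ext (P := (R.isPGroup'.map C.subtype).toSylow hi) (Q := Q)
      (((R.isPGroup'.map C.subtype).toSylow hi).is_maximal' Q.isPGroup' hQ).symm)
  exact ⟨Q, he.symm.trans_le (map_subtype_le _)⟩

theorem comm_of_centralizes (P : Sylow 2 G)
    (h : ∀ x : G, (∃ k : ℕ, orderOf x = 2 ^ k) → ∃ Q : Sylow 2 G,
      (Q : Subgroup G) ≤ centralizer ({x} : Set G)) : IsMulCommutative (P : Subgroup G) := by
  haveI : Fact (Nat.Prime 2) := ⟨Nat.prime_two⟩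
  refine comm_of_conj_center P.isPGroup' (isSaturated_group P) fun x hx => ?_
  obtain ⟨k, hk⟩ := IsPGroup.iff_orderOf.1 P.isPGroup' ⟨x, hx⟩
  rw [Subgroup.orderOf_mk] at hk
  obtain ⟨Q, hQ⟩ := h x ⟨k, hk⟩
  have hxQ : x ∈ (Q : Subgroup G) := by
    have hp : IsPGroup 2 (zpowers x) := IsPGroup.of_card (n := k) (by rw [Nat.card_zpowers, hk])
    have hle : zpowers x ≤ normalizer ((Q : Subgroup G) : Set G) := zpowers_le.2 (mem_normalizer_iff.2
      fun w => ⟨fun hw => by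
        rw [← mem_centralizer_singleton_iff.1 (hQ hw), mul_inv_cancel_right]; exact hw, fun hw => by
        have h1 := mem_centralizer_singleton_iff.1 (hQ hw)
        have h2 : w * x = x * w := by
          calc w * x = x⁻¹ * (x * w * x⁻¹ * x) * x := by group
            _ = x⁻¹ * (x * (x * w * x⁻¹)) * x := by rw [h1]
            _ = x * w := by group
        rwa [← h2, mul_inv_cancel_right] at hw⟩)
    exact (Q.is_maximal' (hp.to_sup_of_normal_right' Q.isPGroup' hle) le_sup_right).le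
      (mem_sup_left (mem_zpowers x))
  obtain ⟨g, hg⟩ := MulAction.exists_smul_eq G Q P
  subst hg
  refine ⟨g * x * g⁻¹, ⟨⟨x, hxQ, rfl⟩, mem_centralizer_iff.2 ?_⟩, ?_⟩
  · rintro _ ⟨w, hw, rfl⟩
    show g * w * g⁻¹ * (g * x * g⁻¹) = g * x * g⁻¹ * (g * w * g⁻¹)
    calc g * w * g⁻¹ * (g * x * g⁻¹) = g * (w * x) * g⁻¹ := by group
      _ = g * (x * w) * g⁻¹ := by rw [mem_centralizer_singleton_iff.1 (hQ hw)]
      _ = g * x * g⁻¹ * (g * w * g⁻¹) := by group
  · refine ⟨conjHom (zpowers x) g, ⟨zpowers_le.2 hx, ?_, g, fun _ => rfl⟩, rfl⟩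
    rintro ⟨w, hw⟩
    obtain ⟨i, rfl⟩ := mem_zpowers_iff.1 hw
    exact ⟨x ^ i, zpow_mem hxQ i, rfl⟩

theorem comm_iff_centralizes (P : Sylow 2 G) : IsMulCommutative (P : Subgroup G) ↔
    ∀ x : G, (∃ k : ℕ, orderOf x = 2 ^ k) → ∃ Q : Sylow 2 G,
      (Q : Subgroup G) ≤ centralizer ({x} : Set G) := by
  haveI : Fact (Nat.Prime 2) := ⟨Nat.prime_two⟩
  refine ⟨fun hP x ⟨k, hk⟩ => ?_, comm_of_centralizes P⟩
  obtain ⟨Q, hQ⟩ := (IsPGroup.of_card (n := k) (by rw [Nat.card_zpowers, hk]) :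
    IsPGroup 2 (zpowers x)).exists_le_sylow
  refine ⟨Q, fun w hw => mem_centralizer_singleton_iff.2 ?_⟩
  obtain ⟨g, hg⟩ := MulAction.exists_smul_eq G Q P
  have e : ∀ z ∈ (Q : Subgroup G), g * z * g⁻¹ ∈ (P : Subgroup G) := fun z hz => hg ▸ ⟨z, hz, rfl⟩
  have := congrArg Subtype.val
    (hP.is_comm.comm (⟨_, e w hw⟩ : (P : Subgroup G)) ⟨_, e x (hQ (mem_zpowers x))⟩)
  change g * w * g⁻¹ * (g * x * g⁻¹) = g * x * g⁻¹ * (g * w * g⁻¹) at this
  have h2 : g * (w * x) * g⁻¹ = g * (x * w) * g⁻¹ := by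
    calc g * (w * x) * g⁻¹ = g * w * g⁻¹ * (g * x * g⁻¹) := by group
      _ = g * x * g⁻¹ * (g * w * g⁻¹) := this
      _ = g * (x * w) * g⁻¹ := by group
  exact mul_left_cancel (mul_right_cancel h2)

end Cfsg.Agent.Fus.CentralConjAbelian
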