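import Cfsg.Agent.Lib.Fus.InvariantExtensionMain
import Cfsg.Prelude.Def_FusionComponents

/-!
Data for lifting a normal subsystem through a central quotient, and the generated subsystem.
-/

set_option autoImplicit false
set_option linter.style.haveILetI false
set_option linter.unusedSectionVars false

open scoped Classical Pointwise

universe u

namespace Cfsg.Agent.Fus.CentralLift

open Subgroup FusionSystem

variable {Ω : Type u} [Group Ω] {S : Subgroup Ω}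

/-- The automorphisms in `F` that are trivial modulo `Z`. -/
def kerAuts (F : FusionSystem S) (Z Q : Subgroup Ω) : Subgroup (MulAut Q) where
  carrier := {α | α ∈ F.autGroup Q ∧ ∀ x ∈ Q, x⁻¹ * autFun α x ∈ Z}
  one_mem' := ⟨one_mem _, fun x hx => by rw [autFun_one hx, inv_mul_cancel]; exact Z.one_mem⟩
  mul_mem' := fun {α β} hα hβ => ⟨mul_mem hα.1 hβ.1, fun x hx => by
    rw [autFun_mul _ _ hx, show x⁻¹ * autFun α (autFun β x) =
      (x⁻¹ * autFun β x) * ((autFun β x)⁻¹ * autFun α (autFun β x)) by group]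
    exact Z.mul_mem (hβ.2 x hx) (hα.2 _ (autFun_mem _ hx))⟩
  inv_mem' := fun {α} hα => ⟨Subgroup.inv_mem _ hα.1, fun x hx => by
    have h := hα.2 _ (autFun_mem α⁻¹ hx)
    rw [← autFun_mul _ _ hx, mul_inv_cancel, autFun_one hx] at h
    simpa using Z.inv_mem h⟩

theorem mem_kerAuts {F : FusionSystem S} {Z Q : Subgroup Ω} {α : MulAut Q} :
    α ∈ kerAuts F Z Q ↔ α ∈ F.autGroup Q ∧ ∀ x ∈ Q, x⁻¹ * autFun α x ∈ Z := Iff.rfl

/-- The automorphisms generated by those of order prime to `p` in a family. -/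
def pAuts (p : ℕ) {Q : Subgroup Ω} (A : Subgroup (MulAut Q)) : Subgroup (MulAut Q) :=
  Subgroup.closure {α | α ∈ A ∧ (orderOf α).Coprime p}

theorem pAuts_le (p : ℕ) {Q : Subgroup Ω} (A : Subgroup (MulAut Q)) : pAuts p A ≤ A :=
  (Subgroup.closure_le _).2 fun _ h => h.1

theorem congr_pAuts (p : ℕ) {Q R : Subgroup Ω} (e : Q ≃* R) {A : Subgroup (MulAut Q)}
    {B : Subgroup (MulAut R)} (h : ∀ α ∈ A, MulAut.congr e α ∈ B) {α : MulAut Q}
    (hα : α ∈ pAuts p A) : MulAut.congr e α ∈ pAuts p B := by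
  refine (Subgroup.closure_le ((pAuts p B).comap (MulAut.congr e).toMonoidHom)).2 ?_ hα
  intro x hx
  refine Subgroup.subset_closure ⟨h x hx.1, ?_⟩
  rw [orderOf_injective (MulAut.congr e).toMonoidHom (MulAut.congr e).injective x]
  exact hx.2

/-- A subgroup stable under the conjugations by `B` has stable coprime-generated part. -/
theorem conj_mem_pAuts (p : ℕ) {Q : Subgroup Ω} {A B : Subgroup (MulAut Q)}
    (h : ∀ b ∈ B, ∀ a ∈ A, b * a * b⁻¹ ∈ A) {b a : MulAut Q} (hb : b ∈ B) (ha : a ∈ pAuts p A) :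
    b * a * b⁻¹ ∈ pAuts p A := by
  refine (Subgroup.closure_le ((pAuts p A).comap (MulAut.conj b).toMonoidHom)).2 ?_ ha
  intro x hx
  refine Subgroup.subset_closure ⟨h b hb x hx.1, ?_⟩
  rw [orderOf_injective (MulAut.conj b).toMonoidHom (MulAut.conj b).injective x]
  exact hx.2

/-- The data: `T` contains the central subgroup `Z`, `ℋ` is a family of subgroups of `T`, and `A`
gives automorphism groups on its members behaving like those induced in a normal subsystem of the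
quotient by `Z`. -/
structure Ctx (F : FusionSystem S) (p : ℕ) (Z T : Subgroup Ω) (ℋ : Subgroup Ω → Prop)
    (A : (P : Subgroup Ω) → Subgroup (MulAut P)) : Prop where
  pgroup : IsPGroup p S
  sat : F.IsSaturated p
  central : Z ≤ F.center
  tsc : F.StronglyClosed T
  zT : Z ≤ T
  mem : ∀ {P : Subgroup Ω}, ℋ P → Z ≤ P ∧ P ≤ T ∧ centralizerIn T P ≤ P
  top : ℋ T
  up : ∀ {P Q : Subgroup Ω}, ℋ P → P ≤ Q → Q ≤ T → ℋ Q
  transport : ∀ {P : Subgroup Ω} {f : Ω → Ω}, ℋ P → IsMap F P f → ℋ (fimg f P)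
  bad : ∀ {P : Subgroup Ω}, P ≤ T → Z ≤ P → ¬ ℋ P → ∃ f, IsMap F P f ∧
    ∃ x ∈ T, x ∉ fimg f P ∧ ∀ y ∈ fimg f P, y⁻¹ * (x * y * x⁻¹) ∈ Z
  radical : ∀ {R : Subgroup Ω}, F.IsCentric R → F.IsRadical p R → ℋ (R ⊓ T)
  aut_le : ∀ {P : Subgroup Ω}, ℋ P → A P ≤ F.autGroup P
  aut_natural : ∀ {P Q : Subgroup Ω} {f : Ω → Ω}, ℋ P → IsMap F P f → fimg f P = Q →
    ∀ (e : P ≃* Q), (∀ x : P, (e x : Ω) = f x) → ∀ {α : MulAut P}, α ∈ A P →
      MulAut.congr e α ∈ A Q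
  aut_inner : ∀ {P : Subgroup Ω}, ℋ P → autInducedBy T P ≤ A P
  aut_ker : ∀ {P : Subgroup Ω}, ℋ P → kerAuts F Z P ≤ A P
  aut_res : ∀ {P Q : Subgroup Ω}, ℋ P → ℋ Q → P ≤ Q → ∀ {α : MulAut Q} {β : MulAut P},
    α ∈ A Q → (∀ x ∈ P, autFun β x = autFun α x) → β ∈ A P
  aut_sylow : ∀ {Q : Subgroup Ω}, ℋ Q → F.IsFullyNormalized Q → ∀ {χ : MulAut Q}, χ ∈ A Q →
    χ ∈ autInducedBy S Q → ∃ τ ∈ autInducedBy T Q, τ⁻¹ * χ ∈ kerAuts F Z Q
  aut_ext : ∀ {Q : Subgroup Ω}, ℋ Q → F.IsFullyNormalized Q → ∀ {α : MulAut Q}, α ∈ A Q →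
    (orderOf α).Coprime p → ∃ g, ∃ ν ∈ kerAuts F Z Q, ∀ W : Subgroup Ω,
      (∀ w ∈ W, w ∈ normalizerIn S Q ∧ ∀ x ∈ Q, x⁻¹ * (w * x * w⁻¹) ∈ Z) →
        IsMap F (Q ⊔ W) g ∧ (∀ x ∈ Q, g x = autFun (ν * α) x) ∧ ∀ w ∈ W, w⁻¹ * g w ∈ T
  aut_up : ∀ {Q : Subgroup Ω}, ℋ Q → F.IsFullyNormalized Q → ∀ {α : MulAut Q}, α ∈ A Q →
    (∀ τ ∈ autInducedBy T Q, α * τ * α⁻¹ ∈ autInducedBy T Q) →
      ∃ γ ∈ A (normalizerIn T Q), ∃ ν ∈ kerAuts F Z Q,
        ∀ x ∈ Q, autFun γ x = autFun (ν * α) x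

/-- The maps generated by conjugations from `T` and by the coprime parts of the automorphism
groups. -/
inductive Gen (T : Subgroup Ω) (p : ℕ) (ℋ : Subgroup Ω → Prop)
    (A : (P : Subgroup Ω) → Subgroup (MulAut P)) : Subgroup Ω → (Ω → Ω) → Prop
  | aut {P Q : Subgroup Ω} {α : MulAut Q} {f : Ω → Ω} : ℋ Q → α ∈ pAuts p (A Q) → P ≤ Q →
      (∀ x ∈ P, f x = autFun α x) → Gen T p ℋ A P f
  | inner {P : Subgroup Ω} {t : Ω} {f : Ω → Ω} : P ≤ T → t ∈ T →
      (∀ x ∈ P, f x = t * x * t⁻¹) → Gen T p ℋ A P f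
  | comp {P Q : Subgroup Ω} {f g h : Ω → Ω} : Gen T p ℋ A P f → Gen T p ℋ A Q g →
      (∀ x ∈ P, f x ∈ Q) → (∀ x ∈ P, h x = g (f x)) → Gen T p ℋ A P h

section

variable {F : FusionSystem S} {p : ℕ} {Z T : Subgroup Ω} {ℋ : Subgroup Ω → Prop}
  {A : (P : Subgroup Ω) → Subgroup (MulAut P)}

theorem Gen.res {P R : Subgroup Ω} {f : Ω → Ω} (h : Gen T p ℋ A P f) (hR : R ≤ P) :
    Gen T p ℋ A R f := by
  induction h generalizing R with
  | aut hQ hα hPQ hf => exact .aut hQ hα (hR.trans hPQ) fun x hx => hf x (hR hx)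
  | inner hP ht hf => exact .inner (hR.trans hP) ht fun x hx => hf x (hR hx)
  | comp _ hg hm he ih _ =>
    exact .comp (ih hR) hg (fun x hx => hm x (hR hx)) fun x hx => he x (hR hx)

theorem Gen.congr {P : Subgroup Ω} {f f' : Ω → Ω} (h : Gen T p ℋ A P f)
    (e : ∀ x ∈ P, f' x = f x) : Gen T p ℋ A P f' := by
  induction h with
  | aut hQ hα hPQ hf => exact .aut hQ hα hPQ fun x hx => (e x hx).trans (hf x hx)
  | inner hP ht hf => exact .inner hP ht fun x hx => (e x hx).trans (hf x hx)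
  | comp hf hg hm he _ _ => exact .comp hf hg hm fun x hx => (e x hx).trans (he x hx)

variable (d : Ctx F p Z T ℋ A)
include d

theorem Gen.isMap {P : Subgroup Ω} {f : Ω → Ω} (h : Gen T p ℋ A P f) : IsMap F P f := by
  induction h with
  | aut hQ hα hPQ hf =>
    exact (((mem_autGroup ((d.mem hQ).2.1.trans d.tsc.1)).1
      (d.aut_le hQ (pAuts_le p _ hα))).res hPQ).congr fun x hx => (hf x hx).symm
  | inner hP ht hf =>
    exact (isMap_conj F (hP.trans d.tsc.1) (d.tsc.1 ht)).congr fun x hx => (hf x hx).symm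
  | comp _ _ hm he ih₁ ih₂ => exact (ih₁.comp ih₂ hm).congr fun x hx => (he x hx).symm

theorem Gen.source_le {P : Subgroup Ω} {f : Ω → Ω} (h : Gen T p ℋ A P f) : P ≤ T := by
  induction h with
  | aut hQ _ hPQ _ => exact hPQ.trans (d.mem hQ).2.1
  | inner hP _ _ => exact hP
  | comp _ _ _ _ ih _ => exact ih

theorem Gen.apply_mem {P : Subgroup Ω} {f : Ω → Ω} (h : Gen T p ℋ A P f) {x : Ω} (hx : x ∈ P) :
    f x ∈ T :=
  StronglyClosed.apply_mem d.tsc (h.isMap d) (h.source_le d) hx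

theorem Gen.inv {P : Subgroup Ω} {f : Ω → Ω} (h : Gen T p ℋ A P f) :
    ∀ g : Ω → Ω, (∀ x ∈ P, g (f x) = x) → Gen T p ℋ A (fimg f P) g := by
  induction h with
  | @aut P Q α f hQ hα hPQ hf =>
    intro g hg
    refine .aut hQ (Subgroup.inv_mem _ hα)
      (fimg_le fun x hx => hf x hx ▸ autFun_mem α (hPQ hx)) fun y hy => ?_
    obtain ⟨x, hx, rfl⟩ := ((Gen.aut hQ hα hPQ hf).isMap d).mem_fimg_iff.1 hy
    rw [hg x hx, hf x hx, autFun_inv_apply α (hPQ hx)]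
  | @inner P t f hP ht hf =>
    intro g hg
    have h0 : Gen T p ℋ A P f := .inner hP ht hf
    refine .inner (fimg_le fun x hx => h0.apply_mem d hx) (T.inv_mem ht) fun y hy => ?_
    obtain ⟨x, hx, rfl⟩ := (h0.isMap d).mem_fimg_iff.1 hy
    rw [hg x hx, hf x hx]
    group
  | @comp P Q f₁ f₂ h hf₁ hf₂ hm he ih₁ ih₂ =>
    intro g hg
    obtain ⟨g₁, -, e₁, -, -⟩ := (hf₁.isMap d).exists_inv
    obtain ⟨g₂, -, e₂, -, -⟩ := (hf₂.isMap d).exists_inv
    have key : ∀ x ∈ P, g₂ (h x) = f₁ x := fun x hx => by rw [he x hx, e₂ _ (hm x hx)]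
    have hle : fimg h P ≤ fimg f₂ Q := fimg_le fun x hx => he x hx ▸ apply_mem_fimg f₂ (hm x hx)
    refine .comp ((ih₂ g₂ e₂).res hle) (ih₁ g₁ e₁) (fun y hy => ?_) fun y hy => ?_
    · obtain ⟨x, hx, rfl⟩ := ((Gen.comp hf₁ hf₂ hm he).isMap d).mem_fimg_iff.1 hy
      rw [key x hx]
      exact apply_mem_fimg f₁ hx
    · obtain ⟨x, hx, rfl⟩ := ((Gen.comp hf₁ hf₂ hm he).isMap d).mem_fimg_iff.1 hy
      rw [key x hx, hg x hx, e₁ x hx]

/-- Automorphisms of `T` in the system permute the generated maps. -/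
theorem Gen.twist {β : MulAut T} (hβ : β ∈ F.autGroup T) {P : Subgroup Ω} {f : Ω → Ω}
    (h : Gen T p ℋ A P f) :
    Gen T p ℋ A (fimg (autFun β) P) (fun y => autFun β (f (autFun β⁻¹ y))) := by
  have hb : IsMap F T (autFun β) := (mem_autGroup d.tsc.1).1 hβ
  have hinv : ∀ x ∈ T, autFun β⁻¹ (autFun β x) = x := fun x hx => autFun_inv_apply β hx
  induction h with
  | @aut P Q α f hQ hα hPQ hf =>
    have hQT := (d.mem hQ).2.1
    have hbQ := hb.res hQT
    obtain ⟨e, he, -⟩ := exists_mulEquiv hbQ rfl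
    refine .aut (d.transport hQ hbQ) (congr_pAuts p e
      (fun a ha => d.aut_natural hQ hbQ rfl e he ha) hα) (fimg_mono _ hPQ) fun y hy => ?_
    obtain ⟨x, hx, rfl⟩ := (hb.res (hPQ.trans hQT)).mem_fimg_iff.1 hy
    show autFun β (f (autFun β⁻¹ (autFun β x))) = autFun (MulAut.congr e α) (autFun β x)
    rw [hinv x (hQT (hPQ hx)), hf x hx, ← he ⟨x, hPQ hx⟩, autFun_coe,
      show autFun α x = ((α ⟨x, hPQ hx⟩ : Q) : Ω) from autFun_coe α ⟨x, hPQ hx⟩, ← he]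
    simp [MulAut.congr]
  | @inner P t f hP ht hf =>
    refine .inner (fimg_le fun x hx => autFun_mem β (hP hx)) (autFun_mem β ht) fun y hy => ?_
    obtain ⟨x, hx, rfl⟩ := (hb.res hP).mem_fimg_iff.1 hy
    show autFun β (f (autFun β⁻¹ (autFun β x))) = _
    rw [hinv x (hP hx), hf x hx, hb.map_conj ht (hP hx)]
  | @comp P Q f g h hf hg hm he ih₁ ih₂ =>
    have hPT := hf.source_le d
    refine .comp ih₁ ih₂ (fun y hy => ?_) fun y hy => ?_
    · obtain ⟨x, hx, rfl⟩ := (hb.res hPT).mem_fimg_iff.1 hy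
      show autFun β (f (autFun β⁻¹ (autFun β x))) ∈ _
      rw [hinv x (hPT hx)]
      exact apply_mem_fimg _ (hm x hx)
    · obtain ⟨x, hx, rfl⟩ := (hb.res hPT).mem_fimg_iff.1 hy
      show autFun β (h (autFun β⁻¹ (autFun β x))) =
        autFun β (g (autFun β⁻¹ (autFun β (f (autFun β⁻¹ (autFun β x))))))
      rw [hinv x (hPT hx), hinv _ (hf.apply_mem d hx), he x hx]

/-- The generated system. -/
noncomputable def genSys : FusionSystem T where
  Hom P := {φ | Gen T p ℋ A P (toFun φ)}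
  le_of_mem {P φ} h := ⟨h.source_le d, fun x => by
    rw [← toFun_coe φ x]; exact h.apply_mem d x.2⟩
  injective_of_mem {P φ} h := F.injective_of_mem
    (mem_hom_of_isMap (h.isMap d) fun x => (toFun_coe φ x).symm)
  conj_mem {P t} hP ht := .inner hP ht fun x hx => by rw [toFun_apply _ hx]; rfl
  comp_mem {P Q φ ψ} hφ hψ hmem := .comp hφ hψ
    (fun x hx => by rw [toFun_apply φ hx]; exact hmem _) fun x hx => by
      rw [toFun_apply φ hx, toFun_apply _ hx, toFun_apply ψ (hmem _)]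
      rfl
  inv_mem {P φ} hφ := by
    have hm := hφ.isMap d
    obtain ⟨ψ, hψ, hψe⟩ := F.inv_mem (mem_hom_of_isMap hm fun x => (toFun_coe φ x).symm)
    refine ⟨ψ, ?_, hψe⟩
    show Gen T p ℋ A φ.range (toFun ψ)
    refine (Gen.res (R := φ.range) (hφ.inv d (toFun ψ) fun x hx => ?_)
      (hm.range_eq_fimg fun x => (toFun_coe φ x).symm).le)
    rw [toFun_apply φ hx, toFun_apply ψ ⟨⟨x, hx⟩, rfl⟩]
    exact hψe ⟨x, hx⟩

theorem isMap_genSys {P : Subgroup Ω} {f : Ω → Ω} :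
    IsMap (genSys d) P f ↔ Gen T p ℋ A P f := by
  constructor
  · intro h
    obtain ⟨φ, hφ, hφe⟩ := h.exists_hom
    exact Gen.congr hφ fun x hx => ((toFun_apply φ hx).trans (hφe ⟨x, hx⟩)).symm
  · intro h
    obtain ⟨φ, -, hφe⟩ := (h.isMap d).exists_hom
    exact ⟨φ, h.congr fun x hx => by rw [toFun_apply φ hx, hφe], hφe⟩

theorem genSys_le : (genSys d).IsSubsystemOf F := fun _ φ h =>
  mem_hom_of_isMap (Gen.isMap d h) fun x => (toFun_coe φ x).symm

end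

end Cfsg.Agent.Fus.CentralLift
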