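import Cfsg.Agent.Lib.Fus.CentralLiftQuot
import Cfsg.Agent.Lib.Fus.CentralizerNormalExt

/-!
A normal subsystem of a central factor system lifts to a normal subsystem over the preimage of its
support.
-/

set_option autoImplicit false
set_option linter.style.haveILetI false
set_option linter.unusedSectionVars false

open scoped Classical Pointwise

universe u v

namespace Cfsg.Agent.Fus.CentralLift

open Subgroup FusionSystem

variable {Ω : Type u} [Group Ω] {S : Subgroup Ω} {F : FusionSystem S} {p : ℕ} {Z : Subgroup Ω}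
  {Ω' : Type v} [Group Ω'] {θ : S →* Ω'} {S' T' : Subgroup Ω'} {Fb : FusionSystem S'}
  {E' : FusionSystem T'}

/-- The family of subgroups over centric subgroups. -/
def fam (Z : Subgroup Ω) (θ : S →* Ω') (E' : FusionSystem T') (P : Subgroup Ω) : Prop :=
  Z ≤ P ∧ P ≤ preimageAlong θ T' ∧ E'.IsCentric (imageAlong θ P)

/-- The automorphisms inducing automorphisms of the subsystem. -/
def liftAuts (F : FusionSystem S) (θ : S →* Ω') (E' : FusionSystem T') (P : Subgroup Ω) :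
    Subgroup (MulAut P) where
  carrier := {α | α ∈ F.autGroup P ∧ (P ≤ S → ∃ β ∈ E'.autGroup (imageAlong θ P),
    ∀ x ∈ P, th θ (autFun α x) = autFun β (th θ x))}
  one_mem' := ⟨one_mem _, fun hP => ⟨1, one_mem _, fun x hx => by
    rw [autFun_one hx, autFun_one (th_mem_img hP hx)]⟩⟩
  mul_mem' := fun {a b} ha hb => ⟨mul_mem ha.1 hb.1, fun hP => by
    obtain ⟨β, hβ, he⟩ := ha.2 hP
    obtain ⟨γ, hγ, ke⟩ := hb.2 hP
    refine ⟨β * γ, mul_mem hβ hγ, fun x hx => ?_⟩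
    rw [autFun_mul _ _ hx, he _ (autFun_mem _ hx), ke x hx,
      autFun_mul _ _ (th_mem_img hP hx)]⟩
  inv_mem' := fun {a} ha => ⟨Subgroup.inv_mem _ ha.1, fun hP => by
    obtain ⟨β, hβ, he⟩ := ha.2 hP
    refine ⟨β⁻¹, Subgroup.inv_mem _ hβ, fun x hx => ?_⟩
    have h1 := he _ (autFun_mem a⁻¹ hx)
    rw [← autFun_mul _ _ hx, mul_inv_cancel, autFun_one hx] at h1
    rw [h1, autFun_inv_apply β (th_mem_img hP (autFun_mem a⁻¹ hx))]⟩

theorem mem_liftAuts {P : Subgroup Ω} (hP : P ≤ S) {α : MulAut P} :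
    α ∈ liftAuts F θ E' P ↔ α ∈ F.autGroup P ∧ ∃ β ∈ E'.autGroup (imageAlong θ P),
      ∀ x ∈ P, th θ (autFun α x) = autFun β (th θ x) :=
  ⟨fun h => ⟨h.1, h.2 hP⟩, fun h => ⟨h.1, fun _ => h.2⟩⟩

variable [Finite S] [Fact p.Prime] (q : Quot F p Z θ Fb E')
include q

theorem Quot.pre_le : preimageAlong θ T' ≤ S := preimageAlong_le T'

theorem Quot.img_le_top {P : Subgroup Ω} (hP : P ≤ preimageAlong θ T') :
    imageAlong θ P ≤ T' := fun y hy => by
  obtain ⟨x, hx, rfl⟩ := (mem_img (hP.trans q.pre_le)).1 hy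
  exact (mem_pre.1 (hP hx)).2

theorem Quot.z_le_top : Z ≤ preimageAlong θ T' := factor_le_preimage q.factor T'

theorem Quot.img_top : imageAlong θ (preimageAlong θ T') = T' :=
  imageAlong_preimageAlong (q.range_eq.symm ▸ q.tT)

theorem Quot.closed_top : F.StronglyClosed (preimageAlong θ T') := by
  refine stronglyClosed_of_forall q.pre_le fun R hR f hf x hx => ?_
  have hRZ : R ⊔ Z ≤ S := sup_le (hR.trans q.pre_le) q.zS
  obtain ⟨g, hg, hg1, -⟩ := (isCentral_iff.1 (isCentral_center F)).2 R f hf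
  have hg' : IsMap F (R ⊔ Z) g := hg.res (sup_le_sup_left q.central R)
  obtain ⟨f', hf', hfe, -⟩ := q.induced hRZ le_sup_right hg'
  have hle : R ⊔ Z ≤ preimageAlong θ T' := sup_le hR q.z_le_top
  have hsc : Fb.StronglyClosed T' := q.normal.1.2.2.2.1
  refine mem_pre.2 ⟨hf.apply_mem hx, ?_⟩
  rw [← hg1 x hx, ← hfe x (Subgroup.mem_sup_left hx)]
  exact StronglyClosed.apply_mem hsc hf' (q.img_le_top hle)
    (th_mem_img hRZ (Subgroup.mem_sup_left hx))

theorem Quot.transport {P : Subgroup Ω} {f : Ω → Ω} (hP : fam Z θ E' P) (hf : IsMap F P f) :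
    fam Z θ E' (fimg f P) := by
  obtain ⟨hZP, hPT, hc⟩ := hP
  obtain ⟨f', hf', -, hfi⟩ := q.induced (hPT.trans q.pre_le) hZP hf
  refine ⟨q.le_fimg hf hZP,
    fimg_le fun x hx => StronglyClosed.apply_mem q.closed_top hf hPT hx, ?_⟩
  rw [← hfi]
  haveI := q.finite'
  exact InvClass.centric_transport q.normal.1.2.2 hc hf'

/-- Automorphisms trivial modulo `Z` lie over the trivial automorphism. -/
theorem Quot.ker_le_liftAuts {P : Subgroup Ω} (hP : P ≤ S) : kerAuts F Z P ≤ liftAuts F θ E' P :=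
  fun α hα => (mem_liftAuts hP).2 ⟨hα.1, 1, one_mem _, fun x hx => by
    rw [autFun_one (th_mem_img hP hx)]
    exact ((q.th_eq_iff (hP hx) (hP (autFun_mem α hx))).2 (hα.2 x hx)).symm⟩

theorem Quot.mem_ker {P : Subgroup Ω} (hP : P ≤ S) {α : MulAut P} (hα : α ∈ F.autGroup P)
    (h : ∀ x ∈ P, th θ (autFun α x) = th θ x) : α ∈ kerAuts F Z P :=
  ⟨hα, fun x hx => (q.th_eq_iff (hP hx) (hP (autFun_mem α hx))).1 (h x hx).symm⟩

/-- A centric radical subgroup has centric radical image. -/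
theorem Quot.radical_img {R : Subgroup Ω} (hc : F.IsCentric R) (hr : F.IsRadical p R) :
    Z ≤ R ∧ Fb.IsCentric (imageAlong θ R) ∧ Fb.IsRadical p (imageAlong θ R) := by
  have hRS := hc.1
  haveI := finite_of_le hRS
  haveI := q.finite'
  have hZR : Z ≤ R := fun z hz => centralizerIn_le_of_centric hc
    ⟨q.zS hz, fun x hx => F.center_le_centralizer (q.central hz) x (hRS hx)⟩
  haveI : ((kerAuts F Z R).subgroupOf (F.autGroup R)).Normal := by
    refine ⟨fun k hk b => ⟨mul_mem (mul_mem b.2 k.2) (Subgroup.inv_mem _ b.2), fun x hx => ?_⟩⟩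
    have hy : autFun (b : MulAut R)⁻¹ x ∈ R := autFun_mem _ hx
    have hz : (autFun (b : MulAut R)⁻¹ x)⁻¹ * autFun (k : MulAut R) (autFun (b : MulAut R)⁻¹ x) ∈ Z :=
      hk.2 _ hy
    have hb := (mem_autGroup hRS).1 b.2
    have hzR : (autFun (b : MulAut R)⁻¹ x)⁻¹ * autFun (k : MulAut R) (autFun (b : MulAut R)⁻¹ x) ∈
        R := mul_mem (Subgroup.inv_mem _ hy) (autFun_mem _ hy)
    have h2 := q.fixes hb hz hzR
    rw [hb.map_mul (Subgroup.inv_mem _ hy) (autFun_mem _ hy), hb.map_inv hy,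
      show autFun (b : MulAut R) (autFun (b : MulAut R)⁻¹ x) = x by
        rw [← autFun_mul _ _ hx, mul_inv_cancel, autFun_one hx]] at h2
    show x⁻¹ * autFun ((b : MulAut R) * (k : MulAut R) * (b : MulAut R)⁻¹) x ∈ Z
    rw [autFun_mul _ _ hx, autFun_mul _ _ hy, h2]
    exact hz
  have hKp : IsPGroup p ((kerAuts F Z R).subgroupOf (F.autGroup R)) := by
    refine IsPGroup.comap_subtype ?_
    intro a
    obtain ⟨l, hl⟩ := (q.pgroup.to_le hRS).exists_card_eq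
    refine ⟨l, Subtype.ext (mulAut_ext fun x hx => ?_)⟩
    have ha := (mem_autGroup hRS).1 a.2.1
    have hz : x⁻¹ * autFun (a : MulAut R) x ∈ R := mul_mem (Subgroup.inv_mem _ hx) (autFun_mem _ hx)
    have hit : ∀ r : ℕ, autFun ((a : MulAut R) ^ r) x = x * (x⁻¹ * autFun (a : MulAut R) x) ^ r := by
      intro r
      induction r with
      | zero => rw [pow_zero, autFun_one hx, pow_zero, mul_one]
      | succ r ih =>
        rw [pow_succ', autFun_mul _ _ hx, ih, ha.map_mul hx (pow_mem hz r),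
          q.fixes ha (Subgroup.pow_mem _ (a.2.2 x hx) r) (pow_mem hz r), pow_succ', ← mul_assoc,
          mul_inv_cancel_left]
    have h2 : (x⁻¹ * autFun (a : MulAut R) x) ^ Nat.card R = 1 :=
      congrArg Subtype.val (pow_card_eq_one' : (⟨_, hz⟩ : R) ^ Nat.card R = 1)
    rw [SubmonoidClass.coe_pow, OneMemClass.coe_one, autFun_one hx, hit, ← hl, h2, mul_one]
  have hker : ∀ κ ∈ kerAuts F Z R, κ ∈ Inn R := fun κ hκ => by
    rw [← hr.2]
    exact ⟨⟨κ, hκ.1⟩, Grp.le_pCore inferInstance hKp hκ, rfl⟩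
  refine ⟨hZR, ⟨q.img_le hRS, fun Q' hQ' => ?_⟩, q.img_le hRS, ?_⟩
  · obtain ⟨g', hg', rfl⟩ := isConj_iff.1 hQ'
    obtain ⟨g, hg, hge, hgi⟩ := q.lift hRS hZR hg'
    rw [← hgi]
    have hgS := hg.fimg_le_S
    have hZg := q.le_fimg hg hZR
    intro y hy
    obtain ⟨s, hs, rfl⟩ := q.exists_th hy.1
    refine th_mem_img hgS ?_
    have hsn : s ∈ Subgroup.normalizer (fimg g R : Set Ω) :=
      q.mem_normalizer hgS hZg hs (Subgroup.centralizer_le_normalizer _ hy.2)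
    obtain ⟨g₁, hg₁, hg1, hg2, hg3⟩ := hg.exists_inv
    have hsmem : ∀ x ∈ R, s * g x * s⁻¹ ∈ fimg g R := fun x hx =>
      (Subgroup.mem_normalizer_iff.1 hsn _).1 (apply_mem_fimg g hx)
    have hm : IsMap F R (fun x => g₁ (s * g x * s⁻¹)) :=
      (hg.comp (isMap_conj F hgS hs) fun x hx => apply_mem_fimg g hx).comp hg₁ hsmem
    obtain ⟨κ, hκ, hκe⟩ := hm.exists_aut (Subgroup.eq_of_le_of_card_ge
      (fimg_le fun x hx => (hg2 _ (hsmem x hx)).1) hm.card_fimg.ge)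
    obtain ⟨u, hu⟩ := hker κ ⟨hκ, fun x hx => by
      have hd : (g x)⁻¹ * (s * g x * s⁻¹) ∈ Z := by
        rw [← q.th_eq_iff (hg.apply_mem hx) (hgS (hsmem x hx)), th_conj hs (hg.apply_mem hx),
          ← hy.2 _ (th_mem_img hgS (apply_mem_fimg g hx)), mul_inv_cancel_right]
      have hgx := apply_mem_fimg g hx
      have h2 := q.fixes hg₁ hd (mul_mem (Subgroup.inv_mem _ hgx) (hsmem x hx))
      rw [hg₁.map_mul (Subgroup.inv_mem _ hgx) (hsmem x hx), hg₁.map_inv hgx, hg1 x hx] at h2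
      rw [hκe x hx, h2]
      exact hd⟩
    have hc' : (g u)⁻¹ * s ∈ centralizerIn S (fimg g R) := by
      refine mem_centralizerIn.2 ⟨S.mul_mem (S.inv_mem (hg.apply_mem u.2)) hs, fun z hz => ?_⟩
      obtain ⟨x, hx, rfl⟩ := hg.mem_fimg_iff.1 hz
      have h1 : (u : Ω) * x * (u : Ω)⁻¹ = g₁ (s * g x * s⁻¹) := by
        rw [← hκe x hx, ← hu]
        exact (autFun_coe (MulAut.conj u) ⟨x, hx⟩).symm
      have h2 : g u * g x * (g u)⁻¹ = s * g x * s⁻¹ := by
        rw [← hg.map_conj u.2 hx, h1, (hg2 _ (hsmem x hx)).2]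
      calc g x * ((g u)⁻¹ * s) = (g u)⁻¹ * (g u * g x * (g u)⁻¹) * s := by group
        _ = (g u)⁻¹ * s * g x := by rw [h2]; group
    have := (centric_of_isConj hc hg.isConj).2 _ (isConj_refl F hgS) hc'
    simpa using mul_mem (apply_mem_fimg g u.2) this
  · set R' := imageAlong θ R
    haveI : Finite R' := finite_of_le (q.img_le hRS)
    have hex : ∀ α : F.autGroup R, ∃ β : Fb.autGroup R',
        ∀ x ∈ R, autFun (β : MulAut R') (th θ x) = th θ (autFun (α : MulAut R) x) := fun α => by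
      obtain ⟨f', hf', hfe, hfi⟩ := q.induced hRS hZR ((mem_autGroup hRS).1 α.2)
      rw [fimg_autFun] at hfi
      obtain ⟨β, hβ, hβe⟩ := hf'.exists_aut hfi
      exact ⟨⟨β, hβ⟩, fun x hx => by rw [hβe _ (th_mem_img hRS hx), hfe x hx]⟩
    choose π hπ using hex
    let ϕ : F.autGroup R →* Fb.autGroup R' := MonoidHom.mk' π fun a b =>
      Subtype.ext (mulAut_ext fun y hy => by
        obtain ⟨x, hx, rfl⟩ := (mem_img hRS).1 hy
        rw [hπ (a * b) x hx, Subgroup.coe_mul, Subgroup.coe_mul, autFun_mul _ _ (th_mem_img hRS hx),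
          hπ b x hx, hπ a _ (autFun_mem _ hx), autFun_mul _ _ hx])
    have hsurj : Function.Surjective ϕ := by
      rintro ⟨β, hβ⟩
      obtain ⟨g, hg, hge, hgi⟩ := q.lift hRS hZR ((mem_autGroup (q.img_le hRS)).1 hβ)
      rw [fimg_autFun] at hgi
      obtain ⟨α, hα, hαe⟩ := hg.exists_aut (q.fimg_eq hg hZR hRS hZR hgi)
      refine ⟨⟨α, hα⟩, Subtype.ext (mulAut_ext fun y hy => ?_)⟩
      obtain ⟨x, hx, rfl⟩ := (mem_img hRS).1 hy
      show autFun (π ⟨α, hα⟩ : MulAut R') (th θ x) = _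
      rw [hπ ⟨α, hα⟩ x hx, hαe x hx, hge x hx]
    have hkerP : IsPGroup p ϕ.ker := by
      refine hKp.to_le fun a ha => q.mem_ker hRS a.2 fun x hx => ?_
      show th θ (autFun (a : MulAut R) x) = th θ x
      rw [← hπ a x hx, show π a = 1 from ha, OneMemClass.coe_one, autFun_one (th_mem_img hRS hx)]
    have hInn : ∀ u : R, (ϕ ⟨MulAut.conj u, inn_le_autGroup F hRS ⟨u, rfl⟩⟩ : MulAut R') =
        MulAut.conj (⟨th θ u, th_mem_img hRS u.2⟩ : R') := fun u => mulAut_ext fun y hy => by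
      obtain ⟨x, hx, rfl⟩ := (mem_img hRS).1 hy
      show autFun (π _ : MulAut R') (th θ x) = _
      rw [hπ _ x hx, show autFun (MulAut.conj u) x = (u : Ω) * x * (u : Ω)⁻¹ from
          autFun_coe (MulAut.conj u) ⟨x, hx⟩, th_conj (hRS u.2) (hRS hx)]
      exact (autFun_coe (MulAut.conj (⟨th θ u, th_mem_img hRS u.2⟩ : R'))
        (⟨th θ x, th_mem_img hRS hx⟩ : R')).symm
    refine le_antisymm ?_ ?_
    · rintro _ ⟨c, hc', rfl⟩
      obtain ⟨a, rfl⟩ := hsurj c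
      have ha : a ∈ pCore p ↥(F.autGroup R) :=
        Grp.le_pCore ((Grp.pCore_isNormal (p := p) (G := ↥(Fb.autGroup R'))).comap ϕ)
          ((Grp.pCore_isPGroup (p := p)).comap_of_ker_isPGroup ϕ hkerP) hc'
      obtain ⟨u, hu⟩ : (a : MulAut R) ∈ Inn R := by
        rw [← hr.2]; exact ⟨a, ha, rfl⟩
      refine ⟨⟨th θ u, th_mem_img hRS u.2⟩, ?_⟩
      show MulAut.conj _ = (ϕ a : MulAut R')
      rw [← hInn u]
      exact congrArg (fun b => (ϕ b : MulAut R')) (Subtype.ext hu)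
    · rintro _ ⟨⟨y, hy⟩, rfl⟩
      obtain ⟨x, hx, rfl⟩ := (mem_img hRS).1 hy
      obtain ⟨b, hb, hbe⟩ : MulAut.conj (⟨x, hx⟩ : R) ∈
          (pCore p ↥(F.autGroup R)).map (F.autGroup R).subtype := by
        rw [hr.2]; exact ⟨_, rfl⟩
      refine ⟨ϕ b, Grp.le_pCore ((Grp.pCore_isNormal (p := p) (G := ↥(F.autGroup R))).map ϕ hsurj)
        ((Grp.pCore_isPGroup (p := p)).map ϕ) ⟨b, hb, rfl⟩, ?_⟩
      refine Eq.trans ?_ (hInn ⟨x, hx⟩)
      exact congrArg (fun b => (ϕ b : MulAut R')) (Subtype.ext hbe)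

/-- The data of the lift. -/
theorem Quot.ctx : Ctx F p Z (preimageAlong θ T') (fam Z θ E') (liftAuts F θ E') := by
  haveI := q.finite'
  haveI : Finite T' := finite_of_le q.tT
  have hT := q.closed_top
  have hPS : ∀ {P}, fam Z θ E' P → P ≤ S := fun h => h.2.1.trans q.pre_le
  have hEs : E'.IsSaturated p := q.normal.1.1
  have hinv : E'.IsInvariantIn Fb := q.normal.1.2.2
  refine
    { pgroup := q.pgroup
      sat := q.sat
      central := q.central
      tsc := hT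
      zT := q.z_le_top
      mem := fun {P} h => ⟨h.1, h.2.1, fun x hx => ?_⟩
      top := ⟨q.z_le_top, le_rfl, q.img_top.symm ▸ centric_self E'⟩
      up := fun {P Q} h hPQ hQ =>
        ⟨h.1.trans hPQ, hQ, centric_mono h.2.2 (img_mono hPQ) (q.img_le_top hQ)⟩
      transport := fun h hf => q.transport h hf
      bad := ?_
      radical := ?_
      aut_le := fun _ _ h => h.1
      aut_natural := ?_
      aut_inner := ?_
      aut_ker := fun h => q.ker_le_liftAuts (hPS h)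
      aut_res := ?_
      aut_sylow := ?_
      aut_ext := ?_
      aut_up := ?_ }
  · refine q.mem_of_th (hPS h) h.1 (q.pre_le hx.1) (centralizerIn_le_of_centric h.2.2
      ⟨(mem_pre.1 hx.1).2, fun y hy => ?_⟩)
    obtain ⟨w, hw, rfl⟩ := (mem_img (hPS h)).1 hy
    rw [← th_mul (hPS h hw) (q.pre_le hx.1), hx.2 w hw, th_mul (q.pre_le hx.1) (hPS h hw)]
  · intro P hPT hZP hP
    have hPS' := hPT.trans q.pre_le
    obtain ⟨R', hR', hR'n⟩ : ∃ R', E'.IsConj (imageAlong θ P) R' ∧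
        ¬ centralizerIn T' R' ≤ R' := by
      by_contra hno
      exact hP ⟨hZP, hPT, q.img_le_top hPT, fun R' hR' => not_not.1 fun h => hno ⟨R', hR', h⟩⟩
    obtain ⟨g', hg', rfl⟩ := isConj_iff.1 hR'
    obtain ⟨g, hg, hge, hgi⟩ := q.lift hPS' hZP (hg'.mono hinv.1)
    obtain ⟨y, hy, hyR⟩ := SetLike.not_le_iff_exists.1 hR'n
    obtain ⟨x, hx, rfl⟩ := q.exists_th (q.tT hy.1)
    refine ⟨g, hg, x, mem_pre.2 ⟨hx, hy.1⟩, fun h => hyR (hgi ▸ th_mem_img hg.fimg_le_S h),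
      fun w hw => ?_⟩
    have hwS := hg.fimg_le_S hw
    rw [← q.th_eq_iff hwS (S.mul_mem (S.mul_mem hx hwS) (S.inv_mem hx)), th_conj hx hwS,
      ← hy.2 _ (hgi ▸ th_mem_img hg.fimg_le_S hw), mul_inv_cancel_right]
  · intro R hc hr
    obtain ⟨hZR, hc', hr'⟩ := q.radical_img hc hr
    refine ⟨le_inf hZR q.z_le_top, inf_le_right, ?_⟩
    have heq : imageAlong θ (R ⊓ preimageAlong θ T') = imageAlong θ R ⊓ T' := by
      refine le_antisymm (le_inf (img_mono inf_le_left) (q.img_le_top inf_le_right)) fun y hy => ?_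
      obtain ⟨x, hx, rfl⟩ := (mem_img hc.1).1 hy.1
      exact th_mem_img (inf_le_left.trans hc.1) ⟨hx, mem_pre.2 ⟨hc.1 hx, hy.2⟩⟩
    rw [heq]
    exact CentNormal.centric_inf_of_radical q.pgroup' q.normal.1.2.1 hinv hc' hr'
  · intro P Q f hP hf hfQ e he α hα
    obtain ⟨hαF, β, hβ, hβe⟩ := (mem_liftAuts (hPS hP)).1 hα
    obtain ⟨f', hf', hfe, hfi⟩ := q.induced (hPS hP) hP.1 hf
    rw [hfQ] at hfi
    have hQS : Q ≤ S := hfQ ▸ hf.fimg_le_S
    obtain ⟨e', he', -⟩ := exists_mulEquiv hf' hfi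
    obtain ⟨e₀, he₀, heA⟩ := exists_mulEquiv hf hfQ
    have hee : e = e₀ := MulEquiv.ext fun x => Subtype.ext ((he x).trans (he₀ x).symm)
    refine (mem_liftAuts hQS).2 ⟨hee ▸ (heA α).1 hαF, MulAut.congr e' β,
      InvClass.congr_autGroup hinv (q.img_le_top hP.2.1) hf' hfi e' he' hβ, fun y hy => ?_⟩
    obtain ⟨x, hx⟩ := e.surjective ⟨y, hy⟩
    have hxy : f (x : Ω) = y := (he x).symm.trans (congrArg Subtype.val hx)
    subst hxy
    rw [show autFun (MulAut.congr e α) (f x) = ((MulAut.congr e α (e x) : Q) : Ω) by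
        rw [← he, autFun_coe],
      show MulAut.congr e α (e x) = e (α x) by simp [MulAut.congr], he,
      ← autFun_coe α x, ← hfe _ (autFun_mem α x.2), hβe _ x.2, ← hfe _ x.2,
      ← he' ⟨th θ x, th_mem_img (hPS hP) x.2⟩, autFun_coe,
      show MulAut.congr e' β (e' ⟨th θ x, th_mem_img (hPS hP) x.2⟩) =
        e' (β ⟨th θ x, th_mem_img (hPS hP) x.2⟩) by simp [MulAut.congr], he', ← autFun_coe]
  · intro P hP α hα
    obtain ⟨t, ht, hte⟩ := mem_autInducedBy.1 hα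
    have htS := q.pre_le ht
    have hn := q.th_normalizer (hPS hP) htS (mem_normalizer_of_conj_aut hte)
    refine (mem_liftAuts (hPS hP)).2 ⟨autInducedBy_le_autGroup F (hPS hP)
      (autInducedBy_mono q.pre_le P hα), (imageAlong θ P).normalizerMonoidHom ⟨th θ t, hn⟩,
      autInducedBy_le_autGroup E' (q.img_le_top hP.2.1)
        (mem_autInducedBy.2 ⟨th θ t, (mem_pre.1 ht).2, fun _ => rfl⟩), fun x hx => ?_⟩
    rw [show autFun α x = ((α ⟨x, hx⟩ : P) : Ω) from autFun_coe α ⟨x, hx⟩, hte,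
      th_conj htS (hPS hP hx)]
    exact (autFun_coe ((imageAlong θ P).normalizerMonoidHom ⟨th θ t, hn⟩)
      (⟨th θ x, th_mem_img (hPS hP) hx⟩ : imageAlong θ P)).symm
  · intro P Q hP hQ hPQ α β hα he
    obtain ⟨hαF, γ, hγ, hγe⟩ := (mem_liftAuts (hPS hQ)).1 hα
    have hβF : β ∈ F.autGroup P := (mem_autGroup (hPS hP)).2
      ((((mem_autGroup (hPS hQ)).1 hαF).res hPQ).congr fun x hx => (he x hx).symm)
    have hle : imageAlong θ P ≤ imageAlong θ Q := img_mono hPQ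
    have hval : ∀ x ∈ P, autFun γ (th θ x) = th θ (autFun β x) := fun x hx => by
      rw [he x hx, hγe x (hPQ hx)]
    have hm := ((mem_autGroup (q.img_le_top hQ.2.1)).1 hγ).res hle
    haveI : Finite ↥(imageAlong θ P) := finite_of_le (q.img_le (hPS hP))
    obtain ⟨δ, hδ, hδe⟩ := hm.exists_aut (Subgroup.eq_of_le_of_card_ge (fimg_le fun y hy => by
      obtain ⟨x, hx, rfl⟩ := (mem_img (hPS hP)).1 hy
      rw [hval x hx]
      exact th_mem_img (hPS hP) (autFun_mem β hx)) hm.card_fimg.ge)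
    exact (mem_liftAuts (hPS hP)).2 ⟨hβF, δ, hδ, fun x hx => by
      rw [hδe _ (th_mem_img (hPS hP) hx), hval x hx]⟩
  · intro Q hQ hn χ hχ hχS
    obtain ⟨hχF, β, hβ, hβe⟩ := (mem_liftAuts (hPS hQ)).1 hχ
    obtain ⟨s, hs, hse⟩ := mem_autInducedBy.1 hχS
    have hQn : E'.IsFullyNormalized (imageAlong θ Q) :=
      InvExt.fullyNormalized_sub q.pgroup' q.normal.1.2.1 hinv.2.1 hinv.1 (q.img_le_top hQ.2.1)
        (q.fullyNormalized hn hQ.1)
    have hβS : β ∈ autInducedBy S' (imageAlong θ Q) := by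
      refine mem_autInducedBy.2 ⟨th θ s, q.th_mem hs, fun y => ?_⟩
      obtain ⟨x, hx, hxe⟩ := (mem_img (hPS hQ)).1 y.2
      rw [← autFun_coe, ← hxe, ← hβe x hx, show autFun χ x = ((χ ⟨x, hx⟩ : Q) : Ω) from
        autFun_coe χ ⟨x, hx⟩, hse, th_conj hs (hPS hQ hx)]
    obtain ⟨t', ht', hte⟩ :=
      mem_autInducedBy.1 (InvExt.inducedBy_of_mem q.pgroup' q.tT hEs hQn hβ hβS)
    obtain ⟨t, ht, rfl⟩ := q.exists_th (q.tT ht')
    have htn := q.mem_normalizer (hPS hQ) hQ.1 ht (mem_normalizer_of_conj_aut hte)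
    let τ : MulAut Q := Q.normalizerMonoidHom ⟨t, htn⟩
    have hτ : τ ∈ autInducedBy (preimageAlong θ T') Q :=
      mem_autInducedBy.2 ⟨t, mem_pre.2 ⟨ht, ht'⟩, fun _ => rfl⟩
    have hτF : τ ∈ F.autGroup Q :=
      autInducedBy_le_autGroup F (hPS hQ) (autInducedBy_mono q.pre_le Q hτ)
    refine ⟨τ, hτ, q.mem_ker (hPS hQ) (mul_mem (Subgroup.inv_mem _ hτF) hχF) fun x hx => ?_⟩
    have hy : autFun (τ⁻¹ * χ) x ∈ Q := autFun_mem _ hx
    have h1 : autFun τ (autFun (τ⁻¹ * χ) x) = autFun χ x := by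
      rw [← autFun_mul _ _ hx, mul_inv_cancel_left]
    have h2 : th θ t * th θ (autFun (τ⁻¹ * χ) x) * (th θ t)⁻¹ =
        th θ t * th θ x * (th θ t)⁻¹ := by
      rw [← th_conj ht (hPS hQ hy), show t * autFun (τ⁻¹ * χ) x * t⁻¹ = autFun τ _ from
          (autFun_coe τ ⟨_, hy⟩).symm, h1, hβe x hx, autFun_coe β ⟨_, th_mem_img (hPS hQ) hx⟩]
      exact hte _
    exact mul_left_cancel (mul_right_cancel h2)
  · intro Q hQ hn α hα _
    obtain ⟨hαF, β, hβ, hβe⟩ := (mem_liftAuts (hPS hQ)).1 hα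
    obtain ⟨g', hg', hge', hgc⟩ :=
      InvExt.exists_triv q.pgroup' q.normal.1.2.1 q.normal hQ.2.2 (q.fullyNormalized hn hQ.1) hβ
    set W' := imageAlong θ Q ⊔ centralizerIn S' (imageAlong θ Q)
    obtain ⟨U, hUdef⟩ : ∃ U, U = preimageAlong θ W' := ⟨_, rfl⟩
    have hW'S : W' ≤ S' := sup_le (q.img_le (hPS hQ)) inf_le_left
    have hUimg : imageAlong θ U = W' := hUdef ▸ imageAlong_preimageAlong (q.range_eq.symm ▸ hW'S)
    have hUS : U ≤ S := hUdef ▸ preimageAlong_le W'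
    have hQU : Q ≤ U := fun x hx =>
      hUdef ▸ mem_pre.2 ⟨hPS hQ hx, Subgroup.mem_sup_left (th_mem_img (hPS hQ) hx)⟩
    obtain ⟨g, hg, hge, -⟩ := q.lift hUS (hQ.1.trans hQU) (hUimg.symm ▸ hg')
    have hgQ : ∀ x ∈ Q, g x ∈ Q := fun x hx => by
      refine q.mem_of_th (hPS hQ) hQ.1 (hg.apply_mem (hQU hx)) ?_
      rw [hge x (hQU hx), hge' _ (th_mem_img (hPS hQ) hx)]
      exact autFun_mem _ (th_mem_img (hPS hQ) hx)
    haveI := finite_of_le (hPS hQ)
    obtain ⟨ε, hε, hεe⟩ := (hg.res hQU).exists_aut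
      (Subgroup.eq_of_le_of_card_ge (fimg_le hgQ) (hg.res hQU).card_fimg.ge)
    refine ⟨g, ε * α⁻¹, q.mem_ker (hPS hQ) (mul_mem hε (Subgroup.inv_mem _ hαF)) fun x hx => ?_,
      fun W hW => ?_⟩
    · have hy : autFun α⁻¹ x ∈ Q := autFun_mem _ hx
      rw [autFun_mul _ _ hx, hεe _ hy, hge _ (hQU hy), hge' _ (th_mem_img (hPS hQ) hy),
        ← hβe _ hy, ← autFun_mul _ _ hx, mul_inv_cancel, autFun_one hx]
    have hWC : ∀ w ∈ W, th θ w ∈ centralizerIn S' (imageAlong θ Q) := fun w hw => by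
      refine mem_centralizerIn.2 ⟨q.th_mem (hW w hw).1.1, fun y hy => ?_⟩
      obtain ⟨x, hx, rfl⟩ := (mem_img (hPS hQ)).1 hy
      have h1 := (q.th_eq_iff (hPS hQ hx) (S.mul_mem (S.mul_mem (hW w hw).1.1 (hPS hQ hx))
        (S.inv_mem (hW w hw).1.1))).2 ((hW w hw).2 x hx)
      rw [th_conj (hW w hw).1.1 (hPS hQ hx)] at h1
      conv_lhs => rw [h1]
      group
    have hWU : Q ⊔ W ≤ U := sup_le hQU fun w hw =>
      hUdef ▸ mem_pre.2 ⟨(hW w hw).1.1, Subgroup.mem_sup_right (hWC w hw)⟩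
    refine ⟨hg.res hWU, fun x hx => ?_, fun w hw => mem_pre.2 ⟨?_, ?_⟩⟩
    · rw [inv_mul_cancel_right, hεe x hx]
    · exact S.mul_mem (S.inv_mem (hW w hw).1.1) (hg.apply_mem (hWU (Subgroup.mem_sup_right hw)))
    · rw [th_mul (S.inv_mem (hW w hw).1.1) (hg.apply_mem (hWU (Subgroup.mem_sup_right hw))),
        th_inv (hW w hw).1.1, hge _ (hWU (Subgroup.mem_sup_right hw))]
      exact hgc _ (hWC w hw)
  · intro Q hQ hn α hα hnorm
    obtain ⟨hαF, β, hβ, hβe⟩ := (mem_liftAuts (hPS hQ)).1 hα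
    have hT'p : IsPGroup p T' := q.pgroup'.to_le q.tT
    have hQn : E'.IsFullyNormalized (imageAlong θ Q) :=
      InvExt.fullyNormalized_sub q.pgroup' q.normal.1.2.1 hinv.2.1 hinv.1 (q.img_le_top hQ.2.1)
        (q.fullyNormalized hn hQ.1)
    set N := normalizerIn (preimageAlong θ T') Q
    have hNS : N ≤ S := inf_le_left.trans q.pre_le
    have hQN : Q ≤ N := le_normalizerIn hQ.2.1
    have hNimg : imageAlong θ N = normalizerIn T' (imageAlong θ Q) := by
      refine le_antisymm (fun y hy => ?_) fun y hy => ?_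
      · obtain ⟨x, hx, rfl⟩ := (mem_img hNS).1 hy
        exact ⟨(mem_pre.1 hx.1).2, q.th_normalizer (hPS hQ) (q.pre_le hx.1) hx.2⟩
      · obtain ⟨x, hx, rfl⟩ := q.exists_th (q.tT hy.1)
        exact th_mem_img hNS ⟨mem_pre.2 ⟨hx, hy.1⟩, q.mem_normalizer (hPS hQ) hQ.1 hx hy.2⟩
    obtain ⟨g', hg', hge'⟩ := receptive_extend
      (receptive_of_fullyNormalized hT'p hEs hQn)
      ((mem_autGroup (q.img_le_top hQ.2.1)).1 hβ) (fimg_autFun β)
      (N := normalizerIn T' (imageAlong θ Q)) (fun y hy => by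
        refine ⟨hy, ?_⟩
        obtain ⟨t, ht, rfl⟩ := (mem_img hNS).1 (hNimg.symm ▸ hy)
        have htS := q.pre_le ht.1
        obtain ⟨k, hk, hke⟩ := mem_autInducedBy.1 (hnorm _ (mem_autInducedBy.2
          (⟨t, ht.1, fun _ => rfl⟩ : ∃ k ∈ preimageAlong θ T', ∀ x : Q,
            ((Q.normalizerMonoidHom ⟨t, ht.2⟩) x : Ω) = k * x * k⁻¹)))
        refine ⟨th θ k, (mem_pre.1 hk).2, fun y hy => ?_⟩
        obtain ⟨x, hx, rfl⟩ := (mem_img (hPS hQ)).1 hy
        have hx' := (Subgroup.mem_normalizer_iff.1 ht.2 x).1 hx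
        rw [← th_conj htS (hPS hQ hx), ← hβe _ hx', ← hβe x hx,
          ← th_conj (q.pre_le hk) (hPS hQ (autFun_mem α hx))]
        congr 1
        have h1 := hke (α ⟨x, hx⟩)
        rw [MulAut.mul_apply, MulAut.mul_apply, MulAut.inv_apply_self] at h1
        rw [show autFun α x = ((α ⟨x, hx⟩ : Q) : Ω) from autFun_coe α ⟨x, hx⟩, ← h1]
        exact autFun_coe α ⟨_, hx'⟩) (hNimg ▸ img_mono hQN)
    have hQimg : imageAlong θ Q ≤ normalizerIn T' (imageAlong θ Q) := hNimg ▸ img_mono hQN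
    haveI : Finite ↥(normalizerIn T' (imageAlong θ Q)) := finite_of_le (S := T') inf_le_left
    have hg'N : fimg g' (normalizerIn T' (imageAlong θ Q)) = normalizerIn T' (imageAlong θ Q) := by
      refine Subgroup.eq_of_le_of_card_ge (fimg_le fun y hy => ?_) hg'.card_fimg.ge
      have h1 := hg'.map_normalizerIn hQimg hy hy.2
      rwa [show fimg g' (imageAlong θ Q) = imageAlong θ Q from
        (fimg_congr hge').trans (fimg_autFun β)] at h1
    obtain ⟨δ, hδ, hδe⟩ := hg'.exists_aut hg'N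
    obtain ⟨g, hg, hge, hgi⟩ := q.lift hNS (hQ.1.trans hQN) (hNimg.symm ▸ hg'.mono hinv.1)
    have hgN : fimg g N = N := by
      refine q.fimg_eq hg (hQ.1.trans hQN) hNS (hQ.1.trans hQN) ?_
      rw [hgi, hNimg]
      exact hg'N
    obtain ⟨γ, hγ, hγe⟩ := hg.exists_aut hgN
    have hgQ : ∀ x ∈ Q, g x ∈ Q := fun x hx => by
      refine q.mem_of_th (hPS hQ) hQ.1 (hg.apply_mem (hQN hx)) ?_
      rw [hge x (hQN hx), hge' _ (th_mem_img (hPS hQ) hx)]
      exact autFun_mem _ (th_mem_img (hPS hQ) hx)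
    haveI := finite_of_le (hPS hQ)
    obtain ⟨ε, hε, hεe⟩ := (hg.res hQN).exists_aut
      (Subgroup.eq_of_le_of_card_ge (fimg_le hgQ) (hg.res hQN).card_fimg.ge)
    have hδ' : ∃ δ ∈ E'.autGroup (imageAlong θ N), ∀ x ∈ N,
        th θ (autFun γ x) = autFun δ (th θ x) := by
      rw [hNimg]
      exact ⟨δ, hδ, fun x hx => by
        rw [hγe x hx, hge x hx, hδe _ (hNimg ▸ th_mem_img hNS hx)]⟩
    refine ⟨γ, (mem_liftAuts hNS).2 ⟨hγ, hδ'⟩, ε * α⁻¹,
      q.mem_ker (hPS hQ) (mul_mem hε (Subgroup.inv_mem _ hαF)) fun x hx => ?_, fun x hx => ?_⟩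
    · have hy : autFun α⁻¹ x ∈ Q := autFun_mem _ hx
      rw [autFun_mul _ _ hx, hεe _ hy, hge _ (hQN hy), hge' _ (th_mem_img (hPS hQ) hy),
        ← hβe _ hy, ← autFun_mul _ _ hx, mul_inv_cancel, autFun_one hx]
    · rw [inv_mul_cancel_right, hεe x hx, hγe x (hQN hx)]

/-- The lifted subsystem. -/
theorem Quot.exists_normal : ∃ D : FusionSystem (preimageAlong θ T'), D.IsNormalIn F p :=
  ⟨genSys q.ctx, genSys_isNormalIn q.ctx⟩

end Cfsg.Agent.Fus.CentralLift
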