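import Cfsg.Agent.Lib.Fus.CentralLiftLocal

/-!
Every map of the system on a subgroup of `T` is an automorphism of `T` after a lifted map.
-/

set_option autoImplicit false
set_option linter.style.haveILetI false
set_option linter.unusedSectionVars false

open scoped Classical

universe u

namespace Cfsg.Agent.Fus.CentralLift

open Subgroup FusionSystem

variable {Ω : Type u} [Group Ω] {S : Subgroup Ω} {F : FusionSystem S} {p : ℕ} {Z T : Subgroup Ω}
  {ℋ : Subgroup Ω → Prop} {A : (P : Subgroup Ω) → Subgroup (MulAut P)}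

/-- An automorphism of `T` after a generated map. -/
def Dec (F : FusionSystem S) (T : Subgroup Ω) (p : ℕ) (ℋ : Subgroup Ω → Prop)
    (A : (P : Subgroup Ω) → Subgroup (MulAut P)) (P : Subgroup Ω) (f : Ω → Ω) : Prop :=
  ∃ α ∈ F.autGroup T, ∃ e, Gen T p ℋ A P e ∧ ∀ x ∈ P, f x = autFun α (e x)

theorem Dec.congr {P : Subgroup Ω} {f g : Ω → Ω} (h : Dec F T p ℋ A P f)
    (e : ∀ x ∈ P, f x = g x) : Dec F T p ℋ A P g :=
  let ⟨α, hα, e₀, he₀, hfe⟩ := h
  ⟨α, hα, e₀, he₀, fun x hx => (e x hx).symm.trans (hfe x hx)⟩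

theorem Dec.res {P Q : Subgroup Ω} {f : Ω → Ω} (h : Dec F T p ℋ A Q f) (hPQ : P ≤ Q) :
    Dec F T p ℋ A P f :=
  let ⟨α, hα, e₀, he₀, hfe⟩ := h
  ⟨α, hα, e₀, he₀.res hPQ, fun x hx => hfe x (hPQ hx)⟩

/-- Automorphisms in the lifted group are generated maps. -/
theorem Gen.of_autOne [Finite S] [Fact p.Prime] (d : Ctx F p Z T ℋ A) {Q : Subgroup Ω} (hQ : ℋ Q) {α : MulAut Q}
    (hα : α ∈ autOne p T (A Q)) : Gen T p ℋ A Q (autFun α) := by
  obtain ⟨a, ha, τ, hτ, rfl⟩ := (mem_autOne_iff d hQ).1 hα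
  obtain ⟨t, ht, hte⟩ := mem_autInducedBy.1 hτ
  refine .comp (f := fun x => t * x * t⁻¹) (g := autFun a)
    (.inner (d.mem hQ).2.1 ht fun _ _ => rfl) (.aut hQ ha le_rfl fun _ _ => rfl)
    (fun x hx => (Subgroup.mem_normalizer_iff.1 (mem_normalizer_of_conj_aut hte) x).1 hx)
    fun x hx => ?_
  rw [autFun_mul _ _ hx, show autFun τ x = ((τ ⟨x, hx⟩ : Q) : Ω) from autFun_coe τ ⟨x, hx⟩, hte]

variable [Finite S] [Fact p.Prime] (d : Ctx F p Z T ℋ A)
include d

theorem Dec.comp {P Q : Subgroup Ω} {f g : Ω → Ω} (hf : Dec F T p ℋ A P f)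
    (hg : Dec F T p ℋ A Q g) (hm : ∀ x ∈ P, f x ∈ Q) :
    Dec F T p ℋ A P (fun x => g (f x)) := by
  obtain ⟨a, ha, e, he, hfe⟩ := hf
  obtain ⟨a', ha', e', he', hge⟩ := hg
  have ht := he'.twist d (Subgroup.inv_mem _ ha)
  rw [inv_inv] at ht
  refine ⟨a' * a, mul_mem ha' ha, _, .comp he ht (fun x hx => ?_) (fun x _ => rfl), fun x hx => ?_⟩
  · rw [show e x = autFun a⁻¹ (f x) by rw [hfe x hx, autFun_inv_apply a (he.apply_mem d hx)]]
    exact apply_mem_fimg _ (hm x hx)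
  · show g (f x) = autFun (a' * a) (autFun a⁻¹ (e' (autFun a (e x))))
    have h1 : e' (f x) ∈ T := he'.apply_mem d (hm x hx)
    rw [← hfe x hx, autFun_mul _ _ (autFun_mem a⁻¹ h1), ← autFun_mul a a⁻¹ h1, mul_inv_cancel,
      autFun_one h1, ← hge _ (hm x hx)]

/-- A map of the system on a member decomposes. -/
theorem dec_of_mem {P : Subgroup Ω} {f : Ω → Ω} (hP : ℋ P) (hf : IsMap F P f) :
    Dec F T p ℋ A P f := by
  have hT := d.tsc
  haveI : Finite T := finite_of_le hT.1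
  have hTp : IsPGroup p T := d.pgroup.to_le hT.1
  induction hn : Nat.card T - Nat.card P using Nat.strong_induction_on generalizing P f with
  | _ n ih =>
  have hPT := (d.mem hP).2.1
  rcases hPT.eq_or_lt with rfl | hlt
  · obtain ⟨α, hα, hαe⟩ := hf.exists_aut (Subgroup.eq_of_le_of_card_ge
      (fimg_le fun x hx => StronglyClosed.apply_mem hT hf le_rfl hx) hf.card_fimg.ge)
    exact ⟨α, hα, _, .inner le_rfl P.one_mem fun _ _ => rfl, fun x hx => by simp [hαe x hx]⟩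
  have hPS := hPT.trans hT.1
  have big : ∀ R, ℋ R → Nat.card P < Nat.card R → ∀ g, IsMap F R g → Dec F T p ℋ A R g := by
    intro R hR hcard g hg
    have h2 := Subgroup.card_le_of_le (d.mem hR).2.1
    exact ih _ (by omega) hR hg rfl
  obtain ⟨Q, hPQ, hQn⟩ := exists_fullyNormalized F hPS
  have hcQ := isConj_card hPQ
  -- normalizers of members in the class are larger members
  have hN : ∀ R, ℋ R → Nat.card R = Nat.card P →
      ℋ (normalizerIn T R) ∧ Nat.card P < Nat.card (normalizerIn T R) ∧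
        normalizerIn T R ≤ normalizerIn S R ∧ R ≤ normalizerIn T R := by
    intro R hR hc
    have hRT := (d.mem hR).2.1
    have hle : R ≤ normalizerIn T R := le_normalizerIn hRT
    refine ⟨d.up hR hle inf_le_left, ?_, inf_le_inf_right _ hT.1, hle⟩
    haveI : Finite ↥(normalizerIn T R) := finite_of_le (S := T) inf_le_left
    rw [← hc]
    refine card_lt_of_lt (lt_normalizerIn hTp (lt_of_le_of_ne hRT fun e => ?_))
    rw [e] at hc
    exact (card_lt_of_lt hlt).ne hc.symm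
  obtain ⟨u, hu, huQ, -⟩ := exists_map_to_fullyNormalized d.pgroup d.sat hQn hPQ
  obtain ⟨v, hv, hvQ, -⟩ := exists_map_to_fullyNormalized d.pgroup d.sat hQn
    (isConj_trans (isConj_symm hf.isConj) hPQ)
  have hP₁ : ℋ (fimg f P) := d.transport hP hf
  obtain ⟨hN1, hN2, hN3, hN4⟩ := hN P hP rfl
  obtain ⟨hM1, hM2, hM3, hM4⟩ := hN _ hP₁ hf.card_fimg
  have du : Dec F T p ℋ A P u := (big _ hN1 hN2 u (hu.res hN3)).res hN4
  have hQℋ : ℋ Q := huQ ▸ d.transport hP ((hu.res hN3).res hN4)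
  -- the inverse of `v`
  obtain ⟨v', hv', hv1, -, -⟩ := (hv.res hM3).exists_inv
  have hMimg : ℋ (fimg v (normalizerIn T (fimg f P))) := d.transport hM1 (hv.res hM3)
  have hQle : Q ≤ fimg v (normalizerIn T (fimg f P)) := hvQ ▸ fimg_mono v hM4
  have dv' : Dec F T p ℋ A Q v' :=
    (big _ hMimg ((hv.res hM3).card_fimg.symm ▸ hM2) v' hv').res hQle
  -- the automorphism of `Q`
  obtain ⟨u', hu', hu1, hu2, -⟩ := ((hu.res hN3).res hN4).exists_inv
  rw [huQ] at hu' hu2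
  have hm : IsMap F Q (fun y => v (f (u' y))) :=
    (hu'.comp hf fun y hy => (hu2 y hy).1).comp ((hv.res hM3).res hM4) fun y hy =>
      apply_mem_fimg f (hu2 y hy).1
  haveI := finite_of_le hQn.1
  obtain ⟨β, hβ, hβe⟩ := hm.exists_aut (Subgroup.eq_of_le_of_card_ge (fimg_le fun y hy =>
    hvQ ▸ apply_mem_fimg v (apply_mem_fimg f (hu2 y hy).1)) hm.card_fimg.ge)
  obtain ⟨R, hR⟩ := autOne_sylow d hQℋ hQn
  have hp' : IsPGroup p ((autInducedBy T Q).map (MulAut.conj β).toMonoidHom) :=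
    (isPGroup_autInducedBy hTp Q).map _
  obtain ⟨o, ho, hoe⟩ := SatCrit.exists_conj_sylow R hp' (by
    rintro _ ⟨w, hw, rfl⟩
    exact autOne_normal d hQℋ hQn hβ (Subgroup.mem_sup_right hw))
  have hβ₂ : o * β ∈ F.autGroup Q := mul_mem (d.aut_le hQℋ (autOne_le d hQℋ ho)) hβ
  obtain ⟨hQ1, hQ2, hQ3, hQ4⟩ := hN Q hQℋ hcQ
  obtain ⟨g, hg, hge⟩ := receptive_extend (receptive_of_fullyNormalized d.pgroup d.sat hQn)
    ((mem_autGroup hQn.1).1 hβ₂) (fimg_autFun _) (N := normalizerIn T Q) (fun t ht => by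
      refine ⟨hQ3 ht, ?_⟩
      refine SatCrit.exists_conj_transfer (χ := o * β)
        (c := Q.normalizerMonoidHom ⟨t, ht.2⟩) ht.2 (fun x => rfl) (autInducedBy_mono hT.1 Q ?_)
      obtain ⟨w, hw, hwe⟩ := hoe _ ⟨Q.normalizerMonoidHom ⟨t, ht.2⟩,
        mem_autInducedBy.2 ⟨t, ht.1, fun x => rfl⟩, rfl⟩
      rw [hR] at hw
      have e : o * β * Q.normalizerMonoidHom ⟨t, ht.2⟩ * (o * β)⁻¹ =
          ((w : autOne p T (A Q)) : MulAut Q) := by
        rw [show ((w : autOne p T (A Q)) : MulAut Q) =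
          o * (β * Q.normalizerMonoidHom ⟨t, ht.2⟩ * β⁻¹) * o⁻¹ from hwe]
        group
      rw [e]
      exact hw) hQ4
  have dg : Dec F T p ℋ A Q (autFun (o * β)) :=
    ((big _ hQ1 hQ2 g hg).res hQ4).congr hge
  have dβ : Dec F T p ℋ A Q (autFun β) := by
    refine (dg.comp d ⟨1, one_mem _, _, Gen.of_autOne d hQℋ (Subgroup.inv_mem _ ho), fun x hx =>
      (autFun_one ((d.mem hQℋ).2.1 (autFun_mem o⁻¹ hx))).symm⟩
        fun x hx => autFun_mem _ hx).congr fun x hx => ?_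
    rw [← autFun_mul _ _ hx, inv_mul_cancel_left]
  refine ((du.comp d dβ fun x hx => huQ ▸ apply_mem_fimg u hx).comp d dv' fun x hx =>
    autFun_mem _ (huQ ▸ apply_mem_fimg u hx)).congr fun x hx => ?_
  show v' (autFun β (u x)) = f x
  rw [hβe _ (huQ ▸ apply_mem_fimg u hx), hu1 x hx, hv1 _ (hM4 (apply_mem_fimg f hx))]

/-- Every map on a subgroup of `T` decomposes. -/
theorem dec_all {P : Subgroup Ω} {f : Ω → Ω} (hPT : P ≤ T) (hf : IsMap F P f) :
    Dec F T p ℋ A P f := by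
  suffices h : ∀ P', P' ≤ P → P' ≤ T → Dec F T p ℋ A P' f from h P le_rfl hPT
  refine alperin d.pgroup d.sat (fun R g => ∀ P', P' ≤ R → P' ≤ T → Dec F T p ℋ A P' g)
    (fun R g g' h e P' h1 h2 => (h P' h1 h2).congr fun x hx => e x (h1 hx)) ?_
    (fun R R' g _ hRR' h P' h1 h2 => h P' (h1.trans hRR') h2) ?_ ?_ hf
  · intro R R' g g' hg _ hm h h' P' h1 h2
    exact (h P' h1 h2).comp d (h' (fimg g P') (fimg_le fun x hx => hm x (h1 hx))
      (fimg_le fun x hx => StronglyClosed.apply_mem d.tsc (hg.res h1) h2 hx))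
      fun x hx => apply_mem_fimg g hx
  · intro α hα P' _ h2
    exact (dec_of_mem d d.top (((mem_autGroup le_rfl).1 hα).res d.tsc.1)).res h2
  · intro R hR α hα P' h1 h2
    exact (dec_of_mem d (d.radical hR.1 (radical_of_essential d.pgroup hR))
      (((mem_autGroup hR.1.1).1 hα).res inf_le_left)).res (le_inf h1 h2)

end Cfsg.Agent.Fus.CentralLift
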