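import Mathlib.GroupTheory.Focal
import Cfsg.Agent.Lib.Fus.CentralLiftBasic

/-!
The local structure of the lifted automorphism groups.
-/

set_option autoImplicit false
set_option linter.style.haveILetI false
set_option linter.unusedSectionVars false

open scoped Classical Pointwise

universe u

namespace Cfsg.Agent.Fus.CentralLift

open Subgroup FusionSystem
open scoped commutatorElement

variable {Ω : Type u} [Group Ω] {S : Subgroup Ω} {F : FusionSystem S} {p : ℕ} {Z T : Subgroup Ω}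
  {ℋ : Subgroup Ω → Prop} {A : (P : Subgroup Ω) → Subgroup (MulAut P)}

/-- The lifted automorphism group. -/
def autOne (p : ℕ) (T : Subgroup Ω) {Q : Subgroup Ω} (A : Subgroup (MulAut Q)) :
    Subgroup (MulAut Q) :=
  pAuts p A ⊔ autInducedBy T Q

/-- Conjugation by `S` preserves the automorphisms induced by a strongly closed subgroup. -/
theorem conj_inducedBy (hT : F.StronglyClosed T) {Q : Subgroup Ω} {σ τ : MulAut Q}
    (hσ : σ ∈ autInducedBy S Q) (hτ : τ ∈ autInducedBy T Q) :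
    σ * τ * σ⁻¹ ∈ autInducedBy T Q := by
  obtain ⟨s, hs, hse⟩ := mem_autInducedBy.1 hσ
  obtain ⟨t, ht, hte⟩ := mem_autInducedBy.1 hτ
  refine mem_autInducedBy.2 ⟨s * t * s⁻¹, StronglyClosed.conj_mem' hT hs ht, fun x => ?_⟩
  obtain ⟨y, rfl⟩ := σ.surjective x
  rw [MulAut.mul_apply, MulAut.mul_apply, MulAut.inv_apply_self, hse, hte, hse]
  group

variable (d : Ctx F p Z T ℋ A)
include d

theorem zS : Z ≤ S := d.zT.trans d.tsc.1

theorem z_comm {z s : Ω} (hz : z ∈ Z) (hs : s ∈ S) : s * z = z * s :=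
  F.center_le_centralizer (d.central hz) s hs

theorem hS_of {Q : Subgroup Ω} (hQ : ℋ Q) : Q ≤ S := (d.mem hQ).2.1.trans d.tsc.1

variable [Finite S]

theorem fixed {P : Subgroup Ω} {f : Ω → Ω} (hf : IsMap F P f) {z : Ω} (hzZ : z ∈ Z)
    (hzP : z ∈ P) : f z = z := by
  obtain ⟨g, -, hg1, hg2⟩ := (isCentral_iff.1 (isCentral_center F)).2 P f hf
  rw [← hg1 z hzP]
  exact hg2 z (d.central hzZ)

theorem aut_fixed {Q : Subgroup Ω} (hQS : Q ≤ S) {α : MulAut Q} (hα : α ∈ F.autGroup Q) {z : Ω}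
    (hzZ : z ∈ Z) (hzQ : z ∈ Q) : autFun α z = z :=
  fixed d ((mem_autGroup hQS).1 hα) hzZ hzQ

theorem ker_normal {Q : Subgroup Ω} (hQS : Q ≤ S) {β κ : MulAut Q} (hβ : β ∈ F.autGroup Q)
    (hκ : κ ∈ kerAuts F Z Q) : β * κ * β⁻¹ ∈ kerAuts F Z Q := by
  refine ⟨mul_mem (mul_mem hβ hκ.1) (Subgroup.inv_mem _ hβ), fun x hx => ?_⟩
  have hy : autFun β⁻¹ x ∈ Q := autFun_mem _ hx
  have h1 := hκ.2 _ hy
  have hz : (autFun β⁻¹ x)⁻¹ * autFun κ (autFun β⁻¹ x) ∈ Q :=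
    mul_mem (Subgroup.inv_mem _ hy) (autFun_mem _ hy)
  have h2 := aut_fixed d hQS hβ h1 hz
  have hm := (mem_autGroup hQS).1 hβ
  rw [hm.map_mul (Subgroup.inv_mem _ hy) (autFun_mem _ hy), hm.map_inv hy] at h2
  rw [autFun_mul _ _ hx, autFun_mul _ _ hy]
  rw [show autFun β (autFun β⁻¹ x) = x by
    rw [← autFun_mul _ _ hx, mul_inv_cancel, autFun_one hx]] at h2
  rw [h2]
  exact h1

theorem ker_apply {Q : Subgroup Ω} (hQS : Q ≤ S) {κ μ : MulAut Q} (hκ : κ ∈ kerAuts F Z Q)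
    (hμ : μ ∈ kerAuts F Z Q) {x : Ω} (hx : x ∈ Q) :
    autFun (κ * μ) x = x * ((x⁻¹ * autFun κ x) * (x⁻¹ * autFun μ x)) := by
  have hz : x⁻¹ * autFun μ x ∈ Q := mul_mem (Subgroup.inv_mem _ hx) (autFun_mem _ hx)
  rw [autFun_mul _ _ hx]
  conv_lhs => rw [show autFun μ x = x * (x⁻¹ * autFun μ x) by group]
  rw [((mem_autGroup hQS).1 hκ.1).map_mul hx hz, aut_fixed d hQS hκ.1 (hμ.2 x hx) hz]
  group

theorem ker_comm {Q : Subgroup Ω} (hQS : Q ≤ S) {κ μ : MulAut Q} (hκ : κ ∈ kerAuts F Z Q)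
    (hμ : μ ∈ kerAuts F Z Q) : κ * μ = μ * κ := mulAut_ext fun x hx => by
  rw [ker_apply d hQS hκ hμ hx, ker_apply d hQS hμ hκ hx,
    z_comm d (hμ.2 x hx) (zS d (hκ.2 x hx))]

variable [Fact p.Prime]

theorem aut_normal {Q : Subgroup Ω} (hQ : ℋ Q) {β α : MulAut Q} (hβ : β ∈ F.autGroup Q)
    (hα : α ∈ A Q) : β * α * β⁻¹ ∈ A Q := by
  have h := d.aut_natural hQ ((mem_autGroup (hS_of d hQ)).1 hβ) (fimg_autFun β) β
    (fun x => (autFun_coe β x).symm) hα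
  have e : MulAut.congr (β : Q ≃* Q) α = β * α * β⁻¹ := MulEquiv.ext fun x => by
    simp [MulAut.congr]
  rwa [e] at h

theorem ker_isPGroup {Q : Subgroup Ω} (hQS : Q ≤ S) : IsPGroup p (kerAuts F Z Q) := by
  intro a
  haveI := finite_of_le hQS
  obtain ⟨l, hl⟩ := (d.pgroup.to_le hQS).exists_card_eq
  refine ⟨l, Subtype.ext (mulAut_ext fun x hx => ?_)⟩
  rw [SubmonoidClass.coe_pow, OneMemClass.coe_one, autFun_one hx]
  have hit : ∀ r : ℕ, autFun ((a : MulAut Q) ^ r) x = x * (x⁻¹ * autFun (a : MulAut Q) x) ^ r := by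
    intro r
    induction r with
    | zero => rw [pow_zero, autFun_one hx, pow_zero, mul_one]
    | succ r ih =>
      rw [pow_succ', ker_apply d hQS a.2 (pow_mem a.2 r) hx, ih, pow_succ']
      group
  have hz : x⁻¹ * autFun (a : MulAut Q) x ∈ Q := mul_mem (Subgroup.inv_mem _ hx) (autFun_mem _ hx)
  have h2 : (x⁻¹ * autFun (a : MulAut Q) x) ^ Nat.card Q = 1 :=
    congrArg Subtype.val (pow_card_eq_one' : (⟨_, hz⟩ : Q) ^ Nat.card Q = 1)
  rw [hit, ← hl, h2, mul_one]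

/-- The trivial-modulo-`Z` automorphisms of a fully normalized member are induced by `S`. -/
theorem ker_le_inducedBy {Q : Subgroup Ω} (hQ : ℋ Q) (hn : F.IsFullyNormalized Q) :
    kerAuts F Z Q ≤ autInducedBy S Q := fun κ hκ => by
  obtain ⟨-, W, hW⟩ := fullyAutomized_of_fullyNormalized d.pgroup d.sat hn
  haveI := finite_of_le hn.1
  haveI : ((kerAuts F Z Q).comap (F.autGroup Q).subtype).Normal :=
    ⟨fun k hk b => ker_normal d (hS_of d hQ) b.2 hk⟩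
  have h1 : (⟨κ, hκ.1⟩ : F.autGroup Q) ∈ (W : Subgroup (F.autGroup Q)) :=
    ((ker_isPGroup d (hS_of d hQ)).comap_subtype (K := F.autGroup Q)).le_sylow_of_normal W hκ
  rw [hW] at h1
  exact h1

/-- An automorphism conjugating an element induced by `T` into `Aut_S(Q)` keeps it induced by
`T`. -/
theorem inducedBy_closed {Q : Subgroup Ω} (hn : F.IsFullyNormalized Q) {β τ : MulAut Q}
    (hβ : β ∈ F.autGroup Q) (hτ : τ ∈ autInducedBy T Q)
    (h : β * τ * β⁻¹ ∈ autInducedBy S Q) : β * τ * β⁻¹ ∈ autInducedBy T Q := by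
  obtain ⟨t, ht, hte⟩ := mem_autInducedBy.1 hτ
  have htn := mem_normalizer_of_conj_aut hte
  have hQS := hn.1
  haveI := finite_of_le hQS
  have hm : IsMap F Q (autFun β) := (mem_autGroup hQS).1 hβ
  obtain ⟨φ, hφ, hφe⟩ := hm.exists_hom
  have hφ' : ∀ x ∈ Q, toFun φ x = autFun β x := fun x hx =>
    (toFun_apply φ hx).trans (hφe ⟨x, hx⟩)
  have hext : Q ⊔ zpowers t ≤ extender S Q φ := by
    refine sup_le (le_extender hφ) (zpowers_le.2 ?_)
    obtain ⟨k, hk, hke⟩ := SatCrit.exists_conj_transfer (χ := β) (c := τ) htn hte h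
    refine mem_extender.2 ⟨d.tsc.1 ht, htn, k, hk, fun x hx => ?_⟩
    rw [hφ' x hx, hφ' _ ((Subgroup.mem_normalizer_iff.1 htn x).1 hx)]
    exact hke x hx
  obtain ⟨g, hg, hge⟩ := receptive_extend (receptive_of_fullyNormalized d.pgroup d.sat hn) hm
    (fimg_autFun _) (N := Q ⊔ zpowers t) (fun a ha => by
      obtain ⟨h1, h2, k, hk, hke⟩ := mem_extender.1 (hext ha)
      refine ⟨⟨h1, h2⟩, k, hk, fun x hx => ?_⟩
      rw [← hφ' x hx, ← hφ' _ ((Subgroup.mem_normalizer_iff.1 h2 x).1 hx)]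
      exact hke x hx) le_sup_left
  have htN : t ∈ Q ⊔ zpowers t := Subgroup.mem_sup_right (mem_zpowers t)
  refine mem_autInducedBy.2 ⟨g t, StronglyClosed.apply_mem d.tsc
    (hg.res (inf_le_right : T ⊓ (Q ⊔ zpowers t) ≤ _)) inf_le_left ⟨ht, htN⟩, fun x => ?_⟩
  obtain ⟨y, rfl⟩ := β.surjective x
  rw [MulAut.mul_apply, MulAut.mul_apply, MulAut.inv_apply_self, ← autFun_coe β (τ y),
    ← hge _ (τ y).2, hte, hg.map_conj htN (Subgroup.mem_sup_left y.2), hge _ y.2, autFun_coe]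

/-- Coprime automorphisms fix the trivial-modulo-`Z` automorphisms modulo those induced by `T`. -/
theorem ker_move {Q : Subgroup Ω} (hQ : ℋ Q) (hn : F.IsFullyNormalized Q) {α κ : MulAut Q}
    (hα : α ∈ A Q) (hord : (orderOf α).Coprime p) (hκ : κ ∈ kerAuts F Z Q) :
    α * κ * α⁻¹ * κ⁻¹ ∈ autInducedBy T Q := by
  have hQS := hS_of d hQ
  obtain ⟨k, hk, hke⟩ := mem_autInducedBy.1 (ker_le_inducedBy d hQ hn hκ)
  have hkn := mem_normalizer_of_conj_aut hke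
  let W : Subgroup Ω :=
    { carrier := {w | w ∈ normalizerIn S Q ∧ ∀ x ∈ Q, x⁻¹ * (w * x * w⁻¹) ∈ Z}
      one_mem' := ⟨one_mem _, fun x _ => by simp⟩
      mul_mem' := fun {a b} ha hb => ⟨mul_mem ha.1 hb.1, fun x hx => by
        have h1 := hb.2 x hx
        rw [show x⁻¹ * (a * b * x * (a * b)⁻¹) = x⁻¹ * (a * x * a⁻¹) *
          (a * (x⁻¹ * (b * x * b⁻¹)) * a⁻¹) by group,
          z_comm d h1 ha.1.1, mul_inv_cancel_right]
        exact Z.mul_mem (ha.2 x hx) h1⟩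
      inv_mem' := fun {a} ha => ⟨Subgroup.inv_mem _ ha.1, fun x hx => by
        have hy := (Subgroup.mem_normalizer_iff''.1 ha.1.2 x).1 hx
        have h1 := Z.inv_mem (ha.2 _ hy)
        rw [show ((a⁻¹ * x * a)⁻¹ * (a * (a⁻¹ * x * a) * a⁻¹))⁻¹ = x⁻¹ * (a⁻¹ * x * a⁻¹⁻¹) by
          group] at h1
        exact h1⟩ }
  have hkW : k ∈ W := ⟨⟨hk, hkn⟩, fun x hx => by
    have h1 := hκ.2 x hx
    rwa [show autFun κ x = ((κ ⟨x, hx⟩ : Q) : Ω) from autFun_coe κ ⟨x, hx⟩, hke] at h1⟩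
  obtain ⟨g, ν, hν, hW⟩ := d.aut_ext hQ hn hα hord
  obtain ⟨hg, hge, hgW⟩ := hW W fun w hw => hw
  have hkU : k ∈ Q ⊔ W := Subgroup.mem_sup_right hkW
  have hgk : g k ∈ normalizerIn S Q := by
    have h1 := hg.map_normalizerIn le_sup_left hkU hkn
    rwa [show fimg g Q = Q from (fimg_congr hge).trans (fimg_autFun _)] at h1
  set ε := ν * α with hε
  have hτ : κ⁻¹ * (ε * κ * ε⁻¹) ∈ autInducedBy T Q := by
    refine mem_autInducedBy.2 ⟨k⁻¹ * g k, hgW k hkW, fun x => ?_⟩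
    obtain ⟨y, rfl⟩ := ε.surjective x
    have h1 : ((ε (κ y) : Q) : Ω) = g k * ((ε y : Q) : Ω) * (g k)⁻¹ := by
      rw [← autFun_coe ε, ← hge _ (κ y).2, hke, hg.map_conj hkU (Subgroup.mem_sup_left y.2),
        hge _ y.2, autFun_coe]
    obtain ⟨z, hz⟩ := κ.surjective (ε (κ y))
    rw [MulAut.mul_apply, MulAut.mul_apply, MulAut.mul_apply, MulAut.inv_apply_self, ← hz,
      MulAut.inv_apply_self]
    rw [← hz, hke] at h1
    calc (z : Ω) = k⁻¹ * (k * (z : Ω) * k⁻¹) * k := by group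
      _ = k⁻¹ * g k * ((ε y : Q) : Ω) * (k⁻¹ * g k)⁻¹ := by rw [h1]; group
  have he : ε * κ * ε⁻¹ = α * κ * α⁻¹ := by
    have hκ' := ker_normal d (hS_of d hQ) (d.aut_le hQ hα) hκ
    rw [hε, show ν * α * κ * (ν * α)⁻¹ = ν * (α * κ * α⁻¹) * ν⁻¹ by group,
      ker_comm d (hS_of d hQ) hν hκ', mul_inv_cancel_right]
  rw [he] at hτ
  have h2 := conj_inducedBy d.tsc (ker_le_inducedBy d hQ hn hκ) hτ
  rwa [show κ * (κ⁻¹ * (α * κ * α⁻¹)) * κ⁻¹ = α * κ * α⁻¹ * κ⁻¹ by group] at h2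

/-- `Aut_S(Q)` meets the family in a Sylow subgroup. -/
theorem exists_sylow_aut {Q : Subgroup Ω} (hQ : ℋ Q) (hn : F.IsFullyNormalized Q) :
    ∃ P₀ : Sylow p (A Q), (P₀ : Subgroup (A Q)) = (autInducedBy S Q).subgroupOf (A Q) := by
  haveI := finite_of_le hn.1
  obtain ⟨-, W, hW⟩ := fullyAutomized_of_fullyNormalized d.pgroup d.sat hn
  obtain ⟨P₀, hP₀⟩ := ((isPGroup_autInducedBy d.pgroup Q).comap_subtype (K := A Q)).exists_le_sylow
  refine ⟨P₀, (Subgroup.eq_of_le_of_card_ge hP₀ ?_).symm⟩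
  obtain ⟨a, haF, ha⟩ := SatCrit.exists_conj_sylow W (P₀.2.map (A Q).subtype)
    ((Subgroup.map_subtype_le _).trans (d.aut_le hQ))
  let f : ↥(P₀ : Subgroup (A Q)) → ↥((autInducedBy S Q).subgroupOf (A Q)) := fun x =>
    ⟨⟨a * ((x : A Q) : MulAut Q) * a⁻¹, aut_normal d hQ haF (x : A Q).2⟩, by
      obtain ⟨w, hw, hwe⟩ := ha _ ⟨x, x.2, rfl⟩
      rw [hW] at hw
      show a * ((x : A Q) : MulAut Q) * a⁻¹ ∈ autInducedBy S Q
      rw [show a * ((x : A Q) : MulAut Q) * a⁻¹ = ((w : F.autGroup Q) : MulAut Q) from hwe.symm]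
      exact hw⟩
  refine Nat.card_le_card_of_injective f fun x y hxy => Subtype.ext (Subtype.ext ?_)
  have h : a * ((x : A Q) : MulAut Q) * a⁻¹ = a * ((y : A Q) : MulAut Q) * a⁻¹ :=
    congrArg (fun z : ↥((autInducedBy S Q).subgroupOf (A Q)) => ((z : A Q) : MulAut Q)) hxy
  exact mul_left_cancel (mul_right_cancel h)

/-- Every element is a product of a power of order prime to `p` and one of `p`-power order. -/
theorem induction_parts {Q : Subgroup Ω} [Finite Q] {B U : Subgroup (MulAut Q)}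
    (h1 : ∀ a ∈ B, (orderOf a).Coprime p → a ∈ U)
    (h2 : ∀ a ∈ B, ∀ j : ℕ, a ^ p ^ j = 1 → a ∈ U) {u : MulAut Q} (hu : u ∈ B) : u ∈ U := by
  obtain ⟨j, m, hm, hord⟩ :=
    Nat.exists_eq_pow_mul_and_not_dvd (orderOf_pos u).ne' p (Fact.out : p.Prime).ne_one
  have hmp : m.Coprime p := ((Fact.out : p.Prime).coprime_iff_not_dvd.2 hm).symm
  have hgcd : u = (u ^ p ^ j) ^ ((p ^ j : ℕ).gcdA m) * (u ^ m) ^ ((p ^ j : ℕ).gcdB m) := by
    rw [← zpow_natCast u (p ^ j), ← zpow_natCast u m, ← zpow_mul, ← zpow_mul, ← zpow_add,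
      ← Nat.gcd_eq_gcd_ab, Nat.Coprime.gcd_eq_one ((hmp.pow_right j).symm), Nat.cast_one, zpow_one]
  rw [hgcd]
  refine mul_mem (Subgroup.zpow_mem _ (h1 _ (pow_mem hu _) ?_) _)
    (Subgroup.zpow_mem _ (h2 _ (pow_mem hu _) j ?_) _)
  · exact Nat.Coprime.coprime_dvd_left (orderOf_dvd_of_pow_eq_one
      (by rw [← pow_mul, ← hord, pow_orderOf_eq_one])) hmp
  · rw [← pow_mul, mul_comm, ← hord, pow_orderOf_eq_one]

/-- Elements of the family fix the trivial-modulo-`Z` automorphisms modulo `T`. -/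
theorem ker_move_all {Q : Subgroup Ω} (hQ : ℋ Q) (hn : F.IsFullyNormalized Q) {u κ : MulAut Q}
    (hu : u ∈ A Q) (hκ : κ ∈ kerAuts F Z Q) : u * κ * u⁻¹ * κ⁻¹ ∈ autInducedBy T Q := by
  haveI := finite_of_le hn.1
  have hAF := d.aut_le hQ
  have hker := ker_le_inducedBy d hQ hn
  let U : Subgroup (MulAut Q) :=
    { carrier := {u | u ∈ A Q ∧ ∀ κ ∈ kerAuts F Z Q, u * κ * u⁻¹ * κ⁻¹ ∈ autInducedBy T Q}
      one_mem' := ⟨one_mem _, fun κ _ => by simp⟩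
      mul_mem' := fun {a b} ha hb => ⟨mul_mem ha.1 hb.1, fun κ hκ => by
        rw [show a * b * κ * (a * b)⁻¹ * κ⁻¹ =
          a * (b * κ * b⁻¹) * a⁻¹ * (b * κ * b⁻¹)⁻¹ * (b * κ * b⁻¹ * κ⁻¹) by group]
        exact mul_mem (ha.2 _ (ker_normal d (hS_of d hQ) (hAF hb.1) hκ)) (hb.2 κ hκ)⟩
      inv_mem' := fun {a} ha => ⟨Subgroup.inv_mem _ ha.1, fun κ hκ => by
        have hκ' := ker_normal d (hS_of d hQ) (Subgroup.inv_mem _ (hAF ha.1)) hκ
        have h1 := Subgroup.inv_mem _ (ha.2 _ hκ')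
        rwa [show (a * (a⁻¹ * κ * a⁻¹⁻¹) * a⁻¹ * (a⁻¹ * κ * a⁻¹⁻¹)⁻¹)⁻¹ =
          a⁻¹ * κ * a⁻¹⁻¹ * κ⁻¹ by group] at h1⟩ }
  obtain ⟨P₀, hP₀⟩ := exists_sylow_aut d hQ hn
  refine ((induction_parts (U := U) d (fun a ha hord => ⟨ha, fun κ hκ =>
    ker_move d hQ hn ha hord hκ⟩) (fun a ha j hj => ?_) hu).2) κ hκ
  have hp' : IsPGroup p (Subgroup.zpowers a) := by
    rintro ⟨y, hy⟩
    obtain ⟨i, rfl⟩ := mem_zpowers_iff.1 hy
    refine ⟨j, Subtype.ext ?_⟩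
    show (a ^ i) ^ p ^ j = 1
    rw [← zpow_natCast, ← zpow_mul, mul_comm, zpow_mul, zpow_natCast, hj, one_zpow]
  obtain ⟨b, hb, hbe⟩ := SatCrit.exists_conj_sylow P₀ hp' (zpowers_le.2 ha)
  obtain ⟨σ, hσ, hσe⟩ := hbe a (mem_zpowers a)
  rw [hP₀] at hσ
  have hσA : ((σ : A Q) : MulAut Q) ∈ U := by
    refine ⟨σ.2, fun κ hκ => ?_⟩
    obtain ⟨τ, hτ, hτν⟩ := d.aut_sylow hQ hn σ.2 hσ
    set ν := τ⁻¹ * ((σ : A Q) : MulAut Q)
    have e : ((σ : A Q) : MulAut Q) = τ * ν := by simp [ν]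
    rw [e, show τ * ν * κ * (τ * ν)⁻¹ * κ⁻¹ = τ * (ν * κ * ν⁻¹) * τ⁻¹ * κ⁻¹ by group,
      ker_comm d (hS_of d hQ) hτν hκ, mul_inv_cancel_right,
      show τ * κ * τ⁻¹ * κ⁻¹ = τ * (κ * τ⁻¹ * κ⁻¹) by group]
    exact mul_mem hτ (conj_inducedBy d.tsc (hker hκ) (Subgroup.inv_mem _ hτ))
  have hnorm : ∀ v ∈ U, ∀ c ∈ A Q, c * v * c⁻¹ ∈ U := fun v hv c hc =>
    ⟨mul_mem (mul_mem hc hv.1) (Subgroup.inv_mem _ hc), fun κ hκ => by
      have hκ' := ker_normal d (hS_of d hQ) (Subgroup.inv_mem _ (hAF hc)) hκ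
      rw [inv_inv] at hκ'
      have h1 := hv.2 _ hκ'
      have h2 : c * (v * (c⁻¹ * κ * c) * v⁻¹ * (c⁻¹ * κ * c)⁻¹) * c⁻¹ ∈ autInducedBy S Q :=
        hker (ker_normal d (hS_of d hQ) (hAF hc) (mul_mem (ker_normal d (hS_of d hQ) (hAF hv.1) hκ')
          (Subgroup.inv_mem _ hκ')))
      have h3 := inducedBy_closed d hn (hAF hc) h1 h2
      rwa [show c * (v * (c⁻¹ * κ * c) * v⁻¹ * (c⁻¹ * κ * c)⁻¹) * c⁻¹ =
        c * v * c⁻¹ * κ * (c * v * c⁻¹)⁻¹ * κ⁻¹ by group] at h3⟩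
  have h1 := hnorm _ hσA b⁻¹ (Subgroup.inv_mem _ hb)
  rwa [show b⁻¹ * ((σ : A Q) : MulAut Q) * b⁻¹⁻¹ = a by
    rw [show ((σ : A Q) : MulAut Q) = b * a * b⁻¹ from hσe]; group] at h1

/-- The coprime part meets `Aut_S(Q)` only in automorphisms induced by `T`. -/
theorem pAuts_inf {Q : Subgroup Ω} (hQ : ℋ Q) (hn : F.IsFullyNormalized Q) {α : MulAut Q}
    (hα : α ∈ pAuts p (A Q)) (hαS : α ∈ autInducedBy S Q) : α ∈ autInducedBy T Q := by
  haveI := finite_of_le hn.1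
  have hAF := d.aut_le hQ
  have hker := ker_le_inducedBy d hQ hn
  obtain ⟨P₀, hP₀⟩ := exists_sylow_aut d hQ hn
  have hαA : α ∈ A Q := pAuts_le p _ hα
  have hαP : (⟨α, hαA⟩ : A Q) ∈ (P₀ : Subgroup (A Q)) := by rw [hP₀]; exact hαS
  have hαk : (⟨α, hαA⟩ : A Q) ∈ (P₀ : Subgroup (A Q)).transferFocal.ker := by
    have hle : pAuts p (A Q) ≤ ((P₀ : Subgroup (A Q)).transferFocal.ker).map (A Q).subtype := by
      refine (Subgroup.closure_le _).2 fun x hx => ⟨⟨x, hx.1⟩, ?_, rfl⟩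
      rw [SetLike.mem_coe, MonoidHom.mem_ker]
      obtain ⟨k, hk⟩ := (P₀.2.to_quotient (P₀ : Subgroup (A Q)).focalSubgroupOf)
        ((P₀ : Subgroup (A Q)).transferFocal ⟨x, hx.1⟩)
      refine InvExt.eq_one_of_coprime_pow (n := orderOf x) hx.2 hk ?_
      rw [← map_pow, show (⟨x, hx.1⟩ : A Q) ^ orderOf x = 1 from Subtype.ext
        (pow_orderOf_eq_one x), map_one]
    obtain ⟨y, hy, hye⟩ := hle hα
    rwa [show (⟨α, hαA⟩ : A Q) = y from Subtype.ext hye.symm]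
  have hfoc : (⟨α, hαA⟩ : A Q) ∈ (P₀ : Subgroup (A Q)).focalSubgroup := by
    rw [← Subgroup.ker_transferFocal_inf_eq_focalSubgroup P₀]
    exact ⟨hαk, hαP⟩
  suffices h : (P₀ : Subgroup (A Q)).focalSubgroup ≤ (autInducedBy T Q).subgroupOf (A Q) from
    h hfoc
  rw [Subgroup.focalSubgroup_def, Subgroup.closure_le]
  rintro g ⟨hg, x, hx, u, rfl⟩
  have hy : u * x⁻¹ * u⁻¹ ∈ (P₀ : Subgroup (A Q)) := by
    have := mul_mem (Subgroup.inv_mem _ hx) hg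
    simpa [commutatorElement_def, mul_assoc] using this
  have hx' := Subgroup.inv_mem _ hx
  rw [hP₀] at hy hx'
  set w : MulAut Q := ((x⁻¹ : A Q) : MulAut Q) with hw
  have hyS : (u : MulAut Q) * w * (u : MulAut Q)⁻¹ ∈ autInducedBy S Q := hy
  obtain ⟨τ, hτ, hν⟩ := d.aut_sylow hQ hn (x⁻¹ : A Q).2 hx'
  set ν := τ⁻¹ * w with hνdef
  have hwe : w = τ * ν := by simp [hνdef]
  have hc : (u : MulAut Q) * τ * (u : MulAut Q)⁻¹ ∈ autInducedBy T Q := by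
    refine inducedBy_closed d hn (hAF u.2) hτ ?_
    rw [show (u : MulAut Q) * τ * (u : MulAut Q)⁻¹ = ((u : MulAut Q) * w * (u : MulAut Q)⁻¹) *
      ((u : MulAut Q) * ν * (u : MulAut Q)⁻¹)⁻¹ by rw [hwe]; group]
    exact mul_mem hyS (Subgroup.inv_mem _ (hker (ker_normal d (hS_of d hQ) (hAF u.2) hν)))
  have hm := ker_move_all d hQ hn u.2 hν
  show ((⁅x, u⁆ : A Q) : MulAut Q) ∈ autInducedBy T Q
  have e : ((⁅x, u⁆ : A Q) : MulAut Q) = w⁻¹ * ((u : MulAut Q) * w * (u : MulAut Q)⁻¹) := by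
    rw [hw, commutatorElement_def]
    simp [mul_assoc]
  rw [e, hwe, show (τ * ν)⁻¹ * ((u : MulAut Q) * (τ * ν) * (u : MulAut Q)⁻¹) =
    (ν⁻¹ * (τ⁻¹ * ((u : MulAut Q) * τ * (u : MulAut Q)⁻¹)) * ν⁻¹⁻¹) *
      (ν⁻¹ * ((u : MulAut Q) * ν * (u : MulAut Q)⁻¹ * ν⁻¹) * ν⁻¹⁻¹) by group]
  have hν' := Subgroup.inv_mem _ (hker hν)
  exact mul_mem (conj_inducedBy d.tsc hν' (mul_mem (Subgroup.inv_mem _ hτ) hc))
    (conj_inducedBy d.tsc hν' hm)

theorem autOne_le {Q : Subgroup Ω} (hQ : ℋ Q) : autOne p T (A Q) ≤ A Q :=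
  sup_le (pAuts_le p _) (d.aut_inner hQ)

theorem mem_autOne_iff {Q : Subgroup Ω} (hQ : ℋ Q) {α : MulAut Q} :
    α ∈ autOne p T (A Q) ↔ ∃ a ∈ pAuts p (A Q), ∃ τ ∈ autInducedBy T Q, a * τ = α := by
  have hn : autInducedBy T Q ≤ Subgroup.normalizer ((pAuts p (A Q)) : Set (MulAut Q)) := by
    intro τ hτ
    refine mem_normalizer_of_forall (fun x hx => ?_) fun x hx => ?_
    · exact conj_mem_pAuts p (B := A Q) (fun b hb a ha => mul_mem (mul_mem hb ha)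
        (Subgroup.inv_mem _ hb)) (d.aut_inner hQ hτ) hx
    · have := conj_mem_pAuts p (B := A Q) (fun b hb a ha => mul_mem (mul_mem hb ha)
        (Subgroup.inv_mem _ hb)) (Subgroup.inv_mem _ (d.aut_inner hQ hτ)) hx
      rwa [inv_inv] at this
  rw [← SetLike.mem_coe, autOne, Subgroup.coe_mul_of_right_le_normalizer_left _ _ hn]
  exact Set.mem_mul

theorem autOne_inf {Q : Subgroup Ω} (hQ : ℋ Q) (hn : F.IsFullyNormalized Q) {α : MulAut Q}
    (hα : α ∈ autOne p T (A Q)) (hαS : α ∈ autInducedBy S Q) : α ∈ autInducedBy T Q := by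
  obtain ⟨a, ha, τ, hτ, rfl⟩ := (mem_autOne_iff d hQ).1 hα
  refine mul_mem (pAuts_inf d hQ hn ha ?_) hτ
  have := mul_mem hαS (Subgroup.inv_mem _ (autInducedBy_mono d.tsc.1 Q hτ))
  rwa [mul_inv_cancel_right] at this

theorem autOne_normal {Q : Subgroup Ω} (hQ : ℋ Q) (hn : F.IsFullyNormalized Q) {β α : MulAut Q}
    (hβ : β ∈ F.autGroup Q) (hα : α ∈ autOne p T (A Q)) :
    β * α * β⁻¹ ∈ autOne p T (A Q) := by
  haveI := finite_of_le hn.1
  have hAF := d.aut_le hQ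
  have hpA : ∀ b ∈ F.autGroup Q, ∀ a ∈ A Q, b * a * b⁻¹ ∈ A Q := fun b hb a ha =>
    aut_normal d hQ hb ha
  obtain ⟨P₀, hP₀⟩ := exists_sylow_aut d hQ hn
  -- `A` normalizes the group
  have hAn : ∀ c ∈ A Q, ∀ τ ∈ autInducedBy T Q, c * τ * c⁻¹ ∈ autOne p T (A Q) := by
    intro c hc τ hτ
    set K : Subgroup (A Q) := (pAuts p (A Q)).subgroupOf (A Q)
    haveI : K.Normal := ⟨fun k hk b => conj_mem_pAuts p (B := F.autGroup Q) hpA (hAF b.2) hk⟩
    have hq : IsPGroup p (A Q ⧸ K) := by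
      intro y
      obtain ⟨a, rfl⟩ := QuotientGroup.mk'_surjective K y
      obtain ⟨j, m, hm, hord⟩ :=
        Nat.exists_eq_pow_mul_and_not_dvd (orderOf_pos a).ne' p (Fact.out : p.Prime).ne_one
      refine ⟨j, ?_⟩
      rw [← map_pow, QuotientGroup.mk'_apply, QuotientGroup.eq_one_iff]
      refine Subgroup.subset_closure ⟨(a ^ p ^ j).2, ?_⟩
      refine Nat.Coprime.coprime_dvd_left (orderOf_dvd_of_pow_eq_one (n := m) ?_)
        ((Fact.out : p.Prime).coprime_iff_not_dvd.2 hm).symm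
      show ((a ^ p ^ j : A Q) : MulAut Q) ^ m = 1
      rw [← SubmonoidClass.coe_pow, ← pow_mul, ← hord, pow_orderOf_eq_one, OneMemClass.coe_one]
    let P' := P₀.mapSurjective (QuotientGroup.mk'_surjective K)
    have htop : (P' : Subgroup (A Q ⧸ K)) = ⊤ :=
      (P'.is_maximal' ((hq.to_subgroup ⊤)) le_top).symm
    obtain ⟨σ, hσ, hσe⟩ : QuotientGroup.mk' K ⟨c, hc⟩ ∈ (P' : Subgroup (A Q ⧸ K)) := by
      rw [htop]; exact mem_top _
    have hk : (⟨c, hc⟩ : A Q) * σ⁻¹ ∈ K := by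
      rw [← QuotientGroup.eq_one_iff, QuotientGroup.mk_mul, QuotientGroup.mk_inv]
      exact mul_inv_eq_one.2 hσe.symm
    rw [SetLike.mem_coe, hP₀] at hσ
    set a := c * ((σ : A Q) : MulAut Q)⁻¹
    have ha : a ∈ autOne p T (A Q) := Subgroup.mem_sup_left hk
    rw [show c * τ * c⁻¹ = a * (((σ : A Q) : MulAut Q) * τ * ((σ : A Q) : MulAut Q)⁻¹) * a⁻¹ by
      simp [a, mul_assoc]]
    exact mul_mem (mul_mem ha (Subgroup.mem_sup_right (conj_inducedBy d.tsc hσ hτ)))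
      (Subgroup.inv_mem _ ha)
  obtain ⟨a, ha, τ, hτ, rfl⟩ := (mem_autOne_iff d hQ).1 hα
  rw [show β * (a * τ) * β⁻¹ = (β * a * β⁻¹) * (β * τ * β⁻¹) by group]
  refine mul_mem (Subgroup.mem_sup_left (conj_mem_pAuts p (B := F.autGroup Q) hpA hβ ha)) ?_
  set x := β * τ * β⁻¹
  have hxA : x ∈ A Q := aut_normal d hQ hβ (d.aut_inner hQ hτ)
  have hp' : IsPGroup p ((autInducedBy T Q).map (MulAut.conj β).toMonoidHom) :=
    (isPGroup_autInducedBy (d.pgroup.to_le d.tsc.1) Q).map _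
  have hle : (autInducedBy T Q).map (MulAut.conj β).toMonoidHom ≤ A Q := by
    rintro _ ⟨w, hw, rfl⟩
    exact aut_normal d hQ hβ (d.aut_inner hQ hw)
  obtain ⟨b, hb, hbe⟩ := SatCrit.exists_conj_sylow P₀ hp' hle
  obtain ⟨σ, hσ, hσe⟩ := hbe x ⟨τ, hτ, rfl⟩
  rw [hP₀] at hσ
  have hbx : b * β * τ * (b * β)⁻¹ ∈ autInducedBy T Q := by
    refine inducedBy_closed d hn (mul_mem (hAF hb) hβ) hτ ?_
    rw [show b * β * τ * (b * β)⁻¹ = b * x * b⁻¹ by simp [x, mul_assoc],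
      show b * x * b⁻¹ = ((σ : A Q) : MulAut Q) from hσe.symm]
    exact hσ
  have := hAn b⁻¹ (Subgroup.inv_mem _ hb) _ hbx
  rwa [show b⁻¹ * (b * β * τ * (b * β)⁻¹) * b⁻¹⁻¹ = x by simp [x, mul_assoc]] at this

theorem autOne_sylow {Q : Subgroup Ω} (hQ : ℋ Q) (hn : F.IsFullyNormalized Q) :
    ∃ R : Sylow p (autOne p T (A Q)),
      (R : Subgroup (autOne p T (A Q))) = (autInducedBy T Q).subgroupOf (autOne p T (A Q)) := by
  haveI := finite_of_le hn.1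
  obtain ⟨R, hR⟩ := ((isPGroup_autInducedBy (d.pgroup.to_le d.tsc.1) Q).comap_subtype
    (K := autOne p T (A Q))).exists_le_sylow
  obtain ⟨P₀, hP₀⟩ := exists_sylow_aut d hQ hn
  refine ⟨R, (Subgroup.eq_of_le_of_card_ge hR ?_).symm⟩
  obtain ⟨a, haA, ha⟩ := SatCrit.exists_conj_sylow P₀ (R.2.map (autOne p T (A Q)).subtype)
    ((Subgroup.map_subtype_le _).trans (autOne_le d hQ))
  let f : ↥(R : Subgroup (autOne p T (A Q))) →
      ↥((autInducedBy T Q).subgroupOf (autOne p T (A Q))) := fun x =>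
    ⟨⟨a * ((x : autOne p T (A Q)) : MulAut Q) * a⁻¹,
      autOne_normal d hQ hn (d.aut_le hQ haA) (x : autOne p T (A Q)).2⟩, by
        obtain ⟨w, hw, hwe⟩ := ha _ ⟨x, x.2, rfl⟩
        rw [hP₀] at hw
        refine autOne_inf d hQ hn
          (autOne_normal d hQ hn (d.aut_le hQ haA) (x : autOne p T (A Q)).2) ?_
        show a * ((x : autOne p T (A Q)) : MulAut Q) * a⁻¹ ∈ autInducedBy S Q
        rw [show a * ((x : autOne p T (A Q)) : MulAut Q) * a⁻¹ = ((w : A Q) : MulAut Q) from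
          hwe.symm]
        exact hw⟩
  refine Nat.card_le_card_of_injective f fun x y hxy => Subtype.ext (Subtype.ext ?_)
  have h : a * ((x : autOne p T (A Q)) : MulAut Q) * a⁻¹ =
      a * ((y : autOne p T (A Q)) : MulAut Q) * a⁻¹ :=
    congrArg (fun z : ↥((autInducedBy T Q).subgroupOf (autOne p T (A Q))) =>
      ((z : autOne p T (A Q)) : MulAut Q)) hxy
  exact mul_left_cancel (mul_right_cancel h)

end Cfsg.Agent.Fus.CentralLift
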