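import Cfsg.Agent.Lib.Fus.CentralLiftSat
import Cfsg.Agent.Lib.Fus.FactorExtend

/-!
The lifted system is normal.
-/

set_option autoImplicit false
set_option linter.style.haveILetI false
set_option linter.unusedSectionVars false

open scoped Classical Pointwise

universe u

namespace Cfsg.Agent.Fus.CentralLift

open Subgroup FusionSystem SatCrit

variable {Ω : Type u} [Group Ω] {S : Subgroup Ω} {F : FusionSystem S} {p : ℕ} {Z T : Subgroup Ω}
  {ℋ : Subgroup Ω → Prop} {A : (P : Subgroup Ω) → Subgroup (MulAut P)}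
  [Finite S] [Fact p.Prime] (d : Ctx F p Z T ℋ A)
include d

/-- All members satisfy the local conditions. -/
theorem good_all {P : Subgroup Ω} (hP : ℋ P) : Good d P := by
  induction hn : Nat.card S - Nat.card P using Nat.strong_induction_on generalizing P with
  | _ n ih =>
  set E := genSys d
  have hT := d.tsc
  have hPT := (d.mem hP).2.1
  obtain ⟨P₀, hPP₀, hP₀n⟩ := exists_fullyNormalized F (hPT.trans hT.1)
  obtain ⟨f, hf, hfP⟩ := isConj_iff.1 hPP₀
  have hP₀ : ℋ P₀ := hfP ▸ d.transport hP hf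
  obtain ⟨hAut, hauto, hrec⟩ := good_fn d hP₀ hP₀n fun R hR hcard => by
    have h1 := isConj_card hPP₀
    have h2 := Subgroup.card_le_of_le ((d.mem hR).2.1.trans hT.1)
    exact ih _ (by omega) hR rfl
  obtain ⟨α, hα, e, he, hfe⟩ := dec_all d hPT hf
  have he' : IsMap E P e := (isMap_genSys d).2 he
  set P' := fimg e P
  have hP'T : P' ≤ T := he'.fimg_le_S
  have hbm : IsMap F T (autFun α) := (mem_autGroup hT.1).1 hα
  have hαP : fimg (autFun α) P' = P₀ := by
    rw [← he'.fimg_comp, fimg_congr fun x hx =>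
      show autFun α (e x) = f x from (hfe x hx).symm, hfP]
  have hP₀T : P₀ ≤ T := (d.mem hP₀).2.1
  have hback : fimg (autFun α⁻¹) P₀ = P' := by
    rw [← hαP, ← (hbm.res hP'T).fimg_comp, fimg_congr fun y hy =>
      show autFun α⁻¹ (autFun α y) = y from autFun_inv_apply α (hP'T hy), fimg_id]
  refine ⟨fun Q hQ χ hχ => ?_, P', he'.isConj, ?_⟩
  · have hQT := isConj_le_right hQ
    obtain ⟨v, hv, hvP⟩ := isConj_iff.1 (isConj_trans (isConj_symm hQ) he'.isConj)
    obtain ⟨v', hv', hv1, hv2, hv3⟩ := hv.exists_inv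
    rw [hvP] at hv' hv2 hv3
    have hχm : IsMap E Q (autFun χ) := (mem_autGroup hQT).1 hχ
    have hm : IsMap E P' (fun y => v (autFun χ (v' y))) :=
      (hv'.comp hχm fun y hy => (hv2 y hy).1).comp hv fun y hy => autFun_mem χ (hv2 y hy).1
    have htw := genSys_twist d hα hm
    rw [hαP] at htw
    obtain ⟨χ₀, hχ₀, hχ₀e⟩ := htw.exists_aut (by
      haveI := finite_of_le (hP₀T.trans hT.1)
      refine Subgroup.eq_of_le_of_card_ge (fimg_le fun y hy => ?_) htw.card_fimg.ge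
      have h1 : v' (autFun α⁻¹ y) ∈ Q := (hv2 _ (hback.le (apply_mem_fimg _ hy))).1
      rw [← hαP]
      exact apply_mem_fimg _ (hvP.le (apply_mem_fimg v (autFun_mem χ h1))))
    have hm' : IsMap F T (autFun α⁻¹) := (mem_autGroup hT.1).1 (Subgroup.inv_mem _ hα)
    have hψ : IsMap F P₀ (fun y => v' (autFun α⁻¹ y)) :=
      (hm'.res hP₀T).comp (hv'.mono (genSys_le d)) fun y hy => hback.le (apply_mem_fimg _ hy)
    have hψQ : fimg (fun y => v' (autFun α⁻¹ y)) P₀ = Q := by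
      rw [(hm'.res hP₀T).fimg_comp, hback, hv3]
    obtain ⟨e₀, he₀, -⟩ := exists_mulEquiv hψ hψQ
    rw [hAut] at hχ₀
    have h1 : MulAut.congr e₀ χ₀ = χ := by
      refine mulAut_ext fun z hz => ?_
      obtain ⟨y, hy, rfl⟩ := hψ.mem_fimg_iff.1 (hψQ.symm ▸ hz :
        z ∈ fimg (fun y => v' (autFun α⁻¹ y)) P₀)
      rw [← he₀ ⟨y, hy⟩, autFun_coe, show MulAut.congr e₀ χ₀ (e₀ ⟨y, hy⟩) = e₀ (χ₀ ⟨y, hy⟩) by
        simp [MulAut.congr], he₀, show ((χ₀ ⟨y, hy⟩ : P₀) : Ω) = autFun χ₀ y from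
          (autFun_coe χ₀ ⟨y, hy⟩).symm, hχ₀e y hy, he₀]
      have h2 : v' (autFun α⁻¹ y) ∈ Q := (hv2 _ (hback.le (apply_mem_fimg _ hy))).1
      rw [autFun_inv_apply α (hv.apply_mem (autFun_mem χ h2)), hv1 _ (autFun_mem χ h2)]
    exact h1 ▸ d.aut_natural hP₀ hψ hψQ e₀ he₀ (autOne_le d hP₀ hχ₀)
  · rw [← hback]
    exact good_twist d (Subgroup.inv_mem _ hα) hauto hrec

/-- The generated system is saturated. -/
theorem genSys_saturated : (genSys d).IsSaturated p := by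
  have hT := d.tsc
  haveI := finiteT d
  refine isSaturated_of_family (tPGroup d) {P | ℋ P} (fun P hP Q hQ => ?_)
    (fun P hP => (good_all d hP).2) (fun E hE P φ hφ => ?_) fun P hPc hPℋ => ?_
  · obtain ⟨f, hf, rfl⟩ := isConj_iff.1 hQ
    exact d.transport hP (hf.mono (genSys_le d))
  · have key : ∀ {P : Subgroup Ω} {f : Ω → Ω}, Gen T p ℋ A P f → IsMap E P f := by
      intro P f h
      induction h with
      | @aut P Q a f hQ ha hPQ hf =>
        obtain ⟨ψ, hψ, hψe⟩ :=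
          ((isMap_genSys d).2 (Gen.aut (f := autFun a) hQ ha le_rfl fun _ _ => rfl)).exists_hom
        have h1 : IsMap E Q (autFun a) :=
          (isMap_toFun (hE Q hQ hψ)).congr fun x hx => (toFun_apply ψ hx).trans (hψe ⟨x, hx⟩)
        exact (h1.res hPQ).congr fun x hx => (hf x hx).symm
      | inner hP ht hf => exact (isMap_conj E hP ht).congr fun x hx => (hf x hx).symm
      | comp _ _ hm he ih₁ ih₂ => exact (ih₁.comp ih₂ hm).congr fun x hx => (he x hx).symm
    exact mem_hom_of_isMap (key hφ) fun x => (toFun_coe φ x).symm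
  · set E := genSys d
    have hPT : P ≤ T := hPc.1
    have hcen : ∀ {z : Ω}, z ∈ Z → ∀ {R : Subgroup Ω}, E.IsConj P R → z ∈ R :=
      fun {z} hz {R} hR => hPc.2 R hR ⟨d.zT hz, fun x hx =>
        z_comm d hz (hT.1 (isConj_le_right hR hx))⟩
    have hZP : Z ≤ P := fun z hz => hcen hz (isConj_refl E hPT)
    obtain ⟨f, hf, x, hxT, hxP, hx⟩ := d.bad hPT hZP hPℋ
    obtain ⟨α, hα, e, he, hfe⟩ := dec_all d hPT hf
    have he' : IsMap E P e := (isMap_genSys d).2 he
    set P₁ := fimg e P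
    have hP₁ : E.IsConj P P₁ := he'.isConj
    have hP₁T : P₁ ≤ T := he'.fimg_le_S
    refine ⟨P₁, hP₁, fun hle => ?_⟩
    have hbm : IsMap F T (autFun α) := (mem_autGroup hT.1).1 hα
    have hαP : fimg (autFun α) P₁ = fimg f P := by
      rw [← he'.fimg_comp]
      exact fimg_congr fun y hy => (hfe y hy).symm
    set x₁ := autFun α⁻¹ x with hx₁
    have hx₁T : x₁ ∈ T := autFun_mem _ hxT
    have hαx : autFun α x₁ = x := by rw [hx₁, ← autFun_mul _ _ hxT, mul_inv_cancel, autFun_one hxT]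
    have hz : ∀ y ∈ P₁, y⁻¹ * (x₁ * y * x₁⁻¹) ∈ Z := fun y hy => by
      have hyT := hP₁T hy
      have hcT : x₁ * y * x₁⁻¹ ∈ T := T.mul_mem (T.mul_mem hx₁T hyT) (T.inv_mem hx₁T)
      have h1 := hx (autFun α y) (hαP ▸ apply_mem_fimg _ hy)
      rw [← hαx, ← hbm.map_conj hx₁T hyT, ← hbm.map_inv hyT,
        ← hbm.map_mul (T.inv_mem hyT) hcT] at h1
      have hmT : y⁻¹ * (x₁ * y * x₁⁻¹) ∈ T := T.mul_mem (T.inv_mem hyT) hcT
      have h2 := autFun_inv_apply α hmT
      rw [fixed d ((mem_autGroup hT.1).1 (Subgroup.inv_mem _ hα)) h1 (autFun_mem α hmT)] at h2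
      exact h2 ▸ h1
    have hx₁n : x₁ ∈ Subgroup.normalizer (P₁ : Set Ω) := by
      refine mem_normalizer_of_forall (fun y hy => ?_) fun y hy => ?_
      · have := mul_mem hy (hcen (hz y hy) hP₁)
        rwa [mul_inv_cancel_left] at this
      · haveI := finite_of_le (hP₁T.trans hT.1)
        have heq : fimg (fun z => x₁ * z * x₁⁻¹) P₁ = P₁ :=
          Subgroup.eq_of_le_of_card_ge (fimg_le fun z hz' => by
            have := mul_mem hz' (hcen (hz z hz') hP₁)
            rwa [mul_inv_cancel_left] at this)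
            (isMap_conj E hP₁T hx₁T).card_fimg.ge
        rw [← heq, mem_fimg_conj] at hy
        exact hy
    set c : MulAut P₁ := P₁.normalizerMonoidHom ⟨x₁, hx₁n⟩
    have hcT : c ∈ autInducedBy T P₁ := mem_autInducedBy.2 ⟨x₁, hx₁T, fun _ => rfl⟩
    have hcE : c ∈ E.autGroup P₁ := autInducedBy_le_autGroup E hP₁T hcT
    haveI : ((kerAuts F Z P₁).subgroupOf (E.autGroup P₁)).Normal :=
      ⟨fun k hk b => ker_normal d (hP₁T.trans hT.1) (autGroup_mono (genSys_le d) P₁ b.2) hk⟩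
    have hcp : (⟨c, hcE⟩ : E.autGroup P₁) ∈ pCore p ↥(E.autGroup P₁) := by
      refine Grp.le_pCore (inferInstance : ((kerAuts F Z P₁).subgroupOf (E.autGroup P₁)).Normal)
        (ker_isPGroup d (hP₁T.trans hT.1)).comap_subtype ?_
      exact ⟨autGroup_mono (genSys_le d) P₁ hcE, fun y hy => by
        show y⁻¹ * autFun c y ∈ Z
        rw [show autFun c y = x₁ * y * x₁⁻¹ from autFun_coe c ⟨y, hy⟩]
        exact hz y hy⟩
    obtain ⟨u, hu⟩ := hle ⟨hcT, ⟨c, hcE⟩, hcp, rfl⟩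
    have hux : (u : Ω)⁻¹ * x₁ ∈ centralizerIn T P₁ := by
      refine mem_centralizerIn.2 ⟨T.mul_mem (T.inv_mem (hP₁T u.2)) hx₁T, fun y hy => ?_⟩
      have h1 : (u : Ω) * y * (u : Ω)⁻¹ = x₁ * y * x₁⁻¹ :=
        congrArg (fun a : MulAut P₁ => ((a ⟨y, hy⟩ : P₁) : Ω)) hu
      calc y * ((u : Ω)⁻¹ * x₁) = (u : Ω)⁻¹ * ((u : Ω) * y * (u : Ω)⁻¹) * x₁ := by group
        _ = (u : Ω)⁻¹ * x₁ * y := by rw [h1]; group
    have hx₁P : x₁ ∈ P₁ := by
      have := mul_mem u.2 (hPc.2 P₁ hP₁ hux)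
      rwa [mul_inv_cancel_left] at this
    exact hxP (hαP ▸ hαx ▸ apply_mem_fimg (autFun α) hx₁P)

/-- The generated system is normal. -/
theorem genSys_isNormalIn : (genSys d).IsNormalIn F p := by
  have hT := d.tsc
  haveI := finiteT d
  have hTn : F.IsFullyNormalized T := by
    refine ⟨hT.1, fun Q hQ => ?_⟩
    obtain ⟨g, hg, rfl⟩ := isConj_iff.1 hQ
    rw [fimg_stronglyClosed hT hg le_rfl]
  refine ⟨⟨genSys_saturated d, d.sat, genSys_le d, hT, ?_, ?_⟩, ?_⟩
  · intro P hPT φ hφ α hα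
    have hαm : IsMap F T (autFun α) := (mem_autGroup hT.1).1 hα
    have hk := genSys_twist d hα ((isMap_genSys d).2 hφ)
    have heq : (P.subgroupOf T).map (T.subtype.comp α.toMonoidHom) = fimg (autFun α) P := by
      ext y
      rw [(hαm.res hPT).mem_fimg_iff, Subgroup.mem_map]
      constructor
      · rintro ⟨t, ht, rfl⟩
        exact ⟨t, ht, autFun_coe α t⟩
      · rintro ⟨x, hx, rfl⟩
        exact ⟨⟨x, hPT hx⟩, hx, (autFun_coe α ⟨x, hPT hx⟩).symm⟩
    rw [← heq] at hk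
    obtain ⟨χ, hχ, hχe⟩ := hk.exists_hom
    refine ⟨χ, hχ, fun x hφx hαx => ?_⟩
    rw [hχe]
    show autFun α (toFun φ (autFun α⁻¹ ((α ⟨x, hPT x.2⟩ : T) : Ω))) = _
    rw [← autFun_coe α ⟨x, hPT x.2⟩, autFun_inv_apply α (hPT x.2), toFun_coe]
    exact autFun_coe α ⟨_, hφx⟩
  · intro P hPT φ hφ
    obtain ⟨α, hα, e, he, hfe⟩ := dec_all d hPT (isMap_toFun hφ)
    obtain ⟨φ₀, hφ₀, h₀⟩ := ((isMap_genSys d).2 he).exists_hom
    refine ⟨α, hα, φ₀, hφ₀, fun x hx => ?_⟩
    rw [← toFun_coe φ x, hfe x x.2, ← h₀ x]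
    exact autFun_coe α ⟨_, hx⟩
  · intro α hα
    obtain ⟨hAut, -, -⟩ := good_fn d d.top hTn fun R hR hcard =>
      absurd (Subgroup.card_le_of_le (d.mem hR).2.1) (not_le.2 hcard)
    rw [hAut] at hα
    have hTN : S ≤ Subgroup.normalizer (T : Set Ω) := le_normalizer_of_stronglyClosed hT
    set K := InvExt.trivAuts F T T hT.1
    have hKn : ∀ β ∈ F.autGroup T, ∀ a ∈ K, β * a * β⁻¹ ∈ K := fun β hβ a ha => by
      obtain ⟨b, hb, hbe⟩ := receptive_extend (receptive_of_fullyNormalized d.pgroup d.sat hTn)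
        ((mem_autGroup hT.1).1 hβ) (fimg_autFun _) (N := T ⊔ centralizerIn S T) (fun g hg => by
          obtain ⟨t, ht, c, hc, rfl⟩ : g ∈ ((T : Set Ω) * (centralizerIn S T : Set Ω) : Set Ω) := by
            rw [← Subgroup.coe_mul_of_right_le_normalizer_left T (centralizerIn S T)
              (inf_le_left.trans hTN)]
            exact hg
          refine ⟨⟨S.mul_mem (hT.1 ht) hc.1, hTN (S.mul_mem (hT.1 ht) hc.1)⟩, autFun β t,
            hT.1 (autFun_mem β ht), fun x hx => ?_⟩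
          have h2 : t * c * x * (t * c)⁻¹ = t * x * t⁻¹ := by
            rw [show t * c * x * (t * c)⁻¹ = t * (c * x * c⁻¹) * t⁻¹ by group,
              show c * x * c⁻¹ = x by rw [← hc.2 x hx, mul_inv_cancel_right]]
          rw [h2]
          exact ((mem_autGroup hT.1).1 hβ).map_conj ht hx) le_sup_left
      exact InvExt.triv_conj hT hT.1 hb hbe ha
    suffices h : autOne p T (A T) ≤ K by
      obtain ⟨g, hg, hge, hgc⟩ := h hα
      obtain ⟨β, hβ, hβe⟩ := hg.exists_aut (InvExt.fimg_sup_centralizer hT.1 hg hge)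
      refine ⟨β, hβ, fun x => ?_, fun c hc => ⟨?_, ?_⟩⟩
      · rw [← autFun_coe β, Subgroup.coe_inclusion, hβe _ (Subgroup.mem_sup_left x.2), hge x x.2,
          autFun_coe]
      · rw [← autFun_coe β, hβe _ c.2]
        exact hgc c hc
      · rw [← autFun_coe β, hβe _ c.2]
        exact mul_mem (Subgroup.inv_mem _ hc.2)
          (InvExt.apply_mem_centralizer hg le_sup_left hge hc c.2).2
    refine sup_le ((Subgroup.closure_le _).2 fun a ha => ?_)
      (InvExt.autInducedBy_le_trivAuts hT hT.1)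
    obtain ⟨g, ν, hν, hW⟩ := d.aut_ext d.top hTn ha.1 ha.2
    obtain ⟨hg, hge, hgW⟩ := hW (centralizerIn S T) fun w hw => by
      refine ⟨⟨hw.1, hTN hw.1⟩, fun x hx => ?_⟩
      rw [← hw.2 x hx, mul_inv_cancel_right, inv_mul_cancel]
      exact Z.one_mem
    have hνa : ν * a ∈ K := ⟨g, hg, hge, hgW⟩
    haveI : (K.subgroupOf (F.autGroup T)).Normal :=
      ⟨fun k hk b => hKn _ b.2 _ hk⟩
    obtain ⟨j, hj⟩ := ker_isPGroup d hT.1 ⟨ν, hν⟩
    have haF : a ∈ F.autGroup T := d.aut_le d.top ha.1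
    let π := QuotientGroup.mk' (K.subgroupOf (F.autGroup T))
    have h1 : π ⟨ν, hν.1⟩ * π ⟨a, haF⟩ = 1 := by
      rw [← map_mul, QuotientGroup.mk'_apply, QuotientGroup.eq_one_iff]
      exact hνa
    have h2 : π ⟨a, haF⟩ = 1 := by
      refine InvExt.eq_one_of_coprime_pow (p := p) (k := j) (n := orderOf a) ha.2 ?_ ?_
      · rw [eq_inv_of_mul_eq_one_right h1, inv_pow, ← map_pow, show (⟨ν, hν.1⟩ :
          F.autGroup T) ^ p ^ j = 1 from Subtype.ext (congrArg Subtype.val hj : _), map_one, inv_one]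
      · rw [← map_pow, show (⟨a, haF⟩ : F.autGroup T) ^ orderOf a = 1 from
          Subtype.ext (pow_orderOf_eq_one a), map_one]
    exact (QuotientGroup.eq_one_iff (N := K.subgroupOf (F.autGroup T)) ⟨a, haF⟩).1 h2

end Cfsg.Agent.Fus.CentralLift
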