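import Cfsg.Agent.Lib.Fus.CentralLiftNormal
import Cfsg.Agent.Lib.Fus.FactorSat

/-!
Reading subgroups and maps through a central factor system.
-/

set_option autoImplicit false
set_option linter.style.haveILetI false
set_option linter.unusedSectionVars false

open scoped Classical Pointwise

universe u v

namespace Cfsg.Agent.Fus.CentralLift

open Subgroup FusionSystem

variable {Ω : Type u} [Group Ω] {S : Subgroup Ω} {F : FusionSystem S} {p : ℕ} {Z : Subgroup Ω}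
  {Ω' : Type v} [Group Ω'] {θ : S →* Ω'} {S' T' : Subgroup Ω'} {Fb : FusionSystem S'}
  {E' : FusionSystem T'}

/-- The reading map, as a function on the ambient group. -/
noncomputable def th (θ : S →* Ω') (x : Ω) : Ω' :=
  if h : x ∈ S then θ ⟨x, h⟩ else 1

theorem th_eq {x : Ω} (h : x ∈ S) : th θ x = θ ⟨x, h⟩ := dif_pos h

theorem th_mul {x y : Ω} (hx : x ∈ S) (hy : y ∈ S) : th θ (x * y) = th θ x * th θ y := by
  rw [th_eq hx, th_eq hy, th_eq (S.mul_mem hx hy), ← map_mul]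
  rfl

theorem th_inv {x : Ω} (hx : x ∈ S) : th θ x⁻¹ = (th θ x)⁻¹ := by
  rw [th_eq hx, th_eq (S.inv_mem hx), ← map_inv]
  rfl

theorem th_conj {x y : Ω} (hx : x ∈ S) (hy : y ∈ S) :
    th θ (x * y * x⁻¹) = th θ x * th θ y * (th θ x)⁻¹ := by
  rw [th_mul (S.mul_mem hx hy) (S.inv_mem hx), th_mul hx hy, th_inv hx]

theorem mem_img {P : Subgroup Ω} (hP : P ≤ S) {y : Ω'} :
    y ∈ imageAlong θ P ↔ ∃ x ∈ P, th θ x = y := by
  constructor
  · rintro ⟨x, hx, rfl⟩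
    exact ⟨x, hx, th_eq x.2⟩
  · rintro ⟨x, hx, rfl⟩
    exact ⟨⟨x, hP hx⟩, hx, (th_eq (hP hx)).symm⟩

theorem th_mem_img {P : Subgroup Ω} (hP : P ≤ S) {x : Ω} (hx : x ∈ P) :
    th θ x ∈ imageAlong θ P := (mem_img hP).2 ⟨x, hx, rfl⟩

theorem mem_pre {P' : Subgroup Ω'} {x : Ω} :
    x ∈ preimageAlong θ P' ↔ x ∈ S ∧ th θ x ∈ P' := by
  rw [mem_preimageAlong]
  exact ⟨fun ⟨h, hx⟩ => ⟨h, by rwa [th_eq h]⟩, fun ⟨h, hx⟩ => ⟨h, by rwa [th_eq h] at hx⟩⟩

theorem img_mono {P Q : Subgroup Ω} (h : P ≤ Q) : imageAlong θ P ≤ imageAlong θ Q :=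
  Subgroup.map_mono (Subgroup.comap_mono h)

/-- The hypotheses on a normal subsystem of a central factor system. -/
structure Quot (F : FusionSystem S) (p : ℕ) (Z : Subgroup Ω) (θ : S →* Ω')
    (Fb : FusionSystem S') (E' : FusionSystem T') : Prop where
  pgroup : IsPGroup p S
  sat : F.IsSaturated p
  central : Z ≤ F.center
  factor : F.IsFactorSystem Z θ Fb
  normal : E'.IsNormalIn Fb p

variable (q : Quot F p Z θ Fb E')
include q

theorem Quot.th_eq_iff {x y : Ω} (hx : x ∈ S) (hy : y ∈ S) :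
    th θ x = th θ y ↔ x⁻¹ * y ∈ Z := by
  rw [th_eq hx, th_eq hy, factor_map_eq_iff q.factor]

theorem Quot.th_one_iff {x : Ω} (hx : x ∈ S) : th θ x = 1 ↔ x ∈ Z := by
  rw [th_eq hx]
  exact q.factor.2.1 ⟨x, hx⟩

theorem Quot.range_eq : θ.range = S' := q.factor.2.2.1

theorem Quot.th_mem {x : Ω} (hx : x ∈ S) : th θ x ∈ S' := by
  rw [th_eq hx, ← q.range_eq]
  exact ⟨_, rfl⟩

theorem Quot.exists_th {y : Ω'} (hy : y ∈ S') : ∃ x ∈ S, th θ x = y := by
  rw [← q.range_eq] at hy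
  obtain ⟨x, rfl⟩ := hy
  exact ⟨x, x.2, th_eq x.2⟩

theorem Quot.img_le {P : Subgroup Ω} (hP : P ≤ S) : imageAlong θ P ≤ S' := fun y hy => by
  obtain ⟨x, hx, rfl⟩ := (mem_img hP).1 hy
  exact q.th_mem (hP hx)

theorem Quot.mem_of_th {P : Subgroup Ω} (hP : P ≤ S) (hZP : Z ≤ P) {x : Ω} (hx : x ∈ S)
    (h : th θ x ∈ imageAlong θ P) : x ∈ P := by
  obtain ⟨y, hy, hye⟩ := (mem_img hP).1 h
  have := mul_mem hy (hZP ((q.th_eq_iff (hP hy) hx).1 hye))
  rwa [mul_inv_cancel_left] at this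

theorem Quot.pre_img {P : Subgroup Ω} (hP : P ≤ S) (hZP : Z ≤ P) :
    preimageAlong θ (imageAlong θ P) = P :=
  preimageAlong_imageAlong q.factor hP hZP

theorem Quot.zS : Z ≤ S := q.factor.1

theorem Quot.tT : T' ≤ S' := q.normal.1.2.2.2.1.1

variable [Finite S]

theorem Quot.finite' : Finite ↥S' := by
  rw [← q.range_eq]
  exact Finite.of_surjective θ.rangeRestrict θ.rangeRestrict_surjective

theorem Quot.pgroup' : IsPGroup p S' := by
  have := q.pgroup.of_surjective θ.rangeRestrict θ.rangeRestrict_surjective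
  rwa [q.range_eq] at this

theorem Quot.fixes {P : Subgroup Ω} {f : Ω → Ω} (hf : IsMap F P f) {z : Ω} (hz : z ∈ Z)
    (hzP : z ∈ P) : f z = z := by
  obtain ⟨g, -, hg1, hg2⟩ := (isCentral_iff.1 (isCentral_center F)).2 P f hf
  rw [← hg1 z hzP]
  exact hg2 z (q.central hz)

theorem Quot.closed : F.StronglyClosed Z :=
  stronglyClosed_of_forall q.zS fun R hR f hf x hx => (q.fixes hf (hR hx) hx).symm ▸ hR hx

theorem Quot.le_fimg {P : Subgroup Ω} {f : Ω → Ω} (hf : IsMap F P f) (hZP : Z ≤ P) :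
    Z ≤ fimg f P := fun z hz => q.fixes hf hz (hZP hz) ▸ apply_mem_fimg f (hZP hz)

/-- A map induces a map of the factor system. -/
theorem Quot.induced {P : Subgroup Ω} (hP : P ≤ S) (hZP : Z ≤ P) {f : Ω → Ω} (hf : IsMap F P f) :
    ∃ f', IsMap Fb (imageAlong θ P) f' ∧ (∀ x ∈ P, f' (th θ x) = th θ (f x)) ∧
      fimg f' (imageAlong θ P) = imageAlong θ (fimg f P) := by
  have hf' : IsMap F (preimageAlong θ (imageAlong θ P)) f := (q.pre_img hP hZP).symm ▸ hf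
  obtain ⟨f', hf'm, hfe⟩ := exists_induced q.factor q.closed (q.img_le hP) hf'
  have he : ∀ x ∈ P, f' (th θ x) = th θ (f x) := fun x hx => by
    rw [th_eq (hP hx), th_eq (hf.apply_mem hx)]
    exact hfe x ((q.pre_img hP hZP).symm ▸ hx)
  have hfS := hf.fimg_le_S
  refine ⟨f', hf'm, he, le_antisymm (fimg_le fun y hy => ?_) fun y hy => ?_⟩
  · obtain ⟨x, hx, rfl⟩ := (mem_img hP).1 hy
    rw [he x hx]
    exact th_mem_img hfS (apply_mem_fimg f hx)
  · obtain ⟨x, hx, rfl⟩ := (mem_img hfS).1 hy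
    obtain ⟨w, hw, rfl⟩ := hf.mem_fimg_iff.1 hx
    rw [← he w hw]
    exact apply_mem_fimg f' (th_mem_img hP hw)

/-- A map of the factor system lifts. -/
theorem Quot.lift {P : Subgroup Ω} (hP : P ≤ S) (hZP : Z ≤ P) {g' : Ω' → Ω'}
    (hg' : IsMap Fb (imageAlong θ P) g') :
    ∃ g, IsMap F P g ∧ (∀ x ∈ P, th θ (g x) = g' (th θ x)) ∧
      imageAlong θ (fimg g P) = fimg g' (imageAlong θ P) := by
  obtain ⟨g, hg, hge⟩ := exists_lift q.factor hg'
  have hg₀ : IsMap F P g := q.pre_img hP hZP ▸ hg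
  have he : ∀ x ∈ P, th θ (g x) = g' (th θ x) := fun x hx => by
    rw [th_eq (hP hx), th_eq (hg₀.apply_mem hx)]
    exact hge x ((q.pre_img hP hZP).symm ▸ hx) _
  have hgS := hg₀.fimg_le_S
  refine ⟨g, hg₀, he, le_antisymm (fun y hy => ?_) (fimg_le fun y hy => ?_)⟩
  · obtain ⟨x, hx, rfl⟩ := (mem_img hgS).1 hy
    obtain ⟨w, hw, rfl⟩ := hg₀.mem_fimg_iff.1 hx
    rw [he w hw]
    exact apply_mem_fimg g' (th_mem_img hP hw)
  · obtain ⟨x, hx, rfl⟩ := (mem_img hP).1 hy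
    rw [← he x hx]
    exact th_mem_img hgS (apply_mem_fimg g hx)

/-- A lift fixing the image fixes the subgroup. -/
theorem Quot.fimg_eq {P R : Subgroup Ω} {g : Ω → Ω} (hg : IsMap F P g) (hZP : Z ≤ P) (hR : R ≤ S)
    (hZR : Z ≤ R) (h : imageAlong θ (fimg g P) = imageAlong θ R) : fimg g P = R := by
  rw [← q.pre_img hg.fimg_le_S (q.le_fimg hg hZP), h, q.pre_img hR hZR]

theorem Quot.mem_normalizer {Q : Subgroup Ω} (hQ : Q ≤ S) (hZQ : Z ≤ Q) {x : Ω} (hx : x ∈ S)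
    (h : th θ x ∈ Subgroup.normalizer (imageAlong θ Q : Set Ω')) :
    x ∈ Subgroup.normalizer (Q : Set Ω) := by
  refine mem_normalizer_of_forall (fun y hy => ?_) fun y hy => ?_
  · refine q.mem_of_th hQ hZQ (S.mul_mem (S.mul_mem hx (hQ hy)) (S.inv_mem hx)) ?_
    rw [th_conj hx (hQ hy)]
    exact (Subgroup.mem_normalizer_iff.1 h _).1 (th_mem_img hQ hy)
  · refine q.mem_of_th hQ hZQ (S.mul_mem (S.mul_mem (S.inv_mem hx) (hQ hy)) hx) ?_
    rw [th_mul (S.mul_mem (S.inv_mem hx) (hQ hy)) hx, th_mul (S.inv_mem hx) (hQ hy), th_inv hx]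
    exact (Subgroup.mem_normalizer_iff''.1 h _).1 (th_mem_img hQ hy)

theorem Quot.th_normalizer {Q : Subgroup Ω} (hQ : Q ≤ S) {x : Ω} (hx : x ∈ S)
    (h : x ∈ Subgroup.normalizer (Q : Set Ω)) :
    th θ x ∈ Subgroup.normalizer (imageAlong θ Q : Set Ω') := by
  refine mem_normalizer_of_forall (fun y hy => ?_) fun y hy => ?_
  · obtain ⟨w, hw, rfl⟩ := (mem_img hQ).1 hy
    rw [← th_conj hx (hQ hw)]
    exact th_mem_img hQ ((Subgroup.mem_normalizer_iff.1 h w).1 hw)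
  · obtain ⟨w, hw, rfl⟩ := (mem_img hQ).1 hy
    rw [← th_inv hx, ← th_mul (S.inv_mem hx) (hQ hw), ← th_mul (S.mul_mem (S.inv_mem hx) (hQ hw)) hx]
    exact th_mem_img hQ ((Subgroup.mem_normalizer_iff''.1 h w).1 hw)

/-- Cardinalities along the reading map. -/
theorem Quot.card_img {X : Subgroup Ω} (hX : X ≤ S) (hZX : Z ≤ X) :
    Nat.card X = Nat.card (imageAlong θ X) * Nat.card Z := by
  haveI := finite_of_le hX
  let f : X →* ↥(imageAlong θ X) :=
    (θ.comp (Subgroup.inclusion hX)).codRestrict _ fun x => ⟨⟨x, hX x.2⟩, x.2, rfl⟩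
  have hf : Function.Surjective f := fun ⟨y, hy⟩ => by
    obtain ⟨x, hx, rfl⟩ := hy
    exact ⟨⟨x, hx⟩, rfl⟩
  have hk : f.ker = Z.subgroupOf X := by
    ext x
    rw [MonoidHom.mem_ker, Subgroup.mem_subgroupOf]
    exact Subtype.ext_iff.trans (q.factor.2.1 ⟨x, hX x.2⟩)
  rw [Subgroup.card_eq_card_quotient_mul_card_subgroup f.ker,
    Nat.card_congr (QuotientGroup.quotientKerEquivOfSurjective f hf).toEquiv, hk,
    Nat.card_congr (Subgroup.subgroupOfEquivOfLe hZX).toEquiv]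

/-- Fully normalized subgroups have fully normalized images. -/
theorem Quot.fullyNormalized {Q : Subgroup Ω} (hn : F.IsFullyNormalized Q) (hZQ : Z ≤ Q) :
    Fb.IsFullyNormalized (imageAlong θ Q) := by
  refine ⟨q.img_le hn.1, fun R hR => ?_⟩
  obtain ⟨g', hg', rfl⟩ := isConj_iff.1 hR
  obtain ⟨g, hg, -, hgi⟩ := q.lift hn.1 hZQ hg'
  rw [← hgi]
  have key : ∀ X : Subgroup Ω, X ≤ S → Z ≤ X →
      imageAlong θ (normalizerIn S X) = normalizerIn S' (imageAlong θ X) := by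
    intro X hX hZX
    refine le_antisymm (fun y hy => ?_) fun y hy => ?_
    · obtain ⟨x, hx, rfl⟩ := (mem_img inf_le_left).1 hy
      exact ⟨q.th_mem hx.1, q.th_normalizer hX hx.1 hx.2⟩
    · obtain ⟨x, hx, rfl⟩ := q.exists_th hy.1
      exact th_mem_img inf_le_left ⟨hx, q.mem_normalizer hX hZX hx hy.2⟩
  have hZg := q.le_fimg hg hZQ
  have hgS := hg.fimg_le_S
  rw [← key _ hgS hZg, ← key _ hn.1 hZQ]
  have h1 := hn.2 _ hg.isConj
  have hN : ∀ X : Subgroup Ω, normalizerIn S X ≤ S := fun X => inf_le_left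
  rw [q.card_img (hN _) (hZg.trans (le_normalizerIn hgS)),
    q.card_img (hN _) (hZQ.trans (le_normalizerIn hn.1))] at h1
  haveI := finite_of_le q.zS
  exact Nat.le_of_mul_le_mul_right h1 Nat.card_pos

end Cfsg.Agent.Fus.CentralLift
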