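import Cfsg.Agent.Lib.Fus.CentralLiftFrattini
import Cfsg.Agent.Lib.Fus.SatCriterion

/-!
The lifted system is saturated.
-/

set_option autoImplicit false
set_option linter.style.haveILetI false
set_option linter.unusedSectionVars false

open scoped Classical

universe u

namespace Cfsg.Agent.Fus.CentralLift

open Subgroup FusionSystem SatCrit

variable {Ω : Type u} [Group Ω] {S : Subgroup Ω} {F : FusionSystem S} {p : ℕ} {Z T : Subgroup Ω}
  {ℋ : Subgroup Ω → Prop} {A : (P : Subgroup Ω) → Subgroup (MulAut P)}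
  [Finite S] [Fact p.Prime] (d : Ctx F p Z T ℋ A)
include d

theorem tPGroup : IsPGroup p T := d.pgroup.to_le d.tsc.1

theorem finiteT : Finite T := finite_of_le d.tsc.1

theorem genSys_twist {β : MulAut T} (hβ : β ∈ F.autGroup T) {P : Subgroup Ω} {f : Ω → Ω}
    (hf : IsMap (genSys d) P f) :
    IsMap (genSys d) (fimg (autFun β) P) (fun y => autFun β (f (autFun β⁻¹ y))) :=
  (isMap_genSys d).2 (((isMap_genSys d).1 hf).twist d hβ)

/-- Saturation at a subgroup passes to its images under `Aut_F(T)`. -/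
theorem good_twist {β : MulAut T} (hβ : β ∈ F.autGroup T) {Q : Subgroup Ω}
    (ha : (genSys d).IsFullyAutomized p Q) (hr : (genSys d).IsReceptive Q) :
    (genSys d).IsFullyAutomized p (fimg (autFun β) Q) ∧
      (genSys d).IsReceptive (fimg (autFun β) Q) := by
  set E := genSys d
  haveI := finiteT d
  obtain ⟨hQT, R, hR⟩ := ha
  haveI := finite_of_le hQT
  have hb : IsMap F T (autFun β) := (mem_autGroup d.tsc.1).1 hβ
  have hbQ := hb.res hQT
  have hQ'T : fimg (autFun β) Q ≤ T := fimg_le fun x hx => autFun_mem β (hQT hx)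
  obtain ⟨e, he, -⟩ := exists_mulEquiv hbQ rfl
  have hinv : ∀ x ∈ T, autFun β⁻¹ (autFun β x) = x := fun x hx => autFun_inv_apply β hx
  have hinv' : ∀ x ∈ T, autFun β (autFun β⁻¹ x) = x := fun x hx => by
    rw [← autFun_mul _ _ hx, mul_inv_cancel, autFun_one hx]
  have hback : fimg (autFun β⁻¹) (fimg (autFun β) Q) = Q := by
    rw [← hbQ.fimg_comp]
    exact (fimg_congr fun x hx => hinv x (hQT hx)).trans (fimg_id Q)
  have hA : ∀ α, α ∈ E.autGroup Q → MulAut.congr e α ∈ E.autGroup (fimg (autFun β) Q) := by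
    intro α hα
    refine (mem_autGroup hQ'T).2 ((genSys_twist d hβ ((mem_autGroup hQT).1 hα)).congr fun y hy => ?_)
    obtain ⟨x, hx, rfl⟩ := hbQ.mem_fimg_iff.1 hy
    rw [hinv x (hQT hx), ← he ⟨x, hx⟩, autFun_coe,
      show (MulAut.congr e) α (e ⟨x, hx⟩) = e (α ⟨x, hx⟩) by simp [MulAut.congr], he,
      show autFun α x = ((α ⟨x, hx⟩ : Q) : Ω) from autFun_coe α ⟨x, hx⟩]
  have hA' : ∀ α, MulAut.congr e α ∈ E.autGroup (fimg (autFun β) Q) → α ∈ E.autGroup Q := by
    intro α hα
    refine (mem_autGroup hQT).2 (((genSys_twist d (Subgroup.inv_mem _ hβ)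
      ((mem_autGroup hQ'T).1 hα)).res hback.ge).congr fun x hx => ?_)
    rw [inv_inv, ← he ⟨x, hx⟩, autFun_coe,
      show (MulAut.congr e) α (e ⟨x, hx⟩) = e (α ⟨x, hx⟩) by simp [MulAut.congr], he,
      hinv _ (hQT (α ⟨x, hx⟩).2)]
    exact (autFun_coe α ⟨x, hx⟩).symm
  let φ : E.autGroup Q →* E.autGroup (fimg (autFun β) Q) :=
    ((MulAut.congr e).toMonoidHom.comp (E.autGroup Q).subtype).codRestrict _ fun a => hA _ a.2
  have hφ : Function.Surjective φ := fun b =>
    ⟨⟨(MulAut.congr e).symm b, hA' _ (by rw [MulEquiv.apply_symm_apply]; exact b.2)⟩,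
      Subtype.ext ((MulAut.congr e).apply_symm_apply _)⟩
  refine ⟨⟨hQ'T, R.mapSurjective hφ, le_antisymm ?_ ?_⟩, receptive_of hQ'T ?_⟩
  · rintro _ ⟨a, ha', rfl⟩
    rw [SetLike.mem_coe, hR] at ha'
    obtain ⟨t, ht, hte⟩ := mem_autInducedBy.1 ha'
    refine mem_autInducedBy.2 ⟨autFun β t, autFun_mem β ht, fun y => ?_⟩
    obtain ⟨x, rfl⟩ := e.surjective y
    show ((MulAut.congr e (a : MulAut Q) (e x) : fimg (autFun β) Q) : Ω) = _
    rw [show MulAut.congr e (a : MulAut Q) (e x) = e ((a : MulAut Q) x) by simp [MulAut.congr], he,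
      he, ← hb.map_conj ht (hQT x.2)]
    exact congrArg (autFun β) (hte x)
  · intro b hb'
    obtain ⟨a, rfl⟩ := hφ b
    refine ⟨a, ?_, rfl⟩
    rw [SetLike.mem_coe, hR]
    obtain ⟨t, ht, hte⟩ := mem_autInducedBy.1 hb'
    refine mem_autInducedBy.2 ⟨autFun β⁻¹ t, autFun_mem _ ht, fun x => ?_⟩
    have h1 : ((((φ a : E.autGroup (fimg (autFun β) Q)) : MulAut ↥(fimg (autFun β) Q)) (e x) :
      fimg (autFun β) Q) : Ω) = t * (e x : Ω) * t⁻¹ := hte (e x)
    rw [show ((φ a : E.autGroup (fimg (autFun β) Q)) : MulAut ↥(fimg (autFun β) Q)) (e x) =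
      e ((a : MulAut Q) x) by simp [φ, MulAut.congr], he, he] at h1
    have hm : IsMap F T (autFun β⁻¹) := (mem_autGroup d.tsc.1).1 (Subgroup.inv_mem _ hβ)
    have h2 := congrArg (autFun β⁻¹) h1
    rw [hinv _ (hQT ((a : MulAut Q) x).2), hm.map_conj ht (autFun_mem β (hQT x.2)),
      hinv _ (hQT x.2)] at h2
    exact h2
  · intro P f hf hfQ N hPN hN
    have hPT : P ≤ T := hf.source_le
    have hbP := hb.res hPT
    have hf' := genSys_twist d (Subgroup.inv_mem _ hβ) hf
    rw [inv_inv] at hf'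
    set P' := fimg (autFun β⁻¹) P
    have hm : IsMap F T (autFun β⁻¹) := (mem_autGroup d.tsc.1).1 (Subgroup.inv_mem _ hβ)
    have hf'Q : fimg (fun y => autFun β⁻¹ (f (autFun β y))) P' = Q := by
      rw [← (hm.res hPT).fimg_comp, fimg_congr fun x hx => show
        autFun β⁻¹ (f (autFun β (autFun β⁻¹ x))) = autFun β⁻¹ (f x) by rw [hinv' x (hPT hx)],
        hf.fimg_comp, hfQ, hback]
    have hNT : N ≤ T := fun g hg => ((hN g).1 hg).1
    obtain ⟨g', hg', hge'⟩ := receptive_extend hr hf' hf'Q (N := fimg (autFun β⁻¹) N) (fun y hy => by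
      obtain ⟨g, hg, rfl⟩ := (hm.res hNT).mem_fimg_iff.1 hy
      obtain ⟨hgT, hgn, k, hk, hke⟩ := (hN g).1 hg
      refine ⟨⟨autFun_mem _ hgT, (hm.map_normalizerIn hPT hgT hgn).2⟩,
        autFun β⁻¹ k, autFun_mem _ hk, fun z hz => ?_⟩
      obtain ⟨x, hx, rfl⟩ := (hm.res hPT).mem_fimg_iff.1 hz
      have hgx := (Subgroup.mem_normalizer_iff.1 hgn x).1 hx
      rw [← hm.map_conj hgT (hPT hx), hinv' _ (hPT hgx), hinv' x (hPT hx), hke x hx,
        hm.map_conj hk (hf.apply_mem hx)]) (fimg_mono _ hPN)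
    have hg := genSys_twist d hβ hg'
    have hNimg : fimg (autFun β) (fimg (autFun β⁻¹) N) = N := by
      rw [← (hm.res hNT).fimg_comp]
      exact (fimg_congr fun x hx => hinv' x (hNT hx)).trans (fimg_id N)
    rw [hNimg] at hg
    refine ⟨_, hg, fun x hx => ?_⟩
    show autFun β (g' (autFun β⁻¹ x)) = f x
    rw [hge' _ (apply_mem_fimg _ hx), hinv' x (hPT hx), hinv' _ (hf.apply_mem hx)]

/-- The conditions at a member. -/
def Good (P : Subgroup Ω) : Prop :=
  (∀ Q, (genSys d).IsConj P Q → (genSys d).autGroup Q ≤ A Q) ∧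
    ∃ Q, (genSys d).IsConj P Q ∧ (genSys d).IsFullyAutomized p Q ∧ (genSys d).IsReceptive Q

/-- The statement at a fully normalized member, given the larger members. -/
theorem good_fn {P₀ : Subgroup Ω} (hP₀ : ℋ P₀) (hn : F.IsFullyNormalized P₀)
    (big : ∀ R, ℋ R → Nat.card P₀ < Nat.card R → Good d R) :
    (genSys d).autGroup P₀ = autOne p T (A P₀) ∧ (genSys d).IsFullyAutomized p P₀ ∧
      (genSys d).IsReceptive P₀ := by
  set E := genSys d
  have hT := d.tsc
  haveI := finiteT d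
  have hTp := tPGroup d
  have hPT : P₀ ≤ T := (d.mem hP₀).2.1
  haveI := finite_of_le hn.1
  have hEn : E.IsFullyNormalized P₀ :=
    InvExt.fullyNormalized_sub (E := E) d.pgroup d.sat hT (genSys_le d) hPT hn
  have hOle : autOne p T (A P₀) ≤ E.autGroup P₀ := fun o ho =>
    (mem_autGroup hPT).2 ((isMap_genSys d).2 (Gen.of_autOne d hP₀ ho))
  have hOn : ∀ γ ∈ E.autGroup P₀, ∀ o ∈ autOne p T (A P₀), γ * o * γ⁻¹ ∈ autOne p T (A P₀) :=
    fun γ hγ o ho => autOne_normal d hP₀ hn (autGroup_mono (genSys_le d) P₀ hγ) ho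
  have hmemℋ : ∀ Q, E.IsConj P₀ Q → ℋ Q := fun Q hQ => by
    obtain ⟨f, hf, rfl⟩ := isConj_iff.1 hQ
    exact d.transport hP₀ (hf.mono (genSys_le d))
  -- the automizer is the lifted group
  obtain ⟨hAut, htr⟩ : E.autGroup P₀ = autOne p T (A P₀) ∧ ∀ Q, E.IsConj P₀ Q → Up E Q P₀ := by
    rcases hPT.eq_or_lt with rfl | hlt
    · refine ⟨le_antisymm (fun α hα => ?_) hOle, fun Q hQ => ?_⟩
      · have key : ∀ {P : Subgroup Ω} {f : Ω → Ω}, Gen P₀ p ℋ A P f → P = P₀ →
            ∃ o ∈ autOne p P₀ (A P₀), ∀ x ∈ P₀, f x = autFun o x := by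
          intro P f h
          induction h with
          | @aut P Q a f hQ ha hPQ hf =>
            rintro rfl
            obtain rfl : Q = P := le_antisymm (d.mem hQ).2.1 hPQ
            exact ⟨a, Subgroup.mem_sup_left ha, hf⟩
          | @inner P t f hP ht hf =>
            rintro rfl
            refine ⟨MulAut.conj ⟨t, ht⟩, Subgroup.mem_sup_right
              (mem_autInducedBy.2 ⟨t, ht, fun x => rfl⟩), fun x hx => ?_⟩
            rw [hf x hx]
            exact (autFun_coe (MulAut.conj (⟨t, ht⟩ : P)) ⟨x, hx⟩).symm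
          | @comp P Q f g k hf hg hm he ih₁ ih₂ =>
            rintro rfl
            obtain ⟨o, ho, hoe⟩ := ih₁ rfl
            obtain ⟨o', ho', hoe'⟩ := ih₂ (le_antisymm (hg.source_le d) fun y hy => by
              have := hm (autFun o⁻¹ y) (autFun_mem _ hy)
              rwa [hoe _ (autFun_mem _ hy), ← autFun_mul _ _ hy, mul_inv_cancel, autFun_one hy]
                at this)
            refine ⟨o' * o, mul_mem ho' ho, fun x hx => ?_⟩
            rw [he x hx, hoe x hx, hoe' _ (autFun_mem _ hx), autFun_mul _ _ hx]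
        obtain ⟨o, ho, hoe⟩ := key ((isMap_genSys d).1 ((mem_autGroup hPT).1 hα)) rfl
        rwa [mulAut_ext hoe]
      · obtain rfl := eq_top_of_isConj hQ
        exact Up.refl
    have hgood : LargerGood E p P₀ := fun Q R hQ hQR hR => by
      haveI := finite_of_le hR
      exact (big R (d.up (hmemℋ Q hQ) hQR.le hR)
        (isConj_card hQ ▸ card_lt_of_lt hQR)).2
    have hQlt : ∀ Q, E.IsConj P₀ Q → Q < T := fun Q hQ =>
      lt_of_le_of_ne (isConj_le_right hQ) fun e => by
        have h1 := isConj_card hQ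
        rw [e] at h1
        exact (card_lt_of_lt hlt).ne h1.symm
    have hNlt : ∀ Q, E.IsConj P₀ Q → Nat.card P₀ < Nat.card (normalizerIn T Q) := fun Q hQ => by
      haveI : Finite ↥(normalizerIn T Q) := finite_of_le (S := T) inf_le_left
      rw [← isConj_card hQ]
      exact card_lt_of_lt (lt_normalizerIn hTp (hQlt Q hQ))
    -- a generator with larger source
    have hstart : ∀ {P : Subgroup Ω} {f : Ω → Ω}, Gen T p ℋ A P f → ∀ Q ≤ P, E.IsConj P₀ Q →
        Q < P → Q < normalizerIn P Q ∧ normalizerIn P Q ≤ normalizerIn T Q ∧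
          IsMap E (normalizerIn P Q) f := by
      intro P f h Q hQP _ hlt'
      have hP := h.source_le d
      haveI := finite_of_le hP
      exact ⟨lt_normalizerIn (hTp.to_le hP) hlt', inf_le_inf_right _ hP,
        ((isMap_genSys d).2 h).res inf_le_left⟩
    have hjoin : ∀ {P : Subgroup Ω} {f : Ω → Ω}, Gen T p ℋ A P f → ∀ Q ≤ P, E.IsConj P₀ Q →
        Join E Q (fimg f Q) := by
      intro P f h
      induction h with
      | @aut P R a f hR ha hPR hf =>
        intro Q hQP hQ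
        rcases (hQP.trans hPR).eq_or_lt with e | hlt'
        · subst e
          rw [fimg_congr fun x hx => hf x (hQP hx), fimg_autFun]
          exact ⟨Q, Up.refl, Up.refl⟩
        · obtain ⟨h1, h2, h3⟩ := hstart (Gen.aut (f := autFun a) hR ha le_rfl fun _ _ => rfl) Q
            (hQP.trans hPR) hQ hlt'
          rw [fimg_congr fun x hx => hf x (hQP hx)]
          exact join_step hTp hgood hQ h1 h2 h3
      | @inner P t f hP ht hf =>
        intro Q hQP hQ
        obtain ⟨h1, h2, h3⟩ := hstart (Gen.inner (f := fun x => t * x * t⁻¹) le_rfl ht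
          fun _ _ => rfl) Q (isConj_le_right hQ) hQ (hQlt Q hQ)
        rw [fimg_congr fun x hx => hf x (hQP hx)]
        exact join_step hTp hgood hQ h1 h2 h3
      | @comp P R f g k hf hg hm he ih₁ ih₂ =>
        intro Q hQP hQ
        have hfQ := (((isMap_genSys d).2 hf).res hQP)
        have hle : fimg f Q ≤ R := fimg_le fun x hx => hm x (hQP hx)
        have hQ₁ := isConj_trans hQ hfQ.isConj
        rw [fimg_congr fun x hx => he x (hQP hx), hfQ.fimg_comp g]
        exact join_trans le_rfl (fun Q₁ R₁ g₁ a b c e _ => join_step hTp hgood a b c e)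
          (isConj_le_right hQ) (((isMap_genSys d).2 hg).res hle).fimg_le_S hQ₁
          (hNlt _ hQ₁) (ih₁ Q hQP hQ) (ih₂ _ hle hQ₁)
    have hPN := le_normalizerIn (S := T) hPT
    have htr : ∀ Q, E.IsConj P₀ Q → Up E Q P₀ := by
      intro Q hQ
      obtain ⟨f, hf, hfQ⟩ := isConj_iff.1 (isConj_symm hQ)
      have hj : Join E Q P₀ := hfQ ▸ hjoin ((isMap_genSys d).1 hf) Q le_rfl hQ
      obtain ⟨U, hQU, g, hg, hgU⟩ := hj
      refine hQU.trans (isConj_le_right hQ) ?_
      have hU : E.IsConj P₀ U := hgU ▸ (hg.res hPN).isConj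
      haveI : Finite ↥(normalizerIn T U) := finite_of_le (S := T) inf_le_left
      have heq : fimg g (normalizerIn T P₀) = normalizerIn T U :=
        Subgroup.eq_of_le_of_card_ge (hgU ▸ fimg_le fun x hx => hg.map_normalizerIn hPN hx hx.2)
          (hg.card_fimg.symm ▸ hEn.2 U hU)
      obtain ⟨g', hg', hg1, -, -⟩ := hg.exists_inv
      rw [heq] at hg'
      refine ⟨g', hg', ?_⟩
      rw [← hgU, ← (hg.res hPN).fimg_comp]
      exact (fimg_congr fun x hx => hg1 x (hPN hx)).trans (fimg_id P₀)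
    refine ⟨?_, htr⟩
    set O := autOne p T (A P₀) with hO
    -- stabilizers in saturated larger members restrict to lifted automorphisms
    have hstab : ∀ R Pc, ℋ R → Nat.card P₀ < Nat.card R → E.IsFullyAutomized p R →
        (hPcR : Pc ≤ R) → E.IsConj P₀ Pc → SylowAt E p R Pc → ∀ ψ, IsMap E Pc ψ →
        fimg ψ Pc = P₀ →
        (∀ k ∈ normalizerIn T Pc, k ∈ Subgroup.normalizer (R : Set Ω) →
          ∃ t ∈ T, ∀ y ∈ Pc, ψ (k * y * k⁻¹) = t * ψ y * t⁻¹) →
        ∀ ξ ∈ stabSub E R Pc, ∃ o ∈ O, ∀ x ∈ Pc, autFun o (ψ x) = ψ (autFun ξ x) := by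
      intro R Pc hR hcard ha hPcR hPc hsy ψ hψ hψP hk ξ hξ
      have hRT := (d.mem hR).2.1
      have hPcℋ := hmemℋ Pc hPc
      haveI := finite_of_le hRT
      obtain ⟨ρ, hρ⟩ := exists_rho hPcR hRT hψ hψP
      have hval : ∀ (ζ : stabSub E R Pc) (x : Ω), x ∈ Pc → autFun (ζ : MulAut R) x ∈ Pc :=
        fun ζ x hx => by
          rw [show autFun (ζ : MulAut R) x = (((ζ : MulAut R) ⟨x, hPcR hx⟩ : R) : Ω) from
            autFun_coe _ ⟨x, hPcR hx⟩]
          exact (ζ.2.2 _).2 hx
      let U : Subgroup (MulAut R) := (O.comap ((E.autGroup P₀).subtype.comp ρ)).map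
        (stabSub E R Pc).subtype
      have hU : ∀ {ζ} (hζ : ζ ∈ stabSub E R Pc), (ρ ⟨ζ, hζ⟩ : MulAut P₀) ∈ O → ζ ∈ U :=
        fun hζ h => ⟨⟨_, hζ⟩, h, rfl⟩
      have hAR : E.autGroup R ≤ A R := (big R hR hcard).1 R (isConj_refl E hRT)
      obtain ⟨⟨ζ, hζ⟩, hζO, rfl⟩ : ξ ∈ U := by
        refine induction_parts d (fun ζ hζ hord => hU hζ ?_) (fun ζ hζ j hj => hU hζ ?_) hξ
        · have hζm : IsMap E Pc (autFun ζ) := ((mem_autGroup hRT).1 hζ.1).res hPcR
          obtain ⟨β, -, hβe⟩ := hζm.exists_aut (hζ.2.fimg_eq hPcR hPcR)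
          have hβA : β ∈ A Pc := d.aut_res hPcℋ hR hPcR (hAR hζ.1) hβe
          obtain ⟨e, he, -⟩ := exists_mulEquiv hψ hψP
          refine Subgroup.mem_sup_left (Subgroup.subset_closure ⟨?_, ?_⟩)
          · have h1 : MulAut.congr e β = (ρ ⟨ζ, hζ⟩ : MulAut P₀) := mulAut_ext fun y hy => by
              rw [← hψP] at hy
              obtain ⟨x, hx, rfl⟩ := hψ.mem_fimg_iff.1 hy
              rw [hρ ⟨ζ, hζ⟩ x hx, ← hβe x hx, ← he ⟨x, hx⟩, autFun_coe,
                show autFun β x = ((β ⟨x, hx⟩ : Pc) : Ω) from autFun_coe β ⟨x, hx⟩, ← he]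
              simp [MulAut.congr]
            exact h1 ▸ d.aut_natural hPcℋ (hψ.mono (genSys_le d)) hψP e he hβA
          · refine Nat.Coprime.coprime_dvd_left ?_ hord
            rw [show orderOf ζ = orderOf (⟨ζ, hζ⟩ : stabSub E R Pc) from
              orderOf_injective (stabSub E R Pc).subtype Subtype.val_injective ⟨ζ, hζ⟩]
            exact orderOf_map_dvd ((E.autGroup P₀).subtype.comp ρ) ⟨ζ, hζ⟩
        · have hzp : IsPGroup p (Subgroup.zpowers ζ) := by
            rintro ⟨z, hz⟩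
            obtain ⟨i, rfl⟩ := Subgroup.mem_zpowers_iff.1 hz
            refine ⟨j, Subtype.ext ?_⟩
            rw [SubmonoidClass.coe_pow, OneMemClass.coe_one, ← zpow_natCast, ← zpow_mul, mul_comm,
              zpow_mul, zpow_natCast, hj, one_zpow]
          obtain ⟨δ, hδ, hδe⟩ := hsy _ hzp (Subgroup.zpowers_le.2 hζ)
          obtain ⟨k, hk', hke⟩ := mem_autInducedBy.1 (hδe ζ (Subgroup.mem_zpowers ζ))
          have hmem : δ * ζ * δ⁻¹ ∈ stabSub E R Pc :=
            mul_mem (mul_mem hδ hζ) (Subgroup.inv_mem _ hδ)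
          have hkN := mem_normalizerIn_of_stab hPcR hk' hmem.2 hke
          obtain ⟨t, ht, hte⟩ := hk k hkN (mem_normalizer_of_conj_aut hke)
          have h1 : (ρ ⟨_, hmem⟩ : MulAut P₀) ∈ O := by
            refine Subgroup.mem_sup_right (mem_autInducedBy.2 ⟨t, ht, fun y => ?_⟩)
            obtain ⟨x, hx, hxe⟩ := hψ.mem_fimg_iff.1 (hψP.symm ▸ y.2 : (y : Ω) ∈ fimg ψ Pc)
            rw [← autFun_coe, ← hxe, hρ ⟨_, hmem⟩ x hx, show autFun (δ * ζ * δ⁻¹) x =
              (((δ * ζ * δ⁻¹ : MulAut R) ⟨x, hPcR hx⟩ : R) : Ω) from autFun_coe _ ⟨x, hPcR hx⟩,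
              hke, hte x hx]
          have h2 := hOn _ (Subgroup.inv_mem _ (ρ ⟨δ, hδ⟩).2) _ h1
          have he : (ρ ⟨ζ, hζ⟩ : MulAut P₀) =
              ((ρ ⟨δ, hδ⟩ : MulAut P₀)⁻¹ * (ρ ⟨_, hmem⟩ : MulAut P₀) *
                (ρ ⟨δ, hδ⟩ : MulAut P₀)⁻¹⁻¹) := by
            rw [show (⟨_, hmem⟩ : stabSub E R Pc) = ⟨δ, hδ⟩ * ⟨ζ, hζ⟩ * (⟨δ, hδ⟩)⁻¹ from rfl,
              map_mul, map_mul, map_inv]
            simp [mul_assoc]
          exact he ▸ h2
      exact ⟨_, hζO, fun x hx => hρ ⟨ζ, hζ⟩ x hx⟩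
    -- maps with larger source induce lifted automorphisms
    have hext : ∀ n (X : Subgroup Ω) (g : Ω → Ω), Nat.card T - Nat.card X = n → IsMap E X g → P₀ < X →
        X ≤ normalizerIn T P₀ → fimg g P₀ = P₀ → ∃ o ∈ O, ∀ x ∈ P₀, g x = autFun o x := by
      intro n
      induction n using Nat.strong_induction_on with
      | _ n ih =>
        intro X g hn' hg hX hXN hgP
        have hXT := hg.source_le
        haveI := finite_of_le hXT
        haveI : Finite ↥(normalizerIn T P₀) := finite_of_le (S := T) inf_le_left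
        have hP₀c : E.IsConj P₀ P₀ := isConj_refl E hPT
        obtain ⟨R', hXR', ha', hr'⟩ := hgood.get hP₀c hX hXT
        have hR'ℋ : ℋ R' := by
          obtain ⟨r, hr, rfl⟩ := isConj_iff.1 hXR'
          exact d.transport (d.up hP₀ hX.le hXT) (hr.mono (genSys_le d))
        have hcR' : Nat.card P₀ < Nat.card R' := by
          rw [isConj_card hXR']
          exact card_lt_of_lt hX
        have hgN : fimg g X ≤ normalizerIn T P₀ :=
          hgP ▸ fimg_le fun x hx => hg.map_normalizerIn hX.le hx (hXN hx).2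
        rcases hXN.eq_or_lt with e | hlt₁
        · subst e
          have hgX : fimg g (normalizerIn T P₀) = normalizerIn T P₀ :=
            Subgroup.eq_of_le_of_card_ge hgN hg.card_fimg.ge
          obtain ⟨a, hma, haR, hsy⟩ := exists_good_map hTp ha' hr' hX.le le_rfl hXR'
          have hma' := hma.res (le_inf le_rfl Subgroup.le_normalizer)
          have hPc : E.IsConj P₀ (fimg a P₀) := (hma'.res hX.le).isConj
          have hPcR : fimg a P₀ ≤ R' := haR ▸ fimg_mono a hX.le
          have hR'T := (d.mem hR'ℋ).2.1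
          haveI : Finite ↥(normalizerIn T (fimg a P₀)) := finite_of_le (S := T) inf_le_left
          have hTPc : normalizerIn T (fimg a P₀) = R' := by
            refine (Subgroup.eq_of_le_of_card_ge (haR ▸ fimg_le fun x hx =>
              hma'.map_normalizerIn hX.le hx hx.2) ?_).symm
            rw [← haR, hma'.card_fimg]
            exact hEn.2 _ hPc
          obtain ⟨a', ha'm, ha1, ha2, ha3⟩ := hma'.exists_inv
          rw [haR] at ha'm ha2 ha3
          have ha'P : fimg a' (fimg a P₀) = P₀ := by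
            rw [← (hma'.res hX.le).fimg_comp]
            exact (fimg_congr fun x hx => ha1 x (hX.le hx)).trans (fimg_id P₀)
          haveI := finite_of_le hR'T
          have hmid : IsMap E R' (fun y => a (g (a' y))) :=
            ((ha'm.comp hg fun y hy => (ha2 y hy).1).comp hma' fun y hy =>
              hgX ▸ apply_mem_fimg g (ha2 y hy).1)
          obtain ⟨ξ, hξ, hξe⟩ := hmid.exists_aut (Subgroup.eq_of_le_of_card_ge (fimg_le fun y hy =>
            haR ▸ apply_mem_fimg a (hgX ▸ apply_mem_fimg g (ha2 y hy).1 : g (a' y) ∈ _))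
            hmid.card_fimg.ge)
          have hfix : fimg (autFun ξ) (fimg a P₀) = fimg a P₀ := by
            rw [fimg_congr fun y hy => hξe y (hPcR hy), ← (hma'.res hX.le).fimg_comp,
              fimg_congr fun x hx => show a (g (a' (a x))) = a (g x) by rw [ha1 x (hX.le hx)],
              (hg.res hX.le).fimg_comp, hgP]
          have hmv : Moves ξ (fimg a P₀) (fimg a P₀) :=
            (congrArg (Moves ξ (fimg a P₀)) hfix).mp (moves_fimg ξ hPcR)
          obtain ⟨o, ho, hoe⟩ := hstab R' _ hR'ℋ hcR' ha' hPcR hPc hsy a' (ha'm.res hPcR) ha'P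
            (fun k hk _ => ⟨a' k, hXT (ha2 k (hTPc ▸ hk)).1, fun y hy =>
              ha'm.map_conj (hTPc ▸ hk) (hPcR hy)⟩) ξ ⟨hξ, hmv⟩
          refine ⟨o, ho, fun x hx => ?_⟩
          have h1 := hoe (a x) (apply_mem_fimg a hx)
          rw [hξe _ (hPcR (apply_mem_fimg a hx)), ha1 x (hX.le hx),
            ha1 _ (hgX ▸ apply_mem_fimg g (hX.le hx))] at h1
          exact h1.symm
        have hlt₂ : fimg g X < normalizerIn T P₀ := lt_of_le_of_ne hgN fun e => by
          have h1 := hg.card_fimg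
          rw [e] at h1
          exact absurd h1 (card_lt_of_lt hlt₁).ne'
        obtain ⟨a, b, h, hma, hmb, haX, hbX, hsy, hh, hhP, hhR, ξ, hξ, hξe⟩ :=
          exists_split hTp hg hX.le hXN hXR' ha' hr'
        rw [hgP] at hmb hsy hhP hξ
        have ih' : ∀ Y k, IsMap E Y k → P₀ < Y → Y ≤ normalizerIn T P₀ → fimg k P₀ = P₀ →
            Nat.card X < Nat.card Y → ∃ o ∈ O, ∀ x ∈ P₀, k x = autFun o x :=
          fun Y k h1 h2 h3 h4 h5 => by
            have := Subgroup.card_le_of_le h1.source_le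
            exact ih _ (by omega) Y k rfl h1 h2 h3 h4
        set Na := normalizerIn (normalizerIn T P₀) X
        set Nb := normalizerIn (normalizerIn T P₀) (fimg g X)
        have hXa : X ≤ Na := le_inf hXN Subgroup.le_normalizer
        have hXb : fimg g X ≤ Nb := le_inf hgN Subgroup.le_normalizer
        have hca : Nat.card X < Nat.card Na := card_lt_chain hTp hlt₁
        have hcb : Nat.card X < Nat.card Nb := by
          rw [← hg.card_fimg]; exact card_lt_chain hTp hlt₂
        have hP₀X' : P₀ ≤ fimg g X := hgP ▸ fimg_mono g hX.le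
        set Pc := fimg a P₀
        set Pd := fimg b P₀
        have hPc : E.IsConj P₀ Pc := (hma.res (hX.le.trans hXa)).isConj
        have hPd : E.IsConj P₀ Pd := (hmb.res (hP₀X'.trans hXb)).isConj
        obtain ⟨ψc, hψc, hψcP⟩ := htr Pc hPc
        obtain ⟨ψd, hψd, hψdP⟩ := htr Pd hPd
        obtain ⟨oA, hoA, hA⟩ := ih' Na _ (hma.comp hψc fun x hx =>
            hma.map_normalizerIn (hX.le.trans hXa) hx hx.1.2) (hX.trans_le hXa) inf_le_left
          (by rw [(hma.res (hX.le.trans hXa)).fimg_comp, hψcP]) hca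
        haveI : Finite ↥Nb := finite_of_le hmb.source_le
        obtain ⟨oB, hoB, hB⟩ := ih' Nb _ (hmb.comp hψd fun x hx =>
            hmb.map_normalizerIn (hP₀X'.trans hXb) hx hx.1.2)
          (lt_of_le_of_ne (hP₀X'.trans hXb) fun e => by
            rw [← e] at hcb
            exact absurd hcb (card_lt_of_lt hX).not_gt) inf_le_left
          (by rw [(hmb.res (hP₀X'.trans hXb)).fimg_comp, hψdP]) hcb
        set Nc := normalizerIn (normalizerIn T Pc) R'
        have hXc : fimg a Na ≤ Nc := by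
          have := fimg_chain_le hma hX.le hXN
          rw [haX] at this
          exact this
        have hPcR' : Pc ≤ R' := haX ▸ fimg_mono a hX.le
        have hPdR' : Pd ≤ R' := hbX ▸ fimg_mono b hP₀X'
        have hR'c : R' ≤ Nc := le_trans (haX ▸ fimg_mono a hXa) hXc
        haveI : Finite ↥Nc := finite_of_le hh.source_le
        haveI : Finite ↥Na := finite_of_le hma.source_le
        have hcc : Nat.card X < Nat.card Nc := by
          have := Subgroup.card_le_of_le hXc
          rw [hma.card_fimg] at this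
          omega
        have hPcN : Pc ≤ Nc := hPcR'.trans hR'c
        have hNcle : Nc ≤ normalizerIn T Pc := inf_le_left
        obtain ⟨ψc', hψc', hψc1, hψc2, -⟩ := (hψc.res hNcle).exists_inv
        have hNcPd : ∀ x ∈ Nc, h x ∈ normalizerIn T Pd := fun x hx =>
          hhP ▸ hh.map_normalizerIn hPcN hx hx.1.2
        have hPcS : Pc ≤ normalizerIn T Pc := le_normalizerIn (isConj_le_right hPc)
        obtain ⟨oβ, hoβ, hβ⟩ := ih' (fimg ψc Nc) (fun y => ψd (h (ψc' y)))
          ((hψc'.comp hh fun y hy => (hψc2 y hy).1).comp hψd fun y hy => hNcPd _ (hψc2 y hy).1)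
          (lt_of_le_of_ne (hψcP ▸ fimg_mono ψc hPcN) fun e => by
            have h1 := (hψc.res hNcle).card_fimg
            rw [← e] at h1
            have h2 := card_lt_of_lt hX
            omega)
          (hψcP ▸ fimg_le fun x hx => hψc.map_normalizerIn hPcS hx.1 hx.1.2)
          (by
            conv_lhs => rw [← hψcP, ← (hψc.res hPcS).fimg_comp]
            rw [fimg_congr fun x hx => show ψd (h (ψc' (ψc x))) = ψd (h x) by
              rw [hψc1 x (hPcN hx)], (hh.res hPcN).fimg_comp, hhP, hψdP])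
          (by rw [(hψc.res hNcle).card_fimg]; exact hcc)
        have hPdN := le_normalizerIn (S := T) (isConj_le_right hPd)
        obtain ⟨oε, hoε, hε⟩ := hstab R' Pd hR'ℋ hcR' ha' hPdR' hPd hsy ψd (hψd.res hPdN) hψdP
          (fun k hk _ => ⟨ψd k, hψd.apply_mem hk, fun y hy => hψd.map_conj hk (hPdN hy)⟩) ξ⁻¹
          (Subgroup.inv_mem _ hξ)
        refine ⟨oB⁻¹ * (oε * (oβ * oA)), mul_mem (Subgroup.inv_mem _ hoB)
          (mul_mem hoε (mul_mem hoβ hoA)), fun x hx => ?_⟩
        have hgx : g x ∈ P₀ := hgP ▸ apply_mem_fimg g hx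
        have hax : a x ∈ Pc := apply_mem_fimg a hx
        have h1 : autFun ξ⁻¹ (h (a x)) = b (g x) := by
          rw [← hξe x (hX.le hx), autFun_inv_apply ξ (hPdR' (apply_mem_fimg b hgx))]
        have h2 : ψd (h (a x)) = autFun oβ (autFun oA x) := by
          rw [← hA x hx, ← hβ _ (hψcP ▸ apply_mem_fimg ψc hax), hψc1 _ (hPcN hax)]
        have h3 : autFun oB (g x) = autFun (oε * (oβ * oA)) x := by
          rw [← hB _ hgx, ← h1, ← hε _ (hhP ▸ apply_mem_fimg h hax), h2, autFun_mul _ _ hx,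
            autFun_mul _ _ hx]
        rw [autFun_mul _ _ hx, ← h3, autFun_inv_apply oB hgx]
    -- the relation of the transported maps
    let G : Subgroup Ω → (Ω → Ω) → Prop := fun Q f => ∀ u v,
      IsMap E (normalizerIn T Q) u → fimg u Q = P₀ →
      IsMap E (normalizerIn T (fimg f Q)) v → fimg v (fimg f Q) = P₀ →
      ∃ o ∈ O, ∀ x ∈ Q, v (f x) = autFun o (u x)
    have hGbig : ∀ Q R f, E.IsConj P₀ Q → Q < R → R ≤ normalizerIn T Q → IsMap E R f → G Q f := by
      intro Q R f hQ hQR hRN hf u v hu huQ hv hvQ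
      have hQN := le_normalizerIn (S := T) (isConj_le_right hQ)
      obtain ⟨u', hu', hu1, hu2, -⟩ := (hu.res hRN).exists_inv
      have hfN : ∀ x ∈ R, f x ∈ normalizerIn T (fimg f Q) := fun x hx =>
        hf.map_normalizerIn hQR.le hx (hRN hx).2
      have hm : IsMap E (fimg u R) (fun y => v (f (u' y))) :=
        (hu'.comp hf fun y hy => (hu2 y hy).1).comp hv fun y hy => hfN _ (hu2 y hy).1
      obtain ⟨o, ho, hoe⟩ := hext _ _ _ rfl hm (by
          refine lt_of_le_of_ne (huQ ▸ fimg_mono u hQR.le) fun e => ?_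
          haveI := finite_of_le hf.source_le
          have h1 := (hu.res hRN).card_fimg
          rw [← e, ← isConj_card hQ] at h1
          exact absurd h1 (card_lt_of_lt hQR).ne)
        (huQ ▸ fimg_le fun x hx => hu.map_normalizerIn hQN (hRN hx) (hRN hx).2)
        (by
          conv_lhs => rw [← huQ, ← (hu.res hQN).fimg_comp]
          rw [fimg_congr fun x hx => show v (f (u' (u x))) = v (f x) by rw [hu1 x (hQR.le hx)],
            (hf.res hQR.le).fimg_comp, hvQ])
      refine ⟨o, ho, fun x hx => ?_⟩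
      rw [← hoe _ (huQ ▸ apply_mem_fimg u hx), hu1 x (hQR.le hx)]
    have hG : ∀ {P : Subgroup Ω} {f : Ω → Ω}, Gen T p ℋ A P f → ∀ Q ≤ P, E.IsConj P₀ Q →
        G Q f := by
      intro P f h
      induction h with
      | @aut P R a f hR ha hPR hf =>
        intro Q hQP hQ
        rcases (hQP.trans hPR).eq_or_lt with e | hlt'
        · subst e
          intro u v hu huQ hv hvQ
          rw [fimg_congr fun x hx => hf x (hQP hx), fimg_autFun] at hv hvQ
          obtain ⟨o₁, ho₁, h₁⟩ := hGbig Q (normalizerIn T Q) (fun x => x) hQ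
            (lt_normalizerIn hTp (hQlt Q hQ)) le_rfl (isMap_id E inf_le_left) u v hu huQ
            (by rw [fimg_id]; exact hv) (by rw [fimg_id]; exact hvQ)
          have hQN := le_normalizerIn (S := T) (isConj_le_right hQ)
          obtain ⟨e, he, -⟩ := exists_mulEquiv (hu.res hQN) huQ
          have hc := congr_pAuts p e (fun b hb => d.aut_natural hR
            ((hu.res hQN).mono (genSys_le d)) huQ e he hb) ha
          refine ⟨o₁ * MulAut.congr e a, mul_mem ho₁ (Subgroup.mem_sup_left hc), fun x hx => ?_⟩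
          rw [hf x (hQP hx), h₁ _ (autFun_mem a hx), ← he ⟨x, hx⟩, autFun_mul _ _ (e ⟨x, hx⟩).2,
            autFun_coe (MulAut.congr e a), show MulAut.congr e a (e ⟨x, hx⟩) = e (a ⟨x, hx⟩) by
              simp [MulAut.congr], he, ← autFun_coe a ⟨x, hx⟩]
        · obtain ⟨h1, h2, h3⟩ := hstart (Gen.aut (f := autFun a) hR ha le_rfl fun _ _ => rfl) Q
            (hQP.trans hPR) hQ hlt'
          intro u v hu huQ hv hvQ
          rw [fimg_congr fun x hx => hf x (hQP hx)] at hv hvQ
          obtain ⟨o, ho, hoe⟩ := hGbig Q _ (autFun a) hQ h1 h2 h3 u v hu huQ hv hvQ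
          exact ⟨o, ho, fun x hx => by rw [hf x (hQP hx)]; exact hoe x hx⟩
      | @inner P t f hP ht hf =>
        intro Q hQP hQ u v hu huQ hv hvQ
        rw [fimg_congr fun x hx => hf x (hQP hx)] at hv hvQ
        obtain ⟨o, ho, hoe⟩ := hGbig Q _ (fun x => t * x * t⁻¹) hQ
          (lt_normalizerIn hTp (hQlt Q hQ)) le_rfl
          ((isMap_genSys d).2 (Gen.inner inf_le_left ht fun _ _ => rfl)) u v hu huQ hv hvQ
        exact ⟨o, ho, fun x hx => by rw [hf x (hQP hx)]; exact hoe x hx⟩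
      | @comp P R f g k hf hg hm he ih₁ ih₂ =>
        intro Q hQP hQ u v hu huQ hv hvQ
        have hfQ := (((isMap_genSys d).2 hf).res hQP)
        have hle : fimg f Q ≤ R := fimg_le fun x hx => hm x (hQP hx)
        have hQ₁ := isConj_trans hQ hfQ.isConj
        rw [fimg_congr fun x hx => he x (hQP hx), hfQ.fimg_comp g] at hv hvQ
        obtain ⟨w, hw, hwQ⟩ := htr _ hQ₁
        obtain ⟨o₁, ho₁, h₁⟩ := ih₁ Q hQP hQ u w hu huQ hw hwQ
        obtain ⟨o₂, ho₂, h₂⟩ := ih₂ _ hle hQ₁ w v hw hwQ hv hvQ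
        refine ⟨o₂ * o₁, mul_mem ho₂ ho₁, fun x hx => ?_⟩
        rw [he x (hQP hx), h₂ _ (apply_mem_fimg f hx), h₁ x hx,
          autFun_mul _ _ (huQ ▸ apply_mem_fimg u hx : u x ∈ P₀)]
    refine le_antisymm (fun α hα => ?_) hOle
    obtain ⟨o, ho, hoe⟩ := hG ((isMap_genSys d).1 ((mem_autGroup hPT).1 hα)) P₀ le_rfl
      (isConj_refl E hPT) (fun x => x) (fun x => x) (isMap_id E inf_le_left) (fimg_id P₀)
      (isMap_id E inf_le_left) (by rw [fimg_id, fimg_autFun])
    rwa [mulAut_ext hoe]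
  -- the automorphisms extending to the normalizer
  have hPN := le_normalizerIn (S := T) hPT
  haveI : Finite ↥(normalizerIn T P₀) := finite_of_le (S := T) inf_le_left
  let U : Subgroup (MulAut P₀) :=
    { carrier := {o | ∃ g, IsMap E (normalizerIn T P₀) g ∧ ∀ x ∈ P₀, g x = autFun o x}
      one_mem' := ⟨_, isMap_id E inf_le_left, fun x hx => (autFun_one hx).symm⟩
      mul_mem' := by
        rintro o o' ⟨g, hg, hge⟩ ⟨g', hg', hge'⟩
        refine ⟨fun x => g (g' x), hg'.comp hg fun x hx => ?_, fun x hx => ?_⟩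
        · have := hg'.map_normalizerIn hPN hx hx.2
          rwa [show fimg g' P₀ = P₀ from (fimg_congr hge').trans (fimg_autFun _)] at this
        · show g (g' x) = _
          rw [hge' x hx, hge _ (autFun_mem _ hx), autFun_mul _ _ hx]
      inv_mem' := by
        rintro o ⟨g, hg, hge⟩
        obtain ⟨g', hg', hg1, -, -⟩ := hg.exists_inv
        have hP : fimg g P₀ = P₀ := (fimg_congr hge).trans (fimg_autFun _)
        rw [show fimg g (normalizerIn T P₀) = normalizerIn T P₀ from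
          Subgroup.eq_of_le_of_card_ge (fimg_le fun x hx => hP ▸ hg.map_normalizerIn hPN hx hx.2)
            hg.card_fimg.ge] at hg'
        refine ⟨g', hg', fun x hx => ?_⟩
        have h2 := hg1 _ (hPN (autFun_mem o⁻¹ hx))
        rwa [hge _ (autFun_mem o⁻¹ hx), ← autFun_mul _ _ hx, mul_inv_cancel, autFun_one hx] at h2 }
  have hTU : autInducedBy T P₀ ≤ U := fun τ hτ => by
    obtain ⟨t, ht, hte⟩ := mem_autInducedBy.1 hτ
    refine ⟨fun x => t * x * t⁻¹, isMap_conj E inf_le_left ht, fun x hx => ?_⟩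
    rw [show autFun τ x = ((τ ⟨x, hx⟩ : P₀) : Ω) from autFun_coe τ ⟨x, hx⟩, hte]
  obtain ⟨RT, hRT⟩ := autOne_sylow d hP₀ hn
  have hW : autOne p T (A P₀) ⊓
      Subgroup.normalizer (autInducedBy T P₀ : Set (MulAut P₀)) ≤ U := fun o ho => by
    refine induction_parts d (fun o ho hord => ?_) (fun o ho j hj => ?_) ho
    · obtain ⟨γ, hγ, ν, hν, hγe⟩ := d.aut_up hP₀ hn (autOne_le d hP₀ ho.1) fun τ hτ =>
        (Subgroup.mem_normalizer_iff.1 ho.2 τ).1 hτ
      obtain ⟨k, m, hm, hkm, hok⟩ :=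
        InvExt.exists_coprime_power (p := p) γ hord (pow_orderOf_eq_one o)
      have hoF : o ∈ F.autGroup P₀ := d.aut_le hP₀ (autOne_le d hP₀ ho.1)
      have hpow : ∀ r : ℕ, ∃ μ ∈ kerAuts F Z P₀, (ν * o) ^ r = μ * o ^ r := by
        intro r
        induction r with
        | zero => exact ⟨1, one_mem _, by simp⟩
        | succ r ih =>
          obtain ⟨μ, hμ, hμe⟩ := ih
          refine ⟨μ * (o ^ r * ν * (o ^ r)⁻¹),
            mul_mem hμ (ker_normal d (hS_of d hP₀) (pow_mem hoF r) hν), ?_⟩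
          rw [pow_succ, hμe, pow_succ]
          group
      obtain ⟨μ, hμ, hμe⟩ := hpow k
      rw [hok] at hμe
      have hNℋ : ℋ (normalizerIn T P₀) := d.up hP₀ hPN inf_le_left
      have hgen : Gen T p ℋ A (normalizerIn T P₀) (autFun (γ ^ k)) :=
        .aut hNℋ (Subgroup.subset_closure ⟨pow_mem hγ k,
          Nat.Coprime.coprime_dvd_left (orderOf_dvd_of_pow_eq_one hkm) hm⟩) le_rfl fun _ _ => rfl
      have hg := (isMap_genSys d).2 hgen
      have hval : ∀ x ∈ P₀, autFun (γ ^ k) x = autFun (μ * o) x := fun x hx => by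
        rw [← hμe, autFun_pow_eq hPN hγe k x hx]
      have hU' : μ * o ∈ U := ⟨_, hg, hval⟩
      have hμo : μ * o ∈ autOne p T (A P₀) :=
        hAut ▸ (mem_autGroup hPT).2 ((hg.res hPN).congr hval)
      have hμO : μ ∈ autOne p T (A P₀) := by
        have := mul_mem hμo (Subgroup.inv_mem _ ho.1)
        rwa [mul_inv_cancel_right] at this
      have hμT := autOne_inf d hP₀ hn hμO (ker_le_inducedBy d hP₀ hn hμ)
      have := mul_mem (Subgroup.inv_mem _ (hTU hμT)) hU'
      rwa [inv_mul_cancel_left] at this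
    · refine hTU ?_
      have hzp : IsPGroup p (Subgroup.zpowers o) := by
        rintro ⟨z, hz⟩
        obtain ⟨i, rfl⟩ := Subgroup.mem_zpowers_iff.1 hz
        refine ⟨j, Subtype.ext ?_⟩
        rw [SubmonoidClass.coe_pow, OneMemClass.coe_one, ← zpow_natCast, ← zpow_mul, mul_comm,
          zpow_mul, zpow_natCast, hj, one_zpow]
      have hp' : IsPGroup p (Subgroup.zpowers o ⊔ autInducedBy T P₀ : Subgroup (MulAut P₀)) :=
        hzp.to_sup_of_normal_right' (isPGroup_autInducedBy hTp P₀) (Subgroup.zpowers_le.2 ho.2)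
      have h1 := RT.is_maximal' (hp'.comap_subtype (K := autOne p T (A P₀)))
        (by rw [hRT]; exact Subgroup.comap_mono le_sup_right)
      have h2 : (⟨o, ho.1⟩ : autOne p T (A P₀)) ∈
          (Subgroup.zpowers o ⊔ autInducedBy T P₀).comap (autOne p T (A P₀)).subtype :=
        Subgroup.mem_sup_left (Subgroup.mem_zpowers o)
      rw [h1, hRT] at h2
      exact h2
  have hauto : E.IsFullyAutomized p P₀ := by
    refine ⟨hPT, ?_⟩
    rw [hAut]
    exact ⟨RT, hRT⟩
  refine ⟨hAut, hauto, receptive_of hPT fun P f hf hfP N hPN' hN => ?_⟩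
  have hP : E.IsConj P₀ P := isConj_symm (hfP ▸ hf.isConj)
  obtain ⟨w, hw, hwP⟩ := htr P hP
  have hPT' := hf.source_le
  have hPNP := le_normalizerIn (S := T) hPT'
  have hNle : N ≤ normalizerIn T P := fun g hg => ⟨((hN g).1 hg).1, ((hN g).1 hg).2.1⟩
  set M := fimg w N with hM
  have hwN : M ≤ normalizerIn T P₀ := fimg_le fun g hg =>
    hwP ▸ hw.map_normalizerIn hPNP (hNle hg) (hNle hg).2
  have hPM : P₀ ≤ M := hwP ▸ fimg_mono w hPN'
  obtain ⟨w₁, hw₁, hw1, hw2, -⟩ := (hw.res hPNP).exists_inv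
  rw [hwP] at hw₁ hw2
  have hmid : IsMap E P₀ (fun y => f (w₁ y)) := hw₁.comp hf fun y hy => (hw2 y hy).1
  obtain ⟨γ, hγ, hγe⟩ := hmid.exists_aut (Subgroup.eq_of_le_of_card_ge (fimg_le fun y hy =>
    hfP ▸ apply_mem_fimg f (hw2 y hy).1) hmid.card_fimg.ge)
  have hγw : ∀ x ∈ P, autFun γ (w x) = f x := fun x hx => by
    rw [hγe _ (hwP ▸ apply_mem_fimg w hx), hw1 x hx]
  obtain ⟨g₁, hg₁, hg₁e⟩ := receptive_extend (receptive_of_fullyNormalized d.pgroup d.sat hn)
    ((mem_autGroup hn.1).1 (autGroup_mono (genSys_le d) P₀ hγ)) (fimg_autFun _) (N := M)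
    (fun t ht => by
      obtain ⟨g, hg, rfl⟩ := (hw.res hNle).mem_fimg_iff.1 ht
      obtain ⟨-, hgn, k, hk, hke⟩ := (hN g).1 hg
      refine ⟨⟨hT.1 (hwN ht).1, (hwN ht).2⟩, k, hT.1 hk, fun y hy => ?_⟩
      rw [← hwP] at hy
      obtain ⟨x, hx, rfl⟩ := (hw.res hPNP).mem_fimg_iff.1 hy
      rw [← hw.map_conj (hNle hg) (hPNP hx), hγw x hx,
        hγw _ ((Subgroup.mem_normalizer_iff.1 hgn x).1 hx), hke x hx]) hPM
  obtain ⟨α, hα, e, he, hge⟩ := dec_all d (hwN.trans inf_le_left) hg₁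
  have he' : IsMap E M e := (isMap_genSys d).2 he
  set P' := fimg e P₀
  have hP' : E.IsConj P₀ P' := (he'.res hPM).isConj
  have hP'T : P' ≤ T := isConj_le_right hP'
  have hbm : IsMap F T (autFun α) := (mem_autGroup hT.1).1 hα
  have hαP : fimg (autFun α) P' = P₀ := by
    rw [← (he'.res hPM).fimg_comp, fimg_congr fun x hx =>
      show autFun α (e x) = autFun γ x from (hge x (hPM hx)).symm.trans (hg₁e x hx)]
    exact fimg_autFun _
  obtain ⟨w', hw', hw'P⟩ := htr P' hP'
  have hP'N := le_normalizerIn (S := T) hP'T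
  haveI : Finite ↥(normalizerIn T P') := finite_of_le (S := T) inf_le_left
  have hw'N : fimg w' (normalizerIn T P') = normalizerIn T P₀ := by
    refine Subgroup.eq_of_le_of_card_ge
      (fimg_le fun x hx => hw'P ▸ hw'.map_normalizerIn hP'N hx hx.2) ?_
    rw [hw'.card_fimg]
    obtain ⟨b, hb, hb1, -, -⟩ := (hbm.res hP'T).exists_inv
    rw [hαP] at hb
    have hm : IsMap F T (autFun α⁻¹) := (mem_autGroup hT.1).1 (Subgroup.inv_mem _ hα)
    have hNT : normalizerIn T P₀ ≤ T := inf_le_left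
    rw [← (hm.res hNT).card_fimg]
    refine Subgroup.card_le_of_le (fimg_le fun x hx => ⟨autFun_mem _ hx.1, ?_⟩)
    have h1 := (hm.map_normalizerIn hPT hx.1 hx.2).2
    rwa [← hαP, ← (hbm.res hP'T).fimg_comp, fimg_congr fun y hy =>
      show autFun α⁻¹ (autFun α y) = y from autFun_inv_apply α (hP'T hy), fimg_id] at h1
  have hμm : IsMap E P₀ (fun x => w' (e x)) :=
    (he'.res hPM).comp (hw'.res hP'N) fun x hx => apply_mem_fimg e hx
  obtain ⟨μ, hμ, hμe⟩ := hμm.exists_aut (by rw [(he'.res hPM).fimg_comp, hw'P])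
  set δ := γ * μ⁻¹
  have hδO : δ ∈ autOne p T (A P₀) := hAut ▸ mul_mem hγ (Subgroup.inv_mem _ hμ)
  have hδe : ∀ z ∈ P', autFun δ (w' z) = autFun α z := fun z hz => by
    obtain ⟨x, hx, rfl⟩ := (he'.res hPM).mem_fimg_iff.1 hz
    rw [← hμe x hx, autFun_mul _ _ (autFun_mem μ hx), autFun_inv_apply μ hx, ← hge x (hPM hx),
      hg₁e x hx]
  have hδn : δ ∈ Subgroup.normalizer (autInducedBy T P₀ : Set (MulAut P₀)) := by
    have hle : (autInducedBy T P₀).map (MulAut.conj δ).toMonoidHom ≤ autInducedBy T P₀ := by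
      rintro _ ⟨τ, hτ, rfl⟩
      obtain ⟨t, ht, hte⟩ := mem_autInducedBy.1 hτ
      obtain ⟨s, hs, hse⟩ := hw'.mem_fimg_iff.1
        (hw'N.symm ▸ ⟨ht, mem_normalizer_of_conj_aut hte⟩ : t ∈ fimg w' (normalizerIn T P'))
      refine mem_autInducedBy.2 ⟨autFun α s, autFun_mem α hs.1, fun y => ?_⟩
      obtain ⟨y, rfl⟩ := δ.surjective y
      obtain ⟨z, hz, hze⟩ := (hw'.res hP'N).mem_fimg_iff.1 (hw'P.symm ▸ y.2 : (y : Ω) ∈ fimg w' P')
      show (((δ * τ * δ⁻¹ : MulAut P₀) (δ y) : P₀) : Ω) = _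
      rw [MulAut.mul_apply, MulAut.mul_apply, MulAut.inv_apply_self, ← autFun_coe δ (τ y), hte,
        ← autFun_coe δ y, ← hze, ← hse, ← hw'.map_conj hs (hP'N hz),
        hδe _ ((Subgroup.mem_normalizer_iff.1 hs.2 z).1 hz), hδe z hz,
        hbm.map_conj hs.1 (hP'T hz)]
    have heq := Subgroup.eq_of_le_of_card_ge hle (le_of_eq
      (Subgroup.card_map_of_injective (MulAut.conj δ).injective).symm)
    refine mem_normalizer_of_forall (fun τ hτ => hle ⟨τ, hτ, rfl⟩) fun τ hτ => ?_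
    rw [← heq] at hτ
    obtain ⟨σ, hσ, rfl⟩ := hτ
    simpa [mul_assoc] using hσ
  obtain ⟨γ₀, hγ₀, hγ₀e⟩ := hW ⟨hδO, hδn⟩
  refine ⟨fun x => γ₀ (w' (e (w x))), (((hw.res hNle).comp he' fun x hx => apply_mem_fimg w hx).comp
    hw' fun x hx => ?_).comp hγ₀ fun x hx => ?_, fun x hx => ?_⟩
  · exact he'.map_normalizerIn hPM (apply_mem_fimg w hx) (hwN (apply_mem_fimg w hx)).2
  · rw [← hw'N]
    exact apply_mem_fimg w'
      (he'.map_normalizerIn hPM (apply_mem_fimg w hx) (hwN (apply_mem_fimg w hx)).2)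
  · have hwx : w x ∈ P₀ := hwP ▸ apply_mem_fimg w hx
    show γ₀ (w' (e (w x))) = f x
    rw [hγ₀e _ (hw'P ▸ apply_mem_fimg w' (apply_mem_fimg e hwx)), hδe _ (apply_mem_fimg e hwx),
      ← hge _ (hPM hwx), hg₁e _ hwx, hγw x hx]

end Cfsg.Agent.Fus.CentralLift
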