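import Mathlib
import Cfsg.Agent.Lib.Fus.NormalCrit
import Cfsg.Agent.Lib.Fus.GroupSystem

/-!
Constrained group fusion passes to quotients by central subgroups.
-/

set_option autoImplicit false

namespace Cfsg.Agent.Fus

open Cfsg Cfsg.FusionSystem
open scoped commutatorElement

universe u

variable {G G' : Type u} [Group G] [Finite G] [Group G'] [Finite G'] {p : ℕ} [Fact p.Prime]

omit [Finite G] [Finite G'] in
/-- A `p`-element in the product of a Sylow subgroup with a central subgroup lies in the Sylow subgroup. -/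
theorem mem_sylow_of_central (S : Sylow p G) {s n : G} (hs : s ∈ (S : Subgroup G))
    (hn : n ∈ Subgroup.center G) (h : ∃ k, orderOf (s * n) = p ^ k) : s * n ∈ (S : Subgroup G) := by
  obtain ⟨k, hk⟩ := h
  obtain ⟨j, hj⟩ := IsPGroup.iff_orderOf.mp S.isPGroup' ⟨s, hs⟩
  rw [Subgroup.orderOf_mk] at hj
  have hc : Commute s n := Subgroup.mem_center_iff.mp hn s
  have h1 : n ^ p ^ (j + k) = 1 := by
    have h2 : (s * n) ^ p ^ (j + k) = 1 := by
      rw [add_comm, pow_add, pow_mul, ← hk, pow_orderOf_eq_one, one_pow]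
    rw [hc.mul_pow, pow_add, pow_mul, ← hj, pow_orderOf_eq_one, one_pow, one_mul] at h2
    rw [hj] at h2
    rwa [pow_add]
  have hz : IsPGroup p (Subgroup.zpowers n) := by
    obtain ⟨i, -, hi⟩ := (Nat.dvd_prime_pow Fact.out).mp (orderOf_dvd_of_pow_eq_one h1)
    exact IsPGroup.of_card (n := i) (by rw [Nat.card_zpowers, hi])
  haveI : (Subgroup.zpowers n).Normal := ⟨fun z hz g => by
    obtain ⟨m, rfl⟩ := Subgroup.mem_zpowers_iff.mp hz
    rw [← conj_zpow, Subgroup.mem_center_iff.mp hn g, mul_inv_cancel_right]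
    exact Subgroup.zpow_mem _ (Subgroup.mem_zpowers _) m⟩
  have hle : Subgroup.zpowers n ≤ (S : Subgroup G) :=
    (S.is_maximal' (IsPGroup.to_sup_of_normal_right S.isPGroup' hz) le_sup_left) ▸ le_sup_right
  exact mul_mem hs (hle (Subgroup.mem_zpowers n))

/-- A quotient of constrained group fusion by a central subgroup is constrained. -/
theorem constrained_map_of_central (S : Sylow p G) (f : G →* G') (hf : Function.Surjective f)
    (hk : f.ker ≤ Subgroup.center G) (hF : (groupFusionSystem (S : Subgroup G)).IsConstrained p) :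
    (groupFusionSystem ((S : Subgroup G).map f)).IsConstrained p := by
  obtain ⟨hsat, Q, hQn, hQc⟩ := hF
  have hCQ : centralizerIn (S : Subgroup G) Q ≤ Q := hQc.2 Q (isConj_refl _ hQc.1)
  have hkc : ∀ n ∈ f.ker, ∀ g : G, g * n = n * g := fun n hn g => Subgroup.mem_center_iff.mp (hk hn) g
  obtain ⟨Z, hZdef⟩ : ∃ Z : Subgroup G, Z = (S : Subgroup G) ⊓ f.ker := ⟨_, rfl⟩
  obtain ⟨D, hDdef⟩ : ∃ D : Subgroup G,
      D = (S : Subgroup G) ⊓ (Subgroup.centralizer ((Q.map f : Subgroup G') : Set G')).comap f := ⟨_, rfl⟩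
  have hD : ∀ x, x ∈ D ↔ x ∈ (S : Subgroup G) ∧ ∀ q ∈ Q, f q * f x = f x * f q := fun x => by
    rw [hDdef, Subgroup.mem_inf, Subgroup.mem_comap, Subgroup.mem_centralizer_iff]
    exact and_congr_right fun _ => ⟨fun h q hq => h _ ⟨q, hq, rfl⟩, by rintro h _ ⟨q, hq, rfl⟩; exact h q hq⟩
  have hDS : D ≤ (S : Subgroup G) := fun x hx => ((hD x).1 hx).1
  have hZQ : Z ≤ Q := fun x hx => hCQ ⟨(hZdef ▸ hx : x ∈ (S : Subgroup G) ⊓ f.ker).1,
    Subgroup.mem_centralizer_iff.mpr fun q _ => hkc x (hZdef ▸ hx : x ∈ (S : Subgroup G) ⊓ f.ker).2 q⟩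
  have hZD : Z ≤ D := fun x hx => by
    have hx' : x ∈ (S : Subgroup G) ⊓ f.ker := hZdef ▸ hx
    exact (hD x).2 ⟨hx'.1, fun q _ => by rw [MonoidHom.mem_ker.mp hx'.2, mul_one, one_mul]⟩
  have hscD : (groupFusionSystem (S : Subgroup G)).StronglyClosed D := by
    refine stronglyClosed_of_forall hDS fun R hR φ hφ x hx => (hD _).2 ⟨hφ.apply_mem hx, fun q hq => ?_⟩
    obtain ⟨k, hk', hk1, hk2⟩ := (isNormal_iff.1 hQn).2 R φ hφ
    obtain ⟨-, g, hg⟩ := isMap_group.1 hk'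
    obtain ⟨v, hv, rfl⟩ := (hk'.res le_sup_right).mem_fimg_iff.mp (hk2.ge hq)
    rw [← hk1 x hx, (hg x (Subgroup.mem_sup_left hx)).1, (hg v (Subgroup.mem_sup_right hv)).1,
      ← map_mul f, ← map_mul f, show g * v * g⁻¹ * (g * x * g⁻¹) = g * (v * x) * g⁻¹ by group,
      show g * x * g⁻¹ * (g * v * g⁻¹) = g * (x * v) * g⁻¹ by group, map_mul f (g * (v * x)), map_mul f g,
      map_mul f v x, ((hD x).1 (hR hx)).2 v hv, ← map_mul f x v, ← map_mul f g, ← map_mul f (g * (x * v))]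
  have hscZ : (groupFusionSystem (S : Subgroup G)).StronglyClosed Z := by
    refine stronglyClosed_of_forall (hZdef ▸ inf_le_left) fun R hR φ hφ x hx => ?_
    obtain ⟨-, g, hg⟩ := isMap_group.1 hφ
    have hx' : x ∈ (S : Subgroup G) ⊓ f.ker := hZdef ▸ hR hx
    rw [(hg x hx).1, hkc x hx'.2 g, mul_inv_cancel_right]
    exact hR hx
  have hDk : ⁅D, Q⁆ ≤ f.ker := by
    rw [Subgroup.commutator_le]
    intro a ha q hq
    rw [MonoidHom.mem_ker, map_commutatorElement, commutatorElement_eq_one_iff_mul_comm]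
    exact (((hD a).1 ha).2 q hq).symm
  have hkD : ⁅f.ker, D⁆ = ⊥ := Subgroup.commutator_eq_bot_iff_le_centralizer.mpr fun n hn =>
    Subgroup.mem_centralizer_iff.mpr fun d _ => hkc n hn d
  have hDD : ⁅D, D⁆ ≤ D ⊓ Q := by
    have h1 : ⁅⁅D, Q⁆, D⁆ = ⊥ := le_bot_iff.mp ((Subgroup.commutator_mono hDk le_rfl).trans hkD.le)
    have h2 : ⁅⁅Q, D⁆, D⁆ = ⊥ := by rwa [Subgroup.commutator_comm Q D]
    have h3 := Subgroup.commutator_eq_bot_iff_le_centralizer.mp
      (Subgroup.commutator_commutator_eq_bot_of_rotate h1 h2 : ⁅⁅D, D⁆, Q⁆ = ⊥)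
    intro x hx
    have hxD : x ∈ D := Subgroup.commutator_le.mpr
      (fun a ha b hb => D.mul_mem (D.mul_mem (D.mul_mem ha hb) (D.inv_mem ha)) (D.inv_mem hb)) hx
    exact ⟨hxD, hCQ ⟨hDS hxD, h3 hx⟩⟩
  have hDn : (groupFusionSystem (S : Subgroup G)).IsNormal D := by
    have h := isNormal_of_chain S.isPGroup' hsat ![⊥, Z, D ⊓ Q, D] rfl ?_ fun i => ?_
    · exact h
    · refine Fin.monotone_iff_le_succ.2 fun i => ?_
      fin_cases i
      · exact bot_le
      · exact le_inf hZD hZQ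
      · exact inf_le_left
    · fin_cases i
      · refine ⟨hscZ, ?_⟩
        show ⁅D, Z⁆ ≤ ⊥
        rw [Subgroup.commutator_comm]
        exact (Subgroup.commutator_mono (hZdef ▸ inf_le_right : Z ≤ f.ker) le_rfl).trans hkD.le
      · refine ⟨stronglyClosed_of_forall (inf_le_left.trans hDS) fun R hR φ hφ x hx =>
          ⟨StronglyClosed.apply_mem hscD hφ (hR.trans inf_le_left) hx,
            StronglyClosed.apply_mem (stronglyClosed_of_isNormal hQn) hφ (hR.trans inf_le_right) hx⟩, ?_⟩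
        show ⁅D, D ⊓ Q⁆ ≤ Z
        rw [hZdef]
        refine le_inf ?_ ((Subgroup.commutator_mono le_rfl inf_le_right).trans hDk)
        exact (Subgroup.commutator_mono le_rfl inf_le_left).trans (hDD.trans (inf_le_left.trans hDS))
      · exact ⟨hscD, hDD⟩
  obtain ⟨R, hRdef⟩ : ∃ R : Subgroup G, R = Q ⊔ D := ⟨_, rfl⟩
  have hRn : (groupFusionSystem (S : Subgroup G)).IsNormal R := hRdef ▸ isNormal_sup hQn hDn
  set S' := S.mapSurjective hf with hS'
  have hS'c : (S' : Subgroup G') = (S : Subgroup G).map f := Sylow.coe_mapSurjective hf S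
  have hsat' : (groupFusionSystem ((S : Subgroup G).map f)).IsSaturated p := hS'c ▸ isSaturated_group S'
  have hn' : (groupFusionSystem ((S : Subgroup G).map f)).IsNormal (R.map f) := by
    refine isNormal_iff.2 ⟨Subgroup.map_mono hRn.1, fun P φ hφ => ?_⟩
    obtain ⟨hP, g', hg'⟩ := isMap_group.1 hφ
    obtain ⟨g, rfl⟩ := hf g'
    obtain ⟨P₀, hP₀⟩ : ∃ P₀ : Subgroup G, P₀ = (S : Subgroup G) ⊓ P.comap f := ⟨_, rfl⟩
    have hmap : IsMap (groupFusionSystem (S : Subgroup G)) P₀ (fun x => g * x * g⁻¹) := by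
      refine isMap_group.2 ⟨hP₀ ▸ inf_le_left, g, fun x hx => ⟨rfl, ?_⟩⟩
      obtain ⟨hxS, hxP⟩ := (hP₀ ▸ hx : x ∈ (S : Subgroup G) ⊓ P.comap f)
      obtain ⟨s, hs, hse⟩ := (hg' (f x) hxP).2
      have hn : s⁻¹ * (g * x * g⁻¹) ∈ f.ker := by
        rw [MonoidHom.mem_ker, map_mul, map_inv, hse, map_mul, map_mul, map_inv, inv_mul_cancel]
      have he : g * x * g⁻¹ = s * (s⁻¹ * (g * x * g⁻¹)) := by group
      rw [he]
      refine mem_sylow_of_central S hs (hk hn) ?_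
      obtain ⟨j, hj⟩ := IsPGroup.iff_orderOf.mp S.isPGroup' ⟨x, hxS⟩
      rw [Subgroup.orderOf_mk] at hj
      refine ⟨j, ?_⟩
      rw [← he, ← hj]
      exact (MulEquiv.orderOf_eq (MulAut.conj g) x)
    obtain ⟨k, hk', hk1, hk2⟩ := (isNormal_iff.1 hRn).2 _ _ hmap
    obtain ⟨hle, a, ha⟩ := isMap_group.1 hk'
    have hPmap : P ⊔ R.map f ≤ (P₀ ⊔ R).map f := by
      rw [Subgroup.map_sup]
      refine sup_le_sup_right (fun y hy => ?_) _
      obtain ⟨s, hs, rfl⟩ := hP hy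
      exact ⟨s, hP₀ ▸ ⟨hs, hy⟩, rfl⟩
    refine ⟨fun y => f a * y * (f a)⁻¹, isMap_group.2 ⟨sup_le hP (Subgroup.map_mono hRn.1), f a, fun y hy => ?_⟩,
      fun y hy => ?_, ?_⟩
    · obtain ⟨x, hx, rfl⟩ := hPmap hy
      exact ⟨rfl, a * x * a⁻¹, (ha x hx).2, by rw [map_mul, map_mul, map_inv]⟩
    · obtain ⟨s, hs, rfl⟩ := hP hy
      have hs0 : s ∈ P₀ := hP₀ ▸ ⟨hs, hy⟩
      show f a * f s * (f a)⁻¹ = _
      rw [(hg' _ hy).1, ← map_inv, ← map_inv, ← map_mul, ← map_mul, ← map_mul, ← map_mul,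
        ← (ha s (Subgroup.mem_sup_left hs0)).1, hk1 s hs0]
    · refine Subgroup.eq_of_le_of_card_ge (fimg_le fun y hy => ?_) ?_
      · obtain ⟨x, hx, rfl⟩ := hy
        refine ⟨k x, hk2.le (apply_mem_fimg k hx), ?_⟩
        rw [(ha x (Subgroup.mem_sup_right hx)).1, map_mul, map_mul, map_inv]
      · rw [fimg_conj_eq_map, Subgroup.card_map_of_injective (K := R.map f) (f := (MulAut.conj (f a)).toMonoidHom) (MulAut.conj (f a)).injective]
  refine ⟨hsat', R.map f, hn', hn'.1, fun P hP y hy => ?_⟩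
  have hPe : P = R.map f := by
    obtain ⟨φ, hφ, rfl⟩ := isConj_iff.1 hP
    refine Subgroup.eq_of_le_of_card_ge ?_ hφ.card_fimg.ge
    exact fimg_le fun z hz => StronglyClosed.apply_mem (stronglyClosed_of_isNormal hn') hφ le_rfl hz
  rw [hPe] at hy ⊢
  obtain ⟨s, hs, rfl⟩ := hy.1
  refine ⟨s, hRdef ▸ Subgroup.mem_sup_right ((hD s).2 ⟨hs, fun q hq => ?_⟩), rfl⟩
  exact Subgroup.mem_centralizer_iff.mp hy.2 (f q) ⟨q, hRdef ▸ Subgroup.mem_sup_left hq, rfl⟩

end Cfsg.Agent.Fus
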