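import Mathlib
import Cfsg.Agent.Lib.Fus.CentralizerNormal

/-!
The subgroups of `C_S(T)` centralized by a normal subsystem over `T` have a largest member.
-/

set_option autoImplicit false
set_option linter.style.haveILetI false
set_option linter.unusedSectionVars false
set_option linter.unusedVariables false

open scoped Classical Pointwise

universe u

namespace Cfsg.Agent.Fus.CentNormal

open Subgroup FusionSystem FocalCent

variable {Ω : Type u} [Group Ω] {S T : Subgroup Ω} {F : FusionSystem S} {E : FusionSystem T}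
  {p : ℕ}

/-- The subgroup generated by the subgroups of `C_S(T)` centralized by `E`. -/
def centSub (F : FusionSystem S) (E : FusionSystem T) : Subgroup Ω :=
  Subgroup.closure {y | ∃ Y : Subgroup Ω, Y ≤ centralizerIn S T ∧
    (∀ P : Subgroup Ω, E.Hom P ⊆ F.centralizerHom Y P) ∧ y ∈ Y}

theorem centSub_le (F : FusionSystem S) (E : FusionSystem T) : centSub F E ≤ centralizerIn S T :=
  (Subgroup.closure_le _).2 fun _ ⟨_, hY, _, hy⟩ => hY hy

theorem fixes_of_cent {Y : Subgroup Ω} (hcent : ∀ P : Subgroup Ω, E.Hom P ⊆ F.centralizerHom Y P)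
    {P : Subgroup Ω} {f : Ω → Ω} (hf : IsMap E P f) : Fixes F Y P f := by
  obtain ⟨φ, hφ, hφe⟩ := hf.exists_hom
  obtain ⟨-, -, g, hg, hg1, hg2⟩ := mem_centralizerHom.1 (hcent P hφ)
  exact ⟨g, hg, fun x hx => (hg1 ⟨x, hx⟩).trans (hφe ⟨x, hx⟩), hg2⟩

/-- A map of `F` agreeing on `P` with a map fixing `Y` differs from the identity on `Y` by a map
centralizing the image of `P`. -/
theorem shift_map {Y P Q : Subgroup Ω} {g h : Ω → Ω} (hQS : Q ≤ S)
    (hg : IsMap F (P ⊔ Y) g) (hgP : fimg g P = Q) (hgY : ∀ y ∈ Y, g y = y)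
    (hh : IsMap F (P ⊔ Y) h) (hhg : ∀ x ∈ P, h x = g x) (hYQ : Y ≤ centralizerIn S Q)
    (hm : ∀ y ∈ Y, h y ∈ centralizerIn S Q) :
    IsMap (centralizerSystem F Q hQS) Y h := by
  obtain ⟨g', hg', hg1, hg2, -⟩ := hg.exists_inv
  rw [hg.fimg_sup, hgP, fimg_eq_self_of_forall hgY, sup_comm] at hg' hg2
  refine (isMap_centralizerSystem hQS (isCentralizerSystem_centralizerSystem F hQS)).2
    ⟨hYQ, hm, _, hg'.comp hh fun z hz => (hg2 z hz).1, fun y hy => ?_, fun q hq => ?_⟩
  · show h (g' y) = h y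
    have h1 := hg1 y (Subgroup.mem_sup_right hy)
    rw [hgY y hy] at h1
    rw [h1]
  · show h (g' q) = q
    rw [← hgP] at hq
    obtain ⟨x, hx, rfl⟩ := (hg.res le_sup_left).mem_fimg_iff.1 hq
    rw [hg1 x (Subgroup.mem_sup_left hx), hhg x hx]

variable [Finite S] [Fact p.Prime]

/-- The join of the subgroups centralized by a normal subsystem is centralized by it. -/
theorem centSub_cent (hS : IsPGroup p S) (hF : F.IsSaturated p) (hE : E.IsNormalIn F p)
    (P : Subgroup Ω) : E.Hom P ⊆ F.centralizerHom (centSub F E) P := by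
  have hinv := hE.1.2.2
  have hTsc := hinv.2.1
  have hTS := hTsc.1
  have hU := centSub_le F E
  have hTn : F.IsFullyNormalized T := by
    refine ⟨hTS, fun Q hQ => ?_⟩
    obtain ⟨g, hg, rfl⟩ := isConj_iff.1 hQ
    rw [fimg_stronglyClosed hTsc hg le_rfl]
  have hfix : ∀ {P : Subgroup Ω} {f : Ω → Ω}, IsMap E P f → Fixes F (centSub F E) P f := by
    intro P f hf
    refine fixes_of_stable hS hF hE hU (fun γ hγ hγT hγC y hy => ?_) ?_ ?_ hf
    · refine Subgroup.closure_induction (p := fun y _ => γ y ∈ centSub F E) ?_ ?_ ?_ ?_ hy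
      · rintro y ⟨Y, hY, hcent, hy⟩
        obtain ⟨h1, h2⟩ := cent_image hinv hY (fun hf => fixes_of_cent hcent hf) hγ hγT hγC
        exact subset_closure ⟨_, h1, h2, apply_mem_fimg γ hy⟩
      · rw [hγ.map_one]; exact one_mem _
      · intro a b ha hb ha' hb'
        rw [hγ.map_mul (Subgroup.mem_sup_right (hU ha)) (Subgroup.mem_sup_right (hU hb))]
        exact mul_mem ha' hb'
      · intro a ha ha'
        rw [hγ.map_inv (Subgroup.mem_sup_right (hU ha))]
        exact inv_mem ha'
    · intro α hα β hβ hβe hshift m hm hβm y hy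
      have hBS : T ⊔ centralizerIn S T ≤ S := sup_le hTS inf_le_left
      have hβmap : IsMap F (T ⊔ centralizerIn S T) (autFun β) := (mem_autGroup hBS).1 hβ
      have hXfix := aut_fix_focal hS hF hTsc hTn hβ (by rw [fimg_congr hβe, fimg_autFun]) hshift hm
        hβm
      refine Subgroup.closure_induction (p := fun y _ => autFun β y = y) ?_ hβmap.map_one ?_ ?_ hy
      · rintro y ⟨Y, hY, hcent, hy⟩
        obtain ⟨g, hg, hg1, hg2⟩ := fixes_of_cent hcent ((mem_autGroup le_rfl).1 hα)
        have hdom : T ⊔ Y ≤ T ⊔ centralizerIn S T := sup_le_sup_left hY T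
        have hm' : ∀ c ∈ centralizerIn S T, autFun β c ∈ centralizerIn S T := fun c hc => by
          have h1 := hβmap.map_centralizerIn (P := T) le_sup_left (Subgroup.mem_sup_right hc)
            (mem_centralizerIn.1 hc).2
          rwa [fimg_stronglyClosed hTsc hβmap le_sup_left] at h1
        have hmap : IsMap (centralizerSystem F T hTS) Y (autFun β) :=
          shift_map hTS hg (fimg_stronglyClosed hTsc hg le_sup_left) hg2 (hβmap.res hdom)
            (fun x hx => (hβe x hx).trans (hg1 x hx).symm) hY fun z hz => hm' z (hY hz)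
        obtain ⟨x, hx, hxe⟩ : ∃ x ∈ (centralizerSystem F T hTS).focalSubgroup,
            autFun β y = y * x := ⟨_, hmap.focal_mem hy, by group⟩
        have hyB : y ∈ T ⊔ centralizerIn S T := Subgroup.mem_sup_right (hY hy)
        have hxB : x ∈ T ⊔ centralizerIn S T := Subgroup.mem_sup_right (focal_le _ hx)
        have hstep : ∀ i : ℕ, autFun (β ^ i) y = y * x ^ i := by
          intro i
          induction i with
          | zero => rw [pow_zero, autFun_one hyB, pow_zero, mul_one]
          | succ i ih =>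
            rw [pow_succ', autFun_mul _ _ hyB, ih, hβmap.map_mul hyB (pow_mem hxB i), hxe,
              hXfix _ (pow_mem hx i), pow_succ', mul_assoc]
        have h1 := hstep m
        rw [hβm, autFun_one hyB] at h1
        have h2 : x ^ m = 1 := mul_left_cancel (h1.symm.trans (mul_one y).symm)
        obtain ⟨k, hk⟩ := hS ⟨x, (focal_le _ hx).1⟩
        have h3 := Nat.eq_one_of_dvd_coprimes (hm.pow_right k) (orderOf_dvd_of_pow_eq_one h2)
          (orderOf_dvd_of_pow_eq_one (show x ^ p ^ k = 1 from congrArg Subtype.val hk))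
        rw [hxe, orderOf_eq_one_iff.1 h3, mul_one]
      · intro a b ha hb ha' hb'
        rw [hβmap.map_mul (Subgroup.mem_sup_right (hU ha)) (Subgroup.mem_sup_right (hU hb)), ha', hb']
      · intro a ha ha'
        rw [hβmap.map_inv (Subgroup.mem_sup_right (hU ha)), ha']
    · intro Q₀ hQ₀T hQ₀c hQ₀n b hb b' hb' hb'e t ht y hy
      have hQ₀S := hQ₀n.1
      have hle : centralizerIn S T ≤ centralizerIn S Q₀ :=
        inf_le_inf_left S (Subgroup.centralizer_le hQ₀T)
      have hdomU : centSub F E ≤ Q₀ ⊔ centralizerIn S Q₀ := (hU.trans hle).trans le_sup_right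
      refine Subgroup.closure_induction (p := fun y _ => t * b' y * t⁻¹ = b' y) ?_
        (by rw [hb'.map_one]; group) ?_ ?_ hy
      · rintro y ⟨Y, hY, hcent, hy⟩
        obtain ⟨g, hg, hg1, hg2⟩ := fixes_of_cent hcent ((mem_autGroup hQ₀T).1 hb)
        have hmap : IsMap (centralizerSystem F Q₀ hQ₀S) Y b' := by
          refine shift_map hQ₀S hg (by rw [fimg_congr hg1, fimg_autFun]) hg2
            (hb'.res (sup_le_sup_left (hY.trans hle) Q₀))
            (fun x hx => (hb'e x hx).trans (hg1 x hx).symm) (hY.trans hle) fun z hz => ?_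
          have h1 := hb'.map_centralizerIn (P := Q₀) le_sup_left
            (Subgroup.mem_sup_right (hle (hY hz))) (mem_centralizerIn.1 (hle (hY hz))).2
          rwa [fimg_congr hb'e, fimg_autFun] at h1
        have h1 := conj_fix_focal hS hF hTsc (centralizerIn_le_of_centric hQ₀c) hQ₀n ht.1 ht.2 _
          (hmap.focal_mem hy)
        have h2 : t * y = y * t := (mem_centralizerIn.1 (hY hy)).2 t ht.1
        calc t * b' y * t⁻¹ = t * y * (y⁻¹ * b' y) * t⁻¹ := by group
          _ = y * (t * (y⁻¹ * b' y) * t⁻¹) := by rw [h2]; group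
          _ = b' y := by rw [h1]; group
      · intro a c ha hc ha' hc'
        rw [hb'.map_mul (hdomU ha) (hdomU hc),
          show t * (b' a * b' c) * t⁻¹ = t * b' a * t⁻¹ * (t * b' c * t⁻¹) by group, ha', hc']
      · intro a ha ha'
        rw [hb'.map_inv (hdomU ha), show t * (b' a)⁻¹ * t⁻¹ = (t * b' a * t⁻¹)⁻¹ by group, ha']
  intro φ hφ
  obtain ⟨g, hg, hg1, hg2⟩ := hfix (isMap_toFun hφ)
  have hTC : ∀ y ∈ T, y ∈ centralizerIn S (centSub F E) := fun y hy =>
    mem_centralizerIn.2 ⟨hTS hy, fun x hx => ((mem_centralizerIn.1 (hU hx)).2 y hy).symm⟩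
  exact mem_centralizerHom.2 ⟨fun y hy => hTC y ((E.le_of_mem hφ).1 hy),
    fun x => hTC _ ((E.le_of_mem hφ).2 x), g, hg, fun x => (hg1 x x.2).trans (toFun_coe φ x), hg2⟩

theorem le_centSub {Y : Subgroup Ω} (hY : Y ≤ centralizerIn S T)
    (hcent : ∀ P : Subgroup Ω, E.Hom P ⊆ F.centralizerHom Y P) : Y ≤ centSub F E :=
  fun y hy => subset_closure ⟨Y, hY, hcent, hy⟩

theorem setup_centSub (hS : IsPGroup p S) (hF : F.IsSaturated p) (hE : E.IsNormalIn F p) :
    Setup F E p (centSub F E) :=
  ⟨hS, hF, hE, centSub_le F E, centSub_cent hS hF hE, fun _ h h' => le_centSub h h'⟩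

/-- `C_S(E)` exists and is strongly closed. -/
theorem exists_centSub (hS : IsPGroup p S) (hF : F.IsSaturated p) (hE : E.IsNormalIn F p) :
    ∃ C : Subgroup Ω, C ≤ centralizerIn S T ∧ (∀ P : Subgroup Ω, E.Hom P ⊆ F.centralizerHom C P) ∧
      (∀ Y : Subgroup Ω, Y ≤ centralizerIn S T →
        (∀ P : Subgroup Ω, E.Hom P ⊆ F.centralizerHom Y P) → Y ≤ C) ∧ F.StronglyClosed C :=
  ⟨_, centSub_le F E, centSub_cent hS hF hE, fun _ => le_centSub,
    (setup_centSub hS hF hE).sclosed⟩

end Cfsg.Agent.Fus.CentNormal
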