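import Cfsg.Agent.Lib.Invol.TransferTheorems
import Cfsg.Agent.Lib.Invol.RealFreeBasic

/-!
# The characteristic subgroups of a `p`-group as functors
-/

set_option autoImplicit false
set_option linter.unusedSectionVars false
set_option linter.style.haveILetI false

open scoped Classical commutatorElement

namespace Cfsg.Agent.Fus.CharTransfer

open Subgroup Cfsg.Agent.Invol

universe u

/-- All isomorphism-invariant functors on `p`-groups. -/
def allFun (p : ℕ) : Set (∀ (Q : Type u) [Group Q], Subgroup Q) := {W | Cfsg.IsCharPFunctor.{u} p W}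

theorem mem_allFun {p : ℕ} {W : ∀ (Q : Type u) [Group Q], Subgroup Q} (h : W ∈ allFun.{u} p) :
    Cfsg.IsCharPFunctor.{u} p W := h

/-- The functor taking the value `K` on `P` and the centre elsewhere. -/
noncomputable def charW {P : Type u} [Group P] (K : Subgroup P) (Q : Type u) [Group Q] : Subgroup Q :=
  if h : Nonempty (P ≃* Q) then K.map (Classical.choice h).toMonoidHom else Subgroup.center Q

variable {p : ℕ} [Fact p.Prime]

theorem center_ne_bot {Q : Type u} [Group Q] [Finite Q] (hQ : IsPGroup p Q) (hn : Nontrivial Q) :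
    Subgroup.center Q ≠ ⊥ := by
  haveI := hn
  exact (nontrivial_iff_ne_bot _).mp hQ.center_nontrivial

theorem map_center {Q R : Type u} [Group Q] [Group R] (e : Q ≃* R) :
    (Subgroup.center Q).map e.toMonoidHom = Subgroup.center R := by
  ext y
  constructor
  · rintro ⟨x, hx, rfl⟩
    refine Subgroup.mem_center_iff.mpr fun r => ?_
    obtain ⟨s, rfl⟩ := e.surjective r
    show e s * e x = e x * e s
    rw [← map_mul, ← map_mul, Subgroup.mem_center_iff.mp hx s]
  · intro hy
    refine ⟨e.symm y, Subgroup.mem_center_iff.mpr fun s => e.injective ?_, by simp⟩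
    rw [map_mul, map_mul, e.apply_symm_apply, Subgroup.mem_center_iff.mp hy]

theorem center_mem_allFun : (fun (Q : Type u) [Group Q] => Subgroup.center Q) ∈ allFun.{u} p :=
  ⟨fun _ _ _ hQ hn => center_ne_bot hQ hn, fun _ _ _ _ _ _ e => map_center e⟩

theorem allFun_nonempty : (allFun.{u} p).Nonempty := ⟨_, center_mem_allFun⟩

theorem charW_of {P : Type u} [Group P] {K : Subgroup P} (hK : K.Characteristic) {Q : Type u} [Group Q]
    (e : P ≃* Q) : charW K Q = K.map e.toMonoidHom := by
  have h : Nonempty (P ≃* Q) := ⟨e⟩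
  rw [charW, dif_pos h]
  obtain ⟨f, hf⟩ : ∃ f, f = Classical.choice h := ⟨_, rfl⟩
  rw [← hf]
  have h1 := Subgroup.characteristic_iff_map_eq.mp hK (f.trans e.symm)
  calc K.map f.toMonoidHom = ((K.map (f.trans e.symm).toMonoidHom).map e.toMonoidHom) := by
        rw [Subgroup.map_map]
        congr 1
        ext x
        simp
    _ = K.map e.toMonoidHom := by rw [h1]

theorem charW_mem {P : Type u} [Group P] {K : Subgroup P} (hK : K.Characteristic) (hne : K ≠ ⊥) :
    charW K ∈ allFun.{u} p := by
  refine ⟨fun Q _ _ hQ hn => ?_, fun Q R _ _ _ _ φ => ?_⟩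
  · by_cases h : Nonempty (P ≃* Q)
    · obtain ⟨e⟩ := h
      rw [charW_of hK e, Ne, Subgroup.map_eq_bot_iff_of_injective K (f := e.toMonoidHom) e.injective]
      exact hne
    · rw [charW, dif_neg h]
      exact center_ne_bot hQ hn
  · by_cases h : Nonempty (P ≃* Q)
    · obtain ⟨e⟩ := h
      rw [charW_of hK e, charW_of hK (e.trans φ), Subgroup.map_map]
      rfl
    · have h' : ¬ Nonempty (P ≃* R) := fun ⟨e⟩ => h ⟨e.trans φ.symm⟩
      rw [charW, charW, dif_neg h, dif_neg h']
      exact map_center φ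

variable {X : Type u} [Group X] [Finite X]

theorem induced_charW {S : Subgroup X} {K : Subgroup ↥S} (hK : K.Characteristic) :
    Cfsg.inducedFunctor (charW K) S = K.map S.subtype := by
  show (charW K ↥S).map S.subtype = _
  rw [charW_of hK (MulEquiv.refl _)]
  congr 1
  ext x
  simp

/-- The value of a functor on a Sylow subgroup comes from a nontrivial characteristic subgroup. -/
theorem exists_char {W : ∀ (Q : Type u) [Group Q], Subgroup Q} (hW : Cfsg.IsCharPFunctor.{u} p W)
    {S : Subgroup X} (hS : IsPGroup p S) (hne : S ≠ ⊥) :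
    (W ↥S) ≠ ⊥ ∧ (W ↥S).Characteristic :=
  ⟨hW.1 _ hS ((nontrivial_iff_ne_bot _).mpr hne),
    Subgroup.characteristic_iff_map_eq.mpr fun φ => hW.2 _ _ hS φ⟩

theorem transferCtrl_mono {W : ∀ (Q : Type u) [Group Q], Subgroup Q} (hW : W ∈ allFun.{u} p)
    (h : TransferCtrl p {W} X) : TransferCtrl p (allFun.{u} p) X := fun S =>
  (h S).trans (iSup₂_le fun _ hV => by
    obtain ⟨W', rfl, rfl⟩ := hV
    exact le_foc ⟨_, hW, rfl⟩)

/-- `Z(J(⊤))` and `C(Z(J(⊤)))` are characteristic. -/
theorem map_centerThompson_top {P : Type u} [Group P] (φ : P ≃* P) :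
    (Cfsg.centerThompsonAOf (⊤ : Subgroup P)).map φ.toMonoidHom = Cfsg.centerThompsonAOf (⊤ : Subgroup P) := by
  have h := RealFree.centerThompsonA_map (R := (⊤ : Subgroup P)) φ.toMonoidHom φ.injective.injOn
  rw [Subgroup.map_top_of_surjective φ.toMonoidHom φ.surjective] at h
  exact h.symm

theorem thompson_top_char {P : Type u} [Group P] :
    (Cfsg.thompsonSubgroupAOf (⊤ : Subgroup P)).Characteristic := by
  refine Subgroup.characteristic_iff_map_eq.mpr fun φ => ?_
  have h := RealFree.thompsonA_map (R := (⊤ : Subgroup P)) φ.toMonoidHom φ.injective.injOn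
  rw [Subgroup.map_top_of_surjective φ.toMonoidHom φ.surjective] at h
  exact h.symm

theorem thompson_sub (S : Subgroup X) :
    (Cfsg.thompsonSubgroupAOf (⊤ : Subgroup ↥S)).map S.subtype = Cfsg.thompsonSubgroupAOf S := by
  have h := RealFree.thompsonA_map (R := (⊤ : Subgroup ↥S)) S.subtype S.subtype_injective.injOn
  rw [← MonoidHom.range_eq_map, Subgroup.range_subtype] at h
  exact h.symm

theorem centerThompson_sub (S : Subgroup X) :
    (Cfsg.centerThompsonAOf (⊤ : Subgroup ↥S)).map S.subtype = Cfsg.centerThompsonAOf S := by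
  have h := RealFree.centerThompsonA_map (R := (⊤ : Subgroup ↥S)) S.subtype S.subtype_injective.injOn
  rw [← MonoidHom.range_eq_map, Subgroup.range_subtype] at h
  exact h.symm

/-- `C_S(Z(J(S)))` comes from a characteristic subgroup. -/
theorem tilde_char (S : Subgroup X) : ∃ B : Subgroup ↥S, B.Characteristic ∧
    B.map S.subtype = S ⊓ centralizer (Cfsg.centerThompsonAOf S : Set X) := by
  refine ⟨centralizer ((Cfsg.centerThompsonAOf (⊤ : Subgroup ↥S) : Subgroup ↥S) : Set ↥S),
    Subgroup.characteristic_iff_map_le.mpr fun φ => ?_, ?_⟩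
  · rintro _ ⟨b, hb, rfl⟩
    refine mem_centralizer_iff.mpr fun z hz => ?_
    rw [SetLike.mem_coe, ← map_centerThompson_top φ] at hz
    obtain ⟨z', hz', rfl⟩ := hz
    show φ z' * φ b = φ b * φ z'
    rw [← map_mul, ← map_mul, mem_centralizer_iff.mp hb z' hz']
  · ext x
    constructor
    · rintro ⟨b, hb, rfl⟩
      refine ⟨b.2, mem_centralizer_iff.mpr fun z hz => ?_⟩
      rw [SetLike.mem_coe, ← centerThompson_sub S] at hz
      obtain ⟨z', hz', rfl⟩ := hz
      exact congrArg Subtype.val (mem_centralizer_iff.mp hb z' hz')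
    · rintro ⟨hxS, hx⟩
      exact ⟨⟨x, hxS⟩, mem_centralizer_iff.mpr fun z hz =>
        Subtype.ext (mem_centralizer_iff.mp hx _ (centerThompson_sub S ▸ mem_map_of_mem S.subtype hz)), rfl⟩

/-- If the family controls transfer, the characteristic subgroups control transfer. -/
theorem foc_le_iSup {S : Subgroup X} (hS : IsPGroup p S) (hne : S ≠ ⊥) :
    Foc (ind (allFun.{u} p) X) S ≤ ⨆ K : {K : Subgroup ↥S // K ≠ ⊥ ∧ K.Characteristic},
      S ⊓ ⁅normalizer ((((K : Subgroup ↥S)).map S.subtype : Subgroup X) : Set X),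
        normalizer ((((K : Subgroup ↥S)).map S.subtype : Subgroup X) : Set X)⁆ := by
  refine iSup₂_le ?_
  rintro _ ⟨W, hW, rfl⟩
  exact le_iSup_of_le (⟨W ↥S, exists_char hW hS hne⟩ :
    {K : Subgroup ↥S // K ≠ ⊥ ∧ K.Characteristic}) le_rfl

end Cfsg.Agent.Fus.CharTransfer
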