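import Cfsg.Agent.Lib.Fus.RootPairField
import Cfsg.Agent.Lib.Fus.CharTransfer
import Cfsg.Agent.Lib.Invol.PushUp.Main
import Cfsg.Agent.Lib.Invol.PushTilde

/-!
# The module generated by the central elements of a Sylow subgroup in a minimal counterexample
-/

set_option autoImplicit false
set_option linter.unusedSectionVars false
set_option linter.style.haveILetI false

open scoped Classical commutatorElement

namespace Cfsg.Agent.Fus.CharTransfer

open Subgroup Cfsg.Agent.Invol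

universe u

variable {X : Type u} [Group X] [Finite X] {p : ℕ} [hp : Fact p.Prime]

/-- What is used of a minimal counterexample. -/
structure Local (S : Sylow p X) (M : Subgroup X) : Prop where
  core : centralizer (Cfsg.pCore p X : Set X) ≤ Cfsg.pCore p X
  SM : (S : Subgroup X) ≤ M
  Mne : M ≠ ⊤
  ovg : ∀ H : Subgroup X, (S : Subgroup X) ≤ H → H ≠ ⊤ → H ≤ M
  zs : ¬ (PushUp.Zs S).Normal
  jn : ¬ (Cfsg.thompsonSubgroupAOf (S : Subgroup X)).Normal
  sne : (S : Subgroup X) ≠ ⊥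

/-- Without normal characteristic subgroups the fixed line is not normal. -/
theorem Zs_not_normal_of_noChar {S : Sylow p X} (hd : PushUp.NoChar S) (hne : (S : Subgroup X) ≠ ⊥) :
    ¬ (PushUp.Zs S).Normal := by
  obtain ⟨K, hK⟩ : ∃ K : Subgroup ↥(S : Subgroup X), ∀ x, x ∈ K ↔ x ∈ center ↥(S : Subgroup X) ∧ x ^ p = 1 :=
    ⟨(PushUp.Zs S).subgroupOf (S : Subgroup X), fun x => by
      rw [mem_subgroupOf, PushUp.mem_Zs, Subgroup.mem_center_iff, mem_centralizer_iff]
      exact ⟨fun h => ⟨fun g => Subtype.ext (h.2.1 g g.2), Subtype.ext (by rw [coe_pow, coe_one]; exact h.2.2)⟩,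
        fun h => ⟨x.2, fun g hg => congrArg Subtype.val (h.1 ⟨g, hg⟩),
          by rw [← coe_pow, h.2, coe_one]⟩⟩⟩
  have hKc : K.Characteristic := Subgroup.characteristic_iff_map_le.mpr fun φ => by
    rintro _ ⟨x, hx, rfl⟩
    obtain ⟨hc, hxp⟩ := (hK x).mp hx
    refine (hK _).mpr ⟨map_center φ ▸ mem_map_of_mem _ hc, ?_⟩
    show φ x ^ p = 1
    rw [← map_pow, hxp, map_one]
  have hKne : K ≠ ⊥ := by
    haveI : Nontrivial ↥(S : Subgroup X) := (nontrivial_iff_ne_bot _).mpr hne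
    haveI := S.isPGroup'.center_nontrivial
    obtain ⟨k, hk⟩ := (S.isPGroup'.to_subgroup (center ↥(S : Subgroup X))).exists_card_eq
    have hk0 : k ≠ 0 := by
      rintro rfl
      rw [pow_zero, Nat.card_eq_one_iff_unique] at hk
      exact absurd hk.1 (not_subsingleton _)
    obtain ⟨z, hz⟩ := exists_prime_orderOf_dvd_card' p
      (hk.symm ▸ dvd_pow_self p hk0 : p ∣ Nat.card (center ↥(S : Subgroup X)))
    intro hb
    have hz1 : (z : ↥(S : Subgroup X)) ∈ K := (hK _).mpr ⟨z.2, by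
      have h1 : z ^ p = 1 := by
        have h2 := pow_orderOf_eq_one z
        rwa [hz] at h2
      rw [← coe_pow, h1, coe_one]⟩
    rw [hb, mem_bot] at hz1
    rw [OneMemClass.coe_eq_one.mp hz1, orderOf_one] at hz
    exact hp.out.ne_one hz.symm
  have e : K.map (S : Subgroup X).subtype = PushUp.Zs S := by
    ext x
    constructor
    · rintro ⟨y, hy, rfl⟩
      obtain ⟨hc, hyp⟩ := (hK y).mp hy
      exact PushUp.mem_Zs.mpr ⟨y.2, mem_centralizer_iff.mpr fun g hg =>
        congrArg Subtype.val (Subgroup.mem_center_iff.mp hc ⟨g, hg⟩),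
        by rw [coe_subtype, ← coe_pow, hyp, coe_one]⟩
    · intro hx
      obtain ⟨h1, h2, h3⟩ := PushUp.mem_Zs.mp hx
      exact ⟨⟨x, h1⟩, (hK _).mpr ⟨Subgroup.mem_center_iff.mpr fun g =>
        Subtype.ext (mem_centralizer_iff.mp h2 g g.2), Subtype.ext (by rw [coe_pow, coe_one]; exact h3)⟩, rfl⟩
  exact e ▸ hd K hKne hKc

/-- Without normal characteristic subgroups the Thompson subgroup is not normal. -/
theorem thompson_not_normal_of_noChar {S : Sylow p X} (hd : PushUp.NoChar S) (hne : (S : Subgroup X) ≠ ⊥) :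
    ¬ (Cfsg.thompsonSubgroupAOf (S : Subgroup X)).Normal := fun hn => by
  refine hd (Cfsg.thompsonSubgroupAOf (⊤ : Subgroup ↥(S : Subgroup X))) (fun h0 => ?_) thompson_top_char
    ((thompson_sub (S : Subgroup X)).symm ▸ hn)
  have h1 := thompson_sub (S : Subgroup X)
  rw [h0, Subgroup.map_bot] at h1
  exact RealFree.centerThompsonA_ne_bot (q := p) S.isPGroup' hne (le_bot_iff.mp (h1 ▸ inf_le_left))

variable {S : Sylow p X} {M : Subgroup X} (L : Local S M)
include L

theorem Local.unique : ∃! N : Subgroup X, IsCoatom N ∧ (S : Subgroup X) ≤ N := by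
  have hM : IsCoatom M := ⟨L.Mne, fun H hH => by
    by_contra hne
    exact absurd (L.ovg H (L.SM.trans hH.le) hne) hH.not_ge⟩
  refine ⟨M, ⟨hM, L.SM⟩, fun N hN => ?_⟩
  by_contra hne
  exact L.Mne (hN.1.2 M (lt_of_le_of_ne (L.ovg N hN.2 hN.1.1) hne))

theorem Local.Zs_not_normal : ¬ (PushUp.Zs S).Normal := L.zs

/-- The module is elementary abelian and central in the core. -/
theorem Local.Vz_le {x : X} (hx : x ∈ PushUp.Vz S) :
    x ∈ Cfsg.pCore p X ∧ x ∈ centralizer (Cfsg.pCore p X : Set X) ∧ x ^ p = 1 := by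
  obtain ⟨Q, hQdef⟩ : ∃ Q, Q = Cfsg.pCore p X := ⟨_, rfl⟩
  haveI hQn : Q.Normal := hQdef ▸ Grp.pCore_isNormal
  rw [← hQdef]
  have hQS : Q ≤ (S : Subgroup X) := hQdef ▸ Grp.pCore_le_sylow S
  have hE₁ : centralizer (Q : Set X) ≤ Q := hQdef ▸ L.core
  let P : Subgroup X :=
    { carrier := {x | x ∈ Q ∧ x ∈ centralizer (Q : Set X) ∧ x ^ p = 1}
      one_mem' := ⟨one_mem _, one_mem _, one_pow p⟩
      mul_mem' := by
        rintro a b ⟨ha, ha', hap⟩ ⟨hb, hb', hbp⟩
        refine ⟨mul_mem ha hb, mul_mem ha' hb', ?_⟩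
        rw [Commute.mul_pow (mem_centralizer_iff.mp hb' a ha), hap, hbp, one_mul]
      inv_mem' := by
        rintro a ⟨ha, ha', hap⟩
        exact ⟨inv_mem ha, inv_mem ha', by rw [inv_pow, hap, inv_one]⟩ }
  haveI : P.Normal := ⟨fun y hy g => ⟨hQn.conj_mem y hy.1 g,
    (PushUnique.centralizer_normal' Q).conj_mem y hy.2.1 g, by rw [conj_pow, hy.2.2, mul_one, mul_inv_cancel]⟩⟩
  have hle : PushUp.Vz S ≤ P := normalClosure_le_normal fun z hz =>
    ⟨hE₁ (centralizer_le hQS hz.2.1), centralizer_le hQS hz.2.1, hz.2.2⟩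
  exact hle hx

theorem Local.Vz_comm {v w : X} (hv : v ∈ PushUp.Vz S) (hw : w ∈ PushUp.Vz S) : v * w = w * v :=
  mem_centralizer_iff.mp (L.Vz_le hw).2.1 v (L.Vz_le hv).1

theorem Local.core_le_cent : Cfsg.pCore p X ≤ centralizer (PushUp.Vz S : Set X) := fun t ht =>
  mem_centralizer_iff.mpr fun v hv => (mem_centralizer_iff.mp (L.Vz_le hv).2.1 t ht).symm

/-- The centraliser of the module lies in `M` and meets `S` in the core. -/
theorem Local.cent_le : centralizer (PushUp.Vz S : Set X) ⊔ (S : Subgroup X) ≤ M ∧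
    (S : Subgroup X) ⊓ centralizer (PushUp.Vz S : Set X) = Cfsg.pCore p X := by
  haveI : (PushUp.Vz S).Normal := normalClosure_normal
  haveI hC := PushUnique.centralizer_normal' (PushUp.Vz S)
  have hne : centralizer (PushUp.Vz S : Set X) ⊔ (S : Subgroup X) ≠ ⊤ := fun htop =>
    L.Zs_not_normal (PushUnique.normal_of_le_center fun z hz => PushUnique.mem_center_of htop
      (fun c hc => (mem_centralizer_iff.mp hc z (le_normalClosure hz)).symm)
      (fun s hs => mem_centralizer_iff.mp (PushUp.mem_Zs.mp hz).2.1 s hs))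
  refine ⟨L.ovg _ le_sup_right hne, le_antisymm ?_ (le_inf (Grp.pCore_le_sylow S) L.core_le_cent)⟩
  exact Grp.le_pCore ((PushUnique.sup_eq_top_or_normal S L.unique _).resolve_left hne)
    (S.isPGroup'.to_le inf_le_left)

omit L

/-- The ambient group of the module and the automorphisms. -/
abbrev Amb (W : Subgroup X) : Type u := ↥W ⋊[MonoidHom.id (MulAut ↥W)] MulAut ↥W

/-- The action homomorphism. -/
def act (W : Subgroup X) [W.Normal] : X →* Amb W := SemidirectProduct.inr.comp MulAut.conjNormal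

theorem act_inl (W : Subgroup X) [W.Normal] (x : X) (w : ↥W) :
    act W x * SemidirectProduct.inl w * (act W x)⁻¹ =
      SemidirectProduct.inl (MulAut.conjNormal x w) := by
  show SemidirectProduct.inr (MulAut.conjNormal x) * SemidirectProduct.inl w *
    (SemidirectProduct.inr (MulAut.conjNormal x))⁻¹ = _
  rw [← map_inv]
  exact (SemidirectProduct.inl_aut (φ := MonoidHom.id (MulAut ↥W)) (MulAut.conjNormal x) w).symm

theorem act_eq_iff (W : Subgroup X) [W.Normal] (x : X) (w : ↥W) :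
    act W x * SemidirectProduct.inl w * (act W x)⁻¹ = SemidirectProduct.inl w ↔ x * (w : X) = (w : X) * x := by
  rw [act_inl, SemidirectProduct.inl_inj, Subtype.ext_iff, MulAut.conjNormal_apply, mul_inv_eq_iff_eq_mul]

theorem act_one_iff (W : Subgroup X) [W.Normal] (x : X) : act W x = 1 ↔ x ∈ centralizer (W : Set X) := by
  rw [mem_centralizer_iff]
  constructor
  · intro h w hw
    have := (act_eq_iff W x ⟨w, hw⟩).mp (by rw [h, one_mul, inv_one, mul_one])
    exact this.symm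
  · intro h
    have h1 : MulAut.conjNormal x = (1 : MulAut ↥W) := MulEquiv.ext fun w => Subtype.ext (by
      rw [MulAut.conjNormal_apply, ← h w w.2, mul_inv_cancel_right]; rfl)
    show SemidirectProduct.inr (MulAut.conjNormal x) = 1
    rw [h1, map_one]

/-- The module inside the ambient group. -/
def modW (W : Subgroup X) : Subgroup (Amb W) := (SemidirectProduct.inl : ↥W →* Amb W).range

theorem fix_iff (W : Subgroup X) [W.Normal] {H : Subgroup X} {w : ↥W} :
    SemidirectProduct.inl w ∈ centralizer ((H.map (act W) : Subgroup (Amb W)) : Set (Amb W)) ↔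
      (w : X) ∈ centralizer (H : Set X) := by
  rw [mem_centralizer_iff, mem_centralizer_iff]
  constructor
  · intro h y hy
    exact (act_eq_iff W y w).mp (mul_inv_eq_iff_eq_mul.mpr (h _ (mem_map_of_mem _ hy)))
  · rintro h _ ⟨y, hy, rfl⟩
    exact mul_inv_eq_iff_eq_mul.mp ((act_eq_iff W y w).mpr (h y hy))

/-- The fixed space is that of the preimage. -/
theorem card_fix (W : Subgroup X) [W.Normal] (H : Subgroup X) :
    Nat.card ↥(modW W ⊓ centralizer ((H.map (act W) : Subgroup (Amb W)) : Set (Amb W))) =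
      Nat.card ↥(W ⊓ centralizer (H : Set X)) := by
  have e : modW W ⊓ centralizer ((H.map (act W) : Subgroup (Amb W)) : Set (Amb W)) =
      ((W ⊓ centralizer (H : Set X)).subgroupOf W).map SemidirectProduct.inl := by
    ext v
    constructor
    · rintro ⟨⟨w, rfl⟩, hw⟩
      exact ⟨w, ⟨w.2, (fix_iff W).mp hw⟩, rfl⟩
    · rintro ⟨w, hw, rfl⟩
      exact ⟨⟨w, rfl⟩, (fix_iff W).mpr hw.2⟩
  rw [e, card_map_of_injective SemidirectProduct.inl_injective,
    Nat.card_congr (subgroupOfEquivOfLe inf_le_left).toEquiv]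

instance finite_amb (W : Subgroup X) : Finite (Amb W) := Finite.of_equiv _ SemidirectProduct.equivProd.symm

include L

theorem Local.sit [(PushUp.Vz S).Normal] :
    RootPair.Sit p (modW (PushUp.Vz S)) (act (PushUp.Vz S)).range
      ((S : Subgroup X).map (act (PushUp.Vz S))) (M.map (act (PushUp.Vz S))) := by
  obtain ⟨W, hW⟩ : ∃ W, W = PushUp.Vz S := ⟨_, rfl⟩
  obtain ⟨φ, hφ⟩ : ∃ φ, φ = act (PushUp.Vz S) := ⟨_, rfl⟩
  rw [← hφ]
  obtain ⟨hCM, hCS⟩ := L.cent_le
  have hker : φ.ker = centralizer (PushUp.Vz S : Set X) := Subgroup.ext fun x => by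
    rw [MonoidHom.mem_ker, hφ, act_one_iff]
  have hsyl : Grp.IsSylowIn p ((S : Subgroup X).map φ) φ.range := by
    refine ⟨map_le_range _ _, S.isPGroup'.map φ, fun hd => S.not_dvd_index (hd.trans ?_)⟩
    rw [MonoidHom.range_eq_map, relIndex_map_map, top_sup_eq, relIndex_top_right]
    exact index_dvd_of_le le_sup_left
  have hMne : M.map φ ≠ φ.range := fun h => L.Mne (by
    have h1 := congrArg (fun H => comap φ H) h
    simp only [MonoidHom.range_eq_map, comap_map_eq, top_sup_eq] at h1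
    rwa [sup_eq_left.mpr (hker ▸ le_sup_left.trans hCM)] at h1)
  refine
    { wcomm := ?_, wexp := ?_, norm := ?_, faith := ?_, syl := hsyl, SM := map_mono L.SM
      MG := map_le_range _ _, Mne := hMne, uniq := ?_, core := ?_, span := ?_, moved := ?_ }
  · rintro _ ⟨v, rfl⟩ _ ⟨w, rfl⟩
    rw [← map_mul, ← map_mul]
    exact congrArg _ (Subtype.ext (L.Vz_comm v.2 w.2))
  · rintro _ ⟨v, rfl⟩
    rw [← map_pow, show v ^ p = 1 from Subtype.ext (by rw [coe_pow, coe_one]; exact (L.Vz_le v.2).2.2), map_one]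
  · rintro _ ⟨x, rfl⟩ _ ⟨v, rfl⟩
    rw [hφ, act_inl]
    exact ⟨_, rfl⟩
  · refine eq_bot_iff.mpr ?_
    rintro _ ⟨⟨x, rfl⟩, hx⟩
    rw [mem_bot, hφ, act_one_iff, mem_centralizer_iff]
    intro w hw
    refine ((act_eq_iff _ x ⟨w, hw⟩).mp ?_).symm
    rw [← hφ]
    exact mul_inv_eq_iff_eq_mul.mpr (mem_centralizer_iff.mp hx _ ⟨_, rfl⟩).symm
  · intro H hSH hH hne
    rw [← map_comap_eq_self hH]
    refine map_mono (L.ovg _ (map_le_iff_le_comap.mp hSH) fun htop => hne ?_)
    rw [← map_comap_eq_self hH, htop, MonoidHom.range_eq_map]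
  · intro Q hQ hQp hQn
    have hQS : Q ≤ (S : Subgroup X).map φ := by
      refine le_sup_right.trans (le_of_eq (hsyl.eq_of_le (Y := (S : Subgroup X).map φ ⊔ Q) le_sup_left
        (sup_le hsyl.1 hQ) (hsyl.2.1.to_sup_of_normal_right' hQp (hsyl.1.trans hQn))).symm)
    obtain ⟨N, hN⟩ : ∃ N, N = comap φ Q := ⟨_, rfl⟩
    haveI : N.Normal := ⟨fun n hn x => by
      rw [hN, mem_comap] at hn ⊢
      rw [map_mul, map_mul, map_inv]
      exact (mem_normalizer_iff.mp (hQn ⟨x, rfl⟩) _).mp hn⟩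
    have hNne : N ⊔ (S : Subgroup X) ≠ ⊤ := fun htop => L.Mne (top_le_iff.mp (htop.ge.trans
      (sup_le ((hN.trans_le (comap_mono hQS)).trans
        ((comap_map_eq _ _).trans_le (sup_le L.SM (hker ▸ le_sup_left.trans hCM)))) L.SM)))
    have hle : (S : Subgroup X) ⊓ N ≤ Cfsg.pCore p X :=
      Grp.le_pCore ((PushUnique.sup_eq_top_or_normal S L.unique N).resolve_left hNne)
        (S.isPGroup'.to_le inf_le_left)
    refine eq_bot_iff.mpr fun q hq => ?_
    obtain ⟨s, hs, rfl⟩ := hQS hq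
    exact (mem_bot).mpr ((MonoidHom.mem_ker).mp (hker ▸ L.core_le_cent (hle ⟨hs, hN ▸ hq⟩)))
  · rintro _ ⟨⟨w, hw⟩, rfl⟩
    induction hw using closure_induction with
    | mem y hy =>
      obtain ⟨z, hz, hzy⟩ := Group.mem_conjugatesOfSet_iff.mp hy
      obtain ⟨x, rfl⟩ := _root_.isConj_iff.mp hzy
      have hzV : z ∈ PushUp.Vz S := le_normalClosure hz
      refine subset_closure ⟨φ x, ⟨x, rfl⟩, SemidirectProduct.inl ⟨z, hzV⟩, ⟨⟨_, rfl⟩, ?_⟩, ?_⟩
      · exact hφ ▸ (fix_iff _).mpr (PushUp.mem_Zs.mp hz).2.1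
      · rw [hφ, act_inl]
        rfl
    | one => exact one_mem _
    | mul a b ha hb iha ihb => exact (map_mul (SemidirectProduct.inl : _ →* Amb (PushUp.Vz S)) ⟨a, ha⟩ ⟨b, hb⟩) ▸ mul_mem iha ihb
    | inv a ha iha => exact (map_inv (SemidirectProduct.inl : _ →* Amb (PushUp.Vz S)) ⟨a, ha⟩) ▸ inv_mem iha
  · intro hle
    refine L.Zs_not_normal (PushUnique.normal_of_le_center fun z hz => Subgroup.mem_center_iff.mpr fun x => ?_)
    have hzV : z ∈ PushUp.Vz S := le_normalClosure hz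
    have hin : SemidirectProduct.inl (⟨z, hzV⟩ : ↥(PushUp.Vz S)) ∈ centralizer (φ.range : Set (Amb (PushUp.Vz S))) :=
      hle ⟨⟨_, rfl⟩, hφ ▸ (fix_iff _).mpr (PushUp.mem_Zs.mp hz).2.1⟩
    refine (act_eq_iff _ x ⟨z, hzV⟩).mp ?_
    rw [← hφ]
    exact mul_inv_eq_iff_eq_mul.mpr (mem_centralizer_iff.mp hin _ ⟨x, rfl⟩)

end Cfsg.Agent.Fus.CharTransfer
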