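import Cfsg.Agent.Lib.Invol.PushUp.Main
import Cfsg.Agent.Lib.Invol.NilpotentNormal

/-!
# `p`-elements act quadratically on natural chief factors
-/

set_option autoImplicit false
set_option linter.unusedSectionVars false
set_option linter.style.haveILetI false

open scoped Classical commutatorElement

namespace Cfsg.Agent.Fus.CharTransfer

open Subgroup Cfsg.Agent.Invol Matrix

universe u

variable {p : ℕ} [hp : Fact p.Prime]

theorem sub_one_sq {F : Type} [Field F] [CharP F p] {M : Matrix (Fin 2) (Fin 2) F} {k : ℕ}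
    (h : M ^ p ^ k = 1) : (M - 1) * (M - 1) = 0 := by
  have hn : IsNilpotent (M - 1) :=
    ⟨p ^ k, by rw [sub_pow_char_pow_of_commute p k (Commute.one_right M), h, one_pow, sub_self]⟩
  have h1 := (Matrix.isNilpotent_charpoly_sub_pow_of_isNilpotent hn).eq_zero
  rw [sub_eq_zero, Fintype.card_fin] at h1
  have h2 := Matrix.aeval_self_charpoly (M - 1)
  rw [h1, map_pow, Polynomial.aeval_X, pow_two] at h2
  exact h2

variable {X : Type u} [Group X] [Finite X]

theorem natural_quad {F : Type} [Field F] [CharP F p] {Q : Type u} [Group Q] {V : Subgroup Q}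
    (h : Cfsg.IsNaturalSL2Module F V (⊤ : Subgroup Q)) {s : Q} {k : ℕ} (hs : s ^ p ^ k = 1) {v : Q}
    (hv : v ∈ V) : s * ⁅s, v⁆ * s⁻¹ = ⁅s, v⁆ := by
  obtain ⟨hn, ρ, ψ, -, -, hact⟩ := h
  obtain ⟨l, hl⟩ : ∃ l : ↥(⊤ : Subgroup Q), l = ⟨s, mem_top s⟩ := ⟨_, rfl⟩
  obtain ⟨M, hM⟩ : ∃ M, M = ((ρ l : Matrix.SpecialLinearGroup (Fin 2) F) : Matrix (Fin 2) (Fin 2) F) := ⟨_, rfl⟩
  have hsq : (M - 1) * (M - 1) = 0 := by
    refine sub_one_sq (p := p) (k := k) ?_
    rw [hM, ← Matrix.SpecialLinearGroup.coe_pow, ← map_pow,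
      show l ^ p ^ k = 1 from Subtype.ext (by rw [hl, coe_pow, coe_one]; exact hs), map_one, Matrix.SpecialLinearGroup.coe_one]
  obtain ⟨w, hw, hψw⟩ := hact l ⟨v, hv⟩
  obtain ⟨c, hc⟩ : ∃ c : ↥V, c = w * (⟨v, hv⟩ : ↥V)⁻¹ := ⟨_, rfl⟩
  have hcQ : (c : Q) = ⁅s, v⁆ := by
    rw [hc, coe_mul, coe_inv, hw, hl, commutatorElement_def]
  obtain ⟨z, hz, hψz⟩ := hact l c
  have hψc : ψ (Additive.ofMul c) = (M - 1) *ᵥ ψ (Additive.ofMul ⟨v, hv⟩) := by
    rw [hc, ofMul_mul, ofMul_inv, map_add, map_neg, hψw, hM, Matrix.sub_mulVec, Matrix.one_mulVec, sub_eq_add_neg]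
  have e : z = c := by
    refine Additive.ofMul.injective (ψ.injective ?_)
    rw [hψz, ← hM, hψc]
    have h0 : (M - 1) *ᵥ ((M - 1) *ᵥ ψ (Additive.ofMul ⟨v, hv⟩)) = 0 := by
      rw [Matrix.mulVec_mulVec, hsq, Matrix.zero_mulVec]
    rwa [Matrix.sub_mulVec, Matrix.one_mulVec, sub_eq_zero] at h0
  rw [← hcQ]
  conv_rhs => rw [← e]
  rw [hz, hl]

omit hp in
/-- A doubly vanishing commutator with `s` kills the second iterated commutator. -/
theorem iter_two_le {U V : Subgroup X} [hU : U.Normal] [hV : V.Normal] {s : X}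
    (h : ∀ u ∈ U, ⁅s, ⁅s, u⁆⁆ ∈ V) : ⁅⁅U, zpowers s⁆, zpowers s⁆ ≤ V := by
  obtain ⟨π, hπ⟩ : ∃ π, π = QuotientGroup.mk' V := ⟨_, rfl⟩
  have h1 : ∀ x, π x = 1 ↔ x ∈ V := fun x => hπ ▸ QuotientGroup.eq_one_iff x
  have hfix : ∀ u ∈ U, π s * ⁅π s, π u⁆ * (π s)⁻¹ = ⁅π s, π u⁆ := fun u hu => by
    have h2 := (h1 _).mpr (h u hu)
    rw [map_commutatorElement, map_commutatorElement, commutatorElement_def (π s) ⁅π s, π u⁆] at h2
    exact mul_inv_eq_one.mp h2
  obtain ⟨K, hK⟩ : ∃ K : Subgroup X, K = (centralizer ({π s} : Set (X ⧸ V))).comap π := ⟨_, rfl⟩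
  have hsK : ∀ x, x ∈ K ↔ π s * π x = π x * π s := fun x => by
    rw [hK, mem_comap, mem_centralizer_singleton_iff]
    exact eq_comm
  have hpow : ∀ n : ℕ, ∀ u ∈ U, π s * ⁅π s ^ n, π u⁆ = ⁅π s ^ n, π u⁆ * π s := by
    intro n
    induction n with
    | zero => intro u _; simp
    | succ n ih =>
      intro u hu
      have e : ⁅π s ^ (n + 1), π u⁆ = (π s * ⁅π s ^ n, π u⁆ * (π s)⁻¹) * ⁅π s, π u⁆ := by
        rw [pow_succ']; simp only [commutatorElement_def]; group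
      rw [e, mul_inv_eq_iff_eq_mul.mpr (ih u hu)]
      calc π s * (⁅π s ^ n, π u⁆ * ⁅π s, π u⁆) = (π s * ⁅π s ^ n, π u⁆) * ⁅π s, π u⁆ := by group
        _ = ⁅π s ^ n, π u⁆ * (π s * ⁅π s, π u⁆) := by rw [ih u hu]; group
        _ = _ := by rw [mul_inv_eq_iff_eq_mul.mp (hfix u hu)]; group
  have hUK : ⁅U, zpowers s⁆ ≤ K := by
    refine commutator_le.mpr fun u hu g hg => ?_
    obtain ⟨n, hn⟩ := mem_powers_iff_mem_zpowers.mpr hg
    rw [← commutatorElement_inv g u]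
    refine inv_mem ((hsK _).mpr ?_)
    rw [map_commutatorElement, ← hn, map_pow]
    exact hpow n u hu
  refine commutator_le.mpr fun c hc g hg => ?_
  obtain ⟨n, hn⟩ := mem_powers_iff_mem_zpowers.mpr hg
  rw [← h1, map_commutatorElement, commutatorElement_eq_one_iff_mul_comm, ← hn, map_pow]
  exact ((show Commute (π s) (π c) from (hsK c).mp (hUK hc)).pow_left n).eq.symm

theorem mem_nilpSet_of_natural (hodd : p ≠ 2) {T : Subgroup X} {F : Type} [Field F] [CharP F p]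
    (hchief : ∀ (U W : Subgroup X) [W.Normal], U ≤ T → Cfsg.IsChiefFactor U W → ¬ ⁅U, (⊤ : Subgroup X)⁆ ≤ W →
      Cfsg.IsNaturalSL2Module F (U.map (QuotientGroup.mk' W)) (⊤ : Subgroup (X ⧸ W)))
    {s : X} {k : ℕ} (hs : s ^ p ^ k = 1) : s ∈ nilpSet p T := by
  intro U V hUV hUT
  haveI := hUV.2.1
  haveI : V.Normal := hUV.2.2.1
  have h2 : Cfsg.iterCommutator U (zpowers s) 2 ≤ V := by
    show ⁅⁅U, zpowers s⁆, zpowers s⁆ ≤ V
    by_cases hc : ⁅U, (⊤ : Subgroup X)⁆ ≤ V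
    · exact (commutator_mono ((commutator_mono le_rfl le_top).trans hc) le_rfl).trans (commutator_le_left _ _)
    · refine iter_two_le fun u hu => ?_
      have hq := natural_quad (hchief U V hUT hUV hc) (s := QuotientGroup.mk' V s) (k := k)
        (by rw [← map_pow, hs, map_one]) (mem_map_of_mem _ hu)
      rw [← QuotientGroup.eq_one_iff]
      show QuotientGroup.mk' V _ = 1
      rw [map_commutatorElement, map_commutatorElement, commutatorElement_def _ ⁅_, _⁆, hq, mul_inv_cancel]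
  have hge : ∀ n, Cfsg.iterCommutator U (zpowers s) (2 + n) ≤ V := fun n => by
    induction n with
    | zero => exact h2
    | succ n ih => exact (commutator_mono ih le_rfl).trans (commutator_le_left _ _)
  have h3 : 2 ≤ p - 1 := by have := hp.out.two_le; omega
  have := hge (p - 1 - 2)
  rwa [Nat.add_sub_cancel' h3] at this

end Cfsg.Agent.Fus.CharTransfer
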