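import Cfsg.Agent.Lib.Fus.CharTransferModule

/-!
# `C_S(Z(J(S)))` centralises the commutator space of an omitted member
-/

set_option autoImplicit false
set_option linter.unusedSectionVars false
set_option linter.style.haveILetI false

open scoped Classical commutatorElement

namespace Cfsg.Agent.Fus.CharTransfer

open Subgroup Cfsg.Agent.Invol

universe u

variable {X : Type u} [Group X] [Finite X]

/-- The largest abelian subgroups have the largest measure. -/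
theorem meas_max (W : Subgroup X) [W.Normal] (hab : ∀ v ∈ W, ∀ w ∈ W, v * w = w * v) {S A : Subgroup X}
    (hWS : W ≤ S) (hA : Fus.IsMaxAb S A) {E' : Subgroup (Amb W)} (hE' : E' ≤ A.map (act W)) :
    RootPair.meas (modW W) E' ≤ RootPair.meas (modW W) (A.map (act W)) := by
  obtain ⟨C, hC⟩ : ∃ C, C = (act W).ker := ⟨_, rfl⟩
  haveI : C.Normal := hC ▸ MonoidHom.normal_ker _
  have hCc : C = centralizer (W : Set X) := Subgroup.ext fun x => by rw [hC, MonoidHom.mem_ker, act_one_iff]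
  obtain ⟨A', hA'⟩ : ∃ A', A' = A ⊓ E'.comap (act W) := ⟨_, rfl⟩
  have himg : A'.map (act W) = E' := by
    refine le_antisymm (hA' ▸ (map_mono inf_le_right).trans (map_comap_le _ _)) fun e he => ?_
    obtain ⟨a, ha, rfl⟩ := hE' he
    exact ⟨a, hA'.ge ⟨ha, he⟩, rfl⟩
  rw [← himg, RootPair.meas, RootPair.meas, card_fix, card_fix]
  have hcard : ∀ H : Subgroup X, Nat.card ↥(H.map (act W)) * Nat.card ↥(H ⊓ C) = Nat.card H := by
    intro H
    have h1 := ((act W).domRestrict H).ker.index_mul_card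
    rw [index_ker, MonoidHom.domRestrict_range] at h1
    have e : ((act W).domRestrict H).ker.map H.subtype = H ⊓ C := by
      ext x
      constructor
      · rintro ⟨y, hy, rfl⟩
        exact ⟨y.2, hC ▸ hy⟩
      · rintro ⟨h1, h2⟩
        exact ⟨⟨x, h1⟩, MonoidHom.mem_ker.mpr (MonoidHom.mem_ker.mp (hC.le h2)), rfl⟩
    rwa [← e, card_map_of_injective H.subtype_injective]
  have hAC : A' ⊓ C = A ⊓ C := le_antisymm (inf_le_inf_right _ (hA' ▸ inf_le_left)) fun x hx =>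
    ⟨hA'.ge ⟨hx.1, show act W x ∈ E' from (MonoidHom.mem_ker.mp (hC.le hx.2)).symm ▸ one_mem E'⟩, hx.2⟩
  have hsup : ∀ B : Subgroup X, B ≤ A → ∀ x ∈ B ⊔ W ⊓ centralizer (B : Set X),
      ∀ y ∈ B ⊔ W ⊓ centralizer (B : Set X), x * y = y * x := by
    intro B hB x hx y hy
    have hle : B ⊔ W ⊓ centralizer (B : Set X) ≤
        centralizer ((B ⊔ W ⊓ centralizer (B : Set X) : Subgroup X) : Set X) := by
      refine sup_le (le_trans (le_inf ?_ ?_) (Invol.centralizer_sup_le _ _))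
        (le_trans (le_inf ?_ ?_) (Invol.centralizer_sup_le _ _))
      · exact fun a ha => mem_centralizer_iff.mpr fun b hb => hA.2.1 b (hB hb) a (hB ha)
      · exact fun a ha => mem_centralizer_iff.mpr fun b hb => (mem_centralizer_iff.mp hb.2 a ha).symm
      · exact inf_le_right
      · exact fun a ha => mem_centralizer_iff.mpr fun b hb => hab b hb.1 a ha.1
    exact (mem_centralizer_iff.mp (hle hx) y hy).symm
  have hWA : W ⊓ centralizer (A : Set X) = A ⊓ W := by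
    refine le_antisymm (le_inf ?_ inf_le_left) fun x hx => ⟨hx.2, mem_centralizer_iff.mpr fun a ha => hA.2.1 a ha x hx.1⟩
    have h := eq_of_le_of_card_ge (le_sup_left : A ≤ A ⊔ W ⊓ centralizer (A : Set X))
      (hA.2.2 _ (sup_le hA.1 (inf_le_left.trans hWS)) (hsup A le_rfl))
    exact le_sup_right.trans h.ge
  have hA'A : A' ≤ A := hA' ▸ inf_le_left
  obtain ⟨V, hV⟩ : ∃ V, V = W ⊓ centralizer (A' : Set X) := ⟨_, rfl⟩
  have h1 : Nat.card ↥(A' ⊔ V) * Nat.card ↥(A' ⊓ V) = Nat.card A' * Nat.card V :=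
    Grp.card_sup_mul_card_inf fun a ha => centralizer_le_normalizer _
      (mem_centralizer_iff.mpr fun v hv => (mem_centralizer_iff.mp (hV.le hv).2 a ha).symm)
  have h2 : Nat.card ↥(A' ⊔ V) ≤ Nat.card A :=
    hA.2.2 _ (sup_le (hA'A.trans hA.1) (hV ▸ inf_le_left.trans hWS)) (hV ▸ hsup A' hA'A)
  have h3 : Nat.card ↥(A' ⊓ V) ≤ Nat.card ↥(A ⊓ W) := card_le_of_le (inf_le_inf hA'A (hV ▸ inf_le_left))
  have h4 : Nat.card A' * Nat.card V ≤ Nat.card A * Nat.card ↥(A ⊓ W) := h1 ▸ Nat.mul_le_mul h2 h3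
  rw [← hcard A', ← hcard A, hAC] at h4
  rw [← hV, hWA]
  refine Nat.le_of_mul_le_mul_left (c := Nat.card ↥(A ⊓ C)) ?_ Nat.card_pos
  calc _ = Nat.card ↥(A'.map (act W)) * Nat.card ↥(A ⊓ C) * Nat.card V := by ring
    _ ≤ _ := h4
    _ = _ := by ring

variable {p : ℕ} [hp : Fact p.Prime] {S : Sylow p X} {M : Subgroup X} (L : Local S M)
include L

theorem Local.meas_ge [(PushUp.Vz S).Normal] {A : Subgroup X} (hA : Fus.IsMaxAb (S : Subgroup X) A) :
    Nat.card ↥(modW (PushUp.Vz S)) ≤ RootPair.meas (modW (PushUp.Vz S)) (A.map (act (PushUp.Vz S))) := by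
  refine le_trans ?_ (meas_max (PushUp.Vz S) (fun v hv w hw => L.Vz_comm hv hw)
    (fun v hv => Grp.pCore_le_sylow S (L.Vz_le hv).1) hA (bot_le : (⊥ : Subgroup (Amb (PushUp.Vz S))) ≤ _))
  rw [RootPair.meas, card_bot, one_mul]
  refine card_le_of_le (le_inf le_rfl fun v _ => mem_centralizer_iff.mpr fun b hb => ?_)
  rw [mem_bot.mp hb, one_mul, mul_one]

/-- An omitted member inside the image of an abelian subgroup of largest order, whose commutator
space is centralised by `C_S(Z(J(S)))`. -/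
theorem Local.exists_member [(PushUp.Vz S).Normal] (hodd : p ≠ 2) :
    ∃ (g : Amb (PushUp.Vz S)) (A0 : Subgroup (Amb (PushUp.Vz S))),
      RootPair.Ext p (modW (PushUp.Vz S)) (act (PushUp.Vz S)).range
        ((S : Subgroup X).map (act (PushUp.Vz S))) (M.map (act (PushUp.Vz S))) g A0 ∧
      A0 ≤ ((S : Subgroup X) ⊓ centralizer (Cfsg.centerThompsonAOf (S : Subgroup X) : Set X)).map (act (PushUp.Vz S)) ∧
      ∀ b ∈ (S : Subgroup X) ⊓ centralizer (Cfsg.centerThompsonAOf (S : Subgroup X) : Set X),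
        ∀ v ∈ ⁅A0, modW (PushUp.Vz S)⁆, act (PushUp.Vz S) b * v * (act (PushUp.Vz S) b)⁻¹ = v := by
  obtain ⟨φ, hφ⟩ : ∃ φ, φ = act (PushUp.Vz S) := ⟨_, rfl⟩
  obtain ⟨W', hW'⟩ : ∃ W', W' = modW (PushUp.Vz S) := ⟨_, rfl⟩
  have C := L.sit
  rw [← hφ, ← hW'] at C ⊢
  have hmax : ∀ A, Fus.IsMaxAb (S : Subgroup X) A → ∀ E', E' ≤ A.map φ →
      RootPair.meas W' E' ≤ RootPair.meas W' (A.map φ) := fun A hA E' hE' => by
    rw [hφ] at hE' ⊢
    rw [hW']
    exact meas_max _ (fun v hv w hw => L.Vz_comm hv hw)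
      (fun v hv => Grp.pCore_le_sylow S (L.Vz_le hv).1) hA hE'
  have hAJ : ∀ A, Fus.IsMaxAb (S : Subgroup X) A →
      A ≤ (S : Subgroup X) ⊓ centralizer (Cfsg.centerThompsonAOf (S : Subgroup X) : Set X) := fun A hA a ha =>
    ⟨hA.1 ha, mem_centralizer_iff.mpr fun z hz => (mem_centralizer_iff.mp hz.2 a (hA.le_thompsonA ha)).symm⟩
  obtain ⟨A1, hA1, hA1ne⟩ : ∃ A1, Fus.IsMaxAb (S : Subgroup X) A1 ∧ A1.map φ ≠ ⊥ := by
    by_contra hc
    push Not at hc
    haveI : (Cfsg.pCore p X).Normal := Grp.pCore_isNormal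
    have hJ : Cfsg.thompsonSubgroupAOf (S : Subgroup X) ≤ Cfsg.pCore p X := Fus.thompsonA_le_of fun A hA a ha => by
      rw [← L.cent_le.2]
      refine ⟨hA.1 ha, (act_one_iff _ a).mp ?_⟩
      rw [← hφ, ← mem_bot, ← hc A hA]
      exact mem_map_of_mem φ ha
    haveI hn := PushUnique.thompson_normal (Grp.pCore_le_sylow S) hJ
    exact L.jn hn
  obtain ⟨A0, ⟨hA0le, hA0ne, hA0m⟩, hA0min⟩ := Set.exists_min_image
    {E' : Subgroup (Amb (PushUp.Vz S)) | E' ≤ A1.map φ ∧ E' ≠ ⊥ ∧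
      RootPair.meas W' E' = RootPair.meas W' (A1.map φ)}
    (fun E' => Nat.card E') (Set.toFinite _) ⟨A1.map φ, le_rfl, hA1ne, rfl⟩
  have hA0S : A0 ≤ (S : Subgroup X).map φ := hA0le.trans (map_mono hA1.1)
  have hmem : RootPair.Member p W' φ.range A0 := by
    refine ⟨hA0le.trans (map_le_range _ _), hA0ne, ((S.isPGroup'.to_le hA1.1).map φ).to_le hA0le,
      fun a ha b hb => ?_, ?_, fun A₀ h0 h1 h2 => lt_of_le_of_ne
        ((hmax A1 hA1 A₀ (h0.trans hA0le)).trans hA0m.ge) fun he => h2 ?_⟩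
    · obtain ⟨a', ha', rfl⟩ := hA0le ha
      obtain ⟨b', hb', rfl⟩ := hA0le hb
      rw [← map_mul, ← map_mul, hA1.2.1 a' ha' b' hb']
    · rw [hA0m]
      subst hφ hW'
      exact L.meas_ge hA1
    · exact eq_of_le_of_card_ge h0 (hA0min A₀ ⟨h0.trans hA0le, h1, he.trans hA0m⟩)
  have hm0 : A0 ∈ RootPair.mems p W' φ.range ((S : Subgroup X).map φ) := ⟨hmem, hA0S⟩
  obtain ⟨g, E⟩ := C.omitted hodd hm0
  obtain ⟨x, T, F, iF, fF, -, -, -, -, -, hU⟩ := E.exists_split C hodd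
  have hcent : ∀ A, Fus.IsMaxAb (S : Subgroup X) A → ∀ a ∈ A, ∀ v ∈ ⁅A0, W'⁆, φ a * v * (φ a)⁻¹ = v := by
    intro A hA a ha
    have hUc : ∀ a ∈ A.map φ, ∀ b ∈ A.map φ, a * b = b * a := by
      rintro _ ⟨a', ha', rfl⟩ _ ⟨b', hb', rfl⟩
      rw [← map_mul, ← map_mul, hA.2.1 a' ha' b' hb']
    refine hU (A.map φ) (map_mono hA.1) hUc (hmax A hA) ?_ (φ a) (mem_map_of_mem φ ha)
    refine E.fix_member C hodd (map_mono hA.1) hUc (hmax A hA) fun e he => ?_
    have := C.cj_mems (map_mono hA.1 he) hm0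
    rw [E.mems_eq C hodd] at this
    exact Set.mem_insert_iff.mp this
  refine ⟨g, A0, E, hA0le.trans (map_mono (hAJ A1 hA1)), fun b hb v hv => ?_⟩
  obtain ⟨w, rfl⟩ : v ∈ (SemidirectProduct.inl : ↥(PushUp.Vz S) →* Amb (PushUp.Vz S)).range := by
    have h1 : v ∈ W' := E.QA_le C hv
    rwa [hW'] at h1
  have hwS : (w : X) ∈ (S : Subgroup X) := Grp.pCore_le_sylow S (L.Vz_le w.2).1
  have hwJ : (w : X) ∈ centralizer (Cfsg.thompsonSubgroupAOf (S : Subgroup X) : Set X) := by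
    refine mem_centralizer_iff.mpr fun j hj => mem_centralizer_singleton_iff.mp ?_
    refine (Fus.thompsonA_le_of fun A hA a ha => mem_centralizer_singleton_iff.mpr ?_ :
      Cfsg.thompsonSubgroupAOf (S : Subgroup X) ≤ centralizer ({(w : X)} : Set X)) hj
    have h := hcent A hA a ha _ hv
    rw [hφ] at h
    exact (act_eq_iff _ a w).mp h
  rw [hφ]
  exact (act_eq_iff _ b w).mpr
    (mem_centralizer_iff.mp hb.2 _ ⟨Fus.centralizer_thompsonA_le ⟨hwS, hwJ⟩, hwJ⟩).symm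

end Cfsg.Agent.Fus.CharTransfer
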