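import Cfsg.Agent.Lib.Fus.CharTransferOffender

/-!
# A minimal overgroup with a rank one quotient
-/

set_option autoImplicit false
set_option linter.unusedSectionVars false
set_option linter.style.haveILetI false

open scoped Classical commutatorElement

namespace Cfsg.Agent.Fus.CharTransfer

open Subgroup Cfsg.Agent.Invol Cfsg.Agent.Grp.OffenderSL2

universe u

variable {X : Type u} [Group X] [Finite X] {p : ℕ} [hp : Fact p.Prime]

/-- A subgroup with a rank one quotient whose Sylow subgroup carries `C_S(Z(J(S)))`. -/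
structure RankOne (S : Sylow p X) (M Y R : Subgroup X) (F : Type) [Field F] [Fintype F] : Prop where
  hF : ∃ n : ℕ, Fintype.card F = p ^ n
  leR : R ≤ (S : Subgroup X) ⊓ Y
  syl : Grp.IsSylowIn p R Y
  core_le : Cfsg.pCore p X ≤ R
  tilde_le : (S : Subgroup X) ⊓ centralizer (Cfsg.centerThompsonAOf (S : Subgroup X) : Set X) ≤ R
  notM : ¬ Y ≤ M
  ovg : ∀ H : Subgroup X, R ≤ H → H ≤ Y → H ≠ Y → H ≤ M
  quot : ∃ π : ↥Y →* Matrix.ProjectiveSpecialLinearGroup (Fin 2) F, Function.Surjective π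
  centre : ¬ ∀ y ∈ Y, ∀ z ∈ R ⊓ centralizer (R : Set X), y * z * y⁻¹ ∈ R ⊓ centralizer (R : Set X)
  escape : ∀ N : Subgroup X, N ≤ M → (∀ y ∈ Y, ∀ c ∈ N, y * c * y⁻¹ ∈ N) →
    ¬ (S : Subgroup X) ⊓ centralizer (Cfsg.centerThompsonAOf (S : Subgroup X) : Set X) ≤ N

variable {S : Sylow p X} {M : Subgroup X} (L : Local S M)
include L

theorem Local.exists_rankOne (hodd : p ≠ 2) :
    ∃ (Y R : Subgroup X) (F : Type) (_ : Field F) (_ : Fintype F), RankOne S M Y R F := by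
  haveI : (PushUp.Vz S).Normal := normalClosure_normal
  obtain ⟨g, A0, E, hA0B, hBfix⟩ := L.exists_member hodd
  have C := L.sit
  obtain ⟨φ, hφ⟩ : ∃ φ, φ = act (PushUp.Vz S) := ⟨_, rfl⟩
  rw [← hφ] at C E hA0B hBfix
  obtain ⟨hCM, hCS⟩ := L.cent_le
  obtain ⟨x, T2, F, iF, fF, Q, hF, hidx, ⟨ρ, hρ⟩, hsplit, -⟩ := E.exists_split C hodd
  obtain ⟨P, hP⟩ : ∃ P, P = A0 ⊔ cj x A0 := ⟨_, rfl⟩
  have hker : φ.ker = centralizer (PushUp.Vz S : Set X) := Subgroup.ext fun x => by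
    rw [MonoidHom.mem_ker, hφ, act_one_iff]
  obtain ⟨D, hD⟩ : ∃ D, D = (S : Subgroup X).map φ ⊓ centralizer (P : Set (Amb (PushUp.Vz S))) := ⟨_, rfl⟩
  have hAP : A0 ≤ P := hP ▸ le_sup_left
  have hPΓ : P ≤ φ.range := hP ▸ Q.P_le C E
  have hDS : D ≤ (S : Subgroup X).map φ := hD ▸ inf_le_left
  have hcomm : ∀ l ∈ P, ∀ d ∈ D, l * d = d * l := fun l hl d hd => mem_centralizer_iff.mp (hD.le hd).2 l hl
  -- the pair meets its centraliser trivially
  have hPD : P ⊓ D = ⊥ := by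
    refine eq_bot_iff.mpr fun z hz => mem_bot.mpr ?_
    obtain ⟨k, hk⟩ := S.isPGroup'.map φ ⟨z, hDS hz.2⟩
    have hzk : z ^ p ^ k = 1 := congrArg Subtype.val hk
    have hzP : z ∈ A0 ⊔ cj x A0 := hP ▸ hz.1
    have hz2 : (⟨z, hzP⟩ : ↥(A0 ⊔ cj x A0)) ^ 2 = 1 := by
      refine hρ.1 ?_
      have hc : ρ ⟨z, hzP⟩ ∈ center _ := Subgroup.mem_center_iff.mpr fun m => by
        obtain ⟨l, rfl⟩ := hρ.2 m
        rw [← map_mul, ← map_mul]
        exact congrArg ρ (Subtype.ext (hcomm l (hP ▸ l.2) z hz.2))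
      rw [map_pow, map_one]
      obtain ⟨r, hr, he⟩ := Matrix.SpecialLinearGroup.mem_center_iff.mp hc
      rw [Fintype.card_fin] at hr
      refine Subtype.ext ?_
      rw [Matrix.SpecialLinearGroup.coe_pow, ← he, ← map_pow, hr, map_one, Matrix.SpecialLinearGroup.coe_one]
    have h2 : z ^ 2 = 1 := congrArg Subtype.val hz2
    have hcop : Nat.Coprime 2 (p ^ k) :=
      ((Nat.coprime_primes Nat.prime_two hp.out).mpr fun e => hodd e.symm).pow_right k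
    have hg : z ^ Nat.gcd 2 (p ^ k) = 1 := pow_gcd_eq_one.mpr ⟨h2, hzk⟩
    rwa [hcop, pow_one] at hg
  have huni : ∀ {l l' d d' : Amb (PushUp.Vz S)}, l ∈ P → l' ∈ P → d ∈ D → d' ∈ D → l * d = l' * d' → l = l' := by
    intro l l' d d' hl hl' hd hd' e
    have h1 : l'⁻¹ * l = d' * d⁻¹ := by
      calc l'⁻¹ * l = l'⁻¹ * (l * d) * d⁻¹ := by group
        _ = _ := by rw [e]; group
    have h2 : l'⁻¹ * l ∈ P ⊓ D := mem_inf.mpr ⟨P.mul_mem (P.inv_mem hl') hl, h1 ▸ D.mul_mem hd' (D.inv_mem hd)⟩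
    rw [hPD, mem_bot, inv_mul_eq_one] at h2
    exact h2.symm
  have hA0D : ∀ {H : Subgroup (Amb (PushUp.Vz S))}, H ≤ P →
      Nat.card ↥(H ⊔ D) = Nat.card H * Nat.card D := fun {H} hH => by
    have h := Grp.card_sup_mul_card_inf (H := H) (N := D) fun l hl => centralizer_le_normalizer _
      (mem_centralizer_iff.mpr fun d hd => (hcomm l (hH hl) d hd).symm)
    rwa [le_bot_iff.mp ((inf_le_inf_right D hH).trans hPD.le), card_bot, mul_one] at h
  -- the preimages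
  obtain ⟨H, hH⟩ : ∃ H, H = comap φ (A0 ⊔ D) := ⟨_, rfl⟩
  obtain ⟨Y0, hY0⟩ : ∃ Y0, Y0 = comap φ (P ⊔ D) := ⟨_, rfl⟩
  obtain ⟨R, hR⟩ : ∃ R, R = (S : Subgroup X) ⊓ H := ⟨_, rfl⟩
  have hRS : R ≤ (S : Subgroup X) := hR ▸ inf_le_left
  have hHY : H ≤ Y0 := hH ▸ hY0 ▸ comap_mono (sup_le_sup_right hAP D)
  have hRY : R ≤ Y0 := hR ▸ inf_le_right.trans hHY
  have hkerH : φ.ker ≤ H := hH ▸ fun k hk => show φ k ∈ A0 ⊔ D from (MonoidHom.mem_ker.mp hk).symm ▸ one_mem (A0 ⊔ D)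
  have hTR : Cfsg.pCore p X ≤ R :=
    hR ▸ le_inf (Grp.pCore_le_sylow S) ((hker ▸ L.core_le_cent).trans hkerH)
  have hA0S : A0 ≤ (S : Subgroup X).map φ := E.leS
  have hBR : (S : Subgroup X) ⊓ centralizer (Cfsg.centerThompsonAOf (S : Subgroup X) : Set X) ≤ R := fun b hb => by
    refine hR ▸ ⟨hb.1, hH ▸ ?_⟩
    obtain ⟨a, ha, hac⟩ := hsplit (φ b) (mem_map_of_mem φ hb.1) (hBfix b hb)
    show φ b ∈ A0 ⊔ D
    rw [show φ b = a * (a⁻¹ * φ b) by group]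
    exact mul_mem_sup ha (hD.ge ⟨((S : Subgroup X).map φ).mul_mem (((S : Subgroup X).map φ).inv_mem (hA0S ha)) (mem_map_of_mem φ hb.1), hP ▸ hac⟩)
  have hsyl : Grp.IsSylowIn p R Y0 := by
    refine ⟨hRY, S.isPGroup'.to_le hRS, ?_⟩
    rw [← relIndex_mul_relIndex R H Y0 (hR ▸ inf_le_right) hHY]
    refine fun hd => (hp.out.dvd_mul.mp hd).elim (fun h1 => ?_) fun h2 => ?_
    · haveI : φ.ker.Normal := MonoidHom.normal_ker _
      refine Grp.sylow_inf_normal_relIndex S φ.ker ?_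
      have e1 : R ⊔ φ.ker = H := by
        refine le_antisymm (sup_le (hR ▸ inf_le_right) hkerH) fun y hy => ?_
        obtain ⟨s, hs, hsy⟩ := (sup_le hA0S hDS) (hH.le hy)
        have hk : s⁻¹ * y ∈ φ.ker := by rw [MonoidHom.mem_ker, map_mul, map_inv, hsy, inv_mul_cancel]
        have hsR : s ∈ R := hR.ge ⟨hs, by
          have h3 := mul_mem hy (inv_mem (hkerH hk))
          simpa using h3⟩
        simpa using mul_mem_sup hsR hk
      have e2 : R ⊓ φ.ker = (S : Subgroup X) ⊓ φ.ker :=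
        le_antisymm (inf_le_inf_right _ hRS) fun y hy => ⟨hR.ge ⟨hy.1, hkerH hy.2⟩, hy.2⟩
      have h3 := Grp.card_sup_mul_card_inf_normal (H := R) (N := φ.ker)
      rw [e1, e2, ← Grp.card_mul_relIndex (hR ▸ inf_le_right : R ≤ H),
        ← Grp.card_mul_relIndex (inf_le_right : (S : Subgroup X) ⊓ φ.ker ≤ φ.ker), inf_relIndex_right] at h3
      have h4 : R.relIndex H = (S : Subgroup X).relIndex φ.ker := by
        refine Nat.eq_of_mul_eq_mul_left (Nat.mul_pos (Nat.card_pos (α := ↥R))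
          (Nat.card_pos (α := ↥((S : Subgroup X) ⊓ φ.ker)))) ?_
        calc _ = Nat.card R * R.relIndex H * Nat.card ↥((S : Subgroup X) ⊓ φ.ker) := by ring
          _ = _ := h3
          _ = _ := by ring
      rwa [h4] at h1
    · refine hidx ?_
      rw [hH, relIndex_comap, hY0,
        map_comap_eq_self (sup_le hPΓ (hDS.trans (map_le_range _ _)))] at h2
      have h3 := Grp.card_mul_relIndex (sup_le_sup_right hAP D)
      rw [hA0D hAP, hA0D le_rfl, ← Grp.card_mul_relIndex hAP] at h3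
      have h4 : (A0 ⊔ D).relIndex (P ⊔ D) = A0.relIndex P := by
        refine Nat.eq_of_mul_eq_mul_left (Nat.mul_pos (Nat.card_pos (α := ↥A0)) (Nat.card_pos (α := ↥D))) ?_
        rw [h3]; ring
      rwa [h4, hP] at h2
  have hY0M : ¬ Y0 ≤ M := fun hle => Q.xM (by
    obtain ⟨y, hy⟩ := hPΓ (hP.ge Q.xP)
    rw [← hy]
    exact mem_map_of_mem φ (hle (hY0.ge (show φ y ∈ P ⊔ D from hy ▸ mem_sup_left (hP.ge Q.xP)))))
  obtain ⟨Y, ⟨hRY', hYY0, hYM⟩, hmin⟩ := Set.exists_min_image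
    {Y : Subgroup X | R ≤ Y ∧ Y ≤ Y0 ∧ ¬ Y ≤ M} (fun Y => Nat.card Y) (Set.toFinite _) ⟨Y0, hRY, le_rfl, hY0M⟩
  -- the projection to the pair
  have hdec : ∀ y : ↥Y, ∃ l : ↥P, ∃ d ∈ D, (l : Amb (PushUp.Vz S)) * d = φ y := fun y => by
    obtain ⟨l, hl, d, hd, e⟩ := exists_mul_of_comm hcomm (hY0.le (hYY0 y.2) : φ y ∈ P ⊔ D)
    exact ⟨⟨l, hl⟩, d, hd, e.symm ▸ rfl⟩
  choose pr prd hprd hpr using hdec
  have hmul : ∀ y z : ↥Y, pr (y * z) = pr y * pr z := fun y z => by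
    refine Subtype.ext (huni (pr (y * z)).2 ((pr y * pr z).2) (hprd (y * z))
      (D.mul_mem (hprd y) (hprd z)) ?_)
    rw [hpr, coe_mul, map_mul, ← hpr y, ← hpr z, coe_mul]
    calc _ = (pr y : Amb (PushUp.Vz S)) * (prd y * (pr z : Amb (PushUp.Vz S))) * prd z := by group
      _ = (pr y : Amb (PushUp.Vz S)) * ((pr z : Amb (PushUp.Vz S)) * prd y) * prd z := by rw [hcomm _ (pr z).2 _ (hprd y)]
      _ = _ := by group
  obtain ⟨π0, hπ0⟩ : ∃ π0 : ↥Y →* ↥P, ∀ y, π0 y = pr y := ⟨MonoidHom.mk' pr hmul, fun y => rfl⟩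
  have hπval : ∀ (y : ↥Y) (l : Amb (PushUp.Vz S)), l ∈ P → ∀ d ∈ D, φ y = l * d → (π0 y : Amb (PushUp.Vz S)) = l :=
    fun y l hl d hd e => by rw [hπ0]; exact huni (pr y).2 hl (hprd y) hd ((hpr y).trans e)
  have hsurj : π0.range = ⊤ := by
    obtain ⟨y1, hy1, hy1M⟩ := SetLike.not_le_iff_exists.mp hYM
    obtain ⟨y1', hy1'⟩ : ∃ y1' : ↥Y, y1' = ⟨y1, hy1⟩ := ⟨_, rfl⟩
    obtain ⟨l, hl⟩ : ∃ l : Amb (PushUp.Vz S), l = (π0 y1' : Amb (PushUp.Vz S)) := ⟨_, rfl⟩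
    have hlM : l ∉ M.map φ := fun hlM => hy1M (by
      have h1 : φ y1 ∈ M.map φ := by
        have h2 := hpr y1'
        rw [← hπ0, ← hl] at h2
        rw [show y1 = (y1' : X) by rw [hy1'], ← h2]
        exact mul_mem hlM ((hDS.trans (map_mono L.SM)) (hprd y1'))
      obtain ⟨m, hm, hme⟩ := h1
      have hk : m⁻¹ * y1 ∈ M := (le_sup_left.trans hCM) (hker ▸ (by
        rw [MonoidHom.mem_ker, map_mul, map_inv, hme, inv_mul_cancel] : m⁻¹ * y1 ∈ φ.ker))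
      simpa using M.mul_mem hm hk)
    obtain ⟨I, hI⟩ : ∃ I, I = π0.range.map P.subtype := ⟨_, rfl⟩
    have hA0I : A0 ≤ I := fun a ha => by
      obtain ⟨s, hs, rfl⟩ := hA0S ha
      have hsR : s ∈ R := hR.ge ⟨hs, hH.ge (show φ s ∈ A0 ⊔ D from mem_sup_left ha)⟩
      exact hI.ge ⟨π0 ⟨s, hRY' hsR⟩, ⟨_, rfl⟩,
        hπval ⟨s, hRY' hsR⟩ _ (hAP ha) 1 (one_mem _) (mul_one _).symm⟩
    have hlI : l ∈ I := hI.ge ⟨π0 y1', ⟨_, rfl⟩, hl.symm⟩
    have hlP : l ∈ P := hl ▸ (π0 y1').2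
    have hgen := Q.conf.gen l (hP ▸ hlP) fun h => hlM h.1
    have hPI : P ≤ I := by
      rw [hP, ← hgen]
      refine sup_le hA0I ((cj_mono l hA0I).trans (RootPair.cj_le.mpr fun i hi => ?_))
      exact mul_mem (mul_mem hlI hi) (inv_mem hlI)
    refine eq_top_iff.mpr fun q _ => ?_
    obtain ⟨q', hq', e⟩ := hI.le (hPI q.2)
    exact Subtype.ext e ▸ hq'
  obtain ⟨n, hn⟩ := IsPGroup.iff_card.mp E.mem.pg
  refine ⟨Y, R, F, iF, fF, ⟨⟨n, by rw [hF, hn]⟩, le_inf hRS hRY', ⟨hRY', hsyl.2.1, fun hd => hsyl.2.2 (hd.trans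
    ⟨_, (relIndex_mul_relIndex R Y Y0 hRY' hYY0).symm⟩)⟩, hTR, hBR, hYM, fun K hRK hKY hne => ?_, ?_, ?_, ?_⟩⟩
  · by_contra hKM
    exact hne (eq_of_le_of_card_ge hKY (hmin K ⟨hRK, hKY.trans hYY0, hKM⟩))
  · subst hP
    refine ⟨(QuotientGroup.mk' _).comp (ρ.comp π0), ?_⟩
    exact (QuotientGroup.mk'_surjective _).comp (hρ.2.comp (MonoidHom.range_eq_top.mp hsurj))
  · intro hnorm
    obtain ⟨v, hv, hvG⟩ := C.exists_vec
    obtain ⟨w, hw⟩ : v ∈ (SemidirectProduct.inl : ↥(PushUp.Vz S) →* Amb (PushUp.Vz S)).range := hv.1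
    subst hw
    have hwS : (w : X) ∈ centralizer ((S : Subgroup X) : Set X) := (fix_iff _).mp (hφ ▸ hv.2)
    have hwR : (w : X) ∈ R ⊓ centralizer (R : Set X) :=
      ⟨hTR (L.Vz_le w.2).1, centralizer_le (SetLike.coe_subset_coe.mpr hRS) hwS⟩
    have hxP' : x⁻¹ ∈ P := inv_mem (hP.ge Q.xP)
    obtain ⟨y, hy⟩ := MonoidHom.range_eq_top.mp hsurj ⟨x⁻¹, hxP'⟩
    have hyd : φ y = x⁻¹ * prd y := by rw [← hpr y, ← hπ0, hy]
    obtain ⟨z, hz⟩ : ∃ z : ↥(PushUp.Vz S), z = MulAut.conjNormal (y : X) w := ⟨_, rfl⟩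
    have hzR : (z : X) ∈ centralizer (R : Set X) := by
      rw [hz, MulAut.conjNormal_apply]
      exact (hnorm y y.2 w hwR).2
    have hdv : prd y * SemidirectProduct.inl w * (prd y)⁻¹ = SemidirectProduct.inl w :=
      (RootPair.mem_fix.mp hv).2 _ (hDS (hprd y))
    have hzv : SemidirectProduct.inl z = x⁻¹ * SemidirectProduct.inl w * x := by
      have h1 : φ y * SemidirectProduct.inl w * (φ y)⁻¹ = SemidirectProduct.inl z := by
        rw [hφ, act_inl, hz]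
      rw [← h1, hyd]
      calc _ = x⁻¹ * (prd y * SemidirectProduct.inl w * (prd y)⁻¹) * x := by group
        _ = _ := by rw [hdv]
    have hfixP : P ≤ centralizer ({SemidirectProduct.inl w} : Set (Amb (PushUp.Vz S))) := by
      rw [hP]
      refine sup_le (fun a ha => mem_centralizer_singleton_iff.mpr ?_) (RootPair.cj_le.mpr fun a ha =>
        mem_centralizer_singleton_iff.mpr ?_)
      · exact mul_inv_eq_iff_eq_mul.mp ((RootPair.mem_fix.mp hv).2 a (hA0S ha))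
      · obtain ⟨s, hs, rfl⟩ := hA0S ha
        have hsR : s ∈ R := hR.ge ⟨hs, hH.ge (show φ s ∈ A0 ⊔ D from mem_sup_left ha)⟩
        have h2 : φ s * SemidirectProduct.inl z * (φ s)⁻¹ = SemidirectProduct.inl z := by
          rw [hφ]
          exact (act_eq_iff _ s z).mpr (mem_centralizer_iff.mp hzR s hsR)
        rw [hzv] at h2
        refine mul_inv_eq_iff_eq_mul.mp ?_
        calc x * φ s * x⁻¹ * SemidirectProduct.inl w * (x * φ s * x⁻¹)⁻¹
            = x * (φ s * (x⁻¹ * SemidirectProduct.inl w * x) * (φ s)⁻¹) * x⁻¹ := by group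
          _ = _ := by rw [h2]; group
    exact Q.xM (C.mem_of_fix hv hvG (Q.xΓ C E)
      (mul_inv_eq_iff_eq_mul.mpr (mem_centralizer_singleton_iff.mp (hfixP (hP.ge Q.xP)))))
  · intro N hNM hNY hBN
    obtain ⟨y, hy⟩ := MonoidHom.range_eq_top.mp hsurj ⟨x, hP.ge Q.xP⟩
    have hyd : φ y = x * prd y := by rw [← hpr y, ← hπ0, hy]
    have hle : P ≤ M.map φ := by
      rw [hP]
      refine sup_le (hA0B.trans (map_mono (hBN.trans hNM))) (RootPair.cj_le.mpr fun a ha => ?_)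
      obtain ⟨b, hb, rfl⟩ := hA0B ha
      refine ⟨y * b * (y : X)⁻¹, hNM (hNY y y.2 b (hBN hb)), ?_⟩
      rw [map_mul, map_mul, map_inv, hyd]
      have h1 := hcomm _ (hAP ha) _ (hprd y)
      calc x * prd y * φ b * (x * prd y)⁻¹ = x * (prd y * φ b) * (prd y)⁻¹ * x⁻¹ := by group
        _ = _ := by rw [← h1]; group
    exact Q.xM (hle (hP.ge Q.xP))

end Cfsg.Agent.Fus.CharTransfer
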