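import Cfsg.Agent.Lib.Fus.CharTransferRankOne
import Cfsg.Agent.Lib.Fus.CharTransferNatural

/-!
# Characteristic subgroups control transfer for odd primes
-/

set_option autoImplicit false
set_option linter.unusedSectionVars false
set_option linter.style.haveILetI false

open scoped Classical commutatorElement

namespace Cfsg.Agent.Fus.CharTransfer

open Subgroup Cfsg.Agent.Invol

universe u

variable {X : Type u} [Group X] [Finite X] {p : ℕ} [hp : Fact p.Prime]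

theorem Local.of_minimal
    (hsub : ∀ H : Subgroup X, H ≠ ⊤ → TransferCtrl p (allFun.{u} p) H)
    (hquot : ∀ (R : Subgroup X) [R.Normal], R ≠ ⊥ → TransferCtrl p (allFun.{u} p) (X ⧸ R))
    (hG : ¬ TransferCtrl p (allFun.{u} p) X) (S : Sylow p X) :
    Local S (normalizer ((Foc (ind (allFun.{u} p) X) (S : Subgroup X) ⊓ Cfsg.pCore p X : Subgroup X) : Set X)) ∧
      PushUp.NoChar S := by
  obtain ⟨-, hC, hM, hover⟩ := transfer_minimal (fun W hW => mem_allFun hW) allFun_nonempty hsub hquot hG S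
  have hne : (S : Subgroup X) ≠ ⊥ := fun h => hG (transferCtrl_of_one (fun W hW => mem_allFun hW) S (by
    rw [h, bot_inf_eq]; exact bot_le))
  have hd : PushUp.NoChar S := fun T hT hTc hn => hG (by
    have hW := charW_mem (p := p) hTc hT
    refine transferCtrl_mono hW (transferCtrl_of_normal S hW ?_)
    rw [induced_charW hTc]
    exact hn)
  have hStop : (S : Subgroup X) ≠ ⊤ := fun h => by
    haveI : Nontrivial ↥(S : Subgroup X) := (nontrivial_iff_ne_bot _).mpr hne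
    refine hd ⊤ top_ne_bot inferInstance ?_
    rw [← MonoidHom.range_eq_map, Subgroup.range_subtype, h]
    infer_instance
  exact ⟨⟨hC, (hover _ le_rfl hStop).1, hM, fun H hSH hH => (hover H hSH hH).1, Zs_not_normal_of_noChar hd hne,
    thompson_not_normal_of_noChar hd hne, hne⟩, hd⟩

/-- Without normal characteristic subgroups no functor is normal at `C_S(Z(J(S)))`. -/
theorem nochar_fun {𝓦 : Set (∀ (Q : Type u) [Group Q], Subgroup Q)} {S : Sylow p X} (hd : PushUp.NoChar S)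
    (hne : (S : Subgroup X) ≠ ⊥) (h𝓦 : ∀ W ∈ 𝓦, Cfsg.IsCharPFunctor.{u} p W)
    {W : ∀ (Q : Type u) [Group Q], Subgroup Q} (hW : W ∈ 𝓦) :
    ¬ (Cfsg.inducedFunctor W
      ((S : Subgroup X) ⊓ centralizer (Cfsg.centerThompsonAOf (S : Subgroup X) : Set X))).Normal := by
  obtain ⟨B0, hB0c, hB0⟩ := tilde_char (S : Subgroup X)
  have hB0p : IsPGroup p B0 := S.isPGroup'.to_subgroup B0
  haveI : Nontrivial ↥(S : Subgroup X) := (nontrivial_iff_ne_bot _).mpr hne
  have hB0ne : B0 ≠ ⊥ := fun h => by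
    refine center_ne_bot S.isPGroup' inferInstance (eq_bot_iff.mpr fun z hz => ?_)
    have h1 : (z : X) ∈ (S : Subgroup X) ⊓ centralizer (Cfsg.centerThompsonAOf (S : Subgroup X) : Set X) :=
      ⟨z.2, mem_centralizer_iff.mpr fun c hc => congrArg Subtype.val
        (Subgroup.mem_center_iff.mp hz ⟨c, RealFree.centerThompsonA_le _ hc⟩)⟩
    rw [← hB0, h, Subgroup.map_bot, mem_bot] at h1
    exact mem_bot.mpr (Subtype.ext h1)
  have hK : (Cfsg.inducedFunctor W B0).Characteristic := Subgroup.characteristic_iff_map_eq.mpr fun φ => by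
    rw [← inducedFunctor_map (h𝓦 W hW) hB0p φ.toMonoidHom
      (fun y _ hy => φ.injective (hy.trans (map_one φ).symm)),
      Subgroup.characteristic_iff_map_eq.mp hB0c φ]
  intro hn
  refine hd _ (inducedFunctor_ne_bot (h𝓦 W hW) hB0p hB0ne) hK ?_
  rw [← inducedFunctor_map (h𝓦 W hW) hB0p (S : Subgroup X).subtype
    (fun y _ hy => (S : Subgroup X).subtype_injective (hy.trans (map_one _).symm)), hB0]
  exact hn

/-- The closure of `C_S(Z(J(S)))` in a rank one overgroup cannot be a proper subgroup. -/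
theorem Local.closure_false {𝓦 : Set (∀ (Q : Type u) [Group Q], Subgroup Q)}
    (h𝓦 : ∀ W ∈ 𝓦, Cfsg.IsCharPFunctor.{u} p W)
    (hsub : ∀ H : Subgroup X, H ≠ ⊤ → TransferCtrl p 𝓦 H) {S : Sylow p X}
    (L : Local S (normalizer ((Foc (ind 𝓦 X) (S : Subgroup X) ⊓ Cfsg.pCore p X : Subgroup X) : Set X)))
    (hfun : ∀ W ∈ 𝓦, ¬ (Cfsg.inducedFunctor W
      ((S : Subgroup X) ⊓ centralizer (Cfsg.centerThompsonAOf (S : Subgroup X) : Set X))).Normal)
    {Y R : Subgroup X} {F : Type} [Field F] [Fintype F]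
    (hY : RankOne S (normalizer ((Foc (ind 𝓦 X) (S : Subgroup X) ⊓ Cfsg.pCore p X : Subgroup X) : Set X)) Y R F)
    (hproper : Y ≠ ⊤ ∨ (S : Subgroup X) ⊓ centralizer (Cfsg.centerThompsonAOf (S : Subgroup X) : Set X) ≠
      (S : Subgroup X)) : False := by
  obtain ⟨T, hT⟩ : ∃ T, T = Cfsg.pCore p X := ⟨_, rfl⟩
  obtain ⟨M, hM⟩ : ∃ M, M = normalizer ((Foc (ind 𝓦 X) (S : Subgroup X) ⊓ Cfsg.pCore p X : Subgroup X) : Set X) := ⟨_, rfl⟩
  rw [← hM] at L hY
  haveI hTn : T.Normal := hT ▸ Grp.pCore_isNormal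
  have hTS : T ≤ (S : Subgroup X) := hT ▸ Grp.pCore_le_sylow S
  have hcoreT : centralizer (T : Set X) ≤ T := hT ▸ L.core
  obtain ⟨n, hn⟩ := hY.hF
  haveI := Nat2.charP_of_card (F := F) hn
  obtain ⟨π, hπ⟩ := hY.quot
  -- the closure of `C_S(Z(J(S)))` in `Y`
  have hRS : R ≤ (S : Subgroup X) := hY.leR.trans inf_le_left
  have hRY : R ≤ Y := hY.leR.trans inf_le_right
  have hTR : T ≤ R := hT ▸ hY.core_le
  obtain ⟨B, hB⟩ : ∃ B, B = (S : Subgroup X) ⊓ centralizer (Cfsg.centerThompsonAOf (S : Subgroup X) : Set X) := ⟨_, rfl⟩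
  have hBR : B ≤ R := hB ▸ hY.tilde_le
  have hBS : B ≤ (S : Subgroup X) := hB ▸ inf_le_left
  have hAB : ∀ A, Fus.IsMaxAb (S : Subgroup X) A → A ≤ B := fun A hA a ha =>
    hB.ge ⟨hA.1 ha, mem_centralizer_iff.mpr fun z hz => (mem_centralizer_iff.mp hz.2 a (hA.le_thompsonA ha)).symm⟩
  have hJR : Cfsg.thompsonSubgroupAOf R = Cfsg.thompsonSubgroupAOf (S : Subgroup X) := by
    obtain ⟨A1, hA1⟩ := RealFree.exists_isMaxAb (S : Subgroup X)
    refine le_antisymm (Fus.thompsonA_le_of fun A hA => ?_) (Fus.thompsonA_le_of fun A hA => ?_)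
    · exact Fus.IsMaxAb.le_thompsonA ⟨hA.1.trans hRS, hA.2.1, fun B' h1 h2 =>
        (hA1.2.2 B' h1 h2).trans (hA.2.2 A1 ((hAB A1 hA1).trans hBR) hA1.2.1)⟩
    · exact Fus.IsMaxAb.le_thompsonA ⟨(hAB A hA).trans hBR, hA.2.1, fun B' h1 h2 => hA.2.2 B' (h1.trans hRS) h2⟩
  have hZR : Cfsg.centerThompsonAOf R = Cfsg.centerThompsonAOf (S : Subgroup X) := by
    unfold Cfsg.centerThompsonAOf; rw [hJR]
  let S' : Sylow p ↥Y := (hY.syl.2.1.comap_subtype (K := Y)).toSylow hY.syl.2.2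
  have hS' : (S' : Subgroup ↥Y) = R.subgroupOf Y := rfl
  have hmapR : (R.subgroupOf Y).map Y.subtype = R := by rw [subgroupOf_map_subtype, inf_eq_left.mpr hRY]
  haveI hT'n : (T.subgroupOf Y).Normal := ⟨fun t ht y => hTn.conj_mem (t : X) ht (y : X)⟩
  have hT'core : T.subgroupOf Y ≤ Cfsg.pCore p ↥Y :=
    Grp.le_pCore hT'n ((S.isPGroup'.to_le hTS).comap_subtype)
  have hE₁ : centralizer (Cfsg.pCore p ↥Y : Set ↥Y) ≤ Cfsg.pCore p ↥Y := fun c hc => by
    refine hT'core (mem_subgroupOf.mpr (hcoreT (mem_centralizer_iff.mpr fun t ht => ?_)))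
    exact congrArg Subtype.val (mem_centralizer_iff.mp hc ⟨t, hRY (hTR ht)⟩ (hT'core (mem_subgroupOf.mpr ht)))
  have hE₂ : ∃! N : Subgroup ↥Y, IsCoatom N ∧ (S' : Subgroup ↥Y) ≤ N := by
    have hne : M.subgroupOf Y ≠ ⊤ := fun h => hY.notM (subgroupOf_eq_top.mp h)
    have hge : ∀ N : Subgroup ↥Y, R.subgroupOf Y ≤ N → N ≠ ⊤ → N ≤ M.subgroupOf Y := fun N hRN hN y hy => by
      refine mem_subgroupOf.mpr (hY.ovg (N.map Y.subtype) ?_ (map_subtype_le _) ?_ (mem_map_of_mem _ hy))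
      · rw [← hmapR]; exact map_mono hRN
      · intro he
        refine hN (eq_top_iff.mpr fun z _ => ?_)
        obtain ⟨z', hz', e⟩ := he.ge z.2
        rwa [show z = z' from Subtype.ext e.symm]
    have hRM : R.subgroupOf Y ≤ M.subgroupOf Y := fun y hy => L.SM (hRS hy)
    have hco : IsCoatom (M.subgroupOf Y) := ⟨hne, fun N hN => by
      by_contra h
      exact hN.not_ge (hge N (hRM.trans hN.le) h)⟩
    refine ⟨M.subgroupOf Y, ⟨hco, hRM⟩, fun N hN => ?_⟩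
    by_contra h
    exact hne (hN.1.2 _ (lt_of_le_of_ne (hge N hN.2 hN.1.1) h))
  have hZ : ¬ ((S' : Subgroup ↥Y) ⊓ centralizer ((S' : Subgroup ↥Y) : Set ↥Y)).Normal := fun hn' => by
    refine hY.centre fun y hy z hz => ?_
    have hz' : (⟨z, hRY hz.1⟩ : ↥Y) ∈ (S' : Subgroup ↥Y) ⊓ centralizer ((S' : Subgroup ↥Y) : Set ↥Y) :=
      ⟨hz.1, mem_centralizer_iff.mpr fun r hr => Subtype.ext (mem_centralizer_iff.mp hz.2 r hr)⟩
    have h := hn'.conj_mem _ hz' ⟨y, hy⟩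
    exact ⟨h.1, mem_centralizer_iff.mpr fun r hr =>
      congrArg Subtype.val (mem_centralizer_iff.mp h.2 ⟨r, hRY hr⟩ hr)⟩
  obtain ⟨P, hP⟩ := PushTilde.sylow_of_closure S' hE₁ hE₂ hn π.ker
    (QuotientGroup.quotientKerEquivOfSurjective π hπ) hZ
  obtain ⟨B', hB'⟩ : ∃ B', B' = (S' : Subgroup ↥Y) ⊓
      centralizer (Cfsg.centerThompsonAOf (S' : Subgroup ↥Y) : Set ↥Y) := ⟨_, rfl⟩
  obtain ⟨N, hN⟩ : ∃ N, N = normalClosure (B' : Set ↥Y) := ⟨_, rfl⟩
  have hB'N : B' ≤ N := hN ▸ le_normalClosure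
  haveI hNn : N.Normal := hN ▸ normalClosure_normal
  have hrel : ¬ p ∣ B'.relIndex N := by
    have h : ¬ p ∣ ((S' : Subgroup ↥Y) ⊓ centralizer (Cfsg.centerThompsonAOf (S' : Subgroup ↥Y) : Set ↥Y)).relIndex
        (normalClosure (((S' : Subgroup ↥Y) ⊓ centralizer (Cfsg.centerThompsonAOf (S' : Subgroup ↥Y) : Set ↥Y) : Subgroup ↥Y) : Set ↥Y)) := by
      rw [relIndex, ← hP]
      exact P.not_dvd_index
    rwa [← hB', ← hN] at h
  have hZ' : (Cfsg.centerThompsonAOf (R.subgroupOf Y)).map Y.subtype = Cfsg.centerThompsonAOf (S : Subgroup X) := by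
    rw [← RealFree.centerThompsonA_map Y.subtype Y.subtype_injective.injOn, hmapR, hZR]
  have hBmap : B'.map Y.subtype = B := by
    ext b
    constructor
    · rintro ⟨c, hc, rfl⟩
      rw [hB'] at hc
      refine hB.ge ⟨hRS hc.1, mem_centralizer_iff.mpr fun z hz => ?_⟩
      rw [SetLike.mem_coe, ← hZ'] at hz
      obtain ⟨z', hz', rfl⟩ := hz
      exact congrArg Subtype.val (mem_centralizer_iff.mp hc.2 z' hz')
    · intro hb
      refine ⟨⟨b, hRY (hBR hb)⟩, hB'.ge ⟨hBR hb, mem_centralizer_iff.mpr fun z hz => Subtype.ext ?_⟩, rfl⟩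
      exact mem_centralizer_iff.mp (hB.le hb).2 _ (hZ' ▸ mem_map_of_mem Y.subtype hz)
  obtain ⟨Y1, hY1⟩ : ∃ Y1, Y1 = N.map Y.subtype := ⟨_, rfl⟩
  have hY1Y : Y1 ≤ Y := hY1 ▸ map_subtype_le _
  have hBY1 : B ≤ Y1 := hY1 ▸ hBmap ▸ map_mono hB'N
  have hY1n : ∀ y ∈ Y, ∀ c ∈ Y1, y * c * y⁻¹ ∈ Y1 := by
    intro y hy c hc
    obtain ⟨c', hc', rfl⟩ := hY1.le hc
    exact hY1.ge ⟨⟨y, hy⟩ * c' * ⟨y, hy⟩⁻¹, hNn.conj_mem c' hc' _, rfl⟩
  have hBsyl : Grp.IsSylowIn p B Y1 := ⟨hBY1, S.isPGroup'.to_le hBS, by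
    rw [← hBmap, hY1, relIndex_map_map_of_injective _ _ Y.subtype_injective]
    exact hrel⟩
  obtain ⟨Fo, hFo⟩ : ∃ Fo, Fo = Foc (ind (𝓦) X) (S : Subgroup X) := ⟨_, rfl⟩
  have hY1top : Y1 ≠ ⊤ := fun h => by
    rcases hproper with hp' | hp'
    · exact hp' (top_le_iff.mp (h ▸ hY1Y))
    · refine hp' (le_antisymm inf_le_left (le_trans (le_of_eq ?_) hB.le))
      exact (hBsyl.eq_of_le hBS (h ▸ le_top) S.isPGroup').symm
  -- transfer in the closure
  have hkey : B ⊓ ⁅Y1, Y1⁆ ≤ Fo := by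
    refine ((hsub Y1 hY1top).le_foc_of_sylowIn h𝓦 hBsyl).trans (hFo ▸ iSup₂_le ?_)
    rintro _ ⟨W, hW, rfl⟩
    have hBp : IsPGroup p B := S.isPGroup'.to_le hBS
    have hSN : (S : Subgroup X) ≤ normalizer (Cfsg.inducedFunctor W B : Set X) := fun s hs =>
      normalizer_le_normalizer_inducedFunctor (h𝓦 W hW) hBp (mem_normalizer_fintype fun b hb => by
        rw [hB] at hb ⊢
        exact PushTilde.tilde_conj_mem (fun a ha => mul_mem (mul_mem hs ha) (inv_mem hs)) hb)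
    exact (inf_le_inf_right _ hBS).trans
      (inf_commutator_le_foc_of_overgroup h𝓦 hsub S hSN fun htop =>
        hfun W hW (hB ▸ normalizer_eq_top_iff.mp htop))
  obtain ⟨T1, hT1⟩ : ∃ T1, T1 = T ⊓ Y1 := ⟨_, rfl⟩
  have hT1B : T1 ≤ B := by
    have hnorm : B ≤ normalizer (T1 : Set X) := fun b hb => mem_normalizer_fintype fun t ht => by
      rw [hT1] at ht ⊢
      exact ⟨hTn.conj_mem t ht.1 b, Y1.mul_mem (Y1.mul_mem (hBY1 hb) ht.2) (Y1.inv_mem (hBY1 hb))⟩
    have hp1 : IsPGroup p ↥(B ⊔ T1) := hBsyl.2.1.to_sup_of_normal_right'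
      (S.isPGroup'.to_le ((hT1 ▸ inf_le_left).trans hTS)) hnorm
    exact le_sup_right.trans (le_of_eq (hBsyl.eq_of_le le_sup_left (sup_le hBY1 (hT1 ▸ inf_le_right)) hp1).symm)
  have hcopM : ∀ h ∈ Y1, (orderOf h).Coprime p → h ∈ M := by
    intro h hh hcop
    obtain ⟨A, hA⟩ : ∃ A, A = zpowers h := ⟨_, rfl⟩
    have hAY : A ≤ Y1 := hA ▸ zpowers_le.mpr hh
    obtain ⟨j, hj⟩ := IsPGroup.iff_card.mp (S.isPGroup'.to_le hTS)
    have hAT : A ≤ normalizer (T : Set X) := by rw [normalizer_eq_top]; exact le_top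
    have hco : (Nat.card A).Coprime (Nat.card T) := by
      rw [hA, Nat.card_zpowers, hj]
      exact hcop.pow_right j
    haveI : Group.IsNilpotent ↥T := (S.isPGroup'.to_le hTS).isNilpotent
    have heq := Grp.commutator_commutator_eq A T hAT hco (Or.inr inferInstance)
    have h1 : ⁅T, A⁆ ≤ T1 := commutator_le.mpr fun t ht a ha => by
      have hm : ⁅t, a⁆ ∈ T ⊓ Y1 := by
        refine mem_inf.mpr ⟨?_, ?_⟩
        · rw [commutatorElement_def, show t * a * t⁻¹ * a⁻¹ = t * (a * t⁻¹ * a⁻¹) by group]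
          exact T.mul_mem ht (hTn.conj_mem _ (T.inv_mem ht) a)
        · rw [commutatorElement_def]
          exact Y1.mul_mem (hY1n t (hRY (hTR ht)) a (hAY ha)) (Y1.inv_mem (hAY ha))
      exact hT1 ▸ hm
    have h2 : ⁅T, A⁆ ≤ Fo ⊓ T := by
      rw [← heq]
      refine le_inf ((le_inf ?_ ?_).trans hkey) ?_
      · exact (commutator_le.mpr fun c hc a ha => h1 (commutator_mem_commutator (hT1.le (h1 hc)).1 ha)).trans hT1B
      · exact commutator_mono ((h1.trans hT1B).trans hBY1) hAY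
      · exact commutator_le.mpr fun c hc a ha => (hT1.le (h1 (commutator_mem_commutator (hT1.le (h1 hc)).1 ha))).1
    rw [hM, ← hFo, ← hT]
    refine mem_normalizer_fintype fun z hz => ?_
    have h3 : ⁅h, z⁆ ∈ Fo ⊓ T := by
      rw [← commutatorElement_inv z h]
      exact inv_mem (h2 (commutator_mem_commutator hz.2 (hA ▸ mem_zpowers h)))
    rw [show h * z * h⁻¹ = ⁅h, z⁆ * z by rw [commutatorElement_def]; group]
    exact mul_mem h3 hz
  have hY1M : Y1 ≤ M := by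
    rw [← subgroupOf_eq_top, ← index_eq_one]
    by_contra hne
    obtain ⟨q, hq, hqd⟩ := Nat.exists_prime_and_dvd hne
    haveI := Fact.mk hq
    rcases eq_or_ne q p with rfl | hqp
    · refine hBsyl.2.2 (hqd.trans ?_)
      exact index_dvd_of_le fun b hb => (L.SM (hBS hb) : (b : X) ∈ M)
    · obtain ⟨Qs⟩ : Nonempty (Sylow q ↥Y1) := inferInstance
      refine Qs.not_dvd_index (hqd.trans (index_dvd_of_le fun z hz => hcopM z z.2 ?_))
      obtain ⟨i, hi⟩ := Qs.isPGroup' ⟨z, hz⟩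
      have hi' : (z : X) ^ q ^ i = 1 := congrArg (fun w : ↥(Qs : Subgroup ↥Y1) => ((w : ↥Y1) : X)) hi
      exact Nat.Coprime.coprime_dvd_left (orderOf_dvd_of_pow_eq_one hi')
        (((Nat.coprime_primes hq hp.out).mpr hqp).pow_left i)
  exact hY.escape Y1 hY1M hY1n (hB ▸ hBY1)


theorem transferCtrl_step (hodd : p ≠ 2)
    (hsub : ∀ H : Subgroup X, H ≠ ⊤ → TransferCtrl p (allFun.{u} p) H)
    (hquot : ∀ (R : Subgroup X) [R.Normal], R ≠ ⊥ → TransferCtrl p (allFun.{u} p) (X ⧸ R))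
    (S : Sylow p X) (hG : ¬ TransferCtrl p (allFun.{u} p) X) : False := by
  have h𝓦 : ∀ W ∈ allFun.{u} p, Cfsg.IsCharPFunctor.{u} p W := fun W hW => mem_allFun hW
  obtain ⟨L, hd⟩ := Local.of_minimal hsub hquot hG S
  obtain ⟨-, -, -, hover⟩ := transfer_minimal h𝓦 allFun_nonempty hsub hquot hG S
  obtain ⟨T, hT⟩ : ∃ T, T = Cfsg.pCore p X := ⟨_, rfl⟩
  obtain ⟨M, hM⟩ : ∃ M, M = normalizer ((Foc (ind (allFun.{u} p) X) (S : Subgroup X) ⊓ Cfsg.pCore p X : Subgroup X) : Set X) := ⟨_, rfl⟩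
  rw [← hM] at L
  haveI hTn : T.Normal := hT ▸ Grp.pCore_isNormal
  have hTS : T ≤ (S : Subgroup X) := hT ▸ Grp.pCore_le_sylow S
  have hcoreT : centralizer (T : Set X) ≤ T := hT ▸ L.core
  obtain ⟨Y, R, F, iF, fF, hY⟩ := L.exists_rankOne hodd
  obtain ⟨n, hn⟩ := hY.hF
  haveI := Nat2.charP_of_card (F := F) hn
  obtain ⟨π, hπ⟩ := hY.quot
  by_cases hYtop : Y = ⊤
  · -- every element of `S` acts quadratically on the chief factors
    obtain ⟨π', hπ'⟩ : ∃ π' : X →* Matrix.ProjectiveSpecialLinearGroup (Fin 2) F, Function.Surjective π' :=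
      ⟨π.comp ((MonoidHom.id X).codRestrict Y fun x => hYtop ▸ mem_top x), fun q => by
        obtain ⟨y, rfl⟩ := hπ q
        exact ⟨(y : X), congrArg π (Subtype.ext rfl)⟩⟩
    obtain ⟨fr, -⟩ := PushUp.exists_frame S L.core L.unique π'.ker hn
      (QuotientGroup.quotientKerEquivOfSurjective π' hπ')
    have hres := PushUp.push_result fr hd
    obtain ⟨s, hs, hsT⟩ : ∃ s ∈ (S : Subgroup X), s ∉ T := SetLike.not_le_iff_exists.mp fun hle => by
      haveI : Nontrivial ↥(S : Subgroup X) := (nontrivial_iff_ne_bot _).mpr L.sne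
      refine hd ⊤ top_ne_bot inferInstance ?_
      rw [← MonoidHom.range_eq_map, Subgroup.range_subtype, le_antisymm hle hTS]
      exact hTn
    obtain ⟨k, hk⟩ := S.isPGroup' ⟨s, hs⟩
    refine not_mem_nilpSet_of_minimal h𝓦 allFun_nonempty hsub hquot hG S hs (hT ▸ hsT) ?_
    exact mem_nilpSet_of_natural hodd (fun U W _ hU hUW hnc => hres.chief U W hU hUW hnc)
      (k := k) (congrArg Subtype.val hk)
  subst hM
  exact L.closure_false h𝓦 hsub (fun W hW => nochar_fun hd L.sne h𝓦 hW) hY (Or.inl hYtop)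

/-- For odd `p` the characteristic subgroups of a Sylow subgroup control transfer. -/
theorem transferCtrl_allFun (hodd : p ≠ 2) (G : Type u) [Group G] [Finite G] :
    TransferCtrl p (allFun.{u} p) G :=
  transferCtrl_induction (fun W hW => mem_allFun hW) allFun_nonempty
    (fun X _ _ _ hsub hquot S _ _ hG => transferCtrl_step hodd hsub hquot S hG) G (IsSectionOf.refl G)

end Cfsg.Agent.Fus.CharTransfer
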