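import Cfsg.Agent.Lib.Invol.ConstrainedCoreClosure
import Cfsg.Agent.Lib.Spor.RankFourQuotSetup
import Cfsg.Agent.Lib.Invol.ZStar
import Cfsg.Prelude.Def_OddOrderLocal

/-!
The centres of the two-cores of the maximal 2-local subgroups, when the cores of the centralizers
of involutions are trivial and the 2-local subgroups are 2-constrained: if all these centres are
cyclic, an involution central in a Sylow 2-subgroup is isolated.
-/

set_option autoImplicit false
set_option linter.unusedSectionVars false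

namespace Cfsg.Agent.Fus.CharTwoCenters

open Cfsg Subgroup

universe u

variable {G : Type u} [Group G] [Finite G]

/-- The cores of all involution centralizers vanish. -/
theorem core_centralizer_eq_bot
    (hFT : ∀ (K : Type u) [Group K] [Finite K], Odd (Nat.card K) → Group.IsSolvable K)
    (S : Sylow 2 G) (A : Subgroup G) (hA : Cfsg.IsSCN (S : Subgroup G) A)
    (hA3 : ¬ Cfsg.PRankLE 2 2 ↥A)
    (hinv : ∀ X : Subgroup G, Odd (Nat.card ↥X) →
      (S : Subgroup G) ≤ Subgroup.normalizer (X : Set G) → X = ⊥)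
    (hcon : ∀ T : Subgroup G, IsPGroup 2 ↥T → T ≠ ⊥ →
      Cfsg.IsPConstrained 2 ↥(Subgroup.normalizer (T : Set G)))
    {t : G} (ht : orderOf t = 2) : Cfsg.centralizerPPrimeCore 2 t = ⊥ := by
  haveI : Fact (Nat.Prime 2) := ⟨Nat.prime_two⟩
  obtain ⟨hAS, hSN, hSC⟩ := hA
  simp only [Cfsg.PRankLE, not_forall, not_le] at hA3
  obtain ⟨E, hEc, hE2, hEcard⟩ := hA3
  have hA3' : ¬ Cfsg.PRankLE 2 2 ↥(A.subgroupOf (S : Subgroup G)) := by
    intro h
    have h1 := h (E.map (subgroupOfEquivOfLe hAS).symm.toMonoidHom) inferInstance (by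
      rintro _ ⟨e, he, rfl⟩
      rw [← map_pow, hE2 e he, map_one])
    rw [card_map_of_injective (subgroupOfEquivOfLe hAS).symm.injective] at h1
    omega
  have hS1 : ¬ Cfsg.PRankLE 2 1 ↥(S : Subgroup G) := by
    intro h
    have h1 := h (E.map (inclusion hAS)) inferInstance (by
      rintro _ ⟨e, he, rfl⟩
      rw [← map_pow, hE2 e he, map_one])
    rw [card_map_of_injective (inclusion_injective hAS)] at h1
    omega
  have hAab : IsMulCommutative ↥(A.subgroupOf (S : Subgroup G)) :=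
    ⟨⟨fun a b => Subtype.ext (Subtype.ext
      ((mem_centralizer_iff.1 ((hSC.ge b.2).2) _ a.2)))⟩⟩
  have hAn : (A.subgroupOf (S : Subgroup G)).Normal :=
    ⟨fun a ha g => (mem_normalizer_iff.1 (hSN g.2) a).1 ha⟩
  obtain ⟨W, hW, hWall⟩ := ConstrainedCores.exists_closure hcon hFT S _ hAn hAab hA3' S
  obtain ⟨hWeq, hWn⟩ := hWall _ le_rfl hS1
  have hW1 : W = ⊥ := hinv W hW ((Subgroup.le_normalizer).trans hWn)
  obtain ⟨P, hP⟩ : ∃ P : Sylow 2 G, zpowers t ≤ P :=
    (IsPGroup.of_card (n := 1) (by rw [Nat.card_zpowers, ht, pow_one]) :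
      IsPGroup 2 ↥(zpowers t)).exists_le_sylow
  obtain ⟨g, hg⟩ := MulAction.exists_smul_eq G P S
  have htS : g * t * g⁻¹ ∈ (S : Subgroup G) := by
    rw [← hg, Sylow.coe_subgroup_smul]
    exact Subgroup.smul_mem_pointwise_smul t (MulAut.conj g) _ (hP (mem_zpowers t))
  have ht1 : g * t * g⁻¹ ≠ 1 := fun e => by
    rw [conj_eq_one_iff] at e
    simp [e] at ht
  have hbot : Cfsg.centralizerPPrimeCore 2 (g * t * g⁻¹) = ⊥ := by
    rw [hW1] at hWeq
    exact (iSup_eq_bot.1 hWeq.symm) ⟨_, htS, ht1⟩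
  rw [eq_bot_iff] at hbot ⊢
  intro y hy
  have hle : (Cfsg.centralizerPPrimeCore 2 t).map (MulAut.conj g).toMonoidHom ≤
      Cfsg.centralizerPPrimeCore 2 (g * t * g⁻¹) := by
    refine Grp.le_centralizerPPrimeCore ?_ ?_ ?_
    · rintro _ ⟨w, hw, rfl⟩
      have := Grp.centralizerPPrimeCore_commute hw
      simp only [MulEquiv.coe_toMonoidHom, MulAut.conj_apply]
      calc g * w * g⁻¹ * (g * t * g⁻¹) = g * (w * t) * g⁻¹ := by group
        _ = g * (t * w) * g⁻¹ := by rw [this]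
        _ = _ := by group
    · rintro c hc _ ⟨w, hw, rfl⟩
      refine ⟨(g⁻¹ * c * g) * w * (g⁻¹ * c * g)⁻¹, Grp.centralizerPPrimeCore_conj ?_ hw, ?_⟩
      · calc g⁻¹ * c * g * t = g⁻¹ * (c * (g * t * g⁻¹)) * g := by group
          _ = g⁻¹ * ((g * t * g⁻¹) * c) * g := by rw [hc]
          _ = _ := by group
      · simp only [MulEquiv.coe_toMonoidHom, MulAut.conj_apply]; group
    · rw [card_map_of_injective (MulAut.conj g).injective]
      exact Grp.centralizerPPrimeCore_coprime t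
  have h2 := mem_bot.1 (hbot (hle (mem_map_of_mem _ hy)))
  simp only [MulEquiv.coe_toMonoidHom, MulAut.conj_apply] at h2
  exact mem_bot.2 (conj_eq_one_iff.1 h2)

/-- A nontrivial 2-group has a central involution. -/
theorem exists_central_involution {T : Subgroup G} (hT : IsPGroup 2 ↥T) (hT1 : T ≠ ⊥) :
    ∃ t ∈ T, orderOf t = 2 ∧ ∀ x ∈ T, Commute t x := by
  haveI : Fact (Nat.Prime 2) := ⟨Nat.prime_two⟩
  haveI : Nontrivial ↥T := T.nontrivial_iff_ne_bot.2 hT1
  have hne : Nat.card ↥(center ↥T) ≠ 1 := fun e =>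
    (not_subsingleton_iff_nontrivial.2 (hT.center_nontrivial)) (Nat.card_eq_one_iff_unique.1 e).1
  obtain ⟨k, hk⟩ := IsPGroup.iff_card.1 (hT.to_subgroup (center ↥T))
  have hdvd : 2 ∣ Nat.card ↥(center ↥T) := by
    rw [hk]; exact dvd_pow_self 2 fun e => hne (by rw [hk, e, pow_zero])
  obtain ⟨z, hz⟩ := exists_prime_orderOf_dvd_card' 2 hdvd
  refine ⟨((z : ↥T) : G), (z : ↥T).2, by rw [orderOf_coe, orderOf_coe, hz], fun x hx => ?_⟩
  exact (congrArg Subtype.val (mem_center_iff.1 z.2 ⟨x, hx⟩)).symm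

variable (hcon : ∀ T : Subgroup G, IsPGroup 2 ↥T → T ≠ ⊥ →
    Cfsg.IsPConstrained 2 ↥(Subgroup.normalizer (T : Set G)))
  (hcore : ∀ t : G, orderOf t = 2 → Cfsg.centralizerPPrimeCore 2 t = ⊥)
include hcon hcore

/-- A 2-local subgroup has trivial odd core. -/
theorem oddCore_normalizer_eq_bot {T : Subgroup G} (hT : IsPGroup 2 ↥T) (hT1 : T ≠ ⊥) :
    Cfsg.oddCore ↥(Subgroup.normalizer (T : Set G)) = ⊥ := by
  haveI : Fact (Nat.Prime 2) := ⟨Nat.prime_two⟩
  obtain ⟨t, htT, ht, htc⟩ := exists_central_involution hT hT1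
  set N := Subgroup.normalizer (T : Set G) with hN
  set X := (Cfsg.oddCore ↥N).map N.subtype with hX
  have hTN : T ≤ N := Subgroup.le_normalizer
  have hXcop : (Nat.card ↥X).Coprime 2 := by
    rw [hX, card_map_of_injective N.subtype_injective]; exact Grp.pPrimeCore_coprime
  have hXT : ∀ x ∈ X, ∀ y ∈ T, Commute x y := by
    rintro _ ⟨x, hx, rfl⟩ y hy
    haveI : (Cfsg.oddCore ↥N).Normal := Grp.pPrimeCore_isNormal
    haveI : (T.subgroupOf N).Normal := ⟨fun a ha c => (mem_normalizer_iff.1 c.2 a).1 ha⟩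
    have hd : Disjoint (Cfsg.oddCore ↥N) (T.subgroupOf N) := by
      refine disjoint_iff.2 (Grp.inf_eq_bot_of_coprime ?_)
      obtain ⟨k, hk⟩ := IsPGroup.iff_card.1 hT
      rw [Nat.card_congr (subgroupOfEquivOfLe hTN).toEquiv, hk]
      exact Grp.pPrimeCore_coprime.pow_right k
    exact congrArg Subtype.val (Subgroup.commute_of_normal_of_disjoint _ _ inferInstance inferInstance
      hd x ⟨y, hTN hy⟩ hx hy).eq
  set Γ := centralizer ({t} : Set G) with hΓ
  have hTΓ : T ≤ Γ := fun y hy => mem_centralizer_singleton_iff.2 (htc y hy).symm.eq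
  have hXΓ : X ≤ Γ := fun x hx => mem_centralizer_singleton_iff.2 (hXT x hx t htT).eq
  have hle : X.subgroupOf Γ ≤ Cfsg.pPrimeCore 2 ↥Γ := by
    refine ConstrainedCores.le_core (ConstrainedCores.constrained_centralizer hcon ht)
      (P := T.subgroupOf Γ) (hT.of_equiv (subgroupOfEquivOfLe hTΓ).symm) ?_ ?_ ?_
    · intro x hx
      exact mem_centralizer_iff.2 fun y hy => Subtype.ext (hXT _ hx _ hy).eq.symm
    · intro c hc
      have hcN : (c : G) ∈ N := by
        refine mem_normalizer_iff.2 fun y => ⟨fun hy => ?_, fun hy => ?_⟩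
        · have := congrArg Subtype.val (mem_centralizer_iff.1 hc ⟨y, hTΓ hy⟩ hy)
          simp only [Subgroup.coe_mul] at this
          rwa [← this, mul_inv_cancel_right]
        · have := congrArg Subtype.val (mem_centralizer_iff.1 hc ⟨_, hTΓ hy⟩ hy)
          simp only [Subgroup.coe_mul, inv_mul_cancel_right] at this
          rwa [← mul_left_cancel this] at hy
      haveI : (Cfsg.oddCore ↥N).Normal := Grp.pPrimeCore_isNormal
      have key : ∀ d : ↥N, ∀ y ∈ X, (d : G) * y * (d : G)⁻¹ ∈ X := by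
        rintro d _ ⟨y, hy, rfl⟩
        exact ⟨_, Subgroup.Normal.conj_mem inferInstance y hy d, rfl⟩
      refine mem_normalizer_iff.2 fun y => ⟨fun hy => key ⟨c, hcN⟩ y hy, fun hy => ?_⟩
      have := key ⟨c, hcN⟩⁻¹ _ hy
      simpa [mul_assoc, mem_subgroupOf] using this
    · rwa [Nat.card_congr (subgroupOfEquivOfLe hXΓ).toEquiv]
  have hX1 : X = ⊥ := eq_bot_iff.2 fun x hx => by
    rw [← hcore t ht]
    exact ⟨⟨x, hXΓ hx⟩, hle hx, rfl⟩
  exact (map_eq_bot_iff_of_injective _ N.subtype_injective).1 hX1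

/-- The two-core of a maximal 2-local subgroup, seen in `G`. -/
theorem exists_core {M : Subgroup G} (hM : Cfsg.IsMaximalTwoLocal M)
    (hcyc : IsCyclic ↥(center ↥(Cfsg.pCore 2 ↥M))) :
    ∃ Q : Subgroup G, Q ≤ M ∧ IsPGroup 2 ↥Q ∧ M ≤ normalizer (Q : Set G) ∧
      (∀ z, orderOf z = 2 → ∀ P : Sylow 2 G, Q ≤ P → (∀ x ∈ P, Commute z x) → z ∈ Q) ∧
      (∀ z w, z ∈ Q → w ∈ Q → orderOf z = 2 → orderOf w = 2 → (∀ x ∈ Q, Commute z x) →
        (∀ x ∈ Q, Commute w x) → z = w) ∧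
      ∃ u ∈ Q, orderOf u = 2 ∧ (∀ x ∈ Q, Commute u x) ∧ ∀ m ∈ M, Commute u m := by
  haveI : Fact (Nat.Prime 2) := ⟨Nat.prime_two⟩
  obtain ⟨⟨T, hT, hT1, hMT⟩, -⟩ := hM
  set O := Cfsg.pCore 2 ↥M with hO
  haveI hOn : O.Normal := Grp.pCore_isNormal
  set Q := O.map M.subtype with hQ
  have hQ2 : IsPGroup 2 ↥Q := Grp.pCore_isPGroup.map _
  have hTM : T ≤ M := hMT ▸ Subgroup.le_normalizer
  have hTQ : T ≤ Q := fun x hx => ⟨⟨x, hTM hx⟩, Grp.le_pCore
    (show (T.subgroupOf M).Normal from ⟨fun a ha c =>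
      (mem_normalizer_iff.1 (hMT ▸ c.2 : (c : G) ∈ normalizer (T : Set G)) a).1 ha⟩)
    (hT.of_equiv (subgroupOfEquivOfLe hTM).symm) hx, rfl⟩
  have hMQ : M ≤ normalizer (Q : Set G) := fun m hm => mem_normalizer_iff.2 fun y => by
    constructor
    · rintro ⟨y, hy, rfl⟩
      exact ⟨_, hOn.conj_mem y hy ⟨m, hm⟩, rfl⟩
    · rintro ⟨y', hy, he⟩
      refine ⟨_, hOn.conj_mem y' hy ⟨m, hm⟩⁻¹, ?_⟩
      simp only [Subgroup.coe_subtype] at he
      simp [he, mul_assoc]
  have hC : centralizer (O : Set ↥M) ≤ O := by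
    subst hMT
    exact Spor.RankFourQuot.centralizer_core_le (hcon T hT hT1)
      (oddCore_normalizer_eq_bot hcon hcore hT hT1)
  have hcentral : ∀ x, x ∈ Q → (∀ y ∈ Q, Commute x y) →
      ∃ h : x ∈ M, ∃ h' : (⟨x, h⟩ : M) ∈ O, (⟨⟨x, h⟩, h'⟩ : O) ∈ center ↥O := by
    rintro _ ⟨x, hx, rfl⟩ hc
    refine ⟨x.2, hx, mem_center_iff.2 fun y => Subtype.ext (Subtype.ext ?_)⟩
    exact (hc _ ⟨y, y.2, rfl⟩).eq.symm
  have huniq : ∀ z w, z ∈ Q → w ∈ Q → orderOf z = 2 → orderOf w = 2 → (∀ x ∈ Q, Commute z x) →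
      (∀ x ∈ Q, Commute w x) → z = w := by
    intro z w hz hw hz2 hw2 hzc hwc
    obtain ⟨h1, h1', hz'⟩ := hcentral z hz hzc
    obtain ⟨h2, h2', hw'⟩ := hcentral w hw hwc
    have e : (⟨_, hz'⟩ : center ↥O) = ⟨_, hw'⟩ := by
      haveI := hcyc
      have hinj : ∀ a : center ↥O, orderOf a = 2 ↔ orderOf (((a : ↥O) : ↥M) : G) = 2 := fun a => by
        rw [orderOf_coe, orderOf_coe, orderOf_coe]
      haveI := Fintype.ofFinite (center ↥O)
      have hcard := IsCyclic.card_orderOf_eq_totient (α := center ↥O) (d := 2)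
      have hd : 2 ∣ Fintype.card (center ↥O) := by
        rw [← (hinj ⟨_, hz'⟩).2 hz2]; exact orderOf_dvd_card
      rw [Nat.totient_prime Nat.prime_two] at hcard
      exact Finset.card_le_one.1 (le_of_eq (hcard hd)) _ (by simpa [hinj] using hz2) _
        (by simpa [hinj] using hw2)
    exact congrArg (fun a : center ↥O => (((a : ↥O) : ↥M) : G)) e
  refine ⟨Q, map_subtype_le _, hQ2, hMQ, fun z hz P hQP hzP => ?_, huniq, ?_⟩
  · have hzM : z ∈ M := by
      rw [hMT]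
      refine mem_normalizer_iff.2 fun y => ⟨fun hy => ?_, fun hy => ?_⟩
      · rwa [(hzP y (hQP (hTQ hy))).eq, mul_inv_cancel_right]
      · have h1 := (hzP _ (hQP (hTQ hy))).eq
        rw [inv_mul_cancel_right] at h1
        rwa [mul_left_cancel h1] at hy
    exact ⟨⟨z, hzM⟩, hC (mem_centralizer_iff.2 fun y hy =>
      Subtype.ext (hzP _ (hQP ⟨y, hy, rfl⟩)).eq.symm), rfl⟩
  · have hQ1 : Q ≠ ⊥ := fun e => hT1 (le_bot_iff.1 (e ▸ hTQ))
    obtain ⟨u, huQ, hu2, huc⟩ := exists_central_involution hQ2 hQ1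
    refine ⟨u, huQ, hu2, huc, fun m hm => ?_⟩
    have hn := mem_normalizer_iff.1 (hMQ hm)
    have e := huniq (m * u * m⁻¹) u ((hn u).1 huQ) huQ (by
      rw [← hu2]; exact MulEquiv.orderOf_eq (MulAut.conj m) u) hu2 (fun x hx => by
        obtain ⟨y, hy, rfl⟩ : ∃ y ∈ Q, m * y * m⁻¹ = x :=
          ⟨m⁻¹ * x * m, (hn _).2 (by simpa [mul_assoc] using hx), by group⟩
        exact (huc y hy).map (MulAut.conj m)) huc
    exact (mul_inv_eq_iff_eq_mul.1 e).symm

/-- If all centres of two-cores of maximal 2-local subgroups are cyclic, an involution central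
in a Sylow 2-subgroup commutes with no other of its conjugates. -/
theorem eq_of_commute (hcyc : ∀ M : Subgroup G, Cfsg.IsMaximalTwoLocal M →
      IsCyclic ↥(center ↥(Cfsg.pCore 2 ↥M)))
    {z w : G} (hz : orderOf z = 2 ∧ ∃ P : Sylow 2 G, z ∈ P ∧ ∀ x ∈ P, Commute z x)
    (hw : orderOf w = 2 ∧ ∃ P : Sylow 2 G, w ∈ P ∧ ∀ x ∈ P, Commute w x) (hzw : Commute z w) :
    z = w := by
  haveI : Fact (Nat.Prime 2) := ⟨Nat.prime_two⟩
  let K : G → Prop := fun z => orderOf z = 2 ∧ ∃ P : Sylow 2 G, z ∈ P ∧ ∀ x ∈ P, Commute z x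
  have hmax : ∀ R : Subgroup G, IsPGroup 2 ↥R → R ≠ ⊥ →
      ∃ M : Subgroup G, Cfsg.IsMaximalTwoLocal M ∧ normalizer (R : Set G) ≤ M := fun R hR hR1 => by
    obtain ⟨M, ⟨hM1, hM2⟩, hM3⟩ := Set.Finite.exists_maximalFor id
      {N : Subgroup G | Cfsg.IsTwoLocal N ∧ normalizer (R : Set G) ≤ N} (Set.toFinite _)
      ⟨_, ⟨R, hR, hR1, rfl⟩, le_rfl⟩
    exact ⟨M, ⟨hM1, fun N hN hle => le_antisymm (hM3 ⟨hN, hM2.trans hle⟩ hle) hle⟩, hM2⟩
  have F1 : ∀ R : Subgroup G, IsPGroup 2 ↥R → R ≠ ⊥ →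
      ∃ u, K u ∧ ∀ m ∈ normalizer (R : Set G), Commute u m := fun R hR hR1 => by
    obtain ⟨M, hM, hNM⟩ := hmax R hR hR1
    obtain ⟨Q, -, hQ2, -, hz', huniq, u, huQ, hu2, huc, huM⟩ := exists_core hcon hcore hM (hcyc M hM)
    obtain ⟨P, hQP⟩ := hQ2.exists_le_sylow
    have hP1 : (P : Subgroup G) ≠ ⊥ := fun e => by
      have := mem_bot.1 (e ▸ hQP huQ)
      simp [this] at hu2
    obtain ⟨v, hvP, hv2, hvc⟩ := exists_central_involution P.isPGroup' hP1
    have huv := huniq u v huQ (hz' v hv2 P hQP hvc) hu2 hv2 huc fun x hx => hvc x (hQP hx)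
    exact ⟨u, ⟨hu2, P, huv ▸ hvP, huv ▸ hvc⟩, fun m hm => huM m (hNM hm)⟩
  have F2 : ∀ (P : Sylow 2 G) (a b : G), orderOf a = 2 → orderOf b = 2 → (∀ x ∈ P, Commute a x) →
      (∀ x ∈ P, Commute b x) → a ∈ P → b = a := fun P a b ha hb hac hbc haP => by
    have hP1 : (P : Subgroup G) ≠ ⊥ := fun e => by
      have h' : a ∈ (P : Subgroup G) := haP
      rw [e, mem_bot] at h'
      simp [h'] at ha
    obtain ⟨M, hM, hNM⟩ := hmax _ P.isPGroup' hP1
    obtain ⟨Q, -, hQ2, hMQ, hz', huniq, -⟩ := exists_core hcon hcore hM (hcyc M hM)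
    have hQP : Q ≤ P := by
      have h := P.3 (P.isPGroup'.to_sup_of_normal_right' hQ2
        ((Subgroup.le_normalizer.trans hNM).trans hMQ)) le_sup_left
      exact h ▸ le_sup_right
    exact huniq b a (hz' b hb P hQP hbc) (hz' a ha P hQP hac) hb ha (fun x hx => hbc x (hQP hx))
      fun x hx => hac x (hQP hx)
  by_contra hne
  obtain ⟨⟨⟨a, b⟩, R⟩, ⟨ha, hb, hab, hR, haR, hbR, hRa, hRb⟩, hRmax⟩ :=
    Set.Finite.exists_maximalFor (fun p : (G × G) × Subgroup G => Nat.card ↥p.2)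
      {p | K p.1.1 ∧ K p.1.2 ∧ p.1.1 ≠ p.1.2 ∧ IsPGroup 2 ↥p.2 ∧ p.1.1 ∈ p.2 ∧ p.1.2 ∈ p.2 ∧
        (∀ x ∈ p.2, Commute p.1.1 x) ∧ ∀ x ∈ p.2, Commute p.1.2 x} (Set.toFinite _) (by
      refine ⟨((z, w), zpowers z ⊔ zpowers w), hz, hw, hne, ?_, mem_sup_left (mem_zpowers z),
        mem_sup_right (mem_zpowers w), ?_, ?_⟩
      · refine IsPGroup.to_sup_of_normal_right' (IsPGroup.of_card (n := 1) ?_)
          (IsPGroup.of_card (n := 1) ?_) ?_
        · rw [Nat.card_zpowers, hz.1, pow_one]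
        · rw [Nat.card_zpowers, hw.1, pow_one]
        · refine zpowers_le.2 (mem_normalizer_iff.2 fun y => ⟨fun hy => ?_, fun hy => ?_⟩)
          · obtain ⟨i, rfl⟩ := mem_zpowers_iff.1 hy
            rwa [(hzw.zpow_right i).eq, mul_inv_cancel_right]
          · obtain ⟨i, hi⟩ := mem_zpowers_iff.1 hy
            have h1 := (hzw.zpow_right i).eq
            rw [hi, inv_mul_cancel_right] at h1
            rwa [mul_left_cancel h1] at hy
      · intro x hx
        exact (mem_centralizer_singleton_iff.1 ((sup_le (zpowers_le.2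
          (mem_centralizer_singleton_iff.2 rfl)) (zpowers_le.2
          (mem_centralizer_singleton_iff.2 hzw.symm.eq))) hx)).symm
      · intro x hx
        exact (mem_centralizer_singleton_iff.1 ((sup_le (zpowers_le.2
          (mem_centralizer_singleton_iff.2 hzw.eq)) (zpowers_le.2
          (mem_centralizer_singleton_iff.2 rfl))) hx)).symm)
  dsimp only at ha hb hab hR haR hbR hRa hRb
  have hR1 : R ≠ ⊥ := fun e => by
    have := mem_bot.1 (e ▸ haR)
    have h2 := ha.1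
    simp [this] at h2
  obtain ⟨u, huK, huN⟩ := F1 R hR hR1
  have key : ∀ a b, K a → K b → a ≠ b → a ∈ R → b ∈ R → (∀ x ∈ R, Commute a x) →
      (∀ x ∈ R, Commute b x) → u = a := by
    intro a b ha hb hab haR hbR hRa hRb
    obtain ⟨ha2, P₀, haP₀, hP₀⟩ := ha
    set Γ := centralizer ({a} : Set G) with hΓ
    have hRΓ : R ≤ Γ := fun x hx => mem_centralizer_singleton_iff.2 (hRa x hx).symm.eq
    have hPΓ : (P₀ : Subgroup G) ≤ Γ := fun x hx =>
      mem_centralizer_singleton_iff.2 (hP₀ x hx).symm.eq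
    obtain ⟨P₁, hP₁⟩ := (hR.of_equiv (subgroupOfEquivOfLe hRΓ).symm).exists_le_sylow
    obtain ⟨c, hc⟩ := MulAction.exists_smul_eq ↥Γ (P₀.subtype hPΓ) P₁
    set P := (c : G) • P₀ with hP
    have hmem : ∀ x, x ∈ (P : Subgroup G) ↔ (c : G)⁻¹ * x * c ∈ (P₀ : Subgroup G) := fun x => by
      rw [hP, Sylow.coe_subgroup_smul, Subgroup.mem_pointwise_smul_iff_inv_smul_mem,
        ← map_inv, MulAut.smul_def, MulAut.conj_apply, inv_inv]
    have hcomm : Commute a (c : G) := (mem_centralizer_singleton_iff.1 c.2).symm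
    have haP : a ∈ P := (hmem a).2 (by rwa [mul_assoc, hcomm.eq, inv_mul_cancel_left])
    have hPa : ∀ x ∈ P, Commute a x := fun x hx => by
      have h1 := hP₀ _ ((hmem x).1 hx)
      have h2 := (hcomm.mul_right h1).mul_right hcomm.inv_right
      simpa [mul_assoc] using h2
    have hRP : R ≤ P := fun x hx => (hmem x).2 (by
      have h1 : (⟨x, hRΓ hx⟩ : ↥Γ) ∈ (P₁ : Subgroup ↥Γ) := hP₁ hx
      rw [← hc, Sylow.coe_subgroup_smul, Subgroup.mem_pointwise_smul_iff_inv_smul_mem] at h1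
      rw [← map_inv, MulAut.smul_def, MulAut.conj_apply, inv_inv] at h1
      exact h1)
    have hlt : R < P := lt_of_le_of_ne hRP fun e => hab (F2 P a b ha2 hb.1 hPa
      (fun x hx => hRb x (e.ge hx)) haP).symm
    have hgt := Grp.lt_inf_normalizer (P := (P : Subgroup G)) P.isPGroup'.isNilpotent hlt
    set R₁ := (P : Subgroup G) ⊓ normalizer (R : Set G) with hR₁
    by_contra hua
    have hu2 : IsPGroup 2 ↥(zpowers u) :=
      IsPGroup.of_card (n := 1) (by rw [Nat.card_zpowers, huK.1, pow_one])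
    have hcu : R₁ ≤ centralizer ({u} : Set G) := fun x hx =>
      mem_centralizer_singleton_iff.2 (huN x hx.2).symm.eq
    have hbig := hRmax (j := ((a, u), R₁ ⊔ zpowers u)) ⟨⟨ha2, P₀, haP₀, hP₀⟩, huK, fun e => hua e.symm,
      (P.isPGroup'.to_le inf_le_left).to_sup_of_normal_right' hu2 (fun x hx => ?_),
      mem_sup_left (hgt.le haR), mem_sup_right (mem_zpowers u), ?_, ?_⟩ ?_
    · exact absurd hbig (not_le.2 (lt_of_lt_of_le
        (lt_of_le_of_ne (card_le_of_le hgt.le) fun e => hgt.ne (eq_of_le_of_card_ge hgt.le e.ge))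
        (card_le_of_le le_sup_left)))
    · refine mem_normalizer_iff.2 fun y => ⟨fun hy => ?_, fun hy => ?_⟩
      · obtain ⟨i, rfl⟩ := mem_zpowers_iff.1 hy
        rwa [((huN x hx.2).symm.zpow_right i).eq, mul_inv_cancel_right]
      · obtain ⟨i, hi⟩ := mem_zpowers_iff.1 hy
        have h1 := ((huN x hx.2).symm.zpow_right i).eq
        rw [hi, inv_mul_cancel_right] at h1
        rwa [mul_left_cancel h1] at hy
    · intro x hx
      exact (mem_centralizer_singleton_iff.1 ((sup_le (fun y hy =>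
        mem_centralizer_singleton_iff.2 (hPa y hy.1).symm.eq) (zpowers_le.2
        (mem_centralizer_singleton_iff.2 (huN a (Subgroup.le_normalizer haR)).eq))) hx)).symm
    · intro x hx
      exact (mem_centralizer_singleton_iff.1 ((sup_le hcu (zpowers_le.2
        (mem_centralizer_singleton_iff.2 rfl))) hx)).symm
    · exact (card_le_of_le hgt.le).trans (card_le_of_le le_sup_left)
  exact hab ((key a b ha hb hab haR hbR hRa hRb).symm.trans
    (key b a hb ha (Ne.symm hab) hbR haR hRb hRa))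

/-- In a nonabelian simple group some centre of a two-core is not cyclic. -/
theorem exists_noncyclic [IsSimpleGroup G] (hG : ¬ IsMulCommutative G) (S : Sylow 2 G)
    (hS : (S : Subgroup G) ≠ ⊥) :
    ∃ M : Subgroup G, Cfsg.IsMaximalTwoLocal M ∧ ¬ IsCyclic ↥(center ↥(Cfsg.pCore 2 ↥M)) := by
  haveI : Fact (Nat.Prime 2) := ⟨Nat.prime_two⟩
  by_contra hcon'
  push Not at hcon'
  obtain ⟨z, hzS, hz2, hzc⟩ := exists_central_involution S.isPGroup' hS
  have hiso : Cfsg.IsIsolatedInvolution z := by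
    refine ⟨hz2, fun g hg => ?_⟩
    refine (eq_of_commute hcon hcore hcon' ⟨hz2, S, hzS, hzc⟩ ⟨?_, g • S, ?_, ?_⟩ hg).symm
    · rw [← hz2]; exact MulEquiv.orderOf_eq (MulAut.conj g) z
    · exact Subgroup.smul_mem_pointwise_smul z (MulAut.conj g) _ hzS
    · intro x hx
      obtain ⟨y, hy, rfl⟩ := hx
      exact (hzc y hy).map (MulAut.conj g)
  have hO : Cfsg.pPrimeCore 2 G = ⊥ := by
    refine (IsSimpleGroup.eq_bot_or_eq_top_of_normal _ Grp.pPrimeCore_isNormal).resolve_right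
      fun e => ?_
    have h1 : (Nat.card ↥(Cfsg.pPrimeCore 2 G)).Coprime 2 := Grp.pPrimeCore_coprime
    rw [e, card_top, Nat.coprime_two_right, Nat.odd_iff] at h1
    have h2 : 2 ∣ Nat.card G := hz2 ▸ orderOf_dvd_natCard z
    omega
  have hzc' : z ∈ center G := mem_center_iff.2 fun g => by
    have h := ZStar.commutator_mem_oddCore (Nat.card G) G rfl z hiso g
    rw [hO, mem_bot, mul_inv_eq_one, mul_inv_eq_iff_eq_mul] at h
    exact h.symm
  have hbot := (IsSimpleGroup.eq_bot_or_eq_top_of_normal (center G) inferInstance).resolve_right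
    fun e => hG ⟨⟨fun a b => mem_center_iff.mp (e ▸ mem_top b) a⟩⟩
  rw [hbot, mem_bot] at hzc'
  simp [hzc'] at hz2

end Cfsg.Agent.Fus.CharTwoCenters
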