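import Mathlib

/-!
Permutational wreath products `Q^ι ⋊ Perm ι` and their subgroups over a group of permutations:
squares inside the derived subgroup, Sylow 2-subgroups of symmetric groups, derived lengths.
-/

set_option autoImplicit false
set_option linter.unusedSectionVars false
set_option linter.style.haveILetI false

namespace Cfsg.Agent.Fus.PermWreath

open Equiv
open scoped commutatorElement

universe u v w

variable {Q : Type u} [Group Q] {ι : Type v}

/-- Permutations of the index set acting on tuples. -/
def permAct : Perm ι →* MulAut (ι → Q) where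
  toFun σ :=
    { toFun := fun f i => f (σ.symm i)
      invFun := fun f i => f (σ i)
      left_inv := fun f => funext fun i => by simp
      right_inv := fun f => funext fun i => by simp
      map_mul' := fun _ _ => rfl }
  map_one' := rfl
  map_mul' _ _ := rfl

/-- The permutational wreath product. -/
abbrev PW (Q : Type u) [Group Q] (ι : Type v) := (ι → Q) ⋊[permAct (Q := Q) (ι := ι)] Perm ι

theorem permAct_apply (σ : Perm ι) (f : ι → Q) (i : ι) : permAct σ f i = f (σ.symm i) := rfl

theorem left_mul (x y : PW Q ι) (i : ι) : (x * y).left i = x.left i * y.left (x.right.symm i) := rfl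

/-- The elements lying over a group of permutations. -/
def overGrp (T : Subgroup (Perm ι)) : Subgroup (PW Q ι) := T.comap SemidirectProduct.rightHom

theorem card_over [Finite ι] (T : Subgroup (Perm ι)) :
    Nat.card (overGrp (Q := Q) T) = Nat.card Q ^ Nat.card ι * Nat.card T := by
  rw [← Nat.card_fun, ← Nat.card_prod]
  exact Nat.card_congr
    { toFun := fun x => (x.1.left, ⟨x.1.right, x.2⟩)
      invFun := fun y => ⟨⟨y.1, y.2.1⟩, y.2.2⟩
      left_inv := fun x => rfl
      right_inv := fun y => rfl }

/-- All squares lie in the derived subgroup. -/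
def Sq (X : Type*) [Group X] : Prop := ∀ x : X, x ^ 2 ∈ commutator X

theorem Sq.of_surjective {X Y : Type*} [Group X] [Group Y] (h : Sq X) (f : X →* Y) (hf : Function.Surjective f) :
    Sq Y := fun y => by
  obtain ⟨x, rfl⟩ := hf y
  rw [← map_pow]
  have := Subgroup.mem_map_of_mem f (h x)
  rw [commutator_def, Subgroup.map_commutator] at this
  exact Subgroup.commutator_mono le_top le_top this

theorem Sq.map_mem {X Y : Type*} [Group X] [Group Y] (h : Sq X) (f : X →* Y) (x : X) : f x ^ 2 ∈ commutator Y := by
  rw [← map_pow]
  have := Subgroup.mem_map_of_mem f (h x)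
  rw [commutator_def, Subgroup.map_commutator] at this
  exact Subgroup.commutator_mono le_top le_top this

theorem Sq.of_closure {X : Type*} [Group X] {K : Subgroup X} (hK : K = ⊤) (s : Set X)
    (hs : K ≤ Subgroup.closure s) (h : ∀ x ∈ s, x ^ 2 ∈ commutator X) : Sq X := by
  intro x
  let f : X →* Abelianization X := (powMonoidHom 2).comp Abelianization.of
  have hf : Subgroup.closure s ≤ f.ker := (Subgroup.closure_le _).2 fun y hy => by
    show (Abelianization.of y) ^ 2 = 1
    rw [← map_pow, ← MonoidHom.mem_ker, Abelianization.ker_of]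
    exact h y hy
  have hx : (Abelianization.of x) ^ 2 = 1 := hf (hs (hK.symm ▸ Subgroup.mem_top x))
  rw [← Abelianization.ker_of, MonoidHom.mem_ker, map_pow, hx]

theorem sq_over [Finite ι] [DecidableEq ι] (hQ : Sq Q) (T : Subgroup (Perm ι)) (hT : Sq T) :
    Sq (overGrp (Q := Q) T) := by
  let single : ι → Q →* overGrp (Q := Q) T := fun i =>
    { toFun := fun q => ⟨SemidirectProduct.inl (Pi.mulSingle i q), by
        show SemidirectProduct.rightHom _ ∈ T
        rw [SemidirectProduct.rightHom_inl]; exact T.one_mem⟩
      map_one' := Subtype.ext (by simp)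
      map_mul' := fun a b => Subtype.ext (by simp [Pi.mulSingle_mul]) }
  let top : T →* overGrp (Q := Q) T :=
    { toFun := fun t => ⟨SemidirectProduct.inr t.1, by
        show SemidirectProduct.rightHom _ ∈ T
        rw [SemidirectProduct.rightHom_inr]; exact t.2⟩
      map_one' := Subtype.ext (by simp)
      map_mul' := fun a b => Subtype.ext (by simp) }
  refine Sq.of_closure rfl ((⋃ i, Set.range (single i)) ∪ Set.range top) (fun x _ => ?_) fun y hy => ?_
  · set K := Subgroup.closure ((⋃ i, Set.range (single i)) ∪ Set.range top)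
    let inlT : (ι → Q) →* overGrp (Q := Q) T :=
      { toFun := fun f => ⟨SemidirectProduct.inl f, by
          show SemidirectProduct.rightHom _ ∈ T
          rw [SemidirectProduct.rightHom_inl]; exact T.one_mem⟩
        map_one' := Subtype.ext (by simp)
        map_mul' := fun a b => Subtype.ext (by simp) }
    have hl : x.1.left ∈ K.comap inlT := Subgroup.pi_mem_of_mulSingle_mem x.1.left fun i =>
      Subgroup.subset_closure (Or.inl (Set.mem_iUnion.2 ⟨i, x.1.left i, rfl⟩))
    have e : x = inlT x.1.left * top ⟨x.1.right, x.2⟩ :=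
      Subtype.ext (SemidirectProduct.inl_left_mul_inr_right x.1).symm
    rw [e]
    exact mul_mem hl (Subgroup.subset_closure (Or.inr ⟨_, rfl⟩))
  · rcases hy with hy | ⟨t, rfl⟩
    · obtain ⟨i, q, rfl⟩ := Set.mem_iUnion.1 hy
      exact Sq.map_mem hQ (single i) q
    · exact Sq.map_mem hT top t

/-- Tuples of permutations and a permutation of the index set, acting on pairs. -/
def blockHom {β : Type w} : PW (Perm β) ι →* Perm (ι × β) where
  toFun x :=
    { toFun := fun p => (x.right p.1, x.left (x.right p.1) p.2)
      invFun := fun p => (x.right.symm p.1, (x.left p.1).symm p.2)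
      left_inv := fun p => by simp
      right_inv := fun p => by simp }
  map_one' := rfl
  map_mul' x y := Equiv.ext fun p => by
    show ((x * y).right p.1, (x * y).left ((x * y).right p.1) p.2) = _
    rw [left_mul]
    simp [SemidirectProduct.mul_right]

theorem blockHom_injective {β : Type w} [Nonempty β] : Function.Injective (blockHom (ι := ι) (β := β)) := by
  intro x y h
  have h' : ∀ i b, x.right i = y.right i ∧ x.left (x.right i) b = y.left (y.right i) b := fun i b => by
    have := congrArg (fun e : Perm (ι × β) => e (i, b)) h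
    exact ⟨congrArg Prod.fst this, congrArg Prod.snd this⟩
  have hr : x.right = y.right := Equiv.ext fun i => (h' i (Classical.arbitrary β)).1
  refine SemidirectProduct.ext (funext fun j => Equiv.ext fun b => ?_) hr
  have := (h' (x.right.symm j) b).2
  rwa [← hr, Equiv.apply_symm_apply] at this

/-- Some Sylow 2-subgroup of a symmetric group has all squares in its derived subgroup. -/
theorem exists_sq_perm_sylow : ∀ n : ℕ,
    ∃ T : Subgroup (Perm (Fin n)), Sq T ∧ Nat.card T = 2 ^ padicValNat 2 n.factorial := by
  intro n
  induction n using Nat.strong_induction_on with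
  | _ n ih =>
  rcases Nat.lt_or_ge n 2 with hn | hn
  · refine ⟨⊥, fun x => ?_, ?_⟩
    · rw [Subsingleton.elim (x ^ 2) 1]; exact one_mem _
    · interval_cases n <;> simp
  obtain ⟨T, hT, hTc⟩ := ih (n / 2) (by omega)
  obtain ⟨e⟩ : Nonempty (Fin (n / 2) × Fin 2 ↪ Fin n) := Function.Embedding.nonempty_of_card_le (by
    simp; omega)
  let f : overGrp (Q := Perm (Fin 2)) T →* Perm (Fin n) :=
    (Perm.viaEmbeddingHom e).comp (blockHom.comp (overGrp T).subtype)
  have hf : Function.Injective f :=
    (Perm.viaEmbeddingHom_injective e).comp (blockHom_injective.comp Subtype.val_injective)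
  have hC : Sq (Perm (Fin 2)) := fun x => by
    rw [show x ^ 2 = 1 by revert x; decide]; exact one_mem _
  refine ⟨f.range, (sq_over hC T hT).of_surjective f.rangeRestrict f.rangeRestrict_surjective, ?_⟩
  rw [← Nat.card_congr (MonoidHom.ofInjective hf).toEquiv, card_over, hTc, Nat.card_perm, Nat.card_fin,
    Nat.card_fin, Nat.factorial_two, ← pow_add]
  congr 1
  haveI : Fact (Nat.Prime 2) := ⟨Nat.prime_two⟩
  conv_rhs => rw [← Nat.div_add_mod n 2]
  rw [padicValNat_factorial_mul_add _ (Nat.mod_lt _ two_pos), padicValNat_factorial_mul, add_comm]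

/-- Every Sylow 2-subgroup of a symmetric group has all squares in its derived subgroup. -/
theorem sq_perm_sylow {n : ℕ} (T : Sylow 2 (Perm (Fin n))) : Sq (T : Subgroup (Perm (Fin n))) := by
  haveI : Fact (Nat.Prime 2) := ⟨Nat.prime_two⟩
  obtain ⟨U, hU, hUc⟩ := exists_sq_perm_sylow n
  have hUS : Nat.card U = 2 ^ (Nat.card (Perm (Fin n))).factorization 2 := by
    rw [hUc, Nat.card_perm, Nat.card_fin, Nat.factorization_def _ Nat.prime_two]
  obtain ⟨i⟩ : Nonempty ((Sylow.ofCard U hUS : Subgroup (Perm (Fin n))) ≃* (T : Subgroup (Perm (Fin n)))) :=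
    ⟨Sylow.equiv _ T⟩
  exact Sq.of_surjective (X := (Sylow.ofCard U hUS : Subgroup (Perm (Fin n))))
    (by rw [Sylow.coe_ofCard]; exact hU) i.toMonoidHom i.surjective

/-- The derived length adds at most that of `Q`. -/
theorem derivedSeries_over (hQ : ∀ a ∈ commutator Q, ∀ b ∈ commutator Q, a * b = b * a)
    (T : Subgroup (Perm ι)) {j : ℕ} (hT : derivedSeries T j = ⊥) :
    derivedSeries (overGrp (Q := Q) T) (j + 2) = ⊥ := by
  let π : overGrp (Q := Q) T →* T :=
    { toFun := fun x => ⟨x.1.right, x.2⟩, map_one' := rfl, map_mul' := fun _ _ => rfl }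
  have h0 : ∀ x ∈ derivedSeries (overGrp (Q := Q) T) j, x.1.right = 1 := fun x hx => by
    have := map_derivedSeries_le_derivedSeries π j (Subgroup.mem_map_of_mem π hx)
    rw [hT, Subgroup.mem_bot] at this
    exact congrArg Subtype.val this
  have hcl : ∀ a b : overGrp (Q := Q) T, a.1.right = 1 → b.1.right = 1 →
      (⁅a, b⁆ : overGrp (Q := Q) T).1.right = 1 ∧ ∀ i, (⁅a, b⁆ : overGrp (Q := Q) T).1.left i = ⁅a.1.left i, b.1.left i⁆ := by
    intro a b ha hb
    have ea : a.1 = SemidirectProduct.inl a.1.left := SemidirectProduct.ext rfl ha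
    have eb : b.1 = SemidirectProduct.inl b.1.left := SemidirectProduct.ext rfl hb
    have e : (⁅a, b⁆ : overGrp (Q := Q) T).1 = SemidirectProduct.inl ⁅a.1.left, b.1.left⁆ := by
      rw [← Subgroup.coe_subtype, map_commutatorElement, Subgroup.coe_subtype, map_commutatorElement, ← ea, ← eb]
    rw [e]
    exact ⟨rfl, fun i => rfl⟩
  let S₁ : Subgroup (overGrp (Q := Q) T) :=
    { carrier := {x | x.1.right = 1 ∧ ∀ i, x.1.left i ∈ commutator Q}
      one_mem' := ⟨rfl, fun i => one_mem _⟩
      mul_mem' := fun {a b} ha hb => ⟨by
          show a.1.right * b.1.right = 1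
          rw [ha.1, hb.1, one_mul], fun i => by
          show (a.1 * b.1).left i ∈ _
          rw [left_mul]
          exact mul_mem (ha.2 i) (hb.2 _)⟩
      inv_mem' := fun {a} ha => ⟨by
          show a.1.right⁻¹ = 1
          rw [ha.1, inv_one], fun i => by
          show (a.1⁻¹).left i ∈ _
          rw [SemidirectProduct.inv_left, permAct_apply]
          exact inv_mem (ha.2 _)⟩ }
  have h1 : derivedSeries (overGrp (Q := Q) T) (j + 1) ≤ S₁ := by
    rw [derivedSeries_succ, Subgroup.commutator_le]
    intro a ha b hb
    obtain ⟨e1, e2⟩ := hcl a b (h0 a ha) (h0 b hb)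
    exact ⟨e1, fun i => by rw [e2 i]; exact Subgroup.commutator_mem_commutator (Subgroup.mem_top _) (Subgroup.mem_top _)⟩
  rw [eq_bot_iff, derivedSeries_succ, Subgroup.commutator_le]
  intro a ha b hb
  obtain ⟨e1, e2⟩ := hcl a b (h1 ha).1 (h1 hb).1
  rw [Subgroup.mem_bot]
  refine Subtype.ext (SemidirectProduct.ext (funext fun i => ?_) e1)
  rw [e2 i]
  exact commutatorElement_eq_one_iff_mul_comm.2 (hQ _ ((h1 ha).2 i) _ ((h1 hb).2 i))

/-- Change of index set. -/
def relabel {κ : Type w} (e : ι ≃ κ) : PW Q ι →* PW Q κ where
  toFun x := ⟨fun k => x.left (e.symm k), e.permCongr x.right⟩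
  map_one' := SemidirectProduct.ext rfl (by ext; simp)
  map_mul' x y := SemidirectProduct.ext (funext fun k => by
      rw [left_mul]
      show (x * y).left (e.symm k) = _
      rw [left_mul]
      congr 1
      simp [permAct_apply, Equiv.permCongr_def]) (by
      show e.permCongr (x * y).right = e.permCongr x.right * e.permCongr y.right
      ext k
      simp [SemidirectProduct.mul_right])

theorem relabel_injective {κ : Type w} (e : ι ≃ κ) : Function.Injective (relabel (Q := Q) e) := by
  intro x y h
  refine SemidirectProduct.ext (funext fun i => ?_) (e.permCongr.injective (congrArg SemidirectProduct.right h))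
  simpa [relabel] using congrFun (congrArg SemidirectProduct.left h) (e i)

/-- Adding fixed indices. -/
def extendSum (κ : Type w) : PW Q ι →* PW Q (ι ⊕ κ) where
  toFun x := ⟨Sum.elim x.left 1, Equiv.sumCongr x.right 1⟩
  map_one' := SemidirectProduct.ext (funext fun s => by cases s <;> rfl) (by ext s; cases s <;> rfl)
  map_mul' x y := SemidirectProduct.ext (funext fun s => by
      rw [left_mul]; cases s
      · rfl
      · exact (mul_one (1 : Q)).symm) (by ext s; cases s <;> rfl)

theorem extendSum_injective (κ : Type w) : Function.Injective (extendSum (Q := Q) (ι := ι) κ) := by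
  intro x y h
  refine SemidirectProduct.ext (funext fun i => ?_) (Equiv.ext fun i => ?_)
  · simpa [extendSum] using congrFun (congrArg SemidirectProduct.left h) (Sum.inl i)
  · simpa [extendSum] using congrArg (fun z : PW Q (ι ⊕ κ) => z.right (Sum.inl i)) h

/-- A wreath product of a subgroup, on pairs. -/
def double {D : Type*} [Group D] {C : Type w} [Group C] (h : D →* PW Q ι) : D ≀ᵣ C →* PW Q (C × ι) where
  toFun x := ⟨fun p => (h (x.left p.1)).left p.2,
    { toFun := fun p => (x.right * p.1, (h (x.left (x.right * p.1))).right p.2)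
      invFun := fun p => (x.right⁻¹ * p.1, (h (x.left p.1)).right.symm p.2)
      left_inv := fun p => by simp
      right_inv := fun p => by simp }⟩
  map_one' := SemidirectProduct.ext (funext fun p => by simp) (by ext p <;> simp)
  map_mul' x y := SemidirectProduct.ext (funext fun p => by
      show (h ((x * y).left p.1)).left p.2 = _
      rw [RegularWreathProduct.mul_left, Pi.mul_apply, map_mul, left_mul]
      rfl) (by
      ext p
      · show (x * y).right * p.1 = x.right * (y.right * p.1)
        rw [RegularWreathProduct.mul_right, mul_assoc]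
      · show (h ((x * y).left ((x * y).right * p.1))).right p.2 =
          (h (x.left (x.right * (y.right * p.1)))).right ((h (y.left (y.right * p.1))).right p.2)
        rw [RegularWreathProduct.mul_left, RegularWreathProduct.mul_right, Pi.mul_apply, map_mul]
        simp [mul_assoc])

theorem double_injective {D : Type*} [Group D] {C : Type w} [Group C] [Nonempty ι] {h : D →* PW Q ι}
    (hh : Function.Injective h) : Function.Injective (double (C := C) h) := by
  intro x y e
  have hr : ∀ c i, x.right * c = y.right * c ∧
      (h (x.left (x.right * c))).right i = (h (y.left (y.right * c))).right i := fun c i => by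
    have := congrArg (fun z : PW Q (C × ι) => z.right (c, i)) e
    exact ⟨congrArg Prod.fst this, congrArg Prod.snd this⟩
  have hxy : x.right = y.right := mul_right_cancel (hr 1 (Classical.arbitrary ι)).1
  refine RegularWreathProduct.ext (funext fun c => hh (SemidirectProduct.ext (funext fun i => ?_) (Equiv.ext fun i => ?_))) hxy
  · exact congrFun (congrArg SemidirectProduct.left e) (c, i)
  · have := (hr (x.right⁻¹ * c) i).2
    rwa [← hxy, mul_inv_cancel_left] at this

/-- A 2-group of derived length `k + 2` inside the wreath product on `2 ^ k` indices. -/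
theorem exists_long [Finite Q] (hQ : IsPGroup 2 Q) (hQne : commutator Q ≠ ⊥)
    (hproj : ∀ {D C : Type u} [Group D] [Group C] [Nontrivial C] (i : ℕ), ∀ d ∈ derivedSeries D i,
      ∃ x ∈ derivedSeries (D ≀ᵣ C) (i + 1), x.left 1 = d) :
    ∀ k : ℕ, ∃ (D : Type u) (_ : Group D) (_ : Finite D), IsPGroup 2 D ∧ derivedSeries D (k + 1) ≠ ⊥ ∧
      ∃ h : D →* PW Q (Fin (2 ^ k)), Function.Injective h := by
  intro k
  induction k with
  | zero =>
    refine ⟨Q, inferInstance, inferInstance, hQ, by rwa [zero_add, derivedSeries_one],
      { toFun := fun q => ⟨fun _ => q, 1⟩, map_one' := rfl,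
        map_mul' := fun a b => SemidirectProduct.ext rfl rfl }, fun a b e => ?_⟩
    exact congrFun (congrArg SemidirectProduct.left e) 0
  | succ k ih =>
    obtain ⟨D, hD1, hD2, hD, hne, h, hh⟩ := ih
    let C := ULift.{u} (Multiplicative (ZMod 2))
    haveI : Fact (Nat.Prime 2) := ⟨Nat.prime_two⟩
    have hC : Nat.card C = 2 := by
      rw [Nat.card_congr Equiv.ulift, Nat.card_congr Multiplicative.toAdd, Nat.card_zmod]
    haveI : Finite C := Nat.finite_of_card_ne_zero (by rw [hC]; norm_num)
    haveI : Nontrivial C := Finite.one_lt_card_iff_nontrivial.1 (by rw [hC]; norm_num)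
    haveI : Finite (D ≀ᵣ C) := Finite.of_equiv _ (RegularWreathProduct.equivProd D C).symm
    obtain ⟨a, ha⟩ := IsPGroup.iff_card.1 hD
    have e : C × Fin (2 ^ k) ≃ Fin (2 ^ (k + 1)) := (Finite.equivFinOfCardEq (by
      rw [Nat.card_prod, hC, Nat.card_fin, pow_succ']))
    refine ⟨D ≀ᵣ C, inferInstance, inferInstance, IsPGroup.of_card (n := a * 2 + 1) ?_, fun hb => ?_,
      (relabel e).comp (double (C := C) h), (relabel_injective e).comp (double_injective hh)⟩
    · rw [Nat.card_congr (RegularWreathProduct.equivProd D C), Nat.card_prod, Nat.card_fun, hC, ha,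
        ← pow_mul, pow_succ]
    · refine hne ((Subgroup.eq_bot_iff_forall _).2 fun d hd => ?_)
      obtain ⟨x, hx, rfl⟩ := hproj (C := C) (k + 1) d hd
      rw [hb, Subgroup.mem_bot] at hx
      rw [hx]; rfl

end Cfsg.Agent.Fus.PermWreath
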