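import Mathlib
import Cfsg.Agent.Lib.Fus.CharTwoSylowBase
import Cfsg.Agent.Lib.Char.SteinbergChev
import Cfsg.Agent.Lib.Lie.Chev.CertsFull
import Cfsg.Agent.Lib.Lie.Sz.SylowLie

/-!
Squares in Sylow 2-subgroups in characteristic two: Chevalley groups and Suzuki groups.
-/

set_option autoImplicit false
set_option linter.style.haveILetI false

namespace Cfsg.Agent.Fus.CharTwoSyl

open Cfsg.Lie Cfsg.Agent.Lie.Chev Cfsg.Agent.Fus.PermWreath

section Chev

variable {D : ChevalleyDatum} (c : CertFull D) {F : Type*} [Field F] [CharP F 2]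

include c

theorem xg_sq (r : ℕ) (t : F) : c.xg r t ^ 2 = 1 := by
  rw [sq, ← c.xg_add, CharTwo.add_self_eq_zero, c.xg_zero]

theorem posUnipotent_le_sqSub : D.posUnipotent F ≤ sqSub (D.posUnipotent F) := by
  conv_lhs => rw [c.posUnipotent_eq, Cert.K]
  refine (Subgroup.closure_le _).2 ?_
  rintro g ⟨r, t, hr, hm, rfl⟩
  refine invol_mem_sqSub ?_ (xg_sq c r t)
  rw [c.posUnipotent_eq]
  exact c.xg_mem_K hr hm t

theorem sq_chev [Fintype F] {G : Type*} [Group G] [Finite G] (e : ↥(D.group F) ≃* G)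
    (P : Sylow 2 G) : Sq (P : Subgroup G) := by
  haveI : Fact (Nat.Prime 2) := ⟨Nat.prime_two⟩
  obtain ⟨U, hU⟩ := Cfsg.Agent.Char.StChev.exists_sylow_U c 2 (F := F)
  refine sq_sylow_equiv e (U := U) ?_ P
  rw [hU]
  intro x hx
  refine mem_sqSub.2 ⟨hx, ?_⟩
  have h := (mem_sqSub.1 (posUnipotent_le_sqSub c (Subgroup.mem_subgroupOf.1 hx))).2
  have hmap : ((D.posUnipotent F).subgroupOf (D.group F)).map (D.group F).subtype =
      D.posUnipotent F := Subgroup.map_subgroupOf_eq_of_le c.U_le_group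
  rw [← hmap, ← Subgroup.map_commutator] at h
  rwa [← Subgroup.mem_map_iff_mem (D.group F).subtype_injective, map_pow]

end Chev

theorem sq_suzuki {G : Type*} [Group G] [Finite G] (hG : Lie.IsoSuzuki G) (P : Sylow 2 G) :
    Sq (P : Subgroup G) := by
  haveI : Fact (Nat.Prime 2) := ⟨Nat.prime_two⟩
  obtain ⟨F, _, _, m, hm, hcard, ⟨e⟩⟩ := hG
  have hS : Suz.SzField F m := ⟨hm, hcard⟩
  refine sq_sylow_equiv ((Suz.szEquiv hS).trans e.symm) (U := Suz.sylowU hS) ?_ P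
  rw [Suz.coe_sylowU]
  intro x hx
  refine mem_sqSub.2 ⟨hx, ?_⟩
  obtain ⟨a, b, rfl⟩ := (Suz.mem_unip hS).1 hx
  rw [Suz.uS_sq]
  have hc : (⟨Suz.uS hS 0 (Suz.th m a * a), (Suz.mem_unip hS).2 ⟨_, _, rfl⟩⟩ : Suz.unip hS) ∈
      Subgroup.center (Suz.unip hS) := (Suz.center_unip_iff hS _).2 ⟨_, rfl⟩
  rw [Suz.center_unip_eq_commutator hS] at hc
  rw [← Subgroup.map_subtype_commutator]
  exact ⟨_, hc, rfl⟩

end Cfsg.Agent.Fus.CharTwoSyl
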