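import Cfsg.Agent.Lib.Fus.Invariant
import Cfsg.Agent.Lib.Fus.GroupSystem

/-!
A simplicity criterion for fusion systems of groups, phrased with group data only.
-/

set_option autoImplicit false
set_option linter.style.haveILetI false

open scoped Classical

namespace Cfsg.Agent.Fus

open Subgroup FusionSystem

variable {G : Type*} [Group G] [Finite G] {p : ℕ} [Fact p.Prime] (S : Sylow p G)

/-- The elements of `N(S)` known to act on `S` inside every normal subsystem over `S`: those in
`S` and those in the subgroup generated by the `p`-elements normalizing a self-centralizing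
`R ≤ S` that is normal in `S`. -/
def simpleGenSet : Set G :=
  {g | g ∈ Subgroup.normalizer ((S : Subgroup G) : Set G) ∧ (g ∈ (S : Subgroup G) ∨
    ∃ R : Subgroup G, R ≤ S ∧ (S : Subgroup G) ≤ Subgroup.normalizer (R : Set G) ∧
      Subgroup.centralizer (R : Set G) ≤ R ∧
      g ∈ Subgroup.closure {x : G | x ∈ Subgroup.normalizer (R : Set G) ∧
        ∃ k : ℕ, x ^ p ^ k = 1})}

/-- Simplicity of the fusion system of a group from group-theoretic data; elements centralizing
`S` act trivially, so they may be used as well. -/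
theorem isSimple_group_of' (hS1 : (S : Subgroup G) ≠ ⊥)
    (ha : ∀ T : Subgroup G, T ≤ S → T ≠ ⊥ → (S : Subgroup G) ≤ Subgroup.normalizer (T : Set G) →
      (∀ g : G, ∀ x ∈ T, g * x * g⁻¹ ∈ (S : Subgroup G) → g * x * g⁻¹ ∈ T) →
      (S : Subgroup G) ≤ T)
    (hb : Subgroup.normalizer ((S : Subgroup G) : Set G) ≤ Subgroup.closure
      (simpleGenSet S ∪ (Subgroup.centralizer ((S : Subgroup G) : Set G) : Set G))) :
    (groupFusionSystem (S : Subgroup G)).IsSimple p := by
  have hsat := isSaturated_group S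
  refine ⟨hsat, hS1, fun T E hE => ?_⟩
  obtain ⟨⟨hEsat, -, hEi⟩, -⟩ := hE
  have hconj : ∀ g : G, ∀ x ∈ T, g * x * g⁻¹ ∈ (S : Subgroup G) → g * x * g⁻¹ ∈ T := by
    intro g x hx hgx
    have hm : IsMap (groupFusionSystem (S : Subgroup G)) (Subgroup.zpowers x)
        (fun y => g * y * g⁻¹) := by
      refine isMap_group.2 ⟨Subgroup.zpowers_le.2 (hEi.2.1.1 hx), g, fun y hy => ⟨rfl, ?_⟩⟩
      obtain ⟨i, rfl⟩ := hy
      show g * x ^ i * g⁻¹ ∈ _
      rw [← conj_zpow]
      exact Subgroup.zpow_mem _ hgx i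
    exact StronglyClosed.apply_mem hEi.2.1 hm (Subgroup.zpowers_le.2 hx) (Subgroup.mem_zpowers x)
  by_cases hT : T = ⊥
  · exact Or.inl hT
  have hTS : T = (S : Subgroup G) := le_antisymm hEi.2.1.1 (ha T hEi.2.1.1 hT (fun s hs =>
    mem_normalizer_of_forall
      (fun x hx => hconj s x hx (Subgroup.mul_mem _ (Subgroup.mul_mem _ hs (hEi.2.1.1 hx))
        (Subgroup.inv_mem _ hs)))
      fun x hx => by
        have := hconj s⁻¹ x hx (Subgroup.mul_mem _ (Subgroup.mul_mem _ (Subgroup.inv_mem _ hs)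
          (hEi.2.1.1 hx)) (Subgroup.inv_mem _ (Subgroup.inv_mem _ hs)))
        rwa [inv_inv] at this) hconj)
  subst hTS
  refine Or.inr ⟨rfl, hom_eq_of_isInvariantIn hEi ?_⟩
  have hautG : ∀ P : Subgroup G, P ≤ (S : Subgroup G) →
      (groupFusionSystem (S : Subgroup G)).autGroup P = autInducedBy ⊤ P := by
    intro P hP
    rw [groupFusionSystem_eq]
    exact autGroup_ofSubgroup hP
  -- the subgroup of `N(S)` acting on `S` inside `E`
  let Y : Subgroup G := ((E.autGroup (S : Subgroup G)).comap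
    (S : Subgroup G).normalizerMonoidHom).map
      (Subgroup.normalizer ((S : Subgroup G) : Set G)).subtype
  have hY : simpleGenSet S ∪ (Subgroup.centralizer ((S : Subgroup G) : Set G) : Set G) ⊆ Y := by
    rintro g (⟨hgN, hg⟩ | hg)
    on_goal 2 =>
      refine ⟨⟨g, Subgroup.centralizer_le_normalizer _ hg⟩, ?_, rfl⟩
      show (S : Subgroup G).normalizerMonoidHom ⟨g, _⟩ ∈ E.autGroup (S : Subgroup G)
      rw [show (S : Subgroup G).normalizerMonoidHom ⟨g, _⟩ = 1 from MulEquiv.ext fun y =>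
        Subtype.ext (by
          show g * (y : G) * g⁻¹ = y
          rw [← Subgroup.mem_centralizer_iff.1 hg _ y.2, mul_inv_cancel_right])]
      exact one_mem _
    refine ⟨⟨g, hgN⟩, ?_, rfl⟩
    show (S : Subgroup G).normalizerMonoidHom ⟨g, hgN⟩ ∈ E.autGroup (S : Subgroup G)
    rcases hg with hg | ⟨R, hRS, hRn, hRC, hg⟩
    · exact autInducedBy_le_autGroup E le_rfl
        (mem_autInducedBy.2 ⟨g, hg, fun y => rfl⟩)
    have hRc : (groupFusionSystem (S : Subgroup G)).IsCentric R := by
      refine ⟨hRS, fun Q hQ c hc => ?_⟩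
      obtain ⟨f, hf, rfl⟩ := isConj_iff.1 hQ
      obtain ⟨-, a, hfa⟩ := isMap_group.1 hf
      have hc' : a⁻¹ * c * a ∈ R := by
        refine hRC (Subgroup.mem_centralizer_iff.2 fun r hr => ?_)
        have := (mem_centralizerIn.1 hc).2 _ (apply_mem_fimg f hr)
        rw [(hfa r hr).1] at this
        calc r * (a⁻¹ * c * a) = a⁻¹ * (a * r * a⁻¹ * c) * a := by group
          _ = a⁻¹ * (c * (a * r * a⁻¹)) * a := by rw [this]
          _ = a⁻¹ * c * a * r := by group
      have h2 := apply_mem_fimg f hc'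
      rw [(hfa _ hc').1] at h2
      rwa [show a * (a⁻¹ * c * a) * a⁻¹ = c by group] at h2
    have hRfn : (groupFusionSystem (S : Subgroup G)).IsFullyNormalized R := by
      refine ⟨hRS, fun Q _ => ?_⟩
      rw [show normalizerIn (S : Subgroup G) R = S from le_antisymm inf_le_left (le_inf le_rfl hRn)]
      exact Subgroup.card_le_of_le inf_le_left
    have hle : Subgroup.closure {x : G | x ∈ Subgroup.normalizer (R : Set G) ∧
        ∃ k : ℕ, x ^ p ^ k = 1} ≤
        ((E.autGroup R).comap R.normalizerMonoidHom).map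
          (Subgroup.normalizer (R : Set G)).subtype := by
      refine (Subgroup.closure_le _).2 fun x ⟨hx, k, hk⟩ => ?_
      refine ⟨⟨x, hx⟩, mem_autGroup_of_isPGroup hEi hRS
        (fullyAutomized_of_fullyNormalized S.2 hsat hRfn) (autInducedBy_le_autGroup E hRS)
        (k := k) ?_ ?_, rfl⟩
      · rw [hautG R hRS]
        exact mem_autInducedBy.2 ⟨x, Subgroup.mem_top x, fun y => rfl⟩
      · rw [← map_pow]
        convert map_one R.normalizerMonoidHom
        exact Subtype.ext (by rw [SubgroupClass.coe_pow]; exact hk)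
    obtain ⟨⟨x, hxn⟩, hx, hxg⟩ := hle hg
    have hxg : x = g := hxg
    subst hxg
    have hm : IsMap (groupFusionSystem (S : Subgroup G)) (S : Subgroup G)
        (autFun ((S : Subgroup G).normalizerMonoidHom ⟨x, hgN⟩)) :=
      (mem_autGroup le_rfl).1 (by
        rw [hautG _ le_rfl]
        exact mem_autInducedBy.2 ⟨x, Subgroup.mem_top x, fun y => rfl⟩)
    have hRmap : IsMap E R (autFun ((S : Subgroup G).normalizerMonoidHom ⟨x, hgN⟩)) := by
      refine ((mem_autGroup hRS).1 hx).congr fun y hy => ?_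
      exact (autFun_coe (R.normalizerMonoidHom ⟨x, hxn⟩) ⟨y, hy⟩).trans
        (autFun_coe ((S : Subgroup G).normalizerMonoidHom ⟨x, hgN⟩) ⟨y, hRS hy⟩).symm
    exact (mem_autGroup le_rfl).2 (isMap_of_centric_restrict S.2 hsat hEi.1 hEsat hm hRc hRmap)
  intro α hα
  rw [hautG _ le_rfl] at hα
  obtain ⟨g, -, hga⟩ := mem_autInducedBy.1 hα
  obtain ⟨⟨x, hx⟩, hxY, hxg⟩ :=
    (Subgroup.closure_le Y).2 hY (hb (mem_normalizer_of_conj_aut hga))
  have hxg : x = g := hxg
  subst hxg
  have heq : (S : Subgroup G).normalizerMonoidHom ⟨x, hx⟩ = α :=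
    MulEquiv.ext fun y => Subtype.ext (hga y).symm
  exact heq ▸ hxY

/-- Simplicity of the fusion system of a group from group-theoretic data. -/
theorem isSimple_group_of (hS1 : (S : Subgroup G) ≠ ⊥)
    (ha : ∀ T : Subgroup G, T ≤ S → T ≠ ⊥ → (S : Subgroup G) ≤ Subgroup.normalizer (T : Set G) →
      (∀ g : G, ∀ x ∈ T, g * x * g⁻¹ ∈ (S : Subgroup G) → g * x * g⁻¹ ∈ T) →
      (S : Subgroup G) ≤ T)
    (hb : Subgroup.normalizer ((S : Subgroup G) : Set G) ≤ Subgroup.closure (simpleGenSet S)) :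
    (groupFusionSystem (S : Subgroup G)).IsSimple p :=
  isSimple_group_of' S hS1 ha (hb.trans (Subgroup.closure_mono Set.subset_union_left))

end Cfsg.Agent.Fus
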