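import Cfsg.Agent.Lib.Fus.PSpUnipotentTwo
import Cfsg.Agent.Lib.Fus.SimpleCriterion
import Cfsg.Agent.Lib.Grp.Frattini

/-!
The fusion system of `PSp_{2m}(q)`, `m ≥ 2`, in defining characteristic is simple.
-/

set_option autoImplicit false
set_option linter.style.haveILetI false
set_option linter.unusedSectionVars false
set_option linter.unusedSimpArgs false
set_option linter.unnecessarySeqFocus false

open scoped Classical

namespace Cfsg.Agent.Fus.PSpN

open Matrix Cfsg.Agent.Classical Cfsg.Agent.Classical.PSpAut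

variable {F : Type*} [Field F] [Fintype F] {m : ℕ} {p : ℕ} [hpF : Fact p.Prime] [hpC : CharP F p]
include hpF hpC

local notation "V" => (Fin m ⊕ Fin m → F)
local notation "Sp" => Matrix.symplecticGroup (Fin m) F
local notation "MI" => Matrix (Fin m ⊕ Fin m) (Fin m ⊕ Fin m) F
local notation "MM" => Matrix (Fin m) (Fin m) F
local notation "SLm" => Matrix.SpecialLinearGroup (Fin m) F

variable {G : Type*} [Group G] {θ : Matrix.symplecticGroup (Fin m) F →* G}
variable (hker : ∀ s : Matrix.symplecticGroup (Fin m) F, θ s = 1 ↔ spToPSp m F s = 1) (hm : 2 ≤ m)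
include hker hm

/-- Elements of `p`-power order are determined by their image. -/
theorem eq_of_map_eq {u w : Sp} (hu : u ∈ uniS F m) (hw : w ^ p ^ (2 * m) = 1) (h : θ w = θ u) :
    w = u := by
  have hm0 : m ≠ 0 := by omega
  obtain ⟨l, -, hl⟩ := (pi_eq_one_iff hm0).1 ((hker (u⁻¹ * w)).1
    (by rw [map_mul, map_inv, h, inv_mul_cancel]))
  have he : (w : MI) = l • (u : MI) := by
    rw [← mul_one (u : MI), ← Matrix.mul_smul, ← hl, ← Submonoid.coe_mul, mul_inv_cancel_left]
  have h1 : (1 : MI) = l ^ p ^ (2 * m) • (1 : MI) := by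
    have h2 := congrArg (fun s : Sp => (s : MI)) hw
    simp only [SubmonoidClass.coe_pow, he, smul_pow, OneMemClass.coe_one] at h2
    rw [IsUniS.pow_eq_one (p := p) hm0 hu] at h2
    exact h2.symm
  have h3 := congrFun (congrFun h1 (Sum.inl ⟨0, by omega⟩)) (Sum.inl ⟨0, by omega⟩)
  simp only [Matrix.one_apply_eq, Matrix.smul_apply, smul_eq_mul, mul_one] at h3
  rw [PSLN.eq_one_of_pow_prime_pow_eq_one (p := p) h3.symm, one_smul] at he
  exact Subtype.ext he

theorem pow_eq_one_of_uniS {u : Sp} (hu : u ∈ uniS F m) : u ^ p ^ (2 * m) = 1 :=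
  Subtype.ext (by
    simpa using IsUniS.pow_eq_one (p := p) (show m ≠ 0 by omega) (show IsUniS (u : MI) from hu))

theorem conj_eq_of_map_eq {g u v : Sp} (hu : u ∈ uniS F m) (hv : v ∈ uniS F m)
    (h : θ g * θ v * (θ g)⁻¹ = θ u) : g * v * g⁻¹ = u :=
  eq_of_map_eq (p := p) hker hm hu
    (by rw [conj_pow, pow_eq_one_of_uniS (p := p) hker hm hv, mul_one, mul_inv_cancel])
    (by rw [map_mul, map_mul, map_inv, h])

theorem map_mem_image {u : Sp} (hu : u ∈ uniS F m) (K : Subgroup Sp) (hK : K ≤ uniS F m)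
    (h : θ u ∈ K.map θ) : u ∈ K := by
  obtain ⟨k, hk, hku⟩ := h
  rwa [← eq_of_map_eq (p := p) hker hm (hK hk) (pow_eq_one_of_uniS (p := p) hker hm hu) hku.symm] at hk

theorem normalizer_lift {g : Sp}
    (hg : θ g ∈ Subgroup.normalizer (((uniS F m).map θ : Subgroup G) : Set G)) :
    ∀ u ∈ uniS F m, g⁻¹ * u * g ∈ uniS F m := by
  intro u hu
  have hmem : (θ g)⁻¹ * θ u * θ g ∈ (uniS F m).map θ := by
    have := (Subgroup.mem_normalizer_iff.1 (Subgroup.inv_mem _ hg) (θ u)).1 ⟨u, hu, rfl⟩
    rwa [inv_inv] at this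
  obtain ⟨v, hv, hvu⟩ := hmem
  have := conj_eq_of_map_eq (p := p) hker hm hu hv (g := g) (by rw [hvu]; group)
  rw [← this]
  simpa [mul_assoc] using hv

/-- Elements normalising the unitriangular group: diagonal Levi times unitriangular. -/
theorem exists_diag_mul {g : Sp}
    (hg : θ g ∈ Subgroup.normalizer (((uniS F m).map θ : Subgroup G) : Set G)) :
    ∃ (A : GL (Fin m) F) (t : Fin m → F), (A : MM) = Matrix.diagonal t ∧ (∀ i, t i ≠ 0) ∧
      (sympLevi m A)⁻¹ * g ∈ uniS F m := by
  obtain ⟨A, hAu, hAs⟩ := exists_levi (normalizer_lift (p := p) hker hm hg)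
  let t : Fin m → F := fun i => (A : MM) i i
  have hdet : Matrix.det (A : MM) = ∏ i, t i := Matrix.det_of_isUpperTriangular (fun i j h => hAu i j h)
  have hd0 : Matrix.det (A : MM) ≠ 0 := (Matrix.isUnit_det_of_left_inverse
    (B := ((A⁻¹ : GL (Fin m) F) : MM)) (by rw [← Units.val_mul, inv_mul_cancel, Units.val_one])).ne_zero
  have ht : ∀ i, t i ≠ 0 := fun i => Finset.prod_ne_zero_iff.1 (hdet ▸ hd0) i (Finset.mem_univ i)
  let D : GL (Fin m) F := Matrix.GeneralLinearGroup.mkOfDetNeZero (Matrix.diagonal t)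
    (by rw [Matrix.det_diagonal]; exact hdet ▸ hd0)
  refine ⟨D, t, rfl, ht, ?_⟩
  have hDi : ((D⁻¹ : GL (Fin m) F) : MM) = Matrix.diagonal fun i => (t i)⁻¹ := by
    rw [Matrix.coe_units_inv]
    refine Matrix.inv_eq_right_inv ?_
    show Matrix.diagonal t * _ = 1
    rw [Matrix.diagonal_mul_diagonal, ← Matrix.diagonal_one]
    exact congrArg _ (funext fun i => mul_inv_cancel₀ (ht i))
  have hBd : Matrix.det (((D⁻¹ * A : GL (Fin m) F)) : MM) = 1 := by
    rw [Units.val_mul, Matrix.det_mul, hDi, Matrix.det_diagonal, hdet, ← Finset.prod_mul_distrib]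
    exact Finset.prod_eq_one fun i _ => inv_mul_cancel₀ (ht i)
  let B : SLm := ⟨_, hBd⟩
  have hB : B ∈ PSLN.unip F m := by
    refine ⟨fun i j h => ?_, fun i => ?_⟩
    · show ((D⁻¹ * A : GL (Fin m) F) : MM) i j = 0
      rw [Units.val_mul, hDi, Matrix.diagonal_mul, hAu i j h, mul_zero]
    · show ((D⁻¹ * A : GL (Fin m) F) : MM) i i = 1
      rw [Units.val_mul, hDi, Matrix.diagonal_mul]
      exact inv_mul_cancel₀ (ht i)
  have hBe : Matrix.SpecialLinearGroup.toGL B = D⁻¹ * A := Units.ext rfl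
  have hle : PSLN.unip F m ≤
      (uniS F m).comap ((sympLevi m).comp Matrix.SpecialLinearGroup.toGL) := by
    refine PSLN.unip_le_closure.trans ((Subgroup.closure_le _).2 ?_)
    rintro _ ⟨a, b, hab, c, rfl⟩
    exact levi_mem_uniS hab c
  have h1 : sympLevi m (D⁻¹ * A) ∈ uniS F m := hBe ▸ hle hB
  have h2 := mul_mem h1 (siegel_le_uniS hAs)
  rwa [map_mul, map_inv, mul_assoc, mul_inv_cancel_left] at h2

omit hker hm in
theorem diag_map {A : GL (Fin m) F} {t : Fin m → F} (hA : (A : MM) = Matrix.diagonal t) :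
    θ (sympLevi m A) ∈ Subgroup.normalizer (((uniS F m).map θ : Subgroup G) : Set G) := by
  refine mem_normalizer_of_forall ?_ ?_ <;> rintro _ ⟨u, hu, rfl⟩
  · exact ⟨_, levi_diag_conj hA hu, by simp⟩
  · refine ⟨_, levi_diag_conj (A := A⁻¹) (t := Ring.inverse t) ?_ hu, by simp⟩
    rw [Matrix.coe_units_inv, hA, Matrix.inv_diagonal]

/-- The image of the unitriangular group is a Sylow subgroup. -/
theorem eq_map_uniS [Finite G] (hθ : Function.Surjective θ) (P : Sylow p G)
    (hP : (uniS F m).map θ ≤ (P : Subgroup G)) : (uniS F m).map θ = (P : Subgroup G) := by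
  by_contra hne
  obtain ⟨-, x, hx, hxU⟩ := SetLike.lt_iff_le_and_exists.1
    (lt_normalizerIn (S := (P : Subgroup G)) P.2 (lt_of_le_of_ne hP hne))
  obtain ⟨g, rfl⟩ := hθ x
  obtain ⟨A, t, hA, ht, htu⟩ := exists_diag_mul (p := p) hker hm hx.2
  refine hxU ⟨_, htu, ?_⟩
  have hmemP : θ (sympLevi m A) ∈ (P : Subgroup G) := by
    have := Subgroup.mul_mem (P : Subgroup G) hx.1
      (Subgroup.inv_mem _ (hP ⟨_, htu, rfl⟩))
    rwa [← map_inv, ← map_mul, _root_.mul_inv_rev, inv_inv, mul_inv_cancel_left] at this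
  obtain ⟨k, hk⟩ := P.2 ⟨_, hmemP⟩
  have hk' : θ ((sympLevi m A) ^ p ^ k) = 1 := by
    rw [map_pow]; exact congrArg Subtype.val hk
  have hm0 : m ≠ 0 := by omega
  obtain ⟨l, hl2, hl⟩ := (pi_eq_one_iff hm0).1 ((hker _).1 hk')
  have hpow : ∀ i, t i ^ p ^ k = l := by
    intro i
    have := congrFun (congrFun hl (Sum.inl i)) (Sum.inl i)
    rw [← map_pow] at this
    change ((A ^ p ^ k : GL (Fin m) F) : MM) i i = _ at this
    simpa [hA, Matrix.diagonal_pow] using this
  have ht2 : ∀ i, t i * t i = 1 := fun i => by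
    refine PSLN.eq_one_of_pow_prime_pow_eq_one (p := p) (k := k) ?_
    rw [mul_pow, hpow, ← sq, hl2]
  have hti : ∀ i j, t i = t j := fun i j => (div_eq_one_iff_eq (ht j)).1
    (PSLN.eq_one_of_pow_prime_pow_eq_one (p := p) (k := k)
      (by rw [div_pow, hpow, hpow, div_self]; exact hpow j ▸ pow_ne_zero _ (ht j)))
  obtain ⟨i₀⟩ : Nonempty (Fin m) := ⟨⟨0, by omega⟩⟩
  have hone : θ (sympLevi m A) = 1 := by
    refine (hker _).2 ((pi_eq_one_iff hm0).2 ⟨t i₀, by rw [sq]; exact ht2 i₀, ?_⟩)
    have hAs : (A : MM) = t i₀ • 1 := by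
      rw [hA, Matrix.smul_one_eq_diagonal]
      exact congrArg _ (funext fun i => hti i i₀)
    have hAi : ((A⁻¹ : GL (Fin m) F) : MM) = t i₀ • 1 := by
      rw [Matrix.coe_units_inv]
      refine Matrix.inv_eq_right_inv ?_
      rw [hAs, Matrix.smul_mul, Matrix.one_mul, smul_smul, ht2, one_smul]
    show Matrix.fromBlocks _ 0 0 _ = _
    rw [hAs, hAi, Matrix.transpose_smul, Matrix.transpose_one, ← Matrix.fromBlocks_one,
      Matrix.fromBlocks_smul, smul_zero]
  rw [map_mul, map_inv, hone, inv_one, one_mul]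

omit hker hm in
/-- The image of a conjugation-invariant subgroup is normalised. -/
theorem map_mem_normalizer {K : Subgroup Sp} {g : Sp} (h : ∀ s ∈ K, g * s * g⁻¹ ∈ K)
    (h' : ∀ s ∈ K, g⁻¹ * s * g ∈ K) :
    θ g ∈ Subgroup.normalizer ((K.map θ : Subgroup G) : Set G) := by
  refine mem_normalizer_of_forall ?_ ?_ <;> rintro _ ⟨u, hu, rfl⟩
  · exact ⟨_, h u hu, by simp⟩
  · exact ⟨_, h' u hu, by simp⟩

omit hker hm in
theorem mem_normalizer_siegel {g : Sp} (h : ∀ v : V, InL v → InL ((g : MI) *ᵥ v))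
    (h' : ∀ v : V, InL v → InL (((g⁻¹ : Sp) : MI) *ᵥ v)) :
    θ g ∈ Subgroup.normalizer (((siegel F m).map θ : Subgroup G) : Set G) :=
  map_mem_normalizer (p := p) (fun _ hs => conj_mem_siegel h' hs) fun s hs => by
    have := conj_mem_siegel (g := g⁻¹) (by rwa [inv_inv]) hs
    rwa [inv_inv] at this

omit hker hm in
theorem mem_normalizer_rad {o : Fin m} {g : Sp} (h : (g : MI) *ᵥ e0 F o = e0 F o) :
    θ g ∈ Subgroup.normalizer (((rad o).map θ : Subgroup G) : Set G) := by
  have h' : ((g⁻¹ : Sp) : MI) *ᵥ e0 F o = e0 F o := by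
    conv_lhs => rw [← h]
    exact (inv_mulVec_mulVec g _).1
  refine map_mem_normalizer (p := p) (fun s hs => conj_mem_rad (a := 1) (by rw [one_smul]; exact h) hs)
    fun s hs => ?_
  have := conj_mem_rad (g := g⁻¹) (a := 1) (by rw [one_smul]; exact h') hs
  rwa [inv_inv] at this

omit hker in
theorem uniS_fix {o : Fin m} (ho : (o : ℕ) = 0) {u : Sp} (hu : u ∈ uniS F m) :
    (u : MI) *ᵥ e0 F o = e0 F o := by
  funext x
  rw [e0, Matrix.mulVec_single_one, Matrix.col_apply, hu x _ (by simp [ordS, ho]), Matrix.one_apply,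
    Pi.single_apply]

omit hker hm in
theorem uniS_map_L {u : Sp} (hu : u ∈ uniS F m) {v : V} (hv : InL v) : InL ((u : MI) *ᵥ v) := by
  intro i
  rw [Matrix.mulVec, dotProduct, Finset.sum_eq_zero]
  rintro (z | z) -
  · rw [hu _ _ (by simp only [ordS]; have := i.2; have := z.2; omega),
      Matrix.one_apply_ne (by simp), zero_mul]
  · rw [hv z, mul_zero]

omit hker hm in
theorem levi_transvection_map {i j : Fin m} (hij : i ≠ j) (c : F) :
    θ (sympLevi m (Matrix.SpecialLinearGroup.toGL (Matrix.SpecialLinearGroup.transvection hij c))) ∈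
      {x : G | x ∈ Subgroup.normalizer (((siegel F m).map θ : Subgroup G) : Set G) ∧
        ∃ k : ℕ, x ^ p ^ k = 1} := by
  refine ⟨mem_normalizer_siegel (p := p) (fun v hv => levi_mem_L _ hv) (fun v hv => ?_), 1, ?_⟩
  · rw [← map_inv]; exact levi_mem_L _ hv
  · rw [← map_pow, ← map_pow, ← map_pow, PSLN.transvection_pow_char, map_one, map_one, map_one]

/-- The Siegel radical contains its centraliser. -/
theorem centralizer_siegel (hθ : Function.Surjective θ) :
    Subgroup.centralizer (((siegel F m).map θ : Subgroup G) : Set G) ≤ (siegel F m).map θ := by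
  intro x hx
  obtain ⟨g, rfl⟩ := hθ x
  have hfix : ∀ v : V, InL v → ∀ c : F, sympTv ((g : MI) *ᵥ v) c = sympTv v c := fun v hv c => by
    have hm1 := tv_mem_siegel hv c
    refine tv_single_conj g c (conj_eq_of_map_eq (p := p) hker hm (siegel_le_uniS hm1)
      (siegel_le_uniS hm1) ?_)
    rw [← Subgroup.mem_centralizer_iff.1 hx _ ⟨_, hm1, rfl⟩, mul_inv_cancel_right]
  have heig : ∀ v : V, v ≠ 0 → InL v → ∃ a : F, a ^ 2 = 1 ∧ (g : MI) *ᵥ v = a • v := by
    intro v hv hW
    obtain ⟨b, hb⟩ := exists_smul_of_tv_eq hv one_ne_zero (hfix v hW 1).symm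
    have hb0 : b ≠ 0 := fun h0 => hv (by rw [hb, h0, zero_smul])
    have hgv : (g : MI) *ᵥ v = b⁻¹ • v := by
      conv_rhs => rw [hb, smul_smul, inv_mul_cancel₀ hb0, one_smul]
    refine ⟨b⁻¹, ?_, hgv⟩
    have := hfix v hW 1
    rw [hgv, sympTv_smul] at this
    simpa using (sympTv_coeff_inj hv this)
  choose α hα2 hα using fun i : Fin m =>
    heig (Pi.single (Sum.inl i) 1) (by simp) (fun k => by simp)
  obtain ⟨o, -⟩ : ∃ o : Fin m, (o : ℕ) = 0 := ⟨⟨0, by omega⟩, rfl⟩
  have hαc : ∀ i, α i = α o := by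
    intro i
    rcases eq_or_ne i o with rfl | hio
    · rfl
    obtain ⟨a, -, ha⟩ := heig (Pi.single (Sum.inl i) 1 + Pi.single (Sum.inl o) 1)
      (fun h0 => by simpa [hio] using congrFun h0 (Sum.inl i)) (fun k => by simp)
    rw [Matrix.mulVec_add, hα, hα] at ha
    have h1 := congrFun ha (Sum.inl i)
    have h2 := congrFun ha (Sum.inl o)
    simp [hio, hio.symm] at h1 h2
    rw [h1, h2]
  have haa : α o * α o = 1 := by rw [← sq]; exact hα2 o
  let z : Sp := ⟨α o • (1 : MI), by
    rw [SymplecticGroup.mem_iff, Matrix.transpose_smul, Matrix.transpose_one, Matrix.smul_mul,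
      Matrix.one_mul, Matrix.smul_mul, Matrix.mul_smul, Matrix.mul_one, smul_smul, haa, one_smul]⟩
  have hz : θ z = 1 := (hker z).2 ((pi_eq_one_iff (show m ≠ 0 by omega)).2 ⟨α o, hα2 o, rfl⟩)
  refine ⟨z * g, fun v hv => ?_, by rw [map_mul, hz, one_mul]⟩
  have hgv : (g : MI) *ᵥ v = α o • v := by
    funext x
    rw [Matrix.mulVec, dotProduct, Fintype.sum_sum_type]
    have hcol : ∀ j, (g : MI) x (Sum.inl j) = if x = Sum.inl j then α o else 0 := fun j => by
      have := congrFun (hα j) x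
      rw [Matrix.mulVec_single_one, Matrix.col_apply, hαc] at this
      rw [this]; simp [Pi.single_apply]
    rcases x with i | i <;> simp [hcol, hv _]
  rw [Submonoid.coe_mul, ← Matrix.mulVec_mulVec, hgv, Matrix.smul_mulVec, Matrix.one_mulVec,
    smul_smul, haa, one_smul]

/-- The radical of the point stabiliser contains its centraliser. -/
theorem centralizer_rad (hθ : Function.Surjective θ) {o : Fin m} (ho : (o : ℕ) = 0) :
    Subgroup.centralizer (((rad o).map θ : Subgroup G) : Set G) ≤ (rad o).map θ := by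
  intro x hx
  obtain ⟨g, rfl⟩ := hθ x
  have hcomm : ∀ s ∈ rad o, g * s * g⁻¹ = s := fun s hs =>
    conj_eq_of_map_eq (p := p) hker hm (rad_le_uniS ho hs) (rad_le_uniS ho hs) (by
      rw [← Subgroup.mem_centralizer_iff.1 hx _ ⟨_, hs, rfl⟩, mul_inv_cancel_right])
  have hc : ∀ w : V, w (Sum.inr o) = 0 → g * radElt o w = radElt o w * g := fun w hw =>
    mul_inv_eq_iff_eq_mul.1 (hcomm _ (radElt_mem hw))
  have h0 : sympTv (e0 F o) 1 ∈ rad o := by
    have := radElt_mem (o := o) (w := (0 : V)) rfl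
    rwa [radElt, add_zero, show sympTv (0 : V) (-1 : F) = 1 from
      Subtype.ext (by simp [sympTv, sympTransvection]), mul_one] at this
  have h1 := tv_single_conj g 1 (hcomm _ h0)
  obtain ⟨b, hb⟩ := exists_smul_of_tv_eq (e0_ne_zero o) one_ne_zero h1.symm
  have hb0 : b ≠ 0 := fun h0 => e0_ne_zero o (by rw [hb, h0, zero_smul])
  have hge : (g : MI) *ᵥ e0 F o = b⁻¹ • e0 F o := by
    conv_rhs => rw [hb, smul_smul, inv_mul_cancel₀ hb0, one_smul]
  have hb2 : (b⁻¹) ^ 2 = 1 := by
    rw [hge, sympTv_smul] at h1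
    simpa using (sympTv_coeff_inj (e0_ne_zero o) h1)
  have haa : b⁻¹ * b⁻¹ = 1 := by rw [← sq]; exact hb2
  let z : Sp := ⟨b⁻¹ • (1 : MI), by
    rw [SymplecticGroup.mem_iff, Matrix.transpose_smul, Matrix.transpose_one, Matrix.smul_mul,
      Matrix.one_mul, Matrix.smul_mul, Matrix.mul_smul, Matrix.mul_one, smul_smul, haa, one_smul]⟩
  have hz : θ z = 1 := (hker z).2 ((pi_eq_one_iff (show m ≠ 0 by omega)).2 ⟨b⁻¹, hb2, rfl⟩)
  refine ⟨z * g, ?_, by rw [map_mul, hz, one_mul]⟩
  show InRad o ((z * g : Sp) : MI)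
  rw [Submonoid.coe_mul, Matrix.smul_mul, Matrix.one_mul]
  exact mem_rad_of_commute hb2 hge hc

/-- The torus lies in the subgroup generated by `simpleGenSet`. -/
theorem diag_mem_gen [Finite G] (hθ : Function.Surjective θ) (S : Sylow p G)
    (hS : (S : Subgroup G) = (uniS F m).map θ) {A : GL (Fin m) F} {t : Fin m → F}
    (hA : (A : MM) = Matrix.diagonal t) (ht : ∀ i, t i ≠ 0) :
    θ (sympLevi m A) ∈ Subgroup.closure (simpleGenSet S) := by
  obtain ⟨o, ho⟩ : ∃ o : Fin m, (o : ℕ) = 0 := ⟨⟨0, by omega⟩, rfl⟩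
  obtain ⟨o1, ho1⟩ : ∃ o1 : Fin m, (o1 : ℕ) = 1 := ⟨⟨1, by omega⟩, rfl⟩
  have hne : o ≠ o1 := fun e => by rw [e] at ho; omega
  set c : F := ∏ i, t i with hc
  have hc0 : c ≠ 0 := Finset.prod_ne_zero_iff.2 fun i _ => ht i
  let s : Fin m → F := fun i => if i = o1 then t i / c else t i
  let r : Fin m → F := fun i => if i = o1 then c else 1
  have hs : ∏ i, s i = 1 := by
    have : ∀ i, s i = t i * (if i = o1 then c⁻¹ else 1) := fun i => by
      by_cases h : i = o1 <;> simp [s, h, div_eq_mul_inv]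
    simp only [this, Finset.prod_mul_distrib, Finset.prod_ite_eq', Finset.mem_univ, if_true, ← hc]
    exact mul_inv_cancel₀ hc0
  have hr : Matrix.det (Matrix.diagonal r) ≠ 0 := by
    rw [Matrix.det_diagonal, Finset.prod_ne_zero_iff]
    intro i _
    by_cases h : i = o1 <;> simp [r, h, hc0]
  let R : GL (Fin m) F := Matrix.GeneralLinearGroup.mkOfDetNeZero (Matrix.diagonal r) hr
  have hAe : A = Matrix.SpecialLinearGroup.toGL (PSLN.diagSL s hs) * R := by
    refine Units.ext ?_
    rw [Units.val_mul, hA]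
    show _ = ((PSLN.diagSL s hs : SLm) : MM) * Matrix.diagonal r
    rw [PSLN.coe_diagSL, Matrix.diagonal_mul_diagonal]
    congr 1
    funext i
    by_cases h : i = o1
    · subst h; simp [s, r, hc0]
    · simp [s, r, h]
  rw [hAe, map_mul, map_mul]
  refine mul_mem ?_ ?_
  · -- determinant one: the Siegel radical
    refine (Subgroup.closure_le ((Subgroup.closure (simpleGenSet S)).comap
      ((θ.comp (sympLevi m)).comp Matrix.SpecialLinearGroup.toGL))).2 ?_
      (PSLN.diagSL_mem_closure_diag2n (by omega) (m - 1) (by omega) s hs fun i hi => by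
        have := i.2; omega)
    rintro _ ⟨i, j, hij, a, ha, rfl⟩
    refine Subgroup.subset_closure ⟨?_, Or.inr ⟨(siegel F m).map θ, ?_, ?_,
      centralizer_siegel (p := p) hker hm hθ, ?_⟩⟩
    · rw [hS]
      exact diag_map (p := p) (Matrix.SpecialLinearGroup.diag2n_coe
        (show i ≠ j from fun e => by rw [e] at hij; omega) a ha)
    · rw [hS]; exact Subgroup.map_mono siegel_le_uniS
    · rw [hS]
      rintro _ ⟨u, hu, rfl⟩
      exact mem_normalizer_siegel (p := p) (fun v hv => uniS_map_L (p := p) hu hv)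
        (fun v hv => uniS_map_L (p := p) (inv_mem hu) hv)
    · show θ (sympLevi m (Matrix.SpecialLinearGroup.toGL _)) ∈ _
      rw [Classical.diag2n_eq_transvections]
      simp only [map_mul]
      refine mul_mem (mul_mem (mul_mem (mul_mem (mul_mem ?_ ?_) ?_) ?_) ?_) ?_ <;>
        exact Subgroup.subset_closure (levi_transvection_map (p := p) _ _)
  · -- the remaining factor: the radical of the point stabiliser
    have hh : sympForm m F (Pi.single (Sum.inr o1) 1) (Pi.single (Sum.inl o1) 1 : V) = 1 := by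
      rw [sympForm_single_inl]; simp
    have he : sympLevi m R = planeHom hh (Matrix.SpecialLinearGroup.diag2n
        (show (0 : Fin 2) ≠ 1 by decide) c hc0) := by
      have hRi : ((R⁻¹ : GL (Fin m) F) : MM) = Matrix.diagonal fun i => (r i)⁻¹ := by
        rw [Matrix.coe_units_inv]
        refine Matrix.inv_eq_right_inv ?_
        show Matrix.diagonal r * _ = 1
        rw [Matrix.diagonal_mul_diagonal, ← Matrix.diagonal_one]
        refine congrArg _ (funext fun i => mul_inv_cancel₀ ?_)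
        by_cases h : i = o1 <;> simp [r, h, hc0]
      refine Subtype.ext (Matrix.ext_iff_mulVec.2 fun x => ?_)
      rw [planeHom_apply, planeFun, sympForm_single_inl, mul_one,
        sympForm_swap (Pi.single (Sum.inr o1) 1) x, sympForm_single_inr]
      funext y
      rcases y with i | i
      · rw [(levi_mulVec R x i).1]
        show (Matrix.diagonal r *ᵥ _) i = _
        by_cases h : i = o1 <;>
          simp [r, h, Matrix.mulVec_diagonal, Matrix.SpecialLinearGroup.diag2n_coe]
        ring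
      · rw [(levi_mulVec R x i).2, hRi, Matrix.diagonal_transpose]
        by_cases h : i = o1 <;>
          simp [r, h, Matrix.mulVec_diagonal, Matrix.SpecialLinearGroup.diag2n_coe]
        ring
    refine Subgroup.subset_closure ⟨?_, Or.inr ⟨(rad o).map θ, ?_, ?_,
      centralizer_rad (p := p) hker hm hθ ho, ?_⟩⟩
    · rw [hS]; exact diag_map (p := p) (A := R) rfl
    · rw [hS]; exact Subgroup.map_mono (rad_le_uniS ho)
    · rw [hS]
      rintro _ ⟨u, hu, rfl⟩
      exact mem_normalizer_rad (p := p) (uniS_fix (p := p) hm ho hu)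
    · have htv : ∀ (v : V) (d : F), v (Sum.inr o) = 0 → θ (sympTv v d) ∈ Subgroup.closure
          {x : G | x ∈ Subgroup.normalizer (((rad o).map θ : Subgroup G) : Set G) ∧
            ∃ k : ℕ, x ^ p ^ k = 1} := fun v d hv => by
        refine Subgroup.subset_closure ⟨mem_normalizer_rad (p := p) ?_, 1, ?_⟩
        · rw [sympTv_apply, sympForm_swap, e0, sympForm_single_inl, hv]
          simp
        · have hpow : ∀ k : ℕ, sympTv v d ^ k = sympTv v ((k : F) * d) := fun k => by
            induction k with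
            | zero => simp [sympTv_zero]
            | succ k ih => rw [pow_succ, ih, sympTv_mul, Nat.cast_succ, add_mul, one_mul]
          rw [← map_pow, pow_one, hpow, CharP.cast_eq_zero, zero_mul, sympTv_zero, map_one]
      rw [he, Classical.diag2n_eq_transvections]
      simp only [map_mul, planeHom_upper, planeHom_lower]
      refine mul_mem (mul_mem (mul_mem (mul_mem (mul_mem ?_ ?_) ?_) ?_) ?_) ?_ <;>
        exact htv _ _ (by simp [hne, Ne.symm hne])

omit hker hm hpF hpC in
theorem transvection_col {o o1 : Fin m} (hne : o ≠ o1) (d : F) :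
    ((Matrix.SpecialLinearGroup.transvection hne d : SLm) : MM) *ᵥ Pi.single o1 (1 : F) =
      d • Pi.single o (1 : F) + Pi.single o1 1 := by
  rw [Matrix.SpecialLinearGroup.transvection_coe]
  funext k
  rw [Matrix.mulVec_single_one, Matrix.col_apply, Matrix.add_apply, Pi.add_apply, Pi.smul_apply]
  simp only [Matrix.one_apply, Matrix.single_apply, Pi.single_apply, smul_eq_mul]
  by_cases h1 : k = o <;> by_cases h2 : k = o1
  · exact absurd (h1.symm.trans h2) hne
  all_goals simp_all [eq_comm]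

omit hker hm hpF hpC in
theorem sq1_pair {o o1 : Fin m} (hne : o ≠ o1) (d : F) :
    SymSpan.sq1 (d • Pi.single o (1 : F) + Pi.single o1 1) - SymSpan.sq1 (Pi.single o1 (1 : F)) -
      (Matrix.single o o1 d + Matrix.single o1 o d) = (d * d) • SymSpan.sq1 (Pi.single o (1 : F)) := by
  ext k l
  simp only [SymSpan.sq1, Matrix.sub_apply, Matrix.add_apply, Matrix.smul_apply,
    Matrix.vecMulVec_apply, Pi.add_apply, Pi.smul_apply, smul_eq_mul, Matrix.single_apply,
    Pi.single_apply]
  rcases eq_or_ne k o with rfl | h1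
  · rcases eq_or_ne l k with rfl | h3
    · simp [hne, Ne.symm hne]
    · rcases eq_or_ne l o1 with rfl | h4
      · simp [hne, Ne.symm hne]
      · simp [hne, Ne.symm hne, h3, Ne.symm h3, h4, Ne.symm h4]
  · rcases eq_or_ne k o1 with rfl | h2
    · rcases eq_or_ne l o with rfl | h3
      · simp [h1, Ne.symm h1]
      · simp [h1, Ne.symm h1, h3, Ne.symm h3]
    · simp [h1, Ne.symm h1, h2, Ne.symm h2]

omit hker hm hpF hpC in
/-- A Weyl element exchanging a short root group of the Siegel radical and one of the Levi factor. -/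
theorem exists_swap_short {i j : Fin m} (hij : i ≠ j) (x : F) :
    ∃ w : Sp, ∀ h : (Matrix.single i j x + Matrix.single j i x : MM)ᵀ =
        Matrix.single i j x + Matrix.single j i x,
      w * xM _ h * w⁻¹ =
        sympLevi m (Matrix.SpecialLinearGroup.toGL (Matrix.SpecialLinearGroup.transvection hij x)) := by
  have hh : sympForm m F (Pi.single (Sum.inr j) 1) (Pi.single (Sum.inl j) 1 : V) = 1 := by
    rw [sympForm_single_inl]; simp
  obtain ⟨W, hW⟩ : ∃ W : Matrix.SpecialLinearGroup (Fin 2) F,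
      (W : Matrix (Fin 2) (Fin 2) F) = !![0, 1; -1, 0] :=
    ⟨⟨!![0, 1; -1, 0], by simp [Matrix.det_fin_two]⟩, rfl⟩
  refine ⟨planeHom hh W, fun h => ?_⟩
  rw [mul_inv_eq_iff_eq_mul]
  refine Subtype.ext (Matrix.ext_iff_mulVec.2 fun y => ?_)
  rw [Submonoid.coe_mul, Submonoid.coe_mul, ← Matrix.mulVec_mulVec, ← Matrix.mulVec_mulVec,
    planeHom_apply, planeHom_apply, levi_transvection_coe, xM_coe]
  simp only [planeFun, hW, Matrix.of_apply, Matrix.cons_val', Matrix.cons_val_zero,
    Matrix.cons_val_one, Matrix.cons_val_fin_one, sympForm_single_inl, mul_one,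
    sympForm_swap (Pi.single (Sum.inr j) (1 : F)), sympForm_single_inr, Matrix.fromBlocks_mulVec,
    Matrix.add_mulVec, Matrix.one_mulVec]
  funext k
  rcases k with k | k <;> by_cases hk : k = i <;> by_cases hk' : k = j <;>
    simp_all [Matrix.single_mulVec_eq, Pi.single_apply, Ne.symm] <;> ring

set_option maxHeartbeats 1000000 in
/-- A strongly closed normal subgroup meeting the centre is everything. -/
theorem uniS_le_of_closed (hex : m = 2 → 3 ≤ Fintype.card F) [Finite G] {T : Subgroup G}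
    (hTn : (uniS F m).map θ ≤ Subgroup.normalizer (T : Set G))
    (hTc : ∀ g : G, ∀ x ∈ T, g * x * g⁻¹ ∈ (uniS F m).map θ → g * x * g⁻¹ ∈ T)
    {g : Sp} (hgT : θ g ∈ T) (hg1 : θ g ≠ 1)
    (hgz : ∀ u ∈ uniS F m, θ u * θ g = θ g * θ u) :
    (uniS F m).map θ ≤ T := by
  obtain ⟨a, c, b, ha, h2b, hge⟩ := centralizer_uniS hm (s := g) fun u hu => by
    have h := (hgz u hu).symm
    have h2 : θ (g * u * g⁻¹ * u⁻¹) = 1 := by
      simp only [map_mul, map_inv, h]; group
    have h3 := (hker _).1 h2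
    simp only [map_mul, map_inv] at h3
    exact mul_inv_eq_iff_eq_mul.1 (mul_inv_eq_one.1 h3)
  obtain ⟨o, ho⟩ : ∃ o : Fin m, o = (⟨0, by omega⟩ : Fin m) := ⟨_, rfl⟩
  obtain ⟨o1, ho1⟩ : ∃ o1 : Fin m, o1 = (⟨1, by omega⟩ : Fin m) := ⟨_, rfl⟩
  have hne : o ≠ o1 := by rw [ho, ho1]; simp
  rw [← ho, ← ho1] at hge
  -- the symmetric matrices in `T`
  let 𝔸 : AddSubgroup MM :=
    { carrier := {M | ∃ h : Mᵀ = M, θ (xM M h) ∈ T}
      zero_mem' := ⟨Matrix.transpose_zero, by rw [xM_zero, map_one]; exact one_mem _⟩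
      add_mem' := by
        rintro M N ⟨h, hM⟩ ⟨h', hN⟩
        refine ⟨by rw [Matrix.transpose_add, h, h'], ?_⟩
        rw [← xM_mul M N h h', map_mul]
        exact mul_mem hM hN
      neg_mem' := by
        rintro M ⟨h, hM⟩
        refine ⟨by rw [Matrix.transpose_neg, h], ?_⟩
        have h' : (-M)ᵀ = -M := by rw [Matrix.transpose_neg, h]
        have : xM (-M) h' = (xM M h)⁻¹ := by
          refine eq_inv_of_mul_eq_one_left ?_
          rw [xM_mul (-M) M h' h (by simp), xM_congr (neg_add_cancel M) _ Matrix.transpose_zero, xM_zero]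
        rw [this, map_inv]
        exact inv_mem hM }
  have hsU : ∀ (M : MM) (h : Mᵀ = M), θ (xM M h) ∈ (uniS F m).map θ := fun M h =>
    ⟨_, siegel_le_uniS (xM_mem_siegel M h), rfl⟩
  have hcongr : SymSpan.Congr 𝔸 := by
    rintro P M hP ⟨h, hM⟩
    have h' : (P * M * Pᵀ)ᵀ = P * M * Pᵀ := by
      rw [Matrix.transpose_mul, Matrix.transpose_mul, Matrix.transpose_transpose, h, Matrix.mul_assoc]
    refine ⟨h', ?_⟩
    have he := levi_xM hP.unit M h h'
    have := hTc (θ (sympLevi m hP.unit)) _ hM (by rw [← map_mul, ← map_inv, ← map_mul, he]; exact hsU _ _)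
    rwa [← map_mul, ← map_inv, ← map_mul, he] at this
  obtain ⟨S01, hS01⟩ : ∃ S01 : F → MM, S01 = fun x => Matrix.single o o1 x + Matrix.single o1 o x :=
    ⟨_, rfl⟩
  have hshort := fun (i j : Fin m) (hij : i ≠ j) (x : F) => exists_swap_short hij x
  -- a long root element
  have hlong : ∃ d : F, d ≠ 0 ∧ d • SymSpan.sq1 (Pi.single o (1 : F)) ∈ 𝔸 := by
    have hM0s : (Matrix.single o o c + S01 b)ᵀ = Matrix.single o o c + S01 b := by
      simp [hS01, add_comm]
    have hM0 : Matrix.single o o c + S01 b ∈ 𝔸 := by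
      refine ⟨hM0s, ?_⟩
      have hgx : (g : MI) = a • ((xM _ hM0s : Sp) : MI) := by
        rw [hge, xM_coe]
        congr 1
        ext (k | k) (l | l) <;> simp [hS01, Matrix.one_apply, Matrix.single_apply] <;> ring
      have haa : a * a = 1 := by rw [← sq]; exact ha
      let z : Sp := ⟨a • (1 : MI), by
        rw [SymplecticGroup.mem_iff, Matrix.transpose_smul, Matrix.transpose_one, Matrix.smul_mul,
          Matrix.one_mul, Matrix.smul_mul, Matrix.mul_smul, Matrix.mul_one, smul_smul, haa, one_smul]⟩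
      have hz : θ z = 1 := (hker z).2 ((pi_eq_one_iff (show m ≠ 0 by omega)).2 ⟨a, ha, rfl⟩)
      have : g = z * xM _ hM0s := Subtype.ext (by
        rw [hgx, Submonoid.coe_mul, Matrix.smul_mul, Matrix.one_mul])
      rwa [this, map_mul, hz, one_mul] at hgT
    have hnz : c = 0 → b = 0 → False := by
      rintro rfl rfl
      refine hg1 ((hker g).2 ((pi_eq_one_iff (show m ≠ 0 by omega)).2 ⟨a, ha, ?_⟩))
      rw [hge]
      simp
    -- from a pure short element
    have hfromShort : ∀ d : F, d ≠ 0 → S01 d ∈ 𝔸 → ∃ e : F, e ≠ 0 ∧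
        e • SymSpan.sq1 (Pi.single o (1 : F)) ∈ 𝔸 := by
      intro d hd hdA
      obtain ⟨hs1, hd1⟩ := hdA
      obtain ⟨w, hw⟩ := hshort o o1 hne d
      subst hS01
      have hl : θ (sympLevi m (Matrix.SpecialLinearGroup.toGL
          (Matrix.SpecialLinearGroup.transvection hne d))) ∈ T := by
        rw [← hw hs1, map_mul, map_mul, map_inv]
        refine hTc _ _ hd1 ?_
        rw [← map_inv, ← map_mul, ← map_mul, hw hs1]
        exact ⟨_, levi_mem_uniS (by rw [Fin.lt_def, ho, ho1]; norm_num) d, rfl⟩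
      set L := Matrix.SpecialLinearGroup.toGL (Matrix.SpecialLinearGroup.transvection hne d)
      have hN : (Matrix.single o1 o1 (1 : F) : MM)ᵀ = Matrix.single o1 o1 1 := by simp
      have h' : ((L : MM) * Matrix.single o1 o1 1 * (L : MM)ᵀ)ᵀ =
          (L : MM) * Matrix.single o1 o1 1 * (L : MM)ᵀ := by
        rw [Matrix.transpose_mul, Matrix.transpose_mul, Matrix.transpose_transpose, hN, Matrix.mul_assoc]
      have hdiff : (L : MM) * Matrix.single o1 o1 1 * (L : MM)ᵀ - Matrix.single o1 o1 1 ∈ 𝔸 := by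
        refine ⟨by rw [Matrix.transpose_sub, h', hN], ?_⟩
        have hsub : (-Matrix.single o1 o1 (1 : F) : MM)ᵀ = -Matrix.single o1 o1 1 := by
          rw [Matrix.transpose_neg, hN]
        have hinv : (xM _ hN : Sp)⁻¹ = xM _ hsub := by
          refine inv_eq_of_mul_eq_one_right ?_
          rw [xM_mul _ _ hN hsub (by simp), xM_congr (add_neg_cancel _) _ Matrix.transpose_zero, xM_zero]
        rw [xM_congr (sub_eq_add_neg _ _) _ (by rw [Matrix.transpose_add, h', hsub]),
          ← xM_mul _ _ h' hsub, ← levi_xM L _ hN h', ← hinv]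
        simp only [map_mul, map_inv, mul_assoc]
        refine mul_mem hl ?_
        have := (Subgroup.mem_normalizer_iff.1 (hTn (hsU _ hN)) _).1 (inv_mem hl)
        simpa [mul_assoc] using this
      have he : (L : MM) * Matrix.single o1 o1 1 * (L : MM)ᵀ - Matrix.single o1 o1 1 -
          (Matrix.single o o1 d + Matrix.single o1 o d) = (d * d) • SymSpan.sq1 (Pi.single o (1 : F)) := by
        rw [SymSpan.single_self_eq o1 (1 : F), one_smul, SymSpan.congr_sq1]
        have hLv : (L : MM) *ᵥ Pi.single o1 (1 : F) = d • Pi.single o (1 : F) + Pi.single o1 1 :=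
          transvection_col hne d
        rw [hLv]
        exact sq1_pair hne d
      exact ⟨d * d, mul_ne_zero hd hd, he ▸ 𝔸.sub_mem hdiff ⟨hs1, hd1⟩⟩
    by_cases hb : b = 0
    · refine ⟨c, fun h => hnz h hb, ?_⟩
      rw [hb] at hM0
      simpa [hS01, SymSpan.single_self_eq] using hM0
    by_cases hc : c = 0
    · rw [hc] at hM0
      exact hfromShort b hb (by simpa using hM0)
    have h2 : (2 : F) = 0 := (mul_eq_zero.1 h2b).resolve_right hb
    by_cases hq : 3 ≤ Fintype.card F
    · obtain ⟨x, hx0, hx1⟩ : ∃ x : F, x ≠ 0 ∧ x ≠ 1 := by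
        by_contra hcon
        push Not at hcon
        have : (Finset.univ : Finset F) ⊆ {0, 1} := fun y _ => by
          by_cases hy : y = 0
          · simp [hy]
          · simp [hcon y hy]
        have := Finset.card_le_card this
        simp at this
        omega
      let v : Fin m → F := fun i => if i = o1 then x else 1
      have hv : IsUnit (Matrix.diagonal v) := by
        rw [Matrix.isUnit_iff_isUnit_det, Matrix.det_diagonal, isUnit_iff_ne_zero,
          Finset.prod_ne_zero_iff]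
        intro i _
        by_cases h : i = o1 <;> simp [v, h, hx0]
      have h3 := 𝔸.sub_mem hM0 (hcongr _ _ hv hM0)
      refine hfromShort (b * (1 - x)) (mul_ne_zero hb (sub_ne_zero.2 (Ne.symm hx1))) ?_
      convert h3 using 1
      rw [Matrix.diagonal_transpose]
      ext k l
      simp only [hS01, v, Matrix.sub_apply, Matrix.add_apply, Matrix.mul_diagonal, Matrix.diagonal_mul,
        Matrix.single_apply]
      by_cases h1 : k = o <;> by_cases h2 : k = o1 <;> by_cases h3 : l = o <;>
        by_cases h4 : l = o1 <;> simp_all [Ne.symm] <;> ring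
    · have hall : ∀ y : F, y ≠ 0 → y = 1 := by
        intro y hy
        by_contra h1
        refine hq ?_
        have : ({0, 1, y} : Finset F).card = 3 := by
          rw [Finset.card_insert_of_notMem, Finset.card_pair (Ne.symm h1)]
          simp [Ne.symm hy]
        exact this ▸ Finset.card_le_univ _
      have hm3 : 3 ≤ m := by
        by_contra h3
        exact hq (hex (by omega))
      obtain ⟨o2, ho2⟩ : ∃ o2 : Fin m, o2 = (⟨2, by omega⟩ : Fin m) := ⟨_, rfl⟩
      haveI : CharP F 2 := CharTwo.of_one_ne_zero_of_two_eq_zero one_ne_zero h2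
      refine ⟨1, one_ne_zero, ?_⟩
      rw [one_smul]
      refine SymSpan.single_mem_of_two hcongr hne (o2 := o2) (by rw [ho, ho2]; simp)
        (by rw [ho1, ho2]; simp) ?_
      rw [hall c hc, hall b hb, hS01] at hM0
      exact hM0
  obtain ⟨d, hd0, hd⟩ := hlong
  have hall : ∀ (M : MM) (h : Mᵀ = M), θ (xM M h) ∈ T := fun M h =>
    (SymSpan.symm_mem hcongr hd0 hd h).2
  have hlevi : ∀ (i j : Fin m) (hij : i < j) (x : F),
      θ (sympLevi m (Matrix.SpecialLinearGroup.toGL
        (Matrix.SpecialLinearGroup.transvection hij.ne x))) ∈ T := by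
    intro i j hij x
    obtain ⟨w, hw⟩ := hshort i j hij.ne x
    have h : (Matrix.single i j x + Matrix.single j i x : MM)ᵀ =
        Matrix.single i j x + Matrix.single j i x := by simp [add_comm]
    rw [← hw h, map_mul, map_mul, map_inv]
    refine hTc _ _ (hall _ h) ?_
    rw [← map_inv, ← map_mul, ← map_mul, hw h]
    exact ⟨_, levi_mem_uniS hij x, rfl⟩
  rintro _ ⟨u, hu, rfl⟩
  obtain ⟨A, hAu, hAs⟩ := exists_levi (g := u) fun v hv =>
    mul_mem (mul_mem (inv_mem hu) hv) hu
  have hAd : ∀ i, (A : MM) i i = 1 := by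
    intro i
    obtain ⟨M, h, hM⟩ := exists_xM hAs
    have h2 : u = sympLevi m A * xM M h := by rw [← hM, mul_inv_cancel_left]
    have h3 := hu (Sum.inl i) (Sum.inl i) le_rfl
    rw [h2, Submonoid.coe_mul, xM_coe] at h3
    change ((Matrix.fromBlocks (A : MM) 0 0 (((A⁻¹ : GL (Fin m) F) : MM))ᵀ : MI) *
      Matrix.fromBlocks 1 M 0 1 : MI) _ _ = _ at h3
    rw [Matrix.fromBlocks_multiply] at h3
    simpa using h3
  have hdet : Matrix.det (A : MM) = 1 := by
    rw [Matrix.det_of_isUpperTriangular (fun i j h => hAu i j h)]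
    exact Finset.prod_eq_one fun i _ => hAd i
  let B : SLm := ⟨(A : MM), hdet⟩
  have hB : B ∈ PSLN.unip F m := ⟨fun i j h => hAu i j h, hAd⟩
  have hle : PSLN.unip F m ≤
      T.comap ((θ.comp (sympLevi m)).comp Matrix.SpecialLinearGroup.toGL) := by
    refine PSLN.unip_le_closure.trans ((Subgroup.closure_le _).2 ?_)
    rintro _ ⟨i, j, hij, x, rfl⟩
    exact hlevi i j hij x
  have h1 : θ (sympLevi m A) ∈ T := by
    have := hle hB
    rwa [Subgroup.mem_comap, show ((θ.comp (sympLevi m)).comp Matrix.SpecialLinearGroup.toGL) B =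
      θ (sympLevi m A) from congrArg (fun A => θ (sympLevi m A)) (Units.ext rfl)] at this
  obtain ⟨M, h, hM⟩ := exists_xM hAs
  rw [← mul_inv_cancel_left (sympLevi m A) u, hM, map_mul]
  exact mul_mem h1 (hall M h)

/-- Simplicity of the fusion system on the image of the unitriangular group. -/
theorem isSimple_of_eq (hex : m = 2 → 3 ≤ Fintype.card F) [Finite G] (hθ : Function.Surjective θ)
    (S : Sylow p G) (hS : (S : Subgroup G) = (uniS F m).map θ) :
    (groupFusionSystem (S : Subgroup G)).IsSimple p := by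
  refine isSimple_group_of S ?_ ?_ ?_
  · rw [hS]
    intro h
    obtain ⟨o, -⟩ : ∃ o : Fin m, (o : ℕ) = 0 := ⟨⟨0, by omega⟩, rfl⟩
    refine rootV_tv_ne_one (e0_ne_zero o) (one_ne_zero (α := F)) ((hker _).1 ?_)
    rw [← Subgroup.mem_bot, ← h]
    exact ⟨_, tv_mem_uniS (fun i => by simp [e0]) 1, rfl⟩
  · intro T hTS hT hTn hTc
    haveI : Group.IsNilpotent (S : Subgroup G) := S.2.isNilpotent
    haveI : (T.subgroupOf (S : Subgroup G)).Normal := Subgroup.normal_subgroupOf_of_le_normalizer hTn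
    obtain ⟨⟨x, hxS⟩, ⟨hxT, hxc⟩, hx1⟩ := Subgroup.bot_or_exists_ne_one _ |>.resolve_left
      (Grp.inf_center_ne_bot (T.subgroupOf (S : Subgroup G)) fun h => hT (by
        rw [Subgroup.subgroupOf_eq_bot] at h
        exact h.eq_bot_of_le hTS))
    obtain ⟨g, hg, rfl⟩ : ∃ g ∈ uniS F m, θ g = x := by rw [hS] at hxS; exact hxS
    rw [hS] at hTn hTc ⊢
    refine uniS_le_of_closed (p := p) hker hm hex hTn hTc hxT (fun e => hx1 (Subtype.ext e))
      fun u hu => ?_
    exact congrArg Subtype.val (Subgroup.mem_center_iff.1 hxc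
      ⟨θ u, by rw [hS]; exact ⟨u, hu, rfl⟩⟩)
  · intro x hx
    obtain ⟨g, rfl⟩ := hθ x
    rw [hS] at hx
    obtain ⟨A, t, hA, ht, htu⟩ := exists_diag_mul (p := p) hker hm hx
    rw [← mul_inv_cancel_left (sympLevi m A) g, map_mul]
    refine mul_mem (diag_mem_gen (p := p) hker hm hθ S hS hA ht) (Subgroup.subset_closure ?_)
    have : θ ((sympLevi m A)⁻¹ * g) ∈ (S : Subgroup G) := by rw [hS]; exact ⟨_, htu, rfl⟩
    exact ⟨Subgroup.le_normalizer this, Or.inl this⟩

omit hker in
/-- The fusion system of `PSp_{2m}(q)` in the defining characteristic is simple. -/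
theorem isSimple_psp (hex : m = 2 → 3 ≤ Fintype.card F) (S : Sylow p (PSp m F)) :
    (groupFusionSystem (S : Subgroup (PSp m F))).IsSimple p := by
  obtain ⟨P, hP⟩ := ((isPGroup_uniS (F := F) (p := p) (show m ≠ 0 by omega)).map
    (spToPSp m F)).exists_le_sylow
  have hPeq := eq_map_uniS (p := p) (θ := spToPSp m F) (fun _ => Iff.rfl) hm
    (QuotientGroup.mk'_surjective _) P hP
  obtain ⟨g, hg⟩ := MulAction.exists_smul_eq (PSp m F) P S
  refine isSimple_of_eq (p := p) (θ := (MulAut.conj g).toMonoidHom.comp (spToPSp m F)) ?_ hm hex ?_ S ?_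
  · intro A; simp
  · exact (MulAut.conj g).surjective.comp (QuotientGroup.mk'_surjective _)
  · rw [← Subgroup.map_map, hPeq, ← hg]
    rfl

end Cfsg.Agent.Fus.PSpN
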