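import Mathlib
import Cfsg.Agent.Lib.Fus.CharTwoSylowBase
import Cfsg.Agent.Lib.Fus.PSLSimple
import Cfsg.Agent.Lib.Fus.PSpSimple

/-!
Squares in Sylow 2-subgroups in characteristic two: linear and symplectic groups.
-/

set_option autoImplicit false
set_option linter.style.haveILetI false
set_option linter.unusedSectionVars false

namespace Cfsg.Agent.Fus.CharTwoSyl

open Matrix Cfsg.Agent.Fus.PermWreath Cfsg.Agent.Classical Cfsg.Agent.Classical.PSpAut

variable {F : Type*} [Field F] [Fintype F] [CharP F 2] [hp2 : Fact (Nat.Prime 2)]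
include hp2

theorem unip_le_sqSub (n : ℕ) : PSLN.unip F n ≤ sqSub (PSLN.unip F n) := by
  refine PSLN.unip_le_closure.trans ((Subgroup.closure_le _).2 ?_)
  rintro _ ⟨a, b, hab, c, rfl⟩
  exact invol_mem_sqSub (PSLN.transvection_mem_unip hab c)
    (PSLN.transvection_pow_char (p := 2) hab.ne c)

theorem sq_psl (n : ℕ) {G : Type*} [Group G] [Finite G]
    (e : Matrix.ProjectiveSpecialLinearGroup (Fin n) F ≃* G) (P : Sylow 2 G) :
    Sq (P : Subgroup G) := by
  have hker₀ : ∀ A : (Matrix.SpecialLinearGroup (Fin n) F), slToPSL n F A = 1 ↔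
      A ∈ Subgroup.center (Matrix.SpecialLinearGroup (Fin n) F) := fun A =>
    QuotientGroup.eq_one_iff A
  obtain ⟨P₀, hP⟩ := ((PSLN.isPGroup_unip (K := F) (n := n) (p := 2)).map
    (slToPSL n F)).exists_le_sylow
  have hPeq := PSLN.eq_map_unip (p := 2) hker₀ slToPSL_surjective P₀ hP
  refine sq_sylow_equiv e (U := P₀) ?_ P
  rw [← hPeq]
  exact le_sqSub_map (unip_le_sqSub n) _

theorem uniS_le_sqSub (m : ℕ) : uniS F m ≤ sqSub (uniS F m) := by
  intro g hg
  obtain ⟨A, hA, hs⟩ := PSpN.exists_levi (g := g) fun u hu =>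
    mul_mem (mul_mem (inv_mem hg) hu) hg
  obtain ⟨M, hM, hx⟩ := PSpN.exists_xM hs
  have hAg : sympLevi m A * PSpN.xM M hM = g := by rw [← hx, mul_inv_cancel_left]
  have hxu : PSpN.xM M hM ∈ uniS F m := PSpN.siegel_le_uniS (PSpN.xM_mem_siegel M hM)
  have hxs : PSpN.xM M hM ∈ sqSub (uniS F m) := by
    refine invol_mem_sqSub hxu ?_
    have h0 : M + M = 0 := Matrix.ext fun i j => CharTwo.add_self_eq_zero _
    rw [sq, PSpN.xM_mul M M hM hM (by rw [h0, Matrix.transpose_zero]),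
      PSpN.xM_congr h0 _ Matrix.transpose_zero, PSpN.xM_zero]
  have hdiag : ∀ i, (A : Matrix (Fin m) (Fin m) F) i i = 1 := by
    intro i
    have h1 := congrFun (congrFun (congrArg
      (fun s : Matrix.symplecticGroup (Fin m) F =>
        (s : Matrix (Fin m ⊕ Fin m) (Fin m ⊕ Fin m) F)) hAg) (Sum.inl i)) (Sum.inl i)
    have h2 := (show IsUniS (g : Matrix (Fin m ⊕ Fin m) (Fin m ⊕ Fin m) F) from hg)
      (Sum.inl i) (Sum.inl i) le_rfl
    simp only [Submonoid.coe_mul, PSpN.xM_coe] at h1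
    rw [h2, Matrix.one_apply_eq, show ((sympLevi m A : Matrix.symplecticGroup (Fin m) F) :
      Matrix (Fin m ⊕ Fin m) (Fin m ⊕ Fin m) F) =
        Matrix.fromBlocks (A : Matrix (Fin m) (Fin m) F) 0 0
          (((A⁻¹ : GL (Fin m) F) : Matrix (Fin m) (Fin m) F))ᵀ from rfl,
      Matrix.fromBlocks_multiply] at h1
    simpa using h1
  have hdet : (A : Matrix (Fin m) (Fin m) F).det = 1 := by
    rw [Matrix.det_of_isUpperTriangular (fun i j h => hA i j h)]
    exact Finset.prod_eq_one fun i _ => hdiag i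
  have hB : (⟨_, hdet⟩ : Matrix.SpecialLinearGroup (Fin m) F) ∈ PSLN.unip F m :=
    ⟨fun i j h => hA i j h, hdiag⟩
  have hle : PSLN.unip F m ≤
      (sqSub (uniS F m)).comap ((sympLevi m).comp Matrix.SpecialLinearGroup.toGL) := by
    refine PSLN.unip_le_closure.trans ((Subgroup.closure_le _).2 ?_)
    rintro _ ⟨a, b, hab, c, rfl⟩
    refine invol_mem_sqSub (levi_mem_uniS hab c) ?_
    show ((sympLevi m).comp Matrix.SpecialLinearGroup.toGL) _ ^ 2 = 1
    have h := PSLN.transvection_pow_char (p := 2) hab.ne c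
    rw [pow_one] at h
    rw [← map_pow, h, map_one]
  have h1 : sympLevi m A ∈ sqSub (uniS F m) := by
    have := Subgroup.mem_comap.1 (hle hB)
    exact (show Matrix.SpecialLinearGroup.toGL (⟨_, hdet⟩ : Matrix.SpecialLinearGroup (Fin m) F) = A
      from Units.ext rfl) ▸ this
  rw [← hAg]
  exact mul_mem h1 hxs

theorem sq_psp {m : ℕ} (hm : 2 ≤ m) {G : Type*} [Group G] [Finite G]
    (e : Cfsg.PSp m F ≃* G) (P : Sylow 2 G) : Sq (P : Subgroup G) := by
  haveI : Finite (Cfsg.PSp m F) := Finite.of_equiv G e.symm.toEquiv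
  have hker₀ : ∀ s : Matrix.symplecticGroup (Fin m) F, spToPSp m F s = 1 ↔ spToPSp m F s = 1 :=
    fun _ => Iff.rfl
  obtain ⟨P₀, hP⟩ := ((isPGroup_uniS (p := 2) (F := F) (m := m) (by omega)).map
    (spToPSp m F)).exists_le_sylow
  have hPeq := PSpN.eq_map_uniS (p := 2) hker₀ hm (QuotientGroup.mk'_surjective _) P₀ hP
  refine sq_sylow_equiv e (U := P₀) ?_ P
  rw [← hPeq]
  exact le_sqSub_map (uniS_le_sqSub m) _

end Cfsg.Agent.Fus.CharTwoSyl
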