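import Mathlib
import Cfsg.Agent.Lib.Fus.CharTwoSylowBase
import Cfsg.Agent.Lib.Fus.UnitSylow

/-!
Squares in Sylow 2-subgroups in characteristic two: unitary groups. The square of a Heisenberg
element is a commutator of Heisenberg elements.
-/

set_option autoImplicit false
set_option linter.unusedSectionVars false
set_option linter.style.haveILetI false

namespace Cfsg.Agent.Fus.CharTwoSyl

open Matrix Cfsg.Agent.Classical Cfsg.Agent.Classical.PSUAut Cfsg.Agent.Fus.UnitN
  Cfsg.Agent.Fus.PermWreath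
open scoped commutatorElement

variable {F : Type*} [Field F] [Fintype F] {n q : ℕ}

local notation "V" => (Fin n → F)
local notation "SUn" => Cfsg.SU n F q

variable (hF : Fintype.card F = q ^ 2) [Fact (Nat.Prime 2)] [CharP F 2]

local notation "h" => Cfsg.hermForm n F q
local notation "cj" => qFrob hF

include hF

theorem eSU_mem_sqSub {P : Subgroup SUn} {W : Submodule F V} (hW : Frame q W) {z : V}
    {hzz : h z z = 0} (hz : z ∈ W) (hle : heisU hF z hzz ⊓ gW W ≤ P) {y : V}
    (hzy : IsPair (q := q) z y) (hy : y ∈ W)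
    {w : V} {c : F} (H : EOK (q := q) z w c) (hw : w ∈ nextW (q := q) W z y) :
    eSU hF H ∈ sqSub P := by
  have hmem : ∀ {w : V} {c : F} (H : EOK (q := q) z w c), w ∈ W → eSU hF H ∈ P :=
    fun {w c} H hw => hle ⟨⟨w, c, H, rfl⟩, eSU_mem_gW hF hz hw H⟩
  refine mem_sqSub.2 ⟨hmem H hw.1, ?_⟩
  rw [sq, eSU_mul]
  rcases eq_or_ne w 0 with rfl | hw0
  · rw [eSU_congr hF _ (EOK.zero hF hzz) (add_zero 0)
      (by rw [CharTwo.add_self_eq_zero, h_zero_left, sub_zero]), eSU_zero hF hzz]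
    exact one_mem _
  obtain ⟨α, hα⟩ := exists_trace_eq hF (a := h w w) (cj_h_self hF w)
  obtain ⟨u, hu, hwu⟩ : ∃ u ∈ nextW (q := q) W z y, h w u ≠ 0 := by
    by_contra! h0
    exact hw0 ((hW.next hF hzy hz hy).nondeg hF hw h0)
  set w' := cj (α / h w u) • u with hw'
  have hw'm : w' ∈ nextW (q := q) W z y := Submodule.smul_mem _ _ hu
  have hww' : h w w' = α := by
    rw [hw', h_smul_right hF, cj_cj hF, div_mul_cancel₀ _ hwu]
  obtain ⟨c', H'⟩ := EOK.exists_c hF hzz hw'm.2.1
  have key : eSU hF (H.mul hF H) = ⁅eSU hF H, eSU hF H'⁆ := by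
    rw [commutatorElement_def, eq_mul_inv_iff_mul_eq, eq_mul_inv_iff_mul_eq, mul_assoc,
      eSU_mul hF H' H, eSU_mul, eSU_mul]
    refine eSU_congr hF _ _ ?_ ?_
    · rw [show w + w + (w' + w) = (w + w) + (w + w') by abel, show w + w = 0 by
        funext i; simp [CharTwo.add_self_eq_zero], zero_add]
    · rw [h_add_left, h_add_right hF, h_add_right hF, hww', ← cj_h hF w w', hww']
      have h2 : (2 : F) = 0 := CharTwo.two_eq_zero
      linear_combination hα + (c - h w w - α - cj α) * h2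
  rw [key]
  exact Subgroup.commutator_mem_commutator (hmem H hw.1) (hmem H' hw'm.1)

theorem le_sqSub_unit {P : Subgroup SUn} (hP : IsPGroup 2 P) :
    ∀ (N : ℕ) (W : Submodule F V), Nat.card W = N → Frame q W → MaxIn 2 P W →
      P ⊓ gW W ≤ sqSub P := by
  intro N
  induction N using Nat.strong_induction_on with
  | _ N ih =>
  intro W hN hW hmax s hs
  rcases frame_dichotomy hF W with ⟨z0, hz0m, hz0, hz0z⟩ | hline
  · obtain ⟨z, hz, hzne, hzz, hfix⟩ := exists_fixed_isotropic (p := 2) hF hW hz0m hz0 hz0z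
      (hP.to_le (inf_le_left : P ⊓ gW W ≤ P)) inf_le_right
    obtain ⟨y, hy, hzy⟩ := exists_partner hF hW hz hzne hzz
    obtain ⟨w, c, H, hw, hrest⟩ := exists_heis_split hF hW hzy hz hy hs.2 (hfix s hs)
    have hheis := heis_le hF hP hmax hzz hfix
    have hEP : eSU hF H ∈ P := hheis ⟨⟨w, c, H, rfl⟩, eSU_mem_gW hF hz hw.1 H⟩
    have h2 := ih _ (hN ▸ next_card_lt hF hzy hz) _ rfl (hW.next hF hzy hz hy)
      (maxIn_next hF hW hP hmax hzy hz hy hfix)
      ⟨Subgroup.mul_mem _ (Subgroup.inv_mem _ hEP) hs.1, hrest⟩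
    have h3 := mul_mem (eSU_mem_sqSub hF hW hz hheis hzy hy H hw) h2
    rwa [mul_inv_cancel_left] at h3
  · rw [eq_one_of_line hF hW hline hs.2]
    exact one_mem _

theorem sq_psu {G : Type*} [Group G] [Finite G] (e : Cfsg.PSU n F q ≃* G) (P : Sylow 2 G) :
    Sq (P : Subgroup G) := by
  obtain ⟨U⟩ : Nonempty (Sylow 2 SUn) := inferInstance
  refine sq_sylow_image (e.toMonoidHom.comp (QuotientGroup.mk' _))
    (e.surjective.comp (QuotientGroup.mk'_surjective _)) (U := U) ?_ P
  intro x hx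
  exact le_sqSub_unit hF U.2 _ (⊤ : Submodule F V) rfl frame_top (maxIn_top hF U)
    ⟨hx, gW_top hF x⟩

end Cfsg.Agent.Fus.CharTwoSyl
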