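import Mathlib
import Cfsg.Agent.Lib.Fus.CharTwoSylowChev
import Cfsg.Agent.Lib.Fus.CharTwoSylowReeF
import Cfsg.Agent.Lib.Fus.CharTwoSylowLinear
import Cfsg.Agent.Lib.Fus.CharTwoSylowUnit
import Cfsg.Agent.Lib.Fus.CharTwoSylowOrth
import Cfsg.Prelude.Def_LieTypeChar

/-!
In every group of Lie type of characteristic two the squares of a Sylow 2-subgroup lie in its derived
subgroup.
-/

set_option autoImplicit false
set_option linter.style.haveILetI false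

namespace Cfsg.Agent.Fus.CharTwoSyl

open Cfsg Cfsg.Lie Cfsg.Agent.Lie.Chev Cfsg.Agent.Classical Cfsg.Agent.Classical.OrthAut
  Cfsg.Agent.Fus.PermWreath

theorem sq_lieType {G : Type*} [Group G] [Finite G] (hG : Cfsg.IsLieTypeChar 2 G) (P : Sylow 2 G) :
    Sq (P : Subgroup G) := by
  haveI : Fact (Nat.Prime 2) := ⟨Nat.prime_two⟩
  rcases hG with ⟨F, _, _, _, n, -, -, ⟨e⟩⟩ | ⟨F, _, _, _, m, hm, -, ⟨e⟩⟩ |
    ⟨F, _, _, _, n, q, hF, -, -, ⟨e⟩⟩ | ⟨F, _, _, _, m, -, hodd, -⟩ | ⟨F, _, _, _, m, hm, ⟨e⟩⟩ |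
    ⟨F, _, _, _, m, a, b, hm, hab, ⟨e⟩⟩ | ⟨F, _, _, _, he⟩ | ⟨K, _, _, _, q, hq, he⟩ |
    ⟨-, hs⟩ | ⟨-, K, _, _, m, hm, hK, ⟨e⟩⟩ | ⟨h32, -⟩
  · exact sq_psl n e.symm P
  · exact sq_psp hm e.symm P
  · exact sq_psu hF e.symm P
  · obtain ⟨k, -, hk⟩ := FiniteField.card F 2
    exact absurd hodd (by
      rw [Nat.not_odd_iff_even, hk]
      exact Nat.even_pow.2 ⟨even_two, k.2.ne'⟩)
  · exact sq_pomega (nondegenerate_qfPlus m) (tri_qfPlus (by omega)) (coe_qfPlus m) e.symm P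
  · exact sq_pomega (nondegenerate_qfMinus (m - 1) hab) (tri_qfMinus (by omega) a b)
      (coe_qfMinus (m - 1) a b) e.symm P
  · rcases he with ⟨-, ⟨e⟩⟩ | ⟨⟨e⟩⟩ | ⟨⟨e⟩⟩ | ⟨⟨e⟩⟩ | ⟨⟨e⟩⟩
    · exact sq_chev certFullG2 e.symm P
    · exact sq_chev certFullF4 e.symm P
    · exact sq_chev certFullE6 e.symm P
    · exact sq_chev certFullE7 e.symm P
    · exact sq_chev certFullE8 e.symm P
  · rcases he with ⟨hK, ⟨e⟩⟩ | ⟨hK, ⟨e⟩⟩
    · exact sq_twistedE6 hq hK e.symm P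
    · exact sq_twistedD4 hq hK e.symm P
  · exact sq_suzuki hs P
  · exact sq_twistedF4 hm hK e.symm P
  · exact absurd h32 (by norm_num)

end Cfsg.Agent.Fus.CharTwoSyl
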