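import Cfsg.Agent.Lib.Fus.ComponentFree
import Cfsg.Agent.Lib.Fus.ModelBasic
import Cfsg.Agent.Lib.Fus.NormalizerSat
import Cfsg.Agent.Lib.Fus.CentralizerSat
import Cfsg.Agent.Lib.Fus.CharTwo
import Cfsg.Agent.Lib.Fus.JInduction
import Cfsg.Agent.Lib.Grp.Frattini
import Cfsg.Agent.S5090

/-!
Every saturated system is of characteristic `p` type or of component type.
-/

set_option autoImplicit false
set_option linter.style.haveILetI false
set_option linter.unusedSectionVars false

open scoped Classical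

universe u

namespace Cfsg.Agent.Fus.CompFree

open Subgroup FusionSystem

variable {Ω : Type u} [Group Ω] {S : Subgroup Ω} {F : FusionSystem S} {p : ℕ} [Fact p.Prime]
  [Finite S]

/-- A nontrivial normal subgroup of `R` contains a central subgroup of order `p`. -/
theorem exists_central_order_p {R U : Subgroup Ω} [Finite R] (hR : IsPGroup p R) (hUR : U ≤ R)
    (hn : R ≤ Subgroup.normalizer (U : Set Ω)) (hne : U ≠ ⊥) :
    ∃ X ≤ U, Nat.card X = p ∧ ∀ x ∈ X, ∀ r ∈ R, r * x = x * r := by
  haveI : Group.IsNilpotent R := hR.isNilpotent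
  haveI : (U.subgroupOf R).Normal := Subgroup.normal_subgroupOf_of_le_normalizer hn
  have hne' : U.subgroupOf R ≠ ⊥ := fun h => hne (eq_bot_iff.2 fun x hx => by
    have : (⟨x, hUR hx⟩ : R) ∈ (⊥ : Subgroup R) := h ▸ hx
    exact congrArg Subtype.val (Subgroup.mem_bot.1 this))
  set A := U.subgroupOf R ⊓ Subgroup.center R
  have hA : A ≠ ⊥ := Grp.inf_center_ne_bot _ hne'
  haveI : Nontrivial A := A.nontrivial_iff_ne_bot.2 hA
  obtain ⟨a, ha⟩ : ∃ a : A, orderOf a = p := by
    refine exists_prime_orderOf_dvd_card' p ?_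
    obtain ⟨k, hk⟩ := (hR.to_subgroup A).exists_card_eq
    rw [hk]
    refine dvd_pow_self p fun h0 => ?_
    rw [h0, pow_zero] at hk
    exact (Finite.one_lt_card (α := A)).ne' hk
  refine ⟨Subgroup.zpowers ((a : R) : Ω), Subgroup.zpowers_le.2 a.2.1, ?_, fun x hx r hr => ?_⟩
  · rw [Nat.card_zpowers, Subgroup.orderOf_coe, Subgroup.orderOf_coe, ha]
  · obtain ⟨i, rfl⟩ := hx
    exact ((show Commute r ((a : R) : Ω) from
      congrArg Subtype.val (Subgroup.mem_center_iff.1 a.2.2 ⟨r, hr⟩)).zpow_right i).eq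

/-- When centralizers of subgroups of order `p` are constrained so are centralizers of `p`-subgroups
containing a central one. -/
theorem constrained_centralizer (hS : IsPGroup p S) (hF : F.IsSaturated p)
    (h : ∀ X : Subgroup Ω, ∀ hX : X ≤ S, Nat.card X = p → F.IsFullyNormalized X →
      (centralizerSystem F X hX).IsConstrained p)
    {U : Subgroup Ω} (hU : F.IsFullyNormalized U) (hne : U ≠ ⊥) :
    (centralizerSystem F U hU.1).IsConstrained p := by
  have hUS := hU.1
  set M := normalizerIn S U with hM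
  have hMS : M ≤ S := inf_le_left
  haveI := finite_of_le hMS
  have hUM : U ≤ M := le_normalizerIn hUS
  obtain ⟨X₀, hX₀U, hX₀p, hX₀c⟩ :=
    exists_central_order_p (hS.to_le hMS) hUM (inf_le_right : M ≤ _) hne
  obtain ⟨X, hX₀X, hXn⟩ := exists_fullyNormalized F (hX₀U.trans hUS)
  obtain ⟨f, hf, hfX, -⟩ := exists_map_to_fullyNormalized hS hF hXn hX₀X
  have hXS := hXn.1
  have hCM : centralizerIn S U ≤ M := centralizerIn_le_normalizerIn U
  have hMN : M ≤ normalizerIn S X₀ := fun m hm => ⟨hMS hm, mem_normalizer_of_forall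
    (fun x hx => by rw [hX₀c x hx m hm, mul_inv_cancel_right]; exact hx)
    (fun x hx => by
      rw [mul_assoc, ← hX₀c x hx m hm, inv_mul_cancel_left]
      exact hx)⟩
  have hX₀N : X₀ ≤ normalizerIn S X₀ := le_normalizerIn (hX₀U.trans hUS)
  have hC₀ : ∀ x ∈ M, f x ∈ centralizerIn S X := fun x hx => by
    rw [← hfX]
    exact hf.map_centralizerIn hX₀N (hMN hx) fun z hz => (hX₀c z hz x hx).symm
  have hfM : IsMap F M f := hf.res hMN
  set U' := fimg f U with hU'
  have hXU' : X ≤ U' := hfX ▸ fimg_mono f hX₀U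
  have hU'C : U' ≤ centralizerIn S X := fimg_le fun x hx => hC₀ x (hUM hx)
  set C := centralizerSystem F X hXS with hCdef
  have hCX := isCentralizerSystem_centralizerSystem F hXS
  have hcard : Nat.card X = p := (isConj_card hX₀X).trans hX₀p
  have hCc : C.IsConstrained p := h X hXS hcard hXn
  haveI : Finite ↥(centralizerIn S X) := finite_of_le (S := S) inf_le_left
  obtain ⟨G, iG, ι, hG⟩ := S5090.result p (hS.to_le (show centralizerIn S X ≤ S from inf_le_left)) C hCc
  obtain ⟨hfin, hreal, ⟨T, hT⟩, hchar⟩ := hG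
  -- the image of `U` in the model
  set W : Subgroup G := (U'.subgroupOf (centralizerIn S X)).map ι with hW
  set H := Subgroup.centralizer (W : Set G) with hH
  have hWp : IsPGroup p W := ((hS.to_le inf_le_left).to_subgroup _).map ι
  have hWU : ∀ u, ∀ hu : u ∈ U', ι ⟨u, hU'C hu⟩ ∈ W := fun u hu => ⟨⟨u, hU'C hu⟩, hu, rfl⟩
  haveI : Finite ↥(centralizerIn S U) := finite_of_le (S := S) inf_le_left
  let f₀ : centralizerIn S U →* centralizerIn S X :=
    MonoidHom.mk' (fun x => ⟨f x, hC₀ x (hCM x.2)⟩) fun a b =>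
      Subtype.ext (hfM.map_mul (hCM a.2) (hCM b.2))
  have hfc : ∀ x : centralizerIn S U, ∀ u ∈ U, f u * f x = f x * f u := fun x u hu => by
    rw [← hfM.map_mul (hUM hu) (hCM x.2), ← hfM.map_mul (hCM x.2) (hUM hu), x.2.2 u hu]
  let ι' : centralizerIn S U →* H := (ι.comp f₀).codRestrict H fun x => by
    refine Subgroup.mem_centralizer_iff.2 ?_
    rintro _ ⟨v, hv, rfl⟩
    obtain ⟨u, hu, hue⟩ := (hfM.res hUM).mem_fimg_iff.1 hv
    show ι v * ι (f₀ x) = ι (f₀ x) * ι v
    rw [← map_mul, ← map_mul]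
    refine congrArg ι (Subtype.ext ?_)
    show (v : Ω) * f x = f x * v
    rw [show (v : Ω) = f u from hue.symm]
    exact hfc x u hu
  have hι' : ∀ x : centralizerIn S U, (ι' x : G) = ι (f₀ x) := fun x => rfl
  have hinj : Function.Injective ι' := fun a b hab =>
    Subtype.ext (hfM.injOn (hCM a.2) (hCM b.2)
      (congrArg Subtype.val (hreal.1 (congrArg Subtype.val hab : ι (f₀ a) = ι (f₀ b)))))
  refine isConstrained_of_model (G := H) (ι := ι') ⟨inferInstance, ⟨hinj, fun P hP φ hφ => ?_⟩, ?_, ?_⟩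
  · have hPM : P ⊔ U ≤ M := sup_le (hP.trans hCM) hUM
    set P' := fimg f (P ⊔ U) with hP'
    have hP'C : P' ≤ centralizerIn S X := fimg_le fun x hx => hC₀ x (hPM hx)
    have hXP' : X ≤ P' := hXU'.trans (fimg_mono f le_sup_right)
    constructor
    · intro hmem
      obtain ⟨-, -, k, hk, hk1, hk2⟩ := mem_centralizerHom.1 hmem
      have hkM : ∀ x ∈ P ⊔ U, k x ∈ M := fun x hx => by
        have h1 := apply_mem_fimg k hx
        rw [hk.fimg_sup] at h1
        refine sup_le (fimg_le fun y hy => hCM ?_) (fimg_le fun y hy => ?_) h1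
        · rw [hk1 ⟨y, hy⟩]; exact hφ _
        · rw [hk2 y hy]; exact hUM hy
      obtain ⟨f', hf', hf1, hf2, -⟩ := (hfM.res hPM).exists_inv
      set m := fun y => f (k (f' y)) with hm
      have hmF : IsMap F P' m :=
        (hf'.comp hk fun y hy => (hf2 y hy).1).comp hfM fun y hy => hkM _ (hf2 y hy).1
      have hmU : ∀ u ∈ U', m u = u := fun u hu => by
        obtain ⟨v, hv, rfl⟩ := (hfM.res hUM).mem_fimg_iff.1 hu
        show f (k (f' (f v))) = f v
        rw [hf1 v (Subgroup.mem_sup_right hv), hk2 v hv]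
      have hmC : IsMap C P' m := (isMap_centralizerSystem hXS hCX).2 ⟨hP'C, fun y hy =>
        hC₀ _ (hkM _ (hf2 y hy).1), m, (sup_eq_left.2 hXP').symm ▸ hmF, fun _ _ => rfl,
        fun x hx => hmU x (hXU' hx)⟩
      obtain ⟨l, hl⟩ := exists_conj_of_isMap hreal hmC
      refine ⟨⟨l, Subgroup.mem_centralizer_iff.2 ?_⟩, fun x => Subtype.ext ?_⟩
      · rintro _ ⟨v, hv, rfl⟩
        have h1 := hl v (fimg_mono f le_sup_right hv)
        rw [show (⟨m v, hmC.apply_mem (fimg_mono f le_sup_right hv)⟩ : centralizerIn S X) = v from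
          Subtype.ext (hmU v hv)] at h1
        calc ι v * l = l * ι v * l⁻¹ * l := by rw [← h1]
          _ = l * ι v := by group
      · have hx : f x ∈ P' := apply_mem_fimg f (Subgroup.mem_sup_left x.2)
        have h1 := hl ⟨f x, hC₀ x (hCM (hP x.2))⟩ hx
        show ι (f₀ ⟨φ x, hφ x⟩) = l * ι (f₀ ⟨x, hP x.2⟩) * l⁻¹
        refine Eq.trans ?_ h1
        refine congrArg ι (Subtype.ext ?_)
        show f (φ x) = f (k (f' (f x)))
        rw [hf1 _ (Subgroup.mem_sup_left x.2), hk1 x]
    · rintro ⟨l, hl⟩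
      have hlP : ∀ x : P, ι (f₀ ⟨φ x, hφ x⟩) = (l : G) * ι (f₀ ⟨x, hP x.2⟩) * (l : G)⁻¹ :=
        fun x => congrArg Subtype.val (hl x)
      have hlU : ∀ v : centralizerIn S X, (v : Ω) ∈ U' → (l : G) * ι v * (l : G)⁻¹ = ι v :=
        fun v hv => by
          rw [← Subgroup.mem_centralizer_iff.1 l.2 _ ⟨v, hv, rfl⟩, mul_inv_cancel_right]
      obtain ⟨K, hKdef⟩ : ∃ K, K = ((ι.range.comap (MulAut.conj (l : G)).toMonoidHom).comap ι).map
          (centralizerIn S X).subtype := ⟨_, rfl⟩
      have hle : P' ≤ K := by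
        rw [hP', (hfM.res hPM).fimg_sup]
        refine sup_le (fimg_le fun x hx => ?_) fun v hv => ?_
        · rw [hKdef]
          exact ⟨f₀ ⟨x, hP hx⟩, ⟨f₀ ⟨φ ⟨x, hx⟩, hφ _⟩, hlP ⟨x, hx⟩⟩, rfl⟩
        · rw [hKdef]
          exact ⟨⟨v, hU'C hv⟩, ⟨⟨v, hU'C hv⟩, (hlU ⟨v, hU'C hv⟩ hv).symm⟩, rfl⟩
      obtain ⟨g, hg, hge⟩ := exists_isMap_of_conj hreal hP'C (l : G) fun x hx => by
        obtain ⟨z, hz, hze⟩ := hKdef.le (hle hx)
        obtain rfl : z = x := Subtype.ext hze
        exact hz
      have hgF : IsMap F P' g := by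
        obtain ⟨-, -, k, hk, hk1, -⟩ := (isMap_centralizerSystem hXS hCX).1 hg
        exact (hk.res le_sup_left).congr hk1
      have hgP : ∀ x : P, g (f x) = f (φ x) := fun x => by
        obtain ⟨y, hy, hye⟩ :=
          hge ⟨f x, hC₀ x (hCM (hP x.2))⟩ (apply_mem_fimg f (Subgroup.mem_sup_left x.2))
        rw [← hy]
        exact congrArg Subtype.val (hreal.1 (hye.trans (hlP x).symm))
      have hgU : ∀ u ∈ U, g (f u) = f u := fun u hu => by
        obtain ⟨y, hy, hye⟩ :=
          hge ⟨f u, hC₀ u (hUM hu)⟩ (apply_mem_fimg f (Subgroup.mem_sup_right hu))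
        rw [← hy]
        exact congrArg Subtype.val
          (hreal.1 (hye.trans (hlU ⟨f u, hC₀ u (hUM hu)⟩ (apply_mem_fimg f hu))))
      obtain ⟨f', hf', hf1, -, -⟩ := hfM.exists_inv
      refine mem_centralizerHom.2 ⟨hP, hφ, fun x => f' (g (f x)),
        ((hfM.res hPM).comp hgF fun x hx => apply_mem_fimg f hx).comp hf' fun x hx => ?_,
        fun x => ?_, fun u hu => ?_⟩
      · have h1 := apply_mem_fimg (fun z => g (f z)) hx
        rw [((hfM.res hPM).comp hgF fun x hx => apply_mem_fimg f hx).fimg_sup] at h1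
        refine sup_le (fimg_le fun y hy => ?_) (fimg_le fun y hy => ?_) h1
        · show g (f y) ∈ fimg f M
          rw [hgP ⟨y, hy⟩]; exact apply_mem_fimg f (hCM (hφ _))
        · show g (f y) ∈ fimg f M
          rw [hgU y hy]; exact apply_mem_fimg f (hUM hy)
      · show f' (g (f x)) = φ x
        rw [hgP x, hf1 _ (hCM (hφ x))]
      · show f' (g (f u)) = u
        rw [hgU u hu, hf1 _ (hUM hu)]
  · -- a Sylow subgroup
    obtain ⟨R, hR⟩ := (((hS.to_le inf_le_left) :
      IsPGroup p (centralizerIn S U)).of_surjective ι'.rangeRestrict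
        ι'.rangeRestrict_surjective).exists_le_sylow
    haveI : Finite H := inferInstance
    refine ⟨R, (Subgroup.eq_of_le_of_card_ge hR ?_).symm⟩
    have hRW : IsPGroup p ((R : Subgroup H).map H.subtype ⊔ W : Subgroup G) := by
      refine (R.2.map _).to_sup_of_normal_right' hWp ?_
      exact (Subgroup.map_subtype_le _).trans (Subgroup.centralizer_le_normalizer _)
    obtain ⟨a, -, ha⟩ := SatCrit.exists_conj_sylow (A := (⊤ : Subgroup G))
      (T.subtype le_top) hRW le_top
    have hain : ∀ y ∈ ((R : Subgroup H).map H.subtype ⊔ W : Subgroup G),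
        a * y * a⁻¹ ∈ ι.range := fun y hy => by
      obtain ⟨z, hz, hze⟩ := ha y hy
      rw [← hze, ← hT]
      exact hz
    obtain ⟨g, hg, hge⟩ := exists_isMap_of_conj hreal hU'C a
      fun x hx => hain _ (Subgroup.mem_sup_right ⟨x, hx, rfl⟩)
    have hgF : IsMap F U' g := by
      obtain ⟨-, -, k, hk, hk1, -⟩ := (isMap_centralizerSystem hXS hCX).1 hg
      exact (hk.res le_sup_left).congr hk1
    set U'' := fimg g U'
    have hconj : F.IsConj U U'' := isConj_trans (hfM.res hUM).isConj hgF.isConj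
    haveI : Finite ↥(centralizerIn S U'') := finite_of_le (S := S) inf_le_left
    have hmem : ∀ y : (R : Subgroup H), ∃ c : centralizerIn S X, ι c = a * (y : H) * a⁻¹ ∧
        (c : Ω) ∈ centralizerIn S U'' := fun y => by
      obtain ⟨c, hc⟩ := hain _ (Subgroup.mem_sup_left ⟨(y : H), y.2, rfl⟩)
      refine ⟨c, hc, mem_centralizerIn.2 ⟨c.2.1, fun v hv => ?_⟩⟩
      obtain ⟨u, hu, rfl⟩ := hgF.mem_fimg_iff.1 hv
      obtain ⟨w, hw, hwe⟩ := hge ⟨u, hU'C hu⟩ hu
      rw [← hw]
      refine congrArg Subtype.val (hreal.1 (a₁ := w * c) (a₂ := c * w) ?_)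
      rw [map_mul, map_mul, hc, hwe]
      have hcom := Subgroup.mem_centralizer_iff.1 (y : H).2 _ (hWU u hu)
      calc a * ι ⟨u, hU'C hu⟩ * a⁻¹ * (a * ((y : H) : G) * a⁻¹)
          = a * (ι ⟨u, hU'C hu⟩ * ((y : H) : G)) * a⁻¹ := by group
        _ = a * (((y : H) : G) * ι ⟨u, hU'C hu⟩) * a⁻¹ := by rw [hcom]
        _ = a * ((y : H) : G) * a⁻¹ * (a * ι ⟨u, hU'C hu⟩ * a⁻¹) := by group
    choose c hc hc' using hmem
    calc Nat.card (R : Subgroup H) ≤ Nat.card ↥(centralizerIn S U'') :=
          Nat.card_le_card_of_injective (fun y => ⟨(c y : Ω), hc' y⟩) fun y z hyz => by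
            have h1 : c y = c z := Subtype.ext
              (congrArg (fun w : ↥(centralizerIn S U'') => (w : Ω)) hyz)
            have h2 := hc y
            rw [h1, hc z] at h2
            exact (Subtype.ext (Subtype.ext (mul_left_cancel (mul_right_cancel h2)))).symm
      _ ≤ Nat.card ↥(centralizerIn S U) :=
          (fullyCentralized_of_fullyNormalized hS hF hU).2 _ hconj
      _ = Nat.card ι'.range := Nat.card_congr (MonoidHom.ofInjective hinj).toEquiv
  · have hbot : Subgroup.centralizer ((⊥ : Subgroup G) : Set G) = ⊤ :=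
      eq_top_iff.2 fun x _ => Subgroup.mem_centralizer_iff.2 fun y hy => by
        rw [Subgroup.mem_bot.1 hy, one_mul, mul_one]
    exact charP_centralizer_mono hWp bot_le
      (Invol.charP_of_mulEquiv ((MulEquiv.subgroupCongr hbot).trans Subgroup.topEquiv).symm hchar)

/-- If the centralizers are constrained, so are the normalizers. -/
theorem constrained_normalizer (hS : IsPGroup p S) (hF : F.IsSaturated p) {U : Subgroup Ω}
    (hU : F.IsFullyNormalized U) (hC : (centralizerSystem F U hU.1).IsConstrained p) :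
    (normalizerSystem F U hU.1).IsConstrained p := by
  set N := normalizerSystem F U hU.1 with hN
  have hMS : normalizerIn S U ≤ S := inf_le_left
  haveI : Finite (normalizerIn S U) := finite_of_le hMS
  have hMp : IsPGroup p (normalizerIn S U) := hS.to_le hMS
  have hNs : N.IsSaturated p := isSaturated_normalizerSystem hS hF hU
  have hUn : N.IsNormal U := isNormal_normalizerSystem_self hU.1
  have hinn := inner_isNormalIn hMp hNs hUn
  have hext : ∀ P : Subgroup Ω, (innerFusionSystem U).Hom P ⊆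
      N.centralizerHom (centralizerIn (normalizerIn S U) U) P := by
    intro P φ hφ
    obtain ⟨hP, g, hg, hge⟩ := hφ
    have hle : U ≤ centralizerIn (normalizerIn S U) (centralizerIn (normalizerIn S U) U) := fun r hr =>
      ⟨hUn.1 hr, fun c hc => (hc.2 r hr).symm⟩
    refine mem_centralizerHom.2 ⟨hP.trans hle, fun x => ?_, fun x => g * x * g⁻¹,
      isMap_conj N (sup_le (hP.trans hUn.1) inf_le_left) (hUn.1 hg), fun x => (hge x).symm,
      fun c hc => ?_⟩
    · rw [hge x]
      exact mul_mem (mul_mem (hle hg) (hle (hP x.2))) (Subgroup.inv_mem _ (hle hg))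
    · show g * c * g⁻¹ = c
      rw [hc.2 g hg, mul_inv_cancel_right]
  have hset : CentNormal.Setup N (innerFusionSystem U) p (centralizerIn (normalizerIn S U) U) :=
    ⟨hMp, hNs, hinn, le_rfl, hext, fun Y hY _ => hY⟩
  obtain ⟨D, hD, hDC⟩ := hset.exists_normal
  have hle : centralizerIn (normalizerIn S U) U ≤ centralizerIn S U := inf_le_inf_right _ hMS
  have hCM : centralizerIn S U ≤ centralizerIn (normalizerIn S U) U := fun x hx =>
    ⟨centralizerIn_le_normalizerIn U hx, hx.2⟩
  have hCU := isCentralizerSystem_centralizerSystem F hU.1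
  have hDF : D.IsSubsystemOf (centralizerSystem F U hU.1) := fun P φ hφ => by
    obtain ⟨hP, hφm, k, hk, hk1, hk2⟩ := mem_centralizerHom.1 (hDC P hφ)
    exact mem_centralizerHom.2 ⟨hP.trans hle, fun x => hle (hφm x), k,
      hk.mono (normalizerSystem_isSubsystemOf hU.1), hk1, hk2⟩
  haveI : Finite ↥(centralizerIn S U) := finite_of_le (S := S) inf_le_left
  have hsc : (centralizerSystem F U hU.1).StronglyClosed (centralizerIn (normalizerIn S U) U) :=
    stronglyClosed_of_forall hle fun R _ f hf x hx => hCM (hf.apply_mem hx)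
  have hDc := isConstrained_of_subsystem (hS.to_le (show centralizerIn S U ≤ S from inf_le_left)) hC hDF hsc hD.1.1
  refine ⟨hNs, N.core, isNormal_core N, centric_of_isNormal (isNormal_core N) fun x hx => ?_⟩
  exact le_core_of_constrained hMp hNs hD hDc
    ⟨hx.1, Subgroup.centralizer_le (le_core hUn) hx.2⟩ hx.2

/-- Characteristic `p` type or component type. -/
theorem charType_or_componentType (hS : IsPGroup p S) (hF : F.IsSaturated p) :
    F.IsOfCharacteristicPType p ∨ F.IsOfComponentType p := by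
  by_cases h : F.IsOfComponentType p
  · exact Or.inr h
  refine Or.inl fun U hne hU E hE => ?_
  rw [isNormalizerSystem_unique hE (isNormalizerSystem_normalizerSystem F hU.1)]
  refine constrained_normalizer hS hF hU (constrained_centralizer hS hF (fun X hX hcard hXn => ?_) hU hne)
  haveI : Finite ↥(centralizerIn S X) := finite_of_le (S := S) inf_le_left
  have hCX := isCentralizerSystem_centralizerSystem F hX
  refine (isConstrained_iff (hS.to_le (show centralizerIn S X ≤ S from inf_le_left)) (isSaturated_centralizerSystem hS hF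
    (fullyCentralized_of_fullyNormalized hS hF hXn) hCX)).2 fun hcomp => h ?_
  exact ⟨X, hcard, hXn, _, hCX, hcomp⟩

end Cfsg.Agent.Fus.CompFree
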