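import Cfsg.Agent.Lib.Lie.Chev.CertsFull
import Cfsg.Agent.Lib.Lie.Chev.Simple
import Cfsg.Agent.Lib.Lie.Chev.Weyl
import Cfsg.Prelude.Def_ChevAutomorphisms

/-!
Generation of a Chevalley group by the monomial subgroup and one or two root subgroups.
-/

set_option autoImplicit false

namespace Cfsg.Agent.Fus.ChevNGen

open Cfsg.Lie Matrix Cfsg.Agent.Lie.Chev

/-- Grow a set of nodes along simple bonds. -/
def growNodes (T : Tables) : ℕ → List ℕ → List ℕ
  | 0, S => S
  | k + 1, S => growNodes T k (S ++ (List.range T.l).filter fun j =>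
      !(S.any (Nat.beq j)) && S.any fun i => Nat.beq (T.refl i (T.refl j (T.simple i))) (T.simple j))

/-- The nodes reached from `i`. -/
def reach (T : Tables) (i : ℕ) : List ℕ := growNodes T T.l [i]

/-- All nodes in the list are joined by simple bonds. -/
def checkLinked (T : Tables) (L : List ℕ) : Bool :=
  L.all fun i => L.all fun j => (reach T i).any (Nat.beq j)

/-- The root of some node of `long` is the commutator of two short roots, with coefficient of absolute
value `d`. -/
def checkPair (T : Tables) (d : ℕ) (short long : List ℕ) : Bool :=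
  long.any fun l => short.any fun k =>
    (T.code (T.refl l (T.simple k)) + T.code (T.refl k (T.simple k)) == T.code (T.simple l)) &&
      match T.commTerms (T.refl l (T.simple k)) (T.refl k (T.simple k)) with
      | [(m, C, a, b)] => Nat.beq m (T.simple l) && Nat.beq a 1 && Nat.beq b 1 && Nat.beq C.natAbs d
      | _ => false

variable {D : ChevalleyDatum} (c : CertFull D) {F : Type*} [Field F] {S : Subgroup (GL D.Idx F)}

theorem xg_mem_of_rootSubgroup_le {r : ℕ} (h : D.rootSubgroup F r ≤ S) (t : F) : c.xg r t ∈ S :=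
  h (Subgroup.subset_closure ⟨t, rfl⟩)

theorem mem_w (hN : D.monomialSubgroup F ≤ S) {p r : ℕ} (hp : p < D.rank) (hr : r < D.nroots)
    (h : ∀ t : F, c.xg r t ∈ S) (t : F) : c.xg (c.w p r) t ∈ S := by
  have hn : c.ng (D.simple p) 1 ∈ S := hN (c.np_mem_N hp)
  have e := c.ng_conj hp hr ((c.T.eta p r : F) * t)
  rw [← mul_assoc, c.eta_F_sq, one_mul] at e
  rw [eq_mul_inv_of_mul_eq e.symm]
  exact S.mul_mem (S.mul_mem hn (h _)) (S.inv_mem hn)

theorem group_le (hN : D.monomialSubgroup F ≤ S)
    (h : ∀ p < D.rank, ∀ t : F, c.xg (D.simple p) t ∈ S) : D.group F ≤ S := by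
  rw [c.group_eq, Subgroup.closure_le]
  rintro _ ⟨r, hr, t, rfl⟩
  exact c.root_induction (P := fun r => ∀ t : F, c.xg r t ∈ S) h
    (fun p hp r hr hP => mem_w c hN hp hr hP) r hr t

theorem growNodes_mem (hN : D.monomialSubgroup F ≤ S) : ∀ (k : ℕ) (L : List ℕ),
    (∀ j ∈ L, j < D.rank ∧ ∀ t : F, c.xg (D.simple j) t ∈ S) →
    ∀ j ∈ growNodes c.T k L, j < D.rank ∧ ∀ t : F, c.xg (D.simple j) t ∈ S := by
  intro k
  induction k with
  | zero => exact fun L hL => hL
  | succ k ih =>
    intro L hL
    refine ih _ fun j hj => ?_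
    rcases List.mem_append.1 hj with hj | hj
    · exact hL j hj
    · simp only [List.mem_filter, List.mem_range, Bool.and_eq_true, List.any_eq_true, Nat.beq_eq] at hj
      obtain ⟨hjl, -, i, hi, he⟩ := hj
      have hjr : j < D.rank := c.rank_eq.symm ▸ hjl
      obtain ⟨hir, hiS⟩ := hL i hi
      refine ⟨hjr, ?_⟩
      rw [c.simple_eq hjr, ← he, ← c.simple_eq hir]
      exact mem_w c hN hir (c.w_lt hjr (c.simple_lt hir)) (mem_w c hN hjr (c.simple_lt hir) hiS)

theorem linked_mem (hN : D.monomialSubgroup F ≤ S) {L : List ℕ} (hL : checkLinked c.T L = true)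
    {i : ℕ} (hiL : i ∈ L) (hi : i < D.rank) (h : ∀ t : F, c.xg (D.simple i) t ∈ S) {j : ℕ}
    (hj : j ∈ L) : j < D.rank ∧ ∀ t : F, c.xg (D.simple j) t ∈ S := by
  simp only [checkLinked, List.all_eq_true, List.any_eq_true, Nat.beq_eq] at hL
  obtain ⟨m, hm, rfl⟩ := hL i hiL j hj
  refine growNodes_mem c hN _ _ (fun l hl => ?_) _ hm
  obtain rfl := List.mem_singleton.1 hl
  exact ⟨hi, h⟩

/-- The short roots give a long one when the structure constant does not vanish. -/
theorem pair_mem (hN : D.monomialSubgroup F ≤ S) {short long : List ℕ} {d : ℕ}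
    (hd : ∀ C : ℤ, C.natAbs = d → (C : F) ≠ 0) (hshort : ∀ k ∈ short, k < D.rank)
    (hlong : ∀ k ∈ long, k < D.rank) (hP : checkPair c.T d short long = true)
    (h : ∀ k ∈ short, ∀ t : F, c.xg (D.simple k) t ∈ S) :
    ∃ l ∈ long, ∀ t : F, c.xg (D.simple l) t ∈ S := by
  simp only [checkPair, List.any_eq_true, Bool.and_eq_true, beq_iff_eq] at hP
  obtain ⟨l, hl, k, hk, hcode, hP⟩ := hP
  have hlr := hlong l hl
  have hkr := hshort k hk
  rw [← c.simple_eq hkr, ← c.simple_eq hlr] at hcode hP
  obtain ⟨r, hrdef⟩ : ∃ r, r = c.w l (D.simple k) := ⟨_, rfl⟩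
  obtain ⟨s, hsdef⟩ : ∃ s, s = c.w k (D.simple k) := ⟨_, rfl⟩
  rw [← show r = c.T.refl l (D.simple k) from hrdef, ← show s = c.T.refl k (D.simple k) from hsdef]
    at hcode hP
  have hr : r < D.nroots := hrdef ▸ c.w_lt hlr (c.simple_lt hkr)
  have hs : s < D.nroots := hsdef ▸ c.w_lt hkr (c.simple_lt hkr)
  have hrS : ∀ t : F, c.xg r t ∈ S := hrdef ▸ mem_w c hN hlr (c.simple_lt hkr) (h k hk)
  have hsS : ∀ t : F, c.xg s t ∈ S := hsdef ▸ mem_w c hN hkr (c.simple_lt hkr) (h k hk)
  refine ⟨l, hl, fun t => ?_⟩
  have hα := c.simple_lt hlr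
  match hL : c.T.commTerms r s with
  | [] => simp [hL] at hP
  | _ :: _ :: _ => simp [hL] at hP
  | [(m, C, a, b)] =>
    simp only [hL, Bool.and_eq_true, Nat.beq_eq] at hP
    obtain ⟨⟨⟨rfl, rfl⟩, rfl⟩, hC'⟩ := hP
    have hC : (C : F) ≠ 0 := hd C hC'
    have hne : s ≠ r ∧ s ≠ D.neg r := by
      have hpos := (c.code_pos_iff hα).2 (c.h_le_simple hlr)
      constructor
      · rintro e
        rw [e] at hcode
        have hv := c.vec_of_code (k := 1) hα hr hr (by omega) (fun i hi => by
          have := c.T.vec_bound r i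
          have := c.T.vec_bound (D.simple l) i
          rw [abs_lt]; omega) l hlr
        rw [c.vec_simple hlr hlr, if_pos rfl] at hv
        omega
      · rintro e
        rw [e, c.code_neg hr] at hcode
        omega
    obtain ⟨v, hv⟩ : ∃ v : F, v = -t / (C : F) := ⟨_, rfl⟩
    have e : c.xg (D.simple l) t = (c.xg s v)⁻¹ * (c.xg r 1)⁻¹ * c.xg s v * c.xg r 1 := by
      have hcomm := c.xg_comm hr hs hne.1 hne.2 (1 : F) v
      rw [hL] at hcomm
      simp only [List.map_cons, List.map_nil, List.prod_cons, List.prod_nil, mul_one, pow_one]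
        at hcomm
      rw [mul_assoc _ (c.xg s v), hcomm, show t = (C : F) * -1 * v by rw [hv]; field_simp]
      group
    rw [e]
    exact S.mul_mem (S.mul_mem (S.mul_mem (S.inv_mem (hsS v)) (S.inv_mem (hrS 1))) (hsS v)) (hrS 1)

/-- All fundamental roots are linked: one root subgroup and the monomial group suffice. -/
theorem group_le_one (hlink : checkLinked c.T (List.range c.T.l) = true) {i : ℕ} (hi : i < D.rank) :
    D.group F ≤ D.monomialSubgroup F ⊔ D.rootSubgroup F (D.simple i) := by
  refine group_le c le_sup_left fun p hp => (linked_mem c le_sup_left hlink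
    (List.mem_range.2 (c.rank_eq ▸ hi)) hi (xg_mem_of_rootSubgroup_le c le_sup_right)
    (List.mem_range.2 (c.rank_eq ▸ hp))).2

/-- A short root subgroup and the monomial group, when the bond's constant does not vanish. -/
theorem group_le_short {short long : List ℕ} {d : ℕ} (hd : ∀ C : ℤ, C.natAbs = d → (C : F) ≠ 0)
    (hs : checkLinked c.T short = true) (hl : checkLinked c.T long = true)
    (hP : checkPair c.T d short long = true) (hcover : ∀ p < D.rank, p ∈ short ∨ p ∈ long)
    (hlong : ∀ k ∈ long, k < D.rank) {i : ℕ} (hi : i < D.rank) (hiS : i ∈ short) :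
    D.group F ≤ D.monomialSubgroup F ⊔ D.rootSubgroup F (D.simple i) := by
  have hS : ∀ j ∈ short, j < D.rank ∧
      ∀ t : F, c.xg (D.simple j) t ∈ D.monomialSubgroup F ⊔ D.rootSubgroup F (D.simple i) :=
    fun j hj => linked_mem c le_sup_left hs hiS hi (xg_mem_of_rootSubgroup_le c le_sup_right) hj
  obtain ⟨l, hlL, hlS⟩ := pair_mem c le_sup_left hd (fun k hk => (hS k hk).1) hlong hP
    fun k hk => (hS k hk).2
  refine group_le c le_sup_left fun p hp => ?_
  rcases hcover p hp with h | h
  · exact (hS p h).2
  · exact (linked_mem c le_sup_left hl hlL (hlong l hlL) hlS h).2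

/-- A short and a long root subgroup and the monomial group. -/
theorem group_le_two {short long : List ℕ} (hs : checkLinked c.T short = true)
    (hl : checkLinked c.T long = true) (hcover : ∀ p < D.rank, p ∈ short ∨ p ∈ long)
    {i j : ℕ} (hi : i < D.rank) (hj : j < D.rank) (hiS : i ∈ short) (hjL : j ∈ long) :
    D.group F ≤
      D.monomialSubgroup F ⊔ D.rootSubgroup F (D.simple i) ⊔ D.rootSubgroup F (D.simple j) := by
  have hN : D.monomialSubgroup F ≤
      D.monomialSubgroup F ⊔ D.rootSubgroup F (D.simple i) ⊔ D.rootSubgroup F (D.simple j) :=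
    le_sup_left.trans le_sup_left
  refine group_le c hN fun p hp => ?_
  rcases hcover p hp with h | h
  · exact (linked_mem c hN hs hiS hi (xg_mem_of_rootSubgroup_le c (le_sup_right.trans le_sup_left)) h).2
  · exact (linked_mem c hN hl hjL hj (xg_mem_of_rootSubgroup_le c le_sup_right) h).2

/-- The short fundamental roots. -/
def shortNodes (D : ChevalleyDatum) : List ℕ :=
  (List.range D.rank).filter fun i => !D.isLong (D.simple i)

/-- The long fundamental roots. -/
def longNodes (D : ChevalleyDatum) : List ℕ :=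
  (List.range D.rank).filter fun i => D.isLong (D.simple i)

theorem cover (D : ChevalleyDatum) : ∀ p < D.rank, p ∈ shortNodes D ∨ p ∈ longNodes D := fun p hp => by
  cases h : D.isLong (D.simple p) <;> simp [shortNodes, longNodes, hp, h]

theorem long_lt (D : ChevalleyDatum) : ∀ p ∈ longNodes D, p < D.rank := fun p hp => by
  simp only [longNodes, List.mem_filter, List.mem_range] at hp
  exact hp.1

theorem mem_short {D : ChevalleyDatum} {i : ℕ} (hi : i < D.rank)
    (h : D.isLong (D.simple i) = false) : i ∈ shortNodes D := by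
  simp [shortNodes, hi, h]

theorem mem_long {D : ChevalleyDatum} {i : ℕ} (hi : i < D.rank)
    (h : D.isLong (D.simple i) = true) : i ∈ longNodes D := by
  simp [longNodes, hi, h]

theorem linkD4 : checkLinked certFullD4.T (List.range certFullD4.T.l) = true := by decide +kernel
theorem linkE6 : checkLinked certFullE6.T (List.range certFullE6.T.l) = true := by decide +kernel
theorem linkE7 : checkLinked certFullE7.T (List.range certFullE7.T.l) = true := by decide +kernel
theorem linkE8 : checkLinked certFullE8.T (List.range certFullE8.T.l) = true := by decide +kernel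

theorem shortB2 : checkLinked certFullB2.T (shortNodes chevB2) = true := by decide +kernel
theorem longB2 : checkLinked certFullB2.T (longNodes chevB2) = true := by decide +kernel
theorem pairB2 : checkPair certFullB2.T 2 (shortNodes chevB2) (longNodes chevB2) = true := by
  decide +kernel
theorem shortF4 : checkLinked certFullF4.T (shortNodes chevF4) = true := by decide +kernel
theorem longF4 : checkLinked certFullF4.T (longNodes chevF4) = true := by decide +kernel
theorem pairF4 : checkPair certFullF4.T 2 (shortNodes chevF4) (longNodes chevF4) = true := by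
  decide +kernel
theorem shortG2 : checkLinked certFullG2.T (shortNodes chevG2) = true := by decide +kernel
theorem longG2 : checkLinked certFullG2.T (longNodes chevG2) = true := by decide +kernel
theorem pairG2 : checkPair certFullG2.T 3 (shortNodes chevG2) (longNodes chevG2) = true := by
  decide +kernel

theorem intCast_ne_zero {p : ℕ} (hp : p.Prime) (h : ringChar F ≠ p) :
    ∀ C : ℤ, C.natAbs = p → (C : F) ≠ 0 := by
  intro C hC h0
  haveI := ringChar.charP F
  have h1 : ((p : ℤ) : F) = 0 := by
    rcases Int.natAbs_eq C with e | e <;> rw [hC] at e <;> subst e <;> simpa using h0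
  rw [Int.cast_natCast, CharP.cast_eq_zero_iff F (ringChar F) p] at h1
  rcases CharP.char_is_prime_or_zero F (ringChar F) with h2 | h2
  · exact h ((Nat.prime_dvd_prime_iff_eq h2 hp).1 h1)
  · rw [h2, Nat.zero_dvd] at h1
    exact hp.ne_zero h1

end Cfsg.Agent.Fus.ChevNGen
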