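import Mathlib

/-!
Cossey–Hawkes–Mann: a finite group with the class size multiset of a nilpotent group
is nilpotent.  The count used: the elements of p'-class size.
-/

namespace Cfsg.Agent.Fus

open Subgroup MulAction

variable {G : Type*} [Group G]

/-- Class size as centralizer index. -/
theorem card_classFiber [Finite G] (x : G) :
    Nat.card {y : G // ConjClasses.mk y = ConjClasses.mk x}
      = (centralizer ({x} : Set G)).index := by
  have h1 : Nat.card (orbit (ConjAct G) x) = (stabilizer (ConjAct G) x).index := by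
    rw [MulAction.index_stabilizer, Nat.card_coe_set_eq]
  have h2 : Nat.card {y : G // ConjClasses.mk y = ConjClasses.mk x}
      = Nat.card (orbit (ConjAct G) x) := by
    apply Nat.card_congr
    apply Equiv.subtypeEquivRight
    intro y
    rw [ConjAct.orbit_eq_carrier_conjClasses, ConjClasses.mem_carrier_iff_mk_eq]
  rw [h2, h1, ConjAct.stabilizer_eq_centralizer]
  rfl

/-- The centre consists of the elements of class size one. -/
theorem card_center_eq :
    Nat.card (center G) = Nat.card {x : G // (centralizer ({x} : Set G)).index = 1} := by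
  refine Nat.card_congr (Equiv.subtypeEquivRight fun x => ?_)
  rw [index_eq_one, centralizer_eq_top_iff_subset, Set.singleton_subset_iff]
  rfl

/-- A bijection of groups respecting class sizes, from equality of class size multisets. -/
theorem exists_equiv_index_centralizer {H : Type*} [Group H] [Finite G] [Finite H]
    (h : ∀ k : ℕ, Nat.card {C : ConjClasses G // Nat.card C.carrier = k}
      = Nat.card {C : ConjClasses H // Nat.card C.carrier = k}) :
    ∃ e : G ≃ H, ∀ x, (centralizer ({e x} : Set H)).index
      = (centralizer ({x} : Set G)).index := by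
  classical
  let fG : ConjClasses G → ℕ := fun C => Nat.card C.carrier
  let fH : ConjClasses H → ℕ := fun C => Nat.card C.carrier
  have hk : ∀ k, Nonempty ({C // fG C = k} ≃ {C // fH C = k}) := fun k =>
    Finite.card_eq.mp (h k)
  let σ : ConjClasses G ≃ ConjClasses H := Equiv.ofFiberEquiv (fun k => (hk k).some)
  have hσ : ∀ C, fH (σ C) = fG C := fun C => Equiv.ofFiberEquiv_map _ C
  have hcar : ∀ C : ConjClasses G, Nat.card {y : G // ConjClasses.mk y = C} = fG C := fun C =>
    Nat.card_congr (Equiv.subtypeEquivRight fun y => (ConjClasses.mem_carrier_iff_mk_eq).symm)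
  have hcarH : ∀ C : ConjClasses H, Nat.card {y : H // ConjClasses.mk y = C} = fH C := fun C =>
    Nat.card_congr (Equiv.subtypeEquivRight fun y => (ConjClasses.mem_carrier_iff_mk_eq).symm)
  have hf : ∀ C, Nonempty ({y : G // ConjClasses.mk y = C} ≃ {y : H // ConjClasses.mk y = σ C}) :=
    fun C => Finite.card_eq.mp (by rw [hcar, hcarH, hσ])
  let e : G ≃ H := (Equiv.sigmaFiberEquiv ConjClasses.mk).symm.trans
    ((Equiv.sigmaCongr σ fun C => (hf C).some).trans (Equiv.sigmaFiberEquiv ConjClasses.mk))
  refine ⟨e, fun x => ?_⟩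
  have he : ConjClasses.mk (e x) = σ (ConjClasses.mk x) :=
    ((hf (ConjClasses.mk x)).some ⟨x, rfl⟩).2
  rw [← card_classFiber, ← card_classFiber, he, hcarH, hσ, hcar]

/-- The elements of class size prime to `p`. -/
def primeIdxSet (G : Type*) [Group G] (p : ℕ) : Set G :=
  {x | ¬ p ∣ (centralizer ({x} : Set G)).index}

variable [Finite G] {p : ℕ} [hp : Fact p.Prime]

omit [Finite G] in
theorem mem_centralizer_singleton_swap {x : G} {S : Set G} :
    x ∈ centralizer S ↔ S ⊆ (centralizer ({x} : Set G) : Set G) := by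
  simp only [mem_centralizer_iff, Set.subset_def, SetLike.mem_coe, Set.mem_singleton_iff,
    forall_eq]
  exact ⟨fun h y hy => (h y hy).symm, fun h y hy => (h y hy).symm⟩

theorem centralizer_sylow_subset (P : Sylow p G) :
    (centralizer ((P : Subgroup G) : Set G) : Set G) ⊆ primeIdxSet G p := by
  intro x hx hdvd
  have hle : (P : Subgroup G) ≤ centralizer ({x} : Set G) := mem_centralizer_singleton_swap.mp hx
  exact P.not_dvd_index (hdvd.trans (index_dvd_of_le hle))

theorem exists_sylow_of_mem (x : G) (hx : x ∈ primeIdxSet G p) :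
    ∃ P : Sylow p G, x ∈ centralizer ((P : Subgroup G) : Set G) := by
  obtain ⟨Q⟩ : Nonempty (Sylow p (centralizer ({x} : Set G))) := inferInstance
  have hQ : IsPGroup p ((Q : Subgroup (centralizer ({x} : Set G))).map
      (centralizer ({x} : Set G)).subtype) := Q.2.map _
  have hidx : ¬ p ∣ ((Q : Subgroup (centralizer ({x} : Set G))).map
      (centralizer ({x} : Set G)).subtype).index := by
    rw [index_map_subtype]
    exact fun hd => (hp.out.dvd_mul.mp hd).elim Q.not_dvd_index hx
  refine ⟨hQ.toSylow hidx, mem_centralizer_singleton_swap.mpr ?_⟩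
  exact map_subtype_le _

theorem center_subset_primeIdxSet : (center G : Set G) ⊆ primeIdxSet G p := by
  intro x hx hdvd
  have : centralizer ({x} : Set G) = ⊤ := by
    rw [centralizer_eq_top_iff_subset]
    simpa using hx
  rw [this, index_top] at hdvd
  exact hp.out.not_dvd_one hdvd

omit [Finite G] hp in
theorem centralizer_mul_center (x z : G) (hz : z ∈ center G) :
    centralizer ({x * z} : Set G) = centralizer ({x} : Set G) := by
  ext g
  have h := mem_center_iff.mp hz g
  simp only [mem_centralizer_iff, Set.mem_singleton_iff, forall_eq]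
  constructor <;> intro e
  · rw [← mul_left_inj z]
    calc x * g * z = x * z * g := by rw [mul_assoc, h, mul_assoc]
      _ = g * (x * z) := e
      _ = g * x * z := (mul_assoc _ _ _).symm
  · calc x * z * g = x * g * z := by rw [mul_assoc, ← h, mul_assoc]
      _ = g * x * z := by rw [e]
      _ = g * (x * z) := mul_assoc _ _ _

omit [Finite G] hp in
theorem center_mul_primeIdxSet (x z : G) (hz : z ∈ center G) :
    x * z ∈ primeIdxSet G p ↔ x ∈ primeIdxSet G p := by
  simp only [primeIdxSet, Set.mem_ofPred_eq, centralizer_mul_center x z hz]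

omit [Finite G] hp in
theorem card_preimage_mk_center (S : Set (G ⧸ center G)) :
    Nat.card (QuotientGroup.mk ⁻¹' S : Set G) = Nat.card (center G) * Nat.card S := by
  rw [Nat.card_congr (QuotientGroup.preimageMkEquivSubgroupProdSet (center G) S), Nat.card_prod]

/-- A Sylow `p`-subgroup fixes exactly the cosets of its centralizer. -/
theorem commute_of_conj_mem_center (P : Sylow p G) (x : G) (hx : x ∈ primeIdxSet G p)
    (h : ∀ u ∈ (P : Subgroup G), x⁻¹ * (u * x * u⁻¹) ∈ center G) :
    x ∈ centralizer ((P : Subgroup G) : Set G) := by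
  rw [mem_centralizer_singleton_swap]
  set C := centralizer ({x} : Set G) with hC
  have hn : (P : Subgroup G) ≤ normalizer C := by
    intro u hu
    rw [mem_normalizer_iff]
    intro g
    have hz := h u hu
    have h1 : centralizer ({u * x * u⁻¹} : Set G) = C := by
      have := centralizer_mul_center x _ hz
      rwa [mul_inv_cancel_left] at this
    conv_rhs => rw [← h1]
    simp only [hC, mem_centralizer_iff, Set.mem_singleton_iff, forall_eq]
    constructor <;> intro e
    · calc u * x * u⁻¹ * (u * g * u⁻¹) = u * (x * g) * u⁻¹ := by group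
        _ = u * (g * x) * u⁻¹ := by rw [e]
        _ = _ := by group
    · calc x * g = u⁻¹ * (u * x * u⁻¹ * (u * g * u⁻¹)) * u := by group
        _ = u⁻¹ * (u * g * u⁻¹ * (u * x * u⁻¹)) * u := by rw [e]
        _ = _ := by group
  have hCx : ¬ p ∣ C.relIndex ((P : Subgroup G) ⊔ C) := by
    intro hd
    exact hx (hd.trans (relIndex_dvd_index_of_le le_sup_right))
  have h2 : C.relIndex ((P : Subgroup G) ⊔ C) = C.relIndex (P : Subgroup G) := by
    haveI : (C.subgroupOf ((P : Subgroup G) ⊔ C)).Normal :=
      (normal_subgroupOf_iff_le_normalizer le_sup_right).mpr (sup_le hn le_normalizer)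
    have := relIndex_sup_right ((P : Subgroup G).subgroupOf ((P : Subgroup G) ⊔ C))
      (C.subgroupOf ((P : Subgroup G) ⊔ C))
    rwa [← subgroupOf_sup le_sup_left le_sup_right, relIndex_subgroupOf le_rfl,
      relIndex_subgroupOf le_sup_left] at this
  have h3 : C.relIndex (P : Subgroup G) ∣ Nat.card (P : Subgroup G) := relIndex_dvd_card _ _
  obtain ⟨k, hk⟩ := IsPGroup.iff_card.mp P.2
  rw [hk] at h3
  obtain ⟨j, -, hj⟩ := (Nat.dvd_prime_pow hp.out).mp h3
  rw [h2, hj] at hCx
  have hj0 : j = 0 := by
    by_contra h0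
    exact hCx (dvd_pow_self p h0)
  rw [hj0, pow_zero, relIndex_eq_one] at hj
  exact hj

/-- If the elements of `p'`-class size are as many as in a nilpotent group, the Sylow
`p`-subgroup is normal. -/
theorem sylow_normal_of_card_primeIdxSet (P₀ : Sylow p G)
    (hX : Nat.card (primeIdxSet G p)
      = ordProj[p] (Nat.card (center G)) * ordCompl[p] (Nat.card G)) :
    (P₀ : Subgroup G).Normal := by
  classical
  set Z := center G with hZ
  set X := primeIdxSet G p with hXdef
  set a := ordProj[p] (Nat.card Z) with ha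
  set m := ordCompl[p] (Nat.card G) with hm
  have hGne : Nat.card G ≠ 0 := Nat.card_ne_zero.mpr ⟨inferInstance, inferInstance⟩
  have hZne : Nat.card Z ≠ 0 := Nat.card_ne_zero.mpr ⟨inferInstance, inferInstance⟩
  have ha0 : 0 < a := Nat.pow_pos hp.out.pos
  -- image in the quotient
  set S : Set (G ⧸ Z) := QuotientGroup.mk '' X with hS
  have hpre : (QuotientGroup.mk ⁻¹' S : Set G) = X := by
    ext x
    constructor
    · rintro ⟨y, hy, e⟩
      have hz : y⁻¹ * x ∈ Z := QuotientGroup.eq.mp e
      have := (center_mul_primeIdxSet (p := p) y _ hz).mpr hy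
      rwa [mul_inv_cancel_left] at this
    · exact fun hx => ⟨x, hx, rfl⟩
  have hScard : Nat.card X = Nat.card Z * Nat.card S := by
    have := card_preimage_mk_center S
    rwa [hpre] at this
  have hSp : ¬ p ∣ Nat.card S := by
    intro hd
    have h1 : a * p ∣ Nat.card X := by
      rw [hScard]; exact mul_dvd_mul (Nat.ordProj_dvd _ _) hd
    rw [hX, Nat.mul_dvd_mul_iff_left ha0] at h1
    exact Nat.not_dvd_ordCompl hp.out hGne h1
  -- each centralizer has p-part a
  have key : ∀ Q : Sylow p G,
      ordProj[p] (Nat.card (centralizer ((Q : Subgroup G) : Set G))) = a := by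
    intro Q
    have hmem : ∀ (u : G) (s : G ⧸ Z), s ∈ S →
        QuotientGroup.mk u * s * (QuotientGroup.mk u)⁻¹ ∈ S := by
      rintro u s ⟨y, hy, rfl⟩
      refine ⟨u * y * u⁻¹, ?_, by simp⟩
      have : (centralizer ({u * y * u⁻¹} : Set G)).index = (centralizer ({y} : Set G)).index := by
        rw [← card_classFiber, ← card_classFiber]
        have : ConjClasses.mk (u * y * u⁻¹) = ConjClasses.mk y :=
          ConjClasses.mk_eq_mk_iff_isConj.mpr (isConj_iff.mpr ⟨u⁻¹, by group⟩)
        rw [this]
      simpa [hXdef, primeIdxSet, this] using hy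
    let act : MulAction (Q : Subgroup G) S :=
      { smul := fun u s => ⟨_, hmem u.1 s.1 s.2⟩
        one_smul := fun s => Subtype.ext (show (QuotientGroup.mk (1 : G)) * s.1
          * (QuotientGroup.mk (1 : G))⁻¹ = s.1 by simp)
        mul_smul := fun u v s => Subtype.ext (show QuotientGroup.mk (u.1 * v.1) * s.1
          * (QuotientGroup.mk (u.1 * v.1))⁻¹ = QuotientGroup.mk u.1 * (QuotientGroup.mk v.1
            * s.1 * (QuotientGroup.mk v.1)⁻¹) * (QuotientGroup.mk u.1)⁻¹ by
          rw [QuotientGroup.mk_mul]; group) }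
    have hmod := Q.2.card_modEq_card_fixedPoints S
    set F : Set (G ⧸ Z) := Subtype.val '' fixedPoints (Q : Subgroup G) S with hF
    have hFpre : (QuotientGroup.mk ⁻¹' F : Set G)
        = (centralizer ((Q : Subgroup G) : Set G) : Set G) := by
      ext x
      constructor
      · rintro ⟨s, hs, e⟩
        refine commute_of_conj_mem_center Q x ?_ fun u hu => ?_
        · show x ∈ X
          rw [← hpre]
          show QuotientGroup.mk x ∈ S
          exact e ▸ s.2
        · have h1 : QuotientGroup.mk u * (x : G ⧸ Z) * (QuotientGroup.mk u)⁻¹ = (x : G ⧸ Z) :=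
            e ▸ congrArg Subtype.val (hs ⟨u, hu⟩)
          exact QuotientGroup.eq.mp (by simpa using h1.symm)
      · intro hx
        refine ⟨⟨(x : G ⧸ Z), x, centralizer_sylow_subset Q hx, rfl⟩, fun u => ?_, rfl⟩
        apply Subtype.ext
        show QuotientGroup.mk u.1 * (x : G ⧸ Z) * (QuotientGroup.mk u.1)⁻¹ = (x : G ⧸ Z)
        rw [← QuotientGroup.mk_mul, ← QuotientGroup.mk_inv, ← QuotientGroup.mk_mul,
          mem_centralizer_iff.mp hx u.1 u.2, mul_inv_cancel_right]
    have hFcard : Nat.card (centralizer ((Q : Subgroup G) : Set G))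
        = Nat.card Z * Nat.card (fixedPoints (Q : Subgroup G) S) := by
      have := card_preimage_mk_center F
      rw [hFpre, hF, Nat.card_image_of_injective Subtype.val_injective] at this
      exact this
    have hFp : ¬ p ∣ Nat.card (fixedPoints (Q : Subgroup G) S) := fun hd =>
      hSp ((hmod.dvd_iff dvd_rfl).mpr hd)
    have hF0 : Nat.card (fixedPoints (Q : Subgroup G) S) ≠ 0 := fun h0 =>
      hFp (h0 ▸ dvd_zero p)
    rw [hFcard, Nat.ordProj_mul p hZne hF0,
      Nat.factorization_eq_zero_of_not_dvd hFp, pow_zero, mul_one]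
  -- bound
  set k := Nat.card (Sylow p G) with hk
  have hbound : ∀ Q : Sylow p G, k * Nat.card (centralizer ((Q : Subgroup G) : Set G)) ≤ a * m := by
    intro Q
    set C := centralizer ((Q : Subgroup G) : Set G)
    set N := normalizer ((Q : Subgroup G) : Set G) with hN
    have hk' : k = N.index := Q.card_eq_index_normalizer
    have hCN : C ≤ N := fun g hg => by
      rw [hN, mem_normalizer_iff]
      intro x
      constructor
      · intro hxQ
        have := mem_centralizer_iff.mp hg x hxQ
        rwa [← this, mul_inv_cancel_right]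
      · intro hxQ
        have e := mem_centralizer_iff.mp hg _ hxQ
        have h2 : x = g * x * g⁻¹ := by
          calc x = g⁻¹ * (g * x * g⁻¹ * g) := by group
            _ = g⁻¹ * (g * (g * x * g⁻¹)) := by rw [e]
            _ = g * x * g⁻¹ := by group
        rwa [h2]
    have hkp : ¬ p ∣ N.index := fun hd =>
      Q.not_dvd_index (hd.trans (index_dvd_of_le (le_normalizer)))
    have hCdiv : ordCompl[p] (Nat.card C) ∣ ordCompl[p] (Nat.card N) :=
      Nat.ordCompl_dvd_ordCompl_of_dvd (card_dvd_of_le hCN) p
    have hmeq : N.index * ordCompl[p] (Nat.card N) = m := by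
      rw [hm, ← N.index_mul_card, Nat.ordCompl_mul, (Nat.ordCompl_eq_self_iff_zero_or_not_dvd _ hp.out).mpr (Or.inr hkp)]
    have h1 : k * ordCompl[p] (Nat.card C) ≤ m := by
      rw [hk']
      refine le_trans (Nat.mul_le_mul_left _ (Nat.le_of_dvd ?_ hCdiv)) hmeq.le
      exact Nat.ordCompl_pos p (Nat.card_ne_zero.mpr ⟨inferInstance, inferInstance⟩)
    calc k * Nat.card C = k * (ordProj[p] (Nat.card C) * ordCompl[p] (Nat.card C)) := by
          rw [Nat.ordProj_mul_ordCompl_eq_self]
      _ = a * (k * ordCompl[p] (Nat.card C)) := by rw [key Q]; ring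
      _ ≤ a * m := Nat.mul_le_mul_left _ h1
  haveI := Fintype.ofFinite (Sylow p G)
  have hcover : X \ (Z : Set G) ⊆ ⋃ Q : Sylow p G,
      ((centralizer ((Q : Subgroup G) : Set G) : Set G) \ (Z : Set G)) := fun x hx => by
    obtain ⟨Q, hQ⟩ := exists_sylow_of_mem x hx.1
    exact Set.mem_iUnion.mpr ⟨Q, hQ, hx.2⟩
  set f : Sylow p G → ℕ := fun Q =>
    ((centralizer ((Q : Subgroup G) : Set G) : Set G) \ (Z : Set G)).ncard with hf
  have hsum : (X \ (Z : Set G)).ncard ≤ ∑ Q, f Q := by
    refine (Set.ncard_le_ncard hcover (Set.toFinite _)).trans ?_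
    have := Finset.set_ncard_biUnion_le Finset.univ (fun Q : Sylow p G =>
      ((centralizer ((Q : Subgroup G) : Set G) : Set G) \ (Z : Set G)))
    simpa [hf] using this
  have hfQ : ∀ Q, k * (f Q + Nat.card Z) ≤ a * m := by
    intro Q
    have h1 : f Q + Nat.card Z = Nat.card (centralizer ((Q : Subgroup G) : Set G)) := by
      have := Set.ncard_sdiff_add_ncard_of_subset
        (s := (Z : Set G)) (t := (centralizer ((Q : Subgroup G) : Set G) : Set G))
        (center_le_centralizer _) (Set.toFinite _)
      rwa [← Nat.card_coe_set_eq (Z : Set G),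
        ← Nat.card_coe_set_eq (centralizer ((Q : Subgroup G) : Set G) : Set G)] at this
    rw [h1]; exact hbound Q
  have hk0 : 0 < k := Nat.card_pos
  have hsum2 : k * (∑ Q, f Q + k * Nat.card Z) ≤ k * (a * m) := by
    have h1 : ∑ Q, k * (f Q + Nat.card Z) ≤ ∑ _Q : Sylow p G, a * m :=
      Finset.sum_le_sum fun Q _ => hfQ Q
    rw [← Finset.mul_sum, Finset.sum_add_distrib, Finset.sum_const, Finset.sum_const,
      Finset.card_univ, ← Nat.card_eq_fintype_card, smul_eq_mul, smul_eq_mul] at h1
    exact h1
  have hsum3 := Nat.le_of_mul_le_mul_left hsum2 hk0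
  have hXle : a * m ≤ (X \ (Z : Set G)).ncard + Nat.card Z := by
    have := Set.ncard_le_ncard_sdiff_add_ncard X (Z : Set G) (Set.toFinite _)
    rwa [← Nat.card_coe_set_eq (Z : Set G), ← Nat.card_coe_set_eq X, hX] at this
  have hk1 : k * Nat.card Z ≤ 1 * Nat.card Z := by omega
  have hk11 : k ≤ 1 := Nat.le_of_mul_le_mul_right hk1 (Nat.pos_of_ne_zero hZne)
  rw [P₀.card_eq_index_normalizer] at hk
  rw [← normalizer_eq_top_iff]
  exact index_eq_one.mp (le_antisymm (hk ▸ hk11) (Nat.pos_of_ne_zero index_ne_zero_of_finite))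

omit hp in
/-- In a nilpotent group the count is attained. -/
theorem card_primeIdxSet_of_isNilpotent [hp : Fact p.Prime] (hG : Group.IsNilpotent G) :
    Nat.card (primeIdxSet G p)
      = ordProj[p] (Nat.card (center G)) * ordCompl[p] (Nat.card G) := by
  classical
  have hn : ∀ (q : ℕ) (_ : Fact q.Prime) (Q : Sylow q G), (Q : Subgroup G).Normal :=
    ((Group.isNilpotent_of_finite_tfae (G := G)).out 0 3).mp hG
  obtain ⟨P⟩ : Nonempty (Sylow p G) := inferInstance
  haveI := hn p hp P
  have hPu : ∀ Q : Sylow p G, Q = P := fun Q =>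
    letI := Sylow.unique_of_normal P (hn p hp P); Subsingleton.elim _ _
  set C := centralizer ((P : Subgroup G) : Set G) with hC
  have hX : primeIdxSet G p = (C : Set G) := by
    refine Set.Subset.antisymm (fun x hx => ?_) (centralizer_sylow_subset P)
    obtain ⟨Q, hQ⟩ := exists_sylow_of_mem x hx
    rwa [hPu Q] at hQ
  rw [hX]
  show Nat.card C = _
  have hCne : Nat.card C ≠ 0 := Nat.card_ne_zero.mpr ⟨inferInstance, inferInstance⟩
  have hGne : Nat.card G ≠ 0 := Nat.card_ne_zero.mpr ⟨inferInstance, inferInstance⟩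
  have hq : ∀ (q : ℕ) (_ : Fact q.Prime), q ≠ p → ∀ Q : Sylow q G, (Q : Subgroup G) ≤ C := by
    intro q hqf hqp Q x hx
    haveI := hn q hqf Q
    refine mem_centralizer_iff.mpr fun y hy => ?_
    have hdis : Disjoint (P : Subgroup G) (Q : Subgroup G) :=
      IsPGroup.disjoint_of_ne p q hqp.symm _ _ P.2 Q.2
    exact (commute_of_normal_of_disjoint _ _ inferInstance inferInstance hdis y x hy hx)
  -- the p'-part is everything
  have h1 : ordCompl[p] (Nat.card C) = ordCompl[p] (Nat.card G) := by
    refine Nat.dvd_antisymm (Nat.ordCompl_dvd_ordCompl_of_dvd (card_subgroup_dvd_card C) p) ?_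
    rw [Nat.dvd_iff_prime_pow_dvd_dvd]
    intro q j hqp hd
    haveI : Fact q.Prime := ⟨hqp⟩
    rcases eq_or_ne q p with rfl | hne
    · rcases Nat.eq_zero_or_pos j with rfl | hj
      · simp
      exact absurd ((dvd_pow_self q hj.ne').trans hd) (Nat.not_dvd_ordCompl hp.out hGne)
    · obtain ⟨Q⟩ : Nonempty (Sylow q G) := inferInstance
      have h2 : q ^ j ∣ Nat.card C := by
        refine dvd_trans ?_ (card_dvd_of_le (hq q ‹_› hne Q))
        exact Q.pow_dvd_card_of_pow_dvd_card (hd.trans (Nat.ordCompl_dvd _ _))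
      refine Nat.Coprime.dvd_of_dvd_mul_left ?_
        (dvd_trans h2 (dvd_of_eq (Nat.ordProj_mul_ordCompl_eq_self (Nat.card C) p).symm))
      exact Nat.Coprime.pow _ _ ((Nat.coprime_primes hqp hp.out).mpr hne)
  -- the p-part is that of the centre
  have h2 : ordProj[p] (Nat.card C) = ordProj[p] (Nat.card (center G)) := by
    refine Nat.dvd_antisymm ?_ (Nat.ordProj_dvd_ordProj_of_dvd hCne
      (card_dvd_of_le (center_le_centralizer _)) p)
    obtain ⟨R⟩ : Nonempty (Sylow p C) := inferInstance
    have hRZ : (R : Subgroup C).map C.subtype ≤ center G := by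
      rintro _ ⟨x, hx, rfl⟩
      rw [← centralizer_univ, mem_centralizer_iff]
      intro g _
      have hxP : (x : G) ∈ (P : Subgroup G) := by
        obtain ⟨P', hP'⟩ := (R.2.map C.subtype).exists_le_sylow
        rw [← hPu P']; exact hP' ⟨x, hx, rfl⟩
      have htop : (P : Subgroup G) ⊔ C ≤ centralizer ({(x : G)} : Set G) := by
        refine sup_le (mem_centralizer_singleton_swap.mp x.2) fun y hy => ?_
        exact mem_centralizer_iff.mpr fun z hz => hz ▸ mem_centralizer_iff.mp hy _ hxP
      have hPC : (P : Subgroup G) ⊔ C = ⊤ := by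
        rw [← index_eq_one]
        by_contra hne
        obtain ⟨q, hqp, hqd⟩ := Nat.exists_prime_and_dvd hne
        haveI : Fact q.Prime := ⟨hqp⟩
        obtain ⟨Q⟩ : Nonempty (Sylow q G) := inferInstance
        refine Q.not_dvd_index (hqd.trans (index_dvd_of_le ?_))
        rcases eq_or_ne q p with rfl | hne'
        · exact hPu Q ▸ le_sup_left
        · exact (hq q ‹_› hne' Q).trans le_sup_right
      have hg : g ∈ centralizer ({(x : G)} : Set G) := htop (hPC ▸ mem_top g)
      exact (mem_centralizer_iff.mp hg _ rfl).symm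
    have hRc := card_dvd_of_le hRZ
    rw [card_map_of_injective C.subtype_injective, R.card_eq_multiplicity] at hRc
    exact (hp.out.pow_dvd_iff_dvd_ordProj
      (Nat.card_ne_zero.mpr ⟨inferInstance, inferInstance⟩)).mp hRc
  rw [← h1, ← h2, Nat.ordProj_mul_ordCompl_eq_self]

end Cfsg.Agent.Fus
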