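import Mathlib
import Cfsg.Prelude.Def_RootSubgroups
import Cfsg.Agent.Lib.Grp.Baer
import Cfsg.Agent.Lib.Invol.Dihedral

/-!
Sets of root involutions and the graph of odd products.
-/

set_option autoImplicit false

namespace Cfsg.Agent.Fus.RootInv

variable {G : Type*} [Group G] {D : Set G}

/-- A conjugation-invariant set generates a normal subgroup. -/
theorem normal_closure_of_conj_mem {s : Set G} (h : ∀ w ∈ s, ∀ g : G, g * w * g⁻¹ ∈ s) :
    (Subgroup.closure s).Normal := by
  refine ⟨fun n hn g => ?_⟩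
  have : (Subgroup.closure s).map (MulAut.conj g).toMonoidHom ≤ Subgroup.closure s := by
    rw [MonoidHom.map_closure]
    refine Subgroup.closure_mono ?_
    rintro _ ⟨w, hw, rfl⟩
    exact h w hw g
  exact this ⟨n, hn, rfl⟩

theorem mul_self {x : G} (hD : Cfsg.IsRootInvolutionSet D) (hx : x ∈ D) : x * x = 1 := by
  have := pow_orderOf_eq_one x
  rwa [hD.orderOf_eq x hx, pow_two] at this

theorem inv_eq {x : G} (hD : Cfsg.IsRootInvolutionSet D) (hx : x ∈ D) : x⁻¹ = x :=
  inv_eq_of_mul_eq_one_right (mul_self hD hx)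

theorem ne_one {x : G} (hD : Cfsg.IsRootInvolutionSet D) (hx : x ∈ D) : x ≠ 1 := by
  rintro rfl
  simpa using hD.orderOf_eq 1 hx

theorem orderOf_mul_swap (a b : G) : orderOf (b * a) = orderOf (a * b) := by
  rw [show b * a = a⁻¹ * (a * b) * a from by group]
  exact (SemiconjBy.orderOf_eq (x := a⁻¹ * (a * b) * a) (y := a * b) a (by
    show a * (a⁻¹ * (a * b) * a) = a * b * a
    group))

theorem orderOf_conj (g x : G) : orderOf (g * x * g⁻¹) = orderOf x :=
  orderOf_injective (MulAut.conj g).toMonoidHom (MulAut.conj g).injective x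

theorem oddAdj_symm {a b : G} (h : Cfsg.OddAdj D a b) : Cfsg.OddAdj D b a :=
  ⟨h.2.1, h.1, h.2.2.1.symm, orderOf_mul_swap a b ▸ h.2.2.2⟩

theorem oddAdj_conj (hD : Cfsg.IsRootInvolutionSet D) {a b : G} (h : Cfsg.OddAdj D a b) (g : G) :
    Cfsg.OddAdj D (g * a * g⁻¹) (g * b * g⁻¹) := by
  refine ⟨hD.conj_mem a h.1 g, hD.conj_mem b h.2.1 g, fun e => h.2.2.1 ?_, ?_⟩
  · exact (MulAut.conj g).injective e
  · rw [show g * a * g⁻¹ * (g * b * g⁻¹) = g * (a * b) * g⁻¹ from by group, orderOf_conj]
    exact h.2.2.2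

theorem reach_symm {a b : G} (h : Relation.ReflTransGen (Cfsg.OddAdj D) a b) :
    Relation.ReflTransGen (Cfsg.OddAdj D) b a := by
  induction h with
  | refl => exact .refl
  | tail _ hbc ih => exact ih.head (oddAdj_symm hbc)

theorem component_eq {a b : G} (h : Relation.ReflTransGen (Cfsg.OddAdj D) a b) :
    Cfsg.elemComponentOf (Cfsg.OddAdj D) D a = Cfsg.elemComponentOf (Cfsg.OddAdj D) D b :=
  Set.ext fun _ => ⟨fun hc => ⟨hc.1, (reach_symm h).trans hc.2⟩,
    fun hc => ⟨hc.1, h.trans hc.2⟩⟩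

theorem exists_adj_of_component {a : G}
    (h : ∃ a' ∈ Cfsg.elemComponentOf (Cfsg.OddAdj D) D a, a' ≠ a) :
    ∃ d, Cfsg.OddAdj D a d := by
  obtain ⟨a', ha', hne⟩ := h
  rcases Relation.ReflTransGen.cases_head ha'.2 with e | ⟨d, hd, -⟩
  · exact absurd e.symm hne
  · exact ⟨d, hd⟩

theorem exists_adj_of_not_isolated {a : G} (ha : a ∈ D)
    (h : ¬ Cfsg.IsIsolatedElem (Cfsg.OddAdj D) D a) : ∃ d, Cfsg.OddAdj D a d := by
  by_contra! hc
  exact h ⟨ha, fun b => ⟨hc b, fun hb => hc b (oddAdj_symm hb)⟩⟩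

/-- Members with product of odd order do not commute. -/
theorem not_commute_of_oddAdj (hD : Cfsg.IsRootInvolutionSet D) {a b : G}
    (h : Cfsg.OddAdj D a b) : a * b ≠ b * a := by
  intro hc
  have hinv : (a * b) ^ 2 = 1 := by
    rw [pow_two, show a * b * (a * b) = a * (b * a) * b from by group, ← hc,
      show a * (a * b) * b = a * a * (b * b) from by group, mul_self hD h.1, mul_self hD h.2.1,
      one_mul]
  have hdvd := orderOf_dvd_of_pow_eq_one hinv
  rcases (Nat.dvd_prime Nat.prime_two).1 hdvd with h1 | h2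
  · rw [orderOf_eq_one_iff, mul_eq_one_iff_eq_inv, inv_eq hD h.2.1] at h1
    exact h.2.2.1 h1
  · have := h.2.2.2
    rw [h2] at this
    exact absurd this (by decide)

/-- If a member commutes with both ends of an edge, their product is not a member. -/
theorem not_mem_mul_of_commute (hD : Cfsg.IsRootInvolutionSet D) {a c d : G}
    (hc : c ∈ D) (hcd : c * d = d * c) (hac : a * c = c * a) (had : Cfsg.OddAdj D a d) :
    c * a ∉ D := by
  intro he
  have hcomm : Commute c (a * d) := Commute.mul_right hac.symm hcd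
  have hk : orderOf (a * d) ≠ 1 := fun h1 => by
    rw [orderOf_eq_one_iff, mul_eq_one_iff_eq_inv, inv_eq hD had.2.1] at h1
    exact had.2.2.1 h1
  have hord : orderOf (c * a * d) = 2 * orderOf (a * d) := by
    rw [mul_assoc, hcomm.orderOf_mul_eq_mul_orderOf_of_coprime, hD.orderOf_eq c hc]
    rw [hD.orderOf_eq c hc]
    exact had.2.2.2.coprime_two_left
  have hodd := had.2.2.2
  rcases hD.pair _ he d had.2.1 with h | h | ⟨h, -⟩
  · have h2 : (c * a * d) ^ 2 = 1 := by
      rw [pow_two, show c * a * d * (c * a * d) = c * a * (d * (c * a)) * d from by group, ← h,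
        show c * a * (c * a * d) * d = (c * a) * (c * a) * (d * d) from by group,
        mul_self hD he, mul_self hD had.2.1, one_mul]
    have := orderOf_dvd_of_pow_eq_one h2
    rw [hord] at this
    exact hk (Nat.dvd_one.1 ((mul_dvd_mul_iff_left two_ne_zero).1 (by simpa using this)))
  · rw [hord] at h
    exact absurd h (by simp)
  · rw [hord] at h
    obtain ⟨m, hm⟩ := hodd
    omega

/-- The key step: an odd partner of `a` is an odd partner of `c` or of the product `a * c`. -/
theorem oddAdj_partner_or_mul (hD : Cfsg.IsRootInvolutionSet D) {a c d : G}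
    (hc : c ∈ D) (hcomm : a * c = c * a) (he : a * c ∈ D) (had : Cfsg.OddAdj D a d) :
    Cfsg.OddAdj D d c ∨ Cfsg.OddAdj D d (a * c) := by
  have ha := had.1
  have hd := had.2.1
  have hnad := not_commute_of_oddAdj hD had
  rcases hD.pair c hc d hd with h | h | ⟨h, -⟩
  · exact absurd (hcomm ▸ he) (not_mem_mul_of_commute hD hc h hcomm had)
  · refine Or.inl ⟨hd, hc, ?_, ?_⟩
    · exact fun e => hnad (e ▸ hcomm)
    · rwa [orderOf_mul_swap]
  rcases hD.pair _ he d hd with h' | h' | ⟨h', -⟩
  · have hae : a * (a * c) = a * c * a := by rw [mul_assoc a c a, ← hcomm]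
    refine absurd ?_ (not_mem_mul_of_commute hD he h' hae had)
    rw [← hae, ← mul_assoc, mul_self hD ha, one_mul]
    exact hc
  · refine Or.inr ⟨hd, he, fun e => hnad ?_, ?_⟩
    · rw [e, mul_assoc a c a, ← hcomm]
    · rwa [orderOf_mul_swap]
  exfalso
  have hsq : ∀ x ∈ D, orderOf (x * d) = 4 → Commute d (x * d * x⁻¹) := fun x hx hxd => by
    have h4 : (x * d) * (x * d) * ((x * d) * (x * d)) = 1 := by
      have := pow_orderOf_eq_one (x * d)
      rw [hxd] at this
      rw [← this]
      simp [pow_succ, mul_assoc]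
    show d * (x * d * x⁻¹) = x * d * x⁻¹ * d
    rw [inv_eq hD hx]
    calc d * (x * d * x) = d * (x * d * x) * ((x * d) * (x * d) * ((x * d) * (x * d))) := by
          rw [h4, mul_one]
      _ = d * x * d * (x * x) * d * x * d * x * d * x * d := by group
      _ = d * x * (d * d) * x * d * x * d * x * d := by rw [mul_self hD hx]; group
      _ = d * (x * x) * d * x * d * x * d := by rw [mul_self hD hd]; group
      _ = (d * d) * (x * d * x) * d := by rw [mul_self hD hx]; group
      _ = x * d * x * d := by rw [mul_self hD hd]; group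
  have h1 : Commute d (c * d * c⁻¹) := hsq c hc h
  have h2 : Commute d (a * (c * d * c⁻¹) * a⁻¹) := by
    have := hsq _ he h'
    rwa [show a * c * d * (a * c)⁻¹ = a * (c * d * c⁻¹) * a⁻¹ from by group] at this
  set d₁ := c * d * c⁻¹ with hd₁
  have hd₁D : d₁ ∈ D := hD.conj_mem d hd c
  have hord : Odd (orderOf (d₁ * a)) := by
    have he' : d₁ * a = c * (d * a) * c⁻¹ := by
      have hci : c⁻¹ * a = a * c⁻¹ := by rw [inv_eq hD hc, hcomm]
      rw [hd₁, mul_assoc (c * d) c⁻¹ a, hci]
      group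
    rw [he', orderOf_conj, orderOf_mul_swap]
    exact had.2.2.2
  clear_value d₁
  have h3 : Commute d ((d₁ * a) ^ 2) := by
    rw [pow_two, show d₁ * a * (d₁ * a) = d₁ * (a * d₁ * a) from by group]
    nth_rw 2 [← inv_eq hD ha]
    exact h1.mul_right h2
  obtain ⟨m, hm⟩ := hord
  have h4 : Commute d (d₁ * a) := by
    have : ((d₁ * a) ^ 2) ^ (m + 1) = d₁ * a := by
      rw [← pow_mul, show 2 * (m + 1) = orderOf (d₁ * a) + 1 by omega, pow_succ,
        pow_orderOf_eq_one, one_mul]
    rw [← this]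
    exact h3.pow_right _
  have h5 : Commute d a := by
    have := h1.mul_right h4
    rwa [← mul_assoc, mul_self hD hd₁D, one_mul] at this
  exact hnad h5.symm.eq

/-- The key step on components: an edge at `a` puts `c` or `a * c` in the component of `a`. -/
theorem reach_partner_or_mul (hD : Cfsg.IsRootInvolutionSet D) {a c d : G}
    (hc : c ∈ D) (hcomm : a * c = c * a) (he : a * c ∈ D) (had : Cfsg.OddAdj D a d) :
    Relation.ReflTransGen (Cfsg.OddAdj D) a c ∨
      Relation.ReflTransGen (Cfsg.OddAdj D) a (a * c) :=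
  (oddAdj_partner_or_mul hD hc hcomm he had).imp (Relation.ReflTransGen.single had).tail
    (Relation.ReflTransGen.single had).tail

/-- Two commuting members with product in `D`, neither isolated, lie in one component. -/
theorem reach_of_product (hD : Cfsg.IsRootInvolutionSet D) {a c d d' : G}
    (hcomm : a * c = c * a) (he : a * c ∈ D) (had : Cfsg.OddAdj D a d)
    (hcd : Cfsg.OddAdj D c d') : Relation.ReflTransGen (Cfsg.OddAdj D) a c := by
  rcases reach_partner_or_mul hD hcd.1 hcomm he had with h | h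
  · exact h
  rcases reach_partner_or_mul hD had.1 hcomm.symm (hcomm ▸ he) hcd with h' | h'
  · exact reach_symm h'
  · exact h.trans (reach_symm (hcomm ▸ h'))

theorem isolated_conj (hD : Cfsg.IsRootInvolutionSet D) {w : G}
    (hw : Cfsg.IsIsolatedElem (Cfsg.OddAdj D) D w) (g : G) :
    Cfsg.IsIsolatedElem (Cfsg.OddAdj D) D (g * w * g⁻¹) := by
  refine ⟨hD.conj_mem w hw.1 g, fun b => ⟨fun h => (hw.2 (g⁻¹ * b * g)).1 ?_,
    fun h => (hw.2 (g⁻¹ * b * g)).2 ?_⟩⟩
  · convert oddAdj_conj hD h g⁻¹ using 1 <;> group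
  · convert oddAdj_conj hD h g⁻¹ using 1 <;> group

theorem isolated_mem_pCore [Finite G] (hD : Cfsg.IsRootInvolutionSet D) {w : G}
    (hw : Cfsg.IsIsolatedElem (Cfsg.OddAdj D) D w) : w ∈ Cfsg.pCore 2 G := by
  refine Grp.baer_suzuki w fun g => ?_
  have hv := hD.conj_mem w hw.1 g
  obtain ⟨e⟩ := Invol.nonempty_mulEquiv_dihedralGroup (hD.orderOf_eq w hw.1)
    (hD.orderOf_eq _ hv)
  have hpow : ∃ j : ℕ, orderOf (w * (g * w * g⁻¹)) = 2 ^ j := by
    rcases hD.pair w hw.1 _ hv with h | h | ⟨h, -⟩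
    · have h2 : (w * (g * w * g⁻¹)) ^ 2 = 1 := by
        rw [(show Commute w (g * w * g⁻¹) from h).mul_pow, pow_two, pow_two, mul_self hD hw.1,
          mul_self hD hv, one_mul]
      rcases (Nat.dvd_prime Nat.prime_two).1 (orderOf_dvd_of_pow_eq_one h2) with h1 | h1
      · exact ⟨0, h1⟩
      · exact ⟨1, h1⟩
    · by_cases he : w = g * w * g⁻¹
      · exact ⟨0, by rw [← he, mul_self hD hw.1]; simp⟩
      · exact absurd ⟨hw.1, hv, he, h⟩ (hw.2 _).1
    · exact ⟨2, h⟩
  obtain ⟨j, hj⟩ := hpow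
  refine IsPGroup.of_card (n := j + 1) ?_
  rw [Nat.card_congr e.toEquiv, DihedralGroup.nat_card, hj, pow_succ]
  ring

theorem isPGroup_closure_isolated [Finite G] (hD : Cfsg.IsRootInvolutionSet D) :
    IsPGroup 2 ↥(Subgroup.closure {w | Cfsg.IsIsolatedElem (Cfsg.OddAdj D) D w}) :=
  (Grp.pCore_isPGroup (p := 2)).to_le
    ((Subgroup.closure_le _).2 fun _ hw => isolated_mem_pCore hD hw)

theorem closure_isolated_inter [Finite G] (hD : Cfsg.IsRootInvolutionSet D) :
    (Subgroup.closure {w | Cfsg.IsIsolatedElem (Cfsg.OddAdj D) D w} : Set G) ∩ D =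
      {w | Cfsg.IsIsolatedElem (Cfsg.OddAdj D) D w} := by
  have hN := normal_closure_of_conj_mem (s := {w | Cfsg.IsIsolatedElem (Cfsg.OddAdj D) D w})
    fun w hw g => isolated_conj hD hw g
  refine Set.Subset.antisymm (fun d hd => ?_) (fun w hw => ⟨Subgroup.subset_closure hw, hw.1⟩)
  by_contra hni
  obtain ⟨e, he⟩ := exists_adj_of_not_isolated hd.2 hni
  have hmem : (d * e) ^ 2 ∈ Subgroup.closure {w | Cfsg.IsIsolatedElem (Cfsg.OddAdj D) D w} := by
    rw [pow_two, show d * e * (d * e) = d * (e * d * e) from by group]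
    nth_rw 2 [← inv_eq hD he.2.1]
    exact mul_mem hd.1 (hN.conj_mem d hd.1 e)
  obtain ⟨j, hj⟩ := (isPGroup_closure_isolated hD) ⟨_, hmem⟩
  have hj' : ((d * e) ^ 2) ^ 2 ^ j = 1 := congrArg Subtype.val hj
  rw [← pow_mul, show 2 * 2 ^ j = 2 ^ (j + 1) by ring] at hj'
  have hone : orderOf (d * e) = 1 :=
    Nat.Coprime.eq_one_of_dvd (Nat.Coprime.pow_right _ he.2.2.2.coprime_two_right)
      (orderOf_dvd_of_pow_eq_one hj')
  rw [orderOf_eq_one_iff, mul_eq_one_iff_eq_inv, inv_eq hD he.2.1] at hone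
  exact he.2.2.1 hone

theorem commutator_mem_closure_isolated (hD : Cfsg.IsRootInvolutionSet D) {a b d d' : G}
    (had : Cfsg.OddAdj D a d) (hbd : Cfsg.OddAdj D b d')
    (hne : ¬ Relation.ReflTransGen (Cfsg.OddAdj D) a b) :
    a * b * a⁻¹ * b⁻¹ ∈ Subgroup.closure {w | Cfsg.IsIsolatedElem (Cfsg.OddAdj D) D w} := by
  have ha := had.1
  have hb := hbd.1
  rw [inv_eq hD ha, inv_eq hD hb]
  rcases hD.pair a ha b hb with h | h | ⟨h, hc⟩
  · rw [h, show b * a * a * b = b * (a * a) * b from by group, mul_self hD ha, mul_one,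
      mul_self hD hb]
    exact one_mem _
  · exact absurd (Relation.ReflTransGen.single ⟨ha, hb, fun e => hne (e ▸ .refl), h⟩) hne
  refine Subgroup.subset_closure ?_
  have hsq : (a * b) ^ 2 = a * b * a * b := by simp [pow_two, mul_assoc]
  rw [← hsq]
  by_contra hni
  obtain ⟨d'', hcd⟩ := exists_adj_of_not_isolated hc hni
  have h4 : (a * b) ^ 2 * (a * b) ^ 2 = 1 := by
    rw [← pow_add]
    have := pow_orderOf_eq_one (a * b)
    rwa [h] at this
  have hinv : ((a * b) ^ 2)⁻¹ = (a * b) ^ 2 := inv_eq_of_mul_eq_one_right h4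
  have hca : a * (a * b) ^ 2 = b * a * b := by
    rw [hsq, show a * (a * b * a * b) = (a * a) * (b * a * b) from by group, mul_self hD ha,
      one_mul]
  have hac' : (a * b) ^ 2 * a = b * a * b := by
    rw [← hinv, hsq]
    simp only [mul_inv_rev, inv_eq hD ha, inv_eq hD hb]
    rw [show b * (a * (b * a)) * a = b * a * b * (a * a) from by group, mul_self hD ha, mul_one]
  have hcb : (a * b) ^ 2 * b = a * b * a := by
    rw [hsq, mul_assoc (a * b * a), mul_self hD hb, mul_one]
  have hbc' : b * (a * b) ^ 2 = a * b * a := by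
    rw [← hinv, hsq]
    simp only [mul_inv_rev, inv_eq hD ha, inv_eq hD hb]
    rw [show b * (b * (a * (b * a))) = b * b * (a * b * a) from by group, mul_self hD hb, one_mul]
  have hbab : b * a * b ∈ D := by
    nth_rw 2 [← inv_eq hD hb]
    exact hD.conj_mem a ha b
  have haba : a * b * a ∈ D := by
    nth_rw 2 [← inv_eq hD ha]
    exact hD.conj_mem b hb a
  have r1 := reach_of_product hD (hca.trans hac'.symm) (hca ▸ hbab) had hcd
  have r2 := reach_of_product hD (hbc'.trans hcb.symm) (hbc' ▸ haba) hbd hcd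
  exact hne (r1.trans (reach_symm r2))

end Cfsg.Agent.Fus.RootInv

namespace Cfsg.Agent.Fus.RootInv

variable {G : Type*} [Group G] [Finite G] {D : Set G}

/-- Two members of a set of odd transpositions whose product squares into the 2-core commute. -/
theorem commute_of_sq_mem_pCore (hD : Cfsg.IsOddTranspositionSet D) {u v : G} (hu : u ∈ D)
    (hv : v ∈ D) (h : (u * v) * (u * v) ∈ Cfsg.pCore 2 G) : u * v = v * u := by
  rcases hD.1.pair u hu v hv with h1 | h1 | h1
  · exact h1
  · obtain ⟨j, hj⟩ := (Grp.pCore_isPGroup (p := 2)) ⟨_, h⟩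
    have hj' : (u * v * (u * v)) ^ 2 ^ j = 1 := congrArg Subtype.val hj
    rw [← pow_two, ← pow_mul, show 2 * 2 ^ j = 2 ^ (j + 1) by ring] at hj'
    have hone : orderOf (u * v) = 1 :=
      Nat.Coprime.eq_one_of_dvd (Nat.Coprime.pow_right _ h1.coprime_two_right)
        (orderOf_dvd_of_pow_eq_one hj')
    rw [orderOf_eq_one_iff, mul_eq_one_iff_eq_inv, inv_eq hD.1 hv] at hone
    rw [hone]
  · exact absurd h1.1 (hD.2 u hu v hv)

theorem commute_conj_of_mem_pCore (hD : Cfsg.IsOddTranspositionSet D) {a e x : G} (ha : a ∈ D)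
    (he : e ∈ D) (hea : e * a = a * e) (hx : x ∈ Cfsg.pCore 2 G) :
    e * (x * a * x⁻¹) = x * a * x⁻¹ * e := by
  refine commute_of_sq_mem_pCore hD he (hD.1.conj_mem a ha x) ?_
  rw [← QuotientGroup.eq_one_iff]
  have hx1 : (x : G ⧸ Cfsg.pCore 2 G) = 1 := (QuotientGroup.eq_one_iff x).2 hx
  simp only [QuotientGroup.mk_mul, QuotientGroup.mk_inv, hx1, inv_one, mul_one, one_mul]
  rw [← QuotientGroup.mk_mul, ← QuotientGroup.mk_mul, QuotientGroup.eq_one_iff]
  rw [show e * a * (e * a) = e * (a * e) * a from by group, ← hea,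
    show e * (e * a) * a = e * e * (a * a) from by group, mul_self hD.1 he, mul_self hD.1 ha,
    one_mul]
  exact one_mem _

theorem centralizes_commutator_pCore (hD : Cfsg.IsOddTranspositionSet D) {a e : G} (ha : a ∈ D)
    (he : e ∈ D) (hea : e * a = a * e) {q : G}
    (hq : q ∈ ⁅Cfsg.pCore 2 G, Subgroup.zpowers a⁆) : e * q = q * e := by
  suffices h : ⁅Cfsg.pCore 2 G, Subgroup.zpowers a⁆ ≤ Subgroup.centralizer {e} by
    exact Subgroup.mem_centralizer_iff.1 (h hq) e rfl
  refine Subgroup.commutator_le.2 fun x hx y hy => ?_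
  refine Subgroup.mem_centralizer_iff.2 fun z hz => ?_
  rw [Set.mem_singleton_iff.1 hz]
  obtain ⟨i, rfl⟩ := Subgroup.mem_zpowers_iff.1 hy
  have hc : Commute e (x * a * x⁻¹) := commute_conj_of_mem_pCore hD ha he hea hx
  have h2 : Commute e (x * a ^ i * x⁻¹ * (a ^ i)⁻¹) := by
    rw [← conj_zpow]
    exact (hc.zpow_right i).mul_right ((show Commute e a from hea).zpow_right i).inv_right
  exact h2.eq

theorem centralizer_mul_eq (hD : Cfsg.IsOddTranspositionSet D) {a b : G}
    (hab : Cfsg.OddAdj D a b) :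
    Cfsg.pCore 2 G ⊓ Subgroup.centralizer {a * b} =
      Cfsg.pCore 2 G ⊓ Subgroup.centralizer {a} ⊓ Subgroup.centralizer {b} := by
  refine le_antisymm (fun q hq => ?_) fun q hq => ?_
  · obtain ⟨hqQ, hqc⟩ := hq
    have hq' : a * b * q = q * (a * b) := Subgroup.mem_centralizer_iff.1 hqc _ rfl
    have ha := hab.1
    have hb := hab.2.1
    set a' := q * a * q⁻¹ with ha'
    have ha'D : a' ∈ D := hD.1.conj_mem a ha q
    have hca : Commute a a' := commute_conj_of_mem_pCore hD ha ha rfl hqQ
    have hcb : Commute b (q * b * q⁻¹) := commute_conj_of_mem_pCore hD hb hb rfl hqQ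
    have hw : a' * a = q * b * q⁻¹ * b := by
      have h1 : a' * (q * b * q⁻¹) = a * b := by
        rw [ha', show q * a * q⁻¹ * (q * b * q⁻¹) = q * (a * b) * q⁻¹ from by group, ← hq']
        group
      calc a' * a = a' * (a * b) * b := by
            rw [mul_assoc a' (a * b) b, mul_assoc a b b, mul_self hD.1 hb, mul_one]
        _ = a' * a' * (q * b * q⁻¹) * b := by rw [← h1]; group
        _ = q * b * q⁻¹ * b := by rw [mul_self hD.1 ha'D, one_mul]
    have hwa : Commute (a' * a) a := (hca.symm).mul_left (Commute.refl a)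
    have hwb : Commute (a' * a) b := hw ▸ (hcb.symm).mul_left (Commute.refl b)
    have hw2 : (a' * a) * (a' * a) = 1 := by
      rw [show a' * a * (a' * a) = a' * (a * a') * a from by group, hca.eq,
        show a' * (a' * a) * a = a' * a' * (a * a) from by group, mul_self hD.1 ha'D,
        mul_self hD.1 ha, one_mul]
    have hone : a' * a = 1 := by
      by_contra hne
      have : Fact (Nat.Prime 2) := ⟨Nat.prime_two⟩
      have hordw : orderOf (a' * a) = 2 := orderOf_eq_prime (by rw [pow_two]; exact hw2) hne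
      have hord : orderOf (a' * b) = 2 * orderOf (a * b) := by
        rw [show a' * b = a' * a * (a * b) from by
            rw [show a' * a * (a * b) = a' * (a * a) * b from by group, mul_self hD.1 ha, mul_one],
          (hwa.mul_right hwb).orderOf_mul_eq_mul_orderOf_of_coprime, hordw]
        rw [hordw]
        exact hab.2.2.2.coprime_two_left
      have hk : orderOf (a * b) ≠ 1 := fun h1 => by
        rw [orderOf_eq_one_iff, mul_eq_one_iff_eq_inv, inv_eq hD.1 hb] at h1
        exact hab.2.2.1 h1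
      rcases hD.1.pair a' ha'D b hb with h | h | h
      · have h2 : (a' * b) ^ 2 = 1 := by
          rw [(show Commute a' b from h).mul_pow, pow_two, pow_two, mul_self hD.1 ha'D,
            mul_self hD.1 hb, one_mul]
        have := orderOf_dvd_of_pow_eq_one h2
        rw [hord] at this
        exact hk (Nat.dvd_one.1 ((mul_dvd_mul_iff_left two_ne_zero).1 (by simpa using this)))
      · rw [hord] at h
        exact absurd h (by simp)
      · exact hD.2 a' ha'D b hb h.1
    have hqa : a * q = q * a := by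
      have : a' = a := by rw [mul_eq_one_iff_eq_inv.1 hone, inv_eq hD.1 ha]
      rw [ha'] at this
      calc a * q = q * a * q⁻¹ * q := by rw [this]
        _ = q * a := by group
    have hqb : b * q = q * b := by
      rw [hone] at hw
      have : q * b * q⁻¹ = b := by rw [mul_eq_one_iff_eq_inv.1 hw.symm, inv_eq hD.1 hb]
      calc b * q = q * b * q⁻¹ * q := by rw [this]
        _ = q * b := by group
    exact ⟨⟨hqQ, Subgroup.mem_centralizer_iff.2 fun z hz => by
      rw [Set.mem_singleton_iff.1 hz]; exact hqa⟩, Subgroup.mem_centralizer_iff.2 fun z hz => by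
      rw [Set.mem_singleton_iff.1 hz]; exact hqb⟩
  · obtain ⟨⟨hqQ, hqa⟩, hqb⟩ := hq
    refine ⟨hqQ, Subgroup.mem_centralizer_iff.2 fun z hz => ?_⟩
    rw [Set.mem_singleton_iff.1 hz]
    exact ((show Commute q a from (Subgroup.mem_centralizer_iff.1 hqa a rfl).symm).mul_right
      (Subgroup.mem_centralizer_iff.1 hqb b rfl).symm).symm.eq

end Cfsg.Agent.Fus.RootInv
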