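import Mathlib
import Cfsg.Agent.Lib.Fus.RootInvolutions

/-!
Root involutions with a connected graph of odd products: the odd partners of a member determine
its commuting members, and a product partner outside the class of equal centralizers is moved by
a partner of order three.
-/

set_option autoImplicit false

namespace Cfsg.Agent.Fus.RootInv

variable {G : Type*} [Group G] {D : Set G}

theorem mem_oddPartners {d y : G} (hd : d ∈ D) :
    y ∈ Cfsg.oddPartners D d ↔ Cfsg.OddAdj D d y :=
  ⟨fun h => ⟨hd, h.1, h.2.1.symm, h.2.2⟩, fun h => ⟨h.2.1, h.2.2.1.symm, h.2.2.2⟩⟩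

theorem sq_of_commute (hD : Cfsg.IsRootInvolutionSet D) {a b : G} (ha : a ∈ D) (hb : b ∈ D)
    (h : a * b = b * a) : (a * b) ^ 2 = 1 := by
  rw [(show Commute a b from h).mul_pow, pow_two, pow_two, mul_self hD ha, mul_self hD hb, one_mul]

theorem not_commute_of_four (hD : Cfsg.IsRootInvolutionSet D) {a b : G} (ha : a ∈ D) (hb : b ∈ D)
    (h : orderOf (a * b) = 4) : a * b ≠ b * a := fun e => by
  have := orderOf_dvd_of_pow_eq_one (sq_of_commute hD ha hb e)
  rw [h] at this
  exact absurd this (by decide)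

theorem not_odd_of_four {a b : G} (h : orderOf (a * b) = 4) : ¬ Cfsg.OddAdj D a b := fun e => by
  have := e.2.2.2
  rw [h] at this
  exact absurd this (by decide)

theorem trichotomy (hD : Cfsg.IsRootInvolutionSet D) {a b : G} (ha : a ∈ D) (hb : b ∈ D) :
    a * b = b * a ∨ Cfsg.OddAdj D a b ∨ orderOf (a * b) = 4 := by
  rcases hD.pair a ha b hb with h | h | h
  · exact Or.inl h
  · by_cases e : a = b
    · exact Or.inl (by rw [e])
    · exact Or.inr (Or.inl ⟨ha, hb, e, h⟩)
  · exact Or.inr (Or.inr h.1)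

/-- The square `q` of a product `p * t` of order four. -/
theorem four_facts (hD : Cfsg.IsRootInvolutionSet D) {p t q : G} (hp : p ∈ D) (ht : t ∈ D)
    (h : orderOf (p * t) = 4) (hq : (p * t) ^ 2 = q) :
    q ∈ D ∧ (t * p) ^ 2 = q ∧ q = p * (t * p * t) ∧ q * p = p * q ∧ q * t = t * q ∧
      q * t ∈ D ∧ p * q = t * p * t ∧ p * q ∈ D := by
  have hq' : q = p * t * p * t := by rw [← hq, pow_two]; group
  have hqD : q ∈ D := by
    rcases hD.pair p hp t ht with e | e | e
    · exact absurd e (not_commute_of_four hD hp ht h)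
    · rw [h] at e; exact absurd e (by decide)
    · exact hq ▸ e.2
  have htp : t * p = (p * t)⁻¹ := by rw [mul_inv_rev, inv_eq hD hp, inv_eq hD ht]
  have htp2 : (t * p) ^ 2 = q := by rw [htp, inv_pow, hq, inv_eq hD hqD]
  have hq'' : q = t * p * t * p := by rw [← htp2, pow_two]; group
  have e1 : p * q = t * p * t := by
    rw [hq', show p * (p * t * p * t) = p * p * (t * p * t) by group, mul_self hD hp, one_mul]
  have e2 : q * p = t * p * t := by
    rw [hq'', mul_assoc _ p p, mul_self hD hp, mul_one]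
  have e3 : q * t = p * t * p := by rw [hq', mul_assoc _ t t, mul_self hD ht, mul_one]
  have e4 : t * q = p * t * p := by
    rw [hq'', show t * (t * p * t * p) = t * t * (p * t * p) by group, mul_self hD ht, one_mul]
  refine ⟨hqD, htp2, by rw [hq']; group, e2.trans e1.symm, e3.trans e4.symm, ?_, e1, ?_⟩
  · rw [e3]
    simpa [inv_eq hD hp] using hD.conj_mem t ht p
  · rw [e1]
    simpa [inv_eq hD ht] using hD.conj_mem p hp t

/-- An involution centralizing an edge `(c, t)` and moving `c` inside `D` is trivial. -/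
theorem eq_one_of_commute_edge (hD : Cfsg.IsRootInvolutionSet D) {c t w : G}
    (hct : Cfsg.OddAdj D c t) (hw : w * w = 1) (hwc : w * c = c * w) (hwt : w * t = t * w)
    (he : w * c ∈ D) : w = 1 := by
  by_contra hw1
  have : Fact (Nat.Prime 2) := ⟨Nat.prime_two⟩
  have h2 : orderOf w = 2 := orderOf_eq_prime (by rw [pow_two, hw]) hw1
  have hk : orderOf (c * t) ≠ 1 := fun h => by
    rw [orderOf_eq_one_iff, mul_eq_one_iff_eq_inv, inv_eq hD hct.2.1] at h
    exact hct.2.2.1 h
  have hord : orderOf (w * c * t) = 2 * orderOf (c * t) := by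
    rw [mul_assoc, ((show Commute w c from hwc).mul_right hwt).orderOf_mul_eq_mul_orderOf_of_coprime,
      h2]
    rw [h2]
    exact hct.2.2.2.coprime_two_left
  rcases trichotomy hD he hct.2.1 with h | h | h
  · have := orderOf_dvd_of_pow_eq_one (sq_of_commute hD he hct.2.1 h)
    rw [hord] at this
    exact hk (Nat.dvd_one.1 ((mul_dvd_mul_iff_left two_ne_zero).1 (by simpa using this)))
  · have := h.2.2.2
    rw [hord] at this
    exact absurd this (by simp)
  · rw [hord] at h
    obtain ⟨m, hm⟩ := hct.2.2.2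
    omega

/-- One step of the descent: the square of `p * t` is a mover for the other end of the edge. -/
theorem descent_step (hD : Cfsg.IsRootInvolutionSet D) {p s t q : G} (hp : p ∈ D)
    (hps : p * s = s * p) (hts : Cfsg.OddAdj D t s) (h : orderOf (p * t) = 4)
    (hq : (p * t) ^ 2 = q) : orderOf (q * s) = 4 := by
  obtain ⟨hqD, -, -, hqp, hqt, hqtD, -, hpqD⟩ := four_facts hD hp hts.1 h hq
  rcases trichotomy hD hqD hts.2.1 with e | e | e
  · exact absurd hqtD (not_mem_mul_of_commute hD hqD e hqt.symm hts)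
  · exact absurd hpqD (not_mem_mul_of_commute hD hp hps hqp e)
  · exact e

/-- Commuting members with the same square mover are equal. -/
theorem descent_inj (hD : Cfsg.IsRootInvolutionSet D) {p p' s t : G} (hp : p ∈ D) (hp' : p' ∈ D)
    (hpp : p * p' = p' * p) (hps : p * s = s * p) (hpsD : p * s ∈ D) (hp's : p' * s = s * p')
    (hp'sD : p' * s ∈ D) (hts : Cfsg.OddAdj D t s) (h : orderOf (p * t) = 4)
    (h' : orderOf (p' * t) = 4) (he : (p * t) ^ 2 = (p' * t) ^ 2) : p = p' := by
  obtain ⟨q, hq⟩ : ∃ q, q = (p * t) ^ 2 := ⟨_, rfl⟩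
  obtain ⟨hqD, -, -, -, hqt, -, e1, -⟩ := four_facts hD hp hts.1 h hq.symm
  obtain ⟨-, -, -, hqp', -, -, e2, -⟩ := four_facts hD hp' hts.1 h' (he.symm.trans hq.symm)
  obtain ⟨w, hw⟩ : ∃ w, w = p * p' := ⟨_, rfl⟩
  have hwt : w * t = t * w := by
    have : w = t * w * t := by
      calc w = p * q * (p' * q) := by
            rw [hw, show p * q * (p' * q) = p * (q * p') * q by group, hqp',
              show p * (p' * q) * q = p * p' * (q * q) by group, mul_self hD hqD, mul_one]
        _ = t * p * t * (t * p' * t) := by rw [e1, e2]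
        _ = t * p * (t * t) * p' * t := by group
        _ = t * w * t := by rw [mul_self hD hts.1, hw]; group
    conv_lhs => rw [this]
    rw [mul_assoc, mul_self hD hts.1, mul_one]
  have hw1 : w = 1 := by
    refine eq_one_of_commute_edge hD (c := s * p) (t := t) ?_ ?_ ?_ hwt ?_
    · rcases oddAdj_partner_or_mul hD hp hps.symm (hps ▸ hpsD) (oddAdj_symm hts) with e | e
      · exact absurd (oddAdj_symm e) (not_odd_of_four h)
      · exact oddAdj_symm e
    · rw [hw, ← pow_two, sq_of_commute hD hp hp' hpp]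
    · have c1 : Commute w s := by rw [hw]; exact Commute.mul_left hps hp's
      have c2 : Commute w p := by rw [hw]; exact Commute.mul_left rfl hpp.symm
      exact (c1.mul_right c2).eq
    · rw [hw, ← hps, show p * p' * (p * s) = p * (p' * p) * s by group, ← hpp,
        show p * (p * p') * s = p * p * (p' * s) by group, mul_self hD hp, one_mul]
      exact hp'sD
  rw [hw, mul_eq_one_iff_eq_inv, inv_eq hD hp'] at hw1
  exact hw1

/-- The alternating sequence of squares starting from `b`. -/
def descent (a y b : G) : ℕ → G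
  | 0 => b
  | i + 1 => (descent a y b i * if Even i then y else a) ^ 2

/-- A product partner of `a` with an edge of `a` not centralized by it is a square `(a * v) ^ 2`. -/
theorem exists_mover [Finite G] (hD : Cfsg.IsRootInvolutionSet D) {a b y : G} (hb : b ∈ D)
    (hab : b * a = a * b) (habD : b * a ∈ D) (hay : Cfsg.OddAdj D a y)
    (hby : orderOf (b * y) = 4) : ∃ v ∈ D, orderOf (a * v) = 4 ∧ (a * v) ^ 2 = b := by
  obtain ⟨t, ht⟩ : ∃ t : ℕ → G, t = fun i => if Even i then y else a := ⟨_, rfl⟩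
  obtain ⟨e, he⟩ : ∃ e : ℕ → G, e = descent a y b := ⟨_, rfl⟩
  have hsucc : ∀ i, e (i + 1) = (e i * t i) ^ 2 := fun i => by rw [he, ht]; rfl
  have ht2 : ∀ i, t (i + 2) = t i := fun i => by rw [ht]; simp [Nat.even_add]
  have hadj : ∀ i, Cfsg.OddAdj D (t i) (t (i + 1)) := fun i => by
    rw [ht]
    by_cases hi : Even i
    · simp only [hi, if_true, Nat.even_add_one, not_true, if_false]
      exact oddAdj_symm hay
    · simp only [hi, if_false, Nat.even_add_one, not_false_iff, if_true]
      exact hay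
  have inv : ∀ i, e i ∈ D ∧ e i * t (i + 1) = t (i + 1) * e i ∧ e i * t (i + 1) ∈ D ∧
      orderOf (e i * t i) = 4 := by
    intro i
    induction i with
    | zero =>
      rw [show e 0 = b by rw [he]; rfl, show t (0 + 1) = a by rw [ht]; simp,
        show t 0 = y by rw [ht]; simp]
      exact ⟨hb, hab, habD, hby⟩
    | succ i ih =>
      obtain ⟨h1, h2, -, h4⟩ := ih
      obtain ⟨hqD, -, -, -, hqt, hqtD, -, -⟩ := four_facts hD h1 (hadj i).1 h4 (hsucc i).symm
      rw [show t (i + 1 + 1) = t i from ht2 i]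
      exact ⟨hqD, hqt, hqtD, descent_step hD h1 h2 (hadj i) h4 (hsucc i).symm⟩
  have hstep : ∀ i, e (i + 1) = e i * (t i * e i * t i) ∧ e (i + 1) * e i = e i * e (i + 1) :=
    fun i => by
      obtain ⟨-, -, h, h', -⟩ := four_facts hD (inv i).1 (hadj i).1 (inv i).2.2.2 (hsucc i).symm
      exact ⟨h, h'⟩
  have hpar : ∀ i k, Even k → t (i + k) = t i := fun i k hk => by
    rw [ht]; simp [Nat.even_add, hk]
  have hcomm : ∀ k i, Commute (e i) (e (i + k)) := by
    intro k
    induction k using Nat.strong_induction_on with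
    | _ k ih =>
      intro i
      rcases k with - | k
      · exact Commute.refl _
      have h0 := ih k (Nat.lt_succ_self k) i
      rcases k with - | k
      · exact (hstep i).2.symm
      rw [← add_assoc, (hstep _).1]
      refine h0.mul_right ?_
      obtain ⟨s, hs⟩ : ∃ s, s = t (i + (k + 1)) := ⟨_, rfl⟩
      rw [← hs]
      have hss : s * s = 1 := mul_self hD (hs ▸ (hadj _).1)
      have key : Commute (s * e i * s) (e (i + (k + 1))) := by
        by_cases hk : Even (k + 1)
        · rw [hs, hpar i _ hk, show t i * e i * t i = (e i)⁻¹ * e (i + 1) by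
            rw [(hstep i).1, inv_mul_cancel_left]]
          refine h0.inv_left.mul_left ?_
          have := ih k (by omega) (i + 1)
          rwa [show i + 1 + k = i + (k + 1) by omega] at this
        · rw [hs, show i + (k + 1) = i + 1 + k by omega,
            hpar (i + 1) k (by rwa [Nat.even_add_one, not_not] at hk),
            ← (inv i).2.1, mul_assoc, mul_self hD (hadj (i + 1)).1, mul_one,
            show i + 1 + k = i + (k + 1) by omega]
          exact h0
      show e i * (s * e (i + (k + 1)) * s) = s * e (i + (k + 1)) * s * e i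
      calc e i * (s * e (i + (k + 1)) * s)
            = s * s * e i * s * e (i + (k + 1)) * s := by rw [hss, one_mul]; group
        _ = s * (s * e i * s * e (i + (k + 1))) * s := by group
        _ = s * (e (i + (k + 1)) * (s * e i * s)) * s := by rw [key.eq]
        _ = s * e (i + (k + 1)) * s * e i * (s * s) := by group
        _ = _ := by rw [hss, mul_one]
  have hdown : ∀ i m, Even m → e (i + 1) = e (i + m + 1) → e i = e (i + m) := by
    intro i m hm h
    have h1 := hpar (i + 1) m hm
    have h2 := hpar i m hm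
    rw [show i + 1 + m = i + m + 1 by omega] at h1
    obtain ⟨a1, a2, a3, a4⟩ := inv i
    obtain ⟨b1, b2, b3, b4⟩ := inv (i + m)
    rw [h1] at b2 b3
    rw [h2] at b4
    refine descent_inj hD a1 b1 (hcomm m i) a2 a3 b2 b3 (hadj i) a4 b4 ?_
    rw [← hsucc i, h, hsucc, h2]
  obtain ⟨k, l, hkl, hel⟩ := Finite.exists_ne_map_eq_of_infinite (fun k => e (2 * k))
  wlog hlt : k < l generalizing k l
  · exact this l k hkl.symm hel.symm (by omega)
  obtain ⟨m, rfl⟩ := Nat.exists_eq_add_of_lt hlt
  have hzero : ∀ i, e i = e (i + 2 * (m + 1)) → e 0 = e (0 + 2 * (m + 1)) := by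
    intro i
    induction i with
    | zero => exact id
    | succ i ih =>
      intro h
      refine ih (hdown i _ (even_two_mul _) ?_)
      rw [h]; congr 1; omega
  have hper := hzero (2 * k) (hel.trans (by congr 1; omega))
  obtain ⟨v, hv⟩ : ∃ v, v = e (2 * m + 1) := ⟨_, rfl⟩
  have hta : t (2 * m + 1) = a := by rw [ht]; simp
  obtain ⟨hvD, -, -, hv4⟩ := inv (2 * m + 1)
  rw [hta, ← hv] at hv4
  rw [← hv] at hvD
  refine ⟨v, hvD, orderOf_mul_swap v a ▸ hv4, ?_⟩
  have hvb : (v * a) ^ 2 = b := by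
    rw [hv]
    conv_lhs => rw [← hta, ← hsucc]
    rw [show 2 * m + 1 + 1 = 0 + 2 * (m + 1) by omega, ← hper, he]
    rfl
  exact (four_facts hD hvD hay.1 hv4 hvb).2.1

/-- Two movers of a triangle have product of order three. -/
theorem orderOf_movers (hD : Cfsg.IsRootInvolutionSet D) {p q s t : G} (hp : p ∈ D) (hq : q ∈ D)
    (hpq : p * q = q * p) (hs : orderOf (p * s) = 4) (hsq : (p * s) ^ 2 = q) (hsD : s ∈ D)
    (ht : orderOf (q * t) = 4) (htp : (q * t) ^ 2 = p) (htD : t ∈ D) :
    orderOf (s * t) = 3 := by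
  obtain ⟨-, -, -, -, hqs, hqsD, hsps, -⟩ := four_facts hD hp hsD hs hsq
  obtain ⟨-, -, -, -, hpt, -, htqt, -⟩ := four_facts hD hq htD ht htp
  have hss := mul_self hD hsD
  have htt := mul_self hD htD
  obtain ⟨g, hg⟩ : ∃ g, g = s * t := ⟨_, rfl⟩
  have hsp : s * p = p * q * s := by
    rw [hsps, mul_assoc (s * p), hss, mul_one]
  have htq : t * q = q * p * t := by
    rw [htqt, mul_assoc (t * q), htt, mul_one]
  have hgp : g * p = p * q * g := by
    calc g * p = s * (t * p) := by rw [hg]; group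
      _ = s * (p * t) := by rw [← hpt]
      _ = s * p * t := by group
      _ = p * q * g := by rw [hsp, hg]; group
  have hgq : g * q = p * g := by
    calc g * q = s * (t * q) := by rw [hg]; group
      _ = s * q * p * t := by rw [htq]; group
      _ = q * s * p * t := by rw [hqs]
      _ = q * (p * q) * (s * t) := by rw [mul_assoc q s p, hsp]; group
      _ = p * g := by
          rw [hpq, ← mul_assoc q q p, mul_self hD hq, one_mul, hg]
  have hgpq : g * (p * q) = q * g := by
    rw [← mul_assoc, hgp, mul_assoc, hgq, hpq,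
      show q * p * (p * g) = q * (p * p) * g by group, mul_self hD hp, mul_one]
  have hp3 : g ^ 3 * p = p * g ^ 3 := by
    calc g ^ 3 * p = g * (g * (g * p)) := by simp only [pow_succ, pow_zero]; group
      _ = g * ((g * (p * q)) * g) := by rw [hgp]; group
      _ = (g * q) * (g * g) := by rw [hgpq]; group
      _ = p * g ^ 3 := by rw [hgq]; simp only [pow_succ, pow_zero]; group
  have hq3 : g ^ 3 * q = q * g ^ 3 := by
    calc g ^ 3 * q = g * (g * (g * q)) := by simp only [pow_succ, pow_zero]; group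
      _ = g * ((g * p) * g) := by rw [hgq]; group
      _ = (g * (p * q)) * (g * g) := by rw [hgp]; group
      _ = q * g ^ 3 := by rw [hgpq]; simp only [pow_succ, pow_zero]; group
  have hg4 : g ^ 4 ≠ 1 := fun h4 => by
    have h : g ^ 4 * p = p * q * g ^ 4 := by
      calc g ^ 4 * p = g * (g ^ 3 * p) := by simp only [pow_succ, pow_zero]; group
        _ = (g * p) * g ^ 3 := by rw [hp3]; group
        _ = _ := by rw [hgp]; simp only [pow_succ, pow_zero]; group
    rw [h4, one_mul, mul_one, left_eq_mul] at h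
    exact ne_one hD hq h
  have hg1 : g ≠ 1 := fun h => hg4 (by rw [h, one_pow])
  have hodd : Odd (orderOf g) := by
    rcases hD.pair s hsD t htD with h | h | h
    · refine absurd ?_ hg4
      rw [hg, show (4 : ℕ) = 2 * 2 from rfl, pow_mul, sq_of_commute hD hsD htD h, one_pow]
    · exact hg ▸ h
    · refine absurd ?_ hg4
      rw [hg, ← h.1, pow_orderOf_eq_one]
  by_cases h3 : g ^ 3 = 1
  · have : Fact (Nat.Prime 3) := ⟨Nat.prime_three⟩
    rw [← hg]
    exact orderOf_eq_prime h3 hg1
  exfalso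
  obtain ⟨n, hn⟩ := hodd
  obtain ⟨j, hj⟩ : ∃ j, j = n + 2 := ⟨_, rfl⟩
  have hj2 : g ^ 3 = g ^ (j + j) := by
    rw [show j + j = 3 + orderOf g by omega, pow_add, pow_orderOf_eq_one, mul_one]
  have hsg : s * g ^ j = (g ^ j)⁻¹ * s := by
    have hc : s * g * s⁻¹ = g⁻¹ := by
      rw [hg, mul_inv_rev, inv_eq hD hsD, inv_eq hD htD, ← mul_assoc s s t, hss, one_mul]
    have hp' := congrArg (fun x => x ^ j) hc
    simp only [conj_pow, inv_pow] at hp'
    exact mul_inv_eq_iff_eq_mul.1 hp'
  obtain ⟨s', hs'⟩ : ∃ s', s' = s * g ^ 3 := ⟨_, rfl⟩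
  have hs'D : s' ∈ D := by
    rw [hs', hj2, pow_add, ← mul_assoc, hsg]
    simpa using hD.conj_mem s hsD (g ^ j)⁻¹
  have hq' : q * s' = s' * q := by
    rw [hs', ← mul_assoc, hqs, mul_assoc, ← hq3, mul_assoc]
  have hss' : s * s' = g ^ 3 := by rw [hs', ← mul_assoc, hss, one_mul]
  have hadj : Cfsg.OddAdj D s s' := by
    refine ⟨hsD, hs'D, fun e => h3 ?_, ?_⟩
    · rw [← hss', ← e, hss]
    · rw [hss']
      exact Odd.of_dvd_nat ⟨n, hn⟩ (orderOf_pow_dvd 3)
  exact not_mem_mul_of_commute hD hq hq' hqs.symm hadj hqsD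

theorem oddPartners_conj (hD : Cfsg.IsRootInvolutionSet D) (g : G) {d : G} (hd : d ∈ D) :
    Cfsg.oddPartners D (g * d * g⁻¹) = (fun y => g * y * g⁻¹) '' Cfsg.oddPartners D d := by
  ext y
  rw [mem_oddPartners (hD.conj_mem d hd g)]
  constructor
  · intro h
    refine ⟨g⁻¹ * y * g, (mem_oddPartners hd).2 ?_, by group⟩
    convert oddAdj_conj hD h g⁻¹ using 1 <;> group
  · rintro ⟨z, hz, rfl⟩
    exact oddAdj_conj hD ((mem_oddPartners hd).1 hz) g

theorem exists_conj_of_oddAdj (hD : Cfsg.IsRootInvolutionSet D) {a y : G}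
    (h : Cfsg.OddAdj D a y) : ∃ k : G, k * a * k⁻¹ = y := by
  obtain ⟨n, hn⟩ := h.2.2.2
  refine ⟨(a * y) ^ n, ?_⟩
  have hc : a * (a * y) * a⁻¹ = (a * y)⁻¹ := by
    rw [mul_inv_rev, inv_eq hD h.2.1, inv_eq hD h.1, ← mul_assoc a a y, mul_self hD h.1, one_mul]
  have hp := congrArg (fun x => x ^ n) hc
  simp only [conj_pow, inv_pow] at hp
  have hinv : a * ((a * y) ^ n)⁻¹ = (a * y) ^ n * a := by
    rw [← mul_inv_eq_iff_eq_mul]
    have := congrArg (fun z => z⁻¹) hp
    simpa [mul_assoc] using this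
  rw [mul_assoc, hinv, ← mul_assoc, ← pow_add]
  calc (a * y) ^ (n + n) * a = (a * y) ^ (n + n) * (a * y * y) := by
        rw [mul_assoc a y y, mul_self hD h.2.1, mul_one]
    _ = (a * y) ^ (n + n + 1) * y := by rw [pow_succ]; group
    _ = y := by rw [show n + n + 1 = orderOf (a * y) by omega, pow_orderOf_eq_one, one_mul]

theorem exists_conj_of_connected (hD : Cfsg.IsRootInvolutionSet D)
    (hc : Cfsg.IsConnectedSet (Cfsg.OddAdj D) D) {a b : G} (ha : a ∈ D) (hb : b ∈ D) :
    ∃ g : G, g * a * g⁻¹ = b := by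
  have h := hc a ha b hb
  clear hb
  induction h with
  | refl => exact ⟨1, by group⟩
  | tail _ h ih =>
    obtain ⟨g, hg⟩ := ih
    obtain ⟨k, hk⟩ := exists_conj_of_oddAdj hD h
    exact ⟨k * g, by rw [← hk, ← hg]; group⟩

variable [Finite G]

theorem eq_of_oddPartners_subset (hD : Cfsg.IsRootInvolutionSet D)
    (hc : Cfsg.IsConnectedSet (Cfsg.OddAdj D) D) {a b : G} (ha : a ∈ D) (hb : b ∈ D)
    (h : Cfsg.oddPartners D a ⊆ Cfsg.oddPartners D b) :
    Cfsg.oddPartners D a = Cfsg.oddPartners D b := by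
  obtain ⟨g, hg⟩ := exists_conj_of_connected hD hc ha hb
  refine Set.eq_of_subset_of_ncard_le h ?_ (Set.toFinite _)
  rw [← hg, oddPartners_conj hD g ha,
    Set.ncard_image_of_injective _ (f := fun y => g * y * g⁻¹) (MulAut.conj g).injective]

/-- If `a` and `a * q` have the same odd partners, so has `q`. -/
theorem oddPartners_mul_eq (hD : Cfsg.IsRootInvolutionSet D)
    (hc : Cfsg.IsConnectedSet (Cfsg.OddAdj D) D) {a q : G} (ha : a ∈ D) (hq : q ∈ D)
    (hcomm : q * a = a * q) (hmem : q * a ∈ D)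
    (h : Cfsg.oddPartners D (q * a) = Cfsg.oddPartners D a) :
    Cfsg.oddPartners D q = Cfsg.oddPartners D a := by
  refine eq_of_oddPartners_subset hD hc hq ha fun y hy => ?_
  rcases oddAdj_partner_or_mul hD ha hcomm hmem ((mem_oddPartners hq).1 hy) with e | e
  · exact (mem_oddPartners ha).2 (oddAdj_symm e)
  · rw [← h]; exact (mem_oddPartners hmem).2 (oddAdj_symm e)

/-- A member with an edge that is not an edge of a product partner gives an edge and a four. -/
theorem exists_four_of_ne (hD : Cfsg.IsRootInvolutionSet D)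
    (hc : Cfsg.IsConnectedSet (Cfsg.OddAdj D) D) {a b : G} (ha : a ∈ D) (hb : b ∈ D)
    (hcomm : b * a = a * b) (hmem : b * a ∈ D)
    (h : Cfsg.oddPartners D a ≠ Cfsg.oddPartners D b) :
    ∃ y, Cfsg.OddAdj D a y ∧ orderOf (b * y) = 4 := by
  obtain ⟨y, hy, hy'⟩ : ∃ y, y ∈ Cfsg.oddPartners D a ∧ y ∉ Cfsg.oddPartners D b := by
    by_contra! hcon
    exact h (eq_of_oddPartners_subset hD hc ha hb hcon)
  have hay := (mem_oddPartners ha).1 hy
  refine ⟨y, hay, ?_⟩
  rcases trichotomy hD hb hay.2.1 with e | e | e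
  · exact absurd hmem (not_mem_mul_of_commute hD hb e hcomm.symm hay)
  · exact absurd ((mem_oddPartners hb).2 e) hy'
  · exact e

omit [Finite G] in
theorem exists_adj_of_four (hD : Cfsg.IsRootInvolutionSet D)
    (hc : Cfsg.IsConnectedSet (Cfsg.OddAdj D) D) {e x : G} (he : e ∈ D) (hx : x ∈ D)
    (h : orderOf (e * x) = 4) : ∃ y, Cfsg.OddAdj D e y :=
  exists_adj_of_component ⟨x, ⟨hx, hc e he x hx⟩, fun h' =>
    not_commute_of_four hD he hx h (by rw [h'])⟩

/-- Members with one set of odd partners commute. -/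
theorem commute_of_oddPartners_eq (hD : Cfsg.IsRootInvolutionSet D)
    (hc : Cfsg.IsConnectedSet (Cfsg.OddAdj D) D) {e x : G} (he : e ∈ D) (hx : x ∈ D)
    (h : Cfsg.oddPartners D x = Cfsg.oddPartners D e) : x * e = e * x := by
  by_contra hne
  obtain ⟨R, hR⟩ : ∃ R : Set G, R = {r | r ∈ D ∧ Cfsg.oddPartners D r = Cfsg.oddPartners D e} :=
    ⟨_, rfl⟩
  have heR : e ∈ R := hR ▸ ⟨he, rfl⟩
  have hxR : x ∈ R := hR ▸ ⟨hx, h⟩
  have hRD : ∀ r ∈ R, r ∈ D := fun r hr => by rw [hR] at hr; exact hr.1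
  have hRA : ∀ r ∈ R, Cfsg.oddPartners D r = Cfsg.oddPartners D e :=
    fun r hr => by rw [hR] at hr; exact hr.2
  have hnadj : ∀ r ∈ R, ∀ s ∈ R, ¬ Cfsg.OddAdj D r s := fun r hr s hs hrs => by
    have := (mem_oddPartners (hRD r hr)).2 hrs
    rw [hRA r hr, ← hRA s hs] at this
    exact this.2.1 rfl
  have hfour : ∀ r ∈ R, ∀ s ∈ R, r * s ≠ s * r → orderOf (r * s) = 4 := fun r hr s hs hrs =>
    ((trichotomy hD (hRD r hr) (hRD s hs)).resolve_left hrs).resolve_left (hnadj r hr s hs)
  -- `R` is invariant under its members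
  have hconj : ∀ r ∈ R, ∀ s ∈ R, r * s * r⁻¹ ∈ R := fun r hr s hs => by
    rw [hR]
    refine ⟨hD.conj_mem s (hRD s hs) r, ?_⟩
    rw [oddPartners_conj hD r (hRD s hs), hRA s hs, ← hRA r hr,
      ← oddPartners_conj hD r (hRD r hr), mul_inv_cancel_right]
  have hsq : ∀ r ∈ R, ∀ s ∈ R, orderOf (r * s) = 4 → (r * s) ^ 2 ∈ R := fun r hr s hs h4 => by
    obtain ⟨hqD, -, -, hqr, -, -, e1, hmem⟩ := four_facts hD (hRD r hr) (hRD s hs) h4 rfl
    have h1 : Cfsg.oddPartners D ((r * s) ^ 2 * r) = Cfsg.oddPartners D r := by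
      rw [hqr, e1, hRA r hr]
      conv_lhs => arg 2; arg 2; rw [← inv_eq hD (hRD s hs)]
      exact hRA _ (hconj s hs r hr)
    rw [hR]
    exact ⟨hqD, (oddPartners_mul_eq hD hc (hRD r hr) hqD hqr (hqr ▸ hmem) h1).trans (hRA r hr)⟩
  -- some member of `R` centralizes `R`
  obtain ⟨r₀, hr₀, hr₀c⟩ : ∃ r₀ ∈ R, ∀ s ∈ R, r₀ * s = s * r₀ := by
    obtain ⟨K, hK⟩ : ∃ K : Subgroup G, K = Subgroup.closure R := ⟨_, rfl⟩
    have hRK : ∀ r ∈ R, r ∈ K := fun r hr => hK ▸ Subgroup.subset_closure hr
    have hKR : ∀ g ∈ K, ∀ r ∈ R, g * r * g⁻¹ ∈ R := by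
      intro g hg
      rw [hK] at hg
      suffices ∀ r ∈ R, g * r * g⁻¹ ∈ R ∧ g⁻¹ * r * g ∈ R from fun r hr => (this r hr).1
      induction hg using Subgroup.closure_induction with
      | mem k hk =>
        intro r hr
        refine ⟨hconj k hk r hr, ?_⟩
        have := hconj k hk r hr
        rw [inv_eq hD (hRD k hk)] at this ⊢
        exact this
      | one => intro r hr; simpa using hr
      | mul u v _ _ ihu ihv =>
        intro r hr
        refine ⟨?_, ?_⟩
        · have := (ihu _ (ihv r hr).1).1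
          simpa [mul_assoc] using this
        · have := (ihv _ (ihu r hr).2).2
          simpa [mul_assoc] using this
      | inv u _ ih => intro r hr; simpa using (ih r hr).symm
    obtain ⟨D', hD'⟩ : ∃ D' : Set ↥K, D' = {k : ↥K | (k : G) ∈ R} := ⟨_, rfl⟩
    have hord : ∀ k : ↥K, orderOf k = orderOf (k : G) := fun k => (Subgroup.orderOf_coe k).symm
    have hroot : Cfsg.IsRootInvolutionSet D' := by
      subst hD'
      refine ⟨fun k hk => (hord k).trans (hD.orderOf_eq _ (hRD _ hk)), ?_,
        fun k hk g => hKR g g.2 k hk, fun k hk l hl => ?_⟩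
      · subst hK
        exact Subgroup.closure_closure_coe_preimage
      · by_cases hkl : (k : G) * l = l * k
        · exact Or.inl (Subtype.ext hkl)
        · exact Or.inr (Or.inr ⟨(hord _).trans (hfour k hk l hl hkl),
            hsq k hk l hl (hfour k hk l hl hkl)⟩)
    have hiso : {w | Cfsg.IsIsolatedElem (Cfsg.OddAdj D') D' w} = D' := by
      have key : ∀ k l, ¬ Cfsg.OddAdj D' k l := fun k l hkl => by
        subst hD'
        exact hnadj _ hkl.1 _ hkl.2.1 ⟨hRD _ hkl.1, hRD _ hkl.2.1,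
          fun e' => hkl.2.2.1 (Subtype.ext e'), by have := hkl.2.2.2; rwa [hord, Subgroup.coe_mul] at this⟩
      exact Set.ext fun k => ⟨fun hk => hk.1, fun hk => ⟨hk, fun l => ⟨key k l, key l k⟩⟩⟩
    have hp : IsPGroup 2 ↥K := by
      have := isPGroup_closure_isolated hroot
      rw [hiso, hroot.generates] at this
      exact this.of_equiv Subgroup.topEquiv
    have : Fact (Nat.Prime 2) := ⟨Nat.prime_two⟩
    have hnil : Group.IsNilpotent ↥K := hp.isNilpotent
    obtain ⟨n, hn⟩ := hnil.nilpotent'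
    have key : ∀ i, ∀ k : ↥K, (k : G) ∈ R → k ∈ Subgroup.upperCentralSeries ↥K i →
        ∃ r₀ ∈ R, ∀ s ∈ R, r₀ * s = s * r₀ := by
      intro i
      induction i with
      | zero =>
        intro k hk hk1
        rw [Subgroup.upperCentralSeries_zero, Subgroup.mem_bot] at hk1
        exact absurd (by rw [hk1]; rfl) (ne_one hD (hRD _ hk))
      | succ i ih =>
        intro k hk hki
        by_contra! hcon
        obtain ⟨s, hs, hks⟩ := hcon k hk
        have h4 := hfour k hk s hs hks
        refine (ih ⟨((k : G) * s) ^ 2, pow_mem (mul_mem k.2 (hRK s hs)) 2⟩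
          (hsq k hk s hs h4) ?_).elim fun r ⟨hr, hrc⟩ => (hcon r hr).elim
            fun s' ⟨hs', hne'⟩ => hne' (hrc s' hs')
        have := Subgroup.mem_upperCentralSeries_succ_iff.1 hki ⟨s, hRK s hs⟩
        convert this using 1
        refine Subtype.ext ?_
        show ((k : G) * s) ^ 2 = (k : G) * s * (k : G)⁻¹ * s⁻¹
        rw [inv_eq hD (hRD _ hk), inv_eq hD (hRD _ hs), pow_two]
        group
    exact key n ⟨e, hRK e heR⟩ heR (hn ▸ Subgroup.mem_top _)
  obtain ⟨y, hy⟩ := exists_adj_of_four hD hc hx he (hfour x hxR e heR hne)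
  have hRy : ∀ r ∈ R, Cfsg.OddAdj D r y := fun r hr => (mem_oddPartners (hRD r hr)).1 (by
    rw [hRA r hr, ← h]; exact (mem_oddPartners hx).2 hy)
  -- the stabilizer of `R` is transitive on `R`
  obtain ⟨k₀, hk₀⟩ := exists_conj_of_oddAdj hD (hRy r₀ hr₀)
  obtain ⟨k₁, hk₁⟩ := exists_conj_of_oddAdj hD (hRy x hxR)
  obtain ⟨g, hg⟩ : ∃ g, g = k₁⁻¹ * k₀ := ⟨_, rfl⟩
  have hgr : g * r₀ * g⁻¹ = x := by
    rw [hg, show k₁⁻¹ * k₀ * r₀ * (k₁⁻¹ * k₀)⁻¹ = k₁⁻¹ * (k₀ * r₀ * k₀⁻¹) * k₁ by group, hk₀,
      ← hk₁]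
    group
  have hgR : ∀ r ∈ R, g * r * g⁻¹ ∈ R := fun r hr => by
    rw [hR]
    refine ⟨hD.conj_mem r (hRD r hr) g, ?_⟩
    rw [oddPartners_conj hD g (hRD r hr), hRA r hr, ← hRA r₀ hr₀,
      ← oddPartners_conj hD g (hRD r₀ hr₀), hgr, hRA x hxR, hRA r₀ hr₀]
  have himg : (fun r => g * r * g⁻¹) '' R = R :=
    Set.eq_of_subset_of_ncard_le (by rintro _ ⟨r, hr, rfl⟩; exact hgR r hr)
      (by rw [Set.ncard_image_of_injective _ (f := fun r => g * r * g⁻¹) (MulAut.conj g).injective])
      (Set.toFinite _)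
  obtain ⟨s, hs, hse⟩ := himg.ge heR
  apply hne
  rw [← hgr, ← hse]
  calc g * r₀ * g⁻¹ * (g * s * g⁻¹) = g * (r₀ * s) * g⁻¹ := by group
    _ = g * (s * r₀) * g⁻¹ := by rw [hr₀c s hs]
    _ = _ := by group

/-- A mover changes the set of odd partners. -/
theorem oddPartners_ne_conj (hD : Cfsg.IsRootInvolutionSet D)
    (hc : Cfsg.IsConnectedSet (Cfsg.OddAdj D) D) {e x : G} (he : e ∈ D) (hx : x ∈ D)
    (h : orderOf (e * x) = 4) :
    Cfsg.oddPartners D (x * e * x) ≠ Cfsg.oddPartners D e := fun hA => by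
  obtain ⟨c, hcdef⟩ : ∃ c, (e * x) ^ 2 = c := ⟨_, rfl⟩
  obtain ⟨hcD, hxe, -, hce, hcx, hcxD, e1, hecD⟩ := four_facts hD he hx h hcdef
  have hAc : Cfsg.oddPartners D c = Cfsg.oddPartners D e :=
    oddPartners_mul_eq hD hc he hcD hce (hce ▸ hecD) (by rw [hce, e1]; exact hA)
  by_cases hAx : Cfsg.oddPartners D x = Cfsg.oddPartners D c
  · exact not_commute_of_four hD he hx h
      (commute_of_oddPartners_eq hD hc he hx (hAx.trans hAc)).symm
  obtain ⟨y, hcy, hxy⟩ := exists_four_of_ne hD hc hcD hx hcx.symm (hcx ▸ hcxD) fun e' => hAx e'.symm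
  obtain ⟨z, hz, hcz, hcz2⟩ := exists_mover hD hx hcx.symm (hcx ▸ hcxD) hcy hxy
  have h3 := orderOf_movers hD hx hcD hcx.symm (orderOf_mul_swap e x ▸ h) hxe he hcz hcz2 hz
  have hadj : Cfsg.OddAdj D e z := by
    refine ⟨he, hz, fun e' => ?_, by rw [h3]; decide⟩
    rw [← e', mul_self hD he] at h3
    simp at h3
  have hmem := (mem_oddPartners he).2 hadj
  rw [← hAc] at hmem
  exact not_odd_of_four hcz ((mem_oddPartners hcD).1 hmem)

/-- Equal odd partners give equal commuting members. -/
theorem commutingMembers_eq (hD : Cfsg.IsRootInvolutionSet D)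
    (hc : Cfsg.IsConnectedSet (Cfsg.OddAdj D) D) {d e : G} (hd : d ∈ D) (he : e ∈ D)
    (h : Cfsg.oddPartners D d = Cfsg.oddPartners D e) :
    Cfsg.commutingMembers D d = Cfsg.commutingMembers D e := by
  have key : ∀ {d e : G}, d ∈ D → e ∈ D → Cfsg.oddPartners D d = Cfsg.oddPartners D e →
      Cfsg.commutingMembers D d ⊆ Cfsg.commutingMembers D e := by
    intro d e hd he h x hx
    obtain ⟨hxD, hxd⟩ := hx
    refine ⟨hxD, ?_⟩
    rcases trichotomy hD hxD he with e' | e' | e'
    · exact e'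
    · exfalso
      have := (mem_oddPartners he).2 (oddAdj_symm e')
      rw [← h] at this
      exact not_commute_of_oddAdj hD ((mem_oddPartners hd).1 this) hxd.symm
    · exfalso
      refine oddPartners_ne_conj hD hc he hxD (orderOf_mul_swap x e ▸ e') ?_
      conv_lhs => arg 2; arg 2; rw [← inv_eq hD hxD]
      rw [oddPartners_conj hD x he, ← h, ← oddPartners_conj hD x hd, hxd, mul_inv_cancel_right]
  exact (key hd he h).antisymm (key he hd h.symm)

omit [Finite G] in
/-- Equal commuting members give equal odd partners. -/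
theorem oddPartners_eq (hD : Cfsg.IsRootInvolutionSet D) {d e : G} (hd : d ∈ D) (he : e ∈ D)
    (h : Cfsg.commutingMembers D d = Cfsg.commutingMembers D e) :
    Cfsg.oddPartners D d = Cfsg.oddPartners D e := by
  have key : ∀ {d e : G}, d ∈ D → e ∈ D →
      Cfsg.commutingMembers D d = Cfsg.commutingMembers D e →
      Cfsg.oddPartners D e ⊆ Cfsg.oddPartners D d := by
    intro d e hd he h x hx
    have hex := (mem_oddPartners he).1 hx
    have hde : e * d = d * e := by
      have : e ∈ Cfsg.commutingMembers D e := ⟨he, rfl⟩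
      rw [← h] at this
      exact this.2
    refine (mem_oddPartners hd).2 ?_
    rcases trichotomy hD hd hex.2.1 with e' | e' | e'
    · exfalso
      have : x ∈ Cfsg.commutingMembers D d := ⟨hex.2.1, e'.symm⟩
      rw [h] at this
      exact not_commute_of_oddAdj hD hex this.2.symm
    · exact e'
    · exfalso
      obtain ⟨-, -, -, hqd, -, -, e1, hmem⟩ := four_facts hD hd hex.2.1 e' rfl
      have hx1 : x * d * x ∈ Cfsg.commutingMembers D e := by
        rw [← h, ← e1]
        exact ⟨hmem, by rw [mul_assoc, hqd]⟩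
      have hxx := mul_self hD hex.2.1
      have c1 : Commute d (x * e * x) := by
        show d * (x * e * x) = x * e * x * d
        calc d * (x * e * x) = x * x * d * (x * e * x) := by rw [hxx, one_mul]
          _ = x * ((x * d * x) * e) * x := by group
          _ = x * (e * (x * d * x)) * x := by rw [hx1.2]
          _ = x * e * x * d * (x * x) := by group
          _ = _ := by rw [hxx, mul_one]
      have c2 : Commute d ((e * x) ^ 2) := by
        rw [pow_two, show e * x * (e * x) = e * (x * e * x) by group]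
        exact (show Commute d e from hde.symm).mul_right c1
      obtain ⟨m, hm⟩ := hex.2.2.2
      have c3 : Commute d (e * x) := by
        have : ((e * x) ^ 2) ^ (m + 1) = e * x := by
          rw [← pow_mul, show 2 * (m + 1) = orderOf (e * x) + 1 by omega, pow_succ,
            pow_orderOf_eq_one, one_mul]
        rw [← this]; exact c2.pow_right _
      have c4 : Commute d x := by
        have := (show Commute d e from hde.symm).mul_right c3
        rwa [← mul_assoc, mul_self hD he, one_mul] at this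
      exact not_commute_of_four hD hd hex.2.1 e' c4.eq
  exact (key he hd h.symm).antisymm (key hd he h)

omit [Finite G] in
theorem notMem_oddPartners_iff (hD : Cfsg.IsRootInvolutionSet D) {d x : G} (hd : d ∈ D) (hx : x ∈ D) :
    x ∈ Cfsg.commutingMembers D d ∪ Cfsg.fourPartners D d ↔ x ∉ Cfsg.oddPartners D d := by
  rw [mem_oddPartners hd]
  constructor
  · rintro (h | h) h'
    · exact not_commute_of_oddAdj hD h' h.2.symm
    · exact not_odd_of_four h.2 h'
  · intro h
    rcases trichotomy hD hd hx with e | e | e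
    · exact Or.inl ⟨hx, e.symm⟩
    · exact absurd e h
    · exact Or.inr ⟨hx, e⟩

/-- The class of equal centralizers by commuting and order four partners. -/
theorem sameCommutingClass_eq (hD : Cfsg.IsRootInvolutionSet D)
    (hc : Cfsg.IsConnectedSet (Cfsg.OddAdj D) D) {d : G} (hd : d ∈ D) :
    Cfsg.sameCommutingClass D d = {e | e ∈ D ∧ Cfsg.commutingMembers D d ∪ Cfsg.fourPartners D d =
      Cfsg.commutingMembers D e ∪ Cfsg.fourPartners D e} := by
  refine Set.ext fun e => and_congr_right fun he => ⟨fun h => ?_, fun h => ?_⟩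
  · have h' := oddPartners_eq hD hd he h
    refine Set.ext fun x => ?_
    by_cases hx : x ∈ D
    · rw [notMem_oddPartners_iff hD hd hx, notMem_oddPartners_iff hD he hx, h']
    · exact ⟨fun h => absurd (h.elim And.left And.left) hx,
        fun h => absurd (h.elim And.left And.left) hx⟩
  · refine commutingMembers_eq hD hc hd he (Set.ext fun x => ?_)
    by_cases hx : x ∈ D
    · rw [← not_iff_not, ← notMem_oddPartners_iff hD hd hx, ← notMem_oddPartners_iff hD he hx, h]
    · exact ⟨fun h => absurd h.1 hx, fun h => absurd h.1 hx⟩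

/-- A product partner with another centralizer has a four partner with product of order three. -/
theorem exists_order_three (hD : Cfsg.IsRootInvolutionSet D)
    (hc : Cfsg.IsConnectedSet (Cfsg.OddAdj D) D) {a b : G} (ha : a ∈ D)
    (hb : b ∈ Cfsg.productPartners D a) (hbE : b ∉ Cfsg.sameCommutingClass D a) :
    ∃ x ∈ Cfsg.fourPartners D b, orderOf (a * x) = 3 := by
  obtain ⟨⟨hbD, hba, -⟩, hmem⟩ := hb
  have hne : Cfsg.oddPartners D a ≠ Cfsg.oddPartners D b := fun e =>
    hbE ⟨hbD, commutingMembers_eq hD hc ha hbD e⟩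
  obtain ⟨y, hay, hby⟩ := exists_four_of_ne hD hc ha hbD hba hmem hne
  obtain ⟨v, hv, hav, hav2⟩ := exists_mover hD hbD hba hmem hay hby
  obtain ⟨-, hva2, -, -, hbv, hbvD, -, -⟩ := four_facts hD ha hv hav hav2
  have hne' : Cfsg.oddPartners D b ≠ Cfsg.oddPartners D v := fun e => by
    have h' : a ∈ Cfsg.commutingMembers D b := ⟨ha, hba.symm⟩
    rw [commutingMembers_eq hD hc hbD hv e] at h'
    exact not_commute_of_four hD ha hv hav h'.2
  obtain ⟨y', hby', hvy'⟩ := exists_four_of_ne hD hc hbD hv hbv.symm (hbv ▸ hbvD) hne'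
  obtain ⟨x, hx, hbx, hbx2⟩ := exists_mover hD hv hbv.symm (hbv ▸ hbvD) hby' hvy'
  exact ⟨x, ⟨hx, hbx⟩,
    orderOf_movers hD hv hbD hbv.symm (orderOf_mul_swap a v ▸ hav) hva2 ha hbx hbx2 hx⟩

end Cfsg.Agent.Fus.RootInv
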