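import Mathlib
import Cfsg.Prelude.Def_QuasithinSetup
import Cfsg.Agent.Lib.Fus.RootInvPartners
import Cfsg.Agent.Lib.Grp.Cores

/-!
A group generated by root involutions with a connected graph of odd products and some product in
the set is simple modulo the centre over the 2-core.
-/

set_option autoImplicit false
set_option linter.style.haveILetI false

open scoped commutatorElement

namespace Cfsg.Agent.Fus.RootInvSimple

open RootInv

variable {G : Type*} [Group G] [Finite G] {D : Set G}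

omit [Finite G] in
/-- Every member has a product partner. -/
theorem exists_partner (hD : Cfsg.IsRootInvolutionSet D)
    (hc : Cfsg.IsConnectedSet (Cfsg.OddAdj D) D)
    (hDD : (D ∩ Cfsg.commutingProducts D).Nonempty) {a : G} (ha : a ∈ D) :
    ∃ b ∈ D, b * a = a * b ∧ b * a ∈ D := by
  obtain ⟨x, hx, p, hp, q, hq, hpq, -, rfl⟩ := hDD
  obtain ⟨g, rfl⟩ := exists_conj_of_connected hD hc hp ha
  refine ⟨g * q * g⁻¹, hD.conj_mem q hq g, ?_, ?_⟩
  · rw [show g * q * g⁻¹ * (g * p * g⁻¹) = g * (q * p) * g⁻¹ by group, ← hpq]; group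
  · rw [show g * q * g⁻¹ * (g * p * g⁻¹) = g * (q * p) * g⁻¹ by group, ← hpq]
    exact hD.conj_mem _ hx g

omit [Finite G] in
theorem eq_top_of_mem (hD : Cfsg.IsRootInvolutionSet D)
    (hc : Cfsg.IsConnectedSet (Cfsg.OddAdj D) D) {N : Subgroup G} [hN : N.Normal] {d : G}
    (hd : d ∈ D) (hdN : d ∈ N) : N = ⊤ := by
  rw [eq_top_iff, ← hD.generates, Subgroup.closure_le]
  intro y hy
  obtain ⟨g, rfl⟩ := exists_conj_of_connected hD hc hd hy
  exact hN.conj_mem d hdN g

omit [Finite G] in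
theorem commutator_eq_top (hD : Cfsg.IsRootInvolutionSet D)
    (hc : Cfsg.IsConnectedSet (Cfsg.OddAdj D) D)
    (hDD : (D ∩ Cfsg.commutingProducts D).Nonempty) : commutator G = ⊤ := by
  obtain ⟨d, hd, -⟩ := id hDD
  obtain ⟨b, hb, -, hmem⟩ := exists_partner hD hc hDD hd
  obtain ⟨g, hg⟩ := exists_conj_of_connected hD hc hd hb
  obtain ⟨h, hh⟩ := exists_conj_of_connected hD hc hd hmem
  have hconj : ∀ g x : G, Abelianization.of (g * x * g⁻¹) = Abelianization.of x := fun g x => by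
    rw [map_mul, map_mul, mul_right_comm, ← map_mul, mul_inv_cancel, map_one, one_mul]
  have h1 := congrArg Abelianization.of hh
  have h2 := congrArg Abelianization.of hg
  rw [hconj] at h1 h2
  rw [map_mul, ← h2, right_eq_mul] at h1
  refine eq_top_of_mem hD hc hd (?_ : d ∈ commutator G)
  rw [← Abelianization.ker_of]
  exact h1

omit [Finite G] in
/-- Members congruent modulo a proper normal subgroup commute. -/
theorem commute_of_congr (hD : Cfsg.IsRootInvolutionSet D)
    (hc : Cfsg.IsConnectedSet (Cfsg.OddAdj D) D)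
    (hDD : (D ∩ Cfsg.commutingProducts D).Nonempty) {N : Subgroup G} [N.Normal] (hN : N ≠ ⊤)
    {a a' : G} (ha : a ∈ D) (ha' : a' ∈ D) (h : a * a' ∈ N) : a * a' = a' * a := by
  have hnot : ∀ d ∈ D, d ∉ N := fun d hd hdN => hN (eq_top_of_mem hD hc hd hdN)
  rcases trichotomy hD ha ha' with e | e | e
  · exact e
  · exfalso
    obtain ⟨b, hb, hba, hmem⟩ := exists_partner hD hc hDD ha
    have hq : (QuotientGroup.mk a' : G ⧸ N) = QuotientGroup.mk a := by
      rw [QuotientGroup.eq_iff_div_mem, div_eq_mul_inv, inv_eq hD ha,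
        show a' * a = a'⁻¹ * a⁻¹ by rw [inv_eq hD ha', inv_eq hD ha], ← mul_inv_rev]
      exact N.inv_mem h
    have key : ∀ {u w : G}, u ∈ D → Cfsg.OddAdj D a' u → (u * a) * (u * a) = 1 → u * a = w →
        w ∈ D → False := by
      intro u w hu hadj h2 hw hwD
      refine hnot w hwD ((QuotientGroup.eq_one_iff w).1 ?_)
      rw [← hw]
      have hq2 : ((QuotientGroup.mk (u * a) : G ⧸ N)) ^ 2 = 1 := by
        rw [← QuotientGroup.mk_pow, pow_two, h2, QuotientGroup.mk_one]
      have hqn : ((QuotientGroup.mk (u * a) : G ⧸ N)) ^ orderOf (u * a') = 1 := by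
        rw [QuotientGroup.mk_mul, ← hq, ← QuotientGroup.mk_mul, ← QuotientGroup.mk_pow,
          pow_orderOf_eq_one, QuotientGroup.mk_one]
      obtain ⟨m, hm⟩ := (oddAdj_symm hadj).2.2.2
      rwa [hm, pow_succ, pow_mul, hq2, one_pow, one_mul] at hqn
    rcases oddAdj_partner_or_mul hD hb hba.symm (hba ▸ hmem) e with e' | e'
    · refine key hb e' ?_ rfl hmem
      rw [← pow_two, sq_of_commute hD hb ha hba]
    · refine key (hba ▸ hmem) e' ?_ ?_ hb
      · rw [← hba, mul_assoc b a a, mul_self hD ha, mul_one, mul_self hD hb]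
      · rw [← hba, mul_assoc b a a, mul_self hD ha, mul_one]
  · exact absurd (pow_mem h 2) (hnot _ (four_facts hD ha ha' e rfl).1)

/-- Proper normal subgroups are central over the 2-core. -/
theorem normal_le_twoZCore (hD : Cfsg.IsRootInvolutionSet D)
    (hc : Cfsg.IsConnectedSet (Cfsg.OddAdj D) D)
    (hDD : (D ∩ Cfsg.commutingProducts D).Nonempty) {N : Subgroup G} [hNn : N.Normal]
    (hN : N ≠ ⊤) : N ≤ Cfsg.twoZCore G := by
  intro n hn
  haveI := Grp.pCore_isNormal (p := 2) (G := G)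
  suffices h : ∀ d ∈ D, d * n * d⁻¹ * n⁻¹ ∈ Cfsg.pCore 2 G by
    show QuotientGroup.mk' (Cfsg.pCore 2 G) n ∈ Subgroup.center _
    refine Subgroup.mem_center_iff.2 fun x => ?_
    have htop : (Subgroup.centralizer {QuotientGroup.mk' (Cfsg.pCore 2 G) n}).comap
        (QuotientGroup.mk' (Cfsg.pCore 2 G)) = ⊤ := by
      rw [eq_top_iff, ← hD.generates, Subgroup.closure_le]
      intro d hd
      refine Subgroup.mem_centralizer_singleton_iff.2 ?_
      rw [← mul_inv_eq_one, ← map_mul, ← map_mul, ← map_inv, ← map_mul, QuotientGroup.mk'_apply,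
        QuotientGroup.eq_one_iff, mul_inv_rev, ← mul_assoc]
      exact h d hd
    obtain ⟨y, rfl⟩ := QuotientGroup.mk'_surjective (Cfsg.pCore 2 G) x
    exact Subgroup.mem_centralizer_singleton_iff.1 (htop.ge (Subgroup.mem_top y) :
      QuotientGroup.mk' (Cfsg.pCore 2 G) y ∈ Subgroup.centralizer _)
  intro d hd
  obtain ⟨T, hT⟩ : ∃ T : Set G, T = {x | ∃ m ∈ N, x = m * d * m⁻¹} := ⟨_, rfl⟩
  have hTD : ∀ x ∈ T, x ∈ D := fun x hx => by
    rw [hT] at hx; obtain ⟨m, -, rfl⟩ := hx; exact hD.conj_mem d hd m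
  have hTc : ∀ x ∈ T, ∀ y ∈ T, x * y = y * x := by
    intro x hx y hy
    refine commute_of_congr hD hc hDD hN (hTD x hx) (hTD y hy) ?_
    rw [hT] at hx hy
    obtain ⟨m, hm, rfl⟩ := hx
    obtain ⟨k, hk, rfl⟩ := hy
    rw [show m * d * m⁻¹ * (k * d * k⁻¹) = m * (d * (m⁻¹ * k) * d⁻¹) * (d * d) * k⁻¹ by group,
      mul_self hD hd, mul_one]
    exact N.mul_mem (N.mul_mem hm (hNn.conj_mem _ (N.mul_mem (N.inv_mem hm) hk) d)) (N.inv_mem hk)
  obtain ⟨B, hB⟩ : ∃ B : Subgroup G, B = Subgroup.closure T := ⟨_, rfl⟩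
  have hBc : IsMulCommutative ↥B := by subst hB; exact Subgroup.isMulCommutative_closure hTc
  have hB2 : IsPGroup 2 ↥B := by
    have key : ∀ x ∈ B, x ^ 2 = 1 := by
      intro x hx
      rw [hB] at hx
      induction hx using Subgroup.closure_induction with
      | mem y hy => rw [pow_two, mul_self hD (hTD y hy)]
      | one => simp
      | mul u v hu hv ihu ihv =>
        have : Commute u v := congrArg Subtype.val
          (hBc.is_comm.comm ⟨u, hB ▸ hu⟩ ⟨v, hB ▸ hv⟩)
        rw [this.mul_pow, ihu, ihv, one_mul]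
      | inv u _ ih => rw [inv_pow, ih, inv_one]
    exact fun x => ⟨1, Subtype.ext (by simpa using key x x.2)⟩
  have hnorm : (B.subgroupOf N).Normal := by
    refine ⟨fun x hx g => ?_⟩
    have hle : B.map (MulAut.conj (g : G)).toMonoidHom ≤ B := by
      rw [hB, MonoidHom.map_closure]
      refine Subgroup.closure_mono ?_
      rintro _ ⟨y, hy, rfl⟩
      rw [hT] at hy ⊢
      obtain ⟨m, hm, rfl⟩ := hy
      exact ⟨(g : G) * m, N.mul_mem g.2 hm, by
        show (g : G) * (m * d * m⁻¹) * (g : G)⁻¹ = _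
        group⟩
    exact hle ⟨(x : G), hx, rfl⟩
  have hle : B.subgroupOf N ≤ Cfsg.pCore 2 ↥N :=
    Grp.le_pCore hnorm (hB2.comap_of_injective N.subtype N.subtype_injective)
  have hwN : d * n * d⁻¹ * n⁻¹ ∈ N := N.mul_mem (hNn.conj_mem n hn d) (N.inv_mem hn)
  have hwB : d * n * d⁻¹ * n⁻¹ ∈ B := by
    rw [show d * n * d⁻¹ * n⁻¹ = (1 * d * 1⁻¹) * (n * d * n⁻¹)⁻¹ by group, hB, hT]
    exact mul_mem (Subgroup.subset_closure ⟨1, N.one_mem, rfl⟩)
      (inv_mem (Subgroup.subset_closure ⟨n, hn, rfl⟩))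
  exact Grp.pCore_map_le N ⟨⟨_, hwN⟩, hle hwB, rfl⟩

/-- The solvable radical is the centre over the 2-core, with simple quotient. -/
theorem radical_and_simple (hD : Cfsg.IsRootInvolutionSet D)
    (hc : Cfsg.IsConnectedSet (Cfsg.OddAdj D) D)
    (hDD : (D ∩ Cfsg.commutingProducts D).Nonempty) :
    Cfsg.solvableRadical G = Cfsg.twoZCore G ∧ IsSimpleGroup (G ⧸ Cfsg.twoZCore G) := by
  have hperf := commutator_eq_top hD hc hDD
  obtain ⟨d, hd, -⟩ := id hDD
  have hntG : Nontrivial G := ⟨⟨d, 1, ne_one hD hd⟩⟩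
  have hns : ¬ Group.IsSolvable G := fun h =>
    absurd hperf (Group.IsSolvable.commutator_lt_top_of_nontrivial G).ne
  have hsolv : Group.IsSolvable ↥(Cfsg.twoZCore G) := by
    haveI := Grp.pCore_isNormal (p := 2) (G := G)
    have : Fact (Nat.Prime 2) := ⟨Nat.prime_two⟩
    haveI : Group.IsNilpotent ↥(Cfsg.pCore 2 G) := (Grp.pCore_isPGroup (p := 2)).isNilpotent
    haveI : Group.IsSolvable ↥(Cfsg.pCore 2 G) := inferInstance
    let g : ↥(Cfsg.twoZCore G) →* ↥(Subgroup.center (G ⧸ Cfsg.pCore 2 G)) :=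
      ((QuotientGroup.mk' (Cfsg.pCore 2 G)).comp (Cfsg.twoZCore G).subtype).codRestrict _
        fun x => x.2
    have hle : Cfsg.pCore 2 G ≤ Cfsg.twoZCore G := fun x hx => by
      show QuotientGroup.mk' (Cfsg.pCore 2 G) x ∈ Subgroup.center _
      rw [QuotientGroup.mk'_apply, (QuotientGroup.eq_one_iff x).2 hx]
      exact one_mem _
    haveI : Group.IsSolvable ↥(Subgroup.center (G ⧸ Cfsg.pCore 2 G)) :=
      Group.isSolvable_of_comm fun a b =>
        Subtype.ext (Subgroup.mem_center_iff.1 b.2 (a : G ⧸ Cfsg.pCore 2 G))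
    refine Group.isSolvable_of_ker_le_range (Subgroup.inclusion hle) g fun x hx => ?_
    have h1 := congrArg Subtype.val (MonoidHom.mem_ker.1 hx)
    exact ⟨⟨x, (QuotientGroup.eq_one_iff (x : G)).1 h1⟩, rfl⟩
  have hle : ∀ N : Subgroup G, N.Normal → N ≠ ⊤ → N ≤ Cfsg.twoZCore G := fun N _ hN =>
    normal_le_twoZCore hD hc hDD hN
  have hne : Cfsg.twoZCore G ≠ ⊤ := fun e => hns (by
    have h : Group.IsSolvable ↥(⊤ : Subgroup G) := e ▸ hsolv
    exact Group.isSolvable_of_surjective (f := (Subgroup.topEquiv (G := G)).toMonoidHom)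
      Subgroup.topEquiv.surjective)
  refine ⟨le_antisymm (sSup_le fun N hN => ?_) (le_sSup ⟨inferInstance, hsolv⟩), ?_⟩
  · refine hle N hN.1 fun e => hns ?_
    have h : Group.IsSolvable ↥(⊤ : Subgroup G) := e ▸ hN.2
    exact Group.isSolvable_of_surjective (f := (Subgroup.topEquiv (G := G)).toMonoidHom)
      Subgroup.topEquiv.surjective
  · haveI : Nontrivial (G ⧸ Cfsg.twoZCore G) := QuotientGroup.nontrivial_iff.2 hne
    refine ⟨fun K hK => ?_⟩
    by_cases hKt : K.comap (QuotientGroup.mk' (Cfsg.twoZCore G)) = ⊤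
    · exact Or.inr (Subgroup.comap_injective (QuotientGroup.mk'_surjective _)
        (hKt.trans (Subgroup.comap_top _).symm))
    · refine Or.inl ((Subgroup.eq_bot_iff_forall _).2 fun x hx => ?_)
      obtain ⟨y, rfl⟩ := QuotientGroup.mk'_surjective _ x
      exact (QuotientGroup.eq_one_iff y).2 (hle _ (hK.comap _) hKt hx)

end Cfsg.Agent.Fus.RootInvSimple
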