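import Cfsg.Agent.Lib.Fus.CommFix
import Cfsg.Agent.Lib.Fus.CoreCentralizes

/-!
Central subgroups recognised by fixed points; maps of a normal subsystem fix a commuting strongly
closed subgroup meeting its support in its centre.
-/

set_option autoImplicit false
set_option linter.style.haveILetI false
set_option linter.unusedSectionVars false

open scoped Classical

universe u

namespace Cfsg.Agent.Fus.Comm

open Subgroup FusionSystem FocalCent

variable {Ω : Type u} [Group Ω] {S U T : Subgroup Ω} {F : FusionSystem S} {E : FusionSystem U}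
  {p : ℕ}

/-- The maps fix the centre. -/
theorem fix_center [Finite S] {P : Subgroup Ω} {f : Ω → Ω} (hf : IsMap F P f) {z : Ω} (hzP : z ∈ P)
    (hz : z ∈ F.center) : f z = z := by
  obtain ⟨g, -, hg1, hg2⟩ := (isCentral_iff.1 (isCentral_center F)).2 P f hf
  rw [← hg1 z hzP]
  exact hg2 z hz

variable [Fact p.Prime]

/-- A subgroup of `Z(S)` fixed by all maps is central. -/
theorem le_center_of_fixed [Finite S] (hS : IsPGroup p S) (hF : F.IsSaturated p) {Z : Subgroup Ω}
    (hZS : Z ≤ S) (hc : ∀ z ∈ Z, ∀ s ∈ S, z * s = s * z)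
    (hfix : ∀ (P : Subgroup Ω) (f : Ω → Ω), IsMap F P f → ∀ z ∈ Z, z ∈ P → f z = z) :
    Z ≤ F.center := by
  refine le_center (isCentral_iff.2 ⟨hZS, fun P f hf => ?_⟩)
  obtain ⟨Q, hQ, hn⟩ := exists_fullyNormalized F hf.fimg_le_S
  obtain ⟨ψ, hψ, hψQ⟩ := isConj_iff.1 hQ
  have ext : ∀ {X : Subgroup Ω} {g : Ω → Ω}, IsMap F X g → fimg g X = Q →
      ∃ g', IsMap F (X ⊔ Z) g' ∧ (∀ x ∈ X, g' x = g x) ∧ ∀ z ∈ Z, g' z = z := by
    intro X g hg hgQ
    have hXS := hg.source_le
    have hZn : Z ≤ Subgroup.normalizer (X : Set Ω) := fun z hz => mem_normalizer_of_forall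
      (fun x hx => by rw [hc z hz x (hXS hx), mul_inv_cancel_right]; exact hx)
      fun x hx => by
        rw [mul_assoc, ← hc z hz x (hXS hx), inv_mul_cancel_left]; exact hx
    obtain ⟨g', hg', hge⟩ := receptive_extend (receptive_of_fullyNormalized hS hF hn) hg hgQ
      (N := X ⊔ Z) (fun w hw => by
        obtain ⟨x, hx, z, hz, rfl⟩ := (InvMap.mem_sup_normalized hZn).1 hw
        refine ⟨⟨S.mul_mem (hXS hx) (hZS hz),
          Subgroup.mul_mem _ (Subgroup.le_normalizer hx) (hZn hz)⟩, g x * z,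
          S.mul_mem (hg.apply_mem hx) (hZS hz), fun y hy => ?_⟩
        rw [show x * z * y * (x * z)⁻¹ = x * (z * y * z⁻¹) * x⁻¹ by group,
          hc z hz y (hXS hy), mul_inv_cancel_right, hg.map_conj hx hy,
          show g x * z * g y * (g x * z)⁻¹ = g x * (z * g y * z⁻¹) * (g x)⁻¹ by group,
          hc z hz _ (hg.apply_mem hy), mul_inv_cancel_right]) le_sup_left
    exact ⟨g', hg', hge, fun z hz => hfix _ _ hg' z hz (Subgroup.mem_sup_right hz)⟩
  obtain ⟨χ, hχ, hχe, hχZ⟩ := ext (hf.comp hψ fun x hx => apply_mem_fimg f hx)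
    (by rw [hf.fimg_comp, hψQ])
  obtain ⟨ω, hω, hωe, hωZ⟩ := ext hψ hψQ
  obtain ⟨w, hw, hw1, hw2, -⟩ := hω.exists_inv
  have him : ∀ x ∈ P ⊔ Z, χ x ∈ fimg ω (fimg f P ⊔ Z) := by
    intro x hx
    have h := apply_mem_fimg χ hx
    rw [hχ.fimg_sup, fimg_congr hχe, hf.fimg_comp, fimg_eq_self_of_forall hχZ] at h
    rwa [hω.fimg_sup, fimg_congr hωe, fimg_eq_self_of_forall hωZ]
  refine ⟨_, hχ.comp hw him, fun x hx => ?_, fun z hz => ?_⟩
  · show w (χ x) = f x
    rw [hχe x hx, ← hωe _ (apply_mem_fimg f hx), hw1 _ (Subgroup.mem_sup_left (apply_mem_fimg f hx))]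
  · show w (χ z) = z
    rw [hχZ z hz]
    conv_lhs => rw [← hωZ z hz]
    exact hw1 z (Subgroup.mem_sup_right hz)

variable [Finite S] (d : Act F p E T) (hTU : ∀ a ∈ T, ∀ b ∈ U, a * b = b * a)
  (hZ : T ⊓ U ≤ E.center)
include d hTU hZ

/-- The maps of the normal subsystem fix the commuting strongly closed subgroup. -/
theorem Act.maps_fix {P : Subgroup Ω} {f : Ω → Ω} (hf : IsMap E P f) : Fixes F T P f := by
  have hUS := d.scU.1
  haveI : Finite U := finite_of_le hUS
  have hUp := d.pG.to_le hUS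
  have haut : ∀ R, E.IsFullyNormalized R → E.IsCentric R → ∀ α ∈ E.autGroup R,
      Fixes F T R (autFun α) := by
    intro R hR hc α hα
    have hRS : R ⊔ T ≤ S := sup_le (hc.1.trans hUS) d.scT.1
    have hW : T ⊓ U ≤ R := fun z hz => centralizerIn_le_of_centric hc
      ⟨hz.2, fun r hr => (hTU z hz.1 r (hc.1 hr)).symm⟩
    have hTR : T ≤ centralizerIn S R := fun t ht =>
      ⟨d.scT.1 ht, fun r hr => (hTU t ht r (hc.1 hr)).symm⟩
    obtain ⟨u, hu, ρ, hρ, e⟩ :=
      aut_decomp (fullyAutomized_of_fullyNormalized hUp d.nE.1.1 hR) ⟨α, hα⟩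
    have hρ' : Fixes F T R (autFun (ρ : MulAut R)) :=
      mem_goodAuts.1 (Subgroup.closure_induction
        (p := fun (b : E.autGroup R) _ => (b : MulAut R) ∈ goodAuts F T R hRS)
        (fun b hb => mem_goodAuts.2 (d.fix_aut hc hW hTR b.2
          (m := orderOf (b : MulAut R)) (by rw [Subgroup.orderOf_coe]; exact hb)
          (pow_orderOf_eq_one _) fun x hx hxT =>
            fix_center ((mem_autGroup hc.1).1 b.2) hx (hZ ⟨hxT, hc.1 hx⟩)))
        (one_mem _) (fun _ _ _ _ ha hb => mul_mem ha hb) (fun _ _ ha => inv_mem ha) hρ)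
    have hconj : Fixes F T R (fun x => u * x * u⁻¹) :=
      ⟨fun x => u * x * u⁻¹, isMap_conj F hRS (hUS hu), fun _ _ => rfl, fun y hy => by
        show u * y * u⁻¹ = y
        rw [← hTU y hy u hu, mul_inv_cancel_right]⟩
    exact (hρ'.comp hconj fun x hx => autFun_mem _ hx).congr fun x hx => (e x hx).symm
  exact alperin hUp d.nE.1.1 (fun R k => Fixes F T R k) (fun R k k' h h' => h.congr h')
    (fun R R' k k' _ _ hm h h' => h.comp h' hm) (fun R R' k _ hR h => h.res hR)
    (fun α hα => haut U (fullyNormalized_self E) (centric_self E) α hα)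
    (fun R hR => haut R hR.2.1 hR.1) hf

/-- The automorphisms of the support extend over its centralizer, fixing the commuting subgroup,
trivially modulo the centre of the support. -/
theorem Act.extend_top {α : MulAut U} (hα : α ∈ E.autGroup U) :
    ∃ g, IsMap F (U ⊔ centralizerIn S U) g ∧ (∀ x ∈ U, g x = autFun α x) ∧ (∀ t ∈ T, g t = t) ∧
      ∀ c ∈ centralizerIn S U, c⁻¹ * g c ∈ U ⊓ Subgroup.centralizer (U : Set Ω) := by
  have hUS := d.scU.1
  haveI : Finite U := finite_of_le hUS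
  have hUp := d.pG.to_le hUS
  have hX : U ⊔ centralizerIn S U ≤ S := sup_le hUS inf_le_left
  have hTC : T ≤ centralizerIn S U := fun t ht =>
    ⟨d.scT.1 ht, fun r hr => (hTU t ht r hr).symm⟩
  have hUn : F.IsFullyNormalized U := by
    refine ⟨hUS, fun Q hQ => ?_⟩
    obtain ⟨h, hh, rfl⟩ := isConj_iff.1 hQ
    rw [fimg_stronglyClosed d.scU hh le_rfl]
  -- the good automorphisms form a subgroup
  let Good : Subgroup (MulAut U) :=
    { carrier := {α | ∃ g, IsMap F (U ⊔ centralizerIn S U) g ∧ (∀ x ∈ U, g x = autFun α x) ∧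
        (∀ t ∈ T, g t = t) ∧
        ∀ c ∈ centralizerIn S U, c⁻¹ * g c ∈ U ⊓ Subgroup.centralizer (U : Set Ω)}
      one_mem' := ⟨fun x => x, isMap_id F hX, fun x hx => (autFun_one hx).symm, fun _ _ => rfl,
        fun c _ => by rw [inv_mul_cancel]; exact Subgroup.one_mem _⟩
      mul_mem' := by
        rintro a b ⟨g, hg, hg1, hg2, hg3⟩ ⟨h, hh, hh1, hh2, hh3⟩
        have hst : fimg h U = U := (fimg_congr hh1).trans (fimg_autFun b)
        have hm : ∀ x ∈ U ⊔ centralizerIn S U, h x ∈ U ⊔ centralizerIn S U := fun x hx => by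
          have := apply_mem_fimg h hx
          rwa [InvExt.fimg_sup_centralizer hUS hh hh1] at this
        refine ⟨_, hh.comp hg hm, fun x hx => ?_, fun t ht => ?_, fun c hc => ?_⟩
        · show g (h x) = _
          rw [hh1 x hx, hg1 _ (autFun_mem b hx), ← autFun_mul _ _ hx]
        · show g (h t) = t
          rw [hh2 t ht, hg2 t ht]
        · show c⁻¹ * g (h c) ∈ _
          have hc' := InvExt.apply_mem_centralizer hh le_sup_left hh1 hc (Subgroup.mem_sup_right hc)
          rw [show c⁻¹ * g (h c) = c⁻¹ * h c * ((h c)⁻¹ * g (h c)) by group]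
          exact Subgroup.mul_mem _ (hh3 c hc) (hg3 _ hc')
      inv_mem' := by
        rintro a ⟨g, hg, hg1, hg2, hg3⟩
        obtain ⟨k, hk, hk1, hk2, -⟩ := hg.exists_inv
        rw [InvExt.fimg_sup_centralizer hUS hg hg1] at hk hk2
        have hka : ∀ x ∈ U, k x = autFun a⁻¹ x := fun x hx => by
          have := hk1 _ (Subgroup.mem_sup_left (autFun_mem a⁻¹ hx))
          rwa [hg1 _ (autFun_mem a⁻¹ hx), ← autFun_mul _ _ hx, mul_inv_cancel, autFun_one hx]
            at this
        refine ⟨k, hk, hka, fun t ht => ?_, fun c hc => ?_⟩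
        · conv_lhs => rw [← hg2 t ht]
          exact hk1 t (Subgroup.mem_sup_right (hTC ht))
        · have hc' := InvExt.apply_mem_centralizer hk le_sup_left hka hc (Subgroup.mem_sup_right hc)
          have h := Subgroup.inv_mem _ (hg3 _ hc')
          rw [(hk2 c (Subgroup.mem_sup_right hc)).2] at h
          simpa using h }
  obtain ⟨u, hu, ρ, hρ, e⟩ :=
    aut_decomp (fullyAutomized_of_fullyNormalized hUp d.nE.1.1 (fullyNormalized_self E)) ⟨α, hα⟩
  have hρ' : (ρ : MulAut U) ∈ Good := Subgroup.closure_induction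
    (p := fun (b : E.autGroup U) _ => (b : MulAut U) ∈ Good)
    (fun b hb => by
      obtain ⟨g, hg, hg1, hg2, hg3⟩ := d.exists_lift hUn (centric_self E) b.2
        (m := orderOf (b : MulAut U)) (by rw [Subgroup.orderOf_coe]; exact hb)
        (pow_orderOf_eq_one _)
        (fun x hx hxT => fix_center ((mem_autGroup le_rfl).1 b.2) hx (hZ ⟨hxT, hx⟩)) inf_le_right
      refine ⟨g, hg, hg1, fun t ht => hg2 t ht (Subgroup.mem_sup_right (hTC ht)), fun c hc => ?_⟩
      have hc' := InvExt.apply_mem_centralizer hg le_sup_left hg1 hc (Subgroup.mem_sup_right hc)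
      exact ⟨hg3 c (Subgroup.mem_sup_right hc),
        Subgroup.mul_mem _ (Subgroup.inv_mem _ hc.2) hc'.2⟩)
    (one_mem _) (fun _ _ _ _ ha hb => mul_mem ha hb) (fun _ _ ha => inv_mem ha) hρ
  have hconj : U.normalizerMonoidHom ⟨u, Subgroup.le_normalizer hu⟩ ∈ Good := by
    refine ⟨fun x => u * x * u⁻¹, isMap_conj F hX (hUS hu),
      fun x hx => (autFun_coe (U.normalizerMonoidHom ⟨u, Subgroup.le_normalizer hu⟩) ⟨x, hx⟩).symm,
      fun t ht => ?_,
      fun c hc => ?_⟩
    · show u * t * u⁻¹ = t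
      rw [← hTU t ht u hu, mul_inv_cancel_right]
    · show c⁻¹ * (u * c * u⁻¹) ∈ _
      rw [hc.2 u hu, mul_inv_cancel_right, inv_mul_cancel]
      exact Subgroup.one_mem _
  have hαe : α = U.normalizerMonoidHom ⟨u, Subgroup.le_normalizer hu⟩ * (ρ : MulAut U) :=
    mulAut_ext fun x hx => by
      rw [autFun_mul _ _ hx]
      refine (e x hx).trans ?_
      exact (autFun_coe (U.normalizerMonoidHom ⟨u, Subgroup.le_normalizer hu⟩)
        ⟨autFun (ρ : MulAut U) x, autFun_mem _ hx⟩).symm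
  exact (hαe.symm ▸ mul_mem hconj hρ' : α ∈ Good)

end Cfsg.Agent.Fus.Comm
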