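import Mathlib
import Cfsg.Agent.Lib.Fus.Invariant
import Cfsg.Agent.Lib.Fus.Normal
import Cfsg.Agent.Lib.Fus.NormalCrit
import Cfsg.Agent.Lib.Fus.InvariantClass
import Cfsg.Agent.Lib.Transfer.Residual
import Cfsg.Agent.Lib.Grp.Basic

/-!
Subgroups of a strongly closed `T` containing their centralizers in `T`, and the automorphisms
fixing such a subgroup.
-/

set_option autoImplicit false
set_option linter.style.haveILetI false
set_option linter.unusedSectionVars false

open scoped Classical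

universe u

namespace Cfsg.Agent.Fus.InvMap

open Subgroup FusionSystem

variable {Ω : Type u} [Group Ω] {S T : Subgroup Ω} {F : FusionSystem S} {p : ℕ}

/-- `R ≤ T` and every conjugate contains its centralizer in `T`. -/
def TCen (F : FusionSystem S) (T R : Subgroup Ω) : Prop :=
  R ≤ T ∧ ∀ Q, F.IsConj R Q → centralizerIn T Q ≤ Q

theorem TCen.cent_le (hT : F.StronglyClosed T) {R : Subgroup Ω} (h : TCen F T R) :
    centralizerIn T R ≤ R :=
  h.2 R (isConj_refl F (h.1.trans hT.1))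

theorem TCen.image (hT : F.StronglyClosed T) {R : Subgroup Ω} (h : TCen F T R) {f : Ω → Ω}
    (hf : IsMap F R f) : TCen F T (fimg f R) :=
  ⟨fimg_le fun _ hx => StronglyClosed.apply_mem hT hf h.1 hx,
    fun Q hQ => h.2 Q (isConj_trans hf.isConj hQ)⟩

theorem TCen.mono {R Q : Subgroup Ω} (h : TCen F T R) (hRQ : R ≤ Q) (hQ : Q ≤ T) :
    TCen F T Q := by
  refine ⟨hQ, fun Q' hQ' => ?_⟩
  obtain ⟨f, hf, rfl⟩ := isConj_iff.1 hQ'
  exact le_trans (inf_le_inf_left _ (Subgroup.centralizer_le (fimg_mono f hRQ)))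
    ((h.2 _ (hf.res hRQ).isConj).trans (fimg_mono f hRQ))

theorem fimg_top [Finite S] (hT : F.StronglyClosed T) {f : Ω → Ω} (hf : IsMap F T f) :
    fimg f T = T :=
  haveI : Finite T := finite_of_le hT.1
  Subgroup.eq_of_le_of_card_ge
    (fimg_le fun _ hx => StronglyClosed.apply_mem hT hf le_rfl hx) hf.card_fimg.ge

theorem tCen_self [Finite S] (hT : F.StronglyClosed T) : TCen F T T := by
  refine ⟨le_rfl, fun Q hQ => ?_⟩
  obtain ⟨f, hf, rfl⟩ := isConj_iff.1 hQ
  rw [fimg_top hT hf]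
  exact inf_le_left

/-- Elements of `C_S(R)` normalize a subgroup of `T` between `R` and `N(R)`. -/
theorem centralizerIn_le_normalizer (hT : F.StronglyClosed T) {R X : Subgroup Ω}
    (hR : TCen F T R) (hRX : R ≤ X) (hXT : X ≤ T) (hXN : X ≤ Subgroup.normalizer (R : Set Ω)) :
    centralizerIn S R ≤ Subgroup.normalizer (X : Set Ω) := by
  have key : ∀ c ∈ centralizerIn S R, ∀ x ∈ X, c * x * c⁻¹ ∈ X := by
    intro c hc x hx
    obtain ⟨hcS, hcc⟩ := mem_centralizerIn.1 hc
    have h1 : c * x * c⁻¹ * x⁻¹ ∈ R := by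
      refine hR.cent_le hT (mem_centralizerIn.2 ⟨T.mul_mem
        (StronglyClosed.conj_mem' hT hcS (hXT hx)) (T.inv_mem (hXT hx)), fun r hr => ?_⟩)
      have hr' := (Subgroup.mem_normalizer_iff''.1 (hXN hx) r).1 hr
      have e1 := hcc _ hr'
      have e2 := hcc r hr
      have e3 : c * (x⁻¹ * r * x) * c⁻¹ = x⁻¹ * r * x := by rw [← e1, mul_inv_cancel_right]
      calc r * (c * x * c⁻¹ * x⁻¹)
          = c * r * c⁻¹ * (c * x * c⁻¹ * x⁻¹) := by rw [← e2, mul_inv_cancel_right]
        _ = c * x * (x⁻¹ * r * x) * c⁻¹ * x⁻¹ := by group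
        _ = c * x * c⁻¹ * (c * (x⁻¹ * r * x) * c⁻¹) * x⁻¹ := by group
        _ = c * x * c⁻¹ * x⁻¹ * r := by rw [e3]; group
    rw [show c * x * c⁻¹ = c * x * c⁻¹ * x⁻¹ * x by group]
    exact X.mul_mem (hRX h1) hx
  intro c hc
  refine mem_normalizer_of_forall (key c hc) fun x hx => ?_
  simpa using key c⁻¹ (Subgroup.inv_mem _ hc) x hx

/-- `|Aut_K(X)| |C_K(X)| = |K|` for `K` normalizing `X`. -/
theorem card_autInducedBy_mul {K X : Subgroup Ω} [Finite K]
    (hK : K ≤ Subgroup.normalizer (X : Set Ω)) :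
    Nat.card (autInducedBy K X) * Nat.card ↥(centralizerIn K X) = Nat.card K := by
  let f : K →* MulAut X :=
    X.normalizerMonoidHom.comp (Subgroup.inclusion hK)
  have hr : f.range = autInducedBy K X := by
    ext α
    rw [MonoidHom.mem_range, mem_autInducedBy]
    constructor
    · rintro ⟨k, rfl⟩
      exact ⟨k, k.2, fun x => rfl⟩
    · rintro ⟨g, hg, h⟩
      exact ⟨⟨g, hg⟩, MulEquiv.ext fun x => Subtype.ext (h x).symm⟩
  have hk : f.ker = (centralizerIn K X).subgroupOf K := by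
    ext k
    rw [MonoidHom.mem_ker, Subgroup.mem_subgroupOf, mem_centralizerIn]
    constructor
    · intro h
      refine ⟨k.2, fun x hx => ?_⟩
      have h1 : (k : Ω) * x * (k : Ω)⁻¹ = x := congrArg (fun α : MulAut X => (α ⟨x, hx⟩ : Ω)) h
      conv_lhs => rw [← h1]
      group
    · rintro ⟨-, h⟩
      refine MulEquiv.ext fun x => Subtype.ext ?_
      show (k : Ω) * x * (k : Ω)⁻¹ = x
      rw [← h x x.2, mul_inv_cancel_right]
  have h1 := f.ker.card_mul_index
  rw [Subgroup.index_ker, hr, hk] at h1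
  rw [Nat.card_congr (Subgroup.subgroupOfEquivOfLe
    (show centralizerIn K X ≤ K from inf_le_left)).toEquiv] at h1
  rw [mul_comm]
  exact h1

variable [Finite S] [Fact p.Prime]

/-- A `p`-group of automorphisms of `X` fixing a fully centralized subgroup `R` elementwise and
containing the conjugations by `C_S(R)` consists of those conjugations. -/
theorem fix_group_le (hS : IsPGroup p S) (hF : F.IsSaturated p) {R X : Subgroup Ω}
    (hR : F.IsFullyCentralized R) (hRX : R ≤ X) (hXS : X ≤ S)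
    (hC : centralizerIn S R ≤ Subgroup.normalizer (X : Set Ω))
    {H : Subgroup (MulAut X)} (hHF : H ≤ F.autGroup X) (hH : IsPGroup p H)
    (hfix : ∀ h ∈ H, ∀ x ∈ R, autFun h x = x)
    (hle : autInducedBy (centralizerIn S R) X ≤ H) :
    H ≤ autInducedBy (centralizerIn S R) X := by
  haveI := finite_of_le hXS
  obtain ⟨X', hX', hX'n⟩ := exists_fullyNormalized F hXS
  obtain ⟨θ, hθ, hθX⟩ := isConj_iff.1 hX'
  obtain ⟨hX'S, W, hW⟩ := fullyAutomized_of_fullyNormalized hS hF hX'n
  haveI := finite_of_le hX'S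
  obtain ⟨e, he, heA⟩ := exists_mulEquiv hθ hθX
  let H' : Subgroup (F.autGroup X') :=
    (H.map (MulAut.congr e).toMonoidHom).subgroupOf (F.autGroup X')
  have hH' : IsPGroup p H' := IsPGroup.comap_subtype (hH.map _)
  obtain ⟨W', hW'⟩ := hH'.exists_le_sylow
  obtain ⟨b, hb⟩ := MulAction.exists_smul_eq (F.autGroup X') W' W
  let θ' : Ω → Ω := fun x => autFun (b : MulAut X') (θ x)
  have hθ' : IsMap F X θ' :=
    hθ.comp ((mem_autGroup hX'S).1 b.2) fun x hx => hθX ▸ apply_mem_fimg θ hx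
  set R' := fimg θ' R
  set K' : Subgroup Ω := centralizerIn S R' ⊓ Subgroup.normalizer (X' : Set Ω) with hK'
  let f : MulAut X →* MulAut X' :=
    (MulAut.conj (b : MulAut X')).toMonoidHom.comp (MulAut.congr e).toMonoidHom
  have hf : Function.Injective f := fun a c hac =>
    (MulAut.congr e).injective ((MulAut.conj (b : MulAut X')).injective hac)
  have hmap : H.map f ≤ autInducedBy K' X' := by
    rintro _ ⟨h, hh, rfl⟩
    have hy : MulAut.congr e h ∈ F.autGroup X' := (heA _).1 (hHF hh)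
    have hyW : b * ⟨_, hy⟩ * b⁻¹ ∈ (W : Subgroup (F.autGroup X')) := by
      rw [← hb]
      exact ⟨_, hW' (Subgroup.mem_subgroupOf.2 ⟨h, hh, rfl⟩), rfl⟩
    rw [hW, Subgroup.mem_subgroupOf] at hyW
    obtain ⟨s, hs, hse⟩ := mem_autInducedBy.1 hyW
    refine mem_autInducedBy.2 ⟨s, ⟨mem_centralizerIn.2 ⟨hs, fun y hy' => ?_⟩,
      mem_normalizer_of_conj_aut hse⟩, hse⟩
    obtain ⟨x, hx, rfl⟩ := (hθ'.res hRX).mem_fimg_iff.1 hy'
    have h1 := hse ((b : MulAut X') (e ⟨x, hRX hx⟩))
    have h2 : θ' x = ((b : MulAut X') (e ⟨x, hRX hx⟩) : X') := by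
      show autFun _ _ = _
      rw [← autFun_coe, he]
    have h3 : h ⟨x, hRX hx⟩ = ⟨x, hRX hx⟩ := Subtype.ext (by
      rw [← autFun_coe]; exact hfix h hh x hx)
    rw [← h2] at h1
    have h4 : θ' x = s * θ' x * s⁻¹ := by
      refine Eq.trans ?_ h1
      rw [h2]
      simp [MulAut.congr, h3]
    conv_lhs => rw [h4]
    group
  have hcardH : Nat.card H ≤ Nat.card (autInducedBy K' X') := by
    rw [← Subgroup.card_map_of_injective hf (K := H)]
    haveI : Finite (MulAut X') := inferInstance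
    exact Subgroup.card_le_of_le hmap
  haveI : Finite ↥K' := finite_of_le (S := S) (inf_le_left.trans inf_le_left)
  haveI : Finite ↥(centralizerIn S R) := finite_of_le (S := S) inf_le_left
  haveI : Finite ↥(centralizerIn S R') := finite_of_le (S := S) inf_le_left
  have e1 : centralizerIn K' X' = centralizerIn S X' := le_antisymm
    (inf_le_inf_right _ (inf_le_left.trans inf_le_left)) fun c hc => by
      refine ⟨⟨⟨hc.1, Subgroup.centralizer_le (fimg_le fun x hx => ?_) hc.2⟩,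
        (centralizerIn_le_normalizerIn X' hc).2⟩, hc.2⟩
      exact autFun_mem _ (hθX ▸ apply_mem_fimg θ (hRX hx))
  have e2 : centralizerIn (centralizerIn S R) X = centralizerIn S X := le_antisymm
    (inf_le_inf_right _ inf_le_left) fun c hc =>
      ⟨⟨hc.1, Subgroup.centralizer_le hRX hc.2⟩, hc.2⟩
  have c1 := card_autInducedBy_mul (K := K') (X := X') inf_le_right
  rw [e1] at c1
  have c2 := card_autInducedBy_mul hC
  rw [e2] at c2
  have c3 : Nat.card K' ≤ Nat.card (centralizerIn S R) :=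
    (Subgroup.card_le_of_le inf_le_left).trans (hR.2 R' (hθ'.res hRX).isConj)
  have c4 : Nat.card (centralizerIn S X) ≤ Nat.card (centralizerIn S X') :=
    (fullyCentralized_of_fullyNormalized hS hF hX'n).2 X (isConj_symm hX')
  haveI : Finite ↥(centralizerIn S X) := finite_of_le (S := S) inf_le_left
  haveI : Finite (MulAut X) := inferInstance
  refine (Subgroup.eq_of_le_of_card_ge hle ?_).ge
  refine Nat.le_of_mul_le_mul_right ?_ (Nat.card_pos (α := ↥(centralizerIn S X)))
  calc Nat.card H * Nat.card (centralizerIn S X)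
      ≤ Nat.card (autInducedBy K' X') * Nat.card (centralizerIn S X') := Nat.mul_le_mul hcardH c4
    _ ≤ Nat.card (centralizerIn S R) := c1.le.trans c3
    _ = _ := c2.symm

/-- The automorphisms in the system that fix a subgroup elementwise. -/
def fixers (F : FusionSystem S) (R X : Subgroup Ω) (hRX : R ≤ X) : Subgroup (MulAut X) where
  carrier := {α | α ∈ F.autGroup X ∧ ∀ x ∈ R, autFun α x = x}
  mul_mem' := fun {a b} ha hb => ⟨mul_mem ha.1 hb.1, fun x hx => by
    rw [autFun_mul _ _ (hRX hx), hb.2 x hx, ha.2 x hx]⟩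
  one_mem' := ⟨one_mem _, fun x hx => autFun_one (hRX hx)⟩
  inv_mem' := fun {a} ha => ⟨inv_mem ha.1, fun x hx => by
    conv_lhs => rw [← ha.2 x hx]
    exact autFun_inv_apply a (hRX hx)⟩

/-- An automorphism fixing a centric subgroup of `T` moves each element inside that subgroup. -/
theorem mul_inv_mem_of_fix (hT : F.StronglyClosed T) {R X : Subgroup Ω} (hR : TCen F T R)
    (hRX : R ≤ X) (hXT : X ≤ T) (hXN : X ≤ Subgroup.normalizer (R : Set Ω)) {f : Ω → Ω}
    (hf : IsMap F X f) (hfix : ∀ x ∈ R, f x = x) {x : Ω} (hx : x ∈ X) : f x * x⁻¹ ∈ R := by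
  refine hR.cent_le hT (mem_centralizerIn.2 ⟨T.mul_mem (StronglyClosed.apply_mem hT hf hXT hx)
    (T.inv_mem (hXT hx)), fun r hr => ?_⟩)
  have hr' := (Subgroup.mem_normalizer_iff''.1 (hXN hx) r).1 hr
  have h1 := hf.map_conj hx (hRX hr')
  rw [hfix _ hr', show x * (x⁻¹ * r * x) * x⁻¹ = r by group, hfix r hr] at h1
  conv_lhs => rw [h1]
  group

/-- An automorphism of `X` in the system fixing `R` elementwise is induced by `C_S(R)`. -/
theorem exists_conj_of_fix (hS : IsPGroup p S) (hF : F.IsSaturated p) (hT : F.StronglyClosed T)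
    {R X : Subgroup Ω} (hR : TCen F T R) (hRc : F.IsFullyCentralized R) (hRX : R ≤ X)
    (hXT : X ≤ T) (hXN : X ≤ Subgroup.normalizer (R : Set Ω)) {f : Ω → Ω} (hf : IsMap F X f)
    (hfix : ∀ x ∈ R, f x = x) :
    ∃ s ∈ centralizerIn S R, ∀ x ∈ X, f x = s * x * s⁻¹ := by
  have hXS := hXT.trans hT.1
  haveI := finite_of_le hXS
  have hfX : fimg f X = X := Subgroup.eq_of_le_of_card_ge (fimg_le fun x hx => by
    rw [show f x = f x * x⁻¹ * x by group]
    exact X.mul_mem (hRX (mul_inv_mem_of_fix hT hR hRX hXT hXN hf hfix hx)) hx) hf.card_fimg.ge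
  obtain ⟨α, hα, hαf⟩ := hf.exists_aut hfX
  have hC := centralizerIn_le_normalizer hT hR hRX hXT hXN
  obtain ⟨n, hn⟩ := (hS.to_le hXS).exists_card_eq
  have hp : IsPGroup p (fixers F R X hRX) := by
    rintro ⟨β, hβ, hβR⟩
    refine ⟨n, Subtype.ext (mulAut_ext fun y hy => ?_)⟩
    have hβm := (mem_autGroup hXS).1 hβ
    have hd := mul_inv_mem_of_fix hT hR hRX hXT hXN hβm hβR hy
    have key : ∀ k, autFun (β ^ k) y = (autFun β y * y⁻¹) ^ k * y := by
      intro k
      induction k with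
      | zero => rw [pow_zero, pow_zero, one_mul, autFun_one hy]
      | succ k ih =>
        have hdk : (autFun β y * y⁻¹) ^ k ∈ R := R.pow_mem hd k
        rw [pow_succ', autFun_mul _ _ hy, ih, hβm.map_mul (hRX hdk) hy, hβR _ hdk, pow_succ]
        group
    show autFun (β ^ p ^ n) y = autFun 1 y
    rw [key, autFun_one hy, ← hn]
    have : (⟨_, hRX hd⟩ : X) ^ Nat.card X = 1 := pow_card_eq_one'
    rw [show (autFun β y * y⁻¹) ^ Nat.card X = 1 from congrArg Subtype.val this, one_mul]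
  have hle : autInducedBy (centralizerIn S R) X ≤ fixers F R X hRX := fun β hβ => by
    refine ⟨autInducedBy_le_autGroup F hXS (autInducedBy_mono inf_le_left X hβ), fun x hx => ?_⟩
    obtain ⟨c, hc, hce⟩ := mem_autInducedBy.1 hβ
    rw [show autFun β x = ((β ⟨x, hRX hx⟩ : X) : Ω) from autFun_coe β ⟨x, hRX hx⟩, hce]
    show c * x * c⁻¹ = x
    rw [← (mem_centralizerIn.1 hc).2 x hx, mul_inv_cancel_right]
  have hmem := fix_group_le hS hF hRc hRX hXS hC (fun β (hβ : β ∈ fixers F R X hRX) => hβ.1) hp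
    (fun β (hβ : β ∈ fixers F R X hRX) => hβ.2) hle
    (show α ∈ fixers F R X hRX from ⟨hα, fun x hx => by rw [hαf x (hRX hx), hfix x hx]⟩)
  obtain ⟨s, hs, hse⟩ := mem_autInducedBy.1 hmem
  exact ⟨s, hs, fun x hx => by
    rw [← hαf x hx, show autFun α x = ((α ⟨x, hx⟩ : X) : Ω) from autFun_coe α ⟨x, hx⟩, hse]⟩

/-- Two maps on `X` agreeing on `R` differ by a conjugation from `C_S(R)`. -/
theorem exists_conj_of_eqOn (hS : IsPGroup p S) (hF : F.IsSaturated p) (hT : F.StronglyClosed T)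
    {R X : Subgroup Ω} (hR : TCen F T R) (hRc : F.IsFullyCentralized R) (hRX : R ≤ X)
    (hXT : X ≤ T) (hXN : X ≤ Subgroup.normalizer (R : Set Ω)) {f f' : Ω → Ω} (hf : IsMap F X f)
    (hf' : IsMap F X f') (h : ∀ x ∈ R, f' x = f x) :
    ∃ s ∈ centralizerIn S R, ∀ x ∈ X, f' x = f (s * x * s⁻¹) := by
  obtain ⟨g, hg, hg1, hg2, -⟩ := hf.exists_inv
  have hfR := hR.image hT (hf.res hRX)
  have hmem : ∀ x ∈ X, f' x ∈ fimg f X := by
    intro x hx
    have h1 : f' x * (f x)⁻¹ ∈ fimg f R := by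
      refine hfR.cent_le hT (mem_centralizerIn.2 ⟨T.mul_mem (StronglyClosed.apply_mem hT hf' hXT hx)
        (T.inv_mem (StronglyClosed.apply_mem hT hf hXT hx)), fun u hu => ?_⟩)
      obtain ⟨r, hr, rfl⟩ := (hf.res hRX).mem_fimg_iff.1 hu
      have hr' := (Subgroup.mem_normalizer_iff''.1 (hXN hx) r).1 hr
      have e1 := hf.map_conj hx (hRX hr')
      have e2 := hf'.map_conj hx (hRX hr')
      rw [show x * (x⁻¹ * r * x) * x⁻¹ = r by group] at e1 e2
      rw [h r hr, h _ hr'] at e2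
      conv_lhs => rw [e2]
      conv_rhs => rw [e1]
      group
    rw [show f' x = f' x * (f x)⁻¹ * f x by group]
    exact Subgroup.mul_mem _ (fimg_mono f hRX h1) (apply_mem_fimg f hx)
  obtain ⟨s, hs, hse⟩ := exists_conj_of_fix hS hF hT hR hRc hRX hXT hXN (hf'.comp hg hmem)
    fun x hx => by show g (f' x) = x; rw [h x hx, hg1 x (hRX hx)]
  refine ⟨s, hs, fun x hx => ?_⟩
  rw [← hse x hx]
  exact ((hg2 _ (hmem x hx)).2).symm

end Cfsg.Agent.Fus.InvMap
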