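import Mathlib
import Cfsg.Agent.Lib.Fus.InvMapBasic
import Cfsg.Agent.Lib.Fus.InvariantIff

/-!
The system generated by a family of groups of automorphisms of the subgroups of `T` containing
their centralizers, and the decomposition of every map through `Aut_F(T)`.
-/

set_option autoImplicit false
set_option linter.style.haveILetI false
set_option linter.unusedSectionVars false

open scoped Classical

universe u

namespace Cfsg.Agent.Fus.InvMap

open Subgroup FusionSystem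

variable {Ω : Type u} [Group Ω] {S T : Subgroup Ω} {F : FusionSystem S} {p : ℕ}
  {M : (R : Subgroup Ω) → Subgroup (MulAut R)}

/-- The axioms of an invariant family of automorphism groups. -/
structure Maps (F : FusionSystem S) (T : Subgroup Ω) (p : ℕ)
    (M : (R : Subgroup Ω) → Subgroup (MulAut R)) : Prop where
  pG : IsPGroup p S
  sat : F.IsSaturated p
  closed : F.StronglyClosed T
  le : ∀ {R : Subgroup Ω}, TCen F T R → M R ≤ F.autGroup R
  inn : ∀ {R : Subgroup Ω}, TCen F T R → autInducedBy T R ≤ M R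
  congr : ∀ {R Q : Subgroup Ω} {f : Ω → Ω}, TCen F T R → IsMap F R f → fimg f R = Q →
    ∀ e : R ≃* Q, (∀ x : R, (e x : Ω) = f x) → ∀ α ∈ M R, MulAut.congr e α ∈ M Q
  sylow : ∀ {R : Subgroup Ω}, TCen F T R → F.IsFullyNormalized R →
    M R ⊓ autInducedBy S R ≤ autInducedBy T R
  res : ∀ {R Q : Subgroup Ω}, TCen F T R → R ≤ Q → Q ≤ T →
    Q ≤ Subgroup.normalizer (R : Set Ω) → ∀ α ∈ M Q, (orderOf α).Coprime p →
      ∀ β : MulAut R, (∀ x ∈ R, autFun β x = autFun α x) → β ∈ M R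
  ext : ∀ {R Q : Subgroup Ω}, TCen F T R → F.IsFullyNormalized R → R ≤ Q →
    Q ≤ normalizerIn T R → ∀ β ∈ M R, (orderOf β).Coprime p →
      (∀ γ ∈ autInducedBy Q R, β * γ * β⁻¹ ∈ autInducedBy Q R) →
      ∃ α ∈ M Q, ∀ x ∈ R, autFun α x = autFun β x

/-- Maps generated by the automorphism groups. -/
inductive Gen (F : FusionSystem S) (T : Subgroup Ω) (M : (R : Subgroup Ω) → Subgroup (MulAut R)) :
    Subgroup Ω → (Ω → Ω) → Prop
  | aut {P Q : Subgroup Ω} {α : MulAut Q} {f : Ω → Ω} : TCen F T Q → α ∈ M Q → P ≤ Q →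
      (∀ x ∈ P, f x = autFun α x) → Gen F T M P f
  | comp {P Q : Subgroup Ω} {f g h : Ω → Ω} : Gen F T M P f → Gen F T M Q g →
      (∀ x ∈ P, f x ∈ Q) → (∀ x ∈ P, h x = g (f x)) → Gen F T M P h

theorem Gen.res {P R : Subgroup Ω} {f : Ω → Ω} (h : Gen F T M P f) (hR : R ≤ P) :
    Gen F T M R f := by
  induction h generalizing R with
  | aut hQ hα hPQ hf => exact .aut hQ hα (hR.trans hPQ) fun x hx => hf x (hR hx)
  | comp _ hg hm he ih _ =>
    exact .comp (ih hR) hg (fun x hx => hm x (hR hx)) fun x hx => he x (hR hx)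

theorem Gen.congr {P : Subgroup Ω} {f f' : Ω → Ω} (h : Gen F T M P f)
    (he : ∀ x ∈ P, f' x = f x) : Gen F T M P f' := by
  induction h with
  | aut hQ hα hPQ hf => exact .aut hQ hα hPQ fun x hx => (he x hx).trans (hf x hx)
  | comp hf hg hm h' _ _ => exact .comp hf hg hm fun x hx => (he x hx).trans (h' x hx)

theorem Gen.source_le {P : Subgroup Ω} {f : Ω → Ω} (h : Gen F T M P f) : P ≤ T := by
  induction h with
  | aut hQ _ hPQ _ => exact hPQ.trans hQ.1
  | comp _ _ _ _ ih _ => exact ih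

theorem Gen.apply_mem {P : Subgroup Ω} {f : Ω → Ω} (h : Gen F T M P f) :
    ∀ x ∈ P, f x ∈ T := by
  induction h with
  | aut hQ _ hPQ hf => exact fun x hx => hf x hx ▸ hQ.1 (autFun_mem _ (hPQ hx))
  | comp _ _ hm he _ ih => exact fun x hx => he x hx ▸ ih _ (hm x hx)

variable (d : Maps F T p M)
include d

theorem Maps.isMap {R : Subgroup Ω} (hR : TCen F T R) {α : MulAut R} (hα : α ∈ M R) :
    IsMap F R (autFun α) :=
  (mem_autGroup (hR.1.trans d.closed.1)).1 (d.le hR hα)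

theorem Gen.isMap {P : Subgroup Ω} {f : Ω → Ω} (h : Gen F T M P f) : IsMap F P f := by
  induction h with
  | aut hQ hα hPQ hf => exact ((d.isMap hQ hα).res hPQ).congr fun x hx => (hf x hx).symm
  | comp _ _ hm he ih₁ ih₂ => exact (ih₁.comp ih₂ hm).congr fun x hx => (he x hx).symm

theorem Gen.conj [Finite S] {P : Subgroup Ω} (hP : P ≤ T) {g : Ω} (hg : g ∈ T) :
    Gen F T M P (fun x => g * x * g⁻¹) := by
  have hgn : g ∈ Subgroup.normalizer (T : Set Ω) := Subgroup.le_normalizer hg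
  have hmem : T.normalizerMonoidHom ⟨g, hgn⟩ ∈ autInducedBy T T :=
    mem_autInducedBy.2 ⟨g, hg, fun x => rfl⟩
  refine .aut (tCen_self d.closed) (d.inn (tCen_self d.closed) hmem) hP fun x hx => ?_
  rw [show autFun (T.normalizerMonoidHom ⟨g, hgn⟩) x =
    ((T.normalizerMonoidHom ⟨g, hgn⟩ ⟨x, hP hx⟩ : T) : Ω) from autFun_coe _ ⟨x, hP hx⟩]
  rfl

/-- The inverse of a generated map is generated. -/
theorem Gen.inv {P : Subgroup Ω} {f : Ω → Ω} (h : Gen F T M P f) :
    ∀ g : Ω → Ω, (∀ x ∈ P, g (f x) = x) → Gen F T M (fimg f P) g := by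
  induction h with
  | @aut P Q α f hQ hα hPQ hf =>
    intro g hg
    refine .aut hQ (inv_mem hα) (fimg_le fun x hx => hf x hx ▸ autFun_mem α (hPQ hx)) fun y hy => ?_
    obtain ⟨x, hx, rfl⟩ := ((Gen.aut hQ hα hPQ hf).isMap d).mem_fimg_iff.1 hy
    rw [hg x hx, hf x hx, autFun_inv_apply α (hPQ hx)]
  | @comp P Q f₁ f₂ h hf₁ hf₂ hm he ih₁ ih₂ =>
    intro g hg
    obtain ⟨g₁, -, e₁, -, -⟩ := (hf₁.isMap d).exists_inv
    obtain ⟨g₂, -, e₂, -, -⟩ := (hf₂.isMap d).exists_inv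
    have key : ∀ x ∈ P, g₂ (h x) = f₁ x := fun x hx => by rw [he x hx, e₂ _ (hm x hx)]
    have hle : fimg h P ≤ fimg f₂ Q := fimg_le fun x hx => he x hx ▸ apply_mem_fimg f₂ (hm x hx)
    refine .comp ((ih₂ g₂ e₂).res hle) (ih₁ g₁ e₁) (fun y hy => ?_) fun y hy => ?_
    · obtain ⟨x, hx, rfl⟩ := ((Gen.comp hf₁ hf₂ hm he).isMap d).mem_fimg_iff.1 hy
      rw [key x hx]
      exact apply_mem_fimg f₁ hx
    · obtain ⟨x, hx, rfl⟩ := ((Gen.comp hf₁ hf₂ hm he).isMap d).mem_fimg_iff.1 hy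
      rw [key x hx, hg x hx, e₁ x hx]

/-- `Aut_F(T)` permutes the generated maps. -/
theorem Gen.twist [Finite S] {β : MulAut T} (hβ : β ∈ F.autGroup T) {P : Subgroup Ω} {f : Ω → Ω}
    (h : Gen F T M P f) :
    Gen F T M (fimg (autFun β) P) (fun y => autFun β (f (autFun β⁻¹ y))) := by
  have hb : IsMap F T (autFun β) := (mem_autGroup d.closed.1).1 hβ
  have hinv : ∀ x ∈ T, autFun β⁻¹ (autFun β x) = x := fun x hx => autFun_inv_apply β hx
  induction h with
  | @aut P Q α f hQ hα hPQ hf =>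
    have hbQ := hb.res hQ.1
    obtain ⟨e, he, -⟩ := exists_mulEquiv hbQ rfl
    refine .aut (hQ.image d.closed hbQ) (d.congr hQ hbQ rfl e he α hα)
      (fimg_mono _ hPQ) fun y hy => ?_
    obtain ⟨x, hx, rfl⟩ := (hb.res (hPQ.trans hQ.1)).mem_fimg_iff.1 hy
    show autFun β (f (autFun β⁻¹ (autFun β x))) = autFun (MulAut.congr e α) (autFun β x)
    rw [hinv x (hQ.1 (hPQ hx)), hf x hx, ← he ⟨x, hPQ hx⟩, autFun_coe,
      show autFun α x = ((α ⟨x, hPQ hx⟩ : Q) : Ω) from autFun_coe α ⟨x, hPQ hx⟩, ← he]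
    simp [MulAut.congr]
  | @comp P Q f g h hf hg hm he ih₁ ih₂ =>
    have hPT := hf.source_le
    refine .comp ih₁ ih₂ (fun y hy => ?_) fun y hy => ?_
    · obtain ⟨x, hx, rfl⟩ := (hb.res hPT).mem_fimg_iff.1 hy
      show autFun β (f (autFun β⁻¹ (autFun β x))) ∈ _
      rw [hinv x (hPT hx)]
      exact apply_mem_fimg _ (hm x hx)
    · obtain ⟨x, hx, rfl⟩ := (hb.res hPT).mem_fimg_iff.1 hy
      show autFun β (h (autFun β⁻¹ (autFun β x))) =
        autFun β (g (autFun β⁻¹ (autFun β (f (autFun β⁻¹ (autFun β x))))))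
      rw [hinv x (hPT hx), hinv _ (hf.apply_mem x hx), he x hx]

omit d

/-- The map is `α` after a generated map. -/
def DecAt (F : FusionSystem S) (T : Subgroup Ω) (M : (R : Subgroup Ω) → Subgroup (MulAut R))
    (α : MulAut T) (P : Subgroup Ω) (f : Ω → Ω) : Prop :=
  α ∈ F.autGroup T ∧ ∃ e, Gen F T M P e ∧ ∀ x ∈ P, f x = autFun α (e x)

theorem DecAt.congr {α : MulAut T} {P : Subgroup Ω} {f f' : Ω → Ω} (h : DecAt F T M α P f)
    (he : ∀ x ∈ P, f' x = f x) : DecAt F T M α P f' :=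
  let ⟨hα, e, hg, h'⟩ := h; ⟨hα, e, hg, fun x hx => (he x hx).trans (h' x hx)⟩

theorem DecAt.res {α : MulAut T} {P R : Subgroup Ω} {f : Ω → Ω} (h : DecAt F T M α P f)
    (hR : R ≤ P) : DecAt F T M α R f :=
  let ⟨hα, e, hg, h'⟩ := h; ⟨hα, e, hg.res hR, fun x hx => h' x (hR hx)⟩

theorem DecAt.of_gen {P : Subgroup Ω} {f : Ω → Ω} (h : Gen F T M P f) : DecAt F T M 1 P f :=
  ⟨one_mem _, f, h, fun x hx => (autFun_one (h.apply_mem x hx)).symm⟩

theorem DecAt.gen {P : Subgroup Ω} {f : Ω → Ω} (h : DecAt F T M 1 P f) : Gen F T M P f :=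
  let ⟨_, _, hg, h'⟩ := h
  hg.congr fun x hx => (h' x hx).trans (autFun_one (hg.apply_mem x hx))

theorem DecAt.source_le {α : MulAut T} {P : Subgroup Ω} {f : Ω → Ω} (h : DecAt F T M α P f) :
    P ≤ T :=
  let ⟨_, _, hg, _⟩ := h; hg.source_le

theorem DecAt.apply_mem {α : MulAut T} {P : Subgroup Ω} {f : Ω → Ω} (h : DecAt F T M α P f)
    {x : Ω} (hx : x ∈ P) : f x ∈ T :=
  let ⟨_, _, hg, h'⟩ := h; h' x hx ▸ autFun_mem α (hg.apply_mem x hx)

variable [Finite S]

theorem DecAt.of_mem (hd : Maps F T p M) {μ : MulAut T} (hμ : μ ∈ M T) :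
    DecAt F T M μ T (fun x => x) :=
  ⟨hd.le (tCen_self hd.closed) hμ, autFun μ⁻¹,
    .aut (tCen_self hd.closed) (inv_mem hμ) le_rfl fun _ _ => rfl, fun x hx => by
      rw [← autFun_mul μ μ⁻¹ hx, mul_inv_cancel, autFun_one hx]⟩

include d

theorem DecAt.isMap {α : MulAut T} {P : Subgroup Ω} {f : Ω → Ω} (h : DecAt F T M α P f) :
    IsMap F P f :=
  let ⟨hα, _, hg, h'⟩ := h
  ((hg.isMap d).comp ((mem_autGroup d.closed.1).1 hα) hg.apply_mem).congr fun x hx => (h' x hx).symm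

theorem DecAt.of_aut {α : MulAut T} (hα : α ∈ F.autGroup T) {P : Subgroup Ω} (hP : P ≤ T) :
    DecAt F T M α P (autFun α) :=
  ⟨hα, fun x => x, (Gen.conj d hP T.one_mem).congr fun x _ => by simp, fun _ _ => rfl⟩

theorem DecAt.comp {α β : MulAut T} {P Q : Subgroup Ω} {f g : Ω → Ω} (hf : DecAt F T M α P f)
    (hg : DecAt F T M β Q g) (h : ∀ x ∈ P, f x ∈ Q) :
    DecAt F T M (β * α) P (fun x => g (f x)) := by
  obtain ⟨hα, e, he, hfe⟩ := hf
  obtain ⟨hβ, k, hk, hgk⟩ := hg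
  have ht := hk.twist d (inv_mem hα)
  refine ⟨mul_mem hβ hα, _, .comp he ht (fun x hx => ?_) (fun x _ => rfl), fun x hx => ?_⟩
  · have : e x = autFun α⁻¹ (f x) := by rw [hfe x hx, autFun_inv_apply α (he.apply_mem x hx)]
    rw [this]
    exact apply_mem_fimg _ (h x hx)
  · show g (f x) = autFun (β * α) (autFun α⁻¹ (k (autFun α⁻¹⁻¹ (e x))))
    have h1 := hk.apply_mem _ (h x hx)
    rw [inv_inv, ← hfe x hx, autFun_mul _ _ (autFun_mem α⁻¹ h1), ← autFun_mul α α⁻¹ h1,
      mul_inv_cancel, autFun_one h1, ← hgk _ (h x hx)]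

theorem DecAt.inv {α : MulAut T} {P : Subgroup Ω} {f : Ω → Ω} (hf : DecAt F T M α P f)
    {g : Ω → Ω} (hg : ∀ x ∈ P, g (f x) = x) : DecAt F T M α⁻¹ (fimg f P) g := by
  obtain ⟨hα, e, he, hfe⟩ := hf
  obtain ⟨e', -, he', -, -⟩ := (he.isMap d).exists_inv
  have ht := (he.inv d e' he').twist d hα
  rw [← (he.isMap d).fimg_comp, ← fimg_congr hfe] at ht
  refine ⟨inv_mem hα, _, ht, fun y hy => ?_⟩
  obtain ⟨x, hx, rfl⟩ := (DecAt.isMap d ⟨hα, e, he, hfe⟩).mem_fimg_iff.1 hy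
  show g (f x) = autFun α⁻¹ (autFun α (e' (autFun α⁻¹ (f x))))
  rw [hg x hx, hfe x hx, autFun_inv_apply α (he.apply_mem x hx), he' x hx,
    autFun_inv_apply α (he.source_le hx)]

/-- The system generated by the family. -/
noncomputable def sys : FusionSystem T where
  Hom P := {φ | Gen F T M P (toFun φ)}
  le_of_mem {P φ} h := ⟨h.source_le, fun x => toFun_coe φ x ▸ h.apply_mem x x.2⟩
  injective_of_mem {P φ} h := fun x y hxy => Subtype.ext ((h.isMap d).injOn x.2 y.2 (by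
    rw [toFun_coe, toFun_coe, hxy]))
  conj_mem {P g} hP hg := (Gen.conj d hP hg).congr fun x hx => toFun_apply (conjHom P g) hx
  comp_mem {P Q φ ψ} hφ hψ hmem :=
    Gen.comp hφ hψ (fun x hx => by rw [toFun_apply φ hx]; exact hmem _) fun x hx => by
      rw [toFun_apply _ hx, toFun_apply φ hx, toFun_apply ψ (hmem _)]
      rfl
  inv_mem {P φ} hφ := by
    obtain ⟨g, hg, hg1, -, -⟩ := (hφ.isMap d).exists_inv
    obtain ⟨ψ, hψ, hψe⟩ := hg.exists_hom
    have hr : φ.range = fimg (toFun φ) P :=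
      (hφ.isMap d).range_eq_fimg fun x => (toFun_coe φ x).symm
    have hgen := Gen.inv d hφ g hg1
    obtain ⟨ψ', hψ'⟩ : ∃ ψ' : φ.range →* Ω, ∀ y : φ.range, ψ' y = g y :=
      ⟨ψ.comp (Subgroup.inclusion hr.le), fun y => hψe _⟩
    refine ⟨ψ', ?_, fun x => ?_⟩
    · show Gen F T M φ.range (toFun ψ')
      exact (hgen.res hr.le).congr fun y hy => by rw [toFun_apply ψ' hy]; exact hψ' ⟨y, hy⟩
    · rw [hψ']
      show g (φ x) = x
      rw [← toFun_coe φ x]
      exact hg1 x x.2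

theorem isMap_sys {P : Subgroup Ω} {f : Ω → Ω} : IsMap (sys d) P f ↔ Gen F T M P f := by
  constructor
  · rintro ⟨φ, hφ, he⟩
    exact Gen.congr (f := toFun φ) hφ fun x hx => by rw [toFun_apply φ hx]; exact (he ⟨x, hx⟩).symm
  · intro h
    obtain ⟨φ, -, he⟩ := (h.isMap d).exists_hom
    exact ⟨φ, h.congr fun x hx => by rw [toFun_apply φ hx]; exact he ⟨x, hx⟩, he⟩

theorem sys_subsystem : (sys d).IsSubsystemOf F := fun _ _ h => mem_hom_iff.2 (Gen.isMap d h)

theorem mem_sys_autGroup {R : Subgroup Ω} (hR : R ≤ T) {α : MulAut R} :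
    α ∈ (sys d).autGroup R ↔ Gen F T M R (autFun α) := by
  rw [mem_autGroup hR, isMap_sys d]

theorem M_le_sys {R : Subgroup Ω} (hR : TCen F T R) : M R ≤ (sys d).autGroup R :=
  fun _ hα => (mem_sys_autGroup d hR.1).2 (.aut hR hα le_rfl fun _ _ => rfl)

/-- The members of the family are normal in the automizers. -/
theorem conj_mem {R : Subgroup Ω} (hR : TCen F T R) {a m : MulAut R} (ha : a ∈ F.autGroup R)
    (hm : m ∈ M R) : a * m * a⁻¹ ∈ M R := by
  have hRS := hR.1.trans d.closed.1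
  have h := d.congr hR ((mem_autGroup hRS).1 ha) (fimg_autFun a) a
    (fun x => (autFun_coe a x).symm) m hm
  convert h using 1
  refine MulEquiv.ext fun x => ?_
  simp [MulAut.congr]

omit d in
/-- A join with a normalizing subgroup is the product. -/
theorem mem_sup_normalized {H K : Subgroup Ω} (hK : K ≤ Subgroup.normalizer (H : Set Ω)) {x : Ω} :
    x ∈ H ⊔ K ↔ ∃ h ∈ H, ∃ k ∈ K, h * k = x := by
  constructor
  · intro hx
    haveI : (H.subgroupOf (H ⊔ K)).Normal :=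
      Subgroup.normal_subgroupOf_of_le_normalizer (sup_le Subgroup.le_normalizer hK)
    have hx' : (⟨x, hx⟩ : ↥(H ⊔ K)) ∈ H.subgroupOf (H ⊔ K) ⊔ K.subgroupOf (H ⊔ K) := by
      rw [← Subgroup.subgroupOf_sup le_sup_left le_sup_right, Subgroup.subgroupOf_self]
      trivial
    obtain ⟨a, ha, b, hb, hab⟩ := Subgroup.mem_sup_of_normal_left.1 hx'
    exact ⟨a, ha, b, hb, congrArg Subtype.val hab⟩
  · rintro ⟨h, hh, k, hk, rfl⟩
    exact Subgroup.mul_mem_sup hh hk

variable [Fact p.Prime]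

set_option maxHeartbeats 800000 in
/-- At a fully normalized subgroup every automorphism is one in the family after one normalizing
the automorphisms induced by `T`. -/
theorem exists_split {R : Subgroup Ω} (hR : TCen F T R) (hn : F.IsFullyNormalized R)
    {a : MulAut R} (ha : a ∈ F.autGroup R) :
    ∃ m ∈ M R, ∃ f, IsMap F (normalizerIn T R) f ∧ fimg f R = R ∧
      fimg f (normalizerIn T R) = normalizerIn T R ∧
      ∀ x ∈ R, autFun a x = autFun m (f x) := by
  have hRS := hR.1.trans d.closed.1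
  have hTS := d.closed.1
  haveI := finite_of_le hRS
  obtain ⟨-, W, hW⟩ := fullyAutomized_of_fullyNormalized d.pG d.sat hn
  let N : Subgroup (F.autGroup R) := (M R).subgroupOf (F.autGroup R)
  haveI hNn : N.Normal := ⟨fun m hm b => conj_mem d hR b.2 hm⟩
  set P : Subgroup (F.autGroup R) := (autInducedBy T R).subgroupOf (F.autGroup R) with hP
  have hWN : (W : Subgroup (F.autGroup R)) ⊓ N = P := by
    refine le_antisymm (fun x hx => ?_) (fun x hx => ⟨?_, d.inn hR hx⟩)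
    · exact d.sylow hR hn ⟨hx.2, by have := hx.1; rwa [hW] at this⟩
    · rw [SetLike.mem_coe, hW]
      exact autInducedBy_mono hTS R hx
  obtain ⟨hPN, Pl, hPl⟩ := isSylowOf_inf_normal W N
  rw [hWN] at hPN hPl
  have hfr := Sylow.normalizer_sup_eq_top Pl
  rw [hPl, Subgroup.map_subgroupOf_eq_of_le hPN] at hfr
  obtain ⟨b, hb, m, hm, hbm⟩ := (Subgroup.mem_sup_of_normal_right (t := N)).1
    (show (⟨a, ha⟩ : F.autGroup R) ∈ Subgroup.normalizer (P : Set (F.autGroup R)) ⊔ N by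
      rw [hfr]; trivial)
  have hbR := (mem_autGroup hRS).1 b.2
  have hN : ∀ g ∈ normalizerIn T R, g ∈ normalizerIn S R ∧ ∃ h ∈ S, ∀ x ∈ R,
      autFun (b : MulAut R) (g * x * g⁻¹) = h * autFun (b : MulAut R) x * h⁻¹ := by
    intro g hg
    refine ⟨⟨hTS hg.1, hg.2⟩, ?_⟩
    have hcT : R.normalizerMonoidHom ⟨g, hg.2⟩ ∈ autInducedBy T R :=
      mem_autInducedBy.2 ⟨g, hg.1, fun x => rfl⟩
    have hc : (⟨_, autInducedBy_le_autGroup F hRS (autInducedBy_mono hTS R hcT)⟩ :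
        F.autGroup R) ∈ P := hcT
    have hbc := (Subgroup.mem_normalizer_iff.1 hb _).1 hc
    obtain ⟨k, hk, hk'⟩ := mem_autInducedBy.1 hbc
    refine ⟨k, hTS hk, fun x hx => ?_⟩
    have h1 := hk' ((b : MulAut R) ⟨x, hx⟩)
    simp at h1
    rw [show autFun (b : MulAut R) x = (((b : MulAut R) ⟨x, hx⟩ : R) : Ω) from
      autFun_coe _ ⟨x, hx⟩, show g * x * g⁻¹ =
        ((R.normalizerMonoidHom ⟨g, hg.2⟩ ⟨x, hx⟩ : R) : Ω) from rfl, autFun_coe]
    exact h1
  obtain ⟨f, hf, hfe⟩ := receptive_extend (receptive_of_fullyNormalized d.pG d.sat hn) hbR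
    (fimg_autFun _) hN (le_normalizerIn hR.1)
  have hfR : fimg f R = R := (fimg_congr hfe).trans (fimg_autFun _)
  haveI : Finite ↥(normalizerIn T R) := finite_of_le (S := S) (inf_le_left.trans hTS)
  have hfN : fimg f (normalizerIn T R) = normalizerIn T R :=
    Subgroup.eq_of_le_of_card_ge (fimg_le fun x hx =>
      ⟨StronglyClosed.apply_mem d.closed hf inf_le_left hx,
        (hfR ▸ hf.map_normalizerIn (le_normalizerIn hR.1) hx hx.2 :
          f x ∈ normalizerIn S R).2⟩) hf.card_fimg.ge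
  refine ⟨b * m * b⁻¹, conj_mem d hR b.2 hm, f, hf, hfR, hfN, fun x hx => ?_⟩
  rw [hfe x hx, ← autFun_mul _ _ hx]
  congr 1
  rw [show a = ((⟨a, ha⟩ : F.autGroup R) : MulAut R) from rfl, ← hbm]
  simp

set_option maxHeartbeats 1000000 in
/-- Every map on a subgroup of `T` decomposes. -/
theorem exists_decAt : ∀ {P : Subgroup Ω} {f : Ω → Ω}, P ≤ T → IsMap F P f →
    ∃ α, DecAt F T M α P f := by
  intro P
  induction hn : Nat.card T - Nat.card P using Nat.strong_induction_on generalizing P with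
  | _ n ih =>
    intro f hPT hf
    have hT := d.closed
    haveI : Finite T := finite_of_le hT.1
    rcases hPT.eq_or_lt with rfl | hlt
    · obtain ⟨α, hα, hαe⟩ := hf.exists_aut (fimg_top hT hf)
      exact ⟨α, (DecAt.of_aut d hα le_rfl).congr fun x hx => (hαe x hx).symm⟩
    have big : ∀ R : Subgroup Ω, R ≤ T → Nat.card P < Nat.card R → ∀ g, IsMap F R g →
        ∃ α, DecAt F T M α R g := by
      intro R hR hcard g hg
      have := Subgroup.card_le_of_le hR
      exact ih _ (by omega) rfl hR hg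
    obtain ⟨Q, hQ, hQn⟩ := exists_fullyNormalized F (hPT.trans hT.1)
    have hQT : Q ≤ T := by
      obtain ⟨v, hv, rfl⟩ := isConj_iff.1 hQ
      exact fimg_le fun x hx => StronglyClosed.apply_mem hT hv hPT hx
    have hcardQ := isConj_card hQ
    have hQS := hQT.trans hT.1
    have onto : ∀ R : Subgroup Ω, R ≤ T → F.IsConj P R →
        ∃ α g, IsMap F R g ∧ fimg g R = Q ∧ DecAt F T M α R g := by
      intro R hRT hR
      obtain ⟨g, hg, hgR, -⟩ := exists_map_to_fullyNormalized d.pG d.sat hQn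
        (isConj_trans (isConj_symm hR) hQ)
      have hRN : R ≤ normalizerIn T R := le_normalizerIn hRT
      have hNS : normalizerIn T R ≤ normalizerIn S R := fun x hx => ⟨hT.1 hx.1, hx.2⟩
      have hRlt : R < T := lt_of_le_of_ne hRT fun h => by
        have := isConj_card hR
        rw [h] at this
        exact (card_lt_of_lt hlt).ne this.symm
      haveI : Finite ↥(normalizerIn T R) := finite_of_le (S := T) (show normalizerIn T R ≤ T from inf_le_left)
      obtain ⟨α, hα⟩ := big (normalizerIn T R) inf_le_left ((isConj_card hR).symm.trans_lt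
        (card_lt_of_lt (lt_normalizerIn (d.pG.to_le hT.1) hRlt))) g (hg.res hNS)
      exact ⟨α, g, hg.res (hRN.trans hNS), hgR, hα.res hRN⟩
    have hfT : fimg f P ≤ T := fimg_le fun x hx => StronglyClosed.apply_mem hT hf hPT hx
    obtain ⟨α₁, g₁, hg₁, hg₁R, hd₁⟩ := onto P hPT (isConj_refl F (hPT.trans hT.1))
    obtain ⟨α₂, g₂, hg₂, hg₂R, hd₂⟩ := onto _ hfT hf.isConj
    obtain ⟨g₁', hg₁', hg11, hg12, -⟩ := hg₁.exists_inv
    rw [hg₁R] at hg₁' hg12
    have ha : IsMap F Q (fun y => g₂ (f (g₁' y))) :=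
      (hg₁'.comp hf fun y hy => (hg12 y hy).1).comp hg₂ fun y hy =>
        apply_mem_fimg f (hg12 y hy).1
    have haQ : fimg (fun y => g₂ (f (g₁' y))) Q = Q := by
      haveI := finite_of_le hQS
      refine Subgroup.eq_of_le_of_card_ge (fimg_le fun y hy => ?_) ha.card_fimg.ge
      exact hg₂R.le (apply_mem_fimg g₂ (apply_mem_fimg f (hg12 y hy).1))
    suffices h : ∃ α, DecAt F T M α Q (fun y => g₂ (f (g₁' y))) by
      obtain ⟨α, hα⟩ := h
      obtain ⟨g₂', -, hg21, -, -⟩ := hg₂.exists_inv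
      have hd₂' := hd₂.inv d hg21
      rw [hg₂R] at hd₂'
      have h12 := hd₁.comp d hα fun x hx => hg₁R ▸ apply_mem_fimg g₁ hx
      have h123 := h12.comp d hd₂' fun x hx => by
        rw [← hg₂R]
        show g₂ (f (g₁' (g₁ x))) ∈ _
        rw [hg11 x hx]
        exact apply_mem_fimg g₂ (apply_mem_fimg f hx)
      exact ⟨_, h123.congr fun x hx => by
        show f x = g₂' (g₂ (f (g₁' (g₁ x))))
        rw [hg11 x hx, hg21 _ (apply_mem_fimg f hx)]⟩
    obtain ⟨a, haA, hae⟩ := ha.exists_aut haQ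
    suffices h : ∃ α, DecAt F T M α Q (autFun a) by
      obtain ⟨α, hα⟩ := h
      exact ⟨α, hα.congr fun y hy => (hae y hy).symm⟩
    by_cases hc : TCen F T Q
    · obtain ⟨m, hm, g, hg, hgQ, -, hge⟩ := exists_split d hc hQn haA
      have hQlt : Q < T := lt_of_le_of_ne hQT fun h => by
        rw [h] at hcardQ
        exact (card_lt_of_lt hlt).ne hcardQ.symm
      haveI : Finite ↥(normalizerIn T Q) := finite_of_le (S := T) (show normalizerIn T Q ≤ T from inf_le_left)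
      obtain ⟨α, hα⟩ := big (normalizerIn T Q) inf_le_left (hcardQ.symm.trans_lt
        (card_lt_of_lt (lt_normalizerIn (d.pG.to_le hT.1) hQlt))) g hg
      exact ⟨_, ((hα.res (le_normalizerIn hQT)).comp d
        (DecAt.of_gen (.aut hc hm le_rfl fun _ _ => rfl))
        fun x hx => hgQ ▸ apply_mem_fimg g hx).congr fun x hx => hge x hx⟩
    · obtain ⟨Q', hQ', hne⟩ : ∃ Q', F.IsConj Q Q' ∧ ¬ centralizerIn T Q' ≤ Q' := by
        simp only [TCen, hQT, true_and, not_forall] at hc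
        obtain ⟨Q', h1, h2⟩ := hc
        exact ⟨Q', h1, h2⟩
      obtain ⟨c, hc', hcQ'⟩ := SetLike.not_le_iff_exists.1 hne
      have hCN : centralizerIn T Q ≤ Subgroup.normalizer (Q : Set Ω) := fun y hy =>
        (centralizerIn_le_normalizerIn Q (show y ∈ centralizerIn S Q from ⟨hT.1 hy.1, hy.2⟩)).2
      obtain ⟨h, hh, hhQ, -⟩ := exists_map_to_fullyNormalized d.pG d.sat hQn (isConj_symm hQ')
      have hQ'S := isConj_le_right hQ'
      have hcS : c ∈ centralizerIn S Q' := ⟨hT.1 hc'.1, hc'.2⟩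
      have hcN := centralizerIn_le_normalizerIn Q' hcS
      have hle : normalizerIn T Q' ≤ normalizerIn S Q' := fun x hx => ⟨hT.1 hx.1, hx.2⟩
      have hc0 : h c ∈ centralizerIn T Q :=
        ⟨StronglyClosed.apply_mem hT (hh.res hle) inf_le_left ⟨hc'.1, hcN.2⟩,
          (hhQ ▸ hh.map_centralizerIn (le_normalizerIn hQ'S) hcN hc'.2 :
            h c ∈ centralizerIn S Q).2⟩
      have hc0Q : h c ∉ Q := fun hq => hcQ' (by
        rw [← hhQ] at hq
        obtain ⟨x, hx, hxe⟩ := (hh.res (le_normalizerIn hQ'S)).mem_fimg_iff.1 hq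
        exact hh.injOn (le_normalizerIn hQ'S hx) hcN hxe ▸ hx)
      obtain ⟨g, hg, hge⟩ := receptive_extend (receptive_of_fullyNormalized d.pG d.sat hQn)
        ((mem_autGroup hQS).1 haA) (fimg_autFun a) (N := Q ⊔ centralizerIn T Q)
        (fun u hu => by
          have hu' : u ∈ normalizerIn S Q := sup_le (le_normalizerIn hQS)
            (fun y hy => ⟨hT.1 (Subgroup.mem_inf.1 hy).1, hCN hy⟩) hu
          refine ⟨hu', ?_⟩
          obtain ⟨q, hq, y, hy, rfl⟩ := (mem_sup_normalized hCN).1 hu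
          refine ⟨autFun a q, hQS (autFun_mem a hq), fun x hx => ?_⟩
          rw [show q * y * x * (q * y)⁻¹ = q * (y * x * y⁻¹) * q⁻¹ by group,
            show y * x * y⁻¹ = x by rw [← hy.2 x hx, mul_inv_cancel_right]]
          exact ((mem_autGroup hQS).1 haA).map_conj hq hx) le_sup_left
      haveI : Finite ↥(Q ⊔ centralizerIn T Q) :=
        finite_of_le (S := T) (show Q ⊔ centralizerIn T Q ≤ T from sup_le hQT inf_le_left)
      obtain ⟨α, hα⟩ := big (Q ⊔ centralizerIn T Q) (sup_le hQT inf_le_left) (hcardQ.symm.trans_lt (card_lt_of_lt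
        (lt_of_le_of_ne le_sup_left fun he => hc0Q (he.symm ▸ Subgroup.mem_sup_right hc0)))) g hg
      exact ⟨α, (hα.res le_sup_left).congr fun x hx => (hge x hx).symm⟩

/-- The generated system is invariant. -/
theorem sys_invariant : (sys d).IsInvariantIn F := by
  refine ⟨sys_subsystem d, d.closed, fun P hPT φ hφ α hα => ?_, fun P hP φ hφ => ?_⟩
  · have heq : (P.subgroupOf T).map (T.subtype.comp α.toMonoidHom) = fimg (autFun α) P := by
      ext y
      rw [(((mem_autGroup d.closed.1).1 hα).res hPT).mem_fimg_iff, Subgroup.mem_map]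
      constructor
      · rintro ⟨t, ht, rfl⟩
        exact ⟨t, ht, autFun_coe α t⟩
      · rintro ⟨x, hx, rfl⟩
        exact ⟨⟨x, hPT hx⟩, hx, (autFun_coe α ⟨x, hPT hx⟩).symm⟩
    have ht := Gen.twist d hα (P := P) hφ
    rw [← heq] at ht
    obtain ⟨χ, hχ, hχe⟩ := (isMap_sys d).2 ht
    refine ⟨χ, hχ, fun x hφx hαx => ?_⟩
    rw [hχe]
    show autFun α (toFun φ (autFun α⁻¹ ((α ⟨x, hPT x.2⟩ : T) : Ω))) = _
    rw [← autFun_coe α ⟨x, hPT x.2⟩, autFun_inv_apply α (hPT x.2), toFun_coe]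
    exact autFun_coe α ⟨φ x, hφx⟩
  · obtain ⟨α, hα, e, he, hfe⟩ := exists_decAt d hP (isMap_toFun hφ)
    obtain ⟨φ₀, hφ₀, hφ₀e⟩ := (isMap_sys d).2 he
    refine ⟨α, hα, φ₀, hφ₀, fun x hx => ?_⟩
    have h1 := hfe x x.2
    rw [toFun_coe] at h1
    rw [h1, ← hφ₀e x]
    exact autFun_coe α ⟨φ₀ x, hx⟩

end Cfsg.Agent.Fus.InvMap
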