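import Cfsg.Agent.Lib.Fus.SolvableSystem
import Cfsg.Agent.Lib.Fus.InvMapSystem
import Cfsg.Agent.Lib.Fus.FactorExtend

/-!
For commuting strongly closed `T₁`, `T₂`, every map on a subgroup `R` of `T₁T₂` extends to the
product of the two projections of `R`.
-/

set_option autoImplicit false
set_option linter.style.haveILetI false
set_option linter.unusedSectionVars false

open scoped Classical

universe u

namespace Cfsg.Agent.Fus.Comm

open Subgroup FusionSystem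

variable {Ω : Type u} [Group Ω] {S T₁ T₂ : Subgroup Ω} {F : FusionSystem S} {p : ℕ}

/-- Two commuting strongly closed subgroups. -/
structure Pair (F : FusionSystem S) (p : ℕ) (T₁ T₂ : Subgroup Ω) : Prop where
  pG : IsPGroup p S
  sat : F.IsSaturated p
  sc₁ : F.StronglyClosed T₁
  sc₂ : F.StronglyClosed T₂
  comm : ∀ a ∈ T₁, ∀ b ∈ T₂, a * b = b * a

theorem Pair.symm (d : Pair F p T₁ T₂) : Pair F p T₂ T₁ :=
  ⟨d.pG, d.sat, d.sc₂, d.sc₁, fun a ha b hb => (d.comm b hb a ha).symm⟩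

/-- The product of the two projections of `R`. -/
def hat (T₁ T₂ R : Subgroup Ω) : Subgroup Ω := (R ⊔ T₂) ⊓ T₁ ⊔ (R ⊔ T₁) ⊓ T₂

theorem hat_mono {R R' : Subgroup Ω} (h : R ≤ R') : hat T₁ T₂ R ≤ hat T₁ T₂ R' :=
  sup_le_sup (inf_le_inf_right _ (sup_le_sup_right h _)) (inf_le_inf_right _ (sup_le_sup_right h _))

theorem hat_le (R : Subgroup Ω) : hat T₁ T₂ R ≤ T₁ ⊔ T₂ :=
  sup_le_sup inf_le_right inf_le_right

theorem comm_normalizer (d : Pair F p T₁ T₂) : T₁ ≤ Subgroup.normalizer (T₂ : Set Ω) :=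
  d.sc₁.1.trans (le_normalizer_of_stronglyClosed d.sc₂)

/-- An element of `R ≤ T₁T₂` is the product of elements of its projections. -/
theorem decomp (d : Pair F p T₁ T₂) {R : Subgroup Ω} (hR : R ≤ T₁ ⊔ T₂) {x : Ω} (hx : x ∈ R) :
    ∃ a ∈ (R ⊔ T₂) ⊓ T₁, ∃ b ∈ (R ⊔ T₁) ⊓ T₂, a * b = x := by
  obtain ⟨a, ha, b, hb, rfl⟩ := mem_sup_dest (comm_normalizer d) (hR hx)
  refine ⟨a, ⟨?_, ha⟩, b, ⟨?_, hb⟩, rfl⟩
  · have h := mul_mem (Subgroup.mem_sup_left (T := T₂) hx) (Subgroup.mem_sup_right (inv_mem hb))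
    rwa [mul_inv_cancel_right] at h
  · have h := mul_mem (Subgroup.mem_sup_right (S := R) (inv_mem ha)) (Subgroup.mem_sup_left hx)
    rwa [inv_mul_cancel_left] at h

theorem le_hat (d : Pair F p T₁ T₂) {R : Subgroup Ω} (hR : R ≤ T₁ ⊔ T₂) : R ≤ hat T₁ T₂ R :=
  fun x hx => by
    obtain ⟨a, ha, b, hb, rfl⟩ := decomp d hR hx
    exact mul_mem (Subgroup.mem_sup_left ha) (Subgroup.mem_sup_right hb)

theorem hat_eq (d : Pair F p T₁ T₂) {Q : Subgroup Ω} (hQ : Q ≤ T₁ ⊔ T₂) :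
    hat T₁ T₂ Q = Q ⊔ (Q ⊔ T₁) ⊓ T₂ := by
  refine le_antisymm (sup_le (fun a ha => ?_) le_sup_right)
    (sup_le (le_hat d hQ) le_sup_right)
  obtain ⟨q, hq, b, hb, rfl⟩ := mem_sup_dest
    (((hQ.trans (sup_le d.sc₁.1 d.sc₂.1))).trans (le_normalizer_of_stronglyClosed d.sc₂)) ha.1
  refine mul_mem (Subgroup.mem_sup_left hq) (Subgroup.mem_sup_right ⟨?_, hb⟩)
  have h := mul_mem (Subgroup.mem_sup_left (T := T₁) (inv_mem hq)) (Subgroup.mem_sup_right ha.2)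
  rwa [inv_mul_cancel_left] at h

/-- Automorphisms trivial modulo `A` fixing the elements in `B`. -/
def Gam (A B Q : Subgroup Ω) : Subgroup (MulAut Q) where
  carrier := {γ | (∀ y : Q, (y : Ω)⁻¹ * (γ y : Q) ∈ A) ∧ ∀ y : Q, (y : Ω) ∈ B → γ y = y}
  one_mem' := ⟨fun y => by simp, fun _ _ => rfl⟩
  mul_mem' := fun {γ δ} hγ hδ => ⟨fun y => by
      have h := A.mul_mem (hδ.1 y) (hγ.1 (δ y))
      rw [mul_assoc, mul_inv_cancel_left] at h
      exact h,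
    fun y hy => by rw [MulAut.mul_apply, hδ.2 y hy, hγ.2 y hy]⟩
  inv_mem' := fun {γ} hγ => ⟨fun y => by
      have h := A.inv_mem (hγ.1 (γ⁻¹ y))
      rw [MulAut.apply_inv_self, mul_inv_rev, inv_inv] at h
      exact h,
    fun y hy => by
      conv_lhs => rw [← hγ.2 y hy]
      rw [MulAut.inv_apply_self]⟩

theorem Gam.commute (d : Pair F p T₁ T₂) {Q : Subgroup Ω} {γ δ : MulAut Q}
    (hγ : γ ∈ Gam T₁ T₂ Q) (hδ : δ ∈ Gam T₂ T₁ Q) : γ * δ = δ * γ := by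
  refine MulEquiv.ext fun y => ?_
  obtain ⟨v, hv⟩ : ∃ v, v = y⁻¹ * γ y := ⟨_, rfl⟩
  obtain ⟨w, hw⟩ : ∃ w, w = y⁻¹ * δ y := ⟨_, rfl⟩
  have hvT : (v : Ω) ∈ T₁ := by rw [hv]; exact hγ.1 y
  have hwT : (w : Ω) ∈ T₂ := by rw [hw]; exact hδ.1 y
  have e : v * w = w * v := Subtype.ext (d.comm _ hvT _ hwT)
  show γ (δ y) = δ (γ y)
  rw [show δ y = y * w by rw [hw, mul_inv_cancel_left], show γ y = y * v by
    rw [hv, mul_inv_cancel_left], map_mul, map_mul, hγ.2 w hwT, hδ.2 v hvT,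
    show δ y = y * w by rw [hw, mul_inv_cancel_left], show γ y = y * v by
    rw [hv, mul_inv_cancel_left], mul_assoc, mul_assoc, e]

theorem Gam.conj_mem {A B Q : Subgroup Ω} (hA : F.StronglyClosed A) (hB : F.StronglyClosed B)
    (hQS : Q ≤ S) {h : MulAut Q} (hh : h ∈ F.autGroup Q) {γ : MulAut Q} (hγ : γ ∈ Gam A B Q) :
    h * γ * h⁻¹ ∈ Gam A B Q := by
  have key : ∀ {X : Subgroup Ω}, F.StronglyClosed X → ∀ (k : MulAut Q), k ∈ F.autGroup Q →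
      ∀ z : Q, (z : Ω) ∈ X → ((k z : Q) : Ω) ∈ X := fun {X} hX k hk z hz => by
    have hm := ((mem_autGroup hQS).1 hk).res (inf_le_left : Q ⊓ X ≤ Q)
    rw [← autFun_coe k z]
    exact StronglyClosed.apply_mem hX hm inf_le_right ⟨z.2, hz⟩
  refine ⟨fun y => ?_, fun y hy => ?_⟩
  · have h1 := key hA h hh ((h⁻¹ y)⁻¹ * γ (h⁻¹ y)) (hγ.1 (h⁻¹ y))
    rw [map_mul, map_inv, MulAut.apply_inv_self] at h1
    exact h1
  · show h (γ (h⁻¹ y)) = y
    rw [hγ.2 _ (key hB h⁻¹ (inv_mem hh) y hy), MulAut.apply_inv_self]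

variable [Finite S] [Fact p.Prime]

/-- An automorphism of a fully normalized subgroup extends to the part of the projection
normalizing it. -/
theorem aut_extend (d : Pair F p T₁ T₂) {Q : Subgroup Ω} (_hQ : Q ≤ T₁ ⊔ T₂)
    (hn : F.IsFullyNormalized Q) {β : MulAut Q} (hβ : β ∈ F.autGroup Q) :
    ∃ g, IsMap F (Q ⊔ (Q ⊔ T₁) ⊓ T₂ ⊓ Subgroup.normalizer (Q : Set Ω)) g ∧
      ∀ x ∈ Q, g x = autFun β x := by
  have hQS := hn.1
  haveI := finite_of_le hQS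
  let G := F.autGroup Q
  have hIS : autInducedBy Q Q ≤ autInducedBy S Q := autInducedBy_mono hQS Q
  have hIF : autInducedBy Q Q ≤ G := hIS.trans (autInducedBy_le_autGroup F hQS)
  have hIconj : ∀ {h : MulAut Q}, h ∈ G → ∀ {i : MulAut Q}, i ∈ autInducedBy Q Q →
      h * i * h⁻¹ ∈ autInducedBy Q Q := by
    intro h _ i hi
    obtain ⟨q, hq, hqe⟩ := mem_autInducedBy.1 hi
    refine mem_autInducedBy.2 ⟨(h ⟨q, hq⟩ : Q), (h ⟨q, hq⟩).2, fun x => ?_⟩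
    show ((h (i (h⁻¹ x)) : Q) : Ω) = _
    rw [show i (h⁻¹ x) = ⟨q, hq⟩ * h⁻¹ x * ⟨q, hq⟩⁻¹ from Subtype.ext (hqe _), map_mul, map_mul,
      map_inv, MulAut.apply_inv_self]
    rfl
  have hnorm : Gam T₁ T₂ Q ⊓ G ≤
      Subgroup.normalizer ((autInducedBy Q Q : Subgroup (MulAut Q)) : Set (MulAut Q)) := fun k hk =>
    mem_normalizer_of_forall (fun i hi => hIconj hk.2 hi) fun i hi => by
      simpa using hIconj (inv_mem hk.2) hi
  let W : Subgroup (MulAut Q) := Gam T₂ T₁ Q ⊓ (autInducedBy Q Q ⊔ Gam T₁ T₂ Q ⊓ G)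
  let A : Subgroup G := W.subgroupOf G
  haveI hAn : A.Normal := ⟨fun a ha b => by
    rw [Subgroup.mem_subgroupOf] at ha ⊢
    refine ⟨Gam.conj_mem d.sc₂ d.sc₁ hQS b.2 ha.1, ?_⟩
    obtain ⟨i, hi, k, hk, e⟩ := (InvMap.mem_sup_normalized hnorm).1 ha.2
    show (b : MulAut Q) * (a : MulAut Q) * (b : MulAut Q)⁻¹ ∈ _
    rw [← e, show (b : MulAut Q) * (i * k) * (b : MulAut Q)⁻¹ =
      ((b : MulAut Q) * i * (b : MulAut Q)⁻¹) * ((b : MulAut Q) * k * (b : MulAut Q)⁻¹) by group]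
    exact Subgroup.mul_mem_sup (hIconj b.2 hi)
      ⟨Gam.conj_mem d.sc₁ d.sc₂ hQS b.2 hk.1, mul_mem (mul_mem b.2 hk.2) (Subgroup.inv_mem _ b.2)⟩⟩
  obtain ⟨-, P₀, hP₀⟩ := fullyAutomized_of_fullyNormalized d.pG d.sat hn
  have hR := isSylowOf_inf_normal P₀ A
  -- conjugates of the conjugations from the projection are conjugations
  have key : ∀ b ∈ (Q ⊔ T₁) ⊓ T₂ ⊓ Subgroup.normalizer (Q : Set Ω), ∃ k ∈ S,
      ∀ x ∈ Q, autFun β (b * x * b⁻¹) = k * autFun β x * k⁻¹ := by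
    rintro b ⟨⟨hbQ, hb2⟩, hbn⟩
    have hbS := d.sc₂.1 hb2
    obtain ⟨q, hq, a, ha, rfl⟩ := mem_sup_dest
      (hQS.trans (le_normalizer_of_stronglyClosed d.sc₁)) hbQ
    have han : a ∈ Subgroup.normalizer (Q : Set Ω) := by
      have := mul_mem (inv_mem (Subgroup.le_normalizer hq)) hbn
      rwa [inv_mul_cancel_left] at this
    let cq : MulAut Q := Q.normalizerMonoidHom ⟨q, Subgroup.le_normalizer hq⟩
    let ca : MulAut Q := Q.normalizerMonoidHom ⟨a, han⟩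
    let cb : MulAut Q := Q.normalizerMonoidHom ⟨q * a, hbn⟩
    have hgam : ∀ {X Y : Subgroup Ω}, F.StronglyClosed X → (∀ u ∈ Y, ∀ v ∈ X, u * v = v * u) →
        ∀ {c : Ω} (hc : c ∈ Subgroup.normalizer (Q : Set Ω)), c ∈ X →
          Q.normalizerMonoidHom ⟨c, hc⟩ ∈ Gam X Y Q := by
      intro X Y hX hXY c hc hcX
      refine ⟨fun y => ?_, fun y hy => Subtype.ext ?_⟩
      · show (y : Ω)⁻¹ * (c * y * c⁻¹) ∈ X
        rw [show (y : Ω)⁻¹ * (c * y * c⁻¹) = ((y : Ω)⁻¹ * c * ((y : Ω)⁻¹)⁻¹) * c⁻¹ by group]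
        exact X.mul_mem (StronglyClosed.conj_mem' hX (S.inv_mem (hQS y.2)) hcX) (X.inv_mem hcX)
      · show c * y * c⁻¹ = y
        rw [← hXY _ hy c hcX, mul_inv_cancel_right]
    have hcaF : ca ∈ G := autInducedBy_le_autGroup F hQS
      (mem_autInducedBy.2 ⟨a, d.sc₁.1 ha, fun x => rfl⟩)
    have hcbS : cb ∈ autInducedBy S Q := mem_autInducedBy.2 ⟨q * a, hbS, fun x => rfl⟩
    have hcbW : cb ∈ W := by
      refine ⟨hgam d.sc₂ d.comm hbn hb2, ?_⟩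
      rw [show cb = cq * ca from map_mul Q.normalizerMonoidHom ⟨q, Subgroup.le_normalizer hq⟩
        ⟨a, han⟩]
      exact Subgroup.mul_mem_sup (mem_autInducedBy.2 ⟨q, hq, fun x => rfl⟩)
        ⟨hgam d.sc₁ d.symm.comm han ha, hcaF⟩
    let c : G := ⟨cb, autInducedBy_le_autGroup F hQS hcbS⟩
    let β' : G := ⟨β, hβ⟩
    have hcR : c ∈ (P₀ : Subgroup G) ⊓ A := ⟨hP₀ ▸ (hcbS : c ∈ (autInducedBy S Q).subgroupOf G),
      hcbW⟩
    obtain ⟨u, hu, hule⟩ := hR.exists_conj_le (hR.isPGroup.map (MulAut.conj β').toMonoidHom)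
      (Subgroup.map_le_iff_le_comap.2 fun x hx => hAn.conj_mem x hx.2 β')
    set g : G := β' * c * β'⁻¹ with hg
    have h1 : u * g * u⁻¹ ∈ (P₀ : Subgroup G) := (hule ⟨g, ⟨c, hcR, rfl⟩, rfl⟩).1
    have hgA : g ∈ A := hAn.conj_mem c hcR.2 β'
    have hmul : ∀ {u w : MulAut Q}, u ∈ W → w ∈ W → u ∈ G →
        u * w⁻¹ * u⁻¹ * w ∈ autInducedBy Q Q := by
      intro u w hu hw huG
      obtain ⟨i, hi, k, hk, rfl⟩ := (InvMap.mem_sup_normalized hnorm).1 hw.2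
      rw [show u * (i * k)⁻¹ * u⁻¹ * (i * k) = (u * k⁻¹) * i⁻¹ * u⁻¹ * i * k by group,
        ← Gam.commute d (inv_mem hk.1) hu.1,
        show k⁻¹ * u * i⁻¹ * u⁻¹ * i * k = k⁻¹ * (u * i⁻¹ * u⁻¹ * i) * (k⁻¹)⁻¹ by group]
      exact hIconj (inv_mem hk.2) (mul_mem (hIconj huG (inv_mem hi)) hi)
    have h2 : (g : MulAut Q) ∈ autInducedBy S Q := by
      rw [hP₀, Subgroup.mem_subgroupOf] at h1
      have h3 := hIS (hmul (Subgroup.mem_subgroupOf.1 hu) (Subgroup.mem_subgroupOf.1 hgA) u.2)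
      have h4 := mul_mem h1 h3
      simp only [Subgroup.coe_mul, Subgroup.coe_inv] at h4
      convert h4 using 1
      group
    obtain ⟨k, hk, hke⟩ := mem_autInducedBy.1 h2
    refine ⟨k, hk, fun x hx => ?_⟩
    have e := hke (β ⟨x, hx⟩)
    simp only [hg, Subgroup.coe_mul, Subgroup.coe_inv, MulAut.mul_apply, β',
      MulAut.inv_apply_self] at e
    rw [show autFun β x = ((β ⟨x, hx⟩ : Q) : Ω) from autFun_coe β ⟨x, hx⟩,
      show autFun β (q * a * x * (q * a)⁻¹) = ((β (cb ⟨x, hx⟩) : Q) : Ω) from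
        autFun_coe β (cb ⟨x, hx⟩)]
    exact e
  have hm := (mem_autGroup hQS).1 hβ
  refine receptive_extend (receptive_of_fullyNormalized d.pG d.sat hn) hm (fimg_autFun β)
    (fun y hy => ?_) le_sup_left
  rw [sup_comm] at hy
  obtain ⟨b, hb, q, hq, rfl⟩ := mem_sup_dest inf_le_right hy
  obtain ⟨k, hk, hke⟩ := key b hb
  refine ⟨⟨mul_mem (d.sc₂.1 hb.1.2) (hQS hq),
    mul_mem hb.2 (Subgroup.le_normalizer hq)⟩, k * autFun β q,
    S.mul_mem hk (hm.apply_mem hq), fun x hx => ?_⟩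
  rw [show b * q * x * (b * q)⁻¹ = b * (q * x * q⁻¹) * b⁻¹ by group,
    hke _ (mul_mem (mul_mem hq hx) (inv_mem hq)), hm.map_conj hq hx]
  group

/-- The map extends to the product of the projections. -/
def Ext (F : FusionSystem S) (T₁ T₂ R : Subgroup Ω) (u : Ω → Ω) : Prop :=
  ∃ g, IsMap F (hat T₁ T₂ R) g ∧ ∀ x ∈ R, g x = u x

theorem Ext.res {R R' : Subgroup Ω} {u : Ω → Ω} (h : Ext F T₁ T₂ R' u) (hle : R ≤ R') :
    Ext F T₁ T₂ R u :=
  let ⟨g, hg, hge⟩ := h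
  ⟨g, hg.res (hat_mono hle), fun x hx => hge x (hle hx)⟩

/-- A map of the product of the projections carries it into that of the image. -/
theorem image_hat (d : Pair F p T₁ T₂) {R : Subgroup Ω} (hR : R ≤ T₁ ⊔ T₂) {g : Ω → Ω}
    (hg : IsMap F (hat T₁ T₂ R) g) {x : Ω} (hx : x ∈ hat T₁ T₂ R) :
    g x ∈ hat T₁ T₂ (fimg g R) := by
  have hRh := le_hat d hR
  have side : ∀ {X Y : Subgroup Ω}, Pair F p X Y → R ≤ hat T₁ T₂ R → R ≤ X ⊔ Y →
      (R ⊔ Y) ⊓ X ≤ hat T₁ T₂ R → (R ⊔ X) ⊓ Y ≤ hat T₁ T₂ R →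
      ∀ a ∈ (R ⊔ Y) ⊓ X, g a ∈ (fimg g R ⊔ Y) ⊓ X := by
    intro X Y e hRh hRXY hXh hYh a ha
    obtain ⟨r, hr, b, hb, rfl⟩ := mem_sup_dest
      ((hRXY.trans (sup_le e.sc₁.1 e.sc₂.1)).trans (le_normalizer_of_stronglyClosed e.sc₂)) ha.1
    have hb' : b ∈ (R ⊔ X) ⊓ Y := ⟨by
      have h := mul_mem (Subgroup.mem_sup_left (T := X) (inv_mem hr)) (Subgroup.mem_sup_right ha.2)
      rwa [inv_mul_cancel_left] at h, hb⟩
    refine ⟨?_, StronglyClosed.apply_mem e.sc₁ (hg.res hXh |>.res (inf_le_left : ((R ⊔ Y) ⊓ X) ⊓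
      X ≤ _)) inf_le_right ⟨ha, ha.2⟩⟩
    rw [hg.map_mul (hRh hr) (hYh hb')]
    exact mul_mem (Subgroup.mem_sup_left (apply_mem_fimg g hr)) (Subgroup.mem_sup_right
      (StronglyClosed.apply_mem e.sc₂ (hg.res hYh |>.res (inf_le_left : ((R ⊔ X) ⊓ Y) ⊓ Y ≤ _))
        inf_le_right ⟨hb', hb⟩))
  have hle : fimg g (hat T₁ T₂ R) ≤ hat T₁ T₂ (fimg g R) := by
    rw [show fimg g (hat T₁ T₂ R) = fimg g ((R ⊔ T₂) ⊓ T₁) ⊔ fimg g ((R ⊔ T₁) ⊓ T₂) from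
      hg.fimg_sup]
    exact sup_le_sup (fimg_le (side d hRh hR le_sup_left le_sup_right))
      (fimg_le (side d.symm hRh (sup_comm T₁ T₂ ▸ hR) le_sup_right le_sup_left))
  exact hle (apply_mem_fimg g hx)

theorem Ext.comp (d : Pair F p T₁ T₂) {R R' : Subgroup Ω} (hR : R ≤ T₁ ⊔ T₂) {u v : Ω → Ω}
    (hu : Ext F T₁ T₂ R u) (hv : Ext F T₁ T₂ R' v) (h : ∀ x ∈ R, u x ∈ R') :
    Ext F T₁ T₂ R (fun x => v (u x)) := by
  obtain ⟨g, hg, hge⟩ := hu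
  obtain ⟨k, hk, hke⟩ := hv
  refine ⟨_, hg.comp hk fun x hx => hat_mono (fimg_le fun y hy => hge y hy ▸ h y hy)
    (image_hat d hR hg hx), fun x hx => ?_⟩
  show k (g x) = v (u x)
  rw [hge x hx, hke _ (h x hx)]

/-- Every map on a subgroup of `T₁T₂` extends to the product of its projections. -/
theorem extend (d : Pair F p T₁ T₂) :
    ∀ {R : Subgroup Ω} {u : Ω → Ω}, R ≤ T₁ ⊔ T₂ → IsMap F R u → Ext F T₁ T₂ R u := by
  have hT := stronglyClosed_sup d.pG d.sat d.sc₁ d.sc₂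
  haveI : Finite ↥(T₁ ⊔ T₂) := finite_of_le hT.1
  intro R
  induction hn : Nat.card ↥(T₁ ⊔ T₂) - Nat.card R using Nat.strong_induction_on generalizing R with
  | _ n ih =>
    intro u hRT hu
    rcases hRT.eq_or_lt with rfl | hlt
    · exact ⟨u, hu.res (hat_le _), fun x _ => rfl⟩
    have big : ∀ X : Subgroup Ω, X ≤ T₁ ⊔ T₂ → Nat.card R < Nat.card X → ∀ g, IsMap F X g →
        Ext F T₁ T₂ X g := by
      intro X hX hcard g hg
      have := Subgroup.card_le_of_le hX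
      exact ih _ (by omega) rfl hX hg
    obtain ⟨Q, hQ, hQn⟩ := exists_fullyNormalized F (hRT.trans hT.1)
    have onto : ∀ X : Subgroup Ω, X ≤ T₁ ⊔ T₂ → F.IsConj R X →
        ∃ g j, fimg g X = Q ∧ Ext F T₁ T₂ X g ∧ Ext F T₁ T₂ Q j ∧ IsMap F X g ∧
          IsMap F Q j ∧ (∀ x ∈ X, j (g x) = x) ∧ ∀ y ∈ Q, j y ∈ X := by
      intro X hXT hX
      obtain ⟨g, hg, hgQ, -⟩ := exists_map_to_fullyNormalized d.pG d.sat hQn
        (isConj_trans (isConj_symm hX) hQ)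
      have hXN : X ≤ normalizerIn (T₁ ⊔ T₂) X := le_normalizerIn hXT
      have hle : normalizerIn (T₁ ⊔ T₂) X ≤ normalizerIn S X := inf_le_inf_right _ hT.1
      haveI : Finite ↥(normalizerIn (T₁ ⊔ T₂) X) := finite_of_le (S := T₁ ⊔ T₂) inf_le_left
      have hXlt : X < T₁ ⊔ T₂ := lt_of_le_of_ne hXT fun e => by
        have h1 := isConj_card hX
        have h2 := card_lt_of_lt hlt
        rw [e] at h1
        omega
      have hcard : Nat.card R < Nat.card (normalizerIn (T₁ ⊔ T₂) X) := by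
        rw [← isConj_card hX]
        exact card_lt_of_lt (lt_normalizerIn (S := T₁ ⊔ T₂) (d.pG.to_le hT.1) hXlt)
      have hgN := hg.res hle
      obtain ⟨j, hj, hj1, hj2, -⟩ := hgN.exists_inv
      have hQle : Q ≤ fimg g (normalizerIn (T₁ ⊔ T₂) X) := hgQ ▸ fimg_mono g hXN
      refine ⟨g, j, hgQ, (big _ inf_le_left hcard g hgN).res hXN, (big _ (fimg_le fun x hx =>
        StronglyClosed.apply_mem hT hgN inf_le_left hx) (hcard.trans_eq hgN.card_fimg.symm) j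
          hj).res hQle, hgN.res hXN, hj.res hQle, fun x hx => hj1 x (hXN hx), fun y hy => ?_⟩
      obtain ⟨x, hx, rfl⟩ := (hgN.res hXN).mem_fimg_iff.1 (hgQ.ge hy)
      rw [hj1 x (hXN hx)]
      exact hx
    have hfT : fimg u R ≤ T₁ ⊔ T₂ := fimg_le fun x hx => StronglyClosed.apply_mem hT hu hRT hx
    obtain ⟨g₁, j₁, hg₁Q, e₁, -, hg₁, hj₁, hj₁l, hj₁m⟩ := onto R hRT (isConj_refl F (hRT.trans hT.1))
    obtain ⟨g₂, j₂, hg₂Q, -, e₂, hg₂, -, hj₂l, -⟩ := onto _ hfT hu.isConj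
    have hQT : Q ≤ T₁ ⊔ T₂ := hg₁Q ▸ fimg_le fun x hx => StronglyClosed.apply_mem hT hg₁ hRT hx
    have autQ : ∀ β ∈ F.autGroup Q, Ext F T₁ T₂ Q (autFun β) := by
      intro β hβ
      rcases (le_hat d hQT).eq_or_lt with e | hlt'
      · exact ⟨_, e ▸ (mem_autGroup hQn.1).1 hβ, fun x _ => rfl⟩
      obtain ⟨g, hg, hge⟩ := aut_extend d hQT hQn hβ
      set N := Q ⊔ (Q ⊔ T₁) ⊓ T₂ ⊓ Subgroup.normalizer (Q : Set Ω)
      have hNT : N ≤ T₁ ⊔ T₂ := sup_le hQT fun b hb => Subgroup.mem_sup_right hb.1.2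
      haveI := finite_of_le (hNT.trans hT.1)
      haveI : Finite ↥(hat T₁ T₂ Q) := finite_of_le ((hat_le Q).trans hT.1)
      have hQN : Q < N := by
        refine lt_of_le_of_ne le_sup_left fun e => ?_
        obtain ⟨x, hx, hxQ⟩ := SetLike.exists_of_lt (lt_normalizerIn
          (S := hat T₁ T₂ Q) (d.pG.to_le ((hat_le Q).trans hT.1)) hlt')
        have hx1 := hx.1
        rw [hat_eq d hQT] at hx1
        have hQn2 : Q ≤ Subgroup.normalizer (((Q ⊔ T₁) ⊓ T₂ : Subgroup Ω) : Set Ω) := fun c hc => by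
          have hcQ : c ∈ Q ⊔ T₁ := Subgroup.mem_sup_left hc
          have hcS := hQn.1 hc
          exact mem_normalizer_of_forall
            (fun y hy => ⟨mul_mem (mul_mem hcQ hy.1) (Subgroup.inv_mem _ hcQ),
              StronglyClosed.conj_mem' d.sc₂ hcS hy.2⟩)
            fun y hy => ⟨mul_mem (mul_mem (Subgroup.inv_mem _ hcQ) hy.1) hcQ, by
              simpa using StronglyClosed.conj_mem' d.sc₂ (S.inv_mem hcS) hy.2⟩
        obtain ⟨q, hq, b, hb, rfl⟩ := mem_sup_dest hQn2 hx1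
        have hbn : b ∈ Subgroup.normalizer (Q : Set Ω) := by
          have := Subgroup.mul_mem _ (Subgroup.inv_mem _ (Subgroup.le_normalizer hq)) hx.2
          rwa [inv_mul_cancel_left] at this
        have hbN : b ∈ N := Subgroup.mem_sup_right ⟨hb, hbn⟩
        exact hxQ (mul_mem hq (e.ge hbN))
      exact ((big N hNT (isConj_card hQ ▸ card_lt_of_lt hQN) g hg).res le_sup_left).imp
        fun k hk => ⟨hk.1, fun x hx => (hk.2 x hx).trans (hge x hx)⟩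
    have hm₁ : ∀ x ∈ R, g₁ x ∈ Q := fun x hx => hg₁Q ▸ apply_mem_fimg g₁ hx
    have hmid : IsMap F Q (fun y => g₂ (u (j₁ y))) :=
      (hj₁.comp hu hj₁m).comp hg₂ fun y hy => apply_mem_fimg u (hj₁m y hy)
    haveI := finite_of_le hQn.1
    obtain ⟨β, hβ, hβe⟩ := hmid.exists_aut (Subgroup.eq_of_le_of_card_ge (fimg_le fun y hy =>
      hg₂Q ▸ apply_mem_fimg g₂ (apply_mem_fimg u (hj₁m y hy))) hmid.card_fimg.ge)
    obtain ⟨k, hk, hke⟩ := (e₁.comp d hRT (autQ β hβ) hm₁).comp d hRT e₂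
      fun x hx => autFun_mem β (hm₁ x hx)
    refine ⟨k, hk, fun x hx => ?_⟩
    rw [hke x hx]
    show j₂ (autFun β (g₁ x)) = u x
    rw [hβe _ (hm₁ x hx), hj₁l x hx, hj₂l _ (apply_mem_fimg u hx)]

end Cfsg.Agent.Fus.Comm
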