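import Mathlib
import Cfsg.Agent.Lib.Fus.InvMapSystem

/-!
The family at a subgroup and at a larger subgroup normalizing it, and the automorphisms of `T`
restricting to generated maps.
-/

set_option autoImplicit false
set_option linter.style.haveILetI false
set_option linter.unusedSectionVars false

open scoped Classical

universe u

namespace Cfsg.Agent.Fus.InvMap

open Subgroup FusionSystem

/-- An element is the product of a power of order prime to `p` and one of `p`-power order. -/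
theorem exists_primary_split {G : Type*} [Group G] [Finite G] (p : ℕ) [Fact p.Prime] (g : G) :
    ∃ a b : ℕ, (orderOf (g ^ a)).Coprime p ∧ (∃ k, (g ^ b) ^ p ^ k = 1) ∧ g = g ^ a * g ^ b := by
  have hp : p.Prime := Fact.out
  obtain ⟨e, n, hn, hord⟩ :=
    Nat.exists_eq_pow_mul_and_not_dvd (orderOf_pos g).ne' p hp.ne_one
  have hco : Nat.Coprime n (p ^ e) := (((hp.coprime_iff_not_dvd).2 hn).symm).pow_right e
  obtain ⟨a, ha1, ha2⟩ := Nat.chineseRemainder hco 1 0
  obtain ⟨b, hb1, hb2⟩ := Nat.chineseRemainder hco 0 1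
  refine ⟨a, b, ?_, ⟨e, ?_⟩, ?_⟩
  · refine Nat.Coprime.coprime_dvd_left ?_ ((hp.coprime_iff_not_dvd).2 hn).symm
    refine orderOf_dvd_of_pow_eq_one ?_
    obtain ⟨c, hc⟩ := Nat.modEq_zero_iff_dvd.1 ha2
    rw [← pow_mul, hc, show p ^ e * c * n = p ^ e * n * c by ring, pow_mul, ← hord,
      pow_orderOf_eq_one, one_pow]
  · obtain ⟨c, hc⟩ := Nat.modEq_zero_iff_dvd.1 hb1
    rw [← pow_mul, hc, show n * c * p ^ e = p ^ e * n * c by ring, pow_mul, ← hord,
      pow_orderOf_eq_one, one_pow]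
  · rw [← pow_add]
    conv_lhs => rw [← pow_one g]
    refine pow_eq_pow_iff_modEq.2 ?_
    rw [hord]
    exact ((Nat.modEq_and_modEq_iff_modEq_mul hco.symm).1
      ⟨by simpa using ha2.add hb2, by simpa using ha1.add hb1⟩).symm

/-- A subgroup of a `p`-subgroup `P` has a conjugate in `P` whose normalizer in `P` is a Sylow
subgroup of its normalizer, the normalizer in `P` of the first being carried along. -/
theorem exists_conj_normalizer_sylow {G : Type*} [Group G] [Finite G] {p : ℕ} [Fact p.Prime]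
    (P : Sylow p G) {Q : Subgroup G} (hQ : Q ≤ (P : Subgroup G)) :
    ∃ h : G, (∀ x ∈ Q, h * x * h⁻¹ ∈ (P : Subgroup G)) ∧
      (∀ x ∈ (P : Subgroup G) ⊓ Subgroup.normalizer (Q : Set G),
        h * x * h⁻¹ ∈ (P : Subgroup G)) ∧
      IsSylowOf p ((P : Subgroup G) ⊓ Subgroup.normalizer
        ((Q.map (MulAut.conj h).toMonoidHom : Subgroup G) : Set G))
        (Subgroup.normalizer ((Q.map (MulAut.conj h).toMonoidHom : Subgroup G) : Set G)) := by
  set N := Subgroup.normalizer (Q : Set G) with hN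
  obtain ⟨W, hW⟩ := ((P.2.to_le inf_le_left).comap_subtype (K := N) :
    IsPGroup p (((P : Subgroup G) ⊓ N).subgroupOf N)).exists_le_sylow
  have hWp : IsPGroup p ((W : Subgroup N).map N.subtype) := W.2.map _
  obtain ⟨W', hW'⟩ := hWp.exists_le_sylow
  obtain ⟨h, hh⟩ := MulAction.exists_smul_eq G W' P
  have key : ∀ x ∈ (W : Subgroup N).map N.subtype, h * x * h⁻¹ ∈ (P : Subgroup G) := fun x hx => by
    rw [← hh]
    exact ⟨x, hW' hx, rfl⟩
  have hPN : ∀ x ∈ (P : Subgroup G) ⊓ N, x ∈ (W : Subgroup N).map N.subtype := fun x hx =>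
    ⟨⟨x, hx.2⟩, hW (Subgroup.mem_subgroupOf.2 hx), rfl⟩
  refine ⟨h, fun x hx => key x (hPN x ⟨hQ hx, Subgroup.le_normalizer hx⟩),
    fun x hx => key x (hPN x hx), ?_⟩
  set Q' : Subgroup G := Q.map (MulAut.conj h).toMonoidHom
  have hNQ' : N.map (MulAut.conj h).toMonoidHom = Subgroup.normalizer (Q' : Set G) :=
    Subgroup.map_normalizer_eq_of_bijective Q (MulAut.conj h).bijective
  refine IsSylowOf.of_card_le inf_le_right (P.2.to_le inf_le_left) fun A hA hAp hle => ?_
  set B : Subgroup G := A.map (MulAut.conj h⁻¹).toMonoidHom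
  have hBN : B ≤ N := by
    rintro _ ⟨a, ha, rfl⟩
    obtain ⟨n, hn, rfl⟩ := (hNQ'.symm ▸ hA ha : a ∈ N.map (MulAut.conj h).toMonoidHom)
    simpa [mul_assoc] using hn
  have hW'' : (W : Subgroup N).map N.subtype ≤ B := by
    intro x hx
    refine ⟨h * x * h⁻¹, hle ⟨key x hx, ?_⟩, by simp [mul_assoc]⟩
    rw [← hNQ']
    obtain ⟨y, -, rfl⟩ := hx
    exact ⟨y, y.2, rfl⟩
  have h1 : (B.subgroupOf N) = W := W.is_maximal' ((hAp.map _).comap_subtype) fun y hy =>
    Subgroup.mem_subgroupOf.2 (hW'' ⟨y, hy, rfl⟩)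
  intro a ha
  have haB : h⁻¹ * a * h ∈ B := ⟨a, ha, by simp [mul_assoc]⟩
  refine ⟨?_, hA ha⟩
  have := key _ (show h⁻¹ * a * h ∈ (W : Subgroup N).map N.subtype from
    ⟨⟨_, hBN haB⟩, h1 ▸ (Subgroup.mem_subgroupOf.2 haB), rfl⟩)
  simp only [mul_assoc, mul_inv_cancel_left, mul_inv_cancel, mul_one] at this
  exact this

variable {Ω : Type u} [Group Ω] {S T : Subgroup Ω} {F : FusionSystem S} {p : ℕ}
  {M : (R : Subgroup Ω) → Subgroup (MulAut R)}

theorem autFun_congr {P Q : Subgroup Ω} {f : Ω → Ω} (e : P ≃* Q) (he : ∀ x : P, (e x : Ω) = f x)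
    (α : MulAut P) {x : Ω} (hx : x ∈ P) :
    autFun (MulAut.congr e α) (f x) = f (autFun α x) := by
  rw [← he ⟨x, hx⟩, autFun_coe, show autFun α x = ((α ⟨x, hx⟩ : P) : Ω) from autFun_coe α ⟨x, hx⟩,
    ← he]
  simp [MulAut.congr]

theorem autFun_pow_eqOn {R Q : Subgroup Ω} (hRQ : R ≤ Q) {α : MulAut Q} {β : MulAut R}
    (h : ∀ x ∈ R, autFun β x = autFun α x) :
    ∀ n : ℕ, ∀ x ∈ R, autFun (β ^ n) x = autFun (α ^ n) x
  | 0, x, hx => by rw [pow_zero, pow_zero, autFun_one hx, autFun_one (hRQ hx)]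
  | n + 1, x, hx => by
    rw [pow_succ', pow_succ', autFun_mul _ _ hx, autFun_mul _ _ (hRQ hx),
      h _ (autFun_mem _ hx), autFun_pow_eqOn hRQ h n x hx]

theorem mem_autInducedBy_of_mem {K R : Subgroup Ω} {g : Ω} (hg : g ∈ K)
    (hn : g ∈ Subgroup.normalizer (R : Set Ω)) :
    R.normalizerMonoidHom ⟨g, hn⟩ ∈ autInducedBy K R :=
  mem_autInducedBy.2 ⟨g, hg, fun _ => rfl⟩

/-- Subgroups between `R` and `N_T(R)` are determined by the automorphisms they induce on `R`. -/
theorem le_of_autInducedBy_le (hT : F.StronglyClosed T) {R X Y : Subgroup Ω} (hR : TCen F T R)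
    (hXT : X ≤ T) (hXN : X ≤ Subgroup.normalizer (R : Set Ω)) (hRY : R ≤ Y) (hYT : Y ≤ T)
    (h : autInducedBy X R ≤ autInducedBy Y R) : X ≤ Y := by
  intro x hx
  obtain ⟨y, hy, hye⟩ := mem_autInducedBy.1 (h (mem_autInducedBy_of_mem hx (hXN hx)))
  have h1 : y⁻¹ * x ∈ R := by
    refine hR.cent_le hT (mem_centralizerIn.2 ⟨T.mul_mem (T.inv_mem (hYT hy)) (hXT hx),
      fun r hr => ?_⟩)
    have h2 := hye ⟨r, hr⟩
    rw [normalizerMonoidHom_apply] at h2
    have h3 : x * r * x⁻¹ = y * r * y⁻¹ := h2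
    calc r * (y⁻¹ * x) = y⁻¹ * (y * r * y⁻¹) * x := by group
      _ = y⁻¹ * (x * r * x⁻¹) * x := by rw [h3]
      _ = y⁻¹ * x * r := by group
  rw [show x = y * (y⁻¹ * x) by group]
  exact Y.mul_mem hy (hRY h1)

/-- The automorphisms induced by an image. -/
theorem autInducedBy_fimg {R X : Subgroup Ω} (hRX : R ≤ X)
    (hXN : X ≤ Subgroup.normalizer (R : Set Ω)) {f : Ω → Ω}
    (hf : IsMap F X f) {a : MulAut R} (ha : ∀ x ∈ R, autFun a x = f x) :
    autInducedBy (fimg f X) R = (autInducedBy X R).map (MulAut.conj a).toMonoidHom := by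
  have key : ∀ u ∈ X, ∀ γ : MulAut R, (∀ z : R, ((γ z : R) : Ω) = u * z * u⁻¹) → ∀ z : R,
      ((a * γ * a⁻¹ : MulAut R) z : Ω) = f u * z * (f u)⁻¹ := by
    intro u hu γ hγ z
    set w := a⁻¹ z with hw
    have hz : (z : Ω) = f w := by
      rw [← ha w w.2, autFun_coe, hw, MulAut.apply_inv_self]
    rw [MulAut.mul_apply, MulAut.mul_apply, ← hw, hz, ← hf.map_conj hu (hRX w.2), ← hγ,
      ← ha _ (γ w).2, autFun_coe]
  ext α
  rw [Subgroup.mem_map, mem_autInducedBy]
  constructor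
  · rintro ⟨g, hg, hge⟩
    obtain ⟨u, hu, rfl⟩ := hf.mem_fimg_iff.1 hg
    refine ⟨_, mem_autInducedBy_of_mem hu (hXN hu), MulEquiv.ext fun z => Subtype.ext ?_⟩
    rw [hge z]
    exact key u hu _ (fun _ => rfl) z
  · rintro ⟨γ, hγ, rfl⟩
    obtain ⟨u, hu, hue⟩ := mem_autInducedBy.1 hγ
    exact ⟨f u, apply_mem_fimg f hu, key u hu γ hue⟩

variable [Finite S]

/-- The automorphisms of `T` restricting to generated maps on `Q`. -/
def Res (d : Maps F T p M) {Q : Subgroup Ω} (hQ : Q ≤ T) : Subgroup (MulAut T) where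
  carrier := {δ | δ ∈ F.autGroup T ∧ Gen F T M Q (autFun δ)}
  mul_mem' := fun {a b} ⟨ha, hga⟩ ⟨hb, hgb⟩ => ⟨mul_mem ha hb, by
    have h2 := hgb.twist d ha
    refine .comp hga h2 (fun x hx => apply_mem_fimg _ hx) fun x hx => ?_
    show autFun (a * b) x = autFun a (autFun b (autFun a⁻¹ (autFun a x)))
    rw [autFun_inv_apply a (hQ hx), autFun_mul _ _ (hQ hx)]⟩
  one_mem' := ⟨one_mem _, (Gen.conj d hQ T.one_mem).congr fun x hx => by
    rw [autFun_one (hQ hx)]; simp⟩
  inv_mem' := fun {a} ⟨ha, hga⟩ => ⟨inv_mem ha, by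
    have h1 := (hga.inv d (autFun a⁻¹) fun x hx => autFun_inv_apply a (hQ hx)).twist d (inv_mem ha)
    have hQ' : fimg (autFun a⁻¹) (fimg (autFun a) Q) = Q := by
      rw [← (((mem_autGroup d.closed.1).1 ha).res hQ).fimg_comp]
      exact (fimg_congr fun x hx => autFun_inv_apply a (hQ hx)).trans (fimg_id Q)
    rw [hQ'] at h1
    refine h1.congr fun y hy => ?_
    show autFun a⁻¹ y = autFun a⁻¹ (autFun a⁻¹ (autFun a⁻¹⁻¹ y))
    rw [inv_inv, autFun_inv_apply a (hQ hy)]⟩

theorem mem_Res {d : Maps F T p M} {Q : Subgroup Ω} {hQ : Q ≤ T} {δ : MulAut T} :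
    δ ∈ Res d hQ ↔ δ ∈ F.autGroup T ∧ Gen F T M Q (autFun δ) := Iff.rfl

variable (d : Maps F T p M)
include d

/-- The subgroup of `Aut_F(T)` the restrictions to `Q` are compared with. -/
abbrev KK (_d : Maps F T p M) (Q : Subgroup Ω) : Subgroup (MulAut T) :=
  M T ⊔ autInducedBy (centralizerIn S Q) T

theorem KK_le_Res {Q : Subgroup Ω} (hQ : Q ≤ T) : KK d Q ≤ Res d hQ := by
  refine sup_le (fun μ hμ => ⟨d.le (tCen_self d.closed) hμ,
    .aut (tCen_self d.closed) hμ hQ fun _ _ => rfl⟩) fun c hc => ?_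
  obtain ⟨s, hs, hse⟩ := mem_autInducedBy.1 hc
  refine ⟨autInducedBy_le_autGroup F d.closed.1 (autInducedBy_mono inf_le_left T hc),
    (Gen.conj d hQ T.one_mem).congr fun x hx => ?_⟩
  rw [show autFun c x = ((c ⟨x, hQ hx⟩ : T) : Ω) from autFun_coe c ⟨x, hQ hx⟩, hse]
  show s * x * s⁻¹ = 1 * x * 1⁻¹
  rw [← (mem_centralizerIn.1 hs).2 x hx, mul_inv_cancel_right]
  simp

/-- The restricting automorphisms of a conjugate. -/
theorem conj_mem_Res {Q : Subgroup Ω} {α δ : MulAut T} {f : Ω → Ω} (hf : DecAt F T M α Q f)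
    (hδ : δ ∈ Res d hf.source_le) :
    α * δ * α⁻¹ ∈ Res d (Q := fimg f Q) (fimg_le fun _ hx => hf.apply_mem hx) := by
  obtain ⟨hδA, hδg⟩ := hδ
  obtain ⟨hα, e, he, hfe⟩ := hf
  obtain ⟨g, -, hg1, hg2, -⟩ := (he.isMap d).exists_inv
  have hQT := he.source_le
  have h1 : Gen F T M (fimg e Q) (autFun δ) := by
    refine .comp ((Gen.inv d he g hg1)) (.comp hδg (he.twist d hδA)
      (fun x hx => apply_mem_fimg _ hx) (h := fun x => autFun δ (e x)) fun x hx => ?_)
      (fun y hy => (hg2 y hy).1) fun y hy => ?_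
    · show autFun δ (e x) = autFun δ (e (autFun δ⁻¹ (autFun δ x)))
      rw [autFun_inv_apply δ (hQT hx)]
    · show autFun δ y = autFun δ (e (g y))
      rw [(hg2 y hy).2]
  have h2 := h1.twist d hα
  rw [← (he.isMap d).fimg_comp, ← fimg_congr hfe] at h2
  refine ⟨mul_mem (mul_mem hα hδA) (inv_mem hα), h2.congr fun y hy => ?_⟩
  have hy' : y ∈ T := by
    obtain ⟨x, hx, rfl⟩ := (DecAt.isMap d ⟨hα, e, he, hfe⟩).mem_fimg_iff.1 hy
    exact hfe x hx ▸ autFun_mem α (he.apply_mem x hx)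
  show autFun (α * δ * α⁻¹) y = autFun α (autFun δ (autFun α⁻¹ y))
  rw [autFun_mul _ _ hy', autFun_mul _ _ (autFun_mem _ hy')]

variable [Fact p.Prime]

theorem conj_autInducedBy_top {s : Ω} (hs : s ∈ S) {μ : MulAut T} (hμ : μ ∈ M T)
    {c : MulAut T} (hc : ∀ x : T, ((c x : T) : Ω) = s * x * s⁻¹) : c * μ * c⁻¹ ∈ M T :=
  conj_mem d (tCen_self d.closed)
    (autInducedBy_le_autGroup F d.closed.1 (mem_autInducedBy.2 ⟨s, hs, hc⟩)) hμ

/-- The order of `KK R`. -/
theorem card_KK {R : Subgroup Ω} (hR : TCen F T R) :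
    Nat.card ↥(KK d R) * Nat.card ↥(centralizerIn T R) * Nat.card ↥(centralizerIn S T) =
      Nat.card ↥(M T) * Nat.card ↥(centralizerIn S R) * Nat.card ↥(centralizerIn T T) := by
  have hT := d.closed
  have hTn : ∀ K : Subgroup Ω, K ≤ S → K ≤ Subgroup.normalizer (T : Set Ω) := fun K hK g hg =>
    mem_normalizer_of_forall (fun x hx => StronglyClosed.conj_mem' hT (hK hg) hx) fun x hx => by
      simpa using StronglyClosed.conj_mem' hT (S.inv_mem (hK hg)) hx
  have hCT : centralizerIn T R ≤ centralizerIn S R := inf_le_inf_right _ hT.1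
  haveI : Finite T := finite_of_le hT.1
  haveI : Finite ↥(centralizerIn S R) :=
    finite_of_le (S := S) (show centralizerIn S R ≤ S from inf_le_left)
  haveI : Finite ↥(centralizerIn T R) :=
    finite_of_le (S := T) (show centralizerIn T R ≤ T from inf_le_left)
  have hRT := hR.1
  have hinf : autInducedBy (centralizerIn S R) T ⊓ M T = autInducedBy (centralizerIn T R) T := by
    refine le_antisymm (fun c hc => ?_) (le_inf (autInducedBy_mono hCT T)
      ((autInducedBy_mono inf_le_left T).trans (d.inn (tCen_self hT))))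
    obtain ⟨s, hs, hse⟩ := mem_autInducedBy.1 hc.1
    obtain ⟨t, ht, hte⟩ := mem_autInducedBy.1 (d.sylow (tCen_self hT)
      ⟨hT.1, fun Q hQ => by
        obtain ⟨f, hf, rfl⟩ := isConj_iff.1 hQ
        rw [fimg_top hT hf]⟩
      ⟨hc.2, autInducedBy_mono inf_le_left T hc.1⟩)
    refine mem_autInducedBy.2 ⟨t, mem_centralizerIn.2 ⟨ht, fun r hr => ?_⟩, hte⟩
    have h1 := (hse ⟨r, hRT hr⟩).symm.trans (hte ⟨r, hRT hr⟩)
    rw [show s * r * s⁻¹ = r by rw [← (mem_centralizerIn.1 hs).2 r hr, mul_inv_cancel_right]] at h1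
    conv_lhs => rw [show r = t * r * t⁻¹ from h1]
    group
  have hn : autInducedBy (centralizerIn S R) T ≤ Subgroup.normalizer ((M T) : Set (MulAut T)) :=
    fun c hc => by
      obtain ⟨s, hs, hse⟩ := mem_autInducedBy.1 hc
      refine mem_normalizer_of_forall (fun μ hμ => conj_autInducedBy_top d hs.1 hμ hse)
        fun μ hμ => ?_
      obtain ⟨s', hs', hs'e⟩ := mem_autInducedBy.1 (inv_mem hc)
      simpa using conj_autInducedBy_top d hs'.1 hμ hs'e
  have h1 := Grp.card_sup_mul_card_inf hn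
  rw [hinf, sup_comm] at h1
  have c1 := card_autInducedBy_mul (hTn (centralizerIn S R) inf_le_left)
  have c2 := card_autInducedBy_mul (hTn (centralizerIn T R) (inf_le_left.trans hT.1))
  have e1 : centralizerIn (centralizerIn S R) T = centralizerIn S T := le_antisymm
    (inf_le_inf_right _ inf_le_left) fun c hc =>
      ⟨⟨hc.1, Subgroup.centralizer_le hRT hc.2⟩, hc.2⟩
  have e2 : centralizerIn (centralizerIn T R) T = centralizerIn T T := le_antisymm
    (inf_le_inf_right _ inf_le_left) fun c hc =>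
      ⟨⟨hc.1, Subgroup.centralizer_le hRT hc.2⟩, hc.2⟩
  rw [e1] at c1
  rw [e2] at c2
  rw [← c2, ← c1]
  calc Nat.card ↥(KK d R) * (Nat.card (autInducedBy (centralizerIn T R) T) *
        Nat.card ↥(centralizerIn T T)) * Nat.card ↥(centralizerIn S T)
      = (Nat.card ↥(KK d R) * Nat.card (autInducedBy (centralizerIn T R) T)) *
        Nat.card ↥(centralizerIn T T) * Nat.card ↥(centralizerIn S T) := by ring
    _ = _ := by rw [h1]; ring

/-- The restriction of a member of the family stabilizing `R` is a member at `R`. -/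
theorem res_mem {R Q : Subgroup Ω} (hR : TCen F T R) (hRQ : R ≤ Q) (hQT : Q ≤ T)
    (hQN : Q ≤ Subgroup.normalizer (R : Set Ω)) {α : MulAut Q} (hα : α ∈ M Q) {β : MulAut R}
    (h : ∀ x ∈ R, autFun β x = autFun α x) : β ∈ M R := by
  have hT := d.closed
  have hQ := hR.mono hRQ hQT
  haveI := finite_of_le (hR.1.trans hT.1)
  haveI := finite_of_le (hQT.trans hT.1)
  obtain ⟨a, b, ha, ⟨k, hb⟩, hab⟩ := exists_primary_split p α
  suffices hu : β ^ b ∈ M R by
    have h2 : β = β ^ a * β ^ b := mulAut_ext fun x hx => by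
      rw [← pow_add, h x hx, autFun_pow_eqOn hRQ h (a + b) x hx, pow_add, ← hab]
    rw [h2]
    exact mul_mem (d.res hR hRQ hQT hQN _ (pow_mem hα a) ha _ (autFun_pow_eqOn hRQ h a)) hu
  set u := α ^ b
  have hu : u ∈ M Q := pow_mem hα b
  have hγ := autFun_pow_eqOn hRQ h b
  have hQS := hQT.trans hT.1
  obtain ⟨Q', hQ', hQ'n⟩ := exists_fullyNormalized F hQS
  obtain ⟨φ, hφ, hφQ⟩ := isConj_iff.1 hQ'
  obtain ⟨hQ'S, W, hW⟩ := fullyAutomized_of_fullyNormalized d.pG d.sat hQ'n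
  haveI := finite_of_le hQ'S
  obtain ⟨e, he, -⟩ := exists_mulEquiv hφ hφQ
  have hQ'c : TCen F T Q' := hφQ ▸ hQ.image hT hφ
  have hu' : MulAut.congr e u ∈ M Q' := d.congr hQ hφ hφQ e he u hu
  let U : F.autGroup Q' := ⟨_, d.le hQ'c hu'⟩
  have hUp : IsPGroup p (Subgroup.zpowers U) := by
    refine IsPGroup.of_card_dvd_pow (n := k) ?_
    rw [Nat.card_zpowers]
    exact orderOf_dvd_of_pow_eq_one (Subtype.ext (by
      show MulAut.congr e u ^ p ^ k = 1
      rw [← map_pow, hb, map_one]))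
  obtain ⟨V, hV⟩ := hUp.exists_le_sylow
  obtain ⟨c, hc⟩ := MulAction.exists_smul_eq (F.autGroup Q') V W
  have hcU : c * U * c⁻¹ ∈ (W : Subgroup (F.autGroup Q')) := by
    rw [← hc]
    exact ⟨U, hV (Subgroup.mem_zpowers U), rfl⟩
  rw [hW, Subgroup.mem_subgroupOf] at hcU
  have hmem : (c : MulAut Q') * MulAut.congr e u * (c : MulAut Q')⁻¹ ∈ M Q' :=
    conj_mem d hQ'c c.2 hu'
  obtain ⟨t, ht, hte⟩ := mem_autInducedBy.1 (d.sylow hQ'c hQ'n ⟨hmem, hcU⟩)
  let θ : Ω → Ω := fun x => autFun (c : MulAut Q') (φ x)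
  have hθ : IsMap F Q θ :=
    hφ.comp ((mem_autGroup hQ'S).1 c.2) fun x hx => hφQ ▸ apply_mem_fimg φ hx
  set R' := fimg θ R
  have hR' : TCen F T R' := hR.image hT (hθ.res hRQ)
  have key : ∀ x ∈ Q, t * θ x * t⁻¹ = θ (autFun u x) := by
    intro x hx
    have h1 := hte ((c : MulAut Q') (e ⟨x, hx⟩))
    have h2 : θ x = ((c : MulAut Q') (e ⟨x, hx⟩) : Q') := by
      show autFun _ _ = _
      rw [← autFun_coe, he]
    rw [← h2] at h1
    refine h1.symm.trans ?_
    show _ = autFun (c : MulAut Q') (φ (autFun u x))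
    rw [← autFun_congr e he u hx, ← he ⟨x, hx⟩, autFun_coe, autFun_coe]
    simp
  have htn : t ∈ Subgroup.normalizer (R' : Set Ω) := by
    have himg : fimg (fun y => t * y * t⁻¹) R' = R' := by
      rw [← (hθ.res hRQ).fimg_comp,
        fimg_congr fun x hx => show t * θ x * t⁻¹ = θ (autFun (β ^ b) x) by
          rw [key x (hRQ hx), hγ x hx],
        (((d.isMap hQ hu).res hRQ).congr fun x hx => (hγ x hx).symm).fimg_comp,
        fimg_autFun]
    rw [Subgroup.mem_normalizer_iff]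
    intro n
    constructor
    · intro hn
      exact himg.le (apply_mem_fimg (fun y => t * y * t⁻¹) hn)
    · intro hn
      have h3 := himg.ge hn
      rw [mem_fimg_conj] at h3
      simpa [mul_assoc] using h3
  have hct := d.inn hR' (mem_autInducedBy_of_mem ht htn)
  obtain ⟨θ', hθ', hθ1, hθ2, -⟩ := (hθ.res hRQ).exists_inv
  have hθ'R : fimg θ' R' = R := by
    refine le_antisymm (fimg_le fun y hy => (hθ2 y hy).1) fun x hx => ?_
    rw [← hθ1 x hx]
    exact apply_mem_fimg _ (apply_mem_fimg θ hx)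
  obtain ⟨e', he', -⟩ := exists_mulEquiv hθ' hθ'R
  have hres := d.congr hR' hθ' hθ'R e' he' _ hct
  convert hres using 1
  refine mulAut_ext fun x hx => ?_
  have hx' : θ x ∈ R' := apply_mem_fimg θ hx
  conv_rhs => rw [← hθ1 x hx]
  rw [autFun_congr e' he' _ hx', hγ x hx,
    show autFun (R'.normalizerMonoidHom ⟨t, htn⟩) (θ x) =
      ((R'.normalizerMonoidHom ⟨t, htn⟩ ⟨θ x, hx'⟩ : R') : Ω) from autFun_coe _ ⟨θ x, hx'⟩,
    normalizerMonoidHom_apply]
  show autFun u x = θ' (t * θ x * t⁻¹)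
  rw [key x (hRQ hx), ← hγ x hx, hθ1 _ (autFun_mem _ hx)]

/-- A member of the family normalizing `Aut_Q(R)` extends to a member at `Q`, provided the
conjugations from `T` form a Sylow subgroup of that normalizer. -/
theorem ext_mem {R Q : Subgroup Ω} (hR : TCen F T R) (hn : F.IsFullyNormalized R) (hRQ : R ≤ Q)
    (hQN : Q ≤ normalizerIn T R) {β : MulAut R} (hβ : β ∈ M R)
    (hβn : β ∈ Subgroup.normalizer ((autInducedBy Q R : Subgroup (MulAut R)) : Set (MulAut R)))
    (hsy : ∀ (W : Subgroup (MulAut R)), IsPGroup p W →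
      W ≤ M R ⊓ Subgroup.normalizer ((autInducedBy Q R : Subgroup (MulAut R)) : Set (MulAut R)) →
      autInducedBy T R ⊓ Subgroup.normalizer
        ((autInducedBy Q R : Subgroup (MulAut R)) : Set (MulAut R)) ≤ W →
      W ≤ autInducedBy T R) :
    ∃ α ∈ M Q, ∀ x ∈ R, autFun α x = autFun β x := by
  have hT := d.closed
  have hQT : Q ≤ T := hQN.trans inf_le_left
  haveI := finite_of_le (hR.1.trans hT.1)
  let E : Subgroup (MulAut R) :=
    { carrier := {γ | ∃ α ∈ M Q, ∀ x ∈ R, autFun α x = autFun γ x}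
      mul_mem' := by
        rintro a b ⟨α, hα, ha⟩ ⟨β, hβ, hb⟩
        exact ⟨α * β, mul_mem hα hβ, fun x hx => by
          rw [autFun_mul _ _ (hRQ hx), autFun_mul _ _ hx, hb x hx, ha _ (autFun_mem b hx)]⟩
      one_mem' := ⟨1, one_mem _, fun x hx => by rw [autFun_one (hRQ hx), autFun_one hx]⟩
      inv_mem' := by
        rintro a ⟨α, hα, ha⟩
        refine ⟨α⁻¹, inv_mem hα, fun x hx => ?_⟩
        have h1 := ha _ (autFun_mem a⁻¹ hx)
        rw [← autFun_mul a a⁻¹ hx, mul_inv_cancel, autFun_one hx] at h1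
        conv_lhs => rw [← h1]
        exact autFun_inv_apply α (hRQ (autFun_mem _ hx)) }
  set A : Subgroup (MulAut R) :=
    M R ⊓ Subgroup.normalizer ((autInducedBy Q R : Subgroup (MulAut R)) : Set (MulAut R)) with hA
  suffices h : A ≤ E from h ⟨hβ, hβn⟩
  obtain ⟨W, hW⟩ := ((((isPGroup_autInducedBy d.pG R).to_le (autInducedBy_mono hT.1 R)).to_le
    inf_le_left).comap_subtype (K := A) : IsPGroup p ((autInducedBy T R ⊓ Subgroup.normalizer
      ((autInducedBy Q R : Subgroup (MulAut R)) : Set (MulAut R))).subgroupOf A)).exists_le_sylow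
  have hWT := hsy ((W : Subgroup A).map A.subtype) (W.2.map _) (Subgroup.map_subtype_le _)
    fun x hx => ⟨⟨x, d.inn hR hx.1, hx.2⟩, hW (Subgroup.mem_subgroupOf.2 hx), rfl⟩
  have htop : (⊤ : Subgroup A) ≤ E.subgroupOf A := by
    rw [← Transfer.sylow_sup_pResidual W]
    refine sup_le (fun w hw => ?_) ?_
    · obtain ⟨t, ht, hte⟩ := mem_autInducedBy.1 (hWT ⟨w, hw, rfl⟩)
      have htn : t ∈ Subgroup.normalizer (R : Set Ω) := mem_normalizer_of_conj_aut hte
      have hconj : ∀ g : Ω, g ∈ T → ∀ γ : MulAut R, (∀ x : R, ((γ x : R) : Ω) = g * x * g⁻¹) →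
          γ ∈ Subgroup.normalizer ((autInducedBy Q R : Subgroup (MulAut R)) : Set (MulAut R)) →
          ∀ q ∈ Q, g * q * g⁻¹ ∈ Q := by
        intro g hg γ hγ hγn q hq
        have hgn : g ∈ Subgroup.normalizer (R : Set Ω) := mem_normalizer_of_conj_aut hγ
        have hgq : g * q * g⁻¹ ∈ Subgroup.normalizer (R : Set Ω) :=
          mul_mem (mul_mem hgn (hQN hq).2) (Subgroup.inv_mem _ hgn)
        have hle : Subgroup.zpowers (g * q * g⁻¹) ≤ T := Subgroup.zpowers_le.2
          (T.mul_mem (T.mul_mem hg (hQT hq)) (T.inv_mem hg))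
        refine le_of_autInducedBy_le hT hR hle (Subgroup.zpowers_le.2 hgq) hRQ hQT ?_
          (Subgroup.mem_zpowers _)
        intro c hc
        obtain ⟨z, hz, hze⟩ := mem_autInducedBy.1 hc
        obtain ⟨n, rfl⟩ := Subgroup.mem_zpowers_iff.1 hz
        have hγq := (Subgroup.mem_normalizer_iff.1 hγn _).1
          (mem_autInducedBy_of_mem hq (hQN hq).2)
        have h5 : c = (γ * R.normalizerMonoidHom ⟨q, (hQN hq).2⟩ * γ⁻¹) ^ n := by
          have e1 : γ = R.normalizerMonoidHom ⟨g, hgn⟩ :=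
            MulEquiv.ext fun x => Subtype.ext (hγ x)
          rw [e1, ← map_inv, ← map_mul, ← map_mul, ← map_zpow]
          exact MulEquiv.ext fun x => Subtype.ext (by rw [hze x]; rfl)
        exact h5 ▸ zpow_mem hγq n
      have hwn := w.2.2
      have htQ : t ∈ Subgroup.normalizer (Q : Set Ω) := mem_normalizer_of_forall
        (hconj t ht _ hte hwn) fun q hq => by
          have := hconj t⁻¹ (T.inv_mem ht) ((w : MulAut R)⁻¹) (fun x => by
            have h6 : (((w : MulAut R) (((w : MulAut R))⁻¹ x) : R) : Ω) =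
                t * ((((w : MulAut R))⁻¹ x : R) : Ω) * t⁻¹ := hte _
            rw [MulAut.apply_inv_self] at h6
            rw [h6]
            group) (inv_mem hwn) q hq
          simpa using this
      refine ⟨Q.normalizerMonoidHom ⟨t, htQ⟩, d.inn (hR.mono hRQ hQT)
        (mem_autInducedBy_of_mem ht htQ), fun x hx => ?_⟩
      rw [show autFun (Q.normalizerMonoidHom ⟨t, htQ⟩) x =
          ((Q.normalizerMonoidHom ⟨t, htQ⟩ ⟨x, hRQ hx⟩ : Q) : Ω) from autFun_coe _ ⟨x, hRQ hx⟩,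
        normalizerMonoidHom_apply,
        show autFun (A.subtype w) x = ((A.subtype w ⟨x, hx⟩ : R) : Ω) from autFun_coe _ ⟨x, hx⟩]
      exact (hte ⟨x, hx⟩).symm
    · rw [pResidual, Subgroup.closure_le]
      intro g hg
      exact d.ext hR hn hRQ hQN _ g.2.1 ((orderOf_injective A.subtype A.subtype_injective g).symm ▸ hg) fun γ hγ =>
        (Subgroup.mem_normalizer_iff.1 g.2.2 γ).1 hγ
  exact fun x hx => htop (Subgroup.mem_top (⟨x, hx⟩ : A))

end Cfsg.Agent.Fus.InvMap
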