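import Mathlib
import Cfsg.Agent.Lib.Fus.InvMapLocal

/-!
The generated system induces exactly the given family on every subgroup of `T` containing its
centralizer, and the automorphisms of `T` restricting to generated maps on a fully centralized one
are those of the family times the conjugations by its centralizer.
-/

set_option autoImplicit false
set_option linter.style.haveILetI false
set_option linter.unusedSectionVars false
set_option linter.unusedVariables false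

open scoped Classical

universe u

namespace Cfsg.Agent.Fus.InvMap

open Subgroup FusionSystem

/-- Conjugation inside a subgroup commutes with restriction to it. -/
theorem map_conj_subgroupOf {G : Type*} [Group G] (Q H : Subgroup G) (h : H) :
    (Q.subgroupOf H).map (MulAut.conj h).toMonoidHom =
      (Q.map (MulAut.conj (h : G)).toMonoidHom).subgroupOf H := by
  ext x
  rw [Subgroup.mem_subgroupOf]
  constructor
  · rintro ⟨y, hy, rfl⟩
    exact ⟨y, hy, by simp⟩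
  · rintro ⟨y, hy, hyx⟩
    refine ⟨h⁻¹ * x * h, ?_, by simp [mul_assoc]⟩
    show ((h⁻¹ * x * h : H) : G) ∈ Q
    rw [Subgroup.coe_mul, Subgroup.coe_mul, ← hyx]
    simpa [mul_assoc] using hy

theorem coe_mem_normalizer {G : Type*} [Group G] {Q H : Subgroup G} (hQ : Q ≤ H) {k : H}
    (hk : k ∈ Subgroup.normalizer ((Q.subgroupOf H : Subgroup H) : Set H)) :
    (k : G) ∈ Subgroup.normalizer (Q : Set G) :=
  mem_normalizer_of_forall (fun z hz => (Subgroup.mem_normalizer_iff.1 hk ⟨z, hQ hz⟩).1 hz)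
    fun z hz => (Subgroup.mem_normalizer_iff''.1 hk ⟨z, hQ hz⟩).1 hz

theorem mem_normalizer_subgroupOf {G : Type*} [Group G] {Q H : Subgroup G} {k : H}
    (hk : (k : G) ∈ Subgroup.normalizer (Q : Set G)) :
    k ∈ Subgroup.normalizer ((Q.subgroupOf H : Subgroup H) : Set H) :=
  mem_normalizer_of_forall (fun z hz => (Subgroup.mem_normalizer_iff.1 hk _).1 hz)
    fun z hz => (Subgroup.mem_normalizer_iff''.1 hk _).1 hz

variable {Ω : Type u} [Group Ω] {S T : Subgroup Ω} {F : FusionSystem S} {p : ℕ}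
  {M : (R : Subgroup Ω) → Subgroup (MulAut R)}

/-- A member stabilizing `R₀` after the decomposition `ν` on `N_T(R₀)`. -/
def Nn (F : FusionSystem S) (T : Subgroup Ω) (M : (R : Subgroup Ω) → Subgroup (MulAut R))
    (R₀ : Subgroup Ω) (γ : MulAut R₀) (ν : MulAut T) : Prop :=
  ∃ g, DecAt F T M ν (normalizerIn T R₀) g ∧ fimg g R₀ = R₀ ∧ ∀ x ∈ R₀, autFun γ x = g x

/-- The pairs compatible with the family at `R₀`. -/
def Lev (F : FusionSystem S) (T : Subgroup Ω) (M : (R : Subgroup Ω) → Subgroup (MulAut R))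
    (R₀ : Subgroup Ω) (a : MulAut R₀) (ν : MulAut T) : Prop :=
  ∃ m ∈ M R₀, ∃ γ, Nn F T M R₀ γ ν ∧ a = m * γ

/-- A chart at a conjugate of `R₀`. -/
def Chart (F : FusionSystem S) (T : Subgroup Ω) (M : (R : Subgroup Ω) → Subgroup (MulAut R))
    (R₀ R : Subgroup Ω) (g : Ω → Ω) (α : MulAut T) : Prop :=
  IsMap F (normalizerIn S R) g ∧ fimg g R = R₀ ∧ DecAt F T M α (normalizerIn T R) g

/-- The map is compatible with every pair of charts. -/
def Good (F : FusionSystem S) (T : Subgroup Ω) (M : (R : Subgroup Ω) → Subgroup (MulAut R))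
    (R₀ R : Subgroup Ω) (f : Ω → Ω) : Prop :=
  ∀ g α g' α' (a : MulAut R₀), Chart F T M R₀ R g α → Chart F T M R₀ (fimg f R) g' α' →
    (∀ x ∈ R, autFun a (g x) = g' (f x)) → Lev F T M R₀ a (α' * α⁻¹)

/-- What is known at the larger subgroups. -/
def Above [Finite S] (d : Maps F T p M) (R₀ : Subgroup Ω) : Prop :=
  ∀ X, TCen F T X → Nat.card R₀ < Nat.card X → (sys d).autGroup X ≤ M X ∧
    (F.IsFullyCentralized X → ∀ hX : X ≤ T, Res d hX ≤ KK d X)

variable [Finite S] [Fact p.Prime] {R₀ : Subgroup Ω} (d : Maps F T p M) (hR : TCen F T R₀)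
  (hn : F.IsFullyNormalized R₀)
include d hR

theorem fimg_top_of_stab {g : Ω → Ω} (hg : IsMap F (normalizerIn T R₀) g)
    (hgR : fimg g R₀ = R₀) : fimg g (normalizerIn T R₀) = normalizerIn T R₀ :=
  haveI : Finite ↥(normalizerIn T R₀) :=
    finite_of_le (S := S) (inf_le_left.trans d.closed.1)
  Subgroup.eq_of_le_of_card_ge (fimg_le fun x hx =>
    ⟨StronglyClosed.apply_mem d.closed hg inf_le_left hx,
      (hgR ▸ hg.map_normalizerIn (le_normalizerIn hR.1) hx hx.2 : g x ∈ normalizerIn S R₀).2⟩)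
    hg.card_fimg.ge

theorem Nn.mem_autGroup {γ : MulAut R₀} {ν : MulAut T} (h : Nn F T M R₀ γ ν) :
    γ ∈ F.autGroup R₀ := by
  obtain ⟨g, hg, -, he⟩ := h
  exact (Fus.mem_autGroup (hR.1.trans d.closed.1)).2
    (((hg.isMap d).res (le_normalizerIn hR.1)).congr fun x hx => (he x hx).symm)

theorem Nn.one : Nn F T M R₀ 1 1 :=
  ⟨fun x => x, DecAt.of_gen ((Gen.conj d inf_le_left T.one_mem).congr fun x _ => by simp),
    fimg_id _, fun x hx => autFun_one hx⟩

theorem Nn.mul {γ δ : MulAut R₀} {ν μ : MulAut T} (h : Nn F T M R₀ γ ν)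
    (h' : Nn F T M R₀ δ μ) : Nn F T M R₀ (γ * δ) (ν * μ) := by
  obtain ⟨g, hg, hgR, hge⟩ := h
  obtain ⟨g', hg', hg'R, hg'e⟩ := h'
  have hm := hg'.isMap d
  refine ⟨_, hg'.comp d hg fun x hx =>
    fimg_top_of_stab d hR hm hg'R ▸ apply_mem_fimg g' hx, ?_, fun x hx => ?_⟩
  · rw [(hm.res (le_normalizerIn hR.1)).fimg_comp, hg'R, hgR]
  · rw [autFun_mul _ _ hx, hge _ (autFun_mem _ hx), hg'e x hx]

theorem Nn.inv {γ : MulAut R₀} {ν : MulAut T} (h : Nn F T M R₀ γ ν) :
    Nn F T M R₀ γ⁻¹ ν⁻¹ := by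
  obtain ⟨g, hg, hgR, hge⟩ := h
  have hm := hg.isMap d
  have hRN : R₀ ≤ normalizerIn T R₀ := le_normalizerIn hR.1
  obtain ⟨g', -, hg1, hg2, -⟩ := hm.exists_inv
  have hi := hg.inv d hg1
  rw [fimg_top_of_stab d hR hm hgR] at hi
  refine ⟨g', hi, le_antisymm (fimg_le fun y hy => ?_) fun x hx => ?_, fun y hy => ?_⟩
  · obtain ⟨x, hx, rfl⟩ := (hm.res hRN).mem_fimg_iff.1 (hgR.ge hy)
    rw [hg1 x (hRN hx)]
    exact hx
  · rw [← hg1 x (hRN hx)]
    exact apply_mem_fimg g' (hgR.le (apply_mem_fimg g hx))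
  · obtain ⟨x, hx, rfl⟩ := (hm.res hRN).mem_fimg_iff.1 (hgR.ge hy)
    rw [hg1 x (hRN hx), ← hge x hx, autFun_inv_apply γ hx]

theorem Lev.of_nn {γ : MulAut R₀} {ν : MulAut T} (h : Nn F T M R₀ γ ν) : Lev F T M R₀ γ ν :=
  ⟨1, one_mem _, γ, h, (one_mul γ).symm⟩

theorem Lev.of_mem {m : MulAut R₀} (hm : m ∈ M R₀) : Lev F T M R₀ m 1 :=
  ⟨m, hm, 1, Nn.one d hR, (mul_one m).symm⟩

theorem Lev.mul {a b : MulAut R₀} {ν μ : MulAut T} (h : Lev F T M R₀ a ν)
    (h' : Lev F T M R₀ b μ) : Lev F T M R₀ (a * b) (ν * μ) := by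
  obtain ⟨m, hm, γ, hγ, rfl⟩ := h
  obtain ⟨n, hn, δ, hδ, rfl⟩ := h'
  exact ⟨m * (γ * n * γ⁻¹), mul_mem hm (conj_mem d hR (hγ.mem_autGroup d hR) hn), γ * δ,
    hγ.mul d hR hδ, by group⟩

theorem Lev.inv {a : MulAut R₀} {ν : MulAut T} (h : Lev F T M R₀ a ν) :
    Lev F T M R₀ a⁻¹ ν⁻¹ := by
  obtain ⟨m, hm, γ, hγ, rfl⟩ := h
  refine ⟨γ⁻¹ * m⁻¹ * γ, ?_, γ⁻¹, hγ.inv d hR, by group⟩
  simpa using conj_mem d hR (inv_mem (hγ.mem_autGroup d hR)) (inv_mem hm)

/-- Conjugation of `T` by an element centralizing `R₀`. -/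
theorem exists_conj_top {s : Ω} (hs : s ∈ S) :
    ∃ c ∈ F.autGroup T, ∀ x : T, ((c x : T) : Ω) = s * x * s⁻¹ := by
  have hsn : s ∈ Subgroup.normalizer (T : Set Ω) := mem_normalizer_of_forall
    (fun x hx => StronglyClosed.conj_mem' d.closed hs hx)
    fun x hx => by simpa using StronglyClosed.conj_mem' d.closed (S.inv_mem hs) hx
  exact ⟨_, autInducedBy_le_autGroup F d.closed.1 (mem_autInducedBy_of_mem hs hsn), fun _ => rfl⟩

theorem Lev.of_KK {κ : MulAut T} (hκ : κ ∈ KK d R₀) : Lev F T M R₀ 1 κ := by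
  let L : Subgroup (MulAut T) :=
    { carrier := {κ | Lev F T M R₀ 1 κ}
      mul_mem' := fun h h' => by have := Lev.mul d hR h h'; rwa [one_mul] at this
      one_mem' := Lev.of_mem d hR (one_mem _)
      inv_mem' := fun h => by have := Lev.inv d hR h; rwa [inv_one] at this }
  suffices h : KK d R₀ ≤ L from h hκ
  refine sup_le (fun μ hμ => Lev.of_nn d hR ⟨fun x => x, (DecAt.of_mem d hμ).res inf_le_left,
    fimg_id _, fun x hx => autFun_one hx⟩) fun c hc => ?_
  obtain ⟨s, hs, hse⟩ := mem_autInducedBy.1 hc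
  have hfix : ∀ x ∈ R₀, autFun c x = x := fun x hx => by
    rw [show autFun c x = ((c ⟨x, hR.1 hx⟩ : T) : Ω) from autFun_coe c ⟨x, hR.1 hx⟩, hse]
    show s * x * s⁻¹ = x
    rw [← (mem_centralizerIn.1 hs).2 x hx, mul_inv_cancel_right]
  refine Lev.of_nn d hR ⟨autFun c, DecAt.of_aut d (autInducedBy_le_autGroup F d.closed.1
    (autInducedBy_mono inf_le_left T hc)) inf_le_left, ?_, fun x hx => ?_⟩
  · rw [fimg_congr hfix, fimg_id]
  · rw [autFun_one hx, hfix x hx]

theorem normalizerIn_tCen : TCen F T (normalizerIn T R₀) :=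
  hR.mono (le_normalizerIn hR.1) inf_le_left

include hn

/-- The conjugations from `T` form a Sylow subgroup of the family at `R₀`. -/
theorem sylow_top {W : Subgroup (MulAut R₀)} (hW : IsPGroup p W) (hWM : W ≤ M R₀)
    (hle : autInducedBy T R₀ ≤ W) : W ≤ autInducedBy T R₀ := by
  have hRS := hR.1.trans d.closed.1
  haveI := finite_of_le hRS
  obtain ⟨-, P, hP⟩ := fullyAutomized_of_fullyNormalized d.pG d.sat hn
  have hsy : IsSylowOf p (autInducedBy S R₀) (F.autGroup R₀) :=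
    ⟨autInducedBy_le_autGroup F hRS, P, hP⟩
  obtain ⟨c, hc, hcW⟩ := hsy.exists_conj_le hW (hWM.trans (d.le hR))
  have h1 : W.map (MulAut.conj c).toMonoidHom ≤ autInducedBy T R₀ := by
    intro x hx
    refine d.sylow hR hn ⟨?_, hcW hx⟩
    obtain ⟨w, hw, rfl⟩ := hx
    exact conj_mem d hR hc (hWM hw)
  refine (Subgroup.eq_of_le_of_card_ge hle ?_).ge
  rw [← Subgroup.card_map_of_injective (K := W) (f := (MulAut.conj c).toMonoidHom)
    (MulAut.conj c).injective]
  exact Subgroup.card_le_of_le h1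

theorem normalizerIn_fullyCentralized : F.IsFullyCentralized (normalizerIn T R₀) := by
  have hT := d.closed
  have hNS : normalizerIn T R₀ ≤ S := inf_le_left.trans hT.1
  refine ⟨hNS, fun X' hX' => ?_⟩
  obtain ⟨φ, hφ, rfl⟩ := isConj_iff.1 hX'
  have hRN : R₀ ≤ normalizerIn T R₀ := le_normalizerIn hR.1
  have hRS' := (hφ.res hRN).fimg_le_S
  obtain ⟨h, hh, hhR, -⟩ := exists_map_to_fullyNormalized d.pG d.sat hn
    (isConj_symm (hφ.res hRN).isConj)
  have hXN : fimg φ (normalizerIn T R₀) ≤ normalizerIn S (fimg φ R₀) := fimg_le fun x hx =>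
    hφ.map_normalizerIn hRN hx hx.2
  have hXT : fimg φ (normalizerIn T R₀) ≤ T :=
    fimg_le fun x hx => StronglyClosed.apply_mem hT hφ inf_le_left hx
  haveI : Finite ↥(normalizerIn T R₀) := finite_of_le (S := S) hNS
  have himg : fimg h (fimg φ (normalizerIn T R₀)) = normalizerIn T R₀ := by
    refine Subgroup.eq_of_le_of_card_ge (fimg_le fun y hy =>
      ⟨StronglyClosed.apply_mem hT (hh.res hXN) hXT hy, ?_⟩) ?_
    · exact (hhR ▸ hh.map_normalizerIn (le_normalizerIn hRS') (hXN hy) (hXN hy).2 :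
        h y ∈ normalizerIn S R₀).2
    · rw [(hh.res hXN).card_fimg, hφ.card_fimg]
  have hC : centralizerIn S (fimg φ (normalizerIn T R₀)) ≤ normalizerIn S (fimg φ R₀) :=
    le_trans (inf_le_inf_left _ (Subgroup.centralizer_le (fimg_mono φ hRN)))
      (centralizerIn_le_normalizerIn _)
  rw [← (hh.res hC).card_fimg]
  haveI : Finite ↥(centralizerIn S (normalizerIn T R₀)) := finite_of_le (S := S) inf_le_left
  exact Subgroup.card_le_of_le (fimg_le fun c hc =>
    himg ▸ hh.map_centralizerIn hXN (hC hc) hc.2)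

variable (hlt : R₀ < T) (hA : Above d R₀)
include hlt

theorem card_lt_normalizerIn : Nat.card R₀ < Nat.card ↥(normalizerIn T R₀) :=
  haveI : Finite T := finite_of_le d.closed.1
  haveI : Finite ↥(normalizerIn T R₀) :=
    finite_of_le (S := T) (show normalizerIn T R₀ ≤ T from inf_le_left)
  card_lt_of_lt (lt_normalizerIn (d.pG.to_le d.closed.1) hlt)

include hA

set_option maxHeartbeats 800000 in
/-- The pairs over the identity. -/
theorem mem_KK_of_lev {δ : MulAut T} (h : Lev F T M R₀ 1 δ) : δ ∈ KK d R₀ := by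
  obtain ⟨m, hm, γ, ⟨g, hg, hgR, hge⟩, h1⟩ := h
  have hT := d.closed
  have hγM : γ ∈ M R₀ := by
    rw [eq_inv_of_mul_eq_one_right h1.symm]
    exact inv_mem hm
  have hRS := hR.1.trans hT.1
  haveI := finite_of_le hRS
  set N0 := normalizerIn T R₀ with hN0
  have hRN : R₀ ≤ N0 := le_normalizerIn hR.1
  have hgm := hg.isMap d
  have hgN := fimg_top_of_stab d hR hgm hgR
  have hAN : autInducedBy N0 R₀ = autInducedBy T R₀ := le_antisymm
    (autInducedBy_mono inf_le_left R₀) fun c hc => by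
      obtain ⟨t, ht, hte⟩ := mem_autInducedBy.1 hc
      exact mem_autInducedBy.2 ⟨t, ⟨ht, mem_normalizer_of_conj_aut hte⟩, hte⟩
  have hγn : γ ∈ Subgroup.normalizer ((autInducedBy N0 R₀ : Subgroup (MulAut R₀)) : Set
      (MulAut R₀)) := by
    have h2 := autInducedBy_fimg hRN inf_le_right hgm hge
    rw [hgN] at h2
    refine mem_normalizer_of_forall (fun c hc => h2.ge ⟨c, hc, rfl⟩) fun c hc => ?_
    obtain ⟨c', hc', rfl⟩ := h2.le hc
    simpa [mul_assoc] using hc'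
  obtain ⟨α, hα, hαe⟩ := ext_mem d hR hn hRN le_rfl hγM hγn fun W hWp hWM hle =>
    sylow_top d hR hn hWp (hWM.trans inf_le_left) fun c hc =>
      hle ⟨hc, Subgroup.le_normalizer (hAN.ge hc)⟩
  have hNc := normalizerIn_tCen d hR
  have hcen := fullyCentralized_of_fullyNormalized d.pG d.sat hn
  obtain ⟨s, hs, hse⟩ := exists_conj_of_eqOn d.pG d.sat hT hR hcen hRN inf_le_left inf_le_right
    (d.isMap hNc hα) hgm fun x hx => by rw [← hge x hx, hαe x hx]
  obtain ⟨c, hcA, hce⟩ := exists_conj_top d hR hs.1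
  have hcx : ∀ x ∈ T, autFun c x = s * x * s⁻¹ := fun x hx => by
    rw [show autFun c x = ((c ⟨x, hx⟩ : T) : Ω) from autFun_coe c ⟨x, hx⟩, hce]
  have hsn := centralizerIn_le_normalizer hT hR hRN inf_le_left inf_le_right hs
  have hcomp : DecAt F T M (1 * c) N0 g :=
    ((DecAt.of_aut d hcA inf_le_left).comp d (DecAt.of_gen (Gen.aut hNc hα le_rfl fun _ _ => rfl))
      fun x hx => by
        rw [hcx x hx.1]
        exact (Subgroup.mem_normalizer_iff.1 hsn x).1 hx).congr fun x hx => by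
      show g x = autFun α (autFun c x)
      rw [hcx x hx.1]
      exact hse x hx
  obtain ⟨g', -, hg1, -, -⟩ := hgm.exists_inv
  have hid := hcomp.comp d (hg.inv d hg1) fun x hx => apply_mem_fimg g hx
  rw [one_mul] at hid
  obtain ⟨hεA, e, he, hee⟩ := hid.congr (f' := fun x => x) fun x hx => (hg1 x hx).symm
  have hεR : δ⁻¹ * c ∈ Res d (show N0 ≤ T from inf_le_left) := by
    have : (δ⁻¹ * c)⁻¹ ∈ Res d (show N0 ≤ T from inf_le_left) :=
      ⟨inv_mem hεA, he.congr fun x hx => by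
        have h3 : x = autFun (δ⁻¹ * c) (e x) := hee x hx
        conv_lhs => rw [h3]
        exact autFun_inv_apply _ (he.apply_mem x hx)⟩
    simpa using inv_mem this
  have hK : KK d N0 ≤ KK d R₀ := sup_le_sup_left (autInducedBy_mono
    (inf_le_inf_left _ (Subgroup.centralizer_le hRN)) T) _
  have hεK := hK ((hA N0 hNc (card_lt_normalizerIn d hR hn hlt)).2
    (normalizerIn_fullyCentralized d hR hn) inf_le_left hεR)
  rw [show δ = c * (δ⁻¹ * c)⁻¹ by group]
  exact mul_mem (Subgroup.mem_sup_right (mem_autInducedBy.2 ⟨s, hs, hce⟩)) (inv_mem hεK)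

omit hlt hA in
set_option maxHeartbeats 1000000 in
/-- An element of the family extends to the normalizer of `X` in `N_T(R₀)` when it carries the
conjugations there into those from `T`. -/
theorem exists_extend_step {X : Subgroup Ω} (hRX : R₀ ≤ X) (hXN : X ≤ normalizerIn T R₀)
    {h : MulAut R₀} (hh : h ∈ M R₀)
    (hc : ∀ c ∈ autInducedBy T R₀,
      c ∈ Subgroup.normalizer ((autInducedBy X R₀ : Subgroup (MulAut R₀)) : Set (MulAut R₀)) →
      h * c * h⁻¹ ∈ autInducedBy T R₀) :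
    ∃ v, IsMap F (normalizerIn (normalizerIn T R₀) X) v ∧ ∀ x ∈ R₀, v x = autFun h x := by
  have hT := d.closed
  refine receptive_extend (receptive_of_fullyNormalized d.pG d.sat hn) (d.isMap hR hh)
    (fimg_autFun h) (fun g hg => ?_)
    (hRX.trans (le_normalizerIn hXN))
  obtain ⟨hgN, hgX⟩ := hg
  refine ⟨⟨hT.1 hgN.1, hgN.2⟩, ?_⟩
  have hmem := mem_autInducedBy_of_mem hgN.1 hgN.2 (R := R₀)
  have key : ∀ k : Ω, ∀ hkn : k ∈ Subgroup.normalizer (R₀ : Set Ω),
      k ∈ Subgroup.normalizer (X : Set Ω) → ∀ c ∈ autInducedBy X R₀,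
      R₀.normalizerMonoidHom ⟨k, hkn⟩ * c * (R₀.normalizerMonoidHom ⟨k, hkn⟩)⁻¹ ∈
        autInducedBy X R₀ := by
    intro k hkn hkX c hc
    obtain ⟨u, hu, hue⟩ := mem_autInducedBy.1 hc
    refine mem_autInducedBy.2 ⟨k * u * k⁻¹, (Subgroup.mem_normalizer_iff.1 hkX u).1 hu,
      fun x => ?_⟩
    rw [← map_inv, MulAut.mul_apply, MulAut.mul_apply, normalizerMonoidHom_apply, hue,
      normalizerMonoidHom_apply]
    show k * (u * (k⁻¹ * x * k⁻¹⁻¹) * u⁻¹) * k⁻¹ = _
    group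
  obtain ⟨t, ht, hte⟩ := mem_autInducedBy.1 (hc _ hmem (mem_normalizer_of_forall
    (key g hgN.2 hgX) fun c hc' => by
      have h1 := key g⁻¹ (Subgroup.inv_mem _ hgN.2) (Subgroup.inv_mem _ hgX) c hc'
      rw [show (⟨g⁻¹, Subgroup.inv_mem _ hgN.2⟩ : Subgroup.normalizer (R₀ : Set Ω)) =
        ⟨g, hgN.2⟩⁻¹ from rfl, map_inv, inv_inv] at h1
      exact h1))
  refine ⟨t, hT.1 ht, fun x hx => ?_⟩
  have h1 := hte (h ⟨x, hx⟩)
  rw [show autFun h x = ((h ⟨x, hx⟩ : R₀) : Ω) from autFun_coe h ⟨x, hx⟩,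
    show g * x * g⁻¹ = ((R₀.normalizerMonoidHom ⟨g, hgN.2⟩ ⟨x, hx⟩ : R₀) : Ω) from rfl, autFun_coe]
  rw [← h1]
  simp

set_option maxHeartbeats 2000000 in
/-- Every map on a subgroup strictly above `R₀` in `N_T(R₀)` stabilizing `R₀` has a decomposition
compatible with the family. -/
theorem exists_lev : ∀ {X : Subgroup Ω} {v : Ω → Ω} {a : MulAut R₀}, R₀ < X →
    X ≤ normalizerIn T R₀ → IsMap F X v → (∀ x ∈ R₀, autFun a x = v x) →
    ∃ ν, DecAt F T M ν X v ∧ Lev F T M R₀ a ν := by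
  intro X
  induction hn' : Nat.card ↥(normalizerIn T R₀) - Nat.card X using Nat.strong_induction_on
    generalizing X with
  | _ n ih =>
  intro v a hRX hXN hv hva
  have hT := d.closed
  set N0 := normalizerIn T R₀ with hN0
  haveI : Finite ↥N0 := finite_of_le (S := S) (inf_le_left.trans hT.1)
  have hRS := hR.1.trans hT.1
  haveI := finite_of_le hRS
  rcases hXN.eq_or_lt with rfl | hXlt
  · obtain ⟨ν, hν⟩ := exists_decAt d inf_le_left hv
    refine ⟨ν, hν, Lev.of_nn d hR ⟨v, hν, ?_, hva⟩⟩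
    rw [← fimg_congr hva, fimg_autFun]
  have haA : a ∈ F.autGroup R₀ :=
    (Fus.mem_autGroup hRS).2 ((hv.res hRX.le).congr fun x hx => (hva x hx).symm)
  obtain ⟨m, hm, f, hf, hfR, hfN, hfe⟩ := exists_split d hR hn haA
  have hRN : R₀ ≤ N0 := le_normalizerIn hR.1
  obtain ⟨nn, -, hne⟩ := (hf.res hRN).exists_aut hfR
  obtain ⟨ν₀, hν₀⟩ := exists_decAt d inf_le_left hf
  have hnn : Lev F T M R₀ nn ν₀ := Lev.of_nn d hR ⟨f, hν₀, hfR, hne⟩
  have han : a = m * nn := mulAut_ext fun x hx => by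
    rw [autFun_mul _ _ hx, hne x hx, hfe x hx]
  obtain ⟨f', -, hf1, hf2, -⟩ := hf.exists_inv
  -- reduce to a map restricting to a member of the family
  suffices core : ∀ (X : Subgroup Ω) (w : Ω → Ω), n = Nat.card N0 - Nat.card X → R₀ < X →
      X < N0 → IsMap F X w → (∀ x ∈ R₀, autFun m x = w x) →
      ∃ ν, DecAt F T M ν X w ∧ Lev F T M R₀ m ν by
    have hfX := (hf.res hXN)
    have hX1 : fimg f X ≤ N0 := le_of_le_of_eq (fimg_mono f hXN) hfN
    have hR1 : R₀ < fimg f X := by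
      refine lt_of_le_of_ne (hfR ▸ fimg_mono f hRX.le) fun he => ?_
      haveI : Finite X := finite_of_le (S := S) hv.source_le
      exact (card_lt_of_lt hRX).ne (by rw [← hfX.card_fimg, ← he])
    have hX1lt : fimg f X < N0 := by
      refine lt_of_le_of_ne hX1 fun he => ?_
      exact (card_lt_of_lt hXlt).ne (by rw [← hfX.card_fimg, he])
    obtain ⟨g, hg, hg1, hg2, -⟩ := hfX.exists_inv
    obtain ⟨ν, hν, hL⟩ := core _ (fun y => v (g y)) (by rw [hfX.card_fimg]; exact hn'.symm) hR1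
      hX1lt (hg.comp hv fun y hy => (hg2 y hy).1) fun y hy => by
        obtain ⟨x, hx, rfl⟩ := (hf.res hRN).mem_fimg_iff.1 (hfR.ge hy)
        show _ = v (g (f x))
        rw [hg1 x (hRX.le hx), ← hva x hx, hfe x hx]
    exact ⟨ν * ν₀, ((hν₀.res hXN).comp d hν fun x hx => apply_mem_fimg f hx).congr fun x hx => by
      show v x = v (g (f x))
      rw [hg1 x hx], han ▸ Lev.mul d hR hL hnn⟩
  clear hva hv hfe han hnn hν₀ hne hf1 hf2 hfN hfR hf haA hXlt hXN hRX hn'
  intro X w hn' hRX hXlt hw hwm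
  have hXN : X ≤ N0 := hXlt.le
  have hXT : X ≤ T := hXN.trans inf_le_left
  have hXn : X ≤ Subgroup.normalizer (R₀ : Set Ω) := hXN.trans inf_le_right
  haveI : Finite X := finite_of_le hXN
  set X₂ := fimg w X with hX₂
  have hwR : fimg w R₀ = R₀ := by rw [← fimg_congr hwm, fimg_autFun]
  have himg : ∀ (Y : Subgroup Ω) (u : Ω → Ω), IsMap F Y u → R₀ ≤ Y → Y ≤ N0 → fimg u R₀ = R₀ →
      fimg u Y ≤ N0 ∧ R₀ ≤ fimg u Y := fun Y u hu hRY hYN huR =>
    ⟨fimg_le fun x hx => ⟨StronglyClosed.apply_mem hT hu (hYN.trans inf_le_left) hx,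
      (huR ▸ hu.map_normalizerIn hRY hx (hYN hx).2 : u x ∈ normalizerIn S R₀).2⟩,
      huR ▸ fimg_mono u hRY⟩
  obtain ⟨hX₂N, hRX₂⟩ := himg X w hw hRX.le hXN hwR
  have hcardX₂ : Nat.card X₂ = Nat.card X := hw.card_fimg
  set Q₁ := autInducedBy X R₀ with hQ₁
  set Q₂ := autInducedBy X₂ R₀ with hQ₂
  have hQ21 : Q₂ = Q₁.map (MulAut.conj m).toMonoidHom := autInducedBy_fimg hRX.le hXn hw hwm
  have hQ1T : Q₁ ≤ autInducedBy T R₀ := autInducedBy_mono hXT R₀
  have hTM : autInducedBy T R₀ ≤ M R₀ := d.inn hR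
  obtain ⟨-, P, hP⟩ : IsSylowOf p (autInducedBy T R₀) (M R₀) :=
    IsSylowOf.of_card_le hTM
      ((isPGroup_autInducedBy d.pG R₀).to_le (autInducedBy_mono hT.1 R₀))
      fun A hA hAp hle => sylow_top d hR hn hAp hA hle
  have hPmem : ∀ c : M R₀, c ∈ (P : Subgroup (M R₀)) ↔ (c : MulAut R₀) ∈ autInducedBy T R₀ :=
    fun c => by rw [hP]; rfl
  obtain ⟨h, -, hNP, hsy⟩ := exists_conj_normalizer_sylow P
    (show Q₁.subgroupOf (M R₀) ≤ P from fun c hc => (hPmem c).2 (hQ1T hc))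
  set Qs := Q₁.map (MulAut.conj (h : MulAut R₀)).toMonoidHom with hQs
  rw [map_conj_subgroupOf, ← hQs] at hsy
  have hQsM : Qs ≤ M R₀ := by
    rintro _ ⟨c, hc, rfl⟩
    exact mul_mem (mul_mem h.2 (hTM (hQ1T hc))) (inv_mem h.2)
  let mm : M R₀ := ⟨m, hm⟩
  have hQ2s : (Q₂.subgroupOf (M R₀)).map (MulAut.conj (h * mm⁻¹)).toMonoidHom =
      Qs.subgroupOf (M R₀) := by
    rw [map_conj_subgroupOf, hQ21, Subgroup.map_map, hQs]
    congr 2
    refine MonoidHom.ext fun z => ?_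
    simp [mm, mul_assoc]
  obtain ⟨k₀, hk₀, hk₀le⟩ := hsy.exists_conj_le
    (A := ((P : Subgroup (M R₀)) ⊓ Subgroup.normalizer
      ((Q₂.subgroupOf (M R₀) : Subgroup (M R₀)) : Set (M R₀))).map
        (MulAut.conj (h * mm⁻¹)).toMonoidHom) ((P.2.to_le inf_le_left).map _) (by
      rintro _ ⟨z, hz, rfl⟩
      rw [← hQ2s]
      exact mem_normalizer_conj hz.2)
  let h₂ : M R₀ := k₀ * (h * mm⁻¹)
  -- the two moves extend
  obtain ⟨v₁, hv₁, hv₁e⟩ := exists_extend_step d hR hn hRX.le hXN h.2 fun c hc hcn =>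
    (hPmem _).1 (hNP ⟨c, hTM hc⟩ ⟨(hPmem _).2 hc, mem_normalizer_subgroupOf hcn⟩)
  obtain ⟨v₂, hv₂, hv₂e⟩ := exists_extend_step d hR hn hRX₂ hX₂N h₂.2 fun c hc hcn => by
    have h1 := (hk₀le ⟨_, ⟨⟨c, hTM hc⟩, ⟨(hPmem _).2 hc, mem_normalizer_subgroupOf hcn⟩, rfl⟩,
      rfl⟩).1
    have h2 := (hPmem _).1 h1
    simpa [h₂, mul_assoc] using h2
  have hbig : ∀ Y : Subgroup Ω, R₀ < Y → Y < N0 → Nat.card Y = Nat.card X →
      Nat.card N0 - Nat.card ↥(normalizerIn N0 Y) < n ∧ R₀ < normalizerIn N0 Y := by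
    intro Y hRY hY hc
    have hlt := lt_normalizerIn (d.pG.to_le (show N0 ≤ S from inf_le_left.trans hT.1)) hY
    haveI : Finite ↥(normalizerIn N0 Y) :=
      finite_of_le (S := N0) (show normalizerIn N0 Y ≤ N0 from inf_le_left)
    have := card_lt_of_lt hlt
    have := card_lt_of_lt hY
    exact ⟨by omega, hRY.trans hlt⟩
  have hRX₂' : R₀ < X₂ := lt_of_le_of_ne hRX₂ fun he =>
    (card_lt_of_lt hRX).ne (by rw [← hcardX₂, ← he])
  have hX₂lt : X₂ < N0 := lt_of_le_of_ne hX₂N fun he =>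
    (card_lt_of_lt hXlt).ne (by rw [← hcardX₂, he])
  obtain ⟨hb₁, hRY₁⟩ := hbig X hRX hXlt rfl
  obtain ⟨hb₂, hRY₂⟩ := hbig X₂ hRX₂' hX₂lt hcardX₂
  obtain ⟨ν₁, hd₁, hL₁⟩ := ih _ hb₁ rfl hRY₁ inf_le_left hv₁ fun x hx => (hv₁e x hx).symm
  obtain ⟨ν₂, hd₂, hL₂⟩ := ih _ hb₂ rfl hRY₂ inf_le_left hv₂ fun x hx => (hv₂e x hx).symm
  have hXY : X ≤ normalizerIn N0 X := le_normalizerIn hXN
  have hX₂Y : X₂ ≤ normalizerIn N0 X₂ := le_normalizerIn hX₂N
  -- their images coincide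
  have hv₁R : fimg v₁ R₀ = R₀ := by rw [fimg_congr hv₁e, fimg_autFun]
  have hv₂R : fimg v₂ R₀ = R₀ := by rw [fimg_congr hv₂e, fimg_autFun]
  obtain ⟨hZN, hRZ⟩ := himg X v₁ (hv₁.res hXY) hRX.le hXN hv₁R
  obtain ⟨hZ₂N, hRZ₂⟩ := himg X₂ v₂ (hv₂.res hX₂Y) hRX₂ hX₂N hv₂R
  set Z := fimg v₁ X with hZdef
  have hAZ : autInducedBy Z R₀ = Qs :=
    autInducedBy_fimg hRX.le hXn (hv₁.res hXY) fun x hx => (hv₁e x hx).symm
  have hk₀n : (k₀ : MulAut R₀) ∈ Subgroup.normalizer (Qs : Set (MulAut R₀)) :=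
    coe_mem_normalizer hQsM hk₀
  have hAZ₂ : autInducedBy (fimg v₂ X₂) R₀ = Qs := by
    rw [autInducedBy_fimg hRX₂ (hX₂N.trans inf_le_right) (hv₂.res hX₂Y)
      (fun x hx => (hv₂e x hx).symm), ← hQ₂, hQ21, Subgroup.map_map]
    refine le_antisymm ?_ fun z hz => ?_
    · rintro _ ⟨c, hc, rfl⟩
      have h1 := (Subgroup.mem_normalizer_iff.1 hk₀n _).1
        (show (MulAut.conj (h : MulAut R₀)) c ∈ Qs from ⟨c, hc, rfl⟩)
      simpa [h₂, mm, mul_assoc] using h1
    · obtain ⟨c, hc, hce⟩ := (Subgroup.mem_normalizer_iff''.1 hk₀n z).1 hz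
      refine ⟨c, hc, ?_⟩
      have : (h : MulAut R₀) * c * (h : MulAut R₀)⁻¹ =
          (k₀ : MulAut R₀)⁻¹ * z * (k₀ : MulAut R₀) := hce
      rw [show z = (k₀ : MulAut R₀) * ((h : MulAut R₀) * c * (h : MulAut R₀)⁻¹) *
        (k₀ : MulAut R₀)⁻¹ by rw [this]; group]
      simp [h₂, mm, mul_assoc]
  have hZZ : fimg v₂ X₂ = Z := le_antisymm
    (le_of_autInducedBy_le hT hR (hZ₂N.trans inf_le_left) (hZ₂N.trans inf_le_right) hRZ
      (hZN.trans inf_le_left) (hAZ₂.trans hAZ.symm).le)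
    (le_of_autInducedBy_le hT hR (hZN.trans inf_le_left) (hZN.trans inf_le_right) hRZ₂
      (hZ₂N.trans inf_le_left) (hAZ.trans hAZ₂.symm).le)
  obtain ⟨α, hα, hαe⟩ := ext_mem d hR hn hRZ hZN k₀.2 (hAZ.symm ▸ hk₀n) fun W hWp hWM hle => by
    rw [hAZ] at hWM hle
    have h1 := hsy.card_le (A := W.subgroupOf (M R₀)) hWp.comap_subtype fun c hc =>
      mem_normalizer_subgroupOf (hWM hc).2
    have h2 := Subgroup.eq_of_le_of_card_ge (show (P : Subgroup (M R₀)) ⊓ Subgroup.normalizer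
      ((Qs.subgroupOf (M R₀) : Subgroup (M R₀)) : Set (M R₀)) ≤ W.subgroupOf (M R₀) from
        fun c hc => hle ⟨(hPmem c).1 hc.1, coe_mem_normalizer hQsM hc.2⟩) h1
    intro c hc
    exact (hPmem ⟨c, (hWM hc).1⟩).1 (h2.ge (show (⟨c, (hWM hc).1⟩ : M R₀) ∈ W.subgroupOf _ from
      hc)).1
  -- the composite through the common image
  have hZc : TCen F T Z := hR.mono hRZ (hZN.trans inf_le_left)
  have hd₂' := hd₂.res hX₂Y
  obtain ⟨g₂, -, hg1, hg2, -⟩ := (hv₂.res hX₂Y).exists_inv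
  have hinv := hd₂'.inv d hg1
  rw [hZZ] at hinv
  have hw' := ((hd₁.res hXY).comp d (DecAt.of_gen (Gen.aut hZc hα le_rfl fun _ _ => rfl))
    fun x hx => apply_mem_fimg v₁ hx).comp d hinv
      fun x hx => autFun_mem α (apply_mem_fimg v₁ hx)
  have hLev : Lev F T M R₀ m (ν₂⁻¹ * (1 * ν₁)) := by
    have := Lev.mul d hR (Lev.inv d hR hL₂) (Lev.mul d hR (Lev.of_mem d hR k₀.2) hL₁)
    rwa [show (h₂ : MulAut R₀)⁻¹ * ((k₀ : MulAut R₀) * (h : MulAut R₀)) = m by
      simp [h₂, mm, mul_assoc]] at this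
  have hcen := fullyCentralized_of_fullyNormalized d.pG d.sat hn
  obtain ⟨s, hs, hse⟩ := exists_conj_of_eqOn d.pG d.sat hT hR hcen hRX.le hXT hXn (hw'.isMap d)
    hw fun x hx => by
      show w x = g₂ (autFun α (v₁ x))
      rw [hv₁e x hx, hαe _ (autFun_mem _ hx), ← autFun_mul _ _ hx,
        show (k₀ : MulAut R₀) * (h : MulAut R₀) = (h₂ : MulAut R₀) * m by
          simp [h₂, mm, mul_assoc],
        autFun_mul _ _ hx, ← hv₂e _ (autFun_mem _ hx), hwm x hx]
      exact (hg1 _ (apply_mem_fimg w (hRX.le hx))).symm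
  obtain ⟨c, hcA, hce⟩ := exists_conj_top d hR hs.1
  have hcx : ∀ x ∈ T, autFun c x = s * x * s⁻¹ := fun x hx => by
    rw [show autFun c x = ((c ⟨x, hx⟩ : T) : Ω) from autFun_coe c ⟨x, hx⟩, hce]
  have hsn := centralizerIn_le_normalizer hT hR hRX.le hXT hXn hs
  refine ⟨ν₂⁻¹ * (1 * ν₁) * c, (((DecAt.of_aut d hcA hXT).comp d hw' fun x hx => by
      rw [hcx x (hXT hx)]
      exact (Subgroup.mem_normalizer_iff.1 hsn x).1 hx).congr fun x hx => by
    show w x = g₂ (autFun α (v₁ (autFun c x)))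
    rw [hcx x (hXT hx)]
    exact hse x hx), ?_⟩
  have hκ := Lev.of_KK d hR (κ := c)
    (Subgroup.mem_sup_right (mem_autInducedBy.2 ⟨s, hs, hce⟩))
  simpa using Lev.mul d hR hLev hκ

/-- The restricting automorphisms above `R₀` are compatible over the identity. -/
theorem lev_of_res {X : Subgroup Ω} (hRX : R₀ < X) (hXN : X ≤ normalizerIn T R₀) {δ : MulAut T}
    (hδ : δ ∈ Res d (show X ≤ T from hXN.trans inf_le_left)) : Lev F T M R₀ 1 δ := by
  have hT := d.closed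
  have hXT : X ≤ T := hXN.trans inf_le_left
  obtain ⟨X', hX', hX'n⟩ := exists_fullyNormalized F (hXT.trans hT.1)
  obtain ⟨φ, hφ, rfl⟩ := isConj_iff.1 hX'
  obtain ⟨h, hh, hhR, -⟩ := exists_map_to_fullyNormalized d.pG d.sat hn
    (isConj_symm (hφ.res hRX.le).isConj)
  have hRS' := (hφ.res hRX.le).fimg_le_S
  have hX'N : fimg φ X ≤ normalizerIn S (fimg φ R₀) := fimg_le fun x hx =>
    hφ.map_normalizerIn hRX.le hx (hXN hx).2
  have hk := hφ.comp (hh.res hX'N) fun x hx => apply_mem_fimg φ hx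
  have hkR : fimg (fun x => h (φ x)) R₀ = R₀ := by rw [(hφ.res hRX.le).fimg_comp, hhR]
  obtain ⟨a, -, ha⟩ := (hk.res hRX.le).exists_aut hkR
  obtain ⟨ν, hν, hL⟩ := exists_lev d hR hn hlt hA hRX hXN hk ha
  have h1 := conj_mem_Res d hν hδ
  have hRX'' : R₀ ≤ fimg (fun x => h (φ x)) X := hkR ▸ fimg_mono _ hRX.le
  have hX''T : fimg (fun x => h (φ x)) X ≤ T := fimg_le fun x hx => hν.apply_mem hx
  have hfc : F.IsFullyCentralized (fimg (fun x => h (φ x)) X) := by
    have hc' := fullyCentralized_of_fullyNormalized d.pG d.sat hX'n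
    refine ⟨hk.fimg_le_S, fun Q hQ => (hc'.2 Q (isConj_trans ?_ hQ)).trans ?_⟩
    · exact isConj_trans (isConj_symm hφ.isConj) hk.isConj
    · have hC : centralizerIn S (fimg φ X) ≤ normalizerIn S (fimg φ R₀) :=
        le_trans (inf_le_inf_left _ (Subgroup.centralizer_le (fimg_mono φ hRX.le)))
          (centralizerIn_le_normalizerIn _)
      rw [← (hh.res hC).card_fimg]
      haveI : Finite ↥(centralizerIn S (fimg (fun x => h (φ x)) X)) :=
        finite_of_le (S := S) inf_le_left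
      exact Subgroup.card_le_of_le (fimg_le fun c hc => by
        rw [hφ.fimg_comp]
        exact hh.map_centralizerIn hX'N (hC hc) hc.2)
  haveI : Finite X := finite_of_le (hXT.trans hT.1)
  have h2 := (hA _ (hR.mono hRX'' hX''T) (by
    rw [hk.card_fimg]; exact card_lt_of_lt hRX)).2 hfc hX''T h1
  have hK : KK d (fimg (fun x => h (φ x)) X) ≤ KK d R₀ := sup_le_sup_left (autInducedBy_mono
    (inf_le_inf_left _ (Subgroup.centralizer_le hRX'')) T) _
  have := Lev.mul d hR (Lev.inv d hR hL) (Lev.mul d hR (Lev.of_KK d hR (hK h2)) hL)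
  simpa [mul_assoc] using this

/-- Every decomposition of a map stabilizing `R₀` is compatible. -/
theorem lev_of_decAt {X : Subgroup Ω} (hRX : R₀ < X) (hXN : X ≤ normalizerIn T R₀)
    {v : Ω → Ω} {ν : MulAut T} (hν : DecAt F T M ν X v) {a : MulAut R₀}
    (ha : ∀ x ∈ R₀, autFun a x = v x) : Lev F T M R₀ a ν := by
  obtain ⟨ν', hν', hL⟩ := exists_lev d hR hn hlt hA hRX hXN (hν.isMap d) ha
  obtain ⟨g, -, hg1, -, -⟩ := (hν.isMap d).exists_inv
  obtain ⟨hεA, e, he, hee⟩ := ((hν.comp d (hν'.inv d hg1) fun x hx => apply_mem_fimg v hx).congr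
    (f' := fun x => x) fun x hx => (hg1 x hx).symm)
  have hres : (ν'⁻¹ * ν)⁻¹ ∈ Res d (show X ≤ T from hXN.trans inf_le_left) :=
    ⟨inv_mem hεA, he.congr fun x hx => by
      have h3 : x = autFun (ν'⁻¹ * ν) (e x) := hee x hx
      conv_lhs => rw [h3]
      exact autFun_inv_apply _ (he.apply_mem x hx)⟩
  have := Lev.mul d hR hL (Lev.inv d hR (lev_of_res d hR hn hlt hA hRX hXN hres))
  simpa using this

omit hlt hA in
theorem exists_chart {R : Subgroup Ω} (hc : F.IsConj R₀ R) :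
    ∃ g α, Chart F T M R₀ R g α := by
  obtain ⟨g, hg, hgR, -⟩ := exists_map_to_fullyNormalized d.pG d.sat hn (isConj_symm hc)
  have hle : normalizerIn T R ≤ normalizerIn S R := fun x hx => ⟨d.closed.1 hx.1, hx.2⟩
  obtain ⟨α, hα⟩ := exists_decAt d inf_le_left (hg.res hle)
  exact ⟨g, α, hg, hgR, hα⟩

omit hlt hA in
theorem exists_between {R : Subgroup Ω} {f g g' : Ω → Ω} {α α' : MulAut T} (hf : IsMap F R f)
    (hg : Chart F T M R₀ R g α) (hg' : Chart F T M R₀ (fimg f R) g' α') :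
    ∃ a : MulAut R₀, ∀ x ∈ R, autFun a (g x) = g' (f x) := by
  have hgr := hg.1.res (le_normalizerIn hf.source_le)
  obtain ⟨gi, hgi, hg1, hg2, -⟩ := hgr.exists_inv
  rw [hg.2.1] at hgi hg2
  have hc := (hgi.comp hf fun y hy => (hg2 y hy).1).comp
    (hg'.1.res (le_normalizerIn hf.fimg_le_S)) fun y hy => apply_mem_fimg f (hg2 y hy).1
  have hle : fimg (fun y => g' (f (gi y))) R₀ ≤ R₀ := fimg_le fun y hy =>
    hg'.2.1.le (apply_mem_fimg g' (apply_mem_fimg f (hg2 y hy).1))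
  haveI := finite_of_le (hR.1.trans d.closed.1)
  obtain ⟨a, -, ha⟩ := hc.exists_aut (Subgroup.eq_of_le_of_card_ge hle hc.card_fimg.ge)
  refine ⟨a, fun x hx => ?_⟩
  rw [ha _ (hg.2.1.le (apply_mem_fimg g hx))]
  show g' (f (gi (g x))) = _
  rw [hg1 x hx]

omit hlt in
theorem lt_top_of_isConj (hlt : R₀ < T) {R : Subgroup Ω} (hc : F.IsConj R₀ R) (hRT : R ≤ T) :
    R < T :=
  haveI : Finite T := finite_of_le d.closed.1
  lt_of_le_of_ne hRT fun h => (card_lt_of_lt hlt).ne (by rw [← h]; exact (isConj_card hc).symm)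

/-- A map defined above a conjugate of `R₀` is compatible with the charts. -/
theorem lev_edge {R X : Subgroup Ω} (hc : F.IsConj R₀ R) (hRX : R < X)
    (hXN : X ≤ normalizerIn T R) {f g g' : Ω → Ω} {ε α α' : MulAut T}
    (hf : DecAt F T M ε X f) (hg : Chart F T M R₀ R g α)
    (hg' : Chart F T M R₀ (fimg f R) g' α') {a : MulAut R₀}
    (ha : ∀ x ∈ R, autFun a (g x) = g' (f x)) : Lev F T M R₀ a (α' * (ε * α⁻¹)) := by
  have hT := d.closed
  have hXT : X ≤ T := hXN.trans inf_le_left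
  obtain ⟨hgm, hgR, hgd⟩ := hg
  obtain ⟨hg'm, hg'R, hg'd⟩ := hg'
  have hgX := hgd.res hXN
  have hm := hgX.isMap d
  obtain ⟨gi, -, hg1, hg2, -⟩ := hm.exists_inv
  have hfm := hf.isMap d
  have hv := ((hgX.inv d hg1).comp d hf fun y hy => (hg2 y hy).1).comp d hg'd fun y hy =>
    ⟨hf.apply_mem (hg2 y hy).1,
      (hfm.map_normalizerIn hRX.le (hg2 y hy).1 (hXN (hg2 y hy).1).2).2⟩
  haveI : Finite X := finite_of_le (hXT.trans hT.1)
  have hle : R₀ ≤ fimg g X := hgR ▸ fimg_mono g hRX.le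
  refine lev_of_decAt d hR hn hlt hA (lt_of_le_of_ne hle fun he => ?_) (fimg_le fun x hx =>
    ⟨hgX.apply_mem hx, (hgR ▸ hm.map_normalizerIn hRX.le hx (hXN hx).2 :
      g x ∈ normalizerIn S R₀).2⟩) hv fun y hy => ?_
  · exact (card_lt_of_lt hRX).ne (by rw [← hm.card_fimg, ← he, isConj_card hc])
  · obtain ⟨x, hx, rfl⟩ := (hm.res hRX.le).mem_fimg_iff.1 (hgR.ge hy)
    show _ = g' (f (gi (g x)))
    rw [hg1 x (hRX.le hx), ha x hx]

omit hA hlt in
theorem Good.congr {R : Subgroup Ω} {f f' : Ω → Ω} (h : Good F T M R₀ R f)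
    (he : ∀ x ∈ R, f' x = f x) : Good F T M R₀ R f' := by
  intro g α g' α' a hg hg' ha
  rw [fimg_congr he] at hg'
  exact h g α g' α' a hg hg' fun x hx => by rw [ha x hx, he x hx]

omit hA hlt in
theorem Good.comp {R : Subgroup Ω} (hc : F.IsConj R₀ R) {f f' : Ω → Ω} (hf : IsMap F R f)
    (h : Good F T M R₀ R f) (h' : Good F T M R₀ (fimg f R) f') :
    Good F T M R₀ R (fun x => f' (f x)) := by
  intro g α g' α' a hg hg' ha
  obtain ⟨g₁, α₁, hg₁⟩ := exists_chart d hR hn (isConj_trans hc hf.isConj)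
  obtain ⟨b, hb⟩ := exists_between d hR hn hf hg hg₁
  rw [hf.fimg_comp] at hg'
  have h1 := h g α g₁ α₁ b hg hg₁ hb
  have h2 := h' g₁ α₁ g' α' (a * b⁻¹) hg₁ hg' fun y hy => by
    obtain ⟨x, hx, rfl⟩ := hf.mem_fimg_iff.1 hy
    have hgx : g x ∈ R₀ := hg.2.1.le (apply_mem_fimg g hx)
    rw [← hb x hx, autFun_mul _ _ (autFun_mem b hgx), autFun_inv_apply b hgx, ha x hx]
  simpa [mul_assoc] using Lev.mul d hR h2 h1

/-- A member of the family on a conjugate of `R₀` or above is compatible. -/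
theorem good_of_mem {R Q : Subgroup Ω} (hc : F.IsConj R₀ R) (hQ : TCen F T Q) {β : MulAut Q}
    (hβ : β ∈ M Q) (hRQ : R ≤ Q) : Good F T M R₀ R (autFun β) := by
  intro g α g' α' a hg hg' ha
  have hT := d.closed
  have hQS := hQ.1.trans hT.1
  haveI := finite_of_le hQS
  haveI : Finite T := finite_of_le hT.1
  rcases hRQ.eq_or_lt with rfl | hlt'
  · rw [fimg_autFun] at hg'
    have hRN : R ≤ normalizerIn S R := le_normalizerIn hQS
    obtain ⟨e, he, -⟩ := exists_mulEquiv (hg.1.res hRN) hg.2.1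
    have hm' : MulAut.congr e β ∈ M R₀ :=
      d.congr hQ (hg.1.res hRN) hg.2.1 e he β hβ
    have hid : DecAt F T M 1 (normalizerIn T R) (fun x => x) :=
      DecAt.of_gen ((Gen.conj d inf_le_left T.one_mem).congr fun x _ => by simp)
    obtain ⟨c, hc'⟩ := exists_between d hR hn (f := fun x => x) (isMap_id F hQS) hg
      (by rw [fimg_id]; exact hg')
    have h1 := lev_edge d hR hn hlt hA hc (lt_normalizerIn (d.pG.to_le hT.1)
      (lt_top_of_isConj d hR hn hA hlt hc hQ.1)) le_rfl hid hg (by rw [fimg_id]; exact hg') hc'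
    have h2 := Lev.mul d hR h1 (Lev.of_mem d hR hm')
    have ha' : a = c * MulAut.congr e β := mulAut_ext fun y hy => by
      obtain ⟨x, hx, rfl⟩ := (hg.1.res hRN).mem_fimg_iff.1 (hg.2.1.ge hy)
      rw [autFun_mul _ _ hy, autFun_congr e he β hx, ha x hx, hc' _ (autFun_mem β hx)]
    rw [ha']
    simpa using h2
  · have h1 := lev_edge d hR hn hlt hA hc (X := normalizerIn Q R)
      (lt_normalizerIn (d.pG.to_le hQS) hlt') (inf_le_inf_right _ hQ.1)
      (DecAt.of_gen (Gen.aut hQ hβ inf_le_left fun _ _ => rfl)) hg hg' ha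
    simpa using h1

theorem good_of_gen {P : Subgroup Ω} {f : Ω → Ω} (h : Gen F T M P f) :
    ∀ R, R ≤ P → F.IsConj R₀ R → Good F T M R₀ R f := by
  induction h with
  | aut hQ hβ hPQ hf =>
    intro R hRP hc
    exact Good.congr d hR hn (good_of_mem d hR hn hlt hA hc hQ hβ (hRP.trans hPQ)) fun x hx =>
      hf x (hRP hx)
  | @comp P Q f₁ f₂ f hf hg hm he ih₁ ih₂ =>
    intro R hRP hc
    have hm₁ := (hf.isMap d).res hRP
    exact Good.congr d hR hn (Good.comp d hR hn hc hm₁ (ih₁ R hRP hc)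
      (ih₂ _ (fimg_le fun x hx => hm x (hRP hx)) (isConj_trans hc hm₁.isConj))) fun x hx =>
        he x (hRP hx)

omit hlt hA in
theorem chart_self : Chart F T M R₀ R₀ (fun x => x) 1 :=
  ⟨isMap_id F inf_le_left, fimg_id _,
    DecAt.of_gen ((Gen.conj d inf_le_left T.one_mem).congr fun x _ => by simp)⟩

/-- The generated system induces the family on every conjugate of `R₀`. -/
theorem autGroup_le {R : Subgroup Ω} (hc : F.IsConj R₀ R) (hRT : TCen F T R) :
    (sys d).autGroup R ≤ M R := by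
  intro β hβ
  have hT := d.closed
  have hRS := hRT.1.trans hT.1
  have hgen := (mem_sys_autGroup d hRT.1).1 hβ
  obtain ⟨g, α, hg⟩ := exists_chart d hR hn hc
  have hbm := hgen.isMap d
  have hg' : Chart F T M R₀ (fimg (autFun β) R) g α := by rw [fimg_autFun]; exact hg
  obtain ⟨a, ha⟩ := exists_between d hR hn hbm hg hg'
  have hL := good_of_gen d hR hn hlt hA hgen R le_rfl hc g α g α a hg hg' ha
  rw [mul_inv_cancel] at hL
  obtain ⟨m, hm, γ, ⟨g₀, hd, hgR, hge⟩, rfl⟩ := hL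
  have hgn := hd.isMap d
  have hgen0 := hd.gen
  have hN := normalizerIn_tCen d hR
  obtain ⟨b, -, hb⟩ := hgn.exists_aut (fimg_top_of_stab d hR hgn hgR)
  have hbM : b ∈ M (normalizerIn T R₀) := (hA _ hN (card_lt_normalizerIn d hR hn hlt)).1
    ((mem_sys_autGroup d inf_le_left).2 (hgen0.congr hb))
  have hγ : γ ∈ M R₀ := res_mem d hR (le_normalizerIn hR.1) inf_le_left inf_le_right hbM
    fun x hx => by rw [hge x hx, hb x (le_normalizerIn hR.1 hx)]
  have hgr := hg.1.res (le_normalizerIn hRS)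
  obtain ⟨gi, hgi, hg1, -, hgiR⟩ := hgr.exists_inv
  rw [hg.2.1] at hgi hgiR
  obtain ⟨e, he, -⟩ := exists_mulEquiv hgi hgiR
  have h2 := d.congr hR hgi hgiR e he _ (mul_mem hm hγ)
  convert h2 using 1
  refine mulAut_ext fun x hx => ?_
  have hgx : g x ∈ R₀ := hg.2.1.le (apply_mem_fimg g hx)
  conv_rhs => rw [← hg1 x hx]
  rw [autFun_congr e he _ hgx, ha x hx, hg1 _ (autFun_mem β hx)]

/-- The restricting automorphisms at `R₀`. -/
theorem res_le : Res d hR.1 ≤ KK d R₀ := by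
  intro δ hδ
  obtain ⟨hδA, hgen⟩ := mem_Res.1 hδ
  have hT := d.closed
  have hδm : IsMap F T (autFun δ) := (Fus.mem_autGroup hT.1).1 hδA
  have hδR := hδm.res hR.1
  obtain ⟨g₁, α₁, hg₁⟩ := exists_chart d hR hn hδR.isConj
  obtain ⟨a, ha⟩ := exists_between d hR hn hδR (chart_self d hR hn) hg₁
  have h1 := good_of_gen d hR hn hlt hA hgen R₀ le_rfl
    (isConj_refl F (hR.1.trans hT.1)) _ _ _ _ a (chart_self d hR hn) hg₁ ha
  have hRN : R₀ ≤ normalizerIn T R₀ := le_normalizerIn hR.1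
  have hm := hδm.res (show normalizerIn T R₀ ≤ T from inf_le_left)
  have hd := (DecAt.of_aut d hδA inf_le_left).comp d hg₁.2.2 fun x hx =>
    ⟨autFun_mem δ hx.1, (hm.map_normalizerIn hRN hx hx.2).2⟩
  have h2 : Lev F T M R₀ a (α₁ * δ) := Lev.of_nn d hR ⟨_, hd, by
    rw [hδR.fimg_comp, hg₁.2.1], ha⟩
  have h3 := Lev.mul d hR (Lev.inv d hR h1) h2
  simp at h3
  exact mem_KK_of_lev d hR hn hlt hA h3

omit hR hn hlt hA in
/-- The generated system induces the family, and the restricting automorphisms are known. -/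
theorem level : ∀ R : Subgroup Ω, TCen F T R → (sys d).autGroup R ≤ M R ∧
    (F.IsFullyCentralized R → ∀ hR' : R ≤ T, Res d hR' ≤ KK d R) := by
  intro R
  induction hn : Nat.card T - Nat.card R using Nat.strong_induction_on generalizing R with
  | _ n ih =>
  intro hR
  have hT := d.closed
  have hRS := hR.1.trans hT.1
  haveI : Finite T := finite_of_le hT.1
  rcases hR.1.eq_or_lt with rfl | hlt
  · have key : ∀ {P : Subgroup Ω} {f : Ω → Ω}, Gen F R M P f → R ≤ P →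
        ∃ μ ∈ M R, ∀ x ∈ R, f x = autFun μ x := by
      intro P f h
      induction h with
      | @aut P Q α f hQ hα hPQ hf =>
        intro hP
        obtain rfl : Q = R := le_antisymm hQ.1 (hP.trans hPQ)
        exact ⟨α, hα, fun x hx => hf x (hP hx)⟩
      | @comp P Q f₁ f₂ f hf hg hm he ih₁ ih₂ =>
        intro hP
        obtain ⟨μ, hμ, hμe⟩ := ih₁ hP
        have hQ : R ≤ Q := by
          intro x hx
          have h1 := hm _ (hP (autFun_mem μ⁻¹ hx))
          rw [hμe _ (autFun_mem μ⁻¹ hx), ← autFun_mul μ μ⁻¹ hx, mul_inv_cancel,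
            autFun_one hx] at h1
          exact h1
        obtain ⟨ν, hν, hνe⟩ := ih₂ hQ
        exact ⟨ν * μ, mul_mem hν hμ, fun x hx => by
          rw [he x (hP hx), hμe x hx, hνe _ (autFun_mem μ hx), autFun_mul _ _ hx]⟩
    refine ⟨fun α hα => ?_, fun _ hR' δ hδ => ?_⟩
    · obtain ⟨μ, hμ, hμe⟩ := key ((mem_sys_autGroup d le_rfl).1 hα) le_rfl
      exact (mulAut_ext hμe) ▸ hμ
    · obtain ⟨μ, hμ, hμe⟩ := key (mem_Res.1 hδ).2 le_rfl
      exact Subgroup.mem_sup_left ((mulAut_ext hμe) ▸ hμ)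
  · obtain ⟨R₀, hR₀, hn₀⟩ := exists_fullyNormalized F hRS
    obtain ⟨v, hv, rfl⟩ := isConj_iff.1 hR₀
    have hR₀c : TCen F T (fimg v R) := hR.image hT hv
    have hcard : Nat.card (fimg v R) = Nat.card R := hv.card_fimg
    have hlt₀ : fimg v R < T := lt_of_le_of_ne hR₀c.1 fun h => (card_lt_of_lt hlt).ne (by
      rw [← hcard, h])
    have hA : Above d (fimg v R) := by
      intro X hX hlt'
      have := Subgroup.card_le_of_le hX.1
      exact ih _ (by omega) X rfl hX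
    have hc := isConj_symm hv.isConj
    refine ⟨autGroup_le d hR₀c hn₀ hlt₀ hA hc hR, fun hfc hR' => ?_⟩
    obtain ⟨g, α, hg⟩ := exists_chart d hR₀c hn₀ hc
    have hd := hg.2.2.res (le_normalizerIn hR')
    have h0 := res_le d hR₀c hn₀ hlt₀ hA
    have hle : (Res d hR').map (MulAut.conj α).toMonoidHom ≤ KK d (fimg v R) := by
      rintro _ ⟨δ, hδ, rfl⟩
      have h1 := conj_mem_Res d hd hδ
      refine h0 ?_
      obtain ⟨h1a, h1b⟩ := mem_Res.1 h1
      exact mem_Res.2 ⟨h1a, hg.2.1 ▸ h1b⟩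
    haveI : Finite (MulAut T) := inferInstance
    have hcent : ∀ A : Subgroup Ω, TCen F T A → centralizerIn T A = centralizerIn A A :=
      fun A hA => le_antisymm (le_inf (hA.cent_le hT) inf_le_right)
        (inf_le_inf_right _ hA.1)
    have e1 : Nat.card ↥(centralizerIn T (fimg v R)) = Nat.card ↥(centralizerIn T R) := by
      rw [hcent _ hR₀c, hcent _ hR]
      have hsub : centralizerIn R R ≤ R := inf_le_left
      rw [← (hv.res hsub).card_fimg]
      refine congrArg (fun K : Subgroup Ω => Nat.card K) (le_antisymm (fun y hy => ?_)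
        (fimg_le fun x hx => ⟨apply_mem_fimg v hx.1, (hv.map_centralizerIn le_rfl hx.1 hx.2).2⟩))
      obtain ⟨x, hx, rfl⟩ := hv.mem_fimg_iff.1 hy.1
      refine apply_mem_fimg v (mem_centralizerIn.2 ⟨hx, fun r hr => hv.injOn (R.mul_mem hr hx)
        (R.mul_mem hx hr) ?_⟩)
      rw [hv.map_mul hr hx, hv.map_mul hx hr]
      exact (mem_centralizerIn.1 hy).2 _ (apply_mem_fimg v hr)
    have e2 : Nat.card ↥(centralizerIn S (fimg v R)) = Nat.card ↥(centralizerIn S R) :=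
      le_antisymm (hfc.2 _ hv.isConj)
        ((fullyCentralized_of_fullyNormalized d.pG d.sat hn₀).2 _ hc)
    have c1 := card_KK d hR₀c
    have c2 := card_KK d hR
    rw [e1, e2, ← c2] at c1
    haveI : Finite ↥(centralizerIn S T) := finite_of_le (S := S) inf_le_left
    haveI : Finite ↥(centralizerIn T R) :=
      finite_of_le (S := T) (show centralizerIn T R ≤ T from inf_le_left)
    have c3 : Nat.card ↥(KK d (fimg v R)) = Nat.card ↥(KK d R) :=
      Nat.eq_of_mul_eq_mul_right Nat.card_pos (Nat.eq_of_mul_eq_mul_right Nat.card_pos c1)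
    refine (Subgroup.eq_of_le_of_card_ge (KK_le_Res d hR') ?_).ge
    rw [← c3, ← Subgroup.card_map_of_injective (K := Res d hR')
      (f := (MulAut.conj α).toMonoidHom) (MulAut.conj α).injective]
    exact Subgroup.card_le_of_le hle

omit hR hn hlt hA in
/-- The generated system induces exactly the family. -/
theorem autGroup_eq {R : Subgroup Ω} (hR : TCen F T R) : (sys d).autGroup R = M R :=
  le_antisymm (level d R hR).1 (M_le_sys d hR)

end Cfsg.Agent.Fus.InvMap
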