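import Cfsg.Agent.Lib.Fus.InvariantExtension

/-!
The automorphisms of a centric fully normalized subgroup in a normal subsystem extend over the
centralizer trivially modulo the support.
-/

set_option autoImplicit false
set_option linter.style.haveILetI false
set_option linter.unusedSectionVars false

open scoped Classical Pointwise

universe u

namespace Cfsg.Agent.Fus.InvExt

open Subgroup FusionSystem FocalCent

variable {Ω : Type u} [Group Ω] {S T : Subgroup Ω} {F : FusionSystem S} {E : FusionSystem T}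
  {p : ℕ} [Fact p.Prime]

/-- A power of order prime to `p` keeping a given image of order prime to `p`. -/
theorem exists_coprime_power {G H : Type*} [Group G] [Finite G] [Group H] (x : G) {η : H} {m : ℕ}
    (hm : m.Coprime p) (hη : η ^ m = 1) :
    ∃ k n, n.Coprime p ∧ (x ^ k) ^ n = 1 ∧ η ^ k = η := by
  obtain ⟨j, n, hn, hxn⟩ :=
    Nat.exists_eq_pow_mul_and_not_dvd (orderOf_pos x).ne' p (Fact.out : p.Prime).ne_one
  obtain ⟨u, hu⟩ := exists_pow_eq_self_of_coprime (x := η) (n := p ^ j)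
    ((Nat.Coprime.coprime_dvd_left (orderOf_dvd_of_pow_eq_one hη) hm).pow_right j).symm
  refine ⟨p ^ j * u, n, ((Fact.out : p.Prime).coprime_iff_not_dvd.2 hn).symm, ?_, ?_⟩
  · rw [← pow_mul, show p ^ j * u * n = p ^ j * n * u by ring, pow_mul, ← hxn, pow_orderOf_eq_one,
      one_pow]
  · rw [pow_mul, hu]

/-- An element of `p`-power order killed by a number prime to `p`. -/
theorem eq_one_of_coprime_pow {G : Type*} [Group G] {x : G} {k n : ℕ} (hn : n.Coprime p)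
    (hk : x ^ p ^ k = 1) (hxn : x ^ n = 1) : x = 1 :=
  orderOf_eq_one_iff.1 (Nat.eq_one_of_dvd_coprimes (hn.pow_right k)
    (orderOf_dvd_of_pow_eq_one hxn) (orderOf_dvd_of_pow_eq_one hk))

variable [Finite S]

/-- The step: `N = N_T(Q)` is fully normalized with good stabilizer of `Q` and is already good. -/
theorem step (hS : IsPGroup p S) (hF : F.IsSaturated p) (hE : E.IsNormalIn F p) {Q : Subgroup Ω}
    (hQ : E.IsCentric Q) (hQn : F.IsFullyNormalized Q)
    (hNn : F.IsFullyNormalized (normalizerIn T Q))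
    (hsy : SatCrit.SylowAt F p (normalizerIn T Q) Q)
    (big : ∀ β ∈ E.autGroup (normalizerIn T Q), Triv F T (normalizerIn T Q) β)
    {b : MulAut Q} (hb : b ∈ E.autGroup Q) : Triv F T Q b := by
  have hinv : E.IsInvariantIn F := hE.1.2.2
  have hEs : E.IsSaturated p := hE.1.1
  have hEF : E.IsSubsystemOf F := hinv.1
  have hT : F.StronglyClosed T := hinv.2.1
  have hTS : T ≤ S := hT.1
  have hQT : Q ≤ T := hQ.1
  have hQS := hQn.1
  haveI : Finite T := finite_of_le hTS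
  haveI := finite_of_le hQS
  have hTp : IsPGroup p T := hS.to_le hTS
  have hQEn := fullyNormalized_sub hS hF hT hEF hQT hQn
  set N := normalizerIn T Q with hNdef
  set C := centralizerIn S Q with hCdef
  set D := centralizerIn S N with hDdef
  have hQN : Q ≤ N := le_normalizerIn hQT
  have hNT : N ≤ T := inf_le_left
  have hNS : N ≤ S := hNT.trans hTS
  have hNSQ : N ≤ normalizerIn S Q := fun x hx => ⟨hTS hx.1, hx.2⟩
  have hCQ : C ≤ normalizerIn S Q := centralizerIn_le_normalizerIn Q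
  have hDC : D ≤ C := inf_le_inf_left S (Subgroup.centralizer_le hQN)
  have hCT : ∀ x ∈ C, x ∈ T → x ∈ Q := fun x hx hxT =>
    centralizerIn_le_of_centric hQ ⟨hxT, hx.2⟩
  haveI : Finite N := finite_of_le hNS
  have hNc : E.IsCentric N := centric_mono hQ hQN hNT
  have hNEn := fullyNormalized_sub hS hF hT hEF hNT hNn
  have hnormN : ∀ c ∈ normalizerIn S Q, c ∈ Subgroup.normalizer (N : Set Ω) := fun c hc =>
    mem_normalizer_of_forall
      (fun x hx => ⟨StronglyClosed.conj_mem' hT hc.1 hx.1,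
        mul_mem (mul_mem hc.2 hx.2) (Subgroup.inv_mem _ hc.2)⟩)
      (fun x hx => ⟨by simpa using StronglyClosed.conj_mem' hT (S.inv_mem hc.1) hx.1,
        mul_mem (mul_mem (Subgroup.inv_mem _ hc.2) hx.2) hc.2⟩)
  -- the good automorphisms
  obtain ⟨-, R, hR⟩ := fullyAutomized_of_fullyNormalized hTp hEs hQEn
  set K : Subgroup (E.autGroup Q) := (trivAuts F T Q hQS).comap (E.autGroup Q).subtype with hKdef
  haveI : K.Normal := ⟨fun k hk a => by
    obtain ⟨b', hb', hb'e, -, -⟩ := exists_ext hS hF hQn (autGroup_mono hEF Q a.2)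
    exact triv_conj hT hQS hb' hb'e hk⟩
  have hRK : (R : Subgroup (E.autGroup Q)) ≤ K := by
    rw [hR]; exact Subgroup.comap_mono (autInducedBy_le_trivAuts hT hQS)
  have hmem : (⟨b, hb⟩ : (E.autGroup Q)) ∈ Subgroup.normalizer ((R : Subgroup (E.autGroup Q)) : Set (E.autGroup Q)) ⊔ K :=
    R.normalizer_sup_eq_top' hRK ▸ mem_top _
  obtain ⟨n, hn, k₀, hk₀, hnk⟩ := Subgroup.mem_sup_of_normal_right.1 hmem
  suffices h : n ∈ K by
    have := mul_mem h hk₀
    rw [hnk] at this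
    exact this
  -- extend to `N`
  obtain ⟨e, he, hee⟩ := receptive_extend (receptive_of_fullyNormalized hTp hEs hQEn)
    ((mem_autGroup hQT).1 n.2) (fimg_autFun _) (N := N) (fun g hg => by
      refine ⟨hg, ?_⟩
      have hc : (⟨_, autInducedBy_le_autGroup E hQT (mem_autInducedBy.2
          ⟨g, hg.1, fun x => (rfl : ((Q.normalizerMonoidHom ⟨g, hg.2⟩ x : Q) : Ω) = _)⟩)⟩ : (E.autGroup Q)) ∈
          (R : Subgroup (E.autGroup Q)) := by
        rw [hR]; exact mem_autInducedBy.2 ⟨g, hg.1, fun x => rfl⟩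
      have h1 := (Subgroup.mem_normalizer_iff.1 hn _).1 hc
      rw [hR] at h1
      exact SatCrit.exists_conj_transfer (χ := (n : MulAut Q)) (c := Q.normalizerMonoidHom ⟨g, hg.2⟩)
        hg.2 (fun x => rfl) h1) hQN
  have hfQ : fimg e Q = Q := (fimg_congr hee).trans (fimg_autFun _)
  have heN : fimg e N = N := Subgroup.eq_of_le_of_card_ge (fimg_le fun x hx =>
    (by
      have h1 := he.map_normalizerIn hQN hx hx.2
      rwa [hfQ] at h1)) he.card_fimg.ge
  obtain ⟨η₀, hη₀, hη₀e⟩ := he.exists_aut heN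
  have hη₀n : ∀ x ∈ Q, autFun η₀ x = autFun (n : MulAut Q) x := fun x hx =>
    (hη₀e x (hQN hx)).trans (hee x hx)
  -- separate the `p`-part
  obtain ⟨j, m, hm, hord⟩ := Nat.exists_eq_pow_mul_and_not_dvd
    (orderOf_pos (⟨η₀, hη₀⟩ : E.autGroup N)).ne' p (Fact.out : p.Prime).ne_one
  have hη₀ord : η₀ ^ (p ^ j * m) = 1 := by
    have := congrArg Subtype.val (pow_orderOf_eq_one (⟨η₀, hη₀⟩ : E.autGroup N))
    rwa [hord] at this
  have hnord : n ^ (p ^ j * m) = 1 := Subtype.ext (mulAut_ext fun x hx => by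
    rw [SubmonoidClass.coe_pow, ← autFun_pow_eq hQN hη₀n _ x hx, hη₀ord, autFun_one (hQN hx),
      OneMemClass.coe_one, autFun_one hx])
  have hmp : m.Coprime p := ((Fact.out : p.Prime).coprime_iff_not_dvd.2 hm).symm
  have hpow : n ^ m ∈ K := by
    have hp' : IsPGroup p (Subgroup.zpowers (n ^ m)) := by
      rintro ⟨y, hy⟩
      obtain ⟨i, rfl⟩ := mem_zpowers_iff.1 hy
      refine ⟨j, Subtype.ext ?_⟩
      show ((n ^ m) ^ i) ^ p ^ j = 1
      rw [← zpow_natCast, ← zpow_mul, mul_comm, zpow_mul, zpow_natCast, ← pow_mul, mul_comm m,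
        hnord, one_zpow]
    have hle : Subgroup.zpowers (n ^ m) ≤ Subgroup.normalizer ((R : Subgroup (E.autGroup Q)) : Set (E.autGroup Q)) :=
      zpowers_le.2 (pow_mem hn m)
    have hsup : IsPGroup p (Subgroup.zpowers (n ^ m) ⊔ (R : Subgroup (E.autGroup Q)) : Subgroup (E.autGroup Q)) :=
      hp'.to_sup_of_normal_right' R.2 hle
    exact hRK (R.is_maximal' hsup le_sup_right ▸ Subgroup.mem_sup_left (mem_zpowers _))
  suffices h : n ^ p ^ j ∈ K by
    have hgcd : n = (n ^ p ^ j) ^ ((p ^ j : ℕ).gcdA m) * (n ^ m) ^ ((p ^ j : ℕ).gcdB m) := by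
      rw [← zpow_natCast n (p ^ j), ← zpow_natCast n m, ← zpow_mul, ← zpow_mul, ← zpow_add,
        ← Nat.gcd_eq_gcd_ab, Nat.Coprime.gcd_eq_one ((hmp.pow_right j).symm), Nat.cast_one, zpow_one]
    rw [hgcd]
    exact mul_mem (zpow_mem h _) (zpow_mem hpow _)
  -- an automorphism of `N` of order prime to `p`
  set η := η₀ ^ p ^ j with hηdef
  have hηE : η ∈ E.autGroup N := pow_mem hη₀ _
  have hηm : η ^ m = 1 := by rw [hηdef, ← pow_mul, hη₀ord]
  set n₁ : MulAut Q := ((n ^ p ^ j : (E.autGroup Q)) : MulAut Q) with hn₁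
  have hηn : ∀ x ∈ Q, autFun η x = autFun n₁ x := fun x hx => by
    rw [hn₁, SubmonoidClass.coe_pow]
    exact autFun_pow_eq hQN hη₀n _ x hx
  show Triv F T Q n₁
  -- a map on `N C_S(Q)` inducing it
  have hrQ := receptive_of_fullyNormalized hS hF hQn
  have hn₁F : IsMap F Q (autFun n₁) := (mem_autGroup hQS).1 (autGroup_mono hEF Q (n ^ p ^ j : (E.autGroup Q)).2)
  have hηm' : IsMap E N (autFun η) := (mem_autGroup hNT).1 hηE
  have hηF : IsMap F N (autFun η) := hηm'.mono hEF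
  obtain ⟨φ₁, hφ₁, hφ₁e⟩ := hn₁F.exists_hom
  have hφ₁' : ∀ x ∈ Q, toFun φ₁ x = autFun n₁ x := fun x hx =>
    (toFun_apply φ₁ hx).trans (hφ₁e ⟨x, hx⟩)
  have hext : N ⊔ C ≤ extender S Q φ₁ := by
    refine sup_le (fun t ht => ?_) (fun c hc => ?_)
    · refine mem_extender.2 ⟨hTS ht.1, ht.2, autFun η t, hηF.apply_mem ht, fun x hx => ?_⟩
      have htx := (Subgroup.mem_normalizer_iff.1 ht.2 x).1 hx
      rw [hφ₁' _ htx, hφ₁' x hx, ← hηn _ htx, ← hηn x hx, hηF.map_conj ht (hQN hx)]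
    · refine mem_extender.2 ⟨hc.1, (hCQ hc).2, 1, S.one_mem, fun x hx => ?_⟩
      rw [show c * x * c⁻¹ = x by rw [← (mem_centralizerIn.1 hc).2 x hx, mul_inv_cancel_right]]
      group
  obtain ⟨e₁, he₁, he₁e⟩ := receptive_extend hrQ hn₁F (fimg_autFun _) (N := N ⊔ C) (fun g hg => by
    obtain ⟨h1, h2, i, hi, hie⟩ := mem_extender.1 (hext hg)
    refine ⟨⟨h1, h2⟩, i, hi, fun x hx => ?_⟩
    rw [← hφ₁' x hx, ← hφ₁' _ ((Subgroup.mem_normalizer_iff.1 h2 x).1 hx)]
    exact hie x hx) (hQN.trans le_sup_left)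
  have he₁Q : fimg e₁ Q = Q := (fimg_congr he₁e).trans (fimg_autFun _)
  have he₁N : fimg e₁ N = N := Subgroup.eq_of_le_of_card_ge (fimg_le fun x hx =>
    ⟨StronglyClosed.apply_mem hT (he₁.res le_sup_left) hNT hx,
      (he₁Q ▸ he₁.map_normalizerIn (hQN.trans le_sup_left) (Subgroup.mem_sup_left hx) hx.2).2⟩)
    (he₁.res le_sup_left).card_fimg.ge
  -- correct it by an element of `C_S(Q)`
  obtain ⟨ε, hε, hεe⟩ := (he₁.res le_sup_left).exists_aut he₁N
  obtain ⟨Tσ, hTσ⟩ := hsy.exists_sylow hS hNS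
  let fixQ : Subgroup (SatCrit.stabSub F N Q) :=
    { carrier := {ξ | ∀ x ∈ Q, autFun (ξ : MulAut N) x = x}
      one_mem' := fun x hx => autFun_one (hQN hx)
      mul_mem' := fun {a a'} ha ha' x hx => by
        rw [Subgroup.coe_mul, autFun_mul _ _ (hQN hx), ha' x hx, ha x hx]
      inv_mem' := fun {a} ha x hx => by
        conv_lhs => rw [← ha x hx]
        exact autFun_inv_apply _ (hQN hx) }
  have hfixn : fixQ.Normal := ⟨fun a ha g x hx => by
    have hgx : autFun ((g⁻¹ : SatCrit.stabSub F N Q) : MulAut N) x ∈ Q := by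
      have h1 := apply_mem_fimg (autFun ((g⁻¹ : SatCrit.stabSub F N Q) : MulAut N)) hx
      rwa [(g⁻¹).2.2.fimg_eq hQN hQN] at h1
    rw [Subgroup.coe_mul, Subgroup.coe_mul, autFun_mul _ _ (hQN hx), autFun_mul _ _ (autFun_mem _ (hQN hx)),
      ha _ hgx, ← autFun_mul _ _ (hQN hx), Subgroup.coe_inv, mul_inv_cancel, autFun_one (hQN hx)]⟩
  have hfixp : IsPGroup p fixQ := by
    intro ξ
    obtain ⟨i, hi⟩ := (hS.to_le hQS).exists_card_eq
    refine ⟨i, Subtype.ext (Subtype.ext ?_)⟩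
    rw [SubmonoidClass.coe_pow, SubmonoidClass.coe_pow, OneMemClass.coe_one, OneMemClass.coe_one,
      ← hi]
    refine SatCrit.pow_card_eq_one_of_fix (S := T) hQN hNT (fun x hx => hx.2)
      (centralizerIn_le_of_centric hQ) fun x hx => Subtype.ext ?_
    rw [← autFun_coe]
    exact ξ.2 x hx
  have hδ : η⁻¹ * ε ∈ SatCrit.stabSub F N Q :=
    ⟨mul_mem (Subgroup.inv_mem _ (autGroup_mono hEF N hηE)) hε, by
      refine SatCrit.Moves.mul (B := Q) (SatCrit.Moves.inv ?_) ?_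
      · have h0 := SatCrit.moves_fimg η hQN
        rwa [show fimg (autFun η) Q = Q by rw [fimg_congr hηn, fimg_autFun]] at h0
      · have h0 := SatCrit.moves_fimg ε hQN
        rwa [show fimg (autFun ε) Q = Q by
          rw [fimg_congr fun x hx => hεe x (hQN hx), he₁Q]] at h0⟩
  have hδfix : (⟨_, hδ⟩ : SatCrit.stabSub F N Q) ∈ fixQ := fun x hx => by
    show autFun (η⁻¹ * ε) x = x
    rw [autFun_mul _ _ (hQN hx), hεe x (hQN hx), he₁e x hx, ← hηn x hx,
      autFun_inv_apply η (hQN hx)]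
  have hδT := hfixp.le_sylow_of_normal Tσ hδfix
  rw [hTσ] at hδT
  obtain ⟨s, hs, hse⟩ := mem_autInducedBy.1 hδT
  have hse' : ∀ x ∈ N, e₁ x = autFun η (s * x * s⁻¹) := fun x hx => by
    rw [← hεe x hx, show s * x * s⁻¹ = autFun (η⁻¹ * ε) x from
      (((hse ⟨x, hx⟩).symm).trans (autFun_coe _ ⟨x, hx⟩).symm), ← autFun_mul _ _ hx,
      mul_inv_cancel_left]
  have hsC : s ∈ C := mem_centralizerIn.2 ⟨hs, fun x hx => by
    have h1 : s * x * s⁻¹ = x := by
      rw [show s * x * s⁻¹ = autFun (η⁻¹ * ε) x from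
        (((hse ⟨x, hQN hx⟩).symm).trans (autFun_coe _ ⟨x, hQN hx⟩).symm)]
      exact hδfix x hx
    exact (mul_inv_eq_iff_eq_mul.1 h1).symm⟩
  set W := N ⊔ C with hWdef
  have hWle : W ≤ normalizerIn S Q := sup_le hNSQ hCQ
  have hsW : ∀ z ∈ W, s⁻¹ * z * s ∈ W := fun z hz =>
    mul_mem (mul_mem (Subgroup.inv_mem _ (Subgroup.mem_sup_right hsC)) hz) (Subgroup.mem_sup_right hsC)
  set e₂ : Ω → Ω := fun z => e₁ (s⁻¹ * z * s) with he₂def
  have he₂ : IsMap F W e₂ := by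
    have := (isMap_conj F (hWle.trans inf_le_left) (S.inv_mem hs) (P := W)).comp he₁
      fun z hz => by rw [inv_inv]; exact hsW z hz
    exact this.congr fun z _ => by show e₁ (s⁻¹ * z * s⁻¹⁻¹) = _; rw [inv_inv]
  have he₂η : ∀ x ∈ N, e₂ x = autFun η x := fun x hx => by
    have hx' : s⁻¹ * x * s ∈ N := (Subgroup.mem_normalizer_iff''.1 (hnormN s (hCQ hsC)) x).1 hx
    show e₁ _ = _
    rw [hse' _ hx', show s * (s⁻¹ * x * s) * s⁻¹ = x by group]
  have he₂C : ∀ c ∈ C, e₂ c ∈ C := fun c hc =>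
    apply_mem_centralizer he₂ (hQN.trans le_sup_left)
      (fun x hx => (he₂η x (hQN hx)).trans (hηn x hx)) hc (Subgroup.mem_sup_right hc)
  -- its action on `C_S(Q)` modulo `C_S(N)`
  have key : ∀ c ∈ C, ∃ v ∈ D, (c⁻¹ * e₂ c) * v⁻¹ ∈ T := by
    intro c hc
    set k := e₂ c with hk
    have hkC := he₂C c hc
    let cn : ∀ y ∈ C, MulAut N := fun y hy => N.normalizerMonoidHom ⟨y, hnormN y (hCQ hy)⟩
    have hcF : ∀ y (hy : y ∈ C), cn y hy ∈ F.autGroup N := fun y hy =>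
      autInducedBy_le_autGroup F hNS (mem_autInducedBy.2 ⟨y, hy.1, fun _ => rfl⟩)
    have hkc : k * c⁻¹ ∈ C := C.mul_mem hkC (C.inv_mem hc)
    have hχ : η * (cn c hc * η⁻¹ * (cn c hc)⁻¹) = cn (k * c⁻¹) hkc := by
      refine mulAut_ext fun x hx => ?_
      have hcx : c⁻¹ * x * c ∈ N := (Subgroup.mem_normalizer_iff''.1 (hnormN c (hCQ hc)) x).1 hx
      have hy := autFun_mem η⁻¹ hcx
      rw [autFun_mul _ _ hx, autFun_mul _ _ hx, autFun_mul _ _ (autFun_mem _ hx),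
        show autFun (cn c hc)⁻¹ x = c⁻¹ * x * c by
          rw [← map_inv, show autFun (N.normalizerMonoidHom (⟨c, hnormN c (hCQ hc)⟩⁻¹)) x = _ from
            autFun_coe _ ⟨x, hx⟩, normalizerMonoidHom_apply]
          show c⁻¹ * x * c⁻¹⁻¹ = _
          rw [inv_inv],
        show autFun (cn c hc) (autFun η⁻¹ (c⁻¹ * x * c)) = c * autFun η⁻¹ (c⁻¹ * x * c) * c⁻¹ from
          autFun_coe _ ⟨_, hy⟩,
        show autFun (cn (k * c⁻¹) hkc) x = k * c⁻¹ * x * (k * c⁻¹)⁻¹ from autFun_coe _ ⟨x, hx⟩,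
        ← he₂η _ ((Subgroup.mem_normalizer_iff.1 (hnormN c (hCQ hc)) _).1 hy),
        he₂.map_conj (Subgroup.mem_sup_right hc) (Subgroup.mem_sup_left hy), he₂η _ hy,
        ← autFun_mul _ _ hcx, mul_inv_cancel, autFun_one hcx, ← hk]
      group
    have hχE : cn (k * c⁻¹) hkc ∈ E.autGroup N := hχ ▸ mul_mem hηE
      (autGroup_conj_mem hinv hNT (hcF c hc) (Subgroup.inv_mem _ hηE))
    obtain ⟨t, ht, hte⟩ := mem_autInducedBy.1 (inducedBy_of_mem hS hTS hEs hNEn hχE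
      (mem_autInducedBy.2 ⟨_, hkc.1, fun _ => rfl⟩))
    have htk : t⁻¹ * (k * c⁻¹) ∈ D := mem_centralizerIn.2
      ⟨S.mul_mem (S.inv_mem (hTS ht)) hkc.1, fun x hx => by
        have h1 : t * x * t⁻¹ = k * c⁻¹ * x * (k * c⁻¹)⁻¹ :=
          ((hte ⟨x, hx⟩).symm).trans (rfl : _)
        calc x * (t⁻¹ * (k * c⁻¹)) = t⁻¹ * (t * x * t⁻¹) * (k * c⁻¹) := by group
          _ = t⁻¹ * (k * c⁻¹) * x := by rw [h1]; group⟩
    refine ⟨c⁻¹ * (t⁻¹ * (k * c⁻¹)) * c, mem_centralizerIn.2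
      ⟨S.mul_mem (S.mul_mem (S.inv_mem hc.1) htk.1) hc.1, fun x hx => ?_⟩, ?_⟩
    · have hx' := (Subgroup.mem_normalizer_iff.1 (hnormN c (hCQ hc)) x).1 hx
      have h2 := (mem_centralizerIn.1 htk).2 _ hx'
      calc x * (c⁻¹ * (t⁻¹ * (k * c⁻¹)) * c)
          = c⁻¹ * ((c * x * c⁻¹) * (t⁻¹ * (k * c⁻¹))) * c := by group
        _ = c⁻¹ * (t⁻¹ * (k * c⁻¹)) * c * x := by rw [h2]; group
    · rw [show c⁻¹ * k * (c⁻¹ * (t⁻¹ * (k * c⁻¹)) * c)⁻¹ = c⁻¹ * t * c by group]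
      simpa using StronglyClosed.conj_mem' hT (S.inv_mem hc.1) ht
  -- the extension to `U = N C_S(N)`
  obtain ⟨g, hg, hge, hgD⟩ := big η hηE
  set U := N ⊔ D with hUdef
  have hgU : fimg g U = U := fimg_sup_centralizer hNS hg hge
  have hUS : U ≤ S := sup_le hNS inf_le_left
  haveI := finite_of_le hUS
  obtain ⟨ξ₀, hξ₀, hξ₀e⟩ := hg.exists_aut hgU
  obtain ⟨i, mξ, hmξ, hξord, hηi⟩ := exists_coprime_power (⟨ξ₀, hξ₀⟩ : F.autGroup U) hmp hηm
  set ξ := ξ₀ ^ i with hξdef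
  have hξ : ξ ∈ F.autGroup U := pow_mem hξ₀ _
  have hξη : ∀ x ∈ N, autFun ξ x = autFun η x := fun x hx => by
    rw [hξdef, autFun_pow_eq le_sup_left (fun y hy => (hξ₀e y (Subgroup.mem_sup_left hy)).trans
      (hge y hy)) i x hx, hηi]
  have hξD : ∀ y ∈ D, y⁻¹ * autFun ξ y ∈ T := by
    rw [hξdef]
    clear hξdef hηi hξord hξη hξ ξ
    intro y hy
    induction i generalizing y with
    | zero => rw [pow_zero, autFun_one (Subgroup.mem_sup_right hy), inv_mul_cancel]; exact T.one_mem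
    | succ l ih =>
      have hyU : y ∈ U := Subgroup.mem_sup_right hy
      rw [pow_succ, autFun_mul _ _ hyU, hξ₀e y hyU,
        show y⁻¹ * autFun (ξ₀ ^ l) (g y) = (y⁻¹ * g y) * ((g y)⁻¹ * autFun (ξ₀ ^ l) (g y)) by group]
      exact T.mul_mem (hgD y hy) (ih _ (apply_mem_centralizer hg le_sup_left hge hy hyU))
  -- `U` is fully normalized
  have hUT : U ⊓ T = N := by
    refine le_antisymm (fun x hx => ?_) (le_inf le_sup_left hNT)
    obtain ⟨a, ha, d, hd, rfl⟩ : x ∈ (N : Set Ω) * (D : Set Ω) := by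
      rw [← Subgroup.coe_mul_of_right_le_normalizer_left N D fun d hd =>
        hnormN d (hCQ (hDC hd))]
      exact hx.1
    have hdT : d ∈ T := by simpa using T.mul_mem (T.inv_mem (hNT ha)) hx.2
    exact N.mul_mem ha (hQN (hCT d (hDC hd) hdT))
  have hUn : F.IsFullyNormalized U := by
    refine ⟨hUS, fun U' hU' => ?_⟩
    obtain ⟨f, hf, rfl⟩ := isConj_iff.1 hU'
    have hfN : fimg f U ⊓ T = fimg f N := by
      rw [← hUT]; exact (InvClass.fimg_inf hT hf).symm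
    haveI : Finite ↥(normalizerIn S U) := finite_of_le (S := S) inf_le_left
    haveI : Finite ↥(normalizerIn S (fimg f N)) := finite_of_le (S := S) inf_le_left
    refine (Subgroup.card_le_of_le (K := normalizerIn S (fimg f N)) ?_).trans
      ((hNn.2 _ (hf.res le_sup_left).isConj).trans (Subgroup.card_le_of_le ?_))
    · rw [← hfN]
      exact fun y hy => ⟨hy.1, mem_normalizer_of_forall
        (fun x hx => ⟨(Subgroup.mem_normalizer_iff.1 hy.2 x).1 hx.1,
          StronglyClosed.conj_mem' hT hy.1 hx.2⟩)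
        (fun x hx => ⟨(Subgroup.mem_normalizer_iff''.1 hy.2 x).1 hx.1,
          by simpa using StronglyClosed.conj_mem' hT (S.inv_mem hy.1) hx.2⟩)⟩
    · intro y hy
      refine ⟨hy.1, mem_normalizer_of_forall (fun x hx => ?_) fun x hx => ?_⟩
      · have h1 := apply_mem_fimg (fun z => y * z * y⁻¹) hx
        rw [(isMap_conj F hUS hy.1).fimg_sup] at h1
        refine sup_le_sup (fimg_le fun a ha => (Subgroup.mem_normalizer_iff.1 hy.2 a).1 ha)
          (fimg_le fun d (hd : d ∈ centralizerIn S N) => mem_centralizerIn.2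
            ⟨S.mul_mem (S.mul_mem hy.1 hd.1) (S.inv_mem hy.1), fun a ha => ?_⟩) h1
        have ha' := (Subgroup.mem_normalizer_iff''.1 hy.2 a).1 ha
        calc a * (y * d * y⁻¹) = y * (y⁻¹ * a * y * d) * y⁻¹ := by group
          _ = y * (d * (y⁻¹ * a * y)) * y⁻¹ := by rw [(mem_centralizerIn.1 hd).2 _ ha']
          _ = y * d * y⁻¹ * a := by group
      · have h1 := apply_mem_fimg (fun z => y⁻¹ * z * y⁻¹⁻¹) hx
        rw [(isMap_conj F hUS (S.inv_mem hy.1)).fimg_sup] at h1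
        simp only [inv_inv] at h1
        refine sup_le_sup (fimg_le fun a ha => (Subgroup.mem_normalizer_iff''.1 hy.2 a).1 ha)
          (fimg_le fun d (hd : d ∈ centralizerIn S N) => mem_centralizerIn.2
            ⟨S.mul_mem (S.mul_mem (S.inv_mem hy.1) hd.1) hy.1, fun a ha => ?_⟩) h1
        have ha' := (Subgroup.mem_normalizer_iff.1 hy.2 a).1 ha
        calc a * (y⁻¹ * d * y) = y⁻¹ * (y * a * y⁻¹ * d) * y := by group
          _ = y⁻¹ * (d * (y * a * y⁻¹)) * y := by rw [(mem_centralizerIn.1 hd).2 _ ha']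
          _ = y⁻¹ * d * y * a := by group
  have hξm : IsMap F U (autFun ξ) := (mem_autGroup hUS).1 hξ
  have hξmem : ∀ y ∈ D, autFun ξ y ∈ D := fun y hy =>
    apply_mem_centralizer hξm le_sup_left hξη hy (Subgroup.mem_sup_right hy)
  -- the stabilizers of `N` acting trivially modulo `T`
  let V : Subgroup (F.autGroup U) :=
    { carrier := {ω | (∀ x ∈ N, autFun (ω : MulAut U) x = x) ∧
        ∀ y ∈ D, y⁻¹ * autFun (ω : MulAut U) y ∈ T}
      one_mem' := ⟨fun x hx => autFun_one (Subgroup.mem_sup_left hx),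
        fun y hy => by
          rw [OneMemClass.coe_one, autFun_one (Subgroup.mem_sup_right hy), inv_mul_cancel]
          exact T.one_mem⟩
      mul_mem' := fun {a a'} ha ha' => ⟨fun x hx => by
          rw [Subgroup.coe_mul, autFun_mul _ _ (Subgroup.mem_sup_left hx), ha'.1 x hx, ha.1 x hx],
        fun y hy => by
          have hyU : y ∈ U := Subgroup.mem_sup_right hy
          have hm' : IsMap F U (autFun (a' : MulAut U)) := (mem_autGroup hUS).1 a'.2
          have h2 := apply_mem_centralizer hm' le_sup_left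
            (α := (1 : MulAut N)) (fun x hx => (ha'.1 x hx).trans (autFun_one hx).symm) hy hyU
          rw [Subgroup.coe_mul, autFun_mul _ _ hyU]
          set w := autFun (a' : MulAut U) y
          rw [show y⁻¹ * autFun (a : MulAut U) w = (y⁻¹ * w) * (w⁻¹ * autFun (a : MulAut U) w) by
            group]
          exact T.mul_mem (ha'.2 y hy) (ha.2 w h2)⟩
      inv_mem' := fun {a} ha => ⟨fun x hx => by
          conv_lhs => rw [← ha.1 x hx]
          exact autFun_inv_apply _ (Subgroup.mem_sup_left hx),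
        fun y hy => by
          have hyU : y ∈ U := Subgroup.mem_sup_right hy
          have hm' : IsMap F U (autFun (a : MulAut U)⁻¹) :=
            (mem_autGroup hUS).1 (Subgroup.inv_mem _ a.2)
          have h2 := apply_mem_centralizer hm' le_sup_left (α := (1 : MulAut N)) (fun x hx => by
            rw [autFun_one hx]
            conv_lhs => rw [← ha.1 x hx]
            exact autFun_inv_apply _ (Subgroup.mem_sup_left hx)) hy hyU
          have h3 := ha.2 _ h2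
          rw [← autFun_mul _ _ hyU, mul_inv_cancel, autFun_one hyU] at h3
          rw [Subgroup.coe_inv]
          simpa using T.inv_mem h3⟩ }
  have hVn : V.Normal := ⟨fun a ha b => by
    have hbm : IsMap F U (autFun (b : MulAut U)⁻¹) := (mem_autGroup hUS).1 (Subgroup.inv_mem _ b.2)
    have hbm' : IsMap F U (autFun (b : MulAut U)) := (mem_autGroup hUS).1 b.2
    have hbN : fimg (autFun (b : MulAut U)⁻¹) N = N := by
      conv_lhs => rw [← hUT]
      rw [InvClass.fimg_inf hT hbm, fimg_autFun, hUT]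
    refine ⟨fun x hx => ?_, fun y hy => ?_⟩
    · have hxU : x ∈ U := Subgroup.mem_sup_left hx
      rw [Subgroup.coe_mul, Subgroup.coe_mul, autFun_mul _ _ hxU, autFun_mul _ _ (autFun_mem _ hxU),
        Subgroup.coe_inv, ha.1 _ (hbN ▸ apply_mem_fimg _ hx), ← autFun_mul _ _ hxU, mul_inv_cancel,
        autFun_one hxU]
    · have hyU : y ∈ U := Subgroup.mem_sup_right hy
      set w := autFun (b : MulAut U)⁻¹ y with hwdef
      have hwU : w ∈ U := autFun_mem _ hyU
      have hwD : w ∈ D := by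
        have h1 := hbm.map_centralizerIn (P := N) le_sup_left hyU hy.2
        rwa [hbN] at h1
      have hyw : y = autFun (b : MulAut U) w := by
        rw [hwdef, ← autFun_mul _ _ hyU, mul_inv_cancel, autFun_one hyU]
      rw [Subgroup.coe_mul, Subgroup.coe_mul, autFun_mul _ _ hyU, autFun_mul _ _ (autFun_mem _ hyU),
        Subgroup.coe_inv, ← hwdef, hyw, ← hbm'.map_inv hwU,
        ← hbm'.map_mul (Subgroup.inv_mem _ hwU) (autFun_mem _ hwU)]
      exact StronglyClosed.apply_mem hT (hbm'.res (inf_le_right : T ⊓ U ≤ _)) inf_le_left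
        ⟨ha.2 w hwD, mul_mem (Subgroup.inv_mem _ hwU) (autFun_mem _ hwU)⟩⟩
  have hVp : IsPGroup p V := by
    intro a
    obtain ⟨l, hl⟩ := (hS.to_le hUS).exists_card_eq
    refine ⟨l, Subtype.ext (Subtype.ext (mulAut_ext fun x hx => ?_))⟩
    rw [SubmonoidClass.coe_pow, SubmonoidClass.coe_pow, OneMemClass.coe_one, OneMemClass.coe_one,
      autFun_one hx]
    set α : MulAut U := ((a : F.autGroup U) : MulAut U)
    have hαm : IsMap F U (autFun α) := (mem_autGroup hUS).1 (a : F.autGroup U).2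
    obtain ⟨u, hu, d, hd, rfl⟩ : x ∈ (N : Set Ω) * (D : Set Ω) := by
      rw [← Subgroup.coe_mul_of_right_le_normalizer_left N D fun d hd =>
        hnormN d (hCQ (hDC hd))]
      exact hx
    have hdU : d ∈ U := Subgroup.mem_sup_right hd
    have hz : d⁻¹ * autFun α d ∈ N := by
      rw [← hUT]
      exact ⟨mul_mem (Subgroup.inv_mem _ hdU) (autFun_mem _ hdU), a.2.2 d hd⟩
    have hit : ∀ r : ℕ, autFun (α ^ r) d = d * (d⁻¹ * autFun α d) ^ r := by
      intro r
      induction r with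
      | zero => rw [pow_zero, autFun_one hdU, pow_zero, mul_one]
      | succ r ihr =>
        rw [pow_succ', autFun_mul _ _ hdU, ihr, hαm.map_mul hdU
          (Subgroup.mem_sup_left (pow_mem hz r)), a.2.1 _ (pow_mem hz r), pow_succ', ← mul_assoc]
        congr 1
        group
    have hfx : ∀ r : ℕ, autFun (α ^ r) u = u := by
      intro r
      induction r with
      | zero => rw [pow_zero, autFun_one (Subgroup.mem_sup_left hu)]
      | succ r ihr => rw [pow_succ', autFun_mul _ _ (Subgroup.mem_sup_left hu), ihr, a.2.1 u hu]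
    have hpm : IsMap F U (autFun (α ^ p ^ l)) :=
      (mem_autGroup hUS).1 (pow_mem (a : F.autGroup U).2 _)
    rw [hpm.map_mul (Subgroup.mem_sup_left hu) hdU, hfx, hit, ← hl]
    have h1 : (⟨_, Subgroup.mem_sup_left hz⟩ : U) ^ Nat.card U = 1 := pow_card_eq_one'
    have h2 : (d⁻¹ * autFun α d) ^ Nat.card U = 1 := congrArg Subtype.val h1
    rw [h2, mul_one]
  -- extend `ξ` over `C_S(Q)`
  obtain ⟨-, Tu, hTu⟩ := fullyAutomized_of_fullyNormalized hS hF hUn
  haveI := hVn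
  have hVT : V ≤ (autInducedBy S U).subgroupOf (F.autGroup U) :=
    hTu ▸ hVp.le_sylow_of_normal Tu
  obtain ⟨φ₂, hφ₂, hφ₂e⟩ := hξm.exists_hom
  have hφ₂' : ∀ x ∈ U, toFun φ₂ x = autFun ξ x := fun x hx =>
    (toFun_apply φ₂ hx).trans (hφ₂e ⟨x, hx⟩)
  have hnormU : ∀ c ∈ C, c ∈ Subgroup.normalizer (U : Set Ω) := by
    have h1 : ∀ c ∈ C, ∀ x ∈ U, c * x * c⁻¹ ∈ U := fun c hc x hx => by
      have h2 := apply_mem_fimg (fun z => c * z * c⁻¹) hx
      rw [(isMap_conj F hUS hc.1).fimg_sup] at h2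
      refine sup_le_sup (fimg_le fun a ha =>
        (Subgroup.mem_normalizer_iff.1 (hnormN c (hCQ hc)) a).1 ha)
        (fimg_le fun d (hd : d ∈ centralizerIn S N) => mem_centralizerIn.2
          ⟨S.mul_mem (S.mul_mem hc.1 hd.1) (S.inv_mem hc.1), fun a ha => ?_⟩) h2
      have ha' := (Subgroup.mem_normalizer_iff''.1 (hnormN c (hCQ hc)) a).1 ha
      calc a * (c * d * c⁻¹) = c * (c⁻¹ * a * c * d) * c⁻¹ := by group
        _ = c * (d * (c⁻¹ * a * c)) * c⁻¹ := by rw [(mem_centralizerIn.1 hd).2 _ ha']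
        _ = c * d * c⁻¹ * a := by group
    exact fun c hc => mem_normalizer_of_forall (h1 c hc) fun x hx => by
      simpa using h1 c⁻¹ (C.inv_mem hc) x hx
  haveI : (T.subgroupOf S).Normal :=
    ⟨fun t ht s => StronglyClosed.conj_mem' hT s.2 ht⟩
  let π := QuotientGroup.mk' (T.subgroupOf S)
  have hπ : ∀ (a b : Ω) (ha : a ∈ S) (hb : b ∈ S), a⁻¹ * b ∈ T → π ⟨a, ha⟩ = π ⟨b, hb⟩ :=
    fun a b ha hb h => QuotientGroup.eq.2 h
  have hπ' : ∀ (a b : Ω) (ha : a ∈ S) (hb : b ∈ S), π ⟨a, ha⟩ = π ⟨b, hb⟩ → a⁻¹ * b ∈ T :=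
    fun a b ha hb h =>
      (QuotientGroup.eq (s := T.subgroupOf S) (a := (⟨a, ha⟩ : S)) (b := ⟨b, hb⟩)).1 h
  have hextU : U ⊔ C ≤ extender S U φ₂ := by
    refine sup_le (le_extender hφ₂) fun c hc => ?_
    set k := e₂ c with hk
    have hkC := he₂C c hc
    obtain ⟨v, hv, hvT⟩ := key c hc
    refine mem_extender.2 ⟨hc.1, hnormU c hc, ?_⟩
    have hπk : π ⟨k, hkC.1⟩ = π ⟨c, hc.1⟩ * π ⟨v, hv.1⟩ := by
      rw [← map_mul]
      refine hπ k (c * v) hkC.1 (S.mul_mem hc.1 hv.1) ?_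
      rw [show k⁻¹ * (c * v) = v⁻¹ * ((c⁻¹ * k) * v⁻¹)⁻¹ * v⁻¹⁻¹ by group]
      exact StronglyClosed.conj_mem' hT (S.inv_mem hv.1) (T.inv_mem hvT)
    let cU : ∀ y ∈ C, F.autGroup U := fun y hy => ⟨U.normalizerMonoidHom ⟨y, hnormU y hy⟩,
      autInducedBy_le_autGroup F hUS (mem_autInducedBy.2 ⟨y, hy.1, fun _ => rfl⟩)⟩
    have hcUe : ∀ y (hy : y ∈ C), ∀ x ∈ U, autFun (cU y hy : MulAut U) x = y * x * y⁻¹ :=
      fun y hy x hx => autFun_coe _ ⟨x, hx⟩
    set ξ' : F.autGroup U := ⟨ξ, hξ⟩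
    set ω := cU v (hDC hv) * ((cU k hkC)⁻¹ * (ξ' * cU c hc * ξ'⁻¹)) with hω
    have hcUi : ∀ y (hy : y ∈ C), ∀ x ∈ U,
        autFun ((cU y hy)⁻¹ : F.autGroup U).1 x = y⁻¹ * x * y := fun y hy x hx => by
      have h1 := (Subgroup.mem_normalizer_iff''.1 (hnormU y hy) x).1 hx
      conv_lhs => rw [show x = autFun (cU y hy : MulAut U) (y⁻¹ * x * y) by
        rw [hcUe y hy _ h1]; group]
      rw [Subgroup.coe_inv, autFun_inv_apply _ h1]
    have hωe : ∀ x ∈ U, ∀ w, w = autFun ξ⁻¹ x → autFun (ω : MulAut U) x =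
        v * (k⁻¹ * autFun ξ (c * w * c⁻¹) * k) * v⁻¹ := by
      intro x hx w hw
      have hwU : w ∈ U := hw ▸ autFun_mem _ hx
      have h1 := (Subgroup.mem_normalizer_iff.1 (hnormU c hc) w).1 hwU
      have h2 := (Subgroup.mem_normalizer_iff''.1 (hnormU k hkC) _).1 (autFun_mem ξ h1)
      rw [hω, Subgroup.coe_mul, Subgroup.coe_mul, Subgroup.coe_mul, Subgroup.coe_mul,
        autFun_mul _ _ hx, autFun_mul _ _ hx, autFun_mul _ _ hx, autFun_mul _ _ (autFun_mem _ hx),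
        show ((ξ'⁻¹ : F.autGroup U) : MulAut U) = ξ⁻¹ from rfl, ← hw, hcUe c hc w hwU,
        hcUi k hkC _ (autFun_mem ξ h1), hcUe v (hDC hv) _ h2]
    have hωV : ω ∈ V := by
      refine ⟨fun x hx => ?_, fun y hy => ?_⟩
      · have hxU : x ∈ U := Subgroup.mem_sup_left hx
        have hy : autFun η⁻¹ x ∈ N := autFun_mem _ hx
        have hw : autFun η⁻¹ x = autFun ξ⁻¹ x := by
          conv_rhs => rw [show x = autFun η (autFun η⁻¹ x) by
            rw [← autFun_mul _ _ hx, mul_inv_cancel, autFun_one hx]]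
          rw [← hξη _ hy, autFun_inv_apply _ (Subgroup.mem_sup_left hy)]
        have hcy := (Subgroup.mem_normalizer_iff.1 (hnormN c (hCQ hc)) _).1 hy
        rw [hωe x hxU _ hw, hξη _ hcy, ← he₂η _ hcy,
          he₂.map_conj (Subgroup.mem_sup_right hc) (Subgroup.mem_sup_left hy), he₂η _ hy,
          ← autFun_mul _ _ hx, mul_inv_cancel, autFun_one hx, ← hk,
          show k⁻¹ * (k * x * k⁻¹) * k = x by group,
          ← (mem_centralizerIn.1 hv).2 x hx, mul_inv_cancel_right]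
      · have hyU : y ∈ U := Subgroup.mem_sup_right hy
        obtain ⟨w, hwdef⟩ : ∃ w, w = autFun ξ⁻¹ y := ⟨_, rfl⟩
        have hwU : w ∈ U := hwdef ▸ autFun_mem _ hyU
        have hξw : autFun ξ w = y := by
          rw [hwdef, ← autFun_mul _ _ hyU, mul_inv_cancel, autFun_one hyU]
        have hwD : w ∈ D := by
          have h1 := ((mem_autGroup hUS).1 (Subgroup.inv_mem _ hξ) :
            IsMap F U (autFun ξ⁻¹)).map_centralizerIn (P := N) le_sup_left hyU hy.2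
          rwa [← hwdef, show fimg (autFun ξ⁻¹) N = N by
            conv_lhs => rw [← hUT]
            rw [InvClass.fimg_inf hT ((mem_autGroup hUS).1 (Subgroup.inv_mem _ hξ)), fimg_autFun,
              hUT]] at h1
        have hcw : c * w * c⁻¹ ∈ D := mem_centralizerIn.2
          ⟨S.mul_mem (S.mul_mem hc.1 hwD.1) (S.inv_mem hc.1), fun a ha => by
            have ha' := (Subgroup.mem_normalizer_iff''.1 (hnormN c (hCQ hc)) a).1 ha
            calc a * (c * w * c⁻¹) = c * (c⁻¹ * a * c * w) * c⁻¹ := by group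
              _ = c * (w * (c⁻¹ * a * c)) * c⁻¹ := by rw [(mem_centralizerIn.1 hwD).2 _ ha']
              _ = c * w * c⁻¹ * a := by group⟩
        rw [hωe y hyU w hwdef]
        have hξcw := hξmem _ hcw
        refine hπ' y _ hy.1 (S.mul_mem (S.mul_mem hv.1 (S.mul_mem (S.mul_mem (S.inv_mem hkC.1)
          hξcw.1) hkC.1)) (S.inv_mem hv.1)) ?_
        have e1 : π ⟨y, hy.1⟩ = π ⟨w, hwD.1⟩ :=
          (hπ _ _ hwD.1 hy.1 (by have := hξD w hwD; rwa [hξw] at this)).symm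
        have e2 : π ⟨autFun ξ (c * w * c⁻¹), hξcw.1⟩ = π ⟨c, hc.1⟩ * π ⟨w, hwD.1⟩ * (π ⟨c, hc.1⟩)⁻¹ := by
          rw [← map_inv, ← map_mul, ← map_mul]
          exact (hπ _ _ hcw.1 hξcw.1 (hξD _ hcw)).symm
        show π ⟨y, hy.1⟩ = π (⟨v, hv.1⟩ * (⟨k, hkC.1⟩⁻¹ * ⟨_, hξcw.1⟩ * ⟨k, hkC.1⟩) * ⟨v, hv.1⟩⁻¹)
        simp only [map_mul, map_inv, hπk, e1, e2]
        group
    have hωS : ω ∈ (autInducedBy S U).subgroupOf (F.autGroup U) := hVT hωV
    have hcS : ∀ y (hy : y ∈ C), cU y hy ∈ (autInducedBy S U).subgroupOf (F.autGroup U) :=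
      fun y hy => mem_autInducedBy.2 ⟨y, hy.1, fun _ => rfl⟩
    have hconj : ξ' * cU c hc * ξ'⁻¹ ∈ (autInducedBy S U).subgroupOf (F.autGroup U) := by
      rw [show ξ' * cU c hc * ξ'⁻¹ = cU k hkC * ((cU v (hDC hv))⁻¹ * ω) by rw [hω]; group]
      exact mul_mem (hcS k hkC) (mul_mem (Subgroup.inv_mem _ (hcS v (hDC hv))) hωS)
    obtain ⟨i', hi', hie⟩ := SatCrit.exists_conj_transfer (χ := ξ) (c := (cU c hc : MulAut U))
      (hnormU c hc) (fun _ => rfl) hconj
    refine ⟨i', hi', fun x hx => ?_⟩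
    rw [hφ₂' x hx, hφ₂' _ ((Subgroup.mem_normalizer_iff.1 (hnormU c hc) x).1 hx)]
    exact hie x hx
  obtain ⟨g₁, hg₁, hg₁e⟩ := receptive_extend (receptive_of_fullyNormalized hS hF hUn) hξm
    (fimg_autFun _) (N := U ⊔ C) (fun a ha => by
      obtain ⟨h1, h2, i', hi', hie⟩ := mem_extender.1 (hextU ha)
      refine ⟨⟨h1, h2⟩, i', hi', fun x hx => ?_⟩
      rw [← hφ₂' x hx, ← hφ₂' _ ((Subgroup.mem_normalizer_iff.1 h2 x).1 hx)]
      exact hie x hx) le_sup_left
  have hWU : U ⊔ C = W := by rw [hUdef, sup_assoc, sup_eq_right.2 hDC, hWdef]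
  rw [hWU] at hg₁
  have hg₁η : ∀ x ∈ N, g₁ x = autFun η x := fun x hx =>
    (hg₁e x (Subgroup.mem_sup_left hx)).trans (hξη x hx)
  have hg₁C : ∀ c ∈ C, g₁ c ∈ C := fun c hc =>
    apply_mem_centralizer hg₁ (hQN.trans le_sup_left)
      (fun x hx => (hg₁η x (hQN hx)).trans (hηn x hx)) hc (Subgroup.mem_sup_right hc)
  have hg₁W : fimg g₁ W = W := by
    haveI : Finite W := finite_of_le hg₁.source_le
    refine Subgroup.eq_of_le_of_card_ge ?_ hg₁.card_fimg.ge
    rw [hWdef, hg₁.fimg_sup]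
    refine sup_le_sup (fimg_le fun x hx => ?_) (fimg_le hg₁C)
    rw [hg₁η x hx]
    exact autFun_mem _ hx
  have hWS : W ≤ S := hg₁.source_le
  haveI := finite_of_le hWS
  obtain ⟨ζ₀, hζ₀, hζ₀e⟩ := hg₁.exists_aut hg₁W
  have hξordm : ξ ^ mξ = 1 := by
    have := congrArg Subtype.val hξord
    simpa [hξdef] using this
  obtain ⟨l, mζ, hmζ, hζord, hξl⟩ := exists_coprime_power (⟨ζ₀, hζ₀⟩ : F.autGroup W) hmξ hξordm
  set ζ := ζ₀ ^ l with hζdef
  have hζξ : ∀ x ∈ U, autFun ζ x = autFun ξ x := fun x hx => by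
    rw [hζdef, autFun_pow_eq (hWU ▸ le_sup_left) (fun y hy => (hζ₀e y (hWU ▸ Subgroup.mem_sup_left hy)).trans
      (hg₁e y hy)) l x hx, hξl]
  have hζm : IsMap F W (autFun ζ) := (mem_autGroup hWS).1 (pow_mem hζ₀ _)
  have hζQ : ∀ x ∈ Q, autFun ζ x = autFun n₁ x := fun x hx =>
    (hζξ x (Subgroup.mem_sup_left (hQN hx))).trans ((hξη x (hQN hx)).trans (hηn x hx))
  refine ⟨autFun ζ, hζm.res (sup_le_sup_right hQN C), hζQ, fun c hc => ?_⟩
  have hcW : c ∈ W := Subgroup.mem_sup_right hc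
  have hk₁C : autFun ζ c ∈ C := apply_mem_centralizer hζm (hQN.trans le_sup_left) hζQ hc hcW
  obtain ⟨v, hv, hvT⟩ := key c hc
  have hkC := he₂C c hc
  -- the difference to `e₂ c` centralizes `N`
  have hrel : ∀ x ∈ N, (autFun ζ c)⁻¹ * x * autFun ζ c = (e₂ c)⁻¹ * x * e₂ c := fun x hx => by
    obtain ⟨w, hw, rfl⟩ : ∃ w ∈ N, autFun η w = x :=
      ⟨autFun η⁻¹ x, autFun_mem _ hx, by rw [← autFun_mul _ _ hx, mul_inv_cancel, autFun_one hx]⟩
    have hwW : w ∈ W := Subgroup.mem_sup_left hw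
    have hz : c⁻¹ * w * c ∈ N := (Subgroup.mem_normalizer_iff''.1 (hnormN c (hCQ hc)) w).1 hw
    have h1 : autFun ζ (c⁻¹ * w * c) = (autFun ζ c)⁻¹ * autFun η w * autFun ζ c := by
      rw [hζm.map_mul (mul_mem (Subgroup.inv_mem _ hcW) hwW) hcW,
        hζm.map_mul (Subgroup.inv_mem _ hcW) hwW, hζm.map_inv hcW,
        hζξ w (Subgroup.mem_sup_left hw), hξη w hw]
    have h2 : e₂ (c⁻¹ * w * c) = (e₂ c)⁻¹ * autFun η w * e₂ c := by
      rw [he₂.map_mul (mul_mem (Subgroup.inv_mem _ hcW) hwW) hcW,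
        he₂.map_mul (Subgroup.inv_mem _ hcW) hwW, he₂.map_inv hcW, he₂η w hw]
    rw [← h1, ← h2, hζξ _ (Subgroup.mem_sup_left hz), hξη _ hz, he₂η _ hz]
  have hu : (e₂ c)⁻¹ * autFun ζ c ∈ D := mem_centralizerIn.2
    ⟨S.mul_mem (S.inv_mem hkC.1) hk₁C.1, fun x hx => by
      have hkx : e₂ c * x * (e₂ c)⁻¹ ∈ N :=
        (Subgroup.mem_normalizer_iff.1 (hnormN _ (hCQ hkC)) x).1 hx
      have h := hrel _ hkx
      rw [show (e₂ c)⁻¹ * (e₂ c * x * (e₂ c)⁻¹) * e₂ c = x by group] at h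
      calc x * ((e₂ c)⁻¹ * autFun ζ c)
          = (e₂ c)⁻¹ * autFun ζ c *
              ((autFun ζ c)⁻¹ * (e₂ c * x * (e₂ c)⁻¹) * autFun ζ c) := by group
        _ = (e₂ c)⁻¹ * autFun ζ c * x := by rw [h]⟩
  set w := v * ((e₂ c)⁻¹ * autFun ζ c) with hwdef
  have hwD : w ∈ D := D.mul_mem hv hu
  have hwW : w ∈ W := Subgroup.mem_sup_right (hDC hwD)
  have hdiff : (c * w)⁻¹ * autFun ζ c ∈ T := by
    rw [show (c * w)⁻¹ * autFun ζ c = ((e₂ c)⁻¹ * autFun ζ c)⁻¹ *
      (v⁻¹ * ((c⁻¹ * e₂ c) * v⁻¹) * v⁻¹⁻¹) * ((e₂ c)⁻¹ * autFun ζ c)⁻¹⁻¹ by rw [hwdef]; group]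
    exact StronglyClosed.conj_mem' hT (S.inv_mem hu.1)
      (StronglyClosed.conj_mem' hT (S.inv_mem hv.1) hvT)
  have hζT : ∀ y ∈ W, y ∈ T → autFun ζ y ∈ T := fun y hy hyT =>
    StronglyClosed.apply_mem hT (hζm.res (inf_le_right : T ⊓ W ≤ _)) inf_le_left ⟨hyT, hy⟩
  have hζw : w⁻¹ * autFun ζ w ∈ T := by
    rw [hζξ w (Subgroup.mem_sup_right hwD)]
    exact hξD w hwD
  have hmemS : ∀ y ∈ W, ∀ r : ℕ, autFun (ζ ^ r) y ∈ S := fun y hy r => hWS (autFun_mem _ hy)
  have hit : ∀ r : ℕ, π ⟨autFun (ζ ^ r) c, hmemS c hcW r⟩ = π ⟨c, hc.1⟩ * π ⟨w, hwD.1⟩ ^ r := by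
    intro r
    induction r with
    | zero =>
      refine Eq.trans ?_ (show π ⟨c, hc.1⟩ = π ⟨c, hc.1⟩ * π ⟨w, hwD.1⟩ ^ 0 by
        rw [pow_zero (π ⟨w, hwD.1⟩), mul_one])
      exact congrArg π (Subtype.ext (by
        show autFun (ζ ^ 0) c = c
        rw [pow_zero, autFun_one hcW]))
    | succ r ih =>
      have hy : autFun (ζ ^ r) c ∈ W := autFun_mem _ hcW
      have hcw : c * w ^ r ∈ W := mul_mem hcW (pow_mem hwW r)
      have h0 : (autFun (ζ ^ r) c)⁻¹ * (c * w ^ r) ∈ T := by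
        refine hπ' _ _ (hmemS c hcW r) (hWS hcw) ?_
        rw [ih, ← map_pow, ← map_mul]
        rfl
      have h0W : (autFun (ζ ^ r) c)⁻¹ * (c * w ^ r) ∈ W := mul_mem (Subgroup.inv_mem _ hy) hcw
      have h1 := hζT _ h0W h0
      rw [hζm.map_mul (Subgroup.inv_mem _ hy) hcw, hζm.map_inv hy] at h1
      have h2 : π ⟨autFun (ζ ^ (r + 1)) c, hmemS c hcW _⟩ =
          π ⟨autFun ζ (c * w ^ r), hWS (autFun_mem _ hcw)⟩ := by
        refine hπ _ _ _ _ ?_
        rw [pow_succ', autFun_mul _ _ hcW]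
        exact h1
      have h3 : ∀ i : ℕ, π ⟨autFun ζ (w ^ i), hWS (autFun_mem _ (pow_mem hwW i))⟩ =
          π ⟨w, hwD.1⟩ ^ i := by
        intro i
        induction i with
        | zero =>
          rw [pow_zero (π ⟨w, hwD.1⟩), ← map_one π]
          exact congrArg π (Subtype.ext (by
            show autFun ζ (w ^ 0) = 1
            rw [pow_zero, hζm.map_one]))
        | succ i ihi =>
          rw [pow_succ (π ⟨w, hwD.1⟩), ← ihi, hπ _ _ hwD.1 (hWS (autFun_mem ζ hwW)) hζw, ← map_mul]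
          exact congrArg π (Subtype.ext (by
            show autFun ζ (w ^ (i + 1)) = _
            rw [pow_succ, hζm.map_mul (pow_mem hwW i) hwW]
            rfl))
      have h4 : π ⟨autFun ζ c, hWS (autFun_mem _ hcW)⟩ = π ⟨c, hc.1⟩ * π ⟨w, hwD.1⟩ := by
        rw [← map_mul]
        exact (hπ _ _ (S.mul_mem hc.1 hwD.1) _ hdiff).symm
      rw [h2, pow_succ', ← mul_assoc, ← h4, ← h3 r, ← map_mul]
      exact congrArg π (Subtype.ext (hζm.map_mul hcW (pow_mem hwW r)))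
  have hw1 : π ⟨w, hwD.1⟩ = 1 := by
    obtain ⟨i', hi'⟩ := hS ⟨w, hwD.1⟩
    refine eq_one_of_coprime_pow (k := i') hmζ (by rw [← map_pow, hi', map_one]) ?_
    have h1 := hit mζ
    have h2 : autFun (ζ ^ mζ) c = c := by
      rw [show ζ ^ mζ = 1 from congrArg Subtype.val hζord, autFun_one hcW]
    rw [show π ⟨autFun (ζ ^ mζ) c, hmemS c hcW mζ⟩ = π ⟨c, hc.1⟩ from congrArg π (Subtype.ext h2),
      left_eq_mul] at h1
    exact h1
  refine hπ' c _ hc.1 (hWS (autFun_mem _ hcW)) ?_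
  rw [show π ⟨autFun ζ c, hWS (autFun_mem _ hcW)⟩ = π ⟨c, hc.1⟩ * π ⟨w, hwD.1⟩ by
    rw [← map_mul]; exact (hπ _ _ (S.mul_mem hc.1 hwD.1) _ hdiff).symm, hw1, mul_one]

/-- Every automorphism in a normal subsystem of a centric fully normalized subgroup extends over
the centralizer trivially modulo the support. -/
theorem exists_triv (hS : IsPGroup p S) (hF : F.IsSaturated p) (hE : E.IsNormalIn F p)
    {Q : Subgroup Ω} (hQ : E.IsCentric Q) (hQn : F.IsFullyNormalized Q) {b : MulAut Q}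
    (hb : b ∈ E.autGroup Q) : Triv F T Q b := by
  induction hn : Nat.card T - Nat.card Q using Nat.strong_induction_on generalizing Q with
  | _ n ih =>
  have hinv : E.IsInvariantIn F := hE.1.2.2
  have hT : F.StronglyClosed T := hinv.2.1
  have hTS : T ≤ S := hT.1
  haveI : Finite T := finite_of_le hTS
  have hQT : Q ≤ T := hQ.1
  rcases hQT.eq_or_lt with rfl | hlt
  · obtain ⟨β, hβ, hβT, hβC⟩ := hE.2 b hb
    refine ⟨autFun β, (mem_autGroup (sup_le hTS inf_le_left)).1 hβ, fun x hx => ?_, fun c hc => ?_⟩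
    · rw [show autFun β x = ((β ⟨x, Subgroup.mem_sup_left hx⟩ : ↥(Q ⊔ centralizerIn S Q)) : Ω) from
        autFun_coe β ⟨x, _⟩, show autFun b x = ((b ⟨x, hx⟩ : Q) : Ω) from autFun_coe b ⟨x, hx⟩]
      exact hβT ⟨x, hx⟩
    · rw [show autFun β c = ((β ⟨c, Subgroup.mem_sup_right hc⟩ : ↥(Q ⊔ centralizerIn S Q)) : Ω) from
        autFun_coe β ⟨c, _⟩]
      exact (hβC ⟨c, Subgroup.mem_sup_right hc⟩ hc).1
  have hQS := hQn.1
  have hQN : Q ≤ normalizerIn T Q := le_normalizerIn hQT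
  have hRN : normalizerIn T Q ≤ normalizerIn S Q := fun x hx => ⟨hTS hx.1, hx.2⟩
  obtain ⟨R', hRR', hR'n⟩ := exists_fullyNormalized F (hRN.trans inf_le_left)
  obtain ⟨a, ha, haR, hsy⟩ := SatCrit.exists_good_map hS
    (fullyAutomized_of_fullyNormalized hS hF hR'n) (receptive_of_fullyNormalized hS hF hR'n)
    hQN hRN hRR'
  have hNa : normalizerIn (normalizerIn S Q) (normalizerIn T Q) = normalizerIn S Q := by
    refine le_antisymm inf_le_left fun g hg => ⟨hg, mem_normalizer_of_forall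
      (fun x hx => ⟨StronglyClosed.conj_mem' hT hg.1 hx.1,
        mul_mem (mul_mem hg.2 hx.2) (Subgroup.inv_mem _ hg.2)⟩)
      (fun x hx => ⟨by simpa using StronglyClosed.conj_mem' hT (S.inv_mem hg.1) hx.1,
        mul_mem (mul_mem (Subgroup.inv_mem _ hg.2) hx.2) hg.2⟩)⟩
  rw [hNa] at ha
  have hQNS := le_normalizerIn (S := S) hQS
  set Q₀ := fimg a Q with hQ₀
  have haN : fimg a (normalizerIn S Q) = normalizerIn S Q₀ := by
    haveI : Finite ↥(normalizerIn S Q₀) := finite_of_le (S := S) inf_le_left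
    exact Subgroup.eq_of_le_of_card_ge (fimg_le fun x hx => ha.map_normalizerIn hQNS hx hx.2)
      (ha.card_fimg.symm ▸ hQn.2 Q₀ (ha.res hQNS).isConj)
  have hQ₀n : F.IsFullyNormalized Q₀ := by
    refine ⟨(ha.res hQNS).fimg_le_S, fun R hR => ?_⟩
    rw [← haN, ha.card_fimg]
    exact hQn.2 R (isConj_trans (ha.res hQNS).isConj hR)
  have hN₀ : normalizerIn T Q₀ = R' := by
    refine le_antisymm (fun y hy => ?_) ?_
    · obtain ⟨a', ha', ha1, ha2, -⟩ := ha.exists_inv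
      rw [haN] at ha' ha2
      have hle : normalizerIn T Q₀ ≤ normalizerIn S Q₀ := fun x hx => ⟨hTS hx.1, hx.2⟩
      obtain ⟨h1, h2⟩ := ha2 y (hle hy)
      rw [← h2, ← haR]
      exact apply_mem_fimg a ⟨StronglyClosed.apply_mem hT (ha'.res hle) inf_le_left hy, h1.2⟩
    · rw [← haR]
      exact fimg_le fun x hx => ⟨StronglyClosed.apply_mem hT (ha.res hRN) inf_le_left hx,
        (ha.map_normalizerIn hQNS (hRN hx) hx.2).2⟩
  obtain ⟨e, he, -⟩ := exists_mulEquiv (ha.res hQNS) hQ₀.symm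
  refine triv_transport hT hQS ha hQ₀.symm haN e he ?_
  have hQ₀c : E.IsCentric Q₀ := InvClass.centric_transport hinv hQ (ha.res hQNS)
  refine step hS hF hE hQ₀c hQ₀n (hN₀.symm ▸ hR'n) (hN₀.symm ▸ hsy) (fun β hβ => ?_)
    (InvClass.congr_autGroup hinv hQT (ha.res hQNS) hQ₀.symm e he hb)
  have hQ₀N : Q₀ ≤ normalizerIn T Q₀ := le_normalizerIn hQ₀c.1
  haveI : Finite ↥(normalizerIn T Q₀) := finite_of_le (S := T) inf_le_left
  have hlt₀ : Q₀ < T := lt_of_le_of_ne hQ₀c.1 fun h => by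
    have h1 := isConj_card (ha.res hQNS).isConj
    rw [← hQ₀, h] at h1
    exact (card_lt_of_lt hlt).ne h1.symm
  have h2 : Nat.card Q < Nat.card (normalizerIn T Q₀) := by
    rw [← isConj_card (ha.res hQNS).isConj, ← hQ₀]
    exact card_lt_of_lt (lt_normalizerIn (S := T) (hS.to_le hTS) hlt₀)
  have h3 : Nat.card (normalizerIn T Q₀) ≤ Nat.card T := Subgroup.card_le_of_le inf_le_left
  exact ih _ (by omega) (centric_mono hQ₀c hQ₀N inf_le_left) (hN₀.symm ▸ hR'n) hβ rfl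

end Cfsg.Agent.Fus.InvExt
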