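import Mathlib
import Cfsg.Agent.Lib.Fus.InvMapLevel
import Cfsg.Agent.Lib.Fus.InvariantExtensionMain

/-!
For two normal subsystems over `T₁`, `T₂`: the automorphisms of a subgroup `R` of `T₁ ⊓ T₂` lifting
to `R C_S(R)` inside both subsystems and trivially modulo `T₁ ⊓ T₂`, and their extensions.
-/

set_option autoImplicit false
set_option linter.style.haveILetI false
set_option linter.unusedSectionVars false
set_option linter.unusedVariables false

open scoped Classical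

universe u

namespace Cfsg.Agent.Fus.Inter

open Subgroup FusionSystem InvMap

variable {Ω : Type u} [Group Ω] {S : Subgroup Ω} {F : FusionSystem S} {p : ℕ}

/-- `R C_S(R)`. -/
abbrev PR (S R : Subgroup Ω) : Subgroup Ω := R ⊔ centralizerIn S R

/-- The map induces on `W` an automorphism of the subsystem. -/
def InE {U : Subgroup Ω} (E : FusionSystem U) (W : Subgroup Ω) (f : Ω → Ω) : Prop :=
  ∃ γ ∈ E.autGroup W, ∀ x ∈ W, autFun γ x = f x

theorem InE.congr {U W : Subgroup Ω} {E : FusionSystem U} {f g : Ω → Ω} (h : InE E W f)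
    (he : ∀ x ∈ W, g x = f x) : InE E W g :=
  let ⟨γ, hγ, hγe⟩ := h; ⟨γ, hγ, fun x hx => (hγe x hx).trans (he x hx).symm⟩

theorem InE.res [Finite S] {U W W' : Subgroup Ω} {E : FusionSystem U} (hU : U ≤ S) (hW' : W' ≤ U)
    {f : Ω → Ω} (h : InE E W' f) (hW : W ≤ W') (hst : ∀ x ∈ W, f x ∈ W) : InE E W f := by
  obtain ⟨γ, hγ, hγe⟩ := h
  have hm : IsMap E W f :=
    (((Fus.mem_autGroup hW').1 hγ).res hW).congr fun x hx => hγe x (hW hx)
  haveI : Finite W := finite_of_le (hW.trans (hW'.trans hU))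
  exact hm.exists_aut (Subgroup.eq_of_le_of_card_ge (fimg_le hst) hm.card_fimg.ge)

/-- An automorphism inducing modulo a normal subgroup of `S` a translation by a fixed element has
trivial translation. -/
theorem translate_eq {U V : Subgroup Ω} {φ : MulAut U} (hV : ∀ u ∈ U, ∀ x ∈ V, u * x * u⁻¹ ∈ V)
    (hφV : ∀ x ∈ U, x ∈ V → autFun φ x ∈ V) (hφ : IsMap F U (autFun φ)) {u w : Ω} (hu : u ∈ U)
    (hw : w ∈ U) (h1 : autFun φ u * u⁻¹ * w⁻¹ ∈ V) (h2 : autFun φ w * w⁻¹ ∈ V) :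
    ∀ j : ℕ, autFun (φ ^ j) u * u⁻¹ * (w ^ j)⁻¹ ∈ V := by
  intro j
  induction j with
  | zero => simp [autFun_one hu]
  | succ j ih =>
    set z := autFun (φ ^ j) u * u⁻¹ * (w ^ j)⁻¹ with hz
    have hjU : autFun (φ ^ j) u ∈ U := autFun_mem _ hu
    have hwj : w ^ j ∈ U := U.pow_mem hw j
    have hzU : z ∈ U := U.mul_mem (U.mul_mem hjU (U.inv_mem hu)) (U.inv_mem hwj)
    have key : ∀ i : ℕ, autFun φ (w ^ i) * (w ^ i)⁻¹ ∈ V := by
      intro i
      induction i with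
      | zero => simp [hφ.map_one]
      | succ i ihi =>
        rw [pow_succ', hφ.map_mul hw (U.pow_mem hw i),
          show autFun φ w * autFun φ (w ^ i) * (w * w ^ i)⁻¹ =
            autFun φ w * w⁻¹ * (w * (autFun φ (w ^ i) * (w ^ i)⁻¹) * w⁻¹) by group]
        exact V.mul_mem h2 (hV w hw _ ihi)
    have e : autFun (φ ^ (j + 1)) u = autFun φ z * autFun φ (w ^ j) * autFun φ u := by
      rw [pow_succ', autFun_mul _ _ hu, ← hφ.map_mul hzU hwj,
        ← hφ.map_mul (U.mul_mem hzU hwj) hu]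
      congr 1
      rw [hz]
      group
    rw [e, pow_succ, show autFun φ z * autFun φ (w ^ j) * autFun φ u * u⁻¹ * (w ^ j * w)⁻¹ =
      autFun φ z * (autFun φ (w ^ j) * (w ^ j)⁻¹) *
        (w ^ j * (autFun φ u * u⁻¹ * w⁻¹) * (w ^ j)⁻¹) by group]
    exact V.mul_mem (V.mul_mem (hφV z hzU ih) (key j)) (hV _ hwj _ h1)

variable {U : Subgroup Ω} {E : FusionSystem U} [Finite S] [Fact p.Prime]

/-- The trace of `R C_S(R)` on the support of a normal subsystem is centric in it. -/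
theorem centric_up (hS : IsPGroup p S) (hF : F.IsSaturated p) (hE : E.IsNormalIn F p)
    {R : Subgroup Ω} (hRU : R ≤ U) (hR : F.IsFullyCentralized R) :
    E.IsCentric (PR S R ⊓ U) := by
  have hUc : F.StronglyClosed U := hE.1.2.2.2.1
  have hRW : R ≤ PR S R ⊓ U := le_inf le_sup_left hRU
  refine ⟨inf_le_right, fun Q hQ => ?_⟩
  obtain ⟨g, hg, rfl⟩ := isConj_iff.1 hQ
  have hgF := hg.mono hE.1.2.2.1
  have hgR := hgF.res hRW
  obtain ⟨g', hg', hg1, hg2, hgb⟩ := hgR.exists_inv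
  have hR'S := hgR.fimg_le_S
  set R' := fimg g R with hR'
  obtain ⟨ψ, hψ, hψe⟩ := receptive_extend (receptive_of_fullyCentralized hS hF hR) hg' hgb
    (N := PR S R') (fun w hw => by
      have hwN : w ∈ normalizerIn S R' :=
        sup_le (le_normalizerIn hR'S) (centralizerIn_le_normalizerIn _) hw
      refine ⟨hwN, ?_⟩
      obtain ⟨a, ha, c, hc, rfl⟩ := (mem_sup_normalized (fun y hy =>
        (centralizerIn_le_normalizerIn R' hy).2)).1 hw
      refine ⟨g' a, hg'.apply_mem ha, fun x hx => ?_⟩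
      rw [← hg'.map_conj ha hx, show a * c * x * (a * c)⁻¹ = a * (c * x * c⁻¹) * a⁻¹ by group,
        show c * x * c⁻¹ = x by rw [← (mem_centralizerIn.1 hc).2 x hx, mul_inv_cancel_right]])
    le_sup_left
  have hψR : fimg ψ R' = R := (fimg_congr hψe).trans hgb
  have hUS : U ≤ S := hUc.1
  have hCsub : centralizerIn U R' ≤ PR S R' := fun y hy =>
    Subgroup.mem_sup_right ⟨hUS hy.1, hy.2⟩
  have hCW : centralizerIn U R ≤ PR S R ⊓ U := fun y hy =>
    ⟨Subgroup.mem_sup_right ⟨hUS hy.1, hy.2⟩, hy.1⟩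
  have hle1 : fimg ψ (centralizerIn U R') ≤ centralizerIn U R := fimg_le fun y hy =>
    ⟨StronglyClosed.apply_mem hUc (hψ.res hCsub) inf_le_left hy,
      (hψR ▸ hψ.map_centralizerIn le_sup_left (hCsub hy) hy.2 :
        ψ y ∈ centralizerIn S R).2⟩
  have hle2 : fimg g (centralizerIn U R) ≤ centralizerIn U R' := fimg_le fun y hy =>
    ⟨hg.apply_mem (hCW hy), (hgF.map_centralizerIn hRW (hCW hy) hy.2).2⟩
  haveI : Finite ↥(centralizerIn U R) :=
    finite_of_le (S := S) (show centralizerIn U R ≤ S from inf_le_left.trans hUS)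
  haveI : Finite ↥(centralizerIn U R') :=
    finite_of_le (S := S) (show centralizerIn U R' ≤ S from inf_le_left.trans hUS)
  have heq : fimg g (centralizerIn U R) = centralizerIn U R' := by
    refine Subgroup.eq_of_le_of_card_ge hle2 ?_
    rw [(hgF.res hCW).card_fimg, ← (hψ.res hCsub).card_fimg]
    exact Subgroup.card_le_of_le hle1
  exact le_trans (inf_le_inf_left _ (Subgroup.centralizer_le (fimg_mono g hRW)))
    (le_of_eq_of_le heq.symm (fimg_mono g hCW))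

/-- A `p'`-automorphism of `W'` restricting to one of the subsystem on a centric normal subgroup
belongs to the subsystem. -/
theorem stays_in (hS : IsPGroup p S) (hE : E.IsNormalIn F p) {W W' : Subgroup Ω}
    (hW : E.IsCentric W) (hWW : W ≤ W') (hW'U : W' ≤ U)
    (hW'n : W' ≤ Subgroup.normalizer (W : Set Ω)) {δ : MulAut W'} (hδ : δ ∈ F.autGroup W')
    {n : ℕ} (hn : n.Coprime p) (hδn : δ ^ n = 1) (hin : InE E W (autFun δ)) :
    δ ∈ E.autGroup W' := by
  have hUS : U ≤ S := hE.1.2.2.2.1.1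
  have hW'S := hW'U.trans hUS
  haveI := finite_of_le hW'S
  haveI : Finite U := finite_of_le hUS
  have hEs := hE.1.1
  have hUp := hS.to_le hUS
  have hδm : IsMap F W' (autFun δ) := (Fus.mem_autGroup hW'S).1 hδ
  obtain ⟨γ, hγ, hγe⟩ := hin
  have hγm : IsMap E W (autFun γ) := (Fus.mem_autGroup hW.1).1 hγ
  obtain ⟨e, he, hee⟩ := receptive_extend
    (receptive_of_fullyCentralized hUp hEs (fullyCentralized_of_centric hW)) hγm (fimg_autFun γ)
    (N := W') (fun w hw => ⟨⟨hW'U hw, hW'n hw⟩, autFun δ w, hW'U (autFun_mem δ hw),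
      fun x hx => by
        rw [hγe x hx, hγe _ ((Subgroup.mem_normalizer_iff.1 (hW'n hw) x).1 hx)]
        exact hδm.map_conj hw (hWW hx)⟩) hWW
  have heW : fimg e W' ≤ W' := by
    refine fimg_le fun w hw => ?_
    have hd : (autFun δ w)⁻¹ * e w ∈ W := by
      refine centralizerIn_le_of_centric hW (mem_centralizerIn.2 ⟨U.mul_mem
        (U.inv_mem (hW'U (autFun_mem δ hw))) (he.apply_mem hw), fun y hy => ?_⟩)
      obtain ⟨x, hx, rfl⟩ := (hγm.mem_fimg_iff).1 ((fimg_autFun γ).symm ▸ hy :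
        y ∈ fimg (autFun γ) W)
      have hx' := (Subgroup.mem_normalizer_iff.1 (hW'n hw) x).1 hx
      have h1 := he.map_conj hw (hWW hx)
      have h2 := hδm.map_conj hw (hWW hx)
      rw [hee x hx, hee _ hx', hγe _ hx', h2, ← hγe x hx] at h1
      calc autFun γ x * ((autFun δ w)⁻¹ * e w)
          = (autFun δ w)⁻¹ * (autFun δ w * autFun γ x * (autFun δ w)⁻¹) * e w := by group
        _ = (autFun δ w)⁻¹ * (e w * autFun γ x * (e w)⁻¹) * e w := by rw [h1]
        _ = (autFun δ w)⁻¹ * e w * autFun γ x := by group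
    rw [show e w = autFun δ w * ((autFun δ w)⁻¹ * e w) by group]
    exact W'.mul_mem (autFun_mem δ hw) (hWW hd)
  obtain ⟨η, hη, hηe⟩ := he.exists_aut
    (Subgroup.eq_of_le_of_card_ge heW he.card_fimg.ge)
  have hξ : (η⁻¹ * δ) ^ Nat.card W = 1 := by
    refine SatCrit.pow_card_eq_one_of_fix (S := U) hWW hW'U hW'n
      (centralizerIn_le_of_centric hW) fun x hx => Subtype.ext ?_
    rw [← autFun_coe, autFun_mul _ _ x.2, ← hγe _ hx, ← hee _ hx, ← hηe _ x.2,
      autFun_inv_apply η x.2]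
  haveI : ((E.autGroup W').subgroupOf (F.autGroup W')).Normal :=
    ⟨fun a ha b => autGroup_conj_mem hE.1.2.2 hW'U b.2 ha⟩
  let π := QuotientGroup.mk' ((E.autGroup W').subgroupOf (F.autGroup W'))
  have hηF := autGroup_mono hE.1.2.2.1 W' hη
  have h1 : π ⟨δ, hδ⟩ = π ⟨η⁻¹ * δ, mul_mem (inv_mem hηF) hδ⟩ := by
    rw [show (⟨η⁻¹ * δ, mul_mem (inv_mem hηF) hδ⟩ : F.autGroup W') = ⟨η, hηF⟩⁻¹ * ⟨δ, hδ⟩ from rfl,
      map_mul, map_inv,
      show π ⟨η, hηF⟩ = 1 from (QuotientGroup.eq_one_iff _).2 hη, inv_one, one_mul]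
  haveI := finite_of_le (hWW.trans hW'S)
  obtain ⟨m, hm⟩ := (hS.to_le (hWW.trans hW'S)).exists_card_eq
  have h2 : π ⟨δ, hδ⟩ = 1 := InvExt.eq_one_of_coprime_pow (k := m) hn (by
    rw [h1, ← map_pow, ← hm]
    exact (congrArg π (Subtype.ext hξ : (⟨η⁻¹ * δ, _⟩ : F.autGroup W') ^ Nat.card W = 1)).trans
      π.map_one) (by
    rw [← map_pow]
    exact (congrArg π (Subtype.ext hδn : (⟨δ, hδ⟩ : F.autGroup W') ^ n = 1)).trans π.map_one)
  exact (QuotientGroup.eq_one_iff (N := (E.autGroup W').subgroupOf (F.autGroup W')) ⟨δ, hδ⟩).1 h2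

/-- An element inducing an automorphism of the subsystem on a centric subgroup is in `U C_S(R)`. -/
theorem split_induced (hS : IsPGroup p S) (hF : F.IsSaturated p) (hE : E.IsNormalIn F p)
    {R W' : Subgroup Ω} (hR : F.IsFullyCentralized R) (hRW : R ≤ W') (hW'U : W' ≤ U)
    (hCn : centralizerIn S R ≤ Subgroup.normalizer (W' : Set Ω)) {z : Ω} (hzS : z ∈ S)
    (hzn : z ∈ Subgroup.normalizer (W' : Set Ω))
    (hzE : W'.normalizerMonoidHom ⟨z, hzn⟩ ∈ E.autGroup W') :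
    ∃ c ∈ centralizerIn S R, z * c⁻¹ ∈ U := by
  have hinv := hE.1.2.2
  have hUc := hinv.2.1
  have hUS := hUc.1
  have hW'S := hW'U.trans hUS
  obtain ⟨W'', hW'', hn⟩ := exists_fullyNormalized F hW'S
  obtain ⟨v, hv, hvW, -⟩ := exists_map_to_fullyNormalized hS hF hn hW''
  have hWN : W' ≤ normalizerIn S W' := le_normalizerIn hW'S
  have hzN : z ∈ normalizerIn S W' := ⟨hzS, hzn⟩
  have hCN : centralizerIn S R ≤ normalizerIn S W' := fun c hc => ⟨hc.1, hCn hc⟩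
  have hvm := hv.res hWN
  have hW''U : W'' ≤ U := hvW ▸ fimg_le fun x hx => StronglyClosed.apply_mem hUc hvm hW'U hx
  obtain ⟨e, he, -⟩ := exists_mulEquiv hvm hvW
  have h1 := InvClass.congr_autGroup hinv hW'U hvm hvW e he hzE
  have h2 : ∀ y : W'', ((MulAut.congr e (W'.normalizerMonoidHom ⟨z, hzn⟩) y : W'') : Ω) =
      v z * y * (v z)⁻¹ := by
    intro y
    obtain ⟨x, rfl⟩ := e.surjective y
    rw [he, ← hv.map_conj hzN (hWN x.2), ← normalizerMonoidHom_apply ⟨z, hzn⟩, ← he]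
    simp [MulAut.congr]
  obtain ⟨t, ht, hte⟩ := mem_autInducedBy.1 (InvExt.inducedBy_of_mem hS hUS hE.1.1
    (InvExt.fullyNormalized_sub hS hF hUc hinv.1 hW''U hn) h1
    (mem_autInducedBy.2 ⟨v z, hv.apply_mem hzN, h2⟩))
  have hRN : R ≤ normalizerIn S W' := hRW.trans hWN
  have hRv : fimg v R ≤ W'' := hvW ▸ fimg_mono v hRW
  have hC : t⁻¹ * v z ∈ centralizerIn S (fimg v R) := by
    refine mem_centralizerIn.2 ⟨S.mul_mem (S.inv_mem (hUS ht)) (hv.apply_mem hzN), fun y hy => ?_⟩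
    have h3 : t * y * t⁻¹ = v z * y * (v z)⁻¹ :=
      (hte ⟨y, hRv hy⟩).symm.trans (h2 ⟨y, hRv hy⟩)
    calc y * (t⁻¹ * v z) = t⁻¹ * (t * y * t⁻¹) * v z := by group
      _ = t⁻¹ * (v z * y * (v z)⁻¹) * v z := by rw [h3]
      _ = t⁻¹ * v z * y := by group
  have hsurj : fimg v (centralizerIn S R) = centralizerIn S (fimg v R) := by
    haveI : Finite ↥(centralizerIn S (fimg v R)) := finite_of_le (S := S) inf_le_left
    refine Subgroup.eq_of_le_of_card_ge
      (fimg_le fun c hc => hv.map_centralizerIn hRN (hCN hc) hc.2) ?_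
    rw [(hv.res hCN).card_fimg]
    exact hR.2 _ (hv.res hRN).isConj
  obtain ⟨c', hc', hce⟩ := (hv.res hCN).mem_fimg_iff.1 (hsurj.ge hC)
  have hzc : z * c'⁻¹ ∈ normalizerIn S W' := mul_mem hzN (inv_mem (hCN hc'))
  have htt : v (z * c'⁻¹) = t := by
    rw [hv.map_mul hzN (inv_mem (hCN hc')), hv.map_inv (hCN hc'), hce]
    group
  obtain ⟨g, hg, hg1, hg2, -⟩ := hv.exists_inv
  refine ⟨c', hc', ?_⟩
  rw [← hg1 _ hzc, htt]
  exact StronglyClosed.apply_mem hUc (hg.res inf_le_right)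
    (inf_le_left : U ⊓ fimg v (normalizerIn S W') ≤ U) ⟨ht, htt ▸ apply_mem_fimg v hzc⟩

/-- An automorphism of order prime to `p` of `V ≥ R C_S(R)` extending one in the subsystem is in it
on the trace of `V` and moves every element inside its coset of `U`. -/
theorem up_one (hS : IsPGroup p S) (hF : F.IsSaturated p) (hE : E.IsNormalIn F p)
    {R V : Subgroup Ω} (hRU : R ≤ U) (hR : F.IsFullyCentralized R) (hPV : PR S R ≤ V)
    (hVn : V ≤ normalizerIn S R) {φ : MulAut V} (hφ : φ ∈ F.autGroup V) {n : ℕ}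
    (hn : n.Coprime p) (hφn : φ ^ n = 1) (hin : InE E (PR S R ⊓ U) (autFun φ))
    (hc : ∀ c ∈ centralizerIn S R, c⁻¹ * autFun φ c ∈ U) :
    InE E (V ⊓ U) (autFun φ) ∧ ∀ u ∈ V, u⁻¹ * autFun φ u ∈ U := by
  have hinv := hE.1.2.2
  have hUc := hinv.2.1
  have hUS := hUc.1
  have hVS : V ≤ S := hVn.trans inf_le_left
  haveI := finite_of_le hVS
  have hφm : IsMap F V (autFun φ) := (Fus.mem_autGroup hVS).1 hφ
  set W := PR S R ⊓ U
  set W' := V ⊓ U with hW'
  have hW := centric_up hS hF hE hRU hR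
  have hWW : W ≤ W' := inf_le_inf_right _ hPV
  have hW'U : W' ≤ U := inf_le_right
  have hVU : ∀ u ∈ V, ∀ x ∈ U, u * x * u⁻¹ ∈ U := fun u hu x hx =>
    StronglyClosed.conj_mem' hUc (hVS hu) hx
  have hCRn : ∀ u ∈ V, ∀ c ∈ centralizerIn S R, u * c * u⁻¹ ∈ centralizerIn S R := by
    intro u hu c hc
    refine mem_centralizerIn.2 ⟨S.mul_mem (S.mul_mem (hVS hu) hc.1) (S.inv_mem (hVS hu)),
      fun x hx => ?_⟩
    have hx' := (Subgroup.mem_normalizer_iff''.1 (hVn hu).2 x).1 hx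
    calc x * (u * c * u⁻¹) = u * (u⁻¹ * x * u * c) * u⁻¹ := by group
      _ = u * (c * (u⁻¹ * x * u)) * u⁻¹ := by rw [(mem_centralizerIn.1 hc).2 _ hx']
      _ = u * c * u⁻¹ * x := by group
  have hVnW : ∀ u ∈ V, u ∈ Subgroup.normalizer (W : Set Ω) := by
    have key : ∀ u ∈ V, ∀ x ∈ W, u * x * u⁻¹ ∈ W := fun u hu x hx => by
      refine ⟨?_, hVU u hu x hx.2⟩
      obtain ⟨a, ha, c, hc', rfl⟩ := (mem_sup_normalized (fun y hy =>
        (centralizerIn_le_normalizerIn R hy).2)).1 hx.1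
      rw [show u * (a * c) * u⁻¹ = (u * a * u⁻¹) * (u * c * u⁻¹) by group]
      exact Subgroup.mul_mem_sup ((Subgroup.mem_normalizer_iff.1 (hVn hu).2 a).1 ha)
        (hCRn u hu c hc')
    exact fun u hu => mem_normalizer_of_forall (key u hu)
      fun x hx => by simpa using key u⁻¹ (V.inv_mem hu) x hx
  have hVnW' : ∀ u ∈ V, u ∈ Subgroup.normalizer (W' : Set Ω) := fun u hu =>
    mem_normalizer_of_forall
      (fun x hx => ⟨V.mul_mem (V.mul_mem hu hx.1) (V.inv_mem hu), hVU u hu x hx.2⟩)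
      fun x hx => ⟨V.mul_mem (V.mul_mem (V.inv_mem hu) hx.1) hu, by
        simpa using hVU u⁻¹ (V.inv_mem hu) x hx.2⟩
  have hW'V : W' ≤ V := inf_le_left
  have hstab : ∀ x ∈ W', autFun φ x ∈ W' := fun x hx =>
    ⟨autFun_mem φ hx.1, StronglyClosed.apply_mem hUc (hφm.res hW'V) hW'U hx⟩
  haveI : Finite ↥W' := finite_of_le (hW'V.trans hVS)
  have hδm := hφm.res hW'V
  obtain ⟨δ, hδ, hδe⟩ := hδm.exists_aut
    (Subgroup.eq_of_le_of_card_ge (fimg_le hstab) hδm.card_fimg.ge)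
  have hδn : δ ^ n = 1 := mulAut_ext fun x hx => by
    rw [autFun_pow_eqOn hW'V hδe n x hx, hφn, autFun_one (hW'V hx), autFun_one hx]
  have hδE := stays_in hS hE hW hWW hW'U (fun x hx => hVnW x hx.1) hδ hn hδn
    (hin.congr fun x hx => hδe x (hWW hx))
  refine ⟨⟨δ, hδE, hδe⟩, fun u hu => ?_⟩
  have hz : autFun φ u * u⁻¹ ∈ V := V.mul_mem (autFun_mem φ hu) (V.inv_mem hu)
  have hcu : W'.normalizerMonoidHom ⟨u, hVnW' u hu⟩ ∈ F.autGroup W' :=
    autInducedBy_le_autGroup F (hW'V.trans hVS)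
      (mem_autInducedBy_of_mem (hVS hu) (hVnW' u hu))
  have hzeq : W'.normalizerMonoidHom ⟨autFun φ u * u⁻¹, hVnW' _ hz⟩ =
      δ * (W'.normalizerMonoidHom ⟨u, hVnW' u hu⟩ * δ⁻¹ *
        (W'.normalizerMonoidHom ⟨u, hVnW' u hu⟩)⁻¹) := by
    refine mulAut_ext fun x hx => ?_
    have hx1 : u⁻¹ * x * u ∈ W' := (Subgroup.mem_normalizer_iff''.1 (hVnW' u hu) x).1 hx
    have hy := autFun_mem δ⁻¹ hx1
    have e1 : autFun (W'.normalizerMonoidHom ⟨u, hVnW' u hu⟩)⁻¹ x = u⁻¹ * x * u := by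
      rw [← map_inv, show autFun (W'.normalizerMonoidHom (⟨u, hVnW' u hu⟩⁻¹)) x = _ from
        autFun_coe _ ⟨x, hx⟩, normalizerMonoidHom_apply]
      show u⁻¹ * x * u⁻¹⁻¹ = _
      rw [inv_inv]
    rw [autFun_mul _ _ hx, autFun_mul _ _ hx, autFun_mul _ _ (autFun_mem _ hx), e1,
      show autFun (W'.normalizerMonoidHom ⟨u, hVnW' u hu⟩) (autFun δ⁻¹ (u⁻¹ * x * u)) =
        u * autFun δ⁻¹ (u⁻¹ * x * u) * u⁻¹ from autFun_coe _ ⟨_, hy⟩,
      show autFun (W'.normalizerMonoidHom ⟨autFun φ u * u⁻¹, hVnW' _ hz⟩) x =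
        autFun φ u * u⁻¹ * x * (autFun φ u * u⁻¹)⁻¹ from autFun_coe _ ⟨x, hx⟩,
      hδe _ ((Subgroup.mem_normalizer_iff.1 (hVnW' u hu) _).1 hy),
      hφm.map_conj hu (hW'V hy), ← hδe _ hy, ← autFun_mul _ _ hx1, mul_inv_cancel, autFun_one hx1]
    group
  have hzE : W'.normalizerMonoidHom ⟨autFun φ u * u⁻¹, hVnW' _ hz⟩ ∈ E.autGroup W' := by
    rw [hzeq]
    exact mul_mem hδE (autGroup_conj_mem hinv hW'U hcu (inv_mem hδE))
  have hRW' : R ≤ W' := le_inf (le_sup_left.trans hPV) hRU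
  have hCV : centralizerIn S R ≤ V := le_sup_right.trans hPV
  obtain ⟨c, hcC, hcz⟩ := split_induced hS hF hE hR hRW' hW'U
    (fun c hc' => hVnW' c (hCV hc')) (hVS hz) (hVnW' _ hz) hzE
  have hcV := hCV hcC
  have h2 : autFun φ c * c⁻¹ ∈ U := by
    have := hVU c hcV _ (hc c hcC)
    simpa [mul_assoc] using this
  have h3 := translate_eq hVU (fun x hx hxU =>
    StronglyClosed.apply_mem hUc (hφm.res hW'V) hW'U ⟨hx, hxU⟩) hφm hu hcV hcz h2 n
  rw [hφn, autFun_one hu, mul_inv_cancel, one_mul] at h3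
  have hcn : c ^ n ∈ U := by simpa using U.inv_mem h3
  have hcU : c ∈ U := by
    obtain ⟨k, hk⟩ := (hS.to_le inf_le_left) ⟨c, hcC⟩
    have hord : (orderOf c).Coprime n := by
      refine Nat.Coprime.coprime_dvd_left (orderOf_dvd_of_pow_eq_one ?_) ((hn.symm).pow_left k)
      exact congrArg Subtype.val hk
    obtain ⟨m, hm⟩ := exists_pow_eq_self_of_coprime hord.symm
    rw [← hm]
    exact U.pow_mem hcn m
  have h4 : autFun φ u * u⁻¹ ∈ U := by
    rw [show autFun φ u * u⁻¹ = autFun φ u * u⁻¹ * c⁻¹ * c by group]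
    exact U.mul_mem hcz hcU
  simpa [mul_assoc] using hVU u⁻¹ (V.inv_mem hu) _ h4

/-- A conjugate by an element of `S` of a map in the subsystem is in it. -/
theorem inE_conj (hE : E.IsNormalIn F p) {P : Subgroup Ω} (hPS : P ≤ S) {u : Ω}
    (hun : u ∈ Subgroup.normalizer (P : Set Ω)) (hu : u ∈ S) {f g : Ω → Ω}
    (hf : InE E (P ⊓ U) f) (hg : ∀ x ∈ P, g x = u * f (u⁻¹ * x * u) * u⁻¹) :
    InE E (P ⊓ U) g := by
  have hUc : F.StronglyClosed U := hE.1.2.2.2.1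
  have hun' : u ∈ Subgroup.normalizer ((P ⊓ U : Subgroup Ω) : Set Ω) := mem_normalizer_of_forall
    (fun x hx => ⟨(Subgroup.mem_normalizer_iff.1 hun x).1 hx.1,
      StronglyClosed.conj_mem' hUc hu hx.2⟩)
    fun x hx => ⟨(Subgroup.mem_normalizer_iff''.1 hun x).1 hx.1, by
      simpa using StronglyClosed.conj_mem' hUc (S.inv_mem hu) hx.2⟩
  obtain ⟨γ, hγ, hγe⟩ := hf
  set c := (P ⊓ U).normalizerMonoidHom ⟨u, hun'⟩ with hc
  have hcA : c ∈ F.autGroup (P ⊓ U) :=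
    autInducedBy_le_autGroup F (inf_le_left.trans hPS) (mem_autInducedBy_of_mem hu hun')
  refine ⟨c * γ * c⁻¹, autGroup_conj_mem hE.1.2.2 inf_le_right hcA hγ, fun x hx => ?_⟩
  have hx' : u⁻¹ * x * u ∈ P ⊓ U := (Subgroup.mem_normalizer_iff''.1 hun' x).1 hx
  rw [autFun_mul _ _ hx, autFun_mul _ _ (autFun_mem _ hx), hg x hx.1, ← hγe _ hx',
    show autFun c⁻¹ x = u⁻¹ * x * u by
      rw [hc, ← map_inv, show autFun ((P ⊓ U).normalizerMonoidHom (⟨u, hun'⟩⁻¹)) x = _ from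
        autFun_coe _ ⟨x, hx⟩, normalizerMonoidHom_apply]
      show u⁻¹ * x * u⁻¹⁻¹ = _
      rw [inv_inv]]
  exact autFun_coe c ⟨_, autFun_mem γ hx'⟩

/-- Two normal subsystems. -/
structure Two (F : FusionSystem S) (p : ℕ) {T₁ T₂ : Subgroup Ω} (E₁ : FusionSystem T₁)
    (E₂ : FusionSystem T₂) : Prop where
  pG : IsPGroup p S
  sat : F.IsSaturated p
  n₁ : E₁.IsNormalIn F p
  n₂ : E₂.IsNormalIn F p

variable {T₁ T₂ : Subgroup Ω} {E₁ : FusionSystem T₁} {E₂ : FusionSystem T₂}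
  (d : Two F p E₁ E₂)
include d

theorem closed : F.StronglyClosed (T₁ ⊓ T₂) :=
  stronglyClosed_of_forall (inf_le_left.trans d.n₁.1.2.2.2.1.1) fun P hP f hf x hx =>
    ⟨StronglyClosed.apply_mem d.n₁.1.2.2.2.1 hf (hP.trans inf_le_left) hx,
    StronglyClosed.apply_mem d.n₂.1.2.2.2.1 hf (hP.trans inf_le_right) hx⟩

omit d in
theorem apply_centralizer {R : Subgroup Ω} {b : MulAut ↥(PR S R)} (hb : b ∈ F.autGroup (PR S R))
    (hR : R ≤ S) (h : ∀ x ∈ R, autFun b x ∈ R ∧ autFun b⁻¹ x ∈ R) :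
    ∀ c ∈ centralizerIn S R, autFun b c ∈ centralizerIn S R := by
  intro c hc
  have hPS : PR S R ≤ S := sup_le hR inf_le_left
  have hm : IsMap F (PR S R) (autFun b) := (Fus.mem_autGroup hPS).1 hb
  have h1 := hm.map_centralizerIn le_sup_left (Subgroup.mem_sup_right hc) hc.2
  rwa [show fimg (autFun b) R = R from le_antisymm (fimg_le fun x hx => (h x hx).1) fun x hx => by
    have := apply_mem_fimg (autFun b) (h x hx).2
    rwa [← autFun_mul b b⁻¹ (show x ∈ PR S R from Subgroup.mem_sup_left hx), mul_inv_cancel,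
      autFun_one (show x ∈ PR S R from Subgroup.mem_sup_left hx)] at this] at h1

/-- The automorphisms of `R C_S(R)` stabilizing `R`, in both subsystems, trivial modulo
`T₁ ⊓ T₂` on `C_S(R)`. -/
def Bgrp (_d : Two F p E₁ E₂) {R : Subgroup Ω} (hR : R ≤ S) : Subgroup (MulAut ↥(PR S R)) where
  carrier := {b | b ∈ F.autGroup (PR S R) ∧ (∀ x ∈ R, autFun b x ∈ R ∧ autFun b⁻¹ x ∈ R) ∧
    (∀ c ∈ centralizerIn S R, c⁻¹ * autFun b c ∈ T₁ ⊓ T₂) ∧
    InE E₁ (PR S R ⊓ T₁) (autFun b) ∧ InE E₂ (PR S R ⊓ T₂) (autFun b)}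
  mul_mem' := by
    rintro a b ⟨ha, has, hac, ha1, ha2⟩ ⟨hb, hbs, hbc, hb1, hb2⟩
    have hsub : ∀ {x}, x ∈ R → x ∈ PR S R := fun hx => Subgroup.mem_sup_left hx
    have inE : ∀ {V : Subgroup Ω} {G : FusionSystem V}, InE G (PR S R ⊓ V) (autFun a) →
        InE G (PR S R ⊓ V) (autFun b) → InE G (PR S R ⊓ V) (autFun (a * b)) := by
      rintro V G ⟨γ, hγ, hγe⟩ ⟨η, hη, hηe⟩
      exact ⟨γ * η, mul_mem hγ hη, fun x hx => by
        rw [autFun_mul _ _ hx, hγe _ (autFun_mem η hx), hηe x hx, autFun_mul _ _ hx.1]⟩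
    refine ⟨mul_mem ha hb, fun x hx => ⟨?_, ?_⟩, fun c hc => ?_, inE ha1 hb1, inE ha2 hb2⟩
    · rw [autFun_mul _ _ (hsub hx)]
      exact (has _ (hbs x hx).1).1
    · rw [mul_inv_rev, autFun_mul _ _ (hsub hx)]
      exact (hbs _ (has x hx).2).2
    · have hb' := apply_centralizer hb hR hbs c hc
      rw [autFun_mul _ _ (Subgroup.mem_sup_right hc), show c⁻¹ * autFun a (autFun b c) =
        (c⁻¹ * autFun b c) * ((autFun b c)⁻¹ * autFun a (autFun b c)) by group]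
      exact Subgroup.mul_mem _ (hbc c hc) (hac _ hb')
  one_mem' := by
    refine ⟨one_mem _, fun x hx => ?_, fun c hc => ?_, ⟨1, one_mem _, fun x hx => ?_⟩,
      ⟨1, one_mem _, fun x hx => ?_⟩⟩
    · rw [inv_one, autFun_one (show x ∈ PR S R from Subgroup.mem_sup_left hx)]
      exact ⟨hx, hx⟩
    · rw [autFun_one (show c ∈ PR S R from Subgroup.mem_sup_right hc), inv_mul_cancel]
      exact one_mem _
    all_goals rw [autFun_one hx, autFun_one hx.1]
  inv_mem' := by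
    rintro b ⟨hb, hbs, hbc, hb1, hb2⟩
    have hbs' : ∀ x ∈ R, autFun b⁻¹ x ∈ R ∧ autFun b⁻¹⁻¹ x ∈ R := fun x hx => by
      rw [inv_inv]
      exact ⟨(hbs x hx).2, (hbs x hx).1⟩
    have inE : ∀ {V : Subgroup Ω} {G : FusionSystem V}, InE G (PR S R ⊓ V) (autFun b) →
        InE G (PR S R ⊓ V) (autFun b⁻¹) := by
      rintro V G ⟨γ, hγ, hγe⟩
      refine ⟨γ⁻¹, inv_mem hγ, fun x hx => ?_⟩
      have h1 := autFun_mem γ⁻¹ hx
      have h2 : autFun b (autFun γ⁻¹ x) = x := by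
        rw [← hγe _ h1, ← autFun_mul _ _ hx, mul_inv_cancel, autFun_one hx]
      conv_rhs => rw [← h2]
      exact (autFun_inv_apply b h1.1).symm
    refine ⟨inv_mem hb, hbs', fun c hc => ?_, inE hb1, inE hb2⟩
    have hcP : c ∈ PR S R := Subgroup.mem_sup_right hc
    have h1 := hbc _ (apply_centralizer (inv_mem hb) hR hbs' c hc)
    rw [← autFun_mul _ _ hcP, mul_inv_cancel, autFun_one hcP] at h1
    simpa using (T₁ ⊓ T₂).inv_mem h1

/-- The automorphism of `R` lifts. -/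
def Lft {R : Subgroup Ω} (hR : R ≤ S) (α : MulAut R) : Prop :=
  ∃ b ∈ Bgrp d hR, ∀ x ∈ R, autFun b x = autFun α x

theorem Lft.mem_autGroup {R : Subgroup Ω} {hR : R ≤ S} {α : MulAut R} (h : Lft d hR α) :
    α ∈ F.autGroup R := by
  obtain ⟨b, hb, hbe⟩ := h
  exact (Fus.mem_autGroup hR).2 ((((Fus.mem_autGroup (sup_le hR inf_le_left)).1 hb.1).res
    le_sup_left).congr hbe)

/-- The lifting automorphisms. -/
def Lgrp {R : Subgroup Ω} (hR : R ≤ S) : Subgroup (MulAut R) where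
  carrier := {α | Lft d hR α}
  mul_mem' := by
    rintro a a' ⟨b, hb, hbe⟩ ⟨b', hb', hbe'⟩
    exact ⟨b * b', mul_mem hb hb', fun x hx => by
      rw [autFun_mul _ _ (show x ∈ PR S R from Subgroup.mem_sup_left hx), autFun_mul _ _ hx,
        hbe' x hx, hbe _ (autFun_mem a' hx)]⟩
  one_mem' := ⟨1, one_mem _, fun x hx => by
    rw [autFun_one hx, autFun_one (show x ∈ PR S R from Subgroup.mem_sup_left hx)]⟩
  inv_mem' := by
    rintro a ⟨b, hb, hbe⟩
    refine ⟨b⁻¹, inv_mem hb, fun x hx => ?_⟩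
    have h1 := hbe _ (autFun_mem a⁻¹ hx)
    rw [← autFun_mul a a⁻¹ hx, mul_inv_cancel, autFun_one hx] at h1
    conv_lhs => rw [← h1]
    exact autFun_inv_apply b (show autFun a⁻¹ x ∈ PR S R from
      Subgroup.mem_sup_left (autFun_mem _ hx))

theorem normalizerIn_le_normalizer_PR {R : Subgroup Ω} :
    normalizerIn S R ≤ Subgroup.normalizer ((PR S R : Subgroup Ω) : Set Ω) := by
  have key : ∀ u ∈ normalizerIn S R, ∀ x ∈ PR S R, u * x * u⁻¹ ∈ PR S R := fun u hu x hx => by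
    obtain ⟨r, hr, c, hc, rfl⟩ := (mem_sup_normalized (fun z hz =>
      (centralizerIn_le_normalizerIn R hz).2)).1 hx
    rw [show u * (r * c) * u⁻¹ = (u * r * u⁻¹) * (u * c * u⁻¹) by group]
    refine Subgroup.mul_mem_sup ((Subgroup.mem_normalizer_iff.1 hu.2 r).1 hr)
      (mem_centralizerIn.2 ⟨S.mul_mem (S.mul_mem hu.1 hc.1) (S.inv_mem hu.1), fun y hy => ?_⟩)
    have hy' := (Subgroup.mem_normalizer_iff''.1 hu.2 y).1 hy
    calc y * (u * c * u⁻¹) = u * (u⁻¹ * y * u * c) * u⁻¹ := by group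
      _ = u * (c * (u⁻¹ * y * u)) * u⁻¹ := by rw [(mem_centralizerIn.1 hc).2 _ hy']
      _ = u * c * u⁻¹ * y := by group
  exact fun u hu => mem_normalizer_of_forall (key u hu)
    fun x hx => by simpa using key u⁻¹ (inv_mem hu) x hx

/-- The normalizer of `R` in `S` permutes the lifts. -/
theorem exists_conj_lift {R : Subgroup Ω} (hRS : R ≤ S) {u : Ω} (hu : u ∈ normalizerIn S R)
    {a : MulAut ↥(PR S R)} (ha : a ∈ Bgrp d hRS) :
    ∃ a' ∈ Bgrp d hRS, ∀ x ∈ PR S R, autFun a' x = u * autFun a (u⁻¹ * x * u) * u⁻¹ := by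
  have hT := closed d
  have hPS : PR S R ≤ S := sup_le hRS inf_le_left
  have hRP : R ≤ PR S R := le_sup_left
  have hun := normalizerIn_le_normalizer_PR d hu
  set c := (PR S R).normalizerMonoidHom ⟨u, hun⟩ with hc
  have hcA : c ∈ F.autGroup (PR S R) :=
    autInducedBy_le_autGroup F hPS (mem_autInducedBy_of_mem hu.1 hun)
  have hcv : ∀ x ∈ PR S R, autFun c x = u * x * u⁻¹ := fun x hx => autFun_coe c ⟨x, hx⟩
  have hciv : ∀ x ∈ PR S R, autFun c⁻¹ x = u⁻¹ * x * u := fun x hx => by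
    have hx' : u⁻¹ * x * u ∈ PR S R := (Subgroup.mem_normalizer_iff''.1 hun x).1 hx
    conv_lhs => rw [show x = autFun c (u⁻¹ * x * u) by rw [hcv _ hx']; group]
    exact autFun_inv_apply c hx'
  have hval : ∀ x ∈ PR S R, autFun (c * a * c⁻¹) x = u * autFun a (u⁻¹ * x * u) * u⁻¹ := by
    intro x hx
    rw [autFun_mul _ _ hx, autFun_mul _ _ (autFun_mem _ hx), hciv x hx]
    exact hcv _ (autFun_mem a ((Subgroup.mem_normalizer_iff''.1 hun x).1 hx))
  have hcR : ∀ x ∈ R, u⁻¹ * x * u ∈ R := fun x hx =>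
    (Subgroup.mem_normalizer_iff''.1 hu.2 x).1 hx
  have hcR' : ∀ x ∈ R, u * x * u⁻¹ ∈ R := fun x hx =>
    (Subgroup.mem_normalizer_iff.1 hu.2 x).1 hx
  refine ⟨c * a * c⁻¹, ⟨mul_mem (mul_mem hcA ha.1) (inv_mem hcA), fun x hx => ⟨?_, ?_⟩,
    fun x hx => ?_, ?_, ?_⟩, hval⟩
  · rw [hval x (hRP hx)]
    exact hcR' _ (ha.2.1 _ (hcR x hx)).1
  · rw [show (c * a * c⁻¹)⁻¹ = c * a⁻¹ * c⁻¹ by group, autFun_mul _ _ (hRP hx),
      autFun_mul _ _ (autFun_mem _ (hRP hx)), hciv x (hRP hx),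
      hcv _ (autFun_mem a⁻¹ (hRP (hcR x hx)))]
    exact hcR' _ (ha.2.1 _ (hcR x hx)).2
  · have hx' : u⁻¹ * x * u ∈ centralizerIn S R := mem_centralizerIn.2
      ⟨S.mul_mem (S.mul_mem (S.inv_mem hu.1) hx.1) hu.1, fun y hy => by
        have h1 := (mem_centralizerIn.1 hx).2 _ (hcR' y hy)
        calc y * (u⁻¹ * x * u) = u⁻¹ * (u * y * u⁻¹ * x) * u := by group
          _ = u⁻¹ * x * u * y := by rw [h1]; group⟩
    rw [hval x (Subgroup.mem_sup_right hx),
      show x⁻¹ * (u * autFun a (u⁻¹ * x * u) * u⁻¹) =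
        u * ((u⁻¹ * x * u)⁻¹ * autFun a (u⁻¹ * x * u)) * u⁻¹ by group]
    exact StronglyClosed.conj_mem' hT hu.1 (ha.2.2.1 _ hx')
  · exact inE_conj d.n₁ hPS hun hu.1 ha.2.2.2.1 hval
  · exact inE_conj d.n₂ hPS hun hu.1 ha.2.2.2.2 hval

/-- A lift inducing on `R` a conjugation from `S` is induced from `S`. -/
theorem lift_induced {R : Subgroup Ω} (hR : TCen F (T₁ ⊓ T₂) R) (hRc : F.IsFullyCentralized R)
    {b : MulAut ↥(PR S R)} (hb : b ∈ Bgrp d hRc.1) {s : Ω} (hs : s ∈ normalizerIn S R)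
    (hbs : ∀ x ∈ R, autFun b x = s * x * s⁻¹) :
    ∃ s' ∈ normalizerIn S R, ∀ x ∈ PR S R, autFun b x = s' * x * s'⁻¹ := by
  have hRS := hRc.1
  have hT := closed d
  have hPS : PR S R ≤ S := sup_le hRS inf_le_left
  haveI := finite_of_le hPS
  haveI := finite_of_le hRS
  have hRP : R ≤ PR S R := le_sup_left
  let res : MulAut ↥(PR S R) → Ω → Ω := fun b x => autFun b x
  -- the lifts of conjugations from `S`
  let Bd : Subgroup (MulAut ↥(PR S R)) :=
    { carrier := {b | b ∈ Bgrp d hRS ∧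
        ∃ α ∈ autInducedBy S R, ∀ x ∈ R, autFun b x = autFun α x}
      mul_mem' := by
        rintro a a' ⟨ha, α, hα, hαe⟩ ⟨ha', α', hα', hαe'⟩
        exact ⟨mul_mem ha ha', α * α', mul_mem hα hα', fun x hx => by
          rw [autFun_mul _ _ (hRP hx), autFun_mul _ _ hx, hαe' x hx, hαe _ (autFun_mem _ hx)]⟩
      one_mem' := ⟨one_mem _, 1, one_mem _, fun x hx => by
        rw [autFun_one hx, autFun_one (hRP hx)]⟩
      inv_mem' := by
        rintro a ⟨ha, α, hα, hαe⟩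
        refine ⟨inv_mem ha, α⁻¹, inv_mem hα, fun x hx => ?_⟩
        have h1 := hαe _ (autFun_mem α⁻¹ hx)
        rw [← autFun_mul α α⁻¹ hx, mul_inv_cancel, autFun_one hx] at h1
        conv_lhs => rw [← h1]
        exact autFun_inv_apply a (hRP (autFun_mem _ hx)) }
  -- a lift fixing `R` has `p`-power order
  have hfixp : ∀ a ∈ Bgrp d hRS, (∀ x ∈ R, autFun a x = x) → a ^ Nat.card R = 1 := by
    intro a ha hfix
    have ham : IsMap F (PR S R) (autFun a) := (Fus.mem_autGroup hPS).1 ha.1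
    refine mulAut_ext fun y hy => ?_
    rw [autFun_one hy]
    obtain ⟨r, hr, c, hc, rfl⟩ := (mem_sup_normalized (fun z hz =>
      (centralizerIn_le_normalizerIn R hz).2)).1 hy
    have hd : c⁻¹ * autFun a c ∈ R := hR.cent_le hT (mem_centralizerIn.2 ⟨ha.2.2.1 c hc,
      fun x hx => by
        have h1 := (mem_centralizerIn.1 hc).2 x hx
        have h2 := (mem_centralizerIn.1 (apply_centralizer ha.1 hRS ha.2.1 c hc)).2 x hx
        calc x * (c⁻¹ * autFun a c) = c⁻¹ * (c * x) * (c⁻¹ * autFun a c) := by group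
          _ = c⁻¹ * (x * autFun a c) := by rw [← h1]; group
          _ = c⁻¹ * autFun a c * x := by rw [h2]; group⟩)
    have key : ∀ i : ℕ, autFun (a ^ i) (r * c) = r * c * (c⁻¹ * autFun a c) ^ i := by
      intro i
      induction i with
      | zero => rw [pow_zero, autFun_one hy, pow_zero, mul_one]
      | succ i ih =>
        have hdi : (c⁻¹ * autFun a c) ^ i ∈ R := R.pow_mem hd i
        rw [pow_succ', autFun_mul _ _ hy, ih, ham.map_mul hy (hRP hdi), hfix _ hdi,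
          ham.map_mul (hRP hr) (Subgroup.mem_sup_right hc), hfix r hr, pow_succ']
        simp only [mul_assoc, mul_inv_cancel_left]
    have h4 : (⟨_, hd⟩ : R) ^ Nat.card R = 1 := pow_card_eq_one'
    rw [key, show (c⁻¹ * autFun a c) ^ Nat.card R = 1 from congrArg Subtype.val h4, mul_one]
  obtain ⟨m, hm⟩ := (d.pG.to_le hRS).exists_card_eq
  have hBdp : IsPGroup p Bd := by
    rintro ⟨a, ha, α, hα, hαe⟩
    obtain ⟨k, hk⟩ := isPGroup_autInducedBy d.pG R ⟨α, hα⟩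
    refine ⟨k + m, Subtype.ext ?_⟩
    show a ^ p ^ (k + m) = 1
    rw [pow_add, pow_mul, ← hm]
    refine hfixp _ (pow_mem ha _) fun x hx => ?_
    rw [autFun_pow_eqOn hRP (fun y hy => (hαe y hy).symm) (p ^ k) x hx |>.symm,
      show α ^ p ^ k = 1 from congrArg Subtype.val hk, autFun_one hx]
  have hPn : normalizerIn S R ≤ Subgroup.normalizer ((PR S R : Subgroup Ω) : Set Ω) :=
    normalizerIn_le_normalizer_PR d
  set A := autInducedBy (normalizerIn S R) (PR S R) with hA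
  have hAp : IsPGroup p A :=
    (isPGroup_autInducedBy d.pG _).to_le (autInducedBy_mono inf_le_left _)
  have hAn : A ≤ Subgroup.normalizer (Bd : Set (MulAut ↥(PR S R))) := by
    have key : ∀ c ∈ A, ∀ a ∈ Bd, c * a * c⁻¹ ∈ Bd := by
      intro c hc a ha
      obtain ⟨u, hu, hue⟩ := mem_autInducedBy.1 hc
      obtain ⟨ha, α, hα, hαe⟩ := ha
      have hcA : c ∈ F.autGroup (PR S R) :=
        autInducedBy_le_autGroup F hPS (autInducedBy_mono inf_le_left _ hc)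
      have hcv : ∀ x ∈ PR S R, autFun c x = u * x * u⁻¹ := fun x hx => by
        rw [show autFun c x = ((c ⟨x, hx⟩ : ↥(PR S R)) : Ω) from autFun_coe c ⟨x, hx⟩, hue]
      have hciv : ∀ x ∈ PR S R, autFun c⁻¹ x = u⁻¹ * x * u := fun x hx => by
        have hx' : u⁻¹ * x * u ∈ PR S R :=
          (Subgroup.mem_normalizer_iff''.1 (hPn hu) x).1 hx
        conv_lhs => rw [show x = autFun c (u⁻¹ * x * u) by rw [hcv _ hx']; group]
        exact autFun_inv_apply c hx'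
      have hval : ∀ x ∈ PR S R, autFun (c * a * c⁻¹) x = u * autFun a (u⁻¹ * x * u) * u⁻¹ := by
        intro x hx
        rw [autFun_mul _ _ hx, autFun_mul _ _ (autFun_mem _ hx), hciv x hx]
        exact hcv _ (autFun_mem a ((Subgroup.mem_normalizer_iff''.1 (hPn hu) x).1 hx))
      have hcR : ∀ x ∈ R, u⁻¹ * x * u ∈ R := fun x hx =>
        (Subgroup.mem_normalizer_iff''.1 hu.2 x).1 hx
      have hcR' : ∀ x ∈ R, u * x * u⁻¹ ∈ R := fun x hx =>
        (Subgroup.mem_normalizer_iff.1 hu.2 x).1 hx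
      refine ⟨?_, R.normalizerMonoidHom ⟨u, hu.2⟩ * α * (R.normalizerMonoidHom ⟨u, hu.2⟩)⁻¹,
          mul_mem (mul_mem (mem_autInducedBy_of_mem hu.1 hu.2) hα)
            (inv_mem (mem_autInducedBy_of_mem hu.1 hu.2)), fun x hx => ?_⟩
      · obtain ⟨a', ha', ha'e⟩ := exists_conj_lift d hRS hu ha
        rwa [mulAut_ext (α := c * a * c⁻¹) (β := a') fun x hx => by rw [hval x hx, ha'e x hx]]
      · rw [hval x (hRP hx), hαe _ (hcR x hx), autFun_mul _ _ hx,
          autFun_mul _ _ (autFun_mem _ hx)]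
        rw [show autFun (R.normalizerMonoidHom ⟨u, hu.2⟩)⁻¹ x = u⁻¹ * x * u by
          rw [← map_inv, show autFun (R.normalizerMonoidHom (⟨u, hu.2⟩⁻¹)) x = _ from
            autFun_coe _ ⟨x, hx⟩, normalizerMonoidHom_apply]
          show u⁻¹ * x * u⁻¹⁻¹ = _
          rw [inv_inv]]
        exact (autFun_coe (R.normalizerMonoidHom ⟨u, hu.2⟩)
          ⟨_, autFun_mem α (hcR x hx)⟩).symm
    exact fun c hc => mem_normalizer_of_forall (key c hc) fun a ha => by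
      simpa using key c⁻¹ (inv_mem hc) a ha
  have hYp : IsPGroup p (A ⊔ Bd : Subgroup (MulAut ↥(PR S R))) :=
    hAp.to_sup_of_normal_right' hBdp hAn
  have hcs : (PR S R).normalizerMonoidHom ⟨s, hPn hs⟩ ∈ A :=
    mem_autInducedBy_of_mem hs (hPn hs)
  have hbBd : b ∈ Bd := ⟨hb, R.normalizerMonoidHom ⟨s, hs.2⟩,
    mem_autInducedBy_of_mem hs.1 hs.2, fun x hx => by
      rw [hbs x hx]
      exact (autFun_coe (R.normalizerMonoidHom ⟨s, hs.2⟩) ⟨x, hx⟩).symm⟩
  set c := (PR S R).normalizerMonoidHom ⟨s, hPn hs⟩ with hcdef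
  have hCn : centralizerIn S R ≤ Subgroup.normalizer ((PR S R : Subgroup Ω) : Set Ω) :=
    (centralizerIn_le_normalizerIn R).trans hPn
  set H := (A ⊔ Bd) ⊓ InvMap.fixers F R (PR S R) hRP
  have hin := fix_group_le d.pG d.sat hRc hRP hPS hCn (H := H)
    (fun a ha => (Subgroup.mem_inf.1 ha).2.1)
    (hYp.to_le inf_le_left)
    (fun a ha => (Subgroup.mem_inf.1 ha).2.2) fun a ha => by
      refine ⟨Subgroup.mem_sup_left (autInducedBy_mono (centralizerIn_le_normalizerIn R) _ ha),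
        autInducedBy_le_autGroup F hPS (autInducedBy_mono inf_le_left _ ha), fun x hx => ?_⟩
      obtain ⟨z, hz, hze⟩ := mem_autInducedBy.1 ha
      rw [show autFun a x = ((a ⟨x, hRP hx⟩ : ↥(PR S R)) : Ω) from autFun_coe a ⟨x, hRP hx⟩, hze]
      show z * x * z⁻¹ = x
      rw [← (mem_centralizerIn.1 hz).2 x hx, mul_inv_cancel_right]
  have hmem : c⁻¹ * b ∈ H := by
    refine ⟨mul_mem (Subgroup.mem_sup_left (inv_mem hcs)) (Subgroup.mem_sup_right hbBd),
      mul_mem (inv_mem (autInducedBy_le_autGroup F hPS (autInducedBy_mono inf_le_left _ hcs))) hb.1,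
      fun x hx => ?_⟩
    have hx' : autFun c x = s * x * s⁻¹ :=
      autFun_coe ((PR S R).normalizerMonoidHom ⟨s, hPn hs⟩) ⟨x, hRP hx⟩
    rw [autFun_mul _ _ (hRP hx), hbs x hx, ← hx', autFun_inv_apply c (hRP hx)]
  obtain ⟨z, hz, hze⟩ := mem_autInducedBy.1 (hin hmem)
  refine ⟨s * z, mul_mem hs (centralizerIn_le_normalizerIn R hz), fun x hx => ?_⟩
  have h1 : autFun (c⁻¹ * b) x = z * x * z⁻¹ := by
    rw [show autFun (c⁻¹ * b) x = (((c⁻¹ * b) ⟨x, hx⟩ : ↥(PR S R)) : Ω) from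
      autFun_coe _ ⟨x, hx⟩, hze]
  have h2 : autFun b x = autFun c (autFun (c⁻¹ * b) x) := by
    rw [← autFun_mul _ _ hx, mul_inv_cancel_left]
  rw [h2, h1]
  have hzx : z * x * z⁻¹ ∈ PR S R := (Subgroup.mem_normalizer_iff.1 (hCn hz) x).1 hx
  rw [show autFun c (z * x * z⁻¹) = s * (z * x * z⁻¹) * s⁻¹ from
    autFun_coe ((PR S R).normalizerMonoidHom ⟨s, hPn hs⟩) ⟨_, hzx⟩]
  group

/-- A liftable automorphism of order prime to `p` extends to `V ≥ R C_S(R)` inside both subsystems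
and trivially modulo `T₁ ⊓ T₂`. -/
theorem exists_up {R V : Subgroup Ω} (hR : TCen F (T₁ ⊓ T₂) R) (hRc : F.IsFullyCentralized R)
    {α : MulAut R} (hα : Lft d hRc.1 α) {m : ℕ} (hm : m.Coprime p) (hαm : α ^ m = 1)
    (hPV : PR S R ≤ V) (hVn : V ≤ normalizerIn S R)
    (hU : ∀ u ∈ V, ∃ u' ∈ V, ∀ x ∈ R, autFun α (u * x * u⁻¹) = u' * autFun α x * u'⁻¹) :
    ∃ φ ∈ F.autGroup V, ∃ n : ℕ, n.Coprime p ∧ φ ^ n = 1 ∧
      (∀ x ∈ R, autFun φ x = autFun α x) ∧ InE E₁ (V ⊓ T₁) (autFun φ) ∧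
      InE E₂ (V ⊓ T₂) (autFun φ) ∧ ∀ u ∈ V, u⁻¹ * autFun φ u ∈ T₁ ⊓ T₂ := by
  have hRS := hRc.1
  have hPS : PR S R ≤ S := sup_le hRS inf_le_left
  have hRP : R ≤ PR S R := le_sup_left
  haveI := finite_of_le hPS
  have hVS : V ≤ S := hVn.trans inf_le_left
  haveI := finite_of_le hVS
  obtain ⟨b₀, hb₀, hb₀e⟩ := hα
  obtain ⟨k, n₀, hn₀, hbn, hαk⟩ := InvExt.exists_coprime_power (p := p) b₀ hm hαm
  set b := b₀ ^ k with hbdef
  have hb : b ∈ Bgrp d hRS := pow_mem hb₀ k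
  have hbe : ∀ x ∈ R, autFun b x = autFun α x := fun x hx => by
    rw [← autFun_pow_eqOn hRP (fun y hy => (hb₀e y hy).symm) k x hx, hαk]
  have hbm : IsMap F (PR S R) (autFun b) := (Fus.mem_autGroup hPS).1 hb.1
  -- `P` is centric, so receptive
  have hPc : F.IsCentric (PR S R) := by
    refine ⟨hPS, fun Q hQ => ?_⟩
    obtain ⟨g, hg, rfl⟩ := isConj_iff.1 hQ
    have hsurj : fimg g (centralizerIn S R) = centralizerIn S (fimg g R) := by
      haveI : Finite ↥(centralizerIn S (fimg g R)) := finite_of_le (S := S) inf_le_left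
      refine Subgroup.eq_of_le_of_card_ge
        (fimg_le fun c hc => hg.map_centralizerIn hRP (Subgroup.mem_sup_right hc) hc.2) ?_
      rw [(hg.res le_sup_right).card_fimg]
      exact hRc.2 _ (hg.res hRP).isConj
    exact (inf_le_inf_left _ (Subgroup.centralizer_le (fimg_mono g hRP))).trans
      (le_of_eq_of_le hsurj.symm (fimg_mono g le_sup_right))
  have hPn := normalizerIn_le_normalizer_PR d (R := R)
  obtain ⟨f, hf, hfe⟩ := receptive_extend
    (receptive_of_fullyCentralized d.pG d.sat (fullyCentralized_of_centric hPc)) hbm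
    (fimg_autFun b) (N := V) (fun u hu => by
      refine ⟨⟨hVS hu, hPn (hVn hu)⟩, ?_⟩
      obtain ⟨a, ha, hae⟩ := exists_conj_lift d hRS (hVn hu) (inv_mem hb)
      obtain ⟨u', hu', hu'e⟩ := hU u hu
      have hst : u' * u⁻¹ ∈ normalizerIn S R := mul_mem (hVn hu') (inv_mem (hVn hu))
      obtain ⟨s, hs, hse⟩ := lift_induced d hR hRc (mul_mem hb ha) hst fun x hx => by
        have hxP : x ∈ PR S R := hRP hx
        have hux : u⁻¹ * x * u ∈ R := (Subgroup.mem_normalizer_iff''.1 (hVn hu).2 x).1 hx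
        have h1 : autFun b⁻¹ (u⁻¹ * x * u) ∈ R := (hb.2.1 _ hux).2
        rw [autFun_mul _ _ hxP, hae x hxP,
          hbe _ ((Subgroup.mem_normalizer_iff.1 (hVn hu).2 _).1 h1), hu'e _ h1, ← hbe _ h1,
          ← autFun_mul b b⁻¹ (hRP hux), mul_inv_cancel, autFun_one (hRP hux)]
        group
      refine ⟨s * u, S.mul_mem hs.1 (hVS hu), fun x hx => ?_⟩
      have hux : u * x * u⁻¹ ∈ PR S R := (Subgroup.mem_normalizer_iff.1 (hPn (hVn hu)) x).1 hx
      have hbx := autFun_mem b hx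
      have hubx : u * autFun b x * u⁻¹ ∈ PR S R :=
        (Subgroup.mem_normalizer_iff.1 (hPn (hVn hu)) _).1 hbx
      have h2 := hse _ hubx
      rw [autFun_mul _ _ hubx, hae _ hubx,
        show u⁻¹ * (u * autFun b x * u⁻¹) * u = autFun b x by group, autFun_inv_apply b hx] at h2
      rw [h2]
      group) hPV
  have hfR : fimg f R = R := by
    rw [fimg_congr fun x hx => show f x = autFun α x by rw [hfe x (hRP hx), hbe x hx],
      fimg_autFun]
  have hfV : fimg f V = V := by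
    refine Subgroup.eq_of_le_of_card_ge (fimg_le fun u hu => ?_) hf.card_fimg.ge
    obtain ⟨u', hu', hu'e⟩ := hU u hu
    rw [show f u = u' * (u'⁻¹ * f u) by group]
    refine V.mul_mem hu' (hPV (Subgroup.mem_sup_right (mem_centralizerIn.2
      ⟨S.mul_mem (S.inv_mem (hVS hu')) (hf.apply_mem hu), fun y hy => ?_⟩)))
    obtain ⟨x, hx, rfl⟩ := ((hf.res (hRP.trans hPV)).mem_fimg_iff).1 (hfR.ge hy)
    have h1 := hf.map_conj hu (hPV (hRP hx))
    have hux := (Subgroup.mem_normalizer_iff.1 (hVn hu).2 x).1 hx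
    rw [hfe _ (hRP hux), hbe _ hux, hu'e x hx, ← hbe x hx, ← hfe x (hRP hx)] at h1
    calc f x * (u'⁻¹ * f u) = u'⁻¹ * (u' * f x * u'⁻¹) * f u := by group
      _ = u'⁻¹ * (f u * f x * (f u)⁻¹) * f u := by rw [h1]
      _ = u'⁻¹ * f u * f x := by group
  obtain ⟨φ₀, hφ₀, hφ₀e⟩ := hf.exists_aut hfV
  obtain ⟨j, n, hn, hφn, hbj⟩ := InvExt.exists_coprime_power (p := p) φ₀ hn₀ hbn
  set φ := φ₀ ^ j with hφdef
  have hφ : φ ∈ F.autGroup V := pow_mem hφ₀ j
  have hφb : ∀ x ∈ PR S R, autFun φ x = autFun b x := fun x hx => by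
    rw [← autFun_pow_eqOn hPV (fun y hy => by rw [hφ₀e y (hPV hy), hfe y hy]) j x hx, hbj]
  have h1 := up_one d.pG d.sat d.n₁ (hR.1.trans inf_le_left) hRc hPV hVn hφ hn hφn
    (hb.2.2.2.1.congr fun x hx => hφb x hx.1) fun c hc => by
      rw [hφb c (Subgroup.mem_sup_right hc)]
      exact (hb.2.2.1 c hc).1
  have h2 := up_one d.pG d.sat d.n₂ (hR.1.trans inf_le_right) hRc hPV hVn hφ hn hφn
    (hb.2.2.2.2.congr fun x hx => hφb x hx.1) fun c hc => by
      rw [hφb c (Subgroup.mem_sup_right hc)]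
      exact (hb.2.2.1 c hc).2
  exact ⟨φ, hφ, n, hn, hφn, fun x hx => by rw [hφb x (hRP hx), hbe x hx], h1.1, h2.1,
    fun u hu => ⟨h1.2 u hu, h2.2 u hu⟩⟩

/-- An extended automorphism lifts on every subgroup it stabilizes. -/
theorem lft_of_up {Q V : Subgroup Ω} (hQ : Q ≤ T₁ ⊓ T₂) (hQS : Q ≤ S) (hPV : PR S Q ≤ V)
    (hVS : V ≤ S) {φ : MulAut V} (hφ : φ ∈ F.autGroup V) (h1 : InE E₁ (V ⊓ T₁) (autFun φ))
    (h2 : InE E₂ (V ⊓ T₂) (autFun φ)) (ht : ∀ u ∈ V, u⁻¹ * autFun φ u ∈ T₁ ⊓ T₂)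
    {β : MulAut Q} (hβ : ∀ x ∈ Q, autFun β x = autFun φ x) : Lft d hQS β := by
  have hQP : Q ≤ PR S Q := le_sup_left
  have hPS : PR S Q ≤ S := sup_le hQS inf_le_left
  haveI := finite_of_le hPS
  have hm : IsMap F V (autFun φ) := (Fus.mem_autGroup hVS).1 hφ
  have hQQ : fimg (autFun φ) Q = Q := by rw [← fimg_congr hβ, fimg_autFun]
  have hC : ∀ c ∈ centralizerIn S Q, autFun φ c ∈ centralizerIn S Q := fun c hc => by
    have := hm.map_centralizerIn (hQP.trans hPV) (hPV (Subgroup.mem_sup_right hc)) hc.2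
    rwa [hQQ] at this
  have hst : ∀ x ∈ PR S Q, autFun φ x ∈ PR S Q := fun x hx => by
    obtain ⟨a, ha, c, hc, rfl⟩ := (mem_sup_normalized (fun z hz =>
      (centralizerIn_le_normalizerIn Q hz).2)).1 hx
    rw [hm.map_mul (hPV (hQP ha)) (hPV (Subgroup.mem_sup_right hc)), ← hβ a ha]
    exact Subgroup.mul_mem_sup (autFun_mem β ha) (hC c hc)
  have hPm := hm.res hPV
  obtain ⟨b, hb, hbe⟩ := hPm.exists_aut
    (Subgroup.eq_of_le_of_card_ge (fimg_le hst) hPm.card_fimg.ge)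
  refine ⟨b, ⟨hb, fun x hx => ⟨?_, ?_⟩, fun c hc => ?_, ?_, ?_⟩, fun x hx => ?_⟩
  · rw [hbe x (hQP hx), ← hβ x hx]
    exact autFun_mem β hx
  · have hy := autFun_mem β⁻¹ hx
    have h : autFun b (autFun β⁻¹ x) = x := by
      rw [hbe _ (hQP hy), ← hβ _ hy, ← autFun_mul _ _ hx, mul_inv_cancel, autFun_one hx]
    rw [← h, autFun_inv_apply b (hQP hy)]
    exact hy
  · rw [hbe c (Subgroup.mem_sup_right hc)]
    exact ht c (hPV (Subgroup.mem_sup_right hc))
  · refine (h1.res (S := S) d.n₁.1.2.2.2.1.1 inf_le_right (inf_le_inf_right _ hPV) fun x hx =>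
      ⟨hst x hx.1, StronglyClosed.apply_mem d.n₁.1.2.2.2.1 (hPm.res inf_le_left)
        (inf_le_right : PR S Q ⊓ T₁ ≤ T₁) hx⟩).congr fun x hx => hbe x hx.1
  · refine (h2.res (S := S) d.n₂.1.2.2.2.1.1 inf_le_right (inf_le_inf_right _ hPV) fun x hx =>
      ⟨hst x hx.1, StronglyClosed.apply_mem d.n₂.1.2.2.2.1 (hPm.res inf_le_left)
        (inf_le_right : PR S Q ⊓ T₂ ≤ T₂) hx⟩).congr fun x hx => hbe x hx.1
  · rw [hbe x (hQP hx), hβ x hx]

end Cfsg.Agent.Fus.Inter
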