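import Mathlib
import Cfsg.Agent.Lib.Fus.InterLift
import Cfsg.Agent.Lib.Fus.GroupHyperfocal

/-!
The invariant family of two normal subsystems: on a fully normalized `R`, the liftable
automorphisms of order prime to `p` and the conjugations from `T₁ ⊓ T₂`, carried to all conjugates.
-/

set_option autoImplicit false
set_option linter.style.haveILetI false
set_option linter.unusedSectionVars false
set_option linter.unusedVariables false

open scoped Classical

universe u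

namespace Cfsg.Agent.Fus.Inter

open Subgroup FusionSystem InvMap

variable {Ω : Type u} [Group Ω] {S : Subgroup Ω} {F : FusionSystem S} {p : ℕ}
  {T₁ T₂ : Subgroup Ω} {E₁ : FusionSystem T₁} {E₂ : FusionSystem T₂} [Finite S] [Fact p.Prime]
  (d : Two F p E₁ E₂)
include d

theorem le_S {R : Subgroup Ω} (hR : TCen F (T₁ ⊓ T₂) R) : R ≤ S := hR.1.trans (closed d).1

/-- The automorphism is a liftable one of order prime to `p`. -/
def Gens {R : Subgroup Ω} (α : MulAut R) : Prop :=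
  ∃ hR : R ≤ S, Lft d hR α ∧ (orderOf α).Coprime p

/-- The subgroup generated by the liftable automorphisms of order prime to `p`. -/
def Kgrp (R : Subgroup Ω) : Subgroup (MulAut R) := Subgroup.closure {α | Gens d α}

/-- The value of the family at a fully normalized subgroup. -/
def M₀ (R : Subgroup Ω) : Subgroup (MulAut R) := Kgrp d R ⊔ autInducedBy (T₁ ⊓ T₂) R

/-- The family. -/
def Mf (R : Subgroup Ω) : Subgroup (MulAut R) :=
  Subgroup.closure {α | ∃ (R₀ : Subgroup Ω) (v : Ω → Ω) (e : R₀ ≃* R) (x : MulAut R₀),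
    TCen F (T₁ ⊓ T₂) R₀ ∧ F.IsFullyNormalized R₀ ∧ IsMap F R₀ v ∧ fimg v R₀ = R ∧
    (∀ y : R₀, (e y : Ω) = v y) ∧ (Gens d x ∨ x ∈ autInducedBy (T₁ ⊓ T₂) R₀) ∧
    MulAut.congr e x = α}

theorem gens_le_lft {R : Subgroup Ω} (hR : R ≤ S) : Kgrp d R ≤ Lgrp d hR :=
  (Subgroup.closure_le _).2 fun _ ⟨_, h, _⟩ => h

/-- Liftable automorphisms are carried by maps between fully centralized subgroups. -/
theorem lft_congr {R R' : Subgroup Ω} (hR : TCen F (T₁ ⊓ T₂) R) (hRc : F.IsFullyCentralized R)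
    (hR'c : F.IsFullyCentralized R') {v : Ω → Ω} (hv : IsMap F R v) (hvR : fimg v R = R')
    (e : R ≃* R') (he : ∀ x : R, (e x : Ω) = v x) {α : MulAut R} (hα : Lft d hRc.1 α) :
    Lft d hR'c.1 (MulAut.congr e α) := by
  have hRS := hRc.1
  have hT := closed d
  have hPS : PR S R ≤ S := sup_le hRS inf_le_left
  have hRP : R ≤ PR S R := le_sup_left
  have hPn : PR S R ≤ normalizerIn S R :=
    sup_le (le_normalizerIn hRS) (centralizerIn_le_normalizerIn R)
  obtain ⟨w, hw, hwe⟩ := receptive_extend (receptive_of_fullyCentralized d.pG d.sat hR'c) hv hvR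
    (N := PR S R) (fun g hg => by
      refine ⟨hPn hg, ?_⟩
      obtain ⟨a, ha, c, hc, rfl⟩ := (mem_sup_normalized (fun y hy =>
        (centralizerIn_le_normalizerIn R hy).2)).1 hg
      refine ⟨v a, hv.apply_mem ha, fun x hx => ?_⟩
      rw [← hv.map_conj ha hx, show a * c * x * (a * c)⁻¹ = a * (c * x * c⁻¹) * a⁻¹ by group,
        show c * x * c⁻¹ = x by rw [← (mem_centralizerIn.1 hc).2 x hx, mul_inv_cancel_right]])
    hRP
  have hwR : fimg w R = R' := (fimg_congr hwe).trans hvR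
  haveI := finite_of_le (sup_le hR'c.1 inf_le_left : PR S R' ≤ S)
  haveI : Finite ↥(centralizerIn S R') := finite_of_le (S := S) inf_le_left
  have hwC : fimg w (centralizerIn S R) = centralizerIn S R' := by
    refine Subgroup.eq_of_le_of_card_ge (fimg_le fun c hc =>
      hwR ▸ hw.map_centralizerIn hRP (Subgroup.mem_sup_right hc) hc.2) ?_
    rw [(hw.res le_sup_right).card_fimg]
    exact hRc.2 _ (hvR ▸ hv.isConj)
  have hwP : fimg w (PR S R) = PR S R' := by
    show fimg w (R ⊔ centralizerIn S R) = R' ⊔ centralizerIn S R'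
    rw [hw.fimg_sup, hwR, hwC]
  obtain ⟨ew, hew, hewA⟩ := exists_mulEquiv hw hwP
  obtain ⟨b, hb, hbe⟩ := hα
  have hbw : ∀ z ∈ PR S R, autFun (MulAut.congr ew b) (w z) = w (autFun b z) :=
    fun z hz => autFun_congr ew hew b hz
  have inE : ∀ {U : Subgroup Ω} {E : FusionSystem U}, E.IsNormalIn F p →
      InE E (PR S R ⊓ U) (autFun b) → InE E (PR S R' ⊓ U) (autFun (MulAut.congr ew b)) := by
    rintro U E hE ⟨γ, hγ, hγe⟩
    have hm := hw.res (inf_le_left : PR S R ⊓ U ≤ PR S R)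
    have himg : fimg w (PR S R ⊓ U) = PR S R' ⊓ U := by
      rw [InvClass.fimg_inf hE.1.2.2.2.1 hw, hwP]
    obtain ⟨e', he', -⟩ := exists_mulEquiv hm himg
    refine ⟨MulAut.congr e' γ, InvClass.congr_autGroup hE.1.2.2 inf_le_right hm himg e' he' hγ,
      fun y hy => ?_⟩
    obtain ⟨z, hz, rfl⟩ := hm.mem_fimg_iff.1 (himg.ge hy)
    rw [autFun_congr e' he' γ hz, hbw z hz.1, hγe z hz]
  refine ⟨MulAut.congr ew b, ⟨(hewA b).1 hb.1, fun y hy => ?_, fun c hc => ?_,
    inE d.n₁ hb.2.2.2.1, inE d.n₂ hb.2.2.2.2⟩, fun y hy => ?_⟩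
  · obtain ⟨z, hz, rfl⟩ := (hw.res hRP).mem_fimg_iff.1 (hwR.ge hy)
    refine ⟨?_, ?_⟩
    · rw [hbw z (hRP hz), ← hwR]
      exact apply_mem_fimg w (hb.2.1 z hz).1
    · rw [show (MulAut.congr ew b)⁻¹ = MulAut.congr ew b⁻¹ from (map_inv _ b).symm,
        autFun_congr ew hew b⁻¹ (hRP hz), ← hwR]
      exact apply_mem_fimg w (hb.2.1 z hz).2
  · obtain ⟨z, hz, rfl⟩ := (hw.res le_sup_right).mem_fimg_iff.1 (hwC.ge hc)
    have hzP : z ∈ PR S R := Subgroup.mem_sup_right hz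
    have h1 : z⁻¹ * autFun b z ∈ PR S R := mul_mem (inv_mem hzP) (autFun_mem b hzP)
    rw [hbw z hzP, ← hw.map_inv hzP, ← hw.map_mul (inv_mem hzP) (autFun_mem b hzP)]
    exact StronglyClosed.apply_mem hT (hw.res inf_le_left)
      (inf_le_right : PR S R ⊓ (T₁ ⊓ T₂) ≤ _) ⟨h1, hb.2.2.1 z hz⟩
  · obtain ⟨z, hz, rfl⟩ := hv.mem_fimg_iff.1 (hvR.ge hy)
    rw [← hwe z hz, hbw z (hRP hz), hwe z hz, autFun_congr e he α hz, hbe z hz,
      hwe _ (autFun_mem α hz)]

/-- Conjugation by an automorphism as a transport. -/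
theorem congr_self {R : Subgroup Ω} (γ α : MulAut R) :
    MulAut.congr γ α = γ * α * γ⁻¹ := by
  refine MulEquiv.ext fun x => ?_
  simp [MulAut.congr]

theorem gens_conj {R : Subgroup Ω} (hR : TCen F (T₁ ⊓ T₂) R) (hRc : F.IsFullyCentralized R)
    {γ : MulAut R} (hγ : γ ∈ F.autGroup R) {α : MulAut R} (hα : Gens d α) :
    Gens d (γ * α * γ⁻¹) := by
  obtain ⟨hRS, hl, ho⟩ := hα
  refine ⟨hRS, ?_, ?_⟩
  · rw [← congr_self d]
    exact lft_congr d hR hRc hRc ((Fus.mem_autGroup hRS).1 hγ) (fimg_autFun γ) γ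
      (fun x => (autFun_coe γ x).symm) hl
  · rw [show γ * α * γ⁻¹ = MulAut.conj γ α from rfl, MulEquiv.orderOf_eq]
    exact ho

theorem Kgrp_conj {R : Subgroup Ω} (hR : TCen F (T₁ ⊓ T₂) R) (hRc : F.IsFullyCentralized R)
    {γ : MulAut R} (hγ : γ ∈ F.autGroup R) {k : MulAut R} (hk : k ∈ Kgrp d R) :
    γ * k * γ⁻¹ ∈ Kgrp d R := by
  have : (Kgrp d R).map (MulAut.conj γ).toMonoidHom ≤ Kgrp d R := by
    rw [Kgrp, MonoidHom.map_closure]
    refine Subgroup.closure_mono ?_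
    rintro _ ⟨α, hα, rfl⟩
    exact gens_conj d hR hRc hγ hα
  exact this ⟨k, hk, rfl⟩

theorem M₀_le {R : Subgroup Ω} (hR : TCen F (T₁ ⊓ T₂) R) : M₀ d R ≤ F.autGroup R :=
  sup_le ((Subgroup.closure_le _).2 fun _ ⟨_, h, _⟩ => Lft.mem_autGroup d h)
    (autInducedBy_le_autGroup F (le_S d hR) |> (autInducedBy_mono (closed d).1 R).trans)

/-- The conjugations from `T₁ ⊓ T₂` lift. -/
theorem inn_le_lft {R : Subgroup Ω} (hR : TCen F (T₁ ⊓ T₂) R) :
    autInducedBy (T₁ ⊓ T₂) R ≤ Lgrp d (le_S d hR) := by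
  intro α hα
  have hRS := le_S d hR
  have hT := closed d
  obtain ⟨t, ht, hte⟩ := mem_autInducedBy.1 hα
  have htS := hT.1 ht
  have htn : t ∈ normalizerIn S R := ⟨htS, mem_normalizer_of_conj_aut hte⟩
  have hPn := normalizerIn_le_normalizer_PR d htn
  have hPS : PR S R ≤ S := sup_le hRS inf_le_left
  set c := (PR S R).normalizerMonoidHom ⟨t, hPn⟩ with hc
  have hcv : ∀ x ∈ PR S R, autFun c x = t * x * t⁻¹ := fun x hx => autFun_coe c ⟨x, hx⟩
  have inE : ∀ {U : Subgroup Ω} {E : FusionSystem U}, E.IsNormalIn F p → t ∈ U →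
      InE E (PR S R ⊓ U) (autFun c) := by
    intro U E hE htU
    have hn : t ∈ Subgroup.normalizer ((PR S R ⊓ U : Subgroup Ω) : Set Ω) :=
      mem_normalizer_of_forall (fun x hx => ⟨(Subgroup.mem_normalizer_iff.1 hPn x).1 hx.1,
        U.mul_mem (U.mul_mem htU hx.2) (U.inv_mem htU)⟩)
      fun x hx => ⟨(Subgroup.mem_normalizer_iff''.1 hPn x).1 hx.1,
        U.mul_mem (U.mul_mem (U.inv_mem htU) hx.2) htU⟩
    refine ⟨_, autInducedBy_le_autGroup E inf_le_right (mem_autInducedBy_of_mem htU hn),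
      fun x hx => ?_⟩
    rw [hcv x hx.1]
    exact autFun_coe ((PR S R ⊓ U).normalizerMonoidHom ⟨t, hn⟩) ⟨x, hx⟩
  have hval : ∀ x ∈ R, autFun α x = t * x * t⁻¹ := fun x hx => by
    rw [show autFun α x = ((α ⟨x, hx⟩ : R) : Ω) from autFun_coe α ⟨x, hx⟩, hte]
  refine ⟨c, ⟨autInducedBy_le_autGroup F hPS (mem_autInducedBy_of_mem htS hPn),
    fun x hx => ⟨?_, ?_⟩, fun z hz => ?_, inE d.n₁ ht.1, inE d.n₂ ht.2⟩, fun x hx => ?_⟩
  · rw [hcv x (Subgroup.mem_sup_left hx), ← hval x hx]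
    exact autFun_mem α hx
  · rw [hc, ← map_inv, show autFun ((PR S R).normalizerMonoidHom (⟨t, hPn⟩⁻¹)) x = _ from
      autFun_coe _ ⟨x, Subgroup.mem_sup_left hx⟩, normalizerMonoidHom_apply]
    show t⁻¹ * x * t⁻¹⁻¹ ∈ R
    rw [inv_inv]
    exact (Subgroup.mem_normalizer_iff''.1 htn.2 x).1 hx
  · rw [hcv z (Subgroup.mem_sup_right hz),
      show z⁻¹ * (t * z * t⁻¹) = z⁻¹ * t * z⁻¹⁻¹ * t⁻¹ by group]
    exact Subgroup.mul_mem _ (StronglyClosed.conj_mem' hT (S.inv_mem hz.1) ht)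
      (Subgroup.inv_mem _ ht)
  · rw [hcv x (Subgroup.mem_sup_left hx), hval x hx]

/-- The conjugations from `T₁ ⊓ T₂` are strongly closed among those from `S`. -/
theorem inn_closed {R : Subgroup Ω} (hR : TCen F (T₁ ⊓ T₂) R) (hn : F.IsFullyNormalized R)
    {γ : MulAut R} (hγ : γ ∈ F.autGroup R) {a : MulAut R} (ha : a ∈ autInducedBy (T₁ ⊓ T₂) R)
    (h : γ * a * γ⁻¹ ∈ autInducedBy S R) : γ * a * γ⁻¹ ∈ autInducedBy (T₁ ⊓ T₂) R := by
  have hRS := le_S d hR
  have hT := closed d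
  obtain ⟨t, ht, hte⟩ := mem_autInducedBy.1 ha
  obtain ⟨s, hs, hse⟩ := mem_autInducedBy.1 h
  have hγm : IsMap F R (autFun γ) := (Fus.mem_autGroup hRS).1 hγ
  obtain ⟨φ, hφ, hφe⟩ := hγm.exists_hom
  have hφ' : ∀ x ∈ R, toFun φ x = autFun γ x := fun x hx =>
    (toFun_apply φ hx).trans (hφe ⟨x, hx⟩)
  have key : ∀ x ∈ R, autFun γ (t * x * t⁻¹) = s * autFun γ x * s⁻¹ := by
    intro x hx
    have h1 := hse (γ ⟨x, hx⟩)
    rw [← autFun_coe γ ⟨x, hx⟩] at h1
    refine Eq.trans ?_ h1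
    rw [show t * x * t⁻¹ = ((a ⟨x, hx⟩ : R) : Ω) from (hte ⟨x, hx⟩).symm, autFun_coe]
    simp
  have hle : R ⊔ Subgroup.zpowers t ≤ extender S R φ := by
    refine sup_le (le_extender hφ) (Subgroup.zpowers_le.2 ?_)
    refine mem_extender.2 ⟨hT.1 ht, mem_normalizer_of_conj_aut hte, s, hs, fun x hx => ?_⟩
    rw [hφ' x hx, hφ' _ ((Subgroup.mem_normalizer_iff.1 (mem_normalizer_of_conj_aut hte) x).1 hx)]
    exact key x hx
  obtain ⟨f, hf, hfe⟩ := receptive_extend (receptive_of_fullyNormalized d.pG d.sat hn) hγm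
    (fimg_autFun γ) (N := R ⊔ Subgroup.zpowers t) (fun g hg => by
      obtain ⟨h1, h2, i, hi, hie⟩ := mem_extender.1 (hle hg)
      refine ⟨⟨h1, h2⟩, i, hi, fun x hx => ?_⟩
      rw [← hφ' x hx, ← hφ' _ ((Subgroup.mem_normalizer_iff.1 h2 x).1 hx)]
      exact hie x hx) le_sup_left
  have htN : t ∈ R ⊔ Subgroup.zpowers t := Subgroup.mem_sup_right (Subgroup.mem_zpowers t)
  refine mem_autInducedBy.2 ⟨f t, StronglyClosed.apply_mem hT (hf.res le_sup_right)
    (Subgroup.zpowers_le.2 ht) (Subgroup.mem_zpowers t), fun y => ?_⟩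
  rw [hse y]
  have hy : ((γ (γ⁻¹ y) : R) : Ω) = y := by rw [MulAut.apply_inv_self]
  rw [← hy, ← autFun_coe γ (γ⁻¹ y), ← key _ (γ⁻¹ y).2,
    ← hfe _ ((Subgroup.mem_normalizer_iff.1 (mem_normalizer_of_conj_aut hte) _).1 (γ⁻¹ y).2),
    hf.map_conj htN (Subgroup.mem_sup_left (γ⁻¹ y).2), hfe _ (γ⁻¹ y).2]

/-- The value at a fully normalized subgroup is normal in the automizer. -/
theorem M₀_conj {R : Subgroup Ω} (hR : TCen F (T₁ ⊓ T₂) R) (hn : F.IsFullyNormalized R)
    {γ m : MulAut R} (hγ : γ ∈ F.autGroup R) (hm : m ∈ M₀ d R) : γ * m * γ⁻¹ ∈ M₀ d R := by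
  have hRS := le_S d hR
  have hRc := fullyCentralized_of_fullyNormalized d.pG d.sat hn
  haveI := finite_of_le hRS
  suffices hA : ∀ a ∈ autInducedBy (T₁ ⊓ T₂) R, γ * a * γ⁻¹ ∈ M₀ d R by
    have : (M₀ d R).map (MulAut.conj γ).toMonoidHom ≤ M₀ d R := by
      rw [M₀, Subgroup.map_sup]
      refine sup_le ?_ ?_
      · rintro _ ⟨k, hk, rfl⟩
        exact Subgroup.mem_sup_left (Kgrp_conj d hR hRc hγ hk)
      · rintro _ ⟨a, ha, rfl⟩
        exact hA a ha
    exact this ⟨m, hm, rfl⟩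
  intro a ha
  let G := F.autGroup R
  let L : Subgroup G := (Lgrp d hRS).subgroupOf G
  haveI hLn : L.Normal := ⟨fun l hl g => by
    show (g : MulAut R) * l * (g : MulAut R)⁻¹ ∈ Lgrp d hRS
    rw [← congr_self d]
    exact lft_congr d hR hRc hRc ((Fus.mem_autGroup hRS).1 g.2) (fimg_autFun _) (g : MulAut R)
      (fun x => (autFun_coe _ x).symm) hl⟩
  obtain ⟨-, W, hW⟩ := fullyAutomized_of_fullyNormalized d.pG d.sat hn
  obtain ⟨hXL, X, hX⟩ := isSylowOf_inf_normal W L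
  have hXG : ((X : Subgroup L).map L.subtype) = (W : Subgroup G) ⊓ L := by
    rw [hX, Subgroup.map_subgroupOf_eq_of_le hXL]
  have hfr := Sylow.normalizer_sup_eq_top X
  rw [hXG] at hfr
  obtain ⟨n, hnn, l, hl, hnl⟩ := (Subgroup.mem_sup_of_normal_right (t := L)).1
    (show (⟨γ⁻¹, inv_mem hγ⟩ : G) ∈ _ from hfr.ge (Subgroup.mem_top _))
  -- conjugation by `n⁻¹` fixes the conjugations from `T₁ ⊓ T₂`
  have hna : (n : MulAut R)⁻¹ * a * (n : MulAut R) ∈ autInducedBy (T₁ ⊓ T₂) R := by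
    have haS := autInducedBy_mono (closed d).1 R ha
    let a' : G := ⟨a, autInducedBy_le_autGroup F hRS haS⟩
    have ha' : a' ∈ (W : Subgroup G) ⊓ L := ⟨by rw [SetLike.mem_coe, hW]; exact haS,
      inn_le_lft d hR ha⟩
    have h1 := ((Subgroup.mem_normalizer_iff''.1 hnn a').1 ha').1
    rw [SetLike.mem_coe, hW] at h1
    have := inn_closed d hR hn (γ := (n : MulAut R)⁻¹) (inv_mem n.2) ha (by
      have h2 : (n : MulAut R)⁻¹ * a * (n : MulAut R) ∈ autInducedBy S R := h1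
      simpa using h2)
    simpa using this
  -- the liftable ones normalize the value
  have hl' : ∀ l ∈ Lgrp d hRS, ∀ b ∈ autInducedBy (T₁ ⊓ T₂) R, l * b * l⁻¹ ∈ M₀ d R := by
    intro l hl b hb
    haveI : Finite ↥(Lgrp d hRS) := inferInstance
    have hXle : IsPGroup p ((autInducedBy S R).subgroupOf (Lgrp d hRS)) :=
      (isPGroup_autInducedBy d.pG R).comap_subtype
    obtain ⟨X', hX'⟩ := hXle.exists_le_sylow
    have htop := Transfer.sylow_sup_pResidual X'
    obtain ⟨x, hx, k, hk, hxk⟩ := (Subgroup.mem_sup_of_normal_right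
      (t := pResidual p (Lgrp d hRS))).1 (htop.ge (Subgroup.mem_top (⟨l, hl⟩ : Lgrp d hRS)))
    have hkK : (k : MulAut R) ∈ Kgrp d R := by
      have : (pResidual p (Lgrp d hRS)).map (Lgrp d hRS).subtype ≤ Kgrp d R := by
        rw [pResidual, MonoidHom.map_closure]
        refine Subgroup.closure_mono ?_
        rintro _ ⟨g, hg, rfl⟩
        exact ⟨hRS, g.2, by rw [orderOf_injective _ (Lgrp d hRS).subtype_injective]; exact hg⟩
      exact this ⟨k, hk, rfl⟩
    -- the conjugations from `S` among the liftable ones are Sylow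
    have hXS : (x : MulAut R) ∈ autInducedBy S R := by
      have hsy : IsSylowOf p (autInducedBy S R) G :=
        ⟨autInducedBy_le_autGroup F hRS, W, hW⟩
      obtain ⟨c, hc, hcle⟩ := hsy.exists_conj_le (A := (X' : Subgroup (Lgrp d hRS)).map
        (Lgrp d hRS).subtype) (X'.2.map _) fun z hz => by
          obtain ⟨z', -, rfl⟩ := hz
          exact Lft.mem_autGroup d z'.2
      have h2 : ((X' : Subgroup (Lgrp d hRS)).map (Lgrp d hRS).subtype).map
          (MulAut.conj c).toMonoidHom ≤ autInducedBy S R ⊓ Lgrp d hRS := by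
        refine le_inf hcle ?_
        rintro _ ⟨z, ⟨z', -, rfl⟩, rfl⟩
        have := hLn.conj_mem ⟨z', Lft.mem_autGroup d z'.2⟩ z'.2 ⟨c, hc⟩
        exact this
      have h3 : autInducedBy S R ⊓ Lgrp d hRS ≤
          (X' : Subgroup (Lgrp d hRS)).map (Lgrp d hRS).subtype :=
        fun z hz => ⟨⟨z, hz.2⟩, hX' hz.1, rfl⟩
      have h4 := Subgroup.eq_of_le_of_card_ge h3 (by
        rw [← Subgroup.card_map_of_injective
          (K := (X' : Subgroup (Lgrp d hRS)).map (Lgrp d hRS).subtype)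
          (f := (MulAut.conj c).toMonoidHom) (MulAut.conj c).injective]
        exact Subgroup.card_le_of_le h2)
      exact (h4.ge ⟨x, hx, rfl⟩).1
    have hlk : l = (x : MulAut R) * (k : MulAut R) := (congrArg Subtype.val hxk).symm
    have hxA : ∀ z ∈ autInducedBy (T₁ ⊓ T₂) R,
        (x : MulAut R) * z * (x : MulAut R)⁻¹ ∈ autInducedBy (T₁ ⊓ T₂) R := fun z hz =>
      inn_closed d hR hn (Lft.mem_autGroup d x.2) hz
        (mul_mem (mul_mem hXS (autInducedBy_mono (closed d).1 R hz)) (inv_mem hXS))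
    have hxM : ∀ z ∈ M₀ d R, (x : MulAut R) * z * (x : MulAut R)⁻¹ ∈ M₀ d R := fun z hz => by
      have : (M₀ d R).map (MulAut.conj (x : MulAut R)).toMonoidHom ≤ M₀ d R := by
        rw [M₀, Subgroup.map_sup]
        refine sup_le ?_ ?_
        · rintro _ ⟨k, hk, rfl⟩
          exact Subgroup.mem_sup_left (Kgrp_conj d hR hRc (Lft.mem_autGroup d x.2) hk)
        · rintro _ ⟨z, hz, rfl⟩
          exact Subgroup.mem_sup_right (hxA z hz)
      exact this ⟨z, hz, rfl⟩
    rw [hlk, show (x : MulAut R) * k * b * ((x : MulAut R) * k)⁻¹ =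
      (x : MulAut R) * ((k : MulAut R) * b * (k : MulAut R)⁻¹) * (x : MulAut R)⁻¹ by group]
    exact hxM _ (mul_mem (mul_mem (Subgroup.mem_sup_left hkK) (Subgroup.mem_sup_right hb))
      (inv_mem (Subgroup.mem_sup_left hkK)))
  have h1 : γ = (l : MulAut R)⁻¹ * (n : MulAut R)⁻¹ := by
    rw [← mul_inv_rev, ← inv_inv γ]
    exact congrArg Inv.inv (congrArg Subtype.val hnl).symm
  rw [h1, show (l : MulAut R)⁻¹ * (n : MulAut R)⁻¹ * a * ((l : MulAut R)⁻¹ * (n : MulAut R)⁻¹)⁻¹ =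
    (l : MulAut R)⁻¹ * ((n : MulAut R)⁻¹ * a * (n : MulAut R)) * (l : MulAut R)⁻¹⁻¹ by group]
  exact hl' _ (inv_mem hl) _ hna

/-- The liftable automorphisms of order prime to `p` generate nothing induced from `S` outside
the conjugations from `T₁ ⊓ T₂`. -/
theorem Kgrp_inf_le {R : Subgroup Ω} (hR : TCen F (T₁ ⊓ T₂) R) (hn : F.IsFullyNormalized R) :
    Kgrp d R ⊓ autInducedBy S R ≤ autInducedBy (T₁ ⊓ T₂) R := by
  have hRS := le_S d hR
  have hRc := fullyCentralized_of_fullyNormalized d.pG d.sat hn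
  have hT := closed d
  haveI := finite_of_le hRS
  set L := Lgrp d hRS with hL
  set A := autInducedBy (T₁ ⊓ T₂) R with hA
  have hsy : IsSylowOf p (autInducedBy S R ⊓ L) L := by
    obtain ⟨-, W, hW⟩ := fullyAutomized_of_fullyNormalized d.pG d.sat hn
    refine IsSylowOf.of_card_le inf_le_right ((isPGroup_autInducedBy d.pG R).to_le inf_le_left)
      fun B hB hBp hle => ?_
    obtain ⟨c, hc, hcle⟩ := IsSylowOf.exists_conj_le
      (⟨autInducedBy_le_autGroup F hRS, W, hW⟩ : IsSylowOf p (autInducedBy S R) (F.autGroup R))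
      hBp (hB.trans fun z hz => Lft.mem_autGroup d hz)
    have h2 : B.map (MulAut.conj c).toMonoidHom ≤ autInducedBy S R ⊓ L := by
      refine le_inf hcle ?_
      rintro _ ⟨z, hz, rfl⟩
      show c * z * c⁻¹ ∈ Lgrp d hRS
      rw [← congr_self d]
      exact lft_congr d hR hRc hRc ((Fus.mem_autGroup hRS).1 hc) (fimg_autFun _) c
        (fun x => (autFun_coe _ x).symm) (hB hz)
    refine (Subgroup.eq_of_le_of_card_ge hle ?_).ge
    rw [← Subgroup.card_map_of_injective (K := B) (f := (MulAut.conj c).toMonoidHom)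
      (MulAut.conj c).injective]
    exact Subgroup.card_le_of_le h2
  obtain ⟨-, X, hX⟩ := hsy
  have hXm : ∀ z : L, z ∈ (X : Subgroup L) ↔ (z : MulAut R) ∈ autInducedBy S R := fun z => by
    rw [hX]
    exact ⟨fun h => h.1, fun h => ⟨h, z.2⟩⟩
  have hhyp := hyperfocal_group (p := p) X
  have hle : (groupFusionSystem (X : Subgroup L)).hyperfocalSubgroup p ≤ A.subgroupOf L := by
    refine hyperfocal_le_iff.2 fun Q hQ α hα x hx => ?_
    -- elements of `Q` moved inside the cosets of `A`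
    have hAn : ∀ q ∈ Q, ∀ a ∈ A.subgroupOf L, q * a * q⁻¹ ∈ A.subgroupOf L := fun q hq a ha =>
      inn_closed d hR hn (Lft.mem_autGroup d q.2) ha
        (mul_mem (mul_mem ((hXm q).1 (hQ hq)) (autInducedBy_mono hT.1 R ha))
          (inv_mem ((hXm q).1 (hQ hq))))
    let C : Subgroup ((groupFusionSystem (X : Subgroup L)).autGroup Q) :=
      { carrier := {β | ∀ y ∈ Q, y⁻¹ * autFun (β : MulAut Q) y ∈ A.subgroupOf L}
        mul_mem' := by
          intro β δ hβ hδ y hy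
          rw [Subgroup.coe_mul, autFun_mul _ _ hy,
            show y⁻¹ * autFun (β : MulAut Q) (autFun (δ : MulAut Q) y) =
              y⁻¹ * autFun (δ : MulAut Q) y * ((autFun (δ : MulAut Q) y)⁻¹ *
                autFun (β : MulAut Q) (autFun (δ : MulAut Q) y)) by group]
          exact mul_mem (hδ y hy) (hβ _ (autFun_mem _ hy))
        one_mem' := fun y hy => by
          rw [Subgroup.coe_one, autFun_one hy, inv_mul_cancel]
          exact one_mem _
        inv_mem' := by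
          intro β hβ y hy
          have h1 := inv_mem (hβ _ (autFun_mem ((β : MulAut Q)⁻¹) hy))
          rw [← autFun_mul _ _ hy, mul_inv_cancel, autFun_one hy, mul_inv_rev, inv_inv] at h1
          exact h1 }
    suffices hC : pResidual p _ ≤ C from hC hα x hx
    rw [pResidual, Subgroup.closure_le]
    intro β hβ y hy
    have hQX : Q ≤ (X : Subgroup L) := hQ
    have hβ' : (β : MulAut Q) ∈ autInducedBy ⊤ Q := by
      have h := β.2
      generalize (β : MulAut Q) = b at h ⊢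
      rwa [groupFusionSystem_eq, autGroup_ofSubgroup hQX] at h
    obtain ⟨g₀, -, hg₀⟩ := mem_autInducedBy.1 hβ'
    have hg₀n : g₀ ∈ Subgroup.normalizer (Q : Set L) := mem_normalizer_of_conj_aut hg₀
    obtain ⟨k, n, hn', hgn, hβk⟩ := InvExt.exists_coprime_power (p := p) g₀ hβ
      (pow_orderOf_eq_one β)
    set g := g₀ ^ k with hg
    have hgn' : g ∈ Subgroup.normalizer (Q : Set L) := pow_mem hg₀n k
    have hgy : autFun (β : MulAut Q) y = g * y * g⁻¹ := by
      have h1 : (β : MulAut Q) = Q.normalizerMonoidHom ⟨g, hgn'⟩ := by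
        rw [show (⟨g, hgn'⟩ : Subgroup.normalizer (Q : Set L)) = ⟨g₀, hg₀n⟩ ^ k from rfl, map_pow,
          ← hβk, Subgroup.coe_pow]
        congr 1
        exact MulEquiv.ext fun z => Subtype.ext (hg₀ z)
      rw [h1]
      exact autFun_coe _ ⟨y, hy⟩
    -- extend a lift of `g` over the preimage of `Q`
    have hgord : (g : MulAut R) ^ n = 1 := congrArg Subtype.val hgn
    set Qi := Q.map L.subtype ⊔ autInducedBy R R with hQi
    have hQiS : Qi ≤ autInducedBy S R := sup_le (by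
      rintro _ ⟨z, hz, rfl⟩
      exact (hXm z).1 (hQX hz)) (autInducedBy_mono hRS R)
    have hQig : ∀ c ∈ Qi, (g : MulAut R) * c * (g : MulAut R)⁻¹ ∈ Qi := by
      intro c hc
      have : Qi.map (MulAut.conj (g : MulAut R)).toMonoidHom ≤ Qi := by
        rw [hQi, Subgroup.map_sup]
        refine sup_le_sup ?_ ?_
        · rintro _ ⟨_, ⟨z, hz, rfl⟩, rfl⟩
          exact ⟨g * z * g⁻¹, (Subgroup.mem_normalizer_iff.1 hgn' z).1 hz, rfl⟩
        · rintro _ ⟨z, hz, rfl⟩
          obtain ⟨r, hr, hre⟩ := mem_autInducedBy.1 hz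
          refine mem_autInducedBy.2 ⟨((g : MulAut R) ⟨r, hr⟩ : R), SetLike.coe_mem _, fun w => ?_⟩
          have h2 : z = MulAut.conj (⟨r, hr⟩ : R) := MulEquiv.ext fun w => Subtype.ext (hre w)
          simp [h2, mul_assoc]
      exact this ⟨c, hc, rfl⟩
    set V : Subgroup Ω := S ⊓ (Qi.comap R.normalizerMonoidHom).map
      (Subgroup.normalizer (R : Set Ω)).subtype with hV
    have hVmem : ∀ u : Ω, u ∈ V ↔ ∃ hu : u ∈ normalizerIn S R,
        R.normalizerMonoidHom ⟨u, hu.2⟩ ∈ Qi := fun u => by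
      constructor
      · rintro ⟨huS, w, hw, rfl⟩
        exact ⟨⟨huS, w.2⟩, hw⟩
      · rintro ⟨hu, h⟩
        exact ⟨hu.1, ⟨u, hu.2⟩, h, rfl⟩
    have hVn : V ≤ normalizerIn S R := fun u hu => ((hVmem u).1 hu).1
    have hPV : PR S R ≤ V := sup_le (fun r hr => (hVmem r).2 ⟨le_normalizerIn hRS hr,
        Subgroup.mem_sup_right (mem_autInducedBy_of_mem hr (le_normalizerIn hRS hr).2)⟩)
      fun c hc => (hVmem c).2 ⟨centralizerIn_le_normalizerIn R hc, by
        rw [show R.normalizerMonoidHom ⟨c, (centralizerIn_le_normalizerIn R hc).2⟩ = 1 from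
          MulEquiv.ext fun w => Subtype.ext (by
            show c * (w : Ω) * c⁻¹ = w
            rw [← (mem_centralizerIn.1 hc).2 w w.2, mul_inv_cancel_right])]
        exact one_mem _⟩
    obtain ⟨φ, hφ, m, hm, hφm, hφe, -, -, hφT⟩ := exists_up d hR hRc (α := (g : MulAut R)) g.2
      hn' hgord hPV hVn fun u hu => by
        obtain ⟨hun, huQ⟩ := (hVmem u).1 hu
        have h1 := hQig _ huQ
        obtain ⟨s, hs, hse⟩ := mem_autInducedBy.1 (hQiS h1)
        have hsn : s ∈ normalizerIn S R := ⟨hs, mem_normalizer_of_conj_aut hse⟩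
        refine ⟨s, (hVmem s).2 ⟨hsn, ?_⟩, fun z hz => ?_⟩
        · rwa [show R.normalizerMonoidHom ⟨s, hsn.2⟩ =
              (g : MulAut R) * R.normalizerMonoidHom ⟨u, hun.2⟩ * (g : MulAut R)⁻¹ from
            MulEquiv.ext fun w => Subtype.ext (hse w).symm]
        · have h2 := hse ((g : MulAut R) ⟨z, hz⟩)
          rw [← autFun_coe _ ⟨z, hz⟩] at h2
          refine Eq.trans ?_ h2
          rw [show u * z * u⁻¹ = ((R.normalizerMonoidHom ⟨u, hun.2⟩ ⟨z, hz⟩ : R) : Ω) from rfl,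
            autFun_coe]
          simp
    obtain ⟨s, hs, hse⟩ := mem_autInducedBy.1 ((hXm y).1 (hQX hy))
    have hsn : s ∈ normalizerIn S R := ⟨hs, mem_normalizer_of_conj_aut hse⟩
    have hyeq : (y : MulAut R) = R.normalizerMonoidHom ⟨s, hsn.2⟩ :=
      MulEquiv.ext fun w => Subtype.ext (hse w)
    have hsV : s ∈ V := (hVmem s).2 ⟨hsn, hyeq ▸ Subgroup.mem_sup_left ⟨y, hy, rfl⟩⟩
    have ht := hφT s hsV
    have hφs : autFun φ s ∈ normalizerIn S R := hVn (autFun_mem φ hsV)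
    have hφm' : IsMap F V (autFun φ) := (Fus.mem_autGroup (hVn.trans inf_le_left)).1 hφ
    have hgys : ((g * y * g⁻¹ : L) : MulAut R) = R.normalizerMonoidHom ⟨autFun φ s, hφs.2⟩ := by
      refine mulAut_ext fun z hz => ?_
      show autFun ((g : MulAut R) * (y : MulAut R) * (g : MulAut R)⁻¹) z = _
      rw [show autFun (R.normalizerMonoidHom ⟨autFun φ s, hφs.2⟩) z =
          autFun φ s * z * (autFun φ s)⁻¹ from autFun_coe _ ⟨z, hz⟩,
        autFun_mul _ _ hz, autFun_mul _ _ (autFun_mem _ hz), hyeq,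
        show autFun (R.normalizerMonoidHom ⟨s, hsn.2⟩) (autFun (g : MulAut R)⁻¹ z) =
          s * autFun (g : MulAut R)⁻¹ z * s⁻¹ from autFun_coe _ ⟨_, autFun_mem _ hz⟩]
      have hw := autFun_mem (g : MulAut R)⁻¹ hz
      rw [← hφe _ ((Subgroup.mem_normalizer_iff.1 hsn.2 _).1 hw),
        hφm'.map_conj hsV (hPV (Subgroup.mem_sup_left hw)), hφe _ hw, ← autFun_mul _ _ hz,
        mul_inv_cancel, autFun_one hz]
    rw [hgy]
    show ((y⁻¹ * (g * y * g⁻¹) : L) : MulAut R) ∈ A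
    rw [Subgroup.coe_mul, Subgroup.coe_inv, hgys, hyeq, ← map_inv, ← map_mul]
    exact mem_autInducedBy_of_mem ht (mul_mem (inv_mem hsn.2) hφs.2)
  rintro α ⟨hαK, hαS⟩
  have hαL : α ∈ L := gens_le_lft d hRS hαK
  have hres : (⟨α, hαL⟩ : L) ∈ pResidual p L := by
    have : Kgrp d R ≤ (pResidual p L).map L.subtype := by
      rw [Kgrp, Subgroup.closure_le]
      rintro β ⟨_, hl, ho⟩
      exact ⟨⟨β, hl⟩, Transfer.mem_pResidual_of_coprime (by
        rwa [← orderOf_injective L.subtype L.subtype_injective]), rfl⟩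
    obtain ⟨z, hz, hze⟩ := this hαK
    rwa [show (⟨α, hαL⟩ : L) = z from Subtype.ext hze.symm]
  have hmem : (⟨α, hαL⟩ : L) ∈ (groupFusionSystem (X : Subgroup L)).hyperfocalSubgroup p := by
    rw [hhyp]
    exact ⟨(hXm _).2 hαS, hres⟩
  exact hle hmem

/-- The value at a fully normalized subgroup has the conjugations from `T₁ ⊓ T₂` as trace. -/
theorem M₀_inf_le {R : Subgroup Ω} (hR : TCen F (T₁ ⊓ T₂) R) (hn : F.IsFullyNormalized R) :
    M₀ d R ⊓ autInducedBy S R ≤ autInducedBy (T₁ ⊓ T₂) R := by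
  rintro m ⟨hm, hmS⟩
  have hRc := fullyCentralized_of_fullyNormalized d.pG d.sat hn
  have hAF : autInducedBy (T₁ ⊓ T₂) R ≤ F.autGroup R :=
    (autInducedBy_mono (closed d).1 R).trans (autInducedBy_le_autGroup F (le_S d hR))
  have hnorm : autInducedBy (T₁ ⊓ T₂) R ≤
      Subgroup.normalizer ((Kgrp d R : Subgroup (MulAut R)) : Set (MulAut R)) := fun a ha =>
    mem_normalizer_of_forall (fun k hk => Kgrp_conj d hR hRc (hAF ha) hk) fun k hk => by
      simpa using Kgrp_conj d hR hRc (inv_mem (hAF ha)) hk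
  obtain ⟨k, hk, a, ha, rfl⟩ := (mem_sup_normalized hnorm).1 hm
  refine mul_mem (Kgrp_inf_le d hR hn ⟨hk, ?_⟩) ha
  simpa using mul_mem hmS (Subgroup.inv_mem _ (autInducedBy_mono (closed d).1 R ha))

/-- The family agrees with the value at fully normalized subgroups. -/
theorem Mf_eq {R : Subgroup Ω} (hR : TCen F (T₁ ⊓ T₂) R) (hn : F.IsFullyNormalized R) :
    Mf d R = M₀ d R := by
  have hRS := le_S d hR
  refine le_antisymm ((Subgroup.closure_le _).2 ?_) ?_
  · rintro _ ⟨R₀, v, e, x, hR₀, hn₀, hv, hvR, he, hx, rfl⟩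
    rcases hx with ⟨hS₀, hl, ho⟩ | hx
    · refine Subgroup.mem_sup_left (Subgroup.subset_closure ⟨hRS, ?_, ?_⟩)
      · exact lft_congr d hR₀ (fullyCentralized_of_fullyNormalized d.pG d.sat hn₀)
          (fullyCentralized_of_fullyNormalized d.pG d.sat hn) hv hvR e he hl
      · rw [MulEquiv.orderOf_eq]
        exact ho
    · obtain ⟨h, hh, hhR, -⟩ :=
        exists_map_to_fullyNormalized d.pG d.sat hn (hvR ▸ hv.isConj : F.IsConj R₀ R)
      have hR₀S := le_S d hR₀
      obtain ⟨eh, heh, -⟩ := exists_mulEquiv (hh.res (le_normalizerIn hR₀S)) hhR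
      have h1 : MulAut.congr eh x ∈ autInducedBy (T₁ ⊓ T₂) R := by
        obtain ⟨t, ht, hte⟩ := mem_autInducedBy.1 hx
        have htn : t ∈ normalizerIn S R₀ :=
          ⟨(closed d).1 ht, mem_normalizer_of_conj_aut hte⟩
        refine mem_autInducedBy.2 ⟨h t, StronglyClosed.apply_mem (closed d) (hh.res
          (inf_le_right : (T₁ ⊓ T₂) ⊓ normalizerIn S R₀ ≤ _)) inf_le_left ⟨ht, htn⟩, fun y => ?_⟩
        obtain ⟨z, rfl⟩ := eh.surjective y
        rw [heh, ← hh.map_conj htn (le_normalizerIn hR₀S z.2), ← hte, ← heh]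
        simp [MulAut.congr]
      obtain ⟨hi, hhi, hhi1, hhi2, hhiR⟩ := (hh.res (le_normalizerIn hR₀S)).exists_inv
      rw [hhR] at hhi hhi2 hhiR
      have hcomp := hhi.comp hv fun y hy => (hhi2 y hy).1
      obtain ⟨γ, hγ, hγe⟩ := hcomp.exists_aut (by rw [hhi.fimg_comp, hhiR, hvR])
      have h2 : MulAut.congr e x = γ * MulAut.congr eh x * γ⁻¹ := by
        have key : ∀ z : R₀, γ (eh z) = e z := fun z => Subtype.ext (by
          rw [← autFun_coe, hγe _ (eh z).2, he]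
          show v (hi (eh z : Ω)) = v z
          rw [heh, hhi1 z z.2])
        refine MulEquiv.ext fun y => ?_
        obtain ⟨z, rfl⟩ := e.surjective y
        rw [MulAut.mul_apply, MulAut.mul_apply,
          show γ⁻¹ (e z) = eh z by rw [← key z, MulAut.inv_apply_self],
          show (MulAut.congr eh x) (eh z) = eh (x z) by simp [MulAut.congr], key]
        simp [MulAut.congr]
      rw [h2]
      exact M₀_conj d hR hn hγ (Subgroup.mem_sup_right h1)
  · refine sup_le ((Subgroup.closure_le _).2 fun x hx => ?_) fun x hx => ?_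
    all_goals
      refine Subgroup.subset_closure ⟨R, fun y => y, MulEquiv.refl R, x, hR, hn,
        isMap_id F hRS, fimg_id R, fun _ => rfl, ?_, MulEquiv.ext fun _ => rfl⟩
    · exact Or.inl hx
    · exact Or.inr hx

/-- The family is transported by every map. -/
theorem Mf_congr {R Q : Subgroup Ω} {f : Ω → Ω} (hf : IsMap F R f) (hfQ : fimg f R = Q)
    (e : R ≃* Q) (he : ∀ x : R, (e x : Ω) = f x) {α : MulAut R} (hα : α ∈ Mf d R) :
    MulAut.congr e α ∈ Mf d Q := by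
  have : (Mf d R).map (MulAut.congr e).toMonoidHom ≤ Mf d Q := by
    rw [Mf, MonoidHom.map_closure]
    refine Subgroup.closure_mono ?_
    rintro _ ⟨_, ⟨R₀, v, e₀, x, hR₀, hn₀, hv, hvR, he₀, hx, rfl⟩, rfl⟩
    refine ⟨R₀, fun y => f (v y), e₀.trans e, x, hR₀, hn₀,
      hv.comp hf fun y hy => hvR ▸ apply_mem_fimg v hy, by rw [hv.fimg_comp, hvR, hfQ],
      fun y => ?_, hx, ?_⟩
    · show ((e (e₀ y) : Q) : Ω) = f (v y)
      rw [he, he₀]
    · exact MulEquiv.ext fun _ => by simp [MulAut.congr]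
  exact this ⟨α, hα, rfl⟩

/-- A liftable automorphism of order prime to `p` of a fully centralized subgroup is in the
family. -/
theorem Mf_of_lft {R : Subgroup Ω} (hR : TCen F (T₁ ⊓ T₂) R) (hRc : F.IsFullyCentralized R)
    {α : MulAut R} (hα : Lft d hRc.1 α) (ho : (orderOf α).Coprime p) : α ∈ Mf d R := by
  obtain ⟨R₀, hR₀, hn⟩ := exists_fullyNormalized F hRc.1
  obtain ⟨v, hv, hvR⟩ := isConj_iff.1 hR₀
  obtain ⟨e, he, -⟩ := exists_mulEquiv hv hvR
  obtain ⟨g, hg, hg1, -, hgR⟩ := hv.exists_inv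
  rw [hvR] at hg hgR
  have hR₀c : TCen F (T₁ ⊓ T₂) R₀ := hvR ▸ hR.image (closed d) hv
  refine Subgroup.subset_closure ⟨R₀, g, e.symm, MulAut.congr e α, hR₀c, hn, hg, hgR, fun y => ?_,
    Or.inl ⟨hn.1, lft_congr d hR hRc (fullyCentralized_of_fullyNormalized d.pG d.sat hn) hv hvR e
      he hα, ?_⟩, MulEquiv.ext fun _ => by simp [MulAut.congr]⟩
  · obtain ⟨z, rfl⟩ := e.surjective y
    rw [MulEquiv.symm_apply_apply, he, hg1 z z.2]
  · rw [MulEquiv.orderOf_eq]
    exact ho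

/-- The members of order prime to `p` at a fully centralized subgroup lift. -/
theorem lft_of_Mf {R : Subgroup Ω} (hR : TCen F (T₁ ⊓ T₂) R) (hRc : F.IsFullyCentralized R)
    {α : MulAut R} (hα : α ∈ Mf d R) (ho : (orderOf α).Coprime p) : Lft d hRc.1 α := by
  obtain ⟨R₀, hR₀, hn⟩ := exists_fullyNormalized F hRc.1
  obtain ⟨v, hv, hvR⟩ := isConj_iff.1 hR₀
  obtain ⟨e, he, -⟩ := exists_mulEquiv hv hvR
  obtain ⟨g, hg, hg1, -, hgR⟩ := hv.exists_inv
  rw [hvR] at hg hgR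
  have hR₀c : TCen F (T₁ ⊓ T₂) R₀ := hvR ▸ hR.image (closed d) hv
  have hR₀S := le_S d hR₀c
  haveI := finite_of_le hR₀S
  have hfc := fullyCentralized_of_fullyNormalized d.pG d.sat hn
  set β := MulAut.congr e α with hβdef
  have hβM : β ∈ M₀ d R₀ := Mf_eq d hR₀c hn ▸ Mf_congr d hv hvR e he hα
  have hβo : (orderOf β).Coprime p := by
    rw [hβdef, MulEquiv.orderOf_eq]
    exact ho
  -- it is in the subgroup generated by liftable ones
  have hKF : Kgrp d R₀ ≤ F.autGroup R₀ := le_sup_left.trans (M₀_le d hR₀c)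
  let G := F.autGroup R₀
  let K : Subgroup G := (Kgrp d R₀).subgroupOf G
  haveI : K.Normal := ⟨fun k hk g => Kgrp_conj d hR₀c hfc g.2 hk⟩
  let π := QuotientGroup.mk' K
  have hAF : autInducedBy (T₁ ⊓ T₂) R₀ ≤ G :=
    (autInducedBy_mono (closed d).1 R₀).trans (autInducedBy_le_autGroup F hR₀S)
  have hp' : IsPGroup p (((autInducedBy (T₁ ⊓ T₂) R₀).subgroupOf G).map π) :=
    (((isPGroup_autInducedBy d.pG R₀).to_le
      (autInducedBy_mono (closed d).1 R₀)).comap_subtype).map π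
  have hnorm : autInducedBy (T₁ ⊓ T₂) R₀ ≤
      Subgroup.normalizer ((Kgrp d R₀ : Subgroup (MulAut R₀)) : Set (MulAut R₀)) := fun a ha =>
    mem_normalizer_of_forall (fun k hk => Kgrp_conj d hR₀c hfc (hAF ha) hk) fun k hk => by
      simpa using Kgrp_conj d hR₀c hfc (inv_mem (hAF ha)) hk
  obtain ⟨k, hk, a, ha, hka⟩ := (mem_sup_normalized hnorm).1 hβM
  let β' : G := ⟨β, M₀_le d hR₀c hβM⟩
  have hπ : π β' = π ⟨a, hAF ha⟩ := by
    rw [show β' = ⟨k, hKF hk⟩ * ⟨a, hAF ha⟩ from Subtype.ext hka.symm, map_mul,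
      show π ⟨k, hKF hk⟩ = 1 from (QuotientGroup.eq_one_iff _).2 hk, one_mul]
  obtain ⟨i, hi⟩ := hp' ⟨π ⟨a, hAF ha⟩, ⟨_, ha, rfl⟩⟩
  have h1 : π β' = 1 := InvExt.eq_one_of_coprime_pow (k := i) hβo (by
    rw [hπ]
    exact congrArg Subtype.val hi) (by
    rw [← map_pow]
    exact (congrArg π (Subtype.ext (pow_orderOf_eq_one β) : β' ^ orderOf β = 1)).trans π.map_one)
  have hβK : β ∈ Kgrp d R₀ := (QuotientGroup.eq_one_iff (N := K) β').1 h1
  have hback := lft_congr d hR₀c hfc hRc hg hgR e.symm (fun y => by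
    obtain ⟨z, rfl⟩ := e.surjective y
    rw [MulEquiv.symm_apply_apply, he, hg1 z z.2]) (gens_le_lft d hR₀S hβK)
  convert hback using 1
  exact MulEquiv.ext fun _ => by simp [hβdef, MulAut.congr]

/-- A move making `R` fully normalized and `Q` fully centralized. -/
theorem exists_move {R Q : Subgroup Ω} (hR : TCen F (T₁ ⊓ T₂) R) (hRQ : R ≤ Q)
    (hQT : Q ≤ T₁ ⊓ T₂) (hQN : Q ≤ Subgroup.normalizer (R : Set Ω)) :
    ∃ k, IsMap F Q k ∧ F.IsFullyNormalized (fimg k R) ∧ F.IsFullyCentralized (fimg k Q) ∧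
      fimg k Q ≤ normalizerIn (T₁ ⊓ T₂) (fimg k R) := by
  have hQS := hQT.trans (closed d).1
  obtain ⟨Q', hQ', hQ'n⟩ := exists_fullyNormalized F hQS
  obtain ⟨φ, hφ, rfl⟩ := isConj_iff.1 hQ'
  obtain ⟨R₀, hR₀, hn⟩ := exists_fullyNormalized F (le_S d hR)
  obtain ⟨h, hh, hhR, -⟩ := exists_map_to_fullyNormalized d.pG d.sat hn
    (isConj_trans (isConj_symm (hφ.res hRQ).isConj) hR₀)
  have hQ'N : fimg φ Q ≤ normalizerIn S (fimg φ R) := fimg_le fun x hx =>
    hφ.map_normalizerIn hRQ hx (hQN hx)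
  have hk := hφ.comp (hh.res hQ'N) fun x hx => apply_mem_fimg φ hx
  have hkR : fimg (fun x => h (φ x)) R = R₀ := by rw [(hφ.res hRQ).fimg_comp, hhR]
  refine ⟨fun x => h (φ x), hk, hkR.symm ▸ hn, ?_, fimg_le fun x hx =>
    ⟨StronglyClosed.apply_mem (closed d) hk hQT hx, (hk.map_normalizerIn hRQ hx (hQN hx)).2⟩⟩
  have hc' := fullyCentralized_of_fullyNormalized d.pG d.sat hQ'n
  refine ⟨hk.fimg_le_S, fun W hW => (hc'.2 W
    (isConj_trans (isConj_trans (isConj_symm hφ.isConj) hk.isConj) hW)).trans ?_⟩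
  have hC : centralizerIn S (fimg φ Q) ≤ normalizerIn S (fimg φ R) :=
    le_trans (inf_le_inf_left _ (Subgroup.centralizer_le (fimg_mono φ hRQ)))
      (centralizerIn_le_normalizerIn _)
  rw [← (hh.res hC).card_fimg]
  haveI : Finite ↥(centralizerIn S (fimg (fun x => h (φ x)) Q)) :=
    finite_of_le (S := S) inf_le_left
  exact Subgroup.card_le_of_le (fimg_le fun c hc => by
    rw [hφ.fimg_comp]
    exact hh.map_centralizerIn hQ'N (hC hc) hc.2)

set_option maxHeartbeats 800000 in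
/-- The family satisfies the axioms. -/
theorem maps : Maps F (T₁ ⊓ T₂) p (fun R => Mf d R) := by
  have hT := closed d
  refine ⟨d.pG, d.sat, hT, ?_, ?_, fun hR hf hfQ e he α hα => Mf_congr d hf hfQ e he hα,
    fun hR hn => ?_, ?_, ?_⟩
  · intro R hR
    refine (Subgroup.closure_le _).2 ?_
    rintro _ ⟨R₀, v, e, x, hR₀, hn₀, hv, hvR, he, hx, rfl⟩
    obtain ⟨e', he', hA⟩ := exists_mulEquiv hv hvR
    obtain rfl : e' = e := MulEquiv.ext fun y => Subtype.ext (by rw [he', he])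
    refine (hA x).1 ?_
    rcases hx with ⟨_, hl, -⟩ | hx
    · exact Lft.mem_autGroup d hl
    · exact autInducedBy_le_autGroup F (le_S d hR₀) (autInducedBy_mono hT.1 R₀ hx)
  · intro R hR a ha
    have hRS := le_S d hR
    obtain ⟨R₀, hR₀, hn⟩ := exists_fullyNormalized F hRS
    obtain ⟨h, hh, hhR, -⟩ := exists_map_to_fullyNormalized d.pG d.sat hn hR₀
    have hm := hh.res (le_normalizerIn hRS)
    obtain ⟨e, he, -⟩ := exists_mulEquiv hm hhR
    obtain ⟨g, hg, hg1, -, hgR⟩ := hm.exists_inv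
    rw [hhR] at hg hgR
    refine Subgroup.subset_closure ⟨R₀, g, e.symm, MulAut.congr e a,
      hhR ▸ hR.image hT hm, hn, hg, hgR, fun y => ?_, Or.inr ?_,
      MulEquiv.ext fun _ => by simp [MulAut.congr]⟩
    · obtain ⟨z, rfl⟩ := e.surjective y
      rw [MulEquiv.symm_apply_apply, he, hg1 z z.2]
    · obtain ⟨t, ht, hte⟩ := mem_autInducedBy.1 ha
      have htn : t ∈ normalizerIn S R := ⟨hT.1 ht, mem_normalizer_of_conj_aut hte⟩
      refine mem_autInducedBy.2 ⟨h t, StronglyClosed.apply_mem hT (hh.res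
        (inf_le_right : (T₁ ⊓ T₂) ⊓ normalizerIn S R ≤ _)) inf_le_left ⟨ht, htn⟩, fun y => ?_⟩
      obtain ⟨z, rfl⟩ := e.surjective y
      rw [he, ← hh.map_conj htn (le_normalizerIn hRS z.2), ← hte, ← he]
      simp [MulAut.congr]
  · show Mf d _ ⊓ _ ≤ _
    rw [Mf_eq d hR hn]
    exact M₀_inf_le d hR hn
  · -- restriction
    intro R Q hR hRQ hQT hQN α hα ho β hβ
    obtain ⟨k, hk, hn, hQc, hkQN⟩ := exists_move d hR hRQ hQT hQN
    have hkR := hk.res hRQ
    set R' := fimg k R with hR'def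
    set Q' := fimg k Q with hQ'def
    obtain ⟨eQ, heQ, -⟩ := exists_mulEquiv hk hQ'def.symm
    obtain ⟨eR, heR, -⟩ := exists_mulEquiv hkR hR'def.symm
    have hR'c : TCen F (T₁ ⊓ T₂) R' := hR.image hT hkR
    have hRQ' : R' ≤ Q' := fimg_mono k hRQ
    have hQ'c : TCen F (T₁ ⊓ T₂) Q' := hR'c.mono hRQ' (hkQN.trans inf_le_left)
    have hRfc := fullyCentralized_of_fullyNormalized d.pG d.sat hn
    set α' := MulAut.congr eQ α with hα'def
    set β' := MulAut.congr eR β with hβ'def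
    have ho' : (orderOf α').Coprime p := by
      rw [hα'def, MulEquiv.orderOf_eq]
      exact ho
    have hα' : α' ∈ Mf d Q' := Mf_congr d hk rfl eQ heQ hα
    have hlift := lft_of_Mf d hQ'c hQc hα' ho'
    have hβ'e : ∀ y ∈ R', autFun β' y = autFun α' y := fun y hy => by
      obtain ⟨x, hx, rfl⟩ := hkR.mem_fimg_iff.1 hy
      rw [hβ'def, autFun_congr eR heR β hx, hβ x hx, hα'def, autFun_congr eQ heQ α (hRQ hx)]
    have hQ'S := hQc.1
    have hR'S := hRfc.1
    haveI := finite_of_le hR'S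
    haveI := finite_of_le hQ'S
    have hQ'Fm : IsMap F Q' (autFun α') :=
      (Fus.mem_autGroup hQ'S).1 (Lft.mem_autGroup d hlift)
    have hβ'm : IsMap F R' (autFun β') :=
      (hQ'Fm.res hRQ').congr fun y hy => (hβ'e y hy).symm
    have hCQ : centralizerIn S R' ≤ Subgroup.normalizer (Q' : Set Ω) :=
      InvMap.centralizerIn_le_normalizer hT hR'c hRQ' (hkQN.trans inf_le_left)
        (hkQN.trans inf_le_right)
    set V := Q' ⊔ centralizerIn S R' with hVdef
    have hQ'V : Q' ≤ V := le_sup_left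
    have hVnR : V ≤ normalizerIn S R' :=
      sup_le (fun x hx => ⟨hQ'S hx, (hkQN hx).2⟩) (centralizerIn_le_normalizerIn R')
    have hVnQ : V ≤ normalizerIn S Q' :=
      sup_le (le_normalizerIn hQ'S) fun c hc => ⟨hc.1, hCQ hc⟩
    have hPQV : PR S Q' ≤ V :=
      sup_le_sup_left (inf_le_inf_left _ (Subgroup.centralizer_le hRQ')) _
    have hPRV : PR S R' ≤ V := sup_le_sup_right hRQ' _
    haveI := finite_of_le (hVnR.trans inf_le_left)
    -- an extension of `β'` agreeing with `α'` on `Q'`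
    obtain ⟨f, hf, hfe⟩ := receptive_extend (receptive_of_fullyCentralized d.pG d.sat hRfc) hβ'm
      (fimg_autFun β') (N := V) (fun u hu => by
        refine ⟨hVnR hu, ?_⟩
        obtain ⟨q, hq, c, hc, rfl⟩ := (mem_sup_normalized hCQ).1 hu
        refine ⟨autFun α' q, hQ'S (autFun_mem α' hq), fun x hx => ?_⟩
        have hx' : q * x * q⁻¹ ∈ R' := (Subgroup.mem_normalizer_iff.1 (hkQN hq).2 x).1 hx
        rw [show q * c * x * (q * c)⁻¹ = q * (c * x * c⁻¹) * q⁻¹ by group,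
          show c * x * c⁻¹ = x by rw [← (mem_centralizerIn.1 hc).2 x hx, mul_inv_cancel_right],
          hβ'e _ hx', hβ'e x hx]
        exact hQ'Fm.map_conj hq (hRQ' hx)) (hRQ'.trans hQ'V)
    obtain ⟨s, hs, hse⟩ := exists_conj_of_eqOn d.pG d.sat hT hR'c hRfc hRQ'
      (hkQN.trans inf_le_left) (hkQN.trans inf_le_right) (hf.res hQ'V) hQ'Fm
      fun x hx => by rw [hfe x hx, hβ'e x hx]
    have hsV : s ∈ V := Subgroup.mem_sup_right hs
    have hconjV : ∀ u ∈ V, s * u * s⁻¹ ∈ V := fun u hu =>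
      V.mul_mem (V.mul_mem hsV hu) (V.inv_mem hsV)
    have hf2 := (isMap_conj F (hVnR.trans inf_le_left) hs.1).comp hf hconjV
    set f2 : Ω → Ω := fun u => f (s * u * s⁻¹) with hf2def
    have hf2Q : ∀ x ∈ Q', f2 x = autFun α' x := fun x hx => (hse x hx).symm
    have hf2R : fimg f2 R' = R' := by
      rw [fimg_congr fun x hx => (hf2Q x (hRQ' hx)).trans (hβ'e x hx).symm, fimg_autFun]
    have hf2V : ∀ u ∈ V, f2 u ∈ V := by
      have : fimg f2 V ≤ V := by
        rw [hVdef, hf2.fimg_sup]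
        refine sup_le_sup (fimg_le fun x hx => hf2Q x hx ▸ autFun_mem α' hx)
          (fimg_le fun c hc => ?_)
        have h := hf2.map_centralizerIn (hRQ'.trans hQ'V) (Subgroup.mem_sup_right hc) hc.2
        rwa [hf2R] at h
      exact fun u hu => this (apply_mem_fimg f2 hu)
    obtain ⟨φ, hφ, -, -, -, hφe, h1, h2, hφT⟩ := exists_up d hQ'c hQc hlift ho'
      (pow_orderOf_eq_one α') hPQV hVnQ fun u hu => ⟨f2 u, hf2V u hu, fun x hx => by
        have hx' := (Subgroup.mem_normalizer_iff.1 (hVnQ hu).2 x).1 hx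
        rw [← hf2Q _ hx', ← hf2Q x hx]
        exact hf2.map_conj hu (hQ'V hx)⟩
    have hl := lft_of_up d hR'c.1 hR'S hPRV (hVnR.trans inf_le_left) hφ h1 h2 hφT (β := β')
      fun y hy => by rw [hβ'e y hy, hφe y (hRQ' hy)]
    have hoβ : (orderOf β').Coprime p := Nat.Coprime.coprime_dvd_left
      (orderOf_dvd_of_pow_eq_one (mulAut_ext fun y hy => by
        rw [autFun_pow_eqOn hRQ' hβ'e _ y hy, pow_orderOf_eq_one, autFun_one (hRQ' hy),
          autFun_one hy])) ho'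
    have hβ'M := Mf_of_lft d hR'c hRfc hl hoβ
    obtain ⟨g, hg, hg1, -, hgR⟩ := hkR.exists_inv
    have := Mf_congr d hg hgR eR.symm (fun y => by
      obtain ⟨z, rfl⟩ := eR.surjective y
      rw [MulEquiv.symm_apply_apply, heR, hg1 z z.2]) hβ'M
    convert this using 1
    exact MulEquiv.ext fun _ => by simp [hβ'def, MulAut.congr]
  · -- extension
    intro R Q hR hn hRQ hQN β hβ ho hβn
    obtain ⟨k, hk, hn', hQc, hkQN⟩ := exists_move d hR hRQ (hQN.trans inf_le_left)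
      (hQN.trans inf_le_right)
    have hkR := hk.res hRQ
    set R' := fimg k R with hR'def
    set Q' := fimg k Q with hQ'def
    obtain ⟨eR, heR, -⟩ := exists_mulEquiv hkR hR'def.symm
    obtain ⟨eQ, heQ, -⟩ := exists_mulEquiv hk hQ'def.symm
    have hR'c : TCen F (T₁ ⊓ T₂) R' := hR.image hT hkR
    have hRQ' : R' ≤ Q' := fimg_mono k hRQ
    have hQ'c : TCen F (T₁ ⊓ T₂) Q' := hR'c.mono hRQ' (hkQN.trans inf_le_left)
    have hRfc := fullyCentralized_of_fullyNormalized d.pG d.sat hn'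
    have hR'S := hRfc.1
    have hQ'S := hQc.1
    haveI := finite_of_le hR'S
    haveI := finite_of_le hQ'S
    set β' := MulAut.congr eR β with hβ'def
    have ho' : (orderOf β').Coprime p := by
      rw [hβ'def, MulEquiv.orderOf_eq]
      exact ho
    have hlift := lft_of_Mf d hR'c hRfc (Mf_congr d hkR rfl eR heR hβ) ho'
    set V := Q' ⊔ centralizerIn S R' with hVdef
    have hCQ : centralizerIn S R' ≤ Subgroup.normalizer (Q' : Set Ω) :=
      InvMap.centralizerIn_le_normalizer hT hR'c hRQ' (hkQN.trans inf_le_left)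
        (hkQN.trans inf_le_right)
    have hVnR : V ≤ normalizerIn S R' :=
      sup_le (fun x hx => ⟨hQ'S hx, (hkQN hx).2⟩) (centralizerIn_le_normalizerIn R')
    have hPRV : PR S R' ≤ V := sup_le_sup_right hRQ' _
    have hVS := hVnR.trans inf_le_left
    have hcond : ∀ q ∈ Q', ∃ q' ∈ Q', ∀ x ∈ R',
        autFun β' (q * x * q⁻¹) = q' * autFun β' x * q'⁻¹ := by
      intro q hq
      obtain ⟨q₀, hq₀, rfl⟩ := hk.mem_fimg_iff.1 hq
      obtain ⟨q₁, hq₁, hq₁e⟩ := mem_autInducedBy.1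
        (hβn _ (mem_autInducedBy_of_mem hq₀ (hQN hq₀).2))
      refine ⟨k q₁, apply_mem_fimg k hq₁, fun x hx => ?_⟩
      obtain ⟨x₀, hx₀, rfl⟩ := hkR.mem_fimg_iff.1 hx
      have hx₁ := (Subgroup.mem_normalizer_iff.1 (hQN hq₀).2 x₀).1 hx₀
      have h1 := hq₁e (β ⟨x₀, hx₀⟩)
      have h2 : autFun β (q₀ * x₀ * q₀⁻¹) = q₁ * autFun β x₀ * q₁⁻¹ := by
        rw [show autFun β x₀ = ((β ⟨x₀, hx₀⟩ : R) : Ω) from autFun_coe β ⟨x₀, hx₀⟩, ← h1,
          show q₀ * x₀ * q₀⁻¹ = ((R.normalizerMonoidHom ⟨q₀, (hQN hq₀).2⟩ ⟨x₀, hx₀⟩ : R) : Ω)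
            from rfl, autFun_coe]
        simp
      rw [← hk.map_conj hq₀ (hRQ hx₀), hβ'def, autFun_congr eR heR β hx₁,
        autFun_congr eR heR β hx₀, h2]
      exact hk.map_conj hq₁ (hRQ (autFun_mem β hx₀))
    obtain ⟨φ, hφ, n, hn'', hφn, hφe, h1, h2, hφT⟩ := exists_up d hR'c hRfc hlift ho'
      (pow_orderOf_eq_one β') hPRV hVnR fun u hu => by
        obtain ⟨q, hq, c, hc, rfl⟩ := (mem_sup_normalized hCQ).1 hu
        obtain ⟨q', hq', hqe⟩ := hcond q hq
        refine ⟨q', Subgroup.mem_sup_left hq', fun x hx => ?_⟩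
        rw [show q * c * x * (q * c)⁻¹ = q * (c * x * c⁻¹) * q⁻¹ by group,
          show c * x * c⁻¹ = x by rw [← (mem_centralizerIn.1 hc).2 x hx, mul_inv_cancel_right]]
        exact hqe x hx
    have hφm : IsMap F V (autFun φ) := (Fus.mem_autGroup hVS).1 hφ
    have hQ'V : Q' ≤ V := le_sup_left
    have hφQ : ∀ q ∈ Q', autFun φ q ∈ Q' := by
      intro q hq
      obtain ⟨q', hq', hqe⟩ := hcond q hq
      have hd : q'⁻¹ * autFun φ q ∈ R' := by
        refine hR'c.cent_le hT (mem_centralizerIn.2 ⟨Subgroup.mul_mem _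
          (Subgroup.inv_mem _ (hkQN hq').1)
          (StronglyClosed.apply_mem hT (hφm.res hQ'V) (hkQN.trans inf_le_left) hq),
          fun y hy => ?_⟩)
        have hy' := autFun_mem β'⁻¹ hy
        have h3 := hφm.map_conj (hQ'V hq) (hQ'V (hRQ' hy'))
        have h4 := (Subgroup.mem_normalizer_iff.1 (hkQN hq).2 _).1 hy'
        have h5 : autFun β' (autFun β'⁻¹ y) = y := by
          rw [← autFun_mul _ _ hy, mul_inv_cancel, autFun_one hy]
        rw [hφe _ h4, hqe _ hy', hφe _ hy', h5] at h3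
        calc y * (q'⁻¹ * autFun φ q) = q'⁻¹ * (q' * y * q'⁻¹) * autFun φ q := by group
          _ = q'⁻¹ * (autFun φ q * y * (autFun φ q)⁻¹) * autFun φ q := by rw [h3]
          _ = q'⁻¹ * autFun φ q * y := by group
      rw [show autFun φ q = q' * (q'⁻¹ * autFun φ q) by group]
      exact Q'.mul_mem hq' (hRQ' hd)
    obtain ⟨α', -, hα'e⟩ := (hφm.res hQ'V).exists_aut
      (Subgroup.eq_of_le_of_card_ge (fimg_le hφQ) (hφm.res hQ'V).card_fimg.ge)
    have hl := lft_of_up d hQ'c.1 hQ'S (show PR S Q' ≤ V from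
      sup_le_sup_left (inf_le_inf_left _ (Subgroup.centralizer_le hRQ')) _) hVS hφ h1 h2 hφT
      hα'e
    have hoα : (orderOf α').Coprime p := Nat.Coprime.coprime_dvd_left
      (orderOf_dvd_of_pow_eq_one (mulAut_ext fun y hy => by
        rw [autFun_pow_eqOn hQ'V hα'e _ y hy, hφn, autFun_one (hQ'V hy), autFun_one hy])) hn''
    have hα'M := Mf_of_lft d hQ'c hQc hl hoα
    obtain ⟨g, hg, hg1, -, hgQ⟩ := hk.exists_inv
    have hes : ∀ y : Q', ((eQ.symm y : Q) : Ω) = g y := fun y => by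
      obtain ⟨z, rfl⟩ := eQ.surjective y
      rw [MulEquiv.symm_apply_apply, heQ, hg1 z z.2]
    refine ⟨_, Mf_congr d hg hgQ eQ.symm hes hα'M, fun x hx => ?_⟩
    have hkx : k x ∈ R' := apply_mem_fimg k hx
    conv_lhs => rw [← hg1 x (hRQ hx)]
    rw [autFun_congr eQ.symm hes α' (hRQ' hkx), hα'e _ (hRQ' hkx), hφe _ hkx,
      autFun_congr eR heR β hx, hg1 _ (hRQ (autFun_mem β hx))]

end Cfsg.Agent.Fus.Inter
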