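import Mathlib
import Cfsg.Agent.Lib.Fus.InvMapLevel
import Cfsg.Agent.Lib.Fus.SatCriterion

/-!
The generated system is saturated.
-/

set_option autoImplicit false
set_option linter.style.haveILetI false
set_option linter.unusedSectionVars false

open scoped Classical

universe u

namespace Cfsg.Agent.Fus.InvMap

open Subgroup FusionSystem

variable {Ω : Type u} [Group Ω] {S T : Subgroup Ω} {F : FusionSystem S} {p : ℕ}
  {M : (R : Subgroup Ω) → Subgroup (MulAut R)} [Finite S] [Fact p.Prime] (d : Maps F T p M)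
include d

/-- The centric subgroups of the generated system contain their centralizers in `T`. -/
theorem tCen_of_centric {P : Subgroup Ω} (hP : (sys d).IsCentric P) : TCen F T P := by
  have hT := d.closed
  haveI : Finite T := finite_of_le hT.1
  refine ⟨hP.1, fun Q hQ => ?_⟩
  obtain ⟨f, hf, rfl⟩ := isConj_iff.1 hQ
  obtain ⟨α, hα⟩ := exists_decAt d hP.1 hf
  obtain ⟨hαA, e, he, hfe⟩ := hα
  have hc := hP.2 _ ((isMap_sys d).2 he).isConj
  have hm : IsMap F T (autFun α) := (Fus.mem_autGroup hT.1).1 hαA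
  have heT : fimg e P ≤ T := fimg_le fun x hx => he.apply_mem x hx
  intro c hc'
  obtain ⟨hcT, hcc⟩ := mem_centralizerIn.1 hc'
  obtain ⟨x, hx, rfl⟩ := hm.mem_fimg_iff.1 ((fimg_autFun α).symm ▸ hcT :
    c ∈ fimg (autFun α) T)
  have himg : fimg f P = fimg (autFun α) (fimg e P) := by
    rw [fimg_congr hfe, (he.isMap d).fimg_comp]
  rw [himg] at hcc ⊢
  refine apply_mem_fimg _ (hc (mem_centralizerIn.2 ⟨hx, fun y hy => ?_⟩))
  refine hm.injOn (T.mul_mem (heT hy) hx) (T.mul_mem hx (heT hy)) ?_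
  rw [hm.map_mul (heT hy) hx, hm.map_mul hx (heT hy)]
  exact hcc _ (apply_mem_fimg _ hy)

/-- The automorphisms of a conjugate by `Aut_F(T)` of a fully normalized subgroup. -/
theorem fullyAutomized_sys {R'' : Subgroup Ω} {α : MulAut T} (hα : α ∈ F.autGroup T)
    (hc : TCen F T R'') (hn : F.IsFullyNormalized (fimg (autFun α) R'')) :
    (sys d).IsFullyAutomized p R'' := by
  have hT := d.closed
  have hR''S := hc.1.trans hT.1
  haveI := finite_of_le hR''S
  haveI : Finite T := finite_of_le hT.1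
  have hm : IsMap F T (autFun α) := (Fus.mem_autGroup hT.1).1 hα
  have hmR := hm.res hc.1
  obtain ⟨e, he, -⟩ := exists_mulEquiv hmR rfl
  have hc₀ := hc.image hT hmR
  have hTle : autInducedBy T R'' ≤ (sys d).autGroup R'' :=
    autInducedBy_le_autGroup (sys d) hc.1
  obtain ⟨-, hsy⟩ : IsSylowOf p (autInducedBy T R'') ((sys d).autGroup R'') :=
    IsSylowOf.of_card_le hTle
      ((isPGroup_autInducedBy d.pG R'').to_le (autInducedBy_mono hT.1 R''))
      fun A hA hAp hle => by
        rw [autGroup_eq d hc] at hA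
        have hsmall := sylow_top d hc₀ hn (W := A.map (MulAut.congr e).toMonoidHom) (hAp.map _)
          (by
            rintro _ ⟨a, ha, rfl⟩
            exact d.congr hc hmR rfl e he a (hA ha)) (by
            intro z hz
            obtain ⟨t, ht, hte⟩ := mem_autInducedBy.1 hz
            obtain ⟨x, hx, rfl⟩ := hm.mem_fimg_iff.1 ((fimg_autFun α).symm ▸ ht :
              t ∈ fimg (autFun α) T)
            refine ⟨(MulAut.congr e).symm z, hle (mem_autInducedBy.2 ⟨x, hx, fun y => ?_⟩),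
              (MulAut.congr e).apply_symm_apply z⟩
            refine hm.injOn (hc.1 ((MulAut.congr e).symm z y).2)
              (T.mul_mem (T.mul_mem hx (hc.1 y.2)) (T.inv_mem hx)) ?_
            rw [hm.map_conj hx (hc.1 y.2), ← he, ← he, ← hte]
            simp [MulAut.congr])
        intro a ha
        obtain ⟨t, ht, hte⟩ := mem_autInducedBy.1 (hsmall ⟨a, ha, rfl⟩)
        obtain ⟨x, hx, rfl⟩ := hm.mem_fimg_iff.1 ((fimg_autFun α).symm ▸ ht :
          t ∈ fimg (autFun α) T)
        refine mem_autInducedBy.2 ⟨x, hx, fun y => ?_⟩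
        refine hm.injOn (hc.1 (a y).2) (T.mul_mem (T.mul_mem hx (hc.1 y.2)) (T.inv_mem hx)) ?_
        rw [hm.map_conj hx (hc.1 y.2), ← he, ← he, ← hte]
        simp [MulAut.congr]
  exact ⟨hc.1, hsy⟩

/-- A conjugate by `Aut_F(T)` of a fully normalized subgroup is receptive. -/
theorem receptive_sys {R'' : Subgroup Ω} {α : MulAut T} (hα : α ∈ F.autGroup T)
    (hc : TCen F T R'') (hn : F.IsFullyNormalized (fimg (autFun α) R'')) :
    (sys d).IsReceptive R'' := by
  refine ⟨hc.1, fun P φ hφ hφR => ?_⟩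
  have hT := d.closed
  haveI : Finite T := finite_of_le hT.1
  have hm : IsMap F T (autFun α) := (Fus.mem_autGroup hT.1).1 hα
  have hmR := hm.res hc.1
  have hc₀ := hc.image hT hmR
  set f := toFun φ with hfdef
  have hfE : IsMap (sys d) P f := isMap_toFun hφ
  have hgen : Gen F T M P f := (isMap_sys d).1 hfE
  have hfm := hgen.isMap d
  have hPT := hgen.source_le
  have hfP : fimg f P = R'' := by
    rw [← hφR, hfm.range_eq_fimg fun x => (toFun_coe φ x).symm]
  set N := extender T P φ with hNdef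
  have hu := hfm.comp hm hgen.apply_mem
  obtain ⟨u', hu', hue⟩ := receptive_extend (receptive_of_fullyNormalized d.pG d.sat hn) hu
    (by rw [hfm.fimg_comp, hfP]) (N := N) (fun g hg => by
      obtain ⟨hgT, hgn, h, hh, he⟩ := mem_extender.1 hg
      refine ⟨⟨hT.1 hgT, hgn⟩, autFun α h, hT.1 (autFun_mem α hh), fun x hx => ?_⟩
      show autFun α (f (g * x * g⁻¹)) = _
      rw [hfdef, he x hx]
      exact hm.map_conj hh (hgen.apply_mem x hx))
    (fun x hx => mem_extender.2 ⟨hPT hx, Subgroup.le_normalizer hx, f x, hgen.apply_mem x hx,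
      fun y hy => hfm.map_conj hx hy⟩)
  have hNT : N ≤ T := fun x hx => (mem_extender.1 hx).1
  have hu'T : ∀ x ∈ N, u' x ∈ T := fun x hx => StronglyClosed.apply_mem hT hu' hNT hx
  have hmi : IsMap F T (autFun α⁻¹) := (Fus.mem_autGroup hT.1).1 (inv_mem hα)
  have hf₁ := hu'.comp hmi hu'T
  obtain ⟨ε, hd⟩ := exists_decAt d hNT hf₁
  have hagree : ∀ x ∈ P, autFun α⁻¹ (u' x) = f x := fun x hx => by
    rw [hue x hx]
    exact autFun_inv_apply α (hgen.apply_mem x hx)
  have hPN : P ≤ N := fun x hx => mem_extender.2 ⟨hPT hx, Subgroup.le_normalizer hx, f x,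
    hgen.apply_mem x hx, fun y hy => hfm.map_conj hx hy⟩
  obtain ⟨g, -, hg1, hg2, -⟩ := hfm.exists_inv
  rw [hfP] at hg2
  have hdP := (hd.res hPN).congr (f' := f) fun x hx => (hagree x hx).symm
  have hinv := (DecAt.of_gen hgen).inv d hg1
  rw [hfP] at hinv
  obtain ⟨hεA, e₀, he₀, he₀e⟩ := (hinv.comp d hdP fun y hy => (hg2 y hy).1).congr
    (f' := fun x => x) fun y hy => ((hg2 y hy).2).symm
  have hεR : ε ∈ Res d hc.1 := by
    have h1 : (ε * 1⁻¹)⁻¹ ∈ Res d hc.1 := ⟨inv_mem hεA, he₀.congr fun x hx => by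
      have h3 : x = autFun (ε * 1⁻¹) (e₀ x) := he₀e x hx
      conv_lhs => rw [h3]
      exact autFun_inv_apply _ (he₀.apply_mem x hx)⟩
    simpa using inv_mem h1
  have hres₀ := conj_mem_Res d (DecAt.of_aut d hα hc.1) hεR
  have hK := (level d _ hc₀).2
    (fullyCentralized_of_fullyNormalized d.pG d.sat hn) hc₀.1 hres₀
  have hnorm : autInducedBy (centralizerIn S (fimg (autFun α) R'')) T ≤
      Subgroup.normalizer ((M T) : Set (MulAut T)) := fun c hc' => by
    obtain ⟨s, hs, hse⟩ := mem_autInducedBy.1 hc'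
    obtain ⟨s', hs', hs'e⟩ := mem_autInducedBy.1 (inv_mem hc')
    exact mem_normalizer_of_forall (fun μ hμ => conj_autInducedBy_top d hs.1 hμ hse)
      fun μ hμ => by simpa using conj_autInducedBy_top d hs'.1 hμ hs'e
  obtain ⟨μ, hμ, c, hcC, hμc⟩ := (mem_sup_normalized hnorm).1 hK
  obtain ⟨s, hs, hse⟩ := mem_autInducedBy.1 hcC
  have hcA : c ∈ F.autGroup T :=
    autInducedBy_le_autGroup F hT.1 (autInducedBy_mono inf_le_left T hcC)
  have htc := tCen_self hT
  -- the correction
  let κ : MulAut T := α⁻¹ * c * α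
  let μ' : MulAut T := κ⁻¹ * ε
  have hμ' : μ' ∈ M T := by
    have h1 : c⁻¹ * μ * c ∈ M T := by
      simpa using conj_mem d htc (inv_mem hcA) hμ
    have h2 : μ' = α⁻¹ * (c⁻¹ * μ * c) * α := by
      have : ε = α⁻¹ * (μ * c) * α := by rw [hμc]; group
      simp only [μ', κ, this]
      group
    rw [h2]
    simpa using conj_mem d htc (inv_mem hα) h1
  obtain ⟨-, e, he, hee⟩ := hd
  have hf' : Gen F T M N (fun x => autFun μ' (e x)) :=
    .comp he (.aut htc hμ' le_rfl fun _ _ => rfl) he.apply_mem fun x _ => rfl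
  have hκfix : ∀ y ∈ R'', autFun κ⁻¹ y = y := fun y hy => by
    have hyT := hc.1 hy
    have hfix : autFun c (autFun α y) = autFun α y := by
      rw [show autFun c (autFun α y) = ((c ⟨_, autFun_mem α hyT⟩ : T) : Ω) from
        autFun_coe c ⟨_, autFun_mem α hyT⟩, hse]
      show s * autFun α y * s⁻¹ = _
      rw [← (mem_centralizerIn.1 hs).2 _ (apply_mem_fimg (autFun α) hy), mul_inv_cancel_right]
    have h1 : autFun κ y = y := by
      show autFun (α⁻¹ * c * α) y = y
      rw [autFun_mul _ _ hyT, autFun_mul _ _ (autFun_mem α hyT), hfix, autFun_inv_apply α hyT]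
    conv_lhs => rw [← h1]
    exact autFun_inv_apply κ hyT
  obtain ⟨ψ, hψ, hψe⟩ := (isMap_sys d).2 hf'
  refine ⟨ψ, hψ, fun x hxP hxN => ?_⟩
  rw [hψe ⟨x, hxN⟩, ← toFun_apply φ hxP]
  show autFun μ' (e x) = f x
  have hεe : autFun ε (e x) = f x := (hee x hxN).symm.trans (hagree x hxP)
  rw [autFun_mul _ _ (he.apply_mem x hxN), hεe]
  exact hκfix _ (hfP.le (apply_mem_fimg f hxP))

/-- The generated system is saturated. -/
theorem sys_saturated : (sys d).IsSaturated p := by
  have hT := d.closed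
  haveI : Finite T := finite_of_le hT.1
  refine SatCrit.isSaturated_of_family (d.pG.to_le hT.1) {P | TCen F T P} ?_ ?_ ?_ ?_
  · intro P hP Q hQ
    obtain ⟨f, hf, rfl⟩ := isConj_iff.1 hQ
    exact TCen.image hT hP (((isMap_sys d).1 hf).isMap d)
  · intro R (hR : TCen F T R)
    obtain ⟨R₀, hR₀, hn⟩ := exists_fullyNormalized F (hR.1.trans hT.1)
    obtain ⟨v, hv, rfl⟩ := isConj_iff.1 hR₀
    obtain ⟨α, hαA, e, he, hve⟩ := exists_decAt d hR.1 hv
    have heR : fimg v R = fimg (autFun α) (fimg e R) := by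
      rw [fimg_congr hve, (he.isMap d).fimg_comp]
    rw [heR] at hn
    have hc := hR.image hT (he.isMap d)
    exact ⟨_, ((isMap_sys d).2 he).isConj, fullyAutomized_sys d hαA hc hn,
      receptive_sys d hαA hc hn⟩
  · intro E hE P φ hφ
    suffices h : ∀ {P : Subgroup Ω} {f : Ω → Ω}, Gen F T M P f → IsMap E P f from
      mem_hom_iff.2 (h hφ)
    intro P f h
    induction h with
    | @aut P Q α f hQ hα hPQ hf =>
      obtain ⟨ψ, hψ, hψe⟩ := (isMap_sys d).2
        (Gen.aut (F := F) (T := T) hQ hα le_rfl fun _ _ => rfl)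
      exact ((show IsMap E Q (autFun α) from ⟨ψ, hE Q hQ hψ, hψe⟩).res hPQ).congr
        fun x hx => (hf x hx).symm
    | comp _ _ hm he ih₁ ih₂ => exact (ih₁.comp ih₂ hm).congr fun x hx => (he x hx).symm
  · exact fun P hP hPℋ => absurd (tCen_of_centric d hP) hPℋ

end Cfsg.Agent.Fus.InvMap
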