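import Mathlib
import Cfsg.Agent.Lib.Fus.InterMaps
import Cfsg.Agent.Lib.Fus.InvMapSat
import Cfsg.Agent.Lib.Fus.Alperin

/-!
The intersection of two normal subsystems: the largest subsystem over `T₁ ⊓ T₂` normal in the
system and in both subsystems.
-/

set_option autoImplicit false
set_option linter.style.haveILetI false
set_option linter.unusedSectionVars false
set_option linter.unusedVariables false

open scoped Classical

universe u

namespace Cfsg.Agent.Fus.Inter

open Subgroup FusionSystem InvMap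

variable {Ω : Type u} [Group Ω] {S : Subgroup Ω} {F : FusionSystem S} {p : ℕ}
  [Finite S] [Fact p.Prime]

/-- The automorphism is in the subsystem if it differs from one there by an element of `p`-power
order while having order prime to `p`. -/
theorem mem_of_pow_diff {U : Subgroup Ω} {E : FusionSystem U} (hE : E.IsInvariantIn F)
    {W : Subgroup Ω} (hW : W ≤ U) {δ η : MulAut W} (hδ : δ ∈ F.autGroup W)
    (hη : η ∈ E.autGroup W) {n k : ℕ} (hn : n.Coprime p) (hδn : δ ^ n = 1)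
    (hk : (η⁻¹ * δ) ^ p ^ k = 1) : δ ∈ E.autGroup W := by
  haveI := finite_of_le (hW.trans hE.2.1.1)
  haveI : ((E.autGroup W).subgroupOf (F.autGroup W)).Normal :=
    ⟨fun a ha b => autGroup_conj_mem hE hW b.2 ha⟩
  let π := QuotientGroup.mk' ((E.autGroup W).subgroupOf (F.autGroup W))
  have hηF := autGroup_mono hE.1 W hη
  have h1 : π ⟨δ, hδ⟩ = π ⟨η⁻¹ * δ, mul_mem (inv_mem hηF) hδ⟩ := by
    rw [show (⟨η⁻¹ * δ, mul_mem (inv_mem hηF) hδ⟩ : F.autGroup W) = ⟨η, hηF⟩⁻¹ * ⟨δ, hδ⟩ from rfl,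
      map_mul, map_inv,
      show π ⟨η, hηF⟩ = 1 from (QuotientGroup.eq_one_iff _).2 hη, inv_one, one_mul]
  have h2 : π ⟨δ, hδ⟩ = 1 := InvExt.eq_one_of_coprime_pow (k := k) hn (by
    rw [h1, ← map_pow]
    exact (congrArg π (Subtype.ext hk : (⟨η⁻¹ * δ, _⟩ : F.autGroup W) ^ p ^ k = 1)).trans
      π.map_one) (by
    rw [← map_pow]
    exact (congrArg π (Subtype.ext hδn : (⟨δ, hδ⟩ : F.autGroup W) ^ n = 1)).trans π.map_one)
  exact (QuotientGroup.eq_one_iff (N := (E.autGroup W).subgroupOf (F.autGroup W)) ⟨δ, hδ⟩).1 h2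

variable {T₁ T₂ : Subgroup Ω} {E₁ : FusionSystem T₁} {E₂ : FusionSystem T₂}
  (d : Two F p E₁ E₂)
include d

/-- The intersection system. -/
noncomputable def interSys : FusionSystem (T₁ ⊓ T₂) := sys (maps d)

theorem autGroup_interSys {R : Subgroup Ω} (hR : TCen F (T₁ ⊓ T₂) R) :
    (interSys d).autGroup R = Mf d R :=
  autGroup_eq (maps d) hR

theorem fullyNormalized_top : F.IsFullyNormalized (T₁ ⊓ T₂) :=
  ⟨(closed d).1, fun Q hQ => by
    obtain ⟨f, hf, rfl⟩ := isConj_iff.1 hQ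
    rw [fimg_top (closed d) hf]⟩

theorem top_lft {α : MulAut ↥(T₁ ⊓ T₂)} (hα : α ∈ (interSys d).autGroup (T₁ ⊓ T₂)) :
    Lft d (closed d).1 α := by
  have hT := tCen_self (closed d)
  rw [autGroup_interSys d hT, Mf_eq d hT (fullyNormalized_top d)] at hα
  exact (sup_le (gens_le_lft d (closed d).1) (inn_le_lft d hT) :
    M₀ d (T₁ ⊓ T₂) ≤ Lgrp d (closed d).1) hα

/-- The intersection system is normal. -/
theorem interSys_normal : (interSys d).IsNormalIn F p := by
  refine ⟨⟨sys_saturated (maps d), d.sat, sys_invariant (maps d)⟩, fun α hα => ?_⟩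
  obtain ⟨b, hb, hbe⟩ := top_lft d hα
  refine ⟨b, hb.1, fun x => ?_, fun c hc => ?_⟩
  · rw [← autFun_coe, ← autFun_coe α x]
    exact hbe x x.2
  · have hbc := apply_centralizer hb.1 (closed d).1 hb.2.1 c hc
    rw [← autFun_coe]
    exact ⟨hb.2.2.1 c hc, Subgroup.mul_mem _ (Subgroup.inv_mem _ hc.2) hbc.2⟩

omit d in
/-- For a normal subsystem over a larger support the subgroups containing their centralizers in
`T` are the same. -/
theorem tCen_sub_iff {U T : Subgroup Ω} {E : FusionSystem U} (hE : E.IsInvariantIn F)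
    (hT : F.StronglyClosed T) (hTU : T ≤ U) {R : Subgroup Ω} :
    TCen E T R ↔ TCen F T R := by
  refine ⟨fun h => ⟨h.1, fun Q hQ => ?_⟩, fun h => ⟨h.1, fun Q hQ => ?_⟩⟩
  · obtain ⟨f, hf, rfl⟩ := isConj_iff.1 hQ
    obtain ⟨a, ha, f₀, hf₀, hfe⟩ := frattini_of_isInvariantIn hE (h.1.trans hTU) hf
    have hUS := hE.2.1.1
    have ham : IsMap F U (autFun a) := (Fus.mem_autGroup hUS).1 ha
    have haT : fimg (autFun a) T = T := by
      haveI := finite_of_le (hTU.trans hUS)
      exact Subgroup.eq_of_le_of_card_ge (fimg_le fun x hx =>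
        StronglyClosed.apply_mem hT (ham.res hTU) le_rfl hx) (ham.res hTU).card_fimg.ge
    have hc := h.2 _ hf₀.isConj
    rw [fimg_congr hfe, hf₀.fimg_comp]
    have hf₀R : fimg f₀ R ≤ T := fimg_le fun x hx =>
      StronglyClosed.apply_mem hT (hf₀.mono hE.1) h.1 hx
    intro c hc'
    obtain ⟨hcT, hcc⟩ := mem_centralizerIn.1 hc'
    obtain ⟨x, hx, rfl⟩ := (ham.res hTU).mem_fimg_iff.1 (haT.ge hcT)
    refine apply_mem_fimg _ (hc (mem_centralizerIn.2 ⟨hx, fun y hy => ?_⟩))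
    have hyU := hTU (hf₀R hy)
    refine ham.injOn (U.mul_mem hyU (hTU hx)) (U.mul_mem (hTU hx) hyU) ?_
    rw [ham.map_mul hyU (hTU hx), ham.map_mul (hTU hx) hyU]
    exact hcc _ (apply_mem_fimg _ hy)
  · obtain ⟨f, hf, rfl⟩ := isConj_iff.1 hQ
    exact h.2 _ (hf.mono hE.1).isConj

omit d in
/-- A member of the family is a map of a subsystem containing the lifts. -/
theorem gen_iff {U : Subgroup Ω} {E : FusionSystem U} {T : Subgroup Ω}
    (h : ∀ R, TCen E T R ↔ TCen F T R) {M : (R : Subgroup Ω) → Subgroup (MulAut R)}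
    {P : Subgroup Ω} {f : Ω → Ω} : Gen E T M P f ↔ Gen F T M P f := by
  constructor <;> intro hg <;> induction hg with
  | aut hQ hα hPQ hf => first
    | exact .aut ((h _).1 hQ) hα hPQ hf
    | exact .aut ((h _).2 hQ) hα hPQ hf
  | comp _ _ hm he ih₁ ih₂ => exact .comp ih₁ ih₂ hm he

/-- Either factor contains the family and gives it the axioms. -/
theorem maps_sub {U : Subgroup Ω} {E : FusionSystem U} (hE : E.IsNormalIn F p)
    (hTU : T₁ ⊓ T₂ ≤ U)
    (hin : ∀ {R : Subgroup Ω} (hR : R ≤ S) {b : MulAut ↥(PR S R)}, b ∈ Bgrp d hR →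
      InE E (PR S R ⊓ U) (autFun b)) :
    Maps E (T₁ ⊓ T₂) p (fun R => Mf d R) := by
  have hinv := hE.1.2.2
  have hUS := hinv.2.1.1
  have hT := closed d
  have hEF := hinv.1
  haveI : Finite U := finite_of_le hUS
  have hUp := d.pG.to_le hUS
  have hcl : E.StronglyClosed (T₁ ⊓ T₂) := stronglyClosed_of_forall hTU fun P hP f hf x hx =>
    StronglyClosed.apply_mem hT (hf.mono hEF) hP hx
  have hTC : ∀ {R : Subgroup Ω}, TCen E (T₁ ⊓ T₂) R → TCen F (T₁ ⊓ T₂) R :=
    fun h => (tCen_sub_iff hinv hT hTU).1 h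
  have dM := maps d
  -- the move to a fully normalized subgroup
  have move : ∀ {R : Subgroup Ω}, TCen F (T₁ ⊓ T₂) R → E.IsFullyNormalized R →
      ∃ g, IsMap F (normalizerIn S R) g ∧ F.IsFullyNormalized (fimg g R) ∧
        fimg g (normalizerIn (T₁ ⊓ T₂) R) = normalizerIn (T₁ ⊓ T₂) (fimg g R) := by
    intro R hR hRn
    have hRS := le_S d hR
    obtain ⟨R₀, hR₀, hn⟩ := exists_fullyNormalized F hRS
    obtain ⟨g, hg, hgR, -⟩ := exists_map_to_fullyNormalized d.pG d.sat hn hR₀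
    subst hgR
    have hle : normalizerIn (T₁ ⊓ T₂) R ≤ normalizerIn S R := fun x hx => ⟨hT.1 hx.1, hx.2⟩
    refine ⟨g, hg, hn, ?_⟩
    haveI : Finite ↥(normalizerIn (T₁ ⊓ T₂) (fimg g R)) :=
      finite_of_le (S := S) (inf_le_left.trans hT.1 : normalizerIn (T₁ ⊓ T₂) (fimg g R) ≤ S)
    refine Subgroup.eq_of_le_of_card_ge (fimg_le fun x hx =>
      ⟨StronglyClosed.apply_mem hT (hg.res hle) inf_le_left hx,
        (hg.map_normalizerIn (le_normalizerIn hRS) (hle hx) hx.2).2⟩) ?_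
    rw [(hg.res hle).card_fimg]
    -- an automorphism of `U` and a map of `E` carry the right side into the left one
    obtain ⟨a, ha, e, he, hge⟩ :=
      frattini_of_isInvariantIn hinv (hR.1.trans hTU) (hg.res (le_normalizerIn hRS))
    have ham : IsMap F U (autFun a) := (Fus.mem_autGroup hUS).1 ha
    have hai : IsMap F U (autFun a⁻¹) := (Fus.mem_autGroup hUS).1 (inv_mem ha)
    obtain ⟨h, hh, hhR, -⟩ :=
      exists_map_to_fullyNormalized hUp hE.1.1 hRn (isConj_symm he.isConj)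
    set R₀ := fimg g R with hR₀def
    have haR : R₀ = fimg (autFun a) (fimg e R) := by
      rw [hR₀def, fimg_congr hge, he.fimg_comp]
    have hR₀U : normalizerIn (T₁ ⊓ T₂) R₀ ≤ U := inf_le_left.trans hTU
    have hback : fimg (autFun a⁻¹) R₀ = fimg e R := by
      rw [haR, ← ((ham.res he.fimg_le_S)).fimg_comp]
      exact (fimg_congr fun x hx => autFun_inv_apply a (he.fimg_le_S hx)).trans (fimg_id _)
    have h1 : ∀ x ∈ normalizerIn (T₁ ⊓ T₂) R₀,
        autFun a⁻¹ x ∈ normalizerIn (T₁ ⊓ T₂) (fimg e R) := fun x hx => by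
      refine ⟨StronglyClosed.apply_mem hT (hai.res hR₀U) inf_le_left hx, ?_⟩
      have := hai.map_normalizerIn (haR.symm ▸ fimg_le fun y hy => autFun_mem a (he.fimg_le_S hy) :
        R₀ ≤ U) (hR₀U hx) hx.2
      rw [hback] at this
      exact this.2
    have h2 : normalizerIn (T₁ ⊓ T₂) (fimg e R) ≤ normalizerIn U (fimg e R) :=
      fun x hx => ⟨hTU hx.1, hx.2⟩
    have hcomp := (hai.res hR₀U).comp ((hh.mono hEF).res h2) h1
    rw [← hcomp.card_fimg]
    haveI : Finite ↥(normalizerIn (T₁ ⊓ T₂) R) :=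
      finite_of_le (S := S) (inf_le_left.trans hT.1 : normalizerIn (T₁ ⊓ T₂) R ≤ S)
    refine Subgroup.card_le_of_le (fimg_le fun x hx =>
      ⟨StronglyClosed.apply_mem hT hcomp inf_le_left hx, ?_⟩)
    exact (hhR ▸ hh.map_normalizerIn (le_normalizerIn he.fimg_le_S) (h2 (h1 x hx)) (h1 x hx).2 :
      h (autFun a⁻¹ x) ∈ normalizerIn U R).2
  refine ⟨hUp, hE.1.1, hcl, fun {R} hR => ?_, fun hR => dM.inn (hTC hR),
    fun hR hf hfQ e he α hα => dM.congr (hTC hR) (hf.mono hEF) hfQ e he α hα,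
    fun {R} hR hRn => ?_,
    fun hR hRQ hQT hQN α hα ho β hβ => dM.res (hTC hR) hRQ hQT hQN α hα ho β hβ,
    fun {R Q} hR hRn hRQ hQN β hβ ho hβn => ?_⟩
  · -- the members are maps of the subsystem
    refine (Subgroup.closure_le _).2 ?_
    rintro _ ⟨R₀, v, e, x, hR₀, hn₀, hv, hvR, he, hx, rfl⟩
    refine InvClass.congr_autGroup hinv (hR₀.1.trans hTU) hv hvR e he ?_
    have hR₀U := hR₀.1.trans hTU
    rcases hx with ⟨hS₀, ⟨b, hb, hbe⟩, -⟩ | hx
    · obtain ⟨γ, hγ, hγe⟩ := hin hS₀ hb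
      have hRW : R₀ ≤ PR S R₀ ⊓ U := le_inf le_sup_left hR₀U
      refine (Fus.mem_autGroup hR₀U).2 ((((Fus.mem_autGroup inf_le_right).1 hγ).res hRW).congr
        fun y hy => ?_)
      rw [hγe y (hRW hy), hbe y hy]
    · exact autInducedBy_le_autGroup E hR₀U (autInducedBy_mono hTU R₀ hx)
  · -- the trace
    rintro γ ⟨hγM, hγU⟩
    have hR' := hTC hR
    have hRS := le_S d hR'
    obtain ⟨g, hg, hn, hgT⟩ := move hR' hRn
    obtain ⟨u, hu, hue⟩ := mem_autInducedBy.1 hγU
    have hun : u ∈ normalizerIn S R := ⟨hUS hu, mem_normalizer_of_conj_aut hue⟩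
    have hgR := hg.res (le_normalizerIn hRS)
    obtain ⟨e, he, -⟩ := exists_mulEquiv hgR rfl
    have h1 := Mf_congr d hgR rfl e he hγM
    have h2 : ∀ y : fimg g R, ((MulAut.congr e γ y : fimg g R) : Ω) = g u * y * (g u)⁻¹ := by
      intro y
      obtain ⟨z, rfl⟩ := e.surjective y
      rw [he, ← hg.map_conj hun (le_normalizerIn hRS z.2), ← hue, ← he]
      simp [MulAut.congr]
    obtain ⟨t, ht, hte⟩ := mem_autInducedBy.1 (dM.sylow (hR'.image hT hgR) hn
      ⟨h1, mem_autInducedBy.2 ⟨g u, hg.apply_mem hun, h2⟩⟩)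
    have htN : t ∈ fimg g (normalizerIn (T₁ ⊓ T₂) R) :=
      hgT.ge ⟨ht, mem_normalizer_of_conj_aut hte⟩
    have hle : normalizerIn (T₁ ⊓ T₂) R ≤ normalizerIn S R := fun x hx => ⟨hT.1 hx.1, hx.2⟩
    obtain ⟨t₀, ht₀, rfl⟩ := (hg.res hle).mem_fimg_iff.1 htN
    refine mem_autInducedBy.2 ⟨t₀, ht₀.1, fun z => ?_⟩
    have hzN := le_normalizerIn hRS z.2
    refine hg.injOn (le_normalizerIn hRS (γ z).2)
      (mul_mem (mul_mem (hle ht₀) hzN) (inv_mem (hle ht₀))) ?_
    rw [hg.map_conj (hle ht₀) hzN, ← he, ← he, ← hte (e z)]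
    simp [MulAut.congr]
  · -- extension
    have hR' := hTC hR
    have hRS := le_S d hR'
    obtain ⟨g, hg, hn, -⟩ := move hR' hRn
    have hQS : Q ≤ normalizerIn S R := fun x hx => ⟨hT.1 (hQN hx).1, (hQN hx).2⟩
    have hgR := hg.res (le_normalizerIn hRS)
    have hgQ := hg.res hQS
    obtain ⟨eR, heR, -⟩ := exists_mulEquiv hgR rfl
    obtain ⟨eQ, heQ, -⟩ := exists_mulEquiv hgQ rfl
    have hR₀ := hR'.image hT hgR
    have hQN' : fimg g Q ≤ normalizerIn (T₁ ⊓ T₂) (fimg g R) := fimg_le fun x hx =>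
      ⟨StronglyClosed.apply_mem hT hgQ (hQN.trans inf_le_left) hx,
        (hg.map_normalizerIn (le_normalizerIn hRS) (hQS hx) (hQN hx).2).2⟩
    have hmap : autInducedBy (fimg g Q) (fimg g R) =
        (autInducedBy Q R).map (MulAut.congr eR).toMonoidHom := by
      ext α
      rw [Subgroup.mem_map]
      constructor
      · intro hα
        obtain ⟨q', hq', hqe⟩ := mem_autInducedBy.1 hα
        obtain ⟨q, hq, rfl⟩ := hgQ.mem_fimg_iff.1 hq'
        refine ⟨R.normalizerMonoidHom ⟨q, (hQN hq).2⟩, mem_autInducedBy_of_mem hq (hQN hq).2,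
          MulEquiv.ext fun y => Subtype.ext ?_⟩
        obtain ⟨z, rfl⟩ := eR.surjective y
        rw [hqe, heR, ← hg.map_conj (hQS hq) (le_normalizerIn hRS z.2),
          ← normalizerMonoidHom_apply ⟨q, (hQN hq).2⟩, ← heR]
        simp [MulAut.congr]
      · rintro ⟨c, hc, rfl⟩
        obtain ⟨q, hq, hqe⟩ := mem_autInducedBy.1 hc
        refine mem_autInducedBy.2 ⟨g q, apply_mem_fimg g hq, fun y => ?_⟩
        obtain ⟨z, rfl⟩ := eR.surjective y
        rw [heR, ← hg.map_conj (hQS hq) (le_normalizerIn hRS z.2), ← hqe, ← heR]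
        simp [MulAut.congr]
    obtain ⟨α', hα', hαe⟩ := dM.ext hR₀ hn (fimg_mono g hRQ) hQN' _
      (Mf_congr d hgR rfl eR heR hβ) (by rw [MulEquiv.orderOf_eq]; exact ho) fun c hc => by
        rw [hmap] at hc ⊢
        obtain ⟨c₀, hc₀, rfl⟩ := hc
        exact ⟨β * c₀ * β⁻¹, hβn _ hc₀, by
          show MulAut.congr eR (β * c₀ * β⁻¹) = _
          rw [map_mul, map_mul, map_inv]
          rfl⟩
    obtain ⟨g', hg', hg1, -, hg'Q⟩ := hgQ.exists_inv
    have hes : ∀ y : fimg g Q, ((eQ.symm y : Q) : Ω) = g' y := fun y => by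
      obtain ⟨z, rfl⟩ := eQ.surjective y
      rw [MulEquiv.symm_apply_apply, heQ, hg1 z z.2]
    refine ⟨_, Mf_congr d hg' hg'Q eQ.symm hes hα', fun x hx => ?_⟩
    have hgx : g x ∈ fimg g R := apply_mem_fimg g hx
    conv_lhs => rw [← hg1 x (hRQ hx)]
    rw [autFun_congr eQ.symm hes α' (fimg_mono g hRQ hgx), hαe _ hgx, autFun_congr eR heR β hx,
      hg1 _ (hRQ (autFun_mem β hx))]

/-- The intersection system is normal in each factor. -/
theorem interSys_normal_sub {U : Subgroup Ω} {E : FusionSystem U} (hE : E.IsNormalIn F p)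
    (hTU : T₁ ⊓ T₂ ≤ U)
    (hin : ∀ {R : Subgroup Ω} (hR : R ≤ S) {b : MulAut ↥(PR S R)}, b ∈ Bgrp d hR →
      InE E (PR S R ⊓ U) (autFun b)) :
    (interSys d).IsNormalIn E p := by
  have hinv := hE.1.2.2
  have hUS := hinv.2.1.1
  haveI : Finite U := finite_of_le hUS
  have hT := closed d
  have dE := maps_sub d hE hTU hin
  have heq : interSys d = sys dE := by
    refine eq_of_hom_eq fun P => Set.ext fun φ => ?_
    exact (gen_iff (fun R => tCen_sub_iff hinv hT hTU)).symm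
  refine ⟨⟨sys_saturated (maps d), hE.1.1, heq ▸ sys_invariant dE⟩, fun α hα => ?_⟩
  obtain ⟨b, hb, hbe⟩ := top_lft d hα
  obtain ⟨γ, hγ, hγe⟩ := hin hT.1 hb
  set W := (T₁ ⊓ T₂) ⊔ centralizerIn U (T₁ ⊓ T₂) with hW
  have hWP : W ≤ PR S (T₁ ⊓ T₂) ⊓ U := sup_le (le_inf le_sup_left hTU) fun c hc =>
    ⟨Subgroup.mem_sup_right ⟨hUS hc.1, hc.2⟩, hc.1⟩
  have hWU : W ≤ U := hWP.trans inf_le_right
  have hm : IsMap E W (autFun γ) := ((Fus.mem_autGroup inf_le_right).1 hγ).res hWP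
  haveI := finite_of_le (hWU.trans hUS)
  have hT0 : fimg (autFun γ) (T₁ ⊓ T₂) = T₁ ⊓ T₂ := by
    rw [fimg_congr fun x hx => show autFun γ x = autFun α x by
      rw [hγe x (hWP (Subgroup.mem_sup_left hx)), hbe x hx], fimg_autFun]
  have hWW : fimg (autFun γ) W ≤ W := by
    rw [hW, hm.fimg_sup, hT0]
    refine sup_le_sup_left (fimg_le fun c hc => ?_) _
    have := hm.map_centralizerIn le_sup_left (Subgroup.mem_sup_right hc) hc.2
    rwa [hT0] at this
  obtain ⟨δ, hδ, hδe⟩ := hm.exists_aut (Subgroup.eq_of_le_of_card_ge hWW hm.card_fimg.ge)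
  refine ⟨δ, hδ, fun x => ?_, fun c hc => ?_⟩
  · rw [← autFun_coe, ← autFun_coe α x]
    show autFun δ x = _
    rw [hδe x (Subgroup.mem_sup_left x.2), hγe x (hWP (Subgroup.mem_sup_left x.2)), hbe x x.2]
  · have hcS : (c : Ω) ∈ centralizerIn S (T₁ ⊓ T₂) := ⟨hUS hc.1, hc.2⟩
    have hbc := apply_centralizer hb.1 hT.1 hb.2.1 c hcS
    rw [← autFun_coe, hδe c c.2, hγe c (hWP c.2)]
    exact ⟨hb.2.2.1 c hcS, Subgroup.mul_mem _ (Subgroup.inv_mem _ hc.2) hbc.2⟩

/-- A lift for an automorphism in a subsystem normal everywhere. -/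
theorem lft_of_normal {D : FusionSystem (T₁ ⊓ T₂)} (hF' : D.IsNormalIn F p)
    (h₁ : D.IsNormalIn E₁ p) (h₂ : D.IsNormalIn E₂ p) {R : Subgroup Ω}
    (hRc : D.IsCentric R) (hn : F.IsFullyNormalized R) {b : MulAut R} (hb : b ∈ D.autGroup R)
    (ho : (orderOf b).Coprime p) : Lft d hn.1 b := by
  have hRS := hn.1
  have hT := closed d
  have hRT : R ≤ T₁ ⊓ T₂ := hRc.1
  have hRP : R ≤ PR S R := le_sup_left
  have hPS : PR S R ≤ S := sup_le hRS inf_le_left
  haveI := finite_of_le hPS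
  obtain ⟨g, hg, hge, hgc⟩ := InvExt.exists_triv d.pG d.sat hF' hRc hn hb
  obtain ⟨φ₀, hφ₀, hφ₀e⟩ := hg.exists_aut (InvExt.fimg_sup_centralizer hRS hg hge)
  have hbn : (⟨b, hb⟩ : D.autGroup R) ^ orderOf b = 1 := Subtype.ext (pow_orderOf_eq_one b)
  obtain ⟨j, n, hn', hφn, hbj⟩ :=
    InvExt.exists_coprime_power (p := p) φ₀ ho (pow_orderOf_eq_one b)
  set φ := φ₀ ^ j with hφdef
  have hφb : ∀ x ∈ R, autFun φ x = autFun b x := fun x hx => by
    rw [← autFun_pow_eqOn hRP (fun y hy => by rw [hφ₀e y (hRP hy), hge y hy]) j x hx, hbj]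
  have hφ : φ ∈ F.autGroup (PR S R) := pow_mem hφ₀ j
  have hφ₀st : ∀ c ∈ centralizerIn S R, autFun φ₀ c ∈ centralizerIn S R := fun c hc => by
    rw [hφ₀e c (Subgroup.mem_sup_right hc)]
    exact InvExt.apply_mem_centralizer hg hRP hge hc (Subgroup.mem_sup_right hc)
  have hpowC : ∀ i : ℕ, ∀ c ∈ centralizerIn S R,
      autFun (φ₀ ^ i) c ∈ centralizerIn S R ∧ c⁻¹ * autFun (φ₀ ^ i) c ∈ T₁ ⊓ T₂ := by
    intro i
    induction i with
    | zero =>
      intro c hc
      rw [pow_zero, autFun_one (show c ∈ PR S R from Subgroup.mem_sup_right hc), inv_mul_cancel]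
      exact ⟨hc, one_mem _⟩
    | succ i ih =>
      intro c hc
      obtain ⟨h1, h2⟩ := ih c hc
      rw [pow_succ', autFun_mul _ _ (show c ∈ PR S R from Subgroup.mem_sup_right hc)]
      refine ⟨hφ₀st _ h1, ?_⟩
      rw [show c⁻¹ * autFun φ₀ (autFun (φ₀ ^ i) c) = c⁻¹ * autFun (φ₀ ^ i) c *
        ((autFun (φ₀ ^ i) c)⁻¹ * autFun φ₀ (autFun (φ₀ ^ i) c)) by group]
      refine Subgroup.mul_mem _ h2 ?_
      rw [hφ₀e _ (Subgroup.mem_sup_right h1)]
      exact hgc _ h1
  have inE : ∀ {U : Subgroup Ω} {E : FusionSystem U}, E.IsNormalIn F p → D.IsNormalIn E p →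
      T₁ ⊓ T₂ ≤ U → InE E (PR S R ⊓ U) (autFun φ) := by
    intro U E hE hD hTU
    have hUS := hE.1.2.2.2.1.1
    haveI : Finite U := finite_of_le hUS
    have hUp := d.pG.to_le hUS
    have hnE := InvExt.fullyNormalized_sub d.pG d.sat hE.1.2.2.2.1 hE.1.2.2.1 (hRT.trans hTU) hn
    obtain ⟨g', hg', hg'e, hg'c⟩ := InvExt.exists_triv hUp hE.1.1 hD hRc hnE hb
    set W := PR S R ⊓ U
    have hWeq : W ≤ R ⊔ centralizerIn U R := by
      rintro y ⟨hy, hyU⟩
      obtain ⟨r, hr, c, hc, rfl⟩ := (mem_sup_normalized (fun z hz =>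
        (centralizerIn_le_normalizerIn R hz).2)).1 hy
      refine Subgroup.mul_mem_sup hr ⟨?_, hc.2⟩
      simpa using U.mul_mem (U.inv_mem ((hRT.trans hTU) hr)) hyU
    have hge' : R ⊔ centralizerIn U R ≤ W := sup_le (le_inf hRP (hRT.trans hTU)) fun c hc =>
      ⟨Subgroup.mem_sup_right ⟨hUS hc.1, hc.2⟩, hc.1⟩
    have hWW : R ⊔ centralizerIn U R = W := le_antisymm hge' hWeq
    rw [hWW] at hg'
    haveI : Finite ↥W := finite_of_le (S := S) (show W ≤ S from inf_le_left.trans hPS)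
    have hg'W : fimg g' W = W := by
      have := InvExt.fimg_sup_centralizer (hRT.trans hTU) (hWW.symm ▸ hg') hg'e
      rwa [hWW] at this
    obtain ⟨η, hη, hηe⟩ := hg'.exists_aut hg'W
    have hφm : IsMap F (PR S R) (autFun φ) := (Fus.mem_autGroup hPS).1 hφ
    have hst : ∀ x ∈ W, autFun φ x ∈ W := fun x hx =>
      ⟨autFun_mem φ hx.1, StronglyClosed.apply_mem hE.1.2.2.2.1 (hφm.res inf_le_left)
        (inf_le_right : W ≤ U) hx⟩
    obtain ⟨δ, hδ, hδe⟩ := (hφm.res (inf_le_left : W ≤ _)).exists_aut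
      (Subgroup.eq_of_le_of_card_ge (fimg_le hst) (hφm.res inf_le_left).card_fimg.ge)
    have hδn : δ ^ n = 1 := mulAut_ext fun x hx => by
      rw [autFun_pow_eqOn inf_le_left hδe n x hx, hφn, autFun_one hx.1, autFun_one hx]
    -- their quotient stabilizes a chain
    haveI := finite_of_le hRS
    obtain ⟨k, hk⟩ := (d.pG.to_le hRS).exists_card_eq
    have hξ : (η⁻¹ * δ) ^ p ^ k = 1 := by
      rw [← hk]
      set ξ := η⁻¹ * δ with hξdef
      have hξm : IsMap F W (autFun ξ) := (Fus.mem_autGroup (inf_le_left.trans hPS)).1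
        (mul_mem (inv_mem (autGroup_mono hE.1.2.2.1 W hη)) hδ)
      have hfix : ∀ x ∈ R, autFun ξ x = x := fun x hx => by
        have hxW := hge' (Subgroup.mem_sup_left hx)
        rw [hξdef, autFun_mul _ _ hxW, hδe x hxW, hφb x hx, ← hg'e x hx, ← hηe x hxW,
          autFun_inv_apply η hxW]
      refine mulAut_ext fun y hy => ?_
      rw [autFun_one hy]
      obtain ⟨r, hr, c, hc, rfl⟩ := (mem_sup_normalized (fun z hz =>
        (centralizerIn_le_normalizerIn (S := U) R hz).2)).1 (hWeq hy)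
      have hcW : c ∈ W := hge' (Subgroup.mem_sup_right hc)
      have hd : c⁻¹ * autFun ξ c ∈ R := by
        refine hRc.2 R (isConj_refl D hRT) (mem_centralizerIn.2 ⟨?_, fun x hx => ?_⟩)
        · have hcS : c ∈ centralizerIn S R := ⟨hUS hc.1, hc.2⟩
          have h1 := hpowC j c hcS
          rw [← hφdef] at h1
          have hδc : autFun δ c ∈ centralizerIn U R :=
            ⟨(hδe c hcW).symm ▸ (hst c hcW).2, (hδe c hcW).symm ▸ h1.1.2⟩
          have hi : ∀ z ∈ centralizerIn U R, autFun η⁻¹ z ∈ centralizerIn U R ∧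
              z⁻¹ * autFun η⁻¹ z ∈ T₁ ⊓ T₂ := by
            intro z hz
            have hzW : z ∈ W := hge' (Subgroup.mem_sup_right hz)
            have hm := (Fus.mem_autGroup (F := E) inf_le_right).1 (inv_mem hη)
            have hηR : fimg (autFun η⁻¹) R = R := by
              rw [fimg_congr fun x hx => show autFun η⁻¹ x = autFun b⁻¹ x by
                have hy := autFun_mem b⁻¹ hx
                have h : autFun η (autFun b⁻¹ x) = x := by
                  rw [hηe _ (hge' (Subgroup.mem_sup_left hy)), hg'e _ hy, ← autFun_mul _ _ hx,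
                    mul_inv_cancel, autFun_one hx]
                conv_lhs => rw [← h]
                exact autFun_inv_apply η (hge' (Subgroup.mem_sup_left hy)), fimg_autFun]
            have h3 := hm.map_centralizerIn
              ((le_inf hRP (hRT.trans hTU) : R ≤ W)) hzW hz.2
            rw [hηR] at h3
            refine ⟨h3, ?_⟩
            have h4 := hg'c _ h3
            rw [← hηe _ (autFun_mem _ hzW), ← autFun_mul _ _ hzW, mul_inv_cancel,
              autFun_one hzW] at h4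
            simpa using (T₁ ⊓ T₂).inv_mem h4
          rw [hξdef, autFun_mul _ _ hcW, show c⁻¹ * autFun η⁻¹ (autFun δ c) =
            c⁻¹ * autFun δ c * ((autFun δ c)⁻¹ * autFun η⁻¹ (autFun δ c)) by group]
          exact Subgroup.mul_mem _ ((hδe c hcW).symm ▸ h1.2) (hi _ hδc).2
        · have hfR : fimg (autFun ξ) R = R := (fimg_congr hfix).trans (fimg_id R)
          have h5 := hξm.map_centralizerIn (le_inf hRP (hRT.trans hTU) : R ≤ W) hcW hc.2
          rw [hfR] at h5
          have e1 := (mem_centralizerIn.1 hc).2 x hx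
          have e2 := (mem_centralizerIn.1 h5).2 x hx
          calc x * (c⁻¹ * autFun ξ c) = c⁻¹ * (c * x) * (c⁻¹ * autFun ξ c) := by group
            _ = c⁻¹ * (x * autFun ξ c) := by rw [← e1]; group
            _ = c⁻¹ * autFun ξ c * x := by rw [e2]; group
      have hrW : r ∈ W := hge' (Subgroup.mem_sup_left hr)
      have key : ∀ i : ℕ, autFun (ξ ^ i) (r * c) = r * c * (c⁻¹ * autFun ξ c) ^ i := by
        intro i
        induction i with
        | zero => rw [pow_zero, autFun_one hy, pow_zero, mul_one]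
        | succ i ih =>
          have hdi : (c⁻¹ * autFun ξ c) ^ i ∈ R := R.pow_mem hd i
          rw [pow_succ', autFun_mul _ _ hy, ih,
            hξm.map_mul hy (hge' (Subgroup.mem_sup_left hdi)), hfix _ hdi,
            hξm.map_mul hrW hcW, hfix r hr, pow_succ']
          simp only [mul_assoc, mul_inv_cancel_left]
      have h4 : (⟨_, hd⟩ : R) ^ Nat.card R = 1 := pow_card_eq_one'
      rw [key, show (c⁻¹ * autFun ξ c) ^ Nat.card R = 1 from congrArg Subtype.val h4, mul_one]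
    exact ⟨δ, mem_of_pow_diff hE.1.2.2 inf_le_right hδ hη hn' hδn hξ, hδe⟩
  have hφR : ∀ x ∈ R, autFun φ x ∈ R ∧ autFun φ⁻¹ x ∈ R := fun x hx => by
    refine ⟨hφb x hx ▸ autFun_mem b hx, ?_⟩
    have hy := autFun_mem b⁻¹ hx
    have h : autFun φ (autFun b⁻¹ x) = x := by
      rw [hφb _ hy, ← autFun_mul _ _ hx, mul_inv_cancel, autFun_one hx]
    rw [← h, autFun_inv_apply φ (hRP hy)]
    exact hy
  exact ⟨φ, ⟨hφ, hφR, fun c hc => (hpowC j c hc).2, inE d.n₁ h₁ inf_le_left,
    inE d.n₂ h₂ inf_le_right⟩, hφb⟩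

/-- Every subsystem normal everywhere is contained in the intersection system. -/
theorem le_interSys {D : FusionSystem (T₁ ⊓ T₂)} (hF' : D.IsNormalIn F p)
    (h₁ : D.IsNormalIn E₁ p) (h₂ : D.IsNormalIn E₂ p) : D.IsSubsystemOf (interSys d) := by
  have hT := closed d
  have hinv := hF'.1.2.2
  haveI : Finite ↥(T₁ ⊓ T₂) := finite_of_le hT.1
  have hTp := d.pG.to_le hT.1
  have tcen : ∀ {R : Subgroup Ω}, D.IsCentric R → TCen F (T₁ ⊓ T₂) R := by
    intro R hR
    refine ⟨hR.1, fun Q hQ => ?_⟩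
    obtain ⟨f, hf, rfl⟩ := isConj_iff.1 hQ
    exact (InvClass.centric_transport hinv hR hf).2 _
      (isConj_refl D (InvClass.centric_transport hinv hR hf).1)
  have core : ∀ {R : Subgroup Ω}, D.IsCentric R → D.autGroup R ≤ Mf d R := by
    intro R hR α hα
    have hRT := tcen hR
    have hRS := le_S d hRT
    obtain ⟨R₀, hR₀, hn⟩ := exists_fullyNormalized F hRS
    obtain ⟨v, hv, rfl⟩ := isConj_iff.1 hR₀
    obtain ⟨e, he, -⟩ := exists_mulEquiv hv rfl
    have hR₀c := InvClass.centric_transport hinv hR hv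
    have hR₀t := tcen hR₀c
    have hD₀ := InvClass.congr_autGroup hinv hR.1 hv rfl e he hα
    have hM : D.autGroup (fimg v R) ≤ Mf d (fimg v R) := by
      haveI := finite_of_le hn.1
      obtain ⟨-, W, hW⟩ := fullyAutomized_of_fullyNormalized hTp hF'.1.1
        (InvExt.fullyNormalized_sub d.pG d.sat hT hinv.1 hR₀c.1 hn)
      have htop := Transfer.sylow_sup_pResidual W
      rw [hW] at htop
      intro a ha
      have hsub : (⊤ : Subgroup (D.autGroup (fimg v R))) ≤
          (Mf d (fimg v R)).subgroupOf (D.autGroup (fimg v R)) := by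
        rw [← htop]
        refine sup_le (fun z hz => (maps d).inn hR₀t hz) ?_
        rw [pResidual, Subgroup.closure_le]
        intro z hz
        have ho : (orderOf (z : MulAut (fimg v R))).Coprime p := by
          rwa [Subgroup.orderOf_coe]
        exact Mf_of_lft d hR₀t (fullyCentralized_of_fullyNormalized d.pG d.sat hn)
          (lft_of_normal d hF' h₁ h₂ hR₀c hn z.2 ho) ho
      exact hsub (Subgroup.mem_top (⟨a, ha⟩ : D.autGroup (fimg v R)))
    obtain ⟨g, hg, hg1, -, hgR⟩ := hv.exists_inv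
    have := Mf_congr d hg hgR e.symm (fun y => by
      obtain ⟨z, rfl⟩ := e.surjective y
      rw [MulEquiv.symm_apply_apply, he, hg1 z z.2]) (hM hD₀)
    convert this using 1
    exact MulEquiv.ext fun _ => by simp [MulAut.congr]
  intro P φ hφ
  refine mem_hom_iff.2 ((isMap_sys (maps d)).2 ?_)
  refine alperin hTp hF'.1.1 (fun P f => Gen F (T₁ ⊓ T₂) (fun R => Mf d R) P f)
    (fun P f g h he => h.congr fun x hx => (he x hx).symm)
    (fun P Q f g _ _ hm h1 h2 => .comp h1 h2 hm fun _ _ => rfl)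
    (fun P Q f _ hle h => h.res hle) (fun α hα => ?_) (fun P hP α hα => ?_) (isMap_toFun hφ)
  · exact .aut (tCen_self hT) (core (centric_self D) hα) le_rfl fun _ _ => rfl
  · exact .aut (tcen hP.1) (core hP.1 hα) le_rfl fun _ _ => rfl

end Cfsg.Agent.Fus.Inter
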