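import Cfsg.Agent.Lib.Fus.CommExtend
import Cfsg.Agent.Lib.Fus.InterNormal

/-!
A normal subsystem over `U` and a strongly closed `T`: automorphisms of order prime to `p` fixing
`T ⊓ U` commute with the conjugations by `T`, and fix `T` when it centralizes their source.
-/

set_option autoImplicit false
set_option linter.style.haveILetI false
set_option linter.unusedSectionVars false

open scoped Classical

universe u

namespace Cfsg.Agent.Fus.Comm

open Subgroup FusionSystem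

variable {Ω : Type u} [Group Ω] {S U T : Subgroup Ω} {F : FusionSystem S} {E : FusionSystem U}
  {p : ℕ} [Finite S] [Fact p.Prime]

/-- A normal subsystem over `U` and a strongly closed `T`. -/
structure Act (F : FusionSystem S) (p : ℕ) (E : FusionSystem U) (T : Subgroup Ω) : Prop where
  pG : IsPGroup p S
  sat : F.IsSaturated p
  nE : E.IsNormalIn F p
  scT : F.StronglyClosed T

variable (d : Act F p E T)
include d

theorem Act.scU : F.StronglyClosed U := d.nE.1.2.2.2.1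

/-- `T` normalizes the subgroups of `U` above `T ⊓ U`. -/
theorem Act.normalizes {R : Subgroup Ω} (hR : R ≤ U) (hW : T ⊓ U ≤ R) :
    T ≤ normalizerIn S R := by
  have key : ∀ k ∈ T, ∀ r ∈ R, k * r * k⁻¹ ∈ R := fun k hk r hr => by
    have h : k * r * k⁻¹ * r⁻¹ ∈ T ⊓ U := by
      refine ⟨?_, U.mul_mem (StronglyClosed.conj_mem' d.scU (d.scT.1 hk) (hR hr)) (U.inv_mem (hR hr))⟩
      rw [show k * r * k⁻¹ * r⁻¹ = k * (r * k⁻¹ * r⁻¹) by group]
      exact T.mul_mem hk (StronglyClosed.conj_mem' d.scT (d.scU.1 (hR hr)) (T.inv_mem hk))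
    rw [show k * r * k⁻¹ = k * r * k⁻¹ * r⁻¹ * r by group]
    exact R.mul_mem (hW h) hr
  exact fun k hk => ⟨d.scT.1 hk, mem_normalizer_of_forall (key k hk) fun r hr => by
    simpa using key k⁻¹ (T.inv_mem hk) r hr⟩

omit d in
/-- An automorphism fixing `Q` and trivial modulo it has `p`-power order. -/
theorem isPGroup_stab {R Q : Subgroup Ω} (hS : IsPGroup p R) [Finite R] (_hQR : Q ≤ R) :
    IsPGroup p (Gam Q Q R) := fun γ => by
  obtain ⟨a, ha⟩ := hS.exists_card_eq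
  refine ⟨a, Subtype.ext (MulEquiv.ext fun y => ?_)⟩
  obtain ⟨w, hw⟩ : ∃ w, w = y⁻¹ * (γ : MulAut R) y := ⟨_, rfl⟩
  have hwQ : (w : Ω) ∈ Q := by rw [hw]; exact γ.2.1 y
  have hfix : (γ : MulAut R) w = w := γ.2.2 w hwQ
  have hit : ∀ n : ℕ, ((γ : MulAut R) ^ n) y = y * w ^ n := by
    intro n
    induction n with
    | zero => simp
    | succ n ih =>
      rw [pow_succ', MulAut.mul_apply, ih, map_mul, map_pow, hfix, pow_succ',
        show (γ : MulAut R) y = y * w by rw [hw, mul_inv_cancel_left], mul_assoc]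
  rw [SubmonoidClass.coe_pow, hit, show w ^ p ^ a = 1 by rw [← ha]; exact pow_card_eq_one',
    mul_one]
  rfl

/-- A lift of order prime to `p` over the centralizer, trivial modulo the source. -/
theorem Act.exists_lift {R : Subgroup Ω} (hn : F.IsFullyNormalized R) (hc : E.IsCentric R)
    {α : MulAut R} (hα : α ∈ E.autGroup R) {m : ℕ} (hm : m.Coprime p) (hαm : α ^ m = 1)
    (hfix : ∀ x ∈ R, x ∈ T → autFun α x = x) (hW : T ⊓ U ≤ R) :
    ∃ g, IsMap F (R ⊔ centralizerIn S R) g ∧ (∀ x ∈ R, g x = autFun α x) ∧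
      (∀ t ∈ T, t ∈ R ⊔ centralizerIn S R → g t = t) ∧
      ∀ x ∈ R ⊔ centralizerIn S R, x⁻¹ * g x ∈ U := by
  have hRS := hn.1
  have hX : R ⊔ centralizerIn S R ≤ S := sup_le hRS inf_le_left
  haveI := finite_of_le hX
  obtain ⟨g, hg, hge, hgc⟩ := InvExt.exists_triv d.pG d.sat d.nE hc hn hα
  obtain ⟨φ₀, hφ₀, hφ₀e⟩ := hg.exists_aut (InvExt.fimg_sup_centralizer hRS hg hge)
  obtain ⟨j, n, hn', hφn, hbj⟩ := InvExt.exists_coprime_power (p := p) φ₀ hm hαm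
  have hφm : ∀ i : ℕ, IsMap F (R ⊔ centralizerIn S R) (autFun (φ₀ ^ i)) := fun i =>
    (Fus.mem_autGroup hX).1 (pow_mem hφ₀ i)
  have hRX : R ≤ R ⊔ centralizerIn S R := le_sup_left
  have hφR : ∀ i : ℕ, ∀ x ∈ R, autFun (φ₀ ^ i) x = autFun (α ^ i) x := fun i x hx =>
    (InvMap.autFun_pow_eqOn hRX (fun y hy => by rw [hφ₀e y (hRX hy), hge y hy]) i x hx).symm
  have hmod : ∀ x ∈ R ⊔ centralizerIn S R, x⁻¹ * autFun φ₀ x ∈ U := by
    intro x hx
    obtain ⟨r, hr, c, hc', rfl⟩ := (InvMap.mem_sup_normalized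
      (fun z hz => (centralizerIn_le_normalizerIn R hz).2)).1 hx
    have hrX := hRX hr
    have hcX : c ∈ R ⊔ centralizerIn S R := Subgroup.mem_sup_right hc'
    have h1 : r⁻¹ * autFun φ₀ r ∈ U := by
      rw [hφ₀e r hrX, hge r hr]
      exact U.mul_mem (U.inv_mem (hc.1 hr)) (hc.1 (autFun_mem α hr))
    have h2 : c⁻¹ * autFun φ₀ c ∈ U := by rw [hφ₀e c hcX]; exact hgc c hc'
    rw [((Fus.mem_autGroup hX).1 hφ₀).map_mul hrX hcX,
      show (r * c)⁻¹ * (autFun φ₀ r * autFun φ₀ c) =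
        c⁻¹ * (r⁻¹ * autFun φ₀ r) * (c⁻¹)⁻¹ * (c⁻¹ * autFun φ₀ c) by group]
    exact U.mul_mem (StronglyClosed.conj_mem' d.scU (S.inv_mem hc'.1) h1) h2
  have hmodj : ∀ i : ℕ, ∀ x ∈ R ⊔ centralizerIn S R, x⁻¹ * autFun (φ₀ ^ i) x ∈ U := by
    intro i
    induction i with
    | zero => intro x hx; rw [pow_zero, autFun_one hx, inv_mul_cancel]; exact U.one_mem
    | succ i ih =>
      intro x hx
      rw [pow_succ', autFun_mul _ _ hx]
      have := U.mul_mem (ih x hx) (hmod _ (autFun_mem (φ₀ ^ i) hx))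
      rwa [mul_assoc, mul_inv_cancel_left] at this
  refine ⟨autFun (φ₀ ^ j), hφm j, fun x hx => by rw [hφR j x hx, hbj], fun t ht htX => ?_,
    hmodj j⟩
  have hst : autFun (φ₀ ^ j) t ∈ T :=
    StronglyClosed.apply_mem d.scT ((hφm j).res inf_le_left) inf_le_right ⟨htX, ht⟩
  obtain ⟨w, hw⟩ : ∃ w, w = t⁻¹ * autFun (φ₀ ^ j) t := ⟨_, rfl⟩
  have hwW : w ∈ T ⊓ U := hw ▸ ⟨T.mul_mem (T.inv_mem ht) hst, hmodj j t htX⟩
  have hwX : w ∈ R ⊔ centralizerIn S R := hRX (hW hwW)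
  have hwfix : autFun (φ₀ ^ j) w = w := by
    rw [hφR j w (hW hwW), hbj, hfix w (hW hwW) hwW.1]
  have he : autFun (φ₀ ^ j) t = t * w := by rw [hw, mul_inv_cancel_left]
  have hit : ∀ i : ℕ, autFun ((φ₀ ^ j) ^ i) t = t * w ^ i := by
    intro i
    induction i with
    | zero => rw [pow_zero, autFun_one htX, pow_zero, mul_one]
    | succ i ih =>
      have hwi : w ^ i ∈ R ⊔ centralizerIn S R := pow_mem hwX i
      have hfixi : autFun (φ₀ ^ j) (w ^ i) = w ^ i := by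
        rw [hφR j _ (R.pow_mem (hW hwW) i), hbj, hfix _ (R.pow_mem (hW hwW) i) (T.pow_mem hwW.1 i)]
      rw [pow_succ', autFun_mul _ _ htX, ih, (hφm j).map_mul htX hwi, he, hfixi, pow_succ',
        mul_assoc]
  have hwn : w ^ n = 1 := by
    have := hit n
    rw [hφn, autFun_one htX] at this
    exact left_eq_mul.1 this
  obtain ⟨a, ha⟩ := d.pG ⟨w, hX hwX⟩
  have hw1 : w = 1 := InvExt.eq_one_of_coprime_pow (p := p) hn' (congrArg Subtype.val ha :) hwn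
  rw [he, hw1, mul_one]

/-- Transport of a map centralizing modulo conjugation: `T` and a fully normalized conjugate. -/
theorem Act.transport {R : Subgroup Ω} (hc : E.IsCentric R) (hW : T ⊓ U ≤ R)
    {α : MulAut R} (hα : α ∈ E.autGroup R) {m : ℕ} (hαm : α ^ m = 1)
    (hfix : ∀ x ∈ R, x ∈ T → autFun α x = x) :
    ∃ (R₀ : Subgroup Ω) (v : Ω → Ω) (α₀ : MulAut R₀), F.IsFullyNormalized R₀ ∧ E.IsCentric R₀ ∧
      T ⊓ U ≤ R₀ ∧ IsMap F (normalizerIn S R) v ∧ fimg v R = R₀ ∧ α₀ ∈ E.autGroup R₀ ∧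
      α₀ ^ m = 1 ∧ (∀ x ∈ R₀, x ∈ T → autFun α₀ x = x) ∧
      ∀ x ∈ R, autFun α₀ (v x) = v (autFun α x) := by
  have hRU := hc.1
  have hRS := hRU.trans d.scU.1
  obtain ⟨R₀, hR₀, hn⟩ := exists_fullyNormalized F hRS
  obtain ⟨v, hv, hvR, -⟩ := exists_map_to_fullyNormalized d.pG d.sat hn hR₀
  have hvR' := hv.res (le_normalizerIn hRS)
  obtain ⟨e, he, -⟩ := exists_mulEquiv hvR' hvR
  have hWsc : F.StronglyClosed (T ⊓ U) := stronglyClosed_inf d.scT d.scU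
  haveI := finite_of_le hWsc.1
  have hvW : fimg v (T ⊓ U) = T ⊓ U := fimg_stronglyClosed hWsc (hvR'.res hW) le_rfl
  refine ⟨R₀, v, MulAut.congr e α, hn, hvR ▸ InvClass.centric_transport d.nE.1.2.2 hc hvR',
    hvR ▸ hvW.ge.trans (fimg_mono v hW), hv, hvR,
    InvClass.congr_autGroup d.nE.1.2.2 hRU hvR' hvR e he hα, by rw [← map_pow, hαm, map_one],
    fun x hx hxT => ?_, fun x hx => InvMap.autFun_congr e he α hx⟩
  obtain ⟨z, hz, rfl⟩ := hvR'.mem_fimg_iff.1 (hvR.ge hx)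
  have h0 : v z ∈ T ⊓ U := ⟨hxT, (InvClass.centric_transport d.nE.1.2.2 hc hvR').1
    (apply_mem_fimg v hz)⟩
  obtain ⟨w, hw, hwe⟩ := (hvR'.res hW).mem_fimg_iff.1 (hvW.ge h0)
  obtain rfl := hvR'.injOn (hW hw) hz hwe
  rw [InvMap.autFun_congr e he α hz, hfix w hz hw.1]

/-- Automorphisms of order prime to `p` fixing `T ⊓ U` commute with the conjugations by `T`. -/
theorem Act.comm_aut : ∀ {R : Subgroup Ω}, E.IsCentric R → T ⊓ U ≤ R → ∀ {α : MulAut R},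
    α ∈ E.autGroup R → ∀ {m : ℕ}, m.Coprime p → α ^ m = 1 →
    (∀ x ∈ R, x ∈ T → autFun α x = x) →
    ∀ k ∈ T, ∀ x ∈ R, autFun α (k * x * k⁻¹) = k * autFun α x * k⁻¹ := by
  have hUS := d.scU.1
  haveI : Finite U := finite_of_le hUS
  have hUp := d.pG.to_le hUS
  intro R
  induction hn : Nat.card U - Nat.card R using Nat.strong_induction_on generalizing R with
  | _ n ih =>
  intro hc hW α hα m hm hαm hfix
  obtain ⟨R₀, v, α₀, hn₀, hc₀, hW₀, hv, hvR, hα₀, hα₀m, hfix₀, hv₀⟩ :=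
    d.transport hc hW hα hαm hfix
  suffices main : ∀ k ∈ T, ∀ x ∈ R₀, autFun α₀ (k * x * k⁻¹) = k * autFun α₀ x * k⁻¹ by
    intro k hk x hx
    have hRS := hc.1.trans hUS
    have hkN : k ∈ normalizerIn S R := d.normalizes hc.1 hW hk
    have hle := le_normalizerIn hRS (S := S)
    have hkx := (Subgroup.mem_normalizer_iff.1 hkN.2 x).1 hx
    have hvk : v k ∈ T := StronglyClosed.apply_mem d.scT (hv.res (d.normalizes hc.1 hW)) le_rfl hk
    have h := main _ hvk _ (hvR ▸ apply_mem_fimg v hx)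
    rw [← hv.map_conj hkN (hle hx), hv₀ _ hkx, hv₀ x hx,
      ← hv.map_conj hkN (hle (autFun_mem α hx))] at h
    exact hv.injOn (hle (autFun_mem α hkx))
      ((normalizerIn S R).mul_mem ((normalizerIn S R).mul_mem hkN (hle (autFun_mem α hx)))
        ((normalizerIn S R).inv_mem hkN)) h
  have hR₀U := hc₀.1
  have hR₀S := hn₀.1
  haveI := finite_of_le hR₀S
  have hcard : Nat.card R₀ = Nat.card R := by
    rw [← hvR]
    exact (hv.res (le_normalizerIn (hc.1.trans hUS))).card_fimg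
  have hnE := InvExt.fullyNormalized_sub d.pG d.sat d.scU d.nE.1.2.2.1 hR₀U hn₀
  have hWE : E.StronglyClosed (T ⊓ U) := stronglyClosed_of_forall inf_le_right fun X hX f hf x hx =>
    StronglyClosed.apply_mem (stronglyClosed_inf d.scT d.scU) (hf.mono d.nE.1.2.2.1) hX hx
  let L : Subgroup (E.autGroup R₀) := (Gam (T ⊓ U) (T ⊓ U) R₀).subgroupOf (E.autGroup R₀)
  haveI hLn : L.Normal := ⟨fun a ha b => Gam.conj_mem hWE hWE hR₀U b.2 ha⟩
  have hLp : IsPGroup p L := IsPGroup.comap_subtype (isPGroup_stab (hUp.to_le hR₀U) hW₀)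
  obtain ⟨-, P₀, hP₀⟩ := fullyAutomized_of_fullyNormalized hUp d.nE.1.1 hnE
  have hLU : ∀ γ ∈ E.autGroup R₀, γ ∈ Gam (T ⊓ U) (T ⊓ U) R₀ → γ ∈ autInducedBy U R₀ := by
    intro γ hγ hγL
    obtain ⟨P₁, hP₁⟩ := hLp.exists_le_sylow
    obtain ⟨g, hg⟩ := MulAction.exists_smul_eq (E.autGroup R₀) P₁ P₀
    have h1 : g⁻¹ * ⟨γ, hγ⟩ * g⁻¹⁻¹ ∈ (P₁ : Subgroup (E.autGroup R₀)) :=
      hP₁ (hLn.conj_mem ⟨γ, hγ⟩ hγL g⁻¹)
    have h2 : (⟨γ, hγ⟩ : E.autGroup R₀) ∈ (P₀ : Subgroup (E.autGroup R₀)) := by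
      rw [← hg]
      exact ⟨_, h1, by simp [mul_assoc]⟩
    rw [hP₀] at h2
    exact h2
  by_cases hbig : ∃ u ∈ normalizerIn U R₀, u ∉ R₀ ∧
      ∀ y ∈ R₀, y⁻¹ * (u * y * u⁻¹) ∈ T ⊓ U ∧ (y ∈ T → u * y * u⁻¹ = y)
  · -- the automorphism extends to a larger subgroup
    let M : Subgroup Ω := ((Gam (T ⊓ U) (T ⊓ U) R₀).comap R₀.normalizerMonoidHom).map
      (Subgroup.normalizer (R₀ : Set Ω)).subtype ⊓ U
    have hM : ∀ {u : Ω}, u ∈ M ↔ u ∈ U ∧ ∃ h : u ∈ Subgroup.normalizer (R₀ : Set Ω),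
        R₀.normalizerMonoidHom ⟨u, h⟩ ∈ Gam (T ⊓ U) (T ⊓ U) R₀ := fun {u} =>
      ⟨fun ⟨⟨z, hz, e⟩, hu⟩ => ⟨hu, e ▸ z.2, by subst e; exact hz⟩,
        fun ⟨hu, h, hg⟩ => ⟨⟨⟨u, h⟩, hg, rfl⟩, hu⟩⟩
    have hR'U : R₀ ⊔ M ≤ U := sup_le hR₀U inf_le_right
    have hlt : R₀ < R₀ ⊔ M := lt_of_le_of_ne le_sup_left fun e => by
      obtain ⟨u, hu, huR, hue⟩ := hbig
      refine huR (e.ge (Subgroup.mem_sup_right (hM.2 ⟨hu.1, hu.2, fun y => (hue y y.2).1,
        fun y hy => Subtype.ext ((hue y y.2).2 hy.1)⟩)))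
    have hαm' := (mem_autGroup hR₀U).1 hα₀
    have key : ∀ u ∈ M, ∃ h ∈ U, ∀ x ∈ R₀,
        autFun α₀ (u * x * u⁻¹) = h * autFun α₀ x * h⁻¹ ∧
          ∀ hh : h ∈ Subgroup.normalizer (R₀ : Set Ω),
            R₀.normalizerMonoidHom ⟨h, hh⟩ ∈ Gam (T ⊓ U) (T ⊓ U) R₀ := by
      intro u hu
      obtain ⟨huU, hun, hug⟩ := hM.1 hu
      set c := R₀.normalizerMonoidHom ⟨u, hun⟩ with hc
      have hcE : c ∈ E.autGroup R₀ := autInducedBy_le_autGroup E hR₀U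
        (mem_autInducedBy.2 ⟨u, huU, fun x => rfl⟩)
      have hc'G := Gam.conj_mem hWE hWE hR₀U hα₀ hug
      obtain ⟨h, hh, hhe⟩ := mem_autInducedBy.1
        (hLU _ (mul_mem (mul_mem hα₀ hcE) (inv_mem hα₀)) hc'G)
      refine ⟨h, hh, fun x hx => ⟨?_, fun hhn => ?_⟩⟩
      · have := hhe (α₀ ⟨x, hx⟩)
        rw [MulAut.mul_apply, MulAut.mul_apply, MulAut.inv_apply_self] at this
        rw [show autFun α₀ x = ((α₀ ⟨x, hx⟩ : R₀) : Ω) from autFun_coe α₀ ⟨x, hx⟩]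
        exact (autFun_coe α₀ (c ⟨x, hx⟩)).trans this
      · have e : R₀.normalizerMonoidHom ⟨h, hhn⟩ = α₀ * c * α₀⁻¹ :=
          MulEquiv.ext fun y => Subtype.ext (hhe y).symm
        rw [e]
        exact hc'G
    obtain ⟨g, hg, hge⟩ := receptive_extend (receptive_of_fullyNormalized hUp d.nE.1.1 hnE) hαm'
      (fimg_autFun α₀) (N := R₀ ⊔ M) (fun z hz => by
        obtain ⟨r, hr, u, hu, rfl⟩ := (InvMap.mem_sup_normalized
          (fun z hz => (hM.1 hz).2.1)).1 hz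
        obtain ⟨h, hh, hhe⟩ := key u hu
        have hun := (hM.1 hu).2.1
        refine ⟨⟨U.mul_mem (hR₀U hr) (hM.1 hu).1,
          Subgroup.mul_mem _ (Subgroup.le_normalizer hr) hun⟩, autFun α₀ r * h,
          U.mul_mem (hR₀U (autFun_mem α₀ hr)) hh, fun x hx => ?_⟩
        rw [show r * u * x * (r * u)⁻¹ = r * (u * x * u⁻¹) * r⁻¹ by group,
          hαm'.map_conj hr ((Subgroup.mem_normalizer_iff.1 hun x).1 hx), (hhe x hx).1]
        group) le_sup_left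
    haveI := finite_of_le (hR'U.trans hUS)
    have hgR : fimg g R₀ = R₀ := (fimg_congr hge).trans (fimg_autFun α₀)
    have himg : fimg g (R₀ ⊔ M) = R₀ ⊔ M := by
      refine Subgroup.eq_of_le_of_card_ge ?_ hg.card_fimg.ge
      rw [hg.fimg_sup, hgR]
      refine sup_le_sup_left (fimg_le fun u hu => ?_) _
      have hun := (hM.1 hu).2.1
      have hgn := hg.map_normalizerIn le_sup_left (Subgroup.mem_sup_right hu) hun
      rw [hgR] at hgn
      obtain ⟨h, hh, hhe⟩ := key u hu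
      have hgc : ∀ x ∈ R₀, autFun α₀ (u * x * u⁻¹) = g u * autFun α₀ x * (g u)⁻¹ := fun x hx => by
        have hux := (Subgroup.mem_normalizer_iff.1 hun x).1 hx
        rw [← hge _ hux, ← hge x hx]
        exact hg.map_conj (Subgroup.mem_sup_right hu) (Subgroup.mem_sup_left hx)
      refine hM.2 ⟨hgn.1, hgn.2, ?_⟩
      have e : ∀ y ∈ R₀, g u * y * (g u)⁻¹ = h * y * h⁻¹ := fun y hy => by
        have hy' := autFun_mem α₀⁻¹ hy
        have := (hgc _ hy').symm.trans (hhe _ hy').1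
        rwa [← autFun_mul _ _ hy, mul_inv_cancel, autFun_one hy] at this
      have hhn : h ∈ Subgroup.normalizer (R₀ : Set Ω) := mem_normalizer_of_conj_aut
        (α := R₀.normalizerMonoidHom ⟨g u, hgn.2⟩) fun y => e y y.2
      rw [show R₀.normalizerMonoidHom ⟨g u, hgn.2⟩ = R₀.normalizerMonoidHom ⟨h, hhn⟩ from
        MulEquiv.ext fun y => Subtype.ext (e y y.2)]
      exact (hhe 1 R₀.one_mem).2 hhn
    obtain ⟨α₁, hα₁, hα₁e⟩ := hg.exists_aut himg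
    obtain ⟨j, n', hn', hjn, hj⟩ := InvExt.exists_coprime_power (p := p) α₁ hm hα₀m
    have hext : ∀ x ∈ R₀, autFun (α₁ ^ j) x = autFun α₀ x := fun x hx => by
      rw [← InvMap.autFun_pow_eqOn le_sup_left (fun y hy => by
        rw [hα₁e y (Subgroup.mem_sup_left hy), hge y hy]) j x hx, hj]
    have hlt2 := card_lt_of_lt hlt
    have := Subgroup.card_le_of_le hR'U
    have hres := ih _ (by omega) rfl (centric_mono hc₀ le_sup_left hR'U)
      (hW₀.trans le_sup_left) (pow_mem hα₁ j) hn' hjn fun x hx hxT => by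
        have hx₀ : x ∈ R₀ := hW₀ ⟨hxT, hR'U hx⟩
        rw [hext x hx₀, hfix₀ x hx₀ hxT]
    intro k hk x hx
    have hkx := (Subgroup.mem_normalizer_iff.1 (d.normalizes hR₀U hW₀ hk).2 x).1 hx
    rw [← hext _ hkx, ← hext x hx]
    exact hres k hk x (Subgroup.mem_sup_left hx)
  · -- the conjugates differ by inner automorphisms, which are centralized
    obtain ⟨b, hb, hbR, hbT, -⟩ := d.exists_lift hn₀ hc₀ hα₀ hm hα₀m hfix₀ hW₀
    intro k hk
    have hkN := d.normalizes hR₀U hW₀ hk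
    set c : MulAut R₀ := R₀.normalizerMonoidHom ⟨k, hkN.2⟩ with hcdef
    have hcF : c ∈ F.autGroup R₀ := autInducedBy_le_autGroup F hR₀S
      (mem_autInducedBy.2 ⟨k, hkN.1, fun x => rfl⟩)
    obtain ⟨δ, hδ⟩ : ∃ δ, δ = α₀ * c * α₀⁻¹ * c⁻¹ := ⟨_, rfl⟩
    have hδE : δ ∈ E.autGroup R₀ := by
      rw [hδ, mul_assoc α₀, mul_assoc α₀]
      exact mul_mem hα₀ (autGroup_conj_mem d.nE.1.2.2 hR₀U hcF (inv_mem hα₀))
    have hcmod : c ∈ Gam (T ⊓ U) ⊥ R₀ := by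
      refine ⟨fun y => ⟨?_, U.mul_mem (U.inv_mem (hR₀U y.2))
        (StronglyClosed.conj_mem' d.scU hkN.1 (hR₀U y.2))⟩, fun y hy => ?_⟩
      · show (y : Ω)⁻¹ * (k * y * k⁻¹) ∈ T
        rw [show (y : Ω)⁻¹ * (k * y * k⁻¹) = (y : Ω)⁻¹ * k * ((y : Ω)⁻¹)⁻¹ * k⁻¹ by group]
        exact T.mul_mem (StronglyClosed.conj_mem' d.scT (S.inv_mem (hR₀S y.2)) hk) (T.inv_mem hk)
      · rw [show y = 1 from Subtype.ext (Subgroup.mem_bot.1 hy), map_one]
    have hbot : E.StronglyClosed ⊥ := stronglyClosed_of_isNormal (isNormal_bot E)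
    have hδG : δ ∈ Gam (T ⊓ U) (T ⊓ U) R₀ := by
      rw [hδ]
      refine ⟨(mul_mem (Gam.conj_mem hWE hbot hR₀U hα₀ hcmod) (inv_mem hcmod) :
        α₀ * c * α₀⁻¹ * c⁻¹ ∈ Gam (T ⊓ U) ⊥ R₀).1, fun y hy => ?_⟩
      have hf : ∀ z : R₀, (z : Ω) ∈ T ⊓ U → α₀ z = z := fun z hz => Subtype.ext <| by
        rw [← autFun_coe]; exact hfix₀ z z.2 hz.1
      have hf' : ∀ z : R₀, (z : Ω) ∈ T ⊓ U → α₀⁻¹ z = z := fun z hz => by
        conv_lhs => rw [← hf z hz]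
        rw [MulAut.inv_apply_self]
      have hy' : ((c⁻¹ y : R₀) : Ω) ∈ T ⊓ U := by
        have := (inv_mem hcmod : c⁻¹ ∈ Gam (T ⊓ U) ⊥ R₀).1 y
        have h2 := Subgroup.mul_mem _ hy this
        rwa [mul_inv_cancel_left] at h2
      show α₀ (c (α₀⁻¹ (c⁻¹ y))) = y
      rw [hf' _ hy', MulAut.apply_inv_self, hf y hy]
    obtain ⟨n, hnU, hne⟩ := mem_autInducedBy.1 (hLU δ hδE hδG)
    have hnR : n ∈ R₀ := by
      by_contra h
      exact hbig ⟨n, ⟨hnU, mem_normalizer_of_conj_aut hne⟩, h, fun y hy =>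
        ⟨hne ⟨y, hy⟩ ▸ hδG.1 ⟨y, hy⟩, fun hyT => by
          rw [← hne ⟨y, hy⟩, hδG.2 ⟨y, hy⟩ ⟨hyT, hR₀U hy⟩]⟩⟩
    -- extend to `k`
    obtain ⟨φ, hφ, hφe⟩ := ((mem_autGroup hR₀S).1 (autGroup_mono d.nE.1.2.2.1 R₀ hα₀)).exists_hom
    have hφa : ∀ x ∈ R₀, toFun φ x = autFun α₀ x := fun x hx =>
      (toFun_apply φ hx).trans (hφe ⟨x, hx⟩)
    have hconj : ∀ x ∈ R₀, autFun α₀ (k * x * k⁻¹) = n * k * autFun α₀ x * (n * k)⁻¹ := by
      intro x hx
      have h := hne (c (α₀ ⟨x, hx⟩))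
      simp only [hδ, MulAut.mul_apply, MulAut.inv_apply_self] at h
      rw [show autFun α₀ x = ((α₀ ⟨x, hx⟩ : R₀) : Ω) from autFun_coe α₀ ⟨x, hx⟩,
        show autFun α₀ (k * x * k⁻¹) = _ from autFun_coe α₀ (c ⟨x, hx⟩), h]
      show n * (k * _ * k⁻¹) * n⁻¹ = _
      group
    obtain ⟨g, hg, hge⟩ := receptive_extend (receptive_of_fullyNormalized d.pG d.sat hn₀)
      (isMap_toFun hφ) ((fimg_congr hφa).trans (fimg_autFun α₀))
      (N := FusionSystem.extender S R₀ φ) (fun z hz => by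
        obtain ⟨h1, h2, h3⟩ := mem_extender.1 hz
        exact ⟨⟨h1, h2⟩, h3⟩) (le_extender hφ)
    have hkM : k ∈ FusionSystem.extender S R₀ φ := by
      refine mem_extender.2 ⟨hkN.1, hkN.2, n * k, S.mul_mem (hR₀S hnR) hkN.1, fun x hx => ?_⟩
      rw [hφa _ ((Subgroup.mem_normalizer_iff.1 hkN.2 x).1 hx), hφa x hx, hconj x hx]
    have hgk : g k ∈ T := StronglyClosed.apply_mem d.scT (hg.res inf_le_left) inf_le_right ⟨hkM, hk⟩
    set t := g k * k⁻¹ with ht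
    have htT : t ∈ T := T.mul_mem hgk (T.inv_mem hk)
    have hte : ∀ y ∈ R₀, t * y * t⁻¹ = n * y * n⁻¹ := by
      intro y hy
      obtain ⟨x, hx, hxe⟩ : ∃ x ∈ R₀, autFun α₀ x = k⁻¹ * y * k := by
        have hky := (Subgroup.mem_normalizer_iff''.1 hkN.2 y).1 hy
        refine ⟨_, autFun_mem α₀⁻¹ hky, ?_⟩
        rw [← autFun_mul _ _ hky, mul_inv_cancel, autFun_one hky]
      have hkx := (Subgroup.mem_normalizer_iff.1 hkN.2 x).1 hx
      have e := hg.map_conj hkM (le_extender hφ hx)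
      rw [hge _ hkx, hge x hx, hφa _ hkx, hφa x hx, hconj x hx, hxe] at e
      calc t * y * t⁻¹ = g k * (k⁻¹ * y * k) * (g k)⁻¹ := by rw [ht]; group
        _ = n * k * (k⁻¹ * y * k) * (n * k)⁻¹ := e.symm
        _ = n * y * n⁻¹ := by group
    have htX : t ∈ R₀ ⊔ centralizerIn S R₀ := by
      rw [show t = n * (n⁻¹ * t) by group]
      refine Subgroup.mul_mem_sup hnR (mem_centralizerIn.2
        ⟨S.mul_mem (S.inv_mem (hR₀S hnR)) (d.scT.1 htT), fun y hy => ?_⟩)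
      calc y * (n⁻¹ * t) = n⁻¹ * (n * y * n⁻¹) * t := by group
        _ = n⁻¹ * (t * y * t⁻¹) * t := by rw [hte y hy]
        _ = n⁻¹ * t * y := by group
    have hcommδ : Commute α₀ δ := by
      refine MulEquiv.ext fun y => Subtype.ext ?_
      show ((α₀ (δ y) : R₀) : Ω) = ((δ (α₀ y) : R₀) : Ω)
      have hyt : t * (y : Ω) * t⁻¹ ∈ R₀ := by
        rw [hte y y.2]
        exact mul_mem (mul_mem hnR y.2) (Subgroup.inv_mem _ hnR)
      rw [hne (α₀ y), ← hte _ (α₀ y).2, ← autFun_coe α₀ (δ y), hne y, ← hte y y.2, ← hbR _ hyt,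
        hb.map_conj htX (Subgroup.mem_sup_left y.2), hbT t htT htX, hbR y y.2, autFun_coe]
    have hit : ∀ i : ℕ, α₀ ^ i * c = δ ^ i * c * α₀ ^ i := by
      intro i
      induction i with
      | zero => simp
      | succ i ih =>
        rw [pow_succ', mul_assoc, ih, show α₀ * (δ ^ i * c * α₀ ^ i) = (α₀ * δ ^ i) * c * α₀ ^ i by
          group, (hcommδ.pow_right i).eq, pow_succ δ i,
          show δ ^ i * δ * c * (α₀ * α₀ ^ i) = δ ^ i * (δ * c * α₀) * α₀ ^ i by group,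
          show δ * c * α₀ = α₀ * c by rw [hδ]; group]
        group
    have hδm : δ ^ m = 1 := by
      have := hit m
      rwa [hα₀m, mul_one, one_mul, right_eq_mul] at this
    obtain ⟨a, ha⟩ := isPGroup_stab (hUp.to_le hR₀U) hW₀ (R := R₀) (Q := T ⊓ U) (p := p) ⟨δ, hδG⟩
    have hδ1 : δ = 1 := InvExt.eq_one_of_coprime_pow (p := p) hm (congrArg Subtype.val ha :) hδm
    intro x hx
    rw [hconj x hx]
    have hy : k * autFun α₀ x * k⁻¹ ∈ R₀ :=
      (Subgroup.mem_normalizer_iff.1 hkN.2 _).1 (autFun_mem α₀ hx)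
    have := hne ⟨_, hy⟩
    rw [hδ1, MulAut.one_apply] at this
    rw [show n * k * autFun α₀ x * (n * k)⁻¹ = n * (k * autFun α₀ x * k⁻¹) * n⁻¹ by group]
    exact this.symm

/-- If `T` centralizes the source, such automorphisms extend fixing `T`. -/
theorem Act.fix_aut {R : Subgroup Ω} (hc : E.IsCentric R) (hW : T ⊓ U ≤ R)
    (hTR : T ≤ centralizerIn S R) {α : MulAut R} (hα : α ∈ E.autGroup R) {m : ℕ}
    (hm : m.Coprime p) (hαm : α ^ m = 1) (hfix : ∀ x ∈ R, x ∈ T → autFun α x = x) :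
    ∃ g, IsMap F (R ⊔ T) g ∧ (∀ x ∈ R, g x = autFun α x) ∧ ∀ t ∈ T, g t = t := by
  obtain ⟨R₀, v, α₀, hn₀, hc₀, hW₀, hv, hvR, hα₀, hα₀m, hfix₀, hv₀⟩ :=
    d.transport hc hW hα hαm hfix
  obtain ⟨b, hb, hbR, hbT, -⟩ := d.exists_lift hn₀ hc₀ hα₀ hm hα₀m hfix₀ hW₀
  have hRS := hc.1.trans d.scU.1
  haveI := finite_of_le d.scT.1
  have hXN : R ⊔ T ≤ normalizerIn S R := sup_le (le_normalizerIn hRS) (d.normalizes hc.1 hW)
  have hvX := hv.res hXN
  have hvT : fimg v T = T := fimg_stronglyClosed d.scT (hvX.res le_sup_right) le_rfl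
  have himg : fimg v (R ⊔ T) = R₀ ⊔ T := by rw [hvX.fimg_sup, hvR, hvT]
  have hT₀ : T ≤ centralizerIn S R₀ := fun t ht => by
    obtain ⟨z, hz, rfl⟩ := (hvX.res le_sup_right).mem_fimg_iff.1 (hvT.ge ht)
    have h := hvX.map_centralizerIn le_sup_left (Subgroup.mem_sup_right hz) (hTR hz).2
    rwa [hvR] at h
  have hb' := hb.res (sup_le_sup_left hT₀ R₀)
  obtain ⟨w, hw, hw1, hw2, -⟩ := hvX.exists_inv
  rw [himg] at hw hw2
  have hmem : ∀ x ∈ R₀ ⊔ T, b x ∈ R₀ ⊔ T := by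
    intro x hx
    have h := apply_mem_fimg b hx
    rwa [hb'.fimg_sup, fimg_congr hbR, fimg_autFun,
      fimg_stronglyClosed d.scT (hb'.res le_sup_right) le_rfl] at h
  refine ⟨_, ((hvX.comp hb' fun x hx => himg ▸ apply_mem_fimg v hx).comp hw fun x hx =>
    hmem _ (himg ▸ apply_mem_fimg v hx)), fun x hx => ?_, fun t ht => ?_⟩
  · show w (b (v x)) = _
    rw [hbR _ (hvR ▸ apply_mem_fimg v hx), hv₀ x hx,
      hw1 _ (Subgroup.mem_sup_left (autFun_mem α hx))]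
  · show w (b (v t)) = t
    have hvt : v t ∈ T := hvT ▸ apply_mem_fimg v ht
    rw [hbT _ hvt (Subgroup.mem_sup_right (hT₀ hvt)), hw1 t (Subgroup.mem_sup_right ht)]

end Cfsg.Agent.Fus.Comm
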