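import Cfsg.Agent.Lib.Fus.CommCenter
import Cfsg.Agent.Lib.Fus.PrimeQuotientMain

/-!
A normal subsystem over `U` and a strongly closed `T`: the automorphisms of order prime to `p` of
subgroups of `U` fixing `T ⊓ U` extend fixing `T`.
-/

set_option autoImplicit false
set_option linter.style.haveILetI false
set_option linter.unusedSectionVars false

open scoped Classical

universe u

namespace Cfsg.Agent.Fus.Comm

open Subgroup FusionSystem FocalCent

variable {Ω : Type u} [Group Ω] {S U T : Subgroup Ω} {F : FusionSystem S} {E : FusionSystem U}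
  {p : ℕ} [Finite S]

/-- A map fixing `T` may be moved along a map defined on the source and `T`. -/
theorem fixes_transport (hT : F.StronglyClosed T) {R : Subgroup Ω} {v f f₀ : Ω → Ω}
    (hv : IsMap F (R ⊔ T) v) (h : Fixes F T (fimg v R) f₀) (hm : ∀ x ∈ R, f x ∈ R)
    (he : ∀ x ∈ R, f₀ (v x) = v (f x)) : Fixes F T R f := by
  obtain ⟨g, hg, hg1, hg2⟩ := h
  haveI := finite_of_le hT.1
  have hvT : fimg v T = T := fimg_stronglyClosed hT (hv.res le_sup_right) le_rfl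
  have himg : fimg v (R ⊔ T) = fimg v R ⊔ T := by rw [hv.fimg_sup, hvT]
  obtain ⟨w, hw, hw1, -, -⟩ := hv.exists_inv
  rw [himg] at hw
  have hv' : ∀ x ∈ R ⊔ T, v x ∈ fimg v R ⊔ T := fun x hx => himg ▸ apply_mem_fimg v hx
  have hgm : ∀ x ∈ fimg v R ⊔ T, g x ∈ fimg v R ⊔ T := by
    refine Fixes.map_mem hg hg1 hg2 fun y hy => ?_
    obtain ⟨x, hx, rfl⟩ := (hv.res le_sup_left).mem_fimg_iff.1 hy
    rw [he x hx]
    exact apply_mem_fimg v (hm x hx)
  refine ⟨_, (hv.comp hg hv').comp hw fun x hx => hgm _ (hv' x hx), fun x hx => ?_,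
    fun t ht => ?_⟩
  · show w (g (v x)) = f x
    rw [hg1 _ (apply_mem_fimg v hx), he x hx, hw1 _ (Subgroup.mem_sup_left (hm x hx))]
  · show w (g (v t)) = t
    rw [hg2 _ (hvT.le (apply_mem_fimg v ht)), hw1 t (Subgroup.mem_sup_right ht)]

omit [Finite S] in
/-- Fixing a group fixes its subgroups. -/
theorem Fixes.mono_fixed {X X' P : Subgroup Ω} {f : Ω → Ω} (h : Fixes F X P f) (hX : X' ≤ X) :
    Fixes F X' P f :=
  let ⟨g, hg, h1, h2⟩ := h
  ⟨g, hg.res (sup_le_sup_left hX P), h1, fun y hy => h2 y (hX hy)⟩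

omit [Finite S] in
/-- Fixing is inherited by the larger system. -/
theorem Fixes.mono_system {X P : Subgroup Ω} {f : Ω → Ω} (h : Fixes E X P f)
    (hE : E.IsSubsystemOf F) : Fixes F X P f :=
  let ⟨g, hg, h1, h2⟩ := h; ⟨g, hg.mono hE, h1, h2⟩

variable [Fact p.Prime] (d : Act F p E T)
include d

/-- Elements fixing a normal subgroup and trivial modulo it, and conjugations by the centralizer,
give the automorphisms induced by the centralizer. -/
theorem Act.exists_centralizer {R : Subgroup Ω} (hn : F.IsFullyNormalized R)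
    {η : MulAut ↥(R ⊔ centralizerIn S R)} (hη : η ∈ F.autGroup (R ⊔ centralizerIn S R))
    (hfix : ∀ x ∈ R, autFun η x = x)
    (hmod : ∀ x ∈ R ⊔ centralizerIn S R, x⁻¹ * autFun η x ∈ R) :
    ∃ z ∈ centralizerIn S R, ∀ x ∈ R ⊔ centralizerIn S R, autFun η x = z * x * z⁻¹ := by
  have hRS := hn.1
  have hXS : R ⊔ centralizerIn S R ≤ S := sup_le hRS inf_le_left
  haveI := finite_of_le hXS
  have hRX : R ≤ R ⊔ centralizerIn S R := le_sup_left
  have hCn : centralizerIn S R ≤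
      Subgroup.normalizer ((R ⊔ centralizerIn S R : Subgroup Ω) : Set Ω) :=
    le_trans le_sup_right Subgroup.le_normalizer
  let K : Subgroup (MulAut ↥(R ⊔ centralizerIn S R)) :=
    Gam R R (R ⊔ centralizerIn S R) ⊓ F.autGroup (R ⊔ centralizerIn S R)
  let A := autInducedBy (centralizerIn S R) (R ⊔ centralizerIn S R)
  have hAF : A ≤ F.autGroup (R ⊔ centralizerIn S R) :=
    le_trans (autInducedBy_mono inf_le_left _) (autInducedBy_le_autGroup F hXS)
  have conjm : ∀ a ∈ A, ∀ γ ∈ K, a * γ * a⁻¹ ∈ K := by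
    intro a ha γ hγ
    refine ⟨?_, Subgroup.mul_mem _ (Subgroup.mul_mem _ (hAF ha) hγ.2) (Subgroup.inv_mem _ (hAF ha))⟩
    obtain ⟨c, hc, hce⟩ := mem_autInducedBy.1 ha
    have hcR : ∀ r ∈ R, c * r * c⁻¹ = r := fun r hr => by
      rw [← hc.2 r hr, mul_inv_cancel_right]
    have hafix : ∀ y : ↥(R ⊔ centralizerIn S R), (y : Ω) ∈ R → a y = y := fun y hy =>
      Subtype.ext ((hce y).trans (hcR y hy))
    refine ⟨fun y => ?_, fun y hy => ?_⟩
    · obtain ⟨z, rfl⟩ : ∃ z, a z = y := ⟨a⁻¹ y, MulAut.apply_inv_self _ a y⟩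
      rw [MulAut.mul_apply, MulAut.mul_apply, MulAut.inv_apply_self, hce, hce,
        show (c * (z : Ω) * c⁻¹)⁻¹ * (c * ((γ : MulAut _) z : Ω) * c⁻¹) =
          c * ((z : Ω)⁻¹ * ((γ : MulAut _) z : Ω)) * c⁻¹ by group, hcR _ (hγ.1.1 z)]
      exact hγ.1.1 z
    · have h1 : a⁻¹ y = y := by
        conv_lhs => rw [← hafix y hy]
        rw [MulAut.inv_apply_self]
      rw [MulAut.mul_apply, MulAut.mul_apply, h1, hγ.1.2 y hy, hafix y hy]
  have hAn : A ≤ Subgroup.normalizer (K : Set (MulAut ↥(R ⊔ centralizerIn S R))) := fun a ha =>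
    mem_normalizer_of_forall (conjm a ha) fun γ hγ => by simpa using conjm a⁻¹ (inv_mem ha) γ hγ
  have hKp : IsPGroup p K :=
    ((isPGroup_stab (d.pG.to_le hXS) hRX).to_le inf_le_left)
  have hAp : IsPGroup p A := isPGroup_autInducedBy (d.pG.to_le inf_le_left) _
  have hsup : IsPGroup p ↥(A ⊔ K : Subgroup _) := hAp.to_sup_of_normal_right' hKp hAn
  have hle := InvMap.fix_group_le d.pG d.sat (fullyCentralized_of_fullyNormalized d.pG d.sat hn)
    hRX hXS hCn (H := A ⊔ K) (sup_le hAF inf_le_right) hsup (fun h hh x hx => by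
      refine (sup_le (fun a ha => ?_) (fun a ha => ?_) :
        A ⊔ K ≤ InvMap.fixers F R _ hRX) hh |>.2 x hx
      · refine ⟨hAF ha, fun y hy => ?_⟩
        obtain ⟨c, hc, hce⟩ := mem_autInducedBy.1 ha
        rw [show autFun a y = ((a ⟨y, hRX hy⟩ : ↥(R ⊔ centralizerIn S R)) : Ω) from
          autFun_coe a ⟨y, hRX hy⟩, hce, ← hc.2 y hy, mul_inv_cancel_right]
      · exact ⟨ha.2, fun y hy => (autFun_coe a ⟨y, hRX hy⟩).trans
          (congrArg Subtype.val (ha.1.2 ⟨y, hRX hy⟩ hy))⟩)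
    le_sup_left
  have hηK : η ∈ K := ⟨⟨fun y => by rw [← autFun_coe]; exact hmod y y.2,
    fun y hy => Subtype.ext (by rw [← autFun_coe]; exact hfix y hy)⟩, hη⟩
  obtain ⟨z, hz, hze⟩ := mem_autInducedBy.1 (hle (Subgroup.mem_sup_right hηK))
  exact ⟨z, hz, fun x hx => (autFun_coe η ⟨x, hx⟩).trans (hze ⟨x, hx⟩)⟩

/-- The automorphisms of order prime to `p` of a fully normalized centric subgroup fixing its
intersection with `T` extend fixing `T`. -/
theorem Act.fixes_normalized {R : Subgroup Ω} (hn : F.IsFullyNormalized R) (hc : E.IsCentric R)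
    (hW : T ⊓ U ≤ R) {α : MulAut R} (hα : α ∈ E.autGroup R) {m : ℕ} (hm : m.Coprime p)
    (hαm : α ^ m = 1) (hfix : ∀ x ∈ R, x ∈ T → autFun α x = x) :
    Fixes F T R (autFun α) := by
  obtain ⟨b, hb, hbR, hbT, hbU⟩ := d.exists_lift hn hc hα hm hαm hfix hW
  have hcomm := d.comm_aut hc hW hα hm hαm hfix
  have hRS := hn.1
  set X := R ⊔ centralizerIn S R with hXdef
  have hXS : X ≤ S := sup_le hRS inf_le_left
  have hRX : R ≤ X := le_sup_left
  haveI := finite_of_le hXS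
  obtain ⟨β, hβ, hβe⟩ := hb.exists_aut (InvExt.fimg_sup_centralizer hRS hb hbR)
  have hTR := d.normalizes hc.1 hW
  have hTX : T ≤ Subgroup.normalizer (X : Set Ω) := by
    have key : ∀ k ∈ T, ∀ x ∈ X, k * x * k⁻¹ ∈ X := by
      intro k hk x hx
      obtain ⟨r, hr, c, hc', rfl⟩ := (InvMap.mem_sup_normalized
        (fun z hz => (centralizerIn_le_normalizerIn R hz).2)).1 hx
      rw [show k * (r * c) * k⁻¹ = k * r * k⁻¹ * (k * c * k⁻¹) by group]
      refine Subgroup.mul_mem_sup ((Subgroup.mem_normalizer_iff.1 (hTR hk).2 r).1 hr)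
        (mem_centralizerIn.2 ⟨S.mul_mem (S.mul_mem (hTR hk).1 hc'.1) (S.inv_mem (hTR hk).1),
          fun y hy => ?_⟩)
      have hy' := (Subgroup.mem_normalizer_iff''.1 (hTR hk).2 y).1 hy
      have e := hc'.2 _ hy'
      calc y * (k * c * k⁻¹) = k * (k⁻¹ * y * k * c) * k⁻¹ := by group
        _ = k * (c * (k⁻¹ * y * k)) * k⁻¹ := by rw [e]
        _ = k * c * k⁻¹ * y := by group
    exact fun k hk => mem_normalizer_of_forall (key k hk) fun x hx => by
      simpa using key k⁻¹ (T.inv_mem hk) x hx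
  have hUX : ∀ u ∈ X, u ∈ U → u ∈ R := by
    intro u hu huU
    obtain ⟨r, hr, c, hc', rfl⟩ := (InvMap.mem_sup_normalized
      (fun z hz => (centralizerIn_le_normalizerIn R hz).2)).1 hu
    refine R.mul_mem hr (centralizerIn_le_of_centric hc ⟨?_, hc'.2⟩)
    have := U.mul_mem (U.inv_mem (hc.1 hr)) huU
    rwa [inv_mul_cancel_left] at this
  have hβG : β ∈ Gam U ⊥ X := ⟨fun y => by
      rw [← autFun_coe β y, hβe y y.2]
      exact hbU y y.2,
    fun y hy => by rw [show y = 1 from Subtype.ext (Subgroup.mem_bot.1 hy), map_one]⟩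
  have conjU : ∀ k ∈ T, ∃ z ∈ centralizerIn S R, ∀ x ∈ X,
      b (k * x * k⁻¹) = z * k * b x * (z * k)⁻¹ := by
    intro k hk
    have hkS := d.scT.1 hk
    set c : MulAut X := X.normalizerMonoidHom ⟨k, hTX hk⟩ with hcdef
    have hce : ∀ y : X, ((c y : X) : Ω) = k * y * k⁻¹ := fun y => rfl
    have hcF : c ∈ F.autGroup X :=
      autInducedBy_le_autGroup F hXS (mem_autInducedBy.2 ⟨k, hkS, hce⟩)
    obtain ⟨η, hηd⟩ : ∃ η, η = β * c * β⁻¹ * c⁻¹ := ⟨_, rfl⟩
    have hη : η ∈ F.autGroup X :=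
      hηd ▸ mul_mem (mul_mem (mul_mem hβ hcF) (inv_mem hβ)) (inv_mem hcF)
    have hcβ : c * β⁻¹ * c⁻¹ ∈ Gam U ⊥ X := by
      refine ⟨fun y => ?_, fun y hy => by
        rw [show y = 1 from Subtype.ext (Subgroup.mem_bot.1 hy), map_one]⟩
      obtain ⟨w, rfl⟩ : ∃ w, c w = y := ⟨c⁻¹ y, MulAut.apply_inv_self _ c y⟩
      rw [MulAut.mul_apply, MulAut.mul_apply, MulAut.inv_apply_self, hce, hce,
        show (k * (w : Ω) * k⁻¹)⁻¹ * (k * ((β⁻¹ : MulAut X) w : Ω) * k⁻¹) =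
          k * ((w : Ω)⁻¹ * ((β⁻¹ : MulAut X) w : Ω)) * k⁻¹ by group]
      exact StronglyClosed.conj_mem' d.scU hkS ((inv_mem hβG : β⁻¹ ∈ Gam U ⊥ X).1 w)
    have hηG : η ∈ Gam U ⊥ X := by
      rw [hηd, show β * c * β⁻¹ * c⁻¹ = β * (c * β⁻¹ * c⁻¹) by group]
      exact mul_mem hβG hcβ
    have hη' : ∀ y : X, η (c (β y)) = β (c y) := fun y => by
      simp [hηd, MulAut.mul_apply]
    have hfixR : ∀ x ∈ R, autFun η x = x := by
      intro x hx
      obtain ⟨y, hy, rfl⟩ : ∃ y ∈ R, k * autFun α y * k⁻¹ = x := by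
        have hkx := (Subgroup.mem_normalizer_iff''.1 (hTR hk).2 x).1 hx
        refine ⟨_, autFun_mem α⁻¹ hkx, ?_⟩
        rw [← autFun_mul _ _ hkx, mul_inv_cancel, autFun_one hkx]
        group
      have hky := (Subgroup.mem_normalizer_iff.1 (hTR hk).2 y).1 hy
      have e := congrArg Subtype.val (hη' ⟨y, hRX hy⟩)
      rw [← autFun_coe η, hce, ← autFun_coe β (c ⟨y, hRX hy⟩), hce, ← autFun_coe β ⟨y, hRX hy⟩]
        at e
      rw [hβe _ (hRX hy), hbR y hy, hβe _ (hRX hky), hbR _ hky] at e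
      exact e.trans (hcomm k hk y hy)
    obtain ⟨z, hz, hze⟩ := d.exists_centralizer hn hη hfixR fun x hx => hUX _
      (X.mul_mem (X.inv_mem hx) (autFun_mem η hx))
      ((autFun_coe η ⟨x, hx⟩).symm ▸ hηG.1 ⟨x, hx⟩)
    refine ⟨z, hz, fun x hx => ?_⟩
    have hkx : k * x * k⁻¹ ∈ X := (Subgroup.mem_normalizer_iff.1 (hTX hk) x).1 hx
    have e := congrArg Subtype.val (hη' ⟨x, hx⟩)
    rw [← autFun_coe η, hze _ (c (β ⟨x, hx⟩)).2, hce, ← autFun_coe β (c ⟨x, hx⟩), hce,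
      ← autFun_coe β ⟨x, hx⟩] at e
    rw [hβe _ hx, hβe _ hkx] at e
    rw [← e]
    group
  have hXc : F.IsCentric X :=
    PrimeQuot.centric_sup_centralizerIn (fullyCentralized_of_fullyNormalized d.pG d.sat hn)
  have hbX : fimg b X = X := InvExt.fimg_sup_centralizer hRS hb hbR
  obtain ⟨g, hg, hge⟩ := receptive_extend (receptive_of_fullyCentralized d.pG d.sat
    (fullyCentralized_of_centric hXc)) hb hbX (N := X ⊔ T) (fun w hw => by
      obtain ⟨r, hr, k, hk, rfl⟩ := (InvMap.mem_sup_normalized hTX).1 hw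
      obtain ⟨z, hz, hze⟩ := conjU k hk
      refine ⟨⟨S.mul_mem (hXS hr) (d.scT.1 hk),
        Subgroup.mul_mem _ (Subgroup.le_normalizer hr) (hTX hk)⟩, b r * (z * k),
        S.mul_mem (hb.apply_mem hr) (S.mul_mem hz.1 (d.scT.1 hk)), fun x hx => ?_⟩
      rw [show r * k * x * (r * k)⁻¹ = r * (k * x * k⁻¹) * r⁻¹ by group,
        hb.map_conj hr ((Subgroup.mem_normalizer_iff.1 (hTX hk) x).1 hx), hze x hx]
      group) le_sup_left
  have hYS : X ⊔ T ≤ S := sup_le hXS d.scT.1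
  haveI := finite_of_le hYS
  haveI := finite_of_le d.scT.1
  have hgY : fimg g (X ⊔ T) = X ⊔ T := by
    rw [hg.fimg_sup, fimg_congr hge, hbX,
      fimg_stronglyClosed d.scT (hg.res le_sup_right) le_rfl]
  obtain ⟨γ, hγ, hγe⟩ := hg.exists_aut hgY
  obtain ⟨j, n, hn', hγn, hj⟩ := InvExt.exists_coprime_power (p := p) γ hm hαm
  have hRY : R ≤ X ⊔ T := hRX.trans le_sup_left
  have hγm := (Fus.mem_autGroup hYS).1 (pow_mem hγ j)
  have hγR : ∀ x ∈ R, autFun (γ ^ j) x = autFun α x := fun x hx => by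
    rw [← InvMap.autFun_pow_eqOn hRY (fun y hy => by
      rw [hγe y (hRY hy), hge y (hRX hy), hbR y hy]) j x hx, hj]
  have hγX : ∀ t ∈ T, t ∈ X → autFun (γ ^ j) t = t := by
    intro t ht htX
    have h1 : autFun γ t = t := by
      rw [hγe t (Subgroup.mem_sup_left htX), hge t htX, hbT t ht htX]
    clear hj hγn hγm hγR
    induction j with
    | zero => rw [pow_zero, autFun_one (Subgroup.mem_sup_right ht)]
    | succ i ih => rw [pow_succ, autFun_mul _ _ (Subgroup.mem_sup_right ht), h1, ih]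
  refine ⟨_, hγm.res (sup_le_sup_right hRX T), hγR, fun k hk => ?_⟩
  have hkY : k ∈ X ⊔ T := Subgroup.mem_sup_right hk
  have hgk : autFun (γ ^ j) k ∈ T :=
    StronglyClosed.apply_mem d.scT (hγm.res le_sup_right) le_rfl hk
  obtain ⟨t, ht⟩ : ∃ t, t = autFun (γ ^ j) k * k⁻¹ := ⟨_, rfl⟩
  have htT : t ∈ T := ht ▸ T.mul_mem hgk (T.inv_mem hk)
  have htX : t ∈ X := by
    refine Subgroup.mem_sup_right (mem_centralizerIn.2 ⟨d.scT.1 htT, fun y hy => ?_⟩)
    have hky := (Subgroup.mem_normalizer_iff''.1 (hTR hk).2 y).1 hy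
    obtain ⟨x, hx, hxe⟩ : ∃ x ∈ R, autFun α x = k⁻¹ * y * k :=
      ⟨_, autFun_mem α⁻¹ hky, by rw [← autFun_mul _ _ hky, mul_inv_cancel, autFun_one hky]⟩
    have hkx := (Subgroup.mem_normalizer_iff.1 (hTR hk).2 x).1 hx
    have e := hγm.map_conj hkY (hRY hx)
    rw [hγR _ hkx, hγR x hx, hcomm k hk x hx, hxe,
      show k * (k⁻¹ * y * k) * k⁻¹ = y by group] at e
    calc y * t = autFun (γ ^ j) k * (k⁻¹ * y * k) * (autFun (γ ^ j) k)⁻¹ *
          (autFun (γ ^ j) k * k⁻¹) := by rw [← e, ht]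
      _ = autFun (γ ^ j) k * k⁻¹ * y := by group
      _ = t * y := by rw [ht]
  have htfix := hγX t htT htX
  have he : autFun (γ ^ j) k = t * k := by rw [ht, inv_mul_cancel_right]
  have htY : t ∈ X ⊔ T := Subgroup.mem_sup_right htT
  have hit : ∀ i : ℕ, autFun ((γ ^ j) ^ i) k = t ^ i * k := by
    intro i
    induction i with
    | zero => rw [pow_zero, autFun_one hkY, pow_zero, one_mul]
    | succ i ih =>
      have hti : autFun (γ ^ j) (t ^ i) = t ^ i := hγX _ (T.pow_mem htT i) (X.pow_mem htX i)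
      rw [pow_succ', autFun_mul _ _ hkY, ih, hγm.map_mul ((X ⊔ T).pow_mem htY i) hkY, hti, he,
        pow_succ t i, mul_assoc]
  have htn : t ^ n = 1 := by
    have := hit n
    rw [hγn, autFun_one hkY] at this
    exact right_eq_mul.1 this
  obtain ⟨a, ha⟩ := d.pG ⟨t, d.scT.1 htT⟩
  have ht1 : t = 1 := InvExt.eq_one_of_coprime_pow (p := p) hn' (congrArg Subtype.val ha :) htn
  rw [he, ht1, one_mul]

/-- The automorphisms of order prime to `p` fixing `T ⊓ U` extend fixing `T`. -/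
theorem Act.fixes_aut {X : Subgroup Ω} (hXU : X ≤ U) (hW : T ⊓ U ≤ X) {α : MulAut X}
    (hα : α ∈ E.autGroup X) {m : ℕ} (hm : m.Coprime p) (hαm : α ^ m = 1)
    (hfix : ∀ x ∈ X, x ∈ T → autFun α x = x) : Fixes F T X (autFun α) := by
  have hUS := d.scU.1
  haveI : Finite U := finite_of_le hUS
  have hUp := d.pG.to_le hUS
  haveI := finite_of_le d.scT.1
  -- a fully normalized conjugate
  have hXS := hXU.trans hUS
  obtain ⟨X₀, hX₀, hn⟩ := exists_fullyNormalized F hXS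
  obtain ⟨v, hv, hvX, -⟩ := exists_map_to_fullyNormalized d.pG d.sat hn hX₀
  subst hvX
  have hv' := hv.res (le_normalizerIn hXS)
  obtain ⟨e, he, -⟩ := exists_mulEquiv hv' rfl
  have hX₀U : fimg v X ≤ U :=
    fimg_le fun x hx => StronglyClosed.apply_mem d.scU hv' hXU hx
  have hWsc : F.StronglyClosed (T ⊓ U) := stronglyClosed_inf d.scT d.scU
  haveI := finite_of_le hWsc.1
  have hvW : fimg v (T ⊓ U) = T ⊓ U := fimg_stronglyClosed hWsc (hv'.res hW) le_rfl
  have hW₀ : T ⊓ U ≤ fimg v X := hvW.ge.trans (fimg_mono v hW)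
  have hα₀ := InvClass.congr_autGroup d.nE.1.2.2 hXU hv' rfl e he hα
  have hα₀m : MulAut.congr e α ^ m = 1 := by rw [← map_pow, hαm, map_one]
  have hfix₀ : ∀ x ∈ T ⊓ U, autFun (MulAut.congr e α) x = x := by
    intro x hx
    obtain ⟨w, hw, rfl⟩ := (hv'.res hW).mem_fimg_iff.1 (hvW.ge hx)
    rw [InvMap.autFun_congr e he α (hW hw), hfix w (hW hw) hw.1]
  refine fixes_transport d.scT
    (hv.res (sup_le (le_normalizerIn hXS) (d.normalizes hXU hW)))
    ?_ (fun x hx => autFun_mem α hx) fun x hx => InvMap.autFun_congr e he α hx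
  -- extend over the centralizer in `U`
  have hnE := InvExt.fullyNormalized_sub d.pG d.sat d.scU d.nE.1.2.2.1 hX₀U hn
  have hcE := fullyCentralized_of_fullyNormalized hUp d.nE.1.1 hnE
  set R := fimg v X ⊔ centralizerIn U (fimg v X) with hRdef
  have hRU : R ≤ U := sup_le hX₀U inf_le_left
  haveI := finite_of_le hRU
  obtain ⟨g, hg, hge, -, -⟩ := exists_ext hUp d.nE.1.1 hnE hα₀
  obtain ⟨γ, hγ, hγe⟩ := hg.exists_aut (InvExt.fimg_sup_centralizer hX₀U hg hge)
  obtain ⟨j, n, hn', hγn, hj⟩ := InvExt.exists_coprime_power (p := p) γ hm hα₀m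
  have hXR : fimg v X ≤ R := le_sup_left
  have hγX : ∀ x ∈ fimg v X, autFun (γ ^ j) x = autFun (MulAut.congr e α) x := fun x hx => by
    rw [← InvMap.autFun_pow_eqOn hXR (fun y hy => by rw [hγe y (hXR hy), hge y hy]) j x hx, hj]
  have hRc : E.IsCentric R := PrimeQuot.centric_sup_centralizerIn hcE
  have hfixR : ∀ x ∈ R, x ∈ T → autFun (γ ^ j) x = x := fun x hx hxT => by
    rw [hγX x (hW₀ ⟨hxT, hRU hx⟩), hfix₀ x ⟨hxT, hRU hx⟩]
  obtain ⟨R₀, u, γ₀, hn₀, hc₀, hW₁, hu, huR, hγ₀, hγ₀n, hfix₁, hu₀⟩ :=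
    d.transport hRc (hW₀.trans hXR) (pow_mem hγ j) hγn hfixR
  subst huR
  have hF := d.fixes_normalized hn₀ hc₀ hW₁ hγ₀ hn' hγ₀n hfix₁
  exact ((fixes_transport d.scT
    (hu.res (sup_le (le_normalizerIn (hRU.trans hUS)) (d.normalizes hRU (hW₀.trans hXR))))
    hF (fun x hx => autFun_mem (γ ^ j) hx) hu₀).res hXR).congr hγX

/-- An automorphism of order prime to `p` fixing `T ⊓ U` in the normal subsystem fixes `T`. -/
theorem Act.fixes_of_fixes {P : Subgroup Ω} (hP : P ≤ U) {α : MulAut P} {m : ℕ}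
    (hm : m.Coprime p) (hαm : α ^ m = 1) (h : Fixes E (T ⊓ U) P (autFun α)) :
    Fixes F T P (autFun α) := by
  obtain ⟨g, hg, hg1, hg2⟩ := h
  have hXU : P ⊔ T ⊓ U ≤ U := sup_le hP inf_le_right
  haveI := finite_of_le (hXU.trans d.scU.1)
  obtain ⟨γ, hγ, hγe⟩ := hg.exists_aut (show fimg g (P ⊔ T ⊓ U) = P ⊔ T ⊓ U by
    rw [hg.fimg_sup, fimg_congr hg1, fimg_autFun, fimg_eq_self_of_forall hg2])
  obtain ⟨j, n, hn', hγn, hj⟩ := InvExt.exists_coprime_power (p := p) γ hm hαm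
  have hγP : ∀ x ∈ P, autFun (γ ^ j) x = autFun α x := fun x hx => by
    rw [← InvMap.autFun_pow_eqOn le_sup_left (fun y hy => by
      rw [hγe y (Subgroup.mem_sup_left hy), hg1 y hy]) j x hx, hj]
  refine ((d.fixes_aut hXU le_sup_right (pow_mem hγ j) hn' hγn fun x hx hxT => ?_).res
    le_sup_left).congr hγP
  have hxW : x ∈ T ⊓ U := ⟨hxT, hXU hx⟩
  clear hj hγn hγP
  induction j with
  | zero => rw [pow_zero, autFun_one hx]
  | succ i ih => rw [pow_succ, autFun_mul _ _ hx, hγe x hx, hg2 x hxW, ih]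

end Cfsg.Agent.Fus.Comm
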