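import Cfsg.Agent.Lib.Fus.CommProduct
import Cfsg.Agent.Lib.Fus.ResidualNormal
import Cfsg.Agent.Lib.Fus.PPrimeResidual

/-!
Two normal subsystems on commuting supports: passing to subsystems meeting in their centres.
-/

set_option autoImplicit false
set_option linter.style.haveILetI false
set_option linter.unusedSectionVars false

open scoped Classical

universe u

namespace Cfsg.Agent.Fus.Comm

open Subgroup FusionSystem FocalCent

variable {Ω : Type u} [Group Ω] {S T₁ T₂ : Subgroup Ω} {F : FusionSystem S}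
  {E₁ : FusionSystem T₁} {p : ℕ} [Finite S] [Fact p.Prime]

/-- A normal subsystem on the same support with the common part in its centre. -/
theorem exists_central_sub (d : Pair F p T₁ T₂) (hE : E₁.IsNormalIn F p) :
    ∃ E : FusionSystem T₁, E.IsNormalIn F p ∧ T₁ ⊓ T₂ ≤ E.center := by
  have hT₁ := d.sc₁
  haveI : Finite T₁ := finite_of_le hT₁.1
  have hT₁p := d.pG.to_le hT₁.1
  have hZF := stronglyClosed_inf d.sc₁ d.sc₂
  haveI : Finite ↥(T₁ ⊓ T₂) := finite_of_le hZF.1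
  have hZT : T₁ ⊓ T₂ ≤ T₁ := inf_le_left
  have hcent : centralizerIn T₁ (T₁ ⊓ T₂) = T₁ :=
    le_antisymm inf_le_left fun x hx => ⟨hx, fun z hz => (d.comm x hx z hz.2).symm⟩
  have hn : E₁.IsFullyCentralized (T₁ ⊓ T₂) := by
    refine ⟨hZT, fun Q hQ => ?_⟩
    obtain ⟨h, hh, rfl⟩ := isConj_iff.1 hQ
    rw [fimg_stronglyClosed hZF (hh.mono hE.1.2.2.1) le_rfl]
  obtain ⟨G, hGs, hG⟩ : ∃ G : FusionSystem T₁, G.IsSaturated p ∧
      ∀ P φ, φ ∈ G.Hom P ↔ φ ∈ E₁.centralizerHom (T₁ ⊓ T₂) P := by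
    have h1 := isSaturated_centralizerSystem hT₁p hE.1.1 hn
      (isCentralizerSystem_centralizerSystem E₁ hZT)
    have h2 := isCentralizerSystem_centralizerSystem E₁ hZT
    revert h1 h2
    generalize centralizerSystem E₁ (T₁ ⊓ T₂) hZT = G
    revert G
    rw [show (∀ G : FusionSystem (centralizerIn T₁ (T₁ ⊓ T₂)), G.IsSaturated p →
      E₁.IsCentralizerSystem (T₁ ⊓ T₂) G → ∃ G : FusionSystem T₁, G.IsSaturated p ∧
        ∀ P φ, φ ∈ G.Hom P ↔ φ ∈ E₁.centralizerHom (T₁ ⊓ T₂) P) ↔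
      (∀ G : FusionSystem (centralizerIn T₁ (T₁ ⊓ T₂)), G.IsSaturated p →
        (∀ P, G.Hom P = E₁.centralizerHom (T₁ ⊓ T₂) P) → ∃ G : FusionSystem T₁, G.IsSaturated p ∧
        ∀ P φ, φ ∈ G.Hom P ↔ φ ∈ E₁.centralizerHom (T₁ ⊓ T₂) P) from Iff.rfl, hcent]
    exact fun G h1 h2 => ⟨G, h1, fun P φ => by rw [h2 P]⟩
  have hGE : ∀ {P : Subgroup Ω} {f : Ω → Ω}, IsMap G P f →
      ∃ g, IsMap E₁ (P ⊔ (T₁ ⊓ T₂)) g ∧ (∀ x ∈ P, g x = f x) ∧ ∀ z ∈ T₁ ⊓ T₂, g z = z := by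
    intro P f hf
    obtain ⟨φ, hφ, e⟩ := hf.exists_hom
    obtain ⟨-, -, g, hg, hg1, hg2⟩ := mem_centralizerHom.1 ((hG P φ).1 hφ)
    exact ⟨g, hg, fun x hx => (hg1 ⟨x, hx⟩).trans (e ⟨x, hx⟩), hg2⟩
  have hEG : ∀ {P : Subgroup Ω} {f : Ω → Ω}, IsMap E₁ (P ⊔ (T₁ ⊓ T₂)) f →
      (∀ z ∈ T₁ ⊓ T₂, f z = z) → IsMap G P f := by
    intro P f hf hfix
    obtain ⟨φ, hφ, e⟩ := (hf.res le_sup_left).exists_hom
    refine ⟨φ, (hG P φ).2 (mem_centralizerHom.2 ⟨?_, fun x => ?_, f, hf, fun x => (e x).symm, hfix⟩), e⟩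
    · rw [hcent]; exact le_sup_left.trans hf.source_le
    · rw [hcent, e]; exact hf.apply_mem (Subgroup.mem_sup_left x.2)
  have hGF : G.IsSubsystemOf F := fun P φ hφ => hE.1.2.2.1 P ((hG P φ).1 hφ).1
  have hstrong : StrongInv F G := by
    intro P Q f u hPQ hQ hf hfm hu
    obtain ⟨f', hf', hfe, hfZ⟩ := hGE hf
    obtain ⟨g, hg, hge⟩ := extend d (hQ.trans le_sup_left) hu
    have hQZ : Q ⊔ T₁ ⊓ T₂ ≤ hat T₁ T₂ Q := sup_le (le_hat d (hQ.trans le_sup_left))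
      fun z hz => Subgroup.mem_sup_left ⟨Subgroup.mem_sup_right hz.2, hz.1⟩
    have hm : ∀ x ∈ P ⊔ T₁ ⊓ T₂, f' x ∈ Q ⊔ T₁ ⊓ T₂ := by
      intro x hx
      have h := apply_mem_fimg f' hx
      rw [hf'.fimg_sup, fimg_congr hfe, fimg_eq_self_of_forall hfZ] at h
      exact sup_le_sup_right (fimg_le hfm) _ h
    obtain ⟨k, hk, hke⟩ := ResInv.strongInv_of_invariant hE.1.2.2 _ _ f' g
      (sup_le_sup_right hPQ _) (sup_le hQ hZT) hf' hm (hg.res hQZ)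
    have hgm := hg.res ((sup_le_sup_right hPQ _).trans hQZ)
    rw [hgm.fimg_sup, fimg_congr (P := P) (g := u) (fun x hx => hge x (hPQ hx)),
      fimg_stronglyClosed hZF (hgm.res le_sup_right) le_rfl] at hk
    refine ⟨k, hEG hk fun z hz => ?_, fun x hx => ?_⟩
    · obtain ⟨w, hw, rfl⟩ := (hgm.res le_sup_right).mem_fimg_iff.1
        ((fimg_stronglyClosed hZF (hgm.res le_sup_right) le_rfl).ge hz)
      rw [hke w (Subgroup.mem_sup_right hw), hfZ w hw]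
    · rw [← hge x (hPQ hx), hke x (Subgroup.mem_sup_left hx), hfe x hx, hge _ (hfm x hx)]
  have hw : G.IsWeaklyNormalIn F p := ⟨hGs, d.sat, ResInv.isInvariantIn_of_strongInv hGF hT₁ hstrong
    fun hP hf => dec_of_strongInv d.pG d.sat hstrong hT₁ hP hf⟩
  obtain ⟨E, hEr⟩ := PrimeIndex.exists_residual hT₁p hGs
  refine ⟨E, ResNorm.residual_isNormalIn d.pG hw hEr, le_center_of_fixed hT₁p hEr.1 hZT
    (fun z hz s hs => (d.comm s hs z hz.2).symm) fun P f hf z hz hzP => ?_⟩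
  obtain ⟨g, -, hg1, hg2⟩ := hGE (hf.mono hEr.2.1.1)
  rw [← hg1 z hzP]
  exact hg2 z hz

end Cfsg.Agent.Fus.Comm
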