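import Cfsg.Agent.Lib.Fus.Basic
import Cfsg.Prelude.Def_FusionComponents

/-!
The direct product of two fusion systems.
-/

set_option autoImplicit false

namespace Cfsg.Agent.Fus

open Subgroup FusionSystem

variable {Ω₁ Ω₂ : Type*} [Group Ω₁] [Group Ω₂] {S₁ : Subgroup Ω₁} {S₂ : Subgroup Ω₂}

theorem fst_mem {P : Subgroup (Ω₁ × Ω₂)} {x : Ω₁ × Ω₂} (hx : x ∈ P) :
    x.1 ∈ P.map (MonoidHom.fst Ω₁ Ω₂) := ⟨x, hx, rfl⟩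

theorem snd_mem {P : Subgroup (Ω₁ × Ω₂)} {x : Ω₁ × Ω₂} (hx : x ∈ P) :
    x.2 ∈ P.map (MonoidHom.snd Ω₁ Ω₂) := ⟨x, hx, rfl⟩

variable (F₁ : FusionSystem S₁) (F₂ : FusionSystem S₂)

/-- The maps of the product system. -/
def productHom (P : Subgroup (Ω₁ × Ω₂)) : Set (P →* Ω₁ × Ω₂) :=
  {φ | P ≤ S₁.prod S₂ ∧ ∃ f₁ f₂, IsMap F₁ (P.map (MonoidHom.fst Ω₁ Ω₂)) f₁ ∧
    IsMap F₂ (P.map (MonoidHom.snd Ω₁ Ω₂)) f₂ ∧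
    ∀ x : P, φ x = (f₁ (x : Ω₁ × Ω₂).1, f₂ (x : Ω₁ × Ω₂).2)}

/-- The direct product of two fusion systems. -/
def productSystem : FusionSystem (S₁.prod S₂) where
  Hom := productHom F₁ F₂
  le_of_mem := by
    rintro P φ ⟨hP, f₁, f₂, h₁, h₂, h⟩
    refine ⟨hP, fun x => ?_⟩
    rw [h x]
    exact Subgroup.mem_prod.2 ⟨h₁.apply_mem (fst_mem x.2), h₂.apply_mem (snd_mem x.2)⟩
  injective_of_mem := by
    rintro P φ ⟨hP, f₁, f₂, h₁, h₂, h⟩ a b hab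
    rw [h a, h b, Prod.mk.injEq] at hab
    exact Subtype.ext (Prod.ext (h₁.injOn (fst_mem a.2) (fst_mem b.2) hab.1)
      (h₂.injOn (snd_mem a.2) (snd_mem b.2) hab.2))
  conj_mem := by
    intro P g hP hg
    refine ⟨hP, fun x => g.1 * x * g.1⁻¹, fun x => g.2 * x * g.2⁻¹, ?_, ?_, fun x => rfl⟩
    · refine isMap_conj F₁ ?_ (Subgroup.mem_prod.1 hg).1
      rintro _ ⟨x, hx, rfl⟩
      exact (Subgroup.mem_prod.1 (hP hx)).1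
    · refine isMap_conj F₂ ?_ (Subgroup.mem_prod.1 hg).2
      rintro _ ⟨x, hx, rfl⟩
      exact (Subgroup.mem_prod.1 (hP hx)).2
  comp_mem := by
    rintro P Q φ ψ ⟨hP, f₁, f₂, h₁, h₂, h⟩ ⟨-, g₁, g₂, k₁, k₂, k⟩ hle
    refine ⟨hP, fun x => g₁ (f₁ x), fun x => g₂ (f₂ x), h₁.comp k₁ ?_, h₂.comp k₂ ?_, fun x => ?_⟩
    · rintro _ ⟨x, hx, rfl⟩
      have := fst_mem (hle ⟨x, hx⟩)
      rwa [h] at this
    · rintro _ ⟨x, hx, rfl⟩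
      have := snd_mem (hle ⟨x, hx⟩)
      rwa [h] at this
    · show ψ (φ.codRestrict Q hle x) = _
      rw [k]
      show (g₁ (φ x).1, g₂ (φ x).2) = _
      rw [h]
  inv_mem := by
    rintro P φ ⟨hP, f₁, f₂, h₁, h₂, h⟩
    have hφP : φ.range ≤ S₁.prod S₂ := by
      rintro _ ⟨x, rfl⟩
      rw [h x]
      exact Subgroup.mem_prod.2 ⟨h₁.apply_mem (fst_mem x.2), h₂.apply_mem (snd_mem x.2)⟩
    obtain ⟨g₁, hg₁, e₁, -⟩ := h₁.exists_inv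
    obtain ⟨g₂, hg₂, e₂, -⟩ := h₂.exists_inv
    have m₁ : ∀ y : φ.range, (y : Ω₁ × Ω₂).1 ∈ fimg f₁ (P.map (MonoidHom.fst Ω₁ Ω₂)) := by
      rintro ⟨_, x, rfl⟩
      show (φ x).1 ∈ _
      rw [h x]
      exact apply_mem_fimg f₁ (fst_mem x.2)
    have m₂ : ∀ y : φ.range, (y : Ω₁ × Ω₂).2 ∈ fimg f₂ (P.map (MonoidHom.snd Ω₁ Ω₂)) := by
      rintro ⟨_, x, rfl⟩
      show (φ x).2 ∈ _
      rw [h x]
      exact apply_mem_fimg f₂ (snd_mem x.2)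
    refine ⟨MonoidHom.mk' (fun y => (g₁ (y : Ω₁ × Ω₂).1, g₂ (y : Ω₁ × Ω₂).2)) fun y z => ?_,
      ⟨hφP, g₁, g₂, hg₁.res ?_, hg₂.res ?_, fun y => rfl⟩, fun x => ?_⟩
    · show (g₁ ((y : Ω₁ × Ω₂).1 * (z : Ω₁ × Ω₂).1), g₂ ((y : Ω₁ × Ω₂).2 * (z : Ω₁ × Ω₂).2)) = _
      rw [hg₁.map_mul (m₁ y) (m₁ z), hg₂.map_mul (m₂ y) (m₂ z)]
      rfl
    · rintro _ ⟨y, hy, rfl⟩
      exact m₁ ⟨y, hy⟩
    · rintro _ ⟨y, hy, rfl⟩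
      exact m₂ ⟨y, hy⟩
    · show (g₁ (φ x).1, g₂ (φ x).2) = _
      rw [h x, e₁ _ (fst_mem x.2), e₂ _ (snd_mem x.2)]

theorem isProductSystem_productSystem : IsProductSystem F₁ F₂ (productSystem F₁ F₂) := by
  intro P φ
  constructor
  · rintro ⟨hP, f₁, f₂, h₁, h₂, h⟩
    obtain ⟨φ₁, hφ₁, e₁⟩ := h₁.exists_hom
    obtain ⟨φ₂, hφ₂, e₂⟩ := h₂.exists_hom
    exact ⟨hP, φ₁, hφ₁, φ₂, hφ₂, fun x a b => by rw [h x, e₁, e₂]⟩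
  · rintro ⟨hP, φ₁, hφ₁, φ₂, hφ₂, h⟩
    refine ⟨hP, _, _, isMap_toFun hφ₁, isMap_toFun hφ₂, fun x => ?_⟩
    rw [h x (fst_mem x.2) (snd_mem x.2), toFun_apply, toFun_apply]

end Cfsg.Agent.Fus
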