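import Mathlib
import Cfsg.Agent.Lib.Fus.Product
import Cfsg.Agent.Lib.Fus.Saturation
import Cfsg.Agent.Lib.Fus.NormalCrit

/-!
The product of saturated fusion systems is saturated.
-/

set_option autoImplicit false
set_option linter.style.haveILetI false

namespace Cfsg.Agent.Fus

open Cfsg Cfsg.FusionSystem

universe u₁ u₂

variable {Ω₁ : Type u₁} {Ω₂ : Type u₂} [Group Ω₁] [Group Ω₂] {S₁ : Subgroup Ω₁} {S₂ : Subgroup Ω₂}
  {p : ℕ} [Fact p.Prime] {F₁ : FusionSystem S₁} {F₂ : FusionSystem S₂}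

local notation "π₁" => Subgroup.map (MonoidHom.fst Ω₁ Ω₂)
local notation "π₂" => Subgroup.map (MonoidHom.snd Ω₁ Ω₂)

omit [Fact p.Prime] in
theorem isMap_product {P : Subgroup (Ω₁ × Ω₂)} {f : Ω₁ × Ω₂ → Ω₁ × Ω₂} :
    IsMap (productSystem F₁ F₂) P f ↔ P ≤ S₁.prod S₂ ∧ ∃ f₁ f₂, IsMap F₁ (π₁ P) f₁ ∧ IsMap F₂ (π₂ P) f₂ ∧
      ∀ x ∈ P, f x = (f₁ x.1, f₂ x.2) := by
  constructor
  · rintro ⟨φ, ⟨hP, f₁, f₂, h₁, h₂, h⟩, e⟩
    exact ⟨hP, f₁, f₂, h₁, h₂, fun x hx => (e ⟨x, hx⟩).symm.trans (h ⟨x, hx⟩)⟩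
  · rintro ⟨hP, f₁, f₂, h₁, h₂, h⟩
    refine ⟨MonoidHom.mk' (fun x : P => (f₁ (x : Ω₁ × Ω₂).1, f₂ (x : Ω₁ × Ω₂).2)) fun a b => ?_,
      ⟨hP, f₁, f₂, h₁, h₂, fun x => rfl⟩, fun x => (h x x.2).symm⟩
    show (f₁ ((a : Ω₁ × Ω₂).1 * (b : Ω₁ × Ω₂).1), f₂ ((a : Ω₁ × Ω₂).2 * (b : Ω₁ × Ω₂).2)) = _
    rw [h₁.map_mul (fst_mem a.2) (fst_mem b.2), h₂.map_mul (snd_mem a.2) (snd_mem b.2)]
    rfl

omit [Fact p.Prime] in
theorem map_fst_le {P : Subgroup (Ω₁ × Ω₂)} (hP : P ≤ S₁.prod S₂) : π₁ P ≤ S₁ := by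
  rintro _ ⟨x, hx, rfl⟩
  exact (Subgroup.mem_prod.1 (hP hx)).1

omit [Fact p.Prime] in
theorem map_snd_le {P : Subgroup (Ω₁ × Ω₂)} (hP : P ≤ S₁.prod S₂) : π₂ P ≤ S₂ := by
  rintro _ ⟨x, hx, rfl⟩
  exact (Subgroup.mem_prod.1 (hP hx)).2

omit [Fact p.Prime] in
theorem proj_normalizer {Ω Ω' : Type*} [Group Ω] [Group Ω'] (π : Ω →* Ω') {P : Subgroup Ω} {g : Ω}
    (hg : g ∈ Subgroup.normalizer (P : Set Ω)) : π g ∈ Subgroup.normalizer ((P.map π : Subgroup Ω') : Set Ω') :=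
  Subgroup.le_normalizer_map π ⟨g, hg, rfl⟩

omit [Fact p.Prime] in
/-- A subgroup with receptive projections is receptive. -/
theorem receptive_product {Q : Subgroup (Ω₁ × Ω₂)} (hQ : Q ≤ S₁.prod S₂) (h₁ : F₁.IsReceptive (π₁ Q))
    (h₂ : F₂.IsReceptive (π₂ Q)) : (productSystem F₁ F₂).IsReceptive Q := by
  refine receptive_of hQ fun P f hf hfQ N hPN hN => ?_
  obtain ⟨hP, f₁, f₂, hf₁, hf₂, he⟩ := isMap_product.1 hf
  have him₁ : fimg f₁ (π₁ P) = π₁ Q := by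
    ext y
    rw [hf₁.mem_fimg_iff, ← hfQ, Subgroup.mem_map]
    constructor
    · rintro ⟨_, ⟨x, hx, rfl⟩, rfl⟩
      exact ⟨f x, apply_mem_fimg f hx, by rw [he x hx]; rfl⟩
    · rintro ⟨z, hz, rfl⟩
      obtain ⟨x, hx, rfl⟩ := hf.mem_fimg_iff.1 hz
      exact ⟨x.1, fst_mem hx, by rw [he x hx]; rfl⟩
  have him₂ : fimg f₂ (π₂ P) = π₂ Q := by
    ext y
    rw [hf₂.mem_fimg_iff, ← hfQ, Subgroup.mem_map]
    constructor
    · rintro ⟨_, ⟨x, hx, rfl⟩, rfl⟩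
      exact ⟨f x, apply_mem_fimg f hx, by rw [he x hx]; rfl⟩
    · rintro ⟨z, hz, rfl⟩
      obtain ⟨x, hx, rfl⟩ := hf.mem_fimg_iff.1 hz
      exact ⟨x.2, snd_mem hx, by rw [he x hx]; rfl⟩
  have hconj : ∀ g ∈ N, g ∈ S₁.prod S₂ ∧ g ∈ Subgroup.normalizer (P : Set (Ω₁ × Ω₂)) ∧
      ∃ h ∈ S₁.prod S₂, ∀ x ∈ P, f₁ (g.1 * x.1 * g.1⁻¹) = h.1 * f₁ x.1 * h.1⁻¹ ∧
        f₂ (g.2 * x.2 * g.2⁻¹) = h.2 * f₂ x.2 * h.2⁻¹ := by
    intro g hg
    obtain ⟨hgS, hgn, h, hh, he'⟩ := (hN g).1 hg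
    refine ⟨hgS, hgn, h, hh, fun x hx => ?_⟩
    have hgx : g * x * g⁻¹ ∈ P := (Subgroup.mem_normalizer_iff.1 hgn x).1 hx
    have := he' x hx
    rw [he _ hgx, he x hx] at this
    exact ⟨congrArg Prod.fst this, congrArg Prod.snd this⟩
  obtain ⟨g₁, hg₁, e₁⟩ := receptive_extend h₁ hf₁ him₁ (N := π₁ N) (by
    rintro _ ⟨g, hg, rfl⟩
    obtain ⟨hgS, hgn, h, hh, hx⟩ := hconj g hg
    refine ⟨⟨(Subgroup.mem_prod.1 hgS).1, proj_normalizer _ hgn⟩, h.1, (Subgroup.mem_prod.1 hh).1, ?_⟩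
    rintro _ ⟨x, hxP, rfl⟩
    exact (hx x hxP).1) (Subgroup.map_mono hPN)
  obtain ⟨g₂, hg₂, e₂⟩ := receptive_extend h₂ hf₂ him₂ (N := π₂ N) (by
    rintro _ ⟨g, hg, rfl⟩
    obtain ⟨hgS, hgn, h, hh, hx⟩ := hconj g hg
    refine ⟨⟨(Subgroup.mem_prod.1 hgS).2, proj_normalizer _ hgn⟩, h.2, (Subgroup.mem_prod.1 hh).2, ?_⟩
    rintro _ ⟨x, hxP, rfl⟩
    exact (hx x hxP).2) (Subgroup.map_mono hPN)
  refine ⟨fun x => (g₁ x.1, g₂ x.2), isMap_product.2 ⟨fun g hg => ((hN g).1 hg).1, g₁, g₂, hg₁, hg₂,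
    fun x _ => rfl⟩, fun x hx => ?_⟩
  show (g₁ x.1, g₂ x.2) = _
  rw [he x hx, e₁ _ (fst_mem hx), e₂ _ (snd_mem hx)]

/-- In a saturated system every automorphism of `S` of `p`-power order is inner. -/
theorem aut_top_inner {Ω : Type*} [Group Ω] {S : Subgroup Ω} [Finite S] (hS : IsPGroup p S)
    {F : FusionSystem S} (hF : F.IsSaturated p) {α : MulAut S} (hα : α ∈ F.autGroup S) {k : ℕ}
    (hk : α ^ p ^ k = 1) : ∃ s ∈ S, ∀ x ∈ S, autFun α x = s * x * s⁻¹ := by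
  obtain ⟨-, R, hR⟩ := fullyAutomized_of_fullyNormalized hS hF (fullyNormalized_self F)
  have hn : ((R : Subgroup (F.autGroup S))).Normal := by
    rw [hR, ← inn_eq_autInducedBy]
    refine ⟨fun c hc b => ?_⟩
    obtain ⟨s, hs⟩ := Subgroup.mem_subgroupOf.1 hc
    refine Subgroup.mem_subgroupOf.2 ⟨(b : MulAut S) s, MulEquiv.ext fun x => ?_⟩
    rw [Subgroup.coe_mul, Subgroup.coe_mul, ← hs]
    simp
  have hz : IsPGroup p (Subgroup.zpowers (⟨α, hα⟩ : F.autGroup S)) := by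
    have h1 : orderOf (⟨α, hα⟩ : F.autGroup S) ∣ p ^ k :=
      orderOf_dvd_of_pow_eq_one (Subtype.ext hk)
    obtain ⟨i, -, hi⟩ := (Nat.dvd_prime_pow Fact.out).1 h1
    exact IsPGroup.of_card (n := i) (by rw [Nat.card_zpowers, hi])
  have hmem : (⟨α, hα⟩ : F.autGroup S) ∈ (R : Subgroup (F.autGroup S)) :=
    (R.is_maximal' (IsPGroup.to_sup_of_normal_right hz R.isPGroup') le_sup_right).le
      (Subgroup.mem_sup_left (Subgroup.mem_zpowers _))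
  rw [hR, Subgroup.mem_subgroupOf, mem_autInducedBy] at hmem
  obtain ⟨s, hs, h⟩ := hmem
  exact ⟨s, hs, fun x hx => (autFun_coe α ⟨x, hx⟩).trans (h ⟨x, hx⟩)⟩

/-- The product of saturated fusion systems is saturated. -/
theorem isSaturated_productSystem [Finite S₁] [Finite S₂] (hp₁ : IsPGroup p S₁) (hp₂ : IsPGroup p S₂)
    (hF₁ : F₁.IsSaturated p) (hF₂ : F₂.IsSaturated p) : (productSystem F₁ F₂).IsSaturated p := by
  haveI : Finite ↥(S₁.prod S₂) := Finite.of_equiv _ (S₁.prodEquiv S₂).symm.toEquiv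
  have hS : IsPGroup p ↥(S₁.prod S₂) := by
    obtain ⟨a, ha⟩ := IsPGroup.iff_card.1 hp₁
    obtain ⟨b, hb⟩ := IsPGroup.iff_card.1 hp₂
    refine IsPGroup.of_card (n := a + b) ?_
    rw [Nat.card_congr (S₁.prodEquiv S₂).toEquiv, Nat.card_prod, ha, hb, pow_add]
  refine saturated_of_receptive hS ⟨le_rfl, ?_⟩ fun P hP => ?_
  · -- automorphisms of `p`-power order of the whole group are inner
    have hInnp : IsPGroup p ((autInducedBy (S₁.prod S₂) (S₁.prod S₂)).subgroupOf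
        ((productSystem F₁ F₂).autGroup (S₁.prod S₂))) :=
      (isPGroup_autInducedBy hS _).comap_subtype
    have e1 : π₁ (S₁.prod S₂) = S₁ := le_antisymm (map_fst_le le_rfl)
      fun x hx => ⟨(x, 1), Subgroup.mem_prod.2 ⟨hx, one_mem _⟩, rfl⟩
    have e2 : π₂ (S₁.prod S₂) = S₂ := le_antisymm (map_snd_le le_rfl)
      fun x hx => ⟨(1, x), Subgroup.mem_prod.2 ⟨one_mem _, hx⟩, rfl⟩
    obtain ⟨R, hR⟩ := hInnp.exists_le_sylow
    refine ⟨R, le_antisymm (fun α hα => ?_) hR⟩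
    obtain ⟨k, hk⟩ := R.isPGroup' ⟨α, hα⟩
    have hk' : (α : MulAut ↥(S₁.prod S₂)) ^ p ^ k = 1 := by
      have h1 := congrArg Subtype.val (congrArg Subtype.val hk)
      simpa using h1
    obtain ⟨-, f₁, f₂, hf₁, hf₂, he⟩ := isMap_product.1 ((mem_autGroup le_rfl).1 α.2)
    rw [e1] at hf₁
    rw [e2] at hf₂
    have hpow : ∀ n : ℕ, ∀ x ∈ S₁.prod S₂,
        autFun ((α : MulAut ↥(S₁.prod S₂)) ^ n) x = (f₁^[n] x.1, f₂^[n] x.2) := by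
      intro n
      induction n with
      | zero => intro x hx; rw [pow_zero, autFun_one hx]; rfl
      | succ n ih =>
        intro x hx
        rw [pow_succ', autFun_mul _ _ hx, he _ (autFun_mem _ hx), ih x hx, Function.iterate_succ_apply',
          Function.iterate_succ_apply']
    obtain ⟨α₁, hα₁, ee₁⟩ := hf₁.exists_aut (Subgroup.eq_of_le_of_card_ge hf₁.fimg_le_S hf₁.card_fimg.ge)
    obtain ⟨α₂, hα₂, ee₂⟩ := hf₂.exists_aut (Subgroup.eq_of_le_of_card_ge hf₂.fimg_le_S hf₂.card_fimg.ge)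
    have hp1 : ∀ n : ℕ, ∀ x ∈ S₁, autFun (α₁ ^ n) x = f₁^[n] x := by
      intro n
      induction n with
      | zero => intro x hx; rw [pow_zero, autFun_one hx]; rfl
      | succ n ih =>
        intro x hx
        rw [pow_succ', autFun_mul _ _ hx, ee₁ _ (autFun_mem _ hx), ih x hx, Function.iterate_succ_apply']
    have hp2 : ∀ n : ℕ, ∀ x ∈ S₂, autFun (α₂ ^ n) x = f₂^[n] x := by
      intro n
      induction n with
      | zero => intro x hx; rw [pow_zero, autFun_one hx]; rfl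
      | succ n ih =>
        intro x hx
        rw [pow_succ', autFun_mul _ _ hx, ee₂ _ (autFun_mem _ hx), ih x hx, Function.iterate_succ_apply']
    have hk₁ : α₁ ^ p ^ k = 1 := by
      refine mulAut_ext fun x hx => ?_
      have h1 := hpow (p ^ k) (x, 1) (Subgroup.mem_prod.2 ⟨hx, one_mem _⟩)
      rw [hk', autFun_one (Subgroup.mem_prod.2 ⟨hx, one_mem _⟩)] at h1
      rw [hp1 _ x hx, autFun_one hx]
      exact (congrArg Prod.fst h1).symm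
    have hk₂ : α₂ ^ p ^ k = 1 := by
      refine mulAut_ext fun x hx => ?_
      have h1 := hpow (p ^ k) (1, x) (Subgroup.mem_prod.2 ⟨one_mem _, hx⟩)
      rw [hk', autFun_one (Subgroup.mem_prod.2 ⟨one_mem _, hx⟩)] at h1
      rw [hp2 _ x hx, autFun_one hx]
      exact (congrArg Prod.snd h1).symm
    obtain ⟨s₁, hs₁, i₁⟩ := aut_top_inner hp₁ hF₁ hα₁ hk₁
    obtain ⟨s₂, hs₂, i₂⟩ := aut_top_inner hp₂ hF₂ hα₂ hk₂
    rw [Subgroup.mem_subgroupOf, mem_autInducedBy]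
    refine ⟨(s₁, s₂), Subgroup.mem_prod.2 ⟨hs₁, hs₂⟩, fun x => ?_⟩
    rw [← autFun_coe, he x x.2, ← ee₁ _ (Subgroup.mem_prod.1 x.2).1, i₁ _ (Subgroup.mem_prod.1 x.2).1,
      ← ee₂ _ (Subgroup.mem_prod.1 x.2).2, i₂ _ (Subgroup.mem_prod.1 x.2).2]
    rfl
  · -- fully normalized subgroups are receptive
    obtain ⟨Q₁, hQ₁, hQ₁a, hQ₁r⟩ := hF₁ _ (map_fst_le hP.1)
    obtain ⟨Q₂, hQ₂, hQ₂a, hQ₂r⟩ := hF₂ _ (map_snd_le hP.1)
    obtain ⟨a₁, ha₁, hi₁, -⟩ := exists_map_normalizerIn hp₁ hQ₁a hQ₁r hQ₁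
    obtain ⟨a₂, ha₂, hi₂, -⟩ := exists_map_normalizerIn hp₂ hQ₂a hQ₂r hQ₂
    set N := normalizerIn (S₁.prod S₂) P
    have hle₁ : π₁ N ≤ normalizerIn S₁ (π₁ P) := by
      rintro _ ⟨g, hg, rfl⟩
      exact ⟨(Subgroup.mem_prod.1 hg.1).1, proj_normalizer _ hg.2⟩
    have hle₂ : π₂ N ≤ normalizerIn S₂ (π₂ P) := by
      rintro _ ⟨g, hg, rfl⟩
      exact ⟨(Subgroup.mem_prod.1 hg.1).2, proj_normalizer _ hg.2⟩
    obtain ⟨a, hadef⟩ : ∃ a : Ω₁ × Ω₂ → Ω₁ × Ω₂, ∀ x, a x = (a₁ x.1, a₂ x.2) := ⟨_, fun _ => rfl⟩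
    have ha : IsMap (productSystem F₁ F₂) N a :=
      isMap_product.2 ⟨inf_le_left, a₁, a₂, ha₁.res hle₁, ha₂.res hle₂, fun x _ => hadef x⟩
    have hPN : P ≤ N := le_normalizerIn hP.1
    have haP := ha.res hPN
    set Q := fimg a P with hQdef
    have hQ₁' : π₁ Q = Q₁ := by
      rw [← hi₁]
      ext y
      rw [(ha₁.res ((Subgroup.map_mono hPN).trans hle₁)).mem_fimg_iff, Subgroup.mem_map]
      constructor
      · rintro ⟨z, hz, rfl⟩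
        obtain ⟨x, hx, rfl⟩ := haP.mem_fimg_iff.1 hz
        exact ⟨x.1, fst_mem hx, by rw [hadef]; rfl⟩
      · rintro ⟨_, ⟨x, hx, rfl⟩, rfl⟩
        exact ⟨a x, apply_mem_fimg a hx, by rw [hadef]; rfl⟩
    have hQ₂' : π₂ Q = Q₂ := by
      rw [← hi₂]
      ext y
      rw [(ha₂.res ((Subgroup.map_mono hPN).trans hle₂)).mem_fimg_iff, Subgroup.mem_map]
      constructor
      · rintro ⟨z, hz, rfl⟩
        obtain ⟨x, hx, rfl⟩ := haP.mem_fimg_iff.1 hz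
        exact ⟨x.2, snd_mem hx, by rw [hadef]; rfl⟩
      · rintro ⟨_, ⟨x, hx, rfl⟩, rfl⟩
        exact ⟨a x, apply_mem_fimg a hx, by rw [hadef]; rfl⟩
    have hQr : (productSystem F₁ F₂).IsReceptive Q :=
      receptive_product haP.fimg_le_S (hQ₁'.symm ▸ hQ₁r) (hQ₂'.symm ▸ hQ₂r)
    have himg : fimg a N ≤ normalizerIn (S₁.prod S₂) Q := fimg_le fun g hg => ha.map_normalizerIn hPN hg hg.2
    haveI : Finite ↥(normalizerIn (S₁.prod S₂) Q) := finite_of_le inf_le_left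
    have heq : fimg a N = normalizerIn (S₁.prod S₂) Q :=
      Subgroup.eq_of_le_of_card_ge himg (by rw [ha.card_fimg]; exact hP.2 Q haP.isConj)
    refine receptive_transport hP.1 hQr ha rfl fun c hc => ?_
    obtain ⟨d, hd, rfl⟩ := ha.mem_fimg_iff.1 (heq.ge (centralizerIn_le_normalizerIn Q hc))
    refine ⟨d, mem_centralizerIn.2 ⟨hd.1, fun x hx => ?_⟩, rfl⟩
    refine ha.injOn (N.mul_mem (hPN hx) hd) (N.mul_mem hd (hPN hx)) ?_
    rw [ha.map_mul (hPN hx) hd, ha.map_mul hd (hPN hx)]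
    exact (mem_centralizerIn.1 hc).2 _ (apply_mem_fimg a hx)

end Cfsg.Agent.Fus
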