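import Cfsg.Agent.Lib.Fus.CommCenter
import Cfsg.Agent.Lib.Fus.ProductSat
import Cfsg.Agent.Lib.Fus.FactorExist
import Cfsg.Agent.Lib.Fus.ResidualInvariant

/-!
The central product of two commuting normal subsystems meeting in their centres is normal.
-/

set_option autoImplicit false
set_option linter.style.haveILetI false
set_option linter.unusedSectionVars false

open scoped Classical

universe u

namespace Cfsg.Agent.Fus.Comm

open Subgroup FusionSystem FocalCent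

variable {Ω : Type u} [Group Ω] {S T₁ T₂ U : Subgroup Ω} {F : FusionSystem S}
  {E₁ : FusionSystem T₁} {E₂ : FusionSystem T₂} {D : FusionSystem U} {p : ℕ}

/-- A map of `T₁T₂` made of maps of the two factors on the projections of its source. -/
def Splits (E₁ : FusionSystem T₁) (E₂ : FusionSystem T₂) (P : Subgroup Ω) (f : Ω → Ω) : Prop :=
  P ≤ T₁ ⊔ T₂ ∧ ∃ f₁ f₂, IsMap E₁ ((P ⊔ T₂) ⊓ T₁) f₁ ∧ IsMap E₂ ((P ⊔ T₁) ⊓ T₂) f₂ ∧
    ∀ a ∈ (P ⊔ T₂) ⊓ T₁, ∀ b ∈ (P ⊔ T₁) ⊓ T₂, a * b ∈ P → f (a * b) = f₁ a * f₂ b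

theorem theta_apply {θ : ↥(T₁.prod T₂) →* Ω}
    (h₁ : ∀ (x : Ω) (hx : ((x, 1) : Ω × Ω) ∈ T₁.prod T₂), θ ⟨(x, 1), hx⟩ = x)
    (h₂ : ∀ (y : Ω) (hy : ((1, y) : Ω × Ω) ∈ T₁.prod T₂), θ ⟨(1, y), hy⟩ = y) {a b : Ω}
    (h : (a, b) ∈ T₁.prod T₂) : θ ⟨(a, b), h⟩ = a * b := by
  obtain ⟨ha, hb⟩ := Subgroup.mem_prod.1 h
  have ha' : ((a, 1) : Ω × Ω) ∈ T₁.prod T₂ := Subgroup.mem_prod.2 ⟨ha, T₂.one_mem⟩
  have hb' : ((1, b) : Ω × Ω) ∈ T₁.prod T₂ := Subgroup.mem_prod.2 ⟨T₁.one_mem, hb⟩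
  conv_rhs => rw [← h₁ a ha', ← h₂ b hb', ← map_mul]
  exact congrArg θ (Subtype.ext (Prod.ext (mul_one a).symm (one_mul b).symm))

theorem comm_of_theta {θ : ↥(T₁.prod T₂) →* Ω}
    (h₁ : ∀ (x : Ω) (hx : ((x, 1) : Ω × Ω) ∈ T₁.prod T₂), θ ⟨(x, 1), hx⟩ = x)
    (h₂ : ∀ (y : Ω) (hy : ((1, y) : Ω × Ω) ∈ T₁.prod T₂), θ ⟨(1, y), hy⟩ = y) :
    ∀ a ∈ T₁, ∀ b ∈ T₂, a * b = b * a := by
  intro a ha b hb
  have ha' : ((a, 1) : Ω × Ω) ∈ T₁.prod T₂ := Subgroup.mem_prod.2 ⟨ha, T₂.one_mem⟩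
  have hb' : ((1, b) : Ω × Ω) ∈ T₁.prod T₂ := Subgroup.mem_prod.2 ⟨T₁.one_mem, hb⟩
  conv_lhs => rw [← h₁ a ha', ← h₂ b hb', ← map_mul]
  conv_rhs => rw [← h₁ a ha', ← h₂ b hb', ← map_mul]
  exact congrArg θ (Subtype.ext (Prod.ext (by simp) (by simp)))

theorem range_theta {θ : ↥(T₁.prod T₂) →* Ω}
    (h₁ : ∀ (x : Ω) (hx : ((x, 1) : Ω × Ω) ∈ T₁.prod T₂), θ ⟨(x, 1), hx⟩ = x)
    (h₂ : ∀ (y : Ω) (hy : ((1, y) : Ω × Ω) ∈ T₁.prod T₂), θ ⟨(1, y), hy⟩ = y) :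
    θ.range = T₁ ⊔ T₂ := by
  refine le_antisymm ?_ (sup_le (fun a ha => ?_) fun b hb => ?_)
  · rintro _ ⟨⟨⟨a, b⟩, hab⟩, rfl⟩
    rw [theta_apply h₁ h₂]
    exact Subgroup.mul_mem_sup (Subgroup.mem_prod.1 hab).1 (Subgroup.mem_prod.1 hab).2
  · exact ⟨_, h₁ a (Subgroup.mem_prod.2 ⟨ha, T₂.one_mem⟩)⟩
  · exact ⟨_, h₂ b (Subgroup.mem_prod.2 ⟨T₁.one_mem, hb⟩)⟩

/-- The maps of a central product. -/
theorem isMap_iff_splits (hc : IsCentralProductOf E₁ E₂ D) :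
    U = T₁ ⊔ T₂ ∧ ∀ (P : Subgroup Ω) (f : Ω → Ω), IsMap D P f ↔ Splits E₁ E₂ P f := by
  obtain ⟨D₀, hD₀, Z, θ, -, -, -, h₁, h₂, hfac⟩ := hc
  have hU : U = T₁ ⊔ T₂ := hfac.2.2.1.symm.trans (range_theta h₁ h₂)
  have hcomm := comm_of_theta h₁ h₂
  have hnorm : T₁ ≤ Subgroup.normalizer (T₂ : Set Ω) := fun a ha => mem_normalizer_of_forall
    (fun b hb => by rw [hcomm a ha b hb, mul_inv_cancel_right]; exact hb)
    fun b hb => by rw [hcomm a⁻¹ (T₁.inv_mem ha) b hb, inv_mul_cancel_right]; exact hb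
  refine ⟨hU, fun P f => ?_⟩
  set P' := preimageAlong θ P with hP'
  have hmem : ∀ {a b : Ω}, (a, b) ∈ P' ↔ a ∈ T₁ ∧ b ∈ T₂ ∧ a * b ∈ P := by
    intro a b
    constructor
    · intro h
      obtain ⟨h0, hx⟩ := mem_preimageAlong.1 h
      rw [theta_apply h₁ h₂] at hx
      exact ⟨(Subgroup.mem_prod.1 h0).1, (Subgroup.mem_prod.1 h0).2, hx⟩
    · rintro ⟨ha, hb, hab⟩
      exact mem_preimageAlong.2 ⟨Subgroup.mem_prod.2 ⟨ha, hb⟩, (theta_apply h₁ h₂ _).symm ▸ hab⟩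
  have hproj : P ≤ T₁ ⊔ T₂ → P'.map (MonoidHom.fst Ω Ω) = (P ⊔ T₂) ⊓ T₁ ∧
      P'.map (MonoidHom.snd Ω Ω) = (P ⊔ T₁) ⊓ T₂ := by
    intro hP
    constructor
    · ext a
      constructor
      · rintro ⟨⟨x, y⟩, hxy, rfl⟩
        obtain ⟨hx, hy, hxyP⟩ := hmem.1 hxy
        have h := mul_mem (Subgroup.mem_sup_left (T := T₂) hxyP)
          (Subgroup.mem_sup_right (inv_mem hy))
        rw [mul_inv_cancel_right] at h
        exact ⟨h, hx⟩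
      · rintro ⟨ha, ha1⟩
        obtain ⟨r, hr, y, hy, rfl⟩ := mem_sup_dest (hP.trans
          (sup_le hnorm Subgroup.le_normalizer)) ha
        exact ⟨(r * y, y⁻¹), hmem.2 ⟨ha1, inv_mem hy, by rwa [mul_inv_cancel_right]⟩, rfl⟩
    · ext b
      constructor
      · rintro ⟨⟨x, y⟩, hxy, rfl⟩
        obtain ⟨hx, hy, hxyP⟩ := hmem.1 hxy
        have h := mul_mem (Subgroup.mem_sup_right (S := P) (inv_mem hx))
          (Subgroup.mem_sup_left hxyP)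
        rw [inv_mul_cancel_left] at h
        exact ⟨h, hy⟩
      · rintro ⟨hb, hb1⟩
        rw [sup_comm] at hb
        have hnorm' : P ≤ Subgroup.normalizer (T₁ : Set Ω) := hP.trans (sup_le
          Subgroup.le_normalizer fun b hb => mem_normalizer_of_forall
            (fun a ha => by rw [← hcomm a ha b hb, mul_inv_cancel_right]; exact ha)
            fun a ha => by rw [mul_assoc, hcomm a ha b hb, inv_mul_cancel_left]; exact ha)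
        obtain ⟨r, hr, x, hx, e⟩ := mem_sup_dest hnorm' (sup_comm P T₁ ▸ hb)
        refine ⟨(r * x⁻¹ * r⁻¹, b), hmem.2 ⟨(Subgroup.mem_normalizer_iff.1 (hnorm' hr) _).1
          (inv_mem hx), hb1, ?_⟩, rfl⟩
        rw [← e]
        simpa using hr
  constructor
  · intro hf
    obtain ⟨φ', hφ', e'⟩ := hf.exists_hom
    obtain ⟨hPU, φ, hφ, hle, hφS, hmem', hind⟩ := (hfac.2.2.2 P φ').1 hφ'
    have hP := hPU.trans hU.le
    obtain ⟨-, φ₁, hφ₁, φ₂, hφ₂, he⟩ := (hD₀ P' φ).1 hφ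
    obtain ⟨hp₁, hp₂⟩ := hproj hP
    refine ⟨hP, toFun φ₁, toFun φ₂, hp₁ ▸ isMap_toFun hφ₁, hp₂ ▸ isMap_toFun hφ₂,
      fun a ha b hb hab => ?_⟩
    have hx : (a, b) ∈ P' := hmem.2 ⟨ha.2, hb.2, hab⟩
    have h := hind ⟨_, hx⟩
    have e : φ ⟨_, hx⟩ = (toFun φ₁ a, toFun φ₂ b) := by
      rw [toFun_apply φ₁ (hp₁ ▸ ha), toFun_apply φ₂ (hp₂ ▸ hb)]
      exact he ⟨_, hx⟩ _ _
    rw [e'] at h
    calc f (a * b) = f (θ ⟨(a, b), hle hx⟩) := by rw [theta_apply h₁ h₂]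
      _ = θ ⟨φ ⟨_, hx⟩, hφS _⟩ := h
      _ = θ ⟨(toFun φ₁ a, toFun φ₂ b), e ▸ hφS _⟩ := congrArg θ (Subtype.ext e)
      _ = toFun φ₁ a * toFun φ₂ b := theta_apply h₁ h₂ _
  · rintro ⟨hP, f₁, f₂, hf₁, hf₂, he⟩
    obtain ⟨hp₁, hp₂⟩ := hproj hP
    obtain ⟨φ₁, hφ₁, e₁⟩ := (hp₁.symm ▸ hf₁ : IsMap E₁ (P'.map (MonoidHom.fst Ω Ω)) f₁).exists_hom
    obtain ⟨φ₂, hφ₂, e₂⟩ := (hp₂.symm ▸ hf₂ : IsMap E₂ (P'.map (MonoidHom.snd Ω Ω)) f₂).exists_hom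
    let φ : P' →* Ω × Ω := MonoidHom.mk' (fun x => (φ₁ ⟨(x : Ω × Ω).1, fst_mem x.2⟩,
      φ₂ ⟨(x : Ω × Ω).2, snd_mem x.2⟩)) fun x y => by
        refine Prod.ext ?_ ?_
        · exact (congrArg φ₁ (Subtype.ext rfl)).trans (map_mul φ₁ ⟨_, fst_mem x.2⟩ ⟨_, fst_mem y.2⟩)
        · exact (congrArg φ₂ (Subtype.ext rfl)).trans (map_mul φ₂ ⟨_, snd_mem x.2⟩ ⟨_, snd_mem y.2⟩)
    have hφ : φ ∈ D₀.Hom P' :=
      (hD₀ P' φ).2 ⟨preimageAlong_le P, φ₁, hφ₁, φ₂, hφ₂, fun x a b => rfl⟩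
    have hadd : ∀ x : P', θ ⟨φ x, (D₀.le_of_mem hφ).2 x⟩ =
        f (θ ⟨x, preimageAlong_le P x.2⟩) := by
      rintro ⟨⟨a, b⟩, hx⟩
      obtain ⟨ha, hb, hab⟩ := hmem.1 hx
      have h := he a (hp₁ ▸ fst_mem hx) b (hp₂ ▸ snd_mem hx) hab
      rw [theta_apply h₁ h₂ (preimageAlong_le P hx), h]
      exact (theta_apply (a := φ₁ ⟨a, fst_mem hx⟩) (b := φ₂ ⟨b, snd_mem hx⟩) h₁ h₂ _).trans
        (by rw [e₁, e₂])
    have hsurj : ∀ y ∈ P, ∃ x : P', θ ⟨x, preimageAlong_le P x.2⟩ = y := by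
      intro y hy
      obtain ⟨a, ha, b, hb, rfl⟩ := mem_sup_dest hnorm (hP hy)
      exact ⟨⟨(a, b), hmem.2 ⟨ha, hb, hy⟩⟩, theta_apply h₁ h₂ _⟩
    have hmul : ∀ y ∈ P, ∀ z ∈ P, f (y * z) = f y * f z := by
      intro y hy z hz
      obtain ⟨a, rfl⟩ := hsurj y hy
      obtain ⟨b, rfl⟩ := hsurj z hz
      rw [← hadd a, ← hadd b, ← map_mul, ← map_mul]
      have h := hadd (a * b)
      refine (Eq.trans ?_ (h.symm)).trans ?_
      · exact congrArg (fun w => f (θ w)) (Subtype.ext rfl)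
      · exact congrArg θ (Subtype.ext (map_mul φ a b))
    let φ' : P →* Ω := MonoidHom.mk' (fun y => f y) fun y z => hmul y y.2 z z.2
    refine ⟨φ', (hfac.2.2.2 P φ').2 ⟨hU.symm ▸ hP, φ, hφ, preimageAlong_le P, (D₀.le_of_mem hφ).2,
      fun x => (mem_preimageAlong.1 x.2).2, fun x => (hadd x).symm⟩, fun y => rfl⟩

variable [Finite S] [Fact p.Prime]

/-- Two commuting normal subsystems meeting in their centres. -/
structure Factors (F : FusionSystem S) (p : ℕ) (E₁ : FusionSystem T₁) (E₂ : FusionSystem T₂) :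
    Prop where
  pG : IsPGroup p S
  sat : F.IsSaturated p
  n₁ : E₁.IsNormalIn F p
  n₂ : E₂.IsNormalIn F p
  comm : ∀ a ∈ T₁, ∀ b ∈ T₂, a * b = b * a
  z₁ : T₁ ⊓ T₂ ≤ E₁.center
  z₂ : T₁ ⊓ T₂ ≤ E₂.center

theorem Factors.symm (d : Factors F p E₁ E₂) : Factors F p E₂ E₁ :=
  ⟨d.pG, d.sat, d.n₂, d.n₁, fun a ha b hb => (d.comm b hb a ha).symm, inf_comm T₁ T₂ ▸ d.z₂,
    inf_comm T₁ T₂ ▸ d.z₁⟩

theorem Factors.pair (d : Factors F p E₁ E₂) : Pair F p T₁ T₂ :=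
  ⟨d.pG, d.sat, d.n₁.1.2.2.2.1, d.n₂.1.2.2.2.1, d.comm⟩

theorem Factors.act (d : Factors F p E₁ E₂) : Act F p E₁ T₂ :=
  ⟨d.pG, d.sat, d.n₁, d.n₂.1.2.2.2.1⟩

theorem Factors.fixes (d : Factors F p E₁ E₂) {P : Subgroup Ω} {f : Ω → Ω} (hf : IsMap E₁ P f) :
    Fixes F T₂ P f :=
  d.act.maps_fix (fun a ha b hb => (d.comm b hb a ha).symm) (inf_comm T₁ T₂ ▸ d.z₁) hf

/-- The central product is saturated. -/
theorem Factors.saturated (d : Factors F p E₁ E₂) (hc : IsCentralProductOf E₁ E₂ D) :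
    D.IsSaturated p := by
  obtain ⟨D₀, hD₀, Z, θ, hZ, -, -, -, -, hfac⟩ := hc
  obtain rfl : D₀ = productSystem E₁ E₂ := eq_of_hom_eq fun P => Set.ext fun φ =>
    (hD₀ P φ).trans (isProductSystem_productSystem E₁ E₂ P φ).symm
  haveI : Finite T₁ := finite_of_le d.pair.sc₁.1
  haveI : Finite T₂ := finite_of_le d.pair.sc₂.1
  have hp₁ := d.pG.to_le d.pair.sc₁.1
  have hp₂ := d.pG.to_le d.pair.sc₂.1
  haveI : Finite ↥(T₁.prod T₂) := Finite.of_equiv _ (T₁.prodEquiv T₂).symm.toEquiv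
  have hp : IsPGroup p ↥(T₁.prod T₂) := by
    obtain ⟨a, ha⟩ := IsPGroup.iff_card.1 hp₁
    obtain ⟨b, hb⟩ := IsPGroup.iff_card.1 hp₂
    refine IsPGroup.of_card (n := a + b) ?_
    rw [Nat.card_congr (T₁.prodEquiv T₂).toEquiv, Nat.card_prod, ha, hb, pow_add]
  refine isSaturated_factor hp (isSaturated_productSystem hp₁ hp₂ d.n₁.1.1 d.n₂.1.1)
    (stronglyClosed_of_forall hfac.1 fun R hR f hf x hx => ?_) hfac
  rw [fix_center hf hx (hZ (hR hx))]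
  exact hR hx

/-- The central product lies in the ambient system. -/
theorem Factors.subsystem (d : Factors F p E₁ E₂) (hc : IsCentralProductOf E₁ E₂ D) :
    D.IsSubsystemOf F := by
  intro P φ hφ
  obtain ⟨hP, f₁, f₂, hf₁, hf₂, he⟩ := ((isMap_iff_splits hc).2 P _).1 (isMap_toFun hφ)
  obtain ⟨g₁, hg₁, hg₁e, hg₁T⟩ := d.fixes hf₁
  obtain ⟨g₂, hg₂, hg₂e, hg₂T⟩ := d.symm.fixes hf₂
  set P₁ := (P ⊔ T₂) ⊓ T₁
  set P₂ := (P ⊔ T₁) ⊓ T₂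
  have hP₂T : P₂ ≤ T₂ := inf_le_right
  have hm := hg₁.res (sup_le_sup_left hP₂T P₁)
  have hmem : ∀ x ∈ P₁ ⊔ P₂, g₁ x ∈ P₂ ⊔ T₁ := by
    intro x hx
    have h := apply_mem_fimg g₁ hx
    rw [hm.fimg_sup, fimg_congr hg₁e,
      fimg_congr (P := P₂) (g := fun y => y) fun y hy => hg₁T y (hP₂T hy), fimg_id] at h
    exact (sup_le (hf₁.fimg_le_S.trans le_sup_right) le_sup_left :
      fimg f₁ P₁ ⊔ P₂ ≤ P₂ ⊔ T₁) h
  refine mem_hom_iff.2 (((hm.comp hg₂ hmem).res (le_hat d.pair hP)).congr fun x hx => ?_)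
  obtain ⟨a, ha, b, hb, rfl⟩ := decomp d.pair hP hx
  show g₂ (g₁ (a * b)) = _
  rw [hm.map_mul (Subgroup.mem_sup_left ha) (Subgroup.mem_sup_right hb), hg₁e a ha, hg₁T b (hP₂T hb),
    hg₂.map_mul (Subgroup.mem_sup_right (hf₁.apply_mem ha)) (Subgroup.mem_sup_left hb),
    hg₂e b hb, hg₂T _ (hf₁.apply_mem ha)]
  exact (he a ha b hb hx).symm

/-- The central product is normal. -/
theorem Factors.normal (d : Factors F p E₁ E₂) (hc : IsCentralProductOf E₁ E₂ D) :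
    D.IsNormalIn F p := by
  obtain ⟨hU, hmap⟩ := isMap_iff_splits hc
  subst hU
  have hsub := d.subsystem hc
  have hpair := d.pair
  have hT := stronglyClosed_sup d.pG d.sat hpair.sc₁ hpair.sc₂
  have hDs := d.saturated hc
  have hinv : D.IsInvariantIn F := by
    have hstrong : StrongInv F D := by
      intro P Q f u hPQ hQ hf hfm hu
      obtain ⟨hP, f₁, f₂, hf₁, hf₂, he⟩ := (hmap P f).1 hf
      obtain ⟨g, hg, hge⟩ := extend hpair hQ hu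
      have hPQ₁ : (P ⊔ T₂) ⊓ T₁ ≤ (Q ⊔ T₂) ⊓ T₁ := inf_le_inf_right _ (sup_le_sup_right hPQ _)
      have hPQ₂ : (P ⊔ T₁) ⊓ T₂ ≤ (Q ⊔ T₁) ⊓ T₂ := inf_le_inf_right _ (sup_le_sup_right hPQ _)
      have hfs : ∀ a ∈ (P ⊔ T₂) ⊓ T₁, ∀ b ∈ (P ⊔ T₁) ⊓ T₂, a * b ∈ P →
          f₁ a ∈ (Q ⊔ T₂) ⊓ T₁ ∧ f₂ b ∈ (Q ⊔ T₁) ⊓ T₂ := by
        intro a ha b hb hab
        have hq := hfm _ hab
        rw [he a ha b hb hab] at hq
        have h₁ := mul_mem (Subgroup.mem_sup_left (T := T₂) hq)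
          (Subgroup.mem_sup_right (inv_mem (hf₂.apply_mem hb)))
        have h₂ := mul_mem (Subgroup.mem_sup_right (S := Q) (inv_mem (hf₁.apply_mem ha)))
          (Subgroup.mem_sup_left hq)
        rw [mul_inv_cancel_right] at h₁
        rw [inv_mul_cancel_left] at h₂
        exact ⟨⟨h₁, hf₁.apply_mem ha⟩, ⟨h₂, hf₂.apply_mem hb⟩⟩
      have hm₁ : ∀ a ∈ (P ⊔ T₂) ⊓ T₁, f₁ a ∈ (Q ⊔ T₂) ⊓ T₁ := by
        intro a ha
        obtain ⟨r, hr, b, hb, rfl⟩ := mem_sup_dest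
          ((hP.trans hT.1).trans (le_normalizer_of_stronglyClosed hpair.sc₂)) ha.1
        have hb' : b⁻¹ ∈ (P ⊔ T₁) ⊓ T₂ := ⟨by
          have h := mul_mem (Subgroup.mem_sup_right (S := P) (inv_mem ha.2))
            (Subgroup.mem_sup_left hr)
          rwa [mul_inv_rev, mul_assoc, inv_mul_cancel, mul_one] at h, Subgroup.inv_mem _ hb⟩
        exact (hfs _ ha _ hb' (by rwa [mul_inv_cancel_right])).1
      have hm₂ : ∀ b ∈ (P ⊔ T₁) ⊓ T₂, f₂ b ∈ (Q ⊔ T₁) ⊓ T₂ := by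
        intro b hb
        obtain ⟨r, hr, a, ha, rfl⟩ := mem_sup_dest
          ((hP.trans hT.1).trans (le_normalizer_of_stronglyClosed hpair.sc₁)) hb.1
        have ha' : r * a⁻¹ * r⁻¹ ∈ T₁ :=
          StronglyClosed.conj_mem' hpair.sc₁ ((hP.trans hT.1) hr) (inv_mem ha)
        have e : r * a⁻¹ * r⁻¹ * (r * a) = r := by group
        have ha'' : r * a⁻¹ * r⁻¹ ∈ (P ⊔ T₂) ⊓ T₁ := ⟨by
          have h := mul_mem (Subgroup.mem_sup_left (T := T₂) hr)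
            (Subgroup.mem_sup_right (inv_mem hb.2))
          rwa [mul_inv_rev, ← mul_assoc] at h, ha'⟩
        exact (hfs _ ha'' _ hb (by rwa [e])).2
      obtain ⟨k₁, hk₁, hk₁e⟩ := ResInv.strongInv_of_invariant d.n₁.1.2.2 _ _ f₁ g hPQ₁
        inf_le_right hf₁ hm₁ (hg.res le_sup_left)
      obtain ⟨k₂, hk₂, hk₂e⟩ := ResInv.strongInv_of_invariant d.n₂.1.2.2 _ _ f₂ g hPQ₂
        inf_le_right hf₂ hm₂ (hg.res le_sup_right)
      obtain ⟨w, hw, hw1, -, -⟩ := (hu.res hPQ).exists_inv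
      refine ⟨fun y => u (f (w y)), (hmap _ _).2 ?_, fun x hx => ?_⟩
      swap
      · show u (f (w (u x))) = u (f x)
        rw [hw1 x hx]
      have huP : fimg u P ≤ T₁ ⊔ T₂ := fimg_le fun x hx =>
        StronglyClosed.apply_mem hT (hu.res hPQ) hP hx
      have hP₁Q : (P ⊔ T₂) ⊓ T₁ ≤ hat T₁ T₂ Q := hPQ₁.trans le_sup_left
      have hP₂Q : (P ⊔ T₁) ⊓ T₂ ≤ hat T₁ T₂ Q := hPQ₂.trans le_sup_right
      have hgPQ := hg.res (le_hat hpair hQ)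
      have himg : ∀ {y : Ω}, y ∈ fimg u P → ∃ a ∈ (P ⊔ T₂) ⊓ T₁, ∃ b ∈ (P ⊔ T₁) ⊓ T₂,
          a * b ∈ P ∧ y = g a * g b ∧ y = u (a * b) := by
        intro y hy
        obtain ⟨x, hx, rfl⟩ := (hu.res hPQ).mem_fimg_iff.1 hy
        obtain ⟨a, ha, b, hb, rfl⟩ := decomp hpair hP hx
        refine ⟨a, ha, b, hb, hx, ?_, rfl⟩
        rw [← hg.map_mul (hP₁Q ha) (hP₂Q hb), hge _ (hPQ hx)]
      have side₁ : fimg g ((P ⊔ T₂) ⊓ T₁) = (fimg u P ⊔ T₂) ⊓ T₁ := by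
        refine le_antisymm (fimg_le fun a ha => ?_) fun c hc => ?_
        · obtain ⟨r, hr, b, hb, rfl⟩ := mem_sup_dest
            ((hP.trans hT.1).trans (le_normalizer_of_stronglyClosed hpair.sc₂)) ha.1
          have hb' : b ∈ (P ⊔ T₁) ⊓ T₂ := ⟨by
            have h := mul_mem (Subgroup.mem_sup_left (T := T₁) (inv_mem hr))
              (Subgroup.mem_sup_right ha.2)
            rwa [inv_mul_cancel_left] at h, hb⟩
          have hsc := fun {X : Subgroup Ω} (hX : F.StronglyClosed X) {z : Ω} (hz : z ∈ hat T₁ T₂ Q)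
              (hzX : z ∈ X) => StronglyClosed.apply_mem hX
                (hg.res (inf_le_left : hat T₁ T₂ Q ⊓ X ≤ _)) inf_le_right ⟨hz, hzX⟩
          refine ⟨?_, hsc hpair.sc₁ (hP₁Q ha) ha.2⟩
          rw [hg.map_mul (le_hat hpair hQ (hPQ hr)) (hP₂Q hb'), hge r (hPQ hr)]
          exact mul_mem (Subgroup.mem_sup_left (apply_mem_fimg u hr))
            (Subgroup.mem_sup_right (hsc hpair.sc₂ (hP₂Q hb') hb))
        · obtain ⟨y, hy, t, ht, e⟩ := mem_sup_dest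
            ((huP.trans hT.1).trans (le_normalizer_of_stronglyClosed hpair.sc₂)) hc.1
          obtain ⟨a, ha, b, hb, hab, hy1, -⟩ := himg hy
          have hga : g a ∈ T₁ := StronglyClosed.apply_mem hpair.sc₁
            (hg.res hP₁Q) inf_le_right ha
          have hgb : g b ∈ T₂ := StronglyClosed.apply_mem hpair.sc₂
            (hg.res hP₂Q) inf_le_right hb
          have hz : g b * t ∈ T₁ ⊓ T₂ := by
            refine ⟨?_, T₂.mul_mem hgb ht⟩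
            rw [show g b * t = (g a)⁻¹ * c by rw [← e, hy1]; group]
            exact T₁.mul_mem (T₁.inv_mem hga) hc.2
          have hZ₁ : T₁ ⊓ T₂ ≤ (P ⊔ T₂) ⊓ T₁ := fun z hz => ⟨Subgroup.mem_sup_right hz.2, hz.1⟩
          haveI := finite_of_le (stronglyClosed_inf hpair.sc₁ hpair.sc₂).1
          obtain ⟨z₀, hz₀, hz₀e⟩ := (hg.res (hZ₁.trans hP₁Q)).mem_fimg_iff.1
            ((fimg_stronglyClosed (stronglyClosed_inf hpair.sc₁ hpair.sc₂)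
              (hg.res (hZ₁.trans hP₁Q)) le_rfl).ge hz)
          have h := apply_mem_fimg g (mul_mem ha (hZ₁ hz₀))
          rwa [hg.map_mul (hP₁Q ha) (hP₁Q (hZ₁ hz₀)), hz₀e, ← mul_assoc, ← hy1, e] at h
      have side₂ : fimg g ((P ⊔ T₁) ⊓ T₂) = (fimg u P ⊔ T₁) ⊓ T₂ := by
        refine le_antisymm (fimg_le fun b hb => ?_) fun c hc => ?_
        · obtain ⟨r, hr, a, ha, rfl⟩ := mem_sup_dest
            ((hP.trans hT.1).trans (le_normalizer_of_stronglyClosed hpair.sc₁)) hb.1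
          have ha' : a ∈ (P ⊔ T₂) ⊓ T₁ := ⟨by
            have h := mul_mem (Subgroup.mem_sup_left (T := T₂) (inv_mem hr))
              (Subgroup.mem_sup_right hb.2)
            rwa [inv_mul_cancel_left] at h, ha⟩
          refine ⟨?_, StronglyClosed.apply_mem hpair.sc₂ (hg.res hP₂Q) inf_le_right hb⟩
          rw [hg.map_mul (le_hat hpair hQ (hPQ hr)) (hP₁Q ha'), hge r (hPQ hr)]
          exact mul_mem (Subgroup.mem_sup_left (apply_mem_fimg u hr))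
            (Subgroup.mem_sup_right (StronglyClosed.apply_mem hpair.sc₁ (hg.res hP₁Q)
              inf_le_right ha'))
        · obtain ⟨y, hy, t, ht, e⟩ := mem_sup_dest
            ((huP.trans hT.1).trans (le_normalizer_of_stronglyClosed hpair.sc₁)) hc.1
          obtain ⟨a, ha, b, hb, hab, hy1, -⟩ := himg hy
          have hga : g a ∈ T₁ := StronglyClosed.apply_mem hpair.sc₁
            (hg.res hP₁Q) inf_le_right ha
          have hgb : g b ∈ T₂ := StronglyClosed.apply_mem hpair.sc₂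
            (hg.res hP₂Q) inf_le_right hb
          have hz : g a * t ∈ T₁ ⊓ T₂ := by
            refine ⟨T₁.mul_mem hga ht, ?_⟩
            rw [show g a * t = (g b)⁻¹ * c by
              rw [← e, hy1, hpair.comm _ hga _ hgb]; group]
            exact T₂.mul_mem (T₂.inv_mem hgb) hc.2
          have hZ₂ : T₁ ⊓ T₂ ≤ (P ⊔ T₁) ⊓ T₂ := fun z hz => ⟨Subgroup.mem_sup_right hz.1, hz.2⟩
          haveI := finite_of_le (stronglyClosed_inf hpair.sc₁ hpair.sc₂).1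
          obtain ⟨z₀, hz₀, hz₀e⟩ := (hg.res (hZ₂.trans hP₂Q)).mem_fimg_iff.1
            ((fimg_stronglyClosed (stronglyClosed_inf hpair.sc₁ hpair.sc₂)
              (hg.res (hZ₂.trans hP₂Q)) le_rfl).ge hz)
          have h := apply_mem_fimg g (mul_mem hb (hZ₂ hz₀))
          rwa [hg.map_mul (hP₂Q hb) (hP₂Q (hZ₂ hz₀)), hz₀e, ← mul_assoc, ← hpair.comm _ hga _ hgb,
            ← hy1, e] at h
      refine ⟨huP, k₁, k₂, side₁ ▸ hk₁, side₂ ▸ hk₂, fun c hc e' he' hce => ?_⟩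
      show u (f (w (c * e'))) = k₁ c * k₂ e'
      obtain ⟨a, ha, rfl⟩ := (hg.res hP₁Q).mem_fimg_iff.1 (side₁.ge hc)
      obtain ⟨b, hb, rfl⟩ := (hg.res hP₂Q).mem_fimg_iff.1 (side₂.ge he')
      have hab : a * b ∈ P := by
        rw [← hg.map_mul (hP₁Q ha) (hP₂Q hb)] at hce
        obtain ⟨x, hx, hxe⟩ := (hu.res hPQ).mem_fimg_iff.1 hce
        have h := hg.injOn (le_hat hpair hQ (hPQ hx)) (mul_mem (hP₁Q ha) (hP₂Q hb))
          (by rw [hge x (hPQ hx), hxe])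
        exact h ▸ hx
      rw [hk₁e a ha, hk₂e b hb, ← hg.map_mul (Subgroup.mem_sup_left (hm₁ a ha))
        (Subgroup.mem_sup_right (hm₂ b hb)), ← hg.map_mul (hP₁Q ha) (hP₂Q hb), hge _ (hPQ hab),
        hw1 _ hab, he a ha b hb hab]
      exact (hge _ (he a ha b hb hab ▸ hfm _ hab)).symm
    exact ResInv.isInvariantIn_of_strongInv hsub hT hstrong
      fun hP hf => dec_of_strongInv d.pG d.sat hstrong hT hP hf
  refine ⟨⟨hDs, d.sat, hinv⟩, fun α hα => ?_⟩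
  obtain ⟨-, f₁, f₂, hf₁, hf₂, he⟩ := (hmap _ _).1 ((mem_autGroup le_rfl).1 hα)
  have eP₁ : (T₁ ⊔ T₂ ⊔ T₂) ⊓ T₁ = T₁ := inf_eq_right.2 (le_sup_left.trans le_sup_left)
  have eP₂ : (T₁ ⊔ T₂ ⊔ T₁) ⊓ T₂ = T₂ := inf_eq_right.2 (le_sup_right.trans le_sup_left)
  rw [eP₁] at hf₁
  rw [eP₂] at hf₂
  haveI : Finite T₁ := finite_of_le hpair.sc₁.1
  haveI : Finite T₂ := finite_of_le hpair.sc₂.1
  obtain ⟨α₁, hα₁, hα₁e⟩ := hf₁.exists_aut (fimg_eq_self_of_source_top hf₁)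
  obtain ⟨α₂, hα₂, hα₂e⟩ := hf₂.exists_aut (fimg_eq_self_of_source_top hf₂)
  obtain ⟨g₁, hg₁, hg₁e, hg₁T, hg₁c⟩ := d.act.extend_top
    (fun a ha b hb => (d.comm b hb a ha).symm) (inf_comm T₁ T₂ ▸ d.z₁) hα₁
  obtain ⟨g₂, hg₂, hg₂e, hg₂T, hg₂c⟩ := d.symm.act.extend_top d.comm d.z₂ hα₂
  set W := T₁ ⊔ T₂ ⊔ centralizerIn S (T₁ ⊔ T₂) with hW
  have hC₁ : centralizerIn S (T₁ ⊔ T₂) ≤ centralizerIn S T₁ := fun c hc =>
    ⟨hc.1, fun x hx => hc.2 x (Subgroup.mem_sup_left hx)⟩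
  have hC₂ : centralizerIn S (T₁ ⊔ T₂) ≤ centralizerIn S T₂ := fun c hc =>
    ⟨hc.1, fun x hx => hc.2 x (Subgroup.mem_sup_right hx)⟩
  have hT₂C : T₂ ≤ centralizerIn S T₁ := fun b hb =>
    ⟨hpair.sc₂.1 hb, fun a ha => d.comm a ha b hb⟩
  have hT₁C : T₁ ≤ centralizerIn S T₂ := fun a ha =>
    ⟨hpair.sc₁.1 ha, fun b hb => (d.comm a ha b hb).symm⟩
  have hW₁ : W ≤ T₁ ⊔ centralizerIn S T₁ :=
    sup_le (sup_le le_sup_left (hT₂C.trans le_sup_right)) (hC₁.trans le_sup_right)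
  have hW₂ : W ≤ T₂ ⊔ centralizerIn S T₂ :=
    sup_le (sup_le (hT₁C.trans le_sup_right) le_sup_left) (hC₂.trans le_sup_right)
  have hWS : W ≤ S := sup_le hT.1 inf_le_left
  haveI : Finite ↥W := finite_of_le hWS
  have hZT : ∀ z ∈ T₁ ⊓ Subgroup.centralizer (T₁ : Set Ω), z ∈
      Subgroup.centralizer ((T₁ ⊔ T₂ : Subgroup Ω) : Set Ω) := fun z hz x hx => by
    obtain ⟨a, ha, b, hb, rfl⟩ := mem_sup_dest (comm_normalizer hpair) hx
    rw [mul_assoc, ← d.comm z hz.1 b hb, ← mul_assoc, hz.2 a ha, mul_assoc]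
  have hZT' : ∀ z ∈ T₂ ⊓ Subgroup.centralizer (T₂ : Set Ω), z ∈
      Subgroup.centralizer ((T₁ ⊔ T₂ : Subgroup Ω) : Set Ω) := fun z hz x hx => by
    obtain ⟨a, ha, b, hb, rfl⟩ := mem_sup_dest (comm_normalizer hpair) hx
    rw [mul_assoc, hz.2 b hb, ← mul_assoc, d.comm a ha z hz.1, mul_assoc]
  have hm := (hg₁.res hW₁)
  have h1C : ∀ c ∈ centralizerIn S (T₁ ⊔ T₂), g₁ c ∈ centralizerIn S (T₁ ⊔ T₂) := fun c hc => by
    have h := hg₁c c (hC₁ hc)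
    rw [show g₁ c = c * (c⁻¹ * g₁ c) by group]
    exact Subgroup.mul_mem _ hc ⟨hpair.sc₁.1 h.1, hZT _ h⟩
  have hmem : ∀ x ∈ W, g₁ x ∈ W := fun x hx => by
    have h := apply_mem_fimg g₁ hx
    rw [hW, hm.fimg_sup] at h
    refine (sup_le ((fimg_le fun y hy => Subgroup.mem_sup_left ?_)) (fimg_le fun c hc =>
      Subgroup.mem_sup_right (h1C c hc)) : _ ≤ W) h
    exact StronglyClosed.apply_mem hT (hm.res le_sup_left) le_rfl hy
  have hg := hm.comp (hg₂.res hW₂) hmem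
  have hval : ∀ x ∈ T₁ ⊔ T₂, g₂ (g₁ x) = autFun α x := by
    intro x hx
    obtain ⟨a, ha, b, hb, rfl⟩ := mem_sup_dest (comm_normalizer hpair) hx
    rw [hm.map_mul (Subgroup.mem_sup_left (Subgroup.mem_sup_left ha))
        (Subgroup.mem_sup_left (Subgroup.mem_sup_right hb)), hg₁e a ha, hg₁T b hb,
      hg₂.map_mul (Subgroup.mem_sup_right (hT₁C (autFun_mem α₁ ha)))
        (Subgroup.mem_sup_left hb), hg₂T _ (autFun_mem α₁ ha), hg₂e b hb, hα₁e a ha, hα₂e b hb,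
      he a (eP₁.ge ha) b (eP₂.ge hb) hx]
  have h2C : ∀ c ∈ centralizerIn S (T₁ ⊔ T₂),
      c⁻¹ * g₂ (g₁ c) ∈ (T₁ ⊔ T₂) ⊓ Subgroup.centralizer ((T₁ ⊔ T₂ : Subgroup Ω) : Set Ω) := by
    intro c hc
    have h := hg₁c c (hC₁ hc)
    have h' := hg₂c _ (hC₂ (h1C c hc))
    rw [show c⁻¹ * g₂ (g₁ c) = c⁻¹ * g₁ c * ((g₁ c)⁻¹ * g₂ (g₁ c)) by group]
    exact Subgroup.mul_mem _ ⟨Subgroup.mem_sup_left h.1, hZT _ h⟩
      ⟨Subgroup.mem_sup_right h'.1, hZT' _ h'⟩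
  obtain ⟨β, hβ, hβe⟩ := hg.exists_aut (Subgroup.eq_of_le_of_card_ge (by
    rw [hW, hg.fimg_sup]
    refine sup_le_sup (fimg_le fun x hx => hval x hx ▸ autFun_mem α hx) (fimg_le fun c hc => ?_)
    show g₂ (g₁ c) ∈ _
    rw [show g₂ (g₁ c) = c * (c⁻¹ * g₂ (g₁ c)) by group]
    exact Subgroup.mul_mem _ hc ⟨hT.1 (h2C c hc).1, (h2C c hc).2⟩) hg.card_fimg.ge)
  refine ⟨β, hβ, fun x => ?_, fun c hc => ?_⟩
  · rw [← autFun_coe β, Subgroup.coe_inclusion, hβe _ (Subgroup.mem_sup_left x.2), hval x x.2,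
      autFun_coe α x]
  · rw [← autFun_coe β, hβe _ c.2]
    exact h2C c hc

/-- Two such subsystems have a central product. -/
theorem Factors.exists_product (d : Factors F p E₁ E₂) :
    ∃ D : FusionSystem (T₁ ⊔ T₂), IsCentralProductOf E₁ E₂ D := by
  let θ : ↥(T₁.prod T₂) →* Ω := MonoidHom.mk' (fun x => (x : Ω × Ω).1 * (x : Ω × Ω).2) fun x y => by
    show (x : Ω × Ω).1 * (y : Ω × Ω).1 * ((x : Ω × Ω).2 * (y : Ω × Ω).2) = _
    rw [mul_assoc, ← mul_assoc (y : Ω × Ω).1,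
      d.comm _ (Subgroup.mem_prod.1 y.2).1 _ (Subgroup.mem_prod.1 x.2).2]
    simp only [mul_assoc]
  have h₁ : ∀ (x : Ω) (hx : ((x, 1) : Ω × Ω) ∈ T₁.prod T₂), θ ⟨(x, 1), hx⟩ = x :=
    fun x _ => mul_one x
  have h₂ : ∀ (y : Ω) (hy : ((1, y) : Ω × Ω) ∈ T₁.prod T₂), θ ⟨(1, y), hy⟩ = y :=
    fun y _ => one_mul y
  let Z : Subgroup (Ω × Ω) := θ.ker.map (T₁.prod T₂).subtype
  have hker : ∀ s : ↥(T₁.prod T₂), θ s = 1 ↔ (s : Ω × Ω) ∈ Z := fun s =>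
    ⟨fun h => ⟨s, h, rfl⟩, fun ⟨t, ht, e⟩ => by
      obtain rfl : t = s := Subtype.ext e
      exact ht⟩
  have hzmem : ∀ {x : Ω × Ω}, x ∈ Z → x.1 ∈ T₁ ⊓ T₂ ∧ x.2 ∈ T₁ ⊓ T₂ := by
    rintro _ ⟨⟨⟨a, b⟩, hab⟩, h, rfl⟩
    obtain ⟨ha, hb⟩ := Subgroup.mem_prod.1 hab
    have e : a * b = 1 := h
    refine ⟨⟨ha, ?_⟩, ⟨?_, hb⟩⟩
    · show a ∈ T₂
      rw [eq_inv_of_mul_eq_one_left e]; exact T₂.inv_mem hb
    · show b ∈ T₁
      rw [eq_inv_of_mul_eq_one_right e]; exact T₁.inv_mem ha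
  haveI : Finite T₁ := finite_of_le d.pair.sc₁.1
  haveI : Finite T₂ := finite_of_le d.pair.sc₂.1
  haveI : Finite ↥(T₁.prod T₂) := Finite.of_equiv _ (T₁.prodEquiv T₂).symm.toEquiv
  have hp₁ := d.pG.to_le d.pair.sc₁.1
  have hp₂ := d.pG.to_le d.pair.sc₂.1
  have hp : IsPGroup p ↥(T₁.prod T₂) := by
    obtain ⟨a, ha⟩ := IsPGroup.iff_card.1 hp₁
    obtain ⟨b, hb⟩ := IsPGroup.iff_card.1 hp₂
    refine IsPGroup.of_card (n := a + b) ?_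
    rw [Nat.card_congr (T₁.prodEquiv T₂).toEquiv, Nat.card_prod, ha, hb, pow_add]
  have hZc : Z ≤ (productSystem E₁ E₂).center :=
    le_center_of_fixed hp (isSaturated_productSystem hp₁ hp₂ d.n₁.1.1 d.n₂.1.1)
      (Subgroup.map_subtype_le _) (fun z hz s hs => by
        obtain ⟨ha, hb⟩ := hzmem hz
        obtain ⟨hs₁, hs₂⟩ := Subgroup.mem_prod.1 hs
        exact Prod.ext (d.comm _ hs₁ _ ha.2).symm (d.comm _ hb.1 _ hs₂))
      fun P f hf z hz hzP => by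
        obtain ⟨-, f₁, f₂, hf₁, hf₂, he⟩ := isMap_product.1 hf
        rw [he z hzP, fix_center hf₁ (fst_mem hzP) (d.z₁ (hzmem hz).1),
          fix_center hf₂ (snd_mem hzP) (d.z₂ (hzmem hz).2)]
  have hsc : (productSystem E₁ E₂).StronglyClosed Z :=
    stronglyClosed_of_forall (Subgroup.map_subtype_le _) fun R hR f hf x hx => by
      rw [fix_center hf hx (hZc (hR hx))]
      exact hR hx
  have h := isFactorSystem_factorSystemAlong (productSystem E₁ E₂) hsc θ hker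
  have hr := range_theta h₁ h₂
  revert h
  generalize factorSystemAlong (productSystem E₁ E₂) hsc θ hker = D
  revert D
  rw [hr]
  intro D h
  refine ⟨D, productSystem E₁ E₂, isProductSystem_productSystem E₁ E₂, Z, θ, hZc, ?_, ?_, h₁, h₂, h⟩
  · refine eq_bot_iff.2 fun x hx => ?_
    obtain ⟨⟨y, hy, rfl⟩, hx2⟩ := hx
    have e : (y : Ω × Ω).2 = 1 := (Subgroup.mem_prod.1 hx2).2
    have h0 : (y : Ω × Ω).1 * (y : Ω × Ω).2 = 1 := hy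
    rw [e, mul_one] at h0
    exact Subgroup.mem_bot.2 (Prod.ext h0 e)
  · refine eq_bot_iff.2 fun x hx => ?_
    obtain ⟨⟨y, hy, rfl⟩, hx2⟩ := hx
    have e : (y : Ω × Ω).1 = 1 := (Subgroup.mem_prod.1 hx2).1
    have h0 : (y : Ω × Ω).1 * (y : Ω × Ω).2 = 1 := hy
    rw [e, one_mul] at h0
    exact Subgroup.mem_bot.2 (Prod.ext e h0)

end Cfsg.Agent.Fus.Comm
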