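import Cfsg.Agent.Lib.Invol.Core2.Setting
import Cfsg.Agent.Lib.Invol.Core2.GoodCentre
import Cfsg.Agent.Lib.Invol.FourPrime.Tools
import Cfsg.Agent.Lib.Invol.BrauerSuzuki
import Cfsg.Agent.Lib.Local.CoreConsumers.Main
import Cfsg.Agent.S0205

/-!
# An odd closure of the cores over one Sylow 2-subgroup

The closure `W` of the cores over the involutions of a Sylow 2-subgroup and its normalizer form the setting of a
proper two-generated core, so the statement S1290 follows from the theorem on that setting.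
-/

set_option autoImplicit false
set_option linter.style.haveILetI false

namespace Cfsg.Agent.Fus.CoreClosure

open Subgroup Cfsg

universe u

/-- The statement S1290, given that a proper two-generated core has trivial `W`. -/
theorem cores_trivial_of_closure {G : Type u} [Group G] [Finite G] [IsSimpleGroup G]
    (hna : ¬ IsMulCommutative G)
    (hcore : ∀ (M W : Subgroup G) (T : Sylow 2 G), (T : Subgroup G) ≤ M → Cfsg.Agent.Invol.Core2.AX M W →
      (∀ a ∈ M, orderOf a = 2 → W ⊓ centralizer ({a} : Set G) = Cfsg.centralizerPPrimeCore 2 a) →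
      Cfsg.oddCore G = ⊥ → W = ⊥)
    (S : Sylow 2 G)
    (hodd : Odd (Nat.card ↥(⨆ x : {x : G // x ∈ S ∧ orderOf x = 2}, Cfsg.centralizerPPrimeCore 2 (x : G))))
    (hfix : ∀ x : G, x ∈ S → orderOf x = 2 →
      (⨆ y : {y : G // y ∈ S ∧ orderOf y = 2}, Cfsg.centralizerPPrimeCore 2 (y : G)) ⊓ centralizer ({x} : Set G) =
        Cfsg.centralizerPPrimeCore 2 x)
    (t : G) (ht : orderOf t = 2) : Cfsg.centralizerPPrimeCore 2 t = ⊥ := by
  haveI : Fact (Nat.Prime 2) := ⟨Nat.prime_two⟩
  set W := ⨆ x : {x : G // x ∈ S ∧ orderOf x = 2}, Cfsg.centralizerPPrimeCore 2 (x : G) with hW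
  have hnsolv : ¬ Group.IsSolvable G := fun h => hna ⟨⟨IsSimpleGroup.comm_iff_isSolvable.2 h⟩⟩
  have hO : Cfsg.oddCore G = ⊥ := by
    refine (Grp.pPrimeCore_isNormal (p := 2) (G := G)).eq_bot_or_eq_top.resolve_right fun e => hnsolv ?_
    refine Cfsg.Agent.S0205.result (Nat.coprime_two_right.1 ?_)
    have h := Grp.pPrimeCore_coprime (p := 2) (G := G)
    rwa [show Cfsg.pPrimeCore 2 G = ⊤ from e, Subgroup.card_top] at h
  -- involutions are conjugate into `S`
  have hconj : ∀ x : G, orderOf x = 2 → ∃ g : G, g * x * g⁻¹ ∈ (S : Subgroup G) := fun x hx => by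
    obtain ⟨T, hT⟩ := (IsPGroup.of_card (p := 2) (n := 1)
      (show Nat.card ↥(zpowers x) = 2 ^ 1 by rw [Nat.card_zpowers, hx, pow_one])).exists_le_sylow
    obtain ⟨g, hg⟩ := MulAction.exists_smul_eq G T S
    refine ⟨g, ?_⟩
    rw [← hg]
    exact ⟨x, hT (mem_zpowers x), rfl⟩
  suffices hW1 : W = ⊥ by
    obtain ⟨g, hg⟩ := hconj t ht
    refine (Subgroup.map_eq_bot_iff_of_injective _ (MulAut.conj g).injective).1
      (le_bot_iff.1 ((CoreConsumers.map_conj_core_le t g).trans ?_))
    rw [← hW1, hW]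
    exact le_iSup (fun x : {x : G // x ∈ S ∧ orderOf x = 2} => Cfsg.centralizerPPrimeCore 2 (x : G))
      ⟨g * t * g⁻¹, hg, by rw [Invol.orderOf_conj_eq, ht]⟩
  by_contra hW1
  set M := normalizer (W : Set G) with hMdef
  have hM : M ≠ ⊤ := fun e => by
    haveI : W.Normal := normalizer_eq_top_iff.1 e
    refine hW1 ((‹W.Normal›).eq_bot_or_eq_top.resolve_right fun e' => hnsolv (Cfsg.Agent.S0205.result ?_))
    rwa [e', Subgroup.card_top] at hodd
  -- the criterion for normalizing `W`
  have hnorm : ∀ g : G, W.map (MulAut.conj g).toMonoidHom ≤ W → g ∈ M := fun g hg => by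
    have he := Subgroup.eq_of_le_of_card_ge hg
      (le_of_eq (Subgroup.card_map_of_injective (MulAut.conj g).injective).symm)
    refine mem_normalizer_iff.2 fun y => ⟨fun hy => he.le (mem_map_of_mem _ hy), fun hy => ?_⟩
    obtain ⟨w, hw, hwe⟩ := he.ge hy
    exact (MulAut.conj g).injective (by simpa using hwe) ▸ hw
  have hSM : (S : Subgroup G) ≤ M := fun s hs => by
    refine hnorm s (Subgroup.map_le_iff_le_comap.2 (iSup_le fun x => Subgroup.map_le_iff_le_comap.1 ?_))
    refine (CoreConsumers.map_conj_core_le (x : G) s).trans ?_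
    exact le_iSup (fun x : {x : G // x ∈ S ∧ orderOf x = 2} => Cfsg.centralizerPPrimeCore 2 (x : G))
      ⟨s * (x : G) * s⁻¹, mul_mem (mul_mem hs x.2.1) (inv_mem hs), by rw [Invol.orderOf_conj_eq, x.2.2]⟩
  -- the fixed points of an involution of `M` in `W`
  have hWC : ∀ a ∈ M, orderOf a = 2 → W ⊓ centralizer ({a} : Set G) = Cfsg.centralizerPPrimeCore 2 a := by
    intro a haM ha
    obtain ⟨P, hP⟩ := (IsPGroup.of_card (n := 1) (show Nat.card ↥(zpowers (⟨a, haM⟩ : M)) = 2 ^ 1 by
      rw [Nat.card_zpowers, Subgroup.orderOf_mk, ha, pow_one])).exists_le_sylow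
    obtain ⟨m, hm⟩ := MulAction.exists_smul_eq M P (S.subtype hSM)
    have hmem : (m : G) * a * (m : G)⁻¹ ∈ (S : Subgroup G) := by
      have h1 : m * ⟨a, haM⟩ * m⁻¹ ∈ ((S.subtype hSM : Sylow 2 M) : Subgroup M) := by
        rw [← hm]
        exact ⟨⟨a, haM⟩, hP (mem_zpowers _), rfl⟩
      exact h1
    have h := hfix _ hmem (by rw [Invol.orderOf_conj_eq, ha])
    refine le_antisymm (fun w hw => ?_) (fun w hw => ⟨?_, mem_centralizer_singleton_iff.2
      (Grp.centralizerPPrimeCore_commute hw)⟩)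
    · have h2 : (m : G) * w * (m : G)⁻¹ ∈ Cfsg.centralizerPPrimeCore 2 ((m : G) * a * (m : G)⁻¹) := by
        rw [← h]
        refine ⟨(mem_normalizer_iff.1 m.2 w).1 hw.1, mem_centralizer_singleton_iff.2 ?_⟩
        have hc := (show Commute w a from mem_centralizer_singleton_iff.1 hw.2).map
          (MulAut.conj (m : G)).toMonoidHom
        simpa using hc.eq
      have h3 := CoreConsumers.map_conj_core_le ((m : G) * a * (m : G)⁻¹) (m : G)⁻¹ (mem_map_of_mem _ h2)
      simpa [mul_assoc] using h3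
    · have h2 := CoreConsumers.map_conj_core_le a (m : G) (mem_map_of_mem _ hw)
      rw [← h] at h2
      exact (mem_normalizer_iff.1 m.2 w).2 h2.1
  -- rank at least two
  have hS1 : (S : Subgroup G) ≠ ⊥ := fun e => by
    obtain ⟨g, hg⟩ := hconj t ht
    rw [e, mem_bot, conj_eq_one_iff] at hg
    rw [hg, orderOf_one] at ht
    omega
  obtain ⟨z, hzS, hz, hzc⟩ := CoreConsumers.exists_central_involution S.isPGroup' hS1
  obtain ⟨y₀, hy₀, hy2, hy0z⟩ : ∃ y ∈ (S : Subgroup G), orderOf y = 2 ∧ y ≠ z := by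
    by_contra hcon
    push Not at hcon
    have hr : BS.TwoRankOne G :=
      BS.twoRankOne_of_sylow S fun u hu v hv hu2 hv2 => (hcon u hu hu2).trans (hcon v hv hv2).symm
    obtain ⟨N, hN, hNodd, hcomm⟩ := BS.exists_odd_normal hr hz
    have hN1 : N = ⊥ := hN.eq_bot_or_eq_top.resolve_right fun e => hnsolv (Cfsg.Agent.S0205.result (by
      rwa [e, Subgroup.card_top] at hNodd))
    have hzZ : z ∈ Subgroup.center G := Subgroup.mem_center_iff.2 fun g => by
      have h := hcomm g
      rw [hN1, mem_bot, mul_inv_eq_one, mul_inv_eq_iff_eq_mul] at h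
      exact h.symm
    rcases (inferInstance : (Subgroup.center G).Normal).eq_bot_or_eq_top with e | e
    · rw [e, mem_bot] at hzZ
      rw [hzZ, orderOf_one] at hz
      omega
    · exact hna ⟨⟨fun a b => (Subgroup.mem_center_iff.1 (e ▸ Subgroup.mem_top a) b).symm⟩⟩
  refine hW1 (hcore M W S hSM ⟨hM, hodd, le_normalizer, le_rfl, ?_, ?_⟩ hWC hO)
  · intro a b g ha hb hab hcm haM hbM hga hgb
    refine hnorm g (Subgroup.map_le_iff_le_comap.2 ?_)
    have hne : b ∉ zpowers a := fun hm => by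
      obtain ⟨i, hi⟩ := mem_zpowers_iff.1 hm
      rw [← zpow_mod_orderOf, ha] at hi
      rcases Int.emod_two_eq_zero_or_one i with e | e <;> rw [Nat.cast_ofNat, e] at hi
      · rw [zpow_zero] at hi
        rw [← hi, orderOf_one] at hb
        omega
      · rw [zpow_one] at hi
        exact hab hi
    refine Invol.FourPrime.pair_le Nat.prime_two (H := M) (u := a) (v := b)
      ⟨haM, hbM, ha, hb, hcm, hne⟩ haM hbM (Nat.two_dvd_ne_zero.2 (Nat.odd_iff.1 hodd)) ?_
    intro f hf hf2
    have hfM : f ∈ M := (closure_le M).2 (by rintro y (rfl | rfl) <;> assumption) hf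
    have hgf : g * f * g⁻¹ ∈ M := by
      have : closure ({a, b} : Set G) ≤ M.comap (MulAut.conj g).toMonoidHom := (closure_le _).2 (by
        rintro y (rfl | rfl) <;> simp only [SetLike.mem_coe, mem_comap] <;> assumption)
      exact this hf
    rw [hWC f hfM hf2, ← Subgroup.map_le_iff_le_comap]
    refine (CoreConsumers.map_conj_core_le f g).trans ?_
    rw [← hWC _ hgf (by rw [Invol.orderOf_conj_eq, hf2])]
    exact inf_le_left
  · intro a haM ha
    obtain ⟨b, hb, hb2, hne, hc⟩ :=
      Invol.Core2.exists_partner S hSM hzS hz (fun s hs => (hzc s hs).symm) hy₀ hy2 hy0z haM ha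
    exact ⟨b, hb, hb2, hne, hc.eq⟩

end Cfsg.Agent.Fus.CoreClosure
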