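import Mathlib

/-!
Orders of elements in a coset of a module in a semidirect product.
-/

set_option autoImplicit false

namespace Cfsg.Agent.Fus.CosetOrder

open Polynomial

variable {F : Type*} [Field F] (p : ℕ) [Fact p.Prime] [CharP F p] {V : Type*} [AddCommGroup V]
  [Module F V] {G : Type*} [Group G] [Finite G] (ρ : Representation F G V)

/-- The action defining the semidirect product. -/
abbrev act : G →* MulAut (Multiplicative V) :=
  (MulAutMultiplicative V).symm.toMonoidHom.comp
    ((DistribMulAction.toAddAut ((V →ₗ[F] V)ˣ) V).comp ρ.asGroupHom)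

local notation "P" => Multiplicative V ⋊[act ρ] G

theorem act_apply' (h : G) (v : Multiplicative V) :
    Multiplicative.toAdd (act ρ h v) = ρ h (Multiplicative.toAdd v) := rfl

theorem pow_left (x : P) (k : ℕ) :
    (x ^ k).right = x.right ^ k ∧ Multiplicative.toAdd (x ^ k).left =
      (∑ i ∈ Finset.range k, (ρ x.right) ^ i) (Multiplicative.toAdd x.left) := by
  induction k with
  | zero => simp
  | succ k ih =>
    refine ⟨by rw [pow_succ, SemidirectProduct.mul_right, ih.1, pow_succ], ?_⟩
    rw [pow_succ, SemidirectProduct.mul_left, toAdd_mul, act_apply', ih.1, ih.2,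
      Finset.sum_range_succ, LinearMap.add_apply, map_pow]

theorem main (g : G) :
    (∃ x : P, x.right = g ∧ orderOf x = p * orderOf g) ↔
      ¬ (minpoly F (ρ g) ∣ ∑ i ∈ Finset.range (orderOf g), (X : F[X]) ^ i) := by
  have hp : p.Prime := Fact.out
  have hk : 0 < orderOf g := orderOf_pos g
  rw [minpoly.dvd_iff, map_sum]
  simp only [map_pow, aeval_X]
  have hpow : ∀ y : P, y.right = 1 → y ^ p = 1 := by
    intro y hy
    obtain ⟨h1, h2⟩ := pow_left ρ y p
    refine SemidirectProduct.ext ?_ (by rw [h1, hy, one_pow, SemidirectProduct.one_right])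
    apply Multiplicative.toAdd.injective
    rw [h2, hy, map_one]
    simp [← Nat.cast_smul_eq_nsmul F, CharP.cast_eq_zero F p]
  constructor
  · rintro ⟨x, hx, ho⟩ h0
    obtain ⟨h1, h2⟩ := pow_left ρ x (orderOf g)
    have hx1 : x ^ orderOf g = 1 := by
      refine SemidirectProduct.ext ?_ (by rw [h1, hx, pow_orderOf_eq_one, SemidirectProduct.one_right])
      apply Multiplicative.toAdd.injective
      rw [h2, hx, h0]
      simp
    have := Nat.le_of_dvd hk (orderOf_dvd_of_pow_eq_one hx1)
    rw [ho] at this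
    nlinarith [hp.two_le]
  · intro hne
    obtain ⟨v, hv⟩ : ∃ v, (∑ i ∈ Finset.range (orderOf g), (ρ g) ^ i) v ≠ 0 := by
      by_contra! h
      exact hne (LinearMap.ext h)
    obtain ⟨x, hxl, hxr⟩ : ∃ x : P, x.left = Multiplicative.ofAdd v ∧ x.right = g :=
      ⟨⟨Multiplicative.ofAdd v, g⟩, rfl, rfl⟩
    refine ⟨x, hxr, ?_⟩
    obtain ⟨h1, h2⟩ := pow_left ρ x (orderOf g)
    rw [hxl, hxr, toAdd_ofAdd] at h2
    have hy1 : x ^ orderOf g ≠ 1 := fun e => hv (by rw [← h2, e]; simp)
    have hord : orderOf (x ^ orderOf g) = p :=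
      orderOf_eq_prime (hpow _ (by rw [h1, hxr, pow_orderOf_eq_one])) hy1
    have hdvd : orderOf g ∣ orderOf x := by
      refine orderOf_dvd_of_pow_eq_one ?_
      have h3 := (pow_left ρ x (orderOf x)).1
      rw [pow_orderOf_eq_one, hxr, SemidirectProduct.one_right] at h3
      exact h3.symm
    rw [orderOf_pow' x hk.ne', Nat.gcd_eq_right hdvd] at hord
    rw [← hord, Nat.div_mul_cancel hdvd]

end Cfsg.Agent.Fus.CosetOrder
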