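import Mathlib
import Cfsg.Agent.Lib.Invol.SPEmbedded

/-!
A group of automorphisms of an elementary abelian group of order `p³` with a strongly `p`-embedded
subgroup and a transvection: the `p`-subgroups containing the transvection have order `p`, and an
involution centralising the transvection inverts its centre and fixes a further point.
-/

set_option autoImplicit false
set_option linter.unusedSectionVars false
set_option linter.style.haveILetI false

namespace Cfsg.Agent.Fus.CubeAut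

variable {E : Type*} [CommGroup E] [Finite E] {p : ℕ} [hp : Fact p.Prime]

theorem zpowers_eq {a b : E} (hexp : ∀ x : E, x ^ p = 1) (hb : b ∈ Subgroup.zpowers a) (h1 : b ≠ 1) :
    Subgroup.zpowers b = Subgroup.zpowers a := by
  refine Subgroup.eq_of_le_of_card_ge (Subgroup.zpowers_le.2 hb) ?_
  rw [Nat.card_zpowers, Nat.card_zpowers, orderOf_eq_prime (hexp b) h1]
  exact Nat.le_of_dvd hp.out.pos (orderOf_dvd_of_pow_eq_one (hexp a))

/-- A `p`-element sending an element to one of its powers fixes it. -/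
theorem fix_of_power (hexp : ∀ x : E, x ^ p = 1) {g : MulAut E} {k : ℕ} (hg : g ^ p ^ k = 1)
    {c : E} {r : ℤ} (h : g c = c ^ r) : g c = c := by
  have hiter : ∀ i : ℕ, (g ^ i) c = c ^ (r ^ i) := by
    intro i
    induction i with
    | zero => simp
    | succ i ih => rw [pow_succ', MulAut.mul_apply, ih, map_zpow, h, ← zpow_mul, ← pow_succ']
  have h1 := hiter (p ^ k)
  rw [hg, MulAut.one_apply] at h1
  by_cases hc : c = 1
  · rw [hc, map_one]
  have hord : orderOf c = p := orderOf_eq_prime (hexp c) hc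
  have hd : (r : ZMod p) = 1 := by
    have h2 : c ^ (r ^ p ^ k - 1) = 1 := by rw [zpow_sub, ← h1, zpow_one, mul_inv_cancel]
    have h3 := orderOf_dvd_iff_zpow_eq_one.2 h2
    rw [hord, ← ZMod.intCast_zmod_eq_zero_iff_dvd, Int.cast_sub, Int.cast_pow, Int.cast_one,
      sub_eq_zero, ZMod.pow_card_pow] at h3
    exact h3
  have h4 : c ^ (r - 1) = 1 := by
    refine orderOf_dvd_iff_zpow_eq_one.1 ?_
    rw [hord, ← ZMod.intCast_zmod_eq_zero_iff_dvd, Int.cast_sub, Int.cast_one, hd, sub_self]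
  rw [zpow_sub, zpow_one, mul_inv_eq_one] at h4
  rw [h, h4]

/-- If `t` fixes the centre of a transvection `s`, then `s` commutes with its conjugate. -/
theorem commute_conj {s t : MulAut E} {c : E} (hs : ∀ x, s x * x⁻¹ ∈ Subgroup.zpowers c)
    (hsc : s c = c) (htc : t c = c) : Commute s (t * s * t⁻¹) := by
  have hfix : ∀ {g : MulAut E}, g c = c → ∀ w ∈ Subgroup.zpowers c, g w = w := by
    rintro g hg _ ⟨i, rfl⟩
    rw [map_zpow, hg]
  have hmove : ∀ x, (t * s * t⁻¹) x * x⁻¹ ∈ Subgroup.zpowers c := fun x => by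
    have h := hfix htc _ (hs (t⁻¹ x))
    have : (t * s * t⁻¹) x * x⁻¹ = s (t⁻¹ x) * (t⁻¹ x)⁻¹ := by
      rw [← h, map_mul, map_inv, MulAut.apply_inv_self]; rfl
    rw [this]
    exact hs _
  have hsc' : (t * s * t⁻¹) c = c := by
    have h : t⁻¹ c = c := by
      conv_lhs => rw [← htc]
      exact MulAut.inv_apply_self _ _ _
    show t (s (t⁻¹ c)) = c
    rw [h, hsc, htc]
  refine MulEquiv.ext fun x => ?_
  obtain ⟨i, hi⟩ := hs x
  obtain ⟨j, hj⟩ := hmove x
  have h1 : s x = c ^ i * x := (eq_mul_of_mul_inv_eq hi.symm)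
  have h2 : (t * s * t⁻¹) x = c ^ j * x := (eq_mul_of_mul_inv_eq hj.symm)
  show s ((t * s * t⁻¹) x) = (t * s * t⁻¹) (s x)
  rw [h2, h1, map_mul, map_mul, map_zpow, map_zpow, h1, h2, hsc, hsc']
  exact mul_left_comm _ _ _

/-- The facts about the transvection, with an element of order four exchanging the two lines
moved by the involution. -/
theorem transvection_facts' (hexp : ∀ x : E, x ^ p = 1) (hcard : Nat.card E = p ^ 3)
    {B : Subgroup (MulAut E)} {Y : Subgroup ↥B} (hY : Cfsg.IsStronglyPEmbedded p Y)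
    {T : Subgroup ↥B} (hT : IsPGroup p T) {τ : ↥B} (hτT : τ ∈ T) (hτ : τ ≠ 1)
    {H : Subgroup E} (hH : Nat.card H = p ^ 2) (hfix : ∀ x ∈ H, (τ : MulAut E) x = x) :
    (∀ g ∈ T, g ∈ Subgroup.zpowers τ) ∧ orderOf τ = p ∧
      ∃ c l e : E, c ≠ 1 ∧ l ∉ Subgroup.zpowers c ∧ c ∈ H ∧ l ∈ H ∧ e ∉ H ∧
        (τ : MulAut E) e = c * e ∧ Subgroup.zpowers c ⊔ Subgroup.zpowers l = H ∧
        H ⊔ Subgroup.zpowers e = ⊤ ∧
        ∃ h : ↥B, (h : MulAut E) c = c⁻¹ ∧ (h : MulAut E) l = l ∧ (h : MulAut E) e = e⁻¹ ∧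
          h * τ = τ * h ∧ h * h = 1 ∧
          ∃ w : ↥B, (w : MulAut E) c = e⁻¹ ∧ (w : MulAut E) l = l ∧ (w : MulAut E) e = c := by
  classical
  haveI : Finite (MulAut E) :=
    Finite.of_injective (fun e : MulAut E => (e : E → E)) DFunLike.coe_injective
  obtain ⟨k₀, hk₀⟩ : ∃ k, τ ^ p ^ k = 1 := by
    obtain ⟨k, hk⟩ := hT ⟨τ, hτT⟩
    exact ⟨k, congrArg Subtype.val hk⟩
  have hHidx : H.index = p := by
    have h := H.card_mul_index
    rw [hH, hcard, pow_succ p 2] at h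
    exact Nat.eq_of_mul_eq_mul_left (pow_pos hp.out.pos 2) h
  -- the fixed space is `H`, the centre lies in it
  have htop : ∀ {x}, x ∉ H → H ⊔ Subgroup.zpowers x = ⊤ := fun {x} hx => by
    refine Subgroup.index_eq_one.1 ((Nat.dvd_prime hp.out).1 (hHidx ▸ Subgroup.index_dvd_of_le
      (le_sup_left : H ≤ H ⊔ Subgroup.zpowers x))|>.resolve_right fun e => hx ?_)
    have h1 := H.card_mul_index
    have h2 := (H ⊔ Subgroup.zpowers x).card_mul_index
    rw [hHidx] at h1
    rw [e, ← h1] at h2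
    rw [Subgroup.eq_of_le_of_card_ge (le_sup_left : H ≤ H ⊔ Subgroup.zpowers x)
      (Nat.eq_of_mul_eq_mul_right hp.out.pos h2).le]
    exact Subgroup.mem_sup_right (Subgroup.mem_zpowers x)
  obtain ⟨e₀, he₀⟩ : ∃ e, e ∉ H := by
    by_contra hh
    push Not at hh
    rw [(eq_top_iff.2 fun x _ => hh x : H = ⊤), Subgroup.index_top] at hHidx
    exact hp.out.ne_one hHidx.symm
  have hfixed : ∀ x, (τ : MulAut E) x = x → x ∈ H := by
    intro x hx
    by_contra hxH
    refine hτ (Subtype.ext (MulEquiv.ext fun y => ?_))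
    obtain ⟨u, hu, _, ⟨i, rfl⟩, rfl⟩ :=
      Subgroup.mem_sup_of_normal_left.1 ((htop hxH).ge (Subgroup.mem_top y))
    show (τ : MulAut E) (u * x ^ i) = u * x ^ i
    rw [map_mul, map_zpow, hfix u hu, hx]
  obtain ⟨c₀, hc₀⟩ : ∃ c, c = (τ : MulAut E) e₀ * e₀⁻¹ := ⟨_, rfl⟩
  have hmove : ∀ x, (τ : MulAut E) x * x⁻¹ ∈ Subgroup.zpowers c₀ := fun x => by
    obtain ⟨u, hu, _, ⟨i, rfl⟩, rfl⟩ :=
      Subgroup.mem_sup_of_normal_left.1 ((htop he₀).ge (Subgroup.mem_top x))
    refine ⟨i, ?_⟩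
    show c₀ ^ i = (τ : MulAut E) (u * e₀ ^ i) * (u * e₀ ^ i)⁻¹
    rw [map_mul, map_zpow, hfix u hu, hc₀, mul_zpow, inv_zpow, mul_inv]
    rw [mul_mul_mul_comm, mul_inv_cancel, one_mul]
  have hc₀1 : c₀ ≠ 1 := fun h => he₀ (hfixed _ (mul_inv_eq_one.1 (hc₀ ▸ h)))
  have hτc : (τ : MulAut E) c₀ = c₀ := by
    obtain ⟨i, hi⟩ := hmove c₀
    refine fix_of_power hexp (g := (τ : MulAut E)) (k := k₀) (r := i + 1) ?_ ?_
    · rw [← SubgroupClass.coe_pow, hk₀]; rfl
    · rw [eq_mul_of_mul_inv_eq hi.symm, zpow_add, zpow_one]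
  have hc₀H : c₀ ∈ H := hfixed _ hτc
  have hpow : τ ^ p = 1 := by
    have hiter : ∀ i : ℕ, ((τ ^ i : ↥B) : MulAut E) e₀ = c₀ ^ i * e₀ := by
      intro i
      induction i with
      | zero => simp
      | succ i ih =>
        rw [pow_succ', Subgroup.coe_mul, MulAut.mul_apply, ih, map_mul, map_pow, hτc,
          show (τ : MulAut E) e₀ = c₀ * e₀ by rw [hc₀, inv_mul_cancel_right], ← mul_assoc, ← pow_succ]
    refine Subtype.ext (MulEquiv.ext fun y => ?_)
    obtain ⟨u, hu, _, ⟨i, rfl⟩, rfl⟩ :=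
      Subgroup.mem_sup_of_normal_left.1 ((htop he₀).ge (Subgroup.mem_top y))
    have hpu : ∀ j : ℕ, ((τ ^ j : ↥B) : MulAut E) u = u := fun j => by
      induction j with
      | zero => simp
      | succ j ih => rw [pow_succ', Subgroup.coe_mul, MulAut.mul_apply, ih, hfix u hu]
    show ((τ ^ p : ↥B) : MulAut E) (u * e₀ ^ i) = u * e₀ ^ i
    rw [map_mul, map_zpow, hiter, hexp, one_mul, hpu]
  have hord : orderOf τ = p := orderOf_eq_prime hpow hτ
  refine ⟨?_, hord, ?_⟩
  all_goals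
    obtain ⟨hd, hne, hcl⟩ := Invol.isStronglyPEmbedded_iff.1 hY
    obtain ⟨P, hP⟩ := Invol.exists_sylow_le_of_classical hd hcl
    obtain ⟨a, ha⟩ : ∃ a : ↥B, a⁻¹ * τ * a ∈ Y := by
      obtain ⟨Q, hQ⟩ := hT.exists_le_sylow
      obtain ⟨a, ha⟩ := MulAction.exists_smul_eq ↥B P Q
      refine ⟨a, hP ?_⟩
      have h : τ ∈ ((a • P : Sylow p ↥B) : Subgroup ↥B) := ha ▸ hQ hτT
      rw [Sylow.coe_subgroup_smul, Subgroup.pointwise_smul_def] at h
      obtain ⟨q, hq, e⟩ := h
      rw [← e]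
      simp [MulAut.smul_def, mul_assoc]
      exact hq
    -- a conjugate `Z` of `Y` through `τ`
    have key : ∀ {s g : ↥B}, orderOf s = p → s ∈ Y → g * s * g⁻¹ ∈ Y → g ∈ Y := by
      intro s g hs h1 h2
      by_contra hg
      refine hcl g hg (Invol.dvd_card_of_mem (z := g * s * g⁻¹) ?_ (Subgroup.mem_inf.2 ⟨h2, s, h1, rfl⟩))
      rw [← hs]; exact orderOf_injective (MulAut.conj g).toMonoidHom (MulAut.conj g).injective s
    obtain ⟨Z, hZ⟩ : ∃ Z : Subgroup ↥B, Z = Y.map (MulAut.conj a).toMonoidHom := ⟨_, rfl⟩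
    have hmemZ : ∀ {x}, x ∈ Z ↔ a⁻¹ * x * a ∈ Y := fun {x} => by
      rw [hZ]
      refine ⟨?_, fun h => ⟨_, h, by simp [mul_assoc]⟩⟩
      rintro ⟨y, hy, rfl⟩
      simpa [mul_assoc] using hy
    have hτZ : τ ∈ Z := hmemZ.2 ha
    have keyZ : ∀ {s g : ↥B}, orderOf s = p → s ∈ Z → g * s * g⁻¹ ∈ Z → g ∈ Z := by
      intro s g hs h1 h2
      rw [hmemZ] at h1 h2 ⊢
      refine key (s := a⁻¹ * s * a) ?_ h1 (by simpa [mul_assoc] using h2)
      rw [← hs]
      simpa using orderOf_injective (MulAut.conj a⁻¹).toMonoidHom (MulAut.conj a⁻¹).injective s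
    have pgZ : ∀ {Q : Subgroup ↥B}, IsPGroup p Q → ∀ {z : ↥B}, orderOf z = p → z ∈ Q → z ∈ Z →
        Q ≤ Z := by
      intro Q hQ z hz hzQ hzZ x hx
      have := Invol.pGroup_le_of_classical hcl (hQ.map (MulAut.conj a⁻¹).toMonoidHom)
        (z := a⁻¹ * z * a) (by
          rw [← hz]
          simpa using orderOf_injective (MulAut.conj a⁻¹).toMonoidHom (MulAut.conj a⁻¹).injective z)
        ⟨z, hzQ, by simp⟩ (hmemZ.1 hzZ)
      exact hmemZ.2 (this ⟨x, hx, by simp⟩)
    have hcomZ : ∀ {s t : ↥B}, orderOf s = p → orderOf t = p → s ∈ Z → Commute s t → t ∈ Z := by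
      intro s t hs ht hsZ hst
      have h : Subgroup.zpowers s ⊔ Subgroup.zpowers t ≤ Z := pgZ
        (IsPGroup.to_sup_of_normal_right' (IsPGroup.of_card (n := 1) (by rw [Nat.card_zpowers, hs, pow_one]))
          (IsPGroup.of_card (n := 1) (by rw [Nat.card_zpowers, ht, pow_one]))
          (Subgroup.zpowers_le.2 (Subgroup.mem_normalizer_iff.2 fun w => by
            constructor
            · rintro ⟨i, rfl⟩
              exact ⟨i, by show t ^ i = s * t ^ i * s⁻¹; rw [(hst.zpow_right i).eq, mul_inv_cancel_right]⟩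
            · rintro ⟨i, hi⟩
              refine ⟨i, ?_⟩
              show t ^ i = w
              have : s * t ^ i * s⁻¹ = s * w * s⁻¹ := by
                rw [(hst.zpow_right i).eq, mul_inv_cancel_right]; exact hi
              exact mul_left_cancel (mul_right_cancel this))))
        hs (Subgroup.mem_sup_left (Subgroup.mem_zpowers s)) hsZ
      exact h (Subgroup.mem_sup_right (Subgroup.mem_zpowers t))
    have hconj : ∀ g : ↥B, orderOf (g * τ * g⁻¹) = p := fun g => by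
      rw [← hord]
      exact orderOf_injective (MulAut.conj g).toMonoidHom (MulAut.conj g).injective τ
    -- a second transvection in general position
    obtain ⟨k, hk⟩ : ∃ k, k ∉ Z := by
      by_contra hh
      push Not at hh
      refine hne (eq_top_iff.2 fun x _ => ?_)
      simpa [mul_assoc] using hmemZ.1 (hh (a * x * a⁻¹))
    obtain ⟨τ', hτ'⟩ : ∃ t, t = k * τ * k⁻¹ := ⟨_, rfl⟩
    have hτ'Z : τ' ∉ Z := fun h => hk (keyZ hord hτZ (hτ' ▸ h))
    obtain ⟨e, he⟩ : ∃ e, e = (k : MulAut E) c₀ := ⟨_, rfl⟩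
    have hmove' : ∀ x, (τ' : MulAut E) x * x⁻¹ ∈ Subgroup.zpowers e := fun x => by
      obtain ⟨i, hi⟩ := hmove ((k : MulAut E)⁻¹ x)
      refine ⟨i, ?_⟩
      show e ^ i = _
      rw [he, ← map_zpow, show c₀ ^ i = _ from hi, map_mul, map_inv, MulAut.apply_inv_self, hτ']
      rfl
    have hτ'e : (τ' : MulAut E) e = e := by
      rw [hτ', he]
      show (k : MulAut E) ((τ : MulAut E) ((k : MulAut E)⁻¹ ((k : MulAut E) c₀))) = _
      rw [MulAut.inv_apply_self, hτc]
    have he1 : e ≠ 1 := fun h => hc₀1 ((k : MulAut E).injective (by rw [← he, h, map_one]))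
    have hcH' : (τ' : MulAut E) c₀ ≠ c₀ := fun h => by
      have h1 : Commute τ (τ' * τ * τ'⁻¹) := Subtype.ext
        (commute_conj (s := (τ : MulAut E)) (t := (τ' : MulAut E)) hmove hτc h).eq
      exact hτ'Z (keyZ hord hτZ (hcomZ hord (hconj τ') hτZ h1))
    have heH : e ∉ H := fun h => by
      have h1 : Commute τ' (τ * τ' * τ⁻¹) := Subtype.ext
        (commute_conj (s := (τ' : MulAut E)) (t := (τ : MulAut E)) hmove' hτ'e (hfix e h)).eq
      -- conjugated by `k`
      have h2 : Commute τ (k⁻¹ * (τ * τ' * τ⁻¹) * k) := by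
        have := h1.map (MulAut.conj k⁻¹).toMonoidHom
        simpa [hτ', mul_assoc] using this
      have h3 := hcomZ hord (by
        rw [show k⁻¹ * (τ * τ' * τ⁻¹) * k = (k⁻¹ * τ * k) * τ * (k⁻¹ * τ * k)⁻¹ by rw [hτ']; group]
        exact hconj _) hτZ h2
      rw [show k⁻¹ * (τ * τ' * τ⁻¹) * k = (k⁻¹ * τ * k) * τ * (k⁻¹ * τ * k)⁻¹ by
        rw [hτ']; group] at h3
      have h4 : k⁻¹ * τ * k ∈ Z := keyZ hord hτZ h3
      exact hk (inv_mem_iff.1 (keyZ (g := k⁻¹) hord hτZ (by rwa [inv_inv])))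
    obtain ⟨c, hc⟩ : ∃ c, c = (τ : MulAut E) e * e⁻¹ := ⟨_, rfl⟩
    have hc1 : c ≠ 1 := fun h => heH (hfixed e (mul_inv_eq_one.1 (hc ▸ h)))
    have hcc₀ : c ∈ Subgroup.zpowers c₀ := hc ▸ hmove e
    have hτcc : (τ : MulAut E) c = c := by
      obtain ⟨i, rfl⟩ := hcc₀
      rw [map_zpow, hτc]
    have hcH : c ∈ H := hfixed c hτcc
    have hτe : (τ : MulAut E) e = c * e := by rw [hc, inv_mul_cancel_right]
    have hτ'c : (τ' : MulAut E) c ≠ c := fun h => by
      have hz := zpowers_eq hexp hcc₀ hc1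
      obtain ⟨i, hi⟩ := (hz.ge (Subgroup.mem_zpowers c₀))
      have hi : c ^ i = c₀ := hi
      exact hcH' (by rw [← hi, map_zpow, h])
    obtain ⟨m, hm⟩ : ∃ m : ℤ, ((τ' : MulAut E) c * c⁻¹) ^ m = e⁻¹ := by
      have hz := zpowers_eq hexp (hmove' c) (fun h => hτ'c (mul_inv_eq_one.1 h))
      exact hz.ge (inv_mem (Subgroup.mem_zpowers e))
    -- the common axis
    obtain ⟨l, hlH, hlc, hτ'l⟩ : ∃ l ∈ H, l ∉ Subgroup.zpowers c ∧ (τ' : MulAut E) l = l := by
      obtain ⟨l₁, hl₁, hl₁c⟩ : ∃ l ∈ H, l ∉ Subgroup.zpowers c := by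
        by_contra hh
        push Not at hh
        have := Subgroup.card_le_of_le (hh : H ≤ Subgroup.zpowers c)
        rw [hH, Nat.card_zpowers, orderOf_eq_prime (hexp c) hc1] at this
        nlinarith [hp.out.two_le]
      have hz := zpowers_eq hexp (hmove' c) (fun h => hτ'c (mul_inv_eq_one.1 h))
      obtain ⟨i, hi⟩ := hz.ge (hmove' l₁)
      have hi : ((τ' : MulAut E) c * c⁻¹) ^ i = (τ' : MulAut E) l₁ * l₁⁻¹ := hi
      refine ⟨l₁ * (c ^ i)⁻¹, mul_mem hl₁ (inv_mem (zpow_mem hcH i)), fun h => hl₁c ?_, ?_⟩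
      · simpa using mul_mem h (zpow_mem (Subgroup.mem_zpowers c) i)
      · rw [map_mul, map_inv, map_zpow, eq_mul_of_mul_inv_eq hi.symm]
        generalize (τ' : MulAut E) c = w
        rw [mul_zpow, inv_zpow]
        apply mul_right_cancel (b := w ^ i)
        rw [inv_mul_cancel_right]
        ac_rfl
    have hHgen : Subgroup.zpowers c ⊔ Subgroup.zpowers l = H := by
      refine Subgroup.eq_of_le_of_card_ge (sup_le (Subgroup.zpowers_le.2 hcH)
        (Subgroup.zpowers_le.2 hlH)) ?_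
      rw [hH]
      obtain ⟨i, hi, hic⟩ := (Nat.dvd_prime_pow hp.out).1
        (hcard ▸ (Subgroup.zpowers c ⊔ Subgroup.zpowers l).card_subgroup_dvd_card)
      rw [hic]
      refine Nat.pow_le_pow_right hp.out.pos ?_
      by_contra hlt
      refine hlc ((Subgroup.eq_of_le_of_card_ge (le_sup_left : Subgroup.zpowers c ≤ _) ?_).ge
        (Subgroup.mem_sup_right (Subgroup.mem_zpowers l)))
      rw [hic, Nat.card_zpowers, orderOf_eq_prime (hexp c) hc1]
      calc p ^ i ≤ p ^ 1 := Nat.pow_le_pow_right hp.out.pos (by omega)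
        _ = p := pow_one p
    have hdec : ∀ x : E, ∃ i j q : ℤ, x = c ^ i * l ^ j * e ^ q := fun x => by
      obtain ⟨u, hu, _, ⟨q, rfl⟩, rfl⟩ :=
        Subgroup.mem_sup_of_normal_left.1 ((htop heH).ge (Subgroup.mem_top x))
      rw [← hHgen] at hu
      obtain ⟨_, ⟨i, rfl⟩, _, ⟨j, rfl⟩, rfl⟩ := Subgroup.mem_sup.1 hu
      exact ⟨i, j, q, rfl⟩
    have hext : ∀ {g g' : ↥B}, (g : MulAut E) c = (g' : MulAut E) c →
        (g : MulAut E) l = (g' : MulAut E) l → (g : MulAut E) e = (g' : MulAut E) e → g = g' := by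
      intro g g' h1 h2 h3
      refine Subtype.ext (MulEquiv.ext fun x => ?_)
      obtain ⟨i, j, q, rfl⟩ := hdec x
      simp only [map_mul, map_zpow, h1, h2, h3]
  · -- elements centralising `τ`
    have hcent : ∀ g ∈ T, g * τ = τ * g → g ∈ Subgroup.zpowers τ := by
      intro g hg hgτ
      obtain ⟨i, j, q, hge⟩ := hdec ((g : MulAut E) e)
      have hcomm : ∀ x, (g : MulAut E) ((τ : MulAut E) x) = (τ : MulAut E) ((g : MulAut E) x) :=
        fun x => DFunLike.congr_fun (congrArg Subtype.val hgτ) x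
      have hτl : (τ : MulAut E) l = l := hfix l hlH
      have hgc : (g : MulAut E) c = c ^ q := by
        have h := hcomm e
        rw [hτe, map_mul, hge, map_mul, map_mul, map_zpow, map_zpow, map_zpow, hτcc, hτl, hτe,
          mul_zpow] at h
        calc (g : MulAut E) c = (g : MulAut E) c * (c ^ i * l ^ j * e ^ q) * (c ^ i * l ^ j * e ^ q)⁻¹ := by
              rw [mul_inv_cancel_right]
          _ = c ^ i * l ^ j * (c ^ q * e ^ q) * (c ^ i * l ^ j * e ^ q)⁻¹ := by rw [h]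
          _ = c ^ q := by
            rw [mul_left_comm (c ^ i * l ^ j) (c ^ q), mul_inv_cancel_right]
      obtain ⟨kg, hkg⟩ := hT ⟨g, hg⟩
      have hkg' : (g : MulAut E) ^ p ^ kg = 1 := by
        have := congrArg (fun z : T => ((z : ↥B) : MulAut E)) hkg
        simpa using this
      have hgc1 : (g : MulAut E) c = c := fix_of_power hexp hkg' hgc
      have hq : c ^ q = c := hgc.symm.trans hgc1
      have heq : e ^ q = e := by
        have h1 := orderOf_dvd_iff_zpow_eq_one.2 (show c ^ (q - 1) = 1 by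
          rw [zpow_sub, hq, zpow_one, mul_inv_cancel])
        rw [orderOf_eq_prime (hexp c) hc1] at h1
        obtain ⟨d, hd⟩ := h1
        rw [show q = 1 + (p : ℤ) * d by omega, zpow_add, zpow_one, zpow_mul, zpow_natCast, hexp,
          one_zpow, mul_one]
      obtain ⟨g', hg'⟩ : ∃ g', g' = τ ^ (-i) * g := ⟨_, rfl⟩
      have hτpow : ∀ r : ℤ, ((τ ^ r : ↥B) : MulAut E) c = c ∧ ((τ ^ r : ↥B) : MulAut E) l = l ∧
          ((τ ^ r : ↥B) : MulAut E) e = c ^ r * e := by
        intro r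
        induction r using Int.induction_on with
        | zero => simp
        | succ r ih =>
          rw [add_comm, zpow_add, zpow_one]
          refine ⟨?_, ?_, ?_⟩
          · rw [Subgroup.coe_mul, MulAut.mul_apply, ih.1, hτcc]
          · rw [Subgroup.coe_mul, MulAut.mul_apply, ih.2.1, hτl]
          · rw [Subgroup.coe_mul, MulAut.mul_apply, ih.2.2, map_mul, map_zpow, hτcc, hτe, zpow_add,
              zpow_one, mul_comm c (c ^ _), mul_assoc]
        | pred r ih =>
          have hs : ((τ ^ (-(r : ℤ)) : ↥B) : MulAut E) =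
              (τ : MulAut E) * ((τ ^ (-(r : ℤ) - 1) : ↥B) : MulAut E) := by
            rw [← Subgroup.coe_mul, ← zpow_one_add, show 1 + (-(r : ℤ) - 1) = -(r : ℤ) by ring]
          refine ⟨(τ : MulAut E).injective ?_, (τ : MulAut E).injective ?_,
            (τ : MulAut E).injective ?_⟩
          · rw [← MulAut.mul_apply, ← hs, ih.1, hτcc]
          · rw [← MulAut.mul_apply, ← hs, ih.2.1, hτl]
          · rw [← MulAut.mul_apply, ← hs, ih.2.2, map_mul, map_zpow, hτcc, hτe, ← mul_assoc,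
              ← zpow_add_one, show -(r : ℤ) - 1 + 1 = -(r : ℤ) by ring]
      have hg'e : (g' : MulAut E) e = l ^ j * e := by
        rw [hg', Subgroup.coe_mul, MulAut.mul_apply, hge, heq, map_mul, map_mul, map_zpow, map_zpow,
          (hτpow (-i)).1, (hτpow (-i)).2.1, (hτpow (-i)).2.2]
        calc c ^ i * l ^ j * (c ^ (-i) * e) = c ^ i * c ^ (-i) * (l ^ j * e) := by ac_rfl
          _ = l ^ j * e := by rw [← zpow_add, add_neg_cancel, zpow_zero, one_mul]
      -- `g'` fixes the block of `τ'`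
      have hg'T : g' ∈ T := hg' ▸ T.mul_mem (zpow_mem hτT _) hg
      have hTZ : T ≤ Z := pgZ hT hord hτT hτZ
      have hs : ∀ x, ((g' * τ' * g'⁻¹ : ↥B) : MulAut E) x * x⁻¹ ∈
          Subgroup.zpowers ((g' : MulAut E) e) := fun x => by
        obtain ⟨r, hr⟩ := hmove' ((g' : MulAut E)⁻¹ x)
        refine ⟨r, ?_⟩
        show ((g' : MulAut E) e) ^ r = _
        rw [← map_zpow, show e ^ r = _ from hr, map_mul, map_inv, MulAut.apply_inv_self]
        rfl
      have hse : ((g' * τ' * g'⁻¹ : ↥B) : MulAut E) ((g' : MulAut E) e) = (g' : MulAut E) e := by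
        show (g' : MulAut E) ((τ' : MulAut E) ((g' : MulAut E)⁻¹ ((g' : MulAut E) e))) = _
        rw [MulAut.inv_apply_self, hτ'e]
      have ht : (τ' : MulAut E) ((g' : MulAut E) e) = (g' : MulAut E) e := by
        rw [hg'e, map_mul, map_zpow, hτ'l, hτ'e]
      have h1 : Commute (g' * τ' * g'⁻¹) (τ' * (g' * τ' * g'⁻¹) * τ'⁻¹) :=
        Subtype.ext (commute_conj hs hse ht).eq
      obtain ⟨u, hu⟩ : ∃ u, u = g' * k := ⟨_, rfl⟩
      have hu' : g' * τ' * g'⁻¹ = u * τ * u⁻¹ := by rw [hu, hτ']; group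
      rw [hu'] at h1
      have h2 : Commute τ ((u⁻¹ * τ' * u) * τ * (u⁻¹ * τ' * u)⁻¹) := by
        have := h1.map (MulAut.conj u⁻¹).toMonoidHom
        simpa [mul_assoc] using this
      have h3 : u⁻¹ * τ' * u ∈ Z := keyZ hord hτZ (hcomZ hord (hconj _) hτZ h2)
      have h4 : u⁻¹ * k ∈ Z := keyZ hord hτZ (by
        rw [show u⁻¹ * k * τ * (u⁻¹ * k)⁻¹ = u⁻¹ * τ' * u by rw [hτ']; group]; exact h3)
      have h5 : k⁻¹ * g' * k ∈ Z := by
        have := inv_mem h4
        rwa [mul_inv_rev, inv_inv, hu, ← mul_assoc] at this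
      rcases eq_or_ne g' 1 with h | h
      · rw [hg'] at h
        rw [eq_inv_of_mul_eq_one_right h, ← zpow_neg, neg_neg]
        exact zpow_mem (Subgroup.mem_zpowers τ) i
      · exfalso
        obtain ⟨n, hn, hn0⟩ : ∃ n : ℕ, orderOf g' = p ^ n ∧ n ≠ 0 := by
          obtain ⟨r, hr⟩ := hT ⟨g', hg'T⟩
          obtain ⟨n, -, hn⟩ := (Nat.dvd_prime_pow hp.out).1
            (orderOf_dvd_of_pow_eq_one (congrArg Subtype.val hr))
          exact ⟨n, hn, fun h0 => h (orderOf_eq_one_iff.1 (by rw [hn, h0, pow_zero]))⟩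
        have hz : orderOf (g' ^ p ^ (n - 1)) = p := by
          rw [orderOf_pow_of_dvd (pow_ne_zero _ hp.out.ne_zero) (hn ▸ pow_dvd_pow p (by omega)), hn,
            Nat.pow_div (by omega) hp.out.pos, show n - (n - 1) = 1 by omega, pow_one]
        refine hk (inv_mem_iff.1 (keyZ (s := g' ^ p ^ (n - 1)) hz (pow_mem (hTZ hg'T) _) ?_))
        rw [inv_inv, show k⁻¹ * g' ^ p ^ (n - 1) * k = (k⁻¹ * g' * k) ^ p ^ (n - 1) by
          simpa using (map_pow (MulAut.conj k⁻¹).toMonoidHom g' (p ^ (n - 1)))]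
        exact pow_mem h5 _
    intro g hg
    refine hcent g hg ?_
    -- `τ` is central in `T`
    have hZT : ∀ z ∈ T, (∀ w ∈ T, z * w = w * z) → z ∈ Subgroup.zpowers τ :=
      fun z hz hzc => hcent z hz (hzc τ hτT)
    haveI : Nontrivial T := ⟨⟨⟨τ, hτT⟩, 1, fun h => hτ (congrArg Subtype.val h)⟩⟩
    haveI := hT.center_nontrivial
    obtain ⟨z, hz1⟩ := exists_ne (1 : Subgroup.center T)
    obtain ⟨r, hr⟩ := hZT z.1.1 z.1.2 fun w hw =>
      congrArg Subtype.val (Subgroup.mem_center_iff.1 z.2 ⟨w, hw⟩).symm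
    have hgen : τ ∈ Subgroup.zpowers (z.1.1) := by
      have hne : z.1.1 ≠ 1 := fun h => hz1 (Subtype.ext (Subtype.ext h))
      have heq : Subgroup.zpowers z.1.1 = Subgroup.zpowers τ := by
        refine Subgroup.eq_of_le_of_card_ge (Subgroup.zpowers_le.2 ⟨r, hr⟩) ?_
        rw [Nat.card_zpowers, Nat.card_zpowers, hord, ← hr]
        refine (orderOf_eq_prime ?_ (hr ▸ hne)).ge
        show (τ ^ r) ^ p = 1
        rw [← zpow_natCast, ← zpow_mul, mul_comm, zpow_mul, zpow_natCast, hpow, one_zpow]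
      exact heq.ge (Subgroup.mem_zpowers τ)
    obtain ⟨d, hd⟩ := hgen
    have hc' : Commute g z.1.1 := congrArg Subtype.val (Subgroup.mem_center_iff.1 z.2 ⟨g, hg⟩)
    rw [← hd]
    exact (hc'.zpow_right d).eq
  · -- the involution
    have hτl : (τ : MulAut E) l = l := hfix l hlH
    obtain ⟨v, hv⟩ : ∃ v, v = τ' ^ m := ⟨_, rfl⟩
    have hvfix : ∀ x, (τ' : MulAut E) x = x → (v : MulAut E) x = x := fun x hx => by
      have : ∀ r : ℤ, ((τ' ^ r : ↥B) : MulAut E) x = x := fun r => by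
        induction r using Int.induction_on with
        | zero => simp
        | succ r ih => rw [zpow_add, zpow_one, Subgroup.coe_mul, MulAut.mul_apply, hx, ih]
        | pred r ih =>
          rw [zpow_sub, zpow_one, Subgroup.coe_mul, MulAut.mul_apply, Subgroup.coe_inv]
          conv_lhs => arg 2; rw [← hx]
          rw [MulAut.inv_apply_self, ih]
      exact hv ▸ this m
    have hvc : (v : MulAut E) c = e⁻¹ * c := by
      have : ∀ r : ℤ, ((τ' ^ r : ↥B) : MulAut E) c = ((τ' : MulAut E) c * c⁻¹) ^ r * c := by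
        have hd : (τ' : MulAut E) ((τ' : MulAut E) c * c⁻¹) = (τ' : MulAut E) c * c⁻¹ := by
          obtain ⟨i, hi⟩ := hmove' c
          rw [← hi]
          show (τ' : MulAut E) (e ^ i) = e ^ i
          rw [map_zpow, hτ'e]
        intro r
        induction r using Int.induction_on with
        | zero => simp
        | succ r ih =>
          rw [add_comm, zpow_add, zpow_one, Subgroup.coe_mul, MulAut.mul_apply, ih, map_mul,
            map_zpow, hd, zpow_add, zpow_one]
          generalize ((τ' : MulAut E) c) = w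
          rw [mul_comm (w * c⁻¹), mul_assoc, inv_mul_cancel_right]
        | pred r ih =>
          refine (τ' : MulAut E).injective ?_
          rw [← MulAut.mul_apply, ← Subgroup.coe_mul, ← zpow_one_add,
            show 1 + (-(r : ℤ) - 1) = -(r : ℤ) by ring, ih, map_mul, map_zpow, hd, zpow_sub, zpow_one,
            mul_assoc, mul_inv, inv_inv]
          generalize ((τ' : MulAut E) c) = w
          rw [mul_comm w⁻¹, mul_assoc c, inv_mul_cancel, mul_one]
      rw [hv, this m, hm]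
    obtain ⟨w, hw⟩ : ∃ w, w = τ * v * τ := ⟨_, rfl⟩
    have hwc : (w : MulAut E) c = e⁻¹ := by
      simp only [hw, Subgroup.coe_mul, MulAut.mul_apply]
      rw [hτcc, hvc, map_mul, map_inv, hτe, hτcc]
      rw [mul_inv, mul_right_comm, inv_mul_cancel, one_mul]
    have hwe : (w : MulAut E) e = c := by
      simp only [hw, Subgroup.coe_mul, MulAut.mul_apply]
      rw [hτe, map_mul, hvc, hvfix e hτ'e, mul_right_comm, inv_mul_cancel, one_mul, hτcc]
    have hwl : (w : MulAut E) l = l := by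
      simp only [hw, Subgroup.coe_mul, MulAut.mul_apply]
      rw [hτl, hvfix l hτ'l, hτl]
    refine ⟨c, l, e, hc1, hlc, hcH, hlH, heH, hτe, hHgen, htop heH, w * w, ?_, ?_, ?_, ?_, ?_,
      w, hwc, hwl, hwe⟩
    · rw [Subgroup.coe_mul, MulAut.mul_apply, hwc, map_inv, hwe]
    · rw [Subgroup.coe_mul, MulAut.mul_apply, hwl, hwl]
    · rw [Subgroup.coe_mul, MulAut.mul_apply, hwe, hwc]
    · refine hext ?_ ?_ ?_ <;> simp only [Subgroup.coe_mul, MulAut.mul_apply]
      · rw [hτcc, hwc, map_inv, hwe, map_inv, hτcc]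
      · rw [hτl, hwl, hwl, hτl]
      · rw [hτe, map_mul, map_mul, hwc, hwe, map_inv, hwe, hwc, map_inv, hτe, mul_inv]
    · refine hext ?_ ?_ ?_ <;> simp only [Subgroup.coe_mul, MulAut.mul_apply, Subgroup.coe_one,
        MulAut.one_apply]
      · rw [hwc, map_inv, hwe, map_inv, hwc, inv_inv, hwe]
      · rw [hwl, hwl, hwl, hwl]
      · rw [hwe, hwc, map_inv, hwe, map_inv, hwc, inv_inv]

/-- The transvection is self-centralising among the `p`-elements, and is centralised by an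
involution with a two-dimensional `(-1)`-space. -/
theorem transvection_facts (hexp : ∀ x : E, x ^ p = 1) (hcard : Nat.card E = p ^ 3)
    {B : Subgroup (MulAut E)} {Y : Subgroup ↥B} (hY : Cfsg.IsStronglyPEmbedded p Y)
    {T : Subgroup ↥B} (hT : IsPGroup p T) {τ : ↥B} (hτT : τ ∈ T) (hτ : τ ≠ 1)
    {H : Subgroup E} (hH : Nat.card H = p ^ 2) (hfix : ∀ x ∈ H, (τ : MulAut E) x = x) :
    (∀ g ∈ T, g ∈ Subgroup.zpowers τ) ∧ orderOf τ = p ∧
      ∃ c l e : E, c ≠ 1 ∧ l ∉ Subgroup.zpowers c ∧ c ∈ H ∧ l ∈ H ∧ e ∉ H ∧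
        (τ : MulAut E) e = c * e ∧ Subgroup.zpowers c ⊔ Subgroup.zpowers l = H ∧
        H ⊔ Subgroup.zpowers e = ⊤ ∧
        ∃ h : ↥B, (h : MulAut E) c = c⁻¹ ∧ (h : MulAut E) l = l ∧ (h : MulAut E) e = e⁻¹ ∧
          h * τ = τ * h ∧ h * h = 1 := by
  obtain ⟨h1, h2, c, l, e, a1, a2, a3, a4, a5, a6, a7, a8, h, b1, b2, b3, b4, b5, -⟩ :=
    transvection_facts' hexp hcard hY hT hτT hτ hH hfix
  exact ⟨h1, h2, c, l, e, a1, a2, a3, a4, a5, a6, a7, a8, h, b1, b2, b3, b4, b5⟩

end Cfsg.Agent.Fus.CubeAut
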