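import Cfsg.Agent.Lib.Fus.CubicOddLift

/-!
For odd `p`, `p`-stability in normalizer form passes to quotients by central `p`-subgroups.
-/

set_option autoImplicit false
set_option linter.style.haveILetI false
set_option linter.unusedSectionVars false

open scoped commutatorElement Matrix

universe u

namespace Cfsg.Agent.Fus.CubicOdd

open Grp Grp.Quad Fus Invol
open Invol.CubicStable (commute_of_comm_commute Acts)

variable {p : ℕ} [hp : Fact p.Prime] {G : Type u} [Group G]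

local notation "SL2" => Matrix.SpecialLinearGroup (Fin 2) (ZMod p)
local notation "F2" => Multiplicative (Fin 2 → ZMod p)

set_option maxHeartbeats 1000000 in
/-- A pair acting quadratically on a section of exponent `p`, generating a group with an element of
order prime to `p` acting nontrivially, contradicts `p`-stability for odd `p`. -/
theorem false_of_quad_mod [Finite G] (hodd : p ≠ 2) (hst : IsNormalizerPStable p G) {D Y : Subgroup G}
    (hYD : Y ≤ D) (hexp : ∀ d ∈ D, d ^ p = 1) (hYc : ∀ y ∈ Y, ∀ d ∈ D, Commute y d)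
    (hab : ∀ r ∈ D, ∀ s ∈ D, r * s * r⁻¹ * s⁻¹ ∈ Y) {a b : G}
    (haD : a ∈ Subgroup.normalizer (D : Set G)) (hbD : b ∈ Subgroup.normalizer (D : Set G))
    (haY : a ∈ Subgroup.normalizer (Y : Set G)) (hbY : b ∈ Subgroup.normalizer (Y : Set G))
    (ha : ∀ d ∈ D, a * (a * d * a⁻¹ * d⁻¹) * a⁻¹ * (a * d * a⁻¹ * d⁻¹)⁻¹ ∈ Y)
    (hb : ∀ d ∈ D, b * (b * d * b⁻¹ * d⁻¹) * b⁻¹ * (b * d * b⁻¹ * d⁻¹)⁻¹ ∈ Y)
    (hY : ∀ y ∈ Subgroup.closure {a, b}, (orderOf y).Coprime p → ∀ z ∈ Y, Commute y z)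
    {x : G} (hxH : x ∈ Subgroup.closure {a, b}) (hxp : (orderOf x).Coprime p) {d₀ : G}
    (hd₀ : d₀ ∈ D) (hx : x * d₀ * x⁻¹ * d₀⁻¹ ∉ Y) : False := by
  classical
  set H := Subgroup.closure ({a, b} : Set G) with hH
  have hHD : H ≤ Subgroup.normalizer (D : Set G) := (Subgroup.closure_le _).mpr (by
    rintro y (rfl | rfl) <;> assumption)
  have hHY : H ≤ Subgroup.normalizer (Y : Set G) := (Subgroup.closure_le _).mpr (by
    rintro y (rfl | rfl) <;> assumption)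
  set Yd := Y.subgroupOf D with hYd
  haveI : Yd.Normal := ⟨fun y hy d => by
    rw [hYd, Subgroup.mem_subgroupOf] at hy ⊢
    simp only [Subgroup.coe_mul, InvMemClass.coe_inv]
    rwa [← (hYc _ hy _ d.2).eq, mul_inv_cancel_right]⟩
  have habD : ∀ r s : D, (QuotientGroup.mk' Yd r) * (QuotientGroup.mk' Yd s) =
      (QuotientGroup.mk' Yd s) * (QuotientGroup.mk' Yd r) := fun r s => by
    rw [← mul_inv_eq_one, ← map_mul, ← map_mul, ← map_inv, ← map_mul]
    refine (QuotientGroup.eq_one_iff _).2 ?_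
    rw [hYd, Subgroup.mem_subgroupOf]
    have h := hab r r.2 s s.2
    simpa [mul_assoc] using h
  letI : CommGroup (D ⧸ Yd) := { (inferInstance : Group (D ⧸ Yd)) with
    mul_comm := fun q r => by
      induction q using QuotientGroup.induction_on with
      | _ q => induction r using QuotientGroup.induction_on with
        | _ r => exact habD q r }
  haveI : Module (ZMod p) (Additive (D ⧸ Yd)) := AddCommGroup.zmodModule (fun w => by
    refine Additive.toMul.injective ?_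
    rw [toMul_nsmul, toMul_zero]
    induction Additive.toMul w using QuotientGroup.induction_on with
    | _ q =>
      rw [← QuotientGroup.mk_pow, show q ^ p = 1 from Subtype.ext (by
        rw [SubmonoidClass.coe_pow]; exact hexp _ q.2)]
      rfl)
  let mk : D → Additive (D ⧸ Yd) := fun d => Additive.ofMul (QuotientGroup.mk' Yd d)
  have hmk : ∀ w : Additive (D ⧸ Yd), ∃ d : D, mk d = w := fun w => by
    obtain ⟨d, hd⟩ := QuotientGroup.mk'_surjective Yd (Additive.toMul w)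
    exact ⟨d, congrArg Additive.ofMul hd⟩
  have hmk0 : ∀ d e : D, mk d = mk e ↔ ((d : G) * (e : G)⁻¹) ∈ Y := fun d e => by
    show Additive.ofMul _ = Additive.ofMul _ ↔ _
    rw [EmbeddingLike.apply_eq_iff_eq, ← mul_inv_eq_one, ← map_inv, ← map_mul]
    exact (QuotientGroup.eq_one_iff _).trans (by
      rw [hYd, Subgroup.mem_subgroupOf, Subgroup.coe_mul, InvMemClass.coe_inv])
  let θ : H →* MulAut D := D.normalizerMonoidHom.comp (Subgroup.inclusion hHD)
  have hθ : ∀ (g : H) (d : D), ((θ g d : D) : G) = g * d * (g : G)⁻¹ := fun _ _ => rfl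
  have hθY : ∀ g : H, Yd ≤ Yd.comap (θ g).toMonoidHom := fun g d hd => by
    rw [Subgroup.mem_comap, hYd, Subgroup.mem_subgroupOf]
    exact (Subgroup.mem_normalizer_iff.1 (hHY g.2) _).1 hd
  let ρ : H →* Module.End (ZMod p) (Additive (D ⧸ Yd)) :=
    { toFun := fun g =>
        ((QuotientGroup.map Yd Yd (θ g).toMonoidHom (hθY g)).toAdditive).toZModLinearMap p
      map_one' := LinearMap.ext fun w => by
        obtain ⟨d, rfl⟩ := hmk w
        show mk (θ 1 d) = mk d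
        rw [map_one]; rfl
      map_mul' := fun g g' => LinearMap.ext fun w => by
        obtain ⟨d, rfl⟩ := hmk w
        show mk (θ (g * g') d) = mk (θ g (θ g' d))
        rw [map_mul]; rfl }
  have hρ : ∀ (g : H) (d : D), ρ g (mk d) = mk (θ g d) := fun _ _ => rfl
  have hq : ∀ c : H, (∀ d ∈ D, (c : G) * ((c : G) * d * (c : G)⁻¹ * d⁻¹) * (c : G)⁻¹ *
      ((c : G) * d * (c : G)⁻¹ * d⁻¹)⁻¹ ∈ Y) → ∀ w, ρ c (ρ c w - w) = ρ c w - w := by
    intro c hc w
    obtain ⟨d, rfl⟩ := hmk w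
    have hsub : ρ c (mk d) - mk d = mk (θ c d * d⁻¹) := by
      rw [hρ]
      show _ = Additive.ofMul _
      rw [map_mul, map_inv, ofMul_mul, ofMul_inv, ← sub_eq_add_neg]
    rw [hsub, hρ, hmk0, hθ, Subgroup.coe_mul, InvMemClass.coe_inv, hθ]
    exact hc d d.2
  have hco : ∀ y : H, (orderOf y).Coprime p → ∀ d : D, ρ y (mk d) = mk d → Commute (y : G) d := by
    intro y hy d hfix
    rw [hρ, hmk0, hθ] at hfix
    exact commute_of_comm_commute (by rwa [Subgroup.orderOf_coe])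
      (hY y y.2 (by rwa [Subgroup.orderOf_coe]) _ hfix) (hexp _ (hYD hfix))
  haveI : Finite (Submodule (ZMod p) (Additive (D ⧸ Yd))) :=
    Finite.of_injective _ SetLike.coe_injective
  let x₁ : H := ⟨x, hxH⟩
  have hx₁ : (orderOf x₁).Coprime p := by
    rw [← Subgroup.orderOf_coe]
    exact hxp
  obtain ⟨T₀, ⟨hT₀, y₀, hy₀, hy₀T⟩, hmin⟩ := (Set.toFinite
    {T : Submodule (ZMod p) (Additive (D ⧸ Yd)) | (∀ g, ∀ w ∈ T, ρ g w ∈ T) ∧
      ∃ y : H, (orderOf y).Coprime p ∧ ∃ w ∈ T, ρ y w ≠ w}).exists_minimal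
      ⟨⊤, fun g w _ => Submodule.mem_top, x₁, hx₁, mk ⟨d₀, hd₀⟩, Submodule.mem_top, fun h => by
        rw [hρ, hmk0, hθ] at h
        exact hx h⟩
  let ρT : H →* Module.End (ZMod p) T₀ :=
    { toFun := fun g => (ρ g).restrict (hT₀ g)
      map_one' := LinearMap.ext fun w => Subtype.ext (by simp [LinearMap.restrict_apply])
      map_mul' := fun g g' => LinearMap.ext fun w => Subtype.ext (by
        simp [LinearMap.restrict_apply]) }
  have hρT : ∀ g (w : T₀), ((ρT g w : T₀) : Additive (D ⧸ Yd)) = ρ g w := fun _ _ => rfl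
  have hne : ρT y₀ ≠ 1 := by
    obtain ⟨w, hw, hwne⟩ := hy₀T
    intro h
    exact hwne (congrArg (fun f : Module.End (ZMod p) T₀ => ((f ⟨w, hw⟩ : T₀) : Additive (D ⧸ Yd))) h)
  obtain ⟨T₁, U', σ, hσ', hirr, hσne⟩ := exists_irred_quot ρT hne hy₀
  have hinvmap : ∀ (X : Submodule (ZMod p) T₀), (∀ g, ∀ w ∈ X, ρT g w ∈ X) →
      (∃ y : H, (orderOf y).Coprime p ∧ ∃ w ∈ X, ρT y w ≠ w) → X = ⊤ := by
    rintro X hX ⟨y, hy, w, hw, hne⟩
    have hmem : X.map T₀.subtype ∈ {T : Submodule (ZMod p) (Additive (D ⧸ Yd)) |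
        (∀ g, ∀ w ∈ T, ρ g w ∈ T) ∧ ∃ y : H, (orderOf y).Coprime p ∧ ∃ w ∈ T, ρ y w ≠ w} :=
      ⟨by rintro g _ ⟨v, hv, rfl⟩; exact ⟨ρT g v, hX g v hv, rfl⟩,
        y, hy, _, ⟨w, hw, rfl⟩, fun h => hne (Subtype.ext h)⟩
    have h := hmin hmem (Submodule.map_subtype_le _ _)
    refine Submodule.eq_top_iff'.2 fun v => ?_
    obtain ⟨v', hv', e⟩ := h v.2
    rwa [← Subtype.ext e]
  have hT₁ : T₁ = ⊤ := by
    refine hinvmap T₁ (fun g w hw => (hσ' g ⟨w, hw⟩).1) ⟨y₀, hy₀, ?_⟩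
    by_contra h
    push Not at h
    refine hσne (LinearMap.ext fun q => ?_)
    obtain ⟨w, rfl⟩ := Submodule.Quotient.mk_surjective _ q
    obtain ⟨h', e⟩ := hσ' y₀ w
    rw [e, Module.End.one_apply]
    exact congrArg _ (Subtype.ext (h _ w.2))
  subst hT₁
  let E : T₀ →ₗ[ZMod p] ((⊤ : Submodule (ZMod p) T₀) ⧸ U') :=
    U'.mkQ.comp (LinearMap.id.codRestrict ⊤ fun _ => Submodule.mem_top)
  have hE : ∀ g (w : T₀), E (ρT g w) = σ g (E w) := fun g w => by
    obtain ⟨h', e⟩ := hσ' g ⟨w, Submodule.mem_top⟩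
    exact e.symm
  have hEs : Function.Surjective E := fun q => by
    obtain ⟨w, rfl⟩ := Submodule.Quotient.mk_surjective _ q
    exact ⟨w, rfl⟩
  have hfix : ∀ y : H, (orderOf y).Coprime p → ∀ w : T₀, E w = 0 → ρT y w = w := by
    intro y hy w hw
    by_contra hne'
    have h := hinvmap (LinearMap.ker E) (fun g v hv => by
      rw [LinearMap.mem_ker] at hv ⊢; rw [hE, hv, map_zero])
      ⟨y, hy, w, LinearMap.mem_ker.2 hw, hne'⟩
    refine hσne (LinearMap.ext fun q => ?_)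
    obtain ⟨v, rfl⟩ := hEs q
    have : E v = 0 := LinearMap.mem_ker.1 (h.ge Submodule.mem_top)
    rw [this, map_zero, map_zero]
  have hσq : ∀ c, (∀ w, ρ c (ρ c w - w) = ρ c w - w) → ∀ q, σ c (σ c q - q) = σ c q - q := by
    intro c hc q
    obtain ⟨w, rfl⟩ := hEs q
    rw [← hE, ← map_sub, ← hE]
    exact congrArg E (Subtype.ext (hc w))
  have hgen : Subgroup.closure ({⟨a, Subgroup.subset_closure (by simp)⟩,
      ⟨b, Subgroup.subset_closure (by simp)⟩} : Set H) = ⊤ := by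
    refine Subgroup.map_injective H.subtype_injective ?_
    rw [MonoidHom.map_closure, Set.image_pair, ← MonoidHom.range_eq_map, Subgroup.range_subtype]
    rfl
  haveI : Finite ((⊤ : Submodule (ZMod p) T₀) ⧸ U') := Finite.of_surjective _ hEs
  obtain ⟨K, _, _, _, φ, P, hP, -, -, -, -, -, V, ψ, hψ, hA⟩ :=
    exists_sl_two_bij hodd σ hgen (hσq _ (hq _ ha)) (hσq _ (hq _ hb)) hirr (by
      by_contra h
      push Not at h
      exact hσne (LinearMap.ext fun q => h y₀ q))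
  let Qr : H → SL2 → Prop := fun g A => ∃ hg : ∀ q ∈ V, σ g q ∈ V,
    ∀ q : V, ψ ⟨σ g q, hg q q.2⟩ = (A : Matrix (Fin 2) (Fin 2) (ZMod p)) *ᵥ ψ q
  -- back to the group
  let W₀ : Subgroup G :=
    { carrier := {e | ∃ he : e ∈ D, ∃ h : mk ⟨e, he⟩ ∈ T₀, E ⟨_, h⟩ ∈ V}
      one_mem' := ⟨D.one_mem, by
        have h0 : mk (⟨1, D.one_mem⟩ : D) = 0 := by
          show Additive.ofMul (QuotientGroup.mk' Yd 1) = 0
          rw [map_one]; rfl
        refine ⟨h0 ▸ T₀.zero_mem, ?_⟩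
        rw [show (⟨mk ⟨1, D.one_mem⟩, h0 ▸ T₀.zero_mem⟩ : T₀) = 0 from Subtype.ext h0, map_zero]
        exact V.zero_mem⟩
      mul_mem' := by
        rintro e e' ⟨he, h, hV⟩ ⟨he', h', hV'⟩
        have hadd : mk ⟨e * e', D.mul_mem he he'⟩ = mk ⟨e, he⟩ + mk ⟨e', he'⟩ := rfl
        refine ⟨D.mul_mem he he', hadd ▸ T₀.add_mem h h', ?_⟩
        rw [show (⟨mk ⟨e * e', D.mul_mem he he'⟩, hadd ▸ T₀.add_mem h h'⟩ : T₀) = ⟨_, h⟩ + ⟨_, h'⟩
          from Subtype.ext hadd, map_add]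
        exact V.add_mem hV hV'
      inv_mem' := by
        rintro e ⟨he, h, hV⟩
        have hneg : mk ⟨e⁻¹, D.inv_mem he⟩ = -mk ⟨e, he⟩ := rfl
        refine ⟨D.inv_mem he, hneg ▸ T₀.neg_mem h, ?_⟩
        rw [show (⟨mk ⟨e⁻¹, D.inv_mem he⟩, hneg ▸ T₀.neg_mem h⟩ : T₀) = -⟨_, h⟩
          from Subtype.ext hneg, map_neg]
        exact V.neg_mem hV }
  have hW₀ : ∀ w : W₀, (w : G) ∈ D := fun w => w.2.choose
  have hW₀T : ∀ w : W₀, mk ⟨w, hW₀ w⟩ ∈ T₀ := fun w => w.2.choose_spec.choose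
  have hW₀V : ∀ w : W₀, E ⟨_, hW₀T w⟩ ∈ V := fun w => w.2.choose_spec.choose_spec
  let π : W₀ →* F2 := MonoidHom.mk' (fun w => Multiplicative.ofAdd (ψ ⟨_, hW₀V w⟩)) fun w w' => by
    rw [← ofAdd_add, ← map_add]
    refine congrArg (fun q => Multiplicative.ofAdd (ψ q)) (Subtype.ext ?_)
    show E _ = E _ + E _
    rw [← map_add]
    rfl
  have hπ : Function.Surjective π := fun v => by
    obtain ⟨⟨q, hqV⟩, hq'⟩ := hψ.2 v.toAdd
    obtain ⟨⟨t, ht⟩, rfl⟩ := hEs q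
    obtain ⟨⟨d, hd⟩, rfl⟩ := hmk t
    exact ⟨⟨d, hd, ht, hqV⟩, congrArg Multiplicative.ofAdd hq'⟩
  have hπE : ∀ w : W₀, π w = 1 → E ⟨_, hW₀T w⟩ = 0 := fun w hw =>
    congrArg Subtype.val (hψ.1 ((Multiplicative.ofAdd.injective hw).trans (map_zero ψ).symm))
  have hYW : Y ≤ W₀ := fun y hy => by
    have h0 : mk ⟨y, hYD hy⟩ = 0 := congrArg Additive.ofMul
      ((QuotientGroup.eq_one_iff _).2 (show (⟨y, hYD hy⟩ : D) ∈ Yd from hy))
    refine ⟨hYD hy, h0 ▸ T₀.zero_mem, ?_⟩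
    rw [show (⟨mk ⟨y, hYD hy⟩, h0 ▸ T₀.zero_mem⟩ : T₀) = 0 from Subtype.ext h0, map_zero]
    exact V.zero_mem
  have hker : ∀ w : W₀, (w : G) ∈ Y → π w = 1 := fun w hw => by
    have h0 : mk ⟨w, hW₀ w⟩ = 0 := congrArg Additive.ofMul
      ((QuotientGroup.eq_one_iff _).2 (show (⟨w, hW₀ w⟩ : D) ∈ Yd from hw))
    show Multiplicative.ofAdd _ = _
    rw [show (⟨E ⟨_, hW₀T w⟩, hW₀V w⟩ : V) = 0 from Subtype.ext
      ((congrArg E (show (⟨mk ⟨w, hW₀ w⟩, hW₀T w⟩ : T₀) = 0 from Subtype.ext h0)).trans (map_zero E)),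
      map_zero]
    rfl
  have hacts : ∀ {g : H} {A : SL2}, Qr g A → Acts W₀ π g A := by
    rintro g A ⟨hg, hgA⟩
    have hin : ∀ w : W₀, ∃ h : mk (θ g ⟨w, hW₀ w⟩) ∈ T₀,
        E ⟨_, h⟩ = σ g (E ⟨_, hW₀T w⟩) := fun w =>
      ⟨hρ g _ ▸ hT₀ g _ (hW₀T w), by rw [← hE]; rfl⟩
    refine ⟨fun w hw => ?_, fun w => ?_⟩
    · obtain ⟨h, e⟩ := hin ⟨w, hw⟩
      exact ⟨(θ g ⟨w, hW₀ ⟨w, hw⟩⟩).2, h, e ▸ hg _ (hW₀V _)⟩
    · obtain ⟨h, e⟩ := hin w
      exact (congrArg (fun q => Multiplicative.ofAdd (ψ q)) (Subtype.ext e)).trans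
        (congrArg Multiplicative.ofAdd (hgA ⟨_, hW₀V w⟩))
  refine false_of_acts hodd hst H (W := W₀) (π := π) (fun w hw => hexp w (hW₀ ⟨w, hw⟩))
    (fun r hr s hs t ht => hYc _ (hab r (hW₀ ⟨r, hr⟩) s (hW₀ ⟨s, hs⟩)) t (hW₀ ⟨t, ht⟩))
    (fun y hy hyp w hw => hco ⟨y, hy⟩ (by rwa [← Subgroup.orderOf_coe]) ⟨w, hW₀ w⟩
      (congrArg Subtype.val (hfix ⟨y, hy⟩ (by rwa [← Subgroup.orderOf_coe]) _ (hπE w hw))))
    hπ (fun A => ?_)
  obtain ⟨g, hg, hgA⟩ := hA A
  exact ⟨g, g.2, hacts (g := g) (A := A) ⟨hg, hgA⟩⟩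

/-- No pair acts on a `p`-group quadratically modulo a central subgroup and generates more than a
`p`-group of automorphisms. -/
theorem false_of_cubic_pair [Finite G] (hodd : p ≠ 2) (hst : IsNormalizerPStable p G) {U Z : Subgroup G}
    (hU : IsPGroup p U) (hZc : Z ≤ Subgroup.center G) {a b : G}
    (haU : a ∈ Subgroup.normalizer (U : Set G)) (hbU : b ∈ Subgroup.normalizer (U : Set G))
    (ha : ∀ d ∈ U, a * (a * d * a⁻¹ * d⁻¹) * a⁻¹ * (a * d * a⁻¹ * d⁻¹)⁻¹ ∈ Z)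
    (hb : ∀ d ∈ U, b * (b * d * b⁻¹ * d⁻¹) * b⁻¹ * (b * d * b⁻¹ * d⁻¹)⁻¹ ∈ Z)
    {x : G} (hxH : x ∈ Subgroup.closure {a, b}) (hxp : (orderOf x).Coprime p)
    (hx : x ∉ Subgroup.centralizer (U : Set G)) : False := by
  classical
  have hxU : x ∈ Subgroup.normalizer (U : Set G) := (Subgroup.closure_le _).2 (by
    rintro y (rfl | rfl) <;> assumption) hxH
  obtain ⟨H₀, hH₀c, hH₁, -, hH₀C⟩ := exists_critical hU
  haveI := hH₀c
  set H := H₀.map U.subtype with hH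
  have hHU : H ≤ U := Subgroup.map_subtype_le _
  have hHp : IsPGroup p H := hU.to_le hHU
  have hNH : Subgroup.normalizer (U : Set G) ≤ Subgroup.normalizer (H : Set G) := fun g hg => by
    rw [Grp.mem_normalizer_iff_smul, ← Grp.map_conj_eq_smul]
    exact Grp.map_char_eq hg _
  have hHc : ∀ r ∈ H, ∀ s ∈ H, ∀ t ∈ H, Commute (r * s * r⁻¹ * s⁻¹) t := by
    rintro _ ⟨r, hr, rfl⟩ _ ⟨s, hs, rfl⟩ _ ⟨t, ht, rfl⟩
    have h := hH₁ (Subgroup.commutator_mem_commutator hr (Subgroup.mem_top s))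
    have h2 : Commute t (r * s * r⁻¹ * s⁻¹) := Subgroup.mem_centralizer_iff.1 h.2 t ht
    simpa using (h2.map U.subtype).symm
  let D : Subgroup G :=
    { carrier := {w | w ∈ H ∧ w ^ p = 1}
      one_mem' := ⟨H.one_mem, one_pow _⟩
      mul_mem' := fun {r s} hr hs => ⟨H.mul_mem hr.1 hs.1, by
        set c := s * r * s⁻¹ * r⁻¹ with hc
        have hcr : Commute c r := hHc s hs.1 r hr.1 r hr.1
        have hcs : Commute c s := hHc s hs.1 r hr.1 s hs.1
        have hcp : c ^ p = 1 := by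
          have h1 : (c * r) ^ p = 1 := by
            rw [show c * r = s * r * s⁻¹ by rw [hc, inv_mul_cancel_right], conj_pow, hr.2, mul_one,
              mul_inv_cancel]
          rwa [hcr.mul_pow, hr.2, mul_one] at h1
        have hch : p ∣ p.choose 2 := hp.out.dvd_choose_self (by norm_num) (by have := hp.out.two_le; omega)
        obtain ⟨m, hm⟩ := hch
        rw [Grp.mul_pow_class_two (show s * r = c * r * s by rw [hc]; group) hcr hcs p, hr.2, hs.2,
          hm, pow_mul, hcp, one_pow, one_mul, one_mul]⟩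
      inv_mem' := fun {r} hr => ⟨H.inv_mem hr.1, by rw [inv_pow, hr.2, inv_one]⟩ }
  have hDH : D ≤ H := fun w hw => hw.1
  have hND : Subgroup.normalizer (U : Set G) ≤ Subgroup.normalizer (D : Set G) := fun g hg =>
    mem_normalizer_of_forall_mem fun w hw =>
      ⟨(Subgroup.mem_normalizer_iff.1 (hNH hg) w).1 hw.1, by
        rw [conj_pow, hw.2, mul_one, mul_inv_cancel]⟩
  -- `x` moves `D`
  have hxD : ∃ d ∈ D, ¬ Commute x d := by
    by_contra h
    push Not at h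
    have hXH : Subgroup.zpowers x ≤ Subgroup.centralizer (H : Set G) := by
      refine Grp.le_centralizer_of_order_p hodd _ (by rwa [Nat.card_zpowers]) H hHp
        (Subgroup.zpowers_le.2 (hNH hxU)) fun u hu hup y hy => ?_
      obtain ⟨k, rfl⟩ := Subgroup.mem_zpowers_iff.1 hy
      exact ((h u ⟨hu, hup⟩).zpow_left k).eq
    let α : MulAut U := U.normalizerMonoidHom ⟨x, hxU⟩
    have hα : α = 1 := by
      refine aut_eq_one_of_fixed hU hH₀C (hxp.coprime_dvd_left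
        ((orderOf_map_dvd U.normalizerMonoidHom ⟨x, hxU⟩).trans (by rw [Subgroup.orderOf_mk]))) ?_
      intro w hw
      refine Subtype.ext ?_
      show x * (w : G) * x⁻¹ = w
      rw [← Subgroup.mem_centralizer_iff.1 (hXH (Subgroup.mem_zpowers x)) w ⟨w, hw, rfl⟩,
        mul_inv_cancel_right]
    refine hx (Subgroup.mem_centralizer_iff.2 fun w hw => ?_)
    have h1 := congrArg (fun f : MulAut U => ((f ⟨w, hw⟩ : U) : G)) hα
    exact (mul_inv_eq_iff_eq_mul.1 (show x * w * x⁻¹ = w from h1)).symm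
  obtain ⟨d₀, hd₀, hxd₀⟩ := hxD
  set Y := D ⊓ Subgroup.centralizer (D : Set G) with hY
  have hYc : ∀ y ∈ Y, ∀ d ∈ D, Commute y d := fun y hy d hd =>
    (Subgroup.mem_centralizer_iff.1 hy.2 d hd).symm
  have hNY : Subgroup.normalizer (U : Set G) ≤ Subgroup.normalizer (Y : Set G) := fun g hg =>
    mem_normalizer_of_forall_mem fun y hy =>
      ⟨(Subgroup.mem_normalizer_iff.1 (hND hg) y).1 hy.1, Subgroup.mem_centralizer_iff.2 fun d hd => by
        have h1 := (hYc y hy _ ((Subgroup.mem_normalizer_iff''.1 (hND hg) d).1 hd)).eq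
        calc d * (g * y * g⁻¹) = g * (g⁻¹ * d * g * y) * g⁻¹ := by group
          _ = g * (y * (g⁻¹ * d * g)) * g⁻¹ := by rw [← h1]
          _ = g * y * g⁻¹ * d := by group⟩
  have habD : ∀ r ∈ D, ∀ s ∈ D, r * s * r⁻¹ * s⁻¹ ∈ Y := fun r hr s hs =>
    ⟨D.mul_mem (D.mul_mem (D.mul_mem hr hs) (D.inv_mem hr)) (D.inv_mem hs),
      Subgroup.mem_centralizer_iff.2 fun t ht => ((hHc r hr.1 s hs.1 t ht.1).eq).symm⟩
  have hDU : D ≤ U := hDH.trans hHU
  have hZcomm : ∀ z ∈ Z, ∀ g : G, Commute g z := fun z hz g => Subgroup.mem_center_iff.1 (hZc hz) g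
  have hq : ∀ c ∈ ({a, b} : Set G), ∀ d ∈ D,
      c * (c * d * c⁻¹ * d⁻¹) * c⁻¹ * (c * d * c⁻¹ * d⁻¹)⁻¹ ∈ D ⊓ Z := by
    intro c hc d hd
    have hcU : c ∈ Subgroup.normalizer (U : Set G) := by rcases hc with rfl | rfl <;> assumption
    have h1 : c * d * c⁻¹ * d⁻¹ ∈ D :=
      D.mul_mem ((Subgroup.mem_normalizer_iff.1 (hND hcU) d).1 hd) (D.inv_mem hd)
    refine ⟨D.mul_mem ((Subgroup.mem_normalizer_iff.1 (hND hcU) _).1 h1) (D.inv_mem h1), ?_⟩
    rcases hc with rfl | rfl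
    exacts [ha d (hDU hd), hb d (hDU hd)]
  by_cases hcase : ∀ y ∈ Subgroup.closure {a, b}, (orderOf y).Coprime p → ∀ z ∈ Y, Commute y z
  · refine false_of_quad_mod hodd hst (inf_le_left : Y ≤ D) (fun d hd => hd.2) hYc habD (hND haU)
      (hND hbU) (hNY haU) (hNY hbU) (fun d hd => ?_) (fun d hd => ?_) hcase hxH hxp hd₀ fun h => ?_
    · exact ⟨(hq a (Or.inl rfl) d hd).1, Subgroup.mem_centralizer_iff.2 fun t _ =>
        hZcomm _ (hq a (Or.inl rfl) d hd).2 t⟩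
    · exact ⟨(hq b (Or.inr rfl) d hd).1, Subgroup.mem_centralizer_iff.2 fun t _ =>
        hZcomm _ (hq b (Or.inr rfl) d hd).2 t⟩
    · exact hxd₀ (commute_of_comm_commute hxp (hcase x hxH hxp _ h) h.1.2)
  · push Not at hcase
    obtain ⟨y, hyH, hyp, z, hz, hyz⟩ := hcase
    refine false_of_quad_mod hodd hst (inf_le_left : Y ⊓ Z ≤ Y) (fun d hd => hd.1.2)
      (fun w _ d _ => ?_) (fun r hr s hs => ?_) (hNY haU) (hNY hbU) ?_ ?_ (fun d hd => ?_)
      (fun d hd => ?_) (fun g _ _ w hw => hZcomm w hw.2 g) hyH hyp hz fun h => ?_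
    · exact (hYc w ‹w ∈ Y ⊓ Z›.1 d (‹d ∈ Y›).1)
    · rw [(hYc r hr s hs.1).eq, mul_inv_cancel_right, mul_inv_cancel]
      exact (Y ⊓ Z).one_mem
    · exact mem_normalizer_of_forall_mem fun w hw => by
        rw [(hZcomm w hw.2 a).eq, mul_inv_cancel_right]; exact hw
    · exact mem_normalizer_of_forall_mem fun w hw => by
        rw [(hZcomm w hw.2 b).eq, mul_inv_cancel_right]; exact hw
    · have h1 : a * d * a⁻¹ * d⁻¹ ∈ Y :=
        Y.mul_mem ((Subgroup.mem_normalizer_iff.1 (hNY haU) d).1 hd) (Y.inv_mem hd)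
      exact ⟨Y.mul_mem ((Subgroup.mem_normalizer_iff.1 (hNY haU) _).1 h1) (Y.inv_mem h1),
        ha d (hDU hd.1)⟩
    · have h1 : b * d * b⁻¹ * d⁻¹ ∈ Y :=
        Y.mul_mem ((Subgroup.mem_normalizer_iff.1 (hNY hbU) d).1 hd) (Y.inv_mem hd)
      exact ⟨Y.mul_mem ((Subgroup.mem_normalizer_iff.1 (hNY hbU) _).1 h1) (Y.inv_mem h1),
        hb d (hDU hd.1)⟩
    · exact hyz (commute_of_comm_commute hyp (hZcomm _ h.2 y) h.1.1.2)

/-- For odd `p`, stability passes to quotients by central `p`-subgroups. -/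
theorem isNormalizerPStable_quotient_central [Finite G] (hodd : p ≠ 2) (hst : IsNormalizerPStable p G)
    (Z : Subgroup G) [Z.Normal] (hZc : Z ≤ Subgroup.center G) (hZp : IsPGroup p Z) :
    IsNormalizerPStable p (G ⧸ Z) := by
  intro P hP g hg hq
  by_contra hcon
  set N := Subgroup.normalizer (P : Set (G ⧸ Z)) with hN
  obtain ⟨n, x, hx, hxp, hxf⟩ := exists_pair
    (QuotientGroup.mk' ((Subgroup.centralizer (P : Set (G ⧸ Z))).subgroupOf N))
    (QuotientGroup.mk'_surjective _) (a := ⟨g, hg⟩) hcon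
  set q := QuotientGroup.mk' Z with hqdef
  have hqs : Function.Surjective q := QuotientGroup.mk'_surjective Z
  set U := P.comap q with hU
  have hUp : IsPGroup p U := hP.comap_of_ker_isPGroup q (by rwa [hqdef, QuotientGroup.ker_mk'])
  have hNU : ∀ e : G, q e ∈ N → e ∈ Subgroup.normalizer (U : Set G) := fun e he =>
    mem_normalizer_of_forall_mem fun w hw => by
      show q (e * w * e⁻¹) ∈ P
      rw [map_mul, map_mul, map_inv]
      exact (Subgroup.mem_normalizer_iff.1 he _).1 hw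
  obtain ⟨a, ha⟩ := hqs g
  obtain ⟨m, hm⟩ := hqs (n : G ⧸ Z)
  set b := m * a * m⁻¹ with hb
  have hqb : q b = (n : G ⧸ Z) * g * (n : G ⧸ Z)⁻¹ := by
    rw [hb, map_mul, map_mul, map_inv, ha, hm]
  have haU : a ∈ Subgroup.normalizer (U : Set G) := hNU a (ha ▸ hg)
  have hbU : b ∈ Subgroup.normalizer (U : Set G) :=
    hNU b (hqb ▸ mul_mem (mul_mem n.2 hg) (inv_mem n.2))
  have hquad : ∀ c : G, QuadOn (q c) P → ∀ d ∈ U,
      c * (c * d * c⁻¹ * d⁻¹) * c⁻¹ * (c * d * c⁻¹ * d⁻¹)⁻¹ ∈ Z := fun c hc d hd => by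
    rw [← QuotientGroup.ker_mk' Z, MonoidHom.mem_ker, ← hqdef]
    have h := (hc (q d) hd).eq
    simp only [map_mul, map_inv]
    rw [h]
    group
  have hqa : QuadOn (q a) P := ha ▸ quadOn_of_commutator hq
  have hqb' : QuadOn (q b) P := hqb ▸ (quadOn_of_commutator hq).conj n.2
  obtain ⟨y, hy, hyx⟩ : (x : G ⧸ Z) ∈ (Subgroup.closure {a, b}).map q := by
    rw [MonoidHom.map_closure, Set.image_pair, ha, hqb]
    have e : (Subgroup.closure ({⟨g, hg⟩, n * ⟨g, hg⟩ * n⁻¹} : Set N)).map N.subtype =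
        Subgroup.closure {g, (n : G ⧸ Z) * g * (n : G ⧸ Z)⁻¹} := by
      rw [MonoidHom.map_closure, Set.image_pair]; rfl
    exact e.le (Subgroup.mem_map_of_mem _ hx)
  have hy' : ∀ k : ℕ, y ^ p ^ k ∉ Subgroup.centralizer (U : Set G) := by
    intro k hk
    refine hxf ((QuotientGroup.eq_one_iff x).2 ?_)
    rw [Subgroup.mem_subgroupOf, Subgroup.mem_centralizer_iff]
    intro w hw
    obtain ⟨w, rfl⟩ := hqs w
    have h1 : Commute ((x : G ⧸ Z) ^ p ^ k) (q w) := by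
      rw [← hyx, ← map_pow]
      exact (show Commute (y ^ p ^ k) w from (Subgroup.mem_centralizer_iff.1 hk w hw).symm).map q
    obtain ⟨j, hj⟩ := exists_pow_eq_self_of_coprime
      (show Nat.Coprime (p ^ k) (orderOf (x : G ⧸ Z)) by
        rw [Subgroup.orderOf_coe]; exact (hxp.symm).pow_left k)
    have h2 := h1.pow_left j
    rw [hj] at h2
    exact h2.eq.symm
  obtain ⟨z, hz, hzp, hzC⟩ := exists_coprime_pow (p := p) hy hy'
  exact false_of_cubic_pair hodd hst hUp hZc haU hbU (hquad a hqa) (hquad b hqb') hz hzp hzC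

end Cfsg.Agent.Fus.CubicOdd
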