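import Cfsg.Agent.Lib.Invol.CubicStable

/-!
A `p`-stable group, `p` odd, induces no `SL(2, p)` on a quotient of order `p²` of a subgroup of
exponent `p` whose elements of order prime to `p` fix the kernel. This includes `p = 3`.
-/

set_option autoImplicit false
set_option linter.style.haveILetI false
set_option linter.unusedSectionVars false

open scoped commutatorElement Matrix Pointwise

namespace Cfsg.Agent.Fus.CubicOdd

open Grp Grp.Quad Fus Invol Invol.CubicStable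

variable {p : ℕ} [hp : Fact p.Prime]

local notation "SL2" => Matrix.SpecialLinearGroup (Fin 2) (ZMod p)
local notation "F2" => Multiplicative (Fin 2 → ZMod p)

variable {G : Type*} [Group G]

/-- An element moving `w` by a commuting element of order `p` has `p`th power fixing `w`. -/
theorem commute_pow_of_stab {y w : G} (hc : Commute y (y * w * y⁻¹ * w⁻¹))
    (hcp : (y * w * y⁻¹ * w⁻¹) ^ p = 1) : Commute (y ^ p) w := by
  set c := y * w * y⁻¹ * w⁻¹ with hcdef
  have hpow : ∀ m : ℕ, y ^ m * w * (y ^ m)⁻¹ = c ^ m * w := by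
    intro m
    induction m with
    | zero => simp
    | succ m ih =>
      calc y ^ (m + 1) * w * (y ^ (m + 1))⁻¹ = y * (y ^ m * w * (y ^ m)⁻¹) * y⁻¹ := by
            rw [pow_succ']; group
        _ = y * (c ^ m * w) * y⁻¹ := by rw [ih]
        _ = c ^ m * (y * w * y⁻¹) := by
          rw [← mul_assoc y, (hc.pow_right m).eq, mul_assoc (c ^ m) y w, mul_assoc (c ^ m)]
        _ = c ^ m * (c * w) := by rw [show y * w * y⁻¹ = c * w from (inv_mul_cancel_right _ _).symm]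
        _ = c ^ (m + 1) * w := by rw [pow_succ]; exact (mul_assoc _ _ _).symm
  have h1 := hpow p
  rw [hcp, one_mul] at h1
  exact mul_inv_eq_iff_eq_mul.1 h1

theorem Acts.inv [Finite G] {W : Subgroup G} {π : W →* F2} (hπ : Function.Surjective π) {g : G}
    {A : SL2} (hg : Acts W π g A) : Acts W π g⁻¹ A⁻¹ := by
  obtain ⟨n, hn⟩ : ∃ n, orderOf g = n + 1 := ⟨orderOf g - 1, by have := orderOf_pos g; omega⟩
  have hg' : g ^ (n + 1) = 1 := by rw [← hn, pow_orderOf_eq_one]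
  have hA : A ^ (n + 1) = 1 := Acts.unique hπ (g := g ^ (n + 1)) (hg.pow _) (hg' ▸ Acts.one W π)
  rw [inv_eq_of_mul_eq_one_left (by rw [← pow_succ]; exact hg' : g ^ n * g = 1),
    inv_eq_of_mul_eq_one_left (by rw [← pow_succ]; exact hA : A ^ n * A = 1)]
  exact hg.pow n

theorem negOne_central (A : SL2) : negOne * A = A * negOne :=
  eq_of_matAct_eq fun v => by
    rw [matAct_mul, matAct_mul, matAct_negOne, matAct_negOne, matAct_inv_vec]

theorem negOne_sq : negOne (p := p) * negOne = 1 :=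
  eq_of_matAct_eq fun v => by rw [matAct_mul, matAct_negOne, matAct_negOne, inv_inv, matAct_one]

/-- In exponent `p` a square is trivial only for the identity. -/
theorem eq_one_of_sq (hodd : p ≠ 2) {x : G} (hx : x ^ p = 1) (h2 : x * x = 1) : x = 1 := by
  obtain ⟨k, hk⟩ : ∃ k, p = 2 * k + 1 := hp.out.odd_of_ne_two hodd
  rw [hk, pow_succ, pow_mul, sq, h2, one_pow, one_mul] at hx
  exact hx

set_option maxHeartbeats 1000000 in
/-- A `p`-stable group, `p` odd, induces no `SL(2, p)` on a quotient of order `p²` of a subgroup of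
exponent `p` and class at most two, if the elements of order prime to `p` fix the kernel. -/
theorem false_of_acts [Finite G] (hodd : p ≠ 2) (hst : IsNormalizerPStable p G) {W : Subgroup G}
    (H : Subgroup G) {π : W →* F2} (hexp : ∀ w ∈ W, w ^ p = 1)
    (hcl : ∀ a ∈ W, ∀ b ∈ W, ∀ c ∈ W, Commute (a * b * a⁻¹ * b⁻¹) c)
    (hp' : ∀ y ∈ H, (orderOf y).Coprime p → ∀ w : W, π w = 1 → Commute y w)
    (hπ : Function.Surjective π) (hsurj : ∀ A : SL2, ∃ g ∈ H, Acts W π g A) : False := by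
  classical
  obtain ⟨k, hpk⟩ : ∃ k, p = 2 * k + 1 := hp.out.odd_of_ne_two hodd
  -- an element of order prime to `p` inducing minus the identity
  obtain ⟨τ, hτH, hτp, hτ⟩ : ∃ τ ∈ H, (orderOf τ).Coprime p ∧ Acts W π τ negOne := by
    obtain ⟨g, hgH, hg⟩ := hsurj negOne
    refine ⟨g ^ p ^ ((orderOf g).factorization p), H.pow_mem hgH _, ?_, ?_⟩
    · rw [orderOf_pow_of_dvd (pow_ne_zero _ hp.out.ne_zero) (Nat.ordProj_dvd _ _)]
      exact (Nat.coprime_ordCompl hp.out (orderOf_pos g).ne').symm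
    · have h := hg.pow (p ^ ((orderOf g).factorization p))
      rwa [show negOne (p := p) ^ p ^ ((orderOf g).factorization p) = negOne from
        dg_pow_prime_pow _ _ _ _] at h
  have hτR := hp' τ hτH hτp
  have hπp : ∀ {x : G} (hx : x ∈ W) {y : G} (hy : y ∈ W),
      π ⟨x, hx⟩ = π ⟨y, hy⟩ → π ⟨x⁻¹ * y, W.mul_mem (W.inv_mem hx) hy⟩ = 1 := fun hx _ hy h => by
    rw [show (⟨_, W.mul_mem (W.inv_mem hx) hy⟩ : W) = ⟨_, hx⟩⁻¹ * ⟨_, hy⟩ from rfl, map_mul,
      map_inv, h, inv_mul_cancel]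
  -- elements inducing the identity on the quotient and fixing the kernel
  have hstab : ∀ {g : G}, Acts W π g 1 → (∀ w : W, π w = 1 → Commute g w) →
      ∀ w ∈ W, Commute g (g * w * g⁻¹ * w⁻¹) ∧ (g * w * g⁻¹ * w⁻¹) ^ p = 1 := fun {g} hg hgR w hw => by
    refine ⟨hgR ⟨_, W.mul_mem (hg.1 w hw) (W.inv_mem hw)⟩ ?_,
      hexp _ (W.mul_mem (hg.1 w hw) (W.inv_mem hw))⟩
    rw [show (⟨_, W.mul_mem (hg.1 w hw) (W.inv_mem hw)⟩ : W) = ⟨_, hg.1 w hw⟩ * ⟨w, hw⟩⁻¹ from rfl,
      map_mul, map_inv, hg.pi hw, matAct_one, mul_inv_cancel]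
  set θ := W.normalizerMonoidHom with hθdef
  set T := θ ⟨τ, hτ.mem_normalizer⟩ with hTdef
  have hT2 : T * T = 1 := by
    have h2 : Acts W π (τ * τ) 1 := negOne_sq (p := p) ▸ hτ.mul hτ
    have hord : (orderOf (τ * τ)).Coprime p := by
      refine hτp.coprime_dvd_left ?_
      rw [← sq]
      exact orderOf_pow_dvd 2
    have hf : ∀ w ∈ W, Commute (τ * τ) w := fun w hw => by
      obtain ⟨h1, h1p⟩ := hstab h2 (fun w hw => (hτR w hw).mul_left (hτR w hw)) w hw
      exact commute_of_comm_commute hord h1 h1p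
    refine MulEquiv.ext fun w => Subtype.ext ?_
    show τ * (τ * (w : G) * τ⁻¹) * τ⁻¹ = w
    rw [show τ * (τ * (w : G) * τ⁻¹) * τ⁻¹ = τ * τ * w * (τ * τ)⁻¹ by group, (hf w w.2).eq,
      mul_inv_cancel_right]
  -- correct elements to commute with it on `W`
  have hadj : ∀ {u : G} {A : SL2}, u ∈ H → Acts W π u A →
      ∃ u', ∃ h : Acts W π u' A, θ ⟨u', h.mem_normalizer⟩ * T = T * θ ⟨u', h.mem_normalizer⟩ := by
    intro u A huH hu
    set e := u * τ * u⁻¹ with he
    have heA : Acts W π e negOne := by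
      have h := (hu.mul hτ).mul (Acts.inv hπ hu)
      rwa [← negOne_central, mul_inv_cancel_right] at h
    have heR := hp' e (H.mul_mem (H.mul_mem huH hτH) (H.inv_mem huH))
      (by rwa [he, show orderOf (u * τ * u⁻¹) = orderOf τ from MulEquiv.orderOf_eq (MulAut.conj u) τ])
    have hdA : Acts W π (e * τ) 1 := negOne_sq (p := p) ▸ heA.mul hτ
    have hdp : ∀ w ∈ W, Commute ((e * τ) ^ p) w := fun w hw => by
      obtain ⟨h1, h2⟩ := hstab hdA (fun w hw => (heR w hw).mul_left (hτR w hw)) w hw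
      exact commute_pow_of_stab h1 h2
    have hu'A : Acts W π (((e * τ) ^ (k + 1))⁻¹ * u) A := by
      have h := (Acts.inv hπ (hdA.pow (k + 1))).mul hu
      rwa [one_pow, inv_one, one_mul] at h
    refine ⟨_, hu'A, ?_⟩
    set E := θ ⟨e, heA.mem_normalizer⟩ with hE
    set U := θ ⟨u, hu.mem_normalizer⟩ with hU
    have hEU : E = U * T * U⁻¹ := by
      rw [hE, hU, hTdef, ← map_inv, ← map_mul, ← map_mul]
      rfl
    have hD : (E * T) ^ p = 1 := by
      rw [hE, hTdef, ← map_mul, ← map_pow]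
      refine MulEquiv.ext fun w => Subtype.ext ?_
      show ((_ : Subgroup.normalizer (W : Set G)) : G) * (w : G) * _⁻¹ = w
      simp only [SubmonoidClass.coe_pow, Subgroup.coe_mul]
      rw [(hdp w w.2).eq, mul_inv_cancel_right]
    have e1 : θ ⟨((e * τ) ^ (k + 1))⁻¹ * u, hu'A.mem_normalizer⟩ = ((E * T) ^ (k + 1))⁻¹ * U := by
      rw [hE, hTdef, hU, ← map_mul, ← map_pow, ← map_inv, ← map_mul]
      exact congrArg θ (Subtype.ext (by simp [Subgroup.coe_mul]))
    rw [e1]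
    have hUT : U * T = E * U := by rw [hEU, inv_mul_cancel_right]
    set D := E * T with hDdef
    have hTD : T * D * T = D⁻¹ := by
      refine eq_inv_of_mul_eq_one_left ?_
      have hEE : E * E = 1 := by
        rw [hEU, show U * T * U⁻¹ * (U * T * U⁻¹) = U * (T * T) * U⁻¹ by group, hT2, mul_one,
          mul_inv_cancel]
      rw [hDdef, show T * (E * T) * T * (E * T) = T * E * (T * T) * E * T by group, hT2, mul_one,
        mul_assoc T E E, hEE, mul_one, hT2]
    have hTi : T⁻¹ = T := inv_eq_of_mul_eq_one_left hT2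
    have hTDn : ∀ n : ℕ, T * (D ^ n)⁻¹ = D ^ n * T := fun n => by
      have h : (T * D * T⁻¹) ^ n = T * D ^ n * T⁻¹ := conj_pow
      rw [hTi, hTD, inv_pow] at h
      rw [h, ← mul_assoc, ← mul_assoc, hT2, one_mul]
    calc (D ^ (k + 1))⁻¹ * U * T = (D ^ (k + 1))⁻¹ * (E * U) := by rw [mul_assoc, hUT]
      _ = (D ^ (k + 1))⁻¹ * (D * T) * U := by
        rw [hDdef, mul_assoc E T T, hT2, mul_one, mul_assoc]
      _ = (D ^ k)⁻¹ * T * U := by
        rw [pow_succ', mul_inv_rev, show (D ^ k)⁻¹ * D⁻¹ * (D * T) = (D ^ k)⁻¹ * T by group]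
      _ = D ^ (k + 1) * T * U := by
        have : (D ^ k)⁻¹ = D ^ (k + 1) := inv_eq_of_mul_eq_one_left (by
          rw [← pow_add, show k + 1 + k = p by omega, hD])
        rw [this]
      _ = T * (D ^ (k + 1))⁻¹ * U := by rw [hTDn]
      _ = T * ((D ^ (k + 1))⁻¹ * U) := mul_assoc _ _ _
  -- the inverted elements
  let Inv : G → Prop := fun x => x ∈ W ∧ τ * x * τ⁻¹ = x⁻¹
  have hlift : ∀ K : Subgroup G, K ≤ W → (∀ x ∈ K, τ * x * τ⁻¹ ∈ K) →
      ∀ {w : G} (hw : w ∈ W), w ∈ K → ∃ x, ∃ hx : Inv x, x ∈ K ∧ π ⟨x, hx.1⟩ = π ⟨w, hw⟩ := by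
    intro K hKW hKτ w hw hwK
    set r := τ * w * τ⁻¹ * w with hr
    have hrK : r ∈ K := K.mul_mem (hKτ w hwK) hwK
    have hr1 : π ⟨r, hKW hrK⟩ = 1 := by
      rw [show (⟨r, hKW hrK⟩ : W) = ⟨τ * w * τ⁻¹, hτ.1 w hw⟩ * ⟨w, hw⟩ from rfl, map_mul,
        hτ.pi hw, matAct_negOne, inv_mul_cancel]
    set c := r ^ k with hc
    have hτc : τ * c * τ⁻¹ = c := by
      rw [hc, ← conj_pow, (hτR _ hr1).eq, mul_inv_cancel_right]
    set x₁ := w * c with hx₁
    have hx₁K : x₁ ∈ K := K.mul_mem hwK (K.pow_mem hrK _)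
    have hπc : π ⟨c, W.pow_mem (hKW hrK) _⟩ = 1 := by
      rw [show (⟨c, W.pow_mem (hKW hrK) _⟩ : W) = ⟨r, hKW hrK⟩ ^ k from rfl, map_pow, hr1, one_pow]
    have hy : τ * x₁ * τ⁻¹ * x₁ = r * (w⁻¹ * c * w⁻¹⁻¹ * c⁻¹) * r⁻¹ := by
      have hrc : r * c * c = 1 := by
        rw [hc, mul_assoc, ← pow_add, ← pow_succ', show k + k + 1 = p by omega,
          hexp _ (hKW hrK)]
      calc τ * x₁ * τ⁻¹ * x₁ = r * w⁻¹ * (τ * c * τ⁻¹) * w * c := by rw [hx₁, hr]; group
        _ = r * (w⁻¹ * c * w⁻¹⁻¹ * c⁻¹) * r⁻¹ * (r * c * c) := by rw [hτc]; group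
        _ = r * (w⁻¹ * c * w⁻¹⁻¹ * c⁻¹) * r⁻¹ := by rw [hrc, mul_one]
    set y := τ * x₁ * τ⁻¹ * x₁ with hydef
    have hyc : ∀ v ∈ W, Commute y v := fun v hv => by
      have h := hcl _ (W.inv_mem hw) _ (W.pow_mem (hKW hrK) k : c ∈ W)
      rw [hy, ← (h r (hKW hrK)).eq, mul_inv_cancel_right]
      exact h v hv
    have hyK : y ∈ K := K.mul_mem (hKτ _ hx₁K) hx₁K
    have hyW := hKW hyK
    have hπy : π ⟨y, hyW⟩ = 1 := by
      rw [show (⟨y, hyW⟩ : W) = ⟨τ * x₁ * τ⁻¹, hτ.1 _ (hKW hx₁K)⟩ * ⟨x₁, hKW hx₁K⟩ from rfl, map_mul,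
        hτ.pi (hKW hx₁K), matAct_negOne, inv_mul_cancel]
    have hτy : τ * y * τ⁻¹ = y := by rw [(hτR _ hπy).eq, mul_inv_cancel_right]
    refine ⟨x₁ * y ^ k, ⟨W.mul_mem (hKW hx₁K) (W.pow_mem hyW _), ?_⟩,
      K.mul_mem hx₁K (K.pow_mem hyK _), ?_⟩
    · refine eq_inv_of_mul_eq_one_left ?_
      have h1 : τ * y ^ k * τ⁻¹ = y ^ k := by rw [← conj_pow, hτy]
      calc τ * (x₁ * y ^ k) * τ⁻¹ * (x₁ * y ^ k)
          = (τ * x₁ * τ⁻¹) * ((τ * y ^ k * τ⁻¹) * x₁) * y ^ k := by group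
        _ = (τ * x₁ * τ⁻¹) * (x₁ * y ^ k) * y ^ k := by
          rw [h1, ((hyc x₁ (hKW hx₁K)).pow_left k).eq]
        _ = y * y ^ k * y ^ k := by rw [hydef]; group
        _ = 1 := by rw [← pow_succ', ← pow_add, show k + 1 + k = p by omega, hexp _ hyW]
    · rw [show (⟨x₁ * y ^ k, W.mul_mem (hKW hx₁K) (W.pow_mem hyW _)⟩ : W) =
        ⟨w, hw⟩ * ⟨c, W.pow_mem (hKW hrK) _⟩ * ⟨y, hyW⟩ ^ k from rfl, map_mul, map_mul, hπc,
        map_pow, hπy, one_pow, mul_one, mul_one]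
  have huniq : ∀ {x x' : G} (hx : Inv x) (hx' : Inv x'),
      π ⟨x, hx.1⟩ = π ⟨x', hx'.1⟩ → x = x' := by
    intro x x' hx hx' he
    set r := x⁻¹ * x' with hr
    have hrW : r ∈ W := W.mul_mem (W.inv_mem hx.1) hx'.1
    have h1 : τ * r * τ⁻¹ = r := by
      rw [(hτR ⟨r, hrW⟩ (hπp hx.1 hx'.1 he)).eq, mul_inv_cancel_right]
    have h2 : x * x'⁻¹ = r := by
      rw [← h1, hr, show τ * (x⁻¹ * x') * τ⁻¹ = (τ * x * τ⁻¹)⁻¹ * (τ * x' * τ⁻¹) by group, hx.2,
        hx'.2, inv_inv]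
    set y := x⁻¹ * r * x⁻¹⁻¹ * r⁻¹ with hydef
    have hyc : ∀ v ∈ W, Commute y v := hcl _ (W.inv_mem hx.1) _ hrW
    have h3 : x⁻¹ * r * x * r = 1 := by
      conv_lhs => arg 1; arg 1; arg 2; rw [← h2]
      rw [hr]; group
    have h4 : y * r * r = 1 := by rw [hydef]; convert h3 using 1; group
    have h5 : ∀ v ∈ W, Commute (r * r) v := fun v hv => by
      rw [show r * r = y⁻¹ from eq_inv_of_mul_eq_one_right (by rw [← mul_assoc]; exact h4)]
      exact (hyc v hv).inv_left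
    have h6 : ∀ v ∈ W, Commute r v := fun v hv => by
      have h := (h5 v hv).pow_left (k + 1)
      rwa [← sq, ← pow_mul, show 2 * (k + 1) = p + 1 by omega, pow_succ, hexp r hrW, one_mul] at h
    have h7 : y = 1 := by
      rw [hydef, inv_inv, mul_assoc x⁻¹ r x, (h6 x hx.1).eq, inv_mul_cancel_left, mul_inv_cancel]
    rw [h7, one_mul] at h4
    exact (inv_mul_eq_one.1 (eq_one_of_sq hodd (hexp r hrW) h4)).symm ▸ rfl
  -- two inverted generators
  obtain ⟨a, ha⟩ : ∃ a : Fin 2 → G, ∀ i, ∃ h : Inv (a i),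
      π ⟨a i, h.1⟩ = Multiplicative.ofAdd (Pi.single i 1) := by
    have : ∀ i : Fin 2, ∃ x, ∃ h : Inv x,
        π ⟨x, h.1⟩ = Multiplicative.ofAdd (Pi.single i 1) := fun i => by
      obtain ⟨⟨w, hw⟩, hwe⟩ := hπ (Multiplicative.ofAdd (Pi.single i 1))
      obtain ⟨x, hx, -, hxe⟩ := hlift W le_rfl (fun x hx => hτ.1 x hx) hw hw
      exact ⟨x, hx, hxe.trans hwe⟩
    choose x hx using this
    exact ⟨x, hx⟩
  set E2 := Subgroup.closure (Set.range a) with hE2
  have hE2W : E2 ≤ W := (Subgroup.closure_le _).2 (by rintro _ ⟨i, rfl⟩; exact (ha i).1.1)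
  have hE2τ : ∀ x ∈ E2, τ * x * τ⁻¹ ∈ E2 := fun x hx => by
    have hle : E2 ≤ E2.comap (MulAut.conj τ).toMonoidHom := (Subgroup.closure_le _).2 (by
      rintro _ ⟨i, rfl⟩
      show τ * a i * τ⁻¹ ∈ E2
      rw [(ha i).1.2]
      exact inv_mem (Subgroup.subset_closure ⟨i, rfl⟩))
    exact hle hx
  let π₂ : E2 →* F2 := π.comp (Subgroup.inclusion hE2W)
  have hπ₂ : Function.Surjective π₂ := by
    intro v
    have hv : v = Multiplicative.ofAdd (Pi.single (0 : Fin 2) (1 : ZMod p)) ^ (v.toAdd 0).val *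
        Multiplicative.ofAdd (Pi.single (1 : Fin 2) (1 : ZMod p)) ^ (v.toAdd 1).val := by
      apply Multiplicative.toAdd.injective
      funext i
      fin_cases i <;> simp [-ZMod.natCast_val, ZMod.natCast_zmod_val]
    refine ⟨⟨a 0, Subgroup.subset_closure ⟨0, rfl⟩⟩ ^ (v.toAdd 0).val *
      ⟨a 1, Subgroup.subset_closure ⟨1, rfl⟩⟩ ^ (v.toAdd 1).val, ?_⟩
    rw [map_mul, map_pow, map_pow]
    conv_rhs => rw [hv]
    rw [← (ha 0).2, ← (ha 1).2]
    rfl
  have hIE : ∀ {x : G}, Inv x → x ∈ E2 := fun {x} hx => by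
    obtain ⟨⟨w, hw⟩, hwe⟩ := hπ₂ (π ⟨x, hx.1⟩)
    obtain ⟨x', hx', hx'K, hx'e⟩ := hlift E2 hE2W hE2τ (hE2W hw) hw
    rwa [huniq hx hx' (hwe.symm.trans hx'e.symm)]
  -- the quadratic elements
  have step : ∀ {u : G} {A : SL2} (i j : Fin 2), i ≠ j → u ∈ H → Acts W π u A →
      matAct A (Multiplicative.ofAdd (Pi.single i 1)) = Multiplicative.ofAdd (Pi.single i 1) →
      matAct A (Multiplicative.ofAdd (Pi.single j 1)) =
        Multiplicative.ofAdd (Pi.single i 1) * Multiplicative.ofAdd (Pi.single j 1) →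
      ∃ u', Acts W π u' A ∧ u' ∈ Subgroup.normalizer (E2 : Set G) ∧
        ⁅⁅E2, Subgroup.zpowers u'⁆, Subgroup.zpowers u'⁆ = ⊥ := by
    intro u A i j hij huH hu hi hj
    obtain ⟨u', hu', hcomm⟩ := hadj huH hu
    have hgen : ∀ l : Fin 2, Inv (u' * a l * u'⁻¹) := fun l => by
      refine ⟨hu'.1 _ (ha l).1.1, ?_⟩
      have h := congrArg (fun f : MulAut W => ((f ⟨a l, (ha l).1.1⟩ : W) : G)) hcomm
      change u' * (τ * a l * τ⁻¹) * u'⁻¹ = τ * (u' * a l * u'⁻¹) * τ⁻¹ at h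
      rw [← h, (ha l).1.2]; group
    have hnE : u' ∈ Subgroup.normalizer (E2 : Set G) := mem_normalizer_of_forall_mem fun x hx => by
      have hle : E2 ≤ E2.comap (MulAut.conj u').toMonoidHom := (Subgroup.closure_le _).2 (by
        rintro _ ⟨l, rfl⟩
        exact hIE (hgen l))
      exact hle hx
    refine ⟨u', hu', hnE, ?_⟩
    have hfix : u' * a i * u'⁻¹ = a i :=
      huniq (hgen i) (ha i).1 (by rw [hu'.pi (ha i).1.1, (ha i).2, hi])
    set z := a i * a j * (a i)⁻¹ * (a j)⁻¹ with hz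
    set K1 := Subgroup.closure {a i, z} with hK1
    have haE : ∀ l, a l ∈ E2 := fun l => Subgroup.subset_closure ⟨l, rfl⟩
    have hzE : z ∈ E2 := E2.mul_mem (E2.mul_mem (E2.mul_mem (haE i) (haE j)) (E2.inv_mem (haE i)))
      (E2.inv_mem (haE j))
    have hzc : ∀ v ∈ W, Commute z v := hcl _ (ha i).1.1 _ (ha j).1.1
    have hK1E : K1 ≤ E2 := (Subgroup.closure_le _).2 (by
      rintro _ (rfl | rfl)
      exacts [haE i, hzE])
    have haiK : a i ∈ K1 := Subgroup.subset_closure (Or.inl rfl)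
    have hzK : z ∈ K1 := Subgroup.subset_closure (Or.inr rfl)
    have hK1n : E2 ≤ Subgroup.normalizer (K1 : Set G) := (Subgroup.closure_le _).2 (by
      rintro _ ⟨l, rfl⟩
      refine mem_normalizer_of_forall_mem fun x hx => ?_
      have hle : K1 ≤ K1.comap (MulAut.conj (a l)).toMonoidHom := (Subgroup.closure_le _).2 (by
        rintro _ (rfl | rfl)
        · show a l * a i * (a l)⁻¹ ∈ K1
          by_cases hl : l = i
          · rw [hl, mul_inv_cancel_right]; exact haiK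
          · rw [show l = j by omega, show a j * a i * (a j)⁻¹ = z⁻¹ * a i by rw [hz]; group]
            exact K1.mul_mem (K1.inv_mem hzK) haiK
        · show a l * z * (a l)⁻¹ ∈ K1
          rw [← (hzc _ (ha l).1.1).eq, mul_inv_cancel_right]
          exact hzK)
      exact hle hx)
    -- the kernel in `E2`
    have hker : ∀ {x : G} (hx : x ∈ E2), π ⟨x, hE2W hx⟩ = 1 → x ∈ K1 := by
      intro x hx hx1
      have htop : E2 ≤ Subgroup.zpowers (a j) ⊔ K1 := (Subgroup.closure_le _).2 (by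
        rintro _ ⟨l, rfl⟩
        by_cases hl : l = i
        · exact Subgroup.mem_sup_right (hl ▸ haiK)
        · exact Subgroup.mem_sup_left (show a l ∈ Subgroup.zpowers (a j) by
            rw [show l = j by omega]; exact Subgroup.mem_zpowers _))
      have hjn : Subgroup.zpowers (a j) ≤ Subgroup.normalizer (K1 : Set G) :=
        Subgroup.zpowers_le.2 (hK1n (haE j))
      have hset := Subgroup.coe_mul_of_left_le_normalizer_right _ K1 hjn
      obtain ⟨y, hy, c, hc, hyc⟩ : x ∈ (Subgroup.zpowers (a j) : Set G) * (K1 : Set G) := by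
        rw [← hset]; exact htop hx
      obtain ⟨n, rfl⟩ := Subgroup.mem_zpowers_iff.1 hy
      -- the coordinate along `j` vanishes
      have hK1j : ∀ {c : G} (hc : c ∈ K1), (π ⟨c, hE2W (hK1E hc)⟩).toAdd j = 0 := by
        intro c hc
        induction hc using Subgroup.closure_induction with
        | mem x hx =>
          rcases hx with rfl | rfl
          · rw [show (⟨a i, _⟩ : W) = ⟨a i, (ha i).1.1⟩ from rfl, (ha i).2]
            simp [Pi.single_eq_of_ne hij.symm]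
          · rw [show (⟨z, _⟩ : W) = ⟨a i, (ha i).1.1⟩ * ⟨a j, (ha j).1.1⟩ * ⟨a i, (ha i).1.1⟩⁻¹ *
              ⟨a j, (ha j).1.1⟩⁻¹ from rfl, map_mul π, map_mul π, map_mul π, map_inv π, map_inv π,
              mul_inv_cancel_comm, mul_inv_cancel]
            rfl
        | one => rw [show (⟨1, _⟩ : W) = 1 from rfl, map_one]; rfl
        | mul x y hx hy ihx ihy =>
          rw [show (⟨x * y, _⟩ : W) = ⟨x, hE2W (hK1E hx)⟩ * ⟨y, hE2W (hK1E hy)⟩ from rfl, map_mul,
            toAdd_mul, Pi.add_apply, ihx, ihy, add_zero]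
        | inv x hx ih =>
          rw [show (⟨x⁻¹, _⟩ : W) = ⟨x, hE2W (hK1E hx)⟩⁻¹ from rfl, map_inv, toAdd_inv, Pi.neg_apply,
            ih, neg_zero]
      have h1 := congrArg (fun v : F2 => v.toAdd j) hx1
      rw [show (⟨x, hE2W hx⟩ : W) = ⟨a j, (ha j).1.1⟩ ^ n * ⟨c, hE2W (hK1E hc)⟩ from
        Subtype.ext (by simp [← hyc]), map_mul, map_zpow, (ha j).2] at h1
      simp [hK1j hc] at h1
      obtain ⟨m, rfl⟩ := (ZMod.intCast_zmod_eq_zero_iff_dvd n p).1 h1
      rw [← hyc]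
      show a j ^ ((p : ℤ) * m) * c ∈ K1
      rw [zpow_mul, zpow_natCast, hexp _ (ha j).1.1, one_zpow, one_mul]
      exact hc
    have hzfix : u' * z * u'⁻¹ = z := by
      have h0 : u' * z * u'⁻¹ = a i * (u' * a j * u'⁻¹) * (a i)⁻¹ * (u' * a j * u'⁻¹)⁻¹ := by
        conv_rhs => rw [← hfix]
        rw [hz]; group
      set x := u' * a j * u'⁻¹ with hx
      have hxE : x ∈ E2 := hIE (hgen j)
      have hd : π ⟨(a i * a j)⁻¹ * x, W.mul_mem (W.inv_mem (W.mul_mem (ha i).1.1 (ha j).1.1))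
          (hE2W hxE)⟩ = 1 := by
        refine hπp (W.mul_mem (ha i).1.1 (ha j).1.1) (hE2W hxE) ?_
        rw [show (⟨a i * a j, _⟩ : W) = ⟨a i, (ha i).1.1⟩ * ⟨a j, (ha j).1.1⟩ from rfl, map_mul,
          (ha i).2, (ha j).2, hu'.pi (ha j).1.1, (ha j).2, hj]
      set d := (a i * a j)⁻¹ * x with hdd
      have hdK : d ∈ K1 := hker (E2.mul_mem (E2.inv_mem (E2.mul_mem (haE i) (haE j))) hxE) hd
      have hK1c : ∀ e ∈ K1, Commute (a i) e := fun e he => by
        induction he using Subgroup.closure_induction with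
        | mem x hx =>
          rcases hx with rfl | rfl
          exacts [Commute.refl _, (hzc _ (ha i).1.1).symm]
        | one => exact Commute.one_right _
        | mul x y _ _ h1 h2 => exact h1.mul_right h2
        | inv x _ h => exact h.inv_right
      have hdc : Commute (a i) d := hK1c d hdK
      rw [h0, show x = a i * a j * d by rw [hdd, mul_inv_cancel_left]]
      calc a i * (a i * a j * d) * (a i)⁻¹ * (a i * a j * d)⁻¹
          = a i * (a i * a j * (d * (a i)⁻¹ * d⁻¹) * (a j)⁻¹ * (a i)⁻¹) := by group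
        _ = a i * (a i * a j * (a i)⁻¹ * (a j)⁻¹ * (a i)⁻¹) := by
          rw [← (hdc.inv_left).eq, mul_inv_cancel_right]
        _ = a i * z * (a i)⁻¹ := by rw [hz]; group
        _ = z := by rw [← (hzc _ (ha i).1.1).eq, mul_inv_cancel_right]
    have hK1fix : ∀ x ∈ K1, Commute u' x := by
      intro x hx
      induction hx using Subgroup.closure_induction with
      | mem x hx =>
        rcases hx with rfl | rfl
        exacts [mul_inv_eq_iff_eq_mul.1 hfix, mul_inv_eq_iff_eq_mul.1 hzfix]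
      | one => exact Commute.one_right _
      | mul x y _ _ h1 h2 => exact h1.mul_right h2
      | inv x _ h => exact h.inv_right
    have hmove : ∀ w ∈ E2, u' * w * u'⁻¹ * w⁻¹ ∈ K1 := by
      intro w hw
      induction hw using Subgroup.closure_induction with
      | mem x hx =>
        obtain ⟨l, rfl⟩ := hx
        by_cases hl : l = i
        · rw [hl, hfix, mul_inv_cancel]; exact K1.one_mem
        · rw [show l = j by omega]
          have hd : (a i * a j)⁻¹ * (u' * a j * u'⁻¹) ∈ K1 := by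
            refine hker (E2.mul_mem (E2.inv_mem (E2.mul_mem (haE i) (haE j))) (hIE (hgen j))) ?_
            refine hπp (W.mul_mem (ha i).1.1 (ha j).1.1) (hgen j).1 ?_
            rw [show (⟨a i * a j, _⟩ : W) = ⟨a i, (ha i).1.1⟩ * ⟨a j, (ha j).1.1⟩ from rfl,
              map_mul, (ha i).2, (ha j).2, hu'.pi (ha j).1.1, (ha j).2, hj]
          rw [show u' * a j * u'⁻¹ * (a j)⁻¹ = a i * (a j * ((a i * a j)⁻¹ * (u' * a j * u'⁻¹)) *
            (a j)⁻¹) by group]
          exact K1.mul_mem haiK ((Subgroup.mem_normalizer_iff.1 (hK1n (haE j)) _).1 hd)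
      | one => rw [mul_one, mul_inv_cancel, inv_one, mul_one]; exact K1.one_mem
      | mul x y hx _ h1 h2 =>
        have h3 := (Subgroup.mem_normalizer_iff.1 (hK1n hx) _).1 h2
        rw [show u' * (x * y) * u'⁻¹ * (x * y)⁻¹ =
          u' * x * u'⁻¹ * x⁻¹ * (x * (u' * y * u'⁻¹ * y⁻¹) * x⁻¹) by group]
        exact K1.mul_mem h1 h3
      | inv x hx h =>
        rw [show u' * x⁻¹ * u'⁻¹ * x⁻¹⁻¹ = x⁻¹ * (u' * x * u'⁻¹ * x⁻¹)⁻¹ * x⁻¹⁻¹ by group]
        exact (Subgroup.mem_normalizer_iff.1 (hK1n (E2.inv_mem hx)) _).1 (K1.inv_mem h)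
    exact commutator_eq_bot_of_quadOn fun w hw => hK1fix _ (hmove w hw)
  obtain ⟨u, huH, hu⟩ := hsurj (SL2.up 1)
  obtain ⟨v, hvH, hv⟩ := hsurj (SL2.low 1)
  obtain ⟨u₂, hu₂, hu₂N, hu₂q⟩ := step 0 1 (by decide) huH hu
    (by apply Multiplicative.toAdd.injective; funext l; fin_cases l <;>
          simp [matAct, SL2.up, Matrix.mulVec, dotProduct, Fin.sum_univ_two])
    (by apply Multiplicative.toAdd.injective; funext l; fin_cases l <;>
          simp [matAct, SL2.up, Matrix.mulVec, dotProduct, Fin.sum_univ_two])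
  obtain ⟨v₂, hv₂, hv₂N, hv₂q⟩ := step 1 0 (by decide) hvH hv
    (by apply Multiplicative.toAdd.injective; funext l; fin_cases l <;>
          simp [matAct, SL2.low, Matrix.mulVec, dotProduct, Fin.sum_univ_two])
    (by apply Multiplicative.toAdd.injective; funext l; fin_cases l <;>
          simp [matAct, SL2.low, Matrix.mulVec, dotProduct, Fin.sum_univ_two])
  have hE2p : IsPGroup p E2 := fun w => ⟨1, Subtype.ext (by
    rw [pow_one, SubmonoidClass.coe_pow]; exact hexp _ (hE2W w.2))⟩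
  set N := Subgroup.normalizer (E2 : Set G) with hN
  set C := (Subgroup.centralizer (E2 : Set G)).subgroupOf N with hC
  let u₃ : N := ⟨u₂, hu₂N⟩
  let v₃ : N := ⟨v₂, hv₂N⟩
  set z := (u₃ * v₃ ^ (p - 1) * u₃) ^ 2 with hz
  have hzP : (QuotientGroup.mk z : N ⧸ C) ∈ pCore p (N ⧸ C) := by
    rw [hz, QuotientGroup.mk_pow, QuotientGroup.mk_mul, QuotientGroup.mk_mul, QuotientGroup.mk_pow]
    exact pow_mem (mul_mem (mul_mem (hst E2 hE2p u₂ hu₂N hu₂q)
      (pow_mem (hst E2 hE2p v₂ hv₂N hv₂q) _)) (hst E2 hE2p u₂ hu₂N hu₂q)) 2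
  obtain ⟨n, hn⟩ := (Grp.pCore_isPGroup (p := p) (G := N ⧸ C)) ⟨_, hzP⟩
  have hn' : ((z ^ p ^ n : N) : G) ∈ Subgroup.centralizer (E2 : Set G) :=
    (QuotientGroup.eq_one_iff (N := C) (z ^ p ^ n)).1 (by
      rw [QuotientGroup.mk_pow]; exact congrArg Subtype.val hn)
  have hzA : Acts W π (((u₂ * v₂ ^ (p - 1) * u₂) ^ 2) ^ p ^ n) (negOne ^ p ^ n) := by
    have := ((((hu₂.mul (hv₂.pow (p - 1))).mul hu₂)).pow 2).pow (p ^ n)
    rwa [up_low_up_sq] at this
  rw [show negOne (p := p) ^ p ^ n = negOne from dg_pow_prime_pow _ _ _ n] at hzA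
  have hfix : ∀ x : F2, x⁻¹ = x := fun x => by
    obtain ⟨w, rfl⟩ := hπ₂ x
    show (π _)⁻¹ = π _
    rw [← matAct_negOne, ← hzA.2 _]
    refine congrArg π (Subtype.ext ?_)
    have h1 := Subgroup.mem_centralizer_iff.1 hn' w w.2
    simp only [hz, u₃, v₃, SubmonoidClass.coe_pow, Subgroup.coe_mul] at h1
    exact mul_inv_eq_iff_eq_mul.2 h1.symm
  have h3 := congrArg (fun x : F2 => Multiplicative.toAdd x 0)
    (hfix (Multiplicative.ofAdd (fun _ => 1)))
  simp only [toAdd_inv, toAdd_ofAdd, Pi.neg_apply] at h3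
  have h4 : ((2 : ℕ) : ZMod p) = 0 := by
    push_cast
    linear_combination -h3
  exact hodd ((Nat.prime_dvd_prime_iff_eq hp.out Nat.prime_two).1 ((ZMod.natCast_eq_zero_iff 2 p).1 h4))

end Cfsg.Agent.Fus.CubicOdd
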