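import Cfsg.Agent.Lib.Fus.TranspClass
import Mathlib.GroupTheory.Index

/-!
An elementary abelian two-group given by commuting involution words: elements by masks, products by exclusive or.
-/

set_option autoImplicit false

namespace Cfsg.Agent.Fus.ElemW

open Cfsg.Agent.Spor.Cos Cfsg.Agent.Fus.Transp

/-- The mask image under a linear map given on bits. -/
noncomputable def linM (M : List ℕ) (i m : ℕ) : ℕ :=
  Nat.rec (motive := fun _ => ℕ) 0 (fun k r => bif Nat.beq ((m >>> k) % 2) 1 then Nat.xor (M.getD k 0) r else r) i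

theorem bit_eq (m k : ℕ) : Nat.beq ((m >>> k) % 2) 1 = m.testBit k := by
  rw [Nat.testBit, Nat.one_and_eq_mod_two, Nat.shiftRight_eq_div_pow]
  rcases Nat.mod_two_eq_zero_or_one (m / 2 ^ k) with h | h <;> rw [h] <;> rfl

theorem maskW_succ (H : List (List ℕ)) (i m : ℕ) :
    maskW H (i + 1) m = (bif Nat.beq ((m >>> i) % 2) 1 then H.getD i [] else []) ++ maskW H i m := by
  simp [maskW, List.range_succ]

theorem linM_succ (M : List ℕ) (i m : ℕ) :
    linM M (i + 1) m = (bif Nat.beq ((m >>> i) % 2) 1 then Nat.xor (M.getD i 0) (linM M i m) else linM M i m) :=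
  rfl

variable {G : Type*} [Group G] {g : ℕ → G}

theorem ev_mask_zero (H : List (List ℕ)) : ∀ i, ev g (maskW H i 0) = 1
  | 0 => by simp [maskW, ev]
  | i + 1 => by rw [maskW_succ, bit_eq, Nat.zero_testBit, cond_false, List.nil_append]; exact ev_mask_zero H i

/-- The words give commuting involutions. -/
structure Basis (g : ℕ → G) (H : List (List ℕ)) : Prop where
  sq : ∀ a ∈ H, ev g a * ev g a = 1
  comm : ∀ a ∈ H, ∀ b ∈ H, ev g a * ev g b = ev g b * ev g a

variable {H : List (List ℕ)}

theorem Basis.getD_sq (B : Basis g H) (i : ℕ) : ev g (H.getD i []) * ev g (H.getD i []) = 1 := by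
  rcases Nat.lt_or_ge i H.length with h | h
  · rw [List.getD_eq_getElem _ _ h]; exact B.sq _ (List.getElem_mem h)
  · rw [List.getD_eq_default _ _ h]; simp [ev]

theorem Basis.comm_mem (B : Basis g H) {a : List ℕ} (ha : a ∈ H) {y : G} (hy : y ∈ val g H) :
    ev g a * y = y * ev g a := by
  have hle : val g H ≤ Subgroup.centralizer {ev g a} := by
    refine (Subgroup.closure_le _).2 ?_
    rintro _ ⟨b, hb, rfl⟩
    exact Subgroup.mem_centralizer_singleton_iff.2 (B.comm b hb a ha)
  exact (Subgroup.mem_centralizer_singleton_iff.1 (hle hy)).symm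

theorem Basis.getD_comm (B : Basis g H) (i : ℕ) {y : G} (hy : y ∈ val g H) :
    ev g (H.getD i []) * y = y * ev g (H.getD i []) := by
  rcases Nat.lt_or_ge i H.length with h | h
  · rw [List.getD_eq_getElem _ _ h]; exact B.comm_mem (List.getElem_mem h) hy
  · rw [List.getD_eq_default _ _ h]; simp [ev]

theorem Basis.mul_mask (B : Basis g H) (i m n : ℕ) :
    ev g (maskW H i m) * ev g (maskW H i n) = ev g (maskW H i (Nat.xor m n)) := by
  induction i with
  | zero => simp [maskW, ev]
  | succ i ih =>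
    have hb : (Nat.xor m n).testBit i = Bool.xor (m.testBit i) (n.testBit i) := Nat.testBit_xor m n i
    simp only [maskW_succ, bit_eq, hb, ev_append, ← ih]
    set a := ev g (H.getD i []) with ha
    set P := ev g (maskW H i m)
    set Q := ev g (maskW H i n)
    have hP : a * P = P * a := B.getD_comm i (maskW_mem_val H i m)
    cases m.testBit i <;> cases n.testBit i <;> simp only [Bool.xor, bne, Bool.not_false, Bool.not_true,
      BEq.rfl, Bool.false_beq, Bool.true_beq, cond_true, cond_false, ev, one_mul, mul_one] <;> simp only [← ha]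
    · rw [← mul_assoc, ← hP, mul_assoc]
    · rw [mul_assoc]
    · rw [mul_assoc, ← mul_assoc P, ← hP, mul_assoc, ← mul_assoc a, ha, B.getD_sq, one_mul]

theorem Basis.mem_iff (B : Basis g H) {y : G} :
    y ∈ val g H ↔ ∃ m, m < 2 ^ H.length ∧ ev g (maskW H H.length m) = y := by
  refine ⟨fun hy => ?_, fun ⟨m, _, e⟩ => e ▸ maskW_mem_val H _ _⟩
  induction hy using Subgroup.closure_induction with
  | mem y hy =>
    obtain ⟨w, hw, rfl⟩ := hy
    obtain ⟨k, hk, rfl⟩ := List.getElem_of_mem hw
    refine ⟨2 ^ k, Nat.pow_lt_pow_right (by norm_num) hk, ?_⟩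
    have key : ∀ i, ev g (maskW H i (2 ^ k)) = if k < i then ev g H[k] else 1 := by
      intro i
      induction i with
      | zero => simp [maskW, ev]
      | succ i ih =>
        rw [maskW_succ, bit_eq, Nat.testBit_two_pow, ev_append, ih]
        rcases lt_trichotomy k i with h | rfl | h
        · simp [h, h.ne, Nat.lt_succ_of_lt h, ev]
        · simp [List.getElem?_eq_getElem hk, List.getD_eq_getElem?_getD]
        · simp [h.ne', show ¬ k < i by omega, show ¬ k < i + 1 by omega, ev]
    rw [key, if_pos hk]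
  | one =>
    refine ⟨0, Nat.two_pow_pos _, ?_⟩
    exact ev_mask_zero H _
  | mul u v _ _ hu hv =>
    obtain ⟨m, hm, rfl⟩ := hu
    obtain ⟨n, hn, rfl⟩ := hv
    exact ⟨Nat.xor m n, Nat.xor_lt_two_pow hm hn, (B.mul_mask _ m n).symm⟩
  | inv u _ hu =>
    obtain ⟨m, hm, rfl⟩ := hu
    refine ⟨m, hm, (inv_eq_of_mul_eq_one_right ?_).symm⟩
    rw [B.mul_mask, show Nat.xor m m = 0 from Nat.xor_self m]
    exact ev_mask_zero H _

theorem Basis.inj_mask (B : Basis g H)
    (hind : ∀ i < H.length, ∀ m < 2 ^ i, ev g (H.getD i []) ≠ ev g (maskW H i m)) :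
    ∀ i ≤ H.length, ∀ m < 2 ^ i, ∀ n < 2 ^ i, ev g (maskW H i m) = ev g (maskW H i n) → m = n := by
  intro i
  induction i with
  | zero => intro _ m hm n hn _; simp at hm hn; omega
  | succ i ih =>
    intro hi m hm n hn e
    have hlo : ∀ x, x % 2 ^ i < 2 ^ i := fun x => Nat.mod_lt _ (Nat.two_pow_pos i)
    have hmask : ∀ x, maskW H i x = maskW H i (x % 2 ^ i) := fun x => by
      simp only [maskW]
      congr 1
      refine List.map_congr_left fun k hk => ?_
      rw [List.mem_reverse, List.mem_range] at hk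
      simp [bit_eq, Nat.testBit_mod_two_pow, hk]
    have hdec : ∀ x, x < 2 ^ (i + 1) → x = x % 2 ^ i + 2 ^ i * (x.testBit i).toNat := fun x hx => by
      conv_lhs => rw [← Nat.mod_add_div x (2 ^ i)]
      congr 1; congr 1
      rw [Nat.toNat_testBit, Nat.mod_eq_of_lt]
      exact Nat.div_lt_of_lt_mul (by rwa [← pow_succ])
    rw [maskW_succ, maskW_succ, bit_eq, bit_eq, ev_append, ev_append, hmask m, hmask n] at e
    have hne : ∀ u < 2 ^ i, ∀ v < 2 ^ i,
        ev g (H.getD i []) * ev g (maskW H i u) ≠ ev g (maskW H i v) := fun u hu v hv h => by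
      refine hind i hi (Nat.xor v u) (Nat.xor_lt_two_pow hv hu) ?_
      rw [← B.mul_mask, ← h, mul_assoc, B.mul_mask, show Nat.xor u u = 0 from Nat.xor_self u]
      rw [ev_mask_zero, mul_one]
    rw [hdec m hm, hdec n hn]
    cases hbm : m.testBit i <;> cases hbn : n.testBit i <;> rw [hbm, hbn] at e <;>
      simp only [cond_true, cond_false, ev, one_mul] at e
    · rw [ih (by omega) _ (hlo m) _ (hlo n) e]
    · exact absurd e.symm (hne _ (hlo n) _ (hlo m))
    · exact absurd e (hne _ (hlo m) _ (hlo n))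
    · rw [ih (by omega) _ (hlo m) _ (hlo n) (mul_left_cancel e)]

theorem Basis.card (B : Basis g H)
    (hind : ∀ i < H.length, ∀ m < 2 ^ i, ev g (H.getD i []) ≠ ev g (maskW H i m)) :
    Nat.card (val g H) = 2 ^ H.length := by
  let f : Fin (2 ^ H.length) → val g H := fun m => ⟨ev g (maskW H H.length m), maskW_mem_val H _ _⟩
  have hf : Function.Bijective f := by
    refine ⟨fun m n e => Fin.ext (B.inj_mask hind _ le_rfl _ m.2 _ n.2 (congrArg Subtype.val e)), fun y => ?_⟩
    obtain ⟨m, hm, e⟩ := B.mem_iff.1 y.2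
    exact ⟨⟨m, hm⟩, Subtype.ext e⟩
  rw [← Nat.card_eq_of_bijective f hf, Nat.card_fin]

theorem Basis.conj_mask (B : Basis g H) (x : G) {M : List ℕ}
    (hM : ∀ k < H.length, x * ev g (H.getD k []) * x⁻¹ = ev g (maskW H H.length (M.getD k 0))) (m : ℕ) :
    ∀ i ≤ H.length, x * ev g (maskW H i m) * x⁻¹ = ev g (maskW H H.length (linM M i m)) := by
  intro i
  induction i with
  | zero =>
    intro _
    show x * 1 * x⁻¹ = ev g (maskW H H.length 0)
    rw [ev_mask_zero]; group
  | succ i ih =>
    intro hi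
    rw [maskW_succ, linM_succ, ev_append]
    cases Nat.beq ((m >>> i) % 2) 1
    · simpa [ev] using ih (by omega)
    · rw [cond_true, cond_true, ← B.mul_mask, ← hM i (by omega), ← ih (by omega)]
      group

end Cfsg.Agent.Fus.ElemW
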