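import Mathlib
import Cfsg.Agent.Lib.Fus.EnvelopeLevel
import Cfsg.Agent.Lib.Fus.FocalCentralizerMain

/-!
The two kinds of steps of the descent: a `p'`-quotient and an abelian `p`-quotient.
-/

set_option autoImplicit false
set_option linter.style.haveILetI false
set_option linter.unusedSectionVars false
set_option linter.unusedVariables false

open scoped Classical Pointwise commutatorElement

universe u

namespace Cfsg.Agent.Fus.Envelope

open Subgroup FusionSystem ClassInv PrimeQuot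

variable {Ω : Type u} [Group Ω] {S T R : Subgroup Ω} {F : FusionSystem S} {E : FusionSystem T}
  {G : FusionSystem R} {p : ℕ} {K K₁ : Subgroup (MulAut T)}

variable [Finite S] [Fact p.Prime]

theorem Level.centralizer_eq (hL : Level F E p G K) (hT : F.StronglyClosed T)
    (hK : Mid F E K) : centralizerIn R T = centralizerIn S T := by
  have hR : T ⊔ centralizerIn S T ≤ R := hL.carrier_eq.symm ▸ le_carrier_sup hT hK
  exact le_antisymm (inf_le_inf_right _ hL.inv.2.1.1)
    fun c hc => ⟨hR (Subgroup.mem_sup_right hc), hc.2⟩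

/-- The step through an abelian `p`-quotient. -/
theorem step_pPower (hS : IsPGroup p S) (hF : F.IsSaturated p) (hE : E.IsNormalIn F p)
    (hL : Level F E p G K) (hK : Mid F E K) (hK₁ : Mid F E K₁) (hle : K₁ ≤ K)
    (hab : ∀ a ∈ K, ∀ b ∈ K, ⁅a, b⁆ ∈ K₁) (hpow : ∀ a ∈ K, ∃ n : ℕ, a ^ p ^ n ∈ K₁) :
    ∃ (R₁ : Subgroup Ω) (G₁ : FusionSystem R₁), Level F E p G₁ K₁ := by
  have hT := hE.1.2.2.2.1
  have hN := le_normalizer_of_stronglyClosed hT
  have hRS := hL.inv.2.1.1
  haveI : Finite R := finite_of_le hRS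
  haveI : Finite T := finite_of_le hT.1
  have hRp : IsPGroup p R := hS.to_le hRS
  have hTp : IsPGroup p T := hS.to_le hT.1
  set R₁ := carrier S T K₁ with hR₁def
  have hR₁ : F.StronglyClosed R₁ := carrier_stronglyClosed hS hF hT hK₁.inn hK₁.conj
  haveI : Finite R₁ := finite_of_le hR₁.1
  have hR₁p : IsPGroup p R₁ := hS.to_le hR₁.1
  have hR₁R : R₁ ≤ R := by
    intro x hx
    obtain ⟨h1, h2⟩ := (mem_carrier hN).1 hx
    rw [hL.carrier_eq]
    exact (mem_carrier hN).2 ⟨h1, hle h2⟩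
  have hTG : G.StronglyClosed T := hL.normal.1.2.2.2.1
  have hTR₁ : T ≤ R₁ := le_sup_left.trans (le_carrier_sup hT hK₁)
  have hfoc : G.focalSubgroup ≤ R₁ := by
    refine (focal_le_carrier hRp hL.sat hTG hK₁.inn (fun γ hγ k hk => hK₁.conj γ
      (autGroup_mono hL.inv.1 T hγ) k hk) fun γ hγ a ha => ?_).trans fun x hx => ?_
    · rw [hL.aut] at hγ ha
      exact hab γ hγ a ha
    · obtain ⟨h1, h2⟩ := (mem_carrier (hRS.trans hN)).1 hx
      exact (mem_carrier hN).2 ⟨hRS h1, h2⟩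
  have hhyp : G.hyperfocalSubgroup p ≤ R₁ := (hyperfocal_le_focal G p).trans hfoc
  obtain ⟨G₁, hG₁, hG₁i⟩ := PPowerExist.exists_pPowerIndex hRp hL.sat hR₁R hhyp
  have hEG₁ : E.IsSubsystemOf G₁ := by
    have hEG := hL.normal.1.2.2.1
    have key : ∀ Q, E.IsFullyNormalized Q → ∀ β ∈ E.autGroup Q, IsMap G₁ Q (autFun β) := by
      intro Q hQ β hβ
      obtain ⟨g, hg, ρ, hρ, e⟩ :=
        aut_decomp (fullyAutomized_of_fullyNormalized hTp hL.normal.1.1 hQ) ⟨β, hβ⟩
      have hρG := Transfer.pResidual_map_le (p := p) (Subgroup.inclusion (autGroup_mono hEG Q))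
        ⟨ρ, hρ, rfl⟩
      have hQR₁ : Q ≤ R₁ := hQ.1.trans hTR₁
      have hm : IsMap G₁ Q (autFun (ρ : MulAut Q)) :=
        (mem_autGroup hQR₁).1 (hG₁i.2.2 _ hQR₁ (Subgroup.mem_map_of_mem _ hρG))
      exact (hm.comp (isMap_conj G₁ hQR₁ (g := g) (hTR₁ hg)) fun x hx => autFun_mem _ hx).congr
        fun x hx => (e x hx).symm
    intro P φ hφ
    exact mem_hom_of_isMap (f := toFun φ) (alperin hTp hL.normal.1.1 (fun P f => IsMap G₁ P f)
      (fun P f g h e => h.congr e) (fun P Q f g _ _ hm h h' => h.comp h' hm)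
      (fun P Q f _ hPQ h => h.res hPQ) (fun β hβ => key T (fullyNormalized_self E) β hβ)
      (fun Q hQ => key Q hQ.2.1) (isMap_toFun hφ)) fun x => (toFun_coe φ x).symm
  have hCS : centralizerIn R T = centralizerIn S T := hL.centralizer_eq hT hK
  have hC : centralizerIn R₁ T = centralizerIn R T := by
    refine le_antisymm (inf_le_inf_right _ hR₁R) fun c hc => ⟨?_, hc.2⟩
    rw [hCS] at hc
    exact le_carrier_sup hT hK₁ (Subgroup.mem_sup_right hc)
  have hnorm : E.IsNormalIn G₁ p := by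
    refine normal_descend hS hL.inv.1 hRS hL.normal hG₁ hG₁i.1 hEG₁ hC
      fun β hβ hord _ => ?_
    have hUR₁ : T ⊔ centralizerIn R T ≤ R₁ := by
      rw [hCS]
      exact le_carrier_sup hT hK₁
    refine (mem_autGroup hUR₁).1 (hG₁i.2.2 _ hUR₁ ⟨⟨β, hβ⟩, subset_closure ?_, rfl⟩)
    show Nat.Coprime (orderOf (⟨β, hβ⟩ : G.autGroup _)) p
    rwa [← Subgroup.orderOf_coe]
  have hinv := ResInv.invariant_pPower hS hL.inv hL.sat hR₁R hR₁ hG₁ hG₁i
  -- residual automorphisms lie in `K₁`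
  have hres : ∀ ρ : G.autGroup T, ρ ∈ pResidual p (G.autGroup T) → (ρ : MulAut T) ∈ K₁ := by
    intro ρ hρ
    refine (Subgroup.closure_le (K₁.comap (G.autGroup T).subtype)).2 ?_ hρ
    intro a (ha : Nat.Coprime (orderOf a) p)
    have haK : (a : MulAut T) ∈ K := hL.aut.le a.2
    obtain ⟨n, hn⟩ := hpow _ haK
    obtain ⟨m, hm⟩ := exists_pow_eq_self_of_coprime ((ha.pow_right n).symm)
    show (a : MulAut T) ∈ K₁
    rw [← hm, SubmonoidClass.coe_pow, SubmonoidClass.coe_pow]
    exact pow_mem hn m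
  refine ⟨R₁, G₁, hinv, hG₁, hnorm, le_antisymm (fun γ hγ => ?_) (fun γ hγ => ?_), rfl,
    fun U H h => ?_⟩
  · obtain ⟨g, hg, ρ, hρ, e⟩ := aut_decomp (fullyAutomized_of_fullyNormalized hR₁p hG₁
      (stronglyClosed_fullyNormalized hnorm.1.2.2.2.1)) ⟨γ, hγ⟩
    have h1 := Transfer.pResidual_map_le (p := p) (Subgroup.inclusion (autGroup_mono hG₁i.1 T))
      ⟨ρ, hρ, rfl⟩
    have hgN : g ∈ Subgroup.normalizer (T : Set Ω) := hN (hR₁.1 hg)
    have heq : γ = cls T g * (ρ : MulAut T) := mulAut_ext fun y hy => by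
      rw [e y hy, autFun_mul _ _ hy]
      exact (cls_apply hgN ⟨_, autFun_mem _ hy⟩).symm.trans
        (autFun_coe (cls T g) ⟨_, autFun_mem _ hy⟩).symm
    rw [heq]
    exact mul_mem ((mem_carrier hN).1 hg).2 (hres _ h1)
  · have hγG : γ ∈ G.autGroup T := hL.aut.ge (hle hγ)
    obtain ⟨g, hg, ρ, hρ, e⟩ := aut_decomp (fullyAutomized_of_fullyNormalized hRp hL.sat
      (stronglyClosed_fullyNormalized hTG)) ⟨γ, hγG⟩
    have hgN : g ∈ Subgroup.normalizer (T : Set Ω) := hN (hRS hg)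
    have heq : γ = cls T g * (ρ : MulAut T) := mulAut_ext fun y hy => by
      rw [e y hy, autFun_mul _ _ hy]
      exact (cls_apply hgN ⟨_, autFun_mem _ hy⟩).symm.trans
        (autFun_coe (cls T g) ⟨_, autFun_mem _ hy⟩).symm
    have hgR₁ : g ∈ R₁ := by
      refine (mem_carrier hN).2 ⟨hRS hg, ?_⟩
      have := K₁.mul_mem hγ (K₁.inv_mem (hres ρ hρ))
      rwa [heq, mul_inv_cancel_right] at this
    rw [heq]
    exact mul_mem (autInducedBy_le_autGroup G₁ hTR₁
      (mem_autInducedBy.2 ⟨g, hgR₁, fun y => cls_apply hgN y⟩))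
      (hG₁i.2.2 T hTR₁ (Subgroup.mem_map_of_mem _ hρ))
  · obtain ⟨h1, h2, h3, -⟩ := ResInv.limit_props h hS hF (invariant_self F)
    exact ResInv.stable_le_pPower h2.2.1.1 hS h1 h3 (hL.lim U H h) hG₁i

/-- The step through a `p'`-quotient, over the same subgroup. -/
theorem step_prime (hS : IsPGroup p S) (hF : F.IsSaturated p) (hE : E.IsNormalIn F p)
    (hL : Level F E p G K) (hK : Mid F E K) (hK₁ : Mid F E K₁) (hle : K₁ ≤ K)
    (hcop : (K₁.relIndex K).Coprime p) :
    ∃ (R₁ : Subgroup Ω) (G₁ : FusionSystem R₁), Level F E p G₁ K₁ := by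
  have hT := hE.1.2.2.2.1
  have hN := le_normalizer_of_stronglyClosed hT
  have hRS := hL.inv.2.1.1
  haveI : Finite R := finite_of_le hRS
  haveI : Finite T := finite_of_le hT.1
  have hRp : IsPGroup p R := hS.to_le hRS
  haveI : (K₁.subgroupOf K).Normal := ⟨fun k hk g => hK₁.conj g (hK.le g.2) k hk⟩
  let χ : G.autGroup T →* ↥K ⧸ K₁.subgroupOf K :=
    (QuotientGroup.mk' _).comp (Subgroup.inclusion hL.aut.le)
  have hχ : ∀ γ : G.autGroup T, χ γ = 1 ↔ (γ : MulAut T) ∈ K₁ := fun γ => by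
    rw [show χ γ = ((Subgroup.inclusion hL.aut.le γ : K) : ↥K ⧸ K₁.subgroupOf K) from rfl,
      QuotientGroup.eq_one_iff]
    rfl
  have hcard : (Nat.card (↥K ⧸ K₁.subgroupOf K)).Coprime p := hcop
  obtain ⟨⟨hEs, -, hEG⟩, -⟩ := hL.normal
  have d : Setup G E p χ := ⟨hRp, hL.sat, hEG, hEs, hcard, fun v => by
    obtain ⟨k, rfl⟩ := QuotientGroup.mk'_surjective _ v
    exact ⟨⟨k, hL.aut.ge k.2⟩, rfl⟩, fun γ hγ => (hχ γ).2 (hK₁.ge hγ)⟩
  have hTR : T ≤ R := hEG.2.1.1
  -- the carrier does not change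
  have hR : R = carrier S T K₁ := by
    refine le_antisymm (fun s hs => ?_) fun s hs => ?_
    · refine (mem_carrier hN).2 ⟨hRS hs, (hχ ⟨_, cls_mem_autGroup hEG.2.1 hs⟩).1 ?_⟩
      obtain ⟨n, hn⟩ := hRp ⟨s, hs⟩
      refine InvClass.eq_one_of_pow_prime_pow hcard (k := n) ?_
      rw [← map_pow, ← map_one χ]
      refine congrArg χ (Subtype.ext ?_)
      rw [SubmonoidClass.coe_pow, OneMemClass.coe_one]
      have hsN : s ∈ Subgroup.normalizer (T : Set Ω) := hN (hRS hs)
      have key : ∀ m : ℕ, cls T s ^ m = cls T (s ^ m) := by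
        intro m
        induction m with
        | zero => rw [pow_zero, pow_zero, cls_one]
        | succ m ih => rw [pow_succ, pow_succ, cls_mul (pow_mem hsN m) hsN, ih]
      rw [key, show s ^ p ^ n = 1 from congrArg Subtype.val hn, cls_one]
    · obtain ⟨h1, h2⟩ := (mem_carrier hN).1 hs
      rw [hL.carrier_eq]
      exact (mem_carrier hN).2 ⟨h1, hle h2⟩
  have hCS : centralizerIn R T = centralizerIn S T := hL.centralizer_eq hT hK
  have hTn : G.IsFullyNormalized T := stronglyClosed_fullyNormalized hEG.2.1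
  have hfam : Fam G E (T ⊔ centralizerIn R T) := by
    refine ⟨centric_sup_centralizerIn (fullyCentralized_of_fullyNormalized hRp hL.sat hTn), ?_⟩
    exact centric_mono (centric_self E) (le_inf le_sup_left le_rfl) inf_le_right
  have hnorm : E.IsNormalIn (genSys d) p := by
    refine normal_descend hS hL.inv.1 hRS hL.normal (genSys_saturated d) (genSys_le d) (le_genSys d)
      rfl fun β hβ _ ⟨α, hα, hαe⟩ => (isMap_genSys d).2 (.base hfam
        ((mem_autGroup (sup_le hTR inf_le_left)).1 hβ) ?_ le_rfl fun _ _ => rfl)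
    exact ⟨1, autFun α, ((mem_autGroup le_rfl).1 hα).res inf_le_right, fun x hx =>
      (hαe x hx.2).trans (autFun_one (autFun_mem α hx.2)).symm, map_one χ⟩
  -- transport by `Aut_F(R)`
  have htw : ∀ {α : MulAut R}, α ∈ F.autGroup R → ∀ {P : Subgroup Ω} {f : Ω → Ω}, Gen χ E P f →
      Gen χ E (fimg (autFun α) P) (fun y => autFun α (f (autFun α⁻¹ y))) := by
    intro α hα P f h
    have hb : IsMap F R (autFun α) := (mem_autGroup hRS).1 hα
    have hinv : ∀ x ∈ R, autFun α⁻¹ (autFun α x) = x := fun x hx => autFun_inv_apply α hx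
    obtain ⟨a, ha, hae⟩ := (hb.res hTR).exists_aut (fimg_stronglyClosed hT hb hTR)
    induction h with
    | @base P X f g hX hf hc hle' he =>
      have hXR := hX.1.1
      have hbX := hb.res hXR
      obtain ⟨k, hk, hke⟩ := invariant_isMap hL.inv hf hα
      have hm : IsMap G (fimg (autFun α) X) (fun y => autFun α (f (autFun α⁻¹ y))) :=
        hk.congr fun y hy => by
          obtain ⟨x, hx, rfl⟩ := hbX.mem_fimg_iff.1 hy
          rw [hke x hx, hinv x (hXR hx)]
      refine .base ⟨InvClass.centric_transport hL.inv hX.1 hbX, ?_⟩ hm ?_ (fimg_mono _ hle')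
        fun y hy => ?_
      · rw [← InvClass.fimg_inf hT hbX]
        exact InvClass.centric_transport hE.1.2.2 hX.2 (hbX.res inf_le_left)
      · obtain ⟨γ, e, hee, hfe, hγ⟩ := hc
        obtain ⟨l, hl, hle2⟩ := invariant_isMap hE.1.2.2 hee ha
        have heq : fimg (autFun a) (X ⊓ T) = fimg (autFun α) X ⊓ T := by
          rw [fimg_congr (fun x (hx : x ∈ X ⊓ T) => hae x hx.2), InvClass.fimg_inf hT hbX]
        rw [heq] at hl
        have hγ' : a * (γ : MulAut T) * a⁻¹ ∈ K₁ := hK₁.conj a ha _ ((hχ γ).1 hγ)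
        refine ⟨⟨_, hL.aut.ge (hle hγ')⟩, l, hl, fun y hy => ?_, (hχ _).2 hγ'⟩
        have ham : IsMap F (X ⊓ T) (autFun a) :=
          (hb.res (inf_le_left.trans hXR)).congr fun x (hx : x ∈ X ⊓ T) => (hae x hx.2).symm
        obtain ⟨x, hx, rfl⟩ := ham.mem_fimg_iff.1 (heq.symm ▸ hy)
        have hex : e x ∈ T := hee.apply_mem hx
        show autFun α (f (autFun α⁻¹ (autFun a x))) = _
        rw [hae x hx.2, hinv x (hXR hx.1), hfe x hx, ← hae x hx.2, hle2 x hx,
          ← hae _ (autFun_mem _ hex), autFun_mul _ _ (autFun_mem _ hex),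
          autFun_mul _ _ (autFun_mem _ (autFun_mem _ hex)), autFun_inv_apply a hex]
      · obtain ⟨x, hx, rfl⟩ := (hb.res (hle'.trans hXR)).mem_fimg_iff.1 hy
        show autFun α (g (autFun α⁻¹ (autFun α x))) = autFun α (f (autFun α⁻¹ (autFun α x)))
        rw [hinv x (hXR (hle' hx)), he x hx]
    | @comp P Q f g h hf hg hm he ih₁ ih₂ =>
      have hPR := hf.isMap.source_le
      refine .comp ih₁ ih₂ (fun y hy => ?_) fun y hy => ?_
      · obtain ⟨x, hx, rfl⟩ := (hb.res hPR).mem_fimg_iff.1 hy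
        show autFun α (f (autFun α⁻¹ (autFun α x))) ∈ _
        rw [hinv x (hPR hx)]
        exact apply_mem_fimg _ (hm x hx)
      · obtain ⟨x, hx, rfl⟩ := (hb.res hPR).mem_fimg_iff.1 hy
        show autFun α (h (autFun α⁻¹ (autFun α x))) =
          autFun α (g (autFun α⁻¹ (autFun α (f (autFun α⁻¹ (autFun α x))))))
        rw [hinv x (hPR hx), hinv _ (hf.isMap.apply_mem hx), he x hx]
  have hinv : (genSys d).IsInvariantIn F := by
    refine ResInv.isInvariantIn_of_twist (fun P φ h => hL.inv.1 P (genSys_le d P h)) hL.inv.2.1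
      (fun {α} hα {P f} hf => ?_) fun {P f} hP hf => ?_
    · have hfG := (isMap_genSys d).1 hf
      refine ⟨_, (isMap_genSys d).2 (htw hα hfG), fun x hx => ?_⟩
      show autFun α (f (autFun α⁻¹ (autFun α x))) = _
      rw [autFun_inv_apply α (hfG.isMap.source_le hx)]
    · obtain ⟨α, hα, g, hg, he⟩ := frattini_of_isInvariantIn hL.inv hP hf
      obtain ⟨b, hb, e, hee, hge⟩ := d.decomp hg
      refine ⟨α * b, mul_mem hα (autGroup_mono hL.inv.1 R hb), e, (isMap_genSys d).2 hee,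
        fun x hx => ?_⟩
      rw [he x hx, hge x hx, ← autFun_mul α b (hee.isMap.apply_mem hx)]
  have haut : (genSys d).autGroup T = K₁ := by
    refine le_antisymm (fun γ hγ => ?_) fun γ hγ => ?_
    · have hγG := autGroup_mono (genSys_le d) T hγ
      have h1 := ((isMap_genSys d).1 ((mem_autGroup hTR).1 hγ)).cls d
      have h2 : HasCls χ E T (autFun γ) (χ ⟨γ, hγG⟩) :=
        ⟨⟨γ, hγG⟩, fun x => x, isMap_id E inf_le_left, fun x _ => rfl, rfl⟩
      exact (hχ ⟨γ, hγG⟩).1 (d.cls_unique (by rw [inf_idem]; exact centric_self E) h2 h1)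
    · have hγG : γ ∈ G.autGroup T := hL.aut.ge (hle hγ)
      obtain ⟨g, hg, hge, -, -⟩ := FocalCent.exists_ext hRp hL.sat hTn hγG
      refine (mem_autGroup hTR).2 ((isMap_genSys d).2 (.base hfam hg
        ⟨⟨γ, hγG⟩, fun x => x, isMap_id E inf_le_right, fun x hx => hge x hx.2, (hχ _).2 hγ⟩
        le_sup_left fun x hx => (hge x hx).symm))
  exact ⟨R, genSys d, hinv, genSys_saturated d, hnorm, haut, hR, fun U H h => by
    obtain ⟨h1, h2, -, h4⟩ := ResInv.limit_props h hS hF (invariant_self F)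
    exact ResInv.stable_le_primeIndex hS h2 h1 h4 hL.inv.1 hRS (hL.lim U H h)
      (genSys_saturated d) d.hasPrimeToPIndexIn⟩

end Cfsg.Agent.Fus.Envelope
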