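import Mathlib
import Cfsg.Prelude.Def_Local
import Cfsg.Agent.Lib.Fus.EnvelopeStep
import Cfsg.Agent.Lib.Fus.CentralizerSubgroup

/-!
The envelope of a normal subsystem with `p`-solvable automizer quotient and the residual limit.
-/

set_option autoImplicit false
set_option linter.style.haveILetI false
set_option linter.unusedSectionVars false
set_option linter.unusedVariables false

open scoped Classical Pointwise commutatorElement

universe u

namespace Cfsg.Agent.Fus.Envelope

open Subgroup FusionSystem ClassInv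

variable {Ω : Type u} [Group Ω] {S T : Subgroup Ω} {F : FusionSystem S} {E : FusionSystem T}
  {p : ℕ} [Finite S] [Fact p.Prime]

/-- Descent through a `p`-quotient. -/
theorem descend_pGroup (hS : IsPGroup p S) (hF : F.IsSaturated p) (hE : E.IsNormalIn F p)
    {K K₁ : Subgroup (MulAut T)} {R : Subgroup Ω} {G : FusionSystem R} (hL : Level F E p G K)
    (hK : Mid F E K) (hK₁ : Mid F E K₁) (hle : K₁ ≤ K)
    (hpow : ∀ a ∈ K, ∃ n : ℕ, a ^ p ^ n ∈ K₁) :
    ∃ (R₁ : Subgroup Ω) (G₁ : FusionSystem R₁), Level F E p G₁ K₁ := by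
  haveI : Finite T := finite_of_le hE.1.2.2.2.1.1
  induction hn : Nat.card K using Nat.strong_induction_on generalizing K R with
  | _ n ih =>
    rcases hle.eq_or_lt with rfl | hlt
    · exact ⟨R, G, hL⟩
    set K' := K₁ ⊔ ⁅K, K⁆ with hK'def
    have hcomm : ⁅K, K⁆ ≤ K := Subgroup.commutator_le.2 fun a ha b hb => by
      rw [commutatorElement_def]
      exact mul_mem (mul_mem (mul_mem ha hb) (inv_mem ha)) (inv_mem hb)
    have hK'K : K' ≤ K := sup_le hle hcomm
    have hK' : Mid F E K' := by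
      refine ⟨hK₁.ge.trans le_sup_left, hK'K.trans hK.le, fun γ hγ k hk => ?_⟩
      have h1 : K'.map (MulAut.conj γ).toMonoidHom ≤ K' := by
        rw [hK'def, Subgroup.map_sup, Subgroup.map_commutator]
        refine sup_le_sup ?_ (Subgroup.commutator_mono ?_ ?_)
        · rintro _ ⟨x, hx, rfl⟩
          exact hK₁.conj γ hγ x hx
        · rintro _ ⟨x, hx, rfl⟩
          exact hK.conj γ hγ x hx
        · rintro _ ⟨x, hx, rfl⟩
          exact hK.conj γ hγ x hx
      exact h1 ⟨k, hk, rfl⟩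
    have hne : K' ≠ K := by
      intro heq
      haveI : (K₁.subgroupOf K).Normal := ⟨fun k hk g => hK₁.conj g (hK.le g.2) k hk⟩
      set q := QuotientGroup.mk' (K₁.subgroupOf K)
      have hsub : K' ≤ ((commutator (↥K ⧸ K₁.subgroupOf K)).comap q).map K.subtype := by
        refine sup_le (fun a ha => ⟨⟨a, hle ha⟩, ?_, rfl⟩) (Subgroup.commutator_le.2 fun a ha b hb =>
          ⟨⁅(⟨a, ha⟩ : K), ⟨b, hb⟩⁆, ?_, rfl⟩)
        · show q ⟨a, hle ha⟩ ∈ commutator (↥K ⧸ K₁.subgroupOf K)
          rw [show q ⟨a, hle ha⟩ = 1 from (QuotientGroup.eq_one_iff _).2 ha]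
          exact one_mem _
        · show q ⁅(⟨a, ha⟩ : K), ⟨b, hb⟩⁆ ∈ commutator (↥K ⧸ K₁.subgroupOf K)
          rw [map_commutatorElement]
          exact Subgroup.commutator_mem_commutator (mem_top _) (mem_top _)
      have htop : commutator (↥K ⧸ K₁.subgroupOf K) = ⊤ := by
        refine eq_top_iff.2 fun v _ => ?_
        obtain ⟨k, rfl⟩ := QuotientGroup.mk'_surjective _ v
        obtain ⟨k', hk', he⟩ := hsub (heq.ge k.2)
        obtain rfl : k' = k := Subtype.ext he
        exact hk'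
      have hP : IsPGroup p (↥K ⧸ K₁.subgroupOf K) := by
        intro v
        obtain ⟨k, rfl⟩ := QuotientGroup.mk'_surjective _ v
        obtain ⟨m, hm⟩ := hpow k k.2
        refine ⟨m, ?_⟩
        rw [← map_pow]
        exact (QuotientGroup.eq_one_iff _).2 hm
      haveI : Nontrivial (↥K ⧸ K₁.subgroupOf K) := QuotientGroup.nontrivial_iff.2 fun h =>
        hlt.not_ge (Subgroup.subgroupOf_eq_top.1 h)
      haveI : Group.IsNilpotent (↥K ⧸ K₁.subgroupOf K) := hP.isNilpotent
      exact (Group.IsSolvable.commutator_lt_top_of_nontrivial _).ne htop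
    have hlt' : K' < K := lt_of_le_of_ne hK'K hne
    obtain ⟨R', G', hL'⟩ := step_pPower hS hF hE hL hK hK' hK'K
      (fun a ha b hb => Subgroup.mem_sup_right (Subgroup.commutator_mem_commutator ha hb))
      fun a ha => (hpow a ha).imp fun m hm => Subgroup.mem_sup_left hm
    exact ih _ (hn ▸ card_lt_of_lt hlt') hL' hK' le_sup_left (fun a ha => hpow a (hK'K ha)) rfl

/-- The carrier of `Aut_E(T)` is `T C_S(T)`. -/
theorem carrier_eq_sup (hS : IsPGroup p S) (hE : E.IsNormalIn F p) :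
    carrier S T (E.autGroup T) = T ⊔ centralizerIn S T := by
  have hT := hE.1.2.2.2.1
  have hN := le_normalizer_of_stronglyClosed hT
  have hmid : Mid F E (E.autGroup T) := ⟨le_rfl, autGroup_mono hE.1.2.2.1 T, fun γ hγ k hk => by
    obtain ⟨g, hg, hge⟩ := invariant_isMap hE.1.2.2 ((mem_autGroup le_rfl).1 hk) hγ
    rw [fimg_autFun] at hg
    refine (mem_autGroup le_rfl).2 (hg.congr fun y hy => ?_)
    have hy' : autFun γ⁻¹ y ∈ T := autFun_mem _ hy
    rw [autFun_mul _ _ hy, autFun_mul _ _ hy', ← hge _ hy', ← autFun_mul _ _ hy, mul_inv_cancel,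
      autFun_one hy]⟩
  refine le_antisymm (fun s hs => ?_) (le_carrier_sup hT hmid)
  obtain ⟨hsS, hsE⟩ := (mem_carrier hN).1 hs
  haveI : Finite T := finite_of_le hT.1
  obtain ⟨-, P, hP⟩ := fullyAutomized_of_fullyNormalized (hS.to_le hT.1) hE.1.1
    (fullyNormalized_self E)
  haveI : (P : Subgroup (E.autGroup T)).Normal := by
    rw [hP, ← inn_eq_autInducedBy]
    exact inn_subgroupOf_normal E T
  obtain ⟨k, hk⟩ := isPGroup_autInducedBy hS T
    ⟨cls T s, mem_autInducedBy.2 ⟨s, hsS, fun y => cls_apply (hN hsS) y⟩⟩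
  have h1 : (⟨cls T s, hsE⟩ : E.autGroup T) ∈ (P : Subgroup (E.autGroup T)) :=
    FocalCent.mem_of_normal_sylow P (k := k) (Subtype.ext (by
      rw [SubmonoidClass.coe_pow]
      exact (SubmonoidClass.coe_pow (⟨cls T s, _⟩ : autInducedBy S T) _).symm.trans
        (congrArg Subtype.val hk)))
  rw [hP] at h1
  obtain ⟨t, ht, hte⟩ := mem_autInducedBy.1 h1
  have hc : t⁻¹ * s ∈ centralizerIn S T := by
    refine mem_centralizerIn.2 ⟨S.mul_mem (S.inv_mem (hT.1 ht)) hsS, fun y hy => ?_⟩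
    have h2 : t * y * t⁻¹ = s * y * s⁻¹ :=
      ((hte ⟨y, hy⟩).symm.trans (cls_apply (hN hsS) ⟨y, hy⟩))
    calc y * (t⁻¹ * s) = t⁻¹ * (t * y * t⁻¹) * s := by group
      _ = t⁻¹ * (s * y * s⁻¹) * s := by rw [h2]
      _ = t⁻¹ * s * y := by group
  have := Subgroup.mul_mem_sup ht hc
  rwa [mul_inv_cancel_left] at this

theorem relIndex_preimage {A B : Type*} [Group A] [Group B] (M : Subgroup A) (q : M →* B)
    (hq : Function.Surjective q) (H₁ H₂ : Subgroup B) :
    ((H₁.comap q).map M.subtype).relIndex ((H₂.comap q).map M.subtype) = H₁.relIndex H₂ := by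
  rw [Subgroup.relIndex_map_map_of_injective _ _ (Subgroup.subtype_injective _),
    Subgroup.relIndex_comap, Subgroup.map_comap_eq_self_of_surjective hq]

set_option maxHeartbeats 800000 in
/-- The envelope: the last level. -/
theorem exists_bottom (hS : IsPGroup p S) (hF : F.IsSaturated p) (hE : E.IsNormalIn F p)
    [hn : ((E.autGroup T).subgroupOf (F.autGroup T)).Normal]
    (hsolv : IsPSolvable p (↥(F.autGroup T) ⧸ (E.autGroup T).subgroupOf (F.autGroup T))) :
    ∃ G : FusionSystem (T ⊔ centralizerIn S T), Level F E p G (E.autGroup T) := by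
  have hT := hE.1.2.2.2.1
  haveI : Finite T := finite_of_le hT.1
  obtain ⟨n, H, hH0, hH1, hmono, hnormal, hfac⟩ := hsolv
  set q := QuotientGroup.mk' ((E.autGroup T).subgroupOf (F.autGroup T))
  let pre : Fin (n + 1) → Subgroup (MulAut T) := fun i =>
    ((H i).comap q).map (F.autGroup T).subtype
  have hmid : ∀ i, Mid F E (pre i) := fun i => by
    refine ⟨fun a ha => ?_, Subgroup.map_subtype_le _, ?_⟩
    · refine ⟨⟨a, autGroup_mono hE.1.2.2.1 T ha⟩, ?_, rfl⟩
      show q ⟨a, autGroup_mono hE.1.2.2.1 T ha⟩ ∈ H i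
      rw [show q ⟨a, autGroup_mono hE.1.2.2.1 T ha⟩ = 1 from (QuotientGroup.eq_one_iff _).2 ha]
      exact one_mem _
    · rintro γ hγ _ ⟨k, hk, rfl⟩
      haveI := (hnormal i).comap q
      exact ⟨⟨γ, hγ⟩ * k * ⟨γ, hγ⟩⁻¹, ‹((H i).comap q).Normal›.conj_mem k hk _, rfl⟩
  have hrel : ∀ i j, (pre i).relIndex (pre j) = (H i).relIndex (H j) := fun i j =>
    relIndex_preimage _ q (QuotientGroup.mk'_surjective _) (H i) (H j)
  have key : ∀ i, ∃ (R : Subgroup Ω) (G : FusionSystem R), Level F E p G (pre i) := by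
    intro i
    induction i using Fin.reverseInduction with
    | last =>
      have h : pre (Fin.last n) = F.autGroup T := by
        show ((H (Fin.last n)).comap q).map _ = _
        rw [hH1, Subgroup.comap_top, ← MonoidHom.range_eq_map, Subgroup.range_subtype]
      exact ⟨S, F, h ▸ level_top hS hF hE⟩
    | cast i ih =>
      obtain ⟨R, G, hL⟩ := ih
      have hle : pre i.castSucc ≤ pre i.succ :=
        Subgroup.map_mono (Subgroup.comap_mono (hmono (Fin.castSucc_le_succ i)))
      rcases hfac i with ⟨m, hm⟩ | hc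
      · refine descend_pGroup hS hF hE hL (hmid _) (hmid _) hle fun a ha => ⟨m, ?_⟩
        haveI : ((pre i.castSucc).subgroupOf (pre i.succ)).Normal :=
          ⟨fun k hk g => (hmid i.castSucc).conj g ((hmid i.succ).le g.2) k hk⟩
        have h1 : Nat.card (↥(pre i.succ) ⧸ (pre i.castSucc).subgroupOf (pre i.succ)) = p ^ m :=
          (hrel i.castSucc i.succ).trans hm
        have h2 := pow_card_eq_one' (G := ↥(pre i.succ) ⧸ (pre i.castSucc).subgroupOf (pre i.succ))
          (x := QuotientGroup.mk' _ ⟨a, ha⟩)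
        rw [h1, ← map_pow] at h2
        have h3 : (⟨a, ha⟩ : ↥(pre i.succ)) ^ p ^ m ∈ (pre i.castSucc).subgroupOf (pre i.succ) :=
          (QuotientGroup.eq_one_iff _).1 h2
        exact h3
      · exact step_prime hS hF hE hL (hmid _) (hmid _) hle
          (by rw [hrel i.castSucc i.succ]; exact hc)
  obtain ⟨R, G, hL⟩ := key 0
  have h0 : pre 0 = E.autGroup T := by
    show ((H 0).comap q).map _ = _
    rw [hH0, MonoidHom.comap_bot, QuotientGroup.ker_mk', Subgroup.subgroupOf_map_subtype,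
      inf_eq_left.2 (autGroup_mono hE.1.2.2.1 T)]
  rw [h0] at hL
  obtain rfl : R = T ⊔ centralizerIn S T := hL.carrier_eq.trans (carrier_eq_sup hS hE)
  exact ⟨G, hL⟩

/-- The envelope is normal, and has the same residual limit. -/
theorem exists_envelope (hS : IsPGroup p S) (hF : F.IsSaturated p) (hE : E.IsNormalIn F p)
    [hn : ((E.autGroup T).subgroupOf (F.autGroup T)).Normal]
    (hsolv : IsPSolvable p (↥(F.autGroup T) ⧸ (E.autGroup T).subgroupOf (F.autGroup T))) :
    ∃ F₀ : FusionSystem (T ⊔ centralizerIn S T), F₀.IsNormalIn F p ∧ E.IsSubsystemOf F₀ ∧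
      F₀.autGroup T = E.autGroup T ∧ ∀ {U : Subgroup Ω} (Finf : FusionSystem U),
        Finf.IsResidualLimitOf F p → Finf.IsSubsystemOf F₀ ∧ ∀ {V : Subgroup Ω} (L : FusionSystem V),
          L.IsResidualLimitOf F₀ p → ∀ P : Subgroup Ω, L.Hom P = Finf.Hom P := by
  obtain ⟨G, hL⟩ := exists_bottom hS hF hE hsolv
  have hCR : centralizerIn S (T ⊔ centralizerIn S T) ≤ T ⊔ centralizerIn S T :=
    fun x hx => Subgroup.mem_sup_right ⟨hx.1, Subgroup.mem_centralizer_iff.2 fun y hy =>
      (mem_centralizerIn.1 hx).2 y (Subgroup.mem_sup_left hy)⟩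
  refine ⟨G, isNormalIn_of_selfCentralizing hF hL.inv hL.sat hCR, hL.normal.1.2.2.1, hL.aut,
    fun {U} Finf h => ⟨hL.lim U Finf h, fun {V} L hLl P => ?_⟩⟩
  obtain ⟨a1, a2, a3, a4⟩ := ResInv.limit_props h hS hF (invariant_self F)
  obtain ⟨b1, b2, b3, b4⟩ := ResInv.limit_props hLl hS hL.sat hL.inv
  exact Set.Subset.antisymm (ResInv.le_limit h hS b1 b2 b3 b4 hF (invariant_self F) b2.1 P)
    (ResInv.le_limit hLl hS a1 a2 a3 a4 hL.sat hL.inv (hL.lim U Finf h) P)

/-- With `C_S(E) ≤ T` a normal subsystem has the residual limit of the whole system. -/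
theorem limit_eq (hS : IsPGroup p S) (hF : F.IsSaturated p) (hE : E.IsNormalIn F p)
    (hCE : ∀ Y : Subgroup Ω, Y ≤ centralizerIn S T →
      (∀ C : FusionSystem (centralizerIn S Y), F.IsCentralizerSystem Y C → E.IsSubsystemOf C) →
        Y ≤ T)
    [hn : ((E.autGroup T).subgroupOf (F.autGroup T)).Normal]
    (hsolv : IsPSolvable p (↥(F.autGroup T) ⧸ (E.autGroup T).subgroupOf (F.autGroup T)))
    {U V : Subgroup Ω} (Finf : FusionSystem U) (hFinf : Finf.IsResidualLimitOf F p)
    (Einf : FusionSystem V) (hEinf : Einf.IsResidualLimitOf E p) :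
    ∀ P : Subgroup Ω, Finf.Hom P = Einf.Hom P := by
  have hTS := hE.1.2.2.2.1.1
  haveI : Finite T := finite_of_le hTS
  have hfocT : (centralizerSystem F T hTS).focalSubgroup ≤ T := by
    refine (CentNormal.le_centSub (FocalCent.focal_le _)
      (FocalCent.hom_subset_centralizerHom hS hF hE)).trans ?_
    exact hCE _ (CentNormal.centSub_le F E) fun C hC P φ hφ =>
      (hC P).symm ▸ CentNormal.centSub_cent hS hF hE P hφ
  have hbot := exists_bottom hS hF hE hsolv
  set W := T ⊔ centralizerIn S T with hWdef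
  obtain ⟨G, hL⟩ := hbot
  have hWS : W ≤ S := sup_le hTS inf_le_left
  haveI : Finite W := finite_of_le hWS
  have hTG : G.StronglyClosed T := hL.normal.1.2.2.2.1
  have hWN : W ≤ Subgroup.normalizer (T : Set Ω) :=
    hWS.trans (le_normalizer_of_stronglyClosed hE.1.2.2.2.1)
  have hfoc : ∀ {P : Subgroup Ω} {f : Ω → Ω}, IsMap G P f → ∀ x ∈ P, x⁻¹ * f x ∈ T := by
    intro P f hf
    refine alperin_strongly (hS.to_le hWS) hL.sat hTG (fun P f => ∀ x ∈ P, x⁻¹ * f x ∈ T)
      (fun P f g h e x hx => e x hx ▸ h x hx) (fun P Q f g _ _ hm h h' x hx => ?_)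
      (fun P Q f _ hPQ h x hx => h x (hPQ hx)) (fun R hTR g hg x hx => ?_)
      (fun R a _ _ h => h) hf
    · have := T.mul_mem (h x hx) (h' _ (hm x hx))
      rwa [show x⁻¹ * f x * ((f x)⁻¹ * g (f x)) = x⁻¹ * g (f x) by group] at this
    -- a map defined on `T`
    obtain ⟨γ, hγ, hγe⟩ := (hg.res hTR).exists_aut (fimg_stronglyClosed hTG hg hTR)
    rw [hL.aut] at hγ
    obtain ⟨B, hB, hBT, hBC⟩ := hL.normal.2 γ hγ
    have hU : T ⊔ centralizerIn W T ≤ W := sup_le le_sup_left inf_le_left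
    haveI := finite_of_le hU
    have hBm : IsMap G (T ⊔ centralizerIn W T) (autFun B) := (mem_autGroup hU).1 hB
    obtain ⟨t, ht, c, hc, rfl⟩ : x ∈ (T : Set Ω) * (centralizerIn S T : Set Ω) := by
      rw [← Subgroup.coe_mul_of_right_le_normalizer_left T (centralizerIn S T)
        (le_sup_right.trans hWN)]
      exact hg.source_le hx
    have hcR : c ∈ R := by
      have := R.mul_mem (R.inv_mem (hTR ht)) hx
      rwa [inv_mul_cancel_left] at this
    have hcW : c ∈ centralizerIn W T := ⟨Subgroup.mem_sup_right hc, hc.2⟩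
    have hcU : c ∈ T ⊔ centralizerIn W T := Subgroup.mem_sup_right hcW
    obtain ⟨b', hb', hb1, hb2, -⟩ := hBm.exists_inv
    rw [fimg_autFun] at hb' hb2
    have hgU : ∀ z ∈ Subgroup.zpowers c ⊔ T, g z ∈ T ⊔ centralizerIn W T := fun z hz => by
      have hd : Subgroup.zpowers c ⊔ T ≤ R := sup_le (Subgroup.zpowers_le.2 hcR) hTR
      have h1 := apply_mem_fimg g hz
      rw [(hg.res hd).fimg_sup, fimg_stronglyClosed hTG hg hTR] at h1
      refine (sup_le (fimg_le fun w hw => Subgroup.mem_sup_right ?_) le_sup_left) h1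
      have h2 := hg.map_centralizerIn (P := T) hTR (hd (Subgroup.mem_sup_left hw))
        ((Subgroup.zpowers_le.2 hc.2) hw)
      rwa [fimg_stronglyClosed hTG hg hTR] at h2
    have hdom : Subgroup.zpowers c ⊔ T ≤ R := sup_le (Subgroup.zpowers_le.2 hcR) hTR
    have hd := (hg.res hdom).comp hb' hgU
    have hfix : ∀ y ∈ T, b' (g y) = y := fun y hy => by
      have h1 : autFun B y = g y := by
        rw [← hγe y hy, show autFun γ y = ((γ ⟨y, hy⟩ : T) : Ω) from autFun_coe γ ⟨y, hy⟩,
          ← hBT ⟨y, hy⟩]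
        exact autFun_coe B ⟨y, Subgroup.mem_sup_left hy⟩
      rw [← h1, hb1 y (Subgroup.mem_sup_left hy)]
    have hdm : IsMap (centralizerSystem F T hTS) (Subgroup.zpowers c) (fun z => b' (g z)) := by
      refine (isMap_centralizerSystem hTS (isCentralizerSystem_centralizerSystem F hTS)).2
        ⟨Subgroup.zpowers_le.2 hc, fun z hz => ?_, _, hd.mono hL.inv.1, fun _ _ => rfl, hfix⟩
      have h1 := (hd.mono hL.inv.1).map_centralizerIn (P := T) le_sup_right
        (Subgroup.mem_sup_left hz) ((Subgroup.zpowers_le.2 hc.2) hz)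
      rwa [fimg_eq_self_of_forall hfix] at h1
    obtain ⟨w, hw, hwe⟩ : ∃ w ∈ T, b' (g c) = c * w :=
      ⟨_, hfocT (hdm.focal_mem (mem_zpowers c)), (mul_inv_cancel_left _ _).symm⟩
    have h3 : g c = autFun B c * autFun B w := by
      rw [← hBm.map_mul hcU (Subgroup.mem_sup_left hw), ← hwe]
      exact ((hb2 _ (hgU c (Subgroup.mem_sup_left (mem_zpowers c)))).2).symm
    have hBw : autFun B w ∈ T := by
      have h4 := apply_mem_fimg (autFun B) (show w ∈ T from hw)
      rwa [fimg_stronglyClosed hTG hBm le_sup_left] at h4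
    have hBc : c⁻¹ * autFun B c ∈ T := by
      rw [show autFun B c = ((B ⟨c, hcU⟩ : ↥(T ⊔ centralizerIn W T)) : Ω) from
        autFun_coe B ⟨c, hcU⟩]
      exact (hBC ⟨c, hcU⟩ hcW).1
    have hgt : t⁻¹ * g t ∈ T := T.mul_mem (T.inv_mem ht)
      (StronglyClosed.apply_mem hTG (hg.res hTR) le_rfl ht)
    rw [hg.map_mul (hTR ht) hcR, h3]
    rw [show (t * c)⁻¹ * (g t * (autFun B c * autFun B w)) =
      c⁻¹ * (t⁻¹ * g t) * c * (c⁻¹ * autFun B c * autFun B w) by group]
    refine T.mul_mem ?_ (T.mul_mem hBc hBw)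
    exact (Subgroup.mem_normalizer_iff''.1 (hWN (Subgroup.mem_sup_right hc)) _).1 hgt
  have hhyp : G.hyperfocalSubgroup p ≤ T := by
    refine (hyperfocal_le_focal G p).trans ((Subgroup.closure_le _).2 ?_)
    rintro _ ⟨P, φ, x, hφ, rfl⟩
    have := hfoc (isMap_toFun hφ) x x.2
    rwa [toFun_coe] at this
  have hEi : E.HasPPowerIndexIn G p := by
    refine ⟨hL.normal.1.2.2.1, hhyp, fun P hP => ?_⟩
    rintro _ ⟨a, -, rfl⟩
    have hm : IsMap G P (autFun (a : MulAut P)) := (mem_autGroup (hP.trans le_sup_left)).1 a.2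
    obtain ⟨α, hα, g, hg, he⟩ := frattini_of_isInvariantIn hL.normal.1.2.2 hP hm
    rw [hL.aut] at hα
    refine (mem_autGroup hP).2 ((hg.comp ((mem_autGroup le_rfl).1 hα)
      fun x hx => hg.apply_mem hx).congr fun x hx => (he x hx).symm)
  obtain ⟨a1, a2, a3, a4⟩ := ResInv.limit_props hFinf hS hF (invariant_self F)
  obtain ⟨b1, b2, b3, b4⟩ := ResInv.limit_props hEinf hS hE.1.1 hE.1.2.2
  intro P
  refine Set.Subset.antisymm ?_
    (ResInv.le_limit hFinf hS b1 b2 b3 b4 hF (invariant_self F) b2.1 P)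
  exact ResInv.le_limit hEinf hS a1 a2 a3 a4 hE.1.1 hE.1.2.2
    (ResInv.stable_le_pPower a2.2.1.1 hS a1 a3 (hL.lim U Finf hFinf) hEi) P

end Cfsg.Agent.Fus.Envelope
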