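import Mathlib
import Cfsg.Agent.Lib.Fus.EssentialSmall
import Cfsg.Agent.Lib.Fus.MetacyclicTwoAut
import Cfsg.Agent.Lib.Transfer.PGroups
import Cfsg.Agent.Lib.Recog.MaxClassSelfCentral

/-!
Essential subgroups of order `p ^ 3`.
-/

set_option autoImplicit false
set_option linter.unusedSectionVars false
set_option linter.style.haveILetI false

universe u

namespace Cfsg.Agent.Fus

open Subgroup
open scoped commutatorElement

/-- In a finite subgroup the order kills every element. -/
theorem pow_card_mem {G : Type*} [Group G] {K : Subgroup G} {x : G} (hx : x ∈ K) :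
    x ^ Nat.card K = 1 :=
  congrArg Subtype.val (pow_card_eq_one' (x := (⟨x, hx⟩ : K)))

variable {Ω : Type u} [Group Ω] {S : Subgroup Ω} [Finite S] {p : ℕ} [hp : Fact p.Prime]
  {F : FusionSystem S}

/-- The automorphism group of an essential subgroup is not a `p`-group. -/
theorem not_isPGroup_autGroup (hS : IsPGroup p S) {P : Subgroup Ω} (hP : F.IsEssential p P) :
    ¬ IsPGroup p (F.autGroup P) := fun h =>
  not_essential_of_normal_pgroup hS hP ⊤ inferInstance (h.to_subgroup _) fun g _ _ => mem_top g

/-- An essential subgroup of order `p ^ 3`. -/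
theorem essential_card_cube (hS : IsPGroup p S) {H : Subgroup Ω} (hH : F.IsEssential p H)
    (hcard : Nat.card H = p ^ 3) :
    Cfsg.IsElementaryAbelian p H ∨
      (Odd p ∧ Cfsg.IsExtraspecial p ↥H ∧ ∀ x ∈ H, x ^ p = 1) ∨
      (p = 2 ∧ Nonempty (↥H ≃* QuaternionGroup 2)) := by
  haveI := finite_of_le hH.1.1
  have hpp : p.Prime := hp.out
  have hHp : IsPGroup p H := hS.to_le hH.1.1
  have hidx := lt_frattini_index_of_essential hS hH
  have hmul : (frattini H).index * Nat.card (frattini H) = p ^ 3 := by
    rw [index_mul_card, hcard]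
  have hΦle : Nat.card (frattini H) ≤ p := by
    obtain ⟨i, hi⟩ := IsPGroup.iff_card.1 (hHp.to_subgroup (frattini H))
    by_contra h
    rw [hi] at h hmul
    have h2 : 2 ≤ i := by
      rcases i with _ | _ | i
      · exact absurd hpp.one_le (by simpa using h)
      · simp at h
      · omega
    have h4 : p ^ 2 ≤ p ^ i := Nat.pow_le_pow_right hpp.pos h2
    nlinarith [hpp.two_le]
  -- an invariant subgroup of index `p` above the Frattini subgroup does not exist
  have hno : ∀ U : Subgroup H, frattini H ≤ U → Nat.card U = p ^ 2 →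
      (∀ g : MulAut H, ∀ x ∈ U, g x ∈ U) → Nat.card (frattini H) = p → False := by
    intro U hle hU hinv hΦ
    refine not_essential_of_between hS hH hle (by rw [hU, hΦ, sq]) ?_ fun g _ => hinv g
    have h := U.index_mul_card
    rw [hU, hcard, pow_succ' p 2] at h
    exact (Nat.eq_of_mul_eq_mul_right (pow_pos hpp.pos 2) h).le
  by_cases hc : ∀ x y : H, x * y = y * x
  · left
    refine ⟨⟨⟨hc⟩⟩, ?_⟩
    by_contra hne
    push Not at hne
    obtain ⟨x, hxH, hx⟩ := hne
    letI : CommGroup H := { (inferInstance : Group H) with mul_comm := hc }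
    set f : H →* H := powMonoidHom p
    have hR : f.range ≤ frattini H := by
      rintro _ ⟨y, rfl⟩
      exact Grp.pGroup_pow_mem_frattini hHp y
    have hxne : (⟨x, hxH⟩ : H) ^ p ≠ 1 := fun e => hx (congrArg Subtype.val e)
    have hdvd : ∀ K : Subgroup H, K ≠ ⊥ → p ∣ Nat.card K := fun K hK => by
      obtain ⟨i, hi⟩ := IsPGroup.iff_card.1 (hHp.to_subgroup K)
      rw [hi]
      refine dvd_pow_self p fun e => hK ?_
      rw [e, pow_zero] at hi
      exact Subgroup.card_eq_one.1 hi
    have hRne : f.range ≠ ⊥ := fun e => hxne (by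
      have : f ⟨x, hxH⟩ ∈ f.range := ⟨_, rfl⟩
      rwa [e, Subgroup.mem_bot] at this)
    have hRp : Nat.card f.range = p := le_antisymm ((Subgroup.card_le_of_le hR).trans hΦle)
      (Nat.le_of_dvd Nat.card_pos (hdvd _ hRne))
    have hΦ : Nat.card (frattini H) = p := le_antisymm hΦle (hRp ▸ Subgroup.card_le_of_le hR)
    have hRΦ : f.range = frattini H := Subgroup.eq_of_le_of_card_ge hR (by rw [hRp, hΦ])
    refine hno f.ker ?_ ?_ (fun g y hy => ?_) hΦ
    · rw [← hRΦ]
      rintro _ ⟨y, rfl⟩
      show (y ^ p) ^ p = 1
      have : f y ∈ f.range := ⟨y, rfl⟩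
      have h := pow_card_mem this
      rwa [hRp] at h
    · have h := f.ker.index_mul_card
      rw [Subgroup.index_ker, hRp, hcard, pow_succ' p 2] at h
      exact Nat.eq_of_mul_eq_mul_left hpp.pos h
    · have hy : y ^ p = 1 := hy
      show g y ^ p = 1
      rw [← map_pow, hy, map_one]
  · right
    have hna : ¬ IsMulCommutative H := fun h => hc fun a b => h.is_comm.comm a b
    obtain ⟨hZc, hcomm, hpow⟩ := MaxClass.cube_center hcard hna
    have hcZ : _root_.commutator H ≤ center H := Subgroup.commutator_le.2 fun a _ b _ => hcomm a b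
    have hΦZ : frattini H ≤ center H := Grp.frattini_le_of_elementary hpp hcZ hpow
    have hcne : _root_.commutator H ≠ ⊥ := fun e => hc fun a b => by
      have : ⁅a, b⁆ ∈ _root_.commutator H := commutator_mem_commutator (mem_top a) (mem_top b)
      rw [e, Subgroup.mem_bot] at this
      exact commutatorElement_eq_one_iff_mul_comm.1 this
    have hd : p ∣ Nat.card (_root_.commutator H) := by
      obtain ⟨i, hi⟩ := IsPGroup.iff_card.1 (hHp.to_subgroup (_root_.commutator H))
      rw [hi]
      refine dvd_pow_self p fun e => hcne ?_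
      rw [e, pow_zero] at hi
      exact Subgroup.card_eq_one.1 hi
    have hCZ : _root_.commutator H = center H :=
      Subgroup.eq_of_le_of_card_ge hcZ (hZc ▸ Nat.le_of_dvd Nat.card_pos hd)
    have hΦC : frattini H = center H :=
      le_antisymm hΦZ (hCZ ▸ Grp.pGroup_commutator_le_frattini hHp)
    by_cases h2 : p = 2
    · subst h2
      right
      refine ⟨rfl, ?_⟩
      obtain ⟨x, hx⟩ : ∃ x : H, x ^ 2 ≠ 1 := by
        by_contra hh
        push Not at hh
        refine hc fun a b => ?_
        have hi : ∀ c : H, c⁻¹ = c := fun c => inv_eq_of_mul_eq_one_left (by rw [← sq]; exact hh c)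
        rw [← hi (a * b), mul_inv_rev, hi a, hi b]
      have hx8 : orderOf x ∣ 8 := by
        have h := orderOf_dvd_natCard x
        rwa [hcard] at h
      have hx4 : orderOf x = 4 := by
        refine orderOf_eq_prime_pow (n := 1) (p := 2) (by simpa using hx) ?_
        have := pow_card_mem (hpow x)
        rw [hZc, ← pow_mul] at this
        simpa using this
      have hN : (zpowers x).Normal := Subgroup.normal_of_index_eq_two (by
        have h := (zpowers x).index_mul_card
        rw [Nat.card_zpowers, hx4, hcard] at h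
        omega)
      haveI := hN
      have hm : IsMetacyclic H := by
        refine ⟨zpowers x, hN, inferInstance, isCyclic_of_prime_card (p := 2) ?_⟩
        rw [← Subgroup.index_eq_card]
        have h := (zpowers x).index_mul_card
        rw [Nat.card_zpowers, hx4, hcard] at h
        omega
      rcases MetaTwo.classify_of_not_isPGroup hHp hm (fun h => not_isPGroup_autGroup hS hH
          (h.to_subgroup _)) with h | ⟨n, ⟨e⟩⟩
      · exact h
      · exact absurd (fun a b => e.injective (by rw [map_mul, map_mul, mul_comm])) hc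
    · left
      have hodd : Odd p := hpp.odd_of_ne_two h2
      have hsc : Transfer.PGroups.SmallClass p H := Or.inl ⟨h2, by
        rw [eq_bot_iff, Subgroup.commutator_le]
        intro a ha b _
        rw [Subgroup.mem_bot, commutatorElement_eq_one_iff_mul_comm]
        exact (mem_center_iff.1 (hcZ ha) b).symm⟩
      have hZp : ∀ g ∈ center H, g ^ p = 1 := fun g hg => by
        have := pow_card_mem hg
        rwa [hZc] at this
      by_cases hexp : ∀ x : H, x ^ p = 1
      · exact ⟨hodd, ⟨⟨hHp, hΦC, hCZ⟩, hZc⟩, fun x hx => congrArg Subtype.val (hexp ⟨x, hx⟩)⟩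
      exfalso
      push Not at hexp
      obtain ⟨x, hx⟩ := hexp
      let f : H →* H := MonoidHom.mk' (fun y => y ^ p)
        fun a b => Transfer.PGroups.mul_pow_of_derived hsc (fun g hg => hZp g (hcZ hg)) a b
      have hfZ : f.range = center H := by
        refine Subgroup.eq_of_le_of_card_ge (by rintro _ ⟨y, rfl⟩; exact hpow y) ?_
        rw [hZc]
        refine Nat.le_of_dvd Nat.card_pos ?_
        rw [show p = orderOf (f x) from (orderOf_eq_prime (hZp _ (hpow x)) hx).symm]
        exact f.range.orderOf_dvd_natCard ⟨x, rfl⟩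
      refine hno f.ker ?_ ?_ (fun g y hy => ?_) (by rw [hΦC, hZc])
      · rw [hΦC]
        exact fun g hg => hZp g hg
      · have h := f.ker.index_mul_card
        rw [Subgroup.index_ker, hfZ, hZc, hcard, pow_succ' p 2] at h
        exact Nat.eq_of_mul_eq_mul_left hpp.pos h
      · have hy : y ^ p = 1 := hy
        show g y ^ p = 1
        rw [← map_pow, hy, map_one]

end Cfsg.Agent.Fus
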