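import Cfsg.Agent.Lib.Fus.EssentialSmall
import Cfsg.Agent.Lib.Fus.RankTwoAut
import Cfsg.Agent.Lib.Invol.CubicLift

/-!
A subgroup whose automorphisms in the system act on an elementary abelian section of order `p²`:
the torus of `SL(2, p)` extends to the normalizer.
-/

set_option autoImplicit false
set_option linter.unusedSectionVars false
set_option linter.style.haveILetI false

universe u v

namespace Cfsg.Agent.Fus.TorusExt

open Cfsg FusionSystem RankTwoAut Invol.CubicStable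
open Grp.SL2 (up low up_mul up_pow up_zero)

variable {Ω : Type u} [Group Ω] {S : Subgroup Ω} [Finite S] {p : ℕ} [hp : Fact p.Prime]
  {F : FusionSystem S} {P : Subgroup Ω}

local notation "SLp" => Matrix.SpecialLinearGroup (Fin 2) (ZMod p)

/-- Conjugation by the elements of `N_S(P)`, in `Aut_F(P)`. -/
def cj (F : FusionSystem S) (hP : P ≤ S) : ↥(normalizerIn S P) →* F.autGroup P :=
  (P.normalizerMonoidHom.comp (Subgroup.inclusion inf_le_right)).codRestrict _ fun x =>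
    autInducedBy_le_autGroup F hP (mem_autInducedBy.2 ⟨x, x.2.1, fun _ => rfl⟩)

@[simp] theorem cj_apply (hP : P ≤ S) (x : ↥(normalizerIn S P)) (a : P) :
    ((((cj F hP x : F.autGroup P) : MulAut P) a : P) : Ω) = x * a * (x : Ω)⁻¹ := rfl

theorem cj_mem_autInducedBy (hP : P ≤ S) (x : ↥(normalizerIn S P)) :
    ((cj F hP x : F.autGroup P) : MulAut P) ∈ autInducedBy S P :=
  mem_autInducedBy.2 ⟨x, x.2.1, fun _ => rfl⟩

theorem exists_cj (hP : P ≤ S) {α : F.autGroup P} (h : (α : MulAut P) ∈ autInducedBy S P) :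
    ∃ x, cj F hP x = α := by
  obtain ⟨g, hg, hga⟩ := mem_autInducedBy.1 h
  exact ⟨⟨g, hg, mem_normalizer_of_conj_aut hga⟩,
    Subtype.ext (MulEquiv.ext fun a => Subtype.ext (hga a).symm)⟩

/-- A `p`-subgroup of automorphisms of `C_p × C_p` has order at most `p`. -/
theorem card_le_of_pgroup_aut {Q : Type v} [Group Q] [Finite Q] (hcard : Nat.card Q = p ^ 2)
    {A : Subgroup (MulAut Q)} (hA : IsPGroup p A) : Nat.card A ≤ p := by
  have hpp : p.Prime := hp.out
  haveI : Finite (MulAut Q) := Finite.of_injective (fun e : MulAut Q => (e : Q → Q)) DFunLike.coe_injective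
  obtain ⟨v, hv, hv1⟩ : ∃ v : Q, (∀ a : A, (a : MulAut Q) v = v) ∧ (1 : Q) ≠ v := by
    letI : MulAction A Q := MulAction.compHom Q A.subtype
    obtain ⟨v, hv, hne⟩ := hA.exists_fixed_point_of_prime_dvd_card_of_fixed_point Q
      (by rw [hcard]; exact dvd_pow_self p two_ne_zero)
      (show (1 : Q) ∈ MulAction.fixedPoints A Q from fun a => map_one (a : MulAut Q))
    exact ⟨v, fun a => hv a, hne⟩
  set L := Subgroup.zpowers v with hL
  have hcardL : p ≤ Nat.card L := by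
    obtain ⟨i, hi⟩ := IsPGroup.iff_card.1 ((IsPGroup.of_card hcard).to_subgroup L)
    rw [hi]
    refine Nat.le_self_pow (fun e => hv1.symm ?_) p
    rw [e, pow_zero, Subgroup.card_eq_one, hL, Subgroup.zpowers_eq_bot] at hi
    exact hi
  by_cases hLQ : L = ⊤
  · haveI : Subsingleton A := ⟨fun a b => Subtype.ext (MulEquiv.ext fun x => by
      obtain ⟨i, rfl⟩ : x ∈ L := hLQ ▸ Subgroup.mem_top x
      simp [hv])⟩
    rw [Nat.card_of_subsingleton (1 : A)]
    exact hpp.one_le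
  obtain ⟨w, hw⟩ : ∃ w, w ∉ L := by
    by_contra h
    push Not at h
    exact hLQ (eq_top_iff.2 fun x _ => h x)
  have htop : L ⊔ Subgroup.zpowers w = ⊤ := by
    obtain ⟨i, hi⟩ := IsPGroup.iff_card.1 ((IsPGroup.of_card hcard).to_subgroup (L ⊔ Subgroup.zpowers w))
    refine Subgroup.eq_top_of_le_card _ ?_
    have hlt : Nat.card L < Nat.card (L ⊔ Subgroup.zpowers w : Subgroup Q) := by
      by_contra h
      exact hw ((Subgroup.eq_of_le_of_card_ge le_sup_left (not_lt.1 h)).ge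
        (Subgroup.mem_sup_right (Subgroup.mem_zpowers w)))
    rw [hcard, hi]
    rw [hi] at hlt
    refine Nat.pow_le_pow_right hpp.pos ?_
    by_contra h
    have : p ^ i ≤ p := (Nat.pow_le_pow_right hpp.pos (by omega : i ≤ 1)).trans (pow_one p).le
    omega
  letI : MulAction A Q := MulAction.compHom Q A.subtype
  have hinj : MulAction.stabilizer A w = ⊥ := by
    rw [eq_bot_iff]
    intro a ha
    refine Subgroup.mem_bot.2 (Subtype.ext (MulEquiv.ext fun x => ?_))
    have hle : L ⊔ Subgroup.zpowers w ≤ ((a : MulAut Q).toMonoidHom.eqLocus (MonoidHom.id Q)) :=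
      sup_le (Subgroup.zpowers_le.2 (hv a)) (Subgroup.zpowers_le.2 ha)
    exact hle (htop.ge (Subgroup.mem_top x))
  have hcardA : Nat.card (MulAction.orbit A w) = Nat.card A := by
    rw [Nat.card_congr (MulAction.orbitEquivQuotientStabilizer A w), hinj]
    exact Nat.card_congr QuotientGroup.quotientBot.toEquiv
  obtain ⟨i, hi⟩ := IsPGroup.iff_card.1 hA
  have hsub : MulAction.orbit A w ⊆ ((L : Set Q))ᶜ := by
    rintro _ ⟨a, rfl⟩ hx
    obtain ⟨j, hj⟩ : (a : MulAut Q) w ∈ L := hx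
    refine hw ⟨j, (a : MulAut Q).injective ?_⟩
    show (a : MulAut Q) (v ^ j) = _
    rw [map_zpow, hv a]
    exact hj
  have h1 : Nat.card (MulAction.orbit A w) ≤ p ^ 2 - p := by
    rw [Nat.card_coe_set_eq]
    refine (Set.ncard_le_ncard hsub (Set.toFinite _)).trans ?_
    rw [Set.ncard_compl, ← Nat.card_coe_set_eq, hcard]
    simp only [SetLike.coe_sort_coe]
    omega
  rw [hi] at hcardA ⊢
  rw [hcardA] at h1
  refine (Nat.pow_le_pow_right hpp.pos (?_ : i ≤ 1)).trans (pow_one p).le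
  by_contra h
  have h2 : p ^ 2 ≤ p ^ i := Nat.pow_le_pow_right hpp.pos (by omega)
  have := hpp.pos
  have : p ≤ p ^ 2 := Nat.le_self_pow two_ne_zero p
  omega

/-- An automorphism with two eigenvectors conjugates a transvection to a power. -/
theorem conj_eq_pow {Q : Type v} [Group Q] (e : Multiplicative (Fin 2 → ZMod p) ≃* Q)
    {g : MulAut Q} {s μ ν : ZMod p} (hν : ν ≠ 0)
    (h0 : lin e g (Pi.single 0 1) = μ • Pi.single 0 1)
    (h1 : lin e g (Pi.single 1 1) = ν • Pi.single 1 1) :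
    g * act e (up s) * g⁻¹ = act e (up s) ^ (μ * ν⁻¹).val := by
  rw [← map_pow, up_pow, ZMod.natCast_zmod_val, mul_inv_eq_iff_eq_mul]
  refine lin_injective e ((Pi.basisFun (ZMod p) (Fin 2)).ext fun i => ?_)
  rw [Pi.basisFun_apply, lin_mul, lin_mul, lin_act]
  have hA : ∀ t : ZMod p, (up t : SLp).1.mulVec (Pi.single 0 1) = Pi.single 0 1 ∧
      (up t : SLp).1.mulVec (Pi.single 1 1) = t • Pi.single 0 1 + Pi.single 1 1 := fun t => by
    constructor <;> funext k <;> fin_cases k <;> simp [up]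
  fin_cases i
  · show lin e g ((up s : SLp).1.mulVec (Pi.single 0 1)) = lin e (act e _) (lin e g (Pi.single 0 1))
    rw [(hA s).1, h0, map_smul, lin_act, (hA _).1]
  · show lin e g ((up s : SLp).1.mulVec (Pi.single 1 1)) = lin e (act e _) (lin e g (Pi.single 1 1))
    rw [(hA s).2, map_add, map_smul, h0, h1, map_smul, lin_act, (hA _).2, smul_add, smul_smul,
      smul_smul, show ν * (μ * ν⁻¹ * s) = s * μ by field_simp]

variable {Q : Type v} [Group Q] [Finite Q]

section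

variable (hS : IsPGroup p S) (hC : centralizerIn S P ≤ P) (r : F.autGroup P →* MulAut Q)
  (hker : ∀ g, r g = 1 → (g : MulAut P) ∈ Inn P)

include hC hker

/-- Elements of `N_S(P)` with the same image differ by an element of `P`. -/
theorem mem_of_map_eq (hP : P ≤ S) {x y : ↥(normalizerIn S P)}
    (h : r (cj F hP x) = r (cj F hP y)) : (x : Ω) * (y : Ω)⁻¹ ∈ P := by
  obtain ⟨q, hq⟩ := hker (cj F hP (x * y⁻¹)) (by rw [map_mul, map_inv, map_mul, map_inv, h, mul_inv_cancel])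
  have hc : (q : Ω)⁻¹ * ((x : Ω) * (y : Ω)⁻¹) ∈ centralizerIn S P := by
    refine mem_centralizerIn.2 ⟨S.mul_mem (S.inv_mem (hP q.2)) (S.mul_mem x.2.1 (S.inv_mem y.2.1)),
      fun a ha => ?_⟩
    have h1 := congrArg (fun f : MulAut P => ((f ⟨a, ha⟩ : P) : Ω)) hq
    change (q : Ω) * a * (q : Ω)⁻¹ = (x : Ω) * (y : Ω)⁻¹ * a * ((x : Ω) * (y : Ω)⁻¹)⁻¹ at h1
    have h2 : a = (q : Ω)⁻¹ * ((q : Ω) * a * (q : Ω)⁻¹) * q := by group
    rw [h1] at h2
    nth_rewrite 1 [h2]
    group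
  have := P.mul_mem q.2 (hC hc)
  rwa [mul_inv_cancel_left] at this

include hS

/-- An automorphism permuting the images of the elements of `N_S(P)` extends to `N_S(P)`. -/
theorem exists_ext (hF : F.IsSaturated p) (hPn : F.IsFullyNormalized P) (t : F.autGroup P)
    (ht : ∀ x, ∃ y, r t * r (cj F hPn.1 x) * (r t)⁻¹ = r (cj F hPn.1 y)) :
    ∃ β, IsMap F (normalizerIn S P) β ∧ (∀ a : P, β a = ((t : MulAut P) a : P)) ∧
      (∀ x ∈ normalizerIn S P, β x ∈ normalizerIn S P) ∧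
      ∀ x y : ↥(normalizerIn S P), r t * r (cj F hPn.1 x) * (r t)⁻¹ = r (cj F hPn.1 y) →
        β x * (y : Ω)⁻¹ ∈ P := by
  have key : ∀ x y, r t * r (cj F hPn.1 x) * (r t)⁻¹ = r (cj F hPn.1 y) →
      ∃ q : P, ∀ a : P, (((t : MulAut P) ⟨(x : Ω) * a * (x : Ω)⁻¹,
        (Subgroup.mem_normalizer_iff.1 x.2.2 _).1 a.2⟩ : P) : Ω) =
          (q * y : Ω) * ((t : MulAut P) a : P) * (q * y : Ω)⁻¹ := by
    intro x y h
    obtain ⟨q, hq⟩ := hker (t * cj F hPn.1 x * t⁻¹ * (cj F hPn.1 y)⁻¹)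
      (by rw [map_mul, map_mul, map_mul, map_inv, map_inv, h, mul_inv_cancel])
    refine ⟨q, fun a => ?_⟩
    have h1 := congrArg
      (fun f : MulAut P => ((f ((cj F hPn.1 y : F.autGroup P).1 ((t : MulAut P) a)) : P) : Ω)) hq
    simp only [Subgroup.coe_mul, Subgroup.coe_inv, MulAut.mul_apply, MulAut.inv_apply_self] at h1
    change (q : Ω) * ((y : Ω) * ((t : MulAut P) a : P) * (y : Ω)⁻¹) * (q : Ω)⁻¹ = _ at h1
    refine h1.symm.trans ?_
    group
  obtain ⟨β, hβ, hβP⟩ := receptive_extend (receptive_of_fullyNormalized hS hF hPn)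
    ((mem_autGroup hPn.1).1 t.2) (fimg_autFun _) (N := normalizerIn S P) (fun x hx => by
      obtain ⟨y, hy⟩ := ht ⟨x, hx⟩
      obtain ⟨q, hq⟩ := key _ _ hy
      refine ⟨hx, (q : Ω) * y, S.mul_mem (hPn.1 q.2) y.2.1, fun a ha => ?_⟩
      rw [show a = ((⟨a, ha⟩ : P) : Ω) from rfl, autFun_coe,
        show x * a * x⁻¹ = ((⟨x * a * x⁻¹, (Subgroup.mem_normalizer_iff.1 hx.2 _).1 ha⟩ : P) : Ω)
          from rfl, autFun_coe]
      exact hq ⟨a, ha⟩) (le_normalizerIn hPn.1)
  have hβt : ∀ a : P, β a = ((t : MulAut P) a : P) := fun a => by rw [hβP _ a.2, autFun_coe]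
  have hfimg : fimg β P = P := (fimg_congr hβP).trans (fimg_autFun _)
  refine ⟨β, hβ, hβt, fun x hx => hfimg ▸ hβ.map_normalizerIn (le_normalizerIn hPn.1) hx hx.2,
    fun x y h => ?_⟩
  obtain ⟨q, hq⟩ := key x y h
  have hm : ((q : Ω) * y)⁻¹ * β x ∈ centralizerIn S P := by
    refine mem_centralizerIn.2 ⟨S.mul_mem (S.inv_mem (S.mul_mem (hPn.1 q.2) y.2.1))
      (hβ.apply_mem x.2), fun b hb => ?_⟩
    obtain ⟨a, ha⟩ := (t : MulAut P).surjective ⟨b, hb⟩
    have h1 := hq a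
    rw [← hβt, hβ.map_conj x.2 (le_normalizerIn hPn.1 a.2), hβt, ha] at h1
    have h2 : b = (β x)⁻¹ * (β x * b * (β x)⁻¹) * β x := by group
    rw [h1] at h2
    nth_rewrite 2 [h2]
    group
  have hmP := P.mul_mem q.2 ((Subgroup.mem_normalizer_iff.1 y.2.2 _).1 (hC hm))
  rwa [show (q : Ω) * ((y : Ω) * (((q : Ω) * y)⁻¹ * β x) * (y : Ω)⁻¹) = β x * (y : Ω)⁻¹ by group]
    at hmP

variable (hcard : Nat.card Q = p ^ 2)

include hcard

/-- If some element of `N_S(P)` acts nontrivially, its image generates that of `N_S(P)`. -/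
theorem exists_pow_eq (hP : P ≤ S) {u : ↥(normalizerIn S P)}
    (hu : r (cj F hP u) ≠ 1) : r (cj F hP u) ^ p = 1 ∧
      ∀ x, ∃ i : ℕ, r (cj F hP x) = r (cj F hP u) ^ i := by
  haveI := finite_of_le hP
  haveI : Finite (MulAut Q) := Finite.of_injective (fun e : MulAut Q => (e : Q → Q)) DFunLike.coe_injective
  set A := (r.comp (cj F hP)).range with hA
  have hNp : IsPGroup p ↥(normalizerIn S P) := hS.to_le inf_le_left
  have hAp : IsPGroup p A := by
    rw [hA, MonoidHom.range_eq_map]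
    exact (hNp.to_subgroup _).map _
  have hle := card_le_of_pgroup_aut hcard hAp
  obtain ⟨i, hi⟩ := IsPGroup.iff_card.1 hAp
  have hmem : r (cj F hP u) ∈ A := ⟨u, rfl⟩
  have hz : Subgroup.zpowers (r (cj F hP u)) = A := by
    refine Subgroup.eq_of_le_of_card_ge (Subgroup.zpowers_le.2 hmem) (hle.trans ?_)
    rw [Nat.card_zpowers]
    obtain ⟨j, hj⟩ := hAp ⟨_, hmem⟩
    obtain ⟨l, -, hl⟩ := (Nat.dvd_prime_pow hp.out).1
      (orderOf_dvd_of_pow_eq_one (congrArg Subtype.val hj))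
    rw [hl]
    refine Nat.le_self_pow (fun e => hu ?_) p
    rw [e, pow_zero, orderOf_eq_one_iff] at hl
    exact hl
  have hpow : r (cj F hP u) ^ p = 1 := by
    have h1 : Nat.card A = p := by
      refine le_antisymm hle ?_
      rw [hi]
      refine Nat.le_self_pow (fun e => hu ?_) p
      rw [e, pow_zero, Subgroup.card_eq_one] at hi
      exact Subgroup.mem_bot.1 (hi ▸ hmem)
    have h2 := congrArg Subtype.val (pow_card_eq_one' (x := (⟨_, hmem⟩ : A)))
    rwa [h1] at h2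
  refine ⟨hpow, fun x => ?_⟩
  have hx : r (cj F hP x) ∈ Subgroup.zpowers (r (cj F hP u)) := hz.ge ⟨x, rfl⟩
  obtain ⟨i, hi⟩ := (mem_powers_iff_mem_zpowers (x := r (cj F hP u))).2 hx
  exact ⟨i, hi.symm⟩

/-- For an essential subgroup some element of `N_S(P)` has an image that is not normal, and the
inner automorphisms act trivially. -/
theorem exists_nonnormal (hF : F.IsSaturated p) (hE : F.IsEssential p P) :
    ∃ u : ↥(normalizerIn S P), (u : Ω) ∉ P ∧ r (cj F hE.2.1.1 u) ≠ 1 ∧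
      (∃ g, r g * r (cj F hE.2.1.1 u) * (r g)⁻¹ ∉ Subgroup.zpowers (r (cj F hE.2.1.1 u))) ∧
      ∀ x : ↥(normalizerIn S P), (x : Ω) ∈ P → r (cj F hE.2.1.1 x) = 1 := by
  have hP : P ≤ S := hE.2.1.1
  haveI := finite_of_le hP
  haveI : Finite (MulAut Q) := Finite.of_injective (fun e : MulAut Q => (e : Q → Q)) DFunLike.coe_injective
  obtain ⟨-, R, hR⟩ := fullyAutomized_of_fullyNormalized hS hF hE.2.1
  have hkerp : IsPGroup p r.ker := by
    refine IsPGroup.of_injective (isPGroup_inn (hS.to_le hP))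
      (((F.autGroup P).subtype.comp r.ker.subtype).codRestrict (Inn P) fun g => hker g g.2) ?_
    intro a b h
    exact Subtype.ext (Subtype.ext (congrArg (fun z : Inn P => (z : MulAut P)) h))
  -- every p-element is conjugate into the automizer of `S`
  have hconj : ∀ (g : F.autGroup P) (k : ℕ), g ^ p ^ k = 1 →
      ∃ c x, cj F hP x = c * g * c⁻¹ := by
    intro g k hg
    have hz : IsPGroup p (Subgroup.zpowers g) := fun y => by
      obtain ⟨i, hi⟩ := Subgroup.mem_zpowers_iff.1 y.2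
      exact ⟨k, Subtype.ext (by
        rw [SubmonoidClass.coe_pow, ← hi, ← zpow_natCast (g ^ i), zpow_comm, zpow_natCast, hg, one_zpow]
        rfl)⟩
    obtain ⟨T, hT⟩ := hz.exists_le_sylow
    obtain ⟨c, hc⟩ := MulAction.exists_smul_eq (F.autGroup P) T R
    have hmem : c * g * c⁻¹ ∈ (R : Subgroup (F.autGroup P)) := by
      rw [← hc]
      exact ⟨g, hT (Subgroup.mem_zpowers g), rfl⟩
    rw [hR, Subgroup.mem_subgroupOf] at hmem
    exact ⟨c, exists_cj hP hmem⟩
  have hnon : ∀ a : MulAut Q, (∀ g, r g * a * (r g)⁻¹ ∈ Subgroup.zpowers a) →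
      (∀ x, r (cj F hP x) ∈ Subgroup.zpowers a) → (∃ k : ℕ, a ^ p ^ k = 1) → False := by
    rintro a hn hall ⟨k, hk⟩
    set K := (Subgroup.zpowers a).comap r with hK
    have hKn : K.Normal := ⟨fun x hx g => by
      rw [hK, Subgroup.mem_comap] at hx ⊢
      obtain ⟨i, hi⟩ := hx
      rw [map_mul, map_mul, map_inv, ← hi]
      show r g * a ^ i * (r g)⁻¹ ∈ Subgroup.zpowers a
      rw [← conj_zpow]
      exact Subgroup.zpow_mem _ (hn g) i⟩
    refine not_essential_of_normal_pgroup hS hE K hKn ?_ fun g j hg => ?_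
    · refine IsPGroup.comap_of_ker_isPGroup (fun y => ⟨k, Subtype.ext ?_⟩) r hkerp
      obtain ⟨i, hi⟩ := Subgroup.mem_zpowers_iff.1 y.2
      rw [SubmonoidClass.coe_pow, ← hi, ← zpow_natCast (a ^ i), zpow_comm, zpow_natCast, hk, one_zpow]
      rfl
    · obtain ⟨c, x, hx⟩ := hconj g j hg
      have h1 : c * g * c⁻¹ ∈ K := by rw [← hx]; exact hall x
      have h2 := hKn.conj_mem _ h1 c⁻¹
      rwa [show c⁻¹ * (c * g * c⁻¹) * c⁻¹⁻¹ = g by group] at h2
  obtain ⟨u, hu⟩ : ∃ u, r (cj F hP u) ≠ 1 := by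
    by_contra h
    push Not at h
    exact hnon 1 (fun g => by simp) (fun x => by rw [h x]; exact Subgroup.one_mem _) ⟨0, one_pow _⟩
  obtain ⟨hup, hgen⟩ := exists_pow_eq hS hC r hker hcard hP hu
  set a := r (cj F hP u) with ha
  obtain ⟨g, hg⟩ : ∃ g, r g * a * (r g)⁻¹ ∉ Subgroup.zpowers a := by
    by_contra h
    push Not at h
    exact hnon a h (fun x => by obtain ⟨i, hi⟩ := hgen x; exact hi ▸ Subgroup.pow_mem _ (Subgroup.mem_zpowers a) i)
      ⟨1, by rw [pow_one, hup]⟩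
  have hinn : ∀ x : ↥(normalizerIn S P), (x : Ω) ∈ P → r (cj F hP x) = 1 := by
    intro x hx
    by_contra hb
    set q : P := (g : MulAut P) ⟨x, hx⟩
    let y : ↥(normalizerIn S P) := ⟨q, le_normalizerIn hP q.2⟩
    have hy : g * cj F hP x * g⁻¹ = cj F hP y := by
      refine Subtype.ext (MulEquiv.ext fun b => Subtype.ext ?_)
      rw [cj_apply]
      show (((g : MulAut P) (((cj F hP x : F.autGroup P) : MulAut P) (((g : MulAut P))⁻¹ b))) : Ω) =
        (q : Ω) * (b : Ω) * (q : Ω)⁻¹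
      obtain ⟨b, rfl⟩ := (g : MulAut P).surjective b
      rw [MulAut.inv_apply_self, show ((cj F hP x : F.autGroup P) : MulAut P) b =
        ⟨x, hx⟩ * b * ⟨x, hx⟩⁻¹ from rfl, map_mul, map_mul, map_inv]
      rfl
    obtain ⟨i, hi⟩ := hgen x
    obtain ⟨j, hj⟩ := hgen y
    refine hg ?_
    have h1 : r g * a ^ i * (r g)⁻¹ = a ^ j := by
      rw [← hi, ← hj, ← map_inv, ← map_mul, ← map_mul, hy]
    rw [← conj_pow] at h1
    have hia : ¬ p ∣ i := fun ⟨l, hl⟩ => hb (by rw [hi, hl, pow_mul, hup, one_pow])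
    obtain ⟨l, hl⟩ : ∃ l : ℕ, ((r g * a * (r g)⁻¹) ^ i) ^ l = r g * a * (r g)⁻¹ :=
      exists_pow_eq_self_of_coprime (by
        refine Nat.Coprime.coprime_dvd_right (orderOf_dvd_of_pow_eq_one (n := p) ?_)
          ((hp.out.coprime_iff_not_dvd.2 hia).symm)
        rw [conj_pow, hup, mul_one, mul_inv_cancel])
    rw [← hl, h1]
    exact Subgroup.pow_mem _ (Subgroup.pow_mem _ (Subgroup.mem_zpowers a) j) l
  exact ⟨u, fun h => hu (hinn u h), hu, ⟨g, hg⟩, hinn⟩

variable (hab : ∀ x y : Q, x * y = y * x) (hexp : ∀ x : Q, x ^ p = 1)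

include hab hexp

/-- The torus of an automizer containing `SL(2, p)` extends to the normalizer. -/
theorem exists_torus (hF : F.IsSaturated p) (hPn : F.IsFullyNormalized P)
    {u : ↥(normalizerIn S P)} (hu : r (cj F hPn.1 u) ≠ 1)
    (hg : ∃ g, r g * r (cj F hPn.1 u) * (r g)⁻¹ ∉ Subgroup.zpowers (r (cj F hPn.1 u))) :
    ∃ (e : Multiplicative (Fin 2 → ZMod p) ≃* Q) (s : ZMod p), s ≠ 0 ∧
      r (cj F hPn.1 u) = act e (up s) ∧
      ∀ (c d : ZMod p) (h : c * d = 1), ∃ (t : F.autGroup P) (β : Ω → Ω),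
        (orderOf t).Coprime p ∧ r t = act e (dg c d h) ∧ IsMap F (normalizerIn S P) β ∧
        (∀ a : P, β a = ((t : MulAut P) a : P)) ∧
        (∀ x ∈ normalizerIn S P, β x ∈ normalizerIn S P) ∧
        β u * ((u : Ω) ^ (c * c).val)⁻¹ ∈ P := by
  have hP := hPn.1
  haveI := finite_of_le hP
  haveI : Finite (MulAut P) := Finite.of_injective (fun e : MulAut P => (e : P → P)) DFunLike.coe_injective
  obtain ⟨hup, hgen⟩ := exists_pow_eq hS hC r hker hcard hP hu
  obtain ⟨g, hg⟩ := hg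
  obtain ⟨e, s, hs, hau, hle⟩ := exists_sl2_coords hab hexp hcard r.range
    (a := r (cj F hP u)) (g := r g) ⟨_, rfl⟩ ⟨_, rfl⟩ hup hg
  refine ⟨e, s, hs, hau, fun c d h => ?_⟩
  obtain ⟨t₀, ht₀⟩ := hle (dg c d h)
  set k := (orderOf t₀).factorization p
  set t := t₀ ^ p ^ k with htdef
  have ht : r t = act e (dg c d h) := by
    rw [htdef, map_pow, ht₀, ← map_pow, dg_pow_prime_pow]
  have htp : (orderOf t).Coprime p := by
    rw [htdef, orderOf_pow_of_dvd (pow_ne_zero _ hp.out.ne_zero) (Nat.ordProj_dvd _ _)]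
    exact (Nat.coprime_ordCompl hp.out (orderOf_pos t₀).ne').symm
  have hconj : r t * r (cj F hP u) * (r t)⁻¹ = r (cj F hP u) ^ (c * c).val := by
    rw [ht, hau, ← map_pow, ← map_inv, ← map_mul, ← map_mul, up_pow, ZMod.natCast_zmod_val,
      dg_mul_up, mul_inv_cancel_right]
  obtain ⟨β, hβ, hβt, hβN, hβe⟩ := exists_ext hS hC r hker hF hPn t (fun x => by
    obtain ⟨i, hi⟩ := hgen x
    refine ⟨u ^ ((c * c).val * i), ?_⟩
    rw [hi, ← conj_pow, hconj, ← pow_mul, map_pow, map_pow])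
  refine ⟨t, β, htp, ht, hβ, hβt, hβN, ?_⟩
  have := hβe u (u ^ (c * c).val) (by rw [hconj, map_pow, map_pow])
  rwa [SubmonoidClass.coe_pow] at this

end

end Cfsg.Agent.Fus.TorusExt
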