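import Mathlib
import Cfsg.Agent.Lib.Fus.TorusExt
import Cfsg.Agent.Lib.Fus.EssentialCube
import Cfsg.Agent.Lib.Grp.ExponentClosed

/-!
A group of order `p³`, `p` odd, with an essential subgroup `C_p × C_p` is extraspecial of
exponent `p`.
-/

set_option autoImplicit false
set_option linter.unusedSectionVars false
set_option linter.style.haveILetI false

universe u

namespace Cfsg.Agent.Fus

open Cfsg FusionSystem RankTwoAut TorusExt Invol.CubicStable
open scoped commutatorElement

theorem extraspecial_of_cube {G : Type u} [Group G] [Finite G] {p : ℕ} [hp : Fact p.Prime]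
    (hcard : Nat.card G = p ^ 3) (hna : ¬ IsMulCommutative G) : Cfsg.IsExtraspecial p G := by
  have hG : IsPGroup p G := IsPGroup.of_card hcard
  obtain ⟨hZc, hcomm, hpow⟩ := MaxClass.cube_center hcard hna
  have hcZ : commutator G ≤ Subgroup.center G := Subgroup.commutator_le.2 fun a _ b _ => hcomm a b
  have hΦZ : frattini G ≤ Subgroup.center G := Grp.frattini_le_of_elementary hp.out hcZ hpow
  have hcne : commutator G ≠ ⊥ := fun e => hna ⟨⟨fun a b => by
    have h : ⁅a, b⁆ ∈ commutator G :=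
      Subgroup.commutator_mem_commutator (Subgroup.mem_top a) (Subgroup.mem_top b)
    rw [e, Subgroup.mem_bot] at h
    exact commutatorElement_eq_one_iff_mul_comm.1 h⟩⟩
  have hCZ : commutator G = Subgroup.center G := by
    refine Subgroup.eq_of_le_of_card_ge hcZ ?_
    rw [hZc]
    obtain ⟨i, hi⟩ := IsPGroup.iff_card.1 (hG.to_subgroup (commutator G))
    rw [hi]
    refine Nat.le_self_pow (fun e => hcne ?_) p
    rw [e, pow_zero] at hi
    exact Subgroup.card_eq_one.1 hi
  exact ⟨⟨hG, le_antisymm hΦZ (hCZ ▸ Grp.pGroup_commutator_le_frattini hG), hCZ⟩, hZc⟩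

variable {Ω : Type u} [Group Ω] {S : Subgroup Ω} [Finite S] {p : ℕ} [hp : Fact p.Prime]
  {F : FusionSystem S}

/-- An essential `C_p × C_p` is proper, and in a group of order `p³` forces exponent `p`. -/
theorem pearl_sq_proper (hS : IsPGroup p S) (hF : F.IsSaturated p) (hodd : p ≠ 2) {E : Subgroup Ω}
    (hE : F.IsEssential p E) (hcard : Nat.card E = p ^ 2) :
    E ≠ S ∧ (Nat.card S = p ^ 3 → Cfsg.IsExtraspecial p S ∧ Monoid.exponent S = p) := by
  classical
  obtain ⟨hel, -⟩ := essential_card_sq hS hE hcard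
  have hES : E ≤ S := hE.2.1.1
  haveI := finite_of_le hES
  have hCE : centralizerIn S E ≤ E := hE.1.2 E (isConj_refl F hES)
  set r := (F.autGroup E).subtype
  have hker : ∀ g, r g = 1 → (g : MulAut E) ∈ Inn E := fun g hg => by
    rw [show (g : MulAut E) = 1 from hg]; exact one_mem _
  have hab : ∀ x y : E, x * y = y * x := fun x y => hel.1.is_comm.comm x y
  have hexpE : ∀ x : E, x ^ p = 1 := fun x => Subtype.ext (hel.2 x x.2)
  obtain ⟨u, huE, hu1, hg, -⟩ := exists_nonnormal hS hCE r hker hcard hF hE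
  refine ⟨fun h => huE (h ▸ u.2.1), fun h3 => ?_⟩
  have hna : ¬ IsMulCommutative S := fun h => huE (hCE (mem_centralizerIn.2 ⟨u.2.1, fun a ha =>
    congrArg Subtype.val (h.is_comm.comm (⟨a, hES ha⟩ : S) ⟨u, u.2.1⟩)⟩))
  obtain ⟨e, s, -, -, htor⟩ := exists_torus hS hCE r hker hcard hab hexpE hF hE.2.1 hu1 hg
  obtain ⟨t, β, -, ht, hβ, hβt, hβN, hβu⟩ := htor (-1) (-1) (by ring)
  have hinv : ∀ a : E, β a = (a : Ω)⁻¹ := by
    intro a
    rw [hβt, ← Subgroup.coe_inv]
    have h : (t : MulAut E) a = a⁻¹ := by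
      have ht' : (t : MulAut E) = act e _ := ht
      rw [ht']
      have h := lin_act e (dg (-1 : ZMod p) (-1) (by ring)) (Multiplicative.toAdd (e.symm a))
      rw [lin_apply, ofAdd_toAdd, MulEquiv.apply_symm_apply] at h
      apply e.symm.injective
      apply Multiplicative.toAdd.injective
      rw [h, map_inv, toAdd_inv]
      funext i
      fin_cases i <;> simp [dg, Matrix.mulVec, dotProduct, Fin.sum_univ_two]
    exact congrArg Subtype.val h
  haveI : Fact (1 < p) := ⟨hp.out.one_lt⟩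
  rw [show (-1 : ZMod p) * -1 = 1 by ring, ZMod.val_one, pow_one] at hβu
  -- a fixed element of the coset
  obtain ⟨f, hf⟩ : ∃ f : E, (f : Ω) * f = β u * (u : Ω)⁻¹ := by
    obtain ⟨k, hk⟩ := hp.out.odd_of_ne_two hodd
    refine ⟨(⟨β u * (u : Ω)⁻¹, hβu⟩ : E) ^ (k + 1), ?_⟩
    have h := hexpE (⟨β u * (u : Ω)⁻¹, hβu⟩ : E)
    rw [hk] at h
    calc ((⟨β u * (u : Ω)⁻¹, hβu⟩ : E) ^ (k + 1) : E).1 * ((⟨β u * (u : Ω)⁻¹, hβu⟩ : E) ^ (k + 1) : E).1
        = ((⟨β u * (u : Ω)⁻¹, hβu⟩ : E) ^ ((2 * k + 1) + 1) : E).1 := by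
          rw [← Subgroup.coe_mul, ← pow_add]
          congr 2
          omega
      _ = β u * (u : Ω)⁻¹ := by rw [pow_succ, h, one_mul]
  have hER : E ≤ normalizerIn S E := le_normalizerIn hES
  set u' : Ω := (f : Ω) * u with hu'
  have hu'R : u' ∈ normalizerIn S E := mul_mem (hER f.2) u.2
  have hfix : β u' = u' := by
    rw [hu', hβ.map_mul (hER f.2) u.2, hinv,
      show β u = (f : Ω) * f * u by rw [hf, inv_mul_cancel_right]]
    group
  have hpowβ : ∀ m : ℕ, β (u' ^ m) = u' ^ m := by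
    intro m
    induction m with
    | zero => rw [pow_zero, hβ.map_one]
    | succ m ih => rw [pow_succ, hβ.map_mul (pow_mem hu'R m) hu'R, ih, hfix]
  have hu'p : u' ^ p = 1 := by
    have hmem : u' ^ p ∈ E := by
      have h := mem_of_map_eq hCE r hker hES (x := (⟨u', hu'R⟩ : ↥(normalizerIn S E)) ^ p) (y := 1) (by
        rw [map_one, map_pow, map_pow, map_one]
        by_cases hu2 : r (cj F hES ⟨u', hu'R⟩) = 1
        · rw [hu2, one_pow]
        · exact (TorusExt.exists_pow_eq hS hCE r hker hcard hES hu2).1)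
      simpa using h
    have h1 := hinv ⟨_, hmem⟩
    rw [hpowβ] at h1
    have h2 : (u' ^ p) ^ 2 = 1 := by rw [sq]; exact mul_eq_one_iff_eq_inv.2 h1
    have h4 : (u' ^ p) ^ p = 1 := hel.2 _ hmem
    have hcop : Nat.gcd 2 p = 1 := (Nat.coprime_primes Nat.prime_two hp.out).2 (Ne.symm hodd)
    have h5 := pow_gcd_eq_one.2 ⟨h2, h4⟩
    simpa [hcop] using h5
  have hu'E : u' ∉ E := fun h => huE (by
    have := mul_mem (inv_mem f.2) h
    simpa [hu'] using this)
  have hcls : (⊤ : Subgroup S).lowerCentralSeries (p - 1) = ⊥ := by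
    rw [eq_bot_iff]
    refine (Subgroup.lowerCentralSeries_antitone _ (show 2 ≤ p - 1 by
      have := hp.out.two_le; omega)).trans ?_
    rw [Subgroup.lowerCentralSeries_succ, Subgroup.top_lowerCentralSeries_one,
      Subgroup.commutator_le]
    intro a ha b _
    obtain ⟨-, hcomm, -⟩ := MaxClass.cube_center h3 hna
    rw [Subgroup.mem_bot, commutatorElement_eq_one_iff_mul_comm]
    have ha' : a ∈ Subgroup.center S :=
      (Subgroup.commutator_le.2 fun c _ d _ => hcomm c d : commutator S ≤ Subgroup.center S) ha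
    exact (Subgroup.mem_center_iff.1 ha' b).symm
  set Om := Transfer.Regular.omegaSub (Grp.isRegularPGroup_of_class_lt hS hcls) 1
  have hOm : Om = ⊤ := by
    have hEO : E.subgroupOf S ≤ Om := fun v hv => by
      show v ^ p ^ 1 = 1
      rw [pow_one]
      exact Subtype.ext (hel.2 _ (Subgroup.mem_subgroupOf.1 hv))
    have huO : (⟨u', hu'R.1⟩ : S) ∈ Om := by
      show (⟨u', hu'R.1⟩ : S) ^ p ^ 1 = 1
      rw [pow_one]
      exact Subtype.ext hu'p
    obtain ⟨i, hi, he⟩ := (Nat.dvd_prime_pow hp.out).1 (h3 ▸ Om.card_subgroup_dvd_card)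
    have hlt : Nat.card (E.subgroupOf S) < Nat.card Om := by
      refine lt_of_le_of_ne (Subgroup.card_le_of_le hEO) fun eq => hu'E ?_
      exact Subgroup.mem_subgroupOf.1 ((Subgroup.eq_of_le_of_card_ge hEO eq.ge).symm ▸ huO)
    rw [Nat.card_congr (Subgroup.subgroupOfEquivOfLe hES).toEquiv, hcard, he] at hlt
    have := (Nat.pow_lt_pow_iff_right hp.out.one_lt).1 hlt
    exact Subgroup.eq_top_of_card_eq _ (by rw [he, h3, show i = 3 by omega])
  have hexp : ∀ v : S, v ^ p = 1 := fun v => by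
    have h : v ∈ Om := hOm ▸ Subgroup.mem_top v
    have h' : v ^ p ^ 1 = 1 := h
    rwa [pow_one] at h'
  refine ⟨extraspecial_of_cube h3 hna, ?_⟩
  haveI : Nontrivial S := Finite.one_lt_card_iff_nontrivial.1 (by
    rw [h3]; exact Nat.one_lt_pow (by omega) hp.out.one_lt)
  rcases (Nat.dvd_prime hp.out).1 (Monoid.exponent_dvd_of_forall_pow_eq_one hexp) with h | h
  · obtain ⟨v, hv⟩ := exists_ne (1 : S)
    exact absurd (by simpa [h] using Monoid.pow_exponent_eq_one v) hv
  · exact h

end Cfsg.Agent.Fus
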