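import Mathlib
import Cfsg.Agent.Lib.Fus.EssentialRankTwo
import Cfsg.Agent.Lib.Fus.EssentialCube
import Cfsg.Agent.Lib.Fus.PearlCube
import Cfsg.Agent.Lib.Fus.CenterIndexSqBasic
import Cfsg.Agent.Lib.Recog.MaxClassFacts

/-!
Essential subgroups of order `p ^ 4`.
-/

set_option autoImplicit false
set_option linter.unusedSectionVars false
set_option linter.style.haveILetI false

universe u

namespace Cfsg.Agent.Fus.EssFour

open Subgroup
open scoped commutatorElement

section Groups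

variable {H : Type u} [Group H] [Finite H] {p : ℕ} [hp : Fact p.Prime]

/-- Adjoining an element whose `p`-th power lies in a normal subgroup multiplies the order by `p`. -/
theorem card_step {A : Subgroup H} [A.Normal] {b : H} (hb : b ∉ A) (hbp : b ^ p ∈ A) :
    Nat.card ↥(A ⊔ zpowers b) = p * Nat.card A := by
  have h1 : Nat.card ↥((A ⊔ zpowers b).map (QuotientGroup.mk' A)) = p := by
    rw [Subgroup.map_sup, QuotientGroup.map_mk'_self, bot_sup_eq, MonoidHom.map_zpowers,
      Nat.card_zpowers]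
    refine orderOf_eq_prime ?_ fun e => hb ((QuotientGroup.eq_one_iff b).1 e)
    rw [← map_pow]
    exact (QuotientGroup.eq_one_iff _).2 hbp
  have h2 := (A.subgroupOf (A ⊔ zpowers b)).index_mul_card
  rw [Nat.card_congr (Subgroup.subgroupOfEquivOfLe (le_sup_left : A ≤ A ⊔ zpowers b)).toEquiv] at h2
  have h3 : A.relIndex (A ⊔ zpowers b) = p := by
    rw [← QuotientGroup.ker_mk' A, Subgroup.relIndex_ker, QuotientGroup.ker_mk']
    exact h1
  rw [← h2, show (A.subgroupOf (A ⊔ zpowers b)).index = p from h3]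

/-- A hom to a direct product that is onto and between groups of the same order. -/
theorem nonempty_equiv {K : Type*} [Group K] [Finite K] (ψ : K →* H) (hs : Function.Surjective ψ)
    (hc : Nat.card K = Nat.card H) : Nonempty (H ≃* K) :=
  ⟨(MulEquiv.ofBijective ψ ((Nat.bijective_iff_surjective_and_card ψ).2 ⟨hs, hc⟩)).symm⟩

omit [Finite H] in
theorem mem_top_sup {A : Subgroup H} [A.Normal] {b : H} (h : A ⊔ zpowers b = ⊤) (y : H) :
    ∃ x ∈ A, ∃ i : ℤ, x * b ^ i = y := by
  obtain ⟨x, hx, w, ⟨i, rfl⟩, e⟩ := Subgroup.mem_sup_of_normal_left.1 (h.ge (mem_top y))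
  exact ⟨x, hx, i, e⟩

/-- An abelian group of order `p ^ 4` whose Frattini subgroup has order `p`. -/
theorem abelian_rank_three (hcard : Nat.card H = p ^ 4) (hc : ∀ x y : H, x * y = y * x)
    (hΦ : Nat.card (frattini H) = p) :
    Nonempty (H ≃* Multiplicative (ZMod (p ^ 2) × ZMod p × ZMod p)) := by
  have hpp : p.Prime := hp.out
  have hHp : IsPGroup p H := IsPGroup.of_card hcard
  letI : CommGroup H := { (inferInstance : Group H) with mul_comm := hc }
  have hpowΦ : ∀ y : H, y ^ p ∈ frattini H := Grp.pGroup_pow_mem_frattini hHp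
  have hΦp : ∀ y ∈ frattini H, y ^ p = 1 := fun y hy => by
    have := pow_card_mem hy
    rwa [hΦ] at this
  obtain ⟨a, ha⟩ : ∃ a : H, a ^ p ≠ 1 := by
    by_contra h
    push Not at h
    have h0 := Grp.frattini_eq_bot_of_exponent hpp hc h
    rw [h0, Subgroup.card_bot] at hΦ
    exact hpp.one_lt.ne hΦ
  obtain ⟨K, hK⟩ : ∃ K : Subgroup H, K = (powMonoidHom p : H →* H).ker := ⟨_, rfl⟩
  have hmemK : ∀ y, y ∈ K ↔ y ^ p = 1 := fun y => by rw [hK]; exact Iff.rfl
  have hrange : (powMonoidHom p : H →* H).range = frattini H := by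
    refine Subgroup.eq_of_le_of_card_ge (by rintro _ ⟨y, rfl⟩; exact hpowΦ y) ?_
    rw [hΦ]
    refine Nat.le_of_dvd Nat.card_pos ?_
    have h := (powMonoidHom p : H →* H).range.orderOf_dvd_natCard
      (x := a ^ p) ⟨a, rfl⟩
    rwa [orderOf_eq_prime (hΦp _ (hpowΦ a)) ha] at h
  have hKcard : Nat.card K = p ^ 3 := by
    have h := K.index_mul_card
    rw [hK, Subgroup.index_ker, hrange, hΦ, hcard, pow_succ' p 3] at h
    rw [hK]
    exact Nat.eq_of_mul_eq_mul_left hpp.pos h
  have hcc : Nat.card (zpowers (a ^ p)) = p := by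
    rw [Nat.card_zpowers]
    exact orderOf_eq_prime (hΦp _ (hpowΦ a)) ha
  have hcK : zpowers (a ^ p) ≤ K := Subgroup.zpowers_le.2 ((hmemK _).2 (hΦp _ (hpowΦ a)))
  haveI : (zpowers (a ^ p)).Normal := Subgroup.normal_of_comm _
  obtain ⟨b, hbK, hb⟩ : ∃ b ∈ K, b ∉ zpowers (a ^ p) := by
    by_contra h
    push Not at h
    have := Subgroup.card_le_of_le (show K ≤ zpowers (a ^ p) from h)
    rw [hKcard, hcc] at this
    have h13 : p ^ 1 < p ^ 3 := Nat.pow_lt_pow_right hpp.one_lt (by norm_num)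
    rw [pow_one] at h13
    omega
  have hbp : b ^ p = 1 := (hmemK b).1 hbK
  have hA := card_step (p := p) hb (by rw [hbp]; exact one_mem _)
  rw [hcc] at hA
  haveI : (zpowers (a ^ p) ⊔ zpowers b).Normal := Subgroup.normal_of_comm _
  obtain ⟨d, hdK, hd⟩ : ∃ d ∈ K, d ∉ zpowers (a ^ p) ⊔ zpowers b := by
    by_contra h
    push Not at h
    have := Subgroup.card_le_of_le (show K ≤ zpowers (a ^ p) ⊔ zpowers b from h)
    rw [hKcard, hA, ← sq] at this
    have h23 : p ^ 2 < p ^ 3 := Nat.pow_lt_pow_right hpp.one_lt (by norm_num)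
    omega
  have hdp : d ^ p = 1 := (hmemK d).1 hdK
  have hB := card_step (p := p) hd (by rw [hdp]; exact one_mem _)
  rw [hA] at hB
  have hKeq : zpowers (a ^ p) ⊔ zpowers b ⊔ zpowers d = K := by
    refine Subgroup.eq_of_le_of_card_ge (sup_le (sup_le hcK (Subgroup.zpowers_le.2 hbK))
      (Subgroup.zpowers_le.2 hdK)) ?_
    rw [hKcard, hB, pow_succ' p 2, sq]
  haveI : K.Normal := Subgroup.normal_of_comm _
  have hC := card_step (p := p) (A := K) (b := a) (fun h => ha ((hmemK a).1 h))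
    ((hmemK _).2 (hΦp _ (hpowΦ a)))
  rw [hKcard, ← pow_succ'] at hC
  have htop : K ⊔ zpowers a = ⊤ := Subgroup.eq_top_of_card_eq _ (by rw [hC, hcard])
  let z1 : ZMod (p ^ 2) →+ Additive H := ZMod.lift (p ^ 2)
    ⟨zmultiplesHom (Additive H) (Additive.ofMul a), by
      simp only [zmultiplesHom_apply, natCast_zsmul, ← ofMul_pow]
      rw [sq, pow_mul, hΦp _ (hpowΦ a)]
      rfl⟩
  let z2 : ZMod p →+ Additive H := ZMod.lift p
    ⟨zmultiplesHom (Additive H) (Additive.ofMul b), by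
      simp only [zmultiplesHom_apply, natCast_zsmul, ← ofMul_pow]
      rw [hbp]; rfl⟩
  let z3 : ZMod p →+ Additive H := ZMod.lift p
    ⟨zmultiplesHom (Additive H) (Additive.ofMul d), by
      simp only [zmultiplesHom_apply, natCast_zsmul, ← ofMul_pow]
      rw [hdp]; rfl⟩
  let ψ : Multiplicative (ZMod (p ^ 2) × ZMod p × ZMod p) →* H :=
    AddMonoidHom.toMultiplicativeLeft (z1.coprod (z2.coprod z3))
  have hψ : ∀ x : ZMod (p ^ 2) × ZMod p × ZMod p, ψ (Multiplicative.ofAdd x) =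
      (z1 x.1 + (z2 x.2.1 + z3 x.2.2)).toMul := fun _ => rfl
  haveI : NeZero p := ⟨hpp.ne_zero⟩
  refine nonempty_equiv ψ ?_ ?_
  · rw [← MonoidHom.range_eq_top, eq_top_iff, ← htop, ← hKeq]
    have ha' : a ∈ ψ.range := ⟨Multiplicative.ofAdd (((1 : ℤ) : ZMod (p ^ 2)), 0, 0), by
      rw [hψ]; simp [z1, -Int.cast_one, ZMod.lift_coe]⟩
    refine sup_le (sup_le (sup_le (Subgroup.zpowers_le.2 (ψ.range.pow_mem ha' p)) ?_) ?_)
      (Subgroup.zpowers_le.2 ha')
    · exact Subgroup.zpowers_le.2 ⟨Multiplicative.ofAdd (0, ((1 : ℤ) : ZMod p), 0), by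
        rw [hψ]; simp [z2, -Int.cast_one, ZMod.lift_coe]⟩
    · exact Subgroup.zpowers_le.2 ⟨Multiplicative.ofAdd (0, 0, ((1 : ℤ) : ZMod p)), by
        rw [hψ]; simp [z3, -Int.cast_one, ZMod.lift_coe]⟩
  · rw [Nat.card_congr Multiplicative.toAdd, Nat.card_prod, Nat.card_prod, Nat.card_zmod,
      Nat.card_zmod, hcard]
    ring

/-- The structure of a non-abelian group of order `p ^ 4` with Frattini subgroup of order `p`. -/
theorem exists_frame_four (hcard : Nat.card H = p ^ 4) (hna : ¬ ∀ x y : H, x * y = y * x)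
    (hΦ : Nat.card (frattini H) = p) :
    frattini H ≤ center H ∧ Nat.card (center H) = p ^ 2 ∧ (center H).index = p ^ 2 ∧
    ∃ a b : H, a * b ≠ b * a ∧ center H ⊔ zpowers a ⊔ zpowers b = ⊤ := by
  have hpp : p.Prime := hp.out
  have hHp : IsPGroup p H := IsPGroup.of_card hcard
  haveI : Group.IsNilpotent H := hHp.isNilpotent
  obtain ⟨Φ, hΦd⟩ : ∃ Φ, Φ = frattini H := ⟨_, rfl⟩
  rw [← hΦd] at hΦ ⊢
  haveI : Φ.Normal := hΦd ▸ inferInstance
  have hΦZ : Φ ≤ center H := by
    have hne : Φ ≠ ⊥ := fun e => by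
      rw [e, Subgroup.card_bot] at hΦ
      exact hpp.one_lt.ne hΦ
    have h1 := Grp.inf_center_ne_bot Φ hne
    have h2 : Φ ⊓ center H = Φ := by
      refine Subgroup.eq_of_le_of_card_ge inf_le_left ?_
      rw [hΦ]
      obtain ⟨i, hi⟩ := (hHp.to_subgroup (Φ ⊓ center H)).exists_card_eq
      rw [hi]
      refine Nat.le_self_pow (fun e => h1 ?_) p
      rw [e, pow_zero] at hi
      exact Subgroup.card_eq_one.1 hi
    exact h2 ▸ inf_le_right
  have hcomm : ∀ x y : H, ⁅x, y⁆ ∈ Φ := fun x y =>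
    hΦd ▸ Grp.pGroup_commutator_le_frattini hHp (commutator_mem_commutator (mem_top x) (mem_top y))
  have hpow : ∀ x : H, x ^ p ∈ Φ := fun x => hΦd ▸ Grp.pGroup_pow_mem_frattini hHp x
  have hcz : ∀ x y g : H, g * ⁅x, y⁆ = ⁅x, y⁆ * g := fun x y g =>
    Subgroup.mem_center_iff.1 (hΦZ (hcomm x y)) g
  obtain ⟨a, b, hab⟩ : ∃ a b : H, a * b ≠ b * a := by push Not at hna; exact hna
  let θ : H →* Φ × Φ := MonoidHom.mk' (fun y => (⟨⁅y, a⁆, hcomm y a⟩, ⟨⁅y, b⁆, hcomm y b⟩))
    fun x y => by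
      have key : ∀ w, ⁅x * y, w⁆ = ⁅x, w⁆ * ⁅y, w⁆ := fun w => by
        rw [show ⁅x * y, w⁆ = x * ⁅y, w⁆ * x⁻¹ * ⁅x, w⁆ by
          simp only [commutatorElement_def]; group, hcz y w x, mul_inv_cancel_right, hcz y w ⁅x, w⁆]
      exact Prod.ext (Subtype.ext (key a)) (Subtype.ext (key b))
  obtain ⟨D, hD⟩ : ∃ D, D = θ.ker := ⟨_, rfl⟩
  haveI : D.Normal := hD ▸ inferInstance
  have hmemD : ∀ y, y ∈ D ↔ ⁅y, a⁆ = 1 ∧ ⁅y, b⁆ = 1 := fun y => by
    rw [hD, MonoidHom.mem_ker, Prod.ext_iff, Subtype.ext_iff, Subtype.ext_iff]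
    rfl
  have hZD : center H ≤ D := fun z hz => (hmemD z).2
    ⟨commutatorElement_eq_one_iff_mul_comm.2 (Subgroup.mem_center_iff.1 hz a).symm,
      commutatorElement_eq_one_iff_mul_comm.2 (Subgroup.mem_center_iff.1 hz b).symm⟩
  have hlow : p ^ 2 ≤ Nat.card D := by
    have h := D.index_mul_card
    rw [hD, Subgroup.index_ker, hcard] at h
    rw [hD]
    have hle : Nat.card θ.range ≤ p * p := by
      refine (Subgroup.card_le_card_group _).trans_eq ?_
      rw [Nat.card_prod, hΦ]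
    refine Nat.le_of_mul_le_mul_left ?_ (Nat.mul_pos hpp.pos hpp.pos)
    calc p * p * p ^ 2 = p ^ 4 := by ring
      _ = Nat.card θ.range * Nat.card θ.ker := h.symm
      _ ≤ p * p * Nat.card θ.ker := Nat.mul_le_mul_right _ hle
  have haD : a ∉ D := fun h => hab (commutatorElement_eq_one_iff_mul_comm.1 ((hmemD a).1 h).2)
  have hA := card_step (p := p) haD (hZD (hΦZ (hpow a)))
  have hAn : (D ⊔ zpowers a).Normal := ⟨fun x hx g => by
    have h1 : ⁅g, x⁆ * x ∈ D ⊔ zpowers a :=
      mul_mem (Subgroup.mem_sup_left (hZD (hΦZ (hcomm g x)))) hx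
    rwa [commutatorElement_def, inv_mul_cancel_right] at h1⟩
  have hbA : b ∉ D ⊔ zpowers a := fun h => by
    obtain ⟨d, hd, w, ⟨i, rfl⟩, e⟩ := Subgroup.mem_sup_of_normal_left.1 h
    refine hab ?_
    have h1 : Commute a d := (commutatorElement_eq_one_iff_mul_comm.1 ((hmemD d).1 hd).1).symm
    rw [← e]
    exact (h1.mul_right ((Commute.refl a).zpow_right i)).eq
  haveI := hAn
  have hB := card_step (p := p) hbA (Subgroup.mem_sup_left (hZD (hΦZ (hpow b))))
  rw [hA] at hB
  have hup : p * (p * Nat.card D) ≤ p * (p * p ^ 2) := by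
    rw [← hB, ← show p ^ 4 = p * (p * p ^ 2) by ring, ← hcard]
    exact Subgroup.card_le_card_group _
  have hDcard : Nat.card D = p ^ 2 := le_antisymm
    (Nat.le_of_mul_le_mul_left (Nat.le_of_mul_le_mul_left hup hpp.pos) hpp.pos) hlow
  have htop : D ⊔ zpowers a ⊔ zpowers b = ⊤ :=
    Subgroup.eq_top_of_card_eq _ (by rw [hB, hDcard, hcard]; ring)
  have hDab : ∀ x y : D, x * y = y * x := fun x y => IsPGroup.commutative_of_card_eq_prime_sq hDcard x y
  have hDZ : D ≤ center H := by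
    intro d hd
    have hle : D ⊔ zpowers a ⊔ zpowers b ≤ Subgroup.centralizer {d} :=
      sup_le (sup_le (fun x hx => Subgroup.mem_centralizer_singleton_iff.2
        (congrArg Subtype.val (hDab ⟨x, hx⟩ ⟨d, hd⟩)))
        (Subgroup.zpowers_le.2 (Subgroup.mem_centralizer_singleton_iff.2
          (commutatorElement_eq_one_iff_mul_comm.1 ((hmemD d).1 hd).1).symm)))
        (Subgroup.zpowers_le.2 (Subgroup.mem_centralizer_singleton_iff.2
          (commutatorElement_eq_one_iff_mul_comm.1 ((hmemD d).1 hd).2).symm))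
    rw [htop] at hle
    exact Subgroup.mem_center_iff.2 fun g =>
      Subgroup.mem_centralizer_singleton_iff.1 (hle (mem_top g))
  have hZ : center H = D := le_antisymm hZD hDZ
  rw [hZ]
  refine ⟨hZ ▸ hΦZ, hDcard, ?_, a, b, hab, htop⟩
  have h := D.index_mul_card
  rw [hDcard, hcard, show p ^ 4 = p ^ 2 * p ^ 2 by ring] at h
  exact Nat.eq_of_mul_eq_mul_right (pow_pos hpp.pos 2) h

/-- A finite group has a copy among the types in the bottom universe. -/
theorem exists_copy (K : Type u) [Group K] [Finite K] :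
    ∃ (E : Type) (_ : Group E) (_ : Finite E), Nonempty (E ≃* K) := by
  let e : Fin (Nat.card K) ≃ K := (Finite.equivFin K).symm
  letI := e.group
  exact ⟨Fin (Nat.card K), inferInstance, inferInstance, ⟨e.mulEquiv⟩⟩

end Groups

open FusionSystem

variable {Ω : Type u} [Group Ω] {S : Subgroup Ω} [Finite S] {p : ℕ} [hp : Fact p.Prime]
  {F : FusionSystem S}

/-- No invariant chain of subgroups of orders `p ^ 2`, `p ^ 3` above a Frattini subgroup of order `p`. -/
theorem chain_three_false (hS : IsPGroup p S) {H : Subgroup Ω} (hH : F.IsEssential p H)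
    (hcard : Nat.card H = p ^ 4) (hΦ : Nat.card (frattini ↥H) = p) {U M : Subgroup ↥H}
    (hΦU : frattini ↥H ≤ U) (hUM : U ≤ M) (hU : Nat.card U = p ^ 2) (hM : Nat.card M = p ^ 3)
    (hUi : ∀ g : MulAut H, ∀ x ∈ U, g x ∈ U) (hMi : ∀ g : MulAut H, ∀ x ∈ M, g x ∈ M) : False := by
  refine not_essential_of_chain hS hH (n := 3)
    (fun i => if i = 0 then frattini ↥H else if i = 1 then U else if i = 2 then M else ⊤) rfl rfl
    (fun i hi => ?_) (fun i hi => ?_) (fun g _ i hi x hx => ?_)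
  · interval_cases i <;> simp [hΦU, hUM]
  · interval_cases i <;> simp only [Nat.reduceEqDiff, ↓reduceIte, Nat.reduceAdd, zero_add]
    · rw [hU, hΦ, sq]
    · rw [hM, hU, ← pow_succ']
    · rw [Subgroup.card_top, hcard, hM, ← pow_succ']
  · interval_cases i <;> simp only [Nat.reduceEqDiff, ↓reduceIte] at hx ⊢
    · exact ((inferInstance : (frattini ↥H).Characteristic).fixed g).ge hx
    · exact hUi g x hx
    · exact hMi g x hx
    · trivial

/-- The Frattini subgroup of a non-abelian essential subgroup of order `p ^ 4` has order `p`. -/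
theorem card_frattini (hS : IsPGroup p S) {H : Subgroup Ω} (hH : F.IsEssential p H)
    (hcard : Nat.card H = p ^ 4) (hna : ¬ ∀ x y : H, x * y = y * x) :
    Nat.card (frattini ↥H) = p := by
  haveI := finite_of_le hH.1.1
  have hpp : p.Prime := hp.out
  have hHp : IsPGroup p H := hS.to_le hH.1.1
  obtain ⟨i, hi⟩ := (hHp.to_subgroup (frattini ↥H)).exists_card_eq
  have hmul : (frattini ↥H).index * Nat.card (frattini ↥H) = p ^ 4 := by rw [index_mul_card, hcard]
  have hidx := lt_frattini_index_of_essential hS hH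
  have hi2 : i ≤ 2 := by
    by_contra h
    have h3 : p ^ 3 ≤ p ^ i := Nat.pow_le_pow_right hpp.pos (by omega)
    rw [hi] at hmul
    have : (p + 1) * p ^ 3 ≤ p ^ 4 := le_of_le_of_eq (Nat.mul_le_mul hidx h3) hmul
    nlinarith [pow_pos hpp.pos 3]
  rcases Nat.lt_or_ge i 2 with hlt | hge
  · rcases Nat.eq_zero_or_pos i with rfl | hpos
    · rw [pow_zero, Subgroup.card_eq_one] at hi
      exact absurd (fun x y => commutatorElement_eq_one_iff_mul_comm.1 (by
        have h : ⁅x, y⁆ ∈ frattini ↥H :=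
          Grp.pGroup_commutator_le_frattini hHp (commutator_mem_commutator (mem_top x) (mem_top y))
        rwa [hi, Subgroup.mem_bot] at h)) hna
    · rw [hi, show i = 1 by omega, pow_one]
  exfalso
  have hΦ : Nat.card (frattini ↥H) = p ^ 2 := by rw [hi, show i = 2 by omega]
  -- a characteristic maximal subgroup is excluded
  have hno : ∀ M : Subgroup ↥H, frattini ↥H ≤ M → M.index = p →
      (∀ g : MulAut H, ∀ x ∈ M, g x ∈ M) → False := by
    intro M hle hM hinv
    refine not_essential_of_between hS hH hle ?_ hM.le fun g _ => hinv g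
    have h := M.index_mul_card
    rw [hM, hcard, show p ^ 4 = p * (p * p ^ 2) by ring] at h
    exact (Nat.eq_of_mul_eq_mul_left hpp.pos h).le.trans_eq (by rw [hΦ])
  have hpowΦ : ∀ y : H, y ^ p ∈ frattini ↥H := Grp.pGroup_pow_mem_frattini hHp
  by_cases hcen : frattini ↥H ≤ center H
  · have hZ : (center H).index ≤ p ^ 2 := by
      refine (Nat.le_of_dvd ?_ (Subgroup.index_dvd_of_le hcen)).trans_eq ?_
      · exact Nat.pos_of_ne_zero Subgroup.index_ne_zero_of_finite
      · rw [hΦ, show p ^ 4 = p ^ 2 * p ^ 2 by ring] at hmul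
        exact Nat.eq_of_mul_eq_mul_right (pow_pos hpp.pos 2) hmul
    obtain ⟨-, z, a, b, hzZ, hz1, hzp, -, hconj, -, -⟩ := centerIndexSq_facts hHp hna hZ
    have hcle : _root_.commutator ↥H ≤ zpowers z := by
      refine Subgroup.commutator_le.2 fun x _ y _ => ?_
      obtain ⟨k, hk⟩ := hconj x y
      rw [commutatorElement_def, hk, Subgroup.mem_center_iff.1 (pow_mem hzZ k) y,
        mul_inv_cancel_right]
      exact Subgroup.pow_mem _ (mem_zpowers z) k
    have hzc : Nat.card (zpowers z) = p := by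
      rw [Nat.card_zpowers]; exact orderOf_eq_prime hzp hz1
    have hC : Nat.card (_root_.commutator ↥H) = p := by
      refine le_antisymm ((Subgroup.card_le_of_le hcle).trans_eq hzc) ?_
      obtain ⟨j, hj⟩ := (hHp.to_subgroup (_root_.commutator ↥H)).exists_card_eq
      rw [hj]
      refine Nat.le_self_pow (fun e => hna fun x y => ?_) p
      rw [e, pow_zero, Subgroup.card_eq_one] at hj
      have h : ⁅x, y⁆ ∈ _root_.commutator ↥H := commutator_mem_commutator (mem_top x) (mem_top y)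
      rw [hj, Subgroup.mem_bot] at h
      exact commutatorElement_eq_one_iff_mul_comm.1 h
    let f : ↥H →* Abelianization ↥H := (powMonoidHom p).comp Abelianization.of
    have hf : ∀ y : H, f y = Abelianization.of (y ^ p) := fun y => (map_pow _ y p).symm
    have hker : ∀ y : H, y ∈ f.ker ↔ y ^ p ∈ _root_.commutator ↥H := fun y => by
      rw [MonoidHom.mem_ker, hf, ← MonoidHom.mem_ker, Abelianization.ker_of]
    have hrange : f.range ≤ (frattini ↥H).map Abelianization.of := by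
      rintro _ ⟨y, rfl⟩
      exact ⟨_, hpowΦ y, (hf y).symm⟩
    have hmapcard : Nat.card ((frattini ↥H).map Abelianization.of) = p := by
      have h1 := ((_root_.commutator ↥H).subgroupOf (frattini ↥H)).index_mul_card
      rw [Nat.card_congr (Subgroup.subgroupOfEquivOfLe
        (Grp.pGroup_commutator_le_frattini hHp)).toEquiv, hC, hΦ, sq] at h1
      have h2 : (_root_.commutator ↥H).relIndex (frattini ↥H) = p :=
        Nat.eq_of_mul_eq_mul_right hpp.pos h1
      rw [← Subgroup.relIndex_ker, Abelianization.ker_of]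
      exact h2
    have hne : f.range ≠ ⊥ := by
      intro e
      have h0 : ∀ y : H, y ^ p ∈ _root_.commutator ↥H := fun y => (hker y).1 (by
        rw [MonoidHom.mem_ker, ← Subgroup.mem_bot, ← e]
        exact ⟨y, rfl⟩)
      have h := Subgroup.card_le_of_le (Grp.frattini_le_of_elementary hpp le_rfl h0)
      rw [hΦ, hC, sq] at h
      nlinarith [hpp.two_le]
    have hrc : f.ker.index = p := by
      rw [Subgroup.index_ker]
      have h1 := Subgroup.card_le_of_le hrange
      rw [hmapcard] at h1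
      obtain ⟨j, -, hj⟩ := (Nat.dvd_prime_pow hpp).1
        (show Nat.card f.range ∣ p ^ 4 from hcard ▸ Subgroup.card_range_dvd f)
      rw [hj] at h1 ⊢
      refine le_antisymm h1 (Nat.le_self_pow (fun e => hne ?_) p)
      rw [e, pow_zero, Subgroup.card_eq_one] at hj
      exact hj
    refine hno f.ker (fun y hy => ?_) hrc fun g y hy => ?_
    · rw [MonoidHom.mem_ker, hf, map_pow]
      have h := pow_card_mem (Subgroup.mem_map_of_mem Abelianization.of hy)
      rwa [hmapcard] at h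
    · rw [hker] at hy ⊢
      rw [← map_pow]
      exact ((inferInstance : (_root_.commutator ↥H).Characteristic).fixed g).ge hy
  · obtain ⟨U, hU⟩ : ∃ U, U = frattini ↥H ⊓ center H := ⟨_, rfl⟩
    haveI : U.Normal := hU ▸ inferInstance
    haveI : Group.IsNilpotent ↥H := hHp.isNilpotent
    have hUne : U ≠ ⊥ := hU ▸ Grp.inf_center_ne_bot _ (fun e => by
      rw [e, Subgroup.card_bot] at hΦ
      exact (Nat.one_lt_pow two_ne_zero hpp.one_lt).ne hΦ)
    have hUlt : U < frattini ↥H := lt_of_le_of_ne (hU ▸ inf_le_left) fun e =>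
      hcen (e ▸ hU ▸ inf_le_right)
    have hUc : Nat.card U = p := by
      obtain ⟨j, hj⟩ := (hHp.to_subgroup U).exists_card_eq
      have hlt := card_lt_of_lt hUlt
      rw [hj, hΦ, Nat.pow_lt_pow_iff_right hpp.one_lt] at hlt
      rcases Nat.eq_zero_or_pos j with rfl | hj0
      · rw [pow_zero, Subgroup.card_eq_one] at hj
        exact absurd hj hUne
      · rw [hj, show j = 1 by omega, pow_one]
    obtain ⟨w, hw, hwU⟩ := SetLike.exists_of_lt hUlt
    have hstep := card_step (p := p) hwU (by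
      rw [hU]
      have hlt : U ⊔ zpowers w ≤ frattini ↥H :=
        sup_le hUlt.le (Subgroup.zpowers_le.2 hw)
      refine Subgroup.mem_inf.2 ⟨Subgroup.pow_mem _ hw p, ?_⟩
      have h1 : (QuotientGroup.mk' U w) ^ p = 1 := by
        have hm : QuotientGroup.mk' U w ∈ (frattini ↥H).map (QuotientGroup.mk' U) :=
          Subgroup.mem_map_of_mem _ hw
        have hc : Nat.card ((frattini ↥H).map (QuotientGroup.mk' U)) = p := by
          rw [← Subgroup.relIndex_ker, QuotientGroup.ker_mk']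
          have h2 := (U.subgroupOf (frattini ↥H)).index_mul_card
          rw [Nat.card_congr (Subgroup.subgroupOfEquivOfLe hUlt.le).toEquiv, hUc, hΦ, sq] at h2
          exact Nat.eq_of_mul_eq_mul_right hpp.pos h2
        have := pow_card_mem hm
        rwa [hc] at this
      rw [← map_pow] at h1
      exact (hU ▸ (QuotientGroup.eq_one_iff _).1 h1 : w ^ p ∈ frattini ↥H ⊓ center H).2)
    have hgen : U ⊔ zpowers w = frattini ↥H := Subgroup.eq_of_le_of_card_ge
      (sup_le hUlt.le (Subgroup.zpowers_le.2 hw)) (by rw [hstep, hUc, hΦ, sq])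
    have hUZ : ∀ u ∈ U, ∀ g : ↥H, g * u = u * g := fun u hu g =>
      Subgroup.mem_center_iff.1 (hU ▸ hu : u ∈ frattini ↥H ⊓ center H).2 g
    have hUinv : ∀ (g : MulAut H), ∀ y ∈ frattini ↥H, g y ∈ frattini ↥H := fun g y hy =>
      ((inferInstance : (frattini ↥H).Characteristic).fixed g).ge hy
    have hfac : ∀ x : ↥H, ⁅x, w⁆ ∈ U := fun x => by
      obtain ⟨k, hk⟩ := hHp x
      have h := factor_fix (p := p) (U := U) hUlt.le (by rw [hUc, hΦ, sq]) (MulAut.conj x) (k := k)
        (by rw [← map_pow, hk, map_one])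
        (fun y hy => by
          show x * y * x⁻¹ ∈ U
          rw [hUZ y hy x, mul_inv_cancel_right]; exact hy)
        (fun y hy => hUinv (MulAut.conj x) y hy) hw
      have h : w⁻¹ * (x * w * x⁻¹) ∈ U := h
      rw [commutatorElement_def, show x * w * x⁻¹ * w⁻¹ = w * (w⁻¹ * (x * w * x⁻¹)) * w⁻¹ by group,
        hUZ _ h w, mul_inv_cancel_right]
      exact h
    let θ : ↥H →* U := MonoidHom.mk' (fun x => ⟨⁅x, w⁆, hfac x⟩) fun x y => Subtype.ext (by
      show ⁅x * y, w⁆ = ⁅x, w⁆ * ⁅y, w⁆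
      rw [show ⁅x * y, w⁆ = x * ⁅y, w⁆ * x⁻¹ * ⁅x, w⁆ by simp only [commutatorElement_def]; group,
        hUZ _ (hfac y) x, mul_inv_cancel_right, hUZ _ (hfac y) ⁅x, w⁆])
    refine hno (Subgroup.centralizer (frattini ↥H : Set ↥H)) (fun x hx => ?_) ?_ fun g y hy => ?_
    · rw [Subgroup.mem_centralizer_iff]
      exact fun u hu => congrArg Subtype.val
        (IsPGroup.commutative_of_card_eq_prime_sq hΦ ⟨u, hu⟩ ⟨x, hx⟩)
    · have hker : Subgroup.centralizer (frattini ↥H : Set ↥H) = θ.ker := by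
        refine le_antisymm (fun x hx => ?_) fun x hx => ?_
        · refine MonoidHom.mem_ker.2 (Subtype.ext ?_)
          exact commutatorElement_eq_one_iff_mul_comm.2
            (Subgroup.mem_centralizer_iff.1 hx w hw).symm
        · have hxw : x * w = w * x :=
            commutatorElement_eq_one_iff_mul_comm.1 (congrArg Subtype.val (MonoidHom.mem_ker.1 hx))
          have hle : U ⊔ zpowers w ≤ Subgroup.centralizer {x} :=
            sup_le (fun u hu => Subgroup.mem_centralizer_singleton_iff.2 (hUZ u hu x).symm)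
              (Subgroup.zpowers_le.2 (Subgroup.mem_centralizer_singleton_iff.2 hxw.symm))
          rw [hgen] at hle
          exact Subgroup.mem_centralizer_iff.2 fun u hu =>
            Subgroup.mem_centralizer_singleton_iff.1 (hle hu)
      rw [hker, Subgroup.index_ker]
      have h1 := Subgroup.card_le_card_group θ.range
      rw [hUc] at h1
      obtain ⟨j, hj⟩ := ((hHp.to_subgroup U).to_subgroup θ.range).exists_card_eq
      rw [hj] at h1 ⊢
      refine le_antisymm h1 (Nat.le_self_pow (fun e => hcen fun u hu => ?_) p)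
      rw [e, pow_zero, Subgroup.card_eq_one] at hj
      refine Subgroup.mem_center_iff.2 fun g => ?_
      have hg : g ∈ θ.ker := MonoidHom.mem_ker.2 (by
        rw [← Subgroup.mem_bot, ← hj]; exact ⟨g, rfl⟩)
      rw [← hker] at hg
      exact (Subgroup.mem_centralizer_iff.1 hg u hu).symm
    · rw [Subgroup.mem_centralizer_iff] at hy ⊢
      intro u hu
      have h := congrArg g (hy _ (hUinv g⁻¹ u hu))
      simpa using h

/-- The characteristic centre. -/
theorem center_inv {K : Type u} [Group K] (g : MulAut K) {y : K} (hy : y ∈ center K) :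
    g y ∈ center K :=
  ((inferInstance : (center K).Characteristic).fixed g).ge hy

/-- A non-abelian essential subgroup of order `2 ^ 4` with centre of exponent two. -/
theorem quaternion_case (hS : IsPGroup 2 S) [Fact (Nat.Prime 2)] {H : Subgroup Ω}
    (hH : F.IsEssential 2 H) (hcard : Nat.card H = 2 ^ 4) (hna : ¬ ∀ x y : H, x * y = y * x)
    (hexp : ∀ z ∈ center ↥H, z ^ 2 = 1) :
    Nonempty (↥H ≃* QuaternionGroup 2 × Multiplicative (ZMod 2)) := by
  haveI := finite_of_le hH.1.1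
  have hHp : IsPGroup 2 H := hS.to_le hH.1.1
  have hΦ := card_frattini hS hH hcard hna
  obtain ⟨hΦZ, hZc, -, a, b, hab, htop⟩ := exists_frame_four hcard hna hΦ
  obtain ⟨Z, hZ⟩ : ∃ Z, Z = center ↥H := ⟨_, rfl⟩
  rw [← hZ] at hΦZ hZc htop
  haveI : Z.Normal := hZ ▸ inferInstance
  have hcen : ∀ z ∈ Z, ∀ g : ↥H, g * z = z * g := fun z hz =>
    Subgroup.mem_center_iff.1 (hZ ▸ hz : z ∈ center ↥H)
  have hsqZ : ∀ y : ↥H, y ^ 2 ∈ Z := fun y => hΦZ (Grp.pGroup_pow_mem_frattini hHp y)
  have hcommΦ : ∀ x y : ↥H, ⁅x, y⁆ ∈ frattini ↥H := fun x y =>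
    Grp.pGroup_commutator_le_frattini hHp (commutator_mem_commutator (mem_top x) (mem_top y))
  obtain ⟨c, hc1, hc⟩ : ∃ c, c ≠ 1 ∧ ∀ u ∈ frattini ↥H, u = 1 ∨ u = c := by
    obtain ⟨x, y, hxy, huniv⟩ := Nat.card_eq_two_iff.1 hΦ
    rcases eq_or_ne (x : ↥H) 1 with hx | hx
    · refine ⟨y, fun e => hxy (Subtype.ext (hx.trans e.symm)), fun u hu => ?_⟩
      rcases (Set.ext_iff.1 huniv ⟨u, hu⟩).2 trivial with h | h
      · exact Or.inl ((congrArg Subtype.val h).trans hx)
      · exact Or.inr (congrArg Subtype.val h)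
    · refine ⟨x, hx, fun u hu => ?_⟩
      rcases (Set.ext_iff.1 huniv ⟨u, hu⟩).2 trivial with h | h
      · exact Or.inr (congrArg Subtype.val h)
      · refine Or.inl ((congrArg Subtype.val h).trans ?_)
        rcases (Set.ext_iff.1 huniv 1).2 trivial with h' | h'
        · exact absurd (congrArg Subtype.val h').symm hx
        · exact (congrArg Subtype.val h').symm
  have hsq : ∀ y : ↥H, y ^ 2 = 1 ∨ y ^ 2 = c := fun y => hc _ (Grp.pGroup_pow_mem_frattini hHp y)
  have hcZ : c ∈ Z := by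
    rcases hc _ (hcommΦ a b) with h | h
    · exact absurd (commutatorElement_eq_one_iff_mul_comm.1 h) hab
    · exact h ▸ hΦZ (hcommΦ a b)
  have hcc : c * c = 1 := by rw [← sq]; exact hexp c (hZ ▸ hcZ)
  have hcomm_c : ∀ x y : ↥H, x * y ≠ y * x → ⁅x, y⁆ = c := fun x y hxy =>
    (hc _ (hcommΦ x y)).resolve_left fun e => hxy (commutatorElement_eq_one_iff_mul_comm.1 e)
  have hcl : ∀ x y : ↥H, (x * y) ^ 2 = x ^ 2 * y ^ 2 * ⁅y, x⁆ := fun x y => by
    have hk : ⁅y, x⁆ * (x * y) = (x * y) * ⁅y, x⁆ := (hcen _ (hΦZ (hcommΦ y x)) _).symm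
    calc (x * y) ^ 2 = x * (⁅y, x⁆ * (x * y)) * y := by
          rw [sq, commutatorElement_def]; group
      _ = x ^ 2 * (y * ⁅y, x⁆) * y := by rw [hk, sq]; group
      _ = x ^ 2 * y ^ 2 * ⁅y, x⁆ := by
          simp only [sq y, mul_assoc]
          rw [(hcen _ (hΦZ (hcommΦ y x)) y).symm]
  by_cases hT : ∀ y : ↥H, y ∉ Z → y ^ 2 ≠ 1
  · -- all elements outside the centre have order four
    have haZ : a ∉ Z := fun h => hab (hcen a h b).symm
    have hbZ : b ∉ Z := fun h => hab (hcen b h a)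
    have ha2 : a ^ 2 = c := (hsq a).resolve_left (hT a haZ)
    have hb2 : b ^ 2 = c := (hsq b).resolve_left (hT b hbZ)
    obtain ⟨e, heZ, hec⟩ : ∃ e ∈ Z, e ∉ zpowers c := by
      by_contra h
      push Not at h
      have h1 := Subgroup.card_le_of_le (show Z ≤ zpowers c from h)
      rw [hZc, Nat.card_zpowers, orderOf_eq_prime (by rw [sq]; exact hcc) hc1] at h1
      norm_num at h1
    have he2 : e ^ 2 = 1 := hexp e (hZ ▸ heZ)
    have hZeq : zpowers c ⊔ zpowers e = Z := by
      haveI : (zpowers c).Normal := ⟨fun x hx g => by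
        rw [hcen x (Subgroup.zpowers_le.2 hcZ hx) g, mul_inv_cancel_right]; exact hx⟩
      refine Subgroup.eq_of_le_of_card_ge (sup_le (Subgroup.zpowers_le.2 hcZ)
        (Subgroup.zpowers_le.2 heZ)) ?_
      rw [card_step (p := 2) hec (by rw [he2]; exact one_mem _), Nat.card_zpowers,
        orderOf_eq_prime (by rw [sq]; exact hcc) hc1, hZc]
      norm_num
    have hx4 : a ^ (2 * 2) = 1 := by rw [pow_mul, ha2, sq, hcc]
    have hconj : b * a * b⁻¹ = a⁻¹ := by
      have h1 : ⁅b, a⁆ = c := hcomm_c b a (Ne.symm hab)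
      rw [commutatorElement_def, mul_inv_eq_iff_eq_mul] at h1
      rw [h1, ← ha2]
      apply eq_inv_of_mul_eq_one_left
      rw [mul_assoc, ← sq, ← pow_add]
      exact hx4
    let ψ₀ : QuaternionGroup 2 →* ↥H :=
      MaxClass.quaternionHom a b hx4 (by rw [← sq, hb2, ← ha2]) hconj
    let z2 : ZMod 2 →+ Additive ↥H := ZMod.lift 2
      ⟨zmultiplesHom (Additive ↥H) (Additive.ofMul e), by
        simp only [zmultiplesHom_apply, natCast_zsmul, ← ofMul_pow]
        rw [he2]; rfl⟩
    have hz2 : ∀ i : ZMod 2, (z2 i).toMul ∈ Z := fun i => by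
      obtain ⟨l, rfl⟩ := ZMod.intCast_surjective i
      simp only [z2, ZMod.lift_coe, zmultiplesHom_apply, toMul_zsmul, toMul_ofMul]
      exact zpow_mem heZ l
    let ψ₁ : Multiplicative (ZMod 2) →* ↥H := AddMonoidHom.toMultiplicativeLeft z2
    let ψ := MonoidHom.noncommCoprod ψ₀ ψ₁ fun q i => hcen _ (hz2 i.toAdd) _
    refine nonempty_equiv ψ ?_ ?_
    · rw [← MonoidHom.range_eq_top, eq_top_iff, ← htop, ← hZeq]
      have happ : ∀ q i, ψ (q, i) = ψ₀ q * ψ₁ i := fun q i => rfl
      have ha' : a ∈ ψ.range := ⟨(.a 1, 1), by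
        rw [happ, map_one, mul_one]; exact MaxClass.quaternionHom_a ..⟩
      refine sup_le (sup_le (sup_le ?_ ?_) (Subgroup.zpowers_le.2 ha')) ?_
      · exact Subgroup.zpowers_le.2 (ha2 ▸ ψ.range.pow_mem ha' 2)
      · exact Subgroup.zpowers_le.2 ⟨(1, Multiplicative.ofAdd ((1 : ℤ) : ZMod 2)), by
          rw [happ, map_one, one_mul]
          simp [ψ₁, z2, -Int.cast_one, ZMod.lift_coe]⟩
      · exact Subgroup.zpowers_le.2 ⟨(.xa 0, 1), by
          rw [happ, map_one, mul_one]; exact MaxClass.quaternionHom_xa ..⟩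
    · rw [Nat.card_prod, Nat.card_eq_fintype_card, QuaternionGroup.card, hcard,
        Nat.card_congr Multiplicative.toAdd, Nat.card_zmod]
      norm_num
  -- otherwise there are non-commuting involutions and a characteristic maximal subgroup
  exfalso
  push Not at hT
  obtain ⟨x, hxZ, hx2⟩ := hT
  obtain ⟨y₀, hy₀⟩ : ∃ y, x * y ≠ y * x := by
    by_contra h
    push Not at h
    exact hxZ (hZ ▸ Subgroup.mem_center_iff.2 fun g => (h g).symm)
  obtain ⟨y, hxy, hy2⟩ : ∃ y, x * y ≠ y * x ∧ y ^ 2 = 1 := by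
    rcases hsq y₀ with h | h
    · exact ⟨y₀, hy₀, h⟩
    · refine ⟨x * y₀, fun e => hy₀ ?_, ?_⟩
      · exact mul_left_cancel (e.trans (mul_assoc x y₀ x))
      · rw [hcl, hx2, one_mul, h, hcomm_c y₀ x (Ne.symm hy₀), hcc]
  have hp1 : x ^ 2 ∈ Z := hsqZ x
  have hA := card_step (p := 2) hxZ hp1
  haveI hAn : (Z ⊔ zpowers x).Normal := ⟨fun u hu g => by
    have h1 : ⁅g, u⁆ * u ∈ Z ⊔ zpowers x := mul_mem (Subgroup.mem_sup_left (hΦZ (hcommΦ g u))) hu
    rwa [commutatorElement_def, inv_mul_cancel_right] at h1⟩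
  have hyA : y ∉ Z ⊔ zpowers x := fun h => by
    obtain ⟨d, hd, w, ⟨i, rfl⟩, e⟩ := Subgroup.mem_sup_of_normal_left.1 h
    refine hxy ?_
    have h1 : Commute x d := hcen d hd x
    rw [← e]
    exact (h1.mul_right ((Commute.refl x).zpow_right i)).eq
  have hB := card_step (p := 2) hyA (Subgroup.mem_sup_left (hsqZ y))
  have htop' : Z ⊔ zpowers x ⊔ zpowers y = ⊤ :=
    Subgroup.eq_top_of_card_eq _ (by rw [hB, hA, hZc, hcard]; norm_num)
  obtain ⟨w, hw⟩ : ∃ w, w = x * y := ⟨_, rfl⟩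
  have hw2 : w ^ 2 ≠ 1 := by
    rw [hw, hcl, hx2, hy2, one_mul, one_mul, hcomm_c y x (Ne.symm hxy)]
    exact hc1
  have hwZ : w ∉ Z := fun h => hw2 (hexp w (hZ ▸ h))
  have hM := card_step (p := 2) hwZ (hsqZ w)
  have hinvol : ∀ (u : ↥H), u ^ 2 = 1 → ∀ i : ℤ, u ^ i = 1 ∨ u ^ i = u := fun u hu i => by
    rcases Int.even_or_odd' i with ⟨k, rfl | rfl⟩
    · left; rw [zpow_mul, show u ^ (2 : ℤ) = 1 by exact_mod_cast hu, one_zpow]
    · right; rw [zpow_add, zpow_mul, show u ^ (2 : ℤ) = 1 by exact_mod_cast hu, one_zpow, one_mul,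
        zpow_one]
  have hmem : ∀ u : ↥H, u ^ 2 ≠ 1 → u ∈ Z ⊔ zpowers w := by
    intro u hu
    obtain ⟨v, hv, _, ⟨j, rfl⟩, e⟩ := Subgroup.mem_sup_of_normal_left.1 (htop'.ge (mem_top u))
    obtain ⟨d, hd, _, ⟨i, rfl⟩, rfl⟩ := Subgroup.mem_sup_of_normal_left.1 hv
    have he : d * x ^ i * y ^ j = u := e
    have hd2 : d ^ 2 = 1 := hexp d (hZ ▸ hd)
    have hone : ∀ r : ↥H, r ^ 2 = 1 → d * r = u → False := fun r hr e' => hu (by
      rw [← e', (show Commute d r from (hcen d hd r).symm).mul_pow, hd2, hr, one_mul])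
    rcases hinvol x hx2 i with h1 | h1 <;> rcases hinvol y hy2 j with h2 | h2 <;>
      simp only [h1, h2, mul_one] at he
    · exact (hone 1 (one_pow 2) (by rw [mul_one]; exact he)).elim
    · exact (hone y hy2 he).elim
    · exact (hone x hx2 he).elim
    · rw [← he, mul_assoc, ← hw]
      exact mul_mem (Subgroup.mem_sup_left hd) (Subgroup.mem_sup_right (mem_zpowers w))
  refine chain_three_false hS hH hcard hΦ (U := Z) (M := Z ⊔ zpowers w) hΦZ le_sup_left hZc
    (by rw [hM, hZc]; norm_num) (fun g u hu => hZ ▸ center_inv g (hZ ▸ hu)) fun g u hu => ?_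
  obtain ⟨d, hd, _, ⟨i, rfl⟩, rfl⟩ := Subgroup.mem_sup_of_normal_left.1 hu
  rw [map_mul, map_zpow]
  refine mul_mem (Subgroup.mem_sup_left (hZ ▸ center_inv g (hZ ▸ hd))) (zpow_mem (hmem _ ?_) i)
  rw [← map_pow]
  exact fun e => hw2 (g.injective (e.trans (map_one g).symm))

/-- The classification of essential subgroups of order `p ^ 4`. -/
theorem essential_card_four (hS : IsPGroup p S) {H : Subgroup Ω} (hH : F.IsEssential p H)
    (hcard : Nat.card H = p ^ 4) :
    IsElementaryAbelian p H ∨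
    Nonempty (↥H ≃* Multiplicative (ZMod (p ^ 2) × ZMod p × ZMod p)) ∨
    ((p = 2 ∨ p = 3) ∧ Nonempty (↥H ≃* Multiplicative (ZMod (p ^ 2) × ZMod (p ^ 2)))) ∨
    (Odd p ∧ ∃ (E : Type) (_ : Group E) (_ : Finite E), IsExtraspecial p E ∧ Nat.card E = p ^ 3 ∧
      (∀ x : E, x ^ p = 1) ∧ Nonempty (↥H ≃* E × Multiplicative (ZMod p))) ∨
    (p = 2 ∧ Nonempty (↥H ≃* QuaternionGroup 2 × Multiplicative (ZMod 2))) ∨
    (¬ IsMulCommutative ↥H ∧ (∀ x ∈ H, x ^ (p ^ 2) = 1) ∧ IsCyclic ↥(Subgroup.center ↥H) ∧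
      Nat.card (Subgroup.center ↥H) = p ^ 2) := by
  haveI := finite_of_le hH.1.1
  have hpp : p.Prime := hp.out
  have hHp : IsPGroup p H := hS.to_le hH.1.1
  by_cases hab : ∀ x y : H, x * y = y * x
  · have hc' : IsMulCommutative ↥H := ⟨⟨hab⟩⟩
    by_cases h2 : (frattini ↥H).index ≤ p ^ 2
    · rcases essential_rank_two hS hH hc' h2 with ⟨-, h⟩ | ⟨h3, k, ⟨e⟩⟩
      · rw [hcard] at h
        exact absurd (Nat.pow_right_injective hpp.two_le h) (by norm_num)
      · right; right; left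
        haveI : NeZero (p ^ k) := ⟨pow_ne_zero _ hpp.ne_zero⟩
        have hk := Nat.card_congr e.toEquiv
        rw [hcard, Nat.card_congr Multiplicative.toAdd, Nat.card_prod, Nat.card_zmod, ← pow_add] at hk
        obtain rfl : k = 2 := by
          have := Nat.pow_right_injective hpp.two_le hk
          omega
        refine ⟨?_, ⟨e⟩⟩
        have := hpp.two_le
        omega
    · obtain ⟨i, hi⟩ := (hHp.to_subgroup (frattini ↥H)).exists_card_eq
      have hm := (frattini ↥H).index_mul_card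
      rw [hi, hcard] at hm
      have hi1 : i ≤ 1 := by
        by_contra hh
        refine h2 (Nat.le_of_mul_le_mul_right ?_ (pow_pos hpp.pos i))
        rw [hm, ← pow_add]
        exact Nat.pow_le_pow_right hpp.pos (by omega)
      rcases Nat.eq_zero_or_pos i with rfl | hpos
      · left
        refine ⟨hc', fun x hx => ?_⟩
        rw [pow_zero, Subgroup.card_eq_one] at hi
        have h := Grp.pGroup_pow_mem_frattini hHp (⟨x, hx⟩ : H)
        rw [hi, Subgroup.mem_bot] at h
        exact congrArg Subtype.val h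
      · right; left
        exact abelian_rank_three hcard hab (by rw [hi, show i = 1 by omega, pow_one])
  right; right; right
  have hnc : ¬ IsMulCommutative ↥H := fun h => hab fun a b => h.is_comm.comm a b
  have hΦ := card_frattini hS hH hcard hab
  obtain ⟨hΦZ, hZc, -, a, b, habne, htop⟩ := exists_frame_four hcard hab hΦ
  by_cases hcyc : IsCyclic ↥(Subgroup.center ↥H)
  · right; right
    refine ⟨hnc, fun x hx => ?_, hcyc, hZc⟩
    have h := pow_card_mem (Grp.pGroup_pow_mem_frattini hHp (⟨x, hx⟩ : H))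
    rw [hΦ, ← pow_mul, ← sq] at h
    exact congrArg Subtype.val h
  have hexp : ∀ z ∈ center ↥H, z ^ p = 1 := fun z hz => by
    obtain ⟨j, hj, hord⟩ := (Nat.dvd_prime_pow hpp).1
      (hZc ▸ orderOf_dvd_natCard (⟨z, hz⟩ : center ↥H))
    have hj1 : j ≤ 1 := by
      by_contra h
      refine hcyc (isCyclic_of_orderOf_eq_card (⟨z, hz⟩ : center ↥H) ?_)
      rw [hord, hZc, show j = 2 by omega]
    have h : orderOf (⟨z, hz⟩ : center ↥H) ∣ p := hord ▸ (Nat.pow_dvd_pow p hj1).trans (pow_one p).dvd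
    exact congrArg Subtype.val (orderOf_dvd_iff_pow_eq_one.1 h)
  by_cases h2 : p = 2
  · subst h2
    right; left
    exact ⟨rfl, quaternion_case hS hH hcard hab hexp⟩
  left
  refine ⟨hpp.odd_of_ne_two h2, ?_⟩
  obtain ⟨Z, hZ⟩ : ∃ Z, Z = center ↥H := ⟨_, rfl⟩
  have hcen : ∀ z ∈ Z, ∀ g : ↥H, g * z = z * g := fun z hz =>
    Subgroup.mem_center_iff.1 (hZ ▸ hz : z ∈ center ↥H)
  have hsc : Transfer.PGroups.SmallClass p H := Or.inl ⟨h2, by
    rw [eq_bot_iff, Subgroup.commutator_le]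
    intro u hu v _
    rw [Subgroup.mem_bot, commutatorElement_eq_one_iff_mul_comm]
    exact (Subgroup.mem_center_iff.1 (hΦZ (Grp.pGroup_commutator_le_frattini hHp hu)) v).symm⟩
  have hexpH : ∀ x : ↥H, x ^ p = 1 := by
    by_contra hne
    push Not at hne
    obtain ⟨x, hx⟩ := hne
    let f : ↥H →* ↥H := MonoidHom.mk' (fun y => y ^ p) fun u v =>
      Transfer.PGroups.mul_pow_of_derived hsc
        (fun g hg => hexp g (hΦZ (Grp.pGroup_commutator_le_frattini hHp hg))) u v
    have hf : f.range = frattini ↥H := by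
      refine Subgroup.eq_of_le_of_card_ge
        (by rintro _ ⟨y, rfl⟩; exact Grp.pGroup_pow_mem_frattini hHp y) ?_
      rw [hΦ]
      have hxp : (x ^ p) ^ p = 1 := by
        have h := pow_card_mem (Grp.pGroup_pow_mem_frattini hHp x)
        rwa [hΦ] at h
      refine Nat.le_of_dvd Nat.card_pos ?_
      have h := f.range.orderOf_dvd_natCard (x := x ^ p) ⟨x, rfl⟩
      rwa [orderOf_eq_prime hxp hx] at h
    refine chain_three_false hS hH hcard hΦ (U := center ↥H) (M := f.ker) hΦZ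
      (fun z hz => hexp z hz) hZc ?_ (fun g u hu => center_inv g hu) fun g u hu => ?_
    · have h := f.ker.index_mul_card
      rw [Subgroup.index_ker, hf, hΦ, hcard, pow_succ' p 3] at h
      exact Nat.eq_of_mul_eq_mul_left hpp.pos h
    · have hu : u ^ p = 1 := hu
      show g u ^ p = 1
      rw [← map_pow, hu, map_one]
  -- the complement
  rw [← hZ] at hΦZ hZc htop
  haveI : Z.Normal := hZ ▸ inferInstance
  have haΦ : a ∉ frattini ↥H := fun h => habne (hcen a (hΦZ h) b).symm
  have hK1 := card_step (p := p) haΦ (by rw [hexpH a]; exact one_mem _)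
  have hup : ∀ K : Subgroup ↥H, frattini ↥H ≤ K → K.Normal := fun K hK => ⟨fun u hu g => by
    have h1 : ⁅g, u⁆ * u ∈ K := mul_mem (hK (Grp.pGroup_commutator_le_frattini hHp
      (commutator_mem_commutator (mem_top g) (mem_top u)))) hu
    rwa [commutatorElement_def, inv_mul_cancel_right] at h1⟩
  haveI := hup _ (le_sup_left : frattini ↥H ≤ frattini ↥H ⊔ zpowers a)
  have hbA : b ∉ frattini ↥H ⊔ zpowers a := fun h => by
    obtain ⟨d, hd, w, ⟨i, rfl⟩, e⟩ := Subgroup.mem_sup_of_normal_left.1 h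
    refine habne ?_
    have h1 : Commute a d := hcen d (hΦZ hd) a
    rw [← e]
    exact (h1.mul_right ((Commute.refl a).zpow_right i)).eq
  have hK2 := card_step (p := p) hbA (by rw [hexpH b]; exact one_mem _)
  obtain ⟨K, hK⟩ : ∃ K, K = frattini ↥H ⊔ zpowers a ⊔ zpowers b := ⟨_, rfl⟩
  rw [← hK, hK1, hΦ, ← sq, ← pow_succ'] at hK2
  obtain ⟨e, heZ, heK⟩ : ∃ e ∈ Z, e ∉ K := by
    by_contra h
    push Not at h
    have hle : Z ⊔ zpowers a ⊔ zpowers b ≤ K :=
      sup_le (sup_le h (hK ▸ le_sup_right.trans le_sup_left)) (hK ▸ le_sup_right)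
    rw [htop] at hle
    have h1 := Subgroup.card_le_of_le hle
    rw [Subgroup.card_top, hcard, hK2] at h1
    exact absurd h1 (not_le.2 (Nat.pow_lt_pow_right hpp.one_lt (by norm_num)))
  haveI := hup K (hK ▸ le_sup_left.trans le_sup_left)
  have hKe := card_step (p := p) heK (by rw [hexpH e]; exact one_mem _)
  rw [hK2, ← pow_succ'] at hKe
  have htopK : K ⊔ zpowers e = ⊤ := Subgroup.eq_top_of_card_eq _ (by rw [hKe, hcard])
  obtain ⟨E, iG, iF, ⟨ε⟩⟩ := exists_copy ↥K
  refine ⟨E, iG, iF, ?_, ?_, fun u => ε.injective (by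
    rw [map_pow, map_one]; exact Subtype.ext (hexpH _)), ?_⟩
  · refine extraspecial_of_cube (by rw [Nat.card_congr ε.toEquiv, hK2]) fun h => habne ?_
    have h1 := h.is_comm.comm (ε.symm ⟨a, hK ▸ Subgroup.mem_sup_left (Subgroup.mem_sup_right
      (mem_zpowers a))⟩) (ε.symm ⟨b, hK ▸ Subgroup.mem_sup_right (mem_zpowers b)⟩)
    have h2 := congrArg ε h1
    simp only [map_mul, MulEquiv.apply_symm_apply] at h2
    exact congrArg Subtype.val h2
  · rw [Nat.card_congr ε.toEquiv, hK2]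
  · haveI : NeZero p := ⟨hpp.ne_zero⟩
    let z2 : ZMod p →+ Additive ↥H := ZMod.lift p
      ⟨zmultiplesHom (Additive ↥H) (Additive.ofMul e), by
        simp only [zmultiplesHom_apply, natCast_zsmul, ← ofMul_pow]
        rw [hexpH e]; rfl⟩
    have hz2 : ∀ i : ZMod p, (z2 i).toMul ∈ Z := fun i => by
      obtain ⟨l, rfl⟩ := ZMod.intCast_surjective i
      simp only [z2, ZMod.lift_coe, zmultiplesHom_apply, toMul_zsmul, toMul_ofMul]
      exact zpow_mem heZ l
    let ψ₀ : E →* ↥H := K.subtype.comp ε.toMonoidHom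
    let ψ₁ : Multiplicative (ZMod p) →* ↥H := AddMonoidHom.toMultiplicativeLeft z2
    let ψ := MonoidHom.noncommCoprod ψ₀ ψ₁ fun q i => hcen _ (hz2 i.toAdd) _
    refine nonempty_equiv ψ ?_ ?_
    · rw [← MonoidHom.range_eq_top, eq_top_iff, ← htopK]
      refine sup_le (fun u hu => ⟨(ε.symm ⟨u, hu⟩, 1), ?_⟩) (Subgroup.zpowers_le.2
        ⟨(1, Multiplicative.ofAdd ((1 : ℤ) : ZMod p)), ?_⟩)
      · simp [ψ, ψ₀]
      · rw [show ψ (1, Multiplicative.ofAdd ((1 : ℤ) : ZMod p)) =
            ψ₀ 1 * ψ₁ (Multiplicative.ofAdd ((1 : ℤ) : ZMod p)) from rfl, map_one, one_mul]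
        simp [ψ₁, z2, -Int.cast_one, ZMod.lift_coe]
    · rw [Nat.card_prod, Nat.card_congr ε.toEquiv, hK2, hcard, Nat.card_congr Multiplicative.toAdd,
        Nat.card_zmod, ← pow_succ]

end Cfsg.Agent.Fus.EssFour
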