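import Mathlib
import Cfsg.Agent.Lib.Fus.TorusExt
import Cfsg.Agent.Lib.Invol.SPEmbedded

/-!
A centric subgroup of index `p` with two Sylow subgroups in its automizer is essential.
-/

set_option autoImplicit false
set_option linter.unusedSectionVars false
set_option linter.style.haveILetI false

universe u

namespace Cfsg.Agent.Fus

open Cfsg FusionSystem TorusExt

/-- A Sylow subgroup of order `p` that is not normal gives a strongly `p`-embedded subgroup. -/
theorem spe_of_sylow_prime {X : Type u} [Group X] [Finite X] {p : ℕ} [hp : Fact p.Prime]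
    (T : Sylow p X) (hT : Nat.card T = p) (hn : ¬ (T : Subgroup X).Normal) :
    ∃ Y : Subgroup X, Cfsg.IsStronglyPEmbedded p Y := by
  set Y := Subgroup.normalizer ((T : Subgroup X) : Set X)
  have hTY : (T : Subgroup X) ≤ Y := Subgroup.le_normalizer
  refine ⟨Y, Invol.isStronglyPEmbedded_iff.2 ⟨hT ▸ Subgroup.card_dvd_of_le hTY,
    fun h => hn (Subgroup.normalizer_eq_top_iff.1 h), fun g hg hd => hg ?_⟩⟩
  obtain ⟨z, hz, hzo⟩ := Invol.exists_orderOf_prime_mem hd
  obtain ⟨hzY, hzg⟩ := Subgroup.mem_inf.1 hz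
  obtain ⟨w, hwY, hwz⟩ := hzg
  have key : ∀ v ∈ Y, orderOf v = p → v ∈ (T : Subgroup X) := by
    intro v hv hvo
    have hle : Subgroup.zpowers v ≤ Y := Subgroup.zpowers_le.2 hv
    have hpv : IsPGroup p (Subgroup.zpowers v) :=
      IsPGroup.of_card (n := 1) (by rw [Nat.card_zpowers, hvo, pow_one])
    have h := IsPGroup.to_sup_of_normal_right' hpv T.isPGroup' hle
    rw [← T.is_maximal' h le_sup_right]
    exact Subgroup.mem_sup_left (Subgroup.mem_zpowers v)
  have hzT := key z hzY hzo
  have hwo : orderOf w = p := by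
    rw [← hzo, ← hwz]
    exact (orderOf_injective _ (MulAut.conj g).injective w).symm
  have hwT := key w hwY hwo
  have hgen : ∀ v ∈ (T : Subgroup X), orderOf v = p → Subgroup.zpowers v = (T : Subgroup X) :=
    fun v hv hvo => Subgroup.eq_of_le_of_card_ge (Subgroup.zpowers_le.2 hv)
      (by rw [Nat.card_zpowers, hvo]; exact hT.le)
  have heq : (T : Subgroup X).map (MulAut.conj g).toMonoidHom = T := by
    rw [← hgen w hwT hwo, MonoidHom.map_zpowers]
    rw [show (MulAut.conj g).toMonoidHom w = z from hwz, hgen z hzT hzo, hgen w hwT hwo]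
  refine Subgroup.mem_normalizer_iff.2 fun a => ⟨fun ha => ?_, fun ha => ?_⟩
  · rw [← heq]
    exact ⟨a, ha, rfl⟩
  · rw [← heq] at ha
    obtain ⟨b, hb, hba⟩ := ha
    simpa using (show b = a from (MulAut.conj g).injective hba) ▸ hb

variable {Ω : Type u} [Group Ω] {S : Subgroup Ω} [Finite S] {p : ℕ} [hp : Fact p.Prime]
  {F : FusionSystem S}

/-- A centric subgroup of index `p`, normal in `S`, is essential if the automizer of `S` on it is
not normal among its automorphisms. -/
theorem essential_of_index_prime (hS : IsPGroup p S) (hF : F.IsSaturated p) {M : Subgroup Ω}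
    (hM : F.IsCentric M) (hn : S ≤ Subgroup.normalizer (M : Set Ω))
    (hidx : (M.subgroupOf S).index = p)
    (hnon : ¬ ((autInducedBy S M).subgroupOf (F.autGroup M)).Normal) : F.IsEssential p M := by
  have hMS : M ≤ S := hM.1
  haveI := finite_of_le hMS
  haveI : Finite (MulAut M) :=
    Finite.of_injective (fun e : MulAut M => (e : M → M)) DFunLike.coe_injective
  have hN : normalizerIn S M = S := inf_eq_left.2 hn
  have hfn : F.IsFullyNormalized M := ⟨hMS, fun Q hQ => by
    rw [hN]; exact Subgroup.card_le_of_le inf_le_left⟩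
  set I := (Inn M).subgroupOf (F.autGroup M) with hI
  haveI hIn : I.Normal := ⟨fun a ha g => by
    obtain ⟨q, hq⟩ := Subgroup.mem_subgroupOf.1 ha
    refine Subgroup.mem_subgroupOf.2 ⟨(g : MulAut M) q, MulEquiv.ext fun b => ?_⟩
    simp only [Subgroup.coe_mul, Subgroup.coe_inv, MulAut.mul_apply, ← hq, MulAut.conj_apply,
      map_mul, map_inv, MulAut.apply_inv_self]⟩
  set π := QuotientGroup.mk' I
  set T0 := (autInducedBy S M).subgroupOf (F.autGroup M)
  obtain ⟨-, R, hR⟩ := fullyAutomized_of_fullyNormalized hS hF hfn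
  have hR' : (R : Subgroup (F.autGroup M)) = T0 := hR
  set T : Sylow p (F.autGroup M ⧸ I) := R.mapSurjective (QuotientGroup.mk'_surjective I)
  have hT : (T : Subgroup (F.autGroup M ⧸ I)) = T0.map π := by
    rw [Sylow.coe_mapSurjective, hR']
  have hIT : I ≤ T0 := fun a ha => Subgroup.mem_subgroupOf.2 (by
    have h := Subgroup.mem_subgroupOf.1 ha
    rw [inn_eq_autInducedBy] at h
    exact autInducedBy_mono hMS M h)
  have hnormT : ¬ (T : Subgroup (F.autGroup M ⧸ I)).Normal := by
    intro h
    rw [hT] at h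
    refine hnon ?_
    rw [show T0 = (T0.map π).comap π from
      (Subgroup.comap_map_eq_self (by rw [QuotientGroup.ker_mk']; exact hIT)).symm]
    exact h.comap π
  -- the image of `S` has order dividing `p`
  let f : ↥(normalizerIn S M) →* F.autGroup M ⧸ I := π.comp (cj F hMS)
  have hrange : T0.map π ≤ f.range := by
    rintro _ ⟨a, ha, rfl⟩
    obtain ⟨y, hy⟩ := exists_cj (F := F) hMS (Subgroup.mem_subgroupOf.1 ha)
    exact ⟨y, congrArg π hy⟩
  have hker : M.subgroupOf (normalizerIn S M) ≤ f.ker := fun y hy => by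
    refine MonoidHom.mem_ker.2 ((QuotientGroup.eq_one_iff _).2 ?_)
    exact Subgroup.mem_subgroupOf.2 ⟨⟨y, Subgroup.mem_subgroupOf.1 hy⟩,
      MulEquiv.ext fun b => Subtype.ext rfl⟩
  have hcardf : Nat.card f.range ∣ p := by
    rw [← Subgroup.index_ker, ← hidx]
    have := Subgroup.index_dvd_of_le hker
    rwa [show (M.subgroupOf (normalizerIn S M)).index = (M.subgroupOf S).index by rw [hN]] at this
  have hTp : Nat.card T = p := by
    have hd : Nat.card T ∣ p := by
      refine dvd_trans ?_ hcardf
      show Nat.card (T : Subgroup (F.autGroup M ⧸ I)) ∣ _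
      rw [hT]
      exact Subgroup.card_dvd_of_le hrange
    rcases (Nat.dvd_prime hp.out).1 hd with h | h
    · exfalso
      refine hnormT ?_
      rw [show (T : Subgroup (F.autGroup M ⧸ I)) = ⊥ from Subgroup.card_eq_one.1 h]
      infer_instance
    · exact h
  exact ⟨hM, hfn, hIn, spe_of_sylow_prime T hTp hnormT⟩

end Cfsg.Agent.Fus
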