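import Mathlib
import Cfsg.Agent.Lib.Invol.SPEmbedded
import Cfsg.Agent.Lib.Fus.TorusExt

/-!
A group of transvections of order at least `p²` with a common centre is incompatible with a
strongly `p`-embedded subgroup.
-/

set_option autoImplicit false
set_option linter.unusedSectionVars false
set_option linter.style.haveILetI false

universe u

namespace Cfsg.Agent.Fus

open Cfsg FusionSystem

section abstract

variable {E : Type*} [Group E] {X : Type*} [Group X] [Finite X] {p : ℕ} [hp : Fact p.Prime]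

/-- `T` consists of elements moving everything inside `⟨z⟩` and fixing `z`. -/
def IsCentred (ρ : X →* MulAut E) (T : Subgroup X) (z : E) : Prop :=
  ∀ t ∈ T, ρ t z = z ∧ ∀ v, ∃ i : ℤ, ρ t v = z ^ i * v

omit [Finite X] in
theorem IsCentred.conj {ρ : X →* MulAut E} {T : Subgroup X} {z : E} (h : IsCentred ρ T z) (g : X) :
    IsCentred ρ (T.map (MulAut.conj g).toMonoidHom) (ρ g z) := by
  rintro _ ⟨t, ht, rfl⟩
  obtain ⟨h1, h2⟩ := h t ht
  have e : ∀ v, ρ ((MulAut.conj g).toMonoidHom t) v = ρ g (ρ t ((ρ g)⁻¹ v)) := fun v => by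
    show ρ (g * t * g⁻¹) v = _
    simp [map_mul, MulAut.mul_apply]
  refine ⟨?_, fun v => ?_⟩
  · rw [e, MulAut.inv_apply_self, h1]
  · obtain ⟨i, hi⟩ := h2 ((ρ g)⁻¹ v)
    exact ⟨i, by rw [e, hi, map_mul, map_zpow, MulAut.apply_inv_self]⟩

omit [Finite X] in
/-- Some nontrivial element of a big group of transvections fixes a given vector. -/
theorem IsCentred.exists_fix {ρ : X →* MulAut E} {T : Subgroup X} {z : E} (h : IsCentred ρ T z)
    (hz : z ^ p = 1) (hT : p < Nat.card T) (w : E) : ∃ t ∈ T, t ≠ 1 ∧ ρ t w = w := by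
  let f : T →* Subgroup.zpowers z :=
    { toFun := fun t => ⟨ρ t w * w⁻¹, by
        obtain ⟨i, hi⟩ := (h t t.2).2 w
        exact ⟨i, by show z ^ i = ρ t w * w⁻¹; rw [hi, mul_inv_cancel_right]⟩⟩
      map_one' := Subtype.ext (by simp)
      map_mul' := fun s t => Subtype.ext (by
        obtain ⟨i, hi⟩ := (h s s.2).2 w
        obtain ⟨j, hj⟩ := (h t t.2).2 w
        simp only [Subgroup.coe_mul, map_mul, MulAut.mul_apply]
        rw [hj, map_mul, map_zpow, (h s s.2).1, hi]
        simp only [mul_inv_cancel_right]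
        rw [← mul_assoc, mul_inv_cancel_right, (Commute.refl z).zpow_zpow j i |>.eq]) }
  haveI : Finite T := Nat.finite_of_card_ne_zero (by omega)
  obtain ⟨s, t, hne, hst⟩ : ∃ s t : T, s ≠ t ∧ f s = f t := by
    by_contra hc
    push Not at hc
    have hinj : Function.Injective f := fun s t e => by
      by_contra hne
      exact hc s t hne e
    haveI : Finite (Subgroup.zpowers z) := by
      have : IsOfFinOrder z := isOfFinOrder_iff_pow_eq_one.2 ⟨p, hp.out.pos, hz⟩
      exact this.finite_zpowers.to_subtype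
    have h1 := Nat.card_le_card_of_injective f hinj
    rw [Nat.card_zpowers] at h1
    have := orderOf_le_of_pow_eq_one hp.out.pos hz
    omega
  refine ⟨((s⁻¹ * t : T) : X), (s⁻¹ * t).2, fun e => hne (inv_mul_eq_one.1 (Subtype.ext e)), ?_⟩
  have h1 : f (s⁻¹ * t) = 1 := by rw [map_mul, map_inv, hst, inv_mul_cancel]
  have h2 : ρ ((s⁻¹ * t : T) : X) w * w⁻¹ = 1 := congrArg Subtype.val h1
  exact mul_inv_eq_one.1 h2

/-- Transvection groups of order above `p` with a common centre exclude strong embedding. -/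
theorem transvection_spe_false (hc : ∀ a b : E, a * b = b * a) {ρ : X →* MulAut E}
    (hρ : Function.Injective ρ) {Y : Subgroup X} (hY : Cfsg.IsStronglyPEmbedded p Y)
    {T : Subgroup X} {z : E} (hz : z ^ p = 1) (hcen : IsCentred ρ T z) (hTp : IsPGroup p T)
    (hT : p < Nat.card T) : False := by
  obtain ⟨hd, hne, hcl⟩ := Invol.isStronglyPEmbedded_iff.1 hY
  obtain ⟨P, hPY⟩ := Invol.exists_sylow_le_of_classical hd hcl
  obtain ⟨P', hP'⟩ := hTp.exists_le_sylow
  obtain ⟨h, hh⟩ := MulAction.exists_smul_eq X P' P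
  set T₁ := T.map (MulAut.conj h).toMonoidHom
  have hT₁Y : T₁ ≤ Y := by
    refine le_trans ?_ hPY
    rw [← hh]
    rintro _ ⟨t, ht, rfl⟩
    exact ⟨t, hP' ht, rfl⟩
  have hz1 : (ρ h z) ^ p = 1 := by rw [← map_pow, hz, map_one]
  have hcen1 := hcen.conj h
  have hcard1 : Nat.card T₁ = Nat.card T :=
    Subgroup.card_map_of_injective (MulAut.conj h).injective
  have hT₁p : IsPGroup p T₁ := hTp.map _
  refine hne (eq_top_iff.2 fun g _ => ?_)
  by_contra hg
  obtain ⟨t, ht, ht1, htw⟩ := hcen1.exists_fix (p := p) hz1 (hcard1 ▸ hT) (ρ g (ρ h z))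
  have hcen2 := hcen1.conj g
  have hcard2 : Nat.card (T₁.map (MulAut.conj g).toMonoidHom) = Nat.card T₁ :=
    Subgroup.card_map_of_injective (MulAut.conj g).injective
  obtain ⟨t', ht', ht'1, ht'w⟩ := hcen2.exists_fix (p := p)
    (by rw [← map_pow, hz1, map_one]) (by rw [hcard2, hcard1]; exact hT) (ρ h z)
  have hcomm : t * t' = t' * t := by
    refine hρ (MulEquiv.ext fun v => ?_)
    obtain ⟨i, hi⟩ := (hcen1 t ht).2 v
    obtain ⟨j, hj⟩ := (hcen2 t' ht').2 v
    simp only [map_mul, MulAut.mul_apply]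
    rw [hj, hi, map_mul, map_mul, map_zpow, map_zpow, htw, ht'w, hi, hj, ← mul_assoc, ← mul_assoc,
      hc ((ρ g (ρ h z)) ^ j) ((ρ h z) ^ i)]
  have hQp : IsPGroup p ↥(Subgroup.zpowers t' ⊔ Subgroup.zpowers t) := by
    refine IsPGroup.to_sup_of_normal_right' ((hT₁p.map _).to_le (Subgroup.zpowers_le.2 ht'))
      (hT₁p.to_le (Subgroup.zpowers_le.2 ht)) ?_
    refine Subgroup.zpowers_le.2 (Subgroup.centralizer_le_normalizer _
      (Subgroup.mem_centralizer_iff.2 ?_))
    rintro _ ⟨k, rfl⟩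
    exact ((show Commute t t' from hcomm).zpow_left k).eq
  have hd1 : p ∣ Nat.card (Subgroup.zpowers t) := by
    obtain ⟨e, he⟩ := (hT₁p.to_le (Subgroup.zpowers_le.2 ht)).exists_card_eq
    rw [he]
    refine dvd_pow_self p fun h0 => ht1 ?_
    rw [h0, pow_zero, Subgroup.card_eq_one, Subgroup.zpowers_eq_bot] at he
    exact he
  obtain ⟨w, hw, hwo⟩ := Invol.exists_orderOf_prime_mem hd1
  have ht'Y : t' ∈ Y := Invol.pGroup_le_of_classical hcl hQp hwo (Subgroup.mem_sup_right hw)
    (hT₁Y (Subgroup.zpowers_le.2 ht hw)) (Subgroup.mem_sup_left (Subgroup.mem_zpowers t'))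
  have ht'g : t' ∈ Y.map (MulAut.conj g).toMonoidHom := Subgroup.map_mono hT₁Y ht'
  refine hcl g hg ?_
  have hd2 : p ∣ Nat.card (Subgroup.zpowers t') := by
    obtain ⟨e, he⟩ := ((hT₁p.map _).to_le (Subgroup.zpowers_le.2 ht')).exists_card_eq
    rw [he]
    refine dvd_pow_self p fun h0 => ht'1 ?_
    rw [h0, pow_zero, Subgroup.card_eq_one, Subgroup.zpowers_eq_bot] at he
    exact he
  exact hd2.trans (Subgroup.card_dvd_of_le
    (Subgroup.zpowers_le.2 (Subgroup.mem_inf.2 ⟨ht'Y, ht'g⟩)))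

end abstract

variable {Ω : Type u} [Group Ω] {S : Subgroup Ω} [Finite S] {p : ℕ} [hp : Fact p.Prime]
  {F : FusionSystem S}

/-- An abelian essential subgroup carries no large group of transvections with a common centre. -/
theorem essential_transvection_false {E : Subgroup Ω}
    (hE : F.IsEssential p E) (hc : ∀ a b : E, a * b = b * a) {T : Subgroup (F.autGroup E)}
    (hTp : IsPGroup p T) (hT : p < Nat.card T) {z : E} (hz : z ^ p = 1)
    (hcen : IsCentred (F.autGroup E).subtype T z) : False := by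
  obtain ⟨hEc, -, hn, Y, hY⟩ := hE
  haveI := hn
  haveI := finite_of_le hEc.1
  haveI : Finite (MulAut E) :=
    Finite.of_injective (fun e : MulAut E => (e : E → E)) DFunLike.coe_injective
  set I := (Inn E).subgroupOf (F.autGroup E) with hI
  have hIbot : I = ⊥ := by
    rw [eq_bot_iff]
    intro a ha
    obtain ⟨q, hq⟩ := Subgroup.mem_subgroupOf.1 ha
    refine Subgroup.mem_bot.2 (Subtype.ext ?_)
    rw [← hq]
    refine MulEquiv.ext fun b => ?_
    show q * b * q⁻¹ = b
    rw [hc q b, mul_inv_cancel_right]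
  let ρ : F.autGroup E ⧸ I →* MulAut E :=
    QuotientGroup.lift I (F.autGroup E).subtype (by rw [hIbot]; exact bot_le)
  have hρ : Function.Injective ρ := by
    intro a b h
    obtain ⟨a, rfl⟩ := QuotientGroup.mk_surjective a
    obtain ⟨b, rfl⟩ := QuotientGroup.mk_surjective b
    rw [show a = b from Subtype.ext h]
  have hinj : Function.Injective (QuotientGroup.mk' I) := by
    rw [← MonoidHom.ker_eq_bot_iff, QuotientGroup.ker_mk', hIbot]
  refine transvection_spe_false hc hρ hY hz (T := T.map (QuotientGroup.mk' I)) ?_ (hTp.map _)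
    (by rw [Subgroup.card_map_of_injective hinj]; exact hT)
  rintro _ ⟨t, ht, rfl⟩
  exact hcen t ht

end Cfsg.Agent.Fus
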