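import Mathlib
import Cfsg.Agent.Lib.Fus.CenterIndexSq
import Cfsg.Agent.Lib.Fus.TransvectionSPE
import Cfsg.Agent.Lib.Fus.EssentialSmall
import Cfsg.Agent.Lib.Grp.Frattini
import Cfsg.Agent.Lib.Fus.SolvableSystem

/-!
An extraspecial subgroup of index `p` in a saturated system with trivial core contains the centre.
-/

set_option autoImplicit false
set_option linter.style.haveILetI false
set_option linter.unusedSectionVars false

open scoped Classical

universe u

namespace Cfsg.Agent.Fus.ExtraIdx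

open Subgroup FusionSystem

variable {Ω : Type u} [Group Ω] {S : Subgroup Ω} [Finite S] {p : ℕ} [hp : Fact p.Prime]
  {F : FusionSystem S}

/-- An essential subgroup has no invariant chain `1 < ⟨c⟩ < E` centralized by all of `S`. -/
theorem chain_false (hS : IsPGroup p S) {E : Subgroup Ω} (hE : F.IsEssential p E) (hlt : E < S)
    (hES : S ≤ Subgroup.normalizer (E : Set Ω)) {c : Ω} (hcE : c ∈ E) (hcp : c ^ p = 1)
    (hcS : ∀ s ∈ S, s * c = c * s) (hcomm : ∀ s ∈ S, ∀ y ∈ E, s * y * s⁻¹ * y⁻¹ ∈ zpowers c)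
    (hinv : ∀ α ∈ F.autGroup E, autFun α c ∈ zpowers c) : False := by
  haveI := finite_of_le hlt.le
  haveI : Finite (MulAut E) :=
    Finite.of_injective (fun e : MulAut E => (e : E → E)) DFunLike.coe_injective
  have hfun : ∀ {α : MulAut E} {y : Ω} (hy : y ∈ E), autFun α y = ((α ⟨y, hy⟩ : E) : Ω) :=
    fun {α y} hy => autFun_coe α ⟨y, hy⟩
  have hmul : ∀ (α : MulAut E) {y w : Ω}, y ∈ E → w ∈ E →
      autFun α (y * w) = autFun α y * autFun α w := fun α y w hy hw => by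
    rw [hfun hy, hfun hw, hfun (E.mul_mem hy hw), ← Subgroup.coe_mul, ← map_mul]
    rfl
  have hzp : ∀ (α : MulAut E), autFun α c = c → ∀ x ∈ zpowers c, autFun α x = x := by
    intro α hα x hx
    obtain ⟨i, rfl⟩ := hx
    show autFun α (c ^ i) = c ^ i
    rw [hfun (E.zpow_mem hcE i),
      show (⟨c ^ i, E.zpow_mem hcE i⟩ : E) = (⟨c, hcE⟩ : E) ^ i from rfl, map_zpow,
      Subgroup.coe_zpow, ← hfun hcE, hα]
  obtain ⟨K, hK⟩ : ∃ K : Subgroup (F.autGroup E), ∀ g : F.autGroup E,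
      g ∈ K ↔ autFun (g : MulAut E) c = c ∧
        ∀ y ∈ E, autFun (g : MulAut E) y * y⁻¹ ∈ zpowers c := by
    refine ⟨{
      carrier := {g | autFun (g : MulAut E) c = c ∧
        ∀ y ∈ E, autFun (g : MulAut E) y * y⁻¹ ∈ zpowers c}
      one_mem' := ?_
      mul_mem' := ?_
      inv_mem' := ?_ }, fun g => Iff.rfl⟩
    · rintro a b ⟨a1, a2⟩ ⟨b1, b2⟩
      refine ⟨by rw [Subgroup.coe_mul, autFun_mul _ _ hcE, b1, a1], fun y hy => ?_⟩
      have h1 := autFun_mem (b : MulAut E) hy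
      rw [Subgroup.coe_mul, autFun_mul _ _ hy,
        show autFun (a : MulAut E) (autFun (b : MulAut E) y) * y⁻¹ =
          (autFun (a : MulAut E) (autFun (b : MulAut E) y) * (autFun (b : MulAut E) y)⁻¹) *
            (autFun (b : MulAut E) y * y⁻¹) by group]
      exact mul_mem (a2 _ h1) (b2 y hy)
    · exact ⟨autFun_one hcE, fun y hy => by
        rw [Subgroup.coe_one, autFun_one hy, mul_inv_cancel]; exact one_mem _⟩
    · rintro a ⟨a1, a2⟩
      have h1 : autFun ((a⁻¹ : F.autGroup E) : MulAut E) c = c := by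
        rw [Subgroup.coe_inv]
        conv_lhs => rw [← a1]
        rw [autFun_inv_apply _ hcE]
      refine ⟨h1, fun y hy => ?_⟩
      rw [Subgroup.coe_inv] at h1 ⊢
      have h2 := autFun_mem (a : MulAut E)⁻¹ hy
      have h3 := a2 _ h2
      rw [← autFun_mul _ _ hy, mul_inv_cancel, autFun_one hy] at h3
      have h4 := inv_mem h3
      rwa [mul_inv_rev, inv_inv] at h4
  haveI hKn : K.Normal := ⟨fun k hk g => by
    obtain ⟨k1, k2⟩ := (hK k).1 hk
    have hginv : autFun ((g : MulAut E)⁻¹) c ∈ zpowers c := hinv _ (inv_mem g.2)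
    refine (hK _).2 ⟨?_, fun y hy => ?_⟩
    · simp only [Subgroup.coe_mul, Subgroup.coe_inv]
      rw [autFun_mul _ _ hcE, autFun_mul _ _ (autFun_mem _ hcE), hzp _ k1 _ hginv,
        ← autFun_mul _ _ hcE, mul_inv_cancel, autFun_one hcE]
    · simp only [Subgroup.coe_mul, Subgroup.coe_inv]
      obtain ⟨w, hw, hwd⟩ : ∃ w ∈ E, w = autFun ((g : MulAut E)⁻¹) y :=
        ⟨_, autFun_mem _ hy, rfl⟩
      have hy' : autFun (g : MulAut E) w = y := by
        rw [hwd, ← autFun_mul _ _ hy, mul_inv_cancel, autFun_one hy]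
      rw [autFun_mul _ _ hy, autFun_mul _ _ (autFun_mem _ hy), ← hwd]
      obtain ⟨i, hi⟩ := k2 w hw
      have hi : c ^ i = autFun (k : MulAut E) w * w⁻¹ := hi
      rw [show autFun (k : MulAut E) w = c ^ i * w by rw [hi, inv_mul_cancel_right],
        hmul _ (E.zpow_mem hcE i) hw, hy', mul_inv_cancel_right, hfun (E.zpow_mem hcE i),
        show (⟨c ^ i, E.zpow_mem hcE i⟩ : E) = (⟨c, hcE⟩ : E) ^ i from rfl, map_zpow,
        Subgroup.coe_zpow, ← hfun hcE]
      exact zpow_mem (hinv _ g.2) i⟩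
  have hKp : IsPGroup p K := fun k => ⟨1, by
    obtain ⟨k1, k2⟩ := (hK k).1 k.2
    refine Subtype.ext (Subtype.ext (MulEquiv.ext fun y => Subtype.ext ?_))
    simp only [Subgroup.coe_pow, Subgroup.coe_one, pow_one, MulAut.one_apply]
    obtain ⟨a, ha, had⟩ : ∃ a ∈ zpowers c, a = autFun ((k : F.autGroup E) : MulAut E) y * (y : Ω)⁻¹ :=
      ⟨_, k2 y y.2, rfl⟩
    have haE : a ∈ E := Subgroup.zpowers_le.2 hcE ha
    have key : ∀ n : ℕ, autFun ((((k : F.autGroup E) : MulAut E)) ^ n) y = a ^ n * y := by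
      intro n
      induction n with
      | zero => rw [pow_zero, pow_zero, autFun_one y.2, one_mul]
      | succ n ih =>
        rw [pow_succ', autFun_mul _ _ y.2, ih, hmul _ (E.pow_mem haE n) y.2,
          hzp _ k1 _ (Subgroup.pow_mem _ ha n), pow_succ, mul_assoc (a ^ n) a, had,
          inv_mul_cancel_right]
    have hap : a ^ p = 1 := by
      obtain ⟨i, rfl⟩ := ha
      show (c ^ i) ^ p = 1
      rw [← zpow_natCast, ← zpow_mul, mul_comm, zpow_mul, zpow_natCast, hcp, one_zpow]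
    rw [← autFun_coe, key, hap, one_mul]⟩
  obtain ⟨s, hs, hsE⟩ := SetLike.exists_of_lt hlt
  have hrad := radical_of_essential hS hE
  let e : MulAut E := (Subgroup.normalizerMonoidHom E) ⟨s, hES hs⟩
  have he : ∀ y : E, ((e y : E) : Ω) = s * y * s⁻¹ := fun y => rfl
  have hem : e ∈ F.autGroup E :=
    autInducedBy_le_autGroup F hlt.le (mem_autInducedBy.2 ⟨s, hs, he⟩)
  have heK : (⟨e, hem⟩ : F.autGroup E) ∈ K := (hK _).2 ⟨by
    rw [hfun hcE, he, hcS s hs, mul_inv_cancel_right],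
    fun y hy => by rw [hfun hy, he]; exact hcomm s hs y hy⟩
  have hinn : e ∈ Inn E := hrad.2 ▸ ⟨_, Grp.le_pCore hKn hKp heK, rfl⟩
  obtain ⟨q, hq⟩ := hinn
  refine hsE ?_
  have hcs : (q : Ω)⁻¹ * s ∈ centralizerIn S E := mem_centralizerIn.2
    ⟨S.mul_mem (S.inv_mem (hlt.le q.2)) hs, fun y hy => by
      have h1 : (q : Ω) * y * (q : Ω)⁻¹ = s * y * s⁻¹ := by
        rw [← he ⟨y, hy⟩, ← hq]; rfl
      calc y * ((q : Ω)⁻¹ * s) = (q : Ω)⁻¹ * ((q : Ω) * y * (q : Ω)⁻¹) * s := by group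
        _ = (q : Ω)⁻¹ * s * y := by rw [h1]; group⟩
  have h2 := E.mul_mem q.2 (centralizerIn_le_of_centric hE.1 hcs)
  rwa [mul_inv_cancel_left] at h2

/-- The theorem. -/
theorem center_eq (hodd : Odd p) (hS : IsPGroup p S) {Q : Subgroup Ω} (hQS : Q ≤ S)
    (hQ : IsExtraspecial p ↥Q) (hQi : (Q.subgroupOf S).index = p) (hF : F.IsSaturated p)
    (hO : F.core = ⊥) :
    S ⊓ Subgroup.centralizer (S : Set Ω) = Q ⊓ Subgroup.centralizer (Q : Set Ω) := by
  obtain ⟨⟨hQp, hΦ, hcommQ⟩, hcard⟩ := hQ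
  haveI : Finite Q := finite_of_le hQS
  obtain ⟨Z, hZdef⟩ : ∃ Z, Z = Q ⊓ Subgroup.centralizer (Q : Set Ω) := ⟨_, rfl⟩
  have hZc : ∀ x : Q, x ∈ Subgroup.center Q ↔ (x : Ω) ∈ Z := fun x => by
    rw [hZdef, Subgroup.mem_center_iff, Subgroup.mem_inf, Subgroup.mem_centralizer_iff]
    exact ⟨fun h => ⟨x.2, fun y hy => congrArg Subtype.val (h ⟨y, hy⟩)⟩,
      fun h y => Subtype.ext (h.2 y y.2)⟩
  have hZQ : Z ≤ Q := hZdef ▸ inf_le_left
  obtain ⟨c, hc⟩ : ∃ c, c ∈ Z ∧ orderOf c = p ∧ ∀ y ∈ Z, y ∈ zpowers c := by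
    obtain ⟨c, hco⟩ := exists_prime_orderOf_dvd_card' (G := Subgroup.center Q) p (dvd_of_eq hcard.symm)
    refine ⟨((c : Q) : Ω), (hZc _).1 c.2, by rw [Subgroup.orderOf_coe, Subgroup.orderOf_coe, hco],
      fun y hy => ?_⟩
    have h1 : (⟨⟨y, hZQ hy⟩, (hZc _).2 hy⟩ : Subgroup.center Q) ∈ zpowers c :=
      mem_zpowers_of_prime_card hcard (fun e => hp.out.ne_one (by rw [← hco, e, orderOf_one]))
    obtain ⟨i, hi⟩ := h1
    exact ⟨i, by simpa using congrArg (fun w : Subgroup.center Q => ((w : Q) : Ω)) hi⟩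
  obtain ⟨hcZ, hco, hcgen⟩ := hc
  have hc1 : c ≠ 1 := fun e => hp.out.ne_one (by rw [← hco, e, orderOf_one])
  have hcp : c ^ p = 1 := hco ▸ pow_orderOf_eq_one c
  haveI : Group.IsNilpotent S := hS.isNilpotent
  haveI hQn : (Q.subgroupOf S).Normal := by
    obtain ⟨n, hn⟩ := hS.exists_card_eq
    refine Subgroup.normal_of_index_eq_minFac_card ?_
    rw [hQi, hn]
    rcases eq_or_ne n 0 with rfl | hn0
    · exfalso
      have h1 := (Q.subgroupOf S).index_dvd_card
      rw [hn, pow_zero, hQi, Nat.dvd_one] at h1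
      exact hp.out.ne_one h1
    · rw [Nat.pow_minFac hn0, hp.out.minFac_eq]
  have hQnorm : ∀ s ∈ S, ∀ x ∈ Q, s * x * s⁻¹ ∈ Q := fun s hs x hx =>
    hQn.conj_mem ⟨x, hQS hx⟩ hx ⟨s, hs⟩
  have hle : Q ⊓ Subgroup.centralizer (Q : Set Ω) ≤ S ⊓ Subgroup.centralizer (S : Set Ω) := by
    rw [← hZdef]
    haveI : (Z.subgroupOf S).Normal := ⟨fun x hx s => by
      rw [Subgroup.mem_subgroupOf, hZdef] at hx ⊢
      refine ⟨hQnorm s s.2 x hx.1, Subgroup.mem_centralizer_iff.2 fun y hy => ?_⟩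
      have h1 := Subgroup.mem_centralizer_iff.1 hx.2 ((s : Ω)⁻¹ * y * (s : Ω)⁻¹⁻¹)
        (hQnorm _ (S.inv_mem s.2) y hy)
      simp only [Subgroup.coe_mul, Subgroup.coe_inv]
      calc y * ((s : Ω) * x * (s : Ω)⁻¹)
          = (s : Ω) * (((s : Ω)⁻¹ * y * (s : Ω)⁻¹⁻¹) * x) * (s : Ω)⁻¹ := by group
        _ = (s : Ω) * x * (s : Ω)⁻¹ * y := by rw [h1]; group⟩
    have hne : Z.subgroupOf S ≠ ⊥ := fun e => hc1 (by
      have h1 : (⟨c, hQS (hZQ hcZ)⟩ : S) ∈ Z.subgroupOf S := hcZ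
      rw [e, Subgroup.mem_bot] at h1
      exact congrArg Subtype.val h1)
    obtain ⟨w, hw, hw1⟩ := (Subgroup.bot_or_exists_ne_one _).resolve_left
      (Grp.inf_center_ne_bot _ hne)
    intro x hx
    refine Subgroup.mem_inf.2 ⟨hQS (hZQ hx), Subgroup.mem_centralizer_iff.2 fun y hy => ?_⟩
    have h1 : zpowers c ≤ zpowers ((w : Ω)) := by
      obtain ⟨i, hi⟩ := hcgen _ hw.1
      have hi : c ^ i = (w : Ω) := hi
      have hord : orderOf (w : Ω) = p := orderOf_eq_prime (by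
        rw [← hi]
        show (c ^ i) ^ p = 1
        rw [← zpow_natCast, ← zpow_mul, mul_comm, zpow_mul, zpow_natCast, hcp, one_zpow])
        fun e => hw1 (Subtype.ext e)
      haveI : Finite (zpowers c) := by
        refine Nat.finite_of_card_ne_zero ?_
        rw [Nat.card_zpowers, hco]
        exact hp.out.ne_zero
      refine (Subgroup.eq_of_le_of_card_ge ?_ ?_).ge
      · exact Subgroup.zpowers_le.2 ⟨i, hi⟩
      · rw [Nat.card_zpowers, Nat.card_zpowers, hco, hord]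
    obtain ⟨j, hj⟩ := h1 (hcgen x hx)
    rw [← hj]
    have h2 : Commute (w : Ω) y :=
      (congrArg Subtype.val (Subgroup.mem_center_iff.1 hw.2 ⟨y, hy⟩)).symm
    exact (h2.zpow_left j).symm.eq
  refine le_antisymm ?_ hle
  by_contra hne
  obtain ⟨z0, hz0, hz0Z⟩ := SetLike.not_le_iff_exists.1 hne
  have hz0S : ∀ y ∈ S, y * z0 = z0 * y := fun y hy => Subgroup.mem_centralizer_iff.1 hz0.2 y hy
  have hz0Q : z0 ∉ Q := fun h => hz0Z ⟨h, Subgroup.mem_centralizer_iff.2 fun y hy => hz0S y (hQS hy)⟩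
  have hsup : Q ⊔ zpowers z0 = S := by
    have hle' : Q ⊔ zpowers z0 ≤ S := sup_le hQS (Subgroup.zpowers_le.2 hz0.1)
    refine le_antisymm hle' ?_
    have h1 : Q.subgroupOf S < (Q ⊔ zpowers z0).subgroupOf S := by
      refine lt_of_le_of_ne (Subgroup.comap_mono le_sup_left) fun e => hz0Q ?_
      have h2 : (⟨z0, hz0.1⟩ : S) ∈ (Q ⊔ zpowers z0).subgroupOf S :=
        Subgroup.mem_sup_right (mem_zpowers z0)
      rwa [← e] at h2
    have h3 := Subgroup.index_strictAnti h1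
    rw [hQi] at h3
    have h4 := Subgroup.index_dvd_of_le h1.le
    rw [hQi] at h4
    rcases (Nat.dvd_prime hp.out).1 h4 with h | h
    · exact Subgroup.subgroupOf_eq_top.1 (Subgroup.index_eq_one.1 h)
    · omega
  have hdec : ∀ y ∈ S, ∃ q ∈ Q, ∃ i : ℤ, q * z0 ^ i = y := fun y hy => by
    rw [← hsup] at hy
    obtain ⟨q, hq, w, ⟨i, rfl⟩, rfl⟩ := mem_sup_dest (le_trans (fun q hq =>
      Subgroup.centralizer_le_normalizer _ (Subgroup.mem_centralizer_iff.2 (by
        rintro _ ⟨i, rfl⟩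
        exact ((show Commute z0 q from (hz0S q (hQS hq)).symm).zpow_left i).eq))) le_rfl) hy
    exact ⟨q, hq, i, rfl⟩
  have hcomm : ∀ x ∈ S, ∀ y ∈ S, x * y * x⁻¹ * y⁻¹ ∈ zpowers c := by
    intro x hx y hy
    obtain ⟨q, hq, i, rfl⟩ := hdec x hx
    obtain ⟨r, hr, j, rfl⟩ := hdec y hy
    have hi : ∀ (w : Ω), w ∈ S → ∀ k : ℤ, Commute (z0 ^ k) w := fun w hw k =>
      ((show Commute z0 w from (hz0S w hw).symm).zpow_left k)
    have h1 : q * z0 ^ i * (r * z0 ^ j) * (q * z0 ^ i)⁻¹ * (r * z0 ^ j)⁻¹ = q * r * q⁻¹ * r⁻¹ := by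
      rw [mul_inv_rev, mul_inv_rev]
      calc q * z0 ^ i * (r * z0 ^ j) * ((z0 ^ i)⁻¹ * q⁻¹) * ((z0 ^ j)⁻¹ * r⁻¹)
          = q * (z0 ^ i * (r * z0 ^ j) * (z0 ^ i)⁻¹) * q⁻¹ * (z0 ^ j)⁻¹ * r⁻¹ := by group
        _ = q * r * (z0 ^ j * q⁻¹ * (z0 ^ j)⁻¹) * r⁻¹ := by
            rw [(hi _ (S.mul_mem (hQS hr) (S.zpow_mem hz0.1 j)) i).eq, mul_inv_cancel_right]
            group
        _ = q * r * q⁻¹ * r⁻¹ := by
            rw [(hi _ (S.inv_mem (hQS hq)) j).eq, mul_inv_cancel_right]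
    rw [h1]
    refine hcgen _ ((hZc ⟨_, Q.mul_mem (Q.mul_mem (Q.mul_mem hq hr) (Q.inv_mem hq)) (Q.inv_mem hr)⟩).1 ?_)
    rw [← hcommQ, _root_.commutator_def]
    exact Subgroup.commutator_mem_commutator (Subgroup.mem_top (⟨q, hq⟩ : Q))
      (Subgroup.mem_top (⟨r, hr⟩ : Q))
  have hcS : c ∈ zS S := by
    have := hle (hZdef ▸ hcZ : c ∈ Q ⊓ Subgroup.centralizer (Q : Set Ω))
    exact this
  have hcentral : ∀ s ∈ S, s * c = c * s := fun s hs => (mem_zS.1 hcS).2 s hs
  by_cases hidx : (Subgroup.center ↥S).index ≤ p ^ 2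
  · have hna : ¬ ∀ a ∈ S, ∀ b ∈ S, a * b = b * a := fun hab => by
      refine hc1 (Subgroup.mem_bot.1 ?_)
      rw [← hO]
      exact le_core (isNormal_top_of_comm hS hF hab) (hQS (hZQ hcZ))
    obtain ⟨z, hfr⟩ := exists_frame hS hna hidx
    obtain ⟨P, hP⟩ : ∃ P, F.IsEssential p P := by
      by_contra hcon
      push Not at hcon
      refine hc1 (Subgroup.mem_bot.1 (hO ▸ le_core (isNormal_of_essential hS hF le_rfl
        (fun α _ t ht => autFun_mem α ht) fun P hP => absurd hP (hcon P)) (hQS (hZQ hcZ))))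
    obtain ⟨x, s, h⟩ := exists_essFacts hfr hS hF hP
    have hW := wSubP_eq_bot_of_odd hfr hS hF hO (fun e => by
      subst e; exact absurd hodd (by decide)) h
    have hz : ∀ y ∈ zS S, ∃ i : ℤ, z ^ i = y := fun y hy => by
      obtain ⟨j, hj⟩ := h.dec y hy
      rw [hW, Subgroup.mem_bot] at hj
      exact ⟨-(j : ℤ), by rw [zpow_neg, zpow_natCast]; exact (eq_inv_of_mul_eq_one_left hj).symm⟩
    obtain ⟨i, hi⟩ := hz c hcS
    obtain ⟨j, hj⟩ := hz z0 hz0
    have h1 : orderOf z = p := orderOf_eq_prime hfr.pow_eq hfr.ne_one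
    haveI : Finite (zpowers z) := by
      refine Nat.finite_of_card_ne_zero ?_
      rw [Nat.card_zpowers, h1]
      exact hp.out.ne_zero
    have h2 : zpowers c = zpowers z := by
      refine Subgroup.eq_of_le_of_card_ge (Subgroup.zpowers_le.2 ⟨i, hi⟩) ?_
      rw [Nat.card_zpowers, Nat.card_zpowers, hco, h1]
    exact hz0Q (hZQ (by
      have h3 : z0 ∈ zpowers c := h2 ▸ ⟨j, hj⟩
      exact Subgroup.zpowers_le.2 hcZ h3))
  obtain ⟨E, hE⟩ : ∃ E, F.IsEssential p E := by
    by_contra hcon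
    push Not at hcon
    refine hc1 (Subgroup.mem_bot.1 (hO ▸ le_core (isNormal_of_essential hS hF le_rfl
      (fun α _ t ht => autFun_mem α ht) fun P hP => absurd hP (hcon P)) (hQS (hZQ hcZ))))
  have hES : E ≤ S := hE.1.1
  haveI := finite_of_le hES
  haveI : Finite (MulAut E) :=
    Finite.of_injective (fun e : MulAut E => (e : E → E)) DFunLike.coe_injective
  have hcE : c ∈ E := centralizerIn_le_of_centric hE.1
    (mem_centralizerIn.2 ⟨hcS.1, fun y hy => hcentral y (hES hy)⟩)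
  have hEn : S ≤ Subgroup.normalizer (E : Set Ω) := fun s hs => by
    have key : ∀ t ∈ S, ∀ y ∈ E, t * y * t⁻¹ ∈ E := fun t ht y hy => by
      have h1 := E.mul_mem (Subgroup.zpowers_le.2 hcE (hcomm t ht y (hES hy))) hy
      rwa [inv_mul_cancel_right] at h1
    exact mem_normalizer_of_forall (key s hs) fun y hy => by simpa using key s⁻¹ (S.inv_mem hs) y hy
  have hlt : E < S := lt_of_le_of_ne hES fun e => by
    obtain ⟨-, hn, hnI, W, hsp, -⟩ := hE
    subst e
    obtain ⟨-, R, hR⟩ := fullyAutomized_of_fullyNormalized hS hF hn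
    rw [← inn_eq_autInducedBy] at hR
    haveI := hnI
    exact R.not_dvd_index (hR ▸ hsp)
  have hfalse : ∀ w ∈ E, w ≠ 1 → w ∈ zpowers c →
      (∀ α ∈ F.autGroup E, autFun α w ∈ zpowers c) → False := fun w hw hw1 hwc hinv => by
    obtain ⟨i, hi⟩ := hwc
    have hord : orderOf w = p := orderOf_eq_prime (by
      rw [← hi]
      show (c ^ i) ^ p = 1
      rw [← zpow_natCast, ← zpow_mul, mul_comm, zpow_mul, zpow_natCast, hcp, one_zpow]) hw1
    haveI : Finite (zpowers c) := by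
      refine Nat.finite_of_card_ne_zero ?_
      rw [Nat.card_zpowers, hco]
      exact hp.out.ne_zero
    have h2 : zpowers w = zpowers c := by
      refine Subgroup.eq_of_le_of_card_ge (Subgroup.zpowers_le.2 ⟨i, hi⟩) ?_
      rw [Nat.card_zpowers, Nat.card_zpowers, hco, hord]
    obtain ⟨j, hj⟩ : c ∈ zpowers w := h2 ▸ mem_zpowers c
    refine chain_false hS hE hlt hEn hcE hcp hcentral (fun s hs y hy => hcomm s hs y (hES hy))
      fun α hα => ?_
    rw [show autFun α c = autFun α (w ^ j) from congrArg _ hj.symm, show w ^ j = (((⟨w, hw⟩ : E) ^ j : E) : Ω) from rfl, autFun_coe, map_zpow,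
      Subgroup.coe_zpow, ← autFun_coe]
    exact zpow_mem (hinv α hα) j
  have hab : ∀ a b : E, a * b = b * a := by
    intro a b
    by_contra hab
    refine hfalse ((a * b * a⁻¹ * b⁻¹ : E) : Ω) (SetLike.coe_mem _) (fun e => hab ?_)
      (hcomm a (hES a.2) b (hES b.2)) fun α _ => ?_
    · have e' : a * b * a⁻¹ * b⁻¹ = 1 := Subtype.ext e
      rw [mul_inv_eq_one, mul_inv_eq_iff_eq_mul] at e'
      exact e'
    · rw [autFun_coe]
      simp only [map_mul, map_inv, Subgroup.coe_mul, Subgroup.coe_inv]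
      exact hcomm _ (hES (α a).2) _ (hES (α b).2)
  obtain ⟨T, hT⟩ : ∃ T, T = (autInducedBy S E).subgroupOf (F.autGroup E) := ⟨_, rfl⟩
  have hTcard : Nat.card T = Nat.card (autInducedBy S E) := by
    rw [hT, Nat.card_congr (Subgroup.subgroupOfEquivOfLe (autInducedBy_le_autGroup F hES)).toEquiv]
  by_cases hbig : p < Nat.card T
  · refine essential_transvection_false hE hab (T := T) (hT ▸
      (isPGroup_autInducedBy hS E).comap_subtype) hbig (z := ⟨c, hcE⟩)
      (Subtype.ext (by simpa using hcp)) fun t ht => ?_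
    rw [hT] at ht
    obtain ⟨s, hs, hse⟩ := mem_autInducedBy.1 (Subgroup.mem_subgroupOf.1 ht)
    refine ⟨Subtype.ext ?_, fun v => ?_⟩
    · show ((((t : F.autGroup E) : MulAut E) ⟨c, hcE⟩ : E) : Ω) = c
      rw [hse, hcentral s hs, mul_inv_cancel_right]
    · obtain ⟨i, hi⟩ := hcomm s hs v (hES v.2)
      have hi : c ^ i = s * v * s⁻¹ * (v : Ω)⁻¹ := hi
      refine ⟨i, Subtype.ext ?_⟩
      show ((((t : F.autGroup E) : MulAut E) v : E) : Ω) = _
      rw [hse, Subgroup.coe_mul, Subgroup.coe_zpow, hi, inv_mul_cancel_right]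
  · push Not at hbig
    rw [hTcard, autInducedBy_eq_map] at hbig
    -- `E` has index at most `p` in `S`
    let φ : S →* MulAut E := (Subgroup.normalizerMonoidHom E).comp (Subgroup.inclusion hEn)
    have hφr : Nat.card φ.range ≤ p := by
      refine le_trans (le_of_eq ?_) hbig
      rw [show φ.range = (S.subgroupOf (Subgroup.normalizer (E : Set Ω))).map
        E.normalizerMonoidHom by
          rw [MonoidHom.range_comp, Subgroup.inclusion_range]]
    have hker : Nat.card φ.ker ≤ Nat.card E := by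
      refine Nat.card_le_card_of_injective (fun x : φ.ker => (⟨((x : S) : Ω),
        centralizerIn_le_of_centric hE.1 (mem_centralizerIn.2 ⟨(x : S).2, fun y hy => ?_⟩)⟩ : E))
        fun a b h => Subtype.ext (Subtype.ext (congrArg (fun w : E => (w : Ω)) h))
      have h1 := congrArg (fun e : MulAut E => ((e ⟨y, hy⟩ : E) : Ω)) (MonoidHom.mem_ker.1 x.2)
      have h2 : ((x : S) : Ω) * y * ((x : S) : Ω)⁻¹ = y := h1
      exact (mul_inv_eq_iff_eq_mul.1 h2).symm
    have hSE : Nat.card S ≤ Nat.card E * p := by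
      rw [φ.ker.card_eq_card_quotient_mul_card_subgroup,
        Nat.card_congr (QuotientGroup.quotientKerEquivRange φ).toEquiv, mul_comm]
      exact Nat.mul_le_mul hker hφr
    obtain ⟨s, hs, hsE⟩ := SetLike.exists_of_lt hlt
    let f : E →* Subgroup.zpowers c := MonoidHom.mk' (fun y => ⟨s * y * s⁻¹ * (y : Ω)⁻¹,
      hcomm s hs y (hES y.2)⟩) fun a b => Subtype.ext (by
        obtain ⟨i, hi⟩ := hcomm s hs b (hES b.2)
        have hi : c ^ i = s * b * s⁻¹ * (b : Ω)⁻¹ := hi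
        have hca : Commute (c ^ i) (a : Ω)⁻¹ :=
          ((show Commute c (a : Ω) from (hcentral a (hES a.2)).symm).zpow_left i).inv_right
        show s * ((a : Ω) * b) * s⁻¹ * ((a : Ω) * b)⁻¹ =
          (s * a * s⁻¹ * (a : Ω)⁻¹) * (s * b * s⁻¹ * (b : Ω)⁻¹)
        calc s * ((a : Ω) * b) * s⁻¹ * ((a : Ω) * b)⁻¹
            = (s * a * s⁻¹) * (s * b * s⁻¹ * (b : Ω)⁻¹) * (a : Ω)⁻¹ := by group
          _ = (s * a * s⁻¹ * (a : Ω)⁻¹) * (s * b * s⁻¹ * (b : Ω)⁻¹) := by
            rw [← hi, mul_assoc, hca.eq, ← mul_assoc])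
    have hfk : Nat.card f.ker ≤ Nat.card (Subgroup.center S) := by
      refine Nat.card_le_card_of_injective (fun x : f.ker => (⟨⟨((x : E) : Ω), hES (x : E).2⟩, ?_⟩ :
        Subgroup.center S)) fun a b h => Subtype.ext (Subtype.ext
          (congrArg (fun w : Subgroup.center S => ((w : S) : Ω)) h))
      have hsx : s * (x : E) = (x : E) * s := by
        have h1 := congrArg Subtype.val (MonoidHom.mem_ker.1 x.2)
        exact mul_inv_eq_iff_eq_mul.1 (mul_inv_eq_one.1 h1)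
      have hEs : E ⊔ zpowers s = S := by
        have hles : E ⊔ zpowers s ≤ S := sup_le hES (Subgroup.zpowers_le.2 hs)
        haveI := finite_of_le hles
        have hlt' : E < E ⊔ zpowers s := lt_of_le_of_ne le_sup_left
          fun e => hsE (e ▸ Subgroup.mem_sup_right (mem_zpowers s))
        refine Subgroup.eq_of_le_of_card_ge hles (hSE.trans ?_)
        obtain ⟨k, hk⟩ := (hS.to_le hES).exists_card_eq
        obtain ⟨l, hl⟩ := (hS.to_le hles).exists_card_eq
        have hcl := card_lt_of_lt hlt'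
        rw [hk, hl] at hcl ⊢
        rw [← pow_succ]
        exact Nat.pow_le_pow_right hp.out.pos ((Nat.pow_lt_pow_iff_right hp.out.one_lt).1 hcl)
      rw [Subgroup.mem_center_iff]
      intro y
      refine Subtype.ext ?_
      show (y : Ω) * (x : E) = (x : E) * (y : Ω)
      have hmem : (y : Ω) ∈ E ⊔ zpowers s := hEs.symm ▸ y.2
      have hle2 : E ⊔ zpowers s ≤ Subgroup.centralizer {((x : E) : Ω)} :=
        sup_le (fun e he => Subgroup.mem_centralizer_singleton_iff.2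
          (congrArg Subtype.val (hab ⟨e, he⟩ (x : E))))
          (Subgroup.zpowers_le.2 (Subgroup.mem_centralizer_singleton_iff.2 hsx))
      exact Subgroup.mem_centralizer_singleton_iff.1 (hle2 hmem)
    refine hidx ?_
    have hfE : Nat.card E ≤ p * Nat.card (Subgroup.center S) := by
      rw [f.ker.card_eq_card_quotient_mul_card_subgroup,
        Nat.card_congr (QuotientGroup.quotientKerEquivRange f).toEquiv]
      refine Nat.mul_le_mul ?_ hfk
      haveI : Finite (zpowers c) := by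
        refine Nat.finite_of_card_ne_zero ?_
        rw [Nat.card_zpowers, hco]
        exact hp.out.ne_zero
      exact (Subgroup.card_le_card_group f.range).trans_eq (by rw [Nat.card_zpowers, hco])
    have h3 := (Subgroup.center S).card_mul_index
    have h4 : 0 < Nat.card (Subgroup.center S) := Nat.card_pos
    refine Nat.le_of_mul_le_mul_left ?_ h4
    rw [h3]
    calc Nat.card S ≤ Nat.card E * p := hSE
      _ ≤ p * Nat.card (Subgroup.center S) * p := Nat.mul_le_mul_right p hfE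
      _ = Nat.card (Subgroup.center S) * p ^ 2 := by ring

end Cfsg.Agent.Fus.ExtraIdx
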