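import Cfsg.Agent.Lib.Fus.CharInner
import Cfsg.Agent.Lib.Fus.Hyperfocal
import Cfsg.Agent.Lib.Fus.Supersoluble

/-!
Extremely sparse saturated fusion systems: one automorphism of prime order on the whole group.
-/

set_option autoImplicit false
set_option linter.unusedSectionVars false
set_option linter.style.haveILetI false

namespace Cfsg.Agent.Fus

open Subgroup FusionSystem

universe u

variable {Ω : Type u} [Group Ω] {S : Subgroup Ω} [Finite S] {p : ℕ} [hp : Fact p.Prime]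
  {F : FusionSystem S}

/-- The system of a semidirect product by automorphisms of order prime to `p` lies in `F`. -/
theorem exists_autSystem (hS : IsPGroup p S) {Q : Subgroup Ω} (hQ : Q ≤ S)
    (H : Subgroup (MulAut Q)) (hH : (Nat.card H).Coprime p) (hHF : H ≤ F.autGroup Q) :
    ∃ E : FusionSystem Q, E.IsSaturated p ∧ E.IsSubsystemOf F ∧ H ≤ E.autGroup Q ∧
      ∀ P f, IsMap E P f → ∃ x ∈ Q, ∃ h ∈ H, ∀ y ∈ P, f y = x * autFun h y * x⁻¹ := by
  haveI := finite_of_le hQ
  haveI : Finite H := Nat.finite_of_card_ne_zero fun e => by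
    rw [e, Nat.coprime_zero_left] at hH
    exact hp.out.ne_one hH
  let θ : ↥H →* MulAut Q := H.subtype
  let ι : Q →* SemidirectProduct Q H θ := SemidirectProduct.inl
  haveI : Finite (SemidirectProduct Q H θ) := Finite.of_equiv _ SemidirectProduct.equivProd.symm
  have hinj : Function.Injective ι := SemidirectProduct.inl_injective
  obtain ⟨E, hE⟩ := exists_isRealizedBy ι hinj
  have hidx : ι.range.index = Nat.card H := by
    have h1 := ι.range.index_mul_card
    have h2 : Nat.card ι.range = Nat.card Q :=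
      Nat.card_congr (MonoidHom.ofInjective hinj).symm.toEquiv
    rw [h2, Nat.card_congr SemidirectProduct.equivProd, Nat.card_prod, mul_comm (Nat.card Q)] at h1
    exact Nat.eq_of_mul_eq_mul_right Nat.card_pos h1
  have hp' : IsPGroup p ι.range := (hS.to_le hQ).of_equiv (MonoidHom.ofInjective hinj)
  have hnd : ¬ p ∣ ι.range.index := by
    rw [hidx]
    exact hp.out.coprime_iff_not_dvd.1 hH.symm
  have hdesc : ∀ P f, IsMap E P f → ∃ x ∈ Q, ∃ h ∈ H, ∀ y ∈ P, f y = x * autFun h y * x⁻¹ := by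
    intro P f hf
    obtain ⟨φ, hφ, e⟩ := hf.exists_hom
    obtain ⟨hP, hφQ⟩ := E.le_of_mem hφ
    obtain ⟨g, hg⟩ := (hE.2 P hP φ hφQ).1 hφ
    refine ⟨g.left, g.left.2, g.right, g.right.2, fun y hy => ?_⟩
    have h1 : g * ι ⟨y, hP hy⟩ * g⁻¹ = ι (g.left * (g.right : MulAut Q) ⟨y, hP hy⟩ * g.left⁻¹) := by
      conv_lhs => rw [← SemidirectProduct.inl_left_mul_inr_right g]
      rw [map_mul, map_mul, map_inv, show ι ((g.right : MulAut Q) ⟨y, hP hy⟩) = _ from
        SemidirectProduct.inl_aut (φ := θ) g.right ⟨y, hP hy⟩, map_inv]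
      simp only [ι]
      group
    have h2 := congrArg Subtype.val (hinj ((hg ⟨y, hy⟩).trans h1))
    rw [← e ⟨y, hy⟩]
    show φ ⟨y, hy⟩ = _
    rw [show φ ⟨y, hy⟩ = _ from h2, Subgroup.coe_mul, Subgroup.coe_mul, InvMemClass.coe_inv,
      ← autFun_coe (g.right : MulAut Q) ⟨y, hP hy⟩]
  refine ⟨E, isSaturated_of_realized hE (T := hp'.toSylow hnd) rfl, fun P φ hφ => ?_,
    fun α hα => (mem_autGroup le_rfl).2 ?_, hdesc⟩
  · obtain ⟨x, hx, h, hh, e⟩ := hdesc P _ (isMap_toFun hφ)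
    have hP : P ≤ Q := (isMap_toFun hφ).source_le
    refine mem_hom_of_isMap (((((mem_autGroup hQ).1 (hHF hh)).res hP).comp
      (isMap_conj F hQ (hQ hx)) fun y hy => autFun_mem h (hP hy)).congr fun y hy => (e y hy).symm)
      fun y => (toFun_coe φ y).symm
  · refine ⟨Q.subtype.comp α.toMonoidHom, (hE.2 Q le_rfl _ fun x => (α x).2).2
      ⟨SemidirectProduct.inr ⟨α, hα⟩, fun x => ?_⟩, fun x => ?_⟩
    · exact (SemidirectProduct.inl_aut (φ := θ) ⟨α, hα⟩ x).trans (by rw [map_inv])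
    · exact (autFun_coe α x).symm

/-- The automorphism group of an inner system is a `p`-group. -/
theorem isPGroup_autGroup_of_isInner {T : Subgroup Ω} {E : FusionSystem T} (hT : IsPGroup p T)
    (hE : IsInner E) : IsPGroup p (E.autGroup T) := by
  refine (isPGroup_autInducedBy hT T).to_le fun α hα => ?_
  obtain ⟨s, hs, e⟩ := hE T _ ((mem_autGroup le_rfl).1 hα)
  exact mem_autInducedBy.2 ⟨s, hs, fun x => (autFun_coe α x).symm.trans (e x x.2)⟩

/-- Extremely sparse systems. -/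
theorem extremely_sparse (hS : IsPGroup p S) (hF : F.IsSaturated p)
    (hxs : ¬ (∀ P : Subgroup Ω, F.Hom P = (innerFusionSystem S).Hom P) ∧
      ∀ (T : Subgroup Ω) (E : FusionSystem T), E.IsSaturated p → E.IsSubsystemOf F →
        (T = S ∧ ∀ P : Subgroup Ω, E.Hom P = F.Hom P) ∨
          (∀ P : Subgroup Ω, E.Hom P = (innerFusionSystem T).Hom P)) :
    F.IsNormal S ∧ F.focalSubgroup = S ∧ F.hyperfocalSubgroup p = S ∧
      ∃ (q : ℕ) (β : MulAut ↥S), q.Prime ∧ q ≠ p ∧ β ∈ F.autGroup S ∧ orderOf β = q ∧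
        (F.autGroup S : Subgroup (MulAut ↥S)) = Inn ↥S ⊔ Subgroup.zpowers β := by
  obtain ⟨hni, hsp⟩ := hxs
  -- some automorphism of prime order different from `p`
  obtain ⟨Q, hQ, α, hαF, q, hq, hqp, hord⟩ : ∃ Q, Q ≤ S ∧ ∃ α ∈ F.autGroup Q, ∃ q : ℕ,
      q.Prime ∧ q ≠ p ∧ orderOf α = q := by
    by_contra hcon
    push Not at hcon
    have hpg : ∀ P, P ≤ S → IsPGroup p (F.autGroup P) := fun P hP α => by
      haveI := finite_of_le hP
      haveI : Finite (F.autGroup P) := inferInstance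
      obtain ⟨m, hm⟩ : ∃ m, orderOf (α : MulAut P) = m := ⟨_, rfl⟩
      have hm0 : m ≠ 0 := hm ▸ (orderOf_pos _).ne'
      have hall : ∀ r : ℕ, r.Prime → r ∣ m → r = p := fun r hr hrm => by
        by_contra hne
        refine hcon P hP ((α : MulAut P) ^ (m / r)) (pow_mem α.2 _) r hr hne ?_
        rw [← hm] at hrm ⊢
        rw [orderOf_pow_of_dvd (Nat.div_pos (Nat.le_of_dvd (orderOf_pos _) hrm) hr.pos).ne'
          (Nat.div_dvd_of_dvd hrm), Nat.div_div_self hrm (orderOf_pos _).ne']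
      obtain ⟨k, hk⟩ : ∃ k, m = p ^ k :=
        ⟨m.primeFactorsList.length, Nat.eq_prime_pow_of_unique_prime_dvd hm0 fun {d} hd hdm =>
          hall d hd hdm⟩
      exact ⟨k, Subtype.ext (by rw [SubgroupClass.coe_pow, ← hk, ← hm]; exact pow_orderOf_eq_one _)⟩
    refine hni (isInner_iff.1 fun P f hf => ?_)
    refine alperin hS hF (fun P f => ∃ s ∈ S, ∀ x ∈ P, f x = s * x * s⁻¹) ?_ ?_ ?_ ?_ ?_ hf
    · rintro P f g ⟨s, hs, e⟩ h
      exact ⟨s, hs, fun x hx => (h x hx).symm.trans (e x hx)⟩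
    · rintro P Q f g - - hPQ ⟨s, hs, e⟩ ⟨t, ht, e'⟩
      exact ⟨t * s, S.mul_mem ht hs, fun x hx => by
        show g (f x) = _
        rw [e' _ (hPQ x hx), e x hx]
        group⟩
    · rintro P Q f - hPQ ⟨s, hs, e⟩
      exact ⟨s, hs, fun x hx => e x (hPQ hx)⟩
    · intro α hα
      obtain ⟨g, hg, e⟩ := mem_autInducedBy.1 (autGroup_le_autInducedBy_of_isPGroup
        (fullyAutomized_of_fullyNormalized hS hF (fullyNormalized_self F)) (hpg S le_rfl) hα)
      exact ⟨g, hg, fun x hx => (autFun_coe α ⟨x, hx⟩).trans (e ⟨x, hx⟩)⟩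
    · intro P hP α hα
      obtain ⟨g, hg, e⟩ := mem_autInducedBy.1 (autGroup_le_autInducedBy_of_isPGroup
        (fullyAutomized_of_fullyNormalized hS hF hP.2.1) (hpg P hP.1.1) hα)
      exact ⟨g, hg, fun x hx => (autFun_coe α ⟨x, hx⟩).trans (e ⟨x, hx⟩)⟩
  -- a subgroup carrying such an automorphism is everything
  have hcase : ∀ (T : Subgroup Ω) (hT : T ≤ S) (β : MulAut T), β ∈ F.autGroup T →
      (orderOf β).Coprime p → β ≠ 1 → T = S ∧ ∀ P f, IsMap F P f →
        ∃ x ∈ T, ∃ h ∈ Subgroup.zpowers β, ∀ y ∈ P, f y = x * autFun h y * x⁻¹ := by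
    intro T hT β hβ hco hne
    haveI := finite_of_le hT
    obtain ⟨E, hEs, hEF, hEa, hdesc⟩ := exists_autSystem hS hT (Subgroup.zpowers β)
      (by rwa [Nat.card_zpowers]) (Subgroup.zpowers_le.2 hβ)
    rcases hsp T E hEs hEF with ⟨hTS, heq⟩ | hin
    · refine ⟨hTS, fun P f hf => hdesc P f ?_⟩
      obtain ⟨φ, hφ, e⟩ := hf.exists_hom
      exact ⟨φ, (heq P).symm ▸ hφ, e⟩
    · exfalso
      obtain ⟨k, hk⟩ := (isPGroup_autGroup_of_isInner (hS.to_le hT) (isInner_iff.2 hin))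
        ⟨β, hEa (Subgroup.mem_zpowers β)⟩
      have h1 : orderOf β ∣ p ^ k := orderOf_dvd_of_pow_eq_one (congrArg Subtype.val hk)
      exact hne (orderOf_eq_one_iff.1 (Nat.eq_one_of_dvd_coprimes (hco.pow_right k) dvd_rfl h1))
  have hco : (orderOf α).Coprime p := by
    rw [hord]; exact (Nat.coprime_primes hq hp.out).2 hqp
  have hne : α ≠ 1 := fun h => hq.ne_one (by rw [← hord, h, orderOf_one])
  obtain ⟨hQS, hmaps⟩ := hcase Q hQ α hαF hco hne
  subst hQS
  -- `S` is normal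
  have hnorm : F.IsNormal Q := isNormal_iff.2 ⟨le_rfl, fun P f hf => by
    obtain ⟨x, hx, h, hh, e⟩ := hmaps P f hf
    have hm := ((mem_autGroup le_rfl).1 (Subgroup.zpowers_le.2 hαF hh)).comp
      (isMap_conj F le_rfl hx) fun y hy => autFun_mem h hy
    have hm' := hm.res (sup_le hf.source_le le_rfl : P ⊔ Q ≤ Q)
    exact ⟨_, hm', fun y hy => (e y hy).symm, fimg_eq_self_of_source_top hm⟩⟩
  have haut : F.autGroup Q = Inn ↥Q ⊔ Subgroup.zpowers α := by
    refine le_antisymm (fun γ hγ => ?_)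
      (sup_le (inn_le_autGroup F le_rfl) (Subgroup.zpowers_le.2 hαF))
    obtain ⟨x, hx, h, hh, e⟩ := hmaps Q _ ((mem_autGroup le_rfl).1 hγ)
    have e2 : γ = MulAut.conj (⟨x, hx⟩ : Q) * h := mulAut_ext fun y hy => by
      rw [e y hy, autFun_mul _ _ hy]
      exact (autFun_coe (MulAut.conj (⟨x, hx⟩ : Q)) ⟨autFun h y, autFun_mem h hy⟩).symm
    rw [e2]
    exact mul_mem (Subgroup.mem_sup_left ⟨_, rfl⟩) (Subgroup.mem_sup_right hh)
  -- the hyperfocal subgroup
  have hres : (⟨α, hαF⟩ : F.autGroup Q) ∈ pResidual p (F.autGroup Q) := by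
    refine Subgroup.subset_closure ?_
    simpa using hco
  obtain ⟨M, hM⟩ : ∃ M, M = F.hyperfocalSubgroup p := ⟨_, rfl⟩
  have hMQ : M ≤ Q := hM ▸ hyperfocal_le F p
  have hαM : IsMap F M (autFun α) := ((mem_autGroup le_rfl).1 hαF).res hMQ
  haveI := finite_of_le hMQ
  have himg : fimg (autFun α) M = M := by
    refine Subgroup.eq_of_le_of_card_ge (fimg_le fun x hx => ?_) hαM.card_fimg.ge
    rw [hM] at hx ⊢
    exact ((mem_autGroup le_rfl).1 hαF).apply_mem_hyperfocal hS hF (hyperfocal_le F p hx) hx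
  obtain ⟨β, hβ, hβe⟩ := hαM.exists_aut himg
  have hβα : ∀ (n : ℕ), ∀ y ∈ M, autFun (β ^ n) y = autFun (α ^ n) y := by
    intro n
    induction n with
    | zero => intro y hy; rw [pow_zero, pow_zero, autFun_one hy, autFun_one (hMQ hy)]
    | succ n ih =>
      intro y hy
      rw [pow_succ, pow_succ, autFun_mul _ _ hy, autFun_mul _ _ (hMQ hy), ← hβe y hy,
        ih _ (autFun_mem β hy)]
  have hMS : M = Q := by
    by_cases hβ1 : β = 1
    · exfalso
      refine hne (mulAut_ext fun x hx => ?_)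
      rw [autFun_one hx]
      obtain ⟨m, hm⟩ : ∃ m, m = x⁻¹ * autFun α x := ⟨_, rfl⟩
      have hmM : m ∈ M := by
        rw [hm, hM]
        exact hyperfocal_mem le_rfl hres hx
      have hfix : ∀ y ∈ M, autFun α y = y := fun y hy => by
        rw [← hβe y hy, hβ1, autFun_one hy]
      have hpow : ∀ n : ℕ, autFun (α ^ n) x = x * m ^ n := by
        intro n
        induction n with
        | zero => rw [pow_zero, autFun_one hx, pow_zero, mul_one]
        | succ n ih =>
          rw [pow_succ', autFun_mul _ _ hx, ih, ((mem_autGroup le_rfl).1 hαF).map_mul hx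
            (hMQ (pow_mem hmM n)), hfix _ (pow_mem hmM n), pow_succ',
            show autFun α x = x * m by rw [hm, mul_inv_cancel_left], mul_assoc]
      have h1 := hpow q
      rw [← hord, pow_orderOf_eq_one, autFun_one hx, hord, left_eq_mul] at h1
      obtain ⟨k, hk⟩ := hS ⟨m, hMQ hmM⟩
      have hk' : m ^ p ^ k = 1 := congrArg Subtype.val hk
      have hm1 : m = 1 := orderOf_eq_one_iff.1 (Nat.eq_one_of_dvd_coprimes
        ((hord ▸ hco : q.Coprime p).pow_right k) (orderOf_dvd_of_pow_eq_one h1)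
        (orderOf_dvd_of_pow_eq_one hk'))
      rw [hm, inv_mul_eq_one] at hm1
      exact hm1.symm
    · refine (hcase M hMQ β hβ ?_ hβ1).1
      refine hco.coprime_dvd_left (orderOf_dvd_of_pow_eq_one (mulAut_ext fun y hy => ?_))
      rw [hβα _ y hy, pow_orderOf_eq_one, autFun_one hy, autFun_one (hMQ hy)]
  have hhyp : F.hyperfocalSubgroup p = Q := hM ▸ hMS
  exact ⟨hnorm, le_antisymm (focalSubgroup_le F) (hhyp.ge.trans (hyperfocal_le_focal F p)), hhyp,
    q, α, hq, hqp, hαF, hord, haut⟩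

end Cfsg.Agent.Fus
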