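import Cfsg.Agent.Lib.Fus.RootPairBasic

/-!
# Offenders in a group with a strongly `p`-embedded subgroup: two conjugates

`Ctx p V Γ Y S A`: `Γ` acts faithfully on the elementary abelian `V`, `Y` meets none of its other conjugates
in a `p`-element, `S ≤ Y` is a Sylow subgroup and `A ≤ S` a minimal offender.
-/

set_option autoImplicit false
set_option linter.unusedSectionVars false
set_option linter.style.haveILetI false

open scoped commutatorElement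

namespace Cfsg.Agent.Fus.FFEmb

open Subgroup Cfsg.Agent.Grp Cfsg.Agent.Grp.OffenderSL2

universe u

variable {G : Type u} [Group G]

/-- The situation. -/
structure Ctx (p : ℕ) (V Γ Y S A : Subgroup G) : Prop where
  vcomm : ∀ x ∈ V, ∀ y ∈ V, x * y = y * x
  vexp : ∀ x ∈ V, x ^ p = 1
  norm : ∀ g ∈ Γ, ∀ x ∈ V, g * x * g⁻¹ ∈ V
  faith : Γ ⊓ centralizer (V : Set G) = ⊥
  yle : Y ≤ Γ
  syl : Grp.IsSylowIn p S Γ
  sy : S ≤ Y
  out : ¬ Γ ≤ Y
  ti : ∀ g ∈ Γ, g ∉ Y → ∀ z ∈ Y, z ≠ 1 → (∃ k : ℕ, z ^ p ^ k = 1) → g⁻¹ * z * g ∉ Y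
  mem : RootPair.Member p V Γ A
  aS : A ≤ S

variable [Finite G] {p : ℕ} [Fact p.Prime]

/-- A minimal offender acts quadratically. -/
theorem quadratic_of_member {V Γ A : Subgroup G} (hab : ∀ x ∈ V, ∀ y ∈ V, x * y = y * x)
    (hexp : ∀ x ∈ V, x ^ p = 1) (hnorm : ∀ g ∈ Γ, ∀ x ∈ V, g * x * g⁻¹ ∈ V)
    (hA : RootPair.Member p V Γ A) : ∀ a ∈ A, ∀ v ∈ V, ⁅a, v⁆ ∈ V ⊓ centralizer (A : Set G) := by
  classical
  have hAn : ∀ a ∈ A, ∀ v ∈ V, a * v * a⁻¹ ∈ V := fun a ha => hnorm a (hA.le ha)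
  have hcm : ∀ a ∈ A, ∀ v ∈ V, ⁅a, v⁆ ∈ V := fun a ha v hv => V.mul_mem (hAn a ha v hv) (V.inv_mem hv)
  letI : CommGroup V :=
    { (inferInstance : Group V) with mul_comm := fun x y => Subtype.ext (hab _ x.2 _ y.2) }
  let T' : A →* AddMonoid.End (Additive V) :=
    { toFun := fun a =>
        ({ toFun := fun v => Additive.ofMul ⟨(a : G) * (v.toMul : G) * (a : G)⁻¹,
            hAn a a.2 _ v.toMul.2⟩
           map_zero' := congrArg Additive.ofMul (Subtype.ext (by simp))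
           map_add' := fun x y => congrArg Additive.ofMul (Subtype.ext (by simp [mul_assoc])) } :
          Additive V →+ Additive V)
      map_one' := AddMonoidHom.ext fun v => Additive.toMul.injective (Subtype.ext (by
        show (1 : G) * (v.toMul : G) * (1 : G)⁻¹ = (v.toMul : G)
        simp))
      map_mul' := fun a b => AddMonoidHom.ext fun v => Additive.toMul.injective (Subtype.ext (by
        show (a : G) * b * (v.toMul : G) * ((a : G) * b)⁻¹ =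
          (a : G) * ((b : G) * (v.toMul : G) * (b : G)⁻¹) * (a : G)⁻¹
        group)) }
  have hT : ∀ (a : A) (v : Additive V),
      ((T' a v).toMul : G) = (a : G) * (v.toMul : G) * (a : G)⁻¹ := fun _ _ => rfl
  have hfix : ∀ B : Subgroup A, Nat.card (Transfer.Timmesfeld.fix T' B) =
      Nat.card ↥(V ⊓ centralizer (B.map A.subtype : Set G)) := by
    intro B
    refine Nat.card_eq_of_bijective (fun w => ⟨((w : Additive V).toMul : G), (w : Additive V).toMul.2,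
      Config.mem_cent.mpr fun b hb => ?_⟩) ⟨fun x y h => ?_, fun x => ?_⟩
    · obtain ⟨b', hb', rfl⟩ := hb
      exact congrArg (fun z : Additive V => (z.toMul : G)) (w.2 b' hb')
    · have h' := congrArg (fun z : ↥(V ⊓ centralizer (B.map A.subtype : Set G)) => (z : G)) h
      exact Subtype.ext (Additive.toMul.injective (Subtype.ext h'))
    · exact ⟨⟨Additive.ofMul ⟨x, x.2.1⟩, fun b hb => Additive.toMul.injective (Subtype.ext
        (Config.mem_cent.mp x.2.2 _ ⟨b, hb, rfl⟩))⟩, rfl⟩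
  have hmeas : ∀ B : Subgroup A, Transfer.Timmesfeld.meas T' B = RootPair.meas V (B.map A.subtype) := fun B => by
    rw [Transfer.Timmesfeld.meas, hfix, RootPair.meas, card_map_of_injective A.subtype_injective]
  have htop : (⊤ : Subgroup A).map A.subtype = A := by
    rw [← MonoidHom.range_eq_map, A.range_subtype]
  have hmax : ∀ B : Subgroup A, Transfer.Timmesfeld.meas T' B ≤ Transfer.Timmesfeld.meas T' ⊤ := by
    intro B
    rw [hmeas, hmeas, htop]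
    by_cases h0 : B.map A.subtype = ⊥
    · rw [h0, RootPair.meas, card_bot, one_mul]
      exact (card_le_of_le inf_le_left).trans hA.meas_ge
    by_cases h1 : B.map A.subtype = A
    · rw [h1]
    exact (hA.strict _ (map_subtype_le B) h0 h1).le
  haveI : Fintype (Additive V) := Fintype.ofFinite _
  have hcomm : ∀ a b : A, ∀ w, T' a (T' b w) = T' b (T' a w) := fun a b w => by
    show (T' a * T' b) w = (T' b * T' a) w
    rw [← map_mul, ← map_mul, show a * b = b * a from Subtype.ext (hA.comm _ a.2 _ b.2)]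
  obtain ⟨hm, hfx⟩ := Transfer.Timmesfeld.replacement T' hcomm hmax (Finset.univ : Finset (Additive V))
  obtain ⟨B₀, hB₀⟩ : ∃ B₀, B₀ = Transfer.Timmesfeld.stab T'
      (Transfer.Timmesfeld.comm T' ((Finset.univ : Finset (Additive V)) : Set (Additive V))) := ⟨_, rfl⟩
  rw [← hB₀] at hm hfx
  have hquad : B₀ = ⊤ → ∀ a ∈ A, ∀ v ∈ V, ⁅a, v⁆ ∈ V ⊓ centralizer (A : Set G) := by
    intro e a ha v hv
    refine ⟨hcm a ha v hv, Config.mem_cent.mpr fun b hb => ?_⟩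
    have hmem : (⟨b, hb⟩ : A) ∈ B₀ := e ▸ mem_top _
    rw [hB₀] at hmem
    have h1 := hmem (Additive.ofMul ⟨v, hv⟩ - T' ⟨a, ha⟩ (Additive.ofMul ⟨v, hv⟩))
      (AddSubgroup.subset_closure ⟨_, Finset.mem_coe.mpr (Finset.mem_univ _), _, rfl⟩)
    have h2 : b * (v / (a * v * a⁻¹)) * b⁻¹ = v / (a * v * a⁻¹) := by
      have := congrArg (fun z : Additive V => (z.toMul : G)) h1
      simpa [div_eq_mul_inv, toMul_sub, hT, mul_assoc] using this
    rw [show ⁅a, v⁆ = (v / (a * v * a⁻¹))⁻¹ by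
      simp only [commutatorElement_def, div_eq_mul_inv]; group]
    calc b * (v / (a * v * a⁻¹))⁻¹ * b⁻¹ = (b * (v / (a * v * a⁻¹)) * b⁻¹)⁻¹ := by group
      _ = _ := by rw [h2]
  by_cases h1 : B₀ = ⊤
  · exact hquad h1
  by_cases h0 : B₀ = ⊥
  swap
  · exfalso
    rw [hmeas, hmeas, htop] at hm
    refine lt_irrefl _ (hm ▸ hA.strict _ (map_subtype_le B₀) (fun e => h0 ?_) fun e => h1 ?_)
    · exact (map_eq_bot_iff_of_injective _ A.subtype_injective).mp e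
    · exact map_injective A.subtype_injective (e.trans htop.symm)
  -- the whole of `V` cannot be the sum of the commutators and the fixed vectors
  exfalso
  obtain ⟨W, hW⟩ : ∃ W, W = V ⊓ centralizer (A : Set G) := ⟨_, rfl⟩
  have hspan : V ≤ ⁅A, V⁆ ⊔ W := by
    intro v hv
    have hall : Additive.ofMul (⟨v, hv⟩ : V) ∈ Transfer.Timmesfeld.fix T' B₀ := by
      rw [h0]
      intro b hb
      rw [mem_bot.mp hb, map_one]; rfl
    rw [hfx] at hall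
    obtain ⟨c, hc, f, hf, hcf⟩ := AddSubgroup.mem_sup.mp hall
    have hcv : (c.toMul : G) ∈ ⁅A, V⁆ := by
      clear hcf
      refine AddSubgroup.closure_induction (p := fun z _ => ((Additive.toMul z : V) : G) ∈ ⁅A, V⁆)
        ?_ ?_ ?_ ?_ hc
      · rintro _ ⟨u, -, a, rfl⟩
        have h := inv_mem (commutator_mem_commutator a.2 u.toMul.2 : ⁅(a : G), (u.toMul : G)⁆ ∈ ⁅A, V⁆)
        rw [commutatorElement_inv, commutatorElement_def] at h
        show ((u - T' a u).toMul : G) ∈ _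
        rw [toMul_sub, div_eq_mul_inv]
        simpa [hT, mul_assoc] using h
      · exact one_mem _
      · intro x y _ _ hx hy; exact mul_mem hx hy
      · intro x _ hx; exact inv_mem hx
    have hfW : (f.toMul : G) ∈ W := by
      rw [hW]
      refine ⟨f.toMul.2, Config.mem_cent.mpr fun a ha => ?_⟩
      exact congrArg (fun z : Additive V => (z.toMul : G)) (hf ⟨a, ha⟩ trivial)
    have e : v = (c.toMul : G) * (f.toMul : G) :=
      (congrArg (fun z : Additive V => (z.toMul : G)) hcf).symm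
    rw [e]
    exact mul_mem_sup hcv hfW
  have hVW : ¬ V ≤ W := fun hle => h1 (by
    rw [hB₀]
    refine eq_top_iff.mpr fun b _ w _ => Additive.toMul.injective (Subtype.ext ?_)
    rw [hT]
    exact Config.mem_cent.mp (hW.le (hle w.toMul.2)).2 b b.2)
  have hle1 : ⁅A, V⁆ ≤ V := commutator_le.mpr hcm
  have hstep : ⁅A, V⁆ ≤ ⁅A, ⁅A, V⁆⁆ := by
    refine commutator_le.mpr fun a ha v hv => ?_
    obtain ⟨c, hc, w, hw, rfl⟩ := exists_mul_of_comm (H := ⁅A, V⁆) (K := W)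
      (fun x hx y hy => hab x (hle1 hx) y (hW.le hy).1) (hspan hv)
    have e : ⁅a, c * w⁆ = ⁅a, c⁆ := by
      rw [commutatorElement_def, commutatorElement_def, show a * (c * w) * a⁻¹ * (c * w)⁻¹ =
        (a * c * a⁻¹) * ((a * w * a⁻¹) * w⁻¹) * c⁻¹ by group, Config.mem_cent.mp (hW.le hw).2 a ha,
        mul_inv_cancel, mul_one]
    rw [e]
    exact commutator_mem_commutator ha hc
  have hH : IsPGroup p ↥(A ⊔ V) := hA.pg.to_sup_of_normal_right'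
    (fun x => ⟨1, Subtype.ext (by rw [pow_one, coe_pow, coe_one]; exact hexp _ x.2)⟩)
    fun a ha => RootPair.norm_of_cj (eq_of_le_of_card_ge (RootPair.cj_le.mpr (hAn a ha)) (card_cj a V).ge)
  have hbot : ⁅A, V⁆ = ⊥ := by
    have : Group.IsNilpotent ↥(A ⊔ V) := hH.isNilpotent
    obtain ⟨k, hk⟩ := Subgroup.nilpotent_iff_lowerCentralSeries.mp this
    have hlow : ∀ n, ⁅A, V⁆ ≤
        (Subgroup.lowerCentralSeries (⊤ : Subgroup ↥(A ⊔ V)) n).map (A ⊔ V).subtype := by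
      intro n
      induction n with
      | zero => exact fun x hx => ⟨⟨x, le_sup_right (a := A) (hle1 hx)⟩, mem_top _, rfl⟩
      | succ n ih =>
        rw [Subgroup.lowerCentralSeries_succ, map_commutator]
        refine hstep.trans ((commutator_mono ?_ ih).trans (commutator_comm _ _).le)
        exact fun r hr => ⟨⟨r, le_sup_left (b := V) hr⟩, mem_top _, rfl⟩
    refine eq_bot_iff.mpr fun x hx => ?_
    have := hlow k hx
    rwa [hk, Subgroup.map_bot] at this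
  refine hVW (hspan.trans ?_)
  rw [hbot, bot_sup_eq]

variable {V Γ Y S A : Subgroup G} (C : Ctx p V Γ Y S A)
include C

theorem Ctx.aY : A ≤ Y := C.aS.trans C.sy

theorem Ctx.cjΓ {g : G} (hg : g ∈ Γ) {H : Subgroup G} (h : H ≤ Γ) : cj g H ≤ Γ :=
  RootPair.cj_le.mpr fun x hx => mul_mem (mul_mem hg (h hx)) (inv_mem hg)

theorem Ctx.cjV {g : G} (hg : g ∈ Γ) : cj g V = V :=
  eq_of_le_of_card_ge (RootPair.cj_le.mpr (C.norm g hg)) (card_cj g V).ge

theorem Ctx.quad {a v : G} (ha : a ∈ A) (hv : v ∈ V) : ⁅a, v⁆ ∈ V ⊓ centralizer (A : Set G) :=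
  quadratic_of_member C.vcomm C.vexp C.norm C.mem a ha v hv

/-- A `p`-subgroup meeting `Y` lies in `Y`. -/
theorem Ctx.pY {Q : Subgroup G} (hQ : Q ≤ Γ) (hp : IsPGroup p Q) {z : G} (hzQ : z ∈ Q) (hzY : z ∈ Y)
    (hz : z ≠ 1) : Q ≤ Y := by
  rw [← subgroupOf_eq_top]
  by_contra hne
  have := hp.isNilpotent
  obtain ⟨n, hn, hnR⟩ := SetLike.exists_of_lt
    (Group.normalizerCondition_of_isNilpotent (Y.subgroupOf Q) (lt_top_iff_ne_top.mpr hne))
  obtain ⟨k, hk⟩ := hp ⟨z, hzQ⟩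
  exact C.ti n (hQ n.2) (fun h => hnR h) z hzY hz ⟨k, congrArg Subtype.val hk⟩
    ((Subgroup.mem_normalizer_iff''.mp hn ⟨z, hzQ⟩).mp hzY)

theorem Ctx.exists_ne : ∃ a ∈ A, a ≠ 1 := by
  by_contra hc
  push Not at hc
  exact C.mem.ne ((eq_bot_iff_forall A).mpr hc)

/-- Conjugation off `Y`. -/
theorem Ctx.conj_not {g a : G} (hg : g ∈ Γ) (hgY : g ∉ Y) (ha : a ∈ A) (ha1 : a ≠ 1) : g⁻¹ * a * g ∉ Y := by
  obtain ⟨k, hk⟩ := C.mem.pg ⟨a, ha⟩
  exact C.ti g hg hgY a (C.aY ha) ha1 ⟨k, congrArg Subtype.val hk⟩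

theorem Ctx.cj_not_le {g : G} (hg : g ∈ Γ) (hgY : g ∉ Y) : ¬ cj g A ≤ Y := by
  intro hle
  obtain ⟨a, ha, ha1⟩ := C.exists_ne
  have h := C.conj_not (inv_mem hg) (fun h => hgY (inv_mem_iff.mp h)) ha ha1
  rw [inv_inv] at h
  exact h (hle (conj_mem_cj g ha))

theorem Ctx.inter_eq {g : G} (hg : g ∈ Γ) :
    (V ⊓ centralizer (A : Set G)) ⊓ cj g (V ⊓ centralizer (A : Set G)) =
      V ⊓ centralizer ((A ⊔ cj g A : Subgroup G) : Set G) := by
  ext v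
  constructor
  · rintro ⟨hv, hv'⟩
    refine ⟨hv.1, Config.mem_cent.mpr ?_⟩
    have hle : A ⊔ cj g A ≤ centralizer ({v} : Set G) := sup_le
      (fun a ha => mem_centralizer_singleton_iff.mpr (mul_inv_eq_iff_eq_mul.mp (Config.mem_cent.mp hv.2 a ha)))
      (fun b hb => mem_centralizer_singleton_iff.mpr (mul_inv_eq_iff_eq_mul.mp (by
        have h := Config.mem_cent.mp (mem_cj.mp hv').2 _ (mem_cj.mp hb)
        exact mul_left_cancel (mul_right_cancel (Eq.trans (by group : g⁻¹ * (b * v * b⁻¹) * g =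
          g⁻¹ * b * g * (g⁻¹ * v * g) * (g⁻¹ * b * g)⁻¹) h)))))
    exact fun h hh => mul_inv_eq_iff_eq_mul.mpr (mem_centralizer_singleton_iff.mp (hle hh))
  · intro hv
    refine ⟨⟨hv.1, centralizer_le (SetLike.coe_subset_coe.mpr le_sup_left) hv.2⟩, mem_cj.mpr ?_⟩
    refine ⟨by simpa using C.norm g⁻¹ (inv_mem hg) v hv.1, Config.mem_cent.mpr fun a ha => ?_⟩
    have h := Config.mem_cent.mp hv.2 _ (le_sup_right (a := A) (conj_mem_cj g ha))
    calc a * (g⁻¹ * v * g) * a⁻¹ = g⁻¹ * ((g * a * g⁻¹) * v * (g * a * g⁻¹)⁻¹) * g := by group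
      _ = g⁻¹ * v * g := by rw [h]

/-- A minimal pair inside a given one. -/
theorem Ctx.exists_minimal {g : G} (hg : g ∈ Γ) (hgY : g ∉ Y) :
    ∃ P, P ≤ A ⊔ cj g A ∧ P ≤ Γ ∧ A ≤ P ∧ ¬ P ≤ Y ∧ ∀ z ∈ P, z ∉ Y → A ⊔ cj z A = P := by
  classical
  obtain ⟨P0, hP0⟩ : ∃ P0, P0 = A ⊔ cj g A := ⟨_, rfl⟩
  have hP0Γ : P0 ≤ Γ := hP0 ▸ sup_le C.mem.le (C.cjΓ hg C.mem.le)
  obtain ⟨z0, hz0, hz0Y⟩ := SetLike.not_le_iff_exists.mp fun h : P0 ≤ Y =>
    C.cj_not_le hg hgY ((hP0 ▸ le_sup_right : cj g A ≤ P0).trans h)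
  obtain ⟨x, ⟨hx, hxY⟩, hmin⟩ := Set.exists_min_image {z : G | z ∈ P0 ∧ z ∉ Y}
    (fun z => Nat.card ↥(A ⊔ cj z A)) (Set.toFinite _) ⟨z0, hz0, hz0Y⟩
  have hAP0 : A ≤ P0 := hP0 ▸ le_sup_left
  have hle : A ⊔ cj x A ≤ P0 := sup_le hAP0
    (RootPair.cj_le.mpr fun a ha => mul_mem (mul_mem hx (hAP0 ha)) (inv_mem hx))
  refine ⟨A ⊔ cj x A, hP0 ▸ hle, hle.trans hP0Γ, le_sup_left,
    fun h => C.cj_not_le (hP0Γ hx) hxY (le_sup_right.trans h), fun z hz hzY => ?_⟩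
  exact eq_of_le_of_card_ge (sup_le le_sup_left (RootPair.cj_le.mpr fun a ha =>
    mul_mem (mul_mem hz (le_sup_left (b := cj x A) ha)) (inv_mem hz))) (hmin z ⟨hle hz, hzY⟩)

/-- The stabiliser of a series `1 ≤ W ≤ V` is a `p`-group. -/
theorem Ctx.exists_stab {W : Subgroup G} (hWV : W ≤ V) :
    ∃ K : Subgroup G, (∀ k, k ∈ K ↔ k ∈ Γ ∧ (∀ w ∈ W, k * w * k⁻¹ = w) ∧ ∀ v ∈ V, ⁅k, v⁆ ∈ W) ∧
      IsPGroup p K := by
  obtain ⟨K, hK⟩ : ∃ K : Subgroup G, ∀ k, k ∈ K ↔ k ∈ Γ ∧ (∀ w ∈ W, k * w * k⁻¹ = w) ∧ ∀ v ∈ V, ⁅k, v⁆ ∈ W :=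
    ⟨{ carrier := {k | k ∈ Γ ∧ (∀ w ∈ W, k * w * k⁻¹ = w) ∧ ∀ v ∈ V, ⁅k, v⁆ ∈ W}
       one_mem' := ⟨one_mem _, fun w _ => by simp, fun v _ => by rw [commutatorElement_one_left]; exact one_mem _⟩
       mul_mem' := fun {a b} ha hb => ⟨mul_mem ha.1 hb.1, fun w hw => by
          rw [show a * b * w * (a * b)⁻¹ = a * (b * w * b⁻¹) * a⁻¹ by group, hb.2.1 w hw, ha.2.1 w hw],
        fun v hv => by
          rw [show ⁅a * b, v⁆ = (a * ⁅b, v⁆ * a⁻¹) * ⁅a, v⁆ by simp only [commutatorElement_def]; group,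
            ha.2.1 _ (hb.2.2 v hv)]
          exact mul_mem (hb.2.2 v hv) (ha.2.2 v hv)⟩
       inv_mem' := fun {a} ha => ⟨inv_mem ha.1, fun w hw => by
          calc a⁻¹ * w * a⁻¹⁻¹ = a⁻¹ * (a * w * a⁻¹) * a := by rw [ha.2.1 w hw]; group
            _ = w := by group,
        fun v hv => by
          have e1 : a⁻¹ * ⁅a, v⁆ * a = ⁅a, v⁆ := by
            calc a⁻¹ * ⁅a, v⁆ * a = a⁻¹ * (a * ⁅a, v⁆ * a⁻¹) * a := by rw [ha.2.1 _ (ha.2.2 v hv)]
              _ = _ := by group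
          rw [show ⁅a⁻¹, v⁆ = (a⁻¹ * ⁅a, v⁆ * a)⁻¹ by simp only [commutatorElement_def]; group, e1]
          exact inv_mem (ha.2.2 v hv)⟩ }, fun _ => Iff.rfl⟩
  have hKp : IsPGroup p K := fun k => ⟨1, Subtype.ext (by
    rw [pow_one, coe_pow, coe_one, ← mem_bot, ← C.faith]
    obtain ⟨hk1, hk2, hk3⟩ := (hK _).mp k.2
    refine mem_inf.mpr ⟨pow_mem hk1 p, mem_centralizer_iff.mpr fun v hv => ?_⟩
    have hind : ∀ n : ℕ, (k : G) ^ n * v * ((k : G) ^ n)⁻¹ = ⁅(k : G), v⁆ ^ n * v := by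
      intro n
      induction n with
      | zero => simp
      | succ n ih =>
        calc (k : G) ^ (n + 1) * v * ((k : G) ^ (n + 1))⁻¹
            = (k : G) * ((k : G) ^ n * v * ((k : G) ^ n)⁻¹) * (k : G)⁻¹ := by rw [pow_succ']; group
          _ = ((k : G) * ⁅(k : G), v⁆ ^ n * (k : G)⁻¹) * (⁅(k : G), v⁆ * v) := by
            rw [ih, commutatorElement_def]; group
          _ = _ := by rw [hk2 _ (pow_mem (hk3 v hv) n), pow_succ, mul_assoc]
    have h := hind p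
    rw [C.vexp _ (hWV (hk3 v hv)), one_mul] at h
    exact (mul_inv_eq_iff_eq_mul.mp h).symm)⟩
  exact ⟨K, hK, hKp⟩

variable {P : Subgroup G} (hPΓ : P ≤ Γ) (hAP : A ≤ P) (hgen : ∀ z ∈ P, z ∉ Y → A ⊔ cj z A = P)
include hPΓ hAP hgen

theorem Ctx.min_inter {z : G} (hz : z ∈ P) (hzY : z ∉ Y) :
    (V ⊓ centralizer (A : Set G)) ⊓ cj z (V ⊓ centralizer (A : Set G)) = V ⊓ centralizer (P : Set G) := by
  rw [C.inter_eq (hPΓ hz), hgen z hz hzY]

theorem Ctx.min_reg {x a v : G} (hx : x ∈ P) (hxY : x ∉ Y) (ha : a ∈ A) (ha1 : a ≠ 1)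
    (hv : v ∈ cj x (V ⊓ centralizer (A : Set G))) (h : ⁅a, v⁆ ∈ V ⊓ centralizer (P : Set G)) :
    v ∈ V ⊓ centralizer (P : Set G) := by
  obtain ⟨z, hz⟩ : ∃ z, z = x⁻¹ * a * x := ⟨_, rfl⟩
  have hzP : z ∈ P := hz ▸ mul_mem (mul_mem (inv_mem hx) (hAP ha)) hx
  have hzY : z ∉ Y := hz ▸ C.conj_not (hPΓ hx) hxY ha ha1
  have h1 : ⁅a, v⁆ ∈ cj x (V ⊓ centralizer (A : Set G)) := by
    rw [← C.min_inter hPΓ hAP hgen hx hxY] at h
    exact h.2
  obtain ⟨v', hv'⟩ : ∃ v', v' = a * v * a⁻¹ := ⟨_, rfl⟩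
  have h2 : x⁻¹ * v' * x ∈ (V ⊓ centralizer (A : Set G)) ⊓ cj z (V ⊓ centralizer (A : Set G)) := by
    refine mem_inf.mpr ⟨mem_cj.mp ?_, mem_cj.mpr ?_⟩
    · rw [hv', show a * v * a⁻¹ = ⁅a, v⁆ * v by rw [commutatorElement_def]; group]
      exact mul_mem h1 hv
    · rw [hz, hv', show (x⁻¹ * a * x)⁻¹ * (x⁻¹ * (a * v * a⁻¹) * x) * (x⁻¹ * a * x) = x⁻¹ * v * x by group]
      exact mem_cj.mp hv
  rw [C.min_inter hPΓ hAP hgen hzP hzY] at h2
  have h3 := Config.mem_cent.mp h2.2 x hx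
  rw [show x * (x⁻¹ * v' * x) * x⁻¹ = v' by group] at h3
  have h4 : v' ∈ V ⊓ centralizer (P : Set G) := h3.symm ▸ h2
  have h5 := Config.mem_cent.mp h4.2 a⁻¹ (inv_mem (hAP ha))
  rw [hv', show a⁻¹ * (a * v * a⁻¹) * a⁻¹⁻¹ = v by group, ← hv'] at h5
  exact h5.symm ▸ h4

/-- The fixed space of the pair is proper in that of `A`. -/
theorem Ctx.min_ne (hPY : ¬ P ≤ Y) : V ⊓ centralizer (A : Set G) ≠ V ⊓ centralizer (P : Set G) := by
  intro e
  obtain ⟨x, hx, hxY⟩ := SetLike.not_le_iff_exists.mp hPY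
  obtain ⟨W, hW⟩ : ∃ W, W = V ⊓ centralizer (A : Set G) := ⟨_, rfl⟩
  rw [← hW] at e
  have hWfix : ∀ k ∈ P, ∀ w ∈ W, k * w * k⁻¹ = w := fun k hk w hw => Config.mem_cent.mp (e.le hw).2 k hk
  obtain ⟨K, hK, hKp⟩ := C.exists_stab (hW ▸ inf_le_left : W ≤ V)
  have hAK : A ≤ K := fun a ha => (hK a).mpr ⟨C.mem.le ha, hWfix a (hAP ha),
    fun v hv => hW ▸ C.quad ha hv⟩
  have hPK : P ≤ K := by
    rw [← hgen x hx hxY]
    refine sup_le hAK (RootPair.cj_le.mpr fun a ha => (hK _).mpr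
      ⟨mul_mem (mul_mem (hPΓ hx) (C.mem.le ha)) (inv_mem (hPΓ hx)),
        hWfix _ (mul_mem (mul_mem hx (hAP ha)) (inv_mem hx)), fun v hv => ?_⟩)
    have h1 : ⁅a, x⁻¹ * v * x⁆ ∈ W := hW ▸ C.quad ha (by simpa using C.norm x⁻¹ (inv_mem (hPΓ hx)) v hv)
    have h2 := hWfix x hx _ h1
    rw [show x * ⁅a, x⁻¹ * v * x⁆ * x⁻¹ = ⁅x * a * x⁻¹, v⁆ by simp only [commutatorElement_def]; group] at h2
    exact h2 ▸ h1
  obtain ⟨a, ha, ha1⟩ := C.exists_ne
  exact hxY (C.pY (Q := K) (fun k hk => ((hK k).mp hk).1) hKp (hAK ha) (C.aY ha) ha1 (hPK hx))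

/-- The orders. -/
theorem Ctx.min_cards (hPY : ¬ P ≤ Y) :
    Nat.card ↥(V ⊓ centralizer (A : Set G)) = Nat.card A * Nat.card ↥(V ⊓ centralizer (P : Set G)) ∧
      Nat.card V = Nat.card A * Nat.card ↥(V ⊓ centralizer (A : Set G)) := by
  classical
  obtain ⟨x, hx, hxY⟩ := SetLike.not_le_iff_exists.mp hPY
  obtain ⟨W, hW⟩ : ∃ W, W = V ⊓ centralizer (A : Set G) := ⟨_, rfl⟩
  obtain ⟨Z, hZ⟩ : ∃ Z, Z = V ⊓ centralizer (P : Set G) := ⟨_, rfl⟩
  have hinf := C.min_inter hPΓ hAP hgen hx hxY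
  rw [← hW, ← hZ] at hinf ⊢
  have hZW : Z ≤ W := hinf ▸ inf_le_left
  have hWV : W ≤ V := hW ▸ inf_le_left
  have hxWV : cj x W ≤ V := (cj_mono x hWV).trans (C.cjV (hPΓ hx)).le
  obtain ⟨v, hv, hvZ⟩ : ∃ v ∈ cj x W, v ∉ Z := by
    refine SetLike.not_le_iff_exists.mp fun hle => C.min_ne hPΓ hAP hgen hPY ?_
    rw [← hW, ← hZ]
    refine (eq_of_le_of_card_ge hZW ?_).symm
    exact (card_cj x W).ge.trans (card_le_of_le hle)
  have hge : Nat.card A * Nat.card Z ≤ Nat.card W := by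
    rw [← Nat.card_prod]
    refine Nat.card_le_card_of_injective (fun q : A × Z => (⟨⁅(q.1 : G), v⁆ * (q.2 : G),
      W.mul_mem (hW ▸ C.quad q.1.2 (hxWV hv)) (hZW q.2.2)⟩ : W)) fun q r h => ?_
    have h' : ⁅(q.1 : G), v⁆ * (q.2 : G) = ⁅(r.1 : G), v⁆ * (r.2 : G) := congrArg Subtype.val h
    have h1 : q.1 = r.1 := by
      refine Subtype.ext (inv_mul_eq_one.mp ?_)
      by_contra hne
      refine hvZ (hZ ▸ C.min_reg hPΓ hAP hgen hx hxY (mul_mem (inv_mem q.1.2) r.1.2) hne (hW ▸ hv) (hZ ▸ ?_))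
      have hq1 : (q.1 : G) * ⁅(q.1 : G)⁻¹ * r.1, v⁆ * (q.1 : G)⁻¹ = ⁅(q.1 : G)⁻¹ * r.1, v⁆ :=
        Config.mem_cent.mp (C.quad (mul_mem (inv_mem q.1.2) r.1.2) (hxWV hv)).2 _ q.1.2
      have e : ⁅(r.1 : G), v⁆ = (q.1 : G) * ⁅(q.1 : G)⁻¹ * r.1, v⁆ * (q.1 : G)⁻¹ * ⁅(q.1 : G), v⁆ := by
        simp only [commutatorElement_def]; group
      rw [hq1] at e
      have e2 : ⁅(q.1 : G)⁻¹ * r.1, v⁆ = (q.2 : G) * (r.2 : G)⁻¹ := by
        have hc : ⁅(q.1 : G)⁻¹ * r.1, v⁆ * ⁅(q.1 : G), v⁆ = ⁅(q.1 : G), v⁆ * ⁅(q.1 : G)⁻¹ * r.1, v⁆ :=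
          C.vcomm _ (C.quad (mul_mem (inv_mem q.1.2) r.1.2) (hxWV hv)).1 _ (C.quad q.1.2 (hxWV hv)).1
        rw [e, hc, mul_assoc] at h'
        rw [mul_left_cancel h']; group
      rw [e2]
      exact mul_mem q.2.2 (inv_mem r.2.2)
    rw [h1] at h'
    exact Prod.ext h1 (Subtype.ext (mul_left_cancel h'))
  have hsup : Nat.card ↥(W ⊔ cj x W) * Nat.card Z = Nat.card W * Nat.card W := by
    rw [← hinf, Grp.card_sup_mul_card_inf, card_cj]
    exact fun w hw => centralizer_le_normalizer _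
      (mem_centralizer_iff.mpr fun k hk => C.vcomm k (hxWV hk) w (hWV hw))
  have hVle : Nat.card ↥(W ⊔ cj x W) ≤ Nat.card V := card_le_of_le (sup_le hWV hxWV)
  have hmeas : Nat.card V ≤ Nat.card A * Nat.card W := hW ▸ C.mem.meas_ge
  have hWle : Nat.card W ≤ Nat.card A * Nat.card Z := by
    refine Nat.le_of_mul_le_mul_left (?_ : Nat.card W * Nat.card W ≤ Nat.card W * _) Nat.card_pos
    rw [← hsup, mul_left_comm, ← mul_assoc]
    exact Nat.mul_le_mul_right _ (hVle.trans hmeas)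
  have heq : Nat.card W = Nat.card A * Nat.card Z := le_antisymm hWle hge
  refine ⟨heq, le_antisymm hmeas (Nat.le_of_mul_le_mul_right (?_ : _ * Nat.card Z ≤ _ * Nat.card Z) Nat.card_pos)⟩
  refine le_trans (le_of_eq ?_) (Nat.mul_le_mul_right _ hVle)
  rw [hsup, mul_assoc, mul_left_comm, ← heq]

omit hPΓ hAP hgen

theorem Ctx.card_V : Nat.card V = Nat.card A * Nat.card ↥(V ⊓ centralizer (A : Set G)) := by
  obtain ⟨g, hg, hgY⟩ := SetLike.not_le_iff_exists.mp C.out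
  obtain ⟨P, -, h1, h2, h3, h4⟩ := C.exists_minimal hg hgY
  exact (C.min_cards h1 h2 h4 h3).2

/-- Any two points off `Y` span and meet in the smallest possible way. -/
theorem Ctx.card_inter {g : G} (hg : g ∈ Γ) (hgY : g ∉ Y) :
    Nat.card ↥((V ⊓ centralizer (A : Set G)) ⊓ cj g (V ⊓ centralizer (A : Set G))) * Nat.card A =
        Nat.card ↥(V ⊓ centralizer (A : Set G)) ∧
      (V ⊓ centralizer (A : Set G)) ⊔ cj g (V ⊓ centralizer (A : Set G)) = V := by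
  obtain ⟨P, hP0, h1, h2, h3, h4⟩ := C.exists_minimal hg hgY
  obtain ⟨e1, e2⟩ := C.min_cards h1 h2 h4 h3
  obtain ⟨W, hW⟩ : ∃ W, W = V ⊓ centralizer (A : Set G) := ⟨_, rfl⟩
  have hle : W ⊓ cj g W ≤ V ⊓ centralizer (P : Set G) := by
    rw [hW, C.inter_eq hg]
    exact inf_le_inf le_rfl (centralizer_le (SetLike.coe_subset_coe.mpr hP0))
  rw [← hW] at e1 e2 ⊢
  have hWV : W ≤ V := hW ▸ inf_le_left
  have hgWV : cj g W ≤ V := (cj_mono g hWV).trans (C.cjV hg).le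
  have hsup : Nat.card ↥(W ⊔ cj g W) * Nat.card ↥(W ⊓ cj g W) = Nat.card W * Nat.card W := by
    rw [Grp.card_sup_mul_card_inf, card_cj]
    exact fun w hw => centralizer_le_normalizer _
      (mem_centralizer_iff.mpr fun k hk => C.vcomm k (hgWV hk) w (hWV hw))
  have hVle : Nat.card ↥(W ⊔ cj g W) ≤ Nat.card V := card_le_of_le (sup_le hWV hgWV)
  have hz := card_le_of_le hle
  have hA0 : 0 < Nat.card A := Nat.card_pos
  have hW0 : 0 < Nat.card W := Nat.card_pos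
  constructor
  · refine le_antisymm ?_ (Nat.le_of_mul_le_mul_right (?_ : _ * Nat.card W ≤ _ * Nat.card W) hW0)
    · rw [e1, mul_comm]; exact Nat.mul_le_mul_left _ hz
    · rw [← hsup]
      refine (Nat.mul_le_mul_right _ hVle).trans (le_of_eq ?_)
      rw [e2]; ring
  · refine eq_of_le_of_card_ge (sup_le hWV hgWV) ?_
    refine Nat.le_of_mul_le_mul_right (?_ : _ * Nat.card ↥(W ⊓ cj g W) ≤ _ * _) Nat.card_pos
    rw [hsup, e2, mul_comm (Nat.card A) (Nat.card W), mul_assoc]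
    refine Nat.mul_le_mul_left _ ?_
    rw [e1]
    exact Nat.mul_le_mul_left _ hz

theorem Ctx.reg {g a v : G} (hg : g ∈ Γ) (hgY : g ∉ Y) (ha : a ∈ A) (ha1 : a ≠ 1)
    (hv : v ∈ cj g (V ⊓ centralizer (A : Set G)))
    (h : ⁅a, v⁆ ∈ (V ⊓ centralizer (A : Set G)) ⊓ cj g (V ⊓ centralizer (A : Set G))) :
    v ∈ (V ⊓ centralizer (A : Set G)) ⊓ cj g (V ⊓ centralizer (A : Set G)) := by
  obtain ⟨W, hW⟩ : ∃ W, W = V ⊓ centralizer (A : Set G) := ⟨_, rfl⟩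
  rw [← hW] at hv h ⊢
  have hfix : ∀ w ∈ W, a * w * a⁻¹ = w := fun w hw => Config.mem_cent.mp (hW.le hw).2 a ha
  obtain ⟨I, hI⟩ : ∃ I, I = cj g W ⊓ cj (a * g) W := ⟨_, rfl⟩
  have hzI : g⁻¹ * (a * g) ∉ Y := by rw [← mul_assoc]; exact C.conj_not hg hgY ha ha1
  have hzΓ : g⁻¹ * (a * g) ∈ Γ := mul_mem (inv_mem hg) (mul_mem (C.mem.le ha) hg)
  have hc : Nat.card I = Nat.card ↥(W ⊓ cj g W) := by
    have e : I = cj g (W ⊓ cj (g⁻¹ * (a * g)) W) := by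
      rw [hI]
      show _ = (W ⊓ _).map _
      rw [Subgroup.map_inf _ _ _ (MulAut.conj g).injective]
      show _ = cj g W ⊓ cj g (cj (g⁻¹ * (a * g)) W)
      rw [cj_cj, mul_inv_cancel_left]
    rw [e, card_cj]
    have h1 := (C.card_inter hzΓ hzI).1
    have h2 := (C.card_inter hg hgY).1
    rw [← hW] at h1 h2
    exact Nat.eq_of_mul_eq_mul_right Nat.card_pos (h1.trans h2.symm)
  have hsub : W ⊓ cj g W ≤ I := fun z hz => by
    have : a⁻¹ * z * a = z := by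
      calc a⁻¹ * z * a = a⁻¹ * (a * z * a⁻¹) * a := by rw [hfix z hz.1]
        _ = z := by group
    rw [hI, ← cj_cj, mem_inf, mem_cj (g := a), this]
    exact ⟨hz.2, hz.2⟩
  have heq := eq_of_le_of_card_ge hsub hc.le
  have h1 : a * v * a⁻¹ ∈ I := hI ▸ ⟨by
    rw [show a * v * a⁻¹ = ⁅a, v⁆ * v by rw [commutatorElement_def]; group]
    exact mul_mem h.2 hv, by rw [← cj_cj]; exact conj_mem_cj a hv⟩
  rw [← heq] at h1
  have h2 : a * v * a⁻¹ = v := by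
    have := hfix _ h1.1
    exact mul_left_cancel (mul_right_cancel this)
  rwa [h2] at h1

theorem Ctx.comm_right {g v w : G} (hg : g ∈ Γ) (hv : v ∈ V) (hw : w ∈ V) :
    ⁅g, v * w⁆ = ⁅g, v⁆ * ⁅g, w⁆ := by
  have h1 := C.vcomm _ (C.norm g hg w hw) _ (V.inv_mem hv)
  have h2 := C.vcomm _ (V.inv_mem hw) _ (V.inv_mem hv)
  calc ⁅g, v * w⁆ = (g * v * g⁻¹) * ((g * w * g⁻¹) * (w⁻¹ * v⁻¹)) := by
        simp only [commutatorElement_def]; group
    _ = (g * v * g⁻¹) * ((g * w * g⁻¹) * (v⁻¹ * w⁻¹)) := by rw [h2]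
    _ = (g * v * g⁻¹) * ((v⁻¹ * (g * w * g⁻¹)) * w⁻¹) := by rw [← mul_assoc (g * w * g⁻¹), h1]
    _ = _ := by simp only [commutatorElement_def]; group

/-- A commutator of `A` lies in no other point. -/
theorem Ctx.disj {g a v : G} (hg : g ∈ Γ) (hgY : g ∉ Y) (ha : a ∈ A) (hv : v ∈ V)
    (h : ⁅a, v⁆ ∈ cj g (V ⊓ centralizer (A : Set G))) : ⁅a, v⁆ = 1 := by
  by_cases ha1 : a = 1
  · rw [ha1, commutatorElement_one_left]
  have hfix : ∀ w ∈ V ⊓ centralizer (A : Set G), ⁅a, w⁆ = 1 := fun w hw => by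
    rw [commutatorElement_def, Config.mem_cent.mp hw.2 a ha, mul_inv_cancel]
  have hgWV : cj g (V ⊓ centralizer (A : Set G)) ≤ V := (cj_mono g inf_le_left).trans (C.cjV hg).le
  obtain ⟨w, hw, w', hw', rfl⟩ := exists_mul_of_comm (H := V ⊓ centralizer (A : Set G))
    (K := cj g (V ⊓ centralizer (A : Set G))) (fun x hx y hy => C.vcomm x hx.1 y (hgWV hy))
    ((C.card_inter hg hgY).2.ge hv)
  have e : ⁅a, w * w'⁆ = ⁅a, w'⁆ := by rw [C.comm_right (C.mem.le ha) hw.1 (hgWV hw'), hfix w hw, one_mul]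
  rw [e] at h ⊢
  exact hfix _ (C.reg hg hgY ha ha1 hw' (mem_inf.mpr ⟨C.quad ha (hgWV hw'), h⟩)).1

end Cfsg.Agent.Fus.FFEmb
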