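import Mathlib

/-!
# An element of `SL₂` without fixed vectors and the transvections normalising the group it generates
-/

set_option autoImplicit false

namespace Cfsg.Agent.Fus.FFEmb

open Matrix

variable {F : Type} [Field F] [Fintype F] {p : ℕ} [hp : Fact p.Prime] [CharP F p]

theorem exists_not_sum (h2 : p = 2) : ∃ τ : F, ∀ c : F, c * c + τ * c + 1 ≠ 0 := by
  classical
  haveI : CharP F 2 := CharP.congr p h2
  obtain ⟨τ, hτ⟩ : ∃ τ : F, ∀ c : Fˣ, (c : F) + (c : F)⁻¹ ≠ τ := by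
    by_contra hc
    push Not at hc
    have h1 := Fintype.card_le_of_surjective (fun c : Fˣ => (c : F) + (c : F)⁻¹) hc
    rw [Fintype.card_units] at h1
    have : 0 < Fintype.card F := Fintype.card_pos
    omega
  refine ⟨τ, fun c h => ?_⟩
  have hc0 : c ≠ 0 := fun h0 => by simp [h0] at h
  refine hτ (Units.mk0 c hc0) ?_
  have h20 : (2 : F) = 0 := CharTwo.two_eq_zero
  simp only [Units.val_mk0]
  field_simp
  linear_combination h - (τ * c) * h20

/-- A transvection fixing `y`. -/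
def tv (y : Fin 2 → F) (l : F) : Matrix.SpecialLinearGroup (Fin 2) F :=
  ⟨!![1 - l * (y 0 * y 1), l * (y 0 * y 0); -(l * (y 1 * y 1)), 1 + l * (y 0 * y 1)], by
    rw [Matrix.det_fin_two]; simp; ring⟩

theorem tv_fix (y : Fin 2 → F) (l : F) : (tv y l : Matrix (Fin 2) (Fin 2) F) *ᵥ y = y := by
  funext i
  fin_cases i <;> simp [tv, Matrix.mulVec, dotProduct, Fin.sum_univ_two] <;> ring

theorem tv_hit {y : Fin 2 → F} (hy : y ≠ 0) {l : F} (hl : l ≠ 0) :
    ∃ x, (tv y l : Matrix (Fin 2) (Fin 2) F) *ᵥ x - x = y := by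
  by_cases h0 : y 0 = 0
  · have h1 : y 1 ≠ 0 := fun h1 => hy (funext fun i => by fin_cases i <;> simp [h0, h1])
    refine ⟨![-(1 / (l * y 1)), 0], funext fun i => ?_⟩
    fin_cases i <;> simp [tv, Matrix.mulVec, dotProduct, Fin.sum_univ_two, h0] <;> field_simp
  · refine ⟨![0, 1 / (l * y 0)], funext fun i => ?_⟩
    fin_cases i <;> simp [tv, Matrix.mulVec, dotProduct, Fin.sum_univ_two] <;> field_simp <;> ring

theorem tv_pow (y : Fin 2 → F) (l : F) : tv y l ^ p = 1 := by
  refine Subtype.ext ?_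
  rw [Matrix.SpecialLinearGroup.coe_pow, Matrix.SpecialLinearGroup.coe_one, ← sub_eq_zero]
  obtain ⟨M, hM⟩ : ∃ M, M = (tv y l : Matrix (Fin 2) (Fin 2) F) := ⟨_, rfl⟩
  have hsq : (M - 1) * (M - 1) = 0 := by
    subst hM
    ext i j
    fin_cases i <;> fin_cases j <;> simp [tv, Matrix.mul_apply, Fin.sum_univ_two] <;> ring
  have h1 := sub_pow_char_of_commute p (Commute.one_right M)
  rw [one_pow] at h1
  rw [← hM, ← h1, show p = 2 + (p - 2) from (Nat.add_sub_cancel' hp.out.two_le).symm, pow_add, pow_two, hsq, zero_mul]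

/-- The torus element with a transvection normalising it at every point. -/
theorem exists_torus : ∃ t : Matrix.SpecialLinearGroup (Fin 2) F,
    (∀ y : Fin 2 → F, (t : Matrix (Fin 2) (Fin 2) F) *ᵥ y = y → y = 0) ∧
    ∀ y : Fin 2 → F, y ≠ 0 → ∃ d : Matrix.SpecialLinearGroup (Fin 2) F, d ^ p = 1 ∧
      (d : Matrix (Fin 2) (Fin 2) F) *ᵥ y = y ∧ (d * t = t * d ∨ d * t = t⁻¹ * d) ∧
      ∃ x, (d : Matrix (Fin 2) (Fin 2) F) *ᵥ x - x = y := by
  classical
  by_cases h2 : p = 2
  · have h20 : (2 : F) = 0 := by simpa [h2] using CharP.cast_eq_zero F p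
    obtain ⟨τ, hτ⟩ : ∃ τ : F, ∀ c : F, c * c + τ * c + 1 ≠ 0 := exists_not_sum (p := p) h2
    obtain ⟨T, hT⟩ : ∃ T : Matrix.SpecialLinearGroup (Fin 2) F, (T : Matrix (Fin 2) (Fin 2) F) = !![0, 1; 1, τ] :=
      ⟨⟨!![0, 1; 1, τ], by rw [Matrix.det_fin_two]; simp; linear_combination -h20⟩, rfl⟩
    refine ⟨T, fun y hy => ?_, fun y hy => ?_⟩
    · rw [hT] at hy
      have e0 := congrFun hy 0
      have e1 := congrFun hy 1
      simp [Matrix.mulVec, dotProduct, Fin.sum_univ_two] at e0 e1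
      have h3 : τ * y 0 = 0 := by linear_combination e1 + (1 - τ) * e0
      have hτ0 : τ ≠ 0 := fun h => hτ 1 (by rw [h]; linear_combination h20)
      have hy0 : y 0 = 0 := (mul_eq_zero.mp h3).resolve_left hτ0
      funext i
      fin_cases i
      · exact hy0
      · show y 1 = 0
        rw [e0, hy0]
    · obtain ⟨D, hD⟩ : ∃ D, D = y 0 * y 0 + τ * (y 0 * y 1) + y 1 * y 1 := ⟨_, rfl⟩
      have hD0 : D ≠ 0 := by
        intro h
        rw [hD] at h
        by_cases h1 : y 1 = 0
        · simp [h1] at h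
          exact hy (funext fun i => by fin_cases i <;> simp [h, h1])
        · refine hτ (y 0 / y 1) ?_
          field_simp
          linear_combination h
      have hτ0 : τ ≠ 0 := fun h => hτ 1 (by rw [h]; linear_combination h20)
      obtain ⟨l, hl⟩ : ∃ l, l = τ / D := ⟨_, rfl⟩
      have hl0 : l ≠ 0 := hl ▸ div_ne_zero hτ0 hD0
      have hlD : l * D = τ := by rw [hl, div_mul_cancel₀ _ hD0]
      rw [hD] at hlD
      refine ⟨tv y l, tv_pow y l, tv_fix y l, Or.inr (Matrix.SpecialLinearGroup.ext _ _ fun i j => ?_), tv_hit hy hl0⟩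
      rw [Matrix.SpecialLinearGroup.coe_mul, Matrix.SpecialLinearGroup.coe_mul, Matrix.SpecialLinearGroup.coe_inv, hT, Matrix.adjugate_fin_two]
      fin_cases i <;> fin_cases j <;> simp [tv, Matrix.mul_apply, Fin.sum_univ_two] <;>
        first
          | linear_combination h20
          | linear_combination -h20
          | linear_combination hlD - (l * (y 1 * y 1)) * h20
          | linear_combination hlD + (τ - l * (y 1 * y 1)) * h20
  · have h20 : (2 : F) ≠ 0 := Ring.two_ne_zero (by rw [ringChar.eq F p]; exact h2)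
    obtain ⟨T, hT⟩ : ∃ T : Matrix.SpecialLinearGroup (Fin 2) F, (T : Matrix (Fin 2) (Fin 2) F) = !![-1, 0; 0, -1] :=
      ⟨⟨!![-1, 0; 0, -1], by rw [Matrix.det_fin_two]; simp⟩, rfl⟩
    refine ⟨T, fun y hy => ?_, fun y hy => ?_⟩
    · rw [hT] at hy
      funext i
      have e := congrFun hy i
      have e' : (2 : F) * y i = 0 := by
        fin_cases i <;> simp [Matrix.mulVec, dotProduct, Fin.sum_univ_two, -mul_eq_zero] at e ⊢ <;> linear_combination -e
      exact (mul_eq_zero.mp e').resolve_left h20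
    · refine ⟨tv y 1, tv_pow y 1, tv_fix y 1, Or.inl (Matrix.SpecialLinearGroup.ext _ _ fun i j => ?_), tv_hit hy one_ne_zero⟩
      rw [Matrix.SpecialLinearGroup.coe_mul, Matrix.SpecialLinearGroup.coe_mul, hT]
      fin_cases i <;> fin_cases j <;> simp [tv, Matrix.mul_apply, Matrix.vecMul, dotProduct, Fin.sum_univ_two]

end Cfsg.Agent.Fus.FFEmb
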