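import Cfsg.Agent.Lib.Fus.FFEmbeddedBasic
import Cfsg.Agent.Lib.Fus.FFEmbeddedTorus
import Cfsg.Agent.Lib.Grp.OffenderSL2.Main

/-!
# A minimal pair of conjugate offenders: natural module and a covered complement
-/

set_option autoImplicit false
set_option linter.unusedSectionVars false
set_option linter.style.haveILetI false

open scoped commutatorElement Matrix

namespace Cfsg.Agent.Fus.FFEmb

open Subgroup Cfsg.Agent.Grp Cfsg.Agent.Grp.OffenderSL2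

universe u

variable {G : Type u} [Group G] [Finite G] {p : ℕ} [Fact p.Prime] {V Γ Y S A : Subgroup G}
  (C : Ctx p V Γ Y S A) {P : Subgroup G} (hPΓ : P ≤ Γ) (hAP : A ≤ P)
  (hgen : ∀ z ∈ P, z ∉ Y → A ⊔ cj z A = P) (hPY : ¬ P ≤ Y)
include C hPΓ hAP hgen hPY

theorem Ctx.not_mem {x : G} (hxY : x ∉ Y) {a : G} (ha : a ∈ Y) : a * x ∉ Y := fun h =>
  hxY (by simpa using Y.mul_mem (Y.inv_mem ha) h)

/-- The points cover the module. -/
theorem Ctx.cover {x : G} (hx : x ∈ P) (hxY : x ∉ Y) {v : G} (hv : v ∈ V)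
    (hvZ : v ∉ V ⊓ centralizer (P : Set G)) :
    v ∈ V ⊓ centralizer (A : Set G) ∨ ∃ a ∈ A, v ∈ cj (a * x) (V ⊓ centralizer (A : Set G)) := by
  classical
  obtain ⟨W, hW⟩ : ∃ W, W = V ⊓ centralizer (A : Set G) := ⟨_, rfl⟩
  obtain ⟨Z, hZ⟩ : ∃ Z, Z = V ⊓ centralizer (P : Set G) := ⟨_, rfl⟩
  obtain ⟨e1, e2⟩ := C.min_cards hPΓ hAP hgen hPY
  rw [← hW, ← hZ] at e1
  rw [← hW] at e2 ⊢
  rw [← hZ] at hvZ
  let g : Option A → G := fun i => i.elim 1 fun a => (a : G) * x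
  have hg : ∀ i, g i ∈ P := fun i => by
    cases i with
    | none => exact one_mem _
    | some a => exact mul_mem (hAP a.2) hx
  have hdisj : ∀ i j, i ≠ j → ∀ w, w ∈ cj (g i) W → w ∈ cj (g j) W → w ∈ Z := by
    intro i j hij w hi hj
    have hz : (g i)⁻¹ * g j ∈ P := mul_mem (inv_mem (hg i)) (hg j)
    have hzY : (g i)⁻¹ * g j ∉ Y := by
      cases i with
      | none =>
        cases j with
        | none => exact absurd rfl hij
        | some b => simpa [g] using C.not_mem hPΓ hAP hgen hPY hxY (C.aY b.2)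
      | some a =>
        cases j with
        | none =>
          intro h
          refine C.not_mem hPΓ hAP hgen hPY hxY (C.aY a.2) ?_
          simpa [g] using Y.inv_mem h
        | some b =>
          have hne : (a : G)⁻¹ * b ≠ 1 := fun h => hij (congrArg some (Subtype.ext (inv_mul_eq_one.mp h)))
          show ((a : G) * x)⁻¹ * ((b : G) * x) ∉ Y
          rw [show ((a : G) * x)⁻¹ * ((b : G) * x) = x⁻¹ * ((a : G)⁻¹ * b) * x by group]
          exact C.conj_not (hPΓ hx) hxY (mul_mem (inv_mem a.2) b.2) hne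
    have h1 : (g i)⁻¹ * w * g i ∈ W ⊓ cj ((g i)⁻¹ * g j) W := by
      refine mem_inf.mpr ⟨mem_cj.mp hi, mem_cj.mpr ?_⟩
      rw [show ((g i)⁻¹ * g j)⁻¹ * ((g i)⁻¹ * w * g i) * ((g i)⁻¹ * g j) = (g j)⁻¹ * w * g j by group]
      exact mem_cj.mp hj
    rw [hW, C.min_inter hPΓ hAP hgen hz hzY] at h1
    have h2 := Config.mem_cent.mp h1.2 _ (hg i)
    rw [show g i * ((g i)⁻¹ * w * g i) * (g i)⁻¹ = w by group] at h2
    exact hZ ▸ h2.symm ▸ h1
  have hle : ∀ i, cj (g i) W ≤ V := fun i =>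
    (cj_mono _ (hW ▸ inf_le_left)).trans (C.cjV (hPΓ (hg i))).le
  have hZle : ∀ i, Z ≤ cj (g i) W := fun i z hz => by
    rw [hZ] at hz
    refine mem_cj.mpr (hW ▸ mem_inf.mpr ⟨by simpa using C.norm _ (inv_mem (hPΓ (hg i))) z hz.1, ?_⟩)
    have h2 : (g i)⁻¹ * z * g i = z := by simpa using Config.mem_cent.mp hz.2 _ (inv_mem (hg i))
    rw [h2]
    exact centralizer_le (SetLike.coe_subset_coe.mpr hAP) hz.2
  let Φ : (Σ i : Option A, ↥(((cj (g i) W : Subgroup G) : Set G) \ (Z : Set G))) → ↥((V : Set G) \ (Z : Set G)) :=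
    fun q => ⟨(q.2 : G), hle q.1 q.2.2.1, q.2.2.2⟩
  have hΦ : Function.Injective Φ := by
    rintro ⟨i, w, hw⟩ ⟨j, w', hw'⟩ h
    have h' : w = w' := congrArg Subtype.val h
    subst h'
    obtain rfl : i = j := by
      by_contra hij
      exact hw.2 (hdisj i j hij w hw.1 hw'.1)
    rfl
  have hcard : ∀ i, Nat.card ↥(((cj (g i) W : Subgroup G) : Set G) \ (Z : Set G)) = Nat.card W - Nat.card Z := fun i => by
    rw [Nat.card_coe_set_eq, Set.ncard_sdiff (SetLike.coe_subset_coe.mpr (hZle i)) (Set.toFinite _),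
      ← Nat.card_coe_set_eq, ← Nat.card_coe_set_eq]
    exact congrArg (· - Nat.card Z) (card_cj (g i) W)
  have hbij : Function.Bijective Φ := (Nat.bijective_iff_injective_and_card Φ).mpr ⟨hΦ, by
    haveI : Fintype (Option A) := Fintype.ofFinite _
    rw [Nat.card_sigma, Finset.sum_congr rfl fun i _ => hcard i, Finset.sum_const, smul_eq_mul, Finset.card_univ,
      ← Nat.card_eq_fintype_card, Finite.card_option, Nat.card_coe_set_eq,
      Set.ncard_sdiff (SetLike.coe_subset_coe.mpr ((hZ ▸ inf_le_left : Z ≤ V))) (Set.toFinite _),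
      ← Nat.card_coe_set_eq, ← Nat.card_coe_set_eq]
    show _ = Nat.card V - Nat.card Z
    rw [e2, e1, Nat.mul_sub]
    obtain ⟨q, hq⟩ : ∃ q, q = Nat.card A := ⟨_, rfl⟩
    obtain ⟨z, hz⟩ : ∃ z, z = Nat.card Z := ⟨_, rfl⟩
    rw [← hq, ← hz, add_mul, add_mul, one_mul, one_mul]
    omega⟩
  obtain ⟨⟨i, w, hw⟩, hwv⟩ := hbij.2 ⟨v, hv, hvZ⟩
  have e : w = v := congrArg Subtype.val hwv
  subst e
  cases i with
  | none =>
    left
    have := mem_cj.mp hw.1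
    simpa [g] using this
  | some a => exact Or.inr ⟨a, a.2, hw.1⟩

/-- What lies in `Y` fixes the first point. -/
theorem Ctx.point_fix {m : G} (hm : m ∈ P) (hmY : m ∈ Y) :
    cj m (V ⊓ centralizer (A : Set G)) = V ⊓ centralizer (A : Set G) := by
  obtain ⟨x, hx, hxY⟩ := SetLike.not_le_iff_exists.mp hPY
  refine eq_of_le_of_card_ge (fun v hv => ?_) (card_cj m _).ge
  have hvV : v ∈ V := ((cj_mono m inf_le_left).trans (C.cjV (hPΓ hm)).le) hv
  by_cases hvZ : v ∈ V ⊓ centralizer (P : Set G)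
  · exact ⟨hvV, centralizer_le (SetLike.coe_subset_coe.mpr hAP) hvZ.2⟩
  rcases C.cover hPΓ hAP hgen hPY hx hxY hvV hvZ with h | ⟨a, ha, h⟩
  · exact h
  exfalso
  have hz : m⁻¹ * (a * x) ∈ P := mul_mem (inv_mem hm) (mul_mem (hAP ha) hx)
  have hzY : m⁻¹ * (a * x) ∉ Y := fun h' => C.not_mem hPΓ hAP hgen hPY hxY (C.aY ha) (by
    simpa using Y.mul_mem hmY h')
  have h1 : m⁻¹ * v * m ∈ (V ⊓ centralizer (A : Set G)) ⊓ cj (m⁻¹ * (a * x)) (V ⊓ centralizer (A : Set G)) := by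
    refine mem_inf.mpr ⟨mem_cj.mp hv, mem_cj.mpr ?_⟩
    rw [show (m⁻¹ * (a * x))⁻¹ * (m⁻¹ * v * m) * (m⁻¹ * (a * x)) = (a * x)⁻¹ * v * (a * x) by group]
    exact mem_cj.mp h
  rw [C.min_inter hPΓ hAP hgen hz hzY] at h1
  have h2 := Config.mem_cent.mp h1.2 m hm
  rw [show m * (m⁻¹ * v * m) * m⁻¹ = v by group] at h2
  exact hvZ (h2.symm ▸ h1)

/-- The cosets of `Y` met by the pair. -/
theorem Ctx.coset {x z : G} (hx : x ∈ P) (hxY : x ∉ Y) (hz : z ∈ P) (hzY : z ∉ Y) :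
    ∃ a ∈ A, (a * x)⁻¹ * z ∈ Y := by
  obtain ⟨v, hv, hvZ⟩ : ∃ v ∈ cj z (V ⊓ centralizer (A : Set G)), v ∉ V ⊓ centralizer (P : Set G) := by
    refine SetLike.not_le_iff_exists.mp fun hle => C.min_ne hPΓ hAP hgen hPY ?_
    exact (eq_of_le_of_card_ge (inf_le_inf le_rfl (centralizer_le (SetLike.coe_subset_coe.mpr hAP)))
      ((card_cj z _).ge.trans (card_le_of_le hle))).symm
  have hvV : v ∈ V := ((cj_mono z inf_le_left).trans (C.cjV (hPΓ hz)).le) hv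
  rcases C.cover hPΓ hAP hgen hPY hx hxY hvV hvZ with h | ⟨a, ha, h⟩
  · exact absurd ((C.min_inter hPΓ hAP hgen hz hzY) ▸ mem_inf.mpr ⟨h, hv⟩) hvZ
  refine ⟨a, ha, ?_⟩
  by_contra hn
  have hax : a * x ∈ P := mul_mem (hAP ha) hx
  have h1 : (a * x)⁻¹ * v * (a * x) ∈
      (V ⊓ centralizer (A : Set G)) ⊓ cj ((a * x)⁻¹ * z) (V ⊓ centralizer (A : Set G)) := by
    refine mem_inf.mpr ⟨mem_cj.mp h, mem_cj.mpr ?_⟩
    rw [show ((a * x)⁻¹ * z)⁻¹ * ((a * x)⁻¹ * v * (a * x)) * ((a * x)⁻¹ * z) = z⁻¹ * v * z by group]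
    exact mem_cj.mp hv
  rw [C.min_inter hPΓ hAP hgen (mul_mem (inv_mem hax) hz) hn] at h1
  have h2 := Config.mem_cent.mp h1.2 _ hax
  rw [show a * x * ((a * x)⁻¹ * v * (a * x)) * (a * x)⁻¹ = v by group] at h2
  exact hvZ (h2.symm ▸ h1)

omit hPΓ hAP hgen hPY in
/-- A `p`-group acting on `|A|` cosets off `Y` has order at most `|A|`. -/
theorem Ctx.card_le_orbit {x : G} (hx : x ∈ Γ) (hxY : x ∉ Y) {T : Subgroup G} (hT : IsPGroup p T)
    (hTY : T ≤ Y) (hex : ∀ t ∈ T, ∃ a ∈ A, (a * x)⁻¹ * (t * x) ∈ Y) :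
    Nat.card T ≤ Nat.card A := by
  choose f hfA hf using hex
  refine Nat.card_le_card_of_injective (fun t : T => (⟨f t t.2, hfA t t.2⟩ : A)) fun t s h => ?_
  have e : f t t.2 = f s s.2 := congrArg Subtype.val h
  have h1 : x⁻¹ * ((t : G)⁻¹ * s) * x ∈ Y := by
    have := Y.mul_mem (Y.inv_mem (hf t t.2)) (hf s s.2)
    rw [e] at this
    simpa [mul_assoc] using this
  refine Subtype.ext (inv_mul_eq_one.mp ?_)
  by_contra hne
  obtain ⟨k, hk⟩ := hT ⟨_, mul_mem (inv_mem t.2) s.2⟩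
  exact C.ti x hx hxY _ (hTY (mul_mem (inv_mem t.2) s.2)) hne ⟨k, congrArg Subtype.val hk⟩ h1

theorem Ctx.sylow_pair : Grp.IsSylowIn p A P := by
  obtain ⟨T, hT, hAT⟩ := HomDPi.exists_isSylowIn_ge (q := p) hAP C.mem.pg
  obtain ⟨a, ha, ha1⟩ := C.exists_ne
  have hTY : T ≤ Y := C.pY (hT.1.trans hPΓ) hT.2.1 (hAT ha) (C.aY ha) ha1
  obtain ⟨x, hx, hxY⟩ := SetLike.not_le_iff_exists.mp hPY
  have := eq_of_le_of_card_ge hAT (C.card_le_orbit (hPΓ hx) hxY hT.2.1 hTY fun t ht =>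
    C.coset hPΓ hAP hgen hPY hx hxY (mul_mem (hT.1 ht) hx) (C.not_mem hPΓ hAP hgen hPY hxY (hTY ht)))
  exact this ▸ hT

/-- The pair is a configuration. -/
theorem Ctx.config : Config p V P A (P ⊓ Y) A := by
  have hsyl := C.sylow_pair hPΓ hAP hgen hPY
  have hAM : A ≤ P ⊓ Y := le_inf hAP C.aY
  have hsylM : Grp.IsSylowIn p A (P ⊓ Y) := ⟨hAM, hsyl.2.1, fun h => hsyl.2.2
    (h.trans ⟨_, (relIndex_mul_relIndex A (P ⊓ Y) P hAM inf_le_left).symm⟩)⟩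
  obtain ⟨x, hx, hxY⟩ := SetLike.not_le_iff_exists.mp hPY
  obtain ⟨u, hu, huP⟩ : ∃ u ∈ V ⊓ centralizer (A : Set G), u ∉ centralizer (P : Set G) := by
    refine SetLike.not_le_iff_exists.mp fun hle => C.min_ne hPΓ hAP hgen hPY ?_
    exact le_antisymm (le_inf inf_le_left hle) (inf_le_inf le_rfl (centralizer_le (SetLike.coe_subset_coe.mpr hAP)))
  refine ⟨C.vcomm, C.vexp, fun g hg => C.norm g (hPΓ hg), C.mem.comm, le_rfl, hAM, inf_le_left,
    ⟨x, hx, fun h => hxY h.2⟩, C.mem.pg, fun Q hQ hQp => ?_, hsyl.2.2, C.mem.meas_ge, C.mem.strict,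
    fun z hz hzM => hgen z hz fun h => hzM ⟨hz, h⟩, u, hu.1, hu.2, huP⟩
  obtain ⟨S1, hS1, hle⟩ := HomDPi.exists_isSylowIn_ge (q := p) hQ hQp
  obtain ⟨k, hk, he⟩ := hsylM.conj hS1
  exact ⟨k, hk, hle.trans (by rw [← he, ← map_conj_eq_smul]; rfl)⟩

/-- The `p`-elements of the pair inside `Y` lie in `A`. -/
theorem Ctx.pElem_mem {d : G} (hd : d ∈ P) (hdY : d ∈ Y) {k : ℕ} (hdk : d ^ p ^ k = 1) : d ∈ A := by
  have hC := C.config hPΓ hAP hgen hPY
  have hp : IsPGroup p (zpowers d) := by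
    rintro ⟨y, hy⟩
    obtain ⟨i, rfl⟩ := mem_zpowers_iff.mp hy
    exact ⟨k, Subtype.ext (by
      show (d ^ i) ^ (p ^ k) = 1
      rw [← zpow_natCast (d ^ i), ← _root_.zpow_mul, mul_comm, _root_.zpow_mul, zpow_natCast, hdk, one_zpow])⟩
  obtain ⟨m, hm, hle⟩ := hC.sylow (zpowers d) (zpowers_le.mpr ⟨hd, hdY⟩) hp
  have hmem : d ∈ cj m A := hle (mem_zpowers d)
  obtain ⟨W, hW⟩ : ∃ W, W = V ⊓ centralizer (A : Set G) := ⟨_, rfl⟩
  obtain ⟨K, hK, hKp⟩ := C.exists_stab (hW ▸ inf_le_left : W ≤ V)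
  have hAK : A ≤ K := fun a ha => (hK a).mpr ⟨C.mem.le ha, fun w hw => Config.mem_cent.mp (hW.le hw).2 a ha,
    fun v hv => hW ▸ C.quad ha hv⟩
  have hmW : cj m W = W := hW ▸ C.point_fix hPΓ hAP hgen hPY hm.1 hm.2
  have hdK : d ∈ K := by
    obtain ⟨a, ha, rfl⟩ := hmem
    have haK := (hK a).mp (hAK ha)
    refine (hK _).mpr ⟨mul_mem (mul_mem (hPΓ hm.1) haK.1) (inv_mem (hPΓ hm.1)), fun w hw => ?_, fun v hv => ?_⟩
    · have h1 : m⁻¹ * w * m ∈ W := mem_cj.mp (hmW.ge hw)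
      show m * a * m⁻¹ * w * (m * a * m⁻¹)⁻¹ = w
      calc m * a * m⁻¹ * w * (m * a * m⁻¹)⁻¹ = m * (a * (m⁻¹ * w * m) * a⁻¹) * m⁻¹ := by group
        _ = w := by rw [haK.2.1 _ h1]; group
    · have h1 := haK.2.2 (m⁻¹ * v * m) (by simpa using C.norm m⁻¹ (inv_mem (hPΓ hm.1)) v hv)
      show ⁅m * a * m⁻¹, v⁆ ∈ W
      rw [show ⁅m * a * m⁻¹, v⁆ = m * ⁅a, m⁻¹ * v * m⁆ * m⁻¹ by simp only [commutatorElement_def]; group]
      exact hmW.le (conj_mem_cj m h1)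
  have hsup : IsPGroup p ↥(A ⊔ zpowers d) := hKp.to_le (sup_le hAK (zpowers_le.mpr hdK))
  have := (C.sylow_pair hPΓ hAP hgen hPY).eq_of_le (Y := A ⊔ zpowers d) le_sup_left
    (sup_le hAP (zpowers_le.mpr hd)) hsup
  exact this.symm ▸ le_sup_right (a := A) (mem_zpowers d)

/-- The covered complement. -/
theorem Ctx.exists_comp : ∃ U : Subgroup G, U ≤ V ∧ Nat.card U = Nat.card A * Nat.card A ∧
    Nat.card ↥(U ⊓ (V ⊓ centralizer (A : Set G))) ≤ Nat.card A ∧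
    (∀ y ∈ U, y ≠ 1 → ∃ k ∈ P, ∃ a ∈ A, ∃ v ∈ V, y = k * ⁅a, v⁆ * k⁻¹) ∧
    ∃ a ∈ A, a ≠ 1 ∧ ∀ v ∈ V, ⁅a, v⁆ ∈ U := by
  classical
  have hC := C.config hPΓ hAP hgen hPY
  obtain ⟨F, iF, fF, hF, ⟨iso⟩, -, hn, -, r, ψ, hr, hψ, hker, hact⟩ :=
    hC.natural (le_bot_iff.mp ((inf_le_inf hPΓ le_rfl).trans C.faith.le))
  obtain ⟨n, hn'⟩ := IsPGroup.iff_card.mp C.mem.pg
  haveI : CharP F p := Invol.Nat2.charP_of_card (F := F) (hF.trans hn')
  have hrb : Function.Bijective r := (Nat.bijective_iff_surjective_and_card r).mpr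
    ⟨MonoidHom.range_eq_top.mp hr, Nat.card_congr iso.toEquiv⟩
  obtain ⟨t0, ht0, htor⟩ := exists_torus (F := F) (p := p)
  obtain ⟨t, ht⟩ := hrb.2 t0
  obtain ⟨Z, hZ⟩ : ∃ Z, Z = V ⊓ centralizer (P : Set G) := ⟨_, rfl⟩
  have hcm : ∀ (g : ↥P) {v : G}, v ∈ V → ⁅(g : G), v⁆ ∈ V := fun g v hv =>
    V.mul_mem (C.norm g (hPΓ g.2) v hv) (V.inv_mem hv)
  obtain ⟨Λ, hΛ⟩ : ∃ Λ : G → (Fin 2 → F), ∀ (v : G) (hv : v ∈ V), Λ v = Multiplicative.toAdd (ψ ⟨v, hv⟩) :=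
    ⟨fun v => if hv : v ∈ V then Multiplicative.toAdd (ψ ⟨v, hv⟩) else 0, fun v hv => dif_pos hv⟩
  have hΛm : ∀ v ∈ V, ∀ w ∈ V, Λ (v * w) = Λ v + Λ w := fun v hv w hw => by
    rw [hΛ v hv, hΛ w hw, hΛ _ (mul_mem hv hw), ← toAdd_mul, ← map_mul]; rfl
  have hΛ0 : ∀ v ∈ V, (Λ v = 0 ↔ v ∈ Z) := fun v hv => by
    rw [hΛ v hv, hZ, ← hker ⟨v, hv⟩]
    exact ⟨fun h => Multiplicative.toAdd.injective (h.trans toAdd_one.symm), fun h => by rw [h]; rfl⟩
  have hΛc : ∀ (g : ↥P) (v : G), v ∈ V →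
      Λ ⁅(g : G), v⁆ = ((r g : Matrix.SpecialLinearGroup (Fin 2) F) : Matrix (Fin 2) (Fin 2) F) *ᵥ Λ v - Λ v := by
    intro g v hv
    obtain ⟨w, hw, hψw⟩ := hact g ⟨v, hv⟩
    have h1 := hΛm _ (hcm g hv) v hv
    rw [show ⁅(g : G), v⁆ * v = w by rw [hw, commutatorElement_def]; group, hΛ _ w.2, hψw, ← hΛ v hv] at h1
    exact eq_sub_of_add_eq h1.symm
  have hΛsurj : ∀ y, ∃ v ∈ V, Λ v = y := fun y => by
    obtain ⟨v, hv⟩ := hψ (Multiplicative.ofAdd y)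
    exact ⟨v, v.2, by rw [hΛ _ v.2, hv]; rfl⟩
  let φ : ↥V →* G :=
    { toFun := fun v => ⁅(t : G), (v : G)⁆
      map_one' := by simp
      map_mul' := fun v w => C.comm_right (hPΓ t.2) v.2 w.2 }
  have hφker : ∀ v : ↥V, φ v = 1 ↔ (v : G) ∈ Z := fun v => by
    constructor
    · intro h
      refine (hΛ0 _ v.2).mp (ht0 _ ?_)
      have h1 := hΛc t v v.2
      rw [show ⁅(t : G), (v : G)⁆ = 1 from h, ht, (hΛ0 1 (one_mem _)).mpr (one_mem _)] at h1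
      exact (sub_eq_zero.mp h1.symm)
    · intro h
      show ⁅(t : G), (v : G)⁆ = 1
      rw [commutatorElement_def, Config.mem_cent.mp (hZ.le h).2 _ t.2, mul_inv_cancel]
  obtain ⟨U, hU⟩ : ∃ U, U = φ.range := ⟨_, rfl⟩
  have hUV : U ≤ V := by
    rw [hU]; rintro _ ⟨v, rfl⟩; exact hcm t v.2
  have hUZ : ∀ y ∈ U, y ∈ Z → y = 1 := by
    intro y hy hyZ
    rw [hU] at hy
    obtain ⟨v, rfl⟩ := hy
    refine (hφker v).mpr ((hΛ0 _ v.2).mp (ht0 _ ?_))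
    have h1 := hΛc t v v.2
    rw [(hΛ0 _ (hcm t v.2)).mpr hyZ, ht] at h1
    exact sub_eq_zero.mp h1.symm
  have hZV : Z ≤ V := hZ ▸ inf_le_left
  obtain ⟨e1, e2⟩ := C.min_cards hPΓ hAP hgen hPY
  rw [← hZ] at e1
  have hUcard : Nat.card U = Nat.card A * Nat.card A := by
    have h := φ.ker.index_mul_card
    rw [index_ker, ← hU] at h
    have e : φ.ker = Z.subgroupOf V := Subgroup.ext fun v => by
      rw [MonoidHom.mem_ker, hφker, mem_subgroupOf]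
    rw [e, Nat.card_congr (subgroupOfEquivOfLe hZV).toEquiv, e2, e1, ← mul_assoc] at h
    exact Nat.eq_of_mul_eq_mul_right Nat.card_pos h
  have hsplit : ∀ v ∈ V, ∃ w ∈ U, Λ w = Λ v := by
    intro v hv
    have hinj : Function.Injective fun w : U => Λ (w : G) := fun w w' h => by
      refine Subtype.ext (mul_inv_eq_one.mp (hUZ _ (U.mul_mem w.2 (U.inv_mem w'.2)) ?_))
      refine (hΛ0 _ (V.mul_mem (hUV w.2) (V.inv_mem (hUV w'.2)))).mp ?_
      have h1 := hΛm _ (V.mul_mem (hUV w.2) (V.inv_mem (hUV w'.2))) _ (hUV w'.2)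
      rw [inv_mul_cancel_right] at h1
      have h' : Λ (w : G) = Λ (w' : G) := h
      rw [h'] at h1
      exact left_eq_add.mp (h1.trans (add_comm _ _))
    have hb := (Nat.bijective_iff_injective_and_card _).mpr ⟨hinj, by
      rw [hUcard, Nat.card_fun, Nat.card_fin, Nat.card_eq_fintype_card (α := F), hF, pow_two]⟩
    obtain ⟨w, hw⟩ := hb.2 (Λ v)
    exact ⟨w, w.2, hw⟩
  -- one transvection for each vector of the complement
  have hkey : ∀ y ∈ U, y ≠ 1 → ∃ d : ↥P, d ^ p = 1 ∧ (d : G) * y * (d : G)⁻¹ = y ∧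
      (∀ v ∈ V, ⁅(d : G), v⁆ ∈ U) ∧ ∃ x ∈ V, ⁅(d : G), x⁆ = y := by
    intro y hy hy1
    have hne : Λ y ≠ 0 := fun h => hy1 (hUZ y hy ((hΛ0 y (hUV hy)).mp h))
    obtain ⟨d0, hd0, hdy, hdt, x0, hx0⟩ := htor _ hne
    obtain ⟨d, hd⟩ := hrb.2 d0
    have hdp : d ^ p = 1 := hrb.1 (by rw [map_pow, hd, hd0, map_one])
    have hnorm : ∀ w ∈ U, (d : G) * w * (d : G)⁻¹ ∈ U := by
      intro w hw
      rw [hU] at hw
      obtain ⟨v, rfl⟩ := hw
      have hdv : (d : G) * v * (d : G)⁻¹ ∈ V := C.norm d (hPΓ d.2) v v.2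
      have e : (d : G) * φ v * (d : G)⁻¹ = ⁅(d : G) * t * (d : G)⁻¹, (d : G) * v * (d : G)⁻¹⁆ := by
        show (d : G) * ⁅(t : G), (v : G)⁆ * _ = _
        simp only [commutatorElement_def]; group
      rw [e, hU]
      rcases hdt with h | h
      · have h' : d * t = t * d := hrb.1 (by rw [map_mul, map_mul, hd, ht, h])
        have h'' : (d : G) * t * (d : G)⁻¹ = t := by
          rw [mul_inv_eq_iff_eq_mul]; exact congrArg Subtype.val h'
        rw [h'']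
        exact ⟨⟨_, hdv⟩, rfl⟩
      · have h' : d * t = t⁻¹ * d := hrb.1 (by rw [map_mul, map_mul, map_inv, hd, ht, h])
        have h'' : (d : G) * t * (d : G)⁻¹ = (t : G)⁻¹ := by
          rw [mul_inv_eq_iff_eq_mul]; exact congrArg Subtype.val h'
        rw [h'', show ∀ z : G, ⁅(t : G)⁻¹, z⁆ = ⁅(t : G), (t : G)⁻¹ * z * t⁆⁻¹ from fun z => by
          simp only [commutatorElement_def]; group]
        exact inv_mem ⟨⟨_, by simpa using C.norm _ (inv_mem (hPΓ t.2)) _ hdv⟩, rfl⟩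
    have hdU : ∀ w ∈ U, ⁅(d : G), w⁆ ∈ U := fun w hw => U.mul_mem (hnorm w hw) (U.inv_mem hw)
    have hall : ∀ v ∈ V, ⁅(d : G), v⁆ ∈ U := by
      intro v hv
      obtain ⟨w, hw, he⟩ := hsplit v hv
      have hz : w⁻¹ * v ∈ Z := by
        refine (hΛ0 _ (V.mul_mem (V.inv_mem (hUV hw)) hv)).mp ?_
        have h1 := hΛm w (hUV hw) _ (V.mul_mem (V.inv_mem (hUV hw)) hv)
        rw [mul_inv_cancel_left, ← he] at h1
        exact left_eq_add.mp h1
      rw [show v = w * (w⁻¹ * v) by group, C.comm_right (hPΓ d.2) (hUV hw) (hZV hz),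
        show ⁅(d : G), w⁻¹ * v⁆ = 1 by
          rw [commutatorElement_def, Config.mem_cent.mp (hZ.le hz).2 _ d.2, mul_inv_cancel], mul_one]
      exact hdU w hw
    refine ⟨d, hdp, ?_, hall, ?_⟩
    · have h1 := hΛc d y (hUV hy)
      rw [hd, hdy, sub_self] at h1
      exact mul_inv_eq_one.mp (hUZ _ (hdU y hy) ((hΛ0 _ (hcm d (hUV hy))).mp h1))
    · obtain ⟨v, hv, hvx⟩ := hΛsurj x0
      refine ⟨v, hv, mul_inv_eq_one.mp (hUZ _ (U.mul_mem (hall v hv) (U.inv_mem hy)) ?_)⟩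
      refine (hΛ0 _ (V.mul_mem (hcm d hv) (V.inv_mem (hUV hy)))).mp ?_
      have h1 := hΛm _ (V.mul_mem (hcm d hv) (V.inv_mem (hUV hy))) _ (hUV hy)
      rw [inv_mul_cancel_right, hΛc d v hv, hd, hvx, hx0] at h1
      exact left_eq_add.mp (h1.trans (add_comm _ _))
  have hWbd : Nat.card ↥(U ⊓ (V ⊓ centralizer (A : Set G))) ≤ Nat.card A := by
    have hd : U ⊓ (V ⊓ centralizer (A : Set G)) ⊓ Z = ⊥ := eq_bot_iff.mpr fun y hy => hUZ y hy.1.1 hy.2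
    have hle : U ⊓ (V ⊓ centralizer (A : Set G)) ⊔ Z ≤ V ⊓ centralizer (A : Set G) :=
      sup_le inf_le_right (hZ ▸ inf_le_inf le_rfl (centralizer_le (SetLike.coe_subset_coe.mpr hAP)))
    have h := Grp.card_sup_mul_card_inf (H := U ⊓ (V ⊓ centralizer (A : Set G))) (N := Z) fun w hw =>
      centralizer_le_normalizer _ (mem_centralizer_iff.mpr fun k hk => C.vcomm k (hZV hk) w (hw.2.1))
    rw [hd, card_bot, mul_one] at h
    refine Nat.le_of_mul_le_mul_right (?_ : _ * Nat.card Z ≤ _ * Nat.card Z) Nat.card_pos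
    rw [← h, ← e1]
    exact card_le_of_le hle
  refine ⟨U, hUV, hUcard, hWbd, fun y hy hy1 => ?_, ?_⟩
  · obtain ⟨d, hdp, -, -, v, hv, hdv⟩ := hkey y hy hy1
    have hp : IsPGroup p (zpowers (d : G)) := by
      rintro ⟨w, hw⟩
      obtain ⟨i, rfl⟩ := mem_zpowers_iff.mp hw
      refine ⟨1, Subtype.ext ?_⟩
      show ((d : G) ^ i) ^ (p ^ 1) = 1
      rw [pow_one, ← zpow_natCast ((d : G) ^ i), ← _root_.zpow_mul, mul_comm, _root_.zpow_mul, zpow_natCast,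
        ← coe_pow, hdp, coe_one, one_zpow]
    obtain ⟨S1, hS1, hle⟩ := HomDPi.exists_isSylowIn_ge (q := p) (zpowers_le.mpr d.2 : zpowers (d : G) ≤ P) hp
    obtain ⟨k, hk, he⟩ := (C.sylow_pair hPΓ hAP hgen hPY).conj hS1
    have hmem : (d : G) ∈ cj k A := by
      have := hle (mem_zpowers (d : G))
      rwa [← he, ← map_conj_eq_smul] at this
    obtain ⟨a, ha, hak⟩ := hmem
    refine ⟨k, hk, a, ha, k⁻¹ * v * k, by simpa using C.norm _ (inv_mem (hPΓ hk)) v hv, ?_⟩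
    have hak' : k * a * k⁻¹ = (d : G) := hak
    rw [← hdv, ← hak']
    simp only [commutatorElement_def]; group
  · obtain ⟨y, hy, hy1⟩ : ∃ y ∈ U ⊓ (V ⊓ centralizer (A : Set G)), y ≠ 1 := by
      by_contra hc
      push Not at hc
      have h0 : U ⊓ (V ⊓ centralizer (A : Set G)) = ⊥ := (eq_bot_iff_forall _).mpr hc
      have h := Grp.card_sup_mul_card_inf (H := U) (N := V ⊓ centralizer (A : Set G)) fun w hw =>
        centralizer_le_normalizer _ (mem_centralizer_iff.mpr fun k hk => C.vcomm k hk.1 w (hUV hw))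
      rw [h0, card_bot, mul_one, hUcard] at h
      have h2 := card_le_of_le (sup_le hUV inf_le_left : U ⊔ (V ⊓ centralizer (A : Set G)) ≤ V)
      rw [h, e2] at h2
      have h3 : Nat.card A ≤ 1 := Nat.le_of_mul_le_mul_right
        (Nat.le_of_mul_le_mul_right (le_of_le_of_eq h2 (by rw [one_mul])) Nat.card_pos) Nat.card_pos
      exact C.mem.ne (Subgroup.card_eq_one.mp (le_antisymm h3 Nat.card_pos))
    obtain ⟨d, hdp, hfix, hall, v, hv, hdv⟩ := hkey y hy.1 hy1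
    have hdM : (d : G) ∈ P ⊓ Y := hC.fixes_mem d.2 hy.2 (fun h => hy1 (hUZ y hy.1 (hZ.ge h))) (by
      show ⁅(d : G), y⁆ ∈ _
      rw [commutatorElement_def, hfix, mul_inv_cancel]
      exact one_mem _)
    refine ⟨d, C.pElem_mem hPΓ hAP hgen hPY d.2 hdM.2 (k := 1) (by rw [pow_one, ← coe_pow, hdp, coe_one]), ?_, hall⟩
    intro h1
    refine hy1 ?_
    rw [← hdv, h1, commutatorElement_one_left]

end Cfsg.Agent.Fus.FFEmb
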