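import Cfsg.Agent.Lib.Fus.QdGroup

/-!
An element acting as a transvection and one acting as a generator of the split torus of `SL(2, p)` on a
two-dimensional quotient of a subgroup give a section isomorphic to the Borel subgroup of `Qd(p)`.
-/

set_option autoImplicit false
set_option linter.style.haveILetI false

namespace Cfsg.Agent.Fus

open Matrix Subgroup

universe u

variable {p : ℕ}

local notation "SL2" => Matrix.SpecialLinearGroup (Fin 2) (ZMod p)
local notation "F2" => Multiplicative (Fin 2 → ZMod p)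

/-- The upper unitriangular transvection. -/
def planeUp (p : ℕ) (t : ZMod p) : Matrix.SpecialLinearGroup (Fin 2) (ZMod p) :=
  ⟨!![1, t; 0, 1], by simp [Matrix.det_fin_two]⟩

/-- A diagonal element. -/
def planeDiag (p : ℕ) (a : (ZMod p)ˣ) : Matrix.SpecialLinearGroup (Fin 2) (ZMod p) :=
  ⟨!![(a : ZMod p), 0; 0, ((a⁻¹ : (ZMod p)ˣ) : ZMod p)], by simp [Matrix.det_fin_two]⟩

theorem planeUp_mul (s t : ZMod p) : planeUp p s * planeUp p t = planeUp p (s + t) := by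
  apply Subtype.ext
  rw [Matrix.SpecialLinearGroup.coe_mul]
  ext i j
  fin_cases i <;> fin_cases j <;> simp [planeUp, Matrix.mul_apply, Fin.sum_univ_two, add_comm]

theorem planeUp_pow (t : ZMod p) (n : ℕ) : planeUp p t ^ n = planeUp p (n * t) := by
  induction n with
  | zero =>
    rw [pow_zero]
    apply Subtype.ext
    ext i j
    fin_cases i <;> fin_cases j <;> simp [planeUp]
  | succ n ih => rw [pow_succ, ih, planeUp_mul, Nat.cast_succ, add_mul, one_mul]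

theorem planeDiag_mul (a b : (ZMod p)ˣ) : planeDiag p a * planeDiag p b = planeDiag p (a * b) := by
  apply Subtype.ext
  rw [Matrix.SpecialLinearGroup.coe_mul]
  ext i j
  fin_cases i <;> fin_cases j <;> simp [planeDiag, Matrix.mul_apply, Fin.sum_univ_two, mul_comm]

theorem planeDiag_pow (a : (ZMod p)ˣ) (n : ℕ) : planeDiag p a ^ n = planeDiag p (a ^ n) := by
  induction n with
  | zero =>
    rw [pow_zero]
    apply Subtype.ext
    ext i j
    fin_cases i <;> fin_cases j <;> simp [planeDiag]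
  | succ n ih => rw [pow_succ, ih, planeDiag_mul, pow_succ]

/-- The upper triangular matrices are products of the two generators. -/
theorem borel_decomp [Fact p.Prime] {a : (ZMod p)ˣ} (ha : ∀ u : (ZMod p)ˣ, u ∈ Subgroup.zpowers a)
    (g : SL2) (hg : g.1 1 0 = 0) :
    ∃ i j : ℕ, g = planeUp p 1 ^ j * planeDiag p a ^ i := by
  have hdet : g.1 0 0 * g.1 1 1 = 1 := by
    have h : g.1.det = 1 := g.2
    rwa [Matrix.det_fin_two, hg, mul_zero, sub_zero] at h
  obtain ⟨i, hi⟩ := (mem_powers_iff_mem_zpowers (x := a)).mpr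
    (ha (Units.mk0 (g.1 0 0) (left_ne_zero_of_mul_eq_one hdet)))
  refine ⟨i, (g.1 0 1 * g.1 0 0).val, ?_⟩
  have hi' : ((a ^ i : (ZMod p)ˣ) : ZMod p) = g.1 0 0 := congrArg Units.val hi
  have hi'' : (((a ^ i)⁻¹ : (ZMod p)ˣ) : ZMod p) = g.1 1 1 :=
    Units.inv_eq_of_mul_eq_one_right (by rw [hi', hdet])
  rw [planeUp_pow, planeDiag_pow, ZMod.natCast_zmod_val, mul_one]
  apply Subtype.ext
  rw [Matrix.SpecialLinearGroup.coe_mul]
  ext k l
  fin_cases k <;> fin_cases l <;>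
    simp [planeUp, planeDiag, Matrix.mul_apply, Fin.sum_univ_two, hi', hi'', hg, mul_assoc, hdet]

/-- The subgroup `fOver` is the set of its generators. -/
theorem mem_fOver_iff [Fact p.Prime] {M : Matrix.SpecialLinearGroup (Fin 3) (ZMod p)} :
    M ∈ fOver (ZMod p) ↔ M.1 1 0 = 0 ∧ M.1 2 0 = 0 ∧ M.1 2 1 = 0 ∧ M.1 2 2 = 1 := by
  refine ⟨fun hM => ?_, fun h => Subgroup.subset_closure h⟩
  induction hM using Subgroup.closure_induction with
  | mem x hx => exact hx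
  | one => exact ⟨rfl, rfl, rfl, rfl⟩
  | mul x y _ _ hx hy =>
    obtain ⟨a0, a1, a2, a3⟩ := hx
    obtain ⟨b0, b1, b2, b3⟩ := hy
    simp [Matrix.SpecialLinearGroup.coe_mul, Matrix.mul_apply, Fin.sum_univ_three, a0, a1, a2, a3, b0,
      b1, b2, b3]
  | inv x _ hx =>
    obtain ⟨a0, a1, a2, a3⟩ := hx
    rw [Matrix.SpecialLinearGroup.coe_inv, Matrix.adjugate_fin_three]
    have hd : x.1.det = 1 := x.2
    rw [Matrix.det_fin_three, a0, a1, a2, a3] at hd
    simp [a0, a1, a2, a3]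
    linear_combination hd

/-- A transvection and a full split torus on a plane quotient give the Borel subgroup of `Qd(p)`. -/
theorem involves_fOver [Fact p.Prime] (hodd : p ≠ 2) {L : Type u} [Group L] [Finite L] {V : Subgroup L}
    (φ : V →* Multiplicative (Fin 2 → ZMod p)) (hφ : Function.Surjective φ) {x s : L} {a : (ZMod p)ˣ}
    (hcyc : ∀ u : (ZMod p)ˣ, u ∈ Subgroup.zpowers a)
    (hxn : x ∈ Subgroup.normalizer (V : Set L)) (hsn : s ∈ Subgroup.normalizer (V : Set L))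
    (hx : ∀ (v : V) (h : x * v * x⁻¹ ∈ V), φ ⟨_, h⟩ = matAct (planeUp p 1) (φ v))
    (hs : ∀ (v : V) (h : s * v * s⁻¹ ∈ V), φ ⟨_, h⟩ = matAct (planeDiag p a) (φ v)) :
    Involves ↥(fOver (ZMod p)) L := by
  let Bor : Subgroup SL2 :=
    { carrier := {g | g.1 1 0 = 0}
      one_mem' := rfl
      mul_mem' := fun {g k} (hg : g.1 1 0 = 0) (hk : k.1 1 0 = 0) => by
        simp [Matrix.SpecialLinearGroup.coe_mul, Matrix.mul_apply, Fin.sum_univ_two, hg, hk]
      inv_mem' := fun {g} (hg : g.1 1 0 = 0) => by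
        simp [Matrix.SpecialLinearGroup.coe_inv, Matrix.adjugate_fin_two, hg] }
  haveI : Fact (Even (Fintype.card (Fin 2))) := ⟨even_two⟩
  let q : ℕ := 2
  haveI hq : Fact q.Prime := ⟨Nat.prime_two⟩
  have hqp : q ≠ p := fun h => hodd h.symm
  let z : SL2 := -1
  have hzq : z ^ q = 1 := by
    show (-1 : SL2) ^ 2 = 1
    rw [sq]
    apply Subtype.ext
    simp
  have hzn : (Subgroup.zpowers z).Normal := ⟨fun n hn y => by
    obtain ⟨k, rfl⟩ := Subgroup.mem_zpowers_iff.1 hn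
    rw [← conj_zpow, show y * z * y⁻¹ = z by
      show y * -1 * y⁻¹ = (-1 : SL2)
      rw [mul_neg, mul_one, neg_mul, mul_inv_cancel]]
    exact Subgroup.zpow_mem _ (Subgroup.mem_zpowers _) k⟩
  have hzB : Subgroup.zpowers z ≤ Bor := Subgroup.zpowers_le.mpr (by
    show (-1 : SL2).1 1 0 = 0
    simp)
  have hzfix : ∀ v : F2, matAct z v = v → v = 1 := fun v hv => by
    have hv' := congrArg Multiplicative.toAdd hv
    simp only [z, matAct, toAdd_ofAdd, Matrix.SpecialLinearGroup.coe_neg,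
      Matrix.SpecialLinearGroup.coe_one, Matrix.neg_mulVec, Matrix.one_mulVec] at hv'
    apply Multiplicative.toAdd.injective
    funext i
    have h := congrFun hv' i
    have h20 : (2 : ZMod p) ≠ 0 := fun h0 => hodd ((Nat.prime_dvd_prime_iff_eq Fact.out Nat.prime_two).1
      ((ZMod.natCast_eq_zero_iff 2 p).1 (by exact_mod_cast h0)))
    refine (mul_eq_zero.1 (?_ : (2 : ZMod p) * v.toAdd i = 0)).resolve_left h20
    rw [two_mul]
    exact eq_neg_iff_add_eq_zero.1 h.symm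
  let Γ := qdGraph V φ
  let ρ : Γ →* SL2 := (MonoidHom.snd _ _).comp Γ.subtype
  have hρ : ∀ g, g ∈ Bor → ∃ y : Γ, ρ y = g := fun g hg => by
    obtain ⟨i, j, rfl⟩ := borel_decomp hcyc g hg
    refine ⟨(⟨(x, planeUp p 1), hxn, hx⟩ : Γ) ^ j * (⟨(s, planeDiag p a), hsn, hs⟩ : Γ) ^ i, ?_⟩
    rw [map_mul, map_pow, map_pow]
    rfl
  have hzp : IsPGroup q (Subgroup.zpowers z) := fun x => ⟨1, Subtype.ext (by
    obtain ⟨k, hk⟩ := Subgroup.mem_zpowers_iff.1 x.2
    rw [pow_one, SubmonoidClass.coe_pow, ← hk, OneMemClass.coe_one, ← zpow_natCast, ← _root_.zpow_mul,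
      mul_comm, _root_.zpow_mul, zpow_natCast, hzq, _root_.one_zpow])⟩
  let J : Subgroup Γ := (Subgroup.zpowers z).comap ρ
  haveI : J.Normal := hzn.comap ρ
  let fJ : J →* Subgroup.zpowers z := (ρ.comp J.subtype).codRestrict _ fun x => x.2
  have hfJ : Function.Surjective fJ := by
    rintro ⟨g, hg⟩
    obtain ⟨x, rfl⟩ := hρ g (hzB hg)
    exact ⟨⟨x, hg⟩, rfl⟩
  obtain ⟨T₂⟩ : Nonempty (Sylow q J) := inferInstance
  have hT₂ := sylow_map_eq_top hzp T₂ hfJ
  set T : Subgroup Γ := (T₂ : Subgroup J).map J.subtype with hT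
  let H := Subgroup.normalizer (T : Set Γ)
  obtain ⟨t, htT, htz⟩ : ∃ t ∈ T, ρ t = z := by
    obtain ⟨x, hx, hxz⟩ : (⟨z, Subgroup.mem_zpowers z⟩ : Subgroup.zpowers z) ∈
        (T₂ : Subgroup J).map fJ := by rw [hT₂]; exact Subgroup.mem_top _
    exact ⟨x, Subgroup.mem_map_of_mem _ hx, congrArg Subtype.val hxz⟩
  have hH : ∀ g, g ∈ Bor → ∃ h ∈ H, ρ h = g := fun g hg => by
    obtain ⟨x, rfl⟩ := hρ g hg
    have hx' : x ∈ H ⊔ J := by
      show x ∈ Subgroup.normalizer (T : Set Γ) ⊔ J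
      rw [hT, T₂.normalizer_sup_eq_top]; exact Subgroup.mem_top x
    obtain ⟨n, hn, j, hj, rfl⟩ := Subgroup.mem_sup_of_normal_right.1 hx'
    obtain ⟨k, hk⟩ := Subgroup.mem_zpowers_iff.1 hj
    refine ⟨n * t ^ k, H.mul_mem hn (H.zpow_mem (Subgroup.le_normalizer htT) k), ?_⟩
    rw [map_mul, map_mul, map_zpow, htz, hk]
  have hfix : ∀ h ∈ H, ∀ hv : h.1.1 ∈ V, φ ⟨_, hv⟩ = 1 ∧ h.1.2 = 1 := by
    intro h hh hv
    refine ⟨(hzfix _ ?_), eq_of_matAct_eq fun w => ?_⟩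
    swap
    · obtain ⟨u, rfl⟩ := hφ w
      have hu : h.1.1 * u * h.1.1⁻¹ ∈ V := V.mul_mem (V.mul_mem hv u.2) (V.inv_mem hv)
      rw [← h.2.2 u hu, matAct_one,
        show (⟨_, hu⟩ : V) = ⟨_, hv⟩ * u * ⟨_, hv⟩⁻¹ from rfl, map_mul, map_mul, map_inv,
        mul_inv_cancel_comm]
    set v : V := ⟨h.1.1, hv⟩ with hvdef
    have hcT : h * t * h⁻¹ * t⁻¹ ∈ T :=
      T.mul_mem ((Subgroup.mem_normalizer_iff.1 hh t).1 htT) (T.inv_mem htT)
    have ht' : t.1.1 * ((v⁻¹ : V) : L) * t.1.1⁻¹ ∈ V :=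
      (Subgroup.mem_normalizer_iff.1 t.2.1 _).1 (v⁻¹ : V).2
    set c : V := v * ⟨_, ht'⟩ with hc
    have hc1 : (c : L) = (h * t * h⁻¹ * t⁻¹).1.1 := by
      simp [hc, hvdef, mul_assoc]
    obtain ⟨k, hk⟩ := (T₂.2.map J.subtype) ⟨_, hcT⟩
    have hck : c ^ q ^ k = 1 := Subtype.ext (by
      rw [SubmonoidClass.coe_pow, hc1, OneMemClass.coe_one]
      have := congrArg (fun y : T => y.1.1.1) hk
      simpa using this)
    have h1 : φ c = 1 := by
      obtain ⟨j, hj⟩ := isPGroup_vec p (φ c)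
      refine orderOf_eq_one_iff.1 (Nat.eq_one_of_dvd_coprimes
        (Nat.Coprime.pow j k ((Nat.coprime_primes Fact.out hq.out).2 (Ne.symm hqp)))
        (orderOf_dvd_of_pow_eq_one hj) (orderOf_dvd_of_pow_eq_one ?_))
      rw [← map_pow, hck, map_one]
    rw [hc, map_mul, t.2.2 v⁻¹ ht', show t.1.2 = z from htz,
      show matAct z (φ v⁻¹) = (matAct z (φ v))⁻¹ from by
        rw [map_inv]; exact map_inv (matHom z) (φ v),
      mul_inv_eq_one] at h1
    exact h1.symm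
  let Δ : Subgroup (L × qd p) :=
    { carrier := {y | ∃ v : V, ∃ h ∈ H, y.1 = v * h.1.1 ∧ y.2 = qdTrans p (φ v) * qdLift p h.1.2}
      one_mem' := ⟨1, 1, H.one_mem, by simp, by simp⟩
      mul_mem' := by
        rintro ⟨a, b⟩ ⟨a', b'⟩ ⟨v, h, hh, rfl, rfl⟩ ⟨v', h', hh', rfl, rfl⟩
        have hv' : h.1.1 * v' * h.1.1⁻¹ ∈ V := (Subgroup.mem_normalizer_iff.1 h.2.1 _).1 v'.2
        refine ⟨v * ⟨_, hv'⟩, h * h', H.mul_mem hh hh', ?_, ?_⟩
        · simp [mul_assoc]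
        · have hc := qdTrans_conj (qdLift p h.1.2) (φ v')
          rw [qdBlock_lift, ← h.2.2 v' hv'] at hc
          rw [map_mul φ, map_mul (qdTrans p), ← hc]
          simp [mul_assoc]
      inv_mem' := by
        rintro ⟨a, b⟩ ⟨v, h, hh, rfl, rfl⟩
        have hv' : (h⁻¹).1.1 * ((v⁻¹ : V) : L) * (h⁻¹).1.1⁻¹ ∈ V :=
          (Subgroup.mem_normalizer_iff.1 (h⁻¹).2.1 _).1 (v⁻¹ : V).2
        refine ⟨⟨_, hv'⟩, h⁻¹, H.inv_mem hh, ?_, ?_⟩
        · simp [mul_assoc]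
        · have hc := qdTrans_conj (qdLift p (h⁻¹).1.2) (φ v⁻¹)
          rw [qdBlock_lift, ← (h⁻¹).2.2 v⁻¹ hv'] at hc
          rw [← hc]
          simp [mul_assoc] }
  let fst : Δ →* L := (MonoidHom.fst _ _).comp Δ.subtype
  have hinj : Function.Injective fst := (injective_iff_map_eq_one fst).2 fun y hy => by
    obtain ⟨v, h, hh, h1, h2⟩ := y.2
    have hv : h.1.1 = ((v⁻¹ : V) : L) := by
      rw [Subgroup.coe_inv, ← mul_eq_one_iff_inv_eq.1 (h1.symm.trans hy)]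
    obtain ⟨hφv, hh2⟩ := hfix h hh (hv ▸ (v⁻¹ : V).2)
    rw [show (⟨h.1.1, _⟩ : V) = v⁻¹ from Subtype.ext hv, map_inv, inv_eq_one] at hφv
    refine Subtype.ext (Prod.ext hy ?_)
    rw [h2, hφv, hh2, map_one, map_one, one_mul]
    rfl
  let K : Subgroup Δ := Subgroup.comap ((qdBlock p).comp ((MonoidHom.snd _ _).comp Δ.subtype)) Bor
  let f : K →* Matrix.SpecialLinearGroup (Fin 3) (ZMod p) :=
    (qd p).subtype.comp (((MonoidHom.snd _ _).comp Δ.subtype).comp K.subtype)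
  have hfmem : ∀ y, f y ∈ fOver (ZMod p) := fun y => by
    obtain ⟨a0, a1, a2⟩ := qd_apply (y.1.1.2)
    exact mem_fOver_iff.mpr ⟨y.2, a0, a1, a2⟩
  have hsurj : Function.Surjective (f.codRestrict _ hfmem) := by
    rintro ⟨M, hM⟩
    obtain ⟨b0, b1, b2, b3⟩ := mem_fOver_iff.mp hM
    let y : qd p := ⟨M, Subgroup.subset_closure ⟨b1, b2, b3⟩⟩
    have hyB : qdBlock p y ∈ Bor := by
      show (qdBlock p y).1 1 0 = 0
      rw [qdBlock_coe]
      exact b0
    obtain ⟨h, hh, hhx⟩ := hH (qdBlock p y) hyB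
    obtain ⟨v, hv⟩ := hφ (Multiplicative.ofAdd ![y.1.1 0 2, y.1.1 1 2])
    refine ⟨⟨⟨(v * h.1.1, y), v, h, hh, rfl, ?_⟩, hyB⟩, rfl⟩
    show y = _
    rw [hv, show h.1.2 = qdBlock p y from hhx]
    exact qd_decomp y
  exact Invol.IsSectionOf.involves ((⟨_, (f.codRestrict _ hfmem).comp
    (K.equivMapOfInjective fst hinj).symm.toMonoidHom,
    hsurj.comp (K.equivMapOfInjective fst hinj).symm.surjective⟩) :
      Invol.IsSectionOf ↥(fOver (ZMod p)) L)

end Cfsg.Agent.Fus
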