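import Cfsg.Agent.Lib.Fus.FailLocal
import Cfsg.Agent.Lib.Fus.FPlane
import Cfsg.Agent.Lib.Transfer.Alperin
import Cfsg.Agent.Lib.Grp.Frattini

/-!
If `Z(J(S))` does not control strong fusion for an odd prime, then its normaliser has a plane section with a
full split torus and a transvection, and the torus element acts on an element of order `p` of `Z(J(S))` as a
generator of the automorphisms.
-/

set_option autoImplicit false
set_option linter.unusedSectionVars false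
set_option linter.style.haveILetI false

namespace Cfsg.Agent.Fus.Fail

open Subgroup Cfsg.Agent.Grp

universe u

variable {G : Type u} [Group G] {p : ℕ}

/-- The conjugation of `X` by `g` is that by an element of `H`. -/
def Good (H X : Subgroup G) (g : G) : Prop := ∃ h ∈ H, ∀ x ∈ X, g * x * g⁻¹ = h * x * h⁻¹

theorem Good.of_mem {H X : Subgroup G} {g : G} (h : g ∈ H) : Good H X g := ⟨g, h, fun _ _ => rfl⟩

theorem Good.mono {H X Y : Subgroup G} {g : G} (hYX : Y ≤ X) (h : Good H X g) : Good H Y g :=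
  let ⟨a, ha, e⟩ := h
  ⟨a, ha, fun y hy => e y (hYX hy)⟩

theorem Good.trans {H X : Subgroup G} {g k : G} (h1 : Good H X g) (h2 : Good H (cj g X) k) :
    Good H X (k * g) := by
  obtain ⟨a, ha, e1⟩ := h1
  obtain ⟨b, hb, e2⟩ := h2
  refine ⟨b * a, H.mul_mem hb ha, fun x hx => ?_⟩
  have := e2 _ (conj_mem_cj g hx)
  rw [show k * g * x * (k * g)⁻¹ = k * (g * x * g⁻¹) * k⁻¹ by group, this, e1 x hx]
  group

theorem Good.inv {H X : Subgroup G} {g : G} (h1 : Good H X g) : Good H (cj g X) g⁻¹ := by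
  obtain ⟨a, ha, e1⟩ := h1
  refine ⟨a⁻¹, H.inv_mem ha, fun y hy => ?_⟩
  have := e1 _ (mem_cj.mp hy)
  rw [show g * (g⁻¹ * y * g) * g⁻¹ = y by group] at this
  conv_rhs => rw [this]
  group

theorem Good.congr {H X : Subgroup G} {g k : G} (h : Good H X k) (e : ∀ x ∈ X, g * x * g⁻¹ = k * x * k⁻¹) :
    Good H X g :=
  let ⟨a, ha, e'⟩ := h
  ⟨a, ha, fun x hx => (e x hx).trans (e' x hx)⟩

theorem Good.mono_left {H H' X : Subgroup G} {g : G} (hH : H ≤ H') (h : Good H X g) : Good H' X g :=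
  let ⟨a, ha, e⟩ := h
  ⟨a, hH ha, e⟩

/-- `H` controls fusion in `S` inside `L`. -/
def Ctrl (L S H : Subgroup G) : Prop := ∀ X ≤ S, ∀ g ∈ L, cj g X ≤ S → Good H X g

/-- `D` is a subgroup of `S` whose normaliser in `S` is a Sylow subgroup of that in `L`. -/
def Tame (p : ℕ) (L S D : Subgroup G) : Prop :=
  D ≤ S ∧ Grp.IsSylowIn p (S ⊓ Subgroup.normalizer (D : Set G)) (L ⊓ Subgroup.normalizer (D : Set G))

/-- The conclusion of the failure of control. -/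
def Data (p : ℕ) (a0 : (ZMod p)ˣ) (H Z : Subgroup G) : Prop :=
  ∃ s ∈ H, ∃ x ∈ H, (∃ D1 : Subgroup G, D1 ≤ H ∧
      ∃ φ : D1 →* Multiplicative (Fin 2 → ZMod p), Function.Surjective φ ∧
        x ∈ Subgroup.normalizer (D1 : Set G) ∧ s ∈ Subgroup.normalizer (D1 : Set G) ∧
        (∀ (v : D1) (h : x * v * x⁻¹ ∈ D1), φ ⟨_, h⟩ = Fus.matAct (planeUp p 1) (φ v)) ∧
        ∀ (v : D1) (h : s * v * s⁻¹ ∈ D1), φ ⟨_, h⟩ = Fus.matAct (planeDiag p a0) (φ v)) ∧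
    ∃ b ∈ Z, orderOf b = p ∧ s * b * s⁻¹ = b ^ (a0 : ZMod p).val

theorem Data.mono {a0 : (ZMod p)ˣ} {H H' Z : Subgroup G} (hH : H ≤ H') (h : Data p a0 H Z) :
    Data p a0 H' Z := by
  obtain ⟨s, hs, x, hx, ⟨D1, hD, rest⟩, hb⟩ := h
  exact ⟨s, hH hs, x, hH hx, ⟨D1, hD.trans hH, rest⟩, hb⟩

variable [Finite G] [hp : Fact p.Prime]

section Facts

variable {L S : Subgroup G}

theorem norm_self_mem (S : Subgroup G) {x : G} (hx : x ∈ S) : x ∈ Subgroup.normalizer (S : Set G) :=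
  Subgroup.le_normalizer hx

theorem conj_centerJ {g : G} (hg : g ∈ Subgroup.normalizer (thompsonSubgroupAOf S : Set G)) :
    g ∈ Subgroup.normalizer (centerThompsonAOf S : Set G) := by
  refine norm_of_le fun z hz => ⟨(Subgroup.mem_normalizer_iff.mp hg z).mp hz.1,
    mem_centralizer_iff_commute.mpr fun h hh => ?_⟩
  have h1 := mem_centralizer_iff_commute.mp hz.2 _
    ((Subgroup.mem_normalizer_iff.mp (inv_mem hg) h).mp hh)
  calc h * (g * z * g⁻¹) = g * (g⁻¹ * h * g⁻¹⁻¹ * z) * g⁻¹ := by group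
    _ = g * (z * (g⁻¹ * h * g⁻¹⁻¹)) * g⁻¹ := by rw [h1]
    _ = g * z * g⁻¹ * h := by group

theorem centerJ_comm {z w : G} (hz : z ∈ centerThompsonAOf S) (hw : w ∈ centerThompsonAOf S) :
    z * w = w * z :=
  mem_centralizer_iff_commute.mp hw.2 z hz.1

theorem normS_le : Subgroup.normalizer (S : Set G) ≤ Subgroup.normalizer (centerThompsonAOf S : Set G) :=
  fun g hg => norm_of_le fun _ hz => conj_mem_centerThompsonA hg hz

theorem centerJ_le : centerThompsonAOf S ≤ S := fun _ hz => thompsonA_le S hz.1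

/-- A proper subgroup of a `p`-group grows in its normaliser. -/
theorem lt_inf_norm (hS : IsPGroup p S) {D : Subgroup G} (h : D < S) :
    D < S ⊓ Subgroup.normalizer (D : Set G) := by
  haveI := hS.isNilpotent
  have hlt : D.subgroupOf S < ⊤ := lt_top_iff_ne_top.2 fun he => h.not_ge (Subgroup.subgroupOf_eq_top.1 he)
  have h2 := Group.normalizerCondition_of_isNilpotent _ hlt
  rw [← Subgroup.subgroupOf_normalizer_eq h.le] at h2
  obtain ⟨x, hx, hxD⟩ := SetLike.exists_of_lt h2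
  exact lt_of_le_of_ne (le_inf h.le Subgroup.le_normalizer) fun he =>
    hxD (show (x : G) ∈ D from he.symm ▸ ⟨x.2, hx⟩)

/-- A Sylow subgroup cuts out one of a normal subgroup. -/
theorem sylow_inf_normal {P K N : Subgroup G} (hP : Grp.IsSylowIn p P K) (hNK : N ≤ K)
    (hN : ∀ k ∈ K, ∀ n ∈ N, k * n * k⁻¹ ∈ N) : Grp.IsSylowIn p (P ⊓ N) N := by
  obtain ⟨Y, hY⟩ := Grp.exists_isSylowIn p N
  obtain ⟨k, hk, hkY⟩ := conj_into hP (hY.1.trans hNK) hY.2.1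
  obtain ⟨W, hW, hle⟩ := HomDPi.exists_isSylowIn_ge (q := p) (W := P ⊓ N) inf_le_right
    (hP.2.1.to_le inf_le_left)
  have h1 : Nat.card Y ≤ Nat.card ↥(P ⊓ N) := by
    rw [← card_cj k Y]
    refine Subgroup.card_le_of_le (le_inf hkY (cj_le_iff.mpr fun y hy => hN k hk y (hY.1 hy)))
  have h2 : P ⊓ N = W := Subgroup.eq_of_le_of_card_ge hle (by rw [hW.card, ← hY.card]; exact h1)
  rw [h2]; exact hW

/-- An element with coprime order moving `d` by a fixed `p`-element fixes `d`. -/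
theorem fixed_of_coprime {m d e : G} (hm : (orderOf m).Coprime p) (he : m * d * m⁻¹ = e * d)
    (hme : m * e = e * m) (hep : ∃ k : ℕ, e ^ (p ^ k) = 1) : e = 1 := by
  have hk : ∀ k : ℕ, m ^ k * d * (m ^ k)⁻¹ = e ^ k * d := by
    intro k
    induction k with
    | zero => simp
    | succ k ih =>
      have hmk : m * e ^ k = e ^ k * m := (Commute.pow_right (show Commute m e from hme) k)
      calc m ^ (k + 1) * d * (m ^ (k + 1))⁻¹ = m * (m ^ k * d * (m ^ k)⁻¹) * m⁻¹ := by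
            rw [pow_succ']; group
        _ = m * e ^ k * d * m⁻¹ := by rw [ih]; group
        _ = e ^ k * (m * d * m⁻¹) := by rw [hmk]; group
        _ = e ^ (k + 1) * d := by rw [he, pow_succ]; group
  have h1 := hk (orderOf m)
  rw [pow_orderOf_eq_one, one_mul, inv_one, mul_one] at h1
  have h2 : e ^ orderOf m = 1 := mul_right_cancel (h1.symm.trans (one_mul d).symm)
  obtain ⟨k, hk'⟩ := hep
  have h3 : orderOf e ∣ 1 := by
    rw [← (hm.pow_right k).gcd_eq_one]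
    exact Nat.dvd_gcd (orderOf_dvd_of_pow_eq_one h2) (orderOf_dvd_of_pow_eq_one hk')
  exact orderOf_eq_one_iff.mp (Nat.dvd_one.mp h3)

theorem pow_prime_pow {K : Subgroup G} (hK : IsPGroup p K) {e : G} (he : e ∈ K) :
    ∃ k : ℕ, e ^ (p ^ k) = 1 := by
  obtain ⟨k, hk⟩ := hK ⟨e, he⟩
  exact ⟨k, congrArg Subtype.val hk⟩

/-- A group in which the elements of order prime to `p` lie in `N` is covered by `N` and a Sylow subgroup. -/
theorem le_sup_sylow {K N P : Subgroup G} (hNK : N ≤ K) (hP : Grp.IsSylowIn p P K)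
    (h : ∀ k ∈ K, (orderOf k).Coprime p → k ∈ N) : K ≤ N ⊔ P := by
  refine Grp.le_of_forall_sylow (sup_le hNK hP.1) fun q _ => ?_
  by_cases hqp : q = p
  · subst hqp
    exact ⟨P, hP, le_sup_right⟩
  obtain ⟨X, hX⟩ := Grp.exists_isSylowIn q K
  refine ⟨X, hX, fun x hx => le_sup_left (a := N) (h x (hX.1 hx) ?_)⟩
  obtain ⟨k, hk⟩ := IsPGroup.iff_orderOf.1 hX.2.1 ⟨x, hx⟩
  rw [← Subgroup.orderOf_mk x hx, hk]
  exact ((Nat.coprime_primes Fact.out hp.out).mpr hqp).pow_left k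

/-- The product of two subgroups one of which normalises the other. -/
theorem exists_mul_of_sup {N P : Subgroup G} (hn : P ≤ Subgroup.normalizer (N : Set G)) {g : G}
    (hg : g ∈ N ⊔ P) : ∃ n ∈ N, ∃ x ∈ P, n * x = g := by
  have h := Subgroup.coe_mul_of_right_le_normalizer_left N P hn
  rw [← SetLike.mem_coe, h] at hg
  exact hg

end Facts

section Alperin

variable {L S H : Subgroup G}

theorem good_of_chain (hS : Grp.IsSylowIn p S L) {k : ℕ}
    (hR : ∀ R, Tame p L S R → k ≤ Nat.card R → ∀ m ∈ L ⊓ Subgroup.normalizer (R : Set G), Good H R m)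
    {X : Subgroup G} (hXS : X ≤ S) (hk : k ≤ Nat.card X) {g : G} (hg : g ∈ L) (hgX : cj g X ≤ S) :
    Good H X g := by
  obtain ⟨P, hP⟩ := Grp.isSylowIn_iff.mp hS
  have key : ∀ (A : Set ↥L) (w : ↥L), Transfer.AlperinChain P A w → ∀ Y : Subgroup G, k ≤ Nat.card Y →
      (∀ y ∈ Y, ∃ a ∈ A, (a : G) = y) → Good H Y (w : G)⁻¹ := by
    intro A w hc
    induction hc with
    | nil A => exact fun Y _ _ => Good.of_mem (by simp)
    | @cons A Q x y hT hA _ ih =>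
      intro Y hkY hY
      let R0 : Subgroup ↥L := (P : Subgroup ↥L) ⊓ (Q : Subgroup ↥L)
      let R : Subgroup G := R0.map L.subtype
      have hRS : R ≤ S := hP ▸ Subgroup.map_mono inf_le_left
      have hYR : Y ≤ R := fun v hv => by
        obtain ⟨a, ha, rfl⟩ := hY v hv
        exact ⟨a, hA ha, rfl⟩
      have hN : (Subgroup.normalizer (R0 : Set ↥L)).map L.subtype = L ⊓ Subgroup.normalizer (R : Set G) := by
        ext g
        constructor
        · rintro ⟨n, hn, rfl⟩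
          refine ⟨n.2, norm_of_le fun v hv => ?_⟩
          obtain ⟨a, ha, rfl⟩ := hv
          exact ⟨n * a * n⁻¹, (Subgroup.mem_normalizer_iff.mp hn a).mp ha, by simp⟩
        · rintro ⟨hgL, hgn⟩
          refine ⟨⟨g, hgL⟩, norm_of_le fun a ha => ?_, rfl⟩
          obtain ⟨b, hb, hbe⟩ := (Subgroup.mem_normalizer_iff.mp hgn (a : G)).mp ⟨a, ha, rfl⟩
          have : b = ⟨g, hgL⟩ * a * ⟨g, hgL⟩⁻¹ := Subtype.ext (by simpa using hbe)
          exact this ▸ hb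
      have hPN : ((P : Subgroup ↥L) ⊓ Subgroup.normalizer (R0 : Set ↥L)).map L.subtype =
          S ⊓ Subgroup.normalizer (R : Set G) := by
        rw [Subgroup.map_inf _ _ _ L.subtype_injective, hN, hP, ← inf_assoc, inf_eq_left.mpr hS.1]
      have htame : Tame p L S R := by
        refine ⟨hRS, ?_⟩
        rw [← hPN, ← hN]
        refine ⟨Subgroup.map_mono inf_le_right, (P.isPGroup'.to_le inf_le_left).map _, ?_⟩
        rw [Subgroup.relIndex_map_map_of_injective _ _ L.subtype_injective]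
        exact hT.2.1
      have hxN : (x : G)⁻¹ ∈ L ⊓ Subgroup.normalizer (R : Set G) :=
        inv_mem (hN ▸ ⟨x, hT.1, rfl⟩)
      have h1 : Good H Y (x : G)⁻¹ :=
        (hR R htame (hkY.trans (Subgroup.card_le_of_le hYR)) _ hxN).mono hYR
      have h2 := ih (cj (x : G)⁻¹ Y) (by rw [card_cj]; exact hkY) (fun v hv => by
        obtain ⟨a, ha, hae⟩ := hY _ (mem_cj.mp hv)
        refine ⟨x⁻¹ * a * x, ⟨a, ha, rfl⟩, ?_⟩
        simp only [Subgroup.coe_mul, Subgroup.coe_inv, hae]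
        group)
      simpa [_root_.mul_inv_rev] using h1.trans h2
  have hPmem : ∀ a : ↥L, a ∈ (P : Subgroup ↥L) ↔ (a : G) ∈ S := fun a => by
    rw [← hP]
    exact (Subgroup.mem_map_iff_mem L.subtype_injective).symm
  have h := key ((fun a : ↥L => (a : G)) ⁻¹' X) ⟨g, hg⟩⁻¹
    (Transfer.alperin P _ _ (fun a ha => (hPmem a).mpr (hXS ha)) (by
      rintro _ ⟨a, ha, rfl⟩
      refine (hPmem _).mpr (hgX ?_)
      simpa using conj_mem_cj g ha))
    X hk (fun y hy => ⟨⟨y, hS.1 (hXS hy)⟩, hy, rfl⟩)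
  simpa using h

theorem ctrl_of_steps (hS : Grp.IsSylowIn p S L)
    (hR : ∀ R, Tame p L S R → ∀ m ∈ L ⊓ Subgroup.normalizer (R : Set G), Good H R m) : Ctrl L S H :=
  fun _ hX _ hg hgX => good_of_chain hS (k := 0) (fun R hR' _ => hR R hR') hX (Nat.zero_le _) hg hgX

/-- A largest tame subgroup with a bad element. -/
theorem exists_bad (hS : Grp.IsSylowIn p S L) (hNS : L ⊓ Subgroup.normalizer (S : Set G) ≤ H)
    (hc : ¬ Ctrl L S H) :
    ∃ D, Tame p L S D ∧ (∃ m ∈ L ⊓ Subgroup.normalizer (D : Set G), ¬ Good H D m) ∧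
      (∀ Y ≤ S, Nat.card ↥(S ⊓ Subgroup.normalizer (D : Set G)) < Nat.card ↥(S ⊓ Subgroup.normalizer (Y : Set G)) →
        ∀ m ∈ L ⊓ Subgroup.normalizer (Y : Set G), Good H Y m) ∧
      ∀ K : Subgroup G, K ≤ L ⊓ Subgroup.normalizer (D : Set G) →
        (∀ m ∈ L ⊓ Subgroup.normalizer (D : Set G), ∀ k ∈ K, m * k * m⁻¹ ∈ K) →
        (∀ m ∈ L ⊓ Subgroup.normalizer (D : Set G), (∀ d ∈ D, m * d = d * m) → m ∈ K) →
        (∀ k ∈ K, (orderOf k).Coprime p → ∀ d ∈ D, k * d = d * k) →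
        S ⊓ Subgroup.normalizer (D : Set G) ⊓ K ≤ D := by
  obtain ⟨Bad, hBad⟩ : ∃ B : Set (Subgroup G), B = {D | Tame p L S D ∧
      ∃ m ∈ L ⊓ Subgroup.normalizer (D : Set G), ¬ Good H D m} := ⟨_, rfl⟩
  have hne : Bad.Nonempty := by
    by_contra he
    refine hc (ctrl_of_steps hS fun R hR m hm => ?_)
    by_contra hb
    exact he ⟨R, hBad ▸ ⟨hR, m, hm, hb⟩⟩
  obtain ⟨μ, hμ⟩ : ∃ μ : Subgroup G → ℕ, ∀ D, μ D =
      Nat.card ↥(S ⊓ Subgroup.normalizer (D : Set G)) * (Nat.card S + 1) + Nat.card D := ⟨_, fun _ => rfl⟩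
  obtain ⟨D, hD, hmax⟩ := Set.exists_max_image Bad μ (Set.toFinite _) hne
  rw [hBad] at hD
  obtain ⟨⟨hDS, hDsyl⟩, hbad⟩ := hD
  have hgood : ∀ R, Tame p L S R → μ D < μ R → ∀ m ∈ L ⊓ Subgroup.normalizer (R : Set G), Good H R m := by
    intro R hR hlt m hm
    by_contra hb
    exact absurd (hmax R (hBad ▸ ⟨hR, m, hm, hb⟩)) (not_le.mpr hlt)
  obtain ⟨P, hP⟩ : ∃ P, P = S ⊓ Subgroup.normalizer (D : Set G) := ⟨_, rfl⟩
  rw [← hP] at hDsyl
  have hlex : ∀ R, R ≤ S → (Nat.card P < Nat.card ↥(S ⊓ Subgroup.normalizer (R : Set G)) ∨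
      (Nat.card P ≤ Nat.card ↥(S ⊓ Subgroup.normalizer (R : Set G)) ∧ Nat.card D < Nat.card R)) →
      μ D < μ R := by
    intro R hRS h
    rw [hμ, hμ, ← hP]
    have h1 : Nat.card D ≤ Nat.card S := Subgroup.card_le_of_le hDS
    have h2 : Nat.card R ≤ Nat.card S := Subgroup.card_le_of_le hRS
    rcases h with h | ⟨h, h'⟩
    · have := Nat.mul_le_mul_right (Nat.card S + 1) (Nat.succ_le_of_lt h)
      rw [Nat.succ_mul] at this
      omega
    · have := Nat.mul_le_mul_right (Nat.card S + 1) h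
      omega
  -- morphisms with a large domain
  have hlarge : ∀ X ≤ S, Nat.card P ≤ Nat.card X → ∀ g ∈ L, cj g X ≤ S → Good H X g := by
    refine fun X hX hk g hg hgX => good_of_chain hS (fun R hR hkR m hm => ?_) hX hk hg hgX
    by_cases hRS : R = S
    · subst hRS
      exact Good.of_mem (hNS hm)
    have h1 : Nat.card R < Nat.card ↥(S ⊓ Subgroup.normalizer (R : Set G)) := by
      have h := lt_inf_norm hS.2.1 (lt_of_le_of_ne hR.1 hRS)
      exact lt_of_le_of_ne (Subgroup.card_le_of_le h.le)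
        fun e => h.ne (Subgroup.eq_of_le_of_card_ge h.le e.ge)
    exact hgood R hR (hlex R hR.1 (Or.inl (lt_of_le_of_lt hkR h1))) m hm
  have hbigY : ∀ Y ≤ S, (Nat.card P < Nat.card ↥(S ⊓ Subgroup.normalizer (Y : Set G)) ∨
      (Nat.card P ≤ Nat.card ↥(S ⊓ Subgroup.normalizer (Y : Set G)) ∧ Nat.card D < Nat.card Y)) →
      ∀ m ∈ L ⊓ Subgroup.normalizer (Y : Set G), Good H Y m := by
    intro Y hYS hbig m hm
    obtain ⟨NY, hNY⟩ : ∃ X, X = S ⊓ Subgroup.normalizer (Y : Set G) := ⟨_, rfl⟩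
    rw [← hNY] at hbig
    obtain ⟨R, hR, hle⟩ := HomDPi.exists_isSylowIn_ge (q := p) (W := NY)
      (K := L ⊓ Subgroup.normalizer (Y : Set G)) (hNY ▸ le_inf (inf_le_left.trans hS.1) inf_le_right)
      (hS.2.1.to_le (hNY ▸ inf_le_left))
    obtain ⟨g, hg, hgR⟩ := conj_into hS (hR.1.trans inf_le_left) hR.2.1
    have hYN : Y ≤ NY := hNY ▸ le_inf hYS Subgroup.le_normalizer
    have hgood1 : Good H NY g := hlarge NY (hNY ▸ inf_le_left)
      (by rcases hbig with h | h; exacts [h.le, h.1]) g hg ((cj_mono g hle).trans hgR)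
    have hY'S : cj g Y ≤ S := (cj_mono g (hYN.trans hle)).trans hgR
    have hconj : ∀ n ∈ L ⊓ Subgroup.normalizer (Y : Set G),
        g * n * g⁻¹ ∈ L ⊓ Subgroup.normalizer (cj g Y : Set G) := fun n hn =>
      ⟨L.mul_mem (L.mul_mem hg hn.1) (L.inv_mem hg), mem_norm_of_cj (by
        rw [cj_cj, show g * n * g⁻¹ * g = g * n by group, ← cj_cj, cj_eq_self hn.2])⟩
    have hconj' : ∀ v ∈ L ⊓ Subgroup.normalizer (cj g Y : Set G),
        g⁻¹ * v * g ∈ L ⊓ Subgroup.normalizer (Y : Set G) := fun v hv =>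
      ⟨L.mul_mem (L.mul_mem (L.inv_mem hg) hv.1) hg, mem_norm_of_cj (by
        rw [show g⁻¹ * v * g = g⁻¹ * (v * g) by group, ← cj_cj, ← cj_cj v g Y, cj_eq_self hv.2, cj_cj,
          inv_mul_cancel, cj_one])⟩
    have hRle : cj g R ≤ S ⊓ Subgroup.normalizer (cj g Y : Set G) :=
      le_inf hgR (cj_le_iff.mpr fun r hr => (hconj r (hR.1 hr)).2)
    have hXp : IsPGroup p (cj g⁻¹ (S ⊓ Subgroup.normalizer (cj g Y : Set G))) :=
      (hS.2.1.to_le inf_le_left).map _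
    have heq : cj g R = S ⊓ Subgroup.normalizer (cj g Y : Set G) := by
      have h1 : R ≤ cj g⁻¹ (S ⊓ Subgroup.normalizer (cj g Y : Set G)) := fun r hr =>
        mem_cj.mpr (by simpa using hRle (conj_mem_cj g hr))
      have h2 : cj g⁻¹ (S ⊓ Subgroup.normalizer (cj g Y : Set G)) ≤ L ⊓ Subgroup.normalizer (Y : Set G) :=
        cj_le_iff.mpr fun v hv => by simpa using hconj' v ⟨hS.1 hv.1, hv.2⟩
      rw [hR.eq_of_le h1 h2 hXp, cj_cj, mul_inv_cancel, cj_one]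
    have htame : Tame p L S (cj g Y) := by
      refine ⟨hY'S, heq ▸ ⟨?_, hR.2.1.map _, ?_⟩⟩
      · exact heq.le.trans (le_inf (inf_le_left.trans hS.1) inf_le_right)
      · have he : L ⊓ Subgroup.normalizer (cj g Y : Set G) = cj g (L ⊓ Subgroup.normalizer (Y : Set G)) := by
          refine le_antisymm (fun v hv => mem_cj.mpr (hconj' v hv)) (cj_le_iff.mpr hconj)
        rw [he, cj, cj, Subgroup.relIndex_map_map_of_injective _ _ (MulAut.conj g).injective]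
        exact hR.2.2
    have hcardN : Nat.card NY ≤ Nat.card ↥(S ⊓ Subgroup.normalizer (cj g Y : Set G)) := by
      rw [← heq, card_cj]; exact Subgroup.card_le_of_le hle
    have h2 : Good H (cj g Y) (g * m * g⁻¹) := hgood _ htame (hlex _ hY'S (by
      rw [card_cj]
      rcases hbig with h | ⟨h, h'⟩
      · exact Or.inl (h.trans_le hcardN)
      · exact Or.inr ⟨h.trans hcardN, h'⟩)) _ (hconj m hm)
    have h3 : Good H (cj g Y) g⁻¹ := (hgood1.mono hYN).inv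
    have h4 : Good H Y (g * m) := by
      have := (hgood1.mono hYN).trans h2
      simpa [mul_assoc] using this
    have h5 : Good H (cj (g * m) Y) g⁻¹ := by rwa [← cj_cj, cj_eq_self hm.2]
    simpa using h4.trans h5
  refine ⟨D, ⟨hDS, hP ▸ hDsyl⟩, hbad, fun Y hY h => hbigY Y hY (Or.inl (hP ▸ h)),
    fun K hKM hKn hCK hKp => ?_⟩
  rw [← hP]
  by_contra hle
  obtain ⟨m, hm, hmbad⟩ := hbad
  have hPK := sylow_inf_normal hDsyl hKM hKn
  obtain ⟨k, hk, hkc⟩ := hPK.conj (Y := cj m (P ⊓ K)) ⟨cj_le_iff.mpr fun y hy => hKn m hm y hy.2,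
    hPK.2.1.map _, fun h => hPK.2.2 (by
      have he : cj m K = K := le_antisymm (cj_le_iff.mpr fun y hy => hKn m hm y hy) fun y hy =>
        mem_cj.mpr (by simpa using hKn m⁻¹ (inv_mem hm) y hy)
      nth_rewrite 2 [← he] at h
      rwa [cj, cj, Subgroup.relIndex_map_map_of_injective _ _ (MulAut.conj m).injective] at h)⟩
  -- `k` carries `P ⊓ K` to its conjugate by `m`
  obtain ⟨CD, hCD⟩ : ∃ X : Subgroup G, ∀ v, v ∈ X ↔
      v ∈ L ⊓ Subgroup.normalizer (D : Set G) ∧ ∀ d ∈ D, v * d = d * v :=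
    ⟨L ⊓ Subgroup.normalizer (D : Set G) ⊓ Subgroup.centralizer (D : Set G), fun v => and_congr Iff.rfl
      ⟨fun h d hd => (Subgroup.mem_centralizer_iff.mp h d hd).symm,
        fun h => Subgroup.mem_centralizer_iff.mpr fun d hd => (h d hd).symm⟩⟩
  have hKsup : K ≤ CD ⊔ (P ⊓ K) := le_sup_sylow (fun v hv => hCK v ((hCD v).mp hv).1 ((hCD v).mp hv).2) hPK
    fun v hv hv' => (hCD v).mpr ⟨hKM hv, hKp v hv hv'⟩
  obtain ⟨c, hc, y, hy, rfl⟩ := exists_mul_of_sup (fun v hv => norm_of_le fun z hz => by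
    obtain ⟨hzM, hzc⟩ := (hCD z).mp hz
    have hvM := hKM hv.2
    refine (hCD _).mpr ⟨Subgroup.mul_mem _ (Subgroup.mul_mem _ hvM hzM) (Subgroup.inv_mem _ hvM), fun d hd => ?_⟩
    have := hzc _ ((Subgroup.mem_normalizer_iff.mp (inv_mem hvM.2) d).mp hd)
    calc v * z * v⁻¹ * d = v * (z * (v⁻¹ * d * v⁻¹⁻¹)) * v⁻¹ := by group
      _ = v * (v⁻¹ * d * v⁻¹⁻¹ * z) * v⁻¹ := by rw [this]
      _ = d * (v * z * v⁻¹) := by group) (hKsup hk)
  obtain ⟨hcM, hcc⟩ := (hCD c).mp hc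
  have hkc' : cj c (cj y (P ⊓ K)) = cj m (P ⊓ K) := by rw [cj_cj]; exact hkc
  rw [cj_eq_self (Subgroup.le_normalizer hy)] at hkc'
  have hn : cj (c⁻¹ * m) (P ⊓ K) = P ⊓ K := by rw [← cj_cj, ← hkc', cj_cj, inv_mul_cancel, cj_one]
  have hnM : c⁻¹ * m ∈ L ⊓ Subgroup.normalizer (D : Set G) := mul_mem (inv_mem hcM) hm
  have hYS : D ⊔ (P ⊓ K) ≤ S := sup_le hDS (inf_le_left.trans (hP.le.trans inf_le_left))
  have hnorm : ∀ v ∈ Subgroup.normalizer (D : Set G), cj v (P ⊓ K) = P ⊓ K →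
      v ∈ Subgroup.normalizer (((D ⊔ (P ⊓ K) : Subgroup G)) : Set G) := fun v hv he => mem_norm_of_cj (by
    show Subgroup.map _ (D ⊔ (P ⊓ K)) = _
    rw [Subgroup.map_sup]
    exact congrArg₂ _ (cj_eq_self hv) he)
  have hPn : P ≤ S ⊓ Subgroup.normalizer (((D ⊔ (P ⊓ K) : Subgroup G)) : Set G) := fun v hv => by
    have hv' : v ∈ S ⊓ Subgroup.normalizer (D : Set G) := hP ▸ hv
    refine ⟨hv'.1, hnorm v hv'.2 (cj_eq_self (norm_of_le fun z hz => ⟨?_, ?_⟩))⟩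
    · exact P.mul_mem (P.mul_mem hv hz.1) (P.inv_mem hv)
    · exact hKn v (hDsyl.1 hv) z hz.2
  have hlt : Nat.card D < Nat.card ↥(D ⊔ (P ⊓ K)) :=
    lt_of_le_of_ne (Subgroup.card_le_of_le le_sup_left) fun e =>
      hle (le_sup_right.trans (Subgroup.eq_of_le_of_card_ge le_sup_left e.ge).ge)
  have hgn := (hbigY _ hYS (Or.inr ⟨Subgroup.card_le_of_le hPn, hlt⟩) _ ⟨hnM.1, hnorm _ hnM.2 hn⟩).mono
    (le_sup_left : D ≤ _)
  refine hmbad (hgn.congr fun d hd => ?_)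
  have hd' : m * d * m⁻¹ ∈ D := (Subgroup.mem_normalizer_iff.mp hm.2 d).mp hd
  calc m * d * m⁻¹ = c⁻¹ * (c * (m * d * m⁻¹)) := by group
    _ = c⁻¹ * (m * d * m⁻¹ * c) := by rw [hcc _ hd']
    _ = c⁻¹ * m * d * (c⁻¹ * m)⁻¹ := by group

end Alperin

section Main

variable {L S : Subgroup G}

/-- The data from a torus on a plane section in a group of good elements. -/
theorem data_of {H Z D T P N0 : Subgroup G} {a0 : (ZMod p)ˣ} (hDH : D ≤ H) (hPH : P ≤ H)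
    (hDp : IsPGroup p D) (hTZ : T ≤ Z ⊓ D) (hZn : ∀ h ∈ H, ∀ z ∈ Z, h * z * h⁻¹ ∈ Z)
    (hZc : ∀ z ∈ Z, ∀ w ∈ Z, z * w = w * z)
    (hN0 : ∀ m ∈ N0, m ∈ Subgroup.normalizer (D : Set G) ∧ Good H D m)
    (h : ∃ s ∈ N0, ∃ x ∈ P, (∃ D1 : Subgroup G, D1 ≤ D ∧
      ∃ φ : D1 →* Multiplicative (Fin 2 → ZMod p), Function.Surjective φ ∧
        x ∈ Subgroup.normalizer (D1 : Set G) ∧ s ∈ Subgroup.normalizer (D1 : Set G) ∧
        (∀ (v : D1) (h : x * v * x⁻¹ ∈ D1), φ ⟨_, h⟩ = Fus.matAct (planeUp p 1) (φ v)) ∧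
        ∀ (v : D1) (h : s * v * s⁻¹ ∈ D1), φ ⟨_, h⟩ = Fus.matAct (planeDiag p a0) (φ v)) ∧
      ∀ B : Subgroup G, T ≤ B → B ≤ D → (∀ u ∈ B, ∀ v ∈ B, u * v = v * u) → (∀ u ∈ B, s * u * s⁻¹ ∈ B) →
        ∃ b ∈ B, ∀ u ∈ B, s * u * s⁻¹ * (u ^ (a0 : ZMod p).val)⁻¹ ≠ b) :
    Data p a0 H Z := by
  obtain ⟨s, hs, x, hx, ⟨D1, hD1, φ, hφ, hxn, hsn, hxe, hse⟩, hB⟩ := h
  obtain ⟨hsD, k, hk, hke⟩ := hN0 s hs
  refine ⟨k, hk, x, hPH hx, ⟨D1, hD1.trans hDH, φ, hφ, hxn, ?_, hxe, fun v h => ?_⟩, ?_⟩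
  · refine norm_of_le fun v hv => ?_
    rw [← hke v (hD1 hv)]
    exact (Subgroup.mem_normalizer_iff.mp hsn v).mp hv
  · have e := hke v (hD1 v.2)
    rw [show (⟨_, h⟩ : D1) = ⟨s * v * s⁻¹, e ▸ h⟩ from Subtype.ext e.symm]
    exact hse v _
  obtain ⟨B, hBdef⟩ : ∃ B, B = Z ⊓ D := ⟨_, rfl⟩
  have hBs : ∀ u ∈ B, s * u * s⁻¹ ∈ B := fun u hu => by
    rw [hBdef] at hu ⊢
    refine ⟨?_, (Subgroup.mem_normalizer_iff.mp hsD u).mp hu.2⟩
    rw [hke u hu.2]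
    exact hZn k hk u hu.1
  have hBc : ∀ u ∈ B, ∀ v ∈ B, u * v = v * u := fun u hu v hv => hZc u (hBdef.le hu).1 v (hBdef.le hv).1
  obtain ⟨b, hb, hbne⟩ := hB B (hBdef ▸ hTZ) (hBdef ▸ inf_le_right) hBc hBs
  obtain ⟨r, hr⟩ : ∃ r, r = (a0 : ZMod p).val := ⟨_, rfl⟩
  rw [← hr] at hbne ⊢
  let f : ↥B → ↥B := fun u => ⟨s * u * s⁻¹ * ((u : G) ^ r)⁻¹,
    B.mul_mem (hBs u u.2) (B.inv_mem (B.pow_mem u.2 r))⟩
  have hns : ¬ Function.Surjective f := fun hf => by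
    obtain ⟨u, hu⟩ := hf ⟨b, hb⟩
    exact hbne u u.2 (congrArg Subtype.val hu)
  have hni : ¬ Function.Injective f := fun hf => hns (Finite.injective_iff_surjective.mp hf)
  simp only [Function.Injective] at hni
  push Not at hni
  obtain ⟨u, v, he, hne⟩ := hni
  have he' : s * u * s⁻¹ * ((u : G) ^ r)⁻¹ = s * v * s⁻¹ * ((v : G) ^ r)⁻¹ := congrArg Subtype.val he
  obtain ⟨w, hw⟩ : ∃ w, w = (u : G) * (v : G)⁻¹ := ⟨_, rfl⟩
  have hwB : w ∈ B := hw ▸ B.mul_mem u.2 (B.inv_mem v.2)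
  have hwne : w ≠ 1 := fun h => hne (Subtype.ext (mul_inv_eq_one.mp (hw ▸ h)))
  have hwe : s * w * s⁻¹ = w ^ r := by
    have h1 : (u : G) ^ r = w ^ r * (v : G) ^ r := by
      rw [← (show Commute w (v : G) from hBc w hwB v v.2).mul_pow, hw, inv_mul_cancel_right]
    rw [h1, _root_.mul_inv_rev, ← mul_assoc, show s * (u : G) * s⁻¹ = (s * w * s⁻¹) * (s * v * s⁻¹) by
      rw [hw]; group] at he'
    have h2 : Commute (s * w * s⁻¹) (s * v * s⁻¹ * ((v : G) ^ r)⁻¹) :=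
      hBc _ (hBs w hwB) _ (B.mul_mem (hBs v v.2) (B.inv_mem (B.pow_mem v.2 r)))
    rw [mul_assoc (s * w * s⁻¹), h2.eq, mul_assoc] at he'
    exact mul_inv_eq_one.mp (mul_eq_left.mp he')
  obtain ⟨j, hj⟩ := IsPGroup.iff_orderOf.1 hDp ⟨w, (hBdef.le hwB).2⟩
  rw [Subgroup.orderOf_mk] at hj
  cases j with
  | zero => exact absurd (orderOf_eq_one_iff.mp (by simpa using hj)) hwne
  | succ j =>
    have hwj : w ^ p ^ j ∈ Z ⊓ D := hBdef.le (B.pow_mem hwB _)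
    refine ⟨w ^ p ^ j, hwj.1, ?_, ?_⟩
    · rw [orderOf_pow' _ (pow_ne_zero _ hp.out.ne_zero), hj, pow_succ, Nat.gcd_mul_right_left,
        Nat.mul_div_cancel_left _ (pow_pos hp.out.pos _)]
    · rw [← hke _ hwj.2, ← conj_pow, hwe, ← pow_mul, ← pow_mul, mul_comm]

/-- Control passes from a normal subgroup containing `J(S)` and the elements of order prime to `p`. -/
theorem ctrl_up {N : Subgroup G} (hS : Grp.IsSylowIn p S L) (hNL : N ≤ L)
    (hn : ∀ g ∈ L, ∀ v ∈ N, g * v * g⁻¹ ∈ N) (hp' : ∀ g ∈ L, (orderOf g).Coprime p → g ∈ N)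
    (hJ : thompsonSubgroupAOf S ≤ N)
    (hc : Ctrl N (S ⊓ N) (N ⊓ Subgroup.normalizer (centerThompsonAOf S : Set G))) :
    Ctrl L S (L ⊓ Subgroup.normalizer (centerThompsonAOf S : Set G)) := by
  by_contra hno
  obtain ⟨D, ⟨hDS, hDsyl⟩, ⟨m, hm, hmbad⟩, -, hK⟩ :=
    exists_bad hS (inf_le_inf_left _ normS_le) hno
  obtain ⟨Z, hZ⟩ : ∃ Z, Z = centerThompsonAOf S := ⟨_, rfl⟩
  rw [← hZ] at hmbad hc
  obtain ⟨M, hM⟩ : ∃ M, M = L ⊓ Subgroup.normalizer (D : Set G) := ⟨_, rfl⟩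
  rw [← hM] at hm hDsyl
  have hML : M ≤ L := hM ▸ inf_le_left
  have hMD : M ≤ Subgroup.normalizer (D : Set G) := hM ▸ inf_le_right
  have hDL : D ≤ L := hDS.trans hS.1
  have hDM : D ≤ M := hM ▸ le_inf hDL Subgroup.le_normalizer
  have hZS : Z ≤ S := hZ ▸ centerJ_le
  have hZN : Z ≤ N := hZ ▸ fun z hz => hJ hz.1
  have hZn : ∀ x ∈ S, ∀ z ∈ Z, x * z * x⁻¹ ∈ Z := fun x hx z hz =>
    hZ ▸ conj_mem_centerThompsonA (norm_self_mem S hx) (hZ ▸ hz)
  obtain ⟨DN, hDN⟩ : ∃ X, X = D ⊓ N := ⟨_, rfl⟩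
  have hMDN : ∀ g ∈ M, ∀ e ∈ DN, g * e * g⁻¹ ∈ DN := fun g hg e he => by
    rw [hDN] at he ⊢
    exact ⟨(Subgroup.mem_normalizer_iff.mp (hMD hg) e).mp he.1, hn g (hML hg) e he.2⟩
  have hctrl : ∀ c ∈ M ⊓ N, ∃ h ∈ N ⊓ Subgroup.normalizer (Z : Set G),
      ∀ e ∈ DN, c * e * c⁻¹ = h * e * h⁻¹ := fun c hcM =>
    hc DN (hDN ▸ inf_le_inf_right N hDS) c hcM.2 (cj_le_iff.mpr fun e he =>
      (hDN.le.trans (inf_le_inf_right N hDS)) (hMDN c hcM.1 e he))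
  obtain ⟨Z', hZ'⟩ : ∃ X, X = Z ⊓ Subgroup.normalizer (DN : Set G) := ⟨_, rfl⟩
  obtain ⟨Y, hY⟩ : ∃ Y, Y = D ⊔ Z' := ⟨_, rfl⟩
  have hYn : Y ≤ Subgroup.normalizer (DN : Set G) :=
    hY ▸ sup_le (fun d hd => norm_of_le (hMDN d (hDM hd))) (hZ' ▸ inf_le_right)
  have hYS : Y ≤ S := hY ▸ sup_le hDS (hZ' ▸ inf_le_left.trans hZS)
  have hYc : ∀ {y e : G}, y ∈ Y → e ∈ DN → y * e * y⁻¹ ∈ DN := fun hy he =>
    (Subgroup.mem_normalizer_iff.mp (hYn hy) _).mp he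
  -- the action of a conjugate of an element of `Y`
  have hconjY : ∀ g ∈ M, ∀ y ∈ Y, ∃ y' ∈ Y, ∀ e ∈ DN, g * y * g⁻¹ * e * (g * y * g⁻¹)⁻¹ = y' * e * y'⁻¹ := by
    intro g hg y hy
    rw [hY, Subgroup.sup_eq_closure] at hy
    induction hy using Subgroup.closure_induction with
    | mem z hz =>
      rcases hz with hz | hz
      · exact ⟨g * z * g⁻¹, hY ▸ Subgroup.mem_sup_left ((Subgroup.mem_normalizer_iff.mp (hMD hg) z).mp hz),
          fun _ _ => rfl⟩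
      · obtain ⟨c, hc', x, hx, rfl⟩ := exists_mul_of_sup (N := M ⊓ N)
          (P := S ⊓ Subgroup.normalizer (D : Set G))
          (fun v hv => norm_of_le fun u hu => ⟨M.mul_mem (M.mul_mem (hDsyl.1 hv) hu.1) (M.inv_mem (hDsyl.1 hv)),
            hn v (hS.1 hv.1) u hu.2⟩)
          (le_sup_sylow inf_le_left hDsyl (fun k hk hk' => ⟨hk, hp' k (hML hk) hk'⟩) hg)
        have hzY : z ∈ Y := hY ▸ Subgroup.mem_sup_right hz
        rw [SetLike.mem_coe, hZ'] at hz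
        obtain ⟨h, hh, hhe⟩ := hctrl c hc'
        have hhn : h ∈ Subgroup.normalizer (DN : Set G) := norm_of_le fun e he => hhe e he ▸ hMDN c hc'.1 e he
        have hxn : x ∈ Subgroup.normalizer (DN : Set G) := norm_of_le (hMDN x (hDsyl.1 hx))
        have hw : x * z * x⁻¹ ∈ Y := hY ▸ Subgroup.mem_sup_right (hZ' ▸
          ⟨hZn x hx.1 z hz.1, Subgroup.mul_mem _ (Subgroup.mul_mem _ hxn hz.2) (Subgroup.inv_mem _ hxn)⟩)
        refine ⟨h * (x * z * x⁻¹) * h⁻¹, hY ▸ Subgroup.mem_sup_right (hZ' ▸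
          ⟨(Subgroup.mem_normalizer_iff.mp hh.2 _).mp (hZn x hx.1 z hz.1),
            Subgroup.mul_mem _ (Subgroup.mul_mem _ hhn (Subgroup.mul_mem _ (Subgroup.mul_mem _ hxn hz.2) (Subgroup.inv_mem _ hxn))) (Subgroup.inv_mem _ hhn)⟩), fun e he => ?_⟩
        obtain ⟨w, hwe⟩ : ∃ w, w = x * z * x⁻¹ := ⟨_, rfl⟩
        rw [← hwe] at hw ⊢
        have he1 : c⁻¹ * e * c ∈ DN := by simpa using hMDN c⁻¹ (M.inv_mem hc'.1) e he
        have e1 : h⁻¹ * e * h = c⁻¹ * e * c := by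
          have := hhe _ he1
          rw [show c * (c⁻¹ * e * c) * c⁻¹ = e by group] at this
          conv_lhs => rw [this]
          group
        calc c * x * z * (c * x)⁻¹ * e * (c * x * z * (c * x)⁻¹)⁻¹
            = c * (w * (c⁻¹ * e * c) * w⁻¹) * c⁻¹ := by rw [hwe]; group
          _ = h * (w * (c⁻¹ * e * c) * w⁻¹) * h⁻¹ := hhe _ (hYc hw he1)
          _ = h * w * h⁻¹ * e * (h * w * h⁻¹)⁻¹ := by rw [← e1]; group
    | one => exact ⟨1, Y.one_mem, fun e _ => by simp⟩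
    | mul a b ha hb iha ihb =>
      obtain ⟨a', ha', ea⟩ := iha
      obtain ⟨b', hb', eb⟩ := ihb
      refine ⟨a' * b', Y.mul_mem ha' hb', fun e he => ?_⟩
      calc g * (a * b) * g⁻¹ * e * (g * (a * b) * g⁻¹)⁻¹
          = g * a * g⁻¹ * (g * b * g⁻¹ * e * (g * b * g⁻¹)⁻¹) * (g * a * g⁻¹)⁻¹ := by group
        _ = a' * (b' * e * b'⁻¹) * a'⁻¹ := by rw [eb e he, ea _ (hYc hb' he)]
        _ = a' * b' * e * (a' * b')⁻¹ := by group
    | inv a ha iha =>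
      obtain ⟨a', ha', ea⟩ := iha
      refine ⟨a'⁻¹, Y.inv_mem ha', fun e he => ?_⟩
      obtain ⟨f, hf⟩ : ∃ f, f = a'⁻¹ * e * a' := ⟨_, rfl⟩
      have hfDN : f ∈ DN := by simpa [hf] using hYc (Y.inv_mem ha') he
      have := ea f hfDN
      rw [hf, show a' * (a'⁻¹ * e * a') * a'⁻¹ = e by group] at this
      conv_lhs => rw [← this]
      group
  -- the elements acting as an element of `Y`
  let K : Subgroup G :=
    { carrier := {v | v ∈ M ∧ ∃ y ∈ Y, ∀ e ∈ DN, v * e * v⁻¹ = y * e * y⁻¹}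
      one_mem' := ⟨M.one_mem, 1, Y.one_mem, fun _ _ => rfl⟩
      mul_mem' := by
        rintro a b ⟨ha, y, hy, hae⟩ ⟨hb, z, hz, hbe⟩
        refine ⟨M.mul_mem ha hb, y * z, Y.mul_mem hy hz, fun e he => ?_⟩
        calc a * b * e * (a * b)⁻¹ = a * (b * e * b⁻¹) * a⁻¹ := by group
          _ = y * (z * e * z⁻¹) * y⁻¹ := by rw [hbe e he, hae _ (hYc hz he)]
          _ = y * z * e * (y * z)⁻¹ := by group
      inv_mem' := by
        rintro a ⟨ha, y, hy, hae⟩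
        refine ⟨M.inv_mem ha, y⁻¹, Y.inv_mem hy, fun e he => ?_⟩
        have := hae _ (hYc (Y.inv_mem hy) he)
        rw [show y * (y⁻¹ * e * y⁻¹⁻¹) * y⁻¹ = e by group] at this
        conv_lhs => rw [← this]
        group }
  have hPK := hK K (fun v hv => hM ▸ hv.1) (fun g hg v hv => by
      rw [← hM] at hg
      obtain ⟨hvM, y, hy, hve⟩ := hv
      obtain ⟨y', hy', hye⟩ := hconjY g hg y hy
      refine ⟨M.mul_mem (M.mul_mem hg hvM) (M.inv_mem hg), y', hy', fun e he => ?_⟩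
      have he1 : g⁻¹ * e * g ∈ DN := by simpa using hMDN g⁻¹ (M.inv_mem hg) e he
      rw [← hye e he]
      calc g * v * g⁻¹ * e * (g * v * g⁻¹)⁻¹ = g * (v * (g⁻¹ * e * g) * v⁻¹) * g⁻¹ := by group
        _ = g * (y * (g⁻¹ * e * g) * y⁻¹) * g⁻¹ := by rw [hve _ he1]
        _ = _ := by group)
    (fun v hv hc' => ⟨hM ▸ hv, 1, Y.one_mem, fun e he => by
      rw [hc' e (hDN.le he).1]; group⟩)
    (fun v hv hv' d hd => by
      obtain ⟨hvM, y, hy, hve⟩ := hv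
      have hvN : v ∈ N := hp' v (hML hvM) hv'
      have hpow : ∀ k : ℕ, ∀ e ∈ DN, v ^ k * e * (v ^ k)⁻¹ = y ^ k * e * (y ^ k)⁻¹ := by
        intro k
        induction k with
        | zero => simp
        | succ k ih =>
          intro e he
          calc v ^ (k + 1) * e * (v ^ (k + 1))⁻¹ = v ^ k * (v * e * v⁻¹) * (v ^ k)⁻¹ := by rw [pow_succ]; group
            _ = y ^ k * (y * e * y⁻¹) * (y ^ k)⁻¹ := by rw [hve e he, ih _ (hYc hy he)]
            _ = y ^ (k + 1) * e * (y ^ (k + 1))⁻¹ := by rw [pow_succ]; group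
      have h1 : y ^ (orderOf v : ℤ) ∈ Subgroup.centralizer (DN : Set G) := by
        rw [zpow_natCast]
        refine Subgroup.mem_centralizer_iff.mpr fun e he => ?_
        have := hpow (orderOf v) e he
        rw [pow_orderOf_eq_one, one_mul, inv_one, mul_one] at this
        exact mul_inv_eq_iff_eq_mul.mp this.symm |>.symm
      obtain ⟨j, hj⟩ := pow_prime_pow (hS.2.1.to_le hYS) hy
      have h2 : y ^ ((p ^ j : ℕ) : ℤ) ∈ Subgroup.centralizer (DN : Set G) := by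
        rw [zpow_natCast, hj]; exact one_mem _
      have hb1 := Nat.gcd_eq_gcd_ab (orderOf v) (p ^ j)
      rw [(hv'.pow_right j).gcd_eq_one, Nat.cast_one] at hb1
      have hyc : y ∈ Subgroup.centralizer (DN : Set G) := by
        rw [← zpow_one y, hb1, _root_.zpow_add, _root_.zpow_mul, _root_.zpow_mul]
        exact mul_mem (zpow_mem h1 _) (zpow_mem h2 _)
      have hvc : ∀ e ∈ DN, v * e = e * v := fun e he => by
        have h := hve e he
        rw [← Subgroup.mem_centralizer_iff.mp hyc e he, mul_inv_cancel_right] at h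
        exact mul_inv_eq_iff_eq_mul.mp h
      have he : v * d * v⁻¹ * d⁻¹ ∈ DN := by
        rw [hDN]
        refine ⟨D.mul_mem ((Subgroup.mem_normalizer_iff.mp (hMD hvM) d).mp hd) (D.inv_mem hd), ?_⟩
        rw [show v * d * v⁻¹ * d⁻¹ = v * (d * v⁻¹ * d⁻¹) by group]
        exact N.mul_mem hvN (hn d (hDL hd) _ (N.inv_mem hvN))
      have h1' := fixed_of_coprime (d := d) (e := v * d * v⁻¹ * d⁻¹) hv' (by group) (hvc _ he)
        (pow_prime_pow (hS.2.1.to_le (hDN.le.trans (inf_le_left.trans hDS))) he)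
      exact mul_inv_eq_iff_eq_mul.mp (mul_inv_eq_one.mp h1'))
  have hZD' : Z ⊓ Subgroup.normalizer (D : Set G) ≤ D := fun z hz => by
    have hzM : z ∈ M := hM ▸ ⟨hS.1 (hZS hz.1), hz.2⟩
    exact hPK ⟨⟨hZS hz.1, hz.2⟩, hzM, z, hY ▸ Subgroup.mem_sup_right (hZ' ▸
      ⟨hz.1, norm_of_le (hMDN z hzM)⟩), fun _ _ => rfl⟩
  have hZD : Z ≤ D := by
    by_contra hle
    have hlt : D < D ⊔ Z := lt_of_le_of_ne le_sup_left fun e => hle (e ▸ le_sup_right)
    obtain ⟨w, hw, hwD⟩ := SetLike.exists_of_lt (lt_inf_norm (hS.2.1.to_le (sup_le hDS hZS)) hlt)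
    obtain ⟨z, hz, d, hd, rfl⟩ := exists_mul_of_sup (N := Z) (P := D)
      (fun d hd => norm_of_le (hZn d (hDS hd))) (sup_comm D Z ▸ hw.1)
    have hzn : z ∈ Subgroup.normalizer (D : Set G) := by
      simpa using Subgroup.mul_mem _ hw.2 (Subgroup.inv_mem _ (Subgroup.le_normalizer hd))
    exact hwD (D.mul_mem (hZD' ⟨hz, hzn⟩) hd)
  obtain ⟨c, hc', x, hx, rfl⟩ := exists_mul_of_sup (N := M ⊓ N)
    (P := S ⊓ Subgroup.normalizer (D : Set G))
    (fun v hv => norm_of_le fun u hu => ⟨M.mul_mem (M.mul_mem (hDsyl.1 hv) hu.1) (M.inv_mem (hDsyl.1 hv)),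
      hn v (hS.1 hv.1) u hu.2⟩)
    (le_sup_sylow inf_le_left hDsyl (fun k hk hk' => ⟨hk, hp' k (hML hk) hk'⟩) hm)
  obtain ⟨h, hh, hhe⟩ := hctrl c hc'
  refine hmbad (Good.of_mem ⟨hML hm, mul_mem ?_ (norm_of_le (hZn x hx.1))⟩)
  refine norm_of_le fun z hz => ?_
  rw [hhe z (hDN ▸ ⟨hZD hz, hZN hz⟩)]
  exact (Subgroup.mem_normalizer_iff.mp hh.2 z).mp hz

/-- The local situation modulo a central subgroup. -/
theorem quot_plane (hodd : p ≠ 2) {M P D T Z0 N0 : Subgroup G} {a0 : (ZMod p)ˣ}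
    (ha0 : ∀ u : (ZMod p)ˣ, u ∈ Subgroup.zpowers a0) (hZ0c : ∀ g ∈ L, ∀ w ∈ Z0, g * w = w * g)
    (hML : M ≤ L) (hpM : Grp.IsSylowIn p P M) (hDM : M ≤ Subgroup.normalizer (D : Set G)) (hDP : D ≤ P)
    (hTD : T ≤ D) (hZ0T : Z0 ≤ T) (htc : ∀ x ∈ P, ∀ t ∈ T, x * t * x⁻¹ * t⁻¹ ∈ Z0)
    (htp : ∀ t ∈ T, t ^ p ∈ Z0) (hN0M : N0 ≤ M) (hne : ¬ M ≤ N0)
    (hfix : ∀ m ∈ M, (∀ t ∈ T, m * t * m⁻¹ * t⁻¹ ∈ Z0) → m ∈ N0)
    (hX : ∀ X ≤ P, T ≤ X → (∀ y ∈ L, y ∈ Subgroup.normalizer (P : Set G) →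
        y ∈ Subgroup.normalizer (X : Set G)) → ∀ m ∈ M, m ∈ Subgroup.normalizer (X : Set G) → m ∈ N0) :
    ∃ s ∈ N0, ∃ x ∈ P, (∃ D1 : Subgroup G, D1 ≤ D ∧
      ∃ φ : D1 →* Multiplicative (Fin 2 → ZMod p), Function.Surjective φ ∧
        x ∈ Subgroup.normalizer (D1 : Set G) ∧ s ∈ Subgroup.normalizer (D1 : Set G) ∧
        (∀ (v : D1) (h : x * v * x⁻¹ ∈ D1), φ ⟨_, h⟩ = Fus.matAct (planeUp p 1) (φ v)) ∧
        ∀ (v : D1) (h : s * v * s⁻¹ ∈ D1), φ ⟨_, h⟩ = Fus.matAct (planeDiag p a0) (φ v)) ∧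
      ∀ B : Subgroup G, T ≤ B → B ≤ D → (∀ u ∈ B, ∀ v ∈ B, u * v = v * u) → (∀ u ∈ B, s * u * s⁻¹ ∈ B) →
        ∃ b ∈ B, ∀ u ∈ B, s * u * s⁻¹ * (u ^ (a0 : ZMod p).val)⁻¹ ≠ b := by
  have hPL : P ≤ L := hpM.1.trans hML
  have hDL : D ≤ L := hDP.trans hPL
  have hZ0P : Z0 ≤ P := hZ0T.trans (hTD.trans hDP)
  obtain ⟨Z1, hZ1⟩ : ∃ X : Subgroup ↥L, X = Z0.subgroupOf L := ⟨_, rfl⟩
  haveI hZ1n : Z1.Normal := ⟨fun w hw g => by
    rw [hZ1, Subgroup.mem_subgroupOf] at hw ⊢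
    simp only [Subgroup.coe_mul, Subgroup.coe_inv]
    rw [hZ0c g g.2 _ hw, mul_inv_cancel_right]
    exact hw⟩
  let ι : ↥L →* ↥L ⧸ Z1 := QuotientGroup.mk' Z1
  have hι : Function.Surjective ι := QuotientGroup.mk'_surjective Z1
  have hι1 : ∀ a : ↥L, ι a = 1 ↔ (a : G) ∈ Z0 := fun a => by
    rw [QuotientGroup.mk'_apply, QuotientGroup.eq_one_iff, hZ1]
    exact Subgroup.mem_subgroupOf
  let bar : Subgroup G → Subgroup (↥L ⧸ Z1) := fun X => (X.subgroupOf L).map ι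
  have hbar : ∀ {X : Subgroup G} {a : ↥L}, (a : G) ∈ X → ι a ∈ bar X := fun h => ⟨_, h, rfl⟩
  have hbar' : ∀ {X : Subgroup G}, Z0 ≤ X → ∀ {a : ↥L}, ι a ∈ bar X → (a : G) ∈ X := by
    rintro X hX a ⟨b, hb, he⟩
    have h1 := (hι1 (b⁻¹ * a)).mp (by rw [map_mul, map_inv, he, inv_mul_cancel])
    have := X.mul_mem hb (hX h1)
    simpa using this
  have hbarle : ∀ {X Y : Subgroup G}, X ≤ Y → bar X ≤ bar Y := fun h =>
    Subgroup.map_mono (Subgroup.comap_mono h)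
  have hcomm : ∀ {x t : G} (hx : x ∈ L) (ht : t ∈ L), x * t * x⁻¹ * t⁻¹ ∈ Z0 →
      ι ⟨x, hx⟩ * ι ⟨t, ht⟩ = ι ⟨t, ht⟩ * ι ⟨x, hx⟩ := fun hx ht h => by
    have := (hι1 (⟨_, hx⟩ * ⟨_, ht⟩ * (⟨_, hx⟩)⁻¹ * (⟨_, ht⟩)⁻¹)).mpr h
    rw [map_mul, map_mul, map_mul, map_inv, map_inv, mul_inv_eq_one, mul_inv_eq_iff_eq_mul] at this
    exact this
  have hTbar : ∀ {A : Subgroup (↥L ⧸ Z1)}, IsMaxAb (bar P) A → bar T ≤ A := by
    rintro A hA _ ⟨⟨t, htL⟩, ht, rfl⟩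
    refine hA.mem_of_commute (hbar (hTD.trans hDP ht)) fun a ha => ?_
    obtain ⟨⟨y, hyL⟩, hy, rfl⟩ := hA.1 ha
    exact hcomm hyL htL (htc y hy t ht)
  have hC : Hyp p (bar M) (bar P) (bar D) ⊥ (bar T) (bar N0) :=
    { pM := by
        refine ⟨hbarle hpM.1, (hpM.2.1.comap_subtype).map _, ?_⟩
        refine fun h => hpM.2.2 ?_
        have hker : ι.ker ≤ P.subgroupOf L := fun a ha => hZ0P ((hι1 a).mp ha)
        have h' : p ∣ (P.subgroupOf L).relIndex (M.subgroupOf L) := by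
          rwa [Subgroup.relIndex_map_map, sup_eq_left.mpr hker,
            @sup_eq_left _ _ (M.subgroupOf L) ι.ker |>.mpr (hker.trans (Subgroup.comap_mono hpM.1))] at h
        rwa [← Subgroup.relIndex_map_map_of_injective _ _ L.subtype_injective,
          Subgroup.map_subgroupOf_eq_of_le hPL, Subgroup.map_subgroupOf_eq_of_le hML] at h'
      DM := by
        rintro _ ⟨⟨m, hmL⟩, hm, rfl⟩
        refine norm_of_le ?_
        rintro _ ⟨⟨d, hdL⟩, hd, rfl⟩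
        rw [← map_inv, ← map_mul, ← map_mul]
        exact hbar ((Subgroup.mem_normalizer_iff.mp (hDM hm) d).mp hd)
      DP := hbarle hDP
      TD := hbarle hTD
      W0T := bot_le
      central := fun m _ w hw => by rw [Subgroup.mem_bot.mp hw, mul_one, one_mul]
      tComm := by
        rintro _ ⟨⟨x, hxL⟩, hx, rfl⟩ _ ⟨⟨t, htL⟩, ht, rfl⟩
        rw [Subgroup.mem_bot, hcomm hxL htL (htc x hx t ht), mul_inv_cancel_right, mul_inv_cancel]
      tPow := by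
        rintro _ ⟨⟨t, htL⟩, ht, rfl⟩
        rw [Subgroup.mem_bot, ← map_pow]
        exact (hι1 _).mpr (by simpa using htp t ht)
      tA := fun A hA => hTbar hA
      hfix := by
        rintro _ ⟨⟨m, hmL⟩, hm, rfl⟩ h
        refine hbar (hfix m hm fun t ht => ?_)
        have := Subgroup.mem_bot.mp (h _ (hbar (a := ⟨t, hDL (hTD ht)⟩) ht))
        rw [← map_inv, ← map_mul, ← map_mul, ← map_inv, ← map_mul] at this
        exact (hι1 _).mp this
      hJ := by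
        rintro _ ⟨⟨m, hmL⟩, hm, rfl⟩ hn
        let X : Subgroup G := ((thompsonSubgroupAOf (bar P)).comap ι).map L.subtype
        have hXmem : ∀ a : ↥L, (a : G) ∈ X ↔ ι a ∈ thompsonSubgroupAOf (bar P) := fun a =>
          (Subgroup.mem_map_iff_mem L.subtype_injective).trans Iff.rfl
        refine hbar (hX X ?_ ?_ ?_ m hm ?_)
        · rintro _ ⟨a, ha, rfl⟩
          exact hbar' hZ0P (thompsonA_le _ ha)
        · intro t ht
          obtain ⟨A, hA, -⟩ := Shift.exists_maxAb (bar P)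
          exact (hXmem ⟨t, hDL (hTD ht)⟩).mpr (hA.le_thompsonA (hTbar hA (hbar ht)))
        · intro y hyL hy
          refine norm_of_le ?_
          rintro _ ⟨a, ha, rfl⟩
          refine (hXmem (⟨y, hyL⟩ * a * ⟨y, hyL⟩⁻¹)).mpr ?_
          rw [map_mul, map_mul, map_inv]
          refine conj_mem_thompsonA (norm_of_le ?_) ha
          rintro _ ⟨b, hb, rfl⟩
          rw [← map_inv, ← map_mul, ← map_mul]
          exact hbar ((Subgroup.mem_normalizer_iff.mp hy (b : G)).mp hb)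
        · refine norm_of_le ?_
          rintro _ ⟨a, ha, rfl⟩
          refine (hXmem (⟨m, hmL⟩ * a * ⟨m, hmL⟩⁻¹)).mpr ?_
          rw [map_mul, map_mul, map_inv]
          exact (Subgroup.mem_normalizer_iff.mp hn _).mp ha }
  have hne' : ¬ bar M ≤ bar N0 := fun h => hne fun m hm =>
    hbar' (fun w hw => hfix w (hpM.1 (hZ0P hw)) fun t ht => by
      rw [← hZ0c t (hDL (hTD ht)) w hw, mul_inv_cancel_right, mul_inv_cancel]
      exact Z0.one_mem) (h (hbar (a := ⟨m, hML hm⟩) hm))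
  obtain ⟨sb, hsb, -, xb, hxb, ⟨D1b, hD1b, φ, hφ, hxn, hsn, hxe, hse⟩, hB⟩ := plane hodd hC hne' ha0
  obtain ⟨⟨s, hsL⟩, hs, rfl⟩ := hsb
  obtain ⟨⟨x, hxL⟩, hx, rfl⟩ := hxb
  let D1 : Subgroup G := (D1b.comap ι).map L.subtype
  have hD1mem : ∀ a : ↥L, (a : G) ∈ D1 ↔ ι a ∈ D1b := fun a =>
    (Subgroup.mem_map_iff_mem L.subtype_injective).trans Iff.rfl
  have hD1L : D1 ≤ L := Subgroup.map_subtype_le _
  let ψ : D1 →* D1b :=
    (ι.comp (Subgroup.inclusion hD1L)).codRestrict D1b fun v => (hD1mem ⟨v, hD1L v.2⟩).mp v.2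
  have hψ : Function.Surjective ψ := by
    rintro ⟨b, hb⟩
    obtain ⟨a, rfl⟩ := hι b
    exact ⟨⟨a, (hD1mem a).mpr hb⟩, rfl⟩
  have hnorm : ∀ {y : G} (hy : y ∈ L), ι ⟨y, hy⟩ ∈ Subgroup.normalizer (D1b : Set (↥L ⧸ Z1)) →
      y ∈ Subgroup.normalizer (D1 : Set G) := by
    intro y hy h
    refine norm_of_le ?_
    rintro _ ⟨a, ha, rfl⟩
    refine (hD1mem (⟨y, hy⟩ * a * ⟨y, hy⟩⁻¹)).mpr ?_
    rw [map_mul, map_mul, map_inv]
    exact (Subgroup.mem_normalizer_iff.mp h _).mp ha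
  refine ⟨s, hs, x, hx, ⟨D1, ?_, φ.comp ψ, hφ.comp hψ, hnorm hxL hxn, hnorm hsL hsn, fun v h => ?_,
    fun v h => ?_⟩, fun B hTB hBD hBc hBs => ?_⟩
  · rintro _ ⟨a, ha, rfl⟩
    exact hbar' (hZ0T.trans hTD) (hD1b ha)
  · exact hxe (ψ v) (ψ ⟨_, h⟩).2
  · exact hse (ψ v) (ψ ⟨_, h⟩).2
  have hBL : B ≤ L := hBD.trans hDL
  obtain ⟨_, ⟨⟨b, hbL⟩, hb, rfl⟩, hbne⟩ := hB (bar B) (hbarle hTB) (by
    rintro _ ⟨u, hu, rfl⟩ _ ⟨v, hv, rfl⟩
    rw [← map_mul, ← map_mul]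
    exact congrArg ι (Subtype.ext (hBc u hu v hv))) (by
    rintro _ ⟨u, hu, rfl⟩
    rw [← map_inv, ← map_mul, ← map_mul]
    exact hbar (hBs u hu))
  refine ⟨b, hb, fun u hu he => hbne (ι ⟨u, hBL hu⟩) (hbar hu) ?_⟩
  rw [← map_inv, ← map_mul, ← map_mul, ← map_pow, ← map_inv, ← map_mul]
  exact congrArg ι (Subtype.ext (by simpa using he))

/-- Control, or the data. -/
theorem ctrl_or_data (hodd : p ≠ 2) {a0 : (ZMod p)ˣ} (ha0 : ∀ u : (ZMod p)ˣ, u ∈ Subgroup.zpowers a0) :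
    ∀ n, ∀ L S : Subgroup G, Nat.card L < n → Grp.IsSylowIn p S L →
      Ctrl L S (L ⊓ Subgroup.normalizer (centerThompsonAOf S : Set G)) ∨
        Data p a0 (L ⊓ Subgroup.normalizer (centerThompsonAOf S : Set G)) (centerThompsonAOf S) := by
  intro n
  induction n with
  | zero => exact fun L S h => absurd h (Nat.not_lt_zero _)
  | succ n ih =>
  intro L S hn hS
  obtain ⟨Z, hZ⟩ : ∃ Z, Z = centerThompsonAOf S := ⟨_, rfl⟩
  rw [← hZ]
  obtain ⟨H, hH⟩ : ∃ H, H = L ⊓ Subgroup.normalizer (Z : Set G) := ⟨_, rfl⟩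
  rw [← hH]
  have hZS : Z ≤ S := hZ ▸ centerJ_le
  have hZc : ∀ z ∈ Z, ∀ w ∈ Z, z * w = w * z := fun z hz w hw => centerJ_comm (hZ ▸ hz) (hZ ▸ hw)
  have hZn : ∀ x ∈ S, ∀ z ∈ Z, x * z * x⁻¹ ∈ Z := fun x hx z hz =>
    hZ ▸ conj_mem_centerThompsonA (norm_self_mem S hx) (hZ ▸ hz)
  have hSH : S ≤ H := hH ▸ le_inf hS.1 fun x hx => norm_of_le (hZn x hx)
  obtain ⟨Z0, hZ0⟩ : ∃ X, X = Z ⊓ Subgroup.centralizer (L : Set G) := ⟨_, rfl⟩
  have hZ0c : ∀ g ∈ L, ∀ w ∈ Z0, g * w = w * g := fun g hg w hw =>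
    Subgroup.mem_centralizer_iff.mp (hZ0.le hw).2 g hg
  by_cases hcen : Z ≤ Z0
  · refine Or.inl fun X _ g hg _ => Good.of_mem ?_
    rw [hH]
    refine ⟨hg, norm_of_le fun z hz => ?_⟩
    rw [hZ0c g hg z (hcen hz), mul_inv_cancel_right]
    exact hz
  have hZ0Z : Z0 ≤ Z := hZ0 ▸ inf_le_left
  let T : Subgroup G :=
    { carrier := {z | z ∈ Z ∧ (∀ x ∈ S, x * z * x⁻¹ * z⁻¹ ∈ Z0) ∧ z ^ p ∈ Z0}
      one_mem' := ⟨Z.one_mem, fun x _ => by simp, by simp⟩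
      mul_mem' := by
        rintro a b ⟨ha, ha1, ha2⟩ ⟨hb, hb1, hb2⟩
        refine ⟨Z.mul_mem ha hb, fun x hx => ?_, ?_⟩
        · have h := hZ0c a (hS.1 (hZS ha)) _ (hb1 x hx)
          rw [show x * (a * b) * x⁻¹ * (a * b)⁻¹ = x * a * x⁻¹ * a⁻¹ * (a * (x * b * x⁻¹ * b⁻¹) * a⁻¹) by group,
            h, mul_inv_cancel_right]
          exact Z0.mul_mem (ha1 x hx) (hb1 x hx)
        · rw [(show Commute a b from hZc a ha b hb).mul_pow]
          exact Z0.mul_mem ha2 hb2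
      inv_mem' := by
        rintro a ⟨ha, ha1, ha2⟩
        refine ⟨Z.inv_mem ha, fun x hx => ?_, by rw [inv_pow]; exact Z0.inv_mem ha2⟩
        have h := hZ0c a⁻¹ (L.inv_mem (hS.1 (hZS ha))) _ (Z0.inv_mem (ha1 x hx))
        rw [show x * a⁻¹ * x⁻¹ * a⁻¹⁻¹ = a⁻¹ * (x * a * x⁻¹ * a⁻¹)⁻¹ * a by group, h, inv_mul_cancel_right]
        exact Z0.inv_mem (ha1 x hx) }
  have hTZ : T ≤ Z := fun t ht => ht.1
  have hTS : T ≤ S := hTZ.trans hZS
  have hZ0T : Z0 ≤ T := fun w hw => ⟨hZ0Z hw, fun x hx => by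
    rw [hZ0c x (hS.1 hx) w hw, mul_inv_cancel_right, mul_inv_cancel]
    exact Z0.one_mem, Z0.pow_mem hw p⟩
  obtain ⟨t, htT, htZ0⟩ : ∃ t ∈ T, t ∉ Z0 := by
    haveI hSnil : Group.IsNilpotent ↥S := hS.2.1.isNilpotent
    obtain ⟨W, hW⟩ : ∃ W : Subgroup ↥S, W = Z0.subgroupOf S := ⟨_, rfl⟩
    haveI hWn : W.Normal := ⟨fun w hw g => by
      rw [hW, Subgroup.mem_subgroupOf] at hw ⊢
      simp only [Subgroup.coe_mul, Subgroup.coe_inv]
      rw [hZ0c g (hS.1 g.2) _ hw, mul_inv_cancel_right]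
      exact hw⟩
    haveI : (Z.subgroupOf S).Normal := ⟨fun w hw g => hZn g g.2 _ hw⟩
    haveI := Subgroup.Normal.map (f := QuotientGroup.mk' W) (inferInstance : (Z.subgroupOf S).Normal)
      (QuotientGroup.mk'_surjective W)
    have hne : (Z.subgroupOf S).map (QuotientGroup.mk' W) ≠ ⊥ := fun e => hcen fun z hz => by
      have := (Subgroup.map_eq_bot_iff _).mp e (show (⟨z, hZS hz⟩ : ↥S) ∈ Z.subgroupOf S from hz)
      rwa [QuotientGroup.ker_mk', hW] at this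
    obtain ⟨q, hq, hq1⟩ := Subgroup.bot_or_exists_ne_one _ |>.resolve_left (Grp.inf_center_ne_bot _ hne)
    obtain ⟨⟨z, hz, rfl⟩, hqc⟩ := hq
    obtain ⟨k, hk⟩ := IsPGroup.iff_orderOf.1 (hS.2.1.to_quotient W) (QuotientGroup.mk' W z)
    cases k with
    | zero => exact absurd (orderOf_eq_one_iff.mp (by simpa using hk)) hq1
    | succ k =>
      refine ⟨((z ^ p ^ k : ↥S) : G), ⟨Z.pow_mem hz _, fun x hx => ?_, ?_⟩, fun h => ?_⟩
      · have h1 := Subgroup.mem_center_iff.mp (Subgroup.pow_mem _ hqc (p ^ k)) (QuotientGroup.mk' W ⟨x, hx⟩)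
        have h2 : QuotientGroup.mk' W (⟨x, hx⟩ * z ^ p ^ k * ⟨x, hx⟩⁻¹ * (z ^ p ^ k)⁻¹) = 1 := by
          rw [map_mul, map_mul, map_mul, map_inv, map_inv, map_pow, h1, mul_inv_cancel_right, mul_inv_cancel]
        rw [QuotientGroup.mk'_apply, QuotientGroup.eq_one_iff, hW] at h2
        simpa [Subgroup.mem_subgroupOf] using h2
      · have h2 : QuotientGroup.mk' W ((z ^ p ^ k) ^ p) = 1 := by
          rw [← pow_mul, ← pow_succ, map_pow, ← hk, pow_orderOf_eq_one]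
        rw [QuotientGroup.mk'_apply, QuotientGroup.eq_one_iff, hW] at h2
        simpa [Subgroup.mem_subgroupOf] using h2
      · have h2 : QuotientGroup.mk' W (z ^ p ^ k) = 1 := by
          rw [QuotientGroup.mk'_apply, QuotientGroup.eq_one_iff, hW]
          exact h
        rw [map_pow] at h2
        have := orderOf_dvd_of_pow_eq_one h2
        rw [hk] at this
        have := (Nat.pow_dvd_pow_iff_le_right hp.out.one_lt).mp this
        omega
  let G1 : Subgroup G :=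
    { carrier := {g | g ∈ L ∧ ∀ t ∈ T, g * t * g⁻¹ * t⁻¹ ∈ Z0}
      one_mem' := ⟨L.one_mem, fun t _ => by simp⟩
      mul_mem' := by
        rintro a b ⟨ha, ha1⟩ ⟨hb, hb1⟩
        refine ⟨L.mul_mem ha hb, fun t ht => ?_⟩
        have h := hZ0c a ha _ (hb1 t ht)
        rw [show a * b * t * (a * b)⁻¹ * t⁻¹ = a * (b * t * b⁻¹ * t⁻¹) * a⁻¹ * (a * t * a⁻¹ * t⁻¹) by group,
          h, mul_inv_cancel_right]
        exact Z0.mul_mem (hb1 t ht) (ha1 t ht)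
      inv_mem' := by
        rintro a ⟨ha, ha1⟩
        refine ⟨L.inv_mem ha, fun t ht => ?_⟩
        have h := hZ0c a⁻¹ (L.inv_mem ha) _ (Z0.inv_mem (ha1 t ht))
        rw [show a⁻¹ * t * a⁻¹⁻¹ * t⁻¹ = a⁻¹ * (a * t * a⁻¹ * t⁻¹)⁻¹ * a by group, h, inv_mul_cancel_right]
        exact Z0.inv_mem (ha1 t ht) }
  have hG1L : G1 ≤ L := fun g hg => hg.1
  have hSG1 : S ≤ G1 := fun x hx => ⟨hS.1 hx, fun t ht => ht.2.1 x hx⟩
  by_cases hall : L ≤ G1
  · -- every element acts trivially on `T` modulo `Z0`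
    let N : Subgroup G := L ⊓ Subgroup.centralizer (T : Set G)
    have hNn : ∀ g ∈ L, ∀ v ∈ N, g * v * g⁻¹ ∈ N := fun g hg v hv =>
      ⟨L.mul_mem (L.mul_mem hg hv.1) (L.inv_mem hg), Subgroup.mem_centralizer_iff.mpr fun u hu => by
        have h1 := (hall (L.inv_mem hg)).2 u hu
        have h2 := Subgroup.mem_centralizer_iff.mp hv.2 (g⁻¹ * u * g⁻¹⁻¹) (by
          simpa [SetLike.mem_coe] using T.mul_mem (hZ0T h1) hu)
        calc u * (g * v * g⁻¹) = g * (g⁻¹ * u * g⁻¹⁻¹ * v) * g⁻¹ := by group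
          _ = g * (v * (g⁻¹ * u * g⁻¹⁻¹)) * g⁻¹ := by rw [h2]
          _ = g * v * g⁻¹ * u := by group⟩
    have hp' : ∀ g ∈ L, (orderOf g).Coprime p → g ∈ N := fun g hg hco =>
      ⟨hg, Subgroup.mem_centralizer_iff.mpr fun u hu => by
        have h1 := (hall hg).2 u hu
        have h2 := fixed_of_coprime (d := u) (e := g * u * g⁻¹ * u⁻¹) hco (by group) (hZ0c g hg _ h1)
          (pow_prime_pow (hS.2.1.to_le ((hZ0T.trans hTS))) h1)
        exact (mul_inv_eq_iff_eq_mul.mp (mul_inv_eq_one.mp h2)).symm⟩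
    have hJN : thompsonSubgroupAOf S ≤ N := fun j hj =>
      ⟨hS.1 (thompsonA_le S hj), Subgroup.mem_centralizer_iff.mpr fun u hu =>
        (mem_centralizer_iff_commute.mp (hZ ▸ hTZ hu : u ∈ centerThompsonAOf S).2 j hj).symm⟩
    have hNlt : Nat.card N < Nat.card L := lt_of_le_of_ne (Subgroup.card_le_of_le inf_le_left) fun e => by
      have h := Subgroup.eq_of_le_of_card_ge (inf_le_left : N ≤ L) e.ge
      refine htZ0 (hZ0 ▸ ⟨hTZ htT, Subgroup.mem_centralizer_iff.mpr fun g hg => ?_⟩)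
      exact (Subgroup.mem_centralizer_iff.mp (h.ge hg).2 t htT).symm
    have hZN : centerThompsonAOf (S ⊓ N) = Z := by
      rw [hZ]
      unfold centerThompsonAOf
      rw [Shift.thompsonA_eq_of_le (le_inf (thompsonA_le S) hJN) inf_le_left]
    have h := ih N (S ⊓ N) (by omega) (sylow_inf_normal hS inf_le_left hNn)
    rw [hZN] at h
    rcases h with h | h
    · left
      rw [hH, hZ]
      exact ctrl_up hS inf_le_left hNn hp' hJN (hZ ▸ h)
    · exact Or.inr (h.mono (hH ▸ inf_le_inf_right _ inf_le_left))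
  · have hlt : Nat.card G1 < Nat.card L := lt_of_le_of_ne (Subgroup.card_le_of_le hG1L) fun e =>
      hall (Subgroup.eq_of_le_of_card_ge hG1L e.ge).ge
    have hS1 : Grp.IsSylowIn p S G1 := ⟨hSG1, hS.2.1, fun h => hS.2.2 (h.trans
      (Dvd.intro _ (Subgroup.relIndex_mul_relIndex S G1 L hSG1 hG1L)))⟩
    have h := ih G1 S (by omega) hS1
    rw [← hZ] at h
    rcases h with hctrl | hdata
    swap
    · exact Or.inr (hdata.mono (hH ▸ inf_le_inf_right _ hG1L))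
    by_cases hc : Ctrl L S H
    · exact Or.inl hc
    have hG1H : G1 ⊓ Subgroup.normalizer (Z : Set G) ≤ H := hH ▸ inf_le_inf_right _ hG1L
    have hctrl' : ∀ {X : Subgroup G} {g : G}, X ≤ S → g ∈ G1 → cj g X ≤ S → Good H X g :=
      fun hX hg hgX => (hctrl _ hX _ hg hgX).mono_left hG1H
    obtain ⟨D, ⟨hDS, hDsyl⟩, ⟨m0, hm0, hm0bad⟩, hbig, hK⟩ :=
      exists_bad hS (hH ▸ inf_le_inf_left _ (hZ ▸ normS_le)) hc
    obtain ⟨M, hM⟩ : ∃ M, M = L ⊓ Subgroup.normalizer (D : Set G) := ⟨_, rfl⟩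
    obtain ⟨P, hP⟩ : ∃ P, P = S ⊓ Subgroup.normalizer (D : Set G) := ⟨_, rfl⟩
    rw [← hM, ← hP] at hDsyl hK
    rw [← hM] at hm0
    rw [← hP] at hbig
    have hML : M ≤ L := hM ▸ inf_le_left
    have hMD : M ≤ Subgroup.normalizer (D : Set G) := hM ▸ inf_le_right
    have hPS : P ≤ S := hP ▸ inf_le_left
    have hDP : D ≤ P := hP ▸ le_inf hDS Subgroup.le_normalizer
    have hcD : ∀ {g d : G}, g ∈ M → d ∈ D → g * d * g⁻¹ ∈ D := fun hg hd =>
      (Subgroup.mem_normalizer_iff.mp (hMD hg) _).mp hd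
    -- the elements moving `D` inside `Z0`
    let K : Subgroup G :=
      { carrier := {v | v ∈ M ∧ ∀ d ∈ D, v * d * v⁻¹ * d⁻¹ ∈ Z0}
        one_mem' := ⟨M.one_mem, fun d _ => by simp⟩
        mul_mem' := by
          rintro a b ⟨ha, ha1⟩ ⟨hb, hb1⟩
          refine ⟨M.mul_mem ha hb, fun d hd => ?_⟩
          have h := hZ0c a (hML ha) _ (hb1 d hd)
          rw [show a * b * d * (a * b)⁻¹ * d⁻¹ = a * (b * d * b⁻¹ * d⁻¹) * a⁻¹ * (a * d * a⁻¹ * d⁻¹) by group,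
            h, mul_inv_cancel_right]
          exact Z0.mul_mem (hb1 d hd) (ha1 d hd)
        inv_mem' := by
          rintro a ⟨ha, ha1⟩
          refine ⟨M.inv_mem ha, fun d hd => ?_⟩
          have h := hZ0c a⁻¹ (L.inv_mem (hML ha)) _ (Z0.inv_mem (ha1 d hd))
          rw [show a⁻¹ * d * a⁻¹⁻¹ * d⁻¹ = a⁻¹ * (a * d * a⁻¹ * d⁻¹)⁻¹ * a by group, h, inv_mul_cancel_right]
          exact Z0.inv_mem (ha1 d hd) }
    have hPK := hK K (fun v hv => hv.1) (fun g hg v hv => ⟨M.mul_mem (M.mul_mem hg hv.1) (M.inv_mem hg),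
        fun d hd => by
          have h1 := hv.2 (g⁻¹ * d * g⁻¹⁻¹) (hcD (M.inv_mem hg) hd)
          have h2 := hZ0c g (hML hg) _ h1
          rw [show g * v * g⁻¹ * d * (g * v * g⁻¹)⁻¹ * d⁻¹ =
            g * (v * (g⁻¹ * d * g⁻¹⁻¹) * v⁻¹ * (g⁻¹ * d * g⁻¹⁻¹)⁻¹) * g⁻¹ by group, h2, mul_inv_cancel_right]
          exact h1⟩)
      (fun v hv hvc => ⟨hv, fun d hd => by rw [hvc d hd, mul_inv_cancel_right, mul_inv_cancel]; exact Z0.one_mem⟩)
      (fun v hv hco d hd => by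
        have h1 := hv.2 d hd
        have h2 := fixed_of_coprime (d := d) (e := v * d * v⁻¹ * d⁻¹) hco (by group) (hZ0c v (hML hv.1) _ h1)
          (pow_prime_pow (hS.2.1.to_le (hZ0T.trans hTS)) h1)
        exact mul_inv_eq_iff_eq_mul.mp (mul_inv_eq_one.mp h2))
    have hZ0D : Z0 ≤ D := fun w hw => by
      have hwn : w ∈ Subgroup.normalizer (D : Set G) := norm_of_le fun d hd => by
        rw [← hZ0c d (hS.1 (hDS hd)) w hw, mul_inv_cancel_right]
        exact hd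
      refine hPK ⟨hP ▸ ⟨hTS (hZ0T hw), hwn⟩, hM ▸ ⟨hS.1 (hTS (hZ0T hw)), hwn⟩, fun d hd => ?_⟩
      rw [← hZ0c d (hS.1 (hDS hd)) w hw, mul_inv_cancel_right, mul_inv_cancel]
      exact Z0.one_mem
    have hTD : T ≤ D := fun u hu => by
      have hud : ∀ d ∈ D, u * d * u⁻¹ * d⁻¹ ∈ Z0 := fun d hd => by
        have h := Z0.inv_mem (hu.2.1 d (hDS hd))
        rwa [show (d * u * d⁻¹ * u⁻¹)⁻¹ = u * d * u⁻¹ * d⁻¹ by group] at h
      have hun : u ∈ Subgroup.normalizer (D : Set G) := norm_of_le fun d hd => by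
        simpa using D.mul_mem (hZ0D (hud d hd)) hd
      exact hPK ⟨hP ▸ ⟨hTS hu, hun⟩, hM ▸ ⟨hS.1 (hTS hu), hun⟩, hud⟩
    let N0 : Subgroup G :=
      { carrier := {v | v ∈ M ∧ Good H D v}
        one_mem' := ⟨M.one_mem, Good.of_mem H.one_mem⟩
        mul_mem' := by
          rintro a b ⟨ha, ha1⟩ ⟨hb, hb1⟩
          exact ⟨M.mul_mem ha hb, hb1.trans (by rwa [cj_eq_self (hMD hb)])⟩
        inv_mem' := by
          rintro a ⟨ha, ha1⟩
          exact ⟨M.inv_mem ha, by simpa [cj_eq_self (hMD ha)] using ha1.inv⟩ }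
    have hfix : ∀ v ∈ M, (∀ t ∈ T, v * t * v⁻¹ * t⁻¹ ∈ Z0) → v ∈ N0 := fun v hv h =>
      ⟨hv, hctrl' hDS ⟨hML hv, h⟩ ((cj_eq_self (hMD hv)).le.trans hDS)⟩
    have hne : ¬ M ≤ N0 := fun h => hm0bad (h hm0).2
    refine Or.inr (data_of (D := D) (T := T) (P := P) (N0 := N0) (hDS.trans hSH) (hPS.trans hSH)
      (hS.2.1.to_le hDS) (le_inf hTZ hTD)
      (fun h hh z hz => (Subgroup.mem_normalizer_iff.mp (hH.le hh).2 z).mp hz) hZc
      (fun v hv => ⟨hMD hv.1, hv.2⟩) ?_)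
    by_cases hPeq : P = S
    · obtain ⟨s, hs, -, x, hx, hD1, hB⟩ := plane hodd
        ({ pM := hDsyl
           DM := hMD
           DP := hDP
           TD := hTD
           W0T := hZ0T
           central := fun v hv w hw => hZ0c v (hML hv) w hw
           tComm := fun x hx t ht => ht.2.1 x (hPS hx)
           tPow := fun t ht => ht.2.2
           tA := fun A hA => hTZ.trans (hZ ▸ centerThompsonA_le_maxAb (hPeq ▸ hA))
           hfix := hfix
           hJ := fun v hv hn => ⟨hv, Good.of_mem (hH ▸ ⟨hML hv, hZ ▸ conj_centerJ (hPeq ▸ hn)⟩)⟩ } :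
          Hyp p M P D Z0 T N0) hne ha0
      exact ⟨s, hs, x, hx, hD1, fun B h1 _ => hB B h1⟩
    refine quot_plane hodd ha0 hZ0c hML hDsyl hMD hDP hTD hZ0T (fun x hx t ht => ht.2.1 x (hPS hx))
      (fun t ht => ht.2.2) (fun v hv => hv.1) hne hfix fun X hXP hTX hXn v hv hvn => ⟨hv, ?_⟩
    -- `v` normalises a subgroup with a larger normaliser
    have hlt' : Nat.card P < Nat.card ↥(S ⊓ Subgroup.normalizer (X : Set G)) := by
      have h1 := lt_inf_norm hS.2.1 (lt_of_le_of_ne hPS hPeq)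
      have h2 : S ⊓ Subgroup.normalizer (P : Set G) ≤ S ⊓ Subgroup.normalizer (X : Set G) :=
        fun y hy => ⟨hy.1, hXn y (hS.1 hy.1) hy.2⟩
      exact (lt_of_le_of_ne (Subgroup.card_le_of_le h1.le)
        fun e => h1.ne (Subgroup.eq_of_le_of_card_ge h1.le e.ge)).trans_le (Subgroup.card_le_of_le h2)
    obtain ⟨h, hhH, he⟩ := hbig X (hXP.trans hPS) hlt' v ⟨hML hv, hvn⟩
    have hhn : h ∈ Subgroup.normalizer (X : Set G) := norm_of_le fun z hz =>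
      he z hz ▸ (Subgroup.mem_normalizer_iff.mp hvn z).mp hz
    have hcG1 : v * h⁻¹ ∈ G1 := ⟨L.mul_mem (hML hv) (L.inv_mem (hH.le hhH).1), fun u hu => by
      have hz : h⁻¹ * u * h ∈ X := by
        simpa using (Subgroup.mem_normalizer_iff.mp (inv_mem hhn) u).mp (hTX hu)
      have h3 := he _ hz
      rw [show v * h⁻¹ * u * (v * h⁻¹)⁻¹ = v * (h⁻¹ * u * h) * v⁻¹ by group, h3,
        show h * (h⁻¹ * u * h) * h⁻¹ = u by group, mul_inv_cancel]
      exact Z0.one_mem⟩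
    have hD1le : cj h D ≤ G1 ⊓ Subgroup.normalizer (Z : Set G) := by
      refine le_inf ?_ (cj_le_iff.mpr fun d hd => (hH.le (H.mul_mem (H.mul_mem hhH (hSH (hDS hd)))
        (H.inv_mem hhH))).2)
      refine cj_le_iff.mpr fun d hd => ?_
      rw [show h * d * h⁻¹ = (v * h⁻¹)⁻¹ * (v * d * v⁻¹) * (v * h⁻¹) by group]
      exact G1.mul_mem (G1.mul_mem (G1.inv_mem hcG1) (hSG1 (hDS (hcD hv hd)))) hcG1
    have hS1Z : Grp.IsSylowIn p S (G1 ⊓ Subgroup.normalizer (Z : Set G)) :=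
      ⟨le_inf hSG1 (hSH.trans (hH ▸ inf_le_right)), hS.2.1, fun h' => hS1.2.2 (h'.trans
        (Dvd.intro _ (Subgroup.relIndex_mul_relIndex S _ G1
          (le_inf hSG1 (hSH.trans (hH ▸ inf_le_right))) inf_le_left)))⟩
    obtain ⟨k, hk, hkS⟩ := conj_into hS1Z hD1le ((hS.2.1.to_le hDS).map _)
    have h1 : Good H D (k * h) := Good.of_mem (H.mul_mem (hG1H hk) hhH)
    have h2 : Good H (cj (k * h) D) (v * h⁻¹ * k⁻¹) :=
      hctrl' (by rw [← cj_cj]; exact hkS) (G1.mul_mem hcG1 (G1.inv_mem hk.1)) (by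
        rw [cj_cj, show v * h⁻¹ * k⁻¹ * (k * h) = v by group, cj_eq_self (hMD hv)]
        exact hDS)
    simpa [mul_assoc] using h1.trans h2

end Main

end Cfsg.Agent.Fus.Fail
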