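import Mathlib
import Cfsg.Agent.Lib.Fus.Basic
import Cfsg.Agent.Lib.Fus.Replacement
import Cfsg.Agent.Lib.Fus.Saturation

/-!
A measure on subgroups: first the largest order of an abelian subgroup, then the order of the
Thompson subgroup.
-/

set_option autoImplicit false
set_option linter.style.haveILetI false
set_option linter.unusedSectionVars false

open scoped Classical

namespace Cfsg.Agent.Fus.Shift

open Subgroup FusionSystem

variable {Ω : Type*} [Group Ω] {S : Subgroup Ω} {F : FusionSystem S}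

/-- The largest order of an abelian subgroup. -/
noncomputable def abMax (P : Subgroup Ω) : ℕ :=
  sSup {n | ∃ A : Subgroup Ω, A ≤ P ∧ (∀ x ∈ A, ∀ y ∈ A, x * y = y * x) ∧ Nat.card A = n}

theorem le_abMax {P A : Subgroup Ω} [Finite P] (hA : A ≤ P)
    (hc : ∀ x ∈ A, ∀ y ∈ A, x * y = y * x) : Nat.card A ≤ abMax P := by
  refine le_csSup ⟨Nat.card P, ?_⟩ ⟨A, hA, hc, rfl⟩
  rintro n ⟨B, hB, -, rfl⟩
  exact Subgroup.card_le_of_le hB

theorem exists_maxAb (P : Subgroup Ω) [Finite P] :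
    ∃ A, IsMaxAb P A ∧ Nat.card A = abMax P := by
  obtain ⟨A, hA, hc, hn⟩ : abMax P ∈
      {n | ∃ A : Subgroup Ω, A ≤ P ∧ (∀ x ∈ A, ∀ y ∈ A, x * y = y * x) ∧ Nat.card A = n} := by
    refine Nat.sSup_mem ⟨_, ⊥, bot_le, by simp, rfl⟩ ⟨Nat.card P, ?_⟩
    rintro n ⟨B, hB, -, rfl⟩
    exact Subgroup.card_le_of_le hB
  exact ⟨A, ⟨hA, hc, fun B hB hBc => hn ▸ le_abMax hB hBc⟩, hn⟩

theorem isMaxAb_iff_card {P A : Subgroup Ω} [Finite P] :
    IsMaxAb P A ↔ A ≤ P ∧ (∀ x ∈ A, ∀ y ∈ A, x * y = y * x) ∧ abMax P ≤ Nat.card A := by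
  refine ⟨fun ⟨h1, h2, h3⟩ => ⟨h1, h2, ?_⟩, fun ⟨h1, h2, h3⟩ =>
    ⟨h1, h2, fun B hB hc => (le_abMax hB hc).trans h3⟩⟩
  obtain ⟨B, hB, e⟩ := exists_maxAb P
  exact e ▸ h3 B hB.1 hB.2.1

theorem abMax_mono {P Q : Subgroup Ω} [Finite Q] (h : P ≤ Q) : abMax P ≤ abMax Q := by
  haveI := finite_of_le h
  obtain ⟨A, hA, e⟩ := exists_maxAb P
  exact e ▸ le_abMax (hA.1.trans h) hA.2.1

theorem abMax_eq_of_le {P K : Subgroup Ω} [Finite P] (h : thompsonSubgroupAOf P ≤ K) (hK : K ≤ P) :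
    abMax K = abMax P := by
  haveI := finite_of_le hK
  obtain ⟨A, hA, e⟩ := exists_maxAb P
  exact le_antisymm (abMax_mono hK) (e ▸ le_abMax (hA.le_thompsonA.trans h) hA.2.1)

/-- The Thompson subgroup is that of every subgroup between it and the group. -/
theorem thompsonA_eq_of_le {P K : Subgroup Ω} [Finite P] (h : thompsonSubgroupAOf P ≤ K)
    (hK : K ≤ P) : thompsonSubgroupAOf K = thompsonSubgroupAOf P := by
  haveI := finite_of_le hK
  have e := abMax_eq_of_le h hK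
  refine le_antisymm (thompsonA_le_of fun A hA => IsMaxAb.le_thompsonA ?_)
    (thompsonA_le_of fun A hA => IsMaxAb.le_thompsonA ?_)
  · obtain ⟨h1, h2, h3⟩ := isMaxAb_iff_card.1 hA
    exact isMaxAb_iff_card.2 ⟨h1.trans hK, h2, e ▸ h3⟩
  · obtain ⟨h1, h2, h3⟩ := isMaxAb_iff_card.1 hA
    exact isMaxAb_iff_card.2 ⟨hA.le_thompsonA.trans h, h2, e.symm ▸ h3⟩

/-- The measure. -/
noncomputable def meas (S P : Subgroup Ω) : ℕ :=
  abMax P * (Nat.card S + 1) + Nat.card ↥(thompsonSubgroupAOf P)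

theorem abMax_le_of_map [Finite S] {K P Q : Subgroup Ω} {f : Ω → Ω} (hf : IsMap F K f)
    (hPK : P ≤ K) (hQ : fimg f P ≤ Q) (hQS : Q ≤ S) : abMax P ≤ abMax Q := by
  haveI := finite_of_le (hPK.trans hf.source_le)
  haveI := finite_of_le hQS
  obtain ⟨A, hA, e⟩ := exists_maxAb P
  rw [← e, ← (hf.res (hA.1.trans hPK)).card_fimg]
  refine le_abMax ((fimg_mono f hA.1).trans hQ) fun u hu v hv => ?_
  obtain ⟨a, ha, rfl⟩ := (hf.res (hA.1.trans hPK)).mem_fimg_iff.1 hu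
  obtain ⟨b, hb, rfl⟩ := (hf.res (hA.1.trans hPK)).mem_fimg_iff.1 hv
  rw [← hf.map_mul (hPK (hA.1 ha)) (hPK (hA.1 hb)), hA.2.1 a ha b hb,
    hf.map_mul (hPK (hA.1 hb)) (hPK (hA.1 ha))]

/-- A map sends the Thompson subgroup into that of a group with the same largest order of an
abelian subgroup. -/
theorem fimg_thompsonA_le [Finite S] {K P Q : Subgroup Ω} {f : Ω → Ω} (hf : IsMap F K f)
    (hPK : P ≤ K) (hQ : fimg f P ≤ Q) (hQS : Q ≤ S) (he : abMax Q ≤ abMax P) :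
    fimg f (thompsonSubgroupAOf P) ≤ thompsonSubgroupAOf Q := by
  haveI := finite_of_le (hPK.trans hf.source_le)
  haveI := finite_of_le hQS
  have hfP := hf.res hPK
  let K' : Subgroup Ω :=
    { carrier := {x | x ∈ P ∧ f x ∈ thompsonSubgroupAOf Q}
      one_mem' := ⟨P.one_mem, by rw [hfP.map_one]; exact one_mem _⟩
      mul_mem' := fun {a b} ha hb => ⟨P.mul_mem ha.1 hb.1, by
        rw [hfP.map_mul ha.1 hb.1]; exact mul_mem ha.2 hb.2⟩
      inv_mem' := fun {a} ha => ⟨P.inv_mem ha.1, by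
        rw [hfP.map_inv ha.1]; exact inv_mem ha.2⟩ }
  have hle : thompsonSubgroupAOf P ≤ K' := thompsonA_le_of fun A hA x hx => by
    refine ⟨hA.1 hx, IsMaxAb.le_thompsonA (A := fimg f A) ?_ (apply_mem_fimg f hx)⟩
    refine isMaxAb_iff_card.2 ⟨(fimg_mono f hA.1).trans hQ, fun u hu v hv => ?_, ?_⟩
    · obtain ⟨a, ha, rfl⟩ := (hfP.res hA.1).mem_fimg_iff.1 hu
      obtain ⟨b, hb, rfl⟩ := (hfP.res hA.1).mem_fimg_iff.1 hv
      rw [← hfP.map_mul (hA.1 ha) (hA.1 hb), hA.2.1 a ha b hb, hfP.map_mul (hA.1 hb) (hA.1 ha)]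
    · rw [(hfP.res hA.1).card_fimg]
      exact he.trans (isMaxAb_iff_card.1 hA).2.2
  exact fimg_le fun x hx => (hle hx).2

theorem meas_le_of_map [Finite S] {K P Q : Subgroup Ω} {f : Ω → Ω} (hf : IsMap F K f)
    (hPK : P ≤ K) (hQ : fimg f P ≤ Q) (hQS : Q ≤ S) : meas S P ≤ meas S Q := by
  have hPS := hPK.trans hf.source_le
  have h := abMax_le_of_map hf hPK hQ hQS
  unfold meas
  rcases h.lt_or_eq with h | h
  · have h1 : Nat.card ↥(thompsonSubgroupAOf P) ≤ Nat.card S :=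
      Subgroup.card_le_of_le ((thompsonA_le P).trans hPS)
    have h2 : (abMax P + 1) * (Nat.card S + 1) ≤ abMax Q * (Nat.card S + 1) :=
      Nat.mul_le_mul_right _ h
    rw [Nat.succ_mul] at h2
    omega
  · rw [h, ← (hf.res ((thompsonA_le P).trans hPK)).card_fimg]
    haveI := finite_of_le ((thompsonA_le Q).trans hQS)
    exact Nat.add_le_add_left
      (Subgroup.card_le_of_le (fimg_thompsonA_le hf hPK hQ hQS h.ge)) _

theorem meas_mono (F : FusionSystem S) [Finite S] {P Q : Subgroup Ω} (h : P ≤ Q) (hQ : Q ≤ S) :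
    meas S P ≤ meas S Q :=
  meas_le_of_map (isMap_id F hQ) h (fimg_le fun x hx => h hx) hQ

/-- An abelian subgroup of largest order outside the Thompson subgroup of a subgroup increases the
measure. -/
theorem meas_lt {P L A : Subgroup Ω} [Finite S] (hPL : P ≤ L) (hLS : L ≤ S) (hAL : A ≤ L)
    (hAc : ∀ x ∈ A, ∀ y ∈ A, x * y = y * x) (hA : abMax P ≤ Nat.card A)
    (hAP : ¬ A ≤ thompsonSubgroupAOf P) : meas S P < meas S L := by
  haveI := finite_of_le hLS
  haveI := finite_of_le hPL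
  unfold meas
  rcases (abMax_mono hPL).lt_or_eq with h | h
  · have h1 : Nat.card ↥(thompsonSubgroupAOf P) ≤ Nat.card S :=
      Subgroup.card_le_of_le ((thompsonA_le P).trans (hPL.trans hLS))
    have h2 : (abMax P + 1) * (Nat.card S + 1) ≤ abMax L * (Nat.card S + 1) :=
      Nat.mul_le_mul_right _ h
    rw [Nat.succ_mul] at h2
    omega
  · rw [h]
    have hle : thompsonSubgroupAOf P ≤ thompsonSubgroupAOf L := thompsonA_le_of fun B hB => by
      refine IsMaxAb.le_thompsonA (isMaxAb_iff_card.2 ⟨hB.1.trans hPL, hB.2.1, ?_⟩)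
      exact h ▸ (isMaxAb_iff_card.1 hB).2.2
    have hAJ : A ≤ thompsonSubgroupAOf L :=
      IsMaxAb.le_thompsonA (isMaxAb_iff_card.2 ⟨hAL, hAc, h ▸ hA⟩)
    haveI := finite_of_le ((thompsonA_le L).trans hLS)
    exact Nat.add_lt_add_left
      (card_lt_of_lt (lt_of_le_not_ge hle fun h' => hAP (hAJ.trans h'))) _

theorem meas_lt_bound [Finite S] {P : Subgroup Ω} (hP : P ≤ S) :
    meas S P < (Nat.card S + 1) * (Nat.card S + 1) := by
  haveI := finite_of_le hP
  have h1 : Nat.card ↥(thompsonSubgroupAOf P) ≤ Nat.card S :=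
    Subgroup.card_le_of_le ((thompsonA_le P).trans hP)
  obtain ⟨A, hA, e⟩ := exists_maxAb P
  have h2 : abMax P ≤ Nat.card S := e ▸ Subgroup.card_le_of_le (hA.1.trans hP)
  have h3 := Nat.mul_le_mul_right (Nat.card S + 1) h2
  unfold meas
  rw [Nat.succ_mul]
  omega

/-- The normalizer of a subgroup normalizes its Thompson subgroup. -/
theorem normalizerIn_le_thompsonA (F : FusionSystem S) [Finite S] {R : Subgroup Ω} (hR : R ≤ S) :
    normalizerIn S R ≤ Subgroup.normalizer (thompsonSubgroupAOf R : Set Ω) := by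
  have key : ∀ t ∈ normalizerIn S R, ∀ x ∈ thompsonSubgroupAOf R,
      t * x * t⁻¹ ∈ thompsonSubgroupAOf R := by
    intro t ht x hx
    have hm : IsMap F R (fun y => t * y * t⁻¹) := isMap_conj _ hR ht.1
    have h := fimg_thompsonA_le hm le_rfl
      (fimg_le fun y hy => (Subgroup.mem_normalizer_iff.1 ht.2 y).1 hy) hR le_rfl
    exact h (apply_mem_fimg _ hx)
  intro t ht
  refine Subgroup.mem_normalizer_iff.2 fun x => ⟨fun hx => key t ht x hx, fun hx => ?_⟩
  have h1 := key t⁻¹ (Subgroup.inv_mem _ ht) _ hx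
  rwa [show t⁻¹ * (t * x * t⁻¹) * t⁻¹⁻¹ = x by group] at h1

end Cfsg.Agent.Fus.Shift
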