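import Cfsg.Agent.Lib.Fus.FailModule
import Cfsg.Agent.Lib.Fus.ZJTheorem
import Cfsg.Agent.Lib.Fus.ShiftMeasure

/-!
A local group in which the normaliser of `J(P)` does not control a central layer `T`: an element of the good
subgroup acts as a full split torus on a plane section, and an element of `P` as a transvection.
-/

set_option autoImplicit false
set_option linter.unusedSectionVars false
set_option linter.style.haveILetI false

open scoped commutatorElement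

namespace Cfsg.Agent.Fus.Fail

open Subgroup Cfsg.Agent.Grp Matrix

universe u

variable {G : Type u} [Group G] {p : ℕ}

/-- The conjugate `g H g⁻¹`. -/
def cj (g : G) (H : Subgroup G) : Subgroup G := H.map (MulAut.conj g).toMonoidHom

theorem mem_cj {g x : G} {H : Subgroup G} : x ∈ cj g H ↔ g⁻¹ * x * g ∈ H := by
  refine ⟨?_, fun h => ⟨_, h, by simp [MulAut.conj_apply, mul_assoc]⟩⟩
  rintro ⟨y, hy, rfl⟩
  simpa [MulAut.conj_apply, mul_assoc] using hy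

theorem conj_mem_cj (g : G) {x : G} {H : Subgroup G} (h : x ∈ H) : g * x * g⁻¹ ∈ cj g H :=
  mem_cj.mpr (by simpa [mul_assoc] using h)

theorem cj_le_iff {g : G} {H K : Subgroup G} : cj g H ≤ K ↔ ∀ h ∈ H, g * h * g⁻¹ ∈ K := by
  refine ⟨fun h x hx => h (conj_mem_cj g hx), fun h x hx => ?_⟩
  have := h _ (mem_cj.mp hx)
  rwa [show g * (g⁻¹ * x * g) * g⁻¹ = x by group] at this

theorem cj_cj (g h : G) (H : Subgroup G) : cj g (cj h H) = cj (g * h) H := by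
  ext x
  simp only [mem_cj, _root_.mul_inv_rev, mul_assoc]

theorem cj_one (H : Subgroup G) : cj 1 H = H := by
  ext x; simp [mem_cj]

theorem card_cj (g : G) (H : Subgroup G) : Nat.card (cj g H) = Nat.card H :=
  Subgroup.card_map_of_injective (MulAut.conj g).injective

theorem cj_mono (g : G) {H K : Subgroup G} (h : H ≤ K) : cj g H ≤ cj g K := Subgroup.map_mono h

theorem norm_of_le [Finite G] {g : G} {H : Subgroup G} (h : ∀ x ∈ H, g * x * g⁻¹ ∈ H) :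
    g ∈ Subgroup.normalizer (H : Set G) := by
  have he : cj g H = H := Subgroup.eq_of_le_of_card_ge (cj_le_iff.mpr h) (card_cj g H).ge
  refine Subgroup.mem_normalizer_iff.mpr fun x => ⟨h x, fun hx => ?_⟩
  rw [← he] at hx
  simpa [mul_assoc] using mem_cj.mp hx

theorem cj_eq_self {g : G} {H : Subgroup G} (h : g ∈ Subgroup.normalizer (H : Set G)) : cj g H = H := by
  ext x
  rw [mem_cj, Subgroup.mem_normalizer_iff.mp h, show g * (g⁻¹ * x * g) * g⁻¹ = x by group]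

theorem mem_norm_of_cj [Finite G] {g : G} {H : Subgroup G} (h : cj g H = H) :
    g ∈ Subgroup.normalizer (H : Set G) :=
  norm_of_le fun x hx => h.le (conj_mem_cj g hx)

/-- The data of the local situation, without a bound on the exponent of `T`. -/
structure Hyp0 (p : ℕ) (M P D W0 T N0 : Subgroup G) : Prop where
  pM : Grp.IsSylowIn p P M
  DM : M ≤ Subgroup.normalizer (D : Set G)
  DP : D ≤ P
  TD : T ≤ D
  W0T : W0 ≤ T
  central : ∀ m ∈ M, ∀ w ∈ W0, m * w = w * m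
  tComm : ∀ x ∈ P, ∀ t ∈ T, x * t * x⁻¹ * t⁻¹ ∈ W0
  tA : ∀ A, IsMaxAb P A → T ≤ A
  hfix : ∀ m ∈ M, (∀ t ∈ T, m * t * m⁻¹ * t⁻¹ ∈ W0) → m ∈ N0
  hJ : ∀ m ∈ M, m ∈ Subgroup.normalizer (thompsonSubgroupAOf P : Set G) → m ∈ N0

/-- The data of the local situation. -/
structure Hyp (p : ℕ) (M P D W0 T N0 : Subgroup G) : Prop extends Hyp0 p M P D W0 T N0 where
  tPow : ∀ t ∈ T, t ^ p ∈ W0

/-- The conclusion: a torus element and a transvection on a plane section. -/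
def Plane (p : ℕ) (a0 : (ZMod p)ˣ) (M P D T N0 : Subgroup G) : Prop :=
  ∃ s ∈ N0, s ∈ M ∧ ∃ x ∈ P, (∃ D1 : Subgroup G, D1 ≤ D ∧
      ∃ φ : D1 →* Multiplicative (Fin 2 → ZMod p), Function.Surjective φ ∧
        x ∈ Subgroup.normalizer (D1 : Set G) ∧ s ∈ Subgroup.normalizer (D1 : Set G) ∧
        (∀ (v : D1) (h : x * v * x⁻¹ ∈ D1), φ ⟨_, h⟩ = Fus.matAct (planeUp p 1) (φ v)) ∧
        ∀ (v : D1) (h : s * v * s⁻¹ ∈ D1), φ ⟨_, h⟩ = Fus.matAct (planeDiag p a0) (φ v)) ∧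
    ∀ B : Subgroup G, T ≤ B → (∀ u ∈ B, ∀ v ∈ B, u * v = v * u) → (∀ u ∈ B, s * u * s⁻¹ ∈ B) →
      ∃ b ∈ B, ∀ u ∈ B, s * u * s⁻¹ * (u ^ (a0 : ZMod p).val)⁻¹ ≠ b

theorem Plane.mono {a0 : (ZMod p)ˣ} {Y M R P D T N0 : Subgroup G} (hY : Y ≤ M) (hR : R ≤ P)
    (h : Plane p a0 Y R D T N0) : Plane p a0 M P D T N0 := by
  obtain ⟨s, hs, hsY, x, hx, rest⟩ := h
  exact ⟨s, hs, hY hsY, x, hR hx, rest⟩

variable [Finite G] [hp : Fact p.Prime]

/-- The statement proved by induction. -/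
def Rec (p : ℕ) (n : ℕ) (D W0 T N0 : Subgroup G) : Prop :=
  ∀ Y R : Subgroup G, Nat.card Y < n → Hyp p Y R D W0 T N0 → Y ≤ N0 ∨ ∀ M P : Subgroup G,
    Y ≤ M → R ≤ P → ∀ a0 : (ZMod p)ˣ, (∀ u : (ZMod p)ˣ, u ∈ Subgroup.zpowers a0) → Plane p a0 M P D T N0

/-- A `p`-subgroup of `M` is conjugate into `P` by an element of `M`. -/
theorem conj_into {M P X : Subgroup G} (hP : Grp.IsSylowIn p P M) (hX : X ≤ M) (hXp : IsPGroup p X) :
    ∃ m ∈ M, cj m X ≤ P := by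
  obtain ⟨m, hm, h⟩ := HomDPi.exists_conj_into hX hXp hP
  exact ⟨m, hm, cj_le_iff.mpr h⟩

/-- The minimal configuration: a member `A` of the family outside `Q`, a conjugate generating with them, and
a unique maximal subgroup. -/
structure Config (M P N0 V K A Q : Subgroup G) (g : G) : Prop where
  maxAb : IsMaxAb P A
  notQ : ¬ A ≤ Q
  VA : V ≤ Subgroup.normalizer (A : Set G)
  eQ : Q = P ⊓ K
  normQ : ∀ m ∈ M, m ∈ Subgroup.normalizer (Q : Set G)
  hover : ∀ Y : Subgroup G, A ≤ Y → Q ≤ Y → Y ≤ M → Y ≠ M → Y ≤ N0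
  hconj : ∀ m ∈ M, (∀ a ∈ A, m * a * m⁻¹ ∈ N0) → m ∈ N0
  gM : g ∈ M
  gN : g ∉ N0
  gen : A ⊔ cj g A ⊔ Q = M

section Main

variable {M P D W0 T N0 : Subgroup G} (C : Hyp0 p M P D W0 T N0)
include C

theorem Hyp0.PM : P ≤ M := C.pM.1

theorem Hyp0.PN : P ≤ N0 := fun x hx => C.hfix x (C.PM hx) (C.tComm x hx)

theorem Hyp0.W0P : W0 ≤ P := C.W0T.trans (C.TD.trans C.DP)

theorem Hyp0.conjD {m d : G} (hm : m ∈ M) (hd : d ∈ D) : m * d * m⁻¹ ∈ D :=
  (Subgroup.mem_normalizer_iff.mp (C.DM hm) d).mp hd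

/-- The elements commuting with `D` up to `W0`. -/
theorem Hyp0.comm_gen {w : G} (hwM : w ∈ M) {S : Set G} (hS : ∀ v ∈ S, v ∈ M ∧ w * v * w⁻¹ * v⁻¹ ∈ W0)
    {v : G} (hv : v ∈ Subgroup.closure S) : v ∈ M ∧ w * v * w⁻¹ * v⁻¹ ∈ W0 := by
  induction hv using Subgroup.closure_induction with
  | mem x hx => exact hS x hx
  | one => exact ⟨M.one_mem, by simp⟩
  | mul x y _ _ hx hy =>
    refine ⟨M.mul_mem hx.1 hy.1, ?_⟩
    have h := C.central x hx.1 _ hy.2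
    rw [show w * (x * y) * w⁻¹ * (x * y)⁻¹ = (w * x * w⁻¹ * x⁻¹) * (x * (w * y * w⁻¹ * y⁻¹) * x⁻¹) by group, h,
      mul_inv_cancel_right]
    exact W0.mul_mem hx.2 hy.2
  | inv x _ hx =>
    refine ⟨M.inv_mem hx.1, ?_⟩
    have h := C.central x⁻¹ (M.inv_mem hx.1) _ (W0.inv_mem hx.2)
    rw [show w * x⁻¹ * w⁻¹ * x⁻¹⁻¹ = x⁻¹ * (w * x * w⁻¹ * x⁻¹)⁻¹ * x by group, h, inv_mul_cancel_right]
    exact W0.inv_mem hx.2

/-- The normal closure of `T`. -/
def Hyp0.V (_C : Hyp0 p M P D W0 T N0) : Subgroup G :=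
  Subgroup.closure {v | ∃ m ∈ M, ∃ t ∈ T, v = m * t * m⁻¹}

theorem Hyp0.T_le_V : T ≤ C.V := fun t ht => Subgroup.subset_closure ⟨1, M.one_mem, t, ht, by simp⟩

theorem Hyp0.V_le_D : C.V ≤ D := (Subgroup.closure_le _).mpr (by
  rintro _ ⟨m, hm, t, ht, rfl⟩; exact C.conjD hm (C.TD ht))

theorem Hyp0.V_inv {m v : G} (hm : m ∈ M) (hv : v ∈ C.V) : m * v * m⁻¹ ∈ C.V := by
  induction hv using Subgroup.closure_induction with
  | mem x hx =>
    obtain ⟨n, hn, t, ht, rfl⟩ := hx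
    exact Subgroup.subset_closure ⟨m * n, M.mul_mem hm hn, t, ht, by group⟩
  | one => simp
  | mul x y _ _ hx hy => rw [show m * (x * y) * m⁻¹ = m * x * m⁻¹ * (m * y * m⁻¹) by group]; exact mul_mem hx hy
  | inv x _ hx => rw [show m * x⁻¹ * m⁻¹ = (m * x * m⁻¹)⁻¹ by group]; exact inv_mem hx

/-- A subgroup of `P` normalised by `M` centralises `V` modulo `W0`. -/
theorem Hyp0.normal_comm {W : Subgroup G} (hWP : W ≤ P) (hW : ∀ m ∈ M, ∀ w ∈ W, m * w * m⁻¹ ∈ W)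
    {w v : G} (hw : w ∈ W) (hv : v ∈ C.V) : w * v * w⁻¹ * v⁻¹ ∈ W0 := by
  refine (C.comm_gen (C.PM (hWP hw)) ?_ hv).2
  rintro _ ⟨m, hm, t, ht, rfl⟩
  refine ⟨M.mul_mem (M.mul_mem hm (C.PM (C.DP (C.TD ht)))) (M.inv_mem hm), ?_⟩
  have hw' : m⁻¹ * w * m ∈ W := by simpa using hW m⁻¹ (M.inv_mem hm) w hw
  have h := C.tComm _ (hWP hw') t ht
  have h2 := C.central m hm _ h
  rw [show w * (m * t * m⁻¹) * w⁻¹ * (m * t * m⁻¹)⁻¹ =
    m * ((m⁻¹ * w * m) * t * (m⁻¹ * w * m)⁻¹ * t⁻¹) * m⁻¹ by group, h2, mul_inv_cancel_right]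
  exact h

theorem Hyp0.commV {u v : G} (hu : u ∈ C.V) (hv : v ∈ C.V) : u * v * u⁻¹ * v⁻¹ ∈ W0 :=
  C.normal_comm C.DP (fun _ hm _ hd => C.conjD hm hd) (C.V_le_D hu) hv

/-- The elements of `M` centralising `V` modulo `W0`. -/
def Hyp0.K (C : Hyp0 p M P D W0 T N0) : Subgroup G where
  carrier := {m | m ∈ M ∧ ∀ v ∈ C.V, m * v * m⁻¹ * v⁻¹ ∈ W0}
  one_mem' := ⟨M.one_mem, fun v _ => by simp⟩
  mul_mem' := fun {a b} ha hb => ⟨M.mul_mem ha.1 hb.1, fun v hv => by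
    rw [show a * b * v * (a * b)⁻¹ * v⁻¹ = a * (b * v * b⁻¹ * v⁻¹) * a⁻¹ * (a * v * a⁻¹ * v⁻¹) by group,
      C.central a ha.1 _ (hb.2 v hv), mul_inv_cancel_right]
    exact W0.mul_mem (hb.2 v hv) (ha.2 v hv)⟩
  inv_mem' := fun {a} ha => ⟨M.inv_mem ha.1, fun v hv => by
    have h := ha.2 v hv
    have h2 := C.central a⁻¹ (M.inv_mem ha.1) _ (W0.inv_mem h)
    rw [show a⁻¹ * v * a⁻¹⁻¹ * v⁻¹ = a⁻¹ * (a * v * a⁻¹ * v⁻¹)⁻¹ * a by group, h2, inv_mul_cancel_right]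
    exact W0.inv_mem h⟩

theorem Hyp0.K_le_M : C.K ≤ M := fun _ h => h.1

theorem Hyp0.K_le_N : C.K ≤ N0 := fun k hk => C.hfix k hk.1 fun t ht => hk.2 t (C.T_le_V ht)

theorem Hyp0.K_inv {m k : G} (hm : m ∈ M) (hk : k ∈ C.K) : m * k * m⁻¹ ∈ C.K := by
  refine ⟨M.mul_mem (M.mul_mem hm hk.1) (M.inv_mem hm), fun v hv => ?_⟩
  have hv' : m⁻¹ * v * m ∈ C.V := by simpa using C.V_inv (M.inv_mem hm) hv
  rw [show m * k * m⁻¹ * v * (m * k * m⁻¹)⁻¹ * v⁻¹ =
    m * (k * (m⁻¹ * v * m) * k⁻¹ * (m⁻¹ * v * m)⁻¹) * m⁻¹ by group, C.central m hm _ (hk.2 _ hv'),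
    mul_inv_cancel_right]
  exact hk.2 _ hv'

theorem Hyp0.normal_le {W : Subgroup G} (hWP : W ≤ P) (hW : ∀ m ∈ M, ∀ w ∈ W, m * w * m⁻¹ ∈ W) :
    W ≤ P ⊓ C.K := fun _ hw => ⟨hWP hw, C.PM (hWP hw), fun _ hv => C.normal_comm hWP hW hw hv⟩

theorem Hyp0.D_le : D ≤ P ⊓ C.K := C.normal_le C.DP fun _ hm _ hd => C.conjD hm hd

/-- `J(P) ⊔ W` for `W` normalised by `n`. -/
theorem Hyp0.conjMaxAb {n : G} {A R : Subgroup G} (hA : IsMaxAb P A) (hAR : cj n A ≤ P) (hR : R = R) :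
    IsMaxAb P (cj n A) := by
  refine ⟨hAR, ?_, fun B hB hc => (hA.2.2 B hB hc).trans (card_cj n A).ge⟩
  intro x hx y hy
  have h := hA.2.1 _ (mem_cj.mp hx) _ (mem_cj.mp hy)
  have := congrArg (fun z => n * z * n⁻¹) h
  simpa [mul_assoc] using this

theorem Hyp0.maxAb_sub {A B R : Subgroup G} (hA : IsMaxAb P A) (hAR : A ≤ R) (hRP : R ≤ P)
    (hB : IsMaxAb R B) : IsMaxAb P B :=
  ⟨hB.1.trans hRP, hB.2.1, fun E hE hc => (hA.2.2 E hE hc).trans (hB.2.2 A hAR hA.2.1)⟩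

theorem Hyp0.maxAb_mem {A R : Subgroup G} (hA : IsMaxAb P A) (hAR : A ≤ R) (hRP : R ≤ P) :
    IsMaxAb R A := ⟨hAR, hA.2.1, fun E hE hc => hA.2.2 E (hE.trans hRP) hc⟩

/-- The hypothesis passes to subgroups with a Sylow subgroup containing a member of the family. -/
theorem Hyp0.sub {Y R A : Subgroup G} (hY : Y ≤ M) (hR : Grp.IsSylowIn p R Y) (hRP : R ≤ P) (hDR : D ≤ R)
    (hA : IsMaxAb P A) (hAR : A ≤ R)
    (hJ : ∀ m ∈ Y, m ∈ Subgroup.normalizer (thompsonSubgroupAOf R : Set G) → m ∈ N0) :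
    Hyp0 p Y R D W0 T N0 where
  pM := hR
  DM := hY.trans C.DM
  DP := hDR
  TD := C.TD
  W0T := C.W0T
  central := fun m hm => C.central m (hY hm)
  tComm := fun x hx => C.tComm x (hRP hx)
  tA := fun B hB => C.tA B (C.maxAb_sub hA hAR hRP hB)
  hfix := fun m hm => C.hfix m (hY hm)
  hJ := hJ

/-- The minimal configuration exists when the proper subgroups are good. -/
theorem Hyp0.config (hodd : p ≠ 2)
    (hrec' : ∀ {Y R A : Subgroup G}, Y ≤ M → Y ≠ M → Grp.IsSylowIn p R Y → R ≤ P → D ≤ R →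
      IsMaxAb P A → A ≤ R →
      (∀ m ∈ Y, m ∈ Subgroup.normalizer (thompsonSubgroupAOf R : Set G) → m ∈ N0) → Y ≤ N0)
    (hne : ¬ M ≤ N0) : ∃ (A Q : Subgroup G) (g : G), Config M P N0 C.V C.K A Q g := by
  classical
  obtain ⟨Q, hQ⟩ : ∃ Q, Q = P ⊓ C.K := ⟨_, rfl⟩
  have hQP : Q ≤ P := hQ ▸ inf_le_left
  have hDQ : D ≤ Q := hQ ▸ C.D_le
  have hQK : Q ≤ C.K := hQ ▸ inf_le_right
  -- `Q` is a Sylow subgroup of `K` and is normal
  have hQsyl : Grp.IsSylowIn p Q C.K := by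
    obtain ⟨S, hS, hQS⟩ := HomDPi.exists_isSylowIn_ge (q := p) hQK (C.pM.2.1.to_le hQP)
    obtain ⟨m, hm, hmP⟩ := conj_into C.pM (hS.1.trans C.K_le_M) hS.2.1
    have hle : cj m S ≤ Q := hQ ▸ le_inf hmP (cj_le_iff.mpr fun x hx => C.K_inv hm (hS.1 hx))
    have he : Q = S := Subgroup.eq_of_le_of_card_ge hQS
      ((card_cj m S).ge.trans (Subgroup.card_le_of_le hle))
    exact he ▸ hS
  obtain ⟨A0, hA0, -⟩ := Shift.exists_maxAb (Ω := G) P
  have hQnP : ∀ x ∈ P, x ∈ Subgroup.normalizer (Q : Set G) := fun x hx => norm_of_le fun q hq => by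
    rw [hQ] at hq ⊢
    exact ⟨P.mul_mem (P.mul_mem hx hq.1) (P.inv_mem hx), C.K_inv (C.PM hx) hq.2⟩
  have hQn : ∀ m ∈ M, m ∈ Subgroup.normalizer (Q : Set G) := by
    by_contra hc
    push Not at hc
    obtain ⟨m0, hm0, hm0n⟩ := hc
    obtain ⟨Y, hY⟩ : ∃ Y, Y = M ⊓ Subgroup.normalizer (Q : Set G) := ⟨_, rfl⟩
    have hYM : Y ≤ M := hY ▸ inf_le_left
    have hPY : P ≤ Y := hY ▸ le_inf C.PM hQnP
    have hYne : Y ≠ M := fun e => hm0n (hY.le (e.ge hm0)).2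
    have hYN : Y ≤ N0 := hrec' hYM hYne
      ⟨hPY, C.pM.2.1, fun h => C.pM.2.2 (h.trans (dvd_of_mul_right_eq _
        (Subgroup.relIndex_mul_relIndex P Y M hPY hYM)))⟩
      le_rfl C.DP hA0 hA0.1 fun m hm => C.hJ m (hYM hm)
    refine hne fun m hm => ?_
    obtain ⟨k, hk, hkQ⟩ := HomDPi.exists_conj_into (q := p) (W := cj m Q)
      (cj_le_iff.mpr fun x hx => C.K_inv hm (hQK hx)) (hQsyl.2.1.map _) hQsyl
    have hkm : k * m ∈ Y := hY ▸ ⟨M.mul_mem hk.1 hm, norm_of_le fun x hx => by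
      simpa [mul_assoc] using hkQ _ (conj_mem_cj m hx)⟩
    simpa using N0.mul_mem (N0.inv_mem (C.K_le_N hk)) (hYN hkm)
  have hQconj : ∀ {m q : G}, m ∈ M → q ∈ Q → m * q * m⁻¹ ∈ Q := fun hm hq =>
    (Subgroup.mem_normalizer_iff.mp (hQn _ hm) _).mp hq
  -- a member of the family outside `Q` normalised by `V`
  obtain ⟨A, hA, hAQ, hVA⟩ : ∃ A, IsMaxAb P A ∧ ¬ A ≤ Q ∧ C.V ≤ Subgroup.normalizer (A : Set G) := by
    have hex : {A | IsMaxAb P A ∧ ¬ A ≤ Q}.Nonempty := by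
      by_contra hc
      have hall : ∀ A, IsMaxAb P A → A ≤ Q := fun A hA => by
        by_contra h
        exact hc ⟨A, hA, h⟩
      have hJ : thompsonSubgroupAOf P = thompsonSubgroupAOf Q :=
        le_antisymm (thompsonA_le_of fun A hA => (C.maxAb_mem hA (hall A hA) hQP).le_thompsonA)
          (thompsonA_le_of fun A hA => (C.maxAb_sub hA0 (hall A0 hA0) hQP hA).le_thompsonA)
      refine hne fun m hm => C.hJ m hm ?_
      rw [hJ]
      exact norm_of_le fun x hx => conj_mem_thompsonA (hQn m hm) hx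
    obtain ⟨A1, ⟨hA1, hA1Q⟩, hmax⟩ :=
      Set.exists_max_image _ (fun A : Subgroup G => Nat.card ↥(A ⊓ C.V)) (Set.toFinite _) hex
    refine ⟨A1, hA1, hA1Q, ?_⟩
    by_contra hnot
    obtain ⟨A', hA'P, hA'c, hA'card, hlt, hA'N, -⟩ := glauberman_replacement hodd C.pM.2.1 hA1.1
      (C.V_le_D.trans C.DP) (fun a ha => norm_of_le fun v hv => C.V_inv (C.PM (hA1.1 ha)) hv) hA1.2.1
      (fun x hx y hy z hz => (C.central z (C.PM (C.DP (C.V_le_D hz))) _ (C.commV hx hy)).symm)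
      (fun x hx y hy => C.tA A1 hA1 (C.W0T (C.commV hx hy))) hnot
    have hA' : IsMaxAb P A' := ⟨hA'P, hA'c, fun E h1 h2 => (hA1.2.2 E h1 h2).trans hA'card⟩
    have hA'Q : A' ≤ Q := by
      by_contra h
      exact absurd (hmax A' ⟨hA', h⟩) (not_le.2 (card_lt_of_lt hlt))
    have hJle : ∀ m ∈ M, ∀ t ∈ T, m * t * m⁻¹ ∈ A' := by
      intro m hm t ht
      have htQ : t ∈ Q := hA'Q (C.tA A' hA' ht)
      refine (C.maxAb_mem hA' hA'Q hQP).mem_of_commute (hQconj hm htQ) fun a ha => ?_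
      have hai : m⁻¹ * a * m ∈ Q := by simpa using hQconj (M.inv_mem hm) (hA'Q ha)
      have haJ : m⁻¹ * a * m ∈ thompsonSubgroupAOf Q := by
        have := conj_mem_thompsonA (hQn m⁻¹ (M.inv_mem hm))
          ((C.maxAb_mem hA' hA'Q hQP).le_thompsonA ha)
        simpa using this
      have hJP : thompsonSubgroupAOf Q ≤ Subgroup.centralizer ({t} : Set G) :=
        thompsonA_le_of fun E hE e he => by
          have hE' := C.maxAb_sub hA' hA'Q hQP hE
          exact Subgroup.mem_centralizer_singleton_iff.mpr (hE'.2.1 e he t (C.tA E hE' ht))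
      have hcm := Subgroup.mem_centralizer_singleton_iff.mp (hJP haJ)
      calc a * (m * t * m⁻¹) = m * ((m⁻¹ * a * m) * t) * m⁻¹ := by group
        _ = m * (t * (m⁻¹ * a * m)) * m⁻¹ := by rw [hcm]
        _ = m * t * m⁻¹ * a := by group
    exact hnot (fun v hv => hA'N ((Subgroup.closure_le _).mpr (by
      rintro _ ⟨m, hm, t, ht, rfl⟩; exact hJle m hm t ht) hv))
  have hAM : A ≤ M := hA.1.trans C.PM
  -- subgroups with a member outside `Q`
  obtain ⟨Has, hHas⟩ : ∃ Has : Subgroup G → Prop,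
      ∀ X, Has X ↔ ∃ B, IsMaxAb P B ∧ B ≤ X ∧ ¬ B ≤ Q := ⟨_, fun X => Iff.rfl⟩
  have hHasMono : ∀ {X Y}, X ≤ Y → Has X → Has Y := fun hXY h => by
    obtain ⟨B, hB, hBX, hBQ⟩ := (hHas _).mp h
    exact (hHas _).mpr ⟨B, hB, hBX.trans hXY, hBQ⟩
  have hHasConj : ∀ {X m}, m ∈ M → cj m X ≤ P → Has X → Has (cj m X) := fun {X m} hm hXP h => by
    obtain ⟨B, hB, hBX, hBQ⟩ := (hHas _).mp h
    refine (hHas _).mpr ⟨cj m B, C.conjMaxAb hB ((cj_mono m hBX).trans hXP) (rfl : Q = Q), cj_mono m hBX,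
      fun hle => hBQ fun b hb => ?_⟩
    have := hQconj (M.inv_mem hm) (hle (conj_mem_cj m hb))
    simpa [mul_assoc] using this
  have hnorm : ∀ {W : Subgroup G}, W ≤ P → Has W → ¬ M ≤ Subgroup.normalizer (W : Set G) := by
    intro W hW h hle
    obtain ⟨B, hB, hBW, hBQ⟩ := (hHas _).mp h
    exact hBQ (hBW.trans (hQ ▸ C.normal_le hW fun m hm w hw =>
      (Subgroup.mem_normalizer_iff.mp (hle hm) w).mp hw))
  obtain ⟨NP, hNP⟩ : ∃ f : Subgroup G → Subgroup G, ∀ W, f W = P ⊓ Subgroup.normalizer (W : Set G) :=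
    ⟨_, fun W => rfl⟩
  have hNPself : ∀ {W}, W ≤ P → W ≤ NP W := fun {W} hW => by
    rw [hNP]; exact le_inf hW Subgroup.le_normalizer
  have hNPlt : ∀ {W}, W ≤ P → W ≠ P → Nat.card W < Nat.card (NP W) := by
    intro W hW hne'
    have hlt := Fus.lt_normalizerIn (S := P) C.pM.2.1 (lt_of_le_of_ne hW hne')
    rw [hNP]
    exact card_lt_of_lt hlt
  have hNPsyl : ∀ {W}, W ≤ P → (∀ m ∈ M, cj m W ≤ P → Nat.card (NP (cj m W)) ≤ Nat.card (NP W)) →
      Grp.IsSylowIn p (NP W) (M ⊓ Subgroup.normalizer (W : Set G)) := by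
    intro W hW hmax
    have h1 : NP W ≤ M ⊓ Subgroup.normalizer (W : Set G) := by
      rw [hNP]; exact inf_le_inf_right _ C.PM
    obtain ⟨S, hS, hle⟩ := HomDPi.exists_isSylowIn_ge (q := p) h1
      (C.pM.2.1.to_le (by rw [hNP]; exact inf_le_left))
    obtain ⟨z, hz, hzP⟩ := conj_into C.pM (hS.1.trans inf_le_left) hS.2.1
    have hWS : W ≤ S := (hNPself hW).trans hle
    have hle2 : cj z S ≤ NP (cj z W) := by
      rw [hNP]
      refine le_inf hzP (cj_le_iff.mpr fun x hx => norm_of_le fun w hw => ?_)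
      obtain ⟨w, hw', rfl⟩ := hw
      simp only [MulEquiv.coe_toMonoidHom, MulAut.conj_apply]
      rw [show z * x * z⁻¹ * (z * w * z⁻¹) * (z * x * z⁻¹)⁻¹ = z * (x * w * x⁻¹) * z⁻¹ by group]
      exact conj_mem_cj z ((Subgroup.mem_normalizer_iff.mp (hS.1 hx).2 w).mp hw')
    have he : NP W = S := Subgroup.eq_of_le_of_card_ge hle
      ((card_cj z S).ge.trans ((Subgroup.card_le_of_le hle2).trans (hmax z hz ((cj_mono z hWS).trans hzP))))
    exact he ▸ hS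
  -- conjugation inside `P` of the larger subgroups
  have hC : ∀ r : ℕ, (∀ W' : Subgroup G, r < Nat.card (NP W') → Q ≤ W' → W' ≤ P → Has W' →
      ∀ m ∈ M, m ∈ Subgroup.normalizer (W' : Set G) → m ∈ N0) →
    ∀ (j : ℕ) (X : Subgroup G), Nat.card P ≤ Nat.card X + j → r ≤ Nat.card X →
      Q ≤ X → X ≤ P → Has X → ∀ m ∈ M, cj m X ≤ P → m ∈ N0 := by
    intro r IH' j
    induction j using Nat.strong_induction_on with
    | _ j IHj =>
    intro X hj hr hQX hXP hX m hm hmX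
    by_cases hXP' : X = P
    · subst hXP'
      refine C.hJ m hm (norm_of_le fun x hx => conj_mem_thompsonA ?_ hx)
      exact norm_of_le fun y hy => hmX (conj_mem_cj m hy)
    obtain ⟨m0, ⟨hm0, hm0X⟩, hm0max⟩ := Set.exists_max_image {m : G | m ∈ M ∧ cj m X ≤ P}
      (fun m => Nat.card (NP (cj m X))) (Set.toFinite _) ⟨m, hm, hmX⟩
    have key : ∀ X' : Subgroup G, Q ≤ X' → X' ≤ P → Has X' → Nat.card X' = Nat.card X →
        ∀ n ∈ M, cj n X' = cj m0 X → n ∈ N0 := by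
      intro X' hQX' hX'P hX' hcard n hn hnX
      have hne' : X' ≠ P := fun e => hXP' (Subgroup.eq_of_le_of_card_ge hXP (by rw [← hcard, e]))
      have hlt := hNPlt hX'P hne'
      have hN'P : NP X' ≤ P := by rw [hNP]; exact inf_le_left
      obtain ⟨Xs, hXs⟩ : ∃ Z, Z = cj m0 X := ⟨_, rfl⟩
      rw [← hXs] at hnX hm0X
      have hsyl := hNPsyl hm0X fun z hz hzP => by
        rw [hXs, cj_cj] at hzP ⊢
        exact hm0max (z * m0) ⟨M.mul_mem hz hm0, hzP⟩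
      have hNX : cj n (NP X') ≤ M ⊓ Subgroup.normalizer (Xs : Set G) := by
        refine cj_le_iff.mpr fun y hy => ?_
        rw [hNP] at hy
        refine ⟨M.mul_mem (M.mul_mem hn (C.PM hy.1)) (M.inv_mem hn), mem_norm_of_cj ?_⟩
        rw [← hnX, cj_cj, show n * y * n⁻¹ * n = n * y by group, ← cj_cj, cj_eq_self hy.2]
      obtain ⟨y, hy, hyle⟩ := conj_into hsyl hNX ((C.pM.2.1.to_le hN'P).map _)
      rw [cj_cj] at hyle
      have hbig : Nat.card (NP X') ≤ Nat.card (NP Xs) :=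
        (card_cj (y * n) _).ge.trans (Subgroup.card_le_of_le hyle)
      have h1 : y * n ∈ N0 := IHj (Nat.card P - Nat.card (NP X'))
        (by have := Subgroup.card_le_of_le hN'P; omega) (NP X')
        (by have := Subgroup.card_le_of_le hN'P; omega) (by omega)
        (hQX'.trans (hNPself hX'P)) hN'P (hHasMono (hNPself hX'P) hX') (y * n) (M.mul_mem hy.1 hn)
        (hyle.trans (by rw [hNP]; exact inf_le_left))
      have hXsQ : Q ≤ Xs := fun q hq => by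
        rw [hXs, mem_cj]
        refine hQX ?_
        have := hQconj (M.inv_mem hm0) hq
        simpa using this
      have h2 : y ∈ N0 := IH' Xs (by omega) hXsQ hm0X (hXs ▸ hHasConj hm0 (hXs ▸ hm0X) hX) y hy.1 hy.2
      simpa using N0.mul_mem (N0.inv_mem h2) h1
    have h0 : m0 ∈ N0 := key X hQX hXP hX rfl m0 hm0 rfl
    have h1 : m0 * m⁻¹ ∈ N0 := by
      refine key (cj m X) (fun q hq => ?_) hmX (hHasConj hm hmX hX) (card_cj m X) _
        (M.mul_mem hm0 (M.inv_mem hm)) ?_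
      · rw [mem_cj]; exact hQX (by simpa using hQconj (M.inv_mem hm) hq)
      · rw [cj_cj, inv_mul_cancel_right]
    simpa [mul_assoc] using N0.mul_mem (N0.inv_mem h1) h0
  -- normalisers of these subgroups are good
  have hE : ∀ (k : ℕ) (W : Subgroup G), Nat.card P ≤ Nat.card (NP W) + k → Q ≤ W → W ≤ P → Has W →
      ∀ m ∈ M, m ∈ Subgroup.normalizer (W : Set G) → m ∈ N0 := by
    intro k
    induction k using Nat.strong_induction_on with
    | _ k IH =>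
    intro W hk hQW hWP hW
    have IH' : ∀ W' : Subgroup G, Nat.card (NP W) < Nat.card (NP W') → Q ≤ W' → W' ≤ P → Has W' →
        ∀ m ∈ M, m ∈ Subgroup.normalizer (W' : Set G) → m ∈ N0 := by
      intro W' hlt
      have hle : Nat.card (NP W') ≤ Nat.card P := Subgroup.card_le_of_le (by rw [hNP]; exact inf_le_left)
      exact IH (Nat.card P - Nat.card (NP W')) (by omega) W' (by omega)
    -- a fully normalised one
    have hfull : ∀ W' : Subgroup G, Q ≤ W' → W' ≤ P → Has W' → Nat.card (NP W) ≤ Nat.card (NP W') →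
        Grp.IsSylowIn p (NP W') (M ⊓ Subgroup.normalizer (W' : Set G)) →
        ∀ m ∈ M, m ∈ Subgroup.normalizer (W' : Set G) → m ∈ N0 := by
      intro W' hQW' hW'P hW' hle hsyl m hm hmW
      rcases lt_or_eq_of_le hle with hlt | heq
      · exact IH' W' hlt hQW' hW'P hW' m hm hmW
      obtain ⟨R, hR⟩ : ∃ R, R = NP W' := ⟨_, rfl⟩
      rw [← hR] at hsyl heq
      have hRP : R ≤ P := by rw [hR, hNP]; exact inf_le_left
      have hW'R : W' ≤ R := hR ▸ hNPself hW'P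
      have hne' : M ⊓ Subgroup.normalizer (W' : Set G) ≠ M := fun e => hnorm hW'P hW' (e ▸ inf_le_right)
      obtain ⟨B, hB, hBW, hBQ⟩ := (hHas _).mp hW'
      refine hrec' inf_le_left hne' hsyl hRP (hDQ.trans (hQW'.trans hW'R)) hB (hBW.trans hW'R)
        (fun n hn hnJ => ?_) ⟨hm, hmW⟩
      by_cases hRe : R = P
      · exact C.hJ n hn.1 (hRe ▸ hnJ)
      obtain ⟨W1, hW1⟩ : ∃ Z, Z = Q ⊔ thompsonSubgroupAOf R := ⟨_, rfl⟩
      have hW1P : W1 ≤ P := hW1 ▸ sup_le hQP ((thompsonA_le R).trans hRP)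
      have hgen : ∀ y, y ∈ M → y ∈ Subgroup.normalizer (thompsonSubgroupAOf R : Set G) →
          y ∈ Subgroup.normalizer (W1 : Set G) := fun y hy hyJ => mem_norm_of_cj (by
        rw [hW1, cj, Subgroup.map_sup, ← cj, ← cj, cj_eq_self (hQn y hy), cj_eq_self hyJ])
      have hbig : Nat.card (NP R) ≤ Nat.card (NP W1) := Subgroup.card_le_of_le (fun y hy => by
        rw [hNP] at hy ⊢
        exact ⟨hy.1, hgen y (C.PM hy.1) (norm_of_le fun x hx => conj_mem_thompsonA hy.2 hx)⟩)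
      have hlt' := hNPlt hRP hRe
      refine IH' W1 (by omega) (hW1 ▸ le_sup_left) hW1P ((hHas _).mpr ⟨B, hB, ?_, hBQ⟩) n hn.1
        (hgen n hn.1 hnJ)
      exact ((C.maxAb_mem hB (hBW.trans hW'R) hRP).le_thompsonA).trans (hW1 ▸ le_sup_right)
    intro m hm hmW
    obtain ⟨m0, ⟨hm0, hm0W⟩, hm0max⟩ := Set.exists_max_image {m : G | m ∈ M ∧ cj m W ≤ P}
      (fun m => Nat.card (NP (cj m W))) (Set.toFinite _) ⟨m, hm, (cj_eq_self hmW).le.trans hWP⟩
    obtain ⟨Ws, hWs⟩ : ∃ Z, Z = cj m0 W := ⟨_, rfl⟩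
    have hge : Nat.card (NP W) ≤ Nat.card (NP Ws) := by
      have := hm0max 1 ⟨M.one_mem, by rw [cj_one]; exact hWP⟩
      rw [hWs]
      rwa [cj_one] at this
    rw [← hWs] at hm0W
    have hsyl := hNPsyl hm0W fun z hz hzP => by
      rw [hWs, cj_cj] at hzP ⊢
      exact hm0max (z * m0) ⟨M.mul_mem hz hm0, hzP⟩
    have hgood := hfull Ws (fun q hq => by
      rw [hWs, mem_cj]; exact hQW (by simpa using hQconj (M.inv_mem hm0) hq))
      hm0W (hWs ▸ hHasConj hm0 (hWs ▸ hm0W) hW) hge hsyl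
    have hNX : cj m0 (NP W) ≤ M ⊓ Subgroup.normalizer (Ws : Set G) := by
      refine cj_le_iff.mpr fun y hy => ?_
      rw [hNP] at hy
      refine ⟨M.mul_mem (M.mul_mem hm0 (C.PM hy.1)) (M.inv_mem hm0), mem_norm_of_cj ?_⟩
      rw [hWs, cj_cj, show m0 * y * m0⁻¹ * m0 = m0 * y by group, ← cj_cj, cj_eq_self hy.2]
    have hNP' : NP W ≤ P := by rw [hNP]; exact inf_le_left
    obtain ⟨y, hy, hyle⟩ := conj_into hsyl hNX ((C.pM.2.1.to_le hNP').map _)
    rw [cj_cj] at hyle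
    have h1 : y * m0 ∈ N0 := hC _ IH' (Nat.card P) (NP W) (Nat.le_add_left _ _) le_rfl
      (hQW.trans (hNPself hWP)) hNP' (hHasMono (hNPself hWP) hW) _ (M.mul_mem hy.1 hm0)
      (hyle.trans (by rw [hNP]; exact inf_le_left))
    have h0 : m0 ∈ N0 := by simpa using N0.mul_mem (N0.inv_mem (hgood y hy.1 hy.2)) h1
    have h2 : m0 * m * m0⁻¹ ∈ N0 := by
      refine hgood _ (M.mul_mem (M.mul_mem hm0 hm) (M.inv_mem hm0)) (mem_norm_of_cj ?_)
      rw [hWs, cj_cj, inv_mul_cancel_right, ← cj_cj, cj_eq_self hmW]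
    simpa [mul_assoc] using N0.mul_mem (N0.mul_mem (N0.inv_mem h0) h2) h0
  have hE' : ∀ W, Q ≤ W → W ≤ P → Has W → ∀ m ∈ M, m ∈ Subgroup.normalizer (W : Set G) → m ∈ N0 :=
    fun W => hE (Nat.card P) W (Nat.le_add_left _ _)
  -- proper subgroups through such a subgroup are good
  have hU : ∀ (k : ℕ) (Y : Subgroup G), Nat.card P ≤ Nat.card ↥(Y ⊓ P) + k → Q ≤ Y → Y ≤ M → Y ≠ M →
      Has (Y ⊓ P) → Y ≤ N0 := by
    intro k
    induction k using Nat.strong_induction_on with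
    | _ k IH =>
    intro Y hk hQY hYM hYne hY
    obtain ⟨R, hR⟩ : ∃ R, R = Y ⊓ P := ⟨_, rfl⟩
    rw [← hR] at hk hY
    have hRP : R ≤ P := hR ▸ inf_le_right
    have hQR : Q ≤ R := hR ▸ le_inf hQY hQP
    have hRY : R ≤ Y := hR ▸ inf_le_left
    obtain ⟨B, hB, hBR, hBQ⟩ := (hHas _).mp hY
    obtain ⟨S1, hS1, hRS⟩ := HomDPi.exists_isSylowIn_ge (q := p) hRY (C.pM.2.1.to_le hRP)
    by_cases hRe : R = S1
    · refine hrec' hYM hYne (hRe ▸ hS1) hRP (hDQ.trans hQR) hB hBR fun n hn hnJ => ?_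
      refine hE' (Q ⊔ thompsonSubgroupAOf R) le_sup_left (sup_le hQP ((thompsonA_le R).trans hRP))
        ((hHas _).mpr ⟨B, hB, ((C.maxAb_mem hB hBR hRP).le_thompsonA).trans le_sup_right, hBQ⟩) n (hYM hn)
        (mem_norm_of_cj ?_)
      rw [cj, Subgroup.map_sup, ← cj, ← cj, cj_eq_self (hQn n (hYM hn)), cj_eq_self hnJ]
    obtain ⟨W1, hW1⟩ : ∃ Z, Z = S1 ⊓ Subgroup.normalizer (R : Set G) := ⟨_, rfl⟩
    have hlt : R < W1 := hW1 ▸ Fus.lt_normalizerIn (S := S1) hS1.2.1 (lt_of_le_of_ne hRS hRe)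
    have hW1M : W1 ≤ M := hW1 ▸ (inf_le_left.trans (hS1.1.trans hYM))
    have hW1N : W1 ≤ N0 ⊓ M := fun w hw =>
      ⟨hE' R hQR hRP hY w (hW1M hw) (hW1.le hw).2, hW1M hw⟩
    have hPsyl : Grp.IsSylowIn p P (N0 ⊓ M) :=
      ⟨le_inf C.PN C.PM, C.pM.2.1, fun h => C.pM.2.2 (h.trans (dvd_of_mul_right_eq _
        (Subgroup.relIndex_mul_relIndex P (N0 ⊓ M) M (le_inf C.PN C.PM) inf_le_right)))⟩
    obtain ⟨n, hn, hnW⟩ := conj_into hPsyl hW1N (hS1.2.1.to_le (hW1 ▸ inf_le_left))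
    have hle : cj n W1 ≤ cj n Y ⊓ P :=
      le_inf (cj_mono n (hW1 ▸ inf_le_left.trans hS1.1)) hnW
    have hbig : Nat.card W1 ≤ Nat.card ↥(cj n Y ⊓ P) :=
      (card_cj n W1).ge.trans (Subgroup.card_le_of_le hle)
    have hRc := card_lt_of_lt hlt
    have hYn : cj n Y ≤ N0 := by
      refine IH (Nat.card P - Nat.card ↥(cj n Y ⊓ P)) ?_ (cj n Y) (by omega) (fun q hq => ?_) ?_ ?_ ?_
      · have := Subgroup.card_le_of_le (inf_le_right : cj n Y ⊓ P ≤ P)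
        omega
      · rw [mem_cj]; exact hQY (by simpa using hQconj (M.inv_mem hn.2) hq)
      · exact cj_le_iff.mpr fun x hx => M.mul_mem (M.mul_mem hn.2 (hYM hx)) (M.inv_mem hn.2)
      · exact fun e => hYne (Subgroup.eq_of_le_of_card_ge hYM (by rw [← card_cj n Y, e]))
      · have hRP' : cj n R ≤ P := (cj_mono n hlt.le).trans hnW
        exact hHasMono (le_inf (cj_mono n hRY) hRP') (hHasConj hn.2 hRP' hY)
    intro x hx
    have := hYn (conj_mem_cj n hx)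
    simpa [mul_assoc] using N0.mul_mem (N0.mul_mem (N0.inv_mem hn.1) this) hn.1
  have hover : ∀ Y : Subgroup G, A ≤ Y → Q ≤ Y → Y ≤ M → Y ≠ M → Y ≤ N0 := fun Y hAY hQY hYM hYne =>
    hU (Nat.card P) Y (Nat.le_add_left _ _) hQY hYM hYne ((hHas _).mpr ⟨A, hA, le_inf hAY hA.1, hAQ⟩)
  have hconj : ∀ m ∈ M, (∀ a ∈ A, m * a * m⁻¹ ∈ N0) → m ∈ N0 := by
    intro m hm hmA
    have hPsyl : Grp.IsSylowIn p P (N0 ⊓ M) :=
      ⟨le_inf C.PN C.PM, C.pM.2.1, fun h => C.pM.2.2 (h.trans (dvd_of_mul_right_eq _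
        (Subgroup.relIndex_mul_relIndex P (N0 ⊓ M) M (le_inf C.PN C.PM) inf_le_right)))⟩
    obtain ⟨X, hX⟩ : ∃ Z, Z = A ⊔ Q := ⟨_, rfl⟩
    have hXP : X ≤ P := hX ▸ sup_le hA.1 hQP
    have hXm : cj m X ≤ N0 ⊓ M := by
      rw [hX, cj, Subgroup.map_sup, ← cj, ← cj, cj_eq_self (hQn m hm)]
      refine sup_le (le_inf (cj_le_iff.mpr hmA) (cj_le_iff.mpr fun a ha =>
        M.mul_mem (M.mul_mem hm (hAM ha)) (M.inv_mem hm))) (le_inf (hQP.trans C.PN) (hQP.trans C.PM))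
    obtain ⟨n, hn, hnX⟩ := conj_into hPsyl hXm ((C.pM.2.1.to_le hXP).map _)
    rw [cj_cj] at hnX
    have h : n * m ∈ N0 := hC 0 (fun W' _ => hE' W') (Nat.card P) X (Nat.le_add_left _ _) (Nat.zero_le _)
      (hX ▸ le_sup_right) hXP ((hHas _).mpr ⟨A, hA, hX ▸ le_sup_left, hAQ⟩) _ (M.mul_mem hn.2 hm) hnX
    simpa using N0.mul_mem (N0.inv_mem hn.1) h
  -- an element moving `A` out of the good subgroup
  obtain ⟨g, hgM, hgN⟩ := SetLike.not_le_iff_exists.mp hne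
  have hgen : A ⊔ cj g A ⊔ Q = M := by
    by_contra hne'
    have hle : A ⊔ cj g A ⊔ Q ≤ M := sup_le (sup_le hAM (cj_le_iff.mpr fun a ha =>
      M.mul_mem (M.mul_mem hgM (hAM ha)) (M.inv_mem hgM))) (hQP.trans C.PM)
    have hN := hover _ (le_sup_left.trans le_sup_left) le_sup_right hle hne'
    exact hgN (hconj g hgM fun a ha => hN ((le_sup_right.trans le_sup_left : cj g A ≤ _) (conj_mem_cj g ha)))
  exact ⟨A, Q, g, ⟨hA, hAQ, hVA, hQ, hQn, hover, hconj, hgM, hgN, hgen⟩⟩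

end Main

section MainExp

variable {M P D W0 T N0 : Subgroup G} (C : Hyp p M P D W0 T N0)
include C

theorem Hyp.powV {v : G} (hv : v ∈ C.V) : v ^ p ∈ W0 := by
  haveI hn : (W0.subgroupOf C.V).Normal := ⟨fun w hw m => by
    rw [Subgroup.mem_subgroupOf] at hw ⊢
    have hm : (m : G) ∈ M := C.PM (C.DP (C.V_le_D m.2))
    rw [Subgroup.coe_mul, Subgroup.coe_mul, Subgroup.coe_inv, C.central _ hm _ hw, mul_inv_cancel_right]
    exact hw⟩
  have hcomm : ∀ a b : ↥C.V ⧸ W0.subgroupOf C.V, Commute a b := by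
    intro a b
    obtain ⟨x, rfl⟩ := QuotientGroup.mk_surjective a
    obtain ⟨y, rfl⟩ := QuotientGroup.mk_surjective b
    show (QuotientGroup.mk (x * y) : ↥C.V ⧸ W0.subgroupOf C.V) = QuotientGroup.mk (y * x)
    refine (QuotientGroup.eq.mpr ?_).symm
    rw [Subgroup.mem_subgroupOf]
    have := C.commV (inv_mem x.2) (inv_mem y.2)
    simpa [mul_assoc] using this
  suffices h : ∀ x : C.V, (QuotientGroup.mk x : ↥C.V ⧸ W0.subgroupOf C.V) ^ p = 1 by
    have h' := h ⟨v, hv⟩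
    rw [← QuotientGroup.mk_pow, QuotientGroup.eq_one_iff, Subgroup.mem_subgroupOf] at h'
    exact h'
  rintro ⟨x, hx⟩
  induction hx using Subgroup.closure_induction with
  | mem x hx =>
    obtain ⟨m, hm, t, ht, rfl⟩ := hx
    rw [← QuotientGroup.mk_pow, QuotientGroup.eq_one_iff, Subgroup.mem_subgroupOf]
    show (m * t * m⁻¹) ^ p ∈ W0
    rw [conj_pow, C.central m hm _ (C.tPow t ht), mul_inv_cancel_right]
    exact C.tPow t ht
  | one => exact one_pow _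
  | mul x y hx hy ihx ihy =>
    rw [show (⟨x * y, mul_mem hx hy⟩ : C.V) = ⟨x, hx⟩ * ⟨y, hy⟩ from rfl, QuotientGroup.mk_mul,
      (hcomm _ _).mul_pow, ihx, ihy, one_mul]
  | inv x hx ihx =>
    rw [show (⟨x⁻¹, inv_mem hx⟩ : C.V) = (⟨x, hx⟩)⁻¹ from rfl, QuotientGroup.mk_inv, inv_pow, ihx, inv_one]

/-- The hypothesis passes to subgroups with a Sylow subgroup containing a member of the family. -/
theorem Hyp.sub {Y R A : Subgroup G} (hY : Y ≤ M) (hR : Grp.IsSylowIn p R Y) (hRP : R ≤ P) (hDR : D ≤ R)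
    (hA : IsMaxAb P A) (hAR : A ≤ R)
    (hJ : ∀ m ∈ Y, m ∈ Subgroup.normalizer (thompsonSubgroupAOf R : Set G) → m ∈ N0) :
    Hyp p Y R D W0 T N0 where
  toHyp0 := C.toHyp0.sub hY hR hRP hDR hA hAR hJ
  tPow := C.tPow

/-- The main theorem, given the induction hypothesis. -/
theorem Hyp.step (hodd : p ≠ 2) (hrec : Rec p (Nat.card M) D W0 T N0) (hne : ¬ M ≤ N0)
    {a0 : (ZMod p)ˣ} (ha0 : ∀ u : (ZMod p)ˣ, u ∈ Subgroup.zpowers a0) :
    Plane p a0 M P D T N0 := by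
  classical
  by_contra hno
  have hrec' : ∀ {Y R A : Subgroup G}, Y ≤ M → Y ≠ M → Grp.IsSylowIn p R Y → R ≤ P → D ≤ R →
      IsMaxAb P A → A ≤ R →
      (∀ m ∈ Y, m ∈ Subgroup.normalizer (thompsonSubgroupAOf R : Set G) → m ∈ N0) → Y ≤ N0 := by
    intro Y R A hY hne' hR hRP hDR hA hAR hJ
    have hlt : Nat.card Y < Nat.card M :=
      lt_of_le_of_ne (Subgroup.card_le_of_le hY) fun e => hne' (Subgroup.eq_of_le_of_card_ge hY e.ge)
    exact (hrec Y R hlt (C.sub hY hR hRP hDR hA hAR hJ)).resolve_right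
      fun h => hno (h M P hY hRP a0 ha0)
  obtain ⟨A, Q, g, hA, hAQ, hVA, hQ, hQn, hover, hconj, hgM, hgN, hgen⟩ := C.toHyp0.config hodd hrec' hne
  have hQP : Q ≤ P := hQ ▸ inf_le_left
  have hQK : Q ≤ C.K := hQ ▸ inf_le_right
  have hAM : A ≤ M := hA.1.trans C.PM
  -- the vectors centralised by the elements of order prime to `p`
  obtain ⟨Wo, hWo⟩ : ∃ Wo : Subgroup G, ∀ v, v ∈ Wo ↔
      v ∈ C.V ∧ ∀ m ∈ M, (orderOf m).Coprime p → m * v * m⁻¹ * v⁻¹ ∈ W0 := by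
    refine ⟨{ carrier := {v | v ∈ C.V ∧ ∀ m ∈ M, (orderOf m).Coprime p → m * v * m⁻¹ * v⁻¹ ∈ W0}
              one_mem' := ⟨C.V.one_mem, fun m _ _ => by simp⟩
              mul_mem' := fun {a b} ha hb => ⟨mul_mem ha.1 hb.1, fun m hm hc => ?_⟩
              inv_mem' := fun {a} ha => ⟨inv_mem ha.1, fun m hm hc => ?_⟩ }, fun v => Iff.rfl⟩
    · have h := C.central a (C.PM (C.DP (C.V_le_D ha.1))) _ (hb.2 m hm hc)
      rw [show m * (a * b) * m⁻¹ * (a * b)⁻¹ = (m * a * m⁻¹ * a⁻¹) * (a * (m * b * m⁻¹ * b⁻¹) * a⁻¹) by group,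
        h, mul_inv_cancel_right]
      exact W0.mul_mem (ha.2 m hm hc) (hb.2 m hm hc)
    · have h := C.central a⁻¹ (M.inv_mem (C.PM (C.DP (C.V_le_D ha.1)))) _ (W0.inv_mem (ha.2 m hm hc))
      rw [show m * a⁻¹ * m⁻¹ * a⁻¹⁻¹ = a⁻¹ * (m * a * m⁻¹ * a⁻¹)⁻¹ * a by group, h, inv_mul_cancel_right]
      exact W0.inv_mem (ha.2 m hm hc)
  have hWoV : Wo ≤ C.V := fun v hv => ((hWo v).mp hv).1
  have hW0Wo : W0 ≤ Wo := fun w hw => (hWo w).mpr ⟨C.T_le_V (C.W0T hw), fun m hm _ => by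
    rw [C.central m hm w hw, mul_inv_cancel_right, mul_inv_cancel]
    exact W0.one_mem⟩
  have hWoinv : ∀ {m v : G}, m ∈ M → v ∈ Wo → m * v * m⁻¹ ∈ Wo := by
    intro m v hm hv
    obtain ⟨hvV, hv⟩ := (hWo v).mp hv
    refine (hWo _).mpr ⟨C.V_inv hm hvV, fun n hn hc => ?_⟩
    have hc' : (orderOf (m⁻¹ * n * m)).Coprime p := by
      rw [show m⁻¹ * n * m = (MulAut.conj m⁻¹) n by simp, MulEquiv.orderOf_eq]; exact hc
    have h := hv _ (M.mul_mem (M.mul_mem (M.inv_mem hm) hn) hm) hc'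
    rw [show n * (m * v * m⁻¹) * n⁻¹ * (m * v * m⁻¹)⁻¹ =
      m * ((m⁻¹ * n * m) * v * (m⁻¹ * n * m)⁻¹ * v⁻¹) * m⁻¹ by group, C.central m hm _ h, mul_inv_cancel_right]
    exact h
  obtain ⟨WV, hWV⟩ : ∃ X, X = Wo.subgroupOf C.V := ⟨_, rfl⟩
  haveI hWVn : WV.Normal := ⟨fun w hw m => by
    rw [hWV, Subgroup.mem_subgroupOf] at hw ⊢
    exact hWoinv (C.PM (C.DP (C.V_le_D m.2))) hw⟩
  letI : CommGroup (↥C.V ⧸ WV) := { (inferInstance : Group (↥C.V ⧸ WV)) with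
    mul_comm := fun a b => by
      obtain ⟨x, rfl⟩ := QuotientGroup.mk_surjective a
      obtain ⟨y, rfl⟩ := QuotientGroup.mk_surjective b
      show (QuotientGroup.mk (x * y) : ↥C.V ⧸ WV) = QuotientGroup.mk (y * x)
      refine (QuotientGroup.eq.mpr ?_).symm
      rw [hWV, Subgroup.mem_subgroupOf]
      have := hW0Wo (C.commV (inv_mem x.2) (inv_mem y.2))
      simpa [mul_assoc] using this }
  let U := Additive (↥C.V ⧸ WV)
  let π : ↥C.V → U := fun v => Additive.ofMul (QuotientGroup.mk v)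
  have hπmul : ∀ a b, π (a * b) = π a + π b := fun a b => rfl
  have hπinv : ∀ a, π a⁻¹ = -π a := fun a => rfl
  have hπ0 : ∀ v : C.V, π v = 0 ↔ (v : G) ∈ Wo := fun v => by
    show (QuotientGroup.mk v : ↥C.V ⧸ WV) = 1 ↔ _
    rw [QuotientGroup.eq_one_iff, hWV]
    exact Subgroup.mem_subgroupOf
  have hπsurj : Function.Surjective π := fun q => by
    obtain ⟨v, hv⟩ := QuotientGroup.mk_surjective (Additive.toMul q)
    exact ⟨v, congrArg Additive.ofMul hv⟩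
  have hπpow : ∀ (v : C.V) (n : ℕ), π (v ^ n) = n • π v := fun v n => rfl
  letI : Module (ZMod p) U := AddCommGroup.zmodModule (fun q => by
    obtain ⟨v, rfl⟩ := hπsurj q
    rw [← hπpow, hπ0]
    exact hW0Wo (C.powV v.2))
  have hmodU : Module (ZMod p) U := inferInstance
  have hπeq : ∀ a b : C.V, π a = π b → (a : G) * (b : G)⁻¹ ∈ Wo := fun a b h => by
    have := (hπ0 (a * b⁻¹)).mp (by rw [hπmul, hπinv, h, add_neg_cancel])
    exact this
  have hπeq' : ∀ a b : C.V, (a : G) * (b : G)⁻¹ ∈ Wo → π a = π b := fun a b h => by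
    have := (hπ0 (a * b⁻¹)).mpr h
    rw [hπmul, hπinv, add_neg_eq_zero] at this
    exact this
  let cg : ↥M → (↥C.V →* ↥C.V) := fun m =>
    { toFun := fun v => ⟨(m : G) * v * (m : G)⁻¹, C.V_inv m.2 v.2⟩
      map_one' := Subtype.ext (by simp)
      map_mul' := fun a b => Subtype.ext (by simp [mul_assoc]) }
  have hcg : ∀ m, WV ≤ WV.comap (cg m) := fun m v hv => by
    rw [hWV, Subgroup.mem_subgroupOf] at hv
    rw [Subgroup.mem_comap, hWV, Subgroup.mem_subgroupOf]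
    exact hWoinv m.2 hv
  have hmodU2 : Module (ZMod p) U := inferInstance
  let ρf : ↥M → (U →ₗ[ZMod p] U) := fun m =>
    (MonoidHom.toAdditive (QuotientGroup.map WV WV (cg m) (hcg m))).toZModLinearMap p
  have hρπ : ∀ (m : ↥M) (v : ↥C.V), (ρf m : U →ₗ[ZMod p] U) (π v) = π (cg m v) := fun m v => rfl
  let ρ : ↥M →* Module.End (ZMod p) U :=
    { toFun := ρf
      map_one' := LinearMap.ext fun q => by
        obtain ⟨v, rfl⟩ := hπsurj q
        show ρf 1 (π v) = π v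
        rw [hρπ]
        exact congrArg π (Subtype.ext (by simp [cg]))
      map_mul' := fun m n => LinearMap.ext fun q => by
        obtain ⟨v, rfl⟩ := hπsurj q
        show ρf (m * n) (π v) = ρf m (ρf n (π v))
        rw [hρπ, hρπ, hρπ]
        exact congrArg π (Subtype.ext (by simp [cg, mul_assoc])) }
  have hρ : ∀ (m : ↥M) (v : ↥C.V), ρ m (π v) = π ⟨(m : G) * v * (m : G)⁻¹, C.V_inv m.2 v.2⟩ := hρπ
  have hfixW : ∀ (m : ↥M) (v : C.V), (m : G) * v * (m : G)⁻¹ * (v : G)⁻¹ ∈ W0 → ρ m (π v) = π v :=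
    fun m v h => by rw [hρ]; exact hπeq' _ _ (hW0Wo h)
  -- a vector of `T` moved by an element of order prime to `p`
  obtain ⟨t, htT, htW⟩ : ∃ t ∈ T, t ∉ Wo := by
    by_contra hc
    push Not at hc
    refine hne ((Grp.le_of_forall_sylow (H := N0 ⊓ M) inf_le_right fun q _ => ?_).trans inf_le_left)
    obtain ⟨X, hX⟩ := Grp.exists_isSylowIn q M
    by_cases hqp : q = p
    · subst hqp
      exact ⟨P, C.pM, le_inf C.PN C.PM⟩
    refine ⟨X, hX, fun x hx => ⟨C.hfix x (hX.1 hx) fun t ht => ((hWo t).mp (hc t ht)).2 x (hX.1 hx) ?_, hX.1 hx⟩⟩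
    obtain ⟨k, hk⟩ := IsPGroup.iff_orderOf.1 hX.2.1 ⟨x, hx⟩
    rw [← Subgroup.orderOf_mk x hx, hk]
    exact ((Nat.coprime_primes Fact.out hp.out).mpr hqp).pow_left k
  obtain ⟨tV, htV⟩ : ∃ z : C.V, (z : G) = t := ⟨⟨t, C.T_le_V htT⟩, rfl⟩
  have hAT : ∀ a : ↥M, (a : G) ∈ A → ∀ z : C.V, (z : G) ∈ T → ρ a (π z) = π z := fun a ha z hz =>
    hfixW a z (C.tComm a (hA.1 ha) z hz)
  obtain ⟨s, hsN, x, hxA, ⟨D1, ψ, hψ, hx1, hs1, hψeq⟩, hB⟩ :=
    borel_data hodd ρ (A := A.subgroupOf M) (Q := Q.subgroupOf M) (N0 := N0.subgroupOf M) (g := ⟨g, hgM⟩)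
      (t := π tV) ((C.pM.2.1.to_le hA.1).comap_subtype)
      (fun a ha b hb q => by
        obtain ⟨v, rfl⟩ := hπsurj q
        obtain ⟨c, hc⟩ : ∃ c : C.V, c = ⟨(a : G) * v * (a : G)⁻¹, C.V_inv a.2 v.2⟩ * v⁻¹ := ⟨_, rfl⟩
        have hcA : (c : G) ∈ A := by
          rw [hc]
          show (a : G) * v * (a : G)⁻¹ * (v : G)⁻¹ ∈ A
          have := (Subgroup.mem_normalizer_iff.mp (hVA v.2) _).mp (A.inv_mem ha)
          simpa [mul_assoc] using A.mul_mem ha this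
        have hcq : ρ a (π v) - π v = π c := by rw [hρ, hc, hπmul, hπinv, sub_eq_add_neg]
        rw [hcq]
        refine hfixW b c ?_
        rw [hA.2.1 (b : G) hb _ hcA, mul_inv_cancel_right, mul_inv_cancel]
        exact W0.one_mem)
      (fun q hq => LinearMap.ext fun u => by
        obtain ⟨v, rfl⟩ := hπsurj u
        exact hfixW q v ((hQK hq).2 v v.2))
      (by
        refine Subgroup.map_injective M.subtype_injective ?_
        rw [Subgroup.map_sup, Subgroup.map_sup, ← MonoidHom.range_eq_map, Subgroup.range_subtype,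
          Subgroup.map_map, Subgroup.map_subgroupOf_eq_of_le (hQP.trans C.PM)]
        refine Eq.trans ?_ hgen
        rw [show (M.subtype.comp (MulAut.conj (⟨g, hgM⟩ : ↥M)).toMonoidHom) =
          (MulAut.conj g).toMonoidHom.comp M.subtype from MonoidHom.ext fun y => rfl, ← Subgroup.map_map,
          Subgroup.map_subgroupOf_eq_of_le hAM]
        rfl)
      (fun q hq => by
        obtain ⟨v, rfl⟩ := hπsurj q
        refine (hπ0 v).mpr ((hWo v).mpr ⟨v.2, fun m hm hc => ?_⟩)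
        have h := hq ⟨m, hm⟩
        rw [hρ] at h
        obtain ⟨w, hw⟩ : ∃ w, w = m * (v : G) * m⁻¹ * (v : G)⁻¹ := ⟨_, rfl⟩
        have hwWo : w ∈ Wo := hw ▸ hπeq _ _ h
        obtain ⟨hwV, hwfix⟩ := (hWo w).mp hwWo
        have hk : ∀ k : ℕ, m ^ k * v * (m ^ k)⁻¹ * ((w ^ k) * v)⁻¹ ∈ W0 := by
          intro k
          induction k with
          | zero => simp
          | succ k ih =>
            have hmw : m * w ^ k * m⁻¹ * (w ^ k)⁻¹ ∈ W0 :=
              ((hWo (w ^ k)).mp (Wo.pow_mem hwWo k)).2 m hm hc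
            obtain ⟨z, hz⟩ : ∃ z, z = m ^ k * (v : G) * (m ^ k)⁻¹ * ((w ^ k) * (v : G))⁻¹ := ⟨_, rfl⟩
            obtain ⟨z2, hz2⟩ : ∃ z, z = m * w ^ k * m⁻¹ * (w ^ k)⁻¹ := ⟨_, rfl⟩
            rw [← hz] at ih
            rw [← hz2] at hmw
            have e : m ^ (k + 1) * (v : G) * (m ^ (k + 1))⁻¹ = z * z2 * (w ^ (k + 1) * v) := by
              have e1 : m ^ (k + 1) * (v : G) * (m ^ (k + 1))⁻¹ = m * z * (w ^ k * v) * m⁻¹ := by
                rw [hz, pow_succ']; group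
              rw [e1, C.central m hm z ih, hz2, pow_succ, hw]
              group
            rw [e, mul_inv_cancel_right]
            exact W0.mul_mem ih hmw
        have h1 : w ^ orderOf m ∈ W0 := by
          have := hk (orderOf m)
          rw [pow_orderOf_eq_one, one_mul, inv_one, mul_one, _root_.mul_inv_rev, ← mul_assoc, mul_inv_cancel,
            one_mul] at this
          exact inv_mem_iff.mp this
        rw [← hw]
        rcases Nat.Coprime.gcd_eq_one hc with hg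
        have h2 : w ^ (p : ℤ) ∈ W0 := by rw [zpow_natCast]; exact C.powV hwV
        have h1' : w ^ (orderOf m : ℤ) ∈ W0 := by rw [zpow_natCast]; exact h1
        have hb1 := Nat.gcd_eq_gcd_ab (orderOf m) p
        rw [hg, Nat.cast_one] at hb1
        rw [← zpow_one w, hb1, _root_.zpow_add, _root_.zpow_mul, _root_.zpow_mul]
        exact W0.mul_mem (W0.zpow_mem h1' _) (W0.zpow_mem h2 _))
      (fun X hX hfix => by
        refine Submodule.eq_top_iff'.mpr fun q => ?_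
        obtain ⟨⟨v, hv⟩, rfl⟩ := hπsurj q
        induction hv using Subgroup.closure_induction with
        | mem y hy =>
          obtain ⟨m, hm, t', ht', rfl⟩ := hy
          have h := hX ⟨m, hm⟩ (π ⟨t', C.T_le_V ht'⟩) (hfix fun a ha => hAT a ha _ ht')
          rw [hρ] at h
          exact h
        | one => exact X.zero_mem
        | mul a b ha hb iha ihb =>
          rw [show (⟨a * b, mul_mem ha hb⟩ : C.V) = ⟨a, ha⟩ * ⟨b, hb⟩ from rfl, hπmul]
          exact X.add_mem iha ihb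
        | inv a ha iha =>
          rw [show (⟨a⁻¹, inv_mem ha⟩ : C.V) = (⟨a, ha⟩)⁻¹ from rfl, hπinv]
          exact X.neg_mem iha)
      (fun a ha => hAT a ha tV (htV ▸ htT))
      (fun h => htW (htV ▸ (hπ0 tV).mp h))
      (fun Y hAY hQY hY y hy => by
        have h := hover (Y.map M.subtype)
          (by rw [← Subgroup.map_subgroupOf_eq_of_le hAM]; exact Subgroup.map_mono hAY)
          (by rw [← Subgroup.map_subgroupOf_eq_of_le (hQP.trans C.PM)]; exact Subgroup.map_mono hQY)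
          (Subgroup.map_subtype_le Y) (fun e => hY (Subgroup.map_injective M.subtype_injective
            (by rw [e, ← MonoidHom.range_eq_map, Subgroup.range_subtype])))
        exact h ⟨y, hy, rfl⟩)
      (fun m h => hconj m m.2 fun a ha => h ⟨a, hAM ha⟩ ha)
      hgN ha0
  refine hno ⟨(s : G), hsN, s.2, (x : G), hA.1 hxA, ?_, ?_⟩
  · let D1G : Subgroup G :=
      { carrier := {v | ∃ h : v ∈ C.V, π ⟨v, h⟩ ∈ D1}
        one_mem' := ⟨C.V.one_mem, D1.zero_mem⟩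
        mul_mem' := by
          rintro a b ⟨ha, ha'⟩ ⟨hb, hb'⟩
          exact ⟨mul_mem ha hb, D1.add_mem ha' hb'⟩
        inv_mem' := by
          rintro a ⟨ha, ha'⟩
          exact ⟨inv_mem ha, D1.neg_mem ha'⟩ }
    have hmem : ∀ v : D1G, ∃ h : (v : G) ∈ C.V, π ⟨v, h⟩ ∈ D1 := fun v => v.2
    let φ : D1G →* Multiplicative (Fin 2 → ZMod p) := MonoidHom.mk'
      (fun v => Multiplicative.ofAdd (ψ ⟨_, (hmem v).2⟩)) fun a b => by
        show _ = Multiplicative.ofAdd (ψ _ + ψ _)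
        exact congrArg Multiplicative.ofAdd (map_add ψ ⟨_, (hmem a).2⟩ ⟨_, (hmem b).2⟩)
    refine ⟨D1G, fun v hv => C.V_le_D hv.1, φ, fun c => ?_, ?_, ?_, fun v h => ?_, fun v h => ?_⟩
    · obtain ⟨u, hu⟩ := hψ (Multiplicative.toAdd c)
      obtain ⟨v, hv⟩ := hπsurj (u : U)
      refine ⟨⟨v, v.2, hv ▸ u.2⟩, congrArg Multiplicative.ofAdd (Eq.trans (congrArg ψ (Subtype.ext hv)) hu)⟩
    · refine norm_of_le fun v hv => ?_
      obtain ⟨hvV, hv⟩ := hv
      exact ⟨C.V_inv x.2 hvV, hρ x ⟨v, hvV⟩ ▸ hx1 _ hv⟩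
    · refine norm_of_le fun v hv => ?_
      obtain ⟨hvV, hv⟩ := hv
      exact ⟨C.V_inv s.2 hvV, hρ s ⟨v, hvV⟩ ▸ hs1 _ hv⟩
    · have h' := (hψeq ⟨_, (hmem v).2⟩).1
      refine congrArg Multiplicative.ofAdd (Eq.trans (congrArg ψ (Subtype.ext ?_)) h')
      exact (hρ x ⟨v, (hmem v).1⟩).symm
    · have h' := (hψeq ⟨_, (hmem v).2⟩).2
      refine congrArg Multiplicative.ofAdd (Eq.trans (congrArg ψ (Subtype.ext ?_)) h')
      exact (hρ s ⟨v, (hmem v).1⟩).symm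
  · intro B hTB hBc hBs
    by_contra hcon
    push Not at hcon
    let T0 : ↥B → ↥B := fun u => ⟨(s : G) * u * (s : G)⁻¹ * ((u : G) ^ (a0 : ZMod p).val)⁻¹,
      B.mul_mem (hBs u u.2) (B.inv_mem (B.pow_mem u.2 _))⟩
    have hT0 : Function.Injective T0 := by
      refine Finite.injective_iff_surjective.mpr fun b => ?_
      obtain ⟨u, hu, he⟩ := hcon b b.2
      exact ⟨⟨u, hu⟩, Subtype.ext he⟩
    let BV : Subgroup G := B ⊓ C.V
    have hBVs : ∀ u ∈ BV, (s : G) * u * (s : G)⁻¹ * (u ^ (a0 : ZMod p).val)⁻¹ ∈ BV := fun u hu =>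
      ⟨B.mul_mem (hBs u hu.1) (B.inv_mem (B.pow_mem hu.1 _)),
        C.V.mul_mem (C.V_inv s.2 hu.2) (C.V.inv_mem (C.V.pow_mem hu.2 _))⟩
    have hsurj : Function.Surjective (fun u : BV => (⟨_, hBVs u u.2⟩ : BV)) := by
      refine Finite.injective_iff_surjective.mp fun a b h => Subtype.ext ?_
      have := @hT0 ⟨a, a.2.1⟩ ⟨b, b.2.1⟩ (Subtype.ext (congrArg (fun z : BV => (z : G)) h :))
      exact congrArg (fun z : B => (z : G)) this
    let BU : Submodule (ZMod p) U := AddSubgroup.toZModSubmodule p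
      { carrier := {q | ∃ v : C.V, (v : G) ∈ B ∧ π v = q}
        zero_mem' := ⟨1, B.one_mem, rfl⟩
        add_mem' := by
          rintro _ _ ⟨a, ha, rfl⟩ ⟨b, hb, rfl⟩
          exact ⟨a * b, B.mul_mem ha hb, rfl⟩
        neg_mem' := by
          rintro _ ⟨a, ha, rfl⟩
          exact ⟨a⁻¹, B.inv_mem ha, rfl⟩ }
    obtain ⟨b, hb, hbne⟩ := hB BU ⟨tV, htV ▸ hTB htT, rfl⟩ (by
      rintro _ ⟨v, hv, rfl⟩
      exact ⟨_, hBs v hv, (hρ s v).symm⟩)
    obtain ⟨v, hv, rfl⟩ := hb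
    obtain ⟨⟨u, hu⟩, he⟩ := hsurj ⟨v, hv, v.2⟩
    refine hbne (π ⟨u, hu.2⟩) ⟨⟨u, hu.2⟩, hu.1, rfl⟩ ?_
    rw [hρ, smul_eq_nsmul, ← hπpow, sub_eq_add_neg, ← hπinv, ← hπmul]
    exact congrArg π (Subtype.ext (congrArg (fun z : BV => (z : G)) he :))

end MainExp

/-- The conclusion for any local group with a bad element. -/
theorem plane (hodd : p ≠ 2) {M P D W0 T N0 : Subgroup G} (C : Hyp p M P D W0 T N0) (hne : ¬ M ≤ N0)
    {a0 : (ZMod p)ˣ} (ha0 : ∀ u : (ZMod p)ˣ, u ∈ Subgroup.zpowers a0) : Plane p a0 M P D T N0 := by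
  suffices h : ∀ n, Rec p n D W0 T N0 from C.step hodd (h _) hne ha0
  intro n
  induction n with
  | zero => exact fun Y R h => absurd h (Nat.not_lt_zero _)
  | succ n ih =>
    intro Y R hY CY
    by_cases hle : Y ≤ N0
    · exact Or.inl hle
    refine Or.inr fun M' P' hYM hRP a ha => (CY.step hodd ?_ hle ha).mono hYM hRP
    exact fun Y' R' h => ih Y' R' (by omega)

end Cfsg.Agent.Fus.Fail
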