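import Cfsg.Agent.Lib.Fus.FailNatural
import Cfsg.Agent.Lib.Grp.HomogeneousDPi

/-!
A module with a quadratic subgroup `A` lying in a unique maximal subgroup `N`: an element of `N` acting as a
full split torus, and an element of `A` acting as a transvection, on a plane section.
-/

set_option autoImplicit false
set_option linter.unusedSectionVars false
set_option linter.style.haveILetI false

universe u v

namespace Cfsg.Agent.Fus.Fail

open Matrix Cfsg.Agent.Grp Cfsg.Agent.Grp.SL2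

variable {p : ℕ} [hp : Fact p.Prime]

section General

variable {Γ : Type v} [Group Γ] {U : Type u} [AddCommGroup U] [Module (ZMod p) U]

theorem rho_inv_apply (ρ : Γ →* Module.End (ZMod p) U) (m : Γ) (u : U) : ρ m⁻¹ (ρ m u) = u := by
  rw [← Module.End.mul_apply, ← map_mul, inv_mul_cancel, map_one, Module.End.one_apply]

theorem rho_apply_inv (ρ : Γ →* Module.End (ZMod p) U) (m : Γ) (u : U) : ρ m (ρ m⁻¹ u) = u := by
  rw [← Module.End.mul_apply, ← map_mul, mul_inv_cancel, map_one, Module.End.one_apply]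

/-- The stabiliser of a vector. -/
def vStab (ρ : Γ →* Module.End (ZMod p) U) (u : U) : Subgroup Γ where
  carrier := {m | ρ m u = u}
  one_mem' := by simp
  mul_mem' := fun {m n} (hm : ρ m u = u) (hn : ρ n u = u) => by
    simp [map_mul, Module.End.mul_apply, hm, hn]
  inv_mem' := fun {m} (hm : ρ m u = u) => by
    show ρ m⁻¹ u = u
    conv_lhs => rw [← hm]
    exact rho_inv_apply ρ m u

theorem mem_vStab {ρ : Γ →* Module.End (ZMod p) U} {u : U} {m : Γ} : m ∈ vStab ρ u ↔ ρ m u = u := Iff.rfl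

/-- The fixed vectors of a subgroup. -/
def vFix (ρ : Γ →* Module.End (ZMod p) U) (A : Subgroup Γ) : Submodule (ZMod p) U where
  carrier := {u | ∀ a ∈ A, ρ a u = u}
  add_mem' := fun {u v} hu hv a ha => by rw [map_add, hu a ha, hv a ha]
  zero_mem' := fun a _ => map_zero _
  smul_mem' := fun c u hu a ha => by rw [map_smul, hu a ha]

theorem mem_vFix {ρ : Γ →* Module.End (ZMod p) U} {A : Subgroup Γ} {u : U} :
    u ∈ vFix ρ A ↔ ∀ a ∈ A, ρ a u = u := Iff.rfl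

theorem smul_eq_nsmul (a : ZMod p) (u : U) : a • u = a.val • u := by
  conv_lhs => rw [← ZMod.natCast_zmod_val a]
  rw [Nat.cast_smul_eq_nsmul]

theorem cast_smul_comm {K : Type*} [Field K] [CharP K p] (e : U →+ (Fin 2 → K)) (a : ZMod p) (u : U) :
    e (a • u) = ZMod.castHom (dvd_refl p) K a • e u := by
  rw [smul_eq_nsmul, map_nsmul, ← Nat.cast_smul_eq_nsmul K]
  congr 1
  conv_rhs => rw [← ZMod.natCast_zmod_val a]
  rw [map_natCast]

/-- A `p`-group fixes a nonzero vector. -/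
theorem exists_fixed [Finite U] (ρ : Γ →* Module.End (ZMod p) U) {R : Subgroup Γ} (hR : IsPGroup p R)
    {t : U} (ht : t ≠ 0) : ∃ u : U, u ≠ 0 ∧ ∀ r ∈ R, ρ r u = u := by
  letI : MulAction R U :=
    { smul := fun r u => ρ (r : Γ) u
      one_smul := fun u => by show ρ ((1 : R) : Γ) u = u; simp
      mul_smul := fun r s u => by
        show ρ ((r * s : R) : Γ) u = ρ (r : Γ) (ρ (s : Γ) u)
        rw [Subgroup.coe_mul, map_mul, Module.End.mul_apply] }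
  have h0 : (0 : U) ∈ MulAction.fixedPoints R U := fun r => map_zero (ρ (r : Γ))
  have hdvd : p ∣ Nat.card U := by
    have hord : addOrderOf t = p := addOrderOf_eq_prime (by
      rw [← Nat.cast_smul_eq_nsmul (ZMod p), ZMod.natCast_self, zero_smul]) ht
    exact hord ▸ addOrderOf_dvd_natCard t
  obtain ⟨u, hu, hne⟩ := hR.exists_fixed_point_of_prime_dvd_card_of_fixed_point U hdvd h0
  exact ⟨u, fun h => hne h.symm, fun r hr => hu ⟨r, hr⟩⟩

end General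

section Triangular

variable {K : Type*} [Field K]

/-- The upper triangular subgroup. -/
def triSub : Subgroup (Matrix.SpecialLinearGroup (Fin 2) K) where
  carrier := {g | g.1 1 0 = 0}
  one_mem' := rfl
  mul_mem' := fun {g k} (hg : g.1 1 0 = 0) (hk : k.1 1 0 = 0) => by
    simp [Matrix.SpecialLinearGroup.coe_mul, Matrix.mul_apply, Fin.sum_univ_two, hg, hk]
  inv_mem' := fun {g} (hg : g.1 1 0 = 0) => by
    simp [Matrix.SpecialLinearGroup.coe_inv, Matrix.adjugate_fin_two, hg]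

theorem mem_triSub {g : Matrix.SpecialLinearGroup (Fin 2) K} : g ∈ triSub ↔ g.1 1 0 = 0 := Iff.rfl

theorem triSub_mul_zero {g k : Matrix.SpecialLinearGroup (Fin 2) K} (hg : g ∈ triSub) (hk : k ∈ triSub) :
    (g * k).1 0 0 = g.1 0 0 * k.1 0 0 := by
  simp [Matrix.SpecialLinearGroup.coe_mul, Matrix.mul_apply, Fin.sum_univ_two, mem_triSub.mp hk]

theorem triSub_det {g : Matrix.SpecialLinearGroup (Fin 2) K} (hg : g ∈ triSub) : g.1 0 0 * g.1 1 1 = 1 := by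
  have h : g.1.det = 1 := g.2
  rwa [Matrix.det_fin_two, mem_triSub.mp hg, mul_zero, sub_zero] at h

theorem triSub_pow_zero {g : Matrix.SpecialLinearGroup (Fin 2) K} (hg : g ∈ triSub) (n : ℕ) :
    (g ^ n).1 0 0 = g.1 0 0 ^ n := by
  induction n with
  | zero => simp
  | succ n ih => rw [pow_succ, triSub_mul_zero (pow_mem hg n) hg, ih, pow_succ]

/-- The unitriangular subgroup. -/
def uniSub : Subgroup (Matrix.SpecialLinearGroup (Fin 2) K) where
  carrier := {g | g ∈ triSub ∧ g.1 0 0 = 1}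
  one_mem' := ⟨one_mem _, rfl⟩
  mul_mem' := fun {g k} hg hk => ⟨mul_mem hg.1 hk.1, by rw [triSub_mul_zero hg.1 hk.1, hg.2, hk.2, mul_one]⟩
  inv_mem' := fun {g} hg => ⟨inv_mem hg.1, by
    have h := triSub_det hg.1
    rw [hg.2, one_mul] at h
    simp [Matrix.SpecialLinearGroup.coe_inv, Matrix.adjugate_fin_two, h]⟩

theorem mem_uniSub {g : Matrix.SpecialLinearGroup (Fin 2) K} :
    g ∈ uniSub ↔ g ∈ triSub ∧ g.1 0 0 = 1 := Iff.rfl

theorem triSub_normalizes {g k : Matrix.SpecialLinearGroup (Fin 2) K} (hg : g ∈ triSub) (hk : k ∈ uniSub) :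
    g * k * g⁻¹ ∈ uniSub := by
  refine ⟨mul_mem (mul_mem hg hk.1) (inv_mem hg), ?_⟩
  rw [triSub_mul_zero (mul_mem hg hk.1) (inv_mem hg), triSub_mul_zero hg hk.1, hk.2, mul_one,
    ← triSub_mul_zero hg (inv_mem hg), mul_inv_cancel]
  rfl

end Triangular

variable {Γ : Type v} [Group Γ] [Finite Γ] {U : Type u} [AddCommGroup U] [Module (ZMod p) U] [Finite U]

/-- The main lemma. -/
theorem borel_data (hodd : p ≠ 2) (ρ : Γ →* Module.End (ZMod p) U) {A Q N0 : Subgroup Γ} {g : Γ} {t : U}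
    (hAp : IsPGroup p A) (hA : ∀ a ∈ A, ∀ b ∈ A, ∀ u, ρ b (ρ a u - u) = ρ a u - u)
    (hQ : ∀ q ∈ Q, ρ q = 1)
    (hgen : A ⊔ A.map (MulAut.conj g).toMonoidHom ⊔ Q = ⊤)
    (hfix0 : ∀ u, (∀ m, ρ m u = u) → u = 0)
    (hspan : ∀ X : Submodule (ZMod p) U, (∀ m, ∀ u ∈ X, ρ m u ∈ X) → vFix ρ A ≤ X → X = ⊤)
    (ht : ∀ a ∈ A, ρ a t = t) (ht0 : t ≠ 0)
    (hover : ∀ Y : Subgroup Γ, A ≤ Y → Q ≤ Y → Y ≠ ⊤ → Y ≤ N0)
    (hconj : ∀ m, (∀ a ∈ A, m * a * m⁻¹ ∈ N0) → m ∈ N0)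
    (hg : g ∉ N0) {a0 : (ZMod p)ˣ} (ha0 : ∀ u : (ZMod p)ˣ, u ∈ Subgroup.zpowers a0) :
    ∃ s ∈ N0, ∃ x ∈ A,
      (∃ (D1 : Submodule (ZMod p) U) (ψ : D1 →+ (Fin 2 → ZMod p)), Function.Surjective ψ ∧
        ∃ (hx : ∀ u ∈ D1, ρ x u ∈ D1) (hs : ∀ u ∈ D1, ρ s u ∈ D1), ∀ u : D1,
          ψ ⟨ρ x u, hx u u.2⟩ = (planeUp p 1 : Matrix (Fin 2) (Fin 2) (ZMod p)) *ᵥ ψ u ∧
          ψ ⟨ρ s u, hs u u.2⟩ = (planeDiag p a0 : Matrix (Fin 2) (Fin 2) (ZMod p)) *ᵥ ψ u) ∧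
      ∀ B : Submodule (ZMod p) U, t ∈ B → (∀ u ∈ B, ρ s u ∈ B) →
        ∃ b ∈ B, ∀ u ∈ B, ρ s u - (a0 : ZMod p) • u ≠ b := by
  classical
  set A' : Subgroup Γ := A.map (MulAut.conj g).toMonoidHom with hA'
  have hA'mem : ∀ a ∈ A, g * a * g⁻¹ ∈ A' := fun a ha => ⟨a, ha, rfl⟩
  obtain ⟨U0, hU0⟩ : ∃ X, X = vFix ρ A := ⟨_, rfl⟩
  obtain ⟨U', hU'⟩ : ∃ X, X = vFix ρ A' := ⟨_, rfl⟩
  have hconjfix : ∀ (a : Γ) (u : U), ρ (g * a * g⁻¹) (ρ g u) = ρ g (ρ a u) := fun a u => by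
    rw [map_mul, Module.End.mul_apply, rho_inv_apply, map_mul, Module.End.mul_apply]
  have hqA' : ∀ a ∈ A', ∀ b ∈ A', ∀ u, ρ b (ρ a u - u) = ρ a u - u := by
    rintro _ ⟨a, ha, rfl⟩ _ ⟨b, hb, rfl⟩ u
    obtain ⟨w, rfl⟩ : ∃ w, ρ g w = u := ⟨_, rho_apply_inv ρ g u⟩
    simp only [MulEquiv.coe_toMonoidHom, MulAut.conj_apply]
    rw [hconjfix, ← map_sub, hconjfix, hA a ha b hb]
  -- the span of the two fixed spaces
  have hsum : U0 ⊔ U' = ⊤ := by
    refine hspan _ (fun m u hu => ?_) (hU0 ▸ le_sup_left)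
    have hm : m ∈ A ⊔ A' ⊔ Q := by rw [hgen]; exact Subgroup.mem_top m
    rw [← Subgroup.closure_eq (A ⊔ A' ⊔ Q)] at hm
    have key : ∀ n ∈ A ⊔ A' ⊔ Q, ∀ u ∈ U0 ⊔ U', ρ n u ∈ U0 ⊔ U' := by
      intro n hn
      rw [show A ⊔ A' ⊔ Q = Subgroup.closure ((A : Set Γ) ∪ A' ∪ Q) by
        rw [Subgroup.closure_union, Subgroup.closure_union, Subgroup.closure_eq, Subgroup.closure_eq,
          Subgroup.closure_eq]] at hn
      induction hn using Subgroup.closure_induction_left with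
      | one => intro u hu; simpa using hu
      | mul_left y hy z _ ih =>
        intro u hu
        rw [map_mul, Module.End.mul_apply]
        have h1 := ih u hu
        rcases hy with (hy | hy) | hy
        · have h2 : ρ y (ρ z u) - ρ z u ∈ U0 := hU0 ▸ fun b hb => hA y hy b hb _
          simpa using add_mem (Submodule.mem_sup_left h2 : _ ∈ U0 ⊔ U') h1
        · have h2 : ρ y (ρ z u) - ρ z u ∈ U' := hU' ▸ fun b hb => hqA' y hy b hb _
          simpa using add_mem (Submodule.mem_sup_right h2 : _ ∈ U0 ⊔ U') h1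
        · rw [hQ y hy]; exact h1
      | inv_mul_cancel y hy z _ ih =>
        intro u hu
        rw [map_mul, Module.End.mul_apply]
        have h1 := ih u hu
        rcases hy with (hy | hy) | hy
        · have h2 : ρ y⁻¹ (ρ z u) - ρ z u ∈ U0 := hU0 ▸ fun b hb => hA _ (inv_mem hy) b hb _
          simpa using add_mem (Submodule.mem_sup_left h2 : _ ∈ U0 ⊔ U') h1
        · have h2 : ρ y⁻¹ (ρ z u) - ρ z u ∈ U' := hU' ▸ fun b hb => hqA' _ (inv_mem hy) b hb _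
          simpa using add_mem (Submodule.mem_sup_right h2 : _ ∈ U0 ⊔ U') h1
        · rw [hQ _ (inv_mem hy)]; exact h1
    rw [Subgroup.closure_eq] at hm
    exact key m hm u hu
  have hmeet : ∀ u ∈ U0, u ∈ U' → u = 0 := by
    intro u hu hu2
    refine hfix0 u fun m => ?_
    have hle : A ⊔ A' ⊔ Q ≤ vStab ρ u := sup_le (sup_le (fun a ha => (hU0 ▸ hu : u ∈ vFix ρ A) a ha)
      fun a ha => (hU' ▸ hu2 : u ∈ vFix ρ A') a ha) fun q hq => by
        show ρ q u = u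
        rw [hQ q hq]; rfl
    exact hle (hgen.symm ▸ Subgroup.mem_top m)
  have hstab : ∀ u ∈ U0, u ≠ 0 → vStab ρ u ≤ N0 := fun u hu h0 =>
    hover _ (fun a ha => (hU0 ▸ hu : u ∈ vFix ρ A) a ha)
      (fun q hq => by show ρ q u = u; rw [hQ q hq]; rfl)
      fun e => h0 (hfix0 u fun m => (e.symm ▸ Subgroup.mem_top m : m ∈ vStab ρ u))
  have key : ∀ u ∈ U0, u ≠ 0 → ∀ m, ρ m u ∈ U0 → m ∈ N0 := by
    intro u hu h0 m hm
    rw [← inv_inv m]
    refine N0.inv_mem (hconj _ fun a ha => hstab u hu h0 ?_)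
    show ρ _ u = u
    rw [inv_inv, map_mul, Module.End.mul_apply, map_mul, Module.End.mul_apply,
      (hU0 ▸ hm : ρ m u ∈ vFix ρ A) a ha, rho_inv_apply]
  -- an element of `A` with fixed space `U0`
  obtain ⟨x, hxA, hx⟩ : ∃ x ∈ A, ∀ u, ρ x u = u → u ∈ U0 := by
    by_contra hc
    push Not at hc
    suffices h : ∀ a ∈ A, g⁻¹ * a * g⁻¹⁻¹ ∈ N0 from hg (by simpa using N0.inv_mem (hconj g⁻¹ h))
    intro a ha
    obtain ⟨u, hau, hu⟩ := hc a ha
    obtain ⟨u0, hu0, u1, hu1, rfl⟩ := Submodule.mem_sup.mp (hsum.ge Submodule.mem_top : u ∈ U0 ⊔ U')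
    have ha1 : ρ a u1 = u1 := by
      rw [map_add, (hU0 ▸ hu0 : u0 ∈ vFix ρ A) a ha] at hau
      exact add_left_cancel hau
    obtain ⟨w, rfl⟩ : ∃ w, ρ g w = u1 := ⟨_, rho_apply_inv ρ g u1⟩
    have hw0 : w ≠ 0 := fun e => hu (by rw [e, map_zero, add_zero]; exact hu0)
    have hw : w ∈ U0 := hU0 ▸ fun b hb => by
      have h := (hU' ▸ hu1 : ρ g w ∈ vFix ρ A') _ (hA'mem b hb)
      rw [hconjfix] at h
      simpa [rho_inv_apply] using congrArg (ρ g⁻¹) h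
    refine hstab w hw hw0 ?_
    show ρ _ w = w
    rw [inv_inv, map_mul, Module.End.mul_apply, map_mul, Module.End.mul_apply, ha1, rho_inv_apply]
  obtain ⟨x', hx'⟩ : ∃ y, y = g * x * g⁻¹ := ⟨_, rfl⟩
  have hx'fix : ∀ u, ρ x' u = u → u ∈ U' := by
    intro u hu
    obtain ⟨w, rfl⟩ : ∃ w, ρ g w = u := ⟨_, rho_apply_inv ρ g u⟩
    rw [hx', hconjfix] at hu
    have hw : w ∈ U0 := hx w (by simpa [rho_inv_apply] using congrArg (ρ g⁻¹) hu)
    rw [hU'] 
    rintro _ ⟨b, hb, rfl⟩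
    simp only [MulEquiv.coe_toMonoidHom, MulAut.conj_apply]
    rw [hconjfix, (hU0 ▸ hw : w ∈ vFix ρ A) b hb]
  have hqx : ∀ u, ρ x (ρ x u - u) = ρ x u - u := fun u => hA x hxA x hxA u
  have hqx' : ∀ u, ρ x' (ρ x' u - u) = ρ x' u - u := fun u =>
    hqA' x' (hx' ▸ hA'mem x hxA) x' (hx' ▸ hA'mem x hxA) u
  have htU0 : t ∈ U0 := hU0 ▸ ht
  -- the submodule generated by `t` under `L = ⟨x, x'⟩`
  obtain ⟨L, hL⟩ : ∃ L, L = Subgroup.closure ({x, x'} : Set Γ) := ⟨_, rfl⟩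
  have hxL : x ∈ L := hL ▸ Subgroup.subset_closure (by simp)
  have hx'L : x' ∈ L := hL ▸ Subgroup.subset_closure (by simp)
  haveI : Finite (Submodule (ZMod p) U) := Finite.of_injective _ SetLike.coe_injective
  obtain ⟨Ut, ⟨htUt, hUtinv⟩, hUtmin⟩ :=
    (Set.toFinite {X : Submodule (ZMod p) U | t ∈ X ∧ ∀ l ∈ L, ∀ u ∈ X, ρ l u ∈ X}).exists_minimal
      ⟨⊤, Submodule.mem_top, fun _ _ _ _ => Submodule.mem_top⟩
  obtain ⟨Um, ⟨hUmle, hUminv, htUm⟩, hUmmax⟩ :=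
    (Set.toFinite {X : Submodule (ZMod p) U | X ≤ Ut ∧ (∀ l ∈ L, ∀ u ∈ X, ρ l u ∈ X) ∧ t ∉ X}).exists_maximal
      ⟨⊥, bot_le, fun l _ u hu => by rw [Submodule.mem_bot] at hu ⊢; rw [hu, map_zero],
        fun h => ht0 (by simpa using h)⟩
  have hbetween : ∀ X : Submodule (ZMod p) U, Um ≤ X → X ≤ Ut → (∀ l ∈ L, ∀ u ∈ X, ρ l u ∈ X) →
      X = Um ∨ X = Ut := by
    intro X h1 h2 h3
    by_cases htX : t ∈ X
    · exact Or.inr (le_antisymm h2 (hUtmin ⟨htX, h3⟩ h2))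
    · exact Or.inl (le_antisymm (hUmmax ⟨h2, h3, htX⟩ h1) h1)
  -- nontriviality
  have hnt : ρ x' t - t ∉ Um := by
    intro hmem
    obtain ⟨γ, hγ⟩ : ∃ γ : Module.End (ZMod p) U, γ = (ρ x - 1) * (ρ x' - 1) := ⟨_, rfl⟩
    have hγapp : ∀ u, γ u = ρ x (ρ x' u - u) - (ρ x' u - u) := fun u => by simp [hγ]
    have hsubX : ∀ u ∈ Um, γ u ∈ Um := fun u hu => by
      rw [hγapp]
      have h := sub_mem (hUminv x' hx'L u hu) hu
      exact sub_mem (hUminv x hxL _ h) h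
    have hγU0 : ∀ u, γ u ∈ U0 := fun u => by
      rw [hγapp]; exact hx _ (hqx _)
    obtain ⟨X, hX⟩ : ∃ X, X = Um ⊓ U0 := ⟨_, rfl⟩
    have hγX : ∀ u ∈ X, γ u ∈ X := fun u hu => by
      rw [hX] at hu ⊢; exact ⟨hsubX u hu.1, hγU0 u⟩
    have hinj : ∀ u ∈ U0, γ u = 0 → u = 0 := by
      intro u hu h
      rw [hγapp, sub_eq_zero] at h
      have h1 : ρ x' u - u = 0 := hmeet _ (hx _ h) (hx'fix _ (hqx' u))
      exact hmeet u hu (hx'fix u (sub_eq_zero.mp h1))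
    have hγt : γ t ∈ X := hX ▸ ⟨by rw [hγapp]; exact sub_mem (hUminv x hxL _ hmem) hmem, hγU0 t⟩
    have hbij : Function.Surjective (γ.restrict hγX) := by
      refine Finite.injective_iff_surjective.mp ((injective_iff_map_eq_zero _).mpr fun u hu => Subtype.ext ?_)
      exact hinj u ((hX ▸ u.2 : (u : U) ∈ Um ⊓ U0)).2 (congrArg Subtype.val hu)
    obtain ⟨u0, hu0⟩ := hbij ⟨_, hγt⟩
    have he : t - (u0 : U) = 0 := hinj _ (sub_mem htU0 ((hX ▸ u0.2 : (u0 : U) ∈ Um ⊓ U0)).2) (by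
      rw [map_sub, show γ u0 = γ t from congrArg Subtype.val hu0, sub_self])
    rw [sub_eq_zero] at he
    exact htUm (he ▸ ((hX ▸ u0.2 : (u0 : U) ∈ Um ⊓ U0)).1)
  -- the irreducible quotient
  obtain ⟨U'', hU''⟩ : ∃ X, X = Um.comap Ut.subtype := ⟨_, rfl⟩
  have hres : ∀ l : L, U'' ≤ U''.comap ((ρ (l : Γ)).restrict (hUtinv l l.2)) := fun l w hw => by
    rw [hU''] at hw ⊢
    exact hUminv l l.2 _ hw
  let σ : L →* Module.End (ZMod p) (Ut ⧸ U'') :=
    { toFun := fun l => U''.mapQ U'' ((ρ (l : Γ)).restrict (hUtinv l l.2)) (hres l)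
      map_one' := Submodule.linearMap_qext _ (LinearMap.ext fun w => by simp [LinearMap.restrict_apply])
      map_mul' := fun l l' => Submodule.linearMap_qext _ (LinearMap.ext fun w => by
        simp [LinearMap.restrict_apply]) }
  have hσ : ∀ (l : L) (w : Ut), σ l (Submodule.Quotient.mk w) =
      Submodule.Quotient.mk ⟨ρ (l : Γ) w, hUtinv l l.2 w w.2⟩ := fun l w => rfl
  have hσirr : ∀ X : Submodule (ZMod p) (Ut ⧸ U''), (∀ l, ∀ q ∈ X, σ l q ∈ X) → X = ⊥ ∨ X = ⊤ := by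
    intro X hX
    obtain ⟨X', hX'⟩ : ∃ Y, Y = (X.comap U''.mkQ).map Ut.subtype := ⟨_, rfl⟩
    have h1 : Um ≤ X' := fun u hu => hX' ▸ ⟨⟨u, hUmle hu⟩, by
      show U''.mkQ _ ∈ X
      rw [Submodule.mkQ_apply, (Submodule.Quotient.mk_eq_zero U'').mpr (by rw [hU'']; exact hu)]
      exact X.zero_mem, rfl⟩
    have h2 : X' ≤ Ut := hX' ▸ Submodule.map_subtype_le _ _
    have h3 : ∀ l ∈ L, ∀ u ∈ X', ρ l u ∈ X' := by
      rw [hX']
      rintro l hl _ ⟨w, hw, rfl⟩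
      exact ⟨⟨ρ l w, hUtinv l hl w w.2⟩, hX ⟨l, hl⟩ _ hw, rfl⟩
    rcases hbetween X' h1 h2 h3 with h | h
    · refine Or.inl ((Submodule.eq_bot_iff _).mpr fun q hq => ?_)
      obtain ⟨w, rfl⟩ := Submodule.Quotient.mk_surjective _ q
      refine (Submodule.Quotient.mk_eq_zero U'').mpr ?_
      rw [hU'']
      show (w : U) ∈ Um
      rw [← h, hX']
      exact ⟨w, hq, rfl⟩
    · refine Or.inr (Submodule.eq_top_iff'.mpr fun q => ?_)
      obtain ⟨w, rfl⟩ := Submodule.Quotient.mk_surjective _ q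
      obtain ⟨w', hw', e⟩ := (hX' ▸ h.ge w.2 : (w : U) ∈ (X.comap U''.mkQ).map Ut.subtype)
      rw [← Subtype.ext e]
      exact hw'
  have hσq : ∀ (l : L), (∀ u, ρ (l : Γ) (ρ (l : Γ) u - u) = ρ (l : Γ) u - u) →
      ∀ w, σ l (σ l w - w) = σ l w - w := by
    intro l hl w
    obtain ⟨w, rfl⟩ := Submodule.Quotient.mk_surjective _ w
    rw [hσ, ← Submodule.Quotient.mk_sub, hσ]
    exact congrArg Submodule.Quotient.mk (Subtype.ext (hl _))
  have hσnt : ∃ l w, σ l w ≠ w := ⟨⟨x', hx'L⟩, Submodule.Quotient.mk ⟨t, htUt⟩, fun e => by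
    rw [hσ, Submodule.Quotient.eq, hU''] at e
    exact hnt e⟩
  have hgenL : Subgroup.closure ({⟨x, hxL⟩, ⟨x', hx'L⟩} : Set L) = ⊤ := by
    refine Subgroup.map_injective L.subtype_injective ?_
    rw [MonoidHom.map_closure, Set.image_pair, ← MonoidHom.range_eq_map, Subgroup.range_subtype]
    exact hL.symm
  haveI : Finite (Ut ⧸ U'') := Finite.of_surjective _ (Submodule.Quotient.mk_surjective U'')
  obtain ⟨K, _, _, _, φ, e, c, hc, hφx, he, P, hP, hle⟩ :=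
    exists_natural hodd σ hgenL (hσq _ hqx) (hσq _ hqx') hσirr hσnt
  obtain ⟨κ, hκ⟩ : ∃ k, k = ZMod.castHom (dvd_refl p) K := ⟨_, rfl⟩
  -- the torus element
  obtain ⟨_, ⟨l, rfl⟩, hl10, hl00⟩ := exists_torus hodd hc (MonoidHom.mem_range.mpr ⟨_, hφx⟩) hP hle a0
  obtain ⟨Ux, hUx⟩ : ∃ X, X = (uniSub.comap φ).map L.subtype := ⟨_, rfl⟩
  have hxUx : x ∈ Ux := hUx ▸ ⟨⟨x, hxL⟩, by
    show φ ⟨x, hxL⟩ ∈ uniSub
    rw [hφx]
    exact ⟨show (up c).1 1 0 = 0 by simp [up], by simp [up]⟩, rfl⟩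
  obtain ⟨Xp, hXpS, hxXp⟩ := HomDPi.exists_isSylowIn_ge (q := p) (K := Ux)
    (Subgroup.zpowers_le.mpr hxUx) (hAp.to_le (Subgroup.zpowers_le.mpr hxA))
  have hlnorm : ∀ w ∈ Ux, (l : Γ) * w * (l : Γ)⁻¹ ∈ Ux := by
    rw [hUx]
    rintro _ ⟨w, hw, rfl⟩
    refine ⟨l * w * l⁻¹, ?_, rfl⟩
    show φ (l * w * l⁻¹) ∈ uniSub
    rw [map_mul, map_mul, map_inv]
    exact triSub_normalizes hl10 hw
  obtain ⟨k, hk, hkX⟩ := HomDPi.exists_conj_into (q := p) (K := Ux) (S := Xp)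
    (W := Xp.map (MulAut.conj (l : Γ)).toMonoidHom)
    (by rintro _ ⟨w, hw, rfl⟩; exact hlnorm w (hXpS.1 hw)) (hXpS.2.1.map _) hXpS
  obtain ⟨k', hk', rfl⟩ : ∃ k' : L, φ k' ∈ uniSub ∧ (k' : Γ) = k := by
    rw [hUx] at hk
    obtain ⟨w, hw, rfl⟩ := hk
    exact ⟨w, hw, rfl⟩
  obtain ⟨s0, hs0⟩ : ∃ z : L, z = k' * l := ⟨_, rfl⟩
  have hs0n : ∀ w ∈ Xp, (s0 : Γ) * w * (s0 : Γ)⁻¹ ∈ Xp := fun w hw => by
    have h := hkX _ ⟨w, hw, rfl⟩
    simpa [hs0, mul_assoc] using h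
  -- it lies in `N0`
  have hs0N : (s0 : Γ) ∈ N0 := by
    obtain ⟨u, hu0, hu⟩ := exists_fixed ρ hXpS.2.1 ht0
    have huU : u ∈ U0 := hx u (hu x (hxXp (Subgroup.mem_zpowers x)))
    refine key u huU hu0 _ (hx _ ?_)
    obtain ⟨w, hw, hwx⟩ : ∃ w ∈ Xp, (s0 : Γ) * w * (s0 : Γ)⁻¹ = x := by
      have hinj : Function.Injective (fun w : Xp => (⟨_, hs0n w w.2⟩ : Xp)) := fun a b h =>
        Subtype.ext (mul_left_cancel (mul_right_cancel (congrArg Subtype.val h)))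
      obtain ⟨w, hw⟩ := Finite.injective_iff_surjective.mp hinj ⟨x, hxXp (Subgroup.mem_zpowers x)⟩
      exact ⟨w, w.2, congrArg Subtype.val hw⟩
    rw [← hwx, map_mul, Module.End.mul_apply, rho_inv_apply, map_mul, Module.End.mul_apply, hu w hw]
  have htri : φ s0 ∈ triSub := by
    rw [hs0, map_mul]; exact mul_mem hk'.1 hl10
  have h00 : (φ s0).1 0 0 = κ a0 := by
    rw [hs0, map_mul, triSub_mul_zero hk'.1 hl10, hk'.2, one_mul, hl00, hκ]
  obtain ⟨sL, hsL⟩ : ∃ z : L, z = s0 ^ p := ⟨_, rfl⟩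
  obtain ⟨S, hS⟩ : ∃ z, z = φ sL := ⟨_, rfl⟩
  have hStri : S ∈ triSub := by rw [hS, hsL, map_pow]; exact pow_mem htri p
  have hS00 : S.1 0 0 = κ a0 := by
    rw [hS, hsL, map_pow, triSub_pow_zero htri, h00, ← map_pow, ZMod.pow_card]
  have ha0o : (a0 : ZMod p) ^ (p - 1) = 1 := ZMod.pow_card_sub_one_eq_one a0.ne_zero
  have hSord : S ^ (p - 1) = 1 := by
    have hu : φ s0 ^ (p - 1) ∈ uniSub := ⟨pow_mem htri _, by
      rw [triSub_pow_zero htri, h00, ← map_pow, ha0o, map_one]⟩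
    rw [hS, hsL, map_pow, ← pow_mul, mul_comm, pow_mul]
    exact SL2.unipotent_pow p (by
      rw [SL2.tr]
      have h := triSub_det hu.1
      rw [hu.2, one_mul] at h
      rw [hu.2, h]
      norm_num)
  have hκinv : κ a0 * κ ((a0⁻¹ : (ZMod p)ˣ) : ZMod p) = 1 := by
    rw [← map_mul, ← Units.val_mul, mul_inv_cancel, Units.val_one, map_one]
  have hS11 : S.1 1 1 = κ ((a0⁻¹ : (ZMod p)ˣ) : ZMod p) := by
    have h := triSub_det hStri
    rw [hS00] at h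
    exact mul_left_cancel₀ (left_ne_zero_of_mul_eq_one hκinv) (h.trans hκinv.symm)
  obtain ⟨lam, hlam⟩ : ∃ lam : K,
      κ a0 * lam + S.1 0 1 = κ ((a0⁻¹ : (ZMod p)ˣ) : ZMod p) * lam := by
    by_cases h : κ a0 = κ ((a0⁻¹ : (ZMod p)ˣ) : ZMod p)
    · refine ⟨0, ?_⟩
      have hsq : a0 ^ 2 = 1 := by
        have h' := Units.ext ((RingHom.injective κ) h)
        rw [sq]
        conv_lhs => arg 2; rw [h']
        exact mul_inv_cancel a0
      have hp3 : p - 1 ∣ 2 := by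
        have hcard : orderOf a0 = p - 1 := by
          rw [orderOf_eq_card_of_forall_mem_zpowers ha0, Nat.card_eq_fintype_card, ZMod.card_units]
        exact hcard ▸ orderOf_dvd_of_pow_eq_one hsq
      have h2p : 2 < p := lt_of_le_of_ne hp.out.two_le (Ne.symm hodd)
      have hp2 : p - 1 = 2 := by
        have := Nat.le_of_dvd two_pos hp3
        omega
      rw [hp2, sq] at hSord
      have h2 : (S * S : Matrix.SpecialLinearGroup (Fin 2) K).1 0 1 = 0 := by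
        rw [hSord, Matrix.SpecialLinearGroup.coe_one, Matrix.one_apply_ne (by decide)]
      rw [Matrix.SpecialLinearGroup.coe_mul, Matrix.mul_apply, Fin.sum_univ_two, hS00, hS11, ← h] at h2
      have h20 : (2 : K) ≠ 0 := SL2.two_ne_zero' (F := K) p hodd
      have hne : κ a0 ≠ 0 := left_ne_zero_of_mul_eq_one hκinv
      have : S.1 0 1 * (2 * κ a0) = 0 := by linear_combination h2
      rw [(mul_eq_zero.mp this).resolve_right (mul_ne_zero h20 hne), mul_zero, add_zero, mul_zero]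
    · exact ⟨S.1 0 1 / (κ ((a0⁻¹ : (ZMod p)ˣ) : ZMod p) - κ a0), by
        field_simp [sub_ne_zero.mpr (Ne.symm h)]
        ring⟩
  refine ⟨(sL : Γ), by rw [hsL, SubmonoidClass.coe_pow]; exact N0.pow_mem hs0N p, x, hxA, ?_, ?_⟩
  · obtain ⟨ι, hι⟩ : ∃ f : Ut →+ (Fin 2 → K), ∀ w, f w = e (Submodule.Quotient.mk w) :=
      ⟨e.toAddMonoidHom.comp U''.mkQ.toAddMonoidHom, fun _ => rfl⟩
    have hιl : ∀ (m : L) (w : Ut), ι ⟨ρ (m : Γ) w, hUtinv m m.2 w w.2⟩ =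
        (φ m : Matrix (Fin 2) (Fin 2) K) *ᵥ ι w := fun m w => by
      rw [hι, hι, ← hσ, he]
    let cv : (Fin 2 → ZMod p) →+ (Fin 2 → K) :=
      { toFun := fun v => ![κ (v 0) * c + κ (v 1) * lam, κ (v 1)]
        map_zero' := by ext i; fin_cases i <;> simp
        map_add' := fun v w => by ext i; fin_cases i <;> simp <;> ring }
    have hcv : ∀ v, cv v = ![κ (v 0) * c + κ (v 1) * lam, κ (v 1)] := fun v => rfl
    have hcvinj : Function.Injective cv := (injective_iff_map_eq_zero _).mpr fun v hv => by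
      rw [hcv] at hv
      have h1 : v 1 = 0 := (RingHom.injective κ) (by simpa using congrFun hv 1)
      have h0 : κ (v 0) * c = 0 := by simpa [h1] using congrFun hv 0
      have h0' : v 0 = 0 := (RingHom.injective κ) (by simpa [hc] using h0)
      funext i; fin_cases i <;> simp [h0', h1]
    have hsmulι : ∀ (r : ZMod p) (w : Ut), ι (r • w) = κ r • ι w := fun r w => by
      rw [hκ]; exact cast_smul_comm ι r w
    let D1 : Submodule (ZMod p) U :=
      { carrier := {u | ∃ h : u ∈ Ut, ∃ v, ι ⟨u, h⟩ = cv v}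
        zero_mem' := ⟨zero_mem _, 0, by
          rw [map_zero cv]
          exact map_zero ι⟩
        add_mem' := by
          rintro u w ⟨hu, v, hv⟩ ⟨hw, v', hv'⟩
          exact ⟨add_mem hu hw, v + v', by
            rw [map_add cv, ← hv, ← hv', ← map_add ι]; rfl⟩
        smul_mem' := by
          rintro r u ⟨hu, v, hv⟩
          refine ⟨Ut.smul_mem r hu, r • v, ?_⟩
          rw [show (⟨r • u, Ut.smul_mem r hu⟩ : Ut) = r • ⟨u, hu⟩ from rfl, hsmulι, hv, hcv, hcv]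
          ext i; fin_cases i <;> simp <;> ring }
    have hD1 : ∀ {u}, u ∈ D1 ↔ ∃ h : u ∈ Ut, ∃ v, ι ⟨u, h⟩ = cv v := Iff.rfl
    choose hmemUt vv hvv using fun u : D1 => hD1.mp u.2
    have hxact : ∀ v, (φ ⟨x, hxL⟩ : Matrix (Fin 2) (Fin 2) K) *ᵥ cv v =
        cv ((planeUp p 1 : Matrix (Fin 2) (Fin 2) (ZMod p)) *ᵥ v) := fun v => by
      rw [hφx, hcv, hcv]
      ext i
      fin_cases i <;> simp [up, planeUp, Matrix.mulVec, dotProduct, Fin.sum_univ_two] <;> ring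
    have hsact : ∀ v, (φ sL : Matrix (Fin 2) (Fin 2) K) *ᵥ cv v =
        cv ((planeDiag p a0 : Matrix (Fin 2) (Fin 2) (ZMod p)) *ᵥ v) := fun v => by
      rw [← hS, hcv, hcv]
      ext i
      fin_cases i <;>
        simp [planeDiag, Matrix.mulVec, dotProduct, Fin.sum_univ_two, hS00, hS11, mem_triSub.mp hStri,
          -Units.val_inv_eq_inv_val, -map_inv₀, -map_units_inv]
      linear_combination κ (v 1) * hlam
    refine ⟨D1, AddMonoidHom.mk' vv fun u w => hcvinj ?_, fun v => ?_, ?_, ?_, fun u => ⟨hcvinj ?_, hcvinj ?_⟩⟩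
    · rw [map_add, ← hvv, ← hvv, ← hvv, ← map_add ι]; rfl
    · obtain ⟨q, hq⟩ := e.surjective (cv v)
      obtain ⟨w, rfl⟩ := Submodule.Quotient.mk_surjective _ q
      rw [← hι] at hq
      refine ⟨⟨w, w.2, v, hq⟩, hcvinj ?_⟩
      rw [← hq]
      exact (hvv _).symm
    · rintro u ⟨hu, v, hv⟩
      exact ⟨hUtinv x hxL u hu, _, by rw [← hxact, ← hv]; exact hιl ⟨x, hxL⟩ ⟨u, hu⟩⟩
    · rintro u ⟨hu, v, hv⟩
      exact ⟨hUtinv _ sL.2 u hu, _, by rw [← hsact, ← hv]; exact hιl sL ⟨u, hu⟩⟩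
    · show cv (vv _) = _
      rw [← hvv, ← hxact, AddMonoidHom.mk'_apply, ← hvv]
      exact hιl ⟨x, hxL⟩ ⟨u, hmemUt u⟩
    · show cv (vv _) = _
      rw [← hvv, ← hsact, AddMonoidHom.mk'_apply, ← hvv]
      exact hιl sL ⟨u, hmemUt u⟩
  · intro B htB hBs
    by_contra hcon
    push Not at hcon
    obtain ⟨T0, hT0⟩ : ∃ T : Module.End (ZMod p) U, T = ρ (sL : Γ) - (a0 : ZMod p) • 1 := ⟨_, rfl⟩
    have hT0app : ∀ u, T0 u = ρ (sL : Γ) u - (a0 : ZMod p) • u := fun u => by simp [hT0]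
    have hTB : ∀ u ∈ B, T0 u ∈ B := fun u hu => by
      rw [hT0app]; exact sub_mem (hBs u hu) (B.smul_mem _ hu)
    have hTinj : Function.Injective (T0.restrict hTB) := by
      refine Finite.injective_iff_surjective.mpr fun b => ?_
      obtain ⟨u, hu, he'⟩ := hcon b b.2
      exact ⟨⟨u, hu⟩, Subtype.ext ((hT0app u).trans he')⟩
    obtain ⟨Bd, hBd⟩ : ∃ X, X = B ⊓ Ut := ⟨_, rfl⟩
    have hTBd : ∀ u ∈ Bd, T0 u ∈ Bd := fun u hu => by
      rw [hBd] at hu ⊢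
      refine ⟨hTB u hu.1, ?_⟩
      rw [hT0app]
      exact sub_mem (hUtinv _ sL.2 u hu.2) (Ut.smul_mem _ hu.2)
    have hBdle : Bd ≤ Ut := hBd ▸ inf_le_right
    have hTsurj : Function.Surjective (T0.restrict hTBd) := by
      refine Finite.injective_iff_surjective.mp fun a b h => Subtype.ext ?_
      have ha : (a : U) ∈ B := (hBd.le a.2).1
      have hb : (b : U) ∈ B := (hBd.le b.2).1
      have := hTinj (a₁ := ⟨(a : U), ha⟩) (a₂ := ⟨(b : U), hb⟩)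
        (Subtype.ext (congrArg (fun z : Bd => (z : U)) h :))
      exact congrArg (fun z : B => (z : U)) this
    obtain ⟨ι', hι'⟩ : ∃ f : Bd →+ (Fin 2 → K), ∀ w : Bd, f w = e (Submodule.Quotient.mk ⟨w, hBdle w.2⟩) :=
      ⟨(e.toAddMonoidHom.comp U''.mkQ.toAddMonoidHom).comp
        (Submodule.inclusion hBdle).toAddMonoidHom, fun _ => rfl⟩
    let TK : (Fin 2 → K) →+ (Fin 2 → K) := AddMonoidHom.mk'
      (fun v => (φ sL : Matrix (Fin 2) (Fin 2) K) *ᵥ v - κ a0 • v) fun v w => by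
        rw [Matrix.mulVec_add, smul_add]; abel
    have hcomm : ∀ w : Bd, TK (ι' w) = ι' (T0.restrict hTBd w) := fun w => by
      show (φ sL : Matrix (Fin 2) (Fin 2) K) *ᵥ ι' w - κ a0 • ι' w = _
      rw [hι', hι', ← he, hσ, hκ]
      rw [show ZMod.castHom (dvd_refl p) K a0 • e (Submodule.Quotient.mk ⟨(w : U), hBdle w.2⟩) =
        e ((a0 : ZMod p) • Submodule.Quotient.mk ⟨(w : U), hBdle w.2⟩) from
          (cast_smul_comm e.toAddMonoidHom _ _).symm]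
      rw [← map_sub, ← Submodule.Quotient.mk_smul, ← Submodule.Quotient.mk_sub]
      exact congrArg (fun z => e (Submodule.Quotient.mk z)) (Subtype.ext (hT0app w).symm)
    have hmaps : ∀ v ∈ ι'.range, TK v ∈ ι'.range := by
      rintro _ ⟨w, rfl⟩; exact ⟨_, (hcomm w).symm⟩
    have hsur : Function.Surjective (fun v : ι'.range => (⟨TK v, hmaps v v.2⟩ : ι'.range)) := by
      rintro ⟨_, w, rfl⟩
      obtain ⟨z, rfl⟩ := hTsurj w
      exact ⟨⟨ι' z, z, rfl⟩, Subtype.ext (hcomm z)⟩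
    obtain ⟨tb, htb⟩ : ∃ z : Bd, (z : U) = t := ⟨⟨t, hBd.ge ⟨htB, htUt⟩⟩, rfl⟩
    have htv : ι' tb = e (Submodule.Quotient.mk ⟨t, htUt⟩) := by
      rw [hι']; exact congrArg (fun z => e (Submodule.Quotient.mk z)) (Subtype.ext htb)
    obtain ⟨v, hv⟩ : ∃ v, v = ι' tb := ⟨_, rfl⟩
    have hv0 : v ≠ 0 := by
      rw [hv, htv, Ne, AddEquiv.map_eq_zero_iff, Submodule.Quotient.mk_eq_zero, hU'']
      exact htUm
    have hv1 : v 1 = 0 := by
      have h := he ⟨x, hxL⟩ (Submodule.Quotient.mk ⟨t, htUt⟩)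
      rw [hσ, show (⟨ρ x t, hUtinv x hxL t htUt⟩ : Ut) = ⟨t, htUt⟩ from Subtype.ext (ht x hxA), hφx,
        ← htv, ← hv] at h
      have h0 := congrFun h 0
      simp [up, Matrix.mulVec, dotProduct, Fin.sum_univ_two, hc] at h0
      exact h0
    have hTv : TK v = 0 := by
      show (φ sL : Matrix (Fin 2) (Fin 2) K) *ᵥ v - κ a0 • v = 0
      rw [← hS]
      ext i
      fin_cases i <;>
        simp [hS00, mem_triSub.mp hStri, hv1]
    have hinj := Finite.injective_iff_surjective.mpr hsur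
    have h0 := @hinj ⟨v, hv ▸ ⟨tb, rfl⟩⟩ 0 (Subtype.ext (hTv.trans (map_zero TK).symm))
    exact hv0 (congrArg Subtype.val h0)

end Cfsg.Agent.Fus.Fail
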