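import Cfsg.Agent.Lib.Grp.Quadratic
import Cfsg.Agent.Lib.Fus.FPlane

/-!
Two quadratic elements: the natural module, and a torus element normalising the fixed line.
-/

set_option autoImplicit false
set_option linter.unusedSectionVars false
set_option linter.style.haveILetI false

universe u v

namespace Cfsg.Agent.Fus.Fail

open Matrix Cfsg.Agent.Grp Cfsg.Agent.Grp.SL2 Cfsg.Agent.Grp.Quad

variable {p : ℕ} [hp : Fact p.Prime]

/-- An irreducible module over the prime field with two quadratic generators is natural for a group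
containing `SL(2, p)`. -/
theorem exists_natural {Γ : Type v} [Group Γ] {W : Type u} [AddCommGroup W] [Module (ZMod p) W] [Finite W]
    (hodd : p ≠ 2) (ρ : Γ →* Module.End (ZMod p) W) {a b : Γ}
    (hgen : Subgroup.closure {a, b} = ⊤)
    (ha : ∀ w, ρ a (ρ a w - w) = ρ a w - w) (hb : ∀ w, ρ b (ρ b w - w) = ρ b w - w)
    (hirr : ∀ U : Submodule (ZMod p) W, (∀ g, ∀ x ∈ U, ρ g x ∈ U) → U = ⊥ ∨ U = ⊤)
    (hnt : ∃ g w, ρ g w ≠ w) :
    ∃ (K : Type u) (_ : Field K) (_ : Fintype K) (_ : CharP K p) (φ : Γ →* Matrix.SpecialLinearGroup (Fin 2) K)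
      (e : W ≃+ (Fin 2 → K)) (c : K), c ≠ 0 ∧ φ a = up c ∧
      (∀ g w, e (ρ g w) = (φ g : Matrix (Fin 2) (Fin 2) K) *ᵥ e w) ∧
      ∃ (P : Matrix (Fin 2) (Fin 2) K) (hP : IsUnit P.det),
        (primeHom K p).range.map (SL2.conjHom P hP) ≤ φ.range := by
  classical
  obtain ⟨g₀, w₀, hw₀⟩ := hnt
  have hw0 : w₀ ≠ 0 := fun e => hw₀ (by rw [e, map_zero])
  set S : Module.End (ZMod p) W := (ρ a - 1) * (ρ b - 1) + (ρ b - 1) * (ρ a - 1) with hS
  have hq : ∀ c, (∀ w, ρ c (ρ c w - w) = ρ c w - w) → (ρ c - 1) * (ρ c - 1) = 0 := fun c hc =>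
    LinearMap.ext fun w => by simp [hc w]
  have hSa : Commute (ρ a) S := by
    have h := hq a ha
    have : Commute (ρ a - 1) S := by
      show _ * _ = _ * _
      rw [hS, mul_add, add_mul, ← mul_assoc, h, zero_mul, zero_add, mul_assoc (ρ b - 1), h, mul_zero, add_zero,
        mul_assoc]
    simpa using this.add_left (Commute.one_left S)
  have hSb : Commute (ρ b) S := by
    have h := hq b hb
    have : Commute (ρ b - 1) S := by
      show _ * _ = _ * _
      rw [hS, mul_add, add_mul, ← mul_assoc (ρ b - 1) (ρ b - 1), h, zero_mul, add_zero, mul_assoc (ρ a - 1), h,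
        mul_zero, zero_add, mul_assoc]
    simpa using this.add_left (Commute.one_left S)
  have hSg : ∀ g, Commute (ρ g) S := fun g => by
    have hg : g ∈ Subgroup.closure ({a, b} : Set Γ) := hgen ▸ Subgroup.mem_top g
    induction hg using Subgroup.closure_induction with
    | mem x hx => rcases hx with rfl | rfl <;> assumption
    | one => simp
    | mul x y _ _ hx hy => rw [map_mul]; exact hx.mul_left hy
    | inv x _ hx =>
      show ρ x⁻¹ * S = S * ρ x⁻¹
      calc ρ x⁻¹ * S = ρ x⁻¹ * (S * ρ x) * ρ x⁻¹ := by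
            rw [mul_assoc, mul_assoc, ← map_mul, mul_inv_cancel, map_one, mul_one]
        _ = ρ x⁻¹ * (ρ x * S) * ρ x⁻¹ := by rw [hx.eq]
        _ = S * ρ x⁻¹ := by rw [← mul_assoc, ← map_mul, inv_mul_cancel, map_one, one_mul]
  let L : Subalgebra (ZMod p) (Module.End (ZMod p) W) := Algebra.adjoin (ZMod p) {S}
  have hLc : ∀ x ∈ L, ∀ g, Commute (ρ g) x := by
    intro x hx g
    have hle : L ≤ Subalgebra.centralizer (ZMod p) {ρ g} := Algebra.adjoin_le (by
      rintro y rfl
      exact Subalgebra.mem_centralizer_iff _ |>.mpr fun z hz => by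
        rw [Set.mem_singleton_iff.mp hz]; exact (hSg g).eq)
    exact (Subalgebra.mem_centralizer_iff _).mp (hle hx) _ rfl
  have hLcomm : ∀ x ∈ L, ∀ y ∈ L, x * y = y * x := by
    have hle : L ≤ Subalgebra.centralizer (ZMod p) {S} := Algebra.adjoin_le (by
      rintro y rfl
      exact Subalgebra.mem_centralizer_iff _ |>.mpr fun z hz => by rw [Set.mem_singleton_iff.mp hz])
    intro x hx y hy
    have hle' : L ≤ Subalgebra.centralizer (ZMod p) {x} := Algebra.adjoin_le (by
      rintro z rfl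
      exact Subalgebra.mem_centralizer_iff _ |>.mpr fun w hw => by
        rw [Set.mem_singleton_iff.mp hw]
        exact ((Subalgebra.mem_centralizer_iff _).mp (hle hx) _ rfl).symm)
    exact (Subalgebra.mem_centralizer_iff _).mp (hle' hy) x rfl
  letI : CommRing L := { (inferInstance : Ring L) with
    mul_comm := fun x y => Subtype.ext (hLcomm x x.2 y y.2) }
  haveI : Nontrivial W := ⟨w₀, 0, hw0⟩
  haveI : Finite (Module.End (ZMod p) W) := Finite.of_injective _ DFunLike.coe_injective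
  haveI : NoZeroDivisors L := ⟨fun {x y} hxy => by
    refine or_iff_not_imp_left.mpr fun hx => Subtype.ext (LinearMap.ext fun w => ?_)
    have hk : LinearMap.ker (x : Module.End (ZMod p) W) = ⊥ := by
      refine (hirr _ fun g z hz => ?_).resolve_right fun h => hx (Subtype.ext (LinearMap.ker_eq_top.mp h))
      rw [LinearMap.mem_ker] at hz ⊢
      rw [← Module.End.mul_apply, ← (hLc x x.2 g).eq, Module.End.mul_apply, hz, map_zero]
    have := congrArg (fun z : L => (z : Module.End (ZMod p) W) w) hxy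
    simp at this
    exact LinearMap.ker_eq_bot.mp hk (by simpa using this)⟩
  haveI : IsDomain L := NoZeroDivisors.to_isDomain L
  letI : Field L := (Finite.isDomain_to_isField L).toField
  letI : Fintype L := Fintype.ofFinite L
  haveI : CharP L p := charP_of_injective_ringHom (algebraMap (ZMod p) L).injective p
  have hsmul : ∀ (x : L) (w : W), x • w = (x : Module.End (ZMod p) W) w := fun x w => rfl
  let ρ' : Γ →* Module.End L W :=
    { toFun := fun g =>
        { toFun := ρ g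
          map_add' := map_add _
          map_smul' := fun x w => by
            rw [RingHom.id_apply, hsmul, hsmul, ← Module.End.mul_apply, (hLc x x.2 g).eq, Module.End.mul_apply] }
      map_one' := LinearMap.ext fun w => by simp
      map_mul' := fun g g' => LinearMap.ext fun w => by simp }
  have hρ' : ∀ g w, ρ' g w = ρ g w := fun g w => rfl
  have hirr' : ∀ U : Submodule L W, (∀ g, ∀ x ∈ U, ρ' g x ∈ U) → U = ⊥ ∨ U = ⊤ := by
    intro U hU
    let U₀ : Submodule (ZMod p) W :=
      { U.toAddSubmonoid with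
        smul_mem' := fun c x hx => by
          have : c • x = (algebraMap (ZMod p) L c) • x := by
            rw [hsmul]; simp [Module.algebraMap_end_apply]
          show c • x ∈ U
          rw [this]
          exact U.smul_mem _ hx }
    rcases hirr U₀ (fun g x hx => hU g x hx) with h | h
    · exact Or.inl (SetLike.ext fun x => (SetLike.ext_iff.mp h x).trans (by simp))
    · exact Or.inr (SetLike.ext fun x => (SetLike.ext_iff.mp h x).trans (by simp))
  obtain ⟨e, φ, hφa, hφb, hs0, hφ⟩ := rank_two ρ' hgen (fun w => ha w) (fun w => hb w) hirr'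
    ⟨g₀, w₀, hw₀⟩ ⟨S, Algebra.subset_adjoin rfl⟩ (fun w => by
      rw [hsmul]
      show _ = ((ρ a - 1) * (ρ b - 1) + (ρ b - 1) * (ρ a - 1) : Module.End (ZMod p) W) w
      simp only [LinearMap.add_apply, Module.End.mul_apply, LinearMap.sub_apply, Module.End.one_apply, hρ'])
  have hta : tr (φ a) = 2 := by rw [hφa]; simp [tr, up]; norm_num
  have htb : tr (φ b) = 2 := by rw [hφb]; simp [tr, low]; norm_num
  have hnc : ¬ Commute (φ a) (φ b) := by
    rw [hφa, hφb]
    intro h
    have h' := congrArg Subtype.val h.eq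
    simp only [Matrix.SpecialLinearGroup.coe_mul] at h'
    have := congrFun (congrFun h' 0) 0
    simp [up, low, Matrix.mul_apply, Fin.sum_univ_two] at this
    exact hs0 this
  obtain ⟨P, hP, hle⟩ := exists_std_of_pair hodd φ.range ⟨a, rfl⟩ ⟨b, rfl⟩ hta htb hnc
  exact ⟨L, inferInstance, inferInstance, inferInstance, φ, e.toAddEquiv, _, hs0, hφa,
    fun g w => by simpa [hρ'] using hφ g w, P, hP, hle⟩

section Borel

variable {K : Type*} [Field K] [Fintype K] [CharP K p]

/-- A `p`-subgroup of `SL(2, K)` containing a nontrivial upper transvection is upper unitriangular. -/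
theorem upper_of_pGroup (hodd : p ≠ 2) {R : Subgroup (Matrix.SpecialLinearGroup (Fin 2) K)} (hR : IsPGroup p R)
    {c : K} (hc : c ≠ 0) (hcR : up c ∈ R) {r : Matrix.SpecialLinearGroup (Fin 2) K} (hr : r ∈ R) :
    (r : Matrix (Fin 2) (Fin 2) K) 1 0 = 0 ∧ (r : Matrix (Fin 2) (Fin 2) K) 0 0 = 1 := by
  have h2 : ∀ x ∈ R, tr x = 2 := fun x hx => by
    obtain ⟨k, hk⟩ := hR ⟨x, hx⟩
    exact tr_eq_two_of_pPower p hodd (by simpa using congrArg Subtype.val hk)
  have h := h2 _ (R.mul_mem hcR hr)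
  have hr2 := h2 r hr
  have h10 : (r : Matrix (Fin 2) (Fin 2) K) 1 0 = 0 := by
    rw [tr, Matrix.SpecialLinearGroup.coe_mul] at h
    rw [tr] at hr2
    simp [up, Matrix.mul_apply, Fin.sum_univ_two] at h
    exact (mul_eq_zero.mp (by linear_combination h - hr2 :
      c * (r : Matrix (Fin 2) (Fin 2) K) 1 0 = 0)).resolve_left hc
  refine ⟨h10, ?_⟩
  have hd := det_eq r
  rw [h10, mul_zero, sub_zero] at hd
  simp only [tr] at hr2
  have : ((r : Matrix (Fin 2) (Fin 2) K) 0 0 - 1) * ((r : Matrix (Fin 2) (Fin 2) K) 0 0 - 1) = 0 := by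
    linear_combination (r : Matrix (Fin 2) (Fin 2) K) 0 0 * hr2 - hd
  exact sub_eq_zero.mp (mul_self_eq_zero.mp this)

theorem zpowers_isPGroup {Γ : Type*} [Group Γ] {y : Γ} (hy : y ^ p = 1) : IsPGroup p (Subgroup.zpowers y) :=
  fun z => ⟨1, Subtype.ext (by
    obtain ⟨k, hk⟩ := Subgroup.mem_zpowers_iff.1 z.2
    rw [pow_one, SubmonoidClass.coe_pow, ← hk, OneMemClass.coe_one, ← zpow_natCast, ← _root_.zpow_mul,
      mul_comm, _root_.zpow_mul, zpow_natCast, hy, _root_.one_zpow])⟩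

/-- A matrix conjugating the transvection into the upper triangular matrices is upper triangular. -/
theorem mat_upper {N : Matrix (Fin 2) (Fin 2) K} (hN : N.det ≠ 0)
    (h : (N * (!![1, 1; 0, 1] : Matrix (Fin 2) (Fin 2) K) * N⁻¹) 1 0 = 0) : N 1 0 = 0 := by
  rw [Matrix.inv_def, Matrix.adjugate_fin_two] at h
  simp [Matrix.mul_apply, Fin.sum_univ_two] at h
  exact mul_self_eq_zero.mp ((mul_eq_zero.mp (by linear_combination (-1 : K) * h :
    N 1 0 * N 1 0 * N.det⁻¹ = 0)).resolve_right (inv_ne_zero hN))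

theorem mat_diag {N : Matrix (Fin 2) (Fin 2) K} (hN : N.det ≠ 0) (h10 : N 1 0 = 0) (x y : K) :
    (N * (!![x, 0; 0, y] : Matrix (Fin 2) (Fin 2) K) * N⁻¹) 1 0 = 0 ∧ (N * (!![x, 0; 0, y] : Matrix (Fin 2) (Fin 2) K) * N⁻¹) 0 0 = x := by
  rw [Matrix.inv_def, Matrix.adjugate_fin_two]
  rw [Matrix.det_fin_two, h10, mul_zero, sub_zero] at hN
  constructor
  · simp [Matrix.mul_apply, Fin.sum_univ_two, h10]
  · simp [Matrix.mul_apply, Fin.sum_univ_two, h10, Matrix.det_fin_two]
    field_simp [left_ne_zero_of_mul hN, right_ne_zero_of_mul hN]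

/-- Conjugates of the standard elements, as matrices. -/
theorem coe_conj_std (h : Matrix.SpecialLinearGroup (Fin 2) K) (P : Matrix (Fin 2) (Fin 2) K)
    (hP : IsUnit P.det) (y : Matrix.SpecialLinearGroup (Fin 2) (ZMod p)) :
    ((h * SL2.conjHom P hP (primeHom K p y) * h⁻¹ : Matrix.SpecialLinearGroup (Fin 2) K) :
      Matrix (Fin 2) (Fin 2) K) =
      ((h : Matrix (Fin 2) (Fin 2) K) * P) *
        (y : Matrix (Fin 2) (Fin 2) (ZMod p)).map (ZMod.castHom (dvd_refl p) K) *
        ((h : Matrix (Fin 2) (Fin 2) K) * P)⁻¹ := by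
  have hi : ((h⁻¹ : Matrix.SpecialLinearGroup (Fin 2) K) : Matrix (Fin 2) (Fin 2) K) =
      (h : Matrix (Fin 2) (Fin 2) K)⁻¹ :=
    (Matrix.inv_eq_left_inv (by
      rw [← Matrix.SpecialLinearGroup.coe_mul, inv_mul_cancel, Matrix.SpecialLinearGroup.coe_one])).symm
  rw [Matrix.SpecialLinearGroup.coe_mul, Matrix.SpecialLinearGroup.coe_mul, SL2.conjHom_coe,
    Matrix.mul_inv_rev, hi]
  simp only [mul_assoc]
  rfl

theorem map_planeUp : ((planeUp p 1 : Matrix.SpecialLinearGroup (Fin 2) (ZMod p)) :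
    Matrix (Fin 2) (Fin 2) (ZMod p)).map (ZMod.castHom (dvd_refl p) K) = !![1, 1; 0, 1] := by
  ext i j
  fin_cases i <;> fin_cases j <;> simp [planeUp]

theorem map_planeDiag (a : (ZMod p)ˣ) :
    ((planeDiag p a : Matrix.SpecialLinearGroup (Fin 2) (ZMod p)) :
      Matrix (Fin 2) (Fin 2) (ZMod p)).map (ZMod.castHom (dvd_refl p) K) =
      !![ZMod.castHom (dvd_refl p) K a, 0; 0, ZMod.castHom (dvd_refl p) K ((a⁻¹ : (ZMod p)ˣ) : ZMod p)] := by
  ext i j
  fin_cases i <;> fin_cases j <;>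
    simp [planeDiag, -Units.val_inv_eq_inv_val, -map_inv₀]

/-- A subgroup containing an upper transvection and a conjugate of `SL(2, p)` has an upper triangular
element with a given entry from the prime field. -/
theorem exists_torus (hodd : p ≠ 2) {H : Subgroup (Matrix.SpecialLinearGroup (Fin 2) K)} {c : K} (hc : c ≠ 0)
    (hcH : up c ∈ H) {P : Matrix (Fin 2) (Fin 2) K} (hP : IsUnit P.det)
    (hle : (primeHom K p).range.map (SL2.conjHom P hP) ≤ H) (a : (ZMod p)ˣ) :
    ∃ g ∈ H, (g : Matrix (Fin 2) (Fin 2) K) 1 0 = 0 ∧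
      (g : Matrix (Fin 2) (Fin 2) K) 0 0 = ZMod.castHom (dvd_refl p) K a := by
  obtain ⟨u1, hu1⟩ : ∃ u, u = SL2.conjHom P hP (primeHom K p (planeUp p 1)) := ⟨_, rfl⟩
  have hu1H : u1 ∈ H := hu1 ▸ hle ⟨_, ⟨_, rfl⟩, rfl⟩
  have hd1H : SL2.conjHom P hP (primeHom K p (planeDiag p a)) ∈ H := hle ⟨_, ⟨_, rfl⟩, rfl⟩
  have hcp : (⟨up c, hcH⟩ : H) ^ p = 1 := Subtype.ext (by
    rw [SubmonoidClass.coe_pow, up_pow, CharP.cast_eq_zero, zero_mul, up_zero]; rfl)
  have hup : (⟨u1, hu1H⟩ : H) ^ p = 1 := Subtype.ext (by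
    show u1 ^ p = 1
    rw [hu1, ← map_pow, ← map_pow, planeUp_pow, ZMod.natCast_self, zero_mul,
      show planeUp p (0 : ZMod p) = 1 by
        apply Subtype.ext; ext i j; fin_cases i <;> fin_cases j <;> simp [planeUp], map_one, map_one])
  obtain ⟨R1, hR1⟩ := (zpowers_isPGroup hcp).exists_le_sylow
  obtain ⟨R2, hR2⟩ := (zpowers_isPGroup hup).exists_le_sylow
  obtain ⟨h, hh⟩ := MulAction.exists_smul_eq H R2 R1
  have hm : h * ⟨u1, hu1H⟩ * h⁻¹ ∈ (R1 : Subgroup H) := by
    rw [← hh, Sylow.coe_subgroup_smul]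
    exact Subgroup.smul_mem_pointwise_smul _ _ _ (hR2 (Subgroup.mem_zpowers _))
  obtain ⟨hh0, hhH⟩ := h
  have hup10 := (upper_of_pGroup hodd (R := (R1 : Subgroup H).map H.subtype) (R1.2.map _) hc
    ⟨_, hR1 (Subgroup.mem_zpowers _), rfl⟩ (r := hh0 * u1 * hh0⁻¹) ⟨_, hm, rfl⟩).1
  rw [hu1, coe_conj_std, map_planeUp] at hup10
  have hdet : ((hh0 : Matrix (Fin 2) (Fin 2) K) * P).det ≠ 0 := by
    rw [Matrix.det_mul, hh0.2, one_mul]; exact hP.ne_zero
  refine ⟨_, H.mul_mem (H.mul_mem hhH hd1H) (H.inv_mem hhH), ?_⟩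
  rw [coe_conj_std, map_planeDiag]
  exact mat_diag hdet (mat_upper hdet hup10) _ _

end Borel

end Cfsg.Agent.Fus.Fail
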