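import Cfsg.Agent.Lib.Fus.ZStarCenter
import Cfsg.Agent.Lib.Fus.NormalCrit

/-!
Glauberman's Theorem on the automorphisms centralizing a Sylow 2-subgroup: if `N` is normal in `A`, has
trivial centralizer and no nontrivial normal subgroup of odd order, and `S` is a Sylow 2-subgroup of `N`,
then `C_A(S)` is solvable, given solvability of groups of odd order.
-/

set_option autoImplicit false
set_option linter.style.haveILetI false
set_option linter.unusedSectionVars false

namespace Cfsg.Agent.Fus.SylowCent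

open scoped Pointwise IsMulCommutative

open Cfsg Cfsg.Agent.Fus
open Cfsg.FusionSystem (normalizerIn centralizerIn)

universe u

variable {J : Type u} [Group J] [Finite J]

theorem conjMem {P : Subgroup J} {g : J} (h : ∀ x ∈ P, g * x * g⁻¹ ∈ P) :
    g ∈ Subgroup.normalizer (P : Set J) := by
  refine Subgroup.mem_normalizer_iff.2 fun x => ⟨h x, fun hx => ?_⟩
  let f : P → P := fun y => ⟨g * y * g⁻¹, h y y.2⟩
  obtain ⟨y, hy⟩ := (Finite.injective_iff_surjective (f := f)).1
    (fun a b e => Subtype.ext (mul_left_cancel (mul_right_cancel (congrArg Subtype.val e)))) ⟨_, hx⟩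
  have : g * y * g⁻¹ = g * x * g⁻¹ := congrArg Subtype.val hy
  exact mul_left_cancel (mul_right_cancel this) ▸ y.2

theorem exists_sylow_of_le {D R : Subgroup J} (hR : IsPGroup 2 R) (hRD : R ≤ D) :
    ∃ U : Sylow 2 D, R ≤ (U : Subgroup D).map D.subtype := by
  obtain ⟨U, hU⟩ := (IsPGroup.comap_subtype hR (K := D) : IsPGroup 2 (R.subgroupOf D)).exists_le_sylow
  exact ⟨U, fun x hx => ⟨⟨x, hRD hx⟩, hU (Subgroup.mem_subgroupOf.2 hx), rfl⟩⟩

/-- The 2-elements of the centralizer in `N` of an essential subgroup lie in that subgroup. -/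
theorem centric_inf (N : Subgroup J) [N.Normal] (T : Sylow 2 J) {v : J} (hc : ∀ x ∈ T, x * v = v * x)
    (hvT : v ∈ T) (hgen : ∀ j, ∃ g ∈ N, ∃ i : ℤ, j = g * v ^ i) {P : Subgroup J}
    (hP : (groupFusionSystem (T : Subgroup J)).IsEssential 2 P) :
    v ∈ P ∧ ∀ d ∈ N ⊓ Subgroup.centralizer ((P ⊓ N : Subgroup J) : Set J),
      (∃ k : ℕ, orderOf d = 2 ^ k) → d ∈ P := by
  haveI : Fact (Nat.Prime 2) := ⟨Nat.prime_two⟩
  set F := groupFusionSystem (T : Subgroup J) with hF
  have hPT := hP.1.1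
  have hvP : v ∈ P := centralizerIn_le_of_centric hP.1
    (mem_centralizerIn.2 ⟨hvT, fun x hx => hc x (hPT hx)⟩)
  refine ⟨hvP, ?_⟩
  have hgenP : ∀ x ∈ P, ∃ g ∈ P ⊓ N, ∃ i : ℤ, x = g * v ^ i := by
    intro x hx
    obtain ⟨g, hg, i, e⟩ := hgen x
    refine ⟨g, ⟨?_, hg⟩, i, e⟩
    rw [show g = x * (v ^ i)⁻¹ by rw [e, mul_inv_cancel_right]]
    exact P.mul_mem hx (P.inv_mem (P.zpow_mem hvP i))
  -- the 2-elements centralizing `P`
  have hsyl : IsSylowOf 2 (normalizerIn (T : Subgroup J) P) ((⊤ : Subgroup J) ⊓ Subgroup.normalizer (P : Set J)) := by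
    refine isSylowOf_normalizerIn (isSylowOf_top T) (hTH := le_top) ?_
    rw [← groupFusionSystem_eq]
    exact hP.2.1
  have hcP : ∀ d ∈ Subgroup.centralizer (P : Set J), (∃ k : ℕ, orderOf d = 2 ^ k) → d ∈ P := by
    intro d hd ⟨k, hk⟩
    have hp2 : IsPGroup 2 (Subgroup.zpowers d) := IsPGroup.of_card (n := k) (by rw [Nat.card_zpowers, hk])
    have hdn : d ∈ Subgroup.normalizer (P : Set J) := by
      refine mem_normalizer_of_forall (fun x hx => ?_) (fun x hx => ?_)
      · rw [← Subgroup.mem_centralizer_iff.1 hd x hx, mul_inv_cancel_right]; exact hx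
      · rw [mul_assoc, Subgroup.mem_centralizer_iff.1 hd x hx, inv_mul_cancel_left]; exact hx
    obtain ⟨h, hh, hle⟩ := hsyl.exists_conj_le hp2 (Subgroup.zpowers_le.2 ⟨Subgroup.mem_top _, hdn⟩)
    have h1 : h * d * h⁻¹ ∈ normalizerIn (T : Subgroup J) P := hle ⟨d, Subgroup.mem_zpowers d, by simp⟩
    have h2 : h * d * h⁻¹ ∈ P := by
      refine centralizerIn_le_of_centric hP.1 (mem_centralizerIn.2 ⟨h1.1, fun x hx => ?_⟩)
      have hx' := (Subgroup.mem_normalizer_iff''.1 hh.2 x).1 hx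
      calc x * (h * d * h⁻¹) = h * ((h⁻¹ * x * h) * d) * h⁻¹ := by group
        _ = h * (d * (h⁻¹ * x * h)) * h⁻¹ := by rw [Subgroup.mem_centralizer_iff.1 hd _ hx']
        _ = h * d * h⁻¹ * x := by group
    exact (Subgroup.mem_normalizer_iff.1 hh.2 d).2 h2
  set P0 : Subgroup J := P ⊓ N with hP0
  set D : Subgroup J := N ⊓ Subgroup.centralizer (P0 : Set J) with hD
  set Z : Subgroup J := P0 ⊓ D with hZ
  have hvD : v ∈ Subgroup.normalizer (D : Set J) := by
    have key : ∀ w ∈ P, ∀ d ∈ D, w * d * w⁻¹ ∈ D := by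
      intro w hw d hd
      refine ⟨Subgroup.Normal.conj_mem inferInstance d hd.1 w, Subgroup.mem_centralizer_iff.2 fun x hx => ?_⟩
      have hx' : w⁻¹ * x * w ∈ P0 := Subgroup.mem_inf.2 ⟨P.mul_mem (P.mul_mem (P.inv_mem hw) hx.1) hw,
        by simpa using Subgroup.Normal.conj_mem inferInstance x hx.2 w⁻¹⟩
      calc x * (w * d * w⁻¹) = w * ((w⁻¹ * x * w) * d) * w⁻¹ := by group
        _ = w * (d * (w⁻¹ * x * w)) * w⁻¹ := by rw [Subgroup.mem_centralizer_iff.1 hd.2 _ hx']
        _ = w * d * w⁻¹ * x := by group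
    exact mem_normalizer_of_forall (key v hvP) (fun d hd => by simpa using key v⁻¹ (inv_mem hvP) d hd)
  intro d hd hd2
  -- a Sylow subgroup of `D` with `v` normalizing it
  let Y : Subgroup J := D ⊔ Subgroup.zpowers v
  let V : Subgroup J := Z ⊔ Subgroup.zpowers v
  have hVP : V ≤ P := sup_le (inf_le_left.trans inf_le_left) (Subgroup.zpowers_le.2 hvP)
  obtain ⟨U, hU⟩ := exists_sylow_of_le (D := Y) (T.2.to_le (hVP.trans hPT))
    (sup_le (inf_le_right.trans le_sup_left) le_sup_right : V ≤ Y)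
  set U' : Subgroup J := (U : Subgroup Y).map Y.subtype with hU'
  have hU'p : IsPGroup 2 U' := U.2.map _
  have hZU : Z ≤ U' ⊓ D := le_inf (le_sup_left.trans hU) inf_le_right
  haveI : (D.subgroupOf Y).Normal := Subgroup.normal_subgroupOf_of_le_normalizer
    (sup_le Subgroup.le_normalizer (Subgroup.zpowers_le.2 hvD))
  have hvU : v ∈ U' := hU (Subgroup.mem_sup_right (Subgroup.mem_zpowers v))
  by_cases hRZ : U' ⊓ D ≤ Z
  · obtain ⟨k, hk⟩ := hd2
    have hp2 : IsPGroup 2 (Subgroup.zpowers d) := IsPGroup.of_card (n := k) (by rw [Nat.card_zpowers, hk])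
    obtain ⟨h, hh, hle⟩ := (show IsSylowOf 2 U' Y from
      ⟨Subgroup.map_subtype_le _, U, (Subgroup.comap_map_eq_self_of_injective Y.subtype_injective _).symm⟩)
      |>.exists_conj_le hp2 (Subgroup.zpowers_le.2 (Subgroup.mem_sup_left hd))
    have h1 : h * d * h⁻¹ ∈ U' := hle ⟨d, Subgroup.mem_zpowers d, by simp⟩
    have h2 : h * d * h⁻¹ ∈ D := by
      have hn : h ∈ Subgroup.normalizer (D : Set J) :=
        sup_le Subgroup.le_normalizer (Subgroup.zpowers_le.2 hvD) hh
      exact (Subgroup.mem_normalizer_iff.1 hn d).1 hd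
    have h3 : h * d * h⁻¹ ∈ Z := hRZ ⟨h1, h2⟩
    have hn : h ∈ Subgroup.normalizer (P0 : Set J) := by
      refine (sup_le ?_ (Subgroup.zpowers_le.2 ?_) : Y ≤ _) hh
      · intro y hy
        refine mem_normalizer_of_forall (fun x hx => ?_) (fun x hx => ?_)
        · rw [← Subgroup.mem_centralizer_iff.1 hy.2 x hx, mul_inv_cancel_right]; exact hx
        · rw [mul_assoc, Subgroup.mem_centralizer_iff.1 hy.2 x hx, inv_mul_cancel_left]; exact hx
      · refine mem_normalizer_of_forall (fun x hx => ?_) (fun x hx => ?_)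
        · exact Subgroup.mem_inf.2 ⟨P.mul_mem (P.mul_mem hvP hx.1) (P.inv_mem hvP), Subgroup.Normal.conj_mem inferInstance x hx.2 v⟩
        · exact Subgroup.mem_inf.2 ⟨P.mul_mem (P.mul_mem (P.inv_mem hvP) hx.1) hvP,
            by simpa using Subgroup.Normal.conj_mem inferInstance x hx.2 v⁻¹⟩
    exact ((Subgroup.mem_normalizer_iff.1 hn d).2 h3.1).1
  exfalso
  set R : Subgroup J := (U' ⊓ D) ⊔ Subgroup.zpowers v with hR
  have hRp : IsPGroup 2 R := hU'p.to_le (sup_le inf_le_left (Subgroup.zpowers_le.2 hvU))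
  have hVR : V < R := by
    refine lt_of_le_of_ne (sup_le_sup_right hZU _) fun e => hRZ fun r hr => ?_
    have hrV : r ∈ V := e ▸ Subgroup.mem_sup_left hr
    exact ⟨⟨hVP hrV, hr.2.1⟩, hr.2⟩
  haveI : Finite R := inferInstance
  obtain ⟨y, hy, hyV⟩ := (SetLike.lt_iff_le_and_exists.1 (lt_normalizerIn (S := R) hRp hVR)).2
  obtain ⟨r, hr, w, hw, rfl⟩ : y ∈ ((U' ⊓ D : Subgroup J) : Set J) * (Subgroup.zpowers v : Set J) := by
    rw [← Subgroup.coe_mul_of_right_le_normalizer_left]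
    · exact hy.1
    · refine Subgroup.zpowers_le.2 ?_
      exact mem_normalizer_of_forall
        (fun x hx => Subgroup.mem_inf.2 ⟨U'.mul_mem (U'.mul_mem hvU hx.1) (U'.inv_mem hvU), (Subgroup.mem_normalizer_iff.1 hvD x).1 hx.2⟩)
        (fun x hx => Subgroup.mem_inf.2 ⟨U'.mul_mem (U'.mul_mem (U'.inv_mem hvU) hx.1) hvU, (Subgroup.mem_normalizer_iff''.1 hvD x).1 hx.2⟩)
  have hwV : w ∈ V := Subgroup.mem_sup_right hw
  have hrV : r ∉ V := fun h => hyV (mul_mem h hwV)
  have hrn : r ∈ Subgroup.normalizer (V : Set J) := by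
    simpa using (Subgroup.normalizer (V : Set J)).mul_mem hy.2 ((Subgroup.normalizer (V : Set J)).inv_mem (Subgroup.le_normalizer hwV))
  have hrv : r * v * r⁻¹ ∈ P :=
    hVP ((Subgroup.mem_normalizer_iff.1 hrn v).1 (Subgroup.mem_sup_right (Subgroup.mem_zpowers v)))
  have hrfix : ∀ x ∈ P0, r * x * r⁻¹ = x := fun x hx => by
    rw [← Subgroup.mem_centralizer_iff.1 hr.2.2 x hx, mul_inv_cancel_right]
  have hrP : r ∈ Subgroup.normalizer (P : Set J) := by
    have key : ∀ x ∈ P, r * x * r⁻¹ ∈ P := by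
      intro x hx
      obtain ⟨g, hg, i, rfl⟩ := hgenP x hx
      rw [show r * (g * v ^ i) * r⁻¹ = r * g * r⁻¹ * (r * v ^ i * r⁻¹) by group, hrfix g hg, ← conj_zpow]
      exact mul_mem hg.1 (zpow_mem hrv i)
    exact conjMem key
  -- the chain stabilizer
  have hrad := radical_of_essential T.2 hP
  let K : Subgroup (F.autGroup P) :=
    { carrier := {a | (∀ x : P, (x : J) ∈ N → (a : MulAut P) x = x) ∧
        ∀ x : P, ((x⁻¹ * (a : MulAut P) x : P) : J) ∈ N}
      one_mem' := ⟨fun x _ => rfl, fun x => by simp⟩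
      mul_mem' := by
        intro a b ha hb
        refine ⟨fun x hx => ?_, fun x => ?_⟩
        · show (a : MulAut P) ((b : MulAut P) x) = x
          rw [hb.1 x hx, ha.1 x hx]
        · show ((x⁻¹ * (a : MulAut P) ((b : MulAut P) x) : P) : J) ∈ N
          rw [show x⁻¹ * (a : MulAut P) ((b : MulAut P) x) =
            (x⁻¹ * (b : MulAut P) x) * (((b : MulAut P) x)⁻¹ * (a : MulAut P) ((b : MulAut P) x)) by group,
            Subgroup.coe_mul]
          exact mul_mem (hb.2 x) (ha.2 _)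
      inv_mem' := by
        intro a ha
        refine ⟨fun x hx => ?_, fun x => ?_⟩
        · show (a : MulAut P)⁻¹ x = x
          nth_rw 1 [← ha.1 x hx]
          exact (a : MulAut P).symm_apply_apply x
        · have h := ha.2 (((a : MulAut P)⁻¹) x)
          rw [show (a : MulAut P) ((a : MulAut P)⁻¹ x) = x from (a : MulAut P).apply_symm_apply x] at h
          show ((x⁻¹ * (a : MulAut P)⁻¹ x : P) : J) ∈ N
          rw [show x⁻¹ * (a : MulAut P)⁻¹ x = (((a : MulAut P)⁻¹ x)⁻¹ * x)⁻¹ by group, Subgroup.coe_inv]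
          exact inv_mem h }
  have hinv : ∀ b : F.autGroup P, ∀ x : P, (x : J) ∈ N → (((b : MulAut P) x : P) : J) ∈ N := by
    intro b x hx
    obtain ⟨-, g, hg⟩ := isMap_group.1 ((mem_autGroup hPT).1 b.2)
    rw [← autFun_coe, (hg x x.2).1]
    exact Subgroup.Normal.conj_mem inferInstance _ hx g
  have hKn : K.Normal := by
    refine ⟨fun c hc b => ⟨fun x hx => ?_, fun x => ?_⟩⟩
    · show (b : MulAut P) ((c : MulAut P) ((b : MulAut P)⁻¹ x)) = x
      rw [hc.1 _ (by simpa using hinv b⁻¹ x hx)]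
      exact (b : MulAut P).apply_symm_apply x
    · show ((x⁻¹ * (b : MulAut P) ((c : MulAut P) ((b : MulAut P)⁻¹ x)) : P) : J) ∈ N
      rw [show x⁻¹ * (b : MulAut P) ((c : MulAut P) ((b : MulAut P)⁻¹ x)) =
        (b : MulAut P) (((b : MulAut P)⁻¹ x)⁻¹ * (c : MulAut P) ((b : MulAut P)⁻¹ x)) by
          rw [map_mul, map_inv, show (b : MulAut P) ((b : MulAut P)⁻¹ x) = x from
            (b : MulAut P).apply_symm_apply x]]
      exact hinv b _ (hc.2 _)
  have hKp : IsPGroup 2 K := by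
    obtain ⟨n, hn⟩ := (T.2.to_le hPT).exists_card_eq
    intro a
    refine ⟨n, Subtype.ext (Subtype.ext (MulEquiv.ext fun x => ?_))⟩
    have hpow : ∀ m : ℕ, ((a.1 : MulAut P) ^ m) x = x * (x⁻¹ * (a.1 : MulAut P) x) ^ m := by
      intro m
      induction m with
      | zero => simp
      | succ m ih =>
        rw [pow_succ', MulAut.mul_apply, ih, map_mul, map_pow, a.2.1 _ (a.2.2 x), pow_succ', ← mul_assoc x,
          mul_inv_cancel_left]
    show ((a.1 : MulAut P) ^ 2 ^ n) x = x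
    rw [hpow, ← hn, pow_card_eq_one', mul_one]
  let c : F.autGroup P := ⟨P.normalizerMonoidHom ⟨r, hrP⟩,
    (mem_autGroup hPT).2 (isMap_group.2 ⟨hPT, r, fun x hx => ⟨autFun_coe _ ⟨x, hx⟩,
      hPT ((Subgroup.mem_normalizer_iff.1 hrP x).1 hx)⟩⟩)⟩
  have hcK : c ∈ K := by
    refine ⟨fun x hx => Subtype.ext (hrfix x ⟨x.2, hx⟩), fun x => ?_⟩
    show ((x : J)⁻¹ * (r * x * r⁻¹)) ∈ N
    rw [show (x : J)⁻¹ * (r * x * r⁻¹) = ((x : J)⁻¹ * r * x) * r⁻¹ by group]
    exact mul_mem (by simpa using Subgroup.Normal.conj_mem inferInstance r hr.2.1 (x : J)⁻¹) (inv_mem hr.2.1)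
  obtain ⟨y, hy'⟩ : (c : MulAut P) ∈ Inn P := by
    rw [← hrad.2]
    exact ⟨c, Grp.le_pCore hKn hKp hcK, rfl⟩
  have hrv' : r * v * r⁻¹ = v := by
    have h1 : (y : J) * v * (y : J)⁻¹ = r * v * r⁻¹ :=
      congrArg (fun α : MulAut P => ((α ⟨v, hvP⟩ : P) : J)) hy'
    rw [← h1, hc _ (hPT y.2), mul_inv_cancel_right]
  have hrc : r ∈ Subgroup.centralizer (P : Set J) := Subgroup.mem_centralizer_iff.2 fun x hx => by
    obtain ⟨g, hg, i, rfl⟩ := hgenP x hx
    exact ((Commute.mul_right (show Commute r g from mul_inv_eq_iff_eq_mul.1 (hrfix g hg))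
      (Commute.zpow_right (show Commute r v from mul_inv_eq_iff_eq_mul.1 hrv') i))).eq.symm
  obtain ⟨k, hk⟩ := IsPGroup.iff_orderOf.1 hU'p ⟨r, hr.1⟩
  have hrP' : r ∈ P := hcP r hrc ⟨k, by rwa [← Subgroup.orderOf_mk r hr.1]⟩
  exact hrV (Subgroup.mem_sup_left ⟨⟨hrP', hr.2.1⟩, hr.2⟩)

/-- A 2-element centralizing a Sylow 2-subgroup of `N` and acting trivially on the centric local
subgroups modulo their odd cores is isolated. -/
theorem isolated (N : Subgroup J) [N.Normal] (T : Sylow 2 J) {v : J} (hc : ∀ x ∈ T, x * v = v * x)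
    (hvT : v ∈ T) (hgen : ∀ j, ∃ g ∈ N, ∃ i : ℤ, j = g * v ^ i)
    (hK : ∀ P0 : Subgroup J, P0 ≤ (T : Subgroup J) ⊓ N →
      (∀ d ∈ N ⊓ Subgroup.centralizer (P0 : Set J), (∃ k : ℕ, orderOf d = 2 ^ k) → d ∈ P0) →
      ∀ g ∈ N, g ∈ Subgroup.normalizer (P0 : Set J) → Odd (orderOf (v * g * v⁻¹ * g⁻¹))) :
    IsoElt T v := by
  haveI : Fact (Nat.Prime 2) := ⟨Nat.prime_two⟩
  set F := groupFusionSystem (T : Subgroup J) with hF
  have core : ∀ P : Subgroup J, P ≤ T → v ∈ P →
      (∀ d ∈ N ⊓ Subgroup.centralizer ((P ⊓ N : Subgroup J) : Set J), (∃ k : ℕ, orderOf d = 2 ^ k) → d ∈ P) →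
      ∀ α ∈ F.autGroup P, autFun α v = v := by
    intro P hPT hvP hd α hα
    obtain ⟨-, j, hj⟩ := isMap_group.1 ((mem_autGroup hPT).1 hα)
    obtain ⟨g, hg, i, rfl⟩ := hgen j
    have hjn : g * v ^ i ∈ Subgroup.normalizer (P : Set J) := conjMem fun x hx => by
      rw [← (hj x hx).1]
      exact autFun_mem α hx
    have hgn : g ∈ Subgroup.normalizer (P : Set J) := by
      simpa using mul_mem hjn (inv_mem (Subgroup.le_normalizer (zpow_mem hvP i)))
    have hgn0 : g ∈ Subgroup.normalizer ((P ⊓ N : Subgroup J) : Set J) :=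
      conjMem fun x hx =>
        ⟨(Subgroup.mem_normalizer_iff.1 hgn x).1 hx.1, Subgroup.Normal.conj_mem inferInstance x hx.2 g⟩
    have hodd := hK (P ⊓ N) (inf_le_inf_right _ hPT) (fun d hd1 hd2 => ⟨hd d hd1 hd2, hd1.1⟩) g hg hgn0
    have hmem : v * g * v⁻¹ * g⁻¹ ∈ T := by
      rw [show v * g * v⁻¹ * g⁻¹ = v * (g * v⁻¹ * g⁻¹) by group]
      exact mul_mem hvT (hPT ((Subgroup.mem_normalizer_iff.1 hgn _).1 (inv_mem hvP)))
    obtain ⟨k, hk⟩ := IsPGroup.iff_orderOf.1 T.2 ⟨_, hmem⟩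
    rw [Subgroup.orderOf_mk] at hk
    have h1 : v * g * v⁻¹ * g⁻¹ = 1 := by
      rw [← orderOf_eq_one_iff, hk]
      rcases k with _ | k
      · rfl
      · rw [hk] at hodd
        exact absurd hodd (by simp [Nat.even_pow])
    rw [(hj v hvP).1]
    calc g * v ^ i * v * (g * v ^ i)⁻¹ = g * v * g⁻¹ := by group
      _ = v := by
        rw [mul_inv_eq_iff_eq_mul]
        exact (mul_inv_eq_iff_eq_mul.1 (mul_inv_eq_iff_eq_mul.1 h1 |>.trans (one_mul _))).symm
  refine ⟨hvT, fun g hgv => ?_⟩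
  have hm : IsMap F (Subgroup.zpowers v) (fun x => g * x * g⁻¹) :=
    isMap_group.2 ⟨Subgroup.zpowers_le.2 hvT, g, fun x hx => ⟨rfl, by
      obtain ⟨i, rfl⟩ := hx
      rw [← conj_zpow]
      exact zpow_mem hgv i⟩⟩
  have := alperin (F := F) T.2 (isSaturated_group T) (fun P f => v ∈ P → f v = v)
    (fun P f f' h e hv => (e v hv).symm.trans (h hv))
    (fun P Q f f' _ _ hfQ h h' hv => by
      have := hfQ v hv
      rw [h hv] at this
      show f' (f v) = v
      rw [h hv, h' this])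
    (fun P Q f _ hPQ h hv => h (hPQ hv))
    (fun α hα hv => core T le_rfl hv (fun d hd ⟨k, hk⟩ => ?_) α hα)
    (fun P hP α hα hv => core P hP.1.1 hv (centric_inf N T hc hvT hgen hP).2 α hα)
    hm (Subgroup.mem_zpowers v)
  · exact this
  -- 2-elements centralizing a Sylow subgroup of `N`
  set T0 : Subgroup J := (T : Subgroup J) ⊓ N with hT0
  have hdT : Subgroup.zpowers d ≤ Subgroup.normalizer (T0 : Set J) :=
    Subgroup.zpowers_le.2 (Subgroup.centralizer_le_normalizer _ hd.2)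
  have hWp : IsPGroup 2 ↥(Subgroup.zpowers d ⊔ T0) :=
    (IsPGroup.of_card (n := k) (by rw [Nat.card_zpowers, hk])).to_sup_of_normal_right'
      (T.2.to_le inf_le_left) hdT
  obtain ⟨h, -, hle⟩ := (isSylowOf_top T).exists_conj_le hWp le_top
  have hWN : (Subgroup.zpowers d ⊔ T0).map (MulAut.conj h).toMonoidHom ≤ T0 := by
    refine le_inf hle ?_
    rintro _ ⟨x, hx, rfl⟩
    exact Subgroup.Normal.conj_mem inferInstance x ((sup_le (Subgroup.zpowers_le.2 hd.1) inf_le_right) hx) h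
  have hcard := Subgroup.card_le_of_le hWN
  rw [Subgroup.card_map_of_injective (MulAut.conj h).injective] at hcard
  have heq := Subgroup.eq_of_le_of_card_ge (le_sup_right : T0 ≤ Subgroup.zpowers d ⊔ T0) hcard
  exact (heq ▸ Subgroup.mem_sup_left (Subgroup.mem_zpowers d) : d ∈ T0).1

/-- Elements of the derived group of the centralizer of a Sylow 2-subgroup of `N` act trivially modulo
odd order on each centric local subgroup. -/
theorem odd_commutator {A : Type u} [Group A] [Finite A] (N : Subgroup A) [N.Normal] (P0 : Subgroup A)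
    (hP0 : ∀ d ∈ N ⊓ Subgroup.centralizer (P0 : Set A), (∃ k : ℕ, orderOf d = 2 ^ k) → d ∈ P0)
    {C : Subgroup A} (hC : C ≤ Subgroup.centralizer (P0 : Set A)) {g : A} (hg : g ∈ N)
    (hgn : g ∈ Subgroup.normalizer (P0 : Set A)) {x : C} (hx : x ∈ commutator C) :
    Odd (orderOf ((x : A) * g * (x : A)⁻¹ * g⁻¹)) := by
  haveI : Fact (Nat.Prime 2) := ⟨Nat.prime_two⟩
  set D : Subgroup A := N ⊓ Subgroup.centralizer (P0 : Set A) with hD
  -- the 2-elements of `D` are central in `D`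
  have h2Z : ∀ d : D, (∃ k : ℕ, orderOf d = 2 ^ k) → d ∈ Subgroup.center D := by
    intro d hd
    have hdP : (d : A) ∈ P0 := hP0 d d.2 (by simpa [Subgroup.orderOf_coe] using hd)
    exact Subgroup.mem_center_iff.2 fun e => Subtype.ext (Subgroup.mem_centralizer_iff.1 e.2.2 _ hdP).symm
  have hM : Odd (Subgroup.center D).index := by
    let U : Sylow 2 D := default
    have hle : (U : Subgroup D) ≤ Subgroup.center D := fun d hd => h2Z d (by
      obtain ⟨k, hk⟩ := IsPGroup.iff_orderOf.1 U.2 ⟨d, hd⟩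
      exact ⟨k, by rwa [← Subgroup.orderOf_mk d hd]⟩)
    rw [← Nat.not_even_iff_odd, even_iff_two_dvd]
    exact fun h => U.not_dvd_index (h.trans (Subgroup.index_dvd_of_le hle))
  set M' := ordCompl[2] (Nat.card D) with hM'
  have hM'o : Odd M' := by
    rw [← Nat.not_even_iff_odd, even_iff_two_dvd]
    exact Nat.not_dvd_ordCompl Nat.prime_two Nat.card_pos.ne'
  have hpow : ∀ d : D, ∃ k : ℕ, orderOf (d ^ M') = 2 ^ k := by
    intro d
    have h : (d ^ M') ^ ordProj[2] (Nat.card D) = 1 := by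
      rw [← pow_mul, mul_comm, hM', Nat.ordProj_mul_ordCompl_eq_self, pow_card_eq_one']
    obtain ⟨k, -, hk⟩ := (Nat.dvd_prime_pow Nat.prime_two).1 (orderOf_dvd_of_pow_eq_one h)
    exact ⟨k, hk⟩
  set e := M' * (Subgroup.center D).index with he
  let π : D →* Subgroup.center D :=
    (powMonoidHom M').comp (MonoidHom.transferCenterPow D)
  have hπ : ∀ d : D, ((π d : D) : A) = (d : A) ^ e := fun d => by
    show ((((MonoidHom.transferCenterPow D d) ^ M' : Subgroup.center D) : D) : A) = _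
    rw [Subgroup.coe_pow, Subgroup.coe_pow, MonoidHom.transferCenterPow_apply, Subgroup.coe_pow, ← pow_mul,
      mul_comm, he]
  have hπP : ∀ d : D, ((π d : D) : A) ∈ P0 := fun d => by
    rw [hπ, he, pow_mul, ← Subgroup.coe_pow]
    exact pow_mem (hP0 _ (d ^ M').2 (by simpa only [Subgroup.orderOf_coe] using hpow d)) _
  -- the derivation
  have hd : ∀ c : C, (c : A) * g * (c : A)⁻¹ * g⁻¹ ∈ D := by
    intro c
    refine ⟨N.mul_mem (Subgroup.Normal.conj_mem inferInstance g hg c) (N.inv_mem hg),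
      Subgroup.mem_centralizer_iff.2 fun y hy => ?_⟩
    have hc := Subgroup.mem_centralizer_iff.1 (hC c.2)
    have hy' := (Subgroup.mem_normalizer_iff''.1 hgn y).1 hy
    calc y * ((c : A) * g * (c : A)⁻¹ * g⁻¹) = (y * c) * g * (c : A)⁻¹ * g⁻¹ := by group
      _ = (c * y) * g * (c : A)⁻¹ * g⁻¹ := by rw [hc y hy]
      _ = c * g * ((g⁻¹ * y * g) * (c : A)⁻¹) * g⁻¹ := by group
      _ = c * g * ((c : A)⁻¹ * (g⁻¹ * y * g)) * g⁻¹ := by
        rw [Subgroup.mem_centralizer_iff.1 (Subgroup.inv_mem _ (hC c.2)) _ hy']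
      _ = (c : A) * g * (c : A)⁻¹ * g⁻¹ * y := by group
  have hconj : ∀ (c : C) (d : D) (h : (c : A) * d * (c : A)⁻¹ ∈ D), π ⟨_, h⟩ = π d := by
    intro c d h
    refine Subtype.ext (Subtype.ext ?_)
    rw [hπ, hπ]
    show ((c : A) * d * (c : A)⁻¹) ^ e = (d : A) ^ e
    rw [conj_pow, ← Subgroup.mem_centralizer_iff.1 (hC c.2) _ (hπ d ▸ hπP d), mul_inv_cancel_right]
  let ψ : C →* Subgroup.center D :=
    { toFun := fun c => π ⟨_, hd c⟩
      map_one' := by
        have h1 : (⟨_, hd 1⟩ : D) = 1 := Subtype.ext (by simp)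
        rw [h1, map_one]
      map_mul' := fun c c' => by
        have hmem : (c : A) * ((c' : A) * g * (c' : A)⁻¹ * g⁻¹) * (c : A)⁻¹ ∈ D := by
          refine ⟨Subgroup.Normal.conj_mem inferInstance _ (hd c').1 c,
            Subgroup.mul_mem _ (Subgroup.mul_mem _ (hC c.2) (hd c').2) (Subgroup.inv_mem _ (hC c.2))⟩
        have h1 : (⟨_, hd (c * c')⟩ : D) = ⟨_, hmem⟩ * ⟨_, hd c⟩ := Subtype.ext (by
          show ((c * c' : C) : A) * g * ((c * c' : C) : A)⁻¹ * g⁻¹ = _
          simp only [Subgroup.coe_mul]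
          group)
        rw [h1, map_mul, hconj c ⟨_, hd c'⟩ hmem, mul_comm] }
  have hx1 : ψ x = 1 := Abelianization.commutator_subset_ker ψ hx
  have h1 : ((x : A) * g * (x : A)⁻¹ * g⁻¹) ^ e = 1 := by
    have := congrArg (fun z : Subgroup.center D => ((z : D) : A)) hx1
    simpa [ψ, hπ] using this
  exact (hM'o.mul hM).of_dvd_nat (orderOf_dvd_of_pow_eq_one h1)

/-- The centralizer of a Sylow 2-subgroup of `N` in `A` is solvable. -/
theorem solvable_centralizer {A : Type u} [Group A] [Finite A] (N : Subgroup A) [N.Normal]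
    (hNc : Subgroup.centralizer (N : Set A) = ⊥) (hO : pPrimeCore 2 N = ⊥) (S : Sylow 2 N)
    (hodd : ∀ K : Subgroup A, Odd (Nat.card K) → Group.IsSolvable K) :
    Group.IsSolvable (Subgroup.centralizer (((S : Subgroup N).map N.subtype : Subgroup A) : Set A)) := by
  haveI : Fact (Nat.Prime 2) := ⟨Nat.prime_two⟩
  set S' : Subgroup A := (S : Subgroup N).map N.subtype with hS'
  set C := Subgroup.centralizer (S' : Set A) with hCdef
  suffices h : Odd (Nat.card (commutator C)) by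
    haveI : Group.IsSolvable ((commutator C).map C.subtype) :=
      hodd _ (by rwa [Subgroup.card_map_of_injective C.subtype_injective])
    haveI : Group.IsSolvable (commutator C) := Group.isSolvable_of_surjective
      (f := ((commutator C).equivMapOfInjective _ C.subtype_injective).symm.toMonoidHom) (MulEquiv.surjective _)
    haveI : Group.IsSolvable (C ⧸ commutator C) := inferInstanceAs (Group.IsSolvable (Abelianization C))
    exact (Group.isSolvable_iff_subgroup_quotient (commutator C)).2 ⟨inferInstance, inferInstance⟩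
  rw [← Nat.not_even_iff_odd, even_iff_two_dvd]
  intro hdvd
  obtain ⟨⟨w, hw⟩, hword⟩ := exists_prime_orderOf_dvd_card' 2 hdvd
  rw [Subgroup.orderOf_mk] at hword
  set v : A := (w : A) with hv
  have hvo : orderOf v = 2 := by rw [hv, Subgroup.orderOf_coe, hword]
  have hvC : v ∈ C := w.2
  let J : Subgroup A := N ⊔ Subgroup.zpowers v
  have hNJ : N ≤ J := le_sup_left
  have hS'N : S' ≤ N := Subgroup.map_subtype_le _
  let v' : J := ⟨v, Subgroup.mem_sup_right (Subgroup.mem_zpowers v)⟩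
  have hRp : IsPGroup 2 ↥(Subgroup.zpowers v ⊔ S') :=
    (IsPGroup.of_card (n := 1) (by rw [Nat.card_zpowers, hvo, pow_one])).to_sup_of_normal_right'
      (S.2.map _) (Subgroup.zpowers_le.2 (Subgroup.centralizer_le_normalizer _ hvC))
  have hRJ : Subgroup.zpowers v ⊔ S' ≤ J := sup_le le_sup_right (hS'N.trans le_sup_left)
  obtain ⟨T, hT⟩ := (IsPGroup.comap_subtype hRp (K := J) :
    IsPGroup 2 ((Subgroup.zpowers v ⊔ S').subgroupOf J)).exists_le_sylow
  have hvT : v' ∈ T := hT (Subgroup.mem_subgroupOf.2 (Subgroup.mem_sup_left (Subgroup.mem_zpowers v)))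
  have hS'T : S' ≤ (T : Subgroup J).map J.subtype := fun a ha =>
    ⟨⟨a, hNJ (hS'N ha)⟩, hT (Subgroup.mem_subgroupOf.2 (Subgroup.mem_sup_right ha)), rfl⟩
  have hTN : ∀ a : J, a ∈ T → (a : A) ∈ N → (a : A) ∈ S' := by
    intro a ha haN
    have hW : IsPGroup 2 (((T : Subgroup J).map J.subtype).subgroupOf N) :=
      IsPGroup.comap_subtype (T.2.map _)
    have heq := S.is_maximal' hW (fun y hy => Subgroup.mem_subgroupOf.2 (hS'T ⟨y, hy, rfl⟩))
    exact ⟨⟨a, haN⟩, heq ▸ Subgroup.mem_subgroupOf.2 ⟨a, ha, rfl⟩, rfl⟩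
  have hgen : ∀ j : J, ∃ g ∈ N.subgroupOf J, ∃ i : ℤ, j = g * v' ^ i := by
    intro j
    obtain ⟨g, hg, z, hz, hgz⟩ := Subgroup.mem_sup_of_normal_left.1 j.2
    obtain ⟨i, rfl⟩ := Subgroup.mem_zpowers_iff.1 hz
    exact ⟨⟨g, hNJ hg⟩, Subgroup.mem_subgroupOf.2 hg, i, Subtype.ext (by simp [v', hgz])⟩
  have hc : ∀ y ∈ T, y * v' = v' * y := by
    intro y hy
    obtain ⟨g, hg, i, rfl⟩ := hgen y
    have hgT : g ∈ T := by simpa using mul_mem hy (inv_mem (zpow_mem hvT i))
    have h1 : (g : A) * v = v * g :=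
      Subgroup.mem_centralizer_iff.1 hvC _ (hTN g hgT (Subgroup.mem_subgroupOf.1 hg))
    exact ((show Commute g v' from Subtype.ext h1).mul_left (Commute.zpow_self v' i)).eq
  have hiso : IsoElt T v' := by
    refine isolated (N.subgroupOf J) T hc hvT hgen fun P0 hP0 hcen g hg hgn => ?_
    have hPS : P0.map J.subtype ≤ S' := by
      rintro _ ⟨y, hy, rfl⟩
      exact hTN y (hP0 hy).1 (Subgroup.mem_subgroupOf.1 (hP0 hy).2)
    rw [← Subgroup.orderOf_coe]
    simp only [Subgroup.coe_mul, Subgroup.coe_inv]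
    refine odd_commutator N (P0.map J.subtype) ?_ (C := C)
      (Subgroup.centralizer_le (SetLike.coe_subset_coe.2 hPS)) (Subgroup.mem_subgroupOf.1 hg) ?_ hw
    · intro d hd hd2
      refine ⟨⟨d, hNJ hd.1⟩, hcen _ ⟨Subgroup.mem_subgroupOf.2 hd.1, ?_⟩ ?_, rfl⟩
      · exact Subgroup.mem_centralizer_iff.2 fun y hy => Subtype.ext
          (Subgroup.mem_centralizer_iff.1 hd.2 _ ⟨y, hy, rfl⟩)
      · obtain ⟨k, hk⟩ := hd2
        exact ⟨k, by rwa [Subgroup.orderOf_mk]⟩
    · refine conjMem ?_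
      rintro _ ⟨y, hy, rfl⟩
      exact ⟨g * y * g⁻¹, (Subgroup.mem_normalizer_iff.1 hgn y).1 hy, rfl⟩
  -- the commutators with `v` lie in the odd core
  haveI : (pPrimeCore 2 J).Normal := Grp.pPrimeCore_isNormal
  let K : Subgroup N := ((pPrimeCore 2 J).map J.subtype).subgroupOf N
  have hKn : K.Normal := ⟨fun a ha b => by
    obtain ⟨a', ha', hae⟩ := Subgroup.mem_subgroupOf.1 ha
    refine Subgroup.mem_subgroupOf.2 ⟨(⟨b, hNJ b.2⟩ : J) * a' * (⟨b, hNJ b.2⟩ : J)⁻¹,
      Subgroup.Normal.conj_mem inferInstance a' ha' _, ?_⟩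
    simp [← hae]⟩
  have hK : K ≤ ⊥ := hO ▸ Grp.le_pPrimeCore hKn (by
    refine Nat.Coprime.coprime_dvd_left ?_ (Grp.pPrimeCore_coprime (p := 2) (G := J))
    rw [← Subgroup.card_map_of_injective N.subtype_injective (K := K),
      ← Subgroup.card_map_of_injective J.subtype_injective (K := pPrimeCore 2 J)]
    exact Subgroup.card_dvd_of_le (by rw [Subgroup.subgroupOf_map_subtype]; exact inf_le_left))
  have hvN : v ∈ Subgroup.centralizer (N : Set A) := Subgroup.mem_centralizer_iff.2 fun a ha => by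
    have hmem := IsoElt.commutator_mem _ J rfl T v' hiso ⟨a, hNJ ha⟩
    have haN : v * a * v⁻¹ * a⁻¹ ∈ N :=
      mul_mem (Subgroup.Normal.conj_mem inferInstance a ha v) (inv_mem ha)
    have h1 : (⟨_, haN⟩ : N) ∈ K := Subgroup.mem_subgroupOf.2 ⟨_, hmem, rfl⟩
    have h2 : v * a * v⁻¹ * a⁻¹ = 1 := congrArg Subtype.val (Subgroup.mem_bot.1 (hK h1))
    rw [mul_inv_eq_one, mul_inv_eq_iff_eq_mul] at h2
    exact h2.symm
  rw [hNc, Subgroup.mem_bot] at hvN
  rw [hvN, orderOf_one] at hvo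
  omega

/-- The outer automorphism group is solvable if that of a Sylow 2-subgroup is. -/
theorem solvable_out {G : Type u} [Group G] [Finite G] [IsSimpleGroup G]
    (hG : ¬ IsMulCommutative G) (S : Sylow 2 G) (hS1 : (S : Subgroup G) ≠ ⊥)
    (hodd : ∀ K : Subgroup (MulAut G), Odd (Nat.card K) → Group.IsSolvable K)
    (hS : Group.IsSolvable (MulAut ↥S)) : Group.IsSolvable (Cfsg.Out G) := by
  haveI : Fact (Nat.Prime 2) := ⟨Nat.prime_two⟩
  have hinj : Function.Injective (MulAut.conj : G →* MulAut G) := by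
    rw [injective_iff_map_eq_one]
    intro g hg
    have hgc : g ∈ Subgroup.center G := Subgroup.mem_center_iff.2 fun y => by
      have := congrArg (fun α : MulAut G => α y) hg
      simp only [MulAut.conj_apply, MulAut.one_apply, mul_inv_eq_iff_eq_mul] at this
      exact this.symm
    rcases Subgroup.Normal.eq_bot_or_eq_top (H := Subgroup.center G) inferInstance with h | h
    · rwa [h, Subgroup.mem_bot] at hgc
    · exact absurd ⟨⟨fun a b => (Subgroup.mem_center_iff.1 (h ▸ Subgroup.mem_top b) a)⟩⟩ hG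
  let eI : G ≃* Inn G := MonoidHom.ofInjective hinj
  haveI : Nontrivial (Inn G) := eI.symm.toEquiv.nontrivial
  haveI : IsSimpleGroup (Inn G) := IsSimpleGroup.isSimpleGroup_of_surjective eI.toMonoidHom eI.surjective
  let SN : Sylow 2 (Inn G) := S.mapSurjective (f := eI.toMonoidHom) eI.surjective
  have hNc : Subgroup.centralizer ((Inn G : Subgroup (MulAut G)) : Set (MulAut G)) = ⊥ := by
    refine (Subgroup.eq_bot_iff_forall _).2 fun α hα => MulEquiv.ext fun y => hinj ?_
    have h1 := Subgroup.mem_centralizer_iff.1 hα _ ⟨y, rfl⟩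
    show MulAut.conj (α y) = MulAut.conj y
    calc MulAut.conj (α y) = α * MulAut.conj y * α⁻¹ := by ext z; simp
      _ = MulAut.conj y := by rw [← h1, mul_inv_cancel_right]
  have hO : pPrimeCore 2 (Inn G) = ⊥ := by
    haveI : (pPrimeCore 2 (Inn G)).Normal := Grp.pPrimeCore_isNormal
    refine (Subgroup.Normal.eq_bot_or_eq_top (H := pPrimeCore 2 (Inn G)) inferInstance).resolve_right
      fun h => hS1 ?_
    have hc := Grp.pPrimeCore_coprime (p := 2) (G := Inn G)
    rw [h, Subgroup.card_top, ← Nat.card_congr eI.toEquiv] at hc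
    refine (Subgroup.eq_bot_iff_card _).2 (Nat.eq_one_of_dvd_coprimes hc (Subgroup.card_subgroup_dvd_card _) ?_)
    obtain ⟨n, hn⟩ := S.2.exists_card_eq
    rcases n with _ | n
    · rw [hn, pow_zero]; exact one_dvd _
    · exfalso
      exact Nat.prime_two.not_dvd_one ((Nat.dvd_gcd ((hn ▸ dvd_pow_self 2 n.succ_ne_zero).trans
        (Subgroup.card_subgroup_dvd_card _)) dvd_rfl).trans hc.gcd_eq_one.dvd)
  haveI := solvable_centralizer (Inn G) hNc hO SN hodd
  set S' : Subgroup (MulAut G) := (SN : Subgroup (Inn G)).map (Inn G).subtype with hS'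
  have eS : ↥(S : Subgroup G) ≃* ↥S' :=
    ((S : Subgroup G).equivMapOfInjective _ hinj).trans (MulEquiv.subgroupCongr (by
      rw [hS', show (SN : Subgroup (Inn G)) = (S : Subgroup G).map eI.toMonoidHom from Sylow.coe_mapSurjective _ _,
        Subgroup.map_map]
      rfl))
  haveI : Group.IsSolvable (MulAut ↥S') :=
    Group.isSolvable_of_surjective (f := (MulAut.congr eS).toMonoidHom) (MulEquiv.surjective _)
  set L : Subgroup (MulAut G) := Subgroup.normalizer (S' : Set (MulAut G)) with hL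
  haveI : Group.IsSolvable L := by
    refine Group.isSolvable_of_ker_le_range
      (Subgroup.inclusion (Subgroup.centralizer_le_normalizer (S' : Set (MulAut G))) :
        Subgroup.centralizer (S' : Set (MulAut G)) →* L) S'.normalizerMonoidHom ?_
    rw [Subgroup.normalizerMonoidHom_ker]
    intro a ha
    exact ⟨⟨a, Subgroup.mem_subgroupOf.1 ha⟩, rfl⟩
  refine Group.isSolvable_of_surjective (f := (QuotientGroup.mk' (Inn G)).comp L.subtype) fun q => ?_
  obtain ⟨α, rfl⟩ := QuotientGroup.mk'_surjective _ q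
  obtain ⟨l, hl, i, hi, rfl⟩ := Subgroup.mem_sup_of_normal_right.1
    (show α ∈ L ⊔ Inn G from (Sylow.normalizer_sup_eq_top SN).symm ▸ Subgroup.mem_top α)
  refine ⟨⟨l, hl⟩, ?_⟩
  rw [MonoidHom.comp_apply, map_mul, show QuotientGroup.mk' (Inn G) i = 1 from (QuotientGroup.eq_one_iff i).2 hi, mul_one]
  rfl

end Cfsg.Agent.Fus.SylowCent
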