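/-
In a group of large Fischer type every element of the centraliser acts semilinearly on the six-dimensional space.
-/
import Cfsg.Agent.Lib.Spor.LargeFischer.Classes

set_option autoImplicit false
set_option maxRecDepth 100000
set_option linter.style.haveILetI false
set_option linter.unusedSectionVars false

open Cfsg Cfsg.Agent.Classical Cfsg.Agent.Spor.LargeFischer Matrix
open Cfsg.Agent.Spor.USixTwo (K4)
open Cfsg.Agent.Spor.U62U43 (cover62)

namespace Cfsg.Agent.Fus.LargeFischerScalar

/-- The scalar. -/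
abbrev ω : K4 := K4.of 2

theorem k4_facts : ω * ω * ω = 1 ∧ ω ≠ 1 ∧ ω * ω ≠ 1 ∧ ω * ω ≠ ω ∧ ω ^ 2 = ω * ω ∧ ω ≠ 0 := by decide +kernel

theorem k4_cases : ∀ x : K4, x = 0 ∨ x = 1 ∨ x = ω ∨ x = ω * ω := by decide +kernel

theorem trace_zero : ∀ a : K4, a + a ^ 2 = 0 → ω * a + (ω * a) ^ 2 = 0 → a = 0 := by decide +kernel

variable {G : Type*} [Group G] [Finite G] {z : G} {Q : Subgroup (Subgroup.centralizer ({z} : Set G))}
  [hQn : Q.Normal] (m : Model z Q)

/-- An element acts linearly. -/
def Lin (g : Subgroup.centralizer ({z} : Set G)) : Prop := ∀ v, m.act g (ω • v) = ω • m.act g v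

/-- An element acts semilinearly for the field automorphism. -/
def Conj (g : Subgroup.centralizer ({z} : Set G)) : Prop := ∀ v, m.act g (ω • v) = (ω * ω) • m.act g v

theorem lin_of_mem {g : Subgroup.centralizer ({z} : Set G)} (hg : g ∈ m.M) : Lin m g := fun v => by
  rw [show g = ((⟨g, hg⟩ : m.M) : Subgroup.centralizer ({z} : Set G)) from rfl, m.lin_act, m.lin_act, smul_scalar]

/-- An element with scalar image. -/
theorem exists_om : ∃ n : m.M, m.lin n = omS ∧ ∀ v, m.act n v = ω • v := by
  have h := kgen_mem m.hk 3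
  rw [kgen, if_neg (by omega)] at h
  obtain ⟨n, hn⟩ := m.exists_lin h
  exact ⟨n, hn, fun v => by rw [m.lin_act, hn, omS_smul]⟩

theorem omS_facts : omS ≠ 1 ∧ omS * omS ≠ 1 ∧ omS * omS ≠ omS := by
  have key : ∀ c : K4, c ≠ 1 → ∀ x : SUV, (∀ v : Fin 6 → K4, x • v = c • v) → x ≠ 1 := fun c hc x hx e => hc (by
    have := congrFun (hx (Pi.single 0 1)) 0
    rw [e, one_smul] at this
    simpa using this.symm)
  have h2 : ∀ v : Fin 6 → K4, (omS * omS) • v = (ω * ω) • v := fun v => by
    rw [mul_smul omS, omS_smul, omS_smul, smul_smul]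
  refine ⟨key ω k4_facts.2.1 _ omS_smul, key _ k4_facts.2.2.1 _ h2, fun e => ?_⟩
  have : omS = 1 := mul_left_cancel (e.trans (mul_one omS).symm)
  exact key ω k4_facts.2.1 _ omS_smul this

theorem lin_cases (g : Subgroup.centralizer ({z} : Set G)) : Lin m g ∨ Conj m g := by
  obtain ⟨n, hn, hnact⟩ := exists_om m
  obtain ⟨o1, o2, o3⟩ := omS_facts
  have hn' : g * n * g⁻¹ ∈ m.M := m.M_normal.conj_mem _ n.2 g
  set n' : m.M := ⟨_, hn'⟩ with hn'def
  have hom : omS ∈ cover62 m.k := hn ▸ m.lin_mem n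
  -- central in the cover
  have hcom : ∀ y ∈ cover62 m.k, y * m.lin n' = m.lin n' * y := by
    intro y hy
    obtain ⟨a, rfl⟩ := m.exists_lin hy
    have hb : g⁻¹ * a * g ∈ m.M := by
      have := m.M_normal.conj_mem _ a.2 g⁻¹
      rwa [inv_inv] at this
    have h1 : m.lin (n * ⟨_, hb⟩ * n⁻¹ * (⟨_, hb⟩ : m.M)⁻¹) = 1 := by
      have hc : Commute omS (m.lin ⟨_, hb⟩) := suVal_ext (Matrix.toLin'.injective (LinearMap.ext fun v => by
        show suVal _ *ᵥ v = suVal _ *ᵥ v
        rw [← smul_def, ← smul_def, mul_smul, mul_smul, omS_smul, omS_smul, smul_scalar]))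
      rw [map_mul, map_mul, map_mul, map_inv, map_inv, hn, hc.eq, mul_inv_cancel_right, mul_inv_cancel]
    have h2 := (m.lin_eq_one _).1 h1
    have h3 : ((n' * a * n'⁻¹ * a⁻¹ : m.M) : Subgroup.centralizer ({z} : Set G)) ∈ Q := by
      have := hQn.conj_mem _ h2 g
      simp only [Subgroup.coe_mul, Subgroup.coe_inv, hn'def] at this ⊢
      refine (congrArg (fun x => x ∈ Q) ?_).mp this
      group
    have h4 := (m.lin_eq_one _).2 h3
    rw [map_mul, map_mul, map_mul, map_inv, map_inv, mul_inv_eq_one, mul_inv_eq_iff_eq_mul] at h4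
    exact h4.symm
  have hcen : (⟨m.lin n', m.lin_mem n'⟩ : cover62 m.k) ∈ Subgroup.center (cover62 m.k) :=
    Subgroup.mem_center_iff.2 fun y => Subtype.ext (hcom y.1 y.2)
  have homc : (⟨omS, hom⟩ : cover62 m.k) ∈ Subgroup.center (cover62 m.k) :=
    Subgroup.mem_center_iff.2 fun y => Subtype.ext (suVal_ext (Matrix.toLin'.injective (LinearMap.ext fun v => by
      show suVal _ *ᵥ v = suVal _ *ᵥ v
      rw [← smul_def, ← smul_def]
      show (y.1 * omS) • v = (omS * y.1) • v
      rw [mul_smul, mul_smul, omS_smul, omS_smul, smul_scalar])))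
  have h3c := (Spor.U62U43.cover_good m.hk).1
  have hsurj : Function.Surjective (fun i : Fin 3 =>
      (⟨(⟨omS, hom⟩ : cover62 m.k) ^ i.1, pow_mem homc _⟩ : Subgroup.center (cover62 m.k))) := by
    refine Function.Bijective.surjective ((Nat.bijective_iff_injective_and_card _).2 ⟨fun i j e => ?_,
      by rw [Nat.card_fin, h3c]⟩)
    have e' : omS ^ i.1 = omS ^ j.1 :=
      congrArg (fun x : Subgroup.center (cover62 m.k) => ((x : cover62 m.k) : SUV)) e
    fin_cases i <;> fin_cases j <;> simp only [pow_zero, pow_one, pow_two] at e' <;> first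
      | rfl
      | exact absurd e' o1 | exact absurd e'.symm o1 | exact absurd e' o2 | exact absurd e'.symm o2
      | exact absurd e' o3 | exact absurd e'.symm o3
  obtain ⟨i, hi⟩ := hsurj ⟨_, hcen⟩
  have e' : omS ^ i.1 = m.lin n' :=
    congrArg (fun x : Subgroup.center (cover62 m.k) => ((x : cover62 m.k) : SUV)) hi
  have key : ∀ v, m.act g (ω • v) = m.lin n' • m.act g v := fun v => by
    rw [← hnact, ← m.act_mul, ← m.lin_act, ← m.act_mul, hn'def]
    simp
  fin_cases i <;> simp only [pow_zero, pow_one, pow_two] at e'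
  · exfalso
    have := (m.lin_eq_one n').1 e'.symm
    have h' := hQn.conj_mem _ this g⁻¹
    refine o1 (hn ▸ (m.lin_eq_one n).2 ((congrArg (fun x => x ∈ Q) ?_).mp h'))
    simp only [hn'def]; group
  · exact Or.inl fun v => by rw [key, ← e', omS_smul]
  · exact Or.inr fun v => by rw [key, ← e', mul_smul omS, omS_smul, omS_smul, smul_smul]

/-- Scalar multiples go to scalar multiples. -/
theorem act_om_cases (g : Subgroup.centralizer ({z} : Set G)) :
    (∀ v, m.act g (ω • v) = ω • m.act g v) ∨ (∀ v, m.act g (ω • v) = (ω * ω) • m.act g v) := lin_cases m g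

theorem herm_bit (u : Fin 6 → K4) : hermForm 6 K4 2 u u = 0 ∨ hermForm 6 K4 2 u u = 1 := by
  have h := herm_swap u u
  rcases k4_cases (hermForm 6 K4 2 u u) with e | e | e | e
  · exact Or.inl e
  · exact Or.inr e
  all_goals (exfalso; rw [e] at h; revert h; decide +kernel)

theorem norm_act (g : Subgroup.centralizer ({z} : Set G)) (u : Fin 6 → K4) :
    hermForm 6 K4 2 (m.act g u) (m.act g u) = hermForm 6 K4 2 u u := by
  rcases herm_bit u with e | e
  · rw [m.isotropic_act g e, e]
  · rw [e]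
    refine (herm_bit _).resolve_left fun e0 => ?_
    have := m.isotropic_act g⁻¹ e0
    rw [m.act_cancel, e] at this
    exact one_ne_zero this

/-- Orthogonality is preserved. -/
theorem orth_act (g : Subgroup.centralizer ({z} : Set G)) {u w : Fin 6 → K4} (h : hermForm 6 K4 2 u w = 0) :
    hermForm 6 K4 2 (m.act g u) (m.act g w) = 0 := by
  have key : ∀ a b, hermForm 6 K4 2 (m.act g a) (m.act g b) + hermForm 6 K4 2 (m.act g a) (m.act g b) ^ 2 =
      hermForm 6 K4 2 a b + hermForm 6 K4 2 a b ^ 2 := fun a b => by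
    have e := norm_act m g (a + b)
    rw [m.act_add, herm_add, herm_add, norm_act m g a, norm_act m g b] at e
    exact add_left_cancel e
  have z0 : hermForm 6 K4 2 (ω • u) w = 0 := by rw [herm_smul, h, mul_zero]
  have z1 : hermForm 6 K4 2 ((ω * ω) • u) w = 0 := by rw [herm_smul, h, mul_zero]
  refine trace_zero _ (by rw [key, h]; simp) ?_
  rcases lin_cases m g with hl | hl
  · rw [← herm_smul, ← hl, key, z0]; simp
  · have e : ω • m.act g u = m.act g ((ω * ω) • u) := by
      rw [← smul_smul ω ω u, hl, hl, smul_smul (ω * ω)]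
      exact congrArg (fun a : K4 => a • m.act g u) (by decide +kernel)
    rw [← herm_smul, e, key, z1]; simp

/-- The outer elements behave alike. -/
theorem conj_of_one {e : Subgroup.centralizer ({z} : Set G)} (he : e ∉ m.M) (hc : ¬ Lin m e)
    (g : Subgroup.centralizer ({z} : Set G)) (hg : g ∉ m.M) : Conj m g := by
  refine (lin_cases m g).resolve_left fun hl => hc ?_
  have hmem : g⁻¹ * e ∈ m.M := by
    rw [Subgroup.mul_mem_iff_of_index_two m.M_index, inv_mem_iff]
    exact iff_of_false hg he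
  intro v
  rw [show e = g * (g⁻¹ * e) by group, m.act_mul, lin_of_mem m hmem, hl, ← m.act_mul]

end Cfsg.Agent.Fus.LargeFischerScalar
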