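/-
The checks of the tables of a Sylow 2-subgroup in each class.
-/
import Cfsg.Agent.Lib.Spor.LargeFischer.Checks
import Cfsg.Agent.Lib.Fus.LargeFischerSylowData

set_option autoImplicit false
set_option maxRecDepth 100000

open Cfsg.Agent.Spor.LargeFischer

namespace Cfsg.Agent.Fus.LargeFischerSylow

/-- An element as the images of the twelve bits. -/
def lst (k i : ℕ) : List ℕ := (List.range 12).map (rd 12 ((els k).getD i 0))

/-- A word as the images of the bits. -/
def wImg (k : ℕ) (w : List ℕ) : List ℕ := (List.range 12).map fun j => (dat k).wC w (2 ^ j)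

/-- A product. -/
def mulL (a b : List ℕ) : List ℕ := b.map (app a)

/-- The identity. -/
def oneL : List ℕ := (List.range 12).map (2 ^ ·)

/-- An involution of the list. -/
def ivL (k j : ℕ) : List ℕ := lst k ((invI k).getD j 0)

/-- A set of places. -/
def bigSet (k c : ℕ) : ℕ := (cl k).getD c 0

/-- A member of the distinguished set. -/
def inE (k j : ℕ) : Bool := (bigSet k (ep k)).testBit j

/-- The subgroup. -/
def chkGroup (k : ℕ) : Bool :=
  (gW k).all (fun w => w.all fun s => Nat.blt s 4) && Nat.beq (els k).length 128 && decide (els k).Nodup &&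
    (List.range 128).all (fun i => Nat.blt ((els k).getD i 0) (2 ^ 144)) &&
    lst k 0 == oneL &&
    (List.range 128).all (fun i => Nat.beq i 0 || (Nat.blt ((prd k).getD i (0, 0)).1 i &&
      Nat.blt ((prd k).getD i (0, 0)).2 (gW k).length &&
      lst k i == mulL (wImg k ((gW k).getD ((prd k).getD i (0, 0)).2 [])) (lst k ((prd k).getD i (0, 0)).1))) &&
    (List.range 128).all (fun i => (List.range (gW k).length).all fun s =>
      Nat.blt (((nxt k).getD i []).getD s 0) 128 &&
        mulL (wImg k ((gW k).getD s [])) (lst k i) == lst k (((nxt k).getD i []).getD s 0))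

/-- The involutions. -/
def chkInvol (k : ℕ) : Bool :=
  Nat.beq (invI k).length 35 && (invI k).all (fun i => Nat.blt i 128) && decide (invI k).Nodup &&
    (List.range 128).all (fun i => (!Nat.beq i 0 && mulL (lst k i) (lst k i) == oneL) == (invI k).contains i) &&
    (List.range 35).all (fun a => (List.range 35).all fun b => Nat.beq a b ||
      (!(mulL (ivL k a) (ivL k b) == mulL (ivL k b) (ivL k a)) || ((adj k).getD a 0).testBit b))

/-- Every commuting set within `R` and the candidates lies in a listed one. -/
def bk (k : ℕ) : ℕ → List ℕ → List ℕ → Bool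
  | 0, R, C => (cl k).any (fun m => (R ++ C).all fun v => m.testBit v)
  | fuel + 1, R, C => (cl k).any (fun m => (R ++ C).all fun v => m.testBit v) ||
      ((cl k).any (fun m => R.all fun v => m.testBit v) &&
        C.all fun v => bk k fuel (v :: R) (C.filter fun u => Nat.blt v u && ((adj k).getD v 0).testBit u))

/-- The commuting sets. -/
def chkCl (k : ℕ) : Bool :=
  bk k 16 [] (List.range 35) && Nat.beq (cl k).length 6 && Nat.blt (ep k) 2 && Nat.blt (e0 k) 2 &&
    !Nat.beq (ep k) (e0 k) &&
    (List.range 6).all (fun c => Nat.beq ((List.range 35).countP fun j => (bigSet k c).testBit j)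
      (if Nat.blt c 2 then 15 else 7))

/-- Each involution moves three bits independently. -/
def chkMove (k : ℕ) : Bool :=
  (List.range 35).all fun j =>
    ((wit k).getD j []).all (fun i => Nat.blt i 12) && Nat.beq ((wit k).getD j []).length 3 &&
      decide (((List.range 8).map fun m => ((List.range 3).map fun t =>
        (m / 2 ^ t % 2) * ((ivL k j).getD (((wit k).getD j []).getD t 0) 0 ^^^
          2 ^ (((wit k).getD j []).getD t 0))).foldr (· ^^^ ·) 0).Nodup)

/-- The distinguished set is a subgroup. -/
def chkE (k : ℕ) : Bool :=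
  (List.range 35).all fun a => !inE k a || (List.range 35).all fun b => !inE k b ||
    mulL (ivL k a) (ivL k b) == oneL || (List.range 35).any fun c => inE k c && mulL (ivL k a) (ivL k b) == ivL k c

/-- The fixed spaces. -/
def chkFix (k : ℕ) : Bool :=
  Nat.beq (uw k).length 64 && decide (uw k).Nodup && (uw k).all (fun u => Nat.blt u 4096) &&
    (List.range 4096).all (fun c => ((List.range 35).all fun j => !inE k j || Nat.beq (app (ivL k j) c) c) ==
      (uw k).contains c) &&
    Nat.blt ((List.range 4096).countP fun c => (List.range 35).all fun j =>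
      !(bigSet k (e0 k)).testBit j || Nat.beq (app (ivL k j) c) c) 64 &&
    (uw k).all (fun u => (uw k).all fun w => Nat.beq (hermC u w) 0) &&
    Nat.beq (ub k).length 6 && (ub k).all (fun u => (uw k).contains u) &&
    (List.range 4096).all (fun c => !((ub k).all fun u => Nat.beq (hermC c u) 0) || (uw k).contains c) &&
    (uw k).all (fun u => (List.range 64).any fun m =>
      Nat.beq (((List.range 6).map fun t => (m / 2 ^ t % 2) * (ub k).getD t 0).foldr (· ^^^ ·) 0) u)

/-- The place in the whole list of a member of the distinguished set. -/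
def mem (k : ℕ) : List ℕ := (List.range 35).filter (inE k)

/-- The normalising words. -/
def chkNorm (k : ℕ) : Bool :=
  (nW k).all (fun w => w.all fun s => Nat.blt s 4) && Nat.beq (mem k).length 15 &&
    (List.range (nW k).length).all (fun s => (List.range 15).all fun t =>
      Nat.blt (((ntab k).getD s []).getD t 0) 15 &&
        mulL (wImg k ((nW k).getD s [])) (ivL k ((mem k).getD t 0)) ==
          mulL (ivL k ((mem k).getD (((ntab k).getD s []).getD t 0) 0)) (wImg k ((nW k).getD s []))) &&
    (List.range 15).all (fun t => (List.range 15).any fun i => Nat.beq ((nprd k).getD i (0, 0, 0)).1 t) &&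
    (List.range 15).all (fun i =>
      (Nat.beq i 0 && Nat.beq ((nprd k).getD i (0, 0, 0)).1 0) ||
        (Nat.blt ((nprd k).getD i (0, 0, 0)).2.2 (nW k).length &&
          (List.range i).any fun h => Nat.beq ((nprd k).getD h (0, 0, 0)).1 ((nprd k).getD i (0, 0, 0)).2.1) &&
          Nat.beq (((ntab k).getD ((nprd k).getD i (0, 0, 0)).2.2 []).getD ((nprd k).getD i (0, 0, 0)).2.1 0)
            ((nprd k).getD i (0, 0, 0)).1)

theorem group_ok : ∀ k < 3, chkGroup k = true := by decide +kernel

theorem invol_ok : ∀ k < 3, chkInvol k = true := by decide +kernel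

theorem cl_ok : ∀ k < 3, chkCl k = true := by decide +kernel

theorem move_ok : ∀ k < 3, chkMove k = true := by decide +kernel

theorem e_ok : ∀ k < 3, chkE k = true := by decide +kernel

theorem fix_ok : ∀ k < 3, chkFix k = true := by decide +kernel

theorem norm_ok : ∀ k < 3, chkNorm k = true := by decide +kernel

end Cfsg.Agent.Fus.LargeFischerSylow
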