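/-
A subgroup of order 128 in each class `3.U₄(3)` of `SU₆(2)`: its elementary abelian subgroups have order at most 16,
exactly one of order 16 fixes a totally singular space of 64 vectors, and its involutions fix at most 512 vectors.
-/
import Cfsg.Agent.Lib.Spor.LargeFischer.Cover
import Cfsg.Agent.Lib.Fus.LargeFischerSylowChecks

set_option autoImplicit false
set_option maxRecDepth 100000
set_option linter.style.haveILetI false

open Cfsg Cfsg.Agent.Classical Cfsg.Agent.Spor.Cos Cfsg.Agent.Spor.LargeFischer Matrix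
open Cfsg.Agent.Spor.USixTwo (K4 vecOf)
open Cfsg.Agent.Spor.U62U43 (cover62)

namespace Cfsg.Agent.Fus.LargeFischerSylow

variable {k : ℕ}

/-- An element with given images of the bits. -/
def Has (x : SUV) (l : List ℕ) : Prop :=
  l.length = 12 ∧ (∀ e ∈ l, e < 4096) ∧ ∀ i < 12, x • vecOf (2 ^ i) = vecOf (l.getD i 0)

theorem two_pow_lt {i : ℕ} (hi : i < 12) : 2 ^ i < 4096 :=
  (Nat.pow_lt_pow_right (by norm_num) hi).trans_le le_rfl

theorem has_app {x : SUV} {l : List ℕ} (h : Has x l) {c : ℕ} (hc : c < 4096) :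
    x • vecOf c = vecOf (app l c) :=
  app_sound (mvHom x) h.1 h.2.2 hc

theorem has_ext {x y : SUV} {l : List ℕ} (hx : Has x l) (hy : Has y l) : x = y :=
  suVal_ext (Matrix.toLin'.injective (LinearMap.ext fun v => by
    rw [Matrix.toLin'_apply, Matrix.toLin'_apply, ← smul_def, ← smul_def, ← vecOf_enc6 v,
      has_app hx (enc6_lt v), has_app hy (enc6_lt v)]))

theorem has_unique {x : SUV} {l l' : List ℕ} (h : Has x l) (h' : Has x l') : l = l' := by
  refine List.ext_getElem (h.1.trans h'.1.symm) fun i hi hi' => ?_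
  have hi12 : i < 12 := h.1 ▸ hi
  have e := (h.2.2 i hi12).symm.trans (h'.2.2 i hi12)
  rw [List.getD_eq_getElem _ _ hi, List.getD_eq_getElem _ _ hi'] at e
  exact vecOf_inj (h.2.1 _ (List.getElem_mem _)) (h'.2.1 _ (List.getElem_mem _)) e

theorem has_mul {x y : SUV} {a b : List ℕ} (ha : Has x a) (hb : Has y b) : Has (x * y) (mulL a b) := by
  refine ⟨by rw [mulL, List.length_map, hb.1], fun e he => ?_, fun i hi => ?_⟩
  · obtain ⟨c, -, rfl⟩ := List.mem_map.1 he
    exact app_lt ha.2.1 _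
  · have hib : i < b.length := hb.1.symm ▸ hi
    rw [mul_smul, hb.2.2 i hi, List.getD_eq_getElem _ _ hib,
      has_app ha (hb.2.1 _ (List.getElem_mem _)), mulL, List.getD_eq_getElem _ _ (by rw [List.length_map]; exact hib),
      List.getElem_map]

theorem has_word (hk : k < 3) {w : List ℕ} (hw : ∀ s ∈ w, s < 4) : Has (ev (kgen k) w) (wImg k w) := by
  refine ⟨by simp [wImg], fun e he => ?_, fun i hi => ?_⟩
  · obtain ⟨j, hj, rfl⟩ := List.mem_map.1 he
    exact (word_act hk w hw _ (two_pow_lt (List.mem_range.1 hj))).2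
  · rw [(word_act hk w hw _ (two_pow_lt hi)).1, wImg, List.getD_eq_getElem _ _ (by simp; exact hi),
      List.getElem_map, List.getElem_range]

theorem has_one : Has 1 oneL := by
  refine ⟨by simp [oneL], fun e he => ?_, fun i hi => ?_⟩
  · obtain ⟨j, hj, rfl⟩ := List.mem_map.1 he
    exact two_pow_lt (List.mem_range.1 hj)
  · rw [one_smul, oneL, List.getD_eq_getElem _ _ (by simp; exact hi), List.getElem_map, List.getElem_range]

/-- The subgroup. -/
noncomputable def P0 (k : ℕ) : Subgroup SUV := Subgroup.closure {x | ∃ w ∈ gW k, ev (kgen k) w = x}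

theorem gw_lt (hk : k < 3) : ∀ w ∈ gW k, ∀ s ∈ w, s < 4 := by
  have h := group_ok k hk
  simp only [chkGroup, Bool.and_eq_true, List.all_eq_true, Nat.blt_eq] at h
  exact h.1.1.1.1.1.1

theorem P0_le (hk : k < 3) : P0 k ≤ cover62 k :=
  (Subgroup.closure_le _).2 (by rintro x ⟨w, -, rfl⟩; exact word_mem hk w)

/-- The element in a place. -/
def Elem (k i : ℕ) (x : SUV) : Prop := i < 128 ∧ x ∈ P0 k ∧ Has x (lst k i)

theorem exists_elem (hk : k < 3) : ∀ i < 128, ∃ x, Elem k i x := by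
  have h := group_ok k hk
  simp only [chkGroup, Bool.and_eq_true, List.all_eq_true, List.mem_range, Nat.blt_eq, beq_iff_eq, Bool.or_eq_true,
    Nat.beq_eq] at h
  obtain ⟨⟨⟨-, h0⟩, hp⟩, -⟩ := h
  intro i
  induction i using Nat.strong_induction_on with
  | _ i ih =>
    intro hi
    rcases hp i hi with rfl | ⟨⟨h1, h2⟩, h3⟩
    · exact ⟨1, hi, one_mem _, h0 ▸ has_one⟩
    · obtain ⟨x, -, hx, hx'⟩ := ih _ h1 (h1.trans hi)
      have hw : (gW k).getD ((prd k).getD i (0, 0)).2 [] ∈ gW k := by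
        rw [List.getD_eq_getElem _ _ h2]; exact List.getElem_mem _
      exact ⟨_, hi, mul_mem (Subgroup.subset_closure ⟨_, hw, rfl⟩) hx,
        h3 ▸ has_mul (has_word hk (gw_lt hk _ hw)) hx'⟩

theorem elem_inj (hk : k < 3) {i j : ℕ} {x : SUV} (hi : Elem k i x) (hj : Elem k j x) : i = j := by
  have h := group_ok k hk
  simp only [chkGroup, Bool.and_eq_true, List.all_eq_true, List.mem_range, Nat.blt_eq, Nat.beq_eq,
    decide_eq_true_eq] at h
  obtain ⟨⟨⟨⟨⟨⟨-, hlen⟩, hnd⟩, hlt⟩, -⟩, -⟩, -⟩ := h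
  have e : lst k i = lst k j := has_unique hi.2.2 hj.2.2
  have hn : (els k).getD i 0 = (els k).getD j 0 := by
    refine Nat.eq_of_testBit_eq fun b => ?_
    rcases Nat.lt_or_ge b 144 with hb | hb
    · have hb12 : b / 12 < 12 := Nat.div_lt_of_lt_mul hb
      have e' : rd 12 ((els k).getD i 0) (b / 12) = rd 12 ((els k).getD j 0) (b / 12) :=
        List.map_eq_map_iff.1 e _ (List.mem_range.2 hb12)
      have := congrArg (Nat.testBit · (b % 12)) e'
      simp only [rd, Nat.testBit_mod_two_pow, Nat.testBit_shiftRight, decide_eq_true (Nat.mod_lt b (by norm_num : 12 > 0)),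
        Bool.true_and, Nat.div_add_mod] at this
      exact this
    · rw [Nat.testBit_lt_two_pow ((hlt i hi.1).trans_le (Nat.pow_le_pow_right (by norm_num) hb)),
        Nat.testBit_lt_two_pow ((hlt j hj.1).trans_le (Nat.pow_le_pow_right (by norm_num) hb))]
  rw [List.getD_eq_getElem _ _ (hlen ▸ hi.1), List.getD_eq_getElem _ _ (hlen ▸ hj.1)] at hn
  exact hnd.getElem_inj_iff.1 hn

theorem elem_of_mem (hk : k < 3) {x : SUV} (hx : x ∈ P0 k) : ∃ i, Elem k i x := by
  have h := group_ok k hk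
  simp only [chkGroup, Bool.and_eq_true, List.all_eq_true, List.mem_range, Nat.blt_eq, beq_iff_eq] at h
  have hn := h.2
  have hstep : ∀ a ∈ ({x | ∃ w ∈ gW k, ev (kgen k) w = x} : Set SUV), ∀ y, (∃ i, Elem k i y) →
      ∃ i, Elem k i (a * y) := by
    rintro _ ⟨w, hw, rfl⟩ y ⟨i, hi, hy, hy'⟩
    obtain ⟨s, hs, rfl⟩ := List.getElem_of_mem hw
    have hsD : (gW k).getD s [] = (gW k)[s] := List.getD_eq_getElem _ _ hs
    obtain ⟨h1, h2⟩ := hn i hi s hs
    refine ⟨_, h1, mul_mem (Subgroup.subset_closure ⟨_, hw, rfl⟩) hy, ?_⟩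
    rw [← h2, hsD]
    exact has_mul (has_word hk (gw_lt hk _ hw)) hy'
  induction hx using Subgroup.closure_induction_left with
  | one =>
    obtain ⟨y, hy⟩ := exists_elem hk 0 (by norm_num)
    have h0 : lst k 0 = oneL := h.1.1.2
    exact ⟨0, by norm_num, one_mem _, h0 ▸ has_one⟩
  | mul_left a ha y _ ih => exact hstep a ha y ih
  | inv_mul_cancel a ha y _ ih =>
    have hpow : ∀ n : ℕ, ∃ i, Elem k i (a ^ n * y) := fun n => by
      induction n with
      | zero => simpa using ih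
      | succ n ihn => rw [pow_succ', mul_assoc]; exact hstep a ha _ ihn
    obtain ⟨n, hn⟩ : ∃ n : ℕ, a⁻¹ = a ^ n :=
      ⟨orderOf a - 1, inv_eq_of_mul_eq_one_right (by
        rw [← pow_succ', Nat.sub_add_cancel (orderOf_pos a), pow_orderOf_eq_one])⟩
    rw [hn]; exact hpow n

theorem card_P0 (hk : k < 3) : Nat.card (P0 k) = 128 := by
  choose f hf using fun i : Fin 128 => exists_elem hk i.1 i.2
  rw [← Nat.card_fin 128]
  refine (Nat.card_congr (Equiv.ofBijective (fun i => (⟨f i, (hf i).2.1⟩ : P0 k)) ⟨fun i j e => ?_, fun x => ?_⟩)).symm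
  · have e' : f i = f j := congrArg Subtype.val e
    exact Fin.ext (elem_inj hk (hf i) (e' ▸ hf j))
  · obtain ⟨i, hi⟩ := elem_of_mem hk x.2
    exact ⟨⟨i, hi.1⟩, Subtype.ext (has_ext (hf ⟨i, hi.1⟩).2.2 hi.2.2)⟩

/-- An involution in a place of the list. -/
def Invol (k j : ℕ) (x : SUV) : Prop := j < 35 ∧ Elem k ((invI k).getD j 0) x

theorem invol_facts (hk : k < 3) :
    (∀ j < 35, ∃ x, Invol k j x ∧ x ≠ 1 ∧ x * x = 1) ∧
      (∀ x ∈ P0 k, x ≠ 1 → x * x = 1 → ∃ j, Invol k j x) ∧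
      (∀ j j' x, Invol k j x → Invol k j' x → j = j') ∧
      (∀ a b x y, Invol k a x → Invol k b y → a ≠ b → x * y = y * x → ((adj k).getD a 0).testBit b = true) := by
  have h := invol_ok k hk
  simp only [chkInvol, Bool.and_eq_true, List.all_eq_true, List.mem_range, Nat.blt_eq, beq_iff_eq,
    decide_eq_true_eq, Bool.or_eq_true, Nat.beq_eq, Bool.not_eq_true'] at h
  obtain ⟨⟨⟨⟨hlen, hlt⟩, hnd⟩, hchar⟩, hadj⟩ := h
  have hg := group_ok k hk
  simp only [chkGroup, Bool.and_eq_true, beq_iff_eq] at hg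
  have h0 : lst k 0 = oneL := hg.1.1.2
  have hmem : ∀ j < 35, (invI k).getD j 0 ∈ invI k := fun j hj => by
    rw [List.getD_eq_getElem _ _ (hlen.symm ▸ hj)]; exact List.getElem_mem _
  have h1 : Elem k 0 (1 : SUV) := ⟨by norm_num, one_mem _, h0 ▸ has_one⟩
  refine ⟨fun j hj => ?_, fun x hx hne hsq => ?_, fun j j' x hj hj' => ?_, fun a b x y ha hb hab hc => ?_⟩
  · obtain ⟨x, hx⟩ := exists_elem hk _ (hlt _ (hmem j hj))
    have e := hchar _ (hlt _ (hmem j hj))
    rw [List.contains_iff_mem.2 (hmem j hj), Bool.and_eq_true, Bool.not_eq_true', beq_iff_eq] at e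
    refine ⟨x, ⟨hj, hx⟩, fun e1 => ?_, ?_⟩
    · have := elem_inj hk (e1 ▸ hx) h1
      rw [this] at e
      simp at e
    · exact has_ext (has_mul hx.2.2 hx.2.2) (e.2.symm ▸ has_one)
  · obtain ⟨i, hi⟩ := elem_of_mem hk hx
    have hi0 : i ≠ 0 := fun e => hne (has_ext (e ▸ hi.2.2) h1.2.2)
    have hm : mulL (lst k i) (lst k i) = oneL := has_unique (has_mul hi.2.2 hi.2.2) (hsq.symm ▸ has_one)
    have hin : i ∈ invI k := by
      have e := hchar i hi.1
      rw [hm, beq_self_eq_true, Bool.and_true] at e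
      have hb : Nat.beq i 0 = false := by
        cases h : Nat.beq i 0 with
        | false => rfl
        | true => exact absurd (Nat.eq_of_beq_eq_true h) hi0
      rw [hb] at e
      exact List.contains_iff_mem.1 e.symm
    obtain ⟨j, hj, e⟩ := List.getElem_of_mem hin
    exact ⟨j, hlen ▸ hj, by rw [List.getD_eq_getElem _ _ hj, e]; exact hi⟩
  · have e := elem_inj hk hj.2 hj'.2
    have l1 : j < (invI k).length := by have := hj.1; omega
    have l2 : j' < (invI k).length := by have := hj'.1; omega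
    rw [List.getD_eq_getElem _ _ l1, List.getD_eq_getElem _ _ l2] at e
    exact hnd.getElem_inj_iff.1 e
  · rcases hadj a ha.1 b hb.1 with e | e | e
    · exact absurd e hab
    · exfalso
      have := has_unique (has_mul ha.2.2.2 hb.2.2.2) (hc.symm ▸ has_mul hb.2.2.2 ha.2.2.2)
      rw [ivL, ivL, this, beq_self_eq_true] at e
      exact Bool.noConfusion e
    · exact e

theorem bk_sound (K : ℕ → Prop) (hK : ∀ a b, K a → K b → a ≠ b → ((adj k).getD a 0).testBit b = true) :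
    ∀ (fuel : ℕ) (R C : List ℕ), bk k fuel R C = true → (∀ j, K j → j ∈ R ∨ j ∈ C) →
      ∃ m ∈ cl k, ∀ j, K j → m.testBit j = true := by
  classical
  intro fuel
  induction fuel with
  | zero =>
    intro R C h hsub
    simp only [bk, List.any_eq_true, List.all_eq_true, List.mem_append] at h
    obtain ⟨m, hm, h⟩ := h
    exact ⟨m, hm, fun j hj => h j (hsub j hj)⟩
  | succ fuel ih =>
    intro R C h hsub
    simp only [bk, Bool.or_eq_true, Bool.and_eq_true, List.any_eq_true, List.all_eq_true, List.mem_append] at h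
    rcases h with ⟨m, hm, h⟩ | ⟨⟨m, hm, hR⟩, hC⟩
    · exact ⟨m, hm, fun j hj => h j (hsub j hj)⟩
    by_cases hex : ∃ v, K v ∧ v ∉ R
    · obtain ⟨hv, hvR⟩ := Nat.find_spec hex
      have hvC := (hsub _ hv).resolve_left hvR
      refine ih _ _ (hC _ hvC) fun j hj => ?_
      by_cases hjR : j ∈ R
      · exact Or.inl (List.mem_cons_of_mem _ hjR)
      by_cases hjv : j = Nat.find hex
      · exact Or.inl (hjv ▸ List.mem_cons_self ..)
      refine Or.inr (List.mem_filter.2 ⟨(hsub j hj).resolve_left hjR, ?_⟩)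
      rw [Bool.and_eq_true, Nat.blt_eq]
      exact ⟨lt_of_le_of_ne (Nat.find_min' hex ⟨hj, hjR⟩) (Ne.symm hjv), hK _ _ hv hj (Ne.symm hjv)⟩
    · push Not at hex
      exact ⟨m, hm, fun j hj => hR j (hex j hj)⟩

/-- The distinguished elements. -/
def ESet (k : ℕ) : Set SUV := {x | x = 1 ∨ ∃ j, inE k j = true ∧ Invol k j x}

theorem eset_facts (hk : k < 3) : (∀ x ∈ ESet k, x * x = 1) ∧ ∀ x ∈ ESet k, ∀ y ∈ ESet k, x * y ∈ ESet k := by
  obtain ⟨h1, -, -, -⟩ := invol_facts hk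
  have hsq : ∀ x ∈ ESet k, x * x = 1 := by
    rintro x (rfl | ⟨j, -, hj⟩)
    · exact one_mul 1
    · obtain ⟨y, hy, -, hy2⟩ := h1 j hj.1
      rwa [has_ext hj.2.2.2 hy.2.2.2]
  refine ⟨hsq, ?_⟩
  rintro x (rfl | ⟨a, ha, hx⟩) y hy
  · rwa [one_mul]
  rcases hy with rfl | ⟨b, hb, hy⟩
  · rw [mul_one]; exact Or.inr ⟨a, ha, hx⟩
  have h := e_ok k hk
  simp only [chkE, List.all_eq_true, List.mem_range, Bool.or_eq_true, Bool.not_eq_true', List.any_eq_true,
    Bool.and_eq_true, beq_iff_eq] at h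
  rcases ((h a hx.1).resolve_left (by rw [ha]; simp) b hy.1) with (e | e) | ⟨c, hc, hci, e⟩
  · rw [hb] at e; exact absurd e (by simp)
  · exact Or.inl (has_ext (has_mul hx.2.2.2 hy.2.2.2) (e.symm ▸ has_one))
  · obtain ⟨w, hw, -, -⟩ := h1 c hc
    exact Or.inr ⟨c, hci, (has_ext (has_mul hx.2.2.2 hy.2.2.2) (by rw [ivL, ivL] at e; rw [e]; exact hw.2.2.2)) ▸ hw⟩

theorem inv_self_of_sq {x : SUV} (h : x * x = 1) : x⁻¹ = x := inv_eq_of_mul_eq_one_right h

/-- The distinguished subgroup of order sixteen. -/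
def E (hk : k < 3) : Subgroup SUV where
  carrier := ESet k
  one_mem' := Or.inl rfl
  mul_mem' := fun {a b} ha hb => (eset_facts hk).2 a ha b hb
  inv_mem' := fun {a} ha => by
    show a⁻¹ ∈ ESet k
    rw [inv_self_of_sq ((eset_facts hk).1 a ha)]
    exact ha

theorem E_le (hk : k < 3) : E hk ≤ P0 k := by
  rintro x (rfl | ⟨j, -, hj⟩)
  exacts [one_mem _, hj.2.2.1]

theorem E_sq (hk : k < 3) : ∀ x ∈ E hk, x * x = 1 := (eset_facts hk).1

theorem count_big (hk : k < 3) : (List.range 35).countP (inE k) = 15 := by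
  have h := cl_ok k hk
  simp only [chkCl, Bool.and_eq_true, List.all_eq_true, List.mem_range, Nat.beq_eq, Nat.blt_eq] at h
  have := h.2 (ep k) (by omega)
  rwa [if_pos (show ep k < 2 by omega)] at this

theorem card_set (p : ℕ → Bool) :
    Nat.card (Option {j : Fin 35 // p j.1 = true}) = (List.range 35).countP p + 1 := by
  rw [Finite.card_option, Nat.card_eq_fintype_card, Fintype.card_subtype]
  congr 1
  rw [List.countP_eq_length_filter, ← List.toFinset_card_of_nodup (List.nodup_range.filter _)]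
  refine Finset.card_bij (fun j _ => j.1) (fun j hj => ?_) (fun a _ b _ e => Fin.ext e) fun b hb => ?_
  · exact List.mem_toFinset.2 (List.mem_filter.2 ⟨List.mem_range.2 j.2, (Finset.mem_filter.1 hj).2⟩)
  · obtain ⟨h1, h2⟩ := List.mem_filter.1 (List.mem_toFinset.1 hb)
    exact ⟨⟨b, List.mem_range.1 h1⟩, Finset.mem_filter.2 ⟨Finset.mem_univ _, h2⟩, rfl⟩

theorem card_E (hk : k < 3) : Nat.card (E hk) = 16 := by
  classical
  obtain ⟨h1, -, huniq, -⟩ := invol_facts hk
  choose f hf hf1 _ using h1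
  have hc := card_set (inE k)
  rw [count_big hk] at hc
  rw [show (16 : ℕ) = 15 + 1 from rfl, ← hc]
  let F : Option {j : Fin 35 // inE k j.1 = true} → E hk := fun o =>
    match o with
    | none => 1
    | some j => ⟨f j.1.1 j.1.2, Or.inr ⟨_, j.2, hf _ _⟩⟩
  refine (Nat.card_congr (Equiv.ofBijective F ⟨?_, ?_⟩)).symm
  · rintro (_ | a) (_ | b) e
    · rfl
    · exact absurd (congrArg Subtype.val e).symm (hf1 _ _)
    · exact absurd (congrArg Subtype.val e) (hf1 _ _)
    · have e' : f a.1.1 a.1.2 = f b.1.1 b.1.2 := congrArg Subtype.val e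
      exact congrArg some (Subtype.ext (Fin.ext (huniq _ _ _ (e' ▸ hf a.1.1 a.1.2) (hf _ _))))
  · rintro ⟨x, rfl | ⟨j, hj, hx⟩⟩
    · exact ⟨none, rfl⟩
    · exact ⟨some ⟨⟨j, hx.1⟩, hj⟩, Subtype.ext (has_ext (hf _ _).2.2.2 hx.2.2.2)⟩

theorem invol_fix {j : ℕ} {x : SUV} (hx : Invol k j x) {c : ℕ} (hc : c < 4096) :
    x • vecOf c = vecOf c ↔ app (ivL k j) c = c := by
  rw [has_app hx.2.2.2 hc]
  exact ⟨fun h => vecOf_inj (app_lt hx.2.2.2.2.1 _) hc h, fun h => congrArg vecOf h⟩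

/-- The vectors fixed by a subgroup. -/
abbrev Fix (X : Subgroup SUV) : Type := {v : Fin 6 → K4 // ∀ a ∈ X, a • v = v}

theorem fix_E (hk : k < 3) (v : Fin 6 → K4) : (∀ a ∈ E hk, a • v = v) ↔ enc6 v ∈ uw k := by
  obtain ⟨h1, -, -, -⟩ := invol_facts hk
  have h := fix_ok k hk
  simp only [chkFix, Bool.and_eq_true, List.all_eq_true, List.mem_range, beq_iff_eq] at h
  obtain ⟨⟨⟨⟨⟨⟨⟨-, hU⟩, -⟩, -⟩, -⟩, -⟩, -⟩, -⟩ := h
  rw [← List.contains_iff_mem, ← hU _ (enc6_lt v)]
  simp only [List.all_eq_true, List.mem_range, Bool.or_eq_true, Bool.not_eq_true', Nat.beq_eq]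
  constructor
  · intro hv j hj
    by_cases hje : inE k j = true
    · obtain ⟨x, hx, -, -⟩ := h1 j hj
      refine Or.inr ((invol_fix hx (enc6_lt v)).1 ?_)
      rw [vecOf_enc6]; exact hv x (Or.inr ⟨j, hje, hx⟩)
    · exact Or.inl (by simpa using hje)
  · rintro hv a (rfl | ⟨j, hje, hj⟩)
    · exact one_smul _ _
    · have := (invol_fix hj (enc6_lt v)).2 ((hv j hj.1).resolve_left (by rw [hje]; simp))
      rwa [vecOf_enc6] at this

theorem uw_facts (hk : k < 3) : (uw k).length = 64 ∧ (uw k).Nodup ∧ (∀ u ∈ uw k, u < 4096) ∧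
    (∀ u ∈ uw k, ∀ w ∈ uw k, hermC u w = 0) ∧ (ub k).length = 6 ∧ (∀ u ∈ ub k, u ∈ uw k) ∧
    (∀ c < 4096, (∀ u ∈ ub k, hermC c u = 0) → c ∈ uw k) ∧
    ∀ u ∈ uw k, ∃ m < 64, ((List.range 6).map fun t => (m / 2 ^ t % 2) * (ub k).getD t 0).foldr (· ^^^ ·) 0 = u := by
  have h := fix_ok k hk
  simp only [chkFix, Bool.and_eq_true, List.all_eq_true, List.mem_range, Nat.beq_eq, Nat.blt_eq, decide_eq_true_eq,
    List.contains_iff_mem, Bool.or_eq_true, Bool.not_eq_true', List.any_eq_true] at h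
  obtain ⟨⟨⟨⟨⟨⟨⟨⟨⟨h1, h2⟩, h3⟩, -⟩, -⟩, h4⟩, h5⟩, h6⟩, h7⟩, h8⟩ := h
  refine ⟨h1, h2, h3, h4, h5, h6, fun c hc hu => (h7 c hc).resolve_left fun e => ?_, h8⟩
  rw [List.all_eq_false] at e
  obtain ⟨u, hu', e⟩ := e
  exact e (by rw [hu u hu']; rfl)

theorem card_fix_E (hk : k < 3) : Nat.card (Fix (E hk)) = 64 := by
  obtain ⟨hl, hnd, hlt, -⟩ := uw_facts hk
  rw [← hl, ← List.toFinset_card_of_nodup hnd, ← Nat.card_eq_finsetCard]
  exact Nat.card_congr
    { toFun := fun v => ⟨enc6 v.1, List.mem_toFinset.2 ((fix_E hk v.1).1 v.2)⟩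
      invFun := fun c => ⟨vecOf c.1, (fix_E hk _).2 (by
        rw [enc6_vecOf (hlt _ (List.mem_toFinset.1 c.2))]; exact List.mem_toFinset.1 c.2)⟩
      left_inv := fun v => Subtype.ext (vecOf_enc6 _)
      right_inv := fun c => Subtype.ext (enc6_vecOf (hlt _ (List.mem_toFinset.1 c.2))) }

/-- Elementary abelian subgroups of the subgroup. -/
theorem elem_le (hk : k < 3) {X : Subgroup SUV} (hX : X ≤ P0 k) (hsq : ∀ a ∈ X, a * a = 1) :
    Nat.card X ≤ 16 ∧ (Nat.card X = 16 → 64 ≤ Nat.card (Fix X) → X = E hk) := by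
  classical
  obtain ⟨h1, h2, huniq, hadj⟩ := invol_facts hk
  let K : ℕ → Prop := fun j => ∃ x ∈ X, Invol k j x
  have hK : ∀ a b, K a → K b → a ≠ b → ((adj k).getD a 0).testBit b = true := by
    rintro a b ⟨x, hx, ha⟩ ⟨y, hy, hb⟩ hab
    refine hadj a b x y ha hb hab ?_
    rw [← inv_self_of_sq (hsq _ (mul_mem hx hy)), _root_.mul_inv_rev, inv_self_of_sq (hsq x hx),
      inv_self_of_sq (hsq y hy)]
  have h := cl_ok k hk
  simp only [chkCl, Bool.and_eq_true, List.all_eq_true, List.mem_range, Nat.beq_eq, Nat.blt_eq,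
    Bool.not_eq_true'] at h
  obtain ⟨⟨⟨⟨⟨hbk, hlen⟩, hep⟩, he0⟩, hne⟩, hcnt⟩ := h
  have hne' : ep k ≠ e0 k := fun e => by simp [e] at hne
  obtain ⟨m, hm, hmK⟩ := bk_sound K hK 16 [] (List.range 35) hbk
    (fun j hj => by obtain ⟨x, -, hx⟩ := hj; exact Or.inr (List.mem_range.2 hx.1))
  obtain ⟨c, hc, rfl⟩ := List.getElem_of_mem hm
  have hc6 : c < 6 := hlen ▸ hc
  have hbig : bigSet k c = (cl k)[c] := List.getD_eq_getElem _ _ hc
  let S := {j : Fin 35 // (bigSet k c).testBit j.1 = true}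
  have hf : ∀ a : X, a.1 ≠ 1 → ∃ j : S, Invol k j.1.1 a.1 := fun a ha => by
    obtain ⟨j, hj⟩ := h2 a.1 (hX a.2) ha (hsq _ a.2)
    exact ⟨⟨⟨j, hj.1⟩, by rw [hbig]; exact hmK j ⟨a.1, a.2, hj⟩⟩, hj⟩
  let F : X → Option S := fun a => if h : a.1 = 1 then none else some (hf a h).choose
  have hFinj : Function.Injective F := by
    intro a b e
    simp only [F] at e
    split_ifs at e with ha hb hb
    · exact Subtype.ext (ha.trans hb.symm)
    · refine Subtype.ext (has_ext (hf a ha).choose_spec.2.2.2 ?_)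
      rw [Option.some.inj e]
      exact (hf b hb).choose_spec.2.2.2
  have hle := Nat.card_le_card_of_injective F hFinj
  rw [card_set] at hle
  rw [hcnt c hc6] at hle
  refine ⟨hle.trans (by split <;> norm_num), fun h16 hfix => ?_⟩
  rw [h16] at hle
  have hc2 : c < 2 := by
    by_contra hc'
    rw [if_neg hc'] at hle
    omega
  have hbij : Function.Bijective F := (Nat.bijective_iff_injective_and_card F).2 ⟨hFinj, by
    rw [h16, card_set, hcnt c hc6, if_pos hc2]⟩
  have hall : ∀ j, j < 35 → (bigSet k c).testBit j = true → ∃ x ∈ X, Invol k j x := fun j hj hbit => by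
    obtain ⟨a, ha⟩ := hbij.2 (some ⟨⟨j, hj⟩, hbit⟩)
    simp only [F] at ha
    split_ifs at ha with h1'
    refine ⟨a.1, a.2, ?_⟩
    have := (hf a h1').choose_spec
    rwa [Option.some.inj ha] at this
  by_cases hce : c = ep k
  · refine Subgroup.eq_of_le_of_card_ge (fun a ha => ?_) (by rw [card_E hk, h16])
    by_cases ha1 : a = 1
    · exact Or.inl ha1
    · obtain ⟨j, hj⟩ := hf ⟨a, ha⟩ ha1
      exact Or.inr ⟨j.1.1, by rw [inE, ← hce]; exact j.2, hj⟩
  exfalso
  have hc0 : c = e0 k := by omega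
  have hfx := fix_ok k hk
  simp only [chkFix, Bool.and_eq_true, Nat.blt_eq] at hfx
  have h64 := hfx.1.1.1.1.1.2
  rw [List.countP_eq_length_filter, ← List.toFinset_card_of_nodup ((List.nodup_range).filter _),
    ← Nat.card_eq_finsetCard] at h64
  refine absurd hfix (not_le.2 (lt_of_le_of_lt ?_ h64))
  have hmem : ∀ v : Fix X, enc6 v.1 ∈ ((List.range 4096).filter fun c => (List.range 35).all fun j =>
      !(bigSet k (e0 k)).testBit j || Nat.beq (app (ivL k j) c) c).toFinset := fun v => by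
    refine List.mem_toFinset.2 (List.mem_filter.2 ⟨List.mem_range.2 (enc6_lt _), ?_⟩)
    simp only [List.all_eq_true, List.mem_range, Bool.or_eq_true, Bool.not_eq_true', Nat.beq_eq]
    intro j hj
    by_cases hb : (bigSet k (e0 k)).testBit j = true
    · obtain ⟨x, hx, hxj⟩ := hall j hj (hc0 ▸ hb)
      refine Or.inr ((invol_fix hxj (enc6_lt _)).1 ?_)
      rw [vecOf_enc6]; exact v.2 x hx
    · exact Or.inl (by simpa using hb)
  refine Nat.card_le_card_of_injective (fun v : Fix X => (⟨enc6 v.1, hmem v⟩ :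
    {c // c ∈ ((List.range 4096).filter fun c => (List.range 35).all fun j =>
      !(bigSet k (e0 k)).testBit j || Nat.beq (app (ivL k j) c) c).toFinset})) ?_
  intro a b e
  exact Subtype.ext (by rw [← vecOf_enc6 a.1, ← vecOf_enc6 b.1]; exact congrArg vecOf (congrArg Subtype.val e))

/-- An involution fixes at most 512 vectors. -/
theorem invol_move (hk : k < 3) {x : SUV} (hx : x ∈ P0 k) (h1 : x ≠ 1) (hsq : x * x = 1) :
    Nat.card {v : Fin 6 → K4 // x • v = v} ≤ 512 := by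
  obtain ⟨j, hj⟩ := (invol_facts hk).2.1 x hx h1 hsq
  have h := move_ok k hk
  simp only [chkMove, List.all_eq_true, List.mem_range, Bool.and_eq_true, Nat.blt_eq, Nat.beq_eq,
    decide_eq_true_eq] at h
  obtain ⟨⟨hlt, hlen⟩, hnd⟩ := h j hj.1
  set b := (wit k).getD j [] with hb
  have hblt : ∀ t, b.getD t 0 < 12 := fun t => by
    rcases Nat.lt_or_ge t b.length with ht | ht
    · rw [List.getD_eq_getElem _ _ ht]; exact hlt _ (List.getElem_mem _)
    · rw [List.getD_eq_default _ _ ht]; norm_num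
  let φ : (Fin 6 → K4) →+ (Fin 6 → K4) := mvHom x + AddMonoidHom.id _
  have hφ : ∀ t, φ (vecOf (2 ^ b.getD t 0)) = vecOf ((ivL k j).getD (b.getD t 0) 0 ^^^ 2 ^ b.getD t 0) := fun t => by
    show x • vecOf _ + vecOf _ = _
    rw [hj.2.2.2.2.2 _ (hblt t), vecOf_xor]
    rfl
  have hpreim : ∀ m < 8, ∃ u, φ u = vecOf (((List.range 3).map fun t =>
      (m / 2 ^ t % 2) * ((ivL k j).getD (b.getD t 0) 0 ^^^ 2 ^ b.getD t 0)).foldr (· ^^^ ·) 0) := by
    intro m _
    refine ⟨vecOf (((List.range 3).map fun t => (m / 2 ^ t % 2) * 2 ^ b.getD t 0).foldr (· ^^^ ·) 0), ?_⟩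
    induction List.range 3 with
    | nil => simp [vecOf_zero]
    | cons t l ih =>
      simp only [List.map_cons, List.foldr_cons]
      rw [vecOf_xor, map_add, ih, vecOf_xor]
      congr 1
      rcases Nat.mod_two_eq_zero_or_one (m / 2 ^ t) with e | e
      · rw [e, zero_mul, zero_mul, vecOf_zero, map_zero]
      · rw [e, one_mul, one_mul, hφ]
  choose pre hpre using hpreim
  have hfix : ∀ v : {v : Fin 6 → K4 // x • v = v}, φ v.1 = 0 := fun v => by
    show x • v.1 + v.1 = 0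
    rw [v.2]; exact funext fun i => (by generalize v.1 i = a; revert a; decide +kernel : v.1 i + v.1 i = 0)
  have hxl : ∀ e, (ivL k j).getD e 0 < 4096 := fun e => by
    rcases Nat.lt_or_ge e (ivL k j).length with ht | ht
    · rw [List.getD_eq_getElem _ _ ht]; exact hj.2.2.2.2.1 _ (List.getElem_mem _)
    · rw [List.getD_eq_default _ _ ht]; norm_num
  have hsum_lt : ∀ m, ((List.range 3).map fun t =>
      (m / 2 ^ t % 2) * ((ivL k j).getD (b.getD t 0) 0 ^^^ 2 ^ b.getD t 0)).foldr (· ^^^ ·) 0 < 4096 := fun m => by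
    induction List.range 3 with
    | nil => simp
    | cons t l ih =>
      simp only [List.map_cons, List.foldr_cons]
      refine Nat.xor_lt_two_pow (n := 12) ?_ ih
      rcases Nat.mod_two_eq_zero_or_one (m / 2 ^ t) with e | e <;> rw [e]
      · simp
      · rw [one_mul]; exact Nat.xor_lt_two_pow (n := 12) (hxl _) (two_pow_lt (hblt t))
  have hcard := Nat.card_le_card_of_injective
    (fun p : {v : Fin 6 → K4 // x • v = v} × Fin 8 => p.1.1 + pre p.2.1 p.2.2) (fun p p' e => by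
      have e' := congrArg φ e
      simp only [map_add, hfix, zero_add, hpre] at e'
      have := vecOf_inj (hsum_lt _) (hsum_lt _) e'
      have hm : p.2.1 = p'.2.1 := List.inj_on_of_nodup_map hnd (List.mem_range.2 p.2.2) (List.mem_range.2 p'.2.2) this
      have hm' : p.2 = p'.2 := Fin.ext hm
      obtain ⟨v, i⟩ := p
      obtain ⟨v', i'⟩ := p'
      obtain rfl : i = i' := hm'
      exact Prod.ext (Subtype.ext (add_right_cancel e)) rfl)
  have h4096 : Nat.card (Fin 6 → K4) ≤ 4096 := by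
    rw [← Nat.card_fin 4096]
    exact Nat.card_le_card_of_injective (fun v => (⟨enc6 v, enc6_lt v⟩ : Fin 4096))
      fun a b e => by rw [← vecOf_enc6 a, ← vecOf_enc6 b]; exact congrArg vecOf (congrArg Fin.val e)
  rw [Nat.card_prod, Nat.card_fin] at hcard
  omega

theorem nprd_lt (hk : k < 3) : ∀ p ∈ nprd k, p.1 < 15 := by
  interval_cases k <;> decide +kernel

/-- The normalising words move one element to every other. -/
theorem norm_trans (hk : k < 3) {a b : SUV} (ha : a ∈ E hk) (ha1 : a ≠ 1) (hb : b ∈ E hk) (hb1 : b ≠ 1) :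
    ∃ n ∈ cover62 k, n * a * n⁻¹ = b ∧ ∀ e ∈ E hk, n * e * n⁻¹ ∈ E hk := by
  obtain ⟨h1, -, huniq, -⟩ := invol_facts hk
  have h := norm_ok k hk
  simp only [chkNorm, Bool.and_eq_true, List.all_eq_true, List.mem_range, Nat.beq_eq, Nat.blt_eq, beq_iff_eq,
    List.any_eq_true, Bool.or_eq_true] at h
  obtain ⟨⟨⟨⟨hw4, hml⟩, hact⟩, hcov⟩, hprd⟩ := h
  have hmem : ∀ t < 15, (mem k).getD t 0 < 35 ∧ inE k ((mem k).getD t 0) = true := fun t ht => by
    rw [List.getD_eq_getElem _ _ (hml.symm ▸ ht)]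
    have := List.mem_filter.1 (List.getElem_mem (hml.symm ▸ ht : t < (mem k).length))
    exact ⟨List.mem_range.1 this.1, this.2⟩
  choose f hf hf1 _ using h1
  set e' : ∀ t, t < 15 → SUV := fun t ht => f _ (hmem t ht).1 with he'
  have hsurj : ∀ x ∈ E hk, x ≠ 1 → ∃ t, ∃ ht : t < 15, x = e' t ht := by
    rintro x (rfl | ⟨j, hj, hx⟩) hx1
    · exact absurd rfl hx1
    have : j ∈ mem k := List.mem_filter.2 ⟨List.mem_range.2 hx.1, hj⟩
    obtain ⟨t, ht, rfl⟩ := List.getElem_of_mem this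
    have hx' : Invol k ((mem k).getD t 0) x := by rw [List.getD_eq_getElem _ _ ht]; exact hx
    exact ⟨t, hml ▸ ht, has_ext hx'.2.2.2 (hf _ (hmem t (hml ▸ ht)).1).2.2.2⟩
  have hcast : ∀ (a b : ℕ) (h : a < 15) (h' : b < 15), a = b → e' a h = e' b h' := by
    intro a b h h' e
    subst e
    rfl
  let N : Subgroup SUV := cover62 k ⊓ Subgroup.normalizer ((E hk : Subgroup SUV) : Set SUV)
  have hgen : ∀ s, ∀ hs : s < (nW k).length, ev (kgen k) ((nW k).getD s []) ∈ N ∧ ∀ t (ht : t < 15),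
      ev (kgen k) ((nW k).getD s []) * e' t ht * (ev (kgen k) ((nW k).getD s []))⁻¹ =
        e' _ (hact s hs t ht).1 := by
    intro s hs
    have hsm : (nW k).getD s [] ∈ nW k := by rw [List.getD_eq_getElem _ _ hs]; exact List.getElem_mem _
    have hrel : ∀ t (ht : t < 15), ev (kgen k) ((nW k).getD s []) * e' t ht * (ev (kgen k) ((nW k).getD s []))⁻¹ =
        e' _ (hact s hs t ht).1 := fun t ht => by
      rw [mul_inv_eq_iff_eq_mul]
      exact has_ext (has_mul (has_word hk (hw4 _ hsm)) (hf _ _).2.2.2)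
        ((congrArg (Has _) (hact s hs t ht).2).mpr (has_mul (hf _ _).2.2.2 (has_word hk (hw4 _ hsm))))
    refine ⟨⟨word_mem hk _, Subgroup.mem_normalizer_iff_map_conj_eq.2 ?_⟩, hrel⟩
    refine Subgroup.eq_of_le_of_card_ge ?_ (le_of_eq (Subgroup.card_map_of_injective (MulAut.conj _).injective).symm)
    rintro _ ⟨x, hx, rfl⟩
    show ev (kgen k) _ * x * (ev (kgen k) _)⁻¹ ∈ E hk
    by_cases hx1 : x = 1
    · rw [hx1, mul_one, mul_inv_cancel]; exact one_mem _
    obtain ⟨t, ht, rfl⟩ := hsurj x hx hx1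
    rw [hrel t ht]
    exact Or.inr ⟨_, (hmem _ (hact s hs t ht).1).2, hf _ _⟩
  have hreach : ∀ i < 15, ∃ n ∈ N, ∀ (h0 : 0 < 15) (ht : ((nprd k).getD i (0, 0, 0)).1 < 15),
      n * e' 0 h0 * n⁻¹ = e' _ ht := by
    intro i
    induction i using Nat.strong_induction_on with
    | _ i ih =>
      intro hi
      rcases hprd i hi with ⟨-, h0'⟩ | ⟨⟨hs, hh, hhi, hhe⟩, hval⟩
      · refine ⟨1, one_mem _, fun h0 ht => ?_⟩
        rw [one_mul, inv_one, mul_one]
        exact hcast _ _ h0 ht h0'.symm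
      · obtain ⟨n, hn, hn'⟩ := ih hh hhi (hhi.trans hi)
        refine ⟨ev (kgen k) ((nW k).getD ((nprd k).getD i (0, 0, 0)).2.2 []) * n,
          mul_mem (hgen _ hs).1 hn, fun h0 ht => ?_⟩
        have h15 : ((nprd k).getD hh (0, 0, 0)).1 < 15 := by
          by_contra hcon
          push Not at hcon
          have hall := nprd_lt hk
          rcases Nat.lt_or_ge hh (nprd k).length with h | h
          · exact absurd (hall _ (List.getElem_mem h)) (by rw [List.getD_eq_getElem _ _ h] at hcon; omega)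
          · rw [List.getD_eq_default _ _ h] at hcon; simp at hcon
        rw [_root_.mul_inv_rev, mul_assoc, mul_assoc, ← mul_assoc n (e' 0 h0), ← mul_assoc (n * e' 0 h0), hn' h0 h15,
          ← mul_assoc, (hgen _ hs).2 _ h15]
        exact hcast _ _ (hact _ hs _ h15).1 ht (by rw [hhe]; exact hval)
  have hto : ∀ x ∈ E hk, x ≠ 1 → ∃ n ∈ N, n * e' 0 (by norm_num) * n⁻¹ = x := fun x hx hx1 => by
    obtain ⟨t, ht, rfl⟩ := hsurj x hx hx1
    obtain ⟨i, hi, e⟩ := hcov t ht
    subst e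
    obtain ⟨n, hn, h⟩ := hreach i hi
    exact ⟨n, hn, h (by norm_num) ht⟩
  obtain ⟨p, hp, ep'⟩ := hto a ha ha1
  obtain ⟨q, hq, eq'⟩ := hto b hb hb1
  have hpq := mul_mem hq (inv_mem hp)
  refine ⟨q * p⁻¹, hpq.1, ?_, fun e he => ?_⟩
  · rw [← ep', ← eq']; group
  · exact (Subgroup.mem_normalizer_iff.1 hpq.2 e).1 he

end Cfsg.Agent.Fus.LargeFischerSylow
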