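/-
The elementary abelian group of order `2^11` over a totally singular space in a group of large Fischer type.
-/
import Cfsg.Agent.Lib.Fus.LargeFischerScalar
import Cfsg.Agent.Lib.Fus.LargeFischerSylow

set_option autoImplicit false
set_option maxRecDepth 100000
set_option linter.unusedSectionVars false
set_option linter.style.haveILetI false

open Cfsg Cfsg.Agent.Classical Cfsg.Agent.Spor.Cos Cfsg.Agent.Spor.LargeFischer Matrix
open Cfsg.Agent.Spor.USixTwo (K4 vecOf)
open Cfsg.Agent.Spor.U62U43 (cover62)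
open Cfsg.Agent.Fus.LargeFischerScalar

namespace Cfsg.Agent.Fus.LargeFischerAbelian

open LargeFischerSylow (P0 E Fix uw ub)

theorem four_add : ∀ a : K4, a + a = 0 := by decide +kernel

theorem trace_rot : ∀ h : K4, h + h ^ 2 = 0 → (ω ^ 2 * h) + (ω ^ 2 * h) ^ 2 = 0 → h = 0 := by decide +kernel

theorem vec_add_self (v : Fin 6 → K4) : v + v = 0 := funext fun i => four_add (v i)

variable {k : ℕ}

/-- A 2-subgroup of the cover lies in a conjugate of the tabled one. -/
theorem exists_conj_P0 (hk : k < 3) (X : Subgroup SUV) (hX : X ≤ cover62 k) (hp : IsPGroup 2 X) :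
    ∃ c ∈ cover62 k, ∀ x ∈ X, c⁻¹ * x * c ∈ P0 k := by
  haveI : Fact (Nat.Prime 2) := ⟨Nat.prime_two⟩
  set C := cover62 k with hC
  have hP : Nat.card ((P0 k).subgroupOf C) = 2 ^ 7 := by
    rw [Nat.card_congr (Subgroup.subgroupOfEquivOfLe (LargeFischerSylow.P0_le hk)).toEquiv,
      LargeFischerSylow.card_P0 hk]
    rfl
  have hfac : (Nat.card C).factorization 2 = 7 := by
    rw [hC, card_cover hk, show (9797760 : ℕ) = 2 ^ 7 * 76545 by norm_num,
      Nat.factorization_mul (by norm_num) (by norm_num), Nat.Prime.factorization_pow Nat.prime_two]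
    simp [Nat.factorization_eq_zero_of_not_dvd (show ¬ 2 ∣ 76545 by norm_num)]
  let P : Sylow 2 C := Sylow.ofCard ((P0 k).subgroupOf C) (by rw [hP, hfac])
  obtain ⟨P', hle⟩ := (hp.of_equiv (Subgroup.subgroupOfEquivOfLe hX).symm).exists_le_sylow
  obtain ⟨g, hg⟩ := MulAction.exists_smul_eq C P P'
  refine ⟨g.1, g.2, fun x hx => ?_⟩
  have h1 : (⟨x, hX hx⟩ : C) ∈ (g • P : Sylow 2 C) := by rw [hg]; exact hle hx
  change _ ∈ ((g • P : Sylow 2 C) : Subgroup C) at h1
  rw [Sylow.coe_subgroup_smul, Subgroup.mem_pointwise_smul_iff_inv_smul_mem] at h1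
  have h2 : g⁻¹ * ⟨x, hX hx⟩ * g ∈ (P0 k).subgroupOf C := by
    simpa [P, MulAut.smul_def, MulAut.conj_apply, MulAut.conj_inv_apply] using h1
  exact h2

/-- Only the sixteen elements fix the totally singular space. -/
theorem fixer_eq (hk : k < 3) {g : SUV} (hg : g ∈ cover62 k)
    (hfix : ∀ v : Fin 6 → K4, (∀ a ∈ E hk, a • v = v) → g • v = v) : g ∈ E hk := by
  obtain ⟨-, -, hlt, -, -, hub, hperp, -⟩ := LargeFischerSylow.uw_facts hk
  let S : Subgroup SUV :=
    { carrier := {x | x ∈ cover62 k ∧ ∀ v : Fin 6 → K4, (∀ a ∈ E hk, a • v = v) → x • v = v}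
      one_mem' := ⟨one_mem _, fun v _ => one_smul _ _⟩
      mul_mem' := fun {a b} ha hb => ⟨mul_mem ha.1 hb.1, fun v hv => by rw [mul_smul, hb.2 v hv, ha.2 v hv]⟩
      inv_mem' := fun {a} ha => ⟨inv_mem ha.1, fun v hv => by
        conv_lhs => rw [← ha.2 v hv, inv_smul_smul]⟩ }
  have hsq : ∀ x ∈ S, x * x = 1 := by
    rintro x ⟨-, hx⟩
    refine suVal_ext (Matrix.toLin'.injective (LinearMap.ext fun v => ?_))
    rw [Matrix.toLin'_apply, Matrix.toLin'_apply, ← smul_def, ← smul_def, mul_smul, one_smul]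
    have hU : ∀ a ∈ E hk, a • (x • v + v) = x • v + v := by
      refine (LargeFischerSylow.fix_E hk _).2 (hperp _ (enc6_lt _) fun u hu => ?_)
      have hu' : x • vecOf u = vecOf u := hx _ ((LargeFischerSylow.fix_E hk _).2 (by
        rw [enc6_vecOf (hlt u (hub u hu))]; exact hub u hu))
      refine (hermC_zero _ _).1 ?_
      rw [vecOf_enc6]
      have e : hermForm 6 K4 2 (x • v) (vecOf u) = hermForm 6 K4 2 v (vecOf u) := by
        conv_lhs => rw [← hu', smul_herm]
      simp only [hermForm, Pi.add_apply, add_mul, Finset.sum_add_distrib] at e ⊢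
      rw [e]
      exact four_add _
    have h2 := hx _ hU
    rw [smul_add'] at h2
    calc x • x • v = x • x • v + (x • v + x • v) := by rw [vec_add_self, add_zero]
      _ = x • v + v + x • v := by rw [← add_assoc, h2]
      _ = v := by rw [add_comm (x • v) v, add_assoc, vec_add_self, add_zero]
  have hp : IsPGroup 2 S := fun x => ⟨1, Subtype.ext (by
    show x.1 ^ (2 ^ 1) = 1
    rw [pow_one, pow_two]; exact hsq x.1 x.2)⟩
  obtain ⟨c, hc, hcP⟩ := exists_conj_P0 hk S (fun x hx => hx.1) hp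
  have hcard : Nat.card S ≤ 16 := by
    rw [← Subgroup.card_map_of_injective (K := S) (f := (MulAut.conj c⁻¹).toMonoidHom) (MulAut.conj c⁻¹).injective]
    refine (LargeFischerSylow.elem_le hk ?_ ?_).1
    · rintro _ ⟨x, hx, rfl⟩
      show c⁻¹ * x * c⁻¹⁻¹ ∈ P0 k
      rw [inv_inv]; exact hcP x hx
    · rintro _ ⟨x, hx, rfl⟩
      show MulAut.conj c⁻¹ x * MulAut.conj c⁻¹ x = 1
      rw [← map_mul, hsq x hx, map_one]
  have hES : E hk ≤ S := fun a ha =>
    ⟨LargeFischerSylow.P0_le hk (LargeFischerSylow.E_le hk ha), fun v hv => hv a ha⟩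
  rw [Subgroup.eq_of_le_of_card_ge hES (by rw [LargeFischerSylow.card_E hk]; exact hcard)]
  exact ⟨hg, hfix⟩

section

variable {G : Type*} [Group G] [Finite G] {z : G} {Q : Subgroup (Subgroup.centralizer ({z} : Set G))}
  [hQn : Q.Normal] (m : Model z Q)

/-- The space. -/
def InU (v : Fin 6 → K4) : Prop := ∀ a ∈ E m.hk, a • v = v

theorem inU_add {u w : Fin 6 → K4} (hu : InU m u) (hw : InU m w) : InU m (u + w) := fun a ha => by
  rw [smul_add', hu a ha, hw a ha]

theorem inU_smul (c : K4) {u : Fin 6 → K4} (hu : InU m u) : InU m (c • u) := fun a ha => by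
  rw [smul_scalar, hu a ha]

theorem inU_herm {u w : Fin 6 → K4} (hu : InU m u) (hw : InU m w) : hermForm 6 K4 2 u w = 0 := by
  rw [← vecOf_enc6 u, ← vecOf_enc6 w, hermC_zero]
  exact (LargeFischerSylow.uw_facts m.hk).2.2.2.1 _ ((LargeFischerSylow.fix_E m.hk u).1 hu) _
    ((LargeFischerSylow.fix_E m.hk w).1 hw)

/-- Coordinates as a homomorphism. -/
def repHom : Q →* Multiplicative (Fin 6 → K4) :=
  MonoidHom.mk' (fun x => Multiplicative.ofAdd (m.rep x)) fun x y => by rw [m.rep_mul, ofAdd_add]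

theorem rep_z : ∀ x : Q, gv x = z → m.rep x = 0 := fun x h => (m.rep_zero x).2 (Or.inr h)

/-- The preimage of the space. -/
def qu : Subgroup Q where
  carrier := {x | InU m (m.rep x)}
  one_mem' := by
    show InU m (m.rep 1)
    rw [m.rep_one]
    intro a _
    exact Matrix.mulVec_zero _
  mul_mem' := fun {x y} hx hy => by
    show InU m (m.rep (x * y))
    rw [m.rep_mul]; exact inU_add m hx hy
  inv_mem' := fun {x} hx => by
    show InU m (m.rep x⁻¹)
    rw [m.rep_inv]; exact hx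

theorem qu_sq {x : Q} (hx : x ∈ qu m) : x * x = 1 := (m.herm_zero x).1 (inU_herm m hx hx)

theorem qu_comm {x y : Q} (hx : x ∈ qu m) (hy : y ∈ qu m) : x * y = y * x := by
  have h := qu_sq m (mul_mem hx hy)
  calc x * y = (x * y)⁻¹ := (inv_eq_of_mul_eq_one_right h).symm
    _ = y⁻¹ * x⁻¹ := _root_.mul_inv_rev x y
    _ = y * x := by rw [inv_eq_of_mul_eq_one_right (qu_sq m hy), inv_eq_of_mul_eq_one_right (qu_sq m hx)]

theorem card_qu : Nat.card (qu m) = 128 := by
  have hQ : Nat.card Q = 2 ^ 13 := by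
    rw [← m.card_QG]
    exact (Subgroup.card_map_of_injective (Subgroup.subtype_injective _)).symm
  have hV : Nat.card (Multiplicative (Fin 6 → K4)) = 4096 := by
    rw [Nat.card_congr Multiplicative.toAdd, Nat.card_fun, Nat.card_fin, Nat.card_eq_fintype_card (α := K4), K4.card_eq]
    norm_num
  have htop := Spor.Leech.card_eq_ker_mul_map (repHom m) ⊤
  have hsurj : Function.Surjective (repHom m) := fun v => by
    obtain ⟨x, hx⟩ := m.rep_surj v.toAdd
    exact ⟨x, congrArg Multiplicative.ofAdd hx⟩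
  rw [Subgroup.card_top, top_inf_eq, hQ, Subgroup.map_top_of_surjective _ hsurj, Subgroup.card_top, hV] at htop
  have hker : Nat.card (repHom m).ker = 2 := by omega
  have hle : (repHom m).ker ≤ qu m := fun x hx => by
    show InU m (m.rep x)
    rw [show m.rep x = 0 from congrArg Multiplicative.toAdd (MonoidHom.mem_ker.1 hx)]
    intro a _
    exact Matrix.mulVec_zero _
  have himg : Nat.card ((qu m).map (repHom m)) = 64 := by
    rw [← LargeFischerSylow.card_fix_E m.hk]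
    refine Nat.card_congr
      { toFun := fun v => ⟨v.1.toAdd, by obtain ⟨x, hx, e⟩ := v.2; rw [← e]; exact hx⟩
        invFun := fun v => ⟨Multiplicative.ofAdd v.1, by
          obtain ⟨x, hx⟩ := m.rep_surj v.1
          exact ⟨x, show InU m (m.rep x) from hx.symm ▸ v.2, congrArg Multiplicative.ofAdd hx⟩⟩
        left_inv := fun v => rfl
        right_inv := fun v => rfl }
  rw [Spor.Leech.card_eq_ker_mul_map (repHom m) (qu m), inf_eq_right.2 hle, hker, himg]

/-- Six generators of the space lifted. -/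
noncomputable def gen (t : Fin 6) : Q := (m.rep_surj (vecOf ((ub m.k).getD t.1 0))).choose

theorem rep_gen (t : Fin 6) : m.rep (gen m t) = vecOf ((ub m.k).getD t.1 0) :=
  (m.rep_surj (vecOf ((ub m.k).getD t.1 0))).choose_spec

theorem gen_mem (t : Fin 6) : gen m t ∈ qu m := by
  obtain ⟨-, -, hlt, -, hlen, hub, -, -⟩ := LargeFischerSylow.uw_facts m.hk
  have hm : (ub m.k).getD t.1 0 ∈ ub m.k := by
    rw [List.getD_eq_getElem _ _ (hlen.symm ▸ t.2)]; exact List.getElem_mem _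
  show InU m (m.rep (gen m t))
  rw [rep_gen]
  exact (LargeFischerSylow.fix_E m.hk _).2 (by rw [enc6_vecOf (hlt _ (hub _ hm))]; exact hub _ hm)

/-- Commuting with the six generators is enough. -/
theorem comm_qu {c : Subgroup.centralizer ({z} : Set G)} (h : ∀ t, (c : G) * gv (gen m t) = gv (gen m t) * (c : G))
    {x : Q} (hx : x ∈ qu m) : (c : G) * gv x = gv x * (c : G) := by
  obtain ⟨-, -, hlt, -, -, -, -, hspan⟩ := LargeFischerSylow.uw_facts m.hk
  let C : Subgroup Q :=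
    { carrier := {y | (c : G) * gv y = gv y * (c : G)}
      one_mem' := by show (c : G) * 1 = 1 * (c : G); rw [mul_one, one_mul]
      mul_mem' := fun {a b} (ha : (c : G) * gv a = gv a * (c : G)) (hb : (c : G) * gv b = gv b * (c : G)) => by
        show (c : G) * (gv a * gv b) = gv a * gv b * (c : G)
        rw [← mul_assoc, ha, mul_assoc, hb, mul_assoc]
      inv_mem' := fun {a} (ha : (c : G) * gv a = gv a * (c : G)) => by
        show (c : G) * (gv a)⁻¹ = (gv a)⁻¹ * (c : G)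
        exact (Commute.inv_right (show Commute (c : G) (gv a) from ha)).eq }
  have hz : ∀ y : Q, (gv y = 1 ∨ gv y = z) → y ∈ C := by
    rintro y (e | e) <;> show (c : G) * gv y = gv y * (c : G) <;> rw [e]
    · rw [mul_one, one_mul]
    · exact Subgroup.mem_centralizer_singleton_iff.1 c.2
  obtain ⟨n, -, hn⟩ := hspan _ ((LargeFischerSylow.fix_E m.hk _).1 hx)
  have key : ∀ l : List ℕ, (∀ t ∈ l, t < 6) → ∃ y ∈ C, m.rep y =
      vecOf ((l.map fun t => (n / 2 ^ t % 2) * (ub m.k).getD t 0).foldr (· ^^^ ·) 0) := by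
    intro l
    induction l with
    | nil => intro _; exact ⟨1, one_mem _, by simp [m.rep_one, vecOf_zero]⟩
    | cons t l ih =>
      intro hl
      obtain ⟨y, hy, ey⟩ := ih fun s hs => hl s (List.mem_cons_of_mem _ hs)
      simp only [List.map_cons, List.foldr_cons, vecOf_xor, ← ey]
      rcases Nat.mod_two_eq_zero_or_one (n / 2 ^ t) with e | e
      · exact ⟨y, hy, by rw [e, zero_mul, vecOf_zero, zero_add]⟩
      · refine ⟨gen m ⟨t, hl t (List.mem_cons_self ..)⟩ * y, mul_mem (h _) hy, ?_⟩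
        rw [m.rep_mul, rep_gen, e, one_mul]
  obtain ⟨y, hy, ey⟩ := key (List.range 6) fun t ht => List.mem_range.1 ht
  rw [hn, vecOf_enc6] at ey
  have h0 : m.rep (x⁻¹ * y) = 0 := by rw [m.rep_mul, m.rep_inv, ey, vec_add_self]
  have := mul_mem hy (inv_mem (hz _ ((m.rep_zero _).1 h0)))
  rwa [show y * (x⁻¹ * y)⁻¹ = x by group] at this

theorem central_qu {q : Q} (h : ∀ x ∈ qu m, q * x = x * q) : q ∈ qu m := by
  obtain ⟨-, -, hlt, -, -, hub, hperp, -⟩ := LargeFischerSylow.uw_facts m.hk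
  have htr : ∀ u, InU m u → hermForm 6 K4 2 (m.rep q) u + hermForm 6 K4 2 (m.rep q) u ^ 2 = 0 := by
    intro u hu
    obtain ⟨x, rfl⟩ := m.rep_surj u
    have e : hermForm 6 K4 2 (m.rep (q * x)) (m.rep (q * x)) = 0 ↔ hermForm 6 K4 2 (m.rep q) (m.rep q) = 0 := by
      rw [m.herm_zero, m.herm_zero, show q * x * (q * x) = q * q * (x * x) by
        rw [mul_assoc, ← mul_assoc x, ← h x hu]; simp only [mul_assoc], qu_sq m hu, mul_one]
    rw [m.rep_mul, herm_add, inU_herm m hu hu, add_zero] at e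
    have hb := herm_bit (m.rep q + m.rep x)
    rw [herm_add, inU_herm m hu hu, add_zero] at hb
    revert e hb
    rcases herm_bit (m.rep q) with e1 | e1 <;> rw [e1] <;>
      generalize hermForm 6 K4 2 (m.rep q) (m.rep x) = a <;> revert a <;> decide +kernel
  refine (LargeFischerSylow.fix_E m.hk _).2 (hperp _ (enc6_lt _) fun u hu => ?_)
  have hu' : InU m (vecOf u) := (LargeFischerSylow.fix_E m.hk _).2 (by
    rw [enc6_vecOf (hlt u (hub u hu))]; exact hub u hu)
  refine (hermC_zero _ _).1 ?_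
  rw [vecOf_enc6]
  have h1 := htr _ hu'
  have h2 := htr _ (inU_smul m ω hu')
  rw [show hermForm 6 K4 2 (m.rep q) (ω • vecOf u) = ω ^ 2 * hermForm 6 K4 2 (m.rep q) (vecOf u) by
    rw [herm_swap (ω • vecOf u) (m.rep q), herm_smul, mul_pow, ← herm_swap]] at h2
  exact trace_rot _ h1 h2

/-- The group over the space. -/
def K0 : Subgroup (Subgroup.centralizer ({z} : Set G)) :=
  m.M ⊓ Subgroup.centralizer (((qu m).map Q.subtype : Subgroup (Subgroup.centralizer ({z} : Set G))) :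
    Set (Subgroup.centralizer ({z} : Set G)))

theorem mem_K0 {c : Subgroup.centralizer ({z} : Set G)} :
    c ∈ K0 m ↔ c ∈ m.M ∧ ∀ x ∈ qu m, (c : G) * gv x = gv x * (c : G) := by
  rw [K0, Subgroup.mem_inf, Subgroup.mem_centralizer_iff]
  constructor
  · rintro ⟨h1, h2⟩
    exact ⟨h1, fun x hx => (congrArg Subtype.val (h2 _ ⟨x, hx, rfl⟩)).symm⟩
  · rintro ⟨h1, h2⟩
    refine ⟨h1, ?_⟩
    rintro _ ⟨x, hx, rfl⟩
    exact Subtype.ext (h2 x hx).symm

theorem qu_le {x : Q} (hx : x ∈ qu m) : (x : Subgroup.centralizer ({z} : Set G)) ∈ K0 m :=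
  (mem_K0 m).2 ⟨m.M_le x.2, fun y hy => congrArg gv (qu_comm m hx hy)⟩

theorem K0_inf {q : Q} (h : (q : Subgroup.centralizer ({z} : Set G)) ∈ K0 m) : q ∈ qu m :=
  central_qu m fun x hx => Subtype.ext (Subtype.ext (((mem_K0 m).1 h).2 x hx))

theorem lin_K0 {n : m.M} (h : (n : Subgroup.centralizer ({z} : Set G)) ∈ K0 m) : m.lin n ∈ E m.hk := by
  refine fixer_eq m.hk (m.lin_mem n) fun v hv => ?_
  obtain ⟨x, rfl⟩ := m.rep_surj v
  rw [← m.lin_act, m.act_rep]
  congr 1
  refine Subtype.ext (Subtype.ext ?_)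
  exact mul_inv_eq_iff_eq_mul.2 (((mem_K0 m).1 h).2 x hv)

theorem rep_conj_eq {c : Subgroup.centralizer ({z} : Set G)} {x : Q} (h : m.act c (m.rep x) = m.rep x) :
    (c : G) * gv x * (c : G)⁻¹ = gv x ∨ (c : G) * gv x * (c : G)⁻¹ = gv x * z := by
  rw [m.act_rep] at h
  exact m.rep_eq h.symm

theorem exists_lift {e : SUV} (he : e ∈ E m.hk) :
    ∃ n : m.M, (n : Subgroup.centralizer ({z} : Set G)) ∈ K0 m ∧ m.lin n = e := by
  classical
  obtain ⟨n, rfl⟩ := m.exists_lin (LargeFischerSylow.P0_le m.hk (LargeFischerSylow.E_le m.hk he))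
  let sgn : Subgroup.centralizer ({z} : Set G) → Fin 6 → Bool := fun c t =>
    decide ((c : G) * gv (gen m t) * (c : G)⁻¹ = gv (gen m t))
  have hqz : ∀ (q : Q) t, (gv q) * gv (gen m t) * (gv q)⁻¹ = gv (gen m t) ∨
      (gv q) * gv (gen m t) * (gv q)⁻¹ = gv (gen m t) * z := fun q t =>
    rep_conj_eq m (c := (q : Subgroup.centralizer ({z} : Set G))) ((m.act_ker _).2 q.2 _)
  have hnz : ∀ t, ((n : Subgroup.centralizer ({z} : Set G)) : G) * gv (gen m t) *
      ((n : Subgroup.centralizer ({z} : Set G)) : G)⁻¹ = gv (gen m t) ∨ _ := fun t =>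
    rep_conj_eq m (x := gen m t) (by rw [m.lin_act]; exact gen_mem m t _ he)
  have hsame : ∀ (a b : G) t, (a * gv (gen m t) * a⁻¹ = gv (gen m t) ∨ a * gv (gen m t) * a⁻¹ = gv (gen m t) * z) →
      (b * gv (gen m t) * b⁻¹ = gv (gen m t) ∨ b * gv (gen m t) * b⁻¹ = gv (gen m t) * z) →
      decide (a * gv (gen m t) * a⁻¹ = gv (gen m t)) = decide (b * gv (gen m t) * b⁻¹ = gv (gen m t)) →
      (a⁻¹ * b) * gv (gen m t) = gv (gen m t) * (a⁻¹ * b) := by
    intro a b t ha hb e
    rw [decide_eq_decide] at e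
    have hab : a * gv (gen m t) * a⁻¹ = b * gv (gen m t) * b⁻¹ := by
      rcases ha with ha | ha <;> rcases hb with hb | hb
      · rw [ha, hb]
      · rw [ha, e.1 ha]
      · rw [hb, e.2 hb]
      · rw [ha, hb]
    calc a⁻¹ * b * gv (gen m t) = a⁻¹ * (b * gv (gen m t) * b⁻¹) * b := by group
      _ = a⁻¹ * (a * gv (gen m t) * a⁻¹) * b := by rw [hab]
      _ = _ := by group
  let Φ : Q ⧸ qu m → (Fin 6 → Bool) := fun c => sgn (Quotient.out c : Q)
  have hΦ : Function.Injective Φ := by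
    intro a b e
    rw [← Quotient.out_eq a, ← Quotient.out_eq b]
    refine QuotientGroup.eq.2 (central_qu m fun x hx => Subtype.ext (Subtype.ext ?_))
    exact comm_qu m (c := (((Quotient.out a)⁻¹ * Quotient.out b : Q) : Subgroup.centralizer ({z} : Set G)))
      (fun t => hsame _ _ t (hqz _ t) (hqz _ t) (congrFun e t)) hx
  have hbij : Function.Bijective Φ := (Nat.bijective_iff_injective_and_card Φ).2 ⟨hΦ, by
    have h := Subgroup.card_eq_card_quotient_mul_card_subgroup (qu m)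
    have hQ : Nat.card Q = 2 ^ 13 := by
      rw [← m.card_QG]
      exact (Subgroup.card_map_of_injective (Subgroup.subtype_injective _)).symm
    rw [hQ, card_qu] at h
    rw [Nat.card_fun, Nat.card_fin, Nat.card_eq_fintype_card (α := Bool), Fintype.card_bool]
    norm_num at h ⊢
    omega⟩
  obtain ⟨c, hc⟩ := hbij.2 (sgn n)
  refine ⟨⟨((Quotient.out c : Q) : Subgroup.centralizer ({z} : Set G))⁻¹, inv_mem (m.M_le (Quotient.out c : Q).2)⟩ * n,
    (mem_K0 m).2 ⟨mul_mem (inv_mem (m.M_le (Quotient.out c : Q).2)) n.2, fun x hx => ?_⟩, ?_⟩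
  · exact comm_qu m (c := ((Quotient.out c : Q) : Subgroup.centralizer ({z} : Set G))⁻¹ * n)
      (fun t => hsame _ _ t (hqz _ t) (hnz t) (congrFun hc t)) hx
  · rw [map_mul, (m.lin_eq_one _).2 (inv_mem (Quotient.out c : Q).2), one_mul]

theorem K0_inf_Q : K0 m ⊓ Q = (qu m).map Q.subtype := by
  ext c
  constructor
  · rintro ⟨h1, h2⟩
    exact ⟨⟨c, h2⟩, K0_inf m h1, rfl⟩
  · rintro ⟨x, hx, rfl⟩
    exact ⟨qu_le m hx, x.2⟩

theorem card_K0 : Nat.card (K0 m) = 2 ^ 11 := by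
  set A := (K0 m).subgroupOf m.M with hA
  have hle : K0 m ≤ m.M := inf_le_left
  rw [← Nat.card_congr (Subgroup.subgroupOfEquivOfLe hle).toEquiv, Spor.Leech.card_eq_ker_mul_map m.lin A]
  have himg : A.map m.lin = E m.hk := le_antisymm (by rintro _ ⟨n, hn, rfl⟩; exact lin_K0 m hn) (fun e he => by
    obtain ⟨n, hn, rfl⟩ := exists_lift m he
    exact ⟨n, hn, rfl⟩)
  have hker : Nat.card ↥(A ⊓ m.lin.ker) = 128 := by
    rw [← card_qu m, ← Subgroup.card_map_of_injective (K := qu m) (Subgroup.subtype_injective Q), ← K0_inf_Q,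
      ← Subgroup.card_map_of_injective (K := A ⊓ m.lin.ker) (Subgroup.subtype_injective m.M)]
    congr 2
    ext c
    constructor
    · rintro ⟨n, ⟨h1, h2⟩, rfl⟩
      exact ⟨h1, (m.lin_eq_one n).1 h2⟩
    · rintro ⟨h1, h2⟩
      exact ⟨⟨c, hle h1⟩, ⟨h1, (m.lin_eq_one _).2 h2⟩, rfl⟩
  rw [himg, hker, LargeFischerSylow.card_E m.hk]
  norm_num

theorem K0_norm {n : m.M} (hn : ∀ e ∈ E m.hk, m.lin n * e * (m.lin n)⁻¹ ∈ E m.hk)
    {a : Subgroup.centralizer ({z} : Set G)} (ha : a ∈ K0 m) :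
    (n : Subgroup.centralizer ({z} : Set G)) * a * (n : Subgroup.centralizer ({z} : Set G))⁻¹ ∈ K0 m := by
  have hinv : ∀ e ∈ E m.hk, (m.lin n)⁻¹ * e * m.lin n ∈ E m.hk := by
    intro e he
    have hinj : Function.Injective (fun x : E m.hk => (⟨_, hn x.1 x.2⟩ : E m.hk)) := fun x y h =>
      Subtype.ext (mul_left_cancel (mul_right_cancel (congrArg Subtype.val h :)))
    obtain ⟨x, hx⟩ := Finite.injective_iff_surjective.1 hinj ⟨e, he⟩
    rw [← show m.lin n * x.1 * (m.lin n)⁻¹ = e from congrArg Subtype.val hx]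
    simpa [mul_assoc] using x.2
  obtain ⟨haM, hax⟩ := (mem_K0 m).1 ha
  refine (mem_K0 m).2 ⟨m.M_normal.conj_mem _ haM n, fun x hx => ?_⟩
  have hy : qconj (n : Subgroup.centralizer ({z} : Set G))⁻¹ x ∈ qu m := by
    show InU m (m.rep (qconj _ x))
    intro e he
    rw [← m.act_rep, show (n : Subgroup.centralizer ({z} : Set G))⁻¹ = ((n⁻¹ : m.M) : Subgroup.centralizer ({z} : Set G))
      from rfl, m.lin_act, map_inv, smul_smul, show e * (m.lin n)⁻¹ = (m.lin n)⁻¹ * (m.lin n * e * (m.lin n)⁻¹) by group,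
      mul_smul, hx _ (hn e he)]
  have h := hax _ hy
  have e : gv (qconj (n : Subgroup.centralizer ({z} : Set G))⁻¹ x) =
      ((n : Subgroup.centralizer ({z} : Set G)) : G)⁻¹ * gv x * ((n : Subgroup.centralizer ({z} : Set G)) : G) := by
    show ((n : Subgroup.centralizer ({z} : Set G)) : G)⁻¹ * gv x * (((n : Subgroup.centralizer ({z} : Set G)) : G)⁻¹)⁻¹ = _
    rw [inv_inv]
  rw [e] at h
  generalize hN : ((n : Subgroup.centralizer ({z} : Set G)) : G) = N at h
  show ((n : Subgroup.centralizer ({z} : Set G)) : G) * (a : G) * ((n : Subgroup.centralizer ({z} : Set G)) : G)⁻¹ * gv x =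
    gv x * (((n : Subgroup.centralizer ({z} : Set G)) : G) * (a : G) * ((n : Subgroup.centralizer ({z} : Set G)) : G)⁻¹)
  rw [hN]
  calc N * (a : G) * N⁻¹ * gv x = N * ((a : G) * (N⁻¹ * gv x * N)) * N⁻¹ := by group
    _ = N * ((N⁻¹ * gv x * N) * (a : G)) * N⁻¹ := by rw [h]
    _ = _ := by group

theorem K0_sq : ∀ a ∈ K0 m, a * a = 1 := by
  classical
  have hk := m.hk
  obtain ⟨n₀, hn₀, hn₀act⟩ := exists_om m
  let zH : ↥(Subgroup.centralizer ({z} : Set G)) := ⟨z, Subgroup.mem_centralizer_singleton_iff.2 rfl⟩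
  have hzc : ∀ a : ↥(Subgroup.centralizer ({z} : Set G)), a * zH = zH * a := fun a => Subtype.ext (Subgroup.mem_centralizer_singleton_iff.1 a.2)
  have hzz : zH * zH = 1 := Subtype.ext m.ext.zz
  have hz1 : zH ≠ 1 := fun e => m.ext.ne (congrArg Subtype.val e)
  have hsame : ∀ a b : ↥(Subgroup.centralizer ({z} : Set G)), ∀ (ha : a ∈ K0 m) (hb : b ∈ K0 m),
      m.lin ⟨a, ((mem_K0 m).1 ha).1⟩ = m.lin ⟨b, ((mem_K0 m).1 hb).1⟩ → a * a = b * b := by
    intro a b ha hb e
    have hq : a⁻¹ * b ∈ Q := (m.lin_eq_one (⟨a, ((mem_K0 m).1 ha).1⟩⁻¹ * ⟨b, ((mem_K0 m).1 hb).1⟩)).1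
      (by rw [map_mul, map_inv, e, inv_mul_cancel])
    have hqu : (⟨_, hq⟩ : Q) ∈ qu m := K0_inf m (mul_mem (inv_mem ha) hb)
    have hc : a * (a⁻¹ * b) = (a⁻¹ * b) * a := Subtype.ext (((mem_K0 m).1 ha).2 _ hqu)
    have h2 : (a⁻¹ * b) * (a⁻¹ * b) = 1 := congrArg Subtype.val (qu_sq m hqu)
    calc a * a = a * a * ((a⁻¹ * b) * (a⁻¹ * b)) := by rw [h2, mul_one]
      _ = a * (a * (a⁻¹ * b)) * (a⁻¹ * b) := by group
      _ = a * ((a⁻¹ * b) * a) * (a⁻¹ * b) := by rw [hc]
      _ = b * b := by group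
  have hE2 : ∀ e ∈ E hk, e * e = 1 := LargeFischerSylow.E_sq hk
  -- squares are central
  have hcen : ∀ a ∈ K0 m, a * a = 1 ∨ a * a = zH := by
    intro a ha
    have hM := ((mem_K0 m).1 ha).1
    have hq : a * a ∈ Q := (m.lin_eq_one (⟨a, hM⟩ * ⟨a, hM⟩)).1 (by
      rw [map_mul]; exact hE2 _ (lin_K0 m (n := ⟨a, hM⟩) ha))
    have hcomm : ∀ e : SUV, omS * e = e * omS := fun e => suVal_ext (Matrix.toLin'.injective (LinearMap.ext fun v => by
      rw [Matrix.toLin'_apply, Matrix.toLin'_apply, ← smul_def, ← smul_def, mul_smul, mul_smul, omS_smul, omS_smul,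
        smul_scalar]))
    have hconj : (n₀ : ↥(Subgroup.centralizer ({z} : Set G))) * a * (n₀ : ↥(Subgroup.centralizer ({z} : Set G)))⁻¹ ∈ K0 m := K0_norm m (fun e he => by
      rw [hn₀, hcomm, mul_inv_cancel_right]; exact he) ha
    have h := hsame _ a hconj ha (by
      show m.lin (n₀ * ⟨a, hM⟩ * n₀⁻¹) = m.lin ⟨a, hM⟩
      rw [map_mul, map_mul, map_inv, hn₀, hcomm, mul_inv_cancel_right])
    have hfix : m.act n₀ (m.rep ⟨a * a, hq⟩) = m.rep ⟨a * a, hq⟩ := by
      rw [m.act_rep]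
      congr 1
      refine Subtype.ext ?_
      show (n₀ : ↥(Subgroup.centralizer ({z} : Set G))) * (a * a) * (n₀ : ↥(Subgroup.centralizer ({z} : Set G)))⁻¹ = a * a
      refine Eq.trans ?_ h
      group
    rw [hn₀act] at hfix
    have h0 : m.rep ⟨a * a, hq⟩ = 0 := funext fun i => by
      have := congrFun hfix i
      simp only [Pi.smul_apply, smul_eq_mul] at this
      revert this
      show _ → m.rep ⟨a * a, hq⟩ i = 0
      generalize m.rep ⟨a * a, hq⟩ i = c
      revert c; decide +kernel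
    rcases (m.rep_zero _).1 h0 with e | e
    · exact Or.inl (Subtype.ext e)
    · exact Or.inr (Subtype.ext e)
  by_contra hcon
  push Not at hcon
  obtain ⟨a₀, ha₀, hne⟩ := hcon
  have hz₀ := (hcen a₀ ha₀).resolve_left hne
  have hlin0 : m.lin ⟨a₀, ((mem_K0 m).1 ha₀).1⟩ ≠ 1 := fun e => hne (by
    have := hsame a₀ 1 ha₀ (one_mem _) (by rw [e]; exact (map_one m.lin).symm)
    rwa [one_mul] at this)
  -- all squares outside are the centre
  have hall : ∀ a ∈ K0 m, ∀ hM : a ∈ m.M, m.lin ⟨a, hM⟩ ≠ 1 → a * a = zH := by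
    intro a ha hM hl
    obtain ⟨c, hc, hce, hcn⟩ := LargeFischerSylow.norm_trans hk (lin_K0 m (n := ⟨a₀, ((mem_K0 m).1 ha₀).1⟩) ha₀) hlin0
      (lin_K0 m (n := ⟨a, hM⟩) ha) hl
    obtain ⟨n, rfl⟩ := m.exists_lin hc
    have h := hsame _ a (K0_norm m hcn ha₀) ha (by
      show m.lin (n * ⟨a₀, ((mem_K0 m).1 ha₀).1⟩ * n⁻¹) = m.lin ⟨a, hM⟩
      rw [map_mul, map_mul, map_inv]; exact hce)
    rw [← h, show (n : ↥(Subgroup.centralizer ({z} : Set G))) * a₀ * (n : ↥(Subgroup.centralizer ({z} : Set G)))⁻¹ * ((n : ↥(Subgroup.centralizer ({z} : Set G))) * a₀ * (n : ↥(Subgroup.centralizer ({z} : Set G)))⁻¹) = (n : ↥(Subgroup.centralizer ({z} : Set G))) * (a₀ * a₀) * (n : ↥(Subgroup.centralizer ({z} : Set G)))⁻¹ by group,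
      hz₀, hzc, mul_inv_cancel_right]
  have hanti : ∀ a b : m.M, (a : ↥(Subgroup.centralizer ({z} : Set G))) ∈ K0 m → (b : ↥(Subgroup.centralizer ({z} : Set G))) ∈ K0 m → m.lin a ≠ 1 → m.lin b ≠ 1 → m.lin (a * b) ≠ 1 →
      (b : ↥(Subgroup.centralizer ({z} : Set G))) * a = (a : ↥(Subgroup.centralizer ({z} : Set G))) * b * zH := by
    intro a b ha hb ha1 hb1 hab1
    have e1 := hall _ ha a.2 ha1
    have e2 := hall _ hb b.2 hb1
    have e3 : ((a : ↥(Subgroup.centralizer ({z} : Set G))) * b) * ((a : ↥(Subgroup.centralizer ({z} : Set G))) * b) = zH := hall _ (mul_mem ha hb) (a * b).2 hab1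
    calc (b : ↥(Subgroup.centralizer ({z} : Set G))) * a = (a : ↥(Subgroup.centralizer ({z} : Set G)))⁻¹ * (((a : ↥(Subgroup.centralizer ({z} : Set G))) * b) * ((a : ↥(Subgroup.centralizer ({z} : Set G))) * b)) * (b : ↥(Subgroup.centralizer ({z} : Set G)))⁻¹ := by group
      _ = (a : ↥(Subgroup.centralizer ({z} : Set G)))⁻¹ * ((a : ↥(Subgroup.centralizer ({z} : Set G))) * a) * (b : ↥(Subgroup.centralizer ({z} : Set G)))⁻¹ := by rw [e3, e1]
      _ = (a : ↥(Subgroup.centralizer ({z} : Set G))) * (b : ↥(Subgroup.centralizer ({z} : Set G)))⁻¹ := by group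
      _ = (a : ↥(Subgroup.centralizer ({z} : Set G))) * ((b : ↥(Subgroup.centralizer ({z} : Set G))) * ((b : ↥(Subgroup.centralizer ({z} : Set G))) * b)⁻¹) := by group
      _ = _ := by rw [e2, inv_eq_of_mul_eq_one_right hzz, mul_assoc]
  have hpick : ∀ l : List (E hk), l.length < 16 → ∃ e : E hk, e ∉ l := by
    intro l hl
    by_contra h
    push Not at h
    have := Nat.card_le_card_of_surjective (fun i : Fin l.length => l.get i) fun e => List.mem_iff_get.1 (h e)
    rw [Nat.card_fin, LargeFischerSylow.card_E hk] at this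
    omega
  obtain ⟨e₁, h1⟩ := hpick [1] (by norm_num)
  obtain ⟨e₂, h2⟩ := hpick [1, e₁] (by norm_num)
  obtain ⟨e₃, h3⟩ := hpick [1, e₁, e₂, e₂ * e₁, e₁ * e₂] (by norm_num)
  obtain ⟨a, ha, la⟩ := exists_lift m e₁.2
  obtain ⟨b, hb, lb⟩ := exists_lift m e₂.2
  obtain ⟨c, hc, lc⟩ := exists_lift m e₃.2
  simp only [List.mem_cons, List.not_mem_nil, or_false, not_or] at h1 h2 h3
  obtain ⟨g20, g21⟩ := h2
  obtain ⟨g30, g31, g32, g33, g34⟩ := h3
  have hsqE : ∀ x : E hk, x * x = 1 := fun x => Subtype.ext (hE2 _ x.2)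
  have neq : ∀ (x : m.M) (e : E hk), m.lin x = e.1 → e ≠ 1 → m.lin x ≠ 1 := fun x e h he h' =>
    he (Subtype.ext (h.symm.trans h'))
  have prod_ne : ∀ x y : E hk, y ≠ x → x * y ≠ 1 := fun x y h h' => h (mul_left_cancel (h'.trans (hsqE x).symm))
  have q12 := hanti a b ha hb (neq a e₁ la h1) (neq b e₂ lb g20)
    (neq (a * b) (e₁ * e₂) (by rw [map_mul, la, lb]; rfl) (prod_ne _ _ g21))
  have q13 := hanti a c ha hc (neq a e₁ la h1) (neq c e₃ lc g30)
    (neq (a * c) (e₁ * e₃) (by rw [map_mul, la, lc]; rfl) (prod_ne _ _ g31))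
  have q1 := hanti a (b * c) ha (mul_mem hb hc) (neq a e₁ la h1)
    (neq (b * c) (e₂ * e₃) (by rw [map_mul, lb, lc]; rfl) (prod_ne _ _ g32))
    (neq (a * (b * c)) (e₁ * (e₂ * e₃)) (by rw [map_mul, map_mul, la, lb, lc]; rfl)
      (prod_ne _ _ fun h => g33 (by
        rw [← h, ← mul_assoc, hsqE, one_mul])))
  refine hz1 ?_
  have h : (a : ↥(Subgroup.centralizer ({z} : Set G))) * b * c * (zH * zH) = (a : ↥(Subgroup.centralizer ({z} : Set G))) * b * c * zH := by
    calc (a : ↥(Subgroup.centralizer ({z} : Set G))) * b * c * (zH * zH) = (a : ↥(Subgroup.centralizer ({z} : Set G))) * b * zH * c * zH := by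
          rw [← mul_assoc, mul_assoc ((a : ↥(Subgroup.centralizer ({z} : Set G))) * b) (c : ↥(Subgroup.centralizer ({z} : Set G))) zH, hzc c, ← mul_assoc]
      _ = (b : ↥(Subgroup.centralizer ({z} : Set G))) * a * c * zH := by rw [← q12]
      _ = (b : ↥(Subgroup.centralizer ({z} : Set G))) * ((a : ↥(Subgroup.centralizer ({z} : Set G))) * c * zH) := by group
      _ = (b : ↥(Subgroup.centralizer ({z} : Set G))) * c * a := by rw [← q13, mul_assoc]
      _ = (a : ↥(Subgroup.centralizer ({z} : Set G))) * b * c * zH := by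
          rw [show (b : ↥(Subgroup.centralizer ({z} : Set G))) * c * a = ((b * c : m.M) : ↥(Subgroup.centralizer ({z} : Set G))) * a from rfl, q1, Subgroup.coe_mul]
          simp only [mul_assoc]
  exact mul_left_cancel ((mul_left_cancel h).trans (mul_one zH).symm)

end

end Cfsg.Agent.Fus.LargeFischerAbelian
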