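/-
The stabiliser of a vector of the long orbit in the class `3.U₄(3)` permutes six blocks two-transitively, so a normal
2-subgroup consists of the sixteen tabled elements fixing all blocks.
-/
import Cfsg.Agent.Lib.Spor.LargeFischer.SmallOrbit

set_option autoImplicit false
set_option maxRecDepth 100000
set_option linter.style.haveILetI false
set_option linter.unusedSectionVars false

open Cfsg Cfsg.Agent.Classical Cfsg.Agent.Spor.Cos Cfsg.Agent.Spor.LargeFischer Matrix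
open Cfsg.Agent.Spor.USixTwo (K4 vecOf)
open Cfsg.Agent.Spor.U62U43 (cover62)

namespace Cfsg.Agent.Fus.LargeFischerBlocks

variable {k : ℕ}

theorem v2_lt (k : ℕ) : (dat k).v2 < 4096 := Spor.LargeFischer.rd_lt _ _

theorem rep_two (k : ℕ) : rep k 2 = vecOf (dat k).v2 := rfl

/-- A vector above the first one. -/
def InW (k : ℕ) (w : Fin 6 → K4) : Prop := labV k w = 1 ∧ hermForm 6 K4 2 (rep k 2) w = 1

/-- Two in one block. -/
def Rel (k : ℕ) (a b : Fin 6 → K4) : Prop :=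
  labV k (a + b) = 1 ∧ hermForm 6 K4 2 a b = 1 ∧ labV k (a + b + rep k 2) = 1

theorem hermC_lt (a b : ℕ) : hermC a b < 4 := by
  rw [hermC]
  refine List.foldlRecOn (motive := fun s => s < 4) _ _ (by norm_num) fun s hs i _ => ?_
  exact Nat.xor_lt_two_pow (n := 2) hs
    (hermC_term _ (Nat.mod_lt _ (by norm_num)) _ (Nat.mod_lt _ (by norm_num))).2

theorem hermC_one (a b : ℕ) : hermForm 6 K4 2 (vecOf a) (vecOf b) = 1 ↔ hermC a b = 1 := by
  rw [hermC_sound]
  refine ⟨fun e => ?_, fun e => by rw [e]; rfl⟩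
  have h1 : hermC a b % 4 = 1 := congrArg (fun x : K4 => x.v.1) e
  have := hermC_lt a b
  omega

theorem inW_code (hk : k < 3) {c : ℕ} (hc : c < 4096) : InW k (vecOf c) ↔ c ∈ (dat k).wl := by
  have h := (facts hk).2.2.2.2.2.2.2.1 c hc
  rw [beq_iff_eq] at h
  rw [← List.contains_iff_mem, ← h, InW, labV, enc6_vecOf hc, rep_two, hermC_one, Dat.inW, Bool.and_eq_true,
    Nat.beq_eq, Nat.beq_eq]

theorem rel_code {a b : ℕ} (ha : a < 4096) (hb : b < 4096) :
    Rel k (vecOf a) (vecOf b) ↔ (dat k).rel a b = true := by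
  have hab : a ^^^ b < 4096 := Nat.xor_lt_two_pow (n := 12) ha hb
  rw [Rel, Dat.rel, rep_two, ← vecOf_xor, ← vecOf_xor, labV, labV, enc6_vecOf hab,
    enc6_vecOf (Nat.xor_lt_two_pow (n := 12) hab (v2_lt k)), hermC_one]
  simp only [Bool.and_eq_true, Nat.beq_eq, and_assoc]

/-- The block. -/
def blk (k : ℕ) (w : Fin 6 → K4) : ℕ := rd 4 (dat k).blk (enc6 w)

/-- The stabiliser. -/
noncomputable abbrev S2 (k : ℕ) : Subgroup SUV := stab k (rep k 2)

theorem inW_smul (hk : k < 3) (x : S2 k) {w : Fin 6 → K4} (hw : InW k w) : InW k (x.1 • w) := by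
  refine ⟨by rw [lab_smul hk x.2.1, hw.1], ?_⟩
  conv_lhs => rw [← (mem_stab.1 x.2).2, smul_herm]
  exact hw.2

theorem rel_smul (hk : k < 3) (x : S2 k) {a b : Fin 6 → K4} (h : Rel k a b) : Rel k (x.1 • a) (x.1 • b) := by
  refine ⟨by rw [← smul_add', lab_smul hk x.2.1, h.1], by rw [smul_herm, h.2.1], ?_⟩
  rw [← (mem_stab.1 x.2).2, ← smul_add', ← smul_add', lab_smul hk x.2.1, h.2.2]

theorem wl_lt (hk : k < 3) : ∀ c ∈ (dat k).wl, c < 4096 := by
  interval_cases k <;> decide +kernel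

theorem blk_facts (hk : k < 3) : (∀ a, InW k a → blk k a < 6) ∧
    (∀ a b, InW k a → InW k b → Rel k a b → blk k a = blk k b) ∧
    (∀ a b, InW k a → InW k b → blk k a = blk k b →
      a = b ∨ Rel k a b ∨ ∃ c, InW k c ∧ Rel k a c ∧ Rel k c b) := by
  obtain ⟨-, -, -, -, -, -, hB, -⟩ := facts hk
  simp only [Dat.chkBlk, Bool.and_eq_true, List.all_eq_true, Bool.or_eq_true, Bool.not_eq_true', List.any_eq_true,
    Nat.beq_eq, Nat.blt_eq] at hB
  obtain ⟨⟨⟨-, h1⟩, h2⟩, h3⟩ := hB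
  have hmem : ∀ a, InW k a → enc6 a ∈ (dat k).wl := fun a ha =>
    (inW_code hk (enc6_lt a)).1 (by rw [vecOf_enc6]; exact ha)
  refine ⟨fun a ha => h1 _ (hmem a ha), fun a b ha hb h => ?_, fun a b ha hb e => ?_⟩
  · have hr : (dat k).rel (enc6 a) (enc6 b) = true :=
      (rel_code (enc6_lt a) (enc6_lt b)).1 (by rw [vecOf_enc6, vecOf_enc6]; exact h)
    exact (h2 _ (hmem a ha) _ (hmem b hb)).resolve_left (by rw [hr]; simp)
  · have hrel : ∀ a b, (dat k).rel (enc6 a) (enc6 b) = true → Rel k a b := fun a b h => by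
      have := (rel_code (k := k) (enc6_lt a) (enc6_lt b)).2 h
      rwa [vecOf_enc6, vecOf_enc6] at this
    rcases h3 _ (hmem a ha) _ (hmem b hb) with ((h | h) | h) | ⟨c, hc, hac, hcb⟩
    · exact absurd e fun e => by
        rw [blk, blk] at e
        simp [e] at h
    · exact Or.inl (by rw [← vecOf_enc6 a, h, vecOf_enc6])
    · exact Or.inr (Or.inl (hrel _ _ h))
    · have hclt : c < 4096 := wl_lt hk c hc
      refine Or.inr (Or.inr ⟨vecOf c, (inW_code hk hclt).2 hc, ?_, ?_⟩)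
      · exact hrel _ _ (by rw [enc6_vecOf hclt]; exact hac)
      · exact hrel _ _ (by rw [enc6_vecOf hclt]; exact hcb)

theorem blk_smul (hk : k < 3) (x : S2 k) {a b : Fin 6 → K4} (ha : InW k a) (hb : InW k b)
    (e : blk k a = blk k b) : blk k (x.1 • a) = blk k (x.1 • b) := by
  obtain ⟨-, h1, h2⟩ := blk_facts hk
  rcases h2 a b ha hb e with rfl | h | ⟨c, hc, hac, hcb⟩
  · rfl
  · exact h1 _ _ (inW_smul hk x ha) (inW_smul hk x hb) (rel_smul hk x h)
  · exact (h1 _ _ (inW_smul hk x ha) (inW_smul hk x hc) (rel_smul hk x hac)).trans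
      (h1 _ _ (inW_smul hk x hc) (inW_smul hk x hb) (rel_smul hk x hcb))

/-- The chosen member of a block. -/
def pick (k : ℕ) (i : Fin 6) : Fin 6 → K4 := vecOf ((dat k).reps.getD i.1 0)

theorem pick_lt (hk : k < 3) : ∀ i : Fin 6, (dat k).reps.getD i.1 0 < 4096 := by
  interval_cases k <;> decide +kernel

theorem pick_facts (hk : k < 3) (i : Fin 6) : InW k (pick k i) ∧ blk k (pick k i) = i.1 := by
  obtain ⟨-, -, -, -, -, -, hB, -⟩ := facts hk
  simp only [Dat.chkBlk, Bool.and_eq_true, List.all_eq_true, List.mem_range, Nat.beq_eq] at hB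
  have h := hB.1.1.1.2 i.1 i.2
  rw [InW, pick, blk, labV, enc6_vecOf (pick_lt hk i), rep_two, hermC_one]
  simp only [Dat.inW, Bool.and_eq_true, Nat.beq_eq] at h
  exact h

/-- The class as a fact for instances. -/
class IsClass (k : ℕ) : Prop where
  /-- the bound -/
  lt : k < 3

variable [hK : IsClass k]

theorem blk_lt_six (x : S2 k) (i : Fin 6) : blk k (x.1 • pick k i) < 6 :=
  (blk_facts hK.lt).1 _ (inW_smul hK.lt x (pick_facts hK.lt i).1)

/-- The action on the blocks. -/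
instance blkAction : MulAction (S2 k) (Fin 6) where
  smul x i := ⟨blk k (x.1 • pick k i), blk_lt_six x i⟩
  one_smul i := Fin.ext (by
    show blk k ((1 : SUV) • pick k i) = i.1
    rw [one_smul]; exact (pick_facts hK.lt i).2)
  mul_smul x y i := Fin.ext (by
    show blk k ((x.1 * y.1) • pick k i) = blk k (x.1 • pick k ⟨blk k (y.1 • pick k i), _⟩)
    rw [mul_smul]
    exact blk_smul hK.lt x (inW_smul hK.lt y (pick_facts hK.lt i).1) (pick_facts hK.lt _).1
      (pick_facts hK.lt ⟨blk k (y.1 • pick k i), blk_lt_six y i⟩).2.symm)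

theorem blk_act (x : S2 k) {w : Fin 6 → K4} (hw : InW k w) {i : Fin 6} (e : blk k w = i.1) :
    ((x • i : Fin 6) : ℕ) = blk k (x.1 • w) :=
  blk_smul hK.lt x (pick_facts hK.lt i).1 hw ((pick_facts hK.lt i).2.trans e.symm)

/-- Four blocks from a code. -/
def quad (t : ℕ) : Fin 4 → Fin 6 := fun j => ⟨t / 6 ^ j.1 % 6, Nat.mod_lt _ (by norm_num)⟩

theorem quad_inj {a b : ℕ} (ha : a < 1296) (hb : b < 1296) (e : quad a = quad b) : a = b := by
  have h : ∀ j : Fin 4, a / 6 ^ j.1 % 6 = b / 6 ^ j.1 % 6 := fun j => congrArg Fin.val (congrFun e j)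
  have h0 := h 0; have h1 := h 1; have h2 := h 2; have h3 := h 3
  simp only [Fin.val_zero, Fin.val_one, Fin.val_two, pow_zero, pow_one, Nat.div_one] at h0 h1 h2 h3
  rw [show ((3 : Fin 4) : ℕ) = 3 from rfl] at h3
  norm_num at h0 h1 h2 h3
  omega

omit hK in
theorem fixW_gen (hk : k < 3) {w : List ℕ} (hw : w ∈ (dat k).sg2 ∨ w ∈ (dat k).kerW) :
    (∀ s ∈ w, s < 4) ∧ ev (kgen k) w ∈ S2 k := by
  obtain ⟨-, -, -, -, -, -, -, -, hS⟩ := facts hk
  simp only [Dat.chkS2, Bool.and_eq_true] at hS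
  rw [S2, rep_two]
  rcases hw with hw | hw
  · exact fixW hk (v2_lt k) hS.1.1.1.1.1.1.1.1 hw
  · exact fixW hk (v2_lt k) hS.1.1.1.1.1.1.1.2 hw

theorem act_code {w : List ℕ} (hw : w ∈ (dat k).sg2 ∨ w ∈ (dat k).kerW) (i : Fin 6) :
    (((⟨_, (fixW_gen hK.lt hw).2⟩ : S2 k) • i : Fin 6) : ℕ) =
      rd 4 (dat k).blk ((dat k).wC w ((dat k).reps.getD i.1 0)) := by
  show blk k (ev (kgen k) w • pick k i) = _
  have h := word_act hK.lt w (fixW_gen hK.lt hw).1 _ (pick_lt hK.lt i)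
  rw [pick, h.1, blk, enc6_vecOf h.2]

theorem quad_reach : ∀ i < 360, ∃ x : S2 k, x • quad (rd 12 (dat k).tup 0) = quad (rd 12 (dat k).tup i) := by
  obtain ⟨-, -, -, -, -, -, -, -, hS⟩ := facts hK.lt
  simp only [Dat.chkS2, Bool.and_eq_true, List.all_eq_true, List.mem_range, Nat.beq_eq, Nat.blt_eq] at hS
  obtain ⟨⟨⟨⟨⟨⟨⟨-, hperm⟩, htup⟩, -⟩, -⟩, -⟩, -⟩, -⟩ := hS
  let g : ℕ → S2 k := fun s => if h : (dat k).sg2.getD s [] ∈ (dat k).sg2 then ⟨_, (fixW_gen hK.lt (Or.inl h)).2⟩ else 1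
  intro i hi
  have hact : ∀ s < (dat k).sg2.length, ∀ j < 360,
      g s • quad (rd 12 (dat k).tup j) = quad ((dat k).tupAct s (rd 12 (dat k).tup j)) := by
    intro s hs j hj
    have hmem : (dat k).sg2.getD s [] ∈ (dat k).sg2 := by
      rw [List.getD_eq_getElem _ _ hs]; exact List.getElem_mem _
    funext r
    refine Fin.ext ?_
    show ((g s • (quad (rd 12 (dat k).tup j) r) : Fin 6) : ℕ) = _
    simp only [g, dif_pos hmem]
    rw [act_code (Or.inl hmem), hperm s hs _ (quad _ r).2]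
    have hp : ∀ i, ((dat k).perms.getD s []).getD i 0 < 6 := by
      intro i
      by_cases hi : i < 6
      · rw [← hperm s hs i hi, ← act_code (Or.inl hmem) ⟨i, hi⟩]; exact Fin.isLt _
      · have hl : ((dat k).perms.getD s []).length ≤ 6 := by
          have hk := hK.lt
          interval_cases k <;> revert s <;> decide +kernel
        rw [List.getD_eq_default _ _ (by omega)]; norm_num
    have a0 := hp (rd 12 (dat k).tup j % 6); have a1 := hp (rd 12 (dat k).tup j / 6 % 6)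
    have a2 := hp (rd 12 (dat k).tup j / 36 % 6); have a3 := hp (rd 12 (dat k).tup j / 216 % 6)
    simp only [quad, Dat.tupAct]
    fin_cases r <;> norm_num [-List.getD_eq_getElem?_getD] <;> omega
  obtain ⟨x, -, hx⟩ := reach (X := Fin 4 → Fin 6) (G := S2 k) (S := ⊤) (g := g) (act := (dat k).tupAct)
    (ngen := (dat k).sg2.length) (pts := rd 12 (dat k).tup) (prd := rd 16 (dat k).prdT) quad
    (fun s _ => Subgroup.mem_top _) hact (fun j hj => (htup j hj).1) i hi
  exact ⟨x, hx⟩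

theorem two_transitive {a b : Fin 6} (h : a ≠ b) : ∃ x : S2 k, x • (0 : Fin 6) = a ∧ x • (1 : Fin 6) = b := by
  have tab : ∀ k < 3, rd 12 (dat k).tup 0 = 726 ∧ ∀ a b : Fin 6, a ≠ b → ∃ i, i < 360 ∧
      rd 12 (dat k).tup i % 6 = a.1 ∧ rd 12 (dat k).tup i / 6 % 6 = b.1 := by decide +kernel
  obtain ⟨e0, htab⟩ := tab k hK.lt
  obtain ⟨i, hi, ea, eb⟩ := htab a b h
  obtain ⟨x, hx⟩ := quad_reach (k := k) i hi
  rw [e0] at hx
  refine ⟨x, ?_, ?_⟩
  · exact (congrFun hx 0).trans (Fin.ext (by simpa [quad] using ea))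
  · exact (congrFun hx 1).trans (Fin.ext (by simpa [quad] using eb))

theorem fix_all {N : Subgroup (S2 k)} (hN : N.Normal) (hp : IsPGroup 2 N) (y : S2 k) (hy : y ∈ N) (i : Fin 6) :
    y • i = i := by
  by_contra hne
  haveI : Fact (Nat.Prime 2) := ⟨Nat.prime_two⟩
  have hall : ∀ a : Fin 6, a ∈ MulAction.orbit N i := by
    intro a
    by_cases ha : a = i
    · rw [ha]; exact MulAction.mem_orbit_self i
    obtain ⟨u, hu0, hu1⟩ := two_transitive (k := k) (Ne.symm hne)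
    obtain ⟨w, hw0, hw1⟩ := two_transitive (k := k) (Ne.symm ha)
    refine ⟨⟨(w * u⁻¹) * y * (w * u⁻¹)⁻¹, hN.conj_mem _ hy _⟩, ?_⟩
    show ((w * u⁻¹) * y * (w * u⁻¹)⁻¹) • i = a
    have e1 : (w * u⁻¹)⁻¹ • i = i := by
      rw [_root_.mul_inv_rev, inv_inv, mul_smul, inv_smul_eq_iff.2 hw0.symm, hu0]
    rw [mul_smul, e1, mul_smul, mul_smul, inv_smul_eq_iff.2 hu1.symm, hw1]
  obtain ⟨n, hn⟩ := hp.card_orbit i
  have h6 : Nat.card (MulAction.orbit N i) = 6 := by
    rw [show MulAction.orbit N i = Set.univ from Set.eq_univ_of_forall hall, Nat.card_univ, Nat.card_fin]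
  rw [h6] at hn
  have h3 : 3 ∣ 2 ^ n := hn ▸ ⟨2, rfl⟩
  have := Nat.Prime.dvd_of_dvd_pow Nat.prime_three h3
  omega

/-- The tabled elements fixing the blocks. -/
def KerSet (k : ℕ) : Set SUV := {x | ∃ w ∈ (dat k).kerW, ev (kgen k) w = x}

omit hK in
theorem kerW_lt (hk : k < 3) : (dat k).kerW.length = 16 := by
  interval_cases k <;> decide +kernel

theorem fixer_mem (x : S2 k) (h : ∀ i : Fin 6, x • i = i) : x.1 ∈ KerSet k := by
  classical
  obtain ⟨-, -, -, -, -, -, -, -, hS⟩ := facts hK.lt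
  simp only [Dat.chkS2, Bool.and_eq_true, List.all_eq_true, List.mem_range, Nat.beq_eq, Nat.blt_eq,
    decide_eq_true_eq] at hS
  obtain ⟨⟨⟨⟨⟨⟨⟨-, -⟩, htup⟩, -⟩, hnd⟩, hlen⟩, hker⟩, hndK⟩ := hS
  set T : Subgroup (S2 k) := MulAction.stabilizer (S2 k) (quad (rd 12 (dat k).tup 0)) with hT
  have h1 := orbit_le (S := (⊤ : Subgroup (S2 k))) (x := quad (rd 12 (dat k).tup 0))
    (fun i : Fin 360 => quad (rd 12 (dat k).tup i.1))
    (fun i j e => Fin.ext (List.inj_on_of_nodup_map hnd (List.mem_range.2 i.2) (List.mem_range.2 j.2)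
      (quad_inj (htup i.1 i.2).2 (htup j.1 j.2).2 e)))
    (fun i => by obtain ⟨y, hy⟩ := quad_reach (k := k) i.1 i.2; exact ⟨y, Subgroup.mem_top _, hy⟩)
  rw [top_inf_eq, ← hT, Subgroup.card_top] at h1
  have h5 : Nat.card (S2 k) ≤ 5760 := (card_stab_le hK.lt).2
  have hxT : x ∈ T := MulAction.mem_stabilizer_iff.2 (funext fun r => h _)
  have hK16 : ∀ j : Fin 16, (dat k).kerW.getD j.1 [] ∈ (dat k).kerW := fun j => by
    rw [List.getD_eq_getElem _ _ (show j.1 < (dat k).kerW.length by rw [hlen]; exact j.2)]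
    exact List.getElem_mem _
  let F : Fin 16 → T := fun j => ⟨⟨_, (fixW_gen hK.lt (Or.inr (hK16 j))).2⟩, MulAction.mem_stabilizer_iff.2
    (funext fun r => Fin.ext (by
      show (((⟨_, _⟩ : S2 k) • (quad (rd 12 (dat k).tup 0) r) : Fin 6) : ℕ) = _
      rw [act_code (Or.inr (hK16 j)), hker _ (hK16 j) _ (quad _ r).2]))⟩
  have hFinj : Function.Injective F := by
    intro a b e
    have e' : ev (kgen k) ((dat k).kerW.getD a.1 []) = ev (kgen k) ((dat k).kerW.getD b.1 []) :=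
      congrArg (fun t : T => t.1.1) e
    have heq : ((dat k).kerW.getD a.1 []) = ((dat k).kerW.getD b.1 []) := by
      refine List.inj_on_of_nodup_map hndK (hK16 a) (hK16 b) ?_
      refine List.map_congr_left fun i hi => ?_
      have hi' : 2 ^ i < 4096 := (Nat.pow_lt_pow_right (by norm_num) (List.mem_range.1 hi)).trans_le le_rfl
      have ha := word_act hK.lt _ (fixW_gen hK.lt (Or.inr (hK16 a))).1 _ hi'
      have hb := word_act hK.lt _ (fixW_gen hK.lt (Or.inr (hK16 b))).1 _ hi'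
      rw [e'] at ha
      exact vecOf_inj ha.2 hb.2 (ha.1.symm.trans hb.1)
    have hndW : (dat k).kerW.Nodup := List.Nodup.of_map _ hndK
    rw [List.getD_eq_getElem _ _ (show a.1 < (dat k).kerW.length by rw [hlen]; exact a.2),
      List.getD_eq_getElem _ _ (show b.1 < (dat k).kerW.length by rw [hlen]; exact b.2)] at heq
    exact Fin.ext (hndW.getElem_inj_iff.1 heq)
  obtain ⟨j, hj⟩ := ((Nat.bijective_iff_injective_and_card F).2 ⟨hFinj, le_antisymm
    (Nat.card_le_card_of_injective F hFinj) (by rw [Nat.card_fin]; omega)⟩).2 ⟨x, hxT⟩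
  exact ⟨_, hK16 j, congrArg (fun t : T => t.1.1) hj⟩

omit hK in
/-- A normal 2-subgroup of order at least sixteen consists of the sixteen elements. -/
theorem kerSet_le (hk : k < 3) {N : Subgroup SUV} (hN : N ≤ S2 k) (hp : IsPGroup 2 N)
    (hnorm : ∀ a ∈ S2 k, ∀ b ∈ N, a * b * a⁻¹ ∈ N) (hcard : 16 ≤ Nat.card N) :
    ∀ w ∈ (dat k).kerW, ev (kgen k) w ∈ N := by
  haveI : IsClass k := ⟨hk⟩
  have hn : (N.subgroupOf (S2 k)).Normal := ⟨fun b hb a => hnorm a.1 a.2 b.1 hb⟩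
  have hp' : IsPGroup 2 (N.subgroupOf (S2 k)) := hp.of_equiv (Subgroup.subgroupOfEquivOfLe hN).symm
  have hsub : ∀ y : N, y.1 ∈ KerSet k := fun y =>
    fixer_mem (⟨y.1, hN y.2⟩ : S2 k) fun i => fix_all hn hp' _ y.2 i
  choose f hf hfe using hsub
  have hfin : Finite {w // w ∈ (dat k).kerW} := inferInstance
  have hinj : Function.Injective (fun y : N => (⟨f y, hf y⟩ : {w // w ∈ (dat k).kerW})) := fun a b e =>
    Subtype.ext ((hfe a).symm.trans ((congrArg (fun z => ev (kgen k) z) (congrArg Subtype.val e)).trans (hfe b)))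
  have hle : Nat.card {w // w ∈ (dat k).kerW} ≤ 16 := by
    rw [← kerW_lt hk, ← Nat.card_fin (dat k).kerW.length]
    exact Nat.card_le_card_of_surjective (fun i : Fin (dat k).kerW.length => (⟨(dat k).kerW[i.1],
      List.getElem_mem _⟩ : {w // w ∈ (dat k).kerW}))
      fun ⟨w, hw⟩ => by obtain ⟨i, hi, e⟩ := List.getElem_of_mem hw; exact ⟨⟨i, hi⟩, Subtype.ext e⟩
  intro w hw
  obtain ⟨y, hy⟩ := ((Nat.bijective_iff_injective_and_card _).2
    ⟨hinj, le_antisymm (Nat.card_le_card_of_injective _ hinj) (hle.trans hcard)⟩).2 ⟨w, hw⟩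
  rw [← show f y = w from congrArg Subtype.val hy, hfe y]
  exact y.2

end Cfsg.Agent.Fus.LargeFischerBlocks
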