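/-
In a group of large Fischer type the elements outside the half inducing the simple group act semilinearly for the
nontrivial field automorphism: a linear one in the conjugate extraspecial group would commute with the sixteen
tabled maps and so be one of them.
-/
import Cfsg.Agent.Lib.Fus.LargeFischerScalar
import Cfsg.Agent.Lib.Fus.LargeFischerBlocks

set_option autoImplicit false
set_option maxRecDepth 100000
set_option linter.unusedSectionVars false
set_option linter.style.haveILetI false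

open Cfsg Cfsg.Agent.Classical Cfsg.Agent.Spor.Cos Cfsg.Agent.Spor.LargeFischer Matrix
open Cfsg.Agent.Spor.USixTwo (K4 vecOf)
open Cfsg.Agent.Spor.U62U43 (cover62)
open Cfsg.Agent.Fus.LargeFischerScalar Cfsg.Agent.Fus.LargeFischerBlocks

namespace Cfsg.Agent.Fus.LargeFischerOuter

/-- A vector of the first block whose images give a basis. -/
def cR : ℕ → ℕ
  | 0 => 36
  | 1 => 20
  | _ => 17

/-- Combinations whose labels tell the other images apart: exponent of the scalar, index of the map. -/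
def cWit : ℕ → List (List (ℕ × ℕ))
  | 0 => [[(0, 1), (1, 4)], [(0, 2), (1, 3)]]
  | 1 => [[(0, 2), (1, 3)], [(0, 1), (0, 2)]]
  | _ => [[(2, 1), (0, 4)], [(0, 0), (1, 4)]]

/-- The bits as combinations, the second component using the fixed vector. -/
def cBit : ℕ → List (List (ℕ × ℕ) × List ℕ)
  | 0 => [([(1, 2), (0, 3), (1, 4)], [0]), ([(2, 2), (1, 3), (2, 4)], [1]), ([(1, 2), (0, 3), (1, 4)], []),
      ([(2, 2), (1, 3), (2, 4)], []), ([(2, 0), (0, 2), (2, 3), (0, 4)], []),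
      ([(0, 0), (1, 2), (0, 3), (1, 4)], []), ([(1, 0), (2, 1), (0, 2), (1, 3), (1, 4)], [0]),
      ([(2, 0), (0, 1), (1, 2), (2, 3), (2, 4)], [1]), ([(1, 0), (2, 1), (0, 2), (0, 3), (0, 4)], [0]),
      ([(2, 0), (0, 1), (1, 2), (1, 3), (1, 4)], [1]), ([(0, 0), (2, 2), (2, 3), (0, 4)], [0]),
      ([(1, 0), (0, 2), (0, 3), (1, 4)], [1])]
  | 1 => [([(0, 0), (0, 1), (1, 2), (2, 4)], [2]), ([(1, 0), (1, 1), (2, 2), (0, 4)], [0]),
      ([(0, 0), (0, 1), (1, 2), (2, 4)], [1]), ([(1, 0), (1, 1), (2, 2), (0, 4)], [2]),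
      ([(0, 1), (1, 2), (2, 4)], [1]), ([(1, 1), (2, 2), (0, 4)], [2]), ([(1, 1), (2, 3), (0, 4)], [0]),
      ([(2, 1), (0, 3), (1, 4)], [1]), ([(2, 0), (1, 1), (2, 3), (1, 4)], [0]),
      ([(0, 0), (2, 1), (0, 3), (2, 4)], [1]), ([(2, 0), (0, 1), (2, 2), (0, 4)], [1]),
      ([(0, 0), (1, 1), (0, 2), (1, 4)], [2])]
  | _ => [([(0, 0), (0, 1), (0, 2), (1, 4), (1, 6)], []), ([(1, 0), (1, 1), (1, 2), (2, 4), (2, 6)], []),
      ([(0, 0), (0, 1), (0, 2), (1, 4), (1, 6)], [0]), ([(1, 0), (1, 1), (1, 2), (2, 4), (2, 6)], [1]),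
      ([(0, 1), (0, 2), (1, 4), (1, 6)], []), ([(1, 1), (1, 2), (2, 4), (2, 6)], []),
      ([(0, 0), (0, 1), (2, 4), (2, 6)], []), ([(1, 0), (1, 1), (0, 4), (0, 6)], []),
      ([(1, 2), (2, 4), (0, 6)], []), ([(2, 2), (0, 4), (1, 6)], []), ([(1, 0), (2, 4), (0, 6)], [1]),
      ([(2, 0), (0, 4), (1, 6)], [2])]

/-- A power of the scalar on a code. -/
def scC (D : Dat) : ℕ → ℕ → ℕ
  | 0, c => c
  | e + 1, c => D.omC (scC D e c)

/-- A combination of images of a code. -/
def combC (D : Dat) : List (ℕ × ℕ) → ℕ → ℕ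
  | [], _ => 0
  | p :: l, c => scC D p.1 (D.wC (D.kerW.getD p.2 []) c) ^^^ combC D l c

/-- A combination of scalar multiples of the fixed vector. -/
def fixC (D : Dat) : List ℕ → ℕ
  | [] => 0
  | e :: l => scC D e D.v2 ^^^ fixC D l

/-- An image is a tabled one or fails to keep a label. -/
def chkY (k y : ℕ) : Bool :=
  (dat k).kerW.any (fun w => Nat.beq ((dat k).wC w (cR k)) y) ||
    (cWit k).any (fun cs => !Nat.beq ((dat k).labC (combC (dat k) cs (cR k))) ((dat k).labC (combC (dat k) cs y)))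

/-- The bits are combinations. -/
def chkBit (k : ℕ) : Bool :=
  (List.range 12).all fun i =>
    Nat.beq (combC (dat k) ((cBit k).getD i ([], [])).1 (cR k) ^^^ fixC (dat k) ((cBit k).getD i ([], [])).2) (2 ^ i)

/-- Indices point into the table. -/
def chkIdx (k : ℕ) : Bool :=
  (cWit k).all (fun cs => cs.all fun p => Nat.blt p.2 16) && (cBit k).all (fun q => q.1.all fun p => Nat.blt p.2 16)

theorem cert : ∀ k < 3, chkBit k = true ∧ chkIdx k = true ∧ (dat k).wl.contains (cR k) = true ∧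
    (dat k).wl.all (chkY k) = true := by decide +kernel

variable {G : Type*} [Group G] [Finite G] {z : G} {Q : Subgroup (Subgroup.centralizer ({z} : Set G))}
  [hQn : Q.Normal] (m : Model z Q)

theorem act_scC (e : Subgroup.centralizer ({z} : Set G)) (he : Lin m e) {k : ℕ} (hk : k < 3) :
    ∀ (n : ℕ) {c c' : ℕ}, c < 4096 → c' < 4096 → m.act e (vecOf c) = vecOf c' →
      scC (dat k) n c < 4096 ∧ scC (dat k) n c' < 4096 ∧
        m.act e (vecOf (scC (dat k) n c)) = vecOf (scC (dat k) n c')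
  | 0, _, _, hc, hc', h => ⟨hc, hc', h⟩
  | n + 1, c, c', hc, hc', h => by
    obtain ⟨a, b, e'⟩ := act_scC e he hk n hc hc' h
    obtain ⟨h1, l1⟩ := om_code hk a
    obtain ⟨h2, l2⟩ := om_code hk b
    exact ⟨l1, l2, by rw [scC, scC, ← h1, he, e', ← h2]⟩

theorem act_combC (e : Subgroup.centralizer ({z} : Set G)) (he : Lin m e) {k : ℕ} (hk : k < 3) {c c' : ℕ}
    (hc : c < 4096) (hc' : c' < 4096)
    (hK : ∀ i < 16, m.act e (ev (kgen k) ((dat k).kerW.getD i []) • vecOf c) =
      ev (kgen k) ((dat k).kerW.getD i []) • vecOf c') :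
    ∀ l : List (ℕ × ℕ), (∀ p ∈ l, p.2 < 16) → combC (dat k) l c < 4096 ∧ combC (dat k) l c' < 4096 ∧
      m.act e (vecOf (combC (dat k) l c)) = vecOf (combC (dat k) l c')
  | [], _ => ⟨by norm_num [combC], by norm_num [combC], by simp only [combC, vecOf_zero, m.act_zero]⟩
  | p :: l, hl => by
    obtain ⟨a, b, e'⟩ := act_combC e he hk hc hc' hK l fun q hq => hl q (List.mem_cons_of_mem _ hq)
    have hp := hl p (List.mem_cons_self ..)
    have hw : (dat k).kerW.getD p.2 [] ∈ (dat k).kerW := by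
      rw [List.getD_eq_getElem _ _ (show p.2 < (dat k).kerW.length by rw [kerW_lt hk]; exact hp)]
      exact List.getElem_mem _
    haveI : IsClass k := ⟨hk⟩
    obtain ⟨w1, l1⟩ := word_act hk _ (fixW_gen hk (Or.inr hw)).1 c hc
    obtain ⟨w2, l2⟩ := word_act hk _ (fixW_gen hk (Or.inr hw)).1 c' hc'
    obtain ⟨s1, s2, s3⟩ := act_scC m e he hk p.1 l1 l2 (by rw [← w1, hK _ hp, w2])
    exact ⟨Nat.xor_lt_two_pow (n := 12) s1 a, Nat.xor_lt_two_pow (n := 12) s2 b, by
      rw [combC, combC, vecOf_xor, vecOf_xor, m.act_add, s3, e']⟩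

theorem act_fixC (e : Subgroup.centralizer ({z} : Set G)) (he : Lin m e) {k : ℕ} (hk : k < 3)
    (h2 : m.act e (rep k 2) = rep k 2) :
    ∀ l : List ℕ, m.act e (vecOf (fixC (dat k) l)) = vecOf (fixC (dat k) l)
  | [] => by simp only [fixC, vecOf_zero, m.act_zero]
  | p :: l => by
    obtain ⟨-, -, s3⟩ := act_scC m e he hk p (v2_lt k) (v2_lt k) (by rw [← rep_two]; exact h2)
    rw [fixC, vecOf_xor, m.act_add, s3, act_fixC e he hk h2 l]

theorem herm_lin (e : Subgroup.centralizer ({z} : Set G)) (he : Lin m e) (u w : Fin 6 → K4) :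
    hermForm 6 K4 2 (m.act e u) (m.act e w) = hermForm 6 K4 2 u w :=
  herm_preserve
    { toFun := m.act e
      map_add' := m.act_add e
      map_smul' := fun a v => by
        rcases k4_cases a with rfl | rfl | rfl | rfl
        · simp [m.act_zero]
        · simp
        · exact he v
        · show m.act e ((ω * ω) • v) = (ω * ω) • m.act e v
          rw [← smul_smul, he, he, smul_smul] }
    (fun v => norm_act m e v) u w

theorem ev_wC_cases {k : ℕ} (hk : k < 3) {c : ℕ} (hc : c < 4096) {w : List ℕ} (hw : w ∈ (dat k).kerW) :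
    ev (kgen k) w • vecOf c = vecOf ((dat k).wC w c) := by
  haveI : IsClass k := ⟨hk⟩
  exact (word_act hk _ (fixW_gen hk (Or.inr hw)).1 c hc).1

/-- A linear map commuting with the sixteen maps and fixing the vector is one of them on the space. -/
theorem lin_is_ker (e : Subgroup.centralizer ({z} : Set G)) (he : Lin m e)
    (h2 : m.act e (rep m.k 2) = rep m.k 2)
    (hcom : ∀ w ∈ (dat m.k).kerW, ∀ v : Fin 6 → K4, m.act e (ev (kgen m.k) w • v) = ev (kgen m.k) w • m.act e v)
    (hab : ∀ w ∈ (dat m.k).kerW, ∀ w' ∈ (dat m.k).kerW, ∀ v : Fin 6 → K4,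
      ev (kgen m.k) w • ev (kgen m.k) w' • v = ev (kgen m.k) w' • ev (kgen m.k) w • v) :
    ∃ w ∈ (dat m.k).kerW, ∀ v, m.act e v = ev (kgen m.k) w • v := by
  have hk := m.hk
  obtain ⟨hbit, hidx, hr, hy⟩ := cert m.k hk
  simp only [chkBit, chkIdx, Bool.and_eq_true, List.all_eq_true, List.mem_range, Nat.beq_eq, Nat.blt_eq,
    List.contains_iff_mem] at hbit hidx hr hy
  have hrl := wl_lt hk _ hr
  obtain ⟨hR1, hR2⟩ := (inW_code hk hrl).2 hr
  set y := enc6 (m.act e (vecOf (cR m.k))) with hydef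
  have hyl : y < 4096 := enc6_lt _
  have hey : m.act e (vecOf (cR m.k)) = vecOf y := (vecOf_enc6 _).symm
  have hyw : y ∈ (dat m.k).wl := (inW_code hk hyl).1 ⟨by rw [← hey, m.lab_act, hR1], by
    rw [← hey]
    conv_lhs => rw [← h2]
    rw [herm_lin m e he, hR2]⟩
  have hgetD : ∀ i < 16, (dat m.k).kerW.getD i [] ∈ (dat m.k).kerW := fun i hi => by
    rw [List.getD_eq_getElem _ _ (show i < (dat m.k).kerW.length by rw [kerW_lt hk]; exact hi)]
    exact List.getElem_mem _
  have hK : ∀ i < 16, m.act e (ev (kgen m.k) ((dat m.k).kerW.getD i []) • vecOf (cR m.k)) =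
      ev (kgen m.k) ((dat m.k).kerW.getD i []) • vecOf y := fun i hi => by rw [hcom _ (hgetD i hi), hey]
  have hY := hy y hyw
  simp only [chkY, Bool.or_eq_true, List.any_eq_true, Nat.beq_eq, Bool.not_eq_true'] at hY
  rcases hY with ⟨w, hw, hwy⟩ | ⟨cs, hcs, hne⟩
  swap
  · exfalso
    obtain ⟨a, b, hab'⟩ := act_combC m e he hk hrl hyl hK cs fun p hp => hidx.1 cs hcs p hp
    have := m.lab_act e (vecOf (combC (dat m.k) cs (cR m.k)))
    rw [hab', labV, labV, enc6_vecOf a, enc6_vecOf b] at this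
    rw [this] at hne
    simp at hne
  refine ⟨w, hw, ?_⟩
  obtain ⟨n, hn⟩ := m.exists_lin (word_mem hk w)
  have hwy' : ev (kgen m.k) w • vecOf (cR m.k) = vecOf y := by rw [ev_wC_cases hk hrl hw, hwy]
  have hlinn : Lin m (n : Subgroup.centralizer ({z} : Set G)) := lin_of_mem m n.2
  have hn2 : m.act n (rep m.k 2) = rep m.k 2 := by
    haveI : IsClass m.k := ⟨hk⟩
    rw [m.lin_act, hn]; exact (mem_stab.1 (fixW_gen hk (Or.inr hw)).2).2
  have hKn : ∀ i < 16, m.act n (ev (kgen m.k) ((dat m.k).kerW.getD i []) • vecOf (cR m.k)) =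
      ev (kgen m.k) ((dat m.k).kerW.getD i []) • vecOf y := fun i hi => by
    rw [m.lin_act, hn, hab w hw _ (hgetD i hi), hwy']
  have hagree : ∀ i < 12, m.act e (vecOf (2 ^ i)) = ev (kgen m.k) w • vecOf (2 ^ i) := fun i hi => by
    have hq : ∀ p ∈ ((cBit m.k).getD i ([], [])).1, p.2 < 16 := by
      intro p hp
      rcases Nat.lt_or_ge i (cBit m.k).length with h | h
      · rw [List.getD_eq_getElem _ _ h] at hp
        exact hidx.2 _ (List.getElem_mem _) p hp
      · rw [List.getD_eq_default _ _ h] at hp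
        simp at hp
    rw [← hn, ← m.lin_act, ← hbit i hi, vecOf_xor, m.act_add, m.act_add, act_fixC m e he hk h2,
      act_fixC m n hlinn hk hn2, (act_combC m e he hk hrl hyl hK _ hq).2.2,
      (act_combC m n hlinn hk hrl hyl hKn _ hq).2.2]
  intro v
  have hadd : ∀ a b : Fin 6 → K4, (m.act e (a + b) + ev (kgen m.k) w • (a + b)) =
      (m.act e a + ev (kgen m.k) w • a) + (m.act e b + ev (kgen m.k) w • b) := fun a b => by
    rw [m.act_add, smul_add']; abel
  have h0 : AddMonoidHom.mk' (fun v => m.act e v + ev (kgen m.k) w • v) hadd (vecOf (enc6 v)) = 0 := by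
    have hd : ∀ i, (List.replicate 12 0).getD i 0 = 0 := fun i => by
      rcases Nat.lt_or_ge i 12 with hi | hi
      · interval_cases i <;> rfl
      · exact List.getD_eq_default _ _ (by simpa using hi)
    have hz : app (List.replicate 12 0) (enc6 v) = 0 := by simp [app, List.replicate]
    have hb : ∀ i < 12, AddMonoidHom.mk' (fun v => m.act e v + ev (kgen m.k) w • v) hadd (vecOf (2 ^ i)) =
        vecOf ((List.replicate 12 0).getD i 0) := fun i hi => by
      show m.act e (vecOf (2 ^ i)) + _ = _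
      rw [hagree i hi, neg_self6, hd, vecOf_zero]
    rw [app_sound _ (l := List.replicate 12 0) List.length_replicate hb (enc6_lt v), hz, vecOf_zero]
  rw [vecOf_enc6] at h0
  have h0' : m.act e v + ev (kgen m.k) w • v = 0 := h0
  calc m.act e v = m.act e v + (ev (kgen m.k) w • v + ev (kgen m.k) w • v) := by rw [neg_self6, add_zero]
    _ = _ := by rw [← add_assoc, h0', zero_add]

/-- The outer elements are semilinear for the field automorphism. -/
theorem conj_of_outer (hF : IsOfLargeFischerTypeAt z Q) {h : Subgroup.centralizer ({z} : Set G)} (hh : h ∉ m.M) :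
    Conj m h := by
  obtain ⟨⟨-, -, -, -, g₀, ⟨hq, hqQ⟩, hne₀⟩, -⟩ := hF
  have hk := m.hk
  haveI : IsClass m.k := ⟨hk⟩
  set s₀ : Q := ⟨⟨g₀ * z * g₀⁻¹, hq⟩, hqQ⟩ with hs₀
  have l0 := lab_of_conj m (s := s₀) (g := g₀) rfl hne₀
  obtain ⟨x2, hx2⟩ := m.rep_surj (rep m.k 2)
  have lx : m.lab x2 = 2 := by rw [Model.lab, hx2, (rep_first m.k hk).2]
  obtain ⟨c, hc⟩ := m.conj_of_lab (Or.inr lx) (l0.trans lx.symm)
  set g : G := (c : G) * g₀ with hg
  have hs : gv x2 = g * z * g⁻¹ := by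
    rw [show gv x2 = (c : G) * (g₀ * z * g₀⁻¹) * (c : G)⁻¹ from (congrArg Subtype.val hc).symm, hg]; group
  have hne : g * z * g⁻¹ ≠ z := fun e => by
    refine (m.of_lab (Or.inr lx)).2.2 ?_
    rw [hs, e]
  have hx : g * z * g⁻¹ ∈ QG Q := hs ▸ mem_QG.2 ⟨x2, rfl⟩
  have hext := m.ext.map_conj g
  obtain ⟨hle, hp, hn⟩ := image_facts m hs (Or.inr lx)
  rw [hx2] at hle hn
  set A := (Es Q g ⊓ m.M).subgroupOf m.M with hA
  have hcA : Nat.card A = Nat.card ↥(Es Q g ⊓ m.M) :=
    Nat.card_congr (Subgroup.subgroupOfEquivOfLe inf_le_right).toEquiv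
  have hker : Nat.card ↥(A ⊓ m.lin.ker) ≤ 2 ^ 7 := by
    refine le_trans ?_ ((card_Es_inf (Q := Q) (g := g)).trans_le (card_inter_le m hx hne))
    refine Nat.card_le_card_of_injective
      (fun a => (⟨(a.1 : Subgroup.centralizer ({z} : Set G)), a.2.1.1, (m.lin_eq_one a.1).1 a.2.2⟩ :
        ↥(Es Q g ⊓ Q))) fun a b e => Subtype.ext (Subtype.ext (congrArg (fun t : ↥(Es Q g ⊓ Q) => (t : Subgroup.centralizer ({z} : Set G))) e))
  have hsplit := Spor.Leech.card_eq_ker_mul_map m.lin A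
  have h11 := card_Es_M m hx hne
  rw [← hcA] at h11
  rw [hsplit] at h11
  have h16 : 16 ≤ Nat.card (A.map m.lin) := by
    have := h11.trans (Nat.mul_le_mul_right _ hker)
    norm_num at this ⊢
    omega
  have hkw := kerSet_le hk hle hp hn h16
  -- two elements of the conjugate group commute on the space
  have hcomm : ∀ a ∈ Es Q g, ∀ b ∈ Es Q g, ∀ v, m.act a (m.act b v) = m.act b (m.act a v) := by
    intro a ha b hb v
    have hcq : (b * a)⁻¹ * (a * b) ∈ Q := by
      have hmem : ((a : G)⁻¹ * (b : G)⁻¹ * ((a : G)⁻¹)⁻¹ * ((b : G)⁻¹)⁻¹) = 1 ∨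
          ((a : G)⁻¹ * (b : G)⁻¹ * ((a : G)⁻¹)⁻¹ * ((b : G)⁻¹)⁻¹) = g * z * g⁻¹ :=
        hext.comm _ (inv_mem (mem_Es.1 ha)) _ (inv_mem (mem_Es.1 hb))
      rcases hmem with e | e
      · rw [show (b * a)⁻¹ * (a * b) = 1 from Subtype.ext (Eq.trans (by simp [mul_assoc]) e)]
        exact one_mem _
      · rw [show (b * a)⁻¹ * (a * b) = (x2 : Subgroup.centralizer ({z} : Set G)) from Subtype.ext (by
          show _ = gv x2
          rw [hs]; exact Eq.trans (by simp [mul_assoc]) e)]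
        exact x2.2
    rw [← m.act_mul, ← m.act_mul, show a * b = (b * a) * ((b * a)⁻¹ * (a * b)) by group, m.act_mul _ ((b * a)⁻¹ * _),
      (m.act_ker _).2 hcq]
  -- an element outside
  have hout : ∃ e ∈ Es Q g, e ∉ m.M := by
    by_contra hcon
    push Not at hcon
    have hEq : Es Q g ⊓ m.M = Es Q g := inf_eq_left.2 hcon
    have hle16 : Nat.card (A.map m.lin) ≤ 16 := by
      have hsub : ∀ y : A.map m.lin, y.1 ∈ KerSet m.k := fun y => by
        have hn' : ((A.map m.lin).subgroupOf (S2 m.k)).Normal := ⟨fun b hb a => hn a.1 a.2 b.1 hb⟩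
        exact fixer_mem (⟨y.1, hle y.2⟩ : S2 m.k)
          fun i => fix_all hn' (hp.of_equiv (Subgroup.subgroupOfEquivOfLe hle).symm) _ y.2 i
      choose f hf hfe using hsub
      have h16' : ∀ y, ∃ i : Fin 16, (dat m.k).kerW.getD i.1 [] = f y := fun y => by
        obtain ⟨i, hi, e⟩ := List.getElem_of_mem (hf y)
        exact ⟨⟨i, kerW_lt hk ▸ hi⟩, by rw [List.getD_eq_getElem _ _ hi, e]⟩
      choose j hj using h16'
      rw [← Nat.card_fin 16]
      refine Nat.card_le_card_of_injective j fun a b e => Subtype.ext ?_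
      rw [← hfe a, ← hfe b, ← hj a, ← hj b, e]
    have h12 := card_Es m hx hne
    rw [← hEq, ← hcA, hsplit] at h12
    have := Nat.mul_le_mul hker hle16
    rw [h12] at this
    norm_num at this
  obtain ⟨e, heE, heM⟩ := hout
  refine conj_of_one m heM (fun hlin => heM ?_) h hh
  have h2 : m.act e (rep m.k 2) = rep m.k 2 := by
    rw [← hx2, m.act_rep]
    congr 1
    refine Subtype.ext (Subtype.ext ?_)
    show (e : G) * gv x2 * (e : G)⁻¹ = gv x2
    rw [hs, mul_inv_eq_iff_eq_mul]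
    exact hext.central _ (mem_Es.1 heE)
  have hlift : ∀ w ∈ (dat m.k).kerW, ∃ b ∈ Es Q g, ∀ v, m.act b v = ev (kgen m.k) w • v := fun w hw => by
    obtain ⟨b, hb, eb⟩ := hkw w hw
    exact ⟨b, hb.1, fun v => by rw [m.lin_act, eb]⟩
  obtain ⟨w, hw, hew⟩ := lin_is_ker m e hlin h2 (fun w hw v => by
      obtain ⟨b, hb, eb⟩ := hlift w hw
      rw [← eb, ← eb, hcomm e heE b hb])
    (fun w hw w' hw' v => by
      obtain ⟨b, hb, eb⟩ := hlift w hw
      obtain ⟨b', hb', eb'⟩ := hlift w' hw'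
      rw [← eb', ← eb, ← eb, ← eb', hcomm b hb b' hb'])
  obtain ⟨b, hb⟩ := m.exists_lin (word_mem hk w)
  have : e⁻¹ * b ∈ Q := (m.act_ker _).1 fun v => by
    rw [m.act_mul, m.lin_act, hb, ← hew, m.act_cancel]
  have h' := mul_mem b.2 (inv_mem (m.M_le this))
  rwa [show (b : Subgroup.centralizer ({z} : Set G)) * (e⁻¹ * b)⁻¹ = e by group] at h'

end Cfsg.Agent.Fus.LargeFischerOuter
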