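/-
A Sylow 2-subgroup of the centraliser in a group of large Fischer type has one elementary abelian subgroup of largest
order.
-/
import Cfsg.Agent.Lib.Fus.LargeFischerAbelian
import Cfsg.Agent.Lib.Fus.LargeFischerOuter
import Cfsg.Prelude.Def_Transfer

set_option autoImplicit false
set_option maxRecDepth 100000
set_option linter.unusedSectionVars false
set_option linter.style.haveILetI false

open Cfsg Cfsg.Agent.Classical Cfsg.Agent.Spor.LargeFischer Matrix
open Cfsg.Agent.Spor.USixTwo (K4 vecOf)
open Cfsg.Agent.Spor.U62U43 (cover62)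
open Cfsg.Agent.Fus.LargeFischerScalar Cfsg.Agent.Fus.LargeFischerAbelian

namespace Cfsg.Agent.Fus.LargeFischerJ

open LargeFischerSylow (P0 E Fix)

theorem pair_zero : ∀ a b : K4, a + ω * b = 0 → a + ω * ω * b = 0 → a = 0 ∧ b = 0 := by decide +kernel

variable {G : Type*} [Group G] [Finite G] {z : G} {Q : Subgroup (Subgroup.centralizer ({z} : Set G))}
  [hQn : Q.Normal] (m : Model z Q)

/-- An elementary abelian group containing the centre whose linear part is in the tabled subgroup is small, and is
the group over the space when it is not too small. -/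
theorem normalised (hF : IsOfLargeFischerTypeAt z Q) {B : Subgroup (Subgroup.centralizer ({z} : Set G))}
    (hcomm : ∀ a ∈ B, ∀ b ∈ B, a * b = b * a) (hsq : ∀ a ∈ B, a * a = 1)
    (hz : (⟨z, Subgroup.mem_centralizer_singleton_iff.2 rfl⟩ : Subgroup.centralizer ({z} : Set G)) ∈ B)
    (hP : ∀ n : m.M, (n : Subgroup.centralizer ({z} : Set G)) ∈ B → m.lin n ∈ P0 m.k)
    (hcard : 2 ^ 11 ≤ Nat.card B) : B = K0 m := by
  classical
  have hk := m.hk
  -- the part in the extraspecial group
  set D := B.subgroupOf Q with hD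
  have hDB : ∀ x : Q, x ∈ D ↔ (x : Subgroup.centralizer ({z} : Set G)) ∈ B := fun x => Iff.rfl
  have hDle : Nat.card D ≤ 2 ^ 7 := by
    have hmap : Nat.card ((D.map Q.subtype).map (Subgroup.centralizer ({z} : Set G)).subtype) = Nat.card D := by
      rw [Subgroup.card_map_of_injective (Subgroup.subtype_injective _),
        Subgroup.card_map_of_injective (Subgroup.subtype_injective _)]
    have hzD : z ∈ (D.map Q.subtype).map (Subgroup.centralizer ({z} : Set G)).subtype := by
      obtain ⟨q, hq⟩ := mem_QG.1 m.ext.mem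
      refine ⟨(q : Subgroup.centralizer ({z} : Set G)), ⟨q, ?_, rfl⟩, hq⟩
      rw [SetLike.mem_coe, hDB, show (q : Subgroup.centralizer ({z} : Set G)) = ⟨z, _⟩ from Subtype.ext hq]
      exact hz
    have h := Spor.Leech.abelian_sq_le m.ext (D := (D.map Q.subtype).map (Subgroup.centralizer ({z} : Set G)).subtype)
      (by rintro _ ⟨_, ⟨x, -, rfl⟩, rfl⟩; exact mem_QG.2 ⟨x, rfl⟩) hzD
      (by
        rintro _ ⟨_, ⟨x, hx, rfl⟩, rfl⟩ _ ⟨_, ⟨y, hy, rfl⟩, rfl⟩
        exact congrArg Subtype.val (hcomm _ hx _ hy))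
      (by rintro _ ⟨_, ⟨x, hx, rfl⟩, rfl⟩; exact congrArg Subtype.val (hsq _ hx))
    rw [hmap, m.card_QG] at h
    by_contra hgt
    have := Nat.mul_le_mul (Nat.succ_le_of_lt (not_le.1 hgt)) (Nat.succ_le_of_lt (not_le.1 hgt))
    generalize Nat.card D = d at h this
    norm_num at h this
    omega
  -- its image
  set R := D.map (repHom m) with hR
  have hDR : Nat.card D ≤ 2 * Nat.card R := by
    rw [Spor.Leech.card_eq_ker_mul_map (repHom m) D]
    refine Nat.mul_le_mul_right _ ?_
    have hk2 : ∀ x : (D ⊓ (repHom m).ker : Subgroup Q), gv (x : Q) = 1 ∨ gv (x : Q) = z := fun x =>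
      (m.rep_zero _).1 (congrArg Multiplicative.toAdd (MonoidHom.mem_ker.1 x.2.2) :)
    rw [← Nat.card_fin 2]
    refine Nat.card_le_card_of_injective (fun x => if gv (x : Q) = 1 then (0 : Fin 2) else 1) fun x y e => ?_
    simp only at e
    refine Subtype.ext (Subtype.ext (Subtype.ext ?_))
    show gv (x : Q) = gv (y : Q)
    rcases hk2 x with hx | hx <;> rcases hk2 y with hy | hy
    · rw [hx, hy]
    · rw [if_pos hx, if_neg (by rw [hy]; exact m.ext.ne)] at e; exact absurd e (by decide)
    · rw [if_pos hy, if_neg (by rw [hx]; exact m.ext.ne)] at e; exact absurd e (by decide)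
    · rw [hx, hy]
  have hBfix : ∀ b ∈ B, ∀ u ∈ R, m.act b (Multiplicative.toAdd u) = Multiplicative.toAdd u := by
    rintro b hb _ ⟨x, hx, rfl⟩
    show m.act b (m.rep x) = m.rep x
    rw [m.act_rep]
    congr 1
    exact Subtype.ext (mul_inv_eq_iff_eq_mul.2 (hcomm b hb _ hx))
  -- the linear part
  set X := (B.subgroupOf m.M).map m.lin with hX
  have hXP : X ≤ P0 m.k := by rintro _ ⟨n, hn, rfl⟩; exact hP n hn
  have hXsq : ∀ x ∈ X, x * x = 1 := by
    rintro _ ⟨n, hn, rfl⟩
    rw [← map_mul, show n * n = 1 from Subtype.ext (hsq _ hn), map_one]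
  obtain ⟨hX16, hXE⟩ := LargeFischerSylow.elem_le hk hXP hXsq
  have hXfix : ∀ x ∈ X, ∀ u ∈ R, x • Multiplicative.toAdd u = Multiplicative.toAdd u := by
    rintro _ ⟨n, hn, rfl⟩ u hu
    rw [← m.lin_act]; exact hBfix _ hn u hu
  have hBM : Nat.card (B.subgroupOf m.M) = Nat.card D * Nat.card X := by
    rw [Spor.Leech.card_eq_ker_mul_map m.lin (B.subgroupOf m.M)]
    congr 1
    refine Nat.card_congr
      { toFun := fun n => ⟨⟨((n : m.M) : Subgroup.centralizer ({z} : Set G)), (m.lin_eq_one _).1 n.2.2⟩, n.2.1⟩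
        invFun := fun x => ⟨⟨((x : Q) : Subgroup.centralizer ({z} : Set G)), m.M_le x.1.2⟩, x.2,
          (m.lin_eq_one _).2 x.1.2⟩
        left_inv := fun n => rfl
        right_inv := fun x => rfl }
  have hidx : Nat.card B ≤ 2 * Nat.card (B.subgroupOf m.M) := by
    have hr : m.M.relIndex B ∣ m.M.index := by
      haveI := m.M_normal
      exact Subgroup.relIndex_dvd_index_of_normal m.M B
    rw [m.M_index] at hr
    have h := (m.M.subgroupOf B).card_mul_index
    have hc : Nat.card (m.M.subgroupOf B) = Nat.card (B.subgroupOf m.M) := by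
      refine Nat.card_congr
        { toFun := fun b => ⟨⟨b.1.1, b.2⟩, b.1.2⟩
          invFun := fun b => ⟨⟨b.1.1, b.2⟩, b.1.2⟩
          left_inv := fun b => rfl
          right_inv := fun b => rfl }
    rw [← h, hc, mul_comm]
    exact Nat.mul_le_mul_right _ (Nat.le_of_dvd (by norm_num) hr)
  by_cases hin : B ≤ m.M
  swap
  · exfalso
    obtain ⟨e, heB, heM⟩ := SetLike.not_le_iff_exists.1 hin
    have hconj := LargeFischerOuter.conj_of_outer m hF heM
    by_cases h32 : 32 ≤ Nat.card R
    · have hX1 : X = ⊥ := by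
        refine (Subgroup.eq_bot_iff_forall _).2 fun x hx => ?_
        by_contra hne
        have hle := LargeFischerSylow.invol_move hk (hXP hx) hne (hXsq x hx)
        have hf : ∀ p : R × R, x • (Multiplicative.toAdd p.1.1 + ω • Multiplicative.toAdd p.2.1) =
            Multiplicative.toAdd p.1.1 + ω • Multiplicative.toAdd p.2.1 := fun p => by
          rw [smul_add', smul_scalar, hXfix x hx _ p.1.2, hXfix x hx _ p.2.2]
        have := Nat.card_le_card_of_injective
          (fun p : R × R => (⟨Multiplicative.toAdd p.1.1 + ω • Multiplicative.toAdd p.2.1, hf p⟩ :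
            {v : Fin 6 → K4 // x • v = v})) fun p p' h => by
          have h' : Multiplicative.toAdd p.1.1 + ω • Multiplicative.toAdd p.2.1 =
              Multiplicative.toAdd p'.1.1 + ω • Multiplicative.toAdd p'.2.1 := congrArg Subtype.val h
          have h'' := congrArg (m.act e) h'
          rw [m.act_add, m.act_add, hconj, hconj, hBfix e heB _ p.1.2, hBfix e heB _ p.2.2, hBfix e heB _ p'.1.2,
            hBfix e heB _ p'.2.2] at h''
          have hpt : ∀ i, Multiplicative.toAdd p.1.1 i = Multiplicative.toAdd p'.1.1 i ∧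
              Multiplicative.toAdd p.2.1 i = Multiplicative.toAdd p'.2.1 i := fun i => by
            have a1 := congrFun h' i
            have a2 := congrFun h'' i
            simp only [Pi.add_apply, Pi.smul_apply, smul_eq_mul] at a1 a2
            revert a1 a2
            generalize Multiplicative.toAdd p.1.1 i = a
            generalize Multiplicative.toAdd p.2.1 i = b
            generalize Multiplicative.toAdd p'.1.1 i = c
            generalize Multiplicative.toAdd p'.2.1 i = d
            intro a1 a2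
            have h2 : ∀ s t : K4, s = t → s + t = 0 := fun s t e => by rw [e]; exact four_add t
            obtain ⟨r1, r2⟩ := pair_zero (a + c) (b + d) ((by ring : a + c + ω * (b + d) = (a + ω * b) + (c + ω * d)).trans
              (h2 _ _ a1)) ((by ring : a + c + ω * ω * (b + d) = (a + ω * ω * b) + (c + ω * ω * d)).trans (h2 _ _ a2))
            have h3 : ∀ s t : K4, s + t = 0 → s = t := by decide +kernel
            exact ⟨h3 _ _ r1, h3 _ _ r2⟩
          exact Prod.ext (Subtype.ext (Multiplicative.toAdd.injective (funext fun i => (hpt i).1)))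
            (Subtype.ext (Multiplicative.toAdd.injective (funext fun i => (hpt i).2)))
        rw [Nat.card_prod] at this
        have h1024 := Nat.mul_le_mul h32 h32
        omega
      rw [hX1, Subgroup.card_bot, mul_one] at hBM
      rw [hBM] at hidx
      norm_num at hcard hDle
      omega
    · have hmul := Nat.mul_le_mul (show Nat.card D ≤ 62 by omega) hX16
      rw [← hBM] at hmul
      norm_num at hcard hmul
      omega
  -- inside the linear half
  have hB : Nat.card B = Nat.card D * Nat.card X := by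
    rw [← hBM, Nat.card_congr (Subgroup.subgroupOfEquivOfLe hin).toEquiv]
  have hmul := Nat.mul_le_mul hDle hX16
  rw [← hB] at hmul
  have hcard' : Nat.card B = 2 ^ 11 := le_antisymm (by norm_num at hmul ⊢; exact hmul) hcard
  have hD128 : Nat.card D = 2 ^ 7 := by
    refine le_antisymm hDle ?_
    have := Nat.mul_le_mul_left (Nat.card D) hX16
    rw [← hB, hcard'] at this
    norm_num at this ⊢
    omega
  have hX' : Nat.card X = 16 := by
    have h := hB
    rw [hcard', hD128] at h
    omega
  let ψ : R → LargeFischerSylow.Fix X := fun u => ⟨Multiplicative.toAdd u.1, fun x hx => hXfix x hx _ u.2⟩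
  have hψ : Function.Injective ψ := fun a b h =>
    Subtype.ext (Multiplicative.toAdd.injective (congrArg Subtype.val h :))
  have h64 : 64 ≤ Nat.card R := by norm_num at hD128; omega
  have hXeq := hXE hX' (h64.trans (Nat.card_le_card_of_injective ψ hψ))
  have hDqu : D ≤ qu m := fun x hx => by
    show InU m (m.rep x)
    intro a ha
    exact hXfix a (hXeq ▸ ha) (Multiplicative.ofAdd (m.rep x)) ⟨x, hx, rfl⟩
  have hDeq : D = qu m := Subgroup.eq_of_le_of_card_ge hDqu (by rw [card_qu, hD128]; norm_num)
  refine Subgroup.eq_of_le_of_card_ge (fun b hb => (mem_K0 m).2 ⟨hin hb, fun x hx => ?_⟩) (by rw [card_K0, hcard'])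
  exact congrArg Subtype.val (hcomm b hb _ ((hDB x).1 (hDeq ▸ hx)))

theorem K0_comm {a b : Subgroup.centralizer ({z} : Set G)} (ha : a ∈ K0 m) (hb : b ∈ K0 m) : a * b = b * a := by
  have h := K0_sq m _ (mul_mem ha hb)
  calc a * b = (a * b)⁻¹ := (inv_eq_of_mul_eq_one_right h).symm
    _ = b⁻¹ * a⁻¹ := _root_.mul_inv_rev a b
    _ = b * a := by rw [inv_eq_of_mul_eq_one_right (K0_sq m b hb), inv_eq_of_mul_eq_one_right (K0_sq m a ha)]

/-- The centraliser has one elementary abelian group of largest order in each Sylow 2-subgroup. -/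
theorem sylow_facts {G : Type*} [Group G] [Finite G] (z : G) (Q : Subgroup (Subgroup.centralizer ({z} : Set G)))
    [hQn : Q.Normal] (hF : IsOfLargeFischerTypeAt z Q) (T : Sylow 2 ↥(Subgroup.centralizer ({z} : Set G))) :
    ∃ A : Subgroup ↥(T : Subgroup (Subgroup.centralizer ({z} : Set G))),
      maxElementaryAbelianSubgroups 2 ↥(T : Subgroup (Subgroup.centralizer ({z} : Set G))) = {A} ∧
      Nat.card A = 2 ^ 11 ∧
      Nat.card ↥(A.map (T : Subgroup (Subgroup.centralizer ({z} : Set G))).subtype ⊓ Q) = 2 ^ 7 ∧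
      Nat.card ↥((A.map (T : Subgroup (Subgroup.centralizer ({z} : Set G))).subtype).map (QuotientGroup.mk' Q)) =
        16 := by
  obtain ⟨m⟩ := exists_model hF
  haveI : Fact (Nat.Prime 2) := ⟨Nat.prime_two⟩
  set TH := (T : Subgroup (Subgroup.centralizer ({z} : Set G))) with hTH
  set zH : Subgroup.centralizer ({z} : Set G) := ⟨z, Subgroup.mem_centralizer_singleton_iff.2 rfl⟩ with hzH
  have hzc : ∀ a : Subgroup.centralizer ({z} : Set G), a * zH = zH * a := fun a =>
    Subtype.ext (Subgroup.mem_centralizer_singleton_iff.1 a.2)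
  have hzz : zH * zH = 1 := Subtype.ext m.ext.zz
  -- a conjugate of the tabled subgroup covers the linear part
  obtain ⟨c, hc, hcP⟩ := exists_conj_P0 m.hk ((TH.subgroupOf m.M).map m.lin)
    (by rintro _ ⟨n, -, rfl⟩; exact m.lin_mem n)
    (IsPGroup.map (T.isPGroup'.of_injective
      (MonoidHom.mk' (fun n : TH.subgroupOf m.M => (⟨((n : m.M) : Subgroup.centralizer ({z} : Set G)), n.2⟩ : TH))
        fun a b => rfl) fun a b h => Subtype.ext (Subtype.ext (congrArg Subtype.val h :))) _)
  obtain ⟨n, rfl⟩ := m.exists_lin hc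
  set φ : Subgroup.centralizer ({z} : Set G) ≃* Subgroup.centralizer ({z} : Set G) :=
    MulAut.conj ((n : Subgroup.centralizer ({z} : Set G))⁻¹) with hφ
  set A₀ := (K0 m).map φ.symm.toMonoidHom with hA₀
  have hA₀card : Nat.card A₀ = 2 ^ 11 := by
    rw [hA₀, Subgroup.card_map_of_injective φ.symm.injective, card_K0]
  have hA₀comm : ∀ a ∈ A₀, ∀ b ∈ A₀, a * b = b * a := by
    rintro _ ⟨a, ha, rfl⟩ _ ⟨b, hb, rfl⟩
    rw [← map_mul, ← map_mul, K0_comm m ha hb]
  have hA₀sq : ∀ a ∈ A₀, a * a = 1 := by
    rintro _ ⟨a, ha, rfl⟩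
    rw [← map_mul, K0_sq m a ha, map_one]
  have hmax : ∀ B : Subgroup (Subgroup.centralizer ({z} : Set G)), B ≤ TH → (∀ a ∈ B, ∀ b ∈ B, a * b = b * a) →
      (∀ a ∈ B, a * a = 1) → 2 ^ 11 ≤ Nat.card B → B = A₀ := by
    intro B hBT hcomm hsq hcard
    let B' : Subgroup (Subgroup.centralizer ({z} : Set G)) :=
      { carrier := {b | b ∈ B ∨ b * zH ∈ B}
        one_mem' := Or.inl (one_mem _)
        mul_mem' := by
          intro a b ha hb
          rcases ha with ha | ha <;> rcases hb with hb | hb
          · exact Or.inl (mul_mem ha hb)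
          · exact Or.inr (by rw [mul_assoc]; exact mul_mem ha hb)
          · exact Or.inr (by rw [mul_assoc, hzc, ← mul_assoc]; exact mul_mem ha hb)
          · refine Or.inl ?_
            have h := mul_mem ha hb
            rwa [mul_assoc a zH, ← mul_assoc zH, ← hzc b, mul_assoc b, hzz, mul_one] at h
        inv_mem' := by
          intro a ha
          rcases ha with ha | ha
          · exact Or.inl (inv_mem ha)
          · refine Or.inr ?_
            have h := inv_mem ha
            rwa [_root_.mul_inv_rev, inv_eq_of_mul_eq_one_right hzz, ← hzc] at h }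
    have hle : B ≤ B' := fun b hb => Or.inl hb
    have hcomm' : ∀ a ∈ B', ∀ b ∈ B', a * b = b * a := by
      have hstep : ∀ a b, a * (b * zH) = (b * zH) * a → a * b = b * a := fun a b h => by
        rw [← mul_assoc, mul_assoc b zH, ← hzc a, ← mul_assoc] at h
        exact mul_right_cancel h
      rintro a (ha | ha) b (hb | hb)
      · exact hcomm a ha b hb
      · exact hstep a b (hcomm a ha _ hb)
      · exact (hstep b a (hcomm b hb _ ha)).symm
      · exact hstep a b (hstep (b * zH) a (hcomm _ hb _ ha)).symm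
    have hsq' : ∀ a ∈ B', a * a = 1 := by
      rintro a (ha | ha)
      · exact hsq a ha
      · have h := hsq _ ha
        rwa [mul_assoc a zH, ← mul_assoc zH, ← hzc a, mul_assoc a zH, hzz, mul_one] at h
    have hzT : zH ∈ TH := by
      haveI hnz : (Subgroup.zpowers zH).Normal := ⟨fun y hy a => by
        obtain ⟨i, rfl⟩ := hy
        rw [← conj_zpow, hzc, mul_inv_cancel_right]
        exact ⟨i, rfl⟩⟩
      have hp : IsPGroup 2 (Subgroup.zpowers zH) := fun y => ⟨1, by
        obtain ⟨y, i, rfl⟩ := y
        refine Subtype.ext ?_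
        show (zH ^ i) ^ (2 ^ 1) = 1
        rw [pow_one, ← zpow_natCast, ← _root_.zpow_mul, mul_comm, _root_.zpow_mul, zpow_natCast, pow_two, hzz,
          _root_.one_zpow]⟩
      exact hp.le_sylow_of_normal T (Subgroup.mem_zpowers zH)
    have hB'T : B' ≤ TH := by
      rintro b (hb | hb)
      · exact hBT hb
      · have := mul_mem (hBT hb) hzT
        rwa [mul_assoc, hzz, mul_one] at this
    have h := normalised m hF (B := B'.map φ.toMonoidHom)
      (by rintro _ ⟨a, ha, rfl⟩ _ ⟨b, hb, rfl⟩; rw [← map_mul, ← map_mul, hcomm' a ha b hb])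
      (by rintro _ ⟨a, ha, rfl⟩; rw [← map_mul, hsq' a ha, map_one])
      ⟨zH, Or.inr (by rw [hzz]; exact one_mem _), by
        show φ zH = zH
        rw [hφ, MulAut.conj_apply, hzc, mul_inv_cancel_right]⟩
      (by
        rintro x ⟨b, hb, e⟩
        have hbM : b ∈ m.M := by
          have : b = (n : Subgroup.centralizer ({z} : Set G)) * x * (n : Subgroup.centralizer ({z} : Set G))⁻¹ := by
            rw [← e]
            show b = _ * φ b * _
            rw [hφ, MulAut.conj_apply]; group
          rw [this]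
          exact mul_mem (mul_mem n.2 x.2) (inv_mem n.2)
        have := hcP _ ⟨⟨b, hbM⟩, hB'T hb, rfl⟩
        rw [show x = n⁻¹ * ⟨b, hbM⟩ * n from Subtype.ext (by
          rw [← e]; show φ b = _; rw [hφ, MulAut.conj_apply, inv_inv]; rfl), map_mul, map_mul, map_inv]
        exact this)
      (by rw [Subgroup.card_map_of_injective φ.injective]; exact hcard.trans (Subgroup.card_le_of_le hle))
    have hB' : B' = A₀ := by
      rw [hA₀, ← h, Subgroup.map_map]
      conv_lhs => rw [← Subgroup.map_id B']
      congr 1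
      ext a
      simp
    refine Subgroup.eq_of_le_of_card_ge (hle.trans hB'.le) ?_
    rw [hA₀card]; exact hcard
  -- it lies in the Sylow subgroup
  obtain ⟨T', hT'⟩ := (IsPGroup.of_card (n := 11) hA₀card).exists_le_sylow
  obtain ⟨g, hg⟩ := MulAction.exists_smul_eq (Subgroup.centralizer ({z} : Set G)) T' T
  have hgT : A₀.map (MulAut.conj g).toMonoidHom ≤ TH := by
    rintro _ ⟨a, ha, rfl⟩
    rw [hTH, ← hg, Sylow.coe_subgroup_smul]
    exact Subgroup.smul_mem_pointwise_smul a (MulAut.conj g) _ (hT' ha)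
  have hgA : A₀.map (MulAut.conj g).toMonoidHom = A₀ := hmax _ hgT
    (by rintro _ ⟨a, ha, rfl⟩ _ ⟨b, hb, rfl⟩; rw [← map_mul, ← map_mul, hA₀comm a ha b hb])
    (by rintro _ ⟨a, ha, rfl⟩; rw [← map_mul, hA₀sq a ha, map_one])
    (by rw [Subgroup.card_map_of_injective (MulAut.conj g).injective, hA₀card])
  have hAT : A₀ ≤ TH := hgA ▸ hgT
  set A := A₀.subgroupOf TH with hA
  have hAmap : A.map TH.subtype = A₀ := Subgroup.map_subgroupOf_eq_of_le hAT
  have hAcard : Nat.card A = 2 ^ 11 := by
    rw [hA, Nat.card_congr (Subgroup.subgroupOfEquivOfLe hAT).toEquiv, hA₀card]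
  have hAel : IsElementaryAbelian 2 A :=
    ⟨⟨⟨fun a b => Subtype.ext (Subtype.ext (hA₀comm _ a.2 _ b.2))⟩⟩, fun a ha => Subtype.ext (by
      rw [pow_two]; exact hA₀sq _ ha)⟩
  have hany : ∀ B : Subgroup TH, IsElementaryAbelian 2 B → 2 ^ 11 ≤ Nat.card B → B = A := by
    intro B hB hcard
    have e := hmax (B.map TH.subtype) (Subgroup.map_subtype_le _)
      (by
        rintro _ ⟨a, ha, rfl⟩ _ ⟨b, hb, rfl⟩
        rw [← map_mul, ← map_mul]
        exact congrArg TH.subtype (congrArg Subtype.val (hB.1.1.comm (⟨a, ha⟩ : B) ⟨b, hb⟩)))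
      (by rintro _ ⟨a, ha, rfl⟩; rw [← map_mul, ← pow_two, hB.2 a ha, map_one])
      (by rwa [Subgroup.card_map_of_injective (Subgroup.subtype_injective _)])
    exact Subgroup.map_injective (Subgroup.subtype_injective _) (e.trans hAmap.symm)
  have hKQ : A.map TH.subtype ⊓ Q = ((qu m).map Q.subtype).map φ.symm.toMonoidHom := by
    rw [hAmap, ← K0_inf_Q, hA₀, Subgroup.map_inf _ _ _ φ.symm.injective]
    congr 1
    ext q
    constructor
    · intro hq
      refine ⟨φ q, hQn.conj_mem _ hq _, φ.symm_apply_apply q⟩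
    · rintro ⟨y, hy, rfl⟩
      have : φ.symm y = (n : Subgroup.centralizer ({z} : Set G)) * y * (n : Subgroup.centralizer ({z} : Set G))⁻¹ := by
        apply φ.injective
        rw [MulEquiv.apply_symm_apply, hφ, MulAut.conj_apply]; group
      show φ.symm y ∈ Q
      rw [this]
      exact hQn.conj_mem _ hy _
  have h7 : Nat.card ↥(A.map TH.subtype ⊓ Q) = 2 ^ 7 := by
    rw [hKQ, Subgroup.card_map_of_injective φ.symm.injective,
      Subgroup.card_map_of_injective (Subgroup.subtype_injective _), card_qu]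
    norm_num
  refine ⟨A, ?_, hAcard, h7, ?_⟩
  · refine Set.ext fun B => ⟨fun ⟨hB, hBmax⟩ => hany B hB (hAcard ▸ hBmax A hAel), ?_⟩
    intro hBA
    obtain rfl : B = A := hBA
    refine ⟨hAel, fun B' hB' => ?_⟩
    by_contra hlt
    have := hany B' hB' (by omega)
    rw [this] at hlt
    exact hlt le_rfl
  · have h := Spor.Leech.card_eq_ker_mul_map (QuotientGroup.mk' Q) (A.map TH.subtype)
    rw [QuotientGroup.ker_mk', h7, Subgroup.card_map_of_injective (Subgroup.subtype_injective _), hAcard] at h
    norm_num at h ⊢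
    omega

end Cfsg.Agent.Fus.LargeFischerJ
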