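/-
The group of order `2^11` in the whole group of large Fischer type: it is its own centraliser, the Thompson subgroup
of the Sylow 2-subgroups containing it, and its normaliser controls fusion in it.
-/
import Cfsg.Agent.Lib.Fus.LargeFischerJ

set_option autoImplicit false
set_option maxRecDepth 100000
set_option linter.unusedSectionVars false
set_option linter.style.haveILetI false

open Cfsg Cfsg.Agent.Classical Cfsg.Agent.Spor.Cos Cfsg.Agent.Spor.LargeFischer Matrix
open Cfsg.Agent.Spor.USixTwo (K4 vecOf)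
open Cfsg.Agent.Fus.LargeFischerScalar Cfsg.Agent.Fus.LargeFischerAbelian

namespace Cfsg.Agent.Fus.LargeFischerLocal

/-- An elementary abelian subgroup of order at least `2^11`. -/
def Big {X : Type*} [Group X] (B : Subgroup X) : Prop :=
  (∀ a ∈ B, ∀ b ∈ B, a * b = b * a) ∧ (∀ a ∈ B, a * a = 1) ∧ 2 ^ 11 ≤ Nat.card B

theorem Big.map {X Y : Type*} [Group X] [Group Y] {B : Subgroup X} (h : Big B) {f : X →* Y}
    (hf : Function.Injective f) : Big (B.map f) := by
  refine ⟨?_, ?_, by rw [Subgroup.card_map_of_injective hf]; exact h.2.2⟩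
  · rintro _ ⟨a, ha, rfl⟩ _ ⟨b, hb, rfl⟩
    rw [← map_mul, ← map_mul, h.1 a ha b hb]
  · rintro _ ⟨a, ha, rfl⟩
    rw [← map_mul, h.2.1 a ha, map_one]

theorem Big.subgroupOf {X : Type*} [Group X] {B K : Subgroup X} (h : Big B) (hle : B ≤ K) :
    Big (B.subgroupOf K) := by
  refine ⟨fun a ha b hb => Subtype.ext (h.1 _ ha _ hb), fun a ha => Subtype.ext (h.2.1 _ ha), ?_⟩
  rw [Nat.card_congr (Subgroup.subgroupOfEquivOfLe hle).toEquiv]
  exact h.2.2

theorem Big.isElementaryAbelian {X : Type*} [Group X] {B : Subgroup X} (h : Big B) : IsElementaryAbelian 2 B :=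
  ⟨⟨⟨fun a b => Subtype.ext (h.1 _ a.2 _ b.2)⟩⟩, fun a ha => by rw [pow_two]; exact h.2.1 a ha⟩

/-- Where the big subgroup is unique it is the Thompson subgroup. -/
theorem thompson_eq {X : Type*} [Group X] [Finite X] {P B : Subgroup X} (hle : B ≤ P) (hB : Big B)
    (huniq : ∀ C, C ≤ P → Big C → C = B) : thompsonSubgroupOf 2 P = B := by
  have hmax : maxElementaryAbelianSubgroups 2 ↥P = {B.subgroupOf P} := by
    have key : ∀ C : Subgroup P, IsElementaryAbelian 2 C → 2 ^ 11 ≤ Nat.card C → C = B.subgroupOf P := by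
      intro C hC hcard
      have hbig : Big C := ⟨fun a ha b hb => congrArg Subtype.val (hC.1.1.comm (⟨a, ha⟩ : C) ⟨b, hb⟩),
        fun a ha => by rw [← pow_two]; exact hC.2 a ha, hcard⟩
      have e := huniq _ (Subgroup.map_subtype_le C) (hbig.map (Subgroup.subtype_injective _))
      refine Subgroup.map_injective (Subgroup.subtype_injective P) ?_
      rw [e, Subgroup.map_subgroupOf_eq_of_le hle]
    refine Set.ext fun C => ⟨fun ⟨hC, hCmax⟩ => key C hC ?_, ?_⟩
    · exact le_trans (hB.subgroupOf hle).2.2 (hCmax _ (hB.subgroupOf hle).isElementaryAbelian)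
    · rintro (rfl : C = B.subgroupOf P)
      refine ⟨(hB.subgroupOf hle).isElementaryAbelian, fun D hD => ?_⟩
      by_contra hlt
      have := key D hD (le_trans (hB.subgroupOf hle).2.2 (le_of_lt (not_le.1 hlt)))
      exact hlt (this ▸ le_rfl)
  rw [thompsonSubgroupOf, thompsonSubgroup, hmax, sSup_singleton, Subgroup.map_subgroupOf_eq_of_le hle]

variable {G : Type*} [Group G] [Finite G] {z : G} {Q : Subgroup (Subgroup.centralizer ({z} : Set G))}
  [hQn : Q.Normal] (m : Model z Q)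

/-- The group in the whole group. -/
def AK : Subgroup G := (K0 m).map (Subgroup.centralizer ({z} : Set G)).subtype

/-- The centre of the extraspecial group in the centraliser. -/
def zH : Subgroup.centralizer ({z} : Set G) := ⟨z, Subgroup.mem_centralizer_singleton_iff.2 rfl⟩

theorem zH_comm (a : Subgroup.centralizer ({z} : Set G)) : a * zH (z := z) = zH * a :=
  Subtype.ext (Subgroup.mem_centralizer_singleton_iff.1 a.2)

include m in
theorem exists_zQ : ∃ q : Q, gv q = z ∧ (q : Subgroup.centralizer ({z} : Set G)) = zH := by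
  obtain ⟨q, hq⟩ := mem_QG.1 m.ext.mem
  exact ⟨q, hq, Subtype.ext hq⟩

include m in
theorem zH_mem_Q : (zH : Subgroup.centralizer ({z} : Set G)) ∈ Q := by
  obtain ⟨q, -, e⟩ := exists_zQ m
  exact e ▸ q.2

theorem zH_mem_K0 : (zH : Subgroup.centralizer ({z} : Set G)) ∈ K0 m :=
  (mem_K0 m).2 ⟨m.M_le (zH_mem_Q m), fun x _ =>
    (Subgroup.mem_centralizer_singleton_iff.1 (x : Subgroup.centralizer ({z} : Set G)).2).symm⟩

theorem z_mem_AK : z ∈ AK m := ⟨zH, zH_mem_K0 m, rfl⟩

theorem AK_le : AK m ≤ Subgroup.centralizer ({z} : Set G) := Subgroup.map_subtype_le _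

theorem card_AK : Nat.card (AK m) = 2 ^ 11 := by
  rw [AK, Subgroup.card_map_of_injective (Subgroup.subtype_injective _), card_K0]

theorem K0_big : Big (K0 m) :=
  ⟨fun _ ha _ hb => LargeFischerJ.K0_comm m ha hb, K0_sq m, (card_K0 m).ge⟩

theorem AK_big : Big (AK m) := (K0_big m).map (Subgroup.subtype_injective _)

/-- The group is its own centraliser. -/
theorem self_cent (hF : IsOfLargeFischerTypeAt z Q) {c : G} (h : ∀ a ∈ AK m, c * a = a * c) : c ∈ AK m := by
  obtain ⟨c, rfl⟩ : ∃ c' : Subgroup.centralizer ({z} : Set G), (c' : G) = c :=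
    ⟨⟨c, Subgroup.mem_centralizer_singleton_iff.2 (h z (z_mem_AK m))⟩, rfl⟩
  have hqu : ∀ x ∈ qu m, (c : G) * gv x = gv x * (c : G) := fun x hx => h _ ⟨_, qu_le m hx, rfl⟩
  refine ⟨c, (mem_K0 m).2 ⟨?_, hqu⟩, rfl⟩
  by_contra hc
  have hconj := LargeFischerOuter.conj_of_outer m hF hc
  obtain ⟨-, -, hlt, -, -, -, -, -⟩ := LargeFischerSylow.uw_facts m.hk
  have hfix : ∀ x ∈ qu m, m.act c (m.rep x) = m.rep x := fun x hx => by
    rw [m.act_rep]
    exact congrArg m.rep (Subtype.ext (Subtype.ext (mul_inv_eq_iff_eq_mul.2 (hqu x hx))))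
  have hzero : ∀ u, InU m u → u = 0 := fun u hu => by
    obtain ⟨x, rfl⟩ := m.rep_surj u
    obtain ⟨y, hy⟩ := m.rep_surj (ω • m.rep x)
    have hy' : y ∈ qu m := show InU m (m.rep y) from hy.symm ▸ inU_smul m ω hu
    have e := hfix y hy'
    rw [hy, hconj, hfix x hu] at e
    funext i
    have ei := congrFun e i
    simp only [Pi.smul_apply, smul_eq_mul] at ei
    revert ei
    show _ → m.rep x i = 0
    generalize m.rep x i = a
    revert a; decide +kernel
  have hsub : Subsingleton (LargeFischerSylow.Fix (LargeFischerSylow.E m.hk)) :=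
    ⟨fun a b => Subtype.ext ((hzero a.1 a.2).trans (hzero b.1 b.2).symm)⟩
  have := LargeFischerSylow.card_fix_E m.hk
  have h1 := Finite.card_le_one_iff_subsingleton.2 hsub
  omega

include m in
/-- Only the centre and one are central in a Sylow 2-subgroup of the centraliser. -/
theorem center_sylow {T : Sylow 2 ↥(Subgroup.centralizer ({z} : Set G))} {c : Subgroup.centralizer ({z} : Set G)}
    (_hc : c ∈ T) (h : ∀ t ∈ T, t * c = c * t) : (c : G) = 1 ∨ (c : G) = z := by
  haveI : Fact (Nat.Prime 2) := ⟨Nat.prime_two⟩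
  have hQT : Q ≤ (T : Subgroup _) := by
    refine (IsPGroup.of_card (n := 13) ?_).le_sylow_of_normal T
    rw [← m.card_QG]
    exact (Subgroup.card_map_of_injective (Subgroup.subtype_injective _)).symm
  have hall : ∀ q ∈ QG Q, (c : G) * q = q * (c : G) := fun q hq => by
    obtain ⟨q, rfl⟩ := mem_QG.1 hq
    exact (congrArg Subtype.val (h _ (hQT q.2))).symm
  have hcQ : (c : G) ∈ QG Q := m.ext.self _ fun q hq => (hall q hq).symm
  exact m.ext.cen _ hcQ fun q hq => (hall q hq).symm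

include m in
/-- A Sylow 2-subgroup of the centraliser is one of the whole group. -/
theorem exists_sylow_eq (T : Sylow 2 ↥(Subgroup.centralizer ({z} : Set G))) :
    ∃ P : Sylow 2 G, (P : Subgroup G) = (T : Subgroup _).map (Subgroup.centralizer ({z} : Set G)).subtype := by
  haveI : Fact (Nat.Prime 2) := ⟨Nat.prime_two⟩
  obtain ⟨P, hP⟩ := (T.isPGroup'.map (Subgroup.centralizer ({z} : Set G)).subtype).exists_le_sylow
  refine ⟨P, le_antisymm ?_ hP⟩
  by_contra hne
  haveI : Group.IsNilpotent (P : Subgroup G) := P.isPGroup'.isNilpotent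
  have hlt : ((T : Subgroup _).map (Subgroup.centralizer ({z} : Set G)).subtype).subgroupOf (P : Subgroup G) < ⊤ := lt_top_iff_ne_top.2 fun e =>
    hne (Subgroup.subgroupOf_eq_top.1 e)
  have hn := Group.normalizerCondition_of_isNilpotent (G := (P : Subgroup G)) (((T : Subgroup _).map (Subgroup.centralizer ({z} : Set G)).subtype).subgroupOf P) hlt
  obtain ⟨g, hg, hgT⟩ := SetLike.exists_of_lt hn
  have hnorm : ∀ x ∈ ((T : Subgroup _).map (Subgroup.centralizer ({z} : Set G)).subtype), (g : G) * x * (g : G)⁻¹ ∈ ((T : Subgroup _).map (Subgroup.centralizer ({z} : Set G)).subtype) := fun x hx => by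
    exact (Subgroup.mem_normalizer_iff.1 hg ⟨x, hP hx⟩).1 hx
  have hzT : (zH : Subgroup.centralizer ({z} : Set G)) ∈ T := by
    haveI : (Subgroup.zpowers (zH : Subgroup.centralizer ({z} : Set G))).Normal := ⟨fun y hy a => by
      obtain ⟨i, rfl⟩ := hy
      rw [← conj_zpow, zH_comm, mul_inv_cancel_right]
      exact ⟨i, rfl⟩⟩
    refine (show IsPGroup 2 (Subgroup.zpowers (zH : Subgroup.centralizer ({z} : Set G))) from ?_).le_sylow_of_normal T
      (Subgroup.mem_zpowers _)
    refine IsPGroup.of_card (n := 1) ?_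
    rw [Nat.card_zpowers, pow_one]
    exact orderOf_eq_prime (by rw [pow_two]; exact Subtype.ext m.ext.zz) fun e => m.ext.ne (congrArg Subtype.val e)
  obtain ⟨w, hwT, hw⟩ : (g : G) * z * (g : G)⁻¹ ∈ ((T : Subgroup _).map (Subgroup.centralizer ({z} : Set G)).subtype) := hnorm z ⟨_, hzT, rfl⟩
  have hcent : ∀ t ∈ T, t * w = w * t := fun t ht => by
    have hinj : Function.Injective (fun x : ((T : Subgroup _).map (Subgroup.centralizer ({z} : Set G)).subtype) => (⟨_, hnorm x.1 x.2⟩ : ((T : Subgroup _).map (Subgroup.centralizer ({z} : Set G)).subtype))) := fun x y e =>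
      Subtype.ext (mul_left_cancel (mul_right_cancel (congrArg Subtype.val e :)))
    obtain ⟨⟨s, hs⟩, hs'⟩ := Finite.injective_iff_surjective.1 hinj ⟨(t : G), t, ht, rfl⟩
    have e : (g : G) * s * (g : G)⁻¹ = (t : G) := congrArg Subtype.val hs'
    obtain ⟨s, -, rfl⟩ := hs
    refine Subtype.ext ?_
    show (t : G) * (w : G) = (w : G) * (t : G)
    rw [← e, show (w : G) = (g : G) * z * (g : G)⁻¹ from hw, Subgroup.coe_subtype]
    calc (g : G) * (s : G) * (g : G)⁻¹ * ((g : G) * z * (g : G)⁻¹) = (g : G) * ((s : G) * z) * (g : G)⁻¹ := by group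
      _ = (g : G) * (z * (s : G)) * (g : G)⁻¹ := by rw [Subgroup.mem_centralizer_singleton_iff.1 s.2]
      _ = _ := by group
  rcases center_sylow m hwT hcent with e | e
  · refine m.ext.ne ?_
    have : (g : G) * z * (g : G)⁻¹ = 1 := hw.symm.trans e
    calc z = (g : G)⁻¹ * ((g : G) * z * (g : G)⁻¹) * g := by group
      _ = 1 := by rw [this]; group
  have hgH : (g : G) ∈ Subgroup.centralizer ({z} : Set G) := Subgroup.mem_centralizer_singleton_iff.2
    (mul_inv_eq_iff_eq_mul.1 (hw.symm.trans e))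
  have hPH : IsPGroup 2 (((P : Subgroup G) ⊓ Subgroup.centralizer ({z} : Set G)).subgroupOf (Subgroup.centralizer ({z} : Set G))) :=
    (P.isPGroup'.to_le inf_le_left).of_equiv (Subgroup.subgroupOfEquivOfLe inf_le_right).symm
  have hle : (T : Subgroup (Subgroup.centralizer ({z} : Set G))) ≤ ((P : Subgroup G) ⊓ Subgroup.centralizer ({z} : Set G)).subgroupOf (Subgroup.centralizer ({z} : Set G)) := fun x hx => ⟨hP ⟨x, hx, rfl⟩, x.2⟩
  have := T.3 hPH hle
  refine hgT (show (g : G) ∈ ((T : Subgroup _).map (Subgroup.centralizer ({z} : Set G)).subtype) from ⟨⟨g, hgH⟩, ?_, rfl⟩)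
  show (⟨g, hgH⟩ : Subgroup.centralizer ({z} : Set G)) ∈ (T : Subgroup (Subgroup.centralizer ({z} : Set G)))
  rw [← this]
  exact ⟨g.2, hgH⟩

/-- In each Sylow 2-subgroup one subgroup is big. -/
theorem sylow_unique (m : Model z Q) (hF : IsOfLargeFischerTypeAt z Q) (P : Sylow 2 G) :
    ∃ B, B ≤ (P : Subgroup G) ∧ Big B ∧ ∀ C, C ≤ (P : Subgroup G) → Big C → C = B := by
  haveI : Fact (Nat.Prime 2) := ⟨Nat.prime_two⟩
  let T : Sylow 2 (Subgroup.centralizer ({z} : Set G)) := default
  obtain ⟨P₀, hP₀⟩ := exists_sylow_eq m T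
  obtain ⟨A, hA, hA11, -, -⟩ := LargeFischerJ.sylow_facts z Q hF T
  have hAmem : A ∈ maxElementaryAbelianSubgroups 2 ↥(T : Subgroup (Subgroup.centralizer ({z} : Set G))) := by rw [hA]; exact rfl
  have key : ∀ C : Subgroup G, C ≤ (P₀ : Subgroup G) → Big C →
      C = (A.map (T : Subgroup (Subgroup.centralizer ({z} : Set G))).subtype).map (Subgroup.centralizer ({z} : Set G)).subtype := by
    intro C hC hbig
    rw [hP₀] at hC
    have hCH : C ≤ (Subgroup.centralizer ({z} : Set G)) := hC.trans (Subgroup.map_subtype_le _)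
    have hCT : C.subgroupOf (Subgroup.centralizer ({z} : Set G)) ≤ (T : Subgroup (Subgroup.centralizer ({z} : Set G))) := fun x hx => by
      obtain ⟨y, hy, e⟩ := hC hx
      obtain rfl : y = x := Subtype.ext e
      exact hy
    have hbig' := (hbig.subgroupOf hCH).subgroupOf hCT
    have hle : ∀ D : Subgroup (T : Subgroup (Subgroup.centralizer ({z} : Set G))), IsElementaryAbelian 2 D → Nat.card D ≤ Nat.card A := hAmem.2
    have hmem : (C.subgroupOf (Subgroup.centralizer ({z} : Set G))).subgroupOf (T : Subgroup (Subgroup.centralizer ({z} : Set G))) ∈ maxElementaryAbelianSubgroups 2 ↥(T : Subgroup (Subgroup.centralizer ({z} : Set G))) :=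
      ⟨hbig'.isElementaryAbelian, fun D hD => (hle D hD).trans (hA11.le.trans hbig'.2.2)⟩
    rw [hA] at hmem
    rw [← Set.mem_singleton_iff.1 hmem, Subgroup.map_subgroupOf_eq_of_le hCT,
      Subgroup.map_subgroupOf_eq_of_le hCH]
  have hA0le : (A.map (T : Subgroup (Subgroup.centralizer ({z} : Set G))).subtype).map (Subgroup.centralizer ({z} : Set G)).subtype ≤ (P₀ : Subgroup G) :=
    hP₀ ▸ Subgroup.map_mono (Subgroup.map_subtype_le _)
  have hA0big : Big ((A.map (T : Subgroup (Subgroup.centralizer ({z} : Set G))).subtype).map (Subgroup.centralizer ({z} : Set G)).subtype) := by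
    have : Big A := ⟨fun a ha b hb => congrArg Subtype.val (hAmem.1.1.1.comm (⟨a, ha⟩ : A) ⟨b, hb⟩),
      fun a ha => by rw [← pow_two]; exact hAmem.1.2 a ha, hA11.ge⟩
    exact (this.map (Subgroup.subtype_injective _)).map (Subgroup.subtype_injective _)
  obtain ⟨g, hg⟩ := MulAction.exists_smul_eq G P₀ P
  have hP : (P : Subgroup G) = (P₀ : Subgroup G).map (MulAut.conj g).toMonoidHom := by
    rw [← hg, Sylow.coe_subgroup_smul]; rfl
  refine ⟨_, hP ▸ Subgroup.map_mono hA0le, hA0big.map (MulAut.conj g).injective, fun C hC hbig => ?_⟩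
  have hC' : C.map (MulAut.conj g).symm.toMonoidHom ≤ (P₀ : Subgroup G) := by
    rintro _ ⟨x, hx, rfl⟩
    obtain ⟨y, hy, rfl⟩ := hP ▸ hC hx
    show g⁻¹ * (g * y * g⁻¹) * g ∈ (P₀ : Subgroup G)
    rw [show g⁻¹ * (g * y * g⁻¹) * g = y by group]
    exact hy
  rw [← key _ hC' (hbig.map (MulAut.conj g).symm.injective), Subgroup.map_map]
  conv_lhs => rw [← Subgroup.map_id C]
  congr 1
  ext a
  simp

theorem big_eq (m : Model z Q) (hF : IsOfLargeFischerTypeAt z Q) {P : Sylow 2 G} {B C : Subgroup G}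
    (hB : B ≤ (P : Subgroup G)) (hB' : Big B) (hC : C ≤ (P : Subgroup G)) (hC' : Big C) : B = C := by
  obtain ⟨D, -, -, h⟩ := sylow_unique m hF P
  rw [h B hB hB', h C hC hC']

/-- Every Thompson subgroup of a Sylow 2-subgroup is conjugate to the group. -/
theorem thompson_conj (hF : IsOfLargeFischerTypeAt z Q) (T : Sylow 2 G) :
    ∃ g : G, thompsonSubgroupOf 2 (T : Subgroup G) = (AK m).map (MulAut.conj g).toMonoidHom := by
  haveI : Fact (Nat.Prime 2) := ⟨Nat.prime_two⟩
  obtain ⟨P, hP⟩ := (IsPGroup.of_card (card_AK m)).exists_le_sylow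
  obtain ⟨g, hg⟩ := MulAction.exists_smul_eq G P T
  refine ⟨g, thompson_eq ?_ ((AK_big m).map (MulAut.conj g).injective) fun C hC hbig => ?_⟩
  · rw [← hg, Sylow.coe_subgroup_smul]
    exact Subgroup.map_mono hP
  · refine big_eq m hF hC hbig ?_ ((AK_big m).map (MulAut.conj g).injective)
    rw [← hg, Sylow.coe_subgroup_smul]
    exact Subgroup.map_mono hP

/-- The normaliser controls fusion. -/
theorem fusion (hF : IsOfLargeFischerTypeAt z Q) {a g : G} (ha : a ∈ AK m) (hga : g * a * g⁻¹ ∈ AK m) :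
    ∃ n ∈ Subgroup.normalizer (AK m : Set G), n * a * n⁻¹ = g * a * g⁻¹ := by
  haveI : Fact (Nat.Prime 2) := ⟨Nat.prime_two⟩
  set C := Subgroup.centralizer ({a} : Set G) with hC
  set B := (AK m).map (MulAut.conj g⁻¹).toMonoidHom with hB
  have hAC : AK m ≤ C := fun x hx => Subgroup.mem_centralizer_singleton_iff.2 ((AK_big m).1 x hx a ha)
  have hBC : B ≤ C := by
    rintro _ ⟨x, hx, rfl⟩
    refine Subgroup.mem_centralizer_singleton_iff.2 ?_
    have h := (AK_big m).1 x hx _ hga
    show g⁻¹ * x * g⁻¹⁻¹ * a = a * (g⁻¹ * x * g⁻¹⁻¹)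
    rw [inv_inv]
    calc g⁻¹ * x * g * a = g⁻¹ * (x * (g * a * g⁻¹)) * g := by group
      _ = g⁻¹ * ((g * a * g⁻¹) * x) * g := by rw [h]
      _ = _ := by group
  have hpA : IsPGroup 2 ((AK m).subgroupOf C) :=
    (IsPGroup.of_card (card_AK m)).of_equiv (Subgroup.subgroupOfEquivOfLe hAC).symm
  have hpB : IsPGroup 2 (B.subgroupOf C) :=
    ((IsPGroup.of_card (card_AK m)).map _).of_equiv (Subgroup.subgroupOfEquivOfLe hBC).symm
  obtain ⟨S, hS⟩ := hpA.exists_le_sylow
  obtain ⟨S', hS'⟩ := hpB.exists_le_sylow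
  obtain ⟨c, hc⟩ := MulAction.exists_smul_eq C S' S
  obtain ⟨P, hP⟩ := (S.isPGroup'.map C.subtype).exists_le_sylow
  have hBP : B.map (MulAut.conj (c : G)).toMonoidHom ≤ (P : Subgroup G) := by
    rintro _ ⟨x, hx, rfl⟩
    refine hP ⟨MulAut.conj c ⟨x, hBC hx⟩, ?_, rfl⟩
    rw [← hc, Sylow.coe_subgroup_smul]
    exact Subgroup.smul_mem_pointwise_smul (⟨x, hBC hx⟩ : C) (MulAut.conj c) _ (hS' hx)
  have hAP : AK m ≤ (P : Subgroup G) := fun x hx => hP ⟨⟨x, hAC hx⟩, hS hx, rfl⟩
  have e := big_eq m hF hBP (((AK_big m).map (MulAut.conj g⁻¹).injective).map (MulAut.conj (c : G)).injective)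
    hAP (AK_big m)
  refine ⟨g * (c : G)⁻¹, Subgroup.mem_normalizer_iff_map_conj_eq.2 ?_, ?_⟩
  · conv_rhs => rw [← Subgroup.map_id (AK m)]
    conv_lhs => rw [← e, hB, Subgroup.map_map, Subgroup.map_map]
    congr 1
    ext x
    simp [MulAut.conj_apply]
    group
  · have hca : (c : G) * a = a * (c : G) := Subgroup.mem_centralizer_singleton_iff.1 c.2
    calc g * (c : G)⁻¹ * a * (g * (c : G)⁻¹)⁻¹ = g * ((c : G)⁻¹ * (a * (c : G))) * g⁻¹ := by group
      _ = g * ((c : G)⁻¹ * ((c : G) * a)) * g⁻¹ := by rw [hca]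
      _ = g * a * g⁻¹ := by group

/-- An element of prime order on the group modulo itself constrains the prime. -/
theorem prime_cong (hF : IsOfLargeFischerTypeAt z Q) {p : ℕ} (hp : p.Prime) {g : G}
    (hg : g ∈ Subgroup.normalizer (AK m : Set G)) (hpow : g ^ p ∈ AK m) (hgA : g ∉ AK m) :
    ∃ d ≤ 10, 2 ^ 11 ≡ 2 ^ d [MOD p] := by
  classical
  haveI : Fact p.Prime := ⟨hp⟩
  let σ : Equiv.Perm (AK m) :=
    { toFun := fun a => ⟨g * a.1 * g⁻¹, (Subgroup.mem_normalizer_iff.1 hg _).1 a.2⟩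
      invFun := fun a => ⟨g⁻¹ * a.1 * g, by
        have := (Subgroup.mem_normalizer_iff.1 (inv_mem hg) _).1 a.2
        rwa [inv_inv] at this⟩
      left_inv := fun a => Subtype.ext (by show g⁻¹ * (g * a.1 * g⁻¹) * g = a.1; group)
      right_inv := fun a => Subtype.ext (by show g * (g⁻¹ * a.1 * g) * g⁻¹ = a.1; group) }
  have hσn : ∀ (n : ℕ) (a : AK m), ((σ ^ n) a : G) = g ^ n * (a : G) * (g ^ n)⁻¹ := fun n => by
    induction n with
    | zero => intro a; simp
    | succ n ih =>
      intro a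
      rw [pow_succ', Equiv.Perm.mul_apply]
      show g * ((σ ^ n) a : G) * g⁻¹ = _
      rw [ih, pow_succ']; group
  have hσp : σ ^ p = 1 := Equiv.ext fun a => Subtype.ext (by
    rw [hσn, Equiv.Perm.one_apply, (AK_big m).1 _ hpow _ a.2, mul_inv_cancel_right])
  have hσ1 : σ ≠ 1 := fun e => hgA (self_cent m hF fun a ha => by
    have := congrArg (fun τ : Equiv.Perm (AK m) => ((τ ⟨a, ha⟩ : AK m) : G)) e
    exact mul_inv_eq_iff_eq_mul.1 this)
  have hgrp : IsPGroup p (Subgroup.zpowers σ) :=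
    IsPGroup.of_card (n := 1) (by rw [Nat.card_zpowers, pow_one, orderOf_eq_prime hσp hσ1])
  have hmod := hgrp.card_modEq_card_fixedPoints (AK m)
  set F := AK m ⊓ Subgroup.centralizer ({g} : Set G) with hFdef
  have hfix : Nat.card (MulAction.fixedPoints (Subgroup.zpowers σ) (AK m)) = Nat.card F := by
    refine Nat.card_congr
      { toFun := fun a => ⟨(a.1 : G), a.1.2, Subgroup.mem_centralizer_singleton_iff.2 (by
          have := congrArg Subtype.val (a.2 ⟨σ, Subgroup.mem_zpowers σ⟩)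
          exact (mul_inv_eq_iff_eq_mul.1 this).symm)⟩
        invFun := fun a => ⟨⟨a.1, a.2.1⟩, fun τ => by
          have h1 : σ ⟨a.1, a.2.1⟩ = ⟨a.1, a.2.1⟩ := Subtype.ext (mul_inv_eq_iff_eq_mul.2
            (Subgroup.mem_centralizer_singleton_iff.1 a.2.2).symm)
          obtain ⟨τ, hτ⟩ := τ
          show τ ⟨a.1, a.2.1⟩ = _
          have : Subgroup.zpowers σ ≤ MulAction.stabilizer (Equiv.Perm (AK m)) (⟨a.1, a.2.1⟩ : AK m) :=
            Subgroup.zpowers_le.2 h1
          exact this hτ⟩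
        left_inv := fun a => rfl
        right_inv := fun a => rfl }
  obtain ⟨d, hd, hcard⟩ := (Nat.dvd_prime_pow Nat.prime_two).1
    ((card_AK m) ▸ Subgroup.card_dvd_of_le (inf_le_left : F ≤ AK m))
  rw [hfix, card_AK, hcard] at hmod
  refine ⟨d, ?_, hmod⟩
  by_contra hd'
  have he : F = AK m := Subgroup.eq_of_le_of_card_ge inf_le_left
    (by rw [hcard, card_AK, show d = 11 by omega])
  exact hgA (self_cent m hF fun a ha =>
    (Subgroup.mem_centralizer_singleton_iff.1 (he.ge ha).2).symm)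

end Cfsg.Agent.Fus.LargeFischerLocal
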