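/-
The checks of the tables of the module of order `2^11`: its classes under the extraspecial group, the four
candidates for the class of the nonconjugates of the centre, and the twenty-four points of the one that occurs.
-/
import Cfsg.Agent.Lib.Fus.LargeFischerSylowChecks
import Cfsg.Agent.Lib.Fus.LargeFischerModelData
import Cfsg.Agent.Lib.Spor.Golay.Code

set_option autoImplicit false
set_option maxRecDepth 100000

open Cfsg.Agent.Spor.LargeFischer
open Cfsg.Agent.Fus.LargeFischerSylow (ub uw mulL oneL ivL inE wImg nW)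

namespace Cfsg.Agent.Fus.LargeFischerModel

/-- The vector with given coordinates in the basis of the space. -/
def uC (k u : ℕ) : ℕ := ((List.range 6).map fun t => (u / 2 ^ t % 2) * (ub k).getD t 0).foldr (· ^^^ ·) 0

/-- A member of the sixteen as a product of the four. -/
def eL (k m : ℕ) : List ℕ :=
  (List.range 4).foldr (fun i acc => if m.testBit i then mulL (ivL k ((eB k).getD i 0)) acc else acc) oneL

/-- The same, tabled. -/
def eImg (k m : ℕ) : List ℕ := (List.range 12).map (rd 12 ((eI k).getD m 0))

/-- The bit of the commutator of two vectors. -/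
def cbit (a b : ℕ) : ℕ := hermC a b / 2

/-- The bit of the commutator with a lift in the fixed points. -/
def tbit (q w : ℕ) : ℕ := [0, 1, 1, 0].getD (hermC q w) 0

/-- The witness. -/
def wq (k e n : ℕ) : ℕ := rd 18 ((cw k).getD e 0) n / 64

/-- The image of the witness in the space. -/
def wi (k e n : ℕ) : ℕ := rd 18 ((cw k).getD e 0) n % 64

/-- The class of a code in a coset. -/
def cls (k e n : ℕ) : ℕ :=
  n ^^^ wi k e n ^^^ 64 * ((cbit (wq k e n) (uC k (n % 64)) + tbit (wq k e n) (uC k (wi k e n))) % 2)

/-- Membership in the candidate with given signs. -/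
def xB (k F c : ℕ) : Bool :=
  if Nat.beq (c / 128) 0 then !Nat.beq (c % 64) 0 && Nat.beq ((dat k).labC (uC k (c % 64))) 1
  else Nat.beq (cls k (c / 128) (c % 128)) (64 * (F / 2 ^ (c / 128) % 2))

/-- The places of the free signs. -/
def freeM : List ℕ := [3, 5, 6, 7, 9, 10, 11, 12, 13, 14, 15]

/-- Signs from their free bits. -/
def expandF (j : ℕ) : ℕ := ((List.range 11).map fun t => j / 2 ^ t % 2 * 2 ^ freeM.getD t 0).foldr (· ^^^ ·) 0

/-- The defect of additivity. -/
def defect (F a b : ℕ) : ℕ := (F / 2 ^ a % 2 + F / 2 ^ b % 2 + F / 2 ^ (a ^^^ b) % 2) % 2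

/-- The number of members whose product with `s` is one. -/
def hcount (S s : ℕ) : ℕ := (List.range 2048).countP fun c => S.testBit c && S.testBit (c ^^^ s)

/-- Sums of codes of points. -/
def gam (k m : ℕ) : ℕ :=
  (List.range 24).foldr (fun p acc => if m.testBit p then (P k).getD p 0 ^^^ acc else acc) 0

/-- The parity of common bits. -/
def dotB (n a b : ℕ) : Bool := (List.range n).foldr (fun i acc => xor (a.testBit i && b.testBit i) acc) false

/-- The sums of two points. -/
def pairs (k : ℕ) : List ℕ :=
  ((List.range 24).map fun p => ((List.range p).map fun q => (P k).getD p 0 ^^^ (P k).getD q 0)).flatten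

/-- A space of the orbit. -/
def bas (k j t : ℕ) : ℕ := rd 12 ((bsp k).getD j 0) t

/-- Three vectors and their multiples. -/
def six (k : ℕ) (B : List ℕ) : List ℕ := (B.map fun b => [b, (dat k).omC b]).flatten

/-- A combination. -/
def comb (l : List ℕ) (m : ℕ) : ℕ :=
  ((List.range 6).map fun t => (m / 2 ^ t % 2) * l.getD t 0).foldr (· ^^^ ·) 0

/-- The basis of a space of the orbit. -/
def basL (k j : ℕ) : List ℕ := [bas k j 0, bas k j 1, bas k j 2]

/-- The image of a basis. -/
def imgL (k h s : ℕ) : List ℕ := (basL k h).map ((dat k).ap s)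

/-- The next space. -/
def nxJ (k h s : ℕ) : ℕ := rd 28 ((bnx k).getD h 0) s % 1024

/-- The coefficients of the image in the next space. -/
def nxC (k h s t : ℕ) : ℕ := rd 28 ((bnx k).getD h 0) s / 1024 / 64 ^ t % 64

/-- The sixteen. -/
def chkEl (k : ℕ) : Bool :=
  Nat.beq (eB k).length 4 && (eB k).all (fun j => Nat.blt j 35 && inE k j) &&
    (List.range 16).all (fun m => eImg k m == eL k m && (Nat.beq m 0 || !(eL k m == oneL))) &&
    (List.range 64).all (fun u => Nat.beq u 0 || !Nat.beq (uC k u) 0) &&
    Nat.beq (pE k).length (nW k).length &&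
    (List.range (nW k).length).all (fun s => (List.range 16).all fun m =>
      Nat.blt (((pE k).getD s []).getD m 0) 16 &&
        mulL (wImg k ((nW k).getD s [])) (eImg k m) ==
          mulL (eImg k (((pE k).getD s []).getD m 0)) (wImg k ((nW k).getD s [])))

/-- The classes in a coset. -/
def chkCoset (k e : ℕ) : Bool :=
  Nat.beq e 0 || (Nat.beq ((rz k).getD e []).length 3 && ((rz k).getD e []).all (fun r => Nat.blt r 128) &&
    decide ([0, 64] ++ (rz k).getD e []).Nodup &&
    (List.range 128).all (fun n => Nat.beq (uC k (wi k e n)) (app (eImg k e) (wq k e n) ^^^ wq k e n) &&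
      ([0, 64] ++ (rz k).getD e []).contains (cls k e n)) &&
    Nat.beq ((List.range 128).countP fun n => Nat.beq (cls k e n) 0) 16 &&
    Nat.beq ((List.range 128).countP fun n => Nat.beq (cls k e n) 64) 16 &&
    ((rz k).getD e []).all (fun r => Nat.beq ((List.range 128).countP fun n => Nat.beq (cls k e n) r) 32))

/-- The part inside the extraspecial group. -/
def chkLab (k : ℕ) : Bool :=
  Nat.beq ((List.range 128).countP fun c => Nat.beq (c % 64) 0 || Nat.beq ((dat k).labC (uC k (c % 64))) 1) 38 &&
    (List.range 64).all (fun u => Nat.beq u 0 || Nat.beq ((dat k).labC (uC k u)) 1 ||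
      Nat.beq ((dat k).labC (uC k u)) 2)

/-- The candidates. -/
def chkMask (k : ℕ) : Bool :=
  Nat.beq (Xo k).length 4 && Nat.beq (fo k).length 4 && Nat.blt (good k) 4 &&
    (List.range 4).all fun o => (List.range 2048).all fun c =>
      ((Xo k).getD o 0).testBit c == xB k ((fo k).getD o 0) c

/-- The invariant sign functions. -/
def chkInv (k j : ℕ) : Bool :=
  (fo k).contains (expandF j) || (pE k).any fun l => (List.range 16).any fun a => (List.range 16).any fun b =>
    !Nat.beq (defect (expandF j) a b) (defect (expandF j) (l.getD a 0) (l.getD b 0))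

/-- The wrong candidates fail. -/
def chkCount (k : ℕ) : Bool :=
  (List.range 4).all fun o => Nat.beq (hcount ((Xo k).getD o 0) 64) 36 && (Nat.beq o (good k) ||
    (Nat.blt 127 ((swit k).getD o 0) && Nat.blt ((swit k).getD o 0) 2048 &&
      !((Xo k).getD o 0).testBit ((swit k).getD o 0) && !Nat.beq (hcount ((Xo k).getD o 0) ((swit k).getD o 0)) 36))

/-- The points. -/
def chkPts (k : ℕ) : Bool :=
  Nat.beq (P k).length 24 && (P k).all (fun x => Nat.blt x 2048) && Nat.beq ((P k).getD 23 1) 0 &&
    Nat.beq ((pairs k).foldr (fun x acc => 2 ^ x ||| acc) 0) ((Xo k).getD (good k) 0) &&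
    Spor.Golay.basis.all (fun b => Nat.beq (gam k b) 0) &&
    (List.range 12).all (fun i => Nat.blt ((psi k).getD i 0) 2048 && (List.range 24).all fun p =>
      dotB 11 ((psi k).getD i 0) ((P k).getD p 0) ==
        xor ((Spor.Golay.basis.getD i 0).testBit p) ((Spor.Golay.basis.getD i 0).testBit 23)) &&
    (List.range 11).all (fun i => Nat.blt ((mh k).getD i 0) 16777216 &&
      Nat.beq (Spor.Golay.pop ((mh k).getD i 0) % 2) 0 && Nat.beq (gam k ((mh k).getD i 0)) (2 ^ i))

/-- A step in the orbit of the space. -/
def chkStep (k h : ℕ) : Bool :=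
  (List.range 4).all fun s => Nat.blt (nxJ k h s) 567 && (List.range 3).all fun t =>
    Nat.beq ((imgL k h s).getD t 0) (comb (six k (basL k (nxJ k h s))) (nxC k h s t))

/-- A link to an earlier space. -/
def chkLink (k j : ℕ) : Bool :=
  Nat.beq j 0 || (Nat.blt ((bpar k).getD j 0 % 1024) j && Nat.blt ((bpar k).getD j 0 / 1024 % 4) 4 &&
    Nat.beq (nxJ k ((bpar k).getD j 0 % 1024) ((bpar k).getD j 0 / 1024 % 4)) j &&
    (List.range 3).all fun t => Nat.beq (bas k j t)
      (comb (six k (imgL k ((bpar k).getD j 0 % 1024) ((bpar k).getD j 0 / 1024 % 4)))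
        ((bpar k).getD j 0 / 4096 / 64 ^ t % 64)))

/-- The first space. -/
def chkRoot (k : ℕ) : Bool :=
  six k (basL k 0) == ub k && (List.range 3).all fun t => (uw k).contains (bas k 0 t)

theorem el_ok : ∀ k < 3, chkEl k = true := by decide +kernel

theorem coset_ok : ∀ k < 3, ∀ e < 16, chkCoset k e = true := by decide +kernel

theorem lab_ok : ∀ k < 3, chkLab k = true := by decide +kernel

theorem mask_ok : ∀ k < 3, chkMask k = true := by decide +kernel

theorem inv_ok : ∀ k < 3, ∀ j < 2048, chkInv k j = true := by decide +kernel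

theorem count_ok : ∀ k < 3, chkCount k = true := by decide +kernel

theorem pts_ok : ∀ k < 3, chkPts k = true := by decide +kernel

theorem step_ok : ∀ k < 3, ∀ h < 567, chkStep k h = true := by decide +kernel

theorem link_ok : ∀ k < 3, ∀ j < 567, chkLink k j = true := by decide +kernel

theorem root_ok : ∀ k < 3, chkRoot k = true := by decide +kernel

theorem free_ok : ∀ j < 2048, (∀ t < 11, expandF j / 2 ^ freeM.getD t 0 % 2 = j / 2 ^ t % 2) ∧
    expandF j % 2 = 0 ∧ (∀ t < 4, expandF j / 2 ^ 2 ^ t % 2 = 0) ∧ expandF j < 65536 := by decide +kernel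

theorem high_code : ∀ h < 4096, h = 0 ∨ Spor.Golay.basis.any (fun b => dotB 24 (h * 4096) b) = true := by
  decide +kernel

theorem basis_dot : Spor.Golay.basis.all (fun a => Spor.Golay.basis.all fun b => !dotB 24 a b) = true := by
  decide +kernel

end Cfsg.Agent.Fus.LargeFischerModel
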