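/-
Coordinates on the group of order `2^11`: an element of order three acting as the scalar splits it into the part
inside the extraspecial group and sixteen pairs of fixed points, and the extraspecial group acts by a formula.
-/
import Cfsg.Agent.Lib.Fus.LargeFischerLocal
import Cfsg.Agent.Lib.Fus.LargeFischerModelChecks

set_option autoImplicit false
set_option maxRecDepth 100000
set_option linter.unusedSectionVars false
set_option linter.style.haveILetI false

open Cfsg Cfsg.Agent.Classical Cfsg.Agent.Spor.Cos Cfsg.Agent.Spor.LargeFischer Matrix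
open Cfsg.Agent.Spor.USixTwo (K4 vecOf)
open Cfsg.Agent.Fus.LargeFischerScalar Cfsg.Agent.Fus.LargeFischerAbelian
open Cfsg.Agent.Fus.LargeFischerLocal (zH zH_comm zH_mem_K0 zH_mem_Q)

namespace Cfsg.Agent.Fus.LargeFischerCoords

open LargeFischerModel

/-- A product selected by bits. -/
def bprod {X : Type*} [Group X] (g : ℕ → X) (l : List ℕ) (c : ℕ) : X :=
  l.foldr (fun i acc => (if c.testBit i then g i else 1) * acc) 1

theorem bprod_mem {X : Type*} [Group X] {A : Subgroup X} {g : ℕ → X} (hg : ∀ i, g i ∈ A) (l : List ℕ) (c : ℕ) :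
    bprod g l c ∈ A := by
  induction l with
  | nil => exact one_mem A
  | cons i l ih =>
    show (if c.testBit i then g i else 1) * bprod g l c ∈ A
    refine mul_mem ?_ ih
    split
    · exact hg i
    · exact one_mem A

theorem bprod_xor {X : Type*} [Group X] {A : Subgroup X} (hc : ∀ a ∈ A, ∀ b ∈ A, a * b = b * a)
    (hs : ∀ a ∈ A, a * a = 1) {g : ℕ → X} (hg : ∀ i, g i ∈ A) (l : List ℕ) (a b : ℕ) :
    bprod g l (a ^^^ b) = bprod g l a * bprod g l b := by
  induction l with
  | nil => exact (one_mul 1).symm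
  | cons i l ih =>
    show (if (a ^^^ b).testBit i then g i else 1) * bprod g l (a ^^^ b) =
      (if a.testBit i then g i else 1) * bprod g l a * ((if b.testBit i then g i else 1) * bprod g l b)
    have hA := bprod_mem hg l a
    have hB := bprod_mem hg l b
    rw [ih, Nat.testBit_xor]
    cases a.testBit i <;> cases b.testBit i
    · simp
    · simp only [Bool.bne_true, Bool.not_false, if_true, Bool.false_eq_true, if_false, one_mul]
      rw [← mul_assoc, ← mul_assoc, hc _ hA _ (hg i)]
    · simp [mul_assoc]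
    · simp only [Bool.bne_true, Bool.not_true, if_true, Bool.false_eq_true, if_false, one_mul]
      rw [mul_assoc (g i), ← mul_assoc (bprod g l a), hc _ hA _ (hg i), ← mul_assoc, ← mul_assoc, hs _ (hg i), one_mul]

theorem central_shuffle {X : Type*} [Group X] {a b c s t : X} (hs : ∀ y, s * y = y * s) (hs2 : s * s = 1)
    (ht2 : t * t = 1) (h : a * b * s * c * t = 1) : a * b * c = s * t := by
  rw [show a * b * s * c = a * b * c * s by rw [mul_assoc (a * b) s c, hs c, ← mul_assoc]] at h
  calc a * b * c = (a * b * c * s * t) * (t⁻¹ * s⁻¹) := by group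
    _ = t * s := by rw [h, one_mul, inv_eq_of_mul_eq_one_right hs2, inv_eq_of_mul_eq_one_right ht2]
    _ = s * t := (hs t).symm

/-- The trace as a bit. -/
def trb (a : K4) : Bool := decide (a + a ^ 2 = 1)

theorem trb_facts : ∀ a : K4, trb a = false ↔ a + a ^ 2 = 0 := by decide +kernel

theorem trb_code : ∀ n < 4, trb (K4.of n) = decide (n / 2 = 1) := by decide +kernel

theorem trb_pair : ∀ n < 4,
    xor (trb (ω * ω * K4.of n)) (trb (K4.of n)) = decide ([0, 1, 1, 0].getD n 0 = 1) := by decide +kernel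

theorem sq_bits : ∀ a : K4, ∀ p q : Bool,
    ((if p then (1 : K4) else 0) + (if q then 1 else 0) + (a + a ^ 2) = 0 ↔ trb a = xor p q) := by decide +kernel

theorem hermC_lt (a b : ℕ) : hermC a b < 4 :=
  List.foldlRecOn (motive := fun s => s < 4) _ _ (by norm_num) fun _ hs _ _ =>
    Nat.xor_lt_two_pow (n := 2) hs (hermC_term _ (Nat.mod_lt _ (by norm_num)) _ (Nat.mod_lt _ (by norm_num))).2

theorem herm_smul_right (c : K4) (u w : Fin 6 → K4) : hermForm 6 K4 2 u (c • w) = c ^ 2 * hermForm 6 K4 2 u w := by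
  rw [herm_swap (c • w) u, herm_smul, mul_pow, ← herm_swap]

theorem herm_add_left (u v w : Fin 6 → K4) :
    hermForm 6 K4 2 (u + v) w = hermForm 6 K4 2 u w + hermForm 6 K4 2 v w := by
  simp only [hermForm, Pi.add_apply, add_mul, Finset.sum_add_distrib]

section

variable {G : Type*} [Group G] [Finite G] {z : G} {Q : Subgroup (Subgroup.centralizer ({z} : Set G))}
  [hQn : Q.Normal] (m : Model z Q)

/-- The centre or one. -/
def zp (b : Bool) : Subgroup.centralizer ({z} : Set G) := if b then zH else 1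

include m in
theorem zH_sq : (zH : Subgroup.centralizer ({z} : Set G)) * zH = 1 := Subtype.ext m.ext.zz

include m in
theorem zp_mul (a b : Bool) : zp (z := z) a * zp b = zp (xor a b) := by
  cases a <;> cases b <;> simp [zp, zH_sq m]

theorem zp_comm (a : Bool) (h : Subgroup.centralizer ({z} : Set G)) : zp a * h = h * zp a := by
  cases a <;> simp [zp, zH_comm]

theorem zp_mem (a : Bool) : zp (z := z) a ∈ K0 m := by
  cases a
  · exact one_mem _
  · exact zH_mem_K0 m

include m in
theorem zp_mem_Q (a : Bool) : zp (z := z) a ∈ Q := by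
  cases a
  · exact one_mem _
  · exact zH_mem_Q m

include m in
theorem zp_inj {a b : Bool} (h : zp (z := z) a = zp b) : a = b := by
  have hne : (zH : Subgroup.centralizer ({z} : Set G)) ≠ 1 := fun e => m.ext.ne (congrArg Subtype.val e)
  cases a <;> cases b <;> simp_all [zp]

theorem central_cases (q : Q) (h : m.rep q = 0) :
    ∃ b, (q : Subgroup.centralizer ({z} : Set G)) = zp b := by
  rcases (m.rep_zero q).1 h with e | e
  · exact ⟨false, Subtype.ext e⟩
  · exact ⟨true, Subtype.ext e⟩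

theorem rep_same {p q : Q} (h : m.rep p = m.rep q) :
    ∃ b, (p : Subgroup.centralizer ({z} : Set G)) = (q : Subgroup.centralizer ({z} : Set G)) * zp (z := z) b := by
  obtain ⟨b, hb⟩ := central_cases m (q⁻¹ * p) (by rw [m.rep_mul, m.rep_inv, h, vec_add_self])
  exact ⟨b, by rw [← hb, Subgroup.coe_mul, Subgroup.coe_inv, mul_inv_cancel_left]⟩

omit [Finite G] in
theorem sq_mul {X : Type*} [Group X] {p q c : X} (h : p * q * p⁻¹ = q * c) (hc : ∀ y, c * y = y * c)
    (hcc : c * c = 1) : p * q * (p * q) = p * p * (q * q) * c := by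
  have h1 : q * p = p * q * c := by
    rw [show p * q = q * c * p from mul_inv_eq_iff_eq_mul.1 h, mul_assoc q c p, hc p, mul_assoc, mul_assoc p c c, hcc,
      mul_one]
  calc p * q * (p * q) = p * (q * p) * q := by group
    _ = p * (p * q * c) * q := by rw [h1]
    _ = p * p * (q * (c * q)) := by group
    _ = _ := by rw [hc q]; group

/-- Commutators in the extraspecial group. -/
theorem comm_formula (p q : Q) : (p : Subgroup.centralizer ({z} : Set G)) * (q : Subgroup.centralizer ({z} : Set G)) * (p : Subgroup.centralizer ({z} : Set G))⁻¹ =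
    (q : Subgroup.centralizer ({z} : Set G)) * zp (z := z) (trb (hermForm 6 K4 2 (m.rep p) (m.rep q))) := by
  have hsq : ∀ r : Q, ∃ b : Bool, (r : Subgroup.centralizer ({z} : Set G)) * (r : Subgroup.centralizer ({z} : Set G)) = zp b ∧
      hermForm 6 K4 2 (m.rep r) (m.rep r) = if b then 1 else 0 := fun r => by
    rcases herm_bit (m.rep r) with e | e
    · exact ⟨false, by simpa [zp] using congrArg Subtype.val ((m.herm_zero r).1 e), e⟩
    · refine ⟨true, ?_, e⟩
      have hne : r * r ≠ 1 := fun e' => one_ne_zero (e.symm.trans ((m.herm_zero r).2 e'))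
      rcases m.ext.sq _ (mem_QG.2 ⟨r, rfl⟩) with h | h
      · exact absurd (Subtype.ext (Subtype.ext h)) hne
      · exact Subtype.ext h
  obtain ⟨bp, ep, hp⟩ := hsq p
  obtain ⟨bq, eq', hq⟩ := hsq q
  obtain ⟨bpq, epq, hpq⟩ := hsq (p * q)
  obtain ⟨c, hc⟩ : ∃ c, (p : Subgroup.centralizer ({z} : Set G)) * (q : Subgroup.centralizer ({z} : Set G)) * (p : Subgroup.centralizer ({z} : Set G))⁻¹ =
      (q : Subgroup.centralizer ({z} : Set G)) * zp (z := z) c := by
    rcases m.ext.conj_cases (mem_QG.2 ⟨q, rfl⟩) (mem_QG.2 ⟨p, rfl⟩) with e | ⟨-, e⟩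
    · exact ⟨false, Subtype.ext (by simpa [zp] using mul_inv_eq_iff_eq_mul.2 e)⟩
    · exact ⟨true, Subtype.ext e⟩
  have hval : bpq = xor (xor bp bq) c := zp_inj m (z := z) (by
    rw [← epq, ← zp_mul m, ← zp_mul m, ← ep, ← eq', Subgroup.coe_mul]
    exact sq_mul hc (zp_comm c) (by rw [zp_mul m, Bool.xor_self]; rfl))
  rw [hc]
  congr 2
  rw [m.rep_mul, herm_add, hp, hq] at hpq
  have hzero : ∀ a b : K4, a = b → a + b = 0 := fun a b e => by rw [e]; exact four_add b
  subst hval
  revert hpq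
  generalize hermForm 6 K4 2 (m.rep p) (m.rep q) = a
  clear hc epq ep eq' hp hq
  revert a bp bq c
  decide +kernel

/-- An element of order three with scalar image and four fixed elements over a basis of the sixteen. -/
structure Frame where
  /-- the element -/
  x : m.M
  lin_x : m.lin x = omS
  act_x : ∀ v, m.act x v = ω • v
  cube : (x : Subgroup.centralizer ({z} : Set G)) ^ 3 = 1
  /-- the four -/
  a : ℕ → Subgroup.centralizer ({z} : Set G)
  a_mem : ∀ i, a i ∈ K0 m
  a_fix : ∀ i, (x : Subgroup.centralizer ({z} : Set G)) * a i * (x : Subgroup.centralizer ({z} : Set G))⁻¹ = a i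
  a_lin : ∀ i < 4, ∀ h : a i ∈ m.M, LargeFischerSylow.Has (m.lin ⟨a i, h⟩) (LargeFischerSylow.ivL m.k ((eB m.k).getD i 0))

theorem omS_comm (e : SUV) : omS * e = e * omS :=
  suVal_ext (Matrix.toLin'.injective (LinearMap.ext fun v => by
    rw [Matrix.toLin'_apply, Matrix.toLin'_apply, ← smul_def, ← smul_def, mul_smul, mul_smul, omS_smul, omS_smul,
      smul_scalar]))

theorem omS_cube : omS * omS * omS = 1 :=
  suVal_ext (Matrix.toLin'.injective (LinearMap.ext fun v => by
    rw [Matrix.toLin'_apply, Matrix.toLin'_apply, ← smul_def, ← smul_def, mul_smul, mul_smul, omS_smul, omS_smul,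
      omS_smul, smul_smul, smul_smul, show K4.of 2 * K4.of 2 * K4.of 2 = (1 : K4) by decide +kernel, one_smul, one_smul]))

/-- An element of order three with scalar image. -/
theorem exists_x : ∃ x : m.M, m.lin x = omS ∧ (∀ v, m.act x v = ω • v) ∧
    (x : Subgroup.centralizer ({z} : Set G)) ^ 3 = 1 := by
  obtain ⟨n, hn, -⟩ := exists_om m
  have h3 : m.lin (n ^ 3) = 1 := by rw [map_pow, hn, pow_succ, pow_two, omS_cube]
  have hl : m.lin (n ^ 4) = omS := by rw [pow_succ, map_mul, h3, one_mul, hn]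
  refine ⟨n ^ 4, hl, fun v => by rw [m.lin_act, hl, omS_smul], ?_⟩
  have hq := (m.lin_eq_one _).1 h3
  have h12 : ((n ^ 3 : m.M) : Subgroup.centralizer ({z} : Set G)) ^ 4 = 1 := by
    rcases m.ext.sq _ (mem_QG.2 ⟨⟨_, hq⟩, rfl⟩) with e | e
    · have e' : ((n ^ 3 : m.M) : Subgroup.centralizer ({z} : Set G)) * ((n ^ 3 : m.M) : Subgroup.centralizer ({z} : Set G)) = 1 := Subtype.ext e
      rw [show (4 : ℕ) = 2 + 2 from rfl, pow_add, pow_two, e', one_mul]
    · have e' : ((n ^ 3 : m.M) : Subgroup.centralizer ({z} : Set G)) * ((n ^ 3 : m.M) : Subgroup.centralizer ({z} : Set G)) = zH := Subtype.ext e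
      rw [show (4 : ℕ) = 2 + 2 from rfl, pow_add, pow_two, e', zH_sq m]
  rw [Subgroup.coe_pow, ← pow_mul] at *
  exact h12

variable {m}

namespace Frame

variable (F : Frame m)

/-- Conjugation by the element. -/
def cx (a : Subgroup.centralizer ({z} : Set G)) : Subgroup.centralizer ({z} : Set G) :=
  (F.x : Subgroup.centralizer ({z} : Set G)) * a * (F.x : Subgroup.centralizer ({z} : Set G))⁻¹

theorem cx_mul (a b : Subgroup.centralizer ({z} : Set G)) : F.cx (a * b) = F.cx a * F.cx b := by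
  simp only [cx]; group

theorem cx_inv (a : Subgroup.centralizer ({z} : Set G)) : F.cx a⁻¹ = (F.cx a)⁻¹ := by simp only [cx]; group

theorem cx_cube (a : Subgroup.centralizer ({z} : Set G)) : F.cx (F.cx (F.cx a)) = a := by
  have h : F.cx (F.cx (F.cx a)) = (F.x : Subgroup.centralizer ({z} : Set G)) ^ 3 * a *
      ((F.x : Subgroup.centralizer ({z} : Set G)) ^ 3)⁻¹ := by
    simp only [cx, pow_succ, pow_zero, one_mul]; group
  rw [h, F.cube, one_mul, inv_one, mul_one]

theorem cx_K0 {a : Subgroup.centralizer ({z} : Set G)} (h : a ∈ K0 m) : F.cx a ∈ K0 m :=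
  K0_norm m (fun e he => by rw [F.lin_x, omS_comm, mul_inv_cancel_right]; exact he) h

theorem cx_zp (b : Bool) : F.cx (zp b) = zp b := by
  rw [cx, ← zp_comm, mul_inv_cancel_right]

theorem rep_cx (q : Q) : m.rep (qconj (F.x : Subgroup.centralizer ({z} : Set G)) q) = ω • m.rep q := by
  rw [← m.act_rep, F.act_x]

/-- The product over the orbit. -/
def pr (a : Subgroup.centralizer ({z} : Set G)) : Subgroup.centralizer ({z} : Set G) := a * F.cx a * F.cx (F.cx a)

theorem pr_mul {a b : Subgroup.centralizer ({z} : Set G)} (ha : a ∈ K0 m) (hb : b ∈ K0 m) :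
    F.pr (a * b) = F.pr a * F.pr b := by
  have hc := fun {u v : Subgroup.centralizer ({z} : Set G)} (hu : u ∈ K0 m) (hv : v ∈ K0 m) =>
    LargeFischerJ.K0_comm m hu hv
  simp only [pr, cx_mul]
  have h1 := hc hb (F.cx_K0 ha)
  have h2 := hc (mul_mem hb (F.cx_K0 hb)) (F.cx_K0 (F.cx_K0 ha))
  calc a * b * (F.cx a * F.cx b) * (F.cx (F.cx a) * F.cx (F.cx b))
      = a * (b * F.cx a) * F.cx b * F.cx (F.cx a) * F.cx (F.cx b) := by group
    _ = a * (F.cx a * b) * F.cx b * F.cx (F.cx a) * F.cx (F.cx b) := by rw [h1]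
    _ = a * F.cx a * ((b * F.cx b) * F.cx (F.cx a)) * F.cx (F.cx b) := by group
    _ = a * F.cx a * (F.cx (F.cx a) * (b * F.cx b)) * F.cx (F.cx b) := by rw [h2]
    _ = _ := by group

theorem pr_fix {a : Subgroup.centralizer ({z} : Set G)} (ha : a ∈ K0 m) : F.cx (F.pr a) = F.pr a := by
  simp only [pr, cx_mul, cx_cube]
  exact LargeFischerJ.K0_comm m (mul_mem (F.cx_K0 ha) (F.cx_K0 (F.cx_K0 ha))) ha |>.trans (mul_assoc _ _ _).symm

theorem pr_of_fixed {a : Subgroup.centralizer ({z} : Set G)} (ha : a ∈ K0 m) (h : F.cx a = a) : F.pr a = a := by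
  rw [pr, h, h, K0_sq m a ha, one_mul]

theorem pr_zp (b : Bool) : F.pr (zp b) = zp (z := z) b := F.pr_of_fixed (zp_mem m b) (F.cx_zp b)

theorem fixed_Q (q : Q) (h : F.cx (q : Subgroup.centralizer ({z} : Set G)) = q) :
    ∃ b, (q : Subgroup.centralizer ({z} : Set G)) = zp b := by
  refine central_cases m q (funext fun i => ?_)
  have e := F.rep_cx q
  rw [show qconj (F.x : Subgroup.centralizer ({z} : Set G)) q = q from Subtype.ext h] at e
  have ei := congrFun e i
  simp only [Pi.smul_apply, smul_eq_mul] at ei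
  revert ei
  show _ → m.rep q i = 0
  generalize m.rep q i = c
  revert c; decide +kernel

/-- The lift on which the product vanishes. -/
theorem exists_lift_zero {v : Fin 6 → K4} (hv : InU m v) :
    ∃ q : Q, q ∈ qu m ∧ m.rep q = v ∧ F.pr (q : Subgroup.centralizer ({z} : Set G)) = 1 := by
  obtain ⟨q, rfl⟩ := m.rep_surj v
  have hq : (q : Subgroup.centralizer ({z} : Set G)) ∈ K0 m := qu_le m hv
  have hQ : F.pr (q : Subgroup.centralizer ({z} : Set G)) ∈ Q :=
    mul_mem (mul_mem q.2 (hQn.conj_mem _ q.2 _)) (hQn.conj_mem _ (hQn.conj_mem _ q.2 _) _)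
  obtain ⟨b, hb⟩ := F.fixed_Q ⟨_, hQ⟩ (F.pr_fix hq)
  have hrep : m.rep (q * ⟨zp b, zp_mem_Q m b⟩) = m.rep q := by
    rw [m.rep_mul, (m.rep_zero ⟨zp b, zp_mem_Q m b⟩).2 (by cases b <;> simp [zp, zH]), add_zero]
  refine ⟨q * ⟨zp b, zp_mem_Q m b⟩, show InU m (m.rep _) from hrep.symm ▸ hv, hrep, ?_⟩
  rw [Subgroup.coe_mul, F.pr_mul hq (zp_mem m b), show F.pr (q : Subgroup.centralizer ({z} : Set G)) = zp b from hb, F.pr_zp, zp_mul m, Bool.xor_self]
  rfl

theorem inU_uC (k : ℕ) (l : List ℕ) (u : ℕ) (h : ∀ t, InU m (vecOf ((LargeFischerSylow.ub k).getD t 0))) :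
    InU m (vecOf ((l.map fun t => (u / 2 ^ t % 2) * (LargeFischerSylow.ub k).getD t 0).foldr (· ^^^ ·) 0)) := by
  induction l with
  | nil =>
    intro a _
    rw [show ([] : List ℕ).map _ = [] from rfl, List.foldr_nil, vecOf_zero]
    exact Matrix.mulVec_zero _
  | cons t l ih =>
    simp only [List.map_cons, List.foldr_cons, vecOf_xor]
    refine inU_add m ?_ ih
    rcases Nat.mod_two_eq_zero_or_one (u / 2 ^ t) with e | e
    · rw [e, zero_mul, vecOf_zero]; exact fun a _ => Matrix.mulVec_zero _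
    · rw [e, one_mul]; exact h t

theorem inU_ub (t : ℕ) : InU m (vecOf ((LargeFischerSylow.ub m.k).getD t 0)) := by
  obtain ⟨-, -, hlt, -, -, hub, -, -⟩ := LargeFischerSylow.uw_facts m.hk
  rcases Nat.lt_or_ge t (LargeFischerSylow.ub m.k).length with ht | ht
  · rw [List.getD_eq_getElem _ _ ht]
    exact (LargeFischerSylow.fix_E m.hk _).2
      (by rw [enc6_vecOf (hlt _ (hub _ (List.getElem_mem _)))]; exact hub _ (List.getElem_mem _))
  · rw [List.getD_eq_default _ _ ht, vecOf_zero]; exact fun a _ => Matrix.mulVec_zero _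

theorem inU_uC' (u : ℕ) : InU m (vecOf (uC m.k u)) := inU_uC m.k _ u inU_ub

/-- The chosen lift of a basis vector. -/
noncomputable def gU (t : ℕ) : Q := (F.exists_lift_zero (inU_ub (m := m) t)).choose

theorem gU_spec (t : ℕ) : F.gU t ∈ qu m ∧ m.rep (F.gU t) = vecOf ((LargeFischerSylow.ub m.k).getD t 0) ∧
    F.pr (F.gU t : Subgroup.centralizer ({z} : Set G)) = 1 := (F.exists_lift_zero (inU_ub (m := m) t)).choose_spec

/-- The part inside the extraspecial group. -/
noncomputable def pu (u : ℕ) : Subgroup.centralizer ({z} : Set G) :=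
  bprod (fun t => (F.gU t : Subgroup.centralizer ({z} : Set G))) (List.range 6) u

/-- The fixed part. -/
def pa (e : ℕ) : Subgroup.centralizer ({z} : Set G) := bprod F.a (List.range 4) e

theorem pu_spec (u : ℕ) : ∃ q : Q, (q : Subgroup.centralizer ({z} : Set G)) = F.pu u ∧ q ∈ qu m ∧
    m.rep q = vecOf (uC m.k u) ∧ F.pr (F.pu u) = 1 := by
  rw [pu, uC]
  induction List.range 6 with
  | nil =>
    refine ⟨1, rfl, one_mem _, by rw [m.rep_one, List.map_nil, List.foldr_nil, vecOf_zero], ?_⟩
    show F.pr 1 = 1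
    exact F.pr_of_fixed (one_mem _) (by rw [cx, mul_one, mul_inv_cancel])
  | cons t l ih =>
    obtain ⟨q, e, hq, hr, hp⟩ := ih
    obtain ⟨g1, g2, g3⟩ := F.gU_spec t
    simp only [List.map_cons, List.foldr_cons, vecOf_xor]
    rcases Nat.mod_two_eq_zero_or_one (u / 2 ^ t) with b | b
    · have hb : u.testBit t = false := by rw [Nat.testBit_eq_decide_div_mod_eq, b]; rfl
      refine ⟨q, ?_, hq, by rw [hr, b, zero_mul, vecOf_zero, zero_add], ?_⟩
      · show (q : Subgroup.centralizer ({z} : Set G)) = (if u.testBit t then _ else 1) * bprod _ l u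
        rw [hb]; simpa using e
      · show F.pr ((if u.testBit t then _ else 1) * bprod _ l u) = 1
        rw [hb]; simpa using hp
    · have hb : u.testBit t = true := by rw [Nat.testBit_eq_decide_div_mod_eq, b]; rfl
      refine ⟨F.gU t * q, ?_, mul_mem g1 hq, by rw [m.rep_mul, g2, hr, b, one_mul], ?_⟩
      · show _ = (if u.testBit t then _ else 1) * bprod _ l u
        rw [hb, if_pos rfl, Subgroup.coe_mul, e]
      · show F.pr ((if u.testBit t then _ else 1) * bprod _ l u) = 1
        rw [hb, if_pos rfl, F.pr_mul (qu_le m g1) (e ▸ qu_le m hq), g3, hp, one_mul]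

theorem pu_mem (u : ℕ) : F.pu u ∈ K0 m := bprod_mem (fun t => qu_le m (F.gU_spec t).1) _ _

theorem pa_mem (e : ℕ) : F.pa e ∈ K0 m := bprod_mem F.a_mem _ _

theorem pa_fix (e : ℕ) : F.cx (F.pa e) = F.pa e := by
  rw [pa]
  induction List.range 4 with
  | nil => show F.cx 1 = 1; rw [cx, mul_one, mul_inv_cancel]
  | cons i l ih =>
    show F.cx ((if e.testBit i then F.a i else 1) * bprod F.a l e) = _
    rw [cx_mul, ih]
    congr 1
    split
    · exact F.a_fix i
    · rw [cx, mul_one, mul_inv_cancel]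

/-- The image of the fixed part. -/
def eE (e : ℕ) : SUV := m.lin ⟨F.pa e, ((mem_K0 m).1 (F.pa_mem e)).1⟩

theorem eE_has {e : ℕ} (he : e < 16) : LargeFischerSylow.Has (F.eE e) (eImg m.k e) := by
  have hk := m.hk
  have h := el_ok m.k hk
  simp only [chkEl, Bool.and_eq_true, List.all_eq_true, List.mem_range, beq_iff_eq] at h
  rw [(h.1.1.1.2 e he).1, eL]
  have key : ∀ l : List ℕ, (∀ i ∈ l, i < 4) → ∀ hM : bprod F.a l e ∈ m.M,
      LargeFischerSylow.Has (m.lin ⟨bprod F.a l e, hM⟩)
        (l.foldr (fun i acc => if e.testBit i then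
          LargeFischerSylow.mulL (LargeFischerSylow.ivL m.k ((eB m.k).getD i 0)) acc else acc) LargeFischerSylow.oneL) := by
    intro l
    induction l with
    | nil =>
      intro _ hM
      have : (⟨bprod F.a [] e, hM⟩ : m.M) = 1 := Subtype.ext rfl
      rw [this, map_one]
      exact LargeFischerSylow.has_one
    | cons i l ih =>
      intro hl hM
      have hi := hl i (List.mem_cons_self ..)
      have hMi : F.a i ∈ m.M := ((mem_K0 m).1 (F.a_mem i)).1
      have hMl : bprod F.a l e ∈ m.M := ((mem_K0 m).1 (bprod_mem F.a_mem l e)).1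
      rw [List.foldr_cons]
      cases hb : e.testBit i
      · have : (⟨bprod F.a (i :: l) e, hM⟩ : m.M) = ⟨bprod F.a l e, hMl⟩ := Subtype.ext (by
          show (if e.testBit i then F.a i else 1) * bprod F.a l e = _
          rw [hb]; simp)
        rw [this, if_neg (by simp)]
        exact ih (fun j hj => hl j (List.mem_cons_of_mem _ hj)) hMl
      · have : (⟨bprod F.a (i :: l) e, hM⟩ : m.M) = ⟨F.a i, hMi⟩ * ⟨bprod F.a l e, hMl⟩ := Subtype.ext (by
          show (if e.testBit i then F.a i else 1) * bprod F.a l e = _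
          rw [hb, if_pos rfl]; rfl)
        rw [this, map_mul, if_pos rfl]
        exact LargeFischerSylow.has_mul (F.a_lin i hi hMi) (ih (fun j hj => hl j (List.mem_cons_of_mem _ hj)) hMl)
  exact key _ (fun i hi => List.mem_range.1 hi) _

theorem eE_act {e : ℕ} (he : e < 16) {c : ℕ} (hc : c < 4096) :
    m.act (F.pa e) (vecOf c) = vecOf (app (eImg m.k e) c) := by
  rw [show F.pa e = ((⟨F.pa e, ((mem_K0 m).1 (F.pa_mem e)).1⟩ : m.M) : Subgroup.centralizer ({z} : Set G)) from rfl,
    m.lin_act]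
  exact LargeFischerSylow.has_app (F.eE_has he) hc

/-- The element with a code. -/
noncomputable def phi (c : ℕ) : Subgroup.centralizer ({z} : Set G) := F.pu (c % 64) * zp (c.testBit 6) * F.pa (c / 128)

theorem phi_mem (c : ℕ) : F.phi c ∈ K0 m := mul_mem (mul_mem (F.pu_mem _) (zp_mem m _)) (F.pa_mem _)

theorem phi_xor (a b : ℕ) : F.phi (a ^^^ b) = F.phi a * F.phi b := by
  have hc := fun {u v : Subgroup.centralizer ({z} : Set G)} (hu : u ∈ K0 m) (hv : v ∈ K0 m) =>
    LargeFischerJ.K0_comm m hu hv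
  rw [phi, phi, phi, show (a ^^^ b) % 64 = a % 64 ^^^ b % 64 from Nat.xor_mod_two_pow (n := 6),
    show (a ^^^ b) / 128 = a / 128 ^^^ b / 128 by
      simp only [show (128 : ℕ) = 2 ^ 7 from rfl, ← Nat.shiftRight_eq_div_pow, Nat.shiftRight_xor_distrib],
    Nat.testBit_xor]
  rw [show F.pu (a % 64 ^^^ b % 64) = F.pu (a % 64) * F.pu (b % 64) from
      bprod_xor (fun u hu v hv => hc hu hv) (K0_sq m) (fun t => qu_le m (F.gU_spec t).1) _ _ _,
    show F.pa (a / 128 ^^^ b / 128) = F.pa (a / 128) * F.pa (b / 128) from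
      bprod_xor (fun u hu v hv => hc hu hv) (K0_sq m) F.a_mem _ _ _]
  generalize F.pu (a % 64) = p
  rw [show zp (z := z) (a.testBit 6 != b.testBit 6) = zp (a.testBit 6) * zp (b.testBit 6) from (zp_mul m _ _).symm]
  have h1 : zp (a.testBit 6) * F.pu (b % 64) = F.pu (b % 64) * zp (a.testBit 6) := zp_comm _ _
  have h2 : F.pa (a / 128) * (F.pu (b % 64) * zp (b.testBit 6)) = F.pu (b % 64) * zp (b.testBit 6) * F.pa (a / 128) :=
    hc (F.pa_mem _) (mul_mem (F.pu_mem _) (zp_mem m _))
  calc p * F.pu (b % 64) * (zp (a.testBit 6) * zp (b.testBit 6)) * (F.pa (a / 128) * F.pa (b / 128))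
      = p * (F.pu (b % 64) * zp (a.testBit 6)) * zp (b.testBit 6) * F.pa (a / 128) * F.pa (b / 128) := by group
    _ = p * (zp (a.testBit 6) * F.pu (b % 64)) * zp (b.testBit 6) * F.pa (a / 128) * F.pa (b / 128) := by rw [h1]
    _ = p * zp (a.testBit 6) * (F.pu (b % 64) * zp (b.testBit 6) * F.pa (a / 128)) * F.pa (b / 128) := by group
    _ = p * zp (a.testBit 6) * (F.pa (a / 128) * (F.pu (b % 64) * zp (b.testBit 6))) * F.pa (b / 128) := by rw [h2]
    _ = _ := by group

theorem pu_zero : F.pu 0 = 1 := by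
  rw [pu]
  induction List.range 6 with
  | nil => rfl
  | cons t l ih => show (if (0 : ℕ).testBit t then _ else 1) * bprod _ l 0 = 1; rw [ih]; simp

theorem pa_zero : F.pa 0 = 1 := by
  rw [pa]
  induction List.range 4 with
  | nil => rfl
  | cons t l ih => show (if (0 : ℕ).testBit t then _ else 1) * bprod _ l 0 = 1; rw [ih]; simp

theorem phi_small {i : ℕ} (hi : i < 64) : F.phi i = F.pu i := by
  rw [phi, Nat.mod_eq_of_lt hi, Nat.div_eq_of_lt (by omega),
    Nat.testBit_lt_two_pow (show i < 2 ^ 6 from hi), F.pa_zero]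
  simp [zp]

theorem phi_bit {b : ℕ} (hb : b < 2) : F.phi (64 * b) = zp (decide (b = 1)) := by
  interval_cases b
  · rw [Nat.mul_zero, F.phi_small (by norm_num), F.pu_zero]; simp [zp]
  · rw [phi, show 64 * 1 % 64 = 0 from rfl, show 64 * 1 / 128 = 0 from rfl, F.pu_zero, F.pa_zero]
    simp [zp, show (64 : ℕ).testBit 6 = true by decide +kernel]

theorem uC_lt (_F : Frame m) (u : ℕ) : uC m.k u < 4096 := by
  obtain ⟨-, -, hlt, -, -, hub, -, -⟩ := LargeFischerSylow.uw_facts m.hk
  rw [uC]
  induction List.range 6 with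
  | nil => simp
  | cons t l ih =>
    simp only [List.map_cons, List.foldr_cons]
    refine Nat.xor_lt_two_pow (n := 12) ?_ ih
    rcases Nat.mod_two_eq_zero_or_one (u / 2 ^ t) with e | e <;> rw [e]
    · simp
    · rw [one_mul]
      rcases Nat.lt_or_ge t (LargeFischerSylow.ub m.k).length with ht | ht
      · rw [List.getD_eq_getElem _ _ ht]; exact hlt _ (hub _ (List.getElem_mem _))
      · rw [List.getD_eq_default _ _ ht]; norm_num

theorem phi_eq_one {c : ℕ} (hc : c < 2048) (h : F.phi c = 1) : c = 0 := by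
  have hk := m.hk
  have hel := el_ok m.k hk
  simp only [chkEl, Bool.and_eq_true, List.all_eq_true, List.mem_range, beq_iff_eq, Bool.or_eq_true, Nat.beq_eq,
    Bool.not_eq_true'] at hel
  obtain ⟨⟨⟨⟨-, he16⟩, hu64⟩, -⟩, -⟩ := hel
  obtain ⟨q, hq, -, hrep, -⟩ := F.pu_spec (c % 64)
  have he : c / 128 < 16 := by omega
  have hpa : F.pa (c / 128) = (F.pu (c % 64) * zp (c.testBit 6))⁻¹ := eq_inv_of_mul_eq_one_right h
  have hpQ : F.pa (c / 128) ∈ Q := hpa ▸ inv_mem (mul_mem (hq ▸ q.2) (zp_mem_Q m _))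
  have he0 : c / 128 = 0 := by
    refine (he16 _ he).2.resolve_right fun hne => ?_
    have h1 : F.eE (c / 128) = 1 := (m.lin_eq_one _).2 hpQ
    have := LargeFischerSylow.has_unique (F.eE_has he) (h1.symm ▸ LargeFischerSylow.has_one)
    rw [← (he16 _ he).1] at hne
    simp [this] at hne
  rw [phi, he0, F.pa_zero, mul_one] at h
  have hrz : m.rep q = 0 := by
    have hqz : (q : Subgroup.centralizer ({z} : Set G)) = zp (c.testBit 6) := by
      rw [hq, eq_inv_of_mul_eq_one_left h, inv_eq_of_mul_eq_one_right]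
      rw [zp_mul m, Bool.xor_self]; rfl
    refine (m.rep_zero q).2 ?_
    rw [hqz]
    cases c.testBit 6 <;> simp [zp, zH]
  have hu : c % 64 = 0 := by
    refine (hu64 _ (Nat.mod_lt _ (by norm_num))).resolve_right fun hne => ?_
    rw [hrz, ← vecOf_zero] at hrep
    have := vecOf_inj (by norm_num) (F.uC_lt _) hrep
    simp [← this] at hne
  rw [hu, F.pu_zero, one_mul] at h
  have hb : c.testBit 6 = false := zp_inj m (z := z) (h.trans (by simp [zp]))
  rw [Nat.testBit_eq_decide_div_mod_eq, decide_eq_false_iff_not] at hb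
  omega

theorem phi_inj {a b : ℕ} (ha : a < 2048) (hb : b < 2048) (h : F.phi a = F.phi b) : a = b := by
  have := F.phi_eq_one (Nat.xor_lt_two_pow (n := 11) ha hb) (by rw [F.phi_xor, h, K0_sq m _ (F.phi_mem b)])
  exact Nat.xor_eq_zero_iff.1 this

theorem phi_surj {g : Subgroup.centralizer ({z} : Set G)} (hg : g ∈ K0 m) : ∃ c < 2048, F.phi c = g := by
  have hbij : Function.Bijective (fun c : Fin 2048 => (⟨F.phi c, F.phi_mem c⟩ : K0 m)) :=
    (Nat.bijective_iff_injective_and_card _).2
      ⟨fun a b e => Fin.ext (F.phi_inj a.2 b.2 (congrArg Subtype.val e)), by rw [Nat.card_fin, card_K0]; norm_num⟩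
  obtain ⟨c, hc⟩ := hbij.2 ⟨g, hg⟩
  exact ⟨c, c.2, congrArg Subtype.val hc⟩

theorem pu_conj (q : Q) (u : ℕ) : (q : Subgroup.centralizer ({z} : Set G)) * F.pu u * (q : Subgroup.centralizer ({z} : Set G))⁻¹ =
    F.pu u * zp (decide (cbit (enc6 (m.rep q)) (uC m.k u) = 1)) := by
  obtain ⟨p, hp, -, hr, -⟩ := F.pu_spec u
  rw [← hp, comm_formula m q p, hr]
  congr 2
  conv_lhs => rw [← vecOf_enc6 (m.rep q), hermC_sound, trb_code _ (hermC_lt _ _)]
  rfl

/-- Conjugation by the extraspecial group. -/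
theorem phi_conj (q : Q) {c i : ℕ} (hc : c < 2048) (hi : i < 64)
    (hw : uC m.k i = app (eImg m.k (c / 128)) (enc6 (m.rep q)) ^^^ enc6 (m.rep q)) :
    (q : Subgroup.centralizer ({z} : Set G)) * F.phi c * (q : Subgroup.centralizer ({z} : Set G))⁻¹ =
      F.phi (c ^^^ i ^^^ 64 * ((cbit (enc6 (m.rep q)) (uC m.k (c % 64)) +
        tbit (enc6 (m.rep q)) (uC m.k i)) % 2)) := by
  set e := c / 128 with he
  have he16 : e < 16 := by omega
  have hK : ∀ p : Q, (p : Subgroup.centralizer ({z} : Set G)) * F.pa e * (p : Subgroup.centralizer ({z} : Set G))⁻¹ *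
      (F.pa e)⁻¹ ∈ K0 m := fun p => mul_mem (K0_norm m (n := ⟨p, m.M_le p.2⟩) (fun a ha => by
        rw [(m.lin_eq_one _).2 p.2, one_mul, inv_one, mul_one]; exact ha) (F.pa_mem e)) (inv_mem (F.pa_mem e))
  let D : Q → Q := fun p => p * (qconj (F.pa e) p)⁻¹
  have hD : ∀ p, (D p : Subgroup.centralizer ({z} : Set G)) = p * F.pa e * (p : Subgroup.centralizer ({z} : Set G))⁻¹ * (F.pa e)⁻¹ := fun p => by
    show (p : Subgroup.centralizer ({z} : Set G)) * (F.pa e * p * (F.pa e)⁻¹)⁻¹ = _
    group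
  have hDrep : ∀ p, m.rep (D p) = m.rep p + vecOf (app (eImg m.k e) (enc6 (m.rep p))) := fun p => by
    rw [m.rep_mul, m.rep_inv, ← m.act_rep]
    congr 1
    conv_lhs => rw [← vecOf_enc6 (m.rep p)]
    exact F.eE_act he16 (enc6_lt _)
  set p1 := qconj (F.x : Subgroup.centralizer ({z} : Set G)) q with hp1
  set p2 := qconj (F.x : Subgroup.centralizer ({z} : Set G)) p1 with hp2
  have hcx : ∀ p : Q, F.cx (D p : Subgroup.centralizer ({z} : Set G)) =
      D (qconj (F.x : Subgroup.centralizer ({z} : Set G)) p) := fun p => by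
    rw [hD, hD, cx_mul, cx_mul, cx_mul, cx_inv, cx_inv, F.pa_fix]
    rfl
  have hmul : ∀ a b : Q, (D (a * b) : Subgroup.centralizer ({z} : Set G)) =
      (D a : Subgroup.centralizer ({z} : Set G)) * (D b : Subgroup.centralizer ({z} : Set G)) * zp (z := z) (trb (hermForm 6 K4 2 (m.rep a) (m.rep (D b)))) := fun a b => by
    have hcab := comm_formula m a (D b)
    have hK' : ∀ r, (D r : Subgroup.centralizer ({z} : Set G)) ∈ K0 m := fun r => (hD r).symm ▸ hK r
    calc (D (a * b) : Subgroup.centralizer ({z} : Set G))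
        = (a : Subgroup.centralizer ({z} : Set G)) * (D b : Subgroup.centralizer ({z} : Set G)) * (a : Subgroup.centralizer ({z} : Set G))⁻¹ * (D a : Subgroup.centralizer ({z} : Set G)) := by
          rw [hD, hD, hD, Subgroup.coe_mul]; group
      _ = (D b : Subgroup.centralizer ({z} : Set G)) * zp (z := z) (trb (hermForm 6 K4 2 (m.rep a) (m.rep (D b)))) * (D a : Subgroup.centralizer ({z} : Set G)) := by rw [hcab]
      _ = (D a : Subgroup.centralizer ({z} : Set G)) * ((D b : Subgroup.centralizer ({z} : Set G)) * zp (z := z) (trb (hermForm 6 K4 2 (m.rep a) (m.rep (D b))))) :=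
          (LargeFischerJ.K0_comm m (hK' a) (mul_mem (hK' b) (zp_mem m _))).symm
      _ = _ := (mul_assoc _ _ _).symm
  set v := m.rep q with hv
  set w := m.rep (D q) with hw'
  have hw1 : m.rep (D p1) = ω • w := by
    rw [hw', ← F.rep_cx]
    congr 1
    exact Subtype.ext (hcx q).symm
  have hw2 : m.rep (D p2) = ω • (ω • w) := by
    rw [← hw1, ← F.rep_cx]
    congr 1
    exact Subtype.ext (hcx p1).symm
  have hone : (D (q * p1 * p2) : Subgroup.centralizer ({z} : Set G)) = 1 := by
    obtain ⟨b, hb⟩ := central_cases m (q * p1 * p2) (by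
      simp only [m.rep_mul, hp2, hp1, F.rep_cx]
      funext t
      simp only [Pi.add_apply, Pi.smul_apply, smul_eq_mul, Pi.zero_apply]
      generalize m.rep q t = r
      revert r; decide +kernel)
    rw [hD, hb, zp_comm, mul_inv_cancel_right, mul_inv_cancel]
  rw [hmul, hmul, hw1, hw2, m.rep_mul, hp1, F.rep_cx, ← hv, ← hp1, herm_add_left, herm_smul, herm_smul_right,
    herm_smul_right, herm_smul_right] at hone
  set h := hermForm 6 K4 2 v w with hh
  have hprD : F.pr (D q : Subgroup.centralizer ({z} : Set G)) = zp (xor (trb (ω * ω * h)) (trb h)) := by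
    rw [pr, hcx, hcx, ← hp1, ← hp2, ← zp_mul m]
    have e1 : ω ^ 2 * h = ω * ω * h := by rw [pow_two]
    have e2 : ω ^ 2 * (ω ^ 2 * h) + ω * (ω ^ 2 * (ω ^ 2 * h)) = h := by
      generalize h = r
      revert r; decide +kernel
    rw [e2, e1] at hone
    exact central_shuffle (zp_comm _) (by rw [zp_mul m, Bool.xor_self]; rfl) (by rw [zp_mul m, Bool.xor_self]; rfl) hone
  have hwi : w = vecOf (uC m.k i) := by
    rw [hw', hDrep, hw, vecOf_xor, vecOf_enc6, add_comm, hv]
  obtain ⟨p, hp, hpq, hpr, hpp⟩ := F.pu_spec i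
  obtain ⟨b, hb⟩ := rep_same m (p := D q) (q := p) (by rw [← hw', hwi, hpr])
  have hbv : b = decide (tbit (enc6 v) (uC m.k i) = 1) := by
    refine zp_inj m (z := z) ?_
    have := hprD
    rw [hb, hp, F.pr_mul (F.pu_mem i) (zp_mem m b), hpp, one_mul, F.pr_zp] at this
    rw [this]
    congr 1
    rw [hh, hwi]
    conv_lhs => rw [← vecOf_enc6 v, hermC_sound, trb_pair _ (hermC_lt _ _)]
    rfl
  have hbit : ∀ {a : ℕ}, (q : Subgroup.centralizer ({z} : Set G)) * F.pu a * (q : Subgroup.centralizer ({z} : Set G))⁻¹ =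
      F.pu a * zp (decide (cbit (enc6 v) (uC m.k a) = 1)) := fun {a} => F.pu_conj q a
  have hlt2 : ∀ a b : ℕ, (cbit a b < 2) ∧ tbit a b < 2 := fun a b => ⟨by
    have := hermC_lt a b; rw [cbit]; omega, by
    have := hermC_lt a b; rw [tbit]; interval_cases hermC a b <;> decide⟩
  rw [F.phi_xor, F.phi_xor, F.phi_small hi, F.phi_bit (Nat.mod_lt _ (by norm_num)), phi, ← he]
  have hpa : (q : Subgroup.centralizer ({z} : Set G)) * F.pa e * (q : Subgroup.centralizer ({z} : Set G))⁻¹ =
      F.pu i * zp b * F.pa e := by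
    rw [← hp, ← hb, hD]; group
  have hbb : decide ((cbit (enc6 v) (uC m.k (c % 64)) + tbit (enc6 v) (uC m.k i)) % 2 = 1) =
      xor (decide (cbit (enc6 v) (uC m.k (c % 64)) = 1)) b := by
    rw [hbv]
    obtain ⟨a1, -⟩ := hlt2 (enc6 v) (uC m.k (c % 64))
    obtain ⟨-, a2⟩ := hlt2 (enc6 v) (uC m.k i)
    generalize cbit (enc6 v) (uC m.k (c % 64)) = s at a1
    generalize tbit (enc6 v) (uC m.k i) = t at a2
    interval_cases s <;> interval_cases t <;> decide
  rw [hbb, ← zp_mul m]
  generalize hs : decide (cbit (enc6 v) (uC m.k (c % 64)) = 1) = s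
  calc (q : Subgroup.centralizer ({z} : Set G)) * (F.pu (c % 64) * zp (c.testBit 6) * F.pa e) *
        (q : Subgroup.centralizer ({z} : Set G))⁻¹
      = ((q : Subgroup.centralizer ({z} : Set G)) * F.pu (c % 64) * (q : Subgroup.centralizer ({z} : Set G))⁻¹) * ((q : Subgroup.centralizer ({z} : Set G)) * zp (c.testBit 6) * (q : Subgroup.centralizer ({z} : Set G))⁻¹) *
          ((q : Subgroup.centralizer ({z} : Set G)) * F.pa e * (q : Subgroup.centralizer ({z} : Set G))⁻¹) := by group
    _ = F.pu (c % 64) * zp s * zp (c.testBit 6) * (F.pu i * zp b * F.pa e) := by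
        rw [hpa, hbit, hs, ← zp_comm (c.testBit 6) (q : Subgroup.centralizer ({z} : Set G)), mul_inv_cancel_right]
    _ = _ := by
        have hA : ∀ x y : Subgroup.centralizer ({z} : Set G), x ∈ K0 m → y ∈ K0 m → Commute x y :=
          fun x y hx hy => LargeFischerJ.K0_comm m hx hy
        have a1 := hA _ _ (zp_mem m s) (zp_mem m (c.testBit 6))
        have a2 := hA _ _ (zp_mem m s) (mul_mem (F.pu_mem i) (zp_mem m b))
        have a3 := hA _ _ (F.pu_mem i) (F.pa_mem e)
        have a4 := hA _ _ (zp_mem m b) (F.pa_mem e)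
        have a5 := hA _ _ (zp_mem m s) (F.pa_mem e)
        have a6 := hA _ _ (zp_mem m s) (F.pu_mem i)
        calc F.pu (c % 64) * zp s * zp (c.testBit 6) * (F.pu i * zp b * F.pa e)
            = F.pu (c % 64) * zp (c.testBit 6) * (zp s * (F.pu i * zp b * F.pa e)) := by
              rw [mul_assoc _ (zp s) (zp (c.testBit 6)), a1.eq]; group
          _ = F.pu (c % 64) * zp (c.testBit 6) * (F.pa e * (F.pu i * (zp s * zp b))) := by
              congr 1
              calc zp s * (F.pu i * zp b * F.pa e) = (zp s * F.pu i) * (zp b * F.pa e) := by group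
                _ = (F.pu i * zp s) * (F.pa e * zp b) := by rw [a6.eq, a4.eq]
                _ = F.pu i * (zp s * F.pa e) * zp b := by group
                _ = F.pu i * (F.pa e * zp s) * zp b := by rw [a5.eq]
                _ = (F.pu i * F.pa e) * (zp s * zp b) := by group
                _ = (F.pa e * F.pu i) * (zp s * zp b) := by rw [a3.eq]
                _ = _ := by group
          _ = _ := by group

end Frame

end

end Cfsg.Agent.Fus.LargeFischerCoords
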