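/-
At most 567 spaces in the orbit of the totally singular space, hence many elements of the centraliser of the centre
normalise the group of order `2^11`.
-/
import Cfsg.Agent.Lib.Fus.LargeFischerLocal
import Cfsg.Agent.Lib.Fus.LargeFischerModelChecks

set_option autoImplicit false
set_option maxRecDepth 100000
set_option linter.unusedSectionVars false
set_option linter.style.haveILetI false

open Cfsg Cfsg.Agent.Classical Cfsg.Agent.Spor.Cos Cfsg.Agent.Spor.LargeFischer Matrix
open Cfsg.Agent.Spor.USixTwo (K4 vecOf)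
open Cfsg.Agent.Spor.U62U43 (cover62)
open Cfsg.Agent.Fus.LargeFischerScalar Cfsg.Agent.Fus.LargeFischerAbelian
open scoped Pointwise

namespace Cfsg.Agent.Fus.LargeFischerStabCount

open LargeFischerModel

theorem herm_symm0 {u w : Fin 6 → K4} (h : hermForm 6 K4 2 u w = 0) : hermForm 6 K4 2 w u = 0 := by
  rw [herm_swap u w, h]
  decide +kernel

theorem perp_add {v a b : Fin 6 → K4} (ha : hermForm 6 K4 2 v a = 0) (hb : hermForm 6 K4 2 v b = 0) :
    hermForm 6 K4 2 v (a + b) = 0 := by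
  refine herm_symm0 ?_
  have ha' := herm_symm0 ha
  have hb' := herm_symm0 hb
  simp only [hermForm, Pi.add_apply, add_mul, Finset.sum_add_distrib] at *
  rw [ha', hb', add_zero]

theorem perp_om {v a : Fin 6 → K4} (ha : hermForm 6 K4 2 v a = 0) : hermForm 6 K4 2 v (ω • a) = 0 := by
  refine herm_symm0 ?_
  rw [herm_smul, herm_symm0 ha, mul_zero]

theorem perp_comb {v : Fin 6 → K4} {l : List ℕ} (h : ∀ x ∈ l, hermForm 6 K4 2 v (vecOf x) = 0) (n : ℕ) :
    hermForm 6 K4 2 v (vecOf (comb l n)) = 0 := by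
  have h0 : hermForm 6 K4 2 v (vecOf 0) = 0 := by
    refine herm_symm0 ?_
    simp [hermForm, vecOf_zero]
  rw [comb]
  induction List.range 6 with
  | nil => exact h0
  | cons t L ih =>
    simp only [List.map_cons, List.foldr_cons, vecOf_xor]
    refine perp_add ?_ ih
    rcases Nat.mod_two_eq_zero_or_one (n / 2 ^ t) with e | e
    · rw [e, zero_mul]; exact h0
    · rw [e, one_mul]
      rcases Nat.lt_or_ge t l.length with ht | ht
      · rw [List.getD_eq_getElem _ _ ht]; exact h _ (List.getElem_mem _)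
      · rw [List.getD_eq_default _ _ ht]; exact h0

variable {k : ℕ}

theorem bas_lt (j t : ℕ) : bas k j t < 4096 := Nat.mod_lt _ (by norm_num)

/-- The perpendicular of a list. -/
def Perp (l : List ℕ) : Set (Fin 6 → K4) := {v | ∀ x ∈ l, hermForm 6 K4 2 v (vecOf x) = 0}

theorem six_perp (hk : k < 3) {B : List ℕ} (hlt : ∀ b ∈ B, b < 4096) {v : Fin 6 → K4} (h : v ∈ Perp B) :
    v ∈ Perp (six k B) := by
  intro x hx
  simp only [six, List.mem_flatten, List.mem_map] at hx
  obtain ⟨_, ⟨b, hb, rfl⟩, hx⟩ := hx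
  simp only [List.mem_cons, List.not_mem_nil, or_false] at hx
  rcases hx with rfl | rfl
  · exact h _ hb
  · rw [← (om_code hk (hlt b hb)).1]; exact perp_om (h b hb)

/-- A space of the orbit. -/
def Sp (k j : ℕ) : Set (Fin 6 → K4) := Perp (basL k j)

theorem basL_lt {j : ℕ} : ∀ b ∈ basL k j, b < 4096 := by
  intro b hb
  simp only [basL, List.mem_cons, List.not_mem_nil, or_false] at hb
  rcases hb with rfl | rfl | rfl <;> exact bas_lt _ _

theorem imgL_lt (hk : k < 3) {h s : ℕ} (hs : s < 4) : ∀ b ∈ imgL k h s, b < 4096 := by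
  intro b hb
  obtain ⟨a, ha, rfl⟩ := List.mem_map.1 hb
  exact (gen_act hk hs (basL_lt a ha)).2

theorem smul_Sp (hk : k < 3) {h s : ℕ} (hs : s < 4) :
    kgen k s • Sp k h = Perp (imgL k h s) := by
  ext v
  rw [Set.mem_smul_set_iff_inv_smul_mem]
  constructor
  · intro hv b hb
    obtain ⟨a, ha, rfl⟩ := List.mem_map.1 hb
    rw [← (gen_act hk hs (basL_lt a ha)).1, ← smul_inv_smul (kgen k s) v, smul_herm]
    exact hv a ha
  · intro hv a ha
    have := hv _ (List.mem_map_of_mem (f := (dat k).ap s) ha)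
    rw [← (gen_act hk hs (basL_lt a ha)).1, ← smul_inv_smul (kgen k s) v, smul_herm] at this
    exact this

theorem basL_getD {j t : ℕ} (ht : t < 3) : (basL k j).getD t 0 = bas k j t := by
  interval_cases t <;> rfl

theorem Sp_zero (hk : k < 3) (v : Fin 6 → K4) :
    v ∈ Sp k 0 ↔ enc6 v ∈ LargeFischerSylow.uw k := by
  have h := root_ok k hk
  simp only [chkRoot, Bool.and_eq_true, beq_iff_eq, List.all_eq_true, List.mem_range] at h
  obtain ⟨h6, h3⟩ := h
  obtain ⟨-, -, hlt, hiso, -, hub, hperp, -⟩ := LargeFischerSylow.uw_facts hk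
  constructor
  · intro hv
    refine hperp _ (enc6_lt v) fun u hu => (hermC_zero _ _).1 ?_
    rw [vecOf_enc6]
    exact six_perp hk basL_lt hv u (h6 ▸ hu)
  · intro hv b hb
    obtain ⟨t, ht, rfl⟩ := List.getElem_of_mem hb
    have ht3 : t < 3 := ht
    have hb' := List.contains_iff_mem.1 (h3 t ht3)
    rw [← basL_getD ht3, List.getD_eq_getElem _ _ ht] at hb'
    rw [← vecOf_enc6 v]
    exact (hermC_zero _ _).2 (hiso _ hv _ hb')

theorem next_le (hk : k < 3) {h s : ℕ} (hh : h < 567) (hs : s < 4) :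
    nxJ k h s < 567 ∧ Sp k (nxJ k h s) ⊆ kgen k s • Sp k h := by
  have hc := step_ok k hk h hh
  simp only [chkStep, List.all_eq_true, List.mem_range, Bool.and_eq_true, Nat.blt_eq, Nat.beq_eq] at hc
  obtain ⟨h1, h2⟩ := hc s hs
  refine ⟨h1, fun v hv => ?_⟩
  rw [smul_Sp hk hs]
  intro b hb
  obtain ⟨t, ht, rfl⟩ := List.getElem_of_mem hb
  have ht3 : t < 3 := by simpa [imgL, basL] using ht
  rw [← List.getD_eq_getElem _ 0 ht, h2 t ht3]
  exact perp_comb (six_perp hk basL_lt hv) _

theorem ncard_Sp (hk : k < 3) : ∀ j < 567, (Sp k j).ncard = (Sp k 0).ncard := by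
  intro j
  induction j using Nat.strong_induction_on with
  | _ j ih =>
    intro hj
    have h := link_ok k hk j hj
    simp only [chkLink, Bool.or_eq_true, Nat.beq_eq, Bool.and_eq_true, Nat.blt_eq, List.all_eq_true,
      List.mem_range] at h
    rcases h with rfl | ⟨⟨⟨h1, h2⟩, h3⟩, h4⟩
    · rfl
    generalize (LargeFischerModel.bpar k).getD j 0 % 1024 = p at h1 h3 h4
    generalize (LargeFischerModel.bpar k).getD j 0 / 1024 % 4 = s at h2 h3 h4
    have hp : p < 567 := h1.trans hj
    have e : Sp k j = kgen k s • Sp k p := by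
      refine Set.Subset.antisymm (h3 ▸ (next_le hk hp h2).2) ?_
      rw [smul_Sp hk h2]
      intro v hv b hb
      obtain ⟨t, ht, rfl⟩ := List.getElem_of_mem hb
      rw [← List.getD_eq_getElem _ 0 ht, basL_getD (show t < 3 from ht), h4 t ht]
      exact perp_comb (six_perp hk (imgL_lt hk h2) hv) _
    rw [e, Set.ncard_smul_set, ih p h1 hp]

theorem smul_gen_eq (hk : k < 3) {h s : ℕ} (hh : h < 567) (hs : s < 4) :
    kgen k s • Sp k h = Sp k (nxJ k h s) := by
  obtain ⟨h1, h2⟩ := next_le hk hh hs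
  refine (Set.eq_of_subset_of_ncard_le h2 ?_ (Set.toFinite _)).symm
  rw [Set.ncard_smul_set, ncard_Sp hk h hh, ncard_Sp hk _ h1]

theorem orbit_Sp (hk : k < 3) {x : SUV} (hx : x ∈ cover62 k) :
    ∀ h < 567, ∃ j < 567, x • Sp k h = Sp k j := by
  rw [cover_gen hk] at hx
  induction hx using Subgroup.closure_induction with
  | one => exact fun h hh => ⟨h, hh, one_smul _ _⟩
  | mul a b _ _ iha ihb =>
    intro h hh
    obtain ⟨j, hj, e⟩ := ihb h hh
    obtain ⟨i, hi, e'⟩ := iha j hj
    exact ⟨i, hi, by rw [mul_smul, e, e']⟩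
  | inv a _ ih =>
    intro h hh
    have hpow : ∀ n : ℕ, ∃ j < 567, (a ^ n) • Sp k h = Sp k j := by
      intro n
      induction n with
      | zero => exact ⟨h, hh, by rw [pow_zero, one_smul]⟩
      | succ n ihn =>
        obtain ⟨j, hj, e⟩ := ihn
        obtain ⟨i, hi, e'⟩ := ih j hj
        exact ⟨i, hi, by rw [pow_succ', mul_smul, e, e']⟩
    rw [show a⁻¹ = a ^ (orderOf a - 1) from inv_eq_of_mul_eq_one_right (by
      rw [← pow_succ', Nat.sub_add_cancel (orderOf_pos a), pow_orderOf_eq_one])]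
    exact hpow _
  | mem y hy =>
    obtain ⟨s, hs, rfl⟩ := hy
    intro h hh
    exact ⟨_, (next_le hk hh hs).1, smul_gen_eq hk hh hs⟩

/-- The stabiliser of the space in the class. -/
noncomputable def spaceStab (k : ℕ) : Subgroup SUV := cover62 k ⊓ MulAction.stabilizer SUV (Sp k 0)

theorem card_le_orbit {X Y : Type*} [Group X] [Finite X] [MulAction X Y] (C : Subgroup X) (y : Y) (n : ℕ)
    (pts : ℕ → Y) (h : ∀ x ∈ C, ∃ j < n, x • y = pts j) :
    Nat.card C ≤ n * Nat.card ↥(C ⊓ MulAction.stabilizer X y) := by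
  classical
  choose f hf hf' using fun x : C => h x x.2
  let r : C → C := fun x =>
    if hx : ∃ z : C, f z = f x then hx.choose else 1
  have hr : ∀ x : C, f (r x) = f x ∧ ∀ x' : C, f x' = f x → r x' = r x := fun x => by
    refine ⟨?_, fun x' e => ?_⟩
    · simp only [r, dif_pos (⟨x, rfl⟩ : ∃ z : C, f z = f x)]
      exact Exists.choose_spec (⟨x, rfl⟩ : ∃ z : C, f z = f x)
    · simp only [r, e]
  have hs : ∀ x : C, ((r x : X))⁻¹ * (x : X) ∈ C ⊓ MulAction.stabilizer X y := fun x => by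
    refine Subgroup.mem_inf.2 ⟨mul_mem (inv_mem (r x).2) x.2, MulAction.mem_stabilizer_iff.2 ?_⟩
    rw [mul_smul, hf' x, ← (hr x).1, ← hf' (r x), inv_smul_smul]
  refine le_of_le_of_eq (Nat.card_le_card_of_injective
    (fun x : C => ((⟨f x, hf x⟩ : Fin n), (⟨_, hs x⟩ : ↥(C ⊓ MulAction.stabilizer X y)))) fun x x' e => ?_)
    (by rw [Nat.card_prod, Nat.card_fin])
  obtain ⟨e1, e2⟩ := Prod.ext_iff.1 e
  have e3 := congrArg Subtype.val e2
  simp only at e3
  rw [(hr x).2 x' (congrArg Fin.val e1).symm] at e3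
  exact Subtype.ext (mul_left_cancel e3)

theorem card_spaceStab (hk : k < 3) : 9797760 ≤ 567 * Nat.card (spaceStab k) :=
  le_of_eq_of_le (card_cover hk).symm
    (card_le_orbit (cover62 k) (Sp k 0) 567 (Sp k) fun _ hx => orbit_Sp hk hx 0 (by norm_num))

section

variable {G : Type*} [Group G] [Finite G] {z : G} {Q : Subgroup (Subgroup.centralizer ({z} : Set G))}
  [hQn : Q.Normal] (m : Model z Q)

theorem mem_Sp_zero (v : Fin 6 → K4) : v ∈ Sp m.k 0 ↔ InU m v :=
  (Sp_zero m.hk v).trans (LargeFischerSylow.fix_E m.hk v).symm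

theorem stab_norm {n : m.M} (hn : m.lin n ∈ spaceStab m.k) :
    ∀ e ∈ LargeFischerSylow.E m.hk, m.lin n * e * (m.lin n)⁻¹ ∈ LargeFischerSylow.E m.hk := by
  intro e he
  refine fixer_eq m.hk (mul_mem (mul_mem (m.lin_mem n) ?_) (inv_mem (m.lin_mem n))) fun v hv => ?_
  · exact LargeFischerSylow.P0_le m.hk (LargeFischerSylow.E_le m.hk he)
  have hw : (m.lin n)⁻¹ • v ∈ Sp m.k 0 := by
    rw [← Set.mem_smul_set_iff_inv_smul_mem, MulAction.mem_stabilizer_iff.1 hn.2]
    exact (mem_Sp_zero m v).2 hv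
  rw [mul_smul, mul_smul, (mem_Sp_zero m _).1 hw e he, smul_inv_smul]

theorem exists_outer (hF : IsOfLargeFischerTypeAt z Q) :
    ∃ t : Subgroup.centralizer ({z} : Set G), t ∉ m.M ∧ (t : G) ∈ Subgroup.normalizer (LargeFischerLocal.AK m : Set G) := by
  haveI : Fact (Nat.Prime 2) := ⟨Nat.prime_two⟩
  obtain ⟨T, hT⟩ := (IsPGroup.of_card (card_K0 m)).exists_le_sylow
  obtain ⟨P, hP⟩ := LargeFischerLocal.exists_sylow_eq m T
  have hTM : ¬ (T : Subgroup _) ≤ m.M := fun h => by
    refine T.not_dvd_index ?_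
    have := Subgroup.index_dvd_of_le h
    rwa [m.M_index] at this
  obtain ⟨t, ht, htM⟩ := SetLike.not_le_iff_exists.1 hTM
  refine ⟨t, htM, Subgroup.mem_normalizer_iff_map_conj_eq.2 ?_⟩
  have hle : LargeFischerLocal.AK m ≤ (P : Subgroup G) := hP ▸ Subgroup.map_mono hT
  refine LargeFischerLocal.big_eq m hF ?_ ((LargeFischerLocal.AK_big m).map (MulAut.conj (t : G)).injective) hle
    (LargeFischerLocal.AK_big m)
  rintro _ ⟨x, hx, rfl⟩
  have htP : (t : G) ∈ (P : Subgroup G) := hP ▸ ⟨t, ht, rfl⟩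
  exact mul_mem (mul_mem htP (hle hx)) (inv_mem htP)

/-- Many elements of the centraliser normalise. -/
theorem card_norm_centralizer (hF : IsOfLargeFischerTypeAt z Q) :
    2 ^ 11 * 138240 ≤
      Nat.card ↥(Subgroup.normalizer (LargeFischerLocal.AK m : Set G) ⊓ Subgroup.centralizer ({z} : Set G)) := by
  set S := (spaceStab m.k).comap m.lin with hS
  have hSmap : S.map m.lin = spaceStab m.k := Subgroup.map_comap_eq_self (fun x hx => by
    rw [m.lin_range]; exact hx.1)
  have hker : Nat.card ↥(S ⊓ m.lin.ker) = 2 ^ 13 := by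
    rw [inf_eq_right.2 (fun x hx => by
      show m.lin x ∈ spaceStab m.k
      rw [MonoidHom.mem_ker.1 hx]; exact one_mem _)]
    have : m.lin.ker = Q.subgroupOf m.M := by
      ext x; rw [MonoidHom.mem_ker, m.lin_eq_one]; rfl
    rw [this, Nat.card_congr (Subgroup.subgroupOfEquivOfLe m.M_le).toEquiv, ← m.card_QG]
    exact (Subgroup.card_map_of_injective (Subgroup.subtype_injective _)).symm
  have hcS := Spor.Leech.card_eq_ker_mul_map m.lin S
  rw [hker, hSmap] at hcS
  have hnorm : ∀ n ∈ S, ((n : Subgroup.centralizer ({z} : Set G)) : G) ∈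
      Subgroup.normalizer (LargeFischerLocal.AK m : Set G) := fun n hn => by
    refine Subgroup.mem_normalizer_iff_map_conj_eq.2 (Subgroup.eq_of_le_of_card_ge ?_ ?_)
    · rintro _ ⟨_, ⟨a, ha, rfl⟩, rfl⟩
      exact ⟨_, K0_norm m (stab_norm m hn) ha, rfl⟩
    · rw [Subgroup.card_map_of_injective (MulAut.conj _).injective]
  obtain ⟨t, htM, htN⟩ := exists_outer m hF
  have hinj := Nat.card_le_card_of_injective
    (fun p : Bool × S => (⟨(if p.1 then (t : G) else 1) * ((p.2.1 : Subgroup.centralizer ({z} : Set G)) : G),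
      Subgroup.mem_inf.2 ⟨mul_mem (by split; exact htN; exact one_mem _) (hnorm _ p.2.2),
        mul_mem (by split; exact t.2; exact one_mem _) (SetLike.coe_mem _)⟩⟩ :
      ↥(Subgroup.normalizer (LargeFischerLocal.AK m : Set G) ⊓ Subgroup.centralizer ({z} : Set G)))) ?_
  · rw [Nat.card_prod, Nat.card_eq_fintype_card (α := Bool), Fintype.card_bool, hcS] at hinj
    have := card_spaceStab m.hk
    norm_num at hinj ⊢
    omega
  rintro ⟨b, x⟩ ⟨b', x'⟩ e
  have e' := congrArg Subtype.val e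
  simp only at e'
  have hb : b = b' := by
    have hno : ∀ y y' : m.M, (t : G) * ((y : Subgroup.centralizer ({z} : Set G)) : G) ≠
        ((y' : Subgroup.centralizer ({z} : Set G)) : G) := fun y y' h => htM (by
      have h' : t * (y : Subgroup.centralizer ({z} : Set G)) = y' := Subtype.ext h
      rw [eq_mul_inv_of_mul_eq h']
      exact mul_mem y'.2 (inv_mem y.2))
    cases b <;> cases b' <;> simp only [if_true, Bool.false_eq_true, if_false, one_mul] at e'
    · rfl
    · exact absurd e'.symm (hno _ _)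
    · exact absurd e' (hno _ _)
    · rfl
  subst hb
  exact Prod.ext rfl (Subtype.ext (Subtype.ext (Subtype.ext (mul_left_cancel e'))))

end

end Cfsg.Agent.Fus.LargeFischerStabCount
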