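/-
The classes in the group of order `2^11`: 1771 conjugates of the centre and, in coordinates, one explicit set of 276
elements for the others.
-/
import Cfsg.Agent.Lib.Fus.LargeFischerCoords
import Cfsg.Agent.Lib.Fus.LargeFischerStabCount

set_option autoImplicit false
set_option maxRecDepth 100000
set_option linter.unusedSectionVars false
set_option linter.style.haveILetI false
set_option linter.unusedSimpArgs false

open Cfsg Cfsg.Agent.Classical Cfsg.Agent.Spor.Cos Cfsg.Agent.Spor.LargeFischer Matrix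
open Cfsg.Agent.Spor.USixTwo (K4 vecOf)
open Cfsg.Agent.Spor.U62U43 (cover62)
open Cfsg.Agent.Fus.LargeFischerScalar Cfsg.Agent.Fus.LargeFischerAbelian
open Cfsg.Agent.Fus.LargeFischerLocal (zH zH_comm AK)

namespace Cfsg.Agent.Fus.LargeFischerCoset

open LargeFischerModel LargeFischerCoords

theorem xor_add : ∀ e < 16, ∀ n < 128, 128 * e + n = 128 * e ^^^ n := by decide +kernel

theorem exists_bits (n : ℕ) (f : ℕ → Bool) : ∃ j < 2 ^ n, ∀ t < n, j / 2 ^ t % 2 = if f t then 1 else 0 := by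
  induction n with
  | zero => exact ⟨0, by norm_num, fun t ht => absurd ht (Nat.not_lt_zero t)⟩
  | succ n ih =>
    obtain ⟨j, hj, h⟩ := ih
    refine ⟨j + 2 ^ n * (if f n then 1 else 0), by rw [pow_succ]; split <;> omega, fun t ht => ?_⟩
    have hpos : 0 < 2 ^ n := by positivity
    rcases Nat.lt_succ_iff_lt_or_eq.1 ht with ht' | rfl
    · rw [show 2 ^ n = 2 ^ t * (2 * 2 ^ (n - t - 1)) by rw [← pow_succ', ← pow_add]; congr 1; omega, mul_assoc,
        Nat.add_mul_div_left _ _ (by positivity), mul_assoc, Nat.add_mul_mod_self_left]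
      exact h t ht'
    · rw [Nat.add_mul_div_left _ _ hpos, Nat.div_eq_of_lt hj, zero_add]
      split <;> rfl

theorem countP_classes (P : ℕ → Bool) (f : ℕ → ℕ) {r0 r1 r2 r3 r4 : ℕ}
    (hnd : [r0, r1, r2, r3, r4].Nodup) (L : List ℕ) (h : ∀ x ∈ L, f x ∈ [r0, r1, r2, r3, r4]) :
    L.countP (fun x => P (f x)) =
      (if P r0 then L.countP (fun x => Nat.beq (f x) r0) else 0) + (if P r1 then L.countP (fun x => Nat.beq (f x) r1) else 0) +
      (if P r2 then L.countP (fun x => Nat.beq (f x) r2) else 0) + (if P r3 then L.countP (fun x => Nat.beq (f x) r3) else 0) +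
      (if P r4 then L.countP (fun x => Nat.beq (f x) r4) else 0) := by
  induction L with
  | nil => simp
  | cons x L ih =>
    simp only [List.countP_cons]
    rw [ih fun y hy => h y (List.mem_cons_of_mem _ hy)]
    simp only [List.nodup_cons, List.mem_cons, List.not_mem_nil, or_false, not_or] at hnd
    obtain ⟨⟨a1, a2, a3, a4⟩, ⟨b2, b3, b4⟩, ⟨c3, c4⟩, d4, -⟩ := hnd
    have hx := h x (List.mem_cons_self ..)
    simp only [List.mem_cons, List.not_mem_nil, or_false] at hx
    rcases hx with e | e | e | e | e <;> rw [e] <;>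
      simp [Nat.beq_eq, a1, a2, a3, a4, b2, b3, b4, c3, c4, d4, Ne.symm a1, Ne.symm a2, Ne.symm a3, Ne.symm a4,
        Ne.symm b2, Ne.symm b3, Ne.symm b4, Ne.symm c3, Ne.symm c4, Ne.symm d4] <;>
      cases P r0 <;> cases P r1 <;> cases P r2 <;> cases P r3 <;> cases P r4 <;> simp <;> omega

section

variable {G : Type*} [Group G] [Finite G] {z : G} {Q : Subgroup (Subgroup.centralizer ({z} : Set G))}
  [hQn : Q.Normal] {m : Model z Q}

/-- Not conjugate to the centre and not one. -/
def NC (g : Subgroup.centralizer ({z} : Set G)) : Prop := (g : G) ≠ 1 ∧ ¬ IsConj z (g : G)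

theorem isConj_conj {c g : G} : IsConj z (c * g * c⁻¹) ↔ IsConj z g :=
  ⟨fun h => h.trans (_root_.isConj_iff.2 ⟨c⁻¹, by group⟩), fun h => h.trans (_root_.isConj_iff.2 ⟨c, rfl⟩)⟩

theorem nc_conj {c g : Subgroup.centralizer ({z} : Set G)} : NC (c * g * c⁻¹) ↔ NC g := by
  simp only [NC, Subgroup.coe_mul, Subgroup.coe_inv, ne_eq, isConj_conj, conj_eq_one_iff]

theorem not_isConj_one (m : Model z Q) : ¬ IsConj z (1 : G) := fun h => m.ext.ne (by
  obtain ⟨c, hc⟩ := _root_.isConj_iff.1 h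
  exact conj_eq_one_iff.1 hc)

theorem lab_two_conj (hF : IsOfLargeFischerTypeAt z Q) {x : Q} (hx : m.lab x = 2) : IsConj z (gv x) := by
  obtain ⟨⟨-, -, -, -, g, ⟨hq, hmem⟩, hne⟩, -⟩ := hF
  have h2 := lab_of_conj m (g := g) (s := ⟨⟨_, hq⟩, hmem⟩) rfl hne
  obtain ⟨c, hc⟩ := m.conj_of_lab (x := ⟨⟨_, hq⟩, hmem⟩) (Or.inr hx) (h2.trans hx.symm)
  refine _root_.isConj_iff.2 ⟨(c : G) * g, ?_⟩
  rw [show gv x = (c : G) * (g * z * g⁻¹) * (c : G)⁻¹ from (congrArg Subtype.val hc).symm]
  group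

theorem conj_lab_two {x : Q} (h : IsConj z (gv x)) (hne : gv x ≠ z) : m.lab x = 2 := by
  obtain ⟨g, hg⟩ := _root_.isConj_iff.1 h
  exact lab_of_conj m hg.symm (hg ▸ hne)

/-- A frame exists. -/
theorem exists_frame (m : Model z Q) : Nonempty (Frame m) := by
  obtain ⟨x, hx, hxa, hx3⟩ := exists_x m
  have hel := el_ok m.k m.hk
  simp only [chkEl, Bool.and_eq_true, List.all_eq_true, Nat.beq_eq, Nat.blt_eq] at hel
  have hex : ∀ i : ℕ, ∃ a : Subgroup.centralizer ({z} : Set G), a ∈ K0 m ∧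
      (x : Subgroup.centralizer ({z} : Set G)) * a * (x : Subgroup.centralizer ({z} : Set G))⁻¹ = a ∧
      (i < 4 → ∀ h : a ∈ m.M,
        LargeFischerSylow.Has (m.lin ⟨a, h⟩) (LargeFischerSylow.ivL m.k ((eB m.k).getD i 0))) := by
    intro i
    rcases Nat.lt_or_ge i 4 with hi | hi
    swap
    · exact ⟨1, one_mem _, by group, fun h => absurd h (by omega)⟩
    have hmem : (eB m.k).getD i 0 ∈ eB m.k := by
      rw [List.getD_eq_getElem _ _ (hel.1.1.1.1.1.symm ▸ hi)]; exact List.getElem_mem _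
    obtain ⟨hj, hjE⟩ := hel.1.1.1.1.2 _ hmem
    obtain ⟨e, he, -, he2⟩ := (LargeFischerSylow.invol_facts m.hk).1 _ hj
    have heE : e ∈ LargeFischerSylow.E m.hk := Or.inr ⟨_, hjE, he⟩
    obtain ⟨n, hn, hne⟩ := exists_lift m heE
    set X : Subgroup.centralizer ({z} : Set G) := (x : Subgroup.centralizer ({z} : Set G)) with hX
    set N : Subgroup.centralizer ({z} : Set G) := (n : Subgroup.centralizer ({z} : Set G)) with hN
    have hKx : ∀ {g}, g ∈ K0 m → X * g * X⁻¹ ∈ K0 m := fun h =>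
      K0_norm m (fun e he => by rw [hx, omS_comm, mul_inv_cancel_right]; exact he) h
    refine ⟨N * (X * N * X⁻¹) * (X * (X * N * X⁻¹) * X⁻¹),
      mul_mem (mul_mem hn (hKx hn)) (hKx (hKx hn)), ?_, fun _ h => ?_⟩
    · have hc := LargeFischerJ.K0_comm m (mul_mem (hKx hn) (hKx (hKx hn))) hn
      calc X * (N * (X * N * X⁻¹) * (X * (X * N * X⁻¹) * X⁻¹)) * X⁻¹
          = (X * N * X⁻¹) * (X * (X * N * X⁻¹) * X⁻¹) * (X ^ 3 * N * (X ^ 3)⁻¹) := by
            simp only [pow_succ, pow_zero, one_mul]; group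
        _ = (X * N * X⁻¹) * (X * (X * N * X⁻¹) * X⁻¹) * N := by rw [hx3, one_mul, inv_one, mul_one]
        _ = N * ((X * N * X⁻¹) * (X * (X * N * X⁻¹) * X⁻¹)) := hc
        _ = _ := (mul_assoc _ _ _).symm
    · have hlin : m.lin ⟨_, h⟩ = e := by
        rw [show (⟨_, h⟩ : m.M) = n * (x * n * x⁻¹) * (x * (x * n * x⁻¹) * x⁻¹) from Subtype.ext (by
          simp only [Subgroup.coe_mul, Subgroup.coe_inv]; rfl)]
        simp only [map_mul, map_inv, hx, hne]
        rw [omS_comm e, mul_inv_cancel_right, omS_comm e, mul_inv_cancel_right, LargeFischerSylow.E_sq m.hk e heE,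
          one_mul]
      rw [hlin]
      exact he.2.2.2
  choose a h1 h2 h3 using hex
  exact ⟨{ x := x, lin_x := hx, act_x := hxa, cube := hx3, a := a, a_mem := h1, a_fix := h2, a_lin := fun i hi => h3 i hi }⟩

variable (m)

theorem ncard_setOf_fin {X : Type*} (S : Set X) (n : ℕ) (f : ℕ → X) (P : ℕ → Bool)
    (hinj : ∀ a < n, ∀ b < n, f a = f b → a = b) (hP : ∀ a < n, f a ∈ S ↔ P a = true)
    (hsurj : ∀ x ∈ S, ∃ a < n, f a = x) : S.ncard = (List.range n).countP P := by
  classical
  have hS : S = f '' {a | a < n ∧ P a = true} := by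
    refine Set.ext fun x => ⟨fun hx => ?_, ?_⟩
    · obtain ⟨a, ha, rfl⟩ := hsurj x hx
      exact ⟨a, ⟨ha, (hP a ha).1 hx⟩, rfl⟩
    · rintro ⟨a, ⟨ha, hPa⟩, rfl⟩
      exact (hP a ha).2 hPa
  rw [hS, Set.InjOn.ncard_image (fun a ha b hb e => hinj a ha.1 b hb.1 e),
    show {a | a < n ∧ P a = true} = (((List.range n).filter P).toFinset : Set ℕ) from Set.ext fun a => by simp,
    Set.ncard_coe_finset, List.toFinset_card_of_nodup (List.nodup_range.filter _), List.countP_eq_length_filter]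

variable {m} (F : Frame m)

/-- The bit of the second class. -/
noncomputable def ncb (c : ℕ) : Bool := @decide (NC (F.phi c)) (Classical.propDecidable _)

theorem ncb_iff (c : ℕ) : ncb F c = true ↔ NC (F.phi c) :=
  @decide_eq_true_iff _ (Classical.propDecidable _)

/-- The elements over a member of the sixteen. -/
def Over (g : Subgroup.centralizer ({z} : Set G)) (e : SUV) : Prop := ∃ h : g ∈ m.M, m.lin ⟨g, h⟩ = e

theorem over_phi {c : ℕ} : Over (m := m) (F.phi c) (F.eE (c / 128)) := by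
  obtain ⟨p, hp, -, -, -⟩ := F.pu_spec (c % 64)
  have hq : F.pu (c % 64) * LargeFischerCoords.zp (c.testBit 6) ∈ Q := mul_mem (hp ▸ p.2) (zp_mem_Q m _)
  refine ⟨((mem_K0 m).1 (F.phi_mem c)).1, ?_⟩
  rw [show (⟨F.phi c, ((mem_K0 m).1 (F.phi_mem c)).1⟩ : m.M) =
    ⟨_, m.M_le hq⟩ * ⟨F.pa (c / 128), ((mem_K0 m).1 (F.pa_mem _)).1⟩ from Subtype.ext rfl, map_mul,
    (m.lin_eq_one _).2 hq, one_mul]
  rfl

theorem over_unique {g : Subgroup.centralizer ({z} : Set G)} {e e' : SUV} (h : Over (m := m) g e)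
    (h' : Over (m := m) g e') : e = e' := by
  obtain ⟨_, rfl⟩ := h
  obtain ⟨_, rfl⟩ := h'
  rfl

theorem eE_inj {e e' : ℕ} (he : e < 16) (he' : e' < 16) (h : F.eE e = F.eE e') : e = e' := by
  have hmul : F.eE (e ^^^ e') = F.eE e * F.eE e' := by
    rw [Frame.eE, Frame.eE, Frame.eE, ← map_mul]
    congr 1
    exact Subtype.ext (bprod_xor (fun u hu v hv => LargeFischerJ.K0_comm m hu hv) (K0_sq m) F.a_mem _ _ _)
  have hel := el_ok m.k m.hk
  simp only [chkEl, Bool.and_eq_true, List.all_eq_true, List.mem_range, beq_iff_eq, Bool.or_eq_true, Nat.beq_eq,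
    Bool.not_eq_true'] at hel
  obtain ⟨⟨⟨⟨-, he16⟩, -⟩, -⟩, -⟩ := hel
  have hlt : e ^^^ e' < 16 := Nat.xor_lt_two_pow (n := 4) he he'
  refine Nat.xor_eq_zero_iff.1 ((he16 _ hlt).2.resolve_right fun hne => ?_)
  have h1 : F.eE (e ^^^ e') = 1 := by
    rw [hmul, h]
    exact LargeFischerSylow.E_sq m.hk _ (lin_K0 m (F.pa_mem e'))
  have := LargeFischerSylow.has_unique (F.eE_has hlt) (h1.symm ▸ LargeFischerSylow.has_one)
  rw [← (he16 _ hlt).1] at hne
  simp [this] at hne

theorem eE_zero : F.eE 0 = 1 := by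
  rw [Frame.eE, show (⟨F.pa 0, ((mem_K0 m).1 (F.pa_mem 0)).1⟩ : m.M) = 1 from Subtype.ext F.pa_zero, map_one]

theorem eE_surj {e : SUV} (he : e ∈ LargeFischerSylow.E m.hk) : ∃ i < 16, F.eE i = e := by
  obtain ⟨n, hn, rfl⟩ := exists_lift m he
  obtain ⟨c, hc, e⟩ := F.phi_surj hn
  exact ⟨c / 128, by omega, over_unique (over_phi F) (e.symm ▸ ⟨n.2, rfl⟩)⟩

/-- The part of the second class over a member. -/
def NCset (e : SUV) : Set (Subgroup.centralizer ({z} : Set G)) := {g | g ∈ K0 m ∧ Over (m := m) g e ∧ NC g}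

theorem ncard_NCset {e : ℕ} (he : e < 16) :
    (NCset (m := m) (F.eE e)).ncard = (List.range 128).countP (fun n => ncb F (128 * e + n)) := by
  refine ncard_setOf_fin _ 128 (fun n => F.phi (128 * e + n)) _
    (fun a ha b hb h => by have := F.phi_inj (by omega) (by omega) h; omega)
    (fun a ha => ?_) (fun g hg => ?_)
  · rw [ncb_iff]
    refine ⟨fun h => h.2.2, fun h => ⟨F.phi_mem _, ?_, h⟩⟩
    have := over_phi F (c := 128 * e + a)
    rwa [show (128 * e + a) / 128 = e by omega] at this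
  · obtain ⟨c, hc, rfl⟩ := F.phi_surj hg.1
    have h := eE_inj F (show c / 128 < 16 by omega) he (over_unique (over_phi F) hg.2.1)
    exact ⟨c % 128, Nat.mod_lt _ (by norm_num), by rw [← h, Nat.div_add_mod]⟩

theorem ncard_transport {e₁ e₂ : ℕ} (h1 : e₁ < 16) (h10 : e₁ ≠ 0) (h2 : e₂ < 16) (h20 : e₂ ≠ 0) :
    (NCset (m := m) (F.eE e₁)).ncard ≤ (NCset (m := m) (F.eE e₂)).ncard := by
  have hne : ∀ {e}, e < 16 → e ≠ 0 → F.eE e ≠ 1 := fun {e} he h0 h =>
    h0 (eE_inj F he (by norm_num) (h.trans (eE_zero F).symm))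
  obtain ⟨c, hc, hce, hcn⟩ := LargeFischerSylow.norm_trans m.hk (lin_K0 m (F.pa_mem e₁)) (hne h1 h10)
    (lin_K0 m (F.pa_mem e₂)) (hne h2 h20)
  obtain ⟨n, rfl⟩ := m.exists_lin hc
  refine Set.ncard_le_ncard_of_injOn
    (fun g => (n : Subgroup.centralizer ({z} : Set G)) * g * (n : Subgroup.centralizer ({z} : Set G))⁻¹) ?_ ?_
    (Set.toFinite _)
  · rintro g ⟨hK, ⟨hM, hl⟩, hn⟩
    refine ⟨K0_norm m hcn hK, ⟨(n * ⟨g, hM⟩ * n⁻¹).2, ?_⟩, nc_conj.2 hn⟩
    show m.lin (n * ⟨g, hM⟩ * n⁻¹) = _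
    rw [map_mul, map_mul, map_inv, hl]
    exact hce
  · intro a _ b _ e
    exact mul_left_cancel (mul_right_cancel e)

/-- The extraspecial group keeps the classes. -/
theorem ncb_cls {e n : ℕ} (he : e < 16) (he0 : e ≠ 0) (hn : n < 128) :
    ncb F (128 * e + n) = ncb F (128 * e + cls m.k e n) ∧ cls m.k e n < 128 := by
  have hc := coset_ok m.k m.hk e he
  simp only [chkCoset, Bool.or_eq_true, Nat.beq_eq, Bool.and_eq_true, List.all_eq_true, List.mem_range,
    Nat.blt_eq] at hc
  obtain ⟨⟨⟨⟨⟨⟨-, -⟩, -⟩, hw⟩, -⟩, -⟩, -⟩ := hc.resolve_left he0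
  obtain ⟨q, hq⟩ := m.rep_surj (vecOf (wq m.k e n))
  have hwlt : wq m.k e n < 4096 := by
    have : rd 18 ((cw m.k).getD e 0) n < 2 ^ 18 := Nat.mod_lt _ (by norm_num)
    rw [wq]; omega
  have henc : enc6 (m.rep q) = wq m.k e n := by rw [hq, enc6_vecOf hwlt]
  have hdiv : (128 * e + n) / 128 = e := by omega
  have hmod : (128 * e + n) % 64 = n % 64 := by omega
  have h := F.phi_conj q (c := 128 * e + n) (i := wi m.k e n) (by omega) (Nat.mod_lt _ (by norm_num))
    (by rw [hdiv, henc]; exact (hw n hn).1)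
  rw [henc, hmod] at h
  have hlt : cls m.k e n < 128 := by
    refine Nat.xor_lt_two_pow (n := 7) (Nat.xor_lt_two_pow (n := 7) hn ?_) ?_
    · exact (Nat.mod_lt _ (by norm_num)).trans (by norm_num)
    · have := Nat.mod_lt (cbit (wq m.k e n) (uC m.k (n % 64)) + tbit (wq m.k e n) (uC m.k (wi m.k e n)))
        (show 2 > 0 by norm_num)
      omega
  have hx : (128 * e + n) ^^^ wi m.k e n ^^^ 64 * ((cbit (wq m.k e n) (uC m.k (n % 64)) +
      tbit (wq m.k e n) (uC m.k (wi m.k e n))) % 2) = 128 * e + cls m.k e n := by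
    rw [xor_add e he n hn, xor_add e he _ hlt, cls, Nat.xor_assoc, Nat.xor_assoc, Nat.xor_assoc]
  rw [hx] at h
  refine ⟨Bool.eq_iff_iff.2 ?_, hlt⟩
  rw [ncb_iff, ncb_iff, ← h, nc_conj]

theorem phi_part {c : ℕ} (hc : c < 128) :
    ∃ x : Q, (x : Subgroup.centralizer ({z} : Set G)) = F.phi c ∧ x ∈ qu m ∧ m.rep x = vecOf (uC m.k (c % 64)) := by
  obtain ⟨q, hq, hqu, hr, -⟩ := F.pu_spec (c % 64)
  refine ⟨q * ⟨LargeFischerCoords.zp (c.testBit 6), zp_mem_Q m _⟩, ?_, ?_, ?_⟩
  · rw [Frame.phi, Nat.div_eq_of_lt hc, F.pa_zero, mul_one, Subgroup.coe_mul, hq]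
  · refine mul_mem hqu (K0_inf m (zp_mem m _))
  · rw [m.rep_mul, hr, (m.rep_zero ⟨LargeFischerCoords.zp (c.testBit 6), zp_mem_Q m _⟩).2 (by cases c.testBit 6 <;> simp [LargeFischerCoords.zp, zH]),
      add_zero]

theorem ncb_zero : ncb F 0 = false ∧ ncb F 64 = false := by
  constructor <;> rw [Bool.eq_false_iff, ne_eq, ncb_iff]
  · rintro ⟨h, -⟩
    rw [F.phi_small (by norm_num), F.pu_zero] at h
    exact h rfl
  · rintro ⟨-, h⟩
    have e : F.phi 64 = zH := by simpa [LargeFischerCoords.zp] using F.phi_bit (b := 1) (by norm_num)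
    rw [e] at h
    exact h (_root_.isConj_iff.2 ⟨1, by simp [zH]⟩)

/-- Inside the extraspecial group the label decides. -/
theorem ncb_inner (hF : IsOfLargeFischerTypeAt z Q) {c : ℕ} (hc : c < 128) :
    ncb F c = (!Nat.beq (c % 64) 0 && Nat.beq ((dat m.k).labC (uC m.k (c % 64))) 1) := by
  obtain ⟨x, hx, -, hr⟩ := phi_part F hc
  have hl := lab_ok m.k m.hk
  simp only [chkLab, Bool.and_eq_true, List.all_eq_true, List.mem_range, Bool.or_eq_true, Nat.beq_eq] at hl
  by_cases h0 : c % 64 = 0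
  · rw [h0, show (Nat.beq 0 0) = true from rfl, Bool.not_true, Bool.false_and]
    rcases (show c = 0 ∨ c = 64 by omega) with rfl | rfl
    exacts [(ncb_zero F).1, (ncb_zero F).2]
  have hlab : m.lab x = (dat m.k).labC (uC m.k (c % 64)) := by
    rw [Model.lab, labV, hr, enc6_vecOf (F.uC_lt _)]
  have hpos := hl.2 (c % 64) (Nat.mod_lt _ (by norm_num))
  rw [show Nat.beq (c % 64) 0 = false from Bool.eq_false_iff.2 fun h => h0 (Nat.eq_of_beq_eq_true h), Bool.not_false,
    Bool.true_and, Bool.eq_iff_iff, ncb_iff, Nat.beq_eq, ← hlab, NC, ← hx]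
  rw [← hlab] at hpos
  obtain ⟨-, h1, hz⟩ := m.of_lab (x := x) (by omega)
  constructor
  · rintro ⟨-, hn⟩
    exact (show m.lab x = 1 ∨ m.lab x = 2 by omega).resolve_right fun h2 => hn (lab_two_conj hF h2)
  · intro h
    exact ⟨h1, fun hn => by have := conj_lab_two (m := m) hn hz; omega⟩

/-- The sets of the two classes in the whole group. -/
def ZS (m : Model z Q) : Set G := {a | a ∈ AK m ∧ IsConj z a}

/-- The second. -/
def XS (m : Model z Q) : Set G := {a | a ∈ AK m ∧ a ≠ 1 ∧ ¬ IsConj z a}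

theorem z_mem_ZS (m : Model z Q) : z ∈ ZS m := ⟨LargeFischerLocal.z_mem_AK m, _root_.isConj_iff.2 ⟨1, by simp⟩⟩

theorem norm_ZS {n : G} (hn : n ∈ Subgroup.normalizer (AK m : Set G)) {a : G} (ha : a ∈ ZS m) :
    n * a * n⁻¹ ∈ ZS m := ⟨(Subgroup.mem_normalizer_iff.1 hn a).1 ha.1, isConj_conj.2 ha.2⟩

theorem norm_XS {n : G} (hn : n ∈ Subgroup.normalizer (AK m : Set G)) {a : G} (ha : a ∈ XS m) :
    n * a * n⁻¹ ∈ XS m :=
  ⟨(Subgroup.mem_normalizer_iff.1 hn a).1 ha.1, fun e => ha.2.1 (conj_eq_one_iff.1 e), fun h => ha.2.2 (isConj_conj.1 h)⟩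

/-- The normaliser is transitive on the conjugates of the centre. -/
theorem card_normalizer (m : Model z Q) (hF : IsOfLargeFischerTypeAt z Q) :
    Nat.card ↥(Subgroup.normalizer (AK m : Set G)) = (ZS m).ncard *
      Nat.card ↥(Subgroup.normalizer (AK m : Set G) ⊓ Subgroup.centralizer ({z} : Set G)) := by
  set N := Subgroup.normalizer (AK m : Set G) with hN
  set C := Subgroup.centralizer ({z} : Set G) with hC
  have hzC : ∀ c : G, c ∈ C ↔ c * z = z * c := fun c => Subgroup.mem_centralizer_singleton_iff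
  have hex : ∀ a : ZS m, ∃ n ∈ N, n * z * n⁻¹ = a.1 := fun a => by
    obtain ⟨g, hg⟩ := _root_.isConj_iff.1 a.2.2
    obtain ⟨n, hn, e⟩ := LargeFischerLocal.fusion m hF (LargeFischerLocal.z_mem_AK m) (g := g) (hg.symm ▸ a.2.1)
    exact ⟨n, hn, e.trans hg⟩
  choose r hr hr' using hex
  rw [← Nat.card_coe_set_eq, ← Nat.card_prod]
  refine (Nat.card_congr (Equiv.ofBijective
    (fun p : ZS m × ↥(N ⊓ C) => (⟨r p.1 * p.2.1, mul_mem (hr p.1) p.2.2.1⟩ : N)) ⟨?_, ?_⟩)).symm
  · rintro ⟨a, c⟩ ⟨a', c'⟩ e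
    have e' : r a * c.1 = r a' * c'.1 := congrArg Subtype.val e
    have key : ∀ (a : ZS m) (c : ↥(N ⊓ C)), r a * c.1 * z * (r a * c.1)⁻¹ = a.1 := fun a c => by
      calc r a * c.1 * z * (r a * c.1)⁻¹ = r a * (c.1 * z * c.1⁻¹) * (r a)⁻¹ := by group
        _ = r a * z * (r a)⁻¹ := by rw [(hzC _).1 c.2.2, mul_inv_cancel_right]
        _ = _ := hr' a
    obtain rfl : a = a' := Subtype.ext (by rw [← key a c, ← key a' c', e'])
    exact Prod.ext rfl (Subtype.ext (mul_left_cancel e'))
  · rintro ⟨n, hn⟩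
    set a : ZS m := ⟨n * z * n⁻¹, norm_ZS hn (z_mem_ZS m)⟩ with ha
    refine ⟨(a, ⟨(r a)⁻¹ * n, Subgroup.mem_inf.2 ⟨mul_mem (inv_mem (hr a)) hn, (hzC _).2 ?_⟩⟩),
      Subtype.ext (mul_inv_cancel_left _ _)⟩
    calc (r a)⁻¹ * n * z = (r a)⁻¹ * (n * z * n⁻¹) * n := by group
      _ = (r a)⁻¹ * (r a * z * (r a)⁻¹) * n := by rw [hr' a]
      _ = _ := by group

theorem countP_range_mul (P : ℕ → Bool) (a n : ℕ) :
    (List.range (a * n)).countP P = ∑ e ∈ Finset.range a, (List.range n).countP (fun i => P (n * e + i)) := by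
  induction a with
  | zero => simp
  | succ a ih =>
    rw [Nat.succ_mul, List.range_add, List.countP_append, ih, Finset.sum_range_succ, List.countP_map, mul_comm a n]
    rfl

/-- In each coset of the second kind the class is one short orbit. -/
theorem coset_sixteen (hF : IsOfLargeFischerTypeAt z Q) :
    (ZS m).ncard = 1771 ∧ ∀ e < 16, e ≠ 0 → ∃ f < 2, ∀ n < 128,
      (ncb F (128 * e + n) = true ↔ cls m.k e n = 64 * f) := by
  classical
  set cnt := fun e => (List.range 128).countP (fun n => ncb F (128 * e + n)) with hcnt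
  have hconst : ∀ e < 16, e ≠ 0 → cnt e = cnt 1 := fun e he he0 => by
    simp only [hcnt]
    rw [← ncard_NCset F he, ← ncard_NCset F (show 1 < 16 by norm_num)]
    exact le_antisymm (ncard_transport F he he0 (by norm_num) one_ne_zero)
      (ncard_transport F (by norm_num) one_ne_zero he he0)
  -- the count over the classes
  have hcls : ∀ e < 16, e ≠ 0 → ∃ r2 r3 r4 : ℕ, [0, 64, r2, r3, r4].Nodup ∧
      (∀ n < 128, cls m.k e n ∈ [0, 64, r2, r3, r4]) ∧
      cnt e = 16 * ((if ncb F (128 * e) then 1 else 0) + (if ncb F (128 * e + 64) then 1 else 0)) +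
        32 * ((if ncb F (128 * e + r2) then 1 else 0) + (if ncb F (128 * e + r3) then 1 else 0) +
          (if ncb F (128 * e + r4) then 1 else 0)) := fun e he he0 => by
    have hc := coset_ok m.k m.hk e he
    simp only [chkCoset, Bool.or_eq_true, Nat.beq_eq, Bool.and_eq_true, List.all_eq_true, List.mem_range,
      decide_eq_true_eq] at hc
    obtain ⟨⟨⟨⟨⟨⟨h3, -⟩, hnd⟩, hw⟩, c0⟩, c1⟩, c2⟩ := hc.resolve_left he0
    obtain ⟨r2, r3, r4, hl⟩ : ∃ r2 r3 r4, (rz m.k).getD e [] = [r2, r3, r4] :=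
      match (rz m.k).getD e [], h3 with
      | [a, b, c], _ => ⟨a, b, c, rfl⟩
    rw [hl] at hnd hw c2
    refine ⟨r2, r3, r4, hnd, fun n hn => List.contains_iff_mem.1 (hw n hn).2, ?_⟩
    have heq : cnt e = (List.range 128).countP (fun n => ncb F (128 * e + cls m.k e n)) :=
      List.countP_congr fun n hn => by rw [(ncb_cls F he he0 (List.mem_range.1 hn)).1]
    rw [heq, countP_classes (fun v => ncb F (128 * e + v)) (cls m.k e) hnd _
      (fun n hn => List.contains_iff_mem.1 (hw n (List.mem_range.1 hn)).2), c0, c1, c2 r2 (by simp),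
      c2 r3 (by simp), c2 r4 (by simp), add_zero]
    cases ncb F (128 * e) <;> cases ncb F (128 * e + 64) <;> cases ncb F (128 * e + r2) <;>
      cases ncb F (128 * e + r3) <;> cases ncb F (128 * e + r4) <;> rfl
  -- the inner part
  have h0 : cnt 0 = 36 := by
    have hl := lab_ok m.k m.hk
    simp only [chkLab, Bool.and_eq_true, Nat.beq_eq] at hl
    have hsplit : ∀ (L : List ℕ) (A B : ℕ → Bool),
        L.countP (fun c => A c || B c) = L.countP A + L.countP (fun c => !A c && B c) := by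
      intro L A B
      induction L with
      | nil => rfl
      | cons x L ih =>
        simp only [List.countP_cons, ih]
        cases A x <;> cases B x <;> simp <;> omega
    have h1 := hl.1
    rw [hsplit, show (List.range 128).countP (fun c => Nat.beq (c % 64) 0) = 2 by decide +kernel] at h1
    show (List.range 128).countP _ = 36
    rw [List.countP_congr fun n hn => by
      rw [show 128 * 0 + n = n by omega, ncb_inner F hF (List.mem_range.1 hn)]]
    omega
  -- total
  have hZ : (ZS m).ncard + (List.range 2048).countP (ncb F) = 2047 := by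
    have hX : (XS m).ncard = (List.range 2048).countP (ncb F) := by
      refine ncard_setOf_fin _ 2048 (fun c => (F.phi c : G)) _
        (fun a ha b hb h => F.phi_inj ha hb (Subtype.ext h)) (fun a _ => ?_) (fun g hg => ?_)
      · rw [ncb_iff]
        exact ⟨fun h => ⟨h.2.1, h.2.2⟩, fun h => ⟨⟨_, F.phi_mem a, rfl⟩, h.1, h.2⟩⟩
      · obtain ⟨y, hy, rfl⟩ := hg.1
        obtain ⟨c, hc, rfl⟩ := F.phi_surj hy
        exact ⟨c, hc, rfl⟩
    rw [← hX, ← Set.ncard_union_eq (Set.disjoint_left.2 fun a h h' => h'.2.2 h.2)]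
    have he : ZS m ∪ XS m = (AK m : Set G) \ {1} := by
      refine Set.ext fun a => ⟨?_, fun h => ?_⟩
      · rintro (⟨h, h'⟩ | ⟨h, h', -⟩)
        · exact ⟨h, fun e => not_isConj_one m (Set.mem_singleton_iff.1 e ▸ h')⟩
        · exact ⟨h, h'⟩
      · by_cases hc : IsConj z a
        exacts [Or.inl ⟨h.1, hc⟩, Or.inr ⟨h.1, h.2, hc⟩]
    rw [he, Set.ncard_sdiff_singleton_of_mem (one_mem (AK m)), ← Nat.card_coe_set_eq, SetLike.coe_sort_coe,
      LargeFischerLocal.card_AK]
    norm_num
  have hsum : (List.range 2048).countP (ncb F) = 36 + 15 * cnt 1 := by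
    rw [show (2048 : ℕ) = 16 * 128 from rfl, countP_range_mul, Finset.sum_range_succ']
    show ∑ k ∈ Finset.range 15, cnt (k + 1) + cnt 0 = _
    rw [Finset.sum_congr rfl fun k hk => hconst (k + 1) (by have := Finset.mem_range.1 hk; omega) (by omega), h0,
      Finset.sum_const, Finset.card_range, smul_eq_mul, add_comm]
  obtain ⟨r2, r3, r4, -, -, hj⟩ := hcls 1 (by norm_num) one_ne_zero
  -- arithmetic
  have hbad : ∀ p : ℕ, p.Prime → 2 < p → (∀ d ≤ 10, ¬ 2 ^ 11 ≡ 2 ^ d [MOD p]) → ¬ p ∣ (ZS m).ncard := by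
    intro p hp hp2 hd hdvd
    haveI : Fact p.Prime := ⟨hp⟩
    obtain ⟨g, hg⟩ := exists_prime_orderOf_dvd_card' (G := ↥(Subgroup.normalizer (AK m : Set G))) p
      (card_normalizer m hF ▸ hdvd.mul_right _)
    have hgp : (g : G) ^ p = 1 := by
      rw [← Subgroup.coe_pow, ← hg, pow_orderOf_eq_one, Subgroup.coe_one]
    obtain ⟨d, hd1, hd2⟩ := LargeFischerLocal.prime_cong m hF hp g.2 (hgp ▸ one_mem _) fun hA => by
      have h2 : g * g = 1 := Subtype.ext ((LargeFischerLocal.AK_big m).2.1 _ hA)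
      have := orderOf_dvd_of_pow_eq_one (x := g) (n := 2) (by rw [pow_two, h2])
      rw [hg] at this
      exact absurd (Nat.le_of_dvd two_pos this) (by omega)
    exact hd d hd1 hd2
  have b13 := hbad 13 (by norm_num) (by norm_num) (by decide)
  have b331 := hbad 331 (by norm_num) (by norm_num) (by decide)
  have b571 := hbad 571 (by norm_num) (by norm_num) (by decide)
  have b811 := hbad 811 (by norm_num) (by norm_num) (by decide)
  have b1051 := hbad 1051 (by norm_num) (by norm_num) (by decide)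
  have b1291 := hbad 1291 (by norm_num) (by norm_num) (by decide)
  have b1531 := hbad 1531 (by norm_num) (by norm_num) (by decide)
  have b2011 := hbad 2011 (by norm_num) (by norm_num) (by decide)
  have hj16 : cnt 1 = 16 := by
    obtain ⟨t, ht⟩ : ∃ t, cnt 1 = 16 * t := ⟨cnt 1 / 16, by omega⟩
    have hle : cnt 1 ≤ 128 := le_of_le_of_eq List.countP_le_length List.length_range
    have ht8 : t ≤ 8 := by omega
    have hz' : (ZS m).ncard = 2011 - 240 * t := by omega
    rw [hz'] at b13 b331 b571 b811 b1051 b1291 b1531 b2011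
    interval_cases t
    all_goals omega
  refine ⟨by omega, fun e he he0 => ?_⟩
  obtain ⟨s2, s3, s4, hnd, hmem, hce⟩ := hcls e he he0
  rw [hconst e he he0, hj16] at hce
  have q2 : ncb F (128 * e + s2) = false := by
    cases h : ncb F (128 * e + s2)
    · rfl
    · rw [h, if_pos rfl] at hce; omega
  have q3 : ncb F (128 * e + s3) = false := by
    cases h : ncb F (128 * e + s3)
    · rfl
    · rw [h, if_pos rfl] at hce; omega
  have q4 : ncb F (128 * e + s4) = false := by
    cases h : ncb F (128 * e + s4)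
    · rfl
    · rw [h, if_pos rfl] at hce; omega
  simp only [q2, q3, q4, Bool.false_eq_true, if_false, add_zero, mul_zero] at hce
  refine ⟨if ncb F (128 * e + 64) then 1 else 0, by split <;> norm_num, fun n hn => ?_⟩
  rw [(ncb_cls F he he0 hn).1]
  simp only [List.nodup_cons, List.mem_cons, List.not_mem_nil, or_false, not_or] at hnd
  obtain ⟨⟨n1, n2, n3, n4⟩, ⟨m2, m3, m4⟩, -⟩ := hnd
  have hm := hmem n hn
  simp only [List.mem_cons, List.not_mem_nil, or_false] at hm
  cases hA : ncb F (128 * e) <;> cases hB : ncb F (128 * e + 64) <;>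
    simp only [hA, hB, if_true, Bool.false_eq_true, if_false] at hce ⊢
  all_goals first
    | omega
    | (rcases hm with h | h | h | h | h <;> rw [h] <;>
        simp [hA, hB, q2, q3, q4, n1, n2, n3, n4, m2, m3, m4, Ne.symm n1, Ne.symm n2, Ne.symm n3, Ne.symm n4,
          Ne.symm m2, Ne.symm m3, Ne.symm m4])

/-- The element of a coset moved by nothing has one of two codes. -/
theorem fixed_code {c : ℕ} (h : F.cx (F.phi c) = F.phi c) : c % 64 = 0 := by
  obtain ⟨q, hq, -, hr, -⟩ := F.pu_spec (c % 64)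
  have hfix : F.cx (q : Subgroup.centralizer ({z} : Set G)) = q := by
    rw [Frame.phi, F.cx_mul, F.cx_mul, F.cx_zp, F.pa_fix] at h
    rw [hq]
    exact mul_right_cancel (mul_right_cancel h)
  obtain ⟨b, hb⟩ := F.fixed_Q q hfix
  have hel := el_ok m.k m.hk
  simp only [chkEl, Bool.and_eq_true, List.all_eq_true, List.mem_range, Bool.or_eq_true, Nat.beq_eq,
    Bool.not_eq_true'] at hel
  obtain ⟨⟨⟨-, hu64⟩, -⟩, -⟩ := hel
  refine (hu64 _ (Nat.mod_lt _ (by norm_num))).resolve_right fun hne => ?_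
  rw [(m.rep_zero q).2 (by rw [hb]; cases b <;> simp [LargeFischerCoords.zp, zH]), ← vecOf_zero] at hr
  have := vecOf_inj (by norm_num) (F.uC_lt _) hr
  simp [← this] at hne

theorem phi_fixed (e t : ℕ) (_ht : t < 2) : F.cx (F.phi (128 * e + 64 * t)) = F.phi (128 * e + 64 * t) := by
  rw [Frame.phi, show (128 * e + 64 * t) % 64 = 0 by omega, F.pu_zero, one_mul, F.cx_mul, F.cx_zp, F.pa_fix]

/-- A frame whose four members are in the second class. -/
theorem exists_normal (hF : IsOfLargeFischerTypeAt z Q) :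
    ∃ F : Frame m, ∀ i < 4, ncb F (128 * 2 ^ i) = true := by
  obtain ⟨F₀⟩ := exists_frame m
  obtain ⟨-, hco⟩ := coset_sixteen F₀ hF
  have hex : ∀ i : ℕ, ∃ a : Subgroup.centralizer ({z} : Set G), a ∈ K0 m ∧ F₀.cx a = a ∧
      (i < 4 → NC a ∧ ∀ h : a ∈ m.M,
        LargeFischerSylow.Has (m.lin ⟨a, h⟩) (LargeFischerSylow.ivL m.k ((eB m.k).getD i 0))) := by
    intro i
    rcases Nat.lt_or_ge i 4 with hi | hi
    swap
    · refine ⟨1, one_mem _, ?_, fun h => absurd h (by omega)⟩
      rw [Frame.cx, mul_one, mul_inv_cancel]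
    have h16 : 2 ^ i < 16 := by interval_cases i <;> norm_num
    obtain ⟨f, hf, hn⟩ := hco (2 ^ i) h16 (by positivity)
    have hc := coset_ok m.k m.hk (2 ^ i) h16
    simp only [chkCoset, Bool.or_eq_true, Nat.beq_eq, Bool.and_eq_true, List.all_eq_true, List.mem_range] at hc
    obtain ⟨⟨⟨⟨⟨-, -⟩, c0⟩, c1⟩, -⟩⟩ : _ ∧ True := ⟨hc.resolve_left (by positivity), trivial⟩
    have h16' : (List.range 128).countP (fun n => Nat.beq (cls m.k (2 ^ i) n) (64 * f)) = 16 := by
      interval_cases f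
      exacts [c0, c1]
    obtain ⟨n, hn128, hncls⟩ : ∃ n ∈ List.range 128, Nat.beq (cls m.k (2 ^ i) n) (64 * f) = true :=
      List.countP_pos_iff.1 (by omega)
    rw [Nat.beq_eq] at hncls
    have hX : ncb F₀ (128 * 2 ^ i + 64 * f) = true := by
      rw [← hncls, ← (ncb_cls F₀ h16 (by positivity) (List.mem_range.1 hn128)).1]
      exact (hn n (List.mem_range.1 hn128)).2 hncls
    refine ⟨_, F₀.phi_mem _, phi_fixed F₀ _ _ hf, fun _ => ⟨(ncb_iff F₀ _).1 hX, fun h => ?_⟩⟩
    have hov := over_unique (over_phi F₀ (c := 128 * 2 ^ i + 64 * f)) ⟨h, rfl⟩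
    rw [← hov, show (128 * 2 ^ i + 64 * f) / 128 = 2 ^ i by omega]
    have hhas := F₀.eE_has h16
    have hel := el_ok m.k m.hk
    simp only [chkEl, Bool.and_eq_true, List.all_eq_true, List.mem_range, beq_iff_eq] at hel
    rw [(hel.1.1.1.2 _ h16).1] at hhas
    have hone : eL m.k (2 ^ i) = LargeFischerSylow.mulL (LargeFischerSylow.ivL m.k ((eB m.k).getD i 0)) LargeFischerSylow.oneL := by
      interval_cases i <;> rfl
    have hmem : (eB m.k).getD i 0 < 35 := by
      have h4 := (hel.1.1.1.1.1)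
      rw [Nat.beq_eq] at h4
      have := hel.1.1.1.1.2 _ (show (eB m.k).getD i 0 ∈ eB m.k by
        rw [List.getD_eq_getElem _ _ (h4.symm ▸ hi)]; exact List.getElem_mem _)
      rw [Nat.blt_eq] at this
      exact this.1
    obtain ⟨e, he, -, -⟩ := (LargeFischerSylow.invol_facts m.hk).1 _ hmem
    have h2 : LargeFischerSylow.Has (e * 1) (eL m.k (2 ^ i)) :=
      hone ▸ LargeFischerSylow.has_mul he.2.2.2 LargeFischerSylow.has_one
    rw [LargeFischerSylow.has_ext hhas h2, mul_one]
    exact he.2.2.2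
  choose a h1 h2 h3 using hex
  let F : Frame m :=
    { x := F₀.x, lin_x := F₀.lin_x, act_x := F₀.act_x, cube := F₀.cube, a := a, a_mem := h1, a_fix := h2
      a_lin := fun i hi => (h3 i hi).2 }
  refine ⟨F, fun i hi => (ncb_iff F _).2 ?_⟩
  have : F.phi (128 * 2 ^ i) = a i := by
    rw [Frame.phi, show 128 * 2 ^ i % 64 = 0 by omega, F.pu_zero, show 128 * 2 ^ i / 128 = 2 ^ i by omega,
      Nat.testBit_eq_decide_div_mod_eq, show 128 * 2 ^ i / 2 ^ 6 % 2 = 0 by omega]
    interval_cases i <;> simp [LargeFischerCoords.zp, Frame.pa, bprod, List.range, List.range.loop, F, Nat.testBit_eq_decide_div_mod_eq]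
  rw [this]
  exact (h3 i hi).1

/-- A lift commuting with the element of order three. -/
theorem exists_comm_lift {s : SUV} (hs : s ∈ cover62 m.k) :
    ∃ n : m.M, m.lin n = s ∧ (n : Subgroup.centralizer ({z} : Set G)) * (F.x : Subgroup.centralizer ({z} : Set G)) =
      (F.x : Subgroup.centralizer ({z} : Set G)) * (n : Subgroup.centralizer ({z} : Set G)) := by
  obtain ⟨n, rfl⟩ := m.exists_lin hs
  have hr : ((F.x⁻¹ * (n * F.x * n⁻¹) : m.M) : Subgroup.centralizer ({z} : Set G)) ∈ Q := (m.lin_eq_one _).1 (by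
    rw [map_mul, map_mul, map_mul, map_inv, map_inv, F.lin_x, ← omS_comm (m.lin n), mul_inv_cancel_right,
      inv_mul_cancel])
  set r : Q := ⟨_, hr⟩ with hrdef
  obtain ⟨X, hX⟩ : ∃ X, X = (F.x : Subgroup.centralizer ({z} : Set G)) := ⟨_, rfl⟩
  obtain ⟨N, hN⟩ : ∃ N, N = (n : Subgroup.centralizer ({z} : Set G)) := ⟨_, rfl⟩
  have hX3 : X ^ 3 = 1 := hX ▸ F.cube
  have hrv : (r : Subgroup.centralizer ({z} : Set G)) = X⁻¹ * (N * X * N⁻¹) := by
    rw [hX, hN, hrdef]
    simp only [Subgroup.coe_mul, Subgroup.coe_inv]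
  -- a conjugate by the extraspecial group
  obtain ⟨q, hq⟩ := m.rep_surj ((ω * ω) • m.rep r)
  have hqx : ∃ b, (q : Subgroup.centralizer ({z} : Set G)) * X * (q : Subgroup.centralizer ({z} : Set G))⁻¹ =
      N * X * N⁻¹ * LargeFischerCoords.zp b := by
    let d : Q := qconj X⁻¹ q * q⁻¹
    have hd : m.rep d = m.rep r := by
      rw [m.rep_mul, m.rep_inv, ← m.act_rep, hX]
      have hxx : m.act (F.x : Subgroup.centralizer ({z} : Set G))⁻¹ (m.rep q) = (ω * ω) • m.rep q := by
        refine m.act_inj (F.x : Subgroup.centralizer ({z} : Set G)) ?_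
        rw [← m.act_mul, mul_inv_cancel, m.act_one, F.act_x, smul_smul,
          show ω * (ω * ω) = (1 : K4) by decide +kernel, one_smul]
      rw [hxx, hq, smul_smul]
      funext i
      simp only [Pi.add_apply, Pi.smul_apply, smul_eq_mul]
      generalize m.rep r i = c
      revert c; decide +kernel
    obtain ⟨b, hb⟩ := rep_same m hd
    refine ⟨b, ?_⟩
    have hdv : (d : Subgroup.centralizer ({z} : Set G)) = X⁻¹ * (q : Subgroup.centralizer ({z} : Set G)) * X *
        (q : Subgroup.centralizer ({z} : Set G))⁻¹ := by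
      show X⁻¹ * (q : Subgroup.centralizer ({z} : Set G)) * X⁻¹⁻¹ * _ = _
      rw [inv_inv]; rfl
    calc (q : Subgroup.centralizer ({z} : Set G)) * X * (q : Subgroup.centralizer ({z} : Set G))⁻¹
        = X * (d : Subgroup.centralizer ({z} : Set G)) := by rw [hdv]; group
      _ = X * ((r : Subgroup.centralizer ({z} : Set G)) * LargeFischerCoords.zp b) := by rw [hb]
      _ = _ := by rw [hrv]; group
  obtain ⟨b, hb⟩ := hqx
  have hb0 : b = false := by
    have hconj : ∀ a : Subgroup.centralizer ({z} : Set G), (a * X * a⁻¹) ^ 3 = 1 := fun a => by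
      rw [conj_pow, hX3, mul_one, mul_inv_cancel]
    have h := hconj (q : Subgroup.centralizer ({z} : Set G))
    rw [hb, (show Commute (N * X * N⁻¹) (LargeFischerCoords.zp (z := z) b) from (zp_comm b _).symm).mul_pow, hconj N, one_mul] at h
    cases b
    · rfl
    · exfalso
      refine m.ext.ne (congrArg Subtype.val (show (zH : Subgroup.centralizer ({z} : Set G)) = 1 from ?_))
      rw [LargeFischerCoords.zp, if_pos rfl, pow_succ, pow_two, zH_sq m, one_mul] at h
      exact h
  subst hb0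
  rw [show LargeFischerCoords.zp (z := z) false = 1 from rfl, mul_one] at hb
  refine ⟨⟨q, m.M_le q.2⟩⁻¹ * n, by rw [map_mul, map_inv, (m.lin_eq_one _).2 q.2, inv_one, one_mul], ?_⟩
  rw [Subgroup.coe_mul, Subgroup.coe_inv, ← hX, ← hN]
  generalize (q : Subgroup.centralizer ({z} : Set G)) = q' at hb
  calc q'⁻¹ * N * X = q'⁻¹ * (N * X * N⁻¹) * N := by group
    _ = q'⁻¹ * (q' * X * q'⁻¹) * N := by rw [hb]
    _ = X * (q'⁻¹ * N) := by group

/-- The coordinates of the second class. -/
theorem exists_coords (hF : IsOfLargeFischerTypeAt z Q) :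
    (ZS m).ncard = 1771 ∧ ∃ F : Frame m, ∀ c < 2048,
      (((Xo m.k).getD (good m.k) 0).testBit c = true ↔ NC (F.phi c)) := by
  classical
  obtain ⟨F, hbasis⟩ := exists_normal hF
  obtain ⟨hZ, hco⟩ := coset_sixteen F hF
  refine ⟨hZ, F, ?_⟩
  set φ : ℕ → Bool := fun e => ncb F (128 * e + 64) with hφ
  have hsel : ∀ e < 16, e ≠ 0 → ∀ n < 128,
      (ncb F (128 * e + n) = true ↔ cls m.k e n = 64 * (if φ e then 1 else 0)) := by
    intro e he he0
    obtain ⟨f, hf, hn⟩ := hco e he he0
    have hc := coset_ok m.k m.hk e he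
    simp only [chkCoset, Bool.or_eq_true, Nat.beq_eq, Bool.and_eq_true, List.all_eq_true, List.mem_range] at hc
    obtain ⟨⟨⟨-, c0⟩, c1⟩, -⟩ := hc.resolve_left he0
    obtain ⟨n1, hn1, hn1'⟩ : ∃ n ∈ List.range 128, Nat.beq (cls m.k e n) 64 = true :=
      List.countP_pos_iff.1 (by omega)
    rw [Nat.beq_eq] at hn1'
    have h64 : φ e = true ↔ f = 1 := by
      show ncb F (128 * e + 64) = true ↔ _
      rw [← hn1', ← (ncb_cls F he he0 (List.mem_range.1 hn1)).1, hn n1 (List.mem_range.1 hn1), hn1']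
      omega
    intro n hn'
    rw [hn n hn']
    cases hφe : φ e
    · rw [hφe] at h64
      have : f = 0 := by
        by_contra hne
        exact Bool.false_ne_true (h64.2 (by omega))
      simp [this]
    · simp [h64.1 hφe]
  have hself : ∀ e < 16, e ≠ 0 → ∀ t < 2,
      (ncb F (128 * e + 64 * t) = true ↔ t = if φ e then 1 else 0) := by
    intro e he he0 t ht
    cases hφe : φ e
    · have hc := coset_ok m.k m.hk e he
      simp only [chkCoset, Bool.or_eq_true, Nat.beq_eq, Bool.and_eq_true, List.all_eq_true, List.mem_range] at hc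
      obtain ⟨⟨⟨-, c0⟩, -⟩, -⟩ := hc.resolve_left he0
      obtain ⟨n0, hn0, hn0'⟩ : ∃ n ∈ List.range 128, Nat.beq (cls m.k e n) 0 = true :=
        List.countP_pos_iff.1 (by omega)
      rw [Nat.beq_eq] at hn0'
      have h0 : ncb F (128 * e + 0) = true := by
        rw [← hn0', ← (ncb_cls F he he0 (List.mem_range.1 hn0)).1, hsel e he he0 n0 (List.mem_range.1 hn0), hn0', hφe]
        rfl
      interval_cases t
      · simpa using h0
      · have : ncb F (128 * e + 64) = false := hφe
        simp [this]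
    · have h1 : ncb F (128 * e + 64) = true := hφe
      interval_cases t
      · have hc := coset_ok m.k m.hk e he
        simp only [chkCoset, Bool.or_eq_true, Nat.beq_eq, Bool.and_eq_true, List.all_eq_true, List.mem_range] at hc
        obtain ⟨⟨⟨-, c0⟩, -⟩, -⟩ := hc.resolve_left he0
        obtain ⟨n0, hn0, hn0'⟩ : ∃ n ∈ List.range 128, Nat.beq (cls m.k e n) 0 = true :=
          List.countP_pos_iff.1 (by omega)
        rw [Nat.beq_eq] at hn0'
        have h0 : ¬ ncb F (128 * e + 0) = true := by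
          rw [← hn0', ← (ncb_cls F he he0 (List.mem_range.1 hn0)).1, hsel e he he0 n0 (List.mem_range.1 hn0), hn0',
            hφe]
          simp
        simpa using h0
      · simp [h1]
  have hφ0 : φ 0 = false := (ncb_zero F).2
  have hφpow : ∀ i < 4, φ (2 ^ i) = false := fun i hi => by
    have h := (hself (2 ^ i) (by interval_cases i <;> norm_num) (by positivity) 0 (by norm_num)).1
      (by simpa using hbasis i hi)
    cases hb : φ (2 ^ i)
    · rfl
    · rw [hb] at h; exact absurd h (by norm_num)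
  -- the sign function
  obtain ⟨j, hj, hjbits⟩ := exists_bits 11 (fun t => φ (freeM.getD t 0))
  obtain ⟨hfree, hf0, hfp, hf16⟩ := free_ok j hj
  have hexp : ∀ e < 16, expandF j / 2 ^ e % 2 = if φ e then 1 else 0 := by
    intro e he
    interval_cases e
    case «0» => rw [hφ0]; simpa using hf0
    case «1» => rw [show φ 1 = false from hφpow 0 (by norm_num)]; simpa using hfp 0 (by norm_num)
    case «2» => rw [show φ 2 = false from hφpow 1 (by norm_num)]; simpa using hfp 1 (by norm_num)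
    case «4» => rw [show φ 4 = false from hφpow 2 (by norm_num)]; simpa using hfp 2 (by norm_num)
    case «8» => rw [show φ 8 = false from hφpow 3 (by norm_num)]; simpa using hfp 3 (by norm_num)
    case «3» => exact (hfree 0 (by norm_num)).trans (hjbits 0 (by norm_num))
    case «5» => exact (hfree 1 (by norm_num)).trans (hjbits 1 (by norm_num))
    case «6» => exact (hfree 2 (by norm_num)).trans (hjbits 2 (by norm_num))
    case «7» => exact (hfree 3 (by norm_num)).trans (hjbits 3 (by norm_num))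
    case «9» => exact (hfree 4 (by norm_num)).trans (hjbits 4 (by norm_num))
    case «10» => exact (hfree 5 (by norm_num)).trans (hjbits 5 (by norm_num))
    case «11» => exact (hfree 6 (by norm_num)).trans (hjbits 6 (by norm_num))
    case «12» => exact (hfree 7 (by norm_num)).trans (hjbits 7 (by norm_num))
    case «13» => exact (hfree 8 (by norm_num)).trans (hjbits 8 (by norm_num))
    case «14» => exact (hfree 9 (by norm_num)).trans (hjbits 9 (by norm_num))
    case «15» => exact (hfree 10 (by norm_num)).trans (hjbits 10 (by norm_num))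
  -- the chosen lifts
  set σ : ℕ → Subgroup.centralizer ({z} : Set G) :=
    fun e => F.phi (128 * e + 64 * (expandF j / 2 ^ e % 2)) with hσ
  have hσmul : ∀ a < 16, ∀ b < 16, σ a * σ b * σ (a ^^^ b) = F.phi (64 * defect (expandF j) a b) := by
    intro a ha b hb
    have hab : a ^^^ b < 16 := Nat.xor_lt_two_pow (n := 4) ha hb
    simp only [hσ, defect]
    have key : ∀ e < 16, ∀ e' < 16, ∀ t < 2, ∀ t' < 2, ∀ t'' < 2,
        (128 * e + 64 * t) ^^^ (128 * e' + 64 * t') ^^^ (128 * (e ^^^ e') + 64 * t'') = 64 * ((t + t' + t'') % 2) := by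
      decide +kernel
    rw [← F.phi_xor, ← F.phi_xor, key a ha b hb _ (Nat.mod_lt _ two_pos) _ (Nat.mod_lt _ two_pos) _
      (Nat.mod_lt _ two_pos)]
  have hel := el_ok m.k m.hk
  simp only [chkEl, Bool.and_eq_true, List.all_eq_true, List.mem_range, beq_iff_eq, Nat.blt_eq, Nat.beq_eq] at hel
  obtain ⟨⟨-, hplen⟩, hperm⟩ := hel
  have hinv : (fo m.k).contains (expandF j) = true := by
    have h := inv_ok m.k m.hk j hj
    simp only [chkInv, Bool.or_eq_true, List.any_eq_true, List.mem_range, Bool.not_eq_true'] at h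
    refine h.resolve_right ?_
    rintro ⟨l, hl, a, ha, b, hb, hne⟩
    obtain ⟨s, hs, rfl⟩ := List.getElem_of_mem hl
    have hsn : s < (LargeFischerSylow.nW m.k).length := hplen ▸ hs
    rw [← List.getD_eq_getElem _ [] hs] at hne
    set w := (LargeFischerSylow.nW m.k).getD s [] with hw
    have hw4 : ∀ t ∈ w, t < 4 := by
      have h := LargeFischerSylow.norm_ok m.k m.hk
      simp only [LargeFischerSylow.chkNorm, Bool.and_eq_true, List.all_eq_true, Nat.blt_eq] at h
      exact h.1.1.1.1 w (by rw [hw, List.getD_eq_getElem _ _ hsn]; exact List.getElem_mem _)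
    obtain ⟨n, hn, hnx⟩ := exists_comm_lift F (word_mem m.hk w)
    set p := fun e => ((pE m.k).getD s []).getD e 0 with hp
    have hp16 : ∀ e < 16, p e < 16 := fun e he => (hperm s hsn e he).1
    have hpE : ∀ e < 16, m.lin n * F.eE e * (m.lin n)⁻¹ = F.eE (p e) := fun e he => by
      rw [hn, mul_inv_eq_iff_eq_mul]
      exact LargeFischerSylow.has_ext (LargeFischerSylow.has_mul (LargeFischerSylow.has_word m.hk hw4) (F.eE_has he))
        ((congrArg (LargeFischerSylow.Has _) (hperm s hsn e he).2).mpr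
          (LargeFischerSylow.has_mul (F.eE_has (hp16 e he)) (LargeFischerSylow.has_word m.hk hw4)))
    have hnorm : ∀ e ∈ LargeFischerSylow.E m.hk, m.lin n * e * (m.lin n)⁻¹ ∈ LargeFischerSylow.E m.hk := fun e he => by
      obtain ⟨i, hi, rfl⟩ := eE_surj F he
      rw [hpE i hi]
      exact lin_K0 m (F.pa_mem _)
    have hp0 : p 0 = 0 := eE_inj F (hp16 0 (by norm_num)) (by norm_num)
      (by rw [← hpE 0 (by norm_num), eE_zero, mul_one, mul_inv_cancel])
    have hpxor : ∀ e < 16, ∀ e' < 16, p (e ^^^ e') = p e ^^^ p e' := fun e he e' he' => by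
      have hm : ∀ u v : ℕ, F.eE (u ^^^ v) = F.eE u * F.eE v := fun u v => by
        rw [Frame.eE, Frame.eE, Frame.eE, ← map_mul]
        congr 1
        exact Subtype.ext (bprod_xor (fun u hu v hv => LargeFischerJ.K0_comm m hu hv) (K0_sq m) F.a_mem _ _ _)
      refine eE_inj F (hp16 _ (Nat.xor_lt_two_pow (n := 4) he he')) (Nat.xor_lt_two_pow (n := 4) (hp16 e he) (hp16 e' he')) ?_
      rw [← hpE _ (Nat.xor_lt_two_pow (n := 4) he he'), hm, hm, ← hpE e he, ← hpE e' he']
      group
    have hmove : ∀ e < 16, (n : Subgroup.centralizer ({z} : Set G)) * σ e * (n : Subgroup.centralizer ({z} : Set G))⁻¹ =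
        σ (p e) := by
      intro e he
      have hfe : expandF j / 2 ^ e % 2 < 2 := Nat.mod_lt _ two_pos
      by_cases he0 : e = 0
      · subst he0
        have h0 : σ 0 = 1 := by
          simp only [hσ]
          rw [show expandF j / 2 ^ 0 % 2 = 0 by simpa using hf0, F.phi_small (by norm_num)]
          exact F.pu_zero
        rw [hp0, h0, mul_one, mul_inv_cancel]
      obtain ⟨c, hc, hce⟩ := F.phi_surj (K0_norm m hnorm (F.phi_mem (128 * e + 64 * (expandF j / 2 ^ e % 2))))
      have hfix : F.cx (F.phi c) = F.phi c := by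
        rw [hce]
        have h1 := phi_fixed F e _ hfe
        simp only [Frame.cx] at h1 ⊢
        generalize (n : Subgroup.centralizer ({z} : Set G)) = N at hnx ⊢
        generalize (F.x : Subgroup.centralizer ({z} : Set G)) = X at hnx h1 ⊢
        generalize F.phi (128 * e + 64 * (expandF j / 2 ^ e % 2)) = g at h1 ⊢
        calc X * (N * g * N⁻¹) * X⁻¹ = (X * N) * g * (X * N)⁻¹ := by group
          _ = (N * X) * g * (N * X)⁻¹ := by rw [hnx]
          _ = N * (X * g * X⁻¹) * N⁻¹ := by group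
          _ = _ := by rw [h1]
      have hc0 := fixed_code F hfix
      have hdiv : c / 128 = p e := by
        refine eE_inj F (by omega) (hp16 e he) (over_unique (over_phi F (c := c)) ?_)
        obtain ⟨hM, hl⟩ := over_phi F (c := 128 * e + 64 * (expandF j / 2 ^ e % 2))
        rw [show (128 * e + 64 * (expandF j / 2 ^ e % 2)) / 128 = e by omega] at hl
        rw [hce]
        refine ⟨(n * ⟨_, hM⟩ * n⁻¹).2, ?_⟩
        show m.lin (n * ⟨_, hM⟩ * n⁻¹) = _
        rw [map_mul, map_mul, map_inv, hl, hpE e he]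
      have hpe0 : p e ≠ 0 := fun h => he0 (eE_inj F he (by norm_num) (by
        have h2 := hpE e he
        rw [h, eE_zero, conj_eq_one_iff] at h2
        rw [h2, eE_zero]))
      have hcode : c = 128 * p e + 64 * (c / 64 % 2) := by omega
      have hnc : ncb F c = true := by
        rw [ncb_iff, hce, nc_conj, ← ncb_iff, hself e he he0 _ hfe]
        exact hexp e he
      rw [hcode, hself (p e) (hp16 e he) hpe0 _ (Nat.mod_lt _ two_pos), ← hexp (p e) (hp16 e he)] at hnc
      rw [← hce, hcode, hnc]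
    have hd : ∀ u < 16, ∀ v < 16, defect (expandF j) u v = defect (expandF j) (p u) (p v) := by
      intro u hu v hv
      have h := congrArg (fun g => (n : Subgroup.centralizer ({z} : Set G)) * g * (n : Subgroup.centralizer ({z} : Set G))⁻¹)
        (hσmul u hu v hv)
      rw [show ∀ a b c N : Subgroup.centralizer ({z} : Set G), N * (a * b * c) * N⁻¹ = (N * a * N⁻¹) * (N * b * N⁻¹) *
          (N * c * N⁻¹) from fun a b c N => by group] at h
      rw [hmove u hu, hmove v hv, hmove _ (Nat.xor_lt_two_pow (n := 4) hu hv), hpxor u hu v hv,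
        hσmul _ (hp16 u hu) _ (hp16 v hv), F.phi_bit (b := defect (expandF j) (p u) (p v)) (Nat.mod_lt _ two_pos),
        F.phi_bit (b := defect (expandF j) u v) (Nat.mod_lt _ two_pos),
        ← LargeFischerCoords.zp_comm, mul_inv_cancel_right] at h
      have := zp_inj m (z := z) h
      rw [decide_eq_decide] at this
      have h2 : ∀ a b : ℕ, defect (expandF j) a b < 2 := fun _ _ => Nat.mod_lt _ two_pos
      have := h2 u v
      have := h2 (p u) (p v)
      omega
    rw [Bool.eq_false_iff] at hne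
    exact hne ((Nat.beq_eq).mpr (hd a ha b hb))
  obtain ⟨o, ho, hoe⟩ := List.getElem_of_mem (List.contains_iff_mem.1 hinv)
  have hmask := mask_ok m.k m.hk
  simp only [chkMask, Bool.and_eq_true, Nat.beq_eq, Nat.blt_eq, List.all_eq_true, List.mem_range, beq_iff_eq] at hmask
  obtain ⟨⟨⟨-, hfolen⟩, -⟩, hmask⟩ := hmask
  rw [hfolen] at ho
  have hiff : ∀ c < 2048, ((Xo m.k).getD o 0).testBit c = ncb F c := by
    intro c hc
    rw [hmask o ho c hc, List.getD_eq_getElem _ _ (hfolen.symm ▸ ho), hoe, xB]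
    by_cases h : c / 128 = 0
    · rw [h, show Nat.beq 0 0 = true from rfl, if_pos rfl, ncb_inner F hF (by omega)]
    · rw [show Nat.beq (c / 128) 0 = false from Bool.eq_false_iff.2 fun h' => h (Nat.eq_of_beq_eq_true h'),
        if_neg (by simp), hexp _ (by omega), Bool.eq_iff_iff, Nat.beq_eq]
      have := hsel (c / 128) (by omega) h (c % 128) (Nat.mod_lt _ (by norm_num))
      rw [Nat.div_add_mod] at this
      exact this.symm
  have ho' : o = good m.k := by
    have hcnt := count_ok m.k m.hk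
    simp only [chkCount, List.all_eq_true, List.mem_range, Bool.and_eq_true, Bool.or_eq_true, Nat.beq_eq,
      Nat.blt_eq, Bool.not_eq_true'] at hcnt
    obtain ⟨h36, hrest⟩ := hcnt o ho
    refine hrest.resolve_right ?_
    rintro ⟨⟨⟨hs1, hs2⟩, hs3⟩, hs4⟩
    generalize (swit m.k).getD o 0 = s at hs1 hs2 hs3 hs4
    -- both counts as sets
    have hset : ∀ s < 2048, hcount ((Xo m.k).getD o 0) s =
        {a : G | a ∈ XS m ∧ a * (F.phi s : G) ∈ XS m}.ncard := by
      intro s hs
      refine (ncard_setOf_fin _ 2048 (fun c => (F.phi c : G)) _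
        (fun a ha b hb h => F.phi_inj ha hb (Subtype.ext h)) (fun c hc => ?_) (fun g hg => ?_)).symm
      · have hlt : c ^^^ s < 2048 := Nat.xor_lt_two_pow (n := 11) hc hs
        have hXS : ∀ d, ((F.phi d : G) ∈ XS m ↔ ncb F d = true) := fun d => by
          rw [ncb_iff]
          exact ⟨fun h => ⟨h.2.1, h.2.2⟩, fun h => ⟨⟨_, F.phi_mem d, rfl⟩, h.1, h.2⟩⟩
        show (_ ∈ XS m ∧ _ ∈ XS m) ↔ _
        rw [Bool.and_eq_true, hiff c hc, hiff _ hlt, ← hXS, ← hXS, F.phi_xor, Subgroup.coe_mul]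
      · obtain ⟨⟨y, hy, rfl⟩, -⟩ := hg.1
        obtain ⟨c, hc, rfl⟩ := F.phi_surj hy
        exact ⟨c, hc, rfl⟩
    have hsne : ¬ ncb F s = true := by rw [← hiff s hs2, hs3]; simp
    have hsZ : IsConj z (F.phi s : G) := by
      by_contra hn
      refine hsne ((ncb_iff F s).2 ⟨fun e => ?_, hn⟩)
      have := F.phi_eq_one hs2 (Subtype.ext e)
      omega
    obtain ⟨g, hg⟩ := _root_.isConj_iff.1 hsZ
    obtain ⟨n, hn, hnz⟩ := LargeFischerLocal.fusion m hF (LargeFischerLocal.z_mem_AK m) (g := g)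
      (by rw [hg]; exact ⟨_, F.phi_mem s, rfl⟩)
    rw [hg] at hnz
    have hz64 : (F.phi 64 : G) = z := by
      have e : F.phi 64 = zH := by simpa [LargeFischerCoords.zp] using F.phi_bit (b := 1) (by norm_num)
      rw [e]; rfl
    have heq : {a : G | a ∈ XS m ∧ a * (F.phi s : G) ∈ XS m} =
        (fun a => n * a * n⁻¹) '' {a : G | a ∈ XS m ∧ a * z ∈ XS m} := by
      ext a
      constructor
      · rintro ⟨h1, h2⟩
        have hn' := inv_mem hn
        refine ⟨n⁻¹ * a * n, ⟨?_, ?_⟩, by group⟩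
        · simpa using norm_XS hn' h1
        · have := norm_XS hn' h2
          rw [← hnz] at this
          convert this using 1
          group
      · rintro ⟨b, ⟨h1, h2⟩, rfl⟩
        refine ⟨norm_XS hn h1, ?_⟩
        have := norm_XS hn h2
        rw [← hnz]
        convert this using 1
        group
    have h1 := hset s hs2
    have h64 : {a : G | a ∈ XS m ∧ a * (F.phi 64 : G) ∈ XS m} = {a : G | a ∈ XS m ∧ a * z ∈ XS m} := by
      simp only [hz64]
    rw [heq, Set.ncard_image_of_injective _ (fun a b h => mul_left_cancel (mul_right_cancel h)), ← h64,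
      ← hset 64 (by norm_num), h36] at h1
    rw [h1] at hs4
    exact Bool.false_ne_true (hs4.symm.trans (Nat.beq_eq.mpr rfl))
  intro c hc
  rw [← ho', hiff c hc, ncb_iff]

end

end Cfsg.Agent.Fus.LargeFischerCoset
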