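/-
An elementary abelian group given by the even sets of 24 points modulo the Golay code: whatever normalises it and
keeps the images of the pairs permutes the points by a member of `M₂₄`.
-/
import Cfsg.Agent.Lib.Spor.Golay.Basic
import Cfsg.Agent.Lib.Spor.Golay.M24Facts

set_option autoImplicit false
set_option maxRecDepth 100000
set_option linter.style.haveILetI false

open Cfsg Cfsg.Agent.Spor.Golay
open scoped Pointwise symmDiff

namespace Cfsg.Agent.Fus.LargeFischerPoints

theorem small_code {s : Finset GolayPt} (h : s ∈ supports (golayCode : Set (GolayPt → ZMod 2))) (h8 : s.card < 8) :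
    s = ∅ := by
  obtain ⟨m, hm, rfl⟩ := mem_supports.1 h
  rw [card_pts] at h8
  have := pop_code hm
  rw [← Finset.card_eq_zero, card_pts]
  omega

theorem card_symmDiff' (s t : Finset GolayPt) : (s ∆ t).card + 2 * (s ∩ t).card = s.card + t.card := by
  have h1 := Finset.card_sdiff_add_card_inter s t
  have h2 := Finset.card_sdiff_add_card_inter t s
  rw [Finset.inter_comm t s] at h2
  have h3 : (s ∆ t).card = (s \ t).card + (t \ s).card := by
    rw [← Finset.card_union_of_disjoint disjoint_sdiff_sdiff]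
    rfl
  omega

variable {G : Type*} [Group G]

/-- The data: sums over sets of points in the group. -/
structure Pts (A : Subgroup G) (val : Finset GolayPt → G) : Prop where
  mem : ∀ s, val s ∈ A
  mul : ∀ s t, val (s ∆ t) = val s * val t
  sq : ∀ a ∈ A, a * a = 1
  code : ∀ b ∈ basis, val (pts b) = 1
  kernel : ∀ s : Finset GolayPt, Even s.card → val s = 1 → s ∈ supports (golayCode : Set (GolayPt → ZMod 2))
  gen : ∀ a ∈ A, ∃ s : Finset GolayPt, Even s.card ∧ val s = a

/-- The images of the pairs. -/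
def pairSet (val : Finset GolayPt → G) : Set G := {x | ∃ s : Finset GolayPt, s.card = 2 ∧ val s = x}

variable {A : Subgroup G} {val : Finset GolayPt → G}

theorem Pts.eq_of_val (h : Pts A val) {s t : Finset GolayPt} (hs : Even (s.card + t.card)) (h8 : s.card + t.card < 8)
    (e : val s = val t) : s = t := by
  have hd := card_symmDiff' s t
  obtain ⟨r, hr⟩ := hs
  have he : Even (s ∆ t).card := ⟨r - (s ∩ t).card, by omega⟩
  have hmem := h.kernel _ he (by rw [h.mul, e]; exact h.sq _ (h.mem t))
  exact symmDiff_eq_bot.1 (small_code hmem (by omega))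

theorem Pts.val_pair_mem (h : Pts A val) {s t : Finset GolayPt} (hs : s.card = 2) (ht : t.card = 2) :
    val s * val t ∈ pairSet val ↔ (s ∩ t).card = 1 := by
  have hd := card_symmDiff' s t
  constructor
  · rintro ⟨u, hu, e⟩
    rw [← h.mul] at e
    have := h.eq_of_val (s := u) (t := s ∆ t) ⟨3 - (s ∩ t).card, by omega⟩ (by omega) e
    rw [this] at hu
    omega
  · intro h1
    exact ⟨s ∆ t, by omega, h.mul s t⟩

theorem pair_eq {p q : GolayPt} (hpq : p ≠ q) {s : Finset GolayPt} (hs : s.card = 2) (hp : p ∈ s) (hq : q ∈ s) :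
    s = {p, q} :=
  (Finset.eq_of_subset_of_card_le (by simp [Finset.insert_subset_iff, hp, hq])
    (by rw [hs, Finset.card_pair hpq])).symm

theorem inter_one_of {p : GolayPt} {s t : Finset GolayPt} (hs : s.card = 2) (hne : s ≠ t) (ht : t.card = 2)
    (hp : p ∈ s) (hq : p ∈ t) : (s ∩ t).card = 1 := by
  have h0 : 0 < (s ∩ t).card := Finset.card_pos.2 ⟨p, Finset.mem_inter.2 ⟨hp, hq⟩⟩
  have h2 : (s ∩ t).card < 2 := by
    by_contra hge
    have e := Finset.eq_of_subset_of_card_le (Finset.inter_subset_left : s ∩ t ⊆ s) (by omega)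
    exact hne (Finset.eq_of_subset_of_card_le (e ▸ Finset.inter_subset_right) (by omega))
  omega

theorem exists_other (L : List GolayPt) (hL : L.length < 24) : ∃ r : GolayPt, r ∉ L := by
  by_contra h
  push Not at h
  have h1 : (Finset.univ : Finset GolayPt) ⊆ L.toFinset := fun x _ => List.mem_toFinset.2 (h x)
  have h2 := (Finset.card_le_card h1).trans L.toFinset_card_le
  rw [Finset.card_univ, card_golayPt] at h2
  omega

/-- A map keeping the images of the pairs moves the points. -/
theorem Pts.exists_perm (h : Pts A val) (α : G → G) (hα : ∀ a ∈ A, ∀ b ∈ A, α (a * b) = α a * α b)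
    (hinj : ∀ a ∈ A, ∀ b ∈ A, α a = α b → a = b) (hP : ∀ a ∈ A, a ∈ pairSet val ↔ α a ∈ pairSet val) :
    ∃ σ : Equiv.Perm GolayPt, σ ∈ M24 ∧ ∀ s : Finset GolayPt, Even s.card → α (val s) = val (σ • s) := by
  classical
  have hex : ∀ s : Finset GolayPt, ∃ u : Finset GolayPt, s.card = 2 → u.card = 2 ∧ val u = α (val s) := fun s => by
    by_cases hs : s.card = 2
    · obtain ⟨u, hu, e⟩ := (hP _ (h.mem s)).1 ⟨s, hs, rfl⟩
      exact ⟨u, fun _ => ⟨hu, e⟩⟩
    · exact ⟨∅, fun h' => absurd h' hs⟩
  choose F hF using hex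
  have hFinj : ∀ s t : Finset GolayPt, s.card = 2 → t.card = 2 → F s = F t → s = t := fun s t hs ht e => by
    refine h.eq_of_val ⟨2, by omega⟩ (by omega) (hinj _ (h.mem s) _ (h.mem t) ?_)
    rw [← (hF s hs).2, ← (hF t ht).2, e]
  have hFint : ∀ s t : Finset GolayPt, s.card = 2 → t.card = 2 → ((s ∩ t).card = 1 ↔ (F s ∩ F t).card = 1) :=
    fun s t hs ht => by
    rw [← h.val_pair_mem hs ht, ← h.val_pair_mem (hF s hs).1 (hF t ht).1, hP _ (mul_mem (h.mem s) (h.mem t)),
      hα _ (h.mem s) _ (h.mem t), (hF s hs).2, (hF t ht).2]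
  -- a common point
  have hcommon : ∀ p : GolayPt, ∃ x, ∀ q, q ≠ p → x ∈ F {p, q} := by
    intro p
    obtain ⟨q1, hq1⟩ := exists_other [p] (by simp)
    obtain ⟨q2, hq2⟩ := exists_other [p, q1] (by simp)
    simp only [List.mem_cons, List.not_mem_nil, or_false, not_or] at hq1 hq2
    have hc : ∀ {q}, q ≠ p → ({p, q} : Finset GolayPt).card = 2 := fun hq => Finset.card_pair (Ne.symm hq)
    have hne : ∀ {q r}, q ≠ p → r ≠ p → q ≠ r → ({p, q} : Finset GolayPt) ≠ {p, r} := fun {q r} hq _ hqr e => by
      have : q ∈ ({p, r} : Finset GolayPt) := e ▸ Finset.mem_insert_of_mem (Finset.mem_singleton_self q)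
      simp [hq, hqr] at this
    have hint : ∀ {q r}, q ≠ p → r ≠ p → q ≠ r → (F {p, q} ∩ F {p, r}).card = 1 := fun hq hr hqr =>
      (hFint _ _ (hc hq) (hc hr)).1 (inter_one_of (hc hq) (hne hq hr hqr) (hc hr) (Finset.mem_insert_self ..)
        (Finset.mem_insert_self ..))
    obtain ⟨x, hx⟩ := Finset.card_eq_one.1 (hint hq1 hq2.1 (Ne.symm hq2.2))
    obtain ⟨hx1, hx2⟩ := Finset.mem_inter.1 (hx.symm ▸ Finset.mem_singleton_self x)
    obtain ⟨y, hy1, hyx⟩ := Finset.exists_mem_ne (by rw [(hF _ (hc hq1)).1]; norm_num) x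
    obtain ⟨w, hw2, hwx⟩ := Finset.exists_mem_ne (by rw [(hF _ (hc hq2.1)).1]; norm_num) x
    have e1 := pair_eq (Ne.symm hyx) (hF _ (hc hq1)).1 hx1 hy1
    have e2 := pair_eq (Ne.symm hwx) (hF _ (hc hq2.1)).1 hx2 hw2
    have hyw : y ≠ w := fun e => hne hq1 hq2.1 (Ne.symm hq2.2)
      (hFinj _ _ (hc hq1) (hc hq2.1) (by rw [e1, e2, e]))
    -- anything missing the point is the third side
    have hthird : ∀ {q}, q ≠ p → q ≠ q1 → q ≠ q2 → x ∉ F {p, q} → F {p, q} = {y, w} := by
      intro q hq h1 h2 hxq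
      refine pair_eq hyw (hF _ (hc hq)).1 ?_ ?_
      · obtain ⟨u, hu⟩ := Finset.card_eq_one.1 (hint hq hq1 h1)
        obtain ⟨hu1, hu2⟩ := Finset.mem_inter.1 (hu.symm ▸ Finset.mem_singleton_self u)
        rw [e1] at hu2
        rcases Finset.mem_insert.1 hu2 with rfl | hu2
        · exact absurd hu1 hxq
        · exact Finset.mem_singleton.1 hu2 ▸ hu1
      · obtain ⟨u, hu⟩ := Finset.card_eq_one.1 (hint hq hq2.1 h2)
        obtain ⟨hu1, hu2⟩ := Finset.mem_inter.1 (hu.symm ▸ Finset.mem_singleton_self u)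
        rw [e2] at hu2
        rcases Finset.mem_insert.1 hu2 with rfl | hu2
        · exact absurd hu1 hxq
        · exact Finset.mem_singleton.1 hu2 ▸ hu1
    refine ⟨x, fun q hq => ?_⟩
    by_contra hxq
    have h1 : q ≠ q1 := fun e => hxq (e ▸ hx1)
    have h2 : q ≠ q2 := fun e => hxq (e ▸ hx2)
    have e0 := hthird hq h1 h2 hxq
    obtain ⟨q3, hq3⟩ := exists_other [p, q1, q2, q] (by simp)
    simp only [List.mem_cons, List.not_mem_nil, or_false, not_or] at hq3
    obtain ⟨a0, a1, a2, a3⟩ := hq3
    by_cases hx3 : x ∈ F {p, q3}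
    · obtain ⟨v, hv, hvx⟩ := Finset.exists_mem_ne (by rw [(hF _ (hc a0)).1]; norm_num) x
      have e3 := pair_eq (Ne.symm hvx) (hF _ (hc a0)).1 hx3 hv
      obtain ⟨u, hu⟩ := Finset.card_eq_one.1 (hint a0 hq a3)
      obtain ⟨hu1, hu2⟩ := Finset.mem_inter.1 (hu.symm ▸ Finset.mem_singleton_self u)
      rw [e3] at hu1
      rw [e0] at hu2
      simp only [Finset.mem_insert, Finset.mem_singleton] at hu1 hu2
      rcases hu1 with rfl | rfl
      · rcases hu2 with rfl | rfl
        exacts [hyx rfl, hwx rfl]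
      · rcases hu2 with rfl | rfl
        · exact hne a0 hq1 a1 (hFinj _ _ (hc a0) (hc hq1) (by rw [e3, e1]))
        · exact hne a0 hq2.1 a2 (hFinj _ _ (hc a0) (hc hq2.1) (by rw [e3, e2]))
    · exact hne hq a0 (Ne.symm a3) (hFinj _ _ (hc hq) (hc a0) (e0.trans (hthird a0 a1 a2 hx3).symm))
  choose f hf using hcommon
  have hfinj : Function.Injective f := by
    intro p q e
    by_contra hpq
    obtain ⟨r, hr⟩ := exists_other [p, q] (by simp)
    obtain ⟨r', hr'⟩ := exists_other [p, q, r] (by simp)
    simp only [List.mem_cons, List.not_mem_nil, or_false, not_or] at hr hr'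
    have cs : ({p, r} : Finset GolayPt).card = 2 := Finset.card_pair (Ne.symm hr.1)
    have ct : ({q, r'} : Finset GolayPt).card = 2 := Finset.card_pair (Ne.symm hr'.2.1)
    have hdis : ({p, r} : Finset GolayPt) ∩ {q, r'} = ∅ := by
      refine Finset.eq_empty_of_forall_notMem fun u hu => ?_
      simp only [Finset.mem_inter, Finset.mem_insert, Finset.mem_singleton] at hu
      rcases hu with ⟨rfl | rfl, h' | h'⟩
      exacts [hpq h', hr'.1 h'.symm, hr.2 h', hr'.2.2 h'.symm]
    have h1 : (F {p, r} ∩ F {q, r'}).card = 1 := by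
      refine inter_one_of (hF _ cs).1 (fun e' => ?_) (hF _ ct).1 (hf p r hr.1) (e ▸ hf q r' hr'.2.1)
      have := hFinj _ _ cs ct e'
      rw [this, Finset.inter_self] at hdis
      exact absurd (hdis ▸ ct) (by simp)
    rw [← hFint _ _ cs ct, hdis, Finset.card_empty] at h1
    exact zero_ne_one h1
  let σ : Equiv.Perm GolayPt := Equiv.ofBijective f (Finite.injective_iff_bijective.1 hfinj)
  have hσ : ∀ p, σ p = f p := fun _ => rfl
  have hpair : ∀ p q : GolayPt, p ≠ q → α (val {p, q}) = val (σ • ({p, q} : Finset GolayPt)) := by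
    intro p q hpq
    have hc : ({p, q} : Finset GolayPt).card = 2 := Finset.card_pair hpq
    have e : σ • ({p, q} : Finset GolayPt) = F {p, q} := by
      rw [Finset.smul_finset_insert, Finset.smul_finset_singleton, Equiv.Perm.smul_def, Equiv.Perm.smul_def, hσ, hσ]
      refine (pair_eq (fun e => hpq (hfinj e)) (hF _ hc).1 (hf p q (Ne.symm hpq)) ?_).symm
      rw [Finset.pair_comm p q]
      exact hf q p hpq
    rw [e, (hF _ hc).2]
  have hall : ∀ s : Finset GolayPt, Even s.card → α (val s) = val (σ • s) := by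
    have hone : val ∅ = 1 := by
      have := h.mul ∅ ∅
      rw [symmDiff_self] at this
      exact left_eq_mul.1 this
    intro s
    induction s using Finset.strongInductionOn with
    | _ s ih =>
      intro hev
      rcases Finset.eq_empty_or_nonempty s with rfl | ⟨p, hp⟩
      · rw [Finset.smul_finset_empty, hone]
        have := hα 1 (one_mem A) 1 (one_mem A)
        rw [one_mul] at this
        exact left_eq_mul.1 this
      obtain ⟨q, hq, hqp⟩ := Finset.exists_mem_ne (s := s) (by
        obtain ⟨r, hr⟩ := hev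
        have := Finset.card_pos.2 ⟨p, hp⟩
        omega) p
      have hsub : ({p, q} : Finset GolayPt) ⊆ s := by simp [Finset.insert_subset_iff, hp, hq]
      have hs : s = ({p, q} : Finset GolayPt) ∆ (s \ {p, q}) := by
        ext u
        have : u ∈ ({p, q} : Finset GolayPt) → u ∈ s := fun h => hsub h
        rw [Finset.mem_symmDiff, Finset.mem_sdiff]
        tauto
      have hcard : (s \ {p, q}).card + 2 = s.card := by
        rw [← Finset.card_pair (Ne.symm hqp)]
        exact Finset.card_sdiff_add_card_eq_card hsub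
      have hlt : s \ {p, q} ⊂ s := Finset.sdiff_ssubset hsub ⟨p, Finset.mem_insert_self ..⟩
      have hev' : Even (s \ {p, q}).card := by
        rw [← hcard] at hev
        exact (Nat.even_add.1 hev).2 even_two
      conv_lhs => rw [hs, h.mul, hα _ (h.mem _) _ (h.mem _), hpair p q (Ne.symm hqp), ih _ hlt hev', ← h.mul,
        ← Finset.smul_finset_symmDiff, ← hs]
  refine ⟨σ, mem_M24_iff.2 fun b hb => h.kernel _ ?_ ?_, hall⟩
  · rw [Finset.card_smul_finset]
    have := pop_code (mem_weightList.1 (basis_octad b hb)).1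
    rw [card_pts]
    rcases this with e | e | e | e | e <;> rw [e] <;> decide
  · have hev : Even (pts b).card := by
      rw [card_pts, (mem_weightList.1 (basis_octad b hb)).2]; decide
    rw [← hall _ hev, h.code b hb]
    have := hα 1 (one_mem A) 1 (one_mem A)
    rw [one_mul] at this
    exact left_eq_mul.1 this

theorem Pts.perm_unique (h : Pts A val) {σ τ : Equiv.Perm GolayPt}
    (e : ∀ s : Finset GolayPt, s.card = 2 → val (σ • s) = val (τ • s)) : σ = τ := by
  refine Equiv.ext fun p => ?_
  obtain ⟨q, hq⟩ := exists_other [p] (by simp)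
  obtain ⟨r, hr⟩ := exists_other [p, q] (by simp)
  simp only [List.mem_cons, List.not_mem_nil, or_false, not_or] at hq hr
  have key : ∀ u, u ≠ p → ({σ p, σ u} : Finset GolayPt) = {τ p, τ u} := fun u hu => by
    have hc : ({p, u} : Finset GolayPt).card = 2 := Finset.card_pair (Ne.symm hu)
    have := h.eq_of_val (s := σ • ({p, u} : Finset GolayPt)) (t := τ • ({p, u} : Finset GolayPt))
      (by rw [Finset.card_smul_finset, Finset.card_smul_finset, hc]; exact ⟨2, rfl⟩)
      (by rw [Finset.card_smul_finset, Finset.card_smul_finset, hc]; norm_num) (e _ hc)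
    simpa [Finset.smul_finset_insert, Finset.smul_finset_singleton] using this
  have m1 : σ p ∈ ({τ p, τ q} : Finset GolayPt) := key q hq ▸ Finset.mem_insert_self ..
  have m2 : σ p ∈ ({τ p, τ r} : Finset GolayPt) := key r hr.1 ▸ Finset.mem_insert_self ..
  simp only [Finset.mem_insert, Finset.mem_singleton] at m1 m2
  rcases m1 with e1 | e1
  · exact e1
  · rcases m2 with e2 | e2
    · exact e2
    · exact absurd (τ.injective (e1.symm.trans e2)).symm hr.2

/-- The normaliser acts on the points. -/
theorem Pts.exists_hom (h : Pts A val)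
    (hP : ∀ n ∈ Subgroup.normalizer (A : Set G), ∀ a ∈ A, a ∈ pairSet val ↔ n * a * n⁻¹ ∈ pairSet val) :
    ∃ χ : ↥(Subgroup.normalizer (A : Set G)) →* ↥M24,
      (∀ n : ↥(Subgroup.normalizer (A : Set G)), ∀ s : Finset GolayPt, Even s.card →
        (n : G) * val s * (n : G)⁻¹ = val ((χ n : Equiv.Perm GolayPt) • s)) ∧
      ∀ n : ↥(Subgroup.normalizer (A : Set G)), χ n = 1 ↔ ∀ a ∈ A, (n : G) * a = a * (n : G) := by
  choose f hf hf' using fun n : ↥(Subgroup.normalizer (A : Set G)) => h.exists_perm (fun a => (n : G) * a * (n : G)⁻¹)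
    (fun a _ b _ => by group) (fun a _ b _ e => mul_left_cancel (mul_right_cancel e)) (hP n n.2)
  have hev : ∀ s : Finset GolayPt, s.card = 2 → Even s.card := fun s hs => by rw [hs]; exact even_two
  have hmul : ∀ a b, f (a * b) = f a * f b := fun a b => h.perm_unique fun s hs => by
    rw [mul_smul, ← hf' a _ (by rw [Finset.card_smul_finset]; exact hev s hs), ← hf' b s (hev s hs),
      ← hf' (a * b) s (hev s hs), Subgroup.coe_mul]
    group
  refine ⟨MonoidHom.mk' (fun n => ⟨f n, hf n⟩) (fun a b => Subtype.ext (hmul a b)), fun n s hs => hf' n s hs,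
    fun n => ?_⟩
  constructor
  · intro e a ha
    have e' : f n = 1 := congrArg Subtype.val e
    obtain ⟨s, hs, rfl⟩ := h.gen a ha
    have := hf' n s hs
    rw [e', one_smul] at this
    exact mul_inv_eq_iff_eq_mul.1 this
  · intro hc
    refine Subtype.ext (h.perm_unique fun s hs => ?_)
    show val (f n • s) = val ((1 : Equiv.Perm GolayPt) • s)
    rw [one_smul, ← hf' n s (hev s hs), hc _ (h.mem s), mul_inv_cancel_right]

end Cfsg.Agent.Fus.LargeFischerPoints
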