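/-
In a group of large Fischer type the normaliser of the group of order `2^11` induces `M₂₄` on it, seen as the even
sets of points modulo the code, the pairs being the nonidentity elements not conjugate to the centre.
-/
import Cfsg.Agent.Lib.Fus.LargeFischerCoset
import Cfsg.Agent.Lib.Fus.LargeFischerPoints
import Cfsg.Agent.Lib.Spor.Golay.CensusTools

set_option autoImplicit false
set_option maxRecDepth 100000
set_option linter.unusedSectionVars false
set_option linter.style.haveILetI false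

open Cfsg Cfsg.Agent.Classical Cfsg.Agent.Spor.Cos Cfsg.Agent.Spor.LargeFischer Matrix
open Cfsg.Agent.Fus.LargeFischerAbelian
open Cfsg.Agent.Fus.LargeFischerLocal (AK)
open scoped Pointwise symmDiff

namespace Cfsg.Agent.Fus.LargeFischerNorm

open LargeFischerModel LargeFischerPoints LargeFischerCoords LargeFischerCoset
open Cfsg.Agent.Spor.Golay (idx pt pts vec basis isCode encAux pop)

theorem exists_mask (s : Finset GolayPt) : ∃ m < 2 ^ 24, pts m = s := by
  classical
  obtain ⟨m, hm, hbits⟩ := exists_bits 24 (fun i => decide (pt i ∈ s))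
  refine ⟨m, hm, Finset.ext fun p => ?_⟩
  rw [Spor.Golay.mem_pts, Nat.testBit_eq_decide_div_mod_eq, hbits _ (Spor.Golay.idx_lt p), Spor.Golay.pt_idx]
  by_cases h : p ∈ s <;> simp [h]

/-- The mask of a set of points. -/
noncomputable def mk (s : Finset GolayPt) : ℕ := (exists_mask s).choose

theorem mk_spec (s : Finset GolayPt) : mk s < 2 ^ 24 ∧ pts (mk s) = s := (exists_mask s).choose_spec

theorem mk_pts {m : ℕ} (h : m < 2 ^ 24) : mk (pts m) = m :=
  Spor.Golay.pts_injOn (mk_spec _).1 h (mk_spec _).2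

theorem mk_symmDiff (s t : Finset GolayPt) : mk (s ∆ t) = mk s ^^^ mk t := by
  conv_lhs => rw [← (mk_spec s).2, ← (mk_spec t).2, Spor.Golay.pts_symmDiff,
    mk_pts (Nat.xor_lt_two_pow (n := 24) (mk_spec s).1 (mk_spec t).1)]

theorem gam_xor (k a b : ℕ) : gam k (a ^^^ b) = gam k a ^^^ gam k b := by
  simp only [gam]
  induction List.range 24 with
  | nil => simp
  | cons p L ih =>
    rw [List.foldr_cons, List.foldr_cons, List.foldr_cons, ih, Nat.testBit_xor]
    generalize L.foldr (fun p acc => if a.testBit p then (P k).getD p 0 ^^^ acc else acc) 0 = x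
    generalize L.foldr (fun p acc => if b.testBit p then (P k).getD p 0 ^^^ acc else acc) 0 = y
    cases a.testBit p <;> cases b.testBit p <;> simp [Nat.xor_assoc, Nat.xor_comm, Nat.xor_left_comm]

theorem P_lt {k : ℕ} (hk : k < 3) (p : ℕ) : (P k).getD p 0 < 2048 := by
  have h := pts_ok k hk
  simp only [chkPts, Bool.and_eq_true, List.all_eq_true, Nat.blt_eq] at h
  rcases Nat.lt_or_ge p (P k).length with hp | hp
  · rw [List.getD_eq_getElem _ _ hp]; exact h.1.1.1.1.1.2 _ (List.getElem_mem _)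
  · rw [List.getD_eq_default _ _ hp]; norm_num

theorem gam_lt {k : ℕ} (hk : k < 3) (m : ℕ) : gam k m < 2048 := by
  rw [gam]
  induction List.range 24 with
  | nil => norm_num
  | cons p L ih =>
    simp only [List.foldr_cons]
    split
    · exact Nat.xor_lt_two_pow (n := 11) (P_lt hk p) ih
    · exact ih

theorem dotB_xor (n a b c : ℕ) : dotB n (a ^^^ b) c = xor (dotB n a c) (dotB n b c) := by
  simp only [dotB]
  induction List.range n with
  | nil => rfl
  | cons p L ih =>
    rw [List.foldr_cons, List.foldr_cons, List.foldr_cons, ih, Nat.testBit_xor]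
    cases a.testBit p <;> cases b.testBit p <;> cases c.testBit p <;> simp

theorem dotB_comm (n a b : ℕ) : dotB n a b = dotB n b a := by
  simp only [dotB, Bool.and_comm]

theorem dotB_zero (n a : ℕ) : dotB n a 0 = false := by
  simp only [dotB]
  induction List.range n with
  | nil => rfl
  | cons p L ih => simp

theorem enc_low : ∀ k < 4096, Spor.Golay.enc k % 4096 = k ∧ Spor.Golay.enc k < 2 ^ 24 := by
  intro k hk
  have h := Spor.Golay.codeList_check.2
  simp only [Spor.Golay.codeList, List.map_map] at h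
  have h' := List.map_eq_map_iff.mp (h.trans (List.map_id _).symm) k (List.mem_range.mpr hk)
  exact ⟨h', Spor.Golay.codeList_lt (List.mem_map.2 ⟨k, List.mem_range.mpr hk, rfl⟩)⟩

theorem dot_encAux {c : ℕ} (L : List ℕ) (h : ∀ b ∈ L, dotB 24 b c = false) :
    ∀ k i, dotB 24 (encAux k i L) c = false := by
  induction L with
  | nil => intro k i; rw [encAux, dotB_comm, dotB_zero]
  | cons b L ih =>
    intro k i
    rw [encAux, dotB_xor, ih (fun x hx => h x (List.mem_cons_of_mem _ hx))]
    split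
    · rw [h b (List.mem_cons_self ..)]; rfl
    · rw [dotB_comm, dotB_zero]; rfl

/-- Orthogonal masks are words. -/
theorem code_of_dot {m : ℕ} (hm : m < 2 ^ 24) (h : ∀ c ∈ basis, dotB 24 m c = false) : isCode m = true := by
  obtain ⟨h1, h2⟩ := enc_low (m % 4096) (Nat.mod_lt _ (by norm_num))
  have hlt : m ^^^ Spor.Golay.enc (m % 4096) < 2 ^ 24 := Nat.xor_lt_two_pow hm h2
  have hlow : (m ^^^ Spor.Golay.enc (m % 4096)) % 4096 = 0 := by rw [Spor.Golay.mod_xor, h1, Nat.xor_self]
  have hh : (m ^^^ Spor.Golay.enc (m % 4096)) / 4096 < 4096 := Nat.div_lt_of_lt_mul hlt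
  rcases high_code _ hh with h0 | h0
  · have : m ^^^ Spor.Golay.enc (m % 4096) = 0 := by omega
    rw [isCode, beq_iff_eq]
    exact (Nat.xor_eq_zero_iff.1 this).symm
  · exfalso
    obtain ⟨c, hc, hd⟩ := List.any_eq_true.1 h0
    rw [show (m ^^^ Spor.Golay.enc (m % 4096)) / 4096 * 4096 = m ^^^ Spor.Golay.enc (m % 4096) by omega] at hd
    have hb := basis_dot
    simp only [List.all_eq_true, Bool.not_eq_true'] at hb
    rw [dotB_xor, h c hc, Spor.Golay.enc, dot_encAux _ (fun b hb' => hb b hb' c hc)] at hd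
    exact Bool.false_ne_true hd

theorem gam_two_pow : ∀ k < 3, ∀ i < 24, gam k (2 ^ i) = (P k).getD i 0 := by decide +kernel

theorem basis_lt : ∀ b ∈ basis, b < 2 ^ 24 := by decide +kernel

theorem countP_pts (m : ℕ) : (List.range 24).countP (fun i => m.testBit i) = (pts m).card := by
  rw [List.countP_eq_length_filter, ← List.toFinset_card_of_nodup (List.nodup_range.filter _)]
  refine (Finset.card_bij (fun p _ => idx p) ?_ ?_ ?_).symm
  · intro p hp
    exact List.mem_toFinset.2 (List.mem_filter.2 ⟨List.mem_range.2 (Spor.Golay.idx_lt p), Spor.Golay.mem_pts.1 hp⟩)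
  · intro p _ q _ h
    exact Spor.Golay.idx_injective h
  · intro i hi
    obtain ⟨h1, h2⟩ := List.mem_filter.1 (List.mem_toFinset.1 hi)
    exact ⟨pt i, Spor.Golay.mem_pts.2 (by rw [Spor.Golay.idx_pt (List.mem_range.1 h1)]; exact h2),
      Spor.Golay.idx_pt (List.mem_range.1 h1)⟩

section

variable {G : Type*} [Group G] [Finite G] {z : G} {Q : Subgroup (Subgroup.centralizer ({z} : Set G))}
  [hQn : Q.Normal] {m : Model z Q}

/-- The element of a set of points. -/
noncomputable def valK (F : Frame m) (s : Finset GolayPt) : G := (F.phi (gam m.k (mk s)) : G)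

theorem valK_pts (F : Frame m) : Pts (AK m) (valK F) := by
  have hk := m.hk
  have h := pts_ok m.k hk
  simp only [chkPts, Bool.and_eq_true, List.all_eq_true, List.mem_range, Nat.blt_eq, Nat.beq_eq, beq_iff_eq] at h
  obtain ⟨⟨⟨-, hbasis⟩, hpsi⟩, hmh⟩ := h
  have hzero : F.phi 0 = 1 := by rw [F.phi_small (by norm_num), F.pu_zero]
  refine ⟨fun s => ⟨_, F.phi_mem _, rfl⟩, fun s t => ?_, (LargeFischerLocal.AK_big m).2.1, fun b hb => ?_, ?_, ?_⟩
  · rw [valK, valK, valK, mk_symmDiff, gam_xor, F.phi_xor, Subgroup.coe_mul]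
  · rw [valK, mk_pts (basis_lt b hb), hbasis b hb, hzero, Subgroup.coe_one]
  · intro s hev hs
    obtain ⟨hm, hsm⟩ := mk_spec s
    have hg : gam m.k (mk s) = 0 := F.phi_eq_one (gam_lt hk _) (Subtype.ext hs)
    refine Spor.Golay.mem_supports.2 ⟨mk s, Spor.Golay.mem_codeList.2 (code_of_dot hm fun c hc => ?_), hsm.symm⟩
    obtain ⟨i, hi, rfl⟩ := List.getElem_of_mem hc
    obtain ⟨-, hp⟩ := hpsi i (show i < 12 from hi)
    rw [← List.getD_eq_getElem _ 0 hi]
    generalize basis.getD i 0 = c at hp ⊢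
    generalize (psi m.k).getD i 0 = ψ at hp
    have key : ∀ L : List ℕ, (∀ p ∈ L, p < 24) →
        dotB 11 ψ (L.foldr (fun p acc => if (mk s).testBit p then (P m.k).getD p 0 ^^^ acc else acc) 0) =
          xor (L.foldr (fun p acc => xor ((mk s).testBit p && c.testBit p) acc) false)
            (c.testBit 23 && decide (L.countP (fun p => (mk s).testBit p) % 2 = 1)) := by
      intro L
      induction L with
      | nil => intro _; simp [dotB_zero]
      | cons p L ih =>
        intro hL
        have hp' := hp p (hL p (List.mem_cons_self ..))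
        simp only [List.foldr_cons, List.countP_cons]
        cases (mk s).testBit p
        · simp only [Bool.false_eq_true, if_false, Bool.false_and, Bool.false_bne, Nat.add_zero]
          exact ih fun q hq => hL q (List.mem_cons_of_mem _ hq)
        · rw [if_pos rfl, if_pos rfl, dotB_comm, dotB_xor, dotB_comm 11 _ ψ, hp', dotB_comm 11 _ ψ,
            ih fun q hq => hL q (List.mem_cons_of_mem _ hq)]
          rcases Nat.mod_two_eq_zero_or_one (L.countP fun p => (mk s).testBit p) with e | e <;>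
            rw [Nat.add_mod, e] <;> cases c.testBit p <;> cases c.testBit 23 <;> simp
    have e := key (List.range 24) fun p hp => List.mem_range.1 hp
    rw [show (List.range 24).foldr _ 0 = gam m.k (mk s) from rfl, hg, dotB_zero, countP_pts, hsm,
      Nat.even_iff.1 hev, show decide (0 = 1) = false from rfl, Bool.and_false, Bool.xor_false] at e
    exact e.symm
  · have hgen : ∀ n ≤ 11, ∀ c < 2 ^ n, ∃ u < 2 ^ 24, Even (pts u).card ∧ gam m.k u = c := by
      intro n
      induction n with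
      | zero =>
        intro _ c hc
        obtain rfl : c = 0 := by simpa using hc
        exact ⟨0, by norm_num, by simp [pts], by
          rw [gam]
          induction List.range 24 with
          | nil => rfl
          | cons p L ih => simp⟩
      | succ n ih =>
        intro hn c hc
        rcases Nat.lt_or_ge c (2 ^ n) with hlt | hge
        · exact ih (by omega) c hlt
        have hbit : c.testBit n = true := by
          rw [Nat.testBit_eq_decide_div_mod_eq, decide_eq_true_eq]
          have : c / 2 ^ n = 1 := by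
            refine le_antisymm (Nat.lt_succ_iff.1 (Nat.div_lt_of_lt_mul (by rw [pow_succ] at hc; omega))) ?_
            exact (Nat.le_div_iff_mul_le (by positivity)).2 (by omega)
          rw [this]
        have hx : c ^^^ 2 ^ n < 2 ^ n := by
          refine Nat.lt_pow_two_of_testBit _ fun i hi => ?_
          rw [Nat.testBit_xor, Nat.testBit_two_pow]
          rcases Nat.lt_or_eq_of_le hi with h | h
          · rw [Nat.testBit_lt_two_pow (hc.trans_le (Nat.pow_le_pow_right two_pos h)), decide_eq_false h.ne]; rfl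
          · rw [← h, hbit, decide_eq_true rfl]; rfl
        obtain ⟨u, hu, hev, he⟩ := ih (by omega) _ hx
        obtain ⟨⟨hlt, hpar⟩, hg⟩ := hmh n (by omega)
        refine ⟨u ^^^ (mh m.k).getD n 0, Nat.xor_lt_two_pow hu hlt, ?_, ?_⟩
        · rw [← Spor.Golay.pts_symmDiff]
          have := card_symmDiff' (pts u) (pts ((mh m.k).getD n 0))
          have h2 : Even (pts ((mh m.k).getD n 0)).card := by rw [Spor.Golay.card_pts, Nat.even_iff]; exact hpar
          rw [Nat.even_iff] at hev h2 ⊢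
          omega
        · rw [gam_xor, he, hg, Nat.xor_assoc, Nat.xor_self, Nat.xor_zero]
    rintro _ ⟨y, hy, rfl⟩
    obtain ⟨c, hc, rfl⟩ := F.phi_surj hy
    obtain ⟨u, hu, hev, he⟩ := hgen 11 le_rfl c hc
    exact ⟨pts u, hev, by rw [valK, mk_pts hu, he]; rfl⟩

theorem pts_two_pow {i : ℕ} (hi : i < 24) : pts (2 ^ i) = {pt i} := by
  ext p
  rw [Spor.Golay.mem_pts, Nat.testBit_two_pow, decide_eq_true_eq, Finset.mem_singleton]
  exact ⟨fun h => by rw [h, Spor.Golay.pt_idx], fun h => by rw [h, Spor.Golay.idx_pt hi]⟩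

theorem pairSet_valK (F : Frame m)
    (hX : ∀ c < 2048, (((Xo m.k).getD (good m.k) 0).testBit c = true ↔ NC (F.phi c))) :
    pairSet (valK F) = XS m := by
  have hk := m.hk
  have h := pts_ok m.k hk
  simp only [chkPts, Bool.and_eq_true, Nat.beq_eq] at h
  have hmask := h.1.1.1.2
  have hbit : ∀ (L : List ℕ) (c : ℕ), ((L.foldr (fun x acc => 2 ^ x ||| acc) 0).testBit c = true ↔ c ∈ L) := by
    intro L c
    induction L with
    | nil => simp
    | cons x L ih =>
      rw [List.foldr_cons, Nat.testBit_or, Bool.or_eq_true, ih, Nat.testBit_two_pow, decide_eq_true_eq, List.mem_cons,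
        eq_comm]
  have hval : ∀ i j, i < 24 → j < 24 → valK F ({pt i} ∆ {pt j}) =
      (F.phi ((P m.k).getD i 0 ^^^ (P m.k).getD j 0) : G) := fun i j hi hj => by
    rw [valK, mk_symmDiff, ← pts_two_pow hi, ← pts_two_pow hj, mk_pts (Nat.pow_lt_pow_right (by norm_num) hi),
      mk_pts (Nat.pow_lt_pow_right (by norm_num) hj), gam_xor, gam_two_pow _ hk i hi, gam_two_pow _ hk j hj]
  have hpair : ∀ p q : GolayPt, p ≠ q → ({p} : Finset GolayPt) ∆ {q} = {p, q} := fun p q hpq => by
    ext u
    simp only [Finset.mem_symmDiff, Finset.mem_singleton, Finset.mem_insert]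
    constructor
    · tauto
    · rintro (rfl | rfl)
      exacts [Or.inl ⟨rfl, hpq⟩, Or.inr ⟨rfl, Ne.symm hpq⟩]
  have hmem : ∀ c, c ∈ pairs m.k ↔ ∃ p < 24, ∃ q < p, (P m.k).getD p 0 ^^^ (P m.k).getD q 0 = c := fun c => by
    simp [pairs, List.mem_flatten]
  ext a
  constructor
  · rintro ⟨s, hs, rfl⟩
    obtain ⟨p, q, hpq, rfl⟩ := Finset.card_eq_two.1 hs
    have hne : idx p ≠ idx q := fun e => hpq (Spor.Golay.idx_injective e)
    have e : valK F {p, q} = (F.phi ((P m.k).getD (idx p) 0 ^^^ (P m.k).getD (idx q) 0) : G) := by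
      rw [← hpair p q hpq, ← hval _ _ (Spor.Golay.idx_lt p) (Spor.Golay.idx_lt q), Spor.Golay.pt_idx,
        Spor.Golay.pt_idx]
    have hc : (P m.k).getD (idx p) 0 ^^^ (P m.k).getD (idx q) 0 ∈ pairs m.k := by
      rw [hmem]
      rcases Nat.lt_or_gt_of_ne hne with h | h
      · exact ⟨idx q, Spor.Golay.idx_lt q, idx p, h, Nat.xor_comm _ _⟩
      · exact ⟨idx p, Spor.Golay.idx_lt p, idx q, h, rfl⟩
    rw [← hbit, hmask] at hc
    have := (hX _ (Nat.xor_lt_two_pow (n := 11) (P_lt hk _) (P_lt hk _))).1 hc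
    rw [e]
    exact ⟨⟨_, F.phi_mem _, rfl⟩, this.1, this.2⟩
  · rintro ⟨⟨y, hy, rfl⟩, h1, h2⟩
    obtain ⟨c, hc, rfl⟩ := F.phi_surj hy
    have hm' : c ∈ pairs m.k := by rw [← hbit, hmask]; exact (hX c hc).2 ⟨h1, h2⟩
    obtain ⟨p, hp, q, hq, rfl⟩ := (hmem c).1 hm'
    have hne : pt p ≠ pt q := fun e => by
      have := congrArg idx e
      rw [Spor.Golay.idx_pt hp, Spor.Golay.idx_pt (hq.trans hp)] at this
      omega
    exact ⟨_, Finset.card_pair hne, by rw [← hpair _ _ hne, hval p q hp (hq.trans hp)]; rfl⟩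

end

/-- The Thompson subgroup and the action of its normaliser. -/
theorem exists_action {G : Type*} [Group G] [Finite G] (z : G) (Q : Subgroup (Subgroup.centralizer ({z} : Set G)))
    [Q.Normal] (hF : IsOfLargeFischerTypeAt z Q) (T : Sylow 2 G) (A : Subgroup G)
    (hA : A = thompsonSubgroupOf 2 (T : Subgroup G)) :
    LargeFischerLocal.Big A ∧ Nat.card A = 2 ^ 11 ∧
      (∀ a ∈ A, ∀ g : G, g * a * g⁻¹ ∈ A → ∃ n ∈ Subgroup.normalizer (A : Set G), n * a * n⁻¹ = g * a * g⁻¹) ∧
      (∃ a ∈ A, IsConj z a) ∧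
      ∃ (val : Finset GolayPt → G) (χ : ↥(Subgroup.normalizer (A : Set G)) →* ↥M24),
        Pts A val ∧ (∀ a, a ∈ pairSet val ↔ a ∈ A ∧ a ≠ 1 ∧ ¬ IsConj z a) ∧ Function.Surjective χ ∧
        (∀ n : ↥(Subgroup.normalizer (A : Set G)), χ n = 1 ↔ (n : G) ∈ A) ∧
        ∀ (n : ↥(Subgroup.normalizer (A : Set G))) (s : Finset GolayPt), Even s.card →
          (n : G) * val s * (n : G)⁻¹ = val ((χ n : Equiv.Perm GolayPt) • s) := by
  obtain ⟨m⟩ := exists_model hF
  obtain ⟨hZ, F, hX⟩ := exists_coords (m := m) hF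
  obtain ⟨g, hg⟩ := LargeFischerLocal.thompson_conj m hF T
  rw [← hA] at hg
  subst hg
  have hmem : ∀ a, a ∈ (AK m).map (MulAut.conj g).toMonoidHom ↔ g⁻¹ * a * g ∈ AK m := fun a => by
    constructor
    · rintro ⟨b, hb, rfl⟩
      show g⁻¹ * (g * b * g⁻¹) * g ∈ AK m
      rwa [show g⁻¹ * (g * b * g⁻¹) * g = b by group]
    · intro h
      exact ⟨_, h, by show g * (g⁻¹ * a * g) * g⁻¹ = a; group⟩
  have hnorm : ∀ n, n ∈ Subgroup.normalizer (((AK m).map (MulAut.conj g).toMonoidHom : Subgroup G) : Set G) ↔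
      g⁻¹ * n * g ∈ Subgroup.normalizer (AK m : Set G) := fun n => by
    simp only [Subgroup.mem_normalizer_iff, hmem]
    constructor
    · intro h b
      have := h (g * b * g⁻¹)
      rw [show g⁻¹ * (g * b * g⁻¹) * g = b by group,
        show g⁻¹ * (n * (g * b * g⁻¹) * n⁻¹) * g = g⁻¹ * n * g * b * (g⁻¹ * n * g)⁻¹ by group] at this
      exact this
    · intro h a
      rw [h, show g⁻¹ * n * g * (g⁻¹ * a * g) * (g⁻¹ * n * g)⁻¹ = g⁻¹ * (n * a * n⁻¹) * g by group]
  set val : Finset GolayPt → G := fun s => g * valK F s * g⁻¹ with hval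
  have hK := valK_pts F
  have hP : Pts ((AK m).map (MulAut.conj g).toMonoidHom) val := by
    refine ⟨fun s => ⟨_, hK.mem s, rfl⟩, fun s t => ?_, ?_, fun b hb => ?_, fun s hs e => hK.kernel s hs ?_, ?_⟩
    · simp only [hval, hK.mul]; group
    · rintro _ ⟨b, hb, rfl⟩
      rw [← map_mul, hK.sq b hb, map_one]
    · simp only [hval, hK.code b hb, mul_one, mul_inv_cancel]
    · exact conj_eq_one_iff.1 e
    · rintro _ ⟨b, hb, rfl⟩
      obtain ⟨s, hs, rfl⟩ := hK.gen b hb
      exact ⟨s, hs, rfl⟩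
  have hpairs : ∀ a, a ∈ pairSet val ↔
      a ∈ (AK m).map (MulAut.conj g).toMonoidHom ∧ a ≠ 1 ∧ ¬ IsConj z a := fun a => by
    have h := Set.ext_iff.1 (pairSet_valK F hX) (g⁻¹ * a * g)
    have hc : IsConj z (g⁻¹ * a * g) ↔ IsConj z a := by
      conv_lhs => rw [show g⁻¹ * a * g = g⁻¹ * a * g⁻¹⁻¹ by rw [inv_inv]]
      exact isConj_conj
    have h1 : g⁻¹ * a * g = 1 ↔ a = 1 := by
      rw [show g⁻¹ * a * g = g⁻¹ * a * g⁻¹⁻¹ by rw [inv_inv], conj_eq_one_iff]
    have hL : a ∈ pairSet val ↔ g⁻¹ * a * g ∈ pairSet (valK F) := by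
      constructor
      · rintro ⟨s, hs, rfl⟩
        exact ⟨s, hs, by simp only [hval]; group⟩
      · rintro ⟨s, hs, e⟩
        exact ⟨s, hs, by simp only [hval, e]; group⟩
    rw [hL, h, hmem]
    show (_ ∧ _ ∧ _) ↔ _
    rw [hc, ne_eq, h1]
  have hcard : Nat.card ↥((AK m).map (MulAut.conj g).toMonoidHom) = 2 ^ 11 := by
    rw [Subgroup.card_map_of_injective (MulAut.conj g).injective, LargeFischerLocal.card_AK]
  have hbig := (LargeFischerLocal.AK_big m).map (f := (MulAut.conj g).toMonoidHom) (MulAut.conj g).injective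
  refine ⟨hbig, hcard, ?_, ?_, ?_⟩
  · intro a ha u hu
    obtain ⟨n, hn, e⟩ := LargeFischerLocal.fusion m hF (g := g⁻¹ * u * g) ((hmem a).1 ha) (by
      have := (hmem _).1 hu
      rwa [show g⁻¹ * (u * a * u⁻¹) * g = g⁻¹ * u * g * (g⁻¹ * a * g) * (g⁻¹ * u * g)⁻¹ by group] at this)
    refine ⟨g * n * g⁻¹, (hnorm _).2 (by rwa [show g⁻¹ * (g * n * g⁻¹) * g = n by group]), ?_⟩
    calc g * n * g⁻¹ * a * (g * n * g⁻¹)⁻¹ = g * (n * (g⁻¹ * a * g) * n⁻¹) * g⁻¹ := by group
      _ = g * (g⁻¹ * u * g * (g⁻¹ * a * g) * (g⁻¹ * u * g)⁻¹) * g⁻¹ := by rw [e]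
      _ = _ := by group
  · exact ⟨_, ⟨z, LargeFischerLocal.z_mem_AK m, rfl⟩, _root_.isConj_iff.2 ⟨g, rfl⟩⟩
  obtain ⟨χ, hχ, hker⟩ := hP.exists_hom fun n hn a ha => by
    rw [hpairs, hpairs, isConj_conj, ne_eq, ne_eq, conj_eq_one_iff, ← (Subgroup.mem_normalizer_iff.1 hn a)]
  have hker' : ∀ n, χ n = 1 ↔ (n : G) ∈ (AK m).map (MulAut.conj g).toMonoidHom := fun n => by
    rw [hker]
    refine ⟨fun h => (hmem _).2 (LargeFischerLocal.self_cent m hF fun b hb => ?_), fun h a ha => hbig.1 _ h a ha⟩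
    have := h (g * b * g⁻¹) ⟨b, hb, rfl⟩
    calc g⁻¹ * (n : G) * g * b = g⁻¹ * ((n : G) * (g * b * g⁻¹)) * g := by group
      _ = g⁻¹ * (g * b * g⁻¹ * (n : G)) * g := by rw [this]
      _ = _ := by group
  refine ⟨val, χ, hP, hpairs, ?_, hker', hχ⟩
  -- counting
  have hN : Nat.card ↥(Subgroup.normalizer (((AK m).map (MulAut.conj g).toMonoidHom : Subgroup G) : Set G)) =
      Nat.card ↥(Subgroup.normalizer (AK m : Set G)) := by
    have hEq : Subgroup.normalizer (((AK m).map (MulAut.conj g).toMonoidHom : Subgroup G) : Set G) =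
        (Subgroup.normalizer (AK m : Set G)).map (MulAut.conj g).toMonoidHom := by
      ext n
      rw [hnorm]
      constructor
      · intro h
        exact ⟨_, h, by show g * (g⁻¹ * n * g) * g⁻¹ = n; group⟩
      · rintro ⟨b, hb, rfl⟩
        show g⁻¹ * (g * b * g⁻¹) * g ∈ _
        rwa [show g⁻¹ * (g * b * g⁻¹) * g = b by group]
    rw [hEq, Subgroup.card_map_of_injective (MulAut.conj g).injective]
  have hkcard : Nat.card χ.ker = 2 ^ 11 := by
    rw [← hcard]
    exact Nat.card_congr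
      { toFun := fun n => ⟨_, (hker' n.1).1 n.2⟩
        invFun := fun a => ⟨⟨a.1, Subgroup.le_normalizer a.2⟩, (hker' _).2 a.2⟩
        left_inv := fun n => rfl
        right_inv := fun a => rfl }
  have hrange := χ.ker.card_mul_index
  rw [Subgroup.index_ker, hkcard, hN, LargeFischerCoset.card_normalizer m hF, hZ] at hrange
  have hlow := LargeFischerStabCount.card_norm_centralizer m hF
  rw [← MonoidHom.range_eq_top]
  refine Subgroup.eq_top_of_le_card _ ?_
  rw [Spor.Golay.card_M24]
  generalize Nat.card ↥(Subgroup.normalizer (AK m : Set G) ⊓ Subgroup.centralizer ({z} : Set G)) = u at hrange hlow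
  generalize Nat.card χ.range = r at hrange ⊢
  norm_num at hrange hlow ⊢
  omega

end Cfsg.Agent.Fus.LargeFischerNorm
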