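/-
The automorphism group of the graph of the 45 totally singular lines of the six-dimensional quadratic space of minus
type over the field with two elements embeds in the isometry group of the form.
-/
import Cfsg.Prelude.Def_Classical

set_option autoImplicit false
set_option maxRecDepth 100000

namespace Cfsg.Agent.Fus.GQTwoFour

open Matrix

/-- The index set of the coordinates. -/
abbrev I6 : Type := (Fin 2 ⊕ Fin 2) ⊕ Fin 2

/-- The place of a coordinate. -/
def bit : I6 → ℕ
  | .inl (.inl i) => i.1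
  | .inl (.inr i) => 2 + i.1
  | .inr i => 4 + i.1

/-- The twenty-seven singular points as codes. -/
def ptC : List ℕ :=
  [1, 2, 3, 4, 6, 8, 9, 12, 15, 21, 23, 26, 27, 29, 30, 37, 39, 42, 43, 45, 46, 53, 55, 58, 59, 61, 62]

/-- A singular point. -/
def pt (j : Fin 27) : I6 → ZMod 2 := fun x => (((ptC.getD j.1 0) >>> bit x) % 2 : ℕ)

/-- The forty-five lines, each with its three points. -/
def lineC : List (List ℕ) :=
  [[0, 1, 2], [0, 5, 6], [0, 11, 12], [0, 17, 18], [0, 23, 24], [1, 3, 4], [1, 9, 10], [1, 15, 16], [1, 21, 22],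
    [2, 7, 8], [2, 13, 14], [2, 19, 20], [2, 25, 26], [3, 5, 7], [3, 11, 14], [3, 17, 20], [3, 23, 26], [4, 6, 8],
    [4, 12, 13], [4, 18, 19], [4, 24, 25], [5, 9, 13], [5, 15, 19], [5, 21, 25], [6, 10, 14], [6, 16, 20],
    [6, 22, 26], [7, 10, 12], [7, 16, 18], [7, 22, 24], [8, 9, 11], [8, 15, 17], [8, 21, 23], [9, 18, 26],
    [9, 20, 24], [10, 17, 25], [10, 19, 23], [11, 16, 25], [11, 19, 22], [12, 15, 26], [12, 20, 21], [13, 16, 23],
    [13, 17, 22], [14, 15, 24], [14, 18, 21]]

/-- A point lies on a line. -/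
def star (j : Fin 27) (i : Fin 45) : Bool := (lineC.getD i.1 []).contains j.1

/-- Two lines share a point. -/
def meet (i i' : Fin 45) : Bool := (lineC.getD i.1 []).any fun j => (lineC.getD i'.1 []).contains j

/-- A matrix from the codes of its rows. -/
def mk (rows : List ℕ) : Matrix I6 I6 (ZMod 2) := fun x y => (((rows.getD (bit x) 0) >>> bit y) % 2 : ℕ)

/-- Six points forming a basis. -/
def bas (x : I6) : Fin 27 := ⟨[0, 1, 3, 5, 9, 15].getD (bit x) 0, by revert x; decide⟩

/-- The basis as a matrix. -/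
def phi : Matrix I6 I6 (ZMod 2) := fun x y => pt (bas y) x

/-- Its inverse. -/
def phiInv : Matrix I6 I6 (ZMod 2) := mk [49, 2, 52, 8, 16, 32]

/-- The inverse of the Gram matrix of the basis. -/
def gramInv : Matrix I6 I6 (ZMod 2) := mk [52, 8, 49, 2, 37, 21]

/-- The bilinear form of the quadratic form. -/
def polM : Matrix I6 I6 (ZMod 2) := fun x y =>
  match x, y with
  | .inl (.inl i), .inl (.inr j) => if i = j then 1 else 0
  | .inl (.inr i), .inl (.inl j) => if i = j then 1 else 0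
  | .inr i, .inr j => if i = j then 0 else 1
  | _, _ => 0

theorem star_two : ∀ j, ∃ i i', i ≠ i' ∧ star j i = true ∧ star j i' = true := by decide +kernel

theorem star_meet : ∀ j i i', star j i = true → star j i' = true → i ≠ i' →
    ∀ c, (meet c i && meet c i') = star j c := by decide +kernel

theorem meet_star : ∀ i i', meet i i' = true → ∃ j, star j i = true ∧ star j i' = true := by decide +kernel

theorem star_inj : ∀ j j', (∀ i, star j i = star j' i) → j = j' := by decide +kernel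

theorem line_inj : ∀ i i', (∀ j, star j i = star j i') → i = i' := by decide +kernel

theorem pol_pt : ∀ j j', pt j ⬝ᵥ polM *ᵥ pt j' = if ∃ i, star j i = true ∧ star j' i = true then 0 else 1 := by
  decide +kernel

theorem singular_pt : ∀ v : I6 → ZMod 2, quadFormMinus 2 (ZMod 2) 1 1 v = 0 ↔ v = 0 ∨ ∃ j, v = pt j := by
  decide +kernel

theorem pt_inj : ∀ j j', pt j = pt j' → j = j' := by decide +kernel

theorem phi_inv : phi * phiInv = 1 := by decide +kernel

theorem gram_inv : gramInv * (phiᵀ * polM * phi) = 1 := by decide +kernel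

theorem ais (a : Equiv.Perm (Fin 45)) (i : Fin 45) : a (a⁻¹ i) = i := a.apply_symm_apply i

/-- The automorphisms of the graph on the lines. -/
def Aut : Subgroup (Equiv.Perm (Fin 45)) where
  carrier := {π | ∀ i i', meet (π i) (π i') = meet i i'}
  one_mem' := fun _ _ => rfl
  mul_mem' := fun {a b} ha hb i i' => (ha _ _).trans (hb i i')
  inv_mem' := fun {a} ha i i' => by
    have := ha (a⁻¹ i) (a⁻¹ i')
    rwa [ais, ais, eq_comm] at this

theorem exists_psi (π : Aut) (j : Fin 27) : ∃ j', ∀ c, star j' (π.1 c) = star j c := by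
  obtain ⟨i, i', hne, hi, hi'⟩ := star_two j
  have h := star_meet j i i' hi hi' hne
  have hm : meet (π.1 i) (π.1 i') = true := by
    rw [π.2]
    have := h i
    rw [hi, Bool.and_eq_true] at this
    exact this.2
  obtain ⟨j', h1, h2⟩ := meet_star _ _ hm
  exact ⟨j', fun c => by
    rw [← star_meet j' _ _ h1 h2 (π.1.injective.ne hne), π.2, π.2, h]⟩

/-- The image of a point. -/
noncomputable def psi (π : Aut) (j : Fin 27) : Fin 27 := (exists_psi π j).choose

theorem psi_star (π : Aut) (j : Fin 27) (c : Fin 45) : star (psi π j) (π.1 c) = star j c :=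
  (exists_psi π j).choose_spec c

theorem psi_unique {π : Aut} {j j' : Fin 27} (h : ∀ c, star j' (π.1 c) = star j c) : psi π j = j' :=
  star_inj _ _ fun i => by rw [← ais π.1 i, psi_star, h]

theorem psi_one (j : Fin 27) : psi 1 j = j := psi_unique fun _ => rfl

theorem psi_mul (π ρ : Aut) (j : Fin 27) : psi (π * ρ) j = psi π (psi ρ j) :=
  psi_unique fun c => by
    show star _ (π.1 (ρ.1 c)) = _
    rw [psi_star, psi_star]

/-- The images of the basis. -/
noncomputable def imgM (π : Aut) : Matrix I6 I6 (ZMod 2) := fun x y => pt (psi π (bas y)) x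

/-- The matrix of an automorphism. -/
noncomputable def lmat (π : Aut) : Matrix I6 I6 (ZMod 2) := imgM π * phiInv

theorem pol_psi (π : Aut) (j j' : Fin 27) :
    pt (psi π j) ⬝ᵥ polM *ᵥ pt (psi π j') = pt j ⬝ᵥ polM *ᵥ pt j' := by
  rw [pol_pt, pol_pt]
  refine if_congr ⟨?_, ?_⟩ rfl rfl
  · rintro ⟨i, h1, h2⟩
    refine ⟨π.1⁻¹ i, ?_, ?_⟩
    · rw [← psi_star π, ais]; exact h1
    · rw [← psi_star π, ais]; exact h2
  · rintro ⟨i, h1, h2⟩
    exact ⟨π.1 i, by rw [psi_star, h1], by rw [psi_star, h2]⟩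

theorem imgM_entry (π : Aut) (v : I6 → ZMod 2) :
    ((imgM π)ᵀ * polM) *ᵥ v = fun y => pt (psi π (bas y)) ⬝ᵥ polM *ᵥ v := by
  funext y
  rw [← Matrix.mulVec_mulVec]
  rfl

theorem gram_eq (π : Aut) : (imgM π)ᵀ * polM * imgM π = phiᵀ * polM * phi := by
  ext x y
  have h : ∀ A : Matrix I6 I6 (ZMod 2), (Aᵀ * polM * A) x y = (fun k => A k x) ⬝ᵥ polM *ᵥ (fun k => A k y) :=
    fun A => by
      rw [Matrix.mul_assoc, Matrix.mul_apply']
      rfl
  rw [h, h]
  exact pol_psi π (bas x) (bas y)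

theorem lmat_pt (π : Aut) (j : Fin 27) : lmat π *ᵥ pt j = pt (psi π j) := by
  set W := gramInv * (imgM π)ᵀ * polM with hW
  have hWU : W * imgM π = 1 := by
    rw [hW, Matrix.mul_assoc, Matrix.mul_assoc, ← Matrix.mul_assoc (imgM π)ᵀ, gram_eq, gram_inv]
  have hUW : imgM π * W = 1 := mul_eq_one_comm.1 hWU
  have e : ((imgM π)ᵀ * polM) *ᵥ (lmat π *ᵥ pt j) = ((imgM π)ᵀ * polM) *ᵥ pt (psi π j) := by
    rw [Matrix.mulVec_mulVec, lmat, ← Matrix.mul_assoc, gram_eq, imgM_entry π _, Matrix.mul_assoc,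
      phi_inv, Matrix.mul_one, ← Matrix.mulVec_mulVec]
    funext y
    rw [pol_psi]
    rfl
  have := congrArg ((imgM π * gramInv) *ᵥ ·) e
  simp only [Matrix.mulVec_mulVec] at this
  rw [← Matrix.mul_assoc, Matrix.mul_assoc (imgM π) gramInv, ← Matrix.mul_assoc gramInv, ← hW, hUW,
    Matrix.one_mul, Matrix.one_mulVec] at this
  exact this

theorem lmat_unique (π : Aut) {N : Matrix I6 I6 (ZMod 2)} (h : ∀ j, N *ᵥ pt j = pt (psi π j)) : N = lmat π := by
  have e : N * phi = imgM π := by
    ext x y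
    exact congrFun (h (bas y)) x
  rw [lmat, ← e, Matrix.mul_assoc, phi_inv, Matrix.mul_one]

/-- The matrices as a homomorphism. -/
noncomputable def lmatHom : Aut →* Matrix I6 I6 (ZMod 2) where
  toFun := lmat
  map_one' := (lmat_unique 1 fun j => by rw [Matrix.one_mulVec, psi_one]).symm
  map_mul' := fun π ρ => (lmat_unique _ fun j => by
    rw [← Matrix.mulVec_mulVec, lmat_pt, lmat_pt, psi_mul]).symm

theorem singular_iff (π : Aut) (v : I6 → ZMod 2) :
    quadFormMinus 2 (ZMod 2) 1 1 (lmat π *ᵥ v) = 0 ↔ quadFormMinus 2 (ZMod 2) 1 1 v = 0 := by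
  have key : ∀ (ρ : Aut) (u : I6 → ZMod 2), quadFormMinus 2 (ZMod 2) 1 1 u = 0 →
      quadFormMinus 2 (ZMod 2) 1 1 (lmat ρ *ᵥ u) = 0 := by
    intro ρ u hu
    rw [singular_pt] at hu ⊢
    rcases hu with rfl | ⟨j, rfl⟩
    · exact Or.inl (Matrix.mulVec_zero _)
    · exact Or.inr ⟨_, lmat_pt ρ j⟩
  refine ⟨fun h => ?_, key π v⟩
  have := key π⁻¹ _ h
  rwa [Matrix.mulVec_mulVec, ← show lmatHom (π⁻¹ * π) = lmat π⁻¹ * lmat π from map_mul lmatHom _ _,
    inv_mul_cancel, map_one, Matrix.one_mulVec] at this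

theorem two_cases : ∀ a b : ZMod 2, (a = 0 ↔ b = 0) → a = b := by decide

/-- The homomorphism into the isometry group. -/
noncomputable def toIsometry : Aut →* isometryGroup (ZMod 2) (quadFormMinus 2 (ZMod 2) 1 1) :=
  lmatHom.toHomUnits.codRestrict _ fun π => fun u _ => two_cases _ _ (singular_iff π u)

theorem toIsometry_injective : Function.Injective toIsometry := by
  rw [injective_iff_map_eq_one]
  intro π h
  have h1 : lmat π = 1 := congrArg (fun g : isometryGroup (ZMod 2) (quadFormMinus 2 (ZMod 2) 1 1) =>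
    ((g.1 : Matrix.GeneralLinearGroup I6 (ZMod 2)) : Matrix I6 I6 (ZMod 2))) h
  have hpsi : ∀ j, psi π j = j := fun j => pt_inj _ _ (by rw [← lmat_pt, h1, Matrix.one_mulVec])
  refine Subtype.ext (Equiv.ext fun i => line_inj _ _ fun j => ?_)
  have := psi_star π j i
  rwa [hpsi] at this

end Cfsg.Agent.Fus.GQTwoFour
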