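/-
The stabiliser of a vector of the short orbit permutes the 45 lines above it as the full isometry group of the
six-dimensional quadratic space of minus type over the field with two elements.
-/
import Cfsg.Agent.Lib.Fus.LargeFischerOuter
import Cfsg.Agent.Lib.Fus.GQTwoFour
import Cfsg.Agent.S0288

set_option autoImplicit false
set_option maxRecDepth 100000
set_option linter.unusedSectionVars false
set_option linter.style.haveILetI false

open Cfsg Cfsg.Agent.Classical Cfsg.Agent.Spor.LargeFischer Matrix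
open Cfsg.Agent.Spor.USixTwo (K4 vecOf)
open Cfsg.Agent.Spor.U62U43 (cover62)
open Cfsg.Agent.Fus.LargeFischerScalar Cfsg.Agent.Fus.GQTwoFour

namespace Cfsg.Agent.Fus.LargeFischerStab

/-- One vector on each of the lines, ordered as the lines of the quadric. -/
def linePts : ℕ → List ℕ
  | 0 => [66, 1336, 1501, 1382, 1411, 1592, 1703, 1729, 1630, 1848, 1858, 1951, 2021, 101, 1601, 1722, 1731, 123,
      1730, 1659, 1665, 1446, 1531, 1381, 1383, 1465, 1510, 2015, 1913, 1950, 1949, 2042, 1887, 286, 1180, 348,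
      1055, 1025, 504, 1216, 313, 420, 1062, 295, 1124]
  | 1 => [86, 1280, 1513, 1386, 1411, 1576, 1727, 1789, 1642, 1812, 1898, 1963, 2005, 107, 1730, 1643, 1665, 125,
      1641, 1686, 1751, 1407, 1409, 1534, 1410, 1495, 1365, 1921, 2006, 1859, 2007, 1917, 1982, 380, 1047, 298,
      1212, 1276, 257, 1025, 508, 279, 1148, 444, 1066]
  | _ => [68, 1280, 1501, 1399, 1450, 1553, 1706, 1791, 1604, 1843, 1877, 1962, 1996, 72, 1766, 1659, 1676, 76,
      1646, 1719, 1736, 1369, 1471, 1510, 1429, 1531, 1390, 1949, 2022, 1864, 2009, 1902, 1924, 354, 1066, 294,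
      1186, 1250, 302, 1070, 482, 298, 1122, 418, 1062]

/-- Three members above the point summing to it. -/
def sumPts : ℕ → List ℕ
  | 0 => [66, 1336, 1382]
  | 1 => [86, 1576, 1642]
  | _ => [68, 1553, 1604]

/-- A line representative as a code. -/
def lpC (k : ℕ) (i : Fin 45) : ℕ := (linePts k).getD i.1 0

/-- The triple product of the form. -/
def tripC (k : ℕ) : K4 :=
  K4.of (hermC (lpC k 0) (lpC k 13)) * K4.of (hermC (lpC k 13) (lpC k 33)) * K4.of (hermC (lpC k 33) (lpC k 0))

/-- The tables of the lines are right. -/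
def chkLines (k : ℕ) : Bool :=
  (List.finRange 45).all (fun i => (dat k).inO (lpC k i) && Nat.blt (lpC k i) 4096) &&
    (List.range 4096).all (fun c => !(dat k).inO c || (linePts k).any fun p =>
      Nat.beq c p || Nat.beq c ((dat k).omC p) || Nat.beq c ((dat k).omC ((dat k).omC p))) &&
    (List.finRange 45).all (fun i => (List.finRange 45).all fun j => Nat.beq (hermC (lpC k i) (lpC k j)) 0 == meet i j) &&
    (sumPts k).all (fun c => (dat k).inO c && Nat.blt c 4096) &&
    Nat.beq ((sumPts k).foldr (· ^^^ ·) 0) (dat k).v1 && decide (tripC k ≠ tripC k ^ 2) &&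
    decide ((dat k).v1 ≠ 0) && (dat k).fixB.all (fun b => (dat k).inO b && Nat.blt b 4096) &&
    Nat.beq (linePts k).length 45

theorem cert : ∀ k < 3, chkLines k = true := by decide +kernel

theorem meet_inj : ∀ i j, (∀ c, meet i c = meet j c) → i = j := by decide +kernel

theorem far_zero : ∀ i, ∃ j, meet 0 j = false ∧ meet j i = false := by decide +kernel

theorem triple_far : meet 0 13 = false ∧ meet 13 33 = false ∧ meet 33 0 = false := by decide +kernel

theorem conj_id : ∀ a b : K4, b + b ^ 2 = a + a ^ 2 →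
    ω * b + (ω * b) ^ 2 = ω * ω * a + (ω * ω * a) ^ 2 → b = a ^ 2 := by decide +kernel

theorem cube_one : ∀ a : K4, a ≠ 0 → a * a * a = 1 := by decide +kernel

theorem unit_eq : ∀ a b : K4, a * b ^ 2 = 1 → a = b := by decide +kernel

/-- A line representative. -/
def lp (k : ℕ) (i : Fin 45) : Fin 6 → K4 := vecOf (lpC k i)

/-- A vector on a line. -/
def OnL (k : ℕ) (i : Fin 45) (w : Fin 6 → K4) : Prop := ∃ a : K4, a ≠ 0 ∧ w = a • lp k i

theorem herm_smul_right (a : K4) (u w : Fin 6 → K4) :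
    hermForm 6 K4 2 u (a • w) = a ^ 2 * hermForm 6 K4 2 u w := by
  rw [herm_swap (a • w) u, herm_smul, mul_pow, ← herm_swap]

variable {k : ℕ}

theorem lp_facts (hk : k < 3) : (∀ i, lpC k i < 4096 ∧ InO k (rep k 1) (lp k i)) ∧
    (∀ w, InO k (rep k 1) w → ∃ i, OnL k i w) ∧
    (∀ i j, hermForm 6 K4 2 (lp k i) (lp k j) = 0 ↔ meet i j = true) := by
  have h := cert k hk
  simp only [chkLines, Bool.and_eq_true, List.all_eq_true, List.mem_range, List.mem_finRange, true_implies,
    Nat.blt_eq, Bool.or_eq_true, Bool.not_eq_true', List.any_eq_true, Nat.beq_eq, beq_iff_eq] at h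
  obtain ⟨⟨⟨⟨⟨⟨⟨⟨h1, h2⟩, h3⟩, -⟩, -⟩, -⟩, -⟩, -⟩, hlen⟩ := h
  refine ⟨fun i => ⟨(h1 i).2, (inO_code hk (h1 i).2).2 (h1 i).1⟩, fun w hw => ?_, fun i j => ?_⟩
  · have hc : (dat k).inO (enc6 w) = true := (inO_code hk (enc6_lt w)).1 (by rw [vecOf_enc6]; exact hw)
    obtain ⟨p, hp, hcase⟩ := (h2 _ (enc6_lt w)).resolve_left (by rw [hc]; simp)
    obtain ⟨i, hi, rfl⟩ := List.getElem_of_mem hp
    refine ⟨⟨i, hlen ▸ hi⟩, ?_⟩
    have e : lpC k ⟨i, hlen ▸ hi⟩ = (linePts k)[i] := List.getD_eq_getElem _ _ hi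
    have hl : (linePts k)[i] < 4096 := e ▸ (h1 ⟨i, hlen ▸ hi⟩).2
    obtain ⟨o1, l1⟩ := om_code hk hl
    obtain ⟨o2, -⟩ := om_code hk l1
    rcases hcase with (hh | hh) | hh
    · exact ⟨1, one_ne_zero, by rw [one_smul, lp, e, ← hh, vecOf_enc6]⟩
    · exact ⟨ω, k4_facts.2.2.2.2.2, by rw [lp, e, ω, o1, ← hh, vecOf_enc6]⟩
    · exact ⟨ω * ω, mul_ne_zero k4_facts.2.2.2.2.2 k4_facts.2.2.2.2.2,
        by rw [lp, e, ← smul_smul, ω, o1, o2, ← hh, vecOf_enc6]⟩
  · rw [lp, lp, hermC_zero, ← h3 i j, Nat.beq_eq]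

theorem onL_meet (hk : k < 3) {i j : Fin 45} {u w : Fin 6 → K4} (hu : OnL k i u) (hw : OnL k j w) :
    hermForm 6 K4 2 u w = 0 ↔ meet i j = true := by
  obtain ⟨a, ha, rfl⟩ := hu
  obtain ⟨b, hb, rfl⟩ := hw
  rw [herm_smul, herm_smul_right, ← (lp_facts hk).2.2]
  simp [ha, hb]

theorem onL_self (k : ℕ) (i : Fin 45) : OnL k i (lp k i) := ⟨1, one_ne_zero, (one_smul _ _).symm⟩

theorem onL_unique (hk : k < 3) {i j : Fin 45} {u : Fin 6 → K4} (hi : OnL k i u) (hj : OnL k j u) : i = j :=
  meet_inj i j fun c => Bool.eq_iff_iff.2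
    ((onL_meet hk hi (onL_self k c)).symm.trans (onL_meet hk hj (onL_self k c)))

section

variable {G : Type*} [Group G] [Finite G] {z : G} {Q : Subgroup (Subgroup.centralizer ({z} : Set G))}
  [hQn : Q.Normal] (m : Model z Q)

/-- The stabiliser of a vector. -/
def stabH (v : Fin 6 → K4) : Subgroup ↥(Subgroup.centralizer ({z} : Set G)) where
  carrier := {g | m.act g v = v}
  one_mem' := m.act_one v
  mul_mem' := fun {a b} (ha : m.act a v = v) (hb : m.act b v = v) => by
    show m.act (a * b) v = v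
    rw [m.act_mul, hb, ha]
  inv_mem' := fun {a} (ha : m.act a v = v) => by
    show m.act a⁻¹ v = v
    conv_lhs => rw [← ha]
    exact m.act_cancel a v

theorem q_le (v : Fin 6 → K4) : Q ≤ stabH m v := fun g hg => (m.act_ker g).2 hg v

theorem lab_om (v : Fin 6 → K4) : labV m.k (ω • v) = labV m.k v := by
  obtain ⟨n, -, hn⟩ := exists_om m
  rw [← hn, m.lab_act]

theorem act_smul (g : ↥(Subgroup.centralizer ({z} : Set G))) (a : K4) (v : Fin 6 → K4) (ha : a ≠ 0) :
    ∃ b : K4, b ≠ 0 ∧ m.act g (a • v) = b • m.act g v := by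
  have hw : ∃ b : K4, b ≠ 0 ∧ ∀ v, m.act g (ω • v) = b • m.act g v := by
    rcases lin_cases m g with h | h
    · exact ⟨ω, k4_facts.2.2.2.2.2, h⟩
    · exact ⟨ω * ω, mul_ne_zero k4_facts.2.2.2.2.2 k4_facts.2.2.2.2.2, h⟩
  obtain ⟨b, hb, h⟩ := hw
  rcases k4_cases a with rfl | rfl | rfl | rfl
  · exact absurd rfl ha
  · exact ⟨1, one_ne_zero, by rw [one_smul, one_smul]⟩
  · exact ⟨b, hb, h v⟩
  · exact ⟨b * b, mul_ne_zero hb hb, by rw [← smul_smul, h, h, smul_smul]⟩

/-- Membership above a point with one condition for all multiples. -/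
theorem inO_iff (v w : Fin 6 → K4) : InO m.k v w ↔
    labV m.k w = 1 ∧ hermForm 6 K4 2 v w = 0 ∧ ∀ a : K4, a ≠ 0 → labV m.k (w + a • v) = 2 := by
  constructor
  · rintro ⟨h1, h2, h3, h4, h5⟩
    refine ⟨h1, h2, fun a ha => ?_⟩
    rcases k4_cases a with rfl | rfl | rfl | rfl
    · exact absurd rfl ha
    · rwa [one_smul]
    · exact h4
    · rw [← smul_smul]; exact h5
  · rintro ⟨h1, h2, h3⟩
    refine ⟨h1, h2, ?_, h3 ω k4_facts.2.2.2.2.2, ?_⟩
    · simpa using h3 1 one_ne_zero
    · rw [smul_smul]; exact h3 _ (mul_ne_zero k4_facts.2.2.2.2.2 k4_facts.2.2.2.2.2)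

theorem inO_act {v : Fin 6 → K4} (g : stabH m v) {w : Fin 6 → K4} (h : InO m.k v w) :
    InO m.k v (m.act g w) := by
  rw [inO_iff] at h ⊢
  obtain ⟨h1, h2, h3⟩ := h
  have hg : m.act g v = v := g.2
  refine ⟨by rw [m.lab_act, h1], by have := orth_act m g h2; rwa [hg] at this, fun a ha => ?_⟩
  obtain ⟨b, hb, e⟩ := act_smul m (g.1)⁻¹ a v ha
  have hg' : m.act (g.1)⁻¹ v = v := (stabH m v).inv_mem g.2
  rw [hg'] at e
  have : labV m.k (w + b • v) = 2 := h3 b hb
  rw [← e, ← m.lab_act g.1, m.act_add, ← m.act_mul, mul_inv_cancel, m.act_one] at this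
  exact this

theorem exists_image (g : stabH m (rep m.k 1)) (i : Fin 45) :
    ∃ j, ∀ w, OnL m.k i w → OnL m.k j (m.act g w) := by
  obtain ⟨h1, h2, -⟩ := lp_facts m.hk
  obtain ⟨j, a, ha, e⟩ := h2 _ (inO_act m g (h1 i).2)
  refine ⟨j, ?_⟩
  rintro w ⟨b, hb, rfl⟩
  obtain ⟨c, hc, e'⟩ := act_smul m g.1 b (lp m.k i) hb
  exact ⟨c * a, mul_ne_zero hc ha, by rw [e', e, smul_smul]⟩

/-- The image of a line. -/
noncomputable def img (g : stabH m (rep m.k 1)) (i : Fin 45) : Fin 45 := (exists_image m g i).choose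

theorem img_spec (g : stabH m (rep m.k 1)) (i : Fin 45) {w : Fin 6 → K4} (hw : OnL m.k i w) :
    OnL m.k (img m g i) (m.act g w) := (exists_image m g i).choose_spec w hw

theorem img_mul (g h : stabH m (rep m.k 1)) (i : Fin 45) : img m (g * h) i = img m g (img m h i) := by
  refine onL_unique m.hk (img_spec m (g * h) i (onL_self _ i)) ?_
  show OnL _ _ (m.act (g.1 * h.1) _)
  rw [m.act_mul]
  exact img_spec m g _ (img_spec m h i (onL_self _ i))

theorem img_one (i : Fin 45) : img m 1 i = i := by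
  refine onL_unique m.hk (img_spec m 1 i (onL_self _ i)) ?_
  show OnL _ _ (m.act 1 _)
  rw [m.act_one]
  exact onL_self _ i

/-- The permutation of the lines. -/
noncomputable def linePerm (g : stabH m (rep m.k 1)) : Equiv.Perm (Fin 45) where
  toFun := img m g
  invFun := img m g⁻¹
  left_inv i := by rw [← img_mul, inv_mul_cancel, img_one]
  right_inv i := by rw [← img_mul, mul_inv_cancel, img_one]

theorem linePerm_mem (g : stabH m (rep m.k 1)) : linePerm m g ∈ Aut := by
  intro i j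
  refine Bool.eq_iff_iff.2 ?_
  show meet (img m g i) (img m g j) = true ↔ _
  rw [← onL_meet m.hk (img_spec m g i (onL_self _ i)) (img_spec m g j (onL_self _ j)), ← (lp_facts m.hk).2.2]
  refine ⟨fun h => ?_, fun h => orth_act m g h⟩
  have := orth_act m (g.1)⁻¹ h
  rwa [m.act_cancel, m.act_cancel] at this

/-- The homomorphism into the automorphisms of the configuration. -/
noncomputable def lineHom : stabH m (rep m.k 1) →* Aut where
  toFun g := ⟨linePerm m g, linePerm_mem m g⟩
  map_one' := Subtype.ext (Equiv.ext (img_one m))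
  map_mul' g h := Subtype.ext (Equiv.ext (img_mul m g h))

theorem herm_conj (g : ↥(Subgroup.centralizer ({z} : Set G))) (hg : Conj m g) (u w : Fin 6 → K4) :
    hermForm 6 K4 2 (m.act g u) (m.act g w) = hermForm 6 K4 2 u w ^ 2 := by
  have key : ∀ a b, hermForm 6 K4 2 (m.act g a) (m.act g b) + hermForm 6 K4 2 (m.act g a) (m.act g b) ^ 2 =
      hermForm 6 K4 2 a b + hermForm 6 K4 2 a b ^ 2 := fun a b => by
    have e := norm_act m g (a + b)
    rw [m.act_add, herm_add, herm_add, norm_act m g a, norm_act m g b] at e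
    exact add_left_cancel e
  refine conj_id _ _ (key u w) ?_
  have e : ω • m.act g u = m.act g ((ω * ω) • u) := by
    rw [← smul_smul ω ω u, hg, hg, smul_smul (ω * ω)]
    exact congrArg (fun a : K4 => a • m.act g u) (by decide +kernel)
  rw [← herm_smul, e, key, herm_smul]

theorem herm_of_mem {g : ↥(Subgroup.centralizer ({z} : Set G))} (hg : g ∈ m.M) (u w : Fin 6 → K4) :
    hermForm 6 K4 2 (m.act g u) (m.act g w) = hermForm 6 K4 2 u w :=
  LargeFischerOuter.herm_lin m g (lin_of_mem m hg) u w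

theorem lineHom_ker (hF : IsOfLargeFischerTypeAt z Q) :
    (lineHom m).ker = Q.subgroupOf (stabH m (rep m.k 1)) := by
  have hk := m.hk
  ext g
  rw [Subgroup.mem_subgroupOf, MonoidHom.mem_ker]
  constructor
  swap
  · intro hg
    refine Subtype.ext (Equiv.ext fun i => onL_unique hk (img_spec m g i (onL_self _ i)) ?_)
    show OnL _ _ (m.act g _)
    rw [(m.act_ker _).2 hg]
    exact onL_self _ i
  intro hg
  have hfix : ∀ i, ∃ c : K4, c ≠ 0 ∧ m.act g (lp m.k i) = c • lp m.k i := fun i => by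
    have := img_spec m g i (onL_self _ i)
    rwa [show img m g i = i from congrArg (fun p : Aut => p.1 i) hg] at this
  choose c hc e using hfix
  have hne : ∀ i j, meet i j = false → hermForm 6 K4 2 (lp m.k i) (lp m.k j) ≠ 0 := fun i j h h0 => by
    rw [(lp_facts hk).2.2, h] at h0
    exact Bool.false_ne_true h0
  by_cases hM : g.1 ∈ m.M
  swap
  · exfalso
    have hconj := LargeFischerOuter.conj_of_outer m hF hM
    have heq : ∀ i j, c i * c j ^ 2 * hermForm 6 K4 2 (lp m.k i) (lp m.k j) =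
        hermForm 6 K4 2 (lp m.k i) (lp m.k j) ^ 2 := fun i j => by
      rw [← herm_conj m g.1 hconj, e, e, herm_smul, herm_smul_right, mul_assoc]
    have h := cert m.k hk
    simp only [chkLines, Bool.and_eq_true, decide_eq_true_eq] at h
    refine h.1.1.1.2 ?_
    have hprod := congrArg₂ (· * ·) (congrArg₂ (· * ·) (heq 0 13) (heq 13 33)) (heq 33 0)
    have hP : tripC m.k = hermForm 6 K4 2 (lp m.k 0) (lp m.k 13) * hermForm 6 K4 2 (lp m.k 13) (lp m.k 33) *
        hermForm 6 K4 2 (lp m.k 33) (lp m.k 0) := by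
      rw [tripC, lp, lp, lp, hermC_sound, hermC_sound, hermC_sound]
    rw [← mul_pow, ← mul_pow, ← hP] at hprod
    have hcube : c 0 * c 13 ^ 2 * (c 13 * c 33 ^ 2) * (c 33 * c 0 ^ 2) = 1 := by
      have := cube_one (c 0 * c 13 * c 33) (mul_ne_zero (mul_ne_zero (hc _) (hc _)) (hc _))
      rw [← this]; ring
    calc tripC m.k = c 0 * c 13 ^ 2 * (c 13 * c 33 ^ 2) * (c 33 * c 0 ^ 2) * tripC m.k := by rw [hcube, one_mul]
      _ = _ := by
        refine Eq.trans ?_ hprod
        rw [hP]; ring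
  have heq : ∀ i j, meet i j = false → c i = c j := fun i j h => by
    refine unit_eq _ _ (mul_right_cancel₀ (hne i j h) ?_)
    rw [one_mul]
    conv_rhs => rw [← herm_of_mem m hM, e, e, herm_smul, herm_smul_right, ← mul_assoc]
  have hall : ∀ i, c i = c 0 := fun i => by
    obtain ⟨j, h1, h2⟩ := far_zero i
    rw [← heq j i h2, ← heq 0 j h1]
  have hlin := lin_of_mem m hM
  have hsc : ∀ (a : K4) v, m.act g (a • v) = a • m.act g v := fun a v => by
    rcases k4_cases a with rfl | rfl | rfl | rfl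
    · rw [zero_smul, zero_smul, m.act_zero]
    · rw [one_smul, one_smul]
    · exact hlin v
    · rw [← smul_smul, hlin, hlin, smul_smul]
  have hO : ∀ w, InO m.k (rep m.k 1) w → m.act g w = c 0 • w := fun w hw => by
    obtain ⟨i, a, -, rfl⟩ := (lp_facts hk).2.1 w hw
    rw [hsc, e, hall, smul_comm]
  have h := cert m.k hk
  simp only [chkLines, Bool.and_eq_true, List.all_eq_true, Nat.blt_eq, Nat.beq_eq, decide_eq_true_eq] at h
  obtain ⟨⟨⟨⟨⟨⟨-, hsum⟩, hx⟩, -⟩, hv0⟩, hfixB⟩, -⟩ := h
  have hfold : ∀ l : List ℕ, (∀ x ∈ l, m.act g (vecOf x) = c 0 • vecOf x) →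
      m.act g (vecOf (l.foldr (· ^^^ ·) 0)) = c 0 • vecOf (l.foldr (· ^^^ ·) 0) := by
    intro l
    induction l with
    | nil => intro _; simp only [List.foldr_nil, vecOf_zero, m.act_zero, smul_zero]
    | cons x l ih =>
      intro hl
      simp only [List.foldr_cons]
      rw [vecOf_xor, m.act_add, hl x (List.mem_cons_self ..), ih fun y hy => hl y (List.mem_cons_of_mem _ hy),
        smul_add]
  have hv := hfold (sumPts m.k) fun x hx => hO _ ((inO_code hk (hsum x hx).2).2 (hsum x hx).1)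
  have hvlt : (dat m.k).v1 < 4096 := Spor.LargeFischer.rd_lt _ _
  rw [hx, show vecOf (dat m.k).v1 = rep m.k 1 by rw [rep, if_pos rfl], show m.act g (rep m.k 1) = rep m.k 1 from g.2]
    at hv
  have hc1 : c 0 = 1 := by
    have hne0 : rep m.k 1 ≠ 0 := fun h0 => hv0 (vecOf_inj hvlt (by norm_num) (by
      rw [vecOf_zero, ← h0, rep, if_pos rfl]))
    by_contra hc'
    refine hne0 ((smul_eq_zero.1 (?_ : (c 0 + 1) • rep m.k 1 = 0)).resolve_left fun h0 => hc' ?_)
    · rw [add_smul, one_smul, ← hv, neg_self6]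
    · revert h0; generalize c 0 = a; revert a; decide +kernel
  refine (m.lin_eq_one ⟨g.1, hM⟩).1 (five_fix hk (mem_stab.2 ⟨m.lin_mem _, ?_⟩) fun b hb => ?_)
  · rw [← m.lin_act]; exact g.2
  · rw [← m.lin_act]
    show m.act g _ = _
    rw [hO _ ((inO_code hk (hfixB b hb).2).2 (hfixB b hb).1), hc1, one_smul]

theorem card_stabH : Nat.card (stabH m (rep m.k 1)) = 51840 * Nat.card Q := by
  letI : MulAction ↥(Subgroup.centralizer ({z} : Set G)) {v : Fin 6 → K4 // labV m.k v = 1} :=
    { smul := fun g v => ⟨m.act g v.1, by rw [m.lab_act, v.2]⟩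
      one_smul := fun v => Subtype.ext (m.act_one v.1)
      mul_smul := fun g h v => Subtype.ext (m.act_mul g h v.1) }
  haveI : MulAction.IsPretransitive ↥(Subgroup.centralizer ({z} : Set G)) {v : Fin 6 → K4 // labV m.k v = 1} := ⟨fun a b => by
    obtain ⟨x, hx, e⟩ := transitive m.hk (Or.inl rfl) a.2 b.2
    obtain ⟨n, rfl⟩ := m.exists_lin hx
    exact ⟨(n : ↥(Subgroup.centralizer ({z} : Set G))), Subtype.ext (by show m.act n a.1 = b.1; rw [m.lin_act, e])⟩⟩
  set v : {v : Fin 6 → K4 // labV m.k v = 1} := ⟨rep m.k 1, (rep_first m.k m.hk).1⟩ with hvdef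
  have hs : MulAction.stabilizer ↥(Subgroup.centralizer ({z} : Set G)) v = stabH m (rep m.k 1) := by
    ext g
    exact ⟨fun h => congrArg Subtype.val h, fun h => Subtype.ext h⟩
  have h1 := MulAction.index_stabilizer_of_transitive ↥(Subgroup.centralizer ({z} : Set G)) v
  rw [(card_lab m.hk).1, hs] at h1
  have h2 := (stabH m (rep m.k 1)).card_mul_index
  have h3 := m.M.card_mul_index
  have h4 : Nat.card m.M = Nat.card Q * 9797760 := by
    have h := Spor.Leech.card_eq_ker_mul_map m.lin ⊤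
    rw [Subgroup.card_top, top_inf_eq, ← MonoidHom.range_eq_map, m.lin_range, card_cover m.hk] at h
    rw [h]
    congr 1
    rw [show m.lin.ker = Q.subgroupOf m.M from by
      ext a; rw [MonoidHom.mem_ker, m.lin_eq_one, Subgroup.mem_subgroupOf]]
    exact Nat.card_congr (Subgroup.subgroupOfEquivOfLe m.M_le).toEquiv
  rw [h1] at h2
  rw [m.M_index, h4] at h3
  omega

/-- The model statement. -/
theorem stab_iso (hF : IsOfLargeFischerTypeAt z Q) :
    Nonempty (↥((stabH m (rep m.k 1)).map (QuotientGroup.mk' Q)) ≃*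
      isometryGroup (ZMod 2) (quadFormMinus 2 (ZMod 2) 1 1)) := by
  set S := stabH m (rep m.k 1) with hS
  set p : S →* ↥(Subgroup.centralizer ({z} : Set G)) ⧸ Q := (QuotientGroup.mk' Q).comp S.subtype with hp
  set f : S →* isometryGroup (ZMod 2) (quadFormMinus 2 (ZMod 2) 1 1) := toIsometry.comp (lineHom m) with hf
  have hfk : f.ker = (lineHom m).ker := by
    ext g
    show toIsometry (lineHom m g) = 1 ↔ lineHom m g = 1
    exact map_eq_one_iff _ toIsometry_injective
  have hker : f.ker = p.ker := by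
    rw [hfk, lineHom_ker m hF, hp, ← MonoidHom.comap_ker,
      QuotientGroup.ker_mk']
    rfl
  have hpker : Nat.card p.ker = Nat.card Q := by
    rw [← hker, hfk, lineHom_ker m hF]
    exact Nat.card_congr (Subgroup.subgroupOfEquivOfLe (q_le m _)).toEquiv
  have hq : Nat.card (S ⧸ f.ker) = 51840 := by
    have h := Subgroup.card_eq_card_quotient_mul_card_subgroup f.ker
    rw [card_stabH m, show Nat.card f.ker = Nat.card Q by rw [hker, hpker]] at h
    exact (Nat.eq_of_mul_eq_mul_right Nat.card_pos h).symm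
  have hiso : Nat.card (isometryGroup (ZMod 2) (quadFormMinus 2 (ZMod 2) 1 1)) = 51840 := by
    have := S0288.result (F := ZMod 2) (q := 2) (ZMod.card 2) 3 (by norm_num) 1 1 (by decide +kernel)
    rw [show (3 : ℕ) - 1 = 2 from rfl] at this
    rw [this]
    simp [Finset.prod_range_succ]
  have hsurj : f.range = ⊤ := by
    refine Subgroup.eq_top_of_card_eq _ ?_
    rw [← Nat.card_congr (QuotientGroup.quotientKerEquivRange f).toEquiv, hq, hiso]
  have hrange : p.range = S.map (QuotientGroup.mk' Q) := by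
    rw [hp, MonoidHom.range_comp, Subgroup.range_subtype]
  exact ⟨(MulEquiv.subgroupCongr hrange.symm).trans ((QuotientGroup.quotientKerEquivRange p).symm.trans
    ((QuotientGroup.quotientMulEquivOfEq hker.symm).trans ((QuotientGroup.quotientKerEquivRange f).trans
      ((MulEquiv.subgroupCongr hsurj).trans Subgroup.topEquiv))))⟩

end

/-- The stabiliser in the quotient of an involution not conjugate to the central one. -/
theorem stab_involution {G : Type*} [Group G] [Finite G] (z : G)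
    (Q : Subgroup (Subgroup.centralizer ({z} : Set G))) [Q.Normal] (hF : IsOfLargeFischerTypeAt z Q)
    (t : Subgroup.centralizer ({z} : Set G)) (htQ : t ∈ Q) (ht2 : orderOf t = 2) (ht : ¬ IsConj z (t : G))
    (S : Subgroup (Subgroup.centralizer ({z} : Set G)))
    (hS : ∀ h : Subgroup.centralizer ({z} : Set G), h ∈ S ↔
      (h * t * h⁻¹ = t ∨ ((h * t * h⁻¹ : Subgroup.centralizer ({z} : Set G)) : G) = t * z)) :
    Nonempty (↥(S.map (QuotientGroup.mk' Q)) ≃* isometryGroup (ZMod 2) (quadFormMinus 2 (ZMod 2) 1 1)) := by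
  obtain ⟨m⟩ := exists_model hF
  set x : Q := ⟨t, htQ⟩ with hx
  have x2 : x * x = 1 := Subtype.ext (by
    show t * t = 1
    rw [← pow_two, ← ht2, pow_orderOf_eq_one])
  have x1 : gv x ≠ 1 := fun e => by
    rw [show t = 1 from Subtype.ext e, orderOf_one] at ht2
    omega
  have xz : gv x ≠ z := fun e => ht (by rw [show (t : G) = z from e])
  have lx : m.lab x = 1 := (m.lab_invol x2 x1 xz).resolve_right fun h2 => by
    obtain ⟨⟨-, -, -, -, g₀, ⟨hq, hqQ⟩, hne₀⟩, -⟩ := hF
    have l0 := lab_of_conj m (s := ⟨⟨g₀ * z * g₀⁻¹, hq⟩, hqQ⟩) (g := g₀) rfl hne₀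
    obtain ⟨c, hc⟩ := m.conj_of_lab (Or.inr h2) (l0.trans h2.symm)
    refine ht (_root_.isConj_iff.2 ⟨(c : G) * g₀, ?_⟩)
    have e : (c : G) * (g₀ * z * g₀⁻¹) * (c : G)⁻¹ = (t : G) := congrArg Subtype.val hc
    rw [← e]; group
  obtain ⟨a, ha, ea⟩ := transitive m.hk (Or.inl rfl) (rep_first m.k m.hk).1 lx
  obtain ⟨n, rfl⟩ := m.exists_lin ha
  rw [← m.lin_act] at ea
  set b : Subgroup.centralizer ({z} : Set G) := (n : Subgroup.centralizer ({z} : Set G)) with hb
  have hSx : ∀ h : Subgroup.centralizer ({z} : Set G), h ∈ S ↔ m.act h (m.rep x) = m.rep x := fun h => by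
    rw [hS, m.act_rep]
    constructor
    · rintro (e | e)
      · exact congrArg m.rep (Subtype.ext e)
      · have h0 : m.rep (x⁻¹ * qconj h x) = 0 := (m.rep_zero _).2 (Or.inr (by
          show ((t⁻¹ * (h * t * h⁻¹) : Subgroup.centralizer ({z} : Set G)) : G) = z
          rw [Subgroup.coe_mul, e, Subgroup.coe_inv, inv_mul_cancel_left]))
        rw [m.rep_mul, m.rep_inv] at h0
        calc m.rep (qconj h x) = m.rep x + m.rep x + m.rep (qconj h x) := by rw [neg_self6, zero_add]
          _ = m.rep x := by rw [add_assoc, h0, add_zero]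
    · intro e
      rcases m.rep_eq e.symm with e' | e'
      · exact Or.inl (Subtype.ext e')
      · exact Or.inr e'
  have hmap : S = (stabH m (rep m.k 1)).map (MulAut.conj b).toMonoidHom := by
    ext h
    rw [hSx, Subgroup.mem_map_equiv, MulAut.conj_symm_apply]
    show _ ↔ m.act (b⁻¹ * h * b) _ = _
    rw [m.act_mul, m.act_mul, ea]
    constructor
    · intro e
      rw [e, ← ea, m.act_cancel]
    · intro e
      have := congrArg (m.act b) e
      rwa [← m.act_mul, mul_inv_cancel, m.act_one, ea] at this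
  have himg : S.map (QuotientGroup.mk' Q) = ((stabH m (rep m.k 1)).map (QuotientGroup.mk' Q)).map
      (MulAut.conj (QuotientGroup.mk' Q b)).toMonoidHom := by
    rw [hmap, Subgroup.map_map, Subgroup.map_map]
    rfl
  obtain ⟨e⟩ := stab_iso m hF
  exact ⟨(MulEquiv.subgroupCongr himg).trans ((Subgroup.equivMapOfInjective _ _
    (MulAut.conj (QuotientGroup.mk' Q b)).injective).symm.trans e)⟩

end Cfsg.Agent.Fus.LargeFischerStab
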