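import Mathlib
import Cfsg.Prelude.Def_Local
import Cfsg.Agent.Lib.Grp.Components
import Cfsg.Agent.Lib.Spor.ExtraPair
import Cfsg.Agent.Lib.Fus.Extraspecial

/-!
An involution whose centralizer has extraspecial generalized Fitting subgroup.
-/

set_option autoImplicit false
set_option linter.style.haveILetI false

namespace Cfsg.Agent.Fus

open Subgroup
open scoped commutatorElement

variable {G : Type*} [Group G]

/-- A central element of a group lies in its Fitting subgroup. -/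
theorem center_le_fitting {H : Type*} [Group H] : center H ≤ Cfsg.fittingSubgroup H := by
  refine le_sSup ⟨inferInstance, ⟨⟨1, ?_⟩⟩⟩
  rw [Subgroup.upperCentralSeries_one, eq_top_iff]
  exact fun x _ => Subgroup.mem_center_iff.2 fun y => mul_comm' y x

theorem ext_gfit [Finite G] {z : G} (hz : orderOf z = 2)
    (hE : Cfsg.IsExtraspecial 2 ↥(Cfsg.generalizedFittingSubgroup ↥(centralizer ({z} : Set G))))
    {Q : Subgroup G} (hQdef : Q = (Cfsg.generalizedFittingSubgroup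
      ↥(centralizer ({z} : Set G))).map (centralizer ({z} : Set G)).subtype) :
    Spor.ExtraPair.Ext z Q := by
  obtain ⟨C, hC⟩ : ∃ C, C = centralizer ({z} : Set G) := ⟨_, rfl⟩
  rw [← hC] at hE hQdef
  obtain ⟨F, hF⟩ : ∃ F, F = Cfsg.generalizedFittingSubgroup ↥C := ⟨_, rfl⟩
  rw [← hF] at hE hQdef
  subst hQdef
  have hzc : ∀ c : ↥C, (c : G) * z = z * c := fun c =>
    mem_centralizer_singleton_iff.1 (hC ▸ c.2)
  have hzC : z ∈ C := hC ▸ mem_centralizer_singleton_iff.2 rfl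
  have hzcen : (⟨z, hzC⟩ : C) ∈ center ↥C := mem_center_iff.2 fun c => Subtype.ext (hzc c)
  have hzF : (⟨z, hzC⟩ : C) ∈ F := by
    rw [hF]; exact mem_sup_right (center_le_fitting hzcen)
  have hz1 : z ≠ 1 := fun e => by rw [e, orderOf_one] at hz; omega
  have hzz : z * z = 1 := by rw [← pow_two, ← hz, pow_orderOf_eq_one]
  have hzZ : (⟨⟨z, hzC⟩, hzF⟩ : F) ∈ center ↥F :=
    mem_center_iff.2 fun f => Subtype.ext (Subtype.ext (hzc f))
  have hu : ∀ x : F, x ∈ center ↥F → ((x : C) : G) = 1 ∨ ((x : C) : G) = z := fun x hx => by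
    obtain ⟨w, -, hwu⟩ := (Nat.card_eq_two_iff' (1 : center ↥F)).1 hE.2
    have hz' : (⟨_, hzZ⟩ : center ↥F) = w := hwu _ fun e =>
      hz1 (congrArg (fun u : center ↥F => ((((u : F) : C)) : G)) e)
    by_cases h1 : (⟨x, hx⟩ : center ↥F) = 1
    · exact Or.inl (congrArg (fun u : center ↥F => ((((u : F) : C)) : G)) h1)
    · exact Or.inr (congrArg (fun u : center ↥F => ((((u : F) : C)) : G))
        ((hwu _ h1).trans hz'.symm))
  obtain ⟨hsq, hcomm⟩ := extraspecial_two_facts hE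
  refine ⟨⟨_, hzF, rfl⟩, hz1, hzz, ?_, ?_, ?_, ?_, ?_, ?_⟩
  · rintro _ ⟨q, -, rfl⟩
    exact hzc q
  · rintro _ ⟨x, hx, rfl⟩ _ ⟨y, hy, rfl⟩
    exact hu ⁅⟨x, hx⟩, ⟨y, hy⟩⁆ (hcomm _ _)
  · rintro _ ⟨x, hx, rfl⟩
    have h := hsq ⟨x, hx⟩
    rw [pow_two] at h
    exact hu _ h
  · rintro _ ⟨x, hx, rfl⟩ h
    exact hu ⟨x, hx⟩ (mem_center_iff.2 fun q => Subtype.ext (Subtype.ext (h _ ⟨q, q.2, rfl⟩)))
  · intro c hc
    have hcC : c ∈ C := by
      rw [hC]
      exact mem_centralizer_singleton_iff.2 (hc z ⟨_, hzF, rfl⟩).symm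
    refine ⟨⟨c, hcC⟩, ?_, rfl⟩
    rw [hF]
    refine Grp.centralizer_gfitting_le (mem_centralizer_iff.2 fun q hq => Subtype.ext ?_)
    exact hc _ ⟨q, hF ▸ hq, rfl⟩
  · rintro c hc _ ⟨q, hq, rfl⟩
    have hcC : c ∈ C := hC ▸ mem_centralizer_singleton_iff.2 hc
    haveI : F.Normal := by rw [hF, Cfsg.generalizedFittingSubgroup]; haveI := Grp.fittingSubgroup_isNormal (G := ↥C); infer_instance
    exact ⟨(⟨c, hcC⟩ : C) * q * (⟨c, hcC⟩ : C)⁻¹, Normal.conj_mem inferInstance q hq _, rfl⟩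

end Cfsg.Agent.Fus
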