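import Cfsg.Agent.Lib.Fus.UFourData

/-! A concrete field with sixteen elements, `x⁴ = x + 1`, elements being written in binary. -/

set_option autoImplicit false
set_option maxRecDepth 100000

namespace Cfsg.Agent.Fus

/-- The field with sixteen elements. -/
structure F16 where
  /-- The binary code. -/
  code : Fin 16
  deriving DecidableEq

namespace F16

/-- The element with a binary code. -/
def ofNum (n : ℕ) : F16 := ⟨⟨n % 16, Nat.mod_lt _ (by norm_num)⟩⟩

instance : Fintype F16 := Fintype.ofEquiv (Fin 16) ⟨fun c => ⟨c⟩, code, fun _ => rfl, fun _ => rfl⟩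
instance : Zero F16 := ⟨⟨0⟩⟩
instance : One F16 := ⟨⟨1⟩⟩
instance : Neg F16 := ⟨fun x => x⟩
instance : Add F16 := ⟨fun a b => ofNum (a.code.val ^^^ b.code.val)⟩
instance : Mul F16 := ⟨fun a b => ofNum (UFour.Data.mulTab >>> (4 * (16 * a.code.val + b.code.val)))⟩
instance : Inv F16 := ⟨fun a => ofNum (UFour.Data.invTab >>> (4 * a.code.val))⟩

instance : Field F16 :=
  Field.ofMinimalAxioms F16 (by decide +kernel) (by decide +kernel) (by decide +kernel) (by decide +kernel)
    (by decide +kernel) (by decide +kernel) (by decide +kernel) (by decide +kernel) (by decide +kernel)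
    ⟨0, 1, by decide⟩

theorem card_eq : Fintype.card F16 = 4 ^ 2 := rfl

end F16

end Cfsg.Agent.Fus
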