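import Cfsg.Agent.Lib.Fus.ComponentFree
import Cfsg.Prelude.Def_FusionFitting

/-!
Constrained systems are those whose generalized Fitting subsystem is the inner system of the core.
-/

set_option autoImplicit false
set_option linter.style.haveILetI false
set_option linter.unusedSectionVars false

open scoped Classical

universe u

namespace Cfsg.Agent.Fus.CompFree

open Subgroup FusionSystem

variable {Ω : Type u} [Group Ω] {S : Subgroup Ω} {F : FusionSystem S} {p : ℕ} [Fact p.Prime]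
  [Finite S]

omit [Fact p.Prime] [Finite S] in
/-- An inner system is its own central product with the trivial system. -/
theorem inner_isCentralProductOf (R : Subgroup Ω) :
    IsCentralProductOf (innerFusionSystem R) (innerFusionSystem (⊥ : Subgroup Ω))
      (innerFusionSystem R) := by
  set W := R.prod (⊥ : Subgroup Ω) with hW
  refine ⟨innerFusionSystem W, fun P φ => ⟨?_, ?_⟩, ⊥,
    (MonoidHom.fst Ω Ω).comp W.subtype, bot_le, bot_inf_eq _, bot_inf_eq _, fun x hx => rfl,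
    fun y hy => ?_, bot_le, fun s => ?_, ?_, fun P' φ' => ⟨?_, ?_⟩⟩
  · rintro ⟨hP, ⟨a, b⟩, hg, hge⟩
    have hb : b = 1 := Subgroup.mem_bot.1 hg.2
    refine ⟨hP, conjHom _ a, ⟨?_, a, hg.1, fun x => rfl⟩, conjHom _ b, ⟨?_, b, hg.2, fun x => rfl⟩,
      fun x h₁ h₂ => ?_⟩
    · rintro _ ⟨y, hy, rfl⟩
      exact (hP hy).1
    · rintro _ ⟨y, hy, rfl⟩
      exact (hP hy).2
    · rw [hge x]
      rfl
  · rintro ⟨hP, φ₁, ⟨-, a, ha, hae⟩, φ₂, ⟨-, b, hb, hbe⟩, he⟩
    refine ⟨hP, (a, b), ⟨ha, hb⟩, fun x => ?_⟩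
    have h₁ : (x : Ω × Ω).1 ∈ P.map (MonoidHom.fst Ω Ω) := ⟨x, x.2, rfl⟩
    have h₂ : (x : Ω × Ω).2 ∈ P.map (MonoidHom.snd Ω Ω) := ⟨x, x.2, rfl⟩
    rw [he x h₁ h₂, hae, hbe]
    rfl
  · exact (Subgroup.mem_bot.1 hy.2).symm
  · rw [Subgroup.mem_bot]
    exact ⟨fun h => Prod.ext h (Subgroup.mem_bot.1 s.2.2), fun h => congrArg Prod.fst h⟩
  · ext x
    exact ⟨by rintro ⟨y, rfl⟩; exact y.2.1, fun hx => ⟨⟨(x, 1), hx, one_mem _⟩, rfl⟩⟩
  · rintro ⟨hP, g, hg, hge⟩
    refine ⟨hP, conjHom _ ((g, 1) : Ω × Ω), ⟨Subgroup.map_subtype_le _, (g, 1),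
      ⟨hg, one_mem _⟩, fun x => rfl⟩, Subgroup.map_subtype_le _, fun x => ?_, fun x => ?_, fun x => ?_⟩
    · exact W.mul_mem (W.mul_mem ⟨hg, one_mem _⟩ (Subgroup.map_subtype_le _ x.2))
        (W.inv_mem ⟨hg, one_mem _⟩)
    · obtain ⟨y, hy, hye⟩ := x.2
      show (x : Ω × Ω).1 ∈ P'
      rw [← hye]
      exact hy
    · exact hge _
  · rintro ⟨hP, φ, ⟨-, ⟨a, b⟩, hg, hge⟩, hPW, hφ, hmem, he⟩
    refine ⟨hP, a, hg.1, fun x => ?_⟩
    have hx : ((x : Ω), (1 : Ω)) ∈ preimageAlong ((MonoidHom.fst Ω Ω).comp W.subtype) P' :=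
      ⟨⟨((x : Ω), 1), hP x.2, one_mem _⟩, x.2, rfl⟩
    exact (he ⟨_, hx⟩).trans (congrArg Prod.fst (hge ⟨_, hx⟩))

/-- The criterion by the generalized Fitting subsystem. -/
theorem isConstrained_iff_fitting (hS : IsPGroup p S) (hF : F.IsSaturated p) :
    F.IsConstrained p ↔ (innerFusionSystem F.core).IsGeneralizedFittingOf F p := by
  constructor
  · intro hc
    refine ⟨⊥, innerFusionSystem ⊥, ⟨inner_isNormalIn hS hF (isNormal_bot F),
      fun U C hC => absurd hC (not_component_of_constrained hS hc (subnormal_le hC.1)),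
      fun R D _ _ P φ hφ => inner_isSubsystemOf bot_le D P hφ⟩, inner_isCentralProductOf _⟩
  · rintro ⟨T, E, hE, D₀, hD₀, Z, θ, hZc, -, -, hθ1, hθ2, hfac⟩
    refine (isConstrained_iff hS hF).2 fun ⟨U, C, hC⟩ => ?_
    have hCE := hE.2.1 U C hC
    have hcore : F.core ≤ S := (isNormal_core F).1
    haveI : Finite F.core := finite_of_le hcore
    have hT : T ≤ F.core := fun y hy => by
      have h : ((1, y) : Ω × Ω) ∈ F.core.prod T := ⟨one_mem _, hy⟩
      rw [← hθ2 y h]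
      exact hfac.2.2.1.le ⟨_, rfl⟩
    haveI : Finite T := finite_of_le hT
    haveI : Finite ↥(F.core.prod T) :=
      Finite.of_equiv _ (Subgroup.prodEquiv F.core T).symm.toEquiv
    -- maps of the layer are conjugations by the core
    have key : ∀ (P : Subgroup Ω) (f : Ω → Ω), IsMap E P f →
        ∃ g ∈ F.core, ∀ x ∈ P, f x = g * x * g⁻¹ := by
      intro P f hf
      have hPT := hf.source_le
      obtain ⟨φ, hφ, e⟩ := hf.exists_hom
      set Q : Subgroup (Ω × Ω) := (⊥ : Subgroup Ω).prod P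
      have hQW : Q ≤ F.core.prod T := Subgroup.prod_mono bot_le hPT
      have hQ1 : Q.map (MonoidHom.fst Ω Ω) = ⊥ := eq_bot_iff.2 (by
        rintro _ ⟨y, hy, rfl⟩
        exact hy.1)
      have hQ2 : Q.map (MonoidHom.snd Ω Ω) = P := by
        ext y
        exact ⟨by rintro ⟨z, hz, rfl⟩; exact hz.2, fun hy => ⟨(1, y), ⟨one_mem _, hy⟩, rfl⟩⟩
      let ψ : Q →* Ω × Ω := MonoidHom.prod 1
        (φ.comp (((MonoidHom.snd Ω Ω).comp Q.subtype).codRestrict P fun z => z.2.2))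
      have hψ : ψ ∈ D₀.Hom Q := by
        refine (hD₀ Q ψ).2 ⟨hQW, 1, ?_, φ.comp (Subgroup.inclusion hQ2.le), ?_, fun z h₁ h₂ => rfl⟩
        · refine ⟨hQ1.le.trans bot_le, 1, one_mem _, fun x => ?_⟩
          have : (x : Ω) = 1 := Subgroup.mem_bot.1 (hQ1.le x.2)
          rw [this]; simp
        · exact mem_hom_of_isMap (hQ2.symm ▸ hf) fun x => e (Subgroup.inclusion hQ2.le x)
      obtain ⟨k, hk, hk1, hk2⟩ :=
        (isCentral_iff.1 (isCentral_center D₀)).2 Q _ (isMap_toFun hψ)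
      have hpre : preimageAlong θ P ≤ Q ⊔ D₀.center := by
        rintro _ ⟨⟨⟨a, b⟩, hab⟩, hy, rfl⟩
        have hyT : θ ⟨(a, b), hab⟩ ∈ T := hPT hy
        obtain ⟨y, hydef⟩ : ∃ y, y = θ ⟨(a, b), hab⟩ := ⟨_, rfl⟩
        have h1 : ((1, y) : Ω × Ω) ∈ F.core.prod T := ⟨one_mem _, hydef ▸ hyT⟩
        have hz : (⟨(1, y), h1⟩ : F.core.prod T)⁻¹ * ⟨(a, b), hab⟩ ∈ θ.ker := by
          rw [MonoidHom.mem_ker, map_mul, map_inv, hθ2 y h1, ← hydef, inv_mul_cancel]
        have := mul_mem (Subgroup.mem_sup_left (T := D₀.center)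
          (show ((1, y) : Ω × Ω) ∈ Q from ⟨one_mem _, hydef ▸ hy⟩))
          (Subgroup.mem_sup_right (hZc ((hfac.2.1 _).1 hz)))
        show ((a, b) : Ω × Ω) ∈ _
        convert this using 1
        show _ = ((1, y) : Ω × Ω) * (((1, y) : Ω × Ω)⁻¹ * (a, b))
        rw [mul_inv_cancel_left]
      obtain ⟨g', hg', he⟩ := exists_induced hfac
        (stronglyClosed_of_forall hfac.1 fun R hR h hh x hx => by
          obtain ⟨h₂, -, h21, h22⟩ := (isCentral_iff.1 (isCentral_center D₀)).2 R h hh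
          rw [← h21 x hx, h22 x (hZc (hR hx))]
          exact hR hx) (hPT.trans hT) (hk.res hpre)
      obtain ⟨-, g, hg, hge⟩ := isMap_inner.1 hg'
      refine ⟨g, hg, fun y hy => ?_⟩
      have h1 : ((1, y) : Ω × Ω) ∈ F.core.prod T := ⟨one_mem _, hPT hy⟩
      have hy' : ((1, y) : Ω × Ω) ∈ preimageAlong θ P :=
        ⟨⟨(1, y), h1⟩, by show θ ⟨(1, y), h1⟩ ∈ P; rw [hθ2 y h1]; exact hy, rfl⟩
      have h2 : ((1, f y) : Ω × Ω) ∈ F.core.prod T := ⟨one_mem _, hf.apply_mem hy⟩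
      have hke : k (1, y) = (1, f y) := by
        rw [hk1 _ ⟨one_mem _, hy⟩, toFun_apply ψ (⟨one_mem _, hy⟩ : ((1, y) : Ω × Ω) ∈ Q)]
        exact Prod.ext rfl (e ⟨y, hy⟩)
      rw [← hge y hy]
      conv_rhs => rw [← hθ2 y h1]
      rw [he _ hy', ← hθ2 _ h2]
      exact congrArg θ (Subtype.ext hke).symm
    haveI := finite_of_le (subnormal_le hC.1)
    have hUp : IsPGroup p U := hS.to_le (subnormal_le hC.1)
    have hRp : IsPGroup p F.core := hS.to_le hcore
    have hbot : C.hyperfocalSubgroup p ≤ ⊥ := by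
      refine hyperfocal_le_of_coprime fun P hP α hα x hx => ?_
      haveI := finite_of_le hP
      obtain ⟨g, hg, hge⟩ := key P _ (((mem_autGroup hP).1 α.2).mono hCE)
      have hαS : (α : MulAut P) ∈ autInducedBy F.core P :=
        mem_autInducedBy.2 ⟨g, hg, fun y => by rw [← autFun_coe, hge _ y.2]⟩
      obtain ⟨k, hk⟩ := isPGroup_autInducedBy hRp P ⟨_, hαS⟩
      have h1 : (α : MulAut P) = 1 := InvExt.eq_one_of_coprime_pow (p := p) (n := orderOf α) hα
        (congrArg Subtype.val hk : _) (by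
          rw [← SubmonoidClass.coe_pow, pow_orderOf_eq_one, OneMemClass.coe_one])
      rw [h1, autFun_one hx, inv_mul_cancel]
      exact Subgroup.one_mem _
    rw [hC.2.2.1] at hbot
    refine S5148.result p hUp C hC.2 ⟨⟨fun a b => Subtype.ext ?_⟩⟩
    show (a : Ω) * b = b * a
    rw [Subgroup.mem_bot.1 (hbot a.2), one_mul, mul_one]

end Cfsg.Agent.Fus.CompFree
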