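import Cfsg.Agent.Lib.Fus.MonomialExt

/-!
The monomial embedding of `S` attached to a centric normal subgroup of a saturated system.
-/

set_option autoImplicit false
set_option linter.style.haveILetI false

open scoped Classical IsMulCommutative

attribute [local instance] Fintype.ofFinite

namespace Cfsg.Agent.Fus

open Subgroup FusionSystem

variable {Ω : Type*} [Group Ω] {S : Subgroup Ω} {F : FusionSystem S} {U : Subgroup Ω}
  (hU : F.IsNormal U)

/-- A map that restricts to `a` on `U` intertwines the conjugation actions. -/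
theorem conjOn_map {P : Subgroup Ω} {f : Ω → Ω} (hf : IsMap F P f) (hUP : U ≤ P)
    {a : F.autGroup U} (hfa : ∀ u ∈ U, f u = autFun (a : MulAut U) u) {s : S} (hs : (s : Ω) ∈ P) :
    conjOn hU ⟨f s, hf.apply_mem hs⟩ * a = a * conjOn hU s := by
  refine Subtype.ext (mulAut_ext fun u hu => ?_)
  have hsu : (s : Ω) * u * (s : Ω)⁻¹ ∈ U :=
    (Subgroup.mem_normalizer_iff.1 (le_normalizer_of_isNormal hU s.2) u).1 hu
  rw [Subgroup.coe_mul, Subgroup.coe_mul, autFun_mul _ _ hu, autFun_mul _ _ hu,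
    autFun_conjOn hU _ (autFun_mem _ hu), autFun_conjOn hU _ hu, ← hfa u hu, ← hfa _ hsu,
    hf.map_conj hs (hUP hu)]

/-- The elements of `U` fix all cosets. -/
theorem conjOn_smul_of_mem {u : S} (hu : (u : Ω) ∈ U) (y : CosetSpace hU) :
    conjOn hU u • y = y := by
  have hm := (mem_autGroup hU.1).1 (y.out⁻¹).2
  have h := conjOn_map hU hm le_rfl (fun _ _ => rfl) hu
  conv_rhs => rw [← QuotientGroup.out_eq' y]
  conv_lhs => rw [← QuotientGroup.out_eq' y]
  rw [MulAction.Quotient.smul_mk, QuotientGroup.eq, smul_eq_mul, mul_inv_rev]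
  refine MonoidHom.mem_range.2 ⟨(⟨autFun ((y.out⁻¹ : F.autGroup U) : MulAut U) u, hm.apply_mem hu⟩ : S)⁻¹, ?_⟩
  rw [map_inv, eq_mul_inv_of_mul_eq h]
  group

variable [Finite S] {p : ℕ} [Fact p.Prime]

theorem isFullyNormalized_of_isNormal (hU : F.IsNormal U) : F.IsFullyNormalized U :=
  ⟨hU.1, fun Q _ => by
    rw [show normalizerIn S U = S from le_antisymm inf_le_left
      (le_inf le_rfl (le_normalizer_of_isNormal hU))]
    exact Subgroup.card_le_of_le inf_le_left⟩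

/-- The monomial embedding. -/
theorem exists_sigma (hS : IsPGroup p S) (hF : F.IsSaturated p) :
    ∃ σ : S →* monoExt hU, (∀ s, (σ s).1.right = conjOn hU s) ∧
      (∀ u : S, (u : Ω) ∈ U → ∀ y : CosetSpace hU,
        ((σ u).1.left y : Ω) = autFun ((y.out⁻¹ : F.autGroup U) : MulAut U) u) ∧
      ∀ y : CosetSpace hU, ∃ (P : Subgroup Ω) (f : Ω → Ω), IsMap F P f ∧ U ≤ P ∧
        ∀ s : S, conjOn hU s • y = y → (s : Ω) ∈ P ∧ ((σ s).1.left y : Ω) = f s := by
  have hrec := receptive_of_fullyNormalized hS hF (isFullyNormalized_of_isNormal hU)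
  letI : MulAction S (CosetSpace hU) := MulAction.compHom _ (conjOn hU)
  have hsm : ∀ (s : S) (y : CosetSpace hU), s • y = conjOn hU s • y := fun s y => rfl
  let stabS : CosetSpace hU → Subgroup Ω := fun y => (MulAction.stabilizer S y).map S.subtype
  have hmemst : ∀ (y : CosetSpace hU) (s : S), (s : Ω) ∈ stabS y ↔ conjOn hU s • y = y :=
    fun y s => ⟨fun ⟨t, ht, e⟩ => by rw [← Subtype.ext (a1 := t) (a2 := s) e]; exact ht,
      fun h => ⟨s, h, rfl⟩⟩
  have hUst : ∀ y, U ≤ stabS y := fun y u hu =>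
    (hmemst y ⟨u, hU.1 hu⟩).2 (conjOn_smul_of_mem hU hu y)
  have hθ : ∀ y : CosetSpace hU, ∃ θ : Ω → Ω, IsMap F (stabS y) θ ∧
      ∀ u ∈ U, θ u = autFun ((y.out⁻¹ : F.autGroup U) : MulAut U) u := by
    intro y
    refine receptive_extend hrec ((mem_autGroup hU.1).1 (y.out⁻¹).2) (fimg_autFun _) ?_ (hUst y)
    rintro _ ⟨s, hs, rfl⟩
    refine ⟨⟨s.2, le_normalizer_of_isNormal hU s.2⟩, ?_⟩
    have hs : conjOn hU s • y = y := hs
    obtain ⟨k, hk⟩ : ∃ k, conjOn hU k = y.out⁻¹ * conjOn hU s * y.out := by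
      refine MonoidHom.mem_range.1 ?_
      rw [mul_assoc, ← QuotientGroup.eq, QuotientGroup.out_eq']
      conv_lhs => rw [← hs, ← QuotientGroup.out_eq' y]
      rfl
    refine ⟨k, k.2, fun u hu => ?_⟩
    rw [← autFun_conjOn hU k (autFun_mem _ hu), ← autFun_mul _ _ hu, ← Subgroup.coe_mul, hk,
      show y.out⁻¹ * conjOn hU s * y.out * y.out⁻¹ = y.out⁻¹ * conjOn hU s by group,
      Subgroup.coe_mul, autFun_mul _ _ hu, autFun_conjOn hU s hu]
    rfl
  choose θ hθm hθU using hθ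
  let rep : CosetSpace hU → CosetSpace hU := fun y =>
    (Quotient.mk (MulAction.orbitRel S (CosetSpace hU)) y).out
  have hrep : ∀ y, ∃ q : S, q • rep y = y := fun y => by
    have := (MulAction.orbitRel S (CosetSpace hU)).symm' (Quotient.exact (Quotient.out_eq
      (Quotient.mk (MulAction.orbitRel S (CosetSpace hU)) y)))
    rwa [MulAction.orbitRel_apply] at this
  have hrep' : ∀ (s : S) y, rep (s • y) = rep y := fun s y => congrArg Quotient.out
    (Quotient.sound (MulAction.orbitRel_apply.2 ⟨s, rfl⟩))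
  choose c hc using hrep
  have hd : ∀ y, ∃ d : S, conjOn hU d = (conjOn hU (c y) * (rep y).out)⁻¹ * y.out := by
    intro y
    refine MonoidHom.mem_range.1 ?_
    rw [← QuotientGroup.eq, QuotientGroup.out_eq']
    conv_rhs => rw [← hc y, hsm, ← QuotientGroup.out_eq' (rep y)]
    rfl
  choose d hd using hd
  let th : CosetSpace hU → S → S := fun y s =>
    if h : (s : Ω) ∈ stabS y then ⟨θ y s, (hθm y).apply_mem h⟩ else 1
  have hth : ∀ y (s : S), (s : Ω) ∈ stabS y → ((th y s : S) : Ω) = θ y s := fun y s h => by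
    simp only [th, dif_pos h]
  have hthmul : ∀ y (s t : S), (s : Ω) ∈ stabS y → (t : Ω) ∈ stabS y →
      th y (s * t) = th y s * th y t := fun y s t hs ht => Subtype.ext (by
    rw [Subgroup.coe_mul, hth y s hs, hth y t ht, hth y (s * t) ((stabS y).mul_mem hs ht)]
    exact (hθm y).map_mul hs ht)
  have hthk : ∀ y (s : S), (s : Ω) ∈ stabS y →
      conjOn hU (th y s) = y.out⁻¹ * conjOn hU s * y.out := fun y s hs => by
    rw [show th y s = ⟨θ y s, (hθm y).apply_mem hs⟩ from Subtype.ext (hth y s hs),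
      eq_mul_inv_of_mul_eq (conjOn_map hU (hθm y) (hUst y) (hθU y) hs), inv_inv]
  have hin : ∀ (s : S) y, ((c y)⁻¹ * s * c ((conjOn hU s)⁻¹ • y) : S).1 ∈ stabS (rep y) := by
    intro s y
    refine (hmemst _ _).2 ?_
    have hx : rep ((conjOn hU s)⁻¹ • y) = rep y := by rw [← map_inv, ← hsm, hrep']
    rw [← hsm, mul_smul, mul_smul, ← hx, hc, hx, hsm s, smul_inv_smul, inv_smul_eq_iff, hc]
  let σ₀ : S → Wreath hU := fun s => ⟨fun y => (d y)⁻¹ *
    th (rep y) ((c y)⁻¹ * s * c ((conjOn hU s)⁻¹ • y)) * d ((conjOn hU s)⁻¹ • y), conjOn hU s⟩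
  have hσ₀ : ∀ s, σ₀ s ∈ monoExt hU := fun s y => by
    show conjOn hU ((d y)⁻¹ * th (rep y) ((c y)⁻¹ * s * c ((conjOn hU s)⁻¹ • y)) *
      d ((conjOn hU s)⁻¹ • y)) = y.out⁻¹ * conjOn hU s * ((conjOn hU s)⁻¹ • y).out
    have hx : rep ((conjOn hU s)⁻¹ • y) = rep y := by rw [← map_inv, ← hsm, hrep']
    rw [map_mul, map_mul, map_inv, hthk _ _ (hin s y), hd, hd, hx, map_mul, map_mul, map_inv]
    group
  let σ : S →* monoExt hU := MonoidHom.mk' (fun s => ⟨σ₀ s, hσ₀ s⟩) fun s t => by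
    refine monoExt_ext (map_mul _ s t) fun y => congrArg Subtype.val ?_
    rw [monoExt_mul_left]
    show (d y)⁻¹ * th (rep y) ((c y)⁻¹ * (s * t) * c ((conjOn hU (s * t))⁻¹ • y)) *
        d ((conjOn hU (s * t))⁻¹ • y) =
      (d y)⁻¹ * th (rep y) ((c y)⁻¹ * s * c ((conjOn hU s)⁻¹ • y)) * d ((conjOn hU s)⁻¹ • y) *
        ((d ((conjOn hU s)⁻¹ • y))⁻¹ * th (rep ((conjOn hU s)⁻¹ • y))
          ((c ((conjOn hU s)⁻¹ • y))⁻¹ * t * c ((conjOn hU t)⁻¹ • (conjOn hU s)⁻¹ • y)) *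
          d ((conjOn hU t)⁻¹ • (conjOn hU s)⁻¹ • y))
    have hx : rep ((conjOn hU s)⁻¹ • y) = rep y := by rw [← map_inv, ← hsm, hrep']
    have h2 := hin t ((conjOn hU s)⁻¹ • y)
    rw [hx] at h2 ⊢
    rw [map_mul, mul_inv_rev, mul_smul,
      show (c y)⁻¹ * (s * t) * c ((conjOn hU t)⁻¹ • (conjOn hU s)⁻¹ • y) =
        ((c y)⁻¹ * s * c ((conjOn hU s)⁻¹ • y)) * ((c ((conjOn hU s)⁻¹ • y))⁻¹ * t *
          c ((conjOn hU t)⁻¹ • (conjOn hU s)⁻¹ • y)) by group,
      hthmul _ _ _ (hin s y) h2]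
    group
  have hfix : ∀ (s : S) y, conjOn hU s • y = y → ((σ s).1.left y : Ω) =
      ((d y : S) : Ω)⁻¹ * θ (rep y) (((c y : S) : Ω)⁻¹ * s * c y) * d y := by
    intro s y h
    have h' : (conjOn hU s)⁻¹ • y = y := by rw [inv_smul_eq_iff, h]
    have h1 := hin s y
    rw [h'] at h1
    show (((d y)⁻¹ * th (rep y) ((c y)⁻¹ * s * c ((conjOn hU s)⁻¹ • y)) *
      d ((conjOn hU s)⁻¹ • y) : S) : Ω) = _
    rw [h', Subgroup.coe_mul, Subgroup.coe_mul, hth _ _ h1]
    rfl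
  refine ⟨σ, fun s => rfl, fun u hu y => ?_, fun y => ⟨stabS y,
    fun v => ((d y : S) : Ω)⁻¹ * θ (rep y) (((c y : S) : Ω)⁻¹ * v * c y) * d y, ?_, hUst y,
    fun s hs => ⟨(hmemst y s).2 hs, hfix s y hs⟩⟩⟩
  · have hcu : ((c y : S) : Ω)⁻¹ * u * c y ∈ U :=
      (Subgroup.mem_normalizer_iff''.1 (le_normalizer_of_isNormal hU (c y).2) _).1 hu
    rw [hfix u y (conjOn_smul_of_mem hU hu y), hθU _ _ hcu,
      show y.out⁻¹ = (conjOn hU (d y))⁻¹ * (rep y).out⁻¹ * (conjOn hU (c y))⁻¹ by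
        rw [hd y]; group,
      Subgroup.coe_mul, Subgroup.coe_mul, autFun_mul _ _ hu, ← map_inv, ← map_inv,
      autFun_conjOn hU _ hu]
    simp only [Subgroup.coe_inv, inv_inv]
    rw [autFun_mul _ _ hcu, autFun_conjOn hU _ (autFun_mem _ hcu)]
    simp only [Subgroup.coe_inv, inv_inv]
  · have hcy : ∀ v ∈ stabS y, ((c y : S) : Ω)⁻¹ * v * c y ∈ stabS (rep y) := by
      rintro _ ⟨s, hs, rfl⟩
      have h := hin s y
      rw [show (conjOn hU s)⁻¹ • y = y from inv_smul_eq_iff.2 (Eq.symm hs)] at h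
      exact h
    have h1 := isMap_conj F (P := stabS y) (g := ((c y : S) : Ω)⁻¹) (fun v ⟨s, _, e⟩ => e ▸ s.2)
      (S.inv_mem (c y).2)
    have h2 := h1.comp (hθm (rep y)) fun v hv => by rw [inv_inv]; exact hcy v hv
    have h3 := h2.comp (isMap_conj F (g := ((d y : S) : Ω)⁻¹) le_rfl (S.inv_mem (d y).2))
      fun v hv => h2.apply_mem hv
    refine h3.congr fun v hv => ?_
    simp only [inv_inv]

end Cfsg.Agent.Fus
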