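import Cfsg.Agent.Lib.Fus.InnerOnSystem
import Cfsg.Agent.Lib.Fus.JInduction
import Cfsg.Agent.Lib.Fus.ModelSigma

/-!
Induction along a functor: let `Y R X` be a subgroup of `R` properly containing `X` (for `X < R`
normal in `R`), invariant under the automorphisms. A property of maps holds for all maps if it holds
for those normalising `Y S ⊥` and if, in each subsystem with a centric core and a normal subgroup
`X` on which the system acts as a `p`-group, it follows from its validity on the maps normalising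
`Y R X` and on those normalising a normal subgroup above the core.
-/

set_option autoImplicit false
set_option linter.style.haveILetI false
set_option linter.unusedSectionVars false

open scoped Classical

namespace Cfsg.Agent.Fus

open Subgroup FusionSystem

variable {Ω : Type*} [Group Ω] {S : Subgroup Ω} {F : FusionSystem S}

theorem isNormal_innerOnSystem {U N : Subgroup Ω} (hU : F.IsNormal U) (hN : F.IsNormal N)
    (hNU : N ≤ U) [Finite N] : (innerOnSystem hU).IsNormal N := by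
  refine isNormal_iff.2 ⟨hN.1, fun P f hf => ?_⟩
  obtain ⟨g, hg, hg1, s, hs, hgs⟩ := (isMap_innerOnSystem hU).1 hf
  have hle : P ⊔ N ≤ P ⊔ U := sup_le_sup_left hNU P
  refine ⟨g, (isMap_innerOnSystem hU).2 ⟨g, hg.res (sup_le hle le_sup_right), fun _ _ => rfl, s, hs, hgs⟩, hg1,
    Subgroup.eq_of_le_of_card_ge (fimg_le fun x hx => StronglyClosed.apply_mem
      (stronglyClosed_of_isNormal hN) (hg.res (hNU.trans le_sup_right)) le_rfl hx)
      (hg.res (hNU.trans le_sup_right)).card_fimg.ge⟩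

theorem autGroup_innerOnSystem_le {U : Subgroup Ω} (hU : F.IsNormal U) :
    (innerOnSystem hU).autGroup U ≤ autInducedBy S U := fun α hα => by
  obtain ⟨g, -, hg1, s, hs, hgs⟩ := (isMap_innerOnSystem hU).1 ((mem_autGroup hU.1).1 hα)
  exact mem_autInducedBy.2 ⟨s, hs, fun u =>
    (autFun_coe α u).symm.trans ((hg1 u u.2).symm.trans (hgs u u.2))⟩

section

variable [Finite S] {p : ℕ} [Fact p.Prime]

set_option maxHeartbeats 1600000 in
/-- Induction along a functor. -/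
theorem functorInduction (hS : IsPGroup p S) (hF : F.IsSaturated p)
    {D : Subgroup Ω → (Ω → Ω) → Prop} (hD : IsMapProp F D)
    (Y : Subgroup Ω → Subgroup Ω → Subgroup Ω) (hYle : ∀ R X, Y R X ≤ R)
    (hYlt : ∀ R X, R ≤ S → X < R → R ≤ Subgroup.normalizer (X : Set Ω) → X < Y R X)
    (hYinv : ∀ R X, R ≤ S → X ≤ R → R ≤ Subgroup.normalizer (X : Set Ω) → ∀ f, IsMap F R f →
      fimg f R = R → fimg f X = X → ∀ x ∈ Y R X, f x ∈ Y R X)
    {W₀ : Subgroup Ω} (hW₀ : W₀ ≤ S ⊓ Subgroup.centralizer (S : Set Ω))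
    (hloc : ∀ (R : Subgroup Ω) (E : FusionSystem R) (X : Subgroup Ω), R ≤ S → E.IsSubsystemOf F →
      E.IsSaturated p → W₀ ≤ R → E.IsNormal X → IsPGroup p (E.autGroup X) →
      centralizerIn R E.core ≤ E.core →
      (∀ L, E.core < L → L ≤ R → R ≤ Subgroup.normalizer (L : Set Ω) →
        ∀ P f, IsMap E P f → L ≤ P → fimg f L = L → D P f) →
      (∀ P f, IsMap E P f → Y R X ≤ P → fimg f (Y R X) = Y R X → D P f) →
      ∀ P f, IsMap E P f → D P f)
    (hN : ∀ P f, IsMap F P f → Y S ⊥ ≤ P → fimg f (Y S ⊥) = Y S ⊥ → D P f)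
    {P : Subgroup Ω} {f : Ω → Ω} (hf : IsMap F P f) : D P f := by
  suffices main : ∀ (n : ℕ) (R : Subgroup Ω) (E : FusionSystem R) (X : Subgroup Ω),
      Nat.card R = n → R ≤ S → W₀ ≤ R → E.IsSubsystemOf F → E.IsSaturated p → E.IsNormal X →
      IsPGroup p (E.autGroup X) →
      (∀ P f, IsMap E P f → Y R X ≤ P → fimg f (Y R X) = Y R X → D P f) →
      ∀ P f, IsMap E P f → D P f from
    main _ S F ⊥ rfl le_rfl (hW₀.trans inf_le_left) (fun _ _ h => h) hF (isNormal_bot F)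
      (fun a => ⟨0, Subtype.ext (MulEquiv.ext fun _ => Subsingleton.elim _ _)⟩) hN P f hf
  clear hf hN f P
  intro n
  induction n using Nat.strong_induction_on with
  | _ n IH =>
  intro R E X hn hRS hW₀R hEF hEs hX hXp hN
  suffices aux : ∀ (m : ℕ) (R₁ : Subgroup Ω) (E₁ : FusionSystem R₁), R₁ = R →
      Nat.card R - Nat.card E₁.core = m → E₁.IsSubsystemOf E → E₁.IsSaturated p → E₁.IsNormal X →
      ∀ P f, IsMap E₁ P f → D P f from
    aux _ R E rfl rfl (fun _ _ h => h) hEs hX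
  intro m
  induction m using Nat.strong_induction_on with
  | _ m ihm =>
  intro R₁ E₁ hR₁ hm hsub hE₁ hX₁
  subst hR₁
  haveI : Finite R₁ := finite_of_le hRS
  have hR : IsPGroup p R₁ := hS.to_le hRS
  have hE₁F : E₁.IsSubsystemOf F := fun P φ hφ => hEF P (hsub P hφ)
  have hDE := hD.mono hE₁F
  set C := E₁.core with hC
  have hCn : E₁.IsNormal C := isNormal_core E₁
  have hCR : C ≤ R₁ := hCn.1
  haveI := finite_of_le hCR
  have hCsc := stronglyClosed_of_isNormal hCn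
  have hRC : R₁ ≤ Subgroup.normalizer (C : Set Ω) := le_normalizer_of_isNormal hCn
  have hXC : X ≤ C := le_core hX₁
  haveI := finite_of_le hX₁.1
  have IHsub : ∀ L, L ≤ R₁ → R₁ ≤ Subgroup.normalizer (L : Set Ω) → ¬ L ≤ C →
      ∀ P f, IsMap E₁ P f → L ≤ P → fimg f L = L → D P f := by
    intro L hLR hRL hLC P f hf hLP hfL
    have heq : normalizerIn R₁ L = R₁ := le_antisymm inf_le_left (le_inf le_rfl hRL)
    have hLn : E₁.IsFullyNormalized L := ⟨hLR, fun Q hQ => by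
      rw [heq]; exact Subgroup.card_le_of_le inf_le_left⟩
    set E' := normalizerSystem E₁ L hLn.1 with hE'
    have hsub' : E'.IsSubsystemOf E₁ := normalizerSystem_isSubsystemOf hLn.1
    haveI : Finite ↥(normalizerIn R₁ L) := finite_of_le (S := R₁) inf_le_left
    have hlt : C < E'.core := lt_of_lt_of_le
      (lt_of_le_of_ne le_sup_left fun e => hLC (e ▸ le_sup_right))
      (sup_le (le_core (isNormal_normalizerSystem_of_isNormal hLn.1 hCn (by rw [heq]; exact hCR)))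
        (le_core (isNormal_normalizerSystem_self hLn.1)) : C ⊔ L ≤ E'.core)
    have hc'R : E'.core ≤ R₁ := (isNormal_core E').1.trans inf_le_left
    haveI := finite_of_le hc'R
    have hcard := card_lt_of_lt hlt
    have hcard' := Subgroup.card_le_of_le hc'R
    have hfm : IsMap E' P f := (isMap_normalizerSystem hLn.1).2
      ⟨by rw [heq]; exact hf.source_le, fun x hx => by rw [heq]; exact hf.apply_mem hx, f,
        hf.res (sup_le le_rfl hLP), fun x _ => rfl, hfL⟩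
    exact ihm (Nat.card R₁ - Nat.card E'.core) (by omega) _ E' heq rfl
      (fun P φ hφ => hsub P (hsub' P hφ)) (isSaturated_normalizerSystem hR hE₁ hLn)
      (isNormal_normalizerSystem_of_isNormal hLn.1 hX₁ (by rw [heq]; exact hX₁.1)) P f hfm
  by_cases hcc : centralizerIn R₁ C ≤ C
  · exact hloc R₁ E₁ X hRS hE₁F hE₁ hW₀R hX₁ (hXp.to_le (autGroup_mono hsub X)) hcc
      (fun L hL hLR hRL => IHsub L hLR hRL fun h => (hL.trans_le h).false)
      fun P f hf => hN P f (hf.mono hsub)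
  -- the system of maps inner on the core
  set E₀ := innerOnSystem hCn with hE₀
  have hsub₀ : E₀.IsSubsystemOf E₁ := innerOnSystem_isSubsystemOf hCn
  have hE₀s : E₀.IsSaturated p := isSaturated_innerOnSystem hR hE₁ hCn
  have hCn₀ : E₀.IsNormal C := isNormal_innerOnSystem hCn hCn le_rfl
  suffices hinner : ∀ P f, IsMap E₀ P f → D P f by
    intro P f hf
    obtain ⟨g, hg, hg1, hgC⟩ := (isNormal_iff.1 hCn).2 P f hf
    obtain ⟨γ, hγ, hγe⟩ := (hg.res le_sup_right).exists_aut hgC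
    set K := centralizerIn R₁ C with hK
    have hPCR : P ⊔ C ≤ R₁ := hg.source_le
    have hNR : P ⊔ C ⊔ K ≤ R₁ := sup_le hPCR inf_le_left
    have hCfn : E₁.IsFullyNormalized C := ⟨hCR, fun Q hQ => by
      rw [show normalizerIn R₁ C = R₁ from le_antisymm inf_le_left (le_inf le_rfl hRC)]
      exact Subgroup.card_le_of_le inf_le_left⟩
    let M : Subgroup R₁ := (conjOn hCn).range.comap
      ((MulAut.conj (⟨γ, hγ⟩ : E₁.autGroup C)).toMonoidHom.comp (conjOn hCn))
    have hM : P ⊔ C ⊔ K ≤ M.map R₁.subtype := by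
      refine sup_le (fun x hx => ⟨⟨x, hPCR hx⟩, ⟨⟨g x, hg.apply_mem hx⟩, ?_⟩, rfl⟩)
        fun x hx => ⟨⟨x, hx.1⟩, ⟨1, ?_⟩, rfl⟩
      · exact eq_mul_inv_of_mul_eq (conjOn_map hCn hg le_sup_right (fun u hu => (hγe u hu).symm)
          (s := ⟨x, hPCR hx⟩) hx)
      · rw [map_one]
        show (1 : E₁.autGroup C) = (⟨γ, hγ⟩ : E₁.autGroup C) * conjOn hCn ⟨x, hx.1⟩ * (⟨γ, hγ⟩)⁻¹
        rw [conjOn_eq_of_forall hCn (s := ⟨x, hx.1⟩) (a := 1) fun u hu => by
          show x * u * x⁻¹ = _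
          rw [OneMemClass.coe_one, autFun_one hu, ← (mem_centralizerIn.1 hx).2 u hu,
            mul_inv_cancel_right], mul_one, mul_inv_cancel]
    obtain ⟨θ, hθ, hθe⟩ := receptive_extend (receptive_of_fullyNormalized hR hE₁ hCfn)
      ((mem_autGroup hCR).1 hγ) (fimg_autFun γ) (N := P ⊔ C ⊔ K) (fun y hy => by
        obtain ⟨s, ⟨k, hk⟩, rfl⟩ := hM hy
        refine ⟨⟨s.2, hRC s.2⟩, k, k.2, fun u hu => ?_⟩
        rw [← autFun_conjOn hCn k (autFun_mem _ hu), hk, ← autFun_mul _ _ hu]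
        show autFun γ ((s : Ω) * u * (s : Ω)⁻¹) = autFun (((⟨γ, hγ⟩ : E₁.autGroup C) *
          conjOn hCn s * (⟨γ, hγ⟩)⁻¹ * ⟨γ, hγ⟩ : E₁.autGroup C) : MulAut C) u
        rw [inv_mul_cancel_right, Subgroup.coe_mul, autFun_mul _ _ hu, autFun_conjOn hCn s hu])
      (le_sup_right.trans le_sup_left)
    have hCPC : C ≤ P ⊔ C ⊔ K := le_sup_right.trans le_sup_left
    have hKN : K ⊔ C ≤ P ⊔ C ⊔ K := sup_le le_sup_right hCPC
    have hθC : fimg θ C = C := (fimg_congr hθe).trans (fimg_autFun γ)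
    have hθKC : fimg θ (K ⊔ C) = K ⊔ C := by
      haveI := finite_of_le (hKN.trans hNR)
      refine Subgroup.eq_of_le_of_card_ge ?_ (hθ.res hKN).card_fimg.ge
      rw [(hθ.res hKN).fimg_sup, hθC]
      refine sup_le_sup_right (fimg_le fun k hk => mem_centralizerIn.2
        ⟨hθ.apply_mem (Subgroup.mem_sup_right hk), fun x hx => ?_⟩) C
      rw [← hθC] at hx
      obtain ⟨c, hc, rfl⟩ := (hθ.res hCPC).mem_fimg_iff.1 hx
      rw [← hθ.map_mul (hCPC hc) (Subgroup.mem_sup_right hk), (mem_centralizerIn.1 hk).2 c hc,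
        hθ.map_mul (Subgroup.mem_sup_right hk) (hCPC hc)]
    have hRQ : R₁ ≤ Subgroup.normalizer ((K ⊔ C : Subgroup Ω) : Set Ω) := by
      have key : ∀ {s : Ω}, s ∈ R₁ → ∀ k ∈ K, s * k * s⁻¹ ∈ K := fun {s} hs k hk => by
        obtain ⟨hk1, hk2⟩ := mem_centralizerIn.1 hk
        refine mem_centralizerIn.2 ⟨R₁.mul_mem (R₁.mul_mem hs hk1) (R₁.inv_mem hs), fun y hy => ?_⟩
        have h1 := hk2 _ ((Subgroup.mem_normalizer_iff''.1 (hRC hs) y).1 hy)
        calc y * (s * k * s⁻¹) = s * (s⁻¹ * y * s * k) * s⁻¹ := by group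
          _ = s * (k * (s⁻¹ * y * s)) * s⁻¹ := by rw [h1]
          _ = s * k * s⁻¹ * y := by group
      exact fun s hs => normalizer_sup_le (hRC hs) (mem_normalizer_of_forall (key hs)
        fun x hx => by simpa using key (inv_mem hs) x hx)
    have hDθ : D (P ⊔ C) θ := hDE.res _ _ _ hθ le_sup_left
      (IHsub (K ⊔ C) (hKN.trans hNR) hRQ (fun h => hcc (le_sup_left.trans h)) _ θ hθ hKN hθKC)
    have hθ' : IsMap E₁ (P ⊔ C) θ := hθ.res le_sup_left
    obtain ⟨h, hh, hh1, -, -⟩ := hθ'.exists_inv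
    have hhP : ∀ y ∈ fimg θ (P ⊔ C), h y ∈ P ⊔ C := fun y hy => by
      obtain ⟨x, hx, rfl⟩ := hθ'.mem_fimg_iff.1 hy
      rw [hh1 x hx]
      exact hx
    set g₃ := fun y => g (h y) with hg₃
    have hg₃m : IsMap E₁ (fimg θ (P ⊔ C)) g₃ := hh.comp hg hhP
    have hCθ : C ≤ fimg θ (P ⊔ C) := hθC.ge.trans (fimg_mono θ le_sup_right)
    have hg₃E : IsMap E₀ (fimg θ (P ⊔ C)) g₃ := (isMap_innerOnSystem hCn).2
      ⟨g₃, hg₃m.res (sup_le le_rfl hCθ), fun _ _ => rfl, 1, one_mem _, fun u hu => by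
        rw [← hθC, (hθ'.res le_sup_right).mem_fimg_iff] at hu
        obtain ⟨c, hc, rfl⟩ := hu
        show g (h (θ c)) = 1 * θ c * 1⁻¹
        rw [hh1 c (Subgroup.mem_sup_right hc), hθe c hc, hγe c hc]
        group⟩
    exact hD.congr _ _ _ (hDE.res _ _ _ hg le_sup_left (hD.congr _ _ g (hDE.comp _ _ θ g₃ hθ' hg₃m
      (fun x hx => apply_mem_fimg θ hx) hDθ (hinner _ _ hg₃E)) fun x hx => by
        show g (h (θ x)) = g x
        rw [hh1 x hx])) hg1
  have hX₀ : E₀.IsNormal X := isNormal_innerOnSystem hCn hX₁ hXC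
  rcases (le_core hCn₀).lt_or_eq with hlt | hcore
  · intro P f hf
    have hc'R : E₀.core ≤ R₁ := (isNormal_core E₀).1
    haveI := finite_of_le hc'R
    have hcard := card_lt_of_lt hlt
    have hcard' := Subgroup.card_le_of_le hc'R
    exact ihm (Nat.card R₁ - Nat.card E₀.core) (by omega) R₁ E₀ rfl rfl
      (fun P φ hφ => hsub P (hsub₀ P hφ)) hE₀s hX₀ P f hf
  have hCp : IsPGroup p (E₀.autGroup C) :=
    (isPGroup_autInducedBy hR C).to_le (autGroup_innerOnSystem_le hCn)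
  have hE₀F : E₀.IsSubsystemOf F := fun P φ hφ => hE₁F P (hsub₀ P hφ)
  have hD₀ := hD.mono hE₀F
  have hCsc₀ := stronglyClosed_of_isNormal hCn₀
  have htop : ∀ α ∈ E₀.autGroup R₁, D R₁ (autFun α) := fun α hα => by
    have hm := ((mem_autGroup le_rfl).1 hα).mono hsub₀
    have hαX : fimg (autFun α) X = X := Subgroup.eq_of_le_of_card_ge (fimg_le fun x hx =>
      StronglyClosed.apply_mem (stronglyClosed_of_isNormal hX₁) (hm.res hX₁.1) le_rfl hx)
      (hm.res hX₁.1).card_fimg.ge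
    haveI := finite_of_le ((hYle R₁ X).trans hRS)
    exact hN _ _ (hm.mono hsub) (hYle R₁ X) (Subgroup.eq_of_le_of_card_ge (fimg_le
      (hYinv R₁ X hRS hX₁.1 (le_normalizer_of_isNormal hX₁) _ (hm.mono hE₁F) (fimg_autFun α) hαX))
      (hm.res (hYle R₁ X)).card_fimg.ge)
  intro P f hf
  refine alperin' hR hE₀s D hD₀.congr hD₀.comp hD₀.res htop ?_ hf
  intro Q hQ big α hα
  have hQR : Q ≤ R₁ := hQ.1.1
  rcases hQR.eq_or_lt with rfl | hlt
  · exact htop _ hα
  have hCQ : C ≤ Q := le_of_isNormal hR hCn₀ hQ.1 (radical_of_essential hR hQ)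
  have hQC : ¬ Q ≤ C := fun h => hcc fun c hc => h (centralizerIn_le_of_centric hQ.1
    (mem_centralizerIn.2 ⟨(mem_centralizerIn.1 hc).1,
      fun x hx => (mem_centralizerIn.1 hc).2 x (h hx)⟩))
  suffices claim : ∀ (k : ℕ) (U : Subgroup Ω), Nat.card R₁ - Nat.card ↥(normalizerIn R₁ U) = k →
      U ≤ R₁ → C ≤ U → ¬ U ≤ C → Nat.card Q < Nat.card ↥(normalizerIn R₁ U) →
      ∀ P f, IsMap E₀ P f → U ≤ P → P ≤ normalizerIn R₁ U → fimg f U = U → D P f by
    haveI : Finite ↥(normalizerIn R₁ Q) := finite_of_le (S := R₁) inf_le_left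
    haveI := finite_of_le hQR
    exact claim _ Q rfl hQR hCQ hQC (card_lt_of_lt (lt_normalizerIn hR hlt)) Q _
      ((mem_autGroup hQR).1 hα) le_rfl (le_normalizerIn hQR) (fimg_autFun α)
  intro k
  induction k using Nat.strong_induction_on with
  | _ k ihk =>
  intro U hk hUR hCU hUC hcard P f hf hUP hPN hfU
  haveI := finite_of_le hUR
  obtain ⟨U', hU', hU'n⟩ := exists_fullyNormalized E₀ hUR
  obtain ⟨θ, hθ, hθU, hθN⟩ := exists_map_to_fullyNormalized hR hE₀s hU'n hU'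
  obtain ⟨θ', hθ', hθ1, -, -⟩ := hθ.exists_inv
  set N := normalizerIn R₁ U with hNdef
  set R' := normalizerIn R₁ U' with hR'
  haveI : Finite N := finite_of_le (S := R₁) inf_le_left
  haveI : Finite R' := finite_of_le (S := R₁) inf_le_left
  have hDθ : D N θ := big _ θ hθ hcard
  have hDθ' : D (fimg θ N) θ' := big _ θ' hθ' (by rw [hθ.card_fimg]; exact hcard)
  have hUN : U ≤ N := le_normalizerIn hUR
  have hfN : ∀ x ∈ P, f x ∈ N := fun x hx => by
    have := hf.map_normalizerIn hUP hx (hPN hx).2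
    rwa [hfU] at this
  set P' := fimg θ P with hP'
  have hP'N : P' ≤ fimg θ N := fimg_mono θ hPN
  have hθ'P : ∀ y ∈ P', θ' y ∈ P := fun y hy => by
    obtain ⟨x, hx, rfl⟩ := (hθ.res hPN).mem_fimg_iff.1 hy
    rw [hθ1 x (hPN hx)]
    exact hx
  set f' := fun y => θ (f (θ' y)) with hf'def
  have hf' : IsMap E₀ P' f' := ((hθ'.res hP'N).comp hf hθ'P).comp hθ fun y hy => hfN _ (hθ'P y hy)
  have hU'P : U' ≤ P' := hθU ▸ fimg_mono θ hUP
  have hP'R : P' ≤ R' := fimg_le fun x hx => hθN x (hPN hx)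
  have hCU' : C ≤ U' := by
    rw [← hθU]
    have hCN : C ≤ N := hCU.trans hUN
    have hθC : fimg θ C = C := Subgroup.eq_of_le_of_card_ge (fimg_le fun x hx =>
      StronglyClosed.apply_mem hCsc₀ (hθ.res hCN) le_rfl hx) (hθ.res hCN).card_fimg.ge
    rw [← hθC]
    exact fimg_mono θ hCU
  have hU'C : ¬ U' ≤ C := fun h => hUC fun x hx => by
    have h1 : θ x ∈ U' := hθU ▸ apply_mem_fimg θ hx
    have h2 := StronglyClosed.apply_mem hCsc₀ (hθ'.res (fimg_mono θ hUN))
      (hθU.symm ▸ h) (apply_mem_fimg θ hx)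
    rwa [hθ1 x (hUN hx)] at h2
  have hf'U : fimg f' U' = U' := by
    haveI := finite_of_le hU'n.1
    refine Subgroup.eq_of_le_of_card_ge (fimg_le fun y hy => ?_) (hf'.res hU'P).card_fimg.ge
    rw [← hθU] at hy ⊢
    obtain ⟨x, hx, rfl⟩ := (hθ.res hUN).mem_fimg_iff.1 hy
    show θ (f (θ' (θ x))) ∈ _
    rw [hθ1 x (hUN hx)]
    exact apply_mem_fimg θ (hfU ▸ apply_mem_fimg f hx)
  suffices hmain : D P' f' by
    have d1 : D P θ := hD₀.res _ _ _ hθ hPN hDθ
    have d2 : D P (fun x => f' (θ x)) :=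
      hD₀.comp P P' θ f' (hθ.res hPN) hf' (fun x hx => apply_mem_fimg θ hx) d1 hmain
    refine hD.congr _ _ _ (hD₀.comp P (fimg θ N) _ θ' ((hθ.res hPN).comp hf'
      fun x hx => apply_mem_fimg θ hx) hθ' (fun x hx => ?_) d2 hDθ') fun x hx => ?_
    · show θ (f (θ' (θ x))) ∈ fimg θ N
      rw [hθ1 x (hPN hx)]
      exact apply_mem_fimg θ (hfN x hx)
    · show θ' (θ (f (θ' (θ x)))) = f x
      rw [hθ1 x (hPN hx), hθ1 _ (hfN x hx)]
  have hNR' : Nat.card N ≤ Nat.card R' := hU'n.2 U (isConj_symm hU')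
  have hR'R : R' ≤ R₁ := inf_le_left
  have hR'card := Subgroup.card_le_of_le hR'R
  rcases hNR'.lt_or_eq with h | h
  · exact ihk (Nat.card R₁ - Nat.card R') (by omega) U' rfl hU'n.1 hCU' hU'C (hcard.trans h) P' f'
      hf' hU'P hP'R hf'U
  rcases hR'R.eq_or_lt with h' | h'
  · exact IHsub U' hU'n.1 (h'.ge.trans inf_le_right) hU'C P' f' (hf'.mono hsub₀) hU'P hf'U
  set E' := normalizerSystem E₀ U' hU'n.1 with hE'
  have hsub' : E'.IsSubsystemOf E₀ := normalizerSystem_isSubsystemOf hU'n.1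
  have hU'R' : U' ≤ R' := le_normalizerIn hU'n.1
  have hCR' : C < R' := lt_of_le_of_ne (hCU'.trans hU'R') fun e => hU'C (e ▸ hU'R')
  have hf'm : IsMap E' P' f' := (isMap_normalizerSystem hU'n.1).2
    ⟨hP'R, fun x hx => by
      have := hf'.map_normalizerIn hU'P hx (hP'R hx).2
      rwa [hf'U] at this, f', hf'.res (sup_le le_rfl hU'P), fun x _ => rfl, hf'U⟩
  refine IH _ (hn ▸ card_lt_of_lt h') R' E' C rfl (hR'R.trans hRS)
    (fun w hw => ⟨hW₀R hw, Subgroup.centralizer_le_normalizer _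
      (Subgroup.centralizer_le (hU'n.1.trans hRS) (hW₀ hw).2)⟩)
    (fun P φ hφ => hE₀F P (hsub' P hφ)) (isSaturated_normalizerSystem hR hE₀s hU'n)
    (isNormal_normalizerSystem_of_isNormal hU'n.1 hCn₀ hCR'.le)
    (hCp.to_le (autGroup_mono hsub' C)) ?_ P' f' hf'm
  intro P₁ g₁ hg₁ hYP hgY
  set Z := Y R' C with hZ
  obtain ⟨hP₁, -, g, hg, hg1, hgU⟩ := (isMap_normalizerSystem hU'n.1).1 hg₁
  have hZR : Z ≤ R' := hYle R' C
  have hR'C : R' ≤ Subgroup.normalizer (C : Set Ω) := hR'R.trans hRC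
  have hCZ := hYlt R' C (hR'R.trans hRS) hCR' hR'C
  obtain ⟨w, hw, hwR'⟩ := SetLike.lt_iff_le_and_exists.1 (lt_normalizerIn hR h') |>.2
  have hnZ : normalizerIn R₁ R' ≤ normalizerIn R₁ Z := fun s hs => by
    have key : ∀ {s : Ω}, s ∈ normalizerIn R₁ R' → ∀ x ∈ Z, s * x * s⁻¹ ∈ Z := by
      intro s hs x hx
      refine hYinv R' C (hR'R.trans hRS) hCR'.le hR'C _
        (isMap_conj F (hR'R.trans hRS) (hRS hs.1)) ?_ ?_ x hx
      · ext y; rw [mem_fimg_conj, Subgroup.mem_normalizer_iff''.1 hs.2 y]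
      · ext y; rw [mem_fimg_conj, Subgroup.mem_normalizer_iff''.1 (hRC hs.1) y]
    exact ⟨hs.1, mem_normalizer_of_forall (key hs) fun x hx => by
      simpa using key (inv_mem hs) x hx⟩
  haveI : Finite ↥(normalizerIn R₁ Z) := finite_of_le (S := R₁) inf_le_left
  have hcardZ : Nat.card R' < Nat.card ↥(normalizerIn R₁ Z) :=
    card_lt_of_lt (lt_of_le_of_ne ((le_normalizerIn hR'R).trans hnZ) fun e =>
      hwR' (e ▸ hnZ hw))
  have : Nat.card ↥(normalizerIn R₁ Z) ≤ Nat.card R₁ := Subgroup.card_le_of_le inf_le_left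
  have hle2 : P₁ ⊔ U' ≤ R' := sup_le hP₁ hU'R'
  have hgY' : fimg g Z = Z := (fimg_congr fun x hx => hg1 x (hYP hx)).trans hgY
  exact hD₀.congr _ _ _ (hD₀.res _ _ _ hg le_sup_left (ihk (Nat.card R₁ - Nat.card ↥(normalizerIn R₁ Z))
    (by omega) Z rfl (hZR.trans hR'R) hCZ.le (fun hle => (hCZ.trans_le hle).false) (by omega) _ g hg
    (hYP.trans le_sup_left) (hle2.trans ((le_normalizerIn hR'R).trans hnZ)) hgY')) hg1

end

end Cfsg.Agent.Fus
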