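import Cfsg.Agent.Lib.Fus.FactorExist
import Cfsg.Agent.Lib.Fus.FactorSat
import Cfsg.Agent.Lib.Fus.Model
import Cfsg.Agent.Lib.Fus.InnerOnSystem
import Cfsg.Agent.Lib.Fus.JInduction
import Cfsg.Agent.Lib.Fus.HyperfocalApp
import Cfsg.Agent.Lib.Fus.FunctorInduction
import Cfsg.Agent.Lib.Transfer.Fusion

/-!
A positive characteristic functor that controls transfer below the core of every constrained group
controls transfer in every saturated fusion system.
-/

set_option autoImplicit false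
set_option linter.style.haveILetI false
set_option linter.unusedSectionVars false

open scoped Classical commutatorElement

namespace Cfsg.Agent.Fus

open Subgroup FusionSystem

universe u

variable (W : ∀ (Q : Type u) [Group Q], Subgroup Q)

/-- The subgroup `W(S)` of the ambient group. -/
def wSub {Ω : Type u} [Group Ω] (S : Subgroup Ω) : Subgroup Ω := (W ↥S).map S.subtype

/-- The subgroup generated by the moves of the maps normalising `W(S)`. -/
def wMoves {Ω : Type u} [Group Ω] {S : Subgroup Ω} (F : FusionSystem S) : Subgroup Ω :=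
  Subgroup.closure {y | ∃ (P : Subgroup Ω) (f : Ω → Ω) (x : Ω), IsMap F P f ∧ wSub W S ≤ P ∧
    fimg f (wSub W S) = wSub W S ∧ x ∈ P ∧ y = x⁻¹ * f x}

/-- The hypotheses on the functor. -/
structure TransferFunctor (p : ℕ) : Prop where
  pos : ∀ (Q : Type u) [Group Q] [Finite Q], IsPGroup p Q → Nontrivial Q → W Q ≠ ⊥
  iso : ∀ (Q R : Type u) [Group Q] [Group R] [Finite Q], IsPGroup p Q → ∀ φ : Q ≃* R,
    (W Q).map φ.toMonoidHom = W R
  transfer : ∀ (G : Type u) [Group G] [Finite G] (P : Sylow p G),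
    Subgroup.centralizer ((pCore p G : Subgroup G) : Set G) ≤ pCore p G →
    pCore p G ⊓ commutator G = pCore p G ⊓
      (commutator ↥(Subgroup.normalizer
        (((W ↥(P : Subgroup G)).map (P : Subgroup G).subtype : Subgroup G) : Set G))).map
        (Subgroup.normalizer
          (((W ↥(P : Subgroup G)).map (P : Subgroup G).subtype : Subgroup G) : Set G)).subtype

variable {W} {p : ℕ} {Ω : Type u} [Group Ω] {S : Subgroup Ω} {F : FusionSystem S}

theorem wSub_le (R : Subgroup Ω) : wSub W R ≤ R := Subgroup.map_subtype_le _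

theorem wSub_ne_bot (hW : TransferFunctor W p) {R : Subgroup Ω} [Finite R] (hR : IsPGroup p R)
    (hne : R ≠ ⊥) : wSub W R ≠ ⊥ := by
  rw [wSub, Ne, Subgroup.map_eq_bot_iff_of_injective _ R.subtype_injective]
  exact hW.pos R hR ((Subgroup.nontrivial_iff_ne_bot R).2 hne)

theorem autFun_mem_wSub (hW : TransferFunctor W p) {R : Subgroup Ω} [Finite R] (hR : IsPGroup p R)
    (α : MulAut R) {x : Ω} (hx : x ∈ wSub W R) : autFun α x ∈ wSub W R := by
  obtain ⟨w, hw, rfl⟩ := hx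
  refine ⟨α w, ?_, (autFun_coe α w).symm⟩
  have h := hW.iso R R hR α
  rw [← h]
  exact ⟨w, hw, rfl⟩

theorem conj_mem_wSub (hW : TransferFunctor W p) {R : Subgroup Ω} [Finite R] (hR : IsPGroup p R)
    {n : Ω} (hn : n ∈ Subgroup.normalizer (R : Set Ω)) {x : Ω} (hx : x ∈ wSub W R) :
    n * x * n⁻¹ ∈ wSub W R := by
  have h := autFun_mem_wSub hW hR (R.normalizerMonoidHom ⟨n, hn⟩) hx
  rwa [show autFun (R.normalizerMonoidHom ⟨n, hn⟩) x = n * x * n⁻¹ from
    (autFun_coe _ ⟨x, wSub_le R hx⟩).trans (normalizerMonoidHom_apply ⟨n, hn⟩ _)] at h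

theorem normalizer_le_normalizer_wSub (hW : TransferFunctor W p) {R : Subgroup Ω} [Finite R]
    (hR : IsPGroup p R) :
    Subgroup.normalizer (R : Set Ω) ≤ Subgroup.normalizer (wSub W R : Set Ω) := fun n hn =>
  mem_normalizer_of_forall (fun x hx => conj_mem_wSub hW hR hn hx) fun x hx => by
    simpa using conj_mem_wSub hW hR (Subgroup.inv_mem _ hn) hx

theorem move_mem_wMoves {P : Subgroup Ω} {f : Ω → Ω} (hf : IsMap F P f) (hP : wSub W S ≤ P)
    (hfW : fimg f (wSub W S) = wSub W S) {x : Ω} (hx : x ∈ P) : x⁻¹ * f x ∈ wMoves W F :=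
  Subgroup.subset_closure ⟨P, f, x, hf, hP, hfW, hx, rfl⟩

theorem wMoves_mono {E : FusionSystem S} (h : E.IsSubsystemOf F) : wMoves W E ≤ wMoves W F := by
  refine (Subgroup.closure_le _).2 ?_
  rintro _ ⟨P, f, x, hf, hP, hfW, hx, rfl⟩
  exact move_mem_wMoves (hf.mono h) hP hfW hx

theorem wMoves_le_focal : wMoves W F ≤ F.focalSubgroup := by
  refine (Subgroup.closure_le _).2 ?_
  rintro _ ⟨P, f, x, hf, -, -, hx, rfl⟩
  exact hf.focal_mem hx

theorem commutator_le_wMoves (hW : TransferFunctor W p) [Finite S] (hS : IsPGroup p S) :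
    ⁅S, S⁆ ≤ wMoves W F := by
  refine Subgroup.commutator_le.2 fun a ha b hb => ?_
  have hm : IsMap F S (fun x => a * x * a⁻¹) := isMap_conj F le_rfl ha
  have hfW : fimg (fun x => a * x * a⁻¹) (wSub W S) = wSub W S := by
    haveI := finite_of_le (wSub_le (W := W) S)
    exact Subgroup.eq_of_le_of_card_ge (fimg_le fun x hx =>
      conj_mem_wSub hW hS (Subgroup.le_normalizer ha) hx) (hm.res (wSub_le S)).card_fimg.ge
  have h := move_mem_wMoves hm (wSub_le S) hfW (x := b⁻¹) (inv_mem hb)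
  rw [inv_inv] at h
  have h2 := Subgroup.inv_mem _ h
  rw [show (b * (a * b⁻¹ * a⁻¹))⁻¹ = ⁅a, b⁆ by rw [commutatorElement_def]; group] at h2
  exact h2

section

variable [Finite S] [Fact p.Prime]

/-- The focal subgroup of a system with a normal subgroup lies in that subgroup times the moves of
the maps normalising `W(S)`, given the result for smaller groups and for normalisers of larger
normal subgroups. -/
theorem focal_le_sup_normal (hS : IsPGroup p S) (hF : F.IsSaturated p) (hW : TransferFunctor W p)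
    {C : Subgroup Ω} (hC : F.IsNormal C) (hC1 : C ≠ ⊥)
    (IH : ∀ (Ω' : Type u) [Group Ω'] (R : Subgroup Ω') [Finite R] (E : FusionSystem R),
      IsPGroup p R → E.IsSaturated p → Nat.card R < Nat.card S → E.focalSubgroup ≤ wMoves W E)
    (hbig : ∀ U, C < U → U ≤ S → S ≤ Subgroup.normalizer (U : Set Ω) →
      ∀ P f, IsMap F P f → U ≤ P → fimg f U = U → ∀ x ∈ P, x⁻¹ * f x ∈ wMoves W F) :
    F.focalSubgroup ≤ C ⊔ wMoves W F := by
  have hCS := hC.1
  rcases hCS.eq_or_lt with rfl | hlt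
  · exact (focalSubgroup_le F).trans le_sup_left
  haveI : (C.subgroupOf S).Normal :=
    Subgroup.normal_subgroupOf_of_le_normalizer (le_normalizer_of_isNormal hC)
  let θ : S →* S ⧸ C.subgroupOf S := QuotientGroup.mk' _
  have hker : ∀ s : S, θ s = 1 ↔ (s : Ω) ∈ C := fun s => by
    rw [QuotientGroup.mk'_apply, QuotientGroup.eq_one_iff, Subgroup.mem_subgroupOf]
  have hCsc := stronglyClosed_of_isNormal hC
  set E := factorSystemAlong F hCsc θ hker with hEdef
  have hE : F.IsFactorSystem C θ E := isFactorSystem_factorSystemAlong F hCsc θ hker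
  have hEs : E.IsSaturated p := isSaturated_factor hS hF hCsc hE
  haveI : Finite (S ⧸ C.subgroupOf S) := inferInstance
  have hEp : IsPGroup p θ.range := hS.of_surjective θ.rangeRestrict θ.rangeRestrict_surjective
  have hne : θ.range ≠ ⊥ := by
    obtain ⟨s, hs, hsC⟩ := SetLike.lt_iff_le_and_exists.1 hlt |>.2
    intro h
    have h1 : θ ⟨s, hs⟩ ∈ θ.range := ⟨_, rfl⟩
    rw [h, Subgroup.mem_bot, hker] at h1
    exact hsC h1
  have hcard : Nat.card θ.range < Nat.card S := by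
    refine (Subgroup.card_le_card_group θ.range).trans_lt ?_
    rw [Subgroup.card_eq_card_quotient_mul_card_subgroup (C.subgroupOf S)]
    refine lt_mul_of_one_lt_right Nat.card_pos ?_
    rw [Finite.one_lt_card_iff_nontrivial, Subgroup.nontrivial_iff_ne_bot, Ne,
      Subgroup.subgroupOf_eq_bot, disjoint_iff, inf_eq_left.2 hCS]
    exact hC1
  have hIH := IH _ θ.range E hEp hEs hcard
  set V := wSub W θ.range with hV
  set U := preimageAlong θ V with hU
  have hUS : U ≤ S := preimageAlong_le V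
  have hCU : C < U := by
    refine lt_of_le_of_ne (factor_le_preimage hE V) fun e => ?_
    refine wSub_ne_bot hW hEp hne (eq_bot_iff.2 fun v hv => ?_)
    obtain ⟨s, rfl⟩ := wSub_le θ.range hv
    rw [Subgroup.mem_bot, hker, e]
    exact mem_preimageAlong.2 ⟨s.2, hv⟩
  have hSU : S ≤ Subgroup.normalizer (U : Set Ω) := by
    have key : ∀ {s : Ω}, s ∈ S → ∀ x ∈ U, s * x * s⁻¹ ∈ U := fun {s} hs x hx => by
      obtain ⟨hxS, hxV⟩ := mem_preimageAlong.1 hx
      refine mem_preimageAlong.2 ⟨S.mul_mem (S.mul_mem hs hxS) (S.inv_mem hs), ?_⟩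
      rw [show (⟨s * x * s⁻¹, _⟩ : S) = ⟨s, hs⟩ * ⟨x, hxS⟩ * ⟨s, hs⟩⁻¹ from rfl, factor_conj]
      exact conj_mem_wSub hW hEp (Subgroup.le_normalizer (show θ ⟨s, hs⟩ ∈ θ.range from ⟨_, rfl⟩)) hxV
    exact fun s hs => mem_normalizer_of_forall (key hs) fun x hx => by
      simpa using key (inv_mem hs) x hx
  refine focalSubgroup_le_iff.2 fun P f hf x hx => ?_
  obtain ⟨g, hg, hg1, hgC⟩ := (isNormal_iff.1 hC).2 P f hf
  have hP' : imageAlong θ P ≤ θ.range := by
    rintro _ ⟨y, -, rfl⟩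
    exact ⟨y, rfl⟩
  have hpre : preimageAlong θ (imageAlong θ P) ≤ P ⊔ C := by
    intro y hy
    obtain ⟨h, z, hz, e⟩ := mem_preimageAlong.1 hy
    rw [show y = (z : Ω) * ((z : Ω)⁻¹ * y) by group]
    exact mul_mem (Subgroup.mem_sup_left hz)
      (Subgroup.mem_sup_right ((factor_map_eq_iff hE).1 e))
  obtain ⟨g', hg', hge⟩ := exists_induced hE hCsc hP' (hg.res hpre)
  have hxS := hf.source_le hx
  have hxp : x ∈ preimageAlong θ (imageAlong θ P) :=
    mem_preimageAlong.2 ⟨hxS, ⟨x, hxS⟩, hx, rfl⟩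
  have hy := hIH (hg'.focal_mem (show θ ⟨x, hxS⟩ ∈ imageAlong θ P from ⟨⟨x, hxS⟩, hx, rfl⟩))
  rw [hge x hxp, ← map_inv, ← map_mul] at hy
  have hM : wMoves W E ≤ ((wMoves W F).subgroupOf S).map θ := by
    refine (Subgroup.closure_le _).2 ?_
    rintro _ ⟨P₁, k', z, hk', hVP, hkV, hz, rfl⟩
    obtain ⟨k, hk, hke⟩ := exists_lift hE hk'
    obtain ⟨w, rfl⟩ := hk'.source_le hz
    have hwp : (w : Ω) ∈ preimageAlong θ P₁ := mem_preimageAlong.2 ⟨w.2, hz⟩
    have hUP : U ≤ preimageAlong θ P₁ := fun y hy => by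
      obtain ⟨h, hyV⟩ := mem_preimageAlong.1 hy
      exact mem_preimageAlong.2 ⟨h, hVP hyV⟩
    have hkU : fimg k U = U := by
      haveI := finite_of_le hUS
      refine Subgroup.eq_of_le_of_card_ge (fimg_le fun y hy => ?_) (hk.res hUP).card_fimg.ge
      have hky := hk.apply_mem (hUP hy)
      refine mem_preimageAlong.2 ⟨hky, ?_⟩
      rw [hke y (hUP hy) hky, hV, ← hkV]
      exact apply_mem_fimg k' (mem_preimageAlong.1 hy).2
    refine ⟨w⁻¹ * ⟨k w, hk.apply_mem hwp⟩,
      hbig U hCU hUS hSU _ k hk hUP hkU _ hwp, ?_⟩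
    rw [map_mul, map_inv, hke _ hwp (hk.apply_mem hwp)]
  obtain ⟨m, hm, hme⟩ := hM hy
  rw [show x⁻¹ * f x = (x⁻¹ * g x) by rw [hg1 x hx]]
  have hd := (factor_map_eq_iff hE).1 hme
  rw [show x⁻¹ * g x = (m : Ω) * ((m : Ω)⁻¹ * (x⁻¹ * g x)) by group]
  exact mul_mem (Subgroup.mem_sup_right hm) (Subgroup.mem_sup_left hd)

/-- A system that is inner on a normal subgroup: central part of the focal subgroup. -/
theorem focal_inf_le_commutator (hS : IsPGroup p S) (hF : F.IsSaturated p) {C : Subgroup Ω}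
    (hC : F.IsNormal C)
    (hinn : ∀ P g, IsMap F P g → C ≤ P → ∃ s ∈ S, ∀ u ∈ C, g u = s * u * s⁻¹) :
    F.focalSubgroup ⊓ C ≤ ⁅S, S⁆ := by
  have hCS := hC.1
  set C₀ := ⁅C, S⁆ with hC₀
  have hC₀C : C₀ ≤ C := Subgroup.commutator_le.2 fun c hc s hs => by
    rw [commutatorElement_def, show c * s * c⁻¹ * s⁻¹ = c * (s * c⁻¹ * s⁻¹) by group]
    exact mul_mem hc (conj_mem_of_isNormal hC hs (inv_mem hc))
  have hC₀S : ∀ s ∈ S, ∀ z ∈ C₀, s * z * s⁻¹ ∈ C₀ := by
    intro s hs z hz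
    refine (Subgroup.commutator_le.2 fun c hc t ht => ?_ :
      C₀ ≤ C₀.comap (MulAut.conj s).toMonoidHom) hz
    show MulAut.conj s ⁅c, t⁆ ∈ C₀
    rw [show MulAut.conj s ⁅c, t⁆ = ⁅s * c * s⁻¹, s * t * s⁻¹⁆ by
      simp only [MulAut.conj_apply, commutatorElement_def]; group]
    exact Subgroup.commutator_mem_commutator (conj_mem_of_isNormal hC hs hc)
      (S.mul_mem (S.mul_mem hs ht) (S.inv_mem hs))
  have hC₀n : F.IsNormal C₀ := by
    refine isNormal_iff.2 ⟨hC₀C.trans hCS, fun P f hf => ?_⟩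
    obtain ⟨g, hg, hg1, -⟩ := (isNormal_iff.1 hC).2 P f hf
    obtain ⟨s, hs, hgs⟩ := hinn _ g hg le_sup_right
    have hle : P ⊔ C₀ ≤ P ⊔ C := sup_le_sup_left hC₀C P
    haveI := finite_of_le (hC₀C.trans hCS)
    refine ⟨g, hg.res hle, hg1, Subgroup.eq_of_le_of_card_ge (fimg_le fun z hz => ?_)
      (hg.res (hC₀C.trans le_sup_right)).card_fimg.ge⟩
    rw [hgs z (hC₀C hz)]
    exact hC₀S s hs z hz
  haveI : (C₀.subgroupOf S).Normal :=
    Subgroup.normal_subgroupOf_of_le_normalizer (le_normalizer_of_isNormal hC₀n)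
  let θ : S →* S ⧸ C₀.subgroupOf S := QuotientGroup.mk' _
  have hker : ∀ s : S, θ s = 1 ↔ (s : Ω) ∈ C₀ := fun s => by
    rw [QuotientGroup.mk'_apply, QuotientGroup.eq_one_iff, Subgroup.mem_subgroupOf]
  have hsc := stronglyClosed_of_isNormal hC₀n
  set E := factorSystemAlong F hsc θ hker with hEdef
  have hE : F.IsFactorSystem C₀ θ E := isFactorSystem_factorSystemAlong F hsc θ hker
  have hEs : E.IsSaturated p := isSaturated_factor hS hF hsc hE
  have hEp : IsPGroup p θ.range := hS.of_surjective θ.rangeRestrict θ.rangeRestrict_surjective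
  have hcen : imageAlong θ C ≤ E.center := by
    refine le_center (isCentral_iff.2 ⟨?_, fun P' g' hg' => ?_⟩)
    · rintro _ ⟨c, -, rfl⟩
      exact ⟨c, rfl⟩
    obtain ⟨k, hk, hke⟩ := exists_lift hE hg'
    obtain ⟨h, hh, hh1, hhC⟩ := (isNormal_iff.1 hC).2 _ k hk
    obtain ⟨s, hs, hhs⟩ := hinn _ h hh le_sup_right
    have hle : P' ⊔ imageAlong θ C ≤ θ.range := sup_le hg'.source_le (by
      rintro _ ⟨c, -, rfl⟩
      exact ⟨c, rfl⟩)
    have hpre : preimageAlong θ (P' ⊔ imageAlong θ C) ≤ preimageAlong θ P' ⊔ C := by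
      intro y hy
      obtain ⟨hyS, hy'⟩ := mem_preimageAlong.1 hy
      have h1 : P' ⊔ imageAlong θ C ≤ imageAlong θ (preimageAlong θ P' ⊔ C) := by
        refine sup_le (fun z hz => ?_) ?_
        · obtain ⟨w, rfl⟩ := hg'.source_le hz
          exact ⟨w, Subgroup.mem_sup_left (mem_preimageAlong.2 ⟨w.2, hz⟩), rfl⟩
        · rintro _ ⟨c, hc, rfl⟩
          exact ⟨c, Subgroup.mem_sup_right hc, rfl⟩
      obtain ⟨w, hw, e⟩ := h1 hy'
      rw [show y = (w : Ω) * ((w : Ω)⁻¹ * y) by group]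
      exact mul_mem hw (Subgroup.mem_sup_left (factor_le_preimage hE P' ((factor_map_eq_iff hE).1 e)))
    obtain ⟨h', hh', hhe⟩ := exists_induced hE hsc hle (hh.res hpre)
    refine ⟨h', hh', fun z hz => ?_, fun z hz => ?_⟩
    · obtain ⟨w, rfl⟩ := hg'.source_le hz
      have hwp : (w : Ω) ∈ preimageAlong θ P' := mem_preimageAlong.2 ⟨w.2, hz⟩
      rw [hhe w (mem_preimageAlong.2 ⟨w.2, Subgroup.mem_sup_left hz⟩), ← hke w hwp (hk.apply_mem hwp)]
      exact congrArg θ (Subtype.ext (hh1 _ hwp))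
    · obtain ⟨c, hc, rfl⟩ := hz
      rw [hhe c (mem_preimageAlong.2 ⟨c.2, Subgroup.mem_sup_right ⟨c, hc, rfl⟩⟩), eq_comm,
        factor_map_eq_iff hE]
      show (c : Ω)⁻¹ * h c ∈ C₀
      rw [hhs (c : Ω) hc, show (c : Ω)⁻¹ * (s * c * s⁻¹) = ⁅(c : Ω)⁻¹, s⁆ by
        rw [commutatorElement_def]; group]
      exact Subgroup.commutator_mem_commutator (inv_mem hc) hs
  rintro x ⟨hx, hxC⟩
  have hfoc : F.focalSubgroup ≤ (E.focalSubgroup.comap θ).map S.subtype := by
    refine focalSubgroup_le_iff.2 fun P f hf z hz => ?_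
    obtain ⟨g, hg, hg1, -⟩ := (isNormal_iff.1 hC₀n).2 P f hf
    have hP' : imageAlong θ P ≤ θ.range := by
      rintro _ ⟨y, -, rfl⟩
      exact ⟨y, rfl⟩
    have hpre : preimageAlong θ (imageAlong θ P) ≤ P ⊔ C₀ := by
      intro y hy
      obtain ⟨h, w, hw, e⟩ := mem_preimageAlong.1 hy
      rw [show y = (w : Ω) * ((w : Ω)⁻¹ * y) by group]
      exact mul_mem (Subgroup.mem_sup_left hw)
        (Subgroup.mem_sup_right ((factor_map_eq_iff hE).1 e))
    obtain ⟨g', hg', hge⟩ := exists_induced hE hsc hP' (hg.res hpre)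
    have hzS := hf.source_le hz
    have hzp : z ∈ preimageAlong θ (imageAlong θ P) :=
      mem_preimageAlong.2 ⟨hzS, ⟨z, hzS⟩, hz, rfl⟩
    have h2 := hg'.focal_mem (show θ ⟨z, hzS⟩ ∈ imageAlong θ P from ⟨⟨z, hzS⟩, hz, rfl⟩)
    rw [hge z hzp, ← map_inv, ← map_mul] at h2
    exact ⟨_, h2, by rw [← hg1 z hz]; rfl⟩
  obtain ⟨w, hw, rfl⟩ := hfoc hx
  have h3 : θ w ∈ E.focalSubgroup ⊓ E.center := ⟨hw, hcen ⟨w, hxC, rfl⟩⟩
  rw [focal_inf_center hEp hEs] at h3
  have h4 : ⁅θ.range, θ.range⁆ ≤ ((⁅S, S⁆ : Subgroup Ω).subgroupOf S).map θ := by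
    rw [Subgroup.commutator_le]
    rintro _ ⟨a, rfl⟩ _ ⟨b, rfl⟩
    exact ⟨⁅a, b⁆, Subgroup.commutator_mem_commutator a.2 b.2, map_commutatorElement θ a b⟩
  obtain ⟨v, hv, e⟩ := h4 h3.1
  show (w : Ω) ∈ ⁅S, S⁆
  rw [show (w : Ω) = (v : Ω) * ((v : Ω)⁻¹ * w) by group]
  exact mul_mem hv ((Subgroup.commutator_mono hCS le_rfl) ((factor_map_eq_iff hE).1 e))

/-- The constrained case. -/
theorem focal_inf_le_of_centric (hS : IsPGroup p S) (hF : F.IsSaturated p)
    (hW : TransferFunctor W p) {C : Subgroup Ω} (hC : F.IsNormal C)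
    (hCc : centralizerIn S C ≤ C) : F.focalSubgroup ⊓ C ≤ wMoves W F := by
  haveI := finite_of_le hC.1
  obtain ⟨G, _, ι, ⟨_, ⟨hι, hreal⟩, ⟨T, hT⟩, hcons⟩, hnor, hcent⟩ :=
    exists_model_of_normal hS hF hC hCc
  haveI := hnor
  rintro x ⟨hx, hxC⟩
  have hxS := hC.1 hxC
  have hcomm : F.focalSubgroup ≤ ((commutator G).comap ι).map S.subtype := by
    refine focalSubgroup_le_iff.2 fun P f hf z hz => ?_
    obtain ⟨φ, hφ, e⟩ := hf.exists_hom
    obtain ⟨g, hg⟩ := (hreal P hf.source_le φ fun y => (F.le_of_mem hφ).2 y).1 hφ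
    refine ⟨⟨z, hf.source_le hz⟩⁻¹ * ⟨φ ⟨z, hz⟩, (F.le_of_mem hφ).2 _⟩, ?_, by
      show z⁻¹ * φ ⟨z, hz⟩ = _
      rw [e]⟩
    show ι _ ∈ commutator G
    rw [map_mul, map_inv, hg ⟨z, hz⟩]
    have := Subgroup.commutator_mem_commutator
      (Subgroup.mem_top (ι ⟨z, hf.source_le hz⟩)⁻¹) (Subgroup.mem_top g)
    rw [commutator_def]
    simpa [commutatorElement_def, mul_assoc] using this
  obtain ⟨w, hw, rfl⟩ := hcomm hx
  have hpn : ((C.subgroupOf S).map ι).Normal ∧ IsPGroup p ((C.subgroupOf S).map ι) :=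
    ⟨hnor, (hS.to_subgroup _).map ι⟩
  have hp : ι w ∈ pCore p G :=
    (le_sSup hpn : (C.subgroupOf S).map ι ≤ pCore p G) (Subgroup.mem_map_of_mem ι hxC)
  have hcentG : Subgroup.centralizer ((pCore p G : Subgroup G) : Set G) ≤ pCore p G := hcons
  have h5 : ι w ∈ pCore p G ⊓ commutator G := ⟨hp, hw⟩
  rw [hW.transfer G T hcentG] at h5
  set V : Subgroup G := (W ↥(T : Subgroup G)).map (T : Subgroup G).subtype with hV
  set N := Subgroup.normalizer (V : Set G) with hN
  obtain ⟨n, hn, hne⟩ := h5.2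
  have hTN : (T : Subgroup G) ≤ N := by
    haveI : Finite (T : Subgroup G) := inferInstance
    exact Subgroup.le_normalizer.trans (normalizer_le_normalizer_wSub hW T.isPGroup')
  let TN : Sylow p N := T.subtype hTN
  have hVeq : ∀ y : S, ι y ∈ V ↔ (y : Ω) ∈ wSub W S := by
    let e : S ≃* (T : Subgroup G) := (MonoidHom.ofInjective hι).trans (MulEquiv.subgroupCongr hT.symm)
    have hWT := hW.iso S (T : Subgroup G) hS e
    intro y
    rw [hV, ← hWT, Subgroup.map_map]
    constructor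
    · rintro ⟨z, hz, ez⟩
      have : z = y := hι (show ι z = ι y from ez)
      exact ⟨z, hz, congrArg Subtype.val this⟩
    · rintro ⟨z, hz, ez⟩
      exact ⟨z, hz, show ι z = ι y from congrArg ι (Subtype.ext ez)⟩
  have key : commutator N ⊓ (TN : Subgroup N) ≤
      (((wMoves W F).subgroupOf S).map ι).comap N.subtype := by
    refine Transfer.commutator_inf_sylow_le TN fun y hy u hu => ?_
    have hy' : (y : G) ∈ ι.range := hT ▸ (show (y : G) ∈ (T : Subgroup G) from hy)
    obtain ⟨a, ha⟩ := hy'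
    let P₀ : Subgroup Ω := (ι.range.comap ((MulAut.conj (u : G)).toMonoidHom.comp ι)).map S.subtype
    have hP₀ : ∀ {z : Ω} (hz : z ∈ P₀), ∃ hzS : z ∈ S,
        (u : G) * ι ⟨z, hzS⟩ * (u : G)⁻¹ ∈ ι.range := by
      rintro _ ⟨z, hz, rfl⟩
      exact ⟨z.2, hz⟩
    have hP₀S : P₀ ≤ S := Subgroup.map_subtype_le _
    let φ : P₀ →* Ω := MonoidHom.mk'
      (fun z => (((MonoidHom.ofInjective hι).symm
        ⟨_, (hP₀ z.2).2⟩ : S) : Ω)) fun z z' => by
        rw [← Subgroup.coe_mul]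
        congr 1
        rw [← map_mul]
        congr 1
        refine Subtype.ext ?_
        show (u : G) * ι ⟨((z * z' : P₀) : Ω), _⟩ * (u : G)⁻¹ =
          (u : G) * ι ⟨z, hP₀S z.2⟩ * (u : G)⁻¹ * ((u : G) * ι ⟨z', hP₀S z'.2⟩ * (u : G)⁻¹)
        rw [show (⟨((z * z' : P₀) : Ω), hP₀S (z * z').2⟩ : S) =
          ⟨z, hP₀S z.2⟩ * ⟨z', hP₀S z'.2⟩ from rfl, map_mul]
        group
    have hφS : ∀ z : P₀, φ z ∈ S := fun z => ((MonoidHom.ofInjective hι).symm _).2
    have hφι : ∀ z : P₀, ι ⟨φ z, hφS z⟩ = (u : G) * ι ⟨z, hP₀S z.2⟩ * (u : G)⁻¹ := fun z =>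
      congrArg Subtype.val ((MonoidHom.ofInjective hι).apply_symm_apply ⟨_, (hP₀ z.2).2⟩)
    have hφ : φ ∈ F.Hom P₀ := (hreal P₀ hP₀S φ hφS).2 ⟨(u : G), hφι⟩
    have hWP : wSub W S ≤ P₀ := fun z hz => by
      refine ⟨⟨z, wSub_le S hz⟩, ?_, rfl⟩
      show (u : G) * ι _ * (u : G)⁻¹ ∈ ι.range
      rw [← hT]
      exact (Subgroup.map_subtype_le _)
        ((Subgroup.mem_normalizer_iff.1 u.2 _).1 ((hVeq _).2 hz))
    have hfW : fimg (toFun φ) (wSub W S) = wSub W S := by
      haveI := finite_of_le (wSub_le (W := W) S)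
      refine Subgroup.eq_of_le_of_card_ge (fimg_le fun z hz => ?_)
        ((isMap_toFun hφ).res hWP).card_fimg.ge
      rw [toFun_apply φ (hWP hz)]
      refine (hVeq ⟨_, hφS ⟨z, hWP hz⟩⟩).1 ?_
      rw [hφι]
      exact (Subgroup.mem_normalizer_iff.1 u.2 _).1 ((hVeq _).2 hz)
    have haP : (a : Ω) ∈ P₀ := ⟨a, by
      show (u : G) * ι a * (u : G)⁻¹ ∈ ι.range
      rw [ha, ← hT]
      exact hu, rfl⟩
    have hm := move_mem_wMoves (isMap_toFun hφ) hWP hfW haP
    rw [toFun_apply φ haP] at hm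
    refine ⟨a⁻¹ * ⟨φ ⟨a, haP⟩, hφS _⟩, hm, ?_⟩
    rw [map_mul, map_inv, hφι ⟨a, haP⟩]
    show (ι a)⁻¹ * ((u : G) * ι a * (u : G)⁻¹) = _
    rw [ha]
    rfl
  have h6 : n ∈ commutator N ⊓ (TN : Subgroup N) := by
    refine ⟨hn, ?_⟩
    show (n : G) ∈ (T : Subgroup G)
    rw [show (n : G) = ι w from hne, hT]
    exact ⟨w, rfl⟩
  obtain ⟨m, hm, hme⟩ := key h6
  have : m = w := hι (hme.trans hne)
  exact this ▸ hm

end

/-- A positive functor controlling transfer in constrained groups controls transfer in all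
saturated systems. -/
theorem focal_le_wMoves [Fact p.Prime] (hW : TransferFunctor W p) :
    ∀ (n : ℕ) (Ω : Type u) [Group Ω] (S : Subgroup Ω) [Finite S] (F : FusionSystem S),
      IsPGroup p S → F.IsSaturated p → Nat.card S = n → F.focalSubgroup ≤ wMoves W F := by
  intro n
  induction n using Nat.strong_induction_on with
  | _ n IH =>
  intro Ω _ S _ F hS hF hn
  suffices aux : ∀ (m : ℕ) (R : Subgroup Ω) (G : FusionSystem R), R = S →
      Nat.card S - Nat.card G.core = m → G.IsSaturated p →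
      G.focalSubgroup ≤ wMoves W G from aux _ S F rfl rfl hF
  clear hF F
  intro m
  induction m using Nat.strong_induction_on with
  | _ m ihm =>
  intro R F hR hm hF
  subst hR
  haveI := finite_of_le (isNormal_core F).1
  -- maps normalising a normal subgroup outside the core
  have hbig : ∀ U, ¬ U ≤ F.core → U ≤ R → R ≤ Subgroup.normalizer (U : Set Ω) →
      ∀ P f, IsMap F P f → U ≤ P → fimg f U = U → ∀ x ∈ P, x⁻¹ * f x ∈ wMoves W F := by
    intro U hUC hUR hRU P f hf hUP hfU x hx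
    have heq : normalizerIn R U = R := le_antisymm inf_le_left (le_inf le_rfl hRU)
    have hUn : F.IsFullyNormalized U := ⟨hUR, fun Q hQ => by
      rw [heq]; exact Subgroup.card_le_of_le inf_le_left⟩
    set E' := normalizerSystem F U hUn.1 with hE'
    haveI : Finite ↥(normalizerIn R U) := finite_of_le (S := R) inf_le_left
    have hlt : F.core < E'.core := lt_of_lt_of_le
      (lt_of_le_of_ne le_sup_left fun e => hUC (e ▸ le_sup_right))
      (sup_le (le_core (isNormal_normalizerSystem_of_isNormal hUn.1 (isNormal_core F)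
          (by rw [heq]; exact (isNormal_core F).1)))
        (le_core (isNormal_normalizerSystem_self hUn.1)) : F.core ⊔ U ≤ E'.core)
    have hc'R : E'.core ≤ R := (isNormal_core E').1.trans inf_le_left
    haveI := finite_of_le hc'R
    have hcard := card_lt_of_lt hlt
    have hcard' := Subgroup.card_le_of_le hc'R
    have hfm : IsMap E' P f := (isMap_normalizerSystem hUn.1).2
      ⟨by rw [heq]; exact hf.source_le, fun x hx => by rw [heq]; exact hf.apply_mem hx, f,
        hf.res (sup_le le_rfl hUP), fun x _ => rfl, hfU⟩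
    have hEs := isSaturated_normalizerSystem hS hF hUn
    have h1 := ihm (Nat.card R - Nat.card E'.core) (by omega) _ E' heq rfl hEs (hfm.focal_mem hx)
    refine (Subgroup.closure_le _).2 ?_ h1
    rintro _ ⟨P₁, g, z, hg, hP₁, hgW, hz, rfl⟩
    rw [heq] at hP₁ hgW
    exact move_mem_wMoves (hg.mono (normalizerSystem_isSubsystemOf hUn.1)) hP₁ hgW hz
  by_cases hC1 : F.core = ⊥
  · -- trivial core
    let D : Subgroup Ω → (Ω → Ω) → Prop := fun P f => ∀ x ∈ P, x⁻¹ * f x ∈ wMoves W F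
    have hDcongr : ∀ P f g, D P f → (∀ x ∈ P, f x = g x) → D P g := fun P f g h e x hx =>
      e x hx ▸ h x hx
    have hDcomp : ∀ (P Q : Subgroup Ω) (f g : Ω → Ω), IsMap F P f → IsMap F Q g →
        (∀ x ∈ P, f x ∈ Q) → D P f → D Q g → D P (fun x => g (f x)) := by
      intro P Q f g _ _ hfQ hf hg x hx
      have := mul_mem (hf x hx) (hg _ (hfQ x hx))
      show x⁻¹ * g (f x) ∈ _
      simpa [mul_assoc] using this
    refine focalSubgroup_le_iff.2 fun P f hf => ?_
    refine alperin' hS hF D hDcongr hDcomp (fun P Q f _ hPQ h x hx => h x (hPQ hx)) ?_ ?_ hf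
    · intro α hα x hx
      have hm := (mem_autGroup le_rfl).1 hα
      haveI := finite_of_le (wSub_le (W := W) R)
      exact move_mem_wMoves hm (wSub_le R) (Subgroup.eq_of_le_of_card_ge
        (fimg_le fun z hz => autFun_mem_wSub hW hS α hz)
        (hm.res (wSub_le R)).card_fimg.ge) hx
    intro Q hQ big
    have hQR : Q ≤ R := hQ.1.1
    haveI := finite_of_le hQR
    suffices claim : ∀ (k : ℕ) (U : Subgroup Ω), Nat.card R - Nat.card ↥(normalizerIn R U) = k →
        U ≠ ⊥ → U ≤ R → Nat.card Q < Nat.card ↥(normalizerIn R U) →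
        ∀ P f, IsMap F P f → U ≤ P → P ≤ normalizerIn R U → fimg f U = U → D P f by
      intro α hα
      rcases hQR.eq_or_lt with rfl | hlt
      · intro x hx
        have hm := (mem_autGroup hQR).1 hα
        haveI := finite_of_le (wSub_le (W := W) Q)
        exact move_mem_wMoves hm (wSub_le Q) (Subgroup.eq_of_le_of_card_ge
          (fimg_le fun z hz => autFun_mem_wSub hW hS α hz)
          (hm.res (wSub_le Q)).card_fimg.ge) hx
      haveI : Finite ↥(normalizerIn R Q) := finite_of_le (S := R) inf_le_left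
      refine claim _ Q rfl ?_ hQR (card_lt_of_lt (lt_normalizerIn hS hlt)) Q _
        ((mem_autGroup hQR).1 hα) le_rfl (le_normalizerIn hQR) (fimg_autFun α)
      rintro rfl
      have hc := centralizerIn_le_of_centric hQ.1
      refine (bot_le.lt_of_ne hlt.ne).ne' (eq_bot_iff.2 fun x hx => hc (mem_centralizerIn.2 ⟨hx, ?_⟩))
      intro y hy
      have hy := Subgroup.mem_bot.1 hy
      rw [hy, one_mul, mul_one]
    intro k
    induction k using Nat.strong_induction_on with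
    | _ k ihk =>
    intro U hk hU1 hUR hcard P f hf hUP hPN hfU
    haveI := finite_of_le hUR
    obtain ⟨U', hU', hU'n⟩ := exists_fullyNormalized F hUR
    obtain ⟨θ, hθ, hθU, hθN⟩ := exists_map_to_fullyNormalized hS hF hU'n hU'
    obtain ⟨θ', hθ', hθ1, -, -⟩ := hθ.exists_inv
    set N := normalizerIn R U with hNdef
    set R' := normalizerIn R U' with hR'
    haveI : Finite N := finite_of_le (S := R) inf_le_left
    haveI : Finite R' := finite_of_le (S := R) inf_le_left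
    have hDθ : D N θ := big N θ hθ hcard
    have hDθ' : D (fimg θ N) θ' := big _ θ' hθ' (by rw [hθ.card_fimg]; exact hcard)
    have hUN : U ≤ N := le_normalizerIn hUR
    have hfN : ∀ x ∈ P, f x ∈ N := fun x hx => by
      have := hf.map_normalizerIn hUP hx (hPN hx).2
      rwa [hfU] at this
    set P' := fimg θ P with hP'
    have hP'N : P' ≤ fimg θ N := fimg_mono θ hPN
    have hθ'P : ∀ y ∈ P', θ' y ∈ P := fun y hy => by
      obtain ⟨x, hx, rfl⟩ := (hθ.res hPN).mem_fimg_iff.1 hy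
      rw [hθ1 x (hPN hx)]
      exact hx
    set f' := fun y => θ (f (θ' y)) with hf'def
    have hf' : IsMap F P' f' :=
      ((hθ'.res hP'N).comp hf hθ'P).comp hθ fun y hy => hfN _ (hθ'P y hy)
    have hU'P : U' ≤ P' := hθU ▸ fimg_mono θ hUP
    have hP'R : P' ≤ R' := fimg_le fun x hx => hθN x (hPN hx)
    have hf'U : fimg f' U' = U' := by
      haveI := finite_of_le hU'n.1
      refine Subgroup.eq_of_le_of_card_ge (fimg_le fun y hy => ?_) (hf'.res hU'P).card_fimg.ge
      rw [← hθU] at hy ⊢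
      obtain ⟨x, hx, rfl⟩ := (hθ.res hUN).mem_fimg_iff.1 hy
      show θ (f (θ' (θ x))) ∈ _
      rw [hθ1 x (hUN hx)]
      exact apply_mem_fimg θ (hfU ▸ apply_mem_fimg f hx)
    suffices hmain : D P' f' by
      refine hDcongr _ _ _ (hDcomp P (fimg θ N) _ θ' ((hθ.res hPN).comp hf'
        fun x hx => apply_mem_fimg θ hx) hθ' (fun x hx => ?_)
        (hDcomp P P' θ f' (hθ.res hPN) hf' (fun x hx => apply_mem_fimg θ hx)
          (fun x hx => hDθ x (hPN hx)) hmain) hDθ') fun x hx => ?_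
      · show θ (f (θ' (θ x))) ∈ fimg θ N
        rw [hθ1 x (hPN hx)]
        exact apply_mem_fimg θ (hfN x hx)
      · show θ' (θ (f (θ' (θ x)))) = f x
        rw [hθ1 x (hPN hx), hθ1 _ (hfN x hx)]
    have hNR' : Nat.card N ≤ Nat.card R' := hU'n.2 U (isConj_symm hU')
    have hR'R : R' ≤ R := inf_le_left
    have hR'card := Subgroup.card_le_of_le hR'R
    have hU'1 : U' ≠ ⊥ := fun e => hU1 (by
      have h1 := isConj_card hU'
      rw [e, Subgroup.card_bot] at h1
      exact Subgroup.card_eq_one.1 h1.symm)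
    rcases hR'R.eq_or_lt with h' | h'
    · exact fun x hx => hbig U' (by rw [hC1, le_bot_iff]; exact hU'1) hU'n.1
        (h'.ge.trans inf_le_right) P' f' hf' hU'P hf'U x hx
    set E' := normalizerSystem F U' hU'n.1 with hE'
    have hf'm : IsMap E' P' f' := (isMap_normalizerSystem hU'n.1).2
      ⟨hP'R, fun x hx => by
        have := hf'.map_normalizerIn hU'P hx (hP'R hx).2
        rwa [hf'U] at this, f', hf'.res (sup_le le_rfl hU'P), fun x _ => rfl, hf'U⟩
    have hR'p : IsPGroup p R' := hS.to_le hR'R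
    have hlt' := card_lt_of_lt h'
    have h1 := IH (Nat.card R') (hn ▸ hlt') Ω R' E' hR'p
      (isSaturated_normalizerSystem hS hF hU'n) rfl
    intro x hx
    refine (Subgroup.closure_le _).2 ?_ (h1 (hf'm.focal_mem hx))
    rintro _ ⟨P₁, g, z, hg, hP₁, hgW, hz, rfl⟩
    have hgF := hg.mono (normalizerSystem_isSubsystemOf hU'n.1)
    have hWR : wSub W R' ≤ R := (wSub_le R').trans hR'R
    have hnW : normalizerIn R R' ≤ normalizerIn R (wSub W R') :=
      inf_le_inf_left R (normalizer_le_normalizer_wSub hW hR'p)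
    haveI : Finite ↥(normalizerIn R (wSub W R')) := finite_of_le (S := R) inf_le_left
    haveI : Finite ↥(normalizerIn R R') := finite_of_le (S := R) inf_le_left
    have h2 : Nat.card R' < Nat.card ↥(normalizerIn R (wSub W R')) :=
      (card_lt_of_lt (lt_normalizerIn hS h')).trans_le (Subgroup.card_le_of_le hnW)
    have h3 : Nat.card ↥(normalizerIn R (wSub W R')) ≤ Nat.card R :=
      Subgroup.card_le_of_le inf_le_left
    refine ihk (Nat.card R - Nat.card ↥(normalizerIn R (wSub W R'))) (by omega) _ rfl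
      (wSub_ne_bot hW hR'p fun e => ?_) hWR (by omega) P₁ g hgF hP₁
      ((hg.source_le.trans (le_normalizerIn hR'R)).trans hnW) hgW z hz
    rw [e, Subgroup.card_bot] at hNR'
    have h4 : 0 < Nat.card Q := Nat.card_pos
    omega
  -- nontrivial core
  have hCn := isNormal_core F
  have IH' : ∀ (Ω' : Type u) [Group Ω'] (R' : Subgroup Ω') [Finite R'] (E : FusionSystem R'),
      IsPGroup p R' → E.IsSaturated p → Nat.card R' < Nat.card R → E.focalSubgroup ≤ wMoves W E :=
    fun Ω' _ R' _ E h1 h2 h3 => IH _ (hn ▸ h3) Ω' R' E h1 h2 rfl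
  have hgt : ∀ U, F.core < U → ¬ U ≤ F.core := fun U hU h => (hU.trans_le h).false
  have split : ∀ {H : FusionSystem R}, H.IsSubsystemOf F →
      H.focalSubgroup ≤ F.core ⊔ wMoves W H → H.focalSubgroup ⊓ F.core ≤ wMoves W H →
      H.focalSubgroup ≤ wMoves W H := by
    intro H _ h1 h2 x hx
    have hnor : wMoves W H ≤ Subgroup.normalizer (F.core : Set Ω) :=
      ((wMoves_le_focal.trans (focalSubgroup_le H))).trans (le_normalizer_of_isNormal hCn)
    have hx' : x ∈ (↑(F.core ⊔ wMoves W H) : Set Ω) := h1 hx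
    rw [Subgroup.coe_mul_of_right_le_normalizer_left F.core (wMoves W H) hnor, Set.mem_mul] at hx'
    obtain ⟨c, hc, d, hd, rfl⟩ := hx'
    refine mul_mem (h2 ⟨?_, hc⟩) hd
    have := mul_mem hx (inv_mem (wMoves_le_focal hd))
    rwa [mul_inv_cancel_right] at this
  by_cases hcc : centralizerIn R F.core ≤ F.core
  · exact split (fun _ _ h => h)
      (focal_le_sup_normal hS hF hW hCn hC1 IH' fun U hU => hbig U (hgt U hU))
      (focal_inf_le_of_centric hS hF hW hCn hcc)
  -- the system inner on the core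
  set E₀ := innerOnSystem hCn with hE₀
  have hsub₀ : E₀.IsSubsystemOf F := innerOnSystem_isSubsystemOf hCn
  have hE₀s : E₀.IsSaturated p := isSaturated_innerOnSystem hS hF hCn
  have hCn₀ : E₀.IsNormal F.core := isNormal_innerOnSystem hCn hCn le_rfl
  have hinn : E₀.focalSubgroup ≤ wMoves W E₀ := by
    rcases (le_core hCn₀).lt_or_eq with hlt | hcore
    · haveI := finite_of_le (isNormal_core E₀).1
      have hcard := card_lt_of_lt hlt
      have hcard' := Subgroup.card_le_of_le (isNormal_core E₀).1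
      exact ihm (Nat.card R - Nat.card E₀.core) (by omega) R E₀ rfl rfl hE₀s
    refine split hsub₀ (focal_le_sup_normal hS hE₀s hW hCn₀ hC1 IH' ?_) ?_
    · intro U hU hUR hRU P f hf hUP hfU x hx
      have heq : normalizerIn R U = R := le_antisymm inf_le_left (le_inf le_rfl hRU)
      have hUn : E₀.IsFullyNormalized U := ⟨hUR, fun Q hQ => by
        rw [heq]; exact Subgroup.card_le_of_le inf_le_left⟩
      set E' := normalizerSystem E₀ U hUn.1 with hE'
      have hlt : F.core < E'.core := hU.trans_le (le_core (isNormal_normalizerSystem_self hUn.1))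
      haveI : Finite ↥(normalizerIn R U) := finite_of_le (S := R) inf_le_left
      have hc'R : E'.core ≤ R := (isNormal_core E').1.trans inf_le_left
      haveI := finite_of_le hc'R
      have hcard := card_lt_of_lt hlt
      have hcard' := Subgroup.card_le_of_le hc'R
      have hfm : IsMap E' P f := (isMap_normalizerSystem hUn.1).2
        ⟨by rw [heq]; exact hf.source_le, fun x hx => by rw [heq]; exact hf.apply_mem hx, f,
          hf.res (sup_le le_rfl hUP), fun x _ => rfl, hfU⟩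
      have h1 := ihm (Nat.card R - Nat.card E'.core) (by omega) _ E' heq rfl
        (isSaturated_normalizerSystem hS hE₀s hUn) (hfm.focal_mem hx)
      refine (Subgroup.closure_le _).2 ?_ h1
      rintro _ ⟨P₁, g, z, hg, hP₁, hgW, hz, rfl⟩
      rw [heq] at hP₁ hgW
      exact move_mem_wMoves (hg.mono (normalizerSystem_isSubsystemOf hUn.1)) hP₁ hgW hz
    · refine le_trans (focal_inf_le_commutator hS hE₀s hCn₀ fun P g hg hCP => ?_)
        (commutator_le_wMoves hW hS)
      obtain ⟨h, -, hh1, s, hs, hhs⟩ := (isMap_innerOnSystem hCn).1 hg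
      exact ⟨s, hs, fun u hu => (hh1 u (hCP hu)).symm.trans (hhs u hu)⟩
  refine focalSubgroup_le_iff.2 fun P f hf x hx => ?_
  obtain ⟨g, hg, hg1, hgC⟩ := (isNormal_iff.1 hCn).2 P f hf
  set C := F.core with hC
  have hCR : C ≤ R := hCn.1
  obtain ⟨γ, hγ, hγe⟩ := (hg.res le_sup_right).exists_aut hgC
  set K := centralizerIn R C with hK
  have hRC : R ≤ Subgroup.normalizer (C : Set Ω) := le_normalizer_of_isNormal hCn
  have hPCR : P ⊔ C ≤ R := hg.source_le
  have hNR : P ⊔ C ⊔ K ≤ R := sup_le hPCR inf_le_left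
  have hCfn : F.IsFullyNormalized C := ⟨hCR, fun Q hQ => by
    rw [show normalizerIn R C = R from le_antisymm inf_le_left (le_inf le_rfl hRC)]
    exact Subgroup.card_le_of_le inf_le_left⟩
  let M : Subgroup R := (conjOn hCn).range.comap
    ((MulAut.conj (⟨γ, hγ⟩ : F.autGroup C)).toMonoidHom.comp (conjOn hCn))
  have hM : P ⊔ C ⊔ K ≤ M.map R.subtype := by
    refine sup_le (fun x hx => ⟨⟨x, hPCR hx⟩, ⟨⟨g x, hg.apply_mem hx⟩, ?_⟩, rfl⟩)
      fun x hx => ⟨⟨x, hx.1⟩, ⟨1, ?_⟩, rfl⟩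
    · exact eq_mul_inv_of_mul_eq (conjOn_map hCn hg le_sup_right (fun u hu => (hγe u hu).symm)
        (s := ⟨x, hPCR hx⟩) hx)
    · rw [map_one]
      show (1 : F.autGroup C) = (⟨γ, hγ⟩ : F.autGroup C) * conjOn hCn ⟨x, hx.1⟩ * (⟨γ, hγ⟩)⁻¹
      rw [conjOn_eq_of_forall hCn (s := ⟨x, hx.1⟩) (a := 1) fun u hu => by
        show x * u * x⁻¹ = _
        rw [OneMemClass.coe_one, autFun_one hu, ← (mem_centralizerIn.1 hx).2 u hu,
          mul_inv_cancel_right], mul_one, mul_inv_cancel]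
  obtain ⟨θ, hθ, hθe⟩ := receptive_extend (receptive_of_fullyNormalized hS hF hCfn)
    ((mem_autGroup hCR).1 hγ) (fimg_autFun γ) (N := P ⊔ C ⊔ K) (fun y hy => by
      obtain ⟨s, ⟨k, hk⟩, rfl⟩ := hM hy
      refine ⟨⟨s.2, hRC s.2⟩, k, k.2, fun u hu => ?_⟩
      rw [← autFun_conjOn hCn k (autFun_mem _ hu), hk, ← autFun_mul _ _ hu]
      show autFun γ ((s : Ω) * u * (s : Ω)⁻¹) = autFun (((⟨γ, hγ⟩ : F.autGroup C) *
        conjOn hCn s * (⟨γ, hγ⟩)⁻¹ * ⟨γ, hγ⟩ : F.autGroup C) : MulAut C) u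
      rw [inv_mul_cancel_right, Subgroup.coe_mul, autFun_mul _ _ hu, autFun_conjOn hCn s hu])
    (le_sup_right.trans le_sup_left)
  have hCPC : C ≤ P ⊔ C ⊔ K := le_sup_right.trans le_sup_left
  have hKN : K ⊔ C ≤ P ⊔ C ⊔ K := sup_le le_sup_right hCPC
  have hθC : fimg θ C = C := (fimg_congr hθe).trans (fimg_autFun γ)
  have hθKC : fimg θ (K ⊔ C) = K ⊔ C := by
    haveI := finite_of_le (hKN.trans hNR)
    refine Subgroup.eq_of_le_of_card_ge ?_ (hθ.res hKN).card_fimg.ge
    rw [(hθ.res hKN).fimg_sup, hθC]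
    refine sup_le_sup_right (fimg_le fun k hk => mem_centralizerIn.2
      ⟨hθ.apply_mem (Subgroup.mem_sup_right hk), fun x hx => ?_⟩) C
    rw [← hθC] at hx
    obtain ⟨c, hc, rfl⟩ := (hθ.res hCPC).mem_fimg_iff.1 hx
    rw [← hθ.map_mul (hCPC hc) (Subgroup.mem_sup_right hk), (mem_centralizerIn.1 hk).2 c hc,
      hθ.map_mul (Subgroup.mem_sup_right hk) (hCPC hc)]
  have hRQ : R ≤ Subgroup.normalizer ((K ⊔ C : Subgroup Ω) : Set Ω) := by
    have key : ∀ {s : Ω}, s ∈ R → ∀ k ∈ K, s * k * s⁻¹ ∈ K := fun {s} hs k hk => by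
      obtain ⟨hk1, hk2⟩ := mem_centralizerIn.1 hk
      refine mem_centralizerIn.2 ⟨R.mul_mem (R.mul_mem hs hk1) (R.inv_mem hs), fun y hy => ?_⟩
      have h1 := hk2 _ ((Subgroup.mem_normalizer_iff''.1 (hRC hs) y).1 hy)
      calc y * (s * k * s⁻¹) = s * (s⁻¹ * y * s * k) * s⁻¹ := by group
        _ = s * (k * (s⁻¹ * y * s)) * s⁻¹ := by rw [h1]
        _ = s * k * s⁻¹ * y := by group
    exact fun s hs => normalizer_sup_le (hRC hs) (mem_normalizer_of_forall (key hs)
      fun x hx => by simpa using key (inv_mem hs) x hx)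
  have hxP : x ∈ P ⊔ C := Subgroup.mem_sup_left hx
  have hDθ : x⁻¹ * θ x ∈ wMoves W F :=
    hbig (K ⊔ C) (fun h => hcc (le_sup_left.trans h)) (hKN.trans hNR) hRQ _ θ hθ hKN hθKC x
      (Subgroup.mem_sup_left hxP)
  have hθ' : IsMap F (P ⊔ C) θ := hθ.res le_sup_left
  obtain ⟨h, hh, hh1, -, -⟩ := hθ'.exists_inv
  have hhP : ∀ y ∈ fimg θ (P ⊔ C), h y ∈ P ⊔ C := fun y hy => by
    obtain ⟨x, hx, rfl⟩ := hθ'.mem_fimg_iff.1 hy
    rw [hh1 x hx]
    exact hx
  have hg₃m : IsMap F (fimg θ (P ⊔ C)) (fun y => g (h y)) := hh.comp hg hhP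
  have hCθ : C ≤ fimg θ (P ⊔ C) := hθC.ge.trans (fimg_mono θ le_sup_right)
  have hg₃E : IsMap E₀ (fimg θ (P ⊔ C)) (fun y => g (h y)) := (isMap_innerOnSystem hCn).2
    ⟨fun y => g (h y), hg₃m.res (sup_le le_rfl hCθ), fun _ _ => rfl, 1, one_mem _, fun u hu => by
      rw [← hθC, (hθ'.res le_sup_right).mem_fimg_iff] at hu
      obtain ⟨c, hc, rfl⟩ := hu
      show g (h (θ c)) = 1 * θ c * 1⁻¹
      rw [hh1 c (Subgroup.mem_sup_right hc), hθe c hc, hγe c hc]
      group⟩
  have h2 := wMoves_mono hsub₀ (hinn (hg₃E.focal_mem (apply_mem_fimg θ hxP)))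
  simp only [hh1 x hxP] at h2
  have h3 := mul_mem hDθ h2
  rw [← hg1 x hx]
  rwa [show x⁻¹ * θ x * ((θ x)⁻¹ * g x) = x⁻¹ * g x by group] at h3

end Cfsg.Agent.Fus
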