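import Mathlib
import Cfsg.Agent.Lib.Fus.FunctorTransfer
import Cfsg.Agent.Lib.Invol.KInfTransfer

/-!
For `p ≥ 5`, a saturated system whose automorphisms of `S` form a `p`-group has a proper focal
subgroup.
-/

set_option autoImplicit false
set_option linter.style.haveILetI false
set_option linter.unusedSectionVars false

open scoped Classical

universe u

namespace Cfsg.Agent.Fus

open Subgroup FusionSystem

/-- The lower K-infinity subgroup controls transfer. -/
theorem transferFunctor_kInfLower {p : ℕ} [Fact p.Prime] (hp : 5 ≤ p) :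
    TransferFunctor.{u} (fun Q [Group Q] => Cfsg.kInfLower Q) p := by
  have h := Invol.KInf.isCharPFunctor_kInfLower.{u} p
  refine ⟨h.1, h.2, fun G _ _ P _ => ?_⟩
  have e := Invol.inf_commutator_eq_of_transferCtrl
    (Invol.transferCtrl_kInfLower hp (G := G) G (Invol.IsSectionOf.refl G)) P
  have hle : pCore p G ≤ (P : Subgroup G) := Grp.pCore_le_sylow P
  rw [← inf_eq_left.2 hle, inf_assoc, inf_assoc, e]
  congr 2
  rw [_root_.commutator_def, Subgroup.map_commutator, ← MonoidHom.range_eq_map, Subgroup.range_subtype]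
  rfl

/-- A `p`-group of automorphisms of a nontrivial `p`-group moves it into a proper subgroup. -/
theorem exists_lt_moves {Ω : Type*} [Group Ω] {S : Subgroup Ω} [Finite S] {p : ℕ} [Fact p.Prime]
    (hS : IsPGroup p S) (hS1 : S ≠ ⊥) {A : Subgroup (MulAut S)} (hA : IsPGroup p A) :
    ∃ M : Subgroup Ω, M < S ∧ ∀ a ∈ A, ∀ x ∈ S, x⁻¹ * autFun a x ∈ M := by
  haveI : NeZero p := ⟨(Fact.out : p.Prime).ne_zero⟩
  let V := S →* Multiplicative (ZMod p)
  haveI : Finite V := Finite.of_injective (fun f : V => (f : S → Multiplicative (ZMod p)))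
    DFunLike.coe_injective
  letI : MulAction A V :=
    { smul := fun a f => f.comp ((a : MulAut S)⁻¹).toMonoidHom
      one_smul := fun f => MonoidHom.ext fun x => by
        show f (((1 : A) : MulAut S)⁻¹ x) = f x
        simp
      mul_smul := fun a b f => MonoidHom.ext fun x => by
        show f (((a * b : A) : MulAut S)⁻¹ x) = f ((b : MulAut S)⁻¹ ((a : MulAut S)⁻¹ x))
        rw [Subgroup.coe_mul, mul_inv_rev]
        rfl }
  have hVp : IsPGroup p V := fun f => ⟨1, MonoidHom.ext fun x => by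
    rw [pow_one, MonoidHom.pow_apply, MonoidHom.one_apply]
    exact orderOf_dvd_iff_pow_eq_one.1 (by simpa using orderOf_dvd_natCard (f x))⟩
  haveI : Nontrivial S := (Subgroup.nontrivial_iff_ne_bot S).2 hS1
  obtain ⟨M₀, hM₀, -⟩ := (eq_top_or_exists_le_coatom (⊥ : Subgroup S)).resolve_left bot_ne_top
  obtain ⟨hM₀n, hM₀i⟩ := Grp.coatom_index_eq_of_pGroup hS hM₀
  haveI := hM₀n
  haveI : IsCyclic (S ⧸ M₀) := isCyclic_of_prime_card hM₀i
  let e : S ⧸ M₀ ≃* Multiplicative (ZMod p) := mulEquivOfPrimeCardEq hM₀i (by simp)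
  have hne : e.toMonoidHom.comp (QuotientGroup.mk' M₀) ≠ (1 : V) := fun h0 => by
    refine hM₀.1 (eq_top_iff.2 fun x _ => ?_)
    have h1 := DFunLike.congr_fun h0 x
    rw [← QuotientGroup.eq_one_iff]
    exact e.injective (h1.trans e.map_one.symm)
  haveI : Nontrivial V := ⟨_, _, hne⟩
  obtain ⟨k, hk, hk'⟩ := hVp.nontrivial_iff_card.1 inferInstance
  obtain ⟨f, hf, hf1⟩ := hA.exists_fixed_point_of_prime_dvd_card_of_fixed_point V
    (by rw [hk']; exact dvd_pow_self p hk.ne') (a := (1 : V))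
    (fun a => MonoidHom.ext fun x => rfl)
  refine ⟨f.ker.map S.subtype, lt_of_le_of_ne (Subgroup.map_subtype_le _) fun e' => hf1 ?_, ?_⟩
  · refine (MonoidHom.ext fun x => ?_ : (1 : V) = f)
    obtain ⟨y, hy, hyx⟩ := e'.ge x.2
    rw [MonoidHom.one_apply, ← show y = x from Subtype.ext hyx]
    exact (MonoidHom.mem_ker.1 hy).symm
  · intro a ha x hx
    refine ⟨(⟨x, hx⟩ : S)⁻¹ * a ⟨x, hx⟩, ?_, ?_⟩
    · have h1 := DFunLike.congr_fun (hf ⟨a, ha⟩) (a ⟨x, hx⟩)
      have h2 : f (((a : MulAut S)⁻¹) (a ⟨x, hx⟩)) = f (a ⟨x, hx⟩) := h1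
      rw [MulAut.inv_apply_self] at h2
      show f _ = 1
      rw [map_mul, map_inv, ← h2, inv_mul_cancel]
    · show x⁻¹ * ((a ⟨x, hx⟩ : S) : Ω) = _
      rw [← autFun_coe a ⟨x, hx⟩]

section

variable {Ω : Type u} [Group Ω] {S : Subgroup Ω} [Finite S] {F : FusionSystem S} {p : ℕ}
  [Fact p.Prime]

/-- The step through a normal subgroup. -/
theorem focal_lt_of_normal (hS : IsPGroup p S) (hF : F.IsSaturated p)
    (haut : IsPGroup p (F.autGroup S)) {C : Subgroup Ω} (hC : F.IsNormal C) (hC1 : C ≠ ⊥)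
    (hlt : C < S)
    (IH : ∀ (Ω' : Type u) [Group Ω'] (R : Subgroup Ω') [Finite R] (E : FusionSystem R),
      IsPGroup p R → E.IsSaturated p → R ≠ ⊥ → IsPGroup p (E.autGroup R) →
      Nat.card R < Nat.card S → E.focalSubgroup < R) :
    F.focalSubgroup < S := by
  haveI : (C.subgroupOf S).Normal :=
    Subgroup.normal_subgroupOf_of_le_normalizer (le_normalizer_of_isNormal hC)
  let θ : S →* S ⧸ C.subgroupOf S := QuotientGroup.mk' _
  have hker : ∀ s : S, θ s = 1 ↔ (s : Ω) ∈ C := fun s => by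
    rw [QuotientGroup.mk'_apply, QuotientGroup.eq_one_iff, Subgroup.mem_subgroupOf]
  have hCsc := stronglyClosed_of_isNormal hC
  set E := factorSystemAlong F hCsc θ hker
  have hE : F.IsFactorSystem C θ E := isFactorSystem_factorSystemAlong F hCsc θ hker
  have hEs : E.IsSaturated p := isSaturated_factor hS hF hCsc hE
  have hEp : IsPGroup p θ.range := hS.of_surjective θ.rangeRestrict θ.rangeRestrict_surjective
  have hne : θ.range ≠ ⊥ := by
    obtain ⟨s, hs, hsC⟩ := SetLike.lt_iff_le_and_exists.1 hlt |>.2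
    intro h
    have h1 : θ ⟨s, hs⟩ ∈ θ.range := ⟨_, rfl⟩
    rw [h, Subgroup.mem_bot, hker] at h1
    exact hsC h1
  have hcard : Nat.card θ.range < Nat.card S := by
    refine lt_of_le_of_ne (Nat.card_le_card_of_surjective _ θ.rangeRestrict_surjective) fun e => hC1 ?_
    have hbij := (Nat.bijective_iff_surjective_and_card _).2 ⟨θ.rangeRestrict_surjective, e.symm⟩
    refine eq_bot_iff.2 fun c hc => ?_
    have h1 : θ.rangeRestrict ⟨c, hC.1 hc⟩ = θ.rangeRestrict 1 :=
      Subtype.ext (((hker _).2 hc).trans (map_one θ).symm)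
    exact congrArg Subtype.val (hbij.1 h1)
  have hpre : preimageAlong θ θ.range = S :=
    le_antisymm (preimageAlong_le _) fun x hx => mem_preimageAlong.2 ⟨hx, _, rfl⟩
  have hEaut : IsPGroup p (E.autGroup θ.range) := by
    rintro ⟨a, ha⟩
    obtain ⟨g, hg, hge⟩ := exists_lift hE ((mem_autGroup le_rfl).1 ha)
    rw [hpre] at hg
    obtain ⟨β, hβ, hβe⟩ := hg.exists_aut (fimg_eq_self_of_source_top hg)
    obtain ⟨k, hk⟩ := haut ⟨β, hβ⟩
    have hk' : β ^ p ^ k = 1 := congrArg Subtype.val hk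
    refine ⟨k, Subtype.ext (mulAut_ext fun y hy => ?_)⟩
    show autFun (a ^ p ^ k) y = autFun 1 y
    obtain ⟨x, rfl⟩ := id hy
    have hrel : ∀ i : ℕ, autFun (a ^ i) (θ x) = θ ⟨autFun (β ^ i) x, autFun_mem _ x.2⟩ := by
      intro i
      induction i with
      | zero =>
        rw [pow_zero, autFun_one hy]
        congr 1
        exact Subtype.ext (by simp [autFun_one x.2])
      | succ i ih =>
        have hxi : autFun (β ^ i) x ∈ S := autFun_mem _ x.2
        rw [pow_succ', autFun_mul _ _ hy, ih, ← hge (autFun (β ^ i) x)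
          (hpre.ge hxi) (hg.apply_mem hxi)]
        congr 1
        exact Subtype.ext (by
          show g (autFun (β ^ i) x) = autFun (β ^ (i + 1)) x
          rw [pow_succ', autFun_mul _ _ x.2, hβe _ hxi])
    rw [hrel, autFun_one hy, hk']
    congr 1
    exact Subtype.ext (autFun_one x.2)
  obtain ⟨hle, v, ⟨s, rfl⟩, hv⟩ := SetLike.lt_iff_le_and_exists.1
    (IH _ θ.range E hEp hEs hne hEaut hcard)
  let M : Subgroup Ω := preimageAlong θ E.focalSubgroup
  have hM : F.focalSubgroup ≤ M := by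
    refine focalSubgroup_le_iff.2 fun P f hf x hx => ?_
    obtain ⟨φ, hφ, hφe⟩ := hf.exists_hom
    obtain ⟨φ', hφ', hP, hφS, hP', hind⟩ := (isMorphism_factor hS hF hCsc hE).2 P φ hφ
    have h := (isMap_toFun hφ').focal_mem (hP' ⟨x, hx⟩)
    rw [toFun_apply φ' (hP' ⟨x, hx⟩), hind ⟨x, hx⟩, ← map_inv, ← map_mul] at h
    exact ⟨_, h, by
      show (x⁻¹ * φ ⟨x, hx⟩ : Ω) = x⁻¹ * f x
      rw [hφe]⟩
  refine lt_of_le_of_ne (focalSubgroup_le F) fun e => hv ?_
  obtain ⟨hs, h⟩ := mem_preimageAlong.1 (hM (e.ge s.2))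
  exact h

end

/-- For `p ≥ 5` a `p`-group of automorphisms of `S` forces a proper focal subgroup. -/
theorem focal_lt {p : ℕ} [Fact p.Prime] (hp : 5 ≤ p) :
    ∀ (n : ℕ) (Ω : Type u) [Group Ω] (S : Subgroup Ω) [Finite S] (F : FusionSystem S),
      IsPGroup p S → F.IsSaturated p → S ≠ ⊥ → IsPGroup p (F.autGroup S) → Nat.card S = n →
      F.focalSubgroup < S := by
  intro n
  induction n using Nat.strong_induction_on with
  | _ n IH =>
  intro Ω _ S _ F hS hF hS1 haut hn
  have hW := transferFunctor_kInfLower.{u} hp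
  set W := wSub (fun Q [Group Q] => Cfsg.kInfLower Q) S with hWdef
  have hWS : W ≤ S := wSub_le S
  have hfoc := focal_le_wMoves hW _ Ω S F hS hF rfl
  rcases hWS.eq_or_lt with hWe | hWlt
  · obtain ⟨M, hM, hmove⟩ := exists_lt_moves hS hS1 haut
    refine lt_of_le_of_lt (hfoc.trans ((Subgroup.closure_le _).2 ?_)) hM
    rintro _ ⟨P, f, x, hf, hP, -, hx, rfl⟩
    obtain rfl : P = S := le_antisymm hf.source_le (hWe.ge.trans hP)
    obtain ⟨α, hα, hαe⟩ := hf.exists_aut (fimg_eq_self_of_source_top hf)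
    rw [← hαe x hx]
    exact hmove α hα x hx
  have hSn : S ≤ Subgroup.normalizer (W : Set Ω) :=
    Subgroup.le_normalizer.trans (normalizer_le_normalizer_wSub hW hS)
  have heq : normalizerIn S W = S := le_antisymm inf_le_left (le_inf le_rfl hSn)
  have hWn : F.IsFullyNormalized W := ⟨hWS, fun Q _ => by
    rw [heq]; exact Subgroup.card_le_of_le inf_le_left⟩
  set N := normalizerSystem F W hWS
  haveI : Finite ↥(normalizerIn S W) := finite_of_le (S := S) inf_le_left
  have hNaut : IsPGroup p (N.autGroup (normalizerIn S W)) :=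
    IsPGroup.to_le (heq.symm ▸ haut : IsPGroup p (F.autGroup (normalizerIn S W)))
      (autGroup_mono (normalizerSystem_isSubsystemOf hWS) _)
  have h := focal_lt_of_normal (F := N) (hS.to_le inf_le_left)
    (isSaturated_normalizerSystem hS hF hWn) hNaut (isNormal_normalizerSystem_self hWS)
    (wSub_ne_bot hW hS hS1) (by rw [heq]; exact hWlt)
    fun Ω' _ R _ E hR hE hR1 hEa hlt =>
      IH _ (by rw [← hn]; exact lt_of_lt_of_eq hlt (by rw [heq])) Ω' R E hR hE hR1 hEa rfl
  refine lt_of_le_of_lt (hfoc.trans ((Subgroup.closure_le _).2 ?_)) (lt_of_lt_of_eq h heq)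
  rintro _ ⟨P, f, x, hf, hP, hfW, hx, rfl⟩
  have hm : IsMap N P f := (isMap_normalizerSystem hWS).2
    ⟨hf.source_le.trans heq.ge, fun y hy => heq.ge (hf.apply_mem hy), f,
      hf.res (sup_le le_rfl hP), fun _ _ => rfl, hfW⟩
  exact hm.focal_mem hx

end Cfsg.Agent.Fus
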