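import Cfsg.Agent.Lib.Fus.LayerBase
import Cfsg.Agent.Lib.Fus.InterNormal
import Cfsg.Agent.Lib.Fus.EnvelopeLevel

/-!
Components lie in every normal subsystem whose support contains theirs, and the layer exists.
-/

set_option autoImplicit false
set_option linter.style.haveILetI false
set_option linter.unusedSectionVars false

open scoped Classical

universe u

namespace Cfsg.Agent.Fus.Layer

open Subgroup FusionSystem

variable {Ω : Type u} [Group Ω] {S : Subgroup Ω} {F : FusionSystem S} {p : ℕ}

/-- A subnormal subsystem is a subsystem. -/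
theorem subnormal_subsystem {T : Subgroup Ω} {E : FusionSystem T} (h : E.IsSubnormalIn F p) :
    E.IsSubsystemOf F := by
  induction h with
  | refl F p => exact fun P => subset_rfl
  | step _ h2 ih => exact fun P => (ih P).trans (h2.1.2.2.1 P)

/-- A saturated system is normal in itself. -/
theorem isNormalIn_self [Finite S] [Fact p.Prime] (hF : F.IsSaturated p) : F.IsNormalIn F p :=
  normal_of_weakly_full ⟨hF, hF, Envelope.invariant_self F⟩

/-- A quasisimple subnormal subsystem is subnormal in every normal subsystem whose support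
contains its own. -/
theorem subnormal_of_le {TC : Subgroup Ω} {C : FusionSystem TC} (hC : C.IsSubnormalIn F p) :
    ∀ (_ : p.Prime) (_ : Finite S) (_ : IsPGroup p S) (_ : F.IsSaturated p) (_ : C.Quasisimple p)
      {T₁ : Subgroup Ω} (E₁ : FusionSystem T₁), E₁.IsNormalIn F p → TC ≤ T₁ →
      C.IsSubnormalIn E₁ p := by
  induction hC with
  | refl F p =>
    intro hp _ hS hF hq T₁ E₁ hE hle
    haveI : Fact (Nat.Prime _) := ⟨hp⟩
    obtain rfl := le_antisymm hE.1.2.2.2.1.1 hle
    rw [eq_of_hom_eq (hom_eq_of_quasisimple hS hq hE)]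
    exact .refl F p
  | step hsub hD ih =>
    rename_i T U S' C D F p
    intro hp _ hS hF hq T₁ E₁ hE hle
    haveI : Fact (Nat.Prime _) := ⟨hp⟩
    have d : Inter.Two F p D E₁ := ⟨hS, hF, hD, hE⟩
    have hUS := hD.1.2.2.2.1.1
    haveI := finite_of_le hUS
    have hTU := CompFree.subnormal_le hsub
    have h1 := Inter.interSys_normal_sub d hD inf_le_left fun {R} hR {b} hb => hb.2.2.2.1
    have h2 := Inter.interSys_normal_sub d hE inf_le_right fun {R} hR {b} hb => hb.2.2.2.2
    exact .step (ih hp (finite_of_le hUS) (hS.to_le hUS) hD.1.1 hq _ h1 (le_inf hTU hle)) h2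

/-- The components lie in every normal subsystem whose support contains theirs. -/
theorem component_le [Finite S] [Fact p.Prime] (hS : IsPGroup p S) (hF : F.IsSaturated p) {TC : Subgroup Ω}
    {C : FusionSystem TC} (hC : C.IsComponentIn F p) {T₁ : Subgroup Ω} {E₁ : FusionSystem T₁}
    (hE : E₁.IsNormalIn F p) (hle : TC ≤ T₁) : C.IsSubsystemOf E₁ :=
  subnormal_subsystem (subnormal_of_le hC.1 Fact.out ‹Finite S› hS hF hC.2 E₁ hE hle)

/-- The maps of a system, with their sources. -/
def maps (F : FusionSystem S) : Set (Σ P : Subgroup Ω, ↥P →* Ω) := {x | x.2 ∈ F.Hom x.1}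

/-- A system over a finite group has finitely many maps. -/
theorem finite_maps [Finite S] (F : FusionSystem S) : (maps F).Finite := by
  have hfib : ∀ P : Subgroup Ω, P ≤ S → (F.Hom P).Finite := fun P hP => by
    haveI := finite_of_le hP
    let f : F.Hom P → (P → S) := fun φ x => ⟨φ.1 x, (F.le_of_mem φ.2).2 x⟩
    haveI : Finite (F.Hom P) := Finite.of_injective f fun a b h => Subtype.ext
      (MonoidHom.ext fun x => congrArg Subtype.val (congrFun h x))
    exact Set.toFinite _
  refine (finite_subgroups_le.biUnion fun P hP => (hfib P hP).image (Sigma.mk P)).subset ?_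
  rintro ⟨P, φ⟩ h
  exact Set.mem_biUnion (F.le_of_mem h).1 ⟨φ, h, rfl⟩

/-- The layer exists. -/
theorem exists_layer [Finite S] [Fact p.Prime] (hS : IsPGroup p S) (hF : F.IsSaturated p) :
    ∃ (T : Subgroup Ω) (E : FusionSystem T), E.IsLayerOf F p := by
  let Q : ℕ → Prop := fun n => ∃ (T : Subgroup Ω) (E : FusionSystem T), E.IsNormalIn F p ∧
    (∀ (U : Subgroup Ω) (C : FusionSystem U), C.IsComponentIn F p → U ≤ T) ∧ (maps E).ncard = n
  have hQ : ∃ n, Q n := ⟨_, S, F, isNormalIn_self hF,
    fun U C hC => CompFree.subnormal_le hC.1, rfl⟩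
  obtain ⟨T, E, hE, hcont, hn⟩ := Nat.find_spec hQ
  refine ⟨T, E, hE, fun U C hC => component_le hS hF hC hE (hcont U C hC),
    fun R D hD hDc => ?_⟩
  have hsupp : ∀ (U : Subgroup Ω) (C : FusionSystem U), C.IsComponentIn F p → U ≤ R :=
    fun U C hC => (D.le_of_mem (hDc U C hC _ (subtype_mem C le_rfl))).1
  have d : Inter.Two F p E D := ⟨hS, hF, hE, hD⟩
  have hI := Inter.interSys_normal d
  have h1 := (Inter.interSys_normal_sub d hE inf_le_left fun {R} hR {b} hb => hb.2.2.2.1).1.2.2.1
  have h2 := (Inter.interSys_normal_sub d hD inf_le_right fun {R} hR {b} hb => hb.2.2.2.2).1.2.2.1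
  haveI := finite_of_le hE.1.2.2.2.1.1
  have hle : maps (Inter.interSys d) ⊆ maps E := fun x hx => h1 x.1 hx
  have hmin : Nat.find hQ ≤ (maps (Inter.interSys d)).ncard := Nat.find_le
    ⟨_, _, hI, fun U C hC => le_inf (hcont U C hC) (hsupp U C hC), rfl⟩
  have heq := Set.eq_of_subset_of_ncard_le hle (hn ▸ hmin) (finite_maps E)
  intro P φ hφ
  have : (⟨P, φ⟩ : Σ P : Subgroup Ω, ↥P →* Ω) ∈ maps (Inter.interSys d) := heq.symm ▸ hφ
  exact h2 P this

end Cfsg.Agent.Fus.Layer
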