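import Cfsg.Agent.Lib.Fus.FunctorFree
import Cfsg.Agent.Lib.Fus.FunctorCenter
import Cfsg.Agent.Lib.Fus.ZJFunctor
import Cfsg.Agent.Lib.Fus.ComponentFree
import Cfsg.Agent.Lib.Fus.LayerExist
import Cfsg.Agent.Lib.Grp.QuadraticGroup

/-!
A characteristic functor that is normal in the constrained groups without `Qd(p)`, for any prime:
it is normal in the free saturated systems, which are solvable, constrained and realizable.
-/

set_option autoImplicit false
set_option linter.style.haveILetI false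
set_option linter.unusedSectionVars false

open scoped Classical

namespace Cfsg.Agent.Fus

open Subgroup FusionSystem

universe u v

/-- A functor on finite `p`-groups, normal in the constrained groups without `Qd(p)`. -/
structure FreeFunctor (p : ℕ) where
  /-- the functor -/
  W : ∀ (Q : Type u) [Group Q], Subgroup Q
  ne_bot : ∀ (Q : Type u) [Group Q] [Finite Q], IsPGroup p Q → Nontrivial Q → W Q ≠ ⊥
  map_eq : ∀ (Q R : Type u) [Group Q] [Group R] [Finite Q], IsPGroup p Q → ∀ φ : Q ≃* R,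
    (W Q).map φ.toMonoidHom = W R
  normal : ∀ (L : Type u) [Group L] [Finite L] (P : Sylow p L),
    Subgroup.centralizer ((Cfsg.pCore p L : Subgroup L) : Set L) ≤ Cfsg.pCore p L →
    ¬ Cfsg.Involves ↥(Cfsg.qd p) L →
    (((W ↥(P : Subgroup L)).map (P : Subgroup L).subtype : Subgroup L)).Normal

namespace FreeFunctor

variable {p : ℕ} [Fact p.Prime] (Φ : FreeFunctor.{u} p) {Ω : Type u} [Group Ω] {S : Subgroup Ω}
  [Finite S] {F : FusionSystem S}

/-- The functor is normal in free saturated systems. -/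
theorem isNormal (hS : IsPGroup p S) (hF : F.IsSaturated p) (hw : ¬ QdWitness F p) :
    F.IsNormal ((Φ.W S).map S.subtype) := by
  have hWS : (Φ.W ↥S).map S.subtype ≤ S := Subgroup.map_subtype_le _
  have hbot : wMod Φ.W S ⊥ = (Φ.W ↥S).map S.subtype := wMod_bot Φ.W Φ.map_eq hS
  refine isNormal_iff.2 ⟨hWS, fun P f hf => ?_⟩
  set D : Subgroup Ω → (Ω → Ω) → Prop := IsMap (normalizerSystem F ((Φ.W ↥S).map S.subtype) hWS) with hDdef
  have hN := isNormalizerSystem_normalizerSystem F hWS
  have hSW : S ≤ FusionSystem.normalizerIn S ((Φ.W ↥S).map S.subtype) :=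
    le_normalizerIn_of_char hWS fun s hs x hx => by
      have hsn : S ≤ Subgroup.normalizer ((⊥ : Subgroup Ω) : Set Ω) := by
        rw [Subgroup.normalizer_eq_top]; exact le_top
      rw [← hbot] at hx ⊢
      exact wMod_invariant Φ.W Φ.map_eq hS (isMap_conj F le_rfl hs)
        (fimg_eq_self_of_source_top (isMap_conj F le_rfl hs)) bot_le hsn
        (le_antisymm (fimg_le fun y hy => by
          rw [Subgroup.mem_bot] at hy ⊢; simp [hy]) bot_le) hx
  have hD : IsMapProp F D :=
    ⟨fun P f g h e => h.congr e, fun P Q f g _ _ h h1 h2 => h1.comp h2 h,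
      fun P Q f _ h h1 => h1.res h⟩
  have key : D P f := by
    refine functorInduction hS hF hD (wMod Φ.W) (wMod_le Φ.W)
      (fun R X hR hXR hn => by
        have := finite_of_le hR
        exact lt_wMod Φ.W Φ.ne_bot (hS.to_le hR) hXR hn)
      (fun R X hR hXR hn g hg hgR hgX x hx => by
        have := finite_of_le hR
        exact wMod_invariant Φ.W Φ.map_eq (hS.to_le hR) hg hgR hXR hn hgX hx)
      (W₀ := ⊥) bot_le ?_ ?_ hf
    · intro R E X hR hEF hEs _ hX hXp hcc _ hY P₁ f₁ hf₁
      have := finite_of_le hR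
      have hRp := hS.to_le hR
      obtain ⟨M⟩ := exists_modelQuot hRp hEs hX hcc
      refine forall_of_isNormal (hD.mono hEF) (M.forall_of_normal Φ.W hRp Φ.map_eq hX ?_) hY hf₁
      exact Φ.normal M.Q M.P (M.centralizer_pCore hRp hX hXp)
        (M.not_involves hRp fun h => hw (h.mono hEF))
    · intro P₁ f₁ hf₁ hWP hfW
      rw [hbot] at hWP hfW
      obtain ⟨ψ, hψ, e⟩ := hf₁.exists_hom
      refine ⟨ψ, ?_, e⟩
      rw [hN]
      exact mem_normalizerHom.2 ⟨hf₁.source_le.trans hSW,
        fun x => e x ▸ hSW (hf₁.apply_mem x.2), f₁, by rw [sup_eq_left.2 hWP]; exact hf₁,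
        fun x => (e x).symm, hfW⟩
  obtain ⟨φ, hφ, e⟩ := key.exists_hom
  obtain ⟨-, -, g, hg, hg1, hg2⟩ := mem_normalizerHom.1 ((hN P).le hφ)
  exact ⟨g, hg, fun x hx => (hg1 ⟨x, hx⟩).trans (e ⟨x, hx⟩), hg2⟩

include Φ in
theorem map_ne_bot (hS : IsPGroup p S) (hne : S ≠ ⊥) : (Φ.W S).map S.subtype ≠ ⊥ := by
  haveI : Nontrivial S := (Subgroup.nontrivial_iff_ne_bot S).2 hne
  rw [Ne, Subgroup.map_eq_bot_iff_of_injective _ S.subtype_injective]
  exact Φ.ne_bot S hS inferInstance

theorem map_characteristic (hS : IsPGroup p S) :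
    (((Φ.W S).map S.subtype).subgroupOf S).Characteristic := by
  rw [Subgroup.subgroupOf, Subgroup.comap_map_eq_self_of_injective S.subtype_injective]
  exact Subgroup.characteristic_iff_map_eq.2 fun φ => Φ.map_eq S S hS φ

include Φ in
/-- Free saturated systems have nontrivial core. -/
theorem core_ne_bot (hS : IsPGroup p S) (hne : S ≠ ⊥) (hF : F.IsSaturated p)
    (hw : ¬ QdWitness F p) : F.core ≠ ⊥ := fun h =>
  Φ.map_ne_bot hS hne (le_bot_iff.1 (h ▸ le_core (Φ.isNormal hS hF hw)))

include Φ in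
/-- Free saturated systems are solvable. -/
theorem isSolvableSystem (hS : IsPGroup p S) (hF : F.IsSaturated p) (hw : ¬ QdWitness F p) :
    F.IsSolvableSystem := by
  intro R hR hRS _ E hE
  haveI : Nontrivial (S ⧸ R.subgroupOf S) :=
    QuotientGroup.nontrivial_iff.2 fun h => hRS (le_antisymm hR.1 (Subgroup.subgroupOf_eq_top.1 h))
  have hSp : IsPGroup p (⊤ : Subgroup (S ⧸ R.subgroupOf S)) := (hS.to_quotient _).to_subgroup ⊤
  exact Φ.core_ne_bot hSp top_ne_bot (isSaturated_factor hS hF hR hE)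
    fun h => hw (qdWitness_of_factor hE h)

include Φ in
/-- Free saturated systems are not quasisimple. -/
theorem not_quasisimple (hS : IsPGroup p S) (hF : F.IsSaturated p) (hw : ¬ QdWitness F p) :
    ¬ F.Quasisimple p := by
  intro hq
  obtain ⟨E, hE⟩ := CompFree.exists_factor F
  obtain ⟨-, hperf, hsimple⟩ := id hq
  obtain ⟨hEs, hne, hnormal⟩ := hsimple E hE
  set θ := QuotientGroup.mk' ((F.center).subgroupOf S) with hθ
  have htop : E.hyperfocalSubgroup p = ⊤ := by
    rw [hyperfocal_factor hS hF (stronglyClosed_center F) hE, hperf, Subgroup.subgroupOf_self,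
      ← MonoidHom.range_eq_map]
    exact MonoidHom.range_eq_top.2 (QuotientGroup.mk'_surjective _)
  have hTp : IsPGroup p (⊤ : Subgroup (S ⧸ (F.center).subgroupOf S)) :=
    (hS.to_quotient _).to_subgroup _
  set U := (Φ.W (⊤ : Subgroup (S ⧸ (F.center).subgroupOf S))).map (Subgroup.subtype _) with hU
  have hUn : E.IsNormal U := Φ.isNormal hTp hEs fun h => hw (qdWitness_of_factor hE h)
  obtain h | ⟨h, hhom⟩ := hnormal _ _ (CompFree.inner_isNormalIn hTp hEs hUn)
  · exact Φ.map_ne_bot hTp hne h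
  · have hbot := CompFree.hyperfocal_eq_bot (p := p) (F := E) hTp fun P f hf => by
      obtain ⟨φ, hφ, e⟩ := hf.exists_hom
      rw [← hhom P] at hφ
      obtain ⟨-, g, hg, hge⟩ := hφ
      exact ⟨g, h ▸ hg, fun x hx => (e ⟨x, hx⟩).symm.trans (hge ⟨x, hx⟩)⟩
    exact hne (htop ▸ hbot)

include Φ in
/-- Free saturated systems are constrained. -/
theorem isConstrained (hS : IsPGroup p S) (hF : F.IsSaturated p) (hw : ¬ QdWitness F p) :
    F.IsConstrained p := by
  refine (CompFree.isConstrained_iff hS hF).2 ?_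
  rintro ⟨T, C, hC⟩
  have hTS := CompFree.subnormal_le hC.1
  haveI := finite_of_le hTS
  exact Φ.not_quasisimple (hS.to_le hTS) hC.2.1
    (fun h => hw (h.mono (Layer.subnormal_subsystem hC.1))) hC.2

include Φ in
/-- Free saturated systems are realizable. -/
theorem isRealizable (hS : IsPGroup p S) (hF : F.IsSaturated p) (hw : ¬ QdWitness F p) :
    F.IsRealizable p := by
  obtain ⟨-, Q, hQn, hQc⟩ := Φ.isConstrained hS hF hw
  obtain ⟨L, i, ι, ⟨hfin, hreal, hT, -⟩, -, -⟩ :=
    exists_model_of_normal hS hF hQn (centralizerIn_le_of_centric hQc)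
  exact ⟨L, i, hfin, ι, hreal, hT⟩

end FreeFunctor

/-- For odd `p` the centre of the Thompson subgroup is such a functor. -/
noncomputable def zjFreeFunctor {p : ℕ} [Fact p.Prime] (hp : p ≠ 2) : FreeFunctor.{u} p where
  W Q _ := zjW Q
  ne_bot Q _ _ hQ hn := haveI := hn; zjW_ne_bot hQ
  map_eq Q R _ _ _ _ φ := map_zjW φ
  normal L _ _ P hc hinv := by
    rw [← centerThompsonAOf_eq_map]
    exact centerThompsonA_normal hp hc
      (fun N _ hN => Grp.Quad.isPStableOn_of_free hp hinv N hN) P ⟨le_rfl, fun _ _ _ h => h⟩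

end Cfsg.Agent.Fus
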