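import Cfsg.Agent.Lib.Fus.FreeFunctor
import Cfsg.Agent.Lib.Fus.SFourQd
import Cfsg.Agent.Lib.Grp.HHWreath

/-!
The prime two: `Qd(2)` is `S₄`, and a system whose automizers have no section `S₃` has no witness.
-/

set_option autoImplicit false
set_option linter.style.haveILetI false
set_option linter.unusedSectionVars false

open scoped Classical

namespace Cfsg.Agent.Fus

open Subgroup FusionSystem

universe u v w

theorem involves_congr {H : Type u} {H' : Type v} {G : Type w} [Group H] [Group H'] [Group G]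
    (e : H ≃* H') : Involves H G ↔ Involves H' G :=
  ⟨fun ⟨K, R, h, ⟨q⟩⟩ => ⟨K, R, h, ⟨q.trans e⟩⟩, fun ⟨K, R, h, ⟨q⟩⟩ => ⟨K, R, h, ⟨q.trans e.symm⟩⟩⟩

local notation "P₂" => {v : Multiplicative (Fin 2 → ZMod 2) // v ≠ 1}

/-- `SL₂(2)` is the symmetric group of degree three. -/
theorem exists_sl_two_equiv :
    Nonempty (Matrix.SpecialLinearGroup (Fin 2) (ZMod 2) ≃* Equiv.Perm (Fin 3)) := by
  have hne : ∀ (g : Matrix.SpecialLinearGroup (Fin 2) (ZMod 2)) (v : P₂), matAct g v.1 ≠ 1 := by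
    intro g v h
    refine v.2 ?_
    rw [← matAct_one (v : Multiplicative (Fin 2 → ZMod 2)), ← inv_mul_cancel g, matAct_mul, h,
      matAct_map_one]
  letI : MulAction (Matrix.SpecialLinearGroup (Fin 2) (ZMod 2)) P₂ :=
    { smul := fun g v => ⟨matAct g v.1, hne g v⟩
      one_smul := fun v => Subtype.ext (matAct_one _)
      mul_smul := fun g h v => Subtype.ext (matAct_mul g h _) }
  set ρ := MulAction.toPermHom (Matrix.SpecialLinearGroup (Fin 2) (ZMod 2)) P₂
  have hinj : Function.Injective ρ := fun g h e => eq_of_matAct_eq fun v => by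
    by_cases hv : v = 1
    · rw [hv, matAct_map_one, matAct_map_one]
    · exact congrArg Subtype.val (Equiv.congr_fun e ⟨v, hv⟩)
  have hbij : Function.Bijective ρ := (Nat.bijective_iff_injective_and_card _).2 ⟨hinj, by
    rw [Nat.card_eq_fintype_card (α := Matrix.SpecialLinearGroup (Fin 2) (ZMod 2)), Nat.card_perm,
      show Nat.card P₂ = 3 by rw [Nat.card_eq_fintype_card]; rfl,
      show Fintype.card (Matrix.SpecialLinearGroup (Fin 2) (ZMod 2)) = 6 by decide]
    rfl⟩
  exact ⟨(MulEquiv.ofBijective ρ hbij).trans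
    (Fintype.equivFinOfCardEq (show Fintype.card P₂ = 3 by rfl)).permCongrHom⟩

variable {Ω : Type u} [Group Ω] {S : Subgroup Ω} [Finite S] {F : FusionSystem S}

/-- Section-free at `S₄` means no witness. -/
theorem not_qdWitness_of_four (hS : IsPGroup 2 S) (hF : F.IsSaturated 2)
    (h : F.IsSectionFree 2 (Equiv.Perm (Fin 4))) : ¬ QdWitness F 2 := by
  obtain ⟨e⟩ := exists_qd_two_equiv
  refine (isSectionFree_qd_iff hS hF).1 fun Q hQn hQc N hN L _ ι hmod hinv => ?_
  exact h Q hQn hQc N hN L ι hmod ((involves_congr e).1 hinv)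

/-- Automizers without `S₃` give no witness. -/
theorem not_qdWitness_of_three
    (h : ∀ U : Subgroup Ω, U ≤ S → ¬ Involves (Equiv.Perm (Fin 3)) ↥(F.autGroup U)) :
    ¬ QdWitness F 2 := by
  rintro ⟨V, hV, φ, hφ, hA⟩
  obtain ⟨e⟩ := exists_sl_two_equiv
  let K : Subgroup ↥(F.autGroup V) :=
    { carrier := {α | ∃ g, ∀ v, φ ((α : MulAut V) v) = matAct g (φ v)}
      one_mem' := ⟨1, fun v => (matAct_one _).symm⟩
      mul_mem' := fun {a b} ⟨g, hg⟩ ⟨k, hk⟩ => ⟨g * k, fun v => by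
        rw [Subgroup.coe_mul, MulAut.mul_apply, hg, hk, matAct_mul]⟩
      inv_mem' := fun {a} ⟨g, hg⟩ => ⟨g⁻¹, fun v => by
        have h1 := hg ((a : MulAut V)⁻¹ v)
        rw [MulAut.apply_inv_self] at h1
        rw [Subgroup.coe_inv, h1, ← matAct_mul, inv_mul_cancel, matAct_one]⟩ }
  have hK : ∀ x : K, ∃ g, ∀ v, φ (((x : ↥(F.autGroup V)) : MulAut V) v) = matAct g (φ v) := fun x => x.2
  choose r hr using hK
  have huniq : ∀ (x : K) g, (∀ v, φ (((x : ↥(F.autGroup V)) : MulAut V) v) = matAct g (φ v)) →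
      r x = g := fun x g hg => eq_of_matAct_eq fun y => by
    obtain ⟨v, rfl⟩ := hφ y
    rw [← hr x v, hg v]
  let σ : K →* Matrix.SpecialLinearGroup (Fin 2) (ZMod 2) := MonoidHom.mk' r fun x y =>
    huniq (x * y) _ fun v => by
      rw [Subgroup.coe_mul, Subgroup.coe_mul, MulAut.mul_apply, hr, hr, matAct_mul]
  have hσ : Function.Surjective σ := fun g => by
    obtain ⟨α, hα, hαg⟩ := hA g
    exact ⟨⟨⟨α, hα⟩, g, hαg⟩, huniq _ _ hαg⟩
  exact h V hV (Grp.HHP.involves_of_surjective K (e.toMonoidHom.comp σ) (e.surjective.comp hσ))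

end Cfsg.Agent.Fus
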