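import Cfsg.Agent.Lib.Fus.GTwoModel

/-!
The centraliser of the standard involution of `G₂(F)`, in odd characteristic, is `SO₄⁺(F)`.
-/

set_option autoImplicit false
set_option linter.unusedSectionVars false

namespace Cfsg.Agent.Fus.GTwoSylow

open Matrix

variable {F : Type*} [Field F]

local notation "MM" => Matrix (Fin 2) (Fin 2) F
local notation "V8" => (Fin 8 → F)

/-- The standard involution. -/
noncomputable def invol (F : Type*) [Field F] : Lie.G2 F :=
  phi ⟨((1 : GL (Fin 2) F), -1), Units.ext (by simp [Matrix.det_neg])⟩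

theorem app_invol (x : V8) : app (invol F) x = bld (mOf x) (-wOf x) := by
  rw [invol, app_phi]
  refine ext_parts ?_ ?_
  · rw [mOf_act, mOf_bld]; simp
  · rw [wOf_act, wOf_bld]; simp

/-- Automorphisms of `M₂(F)` are inner. -/
theorem exists_inner (ψ : MM →ₗ[F] MM) (hψ : ∀ A B, ψ (A * B) = ψ A * ψ B) (hinj : Function.Injective ψ) :
    ∃ g : GL (Fin 2) F, ∀ A, ψ A * (g : MM) = (g : MM) * A := by
  set a : MM := !![1, 0; 0, 0] with ha
  set l : MM := !![0, 0; 1, 0] with hl
  set u : MM := !![0, 1; 0, 0] with hu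
  have e1 : ψ a * ψ a = ψ a := by rw [← hψ]; congr 1; ext i j; fin_cases i <;> fin_cases j <;> simp [ha]
  have e2 : ψ a * ψ l = 0 := by rw [← hψ, ← map_zero ψ]; congr 1; ext i j; fin_cases i <;> fin_cases j <;> simp [ha, hl]
  have e3 : ψ u * ψ l = ψ a := by rw [← hψ]; congr 1; ext i j; fin_cases i <;> fin_cases j <;> simp [ha, hl, hu]
  have e4 : ψ u * ψ a = 0 := by rw [← hψ, ← map_zero ψ]; congr 1; ext i j; fin_cases i <;> fin_cases j <;> simp [ha, hu]
  have e5 : ψ l * ψ l = 0 := by rw [← hψ, ← map_zero ψ]; congr 1; ext i j; fin_cases i <;> fin_cases j <;> simp [hl]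
  have hne : ψ a ≠ 0 := fun h => by
    have := congrFun₂ (hinj (h.trans (map_zero ψ).symm)) 0 0
    simp [ha] at this
  obtain ⟨w, hw⟩ : ∃ w, ψ a *ᵥ w ≠ 0 := by
    by_contra h
    push Not at h
    exact hne (Matrix.ext_iff_mulVec.2 fun w => by rw [h, Matrix.zero_mulVec])
  set v := ψ a *ᵥ w with hv
  have hav : ψ a *ᵥ v = v := by rw [hv, Matrix.mulVec_mulVec, e1]
  set G : MM := Matrix.of ![v, ψ l *ᵥ v] with hG
  have hcol : ∀ c : Fin 2 → F, Gᵀ *ᵥ c = c 0 • v + c 1 • (ψ l *ᵥ v) := fun c => by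
    rw [hG]
    generalize ψ l *ᵥ v = w'
    funext i
    simp [Matrix.mulVec, dotProduct, Fin.sum_univ_two, mul_comm]
  have huv : ψ u *ᵥ v = 0 := by
    calc ψ u *ᵥ v = ψ u *ᵥ (ψ a *ᵥ v) := by rw [hav]
      _ = 0 := by rw [Matrix.mulVec_mulVec, e4, Matrix.zero_mulVec]
  have hdet : Gᵀ.det ≠ 0 := by
    intro h0
    obtain ⟨c, hc0, hc⟩ := Matrix.exists_mulVec_eq_zero_iff.2 h0
    rw [hcol] at hc
    have h1 := congrArg (fun z => ψ a *ᵥ z) hc
    simp only [Matrix.mulVec_add, Matrix.mulVec_smul, hav, Matrix.mulVec_mulVec, e2, Matrix.zero_mulVec,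
      smul_zero, add_zero, Matrix.mulVec_zero, smul_eq_zero] at h1
    have h2 := congrArg (fun z => ψ u *ᵥ z) hc
    simp only [Matrix.mulVec_add, Matrix.mulVec_smul, huv, Matrix.mulVec_mulVec, e3, hav,
      smul_zero, zero_add, Matrix.mulVec_zero, smul_eq_zero] at h2
    exact hc0 (funext fun i => by fin_cases i; exacts [h1.resolve_right hw, h2.resolve_right hw])
  refine ⟨Matrix.GeneralLinearGroup.mkOfDetNeZero Gᵀ hdet, fun A => ?_⟩
  show ψ A * Gᵀ = Gᵀ * A
  have hA : A = A 0 0 • a + A 0 1 • u + A 1 0 • l + A 1 1 • (l * u) := by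
    ext i j; fin_cases i <;> fin_cases j <;> simp [ha, hl, hu]
  refine Matrix.ext_iff_mulVec.2 fun c => ?_
  rw [← Matrix.mulVec_mulVec, ← Matrix.mulVec_mulVec, hcol, hcol]
  conv_lhs => rw [hA]
  simp only [map_add, map_smul, hψ, Matrix.mulVec_add, Matrix.mulVec_smul, Matrix.add_mulVec, Matrix.smul_mulVec,
    ← Matrix.mulVec_mulVec, hav, huv, show ψ a *ᵥ (ψ l *ᵥ v) = 0 by rw [Matrix.mulVec_mulVec, e2, Matrix.zero_mulVec],
    show ψ u *ᵥ (ψ l *ᵥ v) = v by rw [Matrix.mulVec_mulVec, e3, hav],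
    show ψ l *ᵥ (ψ l *ᵥ v) = 0 by rw [Matrix.mulVec_mulVec, e5, Matrix.zero_mulVec], Matrix.mulVec_zero, smul_zero]
  simp only [Matrix.mulVec, dotProduct, Fin.sum_univ_two]
  module

/-- An automorphism preserving both parts. -/
theorem parts_of_commute (h2 : (2 : F) ≠ 0) {g : Lie.G2 F} (hg : Commute g (invol F)) (M W : MM) :
    wOf (app g (bld M 0)) = 0 ∧ mOf (app g (bld 0 W)) = 0 := by
  have key : ∀ x, app g (app (invol F) x) = app (invol F) (app g x) := fun x => by
    rw [← app_mul, ← app_mul, hg.eq]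
  constructor
  · have h := congrArg wOf (key (bld M 0))
    rw [app_invol, app_invol, mOf_bld, wOf_bld, neg_zero, wOf_bld] at h
    ext i j
    have := congrFun₂ h i j
    simp only [Matrix.neg_apply] at this
    exact (mul_eq_zero.1 (show 2 * wOf (app g (bld M 0)) i j = 0 by linear_combination this)).resolve_left h2
  · have h := congrArg mOf (key (bld 0 W))
    rw [app_invol, app_invol, mOf_bld, wOf_bld, mOf_bld,
      show bld (0 : MM) (-W) = (-1 : F) • bld 0 W by rw [← bld_smul, smul_zero, neg_one_smul],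
      app_smul, mOf_smul] at h
    ext i j
    have := congrFun₂ h i j
    simp only [Matrix.smul_apply, smul_eq_mul] at this
    exact (mul_eq_zero.1 (show 2 * mOf (app g (bld 0 W)) i j = 0 by linear_combination -this)).resolve_left h2

/-- The centraliser of the involution is the image of the pairs. -/
theorem mem_range_of_commute (h2 : (2 : F) ≠ 0) {g : Lie.G2 F} (hg : Commute g (invol F)) :
    g ∈ (phi (F := F)).range := by
  let ψ : MM →ₗ[F] MM :=
    { toFun := fun A => mOf (app g (bld A 0))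
      map_add' := fun A B => by rw [← mOf_add, ← app_add, ← bld_add, add_zero]
      map_smul' := fun c A => by rw [RingHom.id_apply, ← mOf_smul, ← app_smul, ← bld_smul, smul_zero] }
  have hmul : ∀ A B, ψ (A * B) = ψ A * ψ B := fun A B => by
    show mOf (app g (bld (A * B) 0)) = _
    rw [show bld (A * B) 0 = Lie.zornMul (bld A 0) (bld B 0) from
      ext_parts (by rw [mOf_mul, mOf_bld, mOf_bld, mOf_bld, wOf_bld, wOf_bld]; simp)
        (by rw [wOf_mul, wOf_bld, wOf_bld, wOf_bld]; simp), app_zorn, mOf_mul,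
      (parts_of_commute h2 hg A 0).1, (parts_of_commute h2 hg B 0).1]
    simp
    rfl
  have hinj : Function.Injective ψ := fun A B h => by
    have e : app g (bld A 0) = app g (bld B 0) :=
      ext_parts h (by rw [(parts_of_commute h2 hg A 0).1, (parts_of_commute h2 hg B 0).1])
    have := congrArg (app g⁻¹) e
    rw [app_inv, app_inv] at this
    simpa [mOf_bld] using congrArg mOf this
  obtain ⟨r, hr⟩ := exists_inner ψ hmul hinj
  set d : Fˣ := Matrix.GeneralLinearGroup.det r
  let t : GL (Fin 2) F := Matrix.GeneralLinearGroup.mkOfDetNeZero !![(d : F), 0; 0, 1] (by simp)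
  let p : pairs F := ⟨(r, t), Units.ext (by
    show (r : MM).det = (t : MM).det
    simp [t, d, Matrix.GeneralLinearGroup.mkOfDetNeZero, Matrix.GeneralLinearGroup.val_det_apply])⟩
  obtain ⟨k, hk⟩ : ∃ k, k = (phi p)⁻¹ * g := ⟨_, rfl⟩
  have hcp : Commute (phi p) (invol F) := by
    refine (Commute.map ?_ phi)
    refine Subtype.ext (Prod.ext ?_ ?_)
    · exact (mul_one _).trans (one_mul _).symm
    · exact Units.ext (by simp)
  have hkc : Commute k (invol F) := hk ▸ hcp.inv_left.mul_left hg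
  have hkm : ∀ A, app k (bld A 0) = bld A 0 := fun A => by
    have e : app g (bld A 0) = app (phi p) (bld A 0) := by
      refine ext_parts ?_ ?_
      · show ψ A = _
        rw [app_phi, mOf_act, mOf_bld, ← hr A]
        show ψ A = ψ A * (r : MM) * ((r⁻¹ : GL (Fin 2) F) : MM)
        rw [Matrix.mul_assoc, Units.mul_inv, Matrix.mul_one]
      · rw [(parts_of_commute h2 hg A 0).1, app_phi, wOf_act, wOf_bld]
        simp
    rw [hk, app_mul, e, app_inv]
  set S : MM := wOf (app k (bld 0 1)) with hS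
  have hkw : ∀ W : MM, app k (bld 0 W) = bld 0 (W * S) := fun W => by
    have e : bld 0 W = Lie.zornMul (bld Wᵀ 0) (bld (0 : MM) 1) :=
      ext_parts (by rw [mOf_mul, mOf_bld, mOf_bld, mOf_bld, wOf_bld, wOf_bld]; simp)
        (by rw [wOf_mul, wOf_bld, wOf_bld, wOf_bld, mOf_bld]; simp)
    rw [e, app_zorn, hkm]
    refine ext_parts ?_ ?_
    · rw [mOf_mul, mOf_bld, wOf_bld, (parts_of_commute h2 hkc 0 1).2, mOf_bld]
      simp
    · rw [wOf_mul, mOf_bld, wOf_bld, (parts_of_commute h2 hkc 0 1).2, wOf_bld, hS]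
      simp
  have hSd : S.det = 1 := by
    have e : Lie.zornMul (bld (0 : MM) 1) (bld 0 1) = bld (jMat F * jMat F) 0 :=
      ext_parts (by rw [mOf_mul, mOf_bld, wOf_bld, mOf_bld]; simp)
        (by rw [wOf_mul, wOf_bld, mOf_bld, wOf_bld]; simp)
    have h := congrArg mOf (app_zorn k (bld (0 : MM) 1) (bld 0 1))
    rw [e, hkm, hkw, mOf_bld, mOf_mul, mOf_bld, wOf_bld, Matrix.one_mul, Matrix.mul_zero, zero_add,
      Matrix.mul_assoc (jMat F), Matrix.mul_assoc (jMat F), jMat_congr, Matrix.mul_smul, jMat_mul_jMat] at h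
    have := congrFun₂ h 0 0
    simp at this
    exact this.symm
  let s : GL (Fin 2) F := Matrix.GeneralLinearGroup.mkOfDetNeZero Sᵀ (by rw [Matrix.det_transpose, hSd]; exact one_ne_zero)
  let q : pairs F := ⟨(1, s), Units.ext (by
    show ((1 : GL (Fin 2) F) : MM).det = Sᵀ.det
    rw [Matrix.det_transpose, hSd, Units.val_one, Matrix.det_one])⟩
  have hkq : k = phi q := app_ext fun x => by
    rw [app_phi]
    have hx : x = bld (mOf x) 0 + bld 0 (wOf x) := by rw [← bld_add, add_zero, zero_add, bld_parts]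
    conv_lhs => rw [hx, app_add, hkm, hkw, ← bld_add, add_zero, zero_add]
    refine ext_parts ?_ ?_
    · rw [mOf_act, mOf_bld]
      show mOf x = ((1 : GL (Fin 2) F) : MM) * mOf x * ((((1 : GL (Fin 2) F))⁻¹ : GL (Fin 2) F) : MM)
      simp
    · rw [wOf_act, wOf_bld]
      show wOf x * S = ((((1 : GL (Fin 2) F))⁻¹ : GL (Fin 2) F) : MM)ᵀ * wOf x * Sᵀᵀ
      simp
  refine ⟨p * q, ?_⟩
  rw [map_mul, ← hkq, hk, mul_inv_cancel_left]

end Cfsg.Agent.Fus.GTwoSylow
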