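import Cfsg.Agent.Lib.Spor.Cos.Simple

/-!
Maximality of point stabilisers from orbit tables: if no proper sum of suborbit sizes, one added, divides the
degree, then the stabiliser of a point is a maximal subgroup.
-/

set_option autoImplicit false

namespace Cfsg.Agent.Fus.OrbCoatom

open Cfsg.Agent.Spor.Cos

variable {G : Type*} [Group G] {g : ℕ → G} {A : Act} {π : G →* Equiv.Perm (Fin A.N)}

/-- The relative index of a point stabiliser is the length of an orbit. -/
theorem relIndex_stab (π : G →* Equiv.Perm (Fin A.N)) (M : Subgroup G) (x : Fin A.N) :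
    (stab π x).relIndex M = {p | ∃ y ∈ M, π y x = p}.ncard := by
  have e : {p | ∃ y ∈ M, π y x = p} = Set.range fun q : M ⧸ (stab π x).subgroupOf M =>
      Quotient.liftOn' q (fun y : M => π y x) fun a b h => exists_apply_eq_iff.2 (by
        simpa [Subgroup.mem_subgroupOf] using QuotientGroup.leftRel_apply.1 h) := by
    ext q
    simp only [Set.mem_ofPred_eq, Set.mem_range]
    constructor
    · rintro ⟨y, hy, rfl⟩; exact ⟨QuotientGroup.mk (⟨y, hy⟩ : M), rfl⟩
    · rintro ⟨c, rfl⟩
      induction c using QuotientGroup.induction_on with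
      | _ y => exact ⟨y, y.2, rfl⟩
  rw [Subgroup.relIndex, Subgroup.index, e, Set.ncard_range_of_injective]
  intro a b
  induction a using QuotientGroup.induction_on
  induction b using QuotientGroup.induction_on
  intro h
  refine QuotientGroup.eq.2 ?_
  simpa [Subgroup.mem_subgroupOf] using exists_apply_eq_iff.1 h

/-- An orbit table gives the relative index. -/
theorem relIndex_eq {ws : List (List ℕ)} {O : Orb} {x : ℕ} (hπ : A.Hom g π) (hO : O.Ok A ws x)
    (hc : ∀ j < O.m, O.chkClosed A ws j = true) :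
    (stab π ⟨x, hO.root_lt⟩).relIndex (val g ws) = O.m := by
  rw [relIndex_stab, hO.orbit_eq hc hπ _ rfl, hO.ncard_mem]

/-- A table of parts: orbits, each with a root. -/
noncomputable def chkParts (A : Act) (ws : List (List ℕ)) (Os : List (Orb × ℕ)) : Bool :=
  Os.all fun o => Act.lettersOk A.n ws && Nat.blt 0 o.1.m &&
    (List.range o.1.m).all (o.1.chkEnt A ws o.2) && (List.range o.1.m).all (o.1.chkClosed A ws)

theorem parts_ok {ws : List (List ℕ)} {Os : List (Orb × ℕ)} (h : chkParts A ws Os = true) :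
    ∀ o ∈ Os, o.1.Ok A ws o.2 ∧ ∀ j < o.1.m, o.1.chkClosed A ws j = true := by
  intro o ho
  have := List.all_eq_true.1 h o ho
  simp only [Bool.and_eq_true, List.all_eq_true] at this
  exact ⟨⟨this.1.1.1, Nat.le_of_ble_eq_true this.1.1.2, fun j hj => this.1.2 j (List.mem_range.2 hj)⟩,
    fun j hj => this.2 j (List.mem_range.2 hj)⟩

/-- The data for a maximal point stabiliser. -/
theorem coatom_of_orbits [Finite G] (hπ : A.Hom g π) {wsK wsS : List (List ℕ)} {O : Orb} {x : ℕ}
    (hO : O.Ok A wsK x) (hc : ∀ j < O.m, O.chkClosed A wsK j = true) (hfix : A.chkFix wsS x = true)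
    (hl : Act.lettersOk A.n wsS = true) (hin : wordsIn wsS wsK = true) {Os : List (Orb × ℕ)}
    (hOs : ∀ o ∈ Os, o.1.Ok A wsS o.2 ∧ ∀ j < o.1.m, o.1.chkClosed A wsS j = true)
    (hpart : (List.range O.m).all (fun j => chkPartition Os x (O.pt j)) = true)
    (hsum : sumsOk O.m (Os.map fun o => o.1.m) = true) (hm : 1 < O.m) :
    IsCoatom ((val g wsK ⊓ stab π ⟨x, hO.root_lt⟩).subgroupOf (val g wsK)) := by
  classical
  set x' : Fin A.N := ⟨x, hO.root_lt⟩ with hx'
  set K := val g wsK
  set S := stab π x'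
  have horb : {p | ∃ y ∈ K, π y x' = p} = {p : Fin A.N | O.mem p = true} := hO.orbit_eq hc hπ x' rfl
  have hidx : (K ⊓ S).relIndex K = O.m := by
    rw [Subgroup.inf_relIndex_left]; exact relIndex_eq hπ hO hc
  have hPart : ∀ q : Fin A.N, O.mem q = true → chkPartition Os x q = true := by
    intro q hq
    simp only [Orb.mem, force_eq, Bool.and_eq_true] at hq
    have := List.all_eq_true.1 hpart _ (List.mem_range.2 (Nat.le_of_ble_eq_true hq.1))
    rwa [Nat.eq_of_beq_eq_true hq.2] at this
  have hxO : O.mem x' = true := by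
    rw [hx']
    show O.mem x = true
    rw [← hO.pt_zero]
    exact hO.mem_pt hO.pos
  have hS' : val g wsS ≤ K ⊓ S := by
    refine (Subgroup.closure_le _).2 ?_
    rintro _ ⟨w, hw, rfl⟩
    exact ⟨mem_val_of_wordsIn hin hw, hπ.apply_ev_eq hl hfix hw⟩
  refine ⟨?_, fun b hb => ?_⟩
  · intro h
    have : (K ⊓ S).relIndex K = 1 := by rw [Subgroup.relIndex, h, Subgroup.index_top]
    omega
  -- a larger subgroup
  set L : Subgroup G := b.map K.subtype with hL
  have hLK : L ≤ K := Subgroup.map_subtype_le b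
  have hSL : K ⊓ S ≤ L := by
    intro y hy
    exact ⟨⟨y, hy.1⟩, hb.le (Subgroup.mem_subgroupOf.2 hy), rfl⟩
  obtain ⟨z, hzb, hzS⟩ := SetLike.exists_of_lt hb
  set B : Finset (Fin A.N) := Finset.univ.filter fun q => ∃ y ∈ L, π y x' = q with hBdef
  have memB : ∀ q, q ∈ B ↔ ∃ y ∈ L, π y x' = q := fun q => by simp [hBdef]
  have hxB : x' ∈ B := (memB _).2 ⟨1, one_mem _, by simp⟩
  have hBO : ∀ q ∈ B, O.mem q = true := by
    intro q hq
    obtain ⟨y, hy, e⟩ := (memB q).1 hq
    have : q ∈ {p : Fin A.N | O.mem p = true} := horb ▸ ⟨y, hLK hy, e⟩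
    exact this
  have hinv : ∀ k ∈ val g wsS, ∀ q, q ∈ B → π k q ∈ B := by
    intro k hk q hq
    obtain ⟨y, hy, rfl⟩ := (memB q).1 hq
    exact (memB _).2 ⟨k * y, mul_mem (hSL (hS' hk)) hy, by rw [map_mul, Equiv.Perm.mul_apply]⟩
  have hB2 : (B.erase x').Nonempty := by
    refine ⟨π (z : G) x', Finset.mem_erase.2 ⟨fun e => hzS (Subgroup.mem_subgroupOf.2 ⟨z.2, e⟩), ?_⟩⟩
    exact (memB _).2 ⟨_, ⟨z, hzb, rfl⟩, rfl⟩
  have hsub : ∀ o ∈ Os, ((B.erase x').filter fun q : Fin A.N => o.1.mem q = true).card =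
      if (decide (∃ q ∈ B, o.1.mem (q : ℕ) = true)) then o.1.m else 0 := by
    intro o ho
    obtain ⟨hoO, hoc⟩ := hOs o ho
    by_cases hex : ∃ q ∈ B, o.1.mem (q : ℕ) = true
    · rw [if_pos (decide_eq_true hex), ← hoO.ncard_mem, ← Set.ncard_coe_finset]
      congr 1
      ext q
      simp only [Finset.coe_filter, Finset.mem_erase, Set.mem_ofPred_eq]
      refine ⟨fun h => h.2, fun hq => ⟨⟨fun e => ?_, ?_⟩, hq⟩⟩
      · have h0 := hPart x' hxO
        simp only [chkPartition, hx', show Nat.beq x x = true from Nat.beq_refl _, Bool.cond_true] at h0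
        have h1 := Nat.eq_of_beq_eq_true h0
        rw [List.countP_eq_zero] at h1
        refine h1 o ho ?_
        have e' : (q : ℕ) = x := congrArg Fin.val e
        rwa [e'] at hq
      · obtain ⟨q0, hq0, hm0⟩ := hex
        obtain ⟨a, ha, ea⟩ := hoO.mem_orbit hπ ⟨o.2, hoO.root_lt⟩ rfl hm0
        obtain ⟨c, hc', ec⟩ := hoO.mem_orbit hπ ⟨o.2, hoO.root_lt⟩ rfl hq
        have := hinv (c * a⁻¹) (mul_mem hc' (inv_mem ha)) q0 hq0
        rwa [← ea, ← Equiv.Perm.mul_apply, ← map_mul, inv_mul_cancel_right, ec] at this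
    · rw [if_neg (by simpa using hex), Finset.card_eq_zero, Finset.filter_eq_empty_iff]
      exact fun q hq hm => hex ⟨q, (Finset.mem_erase.1 hq).2, hm⟩
  have hcard : (B.erase x').card =
      ((Os.filter fun o => decide (∃ q ∈ B, o.1.mem (q : ℕ) = true)).map fun o => o.1.m).sum := by
    rw [← sum_map_ite, ← List.map_congr_left hsub, ← sum_countP (fun (o : Orb × ℕ) (q : Fin A.N) => o.1.mem q)]
    rw [Finset.card_eq_sum_ones]
    refine Finset.sum_congr rfl fun q hq => ?_
    have h0 := hPart q (hBO q (Finset.mem_erase.1 hq).2)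
    simp only [chkPartition, show Nat.beq (q : ℕ) x = false from Bool.eq_false_iff.2 fun e =>
      (Finset.mem_erase.1 hq).1 (Fin.ext (Nat.eq_of_beq_eq_true e)), Bool.cond_false] at h0
    exact (Nat.eq_of_beq_eq_true h0).symm
  -- its length divides the degree
  have hBL : S.relIndex L = B.card := by
    rw [relIndex_stab, ← Set.ncard_coe_finset]
    congr 1
    ext q
    exact (memB q).symm
  have hKL : (K ⊓ S).relIndex L = S.relIndex L := by
    rw [← Subgroup.inf_relIndex_right, inf_right_comm, inf_eq_right.2 hLK, inf_comm, Subgroup.inf_relIndex_right]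
  have hmul : B.card * L.relIndex K = O.m := by
    rw [← hidx, ← Subgroup.relIndex_mul_relIndex _ _ _ hSL hLK, hKL, hBL]
  set l := (Os.filter fun o => decide (∃ q ∈ B, o.1.mem (q : ℕ) = true)).map fun o => o.1.m
  have hl' : l ∈ (Os.map fun o => o.1.m).sublists :=
    List.mem_sublists.2 (List.filter_sublist.map _)
  have hc1 : B.card = 1 + l.sum := by
    rw [← hcard, ← Finset.card_erase_add_one hxB, add_comm]
  have := List.all_eq_true.1 hsum l hl'
  simp only [Bool.or_eq_true, List.isEmpty_iff, Nat.beq_eq, Bool.not_eq_true'] at this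
  rcases this with (h | h) | h
  · rw [h] at hcard
    exact absurd hcard (Finset.card_ne_zero.2 hB2)
  · have hone : L.relIndex K = 1 := by
      rw [hc1, h] at hmul
      exact Nat.eq_of_mul_eq_mul_left hO.pos (hmul.trans (Nat.mul_one _).symm)
    refine eq_top_iff.2 fun y _ => ?_
    obtain ⟨y', hy', e⟩ := Subgroup.relIndex_eq_one.1 hone y.2
    exact Subtype.ext e ▸ hy'
  · rw [Bool.eq_false_iff] at h
    exact absurd (Nat.beq_eq ▸ Nat.mod_eq_zero_of_dvd (hc1 ▸ Dvd.intro _ hmul)) h

end Cfsg.Agent.Fus.OrbCoatom
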