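import Cfsg.Agent.Lib.Spor.Cos.Suz.Order
import Cfsg.Agent.Lib.Lie.Chev.G2EvenRep
import Cfsg.Agent.Lib.Lie.Chev.SimpleCerts
import Cfsg.Agent.Lib.Lie.Chev.AutBorel
import Cfsg.Agent.S1059

/-!
The subgroup `⟨a, …, f⟩` of the presented Suzuki group is `G₂(4)`: six involutions of `G₂(4)` satisfy the
relations of the coset enumerations and generate, so a diagonal subgroup projects isomorphically to both sides.
-/

set_option autoImplicit false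
set_option maxRecDepth 100000
set_option maxHeartbeats 4000000

namespace Cfsg.Agent.Fus.SuzG2

open Cfsg.Lie Cfsg.Agent.Spor.Cos
open Cfsg.Agent.Lie.Chev hiding ev

abbrev K4 := G2Six.K4
abbrev G4 := ↥(chevG2.group K4)

/-- The images of the six generators, as words in root elements. -/
def gW : List (List (ℕ × G2Six.K4)) :=
  [[(6, .w), (0, .e), (11, .w), (7, .w), (6, .e), (0, .e), (6, .e), (7, .w), (11, .w), (0, .e), (6, .w)],
   [(10, .e), (2, .e), (7, .w), (8, .w), (0, .e), (8, .w), (7, .w), (2, .e), (10, .e)],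
   [(3, .e), (0, .w), (11, .w), (6, .w), (0, .e), (6, .w), (11, .w), (0, .w), (3, .e)],
   [(11, .w), (5, .e), (8, .w), (3, .e), (2, .e), (3, .e), (8, .w), (5, .e), (11, .w)],
   [(7, .e), (3, .e), (9, .w), (1, .e), (9, .e), (2, .e), (9, .e), (1, .e), (9, .w), (3, .e), (7, .e)],
   [(7, .w), (6, .w), (7, .w), (6, .w), (0, .e), (6, .w), (7, .w), (6, .w), (7, .w)]]

/-- Root elements as words in the six generators. -/
def rootW : List (ℕ × G2Six.K4 × List ℕ) :=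
  [(0, .e, [2, 1, 5, 3, 4, 2, 3, 2, 1, 0, 1, 0, 1, 0, 1, 2, 3, 2, 4, 3, 5, 1, 2]),
   (0, .w, [2, 3, 4, 1, 2, 3, 2, 0, 1, 0, 1, 0, 2, 3, 2, 1, 4, 3, 2]),
   (1, .e, [2, 1, 5, 2, 3, 4, 2, 3, 2, 0, 1, 0, 1, 0, 2, 3, 2, 4, 3, 2, 5, 1, 2]),
   (1, .w, [1, 2, 3, 4, 1, 2, 3, 2, 1, 5, 1, 0, 1, 0, 1, 0, 1, 5, 1, 2, 3, 2, 1, 4, 3, 2, 1]),
   (2, .e, [5, 3, 1, 2, 0, 1, 5, 4, 3, 0, 1, 2, 3, 4, 3, 1, 2, 3, 1, 2, 3, 2, 1, 3, 2, 1, 3, 4, 3, 2, 1, 0, 3, 4, 5, 1, 0, 2, 1, 3, 5]),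
   (2, .w, [5, 3, 1, 2, 0, 1, 5, 3, 4, 2, 3, 2, 3, 4, 1, 2, 3, 0, 1, 2, 3, 2, 1, 0, 3, 2, 1, 4, 3, 2, 3, 2, 4, 3, 5, 1, 0, 2, 1, 3, 5]),
   (3, .e, [1, 5, 1, 0, 1, 2, 3, 4, 3, 2, 3, 2, 1, 5, 0, 1, 2, 3, 0, 1, 2, 3, 2, 1, 0, 3, 2, 1, 0, 5, 1, 2, 3, 2, 3, 4, 3, 2, 1, 0, 1, 5, 1]),
   (3, .w, [0, 1, 2, 3, 4, 3, 2, 3, 1, 2, 0, 1, 5, 4, 3, 0, 1, 2, 3, 2, 1, 0, 3, 4, 5, 1, 0, 2, 1, 3, 2, 3, 4, 3, 2, 1, 0]),
   (4, .e, [5, 3, 2, 0, 1, 0, 1, 5, 3, 1, 2, 3, 4, 2, 3, 1, 2, 3, 1, 2, 3, 2, 1, 3, 2, 1, 3, 2, 4, 3, 2, 1, 3, 5, 1, 0, 1, 0, 2, 3, 5]),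
   (4, .w, [4, 2, 3, 2, 1, 5, 2, 3, 1, 0, 1, 2, 3, 4, 3, 0, 1, 2, 3, 1, 2, 3, 2, 1, 3, 2, 1, 0, 3, 4, 3, 2, 1, 0, 1, 3, 2, 5, 1, 2, 3, 2, 4]),
   (5, .e, [3, 0, 1, 2, 1, 0, 1, 5, 2, 3, 4, 2, 3, 2, 1, 0, 1, 2, 3, 2, 4, 3, 2, 5, 1, 0, 1, 2, 1, 0, 3]),
   (5, .w, [5, 1, 0, 1, 5, 4, 3, 1, 2, 3, 4, 1, 2, 3, 2, 1, 0, 1, 2, 3, 2, 1, 4, 3, 2, 1, 3, 4, 5, 1, 0, 1, 5]),
   (6, .e, [4, 3, 1, 2, 0, 1, 5, 2, 3, 4, 2, 3, 2, 0, 1, 0, 1, 0, 1, 0, 1, 0, 2, 3, 2, 4, 3, 2, 5, 1, 0, 2, 1, 3, 4]),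
   (6, .w, [4, 3, 1, 0, 1, 2, 3, 4, 1, 2, 3, 2, 1, 0, 1, 2, 3, 2, 1, 4, 3, 2, 1, 0, 1, 3, 4]),
   (7, .e, [4, 3, 1, 2, 1, 0, 1, 5, 2, 3, 2, 1, 0, 1, 5, 3, 4, 3, 2, 3, 1, 2, 3, 2, 1, 3, 2, 3, 4, 3, 5, 1, 0, 1, 2, 3, 2, 5, 1, 0, 1, 2, 1, 3, 4]),
   (7, .w, [1, 0, 1, 2, 3, 4, 2, 1, 0, 1, 2, 3, 2, 1, 5, 4, 3, 1, 0, 1, 2, 3, 2, 1, 0, 1, 3, 4, 5, 1, 2, 3, 2, 1, 0, 1, 2, 4, 3, 2, 1, 0, 1]),
   (8, .e, [5, 3, 0, 1, 0, 1, 2, 3, 4, 2, 3, 2, 1, 5, 3, 0, 1, 2, 3, 1, 2, 3, 2, 1, 3, 2, 1, 0, 3, 5, 1, 2, 3, 2, 4, 3, 2, 1, 0, 1, 0, 3, 5]),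
   (8, .w, [3, 4, 2, 3, 2, 1, 5, 0, 1, 2, 3, 4, 3, 1, 2, 3, 0, 1, 2, 3, 2, 1, 0, 3, 2, 1, 3, 4, 3, 2, 1, 0, 5, 1, 2, 3, 2, 4, 3]),
   (9, .e, [3, 2, 1, 0, 1, 2, 3, 2, 3, 4, 1, 2, 3, 2, 1, 5, 4, 3, 1, 0, 1, 2, 3, 2, 1, 0, 1, 3, 4, 5, 1, 2, 3, 2, 1, 4, 3, 2, 3, 2, 1, 0, 1, 2, 3]),
   (9, .w, [5, 4, 0, 1, 2, 3, 2, 0, 1, 5, 2, 3, 4, 2, 3, 1, 2, 3, 1, 2, 3, 2, 1, 3, 2, 1, 3, 2, 4, 3, 2, 5, 1, 0, 2, 3, 2, 1, 0, 4, 5]),
   (10, .e, [3, 1, 2, 0, 1, 5, 4, 2, 3, 2, 1, 0, 1, 0, 1, 0, 1, 2, 3, 2, 4, 5, 1, 0, 2, 1, 3]),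
   (10, .w, [3, 4, 1, 0, 1, 2, 3, 1, 2, 0, 1, 0, 1, 0, 2, 1, 3, 2, 1, 0, 1, 4, 3]),
   (11, .e, [2, 1, 5, 1, 2, 3, 4, 0, 1, 2, 3, 1, 2, 0, 1, 0, 1, 0, 2, 1, 3, 2, 1, 0, 4, 3, 2, 1, 5, 1, 2]),
   (11, .w, [3, 2, 1, 0, 1, 5, 2, 3, 4, 2, 3, 2, 0, 1, 0, 1, 0, 1, 0, 1, 0, 2, 3, 2, 4, 3, 2, 5, 1, 0, 1, 2, 3])]

/-- The relations among the six generators. -/
def relW : List (List ℕ) :=
  [[0, 1, 0, 1, 0, 1, 0, 1, 0, 1], [0, 2, 0, 2], [0, 3, 0, 3], [0, 4, 0, 4], [0, 5, 0, 5], [1, 2, 1, 2, 1, 2], [1, 3, 1, 3], [1, 4, 1, 4], [1, 5, 1, 5, 1, 5], [2, 3, 2, 3, 2, 3, 2, 3, 2, 3, 2, 3, 2, 3, 2, 3], [2, 4, 2, 4], [2, 5, 2, 5], [3, 4, 3, 4, 3, 4], [3, 5, 3, 5], [4, 5, 4, 5], [0, 3, 2, 3, 2, 3, 2, 3, 2], [0, 1, 2, 5, 0, 1, 2, 5, 0, 1, 2, 5, 0, 1, 2, 5, 0, 1, 2, 5], [1, 2, 3, 2, 3, 1, 2, 3, 2, 3, 1, 2, 3, 2, 3, 1, 2, 3, 2, 3, 1, 2, 3, 2, 3, 4, 1, 2, 3, 2, 3, 1, 2, 3, 2, 3, 1, 2, 3, 2, 3, 1,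 2, 3, 2, 3, 1, 2, 3, 2, 3, 4, 1, 2, 3, 2, 3, 1, 2, 3, 2, 3, 1, 2, 3, 2, 3, 1, 2, 3, 2, 3, 1, 2, 3, 2, 3, 4]]

/-- The element of a word in root elements. -/
noncomputable def elt (w : List (ℕ × K4)) : G4 := (w.map fun p => certFullG2.xG p.1 p.2).prod

/-- The six generators in `G₂(4)`. -/
noncomputable def M (i : ℕ) : G4 := elt (gW.getD i [])

/-- The root word of a word in the generators. -/
def flat (w : List ℕ) : List (ℕ × K4) := w.flatMap fun i => gW.getD i []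

theorem gW_lt : (gW.all fun w => w.all fun p => Nat.blt p.1 12) = true := by decide +kernel

theorem getD_lt (i : ℕ) : ∀ p ∈ gW.getD i [], p.1 < 12 := by
  intro p hp
  rcases Nat.lt_or_ge i gW.length with h | h
  · rw [List.getD_eq_getElem _ _ h] at hp
    exact Nat.le_of_ble_eq_true (List.all_eq_true.1 (List.all_eq_true.1 gW_lt _ (List.getElem_mem h)) p hp)
  · rw [List.getD_eq_default _ _ h] at hp
    simp at hp

theorem flat_lt (w : List ℕ) : ∀ p ∈ flat w, p.1 < 12 := by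
  intro p hp
  obtain ⟨i, -, hi⟩ := List.mem_flatMap.1 hp
  exact getD_lt i p hi

theorem exists_rho : ∃ ρ : G4 →* G2Six.M6ˣ, Function.Injective ρ ∧
    ∀ w : List (ℕ × K4), (∀ p ∈ w, p.1 < 12) → (ρ (elt w) : G2Six.M6) = G2Six.wd w := by
  obtain ⟨ρ, hρ⟩ := G2Six.exists_hom (RingEquiv.refl K4)
  have key : ∀ w : List (ℕ × K4), (∀ p ∈ w, p.1 < 12) → (ρ (elt w) : G2Six.M6) = G2Six.wd w := by
    intro w
    induction w with
    | nil => intro _; simp [elt, G2Six.wd]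
    | cons p w ih =>
      intro h
      have hp : p.1 < 12 := h p (by simp)
      have ih' := ih fun q hq => h q (by simp [hq])
      rw [elt, List.map_cons, List.prod_cons, map_mul, Units.val_mul,
        hρ ⟨p.1, hp⟩ p.2 (certFullG2.xG p.1 p.2) rfl]
      rw [show (w.map fun p => certFullG2.xG p.1 p.2).prod = elt w from rfl, ih']
      simp [G2Six.wd]
  refine ⟨ρ, ?_, key⟩
  have hs : IsSimpleGroup G4 :=
    (certFullG2.simple connG2 (certFullG2.perfect_odd (F := K4) perfectG2 ⟨(Cfsg.Agent.Spor.Cos.F4.w : K4), by decide, by decide⟩)).1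
  rcases hs.eq_bot_or_eq_top_of_normal ρ.ker inferInstance with h | h
  · exact (MonoidHom.ker_eq_bot_iff ρ).1 h
  · exfalso
    have h1 : ρ (elt [(0, .e)]) = 1 := MonoidHom.mem_ker.1 (h ▸ Subgroup.mem_top _)
    have h2 := key [(0, .e)] (by simp)
    rw [h1] at h2
    have h3 : G2Six.eqW [(0, .e)] [] = false := by decide +kernel
    have h4 : G2Six.wd [(0, F4.e)] = G2Six.wd [] := by rw [← h2]; simp [G2Six.wd]
    have h5 : G2Six.eqW [(0, .e)] [] = true := by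
      refine List.all_eq_true.2 fun x _ => ?_
      have e1 := G2Six.vec_wdR [(0, F4.e)] x (by simp)
      have e2 := G2Six.vec_wdR [] x (by simp)
      rw [h4, ← e2] at e1
      have hvec : ∀ u v : G2Six.R6, u.vec = v.vec → u = v := by
        rintro ⟨a, b, c, d, g, k⟩ ⟨a', b', c', d', g', k'⟩ huv
        have := congrFun huv 0; have := congrFun huv 1; have := congrFun huv 2
        have := congrFun huv 3; have := congrFun huv 4; have := congrFun huv 5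
        simp_all [G2Six.R6.vec]
      rw [hvec _ _ e1]
      exact Nat.beq_refl _
    rw [h3] at h5
    exact Bool.false_ne_true h5

theorem val_ev {ρ : G4 →* G2Six.M6ˣ}
    (hρ : ∀ w : List (ℕ × K4), (∀ p ∈ w, p.1 < 12) → (ρ (elt w) : G2Six.M6) = G2Six.wd w) :
    ∀ w : List ℕ, ev M w = elt (flat w)
  | [] => by simp [ev, elt, flat]
  | s :: w => by
    rw [ev, val_ev hρ w]
    simp [M, elt, flat]

theorem chk_sq : ((List.range 6).all fun i => G2Six.eqW (flat [i, i]) ([] : List (ℕ × K4))) = true := by decide +kernel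

theorem chk_rel : (relW.all fun w => G2Six.eqW (flat w) []) = true := by decide +kernel

theorem chk_root : (rootW.all fun x => G2Six.eqW (flat x.2.2) [(x.1, x.2.1)]) = true := by decide +kernel

theorem root_cover : ((List.range 12).all fun r => [F4.e, F4.w].all fun t =>
    rootW.any fun x => Nat.beq x.1 r && Nat.beq x.2.1.code t.code) = true := by decide +kernel

theorem root_lt : (rootW.all fun x => Nat.blt x.1 12 && x.2.2.all fun i => Nat.blt i 6) = true := by decide +kernel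

theorem ev_eq_one {w : List ℕ} (h : G2Six.eqW (flat w) [] = true) : ev M w = 1 := by
  obtain ⟨ρ, hinj, hρ⟩ := exists_rho
  refine hinj (Units.ext ?_)
  rw [val_ev hρ, hρ _ (flat_lt w), map_one, G2Six.wd_eq_of (flat_lt w) (by simp) h]
  simp [G2Six.wd]

theorem M_sq (s : ℕ) : M s * M s = 1 := by
  rcases Nat.lt_or_ge s 6 with h | h
  · have := ev_eq_one (List.all_eq_true.1 chk_sq s (List.mem_range.2 h))
    simpa [ev] using this
  · have hn : gW.getD s [] = [] := List.getD_eq_default _ _ h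
    have hM : M s = 1 := by rw [M, hn]; rfl
    rw [hM, mul_one]

theorem M_rel : ∀ w ∈ relW, ev M w = 1 := fun w hw => ev_eq_one (List.all_eq_true.1 chk_rel w hw)

theorem M_gen : Subgroup.closure {x | ∃ i < 6, M i = x} = ⊤ := by
  obtain ⟨ρ, hinj, hρ⟩ := exists_rho
  set D := Subgroup.closure {x | ∃ i < 6, M i = x}
  have hx : ∀ r < 12, ∀ t ∈ [F4.e, F4.w], certFullG2.xG r t ∈ D := by
    intro r hr t ht
    obtain ⟨x, hxm, hxe⟩ := List.any_eq_true.1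
      (List.all_eq_true.1 (List.all_eq_true.1 root_cover r (List.mem_range.2 hr)) t ht)
    simp only [Bool.and_eq_true] at hxe
    obtain rfl := Nat.eq_of_beq_eq_true hxe.1
    obtain rfl := G2Six.K4_code_inj _ _ (Nat.eq_of_beq_eq_true hxe.2)
    have hl := List.all_eq_true.1 root_lt x hxm
    simp only [Bool.and_eq_true, List.all_eq_true] at hl
    have he : ev M x.2.2 = certFullG2.xG x.1 x.2.1 := by
      refine hinj (Units.ext ?_)
      rw [val_ev hρ, hρ _ (flat_lt _), G2Six.wd_eq_of (flat_lt _) (by simpa using hr)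
        (List.all_eq_true.1 chk_root x hxm)]
      rw [← hρ [(x.1, x.2.1)] (by simpa using hr)]
      simp [elt]
    rw [← he]
    exact ev_mem _ fun i hi => Subgroup.subset_closure ⟨i, Nat.le_of_ble_eq_true (hl.2 i hi), rfl⟩
  have hall : ∀ r < 12, ∀ t : K4, certFullG2.xG r t ∈ D := by
    intro r hr t
    have hval : ∀ u : K4, (ρ (certFullG2.xG r u) : G2Six.M6) = G2Six.mm r u := by
      intro u
      have := hρ [(r, u)] (by simpa using hr)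
      simpa [elt, G2Six.wd] using this
    cases t with
    | o =>
      have : certFullG2.xG r (F4.o) = (1 : G4) := hinj (Units.ext (by
        rw [hval, map_one, Units.val_one]; exact G2Six.mm_zero ⟨r, hr⟩))
      rw [this]; exact one_mem _
    | e => exact hx r hr _ (by simp)
    | w => exact hx r hr _ (by simp)
    | v =>
      have : certFullG2.xG r F4.v = certFullG2.xG r F4.e * certFullG2.xG r F4.w := hinj (Units.ext (by
        rw [hval, map_mul, Units.val_mul, hval, hval, G2Six.mm_add ⟨r, hr⟩]; rfl))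
      rw [this]; exact mul_mem (hx r hr _ (by simp)) (hx r hr _ (by simp))
  refine eq_top_iff.2 fun g _ => ?_
  have h : ∀ y : GL chevG2.Idx K4, y ∈ chevG2.group K4 → ∀ hy : y ∈ chevG2.group K4, (⟨y, hy⟩ : G4) ∈ D := by
    intro y hy
    induction hy using Subgroup.closure_induction with
    | mem y hy =>
      obtain ⟨r, t, hrt⟩ := hy
      intro hy
      have e1 : y = certFullG2.xg r.val t := by
        refine Units.ext (hrt.trans ?_)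
        rw [certFullG2.xg_val]
        simp [Cfsg.Lie.ChevalleyDatum.x, r.2]
      rw [show (⟨y, hy⟩ : G4) = certFullG2.xG r.val t from Subtype.ext e1]
      exact hall r.val r.2 t
    | one => intro _; exact one_mem D
    | mul a b ha hb iha ihb =>
      intro hab
      exact (show (⟨a * b, hab⟩ : G4) = ⟨a, ha⟩ * ⟨b, hb⟩ from rfl) ▸ mul_mem (iha ha) (ihb hb)
    | inv a ha iha =>
      intro h'
      exact (show (⟨a⁻¹, h'⟩ : G4) = ⟨a, ha⟩⁻¹ from rfl) ▸ inv_mem (iha ha)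
  exact h g.1 g.2 g.2

/-- The paired generators. -/
noncomputable def gp (s : ℕ) : Cfsg.Spor.Suz × G4 := (Suz.g s, M s)

theorem gp_sq (s : ℕ) : gp s * gp s = 1 := Prod.ext (Suz.g_sq s) (M_sq s)

theorem rel_derived : relW.all (derivedOk 7 Suz.words) = true := by decide +kernel

theorem gp_rel : ∀ w ∈ relW, ev gp w = 1 := fun w hw => Prod.ext
  ((ev_map (MonoidHom.fst _ _) gp w).trans
    (ev_derived (fun s _ => Suz.g_sq s) Suz.g_words (List.all_eq_true.1 rel_derived w hw)))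
  ((ev_map (MonoidHom.snd _ _) gp w).trans (M_rel w hw))

theorem gp_bound : Bound gp [0, 1, 2, 3, 4, 5] 251596800 := by
  have h0 : Bound gp [] 1 := Bound.nil
  have h1 : Bound gp [0, 1] 10 :=
    Bound.step (d := 7) gp_sq h0 Suz.dih Suz.dih_checks rfl (by decide +kernel)
      (hbase_of gp_sq gp_rel (n := 7) (by decide +kernel)) Suz.dih_derived
  have h2 : Bound gp [0, 1, 2, 3] 2160 :=
    Bound.step (d := 7) gp_sq h1 Suz.low Suz.low_checks rfl (by decide +kernel)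
      (hbase_of gp_sq gp_rel (n := 7) (by decide +kernel)) Suz.low_derived
  have h3 : Bound gp [0, 1, 2, 3, 4] 604800 :=
    Bound.step (d := 7) gp_sq h2 Suz.j2 Suz.j2_checks rfl (by decide +kernel)
      (hbase_of gp_sq gp_rel (n := 7) (by decide +kernel)) Suz.j2_derived
  exact Bound.step (d := 7) gp_sq h3 Suz.g24 Suz.g24_checks rfl (by decide +kernel)
      (hbase_of gp_sq gp_rel (n := 7) (by decide +kernel)) Suz.g24_derived

theorem map_val {A B : Type*} [Group A] [Group B] (f : A →* B) (g : ℕ → A) (ws : List (List ℕ)) :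
    (val g ws).map f = val (fun s => f (g s)) ws := by
  rw [val, MonoidHom.map_closure]
  congr 1
  ext y
  constructor
  · rintro ⟨_, ⟨w, hw, rfl⟩, rfl⟩; exact ⟨w, hw, (ev_map f g w).symm⟩
  · rintro ⟨w, hw, rfl⟩; exact ⟨_, ⟨w, hw, rfl⟩, ev_map f g w⟩

theorem card_G4 : Nat.card G4 = 251596800 := by
  rw [Cfsg.Agent.S1059.result (F := K4) (q := 4) F4.card_eq]; norm_num

theorem card_val : Nat.card (val Suz.g Suz.lv1W) = 251596800 := by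
  haveI := Suz.finite
  rw [Suz.stabA]
  exact card_stab Suz.trA (by rw [Suz.card_eq]; decide +kernel)

/-- The presented subgroup is `G₂(4)`. -/
theorem iso : Nonempty (val Suz.g Suz.lv1W ≃* G4) := by
  haveI := Suz.finite
  obtain ⟨hfin, hcard⟩ := gp_bound
  set D := val gp (singles [0, 1, 2, 3, 4, 5]) with hD
  have hf : D.map (MonoidHom.fst _ _) = val Suz.g Suz.lv1W := by
    rw [hD, map_val]; rfl
  have hs : D.map (MonoidHom.snd _ _) = ⊤ := by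
    rw [hD, map_val, ← top_le_iff, ← M_gen, Subgroup.closure_le]
    rintro _ ⟨i, hi, rfl⟩
    exact mem_single (g := M) (List.mem_range.2 hi : i ∈ List.range 6)
  let p1 : D →* val Suz.g Suz.lv1W := ((MonoidHom.fst _ _).comp D.subtype).codRestrict _
    fun x => hf ▸ Subgroup.mem_map_of_mem _ x.2
  let p2 : D →* G4 := (MonoidHom.snd _ _).comp D.subtype
  have hp1 : Function.Surjective p1 := by
    rintro ⟨y, hy⟩
    rw [← hf] at hy
    obtain ⟨x, hx, rfl⟩ := hy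
    exact ⟨⟨x, hx⟩, Subtype.ext rfl⟩
  have hp2 : Function.Surjective p2 := by
    intro y
    have hy : y ∈ D.map (MonoidHom.snd _ _) := hs ▸ Subgroup.mem_top y
    obtain ⟨x, hx, rfl⟩ := hy
    exact ⟨⟨x, hx⟩, rfl⟩
  haveI : Finite D := hfin
  have b1 : Function.Bijective p1 := by
    refine Function.Surjective.bijective_of_nat_card_le hp1 ?_
    rw [card_val]; exact hcard
  have b2 : Function.Bijective p2 := by
    refine Function.Surjective.bijective_of_nat_card_le hp2 ?_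
    rw [card_G4]; exact hcard
  exact ⟨(MulEquiv.ofBijective p1 b1).symm.trans (MulEquiv.ofBijective p2 b2)⟩

end Cfsg.Agent.Fus.SuzG2
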