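import Cfsg.Agent.Lib.Fus.GTwoFourJ2Data
import Cfsg.Agent.Lib.Fus.OrbitCoatom
import Cfsg.Agent.Lib.Fus.SuzGTwoFour
import Cfsg.Agent.Lib.Spor.J2.Group
import Cfsg.Agent.Lib.Lie.Chev.D4Torus
import Cfsg.Agent.S1059

/-!
`J₂` inside `G₂(4)`: in the presented Suzuki group `⟨a,…,e⟩` is the stabiliser of a point in the orbit of
416 points of `⟨a,…,f⟩`, it is a maximal subgroup there, and its two-point stabilisers are maximal in it.
-/

set_option autoImplicit false
set_option maxRecDepth 100000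
set_option maxHeartbeats 4000000

namespace Cfsg.Agent.Fus.GTwoJ2

open Cfsg.Agent.Spor.Cos

theorem all_range {n : ℕ} {p : ℕ → Bool} (h : (List.range n).all p = true) : ∀ j < n, p j = true :=
  fun j hj => List.all_eq_true.1 h j (List.mem_range.2 hj)

theorem oAll_ok : oAll.Ok Suz.actA Suz.lv1W 1781 where
  letters := by decide +kernel
  pos := by decide +kernel
  ents := all_range (by decide +kernel)

theorem oAll_closed : ∀ j < oAll.m, oAll.chkClosed Suz.actA Suz.lv1W j = true := all_range (by decide +kernel)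

theorem oSmall_ok : oSmall.Ok Suz.actA Suz.lv2W 135 where
  letters := by decide +kernel
  pos := by decide +kernel
  ents := all_range (by decide +kernel)

theorem oSmall_closed : ∀ j < oSmall.m, oSmall.chkClosed Suz.actA Suz.lv2W j = true := all_range (by decide +kernel)

theorem oBig_ok : oBig.Ok Suz.actA Suz.lv2W 140 where
  letters := by decide +kernel
  pos := by decide +kernel
  ents := all_range (by decide +kernel)

theorem oBig_closed : ∀ j < oBig.m, oBig.chkClosed Suz.actA Suz.lv2W j = true := all_range (by decide +kernel)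

theorem chk_pSmall : OrbCoatom.chkParts Suz.actA Suz.lv3W pSmall = true := by decide +kernel

theorem chk_pBig : OrbCoatom.chkParts Suz.actA w140 pBig = true := by decide +kernel

theorem chk_pAll : OrbCoatom.chkParts Suz.actA Suz.lv2W pAll = true := by decide +kernel

theorem part_all : (List.range oAll.m).all (fun j => chkPartition pAll 1781 (oAll.pt j)) = true := by decide +kernel

theorem part_small : (List.range oSmall.m).all (fun j => chkPartition pSmall 135 (oSmall.pt j)) = true := by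
  decide +kernel

theorem part_big : (List.range oBig.m).all (fun j => chkPartition pBig 140 (oBig.pt j)) = true := by decide +kernel

/-- `⟨a,…,f⟩`. -/
noncomputable abbrev K1 : Subgroup Cfsg.Spor.Suz := val Suz.g Suz.lv1W

/-- `⟨a,…,e⟩`. -/
noncomputable abbrev H2 : Subgroup Cfsg.Spor.Suz := val Suz.g Suz.lv2W

/-- The point fixed by `⟨a,…,e⟩`. -/
noncomputable def p0 : Fin Suz.actA.N := ⟨1781, oAll_ok.root_lt⟩

/-- Base of the orbit of 100 points. -/
noncomputable def pS : Fin Suz.actA.N := ⟨135, oSmall_ok.root_lt⟩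

/-- Base of the orbit of 315 points. -/
noncomputable def pB : Fin Suz.actA.N := ⟨140, oBig_ok.root_lt⟩

theorem le_H2 : 604800 ≤ Nat.card H2 := by
  have := Suz.finite
  have h6 : LevR Suz.g Suz.actA Suz.piA [] 1 [] := LevR.nil
  have h5 : LevR Suz.g Suz.actA Suz.piA Suz.lv5W 8 [1] :=
    LevR.step Suz.homA h6 Suz.lv5_ok (by decide +kernel) (by decide +kernel) (by decide +kernel)
  have h4 : LevR Suz.g Suz.actA Suz.piA Suz.lv4W 168 [46, 1] :=
    LevR.step Suz.homA h5 Suz.lv4_ok (by decide +kernel) (by decide +kernel) (by decide +kernel)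
  have h3 : LevR Suz.g Suz.actA Suz.piA Suz.lv3W 6048 [1461, 46, 1] :=
    LevR.step Suz.homA h4 Suz.lv3_ok (by decide +kernel) (by decide +kernel) (by decide +kernel)
  have h2 : LevR Suz.g Suz.actA Suz.piA Suz.lv2W 604800 [135, 1461, 46, 1] :=
    LevR.step Suz.homA h3 Suz.lv2_ok (by decide +kernel) (by decide +kernel) (by decide +kernel)
  exact h2.le

theorem stab_inf : K1 ⊓ stab Suz.piA p0 = H2 := by
  have := Suz.finite
  have hle : H2 ≤ K1 ⊓ stab Suz.piA p0 := by
    refine (Subgroup.closure_le _).2 ?_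
    rintro _ ⟨w, hw, rfl⟩
    exact ⟨mem_val_of_wordsIn (ws' := Suz.lv2W) (by decide +kernel) hw,
      Suz.homA.apply_ev_eq (ws := Suz.lv2W) (by decide +kernel) (p := p0)
        (show Suz.actA.chkFix Suz.lv2W 1781 = true by decide +kernel) hw⟩
  have hidx : (K1 ⊓ stab Suz.piA p0).relIndex K1 = 416 := by
    rw [Subgroup.inf_relIndex_left]
    exact OrbCoatom.relIndex_eq Suz.homA oAll_ok oAll_closed
  have hmul := Subgroup.relIndex_mul_relIndex ⊥ (K1 ⊓ stab Suz.piA p0) K1 bot_le inf_le_left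
  rw [hidx, Subgroup.relIndex_bot_left, Subgroup.relIndex_bot_left, SuzG2.card_val] at hmul
  refine (SetLike.coe_injective (Set.eq_of_subset_of_ncard_le hle ?_)).symm
  rw [← Nat.card_coe_set_eq, ← Nat.card_coe_set_eq]
  exact le_trans (by omega : Nat.card (K1 ⊓ stab Suz.piA p0 : Subgroup _) ≤ 604800) le_H2

theorem H2_le : H2 ≤ K1 := stab_inf ▸ inf_le_left

theorem card_H2 : Nat.card H2 = 604800 := by
  have := Suz.finite
  have hidx : (K1 ⊓ stab Suz.piA p0).relIndex K1 = 416 := by
    rw [Subgroup.inf_relIndex_left]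
    exact OrbCoatom.relIndex_eq Suz.homA oAll_ok oAll_closed
  have hmul := Subgroup.relIndex_mul_relIndex ⊥ (K1 ⊓ stab Suz.piA p0) K1 bot_le inf_le_left
  rw [hidx, Subgroup.relIndex_bot_left, Subgroup.relIndex_bot_left, SuzG2.card_val, stab_inf] at hmul
  omega

theorem coatom_H2 : IsCoatom (H2.subgroupOf K1) := by
  have := Suz.finite
  have := OrbCoatom.coatom_of_orbits Suz.homA oAll_ok oAll_closed (wsS := Suz.lv2W) (by decide +kernel)
    (by decide +kernel) (by decide +kernel) (OrbCoatom.parts_ok chk_pAll) part_all (by decide +kernel)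
    (by decide +kernel)
  rwa [show (⟨1781, oAll_ok.root_lt⟩ : Fin Suz.actA.N) = p0 from rfl, stab_inf] at this

theorem coatom_pS : IsCoatom ((H2 ⊓ stab Suz.piA pS).subgroupOf H2) := by
  have := Suz.finite
  exact OrbCoatom.coatom_of_orbits Suz.homA oSmall_ok oSmall_closed (wsS := Suz.lv3W) (by decide +kernel)
    (by decide +kernel) (by decide +kernel) (OrbCoatom.parts_ok chk_pSmall) part_small (by decide +kernel)
    (by decide +kernel)

theorem coatom_pB : IsCoatom ((H2 ⊓ stab Suz.piA pB).subgroupOf H2) := by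
  have := Suz.finite
  exact OrbCoatom.coatom_of_orbits Suz.homA oBig_ok oBig_closed (wsS := w140) (by decide +kernel)
    (by decide +kernel) (by decide +kernel) (OrbCoatom.parts_ok chk_pBig) part_big (by decide +kernel)
    (by decide +kernel)

/-! ### The isomorphism with `J₂` -/

open Cfsg.Agent.J2Cert in
/-- The four reflections as a sequence. -/
noncomputable def r4 (t : ℕ) : Cfsg.Spor.J2 := if h : t < 4 then gJ ⟨t, h⟩ else 1

/-- The word of a word in the five involutions. -/
def flat (w : List ℕ) : List ℕ := w.flatMap fun i => jW.getD i []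

/-- Five involutions of `J₂`. -/
noncomputable def jM (s : ℕ) : Cfsg.Spor.J2 := ev r4 (jW.getD s [])

theorem jW_lt : (jW.all fun w => w.all fun t => Nat.blt t 4) = true := by decide +kernel

theorem jR_lt : (jR.all fun w => w.all fun t => Nat.blt t 5) = true := by decide +kernel

theorem flat_lt (w : List ℕ) : ∀ t ∈ flat w, t < 4 := by
  intro t ht
  obtain ⟨i, -, hi⟩ := List.mem_flatMap.1 ht
  rcases Nat.lt_or_ge i jW.length with h | h
  · rw [List.getD_eq_getElem _ _ h] at hi
    exact Nat.le_of_ble_eq_true (List.all_eq_true.1 (List.all_eq_true.1 jW_lt _ (List.getElem_mem h)) t hi)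
  · rw [List.getD_eq_default _ _ h] at hi
    simp at hi

theorem ev_flat : ∀ w : List ℕ, ev jM w = ev r4 (flat w)
  | [] => rfl
  | s :: w => by
    rw [ev, ev_flat w, show flat (s :: w) = jW.getD s [] ++ flat w from List.flatMap_cons, ev_append]
    rfl

theorem acts_ev : ∀ w : List ℕ, (∀ t ∈ w, t < 4) → J2Cert.Acts (ev r4 w) (J2Cert.wP J2Cert.gP w)
  | [], _ => J2Cert.acts_one
  | s :: w, h => by
    have hs : s < 4 := h s (List.mem_cons_self ..)
    have e : r4 s = J2Cert.gJ ⟨s, hs⟩ := dif_pos hs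
    rw [ev, e]
    exact (J2Cert.acts_gJ ⟨s, hs⟩).mul (acts_ev w fun t ht => h t (List.mem_cons_of_mem _ ht))

/-- The base lines are fixed by a word. -/
noncomputable def chkOne (w : List ℕ) : Bool :=
  J2Cert.baseL.all fun x => Nat.beq (J2Cert.wP J2Cert.gP (flat w) x) x

theorem ev_eq_one {w : List ℕ} (h : chkOne w = true) : ev jM w = 1 := by
  rw [ev_flat]
  exact (acts_ev _ (flat_lt w)).eq_one h

theorem chk_sq : ((List.range 5).all fun s => chkOne [s, s]) = true := by decide +kernel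

theorem chk_rel : Suz.j2Base.all chkOne = true := by decide +kernel

theorem jM_sq (s : ℕ) : jM s * jM s = 1 := by
  rcases Nat.lt_or_ge s 5 with h | h
  · have := ev_eq_one (all_range chk_sq s h)
    simpa [ev] using this
  · have hn : jW.getD s [] = [] := List.getD_eq_default _ _ (by exact h)
    have hM : jM s = 1 := by rw [jM, hn]; rfl
    rw [hM, mul_one]

theorem chk_gen : ((List.range 4).all fun t => J2Cert.baseL.all fun x =>
    Nat.beq (J2Cert.wP J2Cert.gP (flat (jR.getD t [])) x) (J2Cert.gP t x)) = true := by decide +kernel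

theorem jM_gen : Subgroup.closure {x | ∃ s < 5, jM s = x} = ⊤ := by
  rw [← top_le_iff, ← J2Cert.closure_gJ, Subgroup.closure_le]
  rintro _ ⟨t, rfl⟩
  have ht : (t : ℕ) < jR.length := lt_of_lt_of_le t.isLt (by decide)
  have e : ev jM (jR.getD t []) = J2Cert.gJ t := by
    rw [ev_flat]
    refine J2Cert.eq_of_base fun x hx hx' => Fin.ext ?_
    rw [acts_ev _ (flat_lt _) ⟨x, hx'⟩, J2Cert.acts_gJ t ⟨x, hx'⟩]
    exact Nat.eq_of_beq_eq_true (List.all_eq_true.1 (all_range chk_gen t t.isLt) x hx)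
  rw [← e]
  refine ev_mem _ fun i hi => Subgroup.subset_closure ⟨i, ?_, rfl⟩
  rw [List.getD_eq_getElem _ _ ht] at hi
  exact Nat.le_of_ble_eq_true (List.all_eq_true.1 (List.all_eq_true.1 jR_lt _ (List.getElem_mem ht)) i hi)

/-- The paired generators. -/
noncomputable def gq (s : ℕ) : Cfsg.Spor.Suz × Cfsg.Spor.J2 := (Suz.g s, jM s)

theorem gq_sq (s : ℕ) : gq s * gq s = 1 := Prod.ext (Suz.g_sq s) (jM_sq s)

theorem base_derived : Suz.j2Base.all (derivedOk 7 Suz.words) = true := by decide +kernel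

theorem gq_rel : ∀ w ∈ Suz.j2Base, ev gq w = 1 := fun w hw => Prod.ext
  ((ev_map (MonoidHom.fst _ _) gq w).trans
    (ev_derived (fun s _ => Suz.g_sq s) Suz.g_words (List.all_eq_true.1 base_derived w hw)))
  ((ev_map (MonoidHom.snd _ _) gq w).trans (ev_eq_one (List.all_eq_true.1 chk_rel w hw)))

theorem gq_bound : Bound gq [0, 1, 2, 3, 4] 604800 := by
  have h0 : Bound gq [] 1 := Bound.nil
  have h1 : Bound gq [0, 1] 10 :=
    Bound.step (d := 7) gq_sq h0 Suz.dih Suz.dih_checks rfl (by decide +kernel)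
      (hbase_of gq_sq gq_rel (n := 7) (by decide +kernel)) Suz.dih_derived
  have h2 : Bound gq [0, 1, 2, 3] 2160 :=
    Bound.step (d := 7) gq_sq h1 Suz.low Suz.low_checks rfl (by decide +kernel)
      (hbase_of gq_sq gq_rel (n := 7) (by decide +kernel)) Suz.low_derived
  exact Bound.step (d := 7) gq_sq h2 Suz.j2 Suz.j2_checks rfl (by decide +kernel)
      (hbase_of gq_sq gq_rel (n := 7) (by decide +kernel)) Suz.j2_derived

theorem isoJ2 : Cfsg.Spor.IsoJ2 H2 := by
  obtain ⟨hfin, hcard⟩ := gq_bound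
  set D := val gq (singles [0, 1, 2, 3, 4]) with hD
  have hf : D.map (MonoidHom.fst _ _) = H2 := by
    rw [hD, SuzG2.map_val]; rfl
  have hs : D.map (MonoidHom.snd _ _) = ⊤ := by
    rw [hD, SuzG2.map_val, ← top_le_iff, ← jM_gen, Subgroup.closure_le]
    rintro _ ⟨i, hi, rfl⟩
    exact mem_single (g := jM) (List.mem_range.2 hi : i ∈ List.range 5)
  let p1 : D →* H2 := ((MonoidHom.fst _ _).comp D.subtype).codRestrict _
    fun x => hf ▸ Subgroup.mem_map_of_mem _ x.2
  let p2 : D →* Cfsg.Spor.J2 := (MonoidHom.snd _ _).comp D.subtype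
  have hp1 : Function.Surjective p1 := by
    rintro ⟨y, hy⟩
    rw [← hf] at hy
    obtain ⟨x, hx, rfl⟩ := hy
    exact ⟨⟨x, hx⟩, Subtype.ext rfl⟩
  have hp2 : Function.Surjective p2 := by
    intro y
    have hy : y ∈ D.map (MonoidHom.snd _ _) := hs ▸ Subgroup.mem_top y
    obtain ⟨x, hx, rfl⟩ := hy
    exact ⟨⟨x, hx⟩, rfl⟩
  have : Finite D := hfin
  have b1 : Function.Bijective p1 := by
    refine Function.Surjective.bijective_of_nat_card_le hp1 ?_
    rw [card_H2]; exact hcard
  have b2 : Function.Bijective p2 := by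
    refine Function.Surjective.bijective_of_nat_card_le hp2 ?_
    rw [J2Cert.card_J2]; exact hcard
  exact ⟨(MulEquiv.ofBijective p1 b1).symm.trans (MulEquiv.ofBijective p2 b2)⟩

/-! ### Two-point stabilisers -/

/-- Translating a maximal subgroup by an inner automorphism. -/
theorem coatom_translate {k : Cfsg.Spor.Suz} (hk : k ∈ H2) {r q : Fin Suz.actA.N} (e : Suz.piA k r = q)
    (h : IsCoatom ((H2 ⊓ stab Suz.piA r).subgroupOf H2)) :
    IsCoatom ((H2 ⊓ stab Suz.piA q).subgroupOf H2) := by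
  set c : H2 ≃* H2 := MulAut.conj ⟨k, hk⟩
  have : (H2 ⊓ stab Suz.piA q).subgroupOf H2 = c.mapSubgroup ((H2 ⊓ stab Suz.piA r).subgroupOf H2) := by
    ext y
    rw [MulEquiv.coe_mapSubgroup, Subgroup.mem_map_equiv]
    simp only [Subgroup.mem_subgroupOf, Subgroup.mem_inf, c, MulAut.conj_symm_apply, Subgroup.coe_mul,
      InvMemClass.coe_inv, mem_stab, map_mul, map_inv, Equiv.Perm.mul_apply, Equiv.Perm.inv_eq_iff_eq, e]
    exact ⟨fun h' => ⟨mul_mem (mul_mem (inv_mem hk) h'.1) hk, h'.2⟩, fun h' => ⟨y.2, h'.2⟩⟩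
  rw [this]
  exact (OrderIso.isCoatom_iff _ _).2 h

theorem coatom_two {q : Fin Suz.actA.N} (hq : oAll.mem q = true) (hne : q ≠ p0) :
    IsCoatom ((H2 ⊓ stab Suz.piA q).subgroupOf H2) := by
  simp only [Orb.mem, force_eq, Bool.and_eq_true] at hq
  have h0 := all_range part_all _ (Nat.le_of_ble_eq_true hq.1)
  rw [Nat.eq_of_beq_eq_true hq.2] at h0
  simp only [chkPartition, show Nat.beq (q : ℕ) 1781 = false from Bool.eq_false_iff.2 fun e =>
      hne (Fin.ext (Nat.eq_of_beq_eq_true e)), Bool.cond_false] at h0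
  have h1 : 0 < pAll.countP fun o => o.1.mem (q : ℕ) := by
    rw [Nat.eq_of_beq_eq_true h0]; exact one_pos
  obtain ⟨o, ho, hm⟩ := List.countP_pos_iff.1 h1
  simp only [pAll, List.mem_cons, List.not_mem_nil, or_false] at ho
  rcases ho with rfl | rfl
  · obtain ⟨k, hk, e⟩ := oSmall_ok.mem_orbit Suz.homA pS rfl hm
    exact coatom_translate hk e coatom_pS
  · obtain ⟨k, hk, e⟩ := oBig_ok.mem_orbit Suz.homA pB rfl hm
    exact coatom_translate hk e coatom_pB

/-! ### The property and its transfer -/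

/-- A maximal `J₂` with maximal intersections with its other conjugates. -/
def Good (G : Type*) [Group G] : Prop :=
  ∃ H : Subgroup G, IsCoatom H ∧ Cfsg.Spor.IsoJ2 H ∧
    ∀ x, x ∉ H → IsCoatom ((H ⊓ H.map (MulAut.conj x).toMonoidHom).subgroupOf H)

theorem good_K1 : Good K1 := by
  obtain ⟨φ⟩ := isoJ2
  refine ⟨H2.subgroupOf K1, coatom_H2, ⟨(Subgroup.subgroupOfEquivOfLe H2_le).trans φ⟩, fun x hx => ?_⟩
  set q := Suz.piA (x : Cfsg.Spor.Suz) p0
  have horb := oAll_ok.orbit_eq oAll_closed Suz.homA p0 rfl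
  have hq : oAll.mem q = true := by
    have : q ∈ {p : Fin Suz.actA.N | oAll.mem p = true} := horb ▸ ⟨x, x.2, rfl⟩
    exact this
  have hne : q ≠ p0 := fun e => hx (Subgroup.mem_subgroupOf.2 (stab_inf ▸ ⟨x.2, e⟩))
  set e : H2.subgroupOf K1 ≃* H2 := Subgroup.subgroupOfEquivOfLe H2_le
  have : ((H2.subgroupOf K1 ⊓ (H2.subgroupOf K1).map (MulAut.conj x).toMonoidHom).subgroupOf (H2.subgroupOf K1)) =
      e.symm.mapSubgroup ((H2 ⊓ stab Suz.piA q).subgroupOf H2) := by
    ext y
    have h2 : ∀ z : Cfsg.Spor.Suz, z ∈ H2 ↔ z ∈ K1 ∧ Suz.piA z p0 = p0 := fun z => by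
      rw [← stab_inf]; rfl
    rw [MulEquiv.coe_mapSubgroup, Subgroup.mem_map_equiv, MulEquiv.symm_symm, Subgroup.mem_subgroupOf,
      Subgroup.mem_subgroupOf, Subgroup.mem_inf, Subgroup.mem_inf, Subgroup.mem_map_equiv, Subgroup.mem_subgroupOf,
      Subgroup.mem_subgroupOf, MulAut.conj_symm_apply]
    have hy : ((e y : H2) : Cfsg.Spor.Suz) = ((y : K1) : Cfsg.Spor.Suz) := rfl
    rw [hy, Subgroup.coe_mul, Subgroup.coe_mul, InvMemClass.coe_inv, h2 (_ * _ * _), mem_stab, map_mul, map_mul,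
      map_inv, Equiv.Perm.mul_apply, Equiv.Perm.mul_apply, Equiv.Perm.inv_eq_iff_eq]
    refine and_congr_right fun _ => ⟨fun h => ?_, fun h => ⟨?_, ?_⟩⟩
    · exact h.2
    · exact mul_mem (mul_mem (inv_mem x.2) (y : K1).2) x.2
    · exact h
  rw [this]
  exact (OrderIso.isCoatom_iff _ _).2 (coatom_two hq hne)

theorem Good.of_equiv {G G' : Type*} [Group G] [Group G'] (e : G ≃* G') (h : Good G) : Good G' := by
  obtain ⟨H, hc, ⟨φ⟩, ht⟩ := h
  refine ⟨H.map e.toMonoidHom, ?_, ⟨(e.subgroupMap H).symm.trans φ⟩, fun x hx => ?_⟩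
  · rw [← MulEquiv.coe_mapSubgroup]
    exact (OrderIso.isCoatom_iff _ _).2 hc
  have hx' : e.symm x ∉ H := fun h' => hx (Subgroup.mem_map_equiv.2 h')
  set f : H ≃* (H.map e.toMonoidHom : Subgroup G') := e.subgroupMap H
  have : ((H.map e.toMonoidHom ⊓ (H.map e.toMonoidHom).map (MulAut.conj x).toMonoidHom).subgroupOf
      (H.map e.toMonoidHom)) =
      f.mapSubgroup ((H ⊓ H.map (MulAut.conj (e.symm x)).toMonoidHom).subgroupOf H) := by
    ext y
    have hy : ((f.symm y : H) : G) = e.symm (y : G') := rfl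
    rw [MulEquiv.coe_mapSubgroup, Subgroup.mem_map_equiv, Subgroup.mem_subgroupOf,
      Subgroup.mem_subgroupOf, Subgroup.mem_inf, Subgroup.mem_inf, Subgroup.mem_map_equiv, Subgroup.mem_map_equiv,
      Subgroup.mem_map_equiv, Subgroup.mem_map_equiv, MulAut.conj_symm_apply, MulAut.conj_symm_apply, map_mul,
      map_mul, map_inv, hy]
  rw [this]
  exact (OrderIso.isCoatom_iff _ _).2 (ht _ hx')

theorem good_G4 : Good SuzG2.G4 := good_K1.of_equiv SuzG2.iso.some

/-- `G₂(4)` over any field with four elements. -/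
theorem good {F : Type*} [Field F] [Fintype F] (hF : Fintype.card F = 4) :
    Good (Cfsg.Lie.chevG2.group F) := by
  have hc : Fintype.card SuzG2.K4 = Fintype.card F := F4.card_eq.trans hF.symm
  let e : SuzG2.K4 ≃+* F := FiniteField.ringEquivOfCardEq hc
  let f : SuzG2.G4 →* Cfsg.Lie.chevG2.group F :=
    ((Matrix.GeneralLinearGroup.map e.toRingHom).comp (Cfsg.Lie.chevG2.group SuzG2.K4).subtype).codRestrict _
      fun y => Cfsg.Agent.Lie.Chev.certFullG2.mapHom_mem_group e.toRingHom y.2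
  have hinj : Function.Injective f := by
    intro a b hab
    refine Subtype.ext (Units.ext (Matrix.ext fun i j => e.injective ?_))
    exact congrArg (fun z : Cfsg.Lie.chevG2.group F => ((z : GL Cfsg.Lie.chevG2.Idx F) : Matrix _ _ F) i j) hab
  have : Finite (Cfsg.Lie.chevG2.group F) := Nat.finite_of_card_ne_zero (by
    rw [Cfsg.Agent.S1059.result (F := F) hF]; norm_num)
  have hb : Function.Bijective f := hinj.bijective_of_nat_card_le (by
    rw [SuzG2.card_G4, Cfsg.Agent.S1059.result (F := F) hF]; norm_num)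
  exact good_G4.of_equiv (MulEquiv.ofBijective f hb)

end Cfsg.Agent.Fus.GTwoJ2
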