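import Cfsg.Agent.Lib.Fus.WreathSylowTwo
import Cfsg.Agent.Lib.Lie.SympWreath
import Cfsg.Agent.Lib.Classical.SLTwoSylow
import Cfsg.Agent.Lib.Grp.DerivedLengthPerm

/-!
The Sylow 2-subgroups of `Sp (2n, q)`, `q` odd: quaternion groups wreathed with a Sylow 2-subgroup of `Sₙ`.
-/

set_option autoImplicit false
set_option linter.unusedSectionVars false
set_option linter.style.haveILetI false

namespace Cfsg.Agent.Fus.SympSylowTwo

open Cfsg.Agent.Fus.PermWreath Cfsg.Agent.Lie
open scoped commutatorElement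
open QuaternionGroup

universe u

theorem quat_sq {N : ℕ} [NeZero N] (hN : Even N) : Sq (QuaternionGroup N) := by
  have key : ∀ i : ZMod (2 * N), (a (i + i) : QuaternionGroup N) ∈ commutator (QuaternionGroup N) := fun i => by
    have h : ⁅(a i : QuaternionGroup N), xa 0⁆ = a (i + i) := by
      rw [commutatorElement_def]
      show a i * xa 0 * a (-i) * xa ((N : ZMod (2 * N)) + 0) = _
      rw [a_mul_xa, xa_mul_a, xa_mul_xa]
      congr 1
      have := ZMod.natCast_self (2 * N)
      push_cast at this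
      linear_combination this
    rw [← h]
    exact Subgroup.commutator_mem_commutator (Subgroup.mem_top _) (Subgroup.mem_top _)
  intro x
  rw [sq]
  rcases x with i | i
  · rw [a_mul_a]; exact key i
  · rw [xa_mul_xa, add_sub_cancel_right]
    obtain ⟨m, rfl⟩ := hN
    rw [Nat.cast_add]; exact key (m : ZMod (2 * (m + m)))

theorem quat_commutator_comm {N : ℕ} [NeZero N] :
    ∀ x ∈ commutator (QuaternionGroup N), ∀ y ∈ commutator (QuaternionGroup N), x * y = y * x := by
  let K : Subgroup (QuaternionGroup N) :=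
    { carrier := Set.range a
      one_mem' := ⟨0, rfl⟩
      mul_mem' := by rintro _ _ ⟨i, rfl⟩ ⟨j, rfl⟩; exact ⟨i + j, rfl⟩
      inv_mem' := by rintro _ ⟨i, rfl⟩; exact ⟨-i, rfl⟩ }
  have hle : commutator (QuaternionGroup N) ≤ K := by
    rw [commutator_def, Subgroup.commutator_le]
    intro x _ y _
    rw [commutatorElement_def]
    rcases x with i | i <;> rcases y with j | j <;> exact ⟨_, rfl⟩
  intro x hx y hy
  obtain ⟨i, rfl⟩ := hle hx
  obtain ⟨j, rfl⟩ := hle hy
  rw [a_mul_a, a_mul_a, add_comm]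

theorem quat_commutator_ne_bot {N : ℕ} [NeZero N] (hN : 2 ≤ N) : commutator (QuaternionGroup N) ≠ ⊥ := by
  intro h
  have h1 : ⁅(a 1 : QuaternionGroup N), xa 0⁆ ∈ commutator (QuaternionGroup N) :=
    Subgroup.commutator_mem_commutator (Subgroup.mem_top _) (Subgroup.mem_top _)
  rw [h, Subgroup.mem_bot, commutatorElement_eq_one_iff_mul_comm, a_mul_xa, xa_mul_a, xa.injEq] at h1
  have h2 : ((2 : ℕ) : ZMod (2 * N)) = 0 := by push_cast; linear_combination -h1
  rw [ZMod.natCast_eq_zero_iff] at h2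
  have := Nat.le_of_dvd two_pos h2
  omega

variable {F : Type*} [Field F] [Fintype F] [DecidableEq F] (hodd : Odd (Fintype.card F))
include hodd

local notation "SS" => Matrix.SpecialLinearGroup (Fin 2) F

theorem sl_facts (Q : Sylow 2 SS) :
    Sq (Q : Subgroup SS) ∧
      (∀ x ∈ commutator (Q : Subgroup SS), ∀ y ∈ commutator (Q : Subgroup SS), x * y = y * x) ∧
      commutator (Q : Subgroup SS) ≠ ⊥ := by
  obtain ⟨⟨k, hk, ⟨e⟩⟩, -⟩ := Classical.SLTwoSylow.two_sylow_SL hodd Q
  haveI : NeZero (2 ^ k) := ⟨by positivity⟩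
  have hev : Even (2 ^ k) := (Nat.even_pow' (by omega)).2 even_two
  have h2 : 2 ≤ 2 ^ k := Nat.le_self_pow (by omega) 2
  have hmap : (commutator (Q : Subgroup SS)).map e.toMonoidHom = commutator (QuaternionGroup (2 ^ k)) := by
    rw [commutator_def, Subgroup.map_commutator, Subgroup.map_top_of_surjective _ e.surjective, ← commutator_def]
  refine ⟨(quat_sq hev).of_surjective e.symm.toMonoidHom e.symm.surjective, fun x hx y hy => e.injective ?_,
    fun h => quat_commutator_ne_bot h2 (by rw [← hmap, h, Subgroup.map_bot])⟩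
  rw [map_mul, map_mul]
  exact quat_commutator_comm _ (hmap ▸ Subgroup.mem_map_of_mem _ hx) _ (hmap ▸ Subgroup.mem_map_of_mem _ hy)

variable {n : ℕ} (Q : Sylow 2 (Matrix.SpecialLinearGroup (Fin 2) F))

omit hodd in
/-- The wreathed Sylow subgroup of `SL (2, q)` inside the symplectic group. -/
def emb (Q : Subgroup (Matrix.SpecialLinearGroup (Fin 2) F)) :
    PW ↥Q (Fin n) →* Matrix.symplecticGroup (Fin n) F :=
  SympWreath.wHom.comp
    { toFun := fun x => ⟨fun i => (x.left i : SS), x.right⟩
      map_one' := rfl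
      map_mul' := fun _ _ => rfl }

omit hodd in
theorem emb_injective (Q : Subgroup (Matrix.SpecialLinearGroup (Fin 2) F)) :
    Function.Injective (emb (n := n) Q) := by
  refine SympWreath.wHom_injective.comp fun x y h => ?_
  refine SemidirectProduct.ext (funext fun i => Subtype.ext ?_) (congrArg SemidirectProduct.right h :)
  exact congrFun (congrArg SemidirectProduct.left h) i

/-- A Sylow 2-subgroup of the symplectic group is `Q` wreathed with a Sylow 2-subgroup of `Sₙ`. -/
theorem sylow_equiv (T : Sylow 2 (Equiv.Perm (Fin n))) (P : Sylow 2 (Matrix.symplecticGroup (Fin n) F)) :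
    Nonempty (overGrp (Q := (Q : Subgroup SS)) (T : Subgroup (Equiv.Perm (Fin n))) ≃*
      (P : Subgroup (Matrix.symplecticGroup (Fin n) F))) := by
  classical
  haveI : Fact (Nat.Prime 2) := ⟨Nat.prime_two⟩
  let f := (emb (n := n) (Q : Subgroup SS)).comp (overGrp (Q := (Q : Subgroup SS)) (T : Subgroup _)).subtype
  have hf : Function.Injective f := (emb_injective _).comp Subtype.val_injective
  have hcard : Nat.card f.range = 2 ^ (Nat.card (Matrix.symplecticGroup (Fin n) F)).factorization 2 := by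
    rw [← Nat.card_congr (MonoidHom.ofInjective hf).toEquiv, card_over, Q.card_eq_multiplicity,
      T.card_eq_multiplicity, ← SympWreath.factorization_card hodd, SympWreath.card_range, Nat.card_perm,
      Nat.card_fin, SympWreath.natCard_SL2, ← pow_mul, ← pow_add]
    congr 1
    have h1 : 1 < Fintype.card F := Fintype.one_lt_card
    have h2 : Fintype.card F ^ 2 - 1 ≠ 0 := by
      have := Nat.one_lt_pow (n := 2) (by omega) h1
      omega
    rw [Nat.factorization_mul (pow_ne_zero _ (mul_ne_zero (by omega) h2)) (Nat.factorial_ne_zero n),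
      Nat.factorization_pow, Finsupp.add_apply, Finsupp.smul_apply, smul_eq_mul, mul_comm]
  have e := (MonoidHom.ofInjective hf).trans ((MulEquiv.subgroupCongr (Sylow.coe_ofCard f.range hcard).symm).trans
    (Sylow.equiv (Sylow.ofCard f.range hcard) P))
  exact ⟨e⟩

theorem sq_sylow (P : Sylow 2 (Matrix.symplecticGroup (Fin n) F)) :
    Sq (P : Subgroup (Matrix.symplecticGroup (Fin n) F)) := by
  obtain ⟨Q⟩ : Nonempty (Sylow 2 SS) := inferInstance
  obtain ⟨T⟩ : Nonempty (Sylow 2 (Equiv.Perm (Fin n))) := inferInstance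
  obtain ⟨e⟩ := sylow_equiv hodd Q T P
  exact (sq_over (sl_facts hodd Q).1 _ (sq_perm_sylow T)).of_surjective e.toMonoidHom e.surjective

theorem derived_upper (P : Sylow 2 (Matrix.symplecticGroup (Fin n) F)) :
    derivedSeries (P : Subgroup (Matrix.symplecticGroup (Fin n) F)) (Nat.log 2 n + 2) = ⊥ := by
  haveI : Fact (Nat.Prime 2) := ⟨Nat.prime_two⟩
  obtain ⟨Q⟩ : Nonempty (Sylow 2 SS) := inferInstance
  obtain ⟨T⟩ : Nonempty (Sylow 2 (Equiv.Perm (Fin n))) := inferInstance
  obtain ⟨e⟩ := sylow_equiv hodd Q T P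
  rw [← map_derivedSeries_eq (f := e.toMonoidHom) e.surjective, derivedSeries_over (sl_facts hodd Q).2.1 _
    (Grp.DerivedLength.sylow_perm 2 n T).1, Subgroup.map_bot]

theorem derived_lower (hn : 1 ≤ n) (P : Sylow 2 (Matrix.symplecticGroup (Fin n) F)) :
    derivedSeries (P : Subgroup (Matrix.symplecticGroup (Fin n) F)) (Nat.log 2 n + 1) ≠ ⊥ := by
  haveI : Fact (Nat.Prime 2) := ⟨Nat.prime_two⟩
  obtain ⟨Q⟩ : Nonempty (Sylow 2 SS) := inferInstance
  obtain ⟨D, hD1, hD2, hD, hne, h, hh⟩ := exists_long (Q := (Q : Subgroup SS)) Q.isPGroup' (sl_facts hodd Q).2.2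
    (fun {D C} _ _ _ i d hd => by
      obtain ⟨x, hx, -, hxl⟩ := Grp.DerivedLength.wreath_project (D := D) (Q := C) i d hd
      exact ⟨x, hx, hxl⟩) (Nat.log 2 n)
  obtain ⟨r, hr⟩ : ∃ r, 2 ^ Nat.log 2 n + r = n := ⟨n - 2 ^ Nat.log 2 n, by
    have := Nat.pow_log_le_self 2 (show n ≠ 0 by omega); omega⟩
  let e : Fin (2 ^ Nat.log 2 n) ⊕ Fin r ≃ Fin n := finSumFinEquiv.trans (finCongr hr)
  let f : D →* Matrix.symplecticGroup (Fin n) F :=
    (emb (Q : Subgroup SS)).comp ((relabel e).comp ((extendSum (Fin r)).comp h))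
  have hf : Function.Injective f :=
    (emb_injective _).comp ((relabel_injective e).comp ((extendSum_injective _).comp hh))
  obtain ⟨S, hS⟩ := (hD.of_surjective f.rangeRestrict f.rangeRestrict_surjective).exists_le_sylow
  let g : D →* (P : Subgroup (Matrix.symplecticGroup (Fin n) F)) :=
    (S.equiv P).toMonoidHom.comp (f.codRestrict (S : Subgroup _) fun x => hS ⟨x, rfl⟩)
  have hg : Function.Injective g := (S.equiv P).injective.comp fun a b e' => hf (congrArg Subtype.val e')
  intro hb
  exact hne ((Subgroup.map_eq_bot_iff_of_injective _ hg).1 (le_bot_iff.1 (hb ▸ map_derivedSeries_le_derivedSeries g _)))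

end Cfsg.Agent.Fus.SympSylowTwo
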