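import Cfsg.Agent.Lib.Fus.GTwoCentralizer
import Cfsg.Agent.Lib.Fus.InvariantIff
import Cfsg.Agent.Lib.Classical.QuadClass
import Cfsg.Agent.Lib.Fus.SympSylowTwo

/-!
Sylow 2-subgroups of `G₂(q)`, `q` odd: they lie in `SO₄⁺(q)` and have elementary abelian quotient by the derived
subgroup.
-/

set_option autoImplicit false
set_option linter.unusedSectionVars false
set_option linter.style.haveILetI false
set_option maxHeartbeats 1000000

namespace Cfsg.Agent.Fus.GTwoSylow

open Matrix Cfsg.Agent.Fus.PermWreath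

variable {F : Type*} [Field F]

local notation "MM" => Matrix (Fin 2) (Fin 2) F
local notation "SS" => Matrix.SpecialLinearGroup (Fin 2) F

/-- The two copies of `SL₂`. -/
noncomputable def slPair : SS × SS →* pairs F :=
  (MonoidHom.prodMap Matrix.SpecialLinearGroup.toGL Matrix.SpecialLinearGroup.toGL).codRestrict (pairs F) fun x =>
    Units.ext (by
      show (x.1 : MM).det = (x.2 : MM).det
      rw [x.1.2, x.2.2])

theorem slPair_coe (x : SS × SS) :
    (slPair x : GL (Fin 2) F × GL (Fin 2) F) =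
      (Matrix.SpecialLinearGroup.toGL x.1, Matrix.SpecialLinearGroup.toGL x.2) := rfl

theorem slPair_range : (slPair (F := F)).range =
    ((Matrix.GeneralLinearGroup.det.comp (MonoidHom.fst _ _)).comp (pairs F).subtype).ker := by
  ext p
  constructor
  · rintro ⟨x, rfl⟩
    exact Units.ext (show (x.1 : MM).det = 1 from x.1.2)
  · intro hp
    have h1 : (p.1.1 : MM).det = 1 := congrArg Units.val (hp : Matrix.GeneralLinearGroup.det p.1.1 = 1)
    have h2 : (p.1.2 : MM).det = 1 := by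
      rw [← h1]; exact (congrArg Units.val p.2).symm
    exact ⟨(⟨_, h1⟩, ⟨_, h2⟩), Subtype.ext (Prod.ext (Units.ext rfl) (Units.ext rfl))⟩

theorem comm_scalar {A B C : MM} (hA : A * B = B * A) (hB : A * C = C * A) (hBC : B * C ≠ C * B) :
    ∃ c : F, A = Matrix.scalar (Fin 2) c := by
  refine ⟨A 0 0, ?_⟩
  have a1 := congrFun₂ hA 0 0
  have a2 := congrFun₂ hA 0 1
  have a3 := congrFun₂ hA 1 0
  have b1 := congrFun₂ hB 0 0
  have b2 := congrFun₂ hB 0 1
  have b3 := congrFun₂ hB 1 0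
  simp [Matrix.mul_apply, Fin.sum_univ_two] at a1 a2 a3 b1 b2 b3
  by_contra hne
  refine hBC ?_
  -- commutation makes the traceless parts proportional
  have key : A 0 1 ≠ 0 ∨ A 1 0 ≠ 0 ∨ A 0 0 ≠ A 1 1 := by
    by_contra hc
    push Not at hc
    refine hne ?_
    ext i j
    fin_cases i <;> fin_cases j <;> simp [hc.1, hc.2.1, hc.2.2]
  ext i j
  rcases key with h | h | h
  · refine mul_left_cancel₀ (pow_ne_zero 2 h) ?_
    fin_cases i <;> fin_cases j <;> simp [Matrix.mul_apply, Fin.sum_univ_two, -mul_eq_mul_left_iff]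
    · linear_combination A 0 1 * (B 0 1 * b1 - C 0 1 * a1)
    · linear_combination A 0 1 * (B 0 1 * b2 - C 0 1 * a2)
    · linear_combination -(A 0 0 - A 1 1) * (B 0 1 * b1 - C 0 1 * a1) + A 0 1 * (C 1 0 * a2 - B 1 0 * b2)
    · linear_combination -(A 0 1 * (B 0 1 * b1 - C 0 1 * a1))
  · refine mul_left_cancel₀ (pow_ne_zero 2 h) ?_
    fin_cases i <;> fin_cases j <;> simp [Matrix.mul_apply, Fin.sum_univ_two, -mul_eq_mul_left_iff]
    · linear_combination A 1 0 * (B 1 0 * b1 - C 1 0 * a1)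
    · linear_combination -(A 0 0 - A 1 1) * (B 1 0 * b1 - C 1 0 * a1) + A 1 0 * (C 0 1 * a3 - B 0 1 * b3)
    · linear_combination A 1 0 * (B 1 0 * b3 - C 1 0 * a3)
    · linear_combination -(A 1 0 * (B 1 0 * b1 - C 1 0 * a1))
  · have h' : A 0 0 - A 1 1 ≠ 0 := sub_ne_zero.2 h
    refine mul_left_cancel₀ (pow_ne_zero 2 h') ?_
    fin_cases i <;> fin_cases j <;> simp [Matrix.mul_apply, Fin.sum_univ_two, -mul_eq_mul_left_iff]
    · linear_combination -A 0 1 * ((B 0 0 - B 1 1) * b3 - (C 0 0 - C 1 1) * a3) +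
        (A 0 0 - A 1 1) * (C 1 0 * a2 - B 1 0 * b2)
    · linear_combination (A 0 0 - A 1 1) * ((B 0 0 - B 1 1) * b2 - (C 0 0 - C 1 1) * a2)
    · linear_combination (A 0 0 - A 1 1) * ((B 0 0 - B 1 1) * b3 - (C 0 0 - C 1 1) * a3)
    · linear_combination A 0 1 * ((B 0 0 - B 1 1) * b3 - (C 0 0 - C 1 1) * a3) -
        (A 0 0 - A 1 1) * (C 1 0 * a2 - B 1 0 * b2)

variable [Fintype F]

theorem two_ne_zero' (hF : Odd (Fintype.card F)) : (2 : F) ≠ 0 := by
  intro h
  haveI : CharP F 2 := CharTwo.of_one_ne_zero_of_two_eq_zero one_ne_zero h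
  have h1 := FiniteField.even_card_of_char_two (F := F) (ringChar.eq F 2)
  rw [Nat.odd_iff] at hF
  omega

theorem sq_prod {X : Type*} [Group X] (hX : Sq X) : Sq (X × X) := by
  intro x
  have e : x = MonoidHom.inl X X x.1 * MonoidHom.inr X X x.2 := by simp
  rw [e, (MonoidHom.commute_inl_inr x.1 x.2).mul_pow 2]
  exact mul_mem (Sq.map_mem hX (MonoidHom.inl X X) x.1) (Sq.map_mem hX (MonoidHom.inr X X) x.2)

theorem sq_of_sylow_prod (hF : Odd (Fintype.card F)) (Q : Sylow 2 SS) :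
    ∃ W : Sylow 2 (SS × SS), (W : Subgroup (SS × SS)) = (Q : Subgroup SS).prod (Q : Subgroup SS) ∧
      Sq (W : Subgroup (SS × SS)) := by
  classical
  haveI : Fact (Nat.Prime 2) := ⟨Nat.prime_two⟩
  have hc : Nat.card ((Q : Subgroup SS).prod (Q : Subgroup SS)) =
      2 ^ (Nat.card (SS × SS)).factorization 2 := by
    rw [Nat.card_congr ((Q : Subgroup SS).prodEquiv (Q : Subgroup SS)).toEquiv, Nat.card_prod, Nat.card_prod,
      Nat.factorization_mul Nat.card_pos.ne' Nat.card_pos.ne', Finsupp.add_apply, pow_add, Q.card_eq_multiplicity]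
  refine ⟨Sylow.ofCard _ hc, Sylow.coe_ofCard _ _, ?_⟩
  rw [Sylow.coe_ofCard]
  exact (sq_prod (SympSylowTwo.sl_facts hF Q).1).of_surjective
    ((Q : Subgroup SS).prodEquiv (Q : Subgroup SS)).symm.toMonoidHom
    ((Q : Subgroup SS).prodEquiv (Q : Subgroup SS)).symm.surjective

/-- An involution of the image lying outside the two copies of `SL₂`. -/
theorem exists_outer (hF : Odd (Fintype.card F)) :
    ∃ x : pairs F, phi x * phi x = 1 ∧ ¬ IsSquare ((x.1.1 : MM).det) := by
  obtain ⟨ε, hε⟩ := FiniteField.exists_nonsquare (F := F) (fun hc => two_ne_zero' hF (by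
    haveI := ringChar.of_eq hc
    exact CharTwo.two_eq_zero))
  have hε0 : ε ≠ 0 := fun h => hε (h ▸ IsSquare.zero)
  let g : GL (Fin 2) F := Matrix.GeneralLinearGroup.mkOfDetNeZero !![0, -ε; 1, 0] (by simp [hε0])
  refine ⟨⟨(g, g), rfl⟩, ?_, ?_⟩
  · rw [← map_mul, ← MonoidHom.mem_ker, phi_ker]
    refine ⟨Units.mk0 (-ε) (neg_ne_zero.2 hε0), Subtype.ext (Prod.ext ?_ ?_)⟩ <;> refine Units.ext ?_ <;>
    · show Matrix.scalar (Fin 2) (-ε) = !![0, -ε; 1, 0] * !![0, -ε; 1, 0]
      ext i j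
      fin_cases i <;> fin_cases j <;> simp
  · show ¬ IsSquare (!![0, -ε; 1, 0] : MM).det
    simpa using hε

/-- An element of the image centralising the two quaternion groups is central there. -/
theorem centralizer_quat (hF : Odd (Fintype.card F)) (Q : Sylow 2 SS) (p : pairs F)
    (h : ∀ x ∈ (Q : Subgroup SS).prod (Q : Subgroup SS), Commute (phi p) (phi (slPair x))) :
    phi p = 1 ∨ phi p = invol F := by
  classical
  haveI : Fact (Nat.Prime 2) := ⟨Nat.prime_two⟩
  obtain ⟨-, -, hQ⟩ := SympSylowTwo.sl_facts hF Q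
  obtain ⟨b, hb, c, hc, hbc⟩ : ∃ b ∈ (Q : Subgroup SS), ∃ c ∈ (Q : Subgroup SS), b * c ≠ c * b := by
    by_contra hcon
    push Not at hcon
    refine hQ (Subgroup.commutator_eq_bot_iff_le_centralizer.2 fun z _ y _ => Subtype.ext ?_)
    exact hcon y.1 y.2 z.1 z.2
  have hbc' : ((b : SS) : MM) * (c : MM) ≠ (c : MM) * (b : MM) := fun e => hbc (Subtype.ext e)
  have scalar_ker : ∀ x : SS × SS, x ∈ (Q : Subgroup SS).prod (Q : Subgroup SS) →
      ∃ l : Fˣ, (p * slPair x) = scal l * (slPair x * p) := fun x hx => by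
    have h1 : p * slPair x * (slPair x * p)⁻¹ ∈ (phi (F := F)).ker := by
      rw [MonoidHom.mem_ker, map_mul, map_inv, map_mul, map_mul, (h x hx).eq, mul_inv_cancel]
    rw [phi_ker] at h1
    obtain ⟨l, hl⟩ := h1
    exact ⟨l, by rw [hl, inv_mul_cancel_right]⟩
  have hsc : ∀ (l : Fˣ), ((scal l).1.1 : MM) = Matrix.scalar (Fin 2) (l : F) ∧
      ((scal l).1.2 : MM) = Matrix.scalar (Fin 2) (l : F) := fun l => ⟨rfl, rfl⟩
  have hfst : ∀ y ∈ (Q : Subgroup SS), (p.1.1 : MM) * (y : MM) = (y : MM) * (p.1.1 : MM) := by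
    intro y hy
    obtain ⟨l, hl⟩ := scalar_ker (y, 1) (Subgroup.mem_prod.2 ⟨hy, one_mem _⟩)
    have e2 : (p.1.2 : MM) * 1 = Matrix.scalar (Fin 2) (l : F) * (1 * (p.1.2 : MM)) :=
      congrArg (fun q : pairs F => (q.1.2 : MM)) hl
    have e1 : (p.1.1 : MM) * (y : MM) = Matrix.scalar (Fin 2) (l : F) * ((y : MM) * (p.1.1 : MM)) :=
      congrArg (fun q : pairs F => (q.1.1 : MM)) hl
    rw [Matrix.mul_one, Matrix.one_mul] at e2
    have hl1 : Matrix.scalar (Fin 2) (l : F) = 1 := by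
      calc Matrix.scalar (Fin 2) (l : F) =
            Matrix.scalar (Fin 2) (l : F) * (p.1.2 : MM) * ((p.1.2⁻¹ : GL (Fin 2) F) : MM) := by
              rw [Matrix.mul_assoc, Units.mul_inv, Matrix.mul_one]
        _ = 1 := by rw [← e2, Units.mul_inv]
    rw [e1, hl1, Matrix.one_mul]
  have hsnd : ∀ y ∈ (Q : Subgroup SS), (p.1.2 : MM) * (y : MM) = (y : MM) * (p.1.2 : MM) := by
    intro y hy
    obtain ⟨l, hl⟩ := scalar_ker (1, y) (Subgroup.mem_prod.2 ⟨one_mem _, hy⟩)
    have e2 : (p.1.1 : MM) * 1 = Matrix.scalar (Fin 2) (l : F) * (1 * (p.1.1 : MM)) :=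
      congrArg (fun q : pairs F => (q.1.1 : MM)) hl
    have e1 : (p.1.2 : MM) * (y : MM) = Matrix.scalar (Fin 2) (l : F) * ((y : MM) * (p.1.2 : MM)) :=
      congrArg (fun q : pairs F => (q.1.2 : MM)) hl
    rw [Matrix.mul_one, Matrix.one_mul] at e2
    have hl1 : Matrix.scalar (Fin 2) (l : F) = 1 := by
      calc Matrix.scalar (Fin 2) (l : F) =
            Matrix.scalar (Fin 2) (l : F) * (p.1.1 : MM) * ((p.1.1⁻¹ : GL (Fin 2) F) : MM) := by
              rw [Matrix.mul_assoc, Units.mul_inv, Matrix.mul_one]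
        _ = 1 := by rw [← e2, Units.mul_inv]
    rw [e1, hl1, Matrix.one_mul]
  obtain ⟨l, hl⟩ := comm_scalar (hfst b hb) (hfst c hc) hbc'
  obtain ⟨m, hm⟩ := comm_scalar (hsnd b hb) (hsnd c hc) hbc'
  have hl0 : l ≠ 0 := fun h0 => by
    have := Units.mul_inv p.1.1
    rw [hl, h0, map_zero, Matrix.zero_mul] at this
    exact zero_ne_one this
  have hdet : l * l = m * m := by
    have hd : (p.1.1 : MM).det = (p.1.2 : MM).det := congrArg Units.val p.2
    rw [hl, hm] at hd
    simpa [Matrix.scalar_apply, Matrix.det_diagonal, sq] using hd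
  rcases mul_self_eq_mul_self_iff.1 hdet.symm with e | e
  · left
    rw [← MonoidHom.mem_ker, phi_ker]
    exact ⟨Units.mk0 l hl0, Subtype.ext (Prod.ext (Units.ext hl.symm)
      (Units.ext (show Matrix.scalar (Fin 2) l = (p.1.2 : MM) by rw [hm, e])))⟩
  · right
    refine (MonoidHom.eq_iff phi).2 ?_
    rw [phi_ker]
    exact ⟨Units.mk0 l hl0, Subtype.ext (Prod.ext
      (Units.ext (show Matrix.scalar (Fin 2) l = ((1 : GL (Fin 2) F)⁻¹ : GL (Fin 2) F) * (p.1.1 : MM) by
        rw [inv_one, Units.val_one, Matrix.one_mul, hl]))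
      (Units.ext (show Matrix.scalar (Fin 2) l = ((-1 : GL (Fin 2) F)⁻¹ : GL (Fin 2) F) * (p.1.2 : MM) by
        rw [show (-1 : GL (Fin 2) F)⁻¹ = -1 from inv_eq_of_mul_eq_one_right (by simp), hm, e]
        simp)))⟩

/-- The main statement. -/
theorem sq_sylow (hF : Odd (Fintype.card F)) (P : Sylow 2 (Lie.G2 F)) : Sq (P : Subgroup (Lie.G2 F)) := by
  classical
  haveI : Fact (Nat.Prime 2) := ⟨Nat.prime_two⟩
  have h2 := two_ne_zero' hF
  haveI : Finite (Lie.G2 F) := inferInstance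
  set C := (phi (F := F)).range with hC
  obtain ⟨Q⟩ : Nonempty (Sylow 2 SS) := inferInstance
  obtain ⟨W₀, hW₀, hW₀sq⟩ := sq_of_sylow_prod hF Q
  obtain ⟨x₀, hx₀, hx₀d⟩ := exists_outer hF
  set h₀ : C := ⟨phi x₀, x₀, rfl⟩ with hh₀
  let f₁ : SS × SS →* C := (phi (F := F)).rangeRestrict.comp slPair
  haveI hN : f₁.range.Normal := by
    rw [MonoidHom.range_comp]
    refine Subgroup.Normal.map ?_ _ (phi (F := F)).rangeRestrict_surjective
    rw [slPair_range]; infer_instance
  -- a Sylow subgroup of the centraliser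
  have hzp : IsPGroup 2 (Subgroup.zpowers h₀) := by
    intro y
    refine ⟨1, Subtype.ext ?_⟩
    obtain ⟨k, hk⟩ := Subgroup.mem_zpowers_iff.1 y.2
    show (y : C) ^ 2 ^ 1 = 1
    have hsq : h₀ * h₀ = 1 := Subtype.ext hx₀
    rw [← hk, pow_one, ← zpow_natCast (h₀ ^ k), ← _root_.zpow_mul, mul_comm, _root_.zpow_mul,
      show h₀ ^ ((2 : ℕ) : ℤ) = 1 by rw [zpow_natCast, pow_two]; exact hsq, _root_.one_zpow]
  obtain ⟨P₀, hP₀⟩ := hzp.exists_le_sylow
  set N := f₁.range
  set P₁ := (P₀ : Subgroup C) ⊓ N with hP₁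
  -- the trace on the two copies of `SL₂`
  obtain ⟨n, hn, hP₁eq⟩ : ∃ n ∈ N, P₁ = ((W₀ : Subgroup (SS × SS)).map f₁).map (MulAut.conj n).toMonoidHom := by
    have hS := isSylowOf_inf_normal P₀ N
    have hS₀ : IsSylowOf 2 ((W₀ : Subgroup (SS × SS)).map f₁) N := by
      refine ⟨Subgroup.map_le_range _ _, W₀.mapSurjective f₁.rangeRestrict_surjective, ?_⟩
      rw [Sylow.coe_mapSurjective]
      refine Subgroup.map_injective N.subtype_injective ?_
      rw [Subgroup.map_map, Subgroup.subgroupOf_map_subtype, inf_eq_left.2 (Subgroup.map_le_range _ _)]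
      rfl
    obtain ⟨hle, T, hT'⟩ := hS
    obtain ⟨hle₀, T₀, hT₀'⟩ := hS₀
    have hT : (T : Subgroup N).map N.subtype = (P₀ : Subgroup C) ⊓ N := by
      rw [hT', Subgroup.subgroupOf_map_subtype, inf_eq_left.2 hle]
    have hT₀ : (T₀ : Subgroup N).map N.subtype = (W₀ : Subgroup (SS × SS)).map f₁ := by
      rw [hT₀', Subgroup.subgroupOf_map_subtype, inf_eq_left.2 hle₀]
    obtain ⟨n, rfl⟩ := MulAction.exists_smul_eq N T₀ T
    refine ⟨n.1, n.2, ?_⟩
    rw [← hT₀, hP₁, ← hT, show ((n • T₀ : Sylow 2 N) : Subgroup N) = (T₀ : Subgroup N).map (MulAut.conj n).toMonoidHom from rfl,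
      Subgroup.map_map, Subgroup.map_map]
    congr 1
  have hP₁sq : Sq P₁ := by
    rw [hP₁eq]
    let g : (W₀ : Subgroup (SS × SS)) →* ((W₀ : Subgroup (SS × SS)).map f₁).map (MulAut.conj n).toMonoidHom :=
      (MonoidHom.subgroupMap (MulAut.conj n).toMonoidHom _).comp (MonoidHom.subgroupMap f₁ _)
    exact hW₀sq.of_surjective g
      ((MonoidHom.subgroupMap_surjective _ _).comp (MonoidHom.subgroupMap_surjective _ _))
  have hout : ∀ y : C, y ∈ N ∨ y * h₀ ∈ N := by
    intro y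
    obtain ⟨p, hp⟩ := y.2
    have key : ∀ q : pairs F, IsSquare ((q.1.1 : MM).det) → ⟨phi q, q, rfl⟩ ∈ N := by
      rintro q ⟨r, hr⟩
      have hr0 : r ≠ 0 := fun h => by
        have := (Matrix.GeneralLinearGroup.det q.1.1).ne_zero
        exact this (by rw [Matrix.GeneralLinearGroup.val_det_apply, hr, h, zero_mul])
      have : (scal (Units.mk0 r hr0))⁻¹ * q ∈ (slPair (F := F)).range := by
        rw [slPair_range, MonoidHom.mem_ker, map_mul, map_inv, inv_mul_eq_one]
        refine Units.ext ?_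
        show ((scal (Units.mk0 r hr0)).1.1 : MM).det = (q.1.1 : MM).det
        rw [hr]
        show (Matrix.scalar (Fin 2) r).det = _
        simp [Matrix.scalar_apply, Matrix.det_diagonal, sq]
      obtain ⟨z, hz⟩ := this
      refine ⟨z, Subtype.ext ?_⟩
      show phi (slPair z) = phi q
      rw [hz, map_mul, map_inv, show phi (scal (Units.mk0 r hr0)) = 1 from
        MonoidHom.mem_ker.1 (by rw [phi_ker]; exact ⟨_, rfl⟩), inv_one, one_mul]
    by_cases hs : IsSquare ((p.1.1 : MM).det)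
    · left
      rw [show y = ⟨phi p, p, rfl⟩ from Subtype.ext hp.symm]
      exact key p hs
    · right
      rw [show y * h₀ = ⟨phi (p * x₀), p * x₀, rfl⟩ from Subtype.ext (by
        show y.1 * phi x₀ = phi (p * x₀); rw [map_mul, hp])]
      refine key _ ?_
      rw [Subgroup.coe_mul, Prod.fst_mul, Units.val_mul, Matrix.det_mul]
      exact Classical.isSquare_of_two_nonsquares h2 hs hx₀d
  have hh₀P : h₀ ∈ (P₀ : Subgroup C) := hP₀ (Subgroup.mem_zpowers _)
  have hP₀sq : Sq (P₀ : Subgroup C) := by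
    refine Sq.of_closure rfl ({⟨h₀, hh₀P⟩} ∪ {y | (y : C) ∈ N}) (fun y _ => ?_) ?_
    · rcases hout y.1 with hy | hy
      · exact Subgroup.subset_closure (Or.inr hy)
      · rw [show y = (y * ⟨h₀, hh₀P⟩) * (⟨h₀, hh₀P⟩ : (P₀ : Subgroup C))⁻¹ from (mul_inv_cancel_right _ _).symm]
        exact mul_mem (Subgroup.subset_closure (Or.inr hy)) (inv_mem (Subgroup.subset_closure (Or.inl rfl)))
    · rintro y (rfl | hy)
      · rw [show (⟨h₀, hh₀P⟩ : (P₀ : Subgroup C)) ^ 2 = 1 from Subtype.ext (Subtype.ext (by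
          simp [pow_two, hh₀, hx₀]))]
        exact one_mem _
      · exact Sq.map_mem hP₁sq (Subgroup.inclusion (inf_le_left : P₁ ≤ (P₀ : Subgroup C)))
          ⟨y.1, y.2, hy⟩
  -- the central involution
  set z : C := ⟨invol F, _, rfl⟩ with hz
  have hzcomm : ∀ q : pairs F, Commute (phi q) (invol F) := fun q => by
    refine Commute.map ?_ phi
    refine Subtype.ext (Prod.ext ((mul_one _).trans (one_mul _).symm) (Units.ext ?_))
    simp
  have hzne : z ≠ 1 := fun h => by
    have := congrArg (fun c : C => app c.1 (bld 0 1)) h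
    simp only [hz, app_invol, OneMemClass.coe_one, app_one] at this
    have := congrFun₂ (congrArg wOf this) 0 0
    simp [wOf_bld] at this
    exact h2 (by linear_combination -this)
  have hcent : ∀ y : C, (∀ u ∈ P₁, Commute y u) → y = 1 ∨ y = z := by
    intro y hy
    obtain ⟨p, hp⟩ := ((MulAut.conj n).symm y).2
    have hyn : ∀ x ∈ (Q : Subgroup SS).prod (Q : Subgroup SS), Commute (phi p) (phi (slPair x)) := fun x hx => by
      have hmem : MulAut.conj n (f₁ x) ∈ P₁ := by
        rw [hP₁eq]; exact ⟨f₁ x, ⟨x, hW₀ ▸ hx, rfl⟩, rfl⟩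
      have := (hy _ hmem).map (MulAut.conj n).symm.toMonoidHom
      simp only [MulEquiv.toMonoidHom_eq_coe, MonoidHom.coe_coe, MulEquiv.symm_apply_apply] at this
      have := this.map C.subtype
      rw [hp]
      exact this
    have hzn : MulAut.conj n z = z := by
      obtain ⟨q, hq⟩ := n.2
      refine Subtype.ext ?_
      show n.1 * invol F * n.1⁻¹ = invol F
      rw [← hq, (hzcomm q).eq, mul_inv_cancel_right]
    have e : (MulAut.conj n).symm y = 1 ∨ (MulAut.conj n).symm y = z := by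
      rcases centralizer_quat hF Q p hyn with h | h
      · exact Or.inl (Subtype.ext (hp.symm.trans h))
      · exact Or.inr (Subtype.ext (hp.symm.trans h))
    rcases e with e | e <;> rw [MulEquiv.symm_apply_eq] at e
    · exact Or.inl (e.trans (map_one _))
    · exact Or.inr (e.trans hzn)
  have hzP : z ∈ (P₀ : Subgroup C) := by
    have hpg : IsPGroup 2 (Subgroup.zpowers z) := by
      refine IsPGroup.of_card (n := 1) ?_
      rw [Nat.card_zpowers, pow_one]
      refine orderOf_eq_prime (Subtype.ext ?_) hzne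
      show invol F ^ 2 = 1
      refine app_ext fun x => ?_
      rw [pow_two, app_mul, app_invol, app_invol, mOf_bld, wOf_bld, neg_neg, app_one, bld_parts]
    haveI : (Subgroup.zpowers z).Normal := by
      refine ⟨fun a ha g => ?_⟩
      obtain ⟨k, rfl⟩ := Subgroup.mem_zpowers_iff.1 ha
      have hc : Commute g z := by
        obtain ⟨q, hq⟩ := g.2
        exact Subtype.ext (by show g.1 * invol F = invol F * g.1; rw [← hq]; exact hzcomm q)
      rw [(hc.zpow_right k).eq, mul_inv_cancel_right]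
      exact ha
    exact hpg.le_sylow_of_normal P₀ (Subgroup.mem_zpowers z)
  -- it is a Sylow subgroup of `G₂`
  set PG := (P₀ : Subgroup C).map C.subtype with hPG
  obtain ⟨S, hS⟩ := (P₀.isPGroup'.map C.subtype).exists_le_sylow
  have hSeq : (S : Subgroup (Lie.G2 F)) = PG := by
    refine le_antisymm ?_ hS
    by_contra hle
    haveI : Group.IsNilpotent (S : Subgroup (Lie.G2 F)) := S.isPGroup'.isNilpotent
    have hlt : PG.subgroupOf (S : Subgroup (Lie.G2 F)) < ⊤ := lt_top_iff_ne_top.2 fun h => hle (Subgroup.subgroupOf_eq_top.1 h)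
    obtain ⟨y, hyN, hy⟩ := SetLike.exists_of_lt (Group.normalizerCondition_of_isNilpotent _ hlt)
    -- `y` fixes the involution
    have hyc : Commute (y : Lie.G2 F) (invol F) := by
      have hzS : invol F ∈ (S : Subgroup (Lie.G2 F)) := hS ⟨z, hzP, rfl⟩
      have hn := Subgroup.mem_normalizer_iff.1 hyN
      have hzmem : (y : Lie.G2 F) * invol F * (y : Lie.G2 F)⁻¹ ∈ PG :=
        ((hn ⟨invol F, hzS⟩).1 (by exact ⟨z, hzP, rfl⟩) :)
      obtain ⟨w, hw, hwy⟩ := hzmem
      have hwc : ∀ u ∈ P₁, Commute w u := by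
        intro u hu
        have hu1 : (y : Lie.G2 F)⁻¹ * u.1 * (y : Lie.G2 F) ∈ PG := by
          have huS : u.1 ∈ (S : Subgroup (Lie.G2 F)) := hS ⟨u, hu.1, rfl⟩
          have h3 := (hn (y⁻¹ * ⟨u.1, huS⟩ * y)).2 (by
            rw [show y * (y⁻¹ * ⟨u.1, huS⟩ * y) * y⁻¹ = (⟨u.1, huS⟩ : (S : Subgroup (Lie.G2 F))) by group]
            exact ⟨u, hu.1, rfl⟩)
          exact (h3 :)
        obtain ⟨v, -, hv⟩ := hu1
        refine Subtype.ext ?_
        obtain ⟨q, hq⟩ := v.2
        have hcz : Commute (invol F) ((y : Lie.G2 F)⁻¹ * u.1 * (y : Lie.G2 F)) := by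
          rw [← hv]; show Commute (invol F) v.1; rw [← hq]; exact (hzcomm q).symm
        have := hcz.map (MulAut.conj (y : Lie.G2 F)).toMonoidHom
        simp [MulAut.conj_apply, mul_assoc] at this
        show w.1 * u.1 = u.1 * w.1
        rw [show w.1 = (y : Lie.G2 F) * invol F * (y : Lie.G2 F)⁻¹ from hwy]
        simpa [mul_assoc] using this.eq
      rcases hcent w hwc with e | e
      · exfalso
        rw [e] at hwy
        exact hzne (Subtype.ext (conj_eq_one_iff.1 hwy.symm))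
      · rw [e] at hwy
        exact eq_mul_inv_iff_mul_eq.1 hwy |>.symm
    have hyC : (y : Lie.G2 F) ∈ C := mem_range_of_commute h2 hyc
    refine hy ?_
    have hmax : (S : Subgroup (Lie.G2 F)).subgroupOf C = (P₀ : Subgroup C) := by
      refine P₀.is_maximal' S.isPGroup'.comap_subtype fun u hu => ?_
      exact hS ⟨u, hu, rfl⟩
    exact ⟨⟨_, hyC⟩, hmax.le y.2, rfl⟩
  have hSsq : Sq (S : Subgroup (Lie.G2 F)) := by
    rw [hSeq]
    exact hP₀sq.of_surjective (C.subtype.subgroupMap (P₀ : Subgroup C)) (MonoidHom.subgroupMap_surjective _ _)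
  exact hSsq.of_surjective (Sylow.equiv S P).toMonoidHom (Sylow.equiv S P).surjective

end Cfsg.Agent.Fus.GTwoSylow
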