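import Cfsg.Agent.Lib.Fus.GenExtraspecialPlane
import Cfsg.Agent.Lib.Grp.PGroupSmall
import Cfsg.Agent.Lib.Transfer.MaxClass

/-!
A strongly closed group with derived and Frattini subgroup of order `p` is normal unless it splits
as a dihedral group of order `8` (`p = 2`), or an extraspecial group of order `p ^ 3` and exponent
`p` (`p` odd), times an elementary abelian group.
-/

set_option autoImplicit false
set_option linter.style.haveILetI false
set_option linter.unusedSectionVars false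

open scoped Classical commutatorElement

namespace Cfsg.Agent.Fus

open Subgroup FusionSystem

universe u

/-- A type with `n` elements and no operations. -/
def Carrier (n : ℕ) : Type := Fin n

/-- Normal form data for a group of order `p ^ 3`. -/
structure HeisData {K : Type*} [Group K] (p : ℕ) (z g v : K) : Prop where
  ne_one : z ≠ 1
  pow_eq : z ^ p = 1
  central : ∀ a : K, Commute z a
  comm : g * v * g⁻¹ = z * v
  v_pow : v ^ p = 1
  g_pow : g ^ p ∈ Subgroup.zpowers z
  gen : ∀ a : K, ∃ i j k : ℕ, a = g ^ i * v ^ j * z ^ k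

section HeisData

variable {K : Type*} [Group K] {p : ℕ} [hp : Fact p.Prime] {z g v : K} (h : HeisData p z g v)
include h

theorem HeisData.orderOf_eq : orderOf z = p := orderOf_eq_prime h.pow_eq h.ne_one

theorem HeisData.dvd_of_pow_eq_one {n : ℕ} (e : z ^ n = 1) : p ∣ n := by
  rw [← h.orderOf_eq]; exact orderOf_dvd_of_pow_eq_one e

omit hp in
theorem HeisData.conj_v (i : ℕ) : g ^ i * v * (g ^ i)⁻¹ = z ^ i * v := by
  induction i with
  | zero => simp
  | succ i ih =>
    calc g ^ (i + 1) * v * (g ^ (i + 1))⁻¹ = g * (g ^ i * v * (g ^ i)⁻¹) * g⁻¹ := by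
          rw [pow_succ']; group
      _ = z ^ i * (g * v * g⁻¹) := by
          rw [ih, ← mul_assoc, ← ((h.central g).pow_left i).eq]; group
      _ = z ^ (i + 1) * v := by rw [h.comm, ← mul_assoc, ← pow_succ]

omit hp in
theorem HeisData.conj_word (i j k : ℕ) :
    (g ^ i * v ^ j * z ^ k) * v * (g ^ i * v ^ j * z ^ k)⁻¹ = z ^ i * v := by
  have e : v ^ j * z ^ k * v * (v ^ j * z ^ k)⁻¹ = v := by
    have hc : Commute (v ^ j * z ^ k) v :=
      ((Commute.refl v).pow_left j).mul_left ((h.central v).pow_left k)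
    rw [hc.eq, mul_inv_cancel_right]
  calc g ^ i * v ^ j * z ^ k * v * (g ^ i * v ^ j * z ^ k)⁻¹
      = g ^ i * (v ^ j * z ^ k * v * (v ^ j * z ^ k)⁻¹) * (g ^ i)⁻¹ := by group
    _ = z ^ i * v := by rw [e, h.conj_v]

omit hp in
theorem HeisData.conj_g (j k : ℕ) :
    g * (v ^ j * z ^ k) * g⁻¹ = z ^ j * (v ^ j * z ^ k) := by
  calc g * (v ^ j * z ^ k) * g⁻¹ = (g * v * g⁻¹) ^ j * (g * z ^ k * g⁻¹) := by
        rw [conj_pow]; group
    _ = z ^ j * v ^ j * z ^ k := by
        rw [h.comm, (h.central v).mul_pow, ← ((h.central g).pow_left k).eq, mul_inv_cancel_right]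
    _ = z ^ j * (v ^ j * z ^ k) := mul_assoc _ _ _

theorem HeisData.center_eq : Subgroup.center K = Subgroup.zpowers z := by
  refine le_antisymm (fun a ha => ?_) (Subgroup.zpowers_le.2 (Subgroup.mem_center_iff.2 fun a =>
    ((h.central a).eq).symm))
  obtain ⟨i, j, k, rfl⟩ := h.gen a
  have e1 := h.conj_word i j k
  rw [← Subgroup.mem_center_iff.1 ha v, mul_inv_cancel_right] at e1
  obtain ⟨d, rfl⟩ := h.dvd_of_pow_eq_one (mul_eq_right.1 e1.symm)
  obtain ⟨l, hl⟩ := Subgroup.mem_zpowers_iff.1 h.g_pow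
  have hgd : Commute (g ^ (p * d)) g := (Commute.refl g).pow_left _
  have e2 := h.conj_g j k
  have e3 : g * (v ^ j * z ^ k) * g⁻¹ = v ^ j * z ^ k := by
    have e4 := Subgroup.mem_center_iff.1 ha g
    rw [mul_assoc (g ^ (p * d)), ← mul_assoc g, ← hgd.eq, mul_assoc, mul_assoc] at e4
    rw [mul_left_cancel e4, mul_inv_cancel_right]
  rw [e3] at e2
  obtain ⟨f, rfl⟩ := h.dvd_of_pow_eq_one (mul_eq_right.1 e2.symm)
  rw [pow_mul, pow_mul v, h.v_pow, one_pow, mul_one]
  exact Subgroup.mul_mem _ (Subgroup.pow_mem _ h.g_pow d)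
    (Subgroup.pow_mem _ (Subgroup.mem_zpowers z) k)

omit hp in
theorem HeisData.comm_mem (a b : K) : ⁅a, b⁆ ∈ Subgroup.zpowers z := by
  have hz : Subgroup.zpowers z ≤ Subgroup.center K := Subgroup.zpowers_le.2
    (Subgroup.mem_center_iff.2 fun a => ((h.central a).eq).symm)
  haveI : (Subgroup.zpowers z).Normal := ⟨fun n hn y => by
    rw [Subgroup.mem_center_iff.1 (hz hn) y, mul_inv_cancel_right]; exact hn⟩
  have hgv : Commute (QuotientGroup.mk' (Subgroup.zpowers z) g)
      (QuotientGroup.mk' (Subgroup.zpowers z) v) := by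
    have e := congrArg (QuotientGroup.mk' (Subgroup.zpowers z)) h.comm
    have hz1 : QuotientGroup.mk' (Subgroup.zpowers z) z = 1 :=
      (QuotientGroup.eq_one_iff _).2 (Subgroup.mem_zpowers z)
    simp only [map_mul, map_inv, hz1, one_mul] at e
    show _ * _ = _ * _
    conv_rhs => rw [← e, inv_mul_cancel_right]
  have hw : ∀ a : K, ∃ i j : ℕ, QuotientGroup.mk' (Subgroup.zpowers z) a =
      QuotientGroup.mk' (Subgroup.zpowers z) g ^ i * QuotientGroup.mk' (Subgroup.zpowers z) v ^ j := by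
    intro a
    obtain ⟨i, j, k, rfl⟩ := h.gen a
    refine ⟨i, j, ?_⟩
    rw [map_mul, map_mul, map_pow, map_pow, map_pow,
      show QuotientGroup.mk' (Subgroup.zpowers z) z = 1 from
        (QuotientGroup.eq_one_iff _).2 (Subgroup.mem_zpowers z), one_pow, mul_one]
  rw [← QuotientGroup.eq_one_iff]
  show QuotientGroup.mk' (Subgroup.zpowers z) ⁅a, b⁆ = 1
  rw [map_commutatorElement, commutatorElement_eq_one_iff_mul_comm]
  obtain ⟨i, j, hi⟩ := hw a
  obtain ⟨i', j', hi'⟩ := hw b
  rw [hi, hi']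
  exact ((Commute.pow_pow_self _ i i').mul_right (hgv.pow_pow i j')).mul_left
    ((hgv.symm.pow_pow j i').mul_right (Commute.pow_pow_self _ j j'))

theorem HeisData.card_eq : Nat.card K = p ^ 3 := by
  obtain ⟨l, hl⟩ := (Submonoid.mem_powers_iff _ _).1
    ((isOfFinOrder_iff_pow_eq_one.2 ⟨p, hp.out.pos, h.pow_eq⟩).mem_powers_iff_mem_zpowers.2 h.g_pow)
  let f : Fin p × Fin p × Fin p → K := fun t => g ^ (t.1 : ℕ) * v ^ (t.2.1 : ℕ) * z ^ (t.2.2 : ℕ)
  have hlt : ∀ n : ℕ, n % p < p := fun n => Nat.mod_lt n hp.out.pos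
  have hsurj : Function.Surjective f := by
    intro a
    obtain ⟨i, j, k, rfl⟩ := h.gen a
    refine ⟨⟨⟨i % p, hlt _⟩, ⟨j % p, hlt _⟩, ⟨(l * (i / p) + k) % p, hlt _⟩⟩, ?_⟩
    show g ^ (i % p) * v ^ (j % p) * z ^ ((l * (i / p) + k) % p) = g ^ i * v ^ j * z ^ k
    rw [← pow_eq_pow_mod _ h.v_pow, ← pow_eq_pow_mod _ h.pow_eq, pow_add, pow_mul, hl]
    have e : g ^ i = g ^ (i % p) * (g ^ p) ^ (i / p) := by
      rw [← pow_mul, ← pow_add, Nat.mod_add_div]
    rw [e, ← hl, ← pow_mul]
    have hc := (h.central (v ^ j)).pow_left (l * (i / p))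
    rw [mul_assoc (g ^ (i % p)) (z ^ (l * (i / p))), hc.eq]
    simp only [mul_assoc]
  have hinj : Function.Injective f := by
    rintro ⟨i, j, k⟩ ⟨i', j', k'⟩ e
    have hmod : ∀ {a b : Fin p}, z ^ (a : ℕ) = z ^ (b : ℕ) → a = b := fun {a b} e => Fin.ext (by
      have := pow_eq_pow_iff_modEq.1 e
      rw [h.orderOf_eq, Nat.ModEq, Nat.mod_eq_of_lt a.2, Nat.mod_eq_of_lt b.2] at this
      exact this)
    have hi : i = i' := hmod (mul_right_cancel (b := v) (by
      rw [← h.conj_word i j k, ← h.conj_word i' j' k']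
      exact congrArg (fun t => t * v * t⁻¹) e))
    subst hi
    simp only [f, mul_assoc] at e
    have e' := mul_left_cancel e
    have hj : j = j' := hmod (mul_right_cancel (b := v ^ (j : ℕ) * z ^ (k : ℕ)) (by
      conv_rhs => rw [e']
      rw [← h.conj_g, ← h.conj_g, e']))
    subst hj
    have hk : k = k' := hmod (mul_left_cancel e')
    subst hk
    rfl
  rw [← Nat.card_eq_of_bijective f ⟨hinj, hsurj⟩, Nat.card_prod, Nat.card_prod, Nat.card_fin]
  ring

theorem HeisData.extraspecial (hp2 : p ≠ 2) (hgp : g ^ p = 1) :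
    IsExtraspecial p K ∧ Monoid.exponent K = p := by
  haveI : Finite K := Nat.finite_of_card_ne_zero (by rw [h.card_eq]; exact pow_ne_zero _ hp.out.ne_zero)
  have hK : IsPGroup p K := IsPGroup.of_card h.card_eq
  have hexp : ∀ a : K, a ^ p = 1 := by
    intro a
    obtain ⟨i, j, k, rfl⟩ := h.gen a
    obtain ⟨e, he⟩ := Subgroup.mem_zpowers_iff.1 (h.comm_mem (v ^ j) (g ^ i))
    obtain ⟨e', he'⟩ := (Submonoid.mem_powers_iff _ _).1
      ((isOfFinOrder_of_finite z).mem_powers_iff_mem_zpowers.2 (h.comm_mem (v ^ j) (g ^ i)))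
    have hyx : v ^ j * g ^ i = z ^ e' * g ^ i * v ^ j := by
      rw [he', commutatorElement_def]; group
    rw [(((h.central _).pow_left k).symm).mul_pow, Grp.mul_pow_class_two hyx
      ((h.central _).pow_left e') ((h.central _).pow_left e') p]
    obtain ⟨m, hm⟩ : p ∣ p.choose 2 :=
      hp.out.dvd_choose_self two_ne_zero (lt_of_le_of_ne hp.out.two_le (Ne.symm hp2))
    rw [hm, ← pow_mul, ← pow_mul g, ← pow_mul v, ← pow_mul z k, mul_comm e', mul_comm i,
      mul_comm j, mul_comm k, mul_assoc p m, pow_mul, pow_mul g, pow_mul v, pow_mul z p,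
      h.pow_eq, hgp, h.v_pow]
    simp
  have hcenter : Nat.card (Subgroup.center K) = p := by
    rw [h.center_eq, Nat.card_zpowers, h.orderOf_eq]
  have hcomm : commutator K = Subgroup.center K := by
    rw [h.center_eq]
    refine le_antisymm (Subgroup.commutator_le.2 fun a _ b _ => h.comm_mem a b)
      (Subgroup.zpowers_le.2 ?_)
    have e : ⁅g, v⁆ = z := by rw [commutatorElement_def, h.comm, mul_inv_cancel_right]
    rw [← e]
    exact Subgroup.commutator_mem_commutator (Subgroup.mem_top _) (Subgroup.mem_top _)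
  refine ⟨⟨⟨hK, le_antisymm (Grp.frattini_le_of_elementary hp.out hcomm.le fun a => ?_)
    (hcomm ▸ Grp.pGroup_commutator_le_frattini hK), hcomm⟩, hcenter⟩, ?_⟩
  · rw [hexp]; exact Subgroup.one_mem _
  · refine ((Nat.dvd_prime hp.out).1 (Monoid.exponent_dvd_of_forall_pow_eq_one hexp)).resolve_left
      fun e => h.ne_one ?_
    have := Monoid.pow_exponent_eq_one z
    rwa [e, pow_one] at this

theorem HeisData.dihedral (hp2 : p = 2) : Nonempty (K ≃* DihedralGroup 4) := by
  subst hp2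
  haveI : Finite K := Nat.finite_of_card_ne_zero (by rw [h.card_eq]; norm_num)
  have hvv : v * v = 1 := by rw [← pow_two, h.v_pow]
  have hzz : z * z = 1 := by rw [← pow_two, h.pow_eq]
  have hvi : v⁻¹ = v := inv_eq_of_mul_eq_one_left hvv
  have hnc : ¬ Commute v g := fun hc => h.ne_one (by
    have e := h.comm
    rw [← hc.eq, mul_inv_cancel_right] at e
    exact mul_eq_right.1 e.symm)
  obtain ⟨a, ha2, hva, hac⟩ : ∃ a : K, a * a = z ∧ v * a * v⁻¹ = a⁻¹ ∧ (Commute v a → Commute v g) := by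
    obtain ⟨l, hl⟩ := Subgroup.mem_zpowers_iff.1 h.g_pow
    have e2 : z ^ (2 : ℤ) = 1 := by simpa using h.pow_eq
    rcases Int.even_or_odd' l with ⟨m, rfl | rfl⟩
    · rw [zpow_mul, e2, one_zpow] at hl
      refine ⟨g * v, ?_, ?_, fun hc => ?_⟩
      · have e : g * v = z * v * g := by rw [← h.comm, inv_mul_cancel_right]
        calc g * v * (g * v) = g * v * g * v := by group
          _ = z * v * (g * g) * v := by rw [e]; group
          _ = z := by rw [← pow_two g, ← hl, mul_one, mul_assoc, hvv, mul_one]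
      · have hgi : g⁻¹ = g := inv_eq_of_mul_eq_one_left (by rw [← pow_two, ← hl])
        rw [mul_inv_rev, hgi, hvi, ← mul_assoc, mul_assoc _ v v, hvv, mul_one]
      · have h3 := hc.mul_right (show Commute v v⁻¹ from (Commute.refl v).inv_right)
        rwa [mul_inv_cancel_right] at h3
    · rw [zpow_add, zpow_mul, e2, one_zpow, one_mul, zpow_one] at hl
      refine ⟨g, by rw [← pow_two, ← hl], ?_, id⟩
      have hgi : g⁻¹ = g * z := (eq_inv_of_mul_eq_one_left (by
        rw [mul_assoc, (h.central g).eq, ← mul_assoc, ← pow_two, ← hl, hzz])).symm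
      have e : v * g = z * g * v := by
        rw [mul_assoc z g v, show g * v = z * v * g by rw [← h.comm, inv_mul_cancel_right],
          ← mul_assoc, ← mul_assoc, hzz, one_mul]
      rw [e, mul_inv_cancel_right, hgi, (h.central g).eq]
  have hord : orderOf a = 4 := by
    refine orderOf_eq_prime_pow (p := 2) (n := 1) (fun e => h.ne_one ?_) ?_
    · rw [pow_one, pow_two, ha2] at e; exact e
    · rw [show (2 : ℕ) ^ (1 + 1) = 2 * 2 from rfl, pow_mul, pow_two a, ha2, h.pow_eq]
  have hidx : (Subgroup.zpowers a).index = 2 := by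
    have := (Subgroup.zpowers a).card_mul_index
    rw [Nat.card_zpowers, hord, h.card_eq] at this
    norm_num at this
    omega
  refine Transfer.MaxClass.nonempty_dihedral (by norm_num) hord hidx (fun hv => ?_) hvv hva
  obtain ⟨n, hn⟩ := Subgroup.mem_zpowers_iff.1 hv
  exact hnc (hac (hn ▸ (Commute.refl a).zpow_left n))

end HeisData

variable {Ω : Type u} [Group Ω] {S : Subgroup Ω} {F : FusionSystem S} {p : ℕ}

variable [Finite S] [hp : Fact p.Prime]

theorem geFrame_of_frattini {P : Subgroup Ω} (hS : IsPGroup p S) (hP : F.StronglyClosed P)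
    (hge : frattini ↥P = commutator ↥P ∧ Nat.card ↥(commutator ↥P) = p) :
    ∃ z, GEFrame S P p z := by
  haveI := finite_of_le hP.1
  obtain ⟨hfr, hcard⟩ := hge
  obtain ⟨c, hc⟩ := (isCyclic_of_prime_card hcard).exists_generator
  have hc1 : ((c : P) : Ω) ≠ 1 := fun e => by
    have h1 : c = 1 := Subtype.ext (Subtype.ext e)
    have h2 : Nat.card ↥(commutator ↥P) = 1 := Nat.card_eq_one_iff_unique.2
      ⟨⟨fun a b => by
        obtain ⟨i, rfl⟩ := Subgroup.mem_zpowers_iff.1 (hc a)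
        obtain ⟨j, rfl⟩ := Subgroup.mem_zpowers_iff.1 (hc b)
        simp [h1]⟩, ⟨1⟩⟩
    rw [hcard] at h2
    exact hp.out.ne_one h2
  have hmem : ∀ a : P, a ∈ commutator ↥P → (a : Ω) ∈ Subgroup.zpowers ((c : P) : Ω) := by
    intro a ha
    obtain ⟨i, hi⟩ := Subgroup.mem_zpowers_iff.1 (hc ⟨a, ha⟩)
    exact ⟨i, by simpa using congrArg (fun t : commutator ↥P => ((t : P) : Ω)) hi⟩
  refine ⟨((c : P) : Ω), hP.1, (c : P).2, hc1, ?_, ?_, fun a ha b hb => ?_, fun a ha => ?_⟩
  · have : c ^ p = 1 := by rw [← hcard]; exact pow_card_eq_one'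
    simpa using congrArg (fun t : commutator ↥P => ((t : P) : Ω)) this
  · -- centrality
    set D : Subgroup S := ((commutator ↥P).map P.subtype).subgroupOf S with hD
    have hle : (commutator ↥P).map P.subtype ≤ S := (Subgroup.map_subtype_le _).trans hP.1
    have hDmem : ∀ s ∈ S, ∀ d ∈ (commutator ↥P).map P.subtype,
        s * d * s⁻¹ ∈ (commutator ↥P).map P.subtype := by
      intro s hs
      have hmap : ((commutator ↥P).map P.subtype).map (MulAut.conj s).toMonoidHom ≤
          (commutator ↥P).map P.subtype := by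
        rw [commutator_def, Subgroup.map_commutator, Subgroup.map_commutator, ← MonoidHom.range_eq_map,
          Subgroup.range_subtype]
        refine Subgroup.commutator_mono ?_ ?_ <;>
          · rintro _ ⟨d, hd, rfl⟩
            exact StronglyClosed.conj_mem' hP hs hd
      exact fun d hd => hmap ⟨d, hd, rfl⟩
    haveI : D.Normal := ⟨fun d hd s => by
      rw [hD, Subgroup.mem_subgroupOf] at hd ⊢
      simpa using hDmem s s.2 d hd⟩
    have hDc : Nat.card D = p := by
      rw [hD, Nat.card_congr (Subgroup.subgroupOfEquivOfLe hle).toEquiv,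
        Subgroup.card_map_of_injective P.subtype_injective, hcard]
    have := Grp.PSmall.le_center_of_card hS D hDc
      (x := ⟨((c : P) : Ω), hP.1 (c : P).2⟩) (by
        rw [hD, Subgroup.mem_subgroupOf]; exact ⟨c, c.2, rfl⟩)
    refine mem_zS.2 ⟨hP.1 (c : P).2, fun y hy => ?_⟩
    exact congrArg Subtype.val (Subgroup.mem_center_iff.1 this ⟨y, hy⟩)
  · have := hmem ⁅(⟨a, ha⟩ : P), ⟨b, hb⟩⁆
      (Subgroup.commutator_mem_commutator (Subgroup.mem_top _) (Subgroup.mem_top _))
    simpa [commutatorElement_def] using this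
  · have := hmem ((⟨a, ha⟩ : P) ^ p) (hfr ▸ Grp.pGroup_pow_mem_frattini (hS.to_le hP.1) _)
    simpa using this

/-- The main statement. -/
theorem genExtraspecial_normal_or_split (hS : IsPGroup p S) (hF : F.IsSaturated p) {P : Subgroup Ω}
    (hP : F.StronglyClosed P) (hge : frattini ↥P = commutator ↥P ∧ Nat.card ↥(commutator ↥P) = p) :
    F.IsNormal P ∨
      ((p = 2 → ∃ (A : Type) (_ : CommGroup A), (∀ a : A, a ^ 2 = 1) ∧
          Nonempty (↥P ≃* DihedralGroup 4 × A)) ∧
        (p ≠ 2 → ∃ (E : Type) (_ : Group E) (A : Type) (_ : CommGroup A), IsExtraspecial p E ∧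
          Nat.card E = p ^ 3 ∧ Monoid.exponent E = p ∧ (∀ a : A, a ^ p = 1) ∧
          Nonempty (↥P ≃* E × A))) := by
  haveI := finite_of_le hP.1
  by_cases hall : ∀ Q, F.IsEssential p Q → P ≤ Q
  · exact Or.inl (isNormal_of_essential hS hF hP.1
      (fun _ hα _ hx => StronglyClosed.apply_mem hP (((mem_autGroup le_rfl).1 hα).res hP.1) le_rfl hx)
      fun Q hQ => ⟨hall Q hQ, fun _ hα _ hx => StronglyClosed.apply_mem hP
        (((mem_autGroup hQ.1.1).1 hα).res (hall Q hQ)) le_rfl hx⟩)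
  refine Or.inr ?_
  push Not at hall
  obtain ⟨Q, hQ, hPQ⟩ := hall
  obtain ⟨z, hfr⟩ := geFrame_of_frattini hS hP hge
  obtain ⟨g, v, W, h⟩ := hfr.exists_plane hS hF hP hQ hPQ
  have hcz : ∀ a ∈ P, Commute z a := fun a ha =>
    ((mem_zS.1 hfr.central).2 a (hfr.le ha)).symm
  have hgv : g * v * g⁻¹ = z * v := by
    rw [← h.comm_gv, commutatorElement_def, inv_mul_cancel_right]
  have hswap : ∀ j i : ℕ, ∃ c : ℕ, v ^ j * g ^ i = g ^ i * v ^ j * z ^ c := by
    intro j i
    obtain ⟨c, hc⟩ := (Submonoid.mem_powers_iff _ _).1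
      ((isOfFinOrder_iff_pow_eq_one.2 ⟨p, hp.out.pos, hfr.pow_eq⟩).mem_powers_iff_mem_zpowers.2
        (hfr.comm _ (P.inv_mem (P.pow_mem h.v_mem j)) _ (P.inv_mem (P.pow_mem h.g_mem i))))
    refine ⟨c, ?_⟩
    rw [hc, commutatorElement_def, inv_inv, inv_inv]
    group
  let E : Subgroup Ω :=
    { carrier := {a | a ∈ P ∧ ∃ i j k : ℕ, a = g ^ i * v ^ j * z ^ k}
      one_mem' := ⟨P.one_mem, 0, 0, 0, by simp⟩
      mul_mem' := by
        rintro a b ⟨ha, i, j, k, rfl⟩ ⟨hb, i', j', k', rfl⟩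
        refine ⟨P.mul_mem ha hb, i + i', j + j', ?_⟩
        obtain ⟨c, hc⟩ := hswap j i'
        refine ⟨c + k + k', ?_⟩
        have hk : Commute (z ^ k) (g ^ i' * v ^ j') :=
          (hcz _ (P.mul_mem (P.pow_mem h.g_mem i') (P.pow_mem h.v_mem j'))).pow_left k
        have hcj : Commute (z ^ c) (v ^ j') := (hcz _ (P.pow_mem h.v_mem j')).pow_left c
        calc g ^ i * v ^ j * z ^ k * (g ^ i' * v ^ j' * z ^ k')
            = g ^ i * v ^ j * (z ^ k * (g ^ i' * v ^ j')) * z ^ k' := by group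
          _ = g ^ i * (v ^ j * g ^ i') * v ^ j' * (z ^ k * z ^ k') := by rw [hk.eq]; group
          _ = g ^ i * g ^ i' * v ^ j * (z ^ c * v ^ j') * (z ^ k * z ^ k') := by rw [hc]; group
          _ = g ^ (i + i') * v ^ (j + j') * z ^ (c + k + k') := by
              rw [hcj.eq]; simp [pow_add, mul_assoc]
      inv_mem' := by
        rintro a ⟨ha, hw⟩
        have hpow : ∀ n : ℕ, a ^ n ∈ P ∧ ∃ i j k : ℕ, a ^ n = g ^ i * v ^ j * z ^ k := by
          intro n
          induction n with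
          | zero => exact ⟨by simp, 0, 0, 0, by simp⟩
          | succ n ih =>
            obtain ⟨hn, i, j, k, e⟩ := ih
            obtain ⟨i', j', k', e'⟩ := hw
            obtain ⟨c, hc⟩ := hswap j i'
            refine ⟨P.pow_mem ha _, i + i', j + j', c + k + k', ?_⟩
            have hk : Commute (z ^ k) (g ^ i' * v ^ j') :=
              (hcz _ (P.mul_mem (P.pow_mem h.g_mem i') (P.pow_mem h.v_mem j'))).pow_left k
            have hcj : Commute (z ^ c) (v ^ j') := (hcz _ (P.pow_mem h.v_mem j')).pow_left c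
            rw [pow_succ, e, e']
            calc g ^ i * v ^ j * z ^ k * (g ^ i' * v ^ j' * z ^ k')
                = g ^ i * v ^ j * (z ^ k * (g ^ i' * v ^ j')) * z ^ k' := by group
              _ = g ^ i * (v ^ j * g ^ i') * v ^ j' * (z ^ k * z ^ k') := by rw [hk.eq]; group
              _ = g ^ i * g ^ i' * v ^ j * (z ^ c * v ^ j') * (z ^ k * z ^ k') := by rw [hc]; group
              _ = g ^ (i + i') * v ^ (j + j') * z ^ (c + k + k') := by
                  rw [hcj.eq]; simp [pow_add, mul_assoc]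
        have hfin : IsOfFinOrder a := (Submonoid.isOfFinOrder_coe (H := P.toSubmonoid)
          (x := ⟨a, ha⟩)).2 (isOfFinOrder_of_finite (⟨a, ha⟩ : P))
        obtain ⟨n, hn⟩ := (Submonoid.mem_powers_iff _ _).1
          (hfin.mem_powers_iff_mem_zpowers.2 (Subgroup.inv_mem _ (Subgroup.mem_zpowers a)))
        exact hn ▸ hpow n }
  have hEP : E ≤ P := fun a ha => ha.1
  haveI := finite_of_le (hEP.trans hP.1)
  haveI := finite_of_le (h.W_le.trans hP.1)
  have hgE : g ∈ E := ⟨h.g_mem, 1, 0, 0, by simp⟩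
  have hvE : v ∈ E := ⟨h.v_mem, 0, 1, 0, by simp⟩
  have hzE : z ∈ E := ⟨hfr.z_mem, 0, 0, 1, by simp⟩
  have hdata : HeisData p (⟨z, hzE⟩ : E) ⟨g, hgE⟩ ⟨v, hvE⟩ := by
    refine ⟨fun e => hfr.ne_one (congrArg Subtype.val e), Subtype.ext hfr.pow_eq,
      fun a => Subtype.ext (hcz a (hEP a.2)), Subtype.ext hgv, Subtype.ext h.v_pow, ?_, ?_⟩
    · obtain ⟨l, hl⟩ := Subgroup.mem_zpowers_iff.1 (hfr.powp g h.g_mem)
      exact ⟨l, Subtype.ext (by simpa using hl)⟩
    · rintro ⟨a, ha, i, j, k, e⟩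
      exact ⟨i, j, k, Subtype.ext (by simpa using e)⟩
  let φ : E × W →* P := MonoidHom.mk'
    (fun t => ⟨(t.1 : Ω) * t.2, P.mul_mem (hEP t.1.2) (h.W_le t.2.2)⟩)
    (fun s t => Subtype.ext (by
      show (s.1 : Ω) * t.1 * ((s.2 : Ω) * t.2) = (s.1 : Ω) * s.2 * ((t.1 : Ω) * t.2)
      have hc : Commute ((s.2 : W) : Ω) ((t.1 : E) : Ω) := h.W_comm _ s.2.2 _ (hEP t.1.2)
      rw [mul_assoc, ← mul_assoc ((t.1 : E) : Ω), ← hc.eq]
      group))
  have hbij : Function.Bijective φ := by
    refine ⟨(injective_iff_map_eq_one φ).2 fun t ht => ?_, fun a => ?_⟩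
    · have e : (t.1 : Ω) * t.2 = 1 := congrArg Subtype.val ht
      obtain ⟨-, i, j, k, hw⟩ := t.1.2
      have hW : g ^ i * v ^ j * z ^ k ∈ W := by
        rw [← hw, eq_inv_of_mul_eq_one_left e]; exact W.inv_mem t.2.2
      have h1 : (t.1 : Ω) = 1 := hw.trans (h.meet i j k hW)
      rw [h1, one_mul] at e
      exact Prod.ext (Subtype.ext h1) (Subtype.ext e)
    · obtain ⟨i, j, k, hw⟩ := h.gen a a.2
      refine ⟨(⟨g ^ i * v ^ j * z ^ k, P.mul_mem (P.mul_mem (P.pow_mem h.g_mem i)
        (P.pow_mem h.v_mem j)) (P.pow_mem hfr.z_mem k), i, j, k, rfl⟩, ⟨_, hw⟩), Subtype.ext ?_⟩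
      exact mul_inv_cancel_left _ _
  let eW : Carrier (Nat.card W) ≃ W := (Finite.equivFin W).symm
  letI : CommGroup W := { (inferInstance : Group W) with
    mul_comm := fun a b => Subtype.ext (h.W_comm _ a.2 _ (h.W_le b.2)) }
  letI instW : CommGroup (Carrier (Nat.card W)) := eW.commGroup
  have hWexp : ∀ a : Carrier (Nat.card W), a ^ p = 1 := fun a => eW.mulEquiv.injective (by
    rw [map_pow, map_one]; exact Subtype.ext (h.W_pow _ (eW.mulEquiv a).2))
  let eP : ↥P ≃* E × W := (MulEquiv.ofBijective φ hbij).symm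
  refine ⟨fun hp2 => ?_, fun hp2 => ?_⟩
  · obtain ⟨eD⟩ := hdata.dihedral hp2
    refine ⟨Carrier (Nat.card W), instW, fun a => by rw [← hp2]; exact hWexp a, ⟨eP.trans
      (MulEquiv.prodCongr eD eW.mulEquiv.symm)⟩⟩
  · let eE : Carrier (Nat.card E) ≃ E := (Finite.equivFin E).symm
    letI instE : Group (Carrier (Nat.card E)) := eE.group
    let m : E ≃* Carrier (Nat.card E) := eE.mulEquiv.symm
    have hdata' : HeisData p (m ⟨z, hzE⟩) (m ⟨g, hgE⟩) (m ⟨v, hvE⟩) := by
      refine ⟨fun e => hdata.ne_one (m.map_eq_one_iff.1 e), by rw [← map_pow, hdata.pow_eq, map_one],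
        fun a => ?_, by rw [← map_mul, ← map_inv, ← map_mul, hdata.comm, map_mul],
        by rw [← map_pow, hdata.v_pow, map_one], ?_, fun a => ?_⟩
      · have := (hdata.central (m.symm a)).map m
        rwa [MulEquiv.apply_symm_apply] at this
      · obtain ⟨l, hl⟩ := Subgroup.mem_zpowers_iff.1 hdata.g_pow
        exact ⟨l, by beta_reduce; rw [← map_zpow, ← map_pow, hl]⟩
      · obtain ⟨i, j, k, e⟩ := hdata.gen (m.symm a)
        exact ⟨i, j, k, by rw [← map_pow, ← map_pow, ← map_pow, ← map_mul, ← map_mul, ← e,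
          MulEquiv.apply_symm_apply]⟩
    obtain ⟨h1, h2⟩ := hdata'.extraspecial hp2 (by
      rw [← map_pow, show (⟨g, hgE⟩ : E) ^ p = 1 from Subtype.ext (h.odd hp2), map_one])
    exact ⟨Carrier (Nat.card E), instE, Carrier (Nat.card W), instW, h1, hdata'.card_eq, h2, hWexp,
      ⟨eP.trans (MulEquiv.prodCongr m eW.mulEquiv.symm)⟩⟩

end Cfsg.Agent.Fus
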