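import Cfsg.Agent.Lib.Fus.CenterIndexSqBasic
import Cfsg.Agent.Lib.Fus.AbelianIndexPEss
import Cfsg.Agent.Lib.Invol.SPEmbedded
import Cfsg.Agent.Lib.Grp.GaschutzYen

/-!
An essential subgroup not containing a strongly closed group `P` with derived and Frattini subgroup
`⟨z⟩` splits `P` as a group of order `p ^ 3` times an elementary abelian one.
-/

set_option autoImplicit false
set_option linter.style.haveILetI false
set_option linter.unusedSectionVars false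

open scoped Classical commutatorElement Pointwise

namespace Cfsg.Agent.Fus

open Subgroup FusionSystem

universe u

section SPE

variable {X : Type*} [Group X] [Finite X] {p : ℕ} [hp : Fact p.Prime]

/-- The classical form of strong embedding. -/
def IsSPE (p : ℕ) (Y : Subgroup X) : Prop :=
  Y ≠ ⊤ ∧ ∀ g : X, g ∉ Y → ¬ p ∣ Nat.card ↥(Y ⊓ Y.map (MulAut.conj g).toMonoidHom)

/-- Some conjugate of a strongly embedded subgroup contains a given `p`-element. -/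
theorem exists_isSPE {Y : Subgroup X} (hY : Cfsg.IsStronglyPEmbedded p Y) {a : X}
    (ha : a ^ p = 1) : ∃ Y' : Subgroup X, a ∈ Y' ∧ IsSPE p Y' := by
  obtain ⟨hd, hne, hcl⟩ := Invol.isStronglyPEmbedded_iff.1 hY
  obtain ⟨P, hP⟩ := Invol.exists_sylow_le_of_classical hd hcl
  have hpa : IsPGroup p (Subgroup.zpowers a) := by
    obtain ⟨j, -, hj⟩ := (Nat.dvd_prime_pow hp.out).1 (orderOf_dvd_of_pow_eq_one
      (show a ^ p ^ 1 = 1 by rw [pow_one, ha]))
    exact IsPGroup.of_card (n := j) (by rw [Nat.card_zpowers, hj])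
  obtain ⟨R, hR⟩ := hpa.exists_le_sylow
  obtain ⟨g, hg⟩ := MulAction.exists_smul_eq X P R
  have hmem : ∀ h : X, h ∈ Y.map (MulAut.conj g).toMonoidHom ↔ g⁻¹ * h * g ∈ Y := fun h => by
    constructor
    · rintro ⟨y, hy, rfl⟩
      show g⁻¹ * (g * y * g⁻¹) * g ∈ Y
      rwa [show g⁻¹ * (g * y * g⁻¹) * g = y by group]
    · intro hh
      exact ⟨_, hh, by show g * (g⁻¹ * h * g) * g⁻¹ = h; group⟩
  refine ⟨Y.map (MulAut.conj g).toMonoidHom, ?_, fun e => hne ?_, fun h hh => ?_⟩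
  · have h1 : a ∈ (R : Subgroup X) := hR (Subgroup.mem_zpowers a)
    rw [← hg] at h1
    obtain ⟨y, hy, e⟩ := h1
    exact ⟨y, hP hy, e⟩
  · refine eq_top_iff.2 fun y _ => ?_
    have := (hmem (g * y * g⁻¹)).1 (e ▸ Subgroup.mem_top _)
    rwa [show g⁻¹ * (g * y * g⁻¹) * g = y by group] at this
  · have key := hcl (g⁻¹ * h * g) fun hh' => hh ((hmem h).2 hh')
    have e : Y.map (MulAut.conj g).toMonoidHom ⊓
        (Y.map (MulAut.conj g).toMonoidHom).map (MulAut.conj h).toMonoidHom =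
        (Y ⊓ Y.map (MulAut.conj (g⁻¹ * h * g)).toMonoidHom).map (MulAut.conj g).toMonoidHom := by
      rw [Subgroup.map_inf _ _ _ (MulAut.conj g).injective, Subgroup.map_map, Subgroup.map_map]
      congr 2
      refine MonoidHom.ext fun y => ?_
      show h * (g * y * g⁻¹) * h⁻¹ = g * (g⁻¹ * h * g * y * (g⁻¹ * h * g)⁻¹) * g⁻¹
      group
    rwa [e, ← Nat.card_congr ((Y ⊓ Y.map (MulAut.conj (g⁻¹ * h * g)).toMonoidHom).equivMapOfInjective
      (MulAut.conj g).toMonoidHom (MulAut.conj g).injective).toEquiv]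

theorem IsSPE.conj_mem {Y : Subgroup X} (hY : IsSPE p Y) {a g : X} (ha : a ∈ Y) (hap : a ^ p = 1)
    (ha1 : a ≠ 1) (hg : g * a * g⁻¹ ∈ Y) : g ∈ Y := by
  by_contra hgY
  refine hY.2 g hgY (Invol.dvd_card_of_mem (z := g * a * g⁻¹) (orderOf_eq_prime ?_ ?_)
    ⟨hg, a, ha, rfl⟩)
  · rw [conj_pow, hap, mul_one, mul_inv_cancel]
  · simpa using ha1

theorem IsSPE.commute_mem {Y : Subgroup X} (hY : IsSPE p Y) {a b : X} (ha : a ∈ Y)
    (hap : a ^ p = 1) (ha1 : a ≠ 1) (hab : Commute b a) : b ∈ Y :=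
  hY.conj_mem ha hap ha1 (by rw [hab.eq, mul_inv_cancel_right]; exact ha)

end SPE

section Transv

variable {A : Type*} [CommGroup A] {p : ℕ} [hp : Fact p.Prime] {σ τ : MulAut A} {z w : A}

/-- A power prime to `p` of a transvection is one. -/
theorem IsTransv.npow (h : IsTransv p σ z) {n : ℕ} (hn : ¬ p ∣ n) : IsTransv p (σ ^ n) z where
  ne_one := h.ne_one
  pow_eq := h.pow_eq
  fix := by rw [h.pow_apply (i := 0) (by rw [pow_zero, mul_one, h.fix])]; simp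
  disp y := by
    obtain ⟨i, hi⟩ := h.disp y
    exact ⟨i * n, by rw [h.pow_apply hi, pow_mul]⟩
  moved := by
    obtain ⟨y, hy⟩ := h.moved
    obtain ⟨i, hi⟩ := h.disp y
    refine ⟨y, fun e => hy ?_⟩
    rw [h.pow_apply hi, mul_eq_left] at e
    obtain ⟨m, hm⟩ := exists_pow_eq_self_of_coprime (x := z ^ i) (n := n)
      (Nat.Coprime.coprime_dvd_right (orderOf_dvd_of_pow_eq_one
        (show (z ^ i) ^ p = 1 by rw [← pow_mul, mul_comm, pow_mul, h.pow_eq, one_pow]))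
        ((hp.out.coprime_iff_not_dvd.2 hn).symm))
    rw [e, one_pow] at hm
    rw [hi, ← hm, mul_one]

/-- If one centre is fixed by the other transvection, their commutator is central. -/
theorem IsTransv.commutator_central (h : IsTransv p σ z) (h' : IsTransv p τ w) (hτz : τ z = z) :
    (σ * τ * σ⁻¹ * τ⁻¹) * σ = σ * (σ * τ * σ⁻¹ * τ⁻¹) ∧
      (σ * τ * σ⁻¹ * τ⁻¹) * τ = τ * (σ * τ * σ⁻¹ * τ⁻¹) ∧ (σ * τ * σ⁻¹ * τ⁻¹) ^ p = 1 := by
  obtain ⟨a, ha⟩ := h.disp w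
  set κ := σ * τ * σ⁻¹ * τ⁻¹ with hκdef
  have hκ : ∀ y, κ (τ (σ y)) = σ (τ y) := fun y => by
    rw [hκdef]
    simp [MulAut.mul_apply]
  have hz : κ z = z := by
    have := hκ z
    rwa [h.fix, hτz, h.fix] at this
  have hwfix : κ w = w := by
    have := hκ w
    rw [ha, map_mul, map_pow, hτz, h'.fix, ha, map_mul, map_pow, hz] at this
    exact mul_right_cancel this
  have hdisp : ∀ u, ∃ m : ℕ, κ u = u * z ^ m := by
    intro u
    obtain ⟨y, rfl⟩ : ∃ y, τ (σ y) = u := ⟨σ⁻¹ (τ⁻¹ u), by simp⟩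
    obtain ⟨c, hc⟩ := h.disp y
    obtain ⟨b, hb⟩ := h'.disp y
    refine ⟨a * b, ?_⟩
    rw [hκ, hb, map_mul, map_pow, ha, hc, map_mul, map_pow, hτz, hb, mul_pow, pow_mul]
    simp [mul_comm, mul_left_comm, mul_assoc]
  have hpow : ∀ (n : ℕ) (u : A) (m : ℕ), κ u = u * z ^ m → (κ ^ n) u = u * (z ^ m) ^ n := by
    intro n u m hm
    induction n with
    | zero => simp
    | succ n ih => rw [pow_succ', MulAut.mul_apply, ih, map_mul, hm, map_pow, map_pow, hz, pow_succ',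
        mul_assoc]
  refine ⟨MulEquiv.ext fun u => ?_, MulEquiv.ext fun u => ?_, MulEquiv.ext fun u => ?_⟩
  · obtain ⟨m, hm⟩ := hdisp u
    obtain ⟨c, hc⟩ := h.disp u
    show κ (σ u) = σ (κ u)
    rw [hc, map_mul, hm, map_pow, hz, map_mul, hc, map_pow, h.fix, mul_right_comm]
  · obtain ⟨m, hm⟩ := hdisp u
    obtain ⟨b, hb⟩ := h'.disp u
    show κ (τ u) = τ (κ u)
    rw [hb, map_mul, hm, map_pow, hwfix, map_mul, hb, map_pow, hτz, mul_right_comm]
  · obtain ⟨m, hm⟩ := hdisp u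
    rw [hpow p u m hm, ← pow_mul, mul_comm m p, pow_mul, h.pow_eq, one_pow, mul_one]
    rfl

end Transv

variable {Ω : Type u} [Group Ω] {S : Subgroup Ω} {F : FusionSystem S} {p : ℕ}

/-- What is used of `P`. -/
structure GEFrame (S P : Subgroup Ω) (p : ℕ) (z : Ω) : Prop where
  le : P ≤ S
  z_mem : z ∈ P
  ne_one : z ≠ 1
  pow_eq : z ^ p = 1
  central : z ∈ zS S
  comm : ∀ a ∈ P, ∀ b ∈ P, ⁅a, b⁆ ∈ Subgroup.zpowers z
  powp : ∀ a ∈ P, a ^ p ∈ Subgroup.zpowers z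

/-- The decomposition obtained. -/
structure GEPlane (P : Subgroup Ω) (p : ℕ) (z g v : Ω) (W : Subgroup Ω) : Prop where
  g_mem : g ∈ P
  v_mem : v ∈ P
  comm_gv : ⁅g, v⁆ = z
  v_pow : v ^ p = 1
  W_le : W ≤ P
  W_pow : ∀ w ∈ W, w ^ p = 1
  W_comm : ∀ w ∈ W, ∀ a ∈ P, w * a = a * w
  gen : ∀ a ∈ P, ∃ i j k : ℕ, (g ^ i * v ^ j * z ^ k)⁻¹ * a ∈ W
  meet : ∀ i j k : ℕ, g ^ i * v ^ j * z ^ k ∈ W → g ^ i * v ^ j * z ^ k = 1
  odd : p ≠ 2 → g ^ p = 1

variable [Finite S] [hp : Fact p.Prime]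

set_option maxHeartbeats 1000000 in
theorem GEFrame.exists_plane {P : Subgroup Ω} {z : Ω} (hfr : GEFrame S P p z) (hS : IsPGroup p S)
    (hF : F.IsSaturated p) (hPc : F.StronglyClosed P) {Q : Subgroup Ω} (hQ : F.IsEssential p Q)
    (hPQ : ¬ P ≤ Q) : ∃ (g v : Ω) (W : Subgroup Ω), GEPlane P p z g v W := by
  have hQS := hQ.1.1
  haveI := finite_of_le hQS
  have hord : orderOf z = p := orderOf_eq_prime hfr.pow_eq hfr.ne_one
  have hzpow : ∀ c ∈ Subgroup.zpowers z, ∃ k : ℕ, z ^ k = c := fun c hc =>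
    (Submonoid.mem_powers_iff _ _).1
      ((isOfFinOrder_iff_pow_eq_one.2 ⟨p, hp.out.pos, hfr.pow_eq⟩).mem_powers_iff_mem_zpowers.2 hc)
  have hconj : ∀ s ∈ S, ∀ a ∈ P, s * a * s⁻¹ ∈ P := fun s hs a ha =>
    StronglyClosed.conj_mem' hPc hs ha
  have hzQ : z ∈ Q := centralizerIn_le_of_centric hQ.1
    (mem_centralizerIn.2 ⟨hfr.central.1, fun y hy => (mem_zS.1 hfr.central).2 y (hQS hy)⟩)
  have hcz : ∀ y ∈ S, Commute z y := fun y hy => ((mem_zS.1 hfr.central).2 y hy).symm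
  set G := F.autGroup Q with hG
  set VQ : Subgroup Q := P.subgroupOf Q with hVQ
  have memV : ∀ y : Q, y ∈ VQ ↔ (y : Ω) ∈ P := fun y => Subgroup.mem_subgroupOf
  have hinv : ∀ γ ∈ G, ∀ u ∈ VQ, γ u ∈ VQ := fun γ hγ u hu => by
    rw [memV] at hu ⊢
    rw [← autFun_coe]
    exact StronglyClosed.apply_mem hPc (((mem_autGroup hQS).1 hγ).res (inf_le_right : P ⊓ Q ≤ Q))
      inf_le_left ⟨hu, u.2⟩
  have hdispc : ∀ c ∈ P, ∀ y ∈ Q, y⁻¹ * (c * y * c⁻¹) ∈ P := fun c hc y hy => by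
    rw [show y⁻¹ * (c * y * c⁻¹) = (y⁻¹ * c * y) * c⁻¹ by group]
    refine P.mul_mem ?_ (P.inv_mem hc)
    simpa using hconj y⁻¹ (S.inv_mem (hQS hy)) c hc
  -- an element of `P` normalizing `Q`
  have hQnormP : Q ≤ Subgroup.normalizer (P : Set Ω) := fun q hq => mem_normalizer_of_forall
    (fun a ha => hconj q (hQS hq) a ha)
    fun a ha => by simpa using hconj q⁻¹ (S.inv_mem (hQS hq)) a ha
  have hsup : ∀ s ∈ Q ⊔ P, ∃ q ∈ Q, ∃ c ∈ P, s = q * c := fun s hs => by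
    rw [← SetLike.mem_coe, Subgroup.coe_mul_of_left_le_normalizer_right Q P hQnormP] at hs
    obtain ⟨q, hq, c, hc, e⟩ := hs
    exact ⟨q, hq, c, hc, e.symm⟩
  have hLS : Q ⊔ P ≤ S := sup_le hQS hfr.le
  haveI : Finite ↥(Q ⊔ P) := finite_of_le hLS
  have hQlt : Q < Q ⊔ P := lt_of_le_of_ne le_sup_left fun e => hPQ (e ▸ le_sup_right)
  obtain ⟨g₀, hg₀P, hg₀n, hg₀Q⟩ :
      ∃ c ∈ P, c ∈ Subgroup.normalizer (Q : Set Ω) ∧ c ∉ Q := by
    obtain ⟨s, hs, hsQ⟩ := SetLike.exists_of_lt (lt_normalizerIn (hS.to_le hLS) hQlt)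
    obtain ⟨q, hq, c, hc, rfl⟩ := hsup s hs.1
    refine ⟨c, hc, ?_, fun h => hsQ (Q.mul_mem hq h)⟩
    have := Subgroup.mul_mem _ (Subgroup.le_normalizer (Q.inv_mem hq)) hs.2
    rwa [inv_mul_cancel_left] at this
  -- `z` moves
  obtain ⟨α₀, hα₀, hα₀z⟩ : ∃ α ∈ G, autFun α z ∉ Subgroup.zpowers z := by
    by_contra hcon
    push Not at hcon
    have hn2 : ((seriesStab G VQ).subgroupOf G).Normal := by
      refine ⟨fun c hc γ => ?_⟩
      rw [Subgroup.mem_subgroupOf] at hc ⊢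
      rw [Subgroup.coe_mul, Subgroup.coe_mul, Subgroup.coe_inv]
      refine ⟨G.mul_mem (G.mul_mem γ.2 c.2) (G.inv_mem γ.2), fun u hu => ?_, fun y => ?_⟩
      · show (γ : MulAut Q) ((c : MulAut Q) ((γ : MulAut Q)⁻¹ u)) = u
        rw [hc.2.1 _ (hinv _ (G.inv_mem γ.2) u hu), MulAut.apply_inv_self]
      · show y⁻¹ * (γ : MulAut Q) ((c : MulAut Q) ((γ : MulAut Q)⁻¹ y)) ∈ VQ
        have h := hinv _ γ.2 _ (hc.2.2 ((γ : MulAut Q)⁻¹ y))
        rwa [map_mul, map_inv, MulAut.apply_inv_self] at h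
    -- the stabilizer of the series `1 ≤ ⟨z⟩ ≤ V ≤ Q`
    set DQ : Subgroup Q := (Subgroup.zpowers z).subgroupOf Q with hDQ
    have hDinv : ∀ γ ∈ G, ∀ u ∈ DQ, γ u ∈ DQ := fun γ hγ u hu => by
      rw [hDQ, Subgroup.mem_subgroupOf] at hu ⊢
      obtain ⟨k, hk⟩ := hzpow _ hu
      rw [← autFun_coe, ← hk, show z ^ k = (((⟨z, hzQ⟩ : Q) ^ k : Q) : Ω) by simp, autFun_coe,
        map_pow, SubmonoidClass.coe_pow, ← autFun_coe]
      exact Subgroup.pow_mem _ (hcon γ hγ) k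
    let K : Subgroup (MulAut Q) :=
      { carrier := {γ | γ ∈ G ∧ (∀ u ∈ DQ, γ u = u) ∧ (∀ u ∈ VQ, u⁻¹ * γ u ∈ DQ) ∧
          ∀ y : Q, y⁻¹ * γ y ∈ VQ}
        one_mem' := ⟨G.one_mem, fun u _ => rfl, fun u _ => by simp, fun y => by simp⟩
        mul_mem' := fun {a b} ha hb => ⟨G.mul_mem ha.1 hb.1,
          fun u hu => by rw [MulAut.mul_apply, hb.2.1 u hu, ha.2.1 u hu],
          fun u hu => by
            have := DQ.mul_mem (hb.2.2.1 u hu) (ha.2.2.1 (b u) (hinv b hb.1 u hu))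
            rwa [mul_assoc, mul_inv_cancel_left] at this,
          fun y => by
            have := VQ.mul_mem (hb.2.2.2 y) (ha.2.2.2 (b y))
            rwa [mul_assoc, mul_inv_cancel_left] at this⟩
        inv_mem' := fun {a} ha => ⟨G.inv_mem ha.1,
          fun u hu => by conv_lhs => rw [← ha.2.1 u hu, MulAut.inv_apply_self],
          fun u hu => by
            have := DQ.inv_mem (ha.2.2.1 (a⁻¹ u) (hinv _ (G.inv_mem ha.1) u hu))
            rwa [MulAut.apply_inv_self, mul_inv_rev, inv_inv] at this,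
          fun y => by
            have := VQ.inv_mem (ha.2.2.2 (a⁻¹ y))
            rwa [MulAut.apply_inv_self, mul_inv_rev, inv_inv] at this⟩ }
    have hKn : (K.subgroupOf G).Normal := by
      refine ⟨fun c hc γ => ?_⟩
      rw [Subgroup.mem_subgroupOf] at hc ⊢
      rw [Subgroup.coe_mul, Subgroup.coe_mul, Subgroup.coe_inv]
      refine ⟨G.mul_mem (G.mul_mem γ.2 c.2) (G.inv_mem γ.2), fun u hu => ?_, fun u hu => ?_,
        fun y => ?_⟩
      · show (γ : MulAut Q) ((c : MulAut Q) ((γ : MulAut Q)⁻¹ u)) = u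
        rw [hc.2.1 _ (hDinv _ (G.inv_mem γ.2) u hu), MulAut.apply_inv_self]
      · show u⁻¹ * (γ : MulAut Q) ((c : MulAut Q) ((γ : MulAut Q)⁻¹ u)) ∈ DQ
        have h := hDinv _ γ.2 _ (hc.2.2.1 _ (hinv _ (G.inv_mem γ.2) u hu))
        rwa [map_mul, map_inv, MulAut.apply_inv_self] at h
      · show y⁻¹ * (γ : MulAut Q) ((c : MulAut Q) ((γ : MulAut Q)⁻¹ y)) ∈ VQ
        have h := hinv _ γ.2 _ (hc.2.2.2 ((γ : MulAut Q)⁻¹ y))
        rwa [map_mul, map_inv, MulAut.apply_inv_self] at h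
    have hKp : IsPGroup p K := by
      obtain ⟨n, hn⟩ := IsPGroup.iff_card.1 (hS.to_le hQS)
      intro γ
      refine ⟨n + n, Subtype.ext ?_⟩
      obtain ⟨-, h1, h2, h3⟩ := γ.2
      set a := (γ : MulAut Q) with ha
      have key2 : ∀ u ∈ VQ, ∀ m : ℕ, (a ^ m) u = u * (u⁻¹ * a u) ^ m := by
        intro u hu m
        induction m with
        | zero => simp
        | succ m ih =>
          rw [pow_succ', MulAut.mul_apply, ih, map_mul, map_pow, h1 _ (h2 u hu), pow_succ',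
            ← mul_assoc, mul_inv_cancel_left]
      have hfix : ∀ u ∈ VQ, (a ^ p ^ n) u = u := fun u hu => by
        rw [key2 u hu, ← hn, pow_card_eq_one', mul_one]
      have hmem : a ^ p ^ n ∈ seriesStab G VQ := by
        refine ⟨G.pow_mem γ.2.1 _, hfix, ?_⟩
        intro y
        induction (p ^ n) with
        | zero => simp
        | succ m ih =>
          have := VQ.mul_mem ih (h3 ((a ^ m) y))
          rw [mul_assoc, mul_inv_cancel_left] at this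
          rwa [pow_succ', MulAut.mul_apply]
      obtain ⟨-, h4, h5⟩ := hmem
      have key3 : ∀ (y : Q) (m : ℕ), ((a ^ p ^ n) ^ m) y = y * (y⁻¹ * (a ^ p ^ n) y) ^ m := by
        intro y m
        induction m with
        | zero => simp
        | succ m ih =>
          rw [pow_succ', MulAut.mul_apply, ih, map_mul, map_pow, h4 _ (h5 y), pow_succ',
            ← mul_assoc, mul_inv_cancel_left]
      rw [SubmonoidClass.coe_pow, pow_add, pow_mul, OneMemClass.coe_one]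
      refine MulEquiv.ext fun y => ?_
      rw [key3, ← hn, pow_card_eq_one', mul_one]
      rfl
    set σ₀ : MulAut Q := Q.normalizerMonoidHom ⟨g₀, hg₀n⟩ with hσ₀
    have hσ₀e : ∀ y : Q, ((σ₀ y : Q) : Ω) = g₀ * y * g₀⁻¹ := fun y => rfl
    have hσ₀G : σ₀ ∈ G :=
      autInducedBy_le_autGroup F hQS (mem_autInducedBy.2 ⟨g₀, hfr.le hg₀P, hσ₀e⟩)
    have hσ₀K : σ₀ ∈ K := by
      refine ⟨hσ₀G, fun u hu => Subtype.ext ?_, fun u hu => Subgroup.mem_subgroupOf.2 ?_,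
        fun y => (memV _).2 (hdispc g₀ hg₀P y y.2)⟩
      · obtain ⟨k, hk⟩ := hzpow _ (Subgroup.mem_subgroupOf.1 hu)
        rw [hσ₀e, ← hk, ((hcz g₀ (hfr.le hg₀P)).pow_left k).symm.eq, mul_inv_cancel_right]
      · show ((u : Ω))⁻¹ * (g₀ * u * g₀⁻¹) ∈ Subgroup.zpowers z
        have h := hfr.comm _ (P.inv_mem ((memV u).1 hu)) g₀ hg₀P
        rw [commutatorElement_def, inv_inv] at h
        rwa [show (u : Ω)⁻¹ * (g₀ * u * g₀⁻¹) = (u : Ω)⁻¹ * g₀ * u * g₀⁻¹ by group]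
    have hKpg : IsPGroup p (K.subgroupOf G) :=
      hKp.comap_of_injective G.subtype G.subtype_injective
    obtain ⟨-, hrad⟩ := radical_of_essential hS hQ
    have hσI : σ₀ ∈ Inn Q := hrad ▸ ⟨⟨σ₀, hσ₀G⟩, Grp.le_pCore hKn hKpg hσ₀K, rfl⟩
    obtain ⟨u, hu⟩ := hσI
    refine hg₀Q ?_
    have hcen : (u : Ω)⁻¹ * g₀ ∈ Q := by
      refine centralizerIn_le_of_centric hQ.1 (mem_centralizerIn.2
        ⟨S.mul_mem (S.inv_mem (hQS u.2)) (hfr.le hg₀P), fun y hy => ?_⟩)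
      have e := hσ₀e ⟨y, hy⟩
      rw [← hu] at e
      have e' : (u : Ω) * y * (u : Ω)⁻¹ = g₀ * y * g₀⁻¹ := e
      calc y * ((u : Ω)⁻¹ * g₀) = (u : Ω)⁻¹ * ((u : Ω) * y * (u : Ω)⁻¹) * g₀ := by group
        _ = (u : Ω)⁻¹ * g₀ * y := by rw [e']; group
    rw [← mul_inv_cancel_left (u : Ω) g₀]
    exact Q.mul_mem u.2 hcen
  -- `V` is elementary abelian
  have hVcomm : ∀ a ∈ P, a ∈ Q → ∀ b ∈ P, b ∈ Q → a * b = b * a := by
    intro a ha haQ b hb hbQ
    by_contra hne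
    obtain ⟨k, hk⟩ := hzpow _ (hfr.comm a ha b hb)
    have hk1 : z ^ k ≠ 1 := fun e =>
      hne (commutatorElement_eq_one_iff_mul_comm.1 (hk.symm.trans e))
    obtain ⟨n, hn⟩ := exists_pow_eq_self_of_coprime (x := z) (n := k) (by
      rw [hord]
      exact ((hp.out.coprime_iff_not_dvd).2 fun ⟨d, hd⟩ => hk1 (by
        rw [hd, pow_mul, hfr.pow_eq, one_pow])).symm)
    refine hα₀z ?_
    suffices hgoal : autFun α₀ ((z ^ k) ^ n) ∈ Subgroup.zpowers z by rwa [hn] at hgoal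
    rw [show (z ^ k) ^ n = (((⟨z ^ k, Q.pow_mem hzQ k⟩ : Q) ^ n : Q) : Ω) by simp,
      autFun_coe, map_pow, SubmonoidClass.coe_pow, ← autFun_coe]
    refine Subgroup.pow_mem _ ?_ n
    have e : (⟨z ^ k, Q.pow_mem hzQ k⟩ : Q) = ⁅(⟨a, haQ⟩ : Q), (⟨b, hbQ⟩ : Q)⁆ :=
      Subtype.ext (hk.trans (map_commutatorElement Q.subtype (⟨a, haQ⟩ : Q) ⟨b, hbQ⟩).symm)
    rw [autFun_coe, e, map_commutatorElement]
    show Q.subtype ⁅α₀ ⟨a, haQ⟩, α₀ ⟨b, hbQ⟩⁆ ∈ Subgroup.zpowers z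
    rw [map_commutatorElement]
    exact hfr.comm _ ((memV _).1 (hinv α₀ hα₀ _ ((memV ⟨a, haQ⟩).2 ha))) _
      ((memV _).1 (hinv α₀ hα₀ _ ((memV ⟨b, hbQ⟩).2 hb)))
  have hVpow : ∀ a ∈ P, a ∈ Q → a ^ p = 1 := by
    intro a ha haQ
    by_contra hne
    obtain ⟨k, hk⟩ := hzpow _ (hfr.powp a ha)
    have hk1 : z ^ k ≠ 1 := fun e => hne (hk.symm.trans e)
    obtain ⟨n, hn⟩ := exists_pow_eq_self_of_coprime (x := z) (n := k) (by
      rw [hord]
      exact ((hp.out.coprime_iff_not_dvd).2 fun ⟨d, hd⟩ => hk1 (by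
        rw [hd, pow_mul, hfr.pow_eq, one_pow])).symm)
    refine hα₀z ?_
    suffices hgoal : autFun α₀ ((z ^ k) ^ n) ∈ Subgroup.zpowers z by rwa [hn] at hgoal
    rw [hk, show (a ^ p) ^ n = ((((⟨a, haQ⟩ : Q) ^ p) ^ n : Q) : Ω) by simp,
      autFun_coe, map_pow, map_pow, SubmonoidClass.coe_pow, SubmonoidClass.coe_pow]
    exact Subgroup.pow_mem _ (hfr.powp _ ((memV _).1 (hinv α₀ hα₀ _ ((memV ⟨a, haQ⟩).2 ha)))) n
  letI : CommGroup VQ := { (inferInstance : Group VQ) with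
    mul_comm := fun a b => Subtype.ext (Subtype.ext
      (hVcomm _ ((memV _).1 a.2) (a : Q).2 _ ((memV _).1 b.2) (b : Q).2)) }
  -- restriction to `V`
  let res : G →* MulAut VQ :=
    { toFun := fun γ =>
        { toFun := fun u => ⟨(γ : MulAut Q) u, hinv _ γ.2 _ u.2⟩
          invFun := fun u => ⟨(γ : MulAut Q)⁻¹ u, hinv _ (G.inv_mem γ.2) _ u.2⟩
          left_inv := fun u => Subtype.ext (MulAut.inv_apply_self _ (γ : MulAut Q) _)
          right_inv := fun u => Subtype.ext (MulAut.apply_inv_self _ (γ : MulAut Q) _)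
          map_mul' := fun u w => Subtype.ext (map_mul (γ : MulAut Q) (u : Q) (w : Q)) }
      map_one' := MulEquiv.ext fun u => rfl
      map_mul' := fun a b => MulEquiv.ext fun u => rfl }
  have hres : ∀ (γ : G) (u : VQ), ((res γ u : VQ) : Q) = (γ : MulAut Q) u := fun γ u => rfl
  let Dp : Subgroup G :=
    { carrier := {γ | ∀ y : Q, y⁻¹ * (γ : MulAut Q) y ∈ VQ}
      one_mem' := fun y => by simp
      mul_mem' := fun {a b} ha hb y => by
        have := VQ.mul_mem (hb y) (ha ((b : MulAut Q) y))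
        rwa [mul_assoc, mul_inv_cancel_left] at this
      inv_mem' := fun {a} ha y => by
        have := VQ.inv_mem (ha ((a : MulAut Q)⁻¹ y))
        rwa [MulAut.apply_inv_self, mul_inv_rev, inv_inv] at this }
  have hDpconj : ∀ γ a : G, a ∈ Dp → γ * a * γ⁻¹ ∈ Dp := by
    intro γ a ha y
    show y⁻¹ * (γ : MulAut Q) ((a : MulAut Q) ((γ : MulAut Q)⁻¹ y)) ∈ VQ
    have h := hinv _ γ.2 _ (ha ((γ : MulAut Q)⁻¹ y))
    rwa [map_mul, map_inv, MulAut.apply_inv_self] at h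
  set I := (Inn Q).subgroupOf G with hI
  obtain ⟨hcen, hfn, hIn, Y, hY⟩ := id hQ
  haveI := hIn
  have hkill : ∀ γ : G, γ ∈ Dp → res γ = 1 → γ ∈ I := by
    intro γ h1 h2
    have hn : ((seriesStab G VQ).subgroupOf G).Normal := by
      refine ⟨fun c hc γ => ?_⟩
      rw [Subgroup.mem_subgroupOf] at hc ⊢
      rw [Subgroup.coe_mul, Subgroup.coe_mul, Subgroup.coe_inv]
      refine ⟨G.mul_mem (G.mul_mem γ.2 c.2) (G.inv_mem γ.2), fun u hu => ?_, fun y => ?_⟩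
      · show (γ : MulAut Q) ((c : MulAut Q) ((γ : MulAut Q)⁻¹ u)) = u
        rw [hc.2.1 _ (hinv _ (G.inv_mem γ.2) u hu), MulAut.apply_inv_self]
      · show y⁻¹ * (γ : MulAut Q) ((c : MulAut Q) ((γ : MulAut Q)⁻¹ y)) ∈ VQ
        have h := hinv _ γ.2 _ (hc.2.2 ((γ : MulAut Q)⁻¹ y))
        rwa [map_mul, map_inv, MulAut.apply_inv_self] at h
    have hpg : IsPGroup p ((seriesStab G VQ).subgroupOf G) :=
      (isPGroup_seriesStab (hS.to_le hQS) G VQ).comap_of_injective G.subtype G.subtype_injective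
    obtain ⟨-, hrad⟩ := radical_of_essential hS hQ
    rw [hI, Subgroup.mem_subgroupOf, ← hrad]
    exact ⟨γ, Grp.le_pCore hn hpg (Subgroup.mem_subgroupOf.2 ⟨γ.2, fun u hu =>
      congrArg Subtype.val (DFunLike.congr_fun h2 ⟨u, hu⟩), h1⟩), rfl⟩
  have hpicomm : ∀ a b : G, a ∈ Dp → b ∈ Dp → res a * res b = res b * res a →
      Commute (QuotientGroup.mk' I a) (QuotientGroup.mk' I b) := by
    intro a b ha hb e
    have h : a * b * a⁻¹ * b⁻¹ ∈ I := by
      refine hkill _ (Dp.mul_mem (Dp.mul_mem (Dp.mul_mem ha hb) (Dp.inv_mem ha)) (Dp.inv_mem hb)) ?_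
      rw [map_mul, map_mul, map_mul, map_inv, map_inv, e]
      group
    have h' : QuotientGroup.mk' I (a * b * a⁻¹ * b⁻¹) = 1 := (QuotientGroup.eq_one_iff _).2 h
    simp only [map_mul, map_inv] at h'
    rwa [← commutatorElement_def, commutatorElement_eq_one_iff_mul_comm] at h'
  -- the elements of `P` normalizing `Q`
  let cjg : (c : Ω) → c ∈ P → c ∈ Subgroup.normalizer (Q : Set Ω) → G := fun c hc hn =>
    ⟨Q.normalizerMonoidHom ⟨c, hn⟩, autInducedBy_le_autGroup F hQS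
      (mem_autInducedBy.2 ⟨c, hfr.le hc, fun y => rfl⟩)⟩
  have hcjg : ∀ c (hc : c ∈ P) (hn : c ∈ Subgroup.normalizer (Q : Set Ω)) (y : Q),
      ((((cjg c hc hn : G) : MulAut Q) y : Q) : Ω) = c * y * c⁻¹ := fun c hc hn y => rfl
  have hcjDp : ∀ c hc hn, cjg c hc hn ∈ Dp := fun c hc hn y =>
    (memV _).2 (hdispc c hc y y.2)
  let zV : VQ := ⟨⟨z, hzQ⟩, (memV _).2 hfr.z_mem⟩
  have hzV1 : zV ≠ 1 := fun e => hfr.ne_one (congrArg (fun u : VQ => ((u : Q) : Ω)) e)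
  have hzVp : zV ^ p = 1 := Subtype.ext (Subtype.ext (by
    show (z : Ω) ^ p = 1
    exact hfr.pow_eq))
  have hcjne : ∀ c hc hn, c ∉ Q → QuotientGroup.mk' I (cjg c hc hn) ≠ 1 := by
    intro c hc hn hcQ e
    have hmem := (QuotientGroup.eq_one_iff _).1 e
    rw [hI, Subgroup.mem_subgroupOf] at hmem
    obtain ⟨u, hu⟩ := hmem
    refine hcQ ?_
    have hcen' : (u : Ω)⁻¹ * c ∈ Q := by
      refine centralizerIn_le_of_centric hQ.1 (mem_centralizerIn.2
        ⟨S.mul_mem (S.inv_mem (hQS u.2)) (hfr.le hc), fun y hy => ?_⟩)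
      have e' : (u : Ω) * y * (u : Ω)⁻¹ = c * y * c⁻¹ :=
        congrArg Subtype.val (DFunLike.congr_fun hu (⟨y, hy⟩ : Q))
      calc y * ((u : Ω)⁻¹ * c) = (u : Ω)⁻¹ * ((u : Ω) * y * (u : Ω)⁻¹) * c := by group
        _ = (u : Ω)⁻¹ * c * y := by rw [e']; group
    rw [← mul_inv_cancel_left (u : Ω) c]
    exact Q.mul_mem u.2 hcen'
  have hcjp : ∀ c hc hn, QuotientGroup.mk' I (cjg c hc hn) ^ p = 1 := by
    intro c hc hn
    rw [← map_pow]
    refine (QuotientGroup.eq_one_iff _).2 ?_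
    rw [hI, Subgroup.mem_subgroupOf]
    obtain ⟨k, hk⟩ := hzpow _ (hfr.powp c hc)
    refine ⟨⟨z ^ k, Q.pow_mem hzQ k⟩, MulEquiv.ext fun y => Subtype.ext ?_⟩
    have key : ∀ m : ℕ, ((((cjg c hc hn : G) : MulAut Q) ^ m) y : Ω) = c ^ m * y * (c ^ m)⁻¹ := by
      intro m
      induction m with
      | zero => simp
      | succ m ih => rw [pow_succ', MulAut.mul_apply, hcjg c hc hn, ih]; group
    show z ^ k * (y : Ω) * (z ^ k)⁻¹ = _
    rw [SubmonoidClass.coe_pow, key, hk]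
  have hcjtransv : ∀ c hc hn, c ∉ Q → IsTransv p (res (cjg c hc hn)) zV := by
    intro c hc hn hcQ
    have hdisp : ∀ u : VQ, ∃ i : ℕ, res (cjg c hc hn) u = u * zV ^ i := by
      intro u
      obtain ⟨i, hi⟩ := hzpow _ (hfr.comm c hc _ ((memV _).1 u.2))
      refine ⟨i, Subtype.ext (Subtype.ext ?_)⟩
      rw [hres, hcjg c hc hn]
      show c * ((u : Q) : Ω) * c⁻¹ = ((u : Q) : Ω) * z ^ i
      rw [← ((hcz _ (hfr.le ((memV _).1 u.2))).pow_left i).eq, hi, commutatorElement_def,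
        inv_mul_cancel_right]
    refine ⟨hzV1, hzVp, Subtype.ext (Subtype.ext ?_), hdisp, ?_⟩
    · rw [hres, hcjg c hc hn]
      show c * z * c⁻¹ = z
      rw [← (hcz c (hfr.le hc)).eq, mul_inv_cancel_right]
    · by_contra hcon
      push Not at hcon
      exact hcjne c hc hn hcQ ((QuotientGroup.eq_one_iff _).2
        (hkill _ (hcjDp c hc hn) (MulEquiv.ext hcon)))
  haveI : Finite G := inferInstance
  obtain ⟨E, hσ₀E, hE⟩ := exists_isSPE hY (hcjp g₀ hg₀P hg₀n)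
  have hcjE : ∀ c hc hn, QuotientGroup.mk' I (cjg c hc hn) ∈ E := by
    intro c hc hn
    refine hE.commute_mem hσ₀E (hcjp g₀ hg₀P hg₀n) (hcjne g₀ hg₀P hg₀n hg₀Q)
      (hpicomm _ _ (hcjDp c hc hn) (hcjDp g₀ hg₀P hg₀n) ?_)
    by_cases hcQ : c ∈ Q
    · have e : res (cjg c hc hn) = 1 := MulEquiv.ext fun u => Subtype.ext (Subtype.ext (by
        rw [hres, hcjg c hc hn, hVcomm c hc hcQ _ ((memV _).1 u.2) (u : Q).2, mul_inv_cancel_right]
        rfl))
      rw [e, one_mul, mul_one]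
    · have t := hcjtransv c hc hn hcQ
      have t₀ := hcjtransv g₀ hg₀P hg₀n hg₀Q
      exact t.commute t₀ t.fix t₀.fix
  -- `α` outside `E` moves `z`
  obtain ⟨α, hαE, hαz⟩ : ∃ α : G, QuotientGroup.mk' I α ∉ E ∧
      autFun (α : MulAut Q) z ∉ Subgroup.zpowers z := by
    by_contra hcon
    push Not at hcon
    obtain ⟨q, hq⟩ : ∃ q, q ∉ E := by
      by_contra h
      push Not at h
      exact hE.1 (eq_top_iff.2 fun x _ => h x)
    obtain ⟨a, rfl⟩ := QuotientGroup.mk'_surjective I q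
    by_cases hα₀E : QuotientGroup.mk' I ⟨α₀, hα₀⟩ ∈ E
    · have h1 : QuotientGroup.mk' I (⟨α₀, hα₀⟩ * a) ∉ E := by
        rw [map_mul, E.mul_mem_cancel_left hα₀E]
        exact hq
      have h2 : QuotientGroup.mk' I a⁻¹ ∉ E := by rw [map_inv, E.inv_mem_iff]; exact hq
      obtain ⟨k, hk⟩ := hzpow _ (hcon a⁻¹ h2)
      refine hα₀z ?_
      have e : autFun α₀ z = autFun ((⟨α₀, hα₀⟩ * a : G) : MulAut Q) (z ^ k) := by
        rw [hk, Subgroup.coe_mul, Subgroup.coe_inv, autFun_mul _ _ (autFun_mem _ hzQ)]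
        congr 1
        rw [← autFun_mul _ _ hzQ, mul_inv_cancel, show z = ((⟨z, hzQ⟩ : Q) : Ω) from rfl,
          autFun_coe]
        rfl
      rw [e, show z ^ k = (((⟨z, hzQ⟩ : Q) ^ k : Q) : Ω) by simp, autFun_coe, map_pow,
        SubmonoidClass.coe_pow, ← autFun_coe]
      exact Subgroup.pow_mem _ (hcon _ h1) k
    · exact hα₀z (hcon _ hα₀E)
  have hαinvE : QuotientGroup.mk' I α⁻¹ ∉ E := by rw [map_inv, E.inv_mem_iff]; exact hαE
  have hαinvz : autFun ((α⁻¹ : G) : MulAut Q) z ∉ Subgroup.zpowers z := by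
    intro h
    obtain ⟨l, hl⟩ := hzpow _ h
    have e : autFun (α : MulAut Q) z ^ l = z := by
      rw [show autFun (α : MulAut Q) z ^ l =
        ((((α : MulAut Q) ⟨z, hzQ⟩) ^ l : Q) : Ω) by simp [← autFun_coe], ← map_pow, ← autFun_coe]
      show autFun (α : MulAut Q) (z ^ l) = z
      rw [hl, ← autFun_mul _ _ hzQ, Subgroup.coe_inv, mul_inv_cancel,
        show z = ((⟨z, hzQ⟩ : Q) : Ω) from rfl, autFun_coe]
      rfl
    have hvp : autFun (α : MulAut Q) z ^ p = 1 :=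
      hVpow _ (StronglyClosed.apply_mem hPc (((mem_autGroup hQS).1 α.2).res
        (inf_le_right : P ⊓ Q ≤ Q)) inf_le_left ⟨hfr.z_mem, hzQ⟩) (autFun_mem _ hzQ)
    have hl' : ¬ p ∣ l := fun ⟨d, hd⟩ => hfr.ne_one (by
      rw [← e, hd, pow_mul, hvp, one_pow])
    obtain ⟨n, hn⟩ := exists_pow_eq_self_of_coprime (x := autFun (α : MulAut Q) z) (n := l)
      (Nat.Coprime.coprime_dvd_right (orderOf_dvd_of_pow_eq_one hvp)
        ((hp.out.coprime_iff_not_dvd.2 hl').symm))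
    rw [e] at hn
    exact hαz (hn ▸ Subgroup.pow_mem _ (Subgroup.mem_zpowers z) n)
  have hcentQ : ∀ (γ : G) (y : Ω), y ∈ Q → y * autFun (γ : MulAut Q) z = autFun (γ : MulAut Q) z * y := by
    intro γ y hy
    obtain ⟨u, hu⟩ := (γ : MulAut Q).surjective ⟨y, hy⟩
    have e : u * (⟨z, hzQ⟩ : Q) = ⟨z, hzQ⟩ * u := Subtype.ext (hcz u (hQS u.2)).symm.eq
    have h := congrArg ((γ : MulAut Q) ·) e
    simp only [map_mul, hu] at h
    have h' := congrArg Subtype.val h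
    simpa [← autFun_coe] using h'
  -- no element outside `Q` fixes a moved centre
  have hne : ∀ γ : G, QuotientGroup.mk' I γ ∉ E → ∀ c ∈ P,
      c ∈ Subgroup.normalizer (Q : Set Ω) → c ∉ Q → ¬ Commute c (autFun (γ : MulAut Q) z) := by
    intro γ hγE c hc hn hcQ hcomm
    set s := cjg c hc hn with hs
    set t := γ⁻¹ * s * γ⁻¹⁻¹ with ht
    have hsD : s ∈ Dp := hcjDp c hc hn
    have htD : t ∈ Dp := hDpconj γ⁻¹ s hsD
    have hst := hcjtransv c hc hn hcQ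
    have htt : IsTransv p (res t) (res γ⁻¹ zV) := by
      rw [ht, map_mul, map_mul, map_inv]
      exact hst.conj _
    have htz : res t zV = zV := by
      refine Subtype.ext (Subtype.ext ?_)
      show ((((γ⁻¹ * s * γ⁻¹⁻¹ : G) : MulAut Q) ⟨z, hzQ⟩ : Q) : Ω) = z
      rw [inv_inv, Subgroup.coe_mul, Subgroup.coe_mul, Subgroup.coe_inv, MulAut.mul_apply,
        MulAut.mul_apply]
      have e : (s : MulAut Q) ((γ : MulAut Q) ⟨z, hzQ⟩) = (γ : MulAut Q) ⟨z, hzQ⟩ := Subtype.ext (by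
        rw [hs, hcjg c hc hn, ← autFun_coe]
        show c * autFun (γ : MulAut Q) z * c⁻¹ = _
        rw [hcomm.eq, mul_inv_cancel_right])
      rw [e, MulAut.inv_apply_self]
    obtain ⟨k1, k2, k3⟩ := hst.commutator_central htt htz
    set k := s * t * s⁻¹ * t⁻¹ with hk
    have hkD : k ∈ Dp :=
      Dp.mul_mem (Dp.mul_mem (Dp.mul_mem hsD htD) (Dp.inv_mem hsD)) (Dp.inv_mem htD)
    have hkres : res k = res s * res t * (res s)⁻¹ * (res t)⁻¹ := by
      rw [hk, map_mul, map_mul, map_mul, map_inv, map_inv]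
    rw [← hkres] at k1 k2 k3
    have hsE := hcjE c hc hn
    have hsp := hcjp c hc hn
    have hsne := hcjne c hc hn hcQ
    have hkp : QuotientGroup.mk' I k ^ p = 1 := by
      rw [← map_pow]
      exact (QuotientGroup.eq_one_iff _).2 (hkill _ (Dp.pow_mem hkD p) (by rw [map_pow, k3]))
    have htE : QuotientGroup.mk' I t ∈ E := by
      by_cases hk1 : QuotientGroup.mk' I k = 1
      · refine hE.commute_mem hsE hsp hsne ?_
        rw [hk] at hk1
        simp only [map_mul, map_inv] at hk1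
        rw [← commutatorElement_def, commutatorElement_eq_one_iff_mul_comm] at hk1
        exact hk1.symm
      · have hkE : QuotientGroup.mk' I k ∈ E :=
          hE.commute_mem hsE hsp hsne (hpicomm _ _ hkD hsD k1)
        exact hE.commute_mem hkE hkp hk1 (hpicomm _ _ htD hkD k2.symm)
    refine hγE ?_
    have hmem : QuotientGroup.mk' I γ⁻¹ * QuotientGroup.mk' I s * (QuotientGroup.mk' I γ⁻¹)⁻¹ ∈ E := by
      rw [← map_inv, ← map_mul, ← map_mul]
      exact htE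
    have := hE.conj_mem hsE hsp hsne hmem
    rwa [map_inv, E.inv_mem_iff] at this
  set v := autFun (α : MulAut Q) z with hv
  have hvQ : v ∈ Q := autFun_mem _ hzQ
  have hvP : v ∈ P := StronglyClosed.apply_mem hPc (((mem_autGroup hQS).1 α.2).res
    (inf_le_right : P ⊓ Q ≤ Q)) inf_le_left ⟨hfr.z_mem, hzQ⟩
  have hvp : v ^ p = 1 := hVpow v hvP hvQ
  -- normalise the generator
  obtain ⟨g, hgP, hgn, hgv⟩ : ∃ g ∈ P, g ∈ Subgroup.normalizer (Q : Set Ω) ∧ ⁅g, v⁆ = z := by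
    obtain ⟨k, hk⟩ := hzpow _ (hfr.comm g₀ hg₀P v hvP)
    have hk1 : z ^ k ≠ 1 := fun e =>
      hne α hαE g₀ hg₀P hg₀n hg₀Q (commutatorElement_eq_one_iff_mul_comm.1 (hk.symm.trans e))
    obtain ⟨n, hn⟩ := exists_pow_eq_self_of_coprime (x := z) (n := k) (by
      rw [hord]
      exact ((hp.out.coprime_iff_not_dvd).2 fun ⟨d, hd⟩ => hk1 (by
        rw [hd, pow_mul, hfr.pow_eq, one_pow])).symm)
    refine ⟨g₀ ^ n, P.pow_mem hg₀P n, Subgroup.pow_mem _ hg₀n n, ?_⟩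
    have hiter : ∀ m : ℕ, g₀ ^ m * v * (g₀ ^ m)⁻¹ = (z ^ k) ^ m * v := by
      intro m
      induction m with
      | zero => simp
      | succ m ih =>
        have hc0 : Commute ((z ^ k) ^ m) g₀ := ((hcz g₀ (hfr.le hg₀P)).pow_left k).pow_left m
        calc g₀ ^ (m + 1) * v * (g₀ ^ (m + 1))⁻¹ = g₀ * (g₀ ^ m * v * (g₀ ^ m)⁻¹) * g₀⁻¹ := by
              rw [pow_succ']; group
          _ = (z ^ k) ^ m * (g₀ * v * g₀⁻¹) := by rw [ih, ← mul_assoc, ← hc0.eq]; group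
          _ = (z ^ k) ^ (m + 1) * v := by
              rw [show g₀ * v * g₀⁻¹ = z ^ k * v by
                rw [hk, commutatorElement_def, inv_mul_cancel_right], ← mul_assoc, ← pow_succ]
    rw [commutatorElement_def, hiter, mul_inv_cancel_right, hn]
  have hgQ : g ∉ Q := fun h => hfr.ne_one
    (hgv.symm.trans (commutatorElement_eq_one_iff_mul_comm.2 (hcentQ α g h)))
  have hgconj : ∀ m : ℕ, g ^ m * v * (g ^ m)⁻¹ = z ^ m * v := by
    intro m
    induction m with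
    | zero => simp
    | succ m ih =>
      have hc0 : Commute (z ^ m) g := (hcz g (hfr.le hgP)).pow_left m
      calc g ^ (m + 1) * v * (g ^ (m + 1))⁻¹ = g * (g ^ m * v * (g ^ m)⁻¹) * g⁻¹ := by
            rw [pow_succ']; group
        _ = z ^ m * (g * v * g⁻¹) := by rw [ih, ← mul_assoc, ← hc0.eq]; group
        _ = z ^ (m + 1) * v := by
            rw [show g * v * g⁻¹ = z * v by
              rw [← hgv, commutatorElement_def, inv_mul_cancel_right], ← mul_assoc, ← pow_succ]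
  have hadj : ∀ c ∈ P, ∃ i : ℕ, Commute (c * (g ^ i)⁻¹) v := by
    intro c hc
    obtain ⟨i, hi⟩ := hzpow _ (hfr.comm c hc v hvP)
    refine ⟨i, ?_⟩
    have e2 : (g ^ i)⁻¹ * v * g ^ i = (z ^ i)⁻¹ * v := by
      have hc0 : Commute (z ^ i) (g ^ i) := ((hcz g (hfr.le hgP)).pow_left i).pow_right i
      calc (g ^ i)⁻¹ * v * g ^ i
          = (g ^ i)⁻¹ * ((z ^ i)⁻¹ * (g ^ i * v * (g ^ i)⁻¹)) * g ^ i := by
            rw [hgconj, inv_mul_cancel_left]
        _ = (z ^ i)⁻¹ * ((g ^ i)⁻¹ * (g ^ i * v * (g ^ i)⁻¹)) * g ^ i := by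
            rw [← mul_assoc (g ^ i)⁻¹, ← (hc0.inv_left.inv_right).eq, mul_assoc (z ^ i)⁻¹]
        _ = (z ^ i)⁻¹ * v := by group
    have e : c * (g ^ i)⁻¹ * v * (c * (g ^ i)⁻¹)⁻¹ = v := by
      calc c * (g ^ i)⁻¹ * v * (c * (g ^ i)⁻¹)⁻¹ = c * ((g ^ i)⁻¹ * v * g ^ i) * c⁻¹ := by group
        _ = (z ^ i)⁻¹ * (c * v * c⁻¹) := by
            rw [e2, ← mul_assoc, ← ((hcz c (hfr.le hc)).pow_left i).inv_left.eq]; group
        _ = v := by
            rw [show c * v * c⁻¹ = z ^ i * v by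
              rw [hi, commutatorElement_def, inv_mul_cancel_right], inv_mul_cancel_left]
    show c * (g ^ i)⁻¹ * v = v * (c * (g ^ i)⁻¹)
    conv_rhs => rw [← e, inv_mul_cancel_right]
  -- all of `P` normalizes `Q`
  have hPn : P ≤ Subgroup.normalizer (Q : Set Ω) := by
    by_contra hcon
    set M := P ⊓ Subgroup.normalizer (Q : Set Ω) with hM
    have hKn : Q ⊔ M ≤ Subgroup.normalizer (Q : Set Ω) := sup_le Subgroup.le_normalizer inf_le_right
    have hKlt : Q ⊔ M < Q ⊔ P := lt_of_le_of_ne (sup_le_sup_left inf_le_left Q) fun e =>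
      hcon ((le_sup_right.trans_eq e.symm).trans hKn)
    obtain ⟨s, hs, hsK⟩ := SetLike.exists_of_lt (lt_normalizerIn (hS.to_le hLS) hKlt)
    obtain ⟨q₁, hq₁, c, hc, rfl⟩ := hsup s hs.1
    obtain ⟨i, hi⟩ := hadj c hc
    set c' := c * (g ^ i)⁻¹ with hc'
    have hc'P : c' ∈ P := P.mul_mem hc (P.inv_mem (P.pow_mem hgP i))
    have hgK : g ∈ Q ⊔ M := Subgroup.mem_sup_right ⟨hgP, hgn⟩
    have hcK : c ∈ Subgroup.normalizer ((Q ⊔ M : Subgroup Ω) : Set Ω) := by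
      have := Subgroup.mul_mem _
        (Subgroup.le_normalizer ((Q ⊔ M).inv_mem (Subgroup.mem_sup_left hq₁))) hs.2
      rwa [inv_mul_cancel_left] at this
    have hc'K : c' ∈ Subgroup.normalizer ((Q ⊔ M : Subgroup Ω) : Set Ω) :=
      Subgroup.mul_mem _ hcK (Subgroup.le_normalizer ((Q ⊔ M).inv_mem ((Q ⊔ M).pow_mem hgK i)))
    have key : ∀ d ∈ P, d ∈ Subgroup.normalizer ((Q ⊔ M : Subgroup Ω) : Set Ω) → Commute d v →
        ∀ q ∈ Q, d * q * d⁻¹ ∈ Q := by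
      intro d hd hdK hdv q hq
      set e := q⁻¹ * d * q * d⁻¹ with he
      have heP : e ∈ P := by
        rw [he]
        refine P.mul_mem ?_ (P.inv_mem hd)
        simpa using hconj q⁻¹ (S.inv_mem (hQS hq)) d hd
      have heK : e ∈ Q ⊔ M := by
        rw [he, show q⁻¹ * d * q * d⁻¹ = q⁻¹ * (d * q * d⁻¹) by group]
        exact (Q ⊔ M).mul_mem (Subgroup.mem_sup_left (Q.inv_mem hq))
          ((Subgroup.mem_normalizer_iff.1 hdK q).1 (Subgroup.mem_sup_left hq))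
      have hqv : Commute q v := hcentQ α q hq
      have hev : Commute e v := ((hqv.inv_left.mul_left hdv).mul_left hqv).mul_left hdv.inv_left
      have heQ : e ∈ Q := by
        by_contra heQ
        exact hne α hαE e heP (hKn heK) heQ hev
      rw [show d * q * d⁻¹ = q * e by rw [he]; group]
      exact Q.mul_mem hq heQ
    have hnc' : c' ∈ Subgroup.normalizer (Q : Set Ω) :=
      mem_normalizer_of_forall (key c' hc'P hc'K hi) fun q hq => by
        simpa using key c'⁻¹ (P.inv_mem hc'P) (Subgroup.inv_mem _ hc'K) hi.inv_left q hq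
    refine hsK ((Q ⊔ M).mul_mem (Subgroup.mem_sup_left hq₁) ?_)
    rw [← inv_mul_cancel_right c (g ^ i)]
    exact (Q ⊔ M).mul_mem (Subgroup.mem_sup_right ⟨hc'P, hnc'⟩) ((Q ⊔ M).pow_mem hgK i)
  -- the pair of transvections
  let vV : VQ := ⟨⟨v, hvQ⟩, (memV _).2 hvP⟩
  set s := cjg g hgP hgn with hs
  set t := α * s * α⁻¹ with ht
  have hsD : s ∈ Dp := hcjDp g hgP hgn
  have htD : t ∈ Dp := hDpconj α s hsD
  have hσt := hcjtransv g hgP hgn hgQ
  have hαzV : res α zV = vV := Subtype.ext (Subtype.ext (by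
    rw [hres]; exact (autFun_coe (α : MulAut Q) ⟨z, hzQ⟩).symm))
  have hτt : IsTransv p (res t) vV := by
    rw [ht, map_mul, map_mul, map_inv, ← hαzV]
    exact hσt.conj _
  have hσx : res s vV = vV * zV := Subtype.ext (Subtype.ext (by
    rw [hres, hs, hcjg g hgP hgn]
    show g * v * g⁻¹ = v * z
    rw [← (hcz v (hfr.le hvP)).eq, ← hgv, commutatorElement_def, inv_mul_cancel_right]))
  have hτz : res t zV ≠ zV := by
    intro e
    refine hne α⁻¹ hαinvE g hgP hgn hgQ ?_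
    have e1 : res s (res α⁻¹ zV) = res α⁻¹ zV := by
      have := congrArg (fun u => res α⁻¹ u) e
      simp only [ht, map_mul, map_inv, MulAut.mul_apply, MulAut.inv_apply_self] at this
      rw [map_inv]
      exact this
    have e2 := congrArg (fun u : VQ => ((u : Q) : Ω)) e1
    simp only [hres, hs, hcjg g hgP hgn] at e2
    rw [show ((((α⁻¹ : G) : MulAut Q) (zV : Q) : Q) : Ω) = autFun ((α⁻¹ : G) : MulAut Q) z from
      (autFun_coe _ ⟨z, hzQ⟩).symm] at e2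
    show g * _ = _ * g
    conv_rhs => rw [← e2, inv_mul_cancel_right]
  obtain ⟨b, hb⟩ := hτt.disp zV
  obtain ⟨n, hn⟩ := hτt.exists_pow (i := b) fun e => hτz (by rw [hb, e, mul_one])
  have hnp : ¬ p ∣ n * (p - 1) := by
    rw [hp.out.dvd_mul]
    rintro (hd | hd)
    · obtain ⟨d, rfl⟩ := hd
      refine hτt.ne_one ?_
      rw [← hn, pow_mul, ← pow_mul vV b p, mul_comm b p, pow_mul, hτt.pow_eq, one_pow, one_pow]
    · exact absurd (Nat.le_of_dvd (Nat.sub_pos_of_lt hp.out.one_lt) hd)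
        (not_le.2 (Nat.sub_lt hp.out.pos one_pos))
  set t₁ := t ^ (n * (p - 1)) with ht₁
  have hτ₁t : IsTransv p (res t₁) vV := by
    rw [ht₁, map_pow]
    exact hτt.npow hnp
  have hpair : IsPair (res s) (res t₁) zV vV := by
    refine ⟨hσx, ?_, hσt.fix, hτ₁t.fix⟩
    rw [ht₁, map_pow, hτt.pow_apply hb, pow_mul, hn]
    congr 1
    exact eq_inv_of_mul_eq_one_left (by
      rw [← pow_succ, Nat.sub_add_cancel hp.out.one_le, hτt.pow_eq])
  -- the complement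
  set WV : Subgroup VQ := (res s).toMonoidHom.eqLocus (MonoidHom.id VQ) ⊓
    (res t₁).toMonoidHom.eqLocus (MonoidHom.id VQ) with hWV
  set W : Subgroup Ω := (WV.map VQ.subtype).map Q.subtype with hW
  have memW : ∀ {a : Ω}, a ∈ W ↔ ∃ u : VQ, ((u : Q) : Ω) = a ∧ res s u = u ∧ res t₁ u = u := by
    intro a
    constructor
    · rintro ⟨q, ⟨u, ⟨h1, h2⟩, rfl⟩, rfl⟩
      exact ⟨u, rfl, h1, h2⟩
    · rintro ⟨u, rfl, h1, h2⟩
      exact ⟨u, ⟨u, ⟨h1, h2⟩, rfl⟩, rfl⟩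
  have hVmem : ∀ c ∈ P, Commute c v → c ∈ Q := fun c hc hcv => by
    by_contra hcQ
    exact hne α hαE c hc (hPn hc) hcQ hcv
  have hgen : ∀ a ∈ P, ∃ i j k : ℕ, (g ^ i * v ^ j * z ^ k)⁻¹ * a ∈ W := by
    intro a ha
    obtain ⟨i, hi⟩ := hadj a ha
    -- move the power of `g` to the left
    have hbP : a * (g ^ i)⁻¹ ∈ P := P.mul_mem ha (P.inv_mem (P.pow_mem hgP i))
    have hbP' : (g ^ i)⁻¹ * (a * (g ^ i)⁻¹) * g ^ i ∈ P :=
      P.mul_mem (P.mul_mem (P.inv_mem (P.pow_mem hgP i)) hbP) (P.pow_mem hgP i)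
    have hbQ : (g ^ i)⁻¹ * (a * (g ^ i)⁻¹) * g ^ i ∈ Q := by
      have := (Subgroup.mem_normalizer_iff.1 (Subgroup.inv_mem _ (Subgroup.pow_mem _ hgn i))
        (a * (g ^ i)⁻¹)).1 (hVmem _ hbP hi)
      rwa [inv_inv] at this
    set y : VQ := ⟨⟨_, hbQ⟩, (memV _).2 hbP'⟩ with hy
    obtain ⟨j, l, h1, h2⟩ := IsPair.decomp hσt hτ₁t hpair y
    obtain ⟨k, hk⟩ : ∃ k : ℕ, z ^ k * z ^ l = 1 := ⟨(p - 1) * l, by
      rw [← pow_add, ← add_one_mul, Nat.sub_add_cancel hp.out.one_le, pow_mul, hfr.pow_eq,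
        one_pow]⟩
    refine ⟨i, j, k, memW.2 ⟨_, ?_, h1, h2⟩⟩
    show (g ^ i)⁻¹ * (a * (g ^ i)⁻¹) * g ^ i * (v ^ j)⁻¹ * z ^ l =
      (g ^ i * v ^ j * z ^ k)⁻¹ * a
    have hc1 : Commute ((g ^ i)⁻¹ * (a * (g ^ i)⁻¹) * g ^ i) (v ^ j) :=
      (show Commute _ v from hVcomm _ hbP' hbQ v hvP hvQ).pow_right j
    have hc2 : ∀ w ∈ S, Commute (z ^ l) w := fun w hw => (hcz w hw).pow_left l
    rw [eq_inv_of_mul_eq_one_left hk, hc1.inv_right.eq,
      (hc2 _ (S.mul_mem (S.inv_mem (S.pow_mem (hfr.le hvP) j)) (hfr.le hbP'))).symm.eq]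
    group
  refine ⟨g, v, W, hgP, hvP, hgv, hvp, fun a ha => ?_, fun a ha => ?_, fun a ha b hb => ?_, hgen,
    fun i j k hm => ?_, fun hp2 => ?_⟩
  · obtain ⟨u, rfl, -⟩ := memW.1 ha
    exact (memV _).1 u.2
  · obtain ⟨u, rfl, -⟩ := memW.1 ha
    exact hVpow _ ((memV _).1 u.2) (u : Q).2
  · obtain ⟨u, rfl, hu1, hu2⟩ := memW.1 ha
    have hVc : ∀ w ∈ P, w ∈ Q → Commute ((u : Q) : Ω) w :=
      fun w hw hwQ => hVcomm _ ((memV _).1 u.2) (u : Q).2 w hw hwQ
    have hug : Commute ((u : Q) : Ω) g := by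
      have e := congrArg (fun w : VQ => ((w : Q) : Ω)) hu1
      simp only [hres, hs, hcjg g hgP hgn] at e
      show ((u : Q) : Ω) * g = g * (u : Q)
      conv_lhs => rw [← e, inv_mul_cancel_right]
    obtain ⟨i, j, k, hw⟩ := hgen b hb
    obtain ⟨w, hwe, -⟩ := memW.1 hw
    have hb' : b = g ^ i * v ^ j * z ^ k * ((w : Q) : Ω) := by rw [hwe, mul_inv_cancel_left]
    rw [hb']
    exact ((((hug.pow_right i).mul_right ((hVc v hvP hvQ).pow_right j)).mul_right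
      ((hVc z hfr.z_mem hzQ).pow_right k)).mul_right (hVc _ ((memV _).1 w.2) (w : Q).2)).eq
  · obtain ⟨u, hu, hu1, hu2⟩ := memW.1 hm
    have hgiQ : g ^ i ∈ Q := by
      have : g ^ i * v ^ j * z ^ k ∈ Q := hu ▸ (u : Q).2
      exact (Q.mul_mem_cancel_right (Q.pow_mem hvQ j)).1
        ((Q.mul_mem_cancel_right (Q.pow_mem hzQ k)).1 this)
    have hpi : p ∣ i := by
      have e := hgconj i
      rw [hcentQ α (g ^ i) hgiQ, mul_inv_cancel_right] at e
      rw [← hord]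
      exact orderOf_dvd_of_pow_eq_one (mul_eq_right.1 e.symm)
    obtain ⟨d, rfl⟩ := hpi
    obtain ⟨l, hl⟩ := hzpow _ (hfr.powp g hgP)
    have hu' : u = vV ^ j * zV ^ (l * d + k) := Subtype.ext (Subtype.ext (by
      rw [hu, pow_mul, ← hl, ← pow_mul, Subgroup.coe_mul, Subgroup.coe_mul,
        SubmonoidClass.coe_pow, SubmonoidClass.coe_pow, SubmonoidClass.coe_pow,
        SubmonoidClass.coe_pow]
      show z ^ (l * d) * v ^ j * z ^ k = v ^ j * z ^ (l * d + k)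
      rw [((hcz (v ^ j) (hfr.le (P.pow_mem hvP j))).pow_left (l * d)).eq, mul_assoc, ← pow_add]))
    rw [hu', map_mul, map_pow, map_pow, hσx, hσt.fix, mul_pow, mul_right_comm, mul_eq_left] at hu1
    have hvj : v ^ j = 1 := by
      have hpj : p ∣ j := by
        rw [← hord, orderOf_dvd_iff_pow_eq_one]
        exact congrArg (fun w : VQ => ((w : Q) : Ω)) hu1
      obtain ⟨e, rfl⟩ := hpj
      rw [pow_mul, hvp, one_pow]
    have hvVj : vV ^ j = 1 := Subtype.ext (Subtype.ext hvj)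
    rw [hu', hvVj, one_mul, map_pow, hpair.tau_z, mul_pow, mul_eq_left, inv_pow, inv_eq_one] at hu2
    have hpm : p ∣ l * d + k := by
      rw [← hτ₁t.orderOf_eq, orderOf_dvd_iff_pow_eq_one, hu2]
    rw [← hu, hu', hvVj, one_mul]
    obtain ⟨e, he⟩ := hpm
    rw [he, pow_mul, hzVp, one_pow]
    rfl
  · -- the inversion extends to `Q ⟨g⟩`
    obtain ⟨hιz, -, -⟩ := hpair.inv_elt
    set ι : G := (s * t₁ * s) ^ 2 with hι
    have ht₁D : t₁ ∈ Dp := Dp.pow_mem htD _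
    have hιD : ι ∈ Dp := Dp.pow_mem (Dp.mul_mem (Dp.mul_mem hsD ht₁D) hsD) 2
    have hιres : res ι = (res s * res t₁ * res s) ^ 2 := by rw [hι, map_pow, map_mul, map_mul]
    obtain ⟨u₀, hu₀⟩ : ∃ u : Q, MulAut.conj u = ((ι * s * ι⁻¹ * s⁻¹ : G) : MulAut Q) := by
      have hm : ι * s * ι⁻¹ * s⁻¹ ∈ I := by
        refine hkill _ (Dp.mul_mem (Dp.mul_mem (Dp.mul_mem hιD hsD) (Dp.inv_mem hιD))
          (Dp.inv_mem hsD)) ?_
        rw [map_mul, map_mul, map_mul, map_inv, map_inv, hιres,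
          IsPair.inv_elt_comm hσt hτ₁t hpair, mul_inv_cancel_right, mul_inv_cancel]
      rw [hI, Subgroup.mem_subgroupOf] at hm
      exact hm
    have hconjι : ∀ y : Q, (((ι : MulAut Q) ((s : MulAut Q) y) : Q) : Ω) =
        (u₀ : Ω) * g * ((ι : MulAut Q) y : Q) * ((u₀ : Ω) * g)⁻¹ := by
      intro y
      have e : (ι : MulAut Q) ((s : MulAut Q) y) =
          MulAut.conj u₀ ((s : MulAut Q) ((ι : MulAut Q) y)) := by
        rw [hu₀]
        simp [MulAut.mul_apply]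
      rw [e]
      show (u₀ : Ω) * (((s : MulAut Q) ((ι : MulAut Q) y) : Q) : Ω) * (u₀ : Ω)⁻¹ = _
      rw [hs, hcjg g hgP hgn]
      group
    set φ : Q →* Ω := Q.subtype.comp ((ι : MulAut Q)).toMonoidHom with hφdef
    have hφ : φ ∈ F.Hom Q := mem_hom_iff.2 ((mem_autGroup hQS).1 ι.2)
    have hN : Q ⊔ Subgroup.zpowers g ≤ extender S Q φ := by
      refine sup_le (le_extender hφ) (Subgroup.zpowers_le.2 (mem_extender.2 ⟨hfr.le hgP, hgn,
        (u₀ : Ω) * g, S.mul_mem (hQS u₀.2) (hfr.le hgP), fun y hy => ?_⟩))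
      show autFun (ι : MulAut Q) (g * y * g⁻¹) = _ * autFun (ι : MulAut Q) y * _
      rw [show g * y * g⁻¹ = (((s : MulAut Q) ⟨y, hy⟩ : Q) : Ω) from (hcjg g hgP hgn ⟨y, hy⟩).symm,
        autFun_coe, hconjι, show autFun (ι : MulAut Q) y = ((ι : MulAut Q) ⟨y, hy⟩ : Q) from
          autFun_coe _ ⟨y, hy⟩]
    obtain ⟨ψ, hψ, hψe⟩ := (receptive_of_fullyNormalized hS hF hfn).2 Q φ hφ (by
      rw [hφdef]
      refine le_antisymm ?_ fun y hy => ?_
      · rintro _ ⟨y, rfl⟩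
        exact SetLike.coe_mem _
      · exact ⟨(ι : MulAut Q)⁻¹ ⟨y, hy⟩, by
          show (((ι : MulAut Q) ((ι : MulAut Q)⁻¹ ⟨y, hy⟩) : Q) : Ω) = y
          rw [MulAut.apply_inv_self]⟩)
    have hf := (isMap_toFun hψ).res hN
    set f := toFun ψ with hfdef
    have hfe : ∀ y : Q, f (y : Ω) = ((ι : MulAut Q) y : Q) := fun y => by
      rw [hfdef, toFun_apply ψ (hN (Subgroup.mem_sup_left y.2)), hψe y y.2]
      rfl
    have hgN : g ∈ Q ⊔ Subgroup.zpowers g := Subgroup.mem_sup_right (Subgroup.mem_zpowers g)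
    have hfgP : f g ∈ P := StronglyClosed.apply_mem hPc
      (hf.res (le_sup_right : Subgroup.zpowers g ≤ Q ⊔ Subgroup.zpowers g))
      (Subgroup.zpowers_le.2 hgP) (Subgroup.mem_zpowers g)
    have hw : ((u₀ : Ω) * g)⁻¹ * f g ∈ Q := by
      refine centralizerIn_le_of_centric hQ.1 (mem_centralizerIn.2
        ⟨S.mul_mem (S.inv_mem (S.mul_mem (hQS u₀.2) (hfr.le hgP))) (hfr.le hfgP), fun y hy => ?_⟩)
      obtain ⟨y', hy'⟩ := (ι : MulAut Q).surjective ⟨y, hy⟩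
      have e1 := hf.map_conj hgN (Subgroup.mem_sup_left y'.2)
      rw [show g * (y' : Ω) * g⁻¹ = (((s : MulAut Q) y' : Q) : Ω) from (hcjg g hgP hgn y').symm,
        hfe, hfe, hconjι, hy'] at e1
      change (u₀ : Ω) * g * y * ((u₀ : Ω) * g)⁻¹ = f g * y * (f g)⁻¹ at e1
      calc y * (((u₀ : Ω) * g)⁻¹ * f g)
          = ((u₀ : Ω) * g)⁻¹ * ((u₀ : Ω) * g * y * ((u₀ : Ω) * g)⁻¹) * f g := by group
        _ = ((u₀ : Ω) * g)⁻¹ * f g * y := by rw [e1]; group
    set a := g⁻¹ * f g with ha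
    have haP : a ∈ P := P.mul_mem (P.inv_mem hgP) hfgP
    have haQ : a ∈ Q := by
      have e : a = g⁻¹ * u₀ * g * (((u₀ : Ω) * g)⁻¹ * f g) := by rw [ha]; group
      rw [e]
      refine Q.mul_mem ?_ hw
      have := (Subgroup.mem_normalizer_iff.1 (Subgroup.inv_mem _ hgn) (u₀ : Ω)).1 u₀.2
      rwa [inv_inv] at this
    obtain ⟨e, he⟩ := hzpow _ (hfr.comm a haP g hgP)
    have hyx : a * g = z ^ e * g * a := by
      rw [he, commutatorElement_def]; group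
    have hfgp : (f g) ^ p = g ^ p := by
      rw [show f g = g * a by rw [ha, mul_inv_cancel_left],
        Grp.mul_pow_class_two hyx ((hcz g (hfr.le hgP)).pow_left e)
          ((hcz a (hfr.le haP)).pow_left e) p, hVpow a haP haQ, mul_one]
      obtain ⟨m, hm⟩ : p ∣ p.choose 2 :=
        hp.out.dvd_choose_self two_ne_zero (lt_of_le_of_ne hp.out.two_le (Ne.symm hp2))
      rw [hm, ← pow_mul, ← mul_assoc, mul_comm e p, mul_assoc, pow_mul, hfr.pow_eq, one_pow,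
        one_mul]
    obtain ⟨l, hl⟩ := hzpow _ (hfr.powp g hgP)
    have hfpow : ∀ m : ℕ, f (g ^ m) = (f g) ^ m := by
      intro m
      induction m with
      | zero => simp [hf.map_one]
      | succ m ih => rw [pow_succ, hf.map_mul (Subgroup.pow_mem _ hgN m) hgN, ih, pow_succ]
    have hzl : f (z ^ l) = (z ^ l)⁻¹ := by
      rw [show z ^ l = (((⟨z, hzQ⟩ : Q) ^ l : Q) : Ω) by simp, hfe, map_pow]
      have e2 : (ι : MulAut Q) ⟨z, hzQ⟩ = (⟨z, hzQ⟩ : Q)⁻¹ := by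
        have := congrArg (fun w : VQ => (w : Q)) hιz
        rw [← hιres] at this
        exact this
      rw [e2]
      simp
    have hfz := hfpow p
    rw [hfgp, ← hl, hzl] at hfz
    rw [← hl]
    have h2 : z ^ (2 * l) = 1 := by
      rw [two_mul, pow_add]
      nth_rewrite 1 [← hfz]
      exact inv_mul_cancel _
    rw [← orderOf_dvd_iff_pow_eq_one] at h2 ⊢
    rw [hord] at h2 ⊢
    exact (Nat.Coprime.dvd_of_dvd_mul_left
      ((Nat.coprime_primes hp.out Nat.prime_two).2 hp2) h2)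

end Cfsg.Agent.Fus
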