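import Cfsg.Agent.Lib.Fus.Alperin

/-!
Essential subgroups are needed to generate a saturated fusion system.
-/

set_option autoImplicit false
set_option linter.style.haveILetI false

open scoped Classical

namespace Cfsg.Agent.Fus

open Subgroup FusionSystem

universe u

variable {Ω : Type u} [Group Ω] {S : Subgroup Ω} (F : FusionSystem S)

/-- The subsystem cut out of `F` by a property of maps which is closed under composition and
inversion and holds for the conjugations. -/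
noncomputable def subsystemOf (C : Subgroup Ω → (Ω → Ω) → Prop)
    (hcongr : ∀ P f g, IsMap F P f → C P f → (∀ x ∈ P, f x = g x) → C P g)
    (hconj : ∀ P g, P ≤ S → g ∈ S → C P (fun x => g * x * g⁻¹))
    (hcomp : ∀ P Q f g, IsMap F P f → IsMap F Q g → (∀ x ∈ P, f x ∈ Q) → C P f → C Q g →
      C P (fun x => g (f x)))
    (hinv : ∀ P f g, IsMap F P f → IsMap F (fimg f P) g → (∀ x ∈ P, g (f x) = x) → C P f →
      C (fimg f P) g) : FusionSystem S where
  Hom P := {φ | φ ∈ F.Hom P ∧ C P (toFun φ)}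
  le_of_mem h := F.le_of_mem h.1
  injective_of_mem h := F.injective_of_mem h.1
  conj_mem := by
    intro P g hP hg
    exact ⟨F.conj_mem hP hg, hcongr _ _ _ (isMap_conj F hP hg) (hconj P g hP hg)
      fun x hx => (toFun_apply (conjHom P g) hx).symm⟩
  comp_mem := by
    intro P Q φ ψ hφ hψ h
    have hfQ : ∀ x ∈ P, toFun φ x ∈ Q := fun x hx => by rw [toFun_apply φ hx]; exact h _
    refine ⟨F.comp_mem hφ.1 hψ.1 h, hcongr _ _ _ ((isMap_toFun hφ.1).comp (isMap_toFun hψ.1) hfQ)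
      (hcomp _ _ _ _ (isMap_toFun hφ.1) (isMap_toFun hψ.1) hfQ hφ.2 hψ.2) fun x hx => ?_⟩
    show toFun ψ (toFun φ x) = _
    rw [toFun_apply ψ (hfQ x hx)]
    refine Eq.trans ?_ (toFun_apply _ hx).symm
    show ψ _ = ψ (φ.codRestrict Q h ⟨x, hx⟩)
    congr 1
    exact Subtype.ext (toFun_apply φ hx)
  inv_mem := by
    intro P φ hφ
    obtain ⟨ψ, hψ, hψe⟩ := F.inv_mem hφ.1
    have hr : φ.range = fimg (toFun φ) P :=
      (isMap_toFun hφ.1).range_eq_fimg fun x => (toFun_coe φ x).symm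
    have key : C (fimg (toFun φ) P) (toFun ψ) := hinv _ _ _ (isMap_toFun hφ.1)
      (hr ▸ isMap_toFun hψ) (fun x hx => ?_) hφ.2
    exact ⟨ψ, ⟨hψ, (congrArg (fun R => C R (toFun ψ)) hr).mpr key⟩, hψe⟩
    rw [toFun_apply φ hx, toFun_apply ψ ⟨⟨x, hx⟩, rfl⟩]
    exact hψe ⟨x, hx⟩

variable {F}

theorem isMap_subsystemOf {C : Subgroup Ω → (Ω → Ω) → Prop} {h₁ h₂ h₃ h₄} {P : Subgroup Ω}
    {f : Ω → Ω} : IsMap (subsystemOf F C h₁ h₂ h₃ h₄) P f ↔ IsMap F P f ∧ C P f := by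
  constructor
  · rintro ⟨φ, hφ, e⟩
    exact ⟨⟨φ, hφ.1, e⟩, h₁ _ _ _ (isMap_toFun hφ.1) hφ.2
      fun x hx => (toFun_apply φ hx).trans (e ⟨x, hx⟩)⟩
  · rintro ⟨⟨φ, hφ, e⟩, hC⟩
    exact ⟨φ, ⟨hφ, h₁ _ _ _ ⟨φ, hφ, e⟩ hC fun x hx =>
      (e ⟨x, hx⟩).symm.trans (toFun_apply φ hx).symm⟩, e⟩

variable {p : ℕ} [Fact p.Prime] [Finite S] (F)

/-- A map of `N_S(P)` carrying `P` to `Q`. -/
def GoodTo (Q P : Subgroup Ω) (g : Ω → Ω) : Prop :=
  IsMap F (normalizerIn S P) g ∧ fimg g P = Q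

/-- The maps whose transport to `Aut_F(Q)` by good maps is a product of extendable
automorphisms. -/
def AvoidQ (Q P : Subgroup Ω) (f : Ω → Ω) : Prop :=
  F.IsConj Q P → ∀ g h, GoodTo F Q P g → GoodTo F Q (fimg f P) h →
    ∃ α ∈ Subgroup.closure (extAuts F Q), ∀ x ∈ P, autFun α (g x) = h (f x)

variable {F}

omit [Fact p.Prime] [Finite S] in
theorem avoidQ_congr {Q P : Subgroup Ω} {f g : Ω → Ω} (hC : AvoidQ F Q P f)
    (e : ∀ x ∈ P, f x = g x) : AvoidQ F Q P g := by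
  intro hc u h hu hh
  rw [← fimg_congr e] at hh
  obtain ⟨α, hα, he⟩ := hC hc u h hu hh
  exact ⟨α, hα, fun x hx => by rw [← e x hx]; exact he x hx⟩

/-- A map defined on a larger subgroup lies in the avoiding subsystem. -/
theorem avoidQ_of_larger (hS : IsPGroup p S) {Q P R : Subgroup Ω} {f : Ω → Ω}
    (hPR : P < R) (hf : IsMap F R f) : AvoidQ F Q P f := by
  intro hc g h hg hh
  have hRS := hf.source_le
  have hPS : P ≤ S := hPR.le.trans hRS
  haveI := finite_of_le hRS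
  haveI := finite_of_le hPS
  set M := normalizerIn R P with hM
  have hlt : P < M := lt_normalizerIn (S := R) (hS.to_le hRS) hPR
  have hMN : M ≤ normalizerIn S P := inf_le_inf_right _ hRS
  have hPM : P ≤ M := hlt.le
  haveI : Finite M := finite_of_le (S := R) inf_le_left
  obtain ⟨g', hg', hg1, hg2, -⟩ := (hg.1.res hMN).exists_inv
  have hgM : Q ≤ fimg g M := hg.2 ▸ fimg_mono g hPM
  have hfM : ∀ y ∈ M, f y ∈ normalizerIn S (fimg f P) := fun y hy =>
    hf.map_normalizerIn hPR.le hy.1 hy.2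
  have hm : IsMap F (fimg g M) (fun y => h (f (g' y))) :=
    (hg'.comp (hf.res inf_le_left) fun y hy => (hg2 y hy).1).comp hh.1
      fun y hy => hfM _ (hg2 y hy).1
  haveI := finite_of_le hm.source_le
  have hQlt : Q < fimg g M := by
    refine lt_of_le_of_ne hgM fun e => ?_
    have h1 : Nat.card (fimg g M) = Nat.card M := (hg.1.res hMN).card_fimg
    have h2 : Nat.card (fimg g P) = Nat.card P := (hg.1.res (le_normalizerIn hPS)).card_fimg
    have h3 := card_lt_of_lt hlt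
    rw [← e, ← hg.2] at h1
    omega
  have hQS : Q ≤ S := hgM.trans hm.source_le
  have himg : fimg (fun y => h (f (g' y))) Q = Q := by
    haveI := finite_of_le hQS
    refine Subgroup.eq_of_le_of_card_ge (fimg_le fun y hy => ?_) (hm.res hgM).card_fimg.ge
    rw [← hg.2] at hy
    obtain ⟨x, hx, rfl⟩ := (hg.1.res (le_normalizerIn hPS)).mem_fimg_iff.1 hy
    show h (f (g' (g x))) ∈ Q
    rw [hg1 x (hPM hx), ← hh.2]
    exact apply_mem_fimg h (apply_mem_fimg f hx)
  obtain ⟨α, -, hαe⟩ := (hm.res hgM).exists_aut himg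
  refine ⟨α, Subgroup.subset_closure (mem_extAuts.2 ⟨_, _, hQlt, hm, fun y hy => (hαe y hy).symm⟩),
    fun x hx => ?_⟩
  have hgx : g x ∈ Q := hg.2 ▸ apply_mem_fimg g hx
  rw [hαe _ hgx, hg1 x (hPM hx)]

/-- The subsystem of `F` in which an essential subgroup has only its extendable automorphisms. -/
theorem exists_system_avoiding (hS : IsPGroup p S) (hF : F.IsSaturated p) {Q : Subgroup Ω}
    (hQ : F.IsEssential p Q) :
    ∃ E : FusionSystem S, (∀ R : Subgroup Ω, R ≤ S → ¬ F.IsConj Q R →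
      F.autGroup R ≤ E.autGroup R) ∧ ¬ F ≤ E := by
  have hQn := hQ.2.1
  have hQS := hQn.1
  haveI := finite_of_le hQS
  have hne := closure_ne_of_essential hS hF hQ
  -- `Q` is a proper subgroup of `S`
  have hQlt : Q < S := by
    refine lt_of_le_of_ne hQS fun e => ?_
    obtain ⟨-, -, hn, Y, hY⟩ := hQ
    haveI := hn
    obtain ⟨T, hT⟩ := exists_sylow_out hS hF hQn
    have hbot : (T : Subgroup (F.autGroup Q ⧸ (Inn Q).subgroupOf (F.autGroup Q))) = ⊥ := by
      rw [eq_bot_iff]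
      intro x hx
      obtain ⟨b, rfl⟩ := QuotientGroup.mk'_surjective _ x
      have hb : b ∈ (T : Subgroup (F.autGroup Q ⧸ (Inn Q).subgroupOf (F.autGroup Q))).comap
        (QuotientGroup.mk' _) := hx
      rw [hT, Subgroup.mem_subgroupOf] at hb
      rw [Subgroup.mem_bot, QuotientGroup.mk'_apply, QuotientGroup.eq_one_iff,
        Subgroup.mem_subgroupOf, inn_eq_autInducedBy]
      have e' : autInducedBy S Q = autInducedBy Q Q := by rw [e]
      exact e' ▸ hb
    have h1 := T.pow_dvd_card_of_pow_dvd_card (n := 1) (by rw [pow_one]; exact hY.1)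
    rw [hbot, Subgroup.card_bot, pow_one] at h1
    exact (Fact.out : p.Prime).not_dvd_one h1
  have ltS : ∀ {P : Subgroup Ω}, F.IsConj Q P → P < S := by
    intro P hP
    refine lt_of_le_of_ne (isConj_le_right hP) fun e => ?_
    have h1 := isConj_card hP
    have h2 := card_lt_of_lt hQlt
    rw [e] at h1
    omega
  have exgood : ∀ {P : Subgroup Ω}, F.IsConj Q P → ∃ g, GoodTo F Q P g := fun hP => by
    obtain ⟨g, hg, hgP, -⟩ := exists_map_to_fullyNormalized hS hF hQn (isConj_symm hP)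
    exact ⟨g, hg, hgP⟩
  let E : FusionSystem S := subsystemOf F (AvoidQ F Q) (fun _ _ _ _ hC e => avoidQ_congr hC e)
    (fun P g hP hg hc => (avoidQ_of_larger hS (ltS hc) (isMap_conj F le_rfl hg)) hc)
    (fun P R f g hf hg hfR hCf hCg hc u h hu hh => by
      have hle : fimg f P ≤ R := fimg_le hfR
      rcases hle.eq_or_lt with he | hlt
      · obtain ⟨k, hk⟩ := exgood (isConj_trans hc hf.isConj)
        obtain ⟨α, hα, hαe⟩ := hCf hc u k hu hk
        rw [hf.fimg_comp g, he] at hh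
        obtain ⟨β, hβ, hβe⟩ := hCg (he ▸ isConj_trans hc hf.isConj) k h (he ▸ hk) hh
        refine ⟨β * α, mul_mem hβ hα, fun x hx => ?_⟩
        rw [autFun_mul _ _ (hu.2 ▸ apply_mem_fimg u hx), hαe x hx, hβe _ (hfR x hx)]
      · obtain ⟨k, hk⟩ := exgood (isConj_trans hc hf.isConj)
        obtain ⟨α, hα, hαe⟩ := hCf hc u k hu hk
        rw [hf.fimg_comp g] at hh
        obtain ⟨β, hβ, hβe⟩ := avoidQ_of_larger (Q := Q) hS hlt hg
          (isConj_trans hc hf.isConj) k h hk hh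
        refine ⟨β * α, mul_mem hβ hα, fun x hx => ?_⟩
        rw [autFun_mul _ _ (hu.2 ▸ apply_mem_fimg u hx), hαe x hx,
          hβe _ (apply_mem_fimg f hx)])
    (fun P f g hf hg hgf hCf hc u h hu hh => by
      have hc' : F.IsConj Q P := isConj_trans hc (isConj_symm hf.isConj)
      have hPe : fimg g (fimg f P) = P := by
        rw [← hf.fimg_comp g, fimg_congr hgf, fimg_id]
      rw [hPe] at hh
      obtain ⟨α, hα, hαe⟩ := hCf hc' h u hh hu
      refine ⟨α⁻¹, inv_mem hα, fun y hy => ?_⟩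
      obtain ⟨x, hx, rfl⟩ := hf.mem_fimg_iff.1 hy
      rw [← hαe x hx, autFun_inv_apply α (hh.2 ▸ apply_mem_fimg h hx), hgf x hx])
  refine ⟨E, fun R hRS hR α hα => ?_, fun hle => hne (le_antisymm (closure_extAuts_le Q) ?_)⟩
  · exact (mem_autGroup hRS).2 (isMap_subsystemOf.2 ⟨(mem_autGroup hRS).1 hα, fun hc => absurd hc hR⟩)
  · intro α hα
    have hm : IsMap E Q (autFun α) := by
      obtain ⟨φ, hφ, e⟩ := ((mem_autGroup hQS).1 hα).exists_hom
      exact ⟨φ, hle Q hφ, e⟩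
    have hid : GoodTo F Q Q (fun x => x) := ⟨isMap_id F inf_le_left, fimg_id Q⟩
    obtain ⟨β, hβ, hβe⟩ := (isMap_subsystemOf.1 hm).2 (isConj_refl F hQS) _ _ hid
      (by rwa [fimg_autFun α])
    have : β = α := mulAut_ext fun x hx => hβe x hx
    exact this ▸ hβ

omit [Fact p.Prime] in
/-- If `Aut_F(S)` is not inner then the automorphism groups of the proper subgroups do not
generate `F`. -/
theorem mem_of_generating_top {𝒬 : Set (Subgroup Ω)}
    (hg : ∀ E : FusionSystem S, (∀ R ∈ 𝒬, F.autGroup R ≤ E.autGroup R) → F ≤ E) (hSQ : S ∉ 𝒬) :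
    F.autGroup S ≤ autInducedBy S S := by
  let C : Subgroup Ω → (Ω → Ω) → Prop := fun P f => P = S → ∃ s ∈ S, ∀ x ∈ P, f x = s * x * s⁻¹
  let E : FusionSystem S := subsystemOf F C
    (fun P f g _ hC e hP => by
      obtain ⟨s, hs, h⟩ := hC hP
      exact ⟨s, hs, fun x hx => (e x hx).symm.trans (h x hx)⟩)
    (fun P g _ hg _ => ⟨g, hg, fun x _ => rfl⟩)
    (fun P R f g hf hg hfR hCf hCg hP => by
      obtain ⟨s, hs, h⟩ := hCf hP
      haveI := finite_of_le hg.source_le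
      have hRS : R = S := by
        refine Subgroup.eq_of_le_of_card_ge hg.source_le ?_
        rw [← hP, ← hf.card_fimg]
        exact Subgroup.card_le_of_le (fimg_le hfR)
      obtain ⟨t, ht, h'⟩ := hCg hRS
      refine ⟨t * s, S.mul_mem ht hs, fun x hx => ?_⟩
      show g (f x) = _
      rw [h' _ (hfR x hx), h x hx]
      group)
    (fun P f g hf hg hgf hCf hP => by
      have hP' : P = S := by
        refine Subgroup.eq_of_le_of_card_ge hf.source_le ?_
        rw [← hP, hf.card_fimg]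
      obtain ⟨s, hs, h⟩ := hCf hP'
      refine ⟨s⁻¹, S.inv_mem hs, fun y hy => ?_⟩
      obtain ⟨x, hx, rfl⟩ := hf.mem_fimg_iff.1 hy
      rw [hgf x hx, h x hx]
      group)
  have hle : F ≤ E := hg E fun R hR α hα => by
    by_cases hRS : R ≤ S
    · exact (mem_autGroup hRS).2
        (isMap_subsystemOf.2 ⟨(mem_autGroup hRS).1 hα, fun e => absurd (e ▸ hR) hSQ⟩)
    · rw [autGroup_eq_bot hRS] at hα
      rw [Subgroup.mem_bot] at hα
      exact hα ▸ one_mem _
  intro α hα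
  obtain ⟨φ, hφ, e⟩ := ((mem_autGroup le_rfl).1 hα).exists_hom
  obtain ⟨s, hs, h⟩ := (isMap_subsystemOf.1 (⟨φ, hle S hφ, e⟩ : IsMap E S (autFun α))).2 rfl
  exact mem_autInducedBy.2 ⟨s, hs, fun x => (autFun_coe α x).symm.trans (h x x.2)⟩

/-- Conjugation-closed generating families are closed under intersection. -/
theorem le_of_inter_generating (hS : IsPGroup p S) (hF : F.IsSaturated p)
    {𝒬₁ 𝒬₂ : Set (Subgroup Ω)}
    (h₁ : ∀ R ∈ 𝒬₁, ∀ R' : Subgroup Ω, F.IsConj R R' → R' ∈ 𝒬₁)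
    (h₂ : ∀ R ∈ 𝒬₂, ∀ R' : Subgroup Ω, F.IsConj R R' → R' ∈ 𝒬₂)
    (hg₁ : ∀ E : FusionSystem S, (∀ R ∈ 𝒬₁, F.autGroup R ≤ E.autGroup R) → F ≤ E)
    (hg₂ : ∀ E : FusionSystem S, (∀ R ∈ 𝒬₂, F.autGroup R ≤ E.autGroup R) → F ≤ E)
    (E : FusionSystem S) (hE : ∀ R ∈ 𝒬₁ ∩ 𝒬₂, F.autGroup R ≤ E.autGroup R) : F ≤ E := by
  have mem : ∀ {𝒬 : Set (Subgroup Ω)}, (∀ R ∈ 𝒬, ∀ R' : Subgroup Ω, F.IsConj R R' → R' ∈ 𝒬) →
      (∀ E : FusionSystem S, (∀ R ∈ 𝒬, F.autGroup R ≤ E.autGroup R) → F ≤ E) →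
      ∀ Q, F.IsEssential p Q → Q ∈ 𝒬 := by
    intro 𝒬 h hg Q hQ
    by_contra hn
    obtain ⟨E', hE', hnle⟩ := exists_system_avoiding hS hF hQ
    refine hnle (hg E' fun R hR => ?_)
    by_cases hRS : R ≤ S
    · exact hE' R hRS fun hc => hn (h R hR Q (isConj_symm hc))
    · rw [autGroup_eq_bot hRS]
      exact bot_le
  intro P φ hφ
  refine mem_hom_iff.2 (alperin hS hF (fun Q f => IsMap E Q f) (fun _ _ _ hf he => hf.congr he)
    (fun _ _ _ _ _ _ hmem hf hg => hf.comp hg hmem) (fun _ _ _ _ hle hf => hf.res hle) ?_ ?_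
    (mem_hom_iff.1 hφ))
  · intro α hα
    by_cases hmem : S ∈ 𝒬₁ ∩ 𝒬₂
    · exact (mem_autGroup le_rfl).1 (hE S hmem hα)
    · have hin : F.autGroup S ≤ autInducedBy S S := by
        rw [Set.mem_inter_iff, not_and_or] at hmem
        rcases hmem with h | h
        · exact mem_of_generating_top hg₁ h
        · exact mem_of_generating_top hg₂ h
      exact (mem_autGroup le_rfl).1 (autInducedBy_le_autGroup E le_rfl (hin hα))
  · intro Q hQ α hα
    exact (mem_autGroup hQ.2.1.1).1 (hE Q ⟨mem h₁ hg₁ Q hQ, mem h₂ hg₂ Q hQ⟩ hα)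

end Cfsg.Agent.Fus
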