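import Mathlib

/-!
Groups of paths in a graph with a group action: an extension of a free group in which every finite
subgroup fixes a vertex of the covering tree.
-/

set_option autoImplicit false
set_option linter.style.haveILetI false
set_option linter.unusedSectionVars false

open scoped Classical

universe u v

namespace Cfsg.Agent.Fus.GraphPaths

variable {V E : Type u} (src tgt : E → V)

/-- The first vertex of a letter. -/
def start (l : E × Bool) : V := if l.2 then src l.1 else tgt l.1

/-- The last vertex of a letter. -/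
def finish (l : E × Bool) : V := if l.2 then tgt l.1 else src l.1

/-- A list of letters is a chain from `a` to `b`. -/
def Chain : V → List (E × Bool) → V → Prop
  | a, [], b => a = b
  | a, l :: L, b => start src tgt l = a ∧ Chain (finish src tgt l) L b

theorem start_not (e : E) (c : Bool) : start src tgt (e, !c) = finish src tgt (e, c) := by
  cases c <;> simp [start, finish]

theorem finish_not (e : E) (c : Bool) : finish src tgt (e, !c) = start src tgt (e, c) := by
  cases c <;> simp [start, finish]

theorem chain_append : ∀ {L M : List (E × Bool)} {a c : V},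
    Chain src tgt a (L ++ M) c ↔ ∃ b, Chain src tgt a L b ∧ Chain src tgt b M c
  | [], M, a, c => by simp [Chain]
  | l :: L, M, a, c => by
    rw [List.cons_append, Chain, chain_append (L := L)]
    constructor
    · rintro ⟨h, b, h1, h2⟩; exact ⟨b, ⟨h, h1⟩, h2⟩
    · rintro ⟨b, ⟨h, h1⟩, h2⟩; exact ⟨h, b, h1, h2⟩

theorem chain_unique : ∀ {L : List (E × Bool)} {a b b' : V},
    Chain src tgt a L b → Chain src tgt a L b' → b = b'
  | [], _, _, _, h, h' => h.symm.trans h'
  | _ :: _, _, _, _, h, h' => chain_unique h.2 h'.2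

theorem chain_invRev : ∀ {L : List (E × Bool)} {a b : V},
    Chain src tgt a L b → Chain src tgt b (FreeGroup.invRev L) a
  | [], _, _, h => h.symm
  | l :: L, a, b, h => by
    rw [FreeGroup.invRev_cons, chain_append]
    refine ⟨_, chain_invRev h.2, ?_⟩
    obtain ⟨e, c⟩ := l
    refine ⟨?_, ?_⟩
    · exact start_not src tgt e c
    · exact (finish_not src tgt e c).trans h.1

theorem chain_step {L M : List (E × Bool)} (h : FreeGroup.Red.Step L M) {a b : V}
    (hc : Chain src tgt a L b) : Chain src tgt a M b := by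
  cases h with
  | @not L₁ L₂ x c =>
    obtain ⟨m, h1, hm, -, h2⟩ := (chain_append src tgt).1 hc
    refine (chain_append src tgt).2 ⟨m, h1, ?_⟩
    rw [finish_not, hm] at h2
    exact h2

theorem chain_red {L M : List (E × Bool)} (h : FreeGroup.Red L M) {a b : V}
    (hc : Chain src tgt a L b) : Chain src tgt a M b := by
  induction h with
  | refl => exact hc
  | tail _ hs ih => exact chain_step src tgt hs ih

/-- The word is a path from `a` to `b`. -/
def IsPath (a : V) (w : FreeGroup E) (b : V) : Prop := Chain src tgt a w.toWord b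

variable {src tgt}

theorem isPath_mk {L : List (E × Bool)} {a b : V} (h : Chain src tgt a L b) :
    IsPath src tgt a (FreeGroup.mk L) b := by
  unfold IsPath
  rw [FreeGroup.toWord_mk]
  exact chain_red src tgt FreeGroup.reduce.red h

theorem isPath_one (a : V) : IsPath src tgt a 1 a := by
  unfold IsPath
  rw [FreeGroup.toWord_one]
  rfl

theorem IsPath.mul {a b c : V} {u w : FreeGroup E} (h : IsPath src tgt a u b)
    (h' : IsPath src tgt b w c) : IsPath src tgt a (u * w) c := by
  have := isPath_mk ((chain_append src tgt).2 ⟨b, h, h'⟩)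
  rwa [← FreeGroup.mul_mk, FreeGroup.mk_toWord, FreeGroup.mk_toWord] at this

theorem IsPath.inv {a b : V} {u : FreeGroup E} (h : IsPath src tgt a u b) :
    IsPath src tgt b u⁻¹ a := by
  have := isPath_mk (chain_invRev src tgt h)
  rwa [← FreeGroup.inv_mk, FreeGroup.mk_toWord] at this

theorem IsPath.unique {a b b' : V} {u : FreeGroup E} (h : IsPath src tgt a u b)
    (h' : IsPath src tgt a u b') : b = b' := chain_unique src tgt h h'

theorem isPath_of {e : E} : IsPath src tgt (src e) (FreeGroup.of e) (tgt e) :=
  isPath_mk (L := [(e, true)]) ⟨by simp [start], by simp [Chain, finish]⟩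

theorem toWord_map {f : E → E} (hf : Function.Injective f) (w : FreeGroup E) :
    (FreeGroup.map f w).toWord = w.toWord.map fun x => (f x.1, x.2) := by
  conv_lhs => rw [← FreeGroup.mk_toWord (x := w), FreeGroup.map.mk, FreeGroup.toWord_mk]
  refine FreeGroup.IsReduced.reduce_eq ?_
  unfold FreeGroup.IsReduced
  rw [List.isChain_map]
  exact FreeGroup.isReduced_toWord.imp fun _ _ h hx => h (hf hx)

/-! ### Distances -/

/-- The length of a word. -/
noncomputable def len (w : FreeGroup E) : ℕ := w.toWord.length

theorem len_map {f : E → E} (hf : Function.Injective f) (w : FreeGroup E) :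
    len (FreeGroup.map f w) = len w := by rw [len, len, toWord_map hf, List.length_map]

/-- Between two points the distance to any point is strictly convex. -/
theorem len_convex {x : E × Bool} {r : List (E × Bool)} (hr : r ≠ [])
    (hred : FreeGroup.IsReduced (x :: r)) (o : FreeGroup E) :
    len ((FreeGroup.mk [x])⁻¹ * o) < max (len o) (len ((FreeGroup.mk (x :: r))⁻¹ * o)) := by
  obtain ⟨e, c⟩ := x
  rcases ho : o.toWord with _ | ⟨y, o'⟩
  · have h : o = 1 := FreeGroup.toWord_eq_nil_iff.1 ho
    subst h
    refine lt_max_of_lt_right ?_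
    rw [mul_one, mul_one, FreeGroup.inv_mk, FreeGroup.inv_mk, len, len, FreeGroup.toWord_mk,
      FreeGroup.toWord_mk, FreeGroup.IsReduced.reduce_eq (by simp [FreeGroup.IsReduced, FreeGroup.invRev]),
      FreeGroup.reduce_invRev, hred.reduce_eq,
      FreeGroup.invRev_length, FreeGroup.invRev_length]
    cases r with
    | nil => exact absurd rfl hr
    | cons a l => simp
  · have hoe : o = FreeGroup.mk (y :: o') := by rw [← ho, FreeGroup.mk_toWord]
    have hored : FreeGroup.IsReduced (y :: o') := ho ▸ FreeGroup.isReduced_toWord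
    have hlo : len o = o'.length + 1 := by rw [len, ho]; rfl
    by_cases hy : y = (e, c)
    · refine lt_max_of_lt_left ?_
      subst hy
      rw [hlo, hoe, FreeGroup.inv_mk, FreeGroup.mul_mk, len, FreeGroup.toWord_mk]
      have h1 : FreeGroup.Red ((FreeGroup.invRev [(e, c)]) ++ (e, c) :: o') o' := by
        simp only [FreeGroup.invRev, List.map_cons, List.map_nil, List.reverse_singleton,
          List.singleton_append]
        exact FreeGroup.Red.Step.cons_not_rev.to_red
      rw [FreeGroup.reduce.eq_of_red h1,
        (hored.infix (List.suffix_cons _ _).isInfix).reduce_eq]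
      exact Nat.lt_succ_self _
    · refine lt_max_of_lt_right ?_
      have h1 : FreeGroup.IsReduced ((e, !c) :: y :: o') := by
        refine FreeGroup.isReduced_cons_cons.2 ⟨fun h => ?_, hored⟩
        simp only at h ⊢
        by_contra hc
        refine hy (Prod.ext h.symm ?_)
        revert hc
        cases c <;> cases y.2 <;> simp
      have h2 : FreeGroup.IsReduced (FreeGroup.invRev r ++ [(e, !c)]) := by
        have := FreeGroup.isReduced_iff_reduce_eq.2
          (FreeGroup.reduce_invRev.trans (congrArg FreeGroup.invRev hred.reduce_eq))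
        rwa [FreeGroup.invRev_cons, show FreeGroup.invRev [(e, c)] = [(e, !c)] from rfl] at this
      have h3 : FreeGroup.IsReduced (FreeGroup.invRev r ++ [(e, !c)] ++ y :: o') :=
        FreeGroup.IsReduced.append_overlap h2 h1 (by simp)
      rw [hoe, FreeGroup.inv_mk, FreeGroup.inv_mk, FreeGroup.mul_mk, FreeGroup.mul_mk,
        show FreeGroup.invRev [(e, c)] = [(e, !c)] from rfl,
        show FreeGroup.invRev ((e, c) :: r) = FreeGroup.invRev r ++ [(e, !c)] by
          simp [FreeGroup.invRev], len, len,
        FreeGroup.toWord_mk, FreeGroup.toWord_mk, List.singleton_append, h1.reduce_eq, h3.reduce_eq]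
      simp only [List.length_append, List.length_cons, List.length_nil, FreeGroup.invRev_length]
      have : 0 < r.length := List.length_pos_of_ne_nil hr
      omega

/-! ### The action and the group -/

variable {K : Type u} [Group K] [MulAction K E] [MulAction K V]

/-- The action on the free group. -/
noncomputable def act : K →* MulAut (FreeGroup E) where
  toFun k := FreeGroup.freeGroupCongr (MulAction.toPerm k)
  map_one' := MulEquiv.ext fun w => by
    simp [MulAction.toPerm]
  map_mul' a b := MulEquiv.ext fun w => by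
    simp only [FreeGroup.freeGroupCongr_apply, MulAut.mul_apply, FreeGroup.map.comp]
    congr 2
    funext e
    exact mul_smul a b e

theorem act_apply (k : K) (w : FreeGroup E) : act k w = FreeGroup.map (k • ·) w := rfl

theorem toWord_act (k : K) (w : FreeGroup E) :
    (act k w).toWord = w.toWord.map fun x => (k • x.1, x.2) :=
  toWord_map (MulAction.injective k) w

variable (src tgt)

/-- The hypotheses: the ends are equivariant. -/
structure Equivariant : Prop where
  src : ∀ (k : K) e, src (k • e) = k • src e
  tgt : ∀ (k : K) e, tgt (k • e) = k • tgt e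

variable {src tgt}

theorem IsPath.act (hq : Equivariant (K := K) src tgt) (k : K) {a b : V} {w : FreeGroup E}
    (h : IsPath src tgt a w b) : IsPath src tgt (k • a) (act k w) (k • b) := by
  unfold IsPath at h ⊢
  rw [toWord_act]
  generalize w.toWord = L at h
  induction L generalizing a with
  | nil => exact congrArg _ h
  | cons l L ih =>
    obtain ⟨e, c⟩ := l
    refine ⟨?_, ?_⟩
    · rw [← h.1]
      cases c <;> simp [start, hq.src, hq.tgt]
    · have := ih h.2
      cases c <;> simp [finish, hq.src, hq.tgt] at this ⊢ <;> exact this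

/-- The group of the pairs `(w, k)` with `w` a path from the base vertex to its image under `k`. -/
noncomputable def pathGroup (hq : Equivariant (K := K) src tgt) (v₀ : V) :
    Subgroup (FreeGroup E ⋊[act (K := K)] K) where
  carrier := {g | IsPath src tgt v₀ g.left (g.right • v₀)}
  mul_mem' := by
    rintro g h (hg : IsPath src tgt v₀ g.left (g.right • v₀)) (hh : IsPath src tgt v₀ h.left _)
    show IsPath src tgt v₀ (g.left * GraphPaths.act g.right h.left) ((g.right * h.right) • v₀)
    rw [mul_smul]
    exact hg.mul (hh.act hq g.right)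
  one_mem' := by
    show IsPath src tgt v₀ 1 ((1 : K) • v₀)
    rw [one_smul]
    exact isPath_one v₀
  inv_mem' := by
    rintro g (hg : IsPath src tgt v₀ g.left (g.right • v₀))
    show IsPath src tgt v₀ (GraphPaths.act g.right⁻¹ g.left⁻¹) (g.right⁻¹ • v₀)
    have := hg.inv.act hq g.right⁻¹
    rwa [inv_smul_smul] at this

theorem mem_pathGroup {hq : Equivariant (K := K) src tgt} {v₀ : V}
    {g : FreeGroup E ⋊[act (K := K)] K} :
    g ∈ pathGroup hq v₀ ↔ IsPath src tgt v₀ g.left (g.right • v₀) := Iff.rfl

/-- A finite subgroup fixes a vertex, which is the end of some path. -/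
theorem exists_fixed_path (hq : Equivariant (K := K) src tgt) (v₀ : V)
    {H : Subgroup (FreeGroup E ⋊[act (K := K)] K)} [Finite H] (hH : H ≤ pathGroup hq v₀) :
    ∃ (u : FreeGroup E) (b : V), IsPath src tgt v₀ u b ∧
      ∀ h ∈ H, h.left * act h.right u = u := by
  haveI := Fintype.ofFinite H
  let r : FreeGroup E → ℕ := fun u =>
    Finset.univ.sup fun h : H => len (u⁻¹ * (h : FreeGroup E ⋊[act (K := K)] K).left)
  obtain ⟨u, ⟨b, hu⟩, hmin⟩ := (InvImage.wf r wellFounded_lt).has_min
    {u | ∃ b, IsPath src tgt v₀ u b} ⟨1, v₀, isPath_one v₀⟩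
  have hmin' : ∀ v, (∃ b, IsPath src tgt v₀ v b) → r u ≤ r v := fun v hv => not_lt.1 (hmin v hv)
  let mv : H → FreeGroup E → FreeGroup E := fun h v =>
    (h : FreeGroup E ⋊[act (K := K)] K).left * act (h : FreeGroup E ⋊[act (K := K)] K).right v
  have hmvr : ∀ h v, r (mv h v) = r v := by
    intro h v
    apply le_antisymm
    · refine Finset.sup_le fun h' _ => ?_
      refine le_of_eq_of_le ?_ (Finset.le_sup (f := fun k : H =>
        len (v⁻¹ * (k : FreeGroup E ⋊[act (K := K)] K).left)) (Finset.mem_univ (h⁻¹ * h')))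
      rw [← len_map (f := fun e : E => ((h : FreeGroup E ⋊[act (K := K)] K).right • e))
        (MulAction.injective _) (v⁻¹ * _), ← act_apply, map_mul, map_inv]
      congr 1
      have hcan : ∀ (k : K) (x : FreeGroup E), GraphPaths.act k (GraphPaths.act k⁻¹ x) = x :=
        fun k x => by rw [← MulAut.mul_apply, ← map_mul, mul_inv_cancel, map_one]; rfl
      simp only [mv, Subgroup.coe_mul, Subgroup.coe_inv, SemidirectProduct.mul_left,
        SemidirectProduct.inv_left, SemidirectProduct.inv_right, mul_inv_rev, map_mul, hcan]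
      group
    · refine Finset.sup_le fun h' _ => ?_
      refine le_of_eq_of_le ?_ (Finset.le_sup (f := fun k : H =>
        len ((mv h v)⁻¹ * (k : FreeGroup E ⋊[act (K := K)] K).left)) (Finset.mem_univ (h * h')))
      rw [← len_map (f := fun e : E => ((h : FreeGroup E ⋊[act (K := K)] K).right • e))
        (MulAction.injective _) (v⁻¹ * _), ← act_apply, map_mul, map_inv]
      congr 1
      simp only [mv, Subgroup.coe_mul, SemidirectProduct.mul_left, mul_inv_rev]
      group
  have hmvp : ∀ (h : H) v, (∃ b, IsPath src tgt v₀ v b) →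
      ∃ b, IsPath src tgt v₀ (mv h v) b := fun h v ⟨b, hb⟩ =>
    ⟨_, (mem_pathGroup.1 (hH h.2)).mul (hb.act hq _)⟩
  have hclose : ∀ v, (∃ b, IsPath src tgt v₀ v b) → r v = r u → len (u⁻¹ * v) ≤ 1 := by
    rintro v ⟨b', hv⟩ hrv
    by_contra hlen
    have hp : Chain src tgt b (u⁻¹ * v).toWord b' := hu.inv.mul hv
    rcases hw : (u⁻¹ * v).toWord with _ | ⟨x, t⟩
    · rw [len, hw] at hlen; simp at hlen
    have ht : t ≠ [] := fun e => hlen (by rw [len, hw, e]; simp)
    rw [hw] at hp
    obtain ⟨m, hm⟩ : ∃ m, IsPath src tgt v₀ (u * FreeGroup.mk [x]) m :=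
      ⟨_, hu.mul (isPath_mk (L := [x]) ⟨hp.1, rfl⟩)⟩
    have hlt : r (u * FreeGroup.mk [x]) < r u := by
      have hwe : u⁻¹ * v = FreeGroup.mk (x :: t) := by rw [← hw, FreeGroup.mk_toWord]
      have hred : FreeGroup.IsReduced (x :: t) := hw ▸ FreeGroup.isReduced_toWord
      have hpt : ∀ h' : H, len ((u * FreeGroup.mk [x])⁻¹ *
          (h' : FreeGroup E ⋊[act (K := K)] K).left) < r u := by
        intro h'
        refine lt_of_lt_of_le ?_ (max_le (a := len (u⁻¹ * (h' : FreeGroup E ⋊[act (K := K)] K).left))
          (b := len (v⁻¹ * (h' : FreeGroup E ⋊[act (K := K)] K).left)) ?_ ?_)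
        · rw [mul_inv_rev, mul_assoc]
          refine lt_of_lt_of_eq (len_convex ht hred _) ?_
          rw [← hwe]
          group
        · exact Finset.le_sup (f := fun k : H =>
            len (u⁻¹ * (k : FreeGroup E ⋊[act (K := K)] K).left)) (Finset.mem_univ h')
        · exact hrv ▸ Finset.le_sup (f := fun k : H =>
            len (v⁻¹ * (k : FreeGroup E ⋊[act (K := K)] K).left)) (Finset.mem_univ h')
      refine (Finset.sup_lt_iff ?_).2 fun h' _ => hpt h'
      exact lt_of_le_of_lt (Nat.zero_le _) (hpt 1)
    exact absurd (hmin' _ ⟨m, hm⟩) (not_le.2 hlt)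
  refine ⟨u, b, hu, fun h hh => ?_⟩
  have hne : len (u⁻¹ * mv ⟨h, hh⟩ u) ≤ 1 := hclose _ (hmvp _ u ⟨b, hu⟩) (hmvr _ u)
  have hne2 : len (u⁻¹ * mv ⟨h, hh⟩ (mv ⟨h, hh⟩ u)) ≤ 1 :=
    hclose _ (hmvp _ _ (hmvp _ u ⟨b, hu⟩)) ((hmvr _ _).trans (hmvr _ u))
  rcases hd : (u⁻¹ * mv ⟨h, hh⟩ u).toWord with _ | ⟨⟨e, c⟩, t⟩
  · exact (inv_mul_eq_one.1 (FreeGroup.toWord_eq_nil_iff.1 hd)).symm
  exfalso
  rw [len, hd] at hne
  have ht : t = [] := by simpa using hne
  subst ht
  have hde : u⁻¹ * mv ⟨h, hh⟩ u = FreeGroup.mk [(e, c)] := by rw [← hd, FreeGroup.mk_toWord]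
  have h2 : u⁻¹ * mv ⟨h, hh⟩ (mv ⟨h, hh⟩ u) = FreeGroup.mk [(e, c), (h.right • e, c)] := by
    have hu' : mv ⟨h, hh⟩ u = u * FreeGroup.mk [(e, c)] := by rw [← hde]; group
    conv_lhs => rw [hu']
    simp only [mv, map_mul, ← mul_assoc]
    rw [show u⁻¹ * h.left * GraphPaths.act h.right u = u⁻¹ * mv ⟨h, hh⟩ u from mul_assoc _ _ _, hde,
      act_apply, FreeGroup.map.mk, FreeGroup.mul_mk]
    rfl
  rw [h2, len, FreeGroup.toWord_mk, FreeGroup.IsReduced.reduce_eq
    (show FreeGroup.IsReduced [(e, c), (h.right • e, c)] from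
      FreeGroup.isReduced_cons_cons.2 ⟨fun _ => rfl, by simp [FreeGroup.IsReduced]⟩)] at hne2
  simp at hne2

/-- The elements of trivial image form a free group. -/
theorem isFreeGroup_of_right_one {G : Subgroup (FreeGroup E ⋊[act (K := K)] K)} (N : Subgroup G)
    (hN : ∀ g ∈ N, (g : FreeGroup E ⋊[act (K := K)] K).right = 1) : IsFreeGroup N := by
  let f : N →* FreeGroup E :=
    MonoidHom.mk' (fun g => ((g : G) : FreeGroup E ⋊[act (K := K)] K).left) fun a b => by
      simp [hN _ a.2]
  have hf : Function.Injective f := fun a b hab =>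
    Subtype.ext (Subtype.ext (SemidirectProduct.ext hab ((hN _ a.2).trans (hN _ b.2).symm)))
  haveI : IsFreeGroup f.range := subgroupIsFreeOfIsFree _
  exact IsFreeGroup.ofMulEquiv (MonoidHom.ofInjective hf).symm

end Cfsg.Agent.Fus.GraphPaths
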