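import Mathlib
import Cfsg.Agent.Lib.Fus.GraphPaths
import Cfsg.Agent.Lib.Fus.Normal

/-!
Every fusion system on a finite group is the fusion system of a virtually free group in which every
finite subgroup is conjugate into the carrier.
-/

set_option autoImplicit false
set_option linter.style.haveILetI false
set_option linter.unusedSectionVars false

open scoped Classical

universe u

namespace Cfsg.Agent.Fus.GraphRealize

open Subgroup FusionSystem GraphPaths

variable {Ω : Type u} [Group Ω] {S : Subgroup Ω}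

/-- The regular representation. -/
def reg (S : Subgroup Ω) : S →* Equiv.Perm S := MulAction.toPermHom S S

theorem reg_apply (x s : S) : reg S x s = x * s := rfl

theorem reg_injective : Function.Injective (reg S) := fun a b h => by
  simpa [reg_apply] using congrArg (fun σ : Equiv.Perm S => σ 1) h

/-- An injective homomorphism between subgroups of a finite group is induced by a permutation. -/
theorem exists_twist {G : Type u} [Group G] [Finite G] {A : Subgroup G} (f : A →* G)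
    (hf : Function.Injective f) :
    ∃ τ : Equiv.Perm G, ∀ (a : A) (s : G), τ (f a * s) = (a : G) * τ s := by
  let ψ : f.range ≃* A := (MonoidHom.ofInjective hf).symm
  have hψ : ∀ a : A, ψ ⟨f a, a, rfl⟩ = a := fun a => (MonoidHom.ofInjective hf).symm_apply_apply a
  obtain ⟨e⟩ : Nonempty (G ⧸ f.range ≃ G ⧸ A) := Finite.card_eq.1 <| by
    have h1 := A.card_eq_card_quotient_mul_card_subgroup
    rw [f.range.card_eq_card_quotient_mul_card_subgroup,
      ← Nat.card_congr (MonoidHom.ofInjective hf).toEquiv] at h1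
    exact Nat.eq_of_mul_eq_mul_right Nat.card_pos h1
  have hmem : ∀ s : G, (Quotient.out (s : G ⧸ f.range))⁻¹ * s ∈ f.range := fun s =>
    QuotientGroup.eq.1 (QuotientGroup.out_eq' _)
  let μ : G → G := fun s => Quotient.out (e (s : G ⧸ f.range)) *
    ((ψ ⟨_, hmem s⟩ : A) : G)
  have hμ : ∀ (s : G) (b : f.range), μ (s * (b : G)) = μ s * ((ψ b : A) : G) := by
    intro s b
    have hc : ((s * (b : G) : G) : G ⧸ f.range) = (s : G ⧸ f.range) :=
      QuotientGroup.mk_mul_of_mem s b.2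
    show Quotient.out (e _) * _ = Quotient.out (e _) * _ * _
    rw [mul_assoc, ← Subgroup.coe_mul, ← map_mul]
    congr 3
    refine Subtype.ext ?_
    show (Quotient.out _)⁻¹ * (s * (b : G)) = (Quotient.out _)⁻¹ * s * (b : G)
    rw [hc, mul_assoc]
  have hinj : Function.Injective μ := by
    intro s t h
    have hcl : ∀ r, ((μ r : G) : G ⧸ A) = e (r : G ⧸ f.range) := fun r => by
      show ((Quotient.out (e (r : G ⧸ f.range)) * _ : G) : G ⧸ A) = _
      rw [QuotientGroup.mk_mul_of_mem _ (SetLike.coe_mem _), QuotientGroup.out_eq']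
    have hst : (s : G ⧸ f.range) = t := e.injective (by rw [← hcl, ← hcl, h])
    obtain ⟨b, hb⟩ : ∃ b : f.range, t = s * (b : G) :=
      ⟨⟨_, QuotientGroup.eq.1 hst⟩, (mul_inv_cancel_left s t).symm⟩
    rw [hb, hμ] at h
    have h1 : ψ b = 1 := Subtype.ext (mul_eq_left.1 h.symm)
    rw [hb, (map_eq_one_iff ψ ψ.injective).1 h1, Subgroup.coe_one, mul_one]
  clear_value μ
  refine ⟨Equiv.ofBijective (fun s => (μ s⁻¹)⁻¹) ((Finite.injective_iff_bijective).1
    (inv_injective.comp (hinj.comp inv_injective))), fun a s => ?_⟩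
  show (μ (f a * s)⁻¹)⁻¹ = a * (μ s⁻¹)⁻¹
  rw [mul_inv_rev, ← map_inv, show f a⁻¹ = ((⟨f a⁻¹, a⁻¹, rfl⟩ : f.range) : G) from rfl, hμ,
    hψ, mul_inv_rev, Subgroup.coe_inv, inv_inv]

variable (F : FusionSystem S)

/-- The maps of the system. -/
def Idx : Type u := {d : Σ P : Subgroup Ω, (P →* Ω) // d.2 ∈ F.Hom d.1}

variable {F}

theorem Idx.le (d : Idx F) : d.1.1 ≤ S := (F.le_of_mem d.2).1

/-- The subgroup of the permutation group attached to a map. -/
def stab (d : Idx F) : Subgroup (Equiv.Perm S) := (d.1.1.subgroupOf S).map (reg S)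

variable [Finite S]

theorem exists_perm (d : Idx F) : ∃ τ : Equiv.Perm S, ∀ x y : S, (x : Ω) ∈ d.1.1 →
    (y : Ω) = toFun d.1.2 x → reg S x * τ = τ * reg S y := by
  obtain ⟨⟨P, φ⟩, hφ⟩ := d
  obtain ⟨hP, hφS⟩ := F.le_of_mem hφ
  let f : P.subgroupOf S →* S :=
    (φ.comp (Subgroup.subgroupOfEquivOfLe hP).toMonoidHom).codRestrict S fun x => hφS _
  have hf : Function.Injective f := fun a b h =>
    (Subgroup.subgroupOfEquivOfLe hP).injective (F.injective_of_mem hφ (congrArg Subtype.val h))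
  obtain ⟨τ, hτ⟩ := exists_twist f hf
  refine ⟨τ, fun x y hx hy => Equiv.ext fun s => ?_⟩
  have hy' : y = f ⟨x, hx⟩ := Subtype.ext (hy.trans (toFun_coe φ ⟨x, hx⟩))
  show (x : S) * τ s = τ (y * s)
  rw [hy', hτ]

/-- The permutation attached to a map. -/
noncomputable def perm (d : Idx F) : Equiv.Perm S := (exists_perm d).choose

theorem perm_spec (d : Idx F) {x y : S} (hx : (x : Ω) ∈ d.1.1) (hy : (y : Ω) = toFun d.1.2 x) :
    reg S x * perm d = perm d * reg S y := (exists_perm d).choose_spec x y hx hy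

variable (F)

/-- The vertices. -/
abbrev Vert : Type u := Equiv.Perm S ⧸ (reg S).range

/-- The edges. -/
abbrev Edge : Type u := Σ d : Idx F, Equiv.Perm S ⧸ stab d

variable {F}

/-- The first end. -/
def srcMap (e : Edge F) : Vert (S := S) :=
  Subgroup.quotientMapOfLE (Subgroup.map_le_range _ _) e.2

/-- The second end. -/
noncomputable def tgtMap (e : Edge F) : Vert (S := S) :=
  Quotient.liftOn e.2 (fun k => ((k * perm e.1 : Equiv.Perm S) : Vert (S := S))) fun a b h => by
    obtain ⟨x, hx, hxe⟩ := (QuotientGroup.leftRel_apply.1 h : a⁻¹ * b ∈ stab e.1)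
    obtain ⟨y, hy⟩ : ∃ y : S, (y : Ω) = toFun e.1.1.2 x :=
      ⟨⟨_, (isMap_toFun e.1.2).apply_mem hx⟩, rfl⟩
    refine QuotientGroup.eq.2 ⟨y, ?_⟩
    rw [show b = a * reg S x by rw [hxe]; group, mul_assoc a, perm_spec e.1 hx hy]
    group

theorem srcMap_mk (d : Idx F) (k : Equiv.Perm S) :
    srcMap (⟨d, (k : Equiv.Perm S ⧸ stab d)⟩ : Edge F) = (k : Vert (S := S)) := rfl

theorem tgtMap_mk (d : Idx F) (k : Equiv.Perm S) :
    tgtMap (⟨d, (k : Equiv.Perm S ⧸ stab d)⟩ : Edge F) =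
      ((k * perm d : Equiv.Perm S) : Vert (S := S)) := rfl

theorem equivariant : Equivariant (K := Equiv.Perm S) (srcMap (F := F)) tgtMap := by
  constructor
  · rintro k ⟨d, c⟩
    induction c using QuotientGroup.induction_on
    rfl
  · rintro k ⟨d, c⟩
    induction c using QuotientGroup.induction_on with
    | _ c => exact congrArg _ (mul_assoc k c (perm d))

theorem rel_change {Q : Subgroup Ω} {f : Ω → Ω} {j k : Equiv.Perm S} (hf : IsMap F Q f)
    (hj : ∀ q y : S, (q : Ω) ∈ Q → (y : Ω) = f q → reg S q * j = j * reg S y)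
    (h : (j : Vert (S := S)) = k) :
    ∃ f', IsMap F Q f' ∧
      ∀ q y : S, (q : Ω) ∈ Q → (y : Ω) = f' q → reg S q * k = k * reg S y := by
  obtain ⟨s, hs⟩ := QuotientGroup.eq.1 h
  have hk : k = j * reg S s := by rw [hs]; group
  refine ⟨fun x => (s : Ω)⁻¹ * f x * (s : Ω)⁻¹⁻¹, hf.comp (isMap_conj F hf.fimg_le_S (S.inv_mem s.2))
    fun x hx => apply_mem_fimg f hx, fun q y hq hy => ?_⟩
  obtain ⟨z, hz⟩ : ∃ z : S, (z : Ω) = f q := ⟨⟨_, hf.apply_mem hq⟩, rfl⟩
  have hy' : y = s⁻¹ * z * s⁻¹⁻¹ := Subtype.ext (by simp [hy, hz])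
  rw [hk, ← mul_assoc, hj q z hq hz, hy', mul_assoc, mul_assoc, ← map_mul, ← map_mul]
  congr 2
  group

theorem walk {Q : Subgroup Ω} :
    ∀ (L : List (Edge F × Bool)) (a b : Vert (S := S)),
    GraphPaths.Chain (srcMap (F := F)) tgtMap a L b →
    (∀ l ∈ L, ∀ q : S, (q : Ω) ∈ Q → reg S q • l.1 = l.1) →
    ∀ j : Equiv.Perm S, a = (j : Vert (S := S)) → ∀ f, IsMap F Q f →
    (∀ q y : S, (q : Ω) ∈ Q → (y : Ω) = f q → reg S q * j = j * reg S y) →
    ∀ k : Equiv.Perm S, b = (k : Vert (S := S)) → ∃ f', IsMap F Q f' ∧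
      ∀ q y : S, (q : Ω) ∈ Q → (y : Ω) = f' q → reg S q * k = k * reg S y := by
  intro L
  induction L with
  | nil => exact fun a b h _ j ha f hf hj k hk => rel_change hf hj (ha.symm.trans (Eq.trans h hk))
  | cons l L ih =>
    intro a b h hfix j ha f hf hj k hk
    obtain ⟨⟨d, c'⟩, s⟩ := l
    obtain ⟨c, rfl⟩ := QuotientGroup.mk_surjective c'
    have hA : ∀ q : S, (q : Ω) ∈ Q → ∃ x : S, (x : Ω) ∈ d.1.1 ∧ reg S q * c = c * reg S x := by
      intro q hq
      have h1 := hfix _ List.mem_cons_self q hq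
      have h2 : ((reg S q * c : Equiv.Perm S) : Equiv.Perm S ⧸ stab d) = c :=
        eq_of_heq (Sigma.mk.inj h1).2
      obtain ⟨x, hx, hxe⟩ := QuotientGroup.eq.1 h2.symm
      exact ⟨x, hx, by rw [hxe]; group⟩
    have hrest := fun l hl => hfix l (List.mem_cons_of_mem _ hl)
    cases s with
    | true =>
      obtain ⟨h1, h2⟩ := h
      rw [start, if_pos rfl, srcMap_mk, ha] at h1
      obtain ⟨f₁, hf₁, hc⟩ := rel_change hf hj h1.symm
      have hmem : ∀ x ∈ Q, f₁ x ∈ d.1.1 := fun x hx => by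
        obtain ⟨z, hz, hze⟩ := hA ⟨x, hf.source_le hx⟩ hx
        have := hc ⟨x, hf.source_le hx⟩ ⟨_, hf₁.apply_mem hx⟩ hx rfl
        rw [hze] at this
        have e : (z : Ω) = f₁ x := congrArg Subtype.val (reg_injective (mul_left_cancel this))
        exact e ▸ hz
      refine ih _ b h2 hrest (c * perm d) (by rw [finish, if_pos rfl, tgtMap_mk]) _
        (hf₁.comp (isMap_toFun d.2) hmem) (fun q y hq hy => ?_) k hk
      obtain ⟨z, hz⟩ : ∃ z : S, (z : Ω) = f₁ q := ⟨⟨_, hf₁.apply_mem hq⟩, rfl⟩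
      rw [← mul_assoc, hc q z hq hz, mul_assoc, mul_assoc,
        perm_spec d (x := z) (y := y) (hz ▸ hmem q hq) (by rw [hz]; exact hy)]
    | false =>
      obtain ⟨h1, h2⟩ := h
      rw [start, if_neg Bool.false_ne_true, tgtMap_mk, ha] at h1
      obtain ⟨f₁, hf₁, hc⟩ := rel_change hf hj h1.symm
      obtain ⟨g, hg, hg1, hg2, -⟩ := (isMap_toFun d.2).exists_inv
      have hkey : ∀ q : S, (q : Ω) ∈ Q → ∃ x : S, (x : Ω) ∈ d.1.1 ∧ reg S q * c = c * reg S x ∧
          toFun d.1.2 x = f₁ q := by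
        intro q hq
        obtain ⟨x, hx, hxe⟩ := hA q hq
        refine ⟨x, hx, hxe, ?_⟩
        have h3 := hc q ⟨_, hf₁.apply_mem hq⟩ hq rfl
        rw [← mul_assoc, hxe, mul_assoc c (reg S x), perm_spec d hx
          (y := ⟨_, (isMap_toFun d.2).apply_mem hx⟩) rfl, ← mul_assoc] at h3
        exact congrArg Subtype.val (reg_injective (mul_left_cancel h3))
      have hmem : ∀ x ∈ Q, f₁ x ∈ fimg (toFun d.1.2) d.1.1 := fun x hx => by
        obtain ⟨z, hz, -, hze⟩ := hkey ⟨x, hf.source_le hx⟩ hx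
        rw [← show toFun d.1.2 z = f₁ x from hze]
        exact apply_mem_fimg _ hz
      refine ih _ b h2 hrest c (by rw [finish, if_neg Bool.false_ne_true, srcMap_mk]) _
        (hf₁.comp hg hmem) (fun q y hq hy => ?_) k hk
      obtain ⟨x, hx, hxe, hxf⟩ := hkey q hq
      rw [show y = x from Subtype.ext (hy.trans (by show g (f₁ q) = x; rw [← hxf, hg1 _ hx])), hxe]

/-- The theorem. -/
theorem exists_group (F : FusionSystem S) : ∃ (G : Type u) (_ : Group G) (ι : S →* G),
    F.IsRealizedBy ι ∧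
    (∀ H : Subgroup G, Finite H → ∃ g : G, ∀ h ∈ H, g * h * g⁻¹ ∈ ι.range) ∧
    ∃ N : Subgroup G, N.Normal ∧ IsFreeGroup N ∧ N.index ∣ (Nat.card S).factorial := by
  let v₀ : Vert (S := S) := ((1 : Equiv.Perm S) : Vert (S := S))
  let G := pathGroup (equivariant (F := F)) v₀
  have hv : ∀ k : Equiv.Perm S, k • v₀ = (k : Vert (S := S)) := fun k => by
    show ((k * 1 : Equiv.Perm S) : Vert (S := S)) = _
    rw [mul_one]
  have hι : ∀ s : S, (SemidirectProduct.inr (φ := act (E := Edge F)) (reg S s)) ∈ G := fun s => by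
    rw [mem_pathGroup, SemidirectProduct.left_inr, SemidirectProduct.right_inr, hv,
      show ((reg S s : Equiv.Perm S) : Vert (S := S)) = v₀ from
        QuotientGroup.eq.2 ⟨s⁻¹, by rw [map_inv, mul_one]⟩]
    exact isPath_one _
  let ι : S →* G := ((SemidirectProduct.inr).comp (reg S)).codRestrict G hι
  have hιl : ∀ s, ((ι s : G) : FreeGroup (Edge F) ⋊[act] Equiv.Perm S).left = 1 := fun _ => rfl
  have hιr : ∀ s, ((ι s : G) : FreeGroup (Edge F) ⋊[act] Equiv.Perm S).right = reg S s :=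
    fun _ => rfl
  refine ⟨G, inferInstance, ι, ⟨fun a b h => reg_injective
    (by rw [← hιr a, ← hιr b, h]), fun P hP φ hφ => ⟨fun hφF => ?_, ?_⟩⟩, fun H hH => ?_, ?_⟩
  · let d : Idx F := ⟨⟨P, φ⟩, hφF⟩
    let e : Edge F := ⟨d, ((1 : Equiv.Perm S) : Equiv.Perm S ⧸ stab d)⟩
    have ht : (⟨FreeGroup.of e, perm d⟩ : FreeGroup (Edge F) ⋊[act] Equiv.Perm S) ∈ G := by
      rw [mem_pathGroup]
      have h1 := isPath_of (src := srcMap (F := F)) (tgt := tgtMap) (e := e)
      rw [srcMap_mk, tgtMap_mk, one_mul, ← hv (perm d)] at h1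
      exact h1
    refine ⟨⟨_, ht⟩⁻¹, fun x => ?_⟩
    rw [inv_inv, eq_comm, mul_assoc, inv_mul_eq_iff_eq_mul]
    have hps := perm_spec d (x := ⟨x, hP x.2⟩) (y := ⟨φ x, hφ x⟩) x.2 (toFun_coe φ x).symm
    refine Subtype.ext (SemidirectProduct.ext ?_ ?_)
    · simp only [Subgroup.coe_mul, SemidirectProduct.mul_left, hιl, hιr, map_one, mul_one, one_mul]
      rw [act_apply, FreeGroup.map.of]
      refine congrArg FreeGroup.of (Sigma.ext rfl (heq_of_eq ?_))
      exact QuotientGroup.eq.2 (by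
        simp only [smul_eq_mul, mul_one]
        exact inv_mem ⟨⟨x, hP x.2⟩, x.2, rfl⟩)
    · simp only [Subgroup.coe_mul, SemidirectProduct.mul_right, hιr]
      exact hps
  · rintro ⟨g, hg⟩
    have hl : ∀ x : P, (reg S ⟨φ x, hφ x⟩) * (g : FreeGroup (Edge F) ⋊[act] Equiv.Perm S).right =
        (g : FreeGroup (Edge F) ⋊[act] Equiv.Perm S).right * reg S ⟨x, hP x.2⟩ ∧
        act (reg S ⟨φ x, hφ x⟩) (g : FreeGroup (Edge F) ⋊[act] Equiv.Perm S).left =
          (g : FreeGroup (Edge F) ⋊[act] Equiv.Perm S).left := fun x => by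
      have h1 := congrArg Subtype.val (eq_mul_inv_iff_mul_eq.1 (hg x))
      exact ⟨by simpa [hιr] using congrArg SemidirectProduct.right h1,
        by simpa [hιl, hιr] using congrArg SemidirectProduct.left h1⟩
    have hQS : φ.range ≤ S := by rintro _ ⟨x, rfl⟩; exact hφ x
    have hp := mem_pathGroup.1 g.2
    rw [hv] at hp
    obtain ⟨f, hf, hrel⟩ := walk (Q := φ.range) _ _ _ hp (fun l hl' q ⟨x, hx⟩ => by
      have h0 := (hl x).2
      rw [show (⟨φ x, hφ x⟩ : S) = q from Subtype.ext hx] at h0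
      have h1 := toWord_act (reg S q) (g : FreeGroup (Edge F) ⋊[act] Equiv.Perm S).left
      rw [h0] at h1
      have := List.map_inj_left.1 (h1.symm.trans (List.map_id _).symm) l (by convert hl')
      exact congrArg Prod.fst this) 1 rfl (fun x => x) (isMap_id F hQS)
      (fun q y _ hy => by rw [show y = q from Subtype.ext hy, mul_one, one_mul]) _ rfl
    have hfx : ∀ x : P, f (φ x) = x := fun x => by
      have h2 := hrel ⟨φ x, hφ x⟩ ⟨_, hf.apply_mem ⟨x, rfl⟩⟩ ⟨x, rfl⟩ rfl
      rw [(hl x).1] at h2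
      exact (congrArg Subtype.val (reg_injective (mul_left_cancel h2))).symm
    obtain ⟨f', hf', hf1, -, -⟩ := hf.exists_inv
    refine mem_hom_of_isMap (hf'.res fun y hy => ?_) fun x => ?_
    · rw [← show f (φ ⟨y, hy⟩) = y from hfx ⟨y, hy⟩]
      exact apply_mem_fimg f ⟨⟨y, hy⟩, rfl⟩
    · rw [← hfx x, hf1 _ ⟨x, rfl⟩]
  · haveI : Finite (H.map G.subtype) :=
      Finite.of_equiv H (Subgroup.equivMapOfInjective H _ G.subtype_injective).toEquiv
    obtain ⟨u, b, hu, hfix⟩ := exists_fixed_path (equivariant (F := F)) v₀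
      (H := H.map G.subtype) (Subgroup.map_subtype_le H)
    obtain ⟨k, rfl⟩ := QuotientGroup.mk_surjective b
    have hg₀ : (⟨u, k⟩ : FreeGroup (Edge F) ⋊[act] Equiv.Perm S) ∈ G := by
      rw [mem_pathGroup, hv]
      exact hu
    refine ⟨⟨_, hg₀⟩⁻¹, fun h hh => ?_⟩
    rw [inv_inv]
    obtain ⟨h, hhG⟩ := h
    have hfx : h.left * act h.right u = u := hfix h ⟨⟨h, hhG⟩, hh, rfl⟩
    have hend : h.right • (k : Vert (S := S)) = k := by
      have h1 := (mem_pathGroup.1 hhG).mul (hu.act equivariant h.right)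
      rw [hfx] at h1
      exact h1.unique hu
    obtain ⟨s, hs⟩ := QuotientGroup.eq.1 hend.symm
    refine ⟨s, ?_⟩
    rw [mul_assoc, eq_inv_mul_iff_mul_eq]
    refine Subtype.ext (SemidirectProduct.ext ?_ ?_)
    · simp only [Subgroup.coe_mul, SemidirectProduct.mul_left, hιl, map_one, mul_one]
      exact hfx.symm
    · simp only [Subgroup.coe_mul, SemidirectProduct.mul_right, hιr, hs, smul_eq_mul]
      group
  · refine ⟨(SemidirectProduct.rightHom.comp G.subtype).ker, inferInstance,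
      isFreeGroup_of_right_one _ fun g hg => hg, ?_⟩
    rw [Subgroup.index_ker, ← Nat.card_perm]
    exact Subgroup.card_subgroup_dvd_card _

end Cfsg.Agent.Fus.GraphRealize
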