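import Mathlib

/-!
Marks of finite actions: sets whose marks agree away from a normal subgroup acting trivially have
congruent sizes modulo its index.
-/

set_option autoImplicit false
set_option linter.style.haveILetI false

open scoped Classical

namespace Cfsg.Agent.Fus

open MulAction

variable {W X Y : Type*} [Group W] [MulAction W X] [MulAction W Y]

/-- The points fixed by a subgroup. -/
def markSet (X : Type*) [MulAction W X] (V : Subgroup W) : Set X := {x | V ≤ stabilizer W x}

/-- The number of points with given stabilizer. -/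
noncomputable def stabCount (X : Type*) [MulAction W X] (V : Subgroup W) : ℕ :=
  Nat.card {x : X // stabilizer W x = V}

theorem card_markSet_eq_sum [Finite W] [Finite X] [Fintype (Subgroup W)] (V : Subgroup W) :
    Nat.card (markSet (W := W) X V) =
      ∑ U ∈ (Finset.univ : Finset (Subgroup W)).filter (V ≤ ·), stabCount X U := by
  haveI := Fintype.ofFinite X
  simp only [Nat.card_eq_fintype_card, stabCount, markSet, Fintype.card_subtype,
    Set.coe_ofPred]
  rw [Finset.card_eq_sum_card_fiberwise (f := fun x => stabilizer W x)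
    (t := (Finset.univ : Finset (Subgroup W)).filter (V ≤ ·)) (fun x hx => by simpa using hx)]
  refine Finset.sum_congr rfl fun U hU => ?_
  congr 1
  ext x
  simp only [Finset.mem_filter, Finset.mem_univ, true_and] at hU ⊢
  exact ⟨fun h => h.2, fun h => ⟨h ▸ hU, h⟩⟩

theorem stabCount_eq [Finite W] [Finite X] [Finite Y] {D : Subgroup W}
    (h : ∀ V, D < V → Nat.card (markSet (W := W) X V) = Nat.card (markSet (W := W) Y V))
    {V : Subgroup W} (hV : D < V) : stabCount (W := W) X V = stabCount (W := W) Y V := by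
  haveI := Fintype.ofFinite (Subgroup W)
  suffices ∀ (n : ℕ) (V : Subgroup W), V.index = n → D < V →
      stabCount (W := W) X V = stabCount (W := W) Y V from this _ V rfl hV
  intro n
  induction n using Nat.strong_induction_on with
  | _ n IH =>
  intro V hn hV
  have hmem : V ∈ (Finset.univ : Finset (Subgroup W)).filter (V ≤ ·) := by simp
  have e := h V hV
  rw [card_markSet_eq_sum, card_markSet_eq_sum, ← Finset.add_sum_erase _ _ hmem,
    ← Finset.add_sum_erase _ _ hmem] at e
  have e' : ∑ U ∈ ((Finset.univ : Finset (Subgroup W)).filter (V ≤ ·)).erase V, stabCount X U =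
      ∑ U ∈ ((Finset.univ : Finset (Subgroup W)).filter (V ≤ ·)).erase V, stabCount Y U := by
    refine Finset.sum_congr rfl fun U hU => ?_
    simp only [Finset.mem_erase, Finset.mem_filter, Finset.mem_univ, true_and] at hU
    have hlt : V < U := lt_of_le_of_ne hU.2 (Ne.symm hU.1)
    refine IH U.index ?_ U rfl (hV.trans hlt)
    rw [← hn]
    exact Subgroup.index_strictAnti hlt
  omega

theorem index_dvd_stabCount [Finite W] [Finite X] (D : Subgroup W) [D.Normal] :
    D.index ∣ stabCount (W := W) X D := by
  haveI := Fintype.ofFinite X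
  let X₀ := {x : X // stabilizer W x = D}
  let π : X₀ → orbitRel.Quotient W X := fun x => Quotient.mk'' (x : X)
  show D.index ∣ Nat.card X₀
  rw [← Nat.card_congr (Equiv.sigmaFiberEquiv π), Nat.card_sigma]
  refine Finset.dvd_sum fun o _ => ?_
  rcases isEmpty_or_nonempty {x : X₀ // π x = o} with h | ⟨⟨x₀, hx₀⟩⟩
  · simp
  · refine dvd_of_eq ?_
    have e : {x : X₀ // π x = o} ≃ orbit W (x₀ : X) :=
      { toFun := fun x => ⟨((x : X₀) : X), Quotient.eq''.1 (x.2.trans hx₀.symm)⟩
        invFun := fun y => ⟨⟨y, by
            obtain ⟨g, hg⟩ := y.2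
            rw [← hg, show stabilizer W (g • (x₀ : X)) =
              (stabilizer W (x₀ : X)).map (MulAut.conj g).toMonoidHom from
              stabilizer_smul_eq_stabilizer_map_conj g _, x₀.2]
            exact Subgroup.Normal.map_conj_eq D g⟩,
          (Quotient.eq''.2 y.2).trans hx₀⟩
        left_inv := fun x => rfl
        right_inv := fun y => rfl }
    rw [Nat.card_congr e, Nat.card_coe_set_eq, ← MulAction.index_stabilizer, x₀.2]

/-- Sets on which a normal subgroup acts trivially and whose marks agree on all larger subgroups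
have congruent sizes modulo the index. -/
theorem card_modEq_of_marks [Finite W] [Finite X] [Finite Y] (D : Subgroup W) [D.Normal]
    (hX : ∀ x : X, D ≤ stabilizer W x) (hY : ∀ y : Y, D ≤ stabilizer W y)
    (h : ∀ V, D < V → Nat.card (markSet (W := W) X V) = Nat.card (markSet (W := W) Y V)) :
    Nat.card X ≡ Nat.card Y [MOD D.index] := by
  haveI := Fintype.ofFinite (Subgroup W)
  have hXD : Nat.card (markSet (W := W) X D) = Nat.card X :=
    Nat.card_congr (Equiv.subtypeUnivEquiv hX)
  have hYD : Nat.card (markSet (W := W) Y D) = Nat.card Y :=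
    Nat.card_congr (Equiv.subtypeUnivEquiv hY)
  rw [← hXD, ← hYD, card_markSet_eq_sum, card_markSet_eq_sum,
    ← Finset.add_sum_erase _ _ (show D ∈ (Finset.univ : Finset (Subgroup W)).filter (D ≤ ·) by simp),
    ← Finset.add_sum_erase _ _ (show D ∈ (Finset.univ : Finset (Subgroup W)).filter (D ≤ ·) by simp),
    Finset.sum_congr rfl fun U hU => stabCount_eq (X := X) (Y := Y) h (V := U) (by
      simp only [Finset.mem_erase, Finset.mem_filter, Finset.mem_univ, true_and] at hU
      exact lt_of_le_of_ne hU.2 (Ne.symm hU.1))]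
  exact Nat.ModEq.add_right _
    ((Nat.modEq_zero_iff_dvd.2 (index_dvd_stabCount D)).trans
      (Nat.modEq_zero_iff_dvd.2 (index_dvd_stabCount D)).symm)

variable {G Z : Type*} [Group G] [MulAction G Z]

theorem smul_mem_markSet {K : Subgroup G} {g : G} (hg : ∀ k ∈ K, g⁻¹ * k * g ∈ K) {z : Z}
    (hz : z ∈ markSet (W := G) Z K) : g • z ∈ markSet (W := G) Z K := fun k hk => by
  rw [mem_stabilizer_iff, ← mul_smul, show k * g = g * (g⁻¹ * k * g) by group, mul_smul,
    mem_stabilizer_iff.1 (hz (hg k hk))]

/-- Conjugate subgroups have the same marks. -/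
theorem card_markSet_conj (K : Subgroup G) (g : G) :
    Nat.card (markSet (W := G) Z (K.map (MulAut.conj g).toMonoidHom)) =
      Nat.card (markSet (W := G) Z K) := by
  refine Nat.card_congr ((MulAction.toPerm g).subtypeEquiv fun z => ?_).symm
  show K ≤ stabilizer G z ↔ K.map (MulAut.conj g).toMonoidHom ≤ stabilizer G (g • z)
  rw [stabilizer_smul_eq_stabilizer_map_conj,
    Subgroup.map_le_map_iff_of_injective (f := (MulAut.conj g).toMonoidHom) (MulAut.conj g).injective]

/-- The congruence between the marks of two subgroups joined by a map of normalizers, when the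
marks of the larger subgroups correspond. -/
theorem markSet_modEq [Finite G] [Finite Z] {K K₀ N : Subgroup G} (hKN : K ≤ N)
    (hNK : N ≤ Subgroup.normalizer (K : Set G)) (ι : N →* G) (hι : (K.subgroupOf N).map ι = K₀)
    (h : ∀ V : Subgroup N, K.subgroupOf N < V →
      Nat.card (markSet (W := G) Z (V.map N.subtype)) =
        Nat.card (markSet (W := G) Z (V.map ι))) :
    Nat.card (markSet (W := G) Z K) ≡ Nat.card (markSet (W := G) Z K₀) [MOD K.relIndex N] := by
  set D := K.subgroupOf N with hD
  haveI : D.Normal := Subgroup.normal_subgroupOf_of_le_normalizer hNK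
  have hK₀ : ∀ w : N, ∀ k ∈ K₀, (ι w)⁻¹ * k * ι w ∈ K₀ := fun w k hk => by
    rw [← hι] at hk ⊢
    obtain ⟨d, hd, rfl⟩ := hk
    refine ⟨w⁻¹ * d * w, ?_, by simp⟩
    simpa using (inferInstance : D.Normal).conj_mem d hd w⁻¹
  let X := markSet (W := G) Z K
  let Y := markSet (W := G) Z K₀
  letI iX : MulAction N X :=
    { smul := fun w x => ⟨(w : G) • (x : Z), smul_mem_markSet
        (fun k hk => (Subgroup.mem_normalizer_iff''.1 (hNK w.2) k).1 hk) x.2⟩
      one_smul := fun x => Subtype.ext (one_smul G (x : Z))
      mul_smul := fun a b x => Subtype.ext (mul_smul (a : G) (b : G) (x : Z)) }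
  letI iY : MulAction N Y :=
    { smul := fun w x => ⟨ι w • (x : Z), smul_mem_markSet (hK₀ w) x.2⟩
      one_smul := fun x => Subtype.ext (by show ι 1 • (x : Z) = x; rw [map_one, one_smul])
      mul_smul := fun a b x => Subtype.ext (by
        show ι (a * b) • (x : Z) = ι a • ι b • (x : Z)
        rw [map_mul, mul_smul]) }
  have hstX : ∀ (w : N) (x : X), w ∈ stabilizer N x ↔ (w : G) • (x : Z) = x := fun w x =>
    Subtype.ext_iff
  have hstY : ∀ (w : N) (x : Y), w ∈ stabilizer N x ↔ ι w • (x : Z) = x := fun w x =>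
    Subtype.ext_iff
  refine card_modEq_of_marks (X := X) (Y := Y) D (fun x w hw => (hstX w x).2 (x.2 hw))
    (fun y w hw => (hstY w y).2 (y.2 (hι ▸ ⟨w, hw, rfl⟩))) fun V hV => ?_
  have eX : markSet (W := N) X V ≃ markSet (W := G) Z (V.map N.subtype) :=
    { toFun := fun x => ⟨(x : X), by rintro _ ⟨w, hw, rfl⟩; exact (hstX w x).1 (x.2 hw)⟩
      invFun := fun z => ⟨⟨(z : Z), fun k hk => z.2 ⟨⟨k, hKN hk⟩, hV.le hk, rfl⟩⟩,
        fun w hw => (hstX w _).2 (z.2 ⟨w, hw, rfl⟩)⟩
      left_inv := fun x => rfl
      right_inv := fun z => rfl }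
  have eY : markSet (W := N) Y V ≃ markSet (W := G) Z (V.map ι) :=
    { toFun := fun x => ⟨(x : Y), by rintro _ ⟨w, hw, rfl⟩; exact (hstY w x).1 (x.2 hw)⟩
      invFun := fun z => ⟨⟨(z : Z), fun k hk => z.2 (by
          rw [← hι] at hk
          exact Subgroup.map_mono hV.le hk)⟩,
        fun w hw => (hstY w _).2 (z.2 ⟨w, hw, rfl⟩)⟩
      left_inv := fun x => rfl
      right_inv := fun z => rfl }
  rw [Nat.card_congr eX, Nat.card_congr eY]
  exact h V hV

end Cfsg.Agent.Fus
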