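import Cfsg.Agent.Lib.Fus.Saturation
import Cfsg.Agent.Lib.Fus.Marks

/-!
Graphs of maps of a fusion system inside `S × S`, and the relation generated by moving the source
by a map of the system and the target by conjugation.
-/

set_option autoImplicit false
set_option linter.style.haveILetI false
set_option linter.unusedSectionVars false

open scoped Classical

namespace Cfsg.Agent.Fus

open Subgroup FusionSystem

universe u

variable {Ω : Type u} [Group Ω] {S : Subgroup Ω} {F : FusionSystem S}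

/-- The sources of a subgroup of `S × S`. -/
def srcOf (K : Subgroup (S × S)) : Subgroup Ω := K.map (S.subtype.comp (MonoidHom.fst S S))

theorem mem_srcOf {K : Subgroup (S × S)} {w : S × S} (hw : w ∈ K) : (w.1 : Ω) ∈ srcOf K :=
  ⟨w, hw, rfl⟩

theorem srcOf_le (K : Subgroup (S × S)) : srcOf K ≤ S := by
  rintro _ ⟨w, -, rfl⟩
  exact w.1.2

theorem srcOf_mono {K K' : Subgroup (S × S)} (h : K ≤ K') : srcOf K ≤ srcOf K' :=
  Subgroup.map_mono h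

/-- Move the first coordinate by a map and the second by conjugation. -/
noncomputable def graphHom {P : Subgroup Ω} {f : Ω → Ω} (hf : IsMap F P f) (b : S)
    {K : Subgroup (S × S)} (hK : srcOf K ≤ P) : K →* S × S :=
  MonoidHom.mk' (fun w => (⟨f ((w : S × S).1 : Ω), hf.apply_mem (hK (mem_srcOf w.2))⟩,
      b * (w : S × S).2 * b⁻¹))
    fun v w => by
      refine Prod.ext (Subtype.ext (hf.map_mul (hK (mem_srcOf v.2)) (hK (mem_srcOf w.2)))) ?_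
      show b * ((v : S × S).2 * (w : S × S).2) * b⁻¹ =
        (b * (v : S × S).2 * b⁻¹) * (b * (w : S × S).2 * b⁻¹)
      group

theorem graphHom_fst {P : Subgroup Ω} {f : Ω → Ω} (hf : IsMap F P f) (b : S)
    {K : Subgroup (S × S)} (hK : srcOf K ≤ P) (w : K) :
    (((graphHom hf b hK w).1 : S) : Ω) = f ((w : S × S).1 : Ω) := rfl

theorem graphHom_snd {P : Subgroup Ω} {f : Ω → Ω} (hf : IsMap F P f) (b : S)
    {K : Subgroup (S × S)} (hK : srcOf K ≤ P) (w : K) :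
    (graphHom hf b hK w).2 = b * (w : S × S).2 * b⁻¹ := rfl

theorem graphHom_injective {P : Subgroup Ω} {f : Ω → Ω} (hf : IsMap F P f) (b : S)
    {K : Subgroup (S × S)} (hK : srcOf K ≤ P) : Function.Injective (graphHom hf b hK) := by
  intro v w h
  refine Subtype.ext (Prod.ext (Subtype.ext (hf.injOn (hK (mem_srcOf v.2)) (hK (mem_srcOf w.2))
    (congrArg (fun t : S × S => (t.1 : Ω)) h))) ?_)
  exact mul_left_cancel (mul_right_cancel (congrArg Prod.snd h))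

/-- `K'` is `K` moved by a map of the system on the left and a conjugation on the right. -/
def GraphRel (F : FusionSystem S) (K K' : Subgroup (S × S)) : Prop :=
  ∃ (P : Subgroup Ω) (f : Ω → Ω) (hf : IsMap F P f) (b : S) (hK : srcOf K ≤ P),
    (graphHom hf b hK).range = K'

/-- `K` is contained in the graph of a map of the system. -/
def IsFGraph (F : FusionSystem S) (K : Subgroup (S × S)) : Prop :=
  ∃ (P : Subgroup Ω) (f : Ω → Ω), IsMap F P f ∧ srcOf K ≤ P ∧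
    ∀ w ∈ K, f (w.1 : Ω) = (w.2 : Ω)

theorem IsFGraph.mono {K K' : Subgroup (S × S)} (h : IsFGraph F K') (hle : K ≤ K') :
    IsFGraph F K := by
  obtain ⟨P, f, hf, hP, hw⟩ := h
  exact ⟨P, f, hf, (srcOf_mono hle).trans hP, fun w hw' => hw w (hle hw')⟩

theorem GraphRel.refl (F : FusionSystem S) (K : Subgroup (S × S)) : GraphRel F K K := by
  refine ⟨S, _, isMap_id F le_rfl, 1, srcOf_le K, le_antisymm ?_ fun w hw => ?_⟩
  · rintro _ ⟨w, rfl⟩
    rw [show graphHom (isMap_id F le_rfl) 1 (srcOf_le K) w = (w : S × S) from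
      Prod.ext (Subtype.ext rfl) (by rw [graphHom_snd]; simp)]
    exact w.2
  · exact ⟨⟨w, hw⟩, Prod.ext (Subtype.ext rfl) (by rw [graphHom_snd]; simp)⟩

theorem GraphRel.symm {K K' : Subgroup (S × S)} (h : GraphRel F K K') : GraphRel F K' K := by
  obtain ⟨P, f, hf, b, hK, rfl⟩ := h
  obtain ⟨g, hg, hg1, -, -⟩ := (hf.res hK).exists_inv
  have hsrc : srcOf (graphHom hf b hK).range ≤ fimg f (srcOf K) := by
    rintro _ ⟨_, ⟨w, rfl⟩, rfl⟩
    exact apply_mem_fimg f (mem_srcOf w.2)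
  have key : ∀ v : (graphHom hf b hK).range, ∀ w : K, graphHom hf b hK w = v →
      graphHom hg b⁻¹ hsrc v = (w : S × S) := by
    intro v w e
    refine Prod.ext (Subtype.ext ?_) ?_
    · rw [graphHom_fst, ← e, graphHom_fst, hg1 _ (mem_srcOf w.2)]
    · rw [graphHom_snd, ← e, graphHom_snd]
      group
  refine ⟨_, g, hg, b⁻¹, hsrc, le_antisymm ?_ fun w hw => ?_⟩
  · rintro _ ⟨v, rfl⟩
    obtain ⟨w, e⟩ := v.2
    rw [key v w e]
    exact w.2
  · exact ⟨⟨_, ⟨⟨w, hw⟩, rfl⟩⟩, key _ ⟨w, hw⟩ rfl⟩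

theorem GraphRel.trans {K K' K'' : Subgroup (S × S)} (h : GraphRel F K K')
    (h' : GraphRel F K' K'') : GraphRel F K K'' := by
  obtain ⟨P, f, hf, b, hK, rfl⟩ := h
  obtain ⟨P', f', hf', b', hK', rfl⟩ := h'
  have hmem : ∀ x ∈ srcOf K, f x ∈ P' := by
    rintro _ ⟨w, hw, rfl⟩
    exact hK' (mem_srcOf (w := graphHom hf b hK ⟨w, hw⟩) ⟨_, rfl⟩)
  have hc := (hf.res hK).comp hf' hmem
  have key : ∀ w : K, graphHom hc (b' * b) le_rfl w =
      graphHom hf' b' hK' ⟨graphHom hf b hK w, ⟨w, rfl⟩⟩ := fun w => by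
    refine Prod.ext (Subtype.ext rfl) ?_
    rw [graphHom_snd, graphHom_snd]
    show _ = b' * (b * (w : S × S).2 * b⁻¹) * b'⁻¹
    group
  refine ⟨_, _, hc, b' * b, le_rfl, le_antisymm ?_ ?_⟩
  · rintro _ ⟨w, rfl⟩
    exact ⟨_, (key w).symm⟩
  · rintro _ ⟨⟨_, w, rfl⟩, rfl⟩
    exact ⟨w, key w⟩

theorem GraphRel.card_eq {K K' : Subgroup (S × S)} (h : GraphRel F K K') :
    Nat.card K = Nat.card K' := by
  obtain ⟨P, f, hf, b, hK, rfl⟩ := h
  exact Nat.card_congr (MonoidHom.ofInjective (graphHom_injective hf b hK)).toEquiv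

theorem graphRel_conj (F : FusionSystem S) (K : Subgroup (S × S)) (g : S × S) :
    GraphRel F K (K.map (MulAut.conj g).toMonoidHom) := by
  refine ⟨S, _, isMap_conj F le_rfl g.1.2, g.2, srcOf_le K, ?_⟩
  have key : ∀ w : K, graphHom (isMap_conj F le_rfl g.1.2) g.2 (srcOf_le K) w =
      g * (w : S × S) * g⁻¹ := fun w => Prod.ext (Subtype.ext rfl) rfl
  refine le_antisymm ?_ ?_
  · rintro _ ⟨w, rfl⟩
    exact ⟨w, w.2, (key w).symm⟩
  · rintro _ ⟨w, hw, rfl⟩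
    exact ⟨⟨w, hw⟩, key _⟩

theorem IsFGraph.of_rel {K K' : Subgroup (S × S)} (hK : IsFGraph F K) (h : GraphRel F K K') :
    IsFGraph F K' := by
  obtain ⟨P₀, f₀, hf₀, hK₀, e₀⟩ := hK
  obtain ⟨P, f, hf, b, hP, rfl⟩ := h
  obtain ⟨g, hg, hg1, hg2, -⟩ := (hf.res hP).exists_inv
  have hc := ((hg.comp hf₀ fun y hy => hK₀ (hg2 y hy).1)).comp (isMap_conj F le_rfl b.2)
    fun y hy => hf₀.apply_mem (hK₀ (hg2 y hy).1)
  refine ⟨_, _, hc, ?_, ?_⟩
  · rintro _ ⟨_, ⟨w, rfl⟩, rfl⟩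
    exact apply_mem_fimg f (mem_srcOf w.2)
  · rintro _ ⟨w, rfl⟩
    show (b : Ω) * f₀ (g (f ((w : S × S).1 : Ω))) * (b : Ω)⁻¹ = _
    rw [hg1 _ (mem_srcOf w.2), e₀ _ w.2]
    rfl

/-- In a saturated system every graph is related to one receiving the normalizers of all its
relatives. -/
theorem exists_top_graph [Finite S] {p : ℕ} [Fact p.Prime] (hS : IsPGroup p S)
    (hF : F.IsSaturated p) {K : Subgroup (S × S)} (hK : IsFGraph F K) :
    ∃ K₀, GraphRel F K K₀ ∧ ∀ K', GraphRel F K K' →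
      ∃ ι : ↥(Subgroup.normalizer (K' : Set (S × S))) →* S × S, Function.Injective ι ∧
        (K'.subgroupOf (Subgroup.normalizer (K' : Set (S × S)))).map ι = K₀ ∧
        ∀ V : Subgroup ↥(Subgroup.normalizer (K' : Set (S × S))),
          GraphRel F (V.map (Subgroup.normalizer (K' : Set (S × S))).subtype) (V.map ι) := by
  obtain ⟨P₀, f₀, hf₀, hK₀, e₀⟩ := hK
  set R := K.map (S.subtype.comp (MonoidHom.snd S S)) with hR
  have hRS : R ≤ S := by rintro _ ⟨w, -, rfl⟩; exact w.2.2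
  obtain ⟨P, hcj, hP⟩ := exists_fullyNormalized F hRS
  obtain ⟨θ, hθ, hθR, hθN⟩ := exists_map_to_fullyNormalized hS hF hP hcj
  have hRN : R ≤ normalizerIn S R := le_normalizerIn hRS
  have hf0R : ∀ x ∈ srcOf K, f₀ x ∈ normalizerIn S R := by
    rintro _ ⟨w, hw, rfl⟩
    exact hRN ⟨w, hw, (e₀ w hw).symm⟩
  have h0 := (hf₀.res hK₀).comp hθ hf0R
  refine ⟨(graphHom h0 1 le_rfl).range, ⟨_, _, h0, 1, le_rfl, rfl⟩, fun K' hK' => ?_⟩
  obtain ⟨P₁, f₁, hf₁, b, hK₁, rfl⟩ := hK'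
  set K' := (graphHom hf₁ b hK₁).range with hK'
  set N := Subgroup.normalizer (K' : Set (S × S)) with hN
  obtain ⟨g, hg, hg1, hg2, -⟩ := (hf₁.res hK₁).exists_inv
  have hsrc : srcOf K' = fimg f₁ (srcOf K) := by
    refine le_antisymm ?_ (fimg_le ?_)
    · rintro _ ⟨_, ⟨w, rfl⟩, rfl⟩
      exact apply_mem_fimg f₁ (mem_srcOf w.2)
    · rintro _ ⟨w, hw, rfl⟩
      exact mem_srcOf (w := graphHom hf₁ b hK₁ ⟨w, hw⟩) ⟨_, rfl⟩
  have hρ : IsMap F (srcOf K') fun y => θ (f₀ (g y)) := hsrc ▸ hg.comp h0 fun y hy => (hg2 y hy).1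
  have hρe : ∀ w ∈ K, θ (f₀ (g (f₁ (w.1 : Ω)))) = θ (w.2 : Ω) := fun w hw => by
    rw [hg1 _ (mem_srcOf hw), e₀ w hw]
  have hρP : fimg (fun y => θ (f₀ (g y))) (srcOf K') = P := by
    refine le_antisymm (fimg_le fun y hy => ?_) (hθR ▸ fimg_le fun r hr => ?_)
    · rw [hsrc] at hy
      obtain ⟨_, ⟨w, hw, rfl⟩, rfl⟩ := (hf₁.res hK₁).mem_fimg_iff.1 hy
      show θ (f₀ (g (f₁ (w.1 : Ω)))) ∈ P
      rw [hρe w hw, ← hθR]
      exact apply_mem_fimg θ ⟨w, hw, rfl⟩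
    · obtain ⟨w, hw, rfl⟩ := hr
      show θ (w.2 : Ω) ∈ _
      rw [← hρe w hw]
      exact apply_mem_fimg (fun y => θ (f₀ (g y)))
        (hsrc ▸ apply_mem_fimg f₁ (mem_srcOf hw))
  -- how a normalising pair acts
  have key : ∀ n ∈ N, ∀ w ∈ K, ∃ v ∈ K, (n.1 : Ω) * f₁ (w.1 : Ω) * (n.1 : Ω)⁻¹ = f₁ (v.1 : Ω) ∧
      (b⁻¹ * n.2 * b) * w.2 * (b⁻¹ * n.2 * b)⁻¹ = v.2 := by
    intro n hn w hw
    obtain ⟨v, hv⟩ := (Subgroup.mem_normalizer_iff.1 hn _).1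
      (show graphHom hf₁ b hK₁ ⟨w, hw⟩ ∈ K' from ⟨_, rfl⟩)
    refine ⟨v, v.2, (congrArg (fun t : S × S => (t.1 : Ω)) hv).symm, ?_⟩
    have h2 : b * (v : S × S).2 * b⁻¹ = n.2 * (b * w.2 * b⁻¹) * n.2⁻¹ := congrArg Prod.snd hv
    calc (b⁻¹ * n.2 * b) * w.2 * (b⁻¹ * n.2 * b)⁻¹
        = b⁻¹ * (n.2 * (b * w.2 * b⁻¹) * n.2⁻¹) * b := by group
      _ = (v : S × S).2 := by rw [← h2]; group
  have hxR : ∀ n ∈ N, ((b⁻¹ * n.2 * b : S) : Ω) ∈ normalizerIn S R := fun n hn => by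
    refine ⟨SetLike.coe_mem _, mem_normalizer_of_forall ?_ ?_⟩
    · rintro _ ⟨w, hw, rfl⟩
      obtain ⟨v, hv, -, e⟩ := key n hn w hw
      exact ⟨v, hv, (congrArg Subtype.val e).symm⟩
    · rintro _ ⟨w, hw, rfl⟩
      obtain ⟨v, hv, -, e⟩ := key n⁻¹ (N.inv_mem hn) w hw
      refine ⟨v, hv, (congrArg Subtype.val e).symm.trans ?_⟩
      simp [mul_assoc]
  obtain ⟨ρ, hρm, hρe'⟩ := receptive_extend (receptive_of_fullyNormalized hS hF hP) hρ hρP
    (N := srcOf N) (fun a ha => by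
      obtain ⟨n, hn, rfl⟩ := ha
      refine ⟨⟨n.1.2, mem_normalizer_of_forall ?_ ?_⟩, θ ((b⁻¹ * n.2 * b : S) : Ω),
        hθ.apply_mem (hxR n hn), ?_⟩
      · rintro _ ⟨_, ⟨w, rfl⟩, rfl⟩
        exact mem_srcOf ((Subgroup.mem_normalizer_iff.1 hn _).1 ⟨w, rfl⟩)
      · rintro _ ⟨_, ⟨w, rfl⟩, rfl⟩
        exact mem_srcOf ((Subgroup.mem_normalizer_iff''.1 hn _).1 ⟨w, rfl⟩)
      · rintro _ ⟨_, ⟨w, rfl⟩, rfl⟩
        obtain ⟨v, hv, e1, e2⟩ := key n hn w w.2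
        show θ (f₀ (g ((n.1 : Ω) * f₁ ((w : S × S).1 : Ω) * (n.1 : Ω)⁻¹))) = _
        rw [e1, hρe v hv]
        show θ (v.2 : Ω) = _ * θ (f₀ (g (f₁ ((w : S × S).1 : Ω)))) * _
        rw [hρe _ w.2]
        exact (congrArg θ (congrArg Subtype.val e2).symm).trans
          (hθ.map_conj (hxR n hn) (hRN (x := ((w : S × S).2 : Ω)) ⟨w, w.2, rfl⟩)))
    (srcOf_mono Subgroup.le_normalizer)
  refine ⟨graphHom hρm b⁻¹ le_rfl, graphHom_injective hρm b⁻¹ le_rfl, ?_, fun V => ?_⟩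
  · have e : ∀ (w : K) (hw : graphHom hf₁ b hK₁ w ∈ N),
        graphHom hρm b⁻¹ le_rfl ⟨_, hw⟩ = graphHom h0 1 le_rfl w := by
      intro w hw
      refine Prod.ext (Subtype.ext ?_) ?_
      · show ρ (f₁ ((w : S × S).1 : Ω)) = θ (f₀ ((w : S × S).1 : Ω))
        rw [hρe' _ (hsrc ▸ apply_mem_fimg f₁ (mem_srcOf w.2)), hg1 _ (mem_srcOf w.2)]
      · show b⁻¹ * (b * (w : S × S).2 * b⁻¹) * b⁻¹⁻¹ = 1 * (w : S × S).2 * 1⁻¹
        group
    refine le_antisymm ?_ ?_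
    · rintro _ ⟨d, ⟨w, hw⟩, rfl⟩
      refine ⟨w, ?_⟩
      rw [← e w (by rw [hw]; exact d.2)]
      exact congrArg _ (Subtype.ext hw)
    · rintro _ ⟨w, rfl⟩
      exact ⟨⟨_, Subgroup.le_normalizer ⟨w, rfl⟩⟩, ⟨w, rfl⟩, e w _⟩
  · refine ⟨_, _, hρm, b⁻¹, srcOf_mono (Subgroup.map_subtype_le V), le_antisymm ?_ ?_⟩
    · rintro _ ⟨⟨_, v, hv, rfl⟩, rfl⟩
      exact ⟨v, hv, rfl⟩
    · rintro _ ⟨v, hv, rfl⟩
      exact ⟨⟨_, v, hv, rfl⟩, rfl⟩

end Cfsg.Agent.Fus
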