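import Mathlib

/-!
A transitive group of degree 100 with a point stabiliser having orbits of sizes 1, 22, 77 gives a strongly regular
graph with parameters (100, 22, 0, 6).
-/

set_option autoImplicit false

namespace Cfsg.Agent.Fus.RankThreeHundred

open Finset

theorem trace_idempotent {n : Type*} [Fintype n] [DecidableEq n] {E : Matrix n n ℝ} (h : E * E = E) :
    ∃ k : ℕ, E.trace = k := by
  have hE : IsIdempotentElem (Matrix.toLin' E) := by
    show Matrix.toLin' E * Matrix.toLin' E = Matrix.toLin' E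
    rw [Module.End.mul_eq_comp, ← Matrix.toLin'_mul, h]
  refine ⟨Module.finrank ℝ (LinearMap.range (Matrix.toLin' E)), ?_⟩
  rw [← (LinearMap.IsIdempotentElem.isProj_range _ hE).trace, Matrix.trace_toLin'_eq]

/-- The parameters (100, 22, λ, μ) with `(λ, μ) = (7, 4), (14, 2), (21, 0)` do not occur. -/
theorem param_false {V : Type*} [Fintype V] [DecidableEq V] {Γ : SimpleGraph V} [DecidableRel Γ.Adj] {l m : ℕ}
    (h : Γ.IsSRGWith 100 22 l m) (hlm : (l = 7 ∧ m = 4) ∨ (l = 14 ∧ m = 2) ∨ (l = 21 ∧ m = 0)) : False := by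
  set A : Matrix V V ℝ := Γ.adjMatrix ℝ with hA
  set J : Matrix V V ℝ := Matrix.of fun _ _ => 1 with hJdef
  have hdeg : ∀ x, #(univ.filter fun y => Γ.Adj x y) = 22 := fun x => by
    rw [← h.regular x, ← SimpleGraph.card_neighborFinset_eq_degree]; congr 1; ext y; simp
  have hAJ : A * J = (22 : ℝ) • J := by
    ext i j
    simp [hA, hJdef, Matrix.mul_apply, SimpleGraph.adjMatrix_apply, Finset.sum_boole, hdeg]
  have hJA : J * A = (22 : ℝ) • J := by
    ext i j
    simp [hA, hJdef, Matrix.mul_apply, SimpleGraph.adjMatrix_apply, Finset.sum_boole, Γ.adj_comm _ j, hdeg]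
  have hJJ : J * J = (100 : ℝ) • J := by
    ext i j
    simp [hJdef, Matrix.mul_apply, h.card]
  have htA : A.trace = 0 := Γ.trace_adjMatrix ℝ
  have htJ : J.trace = 100 := by simp [hJdef, Matrix.trace, h.card]
  have ht1 : (1 : Matrix V V ℝ).trace = 100 := by simp [Matrix.trace_one, h.card]
  have hc : Γᶜ.adjMatrix ℝ = J - 1 - A := by
    ext i j
    by_cases hij : i = j
    · subst hij; simp [hA, hJdef]
    · by_cases ha : Γ.Adj i j <;> simp [hA, hJdef, SimpleGraph.adjMatrix_apply, hij, ha]
  have hAA : A * A = (22 : ℝ) • (1 : Matrix V V ℝ) + (l : ℝ) • A + (m : ℝ) • (J - 1 - A) := by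
    rw [← hc, ← pow_two, h.matrix_eq]
    simp only [Nat.cast_smul_eq_nsmul, hA]
    congr 2
    rw [← Nat.cast_smul_eq_nsmul ℝ]; norm_num
  rcases hlm with ⟨rfl, rfl⟩ | ⟨rfl, rfl⟩ | ⟨rfl, rfl⟩
  · obtain ⟨k, hk⟩ := trace_idempotent (E := (1 / 9 : ℝ) • A + (1 / 3 : ℝ) • (1 : Matrix V V ℝ) - (1 / 36 : ℝ) • J) (by
      simp only [mul_add, add_mul, mul_sub, sub_mul, smul_mul_assoc, mul_smul_comm, one_mul, mul_one, hAA, hAJ, hJA, hJJ]
      module)
    rw [Matrix.trace_sub, Matrix.trace_add, Matrix.trace_smul, Matrix.trace_smul, Matrix.trace_smul, htA, htJ, ht1] at hk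
    have : ((9 * k : ℕ) : ℝ) = (275 : ℕ) := by push_cast; rw [← hk]; norm_num
    have := Nat.cast_injective this
    omega
  · set C : Matrix V V ℝ := A - (6 : ℝ) • (1 : Matrix V V ℝ) - (4 / 25 : ℝ) • J with hC
    set P : Matrix V V ℝ := (1 : Matrix V V ℝ) - (1 / 100 : ℝ) • J with hP
    have hCC : C * C = (56 : ℝ) • P := by
      simp only [hC, hP, mul_sub, sub_mul, smul_mul_assoc, mul_smul_comm, one_mul, mul_one, hAA, hAJ, hJA, hJJ]
      module
    have hPP : P * P = P := by
      simp only [hP, mul_sub, sub_mul, smul_mul_assoc, mul_smul_comm, one_mul, mul_one, hJJ]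
      module
    have hPC : P * C = C := by
      simp only [hC, hP, mul_sub, sub_mul, smul_mul_assoc, mul_smul_comm, one_mul, mul_one, hJA, hJJ]
      module
    have hCP : C * P = C := by
      simp only [hC, hP, mul_sub, sub_mul, smul_mul_assoc, mul_smul_comm, one_mul, mul_one, hAJ, hJJ]
      module
    set r : ℝ := Real.sqrt 56 with hr
    have hr2 : r * r = 56 := Real.mul_self_sqrt (by norm_num)
    have hr0 : r ≠ 0 := fun e => by rw [e, mul_zero] at hr2; norm_num at hr2
    obtain ⟨k, hk⟩ := trace_idempotent (E := (1 / 2 : ℝ) • P + (1 / (2 * r) : ℝ) • C) (by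
      simp only [mul_add, add_mul, smul_mul_assoc, mul_smul_comm, hPP, hPC, hCP, hCC]
      have e : (1 / (2 * r) * (1 / (2 * r) * 56) : ℝ) = 1 / 4 := by rw [← hr2]; field_simp; norm_num
      simp only [smul_smul, smul_add]
      rw [show (1 / (2 * r) * (1 / (2 * r) * 56) : ℝ) = 1 / 4 from e]
      module)
    rw [Matrix.trace_add, Matrix.trace_smul, Matrix.trace_smul, hC, hP, Matrix.trace_sub, Matrix.trace_sub,
      Matrix.trace_sub, Matrix.trace_smul, Matrix.trace_smul, Matrix.trace_smul, htA, htJ, ht1] at hk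
    simp only [smul_eq_mul] at hk
    field_simp at hk
    have h1 : (99 - 2 * (k : ℝ)) * r = 616 := by linarith
    have h2 : (99 - 2 * (k : ℝ)) * (99 - 2 * (k : ℝ)) = 6776 := by
      have h3 : ((99 - 2 * (k : ℝ)) * r) * ((99 - 2 * (k : ℝ)) * r) = 616 * 616 := by rw [h1]
      have h4 : (99 - 2 * (k : ℝ)) * (99 - 2 * (k : ℝ)) * (r * r) = 616 * 616 := by linarith
      rw [hr2] at h4; linarith
    have h5 : (((99 - 2 * (k : ℤ)) * (99 - 2 * (k : ℤ)) : ℤ) : ℝ) = ((6776 : ℤ) : ℝ) := by push_cast; exact h2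
    have h6 := Int.cast_injective h5
    have h7 : (99 - 2 * (k : ℤ)) * (99 - 2 * (k : ℤ)) % 2 = 1 := by
      rw [Int.mul_emod, show (99 - 2 * (k : ℤ)) % 2 = 1 by omega]; norm_num
    rw [h6] at h7
    norm_num at h7
  · obtain ⟨k, hk⟩ := trace_idempotent (E := (1 / 23 : ℝ) • A + (1 / 23 : ℝ) • (1 : Matrix V V ℝ)) (by
      simp only [mul_add, add_mul, smul_mul_assoc, mul_smul_comm, one_mul, mul_one, hAA, Nat.cast_zero, zero_smul, add_zero]
      module)
    rw [Matrix.trace_add, Matrix.trace_smul, Matrix.trace_smul, htA, ht1] at hk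
    have : ((23 * k : ℕ) : ℝ) = (100 : ℕ) := by push_cast; rw [← hk]; norm_num
    have := Nat.cast_injective this
    omega

section Orbital

variable {G Ω : Type*} [Group G] [Finite G] [MulAction G Ω] [Fintype Ω] [DecidableEq Ω] [MulAction.IsPretransitive G Ω]
  {a b c : Ω}

omit [Finite G] [DecidableEq Ω] [MulAction.IsPretransitive G Ω] in
theorem orbit_cases (hΩ : Fintype.card Ω = 100) (hb : (MulAction.orbit (MulAction.stabilizer G a) b).ncard = 22)
    (hc : (MulAction.orbit (MulAction.stabilizer G a) c).ncard = 77) :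
    a ∉ MulAction.orbit (MulAction.stabilizer G a) b ∧ ∀ y : Ω, y = a ∨ y ∈ MulAction.orbit (MulAction.stabilizer G a) b ∨
      y ∈ MulAction.orbit (MulAction.stabilizer G a) c := by
  set H := MulAction.stabilizer G a
  have ha : MulAction.orbit H a = {a} := by
    ext y
    simp only [MulAction.mem_orbit_iff, Set.mem_singleton_iff]
    exact ⟨fun ⟨g, hg⟩ => hg ▸ g.2, fun e => ⟨1, by rw [e, one_smul]⟩⟩
  have hne : ∀ x : Ω, 1 < (MulAction.orbit H x).ncard → a ∉ MulAction.orbit H x := fun x hx h => by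
    rw [← MulAction.orbit_eq_iff.2 h, ha, Set.ncard_singleton] at hx
    omega
  have hab := hne b (by omega)
  have hac := hne c (by omega)
  have hbc : Disjoint (MulAction.orbit H b) (MulAction.orbit H c) := by
    rw [Set.disjoint_left]
    intro y h1 h2
    rw [← MulAction.orbit_eq_iff.2 h1, MulAction.orbit_eq_iff.2 h2, hc] at hb
    omega
  refine ⟨hab, fun y => ?_⟩
  have huniv : insert a (MulAction.orbit H b ∪ MulAction.orbit H c) = Set.univ := by
    refine Set.eq_of_subset_of_ncard_le (Set.subset_univ _) ?_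
    rw [Set.ncard_univ, Nat.card_eq_fintype_card, hΩ, Set.ncard_insert_of_notMem (by simp [hab, hac]),
      Set.ncard_union_eq hbc, hb, hc]
  have := huniv.ge (Set.mem_univ y)
  simpa [or_assoc] using this

variable (G a b) in
/-- Adjacency: the pair is a translate of `(a, b)`. -/
def Rel (x y : Ω) : Prop := ∃ g : G, g • a = x ∧ g • b = y

omit [Finite G] [Fintype Ω] [DecidableEq Ω] [MulAction.IsPretransitive G Ω] in
theorem rel_smul {x y : Ω} (h : Rel G a b x y) (g : G) : Rel G a b (g • x) (g • y) := by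
  obtain ⟨k, rfl, rfl⟩ := h
  exact ⟨g * k, mul_smul _ _ _, mul_smul _ _ _⟩

omit [Finite G] [Fintype Ω] [DecidableEq Ω] [MulAction.IsPretransitive G Ω] in
theorem rel_left {y : Ω} : Rel G a b a y ↔ y ∈ MulAction.orbit (MulAction.stabilizer G a) b := by
  constructor
  · rintro ⟨g, h1, h2⟩; exact ⟨⟨g, h1⟩, h2⟩
  · rintro ⟨g, hg⟩; exact ⟨g, g.2, hg⟩

/-- The orbital graph. -/
theorem exists_srg (hΩ : Fintype.card Ω = 100) (hb : (MulAction.orbit (MulAction.stabilizer G a) b).ncard = 22)
    (hc : (MulAction.orbit (MulAction.stabilizer G a) c).ncard = 77) :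
    ∃ (Γ : SimpleGraph Ω) (_ : DecidableRel Γ.Adj), Γ.IsSRGWith 100 22 0 6 ∧
      (∀ (g : G) (x y : Ω), Γ.Adj (g • x) (g • y) ↔ Γ.Adj x y) ∧
      ∀ y, Γ.Adj a y → y ∈ MulAction.orbit (MulAction.stabilizer G a) b := by
  classical
  obtain ⟨hab, hcases⟩ := orbit_cases hΩ hb hc
  have hne : ∀ x, ¬ Rel G a b x x := by
    rintro x ⟨g, h1, h2⟩
    exact hab ⟨1, (one_smul _ b).trans (smul_left_cancel g (h2.trans h1.symm))⟩
  -- the paired suborbit is the same
  have hsymm : ∀ x y, Rel G a b x y → Rel G a b y x := by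
    have hba : Rel G a b b a := by
      obtain ⟨k, hk⟩ := MulAction.exists_smul_eq G b a
      set H := MulAction.stabilizer G a
      have horb : ∀ z : Ω, (MulAction.orbit H z).ncard * Nat.card ↥(MulAction.stabilizer H z) = Nat.card H := fun z => by
        rw [← Nat.card_coe_set_eq, ← Nat.card_prod]
        exact Nat.card_congr (MulAction.orbitProdStabilizerEquivGroup H z)
      have heq : Nat.card ↥(MulAction.stabilizer H (k • a)) = Nat.card ↥(MulAction.stabilizer H b) := by
        refine Nat.card_congr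
          { toFun := fun g => ⟨⟨k⁻¹ * g.1.1 * k, ?_⟩, ?_⟩
            invFun := fun g => ⟨⟨k * g.1.1 * k⁻¹, ?_⟩, ?_⟩
            left_inv := fun g => by ext; simp [mul_assoc]
            right_inv := fun g => by ext; simp [mul_assoc] }
        · have h2 : g.1.1 • (k • a) = k • a := g.2
          show (k⁻¹ * g.1.1 * k) • a = a
          rw [mul_smul, mul_smul, h2, inv_smul_smul]
        · have h1 : g.1.1 • a = a := g.1.2
          show (k⁻¹ * g.1.1 * k) • b = b
          rw [mul_smul, mul_smul, hk, h1, ← hk, inv_smul_smul]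
        · have h2 : g.1.1 • b = b := g.2
          show (k * g.1.1 * k⁻¹) • a = a
          rw [← hk, ← mul_smul, inv_mul_cancel_right, mul_smul, h2]
        · have h1 : g.1.1 • a = a := g.1.2
          show (k * g.1.1 * k⁻¹) • (k • a) = k • a
          rw [← mul_smul, inv_mul_cancel_right, mul_smul, h1]
      have h22 : (MulAction.orbit H (k • a)).ncard = 22 := by
        have h1 := horb (k • a)
        rw [heq, ← horb b, hb] at h1
        exact Nat.eq_of_mul_eq_mul_right Nat.card_pos h1
      have hmem : k • a ∈ MulAction.orbit H b := by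
        rcases hcases (k • a) with h | h | h
        · exfalso
          have : k • a = k • b := h.trans hk.symm
          exact hne a ⟨1, one_smul _ _, by rw [one_smul]; exact (smul_left_cancel k this).symm⟩
        · exact h
        · rw [MulAction.orbit_eq_iff.2 h, hc] at h22; omega
      have := rel_smul (rel_left.2 hmem) k⁻¹
      rwa [inv_smul_smul, show k⁻¹ • a = b by rw [← hk, inv_smul_smul]] at this
    rintro x y ⟨g, rfl, rfl⟩
    exact rel_smul hba g
  let Γ : SimpleGraph Ω :=
    { Adj := Rel G a b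
      symm := ⟨hsymm⟩
      loopless := ⟨hne⟩ }
  have hinv : ∀ (g : G) (x y : Ω), Γ.Adj (g • x) (g • y) ↔ Γ.Adj x y := fun g x y =>
    ⟨fun h => by have := rel_smul h g⁻¹; rwa [inv_smul_smul, inv_smul_smul] at this, fun h => rel_smul h g⟩
  refine ⟨Γ, inferInstance, ?_, hinv, fun y hy => rel_left.1 hy⟩
  let N : Ω → Finset Ω := fun x => univ.filter fun z => Γ.Adj x z
  let C : Ω → Ω → ℕ := fun x y => #(univ.filter fun z => Γ.Adj x z ∧ Γ.Adj y z)
  have hCinv : ∀ (g : G) x y, C (g • x) (g • y) = C x y := fun g x y => by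
    symm
    refine card_nbij' (g • ·) (g⁻¹ • ·) ?_ ?_ ?_ ?_
    · intro z hz
      simp only [coe_filter, mem_univ, true_and, Set.mem_ofPred_eq] at hz ⊢
      exact ⟨(hinv g x z).2 hz.1, (hinv g y z).2 hz.2⟩
    · intro z hz
      simp only [coe_filter, mem_univ, true_and, Set.mem_ofPred_eq] at hz ⊢
      rw [← hinv g x, ← hinv g y, smul_inv_smul]; exact hz
    · intro z _; exact inv_smul_smul g z
    · intro z _; exact smul_inv_smul g z
  have hNa : #(N a) = 22 := by
    rw [← hb, ← Set.ncard_coe_finset]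
    congr 1
    ext z
    simp [N, Γ, rel_left]
  have hN : ∀ x, #(N x) = 22 := fun x => by
    obtain ⟨g, rfl⟩ := MulAction.exists_smul_eq G a x
    rw [← hNa]
    symm
    refine card_nbij' (g • ·) (g⁻¹ • ·) ?_ ?_ ?_ ?_
    · intro z hz
      simp only [N, coe_filter, mem_univ, true_and, Set.mem_ofPred_eq] at hz ⊢
      exact (hinv g a z).2 hz
    · intro z hz
      simp only [N, coe_filter, mem_univ, true_and, Set.mem_ofPred_eq] at hz ⊢
      rw [← hinv g a, smul_inv_smul]; exact hz
    · intro z _; exact inv_smul_smul g z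
    · intro z _; exact smul_inv_smul g z
  set l := C a b with hl
  set m := C a c with hm
  have hCb : ∀ y, Γ.Adj a y → C a y = l := fun y hy => by
    obtain ⟨g, hg⟩ := rel_left.1 hy
    have hga : (g : G) • a = a := g.2
    have hgb : (g : G) • b = y := hg
    have := hCinv g a b
    rwa [hga, hgb] at this
  have hCc : ∀ y, y ≠ a → ¬ Γ.Adj a y → C a y = m := fun y hy hn => by
    rcases hcases y with h | h | h
    · exact absurd h hy
    · exact absurd (rel_left.2 h) hn
    obtain ⟨g, hg⟩ := h
    have hga : (g : G) • a = a := g.2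
    have hgc : (g : G) • c = y := hg
    have := hCinv g a c
    rwa [hga, hgc] at this
  have hsum : ∑ y, C a y = 22 * 22 := by
    simp only [C, card_filter, ite_and]
    rw [sum_comm]
    have : ∀ z, (∑ y, if Γ.Adj a z then if Γ.Adj y z then 1 else 0 else 0) = if Γ.Adj a z then 22 else 0 := fun z => by
      by_cases hz : Γ.Adj a z
      · simp only [hz, if_true]
        rw [← card_filter, ← hN z]
        simp [N, Γ.adj_comm z]
      · simp [hz]
    rw [sum_congr rfl fun z _ => this z, ← sum_filter, sum_const, smul_eq_mul]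
    exact congrArg (· * 22) hNa
  have hcount : 22 + 22 * l + 77 * m = 484 := by
    have hCa : C a a = 22 := by rw [← hNa]; simp [C, N]
    rw [← add_sum_erase _ _ (mem_univ a), hCa, ← sum_filter_add_sum_filter_not (univ.erase a) (fun y => Γ.Adj a y),
      sum_congr rfl fun y hy => hCb y (mem_filter.1 hy).2,
      sum_congr rfl fun y hy => hCc y (ne_of_mem_erase (mem_filter.1 hy).1) (mem_filter.1 hy).2,
      sum_const, sum_const, smul_eq_mul, smul_eq_mul] at hsum
    have e1 : (univ.erase a).filter (fun y => Γ.Adj a y) = N a := by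
      ext y
      simp only [N, mem_filter, mem_erase, mem_univ, and_true, true_and]
      exact ⟨And.right, fun h => ⟨h.ne', h⟩⟩
    have e2 := card_filter_add_card_filter_not (s := univ.erase a) (fun y => Γ.Adj a y)
    rw [card_erase_of_mem (mem_univ a), card_univ, hΩ, e1, hNa] at e2
    rw [e1, hNa, show #((univ.erase a).filter fun y => ¬ Γ.Adj a y) = 77 by omega] at hsum
    omega
  have hsrg : Γ.IsSRGWith 100 22 l m :=
    { card := hΩ
      regular := fun x => by
        rw [← SimpleGraph.card_neighborFinset_eq_degree, ← hN x]; congr 1; ext z; simp [N]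
      of_adj := fun x y hxy => by
        obtain ⟨g, hg⟩ := MulAction.exists_smul_eq G x a
        rw [Fintype.card_subtype]
        have h1 : C (g • x) (g • y) = C x y := hCinv g x y
        rw [hg, hCb _ (by rw [← hg]; exact (hinv g x y).2 hxy)] at h1
        rw [h1]
        congr 1
      of_not_adj := fun x y hxy hn => by
        obtain ⟨g, hg⟩ := MulAction.exists_smul_eq G x a
        rw [Fintype.card_subtype]
        have h1 : C (g • x) (g • y) = C x y := hCinv g x y
        rw [hg, hCc _ (fun e => hxy (smul_left_cancel g (hg.trans e.symm)))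
          (by rw [← hg]; exact fun e => hn ((hinv g x y).1 e))] at h1
        rw [h1]
        congr 1 }
  have h1 : (l = 0 ∧ m = 6) ∨ (l = 7 ∧ m = 4) ∨ (l = 14 ∧ m = 2) ∨ (l = 21 ∧ m = 0) := by omega
  rcases h1 with ⟨h1, h2⟩ | h1
  · rw [h1, h2] at hsrg; exact hsrg
  · exact (param_false hsrg h1).elim

end Orbital

end Cfsg.Agent.Fus.RankThreeHundred
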