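import Cfsg.Agent.Lib.Fus.SRGHundred
import Cfsg.Agent.Lib.Fus.RankThreeHundred
import Cfsg.Agent.Lib.Spor.Leech.HSGraph
import Cfsg.Agent.Lib.Spor.Cos.HSOut.Iso
import Cfsg.Agent.Lib.Fus.MathieuTwoGroups
import Cfsg.Agent.S0379

/-!
A rank three group of degree 100 with point stabiliser M22 and suborbits 1, 22, 77 is the Higman–Sims group.
-/

set_option autoImplicit false
set_option linter.style.haveILetI false

namespace Cfsg.Agent.Fus.HSRecognition

open Cfsg Cfsg.Agent.Spor Cfsg.Agent.Spor.Leech Cfsg.Agent.Spor.Leech.HSGraph Cfsg.Agent.Spor.SteinerCode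
open scoped Pointwise

/-- M22 is simple. -/
theorem simple22 : IsSimpleGroup ↥Cfsg.Spor.M22 := by
  let e : ↥Cfsg.Spor.M22 ≃* ↥(MulAction.stabilizer Cfsg.M24 (none : Cfsg.GolayPt) ⊓
      MulAction.stabilizer Cfsg.M24 (some 0 : Cfsg.GolayPt)) :=
    { toFun := fun g => ⟨⟨g.1, g.2.1.1⟩, ⟨g.2.1.2, g.2.2⟩⟩
      invFun := fun g => ⟨g.1.1, ⟨⟨g.1.2, g.2.1⟩, g.2.2⟩⟩
      left_inv := fun g => rfl
      right_inv := fun g => rfl
      map_mul' := fun g h => rfl }
  exact e.isSimpleGroup_congr.2 (Cfsg.Agent.S0379.result none (some 0) (by decide))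

variable {α : Type*} [Fintype α] {B : Set (Finset α)}

/-- The point-block graph admits a transitive copy of the Higman–Sims group. -/
theorem exists_hs_iso (hα : Fintype.card α = 22) (hB : IsSteinerSystem 3 6 B) :
    ∃ H : Subgroup (pointBlockGraph B ≃g pointBlockGraph B), Cfsg.Spor.IsoHS H ∧ Nat.card H = 44352000 ∧
      ∀ x y : Option (α ⊕ B), ∃ g ∈ H, g x = y := by
  classical
  obtain ⟨e, he, -⟩ := exists_equiv622 hα hB
  have hpq : e none ≠ e (some none) := by simp
  let X := shellTwo (uVec (e none)) (wVec (e (some none))) 24 (-24)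
  obtain ⟨hn, htr⟩ := HSPairs.hundred (u_norm (e none)) (w_norm (e (some none))) (uw_dot hpq)
  have hfin : X.Finite := finite_shell.subset fun z hz => hz.1
  have hrange : Set.range (vec e he) = X := by
    refine Set.eq_of_subset_of_ncard_le (Set.range_subset_iff.2 (vec_mem e he)) ?_ hfin
    rw [Set.ncard_range_of_injective (vec_injective e he hα hB), hn]
    rw [Finite.card_option, Nat.card_sum, card_B hα hB, Nat.card_eq_fintype_card, hα]
  let φ : Option (α ⊕ B) ≃ X :=
    (Equiv.ofInjective _ (vec_injective e he hα hB)).trans (Equiv.setCongr hrange)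
  have hφ : ∀ x, ((φ x : X) : leechLattice) = vec e he x := fun x => rfl
  have hmove : ∀ g : pairStab e, ∀ z : X, (g : Co0) • (z : leechLattice) ∈ X := fun g z =>
    (smul_mem_shellTwo g.2.1 g.2.2).2 z.2
  let F : pairStab e → Option (α ⊕ B) → Option (α ⊕ B) := fun g x => φ.symm ⟨_, hmove g (φ x)⟩
  have hF : ∀ g x, vec e he (F g x) = (g : Co0) • vec e he x := fun g x => by
    rw [← hφ, Equiv.apply_symm_apply, ← hφ]
  have hinj := vec_injective e he hα hB
  have hmul : ∀ g h x, F (g * h) x = F g (F h x) := fun g h x => hinj (by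
    rw [hF, hF, hF, Subgroup.coe_mul, mul_smul])
  have hone : ∀ x, F 1 x = x := fun x => hinj (by rw [hF, Subgroup.coe_one, one_smul])
  let ρ : pairStab e →* (pointBlockGraph B ≃g pointBlockGraph B) :=
    { toFun := fun g =>
        { toFun := F g
          invFun := F g⁻¹
          left_inv := fun x => by rw [← hmul, inv_mul_cancel, hone]
          right_inv := fun x => by rw [← hmul, mul_inv_cancel, hone]
          map_rel_iff' := by
            intro x y
            show (pointBlockGraph B).Adj (F g x) (F g y) ↔ _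
            rw [adj_iff e he hα hB, adj_iff e he hα hB, hF, hF, co_dot] }
      map_one' := RelIso.ext hone
      map_mul' := fun g h => RelIso.ext (hmul g h) }
  have hHS := HSSimple.isHS (u_norm (e none)) (w_norm (e (some none))) (uw_dot hpq)
  have htrans : ∀ x y, ∃ g, ρ g x = y := fun x y => by
    obtain ⟨g, g1, g2, g3⟩ := htr _ (vec_mem e he x) _ (vec_mem e he y)
    exact ⟨⟨g, g1, g2⟩, hinj ((hF _ x).trans g3)⟩
  have : IsSimpleGroup (pairStab e) := hHS.1
  have hker : ρ.ker = ⊥ := by
    refine (ρ.normal_ker.eq_bot_or_eq_top).resolve_right fun h => ?_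
    obtain ⟨a⟩ : Nonempty α := Fintype.card_pos_iff.1 (by omega)
    obtain ⟨g, hg⟩ := htrans none (some (Sum.inl a))
    have h1 : ρ g = 1 := MonoidHom.mem_ker.1 (h ▸ Subgroup.mem_top g)
    rw [h1] at hg
    simp at hg
  have eR := MonoidHom.ofInjective (f := ρ) ((MonoidHom.ker_eq_bot_iff ρ).1 hker)
  obtain ⟨k, k1, k2⟩ := HSPairs.to_pair (u_norm (e none)) (w_norm (e (some none))) (uw_dot hpq)
  obtain ⟨eH⟩ := Cos.HSOut.nonempty_equiv
  refine ⟨ρ.range, ⟨eR.symm.trans (((StabSimple.pairEquiv k k1 k2).trans
    (MulEquiv.subgroupCongr Cos.HSOut.H_eq.symm)).trans eH.symm)⟩, (Nat.card_congr eR.toEquiv).symm.trans hHS.2,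
    fun x y => ?_⟩
  obtain ⟨g, hg⟩ := htrans x y
  exact ⟨ρ g, ⟨g, rfl⟩, hg⟩

omit [Fintype α] in
theorem adj_none_iff (z : Option (α ⊕ B)) :
    (pointBlockGraph B).Adj none z ↔ ∃ a, z = some (Sum.inl a) := by
  rcases z with _ | a | b <;> simp [pointBlockGraph, pointBlockRel]

/-- The stabiliser of the extra vertex embeds in the automorphism group of the system. -/
theorem card_stab_le (hα : Fintype.card α = 22) (hB : IsSteinerSystem 3 6 B) :
    Nat.card {g : pointBlockGraph B ≃g pointBlockGraph B // g none = none} ≤ 887040 := by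
  classical
  rw [← (aut622 hα hB).1]
  haveI : Finite (setSystemAut B) := inferInstance
  have key : ∀ g : {g : pointBlockGraph B ≃g pointBlockGraph B // g none = none}, ∀ a, ∃ a',
      g.1 (some (Sum.inl a)) = some (Sum.inl a') := fun g a => (adj_none_iff _).1 (by
    have h := g.1.map_rel_iff.2 ((adj_none_iff (B := B) (some (Sum.inl a))).2 ⟨a, rfl⟩)
    rwa [g.2] at h)
  choose f hf using key
  have finj : ∀ g, Function.Injective (f g) := fun g a a' h => by
    have : g.1 (some (Sum.inl a)) = g.1 (some (Sum.inl a')) := by rw [hf, hf, h]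
    simpa using this
  let p : {g : pointBlockGraph B ≃g pointBlockGraph B // g none = none} → Equiv.Perm α := fun g =>
    Equiv.ofBijective (f g) (finj g).bijective_of_finite
  have hblk : ∀ g, ∀ b : B, ∃ b' : B, g.1 (some (Sum.inr b)) = some (Sum.inr b') ∧
      (b' : Finset α) = (b : Finset α).image (f g) := by
    intro g b
    rcases hz : g.1 (some (Sum.inr b)) with _ | a | b'
    · exact absurd (g.1.injective (hz.trans g.2.symm)) (by simp)
    · have h1 : (pointBlockGraph B).Adj none (some (Sum.inr b)) := by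
        rw [← g.1.map_rel_iff, g.2, hz]; exact (adj_none_iff _).2 ⟨a, rfl⟩
      simp [adj_none_iff] at h1
    · refine ⟨b', rfl, ?_⟩
      ext a'
      obtain ⟨a, rfl⟩ := (finj g).bijective_of_finite.2 a'
      have h1 := g.1.map_rel_iff (a := some (Sum.inl a)) (b := some (Sum.inr b))
      rw [hz, hf] at h1
      rw [(finj g).mem_finset_image]
      simpa [pointBlockGraph, pointBlockRel] using h1
  have hmem : ∀ g, p g ∈ setSystemAut B := fun g => by
    rw [MulAction.mem_stabilizer_iff]
    refine Set.eq_of_subset_of_ncard_le ?_ (le_of_eq ?_)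
    · rintro _ ⟨b, hb, rfl⟩
      obtain ⟨b', -, h'⟩ := hblk g ⟨b, hb⟩
      show (b : Finset α).image (fun a => p g • a) ∈ B
      convert b'.2 using 1
      exact h'.symm
    · exact (Set.ncard_image_of_injective _ (MulAction.injective (p g))).symm
  refine Nat.card_le_card_of_injective (fun g => (⟨p g, hmem g⟩ : setSystemAut B)) fun g g' h => ?_
  have hfe : f g = f g' := congrArg (fun q : setSystemAut B => ((q : Equiv.Perm α) : α → α)) h
  refine Subtype.ext (RelIso.ext fun x => ?_)
  rcases x with _ | a | b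
  · rw [g.2, g'.2]
  · rw [hf, hf, hfe]
  · obtain ⟨b1, e1, f1⟩ := hblk g b
    obtain ⟨b2, e2, f2⟩ := hblk g' b
    rw [e1, e2, show b1 = b2 from Subtype.ext (by rw [f1, f2, hfe])]

/-- A transitive subgroup of order 44352000 has index at most two. -/
theorem index_le (hα : Fintype.card α = 22) (hB : IsSteinerSystem 3 6 B)
    (H : Subgroup (pointBlockGraph B ≃g pointBlockGraph B)) (hH : Nat.card H = 44352000)
    (htr : ∀ x y : Option (α ⊕ B), ∃ g ∈ H, g x = y) : H.index ≤ 2 := by
  classical
  set A := pointBlockGraph B ≃g pointBlockGraph B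
  letI act : MulAction A (Option (α ⊕ B)) :=
    { smul := fun g x => g x
      one_smul := fun x => rfl
      mul_smul := fun g h x => rfl }
  haveI : Finite A := Finite.of_injective (fun g : A => (g : Option (α ⊕ B) → Option (α ⊕ B))) DFunLike.coe_injective
  set S := MulAction.stabilizer A (none : Option (α ⊕ B))
  have hS : Nat.card S ≤ 887040 := le_trans (le_of_eq (Nat.card_congr
    (Equiv.subtypeEquivRight fun g => Iff.rfl))) (card_stab_le hα hB)
  have horb : MulAction.orbit H (none : Option (α ⊕ B)) = Set.univ := Set.eq_univ_of_forall fun y => by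
    obtain ⟨g, hg, hgy⟩ := htr none y
    exact ⟨⟨g, hg⟩, hgy⟩
  have hcardV : Nat.card (Option (α ⊕ B)) = 100 := by
    rw [Finite.card_option, Nat.card_sum, card_B hα hB, Nat.card_eq_fintype_card, hα]
  have hHS : 443520 = Nat.card ↥(H ⊓ S) := by
    have h1 := Nat.card_congr (MulAction.orbitProdStabilizerEquivGroup H (none : Option (α ⊕ B)))
    rw [Nat.card_prod, horb, Nat.card_coe_set_eq, Set.ncard_univ, hcardV, hH,
      Nat.card_congr (show MulAction.stabilizer H (none : Option (α ⊕ B)) ≃ ↥(H ⊓ S) from
        { toFun := fun g => ⟨g.1.1, g.1.2, g.2⟩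
          invFun := fun g => ⟨⟨g.1, g.2.1⟩, g.2.2⟩
          left_inv := fun g => rfl
          right_inv := fun g => rfl })] at h1
    omega
  have hle : H.index ≤ H.relIndex S := by
    rw [Subgroup.relIndex, Subgroup.index, Subgroup.index]
    refine Nat.card_le_card_of_surjective
      (Quotient.map' (fun s : S => (s : A)) fun a b hab => by
        rw [QuotientGroup.leftRel_apply] at hab ⊢
        exact hab) fun c => ?_
    induction c using QuotientGroup.induction_on with
    | H g =>
      obtain ⟨h, hh, he⟩ := htr none (g⁻¹ none)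
      have hs : g * h ∈ S := by
        show g (h none) = none
        rw [he]
        show g (g.symm none) = none
        exact g.apply_symm_apply _
      refine ⟨(⟨g * h, hs⟩ : S), QuotientGroup.eq.2 ?_⟩
      simpa using H.inv_mem hh
  have h2 : Nat.card ↥(H ⊓ S) * H.relIndex S = Nat.card S := by
    rw [← Subgroup.relIndex_bot_left, ← Subgroup.relIndex_bot_left, ← Subgroup.inf_relIndex_right H S,
      Subgroup.relIndex_mul_relIndex ⊥ (H ⊓ S) S bot_le inf_le_right]
  rw [← hHS] at h2
  omega

theorem main {Ω : Type*} [Fintype Ω] [DecidableEq Ω] (hΩ : Fintype.card Ω = 100) (G : Subgroup (Equiv.Perm Ω))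
    [MulAction.IsPretransitive G Ω] (a : Ω) (e : MulAction.stabilizer G a ≃* Cfsg.Spor.M22) (b c : Ω)
    (hb : (MulAction.orbit (MulAction.stabilizer G a) b).ncard = 22)
    (hc : (MulAction.orbit (MulAction.stabilizer G a) c).ncard = 77) : Cfsg.Spor.IsoHS G := by
  classical
  obtain ⟨Γ, _, hsrg, hinv, hnbr⟩ := RankThreeHundred.exists_srg hΩ hb hc
  obtain ⟨θ⟩ := SRGHundred.nonempty_iso hsrg (v := a)
  have hα := SRGHundred.card_pt hsrg (v := a)
  have hB := SRGHundred.steiner hsrg (v := a)
  obtain ⟨H, hHiso, hHcard, hHtr⟩ := exists_hs_iso hα hB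
  haveI : Finite G := inferInstance
  let toA : G → (pointBlockGraph (SRGHundred.family Γ a) ≃g pointBlockGraph (SRGHundred.family Γ a)) := fun g =>
    (θ.trans ⟨(g : Equiv.Perm Ω), fun {x y} => hinv g x y⟩).trans θ.symm
  let φ : G →* (pointBlockGraph (SRGHundred.family Γ a) ≃g pointBlockGraph (SRGHundred.family Γ a)) :=
    { toFun := toA
      map_one' := RelIso.ext fun x => θ.symm_apply_apply x
      map_mul' := fun g h => RelIso.ext fun x => by
        show θ.symm (((g * h : G) : Equiv.Perm Ω) (θ x)) = θ.symm ((g : Equiv.Perm Ω) (θ (θ.symm ((h : Equiv.Perm Ω) (θ x)))))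
        rw [θ.apply_symm_apply]; rfl }
  have hφ : Function.Injective φ := fun g h hgh => Subtype.ext (Equiv.ext fun z => by
    have h1 : θ.symm ((g : Equiv.Perm Ω) (θ (θ.symm z))) = θ.symm ((h : Equiv.Perm Ω) (θ (θ.symm z))) :=
      congrArg (fun w : pointBlockGraph (SRGHundred.family Γ a) ≃g pointBlockGraph (SRGHundred.family Γ a) =>
        w (θ.symm z)) hgh
    rw [θ.apply_symm_apply] at h1
    exact θ.symm.injective h1)
  have hGa : Nat.card (MulAction.stabilizer G a) = 443520 := (Nat.card_congr e.toEquiv).trans Mathieu.card22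
  have hG : Nat.card G = 44352000 := by
    have h1 := Nat.card_congr (MulAction.orbitProdStabilizerEquivGroup G a)
    rw [Nat.card_prod, MulAction.orbit_eq_univ, Nat.card_coe_set_eq, Set.ncard_univ, Nat.card_eq_fintype_card,
      hΩ, hGa] at h1
    omega
  haveI hHn : H.Normal := by
    rcases Nat.lt_or_ge H.index 2 with h1 | h1
    · haveI : Finite (pointBlockGraph (SRGHundred.family Γ a) ≃g pointBlockGraph (SRGHundred.family Γ a)) :=
        Finite.of_injective (fun w => (w : Option _ → Option _)) DFunLike.coe_injective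
      have h0 : H.index ≠ 0 := H.index_ne_zero_of_finite
      rw [Subgroup.index_eq_one.1 (by omega : H.index = 1)]
      infer_instance
    · exact Subgroup.normal_of_index_eq_two (le_antisymm (index_le hα hB H hHcard hHtr) h1)
  set M : Subgroup G := H.comap φ with hM
  have hMidx : M.index ≤ 2 := by
    haveI : Finite (pointBlockGraph (SRGHundred.family Γ a) ≃g pointBlockGraph (SRGHundred.family Γ a)) :=
      Finite.of_injective (fun w => (w : Option _ → Option _)) DFunLike.coe_injective
    refine le_trans ?_ (index_le hα hB H hHcard hHtr)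
    rw [hM, Subgroup.index_comap]
    exact Nat.le_of_dvd (Nat.pos_of_ne_zero H.index_ne_zero_of_finite) (Subgroup.relIndex_dvd_index_of_normal _ _)
  have hsimple : IsSimpleGroup (MulAction.stabilizer G a) := e.isSimpleGroup_congr.2 simple22
  have haM : MulAction.stabilizer G a ≤ M := by
    rcases (Subgroup.Normal.subgroupOf (Subgroup.Normal.comap hHn φ) (MulAction.stabilizer G a)).eq_bot_or_eq_top
      with h | h
    · exfalso
      have h1 := Subgroup.card_mul_index (M.subgroupOf (MulAction.stabilizer G a))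
      rw [h, Subgroup.card_bot, one_mul, hGa] at h1
      have h3 : (⊥ : Subgroup (MulAction.stabilizer G a)).index ≤ M.index := by
        rw [← h]
        exact Nat.le_of_dvd (Nat.pos_of_ne_zero M.index_ne_zero_of_finite) (Subgroup.relIndex_dvd_index_of_normal M _)
      omega
    · exact Subgroup.subgroupOf_eq_top.1 h
  have hMn : M.Normal := Subgroup.Normal.comap hHn φ
  have hMtop : M = ⊤ := by
    have hmove : ∀ (g : G) (x y : Ω), MulAction.orbit M x = MulAction.orbit M y →
        MulAction.orbit M (g • x) = MulAction.orbit M (g • y) := fun g x y h => by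
      obtain ⟨k, hk⟩ : x ∈ MulAction.orbit M y := h ▸ MulAction.mem_orbit_self x
      have hk' : (k : G) • y = x := hk
      refine MulAction.orbit_eq_iff.2 ⟨⟨g * k * g⁻¹, hMn.conj_mem _ k.2 g⟩, ?_⟩
      show (g * (k : G) * g⁻¹) • g • y = g • x
      rw [← mul_smul, inv_mul_cancel_right, mul_smul, hk']
    have hnb : ∀ x y z, Γ.Adj x y → Γ.Adj x z → MulAction.orbit M y = MulAction.orbit M z := by
      have key : ∀ y, Γ.Adj a y → MulAction.orbit M y = MulAction.orbit M b := by
        intro y hy
        obtain ⟨g, rfl⟩ := hnbr y hy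
        exact MulAction.orbit_eq_iff.2 ⟨⟨g, haM g.2⟩, rfl⟩
      intro x y z hy hz
      obtain ⟨g, rfl⟩ := MulAction.exists_smul_eq G a x
      have h1 := key (g⁻¹ • y) (by rw [← hinv g, smul_inv_smul]; exact hy)
      have h2 := key (g⁻¹ • z) (by rw [← hinv g, smul_inv_smul]; exact hz)
      have h3 := hmove g _ _ (h1.trans h2.symm)
      rwa [smul_inv_smul, smul_inv_smul] at h3
    have hfar : ∀ w ∈ SRGHundred.far Γ a, MulAction.orbit M w = MulAction.orbit M a := by
      intro w hw
      obtain ⟨d, hd⟩ := Finset.card_pos.1 (show 0 < (SRGHundred.blk Γ a w).card by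
        rw [SRGHundred.card_blk hsrg hw]; norm_num)
      simp only [SRGHundred.blk, Finset.mem_filter, Finset.mem_univ, true_and] at hd
      exact hnb d w a hd.symm d.2.symm
    by_contra hne
    have hcard : Nat.card ↥M ≤ 22176000 := by
      have h1 := Subgroup.card_mul_index M
      have h2 : 2 ≤ M.index := by
        have := M.index_ne_zero_of_finite
        have h3 : M.index ≠ 1 := fun h => hne (Subgroup.index_eq_one.1 h)
        omega
      rw [hG] at h1
      nlinarith
    have hsub : (SRGHundred.far Γ a : Set Ω) ⊆ MulAction.orbit M a := fun w hw =>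
      hfar w hw ▸ MulAction.mem_orbit_self w
    have h77 := Set.ncard_le_ncard hsub
    rw [Set.ncard_coe_finset, SRGHundred.card_far hsrg] at h77
    have h1 := Nat.card_congr (MulAction.orbitProdStabilizerEquivGroup M a)
    rw [Nat.card_prod, Nat.card_coe_set_eq] at h1
    have h2 : Nat.card (MulAction.stabilizer M a) = 443520 := by
      rw [← hGa]
      exact Nat.card_congr
        { toFun := fun g => ⟨g.1.1, g.2⟩
          invFun := fun g => ⟨⟨g.1, haM g.2⟩, g.2⟩
          left_inv := fun g => rfl
          right_inv := fun g => rfl }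
    rw [h2] at h1
    omega
  have hle : φ.range ≤ H := by
    rintro _ ⟨g, rfl⟩
    exact Subgroup.mem_comap.1 (hMtop ▸ Subgroup.mem_top g : g ∈ M)
  have heq : φ.range = H := by
    haveI : Finite H := Nat.finite_of_card_ne_zero (by rw [hHcard]; norm_num)
    refine Subgroup.eq_of_le_of_card_ge hle ?_
    rw [hHcard, ← hG, Nat.card_congr (MonoidHom.ofInjective hφ).toEquiv]
  obtain ⟨eH⟩ := hHiso
  exact ⟨(MonoidHom.ofInjective hφ).trans ((MulEquiv.subgroupCongr heq).trans eH)⟩

end Cfsg.Agent.Fus.HSRecognition
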