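import Mathlib
import Cfsg.Prelude.Def_HallClasses
import Cfsg.Prelude.Def_OddOrderLocal

/-!
Elementary facts on Hall `π`-subgroups: maximality, normal subgroups, the Sylow case.
-/

set_option autoImplicit false

namespace Cfsg.Agent.Fus.HallSym

variable {G : Type*} [Group G] [Finite G] {π : Set ℕ}

theorem hall_full {H : Subgroup G} (hH : IsPiHall π H) {p : ℕ} (hp : p.Prime) (hpπ : p ∈ π) :
    (Nat.card G).factorization p = (Nat.card H).factorization p := by
  rw [← H.card_mul_index, Nat.factorization_mul Nat.card_pos.ne' Subgroup.index_ne_zero_of_finite,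
    Finsupp.add_apply, Nat.factorization_eq_zero_of_not_dvd (hH.2 p hp hpπ), Nat.add_zero]

omit [Finite G] in
theorem hall_eq_of_le {H K : Subgroup G} (hH : IsPiHall π H) (hK : IsPiSubgroup π K) (h : H ≤ K) :
    H = K := by
  refine le_antisymm h (Subgroup.relIndex_eq_one.1 ?_)
  by_contra hne
  obtain ⟨p, hp, hd⟩ := Nat.exists_prime_and_dvd hne
  exact hH.2 p hp (hK p hp (hd.trans (Subgroup.relIndex_dvd_card _ _)))
    (hd.trans (Subgroup.relIndex_dvd_index_of_le h))

omit [Finite G] in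
theorem hall_maximal {H : Subgroup G} (hH : IsPiHall π H) : Maximal (IsPiSubgroup π) H :=
  ⟨hH.1, fun _ hK hle => (hall_eq_of_le hH hK hle).ge⟩

omit [Finite G] in
theorem hall_map_conj {H : Subgroup G} (hH : IsPiHall π H) (g : G) :
    IsPiHall π (H.map (MulAut.conj g).toMonoidHom) := by
  refine ⟨fun p hp hd => hH.1 p hp ?_, fun p hp hpπ hd => hH.2 p hp hpπ ?_⟩
  · rwa [Subgroup.card_map_of_injective (MulAut.conj g).injective] at hd
  · rwa [Subgroup.index_map_of_bijective (MulAut.conj g).bijective] at hd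

theorem exists_hall_of_dPi (hD : IsDPiGroup π G) {H : Subgroup G} (hH : IsPiHall π H)
    {U : Subgroup G} (hU : IsPiSubgroup π U) : ∃ K : Subgroup G, IsPiHall π K ∧ U ≤ K := by
  obtain ⟨M, hUM, hM⟩ := Finite.exists_le_maximal hU
  obtain ⟨g, rfl⟩ := hD H M (hall_maximal hH) hM
  exact ⟨_, hall_map_conj hH g, hUM⟩

/-- A group satisfying `D_π` has a Hall `π`-subgroup. -/
theorem ePi_of_dPi (hD : IsDPiGroup π G) : IsEPiGroup π G := by
  have hbot : IsPiSubgroup π (⊥ : Subgroup G) := fun p hp hd => by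
    rw [Subgroup.card_bot, Nat.dvd_one] at hd
    exact absurd hd hp.ne_one
  obtain ⟨K, -, hK⟩ := Finite.exists_le_maximal hbot
  refine ⟨K, hK.1, fun p hp hpπ => ?_⟩
  haveI := Fact.mk hp
  obtain ⟨P⟩ : Nonempty (Sylow p G) := inferInstance
  have hP : IsPiSubgroup π (P : Subgroup G) := fun r hr hd => by
    rw [P.card_eq_multiplicity] at hd
    rwa [(Nat.prime_dvd_prime_iff_eq hr hp).1 (hr.dvd_of_dvd_pow hd)]
  obtain ⟨M, hPM, hM⟩ := Finite.exists_le_maximal hP
  obtain ⟨g, rfl⟩ := hD K M hK hM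
  intro hd
  rw [← Subgroup.index_map_of_bijective (f := (MulAut.conj g).toMonoidHom)
    (MulAut.conj g).bijective K] at hd
  exact P.not_dvd_index (hd.trans (Subgroup.index_dvd_of_le hPM))

theorem cPi_of_dPi (hD : IsDPiGroup π G) : IsCPiGroup π G :=
  ⟨ePi_of_dPi hD, fun H K hH hK => hD H K (hall_maximal hH) (hall_maximal hK)⟩

/-- The intersection of a Hall subgroup with a normal subgroup. -/
theorem hall_subgroupOf {N M : Subgroup G} [hN : N.Normal] (hM : IsPiHall π M) :
    IsPiHall π (M.subgroupOf N) := by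
  refine ⟨fun p hp hd => hM.1 p hp (hd.trans ?_), fun p hp hpπ hd => hM.2 p hp hpπ (hd.trans ?_)⟩
  · rw [← Subgroup.card_map_of_injective (K := M.subgroupOf N) N.subtype_injective,
      Subgroup.subgroupOf_map_subtype]
    exact Subgroup.card_dvd_of_le inf_le_left
  · show M.relIndex N ∣ M.index
    obtain ⟨c, hc⟩ : N.relIndex M ∣ N.index := Subgroup.relIndex_dvd_index_of_normal _ _
    have h1 := Subgroup.relIndex_mul_index (show M ⊓ N ≤ N from inf_le_right)
    have h2 := Subgroup.relIndex_mul_index (show M ⊓ N ≤ M from inf_le_left)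
    rw [Subgroup.inf_relIndex_right, hc, ← h2, Subgroup.inf_relIndex_left] at h1
    refine ⟨c, Nat.eq_of_mul_eq_mul_left (Nat.pos_of_ne_zero ?_) (h1.symm.trans (by ring))⟩
    intro h0
    rw [h0, zero_mul] at hc
    exact Subgroup.index_ne_zero_of_finite hc

/-- With at most one, or with all, of the primes dividing the order in `π`, all Sylow-type
statements hold. -/
theorem dPi_of_improper
    (h : (∀ r s : ℕ, r.Prime → s.Prime → r ∈ π → s ∈ π → r ∣ Nat.card G → s ∣ Nat.card G → r = s) ∨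
      ∀ r : ℕ, r.Prime → r ∣ Nat.card G → r ∈ π) : IsDPiGroup π G := by
  intro H K hH hK
  rcases h with h | h
  · by_cases hex : ∃ p : ℕ, p.Prime ∧ p ∈ π ∧ p ∣ Nat.card G
    · obtain ⟨p, hp, hpπ, hpd⟩ := hex
      haveI := Fact.mk hp
      have key : ∀ L : Subgroup G, Maximal (IsPiSubgroup π) L → ∃ P : Sylow p G, L = P := by
        intro L hL
        have hLp : IsPGroup p L := IsPGroup.iff_card.2 ⟨_,
          Nat.eq_prime_pow_of_unique_prime_dvd Nat.card_pos.ne' fun {d} hd hdL =>
            h d p hd hp (hL.1 d hd hdL) hpπ (hdL.trans L.card_subgroup_dvd_card) hpd⟩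
        obtain ⟨P, hP⟩ := hLp.exists_le_sylow
        refine ⟨P, le_antisymm hP (hL.2 (fun r hr hd => ?_) hP)⟩
        rw [P.card_eq_multiplicity] at hd
        rwa [(Nat.prime_dvd_prime_iff_eq hr hp).1 (hr.dvd_of_dvd_pow hd)]
      obtain ⟨P, rfl⟩ := key H hH
      obtain ⟨Q, rfl⟩ := key K hK
      obtain ⟨g, rfl⟩ := MulAction.exists_smul_eq G P Q
      exact ⟨g, rfl⟩
    · have key : ∀ L : Subgroup G, IsPiSubgroup π L → L = ⊥ := fun L hL => by
        apply Subgroup.eq_bot_of_card_eq
        by_contra hne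
        obtain ⟨p, hp, hd⟩ := Nat.exists_prime_and_dvd hne
        exact hex ⟨p, hp, hL p hp hd, hd.trans L.card_subgroup_dvd_card⟩
      rw [key H hH.1, key K hK.1]
      exact ⟨1, (Subgroup.map_bot _).symm⟩
  · have htop : IsPiSubgroup π (⊤ : Subgroup G) := fun p hp hd => h p hp (by rwa [Subgroup.card_top] at hd)
    rw [le_antisymm le_top (hH.2 htop le_top), le_antisymm le_top (hK.2 htop le_top)]
    exact ⟨1, (Subgroup.map_top_of_surjective _ (MulAut.conj 1).surjective).symm⟩

end Cfsg.Agent.Fus.HallSym
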