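import Cfsg.Agent.Lib.Fus.HallSymMain
import Cfsg.Agent.Lib.Fus.HallSymBasic

/-!
Hall subgroups of the symmetric and alternating groups: existence, conjugacy, the
passage between the two, and the failure of `D_π` outside the trivial cases.
-/

set_option autoImplicit false

namespace Cfsg.Agent.Fus.HallSym

open Equiv Finset MulAction

open scoped Pointwise

section Canon

variable {α : Type*} [Fintype α] [DecidableEq α]

/-- The Hall subgroups in the exceptional cases. -/
def Canon (π : Set ℕ) (K : Subgroup (Perm α)) : Prop :=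
  ((Fintype.card α).Prime ∧ (∀ r : ℕ, r.Prime → r ≤ Fintype.card α → (r ∈ π ↔ r < Fintype.card α)) ∧
    ∃ x : α, K = stabilizer (Perm α) x) ∨
  ((∀ r : ℕ, r.Prime → r ≤ Fintype.card α → (r ∈ π ↔ (r = 2 ∨ r = 3))) ∧
    ∃ s : Finset α, s.card = 4 ∧
      ((Fintype.card α = 7 ∧ K = stabilizer (Perm α) s) ∨
        (Fintype.card α = 8 ∧ K = stabilizer (Perm α) ({s, sᶜ} : Finset (Finset α)))))

theorem exists_map_finset {s t : Finset α} (h : s.card = t.card) : ∃ g : Perm α, g • s = t := by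
  obtain ⟨e⟩ : Nonempty ({x // x ∈ s} ≃ {x // x ∈ t}) := ⟨Fintype.equivOfCardEq (by simp [h])⟩
  refine ⟨e.extendSubtype, eq_of_subset_of_card_le (fun x hx => ?_) (by rw [card_smul_finset, h])⟩
  obtain ⟨y, hy, rfl⟩ := mem_smul_finset.1 hx
  exact e.extendSubtype_mem _ hy

theorem smul_compl (g : Perm α) (s : Finset α) : g • sᶜ = (g • s)ᶜ := by
  ext x
  simp [mem_compl, ← inv_smul_mem_iff]

theorem index_stab_finset (s : Finset α) :
    (stabilizer (Perm α) s).index = (Fintype.card α).choose s.card := by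
  rw [index_stabilizer]
  have : orbit (Perm α) s = ((univ : Finset α).powersetCard s.card : Set (Finset α)) := by
    ext t
    rw [mem_coe, mem_powersetCard]
    constructor
    · rintro ⟨g, rfl⟩
      exact ⟨subset_univ _, card_smul_finset g s⟩
    · intro ht
      obtain ⟨g, hg⟩ := exists_map_finset ht.2.symm
      exact ⟨g, hg⟩
  rw [this, Set.ncard_coe_finset, card_powersetCard, card_univ]

theorem index_stab_pair {s : Finset α} (hs : s.card = 4) (hn : Fintype.card α = 8) :
    (stabilizer (Perm α) ({s, sᶜ} : Finset (Finset α))).index = 35 := by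
  obtain ⟨K, hK⟩ : ∃ K, K = stabilizer (Perm α) ({s, sᶜ} : Finset (Finset α)) := ⟨_, rfl⟩
  rw [← hK]
  have hle : stabilizer (Perm α) s ≤ K := fun g hg => by
    rw [hK, mem_stabilizer_iff, smul_finset_insert, smul_finset_singleton, smul_compl,
      mem_stabilizer_iff.1 hg]
  have hne : s ≠ sᶜ := fun e => by
    obtain ⟨x, hx⟩ := card_pos.1 (show 0 < s.card by omega)
    exact (mem_compl.1 (e ▸ hx)) hx
  have horb : orbit K s = (({s, sᶜ} : Finset (Finset α)) : Set (Finset α)) := by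
    ext t
    rw [mem_coe]
    constructor
    · rintro ⟨⟨g, hg⟩, rfl⟩
      rw [hK] at hg
      have := smul_mem_smul_finset (a := g) (mem_insert_self s ({sᶜ} : Finset (Finset α)))
      rwa [mem_stabilizer_iff.1 hg] at this
    · intro ht
      rw [mem_insert, mem_singleton] at ht
      rcases ht with rfl | rfl
      · exact mem_orbit_self _
      · obtain ⟨g, hg⟩ := exists_map_finset (s := s) (t := sᶜ) (by rw [card_compl]; omega)
        refine ⟨⟨g, ?_⟩, hg⟩
        rw [hK, mem_stabilizer_iff, smul_finset_insert, smul_finset_singleton, smul_compl, hg,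
          compl_compl, pair_comm]
  have h2 : (stabilizer (Perm α) s).relIndex K = 2 := by
    rw [Subgroup.relIndex, show (stabilizer (Perm α) s).subgroupOf K = stabilizer K s from rfl,
      index_stabilizer, horb, Set.ncard_coe_finset, card_pair hne]
  have h := Subgroup.relIndex_mul_index hle
  rw [h2, index_stab_finset, hn, hs, show Nat.choose 8 4 = 70 from rfl] at h
  omega

theorem hall_of_index {π : Set ℕ} {K : Subgroup (Perm α)} {m : ℕ} (hi : K.index = m)
    (hcard : ∀ p : ℕ, p.Prime → m * Nat.card K = Nat.factorial (Fintype.card α) →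
      p ∣ Nat.card K → p ∈ π)
    (hidx : ∀ p : ℕ, p.Prime → p ∈ π → ¬ p ∣ m) : IsPiHall π K := by
  refine ⟨fun p hp hd => hcard p hp ?_ hd, fun p hp hpπ => hi ▸ hidx p hp hpπ⟩
  rw [← hi, Subgroup.index_mul_card, Nat.card_eq_fintype_card, Fintype.card_perm]

theorem Canon.hall {π : Set ℕ} {K : Subgroup (Perm α)} (h : Canon π K) : IsPiHall π K := by
  rcases h with ⟨hn, hA, x, rfl⟩ | ⟨hB, s, hs, ⟨hn, rfl⟩ | ⟨hn, rfl⟩⟩
  · refine hall_of_index (m := Fintype.card α)
      (by rw [index_stabilizer_of_transitive (Perm α) x, Nat.card_eq_fintype_card]) ?_ ?_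
    · intro p hp he hd
      obtain ⟨j, hj⟩ : ∃ j, Fintype.card α = j + 1 := ⟨Fintype.card α - 1, by have := hn.pos; omega⟩
      rw [hj, Nat.factorial_succ] at he
      rw [Nat.eq_of_mul_eq_mul_left (by omega) he] at hd
      have := hp.dvd_factorial.1 hd
      exact (hA p hp (by omega)).2 (by omega)
    · intro p hp hpπ hd
      obtain rfl := (Nat.prime_dvd_prime_iff_eq hp hn).1 hd
      exact lt_irrefl _ ((hA _ hp le_rfl).1 hpπ)
  · refine hall_of_index (m := 35) (by rw [index_stab_finset, hn, hs]; rfl) ?_ ?_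
    · intro p hp he hd
      rw [hn, show Nat.factorial 7 = 35 * (2 ^ 4 * 3 ^ 2) from rfl] at he
      rw [Nat.eq_of_mul_eq_mul_left (by norm_num) he] at hd
      rcases hp.dvd_mul.1 hd with h | h
      · obtain rfl := (Nat.prime_dvd_prime_iff_eq hp Nat.prime_two).1 (hp.dvd_of_dvd_pow h)
        exact (hB 2 hp (by omega)).2 (Or.inl rfl)
      · obtain rfl := (Nat.prime_dvd_prime_iff_eq hp Nat.prime_three).1 (hp.dvd_of_dvd_pow h)
        exact (hB 3 hp (by omega)).2 (Or.inr rfl)
    · intro p hp hpπ hd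
      rcases hp.dvd_mul.1 (show p ∣ 5 * 7 from hd) with h | h
      · obtain rfl := (Nat.prime_dvd_prime_iff_eq hp Nat.prime_five).1 h
        have := (hB 5 hp (by omega)).1 hpπ
        omega
      · obtain rfl := (Nat.prime_dvd_prime_iff_eq hp (by norm_num : Nat.Prime 7)).1 h
        have := (hB 7 hp (by omega)).1 hpπ
        omega
  · refine hall_of_index (m := 35) (index_stab_pair hs hn) ?_ ?_
    · intro p hp he hd
      rw [hn, show Nat.factorial 8 = 35 * (2 ^ 7 * 3 ^ 2) from rfl] at he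
      rw [Nat.eq_of_mul_eq_mul_left (by norm_num) he] at hd
      rcases hp.dvd_mul.1 hd with h | h
      · obtain rfl := (Nat.prime_dvd_prime_iff_eq hp Nat.prime_two).1 (hp.dvd_of_dvd_pow h)
        exact (hB 2 hp (by omega)).2 (Or.inl rfl)
      · obtain rfl := (Nat.prime_dvd_prime_iff_eq hp Nat.prime_three).1 (hp.dvd_of_dvd_pow h)
        exact (hB 3 hp (by omega)).2 (Or.inr rfl)
    · intro p hp hpπ hd
      rcases hp.dvd_mul.1 (show p ∣ 5 * 7 from hd) with h | h
      · obtain rfl := (Nat.prime_dvd_prime_iff_eq hp Nat.prime_five).1 h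
        have := (hB 5 hp (by omega)).1 hpπ
        omega
      · obtain rfl := (Nat.prime_dvd_prime_iff_eq hp (by norm_num : Nat.Prime 7)).1 h
        have := (hB 7 hp (by omega)).1 hpπ
        omega

theorem Shape.exists_canon {π : Set ℕ} {H : Subgroup (Perm α)} (h : Shape π H) :
    ∃ K, Canon π K ∧ H ≤ K := by
  rcases h with ⟨hn, hA, x, hx⟩ | ⟨hB, s, hs, ⟨hn, hx⟩ | ⟨hn, hx⟩⟩
  · exact ⟨_, Or.inl ⟨hn, hA, x, rfl⟩, fun g hg => hx g hg⟩
  · exact ⟨_, Or.inr ⟨hB, s, hs, Or.inl ⟨hn, rfl⟩⟩, fun g hg => hx g hg⟩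
  · refine ⟨_, Or.inr ⟨hB, s, hs, Or.inr ⟨hn, rfl⟩⟩, fun g hg => ?_⟩
    rw [mem_stabilizer_iff, smul_finset_insert, smul_finset_singleton, smul_compl]
    rcases hx g hg with h | h
    · rw [show g • s = s from h]
    · rw [show g • s = sᶜ from h, compl_compl, pair_comm]

theorem exists_canon_of_good {π : Set ℕ} (h : Good π (Fintype.card α)) :
    ∃ K : Subgroup (Perm α), Canon π K := by
  rcases h with ⟨hn, hA⟩ | ⟨hn, hB⟩
  · obtain ⟨x⟩ : Nonempty α := Fintype.card_pos_iff.1 hn.pos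
    exact ⟨_, Or.inl ⟨hn, hA, x, rfl⟩⟩
  · obtain ⟨s, -, hs⟩ := exists_subset_card_eq (s := (univ : Finset α)) (n := 4)
      (by rw [card_univ]; omega)
    rcases hn with hn | hn
    · exact ⟨_, Or.inr ⟨hB, s, hs, Or.inl ⟨hn, rfl⟩⟩⟩
    · exact ⟨_, Or.inr ⟨hB, s, hs, Or.inr ⟨hn, rfl⟩⟩⟩

theorem Canon.exists_odd {π : Set ℕ} {K : Subgroup (Perm α)} (hP : Proper π (Fintype.card α))
    (h : Canon π K) : ∃ g ∈ K, Perm.sign g = -1 := by
  have h5 := hP.five_le
  rcases h with ⟨-, -, x, rfl⟩ | ⟨-, s, hs, h⟩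
  · obtain ⟨a, ha, b, hb, hab⟩ := one_lt_card.1 (show 1 < ({x} : Finset α)ᶜ.card by
      rw [card_compl, card_singleton]; omega)
    simp only [mem_compl, mem_singleton] at ha hb
    exact ⟨swap a b, swap_apply_of_ne_of_ne (Ne.symm ha) (Ne.symm hb), Perm.sign_swap hab⟩
  · obtain ⟨a, ha, b, hb, hab⟩ := one_lt_card.1 (show 1 < s.card by omega)
    have hfix : swap a b • s = s := by
      refine eq_of_subset_of_card_le (fun x hx => ?_) (by rw [card_smul_finset])
      obtain ⟨y, hy, rfl⟩ := mem_smul_finset.1 hx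
      rw [Perm.smul_def, swap_apply_def]
      split_ifs <;> assumption
    refine ⟨swap a b, ?_, Perm.sign_swap hab⟩
    rcases h with ⟨-, rfl⟩ | ⟨-, rfl⟩
    · exact hfix
    · rw [mem_stabilizer_iff, smul_finset_insert, smul_finset_singleton, smul_compl, hfix]

theorem Canon.conj {π : Set ℕ} {K K' : Subgroup (Perm α)} (hP : Proper π (Fintype.card α))
    (h : Canon π K) (h' : Canon π K') :
    ∃ g : Perm α, g ∈ alternatingGroup α ∧ K' = K.map (MulAut.conj g).toMonoidHom := by
  have hmixed : ∀ {L L' : Subgroup (Perm α)}, (∀ r : ℕ, r.Prime → r ≤ Fintype.card α →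
      (r ∈ π ↔ r < Fintype.card α)) → (Fintype.card α).Prime →
      (∀ r : ℕ, r.Prime → r ≤ Fintype.card α → (r ∈ π ↔ (r = 2 ∨ r = 3))) →
      (Fintype.card α = 7 ∧ L = L' ∨ Fintype.card α = 8) → False := by
    intro L L' hA hn hB hc
    rcases hc with ⟨hc, -⟩ | hc
    · have := (hB 5 Nat.prime_five (by omega)).1 ((hA 5 Nat.prime_five (by omega)).2 (by omega))
      omega
    · rw [hc] at hn
      norm_num at hn
  obtain ⟨g, hg⟩ : ∃ g : Perm α, K' = K.map (MulAut.conj g).toMonoidHom := by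
    rcases h with ⟨hn, hA, x, rfl⟩ | ⟨hB, s, hs, h⟩
    · rcases h' with ⟨-, -, y, rfl⟩ | ⟨hB, t, -, h'⟩
      · exact ⟨swap x y, by
          rw [← stabilizer_smul_eq_stabilizer_map_conj, Perm.smul_def, swap_apply_left]⟩
      · exact (hmixed (L := K') (L' := K') hA hn hB
          (h'.imp (fun e => ⟨e.1, rfl⟩) (fun e => e.1))).elim
    · rcases h' with ⟨hn, hA, y, rfl⟩ | ⟨-, t, ht, h'⟩
      · exact (hmixed (L := K) (L' := K) hA hn hB
          (h.imp (fun e => ⟨e.1, rfl⟩) (fun e => e.1))).elim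
      · obtain ⟨g, rfl⟩ := exists_map_finset (hs.trans ht.symm)
        refine ⟨g, ?_⟩
        rcases h with ⟨hn, rfl⟩ | ⟨hn, rfl⟩ <;> rcases h' with ⟨hn', rfl⟩ | ⟨hn', rfl⟩ <;>
          first
          | omega
          | exact stabilizer_smul_eq_stabilizer_map_conj g s
          | rw [← stabilizer_smul_eq_stabilizer_map_conj, smul_finset_insert, smul_finset_singleton,
              smul_compl]
  rcases Int.units_eq_one_or (Perm.sign g) with h1 | h1
  · exact ⟨g, h1, hg⟩
  · obtain ⟨τ, hτ, hτs⟩ := h.exists_odd hP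
    refine ⟨g * τ, ?_, ?_⟩
    · rw [Perm.mem_alternatingGroup, map_mul, h1, hτs]; rfl
    · rw [hg]
      ext y
      simp only [Subgroup.mem_map, MulEquiv.coe_toMonoidHom, MulAut.conj_apply]
      constructor
      · rintro ⟨z, hz, rfl⟩
        exact ⟨τ⁻¹ * z * τ, K.mul_mem (K.mul_mem (K.inv_mem hτ) hz) hτ, by group⟩
      · rintro ⟨z, hz, rfl⟩
        exact ⟨τ * z * τ⁻¹, K.mul_mem (K.mul_mem hτ hz) (K.inv_mem hτ), by group⟩

end Canon

end Cfsg.Agent.Fus.HallSym
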