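import Mathlib

/-!
Binomial coefficients free of small primes, for the classification of Hall subgroups of the
symmetric groups: if no prime `p ≤ a` divides `(a + c).choose c` with `2 ≤ c ≤ a` then `a = 4`,
`c = 3`.
-/

set_option autoImplicit false

namespace Cfsg.Agent.Fus.HallSym

/-- A number coprime to `C` dividing a multiple `k * C` divides `k`. -/
theorem dvd_of_dvd_mul {C m k : ℕ} (hC : ∀ p : ℕ, p.Prime → p ∣ m → ¬ p ∣ C) (h : m ∣ k * C) :
    m ∣ k :=
  (Nat.coprime_of_dvd fun p hp hpm hpC => hC p hp hpm hpC).dvd_of_dvd_mul_right h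

/-- The prime factors of a composite number are at most its half. -/
theorem two_mul_le_of_composite {m p : ℕ} (hm : 2 ≤ m) (hnp : ¬ m.Prime) (hp : p.Prime)
    (hd : p ∣ m) : 2 * p ≤ m := by
  obtain ⟨j, rfl⟩ := hd
  rcases Nat.lt_or_ge j 2 with hj | hj
  · interval_cases j
    · omega
    · exact absurd (by rwa [mul_one]) hnp
  · calc 2 * p = p * 2 := mul_comm _ _
      _ ≤ p * j := Nat.mul_le_mul_left _ hj

/-- `a + 1` is composite with prime factors in `π`: some prime of `π` divides the coefficient. -/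
theorem exists_pi_prime_dvd {π : Set ℕ} {a c : ℕ} (hc : 1 ≤ c) (hca : c ≤ a)
    (hfac : ∀ p : ℕ, p.Prime → p ∣ a + 1 → p ∈ π) :
    ∃ p : ℕ, p.Prime ∧ p ∈ π ∧ p ∣ (a + c).choose c := by
  by_contra h
  push Not at h
  obtain ⟨d, rfl⟩ : ∃ d, c = d + 1 := ⟨c - 1, by omega⟩
  have e := Nat.choose_succ_right_eq (a + (d + 1)) d
  rw [show a + (d + 1) - d = a + 1 by omega] at e
  have h1 : a + 1 ∣ (d + 1) * (a + (d + 1)).choose (d + 1) :=
    ⟨(a + (d + 1)).choose d, by rw [mul_comm, e, mul_comm]⟩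
  have := Nat.le_of_dvd (by omega)
    (dvd_of_dvd_mul (fun p hp hpa => h p hp (hfac p hp hpa)) h1)
  omega

theorem no_small_factor {a c : ℕ} (hc : 2 ≤ c) (hca : c ≤ a)
    (h : ∀ p : ℕ, p.Prime → p ≤ a → ¬ p ∣ (a + c).choose c) : a = 4 ∧ c = 3 := by
  obtain ⟨d, rfl⟩ : ∃ d, c = d + 2 := ⟨c - 2, by omega⟩
  obtain ⟨C, hC⟩ : ∃ C, C = (a + (d + 2)).choose (d + 2) := ⟨_, rfl⟩
  rw [← hC] at h
  -- composite numbers up to `2 a` are coprime to `C`
  have hdvd : ∀ m k : ℕ, 2 ≤ m → ¬ m.Prime → m ≤ 2 * a → m ∣ k * C → m ∣ k := by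
    intro m k hm hnp hma
    refine dvd_of_dvd_mul fun p hp hd => h p hp ?_
    have := two_mul_le_of_composite hm hnp hp hd
    omega
  have hle : ∀ m k : ℕ, 0 < k → 2 ≤ m → ¬ m.Prime → m ≤ 2 * a → m ∣ k * C → m ≤ k :=
    fun m k hk hm hnp hma hd => Nat.le_of_dvd hk (hdvd m k hm hnp hma hd)
  -- `n` is prime
  have e0 : (a + d + 1 + 1) * (a + d + 1).choose (d + 1) = C * (d + 1 + 1) := by
    rw [hC]
    exact Nat.add_one_mul_choose_eq _ _
  have hn : (a + d + 2).Prime := by
    by_contra hnp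
    have := hle (a + d + 2) (d + 2) (by omega) (by omega) hnp (by omega)
      ⟨_, by rw [mul_comm, ← e0]⟩
    omega
  -- `a + 1` is prime
  have e1 := Nat.choose_succ_right_eq (a + (d + 2)) (d + 1)
  rw [show a + (d + 2) - (d + 1) = a + 1 by omega, ← hC] at e1
  have ha1 : (a + 1).Prime := by
    by_contra hnp
    have := hle (a + 1) (d + 2) (by omega) (by omega) hnp (by omega)
      ⟨(a + (d + 2)).choose (d + 1), by rw [mul_comm, e1, mul_comm]⟩
    omega
  have hodd1 := hn.eq_two_or_odd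
  have hodd2 := ha1.eq_two_or_odd
  -- `n - 1` divides `c (c - 1)`
  have e2 : (a + d + 1) * (a + d).choose d = (a + d + 1).choose (d + 1) * (d + 1) :=
    Nat.add_one_mul_choose_eq _ _
  have hd1 : a + d + 1 ∣ (d + 2) * (d + 1) := by
    refine hdvd _ _ (by omega) (fun hp => ?_) (by omega) ⟨(a + d + 2) * (a + d).choose d, ?_⟩
    · have := hp.eq_two_or_odd; omega
    · calc (d + 2) * (d + 1) * C = C * (d + 1 + 1) * (d + 1) := by ring
        _ = (a + d + 1 + 1) * ((a + d + 1).choose (d + 1) * (d + 1)) := by rw [← e0]; ring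
        _ = _ := by rw [← e2]; ring
  -- `a + 2` divides `c (c - 1)`
  have e3 := Nat.choose_succ_right_eq (a + (d + 2)) d
  rw [show a + (d + 2) - d = a + 2 by omega] at e3
  have hd2 : a + 2 ∣ (d + 2) * (d + 1) := by
    refine hdvd _ _ (by omega) (fun hp => ?_) (by omega)
      ⟨(a + 1) * (a + (d + 2)).choose d, ?_⟩
    · have := hp.eq_two_or_odd; omega
    · calc (d + 2) * (d + 1) * C = C * (d + 1 + 1) * (d + 1) := by ring
        _ = (a + 1) * ((a + (d + 2)).choose (d + 1) * (d + 1)) := by rw [e1]; ring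
        _ = _ := by rw [e3]; ring
  -- `c + 1` divides `a`
  have hca' : d + 3 ≤ a := by omega
  have e4 := Nat.choose_succ_right_eq (a + (d + 2)) (d + 2)
  rw [show a + (d + 2) - (d + 2) = a by omega, ← hC] at e4
  obtain ⟨u, hu⟩ : d + 3 ∣ a := by
    refine hdvd _ _ (by omega) (fun hp => ?_) (by omega)
      ⟨(a + (d + 2)).choose (d + 2 + 1), by rw [mul_comm a C, ← e4]; ring⟩
    have := hp.eq_two_or_odd; omega
  subst hu
  obtain ⟨v, hv⟩ := hd2
  have hv0 : 1 ≤ v := Nat.one_le_iff_ne_zero.2 (by rintro rfl; simp at hv)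
  have hu0 : 1 ≤ u := Nat.one_le_iff_ne_zero.2 (by rintro rfl; omega)
  have hvc : v < d + 2 := by
    by_contra hge
    push Not at hge
    have := Nat.mul_le_mul_left ((d + 3) * u + 2) hge
    nlinarith
  have hdiv : d + 3 ∣ 2 * (v - 1) := by
    obtain ⟨w, rfl⟩ : ∃ w, v = w + 1 := ⟨v - 1, by omega⟩
    rw [Nat.add_sub_cancel]
    rw [← Int.natCast_dvd_natCast]
    refine ⟨(d : ℤ) - u * (w + 1), ?_⟩
    have hv' : ((d : ℤ) + 2) * (d + 1) = (((d : ℤ) + 3) * u + 2) * (w + 1) := by exact_mod_cast hv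
    push_cast
    linear_combination -hv'
  rcases Nat.eq_zero_or_pos (v - 1) with hv1 | hv1
  · obtain rfl : v = 1 := by omega
    have hu2 : u = d := Nat.eq_of_mul_eq_mul_left (show 0 < d + 3 by omega) (by nlinarith)
    subst hu2
    have := Nat.le_of_dvd (by positivity) hd1
    have : u ≤ 1 := by nlinarith
    obtain rfl : u = 1 := by omega
    omega
  · obtain ⟨t, ht⟩ := hdiv
    have ht1 : 1 ≤ t := Nat.one_le_iff_ne_zero.2 (by rintro rfl; omega)
    have htlt : t < 2 := by
      by_contra hge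
      push Not at hge
      have := Nat.mul_le_mul_left (d + 3) hge
      omega
    obtain rfl : t = 1 := by omega
    rw [mul_one] at ht
    have hd5 : d + 5 = 2 * v := by omega
    have hv2 : 2 * ((d + 2) * (d + 1)) = ((d + 3) * u + 2) * (d + 5) := by rw [hv, hd5]; ring
    obtain rfl : u = 1 := by
      by_contra hne
      have h1 : ((d + 3) * 2 + 2) * (d + 5) ≤ ((d + 3) * u + 2) * (d + 5) :=
        Nat.mul_le_mul_right _ (Nat.add_le_add_right (Nat.mul_le_mul_left _ (by omega)) _)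
      nlinarith
    have hd7 : d ≤ 7 := by nlinarith
    obtain rfl : d = 7 := by interval_cases d <;> omega
    exact absurd (show 2 ∣ C by rw [hC]; decide) (h 2 Nat.prime_two (by omega))

end Cfsg.Agent.Fus.HallSym
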