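import Cfsg.Agent.Lib.Fus.HallSymApp

/-!
The classes `E_π`, `C_π`, `D_π` for the symmetric and the alternating groups.
-/

set_option autoImplicit false

namespace Cfsg.Agent.Fus.HallSym

open Equiv Finset MulAction

open scoped Pointwise

variable {α : Type*} [Fintype α] [DecidableEq α] {π : Set ℕ}

theorem alt_card_dvd : Nat.card (alternatingGroup α) ∣ Nat.factorial (Fintype.card α) :=
  card_perm_dvd _

omit [DecidableEq α] in
theorem improper {G : Type*} [Group G] (hG : Nat.card G ∣ Nat.factorial (Fintype.card α))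
    (h : ¬ Proper π (Fintype.card α)) :
    (∀ r s : ℕ, r.Prime → s.Prime → r ∈ π → s ∈ π → r ∣ Nat.card G → s ∣ Nat.card G → r = s) ∨
      ∀ r : ℕ, r.Prime → r ∣ Nat.card G → r ∈ π := by
  have hle : ∀ r : ℕ, r.Prime → r ∣ Nat.card G → r ≤ Fintype.card α := fun r hr hd =>
    hr.dvd_factorial.1 (hd.trans hG)
  by_cases hall : ∀ r : ℕ, r.Prime → r ≤ Fintype.card α → r ∈ π
  · exact Or.inr fun r hr hd => hall r hr (hle r hr hd)
  · refine Or.inl fun r s hr hs hrπ hsπ hrd hsd => by_contra fun hne => h ⟨?_, ?_⟩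
    · exact ⟨r, s, hr, hs, hne, hrπ, hsπ, hle r hr hrd, hle s hs hsd⟩
    · push Not at hall
      exact hall

theorem sym_dPi (h : ¬ Proper π (Fintype.card α)) : IsDPiGroup π (Perm α) :=
  dPi_of_improper (improper (by rw [Nat.card_eq_fintype_card, Fintype.card_perm]) h)

theorem alt_dPi (h : ¬ Proper π (Fintype.card α)) : IsDPiGroup π (alternatingGroup α) :=
  dPi_of_improper (improper alt_card_dvd h)

theorem hall_sym_canon (hP : Proper π (Fintype.card α)) {H : Subgroup (Perm α)}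
    (hH : IsPiHall π H) : Canon π H := by
  have hN : Near π H := ⟨hH.1, fun p hp hpπ => by
    rw [← Fintype.card_perm, ← Nat.card_eq_fintype_card, hall_full hH hp hpπ]
    exact Nat.le_add_right _ _⟩
  obtain ⟨K, hK, hle⟩ := (shape_of_near _ π H rfl hN hP).exists_canon
  exact hall_eq_of_le hH hK.hall.1 hle ▸ hK

theorem map_subtype_near (hP : Proper π (Fintype.card α)) {M : Subgroup (alternatingGroup α)}
    (hM : IsPiHall π M) : Near π (M.map (alternatingGroup α).subtype) := by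
  have hc := Subgroup.card_map_of_injective (K := M) (alternatingGroup α).subtype_injective
  have : Nontrivial α := Fintype.one_lt_card_iff_nontrivial.1 (by have := hP.five_le; omega)
  have h2 := two_mul_card_alternatingGroup (α := α)
  rw [Fintype.card_perm, ← Nat.card_eq_fintype_card] at h2
  refine ⟨fun p hp hd => hM.1 p hp (hc ▸ hd), fun p hp hpπ => ?_⟩
  rw [hc, ← h2, Nat.factorization_mul two_ne_zero Nat.card_pos.ne', Finsupp.add_apply,
    hall_full hM hp hpπ]
  rcases eq_or_ne p 2 with rfl | hp2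
  · rw [slack_pos (Subgroup.map_subtype_le M), Nat.prime_two.factorization_self]
    omega
  · rw [Nat.factorization_eq_zero_of_not_dvd
      fun h => hp2 ((Nat.prime_dvd_prime_iff_eq hp Nat.prime_two).1 h)]
    omega

/-- Every Hall subgroup of the alternating group comes from one of the symmetric group. -/
theorem alt_hall_lift {M : Subgroup (alternatingGroup α)} (hM : IsPiHall π M) :
    ∃ M₀ : Subgroup (Perm α), IsPiHall π M₀ ∧ M = M₀.subgroupOf (alternatingGroup α) := by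
  obtain ⟨K, hK, hle⟩ : ∃ K : Subgroup (Perm α), IsPiHall π K ∧
      M.map (alternatingGroup α).subtype ≤ K := by
    by_cases hP : Proper π (Fintype.card α)
    · obtain ⟨K, hK, hle⟩ := (shape_of_near _ π _ rfl (map_subtype_near hP hM) hP).exists_canon
      exact ⟨K, hK.hall, hle⟩
    · obtain ⟨H, hH⟩ := ePi_of_dPi (sym_dPi hP)
      refine exists_hall_of_dPi (sym_dPi hP) hH fun p hp hd => hM.1 p hp ?_
      rwa [Subgroup.card_map_of_injective (alternatingGroup α).subtype_injective] at hd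
  refine ⟨K, hK, hall_eq_of_le hM (hall_subgroupOf hK).1 ?_⟩
  intro x hx
  exact hle (Subgroup.mem_map_of_mem _ hx)

theorem alt_hall_iff (M : Subgroup (alternatingGroup α)) :
    IsPiHall π M ↔ ∃ M₀ : Subgroup (Perm α), IsPiHall π M₀ ∧ M = M₀.subgroupOf (alternatingGroup α) :=
  ⟨alt_hall_lift, fun ⟨_, h, e⟩ => e ▸ hall_subgroupOf h⟩

theorem sym_ePi_iff_good (hP : Proper π (Fintype.card α)) :
    IsEPiGroup π (Perm α) ↔ Good π (Fintype.card α) := by
  refine ⟨fun ⟨H, hH⟩ => ?_, fun h => ?_⟩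
  · rcases hall_sym_canon hP hH with ⟨h1, h2, -⟩ | ⟨h1, s, -, ⟨h2, -⟩ | ⟨h2, -⟩⟩
    · exact Or.inl ⟨h1, h2⟩
    · exact Or.inr ⟨Or.inl h2, h1⟩
    · exact Or.inr ⟨Or.inr h2, h1⟩
  · obtain ⟨K, hK⟩ := exists_canon_of_good h
    exact ⟨K, hK.hall⟩

theorem classes :
    (IsEPiGroup π (Perm α) ↔ IsCPiGroup π (Perm α)) ∧
      (IsEPiGroup π (Perm α) ↔ IsEPiGroup π (alternatingGroup α)) ∧
      (IsEPiGroup π (alternatingGroup α) ↔ IsCPiGroup π (alternatingGroup α)) := by
  refine ⟨⟨fun hE => ⟨hE, fun H K hH hK => ?_⟩, fun h => h.1⟩, ⟨fun ⟨H, hH⟩ => ⟨_, hall_subgroupOf hH⟩,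
    fun ⟨M, hM⟩ => ?_⟩, ⟨fun hE => ⟨hE, fun M M' hM hM' => ?_⟩, fun h => h.1⟩⟩
  · by_cases hP : Proper π (Fintype.card α)
    · obtain ⟨g, -, hg⟩ := (hall_sym_canon hP hH).conj hP (hall_sym_canon hP hK)
      exact ⟨g, hg⟩
    · exact (cPi_of_dPi (sym_dPi hP)).2 H K hH hK
  · obtain ⟨M₀, h, -⟩ := alt_hall_lift hM
    exact ⟨M₀, h⟩
  · by_cases hP : Proper π (Fintype.card α)
    · obtain ⟨K, hK, rfl⟩ := alt_hall_lift hM
      obtain ⟨K', hK', rfl⟩ := alt_hall_lift hM'
      obtain ⟨g, hga, rfl⟩ := (hall_sym_canon hP hK).conj hP (hall_sym_canon hP hK')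
      refine ⟨⟨g, hga⟩, ?_⟩
      ext ⟨x, hx⟩
      simp only [Subgroup.mem_subgroupOf, Subgroup.mem_map, MulEquiv.coe_toMonoidHom,
        MulAut.conj_apply, Subtype.exists]
      constructor
      · rintro ⟨z, hz, rfl⟩
        refine ⟨z, ?_, hz, Subtype.ext rfl⟩
        rw [Perm.mem_alternatingGroup] at hx hga ⊢
        simpa [hga] using hx
      · rintro ⟨z, hz0, hz, e⟩
        exact ⟨z, hz, congrArg Subtype.val e⟩
    · exact (cPi_of_dPi (alt_dPi hP)).2 M M' hM hM'

end Cfsg.Agent.Fus.HallSym
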