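import Cfsg.Agent.Lib.Fus.HallSymClasses

/-!
`π`-subgroups of the alternating groups lying in no Hall `π`-subgroup.
-/

set_option autoImplicit false

namespace Cfsg.Agent.Fus.HallSym

open Equiv Finset MulAction

open scoped Pointwise

/-- The action of `Perm (Fin 4)` on the six pairs `01, 02, 03, 23, 13, 12`. -/
def edge (g : Perm (Fin 4)) (i : Fin 6) : Fin 6 :=
  ![![0, 0, 1, 2], ![0, 0, 5, 4], ![1, 5, 0, 3], ![2, 4, 3, 0]]
    (g (![0, 0, 0, 2, 1, 1] i)) (g (![1, 2, 3, 3, 3, 2] i))

theorem edge_mul : ∀ g h : Perm (Fin 4), ∀ i, edge (g * h) i = edge g (edge h i) := by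
  decide +kernel

theorem edge_one : ∀ i, edge 1 i = i := by decide +kernel

/-- `Perm (Fin 4)` on six points. -/
def edgeHom : Perm (Fin 4) →* Perm (Fin 6) where
  toFun g :=
    { toFun := edge g
      invFun := edge g⁻¹
      left_inv := fun i => by rw [← edge_mul, inv_mul_cancel, edge_one]
      right_inv := fun i => by rw [← edge_mul, mul_inv_cancel, edge_one] }
  map_one' := Equiv.ext edge_one
  map_mul' g h := Equiv.ext (edge_mul g h)

/-- `Perm (Fin 4)` on `6 + k` points, fixing `k` of them. -/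
def edgeExt (k : ℕ) : Perm (Fin 4) →* Perm (Fin (6 + k)) :=
  (permCongrHom (finSumFinEquiv : Fin 6 ⊕ Fin k ≃ Fin (6 + k))).toMonoidHom.comp
    ((Perm.sumCongrHom (Fin 6) (Fin k)).comp (edgeHom.prod 1))

theorem edgeExt_one_even : ∀ g, Perm.sign (edgeExt 1 g) = 1 := by decide +kernel

theorem edgeExt_two_even : ∀ g, Perm.sign (edgeExt 2 g) = 1 := by decide +kernel

theorem edgeExt_one_no_four : ∀ s ∈ (univ : Finset (Fin 7)).powersetCard 4,
    ∃ g, s.image (edgeExt 1 g) ≠ s := by decide +kernel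

theorem edgeExt_two_no_four : ∀ s ∈ (univ : Finset (Fin 8)).powersetCard 4,
    ∃ g, s.image (edgeExt 2 g) ≠ s ∧ s.image (edgeExt 2 g) ≠ sᶜ := by decide +kernel

/-- A group of even permutations whose prime divisors lie in `π`, in a group with `D_π`, lies in
the intersection of the alternating group with a Hall subgroup. -/
theorem near_above {α : Type*} [Fintype α] [DecidableEq α] {π : Set ℕ}
    (hP : Proper π (Fintype.card α)) (hD : IsDPiGroup π (alternatingGroup α))
    (U : Subgroup (alternatingGroup α)) (hU : IsPiSubgroup π U) :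
    ∃ M : Subgroup (Perm α), Shape π M ∧ ∀ g ∈ U, (g : Perm α) ∈ M := by
  obtain ⟨H, hH⟩ := ePi_of_dPi hD
  obtain ⟨K, hK, hUK⟩ := exists_hall_of_dPi hD hH hU
  exact ⟨K.map (alternatingGroup α).subtype,
    shape_of_near _ π _ rfl (map_subtype_near hP hK) hP,
    fun g hg => Subgroup.mem_map_of_mem _ (hUK hg)⟩

theorem not_dPi_edge {π : Set ℕ} {k : ℕ} (hk : k = 1 ∨ k = 2)
    (hB : ∀ r : ℕ, r.Prime → r ≤ 6 + k → (r ∈ π ↔ (r = 2 ∨ r = 3))) :
    ¬ IsDPiGroup π (alternatingGroup (Fin (6 + k))) := by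
  intro hD
  have hev : ∀ g, edgeExt k g ∈ alternatingGroup (Fin (6 + k)) := fun g => by
    rw [Perm.mem_alternatingGroup]
    rcases hk with rfl | rfl
    · exact edgeExt_one_even g
    · exact edgeExt_two_even g
  let φ := (edgeExt k).codRestrict (alternatingGroup (Fin (6 + k))) hev
  have hU : IsPiSubgroup π φ.range := fun p hp hd => by
    have h24 : p ∣ 2 ^ 3 * 3 := by
      have := hd.trans (Subgroup.card_range_dvd φ)
      rwa [Nat.card_perm, Nat.card_eq_fintype_card, Fintype.card_fin] at this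
    rcases hp.dvd_mul.1 h24 with h | h
    · obtain rfl := (Nat.prime_dvd_prime_iff_eq hp Nat.prime_two).1 (hp.dvd_of_dvd_pow h)
      exact (hB 2 hp (by omega)).2 (Or.inl rfl)
    · obtain rfl := (Nat.prime_dvd_prime_iff_eq hp Nat.prime_three).1 h
      exact (hB 3 hp (by omega)).2 (Or.inr rfl)
  have hP : Proper π (Fintype.card (Fin (6 + k))) := by
    rw [Fintype.card_fin]
    refine ⟨⟨2, 3, Nat.prime_two, Nat.prime_three, by norm_num,
      (hB 2 Nat.prime_two (by omega)).2 (Or.inl rfl),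
      (hB 3 Nat.prime_three (by omega)).2 (Or.inr rfl), by omega, by omega⟩,
      5, Nat.prime_five, by omega, fun h => ?_⟩
    have := (hB 5 Nat.prime_five (by omega)).1 h
    omega
  obtain ⟨M, hM, hUM⟩ := near_above hP hD _ hU
  have hmem : ∀ g, edgeExt k g ∈ M := fun g => hUM (φ g) ⟨g, rfl⟩
  rcases hM with ⟨-, hA, -⟩ | ⟨-, s, hs, h⟩
  · rw [Fintype.card_fin] at hA
    have := (hB 5 Nat.prime_five (by omega)).1 ((hA 5 Nat.prime_five (by omega)).2 (by omega))
    omega
  · rw [Fintype.card_fin] at h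
    rcases hk with rfl | rfl
    · rcases h with ⟨-, h⟩ | ⟨he, -⟩
      · obtain ⟨g, hg⟩ := edgeExt_one_no_four s (mem_powersetCard.2 ⟨subset_univ _, hs⟩)
        exact hg (h _ (hmem g))
      · omega
    · rcases h with ⟨he, -⟩ | ⟨-, h⟩
      · omega
      · obtain ⟨g, hg1, hg2⟩ := edgeExt_two_no_four s (mem_powersetCard.2 ⟨subset_univ _, hs⟩)
        exact (h _ (hmem g)).elim hg1 hg2

theorem not_dPi_prime {α : Type*} [Fintype α] [DecidableEq α] {π : Set ℕ}
    (hP : Proper π (Fintype.card α)) (hn : (Fintype.card α).Prime)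
    (hA : ∀ r : ℕ, r.Prime → r ≤ Fintype.card α → (r ∈ π ↔ r < Fintype.card α)) :
    ¬ IsDPiGroup π (alternatingGroup α) := by
  intro hD
  have h5 := hP.five_le
  obtain ⟨s, -, hs⟩ := exists_subset_card_eq (s := (univ : Finset α)) (n := 2)
    (by rw [card_univ]; omega)
  obtain ⟨U, hUdef⟩ : ∃ U, U = (stabilizer (Perm α) s).subgroupOf (alternatingGroup α) := ⟨_, rfl⟩
  have hU : IsPiSubgroup π U := fun p hp hd => by
    have hd' : p ∣ Nat.card (stabilizer (Perm α) s) := hd.trans (by
      rw [hUdef, ← Subgroup.card_map_of_injective (alternatingGroup α).subtype_injective,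
        Subgroup.subgroupOf_map_subtype]
      exact Subgroup.card_dvd_of_le inf_le_left)
    have hmul := (stabilizer (Perm α) s).index_mul_card
    rw [index_stab_finset, hs, Nat.card_eq_fintype_card (α := Perm α), Fintype.card_perm] at hmul
    have hle : p ≤ Fintype.card α :=
      hp.dvd_factorial.1 (hmul ▸ hd'.mul_left _)
    refine (hA p hp hle).2 (lt_of_le_of_ne hle ?_)
    rintro rfl
    have hsq : Fintype.card α * Fintype.card α ∣ Nat.factorial (Fintype.card α) := by
      rw [← hmul]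
      refine mul_dvd_mul ?_ hd'
      exact hn.dvd_choose_self (by norm_num) (by omega)
    rw [← Nat.mul_factorial_pred hn.ne_zero] at hsq
    have := hn.dvd_factorial.1 (Nat.dvd_of_mul_dvd_mul_left hn.pos hsq)
    omega
  obtain ⟨M, hM, hUM⟩ := near_above hP hD U hU
  obtain ⟨x, hx⟩ : ∃ x : α, ∀ g ∈ M, g x = x := by
    rcases hM with ⟨-, -, hx⟩ | ⟨hB, t, -, ⟨h7, -⟩ | ⟨h8, -⟩⟩
    · exact hx
    · have := (hB 5 Nat.prime_five (by omega)).1 ((hA 5 Nat.prime_five (by omega)).2 (by omega))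
      omega
    · rw [h8] at hn
      norm_num at hn
  have hkey : ∀ a b c d : α, a ≠ b → c ≠ d → swap a b • s = s → swap c d • s = s →
      (swap a b * swap c d) x = x := by
    intro a b c d hab hcd h1 h2
    refine hx _ (hUM ⟨_, ?_⟩ ?_)
    · rw [Perm.mem_alternatingGroup, map_mul, Perm.sign_swap hab, Perm.sign_swap hcd]; rfl
    · rw [hUdef, Subgroup.mem_subgroupOf, mem_stabilizer_iff, mul_smul, h2, h1]
  have hswap : ∀ a b : α, (a ∈ s ↔ b ∈ s) → swap a b • s = s := fun a b hab => by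
    refine eq_of_subset_of_card_le (fun y hy => ?_) (by rw [card_smul_finset])
    obtain ⟨z, hz, rfl⟩ := mem_smul_finset.1 hy
    rw [Perm.smul_def, swap_apply_def]
    split_ifs with e1 e2
    · exact hab.1 (e1 ▸ hz)
    · exact hab.2 (e2 ▸ hz)
    · exact hz
  by_cases hxs : x ∈ s
  · obtain ⟨y, hy⟩ := card_eq_one.1 (show (s.erase x).card = 1 by rw [card_erase_of_mem hxs, hs])
    obtain ⟨hyx, hys⟩ := mem_erase.1 (hy ▸ mem_singleton_self y : y ∈ s.erase x)
    obtain ⟨c, hc, d, hd, hcd⟩ := one_lt_card.1 (show 1 < sᶜ.card by rw [card_compl, hs]; omega)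
    rw [mem_compl] at hc hd
    have := hkey x y c d (Ne.symm hyx) hcd (hswap x y (iff_of_true hxs hys))
      (hswap c d (iff_of_false hc hd))
    rw [Perm.mul_apply, swap_apply_of_ne_of_ne (fun e : x = c => hc (by rw [← e]; exact hxs))
      (fun e : x = d => hd (by rw [← e]; exact hxs)), swap_apply_left] at this
    exact hyx this
  · obtain ⟨y, hy, z, hz, hyz⟩ := one_lt_card.1 (show 1 < (sᶜ.erase x).card by
      rw [card_erase_of_mem (mem_compl.2 hxs), card_compl, hs]; omega)
    rw [mem_erase, mem_compl] at hy hz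
    have := hkey x y x z (Ne.symm hy.1) (Ne.symm hz.1) (hswap x y (iff_of_false hxs hy.2))
      (hswap x z (iff_of_false hxs hz.2))
    rw [Perm.mul_apply, swap_apply_left, swap_apply_of_ne_of_ne hz.1 hyz.symm] at this
    exact hz.1 this

/-- The full Sylow analogue fails outside the trivial cases. -/
theorem alt_not_dPi {n : ℕ} {π : Set ℕ} (hP : Proper π n) :
    ¬ IsDPiGroup π (alternatingGroup (Fin n)) := by
  intro hD
  have hP' : Proper π (Fintype.card (Fin n)) := by rwa [Fintype.card_fin]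
  have hE : IsEPiGroup π (Perm (Fin n)) := classes.2.1.2 (ePi_of_dPi hD)
  rcases (sym_ePi_iff_good hP').1 hE with ⟨hn, hA⟩ | ⟨hn, hB⟩
  · exact not_dPi_prime hP' hn hA hD
  · rw [Fintype.card_fin] at hn hB
    rcases hn with rfl | rfl
    · exact not_dPi_edge (k := 1) (Or.inl rfl) hB hD
    · exact not_dPi_edge (k := 2) (Or.inr rfl) hB hD

end Cfsg.Agent.Fus.HallSym
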