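import Mathlib

/-!
Subgroups of a symmetric group carrying nearly full `π`-parts: what they induce on the fibres of
an invariant map.
-/

set_option autoImplicit false

namespace Cfsg.Agent.Fus.HallSym

open Equiv Finset

section

variable {α : Type*} [Fintype α] [DecidableEq α]

/-- The missing factor two allowed for a group of even permutations. -/
noncomputable def slack (p : ℕ) (H : Subgroup (Perm α)) : ℕ := by
  classical exact if p = 2 ∧ H ≤ alternatingGroup α then 1 else 0

theorem slack_pos {H : Subgroup (Perm α)} (h : H ≤ alternatingGroup α) : slack 2 H = 1 := by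
  rw [slack, if_pos ⟨rfl, h⟩]

theorem slack_eq_zero {p : ℕ} {H : Subgroup (Perm α)} (h : ¬ (p = 2 ∧ H ≤ alternatingGroup α)) :
    slack p H = 0 := by
  rw [slack, if_neg h]

/-- A `π`-subgroup whose order has the whole `π`-part of `n!`, a factor `2` being allowed to be
missing when all its elements are even. -/
def Near (π : Set ℕ) (H : Subgroup (Perm α)) : Prop :=
  (∀ p : ℕ, p.Prime → p ∣ Nat.card H → p ∈ π) ∧
    ∀ p : ℕ, p.Prime → p ∈ π → (Nat.factorial (Fintype.card α)).factorization p ≤
      (Nat.card H).factorization p + slack p H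

theorem card_perm_dvd (H : Subgroup (Perm α)) :
    Nat.card H ∣ Nat.factorial (Fintype.card α) := by
  rw [← Fintype.card_perm, ← Nat.card_eq_fintype_card]
  exact H.card_subgroup_dvd_card

theorem factorization_le_of_dvd {a b : ℕ} (hb : b ≠ 0) (h : a ∣ b) (p : ℕ) :
    a.factorization p ≤ b.factorization p := by
  rcases eq_or_ne a 0 with rfl | ha
  · simp
  · exact (Nat.factorization_le_iff_dvd ha hb).2 h p

/-- A subgroup of even permutations misses a factor two. -/
theorem two_mul_card_dvd (H : Subgroup (Perm α)) (hH : H ≤ alternatingGroup α)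
    (h2 : 2 ≤ Fintype.card α) : 2 * Nat.card H ∣ Nat.factorial (Fintype.card α) := by
  have : Nontrivial α := Fintype.one_lt_card_iff_nontrivial.1 h2
  rw [← Fintype.card_perm, ← two_mul_card_alternatingGroup, ← Nat.card_eq_fintype_card]
  exact Nat.mul_dvd_mul_left 2 (Subgroup.card_dvd_of_le hH)

variable {ι : Type*} [Fintype ι] [DecidableEq ι] {f : α → ι} {H : Subgroup (Perm α)}
  (σ : H →* Perm ι) (hf : ∀ (g : H) (x : α), f ((g : Perm α) x) = σ g (f x))

include hf in
omit [Fintype α] [DecidableEq α] [Fintype ι] [DecidableEq ι] in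
theorem ker_fibre (k : σ.ker) (i : ι) (x : α) : f (((k : H) : Perm α) x) = i ↔ f x = i := by
  rw [hf, show σ (k : H) = 1 from k.2, Perm.coe_one, id]

/-- The action of the kernel on one fibre. -/
def restr (i : ι) : σ.ker →* Perm {x : α // f x = i} where
  toFun k := ((k : H) : Perm α).subtypePerm (ker_fibre σ hf k i)
  map_one' := Equiv.ext fun _ => rfl
  map_mul' _ _ := Equiv.ext fun _ => rfl

theorem restr_apply (i : ι) (k : σ.ker) (x : {x : α // f x = i}) :
    ((restr σ hf i k x : {x : α // f x = i}) : α) = ((k : H) : Perm α) x := rfl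

theorem sign_eq_prod_fibre (g : Perm α) (hg : ∀ i x, f (g x) = i ↔ f x = i) :
    Perm.sign g = ∏ i, Perm.sign (g.subtypePerm (p := fun x => f x = i) (hg i)) := by
  suffices h : ∀ s : Finset ι, ∀ hs : ∀ x, f (g x) ∈ s ↔ f x ∈ s,
      Perm.sign (g.subtypePerm (p := fun x => f x ∈ s) hs) = ∏ i ∈ s, Perm.sign (g.subtypePerm (p := fun x => f x = i) (hg i)) by
    rw [← h univ (fun x => by simp)]
    exact (Perm.sign_subtypePerm g _ (fun x _ => mem_univ _)).symm
  intro s
  induction s using Finset.induction_on with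
  | empty =>
    intro hs
    rw [prod_empty]
    have : IsEmpty {x : α // f x ∈ (∅ : Finset ι)} := ⟨fun x => by simpa using x.2⟩
    rw [Subsingleton.elim (g.subtypePerm (p := fun x => f x ∈ (∅ : Finset ι)) hs) 1, Perm.sign_one]
  | insert i t hit IH =>
    intro hs
    have ht : ∀ x, f (g x) ∈ t ↔ f x ∈ t := fun x => by rw [(hg _ x).2 rfl]
    rw [prod_insert hit, ← IH ht, ← Perm.sign_ofSubtype (g.subtypePerm (p := fun x => f x = i) (hg i)),
      ← Perm.sign_ofSubtype (g.subtypePerm (p := fun x => f x ∈ t) ht), ← Perm.sign_ofSubtype (g.subtypePerm (p := fun x => f x ∈ insert i t) hs),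
      ← Perm.sign_mul]
    congr 1
    ext x
    rw [Perm.mul_apply]
    by_cases hx : f x ∈ t
    · rw [Perm.ofSubtype_apply_of_mem (g.subtypePerm (p := fun x => f x ∈ t) ht) hx,
        Perm.ofSubtype_apply_of_mem (g.subtypePerm (p := fun x => f x ∈ insert i t) hs)
          (show f x ∈ insert i t from mem_insert_of_mem hx), Perm.ofSubtype_apply_of_not_mem]
      · rfl
      · show f (g x) ≠ i
        exact fun e => hit (((hg i x).1 e) ▸ hx)
    · rw [Perm.ofSubtype_apply_of_not_mem (g.subtypePerm (p := fun x => f x ∈ t) ht) hx]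
      by_cases hxi : f x = i
      · rw [Perm.ofSubtype_apply_of_mem (g.subtypePerm (p := fun x => f x = i) (hg i)) hxi,
          Perm.ofSubtype_apply_of_mem (g.subtypePerm (p := fun x => f x ∈ insert i t) hs)
            (show f x ∈ insert i t from by rw [hxi]; exact mem_insert_self i t)]
        rfl
      · rw [Perm.ofSubtype_apply_of_not_mem (g.subtypePerm (p := fun x => f x = i) (hg i)) hxi,
          Perm.ofSubtype_apply_of_not_mem (g.subtypePerm (p := fun x => f x ∈ insert i t) hs)
            (show ¬ f x ∈ insert i t by simp [hxi, hx])]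

include hf in
/-- The kernel embeds in the product of its restrictions; parity loses a further factor two. -/
theorem ker_card_dvd :
    Nat.card σ.ker ∣ ∏ i, Nat.card (restr σ hf i).range ∧
      (H ≤ alternatingGroup α → (∃ i, ¬ (restr σ hf i).range ≤ alternatingGroup _) →
        2 * Nat.card σ.ker ∣ ∏ i, Nat.card (restr σ hf i).range) := by
  let Ψ : σ.ker →* ∀ i, (restr σ hf i).range := MonoidHom.pi fun i => (restr σ hf i).rangeRestrict
  have hinj : Function.Injective Ψ := by
    intro k l h
    apply Subtype.ext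
    apply Subtype.ext
    ext x
    have h1 : restr σ hf (f x) k = restr σ hf (f x) l := congrArg Subtype.val (congrFun h (f x))
    exact congrArg Subtype.val (Equiv.congr_fun h1 ⟨x, rfl⟩)
  have hc : Nat.card σ.ker = Nat.card Ψ.range :=
    Nat.card_congr (MonoidHom.ofInjective hinj).toEquiv
  rw [hc, ← Nat.card_pi]
  refine ⟨Ψ.range.card_subgroup_dvd_card, fun heven hodd => ?_⟩
  let S : (∀ i, (restr σ hf i).range) →* ℤˣ :=
    ∏ i, (Perm.sign.comp (restr σ hf i).range.subtype).comp (Pi.evalMonoidHom _ i)
  have hS : ∀ v, S v = ∏ i, Perm.sign ((v i : (restr σ hf i).range) : Perm {x : α // f x = i}) := fun v => by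
    simp [S, MonoidHom.finsetProd_apply]
  have hle : Ψ.range ≤ S.ker := by
    rintro _ ⟨k, rfl⟩
    rw [MonoidHom.mem_ker, hS]
    have h1 : Perm.sign ((k : H) : Perm α) = 1 := heven (k : H).2
    rw [sign_eq_prod_fibre _ (ker_fibre σ hf k)] at h1
    exact h1
  have h2 : Nat.card S.range = 2 := by
    obtain ⟨j, hj⟩ := hodd
    obtain ⟨g, hg, hgs⟩ := SetLike.not_le_iff_exists.1 hj
    have hm : Perm.sign g = -1 :=
      (Int.units_eq_one_or _).resolve_left fun h => hgs (Perm.mem_alternatingGroup.2 h)
    have htop : S.range = ⊤ := by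
      rw [eq_top_iff]
      intro u _
      rcases Int.units_eq_one_or u with rfl | rfl
      · exact S.range.one_mem
      · refine ⟨Pi.mulSingle j ⟨g, hg⟩, ?_⟩
        rw [hS, Finset.prod_eq_single j, Pi.mulSingle_eq_same]
        · exact hm
        · intro i _ hij
          rw [Pi.mulSingle_eq_of_ne hij]
          exact Perm.sign_one
        · simp
    rw [htop, Subgroup.card_top, Nat.card_eq_fintype_card]
    rfl
  rw [← h2, mul_comm, ← S.ker.card_mul_index, Subgroup.index_ker]
  exact Nat.mul_dvd_mul_right (Subgroup.card_dvd_of_le hle) _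

include hf in
/-- What a nearly full subgroup induces on the fibres of an invariant map. -/
theorem fibre_near {π : Set ℕ} (hH : Near π H) {d Q : ℕ} (hd : Nat.card σ.range ∣ d)
    (hQ : Q * (d * ∏ i, Nat.factorial (Fintype.card {x : α // f x = i})) =
      Nat.factorial (Fintype.card α))
    (hbig : ∃ i, 2 ≤ Fintype.card {x : α // f x = i}) :
    (∀ p : ℕ, p.Prime → p ∈ π → ¬ p ∣ Q) ∧ ∀ i, Near π (restr σ hf i).range := by
  obtain ⟨a, ha⟩ : ∃ a, a = fun i => Nat.factorial (Fintype.card {x : α // f x = i}) := ⟨_, rfl⟩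
  obtain ⟨R, hR⟩ : ∃ R : ι → ℕ, R = fun i => Nat.card (restr σ hf i).range := ⟨_, rfl⟩
  have ha0 : ∀ i, a i ≠ 0 := fun i => by rw [ha]; exact Nat.factorial_ne_zero _
  have hR0 : ∀ i, R i ≠ 0 := fun i => by rw [hR]; exact Nat.card_pos.ne'
  have hn0 := Nat.factorial_ne_zero (Fintype.card α)
  rw [← hQ] at hn0
  simp only [mul_ne_zero_iff] at hn0
  have hker : Nat.card H = Nat.card σ.ker * Nat.card σ.range := by
    rw [← σ.ker.card_mul_index, Subgroup.index_ker]
  have hπ : ∀ i p, Nat.Prime p → p ∣ R i → p ∈ π := fun i p hp hpd => by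
    rw [hR] at hpd
    exact hH.1 p hp (hpd.trans ((Subgroup.card_range_dvd _).trans σ.ker.card_subgroup_dvd_card))
  obtain ⟨hk1, hk2⟩ := ker_card_dvd σ hf
  have hall : ∀ p, Nat.Prime p → p ∈ π →
      Q.factorization p = 0 ∧ ∀ i, (a i).factorization p ≤ (R i).factorization p +
        slack p (restr σ hf i).range := by
    classical
    intro p hp hpπ
    obtain ⟨ε, hε⟩ : ∃ ε : ι → ℕ, ε = fun i => if p = 2 ∧ (restr σ hf i).range ≤ alternatingGroup _ ∧
        2 ≤ Fintype.card {x : α // f x = i} then 1 else 0 := ⟨_, rfl⟩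
    have hpt : ∀ i, (R i).factorization p + ε i ≤ (a i).factorization p := by
      intro i
      rw [hε, hR, ha]
      dsimp only
      split_ifs with h
      · obtain ⟨rfl, he, h2⟩ := h
        have h3 := factorization_le_of_dvd (Nat.factorial_ne_zero _) (two_mul_card_dvd _ he h2) 2
        rw [Nat.factorization_mul two_ne_zero Nat.card_pos.ne', Finsupp.add_apply,
          Nat.prime_two.factorization_self] at h3
        omega
      · exact (factorization_le_of_dvd (Nat.factorial_ne_zero _) (card_perm_dvd _) p)
    have hn := hH.2 p hp hpπ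
    rw [← hQ, hker, Nat.factorization_mul hn0.1 (mul_ne_zero hn0.2.1 hn0.2.2),
      Nat.factorization_mul hn0.2.1 hn0.2.2, Nat.factorization_prod (fun i _ => Nat.factorial_ne_zero _),
      Nat.factorization_mul Nat.card_pos.ne' Nat.card_pos.ne'] at hn
    simp only [Finsupp.add_apply, Finsupp.finsetSum_apply] at hn
    have hdle := factorization_le_of_dvd hn0.2.1 hd p
    have hkK := factorization_le_of_dvd (Finset.prod_ne_zero_iff.2 fun i _ => hR0 i)
      (hR ▸ hk1) p
    rw [Nat.factorization_prod (fun i _ => hR0 i), Finsupp.finsetSum_apply] at hkK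
    have hsum : ∀ i ∈ (univ : Finset ι), (R i).factorization p + ε i ≤ (a i).factorization p :=
      fun i _ => hpt i
    have hs1 : ∑ i, ((R i).factorization p + ε i) ≤ ∑ i, (a i).factorization p := sum_le_sum hsum
    have htotal : Q.factorization p + ∑ i, (a i).factorization p ≤
        ∑ i, ((R i).factorization p + ε i) := by
      rw [sum_add_distrib]
      simp only [ha] at *
      by_cases hδ : p = 2 ∧ H ≤ alternatingGroup α
      · obtain ⟨rfl, he⟩ := hδ
        rw [slack_pos he] at hn
        by_cases hodd : ∃ i, ¬ (restr σ hf i).range ≤ alternatingGroup _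
        · have h3 := factorization_le_of_dvd (Finset.prod_ne_zero_iff.2 fun i _ => hR0 i)
            (hR ▸ hk2 he hodd) 2
          rw [Nat.factorization_prod (fun i _ => hR0 i), Finsupp.finsetSum_apply,
            Nat.factorization_mul two_ne_zero Nat.card_pos.ne', Finsupp.add_apply,
            Nat.prime_two.factorization_self] at h3
          omega
        · push Not at hodd
          obtain ⟨i, hi⟩ := hbig
          have : 1 ≤ ∑ i, ε i :=
            le_trans (by rw [hε]; simp [hodd i, hi]) (single_le_sum (fun _ _ => Nat.zero_le _) (mem_univ i))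
          omega
      · rw [slack_eq_zero hδ] at hn
        omega
    refine ⟨by omega, fun i => ?_⟩
    have heq : ∑ i, ((R i).factorization p + ε i) = ∑ i, (a i).factorization p := by omega
    have := (sum_eq_sum_iff_of_le hsum).1 heq i (mem_univ i)
    rw [← this, hε]
    dsimp only
    split_ifs with h1
    · rw [h1.1, slack_pos h1.2.1]
    · omega
  refine ⟨fun p hp hpπ hdvd => ?_, fun i => ⟨fun p hp hpd => hπ i p hp (by rw [hR]; exact hpd),
    fun p hp hpπ => ?_⟩⟩
  · exact (hp.factorization_pos_of_dvd hn0.1 hdvd).ne' (hall p hp hpπ).1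
  · have := (hall p hp hpπ).2 i
    rw [ha, hR] at this
    exact this

end

end Cfsg.Agent.Fus.HallSym
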