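import Cfsg.Agent.Lib.Fus.HallSymPrimitive

/-!
Subgroups of a symmetric group with nearly the whole `π`-part of `n!`: the classification.
-/

set_option autoImplicit false

namespace Cfsg.Agent.Fus.HallSym

open Equiv Finset MulAction

open scoped Pointwise

/-- The exceptional pairs of a degree and a set of primes. -/
def Good (π : Set ℕ) (n : ℕ) : Prop :=
  (n.Prime ∧ ∀ r : ℕ, r.Prime → r ≤ n → (r ∈ π ↔ r < n)) ∨
    ((n = 7 ∨ n = 8) ∧ ∀ r : ℕ, r.Prime → r ≤ n → (r ∈ π ↔ (r = 2 ∨ r = 3)))

variable {α : Type*} [Fintype α] [DecidableEq α]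

/-- The shape of a nearly Hall subgroup: it fixes a point, a four element subset, or a partition
into two such. -/
def Shape (π : Set ℕ) (H : Subgroup (Perm α)) : Prop :=
  ((Fintype.card α).Prime ∧ (∀ r : ℕ, r.Prime → r ≤ Fintype.card α → (r ∈ π ↔ r < Fintype.card α)) ∧
    ∃ x : α, ∀ g ∈ H, g x = x) ∨
  ((∀ r : ℕ, r.Prime → r ≤ Fintype.card α → (r ∈ π ↔ (r = 2 ∨ r = 3))) ∧
    ∃ s : Finset α, s.card = 4 ∧
      ((Fintype.card α = 7 ∧ ∀ g ∈ H, s.image g = s) ∨
        (Fintype.card α = 8 ∧ ∀ g ∈ H, s.image g = s ∨ s.image g = sᶜ)))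

theorem Shape.good {π : Set ℕ} {H : Subgroup (Perm α)} (h : Shape π H) :
    Good π (Fintype.card α) := by
  rcases h with ⟨h1, h2, -⟩ | ⟨h1, s, -, ⟨h2, -⟩ | ⟨h2, -⟩⟩
  · exact Or.inl ⟨h1, h2⟩
  · exact Or.inr ⟨Or.inl h2, h1⟩
  · exact Or.inr ⟨Or.inr h2, h1⟩

/-- A good degree `a` leaves no room above it. -/
theorem good_no_room {π : Set ℕ} {a c : ℕ} (hg : Good π a) (hP : Proper π a) (hc : 1 ≤ c)
    (hca : c ≤ a) (h : ∀ p : ℕ, p.Prime → p ∈ π → ¬ p ∣ (a + c).choose c) : False := by
  have hfac : ∀ p : ℕ, p.Prime → p ∣ a + 1 → p ∈ π := by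
    intro p hp hd
    rcases hg with ⟨ha, hA⟩ | ⟨rfl | rfl, hB⟩
    · have h5 := hP.five_le
      have := two_mul_le_of_composite (by omega) (fun hp' => by
        have := hp'.eq_two_or_odd
        have := ha.eq_two_or_odd
        omega) hp hd
      exact (hA p hp (by omega)).2 (by omega)
    · obtain rfl : p = 2 := (Nat.prime_dvd_prime_iff_eq hp Nat.prime_two).1
        (hp.dvd_of_dvd_pow (show p ∣ 2 ^ 3 from hd))
      exact (hB 2 hp (by norm_num)).2 (Or.inl rfl)
    · obtain rfl : p = 3 := (Nat.prime_dvd_prime_iff_eq hp Nat.prime_three).1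
        (hp.dvd_of_dvd_pow (show p ∣ 3 ^ 2 from hd))
      exact (hB 3 hp (by norm_num)).2 (Or.inr rfl)
  obtain ⟨p, hp, hpπ, hd⟩ := exists_pi_prime_dvd hc hca hfac
  exact h p hp hpπ hd

theorem choose_dvd_uniformBell {b : ℕ} : ∀ m : ℕ, 2 ≤ m →
    (2 * b - 1).choose (b - 1) ∣ Nat.uniformBell m b ∧
      (3 ≤ m → (3 * b - 1).choose (b - 1) ∣ Nat.uniformBell m b) := by
  intro m hm
  induction m, hm using Nat.le_induction with
  | base =>
    refine ⟨⟨Nat.uniformBell 1 b, ?_⟩, by omega⟩
    rw [Nat.uniformBell_succ_left 1 b, one_mul, two_mul]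
  | succ m hm ih =>
    rw [Nat.uniformBell_succ_left]
    refine ⟨ih.1.mul_left _, fun h3 => ?_⟩
    rcases Nat.eq_or_lt_of_le hm with rfl | hlt
    · rw [show 3 * b - 1 = 2 * b + b - 1 by omega]
      exact Dvd.intro _ rfl
    · exact (ih.2 (by omega)).mul_left _

omit [DecidableEq α] in
/-- A `π`-prime up to `n` is not above a part all of whose complementary data avoid it. -/
theorem dichotomy {π : Set ℕ} (hP : Proper π (Fintype.card α)) {a : ℕ}
    (hπa : ∀ r : ℕ, r.Prime → r ∈ π → r ≤ Fintype.card α → r ≤ a) :
    (∀ r : ℕ, r.Prime → r ≤ a → r ∈ π) ∨ Proper π a := by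
  by_cases hall : ∀ r : ℕ, r.Prime → r ≤ a → r ∈ π
  · exact Or.inl hall
  · push Not at hall
    obtain ⟨r, s, hr, hs, hrs, hrπ, hsπ, hrn, hsn⟩ := hP.1
    exact Or.inr ⟨⟨r, s, hr, hs, hrs, hrπ, hsπ, hπa r hr hrπ hrn, hπa s hs hsπ hsn⟩, hall⟩

/-- The main classification, by induction on the degree. -/
theorem shape_of_near : ∀ (N : ℕ) {α : Type*} [Fintype α] [DecidableEq α] (π : Set ℕ)
    (H : Subgroup (Perm α)), Fintype.card α = N → Near π H → Proper π (Fintype.card α) →
    Shape π H := by
  intro N
  induction N using Nat.strong_induction_on with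
  | _ N IH =>
    intro α _ _ π H hN hH hP
    classical
    have h5 := hP.five_le
    obtain ⟨r₁, r₂, hr₁, hr₂, hr12, hr₁π, hr₂π, hr₁n, hr₂n⟩ := hP.1
    obtain ⟨q, hq, hqn, hqπ⟩ := hP.2
    by_cases htr : IsPretransitive H α
    · -- imprimitive
      have hnp := not_isPreprimitive hH hP
      obtain ⟨B, hB, hBnt⟩ : ∃ B : Set α, IsBlock H B ∧ ¬ IsTrivialBlock B := by
        by_contra hcon
        push Not at hcon
        exact hnp { isTrivialBlock_of_isBlock := fun hB => hcon _ hB }
      have hB2 : B.Nontrivial := Set.not_subsingleton_iff.1 fun h => hBnt (Or.inl h)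
      obtain ⟨b₀, hb₀⟩ := hB2.nonempty
      obtain ⟨b, hb⟩ : ∃ b, b = B.ncard := ⟨_, rfl⟩
      have hb2 : 2 ≤ b := hb ▸ Set.one_lt_ncard_iff_nontrivial.2 hB2
      obtain ⟨m, hm⟩ : ∃ m, m = (orbit H B).ncard := ⟨_, rfl⟩
      have hbm : b * m = Fintype.card α := by
        rw [hb, hm, hB.ncard_block_mul_ncard_orbit_eq ⟨b₀, hb₀⟩, Nat.card_eq_fintype_card]
      have hblt : b < Fintype.card α := by
        rw [hb, ← Nat.card_eq_fintype_card]
        exact Set.ncard_lt_card fun h => hBnt (Or.inr h)
      have hm2 : 2 ≤ m := by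
        by_contra hlt
        have : m = 0 ∨ m = 1 := by omega
        rcases this with rfl | rfl <;> omega
      haveI : Fintype (orbit H B) := Fintype.ofFinite _
      have hex : ∀ x : α, ∃ C : orbit H B, x ∈ (C : Set α) := fun x => by
        obtain ⟨g, hg⟩ := exists_smul_eq H b₀ x
        exact ⟨⟨g • B, mem_orbit B g⟩, ⟨b₀, hb₀, hg⟩⟩
      choose f hfmem using hex
      have huniq : ∀ x (C : orbit H B), x ∈ (C : Set α) → f x = C := by
        intro x C hx
        obtain ⟨g₁, hg₁⟩ := (f x).2
        obtain ⟨g₂, hg₂⟩ := C.2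
        apply Subtype.ext
        rw [← hg₁, ← hg₂]
        rcases isBlock_iff_smul_eq_smul_or_disjoint.1 hB g₁ g₂ with h | h
        · exact h
        · refine absurd hx (Set.disjoint_left.1 ?_ (hfmem x))
          rw [← hg₁, ← hg₂]
          exact h
      let σ : H →* Perm (orbit H B) := toPermHom H (orbit H B)
      have hf : ∀ (g : H) (x : α), f ((g : Perm α) x) = σ g (f x) := fun g x =>
        huniq _ _ (show (g : Perm α) x ∈ g • (f x : Set α) from ⟨x, hfmem x, rfl⟩)
      have hfib : ∀ C : orbit H B, Fintype.card {x : α // f x = C} = b := by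
        intro C
        obtain ⟨g, hg⟩ := C.2
        rw [hb, ← Nat.card_eq_fintype_card, ← Nat.card_coe_set_eq,
          Nat.card_congr (Equiv.subtypeEquivRight (q := fun x => x ∈ (C : Set α))
            fun x => ⟨fun h => by rw [← h]; exact hfmem x, huniq x C⟩), Nat.card_coe_set_eq, ← hg]
        exact Set.ncard_image_of_injective _ (MulAction.injective g)
      have hcι : Fintype.card (orbit H B) = m := by
        rw [hm, ← Nat.card_eq_fintype_card, Nat.card_coe_set_eq]
      obtain ⟨hQ, hR⟩ := fibre_near σ hf hH (d := Nat.factorial m) (Q := Nat.uniformBell m b)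
        (hcι ▸ card_perm_dvd _) (by
          simp only [hfib, prod_const, card_univ, hcι]
          rw [← hbm, mul_comm b m, ← Nat.uniformBell_mul_eq m (show b ≠ 0 by omega)]
          ring)
        ⟨⟨B, mem_orbit_self B⟩, (hfib _).symm ▸ hb2⟩
      have hπb : ∀ r : ℕ, r.Prime → r ∈ π → r ≤ Fintype.card α → r ≤ b := by
        intro r hr hrπ hrn
        by_contra hlt
        have hd := Nat.dvd_factorial hr.pos hrn
        rw [← hbm, mul_comm b m, ← Nat.uniformBell_mul_eq m (show b ≠ 0 by omega)] at hd
        have hrb : ¬ r ∣ Nat.factorial b ^ m := fun h =>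
          hlt (hr.dvd_factorial.1 (hr.dvd_of_dvd_pow h))
        have hrm : r ∣ Nat.factorial m := ((hr.dvd_mul.1 hd).resolve_left fun h =>
          ((hr.dvd_mul.1 h).elim (hQ r hr hrπ) hrb))
        have hd2 : Nat.factorial m * Nat.factorial m ∣ Nat.factorial (Fintype.card α) :=
          (Nat.factorial_mul_factorial_dvd_factorial_add m m).trans
            (Nat.factorial_dvd_factorial (by
              rw [← hbm]
              calc m + m = 2 * m := (two_mul m).symm
                _ ≤ b * m := Nat.mul_le_mul_right _ hb2))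
        have e : (Nat.factorial (Fintype.card α)).factorization r = (Nat.factorial m).factorization r := by
          rw [← hbm, mul_comm b m, ← Nat.uniformBell_mul_eq m (show b ≠ 0 by omega)]
          have hb0 : Nat.uniformBell m b ≠ 0 := by
            intro h0
            have := Nat.uniformBell_mul_eq m (show b ≠ 0 by omega)
            rw [h0, zero_mul, zero_mul] at this
            exact Nat.factorial_ne_zero _ this.symm
          rw [Nat.factorization_mul (mul_ne_zero hb0 (pow_ne_zero _ (Nat.factorial_ne_zero _)))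
              (Nat.factorial_ne_zero _),
            Nat.factorization_mul hb0 (pow_ne_zero _ (Nat.factorial_ne_zero _)),
            Finsupp.add_apply, Finsupp.add_apply, Nat.factorization_eq_zero_of_not_dvd (hQ r hr hrπ),
            Nat.factorization_eq_zero_of_not_dvd hrb, zero_add, zero_add]
        have h2 := factorization_le_of_dvd (Nat.factorial_ne_zero _) hd2 r
        rw [Nat.factorization_mul (Nat.factorial_ne_zero _) (Nat.factorial_ne_zero _),
          Finsupp.add_apply, e] at h2
        have := hr.factorization_pos_of_dvd (Nat.factorial_ne_zero _) hrm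
        omega
      have hch := (choose_dvd_uniformBell (b := b) m hm2).1
      rw [show 2 * b - 1 = b + (b - 1) by omega] at hch
      rcases dichotomy hP hπb with hall | hPb
      · have hb3 : 3 ≤ b := by
          by_contra hlt
          have := hπb r₁ hr₁ hr₁π hr₁n
          have := hπb r₂ hr₂ hr₂π hr₂n
          have := hr₁.two_le
          have := hr₂.two_le
          omega
        obtain ⟨rfl, -⟩ := no_small_factor (a := b) (c := b - 1) (by omega) (by omega)
          (fun p hp hpb hd => hQ p hp (hall p hp hpb) (hd.trans hch))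
        have h3π := hall 3 Nat.prime_three (by norm_num)
        have hm' : m = 2 := by
          by_contra hne
          exact hQ 3 Nat.prime_three h3π ((show 3 ∣ (3 * 4 - 1).choose (4 - 1) by decide).trans
            ((choose_dvd_uniformBell (b := 4) m hm2).2 (by omega)))
        refine Or.inr ⟨fun r hr hrn => ⟨fun hrπ => ?_, fun h => hall r hr (by omega)⟩,
          B.toFinset, by rw [← Set.ncard_eq_toFinset_card', ← hb], Or.inr ⟨by omega, fun g hg => ?_⟩⟩
        · have := hπb r hr hrπ hrn
          have := hr.two_le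
          have : r ≠ 4 := by rintro rfl; norm_num at hr
          omega
        · have hcard : (B.toFinset.image g).card = 4 := by
            rw [card_image_of_injective _ g.injective, ← Set.ncard_eq_toFinset_card', ← hb]
          rcases isBlock_iff_smul_eq_or_disjoint.1 hB ⟨g, hg⟩ with h | h
          · left
            rw [← coe_inj, coe_image, Set.coe_toFinset]
            exact h
          · right
            refine eq_of_subset_of_card_le (fun x hx => ?_) ?_
            · rw [mem_image] at hx
              obtain ⟨y, hy, rfl⟩ := hx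
              rw [mem_compl, Set.mem_toFinset]
              exact fun hB' => Set.disjoint_left.1 h ⟨y, Set.mem_toFinset.1 hy, rfl⟩ hB'
            · rw [hcard, card_compl, ← Set.ncard_eq_toFinset_card', ← hb]
              omega
      · have hC := hfib ⟨B, mem_orbit_self B⟩
        have := IH b (by omega) π _ hC (hR ⟨B, mem_orbit_self B⟩) (hC.symm ▸ hPb)
        exact absurd (good_no_room (hC ▸ this.good) hPb (show 1 ≤ b - 1 by omega) (by omega)
          (fun p hp hpπ hd => hQ p hp hpπ (hd.trans hch))) not_false
    · -- intransitive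
      obtain ⟨t, htinv, htn, ht2⟩ : ∃ t : Finset α, (∀ g ∈ H, ∀ x, g x ∈ t ↔ x ∈ t) ∧
          t.card < Fintype.card α ∧ Fintype.card α ≤ 2 * t.card := by
        obtain ⟨x, y, hxy⟩ : ∃ x y : α, ∀ g : H, g • x ≠ y := by
          by_contra hcon
          push Not at hcon
          exact htr ⟨hcon⟩
        obtain ⟨O, hO⟩ : ∃ O : Finset α, O = (orbit H x).toFinset := ⟨_, rfl⟩
        have hinv : ∀ g ∈ H, ∀ z, g z ∈ O ↔ z ∈ O := fun g hg z => by
          rw [hO, Set.mem_toFinset, Set.mem_toFinset, ← orbit_eq_iff, ← orbit_eq_iff,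
            show g z = (⟨g, hg⟩ : H) • z from rfl, orbit_smul]
        have hy : y ∉ O := by
          rw [hO, Set.mem_toFinset]
          rintro ⟨g, hg⟩
          exact hxy g hg
        have hx : x ∈ O := by rw [hO, Set.mem_toFinset]; exact mem_orbit_self x
        by_cases hle : Fintype.card α ≤ 2 * O.card
        · exact ⟨O, hinv, card_lt_univ_of_notMem hy, hle⟩
        · refine ⟨Oᶜ, fun g hg z => by rw [mem_compl, mem_compl, hinv g hg], ?_, ?_⟩
          · exact card_lt_univ_of_notMem (x := x) (by simpa using hx)
          · rw [card_compl]; omega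
      obtain ⟨c, hc⟩ : ∃ c, c = Fintype.card α - t.card := ⟨_, rfl⟩
      let f : α → Bool := fun x => decide (x ∈ t)
      have hft : Fintype.card {x : α // f x = true} = t.card := by simp [f]
      have hff : Fintype.card {x : α // f x = false} = c := by
        rw [hc, Fintype.card_congr (Equiv.subtypeEquivRight (q := fun x => ¬ x ∈ t) (by simp [f])),
          Fintype.card_subtype_compl]
        simp
      obtain ⟨hQ, hR⟩ := fibre_near (f := f) (1 : H →* Perm Bool)
        (fun g x => by simp [f, htinv _ g.2]) hH (d := 1)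
        (Q := (t.card + c).choose c) (by simp [MonoidHom.range_one]) (by
          rw [Fintype.prod_bool, hft, hff, one_mul, mul_comm (Nat.factorial t.card), ← mul_assoc]
          have := Nat.choose_mul_factorial_mul_factorial (show c ≤ t.card + c by omega)
          rw [Nat.add_sub_cancel] at this
          rw [this, show t.card + c = Fintype.card α by omega])
        ⟨true, by rw [hft]; omega⟩
      have hπa : ∀ r : ℕ, r.Prime → r ∈ π → r ≤ Fintype.card α → r ≤ t.card := by
        intro r hr hrπ hrn
        by_contra hlt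
        have hd := Nat.dvd_factorial hr.pos hrn
        rw [show Fintype.card α = t.card + c by omega,
          ← Nat.choose_mul_factorial_mul_factorial (show c ≤ t.card + c by omega),
          Nat.add_sub_cancel] at hd
        rcases hr.dvd_mul.1 hd with h | h
        · rcases hr.dvd_mul.1 h with h | h
          · exact hQ r hr hrπ h
          · have := hr.dvd_factorial.1 h
            omega
        · exact hlt (hr.dvd_factorial.1 h)
      rcases dichotomy hP hπa with hall | hPa
      · rcases Nat.lt_or_ge c 2 with hc2 | hc2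
        · have hc1 : c = 1 := by omega
          have hqn' : q = Fintype.card α := by
            by_contra hne
            exact hqπ (hall q hq (by omega))
          refine Or.inl ⟨hqn' ▸ hq, fun r hr hrn => ⟨fun hrπ => ?_, fun h => hall r hr (by omega)⟩, ?_⟩
          · have := hπa r hr hrπ hrn
            omega
          · obtain ⟨x, hx⟩ := card_eq_one.1 (show tᶜ.card = 1 by rw [card_compl]; omega)
            refine ⟨x, fun g hg => ?_⟩
            rw [← mem_singleton (a := x), ← hx, mem_compl, htinv g hg, ← mem_compl, hx]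
            exact mem_singleton_self x
        · obtain ⟨ht4, rfl⟩ := no_small_factor hc2 (by omega)
            (fun p hp hpa hd => hQ p hp (hall p hp hpa) hd)
          refine Or.inr ⟨fun r hr hrn => ⟨fun hrπ => ?_, fun h => hall r hr (by omega)⟩, t, ht4,
            Or.inl ⟨by omega, fun g hg => ?_⟩⟩
          · have := hπa r hr hrπ hrn
            have := hr.two_le
            have : r ≠ 4 := by rintro rfl; norm_num at hr
            omega
          · refine eq_of_subset_of_card_le (fun x hx => ?_)
              (by rw [card_image_of_injective _ g.injective])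
            obtain ⟨y, hy, rfl⟩ := mem_image.1 hx
            exact (htinv g hg y).2 hy
      · have := IH t.card (by omega) π _ hft (hR true) (hft.symm ▸ hPa)
        exact absurd (good_no_room (hft ▸ this.good) hPa (by omega) (by omega) hQ) not_false

end Cfsg.Agent.Fus.HallSym
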