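import Mathlib
import Cfsg.Agent.Lib.Fus.HallSymFibre
import Cfsg.Agent.Lib.Transfer.JordanPrimeCycle
import Cfsg.Agent.Lib.Block.DegreeSeven
import Cfsg.Agent.Lib.Block.RegularNormal
import Cfsg.Agent.S0675

/-!
A primitive permutation group does not carry the whole `π`-part of `n!` for a set of primes
containing at least two, but not all, of the primes up to `n`.
-/

set_option autoImplicit false
set_option maxRecDepth 10000

namespace Cfsg.Agent.Fus.HallSym

open Equiv Finset

theorem seven_pattern : ∀ a b c d : Fin 7, a ≠ b → a ≠ c → a ≠ d → b ≠ c → b ≠ d → c ≠ d →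
    ((({a, b, c, d} : Finset (Fin 7)) ∩ {0, 1, 2, 3}).card = 1 ∨
      (({a, b, c, d} : Finset (Fin 7)) ∩ {0, 1, 2, 3}).card = 3) →
    let w : Perm (Fin 7) := swap 0 1 * swap 2 3 * (swap a b * swap c d)
    (univ.filter (fun x => (w * w) x ≠ x)).card = 3 ∧ (w * w) ^ 3 = 1 ∨
    (univ.filter (fun x => w x ≠ x)).card = 3 ∧ w ^ 3 = 1 ∨
    (univ.filter (fun x => w x ≠ x)).card = 5 ∧ w ^ 5 = 1 := by
  decide +kernel

section Count

variable {G β : Type*} [Group G] [Fintype G] [DecidableEq β] [MulAction G β]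

theorem fibre_count (T : Finset β) {x : β} (hcl : ∀ g : G, g • x ∈ T)
    (htr : ∀ u ∈ T, ∃ g : G, g • x = u) {u : β} (hu : u ∈ T) :
    (univ.filter (fun g : G => g • x = u)).card * T.card = Fintype.card G := by
  classical
  rw [← card_univ (α := G), card_eq_sum_card_fiberwise (f := fun g : G => g • x) (s := univ) (t := T)
    (fun g _ => hcl g), mul_comm]
  refine (sum_eq_card_nsmul fun v hv => ?_).symm
  obtain ⟨h, rfl⟩ := htr u hu
  obtain ⟨k, rfl⟩ := htr v hv
  refine card_bij' (fun g _ => h * k⁻¹ * g) (fun g _ => k * h⁻¹ * g) ?_ ?_ ?_ ?_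
  · intro g hg
    simp only [mem_filter, mem_univ, true_and] at hg ⊢
    rw [mul_smul, hg, mul_smul, inv_smul_smul]
  · intro g hg
    simp only [mem_filter, mem_univ, true_and] at hg ⊢
    rw [mul_smul, hg, mul_smul, inv_smul_smul]
  · intro g _; group
  · intro g _; group

theorem double_count (S T : Finset β) (hST : S ⊆ T) (hcl : ∀ x ∈ S, ∀ g : G, g • x ∈ T)
    (htr : ∀ x ∈ S, ∀ u ∈ T, ∃ g : G, g • x = u) :
    (∑ g : G, (S.filter (fun x => g • x ∈ S)).card) * T.card =
      S.card * S.card * Fintype.card G := by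
  classical
  have h1 : ∀ g : G, (S.filter (fun x => g • x ∈ S)).card =
      ∑ x ∈ S, ∑ u ∈ S, if g • x = u then 1 else 0 := fun g => by
    rw [card_filter]
    exact sum_congr rfl fun x _ => by rw [sum_ite_eq]
  simp only [h1]
  rw [sum_comm, sum_mul]
  simp only [sum_comm (s := (univ : Finset G))]
  rw [mul_assoc, ← smul_eq_mul S.card]
  refine (sum_eq_card_nsmul fun x hx => ?_)
  rw [sum_mul]
  refine (sum_eq_card_nsmul fun u hu => ?_).trans (smul_eq_mul _ _)
  rw [← card_filter]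
  exact fibre_count T (hcl x hx) (htr x hx) (hST hu)

end Count

variable {α : Type*} [Fintype α] [DecidableEq α]

/-- No subgroup of the symmetric group on seven points has order `56` or `280`. -/
theorem no_order_56 (hα : Fintype.card α = 7) (K : Subgroup (Perm α))
    (hK : Nat.card K = 56 ∨ Nat.card K = 280) : False := by
  haveI : Fact (Nat.Prime 7) := ⟨by norm_num⟩
  haveI h0 : MulAction.IsPretransitive (⊤ : Subgroup K) α :=
    Block.primeDeg_pretransitive_of_dvd hα K ⊤ (by rw [Subgroup.card_top]; omega)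
  haveI : MulAction.IsPretransitive K α := ⟨fun a b => by
    obtain ⟨⟨g, _⟩, hg⟩ := h0.exists_smul_eq a b
    exact ⟨g, hg⟩⟩
  obtain ⟨P⟩ : Nonempty (Sylow 7 K) := inferInstance
  have hP := Block.primeDeg_card_sylow hα K P
  have hN : Nat.card (Subgroup.normalizer ((P : Subgroup K) : Set K)) ∣ 42 :=
    Block.primeDeg_card_normalizer_dvd hα K P
  have h1 := card_sylow_modEq_one 7 K
  have h2 : Nat.card (Sylow 7 K) * Nat.card (Subgroup.normalizer ((P : Subgroup K) : Set K)) =
      Nat.card K := by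
    rw [P.card_eq_index_normalizer]
    exact Subgroup.index_mul_card _
  obtain ⟨N, hNdef⟩ : ∃ N, N = Nat.card (Subgroup.normalizer ((P : Subgroup K) : Set K)) := ⟨_, rfl⟩
  obtain ⟨m, hm⟩ : ∃ m, m = Nat.card (Sylow 7 K) := ⟨_, rfl⟩
  rw [← hNdef] at hN h2
  rw [← hm] at h1 h2
  have hmem : N ∈ Nat.divisors 42 := Nat.mem_divisors.2 ⟨hN, by norm_num⟩
  rw [show Nat.divisors 42 = {1, 2, 3, 6, 7, 14, 21, 42} from by decide] at hmem
  simp only [mem_insert, mem_singleton] at hmem
  rw [Nat.ModEq] at h1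
  rcases hK with hK | hK
  · have hm8 : m = 8 := by
      rcases hmem with rfl | rfl | rfl | rfl | rfl | rfl | rfl | rfl <;> omega
    exact Block.DegSeven.kill hα K (m := 8) (by norm_num) hK (hm ▸ hm8)
  · rcases hmem with rfl | rfl | rfl | rfl | rfl | rfl | rfl | rfl <;> omega

omit [Fintype α] in
/-- The image of a product of two transpositions. -/
theorem conj_double_swap (g : Perm α) (a b c d : α) :
    g * (swap a b * swap c d) * g⁻¹ = swap (g a) (g b) * swap (g c) (g d) := by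
  rw [swap_apply_apply, swap_apply_apply]
  group

omit [Fintype α] in
theorem viaEmbedding_swap {β : Type*} [DecidableEq β] (φ : β ↪ α) (i j : β) :
    Perm.viaEmbedding (swap i j) φ = swap (φ i) (φ j) := by
  ext x
  by_cases hx : x ∈ Set.range φ
  · obtain ⟨k, rfl⟩ := hx
    rw [Perm.viaEmbedding_apply, φ.injective.swap_apply]
  · rw [Perm.viaEmbedding_apply_of_notMem _ _ _ hx, swap_apply_of_ne_of_ne]
    · rintro rfl; exact hx ⟨i, rfl⟩
    · rintro rfl; exact hx ⟨j, rfl⟩

theorem support_viaEmbedding {β : Type*} [Fintype β] [DecidableEq β] (φ : β ↪ α) (v : Perm β) :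
    (Perm.viaEmbedding v φ).support = (univ.filter (fun x => v x ≠ x)).map φ := by
  ext x
  rw [Perm.mem_support]
  by_cases hx : x ∈ Set.range φ
  · obtain ⟨k, rfl⟩ := hx
    simp [Perm.viaEmbedding_apply, φ.injective.ne_iff]
  · rw [Perm.viaEmbedding_apply_of_notMem _ _ _ hx]
    simp only [ne_eq, not_true, mem_map, false_iff, not_exists, not_and]
    rintro k - rfl
    exact hx ⟨k, rfl⟩

/-- Conjugate double transpositions meeting in one or three points generate a prime cycle. -/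
theorem cycle_of_meet (hn : 8 ≤ Fintype.card α) {H : Subgroup (Perm α)}
    (hprim : MulAction.IsPreprimitive H α) {a b c d : α} (hnd : [a, b, c, d].Nodup)
    (hs : swap a b * swap c d ∈ H) {g : Perm α} (hg : g ∈ H)
    (hX : ((({a, b, c, d} : Finset α)).image g ∩ {a, b, c, d}).card = 1 ∨
      ((({a, b, c, d} : Finset α)).image g ∩ {a, b, c, d}).card = 3) :
    alternatingGroup α ≤ H := by
  classical
  simp only [List.nodup_cons, List.mem_cons, List.not_mem_nil, or_false, not_or,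
    List.nodup_nil, and_true] at hnd
  obtain ⟨⟨hab, hac, had⟩, ⟨hbc, hbd⟩, hcd, -⟩ := hnd
  obtain ⟨Δ, hΔ⟩ : ∃ Δ : Finset α, Δ = {a, b, c, d} := ⟨_, rfl⟩
  rw [← hΔ] at hX
  have hΔ4 : Δ.card = 4 := by
    rw [hΔ, card_insert_of_notMem (by simp [hab, hac, had]),
      card_insert_of_notMem (by simp [hbc, hbd]), card_pair hcd]
  have hU : (Δ.image g ∪ Δ).card ≤ 7 := by
    have h1 := card_union_add_card_inter (Δ.image g) Δ
    have h2 := card_image_of_injective Δ g.injective
    omega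
  obtain ⟨U, hsub, hU7⟩ := exists_superset_card_eq hU (show 7 ≤ Fintype.card α by omega)
  have mem : ∀ {x}, x ∈ Δ.image g ∪ Δ → ∃ i : Fin 7, ((U.equivFinOfCardEq hU7).symm i : α) = x :=
    fun {x} hx => ⟨U.equivFinOfCardEq hU7 ⟨x, hsub hx⟩, by rw [symm_apply_apply]⟩
  have memΔ : ∀ {x}, x ∈ Δ → x ∈ Δ.image g ∪ Δ := fun h => mem_union_right _ h
  obtain ⟨i0, hi0⟩ := mem (memΔ (show a ∈ Δ by simp [hΔ]))
  obtain ⟨i1, hi1⟩ := mem (memΔ (show b ∈ Δ by simp [hΔ]))
  obtain ⟨i2, hi2⟩ := mem (memΔ (show c ∈ Δ by simp [hΔ]))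
  obtain ⟨i3, hi3⟩ := mem (memΔ (show d ∈ Δ by simp [hΔ]))
  let e1 : Fin 4 ↪ Fin 7 := ⟨![i0, i1, i2, i3], by
    intro i j h
    fin_cases i <;> fin_cases j <;> first | rfl | (exfalso; simp at h; subst h; simp_all)⟩
  let e0 : Fin 4 ↪ Fin 7 := Fin.castLEEmb (by norm_num)
  obtain ⟨τ, hτ⟩ := (Perm.isMultiplyPretransitive (Fin 7) 4).exists_smul_eq e0 e1
  let φ : Fin 7 ↪ α := τ.toEmbedding.trans
    ((U.equivFinOfCardEq hU7).symm.toEmbedding.trans (Function.Embedding.subtype _))
  have hτi : ∀ i : Fin 4, τ (e0 i) = e1 i := fun i => DFunLike.congr_fun hτ i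
  have p0 : φ 0 = a := by
    show ((U.equivFinOfCardEq hU7).symm (τ (e0 0)) : α) = a
    rw [hτi]; exact hi0
  have p1 : φ 1 = b := by
    show ((U.equivFinOfCardEq hU7).symm (τ (e0 1)) : α) = b
    rw [hτi]; exact hi1
  have p2 : φ 2 = c := by
    show ((U.equivFinOfCardEq hU7).symm (τ (e0 2)) : α) = c
    rw [hτi]; exact hi2
  have p3 : φ 3 = d := by
    show ((U.equivFinOfCardEq hU7).symm (τ (e0 3)) : α) = d
    rw [hτi]; exact hi3
  have pre : ∀ {x}, x ∈ Δ → ∃ i, φ i = g x := fun {x} hx => by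
    obtain ⟨i, hi⟩ := mem (mem_union_left _ (mem_image_of_mem g hx))
    exact ⟨τ.symm i, by simpa [φ] using hi⟩
  obtain ⟨A, hA⟩ := pre (show a ∈ Δ by simp [hΔ])
  obtain ⟨B, hB⟩ := pre (show b ∈ Δ by simp [hΔ])
  obtain ⟨C, hC⟩ := pre (show c ∈ Δ by simp [hΔ])
  obtain ⟨D, hD⟩ := pre (show d ∈ Δ by simp [hΔ])
  have ne : ∀ {x y : α} {i j : Fin 7}, φ i = g x → φ j = g y → x ≠ y → i ≠ j := by
    rintro x y i j h1 h2 hxy rfl
    exact hxy (g.injective (h1.symm.trans h2))
  have hmeet : (({A, B, C, D} : Finset (Fin 7)) ∩ {0, 1, 2, 3}).card = (Δ.image g ∩ Δ).card := by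
    rw [← card_map φ, map_inter]
    simp only [map_insert, map_singleton, p0, p1, p2, p3, hA, hB, hC, hD]
    simp [hΔ, image_insert]
  rw [← hmeet] at hX
  have h7 := seven_pattern A B C D (ne hA hB hab) (ne hA hC hac) (ne hA hD had) (ne hB hC hbc)
    (ne hB hD hbd) (ne hC hD hcd) hX
  obtain ⟨w, hw⟩ : ∃ w : Perm (Fin 7), w = swap 0 1 * swap 2 3 * (swap A B * swap C D) := ⟨_, rfl⟩
  rw [← hw] at h7
  have hwH : Perm.viaEmbeddingHom φ w ∈ H := by
    rw [hw]
    simp only [map_mul, Perm.viaEmbeddingHom_apply, viaEmbedding_swap, p0, p1, p2, p3, hA, hB, hC, hD]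
    rw [← conj_double_swap g a b c d]
    exact H.mul_mem hs (H.mul_mem (H.mul_mem hg hs) (H.inv_mem hg))
  have key : ∀ v : Perm (Fin 7), Perm.viaEmbeddingHom φ v ∈ H → ∀ p, p.Prime →
      (univ.filter (fun x => v x ≠ x)).card = p → v ^ p = 1 → p + 3 ≤ Fintype.card α →
      alternatingGroup α ≤ H := by
    intro v hv p hp hc hpow hle
    haveI := Fact.mk hp
    have hsupp : (Perm.viaEmbeddingHom φ v).support.card = p := by
      rw [Perm.viaEmbeddingHom_apply, support_viaEmbedding, card_map, hc]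
    have hord : orderOf (Perm.viaEmbeddingHom φ v) = p := by
      refine orderOf_eq_prime (by rw [← map_pow, hpow, map_one]) fun h1 => ?_
      rw [h1, Perm.support_one, card_empty] at hsupp
      exact hp.ne_zero hsupp.symm
    have hcyc : (Perm.viaEmbeddingHom φ v).IsCycle :=
      Perm.isCycle_of_prime_order (by rw [hord]; exact hp) (by rw [hsupp, hord]; have := hp.pos; omega)
    exact Cfsg.Agent.Transfer.JordanPrimeCycle.alternatingGroup_le_of_cycle hprim hp hle hcyc hsupp hv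
  rcases h7 with ⟨h1, h2⟩ | ⟨h1, h2⟩ | ⟨h1, h2⟩
  · exact key (w * w) (by rw [map_mul]; exact H.mul_mem hwH hwH) 3 Nat.prime_three h1 h2 (by omega)
  · exact key w hwH 3 Nat.prime_three h1 h2 (by omega)
  · exact key w hwH 5 Nat.prime_five h1 h2 (by omega)

end Cfsg.Agent.Fus.HallSym
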