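import Cfsg.Agent.Lib.Fus.HallSymPrim
import Cfsg.Agent.Lib.Fus.HallSymBinom

/-!
A primitive permutation group does not carry the whole `π`-part of `n!` for a set of primes
containing at least two, but not all, of the primes up to `n`.
-/

set_option autoImplicit false

namespace Cfsg.Agent.Fus.HallSym

open Equiv Finset MulAction

variable {α : Type*} [Fintype α] [DecidableEq α] {π : Set ℕ} {H : Subgroup (Perm α)}

/-- At least two, but not all, of the primes up to `n` lie in `π`. -/
def Proper (π : Set ℕ) (n : ℕ) : Prop :=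
  (∃ r s : ℕ, r.Prime ∧ s.Prime ∧ r ≠ s ∧ r ∈ π ∧ s ∈ π ∧ r ≤ n ∧ s ≤ n) ∧
    ∃ r : ℕ, r.Prime ∧ r ≤ n ∧ r ∉ π

theorem Proper.five_le {n : ℕ} (h : Proper π n) : 5 ≤ n := by
  obtain ⟨⟨r, s, hr, hs, hrs, hrπ, hsπ, hrn, hsn⟩, q, hq, hqn, hqπ⟩ := h
  have hqr : q ≠ r := fun e => hqπ (e ▸ hrπ)
  have hqs : q ≠ s := fun e => hqπ (e ▸ hsπ)
  have := hr.two_le
  have := hs.two_le
  have := hq.two_le
  by_contra hlt
  push Not at hlt
  have : r ≠ 4 := by rintro rfl; norm_num at hr
  have : s ≠ 4 := by rintro rfl; norm_num at hs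
  have : q ≠ 4 := by rintro rfl; norm_num at hq
  omega

theorem alt_dvd {p : ℕ} (hp : p.Prime) (hn : 4 ≤ Fintype.card α) (hpn : p ≤ Fintype.card α) :
    p ∣ Nat.card (alternatingGroup α) := by
  have : Nontrivial α := Fintype.one_lt_card_iff_nontrivial.1 (by omega)
  have h2 := two_mul_card_alternatingGroup (α := α)
  rw [Fintype.card_perm, ← Nat.card_eq_fintype_card] at h2
  rcases eq_or_ne p 2 with rfl | hp2
  · have h4 : 4 ∣ Nat.factorial (Fintype.card α) := Nat.dvd_factorial (by norm_num) hn
    omega
  · have h1 : p ∣ 2 * Nat.card (alternatingGroup α) := h2 ▸ Nat.dvd_factorial hp.pos hpn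
    exact (hp.dvd_mul.1 h1).resolve_left fun h =>
      hp2 ((Nat.prime_dvd_prime_iff_eq hp Nat.prime_two).1 h)

theorem not_alt_le (hH : Near π H) (hP : Proper π (Fintype.card α)) :
    ¬ alternatingGroup α ≤ H := by
  intro h
  obtain ⟨q, hq, hqn, hqπ⟩ := hP.2
  exact hqπ (hH.1 q hq ((alt_dvd hq (by have := hP.five_le; omega) hqn).trans
    (Subgroup.card_dvd_of_le h)))

theorem Near.full (hH : Near π H) {p : ℕ} (hp : p.Prime) (hpπ : p ∈ π)
    (h : ¬ (p = 2 ∧ H ≤ alternatingGroup α)) :
    p ^ (Nat.card (Perm α)).factorization p ∣ Nat.card H := by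
  have := hH.2 p hp hpπ
  rw [slack_eq_zero h, Nat.add_zero] at this
  rw [Nat.card_eq_fintype_card (α := Perm α), Fintype.card_perm]
  exact (hp.pow_dvd_iff_le_factorization Nat.card_pos.ne').2 this

theorem Near.dvd (hH : Near π H) {p : ℕ} (hp : p.Prime) (hpπ : p ∈ π)
    (hn : 4 ≤ Fintype.card α) (hpn : p ≤ Fintype.card α) : p ∣ Nat.card H := by
  have hν := hH.2 p hp hpπ
  by_cases h : p = 2 ∧ H ≤ alternatingGroup α
  · obtain ⟨rfl, hle⟩ := h
    rw [slack_pos hle] at hν
    have h4 : 2 ^ 2 ∣ Nat.factorial (Fintype.card α) := Nat.dvd_factorial (by norm_num) hn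
    have := (Nat.prime_two.pow_dvd_iff_le_factorization (Nat.factorial_ne_zero _)).1 h4
    exact Nat.dvd_of_factorization_pos (by omega)
  · rw [slack_eq_zero h] at hν
    have := (hp.factorization_pos_of_dvd (Nat.factorial_ne_zero _) (Nat.dvd_factorial hp.pos hpn))
    exact Nat.dvd_of_factorization_pos (by omega)

/-- No prime cycle of length `3` or at most `n - 3` lies in `π`. -/
theorem no_small_odd_prime (hprim : IsPreprimitive H α) (hH : Near π H)
    (hP : Proper π (Fintype.card α)) {r : ℕ} (hr : r.Prime) (hr2 : r ≠ 2)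
    (hle : r = 3 ∨ r + 3 ≤ Fintype.card α) (hrπ : r ∈ π) : False := by
  haveI := Fact.mk hr
  have h5 := hP.five_le
  obtain ⟨g, hg⟩ := (Perm.exists_with_cycleType_iff (α := α) (m := {r})).2
    ⟨by rw [Multiset.sum_singleton]; omega, fun a ha => by
      rw [Multiset.mem_singleton.1 ha]; exact hr.two_le⟩
  have hcyc : g.IsCycle := Perm.card_cycleType_eq_one.1 (by rw [hg]; rfl)
  have hsupp : g.support.card = r := by rw [← Perm.sum_cycleType, hg, Multiset.sum_singleton]
  obtain ⟨c, hc⟩ := Block.DegSeven.exists_conj_mem H (hH.full hr hrπ (fun h => hr2 h.1)) g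
    (IsPGroup.of_card (n := 1) (by rw [Nat.card_zpowers, hcyc.orderOf, hsupp, pow_one]))
  have hs' : (c * g * c⁻¹).support.card = r := Perm.card_support_conj.trans hsupp
  refine not_alt_le hH hP ?_
  rcases hle with rfl | hle
  · exact Perm.alternatingGroup_le_of_isPreprimitive_of_isThreeCycle_mem hprim
      (card_support_eq_three_iff.1 hs') hc
  · exact Cfsg.Agent.Transfer.JordanPrimeCycle.alternatingGroup_le_of_cycle hprim hr hle hcyc.conj hs' hc

/-- Some double transposition lies in `H`, and all elements of `H` are even. -/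
theorem double_swap_mem (hprim : IsPreprimitive H α) (hH : Near π H)
    (hP : Proper π (Fintype.card α)) (h2π : 2 ∈ π) :
    H ≤ alternatingGroup α ∧ ∃ a b c d : α, [a, b, c, d].Nodup ∧ swap a b * swap c d ∈ H := by
  classical
  have h5 := hP.five_le
  obtain ⟨φ⟩ : Nonempty (Fin 4 ↪ α) :=
    Function.Embedding.nonempty_of_card_le (by rw [Fintype.card_fin]; omega)
  obtain ⟨hab, hac, had, hbc, hbd, hcd⟩ : φ 0 ≠ φ 1 ∧ φ 0 ≠ φ 2 ∧ φ 0 ≠ φ 3 ∧ φ 1 ≠ φ 2 ∧
      φ 1 ≠ φ 3 ∧ φ 2 ≠ φ 3 := by
    simp only [ne_eq, φ.injective.eq_iff]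
    decide
  haveI : Fact (Nat.Prime 2) := ⟨Nat.prime_two⟩
  have heven : H ≤ alternatingGroup α := by
    by_contra h
    obtain ⟨c, hc⟩ := Block.DegSeven.exists_conj_mem H (hH.full Nat.prime_two h2π (fun e => h e.2))
      (swap (φ 0) (φ 1)) (IsPGroup.of_card (n := 1) (by
        rw [Nat.card_zpowers, pow_one]
        exact orderOf_eq_prime (by rw [sq]; exact swap_mul_self _ _) (by simp [swap_eq_one_iff, hab])))
    rw [← swap_apply_apply] at hc
    have htop := Perm.subgroup_eq_top_of_isPreprimitive_of_isSwap_mem hprim _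
      ⟨_, _, fun e => hab (c.injective e), rfl⟩ hc
    exact not_alt_le hH hP (htop ▸ le_top)
  refine ⟨heven, ?_⟩
  let s : alternatingGroup α := ⟨swap (φ 0) (φ 1) * swap (φ 2) (φ 3), by
    rw [Perm.mem_alternatingGroup, map_mul, Perm.sign_swap hab, Perm.sign_swap hcd]; rfl⟩
  have hcard : Nat.card (H.subgroupOf (alternatingGroup α)) = Nat.card H :=
    Nat.card_congr (Subgroup.subgroupOfEquivOfLe heven).toEquiv
  have hfull : 2 ^ (Nat.card (alternatingGroup α)).factorization 2 ∣
      Nat.card (H.subgroupOf (alternatingGroup α)) := by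
    have : Nontrivial α := Fintype.one_lt_card_iff_nontrivial.1 (by omega)
    have h := two_mul_card_alternatingGroup (α := α)
    rw [Fintype.card_perm, ← Nat.card_eq_fintype_card] at h
    have hν := hH.2 2 Nat.prime_two h2π
    rw [slack_pos heven, ← h, Nat.factorization_mul two_ne_zero Nat.card_pos.ne', Finsupp.add_apply,
      Nat.prime_two.factorization_self] at hν
    rw [hcard]
    exact (Nat.prime_two.pow_dvd_iff_le_factorization Nat.card_pos.ne').2 (by omega)
  have hs1 : s ≠ 1 := by
    intro e
    have := congrArg (fun v : alternatingGroup α => (v : Perm α) (φ 0)) e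
    simp [s, swap_apply_of_ne_of_ne, hac, had, hab.symm] at this
  obtain ⟨c, hc⟩ := Block.DegSeven.exists_conj_mem _ hfull s (IsPGroup.of_card (n := 1) (by
    rw [Nat.card_zpowers, pow_one]
    refine orderOf_eq_prime ?_ hs1
    rw [sq]
    apply Subtype.ext
    have hcomm : Commute (swap (φ 0) (φ 1)) (swap (φ 2) (φ 3)) :=
      Perm.Disjoint.commute (by
        intro x
        by_cases h0 : x = φ 0
        · right; subst h0; exact swap_apply_of_ne_of_ne hac had
        by_cases h1 : x = φ 1
        · right; subst h1; exact swap_apply_of_ne_of_ne hbc hbd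
        left; exact swap_apply_of_ne_of_ne h0 h1)
    show swap (φ 0) (φ 1) * swap (φ 2) (φ 3) * (swap (φ 0) (φ 1) * swap (φ 2) (φ 3)) = 1
    rw [hcomm.symm.mul_mul_mul_comm, swap_mul_self, swap_mul_self, mul_one]))
  rw [Subgroup.mem_subgroupOf] at hc
  refine ⟨(c : Perm α) (φ 0), (c : Perm α) (φ 1), (c : Perm α) (φ 2), (c : Perm α) (φ 3), ?_, ?_⟩
  · simp [hab, hac, had, hbc, hbd, hcd]
  · rw [← conj_double_swap]
    simpa [s] using hc

/-- Counting the meetings of a quadruple with its images: a doubly transitive group with a double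
transposition on at least eleven points contains the alternating group. -/
theorem alt_le_of_two_transitive (hn : 11 ≤ Fintype.card α) (hprim : IsPreprimitive H α)
    (h2 : ∀ x y u v : α, x ≠ y → u ≠ v → ∃ g : H, g • x = u ∧ g • y = v)
    {a b c d : α} (hnd : [a, b, c, d].Nodup) (hs : swap a b * swap c d ∈ H) :
    alternatingGroup α ≤ H := by
  classical
  obtain ⟨Δ, hΔ⟩ : ∃ Δ : Finset α, Δ = {a, b, c, d} := ⟨_, rfl⟩
  have hΔ4 : Δ.card = 4 := by
    have := List.toFinset_card_of_nodup hnd
    rw [hΔ, ← show [a, b, c, d].toFinset = {a, b, c, d} from by simp]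
    exact this
  by_cases hX : ∃ g : H, (Δ.filter (fun x => g • x ∈ Δ)).card = 1 ∨
      (Δ.filter (fun x => g • x ∈ Δ)).card = 3
  · obtain ⟨g, hg⟩ := hX
    refine cycle_of_meet (by omega) hprim hnd hs g.2 ?_
    rw [← hΔ]
    have : Δ.image (g : Perm α) ∩ Δ = (Δ.filter (fun x => g • x ∈ Δ)).image (g : Perm α) := by
      ext x
      simp only [mem_inter, mem_image, mem_filter, Subgroup.smul_def, Perm.smul_def]
      constructor
      · rintro ⟨⟨y, hy, rfl⟩, h⟩; exact ⟨y, ⟨hy, h⟩, rfl⟩
      · rintro ⟨y, ⟨hy, h⟩, rfl⟩; exact ⟨⟨y, hy, rfl⟩, h⟩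
    rwa [this, card_image_of_injective _ (g : Perm α).injective]
  · push Not at hX
    exfalso
    have hne : Nontrivial α := Fintype.one_lt_card_iff_nontrivial.1 (by omega)
    have hA := double_count (G := H) Δ univ (subset_univ _) (fun _ _ _ => mem_univ _)
      (fun x _ u _ => by
        obtain ⟨y, hy⟩ := exists_ne x
        obtain ⟨v, hv⟩ := exists_ne u
        obtain ⟨g, hg, -⟩ := h2 x y u v hy.symm hv.symm
        exact ⟨g, hg⟩)
    have hB := double_count (G := H) Δ.offDiag (univ : Finset α).offDiag
      (offDiag_mono (subset_univ _))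
      (fun p hp g => by
        rw [mem_offDiag] at hp ⊢
        exact ⟨mem_univ _, mem_univ _, fun e => hp.2.2 (smul_left_cancel g e)⟩)
      (fun p hp u hu => by
        rw [mem_offDiag] at hp hu
        obtain ⟨g, h1, h2⟩ := h2 p.1 p.2 u.1 u.2 hp.2.2 hu.2.2
        exact ⟨g, Prod.ext h1 h2⟩)
    have hfil : ∀ g : H, Δ.offDiag.filter (fun p => g • p ∈ Δ.offDiag) =
        (Δ.filter (fun x => g • x ∈ Δ)).offDiag := by
      intro g
      ext ⟨x, y⟩
      simp only [mem_filter, mem_offDiag, Prod.smul_mk, ne_eq, smul_left_cancel_iff]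
      tauto
    simp only [hfil, offDiag_card, hΔ4, card_univ] at hA hB
    have hle : ∀ g : H, (Δ.filter (fun x => g • x ∈ Δ)).card ≤
        (Δ.filter (fun x => g • x ∈ Δ)).card * (Δ.filter (fun x => g • x ∈ Δ)).card -
          (Δ.filter (fun x => g • x ∈ Δ)).card := fun g => by
      have h4 : (Δ.filter (fun x => g • x ∈ Δ)).card ≤ 4 := hΔ4 ▸ card_filter_le _ _
      obtain ⟨h1, h3⟩ := hX g
      interval_cases (Δ.filter (fun x => g • x ∈ Δ)).card <;> omega
    have hs' := sum_le_sum (fun g (_ : g ∈ (univ : Finset H)) => hle g)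
    have hpos : 0 < Fintype.card H := Fintype.card_pos
    obtain ⟨m, hm⟩ : ∃ m, Fintype.card α = m + 1 := ⟨Fintype.card α - 1, by omega⟩
    have e : (m + 1) * (m + 1) - (m + 1) = (m + 1) * m := by
      rw [Nat.mul_succ, Nat.add_sub_cancel]
    rw [hm] at hA hB
    rw [e] at hB
    have := Nat.mul_le_mul_right ((m + 1) * m) hs'
    nlinarith

/-- In a soluble transitive group of prime degree only the identity fixes two points. -/
theorem fix_two_eq_one (hp : (Fintype.card α).Prime) [IsPretransitive H α]
    (hsol : Group.IsSolvable H) {g : H} {e f : α} (hef : e ≠ f) (he : g • e = e) (hf : g • f = f) :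
    g = 1 := by
  classical
  haveI : IsPreprimitive H α := IsPreprimitive.of_prime_card (by rwa [Nat.card_eq_fintype_card])
  by_contra hg
  have hex : ∃ k, derivedSeries H k = ⊥ := hsol.solvable
  obtain ⟨k, hk⟩ : ∃ k, Nat.find hex = k + 1 := Nat.exists_eq_succ_of_ne_zero fun h0 => by
    have h := Nat.find_spec hex
    rw [h0, derivedSeries_zero] at h
    exact hg (Subgroup.mem_bot.1 (h ▸ Subgroup.mem_top g))
  have hN0 : derivedSeries H k ≠ ⊥ := fun h => by
    have := Nat.find_min' hex h
    omega
  have hab : ∀ u ∈ derivedSeries H k, ∀ v ∈ derivedSeries H k, u * v = v * u := by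
    intro u hu v hv
    have h := Nat.find_spec hex
    rw [hk, derivedSeries_succ] at h
    exact commutatorElement_eq_one_iff_mul_comm.1
      (Subgroup.mem_bot.1 (h ▸ Subgroup.commutator_mem_commutator hu hv))
  haveI := derivedSeries_normal (G := H) k
  have hN := Block.transitive_of_normal (α := α) hN0
  haveI := hN
  obtain ⟨⟨u, hu⟩, hue⟩ := exists_smul_eq (derivedSeries H k) e f
  have hue : u • e = f := hue
  have hconj : g * u * g⁻¹ = u := by
    have hm : g * u * g⁻¹ ∈ derivedSeries H k := ‹(derivedSeries H k).Normal›.conj_mem u hu g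
    have : u⁻¹ * (g * u * g⁻¹) = 1 := by
      refine Block.eq_one_of_commute_transitive hN (a := e)
        (fun m hm' => hab _ (mul_mem (inv_mem hu) hm) _ hm') ?_
      rw [mul_smul, mul_smul, mul_smul, inv_smul_eq_iff.2 he.symm, hue, hf, inv_smul_eq_iff, hue]
    exact (inv_mul_eq_one.1 this).symm
  have hreg : Function.Bijective (fun m : derivedSeries H k => m • e) := by
    refine ⟨fun m m' h => ?_, fun x => exists_smul_eq _ e x⟩
    have h' : ((m' : H)⁻¹ * m) • e = e := by
      rw [mul_smul, inv_smul_eq_iff]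
      exact h
    have := Block.eq_one_of_commute_transitive hN
      (fun v hv => hab _ (mul_mem (inv_mem m'.2) m.2) _ hv) h'
    exact Subtype.ext (inv_mul_eq_one.1 this).symm
  have hcN : Nat.card (derivedSeries H k) = Fintype.card α := by
    rw [Nat.card_eq_of_bijective _ hreg, Nat.card_eq_fintype_card]
  haveI := Fact.mk hp
  have hu1 : (⟨u, hu⟩ : derivedSeries H k) ≠ 1 := fun h =>
    hef (by rw [← hue, show u = 1 from congrArg Subtype.val h, one_smul])
  refine hg (Block.eq_one_of_commute_transitive hN (a := e) (fun m hm => ?_) he)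
  have hgen := mem_zpowers_of_prime_card hcN (g' := (⟨m, hm⟩ : derivedSeries H k)) hu1
  obtain ⟨i, hi⟩ := Subgroup.mem_zpowers_iff.1 hgen
  rw [show m = u ^ i from (congrArg Subtype.val hi).symm.trans (by simp)]
  have hc : Commute g u := by
    show g * u = u * g
    calc g * u = g * u * g⁻¹ * g := by group
      _ = u * g := by rw [hconj]
  exact hc.zpow_right i

set_option maxHeartbeats 2000000 in
/-- A primitive group is never nearly a Hall subgroup for a proper set of primes. -/
theorem not_isPreprimitive (hH : Near π H) (hP : Proper π (Fintype.card α)) :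
    ¬ IsPreprimitive H α := by
  classical
  intro hprim
  have h5 := hP.five_le
  obtain ⟨n, hn⟩ : ∃ n, n = Fintype.card α := ⟨_, rfl⟩
  have hodd : ∀ r : ℕ, r.Prime → r ≠ 2 → r ∈ π → n ≤ r + 2 ∧ r ≠ 3 := fun r hr hr2 hrπ =>
    ⟨by
      by_contra hlt
      exact no_small_odd_prime hprim hH hP hr hr2 (Or.inr (by omega)) hrπ,
    fun h3 => no_small_odd_prime hprim hH hP hr hr2 (Or.inl h3) hrπ⟩
  obtain ⟨a₀⟩ : Nonempty α := Fintype.card_pos_iff.1 (by omega)
  have hndvd : n ∣ Nat.card H := by
    rw [hn, ← Nat.card_eq_fintype_card, ← index_stabilizer_of_transitive H a₀]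
    exact Subgroup.index_dvd_card _
  have hdivπ : ∀ p : ℕ, p.Prime → p ∣ n → p ∈ π := fun p hp hd => hH.1 p hp (hd.trans hndvd)
  have h3π : 3 ∉ π := fun h => (hodd 3 Nat.prime_three (by norm_num) h).2 rfl
  have h3H : ¬ 3 ∣ Nat.card H := fun h => h3π (hH.1 3 Nat.prime_three h)
  have hstruct : n.Prime ∨ ∃ k, n = 2 ^ k := by
    by_contra hcon
    rw [not_or] at hcon
    obtain ⟨hnp, h2k⟩ := hcon
    obtain ⟨k, m, hmodd, hkm⟩ := Nat.exists_eq_two_pow_mul_odd (show n ≠ 0 by omega)
    rcases eq_or_ne m 1 with rfl | hm1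
    · exact h2k ⟨k, by omega⟩
    obtain ⟨p, hp, hpm⟩ := Nat.exists_prime_and_dvd hm1
    have hpn : p ∣ n := hkm ▸ hpm.mul_left _
    have hp2 : p ≠ 2 := fun e => by
      subst e
      exact Nat.not_even_iff_odd.2 hmodd (even_iff_two_dvd.2 hpm)
    have := two_mul_le_of_composite (by omega) hnp hp hpn
    have := (hodd p hp hp2 (hdivπ p hp hpn)).1
    have := hp.two_le
    have := (hodd p hp hp2 (hdivπ p hp hpn)).2
    omega
  obtain ⟨⟨r, s, hr, hs, hrs, hrπ, hsπ, hrn, hsn⟩, -⟩ := hP.1, hP.2
  -- an odd prime of π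
  obtain ⟨q, hq, hq2, hqπ, hqn⟩ : ∃ q : ℕ, q.Prime ∧ q ≠ 2 ∧ q ∈ π ∧ q ≤ n := by
    rcases eq_or_ne r 2 with h | h
    · exact ⟨s, hs, fun e => hrs (h.trans e.symm), hsπ, hn ▸ hsn⟩
    · exact ⟨r, hr, h, hrπ, hn ▸ hrn⟩
  by_cases h2π : 2 ∈ π
  · obtain ⟨heven, a, b, c, d, hnd, hs'⟩ := double_swap_mem hprim hH hP h2π
    have h2ν := hH.2 2 Nat.prime_two h2π
    rw [slack_pos heven, ← hn] at h2ν
    rcases hstruct with hnp | ⟨k, hk⟩
    · have hnπ := hdivπ n hnp dvd_rfl
      rcases Nat.lt_or_ge n 11 with hsmall | hbig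
      · have h57 : n = 5 ∨ n = 7 := by
          interval_cases n <;> first | omega | norm_num at hnp
        have hAH := Subgroup.card_dvd_of_le heven
        have hA : 2 * Nat.card (alternatingGroup α) = Nat.factorial n := by
          have : Nontrivial α := Fintype.one_lt_card_iff_nontrivial.1 (by omega)
          rw [hn, Nat.card_eq_fintype_card, two_mul_card_alternatingGroup, Fintype.card_perm]
        have hpow : ∀ j, j ≤ (Nat.factorial n).factorization 2 - 1 → 2 ^ j ∣ Nat.card H :=
          fun j hj => (Nat.prime_two.pow_dvd_iff_le_factorization Nat.card_pos.ne').2 (by omega)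
        rcases h57 with rfl | rfl
        · have h4 : 2 ^ 2 ∣ Nat.card H := hpow 2 (by
            have := (Nat.prime_two.pow_dvd_iff_le_factorization (Nat.factorial_ne_zero 5)).1
              (show 2 ^ 3 ∣ Nat.factorial 5 by decide)
            omega)
          rw [show Nat.factorial 5 = 120 from rfl] at hA
          rw [show Nat.card (alternatingGroup α) = 60 by omega] at hAH
          have h20 : Nat.card H = 20 := by
            obtain ⟨j, hj⟩ : 20 ∣ Nat.card H :=
              Nat.Coprime.mul_dvd_of_dvd_of_dvd (by norm_num : Nat.Coprime 4 5) (by simpa using h4) hndvd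
            rw [hj] at hAH h3H ⊢
            have : j ≤ 3 := by have := Nat.le_of_dvd (by norm_num) hAH; omega
            interval_cases j <;> norm_num at *
          haveI := alternatingGroup.isSimpleGroup (α := α) (by rw [Nat.card_eq_fintype_card]; omega)
          obtain ⟨K, hK⟩ : ∃ K, K = H.subgroupOf (alternatingGroup α) := ⟨_, rfl⟩
          have hKc : Nat.card K = 20 := by
            rw [hK, Nat.card_congr (Subgroup.subgroupOfEquivOfLe heven).toEquiv, h20]
          have hi : K.index = 3 := by
            have := K.card_mul_index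
            rw [hKc, show Nat.card (alternatingGroup α) = 60 by omega] at this
            omega
          have hdvd : K.normalCore.index ∣ 6 := by
            rw [K.normalCore_eq_ker, Subgroup.index_ker]
            refine (Subgroup.card_subgroup_dvd_card _).trans ?_
            rw [Nat.card_perm, ← Subgroup.index_eq_card, hi]
            rfl
          rcases K.normalCore_normal.eq_bot_or_eq_top with h | h
          · rw [h, Subgroup.index_bot, show Nat.card (alternatingGroup α) = 60 by omega] at hdvd
            norm_num at hdvd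
          · have h1 := Subgroup.index_dvd_of_le K.normalCore_le
            rw [h, Subgroup.index_top, hi] at h1
            norm_num at h1
        · have h8 : 2 ^ 3 ∣ Nat.card H := hpow 3 (by
            have := (Nat.prime_two.pow_dvd_iff_le_factorization (Nat.factorial_ne_zero 7)).1
              (show 2 ^ 4 ∣ Nat.factorial 7 by decide)
            omega)
          rw [show Nat.factorial 7 = 5040 from rfl] at hA
          rw [show Nat.card (alternatingGroup α) = 2520 by omega] at hAH
          obtain ⟨j, hj⟩ : 56 ∣ Nat.card H :=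
            Nat.Coprime.mul_dvd_of_dvd_of_dvd (by norm_num : Nat.Coprime 8 7) (by simpa using h8) hndvd
          refine no_order_56 hn.symm H ?_
          rw [hj] at hAH h3H ⊢
          have : j ≤ 45 := by have := Nat.le_of_dvd (by norm_num) hAH; omega
          interval_cases j <;> norm_num at *
      · rcases Cfsg.Agent.S0675.result (hn ▸ hnp) H with hsol | htwo
        · obtain ⟨e, he, f, hf, hef⟩ := one_lt_card.1 (show 1 < ({a, b, c, d} : Finset α)ᶜ.card by
            rw [card_compl]
            have : ({a, b, c, d} : Finset α).card ≤ 4 := by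
              simpa using List.toFinset_card_le [a, b, c, d]
            omega)
          simp only [mem_compl, mem_insert, mem_singleton, not_or] at he hf
          have hfix : ∀ z, z ≠ a ∧ z ≠ b ∧ z ≠ c ∧ z ≠ d → (swap a b * swap c d) z = z :=
            fun z hz => by
              rw [Perm.mul_apply, swap_apply_of_ne_of_ne hz.2.2.1 hz.2.2.2,
                swap_apply_of_ne_of_ne hz.1 hz.2.1]
          have h1 := fix_two_eq_one (hn ▸ hnp) hsol (g := ⟨_, hs'⟩) hef (hfix e he) (hfix f hf)
          have := congrArg (fun v : H => (v : Perm α) a) h1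
          simp only [List.nodup_cons, List.mem_cons, List.not_mem_nil, or_false, not_or] at hnd
          simp [swap_apply_of_ne_of_ne, hnd.1.2.1, hnd.1.2.2, Ne.symm hnd.1.1] at this
        · exact not_alt_le hH hP (alt_le_of_two_transitive (by omega) hprim
            (fun x y u v hxy huv => (is_two_pretransitive_iff.1 htwo) hxy huv) hnd hs')
    · have hqn1 : q + 1 = n := by
        have := (hodd q hq hq2 hqπ).1
        have hqo := hq.eq_two_or_odd
        have hk1 : 1 ≤ k := Nat.one_le_iff_ne_zero.2 (by rintro rfl; simp at hk; omega)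
        have h2n : 2 ∣ n := hk ▸ dvd_pow_self 2 (by omega)
        omega
      haveI := Fact.mk hq
      obtain ⟨t, ht⟩ := exists_prime_orderOf_dvd_card' (G := H) q (hH.dvd hq hqπ (by omega) (by omega))
      have hto : orderOf ((t : H) : Perm α) = q := by rw [Subgroup.orderOf_coe, ht]
      have hcyc : ((t : H) : Perm α).IsCycle :=
        Perm.isCycle_of_prime_order' (by rw [hto]; exact hq) (by rw [hto]; omega)
      obtain ⟨y, hy⟩ := card_eq_one.1 (show ((t : H) : Perm α).supportᶜ.card = 1 by
        rw [card_compl, ← hcyc.orderOf, hto]; omega)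
      have hty : ∀ x, x ≠ y → ((t : H) : Perm α) x ≠ x := fun x hx =>
        Perm.mem_support.1 (by
          by_contra h
          exact hx (mem_singleton.1 (hy ▸ mem_compl.2 h)))
      have htfix : ((t : H) : Perm α) y = y :=
        Perm.notMem_support.1 (mem_compl.1 (hy ▸ mem_singleton_self y))
      rcases Nat.lt_or_ge n 11 with hsmall | hbig
      · have hn8 : n = 8 := by
          have hk3 : k ≤ 3 := by
            by_contra h
            have := Nat.pow_le_pow_right (show 0 < 2 by norm_num) (show 4 ≤ k by omega)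
            omega
          interval_cases k <;> simp at hk <;> omega
        subst hn8
        obtain rfl : q = 7 := by omega
        have h5π : 5 ∉ π := fun h => by
          have := (hodd 5 Nat.prime_five (by norm_num) h).1
          omega
        have hAH := Subgroup.card_dvd_of_le heven
        have hA : 2 * Nat.card (alternatingGroup α) = 40320 := by
          have : Nontrivial α := Fintype.one_lt_card_iff_nontrivial.1 (by omega)
          rw [Nat.card_eq_fintype_card, two_mul_card_alternatingGroup, Fintype.card_perm, ← hn]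
          rfl
        rw [show Nat.card (alternatingGroup α) = 20160 by omega] at hAH
        have h64 : 2 ^ 6 ∣ Nat.card H := by
          refine (Nat.prime_two.pow_dvd_iff_le_factorization Nat.card_pos.ne').2 ?_
          have := (Nat.prime_two.pow_dvd_iff_le_factorization (Nat.factorial_ne_zero 8)).1
              (show 2 ^ 7 ∣ Nat.factorial 8 by decide)
          omega
        have h448 : Nat.card H = 448 := by
          obtain ⟨j, hj⟩ : 448 ∣ Nat.card H :=
            Nat.Coprime.mul_dvd_of_dvd_of_dvd (by norm_num : Nat.Coprime 64 7) (by simpa using h64)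
              (hH.dvd hq hqπ (by omega) (by omega))
          have h5H : ¬ 5 ∣ Nat.card H := fun h => h5π (hH.1 5 Nat.prime_five h)
          rw [hj] at hAH h3H h5H ⊢
          have : j ≤ 45 := by have := Nat.le_of_dvd (by norm_num) hAH; omega
          interval_cases j <;> norm_num at *
        have hstab : Nat.card (stabilizer H y) = 56 := by
          have h := (stabilizer H y).index_mul_card
          rw [index_stabilizer_of_transitive H y, Nat.card_eq_fintype_card (α := α), ← hn, h448] at h
          omega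
        have hiff : ∀ (g : stabilizer H y) (x : α), ((g : H) : Perm α) x ≠ y ↔ x ≠ y := fun g x => by
          have hgy : ((g : H) : Perm α) y = y := g.2
          exact ⟨fun h e => h (e ▸ hgy), fun h e => h (((g : H) : Perm α).injective (e.trans hgy.symm))⟩
        let res : stabilizer H y →* Perm {x : α // x ≠ y} :=
          { toFun := fun g => ((g : H) : Perm α).subtypePerm (hiff g)
            map_one' := Equiv.ext fun _ => rfl
            map_mul' := fun _ _ => Equiv.ext fun _ => rfl }
        have hinj : Function.Injective res := fun g g' h => by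
          refine Subtype.ext (Subtype.ext (Equiv.ext fun x => ?_))
          by_cases hx : x = y
          · subst hx; exact g.2.trans g'.2.symm
          · exact congrArg Subtype.val (Equiv.congr_fun h ⟨x, hx⟩)
        refine no_order_56 ?_ res.range (Or.inl ?_)
        · rw [Fintype.card_subtype_compl, Fintype.card_subtype_eq, ← hn]
        · rw [← Nat.card_congr (MonoidHom.ofInjective hinj).toEquiv, hstab]
      · refine not_alt_le hH hP (alt_le_of_two_transitive (by omega) hprim ?_ hnd hs')
        intro x z u v hxz huv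
        obtain ⟨g1, hg1⟩ := exists_smul_eq H x y
        obtain ⟨g2, hg2⟩ := exists_smul_eq H u y
        have hz : g1 • z ≠ y := fun e => hxz (smul_left_cancel g1 (hg1.trans e.symm))
        have hv : g2 • v ≠ y := fun e => huv (smul_left_cancel g2 (hg2.trans e.symm))
        obtain ⟨i, hi⟩ := hcyc.sameCycle (hty _ hz) (hty _ hv)
        refine ⟨g2⁻¹ * t ^ i * g1, ?_, ?_⟩
        · rw [mul_smul, mul_smul, hg1, inv_smul_eq_iff, hg2]
          exact Perm.zpow_apply_eq_self_of_apply_eq_self htfix i
        · rw [mul_smul, mul_smul, inv_smul_eq_iff]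
          exact hi
  · -- only the primes `n - 2` and `n`
    have hnp : n.Prime := hstruct.resolve_right fun ⟨k, hk⟩ => by
      have hk1 : 1 ≤ k := Nat.one_le_iff_ne_zero.2 (by rintro rfl; simp at hk; omega)
      exact h2π (hdivπ 2 Nat.prime_two (hk ▸ dvd_pow_self 2 (by omega)))
    obtain ⟨p, hp, hpn, hpπ, hpne⟩ : ∃ p : ℕ, p.Prime ∧ p ≤ n ∧ p ∈ π ∧ p ≠ n := by
      rcases eq_or_ne r n with h | h
      · exact ⟨s, hs, hn ▸ hsn, hsπ, fun e => hrs (h.trans e.symm)⟩
      · exact ⟨r, hr, hn ▸ hrn, hrπ, h⟩
    have hp2 : p ≠ 2 := fun e => h2π (e ▸ hpπ)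
    have hpn2 : p + 2 = n := by
      have := (hodd p hp hp2 hpπ).1
      have := hp.eq_two_or_odd
      have := hnp.eq_two_or_odd
      omega
    haveI := Fact.mk hnp
    haveI := Fact.mk hp
    obtain ⟨P⟩ : Nonempty (Sylow n H) := inferInstance
    obtain ⟨N, hNdef⟩ : ∃ N, N = Nat.card (Subgroup.normalizer ((P : Subgroup H) : Set H)) := ⟨_, rfl⟩
    obtain ⟨m, hm⟩ : ∃ m, m = Nat.card (Sylow n H) := ⟨_, rfl⟩
    have hN : N ∣ n * (n - 1) := hNdef ▸ Block.primeDeg_card_normalizer_dvd hn.symm H P
    have hmN : m * N = Nat.card H := by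
      rw [hm, hNdef, P.card_eq_index_normalizer]
      exact Subgroup.index_mul_card _
    have hmod : m ≡ 1 [MOD n] := hm ▸ card_sylow_modEq_one n H
    have hpH : p ∣ m * N := hmN ▸ hH.dvd hp hpπ (by omega) (by omega)
    have hpN : ¬ p ∣ N := fun h => by
      rcases hp.dvd_mul.1 (h.trans hN) with h1 | h1
      · exact hpne ((Nat.prime_dvd_prime_iff_eq hp hnp).1 h1)
      · have h2 : p ∣ (n - 1) - p := Nat.dvd_sub h1 dvd_rfl
        rw [show (n - 1) - p = 1 by omega] at h2
        exact hp.one_lt.ne' (Nat.dvd_one.1 h2)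
    obtain ⟨u, hu⟩ := (hp.dvd_mul.1 hpH).resolve_right hpN
    -- `m` is a power of `p` of exponent one
    have hu1 : u = 1 := by
      by_contra hu1
      obtain ⟨l, hl, hlu⟩ := Nat.exists_prime_and_dvd hu1
      have hlH : l ∣ Nat.card H := hmN ▸ (hlu.trans ⟨p, by rw [hu, mul_comm]⟩).mul_right _
      have hln : l ≤ n := by
        have := (hlH.trans (card_perm_dvd H))
        exact hn ▸ (hl.dvd_factorial).1 this
      have hlπ := hH.1 l hl hlH
      have hl2 : l ≠ 2 := fun e => h2π (e ▸ hlπ)
      have hcases : l = p ∨ l = n := by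
        have := (hodd l hl hl2 hlπ).1
        have := hl.eq_two_or_odd
        have := hnp.eq_two_or_odd
        omega
      rcases hcases with rfl | rfl
      · have hsq : l * l ∣ Nat.factorial n :=
          ((mul_dvd_mul_left l hlu).trans ⟨N, by rw [← hu]⟩).trans ((dvd_of_eq hmN).trans (hn ▸ card_perm_dvd H))
        rw [← hpn2, Nat.factorial_succ, Nat.factorial_succ, ← Nat.mul_factorial_pred hl.ne_zero,
          show (l + 1 + 1) * ((l + 1) * (l * (l - 1).factorial)) =
            l * ((l + 1 + 1) * (l + 1) * (l - 1).factorial) by ring] at hsq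
        rcases hl.dvd_mul.1 (Nat.dvd_of_mul_dvd_mul_left hl.pos hsq) with h | h
        · rcases hl.dvd_mul.1 h with h | h
          · rw [add_assoc, Nat.dvd_add_right (dvd_refl l)] at h
            exact hl2 ((Nat.prime_dvd_prime_iff_eq hl Nat.prime_two).1 h)
          · rw [Nat.dvd_add_right (dvd_refl l)] at h
            exact hl.one_lt.ne' (Nat.dvd_one.1 h)
        · have := hl.dvd_factorial.1 h
          omega
      · have hd : l ∣ m := by rw [hu]; exact hlu.mul_left _
        rw [Nat.ModEq, Nat.mod_eq_zero_of_dvd hd, Nat.one_mod_eq_one.2 hl.ne_one] at hmod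
        exact absurd hmod zero_ne_one
    rw [hu1, mul_one] at hu
    rw [hu, Nat.ModEq, Nat.mod_eq_of_lt (by omega), Nat.mod_eq_of_lt (by omega)] at hmod
    exact hp.one_lt.ne' hmod

end Cfsg.Agent.Fus.HallSym
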