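/-
`Sym(4k+4)` inside `O^ε_{4k+2}(2)` via half the weight on the heart of the permutation module.
-/
import Mathlib
import Cfsg.Prelude.Def_Classical
import Cfsg.Agent.Lib.Classical.BinaryHeart
import Cfsg.Agent.Lib.Classical.ArfBinary
import Cfsg.Agent.Lib.Fus.OmegaRankOne

set_option autoImplicit false
set_option linter.unusedSimpArgs false

namespace Cfsg.Agent.Fus.HeartOrth

open Cfsg.Agent.Classical

local notation "Z" => ZMod 2

variable {m : ℕ}

/-- The weight of a vector. -/
def wt (x : Heart.Wd m) : ℕ := ∑ k, (x k).val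

/-- Half the weight, modulo two. -/
def hw (x : Heart.Wd m) : Z := ((wt x / 2 : ℕ) : Z)

theorem wt_cast (x : Heart.Wd m) : ((wt x : ℕ) : Z) = Heart.dot Heart.onesV x := by
  simp [wt, Heart.dot, Heart.onesV]

theorem two_dvd_wt {x : Heart.Wd m} (h : Heart.dot Heart.onesV x = 0) : 2 ∣ wt x :=
  (ZMod.natCast_eq_zero_iff _ _).1 (by rw [wt_cast, h])

theorem hw_add {x y : Heart.Wd m} (hx : Heart.dot Heart.onesV x = 0) (hy : Heart.dot Heart.onesV y = 0) :
    hw (x + y) = hw x + hw y + Heart.dot x y := by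
  have h : wt (x + y) + 2 * wt (x * y) = wt x + wt y := by
    simp only [wt, Finset.mul_sum, ← Finset.sum_add_distrib]
    exact Finset.sum_congr rfl fun k _ =>
      (show ∀ a b : Z, (a + b).val + 2 * (a * b).val = a.val + b.val by decide) _ _
  have hd : ((wt (x * y) : ℕ) : Z) = Heart.dot x y := by simp [wt, Heart.dot]
  obtain ⟨a, ha⟩ := two_dvd_wt hx
  obtain ⟨b, hb⟩ := two_dvd_wt hy
  have hab : wt (x + y) = 2 * (a + b - wt (x * y)) := by omega
  have hle : wt (x * y) ≤ a + b := by omega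
  unfold hw
  rw [hab, ha, hb, Nat.mul_div_cancel_left _ two_pos, Nat.mul_div_cancel_left _ two_pos,
    Nat.mul_div_cancel_left _ two_pos, Nat.cast_sub hle, hd, Nat.cast_add, CharTwo.sub_eq_add]

theorem wt_ones : wt (Heart.onesV (m := m)) = 2 * (m + 1) := by
  simp [wt, Heart.onesV, ZMod.val_one]

theorem hw_ones (hodd : Odd m) : hw (Heart.onesV (m := m)) = 0 := by
  rw [hw, wt_ones, Nat.mul_div_cancel_left _ two_pos]
  exact Heart.even_cast hodd.add_one

theorem dot_ones_ones : Heart.dot (Heart.onesV (m := m)) Heart.onesV = 0 := by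
  rw [← wt_cast, wt_ones]
  exact Heart.even_cast ⟨m + 1, two_mul _⟩

theorem hw_add_ones (hodd : Odd m) {x : Heart.Wd m} (hx : Heart.dot Heart.onesV x = 0) :
    hw (x + Heart.onesV) = hw x := by
  rw [hw_add hx dot_ones_ones, hw_ones hodd, Heart.dot_comm, hx, add_zero, add_zero]

theorem hw_act (hodd : Odd m) (σ : Equiv.Perm (Fin (2 * (m + 1)))) (u : Heart.Vs m) :
    hw (Heart.lift (Heart.act σ u)) = hw (Heart.lift u) := by
  have hperm : hw (Heart.permW σ (Heart.lift u)) = hw (Heart.lift u) :=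
    congrArg (fun n : ℕ => ((n / 2 : ℕ) : Z))
      (Equiv.sum_comp σ.symm fun k => (Heart.lift u k).val)
  obtain ⟨c, hc⟩ := Heart.lift_proj (Heart.perm_even σ u)
  show hw (Heart.lift (Heart.proj (Heart.permW σ (Heart.lift u)))) = _
  rw [hc]
  rcases (show ∀ c : Z, c = 0 ∨ c = 1 by decide) c with rfl | rfl
  · rw [zero_smul, add_zero, hperm]
  · rw [one_smul, hw_add_ones hodd (Heart.perm_even σ u), hperm]

theorem wt_interval (a b : ℕ) (hb : b < 2 * (m + 1)) (hab : a ≤ b) :
    wt (fun k : Fin (2 * (m + 1)) => if a ≤ k.val ∧ k.val ≤ b then (1 : Z) else 0) = b + 1 - a := by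
  have e : ∀ k : Fin (2 * (m + 1)), (if a ≤ k.val ∧ k.val ≤ b then (1 : Z) else 0).val =
      if k ∈ Finset.Icc (⟨a, by omega⟩ : Fin (2 * (m + 1))) ⟨b, hb⟩ then 1 else 0 := fun k => by
    simp only [Finset.mem_Icc, Fin.le_def]
    split_ifs <;> simp [ZMod.val_one]
  unfold wt
  rw [Finset.sum_congr rfl fun k _ => e k, ← Finset.card_filter, Finset.filter_mem_eq_inter,
    Finset.univ_inter, Fin.card_Icc]

/-- The vector of the translate. -/
def wv (m : ℕ) : ArfBinary.V m := Sum.elim (fun i => ((m - i.val : ℕ) : Z)) fun _ => 1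

theorem hw_lift_eq (v : ArfBinary.V m) : hw (Heart.lift v) = ArfBinary.form m (wv m) v := by
  have hq : ∀ u v : ArfBinary.V m, hw (Heart.lift (u + v)) =
      hw (Heart.lift u) + hw (Heart.lift v) + ArfBinary.polarFn m u v := fun u v => by
    rw [map_add, hw_add (Heart.lift_even u) (Heart.lift_even v), Heart.dot_lifts]
    congr 1
    simp only [ArfBinary.polarFn, quadFormPlus, Pi.add_apply, ← Finset.sum_sub_distrib]
    exact Finset.sum_congr rfl fun i _ => by ring
  obtain ⟨w, hw'⟩ := ArfBinary.exists_form (fun v => hw (Heart.lift v)) hq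
  have hl : ∀ i, hw (Heart.lift (Pi.single (Sum.inl i) 1 : ArfBinary.V m)) = 1 := fun i => by
    have : (Heart.lift (Pi.single (Sum.inl i) 1) : Heart.Wd m) = Heart.ev i := by
      simp [Heart.lift, Pi.single_apply, Finset.sum_add_distrib]
    rw [this]
    unfold Heart.ev
    rw [hw, wt_interval _ _ (by omega) (by omega), show 2 * i.val + 1 + 1 - 2 * i.val = 2 by omega]
    rfl
  have hr : ∀ i, hw (Heart.lift (Pi.single (Sum.inr i) 1 : ArfBinary.V m)) = ((m - i.val : ℕ) : Z) :=
    fun i => by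
    have : (Heart.lift (Pi.single (Sum.inr i) 1) : Heart.Wd m) = Heart.fv i := by
      simp [Heart.lift, Pi.single_apply, Finset.sum_add_distrib]
    rw [this]
    unfold Heart.fv
    rw [hw, wt_interval _ _ (by omega) (by omega),
      show (2 * m + 1 - (2 * i.val + 1)) / 2 = m - i.val by omega]
  have key : w = wv m := by
    funext x
    rcases x with i | i
    · have h1 := congrFun hw' (Pi.single (Sum.inr i) 1)
      rw [hr] at h1
      simp [ArfBinary.form, ArfBinary.polarFn, quadFormPlus, Pi.single_apply, add_mul, mul_add,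
        Finset.sum_add_distrib] at h1
      simp [wv, h1]
    · have h1 := congrFun hw' (Pi.single (Sum.inl i) 1)
      rw [hl] at h1
      simp [ArfBinary.form, ArfBinary.polarFn, quadFormPlus, Pi.single_apply, add_mul, mul_add,
        Finset.sum_add_distrib] at h1
      simp [wv, ← h1]
  rw [← key]
  exact congrFun hw' v

theorem quad_wv (m : ℕ) : quadFormPlus m Z (wv m) = ((m * (m + 1) / 2 : ℕ) : Z) := by
  have h : ∀ n, (∑ i ∈ Finset.range n, (n - i)) * 2 = n * (n + 1) := by
    intro n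
    induction n with
    | zero => simp
    | succ n ih =>
      rw [Finset.sum_range_succ']
      simp only [Nat.add_sub_add_right, Nat.sub_zero, add_mul, ih]
      ring
  have h' : m * (m + 1) / 2 = ∑ i : Fin m, (m - i.val) := by
    rw [← h, Nat.mul_div_cancel _ two_pos, Finset.sum_range]
  rw [h', Nat.cast_sum]
  simp [quadFormPlus, wv]

/-- Transport of the permutation action along an isometry. -/
theorem exists_hom (hodd : Odd m) (hm : 2 ≤ m) {ι : Type} [Fintype ι] [DecidableEq ι]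
    (Q : (ι → Z) → Z) (g : ArfBinary.V m ≃ₗ[Z] (ι → Z))
    (hg : ∀ v, ArfBinary.form m (wv m) v = Q (g v)) :
    ∃ φ : Equiv.Perm (Fin (2 * (m + 1))) →* isometryGroup Z Q, Function.Injective φ := by
  let L : Equiv.Perm (Fin (2 * (m + 1))) → (ι → Z) →ₗ[Z] (ι → Z) :=
    fun σ => g.toLinearMap ∘ₗ Heart.act σ ∘ₗ g.symm.toLinearMap
  have h1 : L 1 = LinearMap.id := LinearMap.ext fun v => by simp [L, Heart.act_one]
  have h2 : ∀ σ τ, L (σ * τ) = (L σ).comp (L τ) := fun σ τ => LinearMap.ext fun v => by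
    simp [L, ← Heart.act_mul]
  have h3 : ∀ σ v, Q (L σ v) = Q v := fun σ v => by
    show Q (g (Heart.act σ (g.symm v))) = Q v
    rw [← hg, ← hw_lift_eq, hw_act hodd, hw_lift_eq, hg, LinearEquiv.apply_symm_apply]
  refine ⟨OmegaRankOne.isoHom L h1 h2 Q h3, fun σ τ h => Heart.hom_injective hm
    (Subtype.ext (Matrix.ext_iff_mulVec.2 fun u => ?_))⟩
  rw [Heart.hom_apply, Heart.hom_apply]
  have e := OmegaRankOne.isoHom_mulVec L h1 h2 Q h3 σ (g u)
  rw [h, OmegaRankOne.isoHom_mulVec] at e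
  simpa [L] using e.symm

theorem embed_heart (k : ℕ) (hk : 1 ≤ k) :
    (Odd k → ∃ φ : Equiv.Perm (Fin (4 * k + 4)) →* isometryGroup Z (quadFormPlus (2 * k + 1) Z),
      Function.Injective φ) ∧
    (Even k → ∃ φ : Equiv.Perm (Fin (4 * k + 4)) →* isometryGroup Z (quadFormMinus (2 * k) Z 1 1),
      Function.Injective φ) := by
  have hq : quadFormPlus (2 * k + 1) Z (wv (2 * k + 1)) = ((k + 1 : ℕ) : Z) := by
    rw [quad_wv, show (2 * k + 1) * (2 * k + 1 + 1) = 2 * ((2 * k + 1) * (k + 1)) by ring,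
      Nat.mul_div_cancel_left _ two_pos, Nat.cast_mul,
      show ((2 * k + 1 : ℕ) : Z) = 1 from ZMod.natCast_eq_one_iff_odd.2 ⟨k, rfl⟩, one_mul]
  have hn : Fin (4 * k + 4) ≃ Fin (2 * (2 * k + 1 + 1)) := finCongr (by ring)
  let e := hn.permCongrHom
  have hodd : Odd (2 * k + 1) := ⟨k, rfl⟩
  constructor
  · intro ho
    obtain ⟨g, hg⟩ := (ArfBinary.plus_iff (by omega) (wv (2 * k + 1))).2 (by
      rw [hq]; exact Heart.even_cast ho.add_one)
    obtain ⟨φ, hφ⟩ := exists_hom hodd (by omega) _ g hg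
    exact ⟨φ.comp e.toMonoidHom, hφ.comp e.injective⟩
  · intro he
    obtain ⟨g, hg⟩ := (ArfBinary.minus_iff (by omega) (wv (2 * k + 1))).2 (by
      rw [hq]; exact ZMod.natCast_eq_one_iff_odd.2 he.add_one)
    obtain ⟨φ, hφ⟩ := exists_hom hodd (by omega) _ g hg
    exact ⟨φ.comp e.toMonoidHom, hφ.comp e.injective⟩

end Cfsg.Agent.Fus.HeartOrth
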