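import Cfsg.Agent.Lib.Transfer.SL23Recognition

/-!
# The extension of the Heisenberg group of order 27 by `SL(2, 3)`

The group is described by a multiplication on triples; groups carrying such data are isomorphic.
-/

set_option autoImplicit false

namespace Cfsg.Agent.Fus.HeisSL

/-- The special linear group. -/
abbrev SL : Type := Matrix.SpecialLinearGroup (Fin 2) (ZMod 3)

/-- The natural module. -/
abbrev V3 : Type := Fin 2 → ZMod 3

/-- The natural action. -/
def act (g : SL) (v : V3) : V3 :=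
  ![(g : Matrix (Fin 2) (Fin 2) (ZMod 3)) 0 0 * v 0 + (g : Matrix (Fin 2) (Fin 2) (ZMod 3)) 0 1 * v 1,
    (g : Matrix (Fin 2) (Fin 2) (ZMod 3)) 1 0 * v 0 + (g : Matrix (Fin 2) (Fin 2) (ZMod 3)) 1 1 * v 1]

/-- The symplectic form. -/
def det2 (v w : V3) : ZMod 3 := v 0 * w 1 - v 1 * w 0

/-- Triples. -/
abbrev Prm : Type := V3 × ZMod 3 × SL

/-- The product of triples. -/
def pmul (x y : Prm) : Prm :=
  (x.1 + act x.2.2 y.1, x.2.1 + y.2.1 + 2 * det2 x.1 (act x.2.2 y.1), x.2.2 * y.2.2)

theorem act_one (v : V3) : act 1 v = v := by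
  funext k; fin_cases k <;> simp [act]

theorem act_mul (g h : SL) (v : V3) : act (g * h) v = act g (act h v) := by
  funext k; fin_cases k <;> simp [act, Matrix.mul_apply, Fin.sum_univ_two] <;> ring

theorem act_zero (g : SL) : act g 0 = 0 := by
  funext k; fin_cases k <;> simp [act]

theorem card_prm : Nat.card Prm = 648 := by
  rw [Nat.card_prod, Nat.card_prod, Nat.card_eq_fintype_card, Nat.card_eq_fintype_card, Nat.card_eq_fintype_card,
    Fintype.card_fun, ZMod.card, Fintype.card_fin]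
  have : Fintype.card SL = 24 := by decide +kernel
  norm_num [this]

theorem eq_one_of_act : ∀ g : SL, (∀ v, act g v = v) → g = 1 := by decide +kernel

theorem exists_commutator_neg : ∀ g : SL, g ≠ 1 → g ≠ -1 →
    ∃ h : SL, (g * h * g⁻¹ * h⁻¹) ^ 2 = -1 ∨ g ^ 2 = -1 := by decide +kernel

theorem prod_squares : ∀ g : SL, ∃ h k : SL, g = h * h * (k * k) := by decide +kernel

theorem conj_gA : ∀ g : SL, g ≠ 1 → g ^ 3 = 1 →
    ∃ h : SL, h * g * h⁻¹ = Transfer.SL23.gA ∨ h * g⁻¹ * h⁻¹ = Transfer.SL23.gA := by decide +kernel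

theorem word : ∀ g : SL, ∃ a b c d e : Fin 4,
    g = Transfer.SL23.gA ^ a.val * Transfer.SL23.gI ^ b.val * Transfer.SL23.gA ^ c.val *
      Transfer.SL23.gI ^ d.val * Transfer.SL23.gA ^ e.val := by decide +kernel

variable {X : Type*} [Group X]

/-- The power of `z` with exponent modulo three. -/
def zp (z : X) (c : ZMod 3) : X := z ^ c.val

theorem zp_add {z : X} (hz : z ^ 3 = 1) (a b : ZMod 3) : zp z (a + b) = zp z a * zp z b := by
  rw [zp, zp, zp, ← pow_add, ZMod.val_add, ← pow_eq_pow_mod _ hz]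

@[simp] theorem zp_zero (z : X) : zp z 0 = 1 := pow_zero z

theorem zp_one (z : X) : zp z 1 = z := pow_one z

/-- A copy of the extension. -/
structure Data (X : Type*) [Group X] where
  u : V3 → X
  z : X
  ρ : SL →* X
  z3 : z ^ 3 = 1
  central : ∀ g : X, g * z = z * g
  umul : ∀ v w, u v * u w = u (v + w) * zp z (2 * det2 v w)
  conj : ∀ g v, ρ g * u v = u (act g v) * ρ g

namespace Data

variable (D : Data X)

/-- The element of a triple. -/
def ev (x : Prm) : X := D.u x.1 * zp D.z x.2.1 * D.ρ x.2.2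

theorem zp_comm (c : ZMod 3) (g : X) : g * zp D.z c = zp D.z c * g :=
  (Commute.pow_right (show Commute g D.z from D.central g) _).eq

theorem ev_mul (x y : Prm) : D.ev x * D.ev y = D.ev (pmul x y) := by
  obtain ⟨v, c, g⟩ := x
  obtain ⟨w, d, k⟩ := y
  show D.u v * zp D.z c * D.ρ g * (D.u w * zp D.z d * D.ρ k) =
    D.u (v + act g w) * zp D.z (c + d + 2 * det2 v (act g w)) * D.ρ (g * k)
  rw [show D.u v * zp D.z c * D.ρ g * (D.u w * zp D.z d * D.ρ k) =
      D.u v * zp D.z c * (D.ρ g * D.u w) * zp D.z d * D.ρ k by group, D.conj, map_mul]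
  calc D.u v * zp D.z c * (D.u (act g w) * D.ρ g) * zp D.z d * D.ρ k
      = D.u v * (zp D.z c * D.u (act g w)) * (D.ρ g * zp D.z d) * D.ρ k := by group
    _ = D.u v * (D.u (act g w) * zp D.z c) * (zp D.z d * D.ρ g) * D.ρ k := by
      rw [← D.zp_comm c, D.zp_comm d]
    _ = D.u v * D.u (act g w) * (zp D.z c * zp D.z d) * (D.ρ g * D.ρ k) := by group
    _ = D.u (v + act g w) * (zp D.z (2 * det2 v (act g w)) * zp D.z c * zp D.z d) * (D.ρ g * D.ρ k) := by
      rw [D.umul]; group
    _ = _ := by rw [← zp_add D.z3, ← zp_add D.z3]; congr 3; ring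

end Data

/-- Two copies given by bijective parametrisations are isomorphic. -/
theorem nonempty_equiv {Y : Type*} [Group Y] (D : Data X) (hD : Function.Bijective D.ev)
    (D' : Data Y) (hD' : Function.Bijective D'.ev) : Nonempty (X ≃* Y) := by
  let e₁ := Equiv.ofBijective D.ev hD
  let e₂ := Equiv.ofBijective D'.ev hD'
  refine ⟨{ e₁.symm.trans e₂ with map_mul' := fun x y => ?_ }⟩
  show e₂ (e₁.symm (x * y)) = e₂ (e₁.symm x) * e₂ (e₁.symm y)
  have he : e₁.symm (x * y) = pmul (e₁.symm x) (e₁.symm y) := by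
    rw [Equiv.symm_apply_eq]
    show x * y = D.ev _
    rw [← D.ev_mul]
    exact congrArg₂ (· * ·) (e₁.apply_symm_apply x).symm (e₁.apply_symm_apply y).symm
  rw [he]
  exact (D'.ev_mul _ _).symm

end Cfsg.Agent.Fus.HeisSL
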