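import Cfsg.Agent.Lib.Fus.HeisSLTwo
import Cfsg.Agent.Lib.Grp.Cores
import Cfsg.Prelude.Def_Transfer

/-!
# Groups of shape `3^{1+2}.SL(2, 3)` with an elementary abelian subgroup of order 27

Such a group without nontrivial normal 2-subgroup is the split extension of the Heisenberg group by
`SL(2, 3)`: the action on the Heisenberg group modulo its centre is an isomorphism onto `SL(2, 3)`.
-/

set_option autoImplicit false
set_option linter.style.haveILetI false
set_option linter.unusedSectionVars false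

open scoped commutatorElement
open Subgroup Cfsg.Agent.Transfer.SL23

namespace Cfsg.Agent.Fus.HeisSL

section Heis

variable {X : Type*} [Group X]

theorem zp_neg {z : X} (hz : z ^ 3 = 1) (a : ZMod 3) : zp z (-a) = (zp z a)⁻¹ :=
  eq_inv_of_mul_eq_one_left (by rw [← zp_add hz, neg_add_cancel, zp_zero])

theorem zp_injective {z : X} (hz : z ^ 3 = 1) (h1 : z ≠ 1) : Function.Injective (zp z) := fun a b e => by
  haveI : Fact (Nat.Prime 3) := ⟨Nat.prime_three⟩
  have ho : orderOf z = 3 := orderOf_eq_prime hz h1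
  refine ZMod.val_injective 3 (pow_injOn_Iio_orderOf ?_ ?_ e) <;> (rw [ho]; exact ZMod.val_lt _)

/-- A generating pair of a Heisenberg subgroup `K` of order 27. -/
structure Frame (K : Subgroup X) where
  x : X
  y : X
  z : X
  hx : x ∈ K
  hy : y ∈ K
  hz : z ∈ K
  xy : x * y = z * y * x
  z1 : z ≠ 1
  zc : ∀ r ∈ K, z * r = r * z
  exp : ∀ r ∈ K, r ^ 3 = 1
  card : Nat.card K = 27

namespace Frame

variable {K : Subgroup X} (F : Frame K)

/-- The normalised lift of a vector. -/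
def u (v : V3) : X := zp F.x (v 0) * zp F.y (v 1) * zp F.z (v 0 * v 1)

theorem x3 : F.x ^ 3 = 1 := F.exp _ F.hx
theorem y3 : F.y ^ 3 = 1 := F.exp _ F.hy
theorem z3 : F.z ^ 3 = 1 := F.exp _ F.hz

theorem zx (a : ZMod 3) : zp F.x a ∈ K := pow_mem F.hx _
theorem zy (a : ZMod 3) : zp F.y a ∈ K := pow_mem F.hy _

theorem u_mem (v : V3) : F.u v ∈ K := mul_mem (mul_mem (pow_mem F.hx _) (pow_mem F.hy _)) (pow_mem F.hz _)

theorem zp_comm {r : X} (hr : r ∈ K) (a : ZMod 3) : zp F.z a * r = r * zp F.z a :=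
  (Commute.pow_left (show Commute F.z r from F.zc r hr) _).eq

theorem swap (a b : ZMod 3) : zp F.y b * zp F.x a = zp F.x a * zp F.y b * zp F.z (-(a * b)) := by
  have h1 : F.y * F.x * F.y⁻¹ = F.z⁻¹ * F.x := by
    rw [mul_inv_eq_iff_eq_mul, mul_assoc, F.xy]; group
  have h2 : ∀ n : ℕ, F.y ^ n * F.x * (F.y ^ n)⁻¹ = F.z⁻¹ ^ n * F.x := by
    intro n
    induction n with
    | zero => simp
    | succ n ih =>
      have hc : F.y * F.z⁻¹ ^ n = F.z⁻¹ ^ n * F.y :=
        ((show Commute F.y F.z from (F.zc _ F.hy).symm).inv_right.pow_right n).eq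
      rw [pow_succ' F.y, show F.y * F.y ^ n * F.x * (F.y * F.y ^ n)⁻¹ =
        F.y * (F.y ^ n * F.x * (F.y ^ n)⁻¹) * F.y⁻¹ by group, ih, ← mul_assoc, hc,
        show F.z⁻¹ ^ n * F.y * F.x * F.y⁻¹ = F.z⁻¹ ^ n * (F.y * F.x * F.y⁻¹) by group, h1, ← mul_assoc, ← pow_succ]
  have h3 : zp F.y b * zp F.x a * (zp F.y b)⁻¹ = zp F.z (-(a * b)) * zp F.x a := by
    show F.y ^ b.val * F.x ^ a.val * (F.y ^ b.val)⁻¹ = _
    rw [← conj_pow, h2, (Commute.pow_left (show Commute F.z⁻¹ F.x from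
      (show Commute F.z F.x from F.zc _ F.hx).inv_left) _).mul_pow, ← pow_mul, inv_pow, zp_neg F.z3]
    congr 2
    show F.z ^ (b.val * a.val) = F.z ^ (a * b).val
    rw [ZMod.val_mul, ← pow_eq_pow_mod _ F.z3, mul_comm]
  rw [mul_inv_eq_iff_eq_mul] at h3
  rw [h3, F.zp_comm (F.zx _), mul_assoc, F.zp_comm (F.zy _), ← mul_assoc]

theorem umul (v w : V3) : F.u v * F.u w = F.u (v + w) * zp F.z (2 * det2 v w) := by
  simp only [u, Pi.add_apply]
  rw [zp_add F.x3, zp_add F.y3]
  calc zp F.x (v 0) * zp F.y (v 1) * zp F.z (v 0 * v 1) * (zp F.x (w 0) * zp F.y (w 1) * zp F.z (w 0 * w 1))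
      = zp F.x (v 0) * zp F.y (v 1) * (zp F.z (v 0 * v 1) * (zp F.x (w 0) * zp F.y (w 1))) * zp F.z (w 0 * w 1) := by
        group
    _ = zp F.x (v 0) * (zp F.y (v 1) * zp F.x (w 0)) * (zp F.y (w 1) * zp F.z (v 0 * v 1)) * zp F.z (w 0 * w 1) := by
        rw [F.zp_comm (mul_mem (F.zx _) (F.zy _))]; group
    _ = zp F.x (v 0) * zp F.x (w 0) * zp F.y (v 1) * (zp F.z (-(w 0 * v 1)) * zp F.y (w 1)) *
        (zp F.z (v 0 * v 1) * zp F.z (w 0 * w 1)) := by rw [F.swap]; group
    _ = zp F.x (v 0) * zp F.x (w 0) * (zp F.y (v 1) * zp F.y (w 1)) *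
        (zp F.z (-(w 0 * v 1)) * zp F.z (v 0 * v 1) * zp F.z (w 0 * w 1)) := by
        rw [F.zp_comm (F.zy _)]; group
    _ = _ := by
      rw [mul_assoc _ (zp F.z _) (zp F.z (2 * det2 v w)), ← zp_add F.z3, ← zp_add F.z3, ← zp_add F.z3]
      congr 2
      have e3 : ∀ a b c d : ZMod 3, -(c * b) + a * b + c * d = (a + c) * (b + d) + 2 * (a * d - b * c) := by decide
      exact e3 _ _ _ _

theorem u_zero : F.u 0 = 1 := by simp [u]

/-- The element with given coordinates. -/
def el (p : V3 × ZMod 3) : X := F.u p.1 * zp F.z p.2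

theorem el_mem (p : V3 × ZMod 3) : F.el p ∈ K := mul_mem (F.u_mem _) (pow_mem F.hz _)

theorem el_mul (p q : V3 × ZMod 3) : F.el p * F.el q = F.el (p.1 + q.1, p.2 + q.2 + 2 * det2 p.1 q.1) := by
  show F.u p.1 * zp F.z p.2 * (F.u q.1 * zp F.z q.2) = _
  calc F.u p.1 * zp F.z p.2 * (F.u q.1 * zp F.z q.2) = F.u p.1 * (zp F.z p.2 * F.u q.1) * zp F.z q.2 := by group
    _ = F.u p.1 * F.u q.1 * (zp F.z p.2 * zp F.z q.2) := by rw [F.zp_comm (F.u_mem _)]; group
    _ = F.u (p.1 + q.1) * (zp F.z (2 * det2 p.1 q.1) * (zp F.z p.2 * zp F.z q.2)) := by rw [F.umul]; group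
    _ = _ := by
      rw [el, ← zp_add F.z3, ← zp_add F.z3]
      congr 2
      ring

theorem el_injective : Function.Injective F.el := by
  intro p q e
  have key : ∀ w : V3, det2 p.1 w = det2 q.1 w := by
    intro w
    have h1 := F.el_mul p (w, 0)
    have h2 := F.el_mul (w, 0) p
    have h3 := F.el_mul q (w, 0)
    have h4 := F.el_mul (w, 0) q
    rw [e] at h1 h2
    simp only [el] at h1 h2 h3 h4
    have a1 := h1.symm.trans h3
    have a2 := h2.symm.trans h4
    rw [add_comm w p.1, add_comm w q.1] at a2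
    have b1 := congrArg (fun g => (F.u (q.1 + w))⁻¹ * g) a1
    have b2 := congrArg (fun g => (F.u (q.1 + w))⁻¹ * g) a2
    simp only [← mul_assoc, inv_mul_cancel, one_mul] at b1 b2
    -- compare the two central parts
    have hz : zp F.z (p.2 + 0 + 2 * det2 p.1 w) * (zp F.z (0 + p.2 + 2 * det2 w p.1))⁻¹ =
        zp F.z (q.2 + 0 + 2 * det2 q.1 w) * (zp F.z (0 + q.2 + 2 * det2 w q.1))⁻¹ := by
      have := congrArg₂ (fun g k => g * k⁻¹) a1 a2
      simp only [mul_inv_rev, mul_assoc] at this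
      have hu : ∀ (v : V3) (a b : ZMod 3), F.u v * (zp F.z a * ((zp F.z b)⁻¹ * (F.u v)⁻¹)) = zp F.z a * (zp F.z b)⁻¹ := by
        intro v a b
        rw [← zp_neg F.z3, ← mul_assoc (zp F.z a), ← zp_add F.z3, ← mul_assoc, ← F.zp_comm (F.u_mem _),
          mul_inv_cancel_right]
      rwa [hu, hu] at this
    rw [← zp_neg F.z3, ← zp_neg F.z3, ← zp_add F.z3, ← zp_add F.z3] at hz
    have := zp_injective F.z3 F.z1 hz
    have e3 : ∀ a b c d : ZMod 3, a + 0 + 2 * b + -(0 + a + 2 * (-b)) = c + 0 + 2 * d + -(0 + c + 2 * (-d)) → b = d := by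
      decide
    refine e3 p.2 _ q.2 _ ?_
    rwa [show -det2 p.1 w = det2 w p.1 by simp only [det2]; ring, show -det2 q.1 w = det2 w q.1 by simp only [det2]; ring]
  have hv : p.1 = q.1 := by
    funext k
    fin_cases k
    · simpa [det2] using key ![0, 1]
    · simpa [det2] using key ![1, 0]
  refine Prod.ext hv ?_
  simp only [el, hv, mul_left_cancel_iff] at e
  exact zp_injective F.z3 F.z1 e

theorem el_surjective {r : X} (hr : r ∈ K) : ∃ p, F.el p = r := by
  have hb : Function.Bijective fun p => (⟨F.el p, F.el_mem p⟩ : K) := by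
    haveI : Finite K := Nat.finite_of_card_ne_zero (by rw [F.card]; norm_num)
    refine Function.Injective.bijective_of_nat_card_le (fun p q e => F.el_injective (congrArg Subtype.val e)) ?_
    rw [F.card]
    simp
  obtain ⟨p, hp⟩ := hb.2 ⟨r, hr⟩
  exact ⟨p, congrArg Subtype.val hp⟩

open scoped Classical in
/-- The coordinates. -/
noncomputable def co (r : X) : V3 := if h : ∃ p, F.el p = r then h.choose.1 else 0

theorem co_el (p : V3 × ZMod 3) : F.co (F.el p) = p.1 := by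
  have h : ∃ q, F.el q = F.el p := ⟨p, rfl⟩
  rw [co, dif_pos h, F.el_injective h.choose_spec]

theorem co_u (v : V3) : F.co (F.u v) = v := by simpa [el] using F.co_el (v, 0)

theorem co_zp (a : ZMod 3) : F.co (zp F.z a) = 0 := by simpa [el, F.u_zero] using F.co_el (0, a)

theorem co_mul {r s : X} (hr : r ∈ K) (hs : s ∈ K) : F.co (r * s) = F.co r + F.co s := by
  obtain ⟨p, rfl⟩ := F.el_surjective hr
  obtain ⟨q, rfl⟩ := F.el_surjective hs
  rw [F.el_mul, F.co_el, F.co_el, F.co_el]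

theorem co_one : F.co 1 = 0 := by simpa using F.co_zp 0

theorem co_inv {r : X} (hr : r ∈ K) : F.co r⁻¹ = -F.co r :=
  eq_neg_of_add_eq_zero_left (by rw [← F.co_mul (inv_mem hr) hr, inv_mul_cancel, F.co_one])

theorem exists_eq {r : X} (hr : r ∈ K) : ∃ c, r = F.u (F.co r) * zp F.z c := by
  obtain ⟨p, rfl⟩ := F.el_surjective hr
  exact ⟨p.2, by rw [F.co_el]; rfl⟩

theorem comm_eq {r s : X} (hr : r ∈ K) (hs : s ∈ K) :
    r * s = zp F.z (det2 (F.co r) (F.co s)) * (s * r) := by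
  obtain ⟨p, rfl⟩ := F.el_surjective hr
  obtain ⟨q, rfl⟩ := F.el_surjective hs
  rw [F.el_mul, F.el_mul, F.co_el, F.co_el, el, el, ← mul_assoc, F.zp_comm (F.u_mem _), mul_assoc,
    ← zp_add F.z3, add_comm q.1]
  congr 2
  have e3 : ∀ a b c : ZMod 3, a + b + 2 * c = c + (b + a + 2 * (-c)) := by decide
  rw [e3, show -det2 p.1 q.1 = det2 q.1 p.1 by simp only [det2]; ring]

theorem co_zpow_x (a : ZMod 3) : F.u ![a, 0] = zp F.x a := by simp [u]
theorem co_zpow_y (a : ZMod 3) : F.u ![0, a] = zp F.y a := by simp [u]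

end Frame

end Heis

variable {X : Type*} [Group X] [Finite X]

/-- The matrix of a conjugation. -/
noncomputable def mat {K : Subgroup X} (F : Frame K) (g : X) : Matrix (Fin 2) (Fin 2) (ZMod 3) :=
  !![F.co (g * F.x * g⁻¹) 0, F.co (g * F.y * g⁻¹) 0; F.co (g * F.x * g⁻¹) 1, F.co (g * F.y * g⁻¹) 1]

/-- The hypotheses. -/
structure Ext (X : Type*) [Group X] where
  π : X →* SL
  surj : Function.Surjective π
  two : pCore 2 X = ⊥
  E : Subgroup X
  E_comm : ∀ a ∈ E, ∀ b ∈ E, a * b = b * a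
  E_exp : ∀ a ∈ E, a ^ 3 = 1
  card_E : Nat.card E = 27

namespace Ext

variable (h : Ext X) (F : Frame h.π.ker)
include F

theorem card_eq : Nat.card X = 648 := by
  rw [← h.π.ker.card_mul_index, index_ker, MonoidHom.range_eq_top.2 h.surj, card_top, F.card]
  have : Fintype.card SL = 24 := by decide +kernel
  rw [Nat.card_eq_fintype_card, this]

theorem conj_mem {r : X} (hr : r ∈ h.π.ker) (g : X) : g * r * g⁻¹ ∈ h.π.ker :=
  (MonoidHom.normal_ker h.π).conj_mem r hr g

theorem mat_spec (g : X) {r : X} (hr : r ∈ h.π.ker) (hz : F.co (g * F.z * g⁻¹) = 0) :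
    F.co (g * r * g⁻¹) = (mat F g).mulVec (F.co r) := by
  obtain ⟨c, hc⟩ := F.exists_eq hr
  have hp : ∀ (a : X), a ∈ h.π.ker → ∀ n : ℕ, F.co (a ^ n) = n • F.co a := fun a ha n => by
    induction n with
    | zero => simp [F.co_one]
    | succ n ih => rw [pow_succ, F.co_mul (pow_mem ha n) ha, ih, succ_nsmul]
  have mx := h.conj_mem F F.hx g
  have my := h.conj_mem F F.hy g
  have mz := h.conj_mem F F.hz g
  nth_rw 1 [hc]
  simp only [Frame.u, zp]
  set s := F.co r
  rw [show g * (F.x ^ (s 0).val * F.y ^ (s 1).val * F.z ^ (s 0 * s 1).val * F.z ^ c.val) * g⁻¹ =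
    (g * F.x ^ (s 0).val * g⁻¹) * (g * F.y ^ (s 1).val * g⁻¹) * (g * F.z ^ (s 0 * s 1).val * g⁻¹) *
      (g * F.z ^ c.val * g⁻¹) by group, ← conj_pow, ← conj_pow, ← conj_pow, ← conj_pow,
    F.co_mul (mul_mem (mul_mem (pow_mem mx _) (pow_mem my _)) (pow_mem mz _)) (pow_mem mz _),
    F.co_mul (mul_mem (pow_mem mx _) (pow_mem my _)) (pow_mem mz _),
    F.co_mul (pow_mem mx _) (pow_mem my _), hp _ mx, hp _ my, hp _ mz, hp _ mz, hz, smul_zero, smul_zero,
    add_zero, add_zero]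
  funext k
  rw [Pi.add_apply, Pi.smul_apply, Pi.smul_apply, nsmul_eq_mul, nsmul_eq_mul, ZMod.natCast_zmod_val,
    ZMod.natCast_zmod_val]
  fin_cases k <;> simp [mat, Matrix.mulVec, dotProduct, Fin.sum_univ_two, mul_comm]

theorem conj_z (g : X) : g * F.z * g⁻¹ = zp F.z ((mat F g).det) := by
  have h1 := F.comm_eq (h.conj_mem F F.hx g) (h.conj_mem F F.hy g)
  rw [Matrix.det_fin_two]
  have h2 : g * F.x * g⁻¹ * (g * F.y * g⁻¹) = g * F.z * g⁻¹ * (g * F.y * g⁻¹ * (g * F.x * g⁻¹)) := by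
    rw [show g * F.x * g⁻¹ * (g * F.y * g⁻¹) = g * (F.x * F.y) * g⁻¹ by group, F.xy]; group
  rw [h2, mul_left_inj] at h1
  rw [h1, det2]
  simp [mat]
  congr 1
  ring

theorem co_conj (g : X) {r : X} (hr : r ∈ h.π.ker) : F.co (g * r * g⁻¹) = (mat F g).mulVec (F.co r) :=
  h.mat_spec F g hr (by rw [h.conj_z F g, F.co_zp])

theorem mat_mul (g k : X) : mat F (g * k) = mat F g * mat F k := by
  have key : ∀ r ∈ h.π.ker, F.co (g * k * r * (g * k)⁻¹) = (mat F g * mat F k).mulVec (F.co r) := fun r hr => by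
    rw [show g * k * r * (g * k)⁻¹ = g * (k * r * k⁻¹) * g⁻¹ by group, h.co_conj F g (h.conj_mem F hr k),
      h.co_conj F k hr, Matrix.mulVec_mulVec]
  have ex := key F.x F.hx
  have ey := key F.y F.hy
  have cx : F.co F.x = ![1, 0] := by
    have := F.co_u ![1, 0]; rwa [F.co_zpow_x, zp_one] at this
  have cy : F.co F.y = ![0, 1] := by
    have := F.co_u ![0, 1]; rwa [F.co_zpow_y, zp_one] at this
  rw [cx] at ex
  rw [cy] at ey
  simp only [mul_inv_rev] at ex ey
  ext a b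
  fin_cases a <;> fin_cases b <;> simp [mat, ex, ey, Matrix.mulVec, dotProduct, Fin.sum_univ_two]

theorem mat_ker {r : X} (hr : r ∈ h.π.ker) : mat F r = 1 := by
  have key : ∀ s ∈ h.π.ker, F.co (r * s * r⁻¹) = F.co s := fun s hs => by
    rw [F.co_mul (mul_mem hr hs) (inv_mem hr), F.co_mul hr hs, F.co_inv hr]; abel
  have cx : F.co F.x = ![1, 0] := by
    have := F.co_u ![1, 0]; rwa [F.co_zpow_x, zp_one] at this
  have cy : F.co F.y = ![0, 1] := by
    have := F.co_u ![0, 1]; rwa [F.co_zpow_y, zp_one] at this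
  ext a b
  fin_cases a <;> fin_cases b <;> simp [mat, key _ F.hx, key _ F.hy, cx, cy]

theorem det_one (g : X) : (mat F g).det = 1 := by
  have hm : ∀ a b : X, (mat F (a * b)).det = (mat F a).det * (mat F b).det := fun a b => by
    rw [h.mat_mul F, Matrix.det_mul]
  have hne : ∀ a : X, (mat F a).det ≠ 0 := fun a e => by
    have := h.conj_z F a
    rw [e, zp_zero, conj_eq_one_iff] at this
    exact F.z1 this
  have hsq : ∀ a : X, (mat F (a * a)).det = 1 := fun a => by
    rw [hm]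
    have : ∀ d : ZMod 3, d ≠ 0 → d * d = 1 := by decide
    exact this _ (hne a)
  obtain ⟨a, b, e⟩ := prod_squares (h.π g)
  obtain ⟨a, rfl⟩ := h.surj a
  obtain ⟨b, rfl⟩ := h.surj b
  rw [← map_mul, ← map_mul, ← map_mul] at e
  have hker : (a * a * (b * b))⁻¹ * g ∈ h.π.ker := by
    rw [MonoidHom.mem_ker, map_mul, map_inv, e, inv_mul_cancel]
  rw [show g = a * a * (b * b) * ((a * a * (b * b))⁻¹ * g) by group, hm, hm, hsq, hsq, h.mat_ker F hker,
    Matrix.det_one]
  ring

/-- The action modulo the centre. -/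
noncomputable def psi : X →* SL :=
  MonoidHom.mk' (fun g => ⟨mat F g, h.det_one F g⟩) fun a b => Subtype.ext (h.mat_mul F a b)

theorem central (g : X) : g * F.z = F.z * g := by
  have := h.conj_z F g
  rwa [h.det_one F g, zp_one, mul_inv_eq_iff_eq_mul] at this

theorem co_act (g : X) {r : X} (hr : r ∈ h.π.ker) : F.co (g * r * g⁻¹) = act (h.psi F g) (F.co r) := by
  rw [h.co_conj F g hr]
  funext k
  fin_cases k <;> simp [act, psi, Matrix.mulVec, dotProduct, Fin.sum_univ_two] <;> rfl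

theorem ker_le_psi : h.π.ker ≤ (h.psi F).ker := fun _ hr => Subtype.ext (h.mat_ker F hr)

theorem exists_involution : ∃ t : X, h.π t = -1 ∧ t * t = 1 := by
  obtain ⟨t0, ht0⟩ := h.surj (-1)
  refine ⟨t0 ^ 27, by rw [map_pow, ht0]; decide +kernel, ?_⟩
  rw [← pow_add, show 27 + 27 = 2 * 3 * 9 by norm_num, pow_mul, pow_mul, F.exp, one_pow]
  rw [MonoidHom.mem_ker, map_pow, ht0]; decide +kernel

/-- The action modulo the centre is faithful. -/
theorem psi_ker : (h.psi F).ker = h.π.ker := by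
  refine le_antisymm (fun g hg => ?_) (h.ker_le_psi F)
  by_contra hgR
  -- some element of the kernel lies over `-1`
  obtain ⟨n, hn, hn1⟩ : ∃ n ∈ (h.psi F).ker, h.π n = -1 := by
    by_cases e : h.π g = -1
    · exact ⟨g, hg, e⟩
    obtain ⟨k, hk⟩ := exists_commutator_neg (h.π g) hgR e
    obtain ⟨k, rfl⟩ := h.surj k
    rcases hk with hk | hk
    · refine ⟨(g * k * g⁻¹ * k⁻¹) ^ 2, pow_mem ?_ 2, by simpa using hk⟩
      rw [MonoidHom.mem_ker] at hg ⊢
      simp [hg]
    · exact ⟨g ^ 2, pow_mem hg 2, by simpa using hk⟩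
  obtain ⟨t, ht, ht2⟩ := h.exists_involution F
  have htk : t ∈ (h.psi F).ker := by
    have : n⁻¹ * t ∈ h.π.ker := by rw [MonoidHom.mem_ker, map_mul, map_inv, hn1, ht, inv_mul_cancel]
    simpa using mul_mem hn (h.ker_le_psi F this)
  have hcent : ∀ r ∈ h.π.ker, t * r = r * t := by
    intro r hr
    have h1 : F.co (t * r * t⁻¹) = F.co r := by
      rw [h.co_act F t hr, MonoidHom.mem_ker.1 htk, act_one]
    obtain ⟨c, hc⟩ := F.exists_eq (h.conj_mem F hr t)
    obtain ⟨d, hd⟩ := F.exists_eq hr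
    rw [h1] at hc
    obtain ⟨m, hm⟩ : ∃ m, t * r * t⁻¹ = r * zp F.z m :=
      ⟨-d + c, by rw [hc]; conv_rhs => rw [hd, mul_assoc, ← zp_add F.z3, add_neg_cancel_left]⟩
    have hzt : zp F.z m * t⁻¹ = t⁻¹ * zp F.z m :=
      (Commute.pow_left (show Commute F.z t⁻¹ from (h.central F t⁻¹).symm) _).eq
    have h2 : r = r * zp F.z (m + m) := by
      calc r = t * t * r * (t * t)⁻¹ := by rw [ht2]; group
        _ = t * (t * r * t⁻¹) * t⁻¹ := by group
        _ = t * r * (zp F.z m * t⁻¹) := by rw [hm]; group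
        _ = t * r * t⁻¹ * zp F.z m := by rw [hzt]; group
        _ = _ := by rw [hm, mul_assoc, ← zp_add F.z3]
    rw [left_eq_mul] at h2
    have h4 := zp_injective F.z3 F.z1 (h2.trans (zp_zero F.z).symm)
    have : ∀ m : ZMod 3, m + m = 0 → m = 0 := by decide
    rw [this m h4, zp_zero, mul_one, mul_inv_eq_iff_eq_mul] at hm
    exact hm
  have hconj : ∀ g : X, g * t * g⁻¹ = t := by
    intro g
    have hm : g * t * g⁻¹ * t⁻¹ ∈ h.π.ker := by
      rw [MonoidHom.mem_ker, map_mul, map_mul, map_mul, map_inv, map_inv, ht]; simp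
    set c := g * t * g⁻¹ * t⁻¹ with hc
    have he : g * t * g⁻¹ = c * t := by rw [hc, inv_mul_cancel_right]
    have h2 : c * c = 1 := by
      have h0 : (g * t * g⁻¹) * (g * t * g⁻¹) = 1 := by
        rw [show g * t * g⁻¹ * (g * t * g⁻¹) = g * (t * t) * g⁻¹ by group, ht2]; group
      rw [he, show c * t * (c * t) = c * (t * c) * t by group, hcent c hm, ← mul_assoc, mul_assoc (c * c), ht2,
        mul_one] at h0
      exact h0
    have h3 := F.exp c hm
    rw [pow_succ, pow_two, h2, one_mul] at h3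
    rw [he, h3, one_mul]
  haveI hN : (zpowers t).Normal := ⟨fun y hy g => by
    obtain ⟨k, rfl⟩ := mem_zpowers_iff.1 hy
    rw [← conj_zpow, hconj]; exact zpow_mem (mem_zpowers t) k⟩
  have hp : IsPGroup 2 (zpowers t) := fun y => by
    refine ⟨1, Subtype.ext ?_⟩
    obtain ⟨k, hk⟩ := mem_zpowers_iff.1 y.2
    rw [SubmonoidClass.coe_pow, ← hk, pow_one, pow_two, ← (Commute.refl t).mul_zpow, ht2, one_zpow]
    rfl
  have := Grp.le_pCore hN hp (mem_zpowers t)
  rw [h.two, mem_bot] at this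
  rw [this, map_one] at ht
  exact absurd ht (by decide +kernel)

theorem psi_surj : Function.Surjective (h.psi F) := by
  rw [← MonoidHom.range_eq_top]
  refine eq_top_of_card_eq _ ?_
  have h1 := (h.psi F).ker.card_mul_index
  rw [index_ker, h.psi_ker F, F.card, h.card_eq F] at h1
  have h2 : Fintype.card SL = 24 := by decide +kernel
  rw [Nat.card_eq_fintype_card (α := SL), h2]
  omega

variable {h F} {t : X} (ht : h.psi F t = -1)
include ht

/-- A member of the kernel conjugated by `t` has the negated coordinates. -/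
theorem co_neg {r : X} (hr : r ∈ h.π.ker) : F.co (t * r * t⁻¹) = -F.co r := by
  rw [h.co_act F t hr, ht]
  funext k
  fin_cases k <;> simp [act]

/-- The frame made of elements inverted by an involution. -/
theorem exists_frame (ht2 : t * t = 1) :
    ∃ F' : Frame h.π.ker, t * F'.x * t⁻¹ = F'.x⁻¹ ∧ t * F'.y * t⁻¹ = F'.y⁻¹ ∧ h.psi F' t = -1 := by
  have key : ∀ r ∈ h.π.ker, ∃ c, t * (r * zp F.z c) * t⁻¹ = (r * zp F.z c)⁻¹ := by
    intro r hr
    have hm := mul_mem (h.conj_mem F hr t) hr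
    obtain ⟨c, hc⟩ := F.exists_eq hm
    rw [F.co_mul (h.conj_mem F hr t) hr, co_neg ht hr, neg_add_cancel, F.u_zero, one_mul] at hc
    refine ⟨c, ?_⟩
    have hz : t * zp F.z c = zp F.z c * t := (Commute.pow_right (show Commute t F.z from h.central F t) _).eq
    have hzr : zp F.z c * r⁻¹ = r⁻¹ * zp F.z c := F.zp_comm (inv_mem hr) c
    have hcc : zp F.z c * zp F.z c = (zp F.z c)⁻¹ := by
      rw [← zp_add F.z3, ← zp_neg F.z3]; congr 1; revert c; intros; exact (by decide : ∀ c : ZMod 3, c + c = -c) _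
    calc t * (r * zp F.z c) * t⁻¹ = (t * r * t⁻¹) * (t * zp F.z c * t⁻¹) := by group
      _ = zp F.z c * r⁻¹ * zp F.z c := by
        rw [hz, mul_inv_cancel_right, show t * r * t⁻¹ = zp F.z c * r⁻¹ by rw [← hc, mul_inv_cancel_right]]
      _ = r⁻¹ * (zp F.z c * zp F.z c) := by rw [hzr, mul_assoc]
      _ = _ := by rw [hcc, ← zp_neg F.z3, mul_inv_rev, ← zp_neg F.z3, F.zp_comm (inv_mem hr)]
  obtain ⟨a, hx⟩ := key F.x F.hx
  obtain ⟨b, hy⟩ := key F.y F.hy
  have hxy : F.x * zp F.z a * (F.y * zp F.z b) = F.z * (F.y * zp F.z b) * (F.x * zp F.z a) := by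
    calc F.x * zp F.z a * (F.y * zp F.z b) = F.x * F.y * (zp F.z a * zp F.z b) := by
          rw [mul_assoc, ← mul_assoc (zp F.z a), F.zp_comm F.hy]; group
      _ = F.z * F.y * F.x * (zp F.z b * zp F.z a) := by
          rw [F.xy, ← zp_add F.z3, ← zp_add F.z3, add_comm a b]
      _ = F.z * F.y * (F.x * zp F.z b) * zp F.z a := by group
      _ = F.z * F.y * (zp F.z b * F.x) * zp F.z a := by rw [F.zp_comm F.hx]
      _ = _ := by group
  let F' : Frame h.π.ker := ⟨F.x * zp F.z a, F.y * zp F.z b, F.z, mul_mem F.hx (pow_mem F.hz _),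
    mul_mem F.hy (pow_mem F.hz _), F.hz, hxy, F.z1, F.zc, F.exp, F.card⟩
  refine ⟨F', hx, hy, ?_⟩
  have h2 : h.psi F' t * h.psi F' t = 1 := by rw [← map_mul, ht2, map_one]
  have h1 : h.psi F' t ≠ 1 := fun e => by
    have hk : t ∈ (h.psi F').ker := e
    rw [h.psi_ker F', ← h.psi_ker F, MonoidHom.mem_ker, ht] at hk
    exact absurd hk (by decide +kernel)
  exact (by decide +kernel : ∀ g : SL, g * g = 1 → g ≠ 1 → g = -1) _ h2 h1

variable (hx : t * F.x * t⁻¹ = F.x⁻¹) (hy : t * F.y * t⁻¹ = F.y⁻¹)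
include hx hy

theorem conj_u (v : V3) : t * F.u v * t⁻¹ = F.u (-v) := by
  simp only [Frame.u, zp, Pi.neg_apply]
  rw [show t * (F.x ^ (v 0).val * F.y ^ (v 1).val * F.z ^ (v 0 * v 1).val) * t⁻¹ =
    (t * F.x ^ (v 0).val * t⁻¹) * (t * F.y ^ (v 1).val * t⁻¹) * (t * F.z ^ (v 0 * v 1).val * t⁻¹) by group,
    ← conj_pow, ← conj_pow, ← conj_pow, hx, hy, h.central F t, mul_inv_cancel_right, neg_mul_neg,
    inv_pow, inv_pow]
  congr 2
  · exact (zp_neg F.x3 _).symm
  · exact (zp_neg F.y3 _).symm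

theorem conj_el (p : V3 × ZMod 3) : t * F.el p * t⁻¹ = F.el (-p.1, p.2) := by
  simp only [Frame.el]
  rw [← mul_assoc, mul_assoc (t * F.u p.1),
    show zp F.z p.2 * t⁻¹ = t⁻¹ * zp F.z p.2 from
      (Commute.pow_left (show Commute F.z t⁻¹ from (h.central F t⁻¹).symm) _).eq,
    ← mul_assoc, conj_u ht hx hy]

/-- Members of the kernel centralising `t` are central. -/
theorem fixed {r : X} (hr : r ∈ h.π.ker) (he : t * r = r * t) : ∃ m, r = zp F.z m := by
  obtain ⟨p, rfl⟩ := F.el_surjective hr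
  have := conj_el ht hx hy p
  rw [he, mul_inv_cancel_right] at this
  have e := congrArg Prod.fst (F.el_injective this)
  refine ⟨p.2, ?_⟩
  have hv : p.1 = 0 := by
    funext k
    exact (by decide : ∀ a : ZMod 3, a = -a → a = 0) _ (congrFun e k)
  rw [Frame.el, hv, F.u_zero, one_mul]

theorem cov {g : X} (hg : t * g = g * t) (v : V3) : g * F.u v * g⁻¹ = F.u (act (h.psi F g) v) := by
  obtain ⟨p, hp⟩ := F.el_surjective (h.conj_mem F (F.u_mem v) g)
  have hv : p.1 = act (h.psi F g) v := by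
    have := congrArg F.co hp
    rwa [F.co_el, h.co_act F g (F.u_mem v), F.co_u] at this
  have h1 : t * (g * F.u v * g⁻¹) * t⁻¹ = (g * F.u v * g⁻¹)⁻¹ := by
    rw [show t * (g * F.u v * g⁻¹) * t⁻¹ = (t * g) * F.u v * (t * g)⁻¹ by group, hg,
      show g * t * F.u v * (g * t)⁻¹ = g * (t * F.u v * t⁻¹) * g⁻¹ by group, conj_u ht hx hy,
      mul_inv_rev, mul_inv_rev, inv_inv, show F.u (-v) = (F.u v)⁻¹ from eq_inv_of_mul_eq_one_left (by
        have hd : det2 (-v) v = 0 := by simp only [det2, Pi.neg_apply]; ring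
        rw [F.umul, neg_add_cancel, F.u_zero, hd, mul_zero, zp_zero, mul_one]), ← mul_assoc]
  have hinv : (F.el p)⁻¹ = F.el (-p.1, -p.2) := by
    refine inv_eq_of_mul_eq_one_right ?_
    have hd : det2 p.1 (-p.1) = 0 := by simp only [det2, Pi.neg_apply]; ring
    rw [F.el_mul, hd, add_neg_cancel, add_neg_cancel, mul_zero, add_zero, Frame.el, F.u_zero, zp_zero, one_mul]
  rw [← hp, conj_el ht hx hy, hinv] at h1
  have hc := congrArg Prod.snd (F.el_injective h1)
  have h0 : p.2 = 0 := (by decide : ∀ a : ZMod 3, a = -a → a = 0) _ hc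
  rw [← hp, Frame.el, h0, zp_zero, mul_one, hv]

theorem exists_lift (ht2 : t * t = 1) (g : X) : ∃ g', t * g' = g' * t ∧ h.psi F g' = h.psi F g := by
  have hr0 : g * t * g⁻¹ * t⁻¹ ∈ h.π.ker := by
    rw [← h.psi_ker F, MonoidHom.mem_ker, map_mul, map_mul, map_mul, map_inv, map_inv, ht]
    simp
  set r := g * t * g⁻¹ * t⁻¹ with hr
  have hinv : t * r * t⁻¹ = r⁻¹ := by
    have e : r * t * (r * t) = 1 := by
      rw [hr, inv_mul_cancel_right, show g * t * g⁻¹ * (g * t * g⁻¹) = g * (t * t) * g⁻¹ by group, ht2]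
      group
    rw [show t * r * t⁻¹ = r⁻¹ * (r * t * (r * t)) * (t * t)⁻¹ by group, e, ht2]
    group
  have hr3 := F.exp r hr0
  have hinv2 : t * (r ^ 2)⁻¹ * t⁻¹ = r ^ 2 := by
    rw [← inv_pow, ← conj_pow, show t * r⁻¹ * t⁻¹ = (t * r * t⁻¹)⁻¹ by group, hinv, inv_inv]
  refine ⟨(r ^ 2)⁻¹ * g, ?_, ?_⟩
  · have hs : r ^ 2 * t * (r ^ 2)⁻¹ = g * t * g⁻¹ := by
      rw [show r ^ 2 * t * (r ^ 2)⁻¹ = r ^ 2 * (t * (r ^ 2)⁻¹ * t⁻¹) * t by group, hinv2, ← pow_add,
        show 2 + 2 = 3 + 1 from rfl, pow_succ, hr3, one_mul, hr, inv_mul_cancel_right]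
    calc t * ((r ^ 2)⁻¹ * g) = (r ^ 2)⁻¹ * (r ^ 2 * t * (r ^ 2)⁻¹) * g := by group
      _ = (r ^ 2)⁻¹ * (g * t * g⁻¹) * g := by rw [hs]
      _ = _ := by group
  · have : (r ^ 2)⁻¹ ∈ (h.psi F).ker := by rw [h.psi_ker F]; exact inv_mem (pow_mem hr0 2)
    rw [map_mul, MonoidHom.mem_ker.1 this, one_mul]

/-- A centralising element of order three over `gA`. -/
theorem exists_a (ht2 : t * t = 1) : ∃ a : X, t * a = a * t ∧ h.psi F a = gA ∧ a ^ 3 = 1 := by
  classical
  have hker : ∀ g, g ∈ h.π.ker ↔ h.psi F g = 1 := fun g => by rw [← h.psi_ker F, MonoidHom.mem_ker]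
  obtain ⟨w, hw, hwR⟩ := SetLike.not_le_iff_exists.1 (show ¬ h.E ≤ h.π.ker from fun hle => by
    have he : h.E = h.π.ker := eq_of_le_of_card_ge hle (by rw [h.card_E, F.card])
    have := h.E_comm F.x (he.ge F.hx) F.y (he.ge F.hy)
    rw [F.xy, mul_assoc, mul_eq_right] at this
    exact F.z1 this)
  have hw1 : h.psi F w ≠ 1 := fun e => hwR ((hker w).2 e)
  have hw3 : h.psi F w ^ 3 = 1 := by rw [← map_pow, h.E_exp w hw, map_one]
  obtain ⟨k, hk⟩ := conj_gA _ hw1 hw3
  obtain ⟨k, rfl⟩ := h.psi_surj F k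
  obtain ⟨v, hv, hvA⟩ : ∃ v ∈ h.E, h.psi F (k * v * k⁻¹) = gA := by
    rcases hk with hk | hk
    · exact ⟨w, hw, by simpa using hk⟩
    · exact ⟨w⁻¹, inv_mem hw, by simpa using hk⟩
  set E := h.E.map (MulAut.conj k).toMonoidHom
  have hE : ∀ a ∈ E, ∀ b ∈ E, a * b = b * a := by
    rintro _ ⟨a, ha, rfl⟩ _ ⟨b, hb, rfl⟩
    rw [← map_mul, h.E_comm a ha b hb, map_mul]
  have hE3 : ∀ a ∈ E, a ^ 3 = 1 := by
    rintro _ ⟨a, ha, rfl⟩
    rw [← map_pow, h.E_exp a ha, map_one]
  have hwE : k * v * k⁻¹ ∈ E := ⟨v, hv, rfl⟩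
  set w' := k * v * k⁻¹
  have hEc : Nat.card E = 27 := by
    rw [card_map_of_injective (MulAut.conj k).injective, h.card_E]
  have hA : Nat.card (E ⊓ h.π.ker : Subgroup X) = 9 ∨ E ≤ h.π.ker := by
    have h1 := ((h.psi F).comp E.subtype).ker.card_mul_index
    rw [index_ker, hEc] at h1
    have e : ((h.psi F).comp E.subtype).ker = (E ⊓ h.π.ker).subgroupOf E := by
      ext a; simp [MonoidHom.mem_ker, mem_subgroupOf, hker]
    rw [e, Nat.card_congr (subgroupOfEquivOfLe inf_le_left).toEquiv] at h1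
    have h2 := card_subgroup_dvd_card ((h.psi F).comp E.subtype).range
    have h3 : Fintype.card SL = 24 := by decide +kernel
    rw [Nat.card_eq_fintype_card (α := SL), h3] at h2
    set n := Nat.card ((h.psi F).comp E.subtype).range
    have hn : n ∣ 3 := (Nat.dvd_gcd h2 (Dvd.intro_left _ h1)).trans (by norm_num)
    rcases (Nat.dvd_prime Nat.prime_three).1 hn with h4 | h4
    · refine Or.inr ?_
      rw [h4, mul_one] at h1
      exact inf_eq_left.1 (eq_of_le_of_card_ge inf_le_left (by rw [h1, hEc]))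
    · exact Or.inl (by rw [h4] at h1; omega)
  have hwn : w' ∉ h.π.ker := fun e => by
    rw [hker, hvA] at e; exact absurd e (by decide +kernel)
  have h9 := hA.resolve_right fun hle => hwn (hle hwE)
  set A := E ⊓ h.π.ker
  -- the intersection contains the centre
  have hcomm : ∀ a ∈ A, ∀ b ∈ A, det2 (F.co a) (F.co b) = 0 := fun a ha b hb => by
    have := F.comm_eq ha.2 hb.2
    rw [hE a ha.1 b hb.1, right_eq_mul] at this
    exact zp_injective F.z3 F.z1 (this.trans (zp_zero F.z).symm)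
  have hzA : ∀ m, zp F.z m ∈ A := by
    by_contra hno
    have hinj : Function.Injective fun a : A => F.co (a : X) := by
      intro a b e
      obtain ⟨c, hc⟩ := F.exists_eq a.2.2
      obtain ⟨d, hd⟩ := F.exists_eq b.2.2
      simp only at e
      rw [← e] at hd
      by_contra hab
      apply hno
      have hm : zp F.z (-c + d) ∈ A := by
        have := mul_mem (inv_mem a.2) b.2
        rwa [hc, hd, mul_inv_rev, mul_assoc, inv_mul_cancel_left, ← zp_neg F.z3, ← zp_add F.z3] at this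
      have hne : -c + d ≠ 0 := fun e0 => hab (Subtype.ext (by
        rw [hc, hd, show c = d from (by decide : ∀ c d : ZMod 3, -c + d = 0 → c = d) c d e0]))
      intro m
      rcases (by decide : ∀ k : ZMod 3, k ≠ 0 → ∀ m, m = 0 ∨ m = k ∨ m = k + k) _ hne m with rfl | rfl | rfl
      · simp
      · exact hm
      · rw [zp_add F.z3]; exact mul_mem hm hm
    have hb : Function.Bijective fun a : A => F.co (a : X) := hinj.bijective_of_nat_card_le (by
      rw [h9]; simp)
    obtain ⟨a, ha⟩ := hb.2 ![1, 0]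
    obtain ⟨b, hb⟩ := hb.2 ![0, 1]
    simp only at ha hb
    have := hcomm a a.2 b b.2
    rw [ha, hb] at this
    simp [det2] at this
  obtain ⟨q, hq, hq0⟩ : ∃ q ∈ A, F.co q ≠ 0 := by
    by_contra hno
    push Not at hno
    have hle : A ≤ zpowers F.z := fun a ha => by
      obtain ⟨c, hc⟩ := F.exists_eq ha.2
      rw [hno a ha, F.u_zero, one_mul] at hc
      rw [hc]; exact pow_mem (mem_zpowers F.z) _
    have hcard := card_le_of_le hle
    haveI : Fact (Nat.Prime 3) := ⟨Nat.prime_three⟩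
    rw [h9, Nat.card_zpowers, orderOf_eq_prime F.z3 F.z1] at hcard
    omega
  -- its coordinates are fixed by `gA`
  obtain ⟨s, hs⟩ : ∃ s : ZMod 3, F.co q = ![s, 0] := by
    have h1 : w' * q * w'⁻¹ = q := by rw [hE w' hwE q hq.1, mul_inv_cancel_right]
    have h2 := congrArg F.co h1
    rw [h.co_act F w' hq.2, hvA] at h2
    exact ⟨F.co q 0, (by decide +kernel : ∀ c : V3, act gA c = c → c = ![c 0, 0]) _ h2⟩
  have hxA : ∀ a : ZMod 3, F.u ![a, 0] ∈ A := by
    obtain ⟨c, hc⟩ := F.exists_eq hq.2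
    have hxs : zp F.x s ∈ A := by
      rw [← F.co_zpow_x, ← hs, show F.u (F.co q) = q * zp F.z (-c) by
        rw [zp_neg F.z3, eq_mul_inv_iff_mul_eq]; exact hc.symm]
      exact mul_mem hq (hzA _)
    have hs0 : s ≠ 0 := fun e => hq0 (by rw [hs, e]; decide)
    intro a
    rw [F.co_zpow_x]
    rcases (by decide : ∀ k : ZMod 3, k ≠ 0 → ∀ m, m = 0 ∨ m = k ∨ m = k + k) s hs0 a with rfl | rfl | rfl
    · simp
    · exact hxs
    · rw [zp_add F.x3]; exact mul_mem hxs hxs
  obtain ⟨a, hta, hpa⟩ := exists_lift ht hx hy ht2 w'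
  rw [hvA] at hpa
  have hr : w' * a⁻¹ ∈ h.π.ker := by rw [hker, map_mul, map_inv, hvA, hpa, mul_inv_cancel]
  have hfix : F.u ![1, 0] * a = a * F.u ![1, 0] := by
    have := cov ht hx hy hta ![1, 0]
    rw [hpa, show act gA ![1, 0] = ![1, 0] by decide +kernel, mul_inv_eq_iff_eq_mul] at this
    exact this.symm
  have hrcomm : F.u ![1, 0] * (w' * a⁻¹) = w' * a⁻¹ * F.u ![1, 0] := by
    have h1 := hE _ (hxA 1).1 w' hwE
    calc F.u ![1, 0] * (w' * a⁻¹) = w' * F.u ![1, 0] * a⁻¹ := by rw [← mul_assoc, h1]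
      _ = w' * a⁻¹ * (a * F.u ![1, 0]) * a⁻¹ := by group
      _ = w' * a⁻¹ * (F.u ![1, 0] * a) * a⁻¹ := by rw [hfix]
      _ = _ := by group
  have hco : F.co (w' * a⁻¹) 1 = 0 := by
    have := F.comm_eq (F.u_mem ![1, 0]) hr
    rw [hrcomm, right_eq_mul, F.co_u] at this
    simpa [det2] using zp_injective F.z3 F.z1 (this.trans (zp_zero F.z).symm)
  have hrE : w' * a⁻¹ ∈ E := by
    obtain ⟨c, hc⟩ := F.exists_eq hr
    rw [hc, show F.co (w' * a⁻¹) = ![F.co (w' * a⁻¹) 0, 0] by funext k; fin_cases k <;> simp [hco]]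
    exact mul_mem (hxA _).1 (hzA c).1
  refine ⟨a, hta, hpa, hE3 a ?_⟩
  simpa using mul_mem (inv_mem hrE) hwE

omit hx hy ht in
theorem eq_of_lifts {g k : X} (m : ZMod 3) (e : g = k * zp F.z m) (hg : g ^ 4 = 1) (hk : k ^ 4 = 1) : g = k := by
  have hc : Commute k (zp F.z m) := (show Commute k F.z from h.central F k).pow_right _
  rw [e, hc.mul_pow, hk, one_mul, zp, ← pow_mul] at hg
  have h2 : zp F.z m = 1 := by
    rw [zp, pow_eq_pow_mod _ F.z3] at *
    have : m.val * 4 % 3 = m.val % 3 := by omega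
    rwa [this] at hg
  rw [e, h2, mul_one]

theorem exists_rel (ht2 : t * t = 1) : ∃ i j a : X, Rel i j a ∧ (t * i = i * t ∧ t * a = a * t) ∧
    h.psi F i = gI ∧ h.psi F j = gJ ∧ h.psi F a = gA := by
  obtain ⟨a, hta, hpa, ha3⟩ := exists_a ht hx hy ht2
  obtain ⟨g0, hg0⟩ := h.psi_surj F gI
  obtain ⟨i0, hti0, hpi0⟩ := exists_lift ht hx hy ht2 g0
  rw [hg0] at hpi0
  have hcomm : ∀ g k : X, t * g = g * t → t * k = k * t → h.psi F g = h.psi F k → ∃ m, g = k * zp F.z m := by
    intro g k hg hk e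
    have hm : k⁻¹ * g ∈ h.π.ker := by rw [← h.psi_ker F, MonoidHom.mem_ker, map_mul, map_inv, e, inv_mul_cancel]
    obtain ⟨m, hm⟩ := fixed ht hx hy hm ((show Commute t k from hk).inv_right.mul_right hg).eq
    exact ⟨m, by rw [← hm, mul_inv_cancel_left]⟩
  obtain ⟨i, hidef⟩ : ∃ i, i = i0 ^ 9 := ⟨_, rfl⟩
  have hti : t * i = i * t := by rw [hidef]; exact ((show Commute t i0 from hti0).pow_right 9).eq
  have hpi : h.psi F i = gI := by rw [hidef, map_pow, hpi0]; decide +kernel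
  have hi4 : i ^ 4 = 1 := by
    obtain ⟨m, hm⟩ := hcomm (i0 ^ 4) 1 ((show Commute t i0 from hti0).pow_right 4).eq (by simp)
      (by rw [map_pow, hpi0, map_one]; decide +kernel)
    rw [hidef, ← pow_mul, show 9 * 4 = 4 * 9 from rfl, pow_mul, hm, one_mul, show 9 = 3 * 3 from rfl, pow_mul,
      F.exp (zp F.z m) (pow_mem F.hz _), one_pow]
  have hii : i * i = t := by
    obtain ⟨m, hm⟩ := hcomm (i * i) t ((show Commute t i from hti).mul_right hti).eq rfl
      (by rw [map_mul, hpi, ht]; decide +kernel)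
    refine eq_of_lifts m hm ?_ ?_
    · rw [← pow_two, ← pow_mul, show 2 * 4 = 4 * 2 from rfl, pow_mul, hi4, one_pow]
    · rw [show 4 = 2 * 2 from rfl, pow_mul, pow_two t, ht2, one_pow]
  obtain ⟨j, hj⟩ : ∃ j, j = a * i * a⁻¹ := ⟨_, rfl⟩
  have htj : t * j = j * t := by
    rw [hj]
    exact (((show Commute t a from hta).mul_right hti).mul_right (show Commute t a from hta).inv_right).eq
  have hpj : h.psi F j = gJ := by rw [hj, map_mul, map_mul, map_inv, hpa, hpi]; decide +kernel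
  have hj4 : j ^ 4 = 1 := by rw [hj, conj_pow, hi4]; group
  have hjj : j * j = i * i := by
    rw [hii, hj, show a * i * a⁻¹ * (a * i * a⁻¹) = a * (i * i) * a⁻¹ by group, hii, ← hta, mul_inv_cancel_right]
  have hji : j * i * j⁻¹ = i⁻¹ := by
    obtain ⟨m, hm⟩ := hcomm (j * i * j⁻¹) i⁻¹
      (((show Commute t j from htj).mul_right hti).mul_right (show Commute t j from htj).inv_right).eq
      (show Commute t i from hti).inv_right.eq
      (by rw [map_mul, map_mul, map_inv, map_inv, hpj, hpi]; decide +kernel)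
    refine eq_of_lifts m hm ?_ ?_
    · rw [conj_pow, hi4]; group
    · rw [inv_pow, hi4, inv_one]
  have hij : i * j * (i * j) = i * i := by
    calc i * j * (i * j) = i * (j * i * j⁻¹) * (j * j) := by group
      _ = i * i := by rw [hji, hjj]; group
  have haj : a * j * a⁻¹ = i * j := by
    obtain ⟨m, hm⟩ := hcomm (a * j * a⁻¹) (i * j)
      (((show Commute t a from hta).mul_right htj).mul_right (show Commute t a from hta).inv_right).eq
      ((show Commute t i from hti).mul_right htj).eq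
      (by rw [map_mul, map_mul, map_mul, map_inv, hpa, hpj, hpi]; decide +kernel)
    refine eq_of_lifts m hm ?_ ?_
    · rw [conj_pow, hj4]; group
    · rw [show 4 = 2 * 2 from rfl, pow_mul, pow_two (i * j), hij, hii, pow_two, ht2]
  exact ⟨i, j, a, ⟨hi4, hjj, mul_inv_eq_iff_eq_mul.1 hji, ha3, hj.symm, haj⟩, ⟨hti, hta⟩, hpi, hpj, hpa⟩

theorem exists_data_of (ht2 : t * t = 1) : ∃ D : Data X, Function.Bijective D.ev := by
  obtain ⟨i, j, a, hrel, ⟨hti, hta⟩, hpi, hpj, hpa⟩ := exists_rel ht hx hy ht2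
  let e := Equiv.ofBijective (ev gI gJ gA) bijective_SL
  let ρ : SL →* X := MonoidHom.mk' (fun g => ev i j a (e.symm g)) fun g k => by
    rw [hrel.ev_mul]
    congr 1
    rw [Equiv.symm_apply_eq]
    show g * k = ev gI gJ gA _
    rw [← rel_SL.ev_mul]
    exact congrArg₂ (· * ·) (e.apply_symm_apply g).symm (e.apply_symm_apply k).symm
  have hρc : ∀ g, t * ρ g = ρ g * t := fun g => by
    have hj : Commute t j := by
      rw [← hrel.ai]
      exact ((show Commute t a from hta).mul_right hti).mul_right (show Commute t a from hta).inv_right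
    exact ((((show Commute t i from hti).pow_right _).mul_right (hj.pow_right _)).mul_right
      ((show Commute t a from hta).pow_right _)).eq
  have hρp : ∀ g, h.psi F (ρ g) = g := fun g => by
    show h.psi F (ev i j a (e.symm g)) = g
    conv_rhs => rw [← e.apply_symm_apply g]
    show _ = ev gI gJ gA (e.symm g)
    simp only [ev, map_mul, map_pow, hpi, hpj, hpa]
  refine ⟨⟨F.u, F.z, ρ, F.z3, h.central F, F.umul, fun g v => ?_⟩, ?_⟩
  · have := cov ht hx hy (hρc g) v
    rw [hρp, mul_inv_eq_iff_eq_mul] at this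
    exact this
  · refine Function.Injective.bijective_of_nat_card_le ?_ (by rw [h.card_eq F, card_prm])
    rintro ⟨v, c, g⟩ ⟨w, d, k⟩ he
    simp only [Data.ev] at he
    have hk : ∀ (v : V3) (c : ZMod 3), h.psi F (F.u v * zp F.z c) = 1 := fun v c => by
      rw [← MonoidHom.mem_ker, h.psi_ker F]; exact F.el_mem (v, c)
    have hgk := congrArg (h.psi F) he
    rw [map_mul, hk, map_mul, hk, one_mul, one_mul, hρp, hρp] at hgk
    subst hgk
    have := F.el_injective (a₁ := (v, c)) (a₂ := (w, d)) (mul_right_cancel he)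
    rw [Prod.ext_iff] at this
    exact Prod.ext this.1 (Prod.ext this.2 rfl)

end Ext

theorem Ext.exists_data (h : Ext X) (F : Frame h.π.ker) : ∃ D : Data X, Function.Bijective D.ev := by
  obtain ⟨t, ht, ht2⟩ := h.exists_involution F
  have h1 : h.psi F t ≠ 1 := fun e => by
    have hk : t ∈ (h.psi F).ker := e
    rw [h.psi_ker F, MonoidHom.mem_ker, ht] at hk
    exact absurd hk (by decide +kernel)
  have h2 : h.psi F t * h.psi F t = 1 := by rw [← map_mul, ht2, map_one]
  have h3 : h.psi F t = -1 := (by decide +kernel : ∀ g : SL, g * g = 1 → g ≠ 1 → g = -1) _ h2 h1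
  obtain ⟨F', hx, hy, ht'⟩ := Ext.exists_frame h3 ht2
  exact Ext.exists_data_of ht' hx hy ht2

end Cfsg.Agent.Fus.HeisSL
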