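import Cfsg.Agent.Lib.Fus.HeisSLTwoModel
import Cfsg.Prelude.Def_Classical

/-!
# The centraliser of a central element of order three in `PSp(4, 3)`

It is the split extension of the Heisenberg group of order 27 by `SL(2, 3)`.
-/

set_option autoImplicit false
set_option linter.style.haveILetI false
set_option linter.unusedSectionVars false

open Subgroup Matrix

namespace Cfsg.Agent.Fus.HeisSL

/-- The matrices. -/
abbrev M4 : Type := Matrix (Fin 2 ⊕ Fin 2) (Fin 2 ⊕ Fin 2) (ZMod 3)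

/-- The symplectic group. -/
abbrev Sp43 : Type := Matrix.symplecticGroup (Fin 2) (ZMod 3)

/-- The matrix of a triple. -/
def mx (x : Prm) : M4 :=
  let g : Matrix (Fin 2) (Fin 2) (ZMod 3) := x.2.2
  Matrix.fromBlocks !![1, g 1 0 * x.1 0 - g 0 0 * x.1 1; 0, g 0 0]
    !![-x.2.1, g 1 1 * x.1 0 - g 0 1 * x.1 1; x.1 0, g 0 1] !![0, 0; 0, g 1 0] !![1, 0; x.1 1, g 1 1]

/-- The matrix of the transvection. -/
def tv : M4 := mx (0, 1, 1)

theorem mx_symp : ∀ x : Prm, mx x * Matrix.J (Fin 2) (ZMod 3) * (mx x)ᵀ = Matrix.J (Fin 2) (ZMod 3) := by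
  decide +kernel

theorem mx_comm : ∀ x : Prm, mx x * tv = tv * mx x := by decide +kernel

theorem mx_split : ∀ x : Prm, mx x = mx (x.1, 0, 1) * mx (0, x.2.1, 1) * mx (0, 0, x.2.2) := by decide +kernel

theorem mx_u : ∀ v w : V3, mx (v, 0, 1) * mx (w, 0, 1) = mx (v + w, 2 * det2 v w, 1) := by decide +kernel

theorem mx_z : ∀ a : ZMod 3, mx (0, a, 1) = tv ^ a.val := by decide +kernel

theorem mx_rho : ∀ g k : SL, mx (0, 0, g) * mx (0, 0, k) = mx (0, 0, g * k) := by decide +kernel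

theorem mx_conj : ∀ (g : SL) (v : V3), mx (0, 0, g) * mx (v, 0, 1) = mx (act g v, 0, 1) * mx (0, 0, g) := by
  decide +kernel

theorem mx_one : mx (0, 0, 1) = 1 := by decide +kernel

theorem mx_central : ∀ x : Prm, mx x * Matrix.J (Fin 2) (ZMod 3) = Matrix.J (Fin 2) (ZMod 3) * mx x →
    mx x * mx (![1, 0], 0, 1) = mx (![1, 0], 0, 1) * mx x → mx x * mx (![0, 1], 0, 1) = mx (![0, 1], 0, 1) * mx x →
    mx x = 1 := by decide +kernel

theorem pmul_central : ∀ x : Prm, pmul x (![1, 0], 0, 1) = pmul (![1, 0], 0, 1) x →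
    pmul x (![0, 1], 0, 1) = pmul (![0, 1], 0, 1) x → x.1 = 0 ∧ x.2.2 = 1 := by decide +kernel

theorem mx_injective : Function.Injective mx := by
  rintro ⟨v, c, g⟩ ⟨w, d, k⟩ e
  have h : ∀ i j, mx (v, c, g) i j = mx (w, d, k) i j := fun i j => by rw [e]
  have hp := h (Sum.inl 1) (Sum.inr 0)
  have hq := h (Sum.inr 1) (Sum.inr 0)
  have hc := h (Sum.inl 0) (Sum.inr 0)
  have ha := h (Sum.inl 1) (Sum.inl 1)
  have hb := h (Sum.inl 1) (Sum.inr 1)
  have hcc := h (Sum.inr 1) (Sum.inl 1)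
  have hd := h (Sum.inr 1) (Sum.inr 1)
  simp [mx] at hp hq hc ha hb hcc hd
  refine Prod.ext (funext fun i => by fin_cases i <;> assumption) (Prod.ext hc (Subtype.ext ?_))
  ext i j
  fin_cases i <;> fin_cases j <;> assumption

/-- The transvection commutes only with the signed matrices of triples. -/
theorem exists_of_comm (A : M4) (hA : A * Matrix.J (Fin 2) (ZMod 3) * Aᵀ = Matrix.J (Fin 2) (ZMod 3))
    (hT : A * tv = tv * A) : ∃ x, A = mx x ∨ A = -mx x := by
  have hJ : ∀ i k, -(A i (Sum.inl 0) * A k (Sum.inr 0)) - A i (Sum.inl 1) * A k (Sum.inr 1) +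
      A i (Sum.inr 0) * A k (Sum.inl 0) + A i (Sum.inr 1) * A k (Sum.inl 1) = Matrix.J (Fin 2) (ZMod 3) i k := by
    intro i k
    rw [← hA]
    simp [Matrix.mul_apply, Matrix.J, Fintype.sum_sum_type, Fin.sum_univ_two, Matrix.fromBlocks]
    ring
  have hc : ∀ i j, (A * tv) i j = (tv * A) i j := fun i j => by rw [hT]
  have htv : tv = Matrix.fromBlocks 1 !![-1, 0; 0, 0] 0 1 := by decide +kernel
  have h10 : A (Sum.inl 1) (Sum.inl 0) = 0 := by
    have := hc (Sum.inl 1) (Sum.inr 0)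
    simpa [htv, Matrix.mul_apply, Fintype.sum_sum_type, Fin.sum_univ_two, Matrix.fromBlocks, Matrix.one_apply] using this
  have h20 : A (Sum.inr 0) (Sum.inl 0) = 0 := by
    have := hc (Sum.inr 0) (Sum.inr 0)
    simpa [htv, Matrix.mul_apply, Fintype.sum_sum_type, Fin.sum_univ_two, Matrix.fromBlocks, Matrix.one_apply] using this
  have h30 : A (Sum.inr 1) (Sum.inl 0) = 0 := by
    have := hc (Sum.inr 1) (Sum.inr 0)
    simpa [htv, Matrix.mul_apply, Fintype.sum_sum_type, Fin.sum_univ_two, Matrix.fromBlocks, Matrix.one_apply] using this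
  have h21 : A (Sum.inr 0) (Sum.inl 1) = 0 := by
    have := hc (Sum.inl 0) (Sum.inl 1)
    simpa [htv, Matrix.mul_apply, Fintype.sum_sum_type, Fin.sum_univ_two, Matrix.fromBlocks, Matrix.one_apply] using this
  have h23 : A (Sum.inr 0) (Sum.inr 1) = 0 := by
    have := hc (Sum.inl 0) (Sum.inr 1)
    simpa [htv, Matrix.mul_apply, Fintype.sum_sum_type, Fin.sum_univ_two, Matrix.fromBlocks, Matrix.one_apply] using this
  have h00 : A (Sum.inl 0) (Sum.inl 0) = A (Sum.inr 0) (Sum.inr 0) := by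
    have := hc (Sum.inl 0) (Sum.inr 0)
    simp [htv, Matrix.mul_apply, Fintype.sum_sum_type, Fin.sum_univ_two, Matrix.fromBlocks, Matrix.one_apply] at this
    linear_combination -this
  obtain ⟨s, hs⟩ : ∃ s, A (Sum.inr 0) (Sum.inr 0) = s := ⟨_, rfl⟩
  have e02 := hJ (Sum.inl 0) (Sum.inr 0)
  have e13 := hJ (Sum.inl 1) (Sum.inr 1)
  have e01 := hJ (Sum.inl 0) (Sum.inl 1)
  have e03 := hJ (Sum.inl 0) (Sum.inr 1)
  simp [Matrix.J, Matrix.fromBlocks, h10, h20, h30, h21, h23, h00, hs] at e02 e13 e01 e03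
  have hs2 : s = 1 ∨ s = -1 := (by decide : ∀ s : ZMod 3, s * s = 1 → s = 1 ∨ s = -1) s
    e02
  set a := A (Sum.inl 1) (Sum.inl 1)
  set b := A (Sum.inl 1) (Sum.inr 1)
  set c := A (Sum.inr 1) (Sum.inl 1)
  set d := A (Sum.inr 1) (Sum.inr 1)
  let g : SL := ⟨!![s * a, s * b; s * c, s * d], by
    rw [Matrix.det_fin_two_of]
    rcases hs2 with rfl | rfl <;> linear_combination -e13⟩
  refine ⟨(![s * A (Sum.inl 1) (Sum.inr 0), s * A (Sum.inr 1) (Sum.inr 0)], -(s * A (Sum.inl 0) (Sum.inr 0)), g), ?_⟩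
  rcases hs2 with rfl | rfl
  · refine Or.inl ?_
    ext (i | i) (j | j) <;> fin_cases i <;> fin_cases j <;>
      simp [mx, g, h10, h20, h30, h21, h23, h00, hs, a, b, c, d]
    · linear_combination c * e01 - a * e03 + A (Sum.inl 0) (Sum.inl 1) * e13
    · linear_combination d * e01 - b * e03 + A (Sum.inl 0) (Sum.inr 1) * e13
  · refine Or.inr ?_
    ext (i | i) (j | j) <;> fin_cases i <;> fin_cases j <;>
      simp [mx, g, h10, h20, h30, h21, h23, h00, hs, a, b, c, d]
    · linear_combination c * e01 - a * e03 + A (Sum.inl 0) (Sum.inl 1) * e13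
    · linear_combination d * e01 - b * e03 + A (Sum.inl 0) (Sum.inr 1) * e13

/-- The element of a triple. -/
def sx (x : Prm) : Sp43 := ⟨mx x, SymplecticGroup.mem_iff.2 (mx_symp x)⟩

/-- The central involution. -/
def sneg : Sp43 := ⟨-1, SymplecticGroup.mem_iff.2 (by simp)⟩

theorem sneg_mem : sneg ∈ center Sp43 :=
  mem_center_iff.2 fun g => Subtype.ext (by simp [sneg])

theorem eq_sign {g : Sp43} (hg : g.1 * tv = tv * g.1) : ∃ x, g = sx x ∨ g = sneg * sx x := by
  obtain ⟨x, hx | hx⟩ := exists_of_comm g.1 (SymplecticGroup.mem_iff.1 g.2) hg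
  · exact ⟨x, Or.inl (Subtype.ext hx)⟩
  · exact ⟨x, Or.inr (Subtype.ext (by simp [sneg, sx, hx]))⟩

theorem center_sign {g : Sp43} (hg : g ∈ center Sp43) : g = 1 ∨ g = sneg := by
  obtain ⟨x, hx⟩ := eq_sign (g := g) (congrArg Subtype.val ((mem_center_iff.1 hg (sx (0, 1, 1))).symm))
  have hx' : sx x ∈ center Sp43 := by
    rcases hx with rfl | rfl
    · exact hg
    · exact (mul_mem_cancel_left sneg_mem).1 hg
  have hc : ∀ k : Sp43, (sx x).1 * k.1 = k.1 * (sx x).1 := fun k =>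
    (congrArg Subtype.val (mem_center_iff.1 hx' k)).symm
  have h1 : sx x = 1 := Subtype.ext (mx_central x (hc (SymplecticGroup.symJ _ _)) (hc (sx _)) (hc (sx _)))
  rcases hx with rfl | rfl
  · exact Or.inl h1
  · exact Or.inr (by rw [h1, mul_one])

/-- The projection. -/
def qq : Sp43 →* Sp43 ⧸ center Sp43 := QuotientGroup.mk' _

theorem qq_sneg : qq sneg = 1 := (QuotientGroup.eq_one_iff _).2 sneg_mem

/-- The element of order three. -/
def cc : Sp43 ⧸ center Sp43 := qq (sx (0, 1, 1))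

theorem qq_sx_injective : Function.Injective fun x => qq (sx x) := by
  intro x y e
  have h1 : (sx x)⁻¹ * sx y ∈ center Sp43 := QuotientGroup.eq.1 e
  rcases center_sign h1 with h2 | h2
  · exact mx_injective (congrArg Subtype.val (inv_mul_eq_one.1 h2))
  · exfalso
    rw [inv_mul_eq_iff_eq_mul] at h2
    have := congrFun (congrFun (congrArg Subtype.val h2) (Sum.inl 0)) (Sum.inl 0)
    simp [sx, sneg, mx] at this
    exact absurd this (by decide)

/-- The centraliser. -/
abbrev CC : Subgroup (Sp43 ⧸ center Sp43) := centralizer {cc}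

theorem qq_sx_mem (x : Prm) : qq (sx x) ∈ CC := by
  refine mem_centralizer_iff.2 fun y hy => ?_
  rw [Set.mem_singleton_iff.1 hy, cc, ← map_mul, ← map_mul]
  exact congrArg qq (Subtype.ext (mx_comm x).symm)

theorem qq_sx_mul {x y z : Prm} (h : mx x * mx y = mx z) : qq (sx x) * qq (sx y) = qq (sx z) := by
  rw [← map_mul]; exact congrArg qq (Subtype.ext h)

theorem qq_sx_z (a : ZMod 3) : qq (sx (0, a, 1)) = cc ^ a.val := by
  rw [cc, ← map_pow]; exact congrArg qq (Subtype.ext (by rw [SubmonoidClass.coe_pow]; exact mx_z a))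

/-- The data. -/
def data : Data ↥CC where
  u v := ⟨qq (sx (v, 0, 1)), qq_sx_mem _⟩
  z := ⟨cc, qq_sx_mem _⟩
  ρ := MonoidHom.mk' (fun g => ⟨qq (sx (0, 0, g)), qq_sx_mem _⟩)
    (fun g k => Subtype.ext (qq_sx_mul (mx_rho g k)).symm)
  z3 := Subtype.ext (by
    show cc ^ 3 = 1
    rw [cc, ← map_pow, ← map_one qq]
    exact congrArg qq (Subtype.ext (by rw [SubmonoidClass.coe_pow]; exact (show tv ^ 3 = 1 by decide +kernel))))
  central g := Subtype.ext (mem_centralizer_iff.1 g.2 cc rfl).symm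
  umul v w := Subtype.ext (by
    show qq (sx (v, 0, 1)) * qq (sx (w, 0, 1)) = qq (sx (v + w, 0, 1)) * cc ^ (2 * det2 v w).val
    rw [qq_sx_mul (mx_u v w), ← qq_sx_z, ← map_mul]
    refine congrArg qq (Subtype.ext ?_)
    have := mx_split (v + w, 2 * det2 v w, 1)
    rw [mx_one, mul_one] at this
    exact this)
  conj g v := Subtype.ext (by
    show qq (sx (0, 0, g)) * qq (sx (v, 0, 1)) = qq (sx (act g v, 0, 1)) * qq (sx (0, 0, g))
    rw [← map_mul, ← map_mul]
    exact congrArg qq (Subtype.ext (mx_conj g v)))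

theorem data_ev (x : Prm) : ((data.ev x : CC) : Sp43 ⧸ center Sp43) = qq (sx x) := by
  show qq (sx (x.1, 0, 1)) * cc ^ x.2.1.val * qq (sx (0, 0, x.2.2)) = qq (sx x)
  rw [← qq_sx_z, ← map_mul, ← map_mul]
  exact congrArg qq (Subtype.ext (mx_split x).symm)

theorem data_bijective : Function.Bijective data.ev := by
  refine ⟨fun x y e => qq_sx_injective (by
    show qq (sx x) = qq (sx y)
    rw [← data_ev, ← data_ev, e]), fun ⟨y, hy⟩ => ?_⟩
  obtain ⟨g, rfl⟩ := QuotientGroup.mk_surjective y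
  have hy' : qq g * cc = cc * qq g := (mem_centralizer_iff.1 hy cc rfl).symm
  rw [cc, ← map_mul, ← map_mul] at hy'
  have hε := QuotientGroup.eq.1 hy'
  set T : Sp43 := sx (0, 1, 1)
  have hgt : g.1 * tv = tv * g.1 := by
    rcases center_sign hε with h1 | h1
    · exact congrArg Subtype.val (inv_mul_eq_one.1 h1)
    · exfalso
      rw [inv_mul_eq_iff_eq_mul] at h1
      have h2 : g⁻¹ * (T * g) = T * sneg := by rw [h1]; group
      have h3 := congrArg Matrix.trace (congrArg Subtype.val h2)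
      have hone : (g : M4) * ((g⁻¹ : Sp43) : M4) = 1 := congrArg Subtype.val (mul_inv_cancel g)
      rw [Submonoid.coe_mul, Submonoid.coe_mul, Submonoid.coe_mul, Matrix.trace_mul_comm, Matrix.mul_assoc, hone,
        Matrix.mul_one] at h3
      exact absurd h3 (by decide +kernel)
  obtain ⟨x, hx⟩ := eq_sign hgt
  refine ⟨x, Subtype.ext ((data_ev x).trans ?_)⟩
  show qq (sx x) = qq g
  rcases hx with rfl | rfl
  · rfl
  · rw [map_mul, qq_sneg, one_mul]

/-- The element lies in the centre of a Sylow 3-subgroup. -/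
theorem exists_sylow : ∃ S : Sylow 3 (Sp43 ⧸ center Sp43),
    cc ∈ (S : Subgroup (Sp43 ⧸ center Sp43)) ∧
      cc ∈ centralizer ((S : Subgroup (Sp43 ⧸ center Sp43)) : Set (Sp43 ⧸ center Sp43)) := by
  classical
  have e3 : ∀ a : ZMod 3, a + a + a = 0 := by decide
  have esq : ∀ c : ZMod 3, c ≠ 0 → c.val * c.val % 3 = 1 := by decide
  haveI : Fact (Nat.Prime 3) := ⟨Nat.prime_three⟩
  let el : V3 × ZMod 3 → Sp43 ⧸ center Sp43 := fun p => qq (sx (p.1, p.2, 1))
  have hel : ∀ p q, el p * el q = el (p.1 + q.1, p.2 + q.2 + 2 * det2 p.1 q.1) := by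
    intro p q
    have := congrArg (fun y : CC => (y : Sp43 ⧸ center Sp43)) (data.ev_mul (p.1, p.2, 1) (q.1, q.2, 1))
    simp only [Subgroup.coe_mul, data_ev, pmul, act_one, one_mul] at this
    exact this
  have he0 : el (0, 0) = 1 := by
    show qq (sx (0, 0, 1)) = 1
    rw [← map_one qq]; exact congrArg qq (Subtype.ext mx_one)
  have hinv : ∀ p, (el p)⁻¹ = el (-p.1, -p.2) := fun p => inv_eq_of_mul_eq_one_right (by
    rw [hel, show det2 p.1 (-p.1) = 0 by simp only [det2, Pi.neg_apply]; ring, ← he0]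
    simp)
  let R : Subgroup (Sp43 ⧸ center Sp43) :=
    { carrier := Set.range el
      one_mem' := ⟨_, he0⟩
      mul_mem' := by rintro _ _ ⟨p, rfl⟩ ⟨q, rfl⟩; exact ⟨_, (hel p q).symm⟩
      inv_mem' := by rintro _ ⟨p, rfl⟩; exact ⟨_, (hinv p).symm⟩ }
  have hR : IsPGroup 3 R := fun y => by
    obtain ⟨p, hp⟩ := y.2
    refine ⟨1, Subtype.ext ?_⟩
    rw [SubmonoidClass.coe_pow, ← hp, pow_one, pow_succ, pow_two, hel, hel, Subgroup.coe_one, ← he0]
    congr 1
    refine Prod.ext (funext fun k => e3 _) ?_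
    simp only [det2, Pi.add_apply]
    linear_combination e3 p.2
  obtain ⟨S, hS⟩ := hR.exists_le_sylow
  have hcR : cc ∈ R := ⟨(0, 1), rfl⟩
  refine ⟨S, hS hcR, ?_⟩
  haveI : Nontrivial (S : Subgroup (Sp43 ⧸ center Sp43)) := by
    refine ⟨⟨⟨cc, hS hcR⟩, 1, fun e => ?_⟩⟩
    have h1 : el (0, 1) = el (0, 0) := (congrArg Subtype.val e).trans he0.symm
    have := qq_sx_injective (a₁ := (0, 1, 1)) (a₂ := (0, 0, 1)) h1
    simp at this
  haveI := S.isPGroup'.center_nontrivial
  obtain ⟨⟨⟨s, hsS⟩, hsz⟩, hs1⟩ := exists_ne (1 : center (S : Subgroup (Sp43 ⧸ center Sp43)))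
  have hcomm : ∀ r ∈ (S : Subgroup (Sp43 ⧸ center Sp43)), r * s = s * r := fun r hr =>
    congrArg Subtype.val (mem_center_iff.1 hsz ⟨r, hr⟩)
  obtain ⟨x, hx⟩ := data_bijective.2 ⟨s, mem_centralizer_iff.2 fun y hy => by
    rw [Set.mem_singleton_iff.1 hy]; exact hcomm cc (hS hcR)⟩
  have hxs : qq (sx x) = s := by rw [← data_ev, hx]
  have hpm : ∀ v : V3, pmul x (v, 0, 1) = pmul (v, 0, 1) x := fun v => data_bijective.1 (Subtype.ext (by
    rw [← data.ev_mul, ← data.ev_mul, Subgroup.coe_mul, Subgroup.coe_mul, data_ev, data_ev, hxs]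
    exact (hcomm _ (hS ⟨(v, 0), rfl⟩)).symm))
  obtain ⟨hx1, hx2⟩ := pmul_central x (hpm _) (hpm _)
  obtain ⟨v, c, g⟩ := x
  simp only at hx1 hx2
  subst hx1 hx2
  rw [qq_sx_z] at hxs
  have hc0 : c ≠ 0 := fun e => hs1 (Subtype.ext (Subtype.ext (by
    show s = 1
    rw [← hxs, e]; simp)))
  have hcc : cc = s ^ c.val := by
    rw [← hxs, ← pow_mul]
    have h3 : cc ^ 3 = 1 := congrArg Subtype.val data.z3
    rw [pow_eq_pow_mod _ h3, esq c hc0,
      pow_one]
  rw [hcc]
  exact mem_centralizer_iff.2 fun r hr => ((show Commute r s from hcomm r hr).pow_right _).eq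

theorem orderOf_cc : orderOf cc = 3 := by
  haveI : Fact (Nat.Prime 3) := ⟨Nat.prime_three⟩
  refine orderOf_eq_prime (congrArg Subtype.val data.z3) fun e => ?_
  have h0 : qq (sx (0, 0, 1)) = 1 := by rw [← map_one qq]; exact congrArg qq (Subtype.ext mx_one)
  have := qq_sx_injective (a₁ := (0, 1, 1)) (a₂ := (0, 0, 1)) (e.trans h0.symm)
  simp at this

/-- The symplectic groups over isomorphic fields are isomorphic. -/
def spCongr {F : Type*} [Field F] (φ : ZMod 3 ≃+* F) : Sp43 ≃* Matrix.symplecticGroup (Fin 2) F where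
  toFun g := ⟨φ.mapMatrix g.1, by
    rw [SymplecticGroup.mem_iff]
    have h := congrArg φ.mapMatrix (SymplecticGroup.mem_iff.1 g.2)
    simpa [Matrix.transpose_map, Matrix.map_mul] using h⟩
  invFun g := ⟨φ.symm.mapMatrix g.1, by
    rw [SymplecticGroup.mem_iff]
    have h := congrArg φ.symm.mapMatrix (SymplecticGroup.mem_iff.1 g.2)
    simpa [Matrix.transpose_map, Matrix.map_mul] using h⟩
  left_inv g := Subtype.ext (by ext i j; simp)
  right_inv g := Subtype.ext (by ext i j; simp)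
  map_mul' g k := Subtype.ext (by simp [Matrix.map_mul])

theorem center_map {G H : Type*} [Group G] [Group H] (e : G ≃* H) :
    (center G).map e.toMonoidHom = center H := by
  ext y
  rw [mem_map, mem_center_iff]
  constructor
  · rintro ⟨x, hx, rfl⟩ g
    obtain ⟨g, rfl⟩ := e.surjective g
    simp only [MulEquiv.coe_toMonoidHom, ← map_mul, mem_center_iff.1 hx g]
  · refine fun hy => ⟨e.symm y, mem_center_iff.2 fun g => e.injective ?_, e.apply_symm_apply y⟩
    simp only [map_mul, e.apply_symm_apply, hy]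

theorem centralizer_map {G H : Type*} [Group G] [Group H] (e : G ≃* H) (c : G) :
    (centralizer ({c} : Set G)).map e.toMonoidHom = centralizer ({e c} : Set H) := by
  ext y
  rw [mem_map, mem_centralizer_singleton_iff]
  constructor
  · rintro ⟨x, hx, rfl⟩
    simp only [MulEquiv.coe_toMonoidHom, ← map_mul, mem_centralizer_singleton_iff.1 hx]
  · refine fun hy => ⟨e.symm y, mem_centralizer_singleton_iff.2 (e.injective ?_), e.apply_symm_apply y⟩
    simp only [map_mul, e.apply_symm_apply, hy]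

/-- The centraliser in `PSp(4, 3)`. -/
theorem exists_centralizer {X : Type*} [Group X] (D : Data X) (hD : Function.Bijective D.ev)
    (F : Type*) [Field F] [Fintype F] (hF : Fintype.card F = 3) :
    ∃ (c : PSp 2 F) (S : Sylow 3 (PSp 2 F)), orderOf c = 3 ∧ c ∈ (S : Subgroup (PSp 2 F)) ∧
      c ∈ centralizer ((S : Subgroup (PSp 2 F)) : Set (PSp 2 F)) ∧
      Nonempty (X ≃* centralizer ({c} : Set (PSp 2 F))) := by
  obtain ⟨φ⟩ : Nonempty (ZMod 3 ≃+* F) := ⟨ZMod.ringEquivOfPrime F Nat.prime_three hF⟩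
  let e : Sp43 ⧸ center Sp43 ≃* PSp 2 F := QuotientGroup.congr _ _ (spCongr φ) (center_map (spCongr φ))
  obtain ⟨S, hS1, hS2⟩ := exists_sylow
  refine ⟨e cc, S.mapSurjective (f := e.toMonoidHom) e.surjective, ?_, ?_, ?_, ?_⟩
  · rw [MulEquiv.orderOf_eq, orderOf_cc]
  · exact mem_map_of_mem e.toMonoidHom hS1
  · rintro _ ⟨y, hy, rfl⟩
    exact (map_mul e _ _).symm.trans ((congrArg e (mem_centralizer_iff.1 hS2 y hy)).trans (map_mul e _ _))
  · obtain ⟨i⟩ := nonempty_equiv D hD data data_bijective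
    exact ⟨i.trans (((centralizer {cc}).equivMapOfInjective e.toMonoidHom e.injective).trans
      (MulEquiv.subgroupCongr (centralizer_map e cc)))⟩

end Cfsg.Agent.Fus.HeisSL
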