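import Mathlib
import Cfsg.Agent.Lib.Fus.AbelianIndexPEss
import Cfsg.Agent.Lib.Fus.SolvableSystem
import Cfsg.Agent.Lib.Fus.EssentialSmall
import Cfsg.Agent.Lib.Fus.Model

/-!
Saturated systems on Heisenberg-like groups (`S' ≤ Z(S)`, abelian centralizers of non-central
elements, `[x,S] = Z(S)`): a nontrivial normal subgroup makes the system constrained. The key
point is that an automizer with a common fixed point in `Z(S)` cannot move `Z(S)`.
-/

set_option autoImplicit false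
set_option linter.unusedSectionVars false

namespace Cfsg.Agent.Fus

open Cfsg Cfsg.FusionSystem
open scoped commutatorElement

universe u

/-- If a group `A` fixes `Z` and moves each element outside `Z` through its whole coset, the
`p`-elements stabilizing `Z` fix it, and some element is fixed by all of `X`, then `X` stabilizes
`Z`. -/
theorem map_eq_of_common_fixed {P : Type u} [Group P] [Finite P] {p : ℕ}
    (X A : Subgroup (MulAut P)) (Z : Subgroup P) (hAX : A ≤ X) (hA : IsPGroup p A)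
    (hfix : ∀ a ∈ A, ∀ z ∈ Z, a z = z) (hmove : ∀ v ∉ Z, ∀ z ∈ Z, ∃ a ∈ A, a v = v * z)
    (hstab : ∀ h ∈ X, (∃ k : ℕ, h ^ p ^ k = 1) → Z.map h.toMonoidHom = Z → ∀ z ∈ Z, h z = z)
    {z₀ : P} (hz₀ : z₀ ∈ Z) (hz1 : z₀ ≠ 1) (hall : ∀ g ∈ X, g z₀ = z₀) :
    ∀ g ∈ X, Z.map g.toMonoidHom = Z := by
  by_contra hno
  obtain ⟨g, ⟨hg, hgne⟩, hmax⟩ := (Set.toFinite
    {g : MulAut P | g ∈ X ∧ Z.map g.toMonoidHom ≠ Z}).exists_maximalFor
    (fun g => Nat.card ↥(Z ⊓ Z.map g.toMonoidHom)) _ (by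
      push Not at hno
      exact hno)
  obtain ⟨W, hW⟩ : ∃ W, W = Z.map g.toMonoidHom := ⟨_, rfl⟩
  rw [← hW] at hgne
  have hcard : Nat.card W = Nat.card Z :=
    hW ▸ Subgroup.card_map_of_injective g.injective
  obtain ⟨v, hvW, hvZ⟩ : ∃ v ∈ W, v ∉ Z := by
    by_contra h
    push Not at h
    exact hgne (Subgroup.eq_of_le_of_card_ge h hcard.ge)
  obtain ⟨a, ha, hav⟩ := hmove v hvZ z₀ hz₀
  have hz₀W : z₀ ∈ W := hW ▸ ⟨z₀, hz₀, hall g hg⟩
  have hne : W.map a.toMonoidHom ≠ W := by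
    intro heq
    obtain ⟨w, hw, hwv⟩ : v ∈ Z.map g.toMonoidHom := hW ▸ hvW
    have hh : Z.map (g⁻¹ * a * g).toMonoidHom = Z := by
      rw [show (g⁻¹ * a * g).toMonoidHom =
        (g⁻¹ : MulAut P).toMonoidHom.comp (a.toMonoidHom.comp g.toMonoidHom) from rfl,
        ← Subgroup.map_map, ← Subgroup.map_map, ← hW, heq, hW, Subgroup.map_map]
      conv_rhs => rw [← Subgroup.map_id Z]
      congr 1
      exact MonoidHom.ext fun z => MulAut.inv_apply_self P g z
    obtain ⟨k, hk⟩ := hA ⟨a, ha⟩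
    have h1 := hstab _ (X.mul_mem (X.mul_mem (X.inv_mem hg) (hAX ha)) hg) ⟨k, by
      rw [show g⁻¹ * a * g = g⁻¹ * a * g⁻¹⁻¹ by rw [inv_inv], conj_pow,
        show a ^ p ^ k = 1 from congrArg Subtype.val hk]
      group⟩ hh w hw
    have h2 : a v = v := by
      rw [← hwv]
      have h3 := congrArg g h1
      simp only [MulAut.mul_apply, MulAut.apply_inv_self] at h3
      exact h3
    exact hz1 (mul_eq_left.1 (hav.symm.trans h2))
  have hvz : v * z₀ ∈ W ⊓ W.map a.toMonoidHom :=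
    ⟨W.mul_mem hvW hz₀W, v, hvW, hav⟩
  have hlt : Z ⊓ W < W ⊓ W.map a.toMonoidHom := by
    refine lt_of_le_of_ne (fun i hi => ⟨hi.2, i, hi.2, hfix a ha i hi.1⟩) fun e => hvZ ?_
    have h := (e.symm ▸ hvz : v * z₀ ∈ Z ⊓ W).1
    simpa using Z.mul_mem h (Z.inv_mem hz₀)
  -- move the pair back to `Z`
  have hkey : (Z ⊓ Z.map (g⁻¹ * a * g).toMonoidHom).map g.toMonoidHom =
      W ⊓ W.map a.toMonoidHom := by
    rw [Subgroup.map_inf _ _ _ g.injective, ← hW, Subgroup.map_map, hW, Subgroup.map_map]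
    congr 2
    exact MonoidHom.ext fun z => MulAut.apply_inv_self P g (a (g z))
  have hne' : Z.map (g⁻¹ * a * g).toMonoidHom ≠ Z := by
    intro e
    rw [e, inf_idem, ← hW] at hkey
    exact hne (Subgroup.eq_of_le_of_card_ge (inf_eq_left.1 hkey.symm)
      (Subgroup.card_map_of_injective a.injective).le).symm
  have h4 : Nat.card ↥(Z ⊓ W) < Nat.card ↥(W ⊓ W.map a.toMonoidHom) := by
    refine lt_of_not_ge fun hge => hlt.ne (Subgroup.eq_of_le_of_card_ge hlt.le hge)
  have h5 := hmax (j := g⁻¹ * a * g) ⟨X.mul_mem (X.mul_mem (X.inv_mem hg) (hAX ha)) hg, hne'⟩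
  beta_reduce at h5
  rw [← hW, ← Subgroup.card_map_of_injective (K := Z ⊓ Z.map (g⁻¹ * a * g).toMonoidHom)
    (f := g.toMonoidHom) g.injective, hkey] at h5
  exact absurd (h5 h4.le) (not_le.2 h4)

variable {Ω : Type u} [Group Ω] {S : Subgroup Ω} [Finite S] {F : FusionSystem S} {p : ℕ}
  [hp : Fact p.Prime]

/-- A Heisenberg-like group. -/
structure HeisLike (G : Type*) [Group G] : Prop where
  comm : ∀ a b : G, ⁅a, b⁆ ∈ Subgroup.center G
  abel : ∀ x a b : G, x ∉ Subgroup.center G → x * a = a * x → x * b = b * x → a * b = b * a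
  surj : ∀ x : G, x ∉ Subgroup.center G → ∀ z ∈ Subgroup.center G, ∃ s : G, ⁅x, s⁆ = z
  nonab : ∃ a b : G, a * b ≠ b * a

theorem HeisLike.of_equiv {G H : Type*} [Group G] [Group H] (e : G ≃* H) (h : HeisLike H) :
    HeisLike G := by
  have hc : ∀ x : G, x ∈ Subgroup.center G ↔ e x ∈ Subgroup.center H := fun x => by
    rw [Subgroup.mem_center_iff, Subgroup.mem_center_iff]
    exact ⟨fun hx g => by
      obtain ⟨g, rfl⟩ := e.surjective g
      rw [← map_mul, hx, map_mul], fun hx g => e.injective (by rw [map_mul, hx, map_mul])⟩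
  refine ⟨fun a b => (hc _).2 ?_, fun x a b hx ha hb => e.injective ?_, fun x hx z hz => ?_, ?_⟩
  · rw [map_commutatorElement]
    exact h.comm _ _
  · rw [map_mul, map_mul]
    exact h.abel (e x) _ _ (fun hh => hx ((hc x).2 hh)) (by rw [← map_mul, ha, map_mul])
      (by rw [← map_mul, hb, map_mul])
  · obtain ⟨s, hs⟩ := h.surj (e x) (fun hh => hx ((hc x).2 hh)) (e z) ((hc z).1 hz)
    obtain ⟨s, rfl⟩ := e.surjective s
    rw [← map_commutatorElement] at hs
    exact ⟨s, e.injective hs⟩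
  · obtain ⟨a, b, hab⟩ := h.nonab
    exact ⟨e.symm a, e.symm b, fun hh => hab (by simpa using congrArg e hh)⟩

/-- Membership in the centre of `S`, inside the ambient group. -/
theorem mem_center_sub {x : S} : x ∈ Subgroup.center S ↔ ∀ y ∈ S, y * (x : Ω) = x * y := by
  rw [Subgroup.mem_center_iff]
  exact ⟨fun h y hy => congrArg Subtype.val (h ⟨y, hy⟩), fun h y => Subtype.ext (h y y.2)⟩

/-- A system on a Heisenberg-like group centralizing a nontrivial subgroup of `Z(S)` has no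
essential subgroup. -/
theorem HeisLike.not_essential (h : HeisLike S) (hS : IsPGroup p S) (hF : F.IsSaturated p)
    {Q : Subgroup Ω} (hQ : F.IsNormal Q) (hQZ : ∀ q ∈ Q, ∀ s ∈ S, s * q = q * s) (hQ1 : Q ≠ ⊥)
    {P : Subgroup Ω} (hP : F.IsEssential p P) : False := by
  have hPS := hP.1.1
  haveI := finite_of_le hPS
  obtain ⟨-, R, hR⟩ := fullyAutomized_of_fullyNormalized hS hF hP.2.1
  have hPne : P ≠ S := by
    rintro rfl
    have hRn : (R : Subgroup (F.autGroup P)).Normal := by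
      rw [hR, ← inn_eq_autInducedBy]
      exact inn_subgroupOf_normal F P
    haveI := hRn
    refine not_essential_of_normal_pgroup hS hP R hRn R.2 fun g k hk => ?_
    have hz : IsPGroup p (Subgroup.zpowers g) := by
      refine IsPGroup.of_card_dvd_pow (n := k) ?_
      rw [Nat.card_zpowers]
      exact orderOf_dvd_of_pow_eq_one hk
    have heq := R.is_maximal' (hz.to_sup_of_normal_right R.2) le_sup_right
    exact heq.le (Subgroup.mem_sup_left (Subgroup.mem_zpowers g))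
  obtain ⟨hcP, hrad⟩ := And.intro (centralizerIn_le_of_centric hP.1) (radical_of_essential hS hP).2
  have hZP : ∀ z : S, z ∈ Subgroup.center S → (z : Ω) ∈ P := fun z hz =>
    hcP (mem_centralizerIn.2 ⟨z.2, fun y hy => (mem_center_sub.1 hz y (hPS hy))⟩)
  have hnorm : ∀ s ∈ S, ∀ y ∈ P, s * y * s⁻¹ ∈ P := fun s hs y hy => by
    rw [show s * y * s⁻¹ = ⁅(⟨s, hs⟩ : S), (⟨y, hPS hy⟩ : S)⁆ * y by
      rw [commutatorElement_def]; push_cast; group]
    exact P.mul_mem (hZP _ (h.comm _ _)) hy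
  have hN : ∀ s ∈ S, s ∈ Subgroup.normalizer (P : Set Ω) := fun s hs =>
    mem_normalizer_of_forall (hnorm s hs) fun x hx => by
      simpa using hnorm s⁻¹ (S.inv_mem hs) x hx
  obtain ⟨Z, hZ⟩ : ∃ Z : Subgroup P, Z = (Subgroup.center S).comap (Subgroup.inclusion hPS) :=
    ⟨_, rfl⟩
  have hmemZ : ∀ y : P, y ∈ Z ↔ (⟨y, hPS y.2⟩ : S) ∈ Subgroup.center S := fun y => by
    rw [hZ]; rfl
  by_cases hab : ∀ a ∈ P, ∀ b ∈ P, a * b = b * a
  swap
  · -- a nonabelian essential subgroup is impossible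
    push Not at hab
    obtain ⟨a, ha, b, hb, hne⟩ := hab
    refine hPne (le_antisymm hPS fun s hs => mem_of_series hS hP
      (U := P ⊓ Subgroup.centralizer (P : Set Ω)) (fun α hα u hu huP => ?_) hs (hN s hs)
      (fun u hu _ => ?_) fun y hy => ?_)
    · refine Subgroup.mem_inf.2 ⟨autFun_mem α huP, Subgroup.mem_centralizer_iff.2 fun y hy => ?_⟩
      rw [show y = autFun α (autFun α⁻¹ y) by
          rw [← autFun_mul _ _ hy, mul_inv_cancel, autFun_one hy],
        ← ((mem_autGroup hPS).1 hα).map_mul (autFun_mem _ hy) huP,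
        ← ((mem_autGroup hPS).1 hα).map_mul huP (autFun_mem _ hy)]
      exact congrArg _ (Subgroup.mem_centralizer_iff.1 (Subgroup.mem_inf.1 hu).2 _ (autFun_mem _ hy))
    · have hu' := Subgroup.mem_centralizer_iff.1 (Subgroup.mem_inf.1 hu).2
      have huc : (⟨u, hPS (Subgroup.mem_inf.1 hu).1⟩ : S) ∈ Subgroup.center S := by
        by_contra hh
        exact hne (congrArg Subtype.val (h.abel _ ⟨a, hPS ha⟩ ⟨b, hPS hb⟩ hh
          (Subtype.ext (hu' a ha).symm) (Subtype.ext (hu' b hb).symm)))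
      rw [mem_center_sub.1 huc s hs, mul_inv_cancel_right]
    · rw [show y⁻¹ * (s * y * s⁻¹) = ⁅(⟨y, hPS hy⟩ : S)⁻¹, (⟨s, hs⟩ : S)⁆ by
        rw [commutatorElement_def]; push_cast; group]
      exact Subgroup.mem_inf.2 ⟨hZP _ (h.comm _ _), Subgroup.mem_centralizer_iff.2
        fun w hw => mem_center_sub.1 (h.comm _ _) w (hPS hw)⟩
  -- abelian: `P` is the centralizer of each of its non-central elements
  let A : Subgroup (MulAut P) := autInducedBy S P
  have hAX : A ≤ F.autGroup P := autInducedBy_le_autGroup F hPS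
  have hfix : ∀ a ∈ A, ∀ z ∈ Z, a z = z := by
    intro a ha z hz
    obtain ⟨s, hs, hse⟩ := mem_autInducedBy.1 ha
    refine Subtype.ext ?_
    rw [hse, mem_center_sub.1 ((hmemZ z).1 hz) s hs, mul_inv_cancel_right]
  have hmove : ∀ v ∉ Z, ∀ z ∈ Z, ∃ a ∈ A, a v = v * z := by
    intro v hv z hz
    obtain ⟨s, hs⟩ := h.surj _ (fun hh => hv ((hmemZ v).2 hh)) _
      ((Subgroup.center S).inv_mem ((hmemZ z).1 hz))
    refine ⟨P.normalizerMonoidHom ⟨s, hN s s.2⟩,
      mem_autInducedBy.2 ⟨s, s.2, fun x => rfl⟩, Subtype.ext ?_⟩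
    show (s : Ω) * v * (s : Ω)⁻¹ = (v : Ω) * z
    have h1 := congrArg Subtype.val hs
    rw [commutatorElement_def] at h1
    push_cast at h1
    rw [← inv_inj, inv_inv] at h1
    rw [← mem_center_sub.1 ((hmemZ z).1 hz) (v : Ω) (hPS v.2) |>.symm]
    rw [← h1]
    group
  obtain ⟨K, hK⟩ : ∃ K, K = seriesStab (F.autGroup P) Z := ⟨_, rfl⟩
  have hKp : IsPGroup p K := hK ▸ isPGroup_seriesStab (hS.to_le hPS) _ _
  have hAK : A ≤ K := fun a ha => hK ▸ ⟨hAX ha, hfix a ha, fun y => by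
    obtain ⟨s, hs, hse⟩ := mem_autInducedBy.1 ha
    rw [hmemZ]
    convert h.comm (⟨y, hPS y.2⟩ : S)⁻¹ ⟨s, hs⟩ using 1
    refine Subtype.ext ?_
    show ((y⁻¹ * a y : P) : Ω) = _
    push_cast
    rw [hse, commutatorElement_def]
    push_cast
    group⟩
  have hKA : K.subgroupOf (F.autGroup P) = R := by
    refine R.is_maximal' hKp.comap_subtype ?_
    rw [hR]
    exact Subgroup.comap_mono hAK
  have hnK : ∀ g ∈ F.autGroup P, Z.map g.toMonoidHom = Z → ∀ k ∈ K, g * k * g⁻¹ ∈ K := by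
    intro g hg hgZ k hk
    rw [hK] at hk ⊢
    have hgi : ∀ u ∈ Z, g⁻¹ u ∈ Z := fun u hu => by
      obtain ⟨w, hw, rfl⟩ := hgZ.ge hu
      rw [show (g⁻¹ : MulAut P) (g.toMonoidHom w) = w from MulAut.inv_apply_self P g w]
      exact hw
    refine ⟨(F.autGroup P).mul_mem ((F.autGroup P).mul_mem hg hk.1) ((F.autGroup P).inv_mem hg),
      fun u hu => ?_, fun y => ?_⟩
    · show g (k (g⁻¹ u)) = u
      rw [hk.2.1 _ (hgi u hu), MulAut.apply_inv_self]
    · show y⁻¹ * g (k (g⁻¹ y)) ∈ Z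
      have h1 := hgZ.le ⟨_, hk.2.2 (g⁻¹ y), rfl⟩
      rw [MulEquiv.coe_toMonoidHom, map_mul, map_inv, MulAut.apply_inv_self] at h1
      exact h1
  have hstab : ∀ g ∈ F.autGroup P, (∃ k : ℕ, g ^ p ^ k = 1) → Z.map g.toMonoidHom = Z →
      g ∈ K := by
    intro g hg hgp hgZ
    obtain ⟨k, hk⟩ := hgp
    let g' : F.autGroup P := ⟨g, hg⟩
    have hz' : IsPGroup p (Subgroup.zpowers g') := by
      refine IsPGroup.of_card_dvd_pow (n := k) ?_
      rw [Nat.card_zpowers]
      exact orderOf_dvd_of_pow_eq_one (Subtype.ext hk)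
    have hgN : Subgroup.zpowers g' ≤
        Subgroup.normalizer ((K.subgroupOf (F.autGroup P)) : Set (F.autGroup P)) := by
      refine Subgroup.zpowers_le.2 (mem_normalizer_of_forall (fun x hx => ?_) fun x hx => ?_)
      · exact hnK g hg hgZ _ hx
      · have hgZ' : Z.map (g⁻¹ : MulAut P).toMonoidHom = Z := by
          conv_lhs => rw [← hgZ]
          rw [Subgroup.map_map]
          conv_rhs => rw [← Subgroup.map_id Z]
          congr 1
          exact MonoidHom.ext fun z => MulAut.inv_apply_self P g z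
        have h1 := hnK g⁻¹ ((F.autGroup P).inv_mem hg) hgZ' _ hx
        rw [inv_inv] at h1
        exact h1
    have hsup := IsPGroup.to_sup_of_normal_right' hz' hKp.comap_subtype hgN
    have heq : Subgroup.zpowers g' ⊔ K.subgroupOf (F.autGroup P) = R :=
      R.is_maximal' hsup (hKA ▸ le_sup_right)
    have hgK : g' ∈ K.subgroupOf (F.autGroup P) :=
      hKA.symm ▸ heq.le (Subgroup.mem_sup_left (Subgroup.mem_zpowers g'))
    exact Subgroup.mem_subgroupOf.1 hgK
  obtain ⟨q, hq, hq1⟩ := Q.bot_or_exists_ne_one.resolve_left hQ1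
  have hqc : (⟨q, hQ.1 hq⟩ : S) ∈ Subgroup.center S :=
    mem_center_sub.2 fun y hy => hQZ q hq y hy
  have hQP : Q ≤ P := fun r hr =>
    hZP ⟨r, hQ.1 hr⟩ (mem_center_sub.2 fun y hy => hQZ r hr y hy)
  have hQinv : ∀ g ∈ F.autGroup P, ∀ r : P, (r : Ω) ∈ Q → ((g r : P) : Ω) ∈ Q := fun g hg r hr => by
    rw [← autFun_coe g r]
    exact StronglyClosed.apply_mem (stronglyClosed_of_isNormal hQ)
      (((mem_autGroup hPS).1 hg).res hQP) le_rfl hr
  -- the automorphisms fixing `Q`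
  let X : Subgroup (MulAut P) :=
    { carrier := {g | g ∈ F.autGroup P ∧ ∀ r : P, (r : Ω) ∈ Q → g r = r}
      one_mem' := ⟨(F.autGroup P).one_mem, fun r _ => rfl⟩
      mul_mem' := fun {a b} ha hb => ⟨(F.autGroup P).mul_mem ha.1 hb.1, fun r hr => by
        rw [MulAut.mul_apply, hb.2 r hr, ha.2 r hr]⟩
      inv_mem' := fun {a} ha => ⟨(F.autGroup P).inv_mem ha.1, fun r hr => by
        show a.symm r = r
        rw [MulEquiv.symm_apply_eq, ha.2 r hr]⟩ }
  have hQc : ∀ r : P, (r : Ω) ∈ Q → r ∈ Z := fun r hr =>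
    (hmemZ r).2 (mem_center_sub.2 fun y hy => hQZ r hr y hy)
  have hAX' : A ≤ X := fun a ha => ⟨hAX ha, fun r hr => hfix a ha r (hQc r hr)⟩
  have hall := map_eq_of_common_fixed X A Z hAX' (isPGroup_autInducedBy hS P) hfix hmove
    (fun g hg hgp hgZ z hz => (hK ▸ hstab g hg.1 hgp hgZ : g ∈ seriesStab (F.autGroup P) Z).2.1 z hz)
    (z₀ := ⟨q, hQP hq⟩) ((hmemZ _).2 hqc) (fun e => hq1 (congrArg Subtype.val e))
    fun g hg => hg.2 _ hq
  have hKX : ∀ k ∈ K, k ∈ X := fun k hk => by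
    rw [hK] at hk
    exact ⟨hk.1, fun r hr => hk.2.1 r (hQc r hr)⟩
  -- so the automizer is `p`-closed
  have hKn : (K.subgroupOf (F.autGroup P)).Normal := by
    refine ⟨fun k hk g => Subgroup.mem_subgroupOf.2 ?_⟩
    have hk' := hKX _ (Subgroup.mem_subgroupOf.1 hk)
    have hc : ((g * k * g⁻¹ : F.autGroup P) : MulAut P) ∈ X := by
      refine ⟨(g * k * g⁻¹).2, fun r hr => ?_⟩
      show (g : MulAut P) ((k : MulAut P) ((g : MulAut P)⁻¹ r)) = r
      rw [hk'.2 _ (hQinv _ ((F.autGroup P).inv_mem g.2) r hr), MulAut.apply_inv_self]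
    refine hstab _ (g * k * g⁻¹).2 ?_ (hall _ hc)
    obtain ⟨j, hj⟩ := hKp ⟨_, Subgroup.mem_subgroupOf.1 hk⟩
    refine ⟨j, ?_⟩
    rw [← SubgroupClass.coe_pow, conj_pow,
      show k ^ p ^ j = 1 from Subtype.ext (by simpa using congrArg Subtype.val hj), mul_one,
      mul_inv_cancel]
    rfl
  haveI := hKn
  refine not_essential_of_normal_pgroup hS hP _ hKn hKp.comap_subtype fun g k hk => ?_
  have hz : IsPGroup p (Subgroup.zpowers g) := by
    refine IsPGroup.of_card_dvd_pow (n := k) ?_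
    rw [Nat.card_zpowers]
    exact orderOf_dvd_of_pow_eq_one hk
  have hRn : (R : Subgroup (F.autGroup P)).Normal := hKA ▸ hKn
  haveI := hRn
  have heq := R.is_maximal' (hz.to_sup_of_normal_right R.2) le_sup_right
  rw [hKA]
  exact heq.le (Subgroup.mem_sup_left (Subgroup.mem_zpowers g))

/-- A system with a nontrivial normal subgroup on a Heisenberg-like group is constrained. -/
theorem HeisLike.centralizer_core_le (h : HeisLike S) (hS : IsPGroup p S) (hF : F.IsSaturated p)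
    (hcore : F.core ≠ ⊥) : centralizerIn S F.core ≤ F.core := by
  have hn := isNormal_core F
  by_cases hZ : ∀ q ∈ F.core, ∀ s ∈ S, s * q = q * s
  · exfalso
    have hSn : F.IsNormal S := isNormal_of_essential hS hF le_rfl (fun α _ x hx => autFun_mem α hx)
      fun P hP => (h.not_essential hS hF hn hZ hcore hP).elim
    obtain ⟨a, b, hab⟩ := h.nonab
    exact hab (Subtype.ext (hZ b ((le_sSup hSn : S ≤ F.core) b.2) a a.2))
  · push Not at hZ
    obtain ⟨x, hx, s, hs, hne⟩ := hZ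
    have hxc : (⟨x, hn.1 hx⟩ : S) ∉ Subgroup.center S := fun hh =>
      hne (mem_center_sub.1 hh s hs)
    set C := centralizerIn S F.core with hC
    have hab : ∀ a ∈ C, ∀ b ∈ C, a * b = b * a := fun a ha b hb => congrArg Subtype.val
      (h.abel _ ⟨a, (mem_centralizerIn.1 ha).1⟩ ⟨b, (mem_centralizerIn.1 hb).1⟩ hxc
        (Subtype.ext ((mem_centralizerIn.1 ha).2 x hx)) (Subtype.ext ((mem_centralizerIn.1 hb).2 x hx)))
    let Qs : Fin 2 → Subgroup Ω := ![⊥, C]
    have hCn : F.IsNormal C := isNormal_of_chain (n := 1) hS hF Qs rfl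
      (fun i j hij => by fin_cases i <;> fin_cases j <;> simp_all [Qs]) fun i => by
        obtain rfl : i = 0 := Subsingleton.elim _ _
        exact ⟨stronglyClosed_centralizerIn hn, Subgroup.commutator_le.2 fun a ha b hb => by
          show ⁅a, b⁆ ∈ (⊥ : Subgroup Ω)
          rw [Subgroup.mem_bot, commutatorElement_eq_one_iff_mul_comm]
          exact hab a ha b hb⟩
    exact le_sSup hCn

end Cfsg.Agent.Fus
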