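import Mathlib
import Cfsg.Agent.Lib.Fus.HeisenbergCore
import Cfsg.Agent.Lib.Fus.PSLUnipotent

/-!
The Sylow subgroups of `SL₃` in defining characteristic are Heisenberg-like.
-/

set_option autoImplicit false
set_option linter.unusedSectionVars false

open scoped Classical commutatorElement

namespace Cfsg.Agent.Fus.PSLN

open Matrix

variable {K : Type*} [Field K] [Fintype K] {p : ℕ} [Fact p.Prime] [CharP K p] {n : ℕ}

/-- The unitriangular group is a Sylow subgroup. -/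
theorem eq_unip_of_le (P : Sylow p (Matrix.SpecialLinearGroup (Fin n) K))
    (hP : unip K n ≤ (P : Subgroup (Matrix.SpecialLinearGroup (Fin n) K))) :
    unip K n = (P : Subgroup (Matrix.SpecialLinearGroup (Fin n) K)) := by
  by_contra hne
  obtain ⟨-, g, hg, hgU⟩ := SetLike.lt_iff_le_and_exists.1
    (lt_normalizerIn (S := (P : Subgroup (Matrix.SpecialLinearGroup (Fin n) K))) P.2
      (lt_of_le_of_ne hP hne))
  have hup : IsUpper g := isUpper_of_conj_mem fun u hu => (Subgroup.mem_normalizer_iff.1 hg.2 u).1 hu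
  obtain ⟨k, hk⟩ := P.2 ⟨g, hg.1⟩
  refine hgU ⟨hup, fun i => eq_one_of_pow_prime_pow_eq_one (p := p) (k := k) ?_⟩
  have h1 : g ^ p ^ k = 1 := congrArg Subtype.val hk
  rw [← (hup.pow_diag (p ^ k)).2 i]
  show ent (g ^ p ^ k) i i = 1
  rw [h1]
  simp [ent]

theorem ent_mul_01 {A B : Matrix.SpecialLinearGroup (Fin 3) K} (hA : IsUni A) (hB : IsUni B) :
    ent (A * B) 0 1 = ent A 0 1 + ent B 0 1 := by
  rw [ent_mul, Fin.sum_univ_three, hA.2 0, hB.2 1, hB.1 2 1 (by decide)]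
  ring

theorem ent_mul_12 {A B : Matrix.SpecialLinearGroup (Fin 3) K} (hA : IsUni A) (hB : IsUni B) :
    ent (A * B) 1 2 = ent A 1 2 + ent B 1 2 := by
  rw [ent_mul, Fin.sum_univ_three, hA.2 1, hB.2 2, hA.1 1 0 (by decide)]
  ring

theorem ent_mul_02 {A B : Matrix.SpecialLinearGroup (Fin 3) K} (hA : IsUni A) (hB : IsUni B) :
    ent (A * B) 0 2 = ent A 0 2 + ent B 0 2 + ent A 0 1 * ent B 1 2 := by
  rw [ent_mul, Fin.sum_univ_three, hA.2 0, hB.2 2]
  ring

theorem uni_ext {A B : Matrix.SpecialLinearGroup (Fin 3) K} (hA : IsUni A) (hB : IsUni B)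
    (h1 : ent A 0 1 = ent B 0 1) (h2 : ent A 1 2 = ent B 1 2) (h3 : ent A 0 2 = ent B 0 2) :
    A = B := by
  refine Subtype.ext (Matrix.ext fun i j => ?_)
  show ent A i j = ent B i j
  rcases lt_trichotomy j i with h | h | h
  · rw [hA.1 i j h, hB.1 i j h]
  · subst h; rw [hA.2, hB.2]
  · fin_cases i <;> fin_cases j <;> first | exact h1 | exact h2 | exact h3 | simp at h

theorem comm_iff {A B : Matrix.SpecialLinearGroup (Fin 3) K} (hA : IsUni A) (hB : IsUni B) :
    A * B = B * A ↔ ent A 0 1 * ent B 1 2 = ent B 0 1 * ent A 1 2 := by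
  constructor
  · intro h
    have h1 := congrArg (fun M => ent M 0 2) h
    simp only [ent_mul_02 hA hB, ent_mul_02 hB hA] at h1
    linear_combination h1
  · intro h
    refine uni_ext (hA.mul hB) (hB.mul hA) ?_ ?_ ?_
    · rw [ent_mul_01 hA hB, ent_mul_01 hB hA, add_comm]
    · rw [ent_mul_12 hA hB, ent_mul_12 hB hA, add_comm]
    · rw [ent_mul_02 hA hB, ent_mul_02 hB hA]
      linear_combination h

theorem exists_uni (a b c : K) : ∃ A : Matrix.SpecialLinearGroup (Fin 3) K,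
    IsUni A ∧ ent A 0 1 = a ∧ ent A 1 2 = b ∧ ent A 0 2 = c :=
  ⟨⟨!![1, a, c; 0, 1, b; 0, 0, 1], by simp [Matrix.det_fin_three]⟩,
    ⟨fun i j h => by fin_cases i <;> fin_cases j <;> simp [ent] at h ⊢,
      fun i => by fin_cases i <;> simp [ent]⟩, by simp [ent], by simp [ent], by simp [ent]⟩

theorem mem_center_unip {A : unip K 3} :
    A ∈ Subgroup.center (unip K 3) ↔ ent (A : Matrix.SpecialLinearGroup (Fin 3) K) 0 1 = 0 ∧
      ent (A : Matrix.SpecialLinearGroup (Fin 3) K) 1 2 = 0 := by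
  rw [Subgroup.mem_center_iff]
  constructor
  · intro h
    constructor
    · obtain ⟨B, hB, h1, h2, -⟩ := exists_uni (K := K) 0 1 0
      have := (comm_iff hB A.2).1 (congrArg Subtype.val (h ⟨B, hB⟩))
      rw [h1, h2, zero_mul, mul_one] at this
      exact this.symm
    · obtain ⟨B, hB, h1, h2, -⟩ := exists_uni (K := K) 1 0 0
      have := (comm_iff hB A.2).1 (congrArg Subtype.val (h ⟨B, hB⟩))
      rw [h1, h2, mul_zero, one_mul] at this
      exact this
  · intro h B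
    refine Subtype.ext ((comm_iff B.2 A.2).2 ?_)
    rw [h.1, h.2]
    ring

theorem comm_eq {A B C : Matrix.SpecialLinearGroup (Fin 3) K} (hA : IsUni A) (hB : IsUni B)
    (hC : IsUni C) (h1 : ent C 0 1 = 0) (h2 : ent C 1 2 = 0)
    (h3 : ent C 0 2 = ent A 0 1 * ent B 1 2 - ent B 0 1 * ent A 1 2) : ⁅A, B⁆ = C := by
  rw [commutatorElement_def, mul_inv_eq_iff_eq_mul, mul_inv_eq_iff_eq_mul]
  refine uni_ext (hA.mul hB) ((hC.mul hB).mul hA) ?_ ?_ ?_
  · rw [ent_mul_01 hA hB, ent_mul_01 (hC.mul hB) hA, ent_mul_01 hC hB, h1]; ring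
  · rw [ent_mul_12 hA hB, ent_mul_12 (hC.mul hB) hA, ent_mul_12 hC hB, h2]; ring
  · rw [ent_mul_02 hA hB, ent_mul_02 (hC.mul hB) hA, ent_mul_02 hC hB, ent_mul_01 hC hB, h1, h3]
    ring

theorem heisLike_unip : HeisLike (unip K 3) := by
  refine ⟨fun a b => ?_, fun x a b hx ha hb => ?_, fun x hx z hz => ?_, ?_⟩
  · obtain ⟨C, hC, h1, h2, h3⟩ := exists_uni (K := K) 0 0
      (ent (a : Matrix.SpecialLinearGroup (Fin 3) K) 0 1 * ent (b : Matrix.SpecialLinearGroup (Fin 3) K) 1 2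
        - ent (b : Matrix.SpecialLinearGroup (Fin 3) K) 0 1 * ent (a : Matrix.SpecialLinearGroup (Fin 3) K) 1 2)
    have he : (⁅a, b⁆ : unip K 3) = ⟨C, hC⟩ := Subtype.ext (by
      rw [← Subgroup.coe_subtype, map_commutatorElement]
      exact comm_eq a.2 b.2 hC h1 h2 h3)
    rw [he, mem_center_unip]
    exact ⟨h1, h2⟩
  · refine Subtype.ext ((comm_iff a.2 b.2).2 ?_)
    have e1 := (comm_iff x.2 a.2).1 (congrArg Subtype.val ha)
    have e2 := (comm_iff x.2 b.2).1 (congrArg Subtype.val hb)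
    rw [mem_center_unip, not_and_or] at hx
    rcases hx with hx | hx
    · refine mul_left_cancel₀ hx ?_
      linear_combination (ent (a : Matrix.SpecialLinearGroup (Fin 3) K) 0 1) * e2 -
        (ent (b : Matrix.SpecialLinearGroup (Fin 3) K) 0 1) * e1
    · refine mul_left_cancel₀ hx ?_
      linear_combination (ent (a : Matrix.SpecialLinearGroup (Fin 3) K) 1 2) * e2 -
        (ent (b : Matrix.SpecialLinearGroup (Fin 3) K) 1 2) * e1
  · obtain ⟨hz1, hz2⟩ := mem_center_unip.1 hz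
    rw [mem_center_unip, not_and_or] at hx
    obtain ⟨B, hB, hB'⟩ : ∃ B : Matrix.SpecialLinearGroup (Fin 3) K, IsUni B ∧
        ent (z : Matrix.SpecialLinearGroup (Fin 3) K) 0 2 =
          ent (x : Matrix.SpecialLinearGroup (Fin 3) K) 0 1 * ent B 1 2 -
            ent B 0 1 * ent (x : Matrix.SpecialLinearGroup (Fin 3) K) 1 2 := by
      rcases hx with hx | hx
      · obtain ⟨B, hB, h1, h2, -⟩ := exists_uni (K := K) 0
          ((ent (x : Matrix.SpecialLinearGroup (Fin 3) K) 0 1)⁻¹ *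
            ent (z : Matrix.SpecialLinearGroup (Fin 3) K) 0 2) 0
        exact ⟨B, hB, by rw [h1, h2, mul_inv_cancel_left₀ hx]; ring⟩
      · obtain ⟨B, hB, h1, h2, -⟩ := exists_uni (K := K)
          (-((ent (x : Matrix.SpecialLinearGroup (Fin 3) K) 1 2)⁻¹ *
            ent (z : Matrix.SpecialLinearGroup (Fin 3) K) 0 2)) 0 0
        exact ⟨B, hB, by rw [h1, h2]; field_simp; ring⟩
    refine ⟨⟨B, hB⟩, Subtype.ext ?_⟩
    rw [← Subgroup.coe_subtype, map_commutatorElement]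
    exact comm_eq x.2 hB z.2 hz1 hz2 hB'
  · obtain ⟨A, hA, h1, h2, -⟩ := exists_uni (K := K) 1 0 0
    obtain ⟨B, hB, h3, h4, -⟩ := exists_uni (K := K) 0 1 0
    refine ⟨⟨A, hA⟩, ⟨B, hB⟩, fun h => ?_⟩
    have := (comm_iff hA hB).1 (congrArg Subtype.val h)
    rw [h1, h2, h3, h4] at this
    simp at this

theorem heisLike_sylow (T : Sylow p (Matrix.SpecialLinearGroup (Fin 3) K)) :
    HeisLike (T : Subgroup (Matrix.SpecialLinearGroup (Fin 3) K)) := by
  obtain ⟨P, hP⟩ := (isPGroup_unip (K := K) (p := p) (n := 3)).exists_le_sylow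
  obtain ⟨g, hg⟩ := MulAction.exists_smul_eq (Matrix.SpecialLinearGroup (Fin 3) K) T P
  exact HeisLike.of_equiv ((T.equiv P).trans (MulEquiv.subgroupCongr (eq_unip_of_le P hP).symm))
    heisLike_unip

end Cfsg.Agent.Fus.PSLN
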