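import Cfsg.Agent.Lib.Fus.InnerEmbeddedQuot
import Cfsg.Agent.Lib.Fus.Hyperfocal
import Cfsg.Agent.Lib.Grp.Frattini
import Cfsg.Agent.S5132

/-!
A saturated system in which the subgroups of some order `p ^ k` are weakly embedded and have inner
normalizer systems is inner, and the converse.
-/

set_option autoImplicit false
set_option linter.style.haveILetI false
set_option linter.unusedSectionVars false

open scoped Classical commutatorElement

namespace Cfsg.Agent.Fus.InEmb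

open Subgroup FusionSystem

universe u

variable {Ω : Type u} [Group Ω] {S : Subgroup Ω} {F : FusionSystem S} {p : ℕ} [Fact p.Prime]
  [Finite S]

/-- If all maps are conjugations modulo the normal `M`, automorphisms of order prime to `p` are
trivial modulo `M`. -/
theorem mod_of_congr (hS : IsPGroup p S) {M : Subgroup Ω} (hM : F.StronglyClosed M)
    (hmod : ∀ P f, IsMap F P f → ∃ s ∈ S, ∀ x ∈ P, (f x)⁻¹ * (s * x * s⁻¹) ∈ M)
    {R : Subgroup Ω} (hR : R ≤ S) {α : MulAut R} (hα : α ∈ F.autGroup R)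
    (hc : (orderOf α).Coprime p) : ∀ x ∈ R, x⁻¹ * autFun α x ∈ M := by
  obtain ⟨s, hs, hse⟩ := hmod R _ ((mem_autGroup hR).1 hα)
  have key : ∀ n : ℕ, ∀ x ∈ R, (autFun (α ^ n) x)⁻¹ * (s ^ n * x * (s ^ n)⁻¹) ∈ M := by
    intro n
    induction n with
    | zero => intro x hx; rw [pow_zero, autFun_one hx]; simp
    | succ n ih =>
      intro x hx
      have h1 := mul_mem (hse _ (autFun_mem (α ^ n) hx))
        (StronglyClosed.conj_mem' hM hs (ih x hx))
      rw [pow_succ', autFun_mul _ _ hx, pow_succ']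
      rwa [show (autFun α (autFun (α ^ n) x))⁻¹ * (s * autFun (α ^ n) x * s⁻¹) *
        (s * ((autFun (α ^ n) x)⁻¹ * (s ^ n * x * (s ^ n)⁻¹)) * s⁻¹) =
        (autFun α (autFun (α ^ n) x))⁻¹ * (s * s ^ n * x * (s * s ^ n)⁻¹) by group] at h1
  obtain ⟨e, he⟩ := hS ⟨s, hs⟩
  have he' : s ^ p ^ e = 1 := by simpa using congrArg Subtype.val he
  have key2 : ∀ t : ℕ, ∀ x ∈ R, x⁻¹ * autFun ((α ^ p ^ e) ^ t) x ∈ M := by
    intro t
    induction t with
    | zero => intro x hx; rw [pow_zero, autFun_one hx]; simp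
    | succ t ih =>
      intro x hx
      have hy := autFun_mem ((α ^ p ^ e) ^ t) hx
      have h1 := key (p ^ e) _ hy
      rw [he'] at h1
      have h2 := mul_mem (ih x hx) (M.inv_mem h1)
      rw [pow_succ', autFun_mul _ _ hx]
      rwa [show x⁻¹ * autFun ((α ^ p ^ e) ^ t) x * ((autFun (α ^ p ^ e)
        (autFun ((α ^ p ^ e) ^ t) x))⁻¹ * (1 * autFun ((α ^ p ^ e) ^ t) x * 1⁻¹))⁻¹ =
        x⁻¹ * autFun (α ^ p ^ e) (autFun ((α ^ p ^ e) ^ t) x) by group] at h2
  obtain ⟨t, ht⟩ := exists_pow_eq_self_of_coprime (hc.pow_right e).symm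
  intro x hx
  have := key2 t x hx
  rwa [ht] at this

/-- An automorphism of order prime to `p` trivial modulo `M` and on `M` is trivial. -/
theorem eq_one_of_stab (hS : IsPGroup p S) {R M : Subgroup Ω} (hR : R ≤ S) {α : MulAut R}
    (hc : (orderOf α).Coprime p) (hmod : ∀ x ∈ R, x⁻¹ * autFun α x ∈ M)
    (hfix : ∀ y ∈ R, y ∈ M → autFun α y = y) : α = 1 := by
  refine MulEquiv.ext fun x => ?_
  refine fix_step hS hR α hc (pow_orderOf_eq_one α) (Subtype.ext ?_)
  rw [← autFun_coe α (x⁻¹ * α x)]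
  refine hfix _ (x⁻¹ * α x).2 ?_
  have := hmod x x.2
  rwa [autFun_coe] at this

theorem exists_normal_p_step {G : Type*} [Group G] [Finite G] (hG : IsPGroup p G) (x : G) :
    x ≠ 1 → ∃ P : Subgroup G, P.Normal ∧ x ∉ P ∧ (Subgroup.zpowers x ⊔ P).Normal := by
  intro hx
  set N := Subgroup.normalClosure ({x} : Set G) with hN
  haveI := hG.isNilpotent
  set P := ⁅N, (⊤ : Subgroup G)⁆ with hP
  have hxN : x ∈ N := Subgroup.subset_normalClosure rfl
  have hPN : P ≤ N := Subgroup.commutator_le_left N ⊤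
  have hsup : Subgroup.zpowers x ⊔ P ≤ N := sup_le (Subgroup.zpowers_le.2 hxN) hPN
  have hnorm : (Subgroup.zpowers x ⊔ P).Normal := ⟨fun y hy g => by
    have h1 : ⁅y, g⁆ ∈ P := Subgroup.commutator_mem_commutator (hsup hy) (Subgroup.mem_top g)
    rw [show g * y * g⁻¹ = (⁅y, g⁆)⁻¹ * y by rw [commutatorElement_def]; group]
    exact mul_mem (Subgroup.mem_sup_right (P.inv_mem h1)) hy⟩
  refine ⟨P, inferInstance, fun hxP => hx ?_, hnorm⟩
  have h1 : N ≤ ⊥ := le_of_le_sup_commutator N ⊥ (by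
    rw [bot_sup_eq]
    exact Subgroup.normalClosure_le_normal (by simpa using hxP))
  exact Subgroup.mem_bot.1 (h1 hxN)

theorem stronglyClosed_of_normal (hin : IsInner F) {P : Subgroup Ω} (hP : P ≤ S)
    (hn : ∀ s ∈ S, ∀ x ∈ P, s * x * s⁻¹ ∈ P) : F.StronglyClosed P :=
  stronglyClosed_of_forall hP fun R hR f hf x hx => by
    obtain ⟨s, hs, e⟩ := hin R f hf
    rw [e x hx]
    exact hn s hs x (hR hx)

/-- In the inner system the subgroups of order `p` are weakly embedded. -/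
theorem emb_of_isInner (hS : IsPGroup p S) (hin : IsInner F) {Q : Subgroup Ω} (hQ : Q ≤ S)
    (hQc : Nat.card Q = p) :
    ∃ P, F.StronglyClosed P ∧ F.StronglyClosed (Q ⊔ P) ∧ F.StronglyClosed (Q ⊓ P) := by
  haveI := finite_of_le hQ
  obtain ⟨x, hx⟩ : ∃ x : Q, Subgroup.zpowers x = ⊤ := by
    haveI := isCyclic_of_prime_card hQc
    obtain ⟨x, hx⟩ := IsCyclic.exists_generator (α := Q)
    exact ⟨x, eq_top_iff.2 fun y _ => hx y⟩
  have hx1 : (⟨x, hQ x.2⟩ : S) ≠ 1 := fun h => by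
    have h1 : x = 1 := Subtype.ext (by simpa using congrArg Subtype.val h)
    rw [h1, Subgroup.zpowers_one_eq_bot] at hx
    have := Subgroup.card_top (G := Q)
    rw [← hx, Subgroup.card_bot, hQc] at this
    exact (Fact.out : p.Prime).ne_one this.symm
  have hQx : Q = (Subgroup.zpowers (⟨x, hQ x.2⟩ : S)).map S.subtype := by
    rw [MonoidHom.map_zpowers]
    show Q = Subgroup.zpowers (x : Ω)
    refine le_antisymm (fun y hy => ?_) (Subgroup.zpowers_le.2 x.2)
    obtain ⟨i, hi⟩ := (hx ▸ Subgroup.mem_top _ : (⟨y, hy⟩ : Q) ∈ Subgroup.zpowers x)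
    exact ⟨i, by simpa using congrArg Subtype.val hi⟩
  obtain ⟨P, hPn, hxP, hsup⟩ := exists_normal_p_step hS (⟨x, hQ x.2⟩ : S) hx1
  have hcl : ∀ K : Subgroup S, K.Normal → F.StronglyClosed (K.map S.subtype) := fun K hK =>
    stronglyClosed_of_normal hin (map_subtype_le K) fun s hs y hy => by
      obtain ⟨y, hy, rfl⟩ := hy
      exact ⟨(⟨s, hs⟩ : S) * y * (⟨s, hs⟩ : S)⁻¹, hK.conj_mem y hy _, rfl⟩
  refine ⟨P.map S.subtype, hcl P hPn, ?_, ?_⟩
  · rw [hQx, ← Subgroup.map_sup]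
    exact hcl _ hsup
  · have : Q ⊓ P.map S.subtype = ⊥ := by
      rcases eq_bot_or_eq_top_of_prime_card ((Q ⊓ P.map S.subtype).subgroupOf Q)
        (hp := hQc.symm ▸ (inferInstance : Fact p.Prime)) with h | h
      · rw [Subgroup.subgroupOf_eq_bot, disjoint_iff, inf_right_comm, inf_idem] at h
        exact h
      · exact absurd (Subgroup.subgroupOf_eq_top.1 h x.2).2 fun ⟨y, hy, e⟩ =>
          hxP (by rwa [show (⟨x, hQ x.2⟩ : S) = y from Subtype.ext e.symm])
    rw [this]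
    exact stronglyClosed_of_isNormal (isNormal_bot F)

theorem frattini_of_unique (hS : IsPGroup p S) {k : ℕ} (H : HEmb F p k) {M : Subgroup Ω}
    (hM : F.StronglyClosed M) (hMk : Nat.card M < p ^ k) (hMp : p < Nat.card M)
    (huniq : ∀ X, F.StronglyClosed X → X ≠ ⊥ → M ≤ X) :
    M ≤ (frattini S).map S.subtype := by
  haveI := finite_of_le hM.1
  have key : M.subgroupOf S ≤ frattini S := by
    rw [frattini, Order.radical]
    refine le_iInf₂ fun K hK => ?_
    obtain ⟨-, hidx⟩ := Grp.coatom_index_eq_of_pGroup hS hK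
    have hcard : Nat.card K * p = Nat.card S := hidx ▸ Subgroup.card_mul_index K
    by_contra hMK
    have hne : M.subgroupOf S ⊓ K ≠ ⊥ := fun h => by
      have h1 := Nat.card_le_card_of_injective _
        (Subgroup.mul_injective_of_disjoint (disjoint_iff.2 h))
      rw [Nat.card_prod, Nat.card_congr (subgroupOfEquivOfLe hM.1).toEquiv, ← hcard,
        mul_comm] at h1
      exact absurd (Nat.le_of_mul_le_mul_left h1 Nat.card_pos) (by omega)
    obtain ⟨z, hz, hz1⟩ := (Subgroup.bot_or_exists_ne_one _).resolve_left hne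
    set K0 := K.map S.subtype with hK0
    have hK0c : Nat.card K0 = Nat.card K := Subgroup.card_map_of_injective S.subtype_injective
    have hK0 : p ^ k ≤ Nat.card K0 := by
      obtain ⟨n, hn⟩ := (hS.to_subgroup K).exists_card_eq
      have h2 := H.lt_card
      rw [← hcard, hn, ← pow_succ] at h2
      rw [hK0c, hn]
      exact Nat.pow_le_pow_right (Fact.out : p.Prime).pos
        (Nat.lt_succ_iff.1 ((Nat.pow_lt_pow_iff_right pos_p).1 h2))
    obtain ⟨Q, hzQ, hQK, hQc⟩ := exists_between hS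
      (Subgroup.zpowers_le.2 (⟨z, hz.2, rfl⟩ : (z : Ω) ∈ K0)) (map_subtype_le K)
      ((card_le_of_le (Subgroup.zpowers_le.2 (show (z : Ω) ∈ M from hz.1))).trans hMk.le) hK0
    have hQS : Q ≤ S := hQK.trans (map_subtype_le K)
    have hMQ : ¬ M ≤ Q := fun h => hMK fun y hy => by
      obtain ⟨y', hy', e⟩ := hQK (h hy)
      rwa [show y = y' from Subtype.ext e.symm]
    obtain ⟨P, hP, hsup, hinf⟩ := H.emb Q hQS hQc
    have hzP : (z : Ω) ∉ P := fun h => by
      refine hMQ ((huniq _ hinf fun hb => hz1 (Subtype.ext ?_)).trans inf_le_left)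
      exact Subgroup.mem_bot.1 (hb ▸ ⟨hzQ (Subgroup.mem_zpowers _), h⟩ : (z : Ω) ∈ _)
    by_cases hPb : P = ⊥
    · rw [hPb, sup_bot_eq] at hsup
      refine hMQ (huniq Q hsup fun hb => ?_)
      rw [hb, Subgroup.card_bot] at hQc
      exact H.pos ((Nat.pow_eq_one.1 hQc.symm).resolve_left (Fact.out : p.Prime).ne_one)
    · exact hzP (huniq P hP hPb hz.1)
  exact fun x hx => ⟨⟨x, hM.1 hx⟩, key hx, rfl⟩

theorem isInner_of_mod_frattini (hS : IsPGroup p S) (hF : F.IsSaturated p) {M : Subgroup Ω}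
    (hM : M ≤ (frattini S).map S.subtype)
    (hmod : ∀ P f, IsMap F P f → ∃ s ∈ S, ∀ x ∈ P, (f x)⁻¹ * (s * x * s⁻¹) ∈ M) : IsInner F := by
  refine isInner_of_focal_le_frattini hS hF (focalSubgroup_le_iff.2 fun P f hf z hz => ?_)
  obtain ⟨s, hs, e⟩ := hmod P f hf
  have hzS := hf.source_le hz
  have h1 : z⁻¹ * (s * z * s⁻¹) ∈ (frattini S).map S.subtype :=
    ⟨⁅(⟨z, hzS⟩ : S)⁻¹, (⟨s, hs⟩ : S)⁆, Grp.pGroup_commutator_le_frattini hS
      (Subgroup.commutator_mem_commutator (Subgroup.mem_top _) (Subgroup.mem_top _)), by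
      simp [commutatorElement_def, mul_assoc]⟩
  have h2 := mul_mem h1 (Subgroup.inv_mem _ (hM (e z hz)))
  rwa [show z⁻¹ * (s * z * s⁻¹) * ((f z)⁻¹ * (s * z * s⁻¹))⁻¹ = z⁻¹ * f z by group] at h2

/-- A minimal strongly closed subgroup of order `p ^ k`, when no smaller ones exist, is abelian. -/
theorem abelian_of_minimal (hS : IsPGroup p S) {k : ℕ} (H : HEmb F p k) {M : Subgroup Ω}
    (hM : F.StronglyClosed M) (hMc : Nat.card M = p ^ k)
    (hbig : ∀ X, F.StronglyClosed X → X ≠ ⊥ → p ^ k ≤ Nat.card X) :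
    ∀ a ∈ M, ∀ b ∈ M, a * b = b * a := by
  haveI := finite_of_le hM.1
  by_contra hab
  have hcyc : ∀ X : Subgroup Ω, Nat.card X = p → ∀ a ∈ X, ∀ b ∈ X, a * b = b * a :=
    fun X hX a ha b hb => by
      haveI := isCyclic_of_prime_card hX
      exact congrArg Subtype.val ((IsCyclic.commGroup (α := X)).mul_comm ⟨a, ha⟩ ⟨b, hb⟩)
  have hk2 : 2 ≤ k := by
    have := H.pos
    by_contra h
    exact hab (hcyc M (by rw [hMc, show k = 1 by omega, pow_one]))
  have hMne : M ≠ ⊥ := fun h => hab (by simp [h])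
  have hMn := le_normalizer_of_stronglyClosed hM
  have hclosed_le : ∀ X Q : Subgroup Ω, F.StronglyClosed X → X ≤ Q → Q ≤ S → Nat.card Q = p ^ k →
      X = ⊥ ∨ X = Q := fun X Q hX hXQ hQS hQc => (eq_or_ne X ⊥).imp id fun hne => by
    haveI := finite_of_le hQS
    exact Subgroup.eq_of_le_of_card_ge hXQ (hQc ▸ hbig X hX hne)
  obtain ⟨X, hXM, hXc, hXz⟩ := CompFree.exists_central_order_p hS hM.1 hMn hMne
  have hXS : X ≤ S := hXM.trans hM.1
  have hppk : p ≤ p ^ k := Nat.le_self_pow H.pos p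
  -- a second central subgroup of order `p`
  obtain ⟨y, hy, hyM, hyz⟩ : ∃ Y ≤ S, Nat.card Y = p ∧ ¬ Y ≤ M ∧
      ∀ x ∈ Y, ∀ r ∈ S, r * x = x * r := by
    obtain ⟨Q, hXQ, hQS, hQc, hQM⟩ : ∃ Q, X ≤ Q ∧ Q ≤ S ∧ Nat.card Q = p ^ k ∧ Q ≠ M := by
      by_contra hall
      push Not at hall
      obtain ⟨x, hxS, hxM⟩ : ∃ x ∈ S, x ∉ M := by
        by_contra h
        push Not at h
        have := H.lt_card
        rw [le_antisymm h hM.1] at this
        exact absurd hMc (by omega)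
      set C := Subgroup.zpowers x ⊔ X with hC
      have hCS : C ≤ S := sup_le (Subgroup.zpowers_le.2 hxS) hXS
      have hxC : x ∈ C := Subgroup.mem_sup_left (Subgroup.mem_zpowers x)
      haveI := finite_of_le hCS
      rcases le_total (Nat.card C) (p ^ k) with h | h
      · obtain ⟨Q, hCQ, hQS, hQc⟩ := exists_between hS hCS le_rfl h H.lt_card.le
        exact hxM ((hall Q (le_sup_right.trans hCQ) hQS hQc) ▸ hCQ hxC)
      · obtain ⟨Q, hXQ, hQC, hQc⟩ := exists_between hS le_sup_right hCS (hXc ▸ hppk) h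
        have hMC : M ≤ C := hall Q hXQ (hQC.trans hCS) hQc ▸ hQC
        have hzn : Subgroup.zpowers x ≤ normalizer (X : Set Ω) :=
          Subgroup.zpowers_le.2 (mem_normalizer_of_forall
            (fun z hz => by rwa [hXz z hz x hxS, mul_inv_cancel_right])
            (fun z hz => by
              rwa [mul_assoc, ← hXz z hz x hxS, inv_mul_cancel_left]))
        refine hab fun a ha b hb => ?_
        obtain ⟨a₁, ha₁, a₂, ha₂, rfl⟩ := mem_sup_dest hzn (hMC ha)
        obtain ⟨b₁, hb₁, b₂, hb₂, rfl⟩ := mem_sup_dest hzn (hMC hb)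
        have e1 : Commute a₁ b₁ := by
          obtain ⟨i, rfl⟩ := ha₁
          obtain ⟨j, rfl⟩ := hb₁
          exact Commute.zpow_zpow_self x i j
        have hzS : Subgroup.zpowers x ≤ S := Subgroup.zpowers_le.2 hxS
        have e2 : Commute a₁ b₂ := hXz b₂ hb₂ a₁ (hzS ha₁)
        have e3 : Commute a₂ b₁ := (hXz a₂ ha₂ b₁ (hzS hb₁)).symm
        have e4 : Commute a₂ b₂ := hXz b₂ hb₂ a₂ (hXS ha₂)
        exact (e1.mul_right e2).mul_left (e3.mul_right e4)
    obtain ⟨P, hP, hsup, hinf⟩ := H.emb Q hQS hQc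
    have hQnc : ¬ F.StronglyClosed Q := fun hQ => by
      rcases hclosed_le _ Q (stronglyClosed_inf hM hQ) inf_le_right hQS hQc with h | h
      · have : X ≤ ⊥ := h ▸ le_inf hXM hXQ
        rw [le_bot_iff] at this
        rw [this, Subgroup.card_bot] at hXc
        exact (Fact.out : p.Prime).ne_one hXc.symm
      · exact hQM (eq_of_le_of_card_eq (h ▸ inf_le_left) hM.1 (hQc.trans hMc.symm))
    have hQP : Q ⊓ P = ⊥ :=
      (hclosed_le _ Q hinf inf_le_left hQS hQc).resolve_right fun h => hQnc (h ▸ hinf)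
    have hPne : P ≠ ⊥ := fun h => hQnc (by rwa [h, sup_bot_eq] at hsup)
    have hMP : M ⊓ P = ⊥ :=
      (hclosed_le _ M (stronglyClosed_inf hM hP) inf_le_left hM.1 hMc).resolve_right fun h => by
        have : X ≤ ⊥ := hQP ▸ le_inf hXQ (hXM.trans (h ▸ inf_le_right))
        rw [le_bot_iff] at this
        rw [this, Subgroup.card_bot] at hXc
        exact (Fact.out : p.Prime).ne_one hXc.symm
    obtain ⟨Y, hYP, hYc, hYz⟩ := CompFree.exists_central_order_p hS hP.1
      (le_normalizer_of_stronglyClosed hP) hPne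
    refine ⟨Y, hYP.trans hP.1, hYc, fun h => ?_, hYz⟩
    have : Y ≤ ⊥ := hMP ▸ le_inf h hYP
    rw [le_bot_iff] at this
    rw [this, Subgroup.card_bot] at hYc
    exact (Fact.out : p.Prime).ne_one hYc.symm
  rename' y => Y, hy => hYS, hyM => hYc, hyz => hY
  obtain ⟨hYM, hYz⟩ := hY
  haveI := finite_of_le hYS
  haveI : Fact (Nat.card Y).Prime := hYc.symm ▸ inferInstance
  have hYMb : Y ⊓ M = ⊥ := by
    rcases eq_bot_or_eq_top_of_prime_card (M.subgroupOf Y) with h | h
    · rwa [Subgroup.subgroupOf_eq_bot, disjoint_iff, inf_comm] at h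
    · exact absurd (Subgroup.subgroupOf_eq_top.1 h) hYM
  -- a subgroup of index `p` of `M` containing its centre
  set Z := M ⊓ Subgroup.centralizer (M : Set Ω) with hZ
  have hZM : Z < M := lt_of_le_of_ne inf_le_left fun h => hab fun a ha b hb =>
    Subgroup.mem_centralizer_iff.1 (h.ge hb).2 a ha
  have hZc : Nat.card Z ≤ p ^ (k - 1) := by
    haveI : Finite Z := finite_of_le (hZM.le.trans hM.1)
    obtain ⟨i, hi⟩ := (hS.to_le (hZM.le.trans hM.1)).exists_card_eq
    rw [hi]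
    have h1 := card_lt_of_lt hZM
    rw [hi, hMc, Nat.pow_lt_pow_iff_right pos_p] at h1
    exact Nat.pow_le_pow_right (Fact.out : p.Prime).pos (by omega)
  obtain ⟨M₁, hZM₁, hM₁M, hM₁c⟩ := exists_between hS hZM.le hM.1 hZc
    (hMc ▸ Nat.pow_le_pow_right (Fact.out : p.Prime).pos (Nat.sub_le k 1))
  have hM₁S : M₁ ≤ S := hM₁M.trans hM.1
  haveI := finite_of_le hM₁S
  have hM₁lt : Nat.card M₁ < p ^ k :=
    hM₁c ▸ Nat.pow_lt_pow_right pos_p (by omega)
  have hM₁ne : M₁ ≠ ⊥ := fun h => by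
    rw [h, Subgroup.card_bot, eq_comm, Nat.pow_eq_one] at hM₁c
    rcases hM₁c with h1 | h1
    · exact (Fact.out : p.Prime).ne_one h1
    · omega
  set Q' := M₁ ⊔ Y with hQ'
  have hQS : Q' ≤ S := sup_le hM₁S hYS
  haveI := finite_of_le hQS
  have hM₁Y : M₁ ≤ normalizer (Y : Set Ω) := fun g hg =>
    mem_normalizer_of_forall (fun z hz => by rwa [hYz z hz g (hM₁S hg), mul_inv_cancel_right])
      fun z hz => by rwa [mul_assoc, ← hYz z hz g (hM₁S hg), inv_mul_cancel_left]
  have hinfM : Q' ⊓ M = M₁ := by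
    refine le_antisymm ?_ (le_inf le_sup_left hM₁M)
    rintro z ⟨hz, hzM⟩
    obtain ⟨a, ha, b, hb, rfl⟩ := mem_sup_dest hM₁Y hz
    have hb' : b ∈ Y ⊓ M := ⟨hb, by simpa using mul_mem (M.inv_mem (hM₁M ha)) hzM⟩
    rw [hYMb, Subgroup.mem_bot] at hb'
    rw [hb', mul_one]
    exact ha
  have hQc : Nat.card Q' = p ^ k := by
    refine le_antisymm ?_ ?_
    · have h1 : Nat.card Q' ≤ Nat.card (M₁ × Y) := by
        refine Nat.card_le_card_of_surjective (fun q : M₁ × Y => (⟨(q.1 : Ω) * q.2,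
          mul_mem (Subgroup.mem_sup_left q.1.2) (Subgroup.mem_sup_right q.2.2)⟩ : Q')) fun z => ?_
        obtain ⟨a, ha, b, hb, e⟩ := mem_sup_dest hM₁Y z.2
        exact ⟨(⟨a, ha⟩, ⟨b, hb⟩), Subtype.ext e⟩
      rw [Nat.card_prod, hM₁c, hYc, ← pow_succ] at h1
      rwa [show k - 1 + 1 = k by omega] at h1
    · obtain ⟨i, hi⟩ := (hS.to_le hQS).exists_card_eq
      have h1 : M₁ < Q' := lt_of_le_of_ne le_sup_left fun h => hYM
        ((h ▸ le_sup_right : Y ≤ M₁).trans hM₁M)
      have h2 := card_lt_of_lt h1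
      rw [hi, hM₁c, Nat.pow_lt_pow_iff_right pos_p] at h2
      rw [hi]
      exact Nat.pow_le_pow_right (Fact.out : p.Prime).pos (by omega)
  obtain ⟨P, hP, hsup, hinf⟩ := H.emb Q' hQS hQc
  have hQ'nc : ¬ F.StronglyClosed Q' := fun hQ => by
    have := hbig _ (hinfM ▸ stronglyClosed_inf hQ hM) hM₁ne
    omega
  have hQP : Q' ⊓ P = ⊥ :=
    (hclosed_le _ Q' hinf inf_le_left hQS hQc).resolve_right fun h => hQ'nc (h ▸ hinf)
  have hMP : M ⊓ P = ⊥ :=
    (hclosed_le _ M (stronglyClosed_inf hM hP) inf_le_left hM.1 hMc).resolve_right fun h =>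
      hM₁ne (le_bot_iff.1 (hQP ▸ le_inf le_sup_left (hM₁M.trans (h ▸ inf_le_right))))
  have hMQP : M ≤ Q' ⊔ P := by
    rcases hclosed_le _ M (stronglyClosed_inf hsup hM) inf_le_right hM.1 hMc with h | h
    · exact absurd (le_bot_iff.1 (h ▸ le_inf (le_sup_left.trans le_sup_left) hM₁M)) hM₁ne
    · exact h ▸ inf_le_left
  have hPM : ∀ a ∈ P, ∀ n ∈ M, a * n = n * a := fun a ha n hn => by
    have h1 : a * n * a⁻¹ * n⁻¹ ∈ M ⊓ P :=
      ⟨mul_mem (StronglyClosed.conj_mem' hM (hP.1 ha) hn) (M.inv_mem hn), by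
        rw [show a * n * a⁻¹ * n⁻¹ = a * (n * a⁻¹ * n⁻¹) by group]
        exact mul_mem ha (StronglyClosed.conj_mem' hP (hM.1 hn) (P.inv_mem ha))⟩
    rw [hMP, Subgroup.mem_bot, mul_inv_eq_one, mul_inv_eq_iff_eq_mul] at h1
    exact h1
  refine absurd hMc ?_
  rw [show M = M₁ from le_antisymm (fun m hm => ?_) hM₁M]
  · omega
  obtain ⟨q, hq, a, ha, rfl⟩ :=
    mem_sup_dest (hQS.trans (le_normalizer_of_stronglyClosed hP)) (hMQP hm)
  obtain ⟨b, hb, w, hw, rfl⟩ := mem_sup_dest hM₁Y hq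
  have hb' : b⁻¹ * (b * w * a) ∈ Z := by
    refine ⟨mul_mem (M.inv_mem (hM₁M hb)) hm, Subgroup.mem_centralizer_iff.2 fun n hn => ?_⟩
    rw [show b⁻¹ * (b * w * a) = w * a by group, ← mul_assoc, hYz w hw n (hM.1 hn), mul_assoc,
      ← hPM a ha n hn, mul_assoc]
  have := mul_mem hb (hZM₁ hb')
  rwa [mul_inv_cancel_left] at this

/-- The criterion: the system is inner. -/
theorem isInner_of_hEmb (n : ℕ) : ∀ {Ω : Type u} [Group Ω] {S : Subgroup Ω} [Finite S]
    {F : FusionSystem S} {k : ℕ}, Nat.card S ≤ n → IsPGroup p S → F.IsSaturated p →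
    HEmb F p k → IsInner F := by
  induction n with
  | zero =>
    intro Ω _ S _ F k hn
    exact absurd hn (by have := Nat.card_pos (α := S); omega)
  | succ n ih =>
    intro Ω _ S _ F k hn hS hF H
    by_contra hnot
    obtain ⟨R₀, hR₀S, hR₀⟩ : ∃ R ≤ S, ¬ CopTriv F p R := by
      by_contra h
      push Not at h
      exact hnot (isInner_of_copTriv hS hF h)
    obtain ⟨R₁, ⟨hR₁S, hR₁⟩, hR₁max⟩ := Set.exists_max_image
      {R : Subgroup Ω | R ≤ S ∧ ¬ CopTriv F p R} (fun R => Nat.card R)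
      ((finite_subgroups_le (S := S)).subset fun R hR => hR.1) ⟨R₀, hR₀S, hR₀⟩
    obtain ⟨R, hR₁R, hRn⟩ := exists_fullyNormalized F hR₁S
    have hRS := hRn.1
    haveI := finite_of_le hRS
    have hnR : ¬ CopTriv F p R := fun h => hR₁ (copTriv_of_isConj hR₁R h)
    have hbig : ∀ T ≤ S, Nat.card R < Nat.card T → CopTriv F p T := fun T hT hlt => by
      by_contra hc
      have := hR₁max T ⟨hT, hc⟩
      rw [isConj_card hR₁R] at hlt
      omega
    obtain ⟨α, hα, hc, hne⟩ : ∃ α ∈ F.autGroup R, (orderOf α).Coprime p ∧ α ≠ 1 := by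
      unfold CopTriv at hnR
      push Not at hnR
      exact hnR
    have hαm := (mem_autGroup hRS).1 hα
    have hsmall : ∀ X, F.StronglyClosed X → X ≤ R → ¬ p ^ k ≤ Nat.card X := fun X hX hXR hk =>
      hnR (copTriv_of_card hS hF H hRS (hk.trans (card_le_of_le hXR)))
    have hS1 : S ≠ ⊥ := fun h => by
      have := H.lt_card
      rw [h, Subgroup.card_bot] at this
      exact absurd this (not_lt.2 (Nat.one_le_pow _ _ (Fact.out : p.Prime).pos))
    obtain ⟨M, ⟨hM, hMne⟩, hMmin⟩ := Set.exists_min_image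
      {X : Subgroup Ω | F.StronglyClosed X ∧ X ≠ ⊥} (fun X => Nat.card X)
      ((finite_subgroups_le (S := S)).subset fun X hX => hX.1.1)
      ⟨S, stronglyClosed_of_forall le_rfl fun R _ f hf x hx => hf.apply_mem hx, hS1⟩
    haveI := finite_of_le hM.1
    haveI := (Subgroup.nontrivial_iff_ne_bot M).2 hMne
    obtain ⟨j, hj⟩ := (hS.to_le hM.1).exists_card_eq
    have hj0 : j ≠ 0 := fun h => by
      rw [h, pow_zero] at hj
      exact (Finite.one_lt_card (α := M)).ne' hj
    by_cases hMk : p ^ k ≤ Nat.card M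
    · obtain ⟨X, hXM, hX, hXc⟩ := exists_closed_card hS hF H hM hMk
      have hXne : X ≠ ⊥ := fun h => by
        rw [h, Subgroup.card_bot, eq_comm, Nat.pow_eq_one] at hXc
        exact hXc.elim (Fact.out : p.Prime).ne_one H.pos
      have hXeq : X = M := Subgroup.eq_of_le_of_card_ge hXM (hMmin X ⟨hX, hXne⟩)
      subst hXeq
      exact hsmall X hM (le_of_abelian hS hF hRn hbig hα hc hne hM
        (abelian_of_minimal hS H hM hXc fun Y hY hYne => hXc ▸ hMmin Y ⟨hY, hYne⟩)) hXc.ge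
    push Not at hMk
    have hjk : j < k := (Nat.pow_lt_pow_iff_right pos_p).1 (hj ▸ hMk)
    have hmod : ∀ (N : Subgroup Ω) (i : ℕ), F.StronglyClosed N → Nat.card N = p ^ i → i ≠ 0 →
        i < k → ∀ P f, IsMap F P f → ∃ s ∈ S, ∀ x ∈ P, (f x)⁻¹ * (s * x * s⁻¹) ∈ N := by
      intro N i hN hi hi0 hik P f hf
      haveI : (N.subgroupOf S).Normal :=
        Subgroup.normal_subgroupOf_of_le_normalizer (le_normalizer_of_stronglyClosed hN)
      obtain ⟨E, hE⟩ := Cfsg.Agent.S5132.result p hS F N hN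
      have hQp : IsPGroup p (⊤ : Subgroup (S ⧸ N.subgroupOf S)) :=
        (hS.to_quotient _).to_subgroup ⊤
      have hlt : Nat.card (⊤ : Subgroup (S ⧸ N.subgroupOf S)) ≤ n := by
        have h1 := card_factor hE
        rw [hi] at h1
        have h2 : 2 ≤ p ^ i :=
          le_trans (Fact.out : p.Prime).two_le (Nat.le_self_pow hi0 p)
        have h3 := Nat.card_pos (α := (⊤ : Subgroup (S ⧸ N.subgroupOf S)))
        nlinarith
      have hin := ih hlt hQp (isSaturated_factor hS hF hN hE) (H.factor hN hE hi hik)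
      obtain ⟨φ, hφ, e⟩ := hf.exists_hom
      obtain ⟨φ', hφ', hPS, hφS, hP', h⟩ := (isMorphism_factor hS hF hN hE).2 P φ hφ
      obtain ⟨t, -, ht⟩ := hin _ _ (isMap_toFun hφ')
      obtain ⟨s, rfl⟩ := QuotientGroup.mk'_surjective _ t
      refine ⟨s, s.2, fun x hx => ?_⟩
      have h1 := ht _ (hP' ⟨x, hx⟩)
      rw [toFun_apply φ' (hP' ⟨x, hx⟩), h ⟨x, hx⟩, ← factor_conj] at h1
      have h2 := (factor_map_eq_iff hE).1 h1
      have h3 : (φ ⟨x, hx⟩)⁻¹ * ((s : Ω) * x * (s : Ω)⁻¹) ∈ N := h2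
      rw [e ⟨x, hx⟩] at h3
      exact h3
    have hαM := mod_of_congr hS hM (hmod M j hM hj hj0 hjk) hRS hα hc
    by_cases hsec : ∃ N, F.StronglyClosed N ∧ N ≠ ⊥ ∧ M ⊓ N = ⊥
    · obtain ⟨N, hN, hNne, hMN⟩ := hsec
      by_cases hNk : p ^ k ≤ Nat.card N
      · exact hsmall N hN (le_of_disjoint hS hF hRn hbig hα hc hne hM hN hMN hαM) hNk
      haveI := finite_of_le hN.1
      haveI := (Subgroup.nontrivial_iff_ne_bot N).2 hNne
      obtain ⟨i, hi⟩ := (hS.to_le hN.1).exists_card_eq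
      have hi0 : i ≠ 0 := fun h => by
        rw [h, pow_zero] at hi
        exact (Finite.one_lt_card (α := N)).ne' hi
      have hαN := mod_of_congr hS hN (hmod N i hN hi hi0
        ((Nat.pow_lt_pow_iff_right pos_p).1 (hi ▸ lt_of_not_ge hNk))) hRS hα hc
      refine hne (mulAut_ext fun x hx => ?_)
      have h1 : x⁻¹ * autFun α x ∈ M ⊓ N := ⟨hαM x hx, hαN x hx⟩
      rw [hMN, Subgroup.mem_bot, inv_mul_eq_one] at h1
      rw [autFun_one hx, ← h1]
    push Not at hsec
    have huniq : ∀ X, F.StronglyClosed X → X ≠ ⊥ → M ≤ X := fun X hX hXne => by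
      have h1 : M ⊓ X = M := Subgroup.eq_of_le_of_card_ge inf_le_left
        (hMmin _ ⟨stronglyClosed_inf hM hX, hsec X hX hXne⟩)
      exact h1 ▸ inf_le_right
    by_cases hMp : Nat.card M = p
    · haveI : Fact (Nat.card M).Prime := hMp.symm ▸ inferInstance
      refine hne (eq_one_of_stab hS hRS hc hαM fun y hy hyM => ?_)
      rcases eq_bot_or_eq_top_of_prime_card (R.subgroupOf M) with h | h
      · rw [Subgroup.subgroupOf_eq_bot, disjoint_iff] at h
        have : y = 1 := Subgroup.mem_bot.1 (h ▸ ⟨hy, hyM⟩ : y ∈ (⊥ : Subgroup Ω))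
        rw [this, hαm.map_one]
      have hMR : M ≤ R := Subgroup.subgroupOf_eq_top.1 h
      have hn : F.IsFullyNormalized M := ⟨hM.1, fun Q _ => by
        rw [show normalizerIn S M = S from inf_eq_left.2 (le_normalizer_of_stronglyClosed hM)]
        exact card_le_of_le inf_le_left⟩
      obtain ⟨X, hXM, hXc, hXz⟩ := CompFree.exists_central_order_p hS hM.1
        (le_normalizer_of_stronglyClosed hM) hMne
      have hXeq : X = M := Subgroup.eq_of_le_of_card_ge hXM (hMp.trans hXc.symm).le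
      subst hXeq
      have hαres := hαm.res hMR
      have hfix : fimg (autFun α) X = X := fimg_stronglyClosed hM hαm hMR
      obtain ⟨g, hg, hge⟩ := receptive_extend (receptive_of_fullyNormalized hS hF hn) hαres hfix
        (N := S) (fun s hs => ⟨⟨hs, le_normalizer_of_stronglyClosed hM hs⟩, 1, S.one_mem,
          fun x hx => by rw [hXz x hx s hs, mul_inv_cancel_right]; simp⟩) hM.1
      obtain ⟨γ, hγ, hγe⟩ := hg.exists_aut (fimg_eq_self_of_source_top hg)
      obtain ⟨β, hβ, hβe⟩ := hαres.exists_aut hfix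
      obtain ⟨e, he⟩ := isPGroup_of_copTriv le_rfl
        (copTriv_of_card hS hF H le_rfl H.lt_card.le) ⟨γ, hγ⟩
      have he' : γ ^ p ^ e = 1 := congrArg Subtype.val he
      have h1 : ∀ z ∈ X, autFun (α ^ p ^ e) z = z := fun z hz => by
        rw [autFun_pow_eq hMR (fun w hw => (hβe w hw).symm) _ z hz,
          ← autFun_pow_eq hM.1
            (fun w hw => ((hγe w (hM.1 hw)).trans (hge w hw)).trans (hβe w hw).symm) _ z hz,
          he', autFun_one (hM.1 hz)]
      obtain ⟨t, ht⟩ := exists_pow_eq_self_of_coprime (hc.pow_right e).symm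
      have h2 : ∀ t : ℕ, autFun ((α ^ p ^ e) ^ t) y = y := by
        intro t
        induction t with
        | zero => rw [pow_zero, autFun_one hy]
        | succ t ih => rw [pow_succ, autFun_mul _ _ hy, h1 y hyM, ih]
      have h3 := h2 t
      rwa [ht] at h3
    · refine hnot (isInner_of_mod_frattini hS hF
        (frattini_of_unique hS H hM hMk (lt_of_le_of_ne ?_ (Ne.symm hMp)) huniq)
        (hmod M j hM hj hj0 hjk))
      rw [hj]
      exact Nat.le_self_pow hj0 p

/-- The criterion and its converse. -/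
theorem isInner_iff_weakly_embedded (hS : IsPGroup p S) (hF : F.IsSaturated p)
    (hcard : p ^ 2 ≤ Nat.card S) :
    IsInner F ↔ ∃ D : Subgroup Ω, ⊥ < D ∧ D < S ∧ (∀ Q : Subgroup Ω, Q ≤ S →
        Nat.card ↥Q = Nat.card ↥D → ∃ P : Subgroup Ω, F.StronglyClosed P ∧
        F.StronglyClosed (Q ⊔ P) ∧ F.StronglyClosed (Q ⊓ P)) ∧
      (∀ H : Subgroup Ω, F.IsFullyNormalized H → Nat.card ↥H = Nat.card ↥D →
        ∀ N : FusionSystem (FusionSystem.normalizerIn S H), F.IsNormalizerSystem H N →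
        ∀ P : Subgroup Ω, N.Hom P = (innerFusionSystem (FusionSystem.normalizerIn S H)).Hom P) := by
  constructor
  · intro hin
    obtain ⟨D, -, hDS, hDc⟩ := exists_between (k := 1) hS (bot_le : ⊥ ≤ S) le_rfl
      (by rw [Subgroup.card_bot, pow_one]; exact (Fact.out : p.Prime).pos)
      (le_trans (Nat.pow_le_pow_right (Fact.out : p.Prime).pos one_le_two) hcard)
    rw [pow_one] at hDc
    have hp1 : 1 < p := pos_p
    refine ⟨D, bot_lt_iff_ne_bot.2 fun h => ?_, lt_of_le_of_ne hDS fun h => ?_,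
      fun Q hQ hQc => emb_of_isInner hS hin hQ (hQc.trans hDc), fun H hH _ N hN => ?_⟩
    · rw [h, Subgroup.card_bot] at hDc
      omega
    · rw [h] at hDc
      rw [hDc, sq] at hcard
      nlinarith
    obtain rfl := isNormalizerSystem_unique hN (isNormalizerSystem_normalizerSystem F hH.1)
    refine isInner_iff.1 fun P f hf => ?_
    obtain ⟨hP, -, g, hg, hgf, hgH⟩ := (isMap_normalizerSystem hH.1).1 hf
    obtain ⟨s, hs, hse⟩ := hin _ g hg
    refine ⟨s, ⟨hs, ?_⟩, fun x hx => (hgf x hx).symm.trans (hse x (Subgroup.mem_sup_left hx))⟩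
    refine mem_normalizer_of_forall (fun x hx => ?_) fun x hx => ?_
    · rw [← hse x (Subgroup.mem_sup_right hx), ← hgH]
      exact apply_mem_fimg g hx
    · rw [← hgH] at hx
      obtain ⟨y, hy, rfl⟩ := (hg.res le_sup_right).mem_fimg_iff.1 hx
      rw [hse y (Subgroup.mem_sup_right hy), show s⁻¹ * (s * y * s⁻¹) * s = y by group]
      exact hy
  · rintro ⟨D, hD0, hDS, hemb, hnorm⟩
    haveI := finite_of_le hDS.le
    haveI := (Subgroup.nontrivial_iff_ne_bot D).2 hD0.ne'
    obtain ⟨k, hk⟩ := (hS.to_le hDS.le).exists_card_eq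
    refine isInner_of_hEmb (k := k) _ le_rfl hS hF
      ⟨fun h => ?_, hk ▸ card_lt_of_lt hDS, fun Q hQ hQc => hemb Q hQ (hQc.trans hk.symm), ?_⟩
    · rw [h, pow_zero] at hk
      exact (Finite.one_lt_card (α := D)).ne' hk
    intro H hH hHc P f hf hHP hPn hfH
    have hf' : IsMap (normalizerSystem F H hH.1) P f := by
      haveI := finite_of_le (hHP.trans hf.source_le)
      have hfimg : fimg f H = H :=
        Subgroup.eq_of_le_of_card_ge (fimg_le hfH) (hf.res hHP).card_fimg.ge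
      refine (isMap_normalizerSystem hH.1).2 ⟨le_inf hf.source_le hPn, fun x hx => ?_, f, ?_,
        fun _ _ => rfl, hfimg⟩
      · have h1 := hf.map_normalizerIn hHP hx (hPn hx)
        rwa [hfimg] at h1
      · rwa [sup_eq_left.2 hHP]
    obtain ⟨s, hs, e⟩ := (isInner_iff.2 (hnorm H hH (hHc.trans hk.symm) _
      (isNormalizerSystem_normalizerSystem F hH.1))) P f hf'
    exact ⟨s, hs.1, e⟩

end Cfsg.Agent.Fus.InEmb
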