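import Cfsg.Agent.Lib.Fus.Alperin
import Cfsg.Agent.Lib.Fus.SolvableSystem
import Cfsg.Agent.Lib.Fus.CharInner
import Cfsg.Agent.Lib.Fus.CharTypeDichotomy

/-!
Systems in which the subgroups of some fixed order are weakly embedded modulo strongly closed
subgroups and have inner normalizer systems: lattices of closed subgroups, automorphisms of order
prime to `p` and the maximal counterexample.
-/

set_option autoImplicit false
set_option linter.style.haveILetI false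
set_option linter.unusedSectionVars false

open scoped Classical

namespace Cfsg.Agent.Fus.InEmb

open Subgroup FusionSystem

universe u

variable {Ω : Type u} [Group Ω] {S : Subgroup Ω} {F : FusionSystem S} {p : ℕ} [Fact p.Prime]

/-- Every automorphism of `R` in the system of order prime to `p` is trivial. -/
def CopTriv (F : FusionSystem S) (p : ℕ) (R : Subgroup Ω) : Prop :=
  ∀ α ∈ F.autGroup R, (orderOf α).Coprime p → α = 1

/-- The hypothesis of the criterion, at the order `p ^ k`. -/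
structure HEmb (F : FusionSystem S) (p k : ℕ) : Prop where
  pos : k ≠ 0
  lt_card : p ^ k < Nat.card S
  emb : ∀ Q : Subgroup Ω, Q ≤ S → Nat.card Q = p ^ k →
    ∃ P, F.StronglyClosed P ∧ F.StronglyClosed (Q ⊔ P) ∧ F.StronglyClosed (Q ⊓ P)
  norm : ∀ H : Subgroup Ω, F.IsFullyNormalized H → Nat.card H = p ^ k →
    ∀ P f, IsMap F P f → H ≤ P → P ≤ normalizer (H : Set Ω) → (∀ x ∈ H, f x ∈ H) →
      ∃ s ∈ S, ∀ x ∈ P, f x = s * x * s⁻¹

theorem eq_one_of_pow {G : Type*} [Monoid G] {a : G} (hc : (orderOf a).Coprime p) {e : ℕ}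
    (h : a ^ p ^ e = 1) : a = 1 :=
  orderOf_eq_one_iff.1 (Nat.eq_one_of_dvd_coprimes (hc.pow_right e) dvd_rfl
    (orderOf_dvd_of_pow_eq_one h))

theorem pos_p : 1 < p := (Fact.out : p.Prime).one_lt

theorem exists_pow_coprime {G : Type*} [Group G] [Finite G] (a : G) :
    ∃ e, (orderOf (a ^ p ^ e)).Coprime p := by
  obtain ⟨e, m, hm, he⟩ := Nat.exists_eq_pow_mul_and_not_dvd (orderOf_pos a).ne' p
    (Fact.out : p.Prime).ne_one
  refine ⟨e, Nat.Coprime.coprime_dvd_left (orderOf_dvd_of_pow_eq_one ?_)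
    ((Nat.Prime.coprime_iff_not_dvd Fact.out).2 hm).symm⟩
  rw [← pow_mul, ← he, pow_orderOf_eq_one]

variable [Finite S]

theorem isPGroup_of_copTriv {R : Subgroup Ω} (hR : R ≤ S) (h : CopTriv F p R) :
    IsPGroup p (F.autGroup R) := by
  haveI := finite_of_le hR
  intro a
  obtain ⟨e, he⟩ := exists_pow_coprime (p := p) (a : MulAut R)
  exact ⟨e, Subtype.ext (h _ (pow_mem a.2 _) he)⟩

/-- A system in which all automorphisms of order prime to `p` are trivial is inner. -/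
theorem isInner_of_copTriv (hS : IsPGroup p S) (hF : F.IsSaturated p)
    (h : ∀ R ≤ S, CopTriv F p R) : IsInner F := by
  have key : ∀ P, F.IsFullyNormalized P → ∀ α ∈ F.autGroup P,
      ∃ s ∈ S, ∀ x ∈ P, autFun α x = s * x * s⁻¹ := fun P hP α hα => by
    obtain ⟨s, hs, e⟩ := mem_autInducedBy.1 (autGroup_le_autInducedBy_of_isPGroup
      (fullyAutomized_of_fullyNormalized hS hF hP) (isPGroup_of_copTriv hP.1 (h P hP.1)) hα)
    exact ⟨s, hs, fun x hx => (autFun_coe α ⟨x, hx⟩).trans (e ⟨x, hx⟩)⟩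
  intro P f hf
  refine alperin hS hF (fun P f => ∃ s ∈ S, ∀ x ∈ P, f x = s * x * s⁻¹) ?_ ?_ ?_
    (key S (fullyNormalized_self F)) (fun P hP => key P hP.2.1) hf
  · rintro P f g ⟨s, hs, e⟩ hfg
    exact ⟨s, hs, fun x hx => (hfg x hx).symm.trans (e x hx)⟩
  · rintro P Q f g _ _ hPQ ⟨s, hs, e⟩ ⟨t, ht, e'⟩
    refine ⟨t * s, S.mul_mem ht hs, fun x hx => ?_⟩
    show g (f x) = _
    rw [e' _ (hPQ x hx), e x hx]
    group
  · rintro P Q f _ hPQ ⟨s, hs, e⟩
    exact ⟨s, hs, fun x hx => e x (hPQ hx)⟩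

/-- Triviality of automorphisms of order prime to `p` passes to conjugates. -/
theorem copTriv_of_isConj {R Q : Subgroup Ω} (h : F.IsConj R Q) (hQ : CopTriv F p Q) :
    CopTriv F p R := by
  obtain ⟨f, hf, hfQ⟩ := isConj_iff.1 h
  obtain ⟨e, -, hee⟩ := exists_mulEquiv hf hfQ
  intro α hα hc
  have := hQ (MulAut.congr e α) ((hee α).1 hα) (by rwa [MulEquiv.orderOf_eq])
  exact (MulEquiv.map_eq_one_iff _).1 this

/-- A subgroup of a given order between two subgroups. -/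
theorem exists_between (hS : IsPGroup p S) {A B : Subgroup Ω} (hAB : A ≤ B) (hB : B ≤ S) {k : ℕ}
    (h1 : Nat.card A ≤ p ^ k) (h2 : p ^ k ≤ Nat.card B) :
    ∃ Q, A ≤ Q ∧ Q ≤ B ∧ Nat.card Q = p ^ k := by
  haveI := finite_of_le hB
  haveI := finite_of_le (hAB.trans hB)
  obtain ⟨i, hi⟩ := (hS.to_le (hAB.trans hB)).exists_card_eq
  obtain ⟨b, hb⟩ := (hS.to_le hB).exists_card_eq
  have hdvd : p ^ k ∣ Nat.card B := hb ▸ pow_dvd_pow p
    ((Nat.pow_le_pow_iff_right pos_p).1 (hb ▸ h2))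
  have hA : Nat.card (A.subgroupOf B) = p ^ i :=
    (Nat.card_congr (subgroupOfEquivOfLe hAB).toEquiv).trans hi
  obtain ⟨K, hK, hAK⟩ := Sylow.exists_subgroup_card_pow_prime_le p hdvd _ hA
    ((Nat.pow_le_pow_iff_right pos_p).1 (hi ▸ h1))
  refine ⟨K.map B.subtype, fun x hx => ⟨⟨x, hAB hx⟩, hAK hx, rfl⟩, map_subtype_le _, ?_⟩
  rw [card_map_of_injective B.subtype_injective, hK]

theorem eq_of_le_of_card_eq {A B : Subgroup Ω} (hAB : A ≤ B) (hB : B ≤ S)
    (h : Nat.card A = Nat.card B) : A = B :=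
  haveI := finite_of_le hB
  Subgroup.eq_of_le_of_card_ge hAB h.ge

/-- A lattice of subgroups in which every subgroup of order `p ^ k` is weakly embedded has a
member of that order. -/
theorem exists_member_card (hS : IsPGroup p S) {R : Subgroup Ω} (hR : R ≤ S)
    (L : Subgroup Ω → Prop) (hle : ∀ X, L X → X ≤ R)
    (hn : ∀ X, L X → R ≤ normalizer (X : Set Ω)) (hbot : L ⊥) (htop : L R)
    (hinf : ∀ A B, L A → L B → L (A ⊓ B)) (hsup : ∀ A B, L A → L B → L (A ⊔ B)) {k : ℕ}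
    (hk : p ^ k ≤ Nat.card R)
    (hW : ∀ Q ≤ R, Nat.card Q = p ^ k → ∃ P, L P ∧ L (Q ⊔ P) ∧ L (Q ⊓ P)) :
    ∃ H, L H ∧ Nat.card H = p ^ k := by
  by_contra hne
  push Not at hne
  have hpk : 1 ≤ p ^ k := Nat.one_le_pow _ _ (Fact.out : p.Prime).pos
  obtain ⟨B, ⟨hB, hBc⟩, hBmin⟩ := Set.exists_min_image
    {X : Subgroup Ω | L X ∧ p ^ k ≤ Nat.card X} (fun X => Nat.card X)
    ((finite_subgroups_le (S := S)).subset fun X hX => (hle X hX.1).trans hR) ⟨R, htop, hk⟩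
  have hBS := (hle B hB).trans hR
  obtain ⟨A, ⟨hA, hAB, hAc⟩, hAmax⟩ := Set.exists_max_image
    {X : Subgroup Ω | L X ∧ X ≤ B ∧ Nat.card X ≤ p ^ k} (fun X => Nat.card X)
    ((finite_subgroups_le (S := S)).subset fun X hX => (hle X hX.1).trans hR)
    ⟨⊥, hbot, bot_le, by simpa using hpk⟩
  obtain ⟨Q, hAQ, hQB, hQc⟩ := exists_between hS hAB hBS hAc hBc
  have hQR : Q ≤ R := hQB.trans (hle B hB)
  have hAR : A ≤ R := hle A hA
  obtain ⟨P₀, hP₀, hsupP, hinfP⟩ := hW Q hQR hQc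
  set P := (P₀ ⊔ A) ⊓ B with hP
  have hLP : L P := hinf _ _ (hsup _ _ hP₀ hA) hB
  have e1 : Q ⊔ P = (Q ⊔ P₀) ⊓ B := by
    refine le_antisymm (sup_le (le_inf le_sup_left hQB) (le_inf (inf_le_left.trans
      (sup_le le_sup_right (hAQ.trans le_sup_left))) inf_le_right)) ?_
    rintro x ⟨hx, hxB⟩
    obtain ⟨q, hq, y, hy, rfl⟩ := mem_sup_dest (hQR.trans (hn P₀ hP₀)) hx
    refine mul_mem (Subgroup.mem_sup_left hq) (Subgroup.mem_sup_right ⟨Subgroup.mem_sup_left hy, ?_⟩)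
    simpa using mul_mem (inv_mem (hQB hq)) hxB
  have e2 : Q ⊓ P = A ⊔ (Q ⊓ P₀) := by
    refine le_antisymm ?_ (sup_le (le_inf hAQ (le_inf le_sup_right hAB))
      (le_inf inf_le_left (le_inf (inf_le_right.trans le_sup_left) (inf_le_left.trans hQB))))
    rintro x ⟨hxQ, hx, -⟩
    obtain ⟨a, ha, y, hy, rfl⟩ := mem_sup_dest (hAR.trans (hn P₀ hP₀))
      (sup_comm P₀ A ▸ hx : x ∈ A ⊔ P₀)
    refine mul_mem (Subgroup.mem_sup_left ha) (Subgroup.mem_sup_right ⟨?_, hy⟩)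
    simpa using mul_mem (inv_mem (hAQ ha)) hxQ
  haveI : Finite B := finite_of_le hBS
  haveI : Finite Q := finite_of_le (hQR.trans hR)
  have small : ∀ X, L X → X ≤ B → X ≠ B → Nat.card X < p ^ k := fun X hX hXB hXne => by
    by_contra hc
    push Not at hc
    exact (hBmin X ⟨hX, hc⟩).not_gt (card_lt_of_lt (lt_of_le_of_ne hXB hXne))
  have maxA : ∀ X, L X → X ≤ B → A ≤ X → Nat.card X ≤ p ^ k → A = X :=
    fun X hX hXB hAX hXc => eq_of_le_of_card_eq hAX (hXB.trans hBS)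
      (le_antisymm (haveI := finite_of_le (hXB.trans hBS); card_le_of_le hAX)
        (hAmax X ⟨hX, hXB, hXc⟩))
  have hQL : ¬ L Q := fun h => hne Q h hQc
  have hinfA : Q ⊓ P = A := (maxA _ (e2 ▸ hsup _ _ hA hinfP) (inf_le_left.trans hQB)
    (le_inf hAQ (le_inf le_sup_right hAB)) (hQc ▸ card_le_of_le inf_le_left)).symm
  have hLsup : L (Q ⊔ P) := e1 ▸ hinf _ _ hsupP hB
  have hsupB : Q ⊔ P = B := by
    by_contra hc
    have hlt := small _ hLsup (sup_le hQB inf_le_right) hc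
    haveI : Finite ↥(Q ⊔ P) := finite_of_le ((sup_le hQB inf_le_right).trans hBS)
    have := card_le_of_le (le_sup_left : Q ≤ Q ⊔ P)
    omega
  by_cases hPB : P = B
  · exact hQL (by rw [show Q = Q ⊓ P by rw [hPB, inf_eq_left.2 hQB], hinfA]; exact hA)
  · have hPA : A = P := maxA P hLP inf_le_right (le_inf le_sup_right hAB)
      (small P hLP inf_le_right hPB).le
    rw [← hPA, sup_eq_left.2 hAQ] at hLsup
    exact hQL hLsup

theorem le_normalizer_sup {R A B : Subgroup Ω} (hA : R ≤ normalizer (A : Set Ω))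
    (hB : R ≤ normalizer (B : Set Ω)) : R ≤ normalizer ((A ⊔ B : Subgroup Ω) : Set Ω) :=
  fun _ hg => normalizer_sup_le (hB hg) (hA hg)

theorem le_normalizer_inf {R A B : Subgroup Ω} (hA : R ≤ normalizer (A : Set Ω))
    (hB : R ≤ normalizer (B : Set Ω)) : R ≤ normalizer ((A ⊓ B : Subgroup Ω) : Set Ω) :=
  fun _ hg => mem_normalizer_iff.2 fun n => (and_congr (mem_normalizer_iff.1 (hA hg) n)
    (mem_normalizer_iff.1 (hB hg) n) : n ∈ A ∧ n ∈ B ↔ _)

theorem inf_sup_inf {Q P R : Subgroup Ω} (hQR : Q ≤ R) (hn : Q ≤ normalizer (P : Set Ω)) :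
    Q ⊔ (P ⊓ R) = (Q ⊔ P) ⊓ R := by
  refine le_antisymm (sup_le (le_inf le_sup_left hQR)
    (le_inf (inf_le_left.trans le_sup_right) inf_le_right)) ?_
  rintro x ⟨hx, hxR⟩
  obtain ⟨q, hq, y, hy, rfl⟩ := mem_sup_dest hn hx
  refine mul_mem (Subgroup.mem_sup_left hq) (Subgroup.mem_sup_right ⟨hy, ?_⟩)
  simpa using mul_mem (inv_mem (hQR hq)) hxR

variable {k : ℕ}

/-- Every automorphism of a subgroup of order at least `p ^ k` leaves invariant some normal
subgroup of order `p ^ k`. -/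
theorem exists_invariant (hS : IsPGroup p S) (H : HEmb F p k) {R : Subgroup Ω} (hR : R ≤ S)
    (hk : p ^ k ≤ Nat.card R) {α : MulAut R} (hα : α ∈ F.autGroup R) :
    ∃ X ≤ R, R ≤ normalizer (X : Set Ω) ∧ (∀ x ∈ X, autFun α x ∈ X) ∧ Nat.card X = p ^ k := by
  have hm := (mem_autGroup hR).1 hα
  have hcl : ∀ P, F.StronglyClosed P → P ⊓ R ≤ R ∧ R ≤ normalizer ((P ⊓ R : Subgroup Ω) : Set Ω) ∧
      ∀ x ∈ P ⊓ R, autFun α x ∈ P ⊓ R := fun P hP =>
    ⟨inf_le_right, le_normalizer_inf (hR.trans (le_normalizer_of_stronglyClosed hP))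
      Subgroup.le_normalizer, fun x hx => ⟨StronglyClosed.apply_mem hP
      (hm.res (inf_le_right : P ⊓ R ≤ R)) inf_le_left hx, autFun_mem α hx.2⟩⟩
  obtain ⟨X, ⟨h1, h2, h3⟩, h4⟩ := exists_member_card (k := k) hS hR
    (fun X => X ≤ R ∧ R ≤ normalizer (X : Set Ω) ∧ ∀ x ∈ X, autFun α x ∈ X)
    (fun X hX => hX.1) (fun X hX => hX.2.1)
    ⟨bot_le, fun g _ => mem_normalizer_iff.2 fun n => by simp,
      fun x hx => by rw [Subgroup.mem_bot] at hx; rw [hx, hm.map_one]; exact one_mem _⟩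
    ⟨le_rfl, Subgroup.le_normalizer, fun x hx => autFun_mem α hx⟩
    (fun A B hA hB => ⟨inf_le_left.trans hA.1, le_normalizer_inf hA.2.1 hB.2.1,
      fun x hx => ⟨hA.2.2 x hx.1, hB.2.2 x hx.2⟩⟩)
    (fun A B hA hB => ⟨sup_le hA.1 hB.1, le_normalizer_sup hA.2.1 hB.2.1, fun x hx => by
      obtain ⟨a, ha, b, hb, rfl⟩ := mem_sup_dest (hA.1.trans hB.2.1) hx
      rw [hm.map_mul (hA.1 ha) (hB.1 hb)]
      exact mul_mem (Subgroup.mem_sup_left (hA.2.2 a ha)) (Subgroup.mem_sup_right (hB.2.2 b hb))⟩)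
    hk fun Q hQ hQc => by
      obtain ⟨P, hP, hsup, hinf⟩ := H.emb Q (hQ.trans hR) hQc
      refine ⟨P ⊓ R, hcl P hP, ?_, ?_⟩
      · rw [inf_sup_inf hQ ((hQ.trans hR).trans (le_normalizer_of_stronglyClosed hP))]
        exact hcl _ hsup
      · rw [show Q ⊓ (P ⊓ R) = (Q ⊓ P) ⊓ R from (inf_assoc _ _ _).symm]
        exact hcl _ hinf
  exact ⟨X, h1, h2, h3, h4⟩

/-- A strongly closed subgroup of order at least `p ^ k` contains one of order exactly `p ^ k`. -/
theorem exists_closed_card (hS : IsPGroup p S) (hF : F.IsSaturated p) (H : HEmb F p k)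
    {B : Subgroup Ω} (hB : F.StronglyClosed B) (hk : p ^ k ≤ Nat.card B) :
    ∃ X ≤ B, F.StronglyClosed X ∧ Nat.card X = p ^ k := by
  obtain ⟨X, ⟨h1, h2⟩, h3⟩ := exists_member_card (k := k) hS hB.1
    (fun X => X ≤ B ∧ F.StronglyClosed X) (fun X hX => hX.1)
    (fun X hX => hB.1.trans (le_normalizer_of_stronglyClosed hX.2))
    ⟨bot_le, stronglyClosed_of_isNormal (isNormal_bot F)⟩ ⟨le_rfl, hB⟩
    (fun A C hA hC => ⟨inf_le_left.trans hA.1, stronglyClosed_inf hA.2 hC.2⟩)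
    (fun A C hA hC => ⟨sup_le hA.1 hC.1, stronglyClosed_sup hS hF hA.2 hC.2⟩)
    hk fun Q hQ hQc => by
      obtain ⟨P, hP, hsup, hinf⟩ := H.emb Q (hQ.trans hB.1) hQc
      refine ⟨P ⊓ B, ⟨inf_le_right, stronglyClosed_inf hP hB⟩, ?_, ?_⟩
      · rw [inf_sup_inf hQ ((hQ.trans hB.1).trans (le_normalizer_of_stronglyClosed hP))]
        exact ⟨inf_le_right, stronglyClosed_inf hsup hB⟩
      · rw [show Q ⊓ (P ⊓ B) = (Q ⊓ P) ⊓ B from (inf_assoc _ _ _).symm]
        exact ⟨inf_le_right, stronglyClosed_inf hinf hB⟩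
  exact ⟨X, h1, h2, h3⟩

/-- Automorphisms of order prime to `p` of subgroups of order at least `p ^ k` are trivial. -/
theorem copTriv_of_card (hS : IsPGroup p S) (hF : F.IsSaturated p) (H : HEmb F p k)
    {R : Subgroup Ω} (hR : R ≤ S) (hk : p ^ k ≤ Nat.card R) : CopTriv F p R := by
  intro α hα hc
  have hm := (mem_autGroup hR).1 hα
  obtain ⟨X, hXR, hXn, hXi, hXc⟩ := exists_invariant hS H hR hk hα
  obtain ⟨X', hXX', hX'⟩ := exists_fullyNormalized F (hXR.trans hR)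
  obtain ⟨u, hu, huX, huN⟩ := exists_map_to_fullyNormalized hS hF hX' hXX'
  have hRN : R ≤ normalizerIn S X := le_inf hR hXn
  have huR := hu.res hRN
  obtain ⟨g, hg, hg1, hg2, -⟩ := huR.exists_inv
  have hmap : IsMap F (fimg u R) (fun y => u (autFun α (g y))) :=
    (hg.comp hm fun y hy => (hg2 y hy).1).comp huR fun y hy => autFun_mem α (hg2 y hy).1
  obtain ⟨s, hs, hse⟩ := H.norm X' hX' ((isConj_card hXX').trans hXc) _ _ hmap
    (huX ▸ fimg_mono u hXR)
    (fimg_le fun x hx => (huN x (hRN hx)).2) (fun y hy => by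
      rw [← huX] at hy ⊢
      obtain ⟨x, hx, rfl⟩ := (huR.res hXR).mem_fimg_iff.1 hy
      rw [hg1 x (hXR hx)]
      exact apply_mem_fimg u (hXi x hx))
  have key : ∀ n : ℕ, ∀ x ∈ R, u (autFun (α ^ n) x) = s ^ n * u x * (s ^ n)⁻¹ := by
    intro n
    induction n with
    | zero => intro x hx; rw [pow_zero, autFun_one hx]; simp
    | succ n ih =>
      intro x hx
      have h1 := hse _ (apply_mem_fimg u (autFun_mem (α ^ n) hx))
      rw [hg1 _ (autFun_mem _ hx), ih x hx] at h1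
      rw [pow_succ', autFun_mul _ _ hx, h1, pow_succ']
      group
  obtain ⟨e, he⟩ := hS ⟨s, hs⟩
  have he' : s ^ p ^ e = 1 := by simpa using congrArg Subtype.val he
  refine eq_one_of_pow hc (e := e) (mulAut_ext fun x hx => huR.injOn (autFun_mem _ hx)
    (autFun_mem _ hx) ?_)
  rw [key _ x hx, he', autFun_one hx]
  simp

/-- The subgroups `T` whose induced automorphisms are normalised by `α` lie in `R`, for a maximal
counterexample `R`. -/
theorem le_of_stable {R : Subgroup Ω} (hRr : F.IsReceptive R)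
    (hbig : ∀ T ≤ S, Nat.card R < Nat.card T → CopTriv F p T) {α : MulAut R}
    (hα : α ∈ F.autGroup R) (hc : (orderOf α).Coprime p) (hne : α ≠ 1)
    {A : Subgroup (MulAut R)} (hA : A ≤ autInducedBy S R) (hAα : ∀ a ∈ A, α * a * α⁻¹ ∈ A)
    {g : Ω} (hg : g ∈ normalizerIn S R)
    (hgA : R.normalizerMonoidHom ⟨g, hg.2⟩ ∈ A) : g ∈ R := by
  have hR := hRr.1
  haveI := finite_of_le hR
  set A₁ : Subgroup (MulAut R) := A ⊔ Inn R with hA₁
  have hA₁S : A₁ ≤ autInducedBy S R :=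
    sup_le hA (inn_eq_autInducedBy R ▸ autInducedBy_mono hR R)
  have hA₁α : ∀ a ∈ A₁, α * a * α⁻¹ ∈ A₁ := by
    intro a ha
    have h1 : A₁.map (MulAut.conj α).toMonoidHom ≤ A₁ := by
      rw [hA₁, Subgroup.map_sup]
      refine sup_le_sup ?_ ?_
      · rintro _ ⟨b, hb, rfl⟩
        exact hAα b hb
      · rintro _ ⟨b, ⟨r, rfl⟩, rfl⟩
        refine ⟨α r, MulEquiv.ext fun x => ?_⟩
        show α r * x * (α r)⁻¹ = α (r * α⁻¹ x * r⁻¹)
        rw [map_mul, map_mul, map_inv, MulAut.apply_inv_self]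
    exact h1 ⟨a, ha, rfl⟩
  let T : Subgroup Ω := normalizerIn S R ⊓
    (A₁.comap R.normalizerMonoidHom).map (normalizer (R : Set Ω)).subtype
  have hT : ∀ t, t ∈ T ↔ ∃ ht : t ∈ normalizerIn S R,
      R.normalizerMonoidHom ⟨t, ht.2⟩ ∈ A₁ := fun t => by
    constructor
    · rintro ⟨h1, t', ht', rfl⟩
      exact ⟨h1, ht'⟩
    · rintro ⟨h1, h2⟩
      exact ⟨h1, ⟨t, h1.2⟩, h2, rfl⟩
  have hRT : R ≤ T := fun x hx => (hT x).2 ⟨le_normalizerIn hR hx,
    Subgroup.mem_sup_right ⟨⟨x, hx⟩, MulEquiv.ext fun y => Subtype.ext rfl⟩⟩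
  by_contra hgR
  have hgT : g ∈ T := (hT g).2 ⟨hg, Subgroup.mem_sup_left hgA⟩
  have hTS : T ≤ S := fun x hx => hx.1.1
  haveI := finite_of_le hTS
  have hlt : Nat.card R < Nat.card T :=
    card_lt_of_lt (lt_of_le_of_ne hRT fun e => hgR (e ▸ hgT))
  have hαm := (mem_autGroup hR).1 hα
  have conjeq : ∀ t, ∀ ht : t ∈ normalizerIn S R, ∀ a : MulAut R,
      a = R.normalizerMonoidHom ⟨t, ht.2⟩ → ∀ y ∈ R,
      autFun (α * a * α⁻¹) (autFun α y) = autFun α (t * y * t⁻¹) := fun t ht a hat y hy => by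
    rw [mul_assoc, autFun_mul _ _ (autFun_mem α hy), autFun_mul _ _ (autFun_mem α hy),
      autFun_inv_apply α hy, hat]
    exact congrArg (autFun α) ((autFun_coe _ (⟨y, hy⟩ : R)).trans rfl)
  obtain ⟨f, hf, hfe⟩ := receptive_extend hRr hαm (fimg_autFun α) (N := T) (fun t ht => by
    obtain ⟨ht', hta⟩ := (hT t).1 ht
    obtain ⟨h, hh, hhe⟩ := mem_autInducedBy.1 (hA₁S (hA₁α _ hta))
    refine ⟨ht', h, hh, fun x hx => ?_⟩
    rw [← conjeq t ht' _ rfl x hx]
    exact (autFun_coe _ (⟨_, autFun_mem α hx⟩ : R)).trans (hhe ⟨_, autFun_mem α hx⟩)) hRT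
  have hfR : fimg f R = R := (fimg_congr hfe).trans (fimg_autFun α)
  have hfT : fimg f T = T := by
    refine Subgroup.eq_of_le_of_card_ge (fimg_le fun t ht => ?_) hf.card_fimg.ge
    obtain ⟨ht', hta⟩ := (hT t).1 ht
    have h1 := hf.map_normalizerIn hRT ht ht'.2
    rw [hfR] at h1
    refine (hT _).2 ⟨h1, ?_⟩
    rw [show R.normalizerMonoidHom ⟨f t, h1.2⟩ =
      α * R.normalizerMonoidHom ⟨t, ht'.2⟩ * α⁻¹ from mulAut_ext fun z hz => ?_]
    · exact hA₁α _ hta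
    have hy : autFun α⁻¹ z ∈ R := autFun_mem _ hz
    have hz' : z = autFun α (autFun α⁻¹ z) := by
      rw [← autFun_mul _ _ hz, mul_inv_cancel, autFun_one hz]
    conv_rhs => rw [hz', conjeq t ht' _ rfl _ hy]
    rw [show z = ((⟨z, hz⟩ : R) : Ω) from rfl, autFun_coe, normalizerMonoidHom_apply]
    show f t * z * (f t)⁻¹ = _
    rw [← hfe _ ((mem_normalizer_iff.1 ht'.2 _).1 hy), hf.map_conj ht (hRT hy), hfe _ hy, ← hz']
  obtain ⟨β, hβ, hβe⟩ := hf.exists_aut hfT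
  obtain ⟨e, he⟩ := exists_pow_coprime (p := p) β
  have hβ1 : β ^ p ^ e = 1 := hbig T hTS hlt _ (pow_mem hβ _) he
  refine hne (eq_one_of_pow hc (e := e) (mulAut_ext fun x hx => ?_))
  rw [← autFun_pow_eq hRT (fun y hy => (hβe y (hRT hy)).trans (hfe y hy)) _ x hx, hβ1,
    autFun_one (hRT hx), autFun_one hx]

/-- A subgroup normalized by `R` but not inside it has elements outside `R` normalizing `R`. -/
theorem exists_normalizing (hS : IsPGroup p S) {R K : Subgroup Ω} (hR : R ≤ S) (hK : K ≤ S)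
    (hn : R ≤ normalizer (K : Set Ω)) (h : ¬ K ≤ R) :
    ∃ u ∈ K, u ∈ normalizer (R : Set Ω) ∧ u ∉ R := by
  haveI : Finite ↥(R ⊔ K) := finite_of_le (sup_le hR hK)
  have hlt : R < R ⊔ K := lt_of_le_of_ne le_sup_left fun e => h (e ▸ le_sup_right)
  obtain ⟨x, ⟨hxRK, hxn⟩, hxR⟩ := SetLike.exists_of_lt
    (lt_normalizerIn (S := R ⊔ K) (hS.to_le (sup_le hR hK)) hlt)
  obtain ⟨r, hr, u, hu, rfl⟩ := mem_sup_dest hn hxRK
  refine ⟨u, hu, ?_, fun hu' => hxR (mul_mem hr hu')⟩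
  simpa using mul_mem (inv_mem (Subgroup.le_normalizer hr)) hxn

/-- An abelian strongly closed subgroup lies in a maximal counterexample. -/
theorem le_of_abelian (hS : IsPGroup p S) (hF : F.IsSaturated p) {R : Subgroup Ω}
    (hRn : F.IsFullyNormalized R) (hbig : ∀ T ≤ S, Nat.card R < Nat.card T → CopTriv F p T)
    {α : MulAut R} (hα : α ∈ F.autGroup R) (hc : (orderOf α).Coprime p) (hne : α ≠ 1)
    {M : Subgroup Ω} (hM : F.StronglyClosed M) (hab : ∀ a ∈ M, ∀ b ∈ M, a * b = b * a) :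
    M ≤ R := by
  have hR := hRn.1
  haveI := finite_of_le hR
  have hcl : ∀ a ∈ F.autGroup R, ∀ x ∈ R, x ∈ M → autFun a x ∈ M := fun a ha x hx hxM =>
    StronglyClosed.apply_mem hM (((mem_autGroup hR).1 ha).res (inf_le_left : R ⊓ M ≤ R))
      inf_le_right ⟨hx, hxM⟩
  let K : Subgroup (F.autGroup R) :=
    { carrier := {a | ∀ x ∈ R, x⁻¹ * autFun (a : MulAut R) x ∈ M ∧
        (x ∈ M → autFun (a : MulAut R) x = x)}
      one_mem' := fun x hx => by
        rw [Subgroup.coe_one, autFun_one hx, inv_mul_cancel]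
        exact ⟨M.one_mem, fun _ => rfl⟩
      mul_mem' := fun {a b} ha hb x hx => by
        rw [Subgroup.coe_mul, autFun_mul _ _ hx]
        have hbx := autFun_mem (b : MulAut R) hx
        refine ⟨?_, fun hxM => by rw [(hb x hx).2 hxM, (ha x hx).2 hxM]⟩
        have := mul_mem (hb x hx).1 (ha _ hbx).1
        rwa [show x⁻¹ * autFun (b : MulAut R) x * ((autFun (b : MulAut R) x)⁻¹ *
          autFun (a : MulAut R) (autFun (b : MulAut R) x)) =
          x⁻¹ * autFun (a : MulAut R) (autFun (b : MulAut R) x) by group] at this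
      inv_mem' := fun {a} ha x hx => by
        rw [Subgroup.coe_inv]
        have hy := autFun_mem (a : MulAut R)⁻¹ hx
        have e : autFun (a : MulAut R) (autFun (a : MulAut R)⁻¹ x) = x := by
          rw [← autFun_mul _ _ hx, mul_inv_cancel, autFun_one hx]
        refine ⟨?_, fun hxM => ?_⟩
        · have := inv_mem (ha _ hy).1
          rwa [e, mul_inv_rev, inv_inv] at this
        · have h1 := congrArg (autFun (a : MulAut R)⁻¹) ((ha x hx).2 hxM)
          rwa [autFun_inv_apply _ hx, eq_comm] at h1 }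
  have hKn : K.Normal := ⟨fun a ha b x hx => by
    rw [Subgroup.coe_mul, Subgroup.coe_mul, Subgroup.coe_inv, mul_assoc, autFun_mul _ _ hx,
      autFun_mul _ _ hx]
    have hy := autFun_mem (b : MulAut R)⁻¹ hx
    have e : autFun (b : MulAut R) (autFun (b : MulAut R)⁻¹ x) = x := by
      rw [← autFun_mul _ _ hx, mul_inv_cancel, autFun_one hx]
    have hbm := (mem_autGroup hR).1 b.2
    refine ⟨?_, fun hxM => ?_⟩
    · have h1 := hcl _ b.2 _ (mul_mem (inv_mem hy) (autFun_mem (a : MulAut R) hy)) (ha _ hy).1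
      rwa [hbm.map_mul (inv_mem hy) (autFun_mem (a : MulAut R) hy), hbm.map_inv hy, e] at h1
    · rw [(ha _ hy).2 (hcl _ (inv_mem b.2) x hx hxM), e]⟩
  have hK : IsPGroup p K := fun a => by
    obtain ⟨e, he⟩ : ∃ e, Nat.card S = p ^ e := hS.exists_card_eq
    refine ⟨e, Subtype.ext (Subtype.ext (mulAut_ext fun x hx => ?_))⟩
    set b : MulAut R := ((a : F.autGroup R) : MulAut R) with hb
    have key : ∀ n : ℕ, autFun (b ^ n) x = x * (x⁻¹ * autFun b x) ^ n := by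
      intro n
      induction n with
      | zero => rw [pow_zero, autFun_one hx]; simp
      | succ n ih =>
        have hbm : IsMap F R (autFun b) := (mem_autGroup hR).1 (a : F.autGroup R).2
        have hmR : x⁻¹ * autFun b x ∈ R := mul_mem (inv_mem hx) (autFun_mem b hx)
        rw [pow_succ', autFun_mul _ _ hx, ih, hbm.map_mul hx (pow_mem hmR _),
          (a.2 _ (pow_mem hmR _)).2 (pow_mem (a.2 x hx).1 _), pow_succ', ← mul_assoc x,
          mul_inv_cancel_left]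
    show autFun (b ^ p ^ e) x = autFun (1 : MulAut R) x
    rw [key, autFun_one hx, ← he]
    have hmS : (x⁻¹ * autFun b x) ∈ S := mul_mem (inv_mem (hR hx)) (hR (autFun_mem b hx))
    have h2 : (⟨_, hmS⟩ : S) ^ Nat.card S = 1 := pow_card_eq_one'
    have h3 := congrArg Subtype.val h2
    rw [SubmonoidClass.coe_pow] at h3
    rw [show (x⁻¹ * autFun b x) ^ Nat.card S = 1 from h3, mul_one]
  obtain ⟨-, Sy, hSy⟩ := fullyAutomized_of_fullyNormalized hS hF hRn
  have hKS : ∀ a ∈ K, (a : MulAut R) ∈ autInducedBy S R := fun a ha => by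
    have h1 : K ⊔ (Sy : Subgroup (F.autGroup R)) = Sy :=
      Sy.3 (haveI := hKn; IsPGroup.to_sup_of_normal_left hK Sy.2) le_sup_right
    exact hSy.le (h1.le (Subgroup.mem_sup_left ha))
  by_contra hMR
  obtain ⟨u, huM, hun, huR⟩ :=
    exists_normalizing hS hR hM.1 (hR.trans (le_normalizer_of_stronglyClosed hM)) hMR
  refine huR (le_of_stable (receptive_of_fullyNormalized hS hF hRn) hbig hα hc hne
    (A := K.map (F.autGroup R).subtype) ?_ ?_ ⟨hM.1 huM, hun⟩ ?_)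
  · rintro _ ⟨a, ha, rfl⟩
    exact hKS a ha
  · rintro _ ⟨a, ha, rfl⟩
    let β : F.autGroup R := ⟨α, hα⟩
    exact ⟨β * a * β⁻¹, hKn.conj_mem a ha β, rfl⟩
  · have hu : R.normalizerMonoidHom ⟨u, hun⟩ ∈ F.autGroup R :=
      autInducedBy_le_autGroup F hR (mem_autInducedBy.2 ⟨u, hM.1 huM, fun x => rfl⟩)
    refine ⟨⟨_, hu⟩, fun x hx => ?_, rfl⟩
    rw [show x = ((⟨x, hx⟩ : R) : Ω) from rfl, autFun_coe, normalizerMonoidHom_apply]
    refine ⟨?_, fun hxM => by simp only; rw [hab u huM x hxM, mul_inv_cancel_right]⟩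
    show x⁻¹ * (u * x * u⁻¹) ∈ M
    rw [show x⁻¹ * (u * x * u⁻¹) = x⁻¹ * u * x⁻¹⁻¹ * u⁻¹ by group]
    exact mul_mem (StronglyClosed.conj_mem' hM (inv_mem (hR hx)) huM) (inv_mem huM)

/-- A strongly closed `M'` meeting `M` trivially lies in a maximal counterexample, whose
automorphism is trivial modulo `M`. -/
theorem le_of_disjoint (hS : IsPGroup p S) (hF : F.IsSaturated p) {R : Subgroup Ω}
    (hRn : F.IsFullyNormalized R) (hbig : ∀ T ≤ S, Nat.card R < Nat.card T → CopTriv F p T)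
    {α : MulAut R} (hα : α ∈ F.autGroup R) (hc : (orderOf α).Coprime p) (hne : α ≠ 1)
    {M M' : Subgroup Ω} (hM : F.StronglyClosed M) (hM' : F.StronglyClosed M')
    (hdisj : M ⊓ M' = ⊥) (hmod : ∀ x ∈ R, x⁻¹ * autFun α x ∈ M) : M' ≤ R := by
  have hR := hRn.1
  have hαm := (mem_autGroup hR).1 hα
  have hcomm : ∀ m ∈ M, ∀ u ∈ M', u * m = m * u := fun m hm u hu => by
    have h1 : u * m * u⁻¹ * m⁻¹ ∈ M ⊓ M' :=
      ⟨mul_mem (StronglyClosed.conj_mem' hM (hM'.1 hu) hm) (M.inv_mem hm), by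
        rw [show u * m * u⁻¹ * m⁻¹ = u * (m * u⁻¹ * m⁻¹) by group]
        exact mul_mem hu (StronglyClosed.conj_mem' hM' (hM.1 hm) (M'.inv_mem hu))⟩
    rw [hdisj, Subgroup.mem_bot, mul_inv_eq_one, mul_inv_eq_iff_eq_mul] at h1
    exact h1
  by_contra hMR
  obtain ⟨u, huM, hun, huR⟩ :=
    exists_normalizing hS hR hM'.1 (hR.trans (le_normalizer_of_stronglyClosed hM')) hMR
  refine huR (le_of_stable (receptive_of_fullyNormalized hS hF hRn) hbig hα hc hne
    (A := autInducedBy M' R) (autInducedBy_mono hM'.1 R) ?_ ⟨hM'.1 huM, hun⟩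
    (mem_autInducedBy.2 ⟨u, huM, fun x => rfl⟩))
  intro a ha
  suffices h : α * a = a * α by rwa [h, mul_assoc, mul_inv_cancel, mul_one]
  obtain ⟨v, hv, hva⟩ := mem_autInducedBy.1 ha
  have hva' : ∀ x ∈ R, autFun a x = v * x * v⁻¹ := fun x hx =>
    (autFun_coe a ⟨x, hx⟩).trans (hva ⟨x, hx⟩)
  refine mulAut_ext fun x hx => ?_
  rw [autFun_mul _ _ hx, autFun_mul _ _ hx, hva' x hx, hva' _ (autFun_mem α hx)]
  have hw : v * x * v⁻¹ ∈ R := hva' x hx ▸ autFun_mem a hx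
  set w := x⁻¹ * (v * x * v⁻¹) with hwd
  have hwM : w ∈ M' := by
    rw [hwd, show x⁻¹ * (v * x * v⁻¹) = x⁻¹ * v * x⁻¹⁻¹ * v⁻¹ by group]
    exact mul_mem (StronglyClosed.conj_mem' hM' (S.inv_mem (hR hx)) hv) (M'.inv_mem hv)
  have hwR : w ∈ R := mul_mem (inv_mem hx) hw
  have hαw : autFun α w = w := by
    have h1 : w⁻¹ * autFun α w ∈ M ⊓ M' := ⟨hmod w hwR, mul_mem (M'.inv_mem hwM)
      (StronglyClosed.apply_mem hM' (hαm.res (inf_le_left : R ⊓ M' ≤ R)) inf_le_right ⟨hwR, hwM⟩)⟩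
    rw [hdisj, Subgroup.mem_bot, inv_mul_eq_one] at h1
    exact h1.symm
  set m := x⁻¹ * autFun α x with hmd
  have hmM : m ∈ M := hmod x hx
  rw [show v * x * v⁻¹ = x * w by rw [hwd]; group, hαm.map_mul hx hwR, hαw,
    show autFun α x = x * m by rw [hmd]; group, mul_assoc, ← hcomm m hmM w hwM]
  calc x * (w * m) = v * x * v⁻¹ * m := by rw [hwd]; group
    _ = v * x * (m * v⁻¹) := by rw [← hcomm m hmM v⁻¹ (inv_mem hv)]; group
    _ = v * (x * m) * v⁻¹ := by group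

end Cfsg.Agent.Fus.InEmb
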