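import Cfsg.Agent.Lib.Fus.InnerEmbeddedBasic

/-!
The hypothesis of the weak embedding criterion passes to factor systems.
-/

set_option autoImplicit false
set_option linter.style.haveILetI false
set_option linter.unusedSectionVars false

open scoped Classical

namespace Cfsg.Agent.Fus.InEmb

open Subgroup FusionSystem

universe u v

variable {Ω : Type u} [Group Ω] {S : Subgroup Ω} {F : FusionSystem S} {p k : ℕ} [Fact p.Prime]
  [Finite S] {M : Subgroup Ω} {Ω' : Type v} [Group Ω'] {S' : Subgroup Ω'} {θ : S →* Ω'}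
  {E : FusionSystem S'}

theorem mem_imageAlong {P : Subgroup Ω} {x : Ω} (hx : x ∈ P) (hS : x ∈ S) :
    θ ⟨x, hS⟩ ∈ imageAlong θ P := ⟨⟨x, hS⟩, hx, rfl⟩

theorem mem_preimage_iff {W : Subgroup Ω'} {x : Ω} (hS : x ∈ S) :
    x ∈ preimageAlong θ W ↔ θ ⟨x, hS⟩ ∈ W :=
  mem_preimageAlong.trans ⟨fun h => h.2, fun h => ⟨hS, h⟩⟩

theorem imageAlong_le (hE : F.IsFactorSystem M θ E) (P : Subgroup Ω) : imageAlong θ P ≤ S' := by
  rintro _ ⟨y, -, rfl⟩
  exact hE.2.2.1.le ⟨y, rfl⟩

theorem card_factor (hE : F.IsFactorSystem M θ E) :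
    Nat.card S = Nat.card S' * Nat.card M := by
  have hk : θ.ker = M.subgroupOf S := by
    ext s
    exact hE.2.1 s
  rw [Subgroup.card_eq_card_quotient_mul_card_subgroup θ.ker, hk,
    Nat.card_congr (subgroupOfEquivOfLe hE.1).toEquiv, ← hk,
    Nat.card_congr (QuotientGroup.quotientKerEquivRange θ).toEquiv, hE.2.2.1]

theorem card_preimage (hE : F.IsFactorSystem M θ E) {W : Subgroup Ω'} (hW : W ≤ S') :
    Nat.card (preimageAlong θ W) = Nat.card W * Nat.card M := by
  have hr : W ≤ θ.range := hE.2.2.1.symm ▸ hW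
  let φ : preimageAlong θ W →* Ω' := θ.comp (Subgroup.inclusion (preimageAlong_le W))
  have hrange : φ.range = W := by
    ext y
    constructor
    · rintro ⟨x, rfl⟩
      exact (mem_preimage_iff (preimageAlong_le W x.2)).1 x.2
    · intro hy
      obtain ⟨x, rfl⟩ := hr hy
      exact ⟨⟨x, (mem_preimage_iff x.2).2 hy⟩, rfl⟩
  have hk : φ.ker = M.subgroupOf (preimageAlong θ W) := by
    ext x
    exact hE.2.1 ⟨x, preimageAlong_le W x.2⟩
  rw [Subgroup.card_eq_card_quotient_mul_card_subgroup φ.ker, hk,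
    Nat.card_congr (subgroupOfEquivOfLe (factor_le_preimage hE W)).toEquiv, ← hk,
    Nat.card_congr (QuotientGroup.quotientKerEquivRange φ).toEquiv, hrange]

theorem normalizerIn_preimage (hE : F.IsFactorSystem M θ E) {W : Subgroup Ω'} (hW : W ≤ S') :
    normalizerIn S (preimageAlong θ W) = preimageAlong θ (normalizerIn S' W) := by
  have key : ∀ g y : S, (g : Ω) * y * (g : Ω)⁻¹ ∈ preimageAlong θ W ↔
      θ g * θ y * (θ g)⁻¹ ∈ W := fun g y => by
    rw [← factor_conj]
    exact mem_preimage_iff (g * y * g⁻¹).2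
  ext g
  constructor
  · rintro ⟨hgS, hgn⟩
    refine (mem_preimage_iff hgS).2 ⟨hE.2.2.1.le ⟨_, rfl⟩, mem_normalizer_of_forall ?_ ?_⟩
    · intro y hy
      obtain ⟨y, rfl⟩ := hE.2.2.1.ge (hW hy)
      exact (key ⟨g, hgS⟩ y).1 ((mem_normalizer_iff.1 hgn y).1 ((mem_preimage_iff y.2).2 hy))
    · intro y hy
      obtain ⟨y, rfl⟩ := hE.2.2.1.ge (hW hy)
      have h1 := (mem_normalizer_iff.1 (Subgroup.inv_mem _ hgn) y).1
        ((mem_preimage_iff y.2).2 hy)
      have h2 := (key (⟨g, hgS⟩ : S)⁻¹ y).1 h1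
      rwa [map_inv, inv_inv] at h2
  · intro hg
    obtain ⟨hgS, -, hgn⟩ := mem_preimageAlong.1 hg
    refine ⟨hgS, mem_normalizer_of_forall (fun y hy => ?_) fun y hy => ?_⟩
    · exact (key ⟨g, hgS⟩ ⟨y, preimageAlong_le W hy⟩).2
        ((mem_normalizer_iff.1 hgn _).1 ((mem_preimage_iff _).1 hy))
    · have h1 := (key (⟨g, hgS⟩ : S)⁻¹ ⟨y, preimageAlong_le W hy⟩).2 (by
        rw [map_inv]
        exact (mem_normalizer_iff.1 (Subgroup.inv_mem _ hgn) _).1 ((mem_preimage_iff _).1 hy))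
      simpa using h1

/-- The hypothesis passes to the factor system by a strongly closed subgroup of order `p ^ j`,
`j < k`. -/
theorem HEmb.factor (H : HEmb F p k)
    (hM : F.StronglyClosed M) (hE : F.IsFactorSystem M θ E) {j : ℕ}
    (hj : Nat.card M = p ^ j) (hjk : j < k) : HEmb E p (k - j) := by
  have hp : 0 < p := (Fact.out : p.Prime).pos
  have hpk : p ^ (k - j) * p ^ j = p ^ k := by
    rw [← pow_add]; congr 1; omega
  refine ⟨by omega, ?_, ?_, ?_⟩
  · have h1 := H.lt_card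
    rw [card_factor hE, hj, ← hpk] at h1
    exact Nat.lt_of_mul_lt_mul_right h1
  · intro Q hQ hQc
    obtain ⟨P, hP, hsup, hinf⟩ := H.emb (preimageAlong θ Q) (preimageAlong_le Q)
      (by rw [card_preimage hE hQ, hQc, hj, hpk])
    have e0 : imageAlong θ (preimageAlong θ Q) = Q :=
      imageAlong_preimageAlong (hE.2.2.1.symm ▸ hQ)
    refine ⟨imageAlong θ P, stronglyClosed_imageAlong hE hP, ?_, ?_⟩
    · have e : imageAlong θ (preimageAlong θ Q ⊔ P) = Q ⊔ imageAlong θ P := by
        conv_rhs => rw [← e0]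
        unfold imageAlong
        rw [Subgroup.subgroupOf_sup (preimageAlong_le Q) hP.1, Subgroup.map_sup]
      exact e ▸ stronglyClosed_imageAlong hE hsup
    · have e : imageAlong θ (preimageAlong θ Q ⊓ P) = Q ⊓ imageAlong θ P := by
        refine le_antisymm ?_ ?_
        · rintro _ ⟨y, ⟨hy1, hy2⟩, rfl⟩
          exact ⟨(mem_preimage_iff y.2).1 hy1, mem_imageAlong hy2 y.2⟩
        · rintro z ⟨hzQ, y, hy, rfl⟩
          exact ⟨y, ⟨(mem_preimage_iff y.2).2 hzQ, hy⟩, rfl⟩
      exact e ▸ stronglyClosed_imageAlong hE hinf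
  · intro K' hK' hK'c P' f' hf' hKP hPn hfK
    set K := preimageAlong θ K' with hK
    have hKS : K ≤ S := preimageAlong_le K'
    have hKc : Nat.card K = p ^ k := by rw [hK, card_preimage hE hK'.1, hK'c, hj, hpk]
    have hn : F.IsFullyNormalized K := by
      refine ⟨hKS, fun Q hQ => ?_⟩
      obtain ⟨g, hg, rfl⟩ := isConj_iff.1 hQ
      have hMK : M ≤ K := factor_le_preimage hE K'
      have hMQ : M ≤ fimg g K := (fimg_stronglyClosed hM hg hMK).ge.trans (fimg_mono g hMK)
      obtain ⟨g', hg', hg'e⟩ := exists_induced hE hM hK'.1 hg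
      have hconj : E.IsConj K' (imageAlong θ (fimg g K)) := by
        refine isConj_iff.2 ⟨g', hg', le_antisymm (fimg_le fun z hz => ?_) fun z hz => ?_⟩
        · obtain ⟨y, rfl⟩ := hE.2.2.1.ge (hK'.1 hz)
          have hyK : (y : Ω) ∈ K := (mem_preimage_iff y.2).2 hz
          rw [hg'e (y : Ω) hyK]
          exact mem_imageAlong (apply_mem_fimg g hyK) _
        · obtain ⟨y, hy, rfl⟩ := hz
          obtain ⟨x, hx, hxy⟩ := hg.mem_fimg_iff.1 hy
          have h1 := apply_mem_fimg g' ((mem_preimage_iff (hKS hx)).1 hx)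
          rw [hg'e x hx] at h1
          rwa [show (⟨g x, hg.apply_mem hx⟩ : S) = y from Subtype.ext hxy] at h1
      have h2 := hK'.2 _ hconj
      rw [← preimageAlong_imageAlong hE hg.fimg_le_S hMQ,
        normalizerIn_preimage hE (imageAlong_le hE _), hK, normalizerIn_preimage hE hK'.1,
        card_preimage hE (show normalizerIn S' _ ≤ S' from inf_le_left),
        card_preimage hE (show normalizerIn S' _ ≤ S' from inf_le_left)]
      exact Nat.mul_le_mul_right _ h2
    obtain ⟨g, hg, hge⟩ := exists_lift hE hf'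
    have hP'S : P' ≤ S' := hf'.source_le
    obtain ⟨s, hs, hse⟩ := H.norm K hn hKc (preimageAlong θ P') g hg
      (fun x hx => (mem_preimage_iff (hKS hx)).2 (hKP ((mem_preimage_iff (hKS hx)).1 hx)))
      (fun x hx => by
        have h1 : x ∈ preimageAlong θ (normalizerIn S' K') :=
          (mem_preimage_iff (preimageAlong_le P' hx)).2
            ⟨hP'S ((mem_preimage_iff _).1 hx), hPn ((mem_preimage_iff _).1 hx)⟩
        rw [← normalizerIn_preimage hE hK'.1] at h1
        exact h1.2)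
      (fun x hx => by
        have hxP : x ∈ preimageAlong θ P' :=
          (mem_preimage_iff (hKS hx)).2 (hKP ((mem_preimage_iff (hKS hx)).1 hx))
        refine (mem_preimage_iff (hg.apply_mem hxP)).2 ?_
        rw [hge x hxP (hg.apply_mem hxP)]
        exact hfK _ ((mem_preimage_iff (hKS hx)).1 hx))
    refine ⟨θ ⟨s, hs⟩, hE.2.2.1.le ⟨_, rfl⟩, fun z hz => ?_⟩
    obtain ⟨y, rfl⟩ := hE.2.2.1.ge (hP'S hz)
    have hyP : (y : Ω) ∈ preimageAlong θ P' := (mem_preimage_iff y.2).2 hz
    rw [← factor_conj, ← hge _ hyP (hg.apply_mem hyP)]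
    exact congrArg θ (Subtype.ext (hse _ hyP))

end Cfsg.Agent.Fus.InEmb
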