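import Cfsg.Agent.Lib.Fus.QuadFix
import Cfsg.Agent.Lib.Fus.Saturation

/-!
The local part of the criteria of Glauberman-Thompson type, for a group `G` of automorphisms of a
normal subgroup `U` of a `p`-group `P` in which the normalizer of every subgroup strictly between
the inner part and a Sylow subgroup is the Sylow subgroup.
-/

set_option autoImplicit false
set_option linter.style.haveILetI false

open scoped Classical commutatorElement

namespace Cfsg.Agent.Fus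

variable {G : Type*} [Group G] [Finite G] {p : ℕ} [Fact p.Prime]

/-- The normalizers of the subgroups strictly between `I` and `T`, normalised by `T`, are in `T`. -/
def LocallyTrivial (T : Sylow p G) (I : Subgroup G) : Prop :=
  ∀ H : Subgroup G, H ≤ T → I < H → (∀ t ∈ T, ∀ h ∈ H, t * h * t⁻¹ ∈ H) →
    ∀ g ∈ Subgroup.normalizer (H : Set G), g ∈ T

/-- In the presence of a quadratic element, elements of order prime to `p` act trivially. -/
theorem apply_eq_self_of_quad (hp : p ≠ 2) (T : Sylow p G) {I : Subgroup G} [I.Normal]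
    (hI : I ≤ T) (hN : LocallyTrivial T I) {x : G} (hxT : x ∈ T) (hxI : x ∉ I) (hxp : x ^ p ∈ I) :
    ∀ (n : ℕ) {V : Type*} [Group V] [Finite V], Nat.card V = n → IsPGroup p V →
      ∀ ρ : G →* MulAut V, (∀ v, ρ x (ρ x v * v⁻¹) = ρ x v * v⁻¹) →
        ∀ g : G, (orderOf g).Coprime p → ∀ v, ρ g v = v := by
  intro n
  induction n using Nat.strong_induction_on with
  | _ n IH =>
  intro V _ _ hn hV ρ hquad g hg
  rcases subsingleton_or_nontrivial V with h | h
  · exact fun v => Subsingleton.elim _ _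
  haveI := hV.center_nontrivial
  -- central elements fixed by `I`
  let V₀ : Subgroup V :=
    { carrier := {v | v ∈ Subgroup.center V ∧ ∀ i ∈ I, ρ i v = v}
      one_mem' := ⟨one_mem _, fun i _ => map_one _⟩
      mul_mem' := fun {a b} ha hb =>
        ⟨mul_mem ha.1 hb.1, fun i hi => by rw [map_mul, ha.2 i hi, hb.2 i hi]⟩
      inv_mem' := fun {a} ha => ⟨inv_mem ha.1, fun i hi => by rw [map_inv, ha.2 i hi]⟩ }
  have hcen : ∀ (f : MulAut V) {v : V}, v ∈ Subgroup.center V → f v ∈ Subgroup.center V :=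
    fun f v hv => Subgroup.mem_center_iff.2 fun y => by
      obtain ⟨w, rfl⟩ := f.surjective y
      rw [← map_mul, ← map_mul, Subgroup.mem_center_iff.1 hv w]
  have hinv : ∀ (g : G) {v : V}, v ∈ V₀ → ρ g v ∈ V₀ := fun g v hv => ⟨hcen _ hv.1, fun i hi => by
    have h1 : g⁻¹ * i * g ∈ I := by
      have := Subgroup.Normal.conj_mem (inferInstance : I.Normal) i hi g⁻¹
      rwa [inv_inv] at this
    rw [← MulAut.mul_apply, ← map_mul, show i * g = g * (g⁻¹ * i * g) by group, map_mul,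
      MulAut.mul_apply, hv.2 _ h1]⟩
  have fixed_ne : ∀ (H : Subgroup G), IsPGroup p H → ∀ (D : Subgroup V), D ≠ ⊥ →
      (∀ h ∈ H, ∀ v ∈ D, ρ h v ∈ D) → ∃ v ∈ D, v ≠ 1 ∧ ∀ h ∈ H, ρ h v = v := by
    intro H hH D hD hinv
    letI : MulAction H D :=
      { smul := fun f v => ⟨ρ f v, hinv f f.2 v v.2⟩
        one_smul := fun v => Subtype.ext (show ρ ((1 : H) : G) (v : V) = v by simp)
        mul_smul := fun f g v => Subtype.ext
          (show ρ ((f * g : H) : G) (v : V) = ρ f (ρ g v) by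
            rw [Subgroup.coe_mul, map_mul, MulAut.mul_apply]) }
    haveI : Nontrivial D := (Subgroup.nontrivial_iff_ne_bot D).2 hD
    obtain ⟨k, hk, hk'⟩ := (hV.to_subgroup D).nontrivial_iff_card.1 inferInstance
    have h1 : (1 : D) ∈ MulAction.fixedPoints H D := fun f => Subtype.ext (map_one (ρ f))
    obtain ⟨u, hu, hne⟩ := hH.exists_fixed_point_of_prime_dvd_card_of_fixed_point D
      (by rw [hk']; exact dvd_pow_self p hk.ne') h1
    exact ⟨u, u.2, fun h => hne (Subtype.ext h.symm), fun f hf => congrArg Subtype.val (hu ⟨f, hf⟩)⟩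
  obtain ⟨v₁, hv₁, hv₁1, hv₁I⟩ := fixed_ne I (T.2.to_le hI) (Subgroup.center V)
    ((Subgroup.nontrivial_iff_ne_bot _).1 inferInstance) fun i _ v hv => hcen _ hv
  have hV₀ : V₀ ≠ ⊥ := fun e => hv₁1 (Subgroup.mem_bot.1 (e ▸ (⟨hv₁, hv₁I⟩ : v₁ ∈ V₀)))
  obtain ⟨z, hz, hz1, hzT⟩ := fixed_ne T T.2 V₀ hV₀ fun t _ v hv => hinv t hv
  -- `z` is fixed by the whole group
  letI : CommGroup V₀ := { (inferInstance : Group V₀) with
    mul_comm := fun a b => Subtype.ext (Subgroup.mem_center_iff.1 b.2.1 a) }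
  let ρ₀ : G →* MulAut V₀ := MonoidHom.mk'
    (fun g =>
      { toFun := fun v => ⟨ρ g v, hinv g v.2⟩
        invFun := fun v => ⟨ρ g⁻¹ v, hinv g⁻¹ v.2⟩
        left_inv := fun v => Subtype.ext (by
          show ρ g⁻¹ (ρ g (v : V)) = v
          rw [map_inv, MulAut.inv_apply_self])
        right_inv := fun v => Subtype.ext (by
          show ρ g (ρ g⁻¹ (v : V)) = v
          rw [map_inv, MulAut.apply_inv_self])
        map_mul' := fun a b => Subtype.ext (map_mul (ρ g) (a : V) b) })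
    fun a b => MulEquiv.ext fun v => Subtype.ext (by
      show ρ (a * b) (v : V) = ρ a (ρ b v)
      rw [map_mul, MulAut.mul_apply])
  set X : Set G := {c | c ∈ T ∧ (∀ v, ρ₀ c (ρ₀ c v * v⁻¹) = ρ₀ c v * v⁻¹) ∧
    ∀ v, ρ₀ (c ^ p) v = v} with hX
  have hIfix : ∀ i ∈ I, ∀ v : V₀, ρ₀ i v = v := fun i hi v => Subtype.ext (v.2.2 i hi)
  have hIX : ∀ i ∈ I, i ∈ X := fun i hi => ⟨hI hi, fun v => by rw [hIfix i hi v, mul_inv_cancel,
    map_one], fun v => hIfix _ (I.pow_mem hi p) v⟩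
  have hxX : x ∈ X := ⟨hxT, fun v => Subtype.ext (hquad (v : V)), fun v => hIfix _ hxp v⟩
  have hclosed : ∀ g : G, ∀ c ∈ X, g * c * g⁻¹ ∈ T → g * c * g⁻¹ ∈ X := by
    rintro k c ⟨-, h1, h2⟩ hk
    have hcw : ∀ w, ρ₀ (k * c * k⁻¹) (ρ₀ k w) = ρ₀ k (ρ₀ c w) := fun w => by
      rw [map_mul, map_mul, map_inv, MulAut.mul_apply, MulAut.mul_apply, MulAut.inv_apply_self]
    refine ⟨hk, fun v => ?_, fun v => ?_⟩
    · obtain ⟨w, rfl⟩ := (ρ₀ k).surjective v
      rw [hcw, ← map_inv (ρ₀ k), ← map_mul (ρ₀ k), hcw, h1]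
    · obtain ⟨w, rfl⟩ := (ρ₀ k).surjective v
      rw [conj_pow, map_mul, map_mul, MulAut.mul_apply, MulAut.mul_apply, map_inv,
        MulAut.inv_apply_self, h2]
  have hHT : Subgroup.closure X ≤ T := (Subgroup.closure_le _).2 fun c hc => hc.1
  have hIH : I < Subgroup.closure X := lt_of_le_of_ne
    (fun i hi => Subgroup.subset_closure (hIX i hi))
    fun e => hxI (e ▸ Subgroup.subset_closure hxX)
  have hTH : ∀ t ∈ T, ∀ c ∈ Subgroup.closure X, t * c * t⁻¹ ∈ Subgroup.closure X := by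
    intro t ht c hc
    induction hc using Subgroup.closure_induction with
    | mem d hd =>
      exact Subgroup.subset_closure (hclosed t d hd
        (show t * d * t⁻¹ ∈ (T : Subgroup G) from mul_mem (mul_mem ht hd.1) (inv_mem ht)))
    | one => simp
    | mul a b _ _ iha ihb =>
      rw [show t * (a * b) * t⁻¹ = (t * a * t⁻¹) * (t * b * t⁻¹) by group]; exact mul_mem iha ihb
    | inv a _ iha =>
      rw [show t * a⁻¹ * t⁻¹ = (t * a * t⁻¹)⁻¹ by group]; exact inv_mem iha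
  have hzfix : ∀ k, ρ k z = z := fun k => congrArg Subtype.val
    (fixed_of_quadratic ρ₀ hp (hV.to_subgroup V₀) T (X := X) (fun c hc => hc.1)
      (fun c hc => hc.2.1) (fun c hc => hc.2.2) hclosed (z := ⟨z, hz⟩)
      (fun t ht => Subtype.ext (hzT t ht))
      (fun k hk => Subtype.ext (hzT k (hN _ hHT hIH hTH k hk))) k)
  -- the quotient
  haveI hZn : (Subgroup.zpowers z).Normal := ⟨fun a ha b => by
    rw [Subgroup.mem_center_iff.1 ((Subgroup.zpowers_le.2 hz.1) ha) b, mul_inv_cancel_right]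
    exact ha⟩
  have hmap : ∀ k, (Subgroup.zpowers z).map (ρ k).toMonoidHom = Subgroup.zpowers z := fun k => by
    rw [MonoidHom.map_zpowers]
    exact congrArg Subgroup.zpowers (hzfix k)
  let ρ' : G →* MulAut (V ⧸ Subgroup.zpowers z) := MonoidHom.mk'
    (fun k => QuotientGroup.congr _ _ (ρ k) (hmap k))
    fun a b => MulEquiv.ext fun q => by
      obtain ⟨v, rfl⟩ := QuotientGroup.mk_surjective q
      rw [MulAut.mul_apply]
      show ((ρ (a * b) v : V) : V ⧸ Subgroup.zpowers z) = ((ρ a (ρ b v) : V) : V ⧸ _)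
      rw [map_mul, MulAut.mul_apply]
  have hlt : Nat.card (V ⧸ Subgroup.zpowers z) < n := by
    rw [← hn, Subgroup.card_eq_card_quotient_mul_card_subgroup (Subgroup.zpowers z)]
    haveI : Nontrivial (Subgroup.zpowers z) := (Subgroup.nontrivial_iff_ne_bot _).2
      fun e => hz1 (Subgroup.mem_bot.1 (e ▸ Subgroup.mem_zpowers z))
    exact lt_mul_of_one_lt_right Nat.card_pos Finite.one_lt_card
  intro v
  have h1 := IH _ hlt rfl (hV.to_quotient _) ρ' (fun q => by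
    obtain ⟨w, rfl⟩ := QuotientGroup.mk_surjective q
    exact congrArg QuotientGroup.mk (hquad w)) g hg (v : V ⧸ Subgroup.zpowers z)
  have h2 : v⁻¹ * ρ g v ∈ Subgroup.zpowers z := QuotientGroup.eq.1 h1.symm
  set w := v⁻¹ * ρ g v with hw
  have hgw : ρ g w = w := by
    obtain ⟨j, hj⟩ := Subgroup.mem_zpowers_iff.1 h2
    rw [← hj, map_zpow, hzfix]
  have hgv : ρ g v = v * w := by rw [hw, mul_inv_cancel_left]
  have hk : ∀ i : ℕ, (ρ g ^ i) v = v * w ^ i := by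
    intro i
    induction i with
    | zero => simp
    | succ i ih =>
      rw [pow_succ', MulAut.mul_apply, ih, map_mul, map_pow, hgv, hgw, mul_assoc, pow_succ']
  have hwm : w ^ orderOf g = 1 := by
    have := hk (orderOf g)
    rw [← map_pow, pow_orderOf_eq_one, map_one, MulAut.one_apply] at this
    exact mul_eq_left.1 this.symm
  obtain ⟨j, hj⟩ := IsPGroup.iff_orderOf.1 hV w
  have hw1 : w = 1 := orderOf_eq_one_iff.1
    (((hj ▸ hg.symm.pow_left j : (orderOf w).Coprime (orderOf g))).eq_one_of_dvd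
      (orderOf_dvd_of_pow_eq_one hwm))
  rw [hgv, hw1, mul_one]

/-- In the presence of a quadratic element the action is that of the Sylow subgroup. -/
theorem exists_sylow_apply_eq (hp : p ≠ 2) (T : Sylow p G) {I : Subgroup G} [I.Normal]
    (hI : I ≤ T) (hN : LocallyTrivial T I) {V : Type*} [Group V] [Finite V] (hV : IsPGroup p V)
    (ρ : G →* MulAut V) {x : G} (hxT : x ∈ T) (hxI : x ∉ I) (hxp : x ^ p ∈ I)
    (hquad : ∀ v, ρ x (ρ x v * v⁻¹) = ρ x v * v⁻¹) (g : G) : ∃ t ∈ T, ρ t = ρ g := by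
  have hpg : IsPGroup p ρ.range := by
    rintro ⟨_, k, rfl⟩
    obtain ⟨e, m, hm, hkm⟩ := Nat.exists_eq_pow_mul_and_not_dvd (orderOf_pos k).ne' p
      (Fact.out : p.Prime).ne_one
    refine ⟨e, Subtype.ext ?_⟩
    have hco : (orderOf (k ^ p ^ e)).Coprime p := by
      rw [orderOf_pow, hkm, Nat.gcd_mul_right_left, Nat.mul_div_cancel_left _
        (pow_pos (Fact.out : p.Prime).pos e)]
      exact ((Fact.out : p.Prime).coprime_iff_not_dvd.2 hm).symm
    rw [SubgroupClass.coe_pow, OneMemClass.coe_one, ← map_pow]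
    exact MulEquiv.ext (apply_eq_self_of_quad hp T hI hN hxT hxI hxp _ rfl hV ρ hquad _ hco)
  have h1 : ((T.mapSurjective ρ.rangeRestrict_surjective : Sylow p ρ.range) : Subgroup ρ.range) = ⊤ :=
    ((T.mapSurjective ρ.rangeRestrict_surjective).3 (IsPGroup.of_equiv hpg Subgroup.topEquiv.symm)
      le_top).symm
  have h2 : ρ.rangeRestrict g ∈ (T : Subgroup G).map ρ.rangeRestrict := by
    rw [← Sylow.coe_mapSurjective ρ.rangeRestrict_surjective, h1]
    exact Subgroup.mem_top _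
  obtain ⟨t, ht, e⟩ := h2
  exact ⟨t, ht, congrArg Subtype.val e⟩

/-- The local theorem: either `G` acts as its Sylow subgroup or it leaves `W` invariant. -/
theorem sylow_or_invariant (hp : p ≠ 2) {P : Type*} [Group P] [Finite P] (hP : IsPGroup p P)
    {U W : Subgroup P} (T : Sylow p G) {I : Subgroup G} [I.Normal] (hI : I ≤ T)
    (hN : LocallyTrivial T I) (ρ : G →* MulAut U)
    (hκ : ∀ r : P, ∃ t ∈ T, ∀ u : U, ((ρ t u : U) : P) = r * u * r⁻¹)
    (hκI : ∀ r : P, r ∉ U → r ^ p ∈ U →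
      ∃ t ∈ T, t ∉ I ∧ t ^ p ∈ I ∧ ∀ u : U, ((ρ t u : U) : P) = r * u * r⁻¹)
    (hT : ∀ t ∈ T, ∃ r : P, ∀ u : U, ((ρ t u : U) : P) = r * u * r⁻¹)
    [W.Normal] (hWc : ∀ a ∈ W, ∀ b ∈ W, a * b = b * a) {𝒜 : Set (Subgroup P)}
    (h𝒜 : ∀ A ∈ 𝒜, ∀ a ∈ A, ∀ b ∈ A, a * b = b * a) (hW1 : ∀ A ∈ 𝒜, W ≤ A)
    (hW2 : ∀ B : Subgroup P, (∀ A ∈ 𝒜, B ≤ A) → B ≤ W)
    (hinv : ∀ g : G, ∀ u : U, (∀ A ∈ 𝒜, A ≤ U → (u : P) ∈ A) →
      ∀ A ∈ 𝒜, A ≤ U → ((ρ g u : U) : P) ∈ A)
    (hrep : ∀ B : Subgroup P, B.Normal → ⁅⁅B, B⁆, B⁆ = ⊥ → ⁅B, B⁆ ≤ W → (∃ A ∈ 𝒜, ¬ B ≤ A) →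
      ∃ A ∈ 𝒜, ¬ B ≤ A ∧ B ≤ Subgroup.normalizer (A : Set P)) :
    (∀ g, ∃ t ∈ T, ρ t = ρ g) ∨
      (W ≤ U ∧ ∀ g, ∀ u : U, (u : P) ∈ W → ((ρ g u : U) : P) ∈ W) := by
  have hlast : ∀ K : Subgroup P, ¬ K ≤ U → ∃ x ∈ K, x ∉ U ∧ x ^ p ∈ U := by
    intro K hK
    obtain ⟨a, ha, haU⟩ := SetLike.not_le_iff_exists.1 hK
    have hex : ∃ k : ℕ, a ^ p ^ k ∈ U := by
      obtain ⟨k, hk⟩ := hP a
      exact ⟨k, hk ▸ U.one_mem⟩
    obtain ⟨k, hk⟩ : ∃ k, Nat.find hex = k + 1 := Nat.exists_eq_succ_of_ne_zero fun e => haU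
      (by have := Nat.find_spec hex; rwa [e, pow_zero, pow_one] at this)
    refine ⟨a ^ p ^ k, K.pow_mem ha _, Nat.find_min hex (by omega), ?_⟩
    rw [← pow_mul, ← pow_succ, ← hk]
    exact Nat.find_spec hex
  by_cases hWU : W ≤ U
  swap
  · obtain ⟨x, hxW, hxU, hxp⟩ := hlast W hWU
    obtain ⟨t, htT, htI, htp, hte⟩ := hκI x hxU hxp
    refine Or.inl (exists_sylow_apply_eq hp T hI hN (hP.to_subgroup U) ρ htT htI htp fun u =>
      Subtype.ext ?_)
    rw [hte, Subgroup.coe_mul, Subgroup.coe_inv, hte]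
    have hw : x * (u : P) * x⁻¹ * (u : P)⁻¹ ∈ W := by
      rw [show x * (u : P) * x⁻¹ * (u : P)⁻¹ = x * ((u : P) * x⁻¹ * (u : P)⁻¹) by group]
      exact W.mul_mem hxW (Subgroup.Normal.conj_mem (inferInstance : W.Normal) _ (W.inv_mem hxW) _)
    rw [hWc x hxW _ hw, mul_inv_cancel_right]
  refine Or.inr ⟨hWU, ?_⟩
  let Inv : Subgroup P → Prop := fun K => ∀ g, ∀ u : U, (u : P) ∈ K → ((ρ g u : U) : P) ∈ K
  by_contra hWinv
  obtain ⟨B, ⟨hBU, hBinv, hBW⟩, hBmin⟩ := Set.exists_min_image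
    {B : Subgroup P | B ≤ U ∧ Inv B ∧ ¬ Inv (B ⊓ W)} (fun B => Nat.card B) (Set.toFinite _)
    ⟨U, le_rfl, fun g u _ => (ρ g u).2, fun h => hWinv fun g u hu => (h g u ⟨u.2, hu⟩).2⟩
  have hmin : ∀ K : Subgroup P, K < B → K ≤ U → Inv K → Inv (K ⊓ W) := fun K hK hKU hKi => by
    by_contra h
    exact (hBmin K ⟨hKU, hKi, h⟩).not_gt (card_lt_of_lt hK)
  have hnorm : ∀ K : Subgroup P, K ≤ U → Inv K → K.Normal := fun K hKU hK => ⟨fun a ha r => by
    obtain ⟨t, -, e⟩ := hκ r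
    have := hK t ⟨a, hKU ha⟩ ha
    rwa [e] at this⟩
  haveI hBn : B.Normal := hnorm B hBU hBinv
  set X := B ⊓ W with hX
  -- a property closed under the group operations and `G` holds on `B` if it holds on `X`
  have hgen : ∀ K : Subgroup P, (∀ g, ∀ u : U, (u : P) ∈ X → ((ρ g u : U) : P) ∈ K) → B ≤ K := by
    intro K hK
    set B₀ := Subgroup.closure {y : P | ∃ g, ∃ u : U, (u : P) ∈ X ∧ ((ρ g u : U) : P) = y} with hB₀
    have hB₀B : B₀ ≤ B := (Subgroup.closure_le B).2 fun y ⟨g, u, hu, e⟩ => e ▸ hBinv g u hu.1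
    have hB₀i : Inv B₀ := by
      intro g u hu
      obtain ⟨v, hv, rfl⟩ : ∃ v : U, (v : P) ∈ B₀ ∧ v = u := ⟨u, hu, rfl⟩
      have hle : B₀ ≤ ((B₀.subgroupOf U).comap (ρ g).toMonoidHom).map U.subtype := by
        refine (Subgroup.closure_le _).2 ?_
        rintro _ ⟨k, w, hw, rfl⟩
        refine ⟨ρ k w, ?_, rfl⟩
        show ((ρ g (ρ k w) : U) : P) ∈ B₀
        rw [← MulAut.mul_apply, ← map_mul]
        exact Subgroup.subset_closure ⟨g * k, w, hw, rfl⟩
      obtain ⟨w, hw, e⟩ := hle hv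
      rw [← Subtype.ext e]
      exact hw
    have hXB₀ : X ≤ B₀ := fun y hy => Subgroup.subset_closure
      ⟨1, ⟨y, hBU hy.1⟩, hy, by simp⟩
    rcases hB₀B.eq_or_lt with e | h
    · rw [← e]
      exact (Subgroup.closure_le K).2 fun y ⟨g, u, hu, e⟩ => e ▸ hK g u hu
    · refine absurd ?_ hBW
      have := hmin B₀ h (hB₀B.trans hBU) hB₀i
      rwa [show B₀ ⊓ W = X from le_antisymm (inf_le_inf_right W hB₀B) (le_inf hXB₀ inf_le_right)]
        at this
  -- the derived subgroup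
  have hBne : B ≠ ⊥ := fun e => hBW fun g u hu => by
    have h1 : u = 1 := Subtype.ext (Subgroup.mem_bot.1 (e ▸ hu.1 : (u : P) ∈ (⊥ : Subgroup P)))
    rw [h1, map_one]
    exact one_mem _
  have hBB : ⁅B, B⁆ < B := by
    refine lt_of_le_of_ne (Subgroup.commutator_le_left B B) fun e => hBne ?_
    haveI : Group.IsNilpotent B := (hP.to_subgroup B).isNilpotent
    haveI : Group.IsSolvable B := inferInstance
    by_contra hne
    haveI : Nontrivial B := (Subgroup.nontrivial_iff_ne_bot B).2 hne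
    refine (Group.IsSolvable.commutator_lt_top_of_nontrivial B).ne ?_
    rw [commutator_def]
    refine Subgroup.map_injective B.subtype_injective ?_
    rw [Subgroup.map_commutator, ← MonoidHom.range_eq_map, Subgroup.range_subtype]
    exact e
  have hBBinv : Inv ⁅B, B⁆ := by
    intro g u hu
    have hle : ⁅B, B⁆ ≤ ((⁅B, B⁆.subgroupOf U).comap (ρ g).toMonoidHom).map U.subtype := by
      refine Subgroup.commutator_le.2 fun a ha b hb => ?_
      refine ⟨⁅(⟨a, hBU ha⟩ : U), ⟨b, hBU hb⟩⁆, ?_, rfl⟩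
      show ((ρ g ⁅(⟨a, hBU ha⟩ : U), ⟨b, hBU hb⟩⁆ : U) : P) ∈ ⁅B, B⁆
      rw [map_commutatorElement]
      exact Subgroup.commutator_mem_commutator (hBinv g ⟨a, hBU ha⟩ ha) (hBinv g ⟨b, hBU hb⟩ hb)
    obtain ⟨w, hw, e⟩ := hle hu
    rw [← Subtype.ext e]
    exact hw
  have hBBU : ⁅B, B⁆ ≤ U := hBB.le.trans hBU
  set M := ⁅B, B⁆ ⊓ W with hM
  have hMinv : Inv M := hmin _ hBB hBBU hBBinv
  have hMU : M ≤ U := inf_le_left.trans hBBU
  haveI hMn : M.Normal := hnorm M hMU hMinv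
  -- `[B, B] ≤ W`
  have hXB : ∀ u ∈ X, ∀ c ∈ B, u * c * u⁻¹ * c⁻¹ ∈ M := fun u hu c hc =>
    ⟨Subgroup.commutator_mem_commutator hu.1 hc, by
      rw [show u * c * u⁻¹ * c⁻¹ = u * (c * u⁻¹ * c⁻¹) by group]
      exact W.mul_mem hu.2
        (Subgroup.Normal.conj_mem (inferInstance : W.Normal) _ (W.inv_mem hu.2) _)⟩
  have hBBW : ⁅B, B⁆ ≤ M := by
    have hK := hgen ((Subgroup.centralizer ((B.map (QuotientGroup.mk' M) : Subgroup (P ⧸ M)) :
        Set (P ⧸ M))).comap (QuotientGroup.mk' M)) fun g u hu => by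
      refine Subgroup.mem_centralizer_iff.2 ?_
      rintro _ ⟨c, hc, rfl⟩
      obtain ⟨c', hc'⟩ := (ρ g).surjective ⟨c, hBU hc⟩
      have hc'B : (c' : P) ∈ B := by
        have := hBinv g⁻¹ ⟨c, hBU hc⟩ hc
        rwa [← hc', map_inv, MulAut.inv_apply_self] at this
      have h1 := hMinv g (u * c' * u⁻¹ * c'⁻¹) (hXB u hu c' hc'B)
      rw [map_mul, map_mul, map_mul, map_inv, map_inv, hc'] at h1
      simp only [QuotientGroup.mk'_apply, ← QuotientGroup.mk_mul]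
      refine (QuotientGroup.eq.2 ?_).symm
      have h2 := hMn.conj_mem _ (M.inv_mem h1) ((((ρ g u : U) : P) * c)⁻¹)
      simp only [Subgroup.coe_mul, Subgroup.coe_inv] at h2 ⊢
      convert h2 using 1
      group
    refine Subgroup.commutator_le.2 fun a ha b hb => ?_
    rw [← QuotientGroup.eq_one_iff, commutatorElement_def]
    have h1 := Subgroup.mem_centralizer_iff.1 (hK ha) _ ⟨b, hb, rfl⟩
    simp only [QuotientGroup.mk'_apply] at h1
    rw [QuotientGroup.mk_mul, QuotientGroup.mk_mul, QuotientGroup.mk_mul, QuotientGroup.mk_inv,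
      QuotientGroup.mk_inv, ← h1]
    group
  have hclass : ⁅⁅B, B⁆, B⁆ = ⊥ := by
    refine Subgroup.commutator_eq_bot_iff_le_centralizer.2 ((hBBW.trans ?_))
    intro m hm
    have hK := hgen (Subgroup.centralizer (M : Set P)) fun g u hu => by
      refine Subgroup.mem_centralizer_iff.2 fun n hn => ?_
      obtain ⟨n', hn'⟩ := (ρ g).surjective ⟨n, hMU hn⟩
      have hn'M : (n' : P) ∈ M := by
        have := hMinv g⁻¹ ⟨n, hMU hn⟩ hn
        rwa [← hn', map_inv, MulAut.inv_apply_self] at this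
      have h1 : n' * u = u * n' := Subtype.ext (hWc _ hn'M.2 _ hu.2)
      have h2 := congrArg (fun w : U => ((ρ g w : U) : P)) h1
      simpa [hn'] using h2
    exact Subgroup.mem_centralizer_iff.2 fun b hb =>
      (Subgroup.mem_centralizer_iff.1 (hK hb) m hm).symm
  -- `B` lies in the members of the family inside `U`
  have hBle : ∀ A ∈ 𝒜, A ≤ U → B ≤ A := fun A hA hAU =>
    hgen A fun g u hu => hinv g u (fun A' hA' _ => hW1 A' hA' hu.2) A hA hAU
  have hsome : ∃ A ∈ 𝒜, ¬ B ≤ A := by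
    by_contra h
    push Not at h
    exact hBW (by rw [hX, inf_eq_left.2 (hW2 B h)]; exact hBinv)
  obtain ⟨A, hA, hBA, hBnA⟩ := hrep B hBn hclass (hBBW.trans inf_le_right) hsome
  obtain ⟨x, hxA, hxU, hxp⟩ := hlast A fun hAU => hBA (hBle A hA hAU)
  obtain ⟨t, htT, htI, htp, hte⟩ := hκI x hxU hxp
  let ρB : G →* MulAut B := MonoidHom.mk'
    (fun g =>
      { toFun := fun b => ⟨ρ g ⟨b, hBU b.2⟩, hBinv g _ b.2⟩
        invFun := fun b => ⟨ρ g⁻¹ ⟨b, hBU b.2⟩, hBinv g⁻¹ _ b.2⟩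
        left_inv := fun b => Subtype.ext (show ((ρ g⁻¹ (ρ g ⟨b, hBU b.2⟩) : U) : P) = b by
          rw [map_inv, MulAut.inv_apply_self])
        right_inv := fun b => Subtype.ext (show ((ρ g (ρ g⁻¹ ⟨b, hBU b.2⟩) : U) : P) = b by
          rw [map_inv, MulAut.apply_inv_self])
        map_mul' := fun a b => Subtype.ext
          (show ((ρ g (⟨a, hBU a.2⟩ * ⟨b, hBU b.2⟩) : U) : P) =
            ((ρ g ⟨a, hBU a.2⟩ : U) : P) * ((ρ g ⟨b, hBU b.2⟩ : U) : P) by
            rw [map_mul, Subgroup.coe_mul]) })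
    fun a b => MulEquiv.ext fun v => Subtype.ext
      (show ((ρ (a * b) ⟨v, hBU v.2⟩ : U) : P) = ((ρ a (ρ b ⟨v, hBU v.2⟩) : U) : P) by
        rw [map_mul, MulAut.mul_apply])
  refine hBW fun g u hu => ⟨hBinv g u hu.1, ?_⟩
  obtain ⟨s, hsT, hse⟩ := exists_sylow_apply_eq hp T hI hN (hP.to_subgroup B) ρB htT htI htp
    (fun b => by
      refine Subtype.ext ?_
      have e : ∀ c : B, ((ρB t c : B) : P) = x * c * x⁻¹ := fun c => hte ⟨c, hBU c.2⟩
      rw [e, Subgroup.coe_mul, Subgroup.coe_inv, e]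
      have hw : x * (b : P) * x⁻¹ * (b : P)⁻¹ ∈ A := by
        rw [show x * (b : P) * x⁻¹ * (b : P)⁻¹ = x * ((b : P) * x⁻¹ * (b : P)⁻¹) by group]
        exact A.mul_mem hxA ((Subgroup.mem_normalizer_iff.1 (hBnA b.2) _).1 (A.inv_mem hxA))
      rw [h𝒜 A hA x hxA _ hw, mul_inv_cancel_right]) g
  obtain ⟨r, hr⟩ := hT s hsT
  have h1 := congrArg (fun f : MulAut B => ((f ⟨u, hu.1⟩ : B) : P)) hse
  rw [show ((ρ g u : U) : P) = ((ρ s u : U) : P) from h1.symm, hr]
  exact Subgroup.Normal.conj_mem (inferInstance : W.Normal) _ hu.2 r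

end Cfsg.Agent.Fus
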