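import Mathlib

/-!
Dimensions of invariant subspaces for fixed space plus irreducible blocks of one dimension.
-/

set_option autoImplicit false

namespace Cfsg.Agent.Fus.InvariantDims

open Module

variable {F V : Type*} [Field F] [AddCommGroup V] [Module F V] [FiniteDimensional F V]
  (f : V →ₗ[F] V) {s : ℕ} (U : Fin s → Submodule F V)

/-- A subspace enlarged by the first blocks. -/
def chain (C₀ : Submodule F V) (j : ℕ) : Submodule F V :=
  C₀ ⊔ ⨆ (i : Fin s) (_ : (i : ℕ) < j), U i

theorem chain_zero (C₀ : Submodule F V) : chain U C₀ 0 = C₀ := by simp [chain]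

theorem chain_succ (C₀ : Submodule F V) (j : Fin s) :
    chain U C₀ ((j : ℕ) + 1) = chain U C₀ (j : ℕ) ⊔ U j := by
  refine le_antisymm (sup_le (le_sup_left.trans le_sup_left) (iSup₂_le fun i hi => ?_))
    (sup_le (sup_le le_sup_left (iSup₂_le fun i hi => ?_)) ?_)
  · rcases Nat.lt_succ_iff_lt_or_eq.1 hi with h | h
    · exact le_sup_of_le_left (le_sup_of_le_right (le_iSup₂_of_le i h le_rfl))
    · rw [Fin.ext h]; exact le_sup_right
  · exact le_sup_of_le_right (le_iSup₂_of_le i (Nat.lt_succ_of_lt hi) le_rfl)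
  · exact le_sup_of_le_right (le_iSup₂_of_le j (Nat.lt_succ_self _) le_rfl)

theorem chain_inf {C C₀ : Submodule F V} (hC : C₀ ≤ C)
    (hind : iSupIndep fun o : Option (Fin s) => o.elim C U) (j : Fin s) :
    chain U C₀ (j : ℕ) ⊓ U j = ⊥ := by
  have h := (hind (some j)).symm
  rw [disjoint_iff] at h
  refine le_bot_iff.1 ((inf_le_inf ?_ le_rfl).trans h.le)
  refine sup_le ?_ (iSup₂_le fun i hi => ?_)
  · exact le_iSup₂_of_le (f := fun o (_ : o ≠ some j) => (o.elim C U : Submodule F V))
      none (by simp) hC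
  · refine le_iSup₂_of_le (f := fun o (_ : o ≠ some j) => (o.elim C U : Submodule F V))
      (some i) ?_ le_rfl
    intro e
    rw [Option.some_inj] at e
    rw [e] at hi
    exact lt_irrefl _ hi

theorem finrank_chain {C C₀ : Submodule F V} (hC : C₀ ≤ C) {a : ℕ}
    (hdim : ∀ j, finrank F (U j) = a)
    (hind : iSupIndep fun o : Option (Fin s) => o.elim C U) (j : ℕ) (hj : j ≤ s) :
    finrank F (chain U C₀ j : Submodule F V) = finrank F C₀ + j * a := by
  induction j with
  | zero => rw [chain_zero, zero_mul, add_zero]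
  | succ j ih =>
    have h := Submodule.finrank_sup_add_finrank_inf_eq (chain U C₀ j) (U ⟨j, hj⟩)
    rw [← chain_succ U C₀ ⟨j, hj⟩, chain_inf U hC hind ⟨j, hj⟩, finrank_bot, ih (by omega),
      hdim] at h
    simpa [add_mul, add_assoc] using h

theorem map_le_chain {C₀ : Submodule F V} (hC : C₀.map f ≤ C₀) (hU : ∀ j, (U j).map f ≤ U j)
    (j : ℕ) : (chain U C₀ j).map f ≤ chain U C₀ j := by
  rw [chain, Submodule.map_sup, Submodule.map_iSup]
  refine sup_le_sup hC (iSup_mono fun i => ?_)
  rw [Submodule.map_iSup]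
  exact iSup_mono fun _ => hU i

theorem main (hss : ∀ v ∈ Module.End.eigenspace f 1, f v = v) {a : ℕ} (ha : 1 ≤ a)
    (hUinv : ∀ j, (U j).map f ≤ U j) (hUdim : ∀ j, finrank F (U j) = a)
    (hUirr : ∀ j, ∀ W : Submodule F V, W ≤ U j → W.map f ≤ W → W = ⊥ ∨ W = U j)
    (hdec : DirectSum.IsInternal (fun o : Option (Fin s) => o.elim (Module.End.eigenspace f 1) U))
    (m : ℕ) (hmV : m < finrank F V) :
    (∃ W : Submodule F V, finrank F W = m ∧ W.map f ≤ W) ↔
      (m ≤ finrank F (Module.End.eigenspace f 1) ∨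
        (a ≤ m ∧ m % a ≤ finrank F (Module.End.eigenspace f 1))) := by
  obtain ⟨C, hC⟩ : ∃ C, C = Module.End.eigenspace f 1 := ⟨_, rfl⟩
  rw [← hC] at hss hdec ⊢
  have hind := hdec.submodule_iSupIndep
  have htop : chain U C s = ⊤ := by
    refine top_le_iff.1 (hdec.submodule_iSup_eq_top.ge.trans (iSup_le fun o => ?_))
    cases o with
    | none => exact le_sup_left
    | some i => exact le_sup_of_le_right (le_iSup₂_of_le i i.2 le_rfl)
  have hCinv : ∀ C₀ : Submodule F V, C₀ ≤ C → C₀.map f ≤ C₀ := by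
    rintro C₀ h _ ⟨v, hv, rfl⟩
    rw [hss v (h hv)]
    exact hv
  have hV : finrank F V = finrank F C + s * a := by
    rw [← finrank_top, ← htop, finrank_chain U le_rfl hUdim hind s le_rfl]
  constructor
  · rintro ⟨W, hWm, hWf⟩
    have key : ∀ j, j ≤ s → ∃ t, finrank F (W ⊓ chain U C j : Submodule F V) =
        finrank F (W ⊓ C : Submodule F V) + t * a := by
      intro j hj
      induction j with
      | zero => exact ⟨0, by rw [chain_zero, zero_mul, add_zero]⟩
      | succ j ih =>
        obtain ⟨t, ht⟩ := ih (by omega)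
        let J : Fin s := ⟨j, hj⟩
        have hsucc := chain_succ U C J
        have hinvj : ∀ j', (W ⊓ chain U C j').map f ≤ W ⊓ chain U C j' := fun j' =>
          (Submodule.map_inf_le f).trans
            (inf_le_inf hWf (map_le_chain f U (hCinv C le_rfl) hUinv j'))
        obtain ⟨U', hU'⟩ : ∃ U', U' = U J ⊓ (W ⊓ chain U C (j + 1) ⊔ chain U C j) := ⟨_, rfl⟩
        have hU'inv : U'.map f ≤ U' := by
          rw [hU']
          refine (Submodule.map_inf_le f).trans (inf_le_inf (hUinv J) ?_)
          rw [Submodule.map_sup]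
          exact sup_le_sup (hinvj _) (map_le_chain f U (hCinv C le_rfl) hUinv j)
        have hd : ∃ t', finrank F U' = t' * a := by
          rcases hUirr J U' (hU' ▸ inf_le_left) hU'inv with e | e
          · exact ⟨0, by rw [e, finrank_bot, zero_mul]⟩
          · exact ⟨1, by rw [e, hUdim, one_mul]⟩
        obtain ⟨t', ht'⟩ := hd
        have hmod : W ⊓ chain U C (j + 1) ⊔ chain U C j = chain U C j ⊔ U' := by
          refine le_antisymm ?_ (sup_le le_sup_right (hU' ▸ inf_le_right))
          rw [hU', ← sup_inf_assoc_of_le _ le_sup_right]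
          exact le_inf (sup_le (inf_le_right.trans hsucc.le) le_sup_left) le_rfl
        have h1 := Submodule.finrank_sup_add_finrank_inf_eq (W ⊓ chain U C (j + 1)) (chain U C j)
        have h2 := Submodule.finrank_sup_add_finrank_inf_eq (chain U C j) U'
        have e1 : W ⊓ chain U C (j + 1) ⊓ chain U C j = W ⊓ chain U C j := by
          rw [inf_assoc, inf_eq_right.2 (le_sup_left.trans hsucc.ge)]
        have e2 : chain U C j ⊓ U' = ⊥ :=
          le_bot_iff.1 ((inf_le_inf le_rfl (hU' ▸ inf_le_left)).trans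
            (chain_inf U le_rfl hind J).le)
        rw [e1, hmod] at h1
        rw [e2, finrank_bot] at h2
        exact ⟨t + t', by rw [add_mul]; omega⟩
    obtain ⟨t, ht⟩ := key s le_rfl
    rw [htop, inf_top_eq, hWm] at ht
    have hle : finrank F (W ⊓ C : Submodule F V) ≤ finrank F C :=
      Submodule.finrank_mono inf_le_right
    rcases Nat.eq_zero_or_pos t with rfl | h0
    · exact Or.inl (by rw [zero_mul] at ht; omega)
    · refine Or.inr ⟨le_trans (Nat.le_mul_of_pos_left a h0) (by omega), ?_⟩
      rw [ht, Nat.add_mul_mod_self_right]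
      exact (Nat.mod_le _ _).trans hle
  · intro h
    obtain ⟨t, r, hts, hr, hm⟩ : ∃ t r, t ≤ s ∧ r ≤ finrank F C ∧ m = r + t * a := by
      rcases h with h | ⟨h1, h2⟩
      · exact ⟨0, m, Nat.zero_le _, h, by rw [zero_mul, add_zero]⟩
      · by_cases hts : m / a ≤ s
        · exact ⟨m / a, m % a, hts, h2, (Nat.mod_add_div' m a).symm⟩
        · have h3 : (s + 1) * a ≤ m := (Nat.le_div_iff_mul_le ha).1 (by omega)
          rw [add_mul, one_mul] at h3
          exact ⟨s, m - s * a, le_rfl, by omega, by omega⟩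
    obtain ⟨v, hv⟩ := exists_linearIndependent_of_le_finrank hr
    let C₀ : Submodule F V := (Submodule.span F (Set.range v)).map C.subtype
    have hC₀ : C₀ ≤ C := Submodule.map_subtype_le C _
    have hd : finrank F C₀ = r := by
      rw [Submodule.finrank_map_subtype_eq, finrank_span_eq_card hv, Fintype.card_fin]
    exact ⟨chain U C₀ t, by rw [finrank_chain U hC₀ hUdim hind t hts, hd, ← hm],
      map_le_chain f U (hCinv C₀ hC₀) hUinv t⟩

end Cfsg.Agent.Fus.InvariantDims
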