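import Mathlib
import Cfsg.Prelude.Def_Classical

/-!
An irreducible invariant subspace of an isometry.
-/

set_option autoImplicit false

namespace Cfsg.Agent.Fus.IrredIsometry

open Matrix

variable {F : Type*} [Field F] {p : ℕ} [Fact p.Prime] [CharP F p] {n : ℕ}

local notation "V" => (Fin n → F)

theorem main (Q : QuadraticForm F V) (x : ↥(Cfsg.isometryGroup F ⇑Q)) (U : Submodule F V)
    (hU0 : U ≠ ⊥)
    (hUx : ∀ u ∈ U, ((x : Matrix.GeneralLinearGroup (Fin n) F) : Matrix (Fin n) (Fin n) F).mulVec u ∈ U)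
    (hirr : ∀ W : Submodule F V, W ≤ U → (∀ w ∈ W, ((x : Matrix.GeneralLinearGroup (Fin n) F) :
      Matrix (Fin n) (Fin n) F).mulVec w ∈ W) → W = ⊥ ∨ W = U) :
    U ⊓ LinearMap.BilinForm.orthogonal (QuadraticMap.polarBilin Q) U = ⊥ ∨ (∀ u ∈ U, Q u = 0) ∨
      (p = 2 ∧ Module.finrank F U = 1 ∧ (∃ u ∈ U, Q u ≠ 0) ∧
        ∀ u ∈ U, ((x : Matrix.GeneralLinearGroup (Fin n) F) : Matrix (Fin n) (Fin n) F).mulVec u = u) := by
  obtain ⟨M, hM⟩ : ∃ M, M = ((x : Matrix.GeneralLinearGroup (Fin n) F) :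
    Matrix (Fin n) (Fin n) F) := ⟨_, rfl⟩
  rw [← hM] at hUx hirr ⊢
  have hiso : ∀ v, Q (M *ᵥ v) = Q v := fun v => by
    rw [hM]; exact x.2 v v
  have hpol : ∀ u v, QuadraticMap.polar Q (M *ᵥ u) (M *ᵥ v) = QuadraticMap.polar Q u v := fun u v => by
    simp only [QuadraticMap.polar, ← Matrix.mulVec_add, hiso]
  have hinj : Function.Injective (M *ᵥ ·) := by
    rw [hM]
    exact Matrix.mulVec_injective_iff_isUnit.2 (Units.isUnit _)
  -- the radical of the subspace is invariant
  let f : U →ₗ[F] U := LinearMap.restrict M.mulVecLin hUx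
  have hfsurj : Function.Surjective f := LinearMap.surjective_of_injective fun a b e =>
    Subtype.ext (hinj (congrArg Subtype.val e))
  rcases hirr _ (inf_le_left : U ⊓ LinearMap.BilinForm.orthogonal
      (QuadraticMap.polarBilin Q) U ≤ U) (fun w hw => by
      refine ⟨hUx w hw.1, fun u hu => ?_⟩
      obtain ⟨a, ha⟩ := hfsurj ⟨u, hu⟩
      have h0 : QuadraticMap.polar Q (a : V) w = 0 := hw.2 (a : V) a.2
      show QuadraticMap.polarBilin Q u (M *ᵥ w) = 0
      rw [QuadraticMap.polarBilin_apply_apply, show u = M *ᵥ (a : V) from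
        (congrArg Subtype.val ha).symm, hpol, h0]) with hR | hR
  · exact Or.inl hR
  right
  have hB : ∀ u ∈ U, ∀ v ∈ U, QuadraticMap.polar Q u v = 0 := fun u hu v hv => by
    have hv' : v ∈ U ⊓ LinearMap.BilinForm.orthogonal (QuadraticMap.polarBilin Q) U := by
      rw [hR]; exact hv
    exact hv'.2 u hu
  by_cases hp : p = 2
  · let Z : Submodule F V :=
      { carrier := {u | u ∈ U ∧ Q u = 0}
        zero_mem' := ⟨U.zero_mem, QuadraticMap.map_zero _⟩
        add_mem' := fun {a b} ha hb => ⟨U.add_mem ha.1 hb.1, by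
          rw [QuadraticMap.map_add (f := Q), ha.2, hb.2, hB a ha.1 b hb.1, add_zero, add_zero]⟩
        smul_mem' := fun c a ha => ⟨U.smul_mem c ha.1, by
          rw [QuadraticMap.map_smul, ha.2, smul_zero]⟩ }
    rcases hirr Z (fun u hu => hu.1) (fun w hw => ⟨hUx w hw.1, by rw [hiso, hw.2]⟩) with hZ | hZ
    · refine Or.inr ⟨hp, ?_⟩
      subst hp
      have hfix : ∀ u ∈ U, M *ᵥ u = u := by
        intro u hu
        have hmem : M *ᵥ u - u ∈ Z := by
          refine ⟨U.sub_mem (hUx u hu) hu, ?_⟩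
          have h := QuadraticMap.map_add Q (M *ᵥ u - u) u
          rw [sub_add_cancel, hiso, hB _ (U.sub_mem (hUx u hu) hu) u hu, add_zero,
            right_eq_add] at h
          exact h
        rw [hZ, Submodule.mem_bot, sub_eq_zero] at hmem
        exact hmem
      obtain ⟨u, hu, hu0⟩ := Submodule.exists_mem_ne_zero_of_ne_bot hU0
      have hQu : Q u ≠ 0 := fun e => hu0 (by
        have : u ∈ Z := ⟨hu, e⟩
        rw [hZ, Submodule.mem_bot] at this
        exact this)
      refine ⟨?_, ⟨u, hu, hQu⟩, hfix⟩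
      rcases hirr (F ∙ u) ((Submodule.span_singleton_le_iff_mem _ _).2 hu) (fun w hw => by
        rw [hfix w ((Submodule.span_singleton_le_iff_mem _ _).2 hu hw)]; exact hw) with e | e
      · exact absurd (Submodule.span_singleton_eq_bot.1 e) hu0
      · rw [← e]; exact finrank_span_singleton hu0
    · exact Or.inl fun u hu => (hZ.symm ▸ hu : u ∈ Z).2
  · refine Or.inl fun u hu => ?_
    have h := hB u hu u hu
    rw [QuadraticMap.polar_self, nsmul_eq_mul] at h
    refine (mul_eq_zero.1 h).resolve_left fun e => hp ?_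
    exact (Nat.prime_dvd_prime_iff_eq Fact.out Nat.prime_two).1 ((CharP.cast_eq_zero_iff F p 2).1 e)

end Cfsg.Agent.Fus.IrredIsometry
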