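import Cfsg.Agent.Lib.Fus.StableFamily

/-!
The transfer of a saturated fusion system to an abelian group, computed through orbits of cyclic
subgroups on a stable family of graphs.
-/

set_option autoImplicit false
set_option linter.style.haveILetI false
set_option linter.unusedSectionVars false

open scoped Classical

namespace Cfsg.Agent.Fus

open Subgroup FusionSystem MulAction

section OrbProd

variable {W W' X Y A : Type*} [Group W] [Group W'] [MulAction W X] [MulAction W' Y] [CommMonoid A]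

/-- The product over the orbits of a weight of the stabilizer. -/
noncomputable def orbProd (W X : Type*) [Group W] [MulAction W X] (wt : Subgroup W → A) : A :=
  ∏ᶠ q : orbitRel.Quotient W X, wt (stabilizer W q.out)

theorem card_key_eq [Finite W] [Finite X] (wt : Subgroup W → A)
    (hc : ∀ (g : W) (V : Subgroup W), wt (V.map (MulAut.conj g).toMonoidHom) = wt V) (k : ℕ × A) :
    Nat.card {x : X // ((stabilizer W x).index, wt (stabilizer W x)) = k} =
      k.1 * Nat.card {q : orbitRel.Quotient W X //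
        ((stabilizer W q.out).index, wt (stabilizer W q.out)) = k} := by
  let key : X → ℕ × A := fun x => ((stabilizer W x).index, wt (stabilizer W x))
  have hkey : ∀ x y : X, y ∈ orbit W x → key y = key x := by
    rintro x _ ⟨g, rfl⟩
    show (_, _) = (_, _)
    rw [stabilizer_smul_eq_stabilizer_map_conj, hc]
    refine Prod.ext ?_ rfl
    exact Subgroup.index_map_equiv (stabilizer W x) (MulAut.conj g)
  have e : {x : X // key x = k} ≃ Σ q : {q : orbitRel.Quotient W X // key q.out = k},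
      orbit W q.1.out :=
    { toFun := fun x => ⟨⟨Quotient.mk'' x.1, (hkey x.1 _
          (Quotient.exact (Quotient.out_eq (Quotient.mk'' x.1 : orbitRel.Quotient W X)))).trans x.2⟩,
        ⟨x.1, orbit_eq_iff.1 (orbit_eq_iff.2
          (Quotient.exact (Quotient.out_eq (Quotient.mk'' x.1 : orbitRel.Quotient W X)))).symm⟩⟩
      invFun := fun z => ⟨z.2.1, (hkey _ _ z.2.2).trans z.1.2⟩
      left_inv := fun x => rfl
      right_inv := fun ⟨⟨q, hq⟩, y, hy⟩ => by
        have h : (Quotient.mk'' y : orbitRel.Quotient W X) = q := by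
          rw [← Quotient.out_eq q]
          exact Quotient.sound hy
        subst h
        rfl }
  haveI := Fintype.ofFinite {q : orbitRel.Quotient W X // key q.out = k}
  rw [Nat.card_congr e, Nat.card_sigma, Finset.sum_congr rfl fun q _ => show
    Nat.card (orbit W q.1.out) = k.1 by
      rw [Nat.card_coe_set_eq, ← index_stabilizer]
      exact congrArg Prod.fst q.2, Finset.sum_const, Finset.card_univ, ← Nat.card_eq_fintype_card,
    smul_eq_mul, mul_comm]

theorem card_key_eq_sum [Finite X] [Fintype (Subgroup W)] {γ : Type*} (key : Subgroup W → γ)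
    (k : γ) :
    Nat.card {x : X // key (stabilizer W x) = k} =
      ∑ U ∈ (Finset.univ : Finset (Subgroup W)).filter (key · = k), stabCount X U := by
  haveI := Fintype.ofFinite X
  simp only [Nat.card_eq_fintype_card, stabCount, Fintype.card_subtype]
  rw [Finset.card_eq_sum_card_fiberwise (f := fun x => stabilizer W x)
    (t := (Finset.univ : Finset (Subgroup W)).filter (key · = k)) (fun x hx => by simpa using hx)]
  refine Finset.sum_congr rfl fun U hU => ?_
  congr 1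
  ext x
  simp only [Finset.mem_filter, Finset.mem_univ, true_and] at hU ⊢
  exact ⟨fun h => h.2, fun h => ⟨h ▸ hU, h⟩⟩

theorem stabCount_eq_all {Z : Type*} [MulAction W Z] [Finite W] [Finite X] [Finite Z]
    (h : ∀ V, Nat.card (markSet (W := W) X V) = Nat.card (markSet (W := W) Z V))
    (V : Subgroup W) : stabCount (W := W) X V = stabCount (W := W) Z V := by
  rcases eq_or_ne V ⊥ with rfl | hV
  · haveI := Fintype.ofFinite (Subgroup W)
    have e := h ⊥
    have hmem : (⊥ : Subgroup W) ∈ (Finset.univ : Finset (Subgroup W)).filter (⊥ ≤ ·) := by simp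
    rw [card_markSet_eq_sum, card_markSet_eq_sum, ← Finset.add_sum_erase _ _ hmem,
      ← Finset.add_sum_erase _ _ hmem, Finset.sum_congr rfl fun U hU => stabCount_eq
        (X := X) (Y := Z) (D := (⊥ : Subgroup W)) (fun V _ => h V)
        (bot_lt_iff_ne_bot.2 (Finset.mem_erase.1 hU).1)] at e
    omega
  · exact stabCount_eq (D := (⊥ : Subgroup W)) (fun V _ => h V) (bot_lt_iff_ne_bot.2 hV)

theorem orbProd_eq [Finite W] [Finite X] [Finite Y] (e : W ≃* W')
    (hm : ∀ V : Subgroup W, Nat.card (markSet (W := W) X V) =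
      Nat.card (markSet (W := W') Y (V.map e.toMonoidHom)))
    (wt : Subgroup W → A) (wt' : Subgroup W' → A)
    (hwt : ∀ V : Subgroup W, wt' (V.map e.toMonoidHom) = wt V)
    (hc : ∀ (g : W) (V : Subgroup W), wt (V.map (MulAut.conj g).toMonoidHom) = wt V) :
    orbProd W X wt = orbProd W' Y wt' := by
  haveI : Finite W' := Finite.of_equiv W e.toEquiv
  haveI := Fintype.ofFinite (Subgroup W)
  letI : MulAction W Y := MulAction.compHom Y e.toMonoidHom
  have hst : ∀ y : Y, stabilizer W y = (stabilizer W' y).comap e.toMonoidHom := fun y => rfl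
  have hmW : ∀ V, Nat.card (markSet (W := W) X V) = Nat.card (markSet (W := W) Y V) := by
    intro V
    rw [hm V]
    refine Nat.card_congr (Equiv.subtypeEquivRight fun y => ?_)
    rw [markSet, markSet, Set.mem_ofPred_eq, Set.mem_ofPred_eq, hst, Subgroup.map_le_iff_le_comap]
  have hmap : ∀ U : Subgroup W', (U.comap e.toMonoidHom).map e.toMonoidHom = U := fun U =>
    Subgroup.map_comap_eq_self_of_surjective e.surjective U
  have hc' : ∀ (g : W') (V : Subgroup W'), wt' (V.map (MulAut.conj g).toMonoidHom) = wt' V := by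
    intro g V
    obtain ⟨g, rfl⟩ := e.surjective g
    conv_lhs => rw [← hmap V]
    conv_rhs => rw [← hmap V]
    rw [show ((V.comap e.toMonoidHom).map e.toMonoidHom).map (MulAut.conj (e g)).toMonoidHom =
        ((V.comap e.toMonoidHom).map (MulAut.conj g).toMonoidHom).map e.toMonoidHom by
      rw [Subgroup.map_map, Subgroup.map_map]
      congr 1
      ext x
      simp, hwt, hwt, hc]
  have hkeys : ∀ k : ℕ × A,
      Nat.card {x : X // ((stabilizer W x).index, wt (stabilizer W x)) = k} =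
        Nat.card {y : Y // ((stabilizer W' y).index, wt' (stabilizer W' y)) = k} := by
    intro k
    rw [card_key_eq_sum (W := W) (X := X) (fun U => (U.index, wt U)) k,
      Finset.sum_congr rfl fun U _ => stabCount_eq_all (X := X) (Z := Y) hmW U,
      ← card_key_eq_sum (W := W) (X := Y) (fun U => (U.index, wt U)) k]
    refine Nat.card_congr (Equiv.subtypeEquivRight fun y => ?_)
    show ((stabilizer W y).index, wt (stabilizer W y)) = k ↔ _
    rw [hst, Subgroup.index_comap_of_surjective (stabilizer W' y) (f := e.toMonoidHom) e.surjective,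
      ← hwt, hmap]
  have hfib : ∀ k : ℕ × A,
      Nat.card {q : orbitRel.Quotient W X //
        ((stabilizer W q.out).index, wt (stabilizer W q.out)) = k} =
      Nat.card {q : orbitRel.Quotient W' Y //
        ((stabilizer W' q.out).index, wt' (stabilizer W' q.out)) = k} := by
    intro k
    rcases Nat.eq_zero_or_pos k.1 with h | h
    · haveI : IsEmpty {q : orbitRel.Quotient W X //
          ((stabilizer W q.out).index, wt (stabilizer W q.out)) = k} :=
        ⟨fun q => Subgroup.index_ne_zero_of_finite ((congrArg Prod.fst q.2).trans h)⟩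
      haveI : IsEmpty {q : orbitRel.Quotient W' Y //
          ((stabilizer W' q.out).index, wt' (stabilizer W' q.out)) = k} :=
        ⟨fun q => Subgroup.index_ne_zero_of_finite ((congrArg Prod.fst q.2).trans h)⟩
      rw [Nat.card_of_isEmpty, Nat.card_of_isEmpty]
    · have e1 := hkeys k
      rw [card_key_eq wt hc k, card_key_eq wt' hc' k] at e1
      exact Nat.eq_of_mul_eq_mul_left h e1
  let fe : ∀ k : ℕ × A,
      {q : orbitRel.Quotient W X //
        ((stabilizer W q.out).index, wt (stabilizer W q.out)) = k} ≃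
      {q : orbitRel.Quotient W' Y //
        ((stabilizer W' q.out).index, wt' (stabilizer W' q.out)) = k} :=
    fun k => (Finite.card_eq.1 (hfib k)).some
  refine finprod_eq_of_bijective _ (Equiv.ofFiberEquiv fe).bijective fun q => ?_
  exact (congrArg Prod.snd (Equiv.ofFiberEquiv_map fe q)).symm

/-- The product over orbits may be computed on any system of representatives. -/
theorem orbProd_eq_of_reps {J : Type*} (pt : J → X)
    (hpt : Function.Bijective fun j => (Quotient.mk'' (pt j) : orbitRel.Quotient W X))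
    (wt : Subgroup W → A)
    (hc : ∀ (g : W) (V : Subgroup W), wt (V.map (MulAut.conj g).toMonoidHom) = wt V) :
    orbProd W X wt = ∏ᶠ j, wt (stabilizer W (pt j)) := by
  refine (finprod_eq_of_bijective _ hpt fun j => ?_).symm
  obtain ⟨g, hg⟩ : (Quotient.mk'' (pt j) : orbitRel.Quotient W X).out ∈ orbit W (pt j) :=
    Quotient.exact (Quotient.out_eq (Quotient.mk'' (pt j) : orbitRel.Quotient W X))
  rw [← hg, show stabilizer W (g • pt j) = (stabilizer W (pt j)).map (MulAut.conj g).toMonoidHom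
    from stabilizer_smul_eq_stabilizer_map_conj g _, hc]

end OrbProd

section System

universe u v

variable {Ω : Type u} [Group Ω] {S : Subgroup Ω} {F : FusionSystem S}

/-- The inclusion of `⟨x⟩ × S` in `S × S`. -/
def cycIncl (x : S) : ↥(Subgroup.zpowers x) × S →* S × S :=
  (Subgroup.zpowers x).subtype.prodMap (MonoidHom.id S)

instance cycAction (x : S) (c : Subgroup (S × S) → ℕ) :
    MulAction (↥(Subgroup.zpowers x) × S) (Pts c) :=
  MulAction.compHom (Pts c) (cycIncl x)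

theorem card_markSet_cyc (x : S) (c : Subgroup (S × S) → ℕ)
    (V : Subgroup (↥(Subgroup.zpowers x) × S)) :
    Nat.card (markSet (W := ↥(Subgroup.zpowers x) × S) (Pts c) V) =
      famMark c (V.map (cycIncl x)) := by
  refine Nat.card_congr (Equiv.subtypeEquivRight fun z => ?_)
  rw [markSet, markSet, Set.mem_ofPred_eq, Set.mem_ofPred_eq, Subgroup.map_le_iff_le_comap]
  rfl

variable {A : Type v} [CommGroup A] {K : Subgroup Ω}

/-- The values of `ψ` on second coordinates above the least power of `x` in the projection. -/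
def cycWtSet (ψ : K →* A) (x : S) (V : Subgroup (↥(Subgroup.zpowers x) × S)) : Set A :=
  {a | ∃ (t : S) (ht : (t : Ω) ∈ K),
    ((⟨x, Subgroup.mem_zpowers x⟩ : ↥(Subgroup.zpowers x)) ^ (V.map (MonoidHom.fst _ S)).index, t) ∈ V ∧
      ψ ⟨t, ht⟩ = a}

/-- The weight of a subgroup of `⟨x⟩ × S`. -/
noncomputable def cycWt (ψ : K →* A) (x : S) (V : Subgroup (↥(Subgroup.zpowers x) × S)) : A :=
  ∏ᶠ a ∈ cycWtSet ψ x V, a

theorem map_fst_map {G₁ G₂ H₁ H₂ : Type*} [Group G₁] [Group G₂] [Group H₁] [Group H₂]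
    (f : G₁ →* H₁) (g : G₂ →* H₂) (h : G₁ × G₂ →* H₁ × H₂) (hh : ∀ w, (h w).1 = f w.1)
    (V : Subgroup (G₁ × G₂)) :
    (V.map h).map (MonoidHom.fst H₁ H₂) = (V.map (MonoidHom.fst G₁ G₂)).map f := by
  rw [Subgroup.map_map, Subgroup.map_map]
  congr 1
  ext w
  exact hh w

theorem cycWt_conj (ψ : K →* A)
    (hconj : ∀ s ∈ S, ∀ z ∈ K, s * z * s⁻¹ ∈ K)
    (hinv : ∀ s ∈ S, ∀ (z : Ω) (hz : z ∈ K) (hz' : s * z * s⁻¹ ∈ K), ψ ⟨_, hz'⟩ = ψ ⟨z, hz⟩)
    (x : S) (g : ↥(Subgroup.zpowers x) × S) (V : Subgroup (↥(Subgroup.zpowers x) × S)) :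
    cycWt ψ x (V.map (MulAut.conj g).toMonoidHom) = cycWt ψ x V := by
  have hfst : (V.map (MulAut.conj g).toMonoidHom).map (MonoidHom.fst _ S) =
      V.map (MonoidHom.fst _ S) := by
    rw [map_fst_map (MulAut.conj g.1).toMonoidHom (MulAut.conj g.2).toMonoidHom
      (MulAut.conj g).toMonoidHom (fun w => rfl),
      show (MulAut.conj g.1).toMonoidHom = MonoidHom.id ↥(Subgroup.zpowers x) from
        MonoidHom.ext fun z => by
          show g.1 * z * g.1⁻¹ = z
          rw [mul_comm' g.1 z]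
          group, Subgroup.map_id]
  refine finprod_mem_congr (Set.ext fun a => ?_) fun _ _ => rfl
  simp only [cycWtSet, Set.mem_ofPred_eq, hfst]
  constructor
  · rintro ⟨t, ht, ⟨⟨z, t'⟩, hw, e⟩, rfl⟩
    obtain ⟨e1, e2⟩ := Prod.mk.inj e
    have ht' : (t' : Ω) ∈ K := by
      have h := hconj _ (S.inv_mem g.2.2) _ ht
      rw [← e2] at h
      simpa [mul_assoc] using h
    refine ⟨t', ht', ?_, ?_⟩
    · have hz : g.1 * z * g.1⁻¹ = z := by rw [mul_comm' g.1 z]; group
      rw [← hz.symm.trans e1]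
      exact hw
    · subst e2
      exact (hinv _ g.2.2 _ ht' ht).symm
  · rintro ⟨t, ht, hw, rfl⟩
    refine ⟨g.2 * t * g.2⁻¹, hconj _ g.2.2 _ ht, ⟨_, hw, Prod.ext ?_ rfl⟩, hinv _ g.2.2 _ ht _⟩
    show g.1 * _ * g.1⁻¹ = _
    rw [mul_comm' g.1]
    group
where
  mul_comm' {x : S} (a b : ↥(Subgroup.zpowers x)) : a * b = b * a := by
    obtain ⟨i, hi⟩ := Subgroup.mem_zpowers_iff.1 a.2
    obtain ⟨j, hj⟩ := Subgroup.mem_zpowers_iff.1 b.2
    refine Subtype.ext ?_
    rw [Subgroup.coe_mul, Subgroup.coe_mul, ← hi, ← hj]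
    exact (Commute.refl x).zpow_zpow i j

/-- The transfer before it is computed. -/
noncomputable def orbTransfer (c : Subgroup (S × S) → ℕ) (ψ : K →* A) (x : S) : A :=
  orbProd (↥(Subgroup.zpowers x) × S) (Pts c) (cycWt ψ x)

theorem orbTransfer_eq [Finite S] {c : Subgroup (S × S) → ℕ}
    (hst : ∀ V V' : Subgroup (S × S), GraphRel F V V' → famMark c V = famMark c V') (ψ : K →* A)
    (hconj : ∀ s ∈ S, ∀ z ∈ K, s * z * s⁻¹ ∈ K)
    (hinv : ∀ s ∈ S, ∀ (z : Ω) (hz : z ∈ K) (hz' : s * z * s⁻¹ ∈ K), ψ ⟨_, hz'⟩ = ψ ⟨z, hz⟩)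
    {P : Subgroup Ω} {f : Ω → Ω} (hf : IsMap F P f) {x y : S} (hx : (x : Ω) ∈ P)
    (hxy : f (x : Ω) = (y : Ω)) : orbTransfer c ψ x = orbTransfer c ψ y := by
  have hzP : ∀ z : ↥(Subgroup.zpowers x), ((z : S) : Ω) ∈ P := fun z => by
    obtain ⟨i, hi⟩ := Subgroup.mem_zpowers_iff.1 z.2
    rw [← hi, Subgroup.coe_zpow]
    exact zpow_mem hx i
  let j : ↥(Subgroup.zpowers x) →* S := MonoidHom.mk'
    (fun z => ⟨f ((z : S) : Ω), hf.apply_mem (hzP z)⟩)
    fun a b => Subtype.ext (hf.map_mul (hzP a) (hzP b))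
  have hj : Function.Injective j := fun a b h =>
    Subtype.ext (Subtype.ext (hf.injOn (hzP a) (hzP b) (congrArg Subtype.val h)))
  let e₀ : ↥(Subgroup.zpowers x) := ⟨x, Subgroup.mem_zpowers x⟩
  have hje : j e₀ = y := Subtype.ext hxy
  have hrange : j.range = Subgroup.zpowers y := by
    rw [← hje, MonoidHom.range_eq_map, ← MonoidHom.map_zpowers]
    congr 1
    refine (Subgroup.eq_top_iff' _).2 (fun z => ?_) |>.symm
    obtain ⟨i, hi⟩ := Subgroup.mem_zpowers_iff.1 z.2
    exact Subgroup.mem_zpowers_iff.2 ⟨i, Subtype.ext (by rw [Subgroup.coe_zpow]; exact hi)⟩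
  obtain ⟨ej, hej⟩ : ∃ ej : ↥(Subgroup.zpowers x) ≃* ↥(Subgroup.zpowers y),
      ∀ z, ((ej z : ↥(Subgroup.zpowers y)) : S) = j z :=
    ⟨(MonoidHom.ofInjective hj).trans (MulEquiv.subgroupCongr hrange), fun z => rfl⟩
  let e : ↥(Subgroup.zpowers x) × S ≃* ↥(Subgroup.zpowers y) × S :=
    MulEquiv.prodCongr ej (MulEquiv.refl S)
  refine orbProd_eq e (fun V => ?_) _ _ (fun V => ?_) (cycWt_conj ψ hconj hinv x)
  · rw [card_markSet_cyc, card_markSet_cyc]
    have hK : srcOf (V.map (cycIncl x)) ≤ P := by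
      rintro _ ⟨_, ⟨w, -, rfl⟩, rfl⟩
      exact hzP w.1
    refine hst _ _ ⟨P, f, hf, 1, hK, ?_⟩
    have key : ∀ (w : ↥(Subgroup.zpowers x) × S) (hw : w ∈ V),
        graphHom hf 1 hK ⟨cycIncl x w, Subgroup.mem_map_of_mem _ hw⟩ = cycIncl y (e w) :=
      fun w hw => Prod.ext (Subtype.ext (congrArg Subtype.val (hej w.1)).symm)
        (show (1 : S) * w.2 * 1⁻¹ = w.2 by group)
    refine le_antisymm ?_ ?_
    · rintro _ ⟨⟨_, w, hw, rfl⟩, rfl⟩
      exact ⟨e w, ⟨w, hw, rfl⟩, (key w hw).symm⟩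
    · rintro _ ⟨_, ⟨w, hw, rfl⟩, rfl⟩
      exact ⟨⟨_, Subgroup.mem_map_of_mem _ hw⟩, key w hw⟩
  · refine finprod_mem_congr (Set.ext fun a => ?_) fun _ _ => rfl
    have hidx : ((V.map e.toMonoidHom).map (MonoidHom.fst _ S)).index =
        (V.map (MonoidHom.fst _ S)).index := by
      rw [map_fst_map ej.toMonoidHom (MonoidHom.id S) e.toMonoidHom (fun w => rfl)]
      exact Subgroup.index_map_of_bijective (f := ej.toMonoidHom) ej.bijective _
    have hpow : ∀ r : ℕ, (⟨y, Subgroup.mem_zpowers y⟩ : ↥(Subgroup.zpowers y)) ^ r = ej (e₀ ^ r) := by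
      intro r
      rw [map_pow]
      congr 1
      exact Subtype.ext (hje.symm.trans (hej e₀).symm)
    simp only [cycWtSet, Set.mem_ofPred_eq, hidx, hpow]
    constructor
    · rintro ⟨t, ht, ⟨w, hw, e1⟩, rfl⟩
      obtain ⟨e2, e3⟩ := Prod.mk.inj e1
      refine ⟨t, ht, ?_, rfl⟩
      rw [← ej.injective e2, ← show w.2 = t from e3]
      exact hw
    · rintro ⟨t, ht, hw, rfl⟩
      exact ⟨t, ht, ⟨_, hw, rfl⟩, rfl⟩

theorem pts_pt_inj {c : Subgroup (S × S) → ℕ} {L : Subgroup (S × S)} {i : Fin (c L)}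
    {a b : (S × S) ⧸ L} (h : (⟨L, i, a⟩ : Pts c) = ⟨L, i, b⟩) : a = b := by
  simpa using h

/-- The value of the transfer. -/
theorem orbTransfer_value [Finite S] [Fintype (Subgroup (S × S))] {c : Subgroup (S × S) → ℕ}
    (hgr : ∀ L, c L ≠ 0 → IsFGraph F L) (hKS : K ≤ S) (ψ : K →* A)
    (hconj : ∀ s ∈ S, ∀ z ∈ K, s * z * s⁻¹ ∈ K)
    (hinv : ∀ s ∈ S, ∀ (z : Ω) (hz : z ∈ K) (hz' : s * z * s⁻¹ ∈ K), ψ ⟨_, hz'⟩ = ψ ⟨z, hz⟩)
    (B : Subgroup A)
    (δ : ∀ L : Subgroup (S × S), ↥(L.map (MonoidHom.fst S S)) →* B)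
    (hδK : ∀ L, c L ≠ 0 → ∀ w ∈ L, (w.1 : Ω) ∈ K → (w.2 : Ω) ∈ K)
    (hδ : ∀ L, c L ≠ 0 → ∀ (w : S × S) (hw : w ∈ L) (h1 : (w.1 : Ω) ∈ K) (h2 : (w.2 : Ω) ∈ K),
      ψ ⟨_, h2⟩ = ψ ⟨_, h1⟩ * (δ L ⟨w.1, w, hw, rfl⟩ : A))
    {x : Ω} (hx : x ∈ K) :
    orbTransfer c ψ ⟨x, hKS hx⟩ = ψ ⟨x, hx⟩ ^ famDeg c *
      ((∏ L, (δ L).transfer ^ c L : S →* B) ⟨x, hKS hx⟩ : A) := by
  set s : S := ⟨x, hKS hx⟩ with hs
  haveI : Fintype (orbitRel.Quotient (↥(Subgroup.zpowers s)) S) := Fintype.ofFinite _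
  let J := Σ L : Subgroup (S × S),
    Fin (c L) × Quotient (orbitRel (↥(Subgroup.zpowers s)) (S ⧸ L.map (MonoidHom.fst S S)))
  let pt : J → Pts c := fun z => ⟨z.1, z.2.1, ((z.2.2.out.out, 1) : S × S)⟩
  have hfix : ∀ (L : Subgroup (S × S)) (g : S) (w : ↥(Subgroup.zpowers s) × S) (g' : S),
      cycIncl s w • ((g, 1) : (S × S)) • ((1 : S × S) : (S × S) ⧸ L) =
          (((g', 1) : S × S) : (S × S) ⧸ L) ↔ (g'⁻¹ * (w.1 : S) * g, w.2) ∈ L := by
    intro L g w g'
    rw [show cycIncl s w • ((g, 1) : (S × S)) • ((1 : S × S) : (S × S) ⧸ L) =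
      ((cycIncl s w * ((g, 1) * 1) : S × S) : (S × S) ⧸ L) from rfl, eq_comm, QuotientGroup.eq]
    rw [show ((g', 1) : S × S)⁻¹ * (cycIncl s w * ((g, 1) * 1)) =
      (g'⁻¹ * (w.1 : S) * g, w.2) from Prod.ext (by simp [cycIncl, mul_assoc])
        (by simp [cycIncl])]
  have hsm : ∀ (L : Subgroup (S × S)) (g : S),
      ((g, 1) : (S × S)) • ((1 : S × S) : (S × S) ⧸ L) = (((g, 1) : S × S) : (S × S) ⧸ L) :=
    fun L g => congrArg QuotientGroup.mk (mul_one _)
  have hbij : Function.Bijective fun z =>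
      (Quotient.mk'' (pt z) : orbitRel.Quotient (↥(Subgroup.zpowers s) × S) (Pts c)) := by
    constructor
    · rintro ⟨L, i, q⟩ ⟨L', i', q'⟩ h
      obtain ⟨w, hw⟩ : pt ⟨L, i, q⟩ ∈ orbit (↥(Subgroup.zpowers s) × S) (pt ⟨L', i', q'⟩) :=
        Quotient.exact h
      change (⟨L', i', _⟩ : Pts c) = ⟨L, i, _⟩ at hw
      have hL : L' = L := congrArg Pts.sub hw
      subst hL
      have hi : i' = i := by
        have := congrArg (fun z : Pts c => (z.idx : ℕ)) hw
        exact Fin.ext this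
      subst hi
      refine Sigma.ext rfl (heq_of_eq (Prod.ext rfl ?_))
      have h2 : cycIncl s w • (((q'.out.out, 1) : S × S) : (S × S) ⧸ L') =
          (((q.out.out, 1) : S × S) : (S × S) ⧸ L') := pts_pt_inj hw
      rw [← hsm L' q'.out.out, hfix] at h2
      refine ((Quotient.out_eq q).symm.trans ((Quotient.sound ?_).trans (Quotient.out_eq q')))
      refine ⟨w.1, ?_⟩
      show (w.1 : S) • q'.out = q.out
      rw [← QuotientGroup.out_eq' q.out, ← QuotientGroup.out_eq' q'.out]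
      show (((w.1 : S) * q'.out.out : S) : S ⧸ L'.map (MonoidHom.fst S S)) = _
      symm
      refine QuotientGroup.eq.2 ?_
      exact ⟨_, h2, mul_assoc _ _ _⟩
    · intro q
      obtain ⟨⟨L, i, z⟩, rfl⟩ := Quotient.exists_rep q
      induction z using QuotientGroup.induction_on with
      | _ w =>
      set Q : Quotient (orbitRel (↥(Subgroup.zpowers s)) (S ⧸ L.map (MonoidHom.fst S S))) :=
        Quotient.mk'' (QuotientGroup.mk w.1) with hQ
      obtain ⟨k, hk⟩ := Quotient.exact (Quotient.out_eq Q)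
      change (k : S) • (QuotientGroup.mk w.1 : S ⧸ L.map (MonoidHom.fst S S)) = Q.out at hk
      rw [← QuotientGroup.out_eq' Q.out] at hk
      obtain ⟨v, hv, hve⟩ : ((k : S) * w.1)⁻¹ * Q.out.out ∈ L.map (MonoidHom.fst S S) :=
        QuotientGroup.eq.1 hk
      refine ⟨⟨L, i, Q⟩, Quotient.sound ?_⟩
      refine ⟨(k, v.2⁻¹ * w.2⁻¹), ?_⟩
      show (⟨L, i, _⟩ : Pts c) = ⟨L, i, _⟩
      congr 1
      refine (QuotientGroup.eq.2 ?_)
      show (cycIncl s (k, v.2⁻¹ * w.2⁻¹) * w)⁻¹ * (Q.out.out, 1) ∈ L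
      rw [show (cycIncl s (k, v.2⁻¹ * w.2⁻¹) * w)⁻¹ * (Q.out.out, 1) = v from
        Prod.ext (by simp [cycIncl] at hve ⊢; rw [hve]) (by simp [cycIncl, mul_assoc])]
      exact hv
  rw [orbTransfer, orbProd_eq_of_reps pt hbij _ (cycWt_conj ψ hconj hinv s)]
  haveI : ∀ L : Subgroup (S × S),
      Fintype (Quotient (orbitRel (↥(Subgroup.zpowers s)) (S ⧸ L.map (MonoidHom.fst S S)))) :=
    fun L => Fintype.ofFinite _
  letI : Fintype J := inferInstanceAs (Fintype (Σ L : Subgroup (S × S),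
    Fin (c L) × Quotient (orbitRel (↥(Subgroup.zpowers s)) (S ⧸ L.map (MonoidHom.fst S S)))))
  rw [finprod_eq_prod_of_fintype]
  -- the weight of a representative
  let r : J → ℕ := fun z => Function.minimalPeriod (fun y => s • y) z.2.2.out
  have hu : ∀ z : J, z.2.2.out.out⁻¹ * s ^ r z * z.2.2.out.out ∈
      z.1.map (MonoidHom.fst S S) := fun z => by
    have h := pow_smul_eq_iff_minimalPeriod_dvd.2
      (dvd_refl (Function.minimalPeriod (fun y => s • y) z.2.2.out))
    change s ^ r z • z.2.2.out = z.2.2.out at h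
    generalize r z = n at h ⊢
    rw [← QuotientGroup.out_eq' z.2.2.out] at h
    rw [mul_assoc]
    exact QuotientGroup.eq.1 h.symm
  have hwt : ∀ z : J, cycWt ψ s (stabilizer (↥(Subgroup.zpowers s) × S) (pt z)) =
      ψ ⟨x, hx⟩ ^ r z * (δ z.1 ⟨_, hu z⟩ : A) := by
    intro z
    have hc0 : c z.1 ≠ 0 := fun h => absurd z.2.1.isLt (by omega)
    set g := z.2.2.out.out with hg
    have hmem : ∀ w : ↥(Subgroup.zpowers s) × S,
        w ∈ stabilizer (↥(Subgroup.zpowers s) × S) (pt z) ↔ (g⁻¹ * (w.1 : S) * g, w.2) ∈ z.1 := by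
      intro w
      rw [← hfix z.1 g w g, hsm]
      exact ⟨fun h => pts_pt_inj h, fun h => congrArg (Pts.mk z.1 z.2.1) h⟩
    have hfst : (stabilizer (↥(Subgroup.zpowers s) × S) (pt z)).map (MonoidHom.fst _ S) =
        stabilizer (↥(Subgroup.zpowers s)) z.2.2.out := by
      ext k
      rw [mem_stabilizer_iff]
      show k ∈ _ ↔ (k : S) • z.2.2.out = z.2.2.out
      conv_rhs => rw [← QuotientGroup.out_eq' z.2.2.out, ← hg]
      constructor
      · rintro ⟨w, hw, rfl⟩
        show (((w.1 : S) * g : S) : S ⧸ z.1.map (MonoidHom.fst S S)) = _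
        symm
        refine QuotientGroup.eq.2 ?_
        exact ⟨_, (hmem w).1 hw, mul_assoc _ _ _⟩
      · intro h
        obtain ⟨v, hv, hve⟩ : g⁻¹ * ((k : S) * g) ∈ z.1.map (MonoidHom.fst S S) :=
          QuotientGroup.eq.1 h.symm
        refine ⟨(k, v.2), (hmem _).2 ?_, rfl⟩
        rw [mul_assoc, ← hve]
        exact hv
    have hidx : ((stabilizer (↥(Subgroup.zpowers s) × S) (pt z)).map (MonoidHom.fst _ S)).index =
        r z := by
      have hfin : Fintype (orbit (↥(Subgroup.zpowers s)) z.2.2.out) := Fintype.ofFinite _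
      rw [hfst, index_stabilizer, ← Nat.card_coe_set_eq, @Nat.card_eq_fintype_card _ hfin]
      exact (@MulAction.minimalPeriod_eq_card _ _ _ s _ z.2.2.out hfin).symm
    obtain ⟨v, hv, hve⟩ := hu z
    change v.1 = _ at hve
    have h1 : (v.1 : Ω) ∈ K := by
      rw [hve]
      have := hconj _ (S.inv_mem g.2) _ (K.pow_mem hx (r z))
      simpa using this
    have h2 := hδK _ hc0 v hv h1
    have hset : cycWtSet ψ s (stabilizer (↥(Subgroup.zpowers s) × S) (pt z)) = {ψ ⟨_, h2⟩} := by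
      ext a
      simp only [cycWtSet, Set.mem_ofPred_eq, Set.mem_singleton_iff, hidx, hmem,
        Subgroup.coe_pow]
      constructor
      · rintro ⟨t, ht, hw, rfl⟩
        have e := (hgr _ hc0).ext_of_fst hw hv hve.symm
        have e2 : t = v.2 := congrArg Prod.snd e
        subst e2
        rfl
      · rintro rfl
        exact ⟨v.2, h2, by rw [← hve]; exact hv, rfl⟩
    rw [cycWt, hset, finprod_mem_singleton, hδ _ hc0 v hv h1 h2]
    congr 1
    · have h3 : s * 1 = s := mul_one s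
      have h4 := hinv _ (S.inv_mem g.2) _ (K.pow_mem hx (r z))
        (by simpa using hconj _ (S.inv_mem g.2) _ (K.pow_mem hx (r z)))
      rw [← map_pow]
      refine Eq.trans (congrArg ψ (Subtype.ext ?_)) h4
      show (v.1 : Ω) = _
      rw [hve]
      simp
      rfl
    · congr 2
      exact Subtype.ext hve
  rw [Finset.prod_congr rfl fun z _ => hwt z, Finset.prod_mul_distrib, Finset.prod_pow_eq_pow_sum]
  congr 1
  · congr 1
    refine (Fintype.sum_sigma r).trans ?_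
    rw [famDeg]
    refine Finset.sum_congr rfl fun L _ => ?_
    rcases eq_or_ne (c L) 0 with h0 | h0
    · haveI : IsEmpty (Fin (c L)) := by rw [h0]; infer_instance
      simp [h0]
    rw [Fintype.sum_prod_type, Finset.sum_congr rfl fun i _ => show
      ∑ q, r ⟨L, i, q⟩ = (L.map (MonoidHom.fst S S)).index by
        rw [Subgroup.index_eq_card, Nat.card_congr (selfEquivSigmaOrbits
          (↥(Subgroup.zpowers s)) (S ⧸ L.map (MonoidHom.fst S S))), Nat.card_sigma]
        refine Finset.sum_congr rfl fun q _ => ?_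
        have hfin : Fintype (orbit (↥(Subgroup.zpowers s)) q.out) := Fintype.ofFinite _
        rw [@Nat.card_eq_fintype_card _ hfin]
        exact @MulAction.minimalPeriod_eq_card _ _ _ s _ q.out hfin]
    rw [Finset.sum_const, Finset.card_univ, Fintype.card_fin, smul_eq_mul,
      ← (hgr L h0).card_map_fst]
    congr 1
    refine (Nat.div_eq_of_eq_mul_left Nat.card_pos ?_).symm
    exact (Subgroup.index_mul_card _).symm
  · refine (Fintype.prod_sigma _).trans ?_
    simp only [MonoidHom.finsetProd_apply, MonoidHom.pow_apply]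
    rw [show ((∏ L, (δ L).transfer s ^ c L : B) : A) = ∏ L, ((δ L).transfer s : A) ^ c L by
      rw [← Subgroup.coe_subtype, map_prod]
      simp]
    refine Finset.prod_congr rfl fun L _ => ?_
    rw [Fintype.prod_prod_type]
    refine (Finset.prod_congr rfl (g := fun _ => ((δ L).transfer s : A)) fun i _ => ?_).trans
      (by rw [Finset.prod_const, Finset.card_univ, Fintype.card_fin])
    rw [MonoidHom.transfer_eq_prod_quotient_orbitRel_zpowers_quot, ← Subgroup.coe_subtype, map_prod]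

/-- The transfer of a saturated system: `ψ ^ d` times a homomorphism is invariant; the latter
vanishes on central elements killed by all the local defects. -/
theorem exists_orbitTransfer' [Finite S] {p : ℕ} [Fact p.Prime] (hS : IsPGroup p S)
    (hF : F.IsSaturated p) (hKS : K ≤ S) (ψ : K →* A)
    (hinv : ∀ s ∈ S, ∀ (z : Ω) (hz : z ∈ K) (hz' : s * z * s⁻¹ ∈ K), ψ ⟨_, hz'⟩ = ψ ⟨z, hz⟩)
    (B : Subgroup A) (Z : Subgroup Ω) (hZc : ∀ z ∈ Z, ∀ s ∈ S, s * z = z * s)
    (H : ∀ (P : Subgroup Ω) (f : Ω → Ω), IsMap F P f → (∀ z ∈ P, z ∈ K → f z ∈ K) ∧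
      ∃ δ : P →* B, (∀ (z : Ω) (hz : z ∈ P), z ∈ Z → δ ⟨z, hz⟩ = 1) ∧
        ∀ (z : Ω) (hz : z ∈ P) (h1 : z ∈ K) (h2 : f z ∈ K),
          ψ ⟨_, h2⟩ = ψ ⟨z, h1⟩ * (δ ⟨z, hz⟩ : A)) :
    ∃ (d : ℕ) (D : S →* A), ¬ p ∣ d ∧ (∀ s, D s ∈ B) ∧ (∀ s : S, (s : Ω) ∈ Z → D s = 1) ∧
      ∀ (P : Subgroup Ω) (f : Ω → Ω), IsMap F P f → ∀ (z : Ω), z ∈ P →
        ∀ (h1 : z ∈ K) (h2 : f z ∈ K),
          ψ ⟨z, h1⟩ ^ d * D ⟨z, hKS h1⟩ = ψ ⟨f z, h2⟩ ^ d * D ⟨f z, hKS h2⟩ := by
  haveI := Fintype.ofFinite (Subgroup (S × S))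
  obtain ⟨c, hgr, hdeg, hst⟩ := exists_stable_family hS hF
  have hconj : ∀ s ∈ S, ∀ z ∈ K, s * z * s⁻¹ ∈ K := fun s hs z hz =>
    (H S _ (isMap_conj F le_rfl hs)).1 z (hKS hz) hz
  have hex : ∀ L : Subgroup (S × S), ∃ δ : ↥(L.map (MonoidHom.fst S S)) →* B,
      (∀ u : ↥(L.map (MonoidHom.fst S S)), ((u : S) : Ω) ∈ Z → δ u = 1) ∧ (c L ≠ 0 →
      (∀ w ∈ L, (w.1 : Ω) ∈ K → (w.2 : Ω) ∈ K) ∧
      ∀ (w : S × S) (hw : w ∈ L) (h1 : (w.1 : Ω) ∈ K) (h2 : (w.2 : Ω) ∈ K),
        ψ ⟨_, h2⟩ = ψ ⟨_, h1⟩ * (δ ⟨w.1, w, hw, rfl⟩ : A)) := by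
    intro L
    rcases eq_or_ne (c L) 0 with h0 | h0
    · exact ⟨1, fun _ _ => rfl, fun h => absurd h0 h⟩
    obtain ⟨P, f, hf, hP, he⟩ := hgr L h0
    obtain ⟨hK, δ, hδZ, hδ⟩ := H P f hf
    have hmem : ∀ z : ↥(L.map (MonoidHom.fst S S)), ((z : S) : Ω) ∈ P := fun z => by
      obtain ⟨w, hw, e⟩ := z.2
      rw [← e]
      exact hP (mem_srcOf hw)
    refine ⟨δ.comp (MonoidHom.mk' (fun z => (⟨((z : S) : Ω), hmem z⟩ : P)) fun _ _ => rfl),
      fun u hu => hδZ _ _ hu, fun _ => ⟨fun w hw h1 => he w hw ▸ hK _ (hP (mem_srcOf hw)) h1, fun w hw h1 h2 => ?_⟩⟩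
    rw [show (⟨_, h2⟩ : K) = ⟨f (w.1 : Ω), hK _ (hP (mem_srcOf hw)) h1⟩ from
      Subtype.ext (he w hw).symm]
    exact hδ _ _ h1 _
  choose δ hδ1 hδ using hex
  refine ⟨famDeg c, B.subtype.comp (∏ L, (δ L).transfer ^ c L), hdeg, fun s => SetLike.coe_mem _,
    fun s hs => ?_, fun P f hf z hz h1 h2 => ?_⟩
  · suffices h : ∀ L, (δ L).transfer s = 1 by
      simp [MonoidHom.finsetProd_apply, h]
    intro L
    haveI := Fintype.ofFinite (Quotient (orbitRel (↥(Subgroup.zpowers s))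
      (S ⧸ L.map (MonoidHom.fst S S))))
    rw [MonoidHom.transfer_eq_prod_quotient_orbitRel_zpowers_quot]
    refine Finset.prod_eq_one fun q _ => hδ1 L _ ?_
    show ((q.out.out⁻¹ * s ^ Function.minimalPeriod (fun x => s • x) q.out * q.out.out : S) : Ω) ∈ Z
    generalize Function.minimalPeriod (fun x => s • x) q.out = n
    generalize q.out.out = g
    have h := hZc _ (Z.pow_mem hs n) g g.2
    rw [Subgroup.coe_mul, Subgroup.coe_mul, Subgroup.coe_inv, Subgroup.coe_pow, mul_assoc, ← h,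
      inv_mul_cancel_left]
    exact Z.pow_mem hs n
  have e1 := orbTransfer_value hgr hKS ψ hconj hinv B δ (fun L h => (hδ L h).1)
    (fun L h => (hδ L h).2) h1
  have e2 := orbTransfer_value hgr hKS ψ hconj hinv B δ (fun L h => (hδ L h).1)
    (fun L h => (hδ L h).2) h2
  have e3 := orbTransfer_eq hst ψ hconj hinv hf (x := ⟨z, hKS h1⟩) (y := ⟨f z, hKS h2⟩) hz rfl
  exact e1.symm.trans (e3.trans e2)

/-- The transfer of a saturated system: `ψ ^ d` times a homomorphism is invariant. -/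
theorem exists_orbitTransfer [Finite S] {p : ℕ} [Fact p.Prime] (hS : IsPGroup p S)
    (hF : F.IsSaturated p) (hKS : K ≤ S) (ψ : K →* A)
    (hinv : ∀ s ∈ S, ∀ (z : Ω) (hz : z ∈ K) (hz' : s * z * s⁻¹ ∈ K), ψ ⟨_, hz'⟩ = ψ ⟨z, hz⟩)
    (B : Subgroup A)
    (H : ∀ (P : Subgroup Ω) (f : Ω → Ω), IsMap F P f → (∀ z ∈ P, z ∈ K → f z ∈ K) ∧
      ∃ δ : P →* B, ∀ (z : Ω) (hz : z ∈ P) (h1 : z ∈ K) (h2 : f z ∈ K),
        ψ ⟨_, h2⟩ = ψ ⟨z, h1⟩ * (δ ⟨z, hz⟩ : A)) :
    ∃ (d : ℕ) (D : S →* A), ¬ p ∣ d ∧ (∀ s, D s ∈ B) ∧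
      ∀ (P : Subgroup Ω) (f : Ω → Ω), IsMap F P f → ∀ (z : Ω), z ∈ P →
        ∀ (h1 : z ∈ K) (h2 : f z ∈ K),
          ψ ⟨z, h1⟩ ^ d * D ⟨z, hKS h1⟩ = ψ ⟨f z, h2⟩ ^ d * D ⟨f z, hKS h2⟩ := by
  obtain ⟨d, D, h1, h2, -, h3⟩ := exists_orbitTransfer' hS hF hKS ψ hinv B ⊥
    (fun z hz s _ => by rw [Subgroup.mem_bot] at hz; subst hz; simp) fun P f hf => by
      obtain ⟨hK, δ, hδ⟩ := H P f hf
      refine ⟨hK, δ, fun z hz hz1 => ?_, hδ⟩
      rw [Subgroup.mem_bot] at hz1
      subst hz1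
      exact map_one δ
  exact ⟨d, D, h1, h2, h3⟩

end System

end Cfsg.Agent.Fus
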