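import Mathlib
import Cfsg.Agent.Lib.Fus.OrbitTransfer
import Cfsg.Agent.Lib.Fus.YoshidaWreath
import Cfsg.Agent.Lib.Fus.Hyperfocal

/-!
Tate's theorem for the focal subgroup, and Yoshida's theorem for saturated fusion systems: if
`C_p ≀ C_p` is not a quotient of `S` then the focal subgroup comes from the automorphisms of `S`.
-/

set_option autoImplicit false
set_option linter.unusedSectionVars false

namespace Cfsg.Agent.Fus

open Cfsg Cfsg.FusionSystem MulAction
open scoped commutatorElement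

universe u

variable {p : ℕ} [hp : Fact p.Prime]

/-- An element that is not a `p`-th power of a finite abelian `p`-group is seen by a character. -/
theorem exists_char_of_not_pow {A : Type u} [CommGroup A] [Finite A] {a : A}
    (ha : ∀ b : A, b ^ p ≠ a) : ∃ χ : A →* Multiplicative (ZMod p), χ a ≠ 1 := by
  obtain ⟨H, ⟨hH1, hH2⟩, hmax⟩ := (Set.toFinite
    {H : Subgroup A | (powMonoidHom p).range ≤ H ∧ a ∉ H}).exists_maximal
    ⟨(powMonoidHom p).range, le_rfl, fun ⟨b, hb⟩ => ha b hb⟩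
  have hpow : ∀ b : A, b ^ p ∈ H := fun b => hH1 ⟨b, rfl⟩
  have hgen : ∀ b : A ⧸ H, b ∈ Subgroup.zpowers (QuotientGroup.mk' H a) := by
    intro b
    obtain ⟨b, rfl⟩ := QuotientGroup.mk'_surjective H b
    by_cases hb : b ∈ H
    · rw [show QuotientGroup.mk' H b = 1 from (QuotientGroup.eq_one_iff b).2 hb]
      exact one_mem _
    have hmem : a ∈ H ⊔ Subgroup.zpowers b := by
      by_contra h
      have hle := hmax (y := H ⊔ Subgroup.zpowers b) ⟨hH1.trans le_sup_left, h⟩ le_sup_left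
      exact hb (hle (Subgroup.mem_sup_right (Subgroup.mem_zpowers b)))
    obtain ⟨h, hh, z, hz, rfl⟩ := Subgroup.mem_sup.1 hmem
    obtain ⟨k, rfl⟩ := Subgroup.mem_zpowers_iff.1 hz
    have hk : ¬ (p : ℤ) ∣ k := by
      rintro ⟨l, rfl⟩
      exact hH2 (H.mul_mem hh (by rw [zpow_mul, zpow_natCast]; exact H.zpow_mem (hpow b) l))
    obtain ⟨u, v, huv⟩ : IsCoprime k (p : ℤ) :=
      ((Nat.prime_iff_prime_int.1 hp.out).coprime_iff_not_dvd.2 hk).symm
    refine ⟨u, ?_⟩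
    show QuotientGroup.mk' H (h * b ^ k) ^ u = QuotientGroup.mk' H b
    rw [map_mul, show QuotientGroup.mk' H h = 1 from (QuotientGroup.eq_one_iff h).2 hh, one_mul]
    rw [← map_zpow, ← zpow_mul]
    refine (QuotientGroup.mk'_eq_mk' H).2 ⟨(b ^ p) ^ v, H.zpow_mem (hpow b) v, ?_⟩
    rw [← zpow_natCast b p, ← zpow_mul, ← zpow_add,
      show k * u + (p : ℤ) * v = u * k + v * p by ring, huv, zpow_one]
  have hord : orderOf (QuotientGroup.mk' H a) = p := by
    refine orderOf_eq_prime ?_ fun h => hH2 ((QuotientGroup.eq_one_iff a).1 h)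
    rw [← map_pow]
    exact (QuotientGroup.eq_one_iff _).2 (hpow a)
  have hcard : Nat.card (A ⧸ H) = p := by
    rw [← orderOf_eq_card_of_forall_mem_zpowers hgen, hord]
  have hcard' : Nat.card (Multiplicative (ZMod p)) = p := by
    rw [Nat.card_eq_fintype_card, Fintype.card_multiplicative, ZMod.card]
  refine ⟨(mulEquivOfPrimeCardEq hcard hcard').toMonoidHom.comp (QuotientGroup.mk' H), fun h =>
    hH2 ((QuotientGroup.eq_one_iff a).1 ((mulEquivOfPrimeCardEq hcard hcard').injective ?_))⟩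
  rw [map_one]
  exact h

variable {Ω : Type u} [Group Ω] {S : Subgroup Ω} [Finite S] {F : FusionSystem S}

/-- Tate's theorem: a subgroup between `S'` and the focal subgroup, differing from the latter, is
separated from it by a character of order `p`. -/
theorem exists_char_of_focal (hS : IsPGroup p S) (hF : F.IsSaturated p) {M0 : Subgroup Ω}
    (hcomm : ⁅S, S⁆ ≤ M0) (hle : M0 ≤ F.focalSubgroup) (hne : ¬ F.focalSubgroup ≤ M0) :
    ∃ ψ : S →* Multiplicative (ZMod p), (∀ z : S, (z : Ω) ∈ M0 → ψ z = 1) ∧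
      ∃ z : S, (z : Ω) ∈ F.focalSubgroup ∧ ψ z ≠ 1 := by
  haveI hN : (M0.subgroupOf S).Normal := ⟨fun n hn g => Subgroup.mem_subgroupOf.2 (by
    rw [show (((g * n * g⁻¹ : S)) : Ω) = ⁅(g : Ω), (n : Ω)⁆ * n by
      push_cast; rw [commutatorElement_def]; group]
    exact M0.mul_mem (hcomm (Subgroup.commutator_mem_commutator g.2 n.2)) hn)⟩
  have hc : ∀ a b : S ⧸ M0.subgroupOf S, a * b = b * a := by
    intro a b
    obtain ⟨a, rfl⟩ := QuotientGroup.mk'_surjective _ a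
    obtain ⟨b, rfl⟩ := QuotientGroup.mk'_surjective _ b
    rw [← map_mul, ← map_mul]
    refine (QuotientGroup.mk'_eq_mk' _).2 ⟨(a * b)⁻¹ * (b * a), Subgroup.mem_subgroupOf.2 ?_,
      by group⟩
    have h := hcomm (Subgroup.commutator_mem_commutator (S.inv_mem b.2) (S.inv_mem a.2))
    rw [commutatorElement_def, inv_inv, inv_inv] at h
    convert h using 1
    push_cast
    group
  letI : CommGroup (S ⧸ M0.subgroupOf S) :=
    { (inferInstance : Group (S ⧸ M0.subgroupOf S)) with mul_comm := hc }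
  let ψ : S →* S ⧸ M0.subgroupOf S := QuotientGroup.mk' (M0.subgroupOf S)
  have hψ1 : ∀ z : S, ψ z = 1 ↔ (z : Ω) ∈ M0 := fun z => by
    rw [← Subgroup.mem_subgroupOf]; exact QuotientGroup.eq_one_iff z
  let B : Subgroup (S ⧸ M0.subgroupOf S) := (F.focalSubgroup.subgroupOf S).map ψ
  by_contra hno
  push Not at hno
  have hpow : ∀ a ∈ B, ∃ b, b ^ p = a := by
    intro a ha
    by_contra h
    push Not at h
    obtain ⟨χ, hχ⟩ := exists_char_of_not_pow h
    obtain ⟨z, hz, rfl⟩ := ha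
    refine hχ ?_
    exact hno (χ.comp ψ) (fun w hw => by rw [MonoidHom.comp_apply, (hψ1 w).2 hw, map_one]) z hz
  obtain ⟨d, D, hd, hDB, hinv⟩ := exists_orbitTransfer hS hF le_rfl ψ
    (fun s hs z hz hz' => by
      rw [show (⟨_, hz'⟩ : S) = ⟨s, hs⟩ * ⟨z, hz⟩ * ⟨s, hs⟩⁻¹ from rfl, map_mul, map_mul, map_inv,
        mul_right_comm, mul_inv_cancel, one_mul]) B
    (fun P f hf => ⟨fun z hz _ => hf.apply_mem hz,
      MonoidHom.mk' (fun z => ⟨ψ ⟨(z : Ω)⁻¹ * f z,
        S.mul_mem (S.inv_mem (hf.source_le z.2)) (hf.apply_mem z.2)⟩,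
          ⟨_, Subgroup.mem_subgroupOf.2 (hf.focal_mem z.2), rfl⟩⟩)
        (fun a b => Subtype.ext (by
          show ψ ⟨((a * b : P) : Ω)⁻¹ * f ((a * b : P) : Ω), _⟩ = ψ _ * ψ _
          rw [show (⟨((a * b : P) : Ω)⁻¹ * f ((a * b : P) : Ω),
              S.mul_mem (S.inv_mem (hf.source_le (a * b).2)) (hf.apply_mem (a * b).2)⟩ : S) =
            ⟨(b : Ω), hf.source_le b.2⟩⁻¹ *
              ⟨(a : Ω)⁻¹ * f a, S.mul_mem (S.inv_mem (hf.source_le a.2)) (hf.apply_mem a.2)⟩ *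
              ⟨(b : Ω), hf.source_le b.2⟩ *
              ⟨(b : Ω)⁻¹ * f b, S.mul_mem (S.inv_mem (hf.source_le b.2)) (hf.apply_mem b.2)⟩ from
            Subtype.ext (by push_cast; rw [hf.map_mul a.2 b.2]; group), map_mul, map_mul, map_mul,
            map_inv]
          congr 1
          rw [mul_right_comm, inv_mul_cancel, one_mul])),
      fun z hz h1 h2 => by
        show ψ ⟨f z, h2⟩ = ψ ⟨z, h1⟩ * ψ ⟨z⁻¹ * f z, _⟩
        rw [← map_mul]
        exact congrArg ψ (Subtype.ext (mul_inv_cancel_left z (f z)).symm)⟩)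
  let T : S →* S ⧸ M0.subgroupOf S := MonoidHom.mk' (fun z => ψ z ^ d * D z) fun a b => by
    rw [map_mul, map_mul, mul_pow, mul_mul_mul_comm]
  have hT : ∀ z : S, (z : Ω) ∈ F.focalSubgroup → T z = 1 := by
    have hsub : F.focalSubgroup ≤ T.ker.map S.subtype :=
      focalSubgroup_le_iff.2 fun P f hf z hz => by
        refine ⟨⟨z⁻¹ * f z, S.mul_mem (S.inv_mem (hf.source_le hz)) (hf.apply_mem hz)⟩,
          MonoidHom.mem_ker.2 ?_, rfl⟩
        rw [show (⟨z⁻¹ * f z, S.mul_mem (S.inv_mem (hf.source_le hz)) (hf.apply_mem hz)⟩ : S) =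
          ⟨z, hf.source_le hz⟩⁻¹ * ⟨f z, hf.apply_mem hz⟩ from rfl, map_mul, map_inv,
          inv_mul_eq_one]
        exact hinv P f hf z hz (hf.source_le hz) (hf.apply_mem hz)
    intro z hz
    obtain ⟨w, hw, hwe⟩ := hsub hz
    exact (Subtype.ext hwe : w = z) ▸ MonoidHom.mem_ker.1 hw
  have hroot : ∀ a ∈ B, ∃ e ∈ B, e ^ p = a := by
    intro a ha
    obtain ⟨b, hb⟩ := hpow a ha
    obtain ⟨z, hz, rfl⟩ := ha
    obtain ⟨y, rfl⟩ := QuotientGroup.mk'_surjective _ b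
    have hn : ψ ((y ^ p)⁻¹ * z) = 1 := by
      rw [map_mul, map_inv, map_pow, inv_mul_eq_one]
      exact hb
    have h1 : ψ ((y ^ p)⁻¹ * z) ^ d * D ((y ^ p)⁻¹ * z) = 1 := hT _ (hle ((hψ1 _).1 hn))
    rw [hn, one_pow, one_mul, map_mul, map_inv, map_pow, inv_mul_eq_one] at h1
    have h2 : ψ z ^ d = ((D y)⁻¹) ^ p := by
      have h3 : ψ z ^ d * D z = 1 := hT z hz
      rw [← h1, mul_eq_one_iff_eq_inv] at h3
      rw [h3, inv_pow]
    obtain ⟨k, hk⟩ := (hS.to_quotient (M0.subgroupOf S)) (ψ z)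
    obtain ⟨u, hu⟩ := Nat.exists_mul_mod_eq_one_of_coprime
      ((Nat.Coprime.pow_left (k + 1) (hp.out.coprime_iff_not_dvd.2 hd)).symm :
        Nat.Coprime d (p ^ (k + 1))) (one_lt_pow₀ hp.out.one_lt (by omega))
    refine ⟨((D y)⁻¹) ^ u, B.pow_mem (B.inv_mem (hDB y)) u, ?_⟩
    rw [pow_right_comm, ← h2, ← pow_mul, ← Nat.mod_add_div (d * u) (p ^ (k + 1)), hu.2, pow_add,
      pow_one, pow_mul, pow_succ p k, pow_mul, hk, one_pow, one_pow, mul_one]
  have hB : B = ⊥ := by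
    by_contra hB
    let π : B → B := fun e => e ^ p
    have hsurj : Function.Surjective π := fun ⟨a, ha⟩ => by
      obtain ⟨e, he, hee⟩ := hroot a ha
      exact ⟨⟨e, he⟩, Subtype.ext hee⟩
    have hinj := Finite.injective_iff_surjective.2 hsurj
    have hBp : IsPGroup p B := (hS.to_quotient _).to_subgroup B
    obtain ⟨j, hj⟩ := hBp.exists_card_eq
    have hj0 : j ≠ 0 := fun h => hB (Subgroup.eq_bot_of_card_eq B (by rw [hj, h, pow_zero]))
    obtain ⟨e, he⟩ := exists_prime_orderOf_dvd_card' (G := B) p (hj ▸ dvd_pow_self p hj0)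
    have h1 : e = 1 := hinj (show e ^ p = (1 : B) ^ p by rw [one_pow, ← he, pow_orderOf_eq_one])
    rw [h1, orderOf_one] at he
    exact hp.out.one_lt.ne he
  refine hne fun z hz => ?_
  have h1 : ψ ⟨z, focalSubgroup_le F hz⟩ ∈ B :=
    ⟨_, Subgroup.mem_subgroupOf.2 hz, rfl⟩
  rw [hB, Subgroup.mem_bot] at h1
  exact (hψ1 _).1 h1

/-- Yoshida's theorem for saturated fusion systems. -/
theorem yoshida (hS : IsPGroup p S) (hF : F.IsSaturated p) {M0 : Subgroup Ω}
    (hcomm : ⁅S, S⁆ ≤ M0) (hle : M0 ≤ F.focalSubgroup) (hne : ¬ F.focalSubgroup ≤ M0)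
    (haut : ∀ f, IsMap F S f → ∀ z ∈ S, z⁻¹ * f z ∈ M0) :
    ∃ (W : Sylow p (Equiv.Perm (Fin (p ^ 2))))
      (f : S →* (W : Subgroup (Equiv.Perm (Fin (p ^ 2))))), Function.Surjective f := by
  classical
  by_contra hnw
  obtain ⟨ψ, hψ0, hψne⟩ := exists_char_of_focal hS hF hcomm hle hne
  obtain ⟨x, ⟨hx, hxne⟩, hmin⟩ := (Set.toFinite
    {z : S | (z : Ω) ∈ F.focalSubgroup ∧ ψ z ≠ 1}).exists_minimalFor orderOf _ hψne
  have hsmall : ∀ z : S, (z : Ω) ∈ F.focalSubgroup → orderOf z < orderOf x → ψ z = 1 := by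
    intro z hz hlt
    by_contra h
    exact absurd (hmin (j := z) ⟨hz, h⟩ hlt.le) (not_le.2 hlt)
  haveI := Fintype.ofFinite (Subgroup (S × S))
  obtain ⟨c, hgr, hdeg, hst⟩ := exists_stable_family hS hF
  have hconj : ∀ s ∈ S, ∀ z ∈ S, s * z * s⁻¹ ∈ S := fun s hs z hz =>
    S.mul_mem (S.mul_mem hs hz) (S.inv_mem hs)
  have hinvψ : ∀ s ∈ S, ∀ (z : Ω) (hz : z ∈ S) (hz' : s * z * s⁻¹ ∈ S),
      ψ ⟨_, hz'⟩ = ψ ⟨z, hz⟩ := fun s hs z hz hz' => by
    rw [show (⟨_, hz'⟩ : S) = ⟨s, hs⟩ * ⟨z, hz⟩ * ⟨s, hs⟩⁻¹ from rfl, map_mul, map_mul, map_inv,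
      mul_right_comm, mul_inv_cancel, one_mul]
  have hex : ∀ L : Subgroup (S × S), ∃ δ : ↥(L.map (MonoidHom.fst S S)) →* Multiplicative (ZMod p),
      δ.transfer x = 1 ∧ (c L ≠ 0 → ∀ (w : S × S) (hw : w ∈ L),
        ψ w.2 = ψ w.1 * δ ⟨w.1, w, hw, rfl⟩) := by
    intro L
    rcases eq_or_ne (c L) 0 with h0 | h0
    · refine ⟨1, ?_, fun h => absurd h0 h⟩
      haveI := Fintype.ofFinite (Quotient (orbitRel (↥(Subgroup.zpowers x))
        (S ⧸ L.map (MonoidHom.fst S S))))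
      rw [MonoidHom.transfer_eq_prod_quotient_orbitRel_zpowers_quot]
      exact Finset.prod_eq_one fun _ _ => rfl
    obtain ⟨P, f, hf, hP, he⟩ := hgr L h0
    have hmem : ∀ z : ↥(L.map (MonoidHom.fst S S)), ((z : S) : Ω) ∈ P := fun z => by
      obtain ⟨w, hw, e⟩ := z.2
      rw [← e]
      exact hP (mem_srcOf hw)
    let δ : ↥(L.map (MonoidHom.fst S S)) →* Multiplicative (ZMod p) := MonoidHom.mk'
      (fun z => (ψ (z : S))⁻¹ * ψ ⟨f ((z : S) : Ω), hf.apply_mem (hmem z)⟩) fun a b => by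
        rw [show (⟨f (((a * b : ↥(L.map (MonoidHom.fst S S))) : S) : Ω),
            hf.apply_mem (hmem (a * b))⟩ : S) =
          ⟨_, hf.apply_mem (hmem a)⟩ * ⟨_, hf.apply_mem (hmem b)⟩ from
            Subtype.ext (hf.map_mul (hmem a) (hmem b)), map_mul, Subgroup.coe_mul, map_mul,
          mul_inv, mul_mul_mul_comm]
    have hδ : ∀ z, δ z = ψ ⟨(((z : S) : Ω))⁻¹ * f ((z : S) : Ω),
        S.mul_mem (S.inv_mem (z : S).2) (hf.apply_mem (hmem z))⟩ := fun z => by
      show (ψ (z : S))⁻¹ * ψ _ = _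
      rw [← map_inv, ← map_mul]
      rfl
    refine ⟨δ, ?_, fun _ w hw => ?_⟩
    · by_cases htop : L.map (MonoidHom.fst S S) = ⊤
      · have hSP : S ≤ P := fun s hs =>
          hmem ⟨⟨s, hs⟩, htop.ge (Subgroup.mem_top _)⟩
        have hf' := hf.res hSP
        haveI := Fintype.ofFinite (Quotient (orbitRel (↥(Subgroup.zpowers x))
          (S ⧸ L.map (MonoidHom.fst S S))))
        rw [MonoidHom.transfer_eq_prod_quotient_orbitRel_zpowers_quot]
        refine Finset.prod_eq_one fun q _ => ?_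
        rw [hδ]
        exact hψ0 _ (haut f hf' _ (SetLike.coe_mem _))
      · refine transfer_eq_one_of_no_wreath hS hnw _ htop δ x fun g n h hlt => ?_
        have hw : ((g⁻¹ * x ^ n * g : S) : Ω) ∈ F.focalSubgroup := by
          push_cast
          rw [show ((g : Ω))⁻¹ * (x : Ω) ^ n * g =
            (x : Ω) ^ n * ⁅((x : Ω) ^ n)⁻¹, (g : Ω)⁻¹⁆ by rw [commutatorElement_def]; group]
          exact F.focalSubgroup.mul_mem (F.focalSubgroup.pow_mem hx n) (commutator_le_focal F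
            (Subgroup.commutator_mem_commutator (S.inv_mem (S.pow_mem x.2 n)) (S.inv_mem g.2)))
        have ho : orderOf (g⁻¹ * x ^ n * g) < orderOf x := by
          rwa [show g⁻¹ * x ^ n * g = MulAut.conj g⁻¹ (x ^ n) by
            rw [MulAut.conj_apply]; group, MulEquiv.orderOf_eq]
        have hmem' := hmem ⟨_, h⟩
        have hfw : (⟨f ((g⁻¹ * x ^ n * g : S) : Ω), hf.apply_mem hmem'⟩ : S) ∈
            F.focalSubgroup.subgroupOf S := by
          refine Subgroup.mem_subgroupOf.2 ?_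
          show f ((g⁻¹ * x ^ n * g : S) : Ω) ∈ F.focalSubgroup
          rw [← mul_inv_cancel_left ((g⁻¹ * x ^ n * g : S) : Ω) (f _)]
          exact F.focalSubgroup.mul_mem hw (hf.focal_mem hmem')
        show (ψ _)⁻¹ * ψ _ = 1
        rw [hsmall _ hw ho, inv_one, one_mul]
        refine hsmall _ (Subgroup.mem_subgroupOf.1 hfw) (lt_of_le_of_lt ?_ ho)
        refine Nat.le_of_dvd (orderOf_pos _) (orderOf_dvd_of_pow_eq_one (Subtype.ext ?_))
        obtain ⟨φ, hφ, hφe⟩ := hf.exists_hom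
        rw [SubgroupClass.coe_pow]
        show f ((g⁻¹ * x ^ n * g : S) : Ω) ^ _ = 1
        rw [← show φ ⟨_, hmem'⟩ = f _ from hφe ⟨_, hmem'⟩, ← map_pow,
          show (⟨_, hmem'⟩ : P) ^ orderOf (g⁻¹ * x ^ n * g) = 1 from Subtype.ext (by
            rw [SubgroupClass.coe_pow]
            show ((g⁻¹ * x ^ n * g : S) : Ω) ^ orderOf (g⁻¹ * x ^ n * g) = 1
            rw [← SubgroupClass.coe_pow, pow_orderOf_eq_one]
            rfl), map_one]
    · show ψ w.2 = ψ w.1 * ((ψ w.1)⁻¹ * ψ ⟨f (w.1 : Ω), _⟩)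
      rw [mul_inv_cancel_left]
      exact congrArg ψ (Subtype.ext (he w hw).symm)
  choose δ hδx hδ using hex
  let δ' : ∀ L : Subgroup (S × S), ↥(L.map (MonoidHom.fst S S)) →*
      (⊤ : Subgroup (Multiplicative (ZMod p))) := fun L => (δ L).codRestrict ⊤ fun _ => trivial
  have e : ∀ z : S, orbTransfer c ψ z =
      ψ z ^ famDeg c * ((∏ L, (δ' L).transfer ^ c L : S →* _) z : Multiplicative (ZMod p)) :=
    fun z => orbTransfer_value hgr le_rfl ψ hconj hinvψ ⊤ δ' (fun _ _ w _ _ => w.2.2)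
      (fun L hL w hw _ _ => hδ L hL w hw) z.2
  let T : S →* Multiplicative (ZMod p) := MonoidHom.mk' (fun z => orbTransfer c ψ z) fun a b => by
    rw [e, e, e, map_mul, map_mul, mul_pow, Subgroup.coe_mul, mul_mul_mul_comm]
  have hsub : F.focalSubgroup ≤ T.ker.map S.subtype :=
    focalSubgroup_le_iff.2 fun P f hf z hz => by
      refine ⟨⟨z⁻¹ * f z, S.mul_mem (S.inv_mem (hf.source_le hz)) (hf.apply_mem hz)⟩,
        MonoidHom.mem_ker.2 ?_, rfl⟩
      rw [show (⟨z⁻¹ * f z, S.mul_mem (S.inv_mem (hf.source_le hz)) (hf.apply_mem hz)⟩ : S) =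
        ⟨z, hf.source_le hz⟩⁻¹ * ⟨f z, hf.apply_mem hz⟩ from rfl, map_mul, map_inv, inv_mul_eq_one]
      exact orbTransfer_eq hst ψ hconj hinvψ hf (x := ⟨z, hf.source_le hz⟩)
        (y := ⟨f z, hf.apply_mem hz⟩) hz rfl
  obtain ⟨w, hw, hwe⟩ := hsub hx
  have hTx : orbTransfer c ψ x = 1 := by
    rw [← (Subtype.ext hwe : w = x)]; exact MonoidHom.mem_ker.1 hw
  rw [e] at hTx
  have hD : ((∏ L, (δ' L).transfer ^ c L : S →* _) x : Multiplicative (ZMod p)) = 1 := by
    have h1 : ∀ L, ((δ' L).transfer x : Multiplicative (ZMod p)) = (δ L).transfer x := by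
      intro L
      haveI := Fintype.ofFinite (Quotient (orbitRel (↥(Subgroup.zpowers x))
        (S ⧸ L.map (MonoidHom.fst S S))))
      rw [MonoidHom.transfer_eq_prod_quotient_orbitRel_zpowers_quot,
        MonoidHom.transfer_eq_prod_quotient_orbitRel_zpowers_quot, ← Subgroup.coe_subtype, map_prod]
      rfl
    simp only [MonoidHom.finsetProd_apply, MonoidHom.pow_apply]
    rw [← Subgroup.coe_subtype, map_prod]
    refine Finset.prod_eq_one fun L _ => ?_
    rw [map_pow, Subgroup.coe_subtype, h1, hδx, one_pow]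
  rw [hD, mul_one] at hTx
  have hcardp : Nat.card (Multiplicative (ZMod p)) = p := by
    rw [Nat.card_eq_fintype_card, Fintype.card_multiplicative, ZMod.card]
  have h2 : ψ x ^ p = 1 := by
    have h := pow_card_eq_one' (x := ψ x)
    rwa [hcardp] at h
  have h3 := pow_gcd_eq_one.2 ⟨h2, hTx⟩
  rw [(hp.out.coprime_iff_not_dvd.2 hdeg).gcd_eq_one, pow_one] at h3
  exact hxne h3

end Cfsg.Agent.Fus
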