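import Mathlib
import Cfsg.Agent.Lib.Invol.IsolatedElement
import Cfsg.Agent.S2807
import Cfsg.Agent.S0080

/-!
Transfer of power maps against an isolated element: in a perfect group no power map of a Sylow
subgroup is a nontrivial homomorphism into the group of an isolated element.
-/

set_option autoImplicit false

namespace Cfsg.Agent.Fus.IsoSylow

open Subgroup
open scoped commutatorElement

variable {K : Type*} [Group K] [Finite K] {p : ℕ} [hp : Fact p.Prime]

/-- A power map of a Sylow subgroup onto `⟨x⟩`, `x` isolated, cannot be multiplicative in a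
perfect group. -/
theorem power_absurd (hper : commutator K = ⊤) (S : Sylow p K) {x : K} (hxS : x ∈ (S : Subgroup K))
    (hx : orderOf x = p) (hiso : Cfsg.IsIsolated x) (m : ℕ)
    (hmul : ∀ a ∈ (S : Subgroup K), ∀ b ∈ (S : Subgroup K), (a * b) ^ p ^ m = a ^ p ^ m * b ^ p ^ m)
    (himg : ∀ a ∈ (S : Subgroup K), a ^ p ^ m ∈ zpowers x)
    (hne : ∃ a ∈ (S : Subgroup K), a ^ p ^ m ≠ 1) : False := by
  classical
  obtain ⟨z, hz, hz1⟩ := hne
  letI : CommGroup (zpowers x) := IsMulCommutative.instCommGroup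
  haveI : FiniteIndex (S : Subgroup K) := inferInstance
  haveI : Fintype (MulAction.orbitRel.Quotient (zpowers z) (K ⧸ (S : Subgroup K))) := Fintype.ofFinite _
  let θ : (S : Subgroup K) →* zpowers x := MonoidHom.mk' (fun w => ⟨(w : K) ^ p ^ m, himg _ w.2⟩)
    fun a b => Subtype.ext (hmul _ a.2 _ b.2)
  have htriv : θ.transfer z = 1 := by
    have h : z ∈ θ.transfer.ker :=
      (Abelianization.commutator_subset_ker θ.transfer) (hper ▸ mem_top z)
    exact h
  obtain ⟨c, hc⟩ := mem_zpowers_iff.1 (himg z hz)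
  have hpc : ¬ (p : ℤ) ∣ c := by
    intro h
    rw [← hx] at h
    exact hz1 (hc ▸ orderOf_dvd_iff_zpow_eq_one.1 h)
  have hfac : ∀ q : Quotient (MulAction.orbitRel (zpowers z) (K ⧸ (S : Subgroup K))),
      ∀ h : q.out.out⁻¹ * z ^ Function.minimalPeriod (z • ·) q.out * q.out.out ∈ (S : Subgroup K),
      θ ⟨_, h⟩ = ((⟨x, mem_zpowers x⟩ : zpowers x) ^ c) ^ Function.minimalPeriod (z • ·) q.out := by
    intro q h
    set r := Function.minimalPeriod (z • ·) q.out
    set g : K := q.out.out⁻¹ with hg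
    have hval : (g * z ^ r * g⁻¹) ^ p ^ m = g * x ^ (c * r) * g⁻¹ := by
      rw [conj_pow, ← pow_mul, mul_comm r, pow_mul, ← hc, ← zpow_natCast, ← zpow_mul]
    refine Subtype.ext ?_
    show (q.out.out⁻¹ * z ^ r * q.out.out) ^ p ^ m = _
    have e : q.out.out = g⁻¹ := by rw [hg, inv_inv]
    rw [e, inv_inv, hval, SubmonoidClass.coe_pow, coe_zpow]
    show _ = (x ^ c) ^ r
    rw [← zpow_natCast, ← zpow_mul]
    by_cases hdiv : (p : ℤ) ∣ c * r
    · rw [← hx] at hdiv
      rw [orderOf_dvd_iff_zpow_eq_one.1 hdiv, mul_one, mul_inv_cancel]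
    · have hcop : IsCoprime (c * r) (p : ℤ) :=
        ((Nat.prime_iff_prime_int.1 hp.out).coprime_iff_not_dvd.2 hdiv).symm
      obtain ⟨u, v, huv⟩ := hcop
      have hxp : x ^ (p : ℤ) = 1 := by rw [← hx, zpow_natCast, pow_orderOf_eq_one]
      have hmem : g * x * g⁻¹ ∈ (S : Subgroup K) := by
        have hS : g * x ^ (c * r) * g⁻¹ ∈ (S : Subgroup K) := by
          have h2 : g * z ^ r * g⁻¹ ∈ (S : Subgroup K) := by
            have h3 := h
            rwa [e] at h3
          rw [← hval]; exact pow_mem h2 _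
        have e2 : x = (x ^ (c * r)) ^ u := by
          rw [← zpow_mul]
          calc x = x ^ (u * (c * r) + v * (p : ℤ)) := by rw [huv, zpow_one]
            _ = x ^ (c * r * u) := by rw [zpow_add, zpow_mul x v, zpow_comm, hxp, one_zpow, mul_one, mul_comm u]
        rw [e2, ← conj_zpow]
        exact zpow_mem hS u
      have hfix := Invol.isolated_eq hiso S.isPGroup' hxS hmem
      rw [← conj_zpow, hfix]
  have heq : θ.transfer z = ((⟨x, mem_zpowers x⟩ : zpowers x) ^ c) ^ (S : Subgroup K).index := by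
    rw [MonoidHom.transfer_eq_prod_quotient_orbitRel_zpowers_quot,
      Finset.prod_congr rfl fun q _ => hfac q _, Finset.prod_pow_eq_pow_sum,
      index_eq_sum_minimalPeriod (S : Subgroup K) z]
  rw [htriv] at heq
  have h1 : x ^ (c * ((S : Subgroup K).index : ℕ)) = 1 := by
    rw [zpow_mul, zpow_natCast]
    simpa using (congrArg Subtype.val heq).symm
  have h2 := orderOf_dvd_iff_zpow_eq_one.2 h1
  rw [hx] at h2
  rcases (Nat.prime_iff_prime_int.1 hp.out).dvd_mul.1 h2 with h3 | h3
  · exact hpc h3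
  · exact S.not_dvd_index (Int.natCast_dvd_natCast.1 h3)

/-- Without wreath quotient, the Sylow subgroup of a perfect group is generated by commutators with
its normalizer. -/
theorem le_commutator_normalizer (hper : commutator K = ⊤) (S : Sylow p K)
    (hnw : ¬ ∃ (W : Sylow p (Equiv.Perm (Fin (p ^ 2))))
      (f : (S : Subgroup K) →* (W : Subgroup (Equiv.Perm (Fin (p ^ 2))))), Function.Surjective f) :
    (S : Subgroup K) ≤ ⁅(S : Subgroup K), normalizer ((S : Subgroup K) : Set K)⁆ := by
  set N := normalizer ((S : Subgroup K) : Set K)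
  have hSN : (S : Subgroup K) ≤ N := le_normalizer
  have h1 : (S : Subgroup K) ≤ ⁅N, N⁆ := by
    by_contra h
    refine hnw (Cfsg.Agent.S2807.result S fun e => h ?_)
    rw [hper, inf_top_eq] at e
    exact e.le.trans inf_le_right
  set H : Subgroup N := (S : Subgroup K).subgroupOf N with hH
  have hpH : IsPGroup p H :=
    S.isPGroup'.of_injective (subgroupOfEquivOfLe hSN).toMonoidHom (subgroupOfEquivOfLe hSN).injective
  have hidx : ¬ p ∣ H.index := by
    intro h
    exact S.not_dvd_index (h.trans (relIndex_dvd_index_of_le hSN))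
  have hcop : Nat.Coprime H.index (⁅H, H⁆.relIndex H) := by
    obtain ⟨k, hk⟩ : ∃ k, ⁅H, H⁆.relIndex H = p ^ k := hpH.index _
    rw [hk]
    exact Nat.Coprime.pow_right k ((hp.out.coprime_iff_not_dvd).mpr hidx).symm
  intro y hy
  have hyN : (⟨y, hSN hy⟩ : N) ∈ commutator N := by
    have hmap := Subgroup.map_subtype_commutator N
    obtain ⟨w, hw, hwy⟩ := hmap.ge (h1 hy)
    have : w = ⟨y, hSN hy⟩ := Subtype.ext hwy
    rwa [this] at hw
  have hf : (⟨y, hSN hy⟩ : N) ∈ H.focalSubgroup :=
    (Cfsg.Agent.S0080.result H hcop).1.ge ⟨hyN, hy⟩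
  have hle : H.focalSubgroup ≤ (⁅(S : Subgroup K), N⁆).subgroupOf N := by
    rw [focalSubgroup_def, closure_le]
    rintro g ⟨-, u, hu, w, rfl⟩
    exact commutator_mem_commutator (mem_subgroupOf.1 hu) w.2
  exact mem_subgroupOf.1 (hle hf)

/-- The Sylow subgroup of `S_{p^2}` contains an elementary abelian subgroup of order `p ^ p`. -/
theorem exists_base (W : Sylow p (Equiv.Perm (Fin (p ^ 2)))) :
    ∃ A : Subgroup (W : Subgroup (Equiv.Perm (Fin (p ^ 2)))),
      IsMulCommutative A ∧ (∀ a ∈ A, a ^ p = 1) ∧ Nat.card A = p ^ p := by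
  classical
  haveI : NeZero p := ⟨hp.out.ne_zero⟩
  let e : Fin p × ZMod p ≃ Fin (p ^ 2) := Finite.equivFinOfCardEq (by simp [Nat.card_prod, sq])
  let φ : (Fin p → Multiplicative (ZMod p)) →* Equiv.Perm (Fin p × ZMod p) :=
    MonoidHom.mk' (fun f =>
      { toFun := fun v => (v.1, v.2 + (f v.1).toAdd)
        invFun := fun v => (v.1, v.2 - (f v.1).toAdd)
        left_inv := fun v => by simp
        right_inv := fun v => by simp })
      fun f g => by
        ext v <;> simp [add_assoc, add_comm (Multiplicative.toAdd (f v.1))]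
  have hφ : Function.Injective φ := fun f g h => funext fun i => by
    have h1 := congrArg (fun σ : Equiv.Perm (Fin p × ZMod p) => (σ (i, 0)).2) h
    exact Multiplicative.toAdd.injective (by simpa [φ] using h1)
  let ψ : (Fin p → Multiplicative (ZMod p)) →* Equiv.Perm (Fin (p ^ 2)) :=
    e.permCongrHom.toMonoidHom.comp φ
  have hψ : Function.Injective ψ := e.permCongrHom.injective.comp hφ
  have hpow : ∀ f : Fin p → Multiplicative (ZMod p), f ^ p = 1 := fun f => funext fun i => by
    refine Multiplicative.toAdd.injective ?_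
    simp
  have hcard : Nat.card ψ.range = p ^ p := by
    rw [← Nat.card_congr (MonoidHom.ofInjective hψ).toEquiv, Nat.card_pi]
    simp
  obtain ⟨W', hW'⟩ := (IsPGroup.of_card hcard).exists_le_sylow
  let i : (W' : Subgroup (Equiv.Perm (Fin (p ^ 2)))) ≃* (W : Subgroup (Equiv.Perm (Fin (p ^ 2)))) :=
    Sylow.equiv W' W
  let j : (Fin p → Multiplicative (ZMod p)) →* (W : Subgroup (Equiv.Perm (Fin (p ^ 2)))) :=
    i.toMonoidHom.comp (ψ.codRestrict _ fun f => hW' ⟨f, rfl⟩)
  have hj : Function.Injective j := fun a b h => hψ (congrArg Subtype.val (i.injective h))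
  refine ⟨j.range, ⟨⟨?_⟩⟩, ?_, ?_⟩
  · rintro ⟨_, a, rfl⟩ ⟨_, b, rfl⟩
    exact Subtype.ext (by simp [← map_mul, mul_comm])
  · rintro _ ⟨a, rfl⟩
    rw [← map_pow, hpow, map_one]
  · rw [← Nat.card_congr (MonoidHom.ofInjective hj).toEquiv, Nat.card_pi]
    simp

end Cfsg.Agent.Fus.IsoSylow
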