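import Mathlib
import Cfsg.Agent.Lib.Transfer.MaxClass
import Cfsg.Agent.Lib.Transfer.PolySeq
import Cfsg.Agent.Lib.Grp.Frattini
import Cfsg.Agent.S4206

/-!
`p`-groups of maximal class with an element `x` of order `p` whose centraliser has order `p²`:
the `p`-th power map moves the lower central series by `p - 1` steps, and every subgroup is
generated by at most `p` elements.
-/

set_option autoImplicit false
set_option linter.unusedSectionVars false
set_option linter.style.haveILetI false

namespace Cfsg.Agent.Fus.MC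

open scoped commutatorElement
open Cfsg.Agent.Transfer.PolySeq (diff diff_iterate_zero)

section poly

variable {G : Type*} [Group G]

/-- A filtration of length `L`. -/
structure Filt (G : Type*) [Group G] (L : ℕ) where
  N : ℕ → Subgroup G
  anti : ∀ {a b : ℕ}, a ≤ b → N b ≤ N a
  comm : ∀ {a b : ℕ} {x y : G}, x ∈ N a → y ∈ N b → ⁅x, y⁆ ∈ N (a + b)
  bot : N L = ⊥

variable {L : ℕ} (W : Filt G L)

/-- Polynomial sequences for a filtration. -/
def Poly (d : ℕ) (g : ℕ → G) : Prop := ∀ k n, (diff^[k]) g n ∈ W.N (d + k)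

theorem poly_iff {d : ℕ} {g : ℕ → G} :
    Poly W d g ↔ (∀ n, g n ∈ W.N d) ∧ Poly W (d + 1) (diff g) := by
  constructor
  · intro h
    refine ⟨fun n => h 0 n, fun k n => ?_⟩
    rw [add_right_comm]
    have := h (k + 1) n
    rwa [Function.iterate_succ_apply] at this
  · rintro ⟨h0, h1⟩ k n
    cases k with
    | zero => exact h0 n
    | succ k =>
      rw [Function.iterate_succ_apply, ← add_assoc, add_right_comm]
      exact h1 k n

theorem poly_eq_one {d : ℕ} {g : ℕ → G} (h : Poly W d g) (hd : L ≤ d) : g = 1 := by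
  funext n
  have := W.anti hd (h 0 n)
  rwa [W.bot, Subgroup.mem_bot] at this

theorem poly_one (d : ℕ) : Poly W d (1 : ℕ → G) := fun k n => by
  have h : ∀ k, (diff^[k]) (1 : ℕ → G) = 1 := fun k => by
    induction k with
    | zero => rfl
    | succ k ih => rw [Function.iterate_succ_apply', ih]; funext n; simp [diff]
  rw [h]
  exact one_mem _

theorem poly_mono {d e : ℕ} {g : ℕ → G} (h : Poly W e g) (hde : d ≤ e) : Poly W d g :=
  fun k n => W.anti (by omega) (h k n)

theorem poly_shift {d : ℕ} {g : ℕ → G} (h : Poly W d g) : Poly W d (fun n => g (n + 1)) := by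
  intro k n
  have h1 : ∀ k (g : ℕ → G) n, (diff^[k]) (fun n => g (n + 1)) n = (diff^[k]) g (n + 1) := by
    intro k
    induction k with
    | zero => intros; rfl
    | succ k ih => intro g n; rw [Function.iterate_succ_apply, Function.iterate_succ_apply, ← ih (diff g)]; rfl
  rw [h1]
  exact h k (n + 1)

theorem poly_closed [Finite G] :
    ∀ r d : ℕ, L ≤ d + r →
      (∀ f g : ℕ → G, Poly W d f → Poly W d g → Poly W d (f * g)) ∧
      (∀ i j (f g : ℕ → G), i + j = d → Poly W i f → Poly W j g →
        Poly W d (fun n => ⁅f n, g n⁆)) := by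
  intro r
  induction r with
  | zero =>
    intro d hd
    refine ⟨fun f g hf hg => ?_, fun i j f g hij hf hg => ?_⟩
    · rw [poly_eq_one W hf (by omega), poly_eq_one W hg (by omega), one_mul]
      exact poly_one W d
    · have h1 : (fun n => ⁅f n, g n⁆) = 1 := by
        funext n
        have := W.anti (by omega : L ≤ i + 0 + (j + 0)) (W.comm (hf 0 n) (hg 0 n))
        rwa [W.bot, Subgroup.mem_bot] at this
      rw [h1]
      exact poly_one W d
  | succ r ih =>
    intro d hd
    have hconj1 : ∀ (i e : ℕ) (f c : ℕ → G), d < e → Poly W i f → Poly W e c →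
        Poly W e (fun n => f n * c n * (f n)⁻¹) := by
      intro i e f c he hf hc
      have h1 := (ih (i + e) (by omega)).2 i e f c rfl hf hc
      have h2 : (fun n => f n * c n * (f n)⁻¹) = (fun n => ⁅f n, c n⁆) * c := by
        funext n; simp [commutatorElement_def]
      rw [h2]
      exact (ih e (by omega)).1 _ _ (poly_mono W h1 (by omega)) hc
    have hconjpow : ∀ (m i e : ℕ) (f c : ℕ → G), d < e → Poly W i f → Poly W e c →
        Poly W e (fun n => f n ^ m * c n * (f n ^ m)⁻¹) := by
      intro m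
      induction m with
      | zero => intro i e f c _ _ hc; simpa using hc
      | succ m ihm =>
        intro i e f c he hf hc
        have := hconj1 i e f _ he hf (ihm i e f c he hf hc)
        simpa [pow_succ', mul_assoc] using this
    have hconj2 : ∀ (i e : ℕ) (f c : ℕ → G), d < e → Poly W i f → Poly W e c →
        Poly W e (fun n => (f n)⁻¹ * c n * f n) := by
      intro i e f c he hf hc
      have h1 := hconjpow (Nat.card G - 1) i e f c he hf hc
      have h2 : ∀ n, f n ^ (Nat.card G - 1) = (f n)⁻¹ := fun n => by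
        refine eq_inv_of_mul_eq_one_left ?_
        rw [← pow_succ, Nat.sub_add_cancel Nat.card_pos, pow_card_eq_one']
      simpa [h2] using h1
    have hmul : ∀ f g : ℕ → G, Poly W d f → Poly W d g → Poly W d (f * g) := by
      intro f g hf hg
      refine (poly_iff W).2
        ⟨fun n => mul_mem (((poly_iff W).1 hf).1 n) (((poly_iff W).1 hg).1 n), ?_⟩
      have h1 : diff (f * g) = (fun n => (g n)⁻¹ * diff f n * g n) * diff g := by
        funext n; simp [diff, mul_assoc]
      rw [h1]
      exact (ih (d + 1) (by omega)).1 _ _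
        (hconj2 d (d + 1) g _ (by omega) hg ((poly_iff W).1 hf).2) ((poly_iff W).1 hg).2
    refine ⟨hmul, fun i j f g hij hf hg => (poly_iff W).2 ⟨fun n => ?_, ?_⟩⟩
    · have := W.comm (((poly_iff W).1 hf).1 n) (((poly_iff W).1 hg).1 n)
      rwa [hij] at this
    · have hW := hconj1 i (d + 1) f _ (by omega) hf
        ((ih (d + 1) (by omega)).2 (i + 1) j (diff f) (fun n => g (n + 1)) (by omega)
          ((poly_iff W).1 hf).2 (poly_shift W hg))
      have hV := hconj1 j (d + 1) g _ (by omega) hg
        ((ih (d + 1) (by omega)).2 i (j + 1) f (diff g) (by omega) hf ((poly_iff W).1 hg).2)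
      have hW1 := hconj2 i (d + 1) f _ (by omega) hf hW
      have hW2 := hconj2 j (d + 1) g _ (by omega) hg hW1
      have hW3 := hconj1 i (d + 1) f _ (by omega) hf hW2
      have hW4 := hconj1 j (d + 1) g _ (by omega) hg hW3
      have h1 : diff (fun n => ⁅f n, g n⁆) =
          (fun n => g n * (f n * ((g n)⁻¹ * ((f n)⁻¹ * (f n * ⁅diff f n, g (n + 1)⁆ * (f n)⁻¹) * f n) * g n) * (f n)⁻¹) * (g n)⁻¹) *
            (fun n => g n * ⁅f n, diff g n⁆ * (g n)⁻¹) := by
        funext n
        simp only [diff, Pi.mul_apply, commutatorElement_def]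
        group
      rw [h1]
      exact (ih (d + 1) (by omega)).1 _ _ hW4 hV

variable [Finite G]

theorem poly_mul {d : ℕ} {f g : ℕ → G} (hf : Poly W d f) (hg : Poly W d g) : Poly W d (f * g) :=
  (poly_closed W L d (by omega)).1 f g hf hg

theorem poly_comm {i j : ℕ} {f g : ℕ → G} (hf : Poly W i f) (hg : Poly W j g) :
    Poly W (i + j) (fun n => ⁅f n, g n⁆) :=
  (poly_closed W L (i + j) (by omega)).2 i j f g rfl hf hg

theorem poly_inv {d : ℕ} {f : ℕ → G} (hf : Poly W d f) : Poly W d f⁻¹ := by
  have hpow : ∀ m : ℕ, Poly W d (f ^ m) := fun m => by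
    induction m with
    | zero => rw [pow_zero]; exact poly_one W d
    | succ m ih => rw [pow_succ]; exact poly_mul W ih hf
  have h : f⁻¹ = f ^ (Nat.card G - 1) := by
    refine (eq_inv_of_mul_eq_one_left ?_).symm
    funext n
    rw [← pow_succ, Nat.sub_add_cancel Nat.card_pos, Pi.pow_apply, pow_card_eq_one', Pi.one_apply]
  rw [h]
  exact hpow _

theorem poly_choose : ∀ (i d e : ℕ) (c : G), c ∈ W.N e → d + i ≤ e →
    Poly W d (fun n => c ^ Nat.choose n i) := by
  intro i
  induction i with
  | zero =>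
    intro d e c hc hde
    refine (poly_iff W).2 ⟨fun n => pow_mem (W.anti (by omega) hc) _, ?_⟩
    have : diff (fun n => c ^ Nat.choose n 0) = 1 := by funext n; simp [diff]
    rw [this]
    exact poly_one W _
  | succ i ih =>
    intro d e c hc hde
    refine (poly_iff W).2 ⟨fun n => pow_mem (W.anti (by omega) hc) _, ?_⟩
    have : diff (fun n => c ^ Nat.choose n (i + 1)) = fun n => c ^ Nat.choose n i := by
      funext n
      simp only [diff]
      rw [Nat.choose_succ_succ', add_comm (n.choose i), pow_add, inv_mul_cancel_left]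
    rw [this]
    exact ih (d + 1) e c hc (by omega)

/-- The leading difference is multiplicative. -/
theorem diff_top_mul : ∀ (m d : ℕ) (f g : ℕ → G), 1 ≤ d → d + m + 1 = L → Poly W d f → Poly W d g →
    (diff^[m]) (f * g) = (diff^[m]) f * (diff^[m]) g := by
  intro m
  induction m with
  | zero => intros; rfl
  | succ m ih =>
    intro d f g hd hL hf hg
    obtain ⟨-, hdf⟩ := (poly_iff W).1 hf
    obtain ⟨-, hdg⟩ := (poly_iff W).1 hg
    have hc : Poly W (d + 2) (fun n => ⁅(diff f)⁻¹ n, g⁻¹ n⁆) :=
      poly_mono W (poly_comm W (poly_inv W hdf) (poly_inv W hg)) (by omega)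
    have he : diff (f * g) = diff f * (fun n => ⁅(diff f)⁻¹ n, g⁻¹ n⁆) * diff g := by
      funext n
      simp only [diff, Pi.mul_apply, Pi.inv_apply, commutatorElement_def]
      group
    have hc1 : (diff^[m]) (fun n => ⁅(diff f)⁻¹ n, g⁻¹ n⁆) = 1 := by
      funext n
      have := hc m n
      rwa [show d + 2 + m = L by omega, W.bot, Subgroup.mem_bot] at this
    simp only [Function.iterate_succ_apply]
    rw [he, ih (d + 1) _ _ (by omega) (by omega)
        (poly_mul W hdf (poly_mono W hc (by omega))) hdg,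
      ih (d + 1) _ _ (by omega) (by omega) hdf (poly_mono W hc (by omega)), hc1, mul_one]

omit [Finite G] in
theorem diff_iterate_choose (c : G) : ∀ i k, i < k →
    (diff^[k]) (fun n => c ^ Nat.choose n i) = 1 := by
  have h1 : ∀ k, (diff^[k]) (1 : ℕ → G) = 1 := fun k => by
    induction k with
    | zero => rfl
    | succ k ih => rw [Function.iterate_succ_apply', ih]; funext n; simp [diff]
  intro i
  induction i with
  | zero =>
    intro k hk
    obtain ⟨k, rfl⟩ : ∃ j, k = j + 1 := ⟨k - 1, by omega⟩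
    rw [Function.iterate_succ_apply]
    have : diff (fun n => c ^ Nat.choose n 0) = 1 := by funext n; simp [diff]
    rw [this, h1]
  | succ i ih =>
    intro k hk
    obtain ⟨k, rfl⟩ : ∃ j, k = j + 1 := ⟨k - 1, by omega⟩
    rw [Function.iterate_succ_apply]
    have : diff (fun n => c ^ Nat.choose n (i + 1)) = fun n => c ^ Nat.choose n i := by
      funext n
      simp only [diff]
      rw [Nat.choose_succ_succ', add_comm (n.choose i), pow_add, inv_mul_cancel_left]
    rw [this]
    exact ih k (by omega)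

/-- Value at `p` of a polynomial sequence of level one, for a filtration of length `p + 2` whose
terms from the third on have exponent `p`. -/
theorem eval_eq {p : ℕ} (hp : p.Prime) (hL : L = p + 2) (hexp : ∀ c ∈ W.N 3, c ^ p = 1)
    {f : ℕ → G} (hf : Poly W 1 f) (h0 : f 0 = 1) (h1 : f 1 ∈ W.N 2) :
    f p = f 1 ^ p * (diff^[p]) f 0 := by
  have main : ∀ r i, i + r = p → 2 ≤ i → ∀ g : ℕ → G, Poly W 1 g → (∀ n < i, g n = 1) →
      g p = (diff^[p]) g 0 := by
    intro r
    induction r with
    | zero =>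
      intro i hi _ g _ hv
      obtain rfl : i = p := by omega
      exact (diff_iterate_zero i g hv).symm
    | succ r ih =>
      intro i hi h2 g hg hv
      have hc : g i ∈ W.N (1 + i) := by
        have := hg i 0
        rwa [diff_iterate_zero i g hv] at this
      have hcp : Poly W 1 (fun n => (g i)⁻¹ ^ Nat.choose n i) :=
        poly_choose W i 1 (1 + i) _ (inv_mem hc) le_rfl
      have hv' : ∀ n < i + 1, ((fun n => (g i)⁻¹ ^ Nat.choose n i) * g) n = 1 := fun n hn => by
        rcases Nat.lt_succ_iff_lt_or_eq.1 hn with h | h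
        · simp [Nat.choose_eq_zero_of_lt h, hv n h]
        · subst h; simp
      have h := ih (i + 1) (by omega) (by omega) _ (poly_mul W hcp hg) hv'
      obtain ⟨m, hm⟩ := hp.dvd_choose_self (show i ≠ 0 by omega) (show i < p by omega)
      have hone : ((g i)⁻¹) ^ Nat.choose p i = 1 := by
        rw [hm, pow_mul, inv_pow, hexp _ (W.anti (by omega) hc), inv_one, one_pow]
      rw [diff_top_mul W p 1 _ _ le_rfl (by omega) hcp hg, diff_iterate_choose _ i p (by omega),
        one_mul] at h
      rw [Pi.mul_apply, hone, one_mul] at h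
      exact h
  have hcp : Poly W 1 (fun n => (f 1)⁻¹ ^ Nat.choose n 1) :=
    poly_choose W 1 1 2 _ (inv_mem h1) le_rfl
  have hv : ∀ n < 2, ((fun n => (f 1)⁻¹ ^ Nat.choose n 1) * f) n = 1 := fun n hn => by
    interval_cases n <;> simp [h0]
  have h := main (p - 2) 2 (by have := hp.two_le; omega) le_rfl _ (poly_mul W hcp hf) hv
  rw [diff_top_mul W p 1 _ _ le_rfl (by omega) hcp hf,
    diff_iterate_choose _ 1 p hp.one_lt, one_mul] at h
  rw [Pi.mul_apply, Nat.choose_one_right, inv_pow] at h
  rw [← h, mul_inv_cancel_left]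

end poly

section maxclass

variable {G : Type*} [Group G] [Finite G] {p n : ℕ} [hp : Fact p.Prime]

/-- The term of index `k` of the lower central series. -/
abbrev lc (G : Type*) [Group G] (k : ℕ) : Subgroup G := (⊤ : Subgroup G).lowerCentralSeries k

omit [Finite G] in
theorem lc_anti {a b : ℕ} (h : a ≤ b) : lc G b ≤ lc G a :=
  Subgroup.lowerCentralSeries_antitone _ h

theorem lc_comm {a b : ℕ} {x y : G} (hx : x ∈ lc G a) (hy : y ∈ lc G b) :
    ⁅x, y⁆ ∈ lc G (a + b + 1) :=
  Cfsg.Agent.S4206.result (fun n => lc G n) (fun n => inferInstance)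
    (fun n => lc_anti (Nat.le_succ n)) ⊤
    (fun n => le_of_eq (Subgroup.lowerCentralSeries_succ _ n).symm) a b
    (Subgroup.commutator_mem_commutator hx hy)

/-- The step map. -/
def dl (x a : G) : G := a⁻¹ * (x * a * x⁻¹)

omit [Finite G] in
theorem dl_mem {x g : G} {k : ℕ} (hg : g ∈ lc G k) : dl x g ∈ lc G (k + 1) := by
  have h : dl x g = ⁅g⁻¹, x⁆ := by simp [dl, commutatorElement_def, mul_assoc]
  rw [h, lc, Subgroup.lowerCentralSeries_succ]
  exact Subgroup.commutator_mem_commutator (inv_mem hg) (Subgroup.mem_top x)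

omit [Finite G] in
theorem dl_iter_mem {x g : G} {k : ℕ} (hg : g ∈ lc G k) : ∀ m, (dl x)^[m] g ∈ lc G (k + m) := by
  intro m
  induction m with
  | zero => exact hg
  | succ m ih => rw [Function.iterate_succ_apply', ← add_assoc]; exact dl_mem ih

/-- Maximal class with an element of order `p` with centraliser of order `p ^ 2`. -/
structure Pearl (G : Type*) [Group G] (p n : ℕ) (x : G) : Prop where
  card : Nat.card G = p ^ n
  three_le : 3 ≤ n
  cls : Group.nilpotencyClass G = n - 1
  pow : x ^ p = 1
  cent : Nat.card (Subgroup.centralizer ({x} : Set G)) = p ^ 2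

variable {x : G} (hx : Pearl G p n x)
include hx

theorem lc_index {k : ℕ} (h1 : 1 ≤ k) (h2 : k ≤ n - 1) : (lc G k).index = p ^ (k + 1) :=
  Transfer.MaxClass.lcs_index hx.card (by have := hx.three_le; omega) hx.cls h1 h2

theorem lc_eq_bot {k : ℕ} (h : n - 1 ≤ k) : lc G k = ⊥ := by
  haveI : Group.IsNilpotent G := (IsPGroup.of_card hx.card).isNilpotent
  exact Subgroup.lowerCentralSeries_eq_bot_iff_nilpotencyClass_le.2 (hx.cls ▸ h)

theorem card_lc {k : ℕ} (h1 : 1 ≤ k) : Nat.card (lc G k) = p ^ (n - 1 - k) := by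
  by_cases h2 : k ≤ n - 1
  · have h := (lc G k).card_mul_index
    rw [lc_index hx h1 h2, hx.card] at h
    refine Nat.eq_of_mul_eq_mul_right (pow_pos hp.out.pos (k + 1)) ?_
    rw [h, ← pow_add]
    congr 1
    omega
  · rw [lc_eq_bot hx (by omega), Subgroup.card_bot, show n - 1 - k = 0 by omega, pow_zero]

theorem lc_two_le_center : lc G (n - 2) ≤ Subgroup.center G := by
  intro z hz
  refine Subgroup.mem_center_iff.2 fun g => ?_
  have h : ⁅z, g⁆ ∈ lc G (n - 2 + 1) := by
    rw [lc, Subgroup.lowerCentralSeries_succ]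
    exact Subgroup.commutator_mem_commutator hz (Subgroup.mem_top g)
  rw [lc_eq_bot hx (by omega), Subgroup.mem_bot] at h
  exact (commutatorElement_eq_one_iff_mul_comm.1 h).symm

theorem ne_one : x ≠ 1 := by
  intro e
  have h := hx.cent
  have hC : Subgroup.centralizer ({x} : Set G) = ⊤ := by
    refine eq_top_iff.2 fun g _ => Subgroup.mem_centralizer_iff.2 ?_
    rintro _ rfl
    simp [e]
  rw [hC, Subgroup.card_top, hx.card] at h
  have := Nat.pow_right_injective hp.out.two_le h
  have := hx.three_le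
  omega

/-- Commutators of a coset representative with `x`. -/
theorem exists_comm_eq_top {c : G} (hc : c ∈ lc G 1) : ∃ a : G, ⁅a, x⁆ = c := by
  classical
  set C := Subgroup.centralizer ({x} : Set G)
  let f : G ⧸ C → lc G 1 := Quotient.lift
    (fun a => (⟨⁅a, x⁆, by
      rw [lc, Subgroup.lowerCentralSeries_succ]
      exact Subgroup.commutator_mem_commutator (by simp) (Subgroup.mem_top x)⟩ : lc G 1))
    (fun a b hab => by
      have h : a⁻¹ * b ∈ C := QuotientGroup.leftRel_apply.1 hab
      have h' := Subgroup.mem_centralizer_iff.1 h x rfl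
      refine Subtype.ext ?_
      simp only [commutatorElement_def]
      have e : b * x * b⁻¹ = a * x * a⁻¹ := by
        calc b * x * b⁻¹ = a * ((a⁻¹ * b) * x) * b⁻¹ := by group
          _ = a * (x * (a⁻¹ * b)) * b⁻¹ := by rw [h']
          _ = a * x * a⁻¹ := by group
      rw [e])
  have hinj : Function.Injective f := by
    intro a b
    induction a using Quotient.inductionOn with
    | _ a =>
    induction b using Quotient.inductionOn with
    | _ b =>
    intro h
    have h' : ⁅a, x⁆ = ⁅b, x⁆ := congrArg Subtype.val h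
    simp only [commutatorElement_def] at h'
    have e := mul_right_cancel h'
    refine Quotient.sound (QuotientGroup.leftRel_apply.2 (Subgroup.mem_centralizer_iff.2 ?_))
    intro y hy
    rw [Set.mem_singleton_iff.1 hy]
    calc x * (a⁻¹ * b) = a⁻¹ * (a * x * a⁻¹) * b := by group
      _ = a⁻¹ * (b * x * b⁻¹) * b := by rw [e]
      _ = (a⁻¹ * b) * x := by group
  have hcard : Nat.card (G ⧸ C) = Nat.card (lc G 1) := by
    rw [card_lc hx le_rfl, ← Subgroup.index_eq_card]
    have h := C.index_mul_card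
    rw [hx.cent, hx.card] at h
    refine Nat.eq_of_mul_eq_mul_right (pow_pos hp.out.pos 2) ?_
    rw [h, ← pow_add]
    congr 1
    have := hx.three_le
    omega
  obtain ⟨a, ha⟩ := ((Nat.bijective_iff_injective_and_card f).2 ⟨hinj, hcard⟩).2 ⟨c, hc⟩
  induction a using Quotient.inductionOn with
  | _ a => exact ⟨a, congrArg Subtype.val ha⟩

theorem not_mem_lc_one : x ∉ lc G 1 := by
  intro h
  obtain ⟨a, ha⟩ := exists_comm_eq_top hx (inv_mem h)
  rw [commutatorElement_def] at ha
  have h1 : a * x * a⁻¹ = 1 := by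
    have := congrArg (· * x) ha
    simpa [mul_assoc] using this
  exact ne_one hx (conj_eq_one_iff.1 h1)

/-- Every element of the coset has order dividing `p`. -/
theorem pow_coset {c : G} (hc : c ∈ lc G 1) : (c * x) ^ p = 1 := by
  obtain ⟨a, rfl⟩ := exists_comm_eq_top hx hc
  rw [commutatorElement_def, inv_mul_cancel_right, conj_pow, hx.pow, mul_one, mul_inv_cancel]

theorem cent_inf_lc {k : ℕ} (h1 : 1 ≤ k) (h2 : k ≤ n - 2) :
    Subgroup.centralizer ({x} : Set G) ⊓ lc G k = lc G (n - 2) := by
  have hn := hx.three_le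
  symm
  refine Subgroup.eq_of_le_of_card_ge (le_inf ?_ (lc_anti h2)) ?_
  · exact (lc_two_le_center hx).trans fun z hz => Subgroup.mem_centralizer_iff.2 fun y _ =>
      Subgroup.mem_center_iff.1 hz y
  · rw [card_lc hx (by omega), show n - 1 - (n - 2) = 1 by omega, pow_one]
    set D := Subgroup.centralizer ({x} : Set G) ⊓ lc G k
    have hle : D ≤ Subgroup.centralizer ({x} : Set G) := inf_le_left
    have hd : Nat.card D ∣ p ^ 2 := hx.cent ▸ Subgroup.card_dvd_of_le hle
    obtain ⟨j, hj, e⟩ := (Nat.dvd_prime_pow hp.out).1 hd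
    have hne : j ≠ 2 := by
      rintro rfl
      have heq := Subgroup.eq_of_le_of_card_ge hle (by rw [hx.cent, e])
      have hxD : x ∈ D := heq ▸ Subgroup.mem_centralizer_iff.2 (by rintro _ rfl; rfl)
      exact not_mem_lc_one hx (lc_anti h1 hxD.2)
    rw [e]
    calc p ^ j ≤ p ^ 1 := Nat.pow_le_pow_right hp.out.pos (by omega)
      _ = p := pow_one p

/-- The commutator map with `x` strictly descends. -/
theorem comm_not_mem {g : G} {k : ℕ} (h1 : 1 ≤ k) (h3 : k + 3 ≤ n) (hg : g ∈ lc G k)
    (hg' : g ∉ lc G (k + 1)) : ⁅g, x⁆ ∉ lc G (k + 2) := by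
  classical
  intro hmem
  set C := Subgroup.centralizer ({x} : Set G) ⊓ lc G (k + 1)
  let f : lc G (k + 1) ⧸ C.subgroupOf (lc G (k + 1)) → lc G (k + 2) := Quotient.lift
    (fun a => (⟨⁅(a : G), x⁆, by
      rw [lc, Subgroup.lowerCentralSeries_succ]
      exact Subgroup.commutator_mem_commutator a.2 (Subgroup.mem_top x)⟩ : lc G (k + 2)))
    (fun a b hab => by
      have h : a⁻¹ * b ∈ C.subgroupOf (lc G (k + 1)) := QuotientGroup.leftRel_apply.1 hab
      have h' := Subgroup.mem_centralizer_iff.1 (Subgroup.mem_subgroupOf.1 h).1 x rfl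
      simp only [Subgroup.coe_mul, Subgroup.coe_inv] at h'
      refine Subtype.ext ?_
      simp only [commutatorElement_def]
      have e : (b : G) * x * (b : G)⁻¹ = a * x * (a : G)⁻¹ := by
        calc (b : G) * x * (b : G)⁻¹ = a * (((a : G)⁻¹ * b) * x) * (b : G)⁻¹ := by group
          _ = a * (x * ((a : G)⁻¹ * b)) * (b : G)⁻¹ := by rw [h']
          _ = a * x * (a : G)⁻¹ := by group
      rw [e])
  have hinj : Function.Injective f := by
    intro a b
    induction a using Quotient.inductionOn with
    | _ a =>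
    induction b using Quotient.inductionOn with
    | _ b =>
    intro h
    have h' : ⁅(a : G), x⁆ = ⁅(b : G), x⁆ := congrArg Subtype.val h
    simp only [commutatorElement_def] at h'
    have e := mul_right_cancel h'
    refine Quotient.sound (QuotientGroup.leftRel_apply.2 (Subgroup.mem_subgroupOf.2
      ⟨Subgroup.mem_centralizer_iff.2 ?_, (a⁻¹ * b).2⟩))
    intro y hy
    rw [Set.mem_singleton_iff.1 hy]
    simp only [Subgroup.coe_mul, Subgroup.coe_inv]
    calc x * ((a : G)⁻¹ * b) = (a : G)⁻¹ * (a * x * (a : G)⁻¹) * b := by group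
      _ = (a : G)⁻¹ * (b * x * (b : G)⁻¹) * b := by rw [e]
      _ = ((a : G)⁻¹ * b) * x := by group
  have hC : C = lc G (n - 2) := cent_inf_lc hx (by omega) (by omega)
  have hcard : Nat.card (lc G (k + 1) ⧸ C.subgroupOf (lc G (k + 1))) = Nat.card (lc G (k + 2)) := by
    rw [card_lc hx (by omega), ← Subgroup.index_eq_card]
    have h := (C.subgroupOf (lc G (k + 1))).index_mul_card
    rw [Nat.card_congr (Subgroup.subgroupOfEquivOfLe
        (show C ≤ lc G (k + 1) from inf_le_right)).toEquiv, hC, card_lc hx (by omega),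
      card_lc hx (by omega)] at h
    rw [hC]
    refine Nat.eq_of_mul_eq_mul_right (pow_pos hp.out.pos (n - 1 - (n - 2))) ?_
    rw [h, ← pow_add]
    congr 1
    omega
  obtain ⟨h, hh⟩ := ((Nat.bijective_iff_injective_and_card f).2 ⟨hinj, hcard⟩).2 ⟨_, hmem⟩
  induction h using Quotient.inductionOn with
  | _ h =>
  have h' : ⁅(h : G), x⁆ = ⁅g, x⁆ := congrArg Subtype.val hh
  simp only [commutatorElement_def] at h'
  have e := mul_right_cancel h'
  have hz : (h : G)⁻¹ * g ∈ lc G (n - 2) := by
    rw [← cent_inf_lc hx h1 (by omega)]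
    refine Subgroup.mem_inf.2 ⟨Subgroup.mem_centralizer_iff.2 ?_,
      mul_mem (inv_mem (show (h : G) ∈ lc G k from lc_anti (Nat.le_succ k) h.2)) hg⟩
    intro y hy
    rw [Set.mem_singleton_iff.1 hy]
    calc x * ((h : G)⁻¹ * g) = (h : G)⁻¹ * (h * x * (h : G)⁻¹) * g := by group
      _ = (h : G)⁻¹ * (g * x * g⁻¹) * g := by rw [e]
      _ = ((h : G)⁻¹ * g) * x := by group
  have : g = (h : G) * ((h : G)⁻¹ * g) := by group
  exact hg' (this ▸ mul_mem h.2 (lc_anti (by omega) hz))

theorem dl_iter_not_mem {g : G} {k : ℕ} (h1 : 1 ≤ k) (hg : g ∈ lc G k) (hg' : g ∉ lc G (k + 1)) :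
    ∀ m, k + m + 2 ≤ n → (dl x)^[m] g ∉ lc G (k + m + 1) := by
  intro m
  induction m with
  | zero => intro _; exact hg'
  | succ m ih =>
    intro hm
    have ha := dl_iter_mem (x := x) hg m
    have hn := ih (by omega)
    rw [Function.iterate_succ_apply']
    have h : dl x ((dl x)^[m] g) = ⁅((dl x)^[m] g)⁻¹, x⁆ := by
      simp [dl, commutatorElement_def, mul_assoc]
    rw [h, show k + (m + 1) + 1 = k + m + 2 by omega]
    exact comm_not_mem hx (by omega) (by omega) (inv_mem ha) (fun h => hn (by simpa using inv_mem h))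

/-- `g ^ p` times the `(p - 1)`-st commutator of `g` with `x` descends `p` steps. -/
theorem pow_mul_mem : ∀ r i, n ≤ i + r → 1 ≤ i → ∀ g ∈ lc G i,
    g ^ p * (dl x)^[p - 1] g ∈ lc G (i + p) := by
  intro r
  induction r with
  | zero =>
    intro i hi _ g hg
    rw [lc_eq_bot hx (by omega), Subgroup.mem_bot] at hg
    have h : ∀ m, (dl x)^[m] (1 : G) = 1 := fun m => by
      induction m with
      | zero => rfl
      | succ m ih => rw [Function.iterate_succ_apply', ih]; simp [dl]
    simp [hg, h]
  | succ r ih =>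
    intro i hi h1 g hg
    have hp2 := hp.out.two_le
    let π := QuotientGroup.mk' (lc G (i + p))
    have hπ : ∀ {a}, π a = 1 ↔ a ∈ lc G (i + p) := fun {a} => QuotientGroup.eq_one_iff a
    let W : Filt (G ⧸ lc G (i + p)) (p + 2) :=
      { N := fun d => (lc G (i + (d - 2))).map π
        anti := fun {a b} h => Subgroup.map_mono (lc_anti (by omega))
        comm := by
          rintro a b _ _ ⟨u, hu, rfl⟩ ⟨v, hv, rfl⟩
          rw [← map_commutatorElement]
          exact Subgroup.mem_map_of_mem π (lc_anti (by omega) (lc_comm hu hv))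
        bot := by
          rw [eq_bot_iff]
          rintro _ ⟨u, hu, rfl⟩
          exact hπ.2 (lc_anti (by omega) hu) }
    have hexp : ∀ c ∈ W.N 3, c ^ p = 1 := by
      rintro _ ⟨u, hu, rfl⟩
      rw [← map_pow]
      have hu' : u ∈ lc G (i + 1) := hu
      have h2 := ih (i + 1) (by omega) (by omega) u hu'
      have h3 := dl_iter_mem (x := x) hu' (p - 1)
      refine hπ.2 ?_
      have := mul_mem (lc_anti (by omega : i + p ≤ i + 1 + p) h2)
        (inv_mem (lc_anti (by omega : i + p ≤ i + 1 + (p - 1)) h3))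
      simpa using this
    set f : ℕ → G ⧸ lc G (i + p) := fun k => π ((g * x) ^ k * (x ^ k)⁻¹)
    have hiter : ∀ j k, (diff^[j + 1]) f k = π (x ^ k * (dl x)^[j] g * (x ^ k)⁻¹) := by
      intro j
      induction j with
      | zero =>
        intro k
        simp only [zero_add, Function.iterate_one, Function.iterate_zero, id, diff, f,
          ← map_inv, ← map_mul]
        congr 1
        simp only [pow_succ]
        group
      | succ j ihj =>
        intro k
        rw [Function.iterate_succ_apply', diff, ihj, ihj, ← map_inv, ← map_mul]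
        congr 1
        rw [Function.iterate_succ_apply']
        simp only [dl, pow_succ]
        group
    have hfp : Poly W 1 f := by
      intro j k
      cases j with
      | zero =>
        refine Subgroup.mem_map_of_mem π ?_
        show (g * x) ^ k * (x ^ k)⁻¹ ∈ lc G (i + (1 + 0 - 2))
        rw [show i + (1 + 0 - 2) = i by omega]
        induction k with
        | zero => simp
        | succ k ihk =>
          have e : (g * x) ^ (k + 1) * (x ^ (k + 1))⁻¹ =
              ((g * x) ^ k * (x ^ k)⁻¹) * (x ^ k * g * (x ^ k)⁻¹) := by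
            simp only [pow_succ]
            group
          rw [e]
          exact mul_mem ihk ((inferInstance : (lc G i).Normal).conj_mem g hg _)
      | succ j =>
        rw [hiter j k]
        refine Subgroup.mem_map_of_mem π ?_
        rw [show 1 + (j + 1) - 2 = j by omega]
        exact (inferInstance : (lc G (i + j)).Normal).conj_mem _ (dl_iter_mem hg j) _
    have hf1 : f 1 = π g := by simp [f]
    have h := eval_eq W hp.out rfl hexp hfp (by simp [f])
      (by rw [hf1]; exact Subgroup.mem_map_of_mem π (lc_anti (by omega) hg))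
    rw [hf1, show (diff^[p]) f 0 = (diff^[(p - 1) + 1]) f 0 by rw [Nat.sub_add_cancel (by omega)],
      hiter, pow_zero, one_mul, inv_one, mul_one, ← map_pow, ← map_mul] at h
    refine hπ.1 ?_
    rw [← h]
    simp only [f, pow_coset hx (lc_anti h1 hg), hx.pow, inv_one, mul_one, map_one]

theorem pow_mem_lc {g : G} {k : ℕ} (h1 : 1 ≤ k) (hg : g ∈ lc G k) :
    g ^ p ∈ lc G (k + (p - 1)) := by
  have := hp.out.two_le
  have h := mul_mem (lc_anti (by omega : k + (p - 1) ≤ k + p) (pow_mul_mem hx n k (by omega) h1 g hg))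
    (inv_mem (dl_iter_mem (x := x) hg (p - 1)))
  simpa using h

theorem pow_not_mem {g : G} {k : ℕ} (h1 : 1 ≤ k) (hg : g ∈ lc G k) (hg' : g ∉ lc G (k + 1))
    (hk : k + (p - 1) + 2 ≤ n) : g ^ p ∉ lc G (k + (p - 1) + 1) := by
  have h2 := hp.out.two_le
  intro h
  refine dl_iter_not_mem hx h1 hg hg' (p - 1) hk ?_
  rw [show k + (p - 1) + 1 = k + p by omega] at h ⊢
  have := mul_mem (inv_mem h) (pow_mul_mem hx n k (by omega) h1 g hg)
  simpa using this

theorem sup_zpowers {z : G} {k : ℕ} (h1 : 1 ≤ k) (hz : z ∈ lc G k) (hz' : z ∉ lc G (k + 1)) :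
    lc G (k + 1) ⊔ Subgroup.zpowers z = lc G k := by
  have hle : lc G (k + 1) ⊔ Subgroup.zpowers z ≤ lc G k :=
    sup_le (lc_anti (Nat.le_succ k)) (Subgroup.zpowers_le.2 hz)
  refine Subgroup.eq_of_le_of_card_ge hle ?_
  set K := lc G (k + 1) ⊔ Subgroup.zpowers z
  have hd : Nat.card K ∣ p ^ n := hx.card ▸ K.card_subgroup_dvd_card
  obtain ⟨e, -, he⟩ := (Nat.dvd_prime_pow hp.out).1 hd
  have hlt : Nat.card (lc G (k + 1)) < Nat.card K := by
    refine lt_of_le_of_ne (Subgroup.card_le_of_le le_sup_left) fun eq => hz' ?_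
    rw [Subgroup.eq_of_le_of_card_ge (le_sup_left : lc G (k + 1) ≤ K) eq.ge]
    exact Subgroup.mem_sup_right (Subgroup.mem_zpowers z)
  rw [card_lc hx (by omega), he] at hlt
  have := (Nat.pow_lt_pow_iff_right hp.out.one_lt).1 hlt
  rw [card_lc hx h1, he]
  exact Nat.pow_le_pow_right hp.out.pos (by omega)

/-- Subgroups of the derived group are generated by fewer than `p` elements. -/
theorem exists_gen_derived {K : Subgroup G} (hK : K ≤ lc G 1) :
    ∃ T : Finset G, T.card + 1 ≤ p ∧ Subgroup.closure (T : Set G) = K := by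
  classical
  have hp2 := hp.out.two_le
  have hn := hx.three_le
  let P : ℕ → Prop := fun k => 1 ≤ k ∧ ∃ y ∈ K, y ∈ lc G k ∧ y ∉ lc G (k + 1)
  have hbound : ∀ k, P k → k < n - 1 := by
    rintro k ⟨-, y, -, h1, h2⟩
    by_contra h
    rw [lc_eq_bot hx (by omega), Subgroup.mem_bot] at h1
    exact h2 (h1 ▸ one_mem _)
  let J : Finset ℕ := (Finset.range n).filter
    fun k => P k ∧ ∀ k', P k' → k' % (p - 1) = k % (p - 1) → k ≤ k'
  have hJ : J.card ≤ p - 1 := by
    refine (Finset.card_le_card_of_injOn (fun k => k % (p - 1))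
      (t := Finset.range (p - 1)) (fun k _ => Finset.mem_range.2 (Nat.mod_lt _ (by omega))) ?_).trans
      (Finset.card_range _).le
    intro a ha b hb hab
    obtain ⟨-, ha1, ha2⟩ := Finset.mem_filter.1 (Finset.mem_coe.1 ha)
    obtain ⟨-, hb1, hb2⟩ := Finset.mem_filter.1 (Finset.mem_coe.1 hb)
    exact le_antisymm (ha2 b hb1 hab.symm) (hb2 a ha1 hab)
  let t : ℕ → G := fun k => if h : P k then h.2.choose else 1
  refine ⟨J.image t, by have := (Finset.card_image_le (f := t) (s := J)).trans hJ; omega, ?_⟩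
  have htK : ∀ k, t k ∈ K := fun k => by
    simp only [t]
    split_ifs with h
    · exact h.2.choose_spec.1
    · exact one_mem _
  set C := Subgroup.closure ((J.image t : Finset G) : Set G)
  have hCK : C ≤ K := by
    rw [Subgroup.closure_le]
    intro y hy
    obtain ⟨k, -, rfl⟩ := Finset.mem_image.1 (Finset.mem_coe.1 hy)
    exact htK k
  refine le_antisymm hCK ?_
  have main : ∀ r k, n - 1 ≤ k + r → 1 ≤ k → ∀ y ∈ K, y ∈ lc G k → y ∈ C := by
    intro r
    induction r with
    | zero =>
      intro k hk _ y _ hy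
      rw [lc_eq_bot hx (by omega), Subgroup.mem_bot] at hy
      exact hy ▸ one_mem _
    | succ r ih =>
      intro k hk h1 y hyK hy
      by_cases hy' : y ∈ lc G (k + 1)
      · exact ih (k + 1) (by omega) (by omega) y hyK hy'
      have hPk : P k := ⟨h1, y, hyK, hy, hy'⟩
      have hex : ∃ k₀, P k₀ ∧ k₀ % (p - 1) = k % (p - 1) := ⟨k, hPk, rfl⟩
      obtain ⟨hP0, hm0⟩ := Nat.find_spec hex
      set k₀ := Nat.find hex
      have hle : k₀ ≤ k := Nat.find_min' hex ⟨hPk, rfl⟩
      have hk0 : k₀ ∈ J := Finset.mem_filter.2 ⟨Finset.mem_range.2 (by have := hbound _ hP0; omega),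
        hP0, fun k' hk' e => Nat.find_min' hex ⟨hk', e.trans hm0⟩⟩
      have hs : t k₀ ∈ lc G k₀ ∧ t k₀ ∉ lc G (k₀ + 1) := by
        simp only [t, dif_pos hP0]
        exact hP0.2.choose_spec.2
      obtain ⟨j, hj⟩ : ∃ j, k = k₀ + j * (p - 1) := by
        have h : (p - 1) ∣ k - k₀ := (Nat.modEq_iff_dvd' hle).1 hm0
        obtain ⟨j, hj⟩ := h
        exact ⟨j, by rw [mul_comm]; omega⟩
      have hz : ∀ i, i ≤ j → t k₀ ^ p ^ i ∈ lc G (k₀ + i * (p - 1)) ∧
          t k₀ ^ p ^ i ∉ lc G (k₀ + i * (p - 1) + 1) := by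
        intro i
        induction i with
        | zero => intro _; simpa using hs
        | succ i ihi =>
          intro hij
          obtain ⟨hm, hm'⟩ := ihi (by omega)
          have hb := hbound k hPk
          have hmul : (i + 1) * (p - 1) ≤ j * (p - 1) := Nat.mul_le_mul_right _ hij
          rw [Nat.add_mul, one_mul] at hmul
          rw [pow_succ p i, pow_mul, show k₀ + (i + 1) * (p - 1) = k₀ + i * (p - 1) + (p - 1) by ring]
          have hk1 : 1 ≤ k₀ + i * (p - 1) := by have := hP0.1; omega
          exact ⟨pow_mem_lc hx hk1 hm, pow_not_mem hx hk1 hm hm' (by omega)⟩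
      obtain ⟨hzm, hzn⟩ := hz j le_rfl
      rw [← hj] at hzm hzn
      set z := t k₀ ^ p ^ j
      have hzC : z ∈ C := pow_mem (Subgroup.subset_closure
        (Finset.mem_coe.2 (Finset.mem_image_of_mem t hk0))) _
      have hy2 : y ∈ lc G (k + 1) ⊔ Subgroup.zpowers z := by rw [sup_zpowers hx h1 hzm hzn]; exact hy
      obtain ⟨a, ha, b, hb, rfl⟩ := Subgroup.mem_sup_of_normal_left.1 hy2
      have hbC : b ∈ C := Subgroup.zpowers_le.2 hzC hb
      have haK : a ∈ K := by
        have := mul_mem hyK (inv_mem (hCK hbC))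
        simpa using this
      exact mul_mem (ih (k + 1) (by omega) (by omega) a haK ha) hbC
  exact fun y hy => main (n - 1) 1 (by omega) le_rfl y hy (hK hy)

/-- Every subgroup is generated by at most `p` elements. -/
theorem exists_gen (H : Subgroup G) :
    ∃ T : Finset G, T.card ≤ p ∧ Subgroup.closure (T : Set G) = H := by
  classical
  have hn := hx.three_le
  have hP : IsPGroup p G := IsPGroup.of_card hx.card
  haveI : Group.IsNilpotent G := hP.isNilpotent
  by_cases hH : H ≤ lc G 1
  · obtain ⟨T, h1, h2⟩ := exists_gen_derived hx hH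
    exact ⟨T, by omega, h2⟩
  have hfr : ∀ K : Subgroup G, K ⊔ lc G 1 = ⊤ → K = ⊤ := fun K hK => by
    refine frattini_nongenerating (top_le_iff.1 ?_)
    rw [← hK]
    refine sup_le_sup_left ?_ _
    rw [lc, Subgroup.top_lowerCentralSeries_one]
    exact Grp.pGroup_commutator_le_frattini hP
  have hcard1 : Nat.card (lc G 1) = p ^ (n - 2) := by
    rw [card_lc hx le_rfl, Nat.sub_sub]
  have hbig : ∀ K : Subgroup G, lc G 1 < K → p ^ (n - 1) ≤ Nat.card K := by
    intro K hK
    obtain ⟨e, -, he⟩ := (Nat.dvd_prime_pow hp.out).1 (hx.card ▸ K.card_subgroup_dvd_card)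
    have hlt : Nat.card (lc G 1) < Nat.card K :=
      lt_of_le_of_ne (Subgroup.card_le_of_le hK.le)
        fun eq => hK.ne (Subgroup.eq_of_le_of_card_ge hK.le eq.ge)
    rw [hcard1, he] at hlt
    have := (Nat.pow_lt_pow_iff_right hp.out.one_lt).1 hlt
    rw [he]
    exact Nat.pow_le_pow_right hp.out.pos (by omega)
  have hsup : ∀ y, y ∉ lc G 1 → lc G 1 < lc G 1 ⊔ Subgroup.zpowers y := fun y hy =>
    lt_of_le_of_ne le_sup_left fun e => hy (e ▸ Subgroup.mem_sup_right (Subgroup.mem_zpowers y))
  by_cases htop : H ⊔ lc G 1 = ⊤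
  · have hH' := hfr H htop
    subst hH'
    set X := lc G 1 ⊔ Subgroup.zpowers x
    have hXne : X ≠ ⊤ := by
      intro e
      have h1 : X = ⊤ := e
      have h2 := hfr (Subgroup.zpowers x) (by rw [sup_comm]; exact h1)
      have h3 : Nat.card (Subgroup.zpowers x) = p ^ n := by rw [h2, Subgroup.card_top, hx.card]
      rw [Nat.card_zpowers, orderOf_eq_prime hx.pow (ne_one hx)] at h3
      have := Nat.pow_right_injective hp.out.two_le (show p ^ 1 = p ^ n by rw [pow_one]; exact h3)
      omega
    obtain ⟨a, ha⟩ : ∃ a, a ∉ X := by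
      by_contra h
      push Not at h
      exact hXne (eq_top_iff.2 fun y _ => h y)
    refine ⟨{x, a}, Finset.card_le_two.trans hp.out.two_le, hfr _ ?_⟩
    set K := Subgroup.closure ((({x, a} : Finset G)) : Set G) ⊔ lc G 1
    have hxK : x ∈ K := Subgroup.mem_sup_left (Subgroup.subset_closure (by simp))
    have haK : a ∈ K := Subgroup.mem_sup_left (Subgroup.subset_closure (by simp))
    have hXK : X ≤ K := sup_le le_sup_right (Subgroup.zpowers_le.2 hxK)
    obtain ⟨e, hen, he⟩ := (Nat.dvd_prime_pow hp.out).1 (hx.card ▸ K.card_subgroup_dvd_card)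
    have hlt : Nat.card X < Nat.card K :=
      lt_of_le_of_ne (Subgroup.card_le_of_le hXK)
        fun eq => ha ((Subgroup.eq_of_le_of_card_ge hXK eq.ge) ▸ haK)
    have h4 := lt_of_le_of_lt (hbig X (hsup x (not_mem_lc_one hx))) hlt
    rw [he] at h4
    have := (Nat.pow_lt_pow_iff_right hp.out.one_lt).1 h4
    refine Subgroup.eq_top_of_card_eq _ ?_
    rw [he, hx.card]
    congr 1
    omega
  · obtain ⟨h, hhH, hh⟩ := Set.not_subset.1 (show ¬ (H : Set G) ⊆ lc G 1 from hH)
    obtain ⟨T, hT1, hT2⟩ := exists_gen_derived hx (inf_le_right : H ⊓ lc G 1 ≤ lc G 1)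
    have hTH : Subgroup.closure (T : Set G) ≤ H := hT2 ▸ inf_le_left
    refine ⟨insert h T, (Finset.card_insert_le _ _).trans hT1, ?_⟩
    refine le_antisymm ?_ fun y hy => ?_
    · rw [Subgroup.closure_le, Finset.coe_insert, Set.insert_subset_iff]
      exact ⟨hhH, fun y hy => hTH (Subgroup.subset_closure hy)⟩
    have heq : lc G 1 ⊔ Subgroup.zpowers h = H ⊔ lc G 1 := by
      refine Subgroup.eq_of_le_of_card_ge
        (sup_le le_sup_right ((Subgroup.zpowers_le.2 hhH).trans le_sup_left)) ?_
      refine le_trans ?_ (hbig _ (hsup h hh))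
      obtain ⟨e, hen, he⟩ := (Nat.dvd_prime_pow hp.out).1
        (hx.card ▸ (H ⊔ lc G 1).card_subgroup_dvd_card)
      have : e ≠ n := fun eq => htop (Subgroup.eq_top_of_card_eq _ (by rw [he, hx.card, eq]))
      rw [he]
      exact Nat.pow_le_pow_right hp.out.pos (by omega)
    have hy2 : y ∈ lc G 1 ⊔ Subgroup.zpowers h := heq ▸ Subgroup.mem_sup_left hy
    obtain ⟨a, ha, b, hb, rfl⟩ := Subgroup.mem_sup_of_normal_left.1 hy2
    rw [Finset.coe_insert]
    have hbC : b ∈ Subgroup.closure (insert h (T : Set G)) :=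
      Subgroup.zpowers_le.2 (Subgroup.subset_closure (Set.mem_insert _ _)) hb
    have haH : a ∈ H := by
      have := mul_mem hy (inv_mem (Subgroup.zpowers_le.2 hhH hb))
      simpa using this
    have haT : a ∈ Subgroup.closure (T : Set G) := hT2 ▸ ⟨haH, ha⟩
    exact mul_mem (Subgroup.closure_mono (Set.subset_insert _ _) haT) hbC

end maxclass

end Cfsg.Agent.Fus.MC
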