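import Mathlib
import Cfsg.Agent.Lib.Fus.MaxClassPower

/-!
The centralisers `Ck k` of the factors `lc k / lc (k+2)` of a `p`-group of maximal class.
-/

set_option autoImplicit false
set_option linter.unusedSectionVars false
set_option linter.style.haveILetI false

namespace Cfsg.Agent.Fus.MC

open scoped commutatorElement

variable {G : Type*} [Group G]

/-- The centraliser of the factor `lc k / lc (k+2)`. -/
def Ck (G : Type*) [Group G] (k : ℕ) : Subgroup G :=
  (Subgroup.centralizer (((lc G k).map (QuotientGroup.mk' (lc G (k + 2)))) :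
    Set (G ⧸ lc G (k + 2)))).comap (QuotientGroup.mk' (lc G (k + 2)))

/-- The elements commuting with `g` modulo `N`. -/
def modCent (N : Subgroup G) [N.Normal] (g : G) : Subgroup G :=
  (Subgroup.centralizer ({QuotientGroup.mk' N g} : Set (G ⧸ N))).comap (QuotientGroup.mk' N)

theorem mem_modCent {N : Subgroup G} [N.Normal] {g a : G} : a ∈ modCent N g ↔ ⁅a, g⁆ ∈ N := by
  rw [modCent, Subgroup.mem_comap, Subgroup.mem_centralizer_singleton_iff,
    ← commutatorElement_eq_one_iff_mul_comm, ← map_commutatorElement]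
  exact QuotientGroup.eq_one_iff _

theorem mem_Ck {g : G} {k : ℕ} : g ∈ Ck G k ↔ ∀ a ∈ lc G k, ⁅a, g⁆ ∈ lc G (k + 2) := by
  rw [Ck, Subgroup.mem_comap, Subgroup.mem_centralizer_iff]
  constructor
  · intro h a ha
    refine (QuotientGroup.eq_one_iff _).1 ?_
    show QuotientGroup.mk' (lc G (k + 2)) ⁅a, g⁆ = 1
    rw [map_commutatorElement, commutatorElement_eq_one_iff_mul_comm]
    exact h _ (Subgroup.mem_map_of_mem _ ha)
  · rintro h _ ⟨a, ha, rfl⟩
    rw [← commutatorElement_eq_one_iff_mul_comm, ← map_commutatorElement]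
    exact (QuotientGroup.eq_one_iff _).2 (h a ha)

theorem lc_step {a y : G} {k : ℕ} (ha : a ∈ lc G k) : ⁅a, y⁆ ∈ lc G (k + 1) := by
  rw [lc, Subgroup.lowerCentralSeries_succ]
  exact Subgroup.commutator_mem_commutator ha (Subgroup.mem_top y)

variable [Finite G]

theorem lc_one_le_Ck (k : ℕ) : lc G 1 ≤ Ck G k := fun g hg => mem_Ck.2 fun a ha => by
  exact lc_comm ha hg

variable {p n : ℕ} [hp : Fact p.Prime] {x : G} (hx : Pearl G p n x)
include hx

theorem exists_depth {k : ℕ} (h1 : 1 ≤ k) (h2 : k + 2 ≤ n) :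
    ∃ a ∈ lc G k, a ∉ lc G (k + 1) := by
  by_contra h
  push Not at h
  have he : Nat.card (lc G k) ≤ Nat.card (lc G (k + 1)) := Subgroup.card_le_of_le h
  rw [card_lc hx h1, card_lc hx (by omega)] at he
  have := (Nat.pow_le_pow_iff_right hp.out.one_lt).1 he
  omega

theorem mem_Ck_of_depth {a g : G} {k : ℕ} (h1 : 1 ≤ k) (ha : a ∈ lc G k) (ha' : a ∉ lc G (k + 1))
    (h : ⁅a, g⁆ ∈ lc G (k + 2)) : g ∈ Ck G k := by
  have hle : lc G k ≤ modCent (lc G (k + 2)) g := by
    rw [← sup_zpowers hx h1 ha ha']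
    exact sup_le (fun c hc => mem_modCent.2 (lc_step hc)) (Subgroup.zpowers_le.2 (mem_modCent.2 h))
  exact mem_Ck.2 fun b hb => mem_modCent.1 (hle hb)

theorem not_mem_Ck {k : ℕ} (h1 : 1 ≤ k) (h3 : k + 3 ≤ n) : x ∉ Ck G k := by
  intro h
  obtain ⟨a, ha, ha'⟩ := exists_depth hx h1 (by omega)
  exact comm_not_mem hx h1 h3 ha ha' (mem_Ck.1 h a ha)

/-- A subgroup over the derived group is a maximal subgroup unless it is everything. -/
theorem eq_sup_of_ne_top {M : Subgroup G} (hM : lc G 1 ≤ M) (hne : M ≠ ⊤) {h : G} (hh : h ∈ M)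
    (hh' : h ∉ lc G 1) : M = lc G 1 ⊔ Subgroup.zpowers h := by
  symm
  refine Subgroup.eq_of_le_of_card_ge (sup_le hM (Subgroup.zpowers_le.2 hh)) ?_
  obtain ⟨e, he1, he⟩ := (Nat.dvd_prime_pow hp.out).1 (hx.card ▸ M.card_subgroup_dvd_card)
  obtain ⟨j, hj1, hj⟩ := (Nat.dvd_prime_pow hp.out).1
    (hx.card ▸ (lc G 1 ⊔ Subgroup.zpowers h).card_subgroup_dvd_card)
  have hne' : e ≠ n := fun eq => hne (Subgroup.eq_top_of_card_eq _ (by rw [he, hx.card, eq]))
  have hlt : Nat.card (lc G 1) < Nat.card ↥(lc G 1 ⊔ Subgroup.zpowers h) := by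
    refine lt_of_le_of_ne (Subgroup.card_le_of_le le_sup_left) fun eq => hh' ?_
    rw [Subgroup.eq_of_le_of_card_ge (le_sup_left : lc G 1 ≤ lc G 1 ⊔ Subgroup.zpowers h) eq.ge]
    exact Subgroup.mem_sup_right (Subgroup.mem_zpowers h)
  rw [card_lc hx le_rfl, hj] at hlt
  have := (Nat.pow_lt_pow_iff_right hp.out.one_lt).1 hlt
  rw [he, hj]
  exact Nat.pow_le_pow_right hp.out.pos (by omega)

theorem Ck_eq {k : ℕ} (h1 : 1 ≤ k) (h3 : k + 3 ≤ n) {h : G} (hh : h ∈ Ck G k)
    (hh' : h ∉ lc G 1) : Ck G k = lc G 1 ⊔ Subgroup.zpowers h :=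
  eq_sup_of_ne_top hx (lc_one_le_Ck k) (fun e => not_mem_Ck hx h1 h3 (e ▸ Subgroup.mem_top x)) hh hh'

/-- The two-step centraliser is bigger than the derived group. -/
theorem exists_gam (h4 : 4 ≤ n) : ∃ h, h ∈ Ck G 1 ∧ h ∉ lc G 1 := by
  classical
  obtain ⟨a, ha, ha'⟩ := exists_depth hx (k := 1) le_rfl (by omega)
  have hd := comm_not_mem hx (k := 1) le_rfl (by omega) ha ha'
  have hX : lc G 1 ⊔ Subgroup.zpowers x ≠ ⊤ := by
    intro e
    have hP : IsPGroup p G := IsPGroup.of_card hx.card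
    haveI : Group.IsNilpotent G := hP.isNilpotent
    have htop : Subgroup.zpowers x = ⊤ := by
      refine frattini_nongenerating (top_le_iff.1 ?_)
      rw [← e, sup_comm]
      refine sup_le_sup_left ?_ _
      rw [lc, Subgroup.top_lowerCentralSeries_one]
      exact Grp.pGroup_commutator_le_frattini hP
    have h3 : Nat.card (Subgroup.zpowers x) = p ^ n := by rw [htop, Subgroup.card_top, hx.card]
    rw [Nat.card_zpowers, orderOf_eq_prime hx.pow (ne_one hx)] at h3
    have := Nat.pow_right_injective hp.out.two_le (show p ^ 1 = p ^ n by rw [pow_one]; exact h3)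
    omega
  obtain ⟨y, hy⟩ : ∃ y, y ∉ lc G 1 ⊔ Subgroup.zpowers x := by
    by_contra h
    push Not at h
    exact hX (eq_top_iff.2 fun y _ => h y)
  have h2 : ⁅a, y⁆ ∈ lc G (2 + 1) ⊔ Subgroup.zpowers ⁅a, x⁆ := by
    rw [sup_zpowers hx (by omega) (lc_step ha) hd]
    exact lc_step ha
  obtain ⟨c, hc, d, ⟨i, rfl⟩, e⟩ := Subgroup.mem_sup_of_normal_left.1 h2
  set π := QuotientGroup.mk' (lc G 3) with hπ
  have hcen : ∀ w ∈ lc G 2, ∀ v : G, Commute (π w) (π v) := fun w hw v => by
    show π w * π v = π v * π w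
    rw [← commutatorElement_eq_one_iff_mul_comm, ← map_commutatorElement]
    exact (QuotientGroup.eq_one_iff _).2 (lc_step hw)
  have hmul : ∀ u v : G, π ⁅a, u * v⁆ = π ⁅a, u⁆ * π ⁅a, v⁆ := fun u v => by
    have e1 : ⁅a, u * v⁆ = ⁅a, u⁆ * (u * ⁅a, v⁆ * u⁻¹) := by
      simp only [commutatorElement_def]; group
    rw [e1]
    simp only [map_mul, map_inv]
    rw [← (hcen _ (lc_step ha) u).eq, mul_inv_cancel_right]
  let φ : G →* G ⧸ lc G 3 := MonoidHom.mk' (fun u => π ⁅a, u⁆) hmul
  have hφ : φ (y * (x ^ i)⁻¹) = 1 := by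
    rw [map_mul, map_inv, map_zpow]
    show π ⁅a, y⁆ * (π ⁅a, x⁆ ^ i)⁻¹ = 1
    rw [← e, map_mul, show π c = 1 from (QuotientGroup.eq_one_iff c).2 hc, one_mul, ← map_zpow,
      mul_inv_cancel]
  refine ⟨y * (x ^ i)⁻¹, mem_Ck_of_depth hx le_rfl ha ha' ((QuotientGroup.eq_one_iff _).1 hφ),
    fun h => hy ?_⟩
  have := mul_mem (Subgroup.mem_sup_left (T := Subgroup.zpowers x) h)
    (Subgroup.mem_sup_right (S := lc G 1) (zpow_mem (Subgroup.mem_zpowers x) i))
  simpa using this

/-- The derived group is abelian modulo the fourth term. -/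
theorem lc_one_comm {a b : G} (ha : a ∈ lc G 1) (hb : b ∈ lc G 1) : ⁅a, b⁆ ∈ lc G 4 := by
  obtain ⟨s, hs, hs'⟩ := exists_depth hx (k := 1) le_rfl (by have := hx.three_le; omega)
  have hle : ∀ u ∈ lc G 1, s ∈ modCent (lc G 4) u → lc G 1 ≤ modCent (lc G 4) u := fun u hu hsu => by
    rw [← sup_zpowers hx le_rfl hs hs']
    exact sup_le (fun c hc => mem_modCent.2 (lc_anti (a := 4) (b := 1 + 1 + 1 + 1) (by omega) (lc_comm (a := 1 + 1) (b := 1) hc hu))) (Subgroup.zpowers_le.2 hsu)
  have h1 := hle s hs (mem_modCent.2 (by simp))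
  have h2 : s ∈ modCent (lc G 4) b := by
    refine mem_modCent.2 ?_
    rw [← commutatorElement_inv]
    exact inv_mem (mem_modCent.1 (h1 hb))
  exact mem_modCent.1 (hle b hb h2 ha)

theorem Ck_one_le_two : Ck G 1 ≤ Ck G 2 := by
  intro h hh
  set π := QuotientGroup.mk' (lc G 4)
  have hle : lc G (1 + 1) ≤ modCent (lc G 4) h := by
    rw [lc, Subgroup.lowerCentralSeries_succ, Subgroup.commutator_le]
    intro b hb y _
    refine mem_modCent.2 ((QuotientGroup.eq_one_iff _).1 ?_)
    show π ⁅⁅b, y⁆, h⁆ = 1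
    have hu : b⁻¹ * (h * b * h⁻¹) ∈ lc G 3 := by
      have := mem_Ck.1 hh b⁻¹ (inv_mem hb)
      simpa [commutatorElement_def, mul_assoc] using this
    have hv : y⁻¹ * (h * y * h⁻¹) ∈ lc G 1 := by
      have := lc_step (k := 0) (a := y⁻¹) (y := h) (by simp)
      simpa [commutatorElement_def, mul_assoc] using this
    set u := b⁻¹ * (h * b * h⁻¹)
    set v := y⁻¹ * (h * y * h⁻¹)
    have hc : ∀ w, π u * π w = π w * π u := fun w => by
      rw [← commutatorElement_eq_one_iff_mul_comm, ← map_commutatorElement]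
      exact (QuotientGroup.eq_one_iff _).2 (lc_step hu)
    have hbv : π b * π v = π v * π b := by
      rw [← commutatorElement_eq_one_iff_mul_comm, ← map_commutatorElement]
      exact (QuotientGroup.eq_one_iff _).2 (lc_one_comm hx hb hv)
    have key : π (h * ⁅b, y⁆ * h⁻¹) = π ⁅b, y⁆ := by
      have e : h * ⁅b, y⁆ * h⁻¹ = ⁅b * u, y * v⁆ := by
        simp only [u, v, commutatorElement_def]; group
      rw [e, map_commutatorElement, map_commutatorElement, map_mul, map_mul]
      simp only [commutatorElement_def]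
      calc π b * π u * (π y * π v) * (π b * π u)⁻¹ * (π y * π v)⁻¹
          = π b * (π u * (π y * π v)) * (π u)⁻¹ * (π b)⁻¹ * (π v)⁻¹ * (π y)⁻¹ := by group
        _ = π b * ((π y * π v) * π u) * (π u)⁻¹ * (π b)⁻¹ * (π v)⁻¹ * (π y)⁻¹ := by
            rw [← map_mul π y v, hc]
        _ = π b * π y * (π v * (π b)⁻¹) * (π v)⁻¹ * (π y)⁻¹ := by group
        _ = π b * π y * ((π b)⁻¹ * π v) * (π v)⁻¹ * (π y)⁻¹ := by
            rw [((Commute.inv_left (show Commute (π b) (π v) from hbv))).eq]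
        _ = π b * π y * (π b)⁻¹ * (π y)⁻¹ := by group
    rw [map_commutatorElement, commutatorElement_eq_one_iff_mul_comm]
    rw [map_mul, map_mul, map_inv, mul_inv_eq_iff_eq_mul] at key
    exact key.symm
  exact mem_Ck.2 fun a ha => mem_modCent.1 (hle ha)

/-- The power map carries one centraliser into the next. -/
theorem Ck_le_shift {k : ℕ} (h1 : 1 ≤ k) (hk : p ≤ k + 2) : Ck G k ≤ Ck G (k + (p - 1)) := by
  intro h hh
  have h2 := hp.out.two_le
  by_cases hn : k + (p - 1) + 2 ≤ n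
  · obtain ⟨g, hg, hg'⟩ := exists_depth hx h1 (by omega)
    refine mem_Ck_of_depth hx (by omega) (pow_mem_lc hx h1 hg) (pow_not_mem hx h1 hg hg' hn) ?_
    set k' := k + (p - 1)
    set π := QuotientGroup.mk' (lc G (k' + 2))
    have hu : g⁻¹ * (h * g * h⁻¹) ∈ lc G (k + 2) := by
      have := mem_Ck.1 hh g⁻¹ (inv_mem hg)
      simpa [commutatorElement_def, mul_assoc] using this
    set u := g⁻¹ * (h * g * h⁻¹) with hudef
    have hc : Commute (π g) (π u) := by
      show π g * π u = π u * π g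
      rw [← commutatorElement_eq_one_iff_mul_comm, ← map_commutatorElement]
      exact (QuotientGroup.eq_one_iff _).2 (lc_anti (by omega) (lc_comm hg hu))
    have hup : π u ^ p = 1 := by
      rw [← map_pow]
      exact (QuotientGroup.eq_one_iff _).2 (lc_anti (by omega) (pow_mem_lc hx (by omega) hu))
    have key : π h * π g ^ p * (π h)⁻¹ = π g ^ p := by
      rw [← conj_pow, ← map_inv, ← map_mul, ← map_mul,
        show h * g * h⁻¹ = g * u by simp [hudef], map_mul, hc.mul_pow, hup, mul_one]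
    refine (QuotientGroup.eq_one_iff _).1 ?_
    show π ⁅g ^ p, h⁆ = 1
    rw [map_commutatorElement, commutatorElement_eq_one_iff_mul_comm, map_pow]
    exact (mul_inv_eq_iff_eq_mul.1 key).symm
  · refine mem_Ck.2 fun a ha => ?_
    have hz := lc_step (y := h) ha
    rw [lc_eq_bot hx (by omega : n - 1 ≤ k + (p - 1) + 1), Subgroup.mem_bot] at hz
    rw [hz]
    exact one_mem _

omit hx in
theorem lc_one_le_of_sup {M : Subgroup G} (h : lc G 1 ⊔ M = ⊤) (hG : IsPGroup p G) : M = ⊤ := by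
  haveI : Group.IsNilpotent G := hG.isNilpotent
  refine frattini_nongenerating (top_le_iff.1 ?_)
  rw [← h, sup_comm]
  refine sup_le_sup_left ?_ _
  rw [lc, Subgroup.top_lowerCentralSeries_one]
  exact Grp.pGroup_commutator_le_frattini hG

/-- Elements outside the maximal subgroup of `x` do not commute with it modulo `lc 2`. -/
theorem comm_not_mem_two {h : G} (hh : h ∉ lc G 1 ⊔ Subgroup.zpowers x) :
    ⁅h, x⁆ ∉ lc G 2 := by
  intro hmem
  have hP : IsPGroup p G := IsPGroup.of_card hx.card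
  set T := Subgroup.closure ({h, x} : Set G)
  have hT : T = ⊤ := by
    refine lc_one_le_of_sup ?_ hP
    by_contra hne
    refine hh ?_
    rw [← eq_sup_of_ne_top hx le_sup_left hne
      (Subgroup.mem_sup_right (Subgroup.subset_closure (by simp))) (not_mem_lc_one hx)]
    exact Subgroup.mem_sup_right (Subgroup.subset_closure (by simp))
  have hall : ∀ a b : G, ⁅a, b⁆ ∈ lc G 2 := by
    have h1 : ∀ g : G, g ∈ modCent (lc G 2) x := by
      intro g
      refine (show T ≤ modCent (lc G 2) x from ?_) (hT.symm ▸ Subgroup.mem_top g)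
      rw [Subgroup.closure_le]
      rintro _ (rfl | rfl)
      · exact mem_modCent.2 hmem
      · exact mem_modCent.2 (by simp)
    have h2 : ∀ g : G, g ∈ modCent (lc G 2) h := by
      intro g
      refine (show T ≤ modCent (lc G 2) h from ?_) (hT.symm ▸ Subgroup.mem_top g)
      rw [Subgroup.closure_le]
      rintro _ (rfl | rfl)
      · exact mem_modCent.2 (by simp)
      · refine mem_modCent.2 ?_
        rw [← commutatorElement_inv]
        exact inv_mem hmem
    intro a b
    refine mem_modCent.1 ((show T ≤ modCent (lc G 2) b from ?_) (hT.symm ▸ Subgroup.mem_top a))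
    rw [Subgroup.closure_le]
    rintro _ (rfl | rfl)
    · refine mem_modCent.2 ?_
      rw [← commutatorElement_inv]
      exact inv_mem (mem_modCent.1 (h2 b))
    · refine mem_modCent.2 ?_
      rw [← commutatorElement_inv]
      exact inv_mem (mem_modCent.1 (h1 b))
  have hle : lc G 1 ≤ lc G 2 := by
    rw [show lc G 1 = (⊤ : Subgroup G).lowerCentralSeries (0 + 1) from rfl,
      Subgroup.lowerCentralSeries_succ, Subgroup.commutator_le]
    exact fun a _ b _ => hall a b
  obtain ⟨a, ha, ha'⟩ := exists_depth hx (k := 1) le_rfl (by have := hx.three_le; omega)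
  exact ha' (hle ha)

end Cfsg.Agent.Fus.MC
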