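import Mathlib
import Cfsg.Agent.Lib.Grp.MaxClassUniform
import Cfsg.Agent.Lib.Grp.AssocLie

/-!
`p`-groups of maximal class have nonnegative degree of commutativity: the two-step centralisers
`Ck k`, `1 ≤ k ≤ n - 4`, all coincide, and the last one differs from them only if `n` is even.
-/

set_option autoImplicit false
set_option linter.unusedSectionVars false
set_option linter.style.haveILetI false

namespace Cfsg.Agent.Fus.MCDeg

open scoped commutatorElement
open Cfsg.Agent.Fus.MC (lc lc_anti lc_comm lc_step Ck mem_Ck lc_one_le_Ck)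
open Cfsg.Agent.Grp.Uni

variable {G : Type*} [Group G]

/-- The commutator of two products. -/
theorem comm_mul_mul (a a' b b' : G) (h1 : ∀ w ∈ ({⁅a, b'⁆, ⁅a, b⁆, ⁅a', b⁆} : Set G),
      Commute a' w ∧ Commute b' w) :
    ⁅a' * a, b' * b⁆ = ⁅a, b'⁆ * ⁅a, b⁆ * ⁅a', b'⁆ * ⁅a', b⁆ := by
  have e : ⁅a' * a, b' * b⁆ = a' * ⁅a, b'⁆ * a'⁻¹ * ((a' * b') * ⁅a, b⁆ * (a' * b')⁻¹) *
      ⁅a', b'⁆ * (b' * ⁅a', b⁆ * b'⁻¹) := by
    simp only [commutatorElement_def]; group
  have c1 := (h1 ⁅a, b'⁆ (by simp)).1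
  have c2 := h1 ⁅a, b⁆ (by simp)
  have c3 := (h1 ⁅a', b⁆ (by simp)).2
  rw [e, c1.eq, (c2.1.mul_left c2.2).eq, c3.eq]
  group

variable [Finite G] {p n : ℕ} [hp : Fact p.Prime]

/-- Commutators of terms below a bound on equal two-step centralisers fall one step deeper. -/
theorem lc_comm_deep (hm : MaxCl G p n) {m : ℕ}
    (hC : ∀ j, 1 ≤ j → j ≤ m → Ck G j = Ck G 1) {x : G} (hx : x ∉ Ck G 1) (h4 : 4 ≤ n) :
    ∀ i, 1 ≤ i → ∀ j, 1 ≤ j → i + j ≤ m → ⁅lc G i, lc G j⁆ ≤ lc G (i + j + 2) := by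
  have hA : ∀ j, 1 ≤ j → j ≤ m → ⁅lc G j, Ck G 1⁆ ≤ lc G (j + 2) := fun j h1 h2 =>
    Subgroup.commutator_le.2 fun a ha c hc => mem_Ck.1 (hC j h1 h2 ▸ hc) a ha
  have hCn : (Ck G 1).Normal := by
    refine ⟨fun c hc g => ?_⟩
    have h1 : g * c * g⁻¹ = ⁅g, c⁆ * c := by rw [commutatorElement_def]; group
    rw [h1]
    refine mul_mem (lc_one_le_Ck 1 ?_) hc
    rw [lc, Subgroup.lowerCentralSeries_succ]
    exact Subgroup.commutator_mem_commutator (by simp) (Subgroup.mem_top c)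
  have hgen : lc G 1 ≤ ⁅Ck G 1, (⊤ : Subgroup G)⁆ := by
    haveI := hCn
    set N := ⁅Ck G 1, (⊤ : Subgroup G)⁆
    have htop : Ck G 1 ⊔ Subgroup.zpowers x = ⊤ := by
      refine Subgroup.index_eq_one.1 ?_
      have hd := Subgroup.index_dvd_of_le (le_sup_left : Ck G 1 ≤ Ck G 1 ⊔ Subgroup.zpowers x)
      rw [Ck_index hm le_rfl (by omega)] at hd
      refine ((Nat.dvd_prime hp.out).1 hd).resolve_right fun e => hx ?_
      have := Subgroup.eq_of_le_of_card_ge (le_sup_left : Ck G 1 ≤ Ck G 1 ⊔ Subgroup.zpowers x) (by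
        have e1 := (Ck G 1).card_mul_index
        have e2 := (Ck G 1 ⊔ Subgroup.zpowers x).card_mul_index
        rw [Ck_index hm le_rfl (by omega)] at e1
        rw [e, ← e1] at e2
        exact (Nat.eq_of_mul_eq_mul_right hp.out.pos e2).le)
      rw [this]
      exact Subgroup.mem_sup_right (Subgroup.mem_zpowers x)
    have hcen : ∀ c ∈ Ck G 1, ∀ g : G,
        Commute (QuotientGroup.mk' N c) (QuotientGroup.mk' N g) := fun c hc g =>
      commutatorElement_eq_one_iff_mul_comm.1 (by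
        rw [← map_commutatorElement]
        exact (QuotientGroup.eq_one_iff _).2
          (Subgroup.commutator_mem_commutator hc (Subgroup.mem_top g)))
    rw [lc, Subgroup.lowerCentralSeries_succ, Subgroup.commutator_le]
    intro a _ b _
    refine (QuotientGroup.eq_one_iff _).1 ?_
    show QuotientGroup.mk' N ⁅a, b⁆ = 1
    rw [map_commutatorElement, commutatorElement_eq_one_iff_mul_comm]
    obtain ⟨c, hc, _, ⟨i, rfl⟩, rfl⟩ := Subgroup.mem_sup_of_normal_left.1 (htop.ge (Subgroup.mem_top a))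
    obtain ⟨d, hd, _, ⟨j, rfl⟩, rfl⟩ := Subgroup.mem_sup_of_normal_left.1 (htop.ge (Subgroup.mem_top b))
    rw [map_mul, map_mul]
    exact (((hcen c hc d).mul_right (hcen c hc (x ^ j))).mul_left
      ((hcen d hd (x ^ i)).symm.mul_right ((Commute.zpow_zpow_self x i j).map (QuotientGroup.mk' N)))).eq
  intro i hi
  induction i, hi using Nat.le_induction with
  | base =>
    intro j h1 h2
    refine (Subgroup.commutator_mono hgen le_rfl).trans ?_
    refine Cfsg.Agent.AssocLie.three_subgroups _ _ _ _ ?_ ?_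
    · rw [Subgroup.commutator_comm (⊤ : Subgroup G) (lc G j), ← Subgroup.lowerCentralSeries_succ]
      exact (hA (j + 1) (by omega) (by omega)).trans (lc_anti (by omega))
    · refine (Subgroup.commutator_mono (hA j h1 (by omega)) le_rfl).trans ?_
      rw [← Subgroup.lowerCentralSeries_succ]
      exact lc_anti (by omega)
  | succ i hi ih =>
    intro j h1 h2
    conv_lhs => arg 1; rw [lc, Subgroup.lowerCentralSeries_succ]
    refine Cfsg.Agent.AssocLie.three_subgroups _ _ _ _ ?_ ?_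
    · rw [Subgroup.commutator_comm (⊤ : Subgroup G) (lc G j), ← Subgroup.lowerCentralSeries_succ,
        Subgroup.commutator_comm]
      exact (ih (j + 1) (by omega) (by omega)).trans (lc_anti (by omega))
    · refine (Subgroup.commutator_mono (Subgroup.commutator_comm (lc G j) (lc G i) ▸ ih j h1 (by omega))
        le_rfl).trans ?_
      rw [← Subgroup.lowerCentralSeries_succ]
      exact lc_anti (by omega)

/-- A sequence down the lower central series. -/
theorem exists_seq {x s : G} (hx : Uniform G p n x) (hs : s ∈ Ck G 1) (hs1 : s ∉ lc G 1)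
    (h4 : 4 ≤ n) : ∃ v : ℕ → G, v 0 = s ∧ (∀ i, x * v i * x⁻¹ = v (i + 1) * v i) ∧
      (∀ i, v i ∈ lc G i) ∧ ∀ i, i + 2 ≤ n → v i ∉ lc G (i + 1) := by
  obtain ⟨v, hv⟩ : ∃ v : ℕ → G, v = fun i => (fun a => ⁅x, a⁆)^[i] s := ⟨_, rfl⟩
  have hsucc : ∀ i, v (i + 1) = ⁅x, v i⁆ := fun i => by
    simp only [hv, Function.iterate_succ_apply']
  have hmem : ∀ i, v i ∈ lc G i := by
    intro i
    induction i with
    | zero => simp [lc]
    | succ i ih =>
      rw [hsucc, ← commutatorElement_inv]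
      exact inv_mem (lc_step ih)
  refine ⟨v, by simp [hv], fun i => by rw [hsucc]; simp [commutatorElement_def], hmem, fun i hi => ?_⟩
  induction i with
  | zero => simpa [hv] using hs1
  | succ i ih =>
    rw [hsucc]
    intro h
    rw [← commutatorElement_inv, inv_mem_iff] at h
    rcases Nat.eq_zero_or_pos i with rfl | hi'
    · haveI hn : (Ck G 1).Normal := ⟨fun c hc g => by
        rw [show g * c * g⁻¹ = ⁅g, c⁆ * c by rw [commutatorElement_def]; group]
        refine mul_mem (lc_one_le_Ck 1 ?_) hc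
        rw [lc, Subgroup.lowerCentralSeries_succ]
        exact Subgroup.commutator_mem_commutator (by simp) (Subgroup.mem_top c)⟩
      -- `x` is central modulo the second term
      refine not_mem_Ck hx le_rfl (by omega) ?_
      set π := QuotientGroup.mk' (lc G 2)
      have hvs : v 0 = s := by simp [hv]
      rw [hvs] at h
      have hxs : Commute (π x) (π s) := by
        refine (commutatorElement_eq_one_iff_mul_comm.1 ?_ : π s * π x = π x * π s).symm
        rw [← map_commutatorElement]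
        exact (QuotientGroup.eq_one_iff _).2 h
      have hl1 : ∀ c ∈ lc G 1, ∀ g, Commute (π c) (π g) := fun c hc g =>
        commutatorElement_eq_one_iff_mul_comm.1 (by
          rw [← map_commutatorElement]
          exact (QuotientGroup.eq_one_iff _).2 (lc_step hc))
      have hCs : Ck G 1 = lc G 1 ⊔ Subgroup.zpowers s :=
        eq_sup_of_ne_top hx.toMaxCl (lc_one_le_Ck 1) (Ck_ne_top hx.toMaxCl le_rfl (by omega)) hs hs1
      have hCcen : ∀ c ∈ Ck G 1, Commute (π x) (π c) := fun c hc => by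
        rw [hCs] at hc
        obtain ⟨d, hd, _, ⟨k, rfl⟩, rfl⟩ := Subgroup.mem_sup_of_normal_left.1 hc
        rw [map_mul, map_zpow]
        exact (hl1 d hd x).symm.mul_right (hxs.zpow_right k)
      have htop : Ck G 1 ⊔ Subgroup.zpowers x = ⊤ := by
        by_contra hne
        have h1 := eq_sup_of_ne_top hx.toMaxCl ((lc_one_le_Ck 1).trans le_sup_left) hne
          (Subgroup.mem_sup_left hs) hs1
        exact not_mem_Ck hx le_rfl (by omega)
          (hCs.ge (h1.le (Subgroup.mem_sup_right (Subgroup.mem_zpowers x))))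
      -- then the first term collapses
      exfalso
      obtain ⟨a, ha, ha'⟩ := exists_depth hx.toMaxCl (k := 1) le_rfl (by omega)
      refine ha' ((?_ : lc G 1 ≤ lc G 2) ha)
      conv_lhs => rw [lc, Subgroup.lowerCentralSeries_succ]
      rw [Subgroup.commutator_le]
      intro g _ g' _
      refine (QuotientGroup.eq_one_iff _).1 ?_
      show π ⁅g, g'⁆ = 1
      rw [map_commutatorElement, commutatorElement_eq_one_iff_mul_comm]
      obtain ⟨c, hc, _, ⟨i, rfl⟩, rfl⟩ := Subgroup.mem_sup_of_normal_left.1 (htop.ge (Subgroup.mem_top g))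
      obtain ⟨d, hd, _, ⟨j, rfl⟩, rfl⟩ := Subgroup.mem_sup_of_normal_left.1 (htop.ge (Subgroup.mem_top g'))
      have hcd : Commute (π c) (π d) := by
        rw [hCs] at hc hd
        obtain ⟨c', hc', _, ⟨k, rfl⟩, rfl⟩ := Subgroup.mem_sup_of_normal_left.1 hc
        obtain ⟨d', hd', _, ⟨l, rfl⟩, rfl⟩ := Subgroup.mem_sup_of_normal_left.1 hd
        rw [map_mul, map_mul]
        exact (((hl1 c' hc' d').mul_right (hl1 c' hc' (s ^ l))).mul_left
          ((hl1 d' hd' (s ^ k)).symm.mul_right ((Commute.zpow_zpow_self s k l).map π)))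
      rw [map_mul, map_mul, map_zpow, map_zpow]
      exact ((hcd.mul_right ((hCcen c hc).symm.zpow_right j)).mul_left
        (((hCcen d hd).zpow_left i).mul_right (Commute.zpow_zpow_self (π x) i j))).eq
    · exact comm_not_mem hx hi' (by omega) (hmem i) (ih (by omega)) h

/-- Values at the bottom of the series commute with the derived group. -/
theorem commute_bottom (hm : MaxCl G p n) {w c : G} (hw : w ∈ lc G (n - 3)) (hc : c ∈ lc G 1)
    (h4 : 4 ≤ n) : Commute c w := by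
  have h := lc_comm hc hw
  rw [lc_eq_bot hm (by omega : n - 1 ≤ 1 + (n - 3) + 1), Subgroup.mem_bot] at h
  exact commutatorElement_eq_one_iff_mul_comm.1 h

/-- Conjugation by `x` on the values of the commutator pairing at the bottom. -/
theorem pairing_step (hm : MaxCl G p n) (h4 : 4 ≤ n) {x : G} {v : ℕ → G}
    (hv : ∀ i, x * v i * x⁻¹ = v (i + 1) * v i) (hmem : ∀ i, v i ∈ lc G i) {a b : ℕ}
    (h1 : ⁅v a, v (b + 1)⁆ ∈ lc G (n - 3)) (h2 : ⁅v a, v b⁆ ∈ lc G (n - 3))
    (h3 : ⁅v (a + 1), v b⁆ ∈ lc G (n - 3)) :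
    x * ⁅v a, v b⁆ * x⁻¹ =
      ⁅v a, v (b + 1)⁆ * ⁅v a, v b⁆ * ⁅v (a + 1), v (b + 1)⁆ * ⁅v (a + 1), v b⁆ := by
  have e : x * ⁅v a, v b⁆ * x⁻¹ = ⁅x * v a * x⁻¹, x * v b * x⁻¹⁆ := by
    simp only [commutatorElement_def]; group
  rw [e, hv, hv]
  refine comm_mul_mul _ _ _ _ fun w hw => ?_
  have hl : ∀ i, v (i + 1) ∈ lc G 1 := fun i => lc_anti (by omega) (hmem (i + 1))
  have hb : w ∈ lc G (n - 3) := by
    rcases hw with rfl | rfl | rfl
    · exact h1
    · exact h2
    · exact h3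
  exact ⟨commute_bottom hm hb (hl a) h4, commute_bottom hm hb (hl b) h4⟩

/-- An element fixing the next layers of two members fixes their commutator. -/
theorem commute_pair (hm : MaxCl G p n) {s a b : G} {i j : ℕ} (hij : n ≤ i + j + 4)
    (ha : a ∈ lc G i) (hb : b ∈ lc G j) (hsa : ⁅s, a⁆ ∈ lc G (i + 2)) (hsb : ⁅s, b⁆ ∈ lc G (j + 2)) :
    Commute s ⁅a, b⁆ := by
  have hc : ∀ {u w : G} {k l : ℕ}, n ≤ k + l + 2 → u ∈ lc G k → w ∈ lc G l → Commute u w := by
    intro u w k l hkl hu hw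
    have h := lc_comm hu hw
    rw [lc_eq_bot hm (by omega : n - 1 ≤ k + l + 1), Subgroup.mem_bot] at h
    exact commutatorElement_eq_one_iff_mul_comm.1 h
  have hab : ⁅a, b⁆ ∈ lc G (i + j + 1) := lc_comm ha hb
  have e : s * ⁅a, b⁆ * s⁻¹ = ⁅⁅s, a⁆ * a, ⁅s, b⁆ * b⁆ := by
    simp only [commutatorElement_def]; group
  have e1 : ⁅a, ⁅s, b⁆⁆ = 1 := commutatorElement_eq_one_iff_mul_comm.2 (hc (by omega) ha hsb)
  have e2 : ⁅⁅s, a⁆, b⁆ = 1 := commutatorElement_eq_one_iff_mul_comm.2 (hc (by omega) hsa hb)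
  have e3 : ⁅⁅s, a⁆, ⁅s, b⁆⁆ = 1 := commutatorElement_eq_one_iff_mul_comm.2 (hc (by omega) hsa hsb)
  rw [comm_mul_mul _ _ _ _ (fun w hw => by
    rcases hw with rfl | rfl | rfl
    · rw [e1]; exact ⟨Commute.one_right _, Commute.one_right _⟩
    · exact ⟨hc (by omega) hsa hab, hc (by omega) hsb hab⟩
    · rw [e2]; exact ⟨Commute.one_right _, Commute.one_right _⟩), e1, e2, e3, one_mul, mul_one,
    mul_one] at e
  exact mul_inv_eq_iff_eq_mul.1 e

/-- The last coincidence for small order. -/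
theorem Ck_last_of_small (hm : MaxCl G p n) (h6 : 6 ≤ n) (hsmall : n ≤ p + 3)
    (hC : ∀ j, 1 ≤ j → j + 5 ≤ n → Ck G j = Ck G 1) : Ck G (n - 4) = Ck G 1 := by
  by_contra hne
  obtain ⟨x, -, hx⟩ := exists_uniform_outside n hm ⊥ (fun e => by
    have h1 := hm.card
    rw [← Subgroup.card_top, ← e, Subgroup.card_bot] at h1
    exact absurd h1 (Nat.one_lt_pow (by omega) hp.out.one_lt).ne)
  have hxC : x ∉ Ck G 1 := not_mem_Ck hx le_rfl (by omega)
  obtain ⟨s, hs, hs'⟩ : ∃ s ∈ Ck G 1, s ∉ Ck G (n - 4) := by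
    by_contra h
    push Not at h
    refine hne (Subgroup.eq_of_le_of_card_ge h ?_).symm
    have e1 := (Ck G 1).card_mul_index
    have e2 := (Ck G (n - 4)).card_mul_index
    rw [Ck_index hm le_rfl (by omega)] at e1
    rw [Ck_index hm (by omega) (by omega), ← e1] at e2
    exact (Nat.eq_of_mul_eq_mul_right hp.out.pos e2).le
  have hs1 : s ∉ lc G 1 := fun h => hs' (lc_one_le_Ck _ h)
  obtain ⟨v, hv0, hv, hmem, hdepth⟩ := exists_seq hx hs hs1 (by omega)
  have hdeep := lc_comm_deep hm (m := n - 5) (fun j h1 h2 => hC j h1 (by omega)) hxC (by omega)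
  have hlow : ∀ {i j : ℕ}, i + j + 5 = n → ⁅v i, v j⁆ ∈ lc G (n - 3) := by
    intro i j hij
    rcases Nat.eq_zero_or_pos i with rfl | hi
    · rw [hv0, ← commutatorElement_inv]
      refine inv_mem (lc_anti (by omega) (mem_Ck.1 ((hC j (by omega) (by omega)).ge hs) _ (hmem j)))
    rcases Nat.eq_zero_or_pos j with rfl | hj
    · rw [hv0]
      exact lc_anti (by omega) (mem_Ck.1 ((hC i hi (by omega)).ge hs) _ (hmem i))
    exact lc_anti (by omega) (hdeep i hi j hj (by omega)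
      (Subgroup.commutator_mem_commutator (hmem i) (hmem j)))
  have hG : ∀ {i j : ℕ}, i + j + 4 = n → ⁅v i, v j⁆ ∈ lc G (n - 3) := fun hij =>
    lc_anti (by omega) (lc_comm (hmem _) (hmem _))
  -- the values in the second centre
  set π := QuotientGroup.mk' (lc G (n - 2))
  obtain ⟨g, hg⟩ : ∃ g : ℕ → G, g = fun i => ⁅v i, v (n - 4 - i)⁆ := ⟨_, rfl⟩
  have hg0 : g 0 ∉ lc G (n - 2) := by
    intro h
    refine hs' (mem_Ck_of_depth hm (by omega) (hmem (n - 4)) (hdepth _ (by omega)) ?_)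
    rw [hg] at h
    simp only [hv0, Nat.sub_zero] at h
    rw [← commutatorElement_inv, show n - 4 + 2 = n - 2 by omega]
    exact inv_mem h
  have hgrec : ∀ i, i + 5 ≤ n → π (g (i + 1)) = (π (g i))⁻¹ := by
    intro i hi
    have e := pairing_step hm (by omega) hv hmem (a := i) (b := n - 5 - i)
      (hG (by omega)) (hlow (by omega)) (hG (by omega))
    rw [show n - 5 - i + 1 = n - 4 - i by omega] at e
    have hz : π ⁅v (i + 1), v (n - 4 - i)⁆ = 1 :=
      (QuotientGroup.eq_one_iff _).2 (lc_anti (by omega) (lc_comm (hmem _) (hmem _)))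
    have hcen : ∀ w ∈ lc G (n - 3), ∀ u, Commute (π w) (π u) := fun w hw u =>
      commutatorElement_eq_one_iff_mul_comm.1 (by
        rw [← map_commutatorElement]
        exact (QuotientGroup.eq_one_iff _).2 (lc_anti (by omega) (lc_step hw)))
    have hh := hcen _ (hlow (i := i) (j := n - 5 - i) (by omega))
    have e' := congrArg π e
    rw [map_mul, map_mul, map_mul, map_mul, map_mul, hz, mul_one, map_inv, ← (hh x).eq,
      mul_inv_cancel_right, ← (hh _).eq, mul_assoc, left_eq_mul] at e'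
    rw [hg]
    simp only [show n - 4 - (i + 1) = n - 5 - i by omega]
    exact (inv_eq_of_mul_eq_one_right e').symm
  have hgpow : ∀ i, i + 4 ≤ n → π (g i) = π (g 0) ^ ((-1 : ℤ) ^ i) := by
    intro i
    induction i with
    | zero => intro _; simp
    | succ i ih =>
      intro hi
      rw [hgrec i (by omega), ih (by omega), ← zpow_neg, pow_succ]
      ring_nf
  -- `n` is odd
  obtain ⟨m, hm'⟩ : ∃ m, n = 2 * m + 3 := by
    by_contra hev
    push Not at hev
    obtain ⟨r, hr⟩ : ∃ r, n - 4 = 2 * r := ⟨(n - 4) / 2, by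
      rcases Nat.even_or_odd (n - 4) with ⟨r, hr⟩ | ⟨r, hr⟩
      · omega
      · exact absurd (show n = 2 * (r + 1) + 3 by omega) (hev (r + 1))⟩
    have h1 : g r = 1 := by
      rw [hg]
      simp only [show n - 4 - r = r by omega, commutatorElement_self]
    have h2 := hgpow r (by omega)
    rw [h1, map_one] at h2
    refine hg0 ((QuotientGroup.eq_one_iff _).1 ?_)
    rcases neg_one_pow_eq_or ℤ r with e | e <;> rw [e] at h2
    · rw [zpow_one] at h2; exact h2.symm
    · rw [zpow_neg, zpow_one] at h2; exact inv_eq_one.1 h2.symm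
  obtain ⟨δ, hδ⟩ : ∃ δ, δ = x * g 0 * x⁻¹ * (g 0)⁻¹ := ⟨_, rfl⟩
  have hg0mem : g 0 ∈ lc G (n - 3) := by rw [hg]; exact hG (by omega)
  have hδ1 : δ ≠ 1 := by
    intro h
    refine not_mem_Ck hx (k := n - 3) (by omega) (by omega)
      (mem_Ck_of_depth hm (by omega) hg0mem (by rwa [show n - 3 + 1 = n - 2 by omega]) ?_)
    have h' : x * g 0 * x⁻¹ = g 0 := mul_inv_eq_one.1 (hδ ▸ h)
    rw [commutatorElement_eq_one_iff_mul_comm.2 (mul_inv_eq_iff_eq_mul.1 h').symm]
    exact one_mem _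
  have hcz : ∀ z ∈ lc G (n - 2), ∀ u, Commute z u := fun z hz u =>
    (Subgroup.mem_center_iff.1 (lc_two_le_center hm hz) u).symm
  have hδmem : δ ∈ lc G (n - 2) := by
    rw [hδ, ← show ⁅x, g 0⁆ = x * g 0 * x⁻¹ * (g 0)⁻¹ from commutatorElement_def _ _,
      ← commutatorElement_inv]
    exact inv_mem (lc_anti (by omega) (lc_step hg0mem))
  have hxg : ∀ i, i + 4 ≤ n → x * g i * x⁻¹ = δ ^ ((-1 : ℤ) ^ i) * g i := by
    intro i hi
    obtain ⟨z, hz, e⟩ : ∃ z ∈ lc G (n - 2), g i = g 0 ^ ((-1 : ℤ) ^ i) * z :=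
      ⟨(g 0 ^ ((-1 : ℤ) ^ i))⁻¹ * g i, by
        refine (QuotientGroup.eq_one_iff _).1 ?_
        show π _ = 1
        rw [map_mul, map_inv, map_zpow, hgpow i hi, inv_mul_cancel], by group⟩
    have e0 : x * g 0 * x⁻¹ = δ * g 0 := by rw [hδ]; group
    rw [e, show x * (g 0 ^ ((-1 : ℤ) ^ i) * z) * x⁻¹ =
      x * g 0 ^ ((-1 : ℤ) ^ i) * (z * x⁻¹) by group, (hcz z hz x⁻¹).eq,
      ← mul_assoc _ x⁻¹ z, ← conj_zpow, e0, (hcz δ hδmem (g 0)).mul_zpow]
    group
  -- `s` centralizes the second centre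
  have hsM : ∀ b ∈ lc G (n - 3), Commute s b := by
    have hfix : ∀ {i : ℕ}, 1 ≤ i → i + 5 ≤ n → ⁅s, v i⁆ ∈ lc G (i + 2) := fun h1 h2 => by
      rw [← commutatorElement_inv]
      exact inv_mem (mem_Ck.1 ((hC _ h1 h2).ge hs) _ (hmem _))
    have h1 : Commute s (g 1) := by
      rw [hg]
      exact commute_pair hm (by omega) (hmem _) (hmem _) (hfix le_rfl (by omega))
        (hfix (by omega) (by omega))
    obtain ⟨z, hz, e⟩ : ∃ z ∈ lc G (n - 2), g 0 = (g 1)⁻¹ * z :=
      ⟨g 1 * g 0, by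
        refine (QuotientGroup.eq_one_iff _).1 ?_
        show π _ = 1
        rw [map_mul, hgrec 0 (by omega), inv_mul_cancel], by group⟩
    have h0 : Commute s (g 0) := e ▸ h1.inv_right.mul_right (hcz z hz s).symm
    intro b hb
    have hk : s ∈ Ck G (n - 3) := mem_Ck_of_depth hm (by omega) hg0mem
      (by rwa [show n - 3 + 1 = n - 2 by omega]) (by
        rw [commutatorElement_eq_one_iff_mul_comm.2 h0.eq.symm]; exact one_mem _)
    have h := mem_Ck.1 hk b hb
    rw [lc_eq_bot hm (by omega : n - 1 ≤ n - 3 + 2), Subgroup.mem_bot] at h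
    exact (commutatorElement_eq_one_iff_mul_comm.1 h).symm
  -- the values in the centre
  obtain ⟨f, hf⟩ : ∃ f : ℕ → G, f = fun i => ⁅v i, v (n - 3 - i)⁆ := ⟨_, rfl⟩
  have hfmem : ∀ i, i + 3 ≤ n → f i ∈ lc G (n - 2) := fun i hi => by
    rw [hf]; exact lc_anti (by omega) (lc_comm (hmem _) (hmem _))
  have hfrec : ∀ i, i + 4 ≤ n → f i * f (i + 1) = δ ^ ((-1 : ℤ) ^ i) := by
    intro i hi
    have e := pairing_step hm (by omega) hv hmem (a := i) (b := n - 4 - i)
      (lc_anti (by omega) (lc_comm (hmem _) (hmem _))) (hG (by omega))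
      (lc_anti (by omega) (lc_comm (hmem _) (hmem _)))
    have hz : ⁅v (i + 1), v (n - 4 - i + 1)⁆ = 1 := by
      have h := lc_comm (hmem (i + 1)) (hmem (n - 4 - i + 1))
      rwa [lc_eq_bot hm (by omega : n - 1 ≤ _), Subgroup.mem_bot] at h
    have hxgi := hxg i hi
    rw [hg] at hxgi
    simp only at hxgi
    rw [hxgi, hz, mul_one, show n - 4 - i + 1 = n - 3 - i by omega] at e
    have h3 : f (i + 1) = ⁅v (i + 1), v (n - 4 - i)⁆ := by
      rw [hf]; simp only [show n - 3 - (i + 1) = n - 4 - i by omega]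
    rw [show ⁅v i, v (n - 3 - i)⁆ = f i by rw [hf], ← h3, mul_assoc,
      ← (hcz _ (hfmem (i + 1) (by omega)) _).eq, ← mul_assoc] at e
    exact (mul_right_cancel e).symm
  have hfpow : ∀ i, i + 3 ≤ n → f i = δ ^ ((-1 : ℤ) ^ (i + 1) * i) := by
    intro i
    induction i with
    | zero =>
      intro _
      rw [hf]
      simp only [hv0, Nat.sub_zero, Nat.cast_zero, mul_zero, zpow_zero]
      exact commutatorElement_eq_one_iff_mul_comm.2 (hsM _ (hmem _))
    | succ i ih =>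
      intro hi
      have h := hfrec i (by omega)
      rw [ih (by omega)] at h
      rw [eq_inv_mul_of_mul_eq h, ← zpow_neg, ← zpow_add]
      congr 1
      push_cast
      ring
  have hfm : f m = 1 := by
    rw [hf]
    simp only [show n - 3 - m = m by omega, commutatorElement_self]
  have hm2 := hfpow m (by omega)
  rw [hfm] at hm2
  have hdvd : (orderOf δ : ℤ) ∣ (-1 : ℤ) ^ (m + 1) * m := orderOf_dvd_iff_zpow_eq_one.2 hm2.symm
  rw [Int.natCast_dvd, Int.natAbs_mul, Int.natAbs_pow] at hdvd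
  simp only [Int.natAbs_natCast, Int.reduceNeg, Int.natAbs_neg, Int.natAbs_one, one_pow, one_mul] at hdvd
  have hord : orderOf δ = p := by
    have h := (lc G (n - 2)).orderOf_dvd_natCard hδmem
    rw [card_lc hm (by omega), show n - 1 - (n - 2) = 1 by omega, pow_one] at h
    exact ((Nat.dvd_prime hp.out).1 h).resolve_left fun e => hδ1 (orderOf_eq_one_iff.1 e)
  rw [hord] at hdvd
  have := Nat.le_of_dvd (by omega) hdvd
  omega

/-- The two-step centralisers coincide up to the last but one. -/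
theorem Ck_eq_one : ∀ n {G : Type*} [Group G] [Finite G], MaxCl G p n →
    ∀ k, 1 ≤ k → k + 4 ≤ n → Ck G k = Ck G 1 := by
  intro n
  induction n using Nat.strong_induction_on with
  | _ n ih =>
  intro G _ _ hm k hk1 hk4
  obtain ⟨hq, hcomap⟩ := quot hm (by omega)
  have hlow : ∀ j, 1 ≤ j → j + 5 ≤ n → Ck G j = Ck G 1 := fun j h1 h2 => by
    rw [hcomap j (by omega), hcomap 1 (by omega), ih (n - 1) (by omega) hq j h1 (by omega)]
  by_cases hk : k + 5 ≤ n
  · exact hlow k hk1 hk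
  obtain rfl : k = n - 4 := by omega
  by_cases h5 : n = 5
  · subst h5; rfl
  by_cases hsmall : n ≤ p + 3
  · exact Ck_last_of_small hm (by omega) hsmall hlow
  obtain ⟨x, -, hx⟩ := exists_uniform_outside n hm ⊥ (fun e => by
    have h1 := hm.card
    rw [← Subgroup.card_top, ← e, Subgroup.card_bot] at h1
    exact absurd h1 (Nat.one_lt_pow (by omega) hp.out.one_lt).ne)
  have h2 := hp.out.two_le
  have hle : Ck G (n - 4 - (p - 1)) ≤ Ck G (n - 4) := by
    have h := Ck_le_shift hx (k := n - 4 - (p - 1)) (by omega)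
    rwa [show n - 4 - (p - 1) + (p - 1) = n - 4 by omega] at h
  rw [hlow _ (by omega) (by omega)] at hle
  refine (Subgroup.eq_of_le_of_card_ge hle ?_).symm
  have e1 := (Ck G 1).card_mul_index
  have e2 := (Ck G (n - 4)).card_mul_index
  rw [Ck_index hm le_rfl (by omega)] at e1
  rw [Ck_index hm (by omega) (by omega), ← e1] at e2
  exact (Nat.eq_of_mul_eq_mul_right hp.out.pos e2).le

/-- An exceptional last two-step centraliser forces even order exponent. -/
theorem even_of_exceptional (hm : MaxCl G p n) (h5 : 5 ≤ n) (hne : Ck G (n - 3) ≠ Ck G 1) :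
    Even n := by
  by_contra hodd
  rw [Nat.not_even_iff_odd] at hodd
  obtain ⟨q, hq⟩ := hodd
  obtain ⟨m, hm'⟩ : ∃ m, n = 2 * m + 3 := ⟨q - 1, by omega⟩
  obtain ⟨x, -, hx⟩ := exists_uniform_outside n hm ⊥ (fun e => by
    have h1 := hm.card
    rw [← Subgroup.card_top, ← e, Subgroup.card_bot] at h1
    exact absurd h1 (Nat.one_lt_pow (by omega) hp.out.one_lt).ne)
  obtain ⟨s, hs, hs'⟩ : ∃ s ∈ Ck G 1, s ∉ Ck G (n - 3) := by
    by_contra h
    push Not at h
    refine hne (Subgroup.eq_of_le_of_card_ge h ?_).symm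
    have e1 := (Ck G 1).card_mul_index
    have e2 := (Ck G (n - 3)).card_mul_index
    rw [Ck_index hm le_rfl (by omega)] at e1
    rw [Ck_index hm (by omega) (by omega), ← e1] at e2
    exact (Nat.eq_of_mul_eq_mul_right hp.out.pos e2).le
  have hs1 : s ∉ lc G 1 := fun h => hs' (lc_one_le_Ck _ h)
  obtain ⟨v, hv0, hv, hmem, hdepth⟩ := exists_seq hx hs hs1 (by omega)
  have hdeep := lc_comm_deep hm (m := n - 4) (fun j h1 h2 => Ck_eq_one n hm j h1 (by omega))
    (not_mem_Ck hx le_rfl (by omega)) (by omega)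
  have hG : ∀ {i j : ℕ}, i + j + 4 = n → ⁅v i, v j⁆ ∈ lc G (n - 2) := by
    intro i j hij
    rcases Nat.eq_zero_or_pos i with rfl | hi
    · rw [hv0, ← commutatorElement_inv]
      exact inv_mem (lc_anti (by omega)
        (mem_Ck.1 ((Ck_eq_one n hm j (by omega) (by omega)).ge hs) _ (hmem j)))
    rcases Nat.eq_zero_or_pos j with rfl | hj
    · rw [hv0]
      exact lc_anti (by omega) (mem_Ck.1 ((Ck_eq_one n hm i hi (by omega)).ge hs) _ (hmem i))
    exact lc_anti (by omega) (hdeep i hi j hj (by omega)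
      (Subgroup.commutator_mem_commutator (hmem i) (hmem j)))
  obtain ⟨f, hf⟩ : ∃ f : ℕ → G, f = fun i => ⁅v i, v (n - 3 - i)⁆ := ⟨_, rfl⟩
  have hfrec : ∀ i, i + 4 ≤ n → f (i + 1) = (f i)⁻¹ := by
    intro i hi
    have hcz : ∀ z ∈ lc G (n - 2), ∀ u, Commute z u := fun z hz u =>
      (Subgroup.mem_center_iff.1 (lc_two_le_center hm hz) u).symm
    have e := pairing_step hm (by omega) hv hmem (a := i) (b := n - 4 - i)
      (lc_anti (by omega) (lc_comm (hmem _) (hmem _))) (lc_anti (by omega) (hG (by omega)))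
      (lc_anti (by omega) (lc_comm (hmem _) (hmem _)))
    have hz : ⁅v (i + 1), v (n - 4 - i + 1)⁆ = 1 := by
      have h := lc_comm (hmem (i + 1)) (hmem (n - 4 - i + 1))
      rwa [lc_eq_bot hm (by omega : n - 1 ≤ _), Subgroup.mem_bot] at h
    have hh := hcz _ (hG (i := i) (j := n - 4 - i) (by omega))
    have h3 : f (i + 1) = ⁅v (i + 1), v (n - 4 - i)⁆ := by
      rw [hf]; simp only [show n - 3 - (i + 1) = n - 4 - i by omega]
    rw [← (hh x).eq, mul_inv_cancel_right, hz, mul_one, show n - 4 - i + 1 = n - 3 - i by omega,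
      ← h3, show ⁅v i, v (n - 3 - i)⁆ = f i by rw [hf], ← (hh (f i)).eq, mul_assoc,
      left_eq_mul] at e
    exact (inv_eq_of_mul_eq_one_right e).symm
  have hfpow : ∀ i, i + 3 ≤ n → f i = 1 → f 0 = 1 := by
    intro i
    induction i with
    | zero => exact fun _ h => h
    | succ i ih =>
      intro hi h
      rw [hfrec i (by omega), inv_eq_one] at h
      exact ih (by omega) h
  have hfm : f m = 1 := by
    rw [hf]
    simp only [show n - 3 - m = m by omega, commutatorElement_self]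
  have h0 := hfpow m (by omega) hfm
  refine hs' (mem_Ck_of_depth hm (by omega) (hmem (n - 3)) (hdepth _ (by omega)) ?_)
  rw [hf] at h0
  simp only [hv0, Nat.sub_zero] at h0
  rw [← commutatorElement_inv, h0, inv_one]
  exact one_mem _

/-- `φ` acts on the `k`-th factor as the power `ε`. -/
def Act (φ : G ≃* G) (k : ℕ) (ε : ℤ) : Prop := ∀ a ∈ lc G k, φ a * (a ^ ε)⁻¹ ∈ lc G (k + 1)

theorem map_lc_mem (φ : G ≃* G) {k : ℕ} {a : G} (ha : a ∈ lc G k) : φ a ∈ lc G k := by
  have h : (lc G k).map φ.toMonoidHom = lc G k :=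
    (Subgroup.map_lowerCentralSeries _ _ _).trans (congrArg (fun S => Subgroup.lowerCentralSeries S _)
      (Subgroup.map_top_of_surjective _ φ.surjective))
  exact h.le (Subgroup.mem_map_of_mem _ ha)

theorem map_Ck_mem (φ : G ≃* G) {k : ℕ} {g : G} (hg : g ∈ Ck G k) : φ g ∈ Ck G k := by
  refine mem_Ck.2 fun a ha => ?_
  have h := map_lc_mem φ (mem_Ck.1 hg _ (map_lc_mem φ.symm ha))
  rwa [map_commutatorElement, MulEquiv.apply_symm_apply] at h

theorem exists_exp (hm : MaxCl G p n) (φ : G ≃* G) {k : ℕ} (hk : k + 3 ≤ n) (hk1 : 1 ≤ k) {y : G}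
    (hy : y ∈ Ck G k) (hy1 : y ∉ lc G 1) : ∃ δ : ℤ, φ y * (y ^ δ)⁻¹ ∈ lc G 1 := by
  have h := map_Ck_mem φ hy
  rw [eq_sup_of_ne_top hm (lc_one_le_Ck k) (Ck_ne_top hm hk1 hk) hy hy1] at h
  obtain ⟨c, hc, _, ⟨δ, rfl⟩, e⟩ := Subgroup.mem_sup_of_normal_left.1 h
  exact ⟨δ, by rw [← e, mul_inv_cancel_right]; exact hc⟩

/-- The action on a factor through a commutator. -/
theorem act_step (hm : MaxCl G p n) (φ : G ≃* G) {k : ℕ} {a y : G} {ε δ : ℤ}
    (ha : a ∈ lc G k) (hφa : φ a * (a ^ ε)⁻¹ ∈ lc G (k + 1))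
    (hφy : ∀ c ∈ lc G k, ⁅c, φ y * (y ^ δ)⁻¹⁆ ∈ lc G (k + 2)) (hne : ⁅a, y⁆ ∉ lc G (k + 2)) :
    Act φ (k + 1) (ε * δ) := by
  set π := QuotientGroup.mk' (lc G (k + 2))
  have hcen : ∀ w ∈ lc G (k + 1), ∀ v : G, Commute (π w) (π v) := fun w hw v =>
    commutatorElement_eq_one_iff_mul_comm.1 (by
      rw [← map_commutatorElement]
      exact (QuotientGroup.eq_one_iff _).2 (lc_step hw))
  have hright : ∀ c ∈ lc G k, ∀ u v : G, π ⁅c, u * v⁆ = π ⁅c, u⁆ * π ⁅c, v⁆ := fun c hc u v => by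
    rw [show ⁅c, u * v⁆ = ⁅c, u⁆ * (u * ⁅c, v⁆ * u⁻¹) by simp only [commutatorElement_def]; group]
    simp only [map_mul, map_inv]
    rw [← (hcen _ (lc_step hc) u).eq, mul_inv_cancel_right]
  have hleft : ∀ c ∈ lc G k, ∀ d ∈ lc G k, ∀ u : G,
      π ⁅c * d, u⁆ = π ⁅c, u⁆ * π ⁅d, u⁆ := fun c hc d hd u => by
    rw [show ⁅c * d, u⁆ = c * ⁅d, u⁆ * c⁻¹ * ⁅c, u⁆ by simp only [commutatorElement_def]; group]
    simp only [map_mul, map_inv]
    rw [← (hcen _ (lc_step hd) c).eq, mul_inv_cancel_right, (hcen _ (lc_step hd) _).eq]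
  obtain ⟨c, hc, hcd⟩ : ∃ c ∈ lc G (k + 1), φ a = c * a ^ ε :=
    ⟨_, hφa, (inv_mul_cancel_right _ _).symm⟩
  obtain ⟨d, hd, hdy⟩ : ∃ d, (∀ c ∈ lc G k, ⁅c, d⁆ ∈ lc G (k + 2)) ∧ φ y = d * y ^ δ :=
    ⟨_, hφy, (inv_mul_cancel_right _ _).symm⟩
  have hpow_right : ∀ c ∈ lc G k, ∀ i : ℤ, π ⁅c, y ^ i⁆ = π ⁅c, y⁆ ^ i := fun c hc i =>
    map_zpow (MonoidHom.mk' (fun u => π ⁅c, u⁆) (hright c hc)) y i
  have hpow_left : ∀ i : ℤ, π ⁅a ^ i, y⁆ = π ⁅a, y⁆ ^ i := fun i => by
    have := map_zpow (MonoidHom.mk' (fun u : lc G k => π ⁅(u : G), y⁆)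
      fun u v => hleft u u.2 v v.2 y) ⟨a, ha⟩ i
    exact this
  have hd0 : π ⁅φ a, d⁆ = 1 := (QuotientGroup.eq_one_iff _).2 (hd _ (map_lc_mem φ ha))
  have hc0 : π ⁅c, y ^ δ⁆ = 1 := by
    rw [map_commutatorElement, commutatorElement_eq_one_iff_mul_comm]
    exact hcen c hc _
  have key : π (φ ⁅a, y⁆) = π ⁅a, y⁆ ^ (ε * δ) := by
    rw [map_commutatorElement φ, hdy, hright _ (map_lc_mem φ ha), hd0, one_mul, hcd,
      hleft c (lc_anti (by omega) hc) _ (zpow_mem ha ε), hc0, one_mul, hpow_right _ (zpow_mem ha ε),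
      hpow_left, ← zpow_mul]
  intro b hb
  rw [← sup_zpowers hm (by omega) (lc_step (y := y) ha) hne] at hb
  obtain ⟨w, hw, _, ⟨i, rfl⟩, rfl⟩ := Subgroup.mem_sup_of_normal_left.1 hb
  refine (QuotientGroup.eq_one_iff _).1 ?_
  show π _ = 1
  have hw1 : π w = 1 := (QuotientGroup.eq_one_iff _).2 hw
  have hw2 : π (φ w) = 1 := (QuotientGroup.eq_one_iff _).2 (map_lc_mem φ hw)
  simp only [map_mul, map_zpow, map_inv, key, hw1, hw2, one_mul]
  rw [← zpow_mul, ← zpow_mul, mul_comm (ε * δ), mul_inv_cancel]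

/-- Exponents of an action are unique modulo `p`. -/
theorem Act.congr (hm : MaxCl G p n) {φ : G ≃* G} {k : ℕ} (h1 : 1 ≤ k) (h2 : k + 2 ≤ n) {ε ε' : ℤ}
    (h : Act φ k ε) (h' : Act φ k ε') : (ε : ZMod p) = (ε' : ZMod p) := by
  obtain ⟨a, ha, ha'⟩ := exists_depth hm h1 h2
  have e : a ^ (ε' - ε) ∈ lc G (k + 1) := by
    have := mul_mem (inv_mem (h' a ha)) (h a ha)
    rw [mul_inv_rev, inv_inv, mul_assoc, inv_mul_cancel_left] at this
    rwa [zpow_sub]
  have hd : (p : ℤ) ∣ ε' - ε := by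
    by_contra hd
    obtain ⟨u, v, huv⟩ : IsCoprime (ε' - ε) (p : ℤ) :=
      ((Nat.prime_iff_prime_int.1 hp.out).coprime_iff_not_dvd.2 hd).symm
    refine ha' ?_
    have hp' : a ^ (p : ℤ) ∈ lc G (k + 1) := by
      rw [zpow_natCast]
      set N := lc G (k + 1)
      have hidx : (N.subgroupOf (lc G k)).index = p := by
        have e1 := (N.subgroupOf (lc G k)).card_mul_index
        rw [Nat.card_congr (Subgroup.subgroupOfEquivOfLe (lc_anti (Nat.le_succ k))).toEquiv,
          card_lc hm h1, card_lc hm (by omega), show n - 1 - k = n - 1 - (k + 1) + 1 by omega,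
          pow_succ] at e1
        exact Nat.eq_of_mul_eq_mul_left (pow_pos hp.out.pos _) e1
      have := Subgroup.pow_index_mem (N.subgroupOf (lc G k)) (⟨a, ha⟩ : lc G k)
      rw [hidx] at this
      exact this
    have := mul_mem (zpow_mem e u) (zpow_mem hp' v)
    rwa [← zpow_mul, ← zpow_mul, ← zpow_add, show (ε' - ε) * u + (p : ℤ) * v = 1 by
      rw [← huv]; ring, zpow_one] at this
  exact ((ZMod.intCast_eq_intCast_iff_dvd_sub ε ε' p).2 hd)

/-- No automorphism acts with these signs on the last three factors. -/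
theorem signs_false (hm : MaxCl G p n) (h5 : 5 ≤ n) (hp3 : p ≠ 2) (φ : G ≃* G) {ε₁ ε₂ ε₃ : ℤ}
    (h1 : Act φ (n - 4) ε₁) (h2 : Act φ (n - 3) ε₂) (h3 : Act φ (n - 2) ε₃)
    (h : (ε₁ = 1 ∧ ε₂ = 1 ∧ ε₃ = -1) ∨
      (ε₁ = 1 ∧ ε₂ = -1 ∧ ε₃ = 1 ∧ Ck G (n - 3) ≠ Ck G 1)) : False := by
  haveI : Fact (2 < p) := ⟨by have := hp.out.two_le; omega⟩
  have hne1 : (-1 : ZMod p) ≠ 1 := ZMod.neg_one_ne_one
  have hC : ∀ j, 1 ≤ j → j + 4 ≤ n → Ck G j = Ck G 1 := Ck_eq_one n hm
  have stepA : ∀ {y : G} {δ : ℤ}, φ y * (y ^ δ)⁻¹ ∈ lc G 1 → ∀ {k : ℕ} {ε : ℤ}, 1 ≤ k →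
      k + 3 ≤ n → y ∉ Ck G k → Act φ k ε → Act φ (k + 1) (ε * δ) := by
    intro y δ hy k ε hk1 hk3 hyk ha
    obtain ⟨a, ha1, ha2⟩ := exists_depth hm hk1 (by omega)
    exact act_step hm φ ha1 (ha a ha1) (fun c hc => lc_anti (by omega) (lc_comm hc hy))
      fun h => hyk (mem_Ck_of_depth hm hk1 ha1 ha2 h)
  by_cases he : Ck G (n - 3) = Ck G 1
  · rcases h with ⟨rfl, rfl, rfl⟩ | ⟨-, -, -, hne⟩
    swap
    · exact hne he
    -- an element outside moves both factors
    obtain ⟨x, -, hx⟩ := exists_uniform_outside n hm ⊥ (fun e => by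
      have h1 := hm.card
      rw [← Subgroup.card_top, ← e, Subgroup.card_bot] at h1
      exact absurd h1 (Nat.one_lt_pow (by omega) hp.out.one_lt).ne)
    obtain ⟨c, hc, hc1⟩ : ∃ c ∈ Ck G 1, c ∉ lc G 1 := by
      by_contra hcon
      push Not at hcon
      have e := Subgroup.card_le_of_le (hcon : Ck G 1 ≤ lc G 1)
      have e1 := (Ck G 1).card_mul_index
      rw [Ck_index hm le_rfl (by omega), hm.card] at e1
      rw [card_lc hm le_rfl] at e
      have := Nat.mul_le_mul_right p e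
      rw [e1, ← pow_succ] at this
      have := (Nat.pow_le_pow_iff_right hp.out.one_lt).1 this
      omega
    obtain ⟨δ, hδ⟩ : ∃ δ : ℤ, φ x * (x ^ δ)⁻¹ ∈ Ck G 1 := by
      have htop : Ck G 1 ⊔ Subgroup.zpowers x = ⊤ := by
        by_contra hne
        have h1 := eq_sup_of_ne_top hm ((lc_one_le_Ck 1).trans le_sup_left) hne
          (Subgroup.mem_sup_left hc) hc1
        have h2 := eq_sup_of_ne_top hm (lc_one_le_Ck 1) (Ck_ne_top hm le_rfl (by omega)) hc hc1
        exact not_mem_Ck hx le_rfl (by omega)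
          (h2.ge (h1.le (Subgroup.mem_sup_right (Subgroup.mem_zpowers x))))
      haveI : (Ck G 1).Normal := ⟨fun c hc g => by
        rw [show g * c * g⁻¹ = ⁅g, c⁆ * c by rw [commutatorElement_def]; group]
        refine mul_mem (lc_one_le_Ck 1 ?_) hc
        rw [lc, Subgroup.lowerCentralSeries_succ]
        exact Subgroup.commutator_mem_commutator (by simp) (Subgroup.mem_top c)⟩
      obtain ⟨c, hc, _, ⟨δ, rfl⟩, e⟩ :=
        Subgroup.mem_sup_of_normal_left.1 (htop.ge (Subgroup.mem_top (φ x)))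
      exact ⟨δ, by rw [← e, mul_inv_cancel_right]; exact hc⟩
    have hx1 : ∀ k ε, 1 ≤ k → n ≤ k + 4 → k + 3 ≤ n → Act φ k ε → Act φ (k + 1) (ε * δ) := by
      intro k ε hk1 hk4 hk3 ha
      obtain ⟨a, ha1, ha2⟩ := exists_depth hm hk1 (by omega)
      have hCk : Ck G k = Ck G 1 := by
        rcases (show k + 4 ≤ n ∨ k = n - 3 by omega) with h | rfl
        · exact hC k hk1 h
        · exact he
      exact act_step hm φ ha1 (ha a ha1) (fun c hc => mem_Ck.1 (hCk.ge hδ) c hc)
        (comm_not_mem hx hk1 hk3 ha1 ha2)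
    have e2 := hx1 _ _ (by omega) (by omega) (by omega) h1
    have e3 := hx1 _ _ (by omega) (by omega) (by omega) h2
    rw [show n - 4 + 1 = n - 3 by omega] at e2
    rw [show n - 3 + 1 = n - 2 by omega] at e3
    have q2 := Act.congr hm (by omega) (by omega) e2 h2
    have q3 := Act.congr hm (by omega) (by omega) e3 h3
    push_cast at q2 q3
    rw [one_mul] at q2 q3
    exact hne1 (q3.symm.trans q2)
  -- two invariant maximal subgroups
  obtain ⟨y, hy, hyC⟩ : ∃ y ∈ Ck G (n - 3), y ∉ Ck G 1 := by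
    by_contra h'
    push Not at h'
    refine he (Subgroup.eq_of_le_of_card_ge h' ?_)
    have e1 := (Ck G 1).card_mul_index
    have e2 := (Ck G (n - 3)).card_mul_index
    rw [Ck_index hm le_rfl (by omega)] at e1
    rw [Ck_index hm (by omega) (by omega), ← e1] at e2
    exact (Nat.eq_of_mul_eq_mul_right hp.out.pos e2).ge
  obtain ⟨c, hc, hcM⟩ : ∃ c ∈ Ck G 1, c ∉ Ck G (n - 3) := by
    by_contra h'
    push Not at h'
    refine he (Subgroup.eq_of_le_of_card_ge h' ?_).symm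
    have e1 := (Ck G 1).card_mul_index
    have e2 := (Ck G (n - 3)).card_mul_index
    rw [Ck_index hm le_rfl (by omega)] at e1
    rw [Ck_index hm (by omega) (by omega), ← e1] at e2
    exact (Nat.eq_of_mul_eq_mul_right hp.out.pos e2).le
  have hy1 : y ∉ lc G 1 := fun h => hyC (lc_one_le_Ck _ h)
  have hc1 : c ∉ lc G 1 := fun h => hcM (lc_one_le_Ck _ h)
  obtain ⟨b, hb⟩ := exists_exp hm φ (k := n - 3) (by omega) (by omega) hy hy1
  obtain ⟨a, ha⟩ := exists_exp hm φ (k := 1) (by omega) le_rfl hc hc1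
  have hL1 : Act φ 1 (a * b) := by
    refine act_step (k := 0) (y := y) hm φ (by simp [lc]) ha (fun u _ => ?_) ?_
    · rw [← commutatorElement_inv]
      exact inv_mem (lc_step hb)
    intro hcy
    -- the group would be generated by two elements commuting modulo the second term
    refine hyC (mem_Ck.2 fun u hu => ?_)
    obtain ⟨w, hw, hw'⟩ := exists_depth hm (k := 1) le_rfl (by omega)
    exfalso
    refine hw' ((?_ : lc G 1 ≤ lc G 2) hw)
    set π := QuotientGroup.mk' (lc G 2)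
    have hl1 : ∀ d ∈ lc G 1, ∀ g, Commute (π d) (π g) := fun d hd g =>
      commutatorElement_eq_one_iff_mul_comm.1 (by
        rw [← map_commutatorElement]
        exact (QuotientGroup.eq_one_iff _).2 (lc_step hd))
    have hcyc : Commute (π c) (π y) := commutatorElement_eq_one_iff_mul_comm.1 (by
      rw [← map_commutatorElement]
      exact (QuotientGroup.eq_one_iff _).2 hcy)
    have hK : lc G 1 ⊔ Subgroup.zpowers c ⊔ Subgroup.zpowers y = ⊤ := by
      by_contra hne
      have h1 := eq_sup_of_ne_top hm (le_sup_left.trans le_sup_left) hne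
        (Subgroup.mem_sup_left (Subgroup.mem_sup_right (Subgroup.mem_zpowers c))) hc1
      rw [← eq_sup_of_ne_top hm (lc_one_le_Ck 1) (Ck_ne_top hm le_rfl (by omega)) hc hc1] at h1
      exact hyC (h1.le (Subgroup.mem_sup_right (Subgroup.mem_zpowers y)))
    conv_lhs => rw [lc, Subgroup.lowerCentralSeries_succ]
    rw [Subgroup.commutator_le]
    intro g _ g' _
    refine (QuotientGroup.eq_one_iff _).1 ?_
    show π ⁅g, g'⁆ = 1
    rw [map_commutatorElement, commutatorElement_eq_one_iff_mul_comm]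
    haveI : (lc G 1 ⊔ Subgroup.zpowers c).Normal := by
      rw [← eq_sup_of_ne_top hm (lc_one_le_Ck 1) (Ck_ne_top hm le_rfl (by omega)) hc hc1]
      exact ⟨fun c hc g => by
        rw [show g * c * g⁻¹ = ⁅g, c⁆ * c by rw [commutatorElement_def]; group]
        refine mul_mem (lc_one_le_Ck 1 ?_) hc
        rw [lc, Subgroup.lowerCentralSeries_succ]
        exact Subgroup.commutator_mem_commutator (by simp) (Subgroup.mem_top c)⟩
    have hdec : ∀ g : G, ∃ d ∈ lc G 1, ∃ i j : ℤ, g = d * c ^ i * y ^ j := fun g => by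
      obtain ⟨e, he', _, ⟨j, rfl⟩, rfl⟩ :=
        Subgroup.mem_sup_of_normal_left.1 (hK.ge (Subgroup.mem_top g))
      obtain ⟨d, hd, _, ⟨i, rfl⟩, rfl⟩ := Subgroup.mem_sup_of_normal_left.1 he'
      exact ⟨d, hd, i, j, rfl⟩
    obtain ⟨d, hd, i, j, rfl⟩ := hdec g
    obtain ⟨d', hd', i', j', rfl⟩ := hdec g'
    simp only [map_mul, map_zpow]
    refine ((Commute.mul_left ?_ ?_).eq)
    · refine Commute.mul_left ?_ ?_
      · exact Commute.mul_right (Commute.mul_right (hl1 d hd d') ((hl1 d hd c).zpow_right _))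
          ((hl1 d hd y).zpow_right _)
      · exact Commute.mul_right (Commute.mul_right ((hl1 d' hd' c).symm.zpow_left _)
          (Commute.zpow_zpow_self _ _ _)) (hcyc.zpow_zpow _ _)
    · exact Commute.mul_right (Commute.mul_right ((hl1 d' hd' y).symm.zpow_left _)
        (hcyc.symm.zpow_zpow _ _)) (Commute.zpow_zpow_self _ _ _)
  have hLk : ∀ k, 1 ≤ k → k + 3 ≤ n → Act φ k (a * b ^ k) := by
    intro k hk1
    induction k, hk1 using Nat.le_induction with
    | base => intro _; rw [pow_one]; exact hL1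
    | succ k hk1 ih =>
      intro hk3
      have := stepA hb hk1 (by omega) (fun h => hyC ((hC k hk1 (by omega)) ▸ h)) (ih (by omega))
      rwa [mul_assoc, ← pow_succ] at this
  have e2 := stepA hb (by omega : 1 ≤ n - 4) (by omega)
    (fun h => hyC ((hC (n - 4) (by omega) (by omega)) ▸ h)) h1
  have e3 := stepA ha (by omega : 1 ≤ n - 3) (by omega) hcM h2
  rw [show n - 4 + 1 = n - 3 by omega] at e2
  rw [show n - 3 + 1 = n - 2 by omega] at e3
  have q1 := Act.congr hm (by omega) (by omega) (hLk (n - 4) (by omega) (by omega)) h1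
  have q2 := Act.congr hm (by omega) (by omega) e2 h2
  have q3 := Act.congr hm (by omega) (by omega) e3 h3
  rcases h with ⟨rfl, rfl, rfl⟩ | ⟨rfl, rfl, rfl, -⟩ <;> push_cast at q1 q2 q3 <;>
    simp only [one_mul, neg_mul] at q1 q2 q3
  · rw [q2, q3, one_pow, mul_one] at q1
    exact hne1 q1
  · have ha' : (a : ZMod p) = -1 := by rw [← q3, neg_neg]
    have hev : Even (n - 4) := by
      obtain ⟨r, hr⟩ := even_of_exceptional hm h5 he
      exact ⟨r - 2, by omega⟩
    rw [q2, ha', hev.neg_one_pow, mul_one] at q1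
    exact hne1 q1

end Cfsg.Agent.Fus.MCDeg
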