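import Mathlib
import Cfsg.Agent.Lib.Transfer.MaxClass
import Cfsg.Agent.S0662

/-!
The first two terms of the upper central series of a group of maximal class.
-/

set_option autoImplicit false
set_option linter.style.haveILetI false

namespace Cfsg.Agent.Fus.MC

open scoped commutatorElement

variable {G : Type*} [Group G] [Finite G] {p n : ℕ} [hp : Fact p.Prime]

/-- A normal subgroup `N` with cyclic quotient modulo a central-by-`k` condition has index at
least `p ^ 2` in a group of class above `1`. -/
theorem not_index_le_of_center_quot {Q : Type*} [Group Q] [Finite Q] (hQ : IsPGroup p Q)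
    (hna : ¬ ∀ a b : Q, a * b = b * a) : p ^ 2 ≤ (Subgroup.center Q).index := by
  obtain ⟨r, hr⟩ := hQ.index (Subgroup.center Q)
  rw [hr]
  refine Nat.pow_le_pow_right hp.out.pos ?_
  by_contra hc
  apply hna
  haveI : IsCyclic (Q ⧸ Subgroup.center Q) := by
    rcases (by omega : r = 0 ∨ r = 1) with h | h
    · rw [h, pow_zero, Subgroup.index_eq_card] at hr
      haveI := (Nat.card_eq_one_iff_unique.1 hr).1
      infer_instance
    · rw [h, pow_one, Subgroup.index_eq_card] at hr
      exact isCyclic_of_prime_card hr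
  exact fun a b => ((QuotientGroup.mk' (Subgroup.center Q)).isMulCommutative_of_isCyclic_of_ker_le_center (le_of_eq (QuotientGroup.ker_mk' _))).is_comm.comm a b

theorem class_gt_two (hG : Nat.card G = p ^ n) (hcl : Group.nilpotencyClass G = n - 1)
    (h4 : 4 ≤ n) : (⊤ : Subgroup G).lowerCentralSeries 2 ≠ ⊥ := by
  haveI : Group.IsNilpotent G := (IsPGroup.of_card hG).isNilpotent
  intro h
  have := Subgroup.lowerCentralSeries_eq_bot_iff_nilpotencyClass_le.1 h
  omega

theorem card_center (hG : Nat.card G = p ^ n) (hcl : Group.nilpotencyClass G = n - 1)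
    (h4 : 4 ≤ n) : Nat.card (Subgroup.center G) = p := by
  have hP := IsPGroup.of_card hG
  haveI : Group.IsNilpotent G := hP.isNilpotent
  have hna : ¬ ∀ a b : G, a * b = b * a := fun h => class_gt_two hG hcl h4 (by
    rw [eq_bot_iff, Subgroup.lowerCentralSeries_succ, Subgroup.commutator_le]
    exact fun a _ b _ => Subgroup.mem_bot.2 (commutatorElement_eq_one_iff_mul_comm.2 (h a b)))
  have h2 := not_index_le_of_center_quot hP hna
  obtain ⟨r, hr⟩ := hP.index (Subgroup.center G)
  rw [hr] at h2
  have hr2 : 2 ≤ r := (Nat.pow_le_pow_iff_right hp.out.one_lt).1 h2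
  have heq := (Cfsg.Agent.S0662.result n hG hcl (by omega)).1 _ r hr2 hr
  have hbot : (⊤ : Subgroup G).lowerCentralSeries r = ⊥ := by
    rw [show r = r - 1 + 1 by omega, Subgroup.lowerCentralSeries_succ, ← heq, eq_bot_iff,
      Subgroup.commutator_le]
    exact fun a ha b _ => Subgroup.mem_bot.2
      (commutatorElement_eq_one_iff_mul_comm.2 (Subgroup.mem_center_iff.1 ha b).symm)
  have hrn := Subgroup.lowerCentralSeries_eq_bot_iff_nilpotencyClass_le.1 hbot
  haveI : Nontrivial G := Finite.one_lt_card_iff_nontrivial.1 (by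
    rw [hG]; exact Nat.one_lt_pow (by omega) hp.out.one_lt)
  haveI := hP.center_nontrivial
  have h1 : 1 < Nat.card (Subgroup.center G) := Finite.one_lt_card
  have h := (Subgroup.center G).card_mul_index
  rw [hr, hG] at h
  obtain ⟨e, -, he⟩ := (Nat.dvd_prime_pow hp.out).1 (hG ▸ (Subgroup.center G).card_subgroup_dvd_card)
  rw [he] at h h1 ⊢
  rw [← pow_add] at h
  have := Nat.pow_right_injective hp.out.two_le h
  have he0 : e ≠ 0 := by rintro rfl; simp at h1
  rw [show e = 1 by omega, pow_one]

theorem card_upper_two (hG : Nat.card G = p ^ n) (hcl : Group.nilpotencyClass G = n - 1)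
    (h4 : 4 ≤ n) : Nat.card (Subgroup.upperCentralSeries G 2) = p ^ 2 := by
  have hP := IsPGroup.of_card hG
  haveI : Group.IsNilpotent G := hP.isNilpotent
  set Z := Subgroup.center G with hZ
  set U := Subgroup.upperCentralSeries G 2 with hU
  set π := QuotientGroup.mk' Z
  have hmem : ∀ g, g ∈ U ↔ π g ∈ Subgroup.center (G ⧸ Z) := by
    intro g
    rw [hU, show (2 : ℕ) = 1 + 1 from rfl, Subgroup.mem_upperCentralSeries_succ_iff,
      Subgroup.mem_center_iff]
    simp only [Subgroup.upperCentralSeries_one]
    constructor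
    · intro h q
      obtain ⟨y, rfl⟩ := QuotientGroup.mk'_surjective Z q
      rw [eq_comm, ← commutatorElement_eq_one_iff_mul_comm, ← map_commutatorElement]
      exact (QuotientGroup.eq_one_iff _).2 (h y)
    · intro h y
      have h' := h (π y)
      rw [eq_comm, ← commutatorElement_eq_one_iff_mul_comm, ← map_commutatorElement] at h'
      exact (QuotientGroup.eq_one_iff _).1 h'
  have hUc : U = (Subgroup.center (G ⧸ Z)).comap π := Subgroup.ext hmem
  have hna : ¬ ∀ a b : G ⧸ Z, a * b = b * a := fun h => class_gt_two hG hcl h4 (by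
    rw [eq_bot_iff, Subgroup.lowerCentralSeries_succ, Subgroup.lowerCentralSeries_succ,
      Subgroup.commutator_le]
    intro a ha b _
    have ha' : a ∈ Z := by
      refine (show ⁅(⊤ : Subgroup G).lowerCentralSeries 0, (⊤ : Subgroup G)⁆ ≤ Z from ?_) ha
      refine Subgroup.commutator_le.2 fun u _ v _ => (QuotientGroup.eq_one_iff _).1 ?_
      show π ⁅u, v⁆ = 1
      rw [map_commutatorElement, commutatorElement_eq_one_iff_mul_comm]
      exact h _ _
    exact Subgroup.mem_bot.2
      (commutatorElement_eq_one_iff_mul_comm.2 (Subgroup.mem_center_iff.1 ha' b).symm))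
  have h2 := not_index_le_of_center_quot (hP.to_quotient Z) hna
  have hidx : U.index = (Subgroup.center (G ⧸ Z)).index := by
    rw [hUc, Subgroup.index_comap_of_surjective _ (QuotientGroup.mk'_surjective Z)]
  obtain ⟨r, hr⟩ := hP.index U
  rw [← hidx, hr] at h2
  have hr2 : 2 ≤ r := (Nat.pow_le_pow_iff_right hp.out.one_lt).1 h2
  haveI : U.Normal := by rw [hU]; infer_instance
  have heq := (Cfsg.Agent.S0662.result n hG hcl (by omega)).1 U r hr2 hr
  have hbot : (⊤ : Subgroup G).lowerCentralSeries (r + 1) = ⊥ := by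
    have h1 : (⊤ : Subgroup G).lowerCentralSeries r ≤ Z := by
      rw [show r = r - 1 + 1 by omega, Subgroup.lowerCentralSeries_succ, ← heq,
        Subgroup.commutator_le]
      intro a ha b _
      refine (QuotientGroup.eq_one_iff _).1 ?_
      show π ⁅a, b⁆ = 1
      rw [map_commutatorElement, commutatorElement_eq_one_iff_mul_comm]
      exact (Subgroup.mem_center_iff.1 ((hmem a).1 ha) _).symm
    rw [Subgroup.lowerCentralSeries_succ, eq_bot_iff, Subgroup.commutator_le]
    exact fun a ha b _ => Subgroup.mem_bot.2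
      (commutatorElement_eq_one_iff_mul_comm.2 (Subgroup.mem_center_iff.1 (h1 ha) b).symm)
  have hrn := Subgroup.lowerCentralSeries_eq_bot_iff_nilpotencyClass_le.1 hbot
  have hlt : Nat.card Z < Nat.card U := by
    have hZU : Z ≤ U := fun z hz => (hmem z).2 (by
      rw [show π z = 1 from (QuotientGroup.eq_one_iff z).2 hz]; exact one_mem _)
    refine lt_of_le_of_ne (Subgroup.card_le_of_le hZU) fun e => ?_
    have heq' := Subgroup.eq_of_le_of_card_ge hZU e.ge
    haveI : Nontrivial (G ⧸ Z) := ⟨by
      by_contra hc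
      push Not at hc
      exact hna fun a b => (hc _ _)⟩
    haveI := (hP.to_quotient Z).center_nontrivial
    obtain ⟨⟨c, hc⟩, hc1⟩ := exists_ne (1 : Subgroup.center (G ⧸ Z))
    obtain ⟨y, rfl⟩ := QuotientGroup.mk'_surjective Z c
    exact hc1 (Subtype.ext ((QuotientGroup.eq_one_iff y).2 (heq'.ge ((hmem y).2 hc))))
  rw [card_center hG hcl h4] at hlt
  have h := U.card_mul_index
  rw [hr, hG] at h
  obtain ⟨e, -, he⟩ := (Nat.dvd_prime_pow hp.out).1 (hG ▸ U.card_subgroup_dvd_card)
  rw [he] at h hlt ⊢
  rw [← pow_add] at h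
  have := Nat.pow_right_injective hp.out.two_le h
  have he1 : 1 < e := (Nat.pow_lt_pow_iff_right hp.out.one_lt).1
    (show p ^ 1 < p ^ e by rw [pow_one]; exact hlt)
  rw [show e = 2 by omega]

end Cfsg.Agent.Fus.MC
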