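import Mathlib
import Cfsg.Agent.S0662
import Cfsg.Agent.Lib.Fus.MaxClassDegree
import Cfsg.Agent.Lib.Fus.MaxClassUpper
import Cfsg.Agent.Lib.Fus.MetacyclicTwoAut
import Cfsg.Agent.Lib.Transfer.OmegaMetacyclic
import Cfsg.Agent.Lib.Grp.Blackburn.Huppert
import Cfsg.Agent.Lib.Grp.Blackburn.Basic
import Cfsg.Agent.Lib.Fus.IsolatedPower

/-!
`3`-groups of maximal class and rank two: there is no wreath quotient, and in even exponent an
automorphism fixing the centre fixes the plane centraliser modulo the derived subgroup.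
-/

set_option autoImplicit false

namespace Cfsg.Agent.Fus.IsoSylow

open Subgroup
open Cfsg.Agent.Fus.MC (lc lc_comm lc_anti)
open scoped commutatorElement

/-- A metacyclic group has no elementary abelian section of rank at least three. -/
theorem metacyclic_section {X : Type*} [Group X] (hm : Cfsg.IsMetacyclic X) {Y : Type*} [Group Y]
    [Finite Y] {p : ℕ} [hp : Fact p.Prime] (f : X →* Y) (hf : Function.Surjective f)
    (hexp : ∀ y : Y, y ^ p = 1) : Nat.card Y ≤ p ^ 2 := by
  obtain ⟨n, x, hn, h⟩ := Fus.MetaTwo.exists_gens hm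
  let g : Fin p × Fin p → Y := fun t => f x ^ (t.1 : ℕ) * f n ^ (t.2 : ℕ)
  have hg : Function.Surjective g := by
    intro y
    obtain ⟨a, rfl⟩ := hf y
    obtain ⟨i, hi⟩ := h a
    obtain ⟨j, hj⟩ := mem_zpowers_iff.1 hi
    have ha : f a = f x ^ i * f n ^ j := by
      rw [← map_zpow, ← map_zpow, ← map_mul, hj, mul_inv_cancel_left]
    have hpZ : (p : ℤ) ≠ 0 := by exact_mod_cast hp.out.ne_zero
    have red : ∀ (w : Y) (t : ℤ), w ^ (t % p).toNat = w ^ t := by
      intro w t
      rw [← zpow_natCast, Int.toNat_of_nonneg (Int.emod_nonneg _ hpZ)]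
      conv_rhs => rw [← Int.emod_add_mul_ediv t p, zpow_add, zpow_mul w (p : ℤ), zpow_natCast, hexp,
        one_zpow, mul_one]
    have lt : ∀ t : ℤ, (t % p).toNat < p := by
      intro t
      have := Int.emod_lt_of_pos t (show (0 : ℤ) < p by exact_mod_cast hp.out.pos)
      have := Int.emod_nonneg t hpZ
      omega
    exact ⟨(⟨_, lt i⟩, ⟨_, lt j⟩), by simp only [g, red, ha]⟩
  have := Nat.card_le_card_of_surjective g hg
  simpa [Nat.card_prod, sq] using this

/-- A group mapping onto `Y` whose preimage of an elementary abelian `A` lies in a metacyclic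
subgroup. -/
theorem metacyclic_no_elementary {X : Type*} [Group X] {p : ℕ} [hp : Fact p.Prime] {Y : Type*} [Group Y]
    [Finite Y] (f : X →* Y) (hf : Function.Surjective f) (A : Subgroup Y) (hexp : ∀ a ∈ A, a ^ p = 1)
    (hm : Cfsg.IsMetacyclic (A.comap f)) : Nat.card A ≤ p ^ 2 := by
  refine metacyclic_section hm (f.subgroupComap A) ?_ fun y => Subtype.ext (hexp y y.2)
  rintro ⟨y, hy⟩
  obtain ⟨a, rfl⟩ := hf y
  exact ⟨⟨a, hy⟩, rfl⟩

section maxclass

variable {G : Type*} [Group G] [Finite G]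

/-- The data: order `3 ^ n`, class `n - 1`, rank at most two. -/
structure MC3 (G : Type*) [Group G] (n : ℕ) : Prop where
  card : Nat.card G = 3 ^ n
  cls : Group.nilpotencyClass G = n - 1
  four : 4 ≤ n
  rank : Cfsg.PRankLE 3 2 G

variable {n : ℕ}

/-- The centraliser of the normal plane. -/
def cenC (G : Type*) [Group G] (n : ℕ) : Subgroup G := Subgroup.centralizer (lc G (n - 3) : Set G)

instance cenC_normal : (cenC G n).Normal :=
  inferInstanceAs ((Subgroup.centralizer (lc G (n - 3) : Set G)).Normal)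

theorem MC3.lc_index (h : MC3 G n) {k : ℕ} (h1 : 1 ≤ k) (h2 : k ≤ n - 1) :
    (lc G k).index = 3 ^ (k + 1) :=
  haveI : Fact (Nat.Prime 3) := ⟨Nat.prime_three⟩
  Transfer.MaxClass.lcs_index h.card (by have := h.four; omega) h.cls h1 h2

theorem MC3.lc_card (h : MC3 G n) {k : ℕ} (h1 : 1 ≤ k) (h2 : k ≤ n - 1) :
    Nat.card (lc G k) = 3 ^ (n - (k + 1)) := by
  have e := (lc G k).card_mul_index
  rw [h.lc_index h1 h2, h.card] at e
  refine Nat.eq_of_mul_eq_mul_right (show 0 < 3 ^ (k + 1) from pow_pos (by norm_num) (k + 1)) ?_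
  rw [e, ← pow_add]; congr 1; have := h.four; omega

theorem MC3.lc_bot (h : MC3 G n) {k : ℕ} (hk : n - 1 ≤ k) : lc G k = ⊥ := by
  haveI : Fact (Nat.Prime 3) := ⟨Nat.prime_three⟩
  haveI : Group.IsNilpotent G := (IsPGroup.of_card h.card).isNilpotent
  exact Subgroup.lowerCentralSeries_eq_bot_iff_nilpotencyClass_le.2 (h.cls ▸ hk)

theorem MC3.normal_eq (h : MC3 G n) (N : Subgroup G) [N.Normal] {r : ℕ} (hr : 2 ≤ r)
    (hN : N.index = 3 ^ r) : N = lc G (r - 1) :=
  haveI : Fact (Nat.Prime 3) := ⟨Nat.prime_three⟩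
  (Cfsg.Agent.S0662.result n h.card h.cls (by have := h.four; omega)).1 N r hr hN

theorem MC3.plane (h : MC3 G n) :
    IsMulCommutative (lc G (n - 3)) ∧ (∀ a ∈ lc G (n - 3), a ^ 3 = 1) ∧ Nat.card (lc G (n - 3)) = 3 ^ 2 := by
  haveI : Fact (Nat.Prime 3) := ⟨Nat.prime_three⟩
  have h4 := h.four
  have hP := IsPGroup.of_card h.card
  have hnc : ¬ IsCyclic (⊤ : Subgroup G) := by
    intro hc
    haveI := isCyclic_of_surjective (⊤ : Subgroup G).subtype fun g => ⟨⟨g, mem_top g⟩, rfl⟩
    have h1 := h.cls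
    let := IsCyclic.commGroup (α := G)
    have := CommGroup.nilpotencyClass_le_one (G := G)
    omega
  obtain ⟨A, -, hAn, hAe, hA⟩ := Transfer.exists_normal_elementary (p := 3)
    (by norm_num) hP ⊤ hnc
  haveI := hAn
  have hidx : A.index = 3 ^ (n - 2) := by
    have e := A.card_mul_index
    rw [hA, h.card] at e
    refine Nat.eq_of_mul_eq_mul_left (show 0 < 3 ^ 2 by norm_num) ?_
    rw [e, ← pow_add]; congr 1; omega
  have hA' := h.normal_eq A (by omega) hidx
  rw [show n - 2 - 1 = n - 3 by omega] at hA'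
  subst hA'
  exact ⟨hAe.1, hAe.2, hA⟩

theorem MC3.center_eq (h : MC3 G n) : Subgroup.center G = lc G (n - 2) := by
  haveI : Fact (Nat.Prime 3) := ⟨Nat.prime_three⟩
  have h4 := h.four
  have hidx : (Subgroup.center G).index = 3 ^ (n - 1) := by
    have e := (Subgroup.center G).card_mul_index
    rw [Fus.MC.card_center h.card h.cls h4, h.card] at e
    refine Nat.eq_of_mul_eq_mul_left (show 0 < 3 by norm_num) ?_
    rw [e, ← pow_succ']; congr 1; omega
  have := h.normal_eq _ (by omega) hidx
  rwa [show n - 1 - 1 = n - 2 by omega] at this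

theorem MC3.plane_le_cenC (h : MC3 G n) : lc G (n - 3) ≤ cenC G n := fun a ha =>
  mem_centralizer_iff.2 fun b hb => congrArg Subtype.val
    ((haveI := h.plane.1; mul_comm' (⟨b, hb⟩ : lc G (n - 3)) ⟨a, ha⟩))

set_option maxHeartbeats 1000000 in
theorem MC3.cenC_index (h : MC3 G n) : (cenC G n).index = 3 := by
  haveI : Fact (Nat.Prime 3) := ⟨Nat.prime_three⟩
  have h4 := h.four
  have hne : cenC G n ≠ ⊤ := by
    intro e
    have hle : lc G (n - 3) ≤ Subgroup.center G := fun a ha => mem_center_iff.2 fun g =>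
      (mem_centralizer_iff.1 (show g ∈ cenC G n from e ▸ mem_top g) a ha).symm
    rw [h.center_eq] at hle
    have := Subgroup.card_le_of_le hle
    rw [h.plane.2.2, h.lc_card (by omega) (by omega), show n - (n - 2 + 1) = 1 by omega] at this
    norm_num at this
  obtain ⟨e0, he0, he0'⟩ := SetLike.exists_of_lt (lt_of_le_of_ne (lc_anti (G := G) (show n - 3 ≤ n - 2 by omega))
    fun e => by
      have := h.plane.2.2
      rw [← e, h.lc_card (by omega) (by omega), show n - (n - 2 + 1) = 1 by omega] at this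
      norm_num at this)
  have hcm : ∀ g : G, ⁅g, e0⁆ ∈ lc G (n - 2) := by
    intro g
    rw [show n - 2 = n - 3 + 1 by omega, lc, Subgroup.lowerCentralSeries_succ, Subgroup.commutator_comm]
    exact commutator_mem_commutator (mem_top g) he0
  have hzc : ∀ z ∈ lc G (n - 2), ∀ g : G, g * z = z * g := fun z hz g =>
    mem_center_iff.1 (h.center_eq.ge hz) g
  let χ : G →* lc G (n - 2) := MonoidHom.mk' (fun g => ⟨⁅g, e0⁆, hcm g⟩) fun a b => Subtype.ext (by
    show ⁅a * b, e0⁆ = ⁅a, e0⁆ * ⁅b, e0⁆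
    have hh := hzc _ (hcm b) a
    calc ⁅a * b, e0⁆ = a * ⁅b, e0⁆ * e0 * a⁻¹ * e0⁻¹ := by simp [commutatorElement_def]; group
      _ = ⁅b, e0⁆ * (a * e0 * a⁻¹ * e0⁻¹) := by rw [hh]; group
      _ = (a * e0 * a⁻¹ * e0⁻¹) * ⁅b, e0⁆ := (hzc _ (hcm b) _).symm
      _ = _ := by rw [← commutatorElement_def])
  have hker : χ.ker ≤ cenC G n := by
    intro g hg
    have hg' : ⁅g, e0⁆ = 1 := congrArg Subtype.val hg
    have hZ : lc G (n - 2) < (Subgroup.centralizer ({g} : Set G)) ⊓ lc G (n - 3) := by
      refine lt_of_le_of_ne (le_inf (fun z hz => mem_centralizer_singleton_iff.2 (hzc z hz g).symm)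
        (lc_anti (by omega))) fun e => he0' (e.ge ⟨mem_centralizer_singleton_iff.2
          (commutatorElement_eq_one_iff_mul_comm.1 hg').symm, he0⟩)
    have hall : lc G (n - 3) ≤ Subgroup.centralizer ({g} : Set G) := by
      refine (Subgroup.eq_of_le_of_card_ge (inf_le_right (a := Subgroup.centralizer ({g} : Set G))) ?_).ge.trans inf_le_left
      have h1 := Set.ncard_lt_ncard (SetLike.coe_ssubset_coe.2 hZ) (Set.toFinite _)
      change Nat.card (lc G (n - 2)) < Nat.card ↥(Subgroup.centralizer ({g} : Set G) ⊓ lc G (n - 3)) at h1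
      rw [h.lc_card (by omega) (by omega), show n - (n - 2 + 1) = 1 by omega] at h1
      have hd := Subgroup.card_dvd_of_le (inf_le_right (a := Subgroup.centralizer ({g} : Set G))
          (b := lc G (n - 3)))
      rw [h.plane.2.2] at hd ⊢
      obtain ⟨k, -, hk⟩ := (Nat.dvd_prime_pow Nat.prime_three).1 hd
      rw [hk] at h1 ⊢
      have : 1 < k := (Nat.pow_lt_pow_iff_right (by norm_num)).1 h1
      exact Nat.pow_le_pow_right (by norm_num) this
    exact mem_centralizer_iff.2 fun a ha => mem_centralizer_singleton_iff.1 (hall ha)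
  have hle : (cenC G n).index ≤ 3 := by
    refine (Nat.le_of_dvd ?_ (Subgroup.index_dvd_of_le hker)).trans ?_
    · exact Nat.pos_of_ne_zero Subgroup.index_ne_zero_of_finite
    rw [Subgroup.index_ker]
    refine (Subgroup.card_le_card_group _).trans_eq ?_
    rw [h.lc_card (by omega) (by omega), show n - (n - 2 + 1) = 1 by omega, pow_one]
  obtain ⟨k, hk⟩ := (IsPGroup.of_card h.card).index (cenC G n)
  rcases k with _ | _ | k
  · exact absurd (Subgroup.index_eq_one.1 (by simpa using hk)) hne
  · simpa using hk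
  · exfalso
    have : 3 ^ 2 ≤ 3 ^ (k + 2) := Nat.pow_le_pow_right (by norm_num) (by omega)
    rw [hk, show k + 1 + 1 = k + 2 by omega] at hle
    omega

theorem MC3.lc_one_le_cenC (h : MC3 G n) : lc G 1 ≤ cenC G n := by
  haveI : Fact (Nat.Prime 3) := ⟨Nat.prime_three⟩
  haveI : IsCyclic (G ⧸ cenC G n) := isCyclic_of_prime_card (p := 3) h.cenC_index
  rw [lc, top_lowerCentralSeries_one]
  exact Subgroup.Normal.quotient_commutative_iff_commutator_le.mp inferInstance

/-- Inside the plane centraliser the elements of order three form the plane. -/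
theorem MC3.omega_le (h : MC3 G n) {c : G} (hc : c ∈ cenC G n) (h3 : c ^ 3 = 1) : c ∈ lc G (n - 3) := by
  haveI : Fact (Nat.Prime 3) := ⟨Nat.prime_three⟩
  exact Grp.Blackburn.mem_of_centralizes h.rank h.plane.2.2
    (fun a ha b hb => congrArg Subtype.val ((haveI := h.plane.1; mul_comm' (⟨a, ha⟩ : lc G (n - 3)) ⟨b, hb⟩)))
    h.plane.2.1 h3 fun a ha => (mem_centralizer_iff.1 hc a ha).symm

theorem MC3.pcentral (h : MC3 G n) {H : Subgroup G} (hH : H ≤ cenC G n) :
    Grp.Blackburn.PCentral 3 H := fun c hc => mem_center_iff.2 fun g => Subtype.ext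
  (mem_centralizer_iff.1 (hH g.2) c (h.omega_le (hH c.2) (by simpa using congrArg Subtype.val hc))).symm

theorem MC3.metacyclic (h : MC3 G n) : Cfsg.IsMetacyclic (cenC G n) := by
  haveI : Fact (Nat.Prime 3) := ⟨Nat.prime_three⟩
  refine Grp.Blackburn.isMetacyclic_pCentral (by norm_num) ((IsPGroup.of_card h.card).to_subgroup _)
    (h.pcentral le_rfl) ?_
  intro A hA hexp
  haveI := hA
  have := h.rank (A.map (cenC G n).subtype) (Subgroup.map_isMulCommutative _ _) (by
    rintro _ ⟨a, ha, rfl⟩
    exact congrArg Subtype.val (hexp a ha))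
  rwa [Subgroup.card_map_of_injective (cenC G n).subtype_injective] at this

/-- The cubes of a normal subgroup between the plane and its centraliser generate the term two
steps below. -/
theorem MC3.cubes (h : MC3 G n) (H : Subgroup G) [H.Normal] {r : ℕ} (hr : H.index = 3 ^ r) (hr1 : 1 ≤ r)
    (hE : lc G (n - 3) ≤ H) (hH : H ≤ cenC G n) :
    Subgroup.closure ((fun c : G => c ^ 3) '' H) = lc G (r + 1) := by
  haveI : Fact (Nat.Prime 3) := ⟨Nat.prime_three⟩
  have hP : IsPGroup 3 H := (IsPGroup.of_card h.card).to_subgroup _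
  set D := Subgroup.closure ((fun c : G => c ^ 3) '' H)
  have hDH : D ≤ H := (closure_le _).2 (by rintro _ ⟨c, hc, rfl⟩; exact pow_mem hc 3)
  have hD : D = (Grp.Blackburn.powSub 3 H).map H.subtype := by
    rw [Grp.Blackburn.powSub, MonoidHom.map_closure]
    refine congrArg Subgroup.closure (Set.ext fun w => ?_)
    simp only [Set.mem_image, Set.mem_range, SetLike.mem_coe, exists_exists_eq_and, Subgroup.coe_subtype]
    exact ⟨fun ⟨c, hc, e⟩ => ⟨⟨c, hc⟩, by simpa using e⟩, fun ⟨c, e⟩ => ⟨c, c.2, by simpa using e⟩⟩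
  haveI : D.Normal := by
    refine ⟨fun d hd g => ?_⟩
    have hle : D.map (MulAut.conj g).toMonoidHom ≤ D := by
      rw [MonoidHom.map_closure, closure_le]
      rintro _ ⟨_, ⟨c, hc, rfl⟩, rfl⟩
      exact subset_closure ⟨g * c * g⁻¹, Subgroup.Normal.conj_mem inferInstance c hc g, conj_pow⟩
    exact hle ⟨d, hd, rfl⟩
  have hidx : D.index = (Grp.Blackburn.powSub 3 H).index * 3 ^ r := by
    rw [hD, Subgroup.index_map_subtype, hr]
  have hub : (Grp.Blackburn.powSub 3 H).index ≤ 3 ^ 2 := by
    refine (Grp.Blackburn.index_powSub_le (by norm_num) hP (h.pcentral hH)).trans ?_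
    rw [← h.plane.2.2]
    exact Nat.card_le_card_of_injective (fun c => (⟨(c.1 : G), h.omega_le (hH c.1.2)
      (by simpa using congrArg Subtype.val c.2)⟩ : lc G (n - 3)))
      fun a b e => Subtype.ext (Subtype.ext (congrArg (fun t : lc G (n - 3) => (t : G)) e))
  have hlb : 3 < (Grp.Blackburn.powSub 3 H).index := by
    by_contra hle
    push_neg at hle
    haveI := hP.isNilpotent
    have hcyc : IsCyclic H := by
      have hfr : (frattini H).index ≤ 3 :=
        (Nat.le_of_dvd (Nat.pos_of_ne_zero Subgroup.index_ne_zero_of_finite)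
          (Subgroup.index_dvd_of_le (Grp.Blackburn.powSub_le_frattini hP))).trans hle
      haveI : IsCyclic (H ⧸ frattini H) := by
        obtain ⟨k, hk⟩ := hP.index (frattini H)
        rcases k with _ | _ | k
        · haveI : Subsingleton (H ⧸ frattini H) :=
            (Nat.card_eq_one_iff_unique.1 (by rw [← Subgroup.index_eq_card, hk, pow_zero])).1
          exact isCyclic_of_subsingleton
        · exact isCyclic_of_prime_card (p := 3) (by rw [← Subgroup.index_eq_card, hk, pow_one])
        · exfalso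
          have : 3 ^ 2 ≤ 3 ^ (k + 2) := Nat.pow_le_pow_right (by norm_num) (by omega)
          rw [hk, show k + 1 + 1 = k + 2 by omega] at hfr
          omega
      obtain ⟨q, hq⟩ := IsCyclic.exists_generator (α := H ⧸ frattini H)
      obtain ⟨g, rfl⟩ := QuotientGroup.mk_surjective q
      refine ⟨g, fun a => ?_⟩
      have htop : Subgroup.zpowers g = ⊤ := by
        refine frattini_nongenerating (eq_top_iff.2 fun b _ => ?_)
        obtain ⟨i, hi⟩ := mem_zpowers_iff.1 (hq (QuotientGroup.mk b))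
        rw [← QuotientGroup.mk_zpow, QuotientGroup.eq] at hi
        rw [← mul_inv_cancel_left (g ^ i) b]
        exact mul_mem (mem_sup_left (zpow_mem (mem_zpowers g) i)) (mem_sup_right hi)
      exact mem_zpowers_iff.1 (htop.ge (mem_top a))
    haveI := hcyc
    haveI : IsCyclic (lc G (n - 3)) :=
      isCyclic_of_injective (Subgroup.inclusion hE) (Subgroup.inclusion_injective hE)
    obtain ⟨g, hg⟩ := IsCyclic.exists_generator (α := lc G (n - 3))
    have h9 := orderOf_eq_card_of_forall_mem_zpowers hg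
    have h3 : orderOf g ∣ 3 := orderOf_dvd_of_pow_eq_one (Subtype.ext (by simpa using h.plane.2.1 g g.2))
    rw [h9, h.plane.2.2] at h3
    norm_num at h3
  obtain ⟨k, hk⟩ := hP.index (Grp.Blackburn.powSub 3 H)
  rw [hk] at hub hlb
  have hk2 : k = 2 := by
    have h1 := (Nat.pow_le_pow_iff_right (by norm_num : 1 < 3)).1 hub
    have h2 : 1 < k := (Nat.pow_lt_pow_iff_right (by norm_num : 1 < 3)).1 (by simpa using hlb)
    omega
  rw [hk, hk2, ← pow_add] at hidx
  have := h.normal_eq D (by omega) hidx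
  rwa [show 2 + r - 1 = r + 1 by omega] at this

/-- The layers: the plane centraliser, then the lower central series. -/
def layer (G : Type*) [Group G] (n : ℕ) : ℕ → Subgroup G
  | 0 => cenC G n
  | k + 1 => lc G (k + 1)

instance layer_normal : ∀ k, (layer G n k).Normal
  | 0 => cenC_normal
  | _ + 1 => inferInstanceAs ((lc G _).Normal)

theorem MC3.layer_facts (h : MC3 G n) {k : ℕ} (hk : k ≤ n - 3) :
    (layer G n k).index = 3 ^ (k + 1) ∧ lc G (n - 3) ≤ layer G n k ∧ layer G n k ≤ cenC G n := by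
  rcases k with _ | k
  · exact ⟨by simpa [layer] using h.cenC_index, h.plane_le_cenC, le_rfl⟩
  · exact ⟨h.lc_index (by omega) (by omega), lc_anti hk, (lc_anti (by omega)).trans h.lc_one_le_cenC⟩

theorem MC3.cube_mem (h : MC3 G n) {k : ℕ} {c : G} (hc : c ∈ layer G n k) : c ^ 3 ∈ lc G (k + 2) := by
  have h4 := h.four
  by_cases hk : k ≤ n - 3
  · obtain ⟨h1, h2, h3⟩ := h.layer_facts hk
    have e := h.cubes _ h1 (by omega) h2 h3
    rw [show k + 1 + 1 = k + 2 by omega] at e
    exact e.le (subset_closure ⟨c, hc, rfl⟩)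
  · obtain ⟨j, rfl⟩ : ∃ j, k = j + 1 := ⟨k - 1, by omega⟩
    rw [h.plane.2.1 c ((lc_anti (G := G) (show n - 3 ≤ j + 1 by omega)) hc)]
    exact one_mem _

/-- A power action on one layer passes two layers down. -/
theorem MC3.act_step (h : MC3 G n) (φ : G ≃* G) {ε : ℕ} {k : ℕ} (hk : k + 2 ≤ n - 2)
    (hact : ∀ c ∈ layer G n k, φ c * (c ^ ε)⁻¹ ∈ lc G (k + 1)) :
    ∀ d ∈ layer G n (k + 2), φ d * (d ^ ε)⁻¹ ∈ lc G (k + 3) := by
  haveI : Fact (Nat.Prime 3) := ⟨Nat.prime_three⟩
  obtain ⟨h1, h2, h3⟩ := h.layer_facts (k := k) (by omega)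
  have hcl : Subgroup.closure ((fun c : G => c ^ 3) '' layer G n k) = lc G (k + 2) :=
    (h.cubes _ h1 (by omega) h2 h3).trans (by rw [show k + 1 + 1 = k + 2 by omega])
  set π := QuotientGroup.mk' (lc G (k + 3)) with hπ
  have hcen : ∀ d ∈ lc G (k + 2), π d ∈ Subgroup.center (G ⧸ lc G (k + 3)) := by
    intro d hd
    refine mem_center_iff.2 fun q => ?_
    obtain ⟨g, rfl⟩ := QuotientGroup.mk'_surjective (lc G (k + 3)) q
    refine (commutatorElement_eq_one_iff_mul_comm.1 ?_).symm
    rw [← map_commutatorElement]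
    exact (QuotientGroup.eq_one_iff _).2
      (by simpa [lc, Subgroup.lowerCentralSeries_succ] using commutator_mem_commutator hd (mem_top g))
  have hT : layer G n (k + 2) = lc G (k + 2) := rfl
  rw [hT]
  intro d hd
  suffices hsuf : π (φ d) = π d ^ ε by
    have h5 : π (φ d * (d ^ ε)⁻¹) = 1 := by rw [map_mul, map_inv, map_pow, hsuf, mul_inv_cancel]
    exact (QuotientGroup.eq_one_iff _).1 h5
  have hd0 := hd
  rw [← hcl] at hd
  induction hd using Subgroup.closure_induction with
  | mem w hw =>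
    obtain ⟨c, hc, rfl⟩ := hw
    set a := φ c * (c ^ ε)⁻¹ with ha
    have haM : a ∈ lc G (k + 1) := hact c hc
    have hφc : φ c = a * c ^ ε := by rw [ha, inv_mul_cancel_right]
    show π (φ (c ^ 3)) = π (c ^ 3) ^ ε
    rw [map_pow, hφc, map_pow, map_mul, map_pow, map_pow]
    have hcomm : ⁅c ^ ε, a⁆ ∈ lc G (k + 2) := by
      rw [lc, Subgroup.lowerCentralSeries_succ, Subgroup.commutator_comm]
      exact commutator_mem_commutator (mem_top _) haM
    have ha3 : π a ^ 3 = 1 := by
      rw [← map_pow]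
      exact (QuotientGroup.eq_one_iff _).2 (h.cube_mem (k := k + 1) haM)
    have hc3 : ⁅π (c ^ ε), π a⁆ ^ 3 = 1 := by
      rw [← map_commutatorElement, ← map_pow]
      exact (QuotientGroup.eq_one_iff _).2 (lc_anti (show k + 3 ≤ k + 2 + 2 by omega) (h.cube_mem (k := k + 2) hcomm))
    rw [← map_pow π c ε, Grp.Blackburn.mul_pow_of_comm (p := 3) (by norm_num)
      (by rw [← map_commutatorElement]; exact hcen _ hcomm) hc3, ha3, one_mul, map_pow, ← pow_mul, ← pow_mul,
      mul_comm]
  | one => simp only [map_one, one_pow]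
  | mul v w hv hw h1 h2 =>
    rw [map_mul, map_mul, map_mul, h1 (hcl.le hv), h2 (hcl.le hw),
      Commute.mul_pow (mem_center_iff.1 (hcen _ (hcl.le hw)) (π v))]
  | inv v hv h1 => rw [map_inv, map_inv, map_inv, h1 (hcl.le hv), inv_pow]

/-- In even exponent an automorphism fixing the centre fixes the plane centraliser modulo the derived
subgroup. -/
theorem MC3.fix_of_even (h : MC3 G n) (hn : Even n) (φ : G ≃* G)
    (hφ : ∀ z ∈ Subgroup.center G, φ z = z) : ∀ c ∈ cenC G n, φ c * c⁻¹ ∈ lc G 1 := by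
  haveI : Fact (Nat.Prime 3) := ⟨Nat.prime_three⟩
  have h4 := h.four
  set π := QuotientGroup.mk' (lc G 1)
  have hmap : ∀ k, ∀ a ∈ lc G k, φ a ∈ lc G k := fun k a ha => Fus.MCDeg.map_lc_mem φ ha
  have hC : ∀ c ∈ cenC G n, φ c ∈ cenC G n := by
    intro c hc
    refine mem_centralizer_iff.2 fun a ha => ?_
    have hs : φ.symm a ∈ lc G (n - 3) := Fus.MCDeg.map_lc_mem φ.symm ha
    rw [← φ.apply_symm_apply a, ← map_mul, ← map_mul]
    exact congrArg φ (mem_centralizer_iff.1 hc _ hs)
  obtain ⟨c0, hc0, hc0'⟩ := SetLike.exists_of_lt (lt_of_le_of_ne h.lc_one_le_cenC fun e => by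
    have := h.cenC_index
    rw [← e, h.lc_index le_rfl (by omega)] at this
    norm_num at this)
  set Cb := (cenC G n).map π
  have hCb : Nat.card Cb = 3 := by
    have e := Cb.card_mul_index
    rw [Subgroup.index_map_eq (cenC G n) (QuotientGroup.mk'_surjective _)
      (by rw [QuotientGroup.ker_mk']; exact h.lc_one_le_cenC), h.cenC_index] at e
    have e2 : Nat.card (G ⧸ lc G 1) = 9 := by
      rw [← Subgroup.index_eq_card, h.lc_index le_rfl (by omega)]; norm_num
    rw [e2] at e
    omega
  have hgen : ∀ q ∈ Cb, ∃ i : ℕ, π c0 ^ i = q := by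
    intro q hq
    have hz : Subgroup.zpowers (π c0) = Cb := by
      refine Subgroup.eq_of_le_of_card_ge (zpowers_le.2 ⟨c0, hc0, rfl⟩) ?_
      rw [Nat.card_zpowers, hCb]
      have hd : orderOf (π c0) ∣ 3 := hCb ▸ Subgroup.orderOf_dvd_natCard _ (mem_map_of_mem π hc0)
      rcases (Nat.dvd_prime Nat.prime_three).1 hd with h1 | h1
      · exact absurd ((QuotientGroup.eq_one_iff _).1 (orderOf_eq_one_iff.1 h1)) hc0'
      · exact h1.ge
    rw [← hz, ← mem_powers_iff_mem_zpowers] at hq
    exact hq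
  obtain ⟨ε, hε⟩ := hgen (π (φ c0)) (mem_map_of_mem π (hC c0 hc0))
  have hbase : ∀ c ∈ cenC G n, φ c * (c ^ ε)⁻¹ ∈ lc G 1 := by
    intro c hc
    obtain ⟨i, hi⟩ := hgen (π c) (mem_map_of_mem π hc)
    have hu : (c0 ^ i)⁻¹ * c ∈ lc G 1 := QuotientGroup.eq.1 ((QuotientGroup.mk_pow _ c0 i).trans hi)
    have h1 : π (φ c) = π (φ c0) ^ i := by
      rw [← map_pow, ← map_pow]
      refine (QuotientGroup.eq.2 ?_).symm
      have := hmap 1 _ hu
      rwa [map_mul, map_inv] at this
    refine (QuotientGroup.eq_one_iff _).1 ?_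
    show π _ = 1
    rw [map_mul, map_inv, map_pow, h1, ← hε, ← hi, ← pow_mul, ← pow_mul, mul_comm, mul_inv_cancel]
  obtain ⟨m, hm⟩ := hn
  have hdown : ∀ j, 2 * j ≤ n - 2 → ∀ c ∈ layer G n (2 * j), φ c * (c ^ ε)⁻¹ ∈ lc G (2 * j + 1) := by
    intro j
    induction j with
    | zero => intro _; exact hbase
    | succ j ih =>
      intro hj
      rw [show 2 * (j + 1) = 2 * j + 2 by ring]
      exact h.act_step φ (by omega) (ih (by omega))
  obtain ⟨j, hj⟩ : ∃ j, n - 2 = 2 * (j + 1) := ⟨m - 2, by omega⟩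
  have hlast := hdown (j + 1) (by omega)
  have hT : layer G n (2 * (j + 1)) = lc G (n - 2) := by rw [hj]; rfl
  rw [hT, show 2 * (j + 1) + 1 = n - 1 by omega, h.lc_bot le_rfl] at hlast
  obtain ⟨z, hz, hz1⟩ := SetLike.exists_of_lt (bot_lt_iff_ne_bot.2
    (show lc G (n - 2) ≠ ⊥ from fun e => by
      have := h.lc_card (k := n - 2) (by omega) (by omega)
      rw [e, Subgroup.card_bot, show n - (n - 2 + 1) = 1 by omega] at this
      norm_num at this))
  have hzε : z = z ^ ε := by
    have := mem_bot.1 (hlast z hz)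
    rw [hφ z (h.center_eq.ge hz), mul_inv_eq_one] at this
    exact this
  have hz3 : orderOf z = 3 := orderOf_eq_prime (h.plane.2.1 z (lc_anti (by omega) hz))
    fun e => hz1 (mem_bot.2 e)
  have h3 : ε % 3 = 1 := by
    have := (pow_inj_mod (x := z) (n := 1) (m := ε)).1 (by rwa [pow_one])
    rw [hz3] at this
    omega
  intro c hc
  refine (QuotientGroup.eq_one_iff _).1 ?_
  show π _ = 1
  have h9 := (QuotientGroup.eq_one_iff _).2 (hbase c hc)
  change π (φ c * (c ^ ε)⁻¹) = 1 at h9
  obtain ⟨i, hi⟩ := hgen (π c) (mem_map_of_mem π hc)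
  have hc3 : π c ^ 3 = 1 := by
    refine orderOf_dvd_iff_pow_eq_one.1 ?_
    exact hCb ▸ Subgroup.orderOf_dvd_natCard _ (mem_map_of_mem π hc)
  rw [map_mul, map_inv, map_pow, pow_eq_pow_mod ε hc3, h3, pow_one] at h9
  rw [map_mul, map_inv, h9]

/-- No quotient is the wreath product. -/
theorem MC3.no_wreath (h : MC3 G n) : ¬ ∃ (W : Sylow 3 (Equiv.Perm (Fin (3 ^ 2))))
    (f : G →* (W : Subgroup (Equiv.Perm (Fin (3 ^ 2))))), Function.Surjective f := by
  haveI : Fact (Nat.Prime 3) := ⟨Nat.prime_three⟩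
  have h4 := h.four
  rintro ⟨W, f, hf⟩
  obtain ⟨A, hA, hexp, hAc⟩ := exists_base W
  have hW : Nat.card (W : Subgroup (Equiv.Perm (Fin (3 ^ 2)))) = 3 ^ 4 := Fus.card_sylow_perm_sq W
  have hki : f.ker.index = 3 ^ 4 := by
    rw [Subgroup.index_ker, MonoidHom.range_eq_top.2 hf, Subgroup.card_top, hW]
  have hk := h.normal_eq f.ker (by norm_num) hki
  rw [show 4 - 1 = 3 by omega] at hk
  set B := A.comap f with hB
  have hBi : B.index = 3 := by
    have e := A.card_mul_index
    rw [hW, hAc] at e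
    rw [hB, Subgroup.index_comap_of_surjective _ hf]
    omega
  rcases Nat.lt_or_ge n 5 with h5 | h5
  · have hbot : f.ker = ⊥ := hk.trans (h.lc_bot (by omega))
    have hinj : Function.Injective f := (MonoidHom.ker_eq_bot_iff f).1 hbot
    have hBc : IsMulCommutative B := ⟨⟨fun a b => Subtype.ext (hinj (by
      simp only [Subgroup.coe_mul, map_mul]
      exact congrArg Subtype.val (hA.is_comm.comm (⟨f a, a.2⟩ : A) ⟨f b, b.2⟩)))⟩⟩
    have := h.rank B hBc fun a ha => hinj (by rw [map_pow, hexp _ ha, map_one])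
    have e := B.card_mul_index
    rw [hBi, h.card, show n = 4 by omega] at e
    omega
  · set C := cenC G n
    have hm := h.metacyclic
    have hne : B ≠ C := by
      intro e
      have hm' : Cfsg.IsMetacyclic (A.comap f) := by rw [← hB, e]; exact hm
      have h2 := metacyclic_no_elementary f hf A hexp hm'
      rw [hAc] at h2
      norm_num at h2
    haveI : B.Normal := by
      refine Subgroup.normal_of_index_eq_minFac_card ?_
      rw [hBi, h.card, Nat.pow_minFac (by omega), Nat.prime_three.minFac_eq]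
    haveI : IsCyclic (G ⧸ B) := isCyclic_of_prime_card (p := 3) hBi
    have hl1B : lc G 1 ≤ B := by
      rw [lc, top_lowerCentralSeries_one]
      exact Subgroup.Normal.quotient_commutative_iff_commutator_le.mp inferInstance
    have hsup : B ⊔ C = ⊤ := by
      rw [← Subgroup.index_eq_one]
      have hlt : B < B ⊔ C := lt_of_le_of_ne le_sup_left fun e => hne (by
        have hCB : C ≤ B := e.ge.trans' le_sup_right
        refine (Subgroup.eq_of_le_of_card_ge hCB ?_).symm
        have e1 := B.card_mul_index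
        have e2 := C.card_mul_index
        rw [hBi] at e1; rw [h.cenC_index] at e2
        omega)
      have := Subgroup.index_strictAnti hlt
      have hd := Subgroup.index_dvd_of_le (le_sup_left : B ≤ B ⊔ C)
      rw [hBi] at this hd
      rcases (Nat.dvd_prime Nat.prime_three).1 hd with h1 | h1 <;> omega
    have hBB : ∀ a ∈ B, ∀ b ∈ B, ⁅a, b⁆ ∈ lc G 3 := by
      intro a ha b hb
      rw [← hk, MonoidHom.mem_ker, map_commutatorElement]
      exact commutatorElement_eq_one_iff_mul_comm.2
        (congrArg Subtype.val (hA.is_comm.comm (⟨f a, ha⟩ : A) ⟨f b, hb⟩))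
    have hCC : ¬ ⁅C, C⁆ ≤ lc G 3 := by
      intro hle
      set π := QuotientGroup.mk' (lc G 3)
      have hmc : ∀ u ∈ lc G 1, ∀ g : G, π g * π u = π u * π g := by
        intro u hu g
        have hg : g ∈ B ⊔ C := hsup.ge (mem_top g)
        have hsub : B ⊔ C ≤ (Subgroup.centralizer ({π u} : Set (G ⧸ lc G 3))).comap π := by
          refine sup_le (fun b hb => ?_) fun c hc => ?_
          · refine mem_centralizer_singleton_iff.2 (commutatorElement_eq_one_iff_mul_comm.1 ?_)
            rw [← map_commutatorElement]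
            exact (QuotientGroup.eq_one_iff _).2 (hBB b hb u (hl1B hu))
          · refine mem_centralizer_singleton_iff.2 (commutatorElement_eq_one_iff_mul_comm.1 ?_)
            rw [← map_commutatorElement]
            exact (QuotientGroup.eq_one_iff _).2
              (hle (commutator_mem_commutator hc (h.lc_one_le_cenC hu)))
        exact mem_centralizer_singleton_iff.1 (hsub hg)
      have hl2 : lc G 2 ≤ lc G 3 := by
        rw [show lc G 2 = ⁅lc G 1, (⊤ : Subgroup G)⁆ from Subgroup.lowerCentralSeries_succ _ 1,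
          Subgroup.commutator_le]
        intro u hu g _
        refine (QuotientGroup.eq_one_iff _).1 ?_
        show π ⁅u, g⁆ = 1
        rw [map_commutatorElement]
        exact commutatorElement_eq_one_iff_mul_comm.2 (hmc u hu g).symm
      have := Subgroup.index_dvd_of_le hl2
      rw [h.lc_index (by omega) (by omega), h.lc_index (by omega) (by omega)] at this
      norm_num at this
    have hDl : ⁅C, C⁆ ≤ lc G 1 := by
      rw [show lc G 1 = ⁅(⊤ : Subgroup G), ⊤⁆ from Subgroup.lowerCentralSeries_succ _ 0]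
      exact commutator_mono le_top le_top
    obtain ⟨r, hr⟩ := (IsPGroup.of_card h.card).index ⁅C, C⁆
    have hr2 : 2 ≤ r := by
      have := Subgroup.index_dvd_of_le hDl
      rw [hr, h.lc_index le_rfl (by omega)] at this
      exact (Nat.pow_dvd_pow_iff_le_right (by norm_num)).1 this
    have hD := h.normal_eq ⁅C, C⁆ hr2 hr
    have hr3 : r - 1 ≤ n - 3 := by
      by_contra hr3
      exact hCC (hD ▸ lc_anti (by omega))
    obtain ⟨N, hN, hNc, hq⟩ := hm
    haveI := hN
    haveI := hq
    haveI := hNc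
    have hle : ⁅C, C⁆ ≤ N.map C.subtype := by
      have hcn : commutator C ≤ N := Subgroup.Normal.quotient_commutative_iff_commutator_le.mp inferInstance
      rw [← Subgroup.map_subtype_commutator]
      exact map_mono hcn
    haveI : IsCyclic (N.map C.subtype) := isCyclic_of_surjective _
      (N.equivMapOfInjective C.subtype C.subtype_injective).surjective
    have hE : lc G (n - 3) ≤ N.map C.subtype := ((lc_anti hr3).trans hD.ge).trans hle
    haveI : IsCyclic (lc G (n - 3)) :=
      isCyclic_of_injective (Subgroup.inclusion hE) (Subgroup.inclusion_injective hE)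
    obtain ⟨g, hg⟩ := IsCyclic.exists_generator (α := lc G (n - 3))
    have h9 := orderOf_eq_card_of_forall_mem_zpowers hg
    have h3 : orderOf g ∣ 3 := orderOf_dvd_of_pow_eq_one (Subtype.ext (by simpa using h.plane.2.1 g g.2))
    rw [h9, h.plane.2.2] at h3
    norm_num at h3

end maxclass

end Cfsg.Agent.Fus.IsoSylow
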