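import Mathlib
import Cfsg.Agent.Lib.Grp.Blackburn.Basic

/-!
The non-metacyclic families of `p`-groups of rank two, `p` odd, other than the groups of maximal
class: a power map is a homomorphism onto the central subgroup of order `p`.
-/

set_option autoImplicit false

namespace Cfsg.Agent.Fus.IsoSylow

open Subgroup

variable {G : Type*} [Group G]

/-- Generators `x, y, z` with `⟨y, z⟩` abelian, `x⁻¹ y x = y u^s` and `x⁻¹ z x = y^e z` for a
central `u`. -/
structure Gens (p : ℕ) (x y z u : G) (s e : ℕ) : Prop where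
  hxp : x ^ p = 1
  hyp : y ^ p = 1
  hup : u ^ p = 1
  hyz : Commute y z
  hxu : Commute x u
  hyu : Commute y u
  hzu : Commute z u
  hy : x⁻¹ * y * x = y * u ^ s
  hz : x⁻¹ * z * x = y ^ e * z

variable {p : ℕ} {x y z u : G} {s e : ℕ}

/-- The normal form. -/
def nf (x y z u : G) (i a b c : ℕ) : G := x ^ i * (y ^ a * z ^ b * u ^ c)

theorem mid_mul (h : Gens p x y z u s e) (a b c a' b' c' : ℕ) :
    (y ^ a * z ^ b * u ^ c) * (y ^ a' * z ^ b' * u ^ c') = y ^ (a + a') * z ^ (b + b') * u ^ (c + c') := by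
  have h1 : Commute (u ^ c) (y ^ a' * z ^ b') :=
    ((h.hyu.symm.pow_pow c a').mul_right (h.hzu.symm.pow_pow c b'))
  have h2 : Commute (z ^ b) (y ^ a') := h.hyz.symm.pow_pow b a'
  calc (y ^ a * z ^ b * u ^ c) * (y ^ a' * z ^ b' * u ^ c')
      = y ^ a * z ^ b * ((u ^ c) * (y ^ a' * z ^ b')) * u ^ c' := by group
    _ = y ^ a * z ^ b * ((y ^ a' * z ^ b') * u ^ c) * u ^ c' := by rw [h1.eq]
    _ = y ^ a * (z ^ b * y ^ a') * z ^ b' * (u ^ c * u ^ c') := by group
    _ = y ^ a * (y ^ a' * z ^ b) * z ^ b' * (u ^ c * u ^ c') := by rw [h2.eq]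
    _ = (y ^ a * y ^ a') * (z ^ b * z ^ b') * (u ^ c * u ^ c') := by group
    _ = _ := by rw [← pow_add, ← pow_add, ← pow_add]

theorem conj_one (h : Gens p x y z u s e) (a b c : ℕ) :
    (y ^ a * z ^ b * u ^ c) * x = x * (y ^ (a + e * b) * z ^ b * u ^ (c + s * a)) := by
  have hu : x⁻¹ * u ^ c * x = u ^ c := by
    rw [mul_assoc, (h.hxu.pow_right c).symm.eq, inv_mul_cancel_left]
  have hy : x⁻¹ * y ^ a * x = y ^ a * u ^ (s * a) := by
    have := (conj_pow (a := x⁻¹) (b := y) (i := a)).symm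
    rw [inv_inv] at this
    rw [this, h.hy, (h.hyu.pow_right s).mul_pow, ← pow_mul]
  have hz : x⁻¹ * z ^ b * x = y ^ (e * b) * z ^ b := by
    have := (conj_pow (a := x⁻¹) (b := z) (i := b)).symm
    rw [inv_inv] at this
    rw [this, h.hz, (h.hyz.pow_left e).mul_pow, ← pow_mul]
  have key : x⁻¹ * (y ^ a * z ^ b * u ^ c) * x = y ^ (a + e * b) * z ^ b * u ^ (c + s * a) := by
    calc x⁻¹ * (y ^ a * z ^ b * u ^ c) * x
        = (x⁻¹ * y ^ a * x) * (x⁻¹ * z ^ b * x) * (x⁻¹ * u ^ c * x) := by group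
      _ = (y ^ a * z ^ 0 * u ^ (s * a)) * (y ^ (e * b) * z ^ b * u ^ c) := by
          rw [hy, hz, hu, pow_zero, mul_one]; group
      _ = _ := by rw [mid_mul h, zero_add, add_comm (s * a)]
  rw [← key]; group

theorem choose_two_succ (n : ℕ) : (n + 1).choose 2 = n + n.choose 2 := by
  rw [Nat.choose_succ_succ, Nat.choose_one_right]

theorem conj_many (h : Gens p x y z u s e) : ∀ i a b c : ℕ, (y ^ a * z ^ b * u ^ c) * x ^ i =
    x ^ i * (y ^ (a + i * e * b) * z ^ b * u ^ (c + s * (i * a + e * b * i.choose 2))) := by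
  intro i
  induction i with
  | zero => intro a b c; simp
  | succ i ih =>
    intro a b c
    rw [pow_succ, ← mul_assoc, ih, mul_assoc, conj_one h, ← mul_assoc, choose_two_succ]
    ring_nf

theorem nf_mul (h : Gens p x y z u s e) (i a b c i' a' b' c' : ℕ) :
    nf x y z u i a b c * nf x y z u i' a' b' c' =
      nf x y z u (i + i') (a + i' * e * b + a') (b + b')
        (c + s * (i' * a + e * b * i'.choose 2) + c') := by
  simp only [nf]
  calc x ^ i * (y ^ a * z ^ b * u ^ c) * (x ^ i' * (y ^ a' * z ^ b' * u ^ c'))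
      = x ^ i * ((y ^ a * z ^ b * u ^ c) * x ^ i') * (y ^ a' * z ^ b' * u ^ c') := by group
    _ = x ^ i * (x ^ i' * (y ^ (a + i' * e * b) * z ^ b *
          u ^ (c + s * (i' * a + e * b * i'.choose 2)))) * (y ^ a' * z ^ b' * u ^ c') := by
        rw [conj_many h]
    _ = x ^ (i + i') * ((y ^ (a + i' * e * b) * z ^ b *
          u ^ (c + s * (i' * a + e * b * i'.choose 2))) * (y ^ a' * z ^ b' * u ^ c')) := by
        rw [pow_add]; group
    _ = _ := by rw [mid_mul h]

theorem nf_pow (h : Gens p x y z u s e) (i a b c : ℕ) : ∀ q : ℕ, nf x y z u i a b c ^ q =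
    nf x y z u (q * i) (q * a + i * e * b * q.choose 2) (q * b)
      (q * c + s * (i * a * q.choose 2 + i * i * e * b * q.choose 3 + e * b * i.choose 2 * q.choose 2)) := by
  intro q
  induction q with
  | zero => simp [nf]
  | succ q ih =>
    rw [pow_succ, ih, nf_mul h, choose_two_succ,
      show (q + 1).choose 3 = q.choose 2 + q.choose 3 from Nat.choose_succ_succ q 2]
    ring_nf

theorem eq_nf [Finite G] (h : Gens p x y z u s e) (hgen : closure ({x, y, z} : Set G) = ⊤) (g : G) :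
    ∃ i a b c, g = nf x y z u i a b c := by
  have hg : g ∈ Submonoid.closure ({x, y, z} : Set G) := by
    rw [← Subgroup.closure_toSubmonoid_of_finite, hgen]; trivial
  induction hg using Submonoid.closure_induction with
  | mem w hw =>
    rcases hw with rfl | rfl | rfl
    · exact ⟨1, 0, 0, 0, by simp [nf]⟩
    · exact ⟨0, 1, 0, 0, by simp [nf]⟩
    · exact ⟨0, 0, 1, 0, by simp [nf]⟩
  | one => exact ⟨0, 0, 0, 0, by simp [nf]⟩
  | mul v w _ _ hv hw =>
    obtain ⟨i, a, b, c, rfl⟩ := hv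
    obtain ⟨i', a', b', c', rfl⟩ := hw
    exact ⟨_, _, _, _, nf_mul h ..⟩

/-- The value of the `p ^ (m + 1)`-th power. -/
theorem pow_value [hp : Fact p.Prime] (h : Gens p x y z u s e) (hp2 : p ≠ 2) {m : ℕ}
    (hm : 5 ≤ p ∨ 1 ≤ m ∨ e = 0) (hzu : z ^ p ^ (m + 1) = u) (i a b c : ℕ) :
    nf x y z u i a b c ^ p ^ (m + 1) = u ^ b := by
  have h3 : 2 < p := lt_of_le_of_ne hp.out.two_le hp2.symm
  obtain ⟨k, hk⟩ := hp.out.dvd_choose_self (k := 2) two_ne_zero h3
  set U := p * c + s * (i * a * p.choose 2 + i * i * e * b * p.choose 3 + e * b * i.choose 2 * p.choose 2)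
    with hU
  have hP : nf x y z u i a b c ^ p = z ^ (p * b) * u ^ U := by
    rw [nf_pow h, nf, hk, show p * a + i * e * b * (p * k) = p * (a + i * e * b * k) by ring,
      pow_mul, h.hxp, one_pow, one_mul, pow_mul, h.hyp, one_pow, one_mul, hU, hk]
  have hU1 : (u ^ U) ^ p ^ m = 1 := by
    rcases m with _ | m
    · rw [pow_zero, pow_one]
      suffices p ∣ U by
        obtain ⟨l, hl⟩ := this
        rw [hl, pow_mul, h.hup, one_pow]
      have h2 : p ∣ p.choose 2 := ⟨k, hk⟩
      have he : p ∣ i * i * e * b * p.choose 3 := by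
        rcases hm with hm | hm | hm
        · exact (hp.out.dvd_choose_self (k := 3) (by omega) (by omega)).mul_left _
        · omega
        · simp [hm]
      exact dvd_add (dvd_mul_right p c)
        (((h2.mul_left _).add he).add (h2.mul_left _) |>.mul_left s)
    · rw [← pow_mul, mul_comm, pow_mul, pow_succ', pow_mul u p, h.hup, one_pow, one_pow]
  rw [pow_succ', pow_mul, hP, (h.hzu.pow_pow (p * b) U).mul_pow, hU1, mul_one, ← pow_mul,
    show p * b * p ^ m = p ^ (m + 1) * b by ring, pow_mul, hzu]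

/-- The power map is a homomorphism onto the group of any central element of order `p`. -/
theorem power_hom [Finite G] [hp : Fact p.Prime] (hrk : Cfsg.PRankLE p 2 G) (hp2 : p ≠ 2)
    (h : Gens p x y z u s e) (hgen : closure ({x, y, z} : Set G) = ⊤) {m : ℕ}
    (hm : 5 ≤ p ∨ 1 ≤ m ∨ e = 0) (hzu : z ^ p ^ (m + 1) = u) (hu1 : u ≠ 1) (hs : ¬ p ∣ s)
    {w : G} (hwc : w ∈ center G) (hwo : orderOf w = p) :
    (∀ g g' : G, (g * g') ^ p ^ (m + 1) = g ^ p ^ (m + 1) * g' ^ p ^ (m + 1)) ∧
      (∀ g : G, g ^ p ^ (m + 1) ∈ zpowers w) ∧ z ^ p ^ (m + 1) ≠ 1 := by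
  have hcomm : y * x ≠ x * y := by
    intro e1
    have h1 := h.hy
    rw [mul_assoc, e1, inv_mul_cancel_left, left_eq_mul] at h1
    have h2 := orderOf_dvd_of_pow_eq_one h1
    rw [orderOf_eq_prime h.hup hu1] at h2
    exact hs h2
  have huc : ∀ g : G, g * u = u * g := by
    intro g
    obtain ⟨i, a, b, c, rfl⟩ := eq_nf h hgen g
    exact (Commute.mul_left (h.hxu.pow_left i)
      (((h.hyu.pow_left a).mul_left (h.hzu.pow_left b)).mul_left (Commute.pow_self u c))).eq
  have hu : u ∈ zpowers w := by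
    by_contra hu
    have hwu : Commute w u := (mem_center_iff.1 hwc u).symm
    have hwp : w ^ p = 1 := hwo ▸ pow_orderOf_eq_one w
    set A : Subgroup G := zpowers w ⊔ zpowers u
    have hAe : A = closure ({w, u} : Set G) := by
      rw [show A = zpowers w ⊔ zpowers u from rfl, zpowers_eq_closure, zpowers_eq_closure, ← Subgroup.closure_union,
        Set.union_singleton, Set.pair_comm]
    have hcent : ∀ a ∈ A, ∀ g : G, g * a = a * g := by
      intro a ha
      have hle : A ≤ center G := sup_le (zpowers_le.2 hwc) (zpowers_le.2 (mem_center_iff.2 huc))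
      exact mem_center_iff.1 (hle ha)
    have hexp : ∀ a ∈ A, a ^ p = 1 := by
      intro a ha
      rw [hAe] at ha
      induction ha using Subgroup.closure_induction with
      | mem v hv => rcases hv with rfl | rfl; exacts [hwp, h.hup]
      | one => exact one_pow p
      | mul a b ha _ h1 h2 =>
        rw [← hAe] at ha
        rw [Commute.mul_pow (hcent a ha b).symm, h1, h2, one_mul]
      | inv a _ h1 => rw [inv_pow, h1, inv_one]
    have hAp : IsPGroup p A := fun a => ⟨1, Subtype.ext (by simpa using hexp a a.2)⟩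
    haveI : IsMulCommutative A := ⟨⟨fun a b => Subtype.ext (hcent _ b.2 _)⟩⟩
    have hle2 := hrk A inferInstance hexp
    obtain ⟨k, hk⟩ := IsPGroup.iff_card.1 hAp
    have hlt : Nat.card (zpowers w) < Nat.card A := Set.ncard_lt_ncard
      (SetLike.coe_ssubset_coe.2 (lt_of_le_of_ne le_sup_left fun e1 =>
        hu (e1.symm ▸ mem_sup_right (mem_zpowers u)))) (Set.toFinite _)
    rw [Nat.card_zpowers, hwo, hk] at hlt
    have hk2 : 2 ≤ k := by
      by_contra hk2
      exact absurd hlt (not_lt.2 ((Nat.pow_le_pow_right hp.out.pos (by omega : k ≤ 1)).trans_eq (pow_one p)))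
    have hA2 : Nat.card A = p ^ 2 := le_antisymm hle2 (hk ▸ Nat.pow_le_pow_right hp.out.pos hk2)
    have hyA := Grp.Blackburn.mem_of_centralizes hrk hA2 (fun a ha b _ => (hcent a ha b).symm) hexp
      h.hyp fun a ha => hcent a ha y
    exact hcomm (hcent y hyA x).symm
  refine ⟨fun g g' => ?_, fun g => ?_, hzu ▸ hu1⟩
  · obtain ⟨i, a, b, c, rfl⟩ := eq_nf h hgen g
    obtain ⟨i', a', b', c', rfl⟩ := eq_nf h hgen g'
    rw [nf_mul h, pow_value h hp2 hm hzu, pow_value h hp2 hm hzu, pow_value h hp2 hm hzu, pow_add]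
  · obtain ⟨i, a, b, c, rfl⟩ := eq_nf h hgen g
    rw [pow_value h hp2 hm hzu]
    exact pow_mem hu b

/-- In both families the central element is not trivial, for order reasons. -/
theorem u_ne_one [Finite G] [hp : Fact p.Prime] {n : ℕ} (hn : 3 ≤ n) (hG : Nat.card G = p ^ n)
    (h : Gens p x y z u s e) (hgen : closure ({x, y, z} : Set G) = ⊤) (hzu : z ^ p ^ (n - 3) = u) :
    u ≠ 1 := by
  intro hu
  subst hu
  classical
  let f : Fin p × Fin p × Fin (p ^ (n - 3)) → G := fun t => nf x y z 1 t.1 t.2.1 t.2.2 0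
  have hpos := hp.out.pos
  have hf : Function.Surjective f := by
    intro g
    obtain ⟨i, a, b, c, rfl⟩ := eq_nf h hgen g
    refine ⟨(⟨i % p, Nat.mod_lt _ hpos⟩, ⟨a % p, Nat.mod_lt _ hpos⟩,
      ⟨b % p ^ (n - 3), Nat.mod_lt _ (pow_pos hpos _)⟩), ?_⟩
    simp only [f, nf, one_pow, mul_one, ← pow_eq_pow_mod i h.hxp, ← pow_eq_pow_mod a h.hyp,
      ← pow_eq_pow_mod b hzu]
  have h1 := Nat.card_le_card_of_surjective f hf
  simp only [Nat.card_prod, Nat.card_fin, hG] at h1
  rw [show n = n - 3 + 3 by omega, pow_add] at h1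
  simp only [Nat.add_sub_cancel] at h1
  have h2 : p ^ (n - 3) * p ^ 3 ≤ p ^ (n - 3) * p ^ 2 := by linarith [h1, sq p]
  have h4 := Nat.le_of_mul_le_mul_left h2 (pow_pos hpos _)
  have := (Nat.pow_le_pow_iff_right hp.out.one_lt).1 h4
  omega

end Cfsg.Agent.Fus.IsoSylow
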