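import Mathlib
import Cfsg.Agent.Lib.Fus.IsolatedPower
import Cfsg.Agent.Lib.Fus.RankTwoFamilies
import Cfsg.Agent.Lib.Fus.MaxClassParity
import Cfsg.Agent.Lib.Fus.PearlCube
import Cfsg.Agent.Lib.Grp.Blackburn.Main
import Cfsg.Agent.S1447

/-!
The Sylow subgroup of a perfect group of rank two with an isolated element of order `p`, `p` odd.
-/

set_option autoImplicit false

namespace Cfsg.Agent.Fus.IsoSylow

open Subgroup
open Cfsg.Agent.Fus.MC (lc lc_anti)
open scoped commutatorElement

variable {K : Type*} [Group K] [Finite K] {p : ℕ} [hp : Fact p.Prime]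

theorem not_metacyclic (hper : commutator K = ⊤) (hp2 : p ≠ 2) (P : Sylow p K) {x : K}
    (hxP : x ∈ (P : Subgroup K)) (hx : orderOf x = p) (hiso : Cfsg.IsIsolated x) :
    ¬ Cfsg.IsMetacyclic (P : Subgroup K) := by
  intro hm
  have hp3 : 3 ≤ p := lt_of_le_of_ne hp.out.two_le hp2.symm
  have hnw : ¬ ∃ (W : Sylow p (Equiv.Perm (Fin (p ^ 2))))
      (f : (P : Subgroup K) →* (W : Subgroup (Equiv.Perm (Fin (p ^ 2))))), Function.Surjective f := by
    rintro ⟨W, f, hf⟩
    obtain ⟨A, -, hexp, hAc⟩ := exists_base W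
    have h1 := metacyclic_no_elementary f hf A hexp (Fus.MetaTwo.isMetacyclic_subgroup hm _)
    rw [hAc] at h1
    have := (Nat.pow_le_pow_iff_right hp.out.one_lt).1 h1
    omega
  have hle := le_commutator_normalizer hper P hnw
  set N := normalizer ((P : Subgroup K) : Set K)
  have hPN : (P : Subgroup K) ≤ N := le_normalizer
  haveI : ((P : Subgroup K).subgroupOf N).Normal := normal_in_normalizer
  have hcp : Nat.Coprime (Nat.card ((P : Subgroup K).subgroupOf N)) ((P : Subgroup K).subgroupOf N).index := by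
    rw [Nat.card_congr (subgroupOfEquivOfLe hPN).toEquiv, P.card_eq_multiplicity]
    refine Nat.Coprime.pow_left _ ((hp.out.coprime_iff_not_dvd).2 fun h => ?_)
    exact P.not_dvd_index (h.trans (relIndex_dvd_index_of_le hPN))
  obtain ⟨A', hA'⟩ := exists_right_complement'_of_coprime hcp
  set A := A'.map N.subtype with hA
  have hAN : A ≤ N := map_subtype_le A'
  have hAcop : (Nat.card A).Coprime p := by
    rw [hA, card_map_of_injective N.subtype_injective,
      ← hA'.symm.index_eq_card]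
    exact ((hp.out.coprime_iff_not_dvd).2 fun h =>
      P.not_dvd_index (h.trans (relIndex_dvd_index_of_le hPN))).symm
  have hfac : ∀ g ∈ N, ∃ q ∈ (P : Subgroup K), ∃ a ∈ A, g = q * a := by
    intro g hg
    obtain ⟨⟨q, a⟩, hqa⟩ := hA'.2 ⟨g, hg⟩
    exact ⟨(q.1 : K), q.2, (a.1 : K), ⟨a.1, a.2, rfl⟩, (congrArg Subtype.val hqa).symm⟩
  obtain ⟨-, -, hdisj, -⟩ := Cfsg.Agent.S1447.result p hp2 (P : Subgroup K) A P.isPGroup' hm hAN hAcop
  set R := ⁅(P : Subgroup K), A⁆ ⊔ ⁅(P : Subgroup K), (P : Subgroup K)⁆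
  have hR : ⁅(P : Subgroup K), N⁆ ≤ R := by
    refine commutator_le.2 fun u hu g hg => ?_
    obtain ⟨q, hq, a, ha, rfl⟩ := hfac g hg
    have e : ⁅u, q * a⁆ = ⁅u, q⁆ * (⁅q * u, a⁆ * ⁅q, a⁆⁻¹) := by
      simp only [commutatorElement_def]; group
    rw [e]
    exact mul_mem (mem_sup_right (commutator_mem_commutator hu hq))
      (mul_mem (mem_sup_left (commutator_mem_commutator (mul_mem hq hu) ha))
        (inv_mem (mem_sup_left (commutator_mem_commutator hq ha))))
  have hPA : ⁅(P : Subgroup K), A⁆ ≤ (P : Subgroup K) := by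
    refine commutator_le.2 fun u hu a ha => ?_
    have h1 := (mem_normalizer_iff.1 (hAN ha) u⁻¹).1 (inv_mem hu)
    rw [commutatorElement_def, show u * a * u⁻¹ * a⁻¹ = u * (a * u⁻¹ * a⁻¹) by group]
    exact mul_mem hu h1
  have hPP : ⁅(P : Subgroup K), (P : Subgroup K)⁆ ≤ (P : Subgroup K) := commutator_le_self _
  have htop : (⁅(P : Subgroup K), A⁆).subgroupOf (P : Subgroup K) ⊔ frattini (P : Subgroup K) = ⊤ := by
    rw [eq_top_iff]
    intro u _
    have hu : (u : K) ∈ R := hR (hle u.2)
    have hmap : R ≤ ((⁅(P : Subgroup K), A⁆).subgroupOf (P : Subgroup K) ⊔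
        commutator (P : Subgroup K)).map (P : Subgroup K).subtype := by
      rw [Subgroup.map_sup, map_subgroupOf_eq_of_le hPA, map_subtype_commutator]
    obtain ⟨w, hw, hwe⟩ := hmap hu
    have : w = u := Subtype.ext hwe
    subst this
    haveI := P.isPGroup'.isNilpotent
    exact sup_le_sup_left (Grp.pGroup_commutator_le_frattini P.isPGroup') _ hw
  have hPeq : (P : Subgroup K) ≤ ⁅(P : Subgroup K), A⁆ := fun u hu =>
    mem_subgroupOf.1 ((frattini_nongenerating htop).ge (mem_top (⟨u, hu⟩ : (P : Subgroup K))))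
  have hxA : x ∈ centralizer (A : Set K) := mem_centralizer_iff.2 fun a ha =>
    mem_centralizer_singleton_iff.1 (Invol.isolated_normalizer_le hiso P.isPGroup' hxP (hAN ha))
  have : x ∈ (⊥ : Subgroup K) := hdisj.le ⟨hPeq hxP, hxP, hxA⟩
  rw [mem_bot] at this
  rw [this, orderOf_one] at hx
  exact hp.out.ne_one hx.symm

/-- A Sylow subgroup given by generators and relations of the two families is impossible. -/
theorem not_family (hper : commutator K = ⊤) (hp2 : p ≠ 2) (hrk : Cfsg.PRankLE p 2 K) (P : Sylow p K)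
    {x : K} (hxP : x ∈ (P : Subgroup K)) (hx : orderOf x = p) (hiso : Cfsg.IsIsolated x)
    {n : ℕ} (hn : 4 ≤ n) (hcard : Nat.card (P : Subgroup K) = p ^ n)
    {X Y Z : (P : Subgroup K)} {s e : ℕ} (hgen : closure ({X, Y, Z} : Set (P : Subgroup K)) = ⊤)
    (hX : X ^ p = 1) (hY : Y ^ p = 1) (hZ : Z ^ p ^ (n - 2) = 1) (hYZ : Y * Z = Z * Y)
    (hXY : X⁻¹ * Y * X = Y * Z ^ (s * p ^ (n - 3))) (hXZ : X⁻¹ * Z * X = Y ^ e * Z) (hs : ¬ p ∣ s)
    (hm : 5 ≤ p ∨ 5 ≤ n ∨ e = 0) : False := by
  set u := Z ^ p ^ (n - 3) with hu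
  have hYZ' : Commute Y Z := hYZ
  have hYe : (Y ^ e) ^ p ^ (n - 3) = 1 := by
    rw [← pow_mul, show e * p ^ (n - 3) = p * (e * p ^ (n - 4)) by
      rw [show n - 3 = n - 4 + 1 by omega, pow_succ]; ring, pow_mul, hY, one_pow]
  have hconj : X⁻¹ * u * X = u := by
    have h1 := (conj_pow (a := X⁻¹) (b := Z) (i := p ^ (n - 3))).symm
    rw [inv_inv] at h1
    rw [hu, h1, hXZ, (hYZ'.pow_left e).mul_pow, hYe, one_mul]
  have hG : Gens p X Y Z u s e := by
    refine ⟨hX, hY, ?_, hYZ', ?_, hYZ'.pow_right _, Commute.self_pow _ _, ?_, hXZ⟩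
    · rw [hu, ← pow_mul, ← pow_succ, show n - 3 + 1 = n - 2 by omega, hZ]
    · show X * u = u * X
      conv_lhs => rw [← hconj, ← mul_assoc, ← mul_assoc, mul_inv_cancel, one_mul]
    · rw [hXY, hu, ← pow_mul, mul_comm (p ^ (n - 3))]
  have hu1 : u ≠ 1 := u_ne_one (by omega) hcard hG hgen hu.symm
  have hxc : (⟨x, hxP⟩ : (P : Subgroup K)) ∈ center (P : Subgroup K) := mem_center_iff.2 fun g =>
    Subtype.ext ((Invol.isolated_central hiso P.isPGroup' hxP g g.2).eq).symm
  have hzu : Z ^ p ^ (n - 4 + 1) = u := by rw [show n - 4 + 1 = n - 3 by omega]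
  have hrkP : Cfsg.PRankLE p 2 (P : Subgroup K) := by
    intro A hA hexp
    haveI := hA
    have := hrk (A.map (P : Subgroup K).subtype) (map_isMulCommutative _ _) (by
      rintro _ ⟨a, ha, rfl⟩
      exact congrArg Subtype.val (hexp a ha))
    rwa [card_map_of_injective (P : Subgroup K).subtype_injective] at this
  obtain ⟨hmul, himg, hne⟩ := power_hom hrkP hp2 hG hgen (m := n - 4)
    (by rcases hm with h | h | h; exacts [Or.inl h, Or.inr (Or.inl (by omega)), Or.inr (Or.inr h)])
    hzu hu1 hs hxc ((orderOf_mk _ _).trans hx)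
  refine power_absurd hper P hxP hx hiso (n - 4 + 1) (fun a ha b hb => ?_) (fun a ha => ?_)
    ⟨(Z : K), Z.2, fun e1 => hne (Subtype.ext (by simpa using e1))⟩
  · exact congrArg Subtype.val (hmul ⟨a, ha⟩ ⟨b, hb⟩)
  · obtain ⟨k, hk⟩ := mem_zpowers_iff.1 (himg ⟨a, ha⟩)
    exact mem_zpowers_iff.2 ⟨k, by simpa using congrArg Subtype.val hk⟩

/-- The focal part of even exponent. -/
theorem not_even (hper : commutator K = ⊤) [Fact (Nat.Prime 3)] (P : Sylow 3 K) {x : K}
    (hxP : x ∈ (P : Subgroup K)) (hx : orderOf x = 3) (hiso : Cfsg.IsIsolated x) {n : ℕ}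
    (h : MC3 (P : Subgroup K) n) : ¬ Even n := by
  intro hev
  classical
  have h4 := h.four
  set G := (P : Subgroup K)
  set N := normalizer (G : Set K)
  have hle := le_commutator_normalizer hper P h.no_wreath
  let act : N →* MulAut G := normalizerMonoidHom G
  have hact : ∀ (g : N) (u : G), ((act g u : G) : K) = (g : K) * u * (g : K)⁻¹ := fun g u => rfl
  have hfixC : ∀ g : N, ∀ c ∈ cenC G n, act g c * c⁻¹ ∈ lc G 1 := by
    intro g
    refine h.fix_of_even hev (act g) fun z hz => Subtype.ext ?_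
    have hzc : Nat.card (center G) = 3 := Fus.MC.card_center h.card h.cls h4
    have hx' : (⟨x, hxP⟩ : G) ∈ center G := mem_center_iff.2 fun u =>
      Subtype.ext ((Invol.isolated_central hiso P.isPGroup' hxP u u.2).eq).symm
    have hzp : zpowers (⟨x, hxP⟩ : G) = center G := by
      refine eq_of_le_of_card_ge (zpowers_le.2 hx') ?_
      rw [hzc, Nat.card_zpowers, orderOf_mk, hx]
    obtain ⟨k, hk⟩ := mem_zpowers_iff.1 (hzp.ge hz)
    have hgx : (g : K) * x * (g : K)⁻¹ = x := mul_inv_eq_iff_eq_mul.2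
      (mem_centralizer_singleton_iff.1 (Invol.isolated_normalizer_le hiso P.isPGroup' hxP g.2))
    rw [hact, ← hk, coe_zpow, ← conj_zpow, hgx]
  set π := QuotientGroup.mk' (lc G 1)
  have hab : ∀ a b : G ⧸ lc G 1, a * b = b * a := by
    intro a b
    obtain ⟨a, rfl⟩ := QuotientGroup.mk'_surjective (lc G 1) a
    obtain ⟨b, rfl⟩ := QuotientGroup.mk'_surjective (lc G 1) b
    refine commutatorElement_eq_one_iff_mul_comm.1 ?_
    rw [← map_commutatorElement]
    exact (QuotientGroup.eq_one_iff _).2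
      ((Subgroup.lowerCentralSeries_succ _ 0).ge (commutator_mem_commutator (mem_top a) (mem_top b)))
  obtain ⟨s, -, hs⟩ := SetLike.exists_of_lt (lt_top_iff_ne_top.2 (show cenC G n ≠ ⊤ from fun e => by
    have := h.cenC_index
    rw [e, index_top] at this
    omega))
  set q := QuotientGroup.mk' (cenC G n)
  have hq3 : Nat.card (G ⧸ cenC G n) = 3 := h.cenC_index
  have hqs : q s ≠ 1 := fun e => hs ((QuotientGroup.eq_one_iff _).1 e)
  have hgen : ∀ v : G ⧸ cenC G n, ∃ i : ℕ, i < 3 ∧ q s ^ i = v := by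
    intro v
    have h3 : orderOf (q s) = 3 :=
      ((Nat.dvd_prime Nat.prime_three).1 (hq3 ▸ orderOf_dvd_natCard (q s))).resolve_left
        fun e => hqs (orderOf_eq_one_iff.1 e)
    have hz : v ∈ zpowers (q s) := by
      rw [(card_eq_iff_eq_top (zpowers (q s))).1 (by rw [Nat.card_zpowers, h3, hq3])]; exact mem_top v
    obtain ⟨i, hi⟩ := (mem_powers_iff_mem_zpowers.2 hz)
    exact ⟨i % 3, Nat.mod_lt _ (by norm_num), by rw [← h3, pow_mod_orderOf]; exact hi⟩
  let D : N → G := fun g => s⁻¹ * act g s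
  have hpiC : ∀ g : N, ∀ c ∈ cenC G n, π (act g c) = π c := fun g c hc => by
    have := (QuotientGroup.eq_one_iff _).2 (hfixC g c hc)
    change π (act g c * c⁻¹) = 1 at this
    rwa [map_mul, map_inv, mul_inv_eq_one] at this
  -- an element moving `s` inside its coset fixes it modulo the derived subgroup
  have htriv : ∀ g : N, D g ∈ cenC G n → π (D g) = 1 := by
    intro g hg
    set d := (G.subgroupOf N).index with hd
    have hd3 : d.Coprime 3 := ((Nat.prime_three.coprime_iff_not_dvd).2 fun e =>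
      P.not_dvd_index (e.trans (relIndex_dvd_index_of_le le_normalizer))).symm
    haveI : (G.subgroupOf N).Normal := normal_in_normalizer
    have hin : ((g ^ d : N) : K) ∈ G := mem_subgroupOf.1 (Subgroup.pow_index_mem _ g)
    have hπd : π (act (g ^ d) s) = π s := by
      have e : act (g ^ d) s = ⟨_, hin⟩ * s * (⟨_, hin⟩ : G)⁻¹ := Subtype.ext (hact _ _)
      rw [e, map_mul, map_mul, map_inv, hab (π ⟨_, hin⟩), mul_inv_cancel_right]
    have hiter : ∀ j : ℕ, π (act (g ^ j) s) = π s * π (D g) ^ j := by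
      intro j
      induction j with
      | zero => rw [pow_zero, map_one, MulAut.one_apply, pow_zero, mul_one]
      | succ j ih =>
        rw [pow_succ, map_mul, MulAut.mul_apply,
          show act g s = s * D g from (mul_inv_cancel_left s (act g s)).symm, map_mul, map_mul, ih,
          hpiC _ _ hg, pow_succ, mul_assoc]
    have hpd : π (D g) ^ d = 1 := by
      have := hiter d
      rw [hπd] at this
      exact left_eq_mul.1 this
    have hp3 : π (D g) ^ 3 = 1 := by
      rw [← map_pow]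
      exact (QuotientGroup.eq_one_iff _).2 (lc_anti (show 1 ≤ 0 + 2 by omega) (h.cube_mem (k := 0) hg))
    have := Nat.dvd_gcd (orderOf_dvd_of_pow_eq_one hpd) (orderOf_dvd_of_pow_eq_one hp3)
    rw [Nat.coprime_iff_gcd_eq_one.1 hd3, Nat.dvd_one, orderOf_eq_one_iff] at this
    exact this
  -- all the moving elements move `s` alike
  have hsame : ∀ g g' : N, D g ∉ cenC G n → D g' ∉ cenC G n → π (D g) = π (D g') := by
    intro g g' hg hg'
    have hcls : ∀ k : N, D k ∉ cenC G n → q (D k) = q s := by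
      intro k hk
      obtain ⟨i, hi, he⟩ := hgen (q (D k))
      interval_cases i
      · rw [pow_zero] at he
        exact absurd ((QuotientGroup.eq_one_iff _).1 he.symm) hk
      · simpa using he.symm
      · exfalso
        have h3 : q s ^ 3 = 1 := hq3 ▸ pow_card_eq_one'
        have hz : q (act k s) = 1 := by
          rw [show act k s = s * D k from (mul_inv_cancel_left s (act k s)).symm, map_mul, ← he,
            ← pow_succ', h3]
        have hmem : act k s ∈ cenC G n := (QuotientGroup.eq_one_iff _).1 hz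
        have h2 : π s = π (act k s) := by
          have h5 := hpiC k⁻¹ _ hmem
          rw [← MulAut.mul_apply, ← map_mul, inv_mul_cancel, map_one, MulAut.one_apply] at h5
          exact h5
        have h6 : s⁻¹ * act k s ∈ lc G 1 := QuotientGroup.eq.1 h2
        exact hk (h.lc_one_le_cenC h6)
    have hl : (D g)⁻¹ * D g' ∈ cenC G n := QuotientGroup.eq.1 ((hcls g hg).trans (hcls g' hg').symm)
    have h1 : π (act g' s) = π (act g s) * π ((D g)⁻¹ * D g') := by
      rw [← map_mul]; congr 1; simp only [D]; group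
    have h2 : π (act (g⁻¹ * g') s) = π s * π ((D g)⁻¹ * D g') := by
      have hl1 : (act g s * ((D g)⁻¹ * D g'))⁻¹ * act g' s ∈ lc G 1 :=
        QuotientGroup.eq.1 ((map_mul π _ _).trans h1.symm)
      have hl2 := Fus.MCDeg.map_lc_mem (act g⁻¹) hl1
      rw [map_mul, map_inv, map_mul] at hl2
      have h3 : π (act g⁻¹ (act g s) * act g⁻¹ ((D g)⁻¹ * D g')) = π (act g⁻¹ (act g' s)) :=
        QuotientGroup.eq.2 hl2
      rw [← MulAut.mul_apply, ← map_mul, inv_mul_cancel, map_one, MulAut.one_apply, ← MulAut.mul_apply,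
        ← map_mul, map_mul π, hpiC _ _ hl] at h3
      exact h3.symm
    have h4 : π (D (g⁻¹ * g')) = π ((D g)⁻¹ * D g') := by
      simp only [D, map_mul π, map_inv π, h2, inv_mul_cancel_left]
    have h5 : D (g⁻¹ * g') ∈ cenC G n := by
      have h6 := QuotientGroup.eq.1 h4
      have h7 := mul_mem hl (inv_mem (h.lc_one_le_cenC h6))
      convert h7 using 1
      group
    have h8 := htriv _ h5
    rw [h4, map_mul, map_inv, inv_mul_eq_one] at h8
    exact h8
  obtain ⟨m, hm⟩ : ∃ m : G ⧸ lc G 1, ∀ g : N, π (D g) ∈ zpowers m := by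
    by_cases hex : ∃ g : N, D g ∉ cenC G n
    · obtain ⟨g, hg⟩ := hex
      refine ⟨π (D g), fun g' => ?_⟩
      by_cases hg' : D g' ∈ cenC G n
      · rw [htriv g' hg']; exact one_mem _
      · rw [← hsame g g' hg hg']; exact mem_zpowers _
    · push_neg at hex
      exact ⟨1, fun g => by rw [htriv g (hex g)]; exact one_mem _⟩
  set M := (zpowers m).comap π
  have hM : M ≠ ⊤ := by
    intro e
    have htop : zpowers m = ⊤ := eq_top_iff.2 fun v _ => by
      obtain ⟨w, rfl⟩ := QuotientGroup.mk'_surjective (lc G 1) v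
      exact (e ▸ mem_top w : w ∈ M)
    have hV : Nat.card (G ⧸ lc G 1) = 9 := by
      rw [← Subgroup.index_eq_card, h.lc_index le_rfl (by omega)]; norm_num
    have h9 : orderOf m = 9 := by rw [← Nat.card_zpowers, htop, card_top, hV]
    have h3 : orderOf m ∣ 3 := by
      obtain ⟨w, rfl⟩ := QuotientGroup.mk'_surjective (lc G 1) m
      refine orderOf_dvd_of_pow_eq_one ?_
      rw [← map_pow]
      refine (QuotientGroup.eq_one_iff _).2 ?_
      rw [lc, top_lowerCentralSeries_one]
      refine Cfsg.Agent.Transfer.MaxClass.pow_mem_commutator P.isPGroup' ?_ ?_ w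
      · exact Cfsg.Agent.Transfer.MaxClass.commutator_index_of_class h.card (by omega) h.cls
      · intro hb
        have := h.lc_card (k := 1) le_rfl (by omega)
        rw [lc, top_lowerCentralSeries_one, hb, card_bot] at this
        have h10 : 3 ^ 1 ≤ 3 ^ (n - (1 + 1)) := Nat.pow_le_pow_right (by norm_num) (by omega)
        omega
    rw [h9] at h3
    norm_num at h3
  have hall : ∀ (g : N) (u : G), u⁻¹ * act g u ∈ M := by
    intro g u
    obtain ⟨i, -, hi⟩ := hgen (q u)
    have hc : (s ^ i)⁻¹ * u ∈ cenC G n := QuotientGroup.eq.1 ((map_pow q s i).trans hi)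
    obtain ⟨c, hc', rfl⟩ : ∃ c ∈ cenC G n, u = s ^ i * c := ⟨_, hc, by group⟩
    show π _ ∈ zpowers m
    rw [map_mul (act g), map_pow (act g), show act g s = s * D g from (mul_inv_cancel_left s (act g s)).symm,
      map_mul π, map_inv π, map_mul π, map_mul π, hpiC g c hc', map_pow π, map_pow π, map_mul π,
      Commute.mul_pow (hab _ _)]
    rw [show (π s ^ i * π c)⁻¹ * (π s ^ i * π (D g) ^ i * π c) = π (D g) ^ i by
      rw [mul_assoc (π s ^ i), hab (π (D g) ^ i), ← mul_assoc (π s ^ i), inv_mul_cancel_left]]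
    exact pow_mem (hm g) i
  apply hM
  rw [eq_top_iff]
  intro u _
  have hmap : ⁅G, N⁆ ≤ M.map G.subtype := by
    refine commutator_le.2 fun v hv g hg => ?_
    have h2 := hall ⟨g, hg⟩ (⟨v, hv⟩ : G)⁻¹
    refine ⟨_, h2, ?_⟩
    simp [hact, commutatorElement_def, mul_assoc]
  obtain ⟨w, hw, hwe⟩ := hmap (hle u.2)
  exact (Subtype.ext hwe : w = u) ▸ hw

/-- The Sylow subgroup of a perfect group of rank two with an isolated element of order `p`. -/
theorem sylow_shape (hper : commutator K = ⊤) (hp2 : p ≠ 2) (hrk : Cfsg.PRankLE p 2 K) (P : Sylow p K)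
    {x : K} (hxP : x ∈ (P : Subgroup K)) (hx : orderOf x = p) (hiso : Cfsg.IsIsolated x) :
    (Cfsg.IsExtraspecial p (P : Subgroup K) ∧ Nat.card (P : Subgroup K) = p ^ 3 ∧
        ∀ y ∈ (P : Subgroup K), y ^ p = 1) ∨
      (p = 3 ∧ ∃ k : ℕ, 2 ≤ k ∧ Nat.card (P : Subgroup K) = 3 ^ (2 * k + 1) ∧
        ∃ _ : Group.IsNilpotent (P : Subgroup K), Group.nilpotencyClass (P : Subgroup K) = 2 * k) := by
  classical
  have hP := P.isPGroup'
  obtain ⟨n, hn⟩ := IsPGroup.iff_card.1 hP
  have hrkP : Cfsg.PRankLE p 2 (P : Subgroup K) := by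
    intro A hA hexp
    haveI := hA
    have := hrk (A.map (P : Subgroup K).subtype) (map_isMulCommutative _ _) (by
      rintro _ ⟨a, ha, rfl⟩
      exact congrArg Subtype.val (hexp a ha))
    rwa [card_map_of_injective (P : Subgroup K).subtype_injective] at this
  have hnm := not_metacyclic hper hp2 P hxP hx hiso
  have hcube : n = 3 → Cfsg.IsExtraspecial p (P : Subgroup K) ∧ Nat.card (P : Subgroup K) = p ^ 3 ∧
      ∀ y ∈ (P : Subgroup K), y ^ p = 1 := by
    rintro rfl
    haveI := hP.isNilpotent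
    have hcyc : ∀ w : (P : Subgroup K), ¬ p ^ 2 ∣ orderOf w := by
      intro w hw
      apply hnm
      obtain ⟨k, -, hk⟩ := (Nat.dvd_prime_pow hp.out).1 (hn ▸ orderOf_dvd_natCard w)
      by_cases hk3 : k = 3
      · have : zpowers w = ⊤ := (card_eq_iff_eq_top _).1 (by rw [Nat.card_zpowers, hk, hk3, hn])
        haveI : IsCyclic (P : Subgroup K) := ⟨w, fun a => mem_zpowers_iff.1 (this.ge (mem_top a))⟩
        exact ⟨⊤, inferInstance, isCyclic_of_surjective _ topEquiv.symm.surjective, isCyclic_of_surjective _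
          (QuotientGroup.mk'_surjective _)⟩
      · have hidx : (zpowers w).index = p := by
          have e := (zpowers w).card_mul_index
          rw [Nat.card_zpowers, hk, hn] at e
          have hk2 : k = 2 := by
            rw [hk] at hw
            have := (Nat.pow_dvd_pow_iff_le_right hp.out.one_lt).1 hw
            have : k ≤ 3 := (Nat.pow_dvd_pow_iff_le_right hp.out.one_lt).1 (hn ▸ hk ▸ orderOf_dvd_natCard w)
            omega
          rw [hk2, pow_succ p 2] at e
          exact Nat.eq_of_mul_eq_mul_left (pow_pos hp.out.pos 2) e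
        haveI : (zpowers w).Normal := normal_of_index_eq_minFac_card (by
          rw [hidx, hn, Nat.pow_minFac (by norm_num), hp.out.minFac_eq])
        exact ⟨zpowers w, inferInstance, inferInstance, isCyclic_of_prime_card (p := p) hidx⟩
    have hexp : ∀ w : (P : Subgroup K), w ^ p = 1 := by
      intro w
      obtain ⟨k, -, hk⟩ := (Nat.dvd_prime_pow hp.out).1 (hn ▸ orderOf_dvd_natCard w)
      have hk1 : k ≤ 1 := by
        by_contra h
        exact hcyc w (hk ▸ pow_dvd_pow p (by omega))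
      exact orderOf_dvd_iff_pow_eq_one.1 (hk ▸ (pow_dvd_pow p hk1).trans (pow_one p).dvd)
    refine ⟨Fus.extraspecial_of_cube hn fun hab => ?_, hn, fun y hy => congrArg Subtype.val (hexp ⟨y, hy⟩)⟩
    have h1 := hrkP ⊤ ⟨⟨fun a b => Subtype.ext (hab.is_comm.comm a.1 b.1)⟩⟩ fun a _ => hexp a
    rw [card_top, hn] at h1
    have := (Nat.pow_le_pow_iff_right hp.out.one_lt).1 h1
    omega
  by_cases hn3 : n = 3
  · exact Or.inl (hcube hn3)
  have hmax : p = 3 → 4 ≤ n → (⊤ : Subgroup (P : Subgroup K)).lowerCentralSeries (n - 2) ≠ ⊥ →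
      ∃ k : ℕ, 2 ≤ k ∧ Nat.card (P : Subgroup K) = 3 ^ (2 * k + 1) ∧
        ∃ _ : Group.IsNilpotent (P : Subgroup K), Group.nilpotencyClass (P : Subgroup K) = 2 * k := by
    rintro rfl h4 hne
    haveI := hP.isNilpotent
    have hcls : Group.nilpotencyClass (P : Subgroup K) = n - 1 := by
      refine le_antisymm (Subgroup.lowerCentralSeries_eq_bot_iff_nilpotencyClass_le.1
        (Transfer.MaxClass.lcs_eq_bot hn (by omega))) ?_
      by_contra hlt
      exact hne (Subgroup.lowerCentralSeries_eq_bot_iff_nilpotencyClass_le.2 (by omega))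
    have h : MC3 (P : Subgroup K) n := ⟨hn, hcls, h4, hrkP⟩
    obtain ⟨k, hk⟩ := Nat.not_even_iff_odd.1 (not_even hper P hxP hx hiso h)
    exact ⟨k, by omega, by rw [hn, hk], inferInstance, by omega⟩
  rcases Grp.Blackburn.classification hp2 n hn hrkP with h | (h | h) | h
  · exact absurd h hnm
  · obtain ⟨h3, X, Y, Z, hgen, hX, hY, hZ, hXZ, hYZ, hXY⟩ := h
    exact (not_family hper hp2 hrk P hxP hx hiso (n := n) (by omega) hn (s := 1) (e := 0) hgen hX hY hZ hYZ
      (by rw [one_mul]; exact hXY)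
      (by rw [pow_zero, one_mul, mul_assoc, ← hXZ, inv_mul_cancel_left])
      hp.out.not_dvd_one (Or.inr (Or.inr rfl))).elim
  · obtain ⟨h4, s, X, Y, Z, hs, hgen, hX, hY, hZ, hYZ, hXY, hXZ⟩ := h
    have hs' : ¬ p ∣ s := by
      rintro hd
      rcases hs with rfl | hs
      · exact hp.out.not_dvd_one hd
      · exact hs (by rw [(ZMod.natCast_eq_zero_iff _ _).2 hd]; exact IsSquare.zero)
    by_cases hsmall : p = 3 ∧ n = 4
    · obtain ⟨rfl, rfl⟩ := hsmall
      refine Or.inr ⟨rfl, hmax rfl le_rfl ?_⟩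
      intro hbot
      have hy1 : Y ∈ (⊤ : Subgroup (P : Subgroup K)).lowerCentralSeries 1 := by
        rw [Subgroup.lowerCentralSeries_succ]
        have e : ⁅Z⁻¹, X⁻¹⁆ = Y := by
          rw [commutatorElement_def, inv_inv, inv_inv,
            show Z⁻¹ * X⁻¹ * Z * X = Z⁻¹ * (X⁻¹ * Z * X) by group, hXZ, hYZ, inv_mul_cancel_left]
        exact e ▸ commutator_mem_commutator (mem_top _) (mem_top _)
      have hu2 : Z ^ (s * 3) ∈ (⊤ : Subgroup (P : Subgroup K)).lowerCentralSeries 2 := by
        rw [Subgroup.lowerCentralSeries_succ]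
        have e : ⁅Y⁻¹, X⁻¹⁆ = Z ^ (s * 3) := by
          rw [commutatorElement_def, inv_inv, inv_inv,
            show Y⁻¹ * X⁻¹ * Y * X = Y⁻¹ * (X⁻¹ * Y * X) by group, hXY, inv_mul_cancel_left]
          norm_num
        exact e ▸ commutator_mem_commutator (inv_mem hy1) (mem_top _)
      rw [show 4 - 2 = 2 by norm_num] at hbot
      rw [hbot, mem_bot] at hu2
      have hXY' : X⁻¹ * Y * X = Y := by
        rw [hXY, show (4 : ℕ) - 3 = 1 by norm_num, pow_one, hu2, mul_one]
      have hZ3 : Z ^ (3 ^ 1) = 1 := by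
        have h9 : Z ^ 9 = 1 := by norm_num at hZ; exact hZ
        have hd := Nat.dvd_gcd (orderOf_dvd_of_pow_eq_one h9) (orderOf_dvd_of_pow_eq_one hu2)
        have hcop : Nat.gcd 9 (s * 3) = 3 := by
          rw [show 9 = 3 * 3 by norm_num, Nat.gcd_mul_right,
            ((Nat.prime_three.coprime_iff_not_dvd).2 hs'), one_mul]
        rw [hcop] at hd
        rw [pow_one]
        exact orderOf_dvd_iff_pow_eq_one.1 hd
      have hG : Gens 3 X Y Z (1 : (P : Subgroup K)) 0 1 :=
        ⟨hX, hY, one_pow _, hYZ, Commute.one_right _, Commute.one_right _, Commute.one_right _,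
          by rw [hXY', one_pow, mul_one], by rw [pow_one]; exact hXZ⟩
      exact u_ne_one (n := 4) (by norm_num) hn hG hgen hZ3 rfl
    · exact (not_family hper hp2 hrk P hxP hx hiso (n := n) (s := s) (e := 1) h4 hn hgen hX hY hZ hYZ hXY
        (by rw [pow_one]; exact hXZ) hs' (by
          by_cases hp3 : p = 3
          · exact Or.inr (Or.inl (by have : n ≠ 4 := fun e => hsmall ⟨hp3, e⟩; omega))
          · refine Or.inl ?_
            have := hp.out.two_le
            by_contra hlt
            have h4' : p = 4 := by omega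
            exact absurd (h4' ▸ hp.out) (by decide))).elim
  · obtain ⟨hp3, hn2, hne⟩ := h
    rcases Nat.lt_or_ge n 4 with h4 | h4
    · exfalso
      obtain rfl : n = 2 := by omega
      apply hnm
      set w : (P : Subgroup K) := ⟨x, hxP⟩ with hw
      have hidx : (zpowers w).index = p := by
        have e := (zpowers w).card_mul_index
        rw [Nat.card_zpowers, hw, orderOf_mk, hx, hn, sq] at e
        exact Nat.eq_of_mul_eq_mul_left hp.out.pos e
      haveI : (zpowers w).Normal := normal_of_index_eq_minFac_card (by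
        rw [hidx, hn, Nat.pow_minFac (by norm_num), hp.out.minFac_eq])
      exact ⟨zpowers w, inferInstance, inferInstance, isCyclic_of_prime_card (p := p) hidx⟩
    · exact Or.inr ⟨hp3, hmax hp3 h4 hne⟩

end Cfsg.Agent.Fus.IsoSylow
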