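import Cfsg.Agent.Lib.Classical.DicksonKlein
import Cfsg.Agent.Lib.Classical.PSLFieldAut
import Cfsg.Agent.Lib.Lie.TwoPronormalPSL

/-!
`PSL(2, q)` with `q ≡ 3, 5 (mod 8)`: automorphisms of 2-power order fixing a four-group pointwise
are conjugations by its elements.
-/

set_option autoImplicit false
set_option linter.unusedSectionVars false

namespace Cfsg.Agent.Fus.KleinAut

open Matrix Cfsg.Agent.Dickson Cfsg.Agent.Grp.SL2 Cfsg.Agent.PSL2Spec Cfsg.Agent.Classical
open Cfsg.Agent.Classical.PSLAut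

universe u

variable {F : Type u} [Field F] [Fintype F]

local notation "SL₂" => Matrix.SpecialLinearGroup (Fin 2) F
local notation "PSL₂" => Matrix.ProjectiveSpecialLinearGroup (Fin 2) F
local notation "M₂" => Matrix (Fin 2) (Fin 2) F

/-- The commutant of two non-commuting matrices of size two is scalar. -/
theorem scalar_of_commute {X Y M : M₂} (h : X * Y ≠ Y * X) (hX : M * X = X * M) (hY : M * Y = Y * M) :
    ∃ c : F, M = c • 1 := by
  have a00 := congrFun (congrFun hX 0) 0
  have a01 := congrFun (congrFun hX 0) 1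
  have a10 := congrFun (congrFun hX 1) 0
  have b00 := congrFun (congrFun hY 0) 0
  have b01 := congrFun (congrFun hY 0) 1
  have b10 := congrFun (congrFun hY 1) 0
  simp only [Matrix.mul_apply, Fin.sum_univ_two] at a00 a01 a10 b00 b01 b10
  have key : ∀ z : F, (z = M 0 1 ∨ z = M 1 0 ∨ z = M 0 0 - M 1 1) → z = 0 := by
    intro z hz
    by_contra hne
    refine h ?_
    ext i j
    refine sub_eq_zero.1 ((mul_eq_zero.1 (?_ : z * _ = 0)).resolve_left hne)
    fin_cases i <;> fin_cases j <;> rcases hz with rfl | rfl | rfl <;>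
      simp only [Matrix.mul_apply, Fin.sum_univ_two, Fin.zero_eta, Fin.mk_one] <;> grind
  refine ⟨M 0 0, ?_⟩
  ext i j
  fin_cases i <;> fin_cases j
  · simp
  · simp [key _ (Or.inl rfl)]
  · simp [key _ (Or.inr (Or.inl rfl))]
  · simp [sub_eq_zero.1 (key _ (Or.inr (Or.inr rfl)))]

/-- An automorphism of 2-power order fixing a four-group pointwise is conjugation by one of its elements. -/
theorem eq_conj_of_fix (hodd : Odd (Fintype.card F))
    (hm : Fintype.card F % 8 = 3 ∨ Fintype.card F % 8 = 5) {x y : SL₂} (hq : Quat x y)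
    {β : MulAut PSL₂} {k : ℕ} (hk : β ^ 2 ^ k = 1)
    (hx : β (proj x) = proj x) (hy : β (proj y) = proj y) :
    ∃ v ∈ hq.klein, β = MulAut.conj v := by
  have h2 := two_ne_zero_of_odd_card hodd
  obtain ⟨p, hc⟩ := CharP.exists F
  haveI : Fact p.Prime := ⟨CharP.char_is_prime F p⟩
  obtain ⟨f, -, hF⟩ := FiniteField.card F p
  have hfodd : Odd (f : ℕ) := by
    rcases Nat.even_or_odd (f : ℕ) with he | ho
    · exfalso
      obtain ⟨r, hr⟩ := he
      have hsq : Fintype.card F % 8 = (p ^ r % 8) * (p ^ r % 8) % 8 := by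
        rw [hF, hr, pow_add, Nat.mul_mod]
      have := Nat.mod_lt (p ^ r) (show 0 < 8 by norm_num)
      interval_cases p ^ r % 8 <;> omega
    · exact ho
  obtain ⟨hcyc, hcard⟩ := PSLAut.card_ringAut hF
  obtain ⟨Ψ, hker, -, hn2⟩ := PSLAut.exists_fieldGraphHom (p := p) (F := F) (n := 2) le_rfl
  have hfield : (Ψ β).1 = 1 := by
    have h1 : (Ψ β).1 ^ 2 ^ k = 1 := by rw [← Prod.pow_fst, ← map_pow, hk, map_one, Prod.fst_one]
    have h3 : orderOf (Ψ β).1 ∣ (f : ℕ) := hcard ▸ orderOf_dvd_natCard _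
    exact orderOf_eq_one_iff.1 (Nat.eq_one_of_dvd_coprimes
      (Nat.Coprime.pow_left k (Nat.coprime_two_left.2 hfodd)) (orderOf_dvd_of_pow_eq_one h1) h3)
  obtain ⟨g, hg⟩ : β ∈ (inndiagHom 2 F).range := by
    rw [← hker, MonoidHom.mem_ker]
    exact Prod.ext hfield ((hn2 rfl).1 β)
  have sign : ∀ z : SL₂, β (proj z) = proj z →
      (g : M₂) * (z : M₂) = (z : M₂) * g ∨ (g : M₂) * (z : M₂) = -((z : M₂) * g) := by
    intro z hz
    rw [← hg, inndiagHom_apply] at hz
    change pslSemi g (RingEquiv.refl F) (slToPSL 2 F z) = _ at hz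
    rw [pslSemi_mk] at hz
    have e : ((slSemi g (RingEquiv.refl F) z : SL₂) : M₂) = (g : M₂) * (z : M₂) * (g⁻¹ : GL (Fin 2) F) := by
      rw [slSemi_coe, show (z : M₂).map (RingEquiv.refl F) = (z : M₂) from Matrix.map_id _]
    rcases proj_eq_iff.1 hz with h' | h'
    · refine Or.inl ?_
      conv_rhs => rw [h', e]
      rw [Units.inv_mul_cancel_right]
    · refine Or.inr ?_
      conv_rhs => rw [h', Matrix.SpecialLinearGroup.coe_neg, e]
      rw [neg_mul, Units.inv_mul_cancel_right, neg_neg]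
  set X := (x : M₂)
  set Y := (y : M₂)
  have hYX : Y * X = -(X * Y) := by
    simpa using congrArg Subtype.val hq.yx
  have hXX : X * X = -1 := by simpa using congrArg Subtype.val hq.xx
  have hYY : Y * Y = -1 := by simpa using congrArg Subtype.val hq.yy
  have hne : X * Y ≠ Y * X := by
    intro e
    rw [hYX] at e
    have h0 : (2 : F) • (X * Y) = 0 := by
      rw [two_smul]; nth_rw 1 [e]; rw [neg_add_cancel]
    rcases smul_eq_zero.1 h0 with h' | h'
    · exact h2 h'
    · have := (x * y).2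
      rw [Matrix.SpecialLinearGroup.coe_mul, h'] at this
      simp at this
  -- correct the signs
  have corr : ∃ s : SL₂, proj s ∈ hq.klein ∧ (g : M₂) * (s : M₂) * X = X * ((g : M₂) * s) ∧
      (g : M₂) * (s : M₂) * Y = Y * ((g : M₂) * s) := by
    rcases sign x hx with e1 | e1 <;> rcases sign y hy with e2 | e2
    · refine ⟨1, by rw [map_one]; exact one_mem _, ?_, ?_⟩ <;> simpa
    · refine ⟨x, Or.inr (Or.inl rfl), ?_, ?_⟩
      · rw [mul_assoc, ← mul_assoc X, ← e1, mul_assoc]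
      · rw [mul_assoc, show X * Y = -(Y * X) by rw [hYX, neg_neg], mul_neg, ← mul_assoc, e2, neg_mul,
          neg_neg, mul_assoc]
    · refine ⟨y, Or.inr (Or.inr (Or.inl rfl)), ?_, ?_⟩
      · rw [mul_assoc, hYX, mul_neg, ← mul_assoc, e1, neg_mul, neg_neg, mul_assoc]
      · rw [mul_assoc, ← mul_assoc Y, ← e2, mul_assoc]
    · refine ⟨x * y, Or.inr (Or.inr (Or.inr (map_mul _ _ _))), ?_, ?_⟩ <;>
        rw [Matrix.SpecialLinearGroup.coe_mul]
      · calc (g : M₂) * (X * Y) * X = g * X * (Y * X) := by simp only [mul_assoc]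
          _ = -(X * g) * -(X * Y) := by rw [e1, hYX]
          _ = X * (g * (X * Y)) := by simp only [neg_mul, mul_neg, neg_neg, mul_assoc]
      · have hXgY : Y * g * X = (g * Y) * -X := by rw [e2]; simp only [neg_mul, mul_neg, neg_neg]; rfl
        calc (g : M₂) * (X * Y) * Y = -((g : M₂) * X) := by
              rw [mul_assoc, mul_assoc, hYY, mul_neg_one, mul_neg]
          _ = (g : M₂) * (Y * -X) * Y := by
              rw [mul_neg, hYX, neg_neg, mul_assoc, mul_assoc X, hYY, mul_neg_one, mul_neg]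
          _ = Y * g * X * Y := by rw [hXgY, mul_assoc (g : M₂) Y (-X)]
          _ = Y * ((g : M₂) * (X * Y)) := by simp only [mul_assoc]
  obtain ⟨s, hs, hsX, hsY⟩ := corr
  obtain ⟨c, hc'⟩ := scalar_of_commute hne hsX hsY
  have hone : inndiagHom 2 F (g * Matrix.SpecialLinearGroup.toGL s) = 1 := by
    rw [inndiagHom_apply, pslSemi_eq_one_iff le_rfl]
    have hc0 : c ≠ 0 := fun h0 => by
      have h1 : ((g * Matrix.SpecialLinearGroup.toGL s : GL (Fin 2) F) : M₂).det ≠ 0 :=
        (g * Matrix.SpecialLinearGroup.toGL s).det_ne_zero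
      rw [show ((g * Matrix.SpecialLinearGroup.toGL s : GL (Fin 2) F) : M₂) = (g : M₂) * (s : M₂)
        from rfl, hc', h0, zero_smul] at h1
      simp at h1
    refine ⟨rfl, Units.mk0 c hc0, Units.ext ?_⟩
    rw [show ((g * Matrix.SpecialLinearGroup.toGL s : GL (Fin 2) F) : M₂) = (g : M₂) * (s : M₂)
        from rfl, hc', Matrix.GeneralLinearGroup.coe_scalar, Matrix.scalar_apply, ← Matrix.smul_one_eq_diagonal]
    rfl
  refine ⟨(proj s)⁻¹, inv_mem hs, ?_⟩
  rw [map_mul, hg, inndiagHom_apply, ← conj_eq_pslSemi] at hone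
  rw [map_inv]
  exact eq_inv_of_mul_eq_one_left hone

/-- With abelian Sylow 2-subgroups, the order `q` is `3` or `5` modulo `8`. -/
theorem mod_eight_of_abelian (hodd : Odd (Fintype.card F)) {x y : SL₂} (hq : Quat x y)
    (hcomm : ∀ P : Subgroup PSL₂, IsPGroup 2 P → ∀ a ∈ P, ∀ b ∈ P, a * b = b * a) :
    Fintype.card F % 8 = 3 ∨ Fintype.card F % 8 = 5 := by
  have := Fact.mk Nat.prime_two
  have h2 := two_ne_zero_of_odd_card hodd
  obtain ⟨S, hS⟩ := (IsPGroup.of_card (p := 2) (n := 2) (hq.card_klein h2)).exists_le_sylow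
  have hSV : (S : Subgroup PSL₂) ≤ hq.klein := fun s hs =>
    hq.centralizer h2 (hcomm _ S.isPGroup' s hs _ (hS (Or.inr (Or.inl rfl))))
      (hcomm _ S.isPGroup' s hs _ (hS (Or.inr (Or.inr (Or.inl rfl)))))
  have hS4 : Nat.card (S : Subgroup PSL₂) = 4 := by rw [le_antisymm hSV hS]; exact hq.card_klein h2
  by_contra hc
  have h8 : 16 ∣ (Fintype.card F - 1) * (Fintype.card F + 1) := by
    obtain ⟨r, hr⟩ : ∃ r, Fintype.card F = 8 * r + 1 ∨ Fintype.card F = 8 * r + 7 :=
      ⟨Fintype.card F / 8, by rw [Nat.odd_iff] at hodd; omega⟩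
    rcases hr with hr | hr
    · exact ⟨r * (4 * r + 1), by rw [hr, Nat.add_sub_cancel]; ring⟩
    · exact ⟨(4 * r + 3) * (r + 1), by rw [hr, show 8 * r + 7 - 1 = 8 * r + 6 by omega]; ring⟩
  have h16 : 16 ∣ Nat.card PSL₂ * 2 :=
    (Lie.TwoPronormalPSL.card_psl_two (F := F) hodd) ▸ h8.mul_left _
  have h := (S : Subgroup PSL₂).card_mul_index
  have hi : ¬ 2 ∣ (S : Subgroup PSL₂).index := S.not_dvd_index
  rw [hS4] at h
  omega

end Cfsg.Agent.Fus.KleinAut
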