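import Cfsg.Prelude.Def_TwoFusion
import Cfsg.Agent.Lib.Fus.KleinAutPSL
import Cfsg.Agent.Lib.Classical.SLNormal
import Cfsg.Agent.Lib.Transfer.Abelian

/-!
Simple groups of Janko-Ree type: abelian Sylow 2-subgroups and a maximal involution centralizer
`⟨t⟩ × E` with `PSL(2, q)` normal in `E`. They have no perfect central extension by a 2-group and
automorphisms of 2-power order centralizing a Sylow 2-subgroup are inner.
-/

set_option autoImplicit false
set_option linter.unusedSectionVars false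
set_option linter.style.haveILetI false
set_option maxHeartbeats 1000000

open scoped commutatorElement Pointwise

namespace Cfsg.Agent.Fus.JankoRee

universe u v w

/-- The 2-local data used in both halves of the argument. -/
structure Data (G : Type u) [Group G] [Finite G] (t : G) (E N' : Subgroup G) where
  S : Sylow 2 G
  a : G
  b : G
  r : G
  tS : t ∈ (S : Subgroup G)
  aS : a ∈ (S : Subgroup G)
  bS : b ∈ (S : Subgroup G)
  aN : a ∈ N'
  bN : b ∈ N'
  rN : r ∈ N'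
  a1 : a ≠ 1
  b1 : b ≠ 1
  rS : r ∈ Subgroup.normalizer ((S : Subgroup G) : Set G)
  ra : r * a * r⁻¹ = a * b
  rb : r * b * r⁻¹ = a
  decomp : ∀ s ∈ (S : Subgroup G), ∃ v, (v = 1 ∨ v = a ∨ v = b ∨ v = a * b) ∧ (s = v ∨ s = t * v)
  sq : ∀ s ∈ (S : Subgroup G), s * s = 1
  comm : ∀ s ∈ (S : Subgroup G), ∀ s' ∈ (S : Subgroup G), s * s' = s' * s
  centralize : ∀ (c : G) (k : ℕ), c ^ 2 ^ k = 1 → c * t = t * c → c * a = a * c → c * b = b * c →
    c ∈ (S : Subgroup G)
  moved : ∃ n ∈ Subgroup.normalizer ((S : Subgroup G) : Set G), n * t * n⁻¹ ≠ t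
  index_odd : ∀ x ∈ E, ∃ m, Odd m ∧ x ^ m ∈ N'

variable {G : Type u} [Group G] [Finite G] {t : G} {E N' : Subgroup G}

/-- The multiplier part. -/
theorem Data.central_ext (D : Data G t E N') (hcomm : ∀ v ∈ N', v * t = t * v)
    {L : Type v} [Group L] [Finite L] (π : L →* G) (hπ : Function.Surjective π)
    (hperf : commutator L = ⊤) (hker : π.ker ≤ Subgroup.center L) (hZ : IsPGroup 2 π.ker) :
    π.ker = ⊥ := by
  haveI := Fact.mk Nat.prime_two
  set T := (D.S : Subgroup G).comap π with hT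
  have hTp : IsPGroup 2 T := D.S.isPGroup'.comap_of_ker_isPGroup π hZ
  have hzc : ∀ z ∈ π.ker, ∀ x : L, x * z = z * x := fun z hz x =>
    Subgroup.mem_center_iff.1 (hker hz) x
  -- commutators of lifts are central
  have hcz : ∀ {A B : L}, A ∈ T → B ∈ T → ⁅A, B⁆ ∈ π.ker := by
    intro A B hA hB
    rw [MonoidHom.mem_ker, map_commutatorElement, commutatorElement_eq_one_iff_mul_comm]
    exact D.comm _ hA _ hB
  have hmulR : ∀ {A B B' : L}, A ∈ T → B' ∈ T → ⁅A, B * B'⁆ = ⁅A, B⁆ * ⁅A, B'⁆ := by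
    intro A B B' hA hB'
    calc ⁅A, B * B'⁆ = ⁅A, B⁆ * (B * ⁅A, B'⁆ * B⁻¹) := by simp only [commutatorElement_def]; group
      _ = _ := by rw [hzc _ (hcz hA hB') B, mul_inv_cancel_right]
  have hzR : ∀ {A z : L}, z ∈ π.ker → ⁅A, z⁆ = 1 := fun {A z} hz =>
    commutatorElement_eq_one_iff_mul_comm.2 (hzc z hz A)
  have hconj : ∀ {A B : L} (n : L), A ∈ T → B ∈ T → ⁅n * A * n⁻¹, n * B * n⁻¹⁆ = ⁅A, B⁆ := by
    intro A B n hA hB
    calc ⁅n * A * n⁻¹, n * B * n⁻¹⁆ = n * ⁅A, B⁆ * n⁻¹ := by simp only [commutatorElement_def]; group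
      _ = _ := by rw [hzc _ (hcz hA hB) n, mul_inv_cancel_right]
  obtain ⟨A, hA⟩ := hπ t
  obtain ⟨P, hP⟩ := hπ D.a
  obtain ⟨Q, hQ⟩ := hπ D.b
  obtain ⟨R, hR⟩ := hπ D.r
  have hAT : A ∈ T := by rw [hT, Subgroup.mem_comap, hA]; exact D.tS
  have hPT : P ∈ T := by rw [hT, Subgroup.mem_comap, hP]; exact D.aS
  have hQT : Q ∈ T := by rw [hT, Subgroup.mem_comap, hQ]; exact D.bS
  have hzT : ∀ z ∈ π.ker, z ∈ T := fun z hz => by
    rw [hT, Subgroup.mem_comap, MonoidHom.mem_ker.1 hz]; exact one_mem _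
  -- the functional `B ↦ [A, B]` is invariant under `R`
  have hinv : ∀ {B : L}, B ∈ T → ⁅A, R * B * R⁻¹⁆ = ⁅A, B⁆ := by
    intro B hB
    have hz : R * A * R⁻¹ * A⁻¹ ∈ π.ker := by
      rw [MonoidHom.mem_ker, map_mul, map_mul, map_mul, map_inv, map_inv, hR, hA, hcomm _ D.rN,
        mul_inv_cancel_right, mul_inv_cancel]
    have e : R * A * R⁻¹ = R * A * R⁻¹ * A⁻¹ * A := by group
    have h1 := hconj R hAT hB
    rw [e] at h1
    generalize R * A * R⁻¹ * A⁻¹ = z at h1 hz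
    generalize R * B * R⁻¹ = B' at h1 ⊢
    rw [← h1]
    calc ⁅A, B'⁆ = A * B' * A⁻¹ * B'⁻¹ := commutatorElement_def _ _
      _ = z⁻¹ * (z * (A * B' * A⁻¹)) * B'⁻¹ := by group
      _ = z⁻¹ * ((A * B' * A⁻¹) * z) * B'⁻¹ := by rw [← hzc z hz]
      _ = _ := by
        rw [commutatorElement_def]
        have e2 : z⁻¹ * (A * B' * A⁻¹ * z) = z * (A * B' * A⁻¹) * z⁻¹ := by
          rw [← hzc z hz (A * B' * A⁻¹), mul_inv_cancel_right, hzc z hz (A * B' * A⁻¹),
            inv_mul_cancel_left]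
        rw [e2]; group
  have hfQ : ⁅A, Q⁆ = 1 := by
    have hz : (P * Q)⁻¹ * (R * P * R⁻¹) ∈ π.ker := by
      rw [MonoidHom.mem_ker, map_mul, map_inv, map_mul, map_mul, map_mul, map_inv, hP, hQ, hR, D.ra,
        inv_mul_cancel]
    have h1 := hinv hPT
    rw [show R * P * R⁻¹ = P * Q * ((P * Q)⁻¹ * (R * P * R⁻¹)) by group, hmulR hAT (hzT _ hz),
      hzR hz, mul_one, hmulR hAT hQT, mul_eq_left] at h1
    exact h1
  have hfP : ⁅A, P⁆ = 1 := by
    have hz : P⁻¹ * (R * Q * R⁻¹) ∈ π.ker := by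
      rw [MonoidHom.mem_ker, map_mul, map_inv, map_mul, map_mul, map_inv, hP, hQ, hR, D.rb,
        inv_mul_cancel]
    have h1 := hinv hQT
    rw [show R * Q * R⁻¹ = P * (P⁻¹ * (R * Q * R⁻¹)) by group, hmulR hAT (hzT _ hz), hzR hz,
      mul_one, hfQ] at h1
    exact h1
  -- lifts of `t` are central in `T`
  have hAc : ∀ B ∈ T, B * A = A * B := by
    intro B hB
    have hle : (D.S : Subgroup G) ≤ (Subgroup.centralizer ({A} : Set L)).map π := by
      set M := (Subgroup.centralizer ({A} : Set L)).map π with hM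
      have ht : t ∈ M := ⟨A, Subgroup.mem_centralizer_singleton_iff.2 rfl, hA⟩
      have ha : D.a ∈ M :=
        ⟨P, Subgroup.mem_centralizer_singleton_iff.2 (commutatorElement_eq_one_iff_mul_comm.1 hfP).symm, hP⟩
      have hb : D.b ∈ M :=
        ⟨Q, Subgroup.mem_centralizer_singleton_iff.2 (commutatorElement_eq_one_iff_mul_comm.1 hfQ).symm, hQ⟩
      intro s hs
      obtain ⟨v, hv, hs'⟩ := D.decomp s hs
      have hvM : v ∈ M := by
        rcases hv with rfl | rfl | rfl | rfl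
        exacts [one_mem _, ha, hb, mul_mem ha hb]
      rcases hs' with rfl | rfl
      exacts [hvM, mul_mem ht hvM]
    obtain ⟨W, hW, hWB⟩ := hle hB
    have hz : W⁻¹ * B ∈ π.ker := by rw [MonoidHom.mem_ker, map_mul, map_inv, hWB, inv_mul_cancel]
    have hW' : W * A = A * W := Subgroup.mem_centralizer_singleton_iff.1 hW
    calc B * A = W * ((W⁻¹ * B) * A) := by group
      _ = W * (A * (W⁻¹ * B)) := by rw [hzc _ hz A]
      _ = W * A * (W⁻¹ * B) := (mul_assoc _ _ _).symm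
      _ = A * B := by rw [hW', mul_assoc, mul_inv_cancel_left]
  -- the radical is everything
  set C₀ := (T ⊓ Subgroup.centralizer (T : Set L)).map π with hC₀
  have hC₀t : t ∈ C₀ := ⟨A, ⟨hAT, Subgroup.mem_centralizer_iff.2 fun B hB => hAc B hB⟩, hA⟩
  have hC₀n : ∀ n ∈ Subgroup.normalizer ((D.S : Subgroup G) : Set G), ∀ s ∈ C₀, n * s * n⁻¹ ∈ C₀ := by
    rintro n hn s ⟨B, ⟨hBT, hBc⟩, rfl⟩
    obtain ⟨M, rfl⟩ := hπ n
    refine ⟨M * B * M⁻¹, ⟨?_, Subgroup.mem_centralizer_iff.2 fun C hC => ?_⟩, by simp⟩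
    · show π (M * B * M⁻¹) ∈ (D.S : Subgroup G)
      rw [map_mul, map_mul, map_inv]
      exact (Subgroup.mem_normalizer_iff.1 hn _).1 hBT
    · have hC' : M⁻¹ * C * M ∈ T := by
        show π (M⁻¹ * C * M) ∈ (D.S : Subgroup G)
        rw [map_mul, map_mul, map_inv]
        have := (Subgroup.mem_normalizer_iff.1 (inv_mem hn) _).1 (show π C ∈ (D.S : Subgroup G) from hC)
        rwa [inv_inv] at this
      have := Subgroup.mem_centralizer_iff.1 hBc _ hC'
      calc C * (M * B * M⁻¹) = M * (M⁻¹ * C * M * B) * M⁻¹ := by group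
        _ = M * (B * (M⁻¹ * C * M)) * M⁻¹ := by rw [this]
        _ = _ := by group
  have haC : D.a ∈ C₀ ∧ D.b ∈ C₀ := by
    obtain ⟨n, hn, hnt⟩ := D.moved
    have h1 := hC₀n n hn t hC₀t
    have hS' : n * t * n⁻¹ ∈ (D.S : Subgroup G) := (Subgroup.mem_normalizer_iff.1 hn t).1 D.tS
    obtain ⟨v, hv, hv'⟩ := D.decomp _ hS'
    have hvC : v ∈ C₀ := by
      rcases hv' with e | e
      · exact e ▸ h1
      · rw [show v = t⁻¹ * (n * t * n⁻¹) by rw [e, inv_mul_cancel_left]]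
        exact mul_mem (inv_mem hC₀t) h1
    have hr := hC₀n _ D.rS
    have hab : ∀ {w : G}, w ∈ C₀ → w = D.a → D.b ∈ C₀ := by
      rintro w hw rfl
      have := hr _ hw
      rw [D.ra] at this
      simpa using mul_mem (inv_mem hw) this
    have hba : D.b ∈ C₀ → D.a ∈ C₀ := fun h => D.rb ▸ hr _ h
    rcases hv with rfl | rfl | rfl | rfl
    · exfalso
      rcases hv' with e | e
      · rw [mul_inv_eq_one, mul_eq_left] at e
        rw [e, mul_one, mul_inv_cancel] at hnt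
        exact hnt rfl
      · exact hnt (by rw [e, mul_one])
    · exact ⟨hvC, hab hvC rfl⟩
    · exact ⟨hba hvC, hvC⟩
    · have := hr _ hvC
      rw [show D.r * (D.a * D.b) * D.r⁻¹ = (D.r * D.a * D.r⁻¹) * (D.r * D.b * D.r⁻¹) by group,
        D.ra, D.rb, D.comm _ D.aS _ D.bS, mul_assoc, D.sq _ D.aS, mul_one] at this
      exact ⟨hba this, this⟩
  have hTc : IsMulCommutative T := by
    refine ⟨⟨fun B C => Subtype.ext ?_⟩⟩
    have hB : π B ∈ C₀ := by
      obtain ⟨v, hv, hs⟩ := D.decomp (π B) B.2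
      have hvC : v ∈ C₀ := by
        rcases hv with rfl | rfl | rfl | rfl
        exacts [one_mem _, haC.1, haC.2, mul_mem haC.1 haC.2]
      rcases hs with e | e <;> rw [e]
      exacts [hvC, mul_mem hC₀t hvC]
    obtain ⟨W, ⟨-, hW⟩, hWB⟩ := hB
    have hz : W⁻¹ * (B : L) ∈ π.ker := by rw [MonoidHom.mem_ker, map_mul, map_inv, hWB, inv_mul_cancel]
    show (B : L) * C = C * B
    calc (B : L) * C = W * ((W⁻¹ * B) * C) := by group
      _ = W * C * (W⁻¹ * B) := by rw [← hzc _ hz, mul_assoc]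
      _ = C * B := by rw [← Subgroup.mem_centralizer_iff.1 hW _ C.2, mul_assoc, mul_inv_cancel_left]
  have hHall : Nat.Coprime (Nat.card T) T.index := by
    rw [hT, Subgroup.index_comap_of_surjective _ hπ]
    obtain ⟨m, hm⟩ := IsPGroup.iff_card.1 hTp
    rw [← hT, hm]
    exact (Nat.prime_two.coprime_iff_not_dvd.2 D.S.not_dvd_index).pow_left m
  rw [eq_bot_iff, ← Transfer.hall_inf_commutator_inf_center T hTc hHall]
  exact fun z hz => ⟨⟨hzT z hz, by rw [hperf]; trivial⟩, hker hz⟩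

/-- Automorphisms that centralize `N'` and the chosen Sylow subgroup. -/
theorem Data.inner_of_fix (D : Data G t E N') (ht : t * t = 1) (ht1 : t ≠ 1)
    (hmax : IsCoatom (Subgroup.centralizer ({t} : Set G)))
    (hdec : ∀ c, c * t = t * c → ∃ e ∈ E, c = e ∨ c = t * e)
    (hEt : ∀ e ∈ E, e * t = t * e) (hdecN : ∀ n ∈ N', n ∈ E)
    (hNn : ∀ x ∈ E, ∀ n ∈ N', x * n * x⁻¹ ∈ N')
    (hcent : ∀ x ∈ E, (∀ n ∈ N', x * n = n * x) → x = 1)
    (φ : MulAut G) {k : ℕ} (hk : φ ^ 2 ^ k = 1) (hS : ∀ s ∈ (D.S : Subgroup G), φ s = s)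
    (hN : ∀ n ∈ N', φ n = n) : ∃ z ∈ (D.S : Subgroup G), φ = MulAut.conj z := by
  classical
  haveI := Fact.mk Nat.prime_two
  have htt : φ t = t := hS t D.tS
  -- `φ` fixes `E`
  have hE : ∀ x ∈ E, φ x = x := by
    intro x hx
    have hxt : φ x * t = t * φ x := by rw [← htt, ← map_mul, ← map_mul, hEt x hx]
    obtain ⟨e, he, hxe⟩ := hdec _ hxt
    have hex : e = x := by
      refine inv_mul_eq_one.1 (hcent _ (mul_mem (inv_mem hx) he) fun n hn => ?_) |>.symm
      have h1 : φ x * n * (φ x)⁻¹ = x * n * x⁻¹ := by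
        rw [← hN _ (hNn x hx n hn), map_mul, map_mul, map_inv, hN n hn]
      have h2 : e * n * e⁻¹ = x * n * x⁻¹ := by
        rw [← h1]
        rcases hxe with h | h
        · rw [h]
        · rw [h, show t * e * n * (t * e)⁻¹ = t * (e * n * e⁻¹) * t⁻¹ by group,
            ← hEt _ (mul_mem (mul_mem he (hdecN n hn)) (inv_mem he)), mul_inv_cancel_right]
      calc x⁻¹ * e * n = x⁻¹ * (e * n * e⁻¹) * e := by group
        _ = n * (x⁻¹ * e) := by rw [h2]; group
    subst hex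
    rcases hxe with h | h
    · exact h
    · exfalso
      obtain ⟨m, hm, hxm⟩ := D.index_odd e hx
      have h1 := hN _ hxm
      rw [map_pow, h, Commute.mul_pow (hEt e hx).symm, mul_eq_right] at h1
      obtain ⟨j, rfl⟩ := hm
      rw [pow_succ, pow_mul, pow_two, ht, one_pow, one_mul] at h1
      exact ht1 h1
  have hC : ∀ c, c * t = t * c → φ c = c := by
    intro c hc
    obtain ⟨e, he, h | h⟩ := hdec c hc
    · rw [h, hE e he]
    · rw [h, map_mul, htt, hE e he]
  set Ns := Subgroup.normalizer ((D.S : Subgroup G) : Set G) with hNs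
  set S' := (D.S : Subgroup G).subgroupOf Ns with hS'
  haveI : S'.Normal := Subgroup.normal_in_normalizer
  have hcS : ∀ n ∈ Ns, n⁻¹ * φ n ∈ (D.S : Subgroup G) := by
    intro n hn
    have hc : ∀ s ∈ (D.S : Subgroup G), n⁻¹ * φ n * s = s * (n⁻¹ * φ n) := by
      intro s hs
      have h1 : φ n * s * (φ n)⁻¹ = n * s * n⁻¹ := by
        rw [← hS _ ((Subgroup.mem_normalizer_iff.1 hn s).1 hs), map_mul, map_mul, map_inv, hS s hs]
      calc n⁻¹ * φ n * s = n⁻¹ * (φ n * s * (φ n)⁻¹) * φ n := by group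
        _ = s * (n⁻¹ * φ n) := by rw [h1]; group
    have hfix : φ (n⁻¹ * φ n) = n⁻¹ * φ n := hC _ (hc t D.tS)
    have hpow : ∀ j : ℕ, (φ ^ j) n = n * (n⁻¹ * φ n) ^ j := by
      intro j
      induction j with
      | zero => simp
      | succ j ih =>
        rw [pow_succ', MulAut.mul_apply, ih, map_mul, map_pow, hfix, pow_succ' (n⁻¹ * φ n),
          ← mul_assoc n (n⁻¹ * φ n), mul_inv_cancel_left]
    have h2 := hpow (2 ^ k)
    rw [hk, MulAut.one_apply, eq_comm, mul_eq_left] at h2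
    exact D.centralize _ k h2 (hc t D.tS) (hc _ D.aS) (hc _ D.bS)
  have hScomm : IsMulCommutative (D.S : Subgroup G) :=
    ⟨⟨fun x y => Subtype.ext (D.comm _ x.2 _ y.2)⟩⟩
  letI : CommGroup (D.S : Subgroup G) :=
    { (inferInstance : Group (D.S : Subgroup G)) with mul_comm := fun x y => hScomm.is_comm.comm x y }
  let f : Ns → (D.S : Subgroup G) := fun n => ⟨(n : G)⁻¹ * φ n, hcS n n.2⟩
  let ρ : Ns → ((D.S : Subgroup G) →* (D.S : Subgroup G)) := fun m =>
    { toFun := fun s => ⟨(m : G)⁻¹ * s * m, by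
        have := (Subgroup.mem_normalizer_iff.1 (inv_mem m.2) (s : G)).1 s.2
        rwa [inv_inv] at this⟩
      map_one' := by ext; simp
      map_mul' := fun s s' => by ext; simp [mul_assoc] }
  have hcoc : ∀ n m : Ns, f (n * m) = ρ m (f n) * f m := by
    intro n m
    refine Subtype.ext ?_
    show ((n : G) * m)⁻¹ * φ ((n : G) * m) = (m : G)⁻¹ * ((n : G)⁻¹ * φ n) * m * ((m : G)⁻¹ * φ m)
    rw [map_mul]; group
  have hwd : ∀ n m : Ns, (QuotientGroup.mk n : Ns ⧸ S') = QuotientGroup.mk m → f n = f m := by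
    intro n m h
    obtain ⟨s, hs, rfl⟩ : ∃ s ∈ S', m = n * s := ⟨_, QuotientGroup.eq.1 h, by group⟩
    rw [hcoc]
    refine Subtype.ext ?_
    show (n : G)⁻¹ * φ n = (s : G)⁻¹ * ((n : G)⁻¹ * φ n) * s * ((s : G)⁻¹ * φ s)
    rw [hS _ (Subgroup.mem_subgroupOf.1 hs), inv_mul_cancel, mul_one, mul_assoc (s : G)⁻¹,
      D.comm _ (hcS n n.2) _ (Subgroup.mem_subgroupOf.1 hs),
      inv_mul_cancel_left]
  haveI : Fintype (Ns ⧸ S') := Fintype.ofFinite _
  let fb : Ns ⧸ S' → (D.S : Subgroup G) := fun q => f q.out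
  have hfb : ∀ n : Ns, fb (QuotientGroup.mk n) = f n := fun n => hwd _ _ (QuotientGroup.out_eq' _)
  let z : (D.S : Subgroup G) := ∏ q, fb q
  have hq : Odd (Fintype.card (Ns ⧸ S')) := by
    rw [← Nat.card_eq_fintype_card, ← Subgroup.index_eq_card, ← Nat.not_even_iff_odd, even_iff_two_dvd]
    exact fun h => D.S.not_dvd_index
      (h.trans (Subgroup.relIndex_dvd_index_of_le Subgroup.le_normalizer))
  have hz : ∀ m : Ns, φ (m : G) = (z : G) * m * (z : G)⁻¹ := by
    intro m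
    have h1 : z = ρ m z * f m ^ Fintype.card (Ns ⧸ S') := by
      rw [map_prod, ← Finset.card_univ, ← Finset.prod_const, ← Finset.prod_mul_distrib]
      refine (Fintype.prod_equiv (Equiv.mulRight (QuotientGroup.mk m)) _ _ fun q => ?_).symm
      obtain ⟨n, rfl⟩ := QuotientGroup.mk_surjective q
      show _ = fb (QuotientGroup.mk n * QuotientGroup.mk m)
      rw [← QuotientGroup.mk_mul, hfb, hfb, hcoc]
    obtain ⟨j, hj⟩ := hq
    rw [hj, pow_succ, pow_mul, pow_two, show f m * f m = 1 from Subtype.ext (D.sq _ (f m).2), one_pow,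
      one_mul] at h1
    have h2 : (z : G) = (m : G)⁻¹ * z * m * ((m : G)⁻¹ * φ m) := congrArg Subtype.val h1
    have hzi : (z : G)⁻¹ = z := inv_eq_of_mul_eq_one_right (D.sq _ z.2)
    calc φ (m : G) = (z : G)⁻¹ * m * ((m : G)⁻¹ * z * m * ((m : G)⁻¹ * φ m)) := by group
      _ = (z : G) * m * (z : G)⁻¹ := by rw [← h2, hzi]
  -- `z` lies in `⟨t⟩`
  have hzt : (z : G) = 1 ∨ (z : G) = t := by
    have h1 := hz ⟨D.r, D.rS⟩
    rw [hN _ D.rN, eq_mul_inv_iff_mul_eq] at h1
    obtain ⟨v, hv, hv'⟩ := D.decomp _ z.2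
    have hrt : D.r * t = t * D.r := hEt _ (hdecN _ D.rN)
    have hrv : D.r * v * D.r⁻¹ = v := by
      rw [mul_inv_eq_iff_eq_mul]
      rcases hv' with e | e
      · rw [← e]; exact h1
      · have e' : v = t * (z : G) := by rw [e, ← mul_assoc, ht, one_mul]
        rw [e', ← mul_assoc, hrt, mul_assoc, h1, ← mul_assoc]
    rcases hv with rfl | rfl | rfl | rfl
    · simpa using hv'
    · rw [D.ra, mul_eq_left] at hrv; exact absurd hrv D.b1
    · exfalso
      have h3 := D.ra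
      rw [D.rb] at hrv
      rw [← hrv, show D.r * D.a * D.r⁻¹ = D.a by rw [hrv]; exact D.rb.trans hrv, left_eq_mul] at h3
      exact D.a1 (hrv ▸ h3)
    · rw [show D.r * (D.a * D.b) * D.r⁻¹ = (D.r * D.a * D.r⁻¹) * (D.r * D.b * D.r⁻¹) by group,
        D.ra, D.rb, mul_eq_left] at hrv
      exact absurd hrv D.a1
  refine ⟨z, z.2, ?_⟩
  have hzC : ∀ c, c * t = t * c → (z : G) * c * (z : G)⁻¹ = c := by
    intro c hc
    rcases hzt with e | e <;> rw [e]
    · simp
    · rw [← hc, mul_inv_cancel_right]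
  let K : Subgroup G := φ.toMonoidHom.eqLocus (MulAut.conj (z : G)).toMonoidHom
  have hle : Subgroup.centralizer ({t} : Set G) ≤ K := fun c hc => by
    show φ c = (z : G) * c * (z : G)⁻¹
    rw [hC c (Subgroup.mem_centralizer_singleton_iff.1 hc),
      hzC c (Subgroup.mem_centralizer_singleton_iff.1 hc)]
  obtain ⟨n, hn, hnt⟩ := D.moved
  have hK : K = ⊤ := (hmax.le_iff.1 hle).resolve_right fun e => hnt <| by
    have h1 : n ∈ K := hz ⟨n, hn⟩
    rw [e, Subgroup.mem_centralizer_singleton_iff] at h1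
    rw [h1, mul_inv_cancel_right]
  refine MulEquiv.ext fun g => ?_
  exact (hK.symm ▸ Subgroup.mem_top g : g ∈ K)

section Build

open Matrix Cfsg.Agent.Dickson Cfsg.Agent.PSL2Spec

variable {F : Type w} [Field F] [Fintype F]

local notation "PSL₂" => Matrix.ProjectiveSpecialLinearGroup (Fin 2) F

/-- An automorphism of `PSL(2, q)` compatible with an injection. -/
theorem exists_restrict (ι : PSL₂ →* G) (hι : Function.Injective ι) (φ : MulAut G)
    (h : ι.range.map φ.toMonoidHom = ι.range) :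
    ∃ β : MulAut PSL₂, (∀ z, ι (β z) = φ (ι z)) ∧ ∀ j : ℕ, ∀ z, ι ((β ^ j) z) = (φ ^ j) (ι z) := by
  let e := MonoidHom.ofInjective hι
  let r : ι.range ≃* ι.range := (φ.subgroupMap ι.range).trans (MulEquiv.subgroupCongr h)
  let β : MulAut PSL₂ := e.trans (r.trans e.symm)
  have h1 : ∀ z, ι (β z) = φ (ι z) := fun z => by
    have h2 : (e (β z) : G) = (r (e z) : G) := by
      show (e (e.symm (r (e z))) : G) = _
      rw [e.apply_symm_apply]
    exact h2
  refine ⟨β, h1, fun j => ?_⟩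
  induction j with
  | zero => simp
  | succ j ih =>
    intro z
    rw [pow_succ', MulAut.mul_apply, h1, ih, pow_succ', MulAut.mul_apply]

/-- Simple groups of Janko-Ree type. -/
theorem main [IsSimpleGroup G] (hG : ¬ IsMulCommutative G)
    (hab : ∀ S : Sylow 2 G, IsMulCommutative ↥(S : Subgroup G))
    (ht : orderOf t = 2) (hmax : IsCoatom (Subgroup.centralizer ({t} : Set G)))
    (hE : Cfsg.IsInternalDirectProduct (Subgroup.zpowers t) E (Subgroup.centralizer ({t} : Set G)))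
    (hFo : Odd (Fintype.card F)) (hF3 : 3 < Fintype.card F) (N : Subgroup ↥E) [N.Normal]
    (hN : Nonempty (↥N ≃* PSL₂)) (hNc : Subgroup.centralizer (N : Set ↥E) = ⊥) :
    (∀ (L : Type v) (_ : Group L) (_ : Finite L) (Z : Subgroup L) (_ : Z.Normal), commutator L = ⊤ →
      Z ≤ Subgroup.center L → IsPGroup 2 ↥Z → Nonempty (L ⧸ Z ≃* G) → Z = ⊥) ∧
    (∀ (φ : G ≃* G) (k : ℕ), (φ : MulAut G) ^ 2 ^ k = 1 →
      (∃ S : Sylow 2 G, ∀ s ∈ (S : Subgroup G), φ s = s) → ∃ g : G, ∀ x : G, φ x = g * x * g⁻¹) := by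
  classical
  haveI := Fact.mk Nat.prime_two
  obtain ⟨e⟩ := hN
  obtain ⟨hle1, hEC, hcommE, hbot, hsup⟩ := hE
  set C := Subgroup.centralizer ({t} : Set G) with hC
  have hmemC : ∀ {c : G}, c ∈ C ↔ c * t = t * c := Subgroup.mem_centralizer_singleton_iff
  have htt : t * t = 1 := by rw [← pow_two, ← ht, pow_orderOf_eq_one]
  have ht1 : t ≠ 1 := fun h => by rw [h, orderOf_one] at ht; omega
  have hEt : ∀ x ∈ E, x * t = t * x := fun x hx => (hcommE t (Subgroup.mem_zpowers t) x hx).symm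
  have htE : t ∉ E := fun h => ht1 ((Subgroup.eq_bot_iff_forall _).1 hbot t ⟨Subgroup.mem_zpowers t, h⟩)
  have hnorm : Subgroup.zpowers t ≤ Subgroup.normalizer (E : Set G) := Subgroup.zpowers_le.2
    (Subgroup.centralizer_le_normalizer _ (Subgroup.mem_centralizer_iff.2 fun x hx => hEt x hx))
  have hdec : ∀ c, c * t = t * c → ∃ x ∈ E, c = x ∨ c = t * x := by
    intro c hc
    have h1 : c ∈ (Subgroup.zpowers t ⊔ E : Subgroup G) := by rw [hsup]; exact hmemC.2 hc
    rw [← SetLike.mem_coe, Subgroup.coe_mul_of_left_le_normalizer_right _ _ hnorm] at h1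
    obtain ⟨u, ⟨i, rfl⟩, x, hx, rfl⟩ := h1
    refine ⟨x, hx, ?_⟩
    have hz : t ^ i = t ^ (i % 2) := by rw [← zpow_mod_orderOf, ht]; rfl
    rcases Int.emod_two_eq_zero_or_one i with h | h <;> simp only [hz, h]
    · left; simp
    · right; simp
  have hCE : ⁅C, C⁆ ≤ E := by
    rw [Subgroup.commutator_le]
    intro c hc d hd
    obtain ⟨x, hx, hx'⟩ := hdec c (hmemC.1 hc)
    obtain ⟨y, hy, hy'⟩ := hdec d (hmemC.1 hd)
    have key : ∀ p q : G, (p = 1 ∨ p = t) → (q = 1 ∨ q = t) → ⁅p * x, q * y⁆ = ⁅x, y⁆ := by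
      intro p q hp hq
      have hp' : ∀ z ∈ E, p * z = z * p := fun z hz => by
        rcases hp with rfl | rfl <;> [simp; exact (hEt z hz).symm]
      have hq' : ∀ z ∈ E, q * z = z * q := fun z hz => by
        rcases hq with rfl | rfl <;> [simp; exact (hEt z hz).symm]
      have hpq : p * q = q * p := by rcases hp with rfl | rfl <;> rcases hq with rfl | rfl <;> simp
      calc ⁅p * x, q * y⁆ = p * (x * q) * y * (x⁻¹ * p⁻¹ * (y⁻¹ * q⁻¹)) := by
            rw [commutatorElement_def]; group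
        _ = p * q * (x * y * x⁻¹) * p⁻¹ * (y⁻¹ * q⁻¹) := by rw [← hq' x hx]; group
        _ = q * (x * y * x⁻¹) * (y⁻¹ * q⁻¹) := by
            rw [hpq, mul_assoc q p, hp' _ (mul_mem (mul_mem hx hy) (inv_mem hx))]; group
        _ = (x * y * x⁻¹ * y⁻¹) * (q * q⁻¹) := by
            rw [show q * (x * y * x⁻¹) * (y⁻¹ * q⁻¹) = q * (x * y * x⁻¹ * y⁻¹) * q⁻¹ by group,
              hq' _ (mul_mem (mul_mem (mul_mem hx hy) (inv_mem hx)) (inv_mem hy))]
            group
        _ = ⁅x, y⁆ := by rw [commutatorElement_def]; group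
    have : ⁅c, d⁆ = ⁅x, y⁆ := by
      rcases hx' with rfl | rfl <;> rcases hy' with rfl | rfl
      · rfl
      · simpa using key 1 t (Or.inl rfl) (Or.inr rfl)
      · simpa using key t 1 (Or.inr rfl) (Or.inl rfl)
      · exact key t t (Or.inr rfl) (Or.inr rfl)
    rw [this, commutatorElement_def]
    exact mul_mem (mul_mem (mul_mem hx hy) (inv_mem hx)) (inv_mem hy)
  -- the copy of `PSL(2, q)` inside `G`
  let ι : PSL₂ →* G := (E.subtype.comp N.subtype).comp e.symm.toMonoidHom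
  have hι : Function.Injective ι :=
    (E.subtype_injective.comp N.subtype_injective).comp e.symm.injective
  have hrange : ∀ {g : G}, g ∈ ι.range ↔ ∃ hg : g ∈ E, (⟨g, hg⟩ : E) ∈ N := by
    intro g
    constructor
    · rintro ⟨z, rfl⟩; exact ⟨(e.symm z).1.2, (e.symm z).2⟩
    · rintro ⟨hg, hgN⟩; exact ⟨e ⟨_, hgN⟩, by simp [ι]⟩
  have hdecN : ∀ n ∈ ι.range, n ∈ E := fun n hn => (hrange.1 hn).1
  have hNn : ∀ x ∈ E, ∀ n ∈ ι.range, x * n * x⁻¹ ∈ ι.range := by
    intro x hx n hn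
    obtain ⟨hnE, hnN⟩ := hrange.1 hn
    exact hrange.2 ⟨_, ‹N.Normal›.conj_mem _ hnN ⟨x, hx⟩⟩
  have hcent : ∀ x ∈ E, (∀ n ∈ ι.range, x * n = n * x) → x = 1 := by
    intro x hx h
    have : (⟨x, hx⟩ : E) ∈ Subgroup.centralizer (N : Set ↥E) := Subgroup.mem_centralizer_iff.2 fun n hn =>
      Subtype.ext (h n (hrange.2 ⟨n.2, hn⟩)).symm
    rw [hNc, Subgroup.mem_bot] at this
    exact congrArg Subtype.val this
  have hcommP : ∀ P : Subgroup G, IsPGroup 2 P → ∀ p ∈ P, ∀ q ∈ P, p * q = q * p := by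
    intro P hP p hp q hq
    obtain ⟨S, hS⟩ := hP.exists_le_sylow
    exact congrArg Subtype.val ((hab S).is_comm.comm ⟨p, hS hp⟩ ⟨q, hS hq⟩)
  have h2 := two_ne_zero_of_odd_card hFo
  obtain ⟨x, y, hq⟩ := exists_quat hFo
  have hm := KleinAut.mod_eight_of_abelian hFo hq fun P hP p hp q hq' => hι (by
    rw [map_mul, map_mul]
    exact hcommP _ (hP.map ι) _ ⟨p, hp, rfl⟩ _ ⟨q, hq', rfl⟩)
  obtain ⟨t₃, -, ht₃N, hta, htb⟩ := exists_three hFo hq
  set a := ι (proj x) with ha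
  set b := ι (proj y) with hb
  set r := ι t₃ with hr
  set V := hq.klein.map ι with hV
  have hVcases : ∀ v ∈ V, v = 1 ∨ v = a ∨ v = b ∨ v = a * b := by
    rintro _ ⟨z, hz, rfl⟩
    rcases hz with rfl | rfl | rfl | rfl
    · exact Or.inl (map_one ι)
    · exact Or.inr (Or.inl rfl)
    · exact Or.inr (Or.inr (Or.inl rfl))
    · exact Or.inr (Or.inr (Or.inr (map_mul ι _ _)))
  have haV : a ∈ V := ⟨_, Or.inr (Or.inl rfl), rfl⟩
  have hbV : b ∈ V := ⟨_, Or.inr (Or.inr (Or.inl rfl)), rfl⟩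
  have hVE : V ≤ E := fun v hv => hdecN v (Subgroup.map_le_range ι _ hv)
  have hVp : IsPGroup 2 V :=
    (IsPGroup.of_card (p := 2) (n := 2) (hq.card_klein h2)).map ι
  -- 2-elements of `E` centralizing `V` lie in `V`
  have key : ∀ (c : G) (j : ℕ), c ∈ E → c ^ 2 ^ j = 1 → c * a = a * c → c * b = b * c → c ∈ V := by
    intro c j hc hcj hca hcb
    let β : MulAut PSL₂ := MulAut.congr e (MulAut.conjNormal (⟨c, hc⟩ : E))
    have hfix : ∀ z, c * ι z = ι z * c → β z = z := by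
      intro z hz
      have h1 : MulAut.conjNormal (⟨c, hc⟩ : E) (e.symm z) = e.symm z := by
        refine Subtype.ext (Subtype.ext ?_)
        rw [MulAut.conjNormal_apply]
        show c * ι z * c⁻¹ = ι z
        rw [hz, mul_inv_cancel_right]
      show e (MulAut.conjNormal (⟨c, hc⟩ : E) (e.symm z)) = z
      rw [h1, e.apply_symm_apply]
    have hpow : β ^ 2 ^ j = 1 := by
      show (MulAut.congr e (MulAut.conjNormal (⟨c, hc⟩ : E))) ^ 2 ^ j = 1
      rw [← map_pow, ← map_pow, show (⟨c, hc⟩ : E) ^ 2 ^ j = 1 from Subtype.ext hcj, map_one, map_one]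
    obtain ⟨v, hv, hβ⟩ := KleinAut.eq_conj_of_fix hFo hm hq hpow (hfix _ hca) (hfix _ hcb)
    refine ⟨v, hv, ?_⟩
    have hvE : ι v ∈ E := (e.symm v).1.2
    refine inv_mul_eq_one.1 (hcent _ (mul_mem (inv_mem hvE) hc) ?_)
    rintro _ ⟨z, rfl⟩
    have h1 : e (MulAut.conjNormal (⟨c, hc⟩ : E) (e.symm z)) = v * z * v⁻¹ := DFunLike.congr_fun hβ z
    have h3 : c * ι z * c⁻¹ = ι (v * z * v⁻¹) := by
      rw [← h1]
      show _ = ((e.symm (e _) : N) : G)
      rw [e.symm_apply_apply, MulAut.conjNormal_apply]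
      rfl
    rw [map_mul, map_mul, map_inv] at h3
    calc (ι v)⁻¹ * c * ι z = (ι v)⁻¹ * (c * ι z * c⁻¹) * c := by group
      _ = ι z * ((ι v)⁻¹ * c) := by rw [h3]; group
  -- the Sylow subgroup
  have htV : ∀ v ∈ V, t * v = v * t := fun v hv => (hEt v (hVE hv)).symm
  have htp : IsPGroup 2 (Subgroup.zpowers t) :=
    IsPGroup.of_card (n := 1) (by rw [Nat.card_zpowers, ht, pow_one])
  have htN : Subgroup.zpowers t ≤ Subgroup.normalizer (V : Set G) := Subgroup.zpowers_le.2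
    (Subgroup.centralizer_le_normalizer _ (Subgroup.mem_centralizer_iff.2 fun v hv => (htV v hv).symm))
  obtain ⟨S, hS⟩ := (hVp.to_sup_of_normal_left' htp htN).exists_le_sylow
  have htS : t ∈ (S : Subgroup G) := hS (Subgroup.mem_sup_right (Subgroup.mem_zpowers t))
  have hVS : V ≤ (S : Subgroup G) := le_sup_left.trans hS
  have hScomm : ∀ s ∈ (S : Subgroup G), ∀ s' ∈ (S : Subgroup G), s * s' = s' * s := hcommP _ S.isPGroup'
  have hcentralize : ∀ (c : G) (j : ℕ), c ^ 2 ^ j = 1 → c * t = t * c → c * a = a * c → c * b = b * c →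
      ∃ v ∈ V, c = v ∨ c = t * v := by
    intro c j hj hct hca hcb
    obtain ⟨u, hu, hcu⟩ := hdec c hct
    rcases hcu with h | h
    · subst h; exact ⟨c, key c j hu hj hca hcb, Or.inl rfl⟩
    · refine ⟨u, ?_, Or.inr h⟩
      have hu' : u = t * c := by rw [h, ← mul_assoc, htt, one_mul]
      refine key u (j + 1) hu ?_ ?_ ?_
      · have hcm : Commute t c := hct.symm
        rw [hu', hcm.mul_pow, pow_succ 2 j, pow_mul c, hj, one_pow, mul_one, mul_comm (2 ^ j) 2, pow_mul,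
          pow_two t, htt, one_pow]
      · rw [hu', mul_assoc, hca, ← mul_assoc, htV a haV, mul_assoc]
      · rw [hu', mul_assoc, hcb, ← mul_assoc, htV b hbV, mul_assoc]
  have hSdec : ∀ s ∈ (S : Subgroup G), ∃ v ∈ V, s = v ∨ s = t * v := by
    intro s hs
    obtain ⟨j, hj⟩ := S.isPGroup' ⟨s, hs⟩
    exact hcentralize s j (congrArg Subtype.val hj) (hScomm s hs t htS) (hScomm s hs a (hVS haV))
      (hScomm s hs b (hVS hbV))
  have hVsq : ∀ v ∈ V, v * v = 1 := by
    rintro _ ⟨z, hz, rfl⟩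
    have hk := hq.isKleinFour h2
    rw [← map_mul, show z * z = 1 from congrArg Subtype.val (IsKleinFour.mul_self (⟨z, hz⟩ : hq.klein)),
      map_one]
  have hrE : r ∈ E := (e.symm t₃).1.2
  have hrV : ∀ v ∈ V, r * v * r⁻¹ ∈ V := by
    rintro _ ⟨z, hz, rfl⟩
    exact ⟨_, (Subgroup.mem_normalizer_iff.1 ht₃N z).1 hz, by simp [hr]⟩
  have hrS : r ∈ Subgroup.normalizer ((S : Subgroup G) : Set G) := by
    refine Cfsg.Agent.Dickson.mem_normalizer_of_forall fun s hs => ?_
    obtain ⟨v, hv, rfl | rfl⟩ := hSdec s hs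
    · exact hVS (hrV _ hv)
    · rw [← mul_assoc, hEt r hrE, mul_assoc t r, mul_assoc]
      exact mul_mem htS (hVS (hrV v hv))
  have hperf : commutator G = ⊤ := ((Subgroup.Normal.eq_bot_or_eq_top inferInstance).resolve_left
    fun h => hG ⟨⟨fun p q => commutatorElement_eq_one_iff_mul_comm.1
      (Subgroup.mem_bot.1 (h ▸ Subgroup.commutator_mem_commutator (Subgroup.mem_top p)
        (Subgroup.mem_top q)))⟩⟩)
  have hmoved : ∃ n ∈ Subgroup.normalizer ((S : Subgroup G) : Set G), n * t * n⁻¹ ≠ t := by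
    by_contra! hall
    refine htE (hCE (Subgroup.commutator_mono ?_ ?_ ((Transfer.abelian_sylow_inf_commutator S (hab S)).1
      ⟨by rw [hperf]; trivial, htS⟩)))
    · exact fun s hs => hmemC.2 (hScomm s hs t htS)
    · exact fun n hn => hmemC.2 (mul_inv_eq_iff_eq_mul.1 (hall n hn))
  have hidx : ∀ u ∈ E, ∃ m, Odd m ∧ u ^ m ∈ ι.range := by
    intro u hu
    obtain ⟨P, hP⟩ := (hVp.comap_subtype (K := E)).exists_le_sylow
    have hPN : (P : Subgroup E) ≤ N := by
      intro c hc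
      obtain ⟨j, hj⟩ := P.isPGroup' ⟨c, hc⟩
      have hcc := hcommP _ (P.isPGroup'.map E.subtype) (c : G) ⟨c, hc, rfl⟩
      obtain ⟨_, h⟩ := hrange.1 (Subgroup.map_le_range ι _ (key c j c.2
        (congrArg (fun z : (P : Subgroup E) => ((z : E) : G)) hj)
        (hcc a ⟨⟨a, hVE haV⟩, hP haV, rfl⟩) (hcc b ⟨⟨b, hVE hbV⟩, hP hbV, rfl⟩)))
      exact h
    refine ⟨N.index, ?_, hrange.2 ⟨pow_mem hu _, Subgroup.pow_index_mem N (⟨u, hu⟩ : E)⟩⟩
    rw [← Nat.not_even_iff_odd, even_iff_two_dvd]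
    exact fun h => P.not_dvd_index (h.trans (Subgroup.index_dvd_of_le hPN))
  let D : Data G t E ι.range :=
    { S := S, a := a, b := b, r := r, tS := htS, aS := hVS haV, bS := hVS hbV
      aN := ⟨_, rfl⟩, bN := ⟨_, rfl⟩, rN := ⟨_, rfl⟩
      a1 := fun h => Quat.proj_ne_one h2 hq.xx (hι (by rw [← ha, h, map_one]))
      b1 := fun h => Quat.proj_ne_one h2 hq.yy (hι (by rw [← hb, h, map_one]))
      rS := hrS
      ra := by rw [ha, hb, hr, ← map_inv, ← map_mul, ← map_mul, hta, map_mul]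
      rb := by rw [ha, hb, hr, ← map_inv, ← map_mul, ← map_mul, htb]
      decomp := fun s hs => by
        obtain ⟨v, hv, h⟩ := hSdec s hs
        exact ⟨v, hVcases v hv, h⟩
      sq := fun s hs => by
        obtain ⟨v, hv, rfl | rfl⟩ := hSdec s hs
        · exact hVsq _ hv
        · rw [mul_assoc, ← mul_assoc v, ← htV v hv, mul_assoc t v v, hVsq v hv, mul_one, htt]
      comm := hScomm
      centralize := fun c j hj h1 h3 h4 => by
        obtain ⟨v, hv, rfl | rfl⟩ := hcentralize c j hj h1 h3 h4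
        · exact hVS hv
        · exact mul_mem htS (hVS hv)
      moved := hmoved
      index_odd := hidx }
  constructor
  · rintro L _ _ Z _ hL hZc hZp ⟨f⟩
    have hker : (f.toMonoidHom.comp (QuotientGroup.mk' Z)).ker = Z := by
      ext z; simp
    have := D.central_ext (fun v hv => hEt v (hdecN v hv)) (f.toMonoidHom.comp (QuotientGroup.mk' Z))
      (f.surjective.comp (QuotientGroup.mk'_surjective Z)) hL (by rwa [hker]) (by rwa [hker])
    rwa [hker] at this
  · rintro φ k hk ⟨T, hT⟩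
    obtain ⟨g, hg⟩ := MulAction.exists_smul_eq G S T
    set ψ : MulAut G := (MulAut.conj g)⁻¹ * φ * MulAut.conj g with hψ
    have hψk : ψ ^ 2 ^ k = 1 := by
      have h1 := conj_pow (i := 2 ^ k) (a := (MulAut.conj g)⁻¹) (b := (φ : MulAut G))
      rw [inv_inv, hk, mul_one, inv_mul_cancel] at h1
      exact h1
    have hψS : ∀ s ∈ (S : Subgroup G), ψ s = s := by
      intro s hs
      have h1 : g * s * g⁻¹ ∈ (T : Subgroup G) := by
        rw [← hg]; exact Subgroup.smul_mem_pointwise_smul _ (MulAut.conj g) _ hs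
      show (MulAut.conj g)⁻¹ (φ (g * s * g⁻¹)) = s
      rw [hT _ h1, MulAut.conj_inv_apply]
      group
    have hψt : ψ t = t := hψS t htS
    -- `ψ` normalizes the copy of `PSL(2, q)`
    haveI : IsSimpleGroup PSL₂ := Classical.PSL_isSimple le_rfl fun _ => by omega
    have hPSL : commutator PSL₂ = ⊤ := ((Subgroup.Normal.eq_bot_or_eq_top inferInstance).resolve_left
      fun h => by
        obtain ⟨-, he⟩ : a * b = b * a ∧ r * a * r⁻¹ = a := ⟨hScomm _ D.aS _ D.bS, by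
          have : Commute t₃ (proj x) := commutatorElement_eq_one_iff_mul_comm.1
            (Subgroup.mem_bot.1 (h ▸ Subgroup.commutator_mem_commutator (Subgroup.mem_top t₃)
              (Subgroup.mem_top (proj x : PSL₂))))
          rw [ha, hr, ← map_inv, ← map_mul, ← map_mul, this.eq, mul_inv_cancel_right]⟩
        rw [show r * a * r⁻¹ = a * b from D.ra, mul_eq_left] at he
        exact D.b1 he)
    set M := ι.range.map ψ.toMonoidHom with hM
    have hMrange : M = (ψ.toMonoidHom.comp ι).range := by rw [hM, MonoidHom.map_range]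
    have hMC : M ≤ C := by
      rintro _ ⟨n, hn, rfl⟩
      refine hmemC.2 ?_
      show ψ n * t = t * ψ n
      rw [← hψt, ← map_mul, ← map_mul, hEt n (hdecN n hn)]
    have hME : M ≤ E := by
      intro n hn
      have h1 : M ≤ ⁅M, M⁆ := by
        rw [hMrange, MonoidHom.range_eq_map, ← Subgroup.map_commutator]
        exact Subgroup.map_mono (by rw [← commutator_def, hPSL])
      exact hCE (Subgroup.commutator_mono hMC hMC (h1 hn))
    have hMn : ∀ u ∈ E, ∀ n ∈ M, u * n * u⁻¹ ∈ M := by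
      rintro u hu _ ⟨n, hn, rfl⟩
      have hu' : ψ.symm u * t = t * ψ.symm u := ψ.injective (by
        rw [map_mul, map_mul, hψt, ψ.apply_symm_apply, hEt u hu])
      obtain ⟨w, hw, hw'⟩ := hdec _ hu'
      refine ⟨w * n * w⁻¹, hNn w hw n hn, ?_⟩
      have h1 : ψ.symm u * n * (ψ.symm u)⁻¹ = w * n * w⁻¹ := by
        rcases hw' with h | h <;> rw [h]
        rw [show t * w * n * (t * w)⁻¹ = t * (w * n * w⁻¹) * t⁻¹ by group,
          ← hEt _ (mul_mem (mul_mem hw (hdecN n hn)) (inv_mem hw)), mul_inv_cancel_right]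
      show ψ (w * n * w⁻¹) = u * ψ n * u⁻¹
      rw [← h1, map_mul, map_mul, map_inv, ψ.apply_symm_apply]
    haveI : (M.comap ι).Normal := ⟨fun n hn g' => by
      rw [Subgroup.mem_comap, map_mul, map_mul, map_inv]
      exact hMn _ (e.symm g').1.2 _ hn⟩
    have hMN : M = ι.range := by
      rcases Subgroup.Normal.eq_bot_or_eq_top ‹(M.comap ι).Normal› with h | h
      · exfalso
        have hMbot : ∀ n ∈ M, n = 1 := fun n hn => hcent n (hME hn) fun m hm => by
          have h1 : n * m * n⁻¹ * m⁻¹ ∈ ι.range :=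
            mul_mem (hNn n (hME hn) m hm) (inv_mem hm)
          have h3 : n * m * n⁻¹ * m⁻¹ ∈ M := by
            rw [mul_assoc, mul_assoc]
            refine mul_mem hn ?_
            rw [← mul_assoc]
            exact hMn m (hdecN m hm) _ (inv_mem hn)
          obtain ⟨z, hz⟩ := h1
          have hz1 : z = 1 := Subgroup.mem_bot.1 (h ▸ (show ι z ∈ M from hz ▸ h3))
          rw [hz1, map_one] at hz
          exact commutatorElement_eq_one_iff_mul_comm.1 ((commutatorElement_def n m).trans hz.symm)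
        have := hMbot _ ⟨a, ⟨_, rfl⟩, rfl⟩
        exact D.a1 (ψ.injective (this.trans (map_one ψ).symm))
      · refine (Subgroup.eq_of_le_of_card_ge ?_
          (Subgroup.card_map_of_injective ψ.injective).le).symm
        rintro _ ⟨z, rfl⟩
        exact (h ▸ Subgroup.mem_top z : z ∈ M.comap ι)
    obtain ⟨β, hβ, hβpow⟩ := exists_restrict ι hι ψ hMN
    have hβk : β ^ 2 ^ k = 1 := MulEquiv.ext fun z => hι (by rw [hβpow, hψk]; rfl)
    have hβx : β (proj x) = proj x := hι (by rw [hβ]; exact hψS _ D.aS)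
    have hβy : β (proj y) = proj y := hι (by rw [hβ]; exact hψS _ D.bS)
    obtain ⟨v₀, hv₀, hβv⟩ := KleinAut.eq_conj_of_fix hFo hm hq hβk hβx hβy
    have hv : ι v₀ ∈ (S : Subgroup G) := hVS ⟨_, hv₀, rfl⟩
    set v := ι v₀ with hvdef
    set χ : MulAut G := MulAut.conj v⁻¹ * ψ with hχ
    have hcm : Commute (MulAut.conj v⁻¹) ψ := by
      refine MulEquiv.ext fun g' => ?_
      simp [MulAut.mul_apply, hψS v hv, map_mul, map_inv]
    have hχk : χ ^ 2 ^ (k + 1) = 1 := by
      rw [hχ, hcm.mul_pow, pow_succ 2 k, pow_mul ψ, hψk, one_pow, mul_one, mul_comm (2 ^ k) 2, pow_mul,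
        pow_two (MulAut.conj v⁻¹), ← map_mul, ← _root_.mul_inv_rev, D.sq v hv, inv_one, map_one, one_pow]
    obtain ⟨z, hz, hχz⟩ := D.inner_of_fix htt ht1 hmax hdec hEt hdecN hNn hcent χ hχk
      (fun s hs => by
        show v⁻¹ * ψ s * v⁻¹⁻¹ = s
        rw [hψS s hs, inv_inv, mul_assoc, hScomm s hs v hv, inv_mul_cancel_left])
      (by
        rintro _ ⟨n, rfl⟩
        show v⁻¹ * ψ (ι n) * v⁻¹⁻¹ = ι n
        rw [← hβ, hβv, MulAut.conj_apply, map_mul, map_mul, map_inv, inv_inv, ← hvdef]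
        group)
    refine ⟨g * (v * z) * g⁻¹, fun p => ?_⟩
    have h1 : ψ (g⁻¹ * p * g) = v * (z * (g⁻¹ * p * g) * z⁻¹) * v⁻¹ := by
      have h3 : χ (g⁻¹ * p * g) = z * (g⁻¹ * p * g) * z⁻¹ := by rw [hχz]; rfl
      have h4 : v⁻¹ * ψ (g⁻¹ * p * g) * v⁻¹⁻¹ = z * (g⁻¹ * p * g) * z⁻¹ := h3
      rw [← h4]; group
    have h5 : ψ (g⁻¹ * p * g) = g⁻¹ * φ p * g := by
      show (MulAut.conj g)⁻¹ (φ (g * (g⁻¹ * p * g) * g⁻¹)) = _
      rw [MulAut.conj_inv_apply, show g * (g⁻¹ * p * g) * g⁻¹ = p by group]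
    rw [h5] at h1
    calc φ p = g * (g⁻¹ * φ p * g) * g⁻¹ := by group
      _ = _ := by rw [h1]; group

end Build

end Cfsg.Agent.Fus.JankoRee
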