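import Cfsg.Prelude.Def_JordanBlocks
import Mathlib

/-! The centralizer of a unipotent matrix of given Jordan type: its algebra, the Levi quotient, and the orders. -/

set_option autoImplicit false

namespace Cfsg.Agent.Fus.JordanCentralizer

open Matrix

variable {F : Type*} [Field F] {t : ℕ} {d : Fin t → ℕ}

/-- The index type of a Jordan type. -/
abbrev Idx (d : Fin t → ℕ) := (k : Fin t) × Fin (d k)

variable (d F) in
/-- The nilpotent part of the Jordan matrix. -/
def nil : Matrix (Idx d) (Idx d) F :=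
  Matrix.of fun a b => if a.1 = b.1 ∧ (a.2 : ℕ) = (b.2 : ℕ) + 1 then 1 else 0

theorem nil_apply (a b : Idx d) :
    nil F d a b = if a.1 = b.1 ∧ (a.2 : ℕ) = (b.2 : ℕ) + 1 then 1 else 0 := rfl

theorem jordan_eq : Cfsg.jordanTypeMatrix d F = 1 + nil F d := by
  ext ⟨k, r⟩ ⟨l, s⟩
  rw [Cfsg.jordanTypeMatrix, blockDiagonal'_apply, Matrix.add_apply, nil_apply]
  by_cases h : k = l
  · subst h
    simp only [dif_pos, cast_eq, true_and, Cfsg.jordanBlock, Matrix.of_apply, Matrix.one_apply, Sigma.mk.injEq, heq_eq_eq, Fin.ext_iff]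
    split_ifs <;> first | omega | simp
  · rw [dif_neg h, Matrix.one_apply_ne (fun e => h (congrArg Sigma.fst e)), if_neg (fun e => h e.1), add_zero]

theorem commute_jordan_iff (A : Matrix (Idx d) (Idx d) F) :
    A * Cfsg.jordanTypeMatrix d F = Cfsg.jordanTypeMatrix d F * A ↔ A * nil F d = nil F d * A := by
  rw [jordan_eq, mul_add, add_mul, mul_one, one_mul, add_right_inj]

/-- Entries of a matrix, extended by zero to natural number indices. -/
def ent (A : Matrix (Idx d) (Idx d) F) (k l : Fin t) (r s : ℕ) : F :=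
  if h : r < d k ∧ s < d l then A ⟨k, ⟨r, h.1⟩⟩ ⟨l, ⟨s, h.2⟩⟩ else 0

theorem ent_apply (A : Matrix (Idx d) (Idx d) F) {k l : Fin t} (r : Fin (d k)) (s : Fin (d l)) :
    ent A k l r s = A ⟨k, r⟩ ⟨l, s⟩ := dif_pos ⟨r.2, s.2⟩

theorem ent_out_left (A : Matrix (Idx d) (Idx d) F) {k l : Fin t} {r : ℕ} (h : d k ≤ r) (s : ℕ) :
    ent A k l r s = 0 := dif_neg fun e => by omega

theorem ent_out_right (A : Matrix (Idx d) (Idx d) F) {k l : Fin t} (r : ℕ) {s : ℕ} (h : d l ≤ s) :
    ent A k l r s = 0 := dif_neg fun e => by omega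

theorem ent_add (A B : Matrix (Idx d) (Idx d) F) (k l : Fin t) (r s : ℕ) :
    ent (A + B) k l r s = ent A k l r s + ent B k l r s := by
  unfold ent; split_ifs <;> simp

theorem ent_smul (c : F) (A : Matrix (Idx d) (Idx d) F) (k l : Fin t) (r s : ℕ) :
    ent (c • A) k l r s = c * ent A k l r s := by
  unfold ent; split_ifs <;> simp

theorem mul_nil_ent (A : Matrix (Idx d) (Idx d) F) {k l : Fin t} {r s : ℕ} (hr : r < d k) (hs : s < d l) :
    ent (A * nil F d) k l r s = ent A k l r (s + 1) := by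
  rw [ent, dif_pos ⟨hr, hs⟩, Matrix.mul_apply]
  by_cases h : s + 1 < d l
  · rw [Finset.sum_eq_single (⟨l, ⟨s + 1, h⟩⟩ : Idx d), nil_apply, if_pos ⟨rfl, rfl⟩, mul_one, ent, dif_pos ⟨hr, h⟩]
    · intro b _ hb
      rw [nil_apply, if_neg, mul_zero]
      rintro ⟨h1, h2⟩
      refine hb ?_
      obtain ⟨b1, b2⟩ := b
      subst h1
      exact Sigma.ext rfl (heq_of_eq (Fin.ext h2))
    · simp
  · rw [ent_out_right A r (by omega)]
    refine Finset.sum_eq_zero fun b _ => ?_
    rw [nil_apply, if_neg, mul_zero]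
    rintro ⟨h1, h2⟩
    obtain ⟨b1, b2⟩ := b
    subst h1
    exact h ((show (b2 : ℕ) = s + 1 from h2) ▸ b2.2)

theorem nil_mul_ent (A : Matrix (Idx d) (Idx d) F) {k l : Fin t} {r s : ℕ} (hr : r < d k) (hs : s < d l) :
    ent (nil F d * A) k l r s = if 0 < r then ent A k l (r - 1) s else 0 := by
  rw [ent, dif_pos ⟨hr, hs⟩, Matrix.mul_apply]
  split_ifs with h
  · rw [Finset.sum_eq_single (⟨k, ⟨r - 1, by omega⟩⟩ : Idx d), nil_apply, if_pos ⟨rfl, show r = r - 1 + 1 by omega⟩,
      one_mul, ent, dif_pos ⟨by omega, hs⟩]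
    · intro b _ hb
      rw [nil_apply, if_neg, zero_mul]
      rintro ⟨h1, h2⟩
      refine hb ?_
      obtain ⟨b1, b2⟩ := b
      subst h1
      have h2' : r = (b2 : ℕ) + 1 := h2
      exact Sigma.ext rfl (heq_of_eq (Fin.ext (show (b2 : ℕ) = r - 1 by omega)))
    · simp
  · refine Finset.sum_eq_zero fun b _ => ?_
    rw [nil_apply, if_neg, zero_mul]
    rintro ⟨_, h2⟩
    simp only at h2
    omega

/-- Entrywise form of commuting with the nilpotent part. -/
theorem commute_iff (A : Matrix (Idx d) (Idx d) F) :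
    A * nil F d = nil F d * A ↔ ∀ k l r s, r < d k → s < d l →
      ent A k l r (s + 1) = if 0 < r then ent A k l (r - 1) s else 0 := by
  constructor
  · intro h k l r s hr hs
    rw [← mul_nil_ent A hr hs, h, nil_mul_ent A hr hs]
  · intro h
    ext ⟨k, r⟩ ⟨l, s⟩
    rw [← ent_apply (A * nil F d) r s, ← ent_apply (nil F d * A) r s, mul_nil_ent A r.2 s.2, nil_mul_ent A r.2 s.2, h k l r s r.2 s.2]

variable {A : Matrix (Idx d) (Idx d) F}

theorem ent_eq_shift (hA : A * nil F d = nil F d * A) (k l : Fin t) :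
    ∀ s r : ℕ, r < d k → s < d l → ent A k l r s = if s ≤ r then ent A k l (r - s) 0 else 0
  | 0, r, _, _ => by simp
  | s + 1, r, hr, hs => by
    rw [(commute_iff A).1 hA k l r s hr (by omega)]
    split_ifs with h1 h2 h2
    · rw [ent_eq_shift hA k l s (r - 1) (by omega) (by omega), if_pos (by omega), show r - 1 - s = r - (s + 1) by omega]
    · rw [ent_eq_shift hA k l s (r - 1) (by omega) (by omega), if_neg (by omega)]
    · omega
    · rfl

theorem ent_zero_low (hA : A * nil F d = nil F d * A) {k l : Fin t} {j : ℕ} (h : j + d l < d k) :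
    ent A k l j 0 = 0 := by
  rcases Nat.eq_zero_or_pos (d l) with h0 | h0
  · exact ent_out_right A j (by omega)
  have h1 := (commute_iff A).1 hA k l (j + d l) (d l - 1) h (by omega)
  rw [ent_out_right A _ (by omega), if_pos (by omega), ent_eq_shift hA k l _ _ (by omega) (by omega),
    if_pos (by omega), show j + d l - 1 - (d l - 1) = j by omega] at h1
  exact h1.symm

theorem ent_zero_first_row (hA : A * nil F d = nil F d * A) {k l : Fin t} {s : ℕ} (hs : 0 < s) :
    ent A k l 0 s = 0 := by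
  by_cases h : 0 < d k ∧ s < d l
  · rw [ent_eq_shift hA k l s 0 h.1 h.2, if_neg (by omega)]
  · exact dif_neg h

/-- A matrix of the centralizer algebra from its free parameters. -/
def toMat (x : (k l : Fin t) → Fin (min (d k) (d l)) → F) : Matrix (Idx d) (Idx d) F :=
  Matrix.of fun a b => if h : (b.2 : ℕ) ≤ a.2 ∧ d a.1 - 1 - ((a.2 : ℕ) - b.2) < d b.1
    then x a.1 b.1 ⟨d a.1 - 1 - ((a.2 : ℕ) - b.2), lt_min (by have := a.2.2; omega) h.2⟩ else 0

theorem ent_toMat (x : (k l : Fin t) → Fin (min (d k) (d l)) → F) (k l : Fin t) (r s : ℕ) :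
    ent (toMat x) k l r s = if h : r < d k ∧ s < d l ∧ s ≤ r ∧ d k - 1 - (r - s) < d l
      then x k l ⟨d k - 1 - (r - s), lt_min (by omega) h.2.2.2⟩ else 0 := by
  unfold ent
  by_cases h : r < d k ∧ s < d l
  · rw [dif_pos h, toMat, Matrix.of_apply]
    by_cases h' : s ≤ r ∧ d k - 1 - (r - s) < d l
    · rw [dif_pos h', dif_pos ⟨h.1, h.2, h'⟩]
    · rw [dif_neg h', dif_neg (fun e => h' e.2.2)]
  · rw [dif_neg h, dif_neg (fun e => h ⟨e.1, e.2.1⟩)]

theorem toMat_commute (x : (k l : Fin t) → Fin (min (d k) (d l)) → F) :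
    toMat x * nil F d = nil F d * toMat x := by
  rw [commute_iff]
  intro k l r s hr hs
  rw [ent_toMat, ent_toMat]
  split_ifs with h1 h2 h3 h3 h4
  all_goals first
    | rfl
    | omega
    | exact congrArg (x k l) (Fin.ext (by simp only; omega))

variable (d F) in
/-- The centralizer algebra of the Jordan matrix. -/
def cAlg : Subalgebra F (Matrix (Idx d) (Idx d) F) := Subalgebra.centralizer F {nil F d}

theorem mem_cAlg {A : Matrix (Idx d) (Idx d) F} : A ∈ cAlg F d ↔ A * nil F d = nil F d * A := by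
  rw [cAlg, Subalgebra.mem_centralizer_iff]
  simp [eq_comm]

/-- The free parameters of the centralizer algebra. -/
noncomputable def cAlgEquiv : cAlg F d ≃ ((k l : Fin t) → Fin (min (d k) (d l)) → F) where
  toFun A k l j := ent A.1 k l (d k - 1 - j) 0
  invFun x := ⟨toMat x, mem_cAlg.2 (toMat_commute x)⟩
  left_inv A := by
    have hA := mem_cAlg.1 A.2
    refine Subtype.ext (Matrix.ext fun a b => ?_)
    obtain ⟨k, r⟩ := a
    obtain ⟨l, s⟩ := b
    simp only
    rw [← ent_apply (toMat _) r s, ← ent_apply A.1 r s, ent_toMat]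
    have := r.2
    have := s.2
    split_ifs with h
    · rw [ent_eq_shift hA k l s r r.2 s.2, if_pos h.2.2.1]
      congr 1
      simp only
      omega
    · rw [ent_eq_shift hA k l s r r.2 s.2]
      split_ifs with hsr
      · exact (ent_zero_low hA (by omega)).symm
      · rfl
  right_inv x := by
    funext k l j
    have := j.2
    simp only
    rw [ent_toMat, dif_pos (by omega)]
    exact congrArg (x k l) (Fin.ext (by simp only; omega))

theorem natCard_cAlg [Finite F] : Nat.card (cAlg F d) = Nat.card F ^ ∑ k, ∑ l, min (d k) (d l) := by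
  rw [Nat.card_congr cAlgEquiv, Nat.card_pi, ← Finset.prod_pow_eq_pow_sum]
  refine Finset.prod_congr rfl fun k _ => ?_
  rw [Nat.card_pi, ← Finset.prod_pow_eq_pow_sum]
  exact Finset.prod_congr rfl fun l _ => by rw [Nat.card_fun, Nat.card_fin]

variable (d F) in
/-- The Levi quotient: one matrix algebra for each block size. -/
abbrev Lev := (i : Fin (Finset.univ.sup d + 1)) → Matrix {k // d k = (i : ℕ)} {k // d k = (i : ℕ)} F

variable (d F) in
/-- The projection of the centralizer algebra onto its Levi quotient. -/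
def proj (hd : ∀ k, 1 ≤ d k) : cAlg F d →ₐ[F] Lev F d where
  toFun A i := Matrix.of fun k l => ent A.1 k.1 l.1 0 0
  map_one' := by
    funext i
    ext k l
    simp only [Matrix.of_apply, Pi.one_apply, OneMemClass.coe_one]
    rw [ent, dif_pos ⟨hd _, hd _⟩, Matrix.one_apply, Matrix.one_apply]
    by_cases h : k = l
    · subst h; simp
    · rw [if_neg h, if_neg (fun e => h (Subtype.ext (congrArg Sigma.fst e)))]
  map_mul' A B := by
    funext i
    ext k l
    simp only [Matrix.of_apply, Pi.mul_apply, MulMemClass.coe_mul, Matrix.mul_apply (M := Matrix.of _)]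
    have hA := mem_cAlg.1 A.2
    have hB := mem_cAlg.1 B.2
    rw [ent, dif_pos ⟨hd _, hd _⟩, Matrix.mul_apply, Fintype.sum_sigma]
    have h1 : ∀ m : Fin t, (∑ s : Fin (d m), A.1 ⟨k.1, ⟨0, hd _⟩⟩ ⟨m, s⟩ * B.1 ⟨m, s⟩ ⟨l.1, ⟨0, hd _⟩⟩) =
        ent A.1 k.1 m 0 0 * ent B.1 m l.1 0 0 := fun m => by
      rw [Finset.sum_eq_single (⟨0, hd m⟩ : Fin (d m))]
      · rw [← ent_apply A.1, ← ent_apply B.1]
      · intro s _ hs
        have hs0 : 0 < (s : ℕ) := Nat.pos_of_ne_zero fun e => hs (Fin.ext e)
        rw [← ent_apply A.1, ent_zero_first_row hA hs0, zero_mul]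
      · simp
    rw [Finset.sum_congr rfl fun m _ => h1 m, ← Finset.sum_filter_of_ne (p := fun m => d m = (i : ℕ))]
    · exact (Finset.sum_subtype _ (fun m => by simp) (fun m => ent A.1 k.1 m 0 0 * ent B.1 m l.1 0 0))
    · intro m _ hm
      by_contra hne
      rcases lt_or_gt_of_ne hne with h | h
      · rw [ent_zero_low hA (show 0 + d m < d k.1 by rw [k.2]; omega), zero_mul] at hm
        exact hm rfl
      · rw [ent_zero_low hB (show 0 + d l.1 < d m by rw [l.2]; omega), mul_zero] at hm
        exact hm rfl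
  map_zero' := by
    funext i
    ext k l
    simp [ent]
  map_add' A B := by
    funext i
    ext k l
    simp [ent_add]
  commutes' c := by
    funext i
    ext k l
    rw [Matrix.of_apply, Subalgebra.coe_algebraMap, Algebra.algebraMap_eq_smul_one, ent_smul]
    rw [Pi.algebraMap_apply, Algebra.algebraMap_eq_smul_one, Matrix.smul_apply, smul_eq_mul]
    congr 1
    rw [ent, dif_pos ⟨hd _, hd _⟩, Matrix.one_apply, Matrix.one_apply]
    by_cases h : k = l
    · subst h; simp
    · rw [if_neg h, if_neg (fun e => h (Subtype.ext (congrArg Sigma.fst e)))]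

theorem proj_apply (hd : ∀ k, 1 ≤ d k) (A : cAlg F d) (i : Fin (Finset.univ.sup d + 1))
    (k l : {k // d k = (i : ℕ)}) : proj F d hd A i k l = ent A.1 k.1 l.1 0 0 := rfl

theorem le_sup (k : Fin t) : d k < Finset.univ.sup d + 1 :=
  Nat.lt_succ_of_le (Finset.le_sup (f := d) (Finset.mem_univ k))

theorem proj_surjective (hd : ∀ k, 1 ≤ d k) : Function.Surjective (proj F d hd) := by
  intro M
  refine ⟨⟨toMat fun k l j => if h : d l = d k ∧ (j : ℕ) = d k - 1
    then M ⟨d k, le_sup k⟩ ⟨k, rfl⟩ ⟨l, h.1⟩ else 0, mem_cAlg.2 (toMat_commute _)⟩, ?_⟩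
  funext i
  ext k l
  obtain ⟨i, hi⟩ := i
  obtain ⟨k, hk⟩ := k
  obtain ⟨l, hl⟩ := l
  simp only at hk hl
  subst hk
  have := hd k
  simp only [proj_apply, ent_toMat]
  rw [dif_pos (show 0 < d k ∧ 0 < d l ∧ 0 ≤ 0 ∧ d k - 1 - (0 - 0) < d l by omega), dif_pos ⟨hl, by simp⟩]

/-- The kernel of the projection consists of nilpotent matrices. -/
theorem isNilpotent_of_proj_eq_zero (hd : ∀ k, 1 ≤ d k) {A : cAlg F d} (h0 : proj F d hd A = 0) :
    IsNilpotent (A : Matrix (Idx d) (Idx d) F) := by
  classical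
  have hA := mem_cAlg.1 A.2
  set D := Finset.univ.sup d
  let w : Idx d → ℕ := fun a => (a.2 : ℕ) * (D + 1) + (D - d a.1)
  have key : ∀ a b, A.1 a b ≠ 0 → w b < w a := by
    rintro ⟨k, r⟩ ⟨l, s⟩ hne
    rw [← ent_apply A.1 r s, ent_eq_shift hA k l s r r.2 s.2] at hne
    have hk : d k ≤ D := Finset.le_sup (f := d) (Finset.mem_univ k)
    split_ifs at hne with hsr
    · rcases hsr.lt_or_eq with hlt | heq
      · have : ((s : ℕ) + 1) * (D + 1) ≤ (r : ℕ) * (D + 1) := Nat.mul_le_mul_right _ hlt
        simp only [w]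
        rw [Nat.succ_mul] at this
        omega
      · rw [heq, Nat.sub_self] at hne
        have h1 : d k ≤ d l := by
          by_contra hlk
          exact hne (ent_zero_low hA (by omega))
        have h2 : d k ≠ d l := fun e => hne (by
          have := congrFun (congrFun (congrFun h0 ⟨d k, le_sup k⟩) ⟨k, rfl⟩) ⟨l, e.symm⟩
          rwa [proj_apply] at this)
        have hl : d l ≤ D := Finset.le_sup (f := d) (Finset.mem_univ l)
        simp only [w, heq]
        clear_value D
        omega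
    · exact absurd rfl hne
  have hpow : ∀ m a b, (A.1 ^ m) a b ≠ 0 → w b + m ≤ w a := by
    intro m
    induction m with
    | zero =>
      intro a b h
      rw [pow_zero, Matrix.one_apply] at h
      split_ifs at h with e
      · rw [e, add_zero]
      · exact absurd rfl h
    | succ m ih =>
      intro a b h
      rw [pow_succ, Matrix.mul_apply] at h
      obtain ⟨c, -, hc⟩ := Finset.exists_ne_zero_of_sum_ne_zero h
      have h1 := ih a c (left_ne_zero_of_mul hc)
      have h2 := key c b (right_ne_zero_of_mul hc)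
      omega
  refine ⟨Finset.univ.sup w + 1, Matrix.ext fun a b => ?_⟩
  by_contra h
  have := hpow _ a b h
  have : w a ≤ Finset.univ.sup w := Finset.le_sup (f := w) (Finset.mem_univ a)
  omega

theorem isUnit_iff (hd : ∀ k, 1 ≤ d k) (A : cAlg F d) :
    IsUnit (A : Matrix (Idx d) (Idx d) F) ↔ IsUnit (proj F d hd A) := by
  constructor
  · rintro ⟨u, hu⟩
    have hmem : ((u⁻¹ : (Matrix (Idx d) (Idx d) F)ˣ) : Matrix (Idx d) (Idx d) F) ∈ cAlg F d := by
      have hc : Commute (u : Matrix (Idx d) (Idx d) F) (nil F d) := by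
        rw [hu]; exact mem_cAlg.1 A.2
      exact mem_cAlg.2 hc.units_inv_left
    refine ⟨⟨proj F d hd A, proj F d hd ⟨_, hmem⟩, ?_, ?_⟩, rfl⟩ <;> rw [← map_mul] <;>
      convert map_one (proj F d hd) using 2 <;> refine Subtype.ext ?_ <;> simp [← hu]
  · rintro ⟨u, hu⟩
    obtain ⟨B, hB⟩ := proj_surjective hd (u⁻¹).val
    have h1 : IsNilpotent ((A * B - 1 : cAlg F d) : Matrix (Idx d) (Idx d) F) :=
      isNilpotent_of_proj_eq_zero hd (by rw [map_sub, map_mul, hB, ← hu, Units.mul_inv, map_one, sub_self])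
    have h2 : IsUnit ((A : Matrix (Idx d) (Idx d) F) * B) := by
      have := h1.isUnit_one_add
      simpa using this
    rw [Matrix.isUnit_iff_isUnit_det, Matrix.det_mul] at h2
    exact (Matrix.isUnit_iff_isUnit_det _).2 (isUnit_of_mul_isUnit_left h2)

/-- Counting preimages under a surjective homomorphism of groups. -/
theorem natCard_preimage {X Y : Type*} [AddCommGroup X] [AddCommGroup Y] (f : X →+ Y) (hf : Function.Surjective f)
    (P : Y → Prop) : Nat.card {x // P (f x)} = Nat.card {x // f x = 0} * Nat.card {y // P y} := by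
  rw [← Nat.card_prod]
  refine Nat.card_congr
    { toFun := fun x => (⟨x.1 - Function.surjInv hf (f x.1), by rw [map_sub, Function.surjInv_eq hf, sub_self]⟩,
        ⟨f x.1, x.2⟩)
      invFun := fun p => ⟨p.1.1 + Function.surjInv hf p.2.1, by
        rw [map_add, p.1.2, zero_add, Function.surjInv_eq hf]; exact p.2.2⟩
      left_inv := fun x => Subtype.ext (by simp)
      right_inv := fun p => by
        have h : f (p.1.1 + Function.surjInv hf p.2.1) = p.2.1 := by
          rw [map_add, p.1.2, zero_add, Function.surjInv_eq hf]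
        exact Prod.ext (Subtype.ext (by simp only [h, add_sub_cancel_right])) (Subtype.ext h) }

/-- Units as a subtype. -/
noncomputable def unitsEquiv {M : Type*} [Monoid M] : Mˣ ≃ {x : M // IsUnit x} where
  toFun u := ⟨u, u.isUnit⟩
  invFun x := x.2.unit
  left_inv _ := Units.ext rfl
  right_inv _ := Subtype.ext rfl

/-- The exponent of the unipotent radical. -/
def expo (d : Fin t → ℕ) : ℕ :=
  2 * (∑ i ∈ Finset.range (Finset.univ.sup d + 1), ∑ j ∈ Finset.range (Finset.univ.sup d + 1),
      if i < j then i * (Finset.univ.filter (fun k : Fin t => d k = i)).card *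
        (Finset.univ.filter (fun k : Fin t => d k = j)).card else 0) +
    ∑ i ∈ Finset.range (Finset.univ.sup d + 1), (i - 1) * (Finset.univ.filter (fun k : Fin t => d k = i)).card ^ 2

theorem sum_min (hd : ∀ k, 1 ≤ d k) : ∑ k, ∑ l, min (d k) (d l) =
    expo d + ∑ i ∈ Finset.range (Finset.univ.sup d + 1), (Finset.univ.filter (fun k : Fin t => d k = i)).card ^ 2 := by
  set R := Finset.range (Finset.univ.sup d + 1) with hR
  set a : ℕ → ℕ := fun i => (Finset.univ.filter (fun k : Fin t => d k = i)).card with ha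
  have hcomp : ∀ f : ℕ → ℕ, ∑ k, f (d k) = ∑ i ∈ R, a i * f i := fun f => by
    rw [← Finset.sum_fiberwise_of_maps_to (t := R) (g := d) (fun k _ => Finset.mem_range.2 (le_sup k))]
    refine Finset.sum_congr rfl fun i _ => ?_
    rw [Finset.sum_congr rfl (fun k hk => by rw [(Finset.mem_filter.1 hk).2]), Finset.sum_const, smul_eq_mul]
  rw [hcomp fun i => ∑ l, min i (d l), Finset.sum_congr rfl fun i _ => by rw [hcomp fun j => min i j]]
  show _ = (2 * (∑ i ∈ R, ∑ j ∈ R, if i < j then i * a i * a j else 0) + ∑ i ∈ R, (i - 1) * a i ^ 2) +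
    ∑ i ∈ R, a i ^ 2
  rw [two_mul]
  nth_rewrite 2 [Finset.sum_comm]
  rw [← Finset.sum_add_distrib, ← Finset.sum_add_distrib, ← Finset.sum_add_distrib]
  refine Finset.sum_congr rfl fun i hi => ?_
  have h0 : (i - 1) * a i ^ 2 + a i ^ 2 = ∑ j ∈ R, if i = j then i * a i * a j else 0 := by
    rw [Finset.sum_ite_eq, if_pos hi]
    rcases Nat.eq_zero_or_pos i with rfl | hpos
    · have : a 0 = 0 := by
        simp only [ha, Finset.card_eq_zero, Finset.filter_eq_empty_iff]
        intro k _
        have := hd k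
        omega
      simp [this]
    · obtain ⟨m, rfl⟩ : ∃ m, i = m + 1 := ⟨i - 1, by omega⟩
      simp only [Nat.add_sub_cancel]
      ring
  rw [add_assoc, h0, Finset.mul_sum, ← Finset.sum_add_distrib, ← Finset.sum_add_distrib]
  refine Finset.sum_congr rfl fun j _ => ?_
  rcases lt_trichotomy i j with h | h | h
  · rw [if_pos h, if_neg h.asymm, if_neg h.ne, min_eq_left h.le]; ring
  · subst h; simp; ring
  · rw [if_neg h.asymm, if_pos h, if_neg h.ne', min_eq_right h.le]; ring

theorem natCard_ker [Finite F] (hd : ∀ k, 1 ≤ d k) :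
    Nat.card {A : cAlg F d // proj F d hd A = 0} = Nat.card F ^ expo d := by
  have hlev : Nat.card (Lev F d) =
      Nat.card F ^ ∑ i ∈ Finset.range (Finset.univ.sup d + 1), (Finset.univ.filter (fun k : Fin t => d k = i)).card ^ 2 := by
    rw [Nat.card_pi, ← Finset.prod_pow_eq_pow_sum,
      ← Fin.prod_univ_eq_prod_range (fun i => Nat.card F ^ (Finset.univ.filter (fun k : Fin t => d k = i)).card ^ 2)]
    refine Finset.prod_congr rfl fun i _ => ?_
    rw [show Nat.card (Matrix {k // d k = (i : ℕ)} {k // d k = (i : ℕ)} F) =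
      Nat.card ({k // d k = (i : ℕ)} → {k // d k = (i : ℕ)} → F) from rfl, Nat.card_fun, Nat.card_fun,
      Nat.card_eq_fintype_card (α := {k // d k = (i : ℕ)}), Fintype.card_subtype, ← pow_mul, sq]
    try simp
  have h := natCard_preimage (proj F d hd).toAddMonoidHom (proj_surjective hd) (fun _ => True)
  rw [Nat.card_congr (Equiv.subtypeUnivEquiv fun _ => trivial),
    Nat.card_congr (Equiv.subtypeUnivEquiv fun _ => trivial), natCard_cAlg, sum_min hd, pow_add, hlev] at h
  exact (Nat.mul_right_cancel (pow_pos Nat.card_pos _) h).symm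

theorem natCard_GL_subtype {n : Type*} [Fintype n] [DecidableEq n] [Fintype F] {a : ℕ} (h : Fintype.card n = a) :
    Nat.card (Matrix n n F)ˣ = ∏ j : Fin a, (Fintype.card F ^ a - Fintype.card F ^ (j : ℕ)) := by
  rw [← Matrix.card_GL_field (𝔽 := F) a]
  exact Nat.card_congr (Units.mapEquiv
    (Matrix.reindexAlgEquiv F F (Fintype.equivFinOfCardEq h)).toMulEquiv).toEquiv

/-- The order of the centralizer of a unipotent matrix in the general linear group. -/
theorem natCard_centralizer [Fintype F] (hd : ∀ k, 1 ≤ d k) :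
    Nat.card {g : GL (Idx d) F // (g : Matrix (Idx d) (Idx d) F) * Cfsg.jordanTypeMatrix d F =
        Cfsg.jordanTypeMatrix d F * (g : Matrix (Idx d) (Idx d) F)} =
      Fintype.card F ^ expo d * ∏ i ∈ Finset.range (Finset.univ.sup d + 1),
        ∏ j : Fin (Finset.univ.filter (fun k : Fin t => d k = i)).card,
          (Fintype.card F ^ (Finset.univ.filter (fun k : Fin t => d k = i)).card - Fintype.card F ^ (j : ℕ)) := by
  have e1 : {g : GL (Idx d) F // (g : Matrix (Idx d) (Idx d) F) * Cfsg.jordanTypeMatrix d F =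
      Cfsg.jordanTypeMatrix d F * (g : Matrix (Idx d) (Idx d) F)} ≃
      {A : cAlg F d // IsUnit ((proj F d hd).toAddMonoidHom A)} :=
    { toFun := fun g => ⟨⟨g.1, mem_cAlg.2 ((commute_jordan_iff _).1 g.2)⟩, (isUnit_iff hd _).1 g.1.isUnit⟩
      invFun := fun A => ⟨((isUnit_iff hd A.1).2 A.2).unit, (commute_jordan_iff _).2 (mem_cAlg.1 A.1.2)⟩
      left_inv := fun g => Subtype.ext (Units.ext rfl)
      right_inv := fun A => Subtype.ext (Subtype.ext rfl) }
  rw [Nat.card_congr e1, natCard_preimage _ (proj_surjective hd) IsUnit]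
  refine congrArg₂ (· * ·) ((natCard_ker hd).trans (by rw [Nat.card_eq_fintype_card])) ?_
  rw [Nat.card_congr (unitsEquiv (M := Lev F d)).symm,
    Nat.card_congr MulEquiv.piUnits.toEquiv, Nat.card_pi,
    ← Fin.prod_univ_eq_prod_range (fun i => ∏ j : Fin (Finset.univ.filter (fun k : Fin t => d k = i)).card,
      (Fintype.card F ^ (Finset.univ.filter (fun k : Fin t => d k = i)).card - Fintype.card F ^ (j : ℕ)))]
  exact Finset.prod_congr rfl fun i _ => natCard_GL_subtype (Fintype.card_subtype _)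

end Cfsg.Agent.Fus.JordanCentralizer
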