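import Mathlib
import Cfsg.Agent.Lib.Fus.InterNormal
import Cfsg.Agent.Lib.Fus.NormalizerSat
import Cfsg.Agent.Lib.Fus.SatCriterionExt
import Cfsg.Agent.Lib.Fus.CommFix

/-!
For a normal subsystem `E` over `U`: the automorphisms of a subgroup `P` of `S` obtained from
automorphisms of order prime to `p` inside `E` on centric traces and conjugations from `U`, under
products, transport and restriction.  In a group these are the automorphisms induced by the normal
subgroup realizing `E`.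
-/

set_option autoImplicit false
set_option linter.style.haveILetI false
set_option linter.unusedSectionVars false
set_option linter.unusedVariables false

open scoped Classical

universe u

namespace Cfsg.Agent.Fus.Ker

open Subgroup FusionSystem InvMap

section Group

variable {G : Type*} [Group G] [Finite G] {p : ℕ} [Fact p.Prime]

/-- An element normalizing `J` is moved into the normalizer of a Sylow subgroup of `J`. -/
theorem exists_adjust {J A : Subgroup G} (hA : IsPGroup p A) (hAJ : A ≤ J) {g : G}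
    (hg : ∀ x ∈ J, g * x * g⁻¹ ∈ J) :
    ∃ W : Subgroup G, IsPGroup p W ∧ W ≤ J ∧ A ≤ W ∧
      ∃ j ∈ J, ∀ x ∈ W, (j * g) * x * (j * g)⁻¹ ∈ W := by
  obtain ⟨R, hR⟩ := (hA.comap_subtype (K := J) : IsPGroup p (A.subgroupOf J)).exists_le_sylow
  set W := (R : Subgroup J).map J.subtype
  have hWJ : W ≤ J := Subgroup.map_subtype_le _
  have hsy : IsSylowOf p W J := ⟨hWJ, R, by
    rw [Subgroup.subgroupOf, Subgroup.comap_map_eq_self_of_injective J.subtype_injective]⟩
  obtain ⟨c, hc, hle⟩ := hsy.exists_conj_le (A := W.map (MulAut.conj g).toMonoidHom)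
    ((R.2.map _).map _) (by
      rintro _ ⟨x, hx, rfl⟩
      exact hg x (hWJ hx))
  refine ⟨W, R.2.map _, hWJ, fun a ha => ⟨⟨a, hAJ ha⟩, hR (by exact ha), rfl⟩, c, hc,
    fun x hx => ?_⟩
  have := hle ⟨g * x * g⁻¹, ⟨x, hx, rfl⟩, rfl⟩
  simp only [MulEquiv.coe_toMonoidHom, MulAut.conj_apply] at this
  rwa [show c * g * x * (c * g)⁻¹ = c * (g * x * g⁻¹) * c⁻¹ by group]

/-- An element of order prime to `p` of the product of `K` with a `p`-group normalizing it lies in
`K`. -/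
theorem mem_of_coprime_sup {K A : Subgroup G} (hn : A ≤ Subgroup.normalizer (K : Set G))
    (hA : IsPGroup p A) {x : G} (hx : x ∈ K ⊔ A) {n : ℕ} (hnp : n.Coprime p) (hxn : x ^ n = 1) :
    x ∈ K := by
  obtain ⟨k, hk, a, ha, rfl⟩ := (mem_sup_normalized hn).1 hx
  obtain ⟨i, hi⟩ := hA ⟨a, ha⟩
  have hnK : K ⊔ A ≤ Subgroup.normalizer (K : Set G) := sup_le Subgroup.le_normalizer hn
  let H := K ⊔ A
  haveI : (K.subgroupOf H).Normal :=
    ⟨fun z hz y => (Subgroup.mem_normalizer_iff.1 (hnK y.2) z).1 hz⟩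
  let π := QuotientGroup.mk' (K.subgroupOf H)
  have h1 : π ⟨k * a, hx⟩ = π ⟨a, Subgroup.mem_sup_right ha⟩ := by
    rw [show (⟨k * a, hx⟩ : H) =
      ⟨k, Subgroup.mem_sup_left hk⟩ * ⟨a, Subgroup.mem_sup_right ha⟩ from rfl, map_mul,
      show π ⟨k, Subgroup.mem_sup_left hk⟩ = 1 from (QuotientGroup.eq_one_iff _).2 hk, one_mul]
  have h2 : π ⟨k * a, hx⟩ = 1 := InvExt.eq_one_of_coprime_pow (k := i) hnp (by
      rw [h1, ← map_pow]
      exact (congrArg π (Subtype.ext (show a ^ p ^ i = 1 from congrArg Subtype.val hi) :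
        (⟨a, Subgroup.mem_sup_right ha⟩ : H) ^ p ^ i = 1)).trans π.map_one) (by
      rw [← map_pow]
      exact (congrArg π (Subtype.ext hxn : (⟨k * a, hx⟩ : H) ^ n = 1)).trans π.map_one)
  exact (QuotientGroup.eq_one_iff (N := K.subgroupOf H) ⟨k * a, hx⟩).1 h2

omit [Finite G] [Fact p.Prime] in
/-- The order divides a number prime to `p`. -/
theorem coprime_of_pow {H : Type*} [Group H] {x : H} {n : ℕ} (hn : n.Coprime p) (hx : x ^ n = 1) :
    (orderOf x).Coprime p :=
  Nat.Coprime.coprime_dvd_left (orderOf_dvd_of_pow_eq_one hx) hn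

/-- Two complements of order prime to `p` of an abelian `p`-group are conjugate. -/
theorem exists_conj_eq {D : Subgroup G} (hD : IsPGroup p D)
    (hab : ∀ a ∈ D, ∀ b ∈ D, a * b = b * a) {t a : G} (ht : ∀ d ∈ D, t⁻¹ * d * t ∈ D)
    (ha : a ∈ D) {n m : ℕ} (hn : n.Coprime p) (hm : m.Coprime p) (htn : t ^ n = 1)
    (htam : (t * a) ^ m = 1) : ∃ d ∈ D, d * t * d⁻¹ = t * a := by
  let c : ℕ → G := fun i => (t ^ i)⁻¹ * (t * a) ^ i
  have hc1 : ∀ i, c (i + 1) = t⁻¹ * c i * t * a := fun i => by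
    show (t ^ (i + 1))⁻¹ * (t * a) ^ (i + 1) = t⁻¹ * ((t ^ i)⁻¹ * (t * a) ^ i) * t * a
    rw [pow_succ (t * a), pow_succ t, mul_inv_rev]
    simp only [mul_assoc]
  have hcD : ∀ i, c i ∈ D := by
    intro i
    induction i with
    | zero => simp [c]
    | succ i ih => rw [hc1]; exact D.mul_mem (ht _ ih) ha
  let P : ℕ → G := fun k => Nat.rec 1 (fun i r => r * c i) k
  have hPD : ∀ k, P k ∈ D := by
    intro k
    induction k with
    | zero => exact D.one_mem
    | succ k ih => exact D.mul_mem ih (hcD k)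
  have key : ∀ k, t⁻¹ * P k * t * a ^ k = P k * c k := by
    intro k
    induction k with
    | zero => simp [P, c]
    | succ k ih =>
      show t⁻¹ * (P k * c k) * t * a ^ (k + 1) = P k * c k * c (k + 1)
      rw [show t⁻¹ * (P k * c k) * t = (t⁻¹ * P k * t) * (t⁻¹ * c k * t) by group, pow_succ,
        mul_assoc, ← mul_assoc (t⁻¹ * c k * t),
        hab _ (ht _ (hcD k)) _ (D.pow_mem ha k), mul_assoc (a ^ k), ← mul_assoc, ih, hc1]
  set N := n * m with hN
  have hcN : c N = 1 := by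
    show (t ^ N)⁻¹ * (t * a) ^ N = 1
    rw [hN, pow_mul, htn, one_pow, mul_comm n m, pow_mul, htam, one_pow, inv_one, one_mul]
  have hd : t⁻¹ * P N * t = P N * (a ^ N)⁻¹ := by
    have := key N
    rw [hcN, mul_one] at this
    exact eq_mul_inv_of_mul_eq this
  obtain ⟨e, he⟩ := hD ⟨a, ha⟩
  obtain ⟨l, hl⟩ := exists_pow_eq_self_of_coprime (x := a) (n := N)
    ((((hn.mul_left hm).pow_right e)).coprime_dvd_right
      (orderOf_dvd_of_pow_eq_one (congrArg Subtype.val he)))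
  refine ⟨(P N)⁻¹ ^ l, D.pow_mem (D.inv_mem (hPD N)) l, ?_⟩
  have h1 : t⁻¹ * (P N)⁻¹ ^ l * t = a * (P N)⁻¹ ^ l := by
    have h2 : ∀ j : ℕ, t⁻¹ * (P N)⁻¹ ^ j * t = (t⁻¹ * (P N)⁻¹ * t) ^ j := fun j => by
      simpa using (map_pow (MulAut.conj t⁻¹) (P N)⁻¹ j)
    rw [h2, show t⁻¹ * (P N)⁻¹ * t = (t⁻¹ * P N * t)⁻¹ by group, hd, mul_inv_rev, inv_inv,
      Commute.mul_pow (hab _ (D.pow_mem ha N) _ (D.inv_mem (hPD N))), hl]
  calc (P N)⁻¹ ^ l * t * ((P N)⁻¹ ^ l)⁻¹
      = t * (t⁻¹ * (P N)⁻¹ ^ l * t) * ((P N)⁻¹ ^ l)⁻¹ := by group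
    _ = t * a := by rw [h1]; group

end Group

variable {Ω : Type u} [Group Ω] {S U : Subgroup Ω}

/-- Conjugation of an automorphism as a transport. -/
theorem congr_conj {R : Subgroup Ω} (γ α : MulAut R) : MulAut.congr γ α = γ * α * γ⁻¹ :=
  MulEquiv.ext fun x => by simp [MulAut.congr]

theorem congr_symm_apply {R R' : Subgroup Ω} (e : R ≃* R') (α : MulAut R) :
    MulAut.congr e.symm (MulAut.congr e α) = α :=
  MulEquiv.ext fun _ => by simp [MulAut.congr]

theorem congr_trans {R R' R'' : Subgroup Ω} (e : R ≃* R') (e' : R' ≃* R'') (α : MulAut R) :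
    MulAut.congr (e.trans e') α = MulAut.congr e' (MulAut.congr e α) :=
  MulEquiv.ext fun _ => by simp [MulAut.congr]

theorem autFun_normalizerMonoidHom {R : Subgroup Ω} {g : Ω}
    (hg : g ∈ Subgroup.normalizer (R : Set Ω)) {x : Ω} (hx : x ∈ R) :
    autFun (R.normalizerMonoidHom ⟨g, hg⟩) x = g * x * g⁻¹ :=
  autFun_coe _ ⟨x, hx⟩

theorem autFun_of_induced {R : Subgroup Ω} {α : MulAut R} {g : Ω}
    (h : ∀ x : R, ((α x : R) : Ω) = g * x * g⁻¹) {x : Ω} (hx : x ∈ R) :
    autFun α x = g * x * g⁻¹ :=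
  (autFun_coe α ⟨x, hx⟩).trans (h ⟨x, hx⟩)

theorem autInducedBy_of_autFun {K R : Subgroup Ω} {α : MulAut R} {g : Ω} (hg : g ∈ K)
    (h : ∀ x ∈ R, autFun α x = g * x * g⁻¹) : α ∈ autInducedBy K R :=
  mem_autInducedBy.2 ⟨g, hg, fun x => (autFun_coe α x).symm.trans (h x x.2)⟩

theorem autFun_conj_apply {R : Subgroup Ω} (γ α : MulAut R) {x : Ω} (hx : x ∈ R) :
    autFun (γ * α * γ⁻¹) (autFun γ x) = autFun γ (autFun α x) := by
  rw [autFun_mul _ _ (autFun_mem γ hx), autFun_inv_apply γ hx, autFun_mul _ _ hx]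

/-- The data: a normal subsystem of a saturated system. -/
structure Data (F : FusionSystem S) (p : ℕ) (E : FusionSystem U) : Prop where
  pG : IsPGroup p S
  sat : F.IsSaturated p
  nE : E.IsNormalIn F p

/-- The automorphism comes from the subsystem. -/
inductive InK (F : FusionSystem S) (E : FusionSystem U) (p : ℕ) :
    (P : Subgroup Ω) → MulAut P → Prop
  | base {P : Subgroup Ω} {β : MulAut P} : P ≤ S → E.IsCentric (P ⊓ U) → β ∈ F.autGroup P →
      (orderOf β).Coprime p → (∀ x ∈ P, x⁻¹ * autFun β x ∈ U) →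
      Inter.InE E (P ⊓ U) (autFun β) → InK F E p P β
  | conj {P : Subgroup Ω} {β : MulAut P} {u : Ω} : P ≤ S → u ∈ U →
      (∀ x ∈ P, autFun β x = u * x * u⁻¹) → InK F E p P β
  | mul {P : Subgroup Ω} {a b : MulAut P} : InK F E p P a → InK F E p P b → InK F E p P (a * b)
  | map {P P' : Subgroup Ω} {v : Ω → Ω} {e : P ≃* P'} {a : MulAut P} : IsMap F P v →
      (∀ x : P, (e x : Ω) = v x) → InK F E p P a → InK F E p P' (MulAut.congr e a)
  | res {P R : Subgroup Ω} {a : MulAut P} {b : MulAut R} : R ≤ P → InK F E p P a →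
      (∀ x ∈ R, autFun b x = autFun a x) → InK F E p R b

/-- The automorphisms fixing the trace on `U` and trivial modulo `U`. -/
def stabMod (F : FusionSystem S) (U P : Subgroup Ω) : Subgroup (MulAut P) :=
  F.autGroup P ⊓ Comm.Gam U U P

/-- The conjugations from `U` fixing the trace on `U`. -/
def innFix (U P : Subgroup Ω) : Subgroup (MulAut P) := autInducedBy U P ⊓ Comm.Gam U U P

variable {F : FusionSystem S} {E : FusionSystem U} {p : ℕ} (d : Data F p E)
include d

theorem Data.scU : F.StronglyClosed U := d.nE.1.2.2.2.1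

theorem Data.inv : E.IsInvariantIn F := d.nE.1.2.2

theorem Data.le_S : U ≤ S := d.scU.1

theorem Data.esat : E.IsSaturated p := d.nE.1.1

theorem InK.source_le {P : Subgroup Ω} {β : MulAut P} (h : InK F E p P β) : P ≤ S := by
  induction h with
  | base hP _ _ _ _ _ => exact hP
  | conj hP _ _ => exact hP
  | mul _ _ ih _ => exact ih
  | @map P P' v e a hv he _ _ =>
    intro y hy
    obtain ⟨x, hx⟩ := e.surjective ⟨y, hy⟩
    have := hv.apply_mem x.2
    rwa [← he x, hx] at this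
  | res hR _ _ ih => exact hR.trans ih

variable [Finite S]

theorem InK.fimg_eq {P P' : Subgroup Ω} {v : Ω → Ω} {e : P ≃* P'} (hv : IsMap F P v)
    (he : ∀ x : P, (e x : Ω) = v x) : fimg v P = P' := by
  refine le_antisymm (fimg_le fun x hx => he ⟨x, hx⟩ ▸ (e ⟨x, hx⟩).2) fun y hy => ?_
  obtain ⟨x, hx⟩ := e.surjective ⟨y, hy⟩
  have : v x = y := by rw [← he x, hx]
  exact this ▸ apply_mem_fimg v x.2

theorem InK.mem_autGroup {P : Subgroup Ω} {β : MulAut P} (h : InK F E p P β) :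
    β ∈ F.autGroup P := by
  induction h with
  | base _ _ hβ _ _ _ => exact hβ
  | @conj P β u hP hu h =>
    exact (Fus.mem_autGroup hP).2 ((isMap_conj F hP (d.le_S hu)).congr fun x hx => (h x hx).symm)
  | mul _ _ ih₁ ih₂ => exact mul_mem ih₁ ih₂
  | @map P P' v e a hv he _ ih =>
    obtain ⟨e', he', hA⟩ := exists_mulEquiv hv (InK.fimg_eq d hv he)
    obtain rfl : e' = e := MulEquiv.ext fun x => Subtype.ext (by rw [he', he])
    exact (hA a).1 ih
  | @res P R a b hR h hb ih =>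
    exact (Fus.mem_autGroup (hR.trans (InK.source_le d h))).2
      ((((Fus.mem_autGroup (InK.source_le d h)).1 ih).res hR).congr fun x hx => (hb x hx).symm)

theorem InK.isMap {P : Subgroup Ω} {β : MulAut P} (h : InK F E p P β) :
    IsMap F P (autFun β) :=
  (Fus.mem_autGroup (InK.source_le d h)).1 (InK.mem_autGroup d h)

theorem InK.trivMod {P : Subgroup Ω} {β : MulAut P} (h : InK F E p P β) :
    ∀ x ∈ P, x⁻¹ * autFun β x ∈ U := by
  induction h with
  | base _ _ _ _ h _ => exact h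
  | @conj P β u hP hu h =>
    intro x hx
    rw [h x hx, show x⁻¹ * (u * x * u⁻¹) = x⁻¹ * u * x⁻¹⁻¹ * u⁻¹ by group]
    exact U.mul_mem (StronglyClosed.conj_mem' d.scU (S.inv_mem (hP hx)) hu) (U.inv_mem hu)
  | @mul P a b ha hb iha ihb =>
    intro x hx
    rw [autFun_mul _ _ hx, show x⁻¹ * autFun a (autFun b x) =
      x⁻¹ * autFun b x * ((autFun b x)⁻¹ * autFun a (autFun b x)) by group]
    exact U.mul_mem (ihb x hx) (iha _ (autFun_mem b hx))
  | @map P P' v e a hv he _ ih =>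
    intro y hy
    obtain ⟨x, hx⟩ := e.surjective ⟨y, hy⟩
    have hy' : y = v x := by rw [← he x, hx]
    have hax : (x : Ω)⁻¹ * autFun a x ∈ P ⊓ U :=
      ⟨P.mul_mem (P.inv_mem x.2) (autFun_mem a x.2), ih x x.2⟩
    rw [hy', autFun_congr e he a x.2, ← hv.map_inv x.2,
      ← hv.map_mul (P.inv_mem x.2) (autFun_mem a x.2)]
    exact StronglyClosed.apply_mem d.scU (hv.res inf_le_left) inf_le_right hax
  | @res P R a b hR _ hb ih =>
    intro x hx
    rw [hb x hx]
    exact ih x (hR hx)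

theorem InK.inE {P : Subgroup Ω} {β : MulAut P} (h : InK F E p P β) :
    Inter.InE E (P ⊓ U) (autFun β) := by
  induction h with
  | base _ _ _ _ _ h => exact h
  | @conj P β u hP hu h =>
    have hn : u ∈ Subgroup.normalizer ((P ⊓ U : Subgroup Ω) : Set Ω) := by
      refine mem_normalizer_of_forall (fun x hx => ⟨h x hx.1 ▸ autFun_mem β hx.1,
        U.mul_mem (U.mul_mem hu hx.2) (U.inv_mem hu)⟩) fun x hx => ⟨?_,
        U.mul_mem (U.mul_mem (U.inv_mem hu) hx.2) hu⟩
      have h1 := autFun_mem β⁻¹ hx.1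
      have h2 : autFun β (autFun β⁻¹ x) = x := by
        rw [← autFun_mul _ _ hx.1, mul_inv_cancel, autFun_one hx.1]
      rw [h _ h1] at h2
      rw [show u⁻¹ * x * u = autFun β⁻¹ x by conv_lhs => rw [← h2]
                                             group]
      exact h1
    exact ⟨_, autInducedBy_le_autGroup E inf_le_right (mem_autInducedBy_of_mem hu hn),
      fun x hx => by rw [autFun_normalizerMonoidHom hn hx, h x hx.1]⟩
  | @mul P a b ha hb iha ihb =>
    obtain ⟨γ, hγ, hγe⟩ := iha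
    obtain ⟨η, hη, hηe⟩ := ihb
    exact ⟨γ * η, mul_mem hγ hη, fun x hx => by
      rw [autFun_mul _ _ hx, hγe _ (autFun_mem η hx), hηe x hx, autFun_mul _ _ hx.1]⟩
  | @map P P' v e a hv he _ ih =>
    obtain ⟨γ, hγ, hγe⟩ := ih
    have hm := hv.res (inf_le_left : P ⊓ U ≤ P)
    have himg : fimg v (P ⊓ U) = P' ⊓ U := by
      rw [InvClass.fimg_inf d.scU hv, InK.fimg_eq d hv he]
    obtain ⟨e', he', -⟩ := exists_mulEquiv hm himg
    refine ⟨MulAut.congr e' γ, InvClass.congr_autGroup d.inv inf_le_right hm himg e' he' hγ,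
      fun y hy => ?_⟩
    obtain ⟨x, hx, rfl⟩ := hm.mem_fimg_iff.1 (himg.ge hy)
    rw [autFun_congr e' he' γ hx, autFun_congr e he a hx.1, hγe x hx]
  | @res P R a b hR h hb ih =>
    refine (ih.res (S := S) d.le_S inf_le_right (inf_le_inf_right U hR) fun x hx => ?_).congr
      fun x hx => hb x hx.1
    have h1 : autFun a x ∈ R := hb x hx.1 ▸ autFun_mem b hx.1
    exact ⟨h1, StronglyClosed.apply_mem d.scU
      (((InK.isMap d h).res hR).res (inf_le_left : R ⊓ U ≤ R)) inf_le_right hx⟩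

theorem InK.one {P : Subgroup Ω} (hP : P ≤ S) : InK F E p P 1 :=
  .conj hP U.one_mem fun x hx => by rw [autFun_one hx]; group

omit d [Finite S] in
theorem InK.pow {P : Subgroup Ω} {β : MulAut P} (h1 : InK F E p P 1) (h : InK F E p P β) :
    ∀ n : ℕ, InK F E p P (β ^ n)
  | 0 => by simpa using h1
  | n + 1 => by rw [pow_succ]; exact .mul (InK.pow h1 h n) h

theorem InK.pow' {P : Subgroup Ω} {β : MulAut P} (h : InK F E p P β) (n : ℕ) :
    InK F E p P (β ^ n) :=
  InK.pow (InK.one d (InK.source_le d h)) h n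

theorem InK.inv {P : Subgroup Ω} {β : MulAut P} (h : InK F E p P β) : InK F E p P β⁻¹ := by
  haveI := finite_of_le (InK.source_le d h)
  obtain ⟨n, hn⟩ : ∃ n : ℕ, β ^ n = β⁻¹ := ⟨orderOf β - 1, eq_inv_of_mul_eq_one_left (by
    rw [← pow_succ, Nat.sub_add_cancel (orderOf_pos β), pow_orderOf_eq_one])⟩
  exact hn ▸ h.pow' d n

/-- The automorphisms of `P` coming from the subsystem. -/
def kgrp (P : Subgroup Ω) (hP : P ≤ S) : Subgroup (MulAut P) where
  carrier := {β | InK F E p P β}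
  mul_mem' := InK.mul
  one_mem' := InK.one d hP
  inv_mem' := InK.inv d

theorem mem_kgrp {P : Subgroup Ω} {hP : P ≤ S} {β : MulAut P} :
    β ∈ kgrp d P hP ↔ InK F E p P β := Iff.rfl

theorem kgrp_le {P : Subgroup Ω} (hP : P ≤ S) : kgrp d P hP ≤ F.autGroup P :=
  fun _ h => InK.mem_autGroup d h

theorem InK.conj_mem {P : Subgroup Ω} {γ β : MulAut P} (hγ : γ ∈ F.autGroup P)
    (h : InK F E p P β) : InK F E p P (γ * β * γ⁻¹) := by
  rw [← congr_conj]
  exact .map ((Fus.mem_autGroup (InK.source_le d h)).1 hγ) (fun x => (autFun_coe γ x).symm) h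

theorem kgrp_normalized {P : Subgroup Ω} (hP : P ≤ S) :
    F.autGroup P ≤ Subgroup.normalizer ((kgrp d P hP : Subgroup (MulAut P)) : Set (MulAut P)) :=
  fun γ hγ => mem_normalizer_of_forall (fun b hb => InK.conj_mem d hγ hb) fun b hb => by
    have := InK.conj_mem d ((F.autGroup P).inv_mem hγ) hb
    rwa [inv_inv] at this

variable [Fact p.Prime]

theorem isPGroup_stabMod {P : Subgroup Ω} (hP : P ≤ S) : IsPGroup p (stabMod F U P) := by
  haveI := finite_of_le hP
  refine (Comm.isPGroup_stab (Q := P ⊓ U) (d.pG.to_le hP) inf_le_left).to_le fun γ hγ => ?_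
  exact ⟨fun y => ⟨P.mul_mem (P.inv_mem y.2) (γ y).2, hγ.2.1 y⟩, fun y hy => hγ.2.2 y hy.2⟩

theorem stabMod_conj {P : Subgroup Ω} (hP : P ≤ S) {γ β : MulAut P} (hγ : γ ∈ F.autGroup P)
    (hβ : β ∈ stabMod F U P) : γ * β * γ⁻¹ ∈ stabMod F U P :=
  ⟨mul_mem (mul_mem hγ hβ.1) ((F.autGroup P).inv_mem hγ), Comm.Gam.conj_mem d.scU d.scU hP hγ hβ.2⟩

omit d [Finite S] [Fact p.Prime] in
theorem stabMod_comm {P : Subgroup Ω} {a b : MulAut P} (ha : a ∈ stabMod F U P)
    (hb : b ∈ stabMod F U P) : a * b = b * a := by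
  refine MulEquiv.ext fun y => ?_
  obtain ⟨v, hv⟩ : ∃ v, v = y⁻¹ * a y := ⟨_, rfl⟩
  obtain ⟨w, hw⟩ : ∃ w, w = y⁻¹ * b y := ⟨_, rfl⟩
  have hvU : (v : Ω) ∈ U := by rw [hv]; exact ha.2.1 y
  have hwU : (w : Ω) ∈ U := by rw [hw]; exact hb.2.1 y
  have hay : a y = y * v := by rw [hv, mul_inv_cancel_left]
  have hby : b y = y * w := by rw [hw, mul_inv_cancel_left]
  have haw : a w = w := ha.2.2 w hwU
  have hbv : b v = v := hb.2.2 v hvU
  -- `a` fixes the conjugate of `w` by `y`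
  have h1 : (y * w * y⁻¹ : P) = a (y * w * y⁻¹) → v * w = w * v := fun h => by
    rw [map_mul, map_mul, map_inv, haw, hay, mul_inv_rev] at h
    have h2 : w = v * w * v⁻¹ := by
      have := congrArg (fun z => y⁻¹ * z * y) h
      simpa [mul_assoc] using this
    calc v * w = v * w * v⁻¹ * v := by group
      _ = w * v := by rw [← h2]
  by_cases hn : ((y * w * y⁻¹ : P) : Ω) ∈ U
  · rw [MulAut.mul_apply, MulAut.mul_apply, hby, hay, map_mul, map_mul, haw, hbv, hay, hby,
      mul_assoc, mul_assoc, h1 (ha.2.2 _ hn).symm]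
  · exact absurd (by
      rw [show (y * w * y⁻¹ : P) = (b y) * y⁻¹ by rw [hby]]
      have := hb.2.1 y⁻¹
      have h3 := U.inv_mem this
      simpa using h3) hn

/-- A fully normalized subgroup has every normal `p`-subgroup of its automizer induced from `S`. -/
theorem le_autInducedBy_of_normal {P : Subgroup Ω} (hn : F.IsFullyNormalized P)
    {D : Subgroup (MulAut P)} (hDF : D ≤ F.autGroup P) (hDp : IsPGroup p D)
    (hD : ∀ γ ∈ F.autGroup P, ∀ x ∈ D, γ * x * γ⁻¹ ∈ D) : D ≤ autInducedBy S P := by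
  haveI := finite_of_le hn.1
  obtain ⟨-, W, hW⟩ := fullyAutomized_of_fullyNormalized d.pG d.sat hn
  obtain ⟨c, hc, hle⟩ := IsSylowOf.exists_conj_le
    (⟨autInducedBy_le_autGroup F hn.1, W, hW⟩ : IsSylowOf p (autInducedBy S P) (F.autGroup P))
    hDp hDF
  intro x hx
  exact hle ⟨c⁻¹ * x * c, by simpa using hD c⁻¹ (inv_mem hc) x hx, by
    simp [mul_assoc]⟩

/-- The conjugations from `U` are strongly closed among those from `S`. -/
theorem inn_closed {P : Subgroup Ω} (hP : F.IsFullyCentralized P) {γ a : MulAut P}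
    (hγ : γ ∈ F.autGroup P) (ha : a ∈ autInducedBy U P)
    (h : γ * a * γ⁻¹ ∈ autInducedBy S P) : γ * a * γ⁻¹ ∈ autInducedBy U P := by
  have hPS := hP.1
  obtain ⟨t, ht, hte⟩ := mem_autInducedBy.1 ha
  obtain ⟨s, hs, hse⟩ := mem_autInducedBy.1 h
  have htn := mem_normalizer_of_conj_aut hte
  have hγm : IsMap F P (autFun γ) := (Fus.mem_autGroup hPS).1 hγ
  have key : ∀ x ∈ P, autFun γ (t * x * t⁻¹) = s * autFun γ x * s⁻¹ := fun x hx => by
    rw [← autFun_of_induced hse (autFun_mem γ hx), autFun_conj_apply γ a hx,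
      autFun_of_induced hte hx]
  let M : Subgroup Ω := P ⊔ Subgroup.zpowers t
  obtain ⟨φ, hφ, hφe⟩ := hγm.exists_hom
  have hle : M ≤ extender S P φ := by
    refine sup_le (le_extender hφ) (Subgroup.zpowers_le.2 (mem_extender.2
      ⟨d.le_S ht, htn, s, hs, fun x hx => ?_⟩))
    rw [show toFun φ x = autFun γ x from (toFun_apply φ hx).trans (hφe ⟨x, hx⟩),
      show toFun φ (t * x * t⁻¹) = autFun γ (t * x * t⁻¹) from
        (toFun_apply φ ((Subgroup.mem_normalizer_iff.1 htn x).1 hx)).trans (hφe ⟨_, _⟩)]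
    exact key x hx
  obtain ⟨f, hf, hfe⟩ := receptive_extend (receptive_of_fullyCentralized d.pG d.sat hP) hγm
    (fimg_autFun γ) (N := M) (fun g hg => by
      obtain ⟨h1, h2, i, hi, hie⟩ := mem_extender.1 (hle hg)
      refine ⟨⟨h1, h2⟩, i, hi, fun x hx => ?_⟩
      have := hie x hx
      rwa [show toFun φ x = autFun γ x from (toFun_apply φ hx).trans (hφe ⟨x, hx⟩),
        show toFun φ (g * x * g⁻¹) = autFun γ (g * x * g⁻¹) from
          (toFun_apply φ ((Subgroup.mem_normalizer_iff.1 h2 x).1 hx)).trans (hφe ⟨_, _⟩)] at this)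
    le_sup_left
  have htM : t ∈ M := Subgroup.mem_sup_right (Subgroup.mem_zpowers t)
  refine autInducedBy_of_autFun (g := f t) (StronglyClosed.apply_mem d.scU (hf.res le_sup_right)
    (Subgroup.zpowers_le.2 ht) (Subgroup.mem_zpowers t)) fun y hy => ?_
  obtain ⟨x, hx, rfl⟩ := hγm.mem_fimg_iff.1 ((fimg_autFun γ).ge hy)
  rw [autFun_conj_apply γ a hx, autFun_of_induced hte hx, ← hfe x hx,
    ← hfe _ ((Subgroup.mem_normalizer_iff.1 htn x).1 hx)]
  exact hf.map_conj htM (Subgroup.mem_sup_left hx)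

theorem innFix_le {P : Subgroup Ω} (hP : P ≤ S) : innFix U P ≤ stabMod F U P := fun _ hb =>
  ⟨autInducedBy_le_autGroup F hP (autInducedBy_mono d.le_S P hb.1), hb.2⟩

theorem innFix_conj {P : Subgroup Ω} (hn : F.IsFullyNormalized P) {γ b : MulAut P}
    (hγ : γ ∈ F.autGroup P) (hb : b ∈ innFix U P) : γ * b * γ⁻¹ ∈ innFix U P := by
  have h1 := stabMod_conj d hn.1 hγ (innFix_le d hn.1 hb)
  exact ⟨inn_closed d (fullyCentralized_of_fullyNormalized d.pG d.sat hn) hγ hb.1
    (le_autInducedBy_of_normal d hn inf_le_left (isPGroup_stabMod d hn.1)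
      (fun η hη x hx => stabMod_conj d hn.1 hη hx) h1), h1.2⟩

/-- A `p`-group of automorphisms is carried into the conjugations from `S` at a fully normalized
conjugate. -/
theorem exists_into_sylow {Y : Subgroup Ω} (hY : Y ≤ S) {W : Subgroup (MulAut Y)}
    (hW : IsPGroup p W) (hWF : W ≤ F.autGroup Y) :
    ∃ (Y₀ : Subgroup Ω) (w : Ω → Ω) (e : Y ≃* Y₀), F.IsFullyNormalized Y₀ ∧ IsMap F Y w ∧
      fimg w Y = Y₀ ∧ (∀ x : Y, (e x : Ω) = w x) ∧
      ∀ a ∈ W, MulAut.congr e a ∈ autInducedBy S Y₀ := by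
  obtain ⟨Y₀, hY₀, hn⟩ := exists_fullyNormalized F hY
  obtain ⟨f, hf, hfY⟩ := isConj_iff.1 hY₀
  obtain ⟨e, he, hA⟩ := exists_mulEquiv hf hfY
  haveI := finite_of_le hn.1
  obtain ⟨-, R, hR⟩ := fullyAutomized_of_fullyNormalized d.pG d.sat hn
  obtain ⟨c, hc, hle⟩ := IsSylowOf.exists_conj_le
    (⟨autInducedBy_le_autGroup F hn.1, R, hR⟩ :
      IsSylowOf p (autInducedBy S Y₀) (F.autGroup Y₀))
    (hW.map (MulAut.congr e).toMonoidHom) (by
      rintro _ ⟨a, ha, rfl⟩
      exact (hA a).1 (hWF ha))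
  have hcm : IsMap F Y₀ (autFun c) := (Fus.mem_autGroup hn.1).1 hc
  refine ⟨Y₀, fun x => autFun c (f x), e.trans c, hn,
    hf.comp hcm fun x hx => hfY ▸ apply_mem_fimg f hx, ?_, fun x => ?_, fun a ha => ?_⟩
  · rw [hf.fimg_comp, hfY, fimg_autFun]
  · show ((c (e x) : Y₀) : Ω) = autFun c (f x)
    rw [← he x, autFun_coe]
  · rw [congr_trans, congr_conj]
    exact hle ⟨_, ⟨a, ha, rfl⟩, rfl⟩

omit d [Finite S] [Fact p.Prime] in
/-- Conjugations are carried to conjugations. -/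
theorem congr_induced {R R' M : Subgroup Ω} {f : Ω → Ω} (hf : IsMap F M f) (hRM : R ≤ M)
    (e : R ≃* R') (he : ∀ x : R, (e x : Ω) = f x) {g : Ω} (hg : g ∈ M) {a : MulAut R}
    (ha : ∀ x ∈ R, autFun a x = g * x * g⁻¹) :
    ∀ y ∈ R', autFun (MulAut.congr e a) y = f g * y * (f g)⁻¹ := by
  intro y hy
  obtain ⟨x, hx⟩ := e.surjective ⟨y, hy⟩
  have hy' : y = f x := by rw [← he x, hx]
  rw [hy', autFun_congr e he a x.2, ha x x.2]
  exact hf.map_conj hg (hRM x.2)

omit d [Fact p.Prime] in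
/-- Automorphisms induced by the image of a subgroup. -/
theorem autInducedBy_congr {R R' M K : Subgroup Ω} {f : Ω → Ω} (hf : IsMap F M f) (hRM : R ≤ M)
    (hKM : K ≤ M) (e : R ≃* R') (he : ∀ x : R, (e x : Ω) = f x)
    (hKn : K ≤ Subgroup.normalizer (R : Set Ω)) :
    autInducedBy (fimg f K) R' = (autInducedBy K R).map (MulAut.congr e).toMonoidHom := by
  have hfK := hf.res hKM
  ext α
  rw [Subgroup.mem_map]
  constructor
  · intro hα
    obtain ⟨q', hq', hqe⟩ := mem_autInducedBy.1 hα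
    obtain ⟨q, hq, rfl⟩ := hfK.mem_fimg_iff.1 hq'
    refine ⟨R.normalizerMonoidHom ⟨q, hKn hq⟩, mem_autInducedBy_of_mem hq (hKn hq),
      mulAut_ext fun y hy => ?_⟩
    rw [MulEquiv.coe_toMonoidHom, congr_induced hf hRM e he (hKM hq)
      (fun x hx => autFun_normalizerMonoidHom (hKn hq) hx) y hy, autFun_of_induced hqe hy]
  · rintro ⟨c, hc, rfl⟩
    obtain ⟨q, hq, hqe⟩ := mem_autInducedBy.1 hc
    exact autInducedBy_of_autFun (apply_mem_fimg f hq)
      (congr_induced hf hRM e he (hKM hq) fun x hx => autFun_of_induced hqe hx)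

omit d [Fact p.Prime] in
/-- The automorphisms induced by a preimage. -/
theorem autInducedBy_preM {P : Subgroup Ω} {M : Subgroup (MulAut P)}
    (hM : M ≤ autInducedBy S P) : autInducedBy (SatCrit.preM S P M) P = M := by
  refine le_antisymm (fun α hα => ?_) fun α hα => ?_
  · obtain ⟨g, ⟨hgS, m, hm, hme⟩, hge⟩ := mem_autInducedBy.1 hα
    rwa [show α = m from MulEquiv.ext fun x => Subtype.ext (by rw [hge, hme])]
  · obtain ⟨g, hg, hge⟩ := mem_autInducedBy.1 (hM hα)
    exact mem_autInducedBy.2 ⟨g, ⟨hg, α, hα, hge⟩, hge⟩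

end Cfsg.Agent.Fus.Ker
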