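import Mathlib
import Cfsg.Agent.Lib.Fus.KerBasic

/-!
Extension of the automorphisms coming from a normal subsystem: the case of a centric trace.
-/

set_option autoImplicit false
set_option linter.style.haveILetI false
set_option linter.unusedSectionVars false
set_option linter.unusedVariables false

open scoped Classical

universe u

namespace Cfsg.Agent.Fus.Ker

open Subgroup FusionSystem InvMap

variable {Ω : Type u} [Group Ω] {S U : Subgroup Ω}

/-- Automorphisms of order prime to `p` coming from the subsystem extend. -/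
def BProp (F : FusionSystem S) (E : FusionSystem U) (p : ℕ) (P : Subgroup Ω) : Prop :=
  ∀ (k : MulAut P) (N : Subgroup Ω), InK F E p P k → (orderOf k).Coprime p → P ≤ N →
    centralizerIn S P ≤ N → N ≤ normalizerIn S P →
    (∀ γ ∈ autInducedBy N P, k * γ * k⁻¹ ∈ autInducedBy N P) →
    ∃ φ : MulAut N, InK F E p N φ ∧ (orderOf φ).Coprime p ∧ ∀ x ∈ P, autFun φ x = autFun k x

/-- Of the conjugations from `S` only those from `U` come from the subsystem. -/
def CProp (F : FusionSystem S) (E : FusionSystem U) (p : ℕ) (P : Subgroup Ω) : Prop :=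
  ∀ k : MulAut P, InK F E p P k → k ∈ autInducedBy S P → k ∈ autInducedBy U P

variable {F : FusionSystem S} {E : FusionSystem U} {p : ℕ} [Finite S] [Fact p.Prime]
  (d : Data F p E)
include d

/-- A map on the normalizer of a fully normalized subgroup inducing an automorphism of it gives
elements with the same action. -/
theorem mul_inv_mem_centralizer {P V : Subgroup Ω} (hPV : P ≤ V) {f : Ω → Ω} (hf : IsMap F V f)
    (hfP : fimg f P = P) {n n' : Ω} (hn : n ∈ V) (hnP : n ∈ Subgroup.normalizer (P : Set Ω))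
    (hn' : n' ∈ S) {k : MulAut P} (hk : ∀ x ∈ P, f x = autFun k x)
    (h : ∀ x ∈ P, autFun k (n * x * n⁻¹) = n' * autFun k x * n'⁻¹) :
    n'⁻¹ * f n ∈ centralizerIn S P := by
  refine mem_centralizerIn.2 ⟨S.mul_mem (S.inv_mem hn') (hf.apply_mem hn), fun y hy => ?_⟩
  obtain ⟨x, hx, rfl⟩ := (hf.res hPV).mem_fimg_iff.1 (hfP.ge hy)
  have h1 := hf.map_conj hn (hPV hx)
  rw [hk _ ((Subgroup.mem_normalizer_iff.1 hnP x).1 hx), h x hx, ← hk x hx] at h1
  calc f x * (n'⁻¹ * f n) = n'⁻¹ * (n' * f x * n'⁻¹) * f n := by group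
    _ = n'⁻¹ * (f n * f x * (f n)⁻¹) * f n := by rw [h1]
    _ = n'⁻¹ * f n * f x := by group

set_option maxHeartbeats 800000 in
/-- Extension when the trace on `U` is centric. -/
theorem bProp_centric {P : Subgroup Ω} (hP : F.IsFullyNormalized P)
    (hQ : F.IsFullyNormalized (P ⊓ U)) (hQc : E.IsCentric (P ⊓ U)) : BProp F E p P := by
  intro k N hk hko hPN hCN hNn hnorm
  have hPS := hP.1
  haveI := finite_of_le hPS
  have hUS := d.le_S
  have hNS : N ≤ S := hNn.trans inf_le_left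
  set Q := P ⊓ U with hQdef
  have hQS : Q ≤ S := inf_le_left.trans hPS
  haveI := finite_of_le hQS
  have hkm := InK.isMap d hk
  -- the restriction to `Q`
  obtain ⟨γ, hγ, hγe⟩ := InK.inE d hk
  obtain ⟨g, hg, hge, hgU⟩ := InvExt.exists_triv d.pG d.sat d.nE hQc hQ hγ
  have hgP := InvExt.fimg_sup_centralizer hQS hg hge
  obtain ⟨b, hb, hbe⟩ := hg.exists_aut hgP
  have dT : Inter.Two F p E E := ⟨d.pG, d.sat, d.nE, d.nE⟩
  have hQT : TCen F (U ⊓ U) Q := by
    rw [inf_idem]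
    exact (Inter.tCen_sub_iff d.inv d.scU le_rfl).1 hQc
  have hQfc := fullyCentralized_of_fullyNormalized d.pG d.sat hQ
  have hQsup : Q ≤ Inter.PR S Q := le_sup_left
  have hbγ : ∀ x ∈ Q, autFun b x = autFun γ x := fun x hx => by
    rw [hbe x (hQsup hx), hge x hx]
  have hcU : centralizerIn U Q ≤ Q := centralizerIn_le_of_centric hQc
  have hPRU : Inter.PR S Q ⊓ U = Q := by
    refine le_antisymm (fun z hz => ?_) (le_inf le_sup_left inf_le_right)
    obtain ⟨q, hq, c, hc, rfl⟩ := (mem_sup_normalized (fun y hy =>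
      (centralizerIn_le_normalizerIn Q hy).2)).1 hz.1
    have hcU' : c ∈ U := by
      have := U.mul_mem (U.inv_mem hq.2) hz.2
      rwa [inv_mul_cancel_left] at this
    exact Q.mul_mem hq (hcU (mem_centralizerIn.2 ⟨hcU', (mem_centralizerIn.1 hc).2⟩))
  have hin : Inter.InE E (Inter.PR S Q ⊓ U) (autFun b) := by
    rw [hPRU]
    exact ⟨γ, hγ, fun x hx => (hbγ x hx).symm⟩
  have hl : Inter.Lft dT hQfc.1 γ := by
    refine ⟨b, ⟨hb, fun x hx => ⟨hbγ x hx ▸ autFun_mem γ hx, ?_⟩, fun c hc => ?_, hin, hin⟩, hbγ⟩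
    · have hy := autFun_mem γ⁻¹ hx
      have h : autFun b (autFun γ⁻¹ x) = x := by
        rw [hbγ _ hy, ← autFun_mul _ _ hx, mul_inv_cancel, autFun_one hx]
      rw [← h, autFun_inv_apply b (hQsup hy)]
      exact hy
    · rw [hbe c (Subgroup.mem_sup_right hc)]
      exact ⟨hgU c hc, hgU c hc⟩
  set m := orderOf k with hmdef
  have hkQ : ∀ x ∈ Q, autFun γ x = autFun k x := hγe
  have hγm : γ ^ m = 1 := mulAut_ext fun x hx => by
    rw [autFun_pow_eqOn inf_le_left hkQ m x hx, hmdef, pow_orderOf_eq_one, autFun_one hx.1,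
      autFun_one hx]
  -- the group on which it extends
  set V := N ⊔ centralizerIn S Q with hVdef
  have hQN : Q ≤ N := inf_le_left.trans hPN
  have hNQ : N ≤ normalizerIn S Q := fun n hn => ⟨hNS hn, mem_normalizer_of_forall
    (fun x hx => ⟨(Subgroup.mem_normalizer_iff.1 (hNn hn).2 x).1 hx.1,
      StronglyClosed.conj_mem' d.scU (hNS hn) hx.2⟩)
    fun x hx => ⟨(Subgroup.mem_normalizer_iff''.1 (hNn hn).2 x).1 hx.1, by
      simpa using StronglyClosed.conj_mem' d.scU (S.inv_mem (hNS hn)) hx.2⟩⟩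
  have hCn : centralizerIn S Q ≤ normalizerIn S Q := centralizerIn_le_normalizerIn Q
  have hVn : V ≤ normalizerIn S Q := sup_le hNQ hCn
  have hVS : V ≤ S := hVn.trans inf_le_left
  haveI := finite_of_le hVS
  have hNC : N ≤ Subgroup.normalizer ((centralizerIn S Q : Subgroup Ω) : Set Ω) := by
    have key : ∀ n ∈ N, ∀ c ∈ centralizerIn S Q, n * c * n⁻¹ ∈ centralizerIn S Q := by
      intro n hn c hc
      refine mem_centralizerIn.2 ⟨S.mul_mem (S.mul_mem (hNS hn) hc.1) (S.inv_mem (hNS hn)),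
        fun x hx => ?_⟩
      have hx' := (Subgroup.mem_normalizer_iff''.1 (hNQ hn).2 x).1 hx
      calc x * (n * c * n⁻¹) = n * (n⁻¹ * x * n * c) * n⁻¹ := by group
        _ = n * (c * (n⁻¹ * x * n)) * n⁻¹ := by rw [(mem_centralizerIn.1 hc).2 _ hx']
        _ = n * c * n⁻¹ * x := by group
    exact fun n hn => mem_normalizer_of_forall (key n hn) fun c hc => by
      simpa using key n⁻¹ (N.inv_mem hn) c hc
  have hkN : ∀ n ∈ N, ∃ n' ∈ N, ∀ x ∈ P,
      autFun k (n * x * n⁻¹) = n' * autFun k x * n'⁻¹ := by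
    intro n hn
    obtain ⟨n', hn', hne⟩ := mem_autInducedBy.1
      (hnorm _ (mem_autInducedBy_of_mem hn (hNn hn).2))
    refine ⟨n', hn', fun x hx => ?_⟩
    rw [← autFun_of_induced hne (autFun_mem k hx), autFun_conj_apply k _ hx,
      autFun_normalizerMonoidHom _ hx]
  obtain ⟨φ₀, hφ₀, n₀, hn₀, hφn, hφe, hφE, -, hφU⟩ := Inter.exists_up dT hQT hQfc hl hko hγm
    (V := V) (sup_le (hQN.trans le_sup_left) le_sup_right) hVn fun u hu => by
      obtain ⟨a, ha, c, hc, rfl⟩ := mem_sup_dest hNC hu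
      obtain ⟨a', ha', hae⟩ := hkN a ha
      refine ⟨a', Subgroup.mem_sup_left ha', fun x hx => ?_⟩
      rw [show a * c * x * (a * c)⁻¹ = a * (c * x * c⁻¹) * a⁻¹ by group,
        show c * x * c⁻¹ = x by rw [← (mem_centralizerIn.1 hc).2 x hx, mul_inv_cancel_right],
        hkQ _ ((Subgroup.mem_normalizer_iff.1 (hNQ ha).2 x).1 hx), hkQ x hx]
      exact hae x hx.1
  have hPV : P ≤ V := hPN.trans le_sup_left
  have hφm : IsMap F V (autFun φ₀) := (Fus.mem_autGroup hVS).1 hφ₀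
  -- it stabilizes `P`
  have hstP : ∀ x ∈ P, autFun φ₀ x ∈ P := by
    intro x hx
    have h1 : (autFun k x)⁻¹ * autFun φ₀ x ∈ centralizerIn S Q := by
      refine mem_centralizerIn.2 ⟨S.mul_mem (S.inv_mem (hPS (autFun_mem k hx)))
        (hφm.apply_mem (hPV hx)), fun y hy => ?_⟩
      obtain ⟨q, hq, rfl⟩ := (((Fus.mem_autGroup hQc.1).1 hγ).mem_fimg_iff).1
        ((fimg_autFun γ).ge hy)
      have hq' := (Subgroup.mem_normalizer_iff.1 (hNQ (hPN hx)).2 q).1 hq
      have h2 := hφm.map_conj (hPV hx) (hPV hq.1)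
      rw [hφe _ hq', hφe q hq, hkQ _ hq', hkQ q hq] at h2
      have h3 : autFun k (x * q * x⁻¹) = autFun k x * autFun k q * (autFun k x)⁻¹ :=
        hkm.map_conj hx hq.1
      rw [hkQ q hq]
      calc autFun k q * ((autFun k x)⁻¹ * autFun φ₀ x) = (autFun k x)⁻¹ *
            (autFun k x * autFun k q * (autFun k x)⁻¹) * autFun φ₀ x := by group
        _ = (autFun k x)⁻¹ * autFun φ₀ x * autFun k q := by rw [← h3, h2]; group
    have h4 : (autFun k x)⁻¹ * autFun φ₀ x ∈ U := by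
      rw [show (autFun k x)⁻¹ * autFun φ₀ x =
        (x⁻¹ * autFun k x)⁻¹ * (x⁻¹ * autFun φ₀ x) by group]
      exact U.mul_mem (U.inv_mem (InK.trivMod d hk x hx)) (hφU x (hPV hx)).1
    rw [show autFun φ₀ x = autFun k x * ((autFun k x)⁻¹ * autFun φ₀ x) by group]
    exact P.mul_mem (autFun_mem k hx) (hcU (mem_centralizerIn.2
      ⟨h4, (mem_centralizerIn.1 h1).2⟩)).1
  obtain ⟨θ, hθ, hθe⟩ := (hφm.res hPV).exists_aut
    (Subgroup.eq_of_le_of_card_ge (fimg_le hstP) (hφm.res hPV).card_fimg.ge)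
  have hθn : θ ^ n₀ = 1 := mulAut_ext fun x hx => by
    rw [autFun_pow_eqOn hPV hθe n₀ x hx, hφn, autFun_one (hPV hx), autFun_one hx]
  -- the difference
  have hkGam : ∀ y ∈ P, y⁻¹ * autFun θ y ∈ U := fun y hy => by
    rw [hθe y hy]
    exact (hφU y (hPV hy)).1
  set δ := θ⁻¹ * k with hδdef
  have hδ : δ ∈ stabMod F U P := by
    refine ⟨mul_mem ((F.autGroup P).inv_mem hθ) (InK.mem_autGroup d hk), fun y => ?_,
      fun y hy => ?_⟩
    · have h1 := hkGam _ (δ y).2
      have h2 : autFun θ (δ y : P) = autFun k y := by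
        rw [autFun_coe, autFun_coe, ← MulAut.mul_apply, hδdef, mul_inv_cancel_left]
      rw [h2] at h1
      rw [show (y : Ω)⁻¹ * (δ y : P) = (y : Ω)⁻¹ * autFun k y *
        (((δ y : P) : Ω)⁻¹ * autFun k y)⁻¹ by group]
      exact U.mul_mem (InK.trivMod d hk y y.2) (U.inv_mem h1)
    · refine Subtype.ext ?_
      have hyQ : (y : Ω) ∈ Q := ⟨y.2, hy⟩
      have h1 : autFun θ y = autFun k y := by rw [hθe y y.2, hφe y hyQ, hkQ y hyQ]
      rw [← autFun_coe, hδdef, autFun_mul _ _ y.2, ← h1, autFun_inv_apply θ y.2]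
  obtain ⟨e, he, hee⟩ := exists_conj_eq (isPGroup_stabMod d hPS)
    (fun a ha b hb => stabMod_comm ha hb)
    (fun z hz => by simpa using stabMod_conj d hPS ((F.autGroup P).inv_mem hθ) hz) hδ hn₀
    hko hθn (by rw [hδdef, mul_inv_cancel_left, pow_orderOf_eq_one])
  rw [hδdef, mul_inv_cancel_left] at hee
  obtain ⟨s, hs, hse⟩ := mem_autInducedBy.1 (le_autInducedBy_of_normal d hP inf_le_left
    (isPGroup_stabMod d hPS) (fun η hη x hx => stabMod_conj d hPS hη hx) he)
  have hsC : s ∈ centralizerIn S Q := mem_centralizerIn.2 ⟨hs, fun y hy => by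
    have h1 := hse ⟨y, hy.1⟩
    rw [he.2.2 ⟨y, hy.1⟩ hy.2] at h1
    calc y * s = s * y * s⁻¹ * s := by rw [← h1]
      _ = s * y := by group⟩
  have hsV : s ∈ V := Subgroup.mem_sup_right hsC
  set c := V.normalizerMonoidHom ⟨s, Subgroup.le_normalizer hsV⟩ with hcdef
  set φ := c * φ₀ * c⁻¹ with hφdef
  have hcv : ∀ x ∈ V, autFun c x = s * x * s⁻¹ := fun x hx => autFun_normalizerMonoidHom _ hx
  have hcF : c ∈ F.autGroup V :=
    autInducedBy_le_autGroup F hVS (mem_autInducedBy_of_mem hs _)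
  have hφF : φ ∈ F.autGroup V := mul_mem (mul_mem hcF hφ₀) ((F.autGroup V).inv_mem hcF)
  have hφn' : φ ^ n₀ = 1 := by rw [hφdef, conj_pow, hφn, mul_one, mul_inv_cancel]
  have hφP : ∀ x ∈ P, autFun φ x = autFun k x := by
    intro x hx
    have hy := autFun_mem e⁻¹ hx
    have hcy : autFun c (autFun e⁻¹ x) = x := by
      rw [hcv _ (hPV hy), ← autFun_of_induced hse hy, ← autFun_mul _ _ hx, mul_inv_cancel,
        autFun_one hx]
    conv_lhs => rw [← hcy]
    rw [hφdef, autFun_conj_apply c φ₀ (hPV hy), ← hθe _ hy, hcv _ (hPV (autFun_mem θ hy)),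
      ← autFun_of_induced hse (autFun_mem θ hy), ← autFun_mul _ _ hy, ← autFun_mul _ _ hx, hee]
  have hφv : ∀ x ∈ V, autFun φ x = s * autFun φ₀ (s⁻¹ * x * s) * s⁻¹ := by
    intro x hx
    have hy : s⁻¹ * x * s ∈ V := V.mul_mem (V.mul_mem (V.inv_mem hsV) hx) hsV
    conv_lhs => rw [show x = autFun c (s⁻¹ * x * s) by rw [hcv _ hy]; group]
    rw [hφdef, autFun_conj_apply c φ₀ hy, hcv _ (autFun_mem φ₀ hy)]
  have hφmV : IsMap F V (autFun φ) := (Fus.mem_autGroup hVS).1 hφF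
  have hφtriv : ∀ x ∈ V, x⁻¹ * autFun φ x ∈ U := fun x hx => by
    have hy : s⁻¹ * x * s ∈ V := V.mul_mem (V.mul_mem (V.inv_mem hsV) hx) hsV
    rw [hφv x hx, show x⁻¹ * (s * autFun φ₀ (s⁻¹ * x * s) * s⁻¹) =
      s * ((s⁻¹ * x * s)⁻¹ * autFun φ₀ (s⁻¹ * x * s)) * s⁻¹ by group]
    exact StronglyClosed.conj_mem' d.scU hs (hφU _ hy).1
  have hfP : fimg (autFun φ) P = P := (fimg_congr hφP).trans (fimg_autFun k)
  have hstN : ∀ n ∈ N, autFun φ n ∈ N := by
    intro n hn
    obtain ⟨n', hn', hne⟩ := hkN n hn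
    have := mul_inv_mem_centralizer d hPV hφmV hfP (Subgroup.mem_sup_left hn) (hNn hn).2
      (hNS hn') hφP hne
    rw [show autFun φ n = n' * (n'⁻¹ * autFun φ n) by group]
    exact N.mul_mem hn' (hCN this)
  have hNV : N ≤ V := le_sup_left
  haveI := finite_of_le hNS
  obtain ⟨ψ, hψ, hψe⟩ := (hφmV.res hNV).exists_aut
    (Subgroup.eq_of_le_of_card_ge (fimg_le hstN) (hφmV.res hNV).card_fimg.ge)
  have hψn : ψ ^ n₀ = 1 := mulAut_ext fun x hx => by
    rw [autFun_pow_eqOn hNV hψe n₀ x hx, hφn', autFun_one (hNV hx), autFun_one hx]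
  -- in `E` on the trace
  set W := V ⊓ U
  obtain ⟨η, hη, hηe⟩ := hφE
  have hWU : W ≤ U := inf_le_right
  have hWst : fimg (fun x => s * x * s⁻¹) W = W := by
    haveI := finite_of_le (inf_le_left.trans hVS : W ≤ S)
    have hm : IsMap F W (fun x => s * x * s⁻¹) := isMap_conj F (inf_le_left.trans hVS) hs
    exact Subgroup.eq_of_le_of_card_ge (fimg_le fun x hx =>
      ⟨V.mul_mem (V.mul_mem hsV hx.1) (V.inv_mem hsV),
        StronglyClosed.conj_mem' d.scU hs hx.2⟩) hm.card_fimg.ge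
  obtain ⟨ec, hec, -⟩ := exists_mulEquiv (isMap_conj F (inf_le_left.trans hVS) hs) hWst
  have hinW : Inter.InE E W (autFun φ) := by
    refine ⟨MulAut.congr ec η, InvClass.congr_autGroup d.inv hWU
      (isMap_conj F (inf_le_left.trans hVS) hs) hWst ec hec hη, fun x hx => ?_⟩
    obtain ⟨y, hy, rfl⟩ :=
      (isMap_conj F (inf_le_left.trans hVS) hs).mem_fimg_iff.1 (hWst.ge hx)
    rw [hφv _ hx.1, show s⁻¹ * (s * y * s⁻¹) * s = y by group, ← hηe y hy]
    exact autFun_congr (f := fun x => s * x * s⁻¹) ec hec η hy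
  have hNU : E.IsCentric (N ⊓ U) :=
    centric_mono hQc (le_inf hQN inf_le_right) inf_le_right
  have hinN : Inter.InE E (N ⊓ U) (autFun ψ) := by
    refine (hinW.res (S := S) hUS hWU (inf_le_inf_right U hNV) fun x hx => ?_).congr
      fun x hx => hψe x hx.1
    exact ⟨hstN x hx.1, StronglyClosed.apply_mem d.scU (hφmV.res (inf_le_left.trans hNV))
      inf_le_right hx⟩
  refine ⟨ψ, .base hNS hNU hψ (coprime_of_pow hn₀ hψn) (fun x hx => ?_) hinN,
    coprime_of_pow hn₀ hψn, fun x hx => ?_⟩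
  · rw [hψe x hx]
    exact hφtriv x (hNV hx)
  · rw [hψe x (hPN hx), hφP x hx]

end Cfsg.Agent.Fus.Ker
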