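import Mathlib
import Cfsg.Agent.Lib.Fus.KerCentric

/-!
Automorphisms coming from a normal subsystem on a fully normalized subgroup with trace not centric:
they are restrictions from a larger subgroup.
-/

set_option autoImplicit false
set_option linter.style.haveILetI false
set_option linter.unusedSectionVars false
set_option linter.unusedVariables false

open scoped Classical

universe u

namespace Cfsg.Agent.Fus.Ker

open Subgroup FusionSystem InvMap SatCrit

variable {Ω : Type u} [Group Ω] {S U : Subgroup Ω} {F : FusionSystem S} {E : FusionSystem U}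
  {p : ℕ}

/-- Everything is known at the subgroups of larger order. -/
def Above (F : FusionSystem S) (E : FusionSystem U) (p : ℕ) (n : ℕ) : Prop :=
  ∀ Y : Subgroup Ω, n < Nat.card Y → F.IsFullyNormalized Y → BProp F E p Y ∧ CProp F E p Y

/-- The enlargement of a subgroup whose trace on `U` is not centric. -/
def bigger (S U P : Subgroup Ω) : Subgroup Ω := P ⊔ preM S P (innFix U P)

/-- The restrictions from the enlargement. -/
def Im (F : FusionSystem S) (E : FusionSystem U) (p : ℕ) (P : Subgroup Ω) (β : MulAut P) : Prop :=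
  ∃ k : MulAut ↥(bigger S U P), InK F E p (bigger S U P) k ∧ ∀ x ∈ P, autFun β x = autFun k x

variable [Finite S] [Fact p.Prime] (d : Data F p E)
include d

/-- Elements of `p`-power order come from conjugations by `U` at a larger fully normalized
conjugate. -/
theorem exists_conj_type {n : ℕ} (hA : Above F E p n) {Y : Subgroup Ω} (hn : n < Nat.card Y)
    {a : MulAut Y} (ha : InK F E p Y a) {i : ℕ} (hai : a ^ p ^ i = 1) :
    ∃ (Y₀ : Subgroup Ω) (w : Ω → Ω) (u : Ω), u ∈ U ∧ IsMap F Y w ∧ fimg w Y = Y₀ ∧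
      ∀ x ∈ Y, w (autFun a x) = u * w x * u⁻¹ := by
  have hY := InK.source_le d ha
  obtain ⟨Y₀, w, e, hn₀, hw, hwY, he, hW⟩ := exists_into_sylow d hY
    (W := Subgroup.zpowers a) (fun x => by
      obtain ⟨x, k, rfl⟩ := x
      refine ⟨i, Subtype.ext ?_⟩
      show (a ^ k) ^ p ^ i = 1
      rw [← zpow_natCast, ← zpow_mul, mul_comm, zpow_mul, zpow_natCast, hai, one_zpow])
    (Subgroup.zpowers_le.2 (InK.mem_autGroup d ha))
  have hcard : n < Nat.card Y₀ := by rwa [← hwY, hw.card_fimg]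
  obtain ⟨u, hu, hue⟩ := mem_autInducedBy.1 ((hA Y₀ hcard hn₀).2 _ (.map hw he ha)
    (hW a (Subgroup.mem_zpowers a)))
  refine ⟨Y₀, w, u, hu, hw, hwY, fun x hx => ?_⟩
  rw [← autFun_congr e he a hx]
  exact autFun_of_induced hue (hwY ▸ apply_mem_fimg w hx)

omit d in
theorem preM_ge {P : Subgroup Ω} {M : Subgroup (MulAut P)} {K : Subgroup Ω} (hK : K ≤ S)
    (hKn : K ≤ Subgroup.normalizer (P : Set Ω)) (h : autInducedBy K P ≤ M) :
    K ≤ preM S P M := fun g hg =>
  ⟨hK hg, _, h (mem_autInducedBy_of_mem hg (hKn hg)), fun _ => rfl⟩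

omit d in
theorem centralizerIn_le_preM {P : Subgroup Ω} {M : Subgroup (MulAut P)} :
    centralizerIn S P ≤ preM S P M := fun c hc => by
  refine ⟨hc.1, 1, one_mem _, fun x => ?_⟩
  rw [MulAut.one_apply, ← (mem_centralizerIn.1 hc).2 x x.2, mul_inv_cancel_right]

theorem bigger_le {P : Subgroup Ω} (hP : P ≤ S) : bigger S U P ≤ normalizerIn S P :=
  sup_le (le_normalizerIn hP) (preM_le_normalizerIn _)

/-- `N_S(P)` normalizes the preimage and the enlargement. -/
theorem conj_mem_pre {P : Subgroup Ω} (hn : F.IsFullyNormalized P) {g : Ω}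
    (hg : g ∈ normalizerIn S P) {c : Ω} (hc : c ∈ preM S P (innFix U P)) :
    g * c * g⁻¹ ∈ preM S P (innFix U P) := by
  obtain ⟨hcS, m, hm, hme⟩ := hc
  refine ⟨S.mul_mem (S.mul_mem hg.1 hcS) (S.inv_mem hg.1), _,
    innFix_conj d hn (autInducedBy_le_autGroup F hn.1 (mem_autInducedBy_of_mem hg.1 hg.2)) hm,
    fun x => ?_⟩
  set γ := P.normalizerMonoidHom ⟨g, hg.2⟩
  obtain ⟨y, rfl⟩ : ∃ y, γ y = x := γ.surjective x
  simp only [MulAut.mul_apply, MulAut.inv_apply_self]
  show g * ((m y : P) : Ω) * g⁻¹ = g * c * g⁻¹ * (g * (y : Ω) * g⁻¹) * (g * c * g⁻¹)⁻¹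
  rw [hme]
  group

theorem conj_mem_bigger {P : Subgroup Ω} (hn : F.IsFullyNormalized P) {g : Ω}
    (hg : g ∈ normalizerIn S P) {z : Ω} (hz : z ∈ bigger S U P) :
    g * z * g⁻¹ ∈ bigger S U P := by
  have hz' : z ∈ preM S P (innFix U P) ⊔ P := by rw [sup_comm]; exact hz
  obtain ⟨c, hc, x, hx, rfl⟩ := mem_sup_dest
    (fun y hy => (preM_le_normalizerIn _ hy).2) hz'
  rw [show g * (c * x) * g⁻¹ = g * c * g⁻¹ * (g * x * g⁻¹) by group]
  exact Subgroup.mul_mem _ (Subgroup.mem_sup_right (conj_mem_pre d hn hg hc))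
    (Subgroup.mem_sup_left ((Subgroup.mem_normalizer_iff.1 hg.2 x).1 hx))

/-- The trace being not centric, the enlargement is proper. -/
theorem lt_bigger {P : Subgroup Ω} (hn : F.IsFullyNormalized P)
    (hQ : F.IsFullyNormalized (P ⊓ U)) (hQc : ¬ E.IsCentric (P ⊓ U)) : P < bigger S U P := by
  have hPS := hn.1
  have hUS := d.le_S
  haveI := finite_of_le hUS
  refine lt_of_le_of_ne le_sup_left fun heq => hQc ?_
  set Q := P ⊓ U with hQdef
  have hQE := InvExt.fullyNormalized_sub d.pG d.sat d.scU d.inv.1 inf_le_right hQ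
  have hQfc := fullyCentralized_of_fullyNormalized (d.pG.to_le hUS) d.esat hQE
  -- the centralizer of the trace in `U` lies in `P`
  have hle : centralizerIn U Q ≤ P := by
    by_contra hnot
    set H := P ⊔ centralizerIn U Q
    have hPn : P ≤ Subgroup.normalizer ((centralizerIn U Q : Subgroup Ω) : Set Ω) := by
      have key : ∀ x ∈ P, ∀ c ∈ centralizerIn U Q, x * c * x⁻¹ ∈ centralizerIn U Q := by
        intro x hx c hc
        refine mem_centralizerIn.2 ⟨StronglyClosed.conj_mem' d.scU (hPS hx) hc.1,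
          fun q hq => ?_⟩
        have hq' : x⁻¹ * q * x ∈ Q := ⟨P.mul_mem (P.mul_mem (P.inv_mem hx) hq.1) hx, by
          simpa using StronglyClosed.conj_mem' d.scU (S.inv_mem (hPS hx)) hq.2⟩
        calc q * (x * c * x⁻¹) = x * (x⁻¹ * q * x * c) * x⁻¹ := by group
          _ = x * (c * (x⁻¹ * q * x)) * x⁻¹ := by rw [(mem_centralizerIn.1 hc).2 _ hq']
          _ = x * c * x⁻¹ * q := by group
      exact fun x hx => mem_normalizer_of_forall (key x hx) fun c hc => by
        simpa using key x⁻¹ (P.inv_mem hx) c hc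
    have hHS : H ≤ S := sup_le hPS (inf_le_left.trans hUS)
    haveI := finite_of_le hHS
    have hlt : P < H := lt_of_le_of_ne le_sup_left fun h => hnot (h ▸ le_sup_right)
    obtain ⟨z, hz, hzP⟩ := SetLike.exists_of_lt (lt_normalizerIn (d.pG.to_le hHS) hlt)
    obtain ⟨x, hx, c, hc, rfl⟩ := mem_sup_dest hPn hz.1
    have hcn : c ∈ Subgroup.normalizer (P : Set Ω) := by
      have := Subgroup.mul_mem _ (Subgroup.inv_mem _ (Subgroup.le_normalizer hx)) hz.2
      rwa [inv_mul_cancel_left] at this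
    have hcU := hc.1
    have hcC : c ∈ preM S P (innFix U P) := by
      refine ⟨hUS hcU, _, ⟨mem_autInducedBy_of_mem hcU hcn, fun y => ?_, fun y hy => ?_⟩,
        fun _ => rfl⟩
      · rw [normalizerMonoidHom_apply, show (y : Ω)⁻¹ * (c * y * c⁻¹) =
          (y : Ω)⁻¹ * c * (y : Ω)⁻¹⁻¹ * c⁻¹ by group]
        exact U.mul_mem (StronglyClosed.conj_mem' d.scU (S.inv_mem (hPS y.2)) hcU)
          (U.inv_mem hcU)
      · refine Subtype.ext ?_
        rw [normalizerMonoidHom_apply]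
        show c * (y : Ω) * c⁻¹ = y
        rw [← (mem_centralizerIn.1 hc).2 y ⟨y.2, hy⟩, mul_inv_cancel_right]
    exact hzP (P.mul_mem hx (heq ▸ Subgroup.mem_sup_right hcC))
  have hleQ : centralizerIn U Q ≤ Q := fun c hc => ⟨hle hc, hc.1⟩
  refine ⟨inf_le_right, fun Q' hQ' => ?_⟩
  obtain ⟨f, hf, rfl⟩ := isConj_iff.1 hQ'
  haveI : Finite ↥(centralizerIn U Q) := finite_of_le (S := U) inf_le_left
  haveI : Finite ↥(centralizerIn U (fimg f Q)) := finite_of_le (S := U) inf_le_left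
  have hsub : fimg f (centralizerIn U Q) ≤ centralizerIn U (fimg f Q) := fimg_le fun c hc =>
    hf.map_centralizerIn le_rfl (hleQ hc) hc.2
  have := Subgroup.eq_of_le_of_card_ge hsub (by
    rw [(hf.res hleQ).card_fimg]
    exact hQfc.2 _ hQ')
  rw [← this]
  exact fimg_mono f hleQ

/-- An automorphism of a fully normalized subgroup extends to the enlargement. -/
theorem exists_ext_bigger {P : Subgroup Ω} (hn : F.IsFullyNormalized P) {γ : MulAut P}
    (hγ : γ ∈ F.autGroup P) :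
    ∃ g, g ∈ F.autGroup (bigger S U P) ∧ ∀ x ∈ P, autFun g x = autFun γ x := by
  have hPS := hn.1
  have hγm : IsMap F P (autFun γ) := (Fus.mem_autGroup hPS).1 hγ
  have hb := bigger_le d hPS
  set C := preM S P (innFix U P) with hC
  have hcond : ∀ c ∈ C, ∃ c' ∈ C, ∀ x ∈ P,
      autFun γ (c * x * c⁻¹) = c' * autFun γ x * c'⁻¹ := by
    rintro c ⟨hcS, m, hm, hme⟩
    have h := innFix_conj d hn hγ hm
    obtain ⟨u, hu, hue⟩ := mem_autInducedBy.1 h.1
    refine ⟨u, ⟨d.le_S hu, _, h, hue⟩, fun x hx => ?_⟩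
    rw [← autFun_of_induced hue (autFun_mem γ hx), autFun_conj_apply γ m hx,
      autFun_of_induced hme hx]
  have hCn : P ≤ Subgroup.normalizer (C : Set Ω) := fun x hx =>
    mem_normalizer_of_forall (fun c hc => conj_mem_pre d hn (le_normalizerIn hPS hx) hc)
      fun c hc => by
        simpa using conj_mem_pre d hn ((normalizerIn S P).inv_mem (le_normalizerIn hPS hx)) hc
  obtain ⟨f, hf, hfe⟩ := receptive_extend (receptive_of_fullyNormalized d.pG d.sat hn) hγm
    (fimg_autFun γ) (N := bigger S U P) (fun z hz => by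
      refine ⟨hb hz, ?_⟩
      obtain ⟨a, ha, c, hc, rfl⟩ := mem_sup_dest hCn hz
      obtain ⟨c', hc', hce⟩ := hcond c hc
      refine ⟨autFun γ a * c', S.mul_mem (hPS (autFun_mem γ ha)) hc'.1, fun x hx => ?_⟩
      have hx' := (Subgroup.mem_normalizer_iff.1 (preM_le_normalizerIn _ hc).2 x).1 hx
      rw [show a * c * x * (a * c)⁻¹ = a * (c * x * c⁻¹) * a⁻¹ by group, hγm.map_conj ha hx',
        hce x hx]
      group) le_sup_left
  have hfP : fimg f P = P := (fimg_congr hfe).trans (fimg_autFun γ)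
  haveI := finite_of_le (hb.trans inf_le_left)
  have hst : ∀ z ∈ bigger S U P, f z ∈ bigger S U P := by
    intro z hz
    obtain ⟨a, ha, c, hc, rfl⟩ := mem_sup_dest hCn hz
    obtain ⟨c', hc', hce⟩ := hcond c hc
    rw [hf.map_mul (Subgroup.mem_sup_left ha) (Subgroup.mem_sup_right hc), hfe a ha,
      show f c = c' * (c'⁻¹ * f c) by group]
    refine Subgroup.mul_mem_sup (autFun_mem γ ha) (Subgroup.mul_mem _ hc' (centralizerIn_le_preM ?_))
    exact mul_inv_mem_centralizer d le_sup_left hf hfP (Subgroup.mem_sup_right hc)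
      (preM_le_normalizerIn _ hc).2 hc'.1 hfe hce
  obtain ⟨g, hg, hge⟩ :=
    hf.exists_aut (Subgroup.eq_of_le_of_card_ge (fimg_le hst) hf.card_fimg.ge)
  exact ⟨g, hg, fun x hx => (hge x (Subgroup.mem_sup_left hx)).trans (hfe x hx)⟩

theorem Im.mul {P : Subgroup Ω} {a b : MulAut P} (ha : Im F E p P a) (hb : Im F E p P b) :
    Im F E p P (a * b) := by
  obtain ⟨k, hk, hke⟩ := ha
  obtain ⟨l, hl, hle⟩ := hb
  exact ⟨k * l, .mul hk hl, fun x hx => by
    have hx' : x ∈ bigger S U P := Subgroup.mem_sup_left hx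
    rw [autFun_mul _ _ hx, autFun_mul _ _ hx',
      ← hle x hx, hke _ (autFun_mem b hx)]⟩

theorem Im.inv {P : Subgroup Ω} {a : MulAut P} (ha : Im F E p P a) : Im F E p P a⁻¹ := by
  obtain ⟨k, hk, hke⟩ := ha
  refine ⟨k⁻¹, InK.inv d hk, fun x hx => ?_⟩
  have hy := autFun_mem a⁻¹ hx
  conv_rhs => rw [show x = autFun a (autFun a⁻¹ x) by
    rw [← autFun_mul _ _ hx, mul_inv_cancel, autFun_one hx]]
  rw [hke _ hy, autFun_inv_apply k (Subgroup.mem_sup_left hy)]

theorem Im.conj {P : Subgroup Ω} (hn : F.IsFullyNormalized P) {γ β : MulAut P}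
    (hγ : γ ∈ F.autGroup P) (h : Im F E p P β) : Im F E p P (γ * β * γ⁻¹) := by
  obtain ⟨k, hk, hke⟩ := h
  obtain ⟨g, hg, hge⟩ := exists_ext_bigger d hn hγ
  refine ⟨g * k * g⁻¹, InK.conj_mem d hg hk, fun x hx => ?_⟩
  have hy := autFun_mem γ⁻¹ hx
  have hxe : autFun γ (autFun γ⁻¹ x) = x := by
    rw [← autFun_mul _ _ hx, mul_inv_cancel, autFun_one hx]
  conv_lhs => rw [← hxe, autFun_conj_apply γ β hy, ← hge _ (autFun_mem β hy), hke _ hy]
  conv_rhs => rw [← hxe, ← hge _ hy,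
    autFun_conj_apply g k (Subgroup.mem_sup_left hy : _ ∈ bigger S U P)]

theorem Im.of_conj {P : Subgroup Ω} (hn : F.IsFullyNormalized P) {u : Ω} (hu : u ∈ U)
    (hun : u ∈ Subgroup.normalizer (P : Set Ω)) :
    Im F E p P (P.normalizerMonoidHom ⟨u, hun⟩) := by
  have hu' : u ∈ normalizerIn S P := ⟨d.le_S hu, hun⟩
  have hun' : u ∈ Subgroup.normalizer ((bigger S U P : Subgroup Ω) : Set Ω) :=
    mem_normalizer_of_forall (fun z hz => conj_mem_bigger d hn hu' hz) fun z hz => by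
      simpa using conj_mem_bigger d hn ((normalizerIn S P).inv_mem hu') hz
  exact ⟨_, .conj ((bigger_le d hn.1).trans inf_le_left) hu
    (fun x hx => autFun_normalizerMonoidHom hun' hx), fun x hx => by
      rw [autFun_normalizerMonoidHom hun hx,
        autFun_normalizerMonoidHom hun' (Subgroup.mem_sup_left hx : x ∈ bigger S U P)]⟩

/-- A conjugation from `U` carried to a fully normalized subgroup is a restriction. -/
theorem Im.of_transport {P R : Subgroup Ω} (hn : F.IsFullyNormalized P) {v : Ω → Ω}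
    (hv : IsMap F R v) (e : R ≃* P) (he : ∀ x : R, (e x : Ω) = v x) {u : Ω} (hu : u ∈ U)
    {b : MulAut R} (hb : ∀ x ∈ R, autFun b x = u * x * u⁻¹) :
    Im F E p P (MulAut.congr e b) := by
  have hRS := hv.source_le
  obtain ⟨h, hh, hhR, -⟩ := exists_map_to_fullyNormalized d.pG d.sat hn
    (InK.fimg_eq d hv he ▸ hv.isConj)
  have hm := hh.res (le_normalizerIn hRS)
  obtain ⟨e', he', hA⟩ := exists_mulEquiv hm hhR
  have hun : u ∈ Subgroup.normalizer (R : Set Ω) := mem_normalizer_of_conj_aut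
    (fun x => (autFun_coe b x).symm.trans (hb x x.2))
  have huN : u ∈ normalizerIn S R := ⟨d.le_S hu, hun⟩
  have hwU : h u ∈ U := StronglyClosed.apply_mem d.scU (hh.res inf_le_right)
    (inf_le_left : U ⊓ normalizerIn S R ≤ U) ⟨hu, huN⟩
  have hwn : h u ∈ Subgroup.normalizer (P : Set Ω) :=
    (hhR ▸ hh.map_normalizerIn (le_normalizerIn hRS) huN hun : h u ∈ normalizerIn S P).2
  have h1 : MulAut.congr e' b = P.normalizerMonoidHom ⟨h u, hwn⟩ := mulAut_ext fun y hy => by
    rw [congr_induced hh (le_normalizerIn hRS) e' he' huN hb y hy,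
      autFun_normalizerMonoidHom hwn hy]
  obtain ⟨ρ, hρ, hρe⟩ : ∃ ρ ∈ F.autGroup P, ∀ x : R, ρ (e' x) = e x := by
    refine ⟨e'.symm.trans e, ?_, fun x => by simp⟩
    obtain ⟨h', hh', hh1, -, -⟩ := hm.exists_inv
    rw [hhR] at hh'
    refine (Fus.mem_autGroup hn.1).2 ((hh'.comp hv fun y hy => ?_).congr fun y hy => ?_)
    · obtain ⟨x, hx, rfl⟩ := hm.mem_fimg_iff.1 (hhR.ge hy)
      rw [hh1 x hx]
      exact hx
    · obtain ⟨x, hx, rfl⟩ := hm.mem_fimg_iff.1 (hhR.ge hy)
      rw [← he' ⟨x, hx⟩, autFun_coe, he', hh1 x hx]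
      show v x = ((e (e'.symm (e' ⟨x, hx⟩)) : P) : Ω)
      rw [MulEquiv.symm_apply_apply, he]
  have h2 : MulAut.congr e b = ρ * MulAut.congr e' b * ρ⁻¹ := MulEquiv.ext fun y => by
    obtain ⟨x, rfl⟩ := e.surjective y
    rw [← hρe x, MulAut.mul_apply, MulAut.mul_apply, MulAut.inv_apply_self]
    simp [MulAut.congr, hρe]
  rw [h2, h1]
  exact Im.conj d hn hρ (Im.of_conj d hn hwU hwn)

set_option maxHeartbeats 1000000 in
/-- An automorphism of order prime to `p` of a larger subgroup restricts into the restrictions. -/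
theorem grow {P : Subgroup Ω} (hn : F.IsFullyNormalized P) (hA : Above F E p (Nat.card P)) :
    ∀ {Y : Subgroup Ω} {g : MulAut Y} {γ : MulAut P}, P ≤ Y → Y ≤ normalizerIn S P →
      Nat.card P < Nat.card Y → InK F E p Y g → (orderOf g).Coprime p →
      (∀ x ∈ P, autFun γ x = autFun g x) → Im F E p P γ := by
  intro Y
  induction hk : Nat.card ↥(normalizerIn S P) - Nat.card Y using Nat.strong_induction_on
    generalizing Y with
  | _ N ih =>
  intro g γ hPY hYn hlt hg hgo hγ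
  have hPS := hn.1
  haveI := finite_of_le hPS
  have hYS : Y ≤ S := hYn.trans inf_le_left
  haveI := finite_of_le hYS
  have hgm := InK.isMap d hg
  have hγK : InK F E p P γ := .res hPY hg hγ
  have hγF := InK.mem_autGroup d hγK
  have hγo : γ ^ orderOf g = 1 := mulAut_ext fun x hx => by
    rw [autFun_pow_eqOn hPY hγ _ x hx, pow_orderOf_eq_one, autFun_one (hPY hx), autFun_one hx]
  set B := innFix U P with hBdef
  set C := preM S P B with hCdef
  by_cases hCY : C ≤ Y
  · have hP₁ : bigger S U P ≤ Y := sup_le hPY hCY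
    have hst : ∀ z ∈ bigger S U P, autFun g z ∈ bigger S U P := by
      have : fimg (autFun g) (bigger S U P) ≤ bigger S U P := by
        rw [bigger, (hgm.res hP₁).fimg_sup]
        refine sup_le_sup (fimg_le fun x hx => hγ x hx ▸ autFun_mem γ hx) (fimg_le fun c hc => ?_)
        obtain ⟨-, m, hm, hme⟩ := id hc
        refine ⟨hgm.apply_mem (hCY hc), γ * m * γ⁻¹, innFix_conj d hn hγF hm, fun y => ?_⟩
        obtain ⟨x, rfl⟩ := γ.surjective y
        rw [← autFun_coe γ x, ← autFun_coe (γ * m * γ⁻¹), autFun_coe γ x,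
          ← autFun_coe γ x, autFun_conj_apply γ m x.2, autFun_coe m, hme,
          hγ _ ((Subgroup.mem_normalizer_iff.1 (preM_le_normalizerIn _ hc).2 x).1 x.2),
          hgm.map_conj (hCY hc) (hPY x.2), ← hγ x x.2]
      exact fun z hz => this (apply_mem_fimg _ hz)
    haveI := finite_of_le (hP₁.trans hYS)
    obtain ⟨k, hkF, hke⟩ := (hgm.res hP₁).exists_aut
      (Subgroup.eq_of_le_of_card_ge (fimg_le hst) (hgm.res hP₁).card_fimg.ge)
    exact ⟨k, .res hP₁ hg hke, fun x hx => by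
      rw [hke x (Subgroup.mem_sup_left hx), hγ x hx]⟩
  -- an element of the preimage normalizing `Y`
  have hYC : Y ≤ Subgroup.normalizer (C : Set Ω) := fun y hy =>
    mem_normalizer_of_forall (fun c hc => conj_mem_pre d hn (hYn hy) hc) fun c hc => by
      simpa using conj_mem_pre d hn ((normalizerIn S P).inv_mem (hYn hy)) hc
  have hCS : C ≤ S := (preM_le_normalizerIn _).trans inf_le_left
  set H := Y ⊔ C
  have hHS : H ≤ S := sup_le hYS hCS
  haveI := finite_of_le hHS
  obtain ⟨z, hz, hzY⟩ := SetLike.exists_of_lt (lt_normalizerIn (d.pG.to_le hHS)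
    (lt_of_le_of_ne le_sup_left fun h => hCY (h ▸ le_sup_right) : Y < H))
  obtain ⟨y₁, hy₁, c, hc, rfl⟩ := mem_sup_dest hYC hz.1
  have hcY : c ∉ Y := fun h => hzY (Y.mul_mem hy₁ h)
  have hcn : c ∈ Subgroup.normalizer (Y : Set Ω) := by
    have := Subgroup.mul_mem _ (Subgroup.inv_mem _ (Subgroup.le_normalizer hy₁)) hz.2
    rwa [inv_mul_cancel_left] at this
  set σ := Y.normalizerMonoidHom ⟨c, hcn⟩
  have hσS : σ ∈ autInducedBy S Y := mem_autInducedBy_of_mem (hCS hc) hcn
  have hσp : IsPGroup p (Subgroup.zpowers σ) :=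
    (isPGroup_autInducedBy d.pG Y).to_le (Subgroup.zpowers_le.2 hσS)
  have hσF : Subgroup.zpowers σ ≤ F.autGroup Y :=
    Subgroup.zpowers_le.2 (autInducedBy_le_autGroup F hYS hσS)
  let J' : Subgroup (MulAut Y) :=
    { carrier := {x | ∃ b ∈ B, ∀ z ∈ P, autFun b z = autFun x z}
      mul_mem' := by
        rintro x x' ⟨b, hb, hbe⟩ ⟨b', hb', hbe'⟩
        exact ⟨b * b', mul_mem hb hb', fun z hz => by
          rw [autFun_mul _ _ hz, autFun_mul _ _ (hPY hz), ← hbe' z hz,
            hbe _ (autFun_mem b' hz)]⟩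
      one_mem' := ⟨1, one_mem _, fun z hz => by rw [autFun_one hz, autFun_one (hPY hz)]⟩
      inv_mem' := by
        rintro x ⟨b, hb, hbe⟩
        refine ⟨b⁻¹, inv_mem hb, fun z hz => ?_⟩
        have hy := autFun_mem b⁻¹ hz
        conv_rhs => rw [show z = autFun b (autFun b⁻¹ z) by
          rw [← autFun_mul _ _ hz, mul_inv_cancel, autFun_one hz]]
        rw [hbe _ hy, autFun_inv_apply x (hPY hy)] }
  set K' := kgrp d Y hYS ⊔ Subgroup.zpowers σ with hK'
  have hK'F : K' ≤ F.autGroup Y := sup_le (kgrp_le d hYS) hσF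
  have hσn : Subgroup.zpowers σ ≤
      Subgroup.normalizer ((kgrp d Y hYS : Subgroup (MulAut Y)) : Set (MulAut Y)) :=
    hσF.trans (kgrp_normalized d hYS)
  have hgK' : g ∈ K' := Subgroup.mem_sup_left hg
  have hσJ : σ ∈ J' := by
    obtain ⟨-, m, hm, hme⟩ := id hc
    exact ⟨m, hm, fun x hx => by
      rw [autFun_of_induced hme hx, autFun_normalizerMonoidHom hcn (hPY hx)]⟩
  obtain ⟨W, hWp, hWJ, hσW, j, hj, hjW⟩ := exists_adjust (J := J' ⊓ K') hσp
    (le_inf (Subgroup.zpowers_le.2 hσJ) le_sup_right) (g := g) (by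
      rintro x ⟨⟨b, hb, hbe⟩, hxK⟩
      refine ⟨⟨γ * b * γ⁻¹, innFix_conj d hn hγF hb, fun z hz => ?_⟩,
        mul_mem (mul_mem hgK' hxK) (K'.inv_mem hgK')⟩
      have hy := autFun_mem γ⁻¹ hz
      have hze : autFun γ (autFun γ⁻¹ z) = z := by
        rw [← autFun_mul _ _ hz, mul_inv_cancel, autFun_one hz]
      conv_lhs => rw [← hze, autFun_conj_apply γ b hy, hγ _ (autFun_mem b hy), hbe _ hy]
      conv_rhs => rw [← hze, hγ _ hy, autFun_conj_apply g x (hPY hy)])
  obtain ⟨b, hb, hbe⟩ := hj.1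
  set g' := j * g with hg'
  have hg'P : ∀ z ∈ P, autFun (b * γ) z = autFun g' z := fun z hz => by
    rw [autFun_mul _ _ hz, hg', autFun_mul _ _ (hPY hz), hγ z hz,
      hbe _ (hγ z hz ▸ autFun_mem γ hz)]
  obtain ⟨a, n', hn', han, hγa⟩ := InvExt.exists_coprime_power (p := p) g' hgo hγo
  set g'' := g' ^ a with hg''
  have hg''K : InK F E p Y g'' :=
    mem_of_coprime_sup (K := kgrp d Y hYS) hσn hσp (pow_mem (mul_mem hj.2 hgK') a) hn' han
  have hg''P : ∀ z ∈ P, autFun ((b * γ) ^ a) z = autFun g'' z :=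
    autFun_pow_eqOn hPY hg'P a
  have hg''W : ∀ x ∈ W, g'' * x * g''⁻¹ ∈ W := by
    have hg'n : g' ∈ Subgroup.normalizer (W : Set (MulAut Y)) := by
      haveI : Finite ↥W := inferInstance
      exact mem_normalizer_of_forall hjW fun x hx => by
        have hsurj : W.map (MulAut.conj g').toMonoidHom = W :=
          Subgroup.eq_of_le_of_card_ge (by rintro _ ⟨y, hy, rfl⟩; exact hjW y hy)
            (Subgroup.card_map_of_injective (MulAut.conj g').injective).ge
        obtain ⟨y, hy, rfl⟩ := hsurj.ge hx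
        simpa [mul_assoc] using hy
    exact fun x hx => (Subgroup.mem_normalizer_iff.1 (pow_mem hg'n a) x).1 hx
  have hWF : W ≤ F.autGroup Y := (hWJ.trans inf_le_right).trans hK'F
  obtain ⟨Y₀, w, e, hn₀, hw, hwY, he, hWS⟩ := exists_into_sylow d hYS hWp hWF
  have hY₀S := hn₀.1
  haveI := finite_of_le hY₀S
  set M₀ := W.map (MulAut.congr e).toMonoidHom ⊔ Inn Y₀ with hM₀
  have hM₀S : M₀ ≤ autInducedBy S Y₀ := sup_le (by
    rintro _ ⟨x, hx, rfl⟩
    exact hWS x hx) (inn_eq_autInducedBy Y₀ ▸ autInducedBy_mono hY₀S Y₀)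
  set N₀ := preM S Y₀ M₀ with hN₀
  have hN₀ind := autInducedBy_preM (S := S) hM₀S
  have hY₀N : Y₀ ≤ N₀ := preM_ge hY₀S Subgroup.le_normalizer
    (inn_eq_autInducedBy Y₀ ▸ le_sup_right)
  set g₀ := MulAut.congr e g'' with hg₀
  have hg₀K : InK F E p Y₀ g₀ := .map hw he hg''K
  have hg₀o : (orderOf g₀).Coprime p := by
    rw [hg₀, MulEquiv.orderOf_eq]
    exact coprime_of_pow hn' han
  have hg₀M : ∀ x ∈ M₀, g₀ * x * g₀⁻¹ ∈ M₀ := by
    have : M₀.map (MulAut.conj g₀).toMonoidHom ≤ M₀ := by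
      rw [hM₀, Subgroup.map_sup]
      refine sup_le_sup ?_ ?_
      · rintro _ ⟨_, ⟨x, hx, rfl⟩, rfl⟩
        exact ⟨g'' * x * g''⁻¹, hg''W x hx, by simp only [MulEquiv.coe_toMonoidHom, hg₀, map_mul, map_inv]; rfl⟩
      · rintro _ ⟨_, ⟨y, rfl⟩, rfl⟩
        exact ⟨g₀ y, MulEquiv.ext fun z => by simp⟩
    exact fun x hx => this ⟨x, hx, rfl⟩
  obtain ⟨φ, hφK, hφo, hφe⟩ := (hA Y₀ (by rwa [← hwY, hw.card_fimg]) hn₀).1 g₀ N₀ hg₀K hg₀o
    hY₀N centralizerIn_le_preM (preM_le_normalizerIn _) (by rw [hN₀ind]; exact hg₀M)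
  set P₀ := fimg w P with hP₀
  have hP₀Y : P₀ ≤ Y₀ := hwY ▸ fimg_mono w hPY
  have hwP := hw.res hPY
  have hP₀S : P₀ ≤ S := hP₀Y.trans hY₀S
  have hM₀st : M₀ ≤ stabIn Y₀ P₀ := by
    refine sup_le ?_ ?_
    · rintro _ ⟨x, hx, rfl⟩
      obtain ⟨b', -, hb'e⟩ := (hWJ hx).1
      refine stabIn_congr e he hw hPY rfl fun z => ⟨fun hz => ?_, fun hz => ?_⟩
      · have h1 := autFun_mem b'⁻¹ hz
        have h2 : autFun x (autFun b'⁻¹ (x z : Y)) = (x z : Y) := by
          rw [← hb'e _ h1, ← autFun_mul _ _ hz, mul_inv_cancel, autFun_one hz]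
        have h3 : (⟨autFun b'⁻¹ (x z : Y), hPY h1⟩ : Y) = z :=
          x.injective (Subtype.ext ((autFun_coe x ⟨_, hPY h1⟩).symm.trans h2))
        exact congrArg Subtype.val h3 ▸ h1
      · rw [← autFun_coe, ← hb'e _ hz]
        exact autFun_mem b' hz
    · rintro _ ⟨y, rfl⟩
      obtain ⟨x, rfl⟩ := e.surjective y
      refine stabIn_of_conj (g := (e x : Ω)) (fun z => rfl) ?_
      rw [he]
      exact (hw.map_normalizerIn hPY x.2 (hYn x.2).2).2
  have hN₀P : N₀ ≤ normalizerIn S P₀ := fun n hn' => by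
    obtain ⟨hnS, m, hm, hme⟩ := hn'
    exact ⟨hnS, mem_normalizer_of_stabIn hP₀Y hme (hM₀st hm)⟩
  -- the preimage is larger
  set L := preM S Y (W ⊔ Inn Y) with hL
  have hYL : Y ≤ L := preM_ge hYS Subgroup.le_normalizer
    (inn_eq_autInducedBy Y ▸ le_sup_right)
  have hcL : c ∈ L :=
    ⟨hCS hc, σ, Subgroup.mem_sup_left (hσW (Subgroup.mem_zpowers σ)), fun _ => rfl⟩
  have htr : ∀ m ∈ W ⊔ Inn Y, MulAut.congr e m ∈ M₀ := by
    have : (W ⊔ Inn Y).map (MulAut.congr e).toMonoidHom ≤ M₀ := by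
      rw [Subgroup.map_sup]
      refine sup_le_sup_left ?_ _
      rintro _ ⟨_, ⟨y, rfl⟩, rfl⟩
      exact ⟨e y, MulEquiv.ext fun z => by simp [MulAut.congr]⟩
    exact fun m hm => this ⟨m, hm, rfl⟩
  obtain ⟨w', hw', hw'e⟩ := receptive_extend (receptive_of_fullyNormalized d.pG d.sat hn₀) hw hwY
    (N := L) (fun l hl => by
      refine ⟨preM_le_normalizerIn _ hl, ?_⟩
      obtain ⟨-, m, hm, hme⟩ := hl
      obtain ⟨h', hh', hhe⟩ := mem_autInducedBy.1 (hM₀S (htr m hm))
      refine ⟨h', hh', fun x hx => ?_⟩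
      rw [← autFun_of_induced hhe (hwY ▸ apply_mem_fimg w hx), autFun_congr e he m hx,
        autFun_of_induced hme hx]) hYL
  have hw'N : fimg w' L ≤ N₀ := fimg_le fun l hl => by
    obtain ⟨-, m, hm, hme⟩ := id hl
    refine ⟨hw'.apply_mem hl, MulAut.congr e m, htr m hm, fun y => ?_⟩
    rw [← autFun_coe, congr_induced hw' hYL e (fun x => by rw [he, hw'e x x.2]) hl
      (fun x hx => autFun_of_induced hme hx) y y.2]
  have hN₀S : N₀ ≤ S := (preM_le_normalizerIn _).trans inf_le_left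
  haveI := finite_of_le hN₀S
  haveI := finite_of_le ((preM_le_normalizerIn _).trans inf_le_left : L ≤ S)
  have hcard : Nat.card Y < Nat.card N₀ := calc
    Nat.card Y < Nat.card L := card_lt_of_lt (lt_of_le_of_ne hYL fun h => hcY (h ▸ hcL))
    _ = Nat.card (fimg w' L) := hw'.card_fimg.symm
    _ ≤ _ := Subgroup.card_le_of_le hw'N
  -- carry back to the normalizer of `P`
  obtain ⟨h, hh, hhP, -⟩ := exists_map_to_fullyNormalized d.pG d.sat hn
    (isConj_symm hwP.isConj)
  have hhN := hh.res hN₀P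
  obtain ⟨e₃, he₃, -⟩ := exists_mulEquiv hhN rfl
  have hP₀N : P₀ ≤ N₀ := hP₀Y.trans hY₀N
  have hP3 : P ≤ fimg h N₀ := hhP ▸ fimg_mono h hP₀N
  have hn3 : fimg h N₀ ≤ normalizerIn S P := fimg_le fun x hx =>
    hhP ▸ hh.map_normalizerIn (le_normalizerIn hP₀S) (hN₀P hx) (hN₀P hx).2
  have hcard3 : Nat.card Y < Nat.card (fimg h N₀) := by rwa [hhN.card_fimg]
  haveI : Finite ↥(normalizerIn S P) := finite_of_le (S := S) inf_le_left
  have hwh : IsMap F P (fun x => h (w x)) :=
    hwP.comp (hh.res (le_normalizerIn hP₀S)) fun x hx => apply_mem_fimg w hx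
  obtain ⟨ρ, hρ, hρe⟩ := hwh.exists_aut
    (by rw [hwP.fimg_comp, ← hP₀, hhP])
  set δ := (b * γ) ^ a with hδ
  have hIm : Im F E p P (ρ * δ * ρ⁻¹) := by
    refine ih _ (by
      have := Subgroup.card_le_of_le hn3
      omega) rfl hP3 hn3 (hlt.trans hcard3) (.map hhN he₃ hφK) (by
        rw [MulEquiv.orderOf_eq]; exact hφo) fun z hz => ?_
    have hy := autFun_mem ρ⁻¹ hz
    have hze : autFun ρ (autFun ρ⁻¹ z) = z := by
      rw [← autFun_mul _ _ hz, mul_inv_cancel, autFun_one hz]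
    generalize autFun ρ⁻¹ z = x at hy hze
    subst hze
    rw [autFun_conj_apply ρ δ hy, hρe _ (autFun_mem δ hy), hρe x hy,
      autFun_congr e₃ he₃ φ (hP₀N (apply_mem_fimg w hy)),
      hφe _ (hwY ▸ apply_mem_fimg w (hPY hy)), autFun_congr e he g'' (hPY hy), hg''P x hy]
  have hIδ : Im F E p P δ := by
    have := Im.conj d hn ((F.autGroup P).inv_mem hρ) hIm
    rwa [show ρ⁻¹ * (ρ * δ * ρ⁻¹) * ρ⁻¹⁻¹ = δ by group] at this
  -- remove the part from `U`
  have hbI : Im F E p P b := by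
    obtain ⟨u, hu, hue⟩ := mem_autInducedBy.1 hb.1
    have := Im.of_conj d hn hu (mem_normalizer_of_conj_aut hue)
    rwa [show P.normalizerMonoidHom ⟨u, _⟩ = b from
      MulEquiv.ext fun x => Subtype.ext (hue x).symm] at this
  have hb' : ∀ i : ℕ, ∃ b' : MulAut P, Im F E p P b' ∧ (b * γ) ^ i = b' * γ ^ i := by
    intro i
    induction i with
    | zero =>
      exact ⟨1, by simpa using Im.mul d hbI (Im.inv d hbI), by simp⟩
    | succ i ihi =>
      obtain ⟨b', hb', hbi⟩ := ihi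
      refine ⟨b' * (γ ^ i * b * (γ ^ i)⁻¹), Im.mul d hb' (Im.conj d hn (pow_mem hγF i) hbI), ?_⟩
      rw [pow_succ, hbi, pow_succ]
      group
  obtain ⟨b', hb'I, hb'e⟩ := hb' a
  rw [show γ = b'⁻¹ * δ by rw [hδ, hb'e, inv_mul_cancel_left, hγa]]
  exact Im.mul d (Im.inv d hb'I) hIδ

theorem im_of_inK {P : Subgroup Ω} (hn : F.IsFullyNormalized P)
    (hQ : F.IsFullyNormalized (P ⊓ U)) (hQc : ¬ E.IsCentric (P ⊓ U))
    (hA : Above F E p (Nat.card P)) {R : Subgroup Ω} {β : MulAut R} (h : InK F E p R β) :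
    ∀ (v : Ω → Ω) (e : R ≃* P), IsMap F R v → (∀ x : R, (e x : Ω) = v x) →
      Im F E p P (MulAut.congr e β) := by
  induction h with
  | @base R β hR hc hβ ho ht hi =>
    intro v e hv he
    refine absurd ?_ hQc
    have h1 := ((Inter.tCen_sub_iff d.inv d.scU le_rfl).1 hc).image d.scU
      (hv.res (inf_le_left : R ⊓ U ≤ R))
    rw [InvClass.fimg_inf d.scU hv, InK.fimg_eq d hv he] at h1
    exact (Inter.tCen_sub_iff d.inv d.scU le_rfl).2 h1
  | @conj R β u hR hu hβ =>
    intro v e hv he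
    exact Im.of_transport d hn hv e he hu hβ
  | @mul R a b ha hb iha ihb =>
    intro v e hv he
    rw [map_mul]
    exact Im.mul d (iha v e hv he) (ihb v e hv he)
  | @map R R' w e' a hw he' ha ih =>
    intro v e hv he
    rw [← congr_trans]
    refine ih (fun x => v (w x)) (e'.trans e) (hw.comp hv fun x hx => ?_) fun x => ?_
    · rw [← he' ⟨x, hx⟩]
      exact (e' ⟨x, hx⟩).2
    · show ((e (e' x) : P) : Ω) = v (w x)
      rw [he, he']
  | @res Y R a b hR ha hb ih =>
    intro v e hv he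
    have hYS := InK.source_le d ha
    haveI := finite_of_le hYS
    rcases hR.eq_or_lt with rfl | hlt
    · rw [show b = a from mulAut_ext hb]
      exact ih v e hv he
    have hcR : Nat.card P = Nat.card R := (Nat.card_congr e.toEquiv).symm
    have hcY : Nat.card P < Nat.card Y := hcR ▸ card_lt_of_lt hlt
    obtain ⟨i, j, hi, ⟨l, hl⟩, hij⟩ := exists_primary_split p a
    have hpow : ∀ n, ∀ x ∈ R, autFun (b ^ n) x = autFun (a ^ n) x := autFun_pow_eqOn hR hb
    rw [show b = b ^ i * b ^ j from mulAut_ext fun x hx => by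
      rw [autFun_mul _ _ hx, hpow i _ (autFun_mem _ hx), hpow j x hx, hb x hx,
        ← autFun_mul _ _ (hR hx), ← hij], map_mul]
    refine Im.mul d ?_ ?_
    · -- the part of order prime to `p`
      set a₁ := a ^ i
      set b₁ := b ^ i
      have hb₁ : ∀ x ∈ R, autFun b₁ x = autFun a₁ x := hpow i
      have ha₁ : InK F E p Y a₁ := InK.pow' d ha i
      have hm₁ := InK.isMap d ha₁
      set Y' := normalizerIn Y R
      have hY'Y : Y' ≤ Y := inf_le_left
      have hRY' : R ≤ Y' := le_normalizerIn hR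
      have hY'S : Y' ≤ normalizerIn S R := fun y hy => ⟨hYS hy.1, hy.2⟩
      haveI := finite_of_le (hY'Y.trans hYS)
      have hRfix : fimg (autFun a₁) R = R :=
        (fimg_congr fun x hx => (hb₁ x hx).symm).trans (fimg_autFun b₁)
      obtain ⟨a₂, ha₂, ha₂e⟩ := (hm₁.res hY'Y).exists_aut (Subgroup.eq_of_le_of_card_ge
        (fimg_le fun y hy => (⟨autFun_mem a₁ hy.1, (hRfix ▸
          hm₁.map_normalizerIn hR hy.1 hy.2 : autFun a₁ y ∈ normalizerIn S R).2⟩ :
            autFun a₁ y ∈ Y')) (hm₁.res hY'Y).card_fimg.ge)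
      have ha₂K : InK F E p Y' a₂ := .res hY'Y ha₁ ha₂e
      have ha₂o : (orderOf a₂).Coprime p := coprime_of_pow hi (mulAut_ext fun y hy => by
        rw [autFun_pow_eqOn hY'Y ha₂e _ y hy, pow_orderOf_eq_one, autFun_one (hY'Y hy),
          autFun_one hy])
      have hYlt : Nat.card R < Nat.card Y' :=
        card_lt_of_lt (lt_normalizerIn (d.pG.to_le hYS) hlt)
      obtain ⟨h, hh, hhR, -⟩ := exists_map_to_fullyNormalized d.pG d.sat hn
        (InK.fimg_eq d hv he ▸ hv.isConj)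
      have hm := hh.res hY'S
      obtain ⟨e₂, he₂, -⟩ := exists_mulEquiv hm rfl
      have hmR := hh.res (le_normalizerIn (hR.trans hYS))
      obtain ⟨e', he', -⟩ := exists_mulEquiv hmR hhR
      have hI : Im F E p P (MulAut.congr e' b₁) := by
        refine grow d hn hA (Y := fimg h Y') (g := MulAut.congr e₂ a₂)
          (hhR ▸ fimg_mono h hRY') (fimg_le fun y hy => hhR ▸
            hh.map_normalizerIn (le_normalizerIn (hR.trans hYS)) (hY'S hy) hy.2)
          (by rw [hm.card_fimg, hcR]; exact hYlt) (.map hm he₂ ha₂K)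
          (by rw [MulEquiv.orderOf_eq]; exact ha₂o) fun z hz => ?_
        obtain ⟨x, hx⟩ := e'.surjective ⟨z, hz⟩
        have hzx : z = h x := by rw [← he', hx]
        rw [hzx, autFun_congr e' he' b₁ x.2, autFun_congr e₂ he₂ a₂ (hRY' x.2),
          hb₁ x x.2, ha₂e x (hRY' x.2)]
      obtain ⟨h', hh', hh1, -, -⟩ := hmR.exists_inv
      rw [hhR] at hh'
      have hρ : e'.symm.trans e ∈ F.autGroup P := by
        refine (Fus.mem_autGroup hn.1).2 ((hh'.comp hv fun y hy => ?_).congr fun y hy => ?_)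
        · obtain ⟨x, hx, rfl⟩ := hmR.mem_fimg_iff.1 (hhR.ge hy)
          rw [hh1 x hx]
          exact hx
        · obtain ⟨x, hx, rfl⟩ := hmR.mem_fimg_iff.1 (hhR.ge hy)
          rw [← he' ⟨x, hx⟩, autFun_coe, he', hh1 x hx]
          show v x = ((e (e'.symm (e' ⟨x, hx⟩)) : P) : Ω)
          rw [MulEquiv.symm_apply_apply, he]
      have := Im.conj d hn hρ hI
      rwa [← congr_conj, ← congr_trans, show e'.trans (e'.symm.trans e) = e from
        MulEquiv.ext fun x => by simp] at this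
    · -- the part of `p`-power order
      set a₁ := a ^ j
      set b₁ := b ^ j
      obtain ⟨Y₀, w, u, hu, hw, hwY, hwa⟩ :=
        exists_conj_type d hA hcY (InK.pow' d ha j) (i := l) hl
      have hwR := hw.res hR
      obtain ⟨eR, heR, -⟩ := exists_mulEquiv hwR rfl
      obtain ⟨w', hw', hw1, hw2, -⟩ := hwR.exists_inv
      have hI : Im F E p P (MulAut.congr (eR.symm.trans e) (MulAut.congr eR b₁)) :=
        Im.of_transport d hn (v := fun z => v (w' z))
          (hw'.comp hv fun z hz => (hw2 z hz).1)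
          (eR.symm.trans e) (fun z => by
            obtain ⟨x, rfl⟩ := eR.surjective z
            show ((e (eR.symm (eR x)) : P) : Ω) = v (w' (eR x : Ω))
            rw [MulEquiv.symm_apply_apply, he, heR, hw1 x x.2]) hu fun z hz => by
          obtain ⟨x, hx, rfl⟩ := hwR.mem_fimg_iff.1 hz
          rw [autFun_congr eR heR b₁ hx, hpow j x hx]
          exact hwa x (hR hx)
      rwa [← congr_trans, show eR.trans (eR.symm.trans e) = e from
        MulEquiv.ext fun x => by simp] at hI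

end Cfsg.Agent.Fus.Ker
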