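import Mathlib
import Cfsg.Agent.Lib.Fus.KerGrow

/-!
The automorphisms coming from a normal subsystem on a fully normalized subgroup extend, and meet
the conjugations from `S` in those from the support.
-/

set_option autoImplicit false
set_option linter.style.haveILetI false
set_option linter.unusedSectionVars false
set_option linter.unusedVariables false

open scoped Classical

universe u

namespace Cfsg.Agent.Fus.Ker

open Subgroup FusionSystem InvMap SatCrit

variable {Ω : Type u} [Group Ω] {S U : Subgroup Ω} {F : FusionSystem S} {E : FusionSystem U}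
  {p : ℕ} [Finite S] [Fact p.Prime] (d : Data F p E)
include d

/-- An element inducing the same as an element of a subgroup containing the centralizer. -/
theorem fimg_centralizerIn {P : Subgroup Ω} {M : Subgroup Ω} {f : Ω → Ω}
    (hP : F.IsFullyCentralized P) (hf : IsMap F M f) (hPM : P ≤ M)
    (hCM : centralizerIn S P ≤ M) :
    fimg f (centralizerIn S P) = centralizerIn S (fimg f P) := by
  haveI : Finite ↥(centralizerIn S (fimg f P)) := finite_of_le (S := S) inf_le_left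
  refine Subgroup.eq_of_le_of_card_ge
    (fimg_le fun c hc => hf.map_centralizerIn hPM (hCM hc) hc.2) ?_
  rw [(hf.res hCM).card_fimg]
  exact hP.2 _ (hf.res hPM).isConj

set_option maxHeartbeats 1000000 in
/-- Extension when the trace on `U` is not centric. -/
theorem bProp_notCentric {P : Subgroup Ω} (hn : F.IsFullyNormalized P)
    (hQ : F.IsFullyNormalized (P ⊓ U)) (hQc : ¬ E.IsCentric (P ⊓ U))
    (hA : Above F E p (Nat.card P)) : BProp F E p P := by
  intro k N hk hko hPN hCN hNn hnorm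
  have hPS := hn.1
  haveI := finite_of_le hPS
  have hfc := fullyCentralized_of_fullyNormalized d.pG d.sat hn
  set P₁ := bigger S U P with hP₁
  have hPP₁ : P ≤ P₁ := le_sup_left
  have hP₁n := bigger_le d hPS
  have hP₁S : P₁ ≤ S := hP₁n.trans inf_le_left
  haveI := finite_of_le hP₁S
  -- lift
  obtain ⟨k₀, hk₀, hk₀e⟩ : Im F E p P k := by
    have := im_of_inK d hn hQ hQc hA hk (autFun 1) 1 (isMap_id F hPS |>.congr fun x hx =>
      (autFun_one hx).symm) fun x => (autFun_coe 1 x).symm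
    rwa [congr_conj, one_mul, inv_one, mul_one] at this
  obtain ⟨i, n₁, hn₁, hk₁n, hki⟩ := InvExt.exists_coprime_power (p := p) k₀ hko
    (pow_orderOf_eq_one k)
  set k₁ := k₀ ^ i with hk₁def
  have hk₁ : InK F E p P₁ k₁ := InK.pow' d hk₀ i
  have hk₁e : ∀ x ∈ P, autFun k x = autFun k₁ x := fun x hx => by
    rw [← autFun_pow_eqOn hPP₁ hk₀e i x hx, hki]
  have hNS : N ≤ S := hNn.trans inf_le_left
  have hNP₁ : N ≤ Subgroup.normalizer (P₁ : Set Ω) := fun g hg =>
    mem_normalizer_of_forall (fun z hz => conj_mem_bigger d hn (hNn hg) hz) fun z hz => by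
      simpa using conj_mem_bigger d hn ((normalizerIn S P).inv_mem (hNn hg)) hz
  set A := autInducedBy N P₁ with hAdef
  have hAS : A ≤ autInducedBy S P₁ := autInducedBy_mono hNS P₁
  have hAF : A ≤ F.autGroup P₁ := hAS.trans (autInducedBy_le_autGroup F hP₁S)
  have hAp : IsPGroup p A := (isPGroup_autInducedBy d.pG P₁).to_le hAS
  let J' : Subgroup (MulAut P₁) :=
    { carrier := {x | ∃ c ∈ autInducedBy N P, ∀ z ∈ P, autFun c z = autFun x z}
      mul_mem' := by
        rintro x x' ⟨b, hb, hbe⟩ ⟨b', hb', hbe'⟩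
        exact ⟨b * b', mul_mem hb hb', fun z hz => by
          rw [autFun_mul _ _ hz, autFun_mul _ _ (hPP₁ hz), ← hbe' z hz,
            hbe _ (autFun_mem b' hz)]⟩
      one_mem' := ⟨1, one_mem _, fun z hz => by rw [autFun_one hz, autFun_one (hPP₁ hz)]⟩
      inv_mem' := by
        rintro x ⟨b, hb, hbe⟩
        refine ⟨b⁻¹, inv_mem hb, fun z hz => ?_⟩
        have hy := autFun_mem b⁻¹ hz
        conv_rhs => rw [show z = autFun b (autFun b⁻¹ z) by
          rw [← autFun_mul _ _ hz, mul_inv_cancel, autFun_one hz]]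
        rw [hbe _ hy, autFun_inv_apply x (hPP₁ hy)] }
  set K' := kgrp d P₁ hP₁S ⊔ A with hK'
  have hK'F : K' ≤ F.autGroup P₁ := sup_le (kgrp_le d hP₁S) hAF
  have hAn : A ≤ Subgroup.normalizer ((kgrp d P₁ hP₁S : Subgroup (MulAut P₁)) :
      Set (MulAut P₁)) := hAF.trans (kgrp_normalized d hP₁S)
  have hk₁K' : k₁ ∈ K' := Subgroup.mem_sup_left hk₁
  have hAJ : A ≤ J' := fun a ha => by
    obtain ⟨g, hg, hge⟩ := mem_autInducedBy.1 ha
    exact ⟨_, mem_autInducedBy_of_mem hg (hNn hg).2, fun z hz => by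
      rw [autFun_normalizerMonoidHom _ hz, autFun_of_induced hge (hPP₁ hz)]⟩
  obtain ⟨W, hWp, hWJ, hAW, j, hj, hjW⟩ := exists_adjust (J := J' ⊓ K') hAp
    (le_inf hAJ le_sup_right) (g := k₁) (by
      rintro x ⟨⟨b, hb, hbe⟩, hxK⟩
      refine ⟨⟨k * b * k⁻¹, hnorm b hb, fun z hz => ?_⟩,
        mul_mem (mul_mem hk₁K' hxK) (K'.inv_mem hk₁K')⟩
      have hy := autFun_mem k⁻¹ hz
      have hze : autFun k (autFun k⁻¹ z) = z := by
        rw [← autFun_mul _ _ hz, mul_inv_cancel, autFun_one hz]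
      conv_lhs => rw [← hze, autFun_conj_apply k b hy, hk₁e _ (autFun_mem b hy), hbe _ hy]
      conv_rhs => rw [← hze, hk₁e _ hy, autFun_conj_apply k₁ x (hPP₁ hy)])
  have hCn : centralizerIn S P ≤ Subgroup.normalizer (P₁ : Set Ω) := hCN.trans hNP₁
  have hWA : W ≤ A := by
    intro x hx
    obtain ⟨b, hb, hbe⟩ := (hWJ hx).1
    obtain ⟨n, hn', hne⟩ := mem_autInducedBy.1 hb
    set cn := P₁.normalizerMonoidHom ⟨n, hNP₁ hn'⟩
    have hcn : cn ∈ A := mem_autInducedBy_of_mem hn' _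
    have hf : cn⁻¹ * x ∈ W ⊓ fixers F P P₁ hPP₁ := by
      refine ⟨mul_mem (W.inv_mem (hAW hcn)) hx, mul_mem (inv_mem (hAF hcn))
        (hK'F (hWJ hx).2), fun z hz => ?_⟩
      have h1 : autFun x z = autFun cn z := by
        rw [← hbe z hz, autFun_of_induced hne hz, autFun_normalizerMonoidHom _ (hPP₁ hz)]
      rw [autFun_mul _ _ (hPP₁ hz), h1, autFun_inv_apply cn (hPP₁ hz)]
    have hCfix : autInducedBy (centralizerIn S P) P₁ ≤ W ⊓ fixers F P P₁ hPP₁ := by
      intro a ha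
      refine ⟨hAW (autInducedBy_mono hCN P₁ ha), hAF (autInducedBy_mono hCN P₁ ha),
        fun z hz => ?_⟩
      obtain ⟨c, hc, hce⟩ := mem_autInducedBy.1 ha
      rw [autFun_of_induced hce (hPP₁ hz), ← (mem_centralizerIn.1 hc).2 z hz,
        mul_inv_cancel_right]
    have h2 := fix_group_le d.pG d.sat hfc hPP₁ hP₁S hCn
      (H := W ⊓ fixers F P P₁ hPP₁) (fun z hz => hz.2.1) (hWp.to_le inf_le_left)
      (fun z hz => hz.2.2) hCfix hf
    have := A.mul_mem hcn (autInducedBy_mono hCN P₁ h2)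
    rwa [mul_inv_cancel_left] at this
  obtain ⟨b, hb, hbe⟩ := hj.1
  obtain ⟨nb, hnb, hnbe⟩ := mem_autInducedBy.1 hb
  set σ := P₁.normalizerMonoidHom ⟨nb, hNP₁ hnb⟩
  have hσA : σ ∈ A := mem_autInducedBy_of_mem hnb _
  set k₂ := σ⁻¹ * (j * k₁) with hk₂
  have hk₂e : ∀ x ∈ P, autFun k x = autFun k₂ x := fun x hx => by
    have hkx := autFun_mem k hx
    have h1 : autFun σ (autFun k x) = autFun j (autFun k x) := by
      rw [← hbe _ hkx, autFun_of_induced hnbe hkx, autFun_normalizerMonoidHom _ (hPP₁ hkx)]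
    rw [hk₂, autFun_mul _ _ (hPP₁ hx), autFun_mul _ _ (hPP₁ hx), ← hk₁e x hx, ← h1,
      autFun_inv_apply σ (hPP₁ hkx)]
  obtain ⟨a, n₃, hn₃, hk₃n, hka⟩ := InvExt.exists_coprime_power (p := p) k₂ hko
    (pow_orderOf_eq_one k)
  set k₃ := k₂ ^ a with hk₃
  have hk₃K : InK F E p P₁ k₃ :=
    mem_of_coprime_sup (K := kgrp d P₁ hP₁S) hAn hAp
      (pow_mem (mul_mem (K'.inv_mem (Subgroup.mem_sup_right hσA)) (mul_mem hj.2 hk₁K')) a)
      hn₃ hk₃n
  have hk₃e : ∀ x ∈ P, autFun k x = autFun k₃ x := fun x hx => by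
    rw [← autFun_pow_eqOn hPP₁ hk₂e a x hx, hka]
  have hk₂A : k₂ ∈ Subgroup.normalizer (A : Set (MulAut P₁)) := by
    have hWeq : W = A := le_antisymm hWA hAW
    have h1 : j * k₁ ∈ Subgroup.normalizer (A : Set (MulAut P₁)) := by
      have hsurj : A.map (MulAut.conj (j * k₁)).toMonoidHom = A :=
        Subgroup.eq_of_le_of_card_ge (by
          rintro _ ⟨y, hy, rfl⟩
          exact hWeq.le (hjW y (hAW hy)))
          (Subgroup.card_map_of_injective (MulAut.conj (j * k₁)).injective).ge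
      refine mem_normalizer_of_forall (fun x hx => hWeq.le (hjW x (hAW hx))) fun x hx => ?_
      obtain ⟨y, hy, rfl⟩ := hsurj.ge hx
      simpa [mul_assoc] using hy
    exact Subgroup.mul_mem _ (Subgroup.inv_mem _ (Subgroup.le_normalizer hσA)) h1
  have hk₃A : k₃ ∈ Subgroup.normalizer (A : Set (MulAut P₁)) := pow_mem hk₂A a
  -- the group to extend to
  set N' := N ⊔ P₁ with hN'
  have hN'n : N' ≤ normalizerIn S P := sup_le hNn hP₁n
  have hN'P₁ : N' ≤ normalizerIn S P₁ :=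
    sup_le (fun g hg => ⟨hNS hg, hNP₁ hg⟩) (le_normalizerIn hP₁S)
  have hA' : ∀ x ∈ autInducedBy N' P₁, k₃ * x * k₃⁻¹ ∈ autInducedBy N' P₁ := by
    have h1 : autInducedBy N' P₁ = A ⊔ Inn P₁ := by
      refine le_antisymm (fun x hx => ?_) (sup_le (autInducedBy_mono le_sup_left P₁)
        (inn_eq_autInducedBy P₁ ▸ autInducedBy_mono le_sup_right P₁))
      obtain ⟨g, hg, hge⟩ := mem_autInducedBy.1 hx
      obtain ⟨n', hn', z, hz, rfl⟩ := mem_sup_dest hNP₁ hg
      have h2 : x = P₁.normalizerMonoidHom ⟨n', hNP₁ hn'⟩ *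
          P₁.normalizerMonoidHom ⟨z, Subgroup.le_normalizer hz⟩ := by
        rw [← map_mul]
        exact MulEquiv.ext fun y => Subtype.ext (hge y)
      rw [h2]
      exact mul_mem (Subgroup.mem_sup_left (mem_autInducedBy_of_mem hn' _))
        (Subgroup.mem_sup_right (inn_eq_autInducedBy P₁ ▸ mem_autInducedBy_of_mem hz _))
    rw [h1]
    have : (A ⊔ Inn P₁).map (MulAut.conj k₃).toMonoidHom ≤ A ⊔ Inn P₁ := by
      rw [Subgroup.map_sup]
      refine sup_le_sup ?_ ?_
      · rintro _ ⟨x, hx, rfl⟩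
        exact (Subgroup.mem_normalizer_iff.1 hk₃A x).1 hx
      · rintro _ ⟨_, ⟨y, rfl⟩, rfl⟩
        exact ⟨k₃ y, MulEquiv.ext fun z => by simp⟩
    exact fun x hx => this ⟨x, hx, rfl⟩
  -- move to a fully normalized conjugate
  obtain ⟨Y₀, hY₀, hY₀n⟩ := exists_fullyNormalized F hP₁S
  obtain ⟨h, hh, hhY, -⟩ := exists_map_to_fullyNormalized d.pG d.sat hY₀n hY₀
  have hN'h := hh.res hN'P₁
  have hm := hh.res (le_normalizerIn hP₁S)
  obtain ⟨e, he, -⟩ := exists_mulEquiv hm hhY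
  have hP₁N' : P₁ ≤ N' := le_sup_right
  have hNN' : N ≤ N' := le_sup_left
  have hCh : fimg h (centralizerIn S P) = centralizerIn S (fimg h P) :=
    fimg_centralizerIn d hfc hN'h (hPP₁.trans hP₁N') (hCN.trans hNN')
  set N₀ := fimg h N' with hN₀
  have hY₀N : Y₀ ≤ N₀ := hhY ▸ fimg_mono h hP₁N'
  have hC₀ : centralizerIn S Y₀ ≤ N₀ :=
    le_trans (inf_le_inf_left _ (Subgroup.centralizer_le
      (show ((fimg h P : Subgroup Ω) : Set Ω) ⊆ Y₀ from hhY ▸ fimg_mono h hPP₁)))
      (le_trans hCh.ge (fimg_mono h (hCN.trans hNN')))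
  have hN₀n : N₀ ≤ normalizerIn S Y₀ := hhY ▸ fimg_le fun g hg =>
    hh.map_normalizerIn (le_normalizerIn hP₁S) (hN'P₁ hg) (hN'P₁ hg).2
  have hcard : Nat.card P < Nat.card Y₀ := by
    rw [← hhY, hm.card_fimg]
    exact card_lt_of_lt (lt_bigger d hn hQ hQc)
  obtain ⟨φ, hφK, hφo, hφe⟩ := (hA Y₀ hcard hY₀n).1 (MulAut.congr e k₃) N₀
    (.map hm he hk₃K) (by rw [MulEquiv.orderOf_eq]; exact coprime_of_pow hn₃ hk₃n) hY₀N hC₀
    hN₀n (by
      rw [hN₀, autInducedBy_congr hh (le_normalizerIn hP₁S) hN'P₁ e he fun g hg => (hN'P₁ hg).2]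
      rintro _ ⟨x, hx, rfl⟩
      exact ⟨k₃ * x * k₃⁻¹, hA' x hx, by simp only [MulEquiv.coe_toMonoidHom, map_mul, map_inv]⟩)
  have hN₀S : N₀ ≤ S := hN₀n.trans inf_le_left
  haveI := finite_of_le hN₀S
  have hφm := InK.isMap d hφK
  have hφh : ∀ x ∈ P, autFun φ (h x) = h (autFun k x) := fun x hx => by
    rw [hφe _ (hhY ▸ apply_mem_fimg h (hPP₁ hx)), autFun_congr e he k₃ (hPP₁ hx), hk₃e x hx]
  have hPN' : P ≤ N' := hPP₁.trans hP₁N'
  have hhP_le : fimg h P ≤ N₀ := fimg_mono h hPN'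
  have hfP : fimg (autFun φ) (fimg h P) = fimg h P := by
    rw [← (hN'h.res hPN').fimg_comp]
    refine le_antisymm (fimg_le fun x hx => hφh x hx ▸ apply_mem_fimg h (autFun_mem k hx))
      (fimg_le fun x hx => ?_)
    have hy := autFun_mem k⁻¹ hx
    rw [show h x = autFun φ (h (autFun k⁻¹ x)) by
      rw [hφh _ hy, ← autFun_mul _ _ hx, mul_inv_cancel, autFun_one hx]]
    exact apply_mem_fimg (fun z => autFun φ (h z)) hy
  have hst : ∀ z ∈ fimg h N, autFun φ z ∈ fimg h N := by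
    intro z hz
    obtain ⟨n, hn', rfl⟩ := (hN'h.res hNN').mem_fimg_iff.1 hz
    obtain ⟨n', hn'', hne⟩ := mem_autInducedBy.1
      (hnorm _ (mem_autInducedBy_of_mem hn' (hNn hn').2))
    have hkm := InK.isMap d hk
    have key : ∀ x ∈ P, autFun k (n * x * n⁻¹) = n' * autFun k x * n'⁻¹ := fun x hx => by
      rw [← autFun_of_induced hne (autFun_mem k hx), autFun_conj_apply k _ hx,
        autFun_normalizerMonoidHom _ hx]
    obtain ⟨k', hk'e⟩ : ∃ k' : MulAut ↥(fimg h P), ∀ y ∈ fimg h P, autFun φ y = autFun k' y := by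
      haveI := finite_of_le (hhP_le.trans hN₀S)
      obtain ⟨k', -, hk'⟩ := (hφm.res hhP_le).exists_aut hfP
      exact ⟨k', fun y hy => (hk' y hy).symm⟩
    have hnP : n ∈ Subgroup.normalizer (P : Set Ω) := (hNn hn').2
    have := mul_inv_mem_centralizer d hhP_le hφm hfP (apply_mem_fimg h (hNN' hn'))
      (hN'h.map_normalizerIn hPN' (hNN' hn') hnP).2 (hN'h.apply_mem (hNN' hn''))
      hk'e fun y hy => by
        obtain ⟨x, hx, rfl⟩ := (hN'h.res hPN').mem_fimg_iff.1 hy
        have hx' := (Subgroup.mem_normalizer_iff.1 hnP x).1 hx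
        rw [← hN'h.map_conj (hNN' hn') (hPN' hx), ← hk'e _ (apply_mem_fimg h hx'),
          ← hk'e _ (apply_mem_fimg h hx), hφh _ hx', hφh x hx, key x hx]
        exact hN'h.map_conj (hNN' hn'') (hPN' (autFun_mem k hx))
    rw [show autFun φ (h n) = h n' * ((h n')⁻¹ * autFun φ (h n)) by group]
    exact Subgroup.mul_mem _ (apply_mem_fimg h hn'') (fimg_mono h hCN (hCh.ge this))
  have hhN : fimg h N ≤ N₀ := fimg_mono h hNN'
  haveI := finite_of_le (hhN.trans hN₀S)
  obtain ⟨φ', hφ', hφ'e⟩ := (hφm.res hhN).exists_aut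
    (Subgroup.eq_of_le_of_card_ge (fimg_le hst) (hφm.res hhN).card_fimg.ge)
  obtain ⟨h', hh', hh1, -, hh'N⟩ := (hN'h.res hNN').exists_inv
  obtain ⟨e', he', -⟩ := exists_mulEquiv hh' hh'N
  refine ⟨MulAut.congr e' φ', .map hh' he' (.res hhN hφK hφ'e), ?_, fun x hx => ?_⟩
  · rw [MulEquiv.orderOf_eq]
    exact coprime_of_pow hφo (mulAut_ext fun y hy => by
      rw [autFun_pow_eqOn hhN hφ'e _ y hy, pow_orderOf_eq_one, autFun_one (hhN hy),
        autFun_one hy])
  · have hy : h x ∈ fimg h N := apply_mem_fimg h (hPN hx)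
    conv_lhs => rw [← hh1 x (hPN hx)]
    rw [autFun_congr e' he' φ' hy, hφ'e _ hy, hφh x hx, hh1 _ (hPN (autFun_mem k hx))]

/-- Transport of the extension to every fully normalized subgroup. -/
theorem bProp {P : Subgroup Ω} (hn : F.IsFullyNormalized P) (hA : Above F E p (Nat.card P)) :
    BProp F E p P := by
  have hPS := hn.1
  haveI := finite_of_le hPS
  obtain ⟨Q₀, hQ₀, hQ₀n⟩ := exists_fullyNormalized F (inf_le_left.trans hPS : P ⊓ U ≤ S)
  obtain ⟨h, hh, hhQ, -⟩ := exists_map_to_fullyNormalized d.pG d.sat hQ₀n hQ₀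
  have hle : normalizerIn S P ≤ normalizerIn S (P ⊓ U) := fun g hg => ⟨hg.1,
    mem_normalizer_of_forall
      (fun x hx => ⟨(Subgroup.mem_normalizer_iff.1 hg.2 x).1 hx.1,
        StronglyClosed.conj_mem' d.scU hg.1 hx.2⟩)
      fun x hx => ⟨(Subgroup.mem_normalizer_iff''.1 hg.2 x).1 hx.1, by
        simpa using StronglyClosed.conj_mem' d.scU (S.inv_mem hg.1) hx.2⟩⟩
  have hM := hh.res hle
  have hPM := le_normalizerIn (S := S) hPS
  have hm := hM.res hPM
  set P' := fimg h P with hP'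
  have hP'n : F.IsFullyNormalized P' := by
    refine ⟨hm.fimg_le_S, fun Q hQ => ((hn.2 Q (isConj_trans hm.isConj hQ)).trans ?_)⟩
    rw [← hM.card_fimg]
    haveI : Finite ↥(normalizerIn S P') := finite_of_le (S := S) inf_le_left
    exact Subgroup.card_le_of_le (fimg_le fun g hg => hM.map_normalizerIn hPM hg hg.2)
  have hQ' : P' ⊓ U = Q₀ := by rw [← InvClass.fimg_inf d.scU hm, hhQ]
  have hcard : Nat.card P' = Nat.card P := hm.card_fimg
  have hB' : BProp F E p P' := by
    by_cases hc : E.IsCentric (P' ⊓ U)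
    · exact bProp_centric d hP'n (hQ'.symm ▸ hQ₀n) hc
    · exact bProp_notCentric d hP'n (hQ'.symm ▸ hQ₀n) hc (by rwa [hcard])
  intro k N hk hko hPN hCN hNn hnorm
  have hNh := hM.res hNn
  obtain ⟨e, he, -⟩ := exists_mulEquiv hm hP'.symm
  have hfc := fullyCentralized_of_fullyNormalized d.pG d.sat hn
  have hC := fimg_centralizerIn d hfc hNh hPN hCN
  obtain ⟨φ, hφK, hφo, hφe⟩ := hB' (MulAut.congr e k) (fimg h N) (.map hm he hk)
    (by rw [MulEquiv.orderOf_eq]; exact hko) (fimg_mono h hPN)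
    (hC ▸ fimg_mono h hCN)
    (fimg_le fun g hg => hM.map_normalizerIn hPM (hNn hg) (hNn hg).2) (by
      rw [autInducedBy_congr hM hPM hNn e he fun g hg => (hNn hg).2]
      rintro _ ⟨x, hx, rfl⟩
      exact ⟨k * x * k⁻¹, hnorm x hx, by simp only [MulEquiv.coe_toMonoidHom, map_mul, map_inv]⟩)
  obtain ⟨h', hh', hh1, -, hh'N⟩ := hNh.exists_inv
  obtain ⟨e', he', -⟩ := exists_mulEquiv hh' hh'N
  refine ⟨MulAut.congr e' φ, .map hh' he' hφK, by rw [MulEquiv.orderOf_eq]; exact hφo,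
    fun x hx => ?_⟩
  conv_lhs => rw [← hh1 x (hPN hx)]
  rw [autFun_congr e' he' φ (apply_mem_fimg h (hPN hx)), hφe _ (apply_mem_fimg h hx),
    autFun_congr e he k hx, hh1 _ (hPN (autFun_mem k hx))]

/-- The generators of order prime to `p` and the transported conjugations from `U`. -/
def Gn (F : FusionSystem S) (E : FusionSystem U) (p : ℕ) (P : Subgroup Ω) : Set (MulAut P) :=
  {β | InK F E p P β ∧ ((orderOf β).Coprime p ∨
    ∃ (R : Subgroup Ω) (v : Ω → Ω) (u : Ω), u ∈ U ∧ IsMap F R v ∧ fimg v R = P ∧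
      u ∈ Subgroup.normalizer (R : Set Ω) ∧
      ∀ x ∈ R, autFun β (v x) = v (u * x * u⁻¹))}

theorem gn_map {P P' : Subgroup Ω} {v : Ω → Ω} {e : P ≃* P'} (hv : IsMap F P v)
    (he : ∀ x : P, (e x : Ω) = v x) {β : MulAut P} (h : β ∈ Gn F E p P) :
    MulAut.congr e β ∈ Gn F E p P' := by
  refine ⟨.map hv he h.1, ?_⟩
  rcases h.2 with ho | ⟨R, w, u, hu, hw, hwP, hun, hb⟩
  · exact Or.inl (by rwa [MulEquiv.orderOf_eq])
  · refine Or.inr ⟨R, fun x => v (w x), u, hu, hw.comp hv fun x hx => hwP ▸ apply_mem_fimg w hx,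
      by rw [hw.fimg_comp, hwP, InK.fimg_eq d hv he], hun, fun x hx => ?_⟩
    rw [autFun_congr e he β (hwP ▸ apply_mem_fimg w hx), hb x hx]

/-- Everything is generated by the elements of order prime to `p` and conjugations from `U`. -/
theorem gen_closure {n : ℕ} (hA : Above F E p n) {R : Subgroup Ω} {β : MulAut R}
    (h : InK F E p R β) : n ≤ Nat.card R → β ∈ Subgroup.closure (Gn F E p R) := by
  induction h with
  | @base P β hP hc hβ ho ht hi =>
    exact fun _ => Subgroup.subset_closure ⟨.base hP hc hβ ho ht hi, Or.inl ho⟩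
  | @conj P β u hP hu hb =>
    exact fun _ => Subgroup.subset_closure ⟨.conj hP hu hb, Or.inr ⟨P, fun x => x, u, hu,
      isMap_id F hP, fimg_id P, mem_normalizer_of_conj_aut
        (fun x => (autFun_coe β x).symm.trans (hb x x.2)), hb⟩⟩
  | mul _ _ iha ihb => exact fun hn => Subgroup.mul_mem _ (iha hn) (ihb hn)
  | @map P P' v e a hv he _ ih =>
    intro hn
    have h2 : Subgroup.closure (Gn F E p P) ≤
        (Subgroup.closure (Gn F E p P')).comap (MulAut.congr e).toMonoidHom :=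
      (Subgroup.closure_le _).2 fun b hb => Subgroup.subset_closure (gn_map d hv he hb)
    exact h2 (ih (by rwa [Nat.card_congr e.toEquiv]))
  | @res Y R a b hR ha hb ih =>
    intro hn
    have hYS := InK.source_le d ha
    haveI := finite_of_le hYS
    rcases hR.eq_or_lt with rfl | hlt
    · rw [show b = a from mulAut_ext hb]
      exact ih hn
    obtain ⟨i, j, hi, ⟨l, hl⟩, hij⟩ := exists_primary_split p a
    have hpow : ∀ m, ∀ x ∈ R, autFun (b ^ m) x = autFun (a ^ m) x := autFun_pow_eqOn hR hb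
    rw [show b = b ^ i * b ^ j from mulAut_ext fun x hx => by
      rw [autFun_mul _ _ hx, hpow i _ (autFun_mem _ hx), hpow j x hx, hb x hx,
        ← autFun_mul _ _ (hR hx), ← hij]]
    refine Subgroup.mul_mem _ (Subgroup.subset_closure ⟨.res hR (InK.pow' d ha i) (hpow i),
      Or.inl (coprime_of_pow hi (mulAut_ext fun x hx => by
        rw [autFun_pow_eqOn hR (hpow i) _ x hx, pow_orderOf_eq_one, autFun_one (hR hx),
          autFun_one hx]))⟩) ?_
    have hbK : InK F E p R (b ^ j) := .res hR (InK.pow' d ha j) (hpow j)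
    obtain ⟨Y₀, w, u, hu, hw, hwY, hwa⟩ := exists_conj_type d hA
      (hn.trans_lt (card_lt_of_lt hlt)) (InK.pow' d ha j) (i := l) hl
    have hwR := hw.res hR
    obtain ⟨eR, heR, -⟩ := exists_mulEquiv hwR rfl
    obtain ⟨w', hw', hw1, hw2, hw'R⟩ := hwR.exists_inv
    refine Subgroup.subset_closure ⟨hbK, Or.inr ⟨fimg w R, w', u, hu, hw', hw'R,
      mem_normalizer_of_conj_aut (α := MulAut.congr eR (b ^ j)) fun z => ?_, fun z hz => ?_⟩⟩
    · obtain ⟨x, rfl⟩ := eR.surjective z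
      rw [← autFun_coe, heR, autFun_congr eR heR _ x.2, hpow j x x.2]
      exact hwa x (hR x.2)
    · obtain ⟨x, hx, rfl⟩ := hwR.mem_fimg_iff.1 hz
      rw [hw1 x hx, ← hwa x (hR hx), ← hpow j x hx, hw1 _ (autFun_mem _ hx)]

set_option maxHeartbeats 1000000 in
/-- Of the conjugations from `S` only those from `U` come from the subsystem. -/
theorem cProp {P : Subgroup Ω} (hn : F.IsFullyNormalized P) (hA : Above F E p (Nat.card P))
    (hB : BProp F E p P) : CProp F E p P := by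
  have hPS := hn.1
  haveI := finite_of_le hPS
  have hfc := fullyCentralized_of_fullyNormalized d.pG d.sat hn
  set G := F.autGroup P
  set L := kgrp d P hPS with hL
  set A := autInducedBy U P with hAdef
  have hLG : L ≤ G := kgrp_le d hPS
  have hAL : A ≤ L := fun a ha => by
    obtain ⟨u, hu, hue⟩ := mem_autInducedBy.1 ha
    exact .conj hPS hu fun x hx => autFun_of_induced hue hx
  have hAS : A ≤ autInducedBy S P := autInducedBy_mono d.le_S P
  have hsy : IsSylowOf p (autInducedBy S P ⊓ L) L := by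
    obtain ⟨-, W, hW⟩ := fullyAutomized_of_fullyNormalized d.pG d.sat hn
    refine IsSylowOf.of_card_le inf_le_right ((isPGroup_autInducedBy d.pG P).to_le inf_le_left)
      fun B hB hBp hle => ?_
    obtain ⟨c, hc, hcle⟩ := IsSylowOf.exists_conj_le
      (⟨autInducedBy_le_autGroup F hPS, W, hW⟩ : IsSylowOf p (autInducedBy S P) G)
      hBp (hB.trans hLG)
    have h2 : B.map (MulAut.conj c).toMonoidHom ≤ autInducedBy S P ⊓ L := by
      refine le_inf hcle ?_
      rintro _ ⟨z, hz, rfl⟩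
      exact InK.conj_mem d hc (hB hz)
    refine (Subgroup.eq_of_le_of_card_ge hle ?_).ge
    rw [← Subgroup.card_map_of_injective (K := B) (f := (MulAut.conj c).toMonoidHom)
      (MulAut.conj c).injective]
    exact Subgroup.card_le_of_le h2
  obtain ⟨-, X, hX⟩ := id hsy
  have hXm : ∀ z : L, z ∈ (X : Subgroup L) ↔ (z : MulAut P) ∈ autInducedBy S P := fun z => by
    rw [hX]
    exact ⟨fun h => h.1, fun h => ⟨h, z.2⟩⟩
  -- the hyperfocal subgroup of the Sylow subgroup
  have hle : (groupFusionSystem (X : Subgroup L)).hyperfocalSubgroup p ≤ A.subgroupOf L := by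
    refine hyperfocal_le_iff.2 fun Q hQ α hα x hx => ?_
    have hAn : ∀ q ∈ Q, ∀ a ∈ A.subgroupOf L, q * a * q⁻¹ ∈ A.subgroupOf L := fun q hq a ha =>
      inn_closed d hfc (hLG q.2) ha
        (mul_mem (mul_mem ((hXm q).1 (hQ hq)) (hAS ha)) (inv_mem ((hXm q).1 (hQ hq))))
    let C : Subgroup ((groupFusionSystem (X : Subgroup L)).autGroup Q) :=
      { carrier := {β | ∀ y ∈ Q, y⁻¹ * autFun (β : MulAut Q) y ∈ A.subgroupOf L}
        mul_mem' := by
          intro β δ hβ hδ y hy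
          rw [Subgroup.coe_mul, autFun_mul _ _ hy,
            show y⁻¹ * autFun (β : MulAut Q) (autFun (δ : MulAut Q) y) =
              y⁻¹ * autFun (δ : MulAut Q) y * ((autFun (δ : MulAut Q) y)⁻¹ *
                autFun (β : MulAut Q) (autFun (δ : MulAut Q) y)) by group]
          exact mul_mem (hδ y hy) (hβ _ (autFun_mem _ hy))
        one_mem' := fun y hy => by
          rw [Subgroup.coe_one, autFun_one hy, inv_mul_cancel]
          exact one_mem _
        inv_mem' := by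
          intro β hβ y hy
          have h1 := inv_mem (hβ _ (autFun_mem ((β : MulAut Q)⁻¹) hy))
          rw [← autFun_mul _ _ hy, mul_inv_cancel, autFun_one hy, mul_inv_rev, inv_inv] at h1
          exact h1 }
    suffices hC : pResidual p _ ≤ C from hC hα x hx
    rw [pResidual, Subgroup.closure_le]
    intro β hβ y hy
    have hQX : Q ≤ (X : Subgroup L) := hQ
    have hβ' : (β : MulAut Q) ∈ autInducedBy ⊤ Q := by
      have h := β.2
      generalize (β : MulAut Q) = b at h ⊢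
      rwa [groupFusionSystem_eq, autGroup_ofSubgroup hQX] at h
    obtain ⟨g₀, -, hg₀⟩ := mem_autInducedBy.1 hβ'
    have hg₀n : g₀ ∈ Subgroup.normalizer (Q : Set L) := mem_normalizer_of_conj_aut hg₀
    obtain ⟨i, n, hn', hgn, hβk⟩ := InvExt.exists_coprime_power (p := p) g₀ hβ
      (pow_orderOf_eq_one β)
    set g := g₀ ^ i with hg
    have hgn' : g ∈ Subgroup.normalizer (Q : Set L) := pow_mem hg₀n i
    have hgy : autFun (β : MulAut Q) y = g * y * g⁻¹ := by
      have h1 : (β : MulAut Q) = Q.normalizerMonoidHom ⟨g, hgn'⟩ := by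
        rw [show (⟨g, hgn'⟩ : Subgroup.normalizer (Q : Set L)) = ⟨g₀, hg₀n⟩ ^ i from rfl, map_pow,
          ← hβk, Subgroup.coe_pow]
        congr 1
        exact MulEquiv.ext fun z => Subtype.ext (hg₀ z)
      rw [h1]
      exact autFun_coe _ ⟨y, hy⟩
    -- extend `g` over the preimage of `Q`
    set Qi := Q.map L.subtype ⊔ Inn P with hQi
    have hQiS : Qi ≤ autInducedBy S P := sup_le (by
      rintro _ ⟨z, hz, rfl⟩
      exact (hXm z).1 (hQX hz)) (inn_eq_autInducedBy P ▸ autInducedBy_mono hPS P)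
    have hQig : ∀ c ∈ Qi, (g : MulAut P) * c * (g : MulAut P)⁻¹ ∈ Qi := by
      have : Qi.map (MulAut.conj (g : MulAut P)).toMonoidHom ≤ Qi := by
        rw [hQi, Subgroup.map_sup]
        refine sup_le_sup ?_ ?_
        · rintro _ ⟨_, ⟨z, hz, rfl⟩, rfl⟩
          exact ⟨g * z * g⁻¹, (Subgroup.mem_normalizer_iff.1 hgn' z).1 hz, rfl⟩
        · rintro _ ⟨_, ⟨z, rfl⟩, rfl⟩
          exact ⟨(g : MulAut P) z, MulEquiv.ext fun w => by simp⟩
      exact fun c hc => this ⟨c, hc, rfl⟩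
    set N := preM S P Qi
    have hPN : P ≤ N := preM_ge hPS Subgroup.le_normalizer
      (inn_eq_autInducedBy P ▸ le_sup_right)
    obtain ⟨φ, hφK, -, hφe⟩ := hB (g : MulAut P) N g.2
      (coprime_of_pow hn' (by rw [← SubmonoidClass.coe_pow, hgn]; rfl)) hPN centralizerIn_le_preM
      (preM_le_normalizerIn _) (by rw [autInducedBy_preM (S := S) hQiS]; exact hQig)
    obtain ⟨nq, hnq, hnqe⟩ := mem_autInducedBy.1 ((hXm y).1 (hQX hy))
    have hnqN : nq ∈ N :=
      ⟨hnq, _, Subgroup.mem_sup_left ⟨y, hy, rfl⟩, hnqe⟩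
    have hφm := InK.isMap d hφK
    refine Subgroup.mem_subgroupOf.2 (autInducedBy_of_autFun (g := nq⁻¹ * autFun φ nq)
      (InK.trivMod d hφK nq hnqN) fun z hz => ?_)
    rw [hgy]
    show autFun ((y : MulAut P)⁻¹ * ((g : MulAut P) * (y : MulAut P) * (g : MulAut P)⁻¹)) z = _
    have hz' := autFun_mem (g : MulAut P)⁻¹ hz
    have hze : autFun (g : MulAut P) (autFun (g : MulAut P)⁻¹ z) = z := by
      rw [← autFun_mul _ _ hz, mul_inv_cancel, autFun_one hz]
    have hmid : autFun ((g : MulAut P) * (y : MulAut P) * (g : MulAut P)⁻¹) z =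
        autFun φ nq * z * (autFun φ nq)⁻¹ := by
      conv_lhs => rw [← hze]
      rw [autFun_conj_apply _ _ hz', autFun_of_induced hnqe hz']
      conv_rhs => rw [← hze]
      rw [← hφe _ hz', ← hφe _ ((Subgroup.mem_normalizer_iff.1
        (preM_le_normalizerIn _ hnqN).2 _).1 hz')]
      exact hφm.map_conj hnqN (hPN hz')
    have hmidP : autFun φ nq * z * (autFun φ nq)⁻¹ ∈ P := hmid ▸ autFun_mem _ hz
    have hinv : ∀ w ∈ P, autFun (y : MulAut P)⁻¹ w = nq⁻¹ * w * nq := fun w hw => by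
      have h1 : autFun (y : MulAut P) (nq⁻¹ * w * nq) = w := by
        rw [autFun_of_induced hnqe ((Subgroup.mem_normalizer_iff''.1
          (preM_le_normalizerIn _ hnqN).2 w).1 hw)]
        group
      conv_lhs => rw [← h1, autFun_inv_apply _ ((Subgroup.mem_normalizer_iff''.1
        (preM_le_normalizerIn _ hnqN).2 w).1 hw)]
    rw [autFun_mul _ _ hz, hmid, hinv _ hmidP]
    group
  rw [hyperfocal_group] at hle
  set K₀ := (pResidual p L).map L.subtype with hK₀
  have hK₀A : ∀ x ∈ K₀, x ∈ autInducedBy S P → x ∈ A := by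
    rintro _ ⟨z, hz, rfl⟩ hx
    exact hle ⟨(hXm z).2 hx, hz⟩
  haveI : (pResidual p L).Normal := Transfer.instNormalPResidual p
  have hK₀L : K₀ ≤ L := Subgroup.map_subtype_le _
  have hLn : L ≤ Subgroup.normalizer (K₀ : Set (MulAut P)) := by
    intro l hl
    refine mem_normalizer_of_forall ?_ ?_
    · rintro _ ⟨z, hz, rfl⟩
      exact ⟨⟨l, hl⟩ * z * ⟨l, hl⟩⁻¹, Subgroup.Normal.conj_mem inferInstance z hz _, rfl⟩
    · rintro _ ⟨z, hz, rfl⟩
      exact ⟨⟨l, hl⟩⁻¹ * z * ⟨l, hl⟩, by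
        simpa using Subgroup.Normal.conj_mem inferInstance z hz (⟨l, hl⟩⁻¹ : L), rfl⟩
  have hcop : ∀ β ∈ L, (orderOf β).Coprime p → β ∈ K₀ := fun β hβ ho =>
    ⟨⟨β, hβ⟩, Transfer.mem_pResidual_of_coprime
      (by rw [← orderOf_injective L.subtype L.subtype_injective]; exact ho), rfl⟩
  -- conjugates of the conjugations from `U`
  have hnc : ∀ γ ∈ G, ∀ a ∈ A, γ * a * γ⁻¹ ∈ K₀ ⊔ A := by
    intro γ hγ a ha
    let LG : Subgroup G := L.subgroupOf G
    haveI : LG.Normal := ⟨fun l hl g => InK.conj_mem d g.2 hl⟩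
    obtain ⟨-, W, hW⟩ := fullyAutomized_of_fullyNormalized d.pG d.sat hn
    obtain ⟨hYL, Y, hY⟩ := isSylowOf_inf_normal W LG
    have hYG : ((Y : Subgroup LG).map LG.subtype) = (W : Subgroup G) ⊓ LG := by
      rw [hY, Subgroup.map_subgroupOf_eq_of_le hYL]
    have hfr := Sylow.normalizer_sup_eq_top Y
    rw [hYG] at hfr
    obtain ⟨ν, hν, l, hl, hνl⟩ := (Subgroup.mem_sup_of_normal_right (t := LG)).1
      (show (⟨γ, hγ⟩ : G) ∈ _ from hfr.ge (Subgroup.mem_top _))
    have htop := Transfer.sylow_sup_pResidual X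
    obtain ⟨x, hx, k₀, hk₀, hxk⟩ := (Subgroup.mem_sup_of_normal_right
      (t := pResidual p L)).1 (htop.ge (Subgroup.mem_top (⟨l, hl⟩ : L)))
    have hxS : (x : MulAut P) ∈ autInducedBy S P := (hXm x).1 hx
    have hxa : (x : MulAut P) * a * (x : MulAut P)⁻¹ ∈ A :=
      inn_closed d hfc (hLG x.2) ha (mul_mem (mul_mem hxS (hAS ha)) (inv_mem hxS))
    have hka : (k₀ : MulAut P) * a * (k₀ : MulAut P)⁻¹ * a⁻¹ ∈ K₀ := by
      rw [show (k₀ : MulAut P) * a * (k₀ : MulAut P)⁻¹ * a⁻¹ =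
        (k₀ : MulAut P) * (a * (k₀ : MulAut P)⁻¹ * a⁻¹) by group]
      exact mul_mem ⟨k₀, hk₀, rfl⟩ ((Subgroup.mem_normalizer_iff.1 (hLn (hAL ha)) _).1
        (inv_mem ⟨k₀, hk₀, rfl⟩))
    have hνA : ∀ b ∈ A, (ν : MulAut P) * b * (ν : MulAut P)⁻¹ ∈ A := fun b hb => by
      refine inn_closed d hfc ν.2 hb ?_
      have := ((Subgroup.mem_normalizer_iff.1 hν ⟨b, hLG (hAL hb)⟩).1
        ⟨by rw [SetLike.mem_coe, hW]; exact hAS hb, hAL hb⟩).1
      rw [SetLike.mem_coe, hW] at this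
      exact this
    have hνK : ∀ b ∈ K₀, (ν : MulAut P) * b * (ν : MulAut P)⁻¹ ∈ K₀ := by
      have : K₀.map (MulAut.conj (ν : MulAut P)).toMonoidHom ≤ K₀ := by
        rw [hK₀, pResidual, MonoidHom.map_closure, MonoidHom.map_closure]
        refine (Subgroup.closure_le _).2 ?_
        rintro _ ⟨_, ⟨z, hz, rfl⟩, rfl⟩
        refine Subgroup.subset_closure ⟨⟨_, InK.conj_mem d ν.2 z.2⟩, ?_, rfl⟩
        show (orderOf (⟨_, InK.conj_mem d ν.2 z.2⟩ : L)).Coprime p
        rw [← orderOf_injective L.subtype L.subtype_injective]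
        show (orderOf (MulAut.conj (ν : MulAut P) (z : MulAut P))).Coprime p
        rw [MulEquiv.orderOf_eq, show orderOf (z : MulAut P) = orderOf z from
          orderOf_injective L.subtype L.subtype_injective z]
        exact hz
      exact fun b hb => this ⟨b, hb, rfl⟩
    have hγe : γ = (ν : MulAut P) * ((x : MulAut P) * (k₀ : MulAut P)) := by
      have h1 : (l : MulAut P) = (x : MulAut P) * (k₀ : MulAut P) :=
        (congrArg Subtype.val hxk).symm
      rw [← h1]
      exact (congrArg Subtype.val hνl).symm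
    rw [hγe, show (ν : MulAut P) * ((x : MulAut P) * k₀) * a *
        ((ν : MulAut P) * ((x : MulAut P) * k₀))⁻¹ =
      ((ν : MulAut P) * ((x : MulAut P) * ((k₀ : MulAut P) * a * (k₀ : MulAut P)⁻¹ * a⁻¹) *
        (x : MulAut P)⁻¹) * (ν : MulAut P)⁻¹) *
      ((ν : MulAut P) * ((x : MulAut P) * a * (x : MulAut P)⁻¹) * (ν : MulAut P)⁻¹) by group]
    exact Subgroup.mul_mem_sup
      (hνK _ ((Subgroup.mem_normalizer_iff.1 (hLn x.2) _).1 hka)) (hνA _ hxa)
  intro k hk hkS
  have hgen : k ∈ K₀ ⊔ A := by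
    refine (Subgroup.closure_le _).2 ?_ (gen_closure d hA hk le_rfl)
    rintro β ⟨hβ, ho | ⟨R, v, u, hu, hv, hvP, hun, hb⟩⟩
    · exact Subgroup.mem_sup_left (hcop β hβ ho)
    have hRS := hv.source_le
    obtain ⟨h, hh, hhR, -⟩ := exists_map_to_fullyNormalized d.pG d.sat hn (hvP ▸ hv.isConj)
    have huN : u ∈ normalizerIn S R := ⟨d.le_S hu, hun⟩
    have hhu : h u ∈ U := StronglyClosed.apply_mem d.scU (hh.res inf_le_right)
      (inf_le_left : U ⊓ normalizerIn S R ≤ U) ⟨hu, huN⟩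
    have hhn : h u ∈ Subgroup.normalizer (P : Set Ω) :=
      (hhR ▸ hh.map_normalizerIn (le_normalizerIn hRS) huN hun : h u ∈ normalizerIn S P).2
    have hm := hh.res (le_normalizerIn hRS)
    obtain ⟨h', hh', hh1, -, -⟩ := hm.exists_inv
    rw [hhR] at hh'
    obtain ⟨ρ, hρ, hρe⟩ := (hh'.comp hv fun y hy => by
        obtain ⟨x, hx, rfl⟩ := hm.mem_fimg_iff.1 (hhR.ge hy)
        rw [hh1 x hx]
        exact hx).exists_aut (by
      refine le_antisymm (fimg_le fun y hy => ?_) fun z hz => ?_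
      · obtain ⟨x, hx, rfl⟩ := hm.mem_fimg_iff.1 (hhR.ge hy)
        show v (h' (h x)) ∈ P
        rw [hh1 x hx]
        exact hvP ▸ apply_mem_fimg v hx
      · obtain ⟨x, hx, rfl⟩ := hv.mem_fimg_iff.1 (hvP.ge hz)
        rw [← hh1 x hx]
        exact apply_mem_fimg (fun z => v (h' z)) (hhR ▸ apply_mem_fimg h hx))
    have := hnc ρ hρ _ (mem_autInducedBy_of_mem hhu hhn)
    suffices hβe : β = ρ * P.normalizerMonoidHom ⟨h u, hhn⟩ * ρ⁻¹ by rw [hβe]; exact this
    refine mulAut_ext fun z hz => ?_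
    obtain ⟨x, hx, rfl⟩ := hv.mem_fimg_iff.1 (hvP.ge hz)
    have hρx : autFun ρ (h x) = v x := by
      rw [hρe _ (hhR ▸ apply_mem_fimg h hx), hh1 x hx]
    have hx' := (Subgroup.mem_normalizer_iff.1 hun x).1 hx
    rw [hb x hx, ← hρx, autFun_conj_apply ρ _ (hhR ▸ apply_mem_fimg h hx),
      autFun_normalizerMonoidHom _ (hhR ▸ apply_mem_fimg h hx),
      ← hh.map_conj huN (le_normalizerIn hRS hx), hρe _ (hhR ▸ apply_mem_fimg h hx'), hh1 _ hx']
  obtain ⟨k₀, hk₀, a, ha, rfl⟩ := (mem_sup_normalized (hAL.trans hLn)).1 hgen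
  have := hK₀A k₀ hk₀ (by simpa using mul_mem hkS (inv_mem (hAS ha)))
  exact A.mul_mem this ha

/-- Extension and the trace at every fully normalized subgroup. -/
theorem main (P : Subgroup Ω) (hn : F.IsFullyNormalized P) :
    BProp F E p P ∧ CProp F E p P := by
  induction hk : Nat.card S - Nat.card P using Nat.strong_induction_on generalizing P with
  | _ N ih =>
  have hA : Above F E p (Nat.card P) := fun Y hlt hY => ih _ (by
    have := Subgroup.card_le_of_le hY.1
    omega) Y hY rfl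
  have hB := bProp d hn hA
  exact ⟨hB, cProp d hn hA hB⟩

end Cfsg.Agent.Fus.Ker
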