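import Mathlib
import Cfsg.Agent.Lib.Fus.KerExtend
import Cfsg.Agent.Lib.Fus.PPrimeResidual
import Cfsg.Agent.Lib.Fus.ResidualNormal

/-!
A normal subsystem gives a normal subsystem of the centralizer system of a fully centralized
subgroup, over the trace of its support and inside it.
-/

set_option autoImplicit false
set_option linter.style.haveILetI false
set_option linter.unusedSectionVars false
set_option linter.unusedVariables false

open scoped Classical

universe u

namespace Cfsg.Agent.Fus.Ker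

open Subgroup FusionSystem InvMap

variable {Ω : Type u} [Group Ω] {S U : Subgroup Ω}

/-- The automorphisms of `R` coming from the subsystem on `R X` fixing `X`. -/
def fam (F : FusionSystem S) (E : FusionSystem U) (p : ℕ) (X R : Subgroup Ω) :
    Subgroup (MulAut R) :=
  Subgroup.closure {α | ∃ k : MulAut ↥(R ⊔ X), InK F E p (R ⊔ X) k ∧
    (∀ x ∈ X, autFun k x = x) ∧ ∀ x ∈ R, autFun α x = autFun k x}

variable {F : FusionSystem S} {E : FusionSystem U} {p : ℕ} [Finite S] [Fact p.Prime]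
  (d : Data F p E) {X : Subgroup Ω}
include d

theorem mem_fam {R : Subgroup Ω} (hRX : R ⊔ X ≤ S) {α : MulAut R} :
    α ∈ fam F E p X R ↔ ∃ k : MulAut ↥(R ⊔ X), InK F E p (R ⊔ X) k ∧
      (∀ x ∈ X, autFun k x = x) ∧ ∀ x ∈ R, autFun α x = autFun k x := by
  refine ⟨fun h => ?_, fun h => Subgroup.subset_closure h⟩
  induction h using Subgroup.closure_induction with
  | mem a ha => exact ha
  | one =>
    exact ⟨1, InK.one d hRX, fun x hx => autFun_one (Subgroup.mem_sup_right hx),
      fun x hx => by rw [autFun_one hx, autFun_one (Subgroup.mem_sup_left hx : x ∈ R ⊔ X)]⟩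
  | mul a b _ _ iha ihb =>
    obtain ⟨k, hk, hkX, hke⟩ := iha
    obtain ⟨l, hl, hlX, hle⟩ := ihb
    refine ⟨k * l, .mul hk hl, fun x hx => ?_, fun x hx => ?_⟩
    · rw [autFun_mul _ _ (Subgroup.mem_sup_right hx : x ∈ R ⊔ X), hlX x hx, hkX x hx]
    · rw [autFun_mul _ _ hx, autFun_mul _ _ (Subgroup.mem_sup_left hx : x ∈ R ⊔ X), ← hle x hx,
        hke _ (autFun_mem b hx)]
  | inv a _ iha =>
    obtain ⟨k, hk, hkX, hke⟩ := iha
    refine ⟨k⁻¹, InK.inv d hk, fun x hx => ?_, fun x hx => ?_⟩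
    · conv_lhs => rw [← hkX x hx]
      exact autFun_inv_apply k (Subgroup.mem_sup_right hx)
    · have hy := autFun_mem a⁻¹ hx
      conv_rhs => rw [show x = autFun a (autFun a⁻¹ x) by
        rw [← autFun_mul _ _ hx, mul_inv_cancel, autFun_one hx]]
      rw [hke _ hy, autFun_inv_apply k (Subgroup.mem_sup_left hy)]

/-- The maps of the family are maps of the subsystem. -/
theorem fam_le_sub {R : Subgroup Ω} (hX : X ≤ S) (hR : R ≤ U) {α : MulAut R}
    (hα : α ∈ fam F E p X R) : α ∈ E.autGroup R := by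
  obtain ⟨k, hk, -, hke⟩ := (mem_fam d (sup_le (hR.trans d.le_S) hX)).1 hα
  obtain ⟨γ, hγ, hγe⟩ := InK.inE d hk
  have hle : R ≤ (R ⊔ X) ⊓ U := le_inf le_sup_left hR
  refine (Fus.mem_autGroup hR).2 ((((Fus.mem_autGroup inf_le_right).1 hγ).res hle).congr
    fun x hx => ?_)
  rw [hγe x (hle hx), hke x hx]

theorem stronglyClosed_trace (hX : X ≤ S) :
    (centralizerSystem F X hX).StronglyClosed (U ⊓ centralizerIn S X) :=
  stronglyClosed_of_forall inf_le_right fun R hR f hf x hx => by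
    obtain ⟨-, h2, g, hg, hg1, -⟩ :=
      (isMap_centralizerSystem hX (isCentralizerSystem_centralizerSystem F hX)).1 hf
    exact ⟨hg1 x hx ▸ StronglyClosed.apply_mem d.scU (hg.res le_sup_left) (hR.trans inf_le_left) hx,
      h2 x hx⟩

/-- Moving `R X` to a fully normalized subgroup, the centralizer of `X` corresponds. -/
theorem exists_move (hX : F.IsFullyCentralized X) {R : Subgroup Ω} (hR : R ≤ centralizerIn S X)
    (hn : (centralizerSystem F X hX.1).IsFullyNormalized R) :
    ∃ (P₀ : Subgroup Ω) (v : Ω → Ω), F.IsFullyNormalized P₀ ∧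
      IsMap F (normalizerIn S (R ⊔ X)) v ∧ fimg v (R ⊔ X) = P₀ ∧
      ∀ z ∈ centralizerIn S (fimg v X), z ∈ Subgroup.normalizer ((fimg v R : Subgroup Ω) : Set Ω) →
        ∃ t ∈ normalizerIn (centralizerIn S X) R, v t = z := by
  have hC := isCentralizerSystem_centralizerSystem F hX.1
  have hRS : R ≤ S := hR.trans inf_le_left
  have hP : R ⊔ X ≤ S := sup_le hRS hX.1
  obtain ⟨P₀, hP₀, hn₀⟩ := exists_fullyNormalized F hP
  obtain ⟨v, hv, hvP, -⟩ := exists_map_to_fullyNormalized d.pG d.sat hn₀ hP₀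
  refine ⟨P₀, v, hn₀, hv, hvP, fun z hzC hzN => ?_⟩
  have hPN := le_normalizerIn (S := S) hP
  set R₀ := fimg v R
  set X₀ := fimg v X with hX₀
  have hm := hv.res hPN
  have hvX := hm.res (le_sup_right : X ≤ R ⊔ X)
  have hvR := hm.res (le_sup_left : R ≤ R ⊔ X)
  have hR₀C : R₀ ≤ centralizerIn S X₀ := fimg_le fun r hr =>
    hv.map_centralizerIn (le_sup_right.trans hPN) (hPN (Subgroup.mem_sup_left hr)) (hR hr).2
  -- back to `X`
  obtain ⟨v', hv', hv1, -, hv'X⟩ := hvX.exists_inv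
  have hX₀S : X₀ ≤ S := hvX.fimg_le_S
  have hX₀n : X₀ ⊔ centralizerIn S X₀ ≤ normalizerIn S X₀ :=
    sup_le (le_normalizerIn hX₀S) (centralizerIn_le_normalizerIn X₀)
  obtain ⟨g, hg, hge⟩ := receptive_extend (receptive_of_fullyCentralized d.pG d.sat hX) hv' hv'X
    (N := X₀ ⊔ centralizerIn S X₀) (fun y hy => by
      refine ⟨hX₀n hy, ?_⟩
      obtain ⟨a, ha, c, hc, rfl⟩ := (mem_sup_normalized (fun y hy =>
        (centralizerIn_le_normalizerIn X₀ hy).2)).1 hy
      refine ⟨v' a, hv'.apply_mem ha, fun x hx => ?_⟩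
      rw [← hv'.map_conj ha hx, show a * c * x * (a * c)⁻¹ = a * (c * x * c⁻¹) * a⁻¹ by group,
        show c * x * c⁻¹ = x by rw [← (mem_centralizerIn.1 hc).2 x hx, mul_inv_cancel_right]])
    le_sup_left
  have hgX : fimg g X₀ = X := (fimg_congr hge).trans hv'X
  have hC₀le : centralizerIn S X₀ ≤ X₀ ⊔ centralizerIn S X₀ := le_sup_right
  have hR₀dom : R₀ ≤ X₀ ⊔ centralizerIn S X₀ := hR₀C.trans hC₀le
  have hgC : ∀ c ∈ centralizerIn S X₀, g c ∈ centralizerIn S X := fun c hc =>
    hgX ▸ hg.map_centralizerIn le_sup_left (hC₀le hc) hc.2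
  -- the conjugate in the centralizer system
  have hm2 : IsMap F (R ⊔ X) (fun x => g (v x)) := hm.comp hg fun x hx => by
    have h1 : fimg v (R ⊔ X) ≤ X₀ ⊔ centralizerIn S X₀ := by
      rw [hm.fimg_sup]
      exact sup_le hR₀dom le_sup_left
    exact h1 (apply_mem_fimg v hx)
  have hcm : IsMap (centralizerSystem F X hX.1) R (fun x => g (v x)) := by
    refine (isMap_centralizerSystem hX.1 hC).2 ⟨hR, fun x hx => hgC _
      (hR₀C (apply_mem_fimg v hx)), _, hm2, fun _ _ => rfl, fun x hx => ?_⟩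
    rw [hge _ (apply_mem_fimg v hx), hv1 x hx]
  set R'' := fimg g R₀ with hR''
  have hR''e : fimg (fun x => g (v x)) R = R'' := hvR.fimg_comp g
  set K := centralizerIn S X₀ ⊓ Subgroup.normalizer (R₀ : Set Ω) with hK
  haveI : Finite ↥K := finite_of_le (S := S) (inf_le_left.trans inf_le_left)
  haveI : Finite ↥(normalizerIn (centralizerIn S X) R'') :=
    finite_of_le (S := S) (inf_le_left.trans inf_le_left)
  have hKdom : K ≤ X₀ ⊔ centralizerIn S X₀ := inf_le_left.trans hC₀le
  have h1 : Nat.card K ≤ Nat.card (normalizerIn (centralizerIn S X) R) := by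
    rw [← (hg.res hKdom).card_fimg]
    refine (Subgroup.card_le_of_le (fimg_le (K := normalizerIn (centralizerIn S X) R'') fun c (hc : c ∈ K) => (⟨hgC c hc.1,
      (hg.map_normalizerIn hR₀dom (hKdom hc) hc.2).2⟩ :
        g c ∈ normalizerIn (centralizerIn S X) R''))).trans ?_
    exact hn.2 R'' (hR''e ▸ hcm.isConj)
  have hNle : normalizerIn (centralizerIn S X) R ≤ normalizerIn S (R ⊔ X) := fun t ht =>
    ⟨ht.1.1, normalizer_sup_le (centralizerIn_le_normalizerIn X ht.1).2 ht.2⟩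
  have h2 : fimg v (normalizerIn (centralizerIn S X) R) ≤ K := fimg_le fun t ht =>
    ⟨hv.map_centralizerIn (le_sup_right.trans hPN) (hNle ht) ht.1.2,
      (hv.map_normalizerIn (le_sup_left.trans hPN) (hNle ht) ht.2).2⟩
  have h3 := Subgroup.eq_of_le_of_card_ge h2 (by rwa [(hv.res hNle).card_fimg])
  exact (hv.res hNle).mem_fimg_iff.1 (h3.ge ⟨hzC, hzN⟩)

set_option maxHeartbeats 800000 in
/-- The family satisfies the axioms in the centralizer system. -/
theorem maps (hX : F.IsFullyCentralized X) :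
    Maps (centralizerSystem F X hX.1) (U ⊓ centralizerIn S X) p (fun R => fam F E p X R) := by
  have hC := isCentralizerSystem_centralizerSystem F hX.1
  have hXS := hX.1
  set V := U ⊓ centralizerIn S X with hV
  have hVS : V ≤ S := inf_le_right.trans inf_le_left
  haveI : Finite ↥(centralizerIn S X) := finite_of_le (S := S) inf_le_left
  have hRX : ∀ {R : Subgroup Ω}, R ≤ V → R ⊔ X ≤ S := fun h => sup_le (h.trans hVS) hXS
  refine ⟨d.pG.to_le inf_le_left, isSaturated_centralizerSystem d.pG d.sat hX hC,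
    stronglyClosed_trace d hXS, ?_, ?_, ?_, ?_, ?_, ?_⟩
  · intro R hR α hα
    obtain ⟨k, hk, hkX, hke⟩ := (mem_fam d (hRX hR.1)).1 hα
    refine (Fus.mem_autGroup (hR.1.trans inf_le_right)).2
      ((isMap_centralizerSystem hXS hC).2 ⟨hR.1.trans inf_le_right, fun x hx =>
        (hR.1.trans inf_le_right) (autFun_mem α hx), _, InK.isMap d hk,
        fun x hx => (hke x hx).symm, hkX⟩)
  · intro R hR α hα
    obtain ⟨t, ht, hte⟩ := mem_autInducedBy.1 hα
    have htn := mem_normalizer_of_conj_aut hte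
    have htn' : t ∈ Subgroup.normalizer ((R ⊔ X : Subgroup Ω) : Set Ω) :=
      normalizer_sup_le (centralizerIn_le_normalizerIn X ht.2).2 htn
    refine (mem_fam d (hRX hR.1)).2 ⟨_, .conj (hRX hR.1) ht.1
      (fun x hx => autFun_normalizerMonoidHom htn' hx), fun x hx => ?_, fun x hx => ?_⟩
    · rw [autFun_normalizerMonoidHom htn' (Subgroup.mem_sup_right hx),
        ← (mem_centralizerIn.1 ht.2).2 x hx, mul_inv_cancel_right]
    · rw [autFun_of_induced hte hx,
        autFun_normalizerMonoidHom htn' (Subgroup.mem_sup_left hx : x ∈ R ⊔ X)]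
  · intro R Q f hR hf hfQ e he α hα
    obtain ⟨k, hk, hkX, hke⟩ := (mem_fam d (hRX hR.1)).1 hα
    obtain ⟨-, -, g, hg, hg1, hg2⟩ := (isMap_centralizerSystem hXS hC).1 hf
    have hgim : fimg g (R ⊔ X) = Q ⊔ X := by
      rw [hg.fimg_sup, fimg_congr hg1, hfQ, fimg_congr hg2, fimg_id]
    obtain ⟨e', he', -⟩ := exists_mulEquiv hg hgim
    have hQX : Q ⊔ X ≤ S := hgim ▸ hg.fimg_le_S
    refine (mem_fam d hQX).2 ⟨_, .map hg he' hk, fun x hx => ?_, fun y hy => ?_⟩
    · have hx' : x ∈ R ⊔ X := Subgroup.mem_sup_right hx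
      conv_lhs => rw [← hg2 x hx]
      rw [autFun_congr e' he' k hx', hkX x hx, hg2 x hx]
    · obtain ⟨x, hx, rfl⟩ := hf.mem_fimg_iff.1 (hfQ.ge hy)
      rw [autFun_congr e he α hx, ← hg1 _ (autFun_mem α hx), hke x hx, ← hg1 x hx,
        autFun_congr e' he' k (Subgroup.mem_sup_left hx : x ∈ R ⊔ X)]
  · intro R hR hn α hα
    obtain ⟨hαM, hαS⟩ := hα
    obtain ⟨k, hk, hkX, hke⟩ := (mem_fam d (hRX hR.1)).1 hαM
    obtain ⟨s, hs, hse⟩ := mem_autInducedBy.1 hαS
    have hsn := mem_normalizer_of_conj_aut hse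
    obtain ⟨P₀, v, hn₀, hv, hvP, hback⟩ :=
      exists_move d hX (hR.1.trans inf_le_right) hn
    have hPN := le_normalizerIn (S := S) (hRX hR.1)
    have hm := hv.res hPN
    obtain ⟨e, he, -⟩ := exists_mulEquiv hm hvP
    have hsN : s ∈ normalizerIn S (R ⊔ X) :=
      ⟨hs.1, normalizer_sup_le (centralizerIn_le_normalizerIn X hs).2 hsn⟩
    have hks : ∀ x ∈ R ⊔ X, autFun k x = s * x * s⁻¹ := by
      intro x hx
      obtain ⟨r, hr, c, hc, rfl⟩ := mem_sup_dest (A := R) (B := X) (fun y hy =>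
        (centralizerIn_le_normalizerIn X ((hR.1.trans inf_le_right) hy)).2) hx
      rw [(InK.isMap d hk).map_mul (Subgroup.mem_sup_left hr) (Subgroup.mem_sup_right hc),
        ← hke r hr, autFun_of_induced hse hr, hkX c hc,
        show s * (r * c) * s⁻¹ = s * r * s⁻¹ * (s * c * s⁻¹) by group,
        show s * c * s⁻¹ = c by rw [← (mem_centralizerIn.1 hs).2 c hc, mul_inv_cancel_right]]
    have hc1 : ∀ y ∈ P₀, autFun (MulAut.congr e k) y = v s * y * (v s)⁻¹ :=
      congr_induced hv hPN e he hsN hks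
    obtain ⟨u, hu, hue⟩ := mem_autInducedBy.1 ((main d P₀ hn₀).2 _ (.map hm he hk)
      (autInducedBy_of_autFun (hv.apply_mem hsN) hc1))
    have hue' : ∀ y ∈ P₀, u * y * u⁻¹ = v s * y * (v s)⁻¹ := fun y hy =>
      (autFun_of_induced hue hy).symm.trans (hc1 y hy)
    have hRP : R ≤ R ⊔ X := le_sup_left
    have hXP : X ≤ R ⊔ X := le_sup_right
    have huX : u ∈ centralizerIn S (fimg v X) := by
      refine mem_centralizerIn.2 ⟨d.le_S hu, fun y hy => ?_⟩
      obtain ⟨x, hx, rfl⟩ := (hm.res hXP).mem_fimg_iff.1 hy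
      have h := hue' _ (hvP ▸ apply_mem_fimg v (hXP hx))
      rw [← hv.map_conj hsN (hPN (hXP hx)),
        show s * x * s⁻¹ = x by rw [← (mem_centralizerIn.1 hs).2 x hx, mul_inv_cancel_right]] at h
      calc v x * u = u * v x * u⁻¹ * u := by rw [h]
        _ = u * v x := by group
    have huR : u ∈ Subgroup.normalizer ((fimg v R : Subgroup Ω) : Set Ω) := by
      have key : ∀ y ∈ fimg v R, u * y * u⁻¹ ∈ fimg v R := fun y hy => by
        obtain ⟨x, hx, rfl⟩ := (hm.res hRP).mem_fimg_iff.1 hy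
        rw [hue' _ (hvP ▸ apply_mem_fimg v (hRP hx)), ← hv.map_conj hsN (hPN (hRP hx))]
        exact apply_mem_fimg v ((Subgroup.mem_normalizer_iff.1 hsn x).1 hx)
      haveI := finite_of_le (hm.res hRP).fimg_le_S
      refine mem_normalizer_of_forall key fun y hy => ?_
      have hsurj : (fimg v R).map (MulAut.conj u).toMonoidHom = fimg v R :=
        Subgroup.eq_of_le_of_card_ge (by rintro _ ⟨z, hz, rfl⟩; exact key z hz)
          (Subgroup.card_map_of_injective (MulAut.conj u).injective).ge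
      obtain ⟨z, hz, rfl⟩ := hsurj.ge hy
      simpa [mul_assoc] using hz
    obtain ⟨t, ht, htv⟩ := hback u huX huR
    have htN : t ∈ normalizerIn S (R ⊔ X) :=
      ⟨ht.1.1, normalizer_sup_le (centralizerIn_le_normalizerIn X ht.1).2 ht.2⟩
    have htU : t ∈ U := by
      obtain ⟨g, hg, hg1, -, -⟩ := hv.exists_inv
      rw [← hg1 t htN, htv]
      exact StronglyClosed.apply_mem d.scU (hg.res inf_le_right)
        (inf_le_left : U ⊓ fimg v (normalizerIn S (R ⊔ X)) ≤ U)
        ⟨hu, htv ▸ apply_mem_fimg v htN⟩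
    refine autInducedBy_of_autFun (g := t) ⟨htU, ht.1⟩ fun x hx => ?_
    rw [autFun_of_induced hse hx]
    refine hv.injOn (mul_mem (mul_mem hsN (hPN (hRP hx))) (inv_mem hsN))
      (mul_mem (mul_mem htN (hPN (hRP hx))) (inv_mem htN)) ?_
    rw [hv.map_conj hsN (hPN (hRP hx)), hv.map_conj htN (hPN (hRP hx)), htv,
      hue' _ (hvP ▸ apply_mem_fimg v (hRP hx))]
  · intro R Q hR hRQ hQV hQN α hα ho β hβ
    obtain ⟨k, hk, hkX, hke⟩ := (mem_fam d (hRX hQV)).1 hα
    have hle : R ⊔ X ≤ Q ⊔ X := sup_le_sup_right hRQ X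
    have hm := (InK.isMap d hk).res hle
    haveI := finite_of_le (hRX hR.1)
    have himg : fimg (autFun k) (R ⊔ X) = R ⊔ X := by
      rw [hm.fimg_sup, fimg_congr (g := autFun β) fun x hx => by rw [hβ x hx, hke x (hRQ hx)],
        fimg_autFun, fimg_congr hkX, fimg_id]
    obtain ⟨k', -, hk'e⟩ := hm.exists_aut himg
    exact (mem_fam d (hRX hR.1)).2 ⟨k', .res hle hk hk'e, fun x hx => by
      rw [hk'e x (Subgroup.mem_sup_right hx), hkX x hx], fun x hx => by
      rw [hk'e x (Subgroup.mem_sup_left hx), hβ x hx, hke x (hRQ hx)]⟩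
  · intro R Q hR hn hRQ hQN β hβ ho hβn
    obtain ⟨k₀, hk₀, hk₀X, hk₀e⟩ := (mem_fam d (hRX hR.1)).1 hβ
    haveI := finite_of_le (hR.1.trans hVS)
    haveI := finite_of_le (hRX hR.1)
    obtain ⟨i, n, hn', hkn, hβi⟩ := InvExt.exists_coprime_power (p := p) k₀ ho
      (pow_orderOf_eq_one β)
    set k := k₀ ^ i with hkdef
    have hk : InK F E p (R ⊔ X) k := InK.pow' d hk₀ i
    have hkX : ∀ x ∈ X, autFun k x = x := by
      intro x hx
      have hx' : x ∈ R ⊔ X := Subgroup.mem_sup_right hx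
      have key : ∀ j : ℕ, autFun (k₀ ^ j) x = x := fun j => by
        induction j with
        | zero => rw [pow_zero, autFun_one hx']
        | succ j ihj => rw [pow_succ, autFun_mul _ _ hx', hk₀X x hx, ihj]
      exact key i
    have hke : ∀ x ∈ R, autFun β x = autFun k x := fun x hx => by
      rw [hkdef, ← autFun_pow_eqOn le_sup_left hk₀e i x hx, hβi]
    obtain ⟨P₀, v, hn₀, hv, hvP, hback⟩ := exists_move d hX (hR.1.trans inf_le_right) hn
    have hPN := le_normalizerIn (S := S) (hRX hR.1)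
    have hm := hv.res hPN
    obtain ⟨e, he, -⟩ := exists_mulEquiv hm hvP
    have hRP : R ≤ R ⊔ X := le_sup_left
    have hXP : X ≤ R ⊔ X := le_sup_right
    have hQV : Q ≤ V := hQN.trans inf_le_left
    have hQS := hQV.trans hVS
    have hQdom : Q ≤ normalizerIn S (R ⊔ X) := fun q hq =>
      ⟨hQS hq, normalizer_sup_le (centralizerIn_le_normalizerIn X (hQV hq).2).2 (hQN hq).2⟩
    have hQXdom : Q ⊔ X ≤ normalizerIn S (R ⊔ X) := sup_le hQdom (hXP.trans hPN)
    have hP₀S := hn₀.1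
    set Q₀ := fimg v Q with hQ₀
    set Nn := Q₀ ⊔ P₀ ⊔ centralizerIn S P₀ with hNn
    have hQ₀n : Q₀ ≤ normalizerIn S P₀ := hvP ▸ fimg_le fun q hq =>
      hv.map_normalizerIn hPN (hQdom hq) (hQdom hq).2
    have hNnle : Nn ≤ normalizerIn S P₀ :=
      sup_le (sup_le hQ₀n (le_normalizerIn hP₀S)) (centralizerIn_le_normalizerIn P₀)
    have hmX := hm.res hXP
    have hmR := hm.res hRP
    set g₀ := MulAut.congr e k with hg₀
    have hg₀v : ∀ x ∈ R ⊔ X, autFun g₀ (v x) = v (autFun k x) := fun x hx =>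
      autFun_congr e he k hx
    -- the action of `Q₀` on `P₀`
    have hkq : ∀ q ∈ Q, ∃ q' ∈ Q, ∀ x ∈ R ⊔ X,
        autFun k (q * x * q⁻¹) = q' * autFun k x * q'⁻¹ := by
      intro q hq
      obtain ⟨q', hq', hqe⟩ :=
        mem_autInducedBy.1 (hβn _ (mem_autInducedBy_of_mem hq (hQN hq).2))
      refine ⟨q', hq', fun x hx => ?_⟩
      obtain ⟨r, hr, c, hc, rfl⟩ := mem_sup_dest (A := R) (B := X) (fun y hy =>
        (centralizerIn_le_normalizerIn X ((hR.1.trans inf_le_right) hy)).2) hx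
      have hr' := (Subgroup.mem_normalizer_iff.1 (hQN hq).2 r).1 hr
      have hkm := InK.isMap d hk
      rw [show q * (r * c) * q⁻¹ = q * r * q⁻¹ * (q * c * q⁻¹) by group,
        show q * c * q⁻¹ = c by
          rw [← (mem_centralizerIn.1 (hQV hq).2).2 c hc, mul_inv_cancel_right],
        hkm.map_mul (hRP hr') (hXP hc), hkm.map_mul (hRP hr) (hXP hc), hkX c hc,
        ← hke r hr, ← hke _ hr', ← autFun_normalizerMonoidHom (hQN hq).2 hr,
        ← autFun_conj_apply β _ hr, autFun_of_induced hqe (autFun_mem β hr),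
        show q' * (autFun β r * c) * q'⁻¹ = q' * autFun β r * q'⁻¹ * (q' * c * q'⁻¹) by group,
        show q' * c * q'⁻¹ = c by
          rw [← (mem_centralizerIn.1 (hQV hq').2).2 c hc, mul_inv_cancel_right]]
    have hnorm : ∀ γ ∈ autInducedBy Nn P₀, g₀ * γ * g₀⁻¹ ∈ autInducedBy Nn P₀ := by
      have hgen : autInducedBy Nn P₀ ≤
          (autInducedBy Nn P₀).comap (MulAut.conj g₀).toMonoidHom := by
        intro γ hγ
        obtain ⟨z, hz, hze⟩ := mem_autInducedBy.1 hγ
        let f : ↥(normalizerIn S P₀) →* MulAut P₀ := (MulAut.conj g₀).toMonoidHom.comp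
          (P₀.normalizerMonoidHom.comp (Subgroup.inclusion inf_le_right))
        let K : Subgroup ↥(normalizerIn S P₀) := (autInducedBy Nn P₀).comap f
        have hK : Nn ≤ K.map (normalizerIn S P₀).subtype := by
          refine sup_le (sup_le (fun y hy => ?_) fun y hy => ?_) fun y hy => ?_
          · refine ⟨⟨y, hQ₀n hy⟩, ?_, rfl⟩
            obtain ⟨q, hq, rfl⟩ := (hv.res hQdom).mem_fimg_iff.1 hy
            obtain ⟨q', hq', hqe⟩ := hkq q hq
            refine autInducedBy_of_autFun (g := v q') (Subgroup.mem_sup_left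
              (Subgroup.mem_sup_left (apply_mem_fimg v hq'))) fun z hz => ?_
            obtain ⟨x, hx, rfl⟩ := hm.mem_fimg_iff.1 (hvP.ge hz)
            have hy' := autFun_mem k⁻¹ hx
            have hzz : v x = autFun g₀ (v (autFun k⁻¹ x)) := by
              rw [hg₀v _ hy', ← autFun_mul _ _ hx, mul_inv_cancel, autFun_one hx]
            show autFun (g₀ * P₀.normalizerMonoidHom ⟨v q, (hQ₀n hy).2⟩ * g₀⁻¹) (v x) = _
            rw [hzz, autFun_conj_apply g₀ _ (hvP ▸ apply_mem_fimg v hy'),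
              autFun_normalizerMonoidHom _ (hvP ▸ apply_mem_fimg v hy'),
              ← hv.map_conj (hQdom hq) (hPN hy'), hg₀v _
                ((Subgroup.mem_normalizer_iff.1 (hQdom hq).2 _).1 hy'), hqe _ hy',
              hg₀v _ hy']
            exact hv.map_conj (hQdom hq') (hPN (autFun_mem k hy'))
          · refine ⟨⟨y, le_normalizerIn hP₀S hy⟩, ?_, rfl⟩
            refine autInducedBy_of_autFun (g := autFun g₀ y) (Subgroup.mem_sup_left
              (Subgroup.mem_sup_right (autFun_mem g₀ hy))) fun z hz => ?_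
            obtain ⟨w, hw⟩ := g₀.surjective ⟨z, hz⟩
            show autFun (g₀ * P₀.normalizerMonoidHom ⟨y, Subgroup.le_normalizer hy⟩ * g₀⁻¹) z = _
            rw [show z = autFun g₀ w by rw [autFun_coe, hw], autFun_conj_apply g₀ _ w.2,
              autFun_normalizerMonoidHom _ w.2]
            have hg₀m : IsMap F P₀ (autFun g₀) := InK.isMap d (.map hm he hk)
            exact hg₀m.map_conj hy w.2
          · refine ⟨⟨y, centralizerIn_le_normalizerIn P₀ hy⟩, ?_, rfl⟩
            have h1 : P₀.normalizerMonoidHom ⟨y, (centralizerIn_le_normalizerIn P₀ hy).2⟩ = 1 :=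
              MulEquiv.ext fun z => Subtype.ext (by
                rw [normalizerMonoidHom_apply, MulAut.one_apply,
                  ← (mem_centralizerIn.1 hy).2 z z.2, mul_inv_cancel_right])
            show g₀ * P₀.normalizerMonoidHom ⟨y, (centralizerIn_le_normalizerIn P₀ hy).2⟩ * g₀⁻¹ ∈
              autInducedBy Nn P₀
            rw [h1, mul_one, mul_inv_cancel]
            exact one_mem _
        obtain ⟨⟨z', hz'⟩, hzK, rfl⟩ := hK hz
        have : γ = P₀.normalizerMonoidHom ⟨z', hz'.2⟩ :=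
          MulEquiv.ext fun w => Subtype.ext (hze w)
        rw [this]
        exact hzK
      exact fun γ hγ => hgen hγ
    have hg₀o : (orderOf g₀).Coprime p := by
      rw [hg₀, MulEquiv.orderOf_eq]
      exact coprime_of_pow hn' hkn
    obtain ⟨φ, hφK, hφo, hφe⟩ := (main d P₀ hn₀).1 g₀ Nn (.map hm he hk) hg₀o
      (le_sup_right.trans le_sup_left) le_sup_right hNnle hnorm
    have hφm := InK.isMap d hφK
    have hP₀Nn : P₀ ≤ Nn := le_sup_right.trans le_sup_left
    have hQ₀Nn : Q₀ ≤ Nn := le_sup_left.trans le_sup_left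
    have hQXle : fimg v (Q ⊔ X) ≤ Nn := by
      rw [(hv.res hQXdom).fimg_sup]
      exact sup_le hQ₀Nn ((fimg_mono v hXP).trans (hvP.le.trans hP₀Nn))
    have hφv : ∀ x ∈ R ⊔ X, autFun φ (v x) = v (autFun k x) := fun x hx => by
      rw [hφe _ (hvP ▸ apply_mem_fimg v hx), hg₀v x hx]
    have hφX : ∀ x ∈ X, autFun φ (v x) = v x := fun x hx => by
      rw [hφv x (hXP hx), hkX x hx]
    have hstQ : ∀ q ∈ Q, autFun φ (v q) ∈ Q₀ := by
      intro q hq
      obtain ⟨q', hq', hqe⟩ := hkq q hq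
      have hP₀fix : fimg (autFun φ) P₀ = P₀ := (fimg_congr hφe).trans (fimg_autFun g₀)
      have hc := mul_inv_mem_centralizer d hP₀Nn hφm hP₀fix (hQ₀Nn (apply_mem_fimg v hq))
        (hQ₀n (apply_mem_fimg v hq)).2 (n' := v q') (hv.apply_mem (hQdom hq')) hφe fun y hy => by
          obtain ⟨x, hx, rfl⟩ := hm.mem_fimg_iff.1 (hvP.ge hy)
          rw [← hv.map_conj (hQdom hq) (hPN hx),
            hg₀v _ ((Subgroup.mem_normalizer_iff.1 (hQdom hq).2 x).1 hx), hqe x hx, hg₀v x hx]
          exact hv.map_conj (hQdom hq') (hPN (autFun_mem k hx))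
      have hcU : (v q')⁻¹ * autFun φ (v q) ∈ U := by
        have h1 : ∀ z ∈ Q, v z ∈ U := fun z hz => StronglyClosed.apply_mem d.scU
          (hv.res hQdom) (hQV.trans inf_le_left) hz
        exact U.mul_mem (U.inv_mem (h1 q' hq')) (StronglyClosed.apply_mem d.scU
          (hφm.res hQ₀Nn) (fimg_le h1) (apply_mem_fimg v hq))
      set c := (v q')⁻¹ * autFun φ (v q) with hcdef
      have hcX : c ∈ centralizerIn S (fimg v X) := mem_centralizerIn.2 ⟨hc.1, fun y hy =>
        (mem_centralizerIn.1 hc).2 y (hvP ▸ fimg_mono v hXP hy)⟩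
      have hcR : c ∈ Subgroup.normalizer ((fimg v R : Subgroup Ω) : Set Ω) :=
        mem_normalizer_of_forall (fun y hy => by
          rw [← (mem_centralizerIn.1 hc).2 y (hvP ▸ fimg_mono v hRP hy), mul_inv_cancel_right]
          exact hy) fun y hy => by
          rw [mul_assoc, (mem_centralizerIn.1 hc).2 y (hvP ▸ fimg_mono v hRP hy),
            inv_mul_cancel_left]
          exact hy
      obtain ⟨t, ht, htv⟩ := hback c hcX hcR
      have htN : t ∈ normalizerIn S (R ⊔ X) :=
        ⟨ht.1.1, normalizer_sup_le (centralizerIn_le_normalizerIn X ht.1).2 ht.2⟩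
      have htU : t ∈ U := by
        obtain ⟨g, hg, hg1, -, -⟩ := hv.exists_inv
        rw [← hg1 t htN, htv]
        exact StronglyClosed.apply_mem d.scU (hg.res inf_le_right)
          (inf_le_left : U ⊓ fimg v (normalizerIn S (R ⊔ X)) ≤ U)
          ⟨hcU, htv ▸ apply_mem_fimg v htN⟩
      have htR : t ∈ R := hR.cent_le (stronglyClosed_trace d hXS) (mem_centralizerIn.2
        ⟨⟨htU, ht.1⟩, fun y hy => by
          refine hv.injOn (mul_mem (hPN (hRP hy)) htN) (mul_mem htN (hPN (hRP hy))) ?_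
          rw [hv.map_mul (hPN (hRP hy)) htN, hv.map_mul htN (hPN (hRP hy)), htv]
          exact (mem_centralizerIn.1 hc).2 _ (hvP ▸ apply_mem_fimg v (hRP hy))⟩)
      rw [show autFun φ (v q) = v q' * c by rw [hcdef]; group]
      exact Q₀.mul_mem (apply_mem_fimg v hq') (htv ▸ apply_mem_fimg v (hRQ htR))
    have himg : fimg (autFun φ) (fimg v (Q ⊔ X)) = fimg v (Q ⊔ X) := by
      haveI := finite_of_le (hQXle.trans (hNnle.trans inf_le_left))
      refine Subgroup.eq_of_le_of_card_ge ?_ (hφm.res hQXle).card_fimg.ge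
      refine fimg_le fun y hy => ?_
      obtain ⟨z, hz, rfl⟩ := (hv.res hQXdom).mem_fimg_iff.1 hy
      obtain ⟨q, hq, x, hx, rfl⟩ := mem_sup_dest (A := Q) (B := X) (fun w hw =>
        (centralizerIn_le_normalizerIn X (hQV hw).2).2) hz
      rw [hv.map_mul (hQdom hq) (hPN (hXP hx)),
        hφm.map_mul (hQ₀Nn (apply_mem_fimg v hq))
          (hP₀Nn (hvP ▸ apply_mem_fimg v (hXP hx))), hφX x hx,
        (hv.res hQXdom).fimg_sup]
      exact Subgroup.mul_mem_sup (hstQ q hq) (apply_mem_fimg v hx)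
    obtain ⟨φ', -, hφ'e⟩ := (hφm.res hQXle).exists_aut himg
    obtain ⟨g, hg, hg1, -, hgQ⟩ := (hv.res hQXdom).exists_inv
    obtain ⟨e', he', -⟩ := exists_mulEquiv hg hgQ
    set kQ := MulAut.congr e' φ'
    have hkQ : InK F E p (Q ⊔ X) kQ := .map hg he' (.res hQXle hφK hφ'e)
    have hkQv : ∀ z ∈ Q ⊔ X, autFun kQ z = g (autFun φ (v z)) := fun z hz => by
      conv_lhs => rw [← hg1 z hz]
      rw [autFun_congr e' he' φ' (apply_mem_fimg v hz), hφ'e _ (apply_mem_fimg v hz)]
    have hstk : ∀ q ∈ Q, autFun kQ q ∈ Q := fun q hq => by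
      obtain ⟨q', hq', hqe⟩ := (hv.res hQdom).mem_fimg_iff.1 (hstQ q hq)
      rw [hkQv q (Subgroup.mem_sup_left hq), ← hqe, hg1 q' (Subgroup.mem_sup_left hq')]
      exact hq'
    haveI := finite_of_le hQS
    have hkQm := (InK.isMap d hkQ).res (le_sup_left : Q ≤ Q ⊔ X)
    obtain ⟨α, -, hαe⟩ := hkQm.exists_aut
      (Subgroup.eq_of_le_of_card_ge (fimg_le hstk) hkQm.card_fimg.ge)
    refine ⟨α, (mem_fam d (sup_le hQS hXS)).2 ⟨kQ, hkQ, fun x hx => ?_, hαe⟩, fun x hx => ?_⟩
    · rw [hkQv x (Subgroup.mem_sup_right hx), hφX x hx, hg1 x (Subgroup.mem_sup_right hx)]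
    · rw [hαe x (hRQ hx), hkQv x (Subgroup.mem_sup_left (hRQ hx)), hφv x (hRP hx), hke x hx,
        hg1 _ (Subgroup.mem_sup_left (hRQ (hke x hx ▸ autFun_mem β hx)))]

/-- A normal subsystem of the centralizer system over the trace, inside the subsystem. -/
theorem exists_normal_trace (hX : F.IsFullyCentralized X) :
    ∃ D : FusionSystem (U ⊓ centralizerIn S X),
      D.IsNormalIn (centralizerSystem F X hX.1) p ∧ D.IsSubsystemOf E := by
  have dM := maps d hX
  have hVp : IsPGroup p ↥(U ⊓ centralizerIn S X) :=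
    d.pG.to_le (inf_le_right.trans inf_le_left)
  haveI : Finite ↥(centralizerIn S X) := finite_of_le (S := S) inf_le_left
  haveI : Finite ↥(U ⊓ centralizerIn S X) :=
    finite_of_le (S := S) (inf_le_right.trans inf_le_left)
  have hw : (sys dM).IsWeaklyNormalIn (centralizerSystem F X hX.1) p :=
    ⟨sys_saturated dM, dM.sat, sys_invariant dM⟩
  haveI : Finite ↥(S ⊓ Subgroup.centralizer (X : Set Ω)) := finite_of_le (S := S) inf_le_left
  obtain ⟨L, hL⟩ := PrimeIndex.exists_residual hVp hw.1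
  refine ⟨L, ResNorm.residual_isNormalIn (d.pG.to_le inf_le_left) hw hL, fun P φ hφ => ?_⟩
  have hgen := (isMap_sys dM).1 (isMap_toFun (hL.2.1.1 P hφ))
  rw [mem_hom_iff]
  clear hφ
  generalize toFun φ = f at hgen
  clear φ
  induction hgen with
  | aut hQ hα hPQ hf =>
    exact ((((Fus.mem_autGroup (hQ.1.trans inf_le_left)).1
      (fam_le_sub d hX.1 (hQ.1.trans inf_le_left) hα)).res hPQ)).congr
        fun x hx => (hf x hx).symm
  | comp _ _ hm he ih₁ ih₂ => exact (ih₁.comp ih₂ hm).congr fun x hx => (he x hx).symm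

end Cfsg.Agent.Fus.Ker
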