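import Cfsg.Agent.Lib.Fus.CommProduct
import Cfsg.Agent.Lib.Fus.LayerExist

/-!
The factors of a central product are normal in it, and so are their normal subsystems.
-/

set_option autoImplicit false
set_option linter.style.haveILetI false
set_option linter.unusedSectionVars false

open scoped Classical

universe u

namespace Cfsg.Agent.Fus.Layer

open Subgroup FusionSystem FocalCent Comm

variable {Ω : Type u} [Group Ω] {T₁ T₂ U : Subgroup Ω} {E₁ : FusionSystem T₁}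
  {E₂ : FusionSystem T₂} {D : FusionSystem U} {p : ℕ}

/-- A saturated system whose maps are made of those of two commuting saturated systems meeting in
their centres. -/
structure Central (D : FusionSystem U) (p : ℕ) (E₁ : FusionSystem T₁) (E₂ : FusionSystem T₂) :
    Prop where
  pG : IsPGroup p U
  sat : D.IsSaturated p
  s₁ : E₁.IsSaturated p
  s₂ : E₂.IsSaturated p
  sup_eq : U = T₁ ⊔ T₂
  comm : ∀ a ∈ T₁, ∀ b ∈ T₂, a * b = b * a
  z₁ : T₁ ⊓ T₂ ≤ E₁.center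
  z₂ : T₁ ⊓ T₂ ≤ E₂.center
  maps : ∀ (P : Subgroup Ω) (f : Ω → Ω), IsMap D P f ↔ Splits E₁ E₂ P f

theorem Central.le₁ (d : Central D p E₁ E₂) : T₁ ≤ U := le_sup_left.trans d.sup_eq.ge

theorem Central.le₂ (d : Central D p E₁ E₂) : T₂ ≤ U := le_sup_right.trans d.sup_eq.ge

theorem Central.symm (d : Central D p E₁ E₂) : Central D p E₂ E₁ := by
  refine ⟨d.pG, d.sat, d.s₂, d.s₁, d.sup_eq.trans (sup_comm _ _),
    fun a ha b hb => (d.comm b hb a ha).symm, inf_comm T₁ T₂ ▸ d.z₂, inf_comm T₁ T₂ ▸ d.z₁,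
    fun P f => (d.maps P f).trans ?_⟩
  constructor
  · rintro ⟨hP, f₁, f₂, h₁, h₂, he⟩
    refine ⟨hP.trans (sup_comm _ _).le, f₂, f₁, h₂, h₁, fun b hb a ha hab => ?_⟩
    rw [← d.comm a ha.2 b hb.2] at hab ⊢
    rw [he a ha b hb hab, d.comm _ (h₁.apply_mem ha) _ (h₂.apply_mem hb)]
  · rintro ⟨hP, f₂, f₁, h₂, h₁, he⟩
    refine ⟨hP.trans (sup_comm _ _).le, f₁, f₂, h₁, h₂, fun a ha b hb hab => ?_⟩
    rw [d.comm a ha.2 b hb.2] at hab ⊢
    rw [he b hb a ha hab, d.comm _ (h₁.apply_mem ha) _ (h₂.apply_mem hb)]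

/-- The maps on subgroups of a factor are those of the factor. -/
theorem Central.map_factor (d : Central D p E₁ E₂) {P : Subgroup Ω} {f : Ω → Ω} (hP : P ≤ T₁)
    (hf : IsMap D P f) : IsMap E₁ P f := by
  obtain ⟨-, f₁, f₂, hf₁, hf₂, he⟩ := (d.maps P f).1 hf
  have hle : P ≤ (P ⊔ T₂) ⊓ T₁ := le_inf le_sup_left hP
  refine (hf₁.res hle).congr fun x hx => ?_
  have h := he x (hle hx) 1 (one_mem _) (by rwa [mul_one])
  rw [mul_one, hf₂.map_one, mul_one] at h
  exact h.symm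

/-- The maps of a factor extend over the other factor, fixing it. -/
theorem Central.fixes [Finite U] (d : Central D p E₁ E₂) {P : Subgroup Ω} {f : Ω → Ω}
    (hf : IsMap E₁ P f) : Fixes D T₂ P f := by
  haveI := finite_of_le d.le₁
  have hP : P ≤ T₁ := hf.source_le
  obtain ⟨g, hg, hge, hgZ⟩ := (isCentral_iff.1 (isCentral_center E₁)).2 P f hf
  set P' := P ⊔ T₁ ⊓ T₂ with hP'def
  have hg' : IsMap E₁ P' g := hg.res (sup_le_sup_left d.z₁ P)
  have hP'T : P' ≤ T₁ := sup_le hP inf_le_left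
  let k : Ω → Ω := fun x =>
    if h : ∃ a ∈ P', ∃ b ∈ T₂, a * b = x then g h.choose * h.choose_spec.2.choose else x
  have hk : ∀ a ∈ P', ∀ b ∈ T₂, k (a * b) = g a * b := by
    intro a ha b hb
    have h : ∃ a' ∈ P', ∃ b' ∈ T₂, a' * b' = a * b := ⟨a, ha, b, hb, rfl⟩
    have key : ∀ a' ∈ P', ∀ b' ∈ T₂, a' * b' = a * b → g a' * b' = g a * b := by
      intro a' ha' b' hb' e
      have hz : a⁻¹ * a' ∈ T₁ ⊓ T₂ := by
        refine ⟨T₁.mul_mem (T₁.inv_mem (hP'T ha)) (hP'T ha'), ?_⟩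
        rw [show a⁻¹ * a' = a⁻¹ * (a' * b') * b'⁻¹ by group, e, inv_mul_cancel_left]
        exact T₂.mul_mem hb (T₂.inv_mem hb')
      have hb2 : b = a⁻¹ * a' * b' := by rw [mul_assoc, e, inv_mul_cancel_left]
      rw [show g a' = g (a * (a⁻¹ * a')) by rw [mul_inv_cancel_left],
        hg'.map_mul ha (Subgroup.mem_sup_right hz), hgZ _ (d.z₁ hz), hb2]
      group
    simp only [k, dif_pos h]
    exact key _ h.choose_spec.1 _ h.choose_spec.2.choose_spec.1 h.choose_spec.2.choose_spec.2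
  have hnorm : P ≤ Subgroup.normalizer (T₂ : Set Ω) := fun a ha => mem_normalizer_of_forall
    (fun b hb => by rw [d.comm a (hP ha) b hb, mul_inv_cancel_right]; exact hb)
    fun b hb => by rw [d.comm a⁻¹ (T₁.inv_mem (hP ha)) b hb, inv_mul_cancel_right]; exact hb
  refine ⟨k, (d.maps _ _).2 ⟨sup_le (hP.trans le_sup_left) le_sup_right, g, fun x => x,
    hg'.res ?_, isMap_id E₂ inf_le_right, fun a ha b hb _ => hk a ?_ b hb.2⟩, fun x hx => ?_,
    fun y hy => ?_⟩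
  case refine_3 =>
    rw [← mul_one x, hk x (Subgroup.mem_sup_left hx) 1 T₂.one_mem, mul_one, mul_one, hge x hx]
  case refine_4 =>
    rw [← one_mul y, hk 1 P'.one_mem y hy, hg'.map_one, one_mul]
  all_goals
    first
      | (intro z hz
         obtain ⟨r, hr, b, hb, rfl⟩ := mem_sup_dest hnorm
           ((sup_le le_rfl le_sup_right : P ⊔ T₂ ⊔ T₂ ≤ P ⊔ T₂) hz.1)
         refine Subgroup.mul_mem_sup hr ⟨?_, hb⟩
         have h := T₁.mul_mem (T₁.inv_mem (hP hr)) hz.2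
         rwa [inv_mul_cancel_left] at h)
      | (obtain ⟨r, hr, b', hb', rfl⟩ := mem_sup_dest hnorm
           ((sup_le le_rfl le_sup_right : P ⊔ T₂ ⊔ T₂ ≤ P ⊔ T₂) ha.1)
         refine Subgroup.mul_mem_sup hr ⟨?_, hb'⟩
         have h := T₁.mul_mem (T₁.inv_mem (hP hr)) ha.2
         rwa [inv_mul_cancel_left] at h)

/-- A factor lies in the product. -/
theorem Central.subsystem [Finite U] (d : Central D p E₁ E₂) : E₁.IsSubsystemOf D := by
  intro P φ hφ
  obtain ⟨g, hg, hg1, -⟩ := d.fixes (isMap_toFun hφ)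
  exact mem_hom_iff.2 ((hg.res le_sup_left).congr hg1)

/-- A normal subsystem of a factor is normal in the product. -/
theorem Central.normal_of_factor [Finite U] [Fact p.Prime] (d : Central D p E₁ E₂)
    {T : Subgroup Ω} {N : FusionSystem T} (hN : N.IsNormalIn E₁ p) : N.IsNormalIn D p := by
  have hinv := hN.1.2.2
  have hTT₁ : T ≤ T₁ := hinv.2.1.1
  have hT : D.StronglyClosed T := stronglyClosed_of_forall (hTT₁.trans d.le₁)
    fun R hR f hf x hx => StronglyClosed.apply_mem hinv.2.1 (d.map_factor (hR.trans hTT₁) hf) hR hx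
  have hsub : N.IsSubsystemOf D := fun P => (hinv.1 P).trans (d.subsystem P)
  have hstrong : StrongInv D N := fun P Q f u hPQ hQ hf hfm hu =>
    ResInv.strongInv_of_invariant hinv P Q f u hPQ hQ hf hfm (d.map_factor (hQ.trans hTT₁) hu)
  refine ⟨⟨hN.1.1, d.sat, ResInv.isInvariantIn_of_strongInv hsub hT hstrong
    fun hP hf => dec_of_strongInv d.pG d.sat hstrong hT hP hf⟩, fun α hα => ?_⟩
  obtain ⟨β₁, hβ₁, hβ₁e, hβ₁c⟩ := hN.2 α hα
  have hW₁ : T ⊔ centralizerIn T₁ T ≤ T₁ := sup_le hTT₁ inf_le_left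
  obtain ⟨g, hg, hg1, hg2⟩ := d.fixes ((mem_autGroup hW₁).1 hβ₁)
  have hdec : ∀ c ∈ centralizerIn U T, ∃ a ∈ centralizerIn T₁ T, ∃ b ∈ T₂, a * b = c := by
    intro c hc
    obtain ⟨a, ha, b, hb, rfl⟩ := mem_sup_dest (show T₁ ≤ Subgroup.normalizer (T₂ : Set Ω) from
      fun a ha => mem_normalizer_of_forall
        (fun b hb => by rw [d.comm a ha b hb, mul_inv_cancel_right]; exact hb)
        fun b hb => by rw [d.comm a⁻¹ (T₁.inv_mem ha) b hb, inv_mul_cancel_right]; exact hb)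
      (d.sup_eq.le hc.1)
    refine ⟨a, ⟨ha, fun x hx => ?_⟩, b, hb, rfl⟩
    have h := hc.2 x hx
    apply mul_right_cancel (b := b)
    calc x * a * b = x * (a * b) := mul_assoc _ _ _
      _ = a * b * x := h
      _ = a * (b * x) := mul_assoc _ _ _
      _ = a * x * b := by rw [← d.comm x (hTT₁ hx) b hb, mul_assoc]
  have hW : T ⊔ centralizerIn U T ≤ T ⊔ centralizerIn T₁ T ⊔ T₂ := by
    refine sup_le (le_sup_left.trans le_sup_left) fun c hc => ?_
    obtain ⟨a, ha, b, hb, rfl⟩ := hdec c hc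
    exact Subgroup.mul_mem_sup (Subgroup.mem_sup_right ha) hb
  have hval : ∀ x ∈ T, g x = autFun α x := fun x hx => by
    rw [hg1 x (Subgroup.mem_sup_left hx)]
    exact (autFun_coe β₁ (Subgroup.inclusion le_sup_left ⟨x, hx⟩)).trans
      ((hβ₁e ⟨x, hx⟩).trans (autFun_coe α ⟨x, hx⟩).symm)
  have hm := hg.res hW
  obtain ⟨β, hβ, hβe⟩ := hm.exists_aut (InvExt.fimg_sup_centralizer (hTT₁.trans d.le₁) hm hval)
  refine ⟨β, hβ, fun x => ?_, fun c hc => ?_⟩
  · rw [← autFun_coe β, Subgroup.coe_inclusion, hβe _ (Subgroup.mem_sup_left x.2), hval x x.2,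
      autFun_coe α x]
  · obtain ⟨a, ha, b, hb, e⟩ := hdec c hc
    have haW : a ∈ T ⊔ centralizerIn T₁ T := Subgroup.mem_sup_right ha
    rw [← autFun_coe β, hβe _ c.2, ← e, hg.map_mul (Subgroup.mem_sup_left haW)
      (Subgroup.mem_sup_right hb), hg1 a haW, hg2 b hb]
    have h := hβ₁c ⟨a, haW⟩ ha
    rw [← autFun_coe β₁] at h
    have hcom : a⁻¹ * autFun β₁ a * b = b * (a⁻¹ * autFun β₁ a) :=
      d.comm _ (T₁.mul_mem (T₁.inv_mem ha.1) (hW₁ (autFun_mem β₁ haW))) b hb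
    rw [show (a * b)⁻¹ * (autFun β₁ a * b) = b⁻¹ * (a⁻¹ * autFun β₁ a * b) by group, hcom,
      inv_mul_cancel_left]
    exact h

/-- A factor is normal in the product. -/
theorem Central.normal [Finite U] [Fact p.Prime] (d : Central D p E₁ E₂) : E₁.IsNormalIn D p :=
  haveI := finite_of_le d.le₁
  d.normal_of_factor (isNormalIn_self d.s₁)

/-- A central product of saturated systems that is saturated. -/
theorem central_of_product [Finite U] [Fact p.Prime] (hU : IsPGroup p U) (hD : D.IsSaturated p)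
    (h₁ : E₁.IsSaturated p) (h₂ : E₂.IsSaturated p) (hc : IsCentralProductOf E₁ E₂ D) :
    Central D p E₁ E₂ := by
  obtain ⟨hsup, hmaps⟩ := isMap_iff_splits hc
  obtain ⟨D₀, hD₀, Z, θ, hZ, -, -, ht₁, ht₂, hfac⟩ := hc
  obtain rfl : D₀ = productSystem E₁ E₂ := eq_of_hom_eq fun P => Set.ext fun φ =>
    (hD₀ P φ).trans (isProductSystem_productSystem E₁ E₂ P φ).symm
  have hT₁ : T₁ ≤ U := le_sup_left.trans hsup.ge
  have hT₂ : T₂ ≤ U := le_sup_right.trans hsup.ge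
  haveI := finite_of_le hT₁
  haveI := finite_of_le hT₂
  haveI : Finite ↥(T₁.prod T₂) := Finite.of_equiv _ (T₁.prodEquiv T₂).symm.toEquiv
  have hcomm := comm_of_theta ht₁ ht₂
  have hmem : ∀ z ∈ T₁ ⊓ T₂, ((z, z⁻¹) : Ω × Ω) ∈ (productSystem E₁ E₂).center := fun z hz => by
    have h : ((z, z⁻¹) : Ω × Ω) ∈ T₁.prod T₂ := Subgroup.mem_prod.2 ⟨hz.1, T₂.inv_mem hz.2⟩
    exact hZ ((hfac.2.1 ⟨_, h⟩).1 (by rw [theta_apply ht₁ ht₂ h, mul_inv_cancel]))
  refine ⟨hU, hD, h₁, h₂, hsup, hcomm, ?_, ?_, hmaps⟩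
  · refine le_center_of_fixed (hU.to_le hT₁) h₁ inf_le_left
      (fun z hz s hs => (hcomm s hs z hz.2).symm) fun P f hf z hz hzP => ?_
    have hm : IsMap (productSystem E₁ E₂) (P.prod T₂) (fun x => (f x.1, x.2)) :=
      isMap_product.2 ⟨Subgroup.prod_mono hf.source_le le_rfl, f, fun y => y,
        hf.res (fun x ⟨y, hy, e⟩ => e ▸ (Subgroup.mem_prod.1 hy).1),
        isMap_id E₂ (fun x ⟨y, hy, e⟩ => e ▸ (Subgroup.mem_prod.1 hy).2), fun x _ => rfl⟩
    exact congrArg Prod.fst (fix_center hm (Subgroup.mem_prod.2 ⟨hzP, T₂.inv_mem hz.2⟩)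
      (hmem z hz))
  · refine le_center_of_fixed (hU.to_le hT₂) h₂ inf_le_right
      (fun z hz s hs => hcomm z hz.1 s hs) fun P f hf z hz hzP => ?_
    have hm : IsMap (productSystem E₁ E₂) (T₁.prod P) (fun x => (x.1, f x.2)) :=
      isMap_product.2 ⟨Subgroup.prod_mono le_rfl hf.source_le, fun y => y, f,
        isMap_id E₁ (fun x ⟨y, hy, e⟩ => e ▸ (Subgroup.mem_prod.1 hy).1),
        hf.res (fun x ⟨y, hy, e⟩ => e ▸ (Subgroup.mem_prod.1 hy).2), fun x _ => rfl⟩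
    have h := congrArg Prod.snd (fix_center hm
      (show ((z⁻¹, z) : Ω × Ω) ∈ T₁.prod P from Subgroup.mem_prod.2 ⟨T₁.inv_mem hz.1, hzP⟩)
      (by simpa using Subgroup.inv_mem _ (hmem z hz)))
    exact h

end Cfsg.Agent.Fus.Layer
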