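import Mathlib
import Cfsg.Agent.Lib.Fus.KerExtend
import Cfsg.Agent.Lib.Fus.LayerProduct
import Cfsg.Agent.Lib.Fus.HypAction
import Cfsg.Agent.Lib.Grp.CoprimeAbelian

/-!
An automorphism of order prime to `p` fixing a fully centralized `X` and `C_U(X)` fixes the
strongly closed `U`; perfect subsystems of a central product with an inner system lie in the other
factor.
-/

set_option autoImplicit false
set_option linter.style.haveILetI false
set_option linter.unusedSectionVars false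
set_option linter.unusedVariables false

open scoped Classical

universe u

namespace Cfsg.Agent.Fus.Ker

open Subgroup FusionSystem InvMap SatCrit FocalCent

/-- Thompson's `A × B` lemma for automorphisms. -/
theorem eq_one_of_fixed {Q : Type*} [Group Q] [Finite Q] {p : ℕ} [Fact p.Prime]
    (hQ : IsPGroup p Q) {A : Subgroup (MulAut Q)} (hA : IsPGroup p A) {g : MulAut Q}
    (hg : (orderOf g).Coprime p) (hcomm : ∀ a ∈ A, a * g = g * a)
    (h : ∀ x : Q, (∀ a ∈ A, a x = x) → g x = x) : g = 1 := by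
  let G := Q ⋊[MonoidHom.id (MulAut Q)] MulAut Q
  haveI : Finite G := Finite.of_equiv _ (SemidirectProduct.equivProd (φ := MonoidHom.id _)).symm
  let il : Q →* G := SemidirectProduct.inl
  let ir : MulAut Q →* G := SemidirectProduct.inr
  have hconj : ∀ (a : MulAut Q) (x : Q), ir a * il x * (ir a)⁻¹ = il (a x) := fun a x => by
    rw [← map_inv]
    exact (SemidirectProduct.inl_aut (φ := MonoidHom.id (MulAut Q)) a x).symm
  have hnorm : ∀ a : MulAut Q, ir a ∈ Subgroup.normalizer ((il.range : Subgroup G) : Set G) :=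
    fun a => mem_normalizer_of_forall
      (by rintro _ ⟨x, rfl⟩; exact ⟨a x, (hconj a x).symm⟩)
      (by
        rintro _ ⟨x, rfl⟩
        refine ⟨a⁻¹ x, ?_⟩
        rw [← hconj a⁻¹ x, map_inv, inv_inv])
  have hinj : Function.Injective ir := SemidirectProduct.inr_injective
  have := Grp.thompson_PQ (A.map ir) ((Subgroup.zpowers g).map ir) (hA.map ir)
    (by rw [Subgroup.card_map_of_injective hinj, Nat.card_zpowers]; exact hg)
    (by
      rintro _ ⟨a, ha, rfl⟩ _ ⟨b, hb, rfl⟩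
      obtain ⟨n, rfl⟩ := hb
      rw [← map_mul, ← map_mul, (Commute.zpow_right (hcomm a ha : Commute a g) n).eq])
    il.range (hQ.of_surjective il.rangeRestrict il.rangeRestrict_surjective)
    (by rintro _ ⟨a, -, rfl⟩; exact hnorm a) (by rintro _ ⟨a, -, rfl⟩; exact hnorm a)
    (by
      rintro _ ⟨⟨x, rfl⟩, hx⟩
      have hfix : g x = x := h x fun a ha => by
        apply SemidirectProduct.inl_injective (φ := MonoidHom.id (MulAut Q))
        show il (a x) = il x
        rw [← hconj, hx _ ⟨a, ha, rfl⟩, mul_inv_cancel_right]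
      rintro _ ⟨b, hb, rfl⟩
      obtain ⟨n, rfl⟩ := hb
      have hn : (g ^ n) x = x := by
        let St : Subgroup (MulAut Q) := MulAction.stabilizer (MulAut Q) x
        exact (St.zpow_mem (show g ∈ St from hfix) n : g ^ n ∈ St)
      conv_rhs => rw [← hn, ← hconj]
      exact (inv_mul_cancel_right _ _).symm)
  refine MulEquiv.ext fun x => ?_
  have h1 : il x * ir g = ir g * il x :=
    this ⟨g, Subgroup.mem_zpowers g, rfl⟩ (il x) ⟨x, rfl⟩
  apply SemidirectProduct.inl_injective (φ := MonoidHom.id (MulAut Q))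
  show il (g x) = il x
  rw [← hconj, ← h1, mul_inv_cancel_right]

variable {Ω : Type u} [Group Ω] {S U : Subgroup Ω} {F : FusionSystem S} {E : FusionSystem U}
  {p : ℕ} [Finite S] [Fact p.Prime] (d : Data F p E) {X : Subgroup Ω}
include d

/-- An automorphism of order prime to `p` fixing `X` and `C_U(X)` fixes the trace on `U`. -/
theorem fix_trace {Y : Subgroup Ω} (hYS : Y ≤ S) (hXY : X ≤ Y) {g : MulAut Y}
    (hg : g ∈ F.autGroup Y) (ho : (orderOf g).Coprime p) (hfX : ∀ x ∈ X, autFun g x = x)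
    (hfV : ∀ x ∈ Y, x ∈ U → x ∈ centralizerIn S X → autFun g x = x) :
    ∀ x ∈ Y, x ∈ U → autFun g x = x := by
  haveI := finite_of_le hYS
  set W := Y ⊓ U with hW
  have hWS : W ≤ S := inf_le_left.trans hYS
  haveI := finite_of_le hWS
  have hgm : IsMap F Y (autFun g) := (Fus.mem_autGroup hYS).1 hg
  have hst : ∀ x ∈ W, autFun g x ∈ W := fun x hx => ⟨autFun_mem g hx.1,
    StronglyClosed.apply_mem d.scU (hgm.res inf_le_left) inf_le_right hx⟩
  obtain ⟨γ, -, hγe⟩ := (hgm.res (inf_le_left : W ≤ Y)).exists_aut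
    (Subgroup.eq_of_le_of_card_ge (fimg_le hst) (hgm.res inf_le_left).card_fimg.ge)
  have hγo : (orderOf γ).Coprime p := coprime_of_pow ho (mulAut_ext fun x hx => by
    rw [autFun_pow_eqOn inf_le_left hγe _ x hx, pow_orderOf_eq_one, autFun_one hx.1,
      autFun_one hx])
  have hXn : X ≤ Subgroup.normalizer (W : Set Ω) := fun a ha => mem_normalizer_of_forall
    (fun x hx => ⟨Y.mul_mem (Y.mul_mem (hXY ha) hx.1) (Y.inv_mem (hXY ha)),
      StronglyClosed.conj_mem' d.scU (hYS (hXY ha)) hx.2⟩)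
    fun x hx => ⟨Y.mul_mem (Y.mul_mem (Y.inv_mem (hXY ha)) hx.1) (hXY ha), by
      simpa using StronglyClosed.conj_mem' d.scU (S.inv_mem (hYS (hXY ha))) hx.2⟩
  have hγ1 : γ = 1 := by
    refine eq_one_of_fixed (d.pG.to_le hWS)
      ((isPGroup_autInducedBy d.pG W).to_le (autInducedBy_mono (hXY.trans hYS) W)) hγo
      (fun a ha => ?_) fun x hx => Subtype.ext ?_
    · obtain ⟨t, ht, hte⟩ := mem_autInducedBy.1 ha
      refine mulAut_ext fun x hx => ?_
      rw [autFun_mul _ _ hx, autFun_mul _ _ hx, autFun_of_induced hte (autFun_mem γ hx),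
        autFun_of_induced hte hx, hγe x hx,
        hγe _ ((Subgroup.mem_normalizer_iff.1 (hXn ht) x).1 hx),
        hgm.map_conj (hXY ht) hx.1, hfX t ht]
    · rw [← autFun_coe, hγe _ x.2]
      refine hfV x x.2.1 x.2.2 (mem_centralizerIn.2 ⟨hWS x.2, fun y hy => ?_⟩)
      have := hx _ (mem_autInducedBy_of_mem hy (hXn hy))
      have h2 : y * (x : Ω) * y⁻¹ = x := congrArg Subtype.val this
      calc y * (x : Ω) = y * x * y⁻¹ * y := by group
        _ = x * y := by rw [h2]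
  intro x hx hxU
  rw [← hγe x ⟨hx, hxU⟩, hγ1, autFun_one (show x ∈ W from ⟨hx, hxU⟩)]

set_option maxHeartbeats 800000 in
/-- An automorphism of order prime to `p` fixing a fully centralized `X` and `C_U(X)` fixes `U`. -/
theorem fixes_support (hX : F.IsFullyCentralized X) :
    ∀ {Y : Subgroup Ω} {g : MulAut Y}, Y ≤ S → X ≤ Y → U ⊓ centralizerIn S X ≤ Y →
      g ∈ F.autGroup Y → (orderOf g).Coprime p → (∀ x ∈ X, autFun g x = x) →
      (∀ x ∈ U ⊓ centralizerIn S X, autFun g x = x) → Fixes F U Y (autFun g) := by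
  intro Y
  induction hk : Nat.card S - Nat.card Y using Nat.strong_induction_on generalizing Y with
  | _ N ih =>
  intro g hYS hXY hVY hg ho hfX hfV
  haveI := finite_of_le hYS
  have hgm : IsMap F Y (autFun g) := (Fus.mem_autGroup hYS).1 hg
  have hfW := fix_trace d hYS hXY hg ho hfX fun x _ hxU hxC => hfV x ⟨hxU, hxC⟩
  by_cases hUY : U ≤ Y
  · exact ⟨autFun g, hgm.res (sup_le le_rfl hUY), fun _ _ => rfl,
      fun u hu => hfW u (hUY hu) hu⟩
  obtain ⟨Y₀, hY₀, hn₀⟩ := exists_fullyNormalized F hYS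
  obtain ⟨w, hw, hwY, -⟩ := exists_map_to_fullyNormalized d.pG d.sat hn₀ hY₀
  have hYN := le_normalizerIn (S := S) hYS
  have hm := hw.res hYN
  obtain ⟨e, he, hA⟩ := exists_mulEquiv hm hwY
  have hY₀S := hn₀.1
  haveI := finite_of_le hY₀S
  set g₀ := MulAut.congr e g with hg₀
  have hg₀F : g₀ ∈ F.autGroup Y₀ := (hA g).1 hg
  have hg₀v : ∀ x ∈ Y, autFun g₀ (w x) = w (autFun g x) := fun x hx => autFun_congr e he g hx
  have hW₀ : fimg w (Y ⊓ U) = Y₀ ⊓ U := by rw [InvClass.fimg_inf d.scU hm, hwY]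
  have hg₀W : ∀ z ∈ Y₀, z ∈ U → autFun g₀ z = z := fun z hz hzU => by
    obtain ⟨x, hx, rfl⟩ := (hm.res inf_le_left).mem_fimg_iff.1 (hW₀.ge ⟨hz, hzU⟩)
    rw [hg₀v x hx.1, hfW x hx.1 hx.2]
  -- the automorphisms induced from `S` trivial modulo `U`
  let B₁ : Subgroup (MulAut Y₀) :=
    { carrier := {β | β ∈ F.autGroup Y₀ ∧ ∀ y ∈ Y₀, y⁻¹ * autFun β y ∈ U}
      mul_mem' := by
        rintro a b ⟨ha, ha'⟩ ⟨hb, hb'⟩
        refine ⟨mul_mem ha hb, fun y hy => ?_⟩
        rw [autFun_mul _ _ hy, show y⁻¹ * autFun a (autFun b y) =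
          y⁻¹ * autFun b y * ((autFun b y)⁻¹ * autFun a (autFun b y)) by group]
        exact U.mul_mem (hb' y hy) (ha' _ (autFun_mem b hy))
      one_mem' := ⟨one_mem _, fun y hy => by
        rw [autFun_one hy, inv_mul_cancel]
        exact U.one_mem⟩
      inv_mem' := by
        rintro a ⟨ha, ha'⟩
        refine ⟨inv_mem ha, fun y hy => ?_⟩
        have h1 := U.inv_mem (ha' _ (autFun_mem a⁻¹ hy))
        rw [← autFun_mul _ _ hy, mul_inv_cancel, autFun_one hy, mul_inv_rev, inv_inv] at h1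
        exact h1 }
  have hgσ : ∀ σ ∈ autInducedBy S Y₀ ⊓ B₁, g₀ * σ * g₀⁻¹ ∈ autInducedBy S Y₀ ⊓ B₁ := by
    intro σ hσ
    have hσF := hσ.2.1
    have hσm : IsMap F Y₀ (autFun σ) := (Fus.mem_autGroup hY₀S).1 hσF
    have hg₀m : IsMap F Y₀ (autFun g₀) := (Fus.mem_autGroup hY₀S).1 hg₀F
    have h1 : g₀ * σ * g₀⁻¹ ∈ B₁ := by
      refine ⟨mul_mem (mul_mem hg₀F hσF) ((F.autGroup Y₀).inv_mem hg₀F), fun y hy => ?_⟩
      obtain ⟨z, hz⟩ := g₀.surjective ⟨y, hy⟩
      rw [show y = autFun g₀ z by rw [autFun_coe, hz], autFun_conj_apply g₀ σ z.2,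
        ← hg₀m.map_inv z.2, ← hg₀m.map_mul (Y₀.inv_mem z.2) (autFun_mem σ z.2)]
      exact StronglyClosed.apply_mem d.scU (hg₀m.res inf_le_left)
        (inf_le_right : Y₀ ⊓ U ≤ U) ⟨Y₀.mul_mem (Y₀.inv_mem z.2) (autFun_mem σ z.2),
          hσ.2.2 z z.2⟩
    have h2 : g₀ * σ * g₀⁻¹ * σ⁻¹ ∈ stabMod F U Y₀ := by
      have h3 := mul_mem h1 (inv_mem hσ.2)
      refine ⟨h3.1, fun y => autFun_coe (g₀ * σ * g₀⁻¹ * σ⁻¹) y ▸ h3.2 y y.2,
        fun y hy => Subtype.ext ?_⟩
      have hσy : autFun σ⁻¹ y ∈ U := StronglyClosed.apply_mem d.scU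
        (((Fus.mem_autGroup hY₀S).1 ((F.autGroup Y₀).inv_mem hσF)).res inf_le_left)
        (inf_le_right : Y₀ ⊓ U ≤ U) ⟨y.2, hy⟩
      have hy' := autFun_mem σ⁻¹ y.2
      rw [← autFun_coe, autFun_mul _ _ y.2]
      conv_lhs => rw [show autFun σ⁻¹ (y : Ω) = autFun g₀ (autFun σ⁻¹ y) from
        (hg₀W _ hy' hσy).symm]
      rw [autFun_conj_apply g₀ σ hy', ← autFun_mul _ _ y.2, mul_inv_cancel, autFun_one y.2,
        hg₀W _ y.2 hy]
    refine ⟨?_, h1⟩
    have h4 := le_autInducedBy_of_normal d hn₀ inf_le_left (isPGroup_stabMod d hY₀S)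
      (fun η hη x hx => stabMod_conj d hY₀S hη hx) h2
    have := mul_mem h4 hσ.1
    rwa [show g₀ * σ * g₀⁻¹ * σ⁻¹ * σ = g₀ * σ * g₀⁻¹ by group] at this
  set M₀ := autInducedBy S Y₀ ⊓ B₁ ⊔ Inn Y₀
  have hM₀S : M₀ ≤ autInducedBy S Y₀ :=
    sup_le inf_le_left (inn_eq_autInducedBy Y₀ ▸ autInducedBy_mono hY₀S Y₀)
  have hgM : ∀ x ∈ M₀, g₀ * x * g₀⁻¹ ∈ M₀ := by
    have : M₀.map (MulAut.conj g₀).toMonoidHom ≤ M₀ := by
      rw [Subgroup.map_sup]
      refine sup_le_sup ?_ ?_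
      · rintro _ ⟨x, hx, rfl⟩
        exact hgσ x hx
      · rintro _ ⟨_, ⟨y, rfl⟩, rfl⟩
        exact ⟨g₀ y, MulEquiv.ext fun z => by simp⟩
    exact fun x hx => this ⟨x, hx, rfl⟩
  set M := preM S Y₀ M₀
  have hY₀M : Y₀ ≤ M := fun y hy =>
    ⟨hY₀S hy, _, Subgroup.mem_sup_right ⟨⟨y, hy⟩, rfl⟩, fun z => rfl⟩
  have hMn : M ≤ normalizerIn S Y₀ := preM_le_normalizerIn _
  have hMS : M ≤ S := hMn.trans inf_le_left
  have hg₀m : IsMap F Y₀ (autFun g₀) := (Fus.mem_autGroup hY₀S).1 hg₀F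
  obtain ⟨f, hf, hfe⟩ := receptive_extend (receptive_of_fullyNormalized d.pG d.sat hn₀) hg₀m
    (fimg_autFun g₀) (N := M) (fun m hm' => by
      refine ⟨hMn hm', ?_⟩
      obtain ⟨-, x, hx, hxe⟩ := hm'
      obtain ⟨s, hs, hse⟩ := mem_autInducedBy.1 (hM₀S (hgM x hx))
      refine ⟨s, hs, fun y hy => ?_⟩
      rw [← autFun_of_induced hse (autFun_mem g₀ hy), autFun_conj_apply g₀ x hy,
        autFun_of_induced hxe hy]) hY₀M
  have hfY : fimg f Y₀ = Y₀ := (fimg_congr hfe).trans (fimg_autFun g₀)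
  haveI := finite_of_le hMS
  have hfM : fimg f M = M := by
    refine Subgroup.eq_of_le_of_card_ge (fimg_le fun m hm' => ?_) hf.card_fimg.ge
    obtain ⟨-, x, hx, hxe⟩ := id hm'
    refine ⟨hf.apply_mem hm', g₀ * x * g₀⁻¹, hgM x hx, fun y => ?_⟩
    obtain ⟨z, rfl⟩ := g₀.surjective y
    rw [← autFun_coe (g₀ * x * g₀⁻¹), ← autFun_coe g₀ z, autFun_conj_apply g₀ x z.2,
      autFun_of_induced hxe z.2, ← hfe z z.2,
      ← hfe _ ((Subgroup.mem_normalizer_iff.1 (hMn hm').2 _).1 z.2)]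
    exact hf.map_conj hm' (hY₀M z.2)
  obtain ⟨φ₁, hφ₁, hφ₁e⟩ := hf.exists_aut hfM
  have hg₀o : (orderOf g₀).Coprime p := by rw [hg₀, MulEquiv.orderOf_eq]; exact ho
  obtain ⟨i, n, hn', hφn, hgi⟩ := InvExt.exists_coprime_power (p := p) φ₁ hg₀o
    (pow_orderOf_eq_one g₀)
  set φ := φ₁ ^ i
  have hφe : ∀ y ∈ Y₀, autFun φ y = autFun g₀ y := fun y hy => by
    rw [← autFun_pow_eqOn hY₀M (fun z hz => by rw [hφ₁e z (hY₀M hz), hfe z hz]) i y hy, hgi]
  have hwX : ∀ x ∈ X, autFun φ (w x) = w x := fun x hx => by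
    rw [hφe _ (hwY ▸ apply_mem_fimg w (hXY hx)), hg₀v x (hXY hx), hfX x hx]
  -- the centralizer of the image of `X` in `U`
  set X₀ := fimg w X with hX₀
  have hwm := hm.res hXY
  have hVX : centralizerIn U X₀ ≤ fimg w (U ⊓ centralizerIn S X) := by
    have hle : fimg w (U ⊓ centralizerIn S X) ≤ centralizerIn U X₀ := fimg_le fun c hc =>
      mem_centralizerIn.2 ⟨StronglyClosed.apply_mem d.scU (hm.res hVY) inf_le_left hc,
        (mem_centralizerIn.1 (hw.map_centralizerIn (hXY.trans hYN) (hYN (hVY hc)) hc.2.2)).2⟩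
    obtain ⟨w', hw', -, -, hw'X⟩ := hwm.exists_inv
    obtain ⟨k, hk', hke⟩ := receptive_extend (receptive_of_fullyCentralized d.pG d.sat hX) hw' hw'X
      (N := X₀ ⊔ centralizerIn S X₀) (fun y hy => by
        refine ⟨sup_le (le_normalizerIn hwm.fimg_le_S) (centralizerIn_le_normalizerIn X₀) hy, ?_⟩
        obtain ⟨a, ha, c, hc, rfl⟩ := (mem_sup_normalized (fun y hy =>
          (centralizerIn_le_normalizerIn X₀ hy).2)).1 hy
        refine ⟨w' a, hw'.apply_mem ha, fun x hx => ?_⟩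
        rw [← hw'.map_conj ha hx, show a * c * x * (a * c)⁻¹ = a * (c * x * c⁻¹) * a⁻¹ by group,
          show c * x * c⁻¹ = x by rw [← (mem_centralizerIn.1 hc).2 x hx, mul_inv_cancel_right]])
      le_sup_left
    have hdom : centralizerIn U X₀ ≤ X₀ ⊔ centralizerIn S X₀ := fun c hc =>
      Subgroup.mem_sup_right ⟨d.le_S hc.1, hc.2⟩
    haveI : Finite ↥(centralizerIn U X₀) :=
      finite_of_le (S := S) (inf_le_left.trans d.le_S)
    haveI : Finite ↥(U ⊓ centralizerIn S X) :=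
      finite_of_le (S := S) (inf_le_left.trans d.le_S)
    refine (Subgroup.eq_of_le_of_card_ge hle ?_).ge
    rw [(hm.res hVY).card_fimg, ← (hk'.res hdom).card_fimg]
    have hkX : fimg k X₀ = X := (fimg_congr hke).trans hw'X
    exact Subgroup.card_le_of_le (fimg_le fun c hc =>
      ⟨StronglyClosed.apply_mem d.scU (hk'.res hdom) inf_le_left hc,
        hkX ▸ hk'.map_centralizerIn le_sup_left (hdom hc) hc.2⟩)
  have hφF : φ ∈ F.autGroup M := pow_mem hφ₁ i
  have hX₀M : X₀ ≤ M := (fimg_mono w hXY).trans (hwY.le.trans hY₀M)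
  have hfixM := fix_trace d (X := X₀) hMS hX₀M hφF (coprime_of_pow hn' hφn) (fun z hz => by
      obtain ⟨x, hx, rfl⟩ := hwm.mem_fimg_iff.1 hz
      exact hwX x hx) fun z _ hzU hzC => by
      obtain ⟨v, hv, rfl⟩ := (hm.res hVY).mem_fimg_iff.1
        (hVX (mem_centralizerIn.2 ⟨hzU, (mem_centralizerIn.1 hzC).2⟩))
      rw [hφe _ (hwY ▸ apply_mem_fimg w (hVY hv)), hg₀v v (hVY hv), hfV v hv]
  -- back to the enlargement of `Y`
  set L := Y ⊔ normalizerIn U Y with hL
  have hNU : normalizerIn U Y ≤ normalizerIn S Y := fun u hu => ⟨d.le_S hu.1, hu.2⟩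
  have hLN : L ≤ normalizerIn S Y := sup_le hYN hNU
  have hwU : ∀ u ∈ normalizerIn U Y, w u ∈ M ∧ w u ∈ U := by
    intro u hu
    have huU : w u ∈ U := StronglyClosed.apply_mem d.scU (hw.res hNU) inf_le_left hu
    have hun : w u ∈ Subgroup.normalizer (Y₀ : Set Ω) :=
      (hwY ▸ hw.map_normalizerIn hYN (hNU hu) hu.2 : w u ∈ normalizerIn S Y₀).2
    have hB : Y₀.normalizerMonoidHom ⟨w u, hun⟩ ∈ B₁ := by
      refine ⟨autInducedBy_le_autGroup F hY₀S (mem_autInducedBy_of_mem (d.le_S huU) hun),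
        fun y hy => ?_⟩
      rw [autFun_normalizerMonoidHom hun hy,
        show y⁻¹ * (w u * y * (w u)⁻¹) = y⁻¹ * w u * y⁻¹⁻¹ * (w u)⁻¹ by group]
      exact U.mul_mem (StronglyClosed.conj_mem' d.scU (S.inv_mem (hY₀S hy)) huU) (U.inv_mem huU)
    exact ⟨⟨d.le_S huU, _,
      Subgroup.mem_sup_left ⟨mem_autInducedBy_of_mem (d.le_S huU) hun, hB⟩, fun _ => rfl⟩, huU⟩
  have hwL : fimg w L ≤ M := by
    rw [hL, (hw.res hLN).fimg_sup]
    exact sup_le (hwY.le.trans hY₀M) (fimg_le fun u hu => (hwU u hu).1)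
  have hφm : IsMap F M (autFun φ) := (Fus.mem_autGroup hMS).1 hφF
  have hwLm := hw.res hLN
  haveI := finite_of_le (hwL.trans hMS)
  have hLY : Y ≤ L := le_sup_left
  have hLU : normalizerIn U Y ≤ L := le_sup_right
  have hfix₀ : fimg (autFun φ) (fimg w L) = fimg w L := by
    refine Subgroup.eq_of_le_of_card_ge ?_ (hφm.res hwL).card_fimg.ge
    rw [← hwLm.fimg_comp, hL, (hwLm.comp (hφm.res hwL) fun x hx => apply_mem_fimg w hx).fimg_sup]
    refine sup_le (fimg_le fun x hx => ?_) (fimg_le fun u hu => ?_)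
    · show autFun φ (w x) ∈ _
      rw [hφe _ (hwY ▸ apply_mem_fimg w hx), hg₀v x hx]
      exact apply_mem_fimg w (hLY (autFun_mem g hx))
    · show autFun φ (w u) ∈ _
      rw [hfixM _ (hwU u hu).1 (hwU u hu).2]
      exact apply_mem_fimg w (hLU hu)
  obtain ⟨φ', hφ', hφ'e⟩ := (hφm.res hwL).exists_aut hfix₀
  obtain ⟨w', hw', hw1, -, hw'L⟩ := hwLm.exists_inv
  obtain ⟨e', he', hA'⟩ := exists_mulEquiv hw' hw'L
  set g' := MulAut.congr e' φ'
  have hg'v : ∀ x ∈ L, autFun g' x = w' (autFun φ (w x)) := fun x hx => by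
    conv_lhs => rw [← hw1 x hx]
    rw [autFun_congr e' he' φ' (apply_mem_fimg w hx), hφ'e _ (apply_mem_fimg w hx)]
  have hg'Y : ∀ x ∈ Y, autFun g' x = autFun g x := fun x hx => by
    rw [hg'v x (hLY hx), hφe _ (hwY ▸ apply_mem_fimg w hx), hg₀v x hx,
      hw1 _ (hLY (autFun_mem g hx))]
  have hcard : Nat.card Y < Nat.card L := by
    have hHS : Y ⊔ U ≤ S := sup_le hYS d.le_S
    haveI := finite_of_le hHS
    obtain ⟨z, hz, hzY⟩ := SetLike.exists_of_lt (lt_normalizerIn (d.pG.to_le hHS)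
      (lt_of_le_of_ne le_sup_left fun h => hUY (h ▸ le_sup_right) : Y < Y ⊔ U))
    obtain ⟨y, hy, u, hu, rfl⟩ := mem_sup_dest (hYS.trans fun s hs =>
      mem_normalizer_of_forall (fun x hx => StronglyClosed.conj_mem' d.scU hs hx) fun x hx => by
        simpa using StronglyClosed.conj_mem' d.scU (S.inv_mem hs) hx) hz.1
    have hun : u ∈ Subgroup.normalizer (Y : Set Ω) := by
      have := Subgroup.mul_mem _ (Subgroup.inv_mem _ (Subgroup.le_normalizer hy)) hz.2
      rwa [inv_mul_cancel_left] at this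
    haveI := finite_of_le (hLN.trans inf_le_left)
    refine card_lt_of_lt (lt_of_le_of_ne hLY fun h => hzY (Y.mul_mem hy ?_))
    exact h ▸ hLU ⟨hu, hun⟩
  have hLS : L ≤ S := hLN.trans inf_le_left
  have hFix := ih _ (by
      have := Subgroup.card_le_of_le hLS
      omega) rfl (g := g') hLS (hXY.trans hLY) (hVY.trans hLY) ((hA' φ').1 hφ') (by
      rw [MulEquiv.orderOf_eq]
      exact coprime_of_pow hn' (mulAut_ext fun y hy => by
        rw [autFun_pow_eqOn hwL hφ'e n y hy, hφn, autFun_one (hwL hy), autFun_one hy]))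
    (fun x hx => by rw [hg'Y x (hXY hx), hfX x hx])
    fun x hx => by rw [hg'Y x (hVY hx), hfV x hx]
  exact (hFix.res hLY).congr hg'Y

omit d in
/-- A perfect subsystem of the central product of an inner system and `L` lies in `L`. -/
theorem le_factor {R TL TD TC : Subgroup Ω} {L : FusionSystem TL} {D : FusionSystem TD}
    (dc : Layer.Central D p (innerFusionSystem R) L) [Finite TD] {C : FusionSystem TC}
    (hCD : C.IsSubsystemOf D) (hperf : C.hyperfocalSubgroup p = TC) : C.IsSubsystemOf L := by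
  haveI := finite_of_le dc.le₁
  have hTC : TC ≤ TL := by
    rw [← hperf]
    refine hyperfocal_le_of_coprime fun P hP α ho x hx => ?_
    have hαC : IsMap C P (autFun (α : MulAut P)) := (Fus.mem_autGroup hP).1 α.2
    have hPD : P ≤ R ⊔ TL := dc.sup_eq ▸ (hαC.mono hCD).source_le
    obtain ⟨-, f₁, f₂, hf₁, hf₂, hfe⟩ := (dc.maps P _).1 (hαC.mono hCD)
    obtain ⟨φ₁, hφ₁, hφe⟩ := hf₁.exists_hom
    obtain ⟨-, r, hr, hre⟩ := hφ₁
    have hstep : ∀ y ∈ P, (r * y * r⁻¹)⁻¹ * autFun (α : MulAut P) y ∈ TL := by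
      intro y hy
      obtain ⟨a, ha, b, hb, rfl⟩ := mem_sup_dest (A := R) (B := TL) (fun z hz =>
        mem_normalizer_of_forall (fun t ht => by
          rw [dc.comm z hz t ht, mul_inv_cancel_right]; exact ht) fun t ht => by
          rw [mul_assoc, ← dc.comm z hz t ht, inv_mul_cancel_left]; exact ht) (hPD hy)
      have haA : a ∈ (P ⊔ TL) ⊓ R := ⟨by
        rw [show a = a * b * b⁻¹ by group]
        exact Subgroup.mul_mem _ (Subgroup.mem_sup_left hy) (Subgroup.mem_sup_right (TL.inv_mem hb)),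
        ha⟩
      have hbB : b ∈ (P ⊔ R) ⊓ TL := ⟨by
        rw [show b = a⁻¹ * (a * b) by group]
        exact Subgroup.mul_mem _ (Subgroup.mem_sup_right (R.inv_mem ha)) (Subgroup.mem_sup_left hy),
        hb⟩
      have h2 : f₂ b ∈ TL := hf₂.apply_mem hbB
      rw [hfe a haA b hbB hy, show f₁ a = r * a * r⁻¹ from (hφe ⟨a, haA⟩).symm.trans (hre ⟨a, haA⟩),
        show r * (a * b) * r⁻¹ = r * a * r⁻¹ * (r * b * r⁻¹) by group,
        show r * b * r⁻¹ = b by rw [dc.comm r hr b hb, mul_inv_cancel_right],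
        show (r * a * r⁻¹ * b)⁻¹ * (r * a * r⁻¹ * f₂ b) = b⁻¹ * f₂ b by group]
      exact TL.mul_mem (TL.inv_mem hb) h2
    have hj : ∀ j : ℕ, ∀ y ∈ P,
        (r ^ j * y * (r ^ j)⁻¹)⁻¹ * autFun ((α : MulAut P) ^ j) y ∈ TL := by
      intro j
      induction j with
      | zero => intro y hy; simp [autFun_one hy]
      | succ j ihj =>
        intro y hy
        set z := autFun ((α : MulAut P) ^ j) y
        have h1 : (r ^ j * y * (r ^ j)⁻¹)⁻¹ * z ∈ TL := ihj y hy
        have hz : z ∈ P := autFun_mem _ hy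
        rw [pow_succ' (α : MulAut P), autFun_mul _ _ hy, pow_succ' r,
          show (r * r ^ j * y * (r * r ^ j)⁻¹)⁻¹ * autFun (α : MulAut P) z =
            r * ((r ^ j * y * (r ^ j)⁻¹)⁻¹ * z) * r⁻¹ *
              ((r * z * r⁻¹)⁻¹ * autFun (α : MulAut P) z) by group,
          dc.comm r hr _ h1, mul_inv_cancel_right]
        exact TL.mul_mem h1 (hstep z hz)
    obtain ⟨k, hk⟩ := (dc.pG.to_le dc.le₁) ⟨r, hr⟩
    have hrk : r ^ p ^ k = 1 := congrArg Subtype.val hk
    have hfix : ∀ y ∈ P, y⁻¹ * autFun ((α : MulAut P) ^ p ^ k) y ∈ TL := fun y hy => by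
      simpa [hrk] using hj (p ^ k) y hy
    have hco : (orderOf (α : MulAut P)).Coprime p := by rw [Subgroup.orderOf_coe]; exact ho
    obtain ⟨l, hl⟩ :=
      exists_pow_eq_self_of_coprime (x := (α : MulAut P)) (n := p ^ k) (hco.pow_right k).symm
    rw [← hl]
    suffices h : ∀ (i : ℕ), ∀ y ∈ P, y⁻¹ * autFun (((α : MulAut P) ^ p ^ k) ^ i) y ∈ TL from
      h l x hx
    intro i
    induction i with
    | zero => intro y hy; simp [autFun_one hy]
    | succ i ihi =>
      intro y hy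
      rw [pow_succ', autFun_mul _ _ hy, show y⁻¹ * autFun ((α : MulAut P) ^ p ^ k)
          (autFun (((α : MulAut P) ^ p ^ k) ^ i) y) =
        y⁻¹ * autFun (((α : MulAut P) ^ p ^ k) ^ i) y *
          ((autFun (((α : MulAut P) ^ p ^ k) ^ i) y)⁻¹ * autFun ((α : MulAut P) ^ p ^ k)
            (autFun (((α : MulAut P) ^ p ^ k) ^ i) y)) by group]
      exact TL.mul_mem (ihi y hy) (hfix _ (autFun_mem _ hy))
  intro P φ hφ
  have hf := isMap_toFun hφ
  exact mem_hom_iff.2 (dc.symm.map_factor (hf.source_le.trans hTC) (hf.mono hCD))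

end Cfsg.Agent.Fus.Ker
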