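import Cfsg.Agent.Lib.Fus.LayerExist
import Cfsg.Agent.Lib.Fus.CommProduct
import Cfsg.Agent.Lib.Fus.CentralizerSubgroup
import Cfsg.Prelude.Def_FusionFitting

/-!
The generalized Fitting subsystem: existence, normality, and self-centralization.
-/

set_option autoImplicit false
set_option linter.style.haveILetI false
set_option linter.unusedSectionVars false

open scoped Classical

universe u

namespace Cfsg.Agent.Fus.Layer

open Subgroup FusionSystem FocalCent

variable {Ω : Type u} [Group Ω] {S : Subgroup Ω} {F : FusionSystem S} {p : ℕ} [Finite S]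
  [Fact p.Prime]

/-- The core and the layer are commuting normal subsystems meeting in their centres. -/
theorem factors_core_layer (hS : IsPGroup p S) (hF : F.IsSaturated p) {T : Subgroup Ω}
    {E : FusionSystem T} (hE : E.IsLayerOf F p) :
    Comm.Factors F p (innerFusionSystem F.core) E := by
  have hR := isNormal_core F
  have hn := CompFree.inner_isNormalIn hS hF hR
  have hTS : T ≤ S := hE.1.1.2.2.2.1.1
  haveI : Finite T := finite_of_le hTS
  haveI : Finite ↥F.core := finite_of_le hR.1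
  have hTC : T ≤ centralizerIn S F.core :=
    (mem_centralizerHom.1 (CoreCent.layer_le_centralizer hS hF hE T (subtype_mem E le_rfl))).1
  refine ⟨hS, hF, hn, hE.1, fun a ha b hb => (hTC hb).2 a ha, ?_, ?_⟩
  · refine Comm.le_center_of_fixed (hS.to_le hR.1) hn.1.1 inf_le_left
      (fun z hz s hs => ((hTC hz.2).2 s hs).symm) fun P f hf z hz hzP => ?_
    obtain ⟨φ, ⟨-, g, hg, hge⟩, e⟩ := hf.exists_hom
    rw [← e ⟨z, hzP⟩, hge ⟨z, hzP⟩, (hTC hz.2).2 g hg, mul_inv_cancel_right]
  · refine Comm.le_center_of_fixed (hS.to_le hTS) hE.1.1.1 inf_le_right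
      (fun z hz s hs => (hTC hs).2 z hz.1) fun P f hf z hz hzP => ?_
    obtain ⟨φ, hφ, e⟩ := hf.exists_hom
    obtain ⟨-, -, g, -, hg1, hg2⟩ :=
      mem_centralizerHom.1 (CoreCent.layer_le_centralizer hS hF hE P hφ)
    rw [← e ⟨z, hzP⟩, ← hg1 ⟨z, hzP⟩]
    exact hg2 z hz.1

/-- The generalized Fitting subsystem exists. -/
theorem exists_fitting (hS : IsPGroup p S) (hF : F.IsSaturated p) :
    ∃ (U : Subgroup Ω) (D : FusionSystem U), D.IsGeneralizedFittingOf F p := by
  obtain ⟨T, E, hE⟩ := exists_layer hS hF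
  obtain ⟨D, hD⟩ := (factors_core_layer hS hF hE).exists_product
  exact ⟨_, D, T, E, hE, hD⟩

/-- The generalized Fitting subsystem is normal. -/
theorem fitting_normal (hS : IsPGroup p S) (hF : F.IsSaturated p) {U : Subgroup Ω}
    {D : FusionSystem U} (hD : D.IsGeneralizedFittingOf F p) : D.IsNormalIn F p := by
  obtain ⟨T, E, hE, hc⟩ := hD
  exact (factors_core_layer hS hF hE).normal hc

/-- The generalized Fitting subsystem contains its centralizer. -/
theorem fitting_self_centralizing (hS : IsPGroup p S) (hF : F.IsSaturated p) {U : Subgroup Ω}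
    {D : FusionSystem U} (hD : D.IsGeneralizedFittingOf F p) :
    (D.center ≤ centralizerIn S U ∧ ∀ P : Subgroup Ω, D.Hom P ⊆ F.centralizerHom D.center P) ∧
      ∀ Y : Subgroup Ω, Y ≤ centralizerIn S U →
        (∀ P : Subgroup Ω, D.Hom P ⊆ F.centralizerHom Y P) → Y ≤ D.center := by
  have hn := fitting_normal hS hF hD
  obtain ⟨T, E, hE, hc⟩ := hD
  obtain ⟨hU, -⟩ := Comm.isMap_iff_splits hc
  have hUS : U ≤ S := hn.1.2.2.2.1.1
  haveI : Finite U := finite_of_le hUS
  have hUp := hS.to_le hUS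
  have hZ := isCentral_center D
  have hUZ : U ≤ centralizerIn S D.center := fun x hx =>
    ⟨hUS hx, fun z hz => (D.center_le_centralizer hz x hx).symm⟩
  refine ⟨⟨fun z hz => ⟨hUS (hZ.1 hz), fun x hx => D.center_le_centralizer hz x hx⟩,
    fun P φ hφ => ?_⟩, fun Y hY hYD => ?_⟩
  · obtain ⟨g, hg, hg1, hg2⟩ := (isCentral_iff.1 hZ).2 P _ (isMap_toFun hφ)
    exact mem_centralizerHom.2 ⟨(D.le_of_mem hφ).1.trans hUZ,
      fun x => hUZ ((D.le_of_mem hφ).2 x), g, hg.mono hn.1.2.2.1,
      fun x => (hg1 x x.2).trans (toFun_coe φ x), hg2⟩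
  have d := CentNormal.setup_centSub hS hF hn
  set Y₀ := CentNormal.centSub F D
  obtain ⟨D', hD', -⟩ := d.exists_normal
  have hY₀ : Y₀ ≤ centralizerIn S U := CentNormal.centSub_le F D
  have hYY₀ : Y ≤ Y₀ := CentNormal.le_centSub hY hYD
  haveI : Finite Y₀ := finite_of_le (hY₀.trans inf_le_left)
  have hY₀p := hS.to_le (hY₀.trans inf_le_left)
  have hno : ∀ (X : Subgroup Ω) (C : FusionSystem X), ¬ C.IsComponentIn D' p := by
    intro X C hC
    have hX : X ≤ Y₀ := CompFree.subnormal_le hC.1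
    have hXT : X ≤ T := by
      obtain ⟨hle, -⟩ := E.le_of_mem (hE.2.1 X C ⟨.step hC.1 hD', hC.2⟩ X (subtype_mem C le_rfl))
      exact hle
    haveI : Finite X := finite_of_le hX
    refine S5148.result p (hY₀p.to_le hX) C hC.2 ⟨⟨fun a b => Subtype.ext ?_⟩⟩
    exact ((hY₀ (hX a.2)).2 b (hU.ge (Subgroup.mem_sup_right (hXT b.2)))).symm
  have hc' : D'.IsConstrained p :=
    CompFree.isConstrained_of_no_components _ _ D' le_rfl le_rfl hY₀p hD'.1.1 hno
  have hYU : Y ≤ U := fun x hx => hU.ge (Subgroup.mem_sup_left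
    (CompFree.le_core_of_constrained hS hF hD' hc' (hYY₀ hx)
      fun r hr => (hY hx).2 r (hU.ge (Subgroup.mem_sup_left hr))))
  refine Comm.le_center_of_fixed hUp hn.1.1 hYU (fun z hz s hs => ((hY hz).2 s hs).symm)
    fun P f hf z hz hzP => ?_
  obtain ⟨φ, hφ, e⟩ := hf.exists_hom
  obtain ⟨-, -, g, -, hg1, hg2⟩ := mem_centralizerHom.1 (hYD P hφ)
  rw [← e ⟨z, hzP⟩, ← hg1 ⟨z, hzP⟩]
  exact hg2 z hz

end Cfsg.Agent.Fus.Layer
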