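import Cfsg.Agent.Lib.Fus.LayerDichotomy
import Cfsg.Agent.Lib.Fus.LayerProduct
import Cfsg.Agent.Lib.Fus.CommGeneral
import Cfsg.Agent.Lib.Fus.CentralizerSubgroup
import Cfsg.Agent.Lib.Fus.IsoComponent
import Cfsg.Agent.Lib.Fus.ResidualNormal
import Cfsg.Agent.Lib.Fus.PPrimeResidual

/-!
The components are normal in the layer, and the supports of the components generate its support.
-/

set_option autoImplicit false
set_option linter.style.haveILetI false
set_option linter.unusedSectionVars false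

open scoped Classical

universe u

namespace Cfsg.Agent.Fus.Layer

open Subgroup FusionSystem FocalCent

variable {Ω : Type u} [Group Ω] {S : Subgroup Ω} {F : FusionSystem S} {p : ℕ} [Finite S]
  [Fact p.Prime]

/-- The layer of a normal subsystem contains a normal subsystem on its support. -/
theorem exists_normal_layer (hS : IsPGroup p S) (hF : F.IsSaturated p) {T : Subgroup Ω}
    {M : FusionSystem T} (hM : M.IsNormalIn F p) {TL : Subgroup Ω} {L : FusionSystem TL}
    (hL : L.IsLayerOf M p) :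
    ∃ L₀ : FusionSystem TL, L₀.IsNormalIn F p ∧ L₀.IsSubsystemOf L := by
  have hinv := hM.1.2.2
  have hTsc := hinv.2.1
  have hTS := hTsc.1
  haveI := finite_of_le hTS
  have hTp := hS.to_le hTS
  have hLinv := hL.1.1.2.2
  have hTL : TL ≤ T := hLinv.2.1.1
  have haut : ∀ {a : MulAut T}, a ∈ F.autGroup T → Transport.img (autFun a) TL = TL ∧
      ∀ (P : Subgroup Ω) (h : Ω → Ω), IsMap L P h →
        IsMap L (Transport.img (autFun a) P) (fun y => autFun a (h (autFun a⁻¹ y))) :=
    fun ha => (Transport.Iso.of_autGroup hinv ha).layer hTp hL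
  have hTLsc : F.StronglyClosed TL := stronglyClosed_of_forall (hTL.trans hTS)
    fun R hR f hf x hx => by
      obtain ⟨a, ha, f₀, hf₀, hfe⟩ := frattini_of_isInvariantIn hinv (hR.trans hTL) hf
      rw [hfe x hx, ← (haut ha).1]
      exact Transport.apply_mem_img _ (StronglyClosed.apply_mem hLinv.2.1 hf₀ hR hx)
  have hsub : L.IsSubsystemOf F := fun P => (hLinv.1 P).trans (hinv.1 P)
  have hstrong : StrongInv F L := by
    intro P Q f u hPQ hQ hf hfm hu
    obtain ⟨a, ha, u₀, hu₀, hue⟩ := frattini_of_isInvariantIn hinv (hQ.trans hTL) hu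
    obtain ⟨k, hk, hke⟩ := ResInv.strongInv_of_invariant hLinv P Q f u₀ hPQ hQ hf hfm hu₀
    have hm : ∀ x ∈ P, u₀ x ∈ T := fun x hx => hu₀.apply_mem (hPQ hx)
    have himg : fimg u P = Transport.img (autFun a) (fimg u₀ P) := by
      refine le_antisymm (fimg_le fun x hx => ?_) (Transport.img_le fun y hy => ?_)
      · rw [hue x (hPQ hx)]
        exact Transport.apply_mem_img _ (apply_mem_fimg u₀ hx)
      · obtain ⟨x, hx, rfl⟩ := (hu₀.res hPQ).mem_fimg_iff.1 hy
        rw [← hue x (hPQ hx)]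
        exact apply_mem_fimg u hx
    refine ⟨_, himg ▸ (haut ha).2 _ k hk, fun x hx => ?_⟩
    show autFun a (k (autFun a⁻¹ (u x))) = u (f x)
    rw [hue x (hPQ hx), autFun_inv_apply a (hm x hx), hke x hx, hue _ (hfm x hx)]
  have hw : L.IsWeaklyNormalIn F p :=
    ⟨hL.1.1.1, hF, ResInv.isInvariantIn_of_strongInv hsub hTLsc hstrong
      fun hP hf => dec_of_strongInv hS hF hstrong hTLsc hP hf⟩
  haveI := finite_of_le hTLsc.1
  obtain ⟨L₀, hL₀⟩ := PrimeIndex.exists_residual (hS.to_le hTLsc.1) hw.1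
  exact ⟨L₀, ResNorm.residual_isNormalIn hS hw hL₀, hL₀.2.1.1⟩

/-- The support of a least normal subsystem lies in the supports of the others. -/
theorem support_le {T U : Subgroup Ω} {M : FusionSystem T} {N : FusionSystem U}
    (h : M.IsSubsystemOf N) : T ≤ U :=
  (N.le_of_mem (h _ (subtype_mem M le_rfl))).1

/-- A system lying in a subsystem has the same support and maps. -/
theorem eq_of_sub {U : Subgroup Ω} {G : FusionSystem U} (hG : G.IsSubsystemOf F)
    (h : F.IsSubsystemOf G) : U = S ∧ ∀ P, G.Hom P = F.Hom P :=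
  ⟨le_antisymm (support_le hG) (support_le h), fun P => (hG P).antisymm (h P)⟩

/-- The least normal subsystem with a given subgroup in its support. -/
theorem exists_least (hS : IsPGroup p S) (hF : F.IsSaturated p) {X : Subgroup Ω} (hX : X ≤ S) :
    ∃ (T : Subgroup Ω) (M : FusionSystem T), M.IsNormalIn F p ∧ X ≤ T ∧
      ∀ (U : Subgroup Ω) (N : FusionSystem U), N.IsNormalIn F p → X ≤ U → M.IsSubsystemOf N := by
  let Q : ℕ → Prop := fun n => ∃ (T : Subgroup Ω) (E : FusionSystem T), E.IsNormalIn F p ∧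
    X ≤ T ∧ (maps E).ncard = n
  have hQ : ∃ n, Q n := ⟨_, S, F, isNormalIn_self hF, hX, rfl⟩
  obtain ⟨T, E, hE, hXT, hn⟩ := Nat.find_spec hQ
  refine ⟨T, E, hE, hXT, fun R D hD hXR => ?_⟩
  have d : Inter.Two F p E D := ⟨hS, hF, hE, hD⟩
  have hI := Inter.interSys_normal d
  have h1 := (Inter.interSys_normal_sub d hE inf_le_left fun {R} hR {b} hb => hb.2.2.2.1).1.2.2.1
  have h2 := (Inter.interSys_normal_sub d hD inf_le_right fun {R} hR {b} hb => hb.2.2.2.2).1.2.2.1
  haveI := finite_of_le hE.1.2.2.2.1.1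
  have hle : maps (Inter.interSys d) ⊆ maps E := fun x hx => h1 x.1 hx
  have hmin : Nat.find hQ ≤ (maps (Inter.interSys d)).ncard :=
    Nat.find_le ⟨_, _, hI, le_inf hXT hXR, rfl⟩
  have heq := Set.eq_of_subset_of_ncard_le hle (hn ▸ hmin) (finite_maps E)
  intro P φ hφ
  have : (⟨P, φ⟩ : Σ P : Subgroup Ω, ↥P →* Ω) ∈ maps (Inter.interSys d) := heq.symm ▸ hφ
  exact h2 P this

/-- A least normal subsystem is normal in the normal subsystems containing it. -/
theorem least_normal_in (hS : IsPGroup p S) (hF : F.IsSaturated p) {T U X : Subgroup Ω}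
    {M : FusionSystem T} {N : FusionSystem U} (hM : M.IsNormalIn F p) (hN : N.IsNormalIn F p)
    (hXT : X ≤ T) (hXU : X ≤ U)
    (hmin : ∀ (U : Subgroup Ω) (N : FusionSystem U), N.IsNormalIn F p → X ≤ U →
      M.IsSubsystemOf N) : M.IsNormalIn N p := by
  have d : Inter.Two F p M N := ⟨hS, hF, hM, hN⟩
  have hI := Inter.interSys_normal d
  have h1 := Inter.interSys_normal_sub d hM inf_le_left fun {R} hR {b} hb => hb.2.2.2.1
  have h2 := Inter.interSys_normal_sub d hN inf_le_right fun {R} hR {b} hb => hb.2.2.2.2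
  have hle := hmin _ _ hI (le_inf hXT hXU)
  have heq : ∀ P, (Inter.interSys d).Hom P = M.Hom P :=
    fun P => (h1.1.2.2.1 P).antisymm (hle P)
  revert h2 heq
  generalize Inter.interSys d = J
  revert J
  rw [show T ⊓ U = T from inf_eq_left.2 (support_le (hmin U N hN hXU))]
  intro J h heq
  exact eq_of_hom_eq heq ▸ h

/-- The supports of the components. -/
def supports (F : FusionSystem S) (p : ℕ) : Set (Subgroup Ω) :=
  {U | ∃ C : FusionSystem U, C.IsComponentIn F p}

/-- No proper normal subsystem has all the components' supports in its support. -/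
def Sharp (F : FusionSystem S) (p : ℕ) : Prop :=
  ∀ (U : Subgroup Ω) (N : FusionSystem U), N.IsNormalIn F p →
    (∀ X ∈ supports F p, X ≤ U) → F.IsSubsystemOf N

/-- A least normal subsystem over the supports of some components is sharp. -/
theorem sharp_least (hS : IsPGroup p S) (hF : F.IsSaturated p) {T : Subgroup Ω}
    {M : FusionSystem T} (hM : M.IsNormalIn F p) {A : Set (Subgroup Ω)}
    (hA : ∀ X ∈ A, X ∈ supports F p) (hAT : sSup A ≤ T)
    (hmin : ∀ (U : Subgroup Ω) (N : FusionSystem U), N.IsNormalIn F p → sSup A ≤ U →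
      M.IsSubsystemOf N) : Sharp M p := by
  intro U N hN hU
  haveI := finite_of_le hM.1.2.2.2.1.1
  obtain ⟨TL, L, hL⟩ := exists_layer (hS.to_le hM.1.2.2.2.1.1) hM.1.1
  obtain ⟨L₀, hL₀, hL₀L⟩ := exists_normal_layer hS hF hM hL
  have hXT : sSup A ≤ TL := sSup_le fun X hX => by
    obtain ⟨C, hC⟩ := hA X hX
    exact support_le (hL.2.1 X C ⟨subnormal_of_le hC.1 Fact.out ‹_› hS hF hC.2 M hM
      ((le_sSup hX).trans hAT), hC.2⟩)
  have hLN : L.IsSubsystemOf N := hL.2.2 U N hN fun V C hC =>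
    component_le (hS.to_le hM.1.2.2.2.1.1) hM.1.1 hC hN (hU V ⟨C, hC⟩)
  exact fun P => ((hmin _ L₀ hL₀ hXT P).trans (hL₀L P)).trans (hLN P)

/-- A quasisimple subnormal subsystem is the whole system or has its support in a proper normal
subsystem. -/
theorem eq_or_proper {U : Subgroup Ω} {C : FusionSystem U} (hC : C.IsSubnormalIn F p) :
    (U = S ∧ ∀ P, C.Hom P = F.Hom P) ∨
      ∃ (V : Subgroup Ω) (G : FusionSystem V), G.IsNormalIn F p ∧ U ≤ V ∧ ¬ F.IsSubsystemOf G := by
  have key : ∀ (_ : Finite S) (_ : p.Prime), (U = S ∧ ∀ P, C.Hom P = F.Hom P) ∨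
      ∃ (V : Subgroup Ω) (G : FusionSystem V), G.IsNormalIn F p ∧ U ≤ V ∧
        ¬ F.IsSubsystemOf G := by

    induction hC with
    | refl F p => exact fun _ _ => Or.inl ⟨rfl, fun _ => rfl⟩
    | step hsub hD ih =>
      rename_i U V S C G F p
      intro _ hp
      by_cases h : F.IsSubsystemOf G
      · haveI : Fact (Nat.Prime _) := ⟨hp⟩
        obtain ⟨rfl, he⟩ := eq_of_sub hD.1.2.2.1 h
        obtain rfl := eq_of_hom_eq he
        exact ih ‹_› hp
      · exact Or.inr ⟨_, _, hD, CompFree.subnormal_le hsub, h⟩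
  exact key ‹_› Fact.out

theorem comm_sSup {A : Set (Subgroup Ω)} {Y : Subgroup Ω}
    (h : ∀ X ∈ A, ∀ a ∈ X, ∀ b ∈ Y, a * b = b * a) :
    ∀ a ∈ sSup A, ∀ b ∈ Y, a * b = b * a := fun a ha b hb =>
  ((sSup_le fun X hX x hx y hy => (h X hX x hx y hy).symm :
    sSup A ≤ Subgroup.centralizer (Y : Set Ω)) ha b hb).symm

/-- The support of a component is not abelian. -/
theorem component_not_comm (hS : IsPGroup p S) {U : Subgroup Ω} {C : FusionSystem U}
    (hC : C.IsComponentIn F p) (h : ∀ a ∈ U, ∀ b ∈ U, a * b = b * a) : False :=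
  haveI := finite_of_le (CompFree.subnormal_le hC.1)
  S5148.result p (hS.to_le (CompFree.subnormal_le hC.1)) C hC.2
    ⟨⟨fun a b => Subtype.ext (h a a.2 b b.2)⟩⟩

/-- What is proved by induction for a sharp system. -/
def Struct (F : FusionSystem S) (p : ℕ) : Prop :=
  (∀ (U : Subgroup Ω) (C : FusionSystem U), C.IsComponentIn F p →
    C.IsNormalIn F p ∧ C.center ≤ F.center) ∧ S ≤ sSup (supports F p)

/-- The facts about sharp proper normal subsystems used in the induction. -/
def Below (F : FusionSystem S) (p : ℕ) : Prop :=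
  ∀ (T : Subgroup Ω) (M : FusionSystem T), M.IsNormalIn F p → ¬ F.IsSubsystemOf M → Sharp M p →
    Struct M p

variable (hS : IsPGroup p S) (hF : F.IsSaturated p) (hB : Below F p)
include hS hF hB

/-- The least normal subsystems over two components not both in one of them share no component. -/
theorem no_common {T : Subgroup Ω} {M : FusionSystem T} (hM : M.IsNormalIn F p)
    {V : Subgroup Ω} {K : FusionSystem V} (hK : K.IsComponentIn F p) (hV : ¬ V ≤ T)
    {TK : Subgroup Ω} {MK : FusionSystem TK} (hMK : MK.IsNormalIn F p) (hVK : V ≤ TK)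
    (hmin : ∀ (U : Subgroup Ω) (N : FusionSystem U), N.IsNormalIn F p → V ≤ U →
      MK.IsSubsystemOf N) (hproper : ¬ F.IsSubsystemOf MK) (hsh : Sharp MK p)
    {U : Subgroup Ω} {C : FusionSystem U} (hC : C.IsComponentIn F p) (hUT : U ≤ T)
    (hUK : U ≤ TK) : False := by
  obtain ⟨TI, I, hI, hUI, hImin⟩ := exists_least hS hF (CompFree.subnormal_le hC.1)
  have hTKS : TK ≤ S := hMK.1.2.2.2.1.1
  haveI := finite_of_le hTKS
  have hKp := hS.to_le hTKS
  have hIK : I.IsNormalIn MK p := least_normal_in hS hF hI hMK hUI hUK hImin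
  have hKc : K.IsComponentIn MK p :=
    ⟨subnormal_of_le hK.1 Fact.out ‹_› hS hF hK.2 MK hMK hVK, hK.2⟩
  obtain ⟨hKn, hKz⟩ := (hB TK MK hMK hproper hsh).1 V K hKc
  have hVI : ¬ V ≤ TI := fun h => hV (h.trans (support_le (hImin T M hM hUT)))
  obtain h | ⟨hcomm, hfix⟩ := dichotomy hKc.1 Fact.out ‹_› hKp hMK.1.1 hK.2 I hIK
  · exact hVI (support_le h)
  have hTIS : TI ≤ TK := hIK.1.2.2.2.1.1
  haveI := finite_of_le (hTIS.trans hTKS)
  haveI := finite_of_le (CompFree.subnormal_le hKc.1 |>.trans hTKS)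
  have hW : V ⊓ TI ≤ I.center := by
    have hzK : V ⊓ TI ≤ K.center := Comm.le_center_of_fixed (hKp.to_le hKn.1.2.2.2.1.1) hK.2.1
      inf_le_left (fun z hz s hs => (hcomm s hs z hz.2).symm) fun P f hf z hz hzP => by
        obtain ⟨g, -, hg1, hg2⟩ := hfix P f hf
        rw [← hg1 z hzP, hg2 z hz.2]
    exact Comm.le_center_of_fixed (hKp.to_le hTIS) hIK.1.1 inf_le_right
      (fun z hz s hs => center_comm MK (hKz (hzK hz)) (hTIS hs) |>.symm)
      fun P f hf z hz hzP => Comm.fix_center (hf.mono hIK.1.2.2.1) hzP (hKz (hzK hz))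
  have a : Comm.Act MK p I V := ⟨hKp, hMK.1.1, hIK, hKn.1.2.2.2.1⟩
  have hVY : V ≤ CentNormal.centSub F I := by
    refine CentNormal.le_centSub (fun x hx => ⟨hTKS (hVK hx), fun y hy => (hcomm x hx y hy).symm⟩)
      fun P φ hφ => ?_
    obtain ⟨g, hg, hg1, hg2⟩ := a.maps_fix hcomm hW (isMap_toFun hφ)
    have hTIV : TI ≤ centralizerIn S V := fun x hx => ⟨hI.1.2.2.2.1.1 hx, fun y hy => hcomm y hy x hx⟩
    exact mem_centralizerHom.2 ⟨(I.le_of_mem hφ).1.trans hTIV,
      fun x => hTIV ((I.le_of_mem hφ).2 x), g, hg.mono hMK.1.2.2.1,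
      fun x => (hg1 x x.2).trans (toFun_coe φ x), hg2⟩
  obtain ⟨D, hD, -⟩ := (CentNormal.setup_centSub hS hF hI).exists_normal
  have hle : TK ≤ centralizerIn S TI :=
    (support_le (hmin _ D hD hVY)).trans (CentNormal.centSub_le F I)
  exact component_not_comm hS hC fun a ha b hb => ((hle (hUK ha)).2 b (hUI hb)).symm

/-- The least normal subsystem over a component has the supports of the other components in its
centralizer. -/
theorem mem_centSub {U : Subgroup Ω} {C : FusionSystem U} (hC : C.IsComponentIn F p)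
    {T : Subgroup Ω} {M : FusionSystem T} (hM : M.IsNormalIn F p) (hUT : U ≤ T)
    (hmin : ∀ (R : Subgroup Ω) (N : FusionSystem R), N.IsNormalIn F p → U ≤ R →
      M.IsSubsystemOf N) (hproper : ¬ F.IsSubsystemOf M) (hsh : Sharp M p)
    {V : Subgroup Ω} {K : FusionSystem V} (hK : K.IsComponentIn F p) (hV : ¬ V ≤ T) :
    V ≤ CentNormal.centSub F M := by
  have hVS := CompFree.subnormal_le hK.1
  obtain ⟨TK, MK, hMK, hVK, hKmin⟩ := exists_least hS hF hVS
  have hKproper : ¬ F.IsSubsystemOf MK := by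
    obtain ⟨hVe, hKe⟩ | ⟨W, G, hG, hVW, hGp⟩ := eq_or_proper hK.1
    · subst hVe
      obtain rfl : K = F := eq_of_hom_eq hKe
      obtain ⟨rfl, -⟩ := eq_of_subnormal_quasisimple hC.1 Fact.out ‹_› hS hK.2 hC.2
      exact absurd hUT hV
    · exact fun h => hGp fun P => (h P).trans (hKmin W G hG hVW P)
  have hKsh : Sharp MK p := sharp_least hS hF hMK (A := {V})
    (fun X hX => by rw [Set.mem_singleton_iff] at hX; exact hX ▸ ⟨K, hK⟩) (by simpa using hVK)
    fun W N hN hW => hKmin W N hN (by simpa using hW)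
  have nc : ∀ {W : Subgroup Ω} {C' : FusionSystem W}, C'.IsComponentIn F p → W ≤ T → W ≤ TK →
      False := fun hC' h1 h2 => no_common hS hF hB hM hK hV hMK hVK hKmin hKproper hKsh hC' h1 h2
  haveI := finite_of_le hM.1.2.2.2.1.1
  have hcomm : ∀ a ∈ T, ∀ b ∈ TK, a * b = b * a := fun a ha => by
    refine comm_sSup (fun W hW => ?_) a ((hB T M hM hproper hsh).2 ha)
    obtain ⟨C', hC'⟩ := hW
    have hWT := CompFree.subnormal_le hC'.1
    have hC'F : C'.IsComponentIn F p := ⟨.step hC'.1 hM, hC'.2⟩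
    obtain h | ⟨h, -⟩ := dichotomy hC'F.1 Fact.out ‹_› hS hF hC'.2 MK hMK
    · exact (nc hC'F hWT (support_le h)).elim
    · exact h
  obtain ⟨M', hM', hZ⟩ :=
    Comm.exists_central_sub ⟨hS, hF, hM.1.2.2.2.1, hMK.1.2.2.2.1, hcomm⟩ hM
  have hMM' := hmin T M' hM' hUT
  have a : Comm.Act F p M' TK := ⟨hS, hF, hM', hMK.1.2.2.2.1⟩
  have hTV : T ≤ centralizerIn S V := fun x hx =>
    ⟨hM.1.2.2.2.1.1 hx, fun y hy => (hcomm x hx y (hVK hy)).symm⟩
  refine CentNormal.le_centSub
    (fun x hx => ⟨hVS hx, fun y hy => hcomm y hy x (hVK hx)⟩) fun P φ hφ => ?_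
  obtain ⟨g, hg, hg1, hg2⟩ := a.maps_fix (fun x hx y hy => (hcomm y hy x hx).symm)
    (inf_comm T TK ▸ hZ) ((isMap_toFun hφ).mono hMM')
  exact mem_centralizerHom.2 ⟨(M.le_of_mem hφ).1.trans hTV, fun x => hTV ((M.le_of_mem hφ).2 x), g,
    hg.res (sup_le_sup_left hVK P), fun x => (hg1 x x.2).trans (toFun_coe φ x),
    fun x hx => hg2 x (hVK hx)⟩

/-- The inductive step for a component different from the whole system. -/
theorem step_component (hsh : Sharp F p) {U : Subgroup Ω} {C : FusionSystem U}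
    (hC : C.IsComponentIn F p) {V : Subgroup Ω} {G : FusionSystem V} (hG : G.IsNormalIn F p)
    (hUV : U ≤ V) (hGp : ¬ F.IsSubsystemOf G) :
    C.IsNormalIn F p ∧ C.center ≤ F.center ∧ S ≤ sSup (supports F p) := by
  obtain ⟨T, M, hM, hUT, hmin⟩ := exists_least hS hF (CompFree.subnormal_le hC.1)
  have hproper : ¬ F.IsSubsystemOf M := fun h => hGp fun P => (h P).trans (hmin V G hG hUV P)
  have hMsh : Sharp M p := sharp_least hS hF hM (A := {U})
    (fun X hX => by rw [Set.mem_singleton_iff] at hX; exact hX ▸ ⟨C, hC⟩) (by simpa using hUT)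
    fun W N hN hW => hmin W N hN (by simpa using hW)
  obtain ⟨hMC, hMT⟩ := hB T M hM hproper hMsh
  haveI := finite_of_le hM.1.2.2.2.1.1
  have hCM : C.IsComponentIn M p :=
    ⟨subnormal_of_le hC.1 Fact.out ‹_› hS hF hC.2 M hM hUT, hC.2⟩
  set Y := CentNormal.centSub F M
  let A : Set (Subgroup Ω) := {X | X ∈ supports F p ∧ ¬ X ≤ T}
  have hAY : sSup A ≤ Y := sSup_le fun X hX => by
    obtain ⟨K, hK⟩ := hX.1
    exact mem_centSub hS hF hB hC hM hUT hmin hproper hMsh hK hX.2
  obtain ⟨D, hD, -⟩ := (CentNormal.setup_centSub hS hF hM).exists_normal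
  have hYS : Y ≤ centralizerIn S T := CentNormal.centSub_le F M
  have hcomm : ∀ a ∈ T, ∀ b ∈ Y, a * b = b * a := fun a ha b hb => (hYS hb).2 a ha
  obtain ⟨D₁, hD₁, hZ₁⟩ := Comm.exists_central_sub (T₁ := Y) (T₂ := T)
    ⟨hS, hF, hD.1.2.2.2.1, hM.1.2.2.2.1, fun a ha b hb => (hcomm b hb a ha).symm⟩ hD
  have hYsub : Y ≤ S := hYS.trans inf_le_left
  haveI := finite_of_le hYsub
  obtain ⟨TR, R, hR, hAR, hRmin⟩ := exists_least hS hF (hAY.trans hYsub)
  have hRD := hRmin Y D₁ hD₁ hAY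
  have hTRY : TR ≤ Y := support_le hRD
  haveI := finite_of_le (hTRY.trans hYsub)
  have d : Comm.Factors F p M R := by
    refine ⟨hS, hF, hM, hR, fun a ha b hb => hcomm a ha b (hTRY hb), ?_, ?_⟩
    · refine Comm.le_center_of_fixed (hS.to_le hM.1.2.2.2.1.1) hM.1.1 inf_le_left
        (fun z hz s hs => (hcomm s hs z (hTRY hz.2)).symm) fun P f hf z hz hzP => ?_
      obtain ⟨g, -, hg1, hg2⟩ :=
        CentNormal.fixes_of_cent (CentNormal.centSub_cent hS hF hM) hf
      rw [← hg1 z hzP]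
      exact hg2 z (hTRY hz.2)
    · exact Comm.le_center_of_fixed (hS.to_le hR.1.2.2.2.1.1) hR.1.1 inf_le_right
        (fun z hz s hs => hcomm z hz.1 s (hTRY hs))
        fun P f hf z hz hzP => Comm.fix_center (hf.mono hRD) hzP (hZ₁ ⟨hTRY hz.2, hz.1⟩)
  obtain ⟨E, hE⟩ := d.exists_product
  have hEn := d.normal hE
  have hFE : F.IsSubsystemOf E := hsh _ E hEn fun X hX => by
    by_cases h : X ≤ T
    · exact h.trans le_sup_left
    · exact le_trans (le_sSup (s := A) ⟨hX, h⟩) (hAR.trans le_sup_right)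
  obtain ⟨hTE, hEe⟩ := eq_of_sub hEn.1.2.2.1 hFE
  have hRproper : ¬ F.IsSubsystemOf R := fun h => component_not_comm hS hC fun a ha b hb =>
    hcomm a (hUT ha) b (hTRY (support_le h (CompFree.subnormal_le hC.1 hb)))
  have hRsh : Sharp R p := sharp_least hS hF hR (A := A) (fun X hX => hX.1) hAR hRmin
  obtain ⟨-, hRT⟩ := hB TR R hR hRproper hRsh
  have hsup : ∀ {W : Subgroup Ω} {N : FusionSystem W}, N.IsNormalIn F p →
      supports N p ⊆ supports F p := fun hN X ⟨K, hK⟩ => ⟨K, .step hK.1 hN, hK.2⟩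
  subst hTE
  obtain rfl := eq_of_hom_eq hEe
  have c := central_of_product hS hF hM.1.1 hR.1.1 hE
  refine ⟨c.normal_of_factor (hMC U C hCM).1, (hMC U C hCM).2.trans ?_, sup_le
    (hMT.trans (sSup_le_sSup (hsup hM))) (hRT.trans (sSup_le_sSup (hsup hR)))⟩
  refine Comm.le_center_of_fixed hS hF ((isCentral_center M).1.trans le_sup_left)
    (fun z hz s hs => ?_) fun P f hf z hz hzP => ?_
  · obtain ⟨a, ha, b, hb, rfl⟩ := mem_sup_dest (Comm.comm_normalizer d.pair) hs
    rw [← mul_assoc, center_comm M hz ha |>.symm, mul_assoc,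
      d.comm z ((isCentral_center M).1 hz) b hb, mul_assoc]
  · obtain ⟨-, f₁, f₂, hf₁, hf₂, he⟩ := (c.maps P f).1 hf
    have hz₁ : z ∈ (P ⊔ TR) ⊓ T := ⟨Subgroup.mem_sup_left hzP, (isCentral_center M).1 hz⟩
    have h := he z hz₁ 1 (one_mem _) (by rwa [mul_one])
    rwa [mul_one, hf₂.map_one, mul_one, Comm.fix_center hf₁ hz₁ hz] at h

omit hB in
/-- A sharp system: components are normal, with central centre, and their supports generate. -/
theorem sharp_struct (hsh : Sharp F p) : Struct F p := by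
  induction hn : (maps F).ncard using Nat.strong_induction_on generalizing S with
  | _ n ih =>
  have hB : Below F p := fun T M hM hp hsh' => by
    haveI := finite_of_le hM.1.2.2.2.1.1
    refine ih _ ?_ (hS.to_le hM.1.2.2.2.1.1) hM.1.1 hsh' rfl
    rw [← hn]
    refine Set.ncard_lt_ncard ⟨fun x hx => hM.1.2.2.1 x.1 hx, fun h => hp fun P φ hφ => ?_⟩
      (finite_maps F)
    exact h (a := ⟨P, φ⟩) hφ
  have key : ∀ (U : Subgroup Ω) (C : FusionSystem U), C.IsComponentIn F p →
      (C.IsNormalIn F p ∧ C.center ≤ F.center) ∧ S ≤ sSup (supports F p) := by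
    intro U C hC
    obtain ⟨hU, hCe⟩ | ⟨V, G, hG, hUV, hGp⟩ := eq_or_proper hC.1
    · subst hU
      obtain rfl : C = F := eq_of_hom_eq hCe
      exact ⟨⟨isNormalIn_self hF, le_rfl⟩, le_sSup ⟨C, hC⟩⟩
    · obtain ⟨h1, h2, h3⟩ := step_component hS hF hB hsh hC hG hUV hGp
      exact ⟨⟨h1, h2⟩, h3⟩
  refine ⟨fun U C hC => (key U C hC).1, ?_⟩
  by_cases h : ∃ (U : Subgroup Ω) (C : FusionSystem U), C.IsComponentIn F p
  · obtain ⟨U, C, hC⟩ := h
    exact (key U C hC).2
  · have hbot := hsh ⊥ (innerFusionSystem ⊥) (CompFree.inner_isNormalIn hS hF (isNormal_bot F))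
      fun X ⟨C, hC⟩ => (h ⟨X, C, hC⟩).elim
    exact (support_le hbot).trans bot_le

omit hB in
/-- A component is normal in the layer. -/
theorem component_normal_layer {T : Subgroup Ω} {E : FusionSystem T} (hE : E.IsLayerOf F p)
    {U : Subgroup Ω} {C : FusionSystem U} (hC : C.IsComponentIn F p) : C.IsNormalIn E p := by
  have hTS := hE.1.1.2.2.2.1.1
  haveI := finite_of_le hTS
  have hTp := hS.to_le hTS
  have hsh : Sharp E p := by
    intro V N hN hV
    obtain ⟨TL, L, hL⟩ := exists_layer hTp hE.1.1.1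
    obtain ⟨L₀, hL₀, hL₀L⟩ := exists_normal_layer hS hF hE.1 hL
    have h1 : E.IsSubsystemOf L₀ := hE.2.2 TL L₀ hL₀ fun W K hK =>
      component_le hS hF hK hL₀ (support_le (hL.2.1 W K
        ⟨subnormal_of_le hK.1 Fact.out ‹_› hS hF hK.2 E hE.1
          (support_le (hE.2.1 W K hK)), hK.2⟩))
    have h2 : L.IsSubsystemOf N := hL.2.2 V N hN fun W K hK =>
      component_le hTp hE.1.1.1 hK hN (hV W ⟨K, hK⟩)
    exact fun P => ((h1 P).trans (hL₀L P)).trans (h2 P)
  exact ((sharp_struct hTp hE.1.1.1 hsh).1 U C ⟨subnormal_of_le hC.1 Fact.out ‹_› hS hF hC.2 E hE.1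
    (support_le (hE.2.1 U C hC)), hC.2⟩).1

end Cfsg.Agent.Fus.Layer
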