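import Mathlib
import Cfsg.Agent.Lib.Fus.KerFix
import Cfsg.Agent.Lib.Fus.KerCentralizer
import Cfsg.Agent.Lib.Fus.LayerStructure
import Cfsg.Agent.Lib.Fus.LayerFitting

/-!
The layer of the normalizer system of a fully normalized subgroup lies in the layer.
-/

set_option autoImplicit false
set_option linter.style.haveILetI false
set_option linter.unusedSectionVars false

open scoped Classical

universe u

namespace Cfsg.Agent.Fus.Balance

open Subgroup FusionSystem FocalCent

variable {Ω : Type u} [Group Ω] {S : Subgroup Ω} {F : FusionSystem S} {p : ℕ} [Finite S]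
  [Fact p.Prime]

/-- The centralizer system is weakly normal in the normalizer system. -/
theorem centralizer_weaklyNormal (hS : IsPGroup p S) (hF : F.IsSaturated p) {X : Subgroup Ω}
    (hX : F.IsFullyNormalized X) :
    (centralizerSystem F X hX.1).IsWeaklyNormalIn (normalizerSystem F X hX.1) p := by
  have hC := isCentralizerSystem_centralizerSystem F hX.1
  have hXc := fullyCentralized_of_fullyNormalized hS hF hX
  have hNs := isSaturated_normalizerSystem hS hF hX
  haveI : Finite ↥(normalizerIn S X) := finite_of_le (S := S) inf_le_left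
  have hNp : IsPGroup p ↥(normalizerIn S X) := hS.to_le inf_le_left
  have hCN : centralizerIn S X ≤ normalizerIn S X := centralizerIn_le_normalizerIn X
  have hsub : (centralizerSystem F X hX.1).IsSubsystemOf (normalizerSystem F X hX.1) :=
    fun P φ hφ => by
      obtain ⟨h1, h2, g, hg, hg1, hg2⟩ := (isMap_centralizerSystem hX.1 hC).1 (isMap_toFun hφ)
      exact mem_hom_iff.2 ((isMap_normalizerSystem hX.1).2 ⟨h1.trans hCN,
        fun x hx => hCN (h2 x hx), g, hg, hg1, fimg_eq_self_of_forall hg2⟩)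
  have hsc : (normalizerSystem F X hX.1).StronglyClosed (centralizerIn S X) :=
    stronglyClosed_of_forall hCN fun R hR f hf x hx => by
      obtain ⟨-, -, g, hg, hg1, hg2⟩ := (isMap_normalizerSystem hX.1).1 hf
      have h := hg.map_centralizerIn (P := X) le_sup_right (Subgroup.mem_sup_left hx) (hR hx).2
      rwa [hg2, hg1 x hx] at h
  have hstrong : StrongInv (normalizerSystem F X hX.1) (centralizerSystem F X hX.1) := by
    intro P Q f u hPQ hQ hf hfm hu
    obtain ⟨-, -, gf, hgf, hf1, hf2⟩ := (isMap_centralizerSystem hX.1 hC).1 hf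
    obtain ⟨-, -, gu, hgu, hu1, hu2⟩ := (isMap_normalizerSystem hX.1).1 hu
    have hPQX : P ⊔ X ≤ Q ⊔ X := sup_le_sup_right hPQ X
    have hgu' := hgu.res hPQX
    obtain ⟨g', hg', hg1, hg2, -⟩ := hgu'.exists_inv
    have himg : fimg gu (P ⊔ X) = fimg u P ⊔ X := by
      rw [hgu'.fimg_sup, hu2, fimg_congr fun x hx => hu1 x (hPQ hx)]
    rw [himg] at hg' hg2
    have hk := (hg'.comp hgf fun y hy => (hg2 y hy).1).comp hgu
      fun y hy => Fixes.map_mem hgf hf1 hf2 hfm _ (hg2 y hy).1
    have huC : ∀ x ∈ Q, u x ∈ centralizerIn S X := fun x hx =>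
      StronglyClosed.apply_mem hsc hu hQ hx
    have hval : ∀ x ∈ P, gu (gf (g' (u x))) = u (f x) := fun x hx => by
      rw [← hu1 x (hPQ hx), hg1 x (Subgroup.mem_sup_left hx), hf1 x hx, hu1 _ (hfm x hx)]
    refine ⟨_, (isMap_centralizerSystem hX.1 hC).2
      ⟨fimg_le fun x hx => huC x (hPQ hx), fun y hy => ?_, _, hk, fun _ _ => rfl, fun y hy => ?_⟩,
      hval⟩
    · obtain ⟨x, hx, rfl⟩ := (hu.res hPQ).mem_fimg_iff.1 hy
      rw [hval x hx]
      exact huC _ (hfm x hx)
    · rw [← hu2] at hy
      obtain ⟨z, hz, rfl⟩ := (hgu.res le_sup_right).mem_fimg_iff.1 hy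
      show gu (gf (g' (gu z))) = gu z
      rw [hg1 z (Subgroup.mem_sup_right hz), hf2 z hz]
  exact ⟨isSaturated_centralizerSystem hS hF hXc hC, hNs,
    ResInv.isInvariantIn_of_strongInv hsub hsc hstrong
      fun hP hf => dec_of_strongInv hNp hNs hstrong hsc hP hf⟩

/-- A component of the normalizer system centralizes the normalized subgroup. -/
theorem component_le_centralizer (hS : IsPGroup p S) (hF : F.IsSaturated p) {X : Subgroup Ω}
    (hX : F.IsFullyNormalized X) {TC : Subgroup Ω} {C : FusionSystem TC}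
    (hC : C.IsComponentIn (normalizerSystem F X hX.1) p) : TC ≤ centralizerIn S X := by
  have hNs := isSaturated_normalizerSystem hS hF hX
  haveI : Finite ↥(normalizerIn S X) := finite_of_le (S := S) inf_le_left
  have hNp : IsPGroup p ↥(normalizerIn S X) := hS.to_le inf_le_left
  have hXN : (normalizerSystem F X hX.1).IsNormal X := by
    refine isNormal_iff.2 ⟨le_normalizerIn hX.1, fun P f hf => ?_⟩
    obtain ⟨h1, -, g, hg, hg1, hg2⟩ := (isMap_normalizerSystem hX.1).1 hf
    have hle : P ⊔ X ≤ normalizerIn S X := sup_le h1 (le_normalizerIn hX.1)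
    refine ⟨g, (isMap_normalizerSystem hX.1).2 ⟨hle, fun x hx => ?_, g, ?_, fun _ _ => rfl, hg2⟩,
      hg1, hg2⟩
    · have h := hg.map_normalizerIn (P := X) le_sup_right hx (hle hx).2
      rwa [hg2] at h
    · rwa [sup_assoc, sup_idem]
  have hTN := CompFree.subnormal_le hC.1
  obtain h | ⟨hcomm, -⟩ := Layer.dichotomy hC.1 Fact.out ‹_› hNp hNs hC.2
    (innerFusionSystem X) (CompFree.inner_isNormalIn hNp hNs hXN)
  · exfalso
    have hTX : TC ≤ X := Layer.support_le h
    haveI := finite_of_le hTN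
    refine Layer.component_not_comm hNp hC fun a ha b hb => ?_
    rw [← hC.2.2.1] at ha hb
    have hbot : C.hyperfocalSubgroup p = ⊥ := by
      refine eq_bot_iff.2 (hyperfocal_le_of_coprime fun P hP α hα x hx => ?_)
      obtain ⟨-, s, hs, hse⟩ := isMap_inner.1 (((Fus.mem_autGroup hP).1 α.2).mono h)
      have hαS : (α : MulAut P) ∈ autInducedBy X P :=
        mem_autInducedBy.2 ⟨s, hs, fun y => by rw [← autFun_coe, hse _ y.2]⟩
      obtain ⟨k, hk⟩ := isPGroup_autInducedBy (hS.to_le hX.1) P ⟨_, hαS⟩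
      have h1 : (α : MulAut P) = 1 := InvExt.eq_one_of_coprime_pow (p := p)
        (n := orderOf α) hα (congrArg Subtype.val hk : _) (by
          rw [← SubmonoidClass.coe_pow, pow_orderOf_eq_one, OneMemClass.coe_one])
      rw [h1, autFun_one hx, inv_mul_cancel]
      exact Subgroup.one_mem _
    rw [hbot, Subgroup.mem_bot] at ha hb
    rw [ha, hb]
  · exact fun a ha => ⟨(hTN ha).1, fun y hy => (hcomm a ha y hy).symm⟩

set_option maxHeartbeats 400000 in
/-- The components of the centralizer system lie in the layer. -/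
theorem component_le_layer (hS : IsPGroup p S) (hF : F.IsSaturated p) {X : Subgroup Ω}
    (hX : F.IsFullyCentralized X) {T : Subgroup Ω} {E : FusionSystem T} (hE : E.IsLayerOf F p)
    {TC : Subgroup Ω} {C : FusionSystem TC}
    (hC : C.IsComponentIn (centralizerSystem F X hX.1) p) : C.IsSubsystemOf E := by
  obtain ⟨D, hc⟩ := (Layer.factors_core_layer hS hF hE).exists_product
  have hD : D.IsGeneralizedFittingOf F p := ⟨T, E, hE, hc⟩
  have hDn := Layer.fitting_normal hS hF hD
  have hTD := hDn.1.2.2.2.1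
  haveI := finite_of_le hTD.1
  have d : Ker.Data F p D := ⟨hS, hF, hDn⟩
  obtain ⟨Dt, hDt, hDtD⟩ := Ker.exists_normal_trace d hX
  have hCs := isSaturated_centralizerSystem hS hF hX (isCentralizerSystem_centralizerSystem F hX.1)
  haveI : Finite ↥(centralizerIn S X) := finite_of_le (S := S) inf_le_left
  have hCp : IsPGroup p ↥(centralizerIn S X) := hS.to_le inf_le_left
  have hTC : TC ≤ centralizerIn S X := CompFree.subnormal_le hC.1
  obtain h | ⟨-, hfix⟩ := Layer.dichotomy hC.1 Fact.out ‹_› hCp hCs hC.2 Dt hDt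
  · have hR := CompFree.inner_isNormalIn hS hF (isNormal_core F)
    exact Ker.le_factor (Layer.central_of_product (hS.to_le hTD.1) hDn.1.1 hR.1.1 hE.1.1.1 hc)
      (fun P => (h P).trans (hDtD P)) hC.2.2.1
  · exfalso
    have hTS : TC ≤ S := hTC.trans inf_le_left
    have hFix : ∀ (P : Subgroup Ω) (α : MulAut P), P ≤ TC → α ∈ C.autGroup P →
        (orderOf α).Coprime p → Fixes F (F.core ⊔ T) P (autFun α) := by
      intro P α hP hα hm
      -- `α` fixes the support of the generalized Fitting subsystem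
      obtain ⟨g, hg, hg1, hg2⟩ := hfix P _ ((Fus.mem_autGroup hP).1 hα)
      obtain ⟨-, -, k, hk, hk1, hk2⟩ := (isMap_centralizerSystem hX.1
        (isCentralizerSystem_centralizerSystem F hX.1)).1 hg
      set V := (F.core ⊔ T) ⊓ centralizerIn S X with hV
      set Y := P ⊔ V ⊔ X with hY
      have hkP : ∀ x ∈ P, k x = autFun α x := fun x hx => by
        rw [hk1 x (Subgroup.mem_sup_left hx), hg1 x hx]
      have hkV : ∀ x ∈ V, k x = x := fun x hx => by
        rw [hk1 x (Subgroup.mem_sup_right hx), hg2 x hx]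
      have hYS : Y ≤ S := sup_le (sup_le (hP.trans hTS) (inf_le_right.trans inf_le_left)) hX.1
      haveI := finite_of_le hYS
      have hkY : fimg k Y = Y := by
        rw [hY, hk.fimg_sup, (hk.res le_sup_left).fimg_sup, fimg_congr hkP, fimg_autFun,
          fimg_eq_self_of_forall hkV, fimg_eq_self_of_forall hk2]
      obtain ⟨γ, hγ, hγe⟩ := hk.exists_aut hkY
      have hPY : P ≤ Y := le_sup_left.trans le_sup_left
      have hVY : V ≤ Y := le_sup_right.trans le_sup_left
      have hXY : X ≤ Y := le_sup_right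
      have hfV : ∀ x ∈ V, autFun γ x = x := fun x hx => by rw [hγe x (hVY hx), hkV x hx]
      have hfX : ∀ x ∈ X, autFun γ x = x := fun x hx => by rw [hγe x (hXY hx), hk2 x hx]
      have hγP : ∀ x ∈ P, autFun α x = autFun γ x := fun x hx => by
        rw [hγe x (hPY hx), hkP x hx]
      let K : Subgroup Ω :=
        { carrier := {z | z ∈ Y ∧ autFun (γ ^ orderOf α) z = z}
          mul_mem' := fun {a b} ha hb => ⟨mul_mem ha.1 hb.1, by
            have hm := (Fus.mem_autGroup hYS).1 (pow_mem hγ (orderOf α))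
            rw [hm.map_mul ha.1 hb.1, ha.2, hb.2]⟩
          one_mem' := ⟨one_mem _, ((Fus.mem_autGroup hYS).1 (pow_mem hγ (orderOf α))).map_one⟩
          inv_mem' := fun {a} ha => ⟨inv_mem ha.1, by
            have hm := (Fus.mem_autGroup hYS).1 (pow_mem hγ (orderOf α))
            rw [hm.map_inv ha.1, ha.2]⟩ }
      have hYK : Y ≤ K := by
        refine sup_le (sup_le (fun z hz => ⟨hPY hz, ?_⟩) fun z hz => ⟨hVY hz, ?_⟩)
          fun z hz => ⟨hXY hz, ?_⟩
        · rw [← InvMap.autFun_pow_eqOn hPY hγP _ z hz, pow_orderOf_eq_one, autFun_one hz]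
        · rw [← InvMap.autFun_pow_eqOn hVY (β := (1 : MulAut V))
            (fun y hy => by rw [autFun_one hy, hfV y hy]) _ z hz, one_pow, autFun_one hz]
        · rw [← InvMap.autFun_pow_eqOn hXY (β := (1 : MulAut X))
            (fun y hy => by rw [autFun_one hy, hfX y hy]) _ z hz, one_pow, autFun_one hz]
      have hγo : (orderOf γ).Coprime p :=
        Ker.coprime_of_pow hm (mulAut_ext fun z hz => by rw [(hYK hz).2, autFun_one hz])
      exact ((Ker.fixes_support d hX hYS hXY hVY hγ hγo hfX hfV).res hPY).congr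
        fun x hx => (hγP x hx).symm
    obtain ⟨hcomm, hall⟩ := Layer.fixes_of_coprime hS hTD.1
      (fun a ha b hb => StronglyClosed.conj_mem' hTD ha hb) hC.2.1 hTS hC.2.2.1 hFix
    have hTU : TC ≤ centralizerIn S (F.core ⊔ T) := fun x hx =>
      ⟨hTS hx, fun y hy => (hcomm x hx y hy).symm⟩
    set W := (centralizerSystem F (F.core ⊔ T) hTD.1).focalSubgroup
    haveI := finite_of_le hTS
    have hTW : TC ≤ W := by
      rw [← hC.2.2.1]
      refine hyperfocal_le_of_coprime fun P hP α _ x hx => ?_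
      obtain ⟨g, hg, hg1, hg2⟩ := hall P _ ((Fus.mem_autGroup hP).1 α.2)
      obtain ⟨φ, hφ, e⟩ := ((isMap_centralizerSystem hTD.1
        (isCentralizerSystem_centralizerSystem F hTD.1)).2
          ⟨hP.trans hTU, fun y hy => hTU (hP (autFun_mem _ hy)), g, hg, hg1, hg2⟩).exists_hom
      exact Subgroup.subset_closure ⟨P, φ, ⟨x, hx⟩, hφ, by rw [e]⟩
    have hWD : W ≤ D.center := (Layer.fitting_self_centralizing hS hF hD).2 W (focal_le _)
      (fun P => hom_subset_centralizerHom hS hF hDn P)
    exact Layer.component_not_comm hCp hC fun a ha b hb =>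
      (center_comm D (hWD (hTW ha)) ((isCentral_center D).1 (hWD (hTW hb)))).symm

/-- The layer of the normalizer system lies in the layer. -/
theorem layer_balance (hS : IsPGroup p S) (hF : F.IsSaturated p) {X : Subgroup Ω}
    (hX : F.IsFullyNormalized X) {U : Subgroup Ω} {EN : FusionSystem U}
    (hEN : EN.IsLayerOf (normalizerSystem F X hX.1) p) {T : Subgroup Ω} {E : FusionSystem T}
    (hE : E.IsLayerOf F p) : EN.IsSubsystemOf E := by
  have hXc := fullyCentralized_of_fullyNormalized hS hF hX
  have hNs := isSaturated_normalizerSystem hS hF hX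
  have hw := centralizer_weaklyNormal hS hF hX
  have hCs := hw.1
  haveI : Finite ↥(normalizerIn S X) := finite_of_le (S := S) inf_le_left
  haveI : Finite ↥(centralizerIn S X) := finite_of_le (S := S) inf_le_left
  have hNp : IsPGroup p ↥(normalizerIn S X) := hS.to_le inf_le_left
  have hCp : IsPGroup p ↥(centralizerIn S X) := hS.to_le inf_le_left
  obtain ⟨N1, hN1⟩ := PrimeIndex.exists_residual hCp hCs
  have hN1N := ResNorm.residual_isNormalIn hNp hw hN1
  have hN1C := ResNorm.residual_isNormalIn hCp (Layer.isNormalIn_self hCs).1 hN1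
  obtain ⟨TL, L, hL⟩ := Layer.exists_layer hCp hN1C.1.1
  obtain ⟨Et, hEt, hEtE⟩ := Ker.exists_normal_trace (⟨hS, hF, hE.1⟩ : Ker.Data F p E) hXc
  have d2 : Inter.Two (centralizerSystem F X hX.1) p N1 Et := ⟨hCp, hCs, hN1C, hEt⟩
  have h1 := Inter.interSys_normal_sub d2 hN1C inf_le_left fun {R} hR {b} hb => hb.2.2.2.1
  have h2 := Inter.interSys_normal_sub d2 hEt inf_le_right fun {R} hR {b} hb => hb.2.2.2.2
  have hLE : L.IsSubsystemOf E := by
    have hLJ := hL.2.2 _ _ h1 fun V C hC => Layer.component_le hCp hN1C.1.1 hC h1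
      (le_inf (CompFree.subnormal_le hC.1) (le_inf
        (Layer.support_le (component_le_layer hS hF hXc hE ⟨.step hC.1 hN1C, hC.2⟩))
        (CompFree.subnormal_le hC.1)))
    exact fun P => ((hLJ P).trans (h2.1.2.2.1 P)).trans (hEtE P)
  obtain ⟨L₀, hL₀, hL₀L⟩ := Layer.exists_normal_layer hNp hNs hN1N hL
  have hle := hEN.2.2 _ _ hL₀ fun V C hC => Layer.component_le hNp hNs hC hL₀
    (Layer.support_le (hL.2.1 V C ⟨Layer.subnormal_of_le hC.1 Fact.out ‹_› hNp hNs hC.2 N1 hN1N
      (component_le_centralizer hS hF hX hC), hC.2⟩))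
  exact fun P => ((hle P).trans (hL₀L P)).trans (hLE P)

end Cfsg.Agent.Fus.Balance
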