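/-
Fixed vectors of injective Frobenius-semilinear maps over an algebraically closed field span,
and the Lang-Steinberg theorem for the general linear group.
-/
import Mathlib

set_option autoImplicit false

namespace Cfsg.Agent.Fus.LangSteinberg

open Polynomial Matrix

variable {K : Type*} [Field K]

/-- the polynomials of the triangular recursion -/
noncomputable def recPoly (q : ℕ) (a : ℕ → K) : ℕ → K[X]
  | 0 => C (a 0) * X ^ q
  | i + 1 => recPoly q a i ^ q + C (a (i + 1)) * X ^ q

theorem recPoly_eq_zero_of_forall {q : ℕ} (hq : 1 ≤ q) (a : ℕ → K) :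
    ∀ i, (∀ j ≤ i, a j = 0) → recPoly q a i = 0
  | 0, h => by simp [recPoly, h 0 le_rfl]
  | i + 1, h => by
    rw [recPoly, recPoly_eq_zero_of_forall hq a i fun j hj => h j (by omega), h (i + 1) le_rfl,
      zero_pow (by omega)]
    simp

theorem recPoly_natDegree {q : ℕ} (hq : 2 ≤ q) (a : ℕ → K) :
    ∀ i, (∃ j ≤ i, a j ≠ 0) → q ≤ (recPoly q a i).natDegree
  | 0, h => by
    obtain ⟨j, hj, hne⟩ := h
    obtain rfl : j = 0 := by omega
    rw [recPoly, natDegree_C_mul_X_pow q _ hne]
  | i + 1, h => by
    by_cases h' : ∃ j ≤ i, a j ≠ 0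
    · have h1 := recPoly_natDegree hq a i h'
      have h2 : q < (recPoly q a i ^ q).natDegree := by
        rw [natDegree_pow]; nlinarith
      rw [recPoly, natDegree_add_eq_left_of_natDegree_lt]
      · exact h2.le
      · exact lt_of_le_of_lt (natDegree_C_mul_X_pow_le _ _) h2
    · push Not at h'
      obtain ⟨j, hj, hne⟩ := h
      have : j = i + 1 := by
        by_contra hji
        exact hne (h' j (by omega))
      subst this
      rw [recPoly, recPoly_eq_zero_of_forall (by omega) a i h', zero_pow (by omega), zero_add,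
        natDegree_C_mul_X_pow q _ hne]

theorem recPoly_derivative {q : ℕ} (hq0 : (q : K) = 0) (a : ℕ → K) :
    ∀ i, derivative (recPoly q a i) = 0
  | 0 => by simp [recPoly, derivative_X_pow, hq0]
  | i + 1 => by simp [recPoly, derivative_pow, hq0]

theorem recPoly_eval_zero {q : ℕ} (hq : 1 ≤ q) (a : ℕ → K) :
    ∀ i, (recPoly q a i).eval 0 = 0
  | 0 => by simp [recPoly, zero_pow (show q ≠ 0 by omega)]
  | i + 1 => by
    simp [recPoly, recPoly_eval_zero hq a i, zero_pow (show q ≠ 0 by omega)]

variable [IsAlgClosed K]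

/-- A nonzero solution of `recPoly r t = t`. -/
theorem exists_ne_zero_eval_eq {q : ℕ} (hq : 2 ≤ q) (hq0 : (q : K) = 0) (a : ℕ → K) (i : ℕ)
    (h : ∃ j ≤ i, a j ≠ 0) : ∃ t : K, t ≠ 0 ∧ (recPoly q a i).eval t = t := by
  set P := recPoly q a i - X with hP
  have hdeg : 2 ≤ P.natDegree := by
    have h1 := recPoly_natDegree hq a i h
    rw [hP, natDegree_sub_eq_left_of_natDegree_lt (by rw [natDegree_X]; omega)]
    omega
  have hsep : P.Separable := by
    rw [separable_def, hP, derivative_sub, recPoly_derivative hq0, derivative_X, zero_sub]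
    exact isCoprime_one_right.neg_right
  by_contra hcon
  push Not at hcon
  have hroots : ∀ t ∈ P.roots, t = 0 := by
    intro t ht
    by_contra ht0
    have := isRoot_of_mem_roots ht
    rw [IsRoot, hP, eval_sub, eval_X, sub_eq_zero] at this
    exact hcon t ht0 this
  have hcard : P.roots.card = P.natDegree :=
    (IsAlgClosed.splits P).natDegree_eq_card_roots.symm
  have : P.roots.card ≤ 1 := by
    classical
    rw [← Multiset.toFinset_card_of_nodup (nodup_roots hsep)]
    exact Finset.card_le_one.mpr fun x hx y hy => by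
      rw [hroots x (Multiset.mem_toFinset.mp hx), hroots y (Multiset.mem_toFinset.mp hy)]
  omega

theorem exists_fixed {V : Type*} [AddCommGroup V] [Module K V] [FiniteDimensional K V]
    {q : ℕ} (hq : 2 ≤ q) (hq0 : (q : K) = 0) (φ : V →+ V)
    (hφ : ∀ (c : K) v, φ (c • v) = c ^ q • φ v) (hinj : Function.Injective φ) (v : V) (hv : v ≠ 0) :
    ∃ w : V, w ≠ 0 ∧ φ w = w := by
  let s : ℕ → V := fun i => φ^[i] v
  have hs : ∀ i, φ (s i) = s (i + 1) := fun i => (Function.iterate_succ_apply' φ i v).symm
  have hsne : ∀ i, s i ≠ 0 := by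
    intro i
    induction i with
    | zero => exact hv
    | succ i ih => rw [← hs]; exact fun h => ih (hinj (by rw [h, map_zero]))
  -- the first dependence
  have hex : ∃ r, ¬ LinearIndependent K (fun i : Fin r => s i) := by
    refine ⟨Module.finrank K V + 1, fun h => ?_⟩
    have := h.fintype_card_le_finrank
    simp at this
  classical
  have hspec := Nat.find_spec hex
  obtain ⟨r, hr⟩ : ∃ r, Nat.find hex = r + 1 := by
    refine ⟨Nat.find hex - 1, ?_⟩
    have : Nat.find hex ≠ 0 := fun h => hspec (by rw [h]; exact linearIndependent_empty_type)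
    omega
  have hli : LinearIndependent K (fun i : Fin r => s i) :=
    not_not.mp (Nat.find_min hex (show r < Nat.find hex by omega))
  have hr0 : 0 < r := by
    by_contra h0
    have h0' : r = 0 := by omega
    subst h0'
    rw [hr] at hspec
    refine hspec (Fintype.linearIndependent_iff.mpr fun g hg i => ?_)
    rw [Fin.sum_univ_one, smul_eq_zero] at hg
    rw [show i = (0 : Fin 1) from Subsingleton.elim (α := Fin 1) _ _]
    exact hg.resolve_right (hsne _)
  have hmem : s r ∈ Submodule.span K (Set.range fun i : Fin r => s i) := by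
    by_contra hn
    apply hspec
    rw [hr]
    have := linearIndependent_finSnoc.mpr ⟨hli, hn⟩
    convert this using 1
    funext i
    refine Fin.lastCases ?_ (fun j => ?_) i
    · simp
    · simp
  obtain ⟨c, hc⟩ := (Submodule.mem_span_range_iff_exists_fun K).mp hmem
  let a : ℕ → K := fun i => if h : i < r then c ⟨i, h⟩ else 0
  have hc' : ∑ i ∈ Finset.range r, a i • s i = s r := by
    rw [← hc, Finset.sum_range]
    refine Finset.sum_congr rfl fun i _ => ?_
    simp [a, i.2]
  have ha : ∃ j ≤ r - 1, a j ≠ 0 := by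
    by_contra h
    push Not at h
    refine hsne r ?_
    rw [← hc']
    refine Finset.sum_eq_zero fun i hi => ?_
    rw [h i (by rw [Finset.mem_range] at hi; omega), zero_smul]
  obtain ⟨t, ht0, ht⟩ := exists_ne_zero_eval_eq hq hq0 a (r - 1) ha
  let x : ℕ → K := fun i => (recPoly q a i).eval t
  refine ⟨∑ i ∈ Finset.range r, x i • s i, ?_, ?_⟩
  · intro h
    rw [Finset.sum_range] at h
    have := Fintype.linearIndependent_iff.mp hli (fun i => x i) h ⟨r - 1, by omega⟩
    exact ht0 (by rw [← ht]; exact this)
  · obtain ⟨r, rfl⟩ : ∃ m, r = m + 1 := ⟨r - 1, by omega⟩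
    simp only [map_sum, hφ, hs]
    rw [Finset.sum_range_succ (fun i => x i ^ q • s (i + 1)), ← hc', Finset.smul_sum,
      Finset.sum_range_succ' (fun i => x i • s i), Finset.sum_range_succ' (fun i => x r ^ q • a i • s i)]
    have hxr : x r = t := by simpa using ht
    rw [← add_assoc, ← Finset.sum_add_distrib]
    congr 1
    · refine Finset.sum_congr rfl fun i _ => ?_
      rw [smul_smul, ← add_smul, hxr]
      congr 1
      simp only [x, recPoly, eval_add, eval_mul, eval_C, eval_pow, eval_X]
      ring
    · rw [smul_smul, hxr]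
      congr 1
      simp only [x, recPoly, eval_mul, eval_C, eval_pow, eval_X]
      ring

theorem span_fixed {V : Type*} [AddCommGroup V] [Module K V] [FiniteDimensional K V]
    {q : ℕ} (hq : 2 ≤ q) (hq0 : (q : K) = 0) (φ : V →+ V)
    (hφ : ∀ (c : K) v, φ (c • v) = c ^ q • φ v) (hinj : Function.Injective φ) :
    Submodule.span K {v | φ v = v} = ⊤ := by
  set W := Submodule.span K {v | φ v = v} with hW
  have hmapW : ∀ w ∈ W, φ w ∈ W := by
    intro w hw
    induction hw using Submodule.span_induction with
    | mem x hx => rw [show φ x = x from hx]; exact Submodule.subset_span hx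
    | zero => simp
    | add x y _ _ hx hy => rw [map_add]; exact add_mem hx hy
    | smul c x _ hx => rw [hφ]; exact W.smul_mem _ hx
  have hsurjW : ∀ w ∈ W, ∀ c : K, ∃ w' ∈ W, φ w' = c • w := by
    intro w hw
    induction hw using Submodule.span_induction with
    | mem x hx =>
      intro c
      obtain ⟨d, hd⟩ := IsAlgClosed.exists_pow_nat_eq c (show 0 < q by omega)
      exact ⟨d • x, W.smul_mem _ (Submodule.subset_span hx), by
        rw [hφ, hd, show φ x = x from hx]⟩
    | zero => exact fun c => ⟨0, zero_mem _, by simp⟩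
    | add x y _ _ hx hy =>
      intro c
      obtain ⟨x', hx', hx''⟩ := hx c
      obtain ⟨y', hy', hy''⟩ := hy c
      exact ⟨x' + y', add_mem hx' hy', by rw [map_add, hx'', hy'', smul_add]⟩
    | smul d x _ hx => intro c; rw [smul_smul]; exact hx _
  have hAS : ∀ w ∈ W, ∀ c : K, ∃ w' ∈ W, φ w' - w' = c • w := by
    intro w hw
    induction hw using Submodule.span_induction with
    | mem x hx =>
      intro c
      have hdeg : (X ^ q - X - C c : K[X]).degree ≠ 0 := by
        rw [sub_sub, degree_sub_eq_left_of_degree_lt]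
        · rw [degree_X_pow]; exact_mod_cast (by omega : q ≠ 0)
        · rw [degree_X_add_C, degree_X_pow]; exact_mod_cast (by omega : 1 < q)
      obtain ⟨d, hd⟩ := IsAlgClosed.exists_root _ hdeg
      rw [IsRoot, eval_sub, eval_sub, eval_pow, eval_X, eval_C, sub_eq_zero] at hd
      exact ⟨d • x, W.smul_mem _ (Submodule.subset_span hx), by
        rw [hφ, show φ x = x from hx, ← sub_smul, hd]⟩
    | zero => exact fun c => ⟨0, zero_mem _, by simp⟩
    | add x y _ _ hx hy =>
      intro c
      obtain ⟨x', hx', hx''⟩ := hx c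
      obtain ⟨y', hy', hy''⟩ := hy c
      exact ⟨x' + y', add_mem hx' hy', by rw [map_add, smul_add, ← hx'', ← hy'']; abel⟩
    | smul d x _ hx => intro c; rw [smul_smul]; exact hx _
  by_contra hne
  obtain ⟨v, hv⟩ : ∃ v, v ∉ W := by
    by_contra h
    push Not at h
    exact hne (eq_top_iff.mpr fun v _ => h v)
  let ψ : V ⧸ W →+ V ⧸ W :=
    QuotientAddGroup.map W.toAddSubgroup W.toAddSubgroup φ fun w hw => hmapW w hw
  have hψmk : ∀ u, ψ (Submodule.Quotient.mk u) = Submodule.Quotient.mk (φ u) := fun u => rfl
  have hψ : ∀ (c : K) u, ψ (c • u) = c ^ q • ψ u := by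
    intro c u
    induction u using Submodule.Quotient.induction_on with
    | _ u => rw [← Submodule.Quotient.mk_smul, hψmk, hψmk, hφ, Submodule.Quotient.mk_smul]
  have hψinj : Function.Injective ψ := by
    rw [injective_iff_map_eq_zero]
    intro u
    induction u using Submodule.Quotient.induction_on with
    | _ u =>
      intro hu
      rw [hψmk, Submodule.Quotient.mk_eq_zero] at hu
      obtain ⟨w, hw, hw'⟩ := hsurjW _ hu 1
      rw [one_smul] at hw'
      rw [Submodule.Quotient.mk_eq_zero, ← hinj hw']
      exact hw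
  obtain ⟨u, hu0, hu⟩ := exists_fixed hq hq0 ψ hψ hψinj (Submodule.Quotient.mk v)
    (by rwa [Ne, Submodule.Quotient.mk_eq_zero])
  obtain ⟨u, rfl⟩ := Submodule.Quotient.mk_surjective W u
  rw [Ne, Submodule.Quotient.mk_eq_zero] at hu0
  rw [hψmk, Submodule.Quotient.eq] at hu
  obtain ⟨w, hw, hw'⟩ := hAS _ hu (-1)
  have hfix : φ (u + w) = u + w := by
    rw [map_add, ← sub_eq_zero]
    calc φ u + φ w - (u + w) = (φ u - u) + (φ w - w) := by abel
      _ = 0 := by rw [hw', neg_one_smul, add_neg_cancel]
  exact hu0 (by simpa using sub_mem (Submodule.subset_span (s := {v | φ v = v}) hfix) hw)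

/-- Lang-Steinberg for `GL_n`. -/
theorem exists_eq_mul_map_inv (p : ℕ) [Fact p.Prime] [CharP K p] (f : ℕ) (hf : 1 ≤ f)
    (n : ℕ) (g : GL (Fin n) K) :
    ∃ x : GL (Fin n) K, g = x * (Matrix.GeneralLinearGroup.map (iterateFrobenius K p f) x)⁻¹ := by
  set σ := iterateFrobenius K p f with hσ
  have hσdef : ∀ c : K, σ c = c ^ p ^ f := fun c => iterateFrobenius_def p f c
  let M : Matrix (Fin n) (Fin n) K := g
  let φ : (Fin n → K) →+ (Fin n → K) :=
    { toFun := fun v => M *ᵥ (fun i => σ (v i))
      map_zero' := by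
        simp only [Pi.zero_apply, map_zero]
        exact Matrix.mulVec_zero M
      map_add' := fun v w => by
        rw [← Matrix.mulVec_add]
        congr 1
        funext i
        simp }
  have hφ : ∀ (c : K) v, φ (c • v) = c ^ p ^ f • φ v := by
    intro c v
    show M *ᵥ (fun i => σ ((c • v) i)) = c ^ p ^ f • (M *ᵥ fun i => σ (v i))
    rw [← Matrix.mulVec_smul]
    congr 1
    funext i
    simp [hσdef, mul_pow]
  have hinj : Function.Injective φ := by
    intro v w h
    have hu : IsUnit M := g.isUnit
    have := Matrix.mulVec_injective_of_isUnit hu h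
    funext i
    exact σ.injective (congrFun this i)
  have hq : 2 ≤ p ^ f := by
    calc 2 ≤ p := (Fact.out : p.Prime).two_le
      _ = p ^ 1 := (pow_one p).symm
      _ ≤ p ^ f := Nat.pow_le_pow_right (Fact.out : p.Prime).pos hf
  have hq0 : ((p ^ f : ℕ) : K) = 0 := by
    rw [Nat.cast_pow, CharP.cast_eq_zero, zero_pow (by omega)]
  have hspan := span_fixed hq hq0 φ hφ hinj
  obtain ⟨T, hTsub, hTspan, hTli⟩ :=
    exists_linearIndependent K ({v | φ v = v} : Set (Fin n → K))
  rw [hspan] at hTspan
  let b : Module.Basis T K (Fin n → K) :=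
    Module.Basis.mk hTli (by rw [Subtype.range_coe_subtype, Set.ofPred_mem_eq, hTspan])
  have : Fintype T := FiniteDimensional.fintypeBasisIndex b
  have hcard : Fintype.card T = n := by
    rw [← Module.finrank_eq_card_basis b, Module.finrank_pi, Fintype.card_fin]
  let e : Fin n ≃ T := (Fintype.equivFinOfCardEq hcard).symm
  let X' : Matrix (Fin n) (Fin n) K := Matrix.of fun i j => (e j : Fin n → K) i
  have hcols : LinearIndependent K X'.col := by
    have : X'.col = (fun t : T => (t : Fin n → K)) ∘ e := by
      funext j i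
      rfl
    rw [this]
    exact hTli.comp e e.injective
  have hXu : IsUnit X' := Matrix.linearIndependent_cols_iff_isUnit.mp hcols
  refine ⟨hXu.unit, ?_⟩
  rw [eq_mul_inv_iff_mul_eq]
  ext i j
  have hfix : φ (e j : Fin n → K) = (e j : Fin n → K) := hTsub (e j).2
  rw [Units.val_mul, IsUnit.unit_spec, Matrix.mul_apply]
  have := congrFun hfix i
  simpa [φ, M, Matrix.mulVec, dotProduct, X'] using this

end Cfsg.Agent.Fus.LangSteinberg
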