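import Mathlib
import Cfsg.Agent.Lib.Fus.SolvableSystem
import Cfsg.Agent.Lib.Fus.Invariant

/-!
Solvability of a saturated system passes to and from a normal subsystem and its factor system.
-/

set_option autoImplicit false
set_option linter.style.haveILetI false
set_option linter.unusedSectionVars false

open scoped commutatorElement

namespace Cfsg.Agent.Fus

open Subgroup FusionSystem

universe u v

variable {Ω : Type u} [Group Ω] {S : Subgroup Ω} {F : FusionSystem S} {p : ℕ} [Fact p.Prime]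
  {T : Subgroup Ω} {E : FusionSystem T}

/-- The least strongly closed subgroup of `E` containing `X`. -/
noncomputable def scClosure (E : FusionSystem T) (X : Subgroup Ω) : Subgroup Ω :=
  sInf {R | E.StronglyClosed R ∧ X ≤ R}

omit [Fact p.Prime] in
theorem stronglyClosed_self (E : FusionSystem T) : E.StronglyClosed T :=
  ⟨le_rfl, fun _ _ φ hφ x => (E.le_of_mem hφ).2 x⟩

omit [Fact p.Prime] in
theorem scClosure_closed {X : Subgroup Ω} (hX : X ≤ T) : E.StronglyClosed (scClosure E X) := by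
  refine ⟨sInf_le ⟨stronglyClosed_self E, hX⟩, fun R hR φ hφ x => ?_⟩
  refine Subgroup.mem_sInf.2 fun Q hQ => ?_
  exact hQ.1.2 R (hR.trans (sInf_le hQ)) φ hφ x

omit [Fact p.Prime] in
theorem le_scClosure (X : Subgroup Ω) : X ≤ scClosure E X := le_sInf fun _ h => h.2

omit [Fact p.Prime] in
/-- The translate of a strongly closed subgroup by an automorphism of `T` from `F`. -/
theorem stronglyClosed_translate (hinv : E.IsInvariantIn F) {R : Subgroup Ω}
    (hR : E.StronglyClosed R) {α : MulAut T} (hα : α ∈ F.autGroup T) :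
    E.StronglyClosed ((R.subgroupOf T).map (T.subtype.comp α.toMonoidHom)) := by
  refine ⟨?_, fun Q hQ φ hφ x => ?_⟩
  · rintro _ ⟨y, -, rfl⟩; exact (α y).2
  obtain ⟨k, hk, hke⟩ := invariant_isMap hinv (isMap_toFun hφ) ((F.autGroup T).inv_mem hα)
  have hQT : Q ≤ T := (E.le_of_mem hφ).1
  have hle : fimg (autFun (α⁻¹ : MulAut T)) Q ≤ R := by
    refine fimg_le fun q hq => ?_
    obtain ⟨y, hy, rfl⟩ := hQ hq
    show autFun (α⁻¹ : MulAut T) ((α y : T) : Ω) ∈ R
    rw [autFun_coe, MulAut.inv_apply_self]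
    exact hy
  obtain ⟨φ', hφ', hφe⟩ := hk
  have h1 := hR.2 _ hle φ' hφ' ⟨_, apply_mem_fimg _ x.2⟩
  rw [hφe, hke _ x.2, toFun_coe] at h1
  have hφT : φ x ∈ T := (E.le_of_mem hφ).2 x
  refine ⟨⟨_, autFun_mem (α⁻¹ : MulAut T) hφT⟩, h1, ?_⟩
  show ((α ⟨_, autFun_mem (α⁻¹ : MulAut T) hφT⟩ : T) : Ω) = φ x
  rw [← autFun_coe α, ← autFun_mul _ _ hφT, mul_inv_cancel, autFun_one hφT]

omit [Fact p.Prime] in
/-- Automorphisms of `T` in `F` permute the closures. -/
theorem scClosure_aut_mem (hinv : E.IsInvariantIn F) {X : Subgroup Ω} (hX : X ≤ T)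
    {α : MulAut T} (hα : α ∈ F.autGroup T)
    (hXα : ∀ x : T, (x : Ω) ∈ X → ((α x : T) : Ω) ∈ X) {y : T}
    (hy : (y : Ω) ∈ scClosure E X) [Finite T] : ((α y : T) : Ω) ∈ scClosure E X := by
  refine Subgroup.mem_sInf.2 fun R hR => ?_
  have hXinv : ∀ x : T, (x : Ω) ∈ X → ((α⁻¹ x : T) : Ω) ∈ X := by
    intro x hx
    obtain ⟨m, hm⟩ : ∃ m : ℕ, α⁻¹ = α ^ m :=
      ((mem_powers_iff_mem_zpowers.2 ((Subgroup.zpowers α).inv_mem (Subgroup.mem_zpowers α))).imp
        fun m hm => hm.symm)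
    rw [hm]
    clear hm
    induction m with
    | zero => simpa using hx
    | succ m ih => rw [pow_succ', MulAut.mul_apply]; exact hXα _ ih
  have h1 := stronglyClosed_translate hinv hR.1 ((F.autGroup T).inv_mem hα)
  have hXle : X ≤ (R.subgroupOf T).map (T.subtype.comp (α⁻¹ : MulAut T).toMonoidHom) := by
    intro x hx
    refine ⟨α ⟨x, hX hx⟩, Subgroup.mem_subgroupOf.2 (hR.2 (hXα _ hx)), ?_⟩
    show ((α⁻¹ (α ⟨x, hX hx⟩) : T) : Ω) = x
    rw [MulAut.inv_apply_self]
  obtain ⟨z, hz, hze⟩ := Subgroup.mem_sInf.1 hy _ ⟨h1, hXle⟩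
  have : y = α⁻¹ z := Subtype.ext hze.symm
  rw [this, MulAut.apply_inv_self]
  exact hz

omit [Fact p.Prime] in
theorem comm_le_self {U : Subgroup Ω} : ⁅U, U⁆ ≤ U := Subgroup.commutator_le.2 fun a ha b hb => by
  rw [commutatorElement_def]
  exact U.mul_mem (U.mul_mem (U.mul_mem ha hb) (U.inv_mem ha)) (U.inv_mem hb)

omit [Fact p.Prime] in
/-- A solvable normal subsystem has such a chain consisting of subgroups strongly closed in the
whole system. -/
theorem exists_closed_chain [Finite S] (hinv : E.IsInvariantIn F) {n : ℕ}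
    {C : Fin (n + 1) → Subgroup Ω} (h0 : C 0 = ⊥) (hl : C (Fin.last n) = T)
    (hsc : ∀ i, E.StronglyClosed (C i))
    (hab : ∀ i : Fin n, ⁅C i.succ, C i.succ⁆ ≤ C (Fin.castSucc i)) :
    ∃ U : ℕ → Subgroup Ω, U 0 = T ∧ U n = ⊥ ∧ ∀ i, F.StronglyClosed (U i) ∧
      ⁅U i, U i⁆ ≤ U (i + 1) := by
  haveI : Finite T := finite_of_le hinv.2.1.1
  let U : ℕ → Subgroup Ω := Nat.rec T fun _ X => scClosure E ⁅X, X⁆
  have hU : ∀ i, E.StronglyClosed (U i) ∧ ∀ α ∈ F.autGroup T, ∀ x : T, (x : Ω) ∈ U i →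
      ((α x : T) : Ω) ∈ U i := by
    intro i
    induction i with
    | zero => exact ⟨stronglyClosed_self E, fun α _ x _ => (α x).2⟩
    | succ i ih =>
      have hle : ⁅U i, U i⁆ ≤ T := comm_le_self.trans ih.1.1
      refine ⟨scClosure_closed hle, fun α hα x hx => scClosure_aut_mem hinv hle hα ?_ hx⟩
      intro y hy
      have h1 : (U i).subgroupOf T ≤ ((U i).subgroupOf T).comap α.toMonoidHom :=
        fun z hz => ih.2 α hα z hz
      have h2 : y ∈ ⁅(U i).subgroupOf T, (U i).subgroupOf T⁆ := by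
        refine (Subgroup.mem_map_iff_mem T.subtype_injective).1 ?_
        rw [Subgroup.map_commutator, Subgroup.subgroupOf_map_subtype,
          inf_eq_left.2 ih.1.1]
        exact hy
      have h3 : ⁅(U i).subgroupOf T, (U i).subgroupOf T⁆ ≤
          (⁅(U i).subgroupOf T, (U i).subgroupOf T⁆).comap α.toMonoidHom := by
        rw [← Subgroup.map_le_iff_le_comap, Subgroup.map_commutator]
        exact Subgroup.commutator_mono (Subgroup.map_le_iff_le_comap.2 h1)
          (Subgroup.map_le_iff_le_comap.2 h1)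
      have h4 := Subgroup.mem_map_of_mem T.subtype (Subgroup.mem_comap.1 (h3 h2))
      rwa [Subgroup.map_commutator, Subgroup.subgroupOf_map_subtype, inf_eq_left.2 ih.1.1] at h4
  have hle : ∀ i, i ≤ n → U i ≤ C ⟨n - i, by omega⟩ := by
    intro i
    induction i with
    | zero => intro _; exact hl.ge
    | succ i ih =>
      intro hi
      refine sInf_le ⟨hsc _, ?_⟩
      have h1 := hab ⟨n - (i + 1), by omega⟩
      have e1 : (Fin.succ ⟨n - (i + 1), by omega⟩ : Fin (n + 1)) = ⟨n - i, by omega⟩ :=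
        Fin.ext (by show n - (i + 1) + 1 = n - i; omega)
      rw [e1] at h1
      exact (Subgroup.commutator_mono (ih (by omega)) (ih (by omega))).trans h1
  refine ⟨U, rfl, le_bot_iff.1 ((hle n le_rfl).trans (le_of_eq ?_)), fun i =>
    ⟨⟨(hU i).1.1.trans hinv.2.1.1, fun R hR φ hφ x => ?_⟩, le_scClosure _⟩⟩
  · rw [← h0]; congr 1; exact Fin.ext (Nat.sub_self n)
  · have hRT : R ≤ T := hR.trans (hU i).1.1
    obtain ⟨α, hα, φ₀, hφ₀, he⟩ := hinv.2.2.2 R hRT φ hφ
    have h1 : φ₀ x ∈ U i := (hU i).1.2 R hR φ₀ hφ₀ x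
    rw [he x ((hU i).1.1 h1)]
    exact (hU i).2 α hα _ h1

variable {Ω' : Type v} [Group Ω'] {S' : Subgroup Ω'} {θ : S →* Ω'} {D : FusionSystem S'}

/-- A saturated system is solvable iff a normal subsystem and its factor system are solvable. -/
theorem isSolvableSystem_iff_normal [Finite S] (hS : IsPGroup p S) (hF : F.IsSaturated p)
    (hinv : E.IsInvariantIn F) (hEs : E.IsSaturated p) (hD : F.IsFactorSystem T θ D) :
    F.IsSolvableSystem ↔ (E.IsSolvableSystem ∧ D.IsSolvableSystem) := by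
  have hT := hinv.2.1
  haveI : Finite T := finite_of_le hT.1
  have hTp : IsPGroup p T := hS.to_le hT.1
  have hS'eq : θ.range = S' := hD.2.2.1
  haveI : Finite S' := hS'eq ▸ Finite.of_surjective θ.rangeRestrict θ.rangeRestrict_surjective
  have hS'p : IsPGroup p S' := hS'eq ▸ hS.of_surjective θ.rangeRestrict θ.rangeRestrict_surjective
  have hDs := isSaturated_factor hS hF hT hD
  constructor
  · intro h
    obtain ⟨n, C, h0, hl, -, hsc, hab⟩ := exists_chain_of_solvable hS hF h
    refine ⟨isSolvableSystem_of_chain hTp hEs (T := fun i => C i ⊓ T) (by rw [h0, bot_inf_eq])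
      (by rw [hl]; exact inf_eq_right.2 hT.1) (fun i => ⟨inf_le_right, fun R hR φ hφ x => ?_⟩)
      (fun i => le_inf ((Subgroup.commutator_mono inf_le_left inf_le_left).trans (hab i))
        ((Subgroup.commutator_mono inf_le_right inf_le_right).trans comm_le_self)), ?_⟩
    · exact ⟨(hsc i).2 R (hR.trans inf_le_left) φ (hinv.1 R hφ) x, (E.le_of_mem hφ).2 x⟩
    refine isSolvableSystem_of_chain hS'p hDs (T := fun i => imageAlong θ (C i)) ?_ ?_
      (fun i => stronglyClosed_imageAlong hD (hsc i)) fun i => ?_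
    · refine le_bot_iff.1 ?_
      rintro _ ⟨y, hy, rfl⟩
      have hy1 : y = 1 := Subtype.ext (Subgroup.mem_bot.1 (h0 ▸ hy))
      rw [hy1, map_one]; exact Subgroup.one_mem _
    · refine le_antisymm ?_ ?_
      · rintro _ ⟨y, -, rfl⟩; exact hS'eq.le ⟨y, rfl⟩
      · intro y hy
        obtain ⟨z, rfl⟩ := hS'eq.ge hy
        exact ⟨z, hl.ge z.2, rfl⟩
    · refine Subgroup.commutator_le.2 ?_
      rintro _ ⟨a, ha, rfl⟩ _ ⟨b, hb, rfl⟩
      exact ⟨⁅a, b⁆, hab i (Subgroup.commutator_mem_commutator ha hb), map_commutatorElement θ a b⟩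
  · rintro ⟨hE, hD'⟩
    obtain ⟨m, C, c0, cl, -, csc, cab⟩ := exists_chain_of_solvable hTp hEs hE
    obtain ⟨U, hU0, hUm, hU⟩ := exists_closed_chain hinv c0 cl csc cab
    obtain ⟨n, W, w0, wl, -, wsc, wab⟩ := exists_chain_of_solvable hS'p hDs hD'
    -- a descending chain from `S` to the trivial subgroup
    let V : ℕ → Subgroup Ω := fun i =>
      if h : i < n + 1 then preimageAlong θ (W ⟨n - i, by omega⟩) else U (i - n)
    have hV : ∀ i, F.StronglyClosed (V i) := fun i => by
      by_cases h : i < n + 1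
      · simp only [V, dif_pos h]
        exact stronglyClosed_preimageAlong hS hF hT hD (wsc _)
      · simp only [V, dif_neg h]
        exact (hU _).1
    have hW0 : preimageAlong θ (W 0) = T := by
      rw [w0]
      ext x
      rw [mem_preimageAlong]
      exact ⟨fun ⟨h, h'⟩ => (hD.2.1 ⟨x, h⟩).1 (Subgroup.mem_bot.1 h'),
        fun h => ⟨hT.1 h, Subgroup.mem_bot.2 ((hD.2.1 ⟨x, hT.1 h⟩).2 h)⟩⟩
    have hVab : ∀ i, ⁅V i, V i⁆ ≤ V (i + 1) := by
      intro i
      by_cases h : i < n
      · simp only [V, dif_pos (show i < n + 1 by omega), dif_pos (show i + 1 < n + 1 by omega)]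
        refine Subgroup.commutator_le.2 fun a ha b hb => ?_
        obtain ⟨haS, ha'⟩ := mem_preimageAlong.1 ha
        obtain ⟨hbS, hb'⟩ := mem_preimageAlong.1 hb
        refine mem_preimageAlong.2 ⟨(⁅(⟨a, haS⟩ : S), (⟨b, hbS⟩ : S)⁆ : S).2, ?_⟩
        show θ ⁅(⟨a, haS⟩ : S), (⟨b, hbS⟩ : S)⁆ ∈ _
        rw [map_commutatorElement]
        have h1 := wab ⟨n - (i + 1), by omega⟩
        have e1 : (Fin.succ ⟨n - (i + 1), by omega⟩ : Fin (n + 1)) = ⟨n - i, by omega⟩ :=
          Fin.ext (by show n - (i + 1) + 1 = n - i; omega)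
        rw [e1] at h1
        exact h1 (Subgroup.commutator_mem_commutator ha' hb')
      · simp only [V, dif_neg (show ¬ i + 1 < n + 1 by omega)]
        by_cases h' : i < n + 1
        · obtain rfl : i = n := by omega
          simp only [dif_pos h']
          rw [show (⟨i - i, by omega⟩ : Fin (i + 1)) = 0 from Fin.ext (Nat.sub_self i), hW0,
            show i + 1 - i = 0 + 1 by omega, ← hU0]
          exact (hU 0).2
        · simp only [dif_neg h']
          rw [show i + 1 - n = i - n + 1 by omega]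
          exact (hU _).2
    refine isSolvableSystem_of_chain hS hF (n := n + m)
      (T := fun j => V (n + m - j.val)) ?_ ?_ (fun i => hV _) fun i => ?_
    · simp only [Fin.val_zero, Nat.sub_zero, V]
      split_ifs with h
      · obtain rfl : m = 0 := by omega
        rw [show (⟨n - (n + 0), by omega⟩ : Fin (n + 1)) = 0 from Fin.ext (Nat.sub_self n), hW0,
          ← hU0, hUm]
      · rw [Nat.add_sub_cancel_left, hUm]
    · simp only [Fin.val_last, Nat.sub_self, V, dif_pos (Nat.succ_pos n)]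
      rw [show (⟨n - 0, by omega⟩ : Fin (n + 1)) = Fin.last n from Fin.ext rfl, wl]
      exact le_antisymm (fun x hx => (mem_preimageAlong.1 hx).1)
        fun x hx => mem_preimageAlong.2 ⟨hx, hS'eq.le ⟨⟨x, hx⟩, rfl⟩⟩
    · show ⁅V (n + m - (i.succ : ℕ)), V (n + m - (i.succ : ℕ))⁆ ≤ V (n + m - (i.castSucc : ℕ))
      have := hVab (n + m - (i.succ : ℕ))
      rwa [show n + m - (i.succ : ℕ) + 1 = n + m - (i.castSucc : ℕ) by
        have := i.isLt; simp only [Fin.val_succ, Fin.val_castSucc]; omega] at this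

end Cfsg.Agent.Fus
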