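import Cfsg.Agent.Lib.Fus.ComponentFree
import Cfsg.Agent.Lib.Fus.ResidualInvariant
import Cfsg.Agent.Lib.Fus.SolvableNormal

/-!
A quasisimple system has no proper normal subsystem on its whole support.
-/

set_option autoImplicit false
set_option linter.style.haveILetI false
set_option linter.unusedSectionVars false

open scoped Classical

universe u v

namespace Cfsg.Agent.Fus.Layer

open Subgroup FusionSystem CentralLift

variable {Ω : Type u} [Group Ω] {S : Subgroup Ω} {F : FusionSystem S} {p : ℕ} [Fact p.Prime]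
  [Finite S]

/-- On the whole support weakly normal subsystems are normal. -/
theorem normal_of_weakly_full {N : FusionSystem S} (hN : N.IsWeaklyNormalIn F p) :
    N.IsNormalIn F p := by
  refine ⟨hN, fun α hα => ?_⟩
  have hW : S ⊔ centralizerIn S S = S := sup_eq_left.2 inf_le_left
  have hm : IsMap F (S ⊔ centralizerIn S S) (autFun α) :=
    ((mem_autGroup le_rfl).1 (autGroup_mono hN.2.2.1 S hα)).res hW.le
  haveI : Finite ↥(S ⊔ centralizerIn S S) := finite_of_le hW.le
  obtain ⟨β, hβ, hβe⟩ := hm.exists_aut (Subgroup.eq_of_le_of_card_ge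
    ((fimg_le fun x hx => autFun_mem α (hW.le hx)).trans hW.ge) hm.card_fimg.ge)
  refine ⟨β, hβ, fun x => ?_, fun c hc => ?_⟩
  · rw [← autFun_coe β, Subgroup.coe_inclusion, hβe _ (Subgroup.mem_sup_left x.2), autFun_coe α x]
  · rw [← autFun_coe β, hβe _ c.2]
    have hmS := (mem_autGroup le_rfl).1 hα
    refine ⟨S.mul_mem (S.inv_mem hc.1) (autFun_mem α hc.1),
      Subgroup.mul_mem _ (Subgroup.inv_mem _ hc.2) fun y hy => ?_⟩
    obtain ⟨x, rfl⟩ : ∃ x : S, ((α x : S) : Ω) = y := ⟨α.symm ⟨y, hy⟩, by simp⟩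
    rw [show autFun α c = ((α ⟨c, hc.1⟩ : S) : Ω) from autFun_coe α ⟨c, hc.1⟩, ← Subgroup.coe_mul,
      ← Subgroup.coe_mul, ← map_mul, ← map_mul]
    exact congrArg (fun z : S => ((α z : S) : Ω)) (Subtype.ext (hc.2 x x.2))

/-- Modulo a central subgroup, a normal subsystem on the whole support gives a normal subsystem. -/
theorem factor_normal_full (hS : IsPGroup p S) (hF : F.IsSaturated p) {N : FusionSystem S}
    (hN : N.IsNormalIn F p) {Z : Subgroup Ω} (hZ : Z ≤ F.center) {Ω' : Type v} [Group Ω']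
    {θ : S →* Ω'} {S' : Subgroup Ω'} {E D : FusionSystem S'} (hE : F.IsFactorSystem Z θ E)
    (hD : N.IsFactorSystem Z θ D) : D.IsNormalIn E p := by
  have hZF : F.StronglyClosed Z := stronglyClosed_of_forall hE.1 fun R hR f hf x hx => by
    obtain ⟨g, -, hg1, hg2⟩ := (isCentral_iff.1 (isCentral_center F)).2 R f hf
    rw [show f x = x by rw [← hg1 x hx]; exact hg2 x (hZ (hR hx))]
    exact hR hx
  have hZN : N.StronglyClosed Z := stronglyClosed_of_forall hE.1 fun R hR f hf x hx =>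
    StronglyClosed.apply_mem hZF ((hf.mono hN.1.2.2.1).res inf_le_left) inf_le_right ⟨hx, hR hx⟩
  have hEs := isSaturated_factor hS hF hZF hE
  have hrange : θ.range = S' := hE.2.2.1
  have hfin : Finite S' := hrange ▸ Finite.of_surjective θ.rangeRestrict θ.rangeRestrict_surjective
  have hS'p : IsPGroup p S' :=
    hrange ▸ hS.of_surjective θ.rangeRestrict θ.rangeRestrict_surjective
  have q : Quot F p Z θ E (innerFusionSystem (⊥ : Subgroup Ω')) :=
    ⟨hS, hF, hZ, hE, CompFree.inner_isNormalIn hS'p hEs (isNormal_bot E)⟩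
  have himg : ∀ {P : Subgroup Ω'}, P ≤ S' → imageAlong θ (preimageAlong θ P) = P := fun h =>
    imageAlong_preimageAlong (hrange.symm ▸ h)
  have hnle := hN.1.2.2.1
  have dlift : ∀ {P : Subgroup Ω'} {f : Ω' → Ω'}, IsMap D P f →
      ∃ g, IsMap N (preimageAlong θ P) g ∧ ∀ x ∈ preimageAlong θ P, th θ (g x) = f (th θ x) :=
    fun {P f} hf => by
      obtain ⟨g, hg, hge⟩ := exists_lift hD hf
      refine ⟨g, hg, fun x hx => ?_⟩
      rw [th_eq (preimageAlong_le P hx), th_eq (hg.apply_mem hx)]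
      exact hge x hx _
  have dind : ∀ {P : Subgroup Ω} {g : Ω → Ω}, P ≤ S → Z ≤ P → IsMap N P g →
      ∃ f, IsMap D (imageAlong θ P) f ∧ ∀ x ∈ P, f (th θ x) = th θ (g x) :=
    fun {P g} hP hZP hg => by
      obtain ⟨f, hf, hfe⟩ :=
        exists_induced hD hZN (q.img_le hP) ((q.pre_img hP hZP).symm ▸ hg)
      refine ⟨f, hf, fun x hx => ?_⟩
      rw [th_eq (hP hx), th_eq (hg.apply_mem hx)]
      exact hfe x ((q.pre_img hP hZP).symm ▸ hx)
  have hsub : D.IsSubsystemOf E := fun P φ hφ => by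
    obtain ⟨hP, ψ, hψ, hind⟩ := (hD.2.2.2 P φ).1 hφ
    exact (hE.2.2.2 P φ).2 ⟨hP, ψ, hnle _ hψ, hind⟩
  refine normal_of_weakly_full
    ⟨isSaturated_factor hS hN.1.1 hZN hD, hEs, ResInv.isInvariantIn_of_strongInv hsub
      (stronglyClosed_self E) ?_ ?_⟩
  · intro P Q f u hPQ hQ hf hfm hu
    have hP := hPQ.trans hQ
    obtain ⟨g, hg, hge⟩ := dlift hf
    obtain ⟨v, hv, hve, -⟩ :=
      q.lift (preimageAlong_le Q) (factor_le_preimage hE Q) ((himg hQ).symm ▸ hu)
    have hpre : preimageAlong θ P ≤ preimageAlong θ Q := fun x hx =>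
      mem_pre.2 ⟨preimageAlong_le P hx, hPQ (mem_pre.1 hx).2⟩
    obtain ⟨k, hk, hke⟩ := ResInv.strongInv_of_invariant hN.1.2.2 _ _ g v hpre (preimageAlong_le Q)
      hg (fun x hx => mem_pre.2 ⟨hg.apply_mem hx, hge x hx ▸ hfm _ (mem_pre.1 hx).2⟩) hv
    have hvS : fimg v (preimageAlong θ P) ≤ S := (hv.res hpre).fimg_le_S
    obtain ⟨k', hk', hk'e⟩ :=
      dind hvS (q.le_fimg (hv.res hpre) (factor_le_preimage hE P)) hk
    have hu' : IsMap E P u := hu.res hPQ
    have heq : imageAlong θ (fimg v (preimageAlong θ P)) = fimg u P := by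
      refine le_antisymm (fun y hy => ?_) (fimg_le fun y hy => ?_)
      · obtain ⟨w, hw, rfl⟩ := (mem_img hvS).1 hy
        obtain ⟨x, hx, rfl⟩ := (hv.res hpre).mem_fimg_iff.1 hw
        rw [hve x (hpre hx)]
        exact apply_mem_fimg u (mem_pre.1 hx).2
      · obtain ⟨x, hxS, rfl⟩ := q.exists_th (hP hy)
        have hx : x ∈ preimageAlong θ P := mem_pre.2 ⟨hxS, hy⟩
        rw [← hve x (hpre hx)]
        exact th_mem_img hvS (apply_mem_fimg v hx)
    refine ⟨k', heq ▸ hk', fun y hy => ?_⟩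
    obtain ⟨x, hxS, rfl⟩ := q.exists_th (hP hy)
    have hx : x ∈ preimageAlong θ P := mem_pre.2 ⟨hxS, hy⟩
    have hgQ : g x ∈ preimageAlong θ Q :=
      mem_pre.2 ⟨hg.apply_mem hx, hge x hx ▸ hfm _ hy⟩
    rw [← hve x (hpre hx), hk'e _ (apply_mem_fimg v hx), hke x hx, hve _ hgQ, hge x hx]
  · intro P f hP hf
    obtain ⟨g, hg, hge, -⟩ :=
      q.lift (preimageAlong_le P) (factor_le_preimage hE P) ((himg hP).symm ▸ hf)
    obtain ⟨α, hα, g₀, hg₀, hg₀e⟩ :=
      frattini_of_isInvariantIn hN.1.2.2 (preimageAlong_le P) hg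
    obtain ⟨a', ha', ha'e, -⟩ := q.induced le_rfl hE.1 ((mem_autGroup le_rfl).1 hα)
    have hSS : imageAlong θ S = S' := le_antisymm (q.img_le le_rfl) fun y hy => by
      obtain ⟨x, hx, rfl⟩ := q.exists_th hy
      exact th_mem_img le_rfl hx
    rw [hSS] at ha'
    obtain ⟨β, hβ, hβe⟩ := ha'.exists_aut (fimg_eq_self_of_source_top ha')
    obtain ⟨f₀, hf₀, hf₀e⟩ := dind (preimageAlong_le P) (factor_le_preimage hE P) hg₀
    rw [himg hP] at hf₀
    refine ⟨β, hβ, f₀, hf₀, fun y hy => ?_⟩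
    obtain ⟨x, hxS, rfl⟩ := q.exists_th (hP hy)
    have hx : x ∈ preimageAlong θ P := mem_pre.2 ⟨hxS, hy⟩
    have h0 : g₀ x ∈ S := hg₀.apply_mem hx
    rw [← hge x hx, hg₀e x hx, hf₀e x hx, hβe _ (q.th_mem h0), ha'e _ h0]

/-- A quasisimple system is its only normal subsystem on the whole support. -/
theorem hom_eq_of_quasisimple (hS : IsPGroup p S) (hq : F.Quasisimple p) {N : FusionSystem S}
    (hN : N.IsNormalIn F p) (P : Subgroup Ω) : N.Hom P = F.Hom P := by
  refine Set.Subset.antisymm (hN.1.2.2.1 P) fun φ hφ => ?_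
  obtain ⟨hF, -, hsimple⟩ := id hq
  obtain ⟨E, hE⟩ := CompFree.exists_factor F
  set θ := QuotientGroup.mk' ((F.center).subgroupOf S) with hθ
  have hZF := stronglyClosed_center F
  have hZN : N.StronglyClosed F.center := stronglyClosed_of_forall hZF.1 fun R hR f hf x hx =>
    StronglyClosed.apply_mem hZF ((hf.mono hN.1.2.2.1).res inf_le_left) inf_le_right ⟨hx, hR hx⟩
  obtain ⟨D, hD⟩ : ∃ D : FusionSystem (⊤ : Subgroup (S ⧸ (F.center).subgroupOf S)),
      N.IsFactorSystem F.center θ D := by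
    have hker : ∀ s : S, θ s = 1 ↔ (s : Ω) ∈ F.center := fun s =>
      (QuotientGroup.eq_one_iff s).trans Subgroup.mem_subgroupOf
    have hr : θ.range = ⊤ := MonoidHom.range_eq_top.2 (QuotientGroup.mk'_surjective _)
    have h := isFactorSystem_factorSystemAlong N hZN θ hker
    revert h
    generalize factorSystemAlong N hZN θ hker = D
    revert D
    rw [hr]
    exact fun D h => ⟨D, h⟩
  obtain ⟨-, hne, hnormal⟩ := hsimple E hE
  obtain h | ⟨-, hhom⟩ := hnormal _ D (factor_normal_full hS hF hN le_rfl hE hD)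
  · exact absurd h hne
  have hEs := isSaturated_factor hS hF hZF hE
  haveI hfin : Finite ↥(⊤ : Subgroup (S ⧸ (F.center).subgroupOf S)) := inferInstance
  have q : Quot F p F.center θ E (innerFusionSystem (⊥ : Subgroup _)) :=
    ⟨hS, hF, le_rfl, hE, CompFree.inner_isNormalIn ((hS.to_quotient _).to_subgroup _) hEs
      (isNormal_bot E)⟩
  have key : ∀ {R : Subgroup Ω}, F.IsFullyNormalized R → F.center ≤ R →
      F.autGroup R ≤ N.autGroup R := by
    intro R hn hZR α hα
    have hR := hn.1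
    haveI := finite_of_le hR
    have hαm := (mem_autGroup hR).1 hα
    obtain ⟨a', ha', ha'e, -⟩ := q.induced hR hZR hαm
    obtain ⟨φ', hφ', he'⟩ := ha'.exists_hom
    rw [← hhom] at hφ'
    have ha'D : IsMap D (imageAlong θ R) a' :=
      (isMap_toFun hφ').congr fun x hx => (toFun_apply φ' hx).trans (he' ⟨x, hx⟩)
    obtain ⟨g, hg, hge⟩ := exists_lift hD ha'D
    rw [q.pre_img hR hZR] at hg
    have he : ∀ x ∈ R, th θ (g x) = th θ (autFun α x) := fun x hx => by
      rw [← ha'e x hx, th_eq (hR hx), th_eq (hg.apply_mem hx)]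
      exact hge x ((q.pre_img hR hZR).symm ▸ hx) _
    obtain ⟨γ, hγ, hγe⟩ := hg.exists_aut (Subgroup.eq_of_le_of_card_ge (fimg_le fun x hx => by
      refine q.mem_of_th hR hZR (hg.apply_mem hx) ?_
      rw [he x hx]
      exact th_mem_img hR (autFun_mem α hx)) hg.card_fimg.ge)
    have hγF := autGroup_mono hN.1.2.2.1 R hγ
    set δ := γ⁻¹ * α with hδ
    have hδF : δ ∈ F.autGroup R := mul_mem (inv_mem hγF) hα
    have hfix : ∀ z ∈ F.center, autFun δ z = z := fun z hz =>
      q.fixes ((mem_autGroup hR).1 hδF) hz (hZR hz)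
    have hmod : ∀ x ∈ R, x⁻¹ * autFun δ x ∈ F.center := fun x hx => by
      have hαx := autFun_mem α hx
      have hz : (autFun γ x)⁻¹ * autFun α x ∈ F.center :=
        (q.th_eq_iff (hR (autFun_mem γ hx)) (hR hαx)).1 (by rw [hγe x hx, he x hx])
      have hm := (mem_autGroup hR).1 (inv_mem hγF)
      have h1 := q.fixes hm hz (hZR hz)
      rw [hm.map_mul (inv_mem (autFun_mem γ hx)) hαx, hm.map_inv (autFun_mem γ hx),
        ← autFun_mul γ⁻¹ γ hx, inv_mul_cancel, autFun_one hx, ← autFun_mul γ⁻¹ α hx] at h1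
      rw [h1]
      exact hz
    haveI := finite_of_le hZF.1
    obtain ⟨a, ha⟩ := IsPGroup.iff_card.1 (hS.to_le (hZF.1))
    have hit : ∀ x ∈ R, ∀ n : ℕ, autFun (δ ^ n) x = x * (x⁻¹ * autFun δ x) ^ n := by
      intro x hx n
      induction n with
      | zero => rw [pow_zero, autFun_one hx, pow_zero, mul_one]
      | succ n ih =>
        rw [pow_succ', autFun_mul _ _ hx, ih, ((mem_autGroup hR).1 hδF).map_mul hx
          (pow_mem (hZR (hmod x hx)) n), hfix _ (pow_mem (hmod x hx) n), pow_succ', ← mul_assoc,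
          mul_inv_cancel_left]
    have hδp : δ ^ p ^ a = 1 := mulAut_ext fun x hx => by
      have h1 : (⟨_, hmod x hx⟩ : F.center) ^ p ^ a = 1 := by
        rw [← ha]; exact pow_card_eq_one'
      rw [hit x hx, show (x⁻¹ * autFun δ x) ^ p ^ a = 1 from congrArg Subtype.val h1, mul_one,
        autFun_one hx]
    have hδN : δ ∈ N.autGroup R :=
      mem_autGroup_of_isPGroup hN.1.2.2 hR (fullyAutomized_of_fullyNormalized hS hF hn)
        (autInducedBy_le_autGroup N hR) hδF hδp
    have : α = γ * δ := by rw [hδ]; group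
    exact this ▸ mul_mem hγ hδN
  refine mem_hom_iff.2 ?_
  refine alperin hS hF (fun P f => IsMap N P f) (fun P f g h e => h.congr e)
    (fun P Q f g _ _ hm h1 h2 => h1.comp h2 hm) (fun P Q f _ hle h => h.res hle)
    (fun α hα => (mem_autGroup le_rfl).1 (key (fullyNormalized_self F) hZF.1 hα))
    (fun Q hQ α hα => (mem_autGroup hQ.1.1).1 (key hQ.2.1 ?_ hα)) (isMap_toFun hφ)
  exact fun z hz => centralizerIn_le_of_centric hQ.1 ⟨hZF.1 hz, fun y hy =>
    F.center_le_centralizer hz y (hQ.1.1 hy)⟩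

end Cfsg.Agent.Fus.Layer
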