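import Cfsg.Agent.Lib.Fus.LayerImage
import Cfsg.Agent.Lib.Fus.CommFixes
import Cfsg.Agent.Lib.Fus.HypAction
import Cfsg.Agent.S5148

/-!
A component lies in a normal subsystem or commutes with it; distinct components commute.
-/

set_option autoImplicit false
set_option linter.style.haveILetI false
set_option linter.unusedSectionVars false

open scoped Classical

universe u

namespace Cfsg.Agent.Fus.Layer

open Subgroup FusionSystem FocalCent

variable {Ω : Type u} [Group Ω] {S : Subgroup Ω} {F : FusionSystem S} {p : ℕ}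

/-- A perfect saturated subsystem whose automorphisms of order prime to `p` fix `T` commutes with
`T` and all its maps fix `T`. -/
theorem fixes_of_coprime [Finite S] [Fact p.Prime] (hS : IsPGroup p S) {T U : Subgroup Ω}
    (hT : T ≤ S) (hTn : ∀ a ∈ S, ∀ b ∈ T, a * b * a⁻¹ ∈ T) {C : FusionSystem U} (hCs : C.IsSaturated p)
    (hU : U ≤ S) (hperf : C.hyperfocalSubgroup p = U)
    (h : ∀ (P : Subgroup Ω) (α : MulAut P), P ≤ U → α ∈ C.autGroup P → (orderOf α).Coprime p →
      Fixes F T P (autFun α)) :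
    (∀ a ∈ U, ∀ b ∈ T, a * b = b * a) ∧
      ∀ (P : Subgroup Ω) (f : Ω → Ω), IsMap C P f → Fixes F T P f := by
  haveI : Finite U := finite_of_le hU
  have hUp := hS.to_le hU
  have hcomm : ∀ a ∈ U, ∀ b ∈ T, a * b = b * a := by
    have hle : C.hyperfocalSubgroup p ≤ Subgroup.centralizer (T : Set Ω) :=
      hyperfocal_le_of_coprime fun P hP α hα x hx => by
        obtain ⟨g, hg, hg1, hg2⟩ := h P α hP α.2 (by rwa [Subgroup.orderOf_coe])
        intro k hk
        have hx' : x ∈ P ⊔ T := Subgroup.mem_sup_left hx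
        have hk' : k ∈ P ⊔ T := Subgroup.mem_sup_right hk
        have hw : k * x * k⁻¹ * x⁻¹ ∈ T := by
          rw [show k * x * k⁻¹ * x⁻¹ = k * (x * k⁻¹ * x⁻¹) by group]
          exact T.mul_mem hk (hTn x (hU (hP hx)) k⁻¹ (T.inv_mem hk))
        have e := hg2 _ hw
        rw [hg.map_mul (mul_mem (mul_mem hk' hx') (inv_mem hk')) (inv_mem hx'),
          hg.map_conj hk' hx', hg.map_inv hx', hg1 x hx, hg2 k hk] at e
        calc k * (x⁻¹ * autFun (α : MulAut P) x)
            = (k * x * k⁻¹ * x⁻¹ * x)⁻¹ * (k * autFun (α : MulAut P) x * k⁻¹ *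
                (autFun (α : MulAut P) x)⁻¹) * autFun (α : MulAut P) x * k := by group
          _ = x⁻¹ * autFun (α : MulAut P) x * k := by rw [e]; group
    rw [hperf] at hle
    exact fun a ha b hb => (hle ha b hb).symm
  have haut : ∀ R, C.IsFullyNormalized R → ∀ α ∈ C.autGroup R, Fixes F T R (autFun α) := by
    intro R hR α hα
    have hRS : R ⊔ T ≤ S := sup_le (hR.1.trans hU) hT
    obtain ⟨u, hu, ρ, hρ, e⟩ :=
      aut_decomp (fullyAutomized_of_fullyNormalized hUp hCs hR) ⟨α, hα⟩
    have hρ' : Fixes F T R (autFun (ρ : MulAut R)) :=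
      mem_goodAuts.1 (Subgroup.closure_induction
        (p := fun (b : C.autGroup R) _ => (b : MulAut R) ∈ goodAuts F T R hRS)
        (fun b hb => mem_goodAuts.2 (h R b hR.1 b.2 (by rw [Subgroup.orderOf_coe]; exact hb)))
        (one_mem _) (fun _ _ _ _ ha hb => mul_mem ha hb) (fun _ _ ha => inv_mem ha) hρ)
    have hconj : Fixes F T R (fun x => u * x * u⁻¹) :=
      ⟨fun x => u * x * u⁻¹, isMap_conj F hRS (hU hu), fun _ _ => rfl, fun y hy => by
        show u * y * u⁻¹ = y
        rw [hcomm u hu y hy, mul_inv_cancel_right]⟩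
    exact (hρ'.comp hconj fun x hx => autFun_mem _ hx).congr fun x hx => (e x hx).symm
  exact ⟨hcomm, fun P f hf => alperin hUp hCs (fun R k => Fixes F T R k)
    (fun R k k' h h' => h.congr h') (fun R R' k k' _ _ hm h h' => h.comp h' hm)
    (fun R R' k _ hR h => h.res hR)
    (fun α hα => haut U (fullyNormalized_self C) α hα)
    (fun R hR => haut R hR.2.1) hf⟩

/-- A component lies in a normal subsystem, or commutes with it and its maps fix its support. -/
theorem dichotomy {TC : Subgroup Ω} {C : FusionSystem TC} (hC : C.IsSubnormalIn F p) :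
    ∀ (_ : p.Prime) (_ : Finite S) (_ : IsPGroup p S) (_ : F.IsSaturated p) (_ : C.Quasisimple p)
      {T : Subgroup Ω} (N : FusionSystem T), N.IsNormalIn F p →
      C.IsSubsystemOf N ∨ ((∀ a ∈ TC, ∀ b ∈ T, a * b = b * a) ∧
        ∀ (P : Subgroup Ω) (f : Ω → Ω), IsMap C P f → Fixes F T P f) := by
  induction hC with
  | refl F p =>
    rename_i S F p
    intro hp _ hS hF hq T N hN
    haveI : Fact (Nat.Prime _) := ⟨hp⟩
    obtain rfl | hZ := support_of_quasisimple hS hq hN
    · exact Or.inl fun P => (hom_eq_of_quasisimple hS hq hN P).ge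
    · refine Or.inr ⟨fun a ha b hb => center_comm F (hZ hb) ha, fun P f hf => ?_⟩
      obtain ⟨g, hg, hg1, hg2⟩ := (isCentral_iff.1 (isCentral_center F)).2 P f hf
      exact Comm.Fixes.mono_fixed ⟨g, hg, hg1, hg2⟩ hZ
  | step hsub hD ih =>
    rename_i TC U S C D F p
    intro hp _ hS hF hq T N hN
    haveI : Fact (Nat.Prime _) := ⟨hp⟩
    have d : Inter.Two F p D N := ⟨hS, hF, hD, hN⟩
    have hUS := hD.1.2.2.2.1.1
    haveI := finite_of_le hUS
    have hTU := CompFree.subnormal_le hsub
    have h1 := Inter.interSys_normal_sub d hD inf_le_left fun {R} hR {b} hb => hb.2.2.2.1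
    have h2 := Inter.interSys_normal_sub d hN inf_le_right fun {R} hR {b} hb => hb.2.2.2.2
    obtain h | ⟨-, hfix⟩ := ih hp (finite_of_le hUS) (hS.to_le hUS) hD.1.1 hq _ h1
    · exact Or.inl fun P => (h P).trans (h2.1.2.2.1 P)
    · have a : Comm.Act F p D T := ⟨hS, hF, hD, hN.1.2.2.2.1⟩
      have hTsc := hN.1.2.2.2.1
      refine Or.inr (fixes_of_coprime hS hTsc.1
        (fun a ha b hb => StronglyClosed.conj_mem' hTsc ha hb) hq.1 (hTU.trans hUS) hq.2.1
        fun P α hP hα hm => ?_)
      exact a.fixes_of_fixes (hP.trans hTU) hm (pow_orderOf_eq_one α)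
        (Comm.Fixes.mono_fixed (hfix P _ ((mem_autGroup hP).1 hα)) (le_of_eq (inf_comm _ _)))

/-- A quasisimple subnormal subsystem of a quasisimple system is the whole system. -/
theorem eq_of_subnormal_quasisimple {TC : Subgroup Ω} {C : FusionSystem TC}
    (hC : C.IsSubnormalIn F p) :
    ∀ (_ : p.Prime) (_ : Finite S) (_ : IsPGroup p S) (_ : F.Quasisimple p) (_ : C.Quasisimple p),
      TC = S ∧ ∀ P, C.Hom P = F.Hom P := by
  induction hC with
  | refl F p => exact fun _ _ _ _ _ => ⟨rfl, fun _ => rfl⟩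
  | step hsub hD ih =>
    rename_i TC U S C D F p
    intro hp _ hS hqF hqC
    haveI : Fact (Nat.Prime _) := ⟨hp⟩
    obtain rfl | hZ := support_of_quasisimple hS hqF hD
    · obtain rfl := eq_of_hom_eq (hom_eq_of_quasisimple hS hqF hD)
      exact ih hp ‹_› hS hqF hqC
    · have hle := CompFree.subnormal_le hsub
      haveI : Finite TC := finite_of_le (hle.trans hD.1.2.2.2.1.1)
      exact absurd ⟨⟨fun a b => Subtype.ext
        (center_comm F (hZ (hle a.2)) (hD.1.2.2.2.1.1 (hle b.2))).symm⟩⟩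
        (S5148.result p (hS.to_le (hle.trans hD.1.2.2.2.1.1)) C hqC)

/-- Distinct components commute and the maps of one fix the support of the other. -/
theorem components {TC : Subgroup Ω} {C : FusionSystem TC} {TK : Subgroup Ω} {K : FusionSystem TK}
    (hK : K.IsSubnormalIn F p) :
    ∀ (_ : p.Prime) (_ : Finite S) (_ : IsPGroup p S) (_ : F.IsSaturated p) (_ : K.Quasisimple p),
      C.IsComponentIn F p → (TC = TK ∧ ∀ P, C.Hom P = K.Hom P) ∨
        ((∀ a ∈ TC, ∀ b ∈ TK, a * b = b * a) ∧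
          ∀ (P : Subgroup Ω) (f : Ω → Ω), IsMap C P f → Fixes F TK P f) := by
  induction hK with
  | refl F p =>
    intro hp _ hS hF hq hC
    exact Or.inl (eq_of_subnormal_quasisimple hC.1 hp ‹_› hS hq hC.2)
  | step hsub hD ih =>
    rename_i TK U S K D F p
    intro hp _ hS hF hq hC
    haveI : Fact (Nat.Prime _) := ⟨hp⟩
    have hUS := hD.1.2.2.2.1.1
    obtain h | ⟨h1, h2⟩ := dichotomy hC.1 hp ‹_› hS hF hC.2 D hD
    · have hle : TC ≤ U := (D.le_of_mem (h _ (subtype_mem C le_rfl))).1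
      obtain h | ⟨h1, h2⟩ := ih hp (finite_of_le hUS) (hS.to_le hUS) hD.1.1 hq
        ⟨subnormal_of_le hC.1 hp ‹_› hS hF hC.2 D hD hle, hC.2⟩
      · exact Or.inl h
      · exact Or.inr ⟨h1, fun P f hf => Comm.Fixes.mono_system (h2 P f hf) hD.1.2.2.1⟩
    · have hle := CompFree.subnormal_le hsub
      exact Or.inr ⟨fun a ha b hb => h1 a ha b (hle hb),
        fun P f hf => Comm.Fixes.mono_fixed (h2 P f hf) hle⟩

end Cfsg.Agent.Fus.Layer
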