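import Cfsg.Agent.Lib.Fus.LayerExist
import Cfsg.Agent.Lib.Fus.CommGeneral

/-!
The image of a normal subsystem in a central factor system, and the normal subsystems of a
quasisimple system.
-/

set_option autoImplicit false
set_option linter.style.haveILetI false
set_option linter.unusedSectionVars false

open scoped Classical

universe u v

namespace Cfsg.Agent.Fus.Layer

open Subgroup FusionSystem CentralLift

variable {Ω : Type u} [Group Ω] {S : Subgroup Ω} {F : FusionSystem S} {p : ℕ} [Finite S]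
  [Fact p.Prime]

/-- A normal subsystem has a normal subsystem of a central factor system on the image of its
support. -/
theorem exists_image_normal (hS : IsPGroup p S) (hF : F.IsSaturated p) {T : Subgroup Ω}
    {N : FusionSystem T} (hN : N.IsNormalIn F p) {Z : Subgroup Ω} (hZ : Z ≤ F.center) {Ω' : Type v}
    [Group Ω'] {θ : S →* Ω'} {S' : Subgroup Ω'} {E : FusionSystem S'}
    (hE : F.IsFactorSystem Z θ E) :
    ∃ D : FusionSystem (imageAlong θ T), D.IsNormalIn E p := by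
  have hTsc := hN.1.2.2.2.1
  have hTS : T ≤ S := hTsc.1
  haveI : Finite T := finite_of_le hTS
  have hZF : F.StronglyClosed Z := stronglyClosed_of_forall hE.1 fun R hR f hf x hx => by
    rw [Comm.fix_center hf hx (hZ (hR hx))]
    exact hR hx
  have hEs := isSaturated_factor hS hF hZF hE
  have hrange : θ.range = S' := hE.2.2.1
  haveI hfin : Finite S' := hrange ▸ Finite.of_surjective θ.rangeRestrict θ.rangeRestrict_surjective
  have hS'p : IsPGroup p S' :=
    hrange ▸ hS.of_surjective θ.rangeRestrict θ.rangeRestrict_surjective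
  have q : Quot F p Z θ E (innerFusionSystem (⊥ : Subgroup Ω')) :=
    ⟨hS, hF, hZ, hE, CompFree.inner_isNormalIn hS'p hEs (isNormal_bot E)⟩
  set T' := imageAlong θ T
  have hT'S : T' ≤ S' := q.img_le hTS
  let θT : T →* Ω' := θ.comp (Subgroup.inclusion hTS)
  have hθT : ∀ x : T, θT x = th θ x := fun x => (th_eq (hTS x.2)).symm
  have hker : ∀ x : T, θT x = 1 ↔ (x : Ω) ∈ Z ⊓ T := fun x =>
    (hE.2.1 (Subgroup.inclusion hTS x)).trans ⟨fun h => ⟨h, x.2⟩, fun h => h.1⟩
  have hZN : N.StronglyClosed (Z ⊓ T) := stronglyClosed_of_forall inf_le_right fun R hR f hf x hx => by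
    rw [q.fixes (hf.mono hN.1.2.2.1) (hR hx).1 hx]
    exact hR hx
  obtain ⟨D, hD⟩ : ∃ D : FusionSystem T', N.IsFactorSystem (Z ⊓ T) θT D := by
    have hr : θT.range = T' := by
      ext y
      constructor
      · rintro ⟨x, rfl⟩
        rw [hθT]
        exact th_mem_img hTS x.2
      · intro hy
        obtain ⟨x, hx, rfl⟩ := (mem_img hTS).1 hy
        exact ⟨⟨x, hx⟩, hθT ⟨x, hx⟩⟩
    have h := isFactorSystem_factorSystemAlong N hZN θT hker
    revert h
    generalize factorSystemAlong N hZN θT hker = D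
    revert D
    rw [hr]
    exact fun D h => ⟨D, h⟩
  have hpre : ∀ {P : Subgroup Ω'} {x : Ω},
      x ∈ preimageAlong θT P ↔ x ∈ T ∧ th θ x ∈ P := fun {P x} => by
    rw [mem_preimageAlong]
    exact ⟨fun ⟨h, hx⟩ => ⟨h, by rwa [hθT] at hx⟩, fun ⟨h, hx⟩ => ⟨h, by rwa [hθT ⟨x, h⟩]⟩⟩
  have dlift : ∀ {P : Subgroup Ω'} {f : Ω' → Ω'}, IsMap D P f →
      ∃ g, IsMap N (preimageAlong θT P) g ∧ ∀ x ∈ preimageAlong θT P, th θ (g x) = f (th θ x) :=
    fun {P f} hf => by
      obtain ⟨g, hg, hge⟩ := exists_lift hD hf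
      refine ⟨g, hg, fun x hx => ?_⟩
      have h := hge x hx (hg.apply_mem hx)
      rwa [hθT, hθT] at h
  have hsub : D.IsSubsystemOf E := by
    intro P φ hφ
    obtain ⟨g, hg, hge⟩ := dlift (isMap_toFun hφ)
    have hgF := hg.mono hN.1.2.2.1
    obtain ⟨k, hk, hk1, hk2⟩ := (isCentral_iff.1 (isCentral_center F)).2 _ _ hgF
    have hPT : P ≤ T' := (D.le_of_mem hφ).1
    have hP : preimageAlong θ P ≤ preimageAlong θT P ⊔ F.center := fun x hx => by
      obtain ⟨hxS, hxP⟩ := mem_pre.1 hx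
      obtain ⟨t, ht, e⟩ := (mem_img hTS).1 (hPT hxP)
      rw [show x = t * (t⁻¹ * x) by group]
      exact Subgroup.mul_mem_sup (hpre.2 ⟨ht, e.symm ▸ hxP⟩)
        (hZ ((q.th_eq_iff (hTS ht) hxS).1 e))
    obtain ⟨f', hf', hfe, -⟩ :=
      q.induced (preimageAlong_le P) (factor_le_preimage hE P) (hk.res hP)
    rw [imageAlong_preimageAlong (hrange.symm ▸ hPT.trans hT'S : P ≤ θ.range)] at hf'
    refine mem_hom_iff.2 (hf'.congr fun y hy => ?_)
    obtain ⟨x, hx, rfl⟩ := (mem_img hTS).1 (hPT hy)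
    have hxP : x ∈ preimageAlong θT P := hpre.2 ⟨hx, hy⟩
    rw [hfe x (mem_pre.2 ⟨hTS hx, hy⟩), hk1 x hxP, hge x hxP]
  have hT'sc : E.StronglyClosed T' := stronglyClosed_of_forall hT'S fun R hR f hf y hy => by
    obtain ⟨v, hv, hve, -⟩ := q.lift (preimageAlong_le R) (factor_le_preimage hE R)
      ((imageAlong_preimageAlong (hrange.symm ▸ hR.trans hT'S : R ≤ θ.range)).symm ▸ hf)
    obtain ⟨x, hx, rfl⟩ := (mem_img hTS).1 (hR hy)
    have hxR : x ∈ preimageAlong θ R := mem_pre.2 ⟨hTS hx, hy⟩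
    rw [← hve x hxR]
    exact th_mem_img hTS (StronglyClosed.apply_mem hTsc (hv.res inf_le_left) inf_le_right ⟨hxR, hx⟩)
  have hstrong : StrongInv E D := by
    intro P Q f u hPQ hQ hf hfm hu
    obtain ⟨g, hg, hge⟩ := dlift hf
    obtain ⟨v, hv, hve, -⟩ := q.lift (preimageAlong_le Q) (factor_le_preimage hE Q)
      ((imageAlong_preimageAlong (hrange.symm ▸ hQ.trans hT'S : Q ≤ θ.range)).symm ▸ hu)
    have hQ' : preimageAlong θT Q ≤ preimageAlong θ Q := fun x hx =>
      mem_pre.2 ⟨hTS (hpre.1 hx).1, (hpre.1 hx).2⟩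
    have hPQ' : preimageAlong θT P ≤ preimageAlong θT Q := fun x hx =>
      hpre.2 ⟨(hpre.1 hx).1, hPQ (hpre.1 hx).2⟩
    have hgm : ∀ x ∈ preimageAlong θT P, g x ∈ preimageAlong θT Q := fun x hx =>
      hpre.2 ⟨hg.apply_mem hx, hge x hx ▸ hfm _ (hpre.1 hx).2⟩
    obtain ⟨k, hk, hke⟩ := ResInv.strongInv_of_invariant hN.1.2.2 _ _ g v hPQ'
      (preimageAlong_le Q) hg hgm (hv.res hQ')
    have hvP := hv.res (hPQ'.trans hQ')
    have heq : fimg v (preimageAlong θT P) = preimageAlong θT (fimg u P) := by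
      refine le_antisymm (fimg_le fun x hx => ?_) fun w hw => ?_
      · refine hpre.2 ⟨StronglyClosed.apply_mem hTsc hvP (preimageAlong_le P) hx, ?_⟩
        rw [hve x (hQ' (hPQ' hx))]
        exact apply_mem_fimg u (hpre.1 hx).2
      · obtain ⟨hwT, hwu⟩ := hpre.1 hw
        obtain ⟨y, hy, hye⟩ := (hu.res hPQ).mem_fimg_iff.1 hwu
        obtain ⟨x, hx, rfl⟩ := (mem_img hTS).1 (hQ (hPQ hy))
        have hxP : x ∈ preimageAlong θT P := hpre.2 ⟨hx, hy⟩
        rw [← hve x (hQ' (hPQ' hxP))] at hye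
        have hvx : v x ∈ T := StronglyClosed.apply_mem hTsc hvP (preimageAlong_le P) hxP
        have hz : (v x)⁻¹ * w ∈ Z := (q.th_eq_iff (hTS hvx) (hTS hwT)).1 hye
        have hzP : (v x)⁻¹ * w ∈ preimageAlong θT P :=
          hpre.2 ⟨T.mul_mem (T.inv_mem hvx) hwT, by
            rw [(q.th_one_iff (hE.1 hz)).2 hz]; exact P.one_mem⟩
        have h := apply_mem_fimg v (mul_mem hxP hzP)
        rwa [hvP.map_mul hxP hzP, q.fixes hvP hz hzP, mul_inv_cancel_left] at h
    rw [heq] at hk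
    have huT : fimg u P ≤ T' := fimg_le fun y hy =>
      StronglyClosed.apply_mem hT'sc hu hQ (hPQ hy)
    obtain ⟨k', hk', hk'e⟩ := exists_induced hD hZN huT hk
    refine ⟨k', hk', fun y hy => ?_⟩
    obtain ⟨x, hx, rfl⟩ := (mem_img hTS).1 (hQ (hPQ hy))
    have hxP : x ∈ preimageAlong θT P := hpre.2 ⟨hx, hy⟩
    have hvx : v x ∈ preimageAlong θT (fimg u P) := heq ▸ apply_mem_fimg v hxP
    have h := hk'e (v x) hvx
    rw [hθT, hθT] at h
    simp only [hke x hxP] at h
    rw [← hve x (hQ' (hPQ' hxP)), h, hve _ (hQ' (hgm x hxP)), hge x hxP]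
  have hTp := hS'p.to_le hT'S
  haveI : Finite ↥T' := finite_of_le hT'S
  have hw : D.IsWeaklyNormalIn E p :=
    ⟨isSaturated_factor (hS.to_le hTS) hN.1.1 hZN hD, hEs,
      ResInv.isInvariantIn_of_strongInv hsub hT'sc hstrong
        fun hP hf => dec_of_strongInv hS'p hEs hstrong hT'sc hP hf⟩
  obtain ⟨D₀, hD₀⟩ := PrimeIndex.exists_residual hTp hw.1
  exact ⟨D₀, ResNorm.residual_isNormalIn hS'p hw hD₀⟩

/-- A normal subsystem of a quasisimple system has full or central support. -/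
theorem support_of_quasisimple (hS : IsPGroup p S) (hq : F.Quasisimple p) {T : Subgroup Ω}
    {N : FusionSystem T} (hN : N.IsNormalIn F p) : T = S ∨ T ≤ F.center := by
  obtain ⟨hF, hperf, hsimple⟩ := id hq
  obtain ⟨E, hE⟩ := CompFree.exists_factor F
  obtain ⟨D, hD⟩ := exists_image_normal hS hF hN le_rfl hE
  have hTsc := hN.1.2.2.2.1
  have hTS := hTsc.1
  haveI : Finite T := finite_of_le hTS
  haveI hfin : Finite ↥(⊤ : Subgroup (S ⧸ (F.center).subgroupOf S)) := inferInstance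
  have q : Quot F p F.center (QuotientGroup.mk' ((F.center).subgroupOf S)) E
      (innerFusionSystem (⊥ : Subgroup _)) :=
    ⟨hS, hF, le_rfl, hE, CompFree.inner_isNormalIn ((hS.to_quotient _).to_subgroup _)
      (hsimple E hE).1 (isNormal_bot E)⟩
  obtain h | ⟨h, -⟩ := (hsimple E hE).2.2 _ D hD
  · refine Or.inr fun x hx => (q.th_one_iff (hTS hx)).1 ?_
    have h1 := th_mem_img (θ := QuotientGroup.mk' ((F.center).subgroupOf S)) hTS hx
    rwa [h, Subgroup.mem_bot] at h1
  · refine Or.inl (le_antisymm hTS (hperf ▸ hyperfocal_le_of_coprime fun P hP α hα x hx => ?_))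
    have hm := (mem_autGroup hP).1 α.2
    obtain ⟨g, hg, hg1, hg2⟩ := (isCentral_iff.1 (isCentral_center F)).2 P _ hm
    obtain ⟨t, ht, e⟩ := (mem_img hTS).1
      (h.ge (Subgroup.mem_top (th (QuotientGroup.mk' ((F.center).subgroupOf S)) x)))
    have hz : t⁻¹ * x ∈ F.center := (q.th_eq_iff (hTS ht) (hP hx)).1 e
    have htP : t ∈ P ⊔ F.center := by
      rw [show t = x * (t⁻¹ * x)⁻¹ by group]
      exact mul_mem (Subgroup.mem_sup_left hx) (Subgroup.mem_sup_right (inv_mem hz))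
    have hgt : g t ∈ T :=
      StronglyClosed.apply_mem hTsc (hg.res inf_le_left) inf_le_right ⟨htP, ht⟩
    have hgx : g x = g t * (t⁻¹ * x) := by
      conv_lhs => rw [show x = t * (t⁻¹ * x) by group]
      rw [hg.map_mul htP (Subgroup.mem_sup_right hz), hg2 _ hz]
    rw [← hg1 x hx, hgx]
    rw [show x⁻¹ * (g t * (t⁻¹ * x)) = (t⁻¹ * x)⁻¹ * (t⁻¹ * g t) * (t⁻¹ * x) by group]
    simpa using StronglyClosed.conj_mem' hTsc (S.inv_mem ((isCentral_center F).1 hz))
      (T.mul_mem (T.inv_mem ht) hgt)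

end Cfsg.Agent.Fus.Layer
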