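import Cfsg.Agent.Lib.Spor.Cos.ListGroup

/-!
Listed subgroups generated by their involutions, by a computation on bit sets.
-/

set_option autoImplicit false

namespace Cfsg.Agent.Fus

open Cfsg.Agent.Spor.Cos

/-- Add the products with a self-inverse element. -/
noncomputable def addProd (L : ListGrp) (t R : ℕ) : ℕ :=
  (List.range L.m).foldl (fun R' r => bif R.testBit r then Nat.lor R' (2 ^ L.prod r t) else R') R

/-- One round over all involutions of a list. -/
noncomputable def reachStep (L : ListGrp) (R : ℕ) : ℕ :=
  (List.range L.m).foldl (fun R' t => bif Nat.beq (L.prod t t) 0 then addProd L t R' else R') R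

/-- Everything is a product of involutions. -/
noncomputable def chkReach (L : ListGrp) (n : ℕ) : Bool :=
  (fun R : ℕ => (List.range L.m).all fun i => R.testBit i) ((List.range n).foldl (fun R _ => reachStep L R) 1)

variable {G : Type*} [Group G] {g : ℕ → G}

theorem mem_of_chkReach {L : ListGrp} (h : L.Ok g) {n : ℕ} (hc : chkReach L n = true) (H : Subgroup G)
    (hH : ∀ t < L.m, L.el g t * L.el g t = 1 → L.el g t ∈ H) : ∀ i < L.m, L.el g i ∈ H := by
  set P : ℕ → Prop := fun R => ∀ i, R.testBit i = true → i < L.m ∧ L.el g i ∈ H with hP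
  have fold : ∀ {β : Type} (f : ℕ → β → ℕ) (l : List β), (∀ R, ∀ x ∈ l, P R → P (f R x)) →
      ∀ R, P R → P (l.foldl f R) := by
    intro β f l
    induction l with
    | nil => intro _ R hR; exact hR
    | cons x l ih =>
      intro hf R hR
      exact ih (fun R' y hy => hf R' y (List.mem_cons_of_mem _ hy)) _ (hf R x (List.mem_cons_self ..) hR)
  have hstep : ∀ R, P R → P (reachStep L R) := by
    intro R hR
    refine fold _ _ (fun R' t ht hR' => ?_) R hR
    cases ht2 : Nat.beq (L.prod t t) 0
    · simpa using hR'
    have ht' : t < L.m := List.mem_range.1 ht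
    have htH : L.el g t ∈ H := hH t ht' (by rw [h.mul t ht' t ht', Nat.eq_of_beq_eq_true ht2, h.zero])
    refine fold _ _ (fun R'' r hr hR'' => ?_) R' hR'
    cases hb : R'.testBit r
    · simpa using hR''
    intro i hi
    simp only [cond_true] at hi
    change (R'' ||| 2 ^ L.prod r t).testBit i = true at hi
    rw [Nat.testBit_or, Bool.or_eq_true, Nat.testBit_two_pow, decide_eq_true_eq] at hi
    rcases hi with hi | rfl
    · exact hR'' i hi
    · have hr' := hR' r hb
      exact ⟨h.lt r hr'.1 t ht', by rw [← h.mul r hr'.1 t ht']; exact mul_mem hr'.2 htH⟩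
  have hall : P ((List.range n).foldl (fun R _ => reachStep L R) 1) := by
    refine fold _ _ (fun R _ _ hR => hstep R hR) 1 fun i hi => ?_
    have : i = 0 := by
      rw [show (1 : ℕ) = 2 ^ 0 from rfl, Nat.testBit_two_pow, decide_eq_true_eq] at hi
      exact hi.symm
    subst this
    exact ⟨h.pos, h.zero ▸ one_mem H⟩
  intro i hi
  exact (hall i (List.all_eq_true.1 hc i (List.mem_range.2 hi))).2

end Cfsg.Agent.Fus
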