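import Cfsg.Agent.Lib.Fus.SimpleCriterion
import Cfsg.Agent.Lib.Grp.Frattini
import Cfsg.Agent.Lib.Spor.Golay.AutTable
import Cfsg.Prelude.Def_Spor_Mathieu

/-!
A kernel-checkable certificate that the 2-fusion system of a set stabiliser in the group of the
length-24 code is simple: an explicit Sylow 2-subgroup by a series of index two, its centre of
order two, conjugations generating it from the central involution, and a search showing that
its normaliser is a 2-group.
-/

set_option autoImplicit false
set_option linter.style.haveILetI false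
set_option maxRecDepth 100000

namespace Cfsg.Agent.Fus.Mathieu

open Cfsg.Agent.Spor.Golay Cfsg.Agent.Spor.Golay.Aut
open scoped Pointwise

/-- Evaluate a number before using it. -/
def force {α : Type} (k : ℕ → α) : ℕ → α
  | 0 => k 0
  | n + 1 => k (n + 1)

theorem force_eq {α : Type} (k : ℕ → α) : ∀ n, force k n = k n
  | 0 => rfl
  | _ + 1 => rfl

/-- A certificate. -/
structure Cert where
  sets : List ℕ
  gens : List (ℕ × ℕ)
  els : List ℕ
  z : ℕ
  steps : List (ℕ × List ℕ × ℕ)
  ends : List (List ℕ)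
  fixd : ℕ
  cls : List ℕ
  tbl : ℕ

/-- The number of fixed positions. -/
def fixN (s : ℕ) : ℕ := (List.range 24).countP fun i => get s i == i

/-- Two packed numbers differ. -/
def differs (P Q : ℕ) : Bool := (List.range 24).any fun i => get P i != get Q i

/-- Membership in the set stabiliser. -/
def inGrp (M : List ℕ) (P : ℕ) : Bool :=
  inM24 P && M.all fun m => imgMask (get P) m == m

/-- One doubling step. -/
def stepOk' (M L L' : List ℕ) (prev : List ℕ) (g gI : ℕ) : Bool :=
  inGrp M g && valid gI && (comp g gI == idP) &&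
    (prev.all fun h => force (fun c => L.contains c) (comp (comp g h) gI)) &&
    force (fun c => L.contains c) (comp g g) &&
    (L.all fun s => differs s g) &&
    (L' == L ++ L.map fun s => comp s g)

/-- The series of subgroups. -/
def growOk (M els : List ℕ) : ℕ → List ℕ → List (ℕ × ℕ) → Bool
  | i, _, [] => els.length == 2 ^ i
  | i, prev, g :: r =>
    stepOk' M (els.take (2 ^ i)) (els.take (2 ^ (i + 1))) prev g.1 g.2 &&
      growOk M els (i + 1) (prev ++ [g.1]) r

/-- The value of a word in listed elements. -/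
def appW (D : List ℕ) : List ℕ → ℕ → ℕ
  | [], x => x
  | a :: r, x => get (D.getD a idP) (appW D r x)

/-- The derived elements. -/
def stepsOk (M els : List ℕ) : List ℕ → List (ℕ × List ℕ × ℕ) → Bool
  | _, [] => true
  | D, s :: r =>
    inGrp M s.1 && els.contains s.2.2 && (s.2.1.all fun a => decide (a < D.length)) &&
      ((List.range 24).all fun i => get s.1 (appW D s.2.1 i) == get s.2.2 (get s.1 i)) &&
      stepsOk M els (D ++ [s.2.2]) r

/-- Every generator is a word. -/
def endsOk (D : List ℕ) : List (ℕ × ℕ) → List (List ℕ) → Bool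
  | [], [] => true
  | g :: gs, w :: ws => (w.all fun a => decide (a < D.length)) &&
      ((List.range 24).all fun i => get g.1 i == appW D w i) && endsOk D gs ws
  | _, _ => false

/-- The newest pair respects the counts. -/
def headInv (T : ℕ) : List (ℕ × ℕ) → Bool
  | [] => true
  | u :: rest => (u :: rest).all fun v =>
      (tab 8 T (24 * u.1 + v.1) == tab 8 T (24 * u.2 + v.2)) &&
        (tab 8 T (24 * v.1 + u.1) == tab 8 T (24 * v.2 + u.2))

/-- All pairs respect the counts. -/
def invAll (T P : ℕ) : Bool :=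
  (List.range 24).all fun x => (List.range 24).all fun y =>
    tab 8 T (24 * x + y) == tab 8 T (24 * get P x + get P y)

/-- The sixteenth power is trivial. -/
def twoElem (P : ℕ) : Bool :=
  force (fun a => force (fun b => force (fun c => comp c c == idP) (comp b b)) (comp a a))
    (comp P P)

/-- The condition at a leaf. -/
def leafOk (M : List ℕ) (T : ℕ) (L : List ℕ) : Bool :=
  !(sidesL M L) || force (fun P => twoElem P || !(invAll T P)) (pack 24 (appL L))

namespace Cert

variable (C : Cert)

/-- The series and the centre. -/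
def groupOk : Bool :=
  (C.els.take 1 == [idP]) && growOk C.sets C.els 0 [] C.gens &&
    C.els.contains C.z && differs C.z idP &&
    C.els.all fun s => (s == idP) || (s == C.z) ||
      C.gens.any fun g => (List.range 24).any fun i => get s (get g.1 i) != get g.1 (get s i)

/-- The derived elements and the generators. -/
def fusionOk : Bool :=
  stepsOk C.sets C.els [C.z] C.steps && endsOk (C.z :: C.steps.map fun s => s.2.2) C.gens C.ends

/-- The table of counts. -/
def tableOk : Bool :=
  (C.cls == C.els.filter fun s => fixN s == C.fixd) &&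
    (List.range 24).all fun x => (List.range 24).all fun y =>
      tab 8 C.tbl (24 * x + y) == C.cls.countP fun s => get s x == y

/-- The search for elements normalising the subgroup. -/
def searchOk : Bool :=
  searchAll (fun A => headSide C.sets A && headInv C.tbl A) (leafOk C.sets C.tbl)
    g24ChainLits [] []

end Cert

attribute [local irreducible] permOf comp pack Cfsg.Agent.Spor.Golay.get

theorem valid_of_inM24 {P : ℕ} (h : inM24 P = true) : valid P = true := by
  rw [inM24, Bool.and_eq_true] at h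
  exact h.1

theorem inGrp_sound {M : List ℕ} {P : ℕ} (h : inGrp M P = true) :
    valid P = true ∧ permOf P ∈ Fix M [] := by
  simp only [inGrp, Bool.and_eq_true, List.all_eq_true, beq_iff_eq] at h
  have hv := valid_of_inM24 h.1
  exact ⟨hv, mem_Fix.mpr ⟨permOf_mem_M24 h.1,
    fun m hm => by rw [permOf_smul_pts hv, h.2 m hm], by simp⟩⟩

theorem permOf_ne {P Q : ℕ} (hP : valid P = true) (hQ : valid Q = true) (h : differs P Q = true) :
    permOf P ≠ permOf Q := by
  simp only [differs, List.any_eq_true, List.mem_range, bne_iff_ne] at h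
  obtain ⟨i, hi, hne⟩ := h
  intro e
  apply hne
  have h2 := congrArg (fun σ : Equiv.Perm GolayPt => idx (σ (pt i))) e
  simpa [idx_permOf hP, idx_permOf hQ, idx_pt hi] using h2

/-- A finite submonoid containing a subgroup with a given set. -/
def subgroupOfFinite {G : Type*} [Group G] [Finite G] (A : Submonoid G) : Subgroup G :=
  { A with
    inv_mem' := fun {x} hx => by
      have h : x ^ (orderOf x - 1) = x⁻¹ := by
        refine eq_inv_of_mul_eq_one_left ?_
        rw [← pow_succ, Nat.sub_add_cancel (orderOf_pos x), pow_orderOf_eq_one]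
      exact h ▸ A.pow_mem hx _ }

/-- What one stage of the series provides. -/
def Stage (M L prev : List ℕ) : Prop :=
  (∀ s ∈ L, valid s = true) ∧ (L.map permOf).Nodup ∧
    ∃ H : Subgroup (Equiv.Perm GolayPt), H ≤ Fix M [] ∧ (∀ x, x ∈ H ↔ x ∈ L.map permOf) ∧
      (∀ h ∈ prev, valid h = true ∧ permOf h ∈ H) ∧
      ∀ T : Subgroup (Equiv.Perm GolayPt), (∀ h ∈ prev, permOf h ∈ T) → H ≤ T

theorem stage_step {M L L' prev : List ℕ} {g gI : ℕ} (hS : Stage M L prev)
    (h : stepOk' M L L' prev g gI = true) : Stage M L' (prev ++ [g]) := by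
  obtain ⟨hval, hnd, H, hHM, hH, hprev, hmin⟩ := hS
  simp only [stepOk', Bool.and_eq_true, List.all_eq_true, beq_iff_eq, force_eq,
    List.contains_eq_mem, decide_eq_true_eq] at h
  obtain ⟨⟨⟨⟨⟨⟨hg, hgIv⟩, hinv⟩, hnorm⟩, hsq⟩, hdiff⟩, hL'⟩ := h
  obtain ⟨hgv, hgM⟩ := inGrp_sound hg
  set γ := permOf g
  have hgI : permOf gI = γ⁻¹ := by
    refine eq_inv_of_mul_eq_one_right ?_
    rw [← permOf_comp hgv hgIv, hinv, permOf_idP]
  have hmemL : ∀ {c : ℕ}, c ∈ L → permOf c ∈ H := fun hc => (hH _).2 (List.mem_map_of_mem hc)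
  have hγ2 : γ * γ ∈ H := by rw [← permOf_comp hgv hgv]; exact hmemL hsq
  have hconj : ∀ x ∈ H, γ * x * γ⁻¹ ∈ H := fun x hx =>
    (hmin (H.comap (MulAut.conj γ).toMonoidHom) (fun h hh => by
      show γ * permOf h * γ⁻¹ ∈ H
      rw [← hgI, ← permOf_comp hgv (hprev h hh).1, ← permOf_comp (valid_comp hgv (hprev h hh).1) hgIv]
      exact hmemL (hnorm h hh))) hx
  let A : Submonoid (Equiv.Perm GolayPt) :=
    { carrier := {x | x ∈ H ∨ x * γ⁻¹ ∈ H}
      one_mem' := Or.inl H.one_mem
      mul_mem' := by
        rintro a b (ha | ha) (hb | hb)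
        · exact Or.inl (H.mul_mem ha hb)
        · refine Or.inr ?_
          rw [mul_assoc]
          exact H.mul_mem ha hb
        · refine Or.inr ?_
          have := H.mul_mem ha (hconj b hb)
          rwa [show a * γ⁻¹ * (γ * b * γ⁻¹) = a * b * γ⁻¹ by group] at this
        · refine Or.inl ?_
          have := H.mul_mem (H.mul_mem ha (hconj _ hb)) hγ2
          rwa [show a * γ⁻¹ * (γ * (b * γ⁻¹) * γ⁻¹) * (γ * γ) = a * b by group] at this }
  refine ⟨?_, ?_, subgroupOfFinite A, ?_, ?_, ?_, ?_⟩
  · intro s hs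
    rw [hL', List.mem_append, List.mem_map] at hs
    rcases hs with hs | ⟨t, ht, rfl⟩
    · exact hval s hs
    · exact valid_comp (hval t ht) hgv
  · have he : L'.map permOf = L.map permOf ++ (L.map permOf).map (· * γ) := by
      rw [hL', List.map_append, List.map_map, List.map_map]
      congr 1
      exact List.map_congr_left fun s hs => permOf_comp (hval s hs) hgv
    rw [he, List.nodup_append]
    refine ⟨hnd, hnd.map (mul_left_injective γ), ?_⟩
    rintro a ha b hb rfl
    obtain ⟨t, ht, hta⟩ := List.mem_map.1 hb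
    have hγ : γ ∈ H := by
      have := H.mul_mem (H.inv_mem ((hH t).2 ht)) ((hH a).2 ha)
      rwa [← hta, inv_mul_cancel_left] at this
    obtain ⟨s, hs, hse⟩ := List.mem_map.1 ((hH γ).1 hγ)
    exact permOf_ne (hval s hs) hgv (hdiff s hs) hse
  · rintro x (hx | hx)
    · exact hHM hx
    · have := (Fix M []).mul_mem (hHM hx) hgM
      rwa [inv_mul_cancel_right] at this
  · intro x
    show (x ∈ H ∨ x * γ⁻¹ ∈ H) ↔ _
    rw [hL', List.map_append, List.mem_append, ← hH, List.map_map]
    refine or_congr Iff.rfl ⟨fun hx => ?_, fun hx => ?_⟩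
    · obtain ⟨s, hs, hse⟩ := List.mem_map.1 ((hH _).1 hx)
      refine List.mem_map.2 ⟨s, hs, ?_⟩
      rw [Function.comp_apply, permOf_comp (hval s hs) hgv, hse, inv_mul_cancel_right]
    · obtain ⟨s, hs, hse⟩ := List.mem_map.1 hx
      rw [Function.comp_apply, permOf_comp (hval s hs) hgv] at hse
      rw [← hse, mul_inv_cancel_right]
      exact hmemL hs
  · intro h hh
    rcases List.mem_append.1 hh with hh | hh
    · exact ⟨(hprev h hh).1, Or.inl (hprev h hh).2⟩
    · rw [List.mem_singleton] at hh
      subst hh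
      exact ⟨hgv, Or.inr (show γ * γ⁻¹ ∈ H by rw [mul_inv_cancel]; exact H.one_mem)⟩
  · intro T hT x hx
    have hle : H ≤ T := hmin T fun h hh => hT h (List.mem_append_left _ hh)
    have hγT : γ ∈ T := hT g (List.mem_append_right _ (List.mem_singleton_self g))
    rcases hx with hx | hx
    · exact hle hx
    · have := T.mul_mem (hle hx) hγT
      rwa [inv_mul_cancel_right] at this

theorem stage_grow {M els : List ℕ} : ∀ (r : List (ℕ × ℕ)) (i : ℕ) (prev : List ℕ),
    growOk M els i prev r = true → Stage M (els.take (2 ^ i)) prev →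
    els.length = 2 ^ (i + r.length) ∧ Stage M els (prev ++ r.map Prod.fst)
  | [], i, prev, h, hS => by
    simp only [growOk, beq_iff_eq] at h
    refine ⟨by simpa using h, ?_⟩
    rw [List.take_of_length_le h.le] at hS
    simpa using hS
  | g :: r, i, prev, h, hS => by
    simp only [growOk, Bool.and_eq_true] at h
    obtain ⟨h1, h2⟩ := stage_grow r (i + 1) _ h.2 (stage_step hS h.1)
    refine ⟨by rw [h1, List.length_cons]; congr 1; omega, ?_⟩
    simpa [List.append_assoc] using h2

theorem stage_base (M : List ℕ) : Stage M [idP] [] := by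
  refine ⟨by simp [valid_idP], by simp, ⊥, bot_le, fun x => ?_, by simp, fun T _ => bot_le⟩
  simp [permOf_idP]

theorem idx_wordProd {D : List ℕ} (hD : ∀ d ∈ D, valid d = true) :
    ∀ w : List ℕ, (∀ a ∈ w, a < D.length) → ∀ i < 24,
      idx ((w.map fun a => permOf (D.getD a idP)).prod (pt i)) = appW D w i
  | [], _, i, hi => by simp [appW, idx_pt hi]
  | a :: r, hw, i, hi => by
    have ha : valid (D.getD a idP) = true := by
      rw [List.getD_eq_getElem _ _ (hw a (List.mem_cons_self ..))]
      exact hD _ (List.getElem_mem _)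
    rw [List.map_cons, List.prod_cons, Equiv.Perm.mul_apply, idx_permOf ha,
      idx_wordProd hD r (fun b hb => hw b (List.mem_cons_of_mem _ hb)) i hi, appW]

theorem wordProd_mem {D : List ℕ} {T : Subgroup (Equiv.Perm GolayPt)}
    (hD : ∀ d ∈ D, valid d = true ∧ permOf d ∈ T) {w : List ℕ} (hw : ∀ a ∈ w, a < D.length) :
    (w.map fun a => permOf (D.getD a idP)).prod ∈ T := by
  refine Subgroup.list_prod_mem _ fun x hx => ?_
  obtain ⟨a, ha, rfl⟩ := List.mem_map.1 hx
  rw [List.getD_eq_getElem _ _ (hw a ha)]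
  exact (hD _ (List.getElem_mem _)).2

theorem steps_sound {M els : List ℕ} (hels : ∀ s ∈ els, valid s = true)
    {T : Subgroup (Equiv.Perm GolayPt)}
    (hT : ∀ g ∈ Fix M [], ∀ x ∈ T, g * x * g⁻¹ ∈ els.map permOf → g * x * g⁻¹ ∈ T) :
    ∀ (r : List (ℕ × List ℕ × ℕ)) (D : List ℕ), stepsOk M els D r = true →
      (∀ d ∈ D, valid d = true ∧ permOf d ∈ T) →
      ∀ d ∈ D ++ r.map (fun s => s.2.2), valid d = true ∧ permOf d ∈ T
  | [], D, _, hD => by simpa using hD
  | (g, w, y) :: r, D, h, hD => by
    simp only [stepsOk, Bool.and_eq_true, List.all_eq_true, List.mem_range, beq_iff_eq,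
      decide_eq_true_eq, List.contains_eq_mem] at h
    obtain ⟨⟨⟨⟨hg, hy⟩, hw⟩, heq⟩, hr⟩ := h
    obtain ⟨hgv, hgM⟩ := inGrp_sound hg
    have hyv := hels y hy
    have hc : permOf g * (w.map fun a => permOf (D.getD a idP)).prod * (permOf g)⁻¹ = permOf y := by
      rw [mul_inv_eq_iff_eq_mul]
      refine perm_ext_idx fun i hi => ?_
      rw [Equiv.Perm.mul_apply, Equiv.Perm.mul_apply, idx_permOf hgv, idx_permOf hyv,
        idx_wordProd (fun d hd => (hD d hd).1) w hw i hi, idx_permOf hgv, idx_pt hi]
      exact heq i hi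
    have hyT : permOf y ∈ T := by
      rw [← hc]
      exact hT _ hgM _ (wordProd_mem hD hw) (by rw [hc]; exact List.mem_map_of_mem hy)
    have := steps_sound hels hT r (D ++ [y]) hr (fun d hd => by
      rcases List.mem_append.1 hd with hd | hd
      · exact hD d hd
      · rw [List.mem_singleton] at hd
        exact hd ▸ ⟨hyv, hyT⟩)
    intro d hd
    refine this d ?_
    simpa [List.append_assoc] using hd

theorem ends_sound {D : List ℕ} {T : Subgroup (Equiv.Perm GolayPt)}
    (hD : ∀ d ∈ D, valid d = true ∧ permOf d ∈ T) :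
    ∀ (gs : List (ℕ × ℕ)) (ws : List (List ℕ)), endsOk D gs ws = true →
      ∀ g ∈ gs, valid g.1 = true → permOf g.1 ∈ T
  | [], _, _ => by simp
  | g :: gs, [], h => by simp [endsOk] at h
  | g :: gs, w :: ws, h => by
    simp only [endsOk, Bool.and_eq_true, List.all_eq_true, List.mem_range, beq_iff_eq,
      decide_eq_true_eq] at h
    intro g' hg' hv
    rcases List.mem_cons.1 hg' with rfl | hg'
    · have : permOf g'.1 = (w.map fun a => permOf (D.getD a idP)).prod := perm_ext_idx fun i hi => by
        rw [idx_permOf hv, idx_wordProd (fun d hd => (hD d hd).1) w h.1.1 i hi, idx_pt hi]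
        exact h.1.2 i hi
      exact this ▸ wordProd_mem hD h.1.1
    · exact ends_sound hD gs ws h.2 g' hg' hv

/-- The number of fixed points. -/
noncomputable def fixCard (σ : Equiv.Perm GolayPt) : ℕ :=
  (Finset.univ.filter fun p => σ p = p).card

theorem fixCard_conj (g σ : Equiv.Perm GolayPt) : fixCard (g * σ * g⁻¹) = fixCard σ := by
  refine Finset.card_equiv g⁻¹ fun p => ?_
  rw [Finset.mem_filter, Finset.mem_filter, Equiv.Perm.mul_apply, Equiv.Perm.mul_apply,
    Equiv.Perm.eq_inv_iff_eq]
  simp

theorem fixN_eq {s : ℕ} (hs : valid s = true) : fixN s = fixCard (permOf s) := by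
  classical
  rw [fixN, List.countP_eq_length_filter, fixCard,
    ← List.toFinset_card_of_nodup (List.nodup_range.filter _)]
  refine Finset.card_nbij pt (fun i hi => ?_) (fun i hi j hj e => ?_) (fun p hp => ?_)
  · simp only [List.coe_toFinset, List.mem_filter, List.mem_range, Set.mem_ofPred,
      beq_iff_eq] at hi
    simp only [Finset.coe_filter, Finset.mem_univ, true_and, Set.mem_ofPred]
    exact idx_injective (by rw [idx_permOf hs, idx_pt hi.1, hi.2])
  · simp only [List.coe_toFinset, List.mem_filter, List.mem_range, Set.mem_ofPred,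
      beq_iff_eq] at hi hj
    rw [← idx_pt hi.1, e, idx_pt hj.1]
  · simp only [Finset.coe_filter, Finset.mem_univ, true_and, Set.mem_ofPred] at hp
    refine ⟨idx p, ?_, pt_idx p⟩
    simp only [List.coe_toFinset, List.mem_filter, List.mem_range, Set.mem_ofPred, beq_iff_eq]
    exact ⟨idx_lt p, by rw [← idx_permOf hs, hp]⟩

theorem twoElem_sound {P : ℕ} (hP : valid P = true) (h : twoElem P = true) :
    permOf P ^ 2 ^ 4 = 1 := by
  simp only [twoElem, force_eq, beq_iff_eq] at h
  have h1 := valid_comp hP hP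
  have h2 := valid_comp h1 h1
  have h3 := valid_comp h2 h2
  have := permOf_comp h3 h3
  rw [h, permOf_idP, permOf_comp h2 h2, permOf_comp h1 h1, permOf_comp hP hP] at this
  rw [this]
  simp only [show (2 : ℕ) ^ 4 = 16 from rfl, pow_succ, pow_zero, one_mul, mul_assoc]

namespace Cert

variable {C : Cert}

theorem count_eq (hels : ∀ s ∈ C.els, valid s = true) (ht : C.tableOk = true) {x y : ℕ}
    (hx : x < 24) (hy : y < 24) :
    tab 8 C.tbl (24 * x + y) =
      (C.els.map permOf).countP fun σ => decide (fixCard σ = C.fixd ∧ σ (pt x) = pt y) := by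
  simp only [tableOk, Bool.and_eq_true, beq_iff_eq, List.all_eq_true, List.mem_range] at ht
  rw [ht.2 x hx y hy, ht.1, List.countP_filter, List.countP_map]
  refine List.countP_congr fun s hs => ?_
  simp only [Bool.and_eq_true, beq_iff_eq, Function.comp_apply, decide_eq_true_eq,
    fixN_eq (hels s hs)]
  constructor
  · rintro ⟨h1, h2⟩
    exact ⟨h2, idx_injective (by rw [idx_permOf (hels s hs), idx_pt hx, idx_pt hy, h1])⟩
  · rintro ⟨h1, h2⟩
    refine ⟨?_, h1⟩
    have := congrArg idx h2
    rwa [idx_permOf (hels s hs), idx_pt hx, idx_pt hy] at this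

theorem count_invariant (hels : ∀ s ∈ C.els, valid s = true) (hnd : (C.els.map permOf).Nodup)
    (ht : C.tableOk = true) {g : Equiv.Perm GolayPt}
    (hg : ∀ σ ∈ C.els.map permOf, g * σ * g⁻¹ ∈ C.els.map permOf)
    {x y : ℕ} (hx : x < 24) (hy : y < 24) :
    tab 8 C.tbl (24 * x + y) = tab 8 C.tbl (24 * idx (g (pt x)) + idx (g (pt y))) := by
  classical
  have hperm : ((C.els.map permOf).map fun σ => g * σ * g⁻¹).Perm (C.els.map permOf) := by
    refine List.Subperm.perm_of_length_le ?_ (by simp)
    refine List.Nodup.subperm (hnd.map fun a b e => mul_left_cancel (mul_right_cancel e)) ?_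
    intro τ hτ
    obtain ⟨σ, hσ, rfl⟩ := List.mem_map.1 hτ
    exact hg σ hσ
  rw [count_eq hels ht hx hy, count_eq hels ht (idx_lt _) (idx_lt _), pt_idx, pt_idx]
  conv_rhs => rw [← hperm.countP_eq, List.countP_map]
  refine List.countP_congr fun σ _ => ?_
  simp [fixCard_conj, Equiv.Perm.mul_apply]

/-- An element of the stabiliser normalising the subgroup is a 2-element. -/
theorem two_element_of_normalizing (hels : ∀ s ∈ C.els, valid s = true)
    (hnd : (C.els.map permOf).Nodup) (ht : C.tableOk = true) (hs : C.searchOk = true)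
    {g : Equiv.Perm GolayPt} (hg : g ∈ Fix C.sets [])
    (hn : ∀ σ ∈ C.els.map permOf, g * σ * g⁻¹ ∈ C.els.map permOf) : g ^ 2 ^ 4 = 1 := by
  obtain ⟨hg24, hgM, -⟩ := mem_Fix.mp hg
  have hinv : ∀ x, x < 24 → ∀ y, y < 24 →
      tab 8 C.tbl (24 * x + y) = tab 8 C.tbl (24 * idx (g (pt x)) + idx (g (pt y))) :=
    fun x hx y hy => count_invariant hels hnd ht hn hx hy
  obtain ⟨L, hf, he⟩ := searchAll_sound tab24_ok _ _ g hg24 (fun A hA => by
      rw [Bool.and_eq_true]
      refine ⟨headSide_of hgM hA, ?_⟩
      cases A with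
      | nil => rfl
      | cons u rest =>
        simp only [headInv, List.all_eq_true, Bool.and_eq_true, beq_iff_eq]
        intro v hv
        obtain ⟨hu1, hu2⟩ := hA u (List.mem_cons_self ..)
        obtain ⟨hv1, hv2⟩ := hA v hv
        rw [← hu2, ← hv2]
        exact ⟨hinv _ hu1 _ hv1, hinv _ hv1 _ hu1⟩)
    g24Chain g24ChainLits [] [] 1 [] lits24.1 chains24.1.1 chains24.1.2 idxs24.1
    (fun x => by simp [appL]) (by rw [inv_one, one_mul, Fix_nil]; exact hg24) (by simp) hs
  have hget : ∀ i, i < 24 → get (pack 24 (appL L)) i = idx (g (pt i)) := by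
    intro i hi
    rw [get_pack 24 _ i hi (fun j hj => ?_), he, idx_pt hi]
    have := idx_lt (g (pt j))
    rw [he, idx_pt hj] at this
    omega
  have hv : valid (pack 24 (appL L)) = true := by
    refine valid_iff.2 ⟨fun j hj => ⟨idx (g⁻¹ (pt j)), idx_lt _, ?_⟩, fun i hi => ?_⟩
    · rw [hget _ (idx_lt _), pt_idx, Equiv.Perm.coe_inv, Equiv.apply_symm_apply, idx_pt hj]
    · rw [hget i hi]; exact idx_lt _
  have hgP : g = permOf (pack 24 (appL L)) := eq_permOf hv fun i hi => (hget i hi).symm
  simp only [leafOk, sidesL_of hgM he, Bool.not_true, Bool.false_or, force_eq, Bool.or_eq_true,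
    Bool.not_eq_true'] at hf
  rcases hf with hf | hf
  · rw [hgP]; exact twoElem_sound hv hf
  · exfalso
    refine Bool.false_ne_true (hf.symm.trans ?_)
    simp only [invAll, List.all_eq_true, List.mem_range, beq_iff_eq]
    intro x hx y hy
    rw [hget x hx, hget y hy]
    exact hinv x hx y hy

/-- The certified group has a simple 2-fusion system. -/
theorem isSimple (hG : C.groupOk = true) (hF : C.fusionOk = true) (ht : C.tableOk = true)
    (hs : C.searchOk = true) {K : Subgroup (Equiv.Perm GolayPt)} (hK : K = Fix C.sets [])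
    (hne : C.gens.length ≠ 0) (hcard : ¬ 2 ^ (C.gens.length + 1) ∣ Nat.card K) (S : Sylow 2 K) :
    (groupFusionSystem (S : Subgroup K)).IsSimple 2 := by
  subst hK
  simp only [groupOk, Bool.and_eq_true, beq_iff_eq, List.contains_eq_mem, decide_eq_true_eq,
    List.all_eq_true, Bool.or_eq_true, List.any_eq_true, List.mem_range, bne_iff_ne] at hG
  obtain ⟨⟨⟨⟨htake, hgrow⟩, hzL⟩, hzne⟩, hcen⟩ := hG
  obtain ⟨hlen, hels, hnd, H, hHM, hH, hgens, hmin⟩ := stage_grow C.gens 0 [] hgrow
    (by rw [pow_zero, htake]; exact stage_base _)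
  rw [List.nil_append] at hgens hmin
  rw [Nat.zero_add] at hlen
  have hcardH : Nat.card H = 2 ^ C.gens.length := by
    classical
    rw [← hlen, ← List.length_map (f := permOf), ← List.toFinset_card_of_nodup hnd,
      ← Nat.card_eq_finsetCard]
    exact Nat.card_congr (Equiv.subtypeEquivRight fun x => by rw [hH x, List.mem_toFinset])
  -- the certified subgroup is a Sylow subgroup
  have hP0 : Nat.card (H.subgroupOf (Fix C.sets [])) = 2 ^ C.gens.length := by
    rw [← hcardH]
    exact Nat.card_congr (Subgroup.subgroupOfEquivOfLe hHM).toEquiv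
  let P0 : Sylow 2 (Fix C.sets []) := Sylow.ofCard (H.subgroupOf (Fix C.sets [])) (by
    rw [hP0]
    congr 1
    refine le_antisymm ?_ ?_
    · exact (Nat.Prime.pow_dvd_iff_le_factorization Nat.prime_two (Nat.card_pos).ne').1
        (hP0 ▸ Subgroup.card_subgroup_dvd_card _)
    · by_contra hlt
      exact hcard ((Nat.Prime.pow_dvd_iff_le_factorization Nat.prime_two (Nat.card_pos).ne').2
        (by omega)))
  obtain ⟨c, hc⟩ := MulAction.exists_smul_eq (Fix C.sets []) P0 S
  have hSmem : ∀ x : Fix C.sets [], x ∈ (S : Subgroup (Fix C.sets [])) ↔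
      ((c⁻¹ * x * c : Fix C.sets []) : Equiv.Perm GolayPt) ∈ H := by
    intro x
    rw [← hc, Sylow.coe_subgroup_smul, Subgroup.mem_pointwise_smul_iff_inv_smul_mem]
    show (MulAut.conj c)⁻¹ x ∈ H.subgroupOf (Fix C.sets []) ↔ _
    rw [Subgroup.mem_subgroupOf]
    rfl
  refine isSimple_group_of S ?_ ?_ ?_
  · intro hbot
    have : Nat.card (S : Subgroup (Fix C.sets [])) = Nat.card P0 :=
      (Sylow.card_eq_multiplicity S).trans (Sylow.card_eq_multiplicity P0).symm
    rw [hbot, Subgroup.card_bot, show Nat.card P0 = 2 ^ C.gens.length from hP0] at this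
    exact absurd this (Nat.one_lt_two_pow hne).ne
  · intro T hTS hT1 hTn hTc
    -- the central involution is in the conjugate of `T`
    let T' : Subgroup (Equiv.Perm GolayPt) :=
      (T.comap (MulAut.conj c).toMonoidHom).map (Fix C.sets []).subtype
    have hT'le : T' ≤ H := by
      rintro _ ⟨x, hx, rfl⟩
      have := (hSmem _).1 (hTS hx)
      simpa [mul_assoc] using this
    have hT'c : ∀ g ∈ Fix C.sets [], ∀ x ∈ T', g * x * g⁻¹ ∈ C.els.map permOf →
        g * x * g⁻¹ ∈ T' := by
      rintro g hg _ ⟨x, hx, rfl⟩ hgx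
      let γ : Fix C.sets [] := ⟨g, hg⟩
      have h1 := hTc (c * γ * c⁻¹) (MulAut.conj c x) hx
      have he : c * γ * c⁻¹ * (MulAut.conj c x) * (c * γ * c⁻¹)⁻¹ =
          MulAut.conj c (γ * x * γ⁻¹) := by
        simp [MulAut.conj_apply, mul_assoc]
      rw [he] at h1
      refine ⟨γ * x * γ⁻¹, h1 ?_, rfl⟩
      rw [hSmem, hH]
      convert hgx using 1
      simp [MulAut.conj_apply, mul_assoc, γ]
    have hzT : permOf C.z ∈ T' := by
      have hp : IsPGroup 2 (S : Subgroup (Fix C.sets [])) := S.2
      obtain ⟨w, hw1, hw2, hw3⟩ : ∃ w : Fix C.sets [], w ∈ T ∧ w ≠ 1 ∧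
          ∀ s ∈ (S : Subgroup (Fix C.sets [])), s * w = w * s := by
        haveI : (T.subgroupOf (S : Subgroup (Fix C.sets []))).Normal :=
          Subgroup.normal_subgroupOf_of_le_normalizer hTn
        haveI := Fact.mk Nat.prime_two
        haveI : Group.IsNilpotent (S : Subgroup (Fix C.sets [])) := hp.isNilpotent
        obtain ⟨w, hw, hw1⟩ := Subgroup.bot_or_exists_ne_one _ |>.resolve_left
          (Grp.inf_center_ne_bot (T.subgroupOf (S : Subgroup (Fix C.sets []))) fun h => hT1 (by
            rw [Subgroup.subgroupOf_eq_bot] at h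
            exact h.eq_bot_of_le hTS))
        exact ⟨w, hw.1, fun e => hw1 (Subtype.ext e), fun s hs =>
          congrArg Subtype.val (Subgroup.mem_center_iff.1 hw.2 ⟨s, hs⟩)⟩
      set w' : Fix C.sets [] := c⁻¹ * w * c
      have hw'H : (w' : Equiv.Perm GolayPt) ∈ H := (hSmem w).1 (hTS hw1)
      obtain ⟨s, hs, hse⟩ := List.mem_map.1 ((hH _).1 hw'H)
      have hw'T : (w' : Equiv.Perm GolayPt) ∈ T' :=
        ⟨w', by simpa [w', mul_assoc] using hw1, rfl⟩
      rcases hcen s hs with (rfl | rfl) | ⟨g, hg, i, hi, hne⟩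
      · exfalso
        rw [permOf_idP] at hse
        have : w' = 1 := Subtype.ext hse.symm
        exact hw2 (by simpa [w', mul_assoc, mul_inv_eq_one, inv_mul_eq_one] using this)
      · rwa [hse]
      · exfalso
        obtain ⟨hgv, hgH⟩ := hgens g.1 (List.mem_map_of_mem hg)
        let γ : Fix C.sets [] := ⟨permOf g.1, hHM hgH⟩
        have hγS : c * γ * c⁻¹ ∈ (S : Subgroup (Fix C.sets [])) := by
          rw [hSmem]
          simpa [mul_assoc, γ] using hgH
        have hcomm := hw3 _ hγS
        have hcomm' : γ * w' = w' * γ := by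
          calc γ * w' = c⁻¹ * (c * γ * c⁻¹ * w) * c := by simp [w', mul_assoc]
            _ = c⁻¹ * (w * (c * γ * c⁻¹)) * c := by rw [hcomm]
            _ = w' * γ := by simp [w', mul_assoc]
        refine hne ?_
        have e : idx ((permOf g.1 * permOf s) (pt i)) = idx ((permOf s * permOf g.1) (pt i)) := by
          rw [hse]; exact congrArg (fun σ : Fix C.sets [] => idx ((σ : Equiv.Perm GolayPt) (pt i))) hcomm'
        simp only [Equiv.Perm.mul_apply, idx_permOf hgv, idx_permOf (hels s hs), idx_pt hi] at e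
        exact e.symm
    simp only [fusionOk, Bool.and_eq_true] at hF
    have hD := steps_sound hels hT'c C.steps [C.z] hF.1 (fun d hd => by
      rw [List.mem_singleton] at hd
      exact hd ▸ ⟨hels _ hzL, hzT⟩)
    have hHT : H ≤ T' := hmin T' fun h hh => by
      obtain ⟨g, hg, rfl⟩ := List.mem_map.1 hh
      exact ends_sound (by simpa using hD) C.gens C.ends hF.2 g hg (hgens _ hh).1
    intro x hx
    obtain ⟨y, hy, hye⟩ := hHT ((hSmem x).1 hx)
    have hye : y = c⁻¹ * x * c := Subtype.ext hye
    subst hye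
    simpa [mul_assoc] using hy
  · intro g hg
    refine Subgroup.subset_closure ⟨hg, Or.inl ?_⟩
    -- the normaliser is a 2-group
    let γ : Fix C.sets [] := c⁻¹ * g * c
    have hγn : ∀ σ ∈ C.els.map permOf,
        (γ : Equiv.Perm GolayPt) * σ * (γ : Equiv.Perm GolayPt)⁻¹ ∈ C.els.map permOf := by
      intro σ hσ
      rw [← hH] at hσ ⊢
      let x : Fix C.sets [] := ⟨σ, hHM hσ⟩
      have hxS : c * x * c⁻¹ ∈ (S : Subgroup (Fix C.sets [])) := by
        rw [hSmem]; simpa [mul_assoc, x] using hσ
      have := (hSmem _).1 ((Subgroup.mem_normalizer_iff.1 hg _).1 hxS)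
      simpa [mul_assoc, x, γ] using this
    have h2 := two_element_of_normalizing hels hnd ht hs γ.2 hγn
    have hg2 : g ^ 2 ^ 4 = 1 := by
      have h3 : γ ^ 2 ^ 4 = 1 := Subtype.ext (by simpa using h2)
      have h4 : g = MulAut.conj c γ := by simp [γ, mul_assoc]
      rw [h4, ← map_pow, h3, map_one]
    have hp : IsPGroup 2 (Subgroup.zpowers g) := IsPGroup.of_card (n := _) (by
      rw [Nat.card_zpowers]
      exact ((Nat.dvd_prime_pow Nat.prime_two).1 (orderOf_dvd_of_pow_eq_one hg2)).choose_spec.2)
    have hsup := IsPGroup.to_sup_of_normal_left' S.2 hp (Subgroup.zpowers_le.2 hg)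
    exact (S.3 hsup le_sup_left) ▸ (le_sup_right (a := (S : Subgroup (Fix C.sets [])))
      (Subgroup.mem_zpowers g))

end Cert

end Cfsg.Agent.Fus.Mathieu
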