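import Mathlib
import Cfsg.Agent.Lib.Fus.MaxClassDegree
import Cfsg.Agent.Lib.Fus.CubeAut
import Cfsg.Agent.Lib.Fus.EssentialCube

/-!
A `p`-group of maximal class of order at least `p⁵`, `p` odd, has no elementary abelian essential
subgroup of order `p³`.
-/

set_option autoImplicit false
set_option linter.unusedSectionVars false
set_option linter.style.haveILetI false

namespace Cfsg.Agent.Fus.MCCube

open scoped commutatorElement
open Cfsg.Agent.Fus.MC (lc lc_anti lc_comm lc_step Ck mem_Ck lc_one_le_Ck)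
open Cfsg.Agent.Grp.Uni
open Cfsg.Agent.Fus.MCDeg (Ck_eq_one Act signs_false)

section group

variable {G : Type*} [Group G] [Finite G] {p n : ℕ} [hp : Fact p.Prime]
  (hm : MaxCl G p n) (h5 : 5 ≤ n) {E : Subgroup G} (hE3 : Nat.card E = p ^ 3)
  (hcomm : ∀ x ∈ E, ∀ y ∈ E, x * y = y * x) (hself : Subgroup.centralizer (E : Set G) ≤ E)
include hm h5 hE3 hself

theorem center_le : lc G (n - 2) ≤ E := fun z hz => hself (Subgroup.mem_centralizer_iff.2
  fun x _ => Subgroup.mem_center_iff.1 (lc_two_le_center hm hz) x)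

theorem exists_not_commute {z : G} (hz : z ∉ E) : ∃ x ∈ E, ⁅z, x⁆ ≠ 1 := by
  by_contra h
  push Not at h
  exact hz (hself (Subgroup.mem_centralizer_iff.2 fun x hx =>
    (commutatorElement_eq_one_iff_mul_comm.1 (h x hx)).symm))

theorem mem_top_Ck_iff {g : G} :
    g ∈ Ck G (n - 3) ↔ ∀ a ∈ lc G (n - 3), a * g = g * a := by
  rw [mem_Ck, lc_eq_bot hm (by omega : n - 1 ≤ n - 3 + 2)]
  simp only [Subgroup.mem_bot, commutatorElement_eq_one_iff_mul_comm]

include hcomm in
/-- An element inducing a transvection. -/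
theorem exists_transvection : ∃ z ∈ Subgroup.normalizer (E : Set G), z ∉ E ∧ ∃ H : Subgroup G,
    H ≤ E ∧ Nat.card H = p ^ 2 ∧ ∀ x ∈ H, z * x = x * z := by
  by_cases hZ : lc G (n - 3) ≤ E
  · have hEM : E ≤ Ck G (n - 3) := fun x hx =>
      (mem_top_Ck_iff hm h5 hE3 hself).2 fun a ha => hcomm a (hZ ha) x hx
    obtain ⟨z, hzM, hzN, hz⟩ : ∃ z ∈ Ck G (n - 3), z ∈ Subgroup.normalizer (E : Set G) ∧ z ∉ E := by
      set M := Ck G (n - 3)
      have : Group.IsNilpotent M := ((IsPGroup.of_card hm.card).to_subgroup M).isNilpotent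
      have hne : E.subgroupOf M < ⊤ := by
        rw [lt_top_iff_ne_top, Ne, Subgroup.subgroupOf_eq_top]
        intro h
        have h1 := M.card_mul_index
        rw [Ck_index hm (by omega) (by omega), hm.card] at h1
        have h2 := Nat.mul_le_mul_right p (Subgroup.card_le_of_le h)
        rw [h1, hE3, ← pow_succ] at h2
        have := (Nat.pow_le_pow_iff_right hp.out.one_lt).1 h2
        omega
      obtain ⟨z, hzn, hz⟩ := SetLike.exists_of_lt
        (Group.normalizerCondition_of_isNilpotent _ hne)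
      refine ⟨z, z.2, Subgroup.mem_normalizer_iff.2 fun x => ⟨fun hx => ?_, fun hx => ?_⟩,
        fun h => hz (Subgroup.mem_subgroupOf.2 h)⟩
      · exact (Subgroup.mem_normalizer_iff.1 hzn ⟨x, hEM hx⟩).1 hx
      · have hxM : x ∈ M := by
          simpa [mul_assoc] using mul_mem (mul_mem (inv_mem z.2) (hEM hx)) z.2
        exact (Subgroup.mem_normalizer_iff.1 hzn ⟨x, hxM⟩).2 hx
    refine ⟨z, hzN, hz, lc G (n - 3), hZ, ?_, fun x hx =>
      ((mem_top_Ck_iff hm h5 hE3 hself).1 hzM x hx).symm⟩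
    rw [card_lc hm (by omega), show n - 1 - (n - 3) = 2 by omega]
  · obtain ⟨z, hz2, hz⟩ := SetLike.not_le_iff_exists.1 hZ
    have hstep : ∀ x, ⁅z, x⁆ ∈ lc G (n - 2) := fun x => lc_anti (by omega) (lc_step hz2)
    have hcen : ∀ x y, Commute ⁅z, x⁆ y := fun x y =>
      (Subgroup.mem_center_iff.1 (lc_two_le_center hm (hstep x)) y).symm
    have hzN : z ∈ Subgroup.normalizer (E : Set G) := by
      have h1 : ∀ x ∈ E, z * x * z⁻¹ ∈ E := fun x hx => by
        rw [show z * x * z⁻¹ = ⁅z, x⁆ * x by rw [commutatorElement_def]; group]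
        exact mul_mem (center_le hm h5 hE3 hself (hstep x)) hx
      refine Subgroup.mem_normalizer_iff.2 fun x => ⟨h1 x, fun hx => ?_⟩
      rw [show x = ⁅z, x⁆⁻¹ * (z * x * z⁻¹) by rw [commutatorElement_def]; group]
      exact mul_mem (inv_mem (center_le hm h5 hE3 hself (hstep x))) hx
    let φ : ↥E →* G := MonoidHom.mk' (fun x => ⁅z, (x : G)⁆) fun x y => by
      rw [show ((x * y : E) : G) = (x : G) * y from rfl,
        show ⁅z, (x : G) * y⁆ = ⁅z, (x : G)⁆ * (x * ⁅z, (y : G)⁆ * (x : G)⁻¹) by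
          simp only [commutatorElement_def]; group,
        ← (hcen (y : G) (x : G)).eq, mul_inv_cancel_right]
    refine ⟨z, hzN, hz, φ.ker.map E.subtype, Subgroup.map_subtype_le _, ?_, ?_⟩
    · rw [Subgroup.card_map_of_injective E.subtype_injective]
      have hd : φ.ker.index ∣ p := by
        rw [Subgroup.index_ker]
        have : φ.range ≤ lc G (n - 2) := by
          rintro _ ⟨x, rfl⟩
          exact hstep x
        have := Subgroup.card_dvd_of_le this
        rwa [card_lc hm (by omega), show n - 1 - (n - 2) = 1 by omega, pow_one] at this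
      have hne : φ.ker.index ≠ 1 := fun e => by
        obtain ⟨x, hx, hne⟩ := exists_not_commute hm h5 hE3 hself hz
        exact hne (MonoidHom.mem_ker.1 ((Subgroup.index_eq_one.1 e).ge (Subgroup.mem_top ⟨x, hx⟩)))
      have h := φ.ker.card_mul_index
      rw [((Nat.dvd_prime hp.out).1 hd).resolve_left hne, hE3, pow_succ p 2] at h
      exact Nat.eq_of_mul_eq_mul_right hp.out.pos h
    · rintro _ ⟨x, hx, rfl⟩
      exact commutatorElement_eq_one_iff_mul_comm.1 (MonoidHom.mem_ker.1 hx)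

include hcomm in
/-- The position of the term of order `p³`. -/
theorem shape (hN : Nat.card (Subgroup.normalizer (E : Set G)) = p ^ 4) {H : Subgroup G} {c : G}
    (hHE : H ≤ E) (hH2 : Nat.card H = p ^ 2)
    (hHN : ∀ y ∈ Subgroup.normalizer (E : Set G), ∀ x ∈ H, y * x = x * y)
    (hc : c ≠ 1) (hcp : c ^ p = 1)
    (hcNE : ∀ y ∈ Subgroup.normalizer (E : Set G), ∀ x ∈ E, ⁅y, x⁆ ∈ Subgroup.zpowers c) :
    lc G (n - 4) ≤ Subgroup.normalizer (E : Set G) ∧ H ≤ lc G (n - 4) ∧ lc G (n - 4) ≠ E ∧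
      (lc G (n - 2) = Subgroup.zpowers c ∨
        (H = lc G (n - 3) ∧ Ck G (n - 3) ≠ Ck G 1)) := by
  have hA3 : Nat.card (lc G (n - 4)) = p ^ 3 := by
    rw [card_lc hm (by omega), show n - 1 - (n - 4) = 3 by omega]
  have hne : lc G (n - 4) ≠ E := fun e => by
    have htop : Subgroup.normalizer (E : Set G) = ⊤ :=
      e ▸ Subgroup.normalizer_eq_top_iff.2 inferInstance
    rw [htop, Subgroup.card_top, hm.card] at hN
    have := Nat.pow_right_injective hp.out.two_le hN
    omega
  have hHeq : ∀ {z : G}, z ∈ Subgroup.normalizer (E : Set G) → z ∉ E → ∀ x ∈ E,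
      z * x = x * z → x ∈ H := by
    intro z hzN hz x hx hzx
    by_contra hxH
    obtain ⟨y, hy, hne'⟩ := exists_not_commute hm h5 hE3 hself hz
    refine hne' (commutatorElement_eq_one_iff_mul_comm.2 ?_)
    have hle : E ≤ Subgroup.centralizer {z} := by
      have hEeq : H ⊔ Subgroup.zpowers x = E := by
        refine Subgroup.eq_of_le_of_card_ge (sup_le hHE (Subgroup.zpowers_le.2 hx)) ?_
        have hlt : Nat.card H < Nat.card ↥(H ⊔ Subgroup.zpowers x) :=
          lt_of_le_of_ne (Subgroup.card_le_of_le le_sup_left) fun e =>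
            hxH ((Subgroup.eq_of_le_of_card_ge (le_sup_left : H ≤ H ⊔ Subgroup.zpowers x) e.ge).ge
              (Subgroup.mem_sup_right (Subgroup.mem_zpowers x)))
        obtain ⟨i, -, hi⟩ := (Nat.dvd_prime_pow hp.out).1
          (hm.card ▸ (H ⊔ Subgroup.zpowers x).card_subgroup_dvd_card)
        rw [hH2, hi] at hlt
        have := (Nat.pow_lt_pow_iff_right hp.out.one_lt).1 hlt
        rw [hi, hE3]
        exact Nat.pow_le_pow_right hp.out.pos (by omega)
      rw [← hEeq]
      exact sup_le (fun w hw => Subgroup.mem_centralizer_singleton_iff.2 (hHN z hzN w hw).symm)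
        (Subgroup.zpowers_le.2 (Subgroup.mem_centralizer_singleton_iff.2 hzx.symm))
    exact (Subgroup.mem_centralizer_singleton_iff.1 (hle hy)).symm
  have hnorm : ∀ w : G, (∀ x ∈ E, ⁅w, x⁆ ∈ E) → w ∈ Subgroup.normalizer (E : Set G) := by
    intro w hw
    have h1 : E.map (MulAut.conj w).toMonoidHom ≤ E := by
      rintro _ ⟨x, hx, rfl⟩
      show w * x * w⁻¹ ∈ E
      rw [show w * x * w⁻¹ = ⁅w, x⁆ * x by rw [commutatorElement_def]; group]
      exact mul_mem (hw x hx) hx
    have h2 := Subgroup.eq_of_le_of_card_ge h1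
      (Subgroup.card_map_of_injective (MulAut.conj w).injective).ge
    refine Subgroup.mem_normalizer_iff.2 fun x => ⟨fun hx => h1 ⟨x, hx, rfl⟩, fun hx => ?_⟩
    rw [← h2] at hx
    obtain ⟨y, hy, e⟩ := hx
    exact (MulAut.conj w).injective e ▸ hy
  by_cases hZ : lc G (n - 3) ≤ E
  · have hEM : E ≤ Ck G (n - 3) := fun x hx =>
      (mem_top_Ck_iff hm h5 hE3 hself).2 fun a ha => hcomm a (hZ ha) x hx
    have hAM : lc G (n - 4) ≤ Ck G (n - 3) :=
      (lc_anti (by omega : 1 ≤ n - 4)).trans (lc_one_le_Ck _)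
    have hAN : lc G (n - 4) ≤ Subgroup.normalizer (E : Set G) := fun w hw => hnorm w fun x _ =>
      hZ (lc_anti (by omega) (lc_step hw))
    obtain ⟨w, hw, hwE⟩ : ∃ w ∈ lc G (n - 4), w ∉ E := by
      by_contra h
      push Not at h
      exact hne (Subgroup.eq_of_le_of_card_ge h (by rw [hE3, hA3]))
    have hHZ : H = lc G (n - 3) := by
      symm
      refine Subgroup.eq_of_le_of_card_ge (fun a ha => ?_)
        (by rw [hH2, card_lc hm (by omega), show n - 1 - (n - 3) = 2 by omega])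
      exact hHeq (hAN hw) hwE a (hZ ha)
        ((mem_top_Ck_iff hm h5 hE3 hself).1 (hAM hw) a ha).symm
    refine ⟨hAN, hHZ ▸ lc_anti (by omega), hne, ?_⟩
    by_cases he : Ck G (n - 3) = Ck G 1
    · left
      obtain ⟨x, hx, hxne⟩ := exists_not_commute hm h5 hE3 hself hwE
      have h1 : ⁅w, x⁆ ∈ lc G (n - 2) := by
        have h := mem_Ck.1 ((Ck_eq_one n hm (n - 4) (by omega) (by omega)).ge (he.le (hEM hx))) w hw
        rwa [show n - 4 + 2 = n - 2 by omega] at h
      obtain ⟨i, hi⟩ := hcNE w (hAN hw) x hx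
      refine Subgroup.eq_of_le_of_card_ge ?_ ?_ |>.symm
      · have hgen : Subgroup.zpowers ⁅w, x⁆ = Subgroup.zpowers c := by
          refine Subgroup.eq_of_le_of_card_ge (Subgroup.zpowers_le.2 ⟨i, hi⟩) ?_
          rw [Nat.card_zpowers, Nat.card_zpowers, orderOf_eq_prime hcp hc,
            orderOf_eq_prime (by rw [← show c ^ i = ⁅w, x⁆ from hi, ← zpow_natCast, ← zpow_mul,
              mul_comm, zpow_mul, zpow_natCast, hcp, one_zpow]) hxne]
        rw [← hgen]
        exact Subgroup.zpowers_le.2 h1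
      · rw [card_lc hm (by omega), show n - 1 - (n - 2) = 1 by omega, pow_one, Nat.card_zpowers,
          orderOf_eq_prime hcp hc]
    · exact Or.inr ⟨hHZ, he⟩
  · obtain ⟨z, hz2, hz⟩ := SetLike.not_le_iff_exists.1 hZ
    have hzN : z ∈ Subgroup.normalizer (E : Set G) := hnorm z fun x _ =>
      center_le hm h5 hE3 hself (lc_anti (by omega) (lc_step hz2))
    have hcZ : lc G (n - 2) = Subgroup.zpowers c := by
      obtain ⟨x, hx, hxne⟩ := exists_not_commute hm h5 hE3 hself hz
      obtain ⟨i, hi⟩ := hcNE z hzN x hx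
      have hgen : Subgroup.zpowers ⁅z, x⁆ = Subgroup.zpowers c := by
        refine Subgroup.eq_of_le_of_card_ge (Subgroup.zpowers_le.2 ⟨i, hi⟩) ?_
        rw [Nat.card_zpowers, Nat.card_zpowers, orderOf_eq_prime hcp hc,
          orderOf_eq_prime (by rw [← show c ^ i = ⁅z, x⁆ from hi, ← zpow_natCast, ← zpow_mul,
            mul_comm, zpow_mul, zpow_natCast, hcp, one_zpow]) hxne]
      refine (Subgroup.eq_of_le_of_card_ge ?_ ?_).symm
      · rw [← hgen]
        exact Subgroup.zpowers_le.2 (lc_anti (by omega) (lc_step hz2))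
      · rw [card_lc hm (by omega), show n - 1 - (n - 2) = 1 by omega, pow_one, Nat.card_zpowers,
          orderOf_eq_prime hcp hc]
    have hout : ∀ x ∈ E, x ∉ H → x ∉ Ck G (n - 3) := fun x hx hxH h =>
      hxH (hHeq hzN hz x hx ((mem_top_Ck_iff hm h5 hE3 hself).1 h z hz2))
    have hE1' : ∀ x ∈ E, x ∉ H → x ∈ Ck G 1 := by
      intro x hx hxH
      by_contra hx1
      have hxu : Uniform G p n x := uniform_of_not_mem hm
        (fun h => hout x hx hxH (lc_one_le_Ck _ h))
        (fun h => hout x hx hxH ((mem_top_Ck_iff hm h5 hE3 hself).2 fun a _ =>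
          Subgroup.mem_center_iff.1 h a))
        fun k hk1 hk3 => by
          rcases (show k + 4 ≤ n ∨ k = n - 3 by omega) with h | rfl
          · rw [Ck_eq_one n hm k hk1 h]; exact hx1
          · exact hout x hx hxH
      have h := Subgroup.card_le_of_le (show E ≤ Subgroup.centralizer {x} from fun y hy =>
        Subgroup.mem_centralizer_singleton_iff.2 (hcomm y hy x hx))
      rw [hE3, hxu.cent] at h
      have := (Nat.pow_le_pow_iff_right hp.out.one_lt).1 h
      omega
    obtain ⟨x₀, hx₀, hx₀H⟩ : ∃ x ∈ E, x ∉ H := by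
      by_contra h
      push Not at h
      have := Subgroup.card_le_of_le (h : E ≤ H)
      rw [hE3, hH2] at this
      have := (Nat.pow_le_pow_iff_right hp.out.one_lt).1 this
      omega
    have hE1 : E ≤ Ck G 1 := fun x hx => by
      by_cases hxH : x ∈ H
      · have h := hE1' _ (mul_mem hx hx₀) fun h => hx₀H ((Subgroup.mul_mem_cancel_left H hxH).1 h)
        simpa using mul_mem h (inv_mem (hE1' x₀ hx₀ hx₀H))
      · exact hE1' x hx hxH
    have hAN : lc G (n - 4) ≤ Subgroup.normalizer (E : Set G) := fun w hw => hnorm w fun x hx => by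
      have h := mem_Ck.1 ((Ck_eq_one n hm (n - 4) (by omega) (by omega)).ge (hE1 hx)) w hw
      rw [show n - 4 + 2 = n - 2 by omega] at h
      exact center_le hm h5 hE3 hself h
    have hH1 : H ≤ lc G 1 := fun x hx => by
      by_contra hx1
      have hxM : x ∈ Ck G (n - 3) := (mem_top_Ck_iff hm h5 hE3 hself).2 fun a ha => by
        by_cases haE : a ∈ E
        · exact hcomm a haE x (hHE hx)
        · refine hHN a (hnorm a fun y _ => center_le hm h5 hE3 hself
            (lc_anti (by omega) (lc_step ha))) x hx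
      have e1 := eq_sup_of_ne_top hm (lc_one_le_Ck 1) (Ck_ne_top hm le_rfl (by omega)) (hE1 (hHE hx)) hx1
      have e2 := eq_sup_of_ne_top hm (lc_one_le_Ck (n - 3)) (Ck_ne_top hm (by omega) (by omega)) hxM hx1
      exact hout x₀ hx₀ hx₀H (e2.ge (e1.le (hE1 hx₀)))
    refine ⟨hAN, fun x hx => ?_, hne, Or.inl hcZ⟩
    have heq : lc G (n - 4) = Subgroup.normalizer (E : Set G) ⊓ lc G 1 := by
      refine Subgroup.eq_of_le_of_card_ge (le_inf hAN (lc_anti (by omega))) ?_
      have hlt : Nat.card ↥(Subgroup.normalizer (E : Set G) ⊓ lc G 1) <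
          Nat.card (Subgroup.normalizer (E : Set G)) := by
        refine lt_of_le_of_ne (Subgroup.card_le_of_le inf_le_left) fun e => ?_
        exact hout x₀ hx₀ hx₀H (lc_one_le_Ck _
          ((Subgroup.eq_of_le_of_card_ge inf_le_left e.ge).ge (Subgroup.le_normalizer hx₀)).2)
      obtain ⟨i, -, hi⟩ := (Nat.dvd_prime_pow hp.out).1
        (hm.card ▸ (Subgroup.normalizer (E : Set G) ⊓ lc G 1).card_subgroup_dvd_card)
      rw [hN, hi] at hlt
      have := (Nat.pow_lt_pow_iff_right hp.out.one_lt).1 hlt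
      rw [hA3, hi]
      exact Nat.pow_le_pow_right hp.out.pos (by omega)
    rw [heq]
    exact ⟨Subgroup.le_normalizer (hHE hx), hH1 hx⟩

omit h5 hself in
include hcomm in
/-- The other abelian subgroups of order `p³` of the normalizer are conjugates. -/
theorem exists_conj (hN : Nat.card (Subgroup.normalizer (E : Set G)) = p ^ 4) (h5 : 5 ≤ n)
    {A A' H : Subgroup G} [A.Normal] (hA : A ≤ Subgroup.normalizer (E : Set G)) (hAE : A ≠ E)
    (hA3 : Nat.card A = p ^ 3) (hH2 : Nat.card H = p ^ 2) (hHE : H ≤ E) (hHA : H ≤ A)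
    (hA' : A' ≤ Subgroup.normalizer (E : Set G)) (hA'3 : Nat.card A' = p ^ 3) (hHA' : H ≤ A')
    (hne : A' ≠ A) (hHc : ∀ u ∈ Subgroup.normalizer ((Subgroup.normalizer (E : Set G) : Subgroup G) :
      Set G), ∀ x ∈ H, u * x * u⁻¹ ∈ H) :
    ∃ u : G, ∀ x ∈ E, u * x * u⁻¹ ∈ A' := by
  classical
  set N := Subgroup.normalizer (E : Set G) with hNdef
  obtain ⟨e, he, heA⟩ : ∃ e ∈ E, e ∉ A := by
    by_contra h
    push Not at h
    exact hAE (Subgroup.eq_of_le_of_card_ge h (by rw [hE3, hA3])).symm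
  have hstep : ∀ {K L : Subgroup G}, K ≤ L → ∀ {x : G}, x ∈ L → x ∉ K → ∀ {i : ℕ},
      Nat.card K = p ^ i → Nat.card L = p ^ (i + 1) → K ⊔ Subgroup.zpowers x = L := by
    intro K L hKL x hxL hxK i hK hL
    refine Subgroup.eq_of_le_of_card_ge (sup_le hKL (Subgroup.zpowers_le.2 hxL)) ?_
    have hlt : Nat.card K < Nat.card ↥(K ⊔ Subgroup.zpowers x) :=
      lt_of_le_of_ne (Subgroup.card_le_of_le le_sup_left) fun e' =>
        hxK ((Subgroup.eq_of_le_of_card_ge (le_sup_left : K ≤ K ⊔ Subgroup.zpowers x) e'.ge).ge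
          (Subgroup.mem_sup_right (Subgroup.mem_zpowers x)))
    obtain ⟨j, -, hj⟩ := (Nat.dvd_prime_pow hp.out).1
      (hm.card ▸ (K ⊔ Subgroup.zpowers x).card_subgroup_dvd_card)
    rw [hK, hj] at hlt
    have := (Nat.pow_lt_pow_iff_right hp.out.one_lt).1 hlt
    rw [hj, hL]
    exact Nat.pow_le_pow_right hp.out.pos (by omega)
  -- the coset of `A` in such a subgroup
  obtain ⟨P, hP⟩ : ∃ P : Subgroup G → Prop, P = fun B => B ≤ N ∧ Nat.card B = p ^ 3 ∧ H ≤ B ∧ B ≠ A :=
    ⟨_, rfl⟩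
  have hpick : ∀ B, P B → ∃ a ∈ A, a * e ∈ B := by
    intro B hB
    rw [hP] at hB
    obtain ⟨b, hb, hbA⟩ : ∃ b ∈ B, b ∉ A := by
      by_contra h
      push Not at h
      exact hB.2.2.2 (Subgroup.eq_of_le_of_card_ge h (by rw [hA3, hB.2.1]))
    have hsup := hstep hA (hB.1 hb) hbA hA3 hN
    obtain ⟨a, ha, _, ⟨i, rfl⟩, hab⟩ :=
      Subgroup.mem_sup_of_normal_left.1 (hsup.ge (Subgroup.le_normalizer he))
    exact ⟨a⁻¹, inv_mem ha, by rw [← hab, inv_mul_cancel_left]; exact zpow_mem hb i⟩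
  choose f hfA hfB using hpick
  have hinj : ∀ B C, ∀ hB : P B, ∀ hC : P C, (f B hB)⁻¹ * f C hC ∈ H → B = C := by
    intro B C hB hC h
    have key : ∀ D, P D → ∀ x ∈ D, x ∉ H → H ⊔ Subgroup.zpowers x = D := fun D hD x hx hxH => by
      rw [hP] at hD
      exact hstep hD.2.2.1 hx hxH hH2 hD.2.1
    have hnot : ∀ a ∈ A, a * e ∉ H := fun a ha h => heA ((Subgroup.mul_mem_cancel_left A ha).1 (hHA h))
    have hB' := hB
    have hC' := hC
    rw [hP] at hB' hC'
    rw [← key B hB _ (hfB B hB) (hnot _ (hfA B hB)), ← key C hC _ (hfB C hC) (hnot _ (hfA C hC))]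
    have hmem : f C hC * e ∈ H ⊔ Subgroup.zpowers (f B hB * e) := by
      rw [key B hB _ (hfB B hB) (hnot _ (hfA B hB))]
      obtain ⟨x, hx⟩ : ∃ x, x = (f B hB)⁻¹ * f C hC := ⟨_, rfl⟩
      rw [← hx] at h
      -- `H` is normalized by `A`
      have hconj : f B hB * x * (f B hB)⁻¹ ∈ H :=
        hHc _ (Subgroup.le_normalizer (hA (hfA B hB))) x h
      rw [show f C hC * e = (f B hB * x * (f B hB)⁻¹) * (f B hB * e) by rw [hx]; group]
      exact mul_mem (hB'.2.2.1 hconj) (hfB B hB)
    refine Subgroup.eq_of_le_of_card_ge ?_ ?_ |>.symm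
    · exact sup_le le_sup_left (Subgroup.zpowers_le.2 hmem)
    · rw [key B hB _ (hfB B hB) (hnot _ (hfA B hB)), key C hC _ (hfB C hC) (hnot _ (hfA C hC)),
        hB'.2.1, hC'.2.1]
  let q : {B // P B} → A ⧸ H.subgroupOf A := fun B => QuotientGroup.mk ⟨f B.1 B.2, hfA B.1 B.2⟩
  have hqinj : Function.Injective q := by
    rintro ⟨B, hB⟩ ⟨C, hC⟩ h
    have h' : (QuotientGroup.mk ⟨f B hB, hfA B hB⟩ : A ⧸ H.subgroupOf A) =
        QuotientGroup.mk ⟨f C hC, hfA C hC⟩ := h
    exact Subtype.ext (hinj B C hB hC (Subgroup.mem_subgroupOf.1 (QuotientGroup.eq.1 h')))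
  have hle : Nat.card {B // P B} ≤ p := by
    refine (Nat.card_le_card_of_injective q hqinj).trans (le_of_eq ?_)
    rw [← Subgroup.index_eq_card]
    have h := (H.subgroupOf A).card_mul_index
    rw [Nat.card_congr (Subgroup.subgroupOfEquivOfLe hHA).toEquiv, hH2, hA3, pow_succ p 2] at h
    exact Nat.eq_of_mul_eq_mul_left (pow_pos hp.out.pos 2) h
  -- the orbit of `E`
  set M := Subgroup.normalizer (N : Set G) with hMdef
  have hconjP : ∀ u ∈ M, P (E.map (MulAut.conj u).toMonoidHom) := by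
    intro u hu
    rw [hP]
    refine ⟨?_, ?_, ?_, fun h => ?_⟩
    · rintro _ ⟨x, hx, rfl⟩
      exact (Subgroup.mem_normalizer_iff.1 hu x).1 (Subgroup.le_normalizer hx)
    · rw [Subgroup.card_map_of_injective (MulAut.conj u).injective, hE3]
    · intro x hx
      refine ⟨u⁻¹ * x * u, hHE (by simpa using hHc u⁻¹ (inv_mem hu) x hx), by simp [mul_assoc]⟩
    · refine hAE (Subgroup.map_injective (f := (MulAut.conj u).toMonoidHom)
        (MulAut.conj u).injective ?_)
      rw [h]
      refine Subgroup.eq_of_le_of_card_ge ?_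
        (Subgroup.card_map_of_injective (MulAut.conj u).injective).ge
      rintro _ ⟨x, hx, rfl⟩
      exact (inferInstance : A.Normal).conj_mem x hx u
  let o : M ⧸ N.subgroupOf M → {B // P B} := Quotient.lift
    (fun u => ⟨E.map (MulAut.conj (u : G)).toMonoidHom, hconjP u u.2⟩) (fun u v huv => by
      refine Subtype.ext ?_
      have h : ((u⁻¹ * v : M) : G) ∈ N :=
        Subgroup.mem_subgroupOf.1 (QuotientGroup.leftRel_apply.1 huv)
      simp only [Subgroup.coe_mul, Subgroup.coe_inv] at h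
      ext y
      constructor
      · rintro ⟨x, hx, rfl⟩
        refine ⟨((u : G)⁻¹ * v)⁻¹ * x * ((u : G)⁻¹ * v),
          (Subgroup.mem_normalizer_iff''.1 h x).1 hx, ?_⟩
        simp [mul_assoc]
      · rintro ⟨x, hx, rfl⟩
        refine ⟨((u : G)⁻¹ * v) * x * ((u : G)⁻¹ * v)⁻¹, (Subgroup.mem_normalizer_iff.1 h x).1 hx, ?_⟩
        simp [mul_assoc])
  have hoinj : Function.Injective o := by
    intro x y
    induction x using Quotient.inductionOn with
    | _ u =>
    induction y using Quotient.inductionOn with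
    | _ v =>
    intro h
    have h' : E.map (MulAut.conj (u : G)).toMonoidHom = E.map (MulAut.conj (v : G)).toMonoidHom :=
      congrArg Subtype.val h
    refine Quotient.sound (QuotientGroup.leftRel_apply.2 (Subgroup.mem_subgroupOf.2 ?_))
    show ((u : G))⁻¹ * v ∈ N
    refine Subgroup.mem_normalizer_iff.2 fun x => ⟨fun hx => ?_, fun hx => ?_⟩
    · obtain ⟨y, hy, e'⟩ : (v : G) * x * (v : G)⁻¹ ∈ E.map (MulAut.conj (u : G)).toMonoidHom :=
        h' ▸ ⟨x, hx, rfl⟩
      have e'' : (u : G) * y * (u : G)⁻¹ = (v : G) * x * (v : G)⁻¹ := e'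
      rw [show (u : G)⁻¹ * v * x * ((u : G)⁻¹ * v)⁻¹ = (u : G)⁻¹ * ((v : G) * x * (v : G)⁻¹) * u by group,
        ← e'']
      simpa [mul_assoc] using hy
    · obtain ⟨y, hy, e'⟩ : (u : G) * ((u : G)⁻¹ * v * x * ((u : G)⁻¹ * v)⁻¹) * (u : G)⁻¹ ∈
          E.map (MulAut.conj (v : G)).toMonoidHom := h'.symm ▸ ⟨_, hx, rfl⟩
      have e'' : (v : G) * y * (v : G)⁻¹ = (v : G) * x * (v : G)⁻¹ := by
        refine Eq.trans e' ?_; group
      rwa [← mul_left_cancel (mul_right_cancel e'')]
  have hge : p ≤ Nat.card (M ⧸ N.subgroupOf M) := by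
    rw [← Subgroup.index_eq_card]
    have : Group.IsNilpotent G := (IsPGroup.of_card hm.card).isNilpotent
    have hlt : N < M := Group.normalizerCondition_of_isNilpotent N (lt_top_iff_ne_top.2 fun h => by
      rw [h, Subgroup.card_top, hm.card] at hN
      have := Nat.pow_right_injective hp.out.two_le hN
      omega)
    obtain ⟨r, hr⟩ := ((IsPGroup.of_card hm.card).to_subgroup M).index (N.subgroupOf M)
    rw [hr]
    refine Nat.le_self_pow (fun h0 => ?_) p
    rw [h0, pow_zero, Subgroup.index_eq_one, Subgroup.subgroupOf_eq_top] at hr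
    exact absurd hr (not_le_of_gt hlt)
  have hbij : Function.Bijective o := (Nat.bijective_iff_injective_and_card o).2
    ⟨hoinj, le_antisymm (Nat.card_le_card_of_injective o hoinj) (hle.trans hge)⟩
  obtain ⟨x, hx⟩ := hbij.2 ⟨A', by rw [hP]; exact ⟨hA', hA'3, hHA', hne⟩⟩
  induction x using Quotient.inductionOn with
  | _ u =>
  refine ⟨u, fun y hy => ?_⟩
  have h : E.map (MulAut.conj (u : G)).toMonoidHom = A' := congrArg Subtype.val hx
  exact h ▸ ⟨y, hy, rfl⟩

end group

end Cfsg.Agent.Fus.MCCube
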