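import Mathlib
import Cfsg.Agent.Lib.Fus.Saturation
import Cfsg.Agent.Lib.Fus.MaxClassUpper
import Cfsg.Agent.Lib.Grp.MaxClassUniform

/-!
Automorphisms of a normal subgroup of `S` in a saturated system, as automorphisms of a subgroup of
the type `↥S`, and their extension to `S`.
-/

set_option autoImplicit false
set_option linter.unusedSectionVars false
set_option linter.style.haveILetI false

open scoped Classical

namespace Cfsg.Agent.Fus.SelfAut

open Cfsg FusionSystem

variable {Ω : Type*} [Group Ω] {S : Subgroup Ω}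

/-- The image in `Ω` of a subgroup of `↥S`. -/
abbrev amb (A : Subgroup S) : Subgroup Ω := A.map S.subtype

theorem amb_le (A : Subgroup S) : amb A ≤ S := Subgroup.map_subtype_le _

theorem coe_mem_amb {A : Subgroup S} {x : S} : (x : Ω) ∈ amb A ↔ x ∈ A :=
  Subgroup.mem_map_iff_mem S.subtype_injective

/-- The automorphisms of the system on `A`, as automorphisms of `A`. -/
noncomputable def autOn (F : FusionSystem S) (A : Subgroup S) : Subgroup (MulAut A) :=
  (F.autGroup (amb A)).comap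
    (MulAut.congr (A.equivMapOfInjective S.subtype S.subtype_injective)).toMonoidHom

variable {F : FusionSystem S} {A : Subgroup S}

theorem mem_autOn {α : MulAut A} {f : Ω → Ω}
    (hf : ∀ a : A, f ((a : S) : Ω) = ((α a : S) : Ω)) :
    α ∈ autOn F A ↔ IsMap F (amb A) f := by
  have e : ∀ x ∈ amb A, autFun (MulAut.congr (A.equivMapOfInjective S.subtype
      S.subtype_injective) α) x = f x := by
    rintro _ ⟨a, ha, rfl⟩
    rw [show (S.subtype a) = ((A.equivMapOfInjective S.subtype S.subtype_injective ⟨a, ha⟩ :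
      amb A) : Ω) from rfl, autFun_coe]
    show (((A.equivMapOfInjective S.subtype S.subtype_injective)
      (α ((A.equivMapOfInjective S.subtype S.subtype_injective).symm
        ((A.equivMapOfInjective S.subtype S.subtype_injective) ⟨a, ha⟩)))) : Ω) = _
    rw [MulEquiv.symm_apply_apply]
    exact (hf ⟨a, ha⟩).symm
  show MulAut.congr _ α ∈ F.autGroup (amb A) ↔ _
  rw [mem_autGroup (amb_le A)]
  exact ⟨fun h => h.congr e, fun h => h.congr fun x hx => (e x hx).symm⟩

/-- A map of the system leaving `A` invariant. -/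
theorem exists_mem_autOn [Finite S] {f : Ω → Ω} (hf : IsMap F (amb A) f)
    (hA : ∀ a ∈ A, f (a : Ω) ∈ amb A) :
    ∃ α ∈ autOn F A, ∀ a : A, ((α a : S) : Ω) = f ((a : S) : Ω) := by
  haveI := finite_of_le (amb_le A)
  have himg : fimg f (amb A) = amb A := by
    refine Subgroup.eq_of_le_of_card_ge (fimg_le ?_) hf.card_fimg.ge
    rintro _ ⟨a, ha, rfl⟩
    exact hA a ha
  obtain ⟨γ, hγ, he⟩ := hf.exists_aut himg
  set e := A.equivMapOfInjective S.subtype S.subtype_injective with hedef
  obtain ⟨α, hα⟩ := (MulAut.congr e).surjective γ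
  refine ⟨α, by show MulAut.congr e α ∈ F.autGroup (amb A); rw [hα]; exact hγ, fun a => ?_⟩
  rw [← he _ (coe_mem_amb.2 a.2), show ((a : S) : Ω) = ((e a : amb A) : Ω) from rfl, autFun_coe, ← hα]
  show ((α a : S) : Ω) = ((e (α (e.symm (e a)))) : Ω)
  rw [MulEquiv.symm_apply_apply]
  rfl

theorem conjNormal_le [A.Normal] : (MulAut.conjNormal (H := A)).range ≤ autOn F A := by
  rintro _ ⟨g, rfl⟩
  refine (mem_autOn (f := fun x => (g : Ω) * x * (g : Ω)⁻¹) fun a => ?_).2
    (isMap_conj F (amb_le A) g.2)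
  simp

theorem comap_autInducedBy [A.Normal] :
    (autInducedBy S (amb A)).comap
      (MulAut.congr (A.equivMapOfInjective S.subtype S.subtype_injective)).toMonoidHom =
      (MulAut.conjNormal (H := A)).range := by
  set e := A.equivMapOfInjective S.subtype S.subtype_injective with hedef
  ext α
  rw [Subgroup.mem_comap, mem_autInducedBy]
  constructor
  · rintro ⟨g, hg, h⟩
    refine ⟨⟨g, hg⟩, MulEquiv.ext fun a => Subtype.ext (Subtype.ext ?_)⟩
    have := h (e a)
    change ((e (α (e.symm (e a)))) : Ω) = g * ((e a : amb A) : Ω) * g⁻¹ at this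
    rw [MulEquiv.symm_apply_apply] at this
    rw [MulAut.conjNormal_apply]
    exact this.symm
  · rintro ⟨g, rfl⟩
    refine ⟨g, g.2, fun x => ?_⟩
    show ((e (MulAut.conjNormal g (e.symm x))) : Ω) = _
    obtain ⟨a, rfl⟩ := e.surjective x
    rw [MulEquiv.symm_apply_apply]
    show (((MulAut.conjNormal g a : A) : S) : Ω) = _
    rw [MulAut.conjNormal_apply]
    rfl

theorem normalizerIn_amb [A.Normal] : normalizerIn S (amb A) = S := by
  refine inf_eq_left.2 fun g hg => mem_normalizer_of_forall ?_ ?_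
  · rintro _ ⟨a, ha, rfl⟩
    exact coe_mem_amb.2 ((inferInstance : A.Normal).conj_mem a ha ⟨g, hg⟩)
  · rintro _ ⟨a, ha, rfl⟩
    simpa using coe_mem_amb.2 ((inferInstance : A.Normal).conj_mem a ha (⟨g, hg⟩⁻¹ : S))

theorem fullyNormalized_amb [Finite S] [A.Normal] : F.IsFullyNormalized (amb A) :=
  ⟨amb_le A, fun Q _ => by
    rw [normalizerIn_amb]; exact Subgroup.card_le_of_le inf_le_left⟩

variable [Finite S] {p : ℕ} [hp : Fact p.Prime]

/-- A `p`-subgroup of the automorphisms containing the inner ones consists of inner ones. -/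
theorem eq_conjNormal_range (hS : IsPGroup p S) (hF : F.IsSaturated p) [A.Normal]
    {Q : Subgroup (MulAut A)} (hQ : IsPGroup p Q) (hQB : Q ≤ autOn F A)
    (hle : (MulAut.conjNormal (H := A)).range ≤ Q) : Q = (MulAut.conjNormal (H := A)).range := by
  refine (Subgroup.eq_of_le_of_card_ge hle ?_).symm
  haveI : Finite A := inferInstance
  haveI : Finite (MulAut A) :=
    Finite.of_injective (fun e : MulAut A => (e : A → A)) DFunLike.coe_injective
  obtain ⟨-, R, hR⟩ := fullyAutomized_of_fullyNormalized hS hF (fullyNormalized_amb (F := F) (A := A))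
  set e := MulAut.congr (A.equivMapOfInjective S.subtype S.subtype_injective) with hedef
  haveI := finite_of_le (amb_le A)
  haveI : Finite (MulAut (amb A)) :=
    Finite.of_injective (fun e : MulAut (amb A) => (e : amb A → amb A)) DFunLike.coe_injective
  have hQ' : IsPGroup p ((Q.map e.toMonoidHom).subgroupOf (F.autGroup (amb A))) :=
    (hQ.map _).comap_of_injective _ Subtype.val_injective
  obtain ⟨P, hP⟩ := hQ'.exists_le_sylow
  have h1 := Subgroup.card_le_of_le hP
  rw [Sylow.card_eq_multiplicity, ← Sylow.card_eq_multiplicity R, hR] at h1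
  have hQle : Q.map e.toMonoidHom ≤ F.autGroup (amb A) := by
    rintro _ ⟨q, hq, rfl⟩
    exact hQB hq
  rw [Nat.card_congr (Subgroup.subgroupOfEquivOfLe hQle).toEquiv,
    Subgroup.card_map_of_injective e.injective,
    Nat.card_congr (Subgroup.subgroupOfEquivOfLe (autInducedBy_le_autGroup F (amb_le A))).toEquiv]
    at h1
  rw [← comap_autInducedBy]
  refine h1.trans (le_of_eq ?_)
  conv_lhs => rw [← Subgroup.map_comap_eq_self_of_surjective (f := e.toMonoidHom) e.surjective (autInducedBy S (amb A))]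
  exact Subgroup.card_map_of_injective e.injective

/-- Extension of an automorphism that normalizes the inner ones. -/
theorem exists_extension (hS : IsPGroup p S) (hF : F.IsSaturated p) [A.Normal] {γ : MulAut A}
    (hγ : γ ∈ autOn F A)
    (hnorm : ∀ g : S, γ * MulAut.conjNormal g * γ⁻¹ ∈ (MulAut.conjNormal (H := A)).range) :
    ∃ φ : S ≃* S, ∀ a : A, φ (a : S) = (γ a : S) := by
  obtain ⟨f, hf⟩ : ∃ f : Ω → Ω, ∀ a : A, f ((a : S) : Ω) = ((γ a : S) : Ω) :=
    ⟨fun x => if h : x ∈ S then (if h' : (⟨x, h⟩ : S) ∈ A then ((γ ⟨_, h'⟩ : S) : Ω) else 1) else 1,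
      fun a => by simp⟩
  have hm : IsMap F (amb A) f := (mem_autOn hf).1 hγ
  haveI := finite_of_le (amb_le A)
  have himg : fimg f (amb A) = amb A := by
    refine Subgroup.eq_of_le_of_card_ge (fimg_le ?_) hm.card_fimg.ge
    rintro _ ⟨a, ha, rfl⟩
    have e := hf ⟨a, ha⟩
    simp only [Subgroup.subtype_apply] at e ⊢
    rw [e]
    exact coe_mem_amb.2 (SetLike.coe_mem _)
  obtain ⟨ψ, hψ, hext⟩ := receptive_extend
    (receptive_of_fullyNormalized hS hF (fullyNormalized_amb (F := F) (A := A))) hm himg (N := S)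
    (fun g hg => ⟨(normalizerIn_amb (A := A)).ge hg, by
      obtain ⟨h, hh⟩ := hnorm ⟨g, hg⟩
      refine ⟨h, h.2, ?_⟩
      rintro _ ⟨a, ha, rfl⟩
      have e1 : g * (a : Ω) * g⁻¹ = (((MulAut.conjNormal (⟨g, hg⟩ : S) (⟨a, ha⟩ : A)) : S) : Ω) := by
        simp
      have e2 := congrArg (fun x : A => ((x : S) : Ω)) (DFunLike.congr_fun hh (γ ⟨a, ha⟩))
      simp only [MulAut.mul_apply, MulAut.inv_apply_self, MulAut.conjNormal_apply,
        Subgroup.coe_mul, Subgroup.coe_inv] at e2
      show f (g * (a : Ω) * g⁻¹) = (h : Ω) * f (a : Ω) * (h : Ω)⁻¹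
      rw [e1, hf, hf ⟨a, ha⟩]
      exact e2.symm⟩) (amb_le A)
  let φ₀ : S →* S := MonoidHom.mk' (fun x => ⟨ψ x, hψ.apply_mem x.2⟩)
    fun x y => Subtype.ext (hψ.map_mul x.2 y.2)
  have hinj : Function.Injective φ₀ := fun x y h =>
    Subtype.ext (hψ.injOn x.2 y.2 (congrArg Subtype.val h))
  refine ⟨MulEquiv.ofBijective φ₀ ⟨hinj, Finite.surjective_of_injective hinj⟩, fun a => Subtype.ext ?_⟩
  show ψ ((a : S) : Ω) = _
  rw [hext _ (coe_mem_amb.2 a.2), hf]

/-- An element acting trivially on the factors of a series. -/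
theorem exists_pow_eq_one_of_stable {A : Type*} [Group A] {m : ℕ} (hA : Nat.card A = p ^ m)
    (U : ℕ → Subgroup A) {r : ℕ} (h0 : U 0 = ⊤) (hr : U r = ⊥)
    (hanti : ∀ j, U (j + 1) ≤ U j) {α : MulAut A}
    (hα : ∀ j, ∀ a ∈ U j, α a * a⁻¹ ∈ U (j + 1)) : ∃ k, α ^ p ^ k = 1 := by
  suffices h : ∀ i ≤ r, ∃ k, ∀ a ∈ U (r - i), (α ^ p ^ k) a = a by
    obtain ⟨k, hk⟩ := h r le_rfl
    exact ⟨k, MulEquiv.ext fun a => hk a (by rw [Nat.sub_self, h0]; exact Subgroup.mem_top a)⟩
  intro i
  induction i with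
  | zero =>
    refine fun _ => ⟨0, fun a ha => ?_⟩
    rw [Nat.sub_zero, hr, Subgroup.mem_bot] at ha
    rw [ha, map_one]
  | succ i ih =>
    intro hi
    obtain ⟨k, hk⟩ := ih (by omega)
    refine ⟨k + m, fun a ha => ?_⟩
    obtain ⟨j, hj, hji⟩ : ∃ j, r - (i + 1) = j ∧ r - i = j + 1 := ⟨_, rfl, by omega⟩
    rw [hj] at ha
    rw [hji] at hk
    have hmap : ∀ w ∈ U (j + 1), α w ∈ U (j + 1) := fun w hw => by
      simpa using mul_mem (hanti (j + 1) (hα (j + 1) w hw)) hw
    have hstep : ∀ q : ℕ, (α ^ q) a * a⁻¹ ∈ U (j + 1) := by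
      intro q
      induction q with
      | zero => simp
      | succ q ihq =>
        have := mul_mem (hmap _ ihq) (hα j a ha)
        rw [map_mul, map_inv, mul_assoc, inv_mul_cancel_left] at this
        rwa [pow_succ', MulAut.mul_apply]
    obtain ⟨d, hd⟩ : ∃ d, d = (α ^ p ^ k) a * a⁻¹ := ⟨_, rfl⟩
    have hdfix : (α ^ p ^ k) d = d := hk d (hd ▸ hstep _)
    have hiter : ∀ q : ℕ, ((α ^ p ^ k) ^ q) a = d ^ q * a := by
      intro q
      induction q with
      | zero => simp
      | succ q ihq =>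
        rw [pow_succ', MulAut.mul_apply, ihq, map_mul, map_pow, hdfix,
          show (α ^ p ^ k) a = d * a by rw [hd, inv_mul_cancel_right], ← mul_assoc, ← pow_succ]
    rw [pow_add, pow_mul, hiter, ← hA, pow_card_eq_one', one_mul]

/-- An automorphism preserving a subgroup of a finite group preserves its inverse. -/
theorem inv_apply_mem {A : Type*} [Group A] [Finite A] {α : MulAut A} {U : Subgroup A}
    (h : ∀ a ∈ U, α a ∈ U) {a : A} (ha : a ∈ U) : α⁻¹ a ∈ U := by
  have e : U.map α.toMonoidHom = U := Subgroup.eq_of_le_of_card_ge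
    (by rintro _ ⟨x, hx, rfl⟩; exact h x hx) (Subgroup.card_map_of_injective α.injective).ge
  obtain ⟨b, hb, e'⟩ := e.ge ha
  rw [← e']
  show α⁻¹ (α b) ∈ U
  rwa [MulAut.inv_apply_self]

open Cfsg.Agent.Grp.Uni in
open Cfsg.Agent.Fus.MC (lc lc_anti lc_step) in
/-- An automorphism of a term of the lower central series preserving the later ones extends. -/
theorem extends_of_layers {n : ℕ} (hS : IsPGroup p S) (hF : F.IsSaturated p) (hm : MaxCl S p n)
    {k : ℕ} (hk : 1 ≤ k) {γ : MulAut (lc S k)} (hγ : γ ∈ autOn F (lc S k))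
    (hpres : ∀ j, k ≤ j → ∀ a : lc S k, (a : S) ∈ lc S j → (γ a : S) ∈ lc S j) :
    ∃ φ : S ≃* S, ∀ a : lc S k, φ (a : S) = (γ a : S) := by
  obtain ⟨U, hU⟩ : ∃ U : ℕ → Subgroup (lc S k), U = fun j => (lc S (k + j)).subgroupOf (lc S k) :=
    ⟨_, rfl⟩
  have hmem : ∀ {j} {a : lc S k}, a ∈ U j ↔ (a : S) ∈ lc S (k + j) := by subst hU; exact Iff.rfl
  have hanti : ∀ j, U (j + 1) ≤ U j := fun j a ha =>
    hmem.2 (lc_anti (Nat.le_succ (k + j)) (hmem.1 ha))
  let St : Subgroup (MulAut (lc S k)) :=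
    { carrier := {α | ∀ j, ∀ a ∈ U j, α a * a⁻¹ ∈ U (j + 1)}
      one_mem' := fun j a _ => by simp
      mul_mem' := fun {α β} hα hβ j a ha => by
        have hb : β a ∈ U j := by simpa using mul_mem (hanti j (hβ j a ha)) ha
        simpa [MulAut.mul_apply, mul_assoc] using mul_mem (hα j _ hb) (hβ j a ha)
      inv_mem' := fun {α} hα j a ha => by
        have hb : α⁻¹ a ∈ U j := inv_apply_mem
          (fun x hx => by simpa using mul_mem (hanti j (hα j x hx)) hx) ha
        have h := inv_mem (hα j _ hb)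
        rwa [MulAut.apply_inv_self, mul_inv_rev, inv_inv] at h }
  have hQp : IsPGroup p ↥(autOn F (lc S k) ⊓ St) := by
    intro α
    obtain ⟨i, hi⟩ := exists_pow_eq_one_of_stable (card_lc hm hk) U (r := n - 1 - k)
      (by subst hU; simp)
      (by
        subst hU
        rw [eq_bot_iff]
        intro a ha
        rw [Subgroup.mem_subgroupOf, lc_eq_bot hm (by omega), Subgroup.mem_bot] at ha
        rw [Subgroup.mem_bot]
        exact Subtype.ext ha)
      hanti α.2.2
    exact ⟨i, Subtype.ext hi⟩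
  have hle : (MulAut.conjNormal (H := lc S k)).range ≤ autOn F (lc S k) ⊓ St := by
    refine le_inf conjNormal_le ?_
    rintro _ ⟨g, rfl⟩ j a ha
    refine hmem.2 ?_
    rw [Subgroup.coe_mul, MulAut.conjNormal_apply, Subgroup.coe_inv]
    have h := inv_mem (lc_step (y := g) (hmem.1 ha))
    rwa [commutatorElement_inv, commutatorElement_def, add_assoc] at h
  have hQ := eq_conjNormal_range hS hF hQp inf_le_left hle
  refine exists_extension hS hF hγ fun g => ?_
  rw [← hQ]
  obtain ⟨hg1, hg2⟩ := hQ.ge ⟨g, rfl⟩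
  refine ⟨mul_mem (mul_mem hγ hg1) (Subgroup.inv_mem _ hγ), fun j a ha => ?_⟩
  have hγj : ∀ i, ∀ x ∈ U i, γ x ∈ U i := fun i x hx =>
    hmem.2 (hpres _ (Nat.le_add_right _ _) x (hmem.1 hx))
  have hb : γ⁻¹ a ∈ U j := inv_apply_mem (hγj j) ha
  have h := hγj _ _ (hg2 j _ hb)
  rw [map_mul, map_inv, MulAut.apply_inv_self] at h
  exact h

end Cfsg.Agent.Fus.SelfAut
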