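import Mathlib
import Cfsg.Agent.Lib.Fus.MaxClassCube
import Cfsg.Agent.Lib.Fus.MaxClassExtend

/-!
A saturated system on a `p`-group of maximal class of order at least `p⁵`, `p` odd, has no
elementary abelian essential subgroup of order `p³`.
-/

set_option autoImplicit false
set_option linter.unusedSectionVars false
set_option linter.style.haveILetI false

open scoped Classical

namespace Cfsg.Agent.Fus.MCCube

open Cfsg FusionSystem SelfAut
open scoped commutatorElement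
open Cfsg.Agent.Fus.MC (lc lc_anti lc_comm lc_step Ck mem_Ck lc_one_le_Ck)
open Cfsg.Agent.Grp.Uni
open Cfsg.Agent.Fus.MCDeg (Ck_eq_one Act signs_false)

variable {Ω : Type*} [Group Ω] {S : Subgroup Ω} [Finite S] {p n : ℕ} [hp : Fact p.Prime]
  {F : FusionSystem S}

/-- Normalizing in `↥S` and in the ambient group. -/
theorem mem_normalizer_subgroupOf {E : Subgroup Ω} (hE : E ≤ S) {g : S} :
    g ∈ Subgroup.normalizer (E.subgroupOf S : Set S) ↔ (g : Ω) ∈ Subgroup.normalizer (E : Set Ω) := by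
  constructor
  · intro h
    refine Fus.mem_normalizer_of_forall (fun x hx => ?_) fun x hx => ?_
    · exact Subgroup.mem_subgroupOf.1 ((Subgroup.mem_normalizer_iff.1 h ⟨x, hE hx⟩).1 hx)
    · exact Subgroup.mem_subgroupOf.1 ((Subgroup.mem_normalizer_iff''.1 h ⟨x, hE hx⟩).1 hx)
  · exact fun h => Subgroup.mem_normalizer_iff.2 fun x => Subgroup.mem_normalizer_iff.1 h x

theorem mem_normalizerIn_iff {E : Subgroup Ω} (hE : E ≤ S) {g : S} :
    (g : Ω) ∈ normalizerIn S E ↔ g ∈ Subgroup.normalizer (E.subgroupOf S : Set S) :=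
  ⟨fun h => (mem_normalizer_subgroupOf hE).2 h.2, fun h => ⟨g.2, (mem_normalizer_subgroupOf hE).1 h⟩⟩

/-- A strongly `p`-embedded subgroup of a quotient by the trivial group. -/
theorem exists_spe_of_quotient {B : Type*} [Group B] [Finite B] {K : Subgroup B} [K.Normal]
    (hK : K = ⊥) {Y : Subgroup (B ⧸ K)} (hY : IsStronglyPEmbedded p Y) :
    ∃ Y' : Subgroup B, IsStronglyPEmbedded p Y' := by
  obtain ⟨hd, hne, hcl⟩ := Invol.isStronglyPEmbedded_iff.1 hY
  have hsurj := QuotientGroup.mk'_surjective K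
  have hinj : Function.Injective (QuotientGroup.mk' K) := by
    rw [← MonoidHom.ker_eq_bot_iff, QuotientGroup.ker_mk', hK]
  have hcard : ∀ Z : Subgroup (B ⧸ K), Nat.card (Z.comap (QuotientGroup.mk' K)) = Nat.card Z :=
    fun Z => by
      rw [← Subgroup.card_map_of_injective (f := QuotientGroup.mk' K) hinj,
        Subgroup.map_comap_eq_self_of_surjective hsurj]
  refine ⟨Y.comap (QuotientGroup.mk' K), Invol.isStronglyPEmbedded_iff.2
    ⟨(hcard Y).symm ▸ hd, fun h => hne ?_, fun g hg => ?_⟩⟩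
  · rw [← Subgroup.map_comap_eq_self_of_surjective hsurj Y, h,
      Subgroup.map_top_of_surjective _ hsurj]
  · refine fun h => hcl _ hg (h.trans ?_)
    rw [← Subgroup.card_map_of_injective (f := QuotientGroup.mk' K) hinj]
    refine Subgroup.card_dvd_of_le (le_inf ?_ ?_)
    · exact (Subgroup.map_mono inf_le_left).trans (Subgroup.map_comap_le _ _)
    · refine (Subgroup.map_mono inf_le_right).trans ?_
      rintro _ ⟨_, ⟨y, hy, rfl⟩, rfl⟩
      exact ⟨_, hy, by simp⟩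

/-- The data an elementary abelian essential subgroup of order `p³` gives inside `↥S`. -/
theorem exists_data (hS : IsPGroup p S) (hF : F.IsSaturated p) (hm : MaxCl S p n) (h5 : 5 ≤ n)
    (hp2 : p ≠ 2) {E : Subgroup Ω} (hE : F.IsEssential p E) (hel : IsElementaryAbelian p E)
    (hcard : Nat.card E = p ^ 3) :
    ∃ (N H : Subgroup S) (c l : S) (f : Ω → Ω),
      N = Subgroup.normalizer (E.subgroupOf S : Set S) ∧ Nat.card N = p ^ 4 ∧
      (∀ u ∈ Subgroup.normalizer (N : Set S), ∀ x ∈ H, u * x * u⁻¹ ∈ H) ∧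
      H ≤ E.subgroupOf S ∧ Nat.card H = p ^ 2 ∧ c ≠ 1 ∧ l ∉ Subgroup.zpowers c ∧
      Subgroup.zpowers c ⊔ Subgroup.zpowers l = H ∧
      (∀ y ∈ N, ∀ x ∈ H, y * x = x * y) ∧
      (∀ y ∈ N, ∀ x ∈ E.subgroupOf S, ⁅y, x⁆ ∈ Subgroup.zpowers c) ∧
      IsMap F (normalizerIn S E) f ∧ (∀ y ∈ normalizerIn S E, f y ∈ normalizerIn S E) ∧
      (∀ y ∈ normalizerIn S E, f (f y) = y) ∧ f c = (c : Ω)⁻¹ ∧ f l = l ∧
      (∀ y ∈ normalizerIn S E, ∀ x ∈ E, f y * x * (f y)⁻¹ = y * x * y⁻¹) := by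
  have hES : E ≤ S := hE.2.1.1
  haveI := finite_of_le hES
  haveI hfN : Finite (normalizerIn S E) := finite_of_le inf_le_left
  letI : CommGroup E := { (inferInstance : Group E) with mul_comm := hel.1.is_comm.comm }
  haveI : Finite (MulAut E) :=
    Finite.of_injective (fun e : MulAut E => (e : E → E)) DFunLike.coe_injective
  have hexp : ∀ x : E, x ^ p = 1 := fun x => Subtype.ext (hel.2 x x.2)
  have hcomm : ∀ x ∈ E.subgroupOf S, ∀ y ∈ E.subgroupOf S, x * y = y * x := fun x hx y hy => by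
    refine Subtype.ext ?_
    show (x : Ω) * y = y * x
    exact congrArg Subtype.val (mul_comm (⟨x, hx⟩ : E) ⟨y, hy⟩)
  have hCE : centralizerIn S E ≤ E := hE.1.2 E (isConj_refl F hES)
  have hself : Subgroup.centralizer (E.subgroupOf S : Set S) ≤ E.subgroupOf S := fun g hg =>
    hCE (mem_centralizerIn.2 ⟨g.2, fun x hx =>
      congrArg Subtype.val (Subgroup.mem_centralizer_iff.1 hg ⟨x, hES hx⟩ hx)⟩)
  have hE3 : Nat.card (E.subgroupOf S) = p ^ 3 :=
    (Nat.card_congr (Subgroup.subgroupOfEquivOfLe hES).toEquiv).trans hcard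
  obtain ⟨z, hzN, hzE, H, hHE, hH2, hzH⟩ := exists_transvection hm h5 hE3 hcomm hself
  set N := Subgroup.normalizer (E.subgroupOf S : Set S) with hNdef
  -- the automorphisms
  set B := F.autGroup E with hBdef
  have hInn : (Inn E).subgroupOf B = ⊥ := by
    rw [eq_bot_iff]
    rintro ⟨α, hα⟩ hmem
    obtain ⟨g, hg⟩ := hmem
    refine Subgroup.mem_bot.2 (Subtype.ext (MulEquiv.ext fun x => ?_))
    show α x = x
    rw [show α = MulAut.conj g from hg.symm, MulAut.conj_apply, mul_comm g x, mul_inv_cancel_right]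
  obtain ⟨hn, Y₀, hY₀⟩ := hE.2.2
  haveI := hn
  obtain ⟨Y, hY⟩ := exists_spe_of_quotient hInn hY₀
  obtain ⟨conjE, hconjE⟩ : ∃ ψ : Subgroup.normalizer (E.subgroupOf S : Set S) →* B,
      ∀ y (x : E), ((((ψ y : B) : MulAut E) x : E) : Ω) = ((y : S) : Ω) * x * ((y : S) : Ω)⁻¹ := by
    refine ⟨MonoidHom.mk' (fun y => ⟨E.normalizerMonoidHom ⟨(y : S), (mem_normalizer_subgroupOf hES).1 y.2⟩,
      autInducedBy_le_autGroup F hES (mem_autInducedBy.2 ⟨_, (y : S).2, fun x => rfl⟩)⟩)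
      fun y y' => Subtype.ext ?_, fun y x => rfl⟩
    exact map_mul E.normalizerMonoidHom
      ⟨((y : S) : Ω), (mem_normalizer_subgroupOf hES).1 y.2⟩
      ⟨((y' : S) : Ω), (mem_normalizer_subgroupOf hES).1 y'.2⟩
  have hker : ∀ y, conjE y = 1 ↔ (y : S) ∈ E.subgroupOf S := fun y => by
    refine ⟨fun h => hself (Subgroup.mem_centralizer_iff.2 fun x hx => ?_), fun h => ?_⟩
    · have e := hconjE y ⟨x, hx⟩
      rw [h] at e
      exact Subtype.ext (mul_inv_eq_iff_eq_mul.1 e.symm).symm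
    · refine Subtype.ext (MulEquiv.ext fun x => Subtype.ext ?_)
      rw [hconjE]
      show _ = (x : Ω)
      exact mul_inv_eq_iff_eq_mul.2
        (congrArg Subtype.val (mul_comm (⟨((y : S) : Ω), h⟩ : E) x))
  obtain ⟨τ, hτdef⟩ : ∃ τ : B, τ = conjE ⟨z, hzN⟩ := ⟨_, rfl⟩
  have hT : IsPGroup p ((autInducedBy S E).subgroupOf B) :=
    (isPGroup_autInducedBy hS E).comap_of_injective _ Subtype.val_injective
  have hmemT : ∀ y, conjE y ∈ (autInducedBy S E).subgroupOf B := fun y =>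
    mem_autInducedBy.2 ⟨_, (y : S).2, hconjE y⟩
  obtain ⟨HE, hHEdef⟩ : ∃ HE : Subgroup E, HE = (amb H).subgroupOf E := ⟨_, rfl⟩
  have hHamb : amb H ≤ E := by
    rintro _ ⟨x, hx, rfl⟩
    exact hHE hx
  have hHEcard : Nat.card HE = p ^ 2 := by
    rw [hHEdef, Nat.card_congr (Subgroup.subgroupOfEquivOfLe hHamb).toEquiv,
      Subgroup.card_map_of_injective S.subtype_injective, hH2]
  have hτfix : ∀ x ∈ HE, (τ : MulAut E) x = x := fun x hx => Subtype.ext (by
    rw [hHEdef, Subgroup.mem_subgroupOf] at hx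
    obtain ⟨w, hw, e⟩ := hx
    rw [hτdef, hconjE, ← e]
    exact mul_inv_eq_iff_eq_mul.2 (congrArg Subtype.val (hzH w hw)))
  obtain ⟨hTτ, hord, c, l, e, hc1, hl, hcH, hlH, heH, hτe, hgenH, hgenE, h, hhc, hhl, hhe, hhτ, hh⟩ :=
    CubeAut.transvection_facts hexp hcard hY hT (τ := τ) (hτdef ▸ hmemT _)
      (fun h => hzE ((hker _).1 (hτdef.symm.trans h))) hHEcard hτfix
  -- the powers of `τ`
  have hpows : ∀ y, ∃ i : ℕ, conjE y = τ ^ i := fun y => by
    obtain ⟨i, hi⟩ := (IsOfFinOrder.mem_powers_iff_mem_zpowers (isOfFinOrder_of_finite τ)).2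
      (hTτ _ (hmemT y))
    exact ⟨i, hi.symm⟩
  have hrange : conjE.range = Subgroup.zpowers τ :=
    le_antisymm (by rintro _ ⟨y, rfl⟩; exact hTτ _ (hmemT y))
      (Subgroup.zpowers_le.2 ⟨_, hτdef.symm⟩)
  have hN4 : Nat.card N = p ^ 4 := by
    have h1 := conjE.ker.card_mul_index
    rw [Subgroup.index_ker, hrange, Nat.card_zpowers, hord,
      show conjE.ker = (E.subgroupOf S).subgroupOf N from Subgroup.ext fun y => hker y,
      Nat.card_congr (Subgroup.subgroupOfEquivOfLe (Subgroup.le_normalizer)).toEquiv, hE3,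
      ← pow_succ] at h1
    exact h1.symm
  have hpowfix : ∀ (i : ℕ) x, x ∈ HE → ((τ ^ i : B) : MulAut E) x = x := fun i x hx => by
    induction i with
    | zero => rfl
    | succ i ih => rw [pow_succ', Subgroup.coe_mul, MulAut.mul_apply, ih, hτfix x hx]
  have hmove : ∀ (i : ℕ) x, ((τ ^ i : B) : MulAut E) x * x⁻¹ ∈ Subgroup.zpowers c := by
    have h1 : ∀ x, (τ : MulAut E) x * x⁻¹ ∈ Subgroup.zpowers c := fun x => by
      obtain ⟨u, hu, _, ⟨j, rfl⟩, rfl⟩ :=
        Subgroup.mem_sup_of_normal_left.1 (hgenE.ge (Subgroup.mem_top x))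
      refine ⟨j, ?_⟩
      show c ^ j = (τ : MulAut E) (u * e ^ j) * (u * e ^ j)⁻¹
      rw [map_mul, map_zpow, hτfix u hu, hτe, mul_zpow, mul_inv, mul_mul_mul_comm, mul_inv_cancel,
        one_mul, mul_inv_cancel_right]
    intro i x
    induction i with
    | zero => simp
    | succ i ih =>
      obtain ⟨j, hj⟩ := ih
      have := mul_mem (show (τ : MulAut E) (c ^ j) ∈ Subgroup.zpowers c by
        rw [map_zpow, hτfix c hcH]; exact ⟨j, rfl⟩) (h1 x)
      rw [show c ^ j = ((τ ^ i : B) : MulAut E) x * x⁻¹ from hj, map_mul, map_inv, mul_assoc,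
        inv_mul_cancel_left] at this
      rwa [pow_succ', Subgroup.coe_mul, MulAut.mul_apply]
  obtain ⟨cS, hcS⟩ : ∃ cS : S, cS = ⟨c, hES c.2⟩ := ⟨_, rfl⟩
  obtain ⟨lS, hlS⟩ : ∃ lS : S, lS = ⟨l, hES l.2⟩ := ⟨_, rfl⟩
  have hmemzp : ∀ (w : E) (v : S), ((v : S) : Ω) = w →
      (w ∈ Subgroup.zpowers c ↔ v ∈ Subgroup.zpowers cS) := by
    intro w v hv
    constructor <;> rintro ⟨i, hi⟩ <;> refine ⟨i, ?_⟩
    · refine Subtype.ext ?_
      show ((cS ^ i : S) : Ω) = v
      rw [SubgroupClass.coe_zpow, hcS, hv, ← hi, SubgroupClass.coe_zpow]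
    · refine Subtype.ext ?_
      show ((c ^ i : E) : Ω) = w
      rw [SubgroupClass.coe_zpow, ← hv, ← hi, SubgroupClass.coe_zpow, hcS]
  have hgenS : Subgroup.zpowers cS ⊔ Subgroup.zpowers lS = H := by
    apply Subgroup.map_injective S.subtype_injective
    rw [Subgroup.map_sup, MonoidHom.map_zpowers, MonoidHom.map_zpowers]
    have h2 := congrArg (Subgroup.map E.subtype) hgenH
    rw [Subgroup.map_sup, MonoidHom.map_zpowers, MonoidHom.map_zpowers, hHEdef,
      Subgroup.map_subgroupOf_eq_of_le hHamb] at h2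
    rw [hcS, hlS]
    exact h2
  have hHN : ∀ y ∈ N, ∀ x ∈ H, y * x = x * y := by
    intro y hy x hx
    obtain ⟨i, hi⟩ := hpows ⟨y, hy⟩
    have e1 := hconjE ⟨y, hy⟩ ⟨(x : Ω), hHE hx⟩
    rw [hi, hpowfix i _ (hHEdef ▸ Subgroup.mem_subgroupOf.2 (coe_mem_amb.2 hx))] at e1
    exact Subtype.ext (mul_inv_eq_iff_eq_mul.1 e1.symm)
  have hcNE : ∀ y ∈ N, ∀ x ∈ E.subgroupOf S, ⁅y, x⁆ ∈ Subgroup.zpowers cS := by
    intro y hy x hx
    obtain ⟨i, hi⟩ := hpows ⟨y, hy⟩
    refine (hmemzp _ _ ?_).1 (hmove i ⟨(x : Ω), hx⟩)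
    rw [← hi, Subgroup.coe_mul, Subgroup.coe_inv, hconjE]
    rfl
  have hHc : ∀ u ∈ Subgroup.normalizer (N : Set S), ∀ x ∈ H, u * x * u⁻¹ ∈ H := by
    intro u hu x hx
    have hcen : ∀ y ∈ N, y * (u * x * u⁻¹) = u * x * u⁻¹ * y := fun y hy => by
      have e := hHN _ ((Subgroup.mem_normalizer_iff''.1 hu y).1 hy) x hx
      calc y * (u * x * u⁻¹) = u * (u⁻¹ * y * u * x) * u⁻¹ := by group
        _ = u * (x * (u⁻¹ * y * u)) * u⁻¹ := by rw [e]
        _ = u * x * u⁻¹ * y := by group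
    have hE' : u * x * u⁻¹ ∈ E.subgroupOf S := hself (Subgroup.mem_centralizer_iff.2 fun y hy =>
      hcen y (Subgroup.le_normalizer hy))
    by_contra hnot
    obtain ⟨v, hv⟩ : ∃ v : E, (v : Ω) = ((u * x * u⁻¹ : S) : Ω) := ⟨⟨_, hE'⟩, rfl⟩
    have hfixv : (τ : MulAut E) v = v := Subtype.ext (by
      rw [hτdef, hconjE, hv]
      exact mul_inv_eq_iff_eq_mul.2 (congrArg Subtype.val (hcen z hzN)))
    have hvH : v ∈ HE := by
      obtain ⟨u', hu', _, ⟨j, rfl⟩, e'⟩ :=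
        Subgroup.mem_sup_of_normal_left.1 (hgenE.ge (Subgroup.mem_top v))
      rw [← e', map_mul, map_zpow, hτfix u' hu', hτe, mul_zpow] at hfixv
      have hcj : c ^ j = 1 := mul_eq_right.1 (mul_left_cancel hfixv)
      have hdvd : (p : ℤ) ∣ j := by
        have := orderOf_dvd_iff_zpow_eq_one.2 hcj
        rwa [orderOf_eq_prime (hexp c) hc1] at this
      obtain ⟨k, rfl⟩ := hdvd
      dsimp only at e'
      rw [← e', zpow_mul, zpow_natCast, hexp, one_zpow, mul_one]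
      exact hu'
    rw [hHEdef, Subgroup.mem_subgroupOf, hv] at hvH
    exact hnot (coe_mem_amb.1 hvH)
  -- the extension of `h`
  have hhm : IsMap F E (autFun (h : MulAut E)) := (mem_autGroup hES).1 h.2
  obtain ⟨f₀, hf₀, hf₀E⟩ := receptive_extend (receptive_of_fullyNormalized hS hF hE.2.1) hhm
    (fimg_autFun _) (N := normalizerIn S E) (fun g hg => ⟨hg, g, hg.1, by
      intro x hx
      obtain ⟨i, hi⟩ := hpows ⟨⟨g, hg.1⟩, (mem_normalizerIn_iff hES).1 hg⟩
      have hgx : ∀ w : E, g * (w : Ω) * g⁻¹ = ((((τ ^ i : B) : MulAut E) w : E) : Ω) := fun w => by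
        rw [← hi, hconjE]
      rw [show x = ((⟨x, hx⟩ : E) : Ω) from rfl, hgx, autFun_coe, autFun_coe, hgx,
        ← MulAut.mul_apply, ← Subgroup.coe_mul,
        ((show Commute h τ from hhτ).pow_right i).eq]
      rfl⟩) (le_normalizerIn hES)
  have himg₀ : fimg f₀ E = E := by rw [fimg_congr hf₀E, fimg_autFun]
  have hf₀N : ∀ y ∈ normalizerIn S E, f₀ y ∈ normalizerIn S E := fun y hy => by
    have := hf₀.map_normalizerIn (le_normalizerIn hES) hy hy.2
    rwa [himg₀] at this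
  have hf₀h : ∀ x : E, f₀ x = (((h : MulAut E) x : E) : Ω) := fun x => by
    rw [hf₀E x x.2, autFun_coe]
  have hh2 : ∀ x : E, (h : MulAut E) ((h : MulAut E) x) = x := fun x => by
    rw [← MulAut.mul_apply, ← Subgroup.coe_mul, hh]; rfl
  have hiterm : ∀ k, IsMap F (normalizerIn S E) f₀^[k] ∧
      ∀ y ∈ normalizerIn S E, f₀^[k] y ∈ normalizerIn S E := by
    intro k
    induction k with
    | zero => exact ⟨(isMap_id F inf_le_left).congr fun _ _ => rfl, fun y hy => hy⟩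
    | succ k ih =>
      rw [Function.iterate_succ']
      exact ⟨ih.1.comp hf₀ ih.2, fun y hy => hf₀N _ (ih.2 y hy)⟩
  have hodd : Odd p := hp.out.odd_of_ne_two hp2
  have hfE : ∀ x : E, f₀^[p] (x : Ω) = (((h : MulAut E) x : E) : Ω) := by
    obtain ⟨q, hq⟩ := hodd
    have he : ∀ k (x : E), f₀^[2 * k] (x : Ω) = x := fun k x => by
      rw [Function.iterate_mul]
      refine Function.iterate_fixed ?_ k
      show f₀ (f₀ x) = x
      rw [hf₀h, hf₀h, hh2]
    intro x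
    rw [show (f₀^[p]) (x : Ω) = f₀^[2 * q + 1] (x : Ω) by rw [← hq]]
    rw [Function.iterate_succ_apply', he, hf₀h]
  have hconjf : ∀ y ∈ normalizerIn S E, ∀ x ∈ E, f₀ y * x * (f₀ y)⁻¹ = y * x * y⁻¹ := by
    intro y hy x hx
    obtain ⟨i, hi⟩ := hpows ⟨⟨y, hy.1⟩, (mem_normalizerIn_iff hES).1 hy⟩
    obtain ⟨w, hw⟩ : ∃ w, w = (h : MulAut E) ⟨x, hx⟩ := ⟨_, rfl⟩
    have ew : f₀ w = x := by rw [hf₀h, hw, hh2]
    rw [← ew, ← hf₀.map_conj hy (le_normalizerIn hES w.2)]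
    have hyw : y * (w : Ω) * y⁻¹ = ((((τ ^ i : B) : MulAut E) w : E) : Ω) := by rw [← hi, hconjE]
    have hyx : y * x * y⁻¹ = ((((τ ^ i : B) : MulAut E) ⟨x, hx⟩ : E) : Ω) := by rw [← hi, hconjE]
    rw [hyw, hf₀h, ew, hyx, hw, ← MulAut.mul_apply, ← Subgroup.coe_mul,
      ((show Commute h τ from hhτ).pow_right i).eq, Subgroup.coe_mul, MulAut.mul_apply, hh2]
  refine ⟨N, H, cS, lS, f₀^[p], rfl, hN4, hHc, hHE, hH2, ?_, ?_, hgenS, hHN, hcNE, (hiterm p).1,
    (hiterm p).2, ?_, ?_, ?_, ?_⟩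
  · exact fun h1 => hc1 (Subtype.ext (by
      have := congrArg Subtype.val h1
      rwa [hcS] at this))
  · exact fun h1 => hl ((hmemzp l lS (by rw [hlS])).2 h1)
  · intro y hy
    -- `f₀²` moves `y` by an element of `E` fixed by `f₀²`
    obtain ⟨d, hd⟩ : ∃ d : E, (d : Ω) = y⁻¹ * f₀ (f₀ y) := by
      refine ⟨⟨_, hCE (mem_centralizerIn.2 ⟨mul_mem (inv_mem hy.1) (hf₀N _ (hf₀N y hy)).1,
        fun x hx => ?_⟩)⟩, rfl⟩
      have e1 : f₀ (f₀ y) * x * (f₀ (f₀ y))⁻¹ = y * x * y⁻¹ :=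
        (hconjf _ (hf₀N y hy) x hx).trans (hconjf y hy x hx)
      calc x * (y⁻¹ * f₀ (f₀ y)) = y⁻¹ * (y * x * y⁻¹) * f₀ (f₀ y) := by group
        _ = y⁻¹ * (f₀ (f₀ y) * x * (f₀ (f₀ y))⁻¹) * f₀ (f₀ y) := by rw [e1]
        _ = y⁻¹ * f₀ (f₀ y) * x := by group
    have hiter : ∀ k, f₀^[2 * k] y = y * (d : Ω) ^ k := by
      intro k
      induction k with
      | zero => simp
      | succ k ih =>
        have hdk : (d : Ω) ^ k ∈ E := pow_mem d.2 k
        rw [show 2 * (k + 1) = 2 * k + 1 + 1 by ring, Function.iterate_succ_apply',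
          Function.iterate_succ_apply', ih, hf₀.map_mul hy (le_normalizerIn hES hdk),
          show (d : Ω) ^ k = ((d ^ k : E) : Ω) from rfl, hf₀h,
          hf₀.map_mul (hf₀N y hy) (le_normalizerIn hES (SetLike.coe_mem _)), hf₀h, hh2,
          show f₀ (f₀ y) = y * (d : Ω) by rw [hd, mul_inv_cancel_left], mul_assoc]
        congr 1
        exact (pow_succ' (d : Ω) k).symm
    rw [← Function.iterate_add_apply, ← two_mul, hiter,
      show (d : Ω) ^ p = 1 from congrArg Subtype.val (hexp d), mul_one]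
  · rw [show ((cS : S) : Ω) = c from by rw [hcS], hfE, hhc]; rfl
  · rw [show ((lS : S) : Ω) = l from by rw [hlS], hfE, hhl]
  · intro y hy x hx
    have h2 : ∀ k, ∀ y ∈ normalizerIn S E, f₀^[k] y * x * (f₀^[k] y)⁻¹ = y * x * y⁻¹ := by
      intro k
      induction k with
      | zero => exact fun _ _ => rfl
      | succ k ih =>
        intro y hy
        rw [Function.iterate_succ_apply, ih _ (hf₀N y hy), hconjf y hy x hx]
    exact h2 p y hy

/-- The elements of the join of two commuting cyclic groups. -/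
theorem exists_exponents {G : Type*} [Group G] {a b x : G} (hab : Commute a b)
    (hx : x ∈ Subgroup.zpowers a ⊔ Subgroup.zpowers b) : ∃ i j : ℤ, x = a ^ i * b ^ j := by
  let K : Subgroup G :=
    { carrier := {y | ∃ i j : ℤ, y = a ^ i * b ^ j}
      one_mem' := ⟨0, 0, by simp⟩
      mul_mem' := fun {y y'} hy hy' => by
        obtain ⟨i, j, rfl⟩ := hy
        obtain ⟨i', j', rfl⟩ := hy'
        refine ⟨i + i', j + j', ?_⟩
        have e : b ^ j * a ^ i' = a ^ i' * b ^ j := (hab.zpow_zpow i' j).symm.eq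
        rw [zpow_add, zpow_add, mul_assoc, ← mul_assoc (b ^ j), e]
        group
      inv_mem' := fun {y} hy => by
        obtain ⟨i, j, rfl⟩ := hy
        exact ⟨-i, -j, by rw [mul_inv_rev, zpow_neg, zpow_neg, ((hab.zpow_zpow i j).inv_inv).eq]⟩ }
  exact (sup_le (Subgroup.zpowers_le.2 (show a ∈ K from ⟨1, 0, by simp⟩))
    (Subgroup.zpowers_le.2 (show b ∈ K from ⟨0, 1, by simp⟩)) : _ ≤ K) hx

theorem dvd_of_two_mul (hp2 : p ≠ 2) {G : Type*} [Group G] {x : G} (hx : x ^ p = 1) {U : Subgroup G}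
    (hxU : x ∉ U) {i : ℤ} (h : x ^ (2 * i) ∈ U) : x ^ i = 1 := by
  have hd : (p : ℤ) ∣ 2 * i := by
    by_contra hd
    obtain ⟨a, b, hab⟩ : IsCoprime (2 * i) (p : ℤ) :=
      ((Nat.prime_iff_prime_int.1 hp.out).coprime_iff_not_dvd.2 hd).symm
    refine hxU ?_
    have := U.zpow_mem h a
    rwa [← zpow_mul, show 2 * i * a = 1 - (p : ℤ) * b by rw [← hab]; ring, zpow_sub, zpow_mul,
      zpow_natCast, hx, one_zpow, zpow_one, inv_one, mul_one] at this
  obtain ⟨k, rfl⟩ := ((Nat.prime_iff_prime_int.1 hp.out).dvd_mul.1 hd).resolve_left fun h2 => by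
    have h2' : p ∣ 2 := Int.natCast_dvd_natCast.1 h2
    exact hp2 ((Nat.prime_dvd_prime_iff_eq hp.out Nat.prime_two).1 h2')
  rw [zpow_mul, zpow_natCast, hx, one_zpow]

/-- An automorphism of the term of order `p³` with forbidden signs. -/
theorem signs_false_layers (hS : IsPGroup p S) (hF : F.IsSaturated p) (hm : MaxCl S p n) (h5 : 5 ≤ n)
    (hp2 : p ≠ 2) {γ : MulAut (lc S (n - 4))} (hγ : γ ∈ autOn F (lc S (n - 4)))
    (h1 : ∀ a, ((γ a * a⁻¹ : lc S (n - 4)) : S) ∈ lc S (n - 3))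
    (h23 : ((∀ a, ((γ a * a⁻¹ : lc S (n - 4)) : S) ∈ lc S (n - 2)) ∧
        ∀ a : lc S (n - 4), (a : S) ∈ lc S (n - 2) → γ a = a⁻¹) ∨
      (Ck S (n - 3) ≠ Ck S 1 ∧
        (∀ a : lc S (n - 4), (a : S) ∈ lc S (n - 3) → ((γ a * a : lc S (n - 4)) : S) ∈ lc S (n - 2)) ∧
        ∀ a : lc S (n - 4), (a : S) ∈ lc S (n - 2) → γ a = a)) : False := by
  have hlayer : ∀ j, n - 4 ≤ j → j = n - 4 ∨ j = n - 3 ∨ j = n - 2 ∨ n - 1 ≤ j := fun j _ => by omega
  have hpres : ∀ j, n - 4 ≤ j → ∀ a : lc S (n - 4), (a : S) ∈ lc S j → (γ a : S) ∈ lc S j := by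
    intro j hj a ha
    rcases hlayer j hj with rfl | rfl | rfl | hj'
    · exact (γ a).2
    · have := mul_mem (h1 a) ha
      simpa using this
    · rcases h23 with ⟨-, h⟩ | ⟨-, -, h⟩
      · rw [h a ha]
        exact inv_mem ha
      · rwa [h a ha]
    · rw [lc_eq_bot hm hj', Subgroup.mem_bot] at ha
      rw [show a = 1 from Subtype.ext ha, map_one]
      exact one_mem _
  obtain ⟨φ, hφ⟩ := extends_of_layers hS hF hm (by omega) hγ hpres
  have key : ∀ {k : ℕ} {ε : ℤ}, n - 4 ≤ k →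
      (∀ a : lc S (n - 4), (a : S) ∈ lc S k → (γ a : S) * ((a : S) ^ ε)⁻¹ ∈ lc S (k + 1)) →
      Act φ k ε := fun {k ε} hk h a ha => by
    rw [hφ ⟨a, lc_anti hk ha⟩]
    exact h ⟨a, lc_anti hk ha⟩ ha
  have e1 : Act φ (n - 4) 1 := key le_rfl fun a _ => by
    rw [zpow_one, show n - 4 + 1 = n - 3 by omega]
    exact h1 a
  rcases h23 with ⟨h2, h3⟩ | ⟨hne, h2, h3⟩
  · refine signs_false hm h5 hp2 φ e1 (key (ε := 1) (k := n - 3) (by omega) fun a _ => ?_)
      (key (ε := -1) (k := n - 2) (by omega) fun a ha => ?_) (Or.inl ⟨rfl, rfl, rfl⟩)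
    · rw [zpow_one, show n - 3 + 1 = n - 2 by omega]
      exact h2 a
    · rw [h3 a ha, zpow_neg_one, inv_inv, Subgroup.coe_inv, inv_mul_cancel]
      exact one_mem _
  · refine signs_false hm h5 hp2 φ e1 (key (ε := -1) (k := n - 3) (by omega) fun a ha => ?_)
      (key (ε := 1) (k := n - 2) (by omega) fun a ha => ?_) (Or.inr ⟨rfl, rfl, rfl, hne⟩)
    · rw [zpow_neg_one, inv_inv, show n - 3 + 1 = n - 2 by omega]
      exact h2 a ha
    · rw [h3 a ha, zpow_one, mul_inv_cancel]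
      exact one_mem _

/-- There is no elementary abelian essential subgroup of order `p³`. -/
theorem no_essential_cube (hS : IsPGroup p S) (hF : F.IsSaturated p) (hm : MaxCl S p n) (h5 : 5 ≤ n)
    (hp2 : p ≠ 2) {E : Subgroup Ω} (hE : F.IsEssential p E) (hel : IsElementaryAbelian p E)
    (hcard : Nat.card E = p ^ 3) : False := by
  have hES : E ≤ S := hE.2.1.1
  haveI := finite_of_le hES
  obtain ⟨N, H, c, l, f, hNdef, hN4, hHc, hHE, hH2, hc1, hl, hgen, hHN, hcNE, hf, hfN, hff, hfc, hfl,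
    hfconj⟩ := exists_data hS hF hm h5 hp2 hE hel hcard
  subst hNdef
  have hcomm : ∀ x ∈ E.subgroupOf S, ∀ y ∈ E.subgroupOf S, x * y = y * x := fun x hx y hy => by
    refine Subtype.ext ?_
    show (x : Ω) * y = y * x
    exact congrArg Subtype.val (hel.1.is_comm.comm (⟨x, hx⟩ : E) ⟨y, hy⟩)
  have hCE : centralizerIn S E ≤ E := hE.1.2 E (isConj_refl F hES)
  have hself : Subgroup.centralizer (E.subgroupOf S : Set S) ≤ E.subgroupOf S := fun g hg =>
    hCE (mem_centralizerIn.2 ⟨g.2, fun x hx =>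
      congrArg Subtype.val (Subgroup.mem_centralizer_iff.1 hg ⟨x, hES hx⟩ hx)⟩)
  have hE3 : Nat.card (E.subgroupOf S) = p ^ 3 :=
    (Nat.card_congr (Subgroup.subgroupOfEquivOfLe hES).toEquiv).trans hcard
  have hpow : ∀ x ∈ H, x ^ p = 1 := fun x hx => Subtype.ext (hel.2 x (hHE hx))
  have hcH : c ∈ H := hgen.le (Subgroup.mem_sup_left (Subgroup.mem_zpowers c))
  have hlH : l ∈ H := hgen.le (Subgroup.mem_sup_right (Subgroup.mem_zpowers l))
  obtain ⟨hAN, hHA, hne, hdisj⟩ :=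
    shape hm h5 hE3 hcomm hself hN4 hHE hH2 hHN hc1 (hpow c hcH) hcNE
  set A := lc S (n - 4) with hAdef
  have hA3 : Nat.card A = p ^ 3 := by
    rw [hAdef, card_lc hm (by omega), show n - 1 - (n - 4) = 3 by omega]
  have hambN : ∀ {x : S}, x ∈ Subgroup.normalizer (E.subgroupOf S : Set S) →
      (x : Ω) ∈ normalizerIn S E := fun hx => (mem_normalizerIn_iff hES).2 hx
  -- the map on the normalizer
  obtain ⟨σ, -, hσ⟩ := exists_mem_autOn
    (hf.res (Q := amb (Subgroup.normalizer (E.subgroupOf S : Set S)))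
      (by rintro _ ⟨x, hx, rfl⟩; exact hambN hx))
    (fun x hx => by
      have h := hfN _ (hambN hx)
      exact ⟨⟨_, h.1⟩, (mem_normalizer_subgroupOf hES).2 h.2, rfl⟩)
  have hσσ : ∀ x, σ (σ x) = x := fun x => Subtype.ext (Subtype.ext (by
    rw [hσ, hσ]; exact hff _ (hambN x.2)))
  have hHeq : ∀ x, x ∈ H → ∃ i j : ℤ, x = c ^ i * l ^ j := fun x hx =>
    exists_exponents (hcomm c (hHE hcH) l (hHE hlH)) (hgen.ge hx)
  have hσH : ∀ x : ↥(Subgroup.normalizer (E.subgroupOf S : Set S)), (x : S) ∈ H → (σ x : S) ∈ H := by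
    intro x hx
    obtain ⟨i, j, e⟩ := hHeq x hx
    have hcN := hAN (hHA hcH)
    have hlN := hAN (hHA hlH)
    rw [show x = ⟨c, hcN⟩ ^ i * ⟨l, hlN⟩ ^ j from Subtype.ext (by simpa using e), map_mul, map_zpow,
      map_zpow, show σ ⟨c, hcN⟩ = ⟨c, hcN⟩⁻¹ from Subtype.ext (Subtype.ext (by rw [hσ, hfc]; rfl)),
      show σ ⟨l, hlN⟩ = ⟨l, hlN⟩ from Subtype.ext (Subtype.ext (by rw [hσ, hfl]))]
    simp only [Subgroup.coe_mul, SubgroupClass.coe_zpow, Subgroup.coe_inv]
    exact mul_mem (zpow_mem (inv_mem hcH) i) (zpow_mem hlH j)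
  have hfA : ∀ a ∈ A, f (a : Ω) ∈ amb A := by
    obtain ⟨A', hA'⟩ : ∃ A', A' = ((A.subgroupOf _).map σ.toMonoidHom).map
      (Subgroup.normalizer (E.subgroupOf S : Set S)).subtype := ⟨_, rfl⟩
    have hA'N : A' ≤ Subgroup.normalizer (E.subgroupOf S : Set S) := hA' ▸ Subgroup.map_subtype_le _
    have hA'mem : ∀ {y}, y ∈ A' → f (y : Ω) ∈ amb A := fun {y} hy => by
      rw [hA'] at hy
      obtain ⟨_, ⟨a, ha, rfl⟩, rfl⟩ := hy
      show f (((σ a : _) : S) : Ω) ∈ _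
      rw [← hσ, hσσ]
      exact coe_mem_amb.2 ha
    by_cases he : A' = A
    · intro a ha
      exact hA'mem (he.ge ha)
    exfalso
    have hA'3 : Nat.card A' = p ^ 3 := by
      rw [hA', Subgroup.card_map_of_injective (Subgroup.subtype_injective _),
        Subgroup.card_map_of_injective σ.injective,
        Nat.card_congr (Subgroup.subgroupOfEquivOfLe hAN).toEquiv, hA3]
    have hHA' : H ≤ A' := fun x hx => by
      rw [hA']
      refine ⟨⟨x, hAN (hHA hx)⟩, ⟨σ ⟨x, hAN (hHA hx)⟩, ?_, hσσ _⟩, rfl⟩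
      exact Subgroup.mem_subgroupOf.2 (hHA (hσH _ hx))
    obtain ⟨u, hu⟩ := exists_conj hm hE3 hcomm hN4 h5 hAN hne hA3 hH2 hHE hHA hA'N hA'3 hHA' he hHc
    have hmap : IsMap F E (fun x => f ((u : Ω) * x * (u : Ω)⁻¹)) :=
      (isMap_conj F hES u.2).comp hf fun x hx => hambN (hA'N (hu ⟨x, hES hx⟩ hx))
    haveI := finite_of_le (amb_le A)
    have himg : fimg (fun x => f ((u : Ω) * x * (u : Ω)⁻¹)) E = amb A := by
      refine Subgroup.eq_of_le_of_card_ge (fimg_le fun x hx => hA'mem (hu ⟨x, hES hx⟩ hx)) ?_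
      rw [hmap.card_fimg, hcard, Subgroup.card_map_of_injective S.subtype_injective, hA3]
    have hle := hE.2.1.2 (amb A) (himg ▸ hmap.isConj)
    rw [normalizerIn_amb, hm.card,
      show normalizerIn S E = amb (Subgroup.normalizer (E.subgroupOf S : Set S)) from
        le_antisymm (fun x hx => ⟨⟨x, hx.1⟩, (mem_normalizer_subgroupOf hES).2 hx.2, rfl⟩)
          (by rintro _ ⟨x, hx, rfl⟩; exact hambN hx),
      Subgroup.card_map_of_injective S.subtype_injective, hN4] at hle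
    have := (Nat.pow_le_pow_iff_right hp.out.one_lt).1 hle
    omega
  obtain ⟨α, hα, hαf⟩ := exists_mem_autOn
    (hf.res (Q := amb A) (by rintro _ ⟨x, hx, rfl⟩; exact hambN (hAN hx))) hfA
  have hαα : ∀ a, α (α a) = a := fun a => Subtype.ext (Subtype.ext (by
    rw [hαf, hαf]; exact hff _ (hambN (hAN a.2))))
  obtain ⟨cA, hcA⟩ : ∃ cA : A, cA = ⟨c, hHA hcH⟩ := ⟨_, rfl⟩
  obtain ⟨lA, hlA⟩ : ∃ lA : A, lA = ⟨l, hHA hlH⟩ := ⟨_, rfl⟩
  have hαc : α cA = cA⁻¹ := Subtype.ext (Subtype.ext (by rw [hαf, hcA, hfc]; rfl))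
  have hαl : α lA = lA := Subtype.ext (Subtype.ext (by rw [hαf, hlA, hfl]))
  have hcl : Commute cA lA := Subtype.ext (by
    rw [hcA, hlA]; exact hcomm c (hHE hcH) l (hHE hlH))
  have hexpA : ∀ x : A, (x : S) ∈ H → ∃ i j : ℤ, x = cA ^ i * lA ^ j := fun x hx => by
    obtain ⟨i, j, e⟩ := hHeq x hx
    exact ⟨i, j, Subtype.ext (by rw [hcA, hlA]; simpa using e)⟩
  have hαH : ∀ i j : ℤ, α (cA ^ i * lA ^ j) = (cA ^ i)⁻¹ * lA ^ j := fun i j => by
    rw [map_mul, map_zpow, map_zpow, hαc, hαl, inv_zpow]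
  have hAE : ∀ x ∈ A, x ∈ E.subgroupOf S → x ∈ H := by
    intro x hx hxE
    have heq : H = A ⊓ E.subgroupOf S := by
      refine Subgroup.eq_of_le_of_card_ge (le_inf hHA hHE) ?_
      have hlt : Nat.card ↥(A ⊓ E.subgroupOf S) < p ^ 3 := by
        rw [← hE3]
        refine lt_of_le_of_ne (Subgroup.card_le_of_le inf_le_right) fun e => hne ?_
        have h1 := Subgroup.eq_of_le_of_card_ge (inf_le_right (a := A)) e.ge
        exact (Subgroup.eq_of_le_of_card_ge (h1 ▸ inf_le_left) (by rw [hA3, hE3])).symm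
      obtain ⟨i, -, hi⟩ := (Nat.dvd_prime_pow hp.out).1
        (hm.card ▸ (A ⊓ E.subgroupOf S).card_subgroup_dvd_card)
      rw [hi] at hlt
      have := (Nat.pow_lt_pow_iff_right hp.out.one_lt).1 hlt
      rw [hH2, hi]
      exact Nat.pow_le_pow_right hp.out.pos (by omega)
    exact heq.ge ⟨hx, hxE⟩
  -- `α` acts trivially on `A / H`
  have hd : ∀ a : A, ((α a * a⁻¹ : A) : S) ∈ H := fun a => by
    refine hAE _ (α a * a⁻¹).2 (hself (Subgroup.mem_centralizer_iff.2 fun x hx => Subtype.ext ?_))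
    have e := hfconj _ (hambN (hAN a.2)) (((a : S) : Ω)⁻¹ * x * ((a : S) : Ω))
      ((Subgroup.mem_normalizer_iff''.1 ((mem_normalizer_subgroupOf hES).1 (hAN a.2)) _).1 hx)
    rw [← hαf] at e
    simp only [Subgroup.coe_mul, Subgroup.coe_inv]
    calc (x : Ω) * ((α a : S) * ((a : S) : Ω)⁻¹)
        = ((a : S) : Ω) * (((a : S) : Ω)⁻¹ * x * ((a : S) : Ω)) * ((a : S) : Ω)⁻¹ *
            ((α a : S) * ((a : S) : Ω)⁻¹) := by group
      _ = (α a : S) * (((a : S) : Ω)⁻¹ * x * ((a : S) : Ω)) * ((α a : S) : Ω)⁻¹ *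
            ((α a : S) * ((a : S) : Ω)⁻¹) := by rw [e]
      _ = (α a : S) * ((a : S) : Ω)⁻¹ * x := by group
  by_cases hZc : lc S (n - 2) = Subgroup.zpowers c
  · have hd2 : ∀ a, ((α a * a⁻¹ : A) : S) ∈ lc S (n - 2) := fun a => by
      obtain ⟨i, j, e⟩ := hexpA _ (hd a)
      have e2 : α (α a * a⁻¹) = (α a * a⁻¹)⁻¹ := by
        rw [map_mul, map_inv, hαα, mul_inv_rev, inv_inv]
      rw [e, hαH, mul_inv_rev, ((hcl.zpow_zpow i j).inv_inv).symm.eq, mul_right_inj] at e2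
      have e3 : lA ^ (2 * j) = 1 := by
        rw [two_mul, zpow_add]
        nth_rw 2 [e2]
        exact mul_inv_cancel _
      have e4 : l ^ j = 1 := dvd_of_two_mul hp2 (hpow l hlH) (U := Subgroup.zpowers c) hl (by
        have := congrArg Subtype.val e3
        rw [SubgroupClass.coe_zpow, hlA] at this
        rw [show l ^ (2 * j) = 1 from this]
        exact one_mem _)
      rw [e, hZc, hcA, hlA]
      simp only [Subgroup.coe_mul, SubgroupClass.coe_zpow, e4, mul_one]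
      exact ⟨i, rfl⟩
    refine signs_false_layers hS hF hm h5 hp2 hα (fun a => lc_anti (by omega) (hd2 a))
      (Or.inl ⟨hd2, fun a ha => ?_⟩)
    rw [hZc] at ha
    obtain ⟨i, hi⟩ := ha
    rw [show a = cA ^ i from Subtype.ext (by rw [hcA]; simpa using hi.symm), map_zpow, hαc, inv_zpow]
  obtain ⟨hHZ, hexc⟩ := hdisj.resolve_left hZc
  have hZcard : Nat.card (lc S (n - 2)) = p := by
    rw [card_lc hm (by omega), show n - 1 - (n - 2) = 1 by omega, pow_one]
  obtain ⟨P₀, hP₀, hP₀1⟩ : ∃ P ∈ lc S (n - 2), P ≠ 1 := by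
    by_contra h
    push Not at h
    have : lc S (n - 2) = ⊥ := (Subgroup.eq_bot_iff_forall _).2 h
    rw [this, Subgroup.card_bot] at hZcard
    exact hp.out.ne_one hZcard.symm
  have hP₀H : P₀ ∈ H := hHZ ▸ lc_anti (by omega) hP₀
  have hgenZ : ∀ {x : S}, x ∈ lc S (n - 2) → x ≠ 1 → Subgroup.zpowers x = lc S (n - 2) := fun {x} hx hx1 =>
    Subgroup.eq_of_le_of_card_ge (Subgroup.zpowers_le.2 hx) (by
      rw [hZcard, Nat.card_zpowers, orderOf_eq_prime (hpow x (hHZ ▸ lc_anti (by omega) hx)) hx1])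
  obtain ⟨P, hP⟩ : ∃ P : A, P = ⟨P₀, hHA hP₀H⟩ := ⟨_, rfl⟩
  have hPmem : (P : S) ∈ lc S (n - 2) := by rw [hP]; exact hP₀
  have hZpow : ∀ a : A, (a : S) ∈ lc S (n - 2) → ∃ i : ℤ, a = P ^ i := fun a ha => by
    rw [← hgenZ hP₀ hP₀1] at ha
    obtain ⟨i, hi⟩ := ha
    exact ⟨i, Subtype.ext (by rw [hP]; simpa using hi.symm)⟩
  by_cases hPZ : (α P : S) ∈ lc S (n - 2)
  · obtain ⟨i, j, e⟩ := hexpA P (by rw [hP]; exact hP₀H)
    have hc2 : c ^ (2 * i) ∈ lc S (n - 2) := by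
      have := mul_mem hPmem (inv_mem hPZ)
      rw [e, hαH] at this
      rw [hcA, hlA] at this
      simp only [Subgroup.coe_mul, Subgroup.coe_inv, SubgroupClass.coe_zpow, mul_inv_rev,
        inv_inv] at this
      rw [two_mul, zpow_add]
      simpa [mul_assoc] using this
    have hcZ : c ∉ lc S (n - 2) := fun h => hZc (hgenZ h hc1).symm
    have hci := dvd_of_two_mul hp2 (hpow c hcH) hcZ hc2
    have hPl : P = lA ^ j := by
      rw [e, show cA ^ i = 1 from Subtype.ext (by rw [hcA]; simpa using hci), one_mul]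
    have hfix : α P = P := by rw [hPl, map_zpow, hαl]
    have hlZ : l ∈ lc S (n - 2) := by
      have h1 : lc S (n - 2) ≤ Subgroup.zpowers l := by
        rw [← hgenZ hP₀ hP₀1, Subgroup.zpowers_le]
        refine ⟨j, ?_⟩
        have := congrArg Subtype.val hPl
        rw [hP, SubgroupClass.coe_zpow, hlA] at this
        exact this.symm
      refine (Subgroup.eq_of_le_of_card_ge h1 ?_).ge (Subgroup.mem_zpowers l)
      rw [hZcard, Nat.card_zpowers]
      exact Nat.le_of_dvd hp.out.pos (orderOf_dvd_of_pow_eq_one (hpow l hlH))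
    refine signs_false_layers hS hF hm h5 hp2 hα (fun a => hHZ ▸ hd a)
      (Or.inr ⟨hexc, fun a ha => ?_, fun a ha => ?_⟩)
    · obtain ⟨i', j', rfl⟩ := hexpA a (hHZ ▸ ha)
      rw [hαH, (hcl.zpow_zpow i' j').eq, mul_assoc, ← mul_assoc (lA ^ j'), ← zpow_add,
        ← ((hcl.zpow_zpow (i') (j' + j'))).eq, inv_mul_cancel_left, hlA, SubgroupClass.coe_zpow]
      exact zpow_mem hlZ _
    · obtain ⟨k, rfl⟩ := hZpow a ha
      rw [map_zpow, hfix]
  -- a product of conjugates fixes the centre and inverts its complement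
  obtain ⟨Q, hQ⟩ : ∃ Q, Q = α P := ⟨_, rfl⟩
  have hQH : (Q : S) ∈ H := by
    obtain ⟨i, j, e⟩ := hexpA P (by rw [hP]; exact hP₀H)
    rw [hQ, e, hαH, hcA, hlA]
    simp only [Subgroup.coe_mul, Subgroup.coe_inv, SubgroupClass.coe_zpow]
    exact mul_mem (inv_mem (zpow_mem hcH i)) (zpow_mem hlH j)
  have hPQ : Commute P Q := Subtype.ext
    (hcomm (P : S) (hHE (by rw [hP]; exact hP₀H)) Q (hHE hQH))
  have hexpQ : ∀ a : A, (a : S) ∈ H → ∃ i j : ℤ, a = P ^ i * Q ^ j := by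
    intro a ha
    have hle : Subgroup.zpowers (P : S) ⊔ Subgroup.zpowers (Q : S) = H := by
      refine Subgroup.eq_of_le_of_card_ge (sup_le (Subgroup.zpowers_le.2 (by rw [hP]; exact hP₀H))
        (Subgroup.zpowers_le.2 hQH)) ?_
      have hlt : Nat.card (lc S (n - 2)) <
          Nat.card ↥(Subgroup.zpowers (P : S) ⊔ Subgroup.zpowers (Q : S)) := by
        have h1 : lc S (n - 2) ≤ Subgroup.zpowers (P : S) ⊔ Subgroup.zpowers (Q : S) := by
          rw [← hgenZ hP₀ hP₀1, hP]; exact le_sup_left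
        refine lt_of_le_of_ne (Subgroup.card_le_of_le h1) fun e => hPZ ?_
        rw [← hQ]
        exact (Subgroup.eq_of_le_of_card_ge h1 e.ge).ge
          (Subgroup.mem_sup_right (Subgroup.mem_zpowers _))
      obtain ⟨i, -, hi⟩ := (Nat.dvd_prime_pow hp.out).1
        (hm.card ▸ (Subgroup.zpowers (P : S) ⊔ Subgroup.zpowers (Q : S)).card_subgroup_dvd_card)
      rw [hZcard, hi] at hlt
      rw [hH2, hi]
      have : p ^ 1 < p ^ i := by rwa [pow_one]
      exact Nat.pow_le_pow_right hp.out.pos ((Nat.pow_lt_pow_iff_right hp.out.one_lt).1 this)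
    obtain ⟨i, j, e⟩ := exists_exponents (hPQ.map A.subtype) (hle.ge ha)
    exact ⟨i, j, Subtype.ext (by simpa using e)⟩
  obtain ⟨s, hs⟩ : ∃ s : S, ⁅s, (Q : S)⁆ ≠ 1 := by
    by_contra h
    push Not at h
    have hZ2 : lc S (n - 3) ≤ Subgroup.center S := by
      rw [← hHZ]
      intro x hx
      obtain ⟨i, j, e⟩ := hexpQ ⟨x, hHA hx⟩ hx
      rw [show x = (P : S) ^ i * (Q : S) ^ j by simpa using congrArg Subtype.val e]
      refine mul_mem (zpow_mem (lc_two_le_center hm hPmem) i) (zpow_mem ?_ j)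
      exact Subgroup.mem_center_iff.2 fun g => commutatorElement_eq_one_iff_mul_comm.1 (h g)
    have hbot : lc S (n - 2) ≤ ⊥ := by
      rw [show n - 2 = n - 3 + 1 by omega]
      show Subgroup.lowerCentralSeries _ (n - 3 + 1) ≤ _
      rw [Subgroup.lowerCentralSeries_succ, Subgroup.commutator_le]
      exact fun a ha b _ => Subgroup.mem_bot.2 (commutatorElement_eq_one_iff_mul_comm.2
        (Subgroup.mem_center_iff.1 (hZ2 ha) b).symm)
    exact hP₀1 (Subgroup.mem_bot.1 (hbot hP₀))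
  obtain ⟨κ, hκ⟩ : ∃ κ : MulAut A, κ = MulAut.conjNormal s := ⟨_, rfl⟩
  have hκB : κ ∈ autOn F A := hκ ▸ conjNormal_le ⟨s, rfl⟩
  have hκP : κ P = P := Subtype.ext (by
    rw [hκ, MulAut.conjNormal_apply, Subgroup.mem_center_iff.1 (lc_two_le_center hm hPmem) s,
      mul_inv_cancel_right])
  obtain ⟨m, hmQ, hmd⟩ : ∃ m : ℤ, κ Q = P ^ m * Q ∧ ¬ (p : ℤ) ∣ m := by
    have h1 : ⁅s, (Q : S)⁆ ∈ lc S (n - 2) := by
      have := lc_step (y := s) (hHZ ▸ hQH)
      rw [show n - 3 + 1 = n - 2 by omega] at this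
      rw [← commutatorElement_inv]
      exact inv_mem this
    rw [← hgenZ hP₀ hP₀1] at h1
    obtain ⟨m, hm'⟩ := h1
    refine ⟨m, Subtype.ext ?_, fun hd => hs ?_⟩
    · rw [hκ, MulAut.conjNormal_apply, hP, Subgroup.coe_mul, SubgroupClass.coe_zpow]
      show _ = P₀ ^ m * (Q : S)
      rw [show P₀ ^ m = ⁅s, (Q : S)⁆ from hm', commutatorElement_def, inv_mul_cancel_right]
    · obtain ⟨k, rfl⟩ := hd
      rw [← show P₀ ^ ((p : ℤ) * k) = ⁅s, (Q : S)⁆ from hm', zpow_mul, zpow_natCast, hpow P₀ hP₀H,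
        one_zpow]
  obtain ⟨u, huR, huP, huQ⟩ : ∃ u ∈ (MulAut.conjNormal (H := A)).range,
      u P = P ∧ u Q = P * Q := by
    obtain ⟨k, b, hk⟩ : IsCoprime m (p : ℤ) :=
      ((Nat.prime_iff_prime_int.1 hp.out).coprime_iff_not_dvd.2 hmd).symm
    refine ⟨κ ^ k, Subgroup.zpow_mem _ (hκ ▸ ⟨s, rfl⟩) k, ?_, ?_⟩
    · have hfixsub : ∀ g ∈ Subgroup.zpowers κ, g P = P :=
        Subgroup.zpowers_le (H := MulAction.stabilizer (MulAut A) P) |>.2 hκP
      exact hfixsub _ ⟨k, rfl⟩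
    · have hiter : ∀ i : ℤ, (κ ^ i) Q = P ^ (m * i) * Q := by
        intro i
        induction i with
        | zero => simp
        | succ i ih =>
          rw [add_comm, zpow_add, zpow_one, MulAut.mul_apply, ih, map_mul, map_zpow, hκP, hmQ,
            ← mul_assoc, ← zpow_add, mul_add, mul_one, add_comm]
        | pred i ih =>
          apply κ.injective
          rw [← MulAut.mul_apply, ← zpow_one_add, add_sub_cancel, ih, map_mul, map_zpow, hκP, hmQ,
            ← mul_assoc, ← zpow_add]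
          congr 2
          ring
      rw [hiter, show m * k = 1 + (p : ℤ) * (-b) by linarith, zpow_add, zpow_one, zpow_mul,
        zpow_natCast, show P ^ p = 1 from Subtype.ext (by rw [hP]; simpa using hpow P₀ hP₀H),
        one_zpow, mul_one]
  have huB : u ∈ autOn F A := conjNormal_le huR
  have huPi : u⁻¹ P = P := by
    apply u.injective
    rw [MulAut.apply_inv_self, huP]
  have huQi : u⁻¹ Q = P⁻¹ * Q := by
    apply u.injective
    rw [MulAut.apply_inv_self, map_mul, map_inv, huP, huQ, inv_mul_cancel_left]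
  have hαQ : α Q = P := by rw [hQ, hαα]
  obtain ⟨γ, hγ⟩ : ∃ γ, γ = α * u⁻¹ * α * u * α * u⁻¹ := ⟨_, rfl⟩
  have hαP : α P = Q := hQ.symm
  have hγP : γ P = P := by
    simp only [hγ, MulAut.mul_apply, huPi, hαP, huQ, map_mul, hαQ, huQi, map_inv]
    rw [mul_assoc, hPQ.eq, inv_mul_cancel_left]
  have hγQ : γ Q = Q⁻¹ := by
    simp only [hγ, MulAut.mul_apply, huQi, map_mul, map_inv, hαP, hαQ, huQ, huP]
    simp only [mul_inv_rev, mul_assoc, inv_mul_cancel, inv_mul_cancel_left, mul_one, map_inv, huPi, hαP, hαQ]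
  -- trivial on `A / H`
  let St : Subgroup (MulAut A) :=
    { carrier := {g | ∀ a : A, ((g a * a⁻¹ : A) : S) ∈ H}
      one_mem' := fun a => by simp
      mul_mem' := fun {g g'} hg hg' a => by
        have := mul_mem (hg (g' a)) (hg' a)
        rw [← Subgroup.coe_mul, mul_assoc, inv_mul_cancel_left] at this
        exact this
      inv_mem' := fun {g} hg a => by
        have := inv_mem (hg (g⁻¹ a))
        rwa [MulAut.apply_inv_self, ← Subgroup.coe_inv, mul_inv_rev, inv_inv] at this }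
  have hconjSt : (MulAut.conjNormal (H := A)).range ≤ St := by
    rintro _ ⟨g, rfl⟩ a
    rw [Subgroup.coe_mul, MulAut.conjNormal_apply, Subgroup.coe_inv, hHZ]
    have h := inv_mem (lc_step (y := g) a.2)
    rw [show n - 4 + 1 = n - 3 by omega, commutatorElement_inv, commutatorElement_def] at h
    exact h
  have huSt : u ∈ St := hconjSt huR
  have hαSt : α ∈ St := hd
  have hγSt : γ ∈ St := by
    rw [hγ]
    exact mul_mem (mul_mem (mul_mem (mul_mem (mul_mem hαSt (inv_mem huSt)) hαSt) huSt) hαSt)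
      (inv_mem huSt)
  have hγB : γ ∈ autOn F A := by
    rw [hγ]
    exact mul_mem (mul_mem (mul_mem (mul_mem (mul_mem hα (Subgroup.inv_mem _ huB)) hα) huB) hα)
      (Subgroup.inv_mem _ huB)
  refine signs_false_layers hS hF hm h5 hp2 hγB (fun a => hHZ ▸ hγSt a)
    (Or.inr ⟨hexc, fun a ha => ?_, fun a ha => ?_⟩)
  · obtain ⟨i, j, rfl⟩ := hexpQ a (hHZ ▸ ha)
    rw [map_mul, map_zpow, map_zpow, hγP, hγQ, inv_zpow, (hPQ.zpow_zpow i j).eq, mul_assoc,
      inv_mul_cancel_left, ← zpow_add, SubgroupClass.coe_zpow]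
    exact zpow_mem hPmem _
  · obtain ⟨k, rfl⟩ := hZpow a ha
    rw [map_zpow, hγP]


end Cfsg.Agent.Fus.MCCube
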