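import Mathlib
import Cfsg.Agent.Lib.Fus.MaxClassCentraliser

/-!
`3`-groups of maximal class with a pearl element: for order at least `3⁵` every subgroup is
two-generated; a group of order `81` without this property is `C₃ ≀ C₃`.
-/

set_option autoImplicit false
set_option linter.unusedSectionVars false
set_option linter.style.haveILetI false

namespace Cfsg.Agent.Fus.MC

open scoped commutatorElement Pointwise

variable {G : Type*} [Group G] [Finite G]

/-- A finite `p`-group whose Frattini subgroup has index at most `p ^ 2` is two-generated. -/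
theorem two_gen {p : ℕ} [hp : Fact p.Prime] (hG : IsPGroup p G)
    (h : (frattini G).index ≤ p ^ 2) :
    ∃ T : Finset G, T.card ≤ 2 ∧ Subgroup.closure (T : Set G) = ⊤ := by
  classical
  obtain ⟨a, ha⟩ : ∃ a : G, frattini G = ⊤ ∨ a ∉ frattini G := by
    by_cases ht : frattini G = ⊤
    · exact ⟨1, Or.inl ht⟩
    · by_contra hh
      push Not at hh
      exact ht (eq_top_iff.2 fun a _ => (hh a).2)
  rcases ha with ht | ha
  · exact ⟨∅, by simp, frattini_nongenerating (by rw [ht, sup_top_eq])⟩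
  by_cases hb : frattini G ⊔ Subgroup.zpowers a = ⊤
  · refine ⟨{a}, by simp, frattini_nongenerating ?_⟩
    rw [Finset.coe_singleton, ← Subgroup.zpowers_eq_closure, sup_comm, hb]
  obtain ⟨b, hb⟩ : ∃ b, b ∉ frattini G ⊔ Subgroup.zpowers a := by
    by_contra hh
    push Not at hh
    exact hb (eq_top_iff.2 fun y _ => hh y)
  refine ⟨{a, b}, Finset.card_le_two, frattini_nongenerating ?_⟩
  set U := frattini G ⊔ Subgroup.zpowers a
  set K := Subgroup.closure ((({a, b} : Finset G)) : Set G) ⊔ frattini G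
  have hUK : U ≤ K := sup_le le_sup_right (Subgroup.zpowers_le.2
    (Subgroup.mem_sup_left (Subgroup.subset_closure (by simp))))
  have hlt1 : frattini G < U := lt_of_le_of_ne le_sup_left fun e =>
    ha (e ▸ Subgroup.mem_sup_right (Subgroup.mem_zpowers a))
  have hlt2 : U < K := lt_of_le_of_ne hUK fun e =>
    hb (e ▸ Subgroup.mem_sup_left (Subgroup.subset_closure (by simp)))
  obtain ⟨n, hn⟩ := IsPGroup.iff_card.1 hG
  have hc : ∀ M : Subgroup G, ∃ e ≤ n, M.index = p ^ e := fun M =>
    (Nat.dvd_prime_pow hp.out).1 (hn ▸ M.index_dvd_card)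
  obtain ⟨e1, -, he1⟩ := hc (frattini G)
  obtain ⟨e2, -, he2⟩ := hc U
  obtain ⟨e3, -, he3⟩ := hc K
  have i1 := Subgroup.index_strictAnti hlt1
  have i2 := Subgroup.index_strictAnti hlt2
  rw [he1, he2] at i1
  rw [he2, he3] at i2
  rw [he1] at h
  have := (Nat.pow_lt_pow_iff_right hp.out.one_lt).1 i1
  have := (Nat.pow_lt_pow_iff_right hp.out.one_lt).1 i2
  have := (Nat.pow_le_pow_iff_right hp.out.one_lt).1 h
  refine Subgroup.index_eq_one.1 ?_
  rw [he3, show e3 = 0 by omega, pow_zero]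

/-- A subgroup with a two-generated underlying group is two-generated. -/
theorem exists_gen_of_top {H : Subgroup G}
    (h : ∃ T : Finset H, T.card ≤ 2 ∧ Subgroup.closure (T : Set H) = ⊤) :
    ∃ T : Finset G, T.card ≤ 2 ∧ Subgroup.closure (T : Set G) = H := by
  classical
  obtain ⟨T, h1, h2⟩ := h
  refine ⟨T.image H.subtype, Finset.card_image_le.trans h1, ?_⟩
  rw [Finset.coe_image, ← MonoidHom.map_closure, h2, ← MonoidHom.range_eq_map, Subgroup.range_subtype]

section depth

variable {p n : ℕ} [hp : Fact p.Prime] {x : G} (hx : Pearl G p n x)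
include hx

/-- Powers of an element reach every later depth in its residue class. -/
theorem pow_depth {z : G} {k₀ k : ℕ} (h1 : 1 ≤ k₀) (hz : z ∈ lc G k₀) (hz' : z ∉ lc G (k₀ + 1))
    (hle : k₀ ≤ k) (hmod : k % (p - 1) = k₀ % (p - 1)) (hk : k + 2 ≤ n) :
    ∃ i : ℕ, z ^ i ∈ lc G k ∧ z ^ i ∉ lc G (k + 1) := by
  obtain ⟨j, hj⟩ : ∃ j, k = k₀ + j * (p - 1) := by
    obtain ⟨j, hj⟩ := (Nat.modEq_iff_dvd' hle).1 hmod.symm
    exact ⟨j, by rw [mul_comm]; omega⟩
  have key : ∀ i, i ≤ j → z ^ p ^ i ∈ lc G (k₀ + i * (p - 1)) ∧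
      z ^ p ^ i ∉ lc G (k₀ + i * (p - 1) + 1) := by
    intro i
    induction i with
    | zero => intro _; simpa using ⟨hz, hz'⟩
    | succ i ihi =>
      intro hij
      obtain ⟨hm, hm'⟩ := ihi (by omega)
      have hmul : (i + 1) * (p - 1) ≤ j * (p - 1) := Nat.mul_le_mul_right _ hij
      rw [Nat.add_mul, one_mul] at hmul
      rw [pow_succ p i, pow_mul,
        show k₀ + (i + 1) * (p - 1) = k₀ + i * (p - 1) + (p - 1) by ring]
      exact ⟨pow_mem_lc hx (by omega) hm, pow_not_mem hx (by omega) hm hm' (by omega)⟩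
  exact ⟨p ^ j, hj ▸ key j le_rfl⟩

/-- A subgroup meeting every depth of `K` contains `K`. -/
theorem le_of_depths {C K : Subgroup G} (hK : K ≤ lc G 1) (hCK : C ⊓ lc G 1 ≤ K)
    (h : ∀ k, 1 ≤ k → k + 2 ≤ n → ∀ y ∈ K, y ∈ lc G k → y ∉ lc G (k + 1) →
      ∃ z ∈ C, z ∈ lc G k ∧ z ∉ lc G (k + 1)) : K ≤ C := by
  have main : ∀ r k, n - 1 ≤ k + r → 1 ≤ k → ∀ y ∈ K, y ∈ lc G k → y ∈ C := by
    intro r
    induction r with
    | zero =>
      intro k hk _ y _ hy
      rw [lc_eq_bot hx (by omega), Subgroup.mem_bot] at hy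
      exact hy ▸ one_mem _
    | succ r ih =>
      intro k hk h1 y hyK hy
      by_cases hy' : y ∈ lc G (k + 1)
      · exact ih (k + 1) (by omega) (by omega) y hyK hy'
      have hkn : k + 2 ≤ n := by
        by_contra hc
        rw [lc_eq_bot hx (by omega), Subgroup.mem_bot] at hy
        exact hy' (hy ▸ one_mem _)
      obtain ⟨z, hzC, hzm, hzn⟩ := h k h1 hkn y hyK hy hy'
      have hy2 : y ∈ lc G (k + 1) ⊔ Subgroup.zpowers z := by rw [sup_zpowers hx h1 hzm hzn]; exact hy
      obtain ⟨a, ha, b, hb, rfl⟩ := Subgroup.mem_sup_of_normal_left.1 hy2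
      have hbC : b ∈ C := Subgroup.zpowers_le.2 hzC hb
      have hbK : b ∈ K := hCK ⟨hbC, lc_anti h1 (Subgroup.zpowers_le.2 hzm hb)⟩
      have haK : a ∈ K := by
        have := mul_mem hyK (inv_mem hbK)
        simpa using this
      exact mul_mem (ih (k + 1) (by omega) (by omega) a haK ha) hbC
  exact fun y hy => main (n - 1) 1 (by omega) le_rfl y hy (hK hy)

end depth

section three

variable {n : ℕ} [hp : Fact (Nat.Prime 3)] {x : G} (hx : Pearl G 3 n x)
include hx

theorem Ck_one_le (hn : 5 ≤ n) : ∀ k, 1 ≤ k → Ck G 1 ≤ Ck G k := by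
  intro k
  induction k using Nat.strong_induction_on with
  | _ k ih =>
  intro h1
  rcases (by omega : k = 1 ∨ k = 2 ∨ 3 ≤ k) with h | h | h
  · exact h ▸ le_rfl
  · exact h ▸ Ck_one_le_two hx
  · refine (ih (k - 2) (by omega) (by omega)).trans ?_
    have := Ck_le_shift hx (k := k - 2) (by omega) (by omega)
    rwa [show k - 2 + (3 - 1) = k by omega] at this

theorem Ck_le_one {k : ℕ} (hn : 5 ≤ n) (h1 : 1 ≤ k) (h3 : k + 3 ≤ n) : Ck G k ≤ Ck G 1 := by
  obtain ⟨g, hg, hg'⟩ := exists_gam hx (by omega)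
  rw [Ck_eq hx h1 h3 (Ck_one_le hx hn k h1 hg) hg', Ck_eq hx le_rfl (by omega) hg hg']

/-- Outside the derived group the two-step centraliser cubes into depth `2`. -/
theorem cube_depth (hn : 5 ≤ n) {h : G} (hh : h ∈ Ck G 1) (hh' : h ∉ lc G 1) :
    h ^ 3 ∈ lc G 2 ∧ h ^ 3 ∉ lc G 3 := by
  set π := QuotientGroup.mk' (lc G 3) with hπ
  have hπ1 : ∀ {a}, π a = 1 ↔ a ∈ lc G 3 := fun {a} => QuotientGroup.eq_one_iff a
  set d := dl x h with hd
  set e := dl x d with he
  have hd1 : d ∈ lc G 1 := dl_mem (k := 0) (by simp)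
  have he2 : e ∈ lc G 2 := dl_mem hd1
  have hxC : x ∉ Ck G 1 := not_mem_Ck hx le_rfl (by omega)
  have hhX : h ∉ lc G 1 ⊔ Subgroup.zpowers x := by
    intro hm
    have hne : lc G 1 ⊔ Subgroup.zpowers x ≠ ⊤ := fun htop => by
      have h2 := lc_one_le_of_sup htop (IsPGroup.of_card hx.card)
      have h3 : Nat.card (Subgroup.zpowers x) = 3 ^ n := by rw [h2, Subgroup.card_top, hx.card]
      rw [Nat.card_zpowers, orderOf_eq_prime hx.pow (ne_one hx)] at h3
      have := Nat.pow_lt_pow_right (show 1 < 3 by norm_num) (show 1 < n by omega)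
      omega
    have hx' : x ∈ lc G 1 ⊔ Subgroup.zpowers x := Subgroup.mem_sup_right (Subgroup.mem_zpowers x)
    rw [eq_sup_of_ne_top hx le_sup_left hne hm hh', ← Ck_eq hx le_rfl (by omega) hh hh'] at hx'
    exact hxC hx'
  have hd2 : d ∉ lc G 2 := by
    rw [hd, show dl x h = ⁅h⁻¹, x⁆ by simp [dl, commutatorElement_def, mul_assoc]]
    exact comm_not_mem_two hx fun hm => hhX (by simpa using inv_mem hm)
  have he3 : e ∉ lc G 3 := by
    rw [he, show dl x d = ⁅d⁻¹, x⁆ by simp [dl, commutatorElement_def, mul_assoc]]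
    exact comm_not_mem hx le_rfl (by omega) (inv_mem hd1) (fun hm => hd2 (by simpa using inv_mem hm))
  have hcd : Commute (π h) (π d) := by
    show π h * π d = π d * π h
    rw [← commutatorElement_eq_one_iff_mul_comm, ← map_commutatorElement, hπ1, ← commutatorElement_inv]
    exact inv_mem (mem_Ck.1 hh d hd1)
  have hce : ∀ w, Commute (π e) (π w) := fun w => by
    show π e * π w = π w * π e
    rw [← commutatorElement_eq_one_iff_mul_comm, ← map_commutatorElement, hπ1]
    exact lc_step he2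
  have hd3 : π d ^ 3 = 1 := by
    rw [← map_pow, hπ1]
    exact pow_mem_lc hx le_rfl hd1
  have hform : π ((h * x) ^ 3) = π (h ^ 3) * π e := by
    have e1 : x * h * x⁻¹ = h * d := by simp [hd, dl]
    have e2 : x * d * x⁻¹ = d * e := by simp [he, dl]
    have e3 : (h * x) ^ 3 = h * (x * h * x⁻¹) * ((x * (x * h * x⁻¹) * x⁻¹)) * x ^ 3 := by
      simp only [pow_succ, pow_zero, one_mul]; group
    have e4 : x * (x * h * x⁻¹) * x⁻¹ = h * d * (d * e) := by
      rw [e1, show x * (h * d) * x⁻¹ = (x * h * x⁻¹) * (x * d * x⁻¹) by group, e1, e2]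
    rw [e3, e4, e1, hx.pow, mul_one]
    simp only [map_mul, map_pow]
    calc π h * (π h * π d) * (π h * π d * (π d * π e))
        = π h * π h * (π d * π h) * π d * π d * π e := by group
      _ = π h * π h * (π h * π d) * π d * π d * π e := by rw [hcd.eq]
      _ = π h ^ 3 * π d ^ 3 * π e := by simp only [pow_succ, pow_zero, one_mul]; group
      _ = π h ^ 3 * π e := by rw [hd3, mul_one]
  have hy : h * x ∉ Ck G 1 := fun hm => hxC (by simpa using mul_mem (inv_mem hh) hm)
  have hy3_1 : (h * x) ^ 3 ∈ lc G 1 := by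
    have hP : IsPGroup 3 G := IsPGroup.of_card hx.card
    rw [lc, Subgroup.top_lowerCentralSeries_one]
    refine Transfer.MaxClass.pow_mem_commutator hP ?_ ?_ (h * x)
    · rw [← Subgroup.top_lowerCentralSeries_one]
      exact lc_index hx le_rfl (by omega)
    · rw [← Subgroup.top_lowerCentralSeries_one]
      intro hbot
      exact hd2 (by
        have h1 : d ∈ lc G 1 := hd1
        rw [show lc G 1 = ⊥ from hbot, Subgroup.mem_bot] at h1
        rw [h1]; exact one_mem _)
  have hy3_2 : (h * x) ^ 3 ∈ lc G 2 := by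
    by_contra hc
    refine hy (mem_Ck_of_depth hx le_rfl hy3_1 hc ?_)
    rw [commutatorElement_eq_one_iff_mul_comm.2 ((Commute.refl (h * x)).pow_left 3).eq]
    exact one_mem _
  have hy3_3 : (h * x) ^ 3 ∈ lc G 3 := by
    by_contra hc
    refine hy (Ck_le_one hx hn (k := 2) (by omega) (by omega)
      (mem_Ck_of_depth hx (by omega) hy3_2 hc ?_))
    rw [commutatorElement_eq_one_iff_mul_comm.2 ((Commute.refl (h * x)).pow_left 3).eq]
    exact one_mem _
  have hhe : h ^ 3 * e ∈ lc G 3 := by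
    rw [← hπ1, map_mul, ← hform]
    exact hπ1.2 hy3_3
  constructor
  · simpa using mul_mem (lc_anti (show 2 ≤ 3 by omega) hhe) (inv_mem he2)
  · intro hm
    exact he3 (by simpa using mul_mem (inv_mem hm) hhe)

/-- For order at least `3 ^ 5` every subgroup is two-generated. -/
theorem exists_gen_two (hn : 5 ≤ n) (H : Subgroup G) :
    ∃ T : Finset G, T.card ≤ 2 ∧ Subgroup.closure (T : Set G) = H := by
  classical
  by_cases hH : H ≤ lc G 1
  · obtain ⟨T, h1, h2⟩ := exists_gen_derived hx hH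
    exact ⟨T, by omega, h2⟩
  obtain ⟨h, hhH, hh⟩ := Set.not_subset.1 (show ¬ (H : Set G) ⊆ lc G 1 from hH)
  have hP : IsPGroup 3 G := IsPGroup.of_card hx.card
  by_cases htop : H ⊔ lc G 1 = ⊤
  · have hH' : H = ⊤ := lc_one_le_of_sup (by rw [sup_comm]; exact htop) hP
    subst hH'
    refine two_gen hP ?_
    refine le_trans (Nat.le_of_dvd ?_ (Subgroup.index_dvd_of_le ?_))
      (lc_index hx (k := 1) le_rfl (by omega)).le
    · exact Nat.pos_of_ne_zero Subgroup.index_ne_zero_of_finite
    · rw [lc, Subgroup.top_lowerCentralSeries_one]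
      exact Grp.pGroup_commutator_le_frattini hP
  set K := H ⊓ lc G 1
  set a : ℕ → Prop := fun k => 1 ≤ k ∧ ∃ y ∈ K, y ∈ lc G k ∧ y ∉ lc G (k + 1)
  have hfin : ∀ w : G, w ∈ H →
      (∀ k, 1 ≤ k → k + 2 ≤ n → ∀ y ∈ K, y ∈ lc G k → y ∉ lc G (k + 1) →
        ∃ z ∈ Subgroup.closure ({h, w} : Set G), z ∈ lc G k ∧ z ∉ lc G (k + 1)) →
      ∃ T : Finset G, T.card ≤ 2 ∧ Subgroup.closure (T : Set G) = H := by
    intro w hw hdep
    refine ⟨{h, w}, Finset.card_le_two, ?_⟩
    rw [Finset.coe_insert, Finset.coe_singleton]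
    set C := Subgroup.closure ({h, w} : Set G)
    have hCH : C ≤ H := by
      rw [Subgroup.closure_le]; simp [Set.insert_subset_iff, hhH, hw]
    have hKC : K ≤ C := le_of_depths hx inf_le_right (inf_le_inf_right _ hCH) hdep
    refine le_antisymm hCH fun y hy => ?_
    have heq : lc G 1 ⊔ Subgroup.zpowers h = H ⊔ lc G 1 :=
      (eq_sup_of_ne_top hx le_sup_right htop (Subgroup.mem_sup_left hhH) hh).symm
    have hy2 : y ∈ lc G 1 ⊔ Subgroup.zpowers h := heq ▸ Subgroup.mem_sup_left hy
    obtain ⟨u, hu, b, hb, rfl⟩ := Subgroup.mem_sup_of_normal_left.1 hy2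
    have hbC : b ∈ C := Subgroup.zpowers_le.2 (Subgroup.subset_closure (Set.mem_insert _ _)) hb
    have huK : u ∈ K := ⟨by simpa using mul_mem hy (inv_mem (hCH hbC)), hu⟩
    exact mul_mem (hKC huK) hbC
  by_cases hC : h ∈ Ck G 1
  · obtain ⟨h2, h3⟩ := cube_depth hx hn hC hh
    by_cases hodd : ∃ k, a k ∧ k % 2 = 1
    · obtain ⟨⟨hb1, w, hwK, hwb, hwb'⟩, hbo⟩ := Nat.find_spec hodd
      refine hfin w hwK.1 fun k h1 hk y hy hym hyn => ?_
      rcases Nat.mod_two_eq_zero_or_one k with hkm | hkm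
      · obtain ⟨i, hi⟩ := pow_depth hx (by omega) h2 h3 (by omega : 2 ≤ k) (by omega) hk
        exact ⟨_, pow_mem (pow_mem (Subgroup.subset_closure (Set.mem_insert _ _)) 3) i, hi⟩
      · obtain ⟨i, hi⟩ := pow_depth hx hb1 hwb hwb'
          (Nat.find_min' hodd ⟨⟨h1, y, hy, hym, hyn⟩, hkm⟩) (by omega) hk
        exact ⟨_, pow_mem (Subgroup.subset_closure (by simp)) i, hi⟩
    · refine hfin 1 (one_mem _) fun k h1 hk y hy hym hyn => ?_
      have hkm : k % 2 = 0 := by
        by_contra hkm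
        exact hodd ⟨k, ⟨h1, y, hy, hym, hyn⟩, by omega⟩
      obtain ⟨i, hi⟩ := pow_depth hx (by omega) h2 h3 (by omega : 2 ≤ k) (by omega) hk
      exact ⟨_, pow_mem (pow_mem (Subgroup.subset_closure (Set.mem_insert _ _)) 3) i, hi⟩
  · by_cases hex : ∃ k, a k
    · obtain ⟨hb1, w, hwK, hwb, hwb'⟩ := Nat.find_spec hex
      set b := Nat.find hex
      refine hfin w hwK.1 fun k h1 hk y hy hym hyn => ?_
      have hbk : b ≤ k := Nat.find_min' hex ⟨h1, y, hy, hym, hyn⟩
      have hwC : w ∈ Subgroup.closure ({h, w} : Set G) := Subgroup.subset_closure (by simp)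
      by_cases hkb : k % 2 = b % 2
      · obtain ⟨i, hi⟩ := pow_depth hx hb1 hwb hwb' hbk (by omega) hk
        exact ⟨_, pow_mem hwC i, hi⟩
      · have hb3 : b + 3 ≤ n := by omega
        have hc : ⁅w, h⁆ ∉ lc G (b + 2) := fun hm =>
          hC (Ck_le_one hx hn hb1 hb3 (mem_Ck_of_depth hx hb1 hwb hwb' hm))
        have hhC : h ∈ Subgroup.closure ({h, w} : Set G) :=
          Subgroup.subset_closure (Set.mem_insert _ _)
        have hcC : ⁅w, h⁆ ∈ Subgroup.closure ({h, w} : Set G) := by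
          rw [commutatorElement_def]
          exact mul_mem (mul_mem (mul_mem hwC hhC) (inv_mem hwC)) (inv_mem hhC)
        obtain ⟨i, hi⟩ := pow_depth hx (by omega) (lc_step hwb) hc (by omega : b + 1 ≤ k)
          (by omega) hk
        exact ⟨_, pow_mem hcC i, hi⟩
    · refine hfin 1 (one_mem _) fun k h1 hk y hy hym hyn => ?_
      exact absurd ⟨k, h1, y, hy, hym, hyn⟩ hex

/-- A group of order `81` with an elementary abelian subgroup of order `27` is a Sylow subgroup
of `S₉`. -/
theorem wreath (hn : n = 4) {A : Subgroup G} (hA : Nat.card A = 27)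
    (hAc : ∀ a ∈ A, ∀ b ∈ A, a * b = b * a) (hexp : ∀ a ∈ A, a ^ 3 = 1) :
    ∃ W : Sylow 3 (Equiv.Perm (Fin 9)),
      Nonempty (G ≃* ↥(W : Subgroup (Equiv.Perm (Fin 9)))) := by
  classical
  subst hn
  have hP : IsPGroup 3 G := IsPGroup.of_card hx.card
  haveI : Group.IsNilpotent G := hP.isNilpotent
  have hxA : x ∉ A := by
    intro hm
    have h := Subgroup.card_le_of_le (show A ≤ Subgroup.centralizer ({x} : Set G) from fun a ha =>
      Subgroup.mem_centralizer_singleton_iff.2 (hAc a ha x hm))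
    rw [hA, hx.cent] at h
    norm_num at h
  have hZ : Subgroup.center G ≤ Subgroup.centralizer ({x} : Set G) ⊓ A := by
    refine le_inf (Subgroup.center_le_centralizer _) ?_
    intro z hz
    by_contra hzA
    -- `A` and `z` generate the group, which would be abelian
    have htop : A ⊔ Subgroup.zpowers z = ⊤ := by
      obtain ⟨e, he1, he⟩ := (Nat.dvd_prime_pow hp.out).1
        (hx.card ▸ (A ⊔ Subgroup.zpowers z).card_subgroup_dvd_card)
      have hlt : Nat.card A < Nat.card ↥(A ⊔ Subgroup.zpowers z) := by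
        refine lt_of_le_of_ne (Subgroup.card_le_of_le le_sup_left) fun eq => hzA ?_
        rw [Subgroup.eq_of_le_of_card_ge (le_sup_left : A ≤ A ⊔ Subgroup.zpowers z) eq.ge]
        exact Subgroup.mem_sup_right (Subgroup.mem_zpowers z)
      rw [hA, he, show (27 : ℕ) = 3 ^ 3 by norm_num] at hlt
      have := (Nat.pow_lt_pow_iff_right (by norm_num : 1 < 3)).1 hlt
      exact Subgroup.eq_top_of_card_eq _ (by rw [he, hx.card, show e = 4 by omega])
    have hle : A ⊔ Subgroup.zpowers z ≤ Subgroup.centralizer (A : Set G) :=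
      sup_le (fun a ha => Subgroup.mem_centralizer_iff.2 fun b hb => hAc b hb a ha)
        (Subgroup.zpowers_le.2 (Subgroup.mem_centralizer_iff.2 fun b _ =>
          Subgroup.mem_center_iff.1 hz b))
    rw [htop] at hle
    have hAZ : A ≤ Subgroup.center G := fun a ha => Subgroup.mem_center_iff.2 fun g =>
      (Subgroup.mem_centralizer_iff.1 (hle (Subgroup.mem_top g)) a ha).symm
    have h := Subgroup.card_le_of_le (hAZ.trans (Subgroup.center_le_centralizer ({x} : Set G)))
    rw [hA, hx.cent] at h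
    norm_num at h
  have hZc : Nat.card (Subgroup.center G) ≤ 3 := by
    obtain ⟨e, he1, he⟩ := (Nat.dvd_prime_pow hp.out).1
      (hx.cent ▸ Subgroup.card_dvd_of_le (hZ.trans inf_le_left))
    rw [he]
    by_contra hc
    have he2 : e = 2 := by
      rcases (by omega : e = 0 ∨ e = 1 ∨ e = 2) with h | h | h
      · simp [h] at hc
      · simp [h] at hc
      · exact h
    have heq := Subgroup.eq_of_le_of_card_ge (hZ.trans inf_le_left) (by rw [hx.cent, he, he2])
    exact hxA ((hZ (heq.symm.le (Subgroup.mem_centralizer_singleton_iff.2 rfl))).2)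
  haveI : Nontrivial G := Finite.one_lt_card_iff_nontrivial.1 (by rw [hx.card]; norm_num)
  haveI := hP.center_nontrivial
  have hZA : Subgroup.center G ≤ A := hZ.trans inf_le_right
  obtain ⟨a, haA, ha⟩ := SetLike.not_le_iff_exists.1
    (show ¬ A ≤ Subgroup.center G from fun h => by
      have := Subgroup.card_le_of_le h; rw [hA] at this; omega)
  have hcyc : ∀ u ∈ A, Nat.card (Subgroup.zpowers u) ≤ 3 := fun u hu => by
    rw [Nat.card_zpowers]
    exact Nat.le_of_dvd (by norm_num) (orderOf_dvd_of_pow_eq_one (hexp u hu))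
  have hsupcard : ∀ U V : Subgroup G, U ≤ A → V ≤ A →
      Nat.card ↥(U ⊔ V) ≤ Nat.card U * Nat.card V := fun U V hU hV => by
    have hn : V ≤ Subgroup.normalizer (U : Set G) := fun v hv =>
      Subgroup.centralizer_le_normalizer _ (Subgroup.mem_centralizer_iff.2 fun u hu =>
        hAc u (hU hu) v (hV hv))
    have e : ((U ⊔ V : Subgroup G) : Set G) = (U : Set G) * (V : Set G) :=
      Subgroup.coe_mul_of_right_le_normalizer_left _ _ hn
    have h := Set.natCard_mul_le (s := (U : Set G)) (t := (V : Set G))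
    rw [← e] at h
    exact h
  obtain ⟨b, hbA, hb⟩ := SetLike.not_le_iff_exists.1
    (show ¬ A ≤ Subgroup.center G ⊔ Subgroup.zpowers a from fun h => by
      have h1 := (Subgroup.card_le_of_le h).trans (hsupcard _ _ hZA (Subgroup.zpowers_le.2 haA))
      have h2 := Nat.mul_le_mul hZc (hcyc a haA)
      rw [hA] at h1
      omega)
  set K := Subgroup.zpowers a ⊔ Subgroup.zpowers b
  have hKA : K ≤ A := sup_le (Subgroup.zpowers_le.2 haA) (Subgroup.zpowers_le.2 hbA)
  have hK9 : Nat.card K ≤ 9 :=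
    (hsupcard _ _ (Subgroup.zpowers_le.2 haA) (Subgroup.zpowers_le.2 hbA)).trans
      (Nat.mul_le_mul (hcyc a haA) (hcyc b hbA))
  -- a subgroup of `A` containing `a` and another element has order at least nine
  have hbig : ∀ M : Subgroup G, a ∈ M → ∀ w ∈ M, w ∉ Subgroup.zpowers a → 9 ≤ Nat.card M := by
    intro M haM w hwM hw
    obtain ⟨e, -, he⟩ := (Nat.dvd_prime_pow hp.out).1 (hx.card ▸ M.card_subgroup_dvd_card)
    have hlt : Nat.card (Subgroup.zpowers a) < Nat.card M := by
      refine lt_of_le_of_ne (Subgroup.card_le_of_le (Subgroup.zpowers_le.2 haM)) fun eq => hw ?_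
      rw [Subgroup.eq_of_le_of_card_ge (Subgroup.zpowers_le.2 haM) eq.ge]
      exact hwM
    have h3 : Nat.card (Subgroup.zpowers a) = 3 := by
      rw [Nat.card_zpowers]
      exact orderOf_eq_prime (hexp a haA) (fun e => ha (e ▸ one_mem _))
    rw [h3, he] at hlt
    rw [he]
    calc 9 = 3 ^ 2 := by norm_num
      _ ≤ 3 ^ e := Nat.pow_le_pow_right (by norm_num) (by
        by_contra hc
        have : (3 : ℕ) ^ e ≤ 3 ^ 1 := Nat.pow_le_pow_right (by norm_num) (by omega)
        omega)
  have hzK : ¬ Subgroup.center G ≤ K := fun hle => by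
    have hle2 : Subgroup.center G ⊔ Subgroup.zpowers a ≤ K :=
      sup_le hle le_sup_left
    obtain ⟨w, hwZ, hw⟩ : ∃ w ∈ Subgroup.center G, w ∉ Subgroup.zpowers a := by
      by_contra hh
      push Not at hh
      have h3 : Subgroup.zpowers a ≤ Subgroup.center G := by
        have heq := Subgroup.eq_of_le_of_card_ge (show Subgroup.center G ≤ Subgroup.zpowers a from hh)
          ((hcyc a haA).trans (by
            obtain ⟨z, hz⟩ := exists_ne (1 : Subgroup.center G)
            have := Subgroup.orderOf_dvd_natCard (Subgroup.center G) z.2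
            rw [orderOf_eq_prime (hexp _ (hZA z.2)) (fun e => hz (Subtype.ext e))] at this
            exact Nat.le_of_dvd Nat.card_pos this))
        exact heq.ge
      exact ha (h3 (Subgroup.mem_zpowers a))
    have h9 := hbig _ (Subgroup.mem_sup_right (Subgroup.mem_zpowers a)) w
      (Subgroup.mem_sup_left hwZ) hw
    exact hb ((Subgroup.eq_of_le_of_card_ge hle2 (hK9.trans h9)).ge
      (Subgroup.mem_sup_right (Subgroup.mem_zpowers b)))
  have hcore : K.normalCore = ⊥ := by
    by_contra hne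
    have h1 := Grp.inf_center_ne_bot K.normalCore hne
    obtain ⟨z, hz⟩ : ∃ z : ↥(K.normalCore ⊓ Subgroup.center G), z ≠ 1 := by
      by_contra hh
      push Not at hh
      exact h1 (Subgroup.eq_bot_iff_forall _ |>.2 fun w hw => congrArg Subtype.val (hh ⟨w, hw⟩))
    refine hzK ?_
    have hcen : Subgroup.zpowers (z : G) = Subgroup.center G := by
      refine Subgroup.eq_of_le_of_card_ge (Subgroup.zpowers_le.2 z.2.2) ?_
      rw [Nat.card_zpowers,
        orderOf_eq_prime (hexp _ (hZA z.2.2)) (fun e => hz (Subtype.ext e))]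
      exact hZc
    rw [← hcen]
    exact Subgroup.zpowers_le.2 (Subgroup.normalCore_le K z.2.1)
  have hK : Nat.card K = 9 := le_antisymm hK9 (hbig K (Subgroup.mem_sup_left (Subgroup.mem_zpowers a)) b
    (Subgroup.mem_sup_right (Subgroup.mem_zpowers b))
    (fun hm => hb (Subgroup.mem_sup_right hm)))
  have hidx : Nat.card (G ⧸ K) = 9 := by
    have h := K.index_mul_card
    rw [hK, hx.card] at h
    rw [← Subgroup.index_eq_card]
    omega
  let φ : G →* Equiv.Perm (Fin 9) :=
    (Equiv.permCongrHom (Finite.equivFinOfCardEq hidx)).toMonoidHom.comp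
      (MulAction.toPermHom G (G ⧸ K))
  have hφ : Function.Injective φ := by
    refine (Equiv.permCongrHom _).injective.comp ((MonoidHom.ker_eq_bot_iff _).1 ?_)
    rw [← hcore, Subgroup.normalCore_eq_ker]
  have hr : IsPGroup 3 φ.range := hP.of_surjective φ.rangeRestrict φ.rangeRestrict_surjective
  obtain ⟨W, hW⟩ := hr.exists_le_sylow
  have hWc : Nat.card W ≤ 81 := by
    obtain ⟨k, hk⟩ := IsPGroup.iff_card.1 W.2
    have hd := Subgroup.card_subgroup_dvd_card (W : Subgroup (Equiv.Perm (Fin 9)))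
    rw [hk, Nat.card_perm, Nat.card_fin] at hd
    rw [hk]
    by_contra hc
    have h5 : 5 ≤ k := by
      by_contra h
      have := Nat.pow_le_pow_right (show 0 < 3 by norm_num) (show k ≤ 4 by omega)
      omega
    have h6 : 3 ^ 5 ∣ Nat.factorial 9 := (Nat.pow_dvd_pow 3 h5).trans hd
    norm_num [Nat.factorial] at h6
  have heq : φ.range = (W : Subgroup (Equiv.Perm (Fin 9))) := by
    refine Subgroup.eq_of_le_of_card_ge hW (hWc.trans ?_)
    rw [← Nat.card_congr (MonoidHom.ofInjective hφ).toEquiv, hx.card]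
    norm_num
  exact ⟨W, ⟨(MonoidHom.ofInjective hφ).trans (MulEquiv.subgroupCongr heq)⟩⟩

end three

end Cfsg.Agent.Fus.MC
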