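/-
The minimal degree of a primitive group not containing the alternating group is at least
`(√n - 1) / 2`: colour distinguishing numbers in the uniprimitive case, a commutator of two
conjugates in the doubly transitive case.
-/
import Mathlib

set_option autoImplicit false
set_option linter.unusedSectionVars false
set_option linter.unusedVariables false

namespace Cfsg.Agent.Fus.MinDegree

open MulAction Finset
open scoped Classical commutatorElement

variable {G Ω : Type*} [Group G] [MulAction G Ω] [Fintype Ω]

theorem orb_eq_iff {x z x' z' : Ω} :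
    orbit G (x, z) = orbit G (x', z') ↔ ∃ g : G, g • x' = x ∧ g • z' = z := by
  rw [orbit_eq_iff, mem_orbit_iff]
  exact exists_congr fun g => by rw [Prod.smul_mk, Prod.ext_iff]

theorem orb_smul (g : G) (x z : Ω) : orbit G (g • x, g • z) = orbit G (x, z) :=
  orb_eq_iff.2 ⟨g, rfl, rfl⟩

theorem orb_swap {x z x' z' : Ω} (h : orbit G (x, z) = orbit G (x', z')) :
    orbit G (z, x) = orbit G (z', x') := by
  obtain ⟨g, h1, h2⟩ := orb_eq_iff.1 h
  exact orb_eq_iff.2 ⟨g, h2, h1⟩

/-- The points telling `x` from `y`. -/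
noncomputable def dset (G : Type*) [Group G] [MulAction G Ω] (x y : Ω) : Finset Ω :=
  univ.filter fun z => orbit G (x, z) ≠ orbit G (y, z)

theorem mem_dset {x y z : Ω} : z ∈ dset G x y ↔ orbit G (x, z) ≠ orbit G (y, z) := by simp [dset]

theorem dset_symm (x y : Ω) : dset G x y = dset G y x := by
  ext z; simp [mem_dset, ne_comm]

theorem card_dset_smul (g : G) (x y : Ω) : (dset G (g • x) (g • y)).card = (dset G x y).card := by
  refine (card_equiv (MulAction.toPerm g) fun z => ?_).symm
  simp [mem_dset, orb_smul]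

/-- An invariant symmetric relation connects everything. -/
theorem closed_eq_univ (hprim : IsPreprimitive G Ω) {R : Ω → Ω → Prop} (hsymm : ∀ u v, R u v → R v u)
    (hinv : ∀ (g : G) u v, R u v → R (g • u) (g • v)) {x y : Ω} (hxy : R x y) (hne : x ≠ y)
    (W : Ω → Prop) (hx : W x) (hW : ∀ u v, W u → R u v → W v) (z : Ω) : W z := by
  let S : Ω → Ω → Prop := Relation.ReflTransGen R
  have hSsymm : ∀ u v, S u v → S v u := fun u v h => by
    induction h with
    | refl => exact Relation.ReflTransGen.refl
    | tail _ h2 ih => exact Relation.ReflTransGen.head (hsymm _ _ h2) ih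
  have hSinv : ∀ (g : G) u v, S u v → S (g • u) (g • v) := fun g u v h => by
    induction h with
    | refl => exact Relation.ReflTransGen.refl
    | tail _ h2 ih => exact Relation.ReflTransGen.tail ih (hinv g _ _ h2)
  have hB : IsBlock G {z | S x z} := by
    rw [isBlock_iff_smul_eq_of_nonempty]
    intro g hg
    obtain ⟨_, ⟨u, hu, rfl⟩, hgu⟩ := hg
    have hxg : S x (g • x) := Relation.ReflTransGen.trans hgu (hSsymm _ _ (hSinv g x u hu))
    ext w
    refine ⟨?_, fun hw => ⟨g⁻¹ • w, ?_, smul_inv_smul g w⟩⟩
    · rintro ⟨v, hv, rfl⟩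
      exact Relation.ReflTransGen.trans hxg (hSinv g x v hv)
    · have := hSinv g⁻¹ _ _ (Relation.ReflTransGen.trans (hSsymm _ _ hxg) hw)
      rwa [inv_smul_smul] at this
  rcases hprim.isTrivialBlock_of_isBlock hB with h | h
  · exact absurd (h (Relation.ReflTransGen.refl : S x x) (Relation.ReflTransGen.single hxy : S x y)) hne
  · have hz : S x z := h.ge (Set.mem_univ z)
    induction hz with
    | refl => exact hx
    | tail _ h2 ih => exact hW _ _ ih h2

/-- The distinguishing number of any colour is at least `(√n - 1) / 2` unless doubly transitive. -/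
theorem dset_bound (hprim : IsPreprimitive G Ω) {a b : Ω} (hab : a ≠ b)
    (h2 : ¬ ∀ u v : Ω, u ≠ v → orbit G (u, v) = orbit G (a, b)) :
    Fintype.card Ω ≤ (2 * (dset G a b).card + 1) ^ 2 := by
  obtain ⟨δ, hδdef⟩ : ∃ δ, δ = (dset G a b).card := ⟨_, rfl⟩
  rw [← hδdef]
  let J : Ω → Ω → Prop := fun u v => orbit G (u, v) = orbit G (a, b) ∨ orbit G (v, u) = orbit G (a, b)
  have hJsymm : ∀ u v, J u v → J v u := fun u v => Or.symm
  have hJinv : ∀ (g : G) u v, J u v ↔ J (g • u) (g • v) := fun g u v => by
    simp only [J, orb_smul]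
  have hJirr : ∀ u, ¬ J u u := fun u h => by
    have h' : orbit G (u, u) = orbit G (a, b) := h.elim id id
    obtain ⟨g, h1, h2'⟩ := orb_eq_iff.1 h'
    exact hab (MulAction.injective g (h1.trans h2'.symm))
  have hJab : J a b := Or.inl rfl
  have hδ : ∀ u v, J u v → (dset G u v).card = δ := by
    rintro u v (h | h) <;> obtain ⟨g, rfl, rfl⟩ := orb_eq_iff.1 h
    · rw [card_dset_smul, hδdef]
    · rw [dset_symm, card_dset_smul, hδdef]
  let N : Ω → Finset Ω := fun u => univ.filter (J u)
  have hmemN : ∀ u v, v ∈ N u ↔ J u v := fun u v => by simp [N]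
  have htr := hprim.toIsPretransitive
  obtain ⟨k, hkdef⟩ : ∃ k, k = (N a).card := ⟨_, rfl⟩
  have hk : ∀ u, (N u).card = k := fun u => by
    obtain ⟨g, rfl⟩ := exists_smul_eq G a u
    rw [hkdef]
    exact (card_equiv (MulAction.toPerm g) fun z => by simp [hmemN, ← hJinv]).symm
  have hhalf : ∀ u v, J u v → 2 * (N u \ N v).card ≤ δ := by
    intro u v huv
    have h1 : (N u \ N v).card = (N v \ N u).card := card_sdiff_comm ((hk u).trans (hk v).symm)
    rw [← hδ u v huv, two_mul]
    nth_rw 2 [h1]
    rw [← card_union_of_disjoint (disjoint_sdiff_sdiff)]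
    refine card_le_card fun z hz => mem_dset.2 fun he => ?_
    have hiff : J u z ↔ J v z := by
      obtain ⟨g, e1, e2⟩ := orb_eq_iff.1 he
      rw [hJinv g v z, e1, e2]
    simp [hmemN, hiff] at hz
  -- every point is told apart by some neighbour
  have hcover : ∀ z, ∃ y ∈ N a, z ∈ dset G a y := by
    intro z
    simp only [hmemN, mem_dset]
    by_contra hcon
    push Not at hcon
    have haz := closed_eq_univ hprim hJsymm (fun g u v => (hJinv g u v).1) hJab hab
      (fun w => orbit G (w, z) = orbit G (a, z)) rfl (fun u v hu huv => by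
        obtain ⟨g, e1, e2⟩ := orb_eq_iff.1 hu
        have hy : J a (g⁻¹ • v) := by
          rw [hJinv g, e1, smul_inv_smul]; exact huv
        have h := hcon _ hy
        rw [← orb_smul g (g⁻¹ • v) z, smul_inv_smul, e2] at h
        exact h.symm) z
    obtain ⟨g, e1, e2⟩ := orb_eq_iff.1 haz
    obtain rfl : a = z := MulAction.injective g (e1.trans e2.symm)
    have h := hcon b hJab
    obtain ⟨g', f1, f2⟩ := orb_eq_iff.1 h
    exact hab (MulAction.injective g' (f2.trans f1.symm))
  have hkδ : Fintype.card Ω ≤ k * δ := by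
    have h1 : ∑ y ∈ N a, (dset G a y).card = k * δ := by
      rw [sum_congr rfl fun y hy => hδ a y ((hmemN a y).1 hy), sum_const, smul_eq_mul, ← hkdef]
    rw [← h1, ← card_univ]
    refine (card_le_card fun z _ => ?_).trans card_biUnion_le
    obtain ⟨y, hy, hz⟩ := hcover z
    exact mem_biUnion.2 ⟨y, hy, hz⟩
  by_cases hA : k ≤ 4 * δ
  · nlinarith
  push Not at hA
  -- small distinguishing number: diameter two
  have htri : ∀ u v w : Ω, (N u \ N w).card ≤ (N u \ N v).card + (N v \ N w).card := fun u v w =>
    (card_le_card (sdiff_triangle _ _ _)).trans (card_union_le _ _)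
  have hR2 : ∀ z, z = a ∨ J a z ∨ ∃ v, J a v ∧ J v z := by
    refine closed_eq_univ hprim hJsymm (fun g u v => (hJinv g u v).1) hJab hab
      (fun z => z = a ∨ J a z ∨ ∃ v, J a v ∧ J v z) (Or.inl rfl) ?_
    rintro w z (rfl | hw | ⟨v, hv, hvw⟩) hwz
    · exact Or.inr (Or.inl hwz)
    · exact Or.inr (Or.inr ⟨w, hw, hwz⟩)
    · have h1 := hhalf a v hv
      have h2' := hhalf v w hvw
      have h3 := hhalf w z hwz
      have h4 := (htri a w z).trans (Nat.add_le_add_right (htri a v w) _)
      obtain ⟨v', hv'⟩ : (N a ∩ N z).Nonempty := by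
        rw [← card_pos]
        have := card_inter_add_card_sdiff (N a) (N z)
        rw [← hkdef] at this
        omega
      rw [mem_inter, hmemN, hmemN] at hv'
      exact Or.inr (Or.inr ⟨v', hv'.1, hJsymm _ _ hv'.2⟩)
  let T : Ω → Finset Ω := fun u => univ.filter fun z => z ≠ u ∧ ¬ J u z
  have hmemT : ∀ u v, v ∈ T u ↔ v ≠ u ∧ ¬ J u v := fun u v => by simp [T]
  have hTsymm : ∀ u v, v ∈ T u → u ∈ T v := fun u v h => by
    rw [hmemT] at h ⊢
    exact ⟨h.1.symm, fun h' => h.2 (hJsymm _ _ h')⟩
  have hTinv : ∀ (g : G) u v, v ∈ T u ↔ g • v ∈ T (g • u) := fun g u v => by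
    rw [hmemT, hmemT, ← hJinv, (MulAction.injective g).ne_iff]
  obtain ⟨c, hcdef⟩ : ∃ c, c = (T a).card := ⟨_, rfl⟩
  have hc : ∀ u, (T u).card = c := fun u => by
    obtain ⟨g, rfl⟩ := exists_smul_eq G a u
    rw [hcdef]
    exact (card_equiv (MulAction.toPerm g) fun z => hTinv g a z).symm
  have hn : Fintype.card Ω = 1 + k + c := by
    have hu : (univ : Finset Ω) = insert a (N a ∪ T a) := by
      ext z
      simp only [mem_univ, mem_insert, mem_union, hmemN, hmemT, true_iff]
      tauto
    rw [← card_univ, hu, card_insert_of_notMem (by simp [hmemN, hmemT, hJirr]),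
      card_union_of_disjoint (disjoint_left.2 fun z h1 h2' => ((hmemT a z).1 h2').2 ((hmemN a z).1 h1)),
      ← hkdef, ← hcdef]
    ring
  have h6 : 6 * c ≤ k := by
    have hS : ∑ z ∈ T a, (N a ∩ N z).card = ∑ v ∈ N a, (T a ∩ N v).card := by
      have := sum_card_bipartiteAbove_eq_sum_card_bipartiteBelow (s := T a) (t := N a) (fun z v => J z v)
      refine Eq.trans ?_ (this.trans ?_)
      · exact sum_congr rfl fun z _ => congrArg Finset.card (by
          ext v; simp [bipartiteAbove, hmemN])
      · exact sum_congr rfl fun v _ => congrArg Finset.card (by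
          ext z
          simp only [bipartiteBelow, mem_filter, mem_inter, hmemN]
          exact and_congr_right fun _ => ⟨hJsymm _ _, hJsymm _ _⟩)
    have hlow : ∀ z ∈ T a, k - δ ≤ (N a ∩ N z).card := by
      intro z hz
      rw [hmemT] at hz
      rcases hR2 z with h | h | ⟨v, hv, hvz⟩
      · exact absurd h hz.1
      · exact absurd h hz.2
      · have := card_inter_add_card_sdiff (N a) (N z)
        rw [← hkdef] at this
        have := htri a v z
        have := hhalf a v hv
        have := hhalf v z hvz
        omega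
    have hup : ∀ v ∈ N a, 2 * (T a ∩ N v).card ≤ δ := by
      intro v hv
      refine le_trans (Nat.mul_le_mul_left 2 (card_le_card fun z hz => ?_)) (hhalf v a (hJsymm _ _ ((hmemN a v).1 hv)))
      rw [mem_inter, hmemT] at hz
      exact mem_sdiff.2 ⟨hz.2, fun h => hz.1.2 ((hmemN a z).1 h)⟩
    have h1 := Finset.card_nsmul_le_sum _ _ _ hlow
    have h2' := Finset.sum_le_card_nsmul (N a) (fun v => 2 * (T a ∩ N v).card) δ hup
    rw [← mul_sum, ← hS, smul_eq_mul, ← hkdef] at h2'
    rw [smul_eq_mul, ← hcdef] at h1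
    have h3 : 2 * (c * (k - δ)) ≤ k * δ := by omega
    have h4 : 3 * k ≤ 4 * (k - δ) := by omega
    have h5 : (6 * c) * k ≤ k * k := by
      calc (6 * c) * k = 2 * c * (3 * k) := by ring
        _ ≤ 2 * c * (4 * (k - δ)) := Nat.mul_le_mul_left _ h4
        _ = 4 * (2 * (c * (k - δ))) := by ring
        _ ≤ 4 * (k * δ) := Nat.mul_le_mul_left _ h3
        _ = k * (4 * δ) := by ring
        _ ≤ k * k := Nat.mul_le_mul_left _ hA.le
    exact Nat.le_of_mul_le_mul_right h5 (by omega)
  by_cases hc0 : c = 0
  · -- all pairs in two colours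
    have hall : ∀ u v, u ≠ v → J u v := fun u v huv => by
      by_contra h
      have : v ∈ T u := (hmemT u v).2 ⟨huv.symm, h⟩
      rw [card_eq_zero.1 ((hc u).trans hc0)] at this
      exact absurd this (notMem_empty v)
    have hne : orbit G (a, b) ≠ orbit G (b, a) := fun he => h2 fun u v huv =>
      (hall u v huv).elim id fun h => (orb_swap h).trans he.symm
    let P : Ω → Ω → Prop := fun u v => orbit G (u, v) = orbit G (a, b)
    obtain ⟨h, hhdef⟩ : ∃ h, h = (univ.filter fun z => P a z).card := ⟨_, rfl⟩
    have hout : ∀ u, (univ.filter fun z => P u z).card = h := fun u => by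
      obtain ⟨g, rfl⟩ := exists_smul_eq G a u
      rw [hhdef]
      exact (card_equiv (MulAction.toPerm g) fun z => by simp [P, orb_smul]).symm
    have hin : ∀ u, (univ.filter fun z => P z u).card = h := by
      have hconst : ∀ u, (univ.filter fun z => P z u).card = (univ.filter fun z => P z a).card := fun u => by
        obtain ⟨g, rfl⟩ := exists_smul_eq G a u
        exact (card_equiv (MulAction.toPerm g) fun z => by simp [P, orb_smul]).symm
      have := sum_card_bipartiteAbove_eq_sum_card_bipartiteBelow (s := (univ : Finset Ω))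
        (t := (univ : Finset Ω)) P
      simp only [bipartiteAbove, bipartiteBelow, hout, hconst, sum_const, card_univ, smul_eq_mul] at this
      intro u
      rw [hconst]
      exact (Nat.eq_of_mul_eq_mul_left (Fintype.card_pos_iff.2 ⟨a⟩) this).symm
    have hdisj : ∀ u v, P u v → ¬ P v u := fun u v h1 h2' => hne (h1.symm.trans (orb_swap h2'))
    have hirr : ∀ u, ¬ P u u := fun u h1 => hJirr u (Or.inl h1)
    have hn2 : Fintype.card Ω = 1 + 2 * h := by
      have hu : N a = univ.filter (fun z => P a z) ∪ univ.filter (fun z => P z a) := by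
        ext z; simp [hmemN, J, P]
      have := congrArg Finset.card hu
      rw [card_union_of_disjoint (disjoint_left.2 fun z h1 h2' =>
        hdisj a z (mem_filter.1 h1).2 (mem_filter.1 h2').2), ← hkdef, hout, hin] at this
      omega
    have hpt : ∀ z ∈ (univ : Finset Ω).erase a, h + 1 ≤ (((univ : Finset Ω).erase a).filter fun y =>
        z ∈ dset G a y).card := by
      intro z hz
      have hza : z ≠ a := (mem_erase.1 hz).1
      have hCz : (univ.filter fun y => orbit G (y, z) = orbit G (a, z)).card = h := by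
        rcases hall a z hza.symm with h1 | h1
        · rw [← hin z]
          exact congrArg Finset.card (filter_congr fun y _ => by simp [P, h1])
        · rw [← hout z]
          refine congrArg Finset.card (filter_congr fun y _ => ⟨fun e => ?_, fun e => ?_⟩)
          · exact (orb_swap e).trans h1
          · exact orb_swap (e.trans h1.symm)
      have hsub : (univ : Finset Ω) \ univ.filter (fun y => orbit G (y, z) = orbit G (a, z)) ⊆
          ((univ : Finset Ω).erase a).filter fun y => z ∈ dset G a y := by
        intro y hy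
        simp only [mem_sdiff, mem_filter, mem_univ, true_and] at hy
        refine mem_filter.2 ⟨mem_erase.2 ⟨fun e => hy (by rw [e]), mem_univ _⟩, ?_⟩
        exact mem_dset.2 fun e => hy e.symm
      refine le_trans ?_ (card_le_card hsub)
      rw [card_sdiff_of_subset (subset_univ _), card_univ, hCz]
      omega
    have hsum := sum_card_bipartiteAbove_eq_sum_card_bipartiteBelow (s := (univ : Finset Ω).erase a)
      (t := (univ : Finset Ω).erase a) (fun y z => z ∈ dset G a y)
    have hlow : ((univ : Finset Ω).erase a).card * (h + 1) ≤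
        ∑ z ∈ (univ : Finset Ω).erase a, (bipartiteBelow (fun y z => z ∈ dset G a y) ((univ : Finset Ω).erase a) z).card := by
      rw [← smul_eq_mul]
      exact Finset.card_nsmul_le_sum _ _ _ hpt
    have hup : ∑ y ∈ (univ : Finset Ω).erase a, (bipartiteAbove (fun y z => z ∈ dset G a y) ((univ : Finset Ω).erase a) y).card ≤
        ((univ : Finset Ω).erase a).card * δ := by
      rw [← smul_eq_mul]
      refine Finset.sum_le_card_nsmul _ _ _ fun y hy => ?_
      rw [← hδ a y (hall a y (mem_erase.1 hy).1.symm)]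
      exact card_le_card fun z hz => (mem_filter.1 hz).2
    have hpos : 0 < ((univ : Finset Ω).erase a).card := card_pos.2 ⟨b, mem_erase.2 ⟨hab.symm, mem_univ _⟩⟩
    have : h + 1 ≤ δ := Nat.le_of_mul_le_mul_left (hlow.trans (hsum ▸ hup)) hpos
    nlinarith
  · -- the complementary graph
    obtain ⟨w, hw⟩ : (T a).Nonempty := card_pos.1 (by omega)
    obtain ⟨v0, w0, hv0, hw0, hw0v⟩ : ∃ v0 w0, J a v0 ∧ w0 ∈ T a ∧ v0 ∈ T w0 := by
      by_contra hcon
      push Not at hcon
      have := closed_eq_univ hprim (R := fun u v => v ∈ T u) hTsymm (fun g u v h => (hTinv g u v).1 h)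
        hw ((hmemT a w).1 hw).1.symm (fun z => z = a ∨ z ∈ T a) (Or.inl rfl)
        (fun u v hu huv => by
          rcases hu with rfl | hu
          · exact Or.inr huv
          · by_cases hva : v = a
            · exact Or.inl hva
            · refine Or.inr ((hmemT a v).2 ⟨hva, fun hJv => hcon v u hJv hu huv⟩)) b
      rcases this with h | h
      · exact hab h.symm
      · exact ((hmemT a b).1 h).2 hJab
    have hcommon : ∀ v, J a v → ∃ u ∈ T a, v ∈ T u := by
      intro v hv
      have hcases : orbit G (a, v) = orbit G (a, v0) ∨ orbit G (a, v) = orbit G (v0, a) := by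
        rcases hv with h | h <;> rcases hv0 with h' | h'
        · exact Or.inl (h.trans h'.symm)
        · exact Or.inr (h.trans h'.symm)
        · exact Or.inr (orb_swap (h.trans h'.symm))
        · exact Or.inl (orb_swap (h.trans h'.symm))
      rcases hcases with h | h <;> obtain ⟨g, e1, e2⟩ := orb_eq_iff.1 h
      · exact ⟨g • w0, e1 ▸ (hTinv g a w0).1 hw0, e2 ▸ (hTinv g w0 v0).1 hw0v⟩
      · refine ⟨g • w0, e1 ▸ hTsymm _ _ ((hTinv g w0 v0).1 hw0v), hTsymm _ _ ?_⟩
        exact e2 ▸ (hTinv g a w0).1 hw0
    have hkc : k ≤ c * (c - 1) := by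
      rw [hkdef]
      refine le_trans (card_le_card fun v hv => ?_)
        (le_trans (card_biUnion_le (s := T a) (t := fun u => (T u).erase a)) (le_of_eq ?_))
      · obtain ⟨u, hu, huv⟩ := hcommon v ((hmemN a v).1 hv)
        exact mem_biUnion.2 ⟨u, hu, mem_erase.2 ⟨fun e => hJirr a (e ▸ (hmemN a v).1 hv), huv⟩⟩
      · rw [sum_congr rfl fun u hu => (card_erase_of_mem (hTsymm _ _ hu)).trans (by rw [hc u]),
          sum_const, smul_eq_mul, ← hcdef]
    obtain ⟨v, hv, hvc⟩ : ∃ v ∈ N a, 6 * (T a ∩ T v).card ≤ c := by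
      by_contra hcon
      push Not at hcon
      have h1 := Finset.card_nsmul_le_sum (N a) (fun v => 6 * (T a ∩ T v).card) (c + 1) fun v hv => hcon v hv
      have hS : ∑ v ∈ N a, (T a ∩ T v).card = ∑ u ∈ T a, (N a ∩ T u).card := by
        have := sum_card_bipartiteAbove_eq_sum_card_bipartiteBelow (s := N a) (t := T a) (fun v u => u ∈ T v)
        refine Eq.trans ?_ (this.trans ?_)
        · exact sum_congr rfl fun v _ => congrArg Finset.card (by ext u; simp [bipartiteAbove])
        · exact sum_congr rfl fun u _ => congrArg Finset.card (by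
            ext v
            simp only [bipartiteBelow, mem_filter, mem_inter]
            exact and_congr_right fun _ => ⟨hTsymm _ _, hTsymm _ _⟩)
      rw [← mul_sum, hS, smul_eq_mul, ← hkdef] at h1
      have h2' := Finset.sum_le_card_nsmul (T a) (fun u => (N a ∩ T u).card) c fun u _ =>
        (card_le_card inter_subset_right).trans (hc u).le
      rw [smul_eq_mul, ← hcdef] at h2'
      nlinarith
    have hδc : c ≤ δ := by
      rw [← hδ a v ((hmemN a v).1 hv)]
      have h1 := card_inter_add_card_sdiff (T a) (T v)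
      have h2' := card_inter_add_card_sdiff (T v) (T a)
      rw [inter_comm, hc] at h2'
      rw [hc] at h1
      have h3 : (T a \ T v ∪ T v \ T a).card ≤ (dset G a v).card := by
        refine card_le_card fun z hz => mem_dset.2 fun he => ?_
        obtain ⟨g, e1, e2⟩ := orb_eq_iff.1 he
        have hiff : z ∈ T a ↔ z ∈ T v := by
          rw [hTinv g v z, e1, e2]
        simp [hiff] at hz
      rw [card_union_of_disjoint disjoint_sdiff_sdiff] at h3
      omega
    have hcc : c * (c - 1) + c = c * c := by
      obtain ⟨c, rfl⟩ : ∃ d, c = d + 1 := ⟨c - 1, by omega⟩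
      simp; ring
    nlinarith

variable [DecidableEq Ω]

/-- The moved points. -/
def moved (g : G) : Finset Ω := univ.filter fun z => g • z ≠ z

theorem threeCycle_of_inter {f h : Equiv.Perm Ω} {p : Ω} (hp : f.support ∩ h.support = {p}) :
    (⁅f, h⁆).IsThreeCycle := by
  have hfp : f p ≠ p := Equiv.Perm.mem_support.1
    (mem_of_mem_inter_left (hp ▸ mem_singleton_self p : p ∈ f.support ∩ h.support))
  have hhp : h p ≠ p := Equiv.Perm.mem_support.1
    (mem_of_mem_inter_right (hp ▸ mem_singleton_self p : p ∈ f.support ∩ h.support))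
  have honly : ∀ z, f z ≠ z → h z ≠ z → z = p := fun z hz hz' => mem_singleton.1 <| by
    rw [← hp]
    exact mem_inter.2 ⟨Equiv.Perm.mem_support.2 hz, Equiv.Perm.mem_support.2 hz'⟩
  have happ : ∀ z, ⁅f, h⁆ z = f (h (f.symm (h.symm z))) := fun z => rfl
  have hfix : ∀ z, z ≠ p → z ≠ f p → z ≠ h p → ⁅f, h⁆ z = z := by
    intro z z1 z2 z3
    rw [happ]
    by_cases hz : h z = z
    · have hzs : h.symm z = z := by rw [Equiv.symm_apply_eq, hz]
      rw [hzs]
      by_cases hfz : f z = z
      · rw [show f.symm z = z by rw [Equiv.symm_apply_eq, hfz], hz, hfz]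
      · have hu : h (f.symm z) = f.symm z := by
          by_contra hne
          have := honly (f.symm z) (fun e => hfz (by
            rw [Equiv.apply_symm_apply] at e
            nth_rw 1 [e]; rw [Equiv.apply_symm_apply])) hne
          exact z2 ((Equiv.symm_apply_eq f).1 this)
        rw [hu, Equiv.apply_symm_apply]
    · have hzf : f z = z := by
        by_contra hne
        exact z1 (honly z hne hz)
      have hw : f (h.symm z) = h.symm z := by
        by_contra hne
        have := honly (h.symm z) hne (fun e => hz (by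
          rw [Equiv.apply_symm_apply] at e
          nth_rw 1 [e]; rw [Equiv.apply_symm_apply]))
        exact z3 ((Equiv.symm_apply_eq h).1 this)
      rw [show f.symm (h.symm z) = h.symm z by rw [Equiv.symm_apply_eq, hw], Equiv.apply_symm_apply, hzf]
  have hne : ⁅f, h⁆ ≠ 1 := fun e => hhp <| by
    have h1 : ⁅f, h⁆ (h p) = h p := by rw [e]; rfl
    rw [happ, Equiv.symm_apply_apply] at h1
    have hu : h (f.symm p) = f.symm p := by
      by_contra hne'
      have := honly (f.symm p) (fun e' => by
        rw [Equiv.apply_symm_apply] at e'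
        exact hfp (by nth_rw 1 [e']; rw [Equiv.apply_symm_apply])) hne'
      exact hfp ((Equiv.symm_apply_eq f).1 this).symm
    rw [hu, Equiv.apply_symm_apply] at h1
    exact h1.symm
  have hsub : (⁅f, h⁆).support ⊆ {p, f p, h p} := fun z hz => by
    rw [Equiv.Perm.mem_support] at hz
    simp only [mem_insert, mem_singleton]
    by_contra hcon
    push Not at hcon
    exact hz (hfix z hcon.1 hcon.2.1 hcon.2.2)
  have h3 := (card_le_card hsub).trans Finset.card_le_three
  have h1 : (⁅f, h⁆).support.card ≠ 0 := fun e => hne (Equiv.Perm.card_support_eq_zero.1 e)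
  have h1' : (⁅f, h⁆).support.card ≠ 1 := Equiv.Perm.card_support_ne_one _
  have h2 : (⁅f, h⁆).support.card ≠ 2 := fun e => by
    have hs : Equiv.Perm.sign ⁅f, h⁆ = 1 := by
      rw [map_commutatorElement, commutatorElement_eq_one_iff_mul_comm, mul_comm]
    rw [(Equiv.Perm.card_support_eq_two.1 e).sign_eq] at hs
    exact absurd hs (by decide)
  exact card_support_eq_three_iff.1 (by omega)

theorem card_transporter_mul [Fintype G] {X : Type*} [MulAction G X] [Fintype X] [DecidableEq X]
    (Y : Finset X) (y₀ : X) (hy₀ : y₀ ∈ Y) (hmem : ∀ g : G, g • y₀ ∈ Y) (htr : ∀ y ∈ Y, ∃ g : G, g • y₀ = y)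
    {y z : X} (hy : y ∈ Y) (hz : z ∈ Y) :
    (univ.filter fun g : G => g • y = z).card * Y.card = Fintype.card G := by
  have hy₀' : ∀ u ∈ Y, (univ.filter fun g : G => g • y₀ = u).card = (univ.filter fun g : G => g • y = z).card := by
    intro u hu
    obtain ⟨s, hs⟩ := htr y hy
    obtain ⟨t, ht⟩ := htr u hu
    obtain ⟨r, hr⟩ := htr z hz
    refine card_equiv ((Equiv.mulLeft (r * t⁻¹)).trans (Equiv.mulRight s⁻¹)) fun g => ?_
    simp only [mem_filter, mem_univ, true_and, Equiv.trans_apply, Equiv.coe_mulLeft, Equiv.coe_mulRight]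
    rw [← hs, smul_smul, inv_mul_cancel_right, mul_smul, mul_smul, ← hr, smul_left_cancel_iff,
      inv_smul_eq_iff, ht]
  rw [← card_univ, card_eq_sum_card_fiberwise (f := fun g : G => g • y₀) (s := univ) (t := Y)
    (fun g _ => hmem g), sum_congr rfl hy₀', sum_const, smul_eq_mul, mul_comm]

theorem two_transitive_bound [Finite G] (hprim : IsPreprimitive G Ω)
    (hA : ¬ alternatingGroup Ω ≤ (MulAction.toPermHom G Ω).range) {g : G} {a b : Ω} (hab : a ≠ b)
    (hmv : g • a ≠ a) (h2 : ∀ u v : Ω, u ≠ v → orbit G (u, v) = orbit G (a, b)) :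
    Fintype.card Ω ≤ (2 * (moved (Ω := Ω) g).card + 1) ^ 2 := by
  cases nonempty_fintype G
  obtain ⟨S, hSdef⟩ : ∃ S, S = moved (Ω := Ω) g := ⟨_, rfl⟩
  rw [← hSdef]
  by_contra hcon
  push Not at hcon
  obtain ⟨t, ht⟩ : ∃ t : G, (S.filter fun z => t • z ∈ S).card = 1 := by
    by_contra hall
    push Not at hall
    let X : G → ℕ := fun t => (S.filter fun z => t • z ∈ S).card
    obtain ⟨A, hA'⟩ : ∃ A, A = (univ.filter fun t : G => t • a = a).card := ⟨_, rfl⟩
    obtain ⟨B, hB'⟩ : ∃ B, B = (univ.filter fun t : G => t • (a, b) = (a, b)).card := ⟨_, rfl⟩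
    have htr := hprim.toIsPretransitive
    have hA1 : ∀ p q : Ω, (univ.filter fun t : G => t • p = q).card * Fintype.card Ω = Fintype.card G :=
      fun p q => card_transporter_mul univ a (mem_univ _) (fun _ => mem_univ _)
        (fun y _ => exists_smul_eq G a y) (mem_univ _) (mem_univ _)
    have hB1 : ∀ u v : Ω × Ω, u ∈ (univ : Finset Ω).offDiag → v ∈ (univ : Finset Ω).offDiag →
        (univ.filter fun t : G => t • u = v).card * (univ : Finset Ω).offDiag.card = Fintype.card G :=
      fun u v hu hv => card_transporter_mul _ (a, b) (by simp [hab])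
        (fun t => by simp [(MulAction.injective t).ne_iff, hab])
        (fun y hy => by
          obtain ⟨y1, y2⟩ := y
          simp only [mem_offDiag, mem_univ, true_and] at hy
          obtain ⟨t, e1, e2⟩ := orb_eq_iff.1 (h2 y1 y2 hy)
          exact ⟨t, by rw [Prod.smul_mk, e1, e2]⟩) hu hv
    have hAconst : ∀ p q : Ω, (univ.filter fun t : G => t • p = q).card = A := fun p q =>
      Nat.eq_of_mul_eq_mul_right (Fintype.card_pos_iff.2 ⟨a⟩) ((hA1 p q).trans (hA' ▸ hA1 a a).symm)
    have hmab : (a, b) ∈ (univ : Finset Ω).offDiag := by simp [hab]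
    have hBconst : ∀ u v : Ω × Ω, u ∈ (univ : Finset Ω).offDiag → v ∈ (univ : Finset Ω).offDiag →
        (univ.filter fun t : G => t • u = v).card = B := fun u v hu hv =>
      Nat.eq_of_mul_eq_mul_right (card_pos.2 ⟨_, hmab⟩) ((hB1 u v hu hv).trans (hB' ▸ hB1 _ _ hmab hmab).symm)
    have h1 : ∑ t : G, X t = S.card * S.card * A := by
      calc ∑ t : G, X t = ∑ t : G, ∑ z ∈ S, ∑ w ∈ S, if t • z = w then 1 else 0 := by
            refine sum_congr rfl fun t _ => ?_
            rw [show X t = ∑ z ∈ S, if t • z ∈ S then 1 else 0 from card_filter _ _]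
            exact sum_congr rfl fun z _ => by rw [sum_ite_eq]
        _ = ∑ z ∈ S, ∑ w ∈ S, ∑ t : G, if t • z = w then 1 else 0 := by
            rw [sum_comm]; exact sum_congr rfl fun z _ => sum_comm
        _ = _ := by simp only [← card_filter, hAconst, sum_const, smul_eq_mul]; ring
    have h2' : ∑ t : G, (X t * X t - X t) = (S.card * S.card - S.card) * (S.card * S.card - S.card) * B := by
      calc ∑ t : G, (X t * X t - X t)
          = ∑ t : G, ∑ u ∈ S.offDiag, ∑ v ∈ S.offDiag, if t • u = v then 1 else 0 := by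
            refine sum_congr rfl fun t _ => ?_
            rw [show X t * X t - X t = (S.filter fun z => t • z ∈ S).offDiag.card from (offDiag_card _).symm,
              show (S.filter fun z => t • z ∈ S).offDiag = S.offDiag.filter fun u => t • u ∈ S.offDiag by
                ext ⟨u1, u2⟩
                simp [(MulAction.injective t).eq_iff]
                tauto,
              card_filter]
            exact sum_congr rfl fun u _ => by rw [sum_ite_eq]
        _ = ∑ u ∈ S.offDiag, ∑ v ∈ S.offDiag, ∑ t : G, if t • u = v then 1 else 0 := by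
            rw [sum_comm]; exact sum_congr rfl fun z _ => sum_comm
        _ = ∑ u ∈ S.offDiag, ∑ v ∈ S.offDiag, B := by
            refine sum_congr rfl fun u hu => sum_congr rfl fun v hv => ?_
            rw [← card_filter]
            exact hBconst u v (by simp [(mem_offDiag.1 hu).2.2]) (by simp [(mem_offDiag.1 hv).2.2])
        _ = _ := by simp only [sum_const, smul_eq_mul, offDiag_card]; ring
    have hle : ∑ t : G, X t ≤ ∑ t : G, (X t * X t - X t) := by
      refine sum_le_sum fun t _ => ?_
      rcases Nat.lt_or_ge (X t) 2 with hlt | hge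
      · have := hall t
        have : X t = 0 := by change X t ≠ 1 at this; omega
        simp [this]
      · have : 2 * X t ≤ X t * X t := Nat.mul_le_mul_right _ hge
        omega
    rw [h1, h2'] at hle
    have hrel : A * Fintype.card Ω = B * (Fintype.card Ω * Fintype.card Ω - Fintype.card Ω) := by
      rw [hA', hA1 a a, hB', ← hB1 _ _ hmab hmab, offDiag_card, card_univ]
    have hn1 : 1 ≤ Fintype.card Ω := Fintype.card_pos_iff.2 ⟨a⟩
    obtain ⟨n, hn⟩ : ∃ n, Fintype.card Ω = n + 1 := ⟨_, (Nat.succ_pred_eq_of_pos hn1).symm⟩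
    rw [hn, show (n + 1) * (n + 1) - (n + 1) = n * (n + 1) from Nat.sub_eq_of_eq_add (by ring),
      ← mul_assoc] at hrel
    have hAB : A = B * n := Nat.eq_of_mul_eq_mul_right (Nat.succ_pos n) hrel
    obtain ⟨m, hm⟩ : ∃ m, S.card = m + 1 := ⟨S.card - 1, by
      have : 0 < S.card := card_pos.2 ⟨a, by simp [hSdef, moved, hmv]⟩
      omega⟩
    rw [hm, show (m + 1) * (m + 1) - (m + 1) = m * (m + 1) from Nat.sub_eq_of_eq_add (by ring), hAB] at hle
    have hBpos : 0 < B := hB' ▸ card_pos.2 ⟨1, by simp⟩
    have : n ≤ m * m := Nat.le_of_mul_le_mul_left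
      (by linarith : (m + 1) * (m + 1) * B * n ≤ (m + 1) * (m + 1) * B * (m * m)) (by positivity)
    rw [hn, hm] at hcon
    nlinarith
  -- the commutator is a three-cycle
  obtain ⟨p, hp⟩ := card_eq_one.1 ht
  apply hA
  have : IsPreprimitive (MulAction.toPermHom G Ω).range Ω :=
    IsPreprimitive.of_surjective (f := ({ toFun := id, map_smul' := fun _ _ => rfl } :
      Ω →ₑ[(MulAction.toPermHom G Ω).rangeRestrict] Ω)) Function.surjective_id
  have hsupp : (MulAction.toPermHom G Ω (t * g * t⁻¹)).support ∩ (MulAction.toPermHom G Ω g).support = {t • p} := by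
    ext z
    have hz : (S.filter fun z => t • z ∈ S) = {p} := hp
    have := Finset.ext_iff.1 hz (t⁻¹ • z)
    simp only [mem_filter, hSdef, moved, mem_univ, true_and, smul_inv_smul, mem_singleton,
      inv_smul_eq_iff] at this
    rw [mem_inter, Equiv.Perm.mem_support, Equiv.Perm.mem_support, mem_singleton, ← this]
    refine and_congr (not_congr ?_) Iff.rfl
    show (t * g * t⁻¹) • z = z ↔ _
    rw [mul_smul, mul_smul, ← eq_inv_smul_iff]
  refine Equiv.Perm.alternatingGroup_le_of_isPreprimitive_of_isThreeCycle_mem this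
    (threeCycle_of_inter hsupp) ?_
  exact ⟨⁅t * g * t⁻¹, g⁆, map_commutatorElement _ _ _⟩

/-- Every non-trivial element moves at least `(√n - 1) / 2` points. -/
theorem sqrt_le_moved [Finite G] [FaithfulSMul G Ω] (hprim : IsPreprimitive G Ω)
    (hA : ¬ alternatingGroup Ω ≤ (MulAction.toPermHom G Ω).range) {g : G} (hg : g ≠ 1) :
    (Real.sqrt (Fintype.card Ω) - 1) / 2 ≤ (Fintype.card Ω : ℝ) - Nat.card (MulAction.fixedBy Ω g) := by
  obtain ⟨a, ha⟩ : ∃ a : Ω, g • a ≠ a := by
    by_contra h
    push Not at h
    exact hg (eq_of_smul_eq_smul (α := Ω) fun a => by rw [h a, one_smul])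
  have key : Fintype.card Ω ≤ (2 * (moved (Ω := Ω) g).card + 1) ^ 2 := by
    by_cases h2 : ∀ u v : Ω, u ≠ v → orbit G (u, v) = orbit G (a, g • a)
    · exact two_transitive_bound hprim hA ha.symm ha h2
    · refine (dset_bound hprim ha.symm h2).trans ?_
      refine Nat.pow_le_pow_left (Nat.add_le_add_right (Nat.mul_le_mul_left 2 (card_le_card fun z hz => ?_)) 1) 2
      simp only [moved, mem_filter, mem_univ, true_and]
      intro hfix
      have := orb_smul g a z
      rw [hfix] at this
      exact mem_dset.1 hz this.symm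
  have hsum : Nat.card (MulAction.fixedBy Ω g) + (moved (Ω := Ω) g).card = Fintype.card Ω := by
    rw [Nat.card_eq_fintype_card, Fintype.card_subtype, moved, ← card_univ]
    exact card_filter_add_card_filter_not (fun z => g • z = z)
  have h1 : Real.sqrt (Fintype.card Ω) ≤ 2 * ((moved (Ω := Ω) g).card : ℝ) + 1 := by
    rw [Real.sqrt_le_left (by positivity)]
    exact_mod_cast key
  have h2 : ((Nat.card (MulAction.fixedBy Ω g) : ℝ) + (moved (Ω := Ω) g).card) = Fintype.card Ω := by
    exact_mod_cast hsum
  linarith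

end Cfsg.Agent.Fus.MinDegree
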