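import Cfsg.Agent.Lib.Fus.ModelBasic

/-!
Uniqueness of models.
-/

set_option autoImplicit false
set_option linter.style.haveILetI false
set_option linter.unusedSectionVars false

open scoped Classical

attribute [local instance] Fintype.ofFinite

namespace Cfsg.Agent.Fus

open Subgroup FusionSystem

universe u v w

variable {Ω : Type u} [Group Ω] {S : Subgroup Ω} [Finite S] {F : FusionSystem S}
  {G : Type v} [Group G] {ι : S →* G} {p : ℕ} [Fact p.Prime]

/-- The centralizer of the `p`-core of a model is an abelian `p`-group. -/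
theorem centralizer_pCore_comm (hG : F.IsModel p G ι) (a b : G)
    (ha : a ∈ Subgroup.centralizer (pCore p G : Set G))
    (hb : b ∈ Subgroup.centralizer (pCore p G : Set G)) : a * b = b * a :=
  (Subgroup.mem_centralizer_iff.1 ha b (hG.2.2.2 hb)).symm

theorem coprime_card_centralizer (hG : F.IsModel p G ι) :
    (Nat.card (Subgroup.centralizer (pCore p G : Set G))).Coprime ι.range.index := by
  obtain ⟨hfin, h, ⟨T, hT⟩, hC⟩ := hG
  obtain ⟨k, hk⟩ := ((Grp.pCore_isPGroup (p := p) (G := G)).to_le hC).exists_card_eq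
  rw [hk]
  refine Nat.Coprime.pow_left k ((Fact.out : p.Prime).coprime_iff_not_dvd.2 ?_)
  rw [← hT]
  exact T.not_dvd_index

/-- An automorphism of a model fixing `S` is conjugation by a central element of `S`. -/
theorem exists_center_of_model_aut (hG : F.IsModel p G ι) (ψ : G ≃* G)
    (hψ : ∀ x : S, ψ (ι x) = ι x) :
    ∃ z : S, z ∈ Subgroup.center S ∧ ∀ g : G, ψ g = ι z * g * (ι z)⁻¹ := by
  obtain ⟨hfin, h, ⟨T, hT⟩, hC⟩ := id hG
  set A := Subgroup.centralizer (pCore p G : Set G) with hA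
  haveI hPn : (pCore p G).Normal := Grp.pCore_isNormal
  letI : CommGroup A :=
    { (inferInstance : Group A) with
      mul_comm := fun a b => Subtype.ext (centralizer_pCore_comm hG a b a.2 b.2) }
  have hfix : ∀ y ∈ pCore p G, ψ y = y := fun y hy => by
    obtain ⟨x, rfl⟩ : y ∈ ι.range := hT ▸ Grp.pCore_le_sylow T hy
    exact hψ x
  have he : ∀ g, ψ g * g⁻¹ ∈ A := fun g => Subgroup.mem_centralizer_iff.2 fun y hy => by
    have h1 := hfix _ (hPn.conj_mem y hy g⁻¹)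
    simp only [map_mul, map_inv, inv_inv, hfix y hy] at h1
    calc y * (ψ g * g⁻¹) = ψ g * ((ψ g)⁻¹ * y * ψ g) * g⁻¹ := by group
      _ = ψ g * (g⁻¹ * y * g) * g⁻¹ := by rw [h1]
      _ = ψ g * g⁻¹ * y := by group
  let e : G → A := fun g => ⟨_, he g⟩
  have hAn : A.Normal := inferInstance
  let c : G → A →* A := fun g => MonoidHom.mk' (fun a => ⟨g * a * g⁻¹, hAn.conj_mem _ a.2 g⟩)
    fun a b => Subtype.ext (by simp only [Subgroup.coe_mul]; group)
  have hcoc : ∀ g k, e (g * k) = e g * c g (e k) := fun g k => Subtype.ext (by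
    show ψ (g * k) * (g * k)⁻¹ = ψ g * g⁻¹ * (g * (ψ k * k⁻¹) * g⁻¹)
    rw [map_mul]
    group)
  have her : ∀ g, ∀ s ∈ ι.range, e (g * s) = e g := by
    rintro g _ ⟨x, rfl⟩
    refine Subtype.ext ?_
    show ψ (g * ι x) * (g * ι x)⁻¹ = ψ g * g⁻¹
    rw [map_mul, hψ]
    group
  have hq : ∀ g k : G, QuotientGroup.leftRel ι.range g k → e g = e k := fun g k hgk => by
    rw [QuotientGroup.leftRel_apply] at hgk
    rw [← her g _ hgk, mul_inv_cancel_left]
  let E : G ⧸ ι.range → A := Quotient.lift e hq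
  set f := ∏ x : G ⧸ ι.range, E x with hf
  have key : ∀ g, f = e g ^ Nat.card (G ⧸ ι.range) * c g f := fun g => by
    rw [hf, map_prod, Nat.card_eq_fintype_card, ← Finset.card_univ, ← Finset.prod_const,
      ← Finset.prod_mul_distrib]
    refine (Fintype.prod_equiv (MulAction.toPerm g) _ _ fun x => ?_).symm
    induction x using Quotient.inductionOn with
    | h k => exact (hcoc g k).symm
  have hco : (Nat.card A).Coprime (Nat.card (G ⧸ ι.range)) := coprime_card_centralizer hG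
  obtain ⟨a, ha⟩ := (powCoprime hco).surjective f
  rw [powCoprime_apply] at ha
  have hψg : ∀ g, ψ g = a * g * (a : G)⁻¹ := fun g => by
    have h1 : e g * c g a = a := (powCoprime hco).injective (by
      rw [powCoprime_apply, powCoprime_apply, mul_pow, ← map_pow, ha, ← key g])
    have h2 : ψ g * g⁻¹ * (g * a * g⁻¹) = (a : G) := congrArg Subtype.val h1
    calc ψ g = (ψ g * g⁻¹ * (g * a * g⁻¹)) * (g * (a : G)⁻¹) := by group
      _ = a * g * (a : G)⁻¹ := by rw [h2, mul_assoc]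
  obtain ⟨z, hz⟩ : (a : G) ∈ ι.range := hT ▸ Grp.pCore_le_sylow T (hC a.2)
  refine ⟨z, Subgroup.mem_center_iff.2 fun x => h.1 ?_, fun g => hz ▸ hψg g⟩
  have h1 := (hψ x).symm.trans (hψg (ι x))
  rw [← hz, eq_mul_inv_iff_mul_eq] at h1
  rw [map_mul, map_mul]
  exact h1

variable {G₁ : Type v} [Group G₁] {ι₁ : S →* G₁} {G₂ : Type w} [Group G₂] {ι₂ : S →* G₂}

/-- A model maps into any other model, compatibly with `S`. -/
theorem exists_hom_model (hS : IsPGroup p S) (h₁ : F.IsModel p G₁ ι₁) (h₂ : F.IsModel p G₂ ι₂) :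
    ∃ φ : G₁ →* G₂, Function.Injective φ ∧ ∀ x, φ (ι₁ x) = ι₂ x := by
  obtain ⟨hfin₁, hr₁, ⟨T₁, hT₁⟩, hC₁⟩ := id h₁
  obtain ⟨hfin₂, hr₂, ⟨T₂, hT₂⟩, hC₂⟩ := id h₂
  have hU₁ := modelCore_eq_core hS h₁
  have hU₂ := modelCore_eq_core hS h₂
  set U := F.core with hU
  have hn₁ : (pCore p G₁).Normal := Grp.pCore_isNormal
  have hP₂ : ∀ y ∈ pCore p G₂, ∃ u : S, (u : Ω) ∈ U ∧ ι₂ u = y := fun y hy => by
    obtain ⟨u, hu⟩ : y ∈ ι₂.range := hT₂ ▸ Grp.pCore_le_sylow T₂ hy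
    exact ⟨u, hU₂ ▸ mem_modelCore.2 (hu ▸ hy), hu⟩
  let Agree : G₁ → G₂ → Prop := fun g t => ∀ u : S, (u : Ω) ∈ U → ∃ v : S, (v : Ω) ∈ U ∧
    g * ι₁ u * g⁻¹ = ι₁ v ∧ t * ι₂ u * t⁻¹ = ι₂ v
  have hstab : ∀ g : G₁, ∀ u : S, (u : Ω) ∈ U →
      ∃ v : S, (v : Ω) ∈ U ∧ g * ι₁ u * g⁻¹ = ι₁ v := fun g u hu => by
    have h1 := hn₁.conj_mem _ (mem_modelCore.1 (hU₁.symm ▸ hu)) g
    obtain ⟨v, hv⟩ : g * ι₁ u * g⁻¹ ∈ ι₁.range := hT₁ ▸ Grp.pCore_le_sylow T₁ h1
    exact ⟨v, hU₁ ▸ mem_modelCore.2 (hv ▸ h1), hv.symm⟩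
  -- a section on double cosets
  let st : Setoid G₁ :=
    { r := fun g k => ∃ a b : S, k = ι₁ a * g * ι₁ b
      iseqv := ⟨fun g => ⟨1, 1, by simp⟩, fun ⟨a, b, e⟩ => ⟨a⁻¹, b⁻¹, by rw [e]; simp [mul_assoc]⟩,
        fun ⟨a, b, e⟩ ⟨a', b', e'⟩ => ⟨a' * a, b * b', by
          rw [e', e, map_mul, map_mul]; group⟩⟩ }
  let rep : G₁ → G₁ := fun g => Quotient.out (Quotient.mk st g)
  have hrep : ∀ g, ∃ ab : S × S, g = ι₁ ab.1 * rep g * ι₁ ab.2 := fun g => by
    obtain ⟨a, b, e⟩ := @Quotient.mk_out _ st g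
    exact ⟨(a, b), e⟩
  have hreq : ∀ (g : G₁) (a b : S), rep (ι₁ a * g * ι₁ b) = rep g := fun g a b =>
    congrArg Quotient.out (Quotient.sound (s := st) (show ∃ c d : S, g = ι₁ c * _ * ι₁ d from
      ⟨a⁻¹, b⁻¹, by simp [mul_assoc]⟩))
  choose ab hab using hrep
  have hτ : ∀ r : G₁, ∃ t : G₂, ∀ x y : S, r * ι₁ x * r⁻¹ = ι₁ y → t * ι₂ x * t⁻¹ = ι₂ y := fun r => by
    let D : Subgroup Ω := (ι₁.range.comap ((MulAut.conj r).toMonoidHom.comp ι₁)).map S.subtype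
    obtain ⟨f, hf, hfe⟩ := exists_isMap_of_conj hr₁ (P := D) (Subgroup.map_subtype_le _) r
      fun x hx => by
        obtain ⟨y, hy, e⟩ := hx
        rwa [Subtype.ext e] at hy
    obtain ⟨t, ht⟩ := exists_conj_of_isMap hr₂ hf
    refine ⟨t, fun x y hxy => ?_⟩
    have hxD : (x : Ω) ∈ D := ⟨x, ⟨y, hxy.symm⟩, rfl⟩
    obtain ⟨v, hv, hv'⟩ := hfe x hxD
    rw [← ht x hxD]
    refine congrArg ι₂ ?_
    rw [show y = v from hr₁.1 (hxy.symm.trans hv'.symm)]
    exact Subtype.ext hv.symm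
  choose τ hτ using hτ
  let t : G₁ → G₂ := fun g => ι₂ (ab g).1 * τ (rep g) * ι₂ (ab g).2
  have hwd : ∀ (g : G₁) (a b : S), g = ι₁ a * rep g * ι₁ b → t g = ι₂ a * τ (rep g) * ι₂ b := by
    intro g a b e
    have e0 := (hab g).symm.trans e
    have h1 : rep g * ι₁ ((ab g).2 * b⁻¹) * (rep g)⁻¹ = ι₁ ((ab g).1⁻¹ * a) := by
      rw [map_mul, map_mul, map_inv, map_inv]
      calc rep g * (ι₁ (ab g).2 * (ι₁ b)⁻¹) * (rep g)⁻¹
          = (ι₁ (ab g).1)⁻¹ * (ι₁ (ab g).1 * rep g * ι₁ (ab g).2) * (ι₁ b)⁻¹ * (rep g)⁻¹ := by group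
        _ = (ι₁ (ab g).1)⁻¹ * ι₁ a := by rw [e0]; group
    have h2 := hτ _ _ _ h1
    rw [map_mul, map_mul, map_inv, map_inv] at h2
    calc t g = ι₂ (ab g).1 * (τ (rep g) * (ι₂ (ab g).2 * (ι₂ b)⁻¹) * (τ (rep g))⁻¹) *
          τ (rep g) * ι₂ b := by show ι₂ _ * _ * _ = _; group
      _ = ι₂ a * τ (rep g) * ι₂ b := by rw [h2]; group
  have htl : ∀ (g : G₁) (a b : S), t (ι₁ a * g * ι₁ b) = ι₂ a * t g * ι₂ b := fun g a b => by
    have h1 := hwd (ι₁ a * g * ι₁ b) (a * (ab g).1) ((ab g).2 * b) (by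
      rw [hreq, map_mul, map_mul]
      conv_lhs => rw [hab g]
      group)
    rw [h1, hreq, map_mul, map_mul]
    show _ = ι₂ a * (ι₂ _ * _ * ι₂ _) * ι₂ b
    group
  have hag : ∀ g, Agree g (t g) := fun g u hu => by
    obtain ⟨v, hv, hv'⟩ := hstab g u hu
    refine ⟨v, hv, hv', ?_⟩
    have hg := hab g
    have h1 : rep g * ι₁ ((ab g).2 * u * (ab g).2⁻¹) * (rep g)⁻¹ =
        ι₁ ((ab g).1⁻¹ * v * (ab g).1) := by
      simp only [map_mul, map_inv]
      rw [← hv']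
      generalize rep g = r at hg ⊢
      generalize (ab g).1 = a at hg ⊢
      generalize (ab g).2 = b at hg ⊢
      subst hg
      group
    have h2 := hτ _ _ _ h1
    simp only [map_mul, map_inv] at h2
    calc t g * ι₂ u * (t g)⁻¹ = ι₂ (ab g).1 *
          (τ (rep g) * (ι₂ (ab g).2 * ι₂ u * (ι₂ (ab g).2)⁻¹) * (τ (rep g))⁻¹) *
          (ι₂ (ab g).1)⁻¹ := by
            show (ι₂ _ * _ * _) * _ * (ι₂ _ * _ * _)⁻¹ = _
            group
      _ = ι₂ v := by rw [h2]; group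
  set A := Subgroup.centralizer (pCore p G₂ : Set G₂) with hA
  haveI : (pCore p G₂).Normal := Grp.pCore_isNormal
  letI : CommGroup A :=
    { (inferInstance : Group A) with
      mul_comm := fun a b => Subtype.ext (centralizer_pCore_comm h₂ a b a.2 b.2) }
  have hmemA : ∀ g k, t g * t k * (t (g * k))⁻¹ ∈ A := fun g k =>
    Subgroup.mem_centralizer_iff.2 fun y hy => by
      obtain ⟨u, hu, rfl⟩ := hP₂ y hy
      -- move `u` backwards
      obtain ⟨w, hw, hw'⟩ := hstab (g * k)⁻¹ u hu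
      obtain ⟨v₁, hv₁, a₁, b₁⟩ := hag k w hw
      obtain ⟨v₂, hv₂, a₂, b₂⟩ := hag g v₁ hv₁
      obtain ⟨v₃, hv₃, a₃, b₃⟩ := hag (g * k) w hw
      have e3 : v₃ = u := hr₁.1 (by rw [← a₃, ← hw']; group)
      have e2 : v₂ = u := hr₁.1 (by rw [← a₂, ← a₁, ← hw']; group)
      subst e3 e2
      calc ι₂ v₂ * (t g * t k * (t (g * k))⁻¹)
          = t g * ι₂ v₁ * (t g)⁻¹ * (t g * t k * (t (g * k))⁻¹) := by rw [b₂]
        _ = t g * (t k * ι₂ w * (t k)⁻¹) * (t g)⁻¹ * (t g * t k * (t (g * k))⁻¹) := by rw [b₁]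
        _ = t g * t k * (t (g * k))⁻¹ * (t (g * k) * ι₂ w * (t (g * k))⁻¹) := by group
        _ = t g * t k * (t (g * k))⁻¹ * ι₂ v₂ := by rw [b₃]
  let e : G₁ → G₁ → A := fun g k => ⟨_, hmemA g k⟩
  have hAn : A.Normal := inferInstance
  let c : G₁ → A →* A := fun g => MonoidHom.mk'
    (fun a => ⟨t g * a * (t g)⁻¹, hAn.conj_mem _ a.2 _⟩)
    fun a b => Subtype.ext (by simp only [Subgroup.coe_mul]; group)
  have hcoc : ∀ g h k, e g h * e (g * h) k = c g (e h k) * e g (h * k) := fun g h k => Subtype.ext (by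
    show t g * t h * (t (g * h))⁻¹ * (t (g * h) * t k * (t (g * h * k))⁻¹) =
      t g * (t h * t k * (t (h * k))⁻¹) * (t g)⁻¹ * (t g * t (h * k) * (t (g * (h * k)))⁻¹)
    rw [mul_assoc g h k]
    group)
  have her : ∀ g k, ∀ s ∈ ι₁.range, e g (k * s) = e g k := by
    rintro g k _ ⟨x, rfl⟩
    refine Subtype.ext ?_
    show t g * t (k * ι₁ x) * (t (g * (k * ι₁ x)))⁻¹ = t g * t k * (t (g * k))⁻¹
    have h1 := htl k 1 x
    have h2 := htl (g * k) 1 x
    simp only [map_one, one_mul] at h1 h2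
    rw [h1, ← mul_assoc g k, h2]
    group
  have hq : ∀ g k k' : G₁, QuotientGroup.leftRel ι₁.range k k' → e g k = e g k' := fun g k k' h => by
    rw [QuotientGroup.leftRel_apply] at h
    rw [← her g k _ h, mul_inv_cancel_left]
  let E : G₁ → G₁ ⧸ ι₁.range → A := fun g => Quotient.lift (e g) (hq g)
  set n := Nat.card (G₁ ⧸ ι₁.range) with hn
  let f : G₁ → A := fun g => ∏ x : G₁ ⧸ ι₁.range, E g x
  have key : ∀ g h, e g h ^ n * f (g * h) = c g (f h) * f g := fun g h => by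
    rw [hn, map_prod, Nat.card_eq_fintype_card, ← Finset.card_univ, ← Finset.prod_const,
      ← Finset.prod_mul_distrib,
      show f g = ∏ x : G₁ ⧸ ι₁.range, E g (h • x) from
        (Fintype.prod_equiv (MulAction.toPerm h) _ _ fun x => rfl).symm,
      ← Finset.prod_mul_distrib]
    refine Finset.prod_congr rfl fun x _ => ?_
    induction x using Quotient.inductionOn with
    | h k => exact hcoc g h k
  have hco : (Nat.card A).Coprime n := by
    obtain ⟨i, hi⟩ := ((Grp.pCore_isPGroup (p := p) (G := G₂)).to_le hC₂).exists_card_eq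
    rw [hi]
    refine Nat.Coprime.pow_left i ((Fact.out : p.Prime).coprime_iff_not_dvd.2 ?_)
    show ¬ p ∣ ι₁.range.index
    rw [← hT₁]
    exact T₁.not_dvd_index
  let a : G₁ → A := fun g => (powCoprime hco).symm (f g)
  have ha : ∀ g, a g ^ n = f g := fun g => (powCoprime hco).apply_symm_apply (f g)
  have hae : ∀ g h, e g h * a (g * h) = c g (a h) * a g := fun g h =>
    (powCoprime hco).injective (by
      show (e g h * a (g * h)) ^ n = (c g (a h) * a g) ^ n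
      rw [mul_pow, mul_pow, ← map_pow (c g), ha, ha, ha, key])
  let φ : G₁ →* G₂ := MonoidHom.mk' (fun g => (a g : G₂)⁻¹ * t g) fun g h => by
    have h1 : t g * t h * (t (g * h))⁻¹ * a (g * h) = t g * a h * (t g)⁻¹ * a g :=
      congrArg Subtype.val (hae g h)
    calc (a (g * h) : G₂)⁻¹ * t (g * h)
        = (t g * t h * (t (g * h))⁻¹ * a (g * h))⁻¹ * (t g * t h) := by group
      _ = (a g : G₂)⁻¹ * t g * ((a h : G₂)⁻¹ * t h) := by rw [h1]; group
  have hφι : ∀ x, φ (ι₁ x) = ι₂ x := fun x => by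
    have h1 : t (ι₁ x) = ι₂ x * t 1 := by simpa using htl 1 x 1
    have h2 : t (ι₁ x) = t 1 * ι₂ x := by simpa using htl 1 1 x
    have ht1 : t 1 ∈ A := by simpa using hmemA 1 1
    have hEx : ∀ y, E (ι₁ x) y = ⟨t 1, ht1⟩ := fun y => by
      induction y using Quotient.inductionOn with
      | h k =>
        refine Subtype.ext ?_
        show t (ι₁ x) * t k * (t (ι₁ x * k))⁻¹ = t 1
        rw [show t (ι₁ x * k) = ι₂ x * t k by simpa using htl k x 1, h2]
        group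
    have hax : a (ι₁ x) = ⟨t 1, ht1⟩ := (powCoprime hco).injective (by
      rw [powCoprime_apply, powCoprime_apply, ha]
      show ∏ y, E (ι₁ x) y = _
      rw [Finset.prod_congr rfl fun y _ => hEx y, Finset.prod_const, Finset.card_univ, hn,
        Nat.card_eq_fintype_card])
    show (a (ι₁ x) : G₂)⁻¹ * t (ι₁ x) = ι₂ x
    rw [hax, h2]
    group
  refine ⟨φ, (injective_iff_map_eq_one φ).2 fun g hg => ?_, hφι⟩
  have htg : t g ∈ A := by
    rw [show t g = a g from (inv_mul_eq_one.1 hg).symm]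
    exact (a g).2
  have hgC : g ∈ Subgroup.centralizer (pCore p G₁ : Set G₁) :=
    Subgroup.mem_centralizer_iff.2 fun y hy => by
      obtain ⟨u, rfl⟩ : y ∈ ι₁.range := hT₁ ▸ Grp.pCore_le_sylow T₁ hy
      have hu : (u : Ω) ∈ U := hU₁ ▸ mem_modelCore.2 hy
      obtain ⟨v, hv, e1, e2⟩ := hag g u hu
      rw [← Subgroup.mem_centralizer_iff.1 htg _ (mem_modelCore.1 (hU₂.symm ▸ hu)),
        mul_inv_cancel_right] at e2
      rw [← hr₂.1 e2] at e1
      exact (mul_inv_eq_iff_eq_mul.1 e1).symm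
  obtain ⟨s, rfl⟩ : g ∈ ι₁.range := hT₁ ▸ Grp.pCore_le_sylow T₁ (hC₁ hgC)
  rw [hφι] at hg
  rw [(map_eq_one_iff _ hr₂.1).1 hg, map_one]

/-- Models are unique. -/
theorem exists_equiv_model (hS : IsPGroup p S) (h₁ : F.IsModel p G₁ ι₁) (h₂ : F.IsModel p G₂ ι₂) :
    ∃ φ : G₁ ≃* G₂, ∀ x, φ (ι₁ x) = ι₂ x := by
  obtain ⟨φ, hφ, hφι⟩ := exists_hom_model hS h₁ h₂
  obtain ⟨ψ, hψ, -⟩ := exists_hom_model hS h₂ h₁
  haveI := h₁.1
  haveI := h₂.1
  have hc : Nat.card G₁ = Nat.card G₂ :=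
    le_antisymm (Nat.card_le_card_of_injective φ hφ) (Nat.card_le_card_of_injective ψ hψ)
  exact ⟨MulEquiv.ofBijective φ ((Nat.bijective_iff_injective_and_card φ).2 ⟨hφ, hc⟩), hφι⟩

end Cfsg.Agent.Fus
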