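import Mathlib
import Cfsg.Agent.Lib.Fus.NormalCrit
import Cfsg.Agent.Lib.Grp.OmegaFixed
import Cfsg.Prelude.Def_PLocal

/-!
Normality of a strongly closed subgroup from a strongly closed chain in the subgroup generated by its
elements of order `p`, for odd `p`.
-/

set_option autoImplicit false
set_option linter.style.haveILetI false

namespace Cfsg.Agent.Fus

open Cfsg Cfsg.FusionSystem
open scoped commutatorElement

universe u

variable {Ω : Type u} [Group Ω] {S : Subgroup Ω} {F : FusionSystem S} {p : ℕ} [Fact p.Prime]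

omit [Fact p.Prime] in
theorem omegaOne_le (P : Subgroup Ω) : omegaOne p P ≤ P :=
  (Subgroup.closure_le P).mpr fun _ hx => hx.1

omit [Fact p.Prime] in
theorem omegaOne_subgroupOf_characteristic (P : Subgroup Ω) :
    ((omegaOne p P).subgroupOf P).Characteristic := by
  have e : (omegaOne p P).subgroupOf P = Subgroup.closure {x : P | x ^ p = 1} := by
    refine Subgroup.map_injective P.subtype_injective ?_
    rw [Subgroup.map_subgroupOf_eq_of_le (omegaOne_le P), MonoidHom.map_closure]
    refine congrArg Subgroup.closure ?_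
    ext x
    constructor
    · rintro ⟨hx, hxp⟩
      exact ⟨⟨x, hx⟩, Subtype.ext hxp, rfl⟩
    · rintro ⟨y, hy, rfl⟩
      exact ⟨y.2, congrArg Subtype.val hy⟩
  rw [e, Subgroup.characteristic_iff_map_le]
  intro α
  rw [MonoidHom.map_closure]
  refine Subgroup.closure_mono ?_
  rintro _ ⟨x, hx, rfl⟩
  show (α.toMonoidHom x) ^ p = 1
  rw [← map_pow, show x ^ p = 1 from hx, map_one]

/-- A `p`-subgroup acting on a two-level chain of a centric radical lies inside. -/
theorem le_of_two_level [Finite S] (hS : IsPGroup p S) {R Q : Subgroup Ω} (hRc : F.IsCentric R)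
    (hRr : F.IsRadical p R) (hQS : Q ≤ S) (hQn : ∀ s ∈ S, ∀ q ∈ Q, s * q * s⁻¹ ∈ Q)
    (n : ℕ) (A : ℕ → Subgroup Ω) (hA0 : A 0 = ⊥)
    (hinv : ∀ β ∈ F.autGroup R, ∀ i ≤ n, ∀ x : R, (x : Ω) ∈ A i → ((β x : R) : Ω) ∈ A i)
    (hQinv : ∀ β ∈ F.autGroup R, ∀ x : R, (x : Ω) ∈ Q → ((β x : R) : Ω) ∈ Q)
    (hfix : ∀ β ∈ F.autGroup R, ∀ m : ℕ, m.Coprime p → β ^ m = 1 →
      (∀ x : R, (x : Ω) ∈ A n → β x = x) → ∀ x : R, (x : Ω) ∈ Q → β x = x)
    (hstep : ∀ i < n, ∀ q ∈ Q, q ∈ Subgroup.normalizer (R : Set Ω) → ∀ x ∈ R, x ∈ A (i + 1) →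
      x⁻¹ * (q * x * q⁻¹) ∈ A i) : Q ≤ R := by
  have hRS := hRc.1
  haveI := finite_of_le hRS
  let K : Subgroup (F.autGroup R) :=
    { carrier := {α | (∀ x : R, ((x⁻¹ * (α : MulAut R) x : R) : Ω) ∈ Q) ∧
        ∀ i < n, ∀ x : R, (x : Ω) ∈ A (i + 1) →
          ((x⁻¹ * (α : MulAut R) x : R) : Ω) ∈ A i}
      mul_mem' := by
        intro a b ha hb
        have e : ∀ x : R, x⁻¹ * ((a * b : F.autGroup R) : MulAut R) x =
            (x⁻¹ * (b : MulAut R) x) *
              (((b : MulAut R) x)⁻¹ * (a : MulAut R) ((b : MulAut R) x)) := fun x => by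
          simp [mul_assoc]
        refine ⟨fun x => ?_, fun i hi x hx => ?_⟩
        · rw [e, Subgroup.coe_mul]
          exact mul_mem (hb.1 x) (ha.1 _)
        · rw [e, Subgroup.coe_mul]
          exact mul_mem (hb.2 i hi x hx) (ha.2 i hi _ (hinv b b.2 _ hi x hx))
      one_mem' := ⟨fun x => by simp, fun i hi x hx => by simp⟩
      inv_mem' := by
        intro a ha
        have e : ∀ x : R, x⁻¹ * ((a⁻¹ : F.autGroup R) : MulAut R) x =
            ((((a⁻¹ : F.autGroup R) : MulAut R) x)⁻¹ *
              (a : MulAut R) (((a⁻¹ : F.autGroup R) : MulAut R) x))⁻¹ := fun x => by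
          simp
        refine ⟨fun x => ?_, fun i hi x hx => ?_⟩
        · rw [e, Subgroup.coe_inv]
          exact inv_mem (ha.1 _)
        · rw [e, Subgroup.coe_inv]
          exact inv_mem (ha.2 i hi _ (hinv _ (a⁻¹).2 _ hi x hx)) }
  have hKn : K.Normal := by
    refine ⟨fun c hc b => ?_⟩
    have e : ∀ x : R, x⁻¹ * ((b * c * b⁻¹ : F.autGroup R) : MulAut R) x = (b : MulAut R)
        ((((b⁻¹ : F.autGroup R) : MulAut R) x)⁻¹ *
          (c : MulAut R) (((b⁻¹ : F.autGroup R) : MulAut R) x)) := fun x => by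
      simp
    refine ⟨fun x => ?_, fun i hi x hx => ?_⟩
    · rw [e]
      exact hQinv _ b.2 _ (hc.1 _)
    · rw [e]
      exact hinv _ b.2 _ hi.le _ (hc.2 i hi _ (hinv _ (b⁻¹).2 _ hi x hx))
  have hKp : IsPGroup p K := by
    intro α
    obtain ⟨k, m, hm, hord⟩ := Nat.exists_eq_pow_mul_and_not_dvd
      (orderOf_pos α).ne' p (Fact.out : p.Prime).ne_one
    refine ⟨k, ?_⟩
    set β := α ^ p ^ k with hβ
    have hβm : ((β : F.autGroup R) : MulAut R) ^ m = 1 := by
      rw [← SubgroupClass.coe_pow, ← SubgroupClass.coe_pow, hβ, ← pow_mul, ← hord,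
        pow_orderOf_eq_one]
      rfl
    have hmc : m.Coprime p := ((Fact.out : p.Prime).coprime_iff_not_dvd.2 hm).symm
    have hfixA : ∀ i ≤ n, ∀ x : R, (x : Ω) ∈ A i → ((β : F.autGroup R) : MulAut R) x = x := by
      intro i
      induction i with
      | zero =>
        intro _ x hx
        rw [hA0, Subgroup.mem_bot, OneMemClass.coe_eq_one] at hx
        rw [hx, map_one]
      | succ i ih =>
        intro hi x hx
        exact fix_step hS hRS _ hmc hβm (ih (Nat.le_of_succ_le hi) _ (β.2.2 i hi x hx))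
    refine Subtype.ext (Subtype.ext (MulEquiv.ext fun x => ?_))
    exact fix_step hS hRS _ hmc hβm
      (hfix _ (β : F.autGroup R).2 m hmc hβm (hfixA n le_rfl) _ (β.2.1 x))
  refine le_of_pgroup_aut hS hRc hRr hQS hQn K hKn hKp fun α hα => ?_
  obtain ⟨q, hq, hqe⟩ := mem_autInducedBy.1 hα
  have hqN := mem_normalizer_of_conj_aut hqe
  refine ⟨fun x => ?_, fun i hi x hx => ?_⟩
  · rw [Subgroup.coe_mul, Subgroup.coe_inv, hqe,
      show (x : Ω)⁻¹ * (q * x * q⁻¹) = (x : Ω)⁻¹ * q * ((x : Ω)⁻¹)⁻¹ * q⁻¹ by group]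
    exact Q.mul_mem (hQn _ (S.inv_mem (hRS x.2)) q hq) (Q.inv_mem hq)
  · rw [Subgroup.coe_mul, Subgroup.coe_inv, hqe]
    exact hstep i hi q hq hqN x x.2 hx

/-- For odd `p` a strongly closed subgroup is normal iff its subgroup generated by elements of order `p`
has a central strongly closed chain. -/
theorem isNormal_iff_omega_chain [Finite S] (hS : IsPGroup p S) (hF : F.IsSaturated p) (hp : p ≠ 2)
    {P : Subgroup Ω} (hP : F.StronglyClosed P) :
    F.IsNormal P ↔ ∃ (n : ℕ) (Q : Fin (n + 1) → Subgroup Ω), Q 0 = ⊥ ∧ Q (Fin.last n) = omegaOne p P ∧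
      Monotone Q ∧ (∀ i : Fin (n + 1), F.StronglyClosed (Q i)) ∧
      ∀ i : Fin n, ⁅Q i.succ, P⁆ ≤ Q i.castSucc := by
  haveI := finite_of_le hP.1
  constructor
  · intro hn
    haveI : Group.IsNilpotent P := (hS.to_le hP.1).isNilpotent
    have hO := stronglyClosed_of_characteristic hn (omegaOne_le P) (omegaOne_subgroupOf_characteristic (p := p) P)
    refine ⟨Group.nilpotencyClass P, fun i => (Subgroup.upperCentralSeries P i.val).map P.subtype ⊓ omegaOne p P,
      by simp, ?_, fun i j hij => inf_le_inf_right _ (Subgroup.map_mono (Subgroup.upperCentralSeries_mono P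
        (Fin.le_def.1 hij))), fun i => ?_, fun i => ?_⟩
    · simp [← MonoidHom.range_eq_map, omegaOne_le]
    · have hZ : F.StronglyClosed ((Subgroup.upperCentralSeries P i.val).map P.subtype) := by
        refine stronglyClosed_of_characteristic hn (Subgroup.map_subtype_le _) ?_
        rw [Subgroup.subgroupOf, Subgroup.comap_map_eq_self_of_injective P.subtype_injective]
        infer_instance
      exact stronglyClosed_of_forall (inf_le_right.trans hO.1) fun R hR f hf x hx =>
        ⟨StronglyClosed.apply_mem hZ hf (hR.trans inf_le_left) hx,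
          StronglyClosed.apply_mem hO hf (hR.trans inf_le_right) hx⟩
    · refine le_inf ((Subgroup.commutator_mono inf_le_left le_rfl).trans ?_)
        ((Subgroup.commutator_mono inf_le_right le_rfl).trans ?_)
      · conv_lhs => arg 2; rw [← P.range_subtype, MonoidHom.range_eq_map]
        rw [← Subgroup.map_commutator]
        exact Subgroup.map_mono (Subgroup.commutator_upperCentralSeries_top_le P i)
      · rw [Subgroup.commutator_le]
        intro a ha b hb
        rw [commutatorElement_def, show a * b * a⁻¹ * b⁻¹ = a * (b * a⁻¹ * b⁻¹) by group]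
        exact (omegaOne p P).mul_mem ha
          (StronglyClosed.conj_mem' hO (hP.1 hb) ((omegaOne p P).inv_mem ha))
  · rintro ⟨n, Q, h0, hlast, hmono, hsc, hstep⟩
    obtain ⟨A, hA⟩ : ∃ A : ℕ → Subgroup Ω, ∀ i (hi : i < n + 1), A i = Q ⟨i, hi⟩ :=
      ⟨fun i => if hi : i < n + 1 then Q ⟨i, hi⟩ else ⊥, fun i hi => dif_pos hi⟩
    refine isNormal_of_stronglyClosed hS hF hP fun R hRc hRr => ?_
    have hRS := hRc.1
    haveI := finite_of_le hRS
    have hOn : F.IsNormal (omegaOne p P) := by
      rw [← hlast]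
      refine isNormal_of_chain hS hF Q h0 hmono fun i => ⟨hsc _, ?_⟩
      rw [Subgroup.commutator_comm]
      exact (Subgroup.commutator_mono le_rfl (hlast.le.trans (omegaOne_le P))).trans (hstep i)
    have hOR : omegaOne p P ≤ R := le_of_isNormal hS hOn hRc hRr
    refine le_of_two_level hS hRc hRr hP.1 (fun s hs q hq => StronglyClosed.conj_mem' hP hs hq) n A
      ?_ ?_ ?_ ?_ ?_
    · rw [hA 0 (by omega), ← h0]; rfl
    · intro β hβ i hi x hx
      rw [hA i (by omega)] at hx ⊢
      exact StronglyClosed.aut_apply_mem (hsc _) hRS hβ hx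
    · intro β hβ x hx
      exact StronglyClosed.aut_apply_mem hP hRS hβ hx
    · intro β hβ m hm hβm hfixA x hx
      set D := P.subgroupOf R with hD
      have hmap : D.map β.toMonoidHom = D := by
        refine Subgroup.eq_of_le_of_card_ge ?_ (Subgroup.card_map_of_injective β.injective).ge
        rintro _ ⟨y, hy, rfl⟩
        exact StronglyClosed.aut_apply_mem hP hRS hβ hy
      let b : D ≃* D := (β.subgroupMap D).trans (MulEquiv.subgroupCongr hmap)
      have hb : ∀ z : D, ((b z : D) : R) = β z := fun z => rfl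
      have hiter : ∀ (i : ℕ) (z : D), (((⇑b)^[i] z : D) : R) = (β ^ i) z := by
        intro i
        induction i with
        | zero => intro z; rfl
        | succ i ih =>
          intro z
          rw [Function.iterate_succ_apply', hb, ih, pow_succ', MulAut.mul_apply]
      have hkey := Grp.OmegaFix.aut_eq_one hp (Nat.card D) D rfl ((hS.to_le hRS).to_subgroup D) b m hm
        (fun z => Subtype.ext (by rw [hiter, hβm]; rfl))
        (fun z hz => by
          refine Subtype.ext ?_
          rw [hb]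
          refine hfixA z ?_
          rw [hA n (by omega), show (⟨n, _⟩ : Fin (n + 1)) = Fin.last n from rfl, hlast]
          exact Subgroup.subset_closure ⟨z.2, congrArg (fun w : D => ((w : R) : Ω)) hz⟩)
      exact congrArg Subtype.val (hkey ⟨x, hx⟩)
    · intro i hi q hq _ x hx hxA
      rw [hA (i + 1) (by omega)] at hxA
      rw [hA i (by omega)]
      rw [show x⁻¹ * (q * x * q⁻¹) = ⁅x⁻¹, q⁆ by rw [commutatorElement_def]; group]
      exact hstep ⟨i, hi⟩ (Subgroup.commutator_mem_commutator ((Q _).inv_mem hxA) hq)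

end Cfsg.Agent.Fus
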