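/-
`PΩ₅(q) ≅ PSp₄(q)`, `q` odd.
-/
import Cfsg.Agent.Lib.Fus.OmegaSixPlus
import Cfsg.Agent.Lib.Fus.OmegaRankOne
import Cfsg.Agent.Lib.Classical.SympSimple
import Cfsg.Agent.Lib.Classical.PSpRootGroups

set_option autoImplicit false

namespace Cfsg.Agent.Fus.OmegaFiveSp

open Matrix Cfsg.Agent.Classical Cfsg.Agent.Classical.OrthAut Cfsg.Agent.Fus.KleinSix

variable {F : Type*} [Field F]

local notation "V5" => (Unit ⊕ (Fin 2 ⊕ Fin 2) → F)
local notation "V6" => (Fin 3 ⊕ Fin 3 → F)
local notation "Sp4" => Matrix.symplecticGroup (Fin 2) F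

/-- The coordinates. -/
def e4 : Fin 2 ⊕ Fin 2 ≃ Fin 4 := finSumFinEquiv

/-- A symplectic matrix as a `4 × 4` matrix. -/
def mat4 (g : Matrix.symplecticGroup (Fin 2) F) : Matrix (Fin 4) (Fin 4) F :=
  (g : Matrix (Fin 2 ⊕ Fin 2) (Fin 2 ⊕ Fin 2) F).submatrix e4.symm e4.symm

theorem mat4_one : mat4 (1 : Sp4) = 1 := Matrix.submatrix_one_equiv _

theorem mat4_mul (g h : Sp4) : mat4 (g * h) = mat4 g * mat4 h :=
  (Matrix.submatrix_mul_equiv _ _ _ _ _).symm

theorem det_mat4 (g : Sp4) : (mat4 g).det = 1 := by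
  rw [mat4, Matrix.det_submatrix_equiv_self]
  exact SymplecticGroup.det_eq_one g.2

/-- The vector of the symplectic form. -/
def omegaVec : Fin 3 ⊕ Fin 3 → F := Sum.elim ![0, -1, 0] ![0, 1, 0]

theorem toA_omegaVec : toA (omegaVec (F := F)) =
    (Matrix.J (Fin 2) F).submatrix e4.symm e4.symm := by
  ext i j
  fin_cases i <;> fin_cases j <;>
    simp [toA, omegaVec, Matrix.J, e4, finSumFinEquiv, Fin.addCases, Matrix.fromBlocks]

theorem act_omegaVec (g : Sp4) : act (mat4 g) (omegaVec (F := F)) = omegaVec := by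
  show ofA (mat4 g * toA omegaVec * (mat4 g)ᵀ) = _
  rw [toA_omegaVec, mat4, Matrix.transpose_submatrix, Matrix.submatrix_mul_equiv,
    Matrix.submatrix_mul_equiv, SymplecticGroup.mem_iff.1 g.2, ← toA_omegaVec, ofA_toA]

/-- The inclusion of the orthogonal complement. -/
def inc : (Unit ⊕ (Fin 2 ⊕ Fin 2) → F) →ₗ[F] (Fin 3 ⊕ Fin 3 → F) where
  toFun v := Sum.elim ![v (.inr (.inl 0)), v (.inl ()), v (.inr (.inl 1))]
    ![v (.inr (.inr 0)), v (.inl ()), v (.inr (.inr 1))]
  map_add' u v := by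
    funext i
    rcases i with i | i <;> fin_cases i <;> simp
  map_smul' c v := by
    funext i
    rcases i with i | i <;> fin_cases i <;> simp

/-- The projection. -/
def proj : (Fin 3 ⊕ Fin 3 → F) →ₗ[F] (Unit ⊕ (Fin 2 ⊕ Fin 2) → F) where
  toFun w := Sum.elim (fun _ => w (.inl 1)) (Sum.elim ![w (.inl 0), w (.inl 2)] ![w (.inr 0), w (.inr 2)])
  map_add' u v := by
    funext i
    rcases i with i | i | i
    · rfl
    all_goals fin_cases i <;> simp
  map_smul' c v := by
    funext i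
    rcases i with i | i | i
    · rfl
    all_goals fin_cases i <;> simp

theorem proj_inc (v : V5) : proj (inc v) = v := by
  funext i
  rcases i with i | i | i
  · simp [proj, inc]
  all_goals fin_cases i <;> simp [proj, inc]

theorem inc_proj (w : V6) (h : w (.inl 1) = w (.inr 1)) : inc (proj w) = w := by
  funext i
  rcases i with i | i <;> fin_cases i <;> simp [proj, inc, h]

theorem act_inc_eq (g : Sp4) (v : V5) :
    act (mat4 g) (inc v) (.inl 1) = act (mat4 g) (inc v) (.inr 1) := by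
  have h := pf_act (mat4 g) (inc v + omegaVec)
  have h0 := pf_act (mat4 g) (inc v)
  rw [det_mat4, one_mul, map_add, act_omegaVec] at h
  rw [det_mat4, one_mul] at h0
  generalize act (mat4 g) (inc v) = w at h h0 ⊢
  simp [pf, omegaVec, inc, Fin.sum_univ_three] at h h0
  linear_combination h - h0

theorem quad_proj (w : V6) (h : w (.inl 1) = w (.inr 1)) : quadFormOdd 2 F (proj w) = pf w := by
  simp [quadFormOdd, proj, pf, Fin.sum_univ_three, h]
  ring

theorem pf_inc (v : V5) : pf (inc v) = quadFormOdd 2 F v := by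
  simp [quadFormOdd, inc, pf, Fin.sum_univ_three]
  ring

/-- The action on the orthogonal complement of the symplectic form. -/
noncomputable def spAct : Matrix.symplecticGroup (Fin 2) F →* isometryGroup F (quadFormOdd 2 F) :=
  OmegaRankOne.isoHom (fun g => proj.comp ((act (mat4 g)).comp inc))
    (by rw [mat4_one, act_one, LinearMap.id_comp]; exact LinearMap.ext proj_inc)
    (fun g h => LinearMap.ext fun v => by
      show proj (act (mat4 (g * h)) (inc v)) = proj (act (mat4 g) (inc (proj (act (mat4 h) (inc v)))))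
      rw [inc_proj _ (act_inc_eq h v), mat4_mul, act_mul]
      rfl)
    _ fun g v => by
      show quadFormOdd 2 F (proj (act (mat4 g) (inc v))) = _
      rw [quad_proj _ (act_inc_eq g v), pf_act, det_mat4, one_mul, pf_inc]

theorem spAct_mulVec (g : Sp4) (v : V5) :
    ((spAct g).1 : Matrix (Unit ⊕ (Fin 2 ⊕ Fin 2)) (Unit ⊕ (Fin 2 ⊕ Fin 2)) F) *ᵥ v =
      proj (act (mat4 g) (inc v)) :=
  LinearMap.toMatrix'_mulVec _ _

theorem exists_spAct_ne_one : ∃ x : Sp4, spAct x ≠ 1 := by
  refine ⟨⟨Matrix.J (Fin 2) F, SymplecticGroup.J_mem _ _⟩, fun e => ?_⟩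
  have h := spAct_mulVec ⟨Matrix.J (Fin 2) F, SymplecticGroup.J_mem _ _⟩ (Pi.single (.inr (.inl 0)) 1)
  rw [e] at h
  have h' := congrFun h (.inr (.inl 0))
  simp [proj, act, ofA, toA, inc, mat4, Matrix.mul_apply, Fin.sum_univ_four, Matrix.J,
    e4, finSumFinEquiv, Fin.addCases, Matrix.fromBlocks] at h'

theorem nonempty_pOmega_five [Fintype F] (hodd : Odd (Fintype.card F)) :
    Nonempty (POmega F (quadFormOdd 2 F) ≃* PSp 2 F) := by
  classical
  have h2 : (2 : F) ≠ 0 := two_ne_zero_of_odd rfl hodd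
  have h3 : 3 ≤ Fintype.card F := by
    have h1 := Fintype.one_lt_card (α := F)
    obtain ⟨k, hk⟩ := hodd
    omega
  have hperf : commutator Sp4 = ⊤ := symp_perfect_of_card (Or.inr (Or.inl ⟨rfl, h3⟩))
  refine KleinSix.nonempty_equiv_of_card spAct hperf (PSp_isSimpleGroup (by norm_num) hperf)
    exists_spAct_ne_one fun hle => ?_
  have hsc : ∀ x : (spAct (F := F)).ker, ∃ r : F, r * r = 1 ∧
      (x.1 : Matrix (Fin 2 ⊕ Fin 2) (Fin 2 ⊕ Fin 2) F) = r • 1 := fun x => by
    obtain ⟨l, hl, hl'⟩ := (PSpAut.pi_eq_one_iff (by norm_num)).1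
      ((QuotientGroup.eq_one_iff _).2 (hle x.2) : spToPSp 2 F x.1 = 1)
    exact ⟨l, by rw [← sq]; exact hl, hl'⟩
  choose r hr hr' using hsc
  have hk : Nat.card (spAct (F := F)).ker ≤ Nat.card {c : F // c * c = 1} :=
    Nat.card_le_card_of_injective (fun x => ⟨r x, hr x⟩) fun a b hab => Subtype.ext (Subtype.ext (by
      rw [hr' a, hr' b, show r a = r b from congrArg Subtype.val hab]))
  have := OmegaSix.card_bound (qfOdd 2 F) (nondegenerate_qfOdd 2 h2) (Or.inr h2) (by simp) hk
    (s := Nat.card Sp4) (by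
      have h4 := natCard_symplecticGroup (F := F) 2
      rw [Nat.card_eq_fintype_card (α := F)] at h4
      rw [h4, order_qfOdd h2 2, Nat.cast_mul, ← cast_prod_sub_one]
      push_cast
      ring)
  rwa [coe_qfOdd] at this

end Cfsg.Agent.Fus.OmegaFiveSp
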