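import Cfsg.Agent.Lib.Fus.OmegaRankOne
import Cfsg.Agent.Lib.Fus.OrthExtSplit
import Cfsg.Agent.Lib.Fus.PSLTwo
import Cfsg.Agent.Lib.Classical.HermTotIsoLines

/-!
`PΩ⁻_4(q) ≅ PSL_2(q²)`: the action on Hermitian `2 × 2` matrices.
-/

set_option autoImplicit false

namespace Cfsg.Agent.Fus.OmegaFourMinus

open Matrix Cfsg.Agent.Classical

variable {F K : Type*} [Field F] [Fintype F] [Field K] [Fintype K] {q : ℕ}

/-- A perfect-by-center subgroup of small index is the derived subgroup. -/
theorem commutator_eq_range {G : Type*} [Group G] [Finite G] (ψ : Matrix.SpecialLinearGroup (Fin 2) K →* G)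
    (hK : 4 ≤ Fintype.card K)
    (hidx : ψ.range.index = 2 ∨ ψ.range.index = 4) : commutator G = ψ.range := by
  classical
  have hsimple := PSL_isSimple (F := K) (n := 2) le_rfl fun _ => hK
  have hperf : commutator (Matrix.SpecialLinearGroup (Fin 2) K) = ⊤ :=
    SL_commutator_eq_top fun _ => exists_sq_ne_one_field hK
  have hge : ψ.range ≤ commutator G := by
    rw [MonoidHom.range_eq_map, ← hperf, commutator_def, commutator_def, Subgroup.map_commutator]
    exact Subgroup.commutator_mono le_top le_top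
  refine le_antisymm ?_ hge
  let f : G →* Equiv.Perm (G ⧸ ψ.range) := MulAction.toPermHom G (G ⧸ ψ.range)
  have hN : (f.comp ψ).ker = ⊤ := by
    refine SL_normal_eq_top hperf _ fun hle => ?_
    have h1 := (f.comp ψ).ker.card_eq_card_quotient_mul_card_subgroup
    rw [Nat.card_congr (QuotientGroup.quotientKerEquivRange (f.comp ψ)).toEquiv] at h1
    have h2 : Nat.card (f.comp ψ).range ≤ 24 := by
      refine le_trans (Nat.card_le_card_of_injective _ Subtype.val_injective) ?_
      rw [Nat.card_perm, ← Subgroup.index_eq_card]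
      rcases hidx with h | h <;> rw [h] <;> decide
    have h3 : Nat.card (f.comp ψ).ker ≤ 2 := by
      refine le_trans (Nat.card_le_card_of_injective _ (Subgroup.inclusion_injective hle)) ?_
      rw [natCard_center_SL]
      exact Nat.le_of_dvd two_pos (Nat.gcd_dvd_left _ _)
    have h4 : 4 * ((4 - 1) * (4 + 1)) ≤ Nat.card (Matrix.SpecialLinearGroup (Fin 2) K) := by
      rw [Fus.PSLTwo.natCard_SL_two]
      exact Nat.mul_le_mul hK (Nat.mul_le_mul (Nat.sub_le_sub_right hK 1) (Nat.succ_le_succ hK))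
    have := Nat.mul_le_mul h2 h3
    omega
  have hle : ψ.range ≤ ψ.range.normalCore := by
    rw [Subgroup.normalCore_eq_ker]
    rintro _ ⟨s, rfl⟩
    exact MonoidHom.mem_ker.2 (MonoidHom.mem_ker.1 (show s ∈ (f.comp ψ).ker by rw [hN]; trivial))
  have hnormal : ψ.range.Normal :=
    (le_antisymm hle (Subgroup.normalCore_le _)) ▸ Subgroup.normalCore_normal _
  rw [← Subgroup.Normal.quotient_commutative_iff_commutator_le]
  have hc : Nat.card (G ⧸ ψ.range) = 2 ∨ Nat.card (G ⧸ ψ.range) = 2 ^ 2 := by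
    rw [← Subgroup.index_eq_card]
    exact hidx
  have : Fact (Nat.Prime 2) := ⟨Nat.prime_two⟩
  rcases hc with h | h
  · have : IsCyclic (G ⧸ ψ.range) := isCyclic_of_prime_card h
    exact IsCyclic.isMulCommutative
  · exact IsPGroup.isMulCommutative_of_card_eq_prime_sq h

section

variable (hK : Fintype.card K = q ^ 2)

local notation "σ" => qFrob hK
local notation "M2" => Matrix (Fin 2) (Fin 2) K

/-- Conjugate transpose. -/
def st (A : Matrix (Fin 2) (Fin 2) K) : Matrix (Fin 2) (Fin 2) K := (A.map (qFrob hK))ᵀ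

theorem st_mul (A B : M2) : st hK (A * B) = st hK B * st hK A := by
  rw [st, Matrix.map_mul, Matrix.transpose_mul]; rfl

theorem st_one : st hK (1 : M2) = 1 := by
  rw [st, Matrix.map_one _ (map_zero _) (map_one _), Matrix.transpose_one]

theorem st_st (A : M2) : st hK (st hK A) = A := by
  ext i j
  simp [st, qFrob_qFrob hK]

theorem det_st (A : M2) : (st hK A).det = σ A.det := by
  rw [st, Matrix.det_transpose, ← RingHom.mapMatrix_apply, ← RingHom.map_det]

end

set_option maxHeartbeats 1600000 in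
theorem nonempty_pOmega_four_minus (hF : Fintype.card F = q) (hK : Fintype.card K = q ^ 2) (a b : F)
    (hab : ∀ z₁ z₂ : F, z₁ ^ 2 + a * z₁ * z₂ + b * z₂ ^ 2 = 0 → z₁ = 0 ∧ z₂ = 0) :
    Nonempty (POmega F (quadFormMinus 1 F a b) ≃* Matrix.ProjectiveSpecialLinearGroup (Fin 2) K) := by
  classical
  obtain ⟨j⟩ := Cfsg.Agent.Dickson.exists_ringHom_of_card_pow (K := F) (F := K) (m := 2) (by rw [hF, hK])
  let _ := j.toAlgebra
  have hq := two_le_q hK
  have hK4 : 4 ≤ Fintype.card K := by rw [hK]; nlinarith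
  -- the fixed field is the image of `F`
  have hjfix : ∀ x : F, qFrob hK (j x) = j x := fun x => by
    rw [qFrob_apply, ← map_pow, ← hF, FiniteField.pow_card]
  have hfix : ∀ c : K, qFrob hK c = c → ∃ x, j x = c := by
    intro c hc
    have hbij : Function.Bijective fun x : F => (⟨j x, by rw [← qFrob_apply hK, hjfix]⟩ : {c : K // c ^ q = c}) :=
      (Nat.bijective_iff_injective_and_card _).2 ⟨fun x y h => j.injective (congrArg Subtype.val h),
        by rw [Nat.card_eq_fintype_card, HermTotIsoLines.natCard_fixed hK, hF]⟩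
    obtain ⟨x, hx⟩ := hbij.2 ⟨c, hc⟩
    exact ⟨x, congrArg Subtype.val hx⟩
  -- the root
  obtain ⟨t, ht⟩ := Fus.OrthExtSplit.exists_root j hF hK hab
  have htF : ∀ x, j x ≠ t := fun x hx => by
    have h0 : j (x ^ 2 + a * x + b) = 0 := by
      rw [map_add, map_add, map_mul, map_pow, hx]; exact ht
    exact one_ne_zero (hab x 1 (by linear_combination (map_eq_zero j).1 h0)).2
  have hst : qFrob hK t ≠ t := fun h => by
    obtain ⟨x, hx⟩ := hfix t h
    exact htF x hx
  have hσt : qFrob hK t = -j a - t := by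
    have h1 : qFrob hK t ^ 2 + j a * qFrob hK t + j b = 0 := by
      have := congrArg (qFrob hK) ht
      simpa [hjfix] using this
    have h2 : (qFrob hK t - t) * (qFrob hK t + t + j a) = 0 := by linear_combination h1 - ht
    have h3 := (mul_eq_zero.1 h2).resolve_left (sub_ne_zero.2 hst)
    linear_combination h3
  have hnorm : ∀ z w : F, (j z - j w * t) * qFrob hK (j z - j w * t) =
      j (z ^ 2 + a * z * w + b * w ^ 2) := fun z w => by
    rw [map_sub, map_mul, hjfix, hjfix, hσt, map_add, map_add, map_mul, map_mul, map_mul, map_pow, map_pow]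
    linear_combination (-(j w) ^ 2) * ht
  have hcoord : ∀ w : K, ∃ z₁ z₂ : F, j z₁ - j z₂ * t = w := by
    have hinj : Function.Injective fun z : F × F => j z.1 - j z.2 * t := by
      intro z z' h
      have h : j z.1 - j z.2 * t = j z'.1 - j z'.2 * t := h
      have h0 := hnorm (z.1 - z'.1) (z.2 - z'.2)
      rw [show j (z.1 - z'.1) - j (z.2 - z'.2) * t = 0 by rw [map_sub, map_sub]; linear_combination h,
        zero_mul, eq_comm, map_eq_zero j] at h0
      obtain ⟨e1, e2⟩ := hab _ _ h0
      exact Prod.ext (sub_eq_zero.1 e1) (sub_eq_zero.1 e2)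
    have hbij := (Fintype.bijective_iff_injective_and_card _).2
      ⟨hinj, by rw [Fintype.card_prod, hF, hK, sq]⟩
    exact fun w => let ⟨z, hz⟩ := hbij.2 w; ⟨z.1, z.2, hz⟩
  -- vectors as Hermitian matrices
  let X : ((Fin 1 ⊕ Fin 1) ⊕ Fin 2 → F) →ₗ[F] Matrix (Fin 2) (Fin 2) K :=
    { toFun := fun v => !![j (v (.inl (.inl 0))), j (v (.inr 0)) - j (v (.inr 1)) * t;
        qFrob hK (j (v (.inr 0)) - j (v (.inr 1)) * t), -j (v (.inl (.inr 0)))]
      map_add' := fun u v => by
        ext i l; fin_cases i <;> fin_cases l <;> simp <;> ring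
      map_smul' := fun c v => by
        ext i l; fin_cases i <;> fin_cases l <;>
          simp [Algebra.smul_def, RingHom.algebraMap_toAlgebra, hjfix] <;> ring }
  have hXd : ∀ v, (X v).det = -j (quadFormMinus 1 F a b v) := by
    intro v
    show Matrix.det !![_, _; _, _] = _
    rw [Matrix.det_fin_two_of, hnorm]
    simp only [quadFormMinus, Fin.sum_univ_one, map_add, map_mul]
    ring
  have hXinj : Function.Injective X := by
    intro u v h
    have e00 : j (u (.inl (.inl 0))) = j (v (.inl (.inl 0))) := congrFun (congrFun h 0) 0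
    have e11 : -j (u (.inl (.inr 0))) = -j (v (.inl (.inr 0))) := congrFun (congrFun h 1) 1
    have e01 : j (u (.inr 0)) - j (u (.inr 1)) * t = j (v (.inr 0)) - j (v (.inr 1)) * t :=
      congrFun (congrFun h 0) 1
    have h0 := hnorm (u (.inr 0) - v (.inr 0)) (u (.inr 1) - v (.inr 1))
    rw [show j (u (.inr 0) - v (.inr 0)) - j (u (.inr 1) - v (.inr 1)) * t = 0 by
      rw [map_sub, map_sub]; linear_combination e01, zero_mul, eq_comm, map_eq_zero j] at h0
    obtain ⟨e2, e3⟩ := hab _ _ h0
    funext x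
    rcases x with (x | x) | x
    · obtain rfl := Subsingleton.elim x 0; exact j.injective e00
    · obtain rfl := Subsingleton.elim x 0; exact j.injective (neg_injective e11)
    · fin_cases x
      · exact sub_eq_zero.1 e2
      · exact sub_eq_zero.1 e3
  have hXst : ∀ v, st hK (X v) = X v := fun v => by
    ext i l
    show qFrob hK (X v l i) = X v i l
    fin_cases i <;> fin_cases l
    · exact hjfix _
    · show qFrob hK (qFrob hK _) = _
      exact qFrob_qFrob hK _
    · rfl
    · show qFrob hK (-_) = -_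
      rw [map_neg, hjfix]
  have hXsurj : ∀ A, st hK A = A → ∃ v, X v = A := by
    intro A hA
    have h00 : qFrob hK (A 0 0) = A 0 0 := congrFun (congrFun hA 0) 0
    have h11 : qFrob hK (-A 1 1) = -A 1 1 := by
      rw [map_neg]; exact congrArg Neg.neg (congrFun (congrFun hA 1) 1)
    have h10 : qFrob hK (A 0 1) = A 1 0 := congrFun (congrFun hA 1) 0
    obtain ⟨x, hx⟩ := hfix _ h00
    obtain ⟨y, hy⟩ := hfix _ h11
    obtain ⟨z₁, z₂, hz⟩ := hcoord (A 0 1)
    refine ⟨Sum.elim (Sum.elim (fun _ => x) fun _ => y) ![z₁, z₂], ?_⟩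
    ext i l
    fin_cases i <;> fin_cases l
    · exact hx
    · exact hz
    · show qFrob hK (j z₁ - j z₂ * t) = A 1 0
      rw [hz, h10]
    · show -j y = A 1 1
      rw [hy, neg_neg]
  obtain ⟨Y, hY⟩ := X.exists_leftInverse_of_injective (LinearMap.ker_eq_bot.2 hXinj)
  have hXY : ∀ A, st hK A = A → X (Y A) = A := fun A hA => by
    obtain ⟨v, rfl⟩ := hXsurj A hA
    rw [show Y (X v) = v from LinearMap.congr_fun hY v]
  obtain ⟨L, hXL⟩ : ∃ L : Matrix.SpecialLinearGroup (Fin 2) K →
      (((Fin 1 ⊕ Fin 1) ⊕ Fin 2 → F) →ₗ[F] ((Fin 1 ⊕ Fin 1) ⊕ Fin 2 → F)),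
      ∀ g v, X (L g v) = g.1 * (X v * st hK g.1) := by
    refine ⟨fun g => Y.comp ((LinearMap.mulLeft F g.1).comp
      ((LinearMap.mulRight F (st hK g.1)).comp X)), fun g v => hXY _ ?_⟩
    show st hK (g.1 * (X v * st hK g.1)) = g.1 * (X v * st hK g.1)
    rw [st_mul, st_mul, st_st, hXst, mul_assoc]
  obtain ⟨ψ, hψ⟩ : ∃ ψ : Matrix.SpecialLinearGroup (Fin 2) K →* isometryGroup F (quadFormMinus 1 F a b),
      ∀ g v, ((ψ g).1 : Matrix _ _ F) *ᵥ v = L g v :=
    ⟨OmegaRankOne.isoHom L
      (LinearMap.ext fun v => hXinj (by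
        rw [hXL, Matrix.SpecialLinearGroup.coe_one, st_one, one_mul, mul_one]; rfl))
      (fun g h => LinearMap.ext fun v => hXinj (by
        rw [LinearMap.comp_apply, hXL, hXL, hXL, Matrix.SpecialLinearGroup.coe_mul, st_mul]
        simp only [mul_assoc]))
      (quadFormMinus 1 F a b) fun g v => j.injective (neg_injective (by
        rw [← hXd, ← hXd, hXL, Matrix.det_mul, Matrix.det_mul, det_st, g.2, map_one, one_mul, mul_one])),
      fun g v => OmegaRankOne.isoHom_mulVec _ _ _ _ _ g v⟩
  have hker : ψ.ker = Subgroup.center _ := by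
    ext g
    rw [MonoidHom.mem_ker, Matrix.SpecialLinearGroup.mem_center_iff]
    constructor
    · intro hg
      have hfix' : ∀ A, st hK A = A → g.1 * (A * st hK g.1) = A := fun A hA => by
        obtain ⟨v, rfl⟩ := hXsurj A hA
        rw [← hXL, ← hψ, hg]
        exact congrArg X (Matrix.one_mulVec v)
      have hone : g.1 * st hK g.1 = 1 := by
        simpa using hfix' 1 (st_one hK)
      have hcomm : ∀ A, st hK A = A → g.1 * A = A * g.1 := fun A hA => by
        conv_rhs => rw [← hfix' A hA]
        rw [mul_assoc, mul_assoc, mul_eq_one_comm.1 hone, mul_one]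
      have hd := hcomm !![1, 0; 0, 0] (by ext i l; fin_cases i <;> fin_cases l <;> simp [st])
      have hu := hcomm !![0, 1; 1, 0] (by ext i l; fin_cases i <;> fin_cases l <;> simp [st])
      have e01 := congrFun (congrFun hd 0) 1
      have e10 := congrFun (congrFun hd 1) 0
      have e11 := congrFun (congrFun hu 0) 1
      simp [Matrix.mul_apply, Fin.sum_univ_two] at e01 e10 e11
      refine ⟨g.1 0 0, ?_, ?_⟩
      · have := g.2
        rw [Matrix.det_fin_two, ← e01, e10, ← e11] at this
        rw [Fintype.card_fin]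
        linear_combination this
      · ext i l
        fin_cases i <;> fin_cases l <;> simp [← e01, e10, e11]
    · rintro ⟨c, hc2, hc⟩
      rw [Fintype.card_fin] at hc2
      have hcc : c * qFrob hK c = 1 := by
        rcases sq_eq_one_iff.1 hc2 with h | h <;> simp [h]
      refine OmegaRankOne.iso_ext fun v => ?_
      rw [hψ, OneMemClass.coe_one, Units.val_one, Matrix.one_mulVec]
      refine hXinj ?_
      rw [hXL, ← hc]
      ext i l
      fin_cases i <;> fin_cases l <;>
        simp [st, Matrix.scalar_apply, Matrix.diagonal_mul, Matrix.mul_diagonal, Matrix.diagonal_transpose,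
          Matrix.diagonal_map] <;>
        linear_combination (X v _ _) * hcc
  refine OmegaRankOne.nonempty_equiv ψ hker ?_
  -- orders
  have hq0 : 0 < q := by omega
  have hSL : (Nat.card (Matrix.SpecialLinearGroup (Fin 2) K) : ℤ) = (q : ℤ) ^ 2 * ((q : ℤ) ^ 4 - 1) := by
    rw [Fus.PSLTwo.natCard_SL_two, hK]
    push_cast [Nat.cast_sub (Nat.one_le_pow 2 q hq0)]
    ring
  have hO : (Nat.card (isometryGroup F (quadFormMinus 1 F a b)) : ℤ) = 2 * (q : ℤ) ^ 2 * ((q : ℤ) ^ 4 - 1) := by
    rw [natCard_isometryGroup' (qfMinus 1 F a b) (coe_qfMinus 1 a b), order_qfMinus 1 hab, hF]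
    simp
    ring
  have hOSL : Nat.card (isometryGroup F (quadFormMinus 1 F a b)) =
      2 * Nat.card (Matrix.SpecialLinearGroup (Fin 2) K) := by
    refine Nat.cast_inj (R := ℤ).1 ?_
    rw [hO, Nat.cast_mul, hSL]
    ring
  have hidx : ψ.range.index = 2 ∨ ψ.range.index = 4 := by
    have h1 := ψ.range.card_mul_index
    have h2 := ψ.ker.card_eq_card_quotient_mul_card_subgroup
    rw [Nat.card_congr (QuotientGroup.quotientKerEquivRange ψ).toEquiv, hker, natCard_center_SL] at h2
    rw [hOSL, h2] at h1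
    have hpos : 0 < Nat.card ψ.range := Nat.card_pos
    have h3 : ψ.range.index = 2 * Nat.gcd (max 2 1) (Nat.card Kˣ) :=
      Nat.eq_of_mul_eq_mul_left hpos (h1.trans (by ring))
    rcases (Nat.dvd_prime Nat.prime_two).1
      (show Nat.gcd (max 2 1) (Nat.card Kˣ) ∣ 2 from Nat.gcd_dvd_left _ _) with h | h <;>
      rw [h] at h3 <;> [exact Or.inl h3; exact Or.inr h3]
  exact (commutator_eq_range ψ hK4 hidx).symm

end Cfsg.Agent.Fus.OmegaFourMinus
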