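import Mathlib

/-!
A Sylow 2-subgroup of the alternating group on seven points, and its action on the sign vectors of even weight.
-/

set_option autoImplicit false
set_option maxRecDepth 100000

namespace Cfsg.Agent.Fus.OmegaSeven

open Equiv

/-- `(01)(23)`. -/
def pA : Perm (Fin 7) := swap 0 1 * swap 2 3

/-- `(02)(13)`. -/
def pB : Perm (Fin 7) := swap 0 2 * swap 1 3

/-- `(01)(45)`. -/
def pC : Perm (Fin 7) := swap 0 1 * swap 4 5

/-- The eight elements. -/
def dList : List (Perm (Fin 7)) := [1, pA, pB, pA * pB, pC, pA * pC, pB * pC, pA * pB * pC]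

theorem dList_mul : ∀ a ∈ dList, ∀ b ∈ dList, a * b ∈ dList := by
  have h : dList.all (fun a => dList.all fun b => decide (a * b ∈ dList)) = true := by decide +kernel
  simpa [List.all_eq_true] using h

theorem dList_inv : ∀ a ∈ dList, a⁻¹ ∈ dList := by
  have h : dList.all (fun a => decide (a⁻¹ ∈ dList)) = true := by decide +kernel
  simpa [List.all_eq_true] using h

theorem dList_one : (1 : Perm (Fin 7)) ∈ dList := List.mem_cons_self

theorem dList_sign : ∀ a ∈ dList, Perm.sign a = 1 := by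
  have h : dList.all (fun a => decide (Perm.sign a = 1)) = true := by decide +kernel
  simpa [List.all_eq_true] using h

theorem dList_nodup : dList.Nodup := by decide +kernel

/-- A dihedral group of order eight. -/
def dGroup : Subgroup (Perm (Fin 7)) where
  carrier := {σ | σ ∈ dList}
  one_mem' := dList_one
  mul_mem' {a b} ha hb := dList_mul a ha b hb
  inv_mem' {a} ha := dList_inv a ha

theorem mem_dGroup {σ : Perm (Fin 7)} : σ ∈ dGroup ↔ σ ∈ dList := Iff.rfl

theorem dGroup_even {σ : Perm (Fin 7)} (h : σ ∈ dGroup) : Perm.sign σ = 1 := dList_sign σ h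

theorem card_dGroup : Nat.card dGroup = 8 := by
  have e : (dGroup : Set (Perm (Fin 7))) = (dList.toFinset : Set (Perm (Fin 7))) := by
    ext σ; simp [mem_dGroup]
  rw [← SetLike.coe_sort_coe, Nat.card_coe_set_eq, e, Set.ncard_coe_finset,
    List.toFinset_card_of_nodup dList_nodup]
  rfl

/-- The centraliser of `(01)(23)`. -/
def cList : List (Perm (Fin 7)) :=
  [1, pA, pB, pA * pB, swap 0 1, swap 0 1 * pA, swap 0 1 * pB, swap 0 1 * (pA * pB)].flatMap fun d =>
    [1, swap 4 5, swap 4 6, swap 5 6, swap 4 5 * swap 5 6, swap 5 6 * swap 4 5].map fun e => d * e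

set_option synthInstance.maxSize 2000 in
theorem cList_spec : ∀ a : Fin 7, pA a ≠ a → ∀ b : Fin 7, pA b ≠ b → b ≠ a → b ≠ pA a →
    ∀ x : Fin 7, pA x = x → ∀ y : Fin 7, pA y = y → y ≠ x → ∀ z : Fin 7, pA z = z → z ≠ x → z ≠ y →
    cList.any (fun π => decide (π 0 = a ∧ π 1 = pA a ∧ π 2 = b ∧ π 3 = pA b ∧ π 4 = x ∧ π 5 = y ∧ π 6 = z)) = true := by
  decide +kernel

theorem mem_cList {σ : Perm (Fin 7)} (h : σ * pA = pA * σ) : σ ∈ cList := by
  have hc : ∀ i, σ (pA i) = pA (σ i) := fun i => congrArg (fun π : Perm (Fin 7) => π i) h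
  have hm : ∀ i, pA i ≠ i → pA (σ i) ≠ σ i := fun i hi e => hi (σ.injective (by rw [hc, e]))
  have hf : ∀ i, pA i = i → pA (σ i) = σ i := fun i hi => by rw [← hc, hi]
  have h1 : σ 1 = pA (σ 0) := by rw [← hc]; rfl
  have h3 : σ 3 = pA (σ 2) := by rw [← hc]; rfl
  have hspec := cList_spec (σ 0) (hm 0 (by decide)) (σ 2) (hm 2 (by decide))
    (σ.injective.ne (by decide)) (h1 ▸ σ.injective.ne (by decide)) (σ 4) (hf 4 (by decide)) (σ 5)
    (hf 5 (by decide)) (σ.injective.ne (by decide)) (σ 6) (hf 6 (by decide)) (σ.injective.ne (by decide))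
    (σ.injective.ne (by decide))
  obtain ⟨π, hπ, hπ'⟩ := List.any_eq_true.1 hspec
  obtain ⟨e0, e1, e2, e3, e4, e5, e6⟩ := of_decide_eq_true hπ'
  rw [← h1] at e1
  rw [← h3] at e3
  have e : π = σ := Equiv.ext fun i => by fin_cases i <;> assumption
  exact e ▸ hπ

theorem dList_sq : ∀ a ∈ dList, a * a = 1 ∨ a * a = pA := by
  have h : dList.all (fun a => decide (a * a = 1 ∨ a * a = pA)) = true := by decide +kernel
  simpa [List.all_eq_true] using h

theorem normalizer_cList : ∀ σ ∈ cList, (∀ d ∈ dList, σ * d * σ⁻¹ ∈ dList) → Perm.sign σ = 1 → σ ∈ dList := by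
  have h : cList.all (fun σ => !dList.all (fun d => decide (σ * d * σ⁻¹ ∈ dList)) ||
      !decide (Perm.sign σ = 1) || decide (σ ∈ dList)) = true := by decide +kernel
  intro σ hσ h1 h2
  have hd : dList.all (fun d => decide (σ * d * σ⁻¹ ∈ dList)) = true := by simpa [List.all_eq_true] using h1
  have h3 := List.all_eq_true.1 h σ hσ
  rw [hd, decide_eq_true h2] at h3
  simpa using h3

/-- The group is its own normaliser among the even permutations. -/
theorem normalizer_dGroup (σ : Perm (Fin 7)) (h : ∀ d ∈ dList, σ * d * σ⁻¹ ∈ dList)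
    (hs : Perm.sign σ = 1) : σ ∈ dList := by
  refine normalizer_cList σ (mem_cList ?_) h hs
  have hx : pB * pC ∈ dList := by decide +kernel
  have hxx : pB * pC * (pB * pC) = pA := by decide +kernel
  have hA : σ * pA * σ⁻¹ = pA := by
    rcases dList_sq _ (h _ hx) with e | e
    · exfalso
      rw [show σ * (pB * pC) * σ⁻¹ * (σ * (pB * pC) * σ⁻¹) = σ * (pB * pC * (pB * pC)) * σ⁻¹ by group, hxx,
        conj_eq_one_iff] at e
      exact absurd e (by decide +kernel)
    · rwa [show σ * (pB * pC) * σ⁻¹ * (σ * (pB * pC) * σ⁻¹) = σ * (pB * pC * (pB * pC)) * σ⁻¹ by group, hxx] at e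
  exact mul_inv_eq_iff_eq_mul.1 hA

theorem dGroup_noncomm : pA * pB * pC * pB ≠ pB * (pA * pB * pC) := by decide +kernel

theorem dGroup_gen (P : Subgroup (Perm (Fin 7))) (ha : pA ∈ P) (hb : pB ∈ P) (hc : pC ∈ P) :
    dGroup ≤ P := by
  intro σ hσ
  simp only [mem_dGroup, dList, List.mem_cons, List.not_mem_nil, or_false] at hσ
  rcases hσ with rfl | rfl | rfl | rfl | rfl | rfl | rfl | rfl
  exacts [one_mem _, ha, hb, mul_mem ha hb, hc, mul_mem ha hc, mul_mem hb hc, mul_mem (mul_mem ha hb) hc]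

/-- The sign vectors of even weight. -/
def evens : Finset (Fin 7 → ℤˣ) := Finset.univ.filter fun s => ∏ i, s i = 1

theorem mem_evens {s : Fin 7 → ℤˣ} : s ∈ evens ↔ ∏ i, s i = 1 := by simp [evens]

theorem card_evens : evens.card = 64 := by decide +kernel

theorem fixed_one : ∀ σ ∈ dList, σ ≠ 1 →
    (evens.filter fun s => ∀ i, s (σ.symm i) = s i).card ≤ 16 := by
  have h : dList.all (fun σ => decide (σ = 1) ||
      decide ((evens.filter fun s => ∀ i, s (σ.symm i) = s i).card ≤ 16)) = true := by decide +kernel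
  intro σ hσ h1
  have h2 := List.all_eq_true.1 h σ hσ
  rw [decide_eq_false h1, Bool.false_or] at h2
  exact of_decide_eq_true h2

theorem fixed_two : ∀ σ ∈ dList, ∀ τ ∈ dList, σ ≠ 1 → τ ≠ 1 → σ ≠ τ → σ * τ = τ * σ →
    (evens.filter fun s => (∀ i, s (σ.symm i) = s i) ∧ ∀ i, s (τ.symm i) = s i).card ≤ 8 := by
  have h : dList.all (fun σ => dList.all fun τ => decide (σ = 1) || decide (τ = 1) || decide (σ = τ) ||
      !decide (σ * τ = τ * σ) ||
      decide ((evens.filter fun s => (∀ i, s (σ.symm i) = s i) ∧ ∀ i, s (τ.symm i) = s i).card ≤ 8)) = true := by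
    decide +kernel
  intro σ hσ τ hτ h1 h2 h3 h4
  have h5 := List.all_eq_true.1 (List.all_eq_true.1 h σ hσ) τ hτ
  rw [decide_eq_false h1, decide_eq_false h2, decide_eq_false h3, decide_eq_true h4] at h5
  simpa using h5

end Cfsg.Agent.Fus.OmegaSeven
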