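import Cfsg.Agent.Lib.Fus.OmegaSevenMonomial

/-!
A sign change of two coordinates is conjugate in `Ω` to a double transposition of coordinates.
-/

set_option autoImplicit false
set_option linter.unusedSectionVars false
set_option linter.style.haveILetI false

noncomputable section

namespace Cfsg.Agent.Fus.OmegaSeven

open Matrix Cfsg.Agent.Classical Cfsg.Agent.Classical.OrthAut
open Cfsg.Agent.Fus.OmegaSylowTwo (wss wss_apply polar_wss nondegenerate_wss)

variable {F : Type*} [Field F] [Fintype F] {c : F}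

theorem eps_flip_comm {a b l m : Fin 7} (hla : l ≠ a) (hlb : l ≠ b) (hma : m ≠ a) (hmb : m ≠ b)
    (s : Fin 7 → ℤˣ) :
    Commute (mon c s (Equiv.swap l m)) (mon c (flip2 a b) 1) := by
  have e : (fun i => flip2 a b ((Equiv.swap l m).symm i)) = flip2 a b := by
    funext i
    rw [Equiv.symm_swap]
    rcases eq_or_ne i l with rfl | hl
    · simp [flip2, hla, hlb, hma, hmb]
    · rcases eq_or_ne i m with rfl | hm
      · simp [flip2, hla, hlb, hma, hmb]
      · rw [Equiv.swap_apply_of_ne_of_ne hl hm]
  show _ * _ = _ * _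
  rw [mon_mul, mon_mul, e, mul_one, one_mul, mul_comm s]
  rfl

theorem eps_flip_comm_one {a b : Fin 7} (s : Fin 7 → ℤˣ) :
    Commute (mon c s 1) (mon c (flip2 a b) 1) := by
  show _ * _ = _ * _
  rw [mon_mul, mon_mul]
  congr 1
  funext i
  show s i * flip2 a b ((1 : Equiv.Perm (Fin 7)).symm i) = flip2 a b i * s ((1 : Equiv.Perm (Fin 7)).symm i)
  exact mul_comm _ _

variable (hc : c ≠ 0) (h2 : (2 : F) ≠ 0)
include hc h2

/-- Elements commuting with a sign change of two coordinates take all values of the invariants. -/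
theorem exists_comm_inv (hns : ¬ IsSquare (2 : F)) {a b l m : Fin 7} (hla : l ≠ a) (hlb : l ≠ b)
    (hma : m ≠ a) (hmb : m ≠ b) (hlm : l ≠ m) (p : ℤˣ × ℤˣ) :
    ∃ r : isometryGroup F ⇑(form c), Commute r (mon c (flip2 a b) 1) ∧
      invHom (nondeg hc h2) (genQ_odd (nondeg hc h2) h2) r = p := by
  have hs : ∏ i, (Pi.mulSingle l (-1) : Fin 7 → ℤˣ) i = -1 := by rw [Finset.prod_pi_mulSingle']; simp
  have h1 : ∏ i : Fin 7, (1 : Fin 7 → ℤˣ) i = 1 := Finset.prod_eq_one fun _ _ => rfl
  obtain ⟨u, v⟩ := p
  obtain ⟨t, ht⟩ : ∃ t, sqSign c = t := ⟨_, rfl⟩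
  rcases Int.units_eq_one_or u with rfl | rfl
  · rcases Int.units_eq_one_or v with rfl | rfl
    · exact ⟨1, Commute.one_left _, map_one _⟩
    · refine ⟨mon c (Pi.mulSingle l (-1)) (Equiv.swap l m), eps_flip_comm hla hlb hma hmb _, ?_⟩
      rw [inv_mon hc h2 hns, hs, Equiv.Perm.sign_swap hlm, ht]
      rcases Int.units_eq_one_or t with rfl | rfl <;> simp
  · by_cases htv : t = v
    · refine ⟨mon c (Pi.mulSingle l (-1)) 1, eps_flip_comm_one _, ?_⟩
      rw [inv_mon hc h2 hns, hs, map_one, ht, htv]
      simp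
    · refine ⟨mon c 1 (Equiv.swap l m), eps_flip_comm hla hlb hma hmb _, ?_⟩
      rw [inv_mon hc h2 hns, h1, Equiv.Perm.sign_swap hlm, ht]
      rcases Int.units_eq_one_or t with rfl | rfl <;> rcases Int.units_eq_one_or v with rfl | rfl <;>
        first | exact absurd rfl htv | simp

/-- Two orthogonal reflections with equal values whose vectors span the space of two given orthogonal
vectors of equal values have the same product as those. -/
theorem refl_mul_rotate {f g : Fin 7 → F} {x y : F} (hfg : QuadraticMap.polar ⇑(form c) f g = 0)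
    (he : form c f = form c g) (hxy : form c f * (x * x + y * y) ≠ 0)
    (hu : form c (x • f + y • g) ≠ 0) (hv : form c (x • g - y • f) ≠ 0) (hf : form c f ≠ 0)
    (hg : form c g ≠ 0) : OrthAut.refl hu * OrthAut.refl hv = OrthAut.refl hf * OrthAut.refl hg := by
  have hQ1 : form c (x • f + y • g) = form c f * (x * x + y * y) := by
    rw [quad_add (Q := form c), QuadraticMap.map_smul, QuadraticMap.map_smul, QuadraticMap.polar_smul_left,
      QuadraticMap.polar_smul_right, hfg, he]
    simp only [smul_eq_mul]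
    ring
  have hQ2 : form c (x • g - y • f) = form c f * (x * x + y * y) := by
    rw [sub_eq_add_neg, ← neg_smul, quad_add (Q := form c), QuadraticMap.map_smul, QuadraticMap.map_smul,
      QuadraticMap.polar_smul_left, QuadraticMap.polar_smul_right, QuadraticMap.polar_comm, hfg, he]
    simp only [smul_eq_mul]
    ring
  have hff : QuadraticMap.polar ⇑(form c) f f = 2 * form c f := polar_self2 (Q := form c) f
  have hgg : QuadraticMap.polar ⇑(form c) g g = 2 * form c f := by
    rw [polar_self2 (Q := form c) g, he]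
  have hgf : QuadraticMap.polar ⇑(form c) g f = 0 := by rw [QuadraticMap.polar_comm, hfg]
  refine ogVal_ext (Matrix.ext_iff_mulVec.2 fun z => ?_)
  simp only [ogVal_mul, ← Matrix.mulVec_mulVec, refl_apply, hQ1, hQ2, ← he, QuadraticMap.polar_sub_right,
    QuadraticMap.polar_smul_right, QuadraticMap.polar_add_left, QuadraticMap.polar_smul_left,
    QuadraticMap.polar_sub_left, hfg, hgf, hff, hgg, smul_eq_mul]
  have hq : (form c f * (x * x + y * y))⁻¹ * (x * x + y * y) = (form c f)⁻¹ := by
    rw [mul_inv, mul_assoc, inv_mul_cancel₀ (right_ne_zero_of_mul hxy), mul_one]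
  funext i
  simp only [Pi.sub_apply, Pi.add_apply, Pi.smul_apply, smul_eq_mul]
  linear_combination (-(QuadraticMap.polar ⇑(form c) f z) * f i - QuadraticMap.polar ⇑(form c) g z * g i) * hq

/-- The sign change of `a, b` is conjugate in `Ω` to `(a a')(b b')`. -/
theorem flip_conj_pm (hns : ¬ IsSquare (2 : F)) {a a' b b' l m : Fin 7} (ha : a ≠ a') (hb : b ≠ b')
    (hab : a ≠ b) (hab' : a ≠ b') (ha'b : a' ≠ b) (ha'b' : a' ≠ b')
    (hla : l ≠ a) (hlb : l ≠ b) (hma : m ≠ a) (hmb : m ≠ b) (hlm : l ≠ m) :
    ∃ k ∈ Omega F ⇑(form c),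
      k * mon c (flip2 a b) 1 * k⁻¹ = mon c 1 (Equiv.swap a a' * Equiv.swap b b') := by
  classical
  set f : Fin 7 → F := Pi.single a 1 - Pi.single a' 1 with hfd
  set g : Fin 7 → F := Pi.single b 1 - Pi.single b' 1 with hgd
  have hff : form c f = 2 * c := form_diff hc h2 ha
  have hgg : form c g = 2 * c := form_diff hc h2 hb
  have hfg : QuadraticMap.polar ⇑(form c) f g = 0 := by
    rw [form, polar_wss]
    refine Finset.sum_eq_zero fun i _ => ?_
    simp only [hfd, hgd, Pi.sub_apply, Pi.single_apply]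
    split_ifs
    all_goals try subst_vars
    all_goals first
      | exact absurd rfl hab | exact absurd rfl hab' | exact absurd rfl ha'b | exact absurd rfl ha'b'
      | exact absurd rfl ‹¬ _› | simp
  obtain ⟨x, y, hxy⟩ := FiniteField.exists_root_sum_quadratic (f := (Polynomial.X : Polynomial F) ^ 2)
    (g := (Polynomial.X : Polynomial F) ^ 2 - Polynomial.C (2 : F)⁻¹)
    (by rw [Polynomial.degree_X_pow]; rfl)
    (by rw [Polynomial.degree_X_pow_sub_C (by norm_num)]; rfl)
    (FiniteField.odd_card_of_char_ne_two fun hch => h2 (by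
      haveI := ringChar.of_eq hch
      exact CharTwo.two_eq_zero))
  simp only [Polynomial.eval_pow, Polynomial.eval_X, Polynomial.eval_sub, Polynomial.eval_C] at hxy
  have hxy' : x * x + y * y = (2 : F)⁻¹ := by linear_combination hxy
  set u := x • f + y • g with hud
  set v := x • g - y • f with hvd
  have hval : form c f * (x * x + y * y) = c := by
    rw [hff, hxy']
    field_simp
  have hu : form c u = c := by
    rw [hud, quad_add (Q := form c), QuadraticMap.map_smul, QuadraticMap.map_smul, QuadraticMap.polar_smul_left,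
      QuadraticMap.polar_smul_right, hfg, hgg, hff]
    simp only [smul_eq_mul]
    linear_combination (2 * c) * hxy' + c * mul_inv_cancel₀ h2
  have hv : form c v = c := by
    rw [hvd, sub_eq_add_neg, ← neg_smul, quad_add (Q := form c), QuadraticMap.map_smul, QuadraticMap.map_smul,
      QuadraticMap.polar_smul_left, QuadraticMap.polar_smul_right, QuadraticMap.polar_comm, hfg, hgg, hff]
    simp only [smul_eq_mul]
    linear_combination (2 * c) * hxy' + c * mul_inv_cancel₀ h2
  have huv : QuadraticMap.polar ⇑(form c) u v = 0 := by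
    rw [hud, hvd]
    simp only [QuadraticMap.polar_sub_right, QuadraticMap.polar_add_left, QuadraticMap.polar_smul_left,
      QuadraticMap.polar_smul_right, hfg, QuadraticMap.polar_comm (⇑(form c)) g f,
      polar_self2 (Q := form c), hff, hgg, smul_eq_mul]
    ring
  let L : F × F →ₗ[F] (Fin 7 → F) :=
    (LinearMap.toSpanSingleton F (Fin 7 → F) (Pi.single a 1)).coprod
      (LinearMap.toSpanSingleton F (Fin 7 → F) (Pi.single b 1))
  let L' : F × F →ₗ[F] (Fin 7 → F) :=
    (LinearMap.toSpanSingleton F (Fin 7 → F) u).coprod (LinearMap.toSpanSingleton F (Fin 7 → F) v)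
  have hL : ∀ w, L w = w.1 • Pi.single a (1 : F) + w.2 • Pi.single b (1 : F) := fun _ => rfl
  have hL' : ∀ w, L' w = w.1 • u + w.2 • v := fun _ => rfl
  have hab0 : QuadraticMap.polar ⇑(form c) (Pi.single a (1 : F)) (Pi.single b (1 : F)) = 0 := by
    rw [form, polar_wss]
    refine Finset.sum_eq_zero fun i _ => ?_
    rcases eq_or_ne i a with rfl | hi
    · simp [hab]
    · simp [hi]
  have hLi : Function.Injective L := fun w w' e => by
    rw [hL, hL] at e
    have e1 := congrFun e a
    have e2 := congrFun e b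
    simp [hab, hab.symm] at e1 e2
    exact Prod.ext e1 e2
  have hLi' : Function.Injective L' := by
    refine (injective_iff_map_eq_zero L').2 fun w hw => ?_
    rw [hL'] at hw
    have e1 := congrArg (fun z => QuadraticMap.polar ⇑(form c) z u) hw
    have e2 := congrArg (fun z => QuadraticMap.polar ⇑(form c) z v) hw
    simp only [QuadraticMap.polar_add_left, QuadraticMap.polar_smul_left, QuadraticMap.polar_zero_left,
      QuadraticMap.polar_comm (⇑(form c)) v u, huv, polar_self2 (Q := form c), hu, hv, smul_eq_mul,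
      mul_zero, add_zero, zero_add] at e1 e2
    simp only [mul_eq_zero, h2, hc, or_false] at e1 e2
    exact Prod.ext e1 e2
  have hiso : ∀ w, form c (L' w) = form c (L w) := fun w => by
    rw [hL, hL', quad_add (Q := form c), quad_add (Q := form c), QuadraticMap.map_smul, QuadraticMap.map_smul,
      QuadraticMap.map_smul, QuadraticMap.map_smul, QuadraticMap.polar_smul_left, QuadraticMap.polar_smul_left,
      QuadraticMap.polar_smul_right, QuadraticMap.polar_smul_right, huv, hab0, hu, hv, form_single hc h2,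
      form_single hc h2]
    simp
  obtain ⟨M, hMd, hM, hMu⟩ := exists_isometry_map (nondeg hc h2) L L' hLi hLi' hiso
  set k₀ : isometryGroup F ⇑(form c) := mkIsometry M hMd hM
  have hka : ogVal k₀ *ᵥ Pi.single a 1 = u := by
    have := hMu (1, 0)
    rw [hL, hL', one_smul, zero_smul, add_zero, one_smul, zero_smul, add_zero] at this
    exact this
  have hkb : ogVal k₀ *ᵥ Pi.single b 1 = v := by
    have := hMu (0, 1)
    rw [hL, hL', one_smul, zero_smul, zero_add, one_smul, zero_smul, zero_add] at this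
    exact this
  obtain ⟨r, hr, hri⟩ := exists_comm_inv hc h2 hns hla hlb hma hmb hlm
    (invHom (nondeg hc h2) (genQ_odd (nondeg hc h2) h2) k₀)
  refine ⟨k₀ * r⁻¹, ?_, ?_⟩
  · rw [omega_eq_ker (nondeg hc h2) (genQ_odd (nondeg hc h2) h2), MonoidHom.mem_ker, map_mul, map_inv, hri,
      mul_inv_cancel]
  have e1 : mon c (flip2 a b) 1 = OrthAut.refl (single_ne hc h2 a) * OrthAut.refl (single_ne hc h2 b) := by
    rw [← eps_single hc h2, ← eps_single hc h2, ← map_mul]
    rfl
  have e2 : mon c 1 (Equiv.swap a a' * Equiv.swap b b') = OrthAut.refl (diff_ne hc h2 ha) * OrthAut.refl (diff_ne hc h2 hb) := by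
    rw [← pm_swap hc h2 ha, ← pm_swap hc h2 hb, ← map_mul]
    rfl
  have e3 : k₀ * r⁻¹ * mon c (flip2 a b) 1 * (k₀ * r⁻¹)⁻¹ = k₀ * mon c (flip2 a b) 1 * k₀⁻¹ := by
    rw [mul_assoc k₀, hr.inv_left.eq]
    group
  have hu0 : form c u ≠ 0 := by rw [hu]; exact hc
  have hv0 : form c v ≠ 0 := by rw [hv]; exact hc
  have c1 : k₀ * OrthAut.refl (single_ne hc h2 a) * k₀⁻¹ = OrthAut.refl hu0 := by
    rw [refl_conj k₀ (single_ne hc h2 a) (by rw [ogVal_quad]; exact single_ne hc h2 a)]
    exact refl_congr _ _ (c := 1) (by rw [one_smul, hka])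
  have c2 : k₀ * OrthAut.refl (single_ne hc h2 b) * k₀⁻¹ = OrthAut.refl hv0 := by
    rw [refl_conj k₀ (single_ne hc h2 b) (by rw [ogVal_quad]; exact single_ne hc h2 b)]
    exact refl_congr _ _ (c := 1) (by rw [one_smul, hkb])
  rw [e3, e1, e2, show k₀ * (OrthAut.refl (single_ne hc h2 a) * OrthAut.refl (single_ne hc h2 b)) * k₀⁻¹ =
    k₀ * OrthAut.refl (single_ne hc h2 a) * k₀⁻¹ * (k₀ * OrthAut.refl (single_ne hc h2 b) * k₀⁻¹) by group, c1, c2]
  exact refl_mul_rotate hc h2 hfg (hff.trans hgg.symm) (by rw [hval]; exact hc) hu0 hv0 _ _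

end Cfsg.Agent.Fus.OmegaSeven
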