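import Cfsg.Agent.Lib.Fus.OmegaSevenFusion
import Cfsg.Agent.Lib.Fus.OmegaSevenData

/-!
A Sylow 2-subgroup of `Ω₇(q)`, `q ≡ ±3 mod 8`, inside the stabiliser of an orthogonal frame: it is its own
normaliser and contains no proper non-trivial strongly closed subgroup.
-/

set_option autoImplicit false
set_option linter.unusedSectionVars false
set_option linter.style.haveILetI false

noncomputable section

namespace Cfsg.Agent.Fus.OmegaSeven

open Matrix Cfsg.Agent.Classical Cfsg.Agent.Classical.OrthAut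

/-- Properties of a subgroup used to show that its fusion system is simple and that it is self-automizing. -/
structure Rigid {G : Type*} [Group G] (S : Subgroup G) : Prop where
  normalizer_le : Subgroup.normalizer (S : Set G) ≤ S
  closed : ∀ T : Subgroup G, T ≤ S → T ≠ ⊥ →
    (∀ g : G, ∀ x ∈ T, g * x * g⁻¹ ∈ S → g * x * g⁻¹ ∈ T) → S ≤ T

theorem Rigid.map {G H : Type*} [Group G] [Group H] (E : G ≃* H) {S : Subgroup G} (h : Rigid S) :
    Rigid (S.map E.toMonoidHom) := by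
  have hm : ∀ (K : Subgroup G) (x : G), E x ∈ K.map E.toMonoidHom ↔ x ∈ K := fun K x =>
    ⟨fun ⟨y, hy, e⟩ => E.injective e ▸ hy, fun hx => ⟨x, hx, rfl⟩⟩
  refine ⟨fun x hx => ?_, fun T hT hT1 hc => ?_⟩
  · obtain ⟨x, rfl⟩ := E.surjective x
    refine (hm S x).2 (h.normalizer_le (Subgroup.mem_normalizer_iff.2 fun y => ?_))
    have h' := Subgroup.mem_normalizer_iff.1 hx (E y)
    rw [← map_inv, ← map_mul, ← map_mul] at h'
    exact ((hm S y).symm.trans h').trans (hm S _)
  · rw [Subgroup.map_le_iff_le_comap]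
    refine h.closed (T.comap E.toMonoidHom) (fun y hy => (hm S y).1 (hT hy)) ?_ fun g y hy hgy => ?_
    · obtain ⟨z, hz, hz1⟩ := (Subgroup.bot_or_exists_ne_one T).resolve_left hT1
      obtain ⟨z, rfl⟩ := E.surjective z
      intro e
      refine hz1 ?_
      have : z ∈ T.comap E.toMonoidHom := hz
      rw [e, Subgroup.mem_bot] at this
      rw [this, map_one]
    · have := hc (E g) (E y) hy (by rw [← map_inv, ← map_mul, ← map_mul]; exact (hm S _).2 hgy)
      rw [← map_inv, ← map_mul, ← map_mul] at this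
      exact this

variable {F : Type*} [Field F] [Fintype F] {c : F}

theorem prod_comp_perm (t : Fin 7 → ℤˣ) (σ : Equiv.Perm (Fin 7)) :
    ∏ i, t (σ.symm i) = ∏ i, t i := Equiv.prod_comp σ.symm t

/-- The 2-group. -/
def syl (c : F) : Subgroup (Omega F ⇑(form c)) where
  carrier := {g | ∃ s σ, σ ∈ dGroup ∧ (g : isometryGroup F ⇑(form c)) = mon c s σ}
  one_mem' := ⟨1, 1, one_mem _, (mon_one c).symm⟩
  mul_mem' := by
    rintro a b ⟨s, σ, hσ, ha⟩ ⟨t, τ, hτ, hb⟩
    exact ⟨_, _, mul_mem hσ hτ, by rw [Subgroup.coe_mul, ha, hb, mon_mul]⟩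
  inv_mem' := by
    rintro a ⟨s, σ, hσ, ha⟩
    exact ⟨_, _, inv_mem hσ, by rw [Subgroup.coe_inv, ha, mon_inv]⟩

theorem mem_syl {g : Omega F ⇑(form c)} :
    g ∈ syl c ↔ ∃ s σ, σ ∈ dGroup ∧ (g : isometryGroup F ⇑(form c)) = mon c s σ := Iff.rfl

/-- The permutation under an element of the 2-group. -/
def prj (h2 : (2 : F) ≠ 0) : syl c →* Equiv.Perm (Fin 7) :=
  MonoidHom.mk' (fun g => g.2.choose_spec.choose) fun a b => by
    obtain ⟨-, e⟩ := (a * b).2.choose_spec.choose_spec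
    obtain ⟨-, ea⟩ := a.2.choose_spec.choose_spec
    obtain ⟨-, eb⟩ := b.2.choose_spec.choose_spec
    exact (mon_inj c h2 (e.symm.trans ((congrArg₂ (· * ·) ea eb).trans (mon_mul c _ _ _ _)))).2

variable (hc : c ≠ 0) (h2 : (2 : F) ≠ 0) (hns : ¬ IsSquare (2 : F))
include hc h2 hns

/-- An element of the frame stabiliser in `Ω`. -/
def el (s : Fin 7 → ℤˣ) (σ : Equiv.Perm (Fin 7)) (hs : ∏ i, s i = 1) (hσ : Equiv.Perm.sign σ = 1) :
    Omega F ⇑(form c) := ⟨mon c s σ, (mon_mem_omega hc h2 hns s σ).2 ⟨hs, hσ⟩⟩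

theorem mon_omega_prod {g : Omega F ⇑(form c)} {s : Fin 7 → ℤˣ} {σ : Equiv.Perm (Fin 7)}
    (e : (g : isometryGroup F ⇑(form c)) = mon c s σ) : ∏ i, s i = 1 ∧ Equiv.Perm.sign σ = 1 :=
  (mon_mem_omega hc h2 hns s σ).1 (e ▸ g.2)

theorem el_mem_syl {s : Fin 7 → ℤˣ} {σ : Equiv.Perm (Fin 7)} (hs : ∏ i, s i = 1) (hσ : σ ∈ dGroup) :
    el hc h2 hns s σ hs (dGroup_even hσ) ∈ syl c := ⟨s, σ, hσ, rfl⟩

theorem card_syl : Nat.card (syl c) = 512 := by
  let f : {s : Fin 7 → ℤˣ // s ∈ evens} × dGroup → syl c := fun p =>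
    ⟨_, el_mem_syl hc h2 hns (mem_evens.1 p.1.2) p.2.2⟩
  have hf : Function.Bijective f := by
    constructor
    · intro p q e
      have := mon_inj c h2 (congrArg (fun x : syl c => ((x : Omega F ⇑(form c)) :
        isometryGroup F ⇑(form c))) e)
      exact Prod.ext (Subtype.ext this.1) (Subtype.ext this.2)
    · rintro ⟨g, s, σ, hσ, hg⟩
      exact ⟨(⟨s, mem_evens.2 (mon_omega_prod hc h2 hns hg).1⟩, ⟨σ, hσ⟩),
        Subtype.ext (Subtype.ext hg.symm)⟩
  rw [← Nat.card_eq_of_bijective f hf, Nat.card_prod, card_dGroup, Nat.card_eq_fintype_card,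
    Fintype.card_coe, card_evens]

theorem prj_spec (g : syl c) : prj h2 g ∈ dGroup ∧
    ∃ s, ((g : Omega F ⇑(form c)) : isometryGroup F ⇑(form c)) = mon c s (prj h2 g) :=
  ⟨g.2.choose_spec.choose_spec.1, _, g.2.choose_spec.choose_spec.2⟩

theorem prj_eq {g : syl c} {s : Fin 7 → ℤˣ} {σ : Equiv.Perm (Fin 7)}
    (e : ((g : Omega F ⇑(form c)) : isometryGroup F ⇑(form c)) = mon c s σ) : prj h2 g = σ := by
  obtain ⟨-, t, ht⟩ := prj_spec hc h2 hns g
  exact (mon_inj c h2 (ht.symm.trans e)).2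

set_option maxHeartbeats 1600000 in
/-- An abelian subgroup of order 64 of the 2-group consists of diagonal elements. -/
theorem abelian_diag (B : Subgroup (syl c)) (hB : ∀ a ∈ B, ∀ b ∈ B, a * b = b * a)
    (hcard : 64 ≤ Nat.card B) : ∀ g ∈ B, prj h2 g = 1 := by
  classical
  haveI : Finite (syl c) := Nat.finite_of_card_ne_zero (by rw [card_syl hc h2 hns]; norm_num)
  set φ := (prj h2).comp B.subtype with hφ
  by_contra hne
  push Not at hne
  obtain ⟨g₀, hg₀, hg₀1⟩ := hne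
  set σ := prj h2 g₀
  have hfix : ∀ x : φ.ker, ∀ y ∈ B, ∃ s, (((x : B) : syl c) : Omega F ⇑(form c)).1 = mon c s 1 ∧
      ∀ i, s ((prj h2 y).symm i) = s i := by
    intro x y hy
    obtain ⟨-, s, hs⟩ := prj_spec hc h2 hns (x : B)
    obtain ⟨-, t, ht⟩ := prj_spec hc h2 hns y
    rw [show prj h2 ((x : B) : syl c) = 1 from MonoidHom.mem_ker.1 x.2] at hs
    refine ⟨s, hs, fun i => ?_⟩
    have e := congrArg (fun z : syl c => ((z : Omega F ⇑(form c)) : isometryGroup F ⇑(form c)))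
      (hB _ (x : B).2 y hy)
    simp only [Subgroup.coe_mul] at e
    rw [hs, ht, mon_mul, mon_mul] at e
    have := congrFun (mon_inj c h2 e).1 i
    simp only [Pi.mul_apply] at this
    rw [show (1 : Equiv.Perm (Fin 7)).symm i = i from rfl, mul_comm (s i)] at this
    exact (mul_left_cancel this).symm
  have hprod := Subgroup.card_mul_index φ.ker
  rw [Subgroup.index_ker] at hprod
  have hR : (φ.range : Set (Equiv.Perm (Fin 7))) ⊆ (dGroup : Set (Equiv.Perm (Fin 7))) := by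
    rintro _ ⟨y, rfl⟩
    exact (prj_spec hc h2 hns (y : syl c)).1
  by_cases hex : ∃ y ∈ B, prj h2 y ≠ 1 ∧ prj h2 y ≠ σ
  · obtain ⟨y, hy, hy1, hyσ⟩ := hex
    have hk : Nat.card φ.ker ≤ 8 := by
      refine le_trans ?_ (fixed_two σ (prj_spec hc h2 hns g₀).1 _ (prj_spec hc h2 hns y).1 hg₀1 hy1
        (Ne.symm hyσ) (by rw [← map_mul, hB _ hg₀ _ hy, map_mul]))
      rw [← Fintype.card_coe, ← Nat.card_eq_fintype_card]
      refine Nat.card_le_card_of_injective (fun x => ⟨(hfix x g₀ hg₀).choose, ?_⟩) ?_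
      · obtain ⟨hs, hs'⟩ := (hfix x g₀ hg₀).choose_spec
        obtain ⟨t, ht, ht'⟩ := hfix x y hy
        refine Finset.mem_filter.2 ⟨mem_evens.2 (mon_omega_prod hc h2 hns hs).1, hs', ?_⟩
        rw [(mon_inj c h2 (hs.symm.trans ht)).1]
        exact ht'
      · intro x x' e
        refine Subtype.ext (Subtype.ext (Subtype.ext (Subtype.ext ?_)))
        have e' : (hfix x g₀ hg₀).choose = (hfix x' g₀ hg₀).choose := congrArg Subtype.val e
        exact ((hfix x g₀ hg₀).choose_spec.1.trans (congrArg (fun z => mon c z 1) e')).trans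
          (hfix x' g₀ hg₀).choose_spec.1.symm
    have hr : Nat.card φ.range < 8 := by
      refine lt_of_le_of_ne ((Nat.card_mono (Set.toFinite _) hR).trans card_dGroup.le) fun e => ?_
      have heq : (φ.range : Set (Equiv.Perm (Fin 7))) = dGroup := Set.eq_of_subset_of_ncard_le hR (by
        rw [← Nat.card_coe_set_eq, ← Nat.card_coe_set_eq]; exact (card_dGroup.le.trans e.ge))
      have hmem : ∀ π ∈ dGroup, ∃ z ∈ B, prj h2 z = π := fun π hπ => by
        obtain ⟨z, hz⟩ : π ∈ (φ.range : Set (Equiv.Perm (Fin 7))) := heq ▸ hπ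
        exact ⟨z, z.2, hz⟩
      obtain ⟨u, hu, hu'⟩ := hmem (pA * pB * pC) (by simp [mem_dGroup, dList])
      obtain ⟨v, hv, hv'⟩ := hmem pB (by simp [mem_dGroup, dList])
      refine dGroup_noncomm ?_
      rw [← hu', ← hv', ← map_mul, ← map_mul, hB _ hu _ hv]
    have : Nat.card φ.ker * Nat.card φ.range ≤ 8 * 7 := Nat.mul_le_mul hk (by omega)
    omega
  · push Not at hex
    have hk : Nat.card φ.ker ≤ 16 := by
      refine le_trans ?_ (fixed_one σ (prj_spec hc h2 hns g₀).1 hg₀1)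
      rw [← Fintype.card_coe, ← Nat.card_eq_fintype_card]
      refine Nat.card_le_card_of_injective (fun x => ⟨(hfix x g₀ hg₀).choose, ?_⟩) ?_
      · obtain ⟨hs, hs'⟩ := (hfix x g₀ hg₀).choose_spec
        exact Finset.mem_filter.2 ⟨mem_evens.2 (mon_omega_prod hc h2 hns hs).1, hs'⟩
      · intro x x' e
        refine Subtype.ext (Subtype.ext (Subtype.ext (Subtype.ext ?_)))
        have e' : (hfix x g₀ hg₀).choose = (hfix x' g₀ hg₀).choose := congrArg Subtype.val e
        exact ((hfix x g₀ hg₀).choose_spec.1.trans (congrArg (fun z => mon c z 1) e')).trans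
          (hfix x' g₀ hg₀).choose_spec.1.symm
    have hr : Nat.card φ.range ≤ 2 := by
      have hsub : (φ.range : Set (Equiv.Perm (Fin 7))) ⊆ {1, σ} := by
        rintro _ ⟨y, rfl⟩
        by_cases h : prj h2 (y : syl c) = 1
        · exact Or.inl h
        · exact Or.inr (hex _ y.2 h)
      rw [← SetLike.coe_sort_coe, Nat.card_coe_set_eq]
      exact (Set.ncard_le_ncard hsub (Set.toFinite _)).trans ((Set.ncard_insert_le _ _).trans (by simp))
    have : Nat.card φ.ker * Nat.card φ.range ≤ 16 * 2 := Nat.mul_le_mul hk hr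
    omega

/-- An element normalising the 2-group normalises the diagonal part. -/
theorem conj_diag {g : Omega F ⇑(form c)}
    (hg : g ∈ Subgroup.normalizer (syl c : Set (Omega F ⇑(form c)))) {t : Fin 7 → ℤˣ}
    (ht : ∏ i, t i = 1) :
    ∃ t', ((g : isometryGroup F ⇑(form c)) * mon c t 1 * (g : isometryGroup F ⇑(form c))⁻¹) = mon c t' 1 := by
  classical
  let E : {s : Fin 7 → ℤˣ // ∏ i, s i = 1} → syl c := fun s =>
    ⟨g * el hc h2 hns s.1 1 s.2 (map_one _) * g⁻¹,
      (Subgroup.mem_normalizer_iff.1 hg _).1 (el_mem_syl hc h2 hns s.2 (one_mem _))⟩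
  have hval : ∀ s, (((E s : syl c) : Omega F ⇑(form c)) : isometryGroup F ⇑(form c)) =
      (g : isometryGroup F ⇑(form c)) * mon c s.1 1 * (g : isometryGroup F ⇑(form c))⁻¹ := fun s => rfl
  have hmul : ∀ s s', E s * E s' = ⟨g * (el hc h2 hns s.1 1 s.2 (map_one _) * el hc h2 hns s'.1 1 s'.2 (map_one _)) * g⁻¹,
      by rw [show g * (el hc h2 hns s.1 1 s.2 (map_one _) * el hc h2 hns s'.1 1 s'.2 (map_one _)) * g⁻¹ =
          (E s : Omega F ⇑(form c)) * (E s' : Omega F ⇑(form c)) by show _ = _ * g⁻¹ * (g * _ * g⁻¹); group]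
         exact mul_mem (E s).2 (E s').2⟩ := fun s s' => Subtype.ext (by
    show g * _ * g⁻¹ * (g * _ * g⁻¹) = g * (_ * _) * g⁻¹
    group)
  let B : Subgroup (syl c) :=
    { carrier := Set.range E
      one_mem' := ⟨⟨1, Finset.prod_eq_one fun _ _ => rfl⟩, Subtype.ext (Subtype.ext (by
        rw [hval, mon_one, mul_one, mul_inv_cancel]; rfl))⟩
      mul_mem' := by
        rintro _ _ ⟨s, rfl⟩ ⟨s', rfl⟩
        refine ⟨⟨s.1 * s'.1, by simp only [Pi.mul_apply, Finset.prod_mul_distrib, s.2, s'.2, mul_one]⟩,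
          Subtype.ext (Subtype.ext ?_)⟩
        rw [hval, Subgroup.coe_mul, Subgroup.coe_mul, hval, hval]
        calc _ = (g : isometryGroup F ⇑(form c)) * (mon c s.1 1 * mon c s'.1 1) *
            (g : isometryGroup F ⇑(form c))⁻¹ := by simp only [mon_mul, mul_one]; rfl
          _ = _ := by group
      inv_mem' := by
        rintro _ ⟨s, rfl⟩
        refine ⟨s, eq_inv_of_mul_eq_one_left (Subtype.ext (Subtype.ext ?_))⟩
        rw [Subgroup.coe_mul, Subgroup.coe_mul, hval]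
        calc _ = (g : isometryGroup F ⇑(form c)) * (mon c s.1 1 * mon c s.1 1) *
            (g : isometryGroup F ⇑(form c))⁻¹ := by group
          _ = 1 := by
            rw [mon_mul, mul_one, show (s.1 * fun i => s.1 ((1 : Equiv.Perm (Fin 7)).symm i)) = 1 from
              funext fun i => Int.units_mul_self _, mon_one, mul_one, mul_inv_cancel] }
  have hB : ∀ a ∈ B, ∀ b ∈ B, a * b = b * a := by
    rintro _ ⟨s, rfl⟩ _ ⟨s', rfl⟩
    rw [hmul, hmul]
    refine Subtype.ext (Subtype.ext ?_)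
    show (g : isometryGroup F ⇑(form c)) * (mon c s.1 1 * mon c s'.1 1) * _ =
      (g : isometryGroup F ⇑(form c)) * (mon c s'.1 1 * mon c s.1 1) * _
    rw [mon_mul, mon_mul]
    simp only [mul_one]
    congr 3
    funext i
    exact mul_comm _ _
  have hcard : 64 ≤ Nat.card B := by
    have hinj : Function.Injective (fun s => (⟨E s, s, rfl⟩ : B)) := fun s s' e => by
      have e1 := congrArg (fun x : B => (((x : syl c) : Omega F ⇑(form c)) : isometryGroup F ⇑(form c))) e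
      simp only [hval] at e1
      exact Subtype.ext (mon_inj c h2 (mul_left_cancel (mul_right_cancel e1))).1
    haveI : Finite (syl c) := Nat.finite_of_card_ne_zero (by rw [card_syl hc h2 hns]; norm_num)
    refine le_trans (le_of_eq ?_) (Nat.card_le_card_of_injective _ hinj)
    rw [Nat.card_eq_fintype_card, Fintype.card_subtype, ← card_evens]
    congr 1
  have h1 := abelian_diag hc h2 hns B hB hcard (E ⟨t, ht⟩) ⟨_, rfl⟩
  obtain ⟨-, t', ht'⟩ := prj_spec hc h2 hns (E ⟨t, ht⟩)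
  rw [h1, hval] at ht'
  exact ⟨t', ht'⟩

/-- An element of `Ω` normalising the diagonal part is a signed permutation. -/
theorem exists_mon {g : Omega F ⇑(form c)}
    (hE : ∀ t : Fin 7 → ℤˣ, ∏ i, t i = 1 →
      ∃ t', ((g : isometryGroup F ⇑(form c)) * mon c t 1 * (g : isometryGroup F ⇑(form c))⁻¹) = mon c t' 1) :
    ∃ s σ, (g : isometryGroup F ⇑(form c)) = mon c s σ := by
  classical
  set k := (g : isometryGroup F ⇑(form c))
  let C : Fin 7 → Fin 7 → F := fun i j => (ogVal k *ᵥ Pi.single i (1 : F)) j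
  have hcol : ∀ t, ∏ l, t l = 1 → ∀ t', k * mon c t 1 * k⁻¹ = mon c t' 1 →
      ∀ i j, sg (t' j) * C i j = sg (t i) * C i j := by
    intro t _ t' he i j
    have e1 : k * mon c t 1 = mon c t' 1 * k := mul_inv_eq_iff_eq_mul.1 he
    have e2 := congrFun (congrArg (fun z => ogVal z *ᵥ Pi.single i (1 : F)) e1) j
    simp only [ogVal_mul, ← Matrix.mulVec_mulVec, mon_apply] at e2
    rw [show (1 : Equiv.Perm (Fin 7)).symm j = j from rfl] at e2
    have e3 : ogVal (mon c t 1) *ᵥ Pi.single i (1 : F) = Pi.single i (sg (t i)) := funext fun l => by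
      rw [mon_apply, show (1 : Equiv.Perm (Fin 7)).symm l = l from rfl]
      rcases eq_or_ne l i with rfl | hl
      · simp
      · simp [hl]
    have e4 : (Pi.single i (sg (t i)) : Fin 7 → F) = (sg (t i) : F) • (Pi.single i (1 : F) : Fin 7 → F) := by
      rw [← Pi.single_smul', smul_eq_mul, mul_one]
    rw [e3, e4, Matrix.mulVec_smul] at e2
    change sg (t i) * C i j = sg (t' j) * C i j at e2
    exact e2.symm
  let T : {t : Fin 7 → ℤˣ // ∏ i, t i = 1} → {t : Fin 7 → ℤˣ // ∏ i, t i = 1} := fun t =>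
    ⟨(hE t.1 t.2).choose, by
      have h := (hE t.1 t.2).choose_spec
      have : k * mon c t.1 1 * k⁻¹ ∈ Omega F ⇑(form c) :=
        Subgroup.mul_mem _ (Subgroup.mul_mem _ g.2 ((mon_mem_omega hc h2 hns _ _).2 ⟨t.2, map_one _⟩))
          (Subgroup.inv_mem _ g.2)
      rw [h] at this
      exact ((mon_mem_omega hc h2 hns _ _).1 this).1⟩
  have hTi : Function.Injective T := fun t t' e => by
    have h := (hE t.1 t.2).choose_spec.trans
      ((congrArg (fun z => mon c z 1) (congrArg Subtype.val e)).trans (hE t'.1 t'.2).choose_spec.symm)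
    exact Subtype.ext (mon_inj c h2 (mul_left_cancel (mul_right_cancel h))).1
  have hTs := Finite.surjective_of_injective hTi
  have huniq : ∀ i j l, C i j ≠ 0 → C i l ≠ 0 → j = l := by
    intro i j l hj hl
    by_contra hjl
    obtain ⟨m, hmj, hml⟩ : ∃ m, m ≠ j ∧ m ≠ l := by
      have : ∀ a b : Fin 7, ∃ m, m ≠ a ∧ m ≠ b := by decide
      exact this j l
    obtain ⟨t, ht⟩ := hTs ⟨flip2 j m, prod_flip2 _ _⟩
    have h := hcol t.1 t.2 _ (hE t.1 t.2).choose_spec
    rw [show (hE t.1 t.2).choose = flip2 j m from congrArg Subtype.val ht] at h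
    have h1 := mul_right_cancel₀ hj (h i j)
    have h3 := mul_right_cancel₀ hl (h i l)
    have h4 := sg_inj h2 (h1.trans h3.symm)
    simp [flip2, hmj.symm, hml.symm, Ne.symm hjl] at h4
  have hex : ∀ i, ∃ j, C i j ≠ 0 := by
    intro i
    by_contra h
    push Not at h
    have h1 : ogVal k *ᵥ Pi.single i (1 : F) = 0 := funext h
    have h3 := ogVal_quad k (Pi.single i (1 : F))
    rw [h1, QuadraticMap.map_zero] at h3
    exact single_ne hc h2 i h3.symm
  choose π hπ using hex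
  have hcolv : ∀ i, ogVal k *ᵥ Pi.single i (1 : F) = Pi.single (π i) (C i (π i)) := fun i => funext fun j => by
    rcases eq_or_ne j (π i) with rfl | hj
    · simp [C]
    · rw [Pi.single_eq_of_ne hj]
      by_contra h
      exact hj (huniq i j (π i) h (hπ i))
  have hsign : ∀ i, ∃ u : ℤˣ, C i (π i) = sg u := fun i => by
    have h3 := ogVal_quad k (Pi.single i (1 : F))
    rw [hcolv, form_single hc h2, form_single hc h2] at h3
    rcases mul_self_eq_one_iff.1 (mul_left_cancel₀ hc (h3.trans (by ring : c * ((1 : F) * 1) = c * 1))) with e | e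
    · exact ⟨1, by rw [e, sg_one]⟩
    · exact ⟨-1, by rw [e, sg_neg_one]⟩
  choose u hu using hsign
  have hπi : Function.Injective π := by
    intro i j e
    by_contra hij
    have h1 : ogVal k *ᵥ Pi.single i (1 : F) = (C i (π i) * C j (π j)) • (ogVal k *ᵥ Pi.single j (1 : F)) := by
      rw [hcolv, hcolv, ← e, ← Pi.single_smul', smul_eq_mul, e, hu j]
      congr 1
      rw [mul_assoc, sg_sq, mul_one]
    rw [← Matrix.mulVec_smul] at h1
    have h3 := congrArg (fun z => ogVal k⁻¹ *ᵥ z) h1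
    simp only [ogVal_inv_cancel] at h3
    have h4 := congrFun h3 i
    simp [hij] at h4
  let σ := Equiv.ofBijective π (Finite.injective_iff_bijective.1 hπi)
  refine ⟨fun j => u (σ.symm j), σ, ogVal_ext (Matrix.ext_of_mulVec_single fun i => ?_)⟩
  rw [hcolv]
  refine funext fun j => ?_
  rw [mon_apply]
  rcases eq_or_ne j (π i) with rfl | hj
  · rw [Pi.single_eq_same, show σ.symm (π i) = i from σ.symm_apply_apply i, Pi.single_eq_same, mul_one, hu]
  · rw [Pi.single_eq_of_ne hj, Pi.single_eq_of_ne (fun h => hj (by rw [← h]; exact (σ.apply_symm_apply j).symm)),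
      mul_zero]

theorem normalizer_syl :
    Subgroup.normalizer (syl c : Set (Omega F ⇑(form c))) ≤ syl c := by
  intro g hg
  obtain ⟨s, σ, hgs⟩ := exists_mon hc h2 hns fun t ht => conj_diag hc h2 hns hg ht
  have hσ : Equiv.Perm.sign σ = 1 := (mon_omega_prod hc h2 hns hgs).2
  refine ⟨s, σ, normalizer_dGroup σ (fun d hd => ?_) hσ, hgs⟩
  have h1 : ∏ _i : Fin 7, (1 : ℤˣ) = 1 := Finset.prod_const_one
  obtain ⟨t, τ, hτ, ht⟩ := (Subgroup.mem_normalizer_iff.1 hg (el hc h2 hns 1 d h1 (dGroup_even hd))).1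
    (el_mem_syl hc h2 hns h1 hd)
  rw [Subgroup.coe_mul, Subgroup.coe_mul, Subgroup.coe_inv, hgs, mon_inv] at ht
  rw [show ((el hc h2 hns 1 d h1 (dGroup_even hd) : Omega F ⇑(form c)) : isometryGroup F ⇑(form c)) =
    mon c 1 d from rfl, mon_mul, mon_mul] at ht
  exact (mon_inj c h2 ht).2 ▸ hτ

set_option maxHeartbeats 800000 in
theorem closed_syl (T : Subgroup (Omega F ⇑(form c))) (hT : T ≤ syl c) (hT1 : T ≠ ⊥)
    (hcl : ∀ g : Omega F ⇑(form c), ∀ x ∈ T, g * x * g⁻¹ ∈ syl c → g * x * g⁻¹ ∈ T) :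
    syl c ≤ T := by
  classical
  let W : Subgroup (Fin 7 → ℤˣ) :=
    ((Subgroup.map (Omega F ⇑(form c)).subtype T).comap (epsHom c))
  have hWmem : ∀ {x : Omega F ⇑(form c)} {t : Fin 7 → ℤˣ},
      (x : isometryGroup F ⇑(form c)) = mon c t 1 → (x ∈ T ↔ t ∈ W) := fun {x t} e =>
    ⟨fun h => ⟨x, h, e⟩, fun ⟨y, hy, hye⟩ => (show y = x from Subtype.ext (hye.trans e.symm)) ▸ hy⟩
  have hWel : ∀ {t : Fin 7 → ℤˣ}, t ∈ W → ∃ ht : ∏ i, t i = 1, el hc h2 hns t 1 ht (map_one _) ∈ T :=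
    fun {t} ⟨y, hy, hye⟩ => ⟨(mon_omega_prod hc h2 hns (show (y : isometryGroup F ⇑(form c)) = mon c t 1 from hye)).1,
      (show y = el hc h2 hns t 1 _ _ from Subtype.ext hye) ▸ hy⟩
  have hWperm : ∀ {t : Fin 7 → ℤˣ}, t ∈ W → ∀ σ : Equiv.Perm (Fin 7), Equiv.Perm.sign σ = 1 →
      (fun i => t (σ.symm i)) ∈ W := by
    intro t ht σ hσ
    obtain ⟨hp, hmem⟩ := hWel ht
    have hp' : ∏ i, t (σ.symm i) = 1 := (prod_comp_perm t σ).trans hp
    set k := el hc h2 hns 1 σ (Finset.prod_const_one) hσ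
    have he : k * el hc h2 hns t 1 hp (map_one _) * k⁻¹ = el hc h2 hns (fun i => t (σ.symm i)) 1 hp' (map_one _) :=
      Subtype.ext (conj_eps c 1 t σ)
    have := hcl k _ hmem (by rw [he]; exact el_mem_syl hc h2 hns hp' (one_mem _))
    rw [he] at this
    exact (hWmem rfl).1 this
  -- a non-trivial diagonal element
  obtain ⟨t₀, ht₀, ht₀1⟩ : ∃ t ∈ W, t ≠ 1 := by
    obtain ⟨x, hx, hx1⟩ := (Subgroup.bot_or_exists_ne_one T).resolve_left hT1
    obtain ⟨s, σ, hσ, hxe⟩ := hT hx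
    by_cases hs1 : σ = 1
    · subst hs1
      exact ⟨s, (hWmem hxe).1 hx, fun e => hx1 (Subtype.ext (hxe.trans (by rw [e]; exact mon_one c)))⟩
    obtain ⟨i, hi⟩ : ∃ i, σ.symm i ≠ i := by
      by_contra h
      push Not at h
      exact hs1 (Equiv.ext fun i => by
        conv_lhs => rw [← h i]
        rw [Equiv.apply_symm_apply]; rfl)
    obtain ⟨m, hmi, hms⟩ : ∃ m, m ≠ i ∧ m ≠ σ.symm i := by
      have : ∀ a b : Fin 7, ∃ m, m ≠ a ∧ m ≠ b := by decide
      exact this i _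
    set e := el hc h2 hns (flip2 i m) 1 (prod_flip2 _ _) (map_one _)
    have heS : e ∈ syl c := el_mem_syl hc h2 hns _ (one_mem _)
    have h1 : e * x * e⁻¹ ∈ T := hcl e x hx (mul_mem (mul_mem heS ⟨s, σ, hσ, hxe⟩) (inv_mem heS))
    have h3 : e * x * e⁻¹ * x⁻¹ ∈ T := mul_mem h1 (inv_mem hx)
    refine ⟨flip2 i m * fun j => flip2 i m (σ.symm j), (hWmem ?_).1 h3, fun he => ?_⟩
    · rw [Subgroup.coe_mul, Subgroup.coe_mul, Subgroup.coe_mul, Subgroup.coe_inv, Subgroup.coe_inv, hxe,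
        show ((e : Omega F ⇑(form c)) : isometryGroup F ⇑(form c)) = mon c (flip2 i m) 1 from rfl,
        mon_inv, mon_inv, mon_mul, mon_mul, mon_mul]
      congr 1
      · funext j
        simp only [Pi.mul_apply, one_mul,
          show ∀ l, (1 : Equiv.Perm (Fin 7)) l = l from fun _ => rfl,
          show ∀ l, (1 : Equiv.Perm (Fin 7)).symm l = l from fun _ => rfl]
        rcases Int.units_eq_one_or (s j) with e' | e' <;>
          rcases Int.units_eq_one_or (flip2 i m j) with e₁ | e₁ <;>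
          rcases Int.units_eq_one_or (flip2 i m (σ.symm j)) with e₂ | e₂ <;> simp [e', e₁, e₂]
      · simp
    · have := congrFun he i
      simp [flip2, hi, hmi.symm, hms.symm] at this
  -- one pair
  obtain ⟨i, j, hij, hpair⟩ : ∃ i j, i ≠ j ∧ flip2 i j ∈ W := by
    obtain ⟨hp, -⟩ := hWel ht₀
    obtain ⟨i, j, hij⟩ : ∃ i j, t₀ i ≠ t₀ j := by
      have key : ∀ t : Fin 7 → ℤˣ, ∏ i, t i = 1 → t ≠ 1 → ∃ i j, t i ≠ t j := by decide +kernel
      exact key t₀ hp ht₀1
    have hne : i ≠ j := fun e => hij (congrArg t₀ e)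
    obtain ⟨k, l, hki, hkj, hli, hlj, hkl, hkl'⟩ : ∃ k l, k ≠ i ∧ k ≠ j ∧ l ≠ i ∧ l ≠ j ∧ k ≠ l ∧ t₀ k = t₀ l := by
      obtain ⟨k₁, k₂, k₃, h⟩ : ∃ a b d : Fin 7, (a ≠ i ∧ a ≠ j) ∧ (b ≠ i ∧ b ≠ j) ∧ (d ≠ i ∧ d ≠ j) ∧
          a ≠ b ∧ a ≠ d ∧ b ≠ d := by
        have : ∀ i j : Fin 7, ∃ a b d : Fin 7, (a ≠ i ∧ a ≠ j) ∧ (b ≠ i ∧ b ≠ j) ∧ (d ≠ i ∧ d ≠ j) ∧
          a ≠ b ∧ a ≠ d ∧ b ≠ d := by decide +kernel
        exact this i j
      obtain ⟨ha, hb, hd, hab, had, hbd⟩ := h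
      rcases Int.units_eq_one_or (t₀ k₁) with e1 | e1 <;> rcases Int.units_eq_one_or (t₀ k₂) with e2 | e2 <;>
        rcases Int.units_eq_one_or (t₀ k₃) with e3 | e3 <;>
        first
          | exact ⟨k₁, k₂, ha.1, ha.2, hb.1, hb.2, hab, e1.trans e2.symm⟩
          | exact ⟨k₁, k₃, ha.1, ha.2, hd.1, hd.2, had, e1.trans e3.symm⟩
          | exact ⟨k₂, k₃, hb.1, hb.2, hd.1, hd.2, hbd, e2.trans e3.symm⟩
    refine ⟨i, j, hne, ?_⟩
    have h := mul_mem ht₀ (hWperm ht₀ (Equiv.swap i j * Equiv.swap k l)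
      (by rw [map_mul, Equiv.Perm.sign_swap hne, Equiv.Perm.sign_swap hkl]; rfl))
    convert h using 1
    funext m
    simp only [Pi.mul_apply, Equiv.Perm.mul_def, Equiv.symm_trans_apply, Equiv.symm_swap]
    rcases eq_or_ne m i with rfl | hmi
    · rw [Equiv.swap_apply_left, Equiv.swap_apply_of_ne_of_ne hkj.symm hlj.symm]
      rcases Int.units_eq_one_or (t₀ m) with e | e <;> rcases Int.units_eq_one_or (t₀ j) with e' | e' <;>
        rw [e, e'] at hij ⊢ <;> simp_all [flip2]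
    rcases eq_or_ne m j with rfl | hmj
    · rw [Equiv.swap_apply_right, Equiv.swap_apply_of_ne_of_ne hki.symm hli.symm]
      rcases Int.units_eq_one_or (t₀ i) with e | e <;> rcases Int.units_eq_one_or (t₀ m) with e' | e' <;>
        rw [e, e'] at hij ⊢ <;> simp_all [flip2]
    rw [Equiv.swap_apply_of_ne_of_ne hmi hmj]
    rcases eq_or_ne m k with rfl | hmk
    · rw [Equiv.swap_apply_left, ← hkl', Int.units_mul_self]
      simp [flip2, hmi, hmj]
    rcases eq_or_ne m l with rfl | hml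
    · rw [Equiv.swap_apply_right, hkl', Int.units_mul_self]
      simp [flip2, hmi, hmj]
    rw [Equiv.swap_apply_of_ne_of_ne hmk hml, Int.units_mul_self]
    simp [flip2, hmi, hmj]
  -- all pairs
  have hall : ∀ a b, a ≠ b → flip2 a b ∈ W := by
    intro a b hab
    obtain ⟨σ, hσa, hσb⟩ : ∃ σ : Equiv.Perm (Fin 7), σ i = a ∧ σ j = b := by
      refine ⟨Equiv.swap (Equiv.swap i a j) b * Equiv.swap i a, ?_, ?_⟩
      · rw [Equiv.Perm.mul_apply, Equiv.swap_apply_left,
          Equiv.swap_apply_of_ne_of_ne (fun e => ?_) hab]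
        exact hij ((Equiv.swap i a).injective ((Equiv.swap_apply_left i a).trans e))
      · rw [Equiv.Perm.mul_apply, Equiv.swap_apply_left]
    have hgen : ∀ τ : Equiv.Perm (Fin 7), τ i = a ∧ τ j = b ∨ τ i = b ∧ τ j = a →
        Equiv.Perm.sign τ = 1 → flip2 a b ∈ W := by
      intro τ hτ hs
      convert hWperm hpair τ hs using 1
      funext m
      simp only [flip2, Pi.mul_apply, Pi.mulSingle_apply, Equiv.symm_apply_eq]
      rcases hτ with ⟨e1, e2⟩ | ⟨e1, e2⟩
      · rw [e1, e2]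
      · rw [e1, e2, mul_comm]
    rcases Int.units_eq_one_or (Equiv.Perm.sign σ) with hs | hs
    · exact hgen σ (Or.inl ⟨hσa, hσb⟩) hs
    · refine hgen (Equiv.swap a b * σ) (Or.inr ⟨?_, ?_⟩) (by
        rw [map_mul, Equiv.Perm.sign_swap hab, hs]; rfl)
      · rw [Equiv.Perm.mul_apply, hσa, Equiv.swap_apply_left]
      · rw [Equiv.Perm.mul_apply, hσb, Equiv.swap_apply_right]
  have hdiag : ∀ t : Fin 7 → ℤˣ, ∏ i, t i = 1 → t ∈ W := by
    intro t ht
    have key : ∀ t : Fin 7 → ℤˣ, ∏ i, t i = 1 →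
        t = ∏ a : Fin 6, if t a.castSucc = -1 then flip2 a.castSucc 6 else 1 := by decide +kernel
    rw [key t ht]
    refine Subgroup.prod_mem _ fun a _ => ?_
    split_ifs
    · exact hall _ _ (Fin.castSucc_lt_last a).ne
    · exact one_mem _
  -- the permutations
  have hpm : ∀ {a a' b b' l m : Fin 7}, a ≠ a' → b ≠ b' → a ≠ b → a ≠ b' → a' ≠ b → a' ≠ b' →
      l ≠ a → l ≠ b → m ≠ a → m ≠ b → l ≠ m → Equiv.swap a a' * Equiv.swap b b' ∈ dGroup →
      ∃ x ∈ T, (x : isometryGroup F ⇑(form c)) = mon c 1 (Equiv.swap a a' * Equiv.swap b b') := by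
    intro a a' b b' l m ha hb hab hab' ha'b ha'b' hla hlb hma hmb hlm hd
    obtain ⟨k, hk, hke⟩ := flip_conj_pm hc h2 hns ha hb hab hab' ha'b ha'b' hla hlb hma hmb hlm
    obtain ⟨hp, hf⟩ := hWel (hall a b hab)
    exact ⟨_, hcl ⟨k, hk⟩ _ hf ⟨1, _, hd, hke⟩, hke⟩
  let P : Subgroup (Equiv.Perm (Fin 7)) :=
    ((Subgroup.map (Omega F ⇑(form c)).subtype T).comap (pmHom c))
  have hPmem : ∀ {π}, (∃ x ∈ T, (x : isometryGroup F ⇑(form c)) = mon c 1 π) → π ∈ P :=
    fun ⟨x, hx, e⟩ => ⟨x, hx, e⟩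
  have hP : dGroup ≤ P := dGroup_gen P
    (hPmem (hpm (a := 0) (a' := 1) (b := 2) (b' := 3) (l := 4) (m := 5) (by decide) (by decide) (by decide)
      (by decide) (by decide) (by decide) (by decide) (by decide) (by decide) (by decide) (by decide)
      (by simp [mem_dGroup, dList, pA])))
    (hPmem (hpm (a := 0) (a' := 2) (b := 1) (b' := 3) (l := 4) (m := 5) (by decide) (by decide) (by decide)
      (by decide) (by decide) (by decide) (by decide) (by decide) (by decide) (by decide) (by decide)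
      (by simp [mem_dGroup, dList, pB])))
    (hPmem (hpm (a := 0) (a' := 1) (b := 4) (b' := 5) (l := 2) (m := 3) (by decide) (by decide) (by decide)
      (by decide) (by decide) (by decide) (by decide) (by decide) (by decide) (by decide) (by decide)
      (by simp [mem_dGroup, dList, pC])))
  intro x hx
  obtain ⟨s, σ, hσ, hxe⟩ := hx
  obtain ⟨y, hy, hye⟩ := hP hσ
  obtain ⟨hp, hs⟩ := hWel (hdiag s (mon_omega_prod hc h2 hns hxe).1)
  have : x = el hc h2 hns s 1 hp (map_one _) * y := Subtype.ext (by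
    rw [hxe, Subgroup.coe_mul, show (y : isometryGroup F ⇑(form c)) = mon c 1 σ from hye]
    exact mon_eq c s σ)
  rw [this]
  exact mul_mem hs hy

/-- The 2-group is rigid. -/
theorem rigid_syl : Rigid (syl c) := ⟨normalizer_syl hc h2 hns, closed_syl hc h2 hns⟩

end Cfsg.Agent.Fus.OmegaSeven
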