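import Cfsg.Agent.Lib.Classical.OrthCount
import Cfsg.Agent.Lib.Lie.SympWreath

/-!
The `2`-parts of the orders of the orthogonal groups in odd characteristic.
-/

set_option autoImplicit false
set_option linter.unusedSectionVars false
set_option linter.style.haveILetI false

namespace Cfsg.Agent.Fus.OmegaSylowTwo

open Cfsg.Agent.Classical

variable {F : Type*} [Field F] [Fintype F]

variable (F) in
/-- The exponent of the `2`-part of `q ^ 2 - 1`. -/
noncomputable def dExp : ℕ := padicValNat 2 (Fintype.card F ^ 2 - 1)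

theorem two_ne_zero_of_odd (hF : Odd (Fintype.card F)) : (2 : F) ≠ 0 := by
  intro h
  haveI : CharP F 2 := CharTwo.of_one_ne_zero_of_two_eq_zero one_ne_zero h
  have h1 := FiniteField.even_card_of_char_two (F := F) (ringChar.eq F 2)
  rw [Nat.odd_iff] at hF
  omega

theorem val_eq_one_of_mod {n : ℕ} (h : n % 4 = 2) : padicValNat 2 n = 1 := by
  haveI : Fact (Nat.Prime 2) := ⟨Nat.prime_two⟩
  obtain ⟨k, rfl⟩ : 2 ∣ n := by omega
  rw [padicValNat.mul (by norm_num) (by omega), padicValNat_self, padicValNat.eq_zero_of_not_dvd (by omega)]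

theorem val_eq_zero (hF : Odd (Fintype.card F)) : padicValNat 2 (Fintype.card F) = 0 :=
  padicValNat.eq_zero_of_not_dvd (by rw [Nat.odd_iff] at hF; omega)

theorem pow_mod_four (hF : Odd (Fintype.card F)) (m : ℕ) :
    Fintype.card F ^ m % 4 = 1 ∨ Fintype.card F ^ m % 4 = 3 := by
  have := (hF.pow (n := m))
  rw [Nat.odd_iff] at this
  omega

theorem val_pair (hF : Odd (Fintype.card F)) (m : ℕ) :
    padicValNat 2 (Fintype.card F ^ (m + 1) - 1) + padicValNat 2 (Fintype.card F ^ (m + 1) + 1) =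
      dExp F + padicValNat 2 (m + 1) := by
  haveI : Fact (Nat.Prime 2) := ⟨Nat.prime_two⟩
  have h1 : 1 < Fintype.card F := Fintype.one_lt_card
  have h2 : 1 < Fintype.card F ^ (m + 1) := Nat.one_lt_pow (by omega) h1
  rw [dExp, ← Lie.SympWreath.padicValNat_pow_sub_one hF h1 m, mul_comm 2 (m + 1), pow_mul,
    ← padicValNat.mul (by omega) (by omega), mul_comm, ← Nat.sq_sub_sq, one_pow]

theorem val_prod (hF : Odd (Fintype.card F)) : ∀ n : ℕ,
    padicValNat 2 (∏ i ∈ Finset.range n, (Fintype.card F ^ (2 * (i + 1)) - 1)) =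
      n * dExp F + padicValNat 2 n.factorial := by
  haveI : Fact (Nat.Prime 2) := ⟨Nat.prime_two⟩
  have h1 : 1 < Fintype.card F := Fintype.one_lt_card
  have hne : ∀ j, Fintype.card F ^ (2 * (j + 1)) - 1 ≠ 0 := fun j => by
    have := Nat.one_lt_pow (n := 2 * (j + 1)) (by omega) h1
    omega
  intro n
  induction n with
  | zero => simp
  | succ n ih =>
    rw [Finset.prod_range_succ, padicValNat.mul (Finset.prod_ne_zero_iff.2 fun i _ => hne i) (hne n), ih,
      Lie.SympWreath.padicValNat_pow_sub_one hF h1, Nat.factorial_succ,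
      padicValNat.mul (by omega) (Nat.factorial_ne_zero n), ← dExp]
    ring

theorem prod_ne_zero' (n : ℕ) : (∏ i ∈ Finset.range n, (Fintype.card F ^ (2 * (i + 1)) - 1)) ≠ 0 :=
  Finset.prod_ne_zero_iff.2 fun i _ => by
    have := Nat.one_lt_pow (n := 2 * (i + 1)) (by omega) (Fintype.one_lt_card (α := F))
    omega

theorem val_qfOdd (hF : Odd (Fintype.card F)) (m : ℕ) :
    padicValNat 2 (isoCard (qfOdd m F)) = 1 + (m * dExp F + padicValNat 2 m.factorial) := by
  haveI : Fact (Nat.Prime 2) := ⟨Nat.prime_two⟩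
  have e : isoCard (qfOdd m F) =
      2 * Fintype.card F ^ (m ^ 2) * ∏ i ∈ Finset.range m, (Fintype.card F ^ (2 * (i + 1)) - 1) := by
    refine Nat.cast_inj (R := ℤ).1 ?_
    rw [order_qfOdd (two_ne_zero_of_odd hF), Nat.cast_mul, cast_prod_sub_one]
    push_cast; ring
  rw [e, padicValNat.mul (mul_ne_zero two_ne_zero (pow_ne_zero _ Fintype.card_ne_zero)) (prod_ne_zero' m),
    padicValNat.mul two_ne_zero (pow_ne_zero _ Fintype.card_ne_zero), padicValNat_self, padicValNat.pow,
    val_eq_zero hF, mul_zero, add_zero, val_prod hF]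

theorem val_qfPlus (hF : Odd (Fintype.card F)) (m : ℕ) :
    padicValNat 2 (isoCard (qfPlus (m + 1) F)) =
      1 + padicValNat 2 (Fintype.card F ^ (m + 1) - 1) + (m * dExp F + padicValNat 2 m.factorial) := by
  haveI : Fact (Nat.Prime 2) := ⟨Nat.prime_two⟩
  have h2 : 1 < Fintype.card F ^ (m + 1) := Nat.one_lt_pow (by omega) Fintype.one_lt_card
  have e : isoCard (qfPlus (m + 1) F) = 2 * Fintype.card F ^ (m * (m + 1)) *
      (Fintype.card F ^ (m + 1) - 1) * ∏ i ∈ Finset.range m, (Fintype.card F ^ (2 * (i + 1)) - 1) := by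
    refine Nat.cast_inj (R := ℤ).1 ?_
    rw [order_qfPlus, Nat.cast_mul, Nat.cast_mul, cast_prod_sub_one, Nat.cast_sub h2.le]
    push_cast; ring
  rw [e, padicValNat.mul (mul_ne_zero (mul_ne_zero two_ne_zero (pow_ne_zero _ Fintype.card_ne_zero)) (by omega))
      (prod_ne_zero' m),
    padicValNat.mul (mul_ne_zero two_ne_zero (pow_ne_zero _ Fintype.card_ne_zero)) (by omega),
    padicValNat.mul two_ne_zero (pow_ne_zero _ Fintype.card_ne_zero), padicValNat_self, padicValNat.pow,
    val_eq_zero hF, mul_zero, add_zero, val_prod hF]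

theorem val_qfMinus (hF : Odd (Fintype.card F)) (m : ℕ) {a b : F}
    (hab : ∀ z₁ z₂ : F, z₁ ^ 2 + a * z₁ * z₂ + b * z₂ ^ 2 = 0 → z₁ = 0 ∧ z₂ = 0) :
    padicValNat 2 (isoCard (qfMinus m F a b)) =
      1 + padicValNat 2 (Fintype.card F ^ (m + 1) + 1) + (m * dExp F + padicValNat 2 m.factorial) := by
  haveI : Fact (Nat.Prime 2) := ⟨Nat.prime_two⟩
  have e : isoCard (qfMinus m F a b) = 2 * Fintype.card F ^ (m * (m + 1)) *
      (Fintype.card F ^ (m + 1) + 1) * ∏ i ∈ Finset.range m, (Fintype.card F ^ (2 * (i + 1)) - 1) := by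
    refine Nat.cast_inj (R := ℤ).1 ?_
    rw [order_qfMinus m hab, Nat.cast_mul, Nat.cast_mul, cast_prod_sub_one]
    push_cast; ring
  rw [e, padicValNat.mul (mul_ne_zero (mul_ne_zero two_ne_zero (pow_ne_zero _ Fintype.card_ne_zero)) (by omega))
      (prod_ne_zero' m),
    padicValNat.mul (mul_ne_zero two_ne_zero (pow_ne_zero _ Fintype.card_ne_zero)) (by omega),
    padicValNat.mul two_ne_zero (pow_ne_zero _ Fintype.card_ne_zero), padicValNat_self, padicValNat.pow,
    val_eq_zero hF, mul_zero, add_zero, val_prod hF]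

/-- `(-1) ^ m` is a square iff `q ^ m` is `1` modulo `4`. -/
theorem neg_one_pow_square (hF : Odd (Fintype.card F)) (m : ℕ) :
    IsSquare ((-1 : F) ^ m) ↔ Fintype.card F ^ m % 4 = 1 := by
  have hq : Fintype.card F % 2 = 1 := Nat.odd_iff.1 hF
  rcases Nat.even_or_odd m with h | h
  · obtain ⟨r, rfl⟩ := h
    have hr : Fintype.card F ^ r % 4 = 1 ∨ Fintype.card F ^ r % 4 = 3 := pow_mod_four hF r
    refine ⟨fun _ => ?_, fun _ => ⟨(-1) ^ r, pow_add _ _ _⟩⟩
    rw [pow_add, Nat.mul_mod]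
    rcases hr with e | e <;> simp [e]
  · obtain ⟨r, rfl⟩ := h
    rw [pow_succ, pow_mul, neg_one_sq, one_pow, one_mul, FiniteField.isSquare_neg_one_iff, pow_succ, pow_mul,
      Nat.mul_mod, Nat.pow_mod, Nat.pow_mod (Fintype.card F)]
    rcases (by omega : Fintype.card F % 4 = 1 ∨ Fintype.card F % 4 = 3) with e | e <;> simp [e]

end Cfsg.Agent.Fus.OmegaSylowTwo
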