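import Cfsg.Agent.Lib.Fus.WreathSylowTwo
import Cfsg.Agent.Lib.Invol.TwoSylowGLTwo
import Cfsg.Agent.Lib.Classical.SLGroup
import Cfsg.Agent.Lib.Lie.GLWreath

/-!
Block monomial matrices over `GL (2, q)`, and the Sylow 2-subgroup of `GL (2, q)` containing the diagonal 2-elements.
-/

set_option autoImplicit false
set_option linter.unusedSectionVars false
set_option linter.style.haveILetI false

namespace Cfsg.Agent.Fus.SLSylowTwo

open Cfsg.Agent.Fus.PermWreath
open Matrix

variable {F : Type*} [Field F] {ι : Type*} [Fintype ι] [DecidableEq ι]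

/-- The block monomial matrix. -/
def bMat (x : PW (GL (Fin 2) F) ι) : Matrix (Fin 2 × ι) (Fin 2 × ι) F :=
  Matrix.of fun u v => if u.2 = x.right v.2 then (x.left u.2 : Matrix (Fin 2) (Fin 2) F) u.1 v.1 else 0

theorem bMat_mul (x y : PW (GL (Fin 2) F) ι) : bMat (x * y) = bMat x * bMat y := by
  ext ⟨a, i⟩ ⟨b, j⟩
  simp only [bMat, Matrix.mul_apply, Matrix.of_apply, Fintype.sum_prod_type]
  have h : ∀ c, (∑ k, (if i = x.right k then (x.left i : Matrix (Fin 2) (Fin 2) F) a c else 0) *
      (if k = y.right j then (y.left k : Matrix (Fin 2) (Fin 2) F) c b else 0)) =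
      if i = x.right (y.right j) then (x.left i : Matrix (Fin 2) (Fin 2) F) a c *
        (y.left (y.right j) : Matrix (Fin 2) (Fin 2) F) c b else 0 := fun c => by
    rw [Finset.sum_eq_single (y.right j) (fun k _ hk => by rw [if_neg hk, mul_zero]) (by simp)]
    by_cases h1 : i = x.right (y.right j)
    · rw [if_pos h1, if_pos h1, if_pos rfl]
    · rw [if_neg h1, if_neg h1, zero_mul]
  simp only [h]
  rw [SemidirectProduct.mul_right, Equiv.Perm.mul_apply]
  split_ifs with h1
  · rw [left_mul, Units.val_mul, Matrix.mul_apply, h1, Equiv.symm_apply_apply]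
  · simp

theorem bMat_one : bMat (1 : PW (GL (Fin 2) F) ι) = 1 := by
  ext ⟨a, i⟩ ⟨b, j⟩
  by_cases h : i = j <;> by_cases h' : a = b <;> simp [bMat, h, h', Matrix.one_apply]

theorem bMat_injective {x y : PW (GL (Fin 2) F) ι} (h : bMat x = bMat y) : x = y := by
  have key : ∀ j, x.right j = y.right j := fun j => by
    by_contra hne
    have hz : (x.left (x.right j) : Matrix (Fin 2) (Fin 2) F) = 0 := by
      ext a b
      have := congrFun₂ h (a, x.right j) (b, j)
      simpa [bMat, hne] using this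
    exact (x.left (x.right j)).ne_zero hz
  have hr : x.right = y.right := Equiv.ext key
  refine SemidirectProduct.ext (funext fun i => Units.ext (Matrix.ext fun a b => ?_)) hr
  obtain ⟨j, rfl⟩ := x.right.surjective i
  have := congrFun₂ h (a, x.right j) (b, j)
  simpa [bMat, hr] using this

/-- The product of the determinants of the blocks. -/
def bDet : PW (GL (Fin 2) F) ι →* Fˣ where
  toFun x := ∏ i, Matrix.GeneralLinearGroup.det (x.left i)
  map_one' := by simp
  map_mul' x y := by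
    simp only [left_mul, map_mul, Finset.prod_mul_distrib]
    congr 1
    exact Equiv.prod_comp x.right.symm fun i => Matrix.GeneralLinearGroup.det (y.left i)

theorem det_bMat (x : PW (GL (Fin 2) F) ι) : (bMat x).det = (bDet x : F) := by
  conv_lhs => rw [← SemidirectProduct.inl_left_mul_inr_right x]
  rw [bMat_mul, Matrix.det_mul]
  have h1 : bMat (SemidirectProduct.inl x.left : PW (GL (Fin 2) F) ι) =
      Matrix.blockDiagonal fun i => (x.left i : Matrix (Fin 2) (Fin 2) F) := by
    ext ⟨a, i⟩ ⟨b, j⟩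
    simp only [bMat, Matrix.blockDiagonal_apply, Matrix.of_apply, SemidirectProduct.right_inl, SemidirectProduct.left_inl]
    by_cases h : i = j <;> simp [h]
  have h2 : bMat (SemidirectProduct.inr x.right : PW (GL (Fin 2) F) ι) =
      (1 : Matrix (Fin 2 × ι) (Fin 2 × ι) F).submatrix id (Equiv.prodCongrRight fun _ => x.right) := by
    ext ⟨a, i⟩ ⟨b, j⟩
    by_cases h : i = x.right j <;> by_cases h' : a = b <;> simp [bMat, Matrix.one_apply, h, h']
  rw [h1, h2, Matrix.det_blockDiagonal, Matrix.det_permute', Matrix.det_one, mul_one,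
    Equiv.Perm.sign_prodCongrRight, Fin.prod_univ_two, ← sq, Int.units_sq]
  show _ = ((∏ i, Matrix.GeneralLinearGroup.det (x.left i) : Fˣ) : F)
  simp

/-- The diagonal element `diag (c, 1)`. -/
def dOne : Fˣ →* GL (Fin 2) F := Invol.TwoSylowGLTwo.dia.comp (MonoidHom.inl Fˣ Fˣ)

theorem det_dOne (c : Fˣ) : Matrix.GeneralLinearGroup.det (dOne c) = c := by
  refine Units.ext ?_
  show Matrix.det (dOne c : Matrix (Fin 2) (Fin 2) F) = (c : F)
  simp [dOne, Invol.TwoSylowGLTwo.dia_val, Matrix.det_fin_two]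

variable [Fintype F] [DecidableEq F]

/-- The shape of a Sylow 2-subgroup of `GL (2, q)`. -/
theorem exists_sylow_shape :
    ∃ (S : Sylow 2 (GL (Fin 2) F)) (C : Sylow 2 Fˣ) (Q : Sylow 2 (Matrix.SpecialLinearGroup (Fin 2) F)),
      (∀ c ∈ C, dOne c ∈ S) ∧ (∀ x ∈ S, Matrix.GeneralLinearGroup.det x ∈ C) ∧
      (∀ q : Matrix.SpecialLinearGroup (Fin 2) F, q ∈ Q ↔ Matrix.SpecialLinearGroup.toGL q ∈ S) ∧
      Nat.card C = 2 ^ padicValNat 2 (Fintype.card F - 1) := by
  haveI : Fact (Nat.Prime 2) := ⟨Nat.prime_two⟩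
  obtain ⟨C⟩ : Nonempty (Sylow 2 Fˣ) := inferInstance
  obtain ⟨S, hS⟩ := (C.isPGroup'.map (dOne (F := F))).exists_le_sylow
  have huniq : ∀ D : Subgroup Fˣ, IsPGroup 2 D → D ≤ (C : Subgroup Fˣ) := by
    intro D hD
    obtain ⟨C', hC'⟩ := hD.exists_le_sylow
    haveI : Subsingleton (Sylow 2 Fˣ) := by
      haveI : (C : Subgroup Fˣ).Normal := Subgroup.Normal.mk fun n hn g => by rwa [mul_comm g n, mul_inv_cancel_right]
      haveI := Sylow.unique_of_normal C this
      infer_instance
    rwa [Subsingleton.elim C' C] at hC'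
  have hdet : ∀ x ∈ S, Matrix.GeneralLinearGroup.det x ∈ C := fun x hx =>
    huniq _ (S.isPGroup'.map Matrix.GeneralLinearGroup.det) ⟨x, hx, rfl⟩
  have hC : Nat.card C = 2 ^ padicValNat 2 (Fintype.card F - 1) := by
    rw [C.card_eq_multiplicity, Nat.factorization_def _ Nat.prime_two, Classical.natCard_units_field]
  set Q := (S : Subgroup (GL (Fin 2) F)).comap Matrix.SpecialLinearGroup.toGL
  -- the determinant on `S`
  let δ : S →* C :=
    ((Matrix.GeneralLinearGroup.det : GL (Fin 2) F →* Fˣ).comp (S : Subgroup (GL (Fin 2) F)).subtype).codRestrict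
      (C : Subgroup Fˣ) fun x => hdet x x.2
  have hδ : Function.Surjective δ := fun c =>
    ⟨⟨dOne c.1, hS ⟨c.1, c.2, rfl⟩⟩, Subtype.ext (det_dOne c.1)⟩
  have hm : ∀ (g : GL (Fin 2) F) (h : (g : Matrix (Fin 2) (Fin 2) F).det = 1), g ∈ (S : Subgroup (GL (Fin 2) F)) →
      (⟨(g : Matrix (Fin 2) (Fin 2) F), h⟩ : Matrix.SpecialLinearGroup (Fin 2) F) ∈ Q := fun g h hg => by
    have e : Matrix.SpecialLinearGroup.toGL ⟨(g : Matrix (Fin 2) (Fin 2) F), h⟩ = g := Units.ext rfl
    show Matrix.SpecialLinearGroup.toGL _ ∈ (S : Subgroup (GL (Fin 2) F))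
    rw [e]; exact hg
  have hker : Nat.card Q = Nat.card δ.ker := Nat.card_congr
    { toFun := fun q => ⟨⟨Matrix.SpecialLinearGroup.toGL q.1, q.2⟩, Subtype.ext (Units.ext q.1.2)⟩
      invFun := fun x => ⟨⟨(x.1.1 : Matrix (Fin 2) (Fin 2) F), congrArg (fun c : C => ((c : Fˣ) : F)) x.2⟩, hm _ _ x.1.2⟩
      left_inv := fun q => rfl
      right_inv := fun x => Subtype.ext (Subtype.ext (Units.ext rfl)) }
  have h1 : Nat.card δ.ker * Nat.card C = Nat.card S := by
    have := Subgroup.card_mul_index δ.ker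
    rwa [Subgroup.index_ker, MonoidHom.range_eq_top.2 hδ, Subgroup.card_top] at this
  have hQ : Nat.card Q = 2 ^ (Nat.card (Matrix.SpecialLinearGroup (Fin 2) F)).factorization 2 := by
    have hGL : (Nat.card (GL (Fin 2) F)).factorization 2 =
        (Nat.card (Matrix.SpecialLinearGroup (Fin 2) F)).factorization 2 + padicValNat 2 (Fintype.card F - 1) := by
      rw [Classical.natCard_GL_eq_SL_mul 2 (by norm_num), Classical.natCard_units_field,
        Nat.factorization_mul (by have := Fintype.one_lt_card (α := F); omega) Nat.card_pos.ne', Finsupp.add_apply,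
        add_comm, ← Nat.factorization_def _ Nat.prime_two]
    rw [← hker, hC, S.card_eq_multiplicity, hGL, pow_add] at h1
    exact Nat.eq_of_mul_eq_mul_right (by positivity) h1
  refine ⟨S, C, Sylow.ofCard Q hQ, fun c hc => hS ⟨c, hc, rfl⟩, hdet, fun q => ?_, hC⟩
  show q ∈ ((Sylow.ofCard Q hQ : Sylow 2 _) : Subgroup _) ↔ _
  rw [Sylow.coe_ofCard]
  rfl

end Cfsg.Agent.Fus.SLSylowTwo
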