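import Cfsg.Agent.Lib.Fus.OmegaSylowTwoKey
import Cfsg.Agent.Lib.Fus.OmegaSylowTwoArith
import Cfsg.Agent.Lib.Fus.SLSylowTwoBlocks
import Cfsg.Agent.Lib.Classical.OrthGenApps

/-!
A Sylow 2-subgroup of the orthogonal group of a sum of `k` planes `x² + y²` and a small remainder, and the
consequence for the derived subgroup.
-/

set_option autoImplicit false
set_option linter.unusedSectionVars false
set_option linter.style.haveILetI false
set_option maxHeartbeats 1000000

namespace Cfsg.Agent.Fus.OmegaSylowTwo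

open Matrix Cfsg.Agent.Classical Cfsg.Agent.Classical.OrthAut Cfsg.Agent.Fus.PermWreath
open scoped commutatorElement

variable {F : Type*} [Field F] [Fintype F]

/-! ### Weighted sums of squares -/

/-- The diagonal form with given weights. -/
noncomputable def wss {ι : Type} [Fintype ι] (w : ι → F) : QuadraticForm F (ι → F) :=
  QuadraticMap.weightedSumSquares F w

theorem wss_apply {ι : Type} [Fintype ι] (w : ι → F) (v : ι → F) : wss w v = ∑ i, w i * (v i * v i) := by
  simp [wss, QuadraticMap.weightedSumSquares_apply]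

theorem polar_wss {ι : Type} [Fintype ι] (w : ι → F) (u v : ι → F) :
    QuadraticMap.polar ⇑(wss w) u v = ∑ i, 2 * w i * (u i * v i) := by
  simp only [QuadraticMap.polar, wss_apply, ← Finset.sum_sub_distrib, Pi.add_apply]
  exact Finset.sum_congr rfl fun i _ => by ring

theorem nondegenerate_wss {ι : Type} [Fintype ι] [DecidableEq ι] (h2 : (2 : F) ≠ 0) {w : ι → F}
    (hw : ∀ i, w i ≠ 0) : (QuadraticMap.polarBilin (wss w)).Nondegenerate := by
  refine nondegenerate_of_separatingLeft _ fun u hu => funext fun i => ?_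
  have h := hu (Pi.single i 1)
  rw [QuadraticMap.polarBilin_apply_apply, polar_wss, Finset.sum_eq_single i (fun j _ hj => by simp [hj])
    (by simp)] at h
  simpa [h2, hw i] using h

theorem gramDet_wss {ι : Type} [Fintype ι] [DecidableEq ι] (w : ι → F) :
    gramDet (QuadraticMap.polarBilin (wss w)) (Pi.basisFun F ι) = ∏ i, 2 * w i := by
  rw [gramDet_eq_of, ← Matrix.det_diagonal]
  congr 1
  ext i j
  rw [Matrix.of_apply, polar_wss]
  by_cases h : i = j
  · subst h
    simp [Pi.single_apply]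
  · rw [Matrix.diagonal_apply_ne _ h, Finset.sum_eq_zero]
    intro l _
    by_cases hl : l = i
    · subst hl; simp [h]
    · simp [hl]

theorem sumQ_wss {ι κ : Type} [Fintype ι] [DecidableEq ι] [Fintype κ] [DecidableEq κ] (w : ι → F) (c : κ → F) :
    sumQ (wss w) (wss c) = wss (Sum.elim w c) :=
  QuadraticMap.ext fun v => by simp [sumQ_apply, wss_apply, Fintype.sum_sum_type]

/-- Isometries of a diagonal binary form of determinant `-1` are involutions. -/
theorem binary_sq {w : Fin 2 → F} (h2 : (2 : F) ≠ 0) (hw : ∀ i, w i ≠ 0) (g : isometryGroup F ⇑(wss w))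
    (hg : (ogVal g).det = -1) : g * g = 1 := by
  have h0 := ogVal_quad g ![1, 0]
  have h1 := isometry_polar (ogVal_quad g) ![1, 0] ![0, 1]
  simp [wss_apply, polar_wss, Fin.sum_univ_two] at h0 h1
  rw [Matrix.det_fin_two] at hg
  have h1' : w 0 * (ogVal g 0 0 * ogVal g 0 1) + w 1 * (ogVal g 1 0 * ogVal g 1 1) = 0 :=
    mul_left_cancel₀ h2 (by linear_combination h1)
  have hd : ogVal g 1 1 = -ogVal g 0 0 :=
    mul_left_cancel₀ (hw 0)
      (by linear_combination (-ogVal g 1 1) * h0 + ogVal g 1 0 * h1' + (w 0 * ogVal g 0 0) * hg)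
  rw [hd] at hg
  refine ogVal_ext ?_
  rw [ogVal_mul, ogVal_one]
  ext i j
  fin_cases i <;> fin_cases j <;> simp [Matrix.mul_apply, Fin.sum_univ_two, hd]
  · linear_combination -hg
  · ring
  · ring
  · linear_combination -hg

theorem unary_sq (c : F) (g : isometryGroup F ⇑(wss fun _ : Unit => c)) (hg : (ogVal g).det = -1) :
    g * g = 1 := by
  rw [Matrix.det_unique] at hg
  refine ogVal_ext (Matrix.ext fun i j => ?_)
  rw [ogVal_mul, ogVal_one]
  simp [Matrix.mul_apply, hg]

/-! ### Embeddings and the invariants -/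

section Emb

variable {ι κ : Type} [Fintype ι] [DecidableEq ι] [Fintype κ] [DecidableEq κ]
  {Q : QuadraticForm F (ι → F)} {R : QuadraticForm F (κ → F)}

theorem quad_elim_right (v : κ → F) : sumQ Q R (Sum.elim 0 v) = R v := by
  rw [sumQ_apply]; simp

theorem embR_refl {v : κ → F} (hv : R v ≠ 0) :
    embR Q R (OrthAut.refl hv) = OrthAut.refl (Q := sumQ Q R) (v := Sum.elim 0 v) (by rwa [quad_elim_right]) := by
  refine ogVal_ext (Matrix.ext_iff_mulVec.2 fun x => ?_)
  rw [embR_val, refl_apply, quad_elim_right, polar_sumQ, Matrix.fromBlocks_mulVec]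
  simp only [Sum.elim_comp_inl, Sum.elim_comp_inr, Matrix.zero_mulVec, add_zero, zero_add,
    Matrix.one_mulVec, QuadraticMap.polar_zero_left, refl_apply]
  funext i
  rcases i with i | i <;> simp

theorem embL_injective : Function.Injective (embL Q R) := fun g h e => by
  have := congrArg ogVal e
  rw [embL_val, embL_val, Matrix.fromBlocks_inj] at this
  exact ogVal_ext this.1

theorem embR_injective : Function.Injective (embR Q R) := fun g h e => by
  have := congrArg ogVal e
  rw [embR_val, embR_val, Matrix.fromBlocks_inj] at this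
  exact ogVal_ext this.2.2.2

theorem emb_commute (g : isometryGroup F ⇑Q) (h : isometryGroup F ⇑R) : Commute (embL Q R g) (embR Q R h) := by
  refine ogVal_ext ?_
  rw [ogVal_mul, ogVal_mul, embL_val, embR_val, Matrix.fromBlocks_multiply, Matrix.fromBlocks_multiply]
  simp

end Emb

/-! ### The planes -/

variable (F) in
/-- The plane `x² + y²`. -/
noncomputable def one2 : QuadraticForm F (Fin 2 → F) := wss fun _ => 1

variable (F) in
/-- The sum of `k` planes. -/
noncomputable def sos (k : ℕ) : QuadraticForm F (Fin 2 × Fin k → F) := wss fun _ => 1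

variable {k : ℕ}

/-- Forgetting the form. -/
noncomputable def jHom : PW (isometryGroup F ⇑(one2 F)) (Fin k) →* PW (GL (Fin 2) F) (Fin k) where
  toFun x := ⟨fun i => (x.left i : GL (Fin 2) F), x.right⟩
  map_one' := rfl
  map_mul' _ _ := rfl

theorem bMat_mulVec {ι : Type*} [Fintype ι] [DecidableEq ι] (x : PW (GL (Fin 2) F) ι) (v : Fin 2 × ι → F)
    (a : Fin 2) (i : ι) : (SLSylowTwo.bMat x *ᵥ v) (a, i) =
      ((x.left i : Matrix (Fin 2) (Fin 2) F) *ᵥ fun b => v (b, x.right.symm i)) a := by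
  simp only [Matrix.mulVec, dotProduct, SLSylowTwo.bMat, Matrix.of_apply, Fintype.sum_prod_type]
  refine Finset.sum_congr rfl fun b _ => ?_
  rw [Finset.sum_eq_single (x.right.symm i) (fun j _ hj => by
    rw [if_neg (fun h => hj (by rw [h, Equiv.symm_apply_apply])), zero_mul]) (by simp)]
  rw [Equiv.apply_symm_apply, if_pos rfl]

theorem sos_bMat (x : PW (isometryGroup F ⇑(one2 F)) (Fin k)) (v : Fin 2 × Fin k → F) :
    sos F k (SLSylowTwo.bMat (jHom x) *ᵥ v) = sos F k v := by
  have h : ∀ u : Fin 2 × Fin k → F, sos F k u = ∑ i, one2 F (fun b => u (b, i)) := fun u => by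
    simp only [sos, one2, wss_apply, Fintype.sum_prod_type]
    exact Finset.sum_comm
  rw [h, h]
  simp only [bMat_mulVec]
  have e : ∀ i, one2 F (fun b => (((jHom x).left i : GL (Fin 2) F) : Matrix (Fin 2) (Fin 2) F) *ᵥ
      (fun c => v (c, (jHom x).right.symm i)) <| b) = one2 F (fun b => v (b, x.right.symm i)) := fun i =>
    ogVal_quad (x.left i) _
  rw [Finset.sum_congr rfl fun i _ => e i]
  exact Equiv.sum_comp x.right.symm fun i => one2 F (fun b => v (b, i))

/-- The monomial isometries. -/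
noncomputable def bHom : PW (isometryGroup F ⇑(one2 F)) (Fin k) →* isometryGroup F ⇑(sos F k) where
  toFun x := ⟨⟨SLSylowTwo.bMat (jHom x), SLSylowTwo.bMat (jHom x⁻¹),
    by rw [← SLSylowTwo.bMat_mul, ← map_mul, mul_inv_cancel, map_one, SLSylowTwo.bMat_one],
    by rw [← SLSylowTwo.bMat_mul, ← map_mul, inv_mul_cancel, map_one, SLSylowTwo.bMat_one]⟩,
    mem_isometryGroup.2 fun v => sos_bMat x v⟩
  map_one' := ogVal_ext (show SLSylowTwo.bMat (jHom (1 : PW (isometryGroup F ⇑(one2 F)) (Fin k))) = 1 by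
    rw [map_one, SLSylowTwo.bMat_one])
  map_mul' x y := ogVal_ext (show SLSylowTwo.bMat (jHom (x * y)) = SLSylowTwo.bMat (jHom x) * SLSylowTwo.bMat (jHom y) by
    rw [map_mul, SLSylowTwo.bMat_mul])

theorem bHom_val (x : PW (isometryGroup F ⇑(one2 F)) (Fin k)) : ogVal (bHom x) = SLSylowTwo.bMat (jHom x) := rfl

theorem bHom_injective : Function.Injective (bHom (F := F) (k := k)) := fun x y e => by
  have h := SLSylowTwo.bMat_injective (congrArg ogVal e)
  exact SemidirectProduct.ext (funext fun i => Subtype.ext (congrFun (congrArg SemidirectProduct.left h) i))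
    (congrArg SemidirectProduct.right h :)

/-- An isometry of one plane. -/
noncomputable def single (i : Fin k) : isometryGroup F ⇑(one2 F) →* isometryGroup F ⇑(sos F k) :=
  bHom.comp (SemidirectProduct.inl.comp (MonoidHom.mulSingle (fun _ : Fin k => isometryGroup F ⇑(one2 F)) i))

/-- A vector of one plane. -/
def place (i : Fin k) (u : Fin 2 → F) : Fin 2 × Fin k → F := fun p => if p.2 = i then u p.1 else 0

theorem quad_place (i : Fin k) (u : Fin 2 → F) : sos F k (place i u) = one2 F u := by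
  simp [sos, one2, wss_apply, place, Fintype.sum_prod_type]

theorem polar_place (i : Fin k) (u : Fin 2 → F) (x : Fin 2 × Fin k → F) :
    QuadraticMap.polar ⇑(sos F k) (place i u) x = QuadraticMap.polar ⇑(one2 F) u fun b => x (b, i) := by
  simp [sos, one2, polar_wss, place, Fintype.sum_prod_type, ite_mul, Finset.sum_ite_eq']

theorem single_refl (i : Fin k) {u : Fin 2 → F} (hu : one2 F u ≠ 0) :
    single i (OrthAut.refl hu) = OrthAut.refl (Q := sos F k) (v := place i u) (by rwa [quad_place]) := by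
  refine ogVal_ext (Matrix.ext_iff_mulVec.2 fun x => funext fun p => ?_)
  obtain ⟨a, j⟩ := p
  rw [refl_apply, quad_place, polar_place, show ogVal (single i (OrthAut.refl hu)) =
    SLSylowTwo.bMat (jHom (SemidirectProduct.inl (Pi.mulSingle i (OrthAut.refl hu)))) from rfl, bMat_mulVec]
  show ((((Pi.mulSingle (M := fun _ : Fin k => isometryGroup F ⇑(one2 F)) i (OrthAut.refl hu) j :
      isometryGroup F ⇑(one2 F)) : GL (Fin 2) F) : Matrix (Fin 2) (Fin 2) F) *ᵥ fun b => x (b, j)) a = _
  by_cases h : j = i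
  · subst h
    rw [Pi.mulSingle_eq_same]
    show (ogVal (OrthAut.refl hu) *ᵥ fun b => x (b, j)) a = _
    rw [refl_apply]
    simp [place]
  · rw [Pi.mulSingle_eq_of_ne h]
    simp [place, h]

theorem single_commute {i j : Fin k} (h : i ≠ j) (g g' : isometryGroup F ⇑(one2 F)) :
    Commute (single i g) (single j g') := by
  have e : ∀ (l : Fin k) (x : isometryGroup F ⇑(one2 F)), single l x =
      bHom.comp (SemidirectProduct.inl) (Pi.mulSingle (M := fun _ : Fin k => isometryGroup F ⇑(one2 F)) l x) :=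
    fun _ _ => rfl
  rw [e, e]
  exact (Pi.mulSingle_commute (f := fun _ : Fin k => isometryGroup F ⇑(one2 F)) h g g').map _

/-- A permutation of the planes. -/
noncomputable def permHom : Equiv.Perm (Fin k) →* isometryGroup F ⇑(sos F k) := bHom.comp SemidirectProduct.inr

theorem permHom_swap (h2 : (2 : F) ≠ 0) {i j : Fin k} (hij : i ≠ j) :
    ∃ (u₀ u₁ : Fin 2 × Fin k → F) (h₀ : sos F k u₀ ≠ 0) (h₁ : sos F k u₁ ≠ 0),
      sos F k u₀ = sos F k u₁ ∧ permHom (Equiv.swap i j) = OrthAut.refl h₀ * OrthAut.refl h₁ := by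
  let u : Fin 2 → Fin 2 × Fin k → F := fun a p =>
    if p = (a, i) then 1 else if p = (a, j) then -1 else 0
  have hq : ∀ a, sos F k (u a) = 2 := fun a => by
    rw [sos, wss_apply, Finset.sum_eq_add (a, i) (a, j) (by simp [hij]) (fun p _ hp => by simp [u, hp.1, hp.2])
      (by simp) (by simp)]
    simp [u, hij.symm]
    norm_num
  have hp : ∀ a x, QuadraticMap.polar ⇑(sos F k) (u a) x = 2 * (x (a, i) - x (a, j)) := fun a x => by
    rw [sos, polar_wss, Finset.sum_eq_add (a, i) (a, j) (by simp [hij]) (fun p _ hp => by simp [u, hp.1, hp.2])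
      (by simp) (by simp)]
    simp [u, hij.symm]
    ring
  refine ⟨u 0, u 1, by rw [hq]; exact h2, by rw [hq]; exact h2, by rw [hq, hq],
    ogVal_ext (Matrix.ext_iff_mulVec.2 fun x => funext fun p => ?_)⟩
  obtain ⟨a, l⟩ := p
  rw [ogVal_mul, ← Matrix.mulVec_mulVec, refl_apply, refl_apply, show ogVal (permHom (F := F) (Equiv.swap i j)) =
    SLSylowTwo.bMat (jHom (SemidirectProduct.inr (Equiv.swap i j))) from rfl, bMat_mulVec]
  have e : (((jHom (F := F) (SemidirectProduct.inr (Equiv.swap i j))).left l : GL (Fin 2) F) :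
      Matrix (Fin 2) (Fin 2) F) = 1 := rfl
  rw [e, Matrix.one_mulVec, hq, hq, hp, hp]
  show x (a, (Equiv.swap i j).symm l) = _
  rw [Equiv.symm_swap]
  simp only [Pi.sub_apply, Pi.smul_apply, smul_eq_mul]
  fin_cases a <;>
  · rcases eq_or_ne l i with rfl | hli
    · simp [u, hij, hij.symm, h2]
    · rcases eq_or_ne l j with rfl | hlj
      · simp [u, hij, hij.symm, h2]
      · simp [u, Equiv.swap_apply_of_ne_of_ne hli hlj, hli, hlj]

/-- A homomorphism into the invariants through an embedding that maps reflections to reflections of the same value. -/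
theorem invHom_comp {ι κ : Type} [Fintype ι] [DecidableEq ι] [Fintype κ] [DecidableEq κ]
    {Q : QuadraticForm F (ι → F)} {R : QuadraticForm F (κ → F)} (h2 : (2 : F) ≠ 0)
    (hQ : (QuadraticMap.polarBilin Q).Nondegenerate) (hR : (QuadraticMap.polarBilin R).Nondegenerate)
    (f : isometryGroup F ⇑Q →* isometryGroup F ⇑R)
    (hf : ∀ {v : ι → F} (hv : Q v ≠ 0), ∃ (w : κ → F) (hw : R w ≠ 0), f (OrthAut.refl hv) = refl hw ∧ R w = Q v)
    (g : isometryGroup F ⇑Q) :
    invHom hR (genQ_odd hR h2) (f g) = invHom hQ (genQ_odd hQ h2) g := by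
  refine (Subgroup.closure_le (MonoidHom.eqLocus ((invHom hR (genQ_odd hR h2)).comp f)
    (invHom hQ (genQ_odd hQ h2)))).2 ?_ (reflections_generate h2 hQ g)
  rintro _ ⟨v, hv, rfl⟩
  obtain ⟨w, hw, e, hwv⟩ := hf hv
  show invHom hR _ (f (OrthAut.refl hv)) = _
  rw [e, invHom_refl, invHom_refl, hwv]

/-- The image of a Sylow 2-subgroup in the invariants. -/
theorem exists_mem_sylow {ι : Type} [Fintype ι] [DecidableEq ι] {Q : QuadraticForm F (ι → F)}
    (hQ : (QuadraticMap.polarBilin Q).Nondegenerate) (h2 : (2 : F) ≠ 0)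
    (D : Sylow 2 (isometryGroup F ⇑Q)) (p : ℤˣ × ℤˣ) (hp : p ∈ (invHom hQ (genQ_odd hQ h2)).range) :
    ∃ d ∈ D, invHom hQ (genQ_odd hQ h2) d = p := by
  haveI : Fact (Nat.Prime 2) := ⟨Nat.prime_two⟩
  set χ := invHom hQ (genQ_odd hQ h2)
  set S := D.mapSurjective χ.rangeRestrict_surjective
  have hR : IsPGroup 2 (⊤ : Subgroup χ.range) := by
    intro x
    refine ⟨1, Subtype.ext (Subtype.ext ?_)⟩
    show ((x : χ.range) : ℤˣ × ℤˣ) ^ (2 ^ 1) = 1
    exact Prod.ext (Int.units_sq _) (Int.units_sq _)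
  have hS : (S : Subgroup χ.range) = ⊤ := (S.is_maximal' hR le_top).symm
  have : (⟨p, hp⟩ : χ.range) ∈ (S : Subgroup χ.range) := hS ▸ Subgroup.mem_top _
  rw [Sylow.coe_mapSurjective] at this
  obtain ⟨d, hd, hde⟩ := this
  exact ⟨d, hd, congrArg Subtype.val hde⟩

/-- Tuples in a subgroup. -/
noncomputable def mapD (D : Subgroup (isometryGroup F ⇑(one2 F))) :
    PW D (Fin k) →* PW (isometryGroup F ⇑(one2 F)) (Fin k) where
  toFun x := ⟨fun i => (x.left i : isometryGroup F ⇑(one2 F)), x.right⟩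
  map_one' := rfl
  map_mul' _ _ := rfl

section Master

variable {κ : Type} [Fintype κ] [DecidableEq κ]

/-- The main statement about the model. -/
theorem sq_model (h2 : (2 : F) ≠ 0) (hk : 2 ≤ k) (c : κ → F) (hc : ∀ i, c i ≠ 0)
    (hD2 : padicValNat 2 (Nat.card (isometryGroup F ⇑(one2 F))) = dExp F)
    (hsq : ∀ g : isometryGroup F ⇑(wss c), (ogVal g).det = -1 → g * g = 1)
    (hcard : padicValNat 2 (Nat.card (isometryGroup F ⇑(sumQ (sos F k) (wss c)))) =
      k * dExp F + padicValNat 2 k.factorial + padicValNat 2 (Nat.card (isometryGroup F ⇑(wss c))))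
    (P : Sylow 2 (Omega F ⇑(sumQ (sos F k) (wss c)))) :
    ∀ x : (P : Subgroup (Omega F ⇑(sumQ (sos F k) (wss c)))), x ^ 2 ∈ commutator _ := by
  classical
  haveI : Fact (Nat.Prime 2) := ⟨Nat.prime_two⟩
  have hne : ∀ i : Fin 2, (fun _ : Fin 2 => (1 : F)) i ≠ 0 := fun _ => one_ne_zero
  have h1Q : (QuadraticMap.polarBilin (one2 F)).Nondegenerate := nondegenerate_wss h2 hne
  have hsQ : (QuadraticMap.polarBilin (sos F k)).Nondegenerate := nondegenerate_wss h2 fun _ => one_ne_zero
  have hcQ : (QuadraticMap.polarBilin (wss c)).Nondegenerate := nondegenerate_wss h2 hc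
  have hMQ := nondegenerate_sumQ hsQ hcQ
  let M := sumQ (sos F k) (wss c)
  set χ := invHom hMQ (genQ_odd hMQ h2) with hχdef
  obtain ⟨D⟩ : Nonempty (Sylow 2 (isometryGroup F ⇑(one2 F))) := inferInstance
  obtain ⟨Dr⟩ : Nonempty (Sylow 2 (isometryGroup F ⇑(wss c))) := inferInstance
  obtain ⟨T⟩ : Nonempty (Sylow 2 (Equiv.Perm (Fin k))) := inferInstance
  let ι₁ : Fin k → isometryGroup F ⇑(one2 F) →* isometryGroup F ⇑M := fun i =>
    (embL (sos F k) (wss c)).comp (single i)
  let ρ : isometryGroup F ⇑(wss c) →* isometryGroup F ⇑M := embR (sos F k) (wss c)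
  have hι : ∀ i g, χ (ι₁ i g) = invHom h1Q (genQ_odd h1Q h2) g := fun i g =>
    invHom_comp h2 h1Q hMQ (ι₁ i) (fun {v} hv => ⟨Sum.elim (place i v) 0, by
      rw [quad_elim_left, quad_place]; exact hv, by
      show embL _ _ (single i (OrthAut.refl hv)) = _
      rw [single_refl, embL_refl], by rw [quad_elim_left, quad_place]⟩) g
  have hρ : ∀ g, χ (ρ g) = invHom hcQ (genQ_odd hcQ h2) g := fun g =>
    invHom_comp h2 hcQ hMQ ρ (fun {v} hv => ⟨Sum.elim 0 v, by rw [quad_elim_right]; exact hv,
      embR_refl hv, quad_elim_right v⟩) g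
  have hθ : ∀ σ, χ (embL (sos F k) (wss c) (permHom σ)) = 1 := by
    intro σ
    induction σ using Equiv.Perm.swap_induction_on with
    | one => simp
    | swap_mul f i j hij ih =>
      obtain ⟨u₀, u₁, h₀, h₁, he, e⟩ := permHom_swap (F := F) h2 hij
      rw [map_mul, map_mul, map_mul, ih, mul_one, e, map_mul, map_mul, embL_refl, embL_refl, invHom_refl,
        invHom_refl, quad_elim_left, quad_elim_left, he]
      exact Prod.ext (Int.units_mul_self _) (Int.units_mul_self _)
  -- the two-part group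
  let L : overGrp (Q := (D : Subgroup (isometryGroup F ⇑(one2 F)))) (T : Subgroup (Equiv.Perm (Fin k))) →*
      isometryGroup F ⇑M :=
    (embL (sos F k) (wss c)).comp (bHom.comp ((mapD (D : Subgroup (isometryGroup F ⇑(one2 F)))).comp
      (overGrp (T : Subgroup (Equiv.Perm (Fin k)))).subtype))
  let R : (Dr : Subgroup (isometryGroup F ⇑(wss c))) →* isometryGroup F ⇑M := ρ.comp (Subgroup.subtype _)
  let Ψ := L.noncommCoprod R fun x y => emb_commute _ _
  have hLinj : Function.Injective L := by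
    intro x y e
    have e' := bHom_injective (embL_injective e)
    refine Subtype.ext (SemidirectProduct.ext (funext fun i => Subtype.ext ?_) ?_)
    · exact congrFun (congrArg SemidirectProduct.left e') i
    · exact (congrArg SemidirectProduct.right e' :)
  have hinj : Function.Injective Ψ := by
    rintro ⟨x, y⟩ ⟨x', y'⟩ e
    have e1 := congrArg ogVal (show L x * R y = L x' * R y' from e)
    obtain ⟨g, hg⟩ : ∃ g, L x = embL (sos F k) (wss c) g := ⟨_, rfl⟩
    obtain ⟨g', hg'⟩ : ∃ g, L x' = embL (sos F k) (wss c) g := ⟨_, rfl⟩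
    rw [hg, hg', ogVal_mul, ogVal_mul] at e1
    have hR' : ∀ z : (Dr : Subgroup (isometryGroup F ⇑(wss c))),
        ogVal (R z) = Matrix.fromBlocks 1 0 0 (ogVal z.1) := fun z => rfl
    simp only [hR', embL_val, Matrix.fromBlocks_multiply, Matrix.fromBlocks_inj,
      Matrix.mul_one, Matrix.one_mul, Matrix.mul_zero, Matrix.zero_mul, add_zero, zero_add] at e1
    exact Prod.ext (hLinj (by rw [hg, hg', ogVal_ext e1.1])) (Subtype.ext (ogVal_ext e1.2.2.2))
  have hW : Nat.card Ψ.range = 2 ^ (Nat.card (isometryGroup F ⇑M)).factorization 2 := by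
    rw [← Nat.card_congr (MonoidHom.ofInjective hinj).toEquiv, Nat.card_prod, card_over, Nat.card_fin,
      D.card_eq_multiplicity, T.card_eq_multiplicity, Dr.card_eq_multiplicity, ← pow_mul, ← pow_add, ← pow_add,
      Nat.factorization_def _ Nat.prime_two, Nat.factorization_def _ Nat.prime_two,
      Nat.factorization_def _ Nat.prime_two, Nat.factorization_def _ Nat.prime_two, hD2, hcard,
      Nat.card_perm, Nat.card_fin]
    ring_nf
  let W : Sylow 2 (isometryGroup F ⇑M) := Sylow.ofCard Ψ.range hW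
  have hWc : (W : Subgroup (isometryGroup F ⇑M)) = Ψ.range := Sylow.coe_ofCard _ _
  -- the pieces
  let C : Option (Fin k) → Set (isometryGroup F ⇑M) := fun o => o.elim
    {r | ∃ g ∈ Dr, (invHom hcQ (genQ_odd hcQ h2) g).1 = -1 ∧ ρ g = r}
    fun i => {r | ∃ g ∈ D, (invHom h1Q (genQ_odd h1Q h2) g).1 = -1 ∧ ι₁ i g = r}
  let Tg : Subgroup (isometryGroup F ⇑M) :=
    (T : Subgroup (Equiv.Perm (Fin k))).map ((embL (sos F k) (wss c)).comp permHom)
  set α : ℤˣ × ℤˣ := (-1, 1)
  set β : ℤˣ × ℤˣ := (-1, -1)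
  have hclass : ∀ p : ℤˣ × ℤˣ, p.1 = -1 → p = α ∨ p = β := by
    rintro ⟨s, t⟩ (rfl : s = -1)
    rcases Int.units_eq_one_or t with rfl | rfl
    exacts [Or.inl rfl, Or.inr rfl]
  have hdet : ∀ {ι : Type} [Fintype ι] [DecidableEq ι] {Q : QuadraticForm F (ι → F)}
      (hQ : (QuadraticMap.polarBilin Q).Nondegenerate) (g : isometryGroup F ⇑Q),
      (invHom hQ (genQ_odd hQ h2) g).1 = -1 → (ogVal g).det = -1 := by
    intro ι _ _ Q hQ g h
    rw [det_eq_dick_gen hQ (genQ_odd hQ h2), show dick g = -1 from h]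
    simp
  have hex1 : ∀ p, ∃ d ∈ D, invHom h1Q (genQ_odd h1Q h2) d = p := fun p =>
    exists_mem_sylow h1Q h2 D p (by
      rw [MonoidHom.range_eq_top.2 (invHom_surjective h1Q (genQ_odd h1Q h2) h2 (by simp))]
      trivial)
  have hclo : (W : Subgroup (isometryGroup F ⇑M)) = Subgroup.closure ((⋃ o, C o) ∪ (Tg : Set _)) := by
    rw [hWc]
    set H := Subgroup.closure ((⋃ o, C o) ∪ (Tg : Set (isometryGroup F ⇑M)))
    refine le_antisymm ?_ ((Subgroup.closure_le _).2 ?_)
    · rintro _ ⟨⟨x, y⟩, rfl⟩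
      have hC : ∀ o, ∀ r ∈ C o, r ∈ H := fun o r hr =>
        Subgroup.subset_closure (Or.inl (Set.mem_iUnion.2 ⟨o, hr⟩))
      have hplane : ∀ i, ∀ d ∈ D, ι₁ i d ∈ H := by
        intro i d hd
        rcases Int.units_eq_one_or (invHom h1Q (genQ_odd h1Q h2) d).1 with h | h
        · obtain ⟨a, ha, hae⟩ := hex1 α
          have h1 : ι₁ i (d * a) ∈ H := hC (some i) _ ⟨d * a, mul_mem hd ha, by
            rw [map_mul, hae, Prod.fst_mul, h, one_mul], rfl⟩
          have h3 : ι₁ i a ∈ H := hC (some i) _ ⟨a, ha, by rw [hae], rfl⟩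
          rw [show d = (d * a) * a⁻¹ from (mul_inv_cancel_right d a).symm, map_mul, map_inv]
          exact mul_mem h1 (inv_mem h3)
        · exact hC (some i) _ ⟨d, hd, h, rfl⟩
      have hrest : ∀ d ∈ Dr, ρ d ∈ H := by
        intro d hd
        rcases isEmpty_or_nonempty κ with hκ | hκ
        · rw [show d = 1 from ogVal_ext (Subsingleton.elim _ _), map_one]; exact one_mem _
        rcases Int.units_eq_one_or (invHom hcQ (genQ_odd hcQ h2) d).1 with h | h
        · obtain ⟨v, hv⟩ := exists_anisotropic hcQ (Fintype.card_pos (α := κ))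
          obtain ⟨a, ha, hae⟩ := exists_mem_sylow hcQ h2 Dr _ ⟨OrthAut.refl hv, rfl⟩
          have hae' : (invHom hcQ (genQ_odd hcQ h2) a).1 = -1 := by rw [hae, invHom_refl]
          have h1 : ρ (d * a) ∈ H := hC none _ ⟨d * a, mul_mem hd ha, by
            rw [map_mul, Prod.fst_mul, h, hae', one_mul], rfl⟩
          have h3 : ρ a ∈ H := hC none _ ⟨a, ha, hae', rfl⟩
          rw [show d = (d * a) * a⁻¹ from (mul_inv_cancel_right d a).symm, map_mul, map_inv]
          exact mul_mem h1 (inv_mem h3)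
        · exact hC none _ ⟨d, hd, h, rfl⟩
      show L x * R y ∈ H
      refine mul_mem ?_ (hrest _ y.2)
      let E : (Fin k → isometryGroup F ⇑(one2 F)) →* isometryGroup F ⇑M :=
        (embL (sos F k) (wss c)).comp (bHom.comp SemidirectProduct.inl)
      have hl : (fun i => (x.1.left i : isometryGroup F ⇑(one2 F))) ∈ H.comap E :=
        Subgroup.pi_mem_of_mulSingle_mem _ fun i => hplane i _ (x.1.left i).2
      have e : L x = E (fun i => (x.1.left i : isometryGroup F ⇑(one2 F))) *
          (embL (sos F k) (wss c)) (permHom x.1.right) := by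
        show embL (sos F k) (wss c) (bHom _) = embL _ _ (bHom _) * embL _ _ (bHom _)
        rw [← map_mul, ← map_mul]
        congr 2
        exact (SemidirectProduct.inl_left_mul_inr_right _).symm
      rw [e]
      exact mul_mem hl (Subgroup.subset_closure (Or.inr ⟨_, x.2, rfl⟩))
    · rintro r (hr | ⟨t, ht, rfl⟩)
      · obtain ⟨o, hr⟩ := Set.mem_iUnion.1 hr
        cases o with
        | none =>
          obtain ⟨g, hg, -, rfl⟩ := hr
          exact ⟨(1, ⟨g, hg⟩), by simp [Ψ, R]⟩
        | some i =>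
          obtain ⟨g, hg, -, rfl⟩ := hr
          refine ⟨(⟨SemidirectProduct.inl (Pi.mulSingle i ⟨g, hg⟩), by
            show SemidirectProduct.rightHom _ ∈ (T : Subgroup (Equiv.Perm (Fin k)))
            rw [SemidirectProduct.rightHom_inl]; exact one_mem _⟩, 1), ?_⟩
          show L _ * R 1 = _
          rw [map_one, mul_one]
          show embL _ _ (bHom _) = embL _ _ (bHom _)
          congr 2
          refine SemidirectProduct.ext (funext fun j => ?_) rfl
          show ((Pi.mulSingle (M := fun _ : Fin k => (D : Subgroup (isometryGroup F ⇑(one2 F)))) i ⟨g, hg⟩ j :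
              (D : Subgroup (isometryGroup F ⇑(one2 F)))) : isometryGroup F ⇑(one2 F)) =
            Pi.mulSingle (M := fun _ : Fin k => isometryGroup F ⇑(one2 F)) i g j
          by_cases hji : j = i
          · subst hji; rw [Pi.mulSingle_eq_same, Pi.mulSingle_eq_same]
          · rw [Pi.mulSingle_eq_of_ne hji, Pi.mulSingle_eq_of_ne hji]; rfl
      · refine ⟨(⟨SemidirectProduct.inr t, ht⟩, 1), ?_⟩
        show L _ * R 1 = _
        rw [map_one, mul_one]
        rfl
  have hker : Omega F ⇑M = χ.ker := omega_eq_ker hMQ (genQ_odd hMQ h2)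
  refine sq_normal_sylow W _ (hker ▸ ?_) P
  refine sq_mem_of_invol χ _ C Tg α β (by decide) (by decide) (by decide) hclo ?_ ?_ ?_ none ?_ ?_
  · intro o r hr
    cases o with
    | none =>
      obtain ⟨g, -, hg, rfl⟩ := hr
      exact ⟨by rw [← map_mul, hsq g (hdet hcQ g hg), map_one], hclass _ (by rw [hρ]; exact hg)⟩
    | some i =>
      obtain ⟨g, -, hg, rfl⟩ := hr
      exact ⟨by rw [← map_mul, show g * g = 1 from binary_sq h2 hne g (hdet h1Q g hg), map_one],
        hclass _ (by rw [hι]; exact hg)⟩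
  · intro o o' hoo r hr s hs
    cases o with
    | none =>
      cases o' with
      | none => exact absurd rfl hoo
      | some i =>
        obtain ⟨g, -, -, rfl⟩ := hr
        obtain ⟨g', -, -, rfl⟩ := hs
        exact (emb_commute _ _).symm
    | some i =>
      cases o' with
      | none =>
        obtain ⟨g, -, -, rfl⟩ := hr
        obtain ⟨g', -, -, rfl⟩ := hs
        exact emb_commute _ _
      | some j =>
        obtain ⟨g, -, -, rfl⟩ := hr
        obtain ⟨g', -, -, rfl⟩ := hs
        exact (single_commute (fun e => hoo (congrArg some e)) g g').map (embL (sos F k) (wss c))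
  · intro o
    obtain ⟨j, hj⟩ : ∃ j : Fin k, some j ≠ o := by
      by_contra hcon
      push Not at hcon
      have := (hcon ⟨0, by omega⟩).trans (hcon ⟨1, by omega⟩).symm
      simp [Fin.ext_iff] at this
    obtain ⟨a, ha, hae⟩ := hex1 α
    obtain ⟨b, hb, hbe⟩ := hex1 β
    exact ⟨some j, hj, ⟨ι₁ j a, ⟨a, ha, by rw [hae], rfl⟩, by rw [hι, hae]⟩,
      ι₁ j b, ⟨b, hb, by rw [hbe], rfl⟩, by rw [hι, hbe]⟩
  · rintro _ ⟨t, -, rfl⟩
    exact hθ t
  · rintro _ ⟨t, ht, rfl⟩
    rw [← map_pow, ← Subgroup.map_commutator, ← Subgroup.map_subtype_commutator]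
    exact ⟨t ^ 2, ⟨_, sq_perm_sylow T ⟨t, ht⟩, rfl⟩, rfl⟩

end Master

end Cfsg.Agent.Fus.OmegaSylowTwo
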