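import Cfsg.Agent.Lib.Classical.OrthSpinor
import Cfsg.Agent.Lib.Fus.OmegaSylowTwoModel

/-!
Signed permutation matrices in the isometry group of `c · (x₀² + ⋯ + x₆²)` and their membership of `Ω`.
-/

set_option autoImplicit false
set_option linter.unusedSectionVars false
set_option linter.style.haveILetI false

noncomputable section

namespace Cfsg.Agent.Fus.OmegaSeven

open Matrix Cfsg.Agent.Classical Cfsg.Agent.Classical.OrthAut
open Cfsg.Agent.Fus.OmegaSylowTwo (wss wss_apply polar_wss nondegenerate_wss)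

variable {F : Type*} [Field F] [Fintype F]

/-- The seven dimensional form. -/
noncomputable def form (c : F) : QuadraticForm F (Fin 7 → F) := wss fun _ => c

/-- A sign in the field. -/
def sg (u : ℤˣ) : F := ((u : ℤ) : F)

theorem sg_one : sg (F := F) 1 = 1 := by simp [sg]

theorem sg_neg_one : sg (F := F) (-1) = -1 := by simp [sg]

theorem sg_mul (u v : ℤˣ) : sg (F := F) (u * v) = sg u * sg v := by simp [sg]

theorem sg_sq (u : ℤˣ) : sg (F := F) u * sg u = 1 := by
  rw [← sg_mul, Int.units_mul_self, sg_one]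

theorem sg_inj (h2 : (2 : F) ≠ 0) {u v : ℤˣ} (h : sg (F := F) u = sg v) : u = v := by
  have h1 : (-1 : F) ≠ 1 := fun e => h2 (by linear_combination -e)
  rcases Int.units_eq_one_or u with rfl | rfl <;> rcases Int.units_eq_one_or v with rfl | rfl <;>
    simp [sg] at h <;> first | rfl | exact absurd h h1 | exact absurd h.symm h1

/-- A signed permutation matrix. -/
def monMat (s : Fin 7 → ℤˣ) (σ : Equiv.Perm (Fin 7)) : Matrix (Fin 7) (Fin 7) F :=
  Matrix.of fun i j => if j = σ.symm i then sg (s i) else 0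

theorem monMat_mulVec (s : Fin 7 → ℤˣ) (σ : Equiv.Perm (Fin 7)) (v : Fin 7 → F) (i : Fin 7) :
    (monMat s σ *ᵥ v) i = sg (s i) * v (σ.symm i) := by
  simp [monMat, Matrix.mulVec, dotProduct]

theorem monMat_mul (s t : Fin 7 → ℤˣ) (σ τ : Equiv.Perm (Fin 7)) :
    monMat (F := F) s σ * monMat t τ = monMat (s * fun i => t (σ.symm i)) (σ * τ) := by
  refine Matrix.ext_iff_mulVec.2 fun v => funext fun i => ?_
  rw [← Matrix.mulVec_mulVec, monMat_mulVec, monMat_mulVec, monMat_mulVec, Pi.mul_apply, sg_mul, mul_assoc]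
  rfl

theorem monMat_one : monMat (F := F) 1 1 = 1 := by
  refine Matrix.ext_iff_mulVec.2 fun v => funext fun i => ?_
  rw [monMat_mulVec, Matrix.one_mulVec, Pi.one_apply, sg_one, one_mul]
  rfl

/-- The signed permutation matrix as an invertible matrix. -/
def monGL (s : Fin 7 → ℤˣ) (σ : Equiv.Perm (Fin 7)) : GL (Fin 7) F where
  val := monMat s σ
  inv := monMat (fun i => s (σ i)) σ⁻¹
  val_inv := by
    rw [monMat_mul, mul_inv_cancel, ← monMat_one]
    congr 1
    funext i
    simp [Int.units_mul_self]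
  inv_val := by
    rw [monMat_mul, inv_mul_cancel, ← monMat_one]
    congr 1
    funext i
    show s (σ i) * s ((σ⁻¹).symm i) = 1
    rw [show (σ⁻¹).symm i = σ i from rfl]
    exact Int.units_mul_self _

variable (c : F)

theorem form_apply (v : Fin 7 → F) : form c v = ∑ i, c * (v i * v i) := wss_apply _ _

theorem monGL_mem (s : Fin 7 → ℤˣ) (σ : Equiv.Perm (Fin 7)) :
    monGL s σ ∈ isometryGroup F ⇑(form c) := mem_isometryGroup.2 fun v => by
  show form c (monMat s σ *ᵥ v) = form c v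
  rw [form_apply, form_apply, ← Equiv.sum_comp σ (fun i => c * ((monMat s σ *ᵥ v) i * (monMat s σ *ᵥ v) i))]
  refine Finset.sum_congr rfl fun i _ => ?_
  rw [monMat_mulVec, Equiv.symm_apply_apply]
  linear_combination (c * (v i * v i)) * sg_sq (F := F) (s (σ i))

/-- The signed permutation as an isometry. -/
def mon (s : Fin 7 → ℤˣ) (σ : Equiv.Perm (Fin 7)) : isometryGroup F ⇑(form c) :=
  ⟨monGL s σ, monGL_mem c s σ⟩

theorem mon_val (s : Fin 7 → ℤˣ) (σ : Equiv.Perm (Fin 7)) : ogVal (mon c s σ) = monMat s σ := rfl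

theorem mon_apply (s : Fin 7 → ℤˣ) (σ : Equiv.Perm (Fin 7)) (v : Fin 7 → F) (i : Fin 7) :
    (ogVal (mon c s σ) *ᵥ v) i = sg (s i) * v (σ.symm i) := monMat_mulVec s σ v i

theorem mon_mul (s t : Fin 7 → ℤˣ) (σ τ : Equiv.Perm (Fin 7)) :
    mon c s σ * mon c t τ = mon c (s * fun i => t (σ.symm i)) (σ * τ) :=
  ogVal_ext (monMat_mul s t σ τ)

theorem mon_one : mon c 1 1 = 1 := ogVal_ext monMat_one

theorem mon_inv (s : Fin 7 → ℤˣ) (σ : Equiv.Perm (Fin 7)) :
    (mon c s σ)⁻¹ = mon c (fun i => s (σ i)) σ⁻¹ := by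
  refine inv_eq_of_mul_eq_one_right ?_
  rw [mon_mul, mul_inv_cancel, ← mon_one]
  congr 1
  funext i
  simp [Int.units_mul_self]

theorem mon_inj (h2 : (2 : F) ≠ 0) {s t : Fin 7 → ℤˣ} {σ τ : Equiv.Perm (Fin 7)}
    (h : mon c s σ = mon c t τ) : s = t ∧ σ = τ := by
  have e := congrArg ogVal h
  have hne : ∀ u : ℤˣ, sg (F := F) u ≠ 0 := fun u e => by
    have := sg_sq (F := F) u
    rw [e, zero_mul] at this
    exact zero_ne_one this
  have key : ∀ i, σ.symm i = τ.symm i ∧ s i = t i := fun i => by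
    have h1 := congrFun (congrFun e i) (σ.symm i)
    simp only [mon_val, monMat, Matrix.of_apply, if_pos] at h1
    by_cases hi : σ.symm i = τ.symm i
    · rw [if_pos hi] at h1
      exact ⟨hi, sg_inj h2 h1⟩
    · rw [if_neg hi] at h1
      exact absurd h1 (hne _)
  refine ⟨funext fun i => (key i).2, ?_⟩
  have : σ.symm = τ.symm := Equiv.ext fun i => (key i).1
  simpa using congrArg Equiv.symm this

/-- The diagonal part, as a homomorphism. -/
def epsHom : (Fin 7 → ℤˣ) →* isometryGroup F ⇑(form c) :=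
  MonoidHom.mk' (fun s => mon c s 1) fun s t => by rw [mon_mul, mul_one]; rfl

/-- The permutation part, as a homomorphism. -/
def pmHom : Equiv.Perm (Fin 7) →* isometryGroup F ⇑(form c) :=
  MonoidHom.mk' (fun σ => mon c 1 σ) fun σ τ => by
    rw [mon_mul]
    congr 1

theorem mon_eq (s : Fin 7 → ℤˣ) (σ : Equiv.Perm (Fin 7)) : mon c s σ = epsHom c s * pmHom c σ := by
  show _ = mon c s 1 * mon c 1 σ
  rw [mon_mul, one_mul]
  congr 1
  funext i
  simp

theorem conj_eps (s t : Fin 7 → ℤˣ) (σ : Equiv.Perm (Fin 7)) :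
    mon c s σ * mon c t 1 * (mon c s σ)⁻¹ = mon c (fun i => t (σ.symm i)) 1 := by
  rw [mon_inv, mon_mul, mon_mul, mul_one, mul_inv_cancel]
  congr 1
  funext i
  simp only [Pi.mul_apply, Equiv.apply_symm_apply]
  rw [mul_comm (s i), mul_assoc, Int.units_mul_self, mul_one]

/-- The sign change of two coordinates. -/
def flip2 (a b : Fin 7) : Fin 7 → ℤˣ := Pi.mulSingle a (-1) * Pi.mulSingle b (-1)

theorem prod_flip2 (a b : Fin 7) : ∏ i, flip2 a b i = 1 := by
  simp only [flip2, Pi.mul_apply, Finset.prod_mul_distrib, Finset.prod_pi_mulSingle']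
  simp

variable {c} (hc : c ≠ 0) (h2 : (2 : F) ≠ 0)
include hc h2

theorem nondeg : (QuadraticMap.polarBilin (form c)).Nondegenerate := nondegenerate_wss h2 fun _ => hc

theorem form_single (a : Fin 7) (x : F) : form c (Pi.single a x) = c * (x * x) := by
  rw [form_apply, Finset.sum_eq_single a (fun j _ hj => by simp [hj]) (by simp)]
  simp

theorem single_ne (a : Fin 7) : form c (Pi.single a (1 : F)) ≠ 0 := by
  rw [form_single hc h2]; simpa using hc

theorem eps_single (a : Fin 7) : epsHom c (Pi.mulSingle a (-1)) = refl (single_ne hc h2 a) := by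
  refine ogVal_ext (Matrix.ext_iff_mulVec.2 fun v => funext fun i => ?_)
  show (ogVal (mon c (Pi.mulSingle a (-1)) 1) *ᵥ v) i = _
  rw [mon_apply, refl_apply, form_single hc h2, form, polar_wss,
    Finset.sum_eq_single a (fun j _ hj => by simp [hj]) (by simp)]
  rw [show (1 : Equiv.Perm (Fin 7)).symm i = i from rfl]
  rcases eq_or_ne i a with rfl | hi
  · simp [sg_neg_one]
    field_simp
    ring
  · simp [hi, sg_one]

theorem form_diff {a b : Fin 7} (hab : a ≠ b) :
    form c (Pi.single a (1 : F) - Pi.single b 1) = 2 * c := by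
  rw [form_apply, Finset.sum_eq_add a b hab (fun j _ hj => by simp [hj.1, hj.2]) (by simp) (by simp)]
  simp [hab, hab.symm]
  ring

theorem diff_ne {a b : Fin 7} (hab : a ≠ b) : form c (Pi.single a (1 : F) - Pi.single b 1) ≠ 0 := by
  rw [form_diff hc h2 hab]; exact mul_ne_zero h2 hc

theorem pm_swap {a b : Fin 7} (hab : a ≠ b) : pmHom c (Equiv.swap a b) = refl (diff_ne hc h2 hab) := by
  refine ogVal_ext (Matrix.ext_iff_mulVec.2 fun v => funext fun i => ?_)
  show (ogVal (mon c 1 (Equiv.swap a b)) *ᵥ v) i = _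
  rw [mon_apply, refl_apply, form_diff hc h2 hab, form, polar_wss,
    Finset.sum_eq_add a b hab (fun j _ hj => by simp [hj.1, hj.2]) (by simp) (by simp)]
  rcases eq_or_ne i a with rfl | hia
  · simp [sg_one, hab, hab.symm]
    field_simp
    ring
  · rcases eq_or_ne i b with rfl | hib
    · simp [sg_one, hab, hab.symm]
      field_simp
      ring
    · simp [sg_one, hia, hib, Equiv.swap_apply_of_ne_of_ne hia hib]

/-- The invariants of a signed permutation. -/
theorem inv_mon (hns : ¬ IsSquare (2 : F)) (s : Fin 7 → ℤˣ) (σ : Equiv.Perm (Fin 7)) :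
    invHom (nondeg hc h2) (genQ_odd (nondeg hc h2) h2) (mon c s σ) =
      ((∏ i, s i) * Equiv.Perm.sign σ,
        (if ∏ i, s i = 1 then 1 else sqSign c) * (if Equiv.Perm.sign σ = 1 then 1 else -sqSign c)) := by
  set χ := invHom (nondeg hc h2) (genQ_odd (nondeg hc h2) h2)
  have h2c : sqSign (2 * c) = -sqSign c := by
    rw [sqSign_mul h2 hc, sqSign_of_not hns, neg_one_mul]
  let ψ : ℤˣ → ℤˣ → ℤˣ × ℤˣ := fun e u => (u, if u = 1 then 1 else e)
  have hψ : ∀ e u v, ψ e (u * v) = ψ e u * ψ e v := by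
    intro e u v
    rcases Int.units_eq_one_or u with rfl | rfl <;> rcases Int.units_eq_one_or v with rfl | rfl <;>
      simp [ψ, Int.units_mul_self]
  let Ψ : ℤˣ → ℤˣ →* ℤˣ × ℤˣ := fun e => MonoidHom.mk' (ψ e) (hψ e)
  let p : (Fin 7 → ℤˣ) →* ℤˣ := MonoidHom.mk' (fun s => ∏ i, s i) fun _ _ => Finset.prod_mul_distrib
  have he : χ.comp (epsHom c) = (Ψ (sqSign c)).comp p := by
    refine MonoidHom.pi_ext fun i x => ?_
    rcases Int.units_eq_one_or x with rfl | rfl
    · simp
    · show χ (epsHom c (Pi.mulSingle i (-1))) = ψ _ (∏ j, (Pi.mulSingle i (-1) : Fin 7 → ℤˣ) j)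
      rw [eps_single hc h2, invHom_refl, form_single hc h2, Finset.prod_pi_mulSingle']
      simp [ψ]
  have hp : χ.comp (pmHom c) = (Ψ (-sqSign c)).comp Equiv.Perm.sign := by
    refine MonoidHom.ext fun τ => ?_
    induction τ using Equiv.Perm.swap_induction_on with
    | one => simp
    | swap_mul f a b hab ih =>
      rw [map_mul, map_mul, ih]
      congr 1
      show χ (pmHom c (Equiv.swap a b)) = ψ _ (Equiv.Perm.sign (Equiv.swap a b))
      rw [pm_swap hc h2 hab, invHom_refl, form_diff hc h2 hab, h2c, Equiv.Perm.sign_swap hab]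
      simp [ψ]
  rw [mon_eq, map_mul]
  exact congrArg₂ (· * ·) (DFunLike.congr_fun he s) (DFunLike.congr_fun hp σ)

/-- The signed permutations in `Ω`. -/
theorem mon_mem_omega (hns : ¬ IsSquare (2 : F)) (s : Fin 7 → ℤˣ) (σ : Equiv.Perm (Fin 7)) :
    mon c s σ ∈ Omega F ⇑(form c) ↔ ∏ i, s i = 1 ∧ Equiv.Perm.sign σ = 1 := by
  rw [omega_eq_ker (nondeg hc h2) (genQ_odd (nondeg hc h2) h2), MonoidHom.mem_ker, inv_mon hc h2 hns]
  rcases Int.units_eq_one_or (∏ i, s i) with e | e <;>
    rcases Int.units_eq_one_or (Equiv.Perm.sign σ) with e' | e' <;> simp [e, e']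

end Cfsg.Agent.Fus.OmegaSeven
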