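import Cfsg.Agent.Lib.Fus.OmegaSylowTwoModel
import Cfsg.Agent.Lib.Classical.OrthTransport

/-!
Sylow 2-subgroups of `Ω` in odd characteristic have elementary abelian quotient by their derived subgroup.
-/

set_option autoImplicit false
set_option linter.unusedSectionVars false
set_option linter.style.haveILetI false
set_option maxHeartbeats 1000000

namespace Cfsg.Agent.Fus.OmegaSylowTwo

open Matrix Cfsg.Agent.Classical Cfsg.Agent.Classical.OrthAut Cfsg.Agent.Fus.PermWreath

variable {F : Type*} [Field F] [Fintype F]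

theorem vec_two_ne_zero {c : F} (hc : c ≠ 0) : ∀ i, (![1, c] : Fin 2 → F) i ≠ 0 := by
  intro i; fin_cases i <;> simp [hc]

theorem gramDet_pair (c : F) :
    gramDet (QuadraticMap.polarBilin (wss ![1, c])) (Pi.basisFun F (Fin 2)) = 4 * c := by
  rw [gramDet_wss, Fin.prod_univ_two]
  simp
  ring

theorem val_pair_group (hF : Odd (Fintype.card F)) {c : F} (hc : c ≠ 0) :
    (IsSquare c → padicValNat 2 (Nat.card (isometryGroup F ⇑(wss ![1, c]))) = dExp F) ∧
      (¬ IsSquare c → padicValNat 2 (Nat.card (isometryGroup F ⇑(wss ![1, c]))) = 2) := by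
  have h2 := two_ne_zero_of_odd hF
  have hn := nondegenerate_wss h2 (vec_two_ne_zero hc)
  have hp := val_pair hF 0
  simp only [zero_add, pow_one, padicValNat.one, add_zero] at hp
  rcases pow_mod_four hF 1 with h4 | h4 <;> rw [pow_one] at h4
  all_goals
    by_cases hs : IsSquare (-c)
  all_goals
    have hsq : IsSquare c ↔ (IsSquare (-c) ↔ Fintype.card F % 4 = 1) := by
      have hneg : IsSquare (-1 : F) ↔ Fintype.card F % 4 = 1 := by
        simpa using neg_one_pow_square hF 1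
      constructor
      · intro h
        rw [← hneg, show -c = c * -1 by ring, isSquare_mul_left_iff hc h]
      · intro h
        rw [← hneg] at h
        by_cases h1 : IsSquare (-1 : F)
        · simpa using h1.mul (h.2 h1)
        · have := isSquare_of_two_nonsquares h2 h1 (fun hh => h1 (h.1 hh))
          simpa using this
  all_goals
    rw [natCard_isometryGroup]
  -- q ≡ 1, hyperbolic
  · obtain ⟨e, he⟩ := (isometric_iff_disc h2 hn (nondegenerate_qfPlus 1) (Pi.basisFun F (Fin 2))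
      (Pi.basisFun F (Fin 1 ⊕ Fin 1)) (by simp)).2 (by
        rw [gramDet_pair, gramDet_qfPlus, show 4 * c * (-1) ^ 1 = 2 ^ 2 * -c by ring, isSquare_mul_sq h2]
        exact hs)
    rw [isoCard_congr e he, val_qfPlus hF 0]
    simp only [zero_add, pow_one, Nat.factorial_zero, padicValNat.one, zero_mul, add_zero]
    have := val_eq_one_of_mod (show (Fintype.card F + 1) % 4 = 2 by omega)
    exact ⟨fun _ => by omega, fun h => absurd (hsq.2 (iff_of_true hs h4)) h⟩
  · have hab : ∀ z₁ z₂ : F, z₁ ^ 2 + 0 * z₁ * z₂ + c * z₂ ^ 2 = 0 → z₁ = 0 ∧ z₂ = 0 := fun z₁ z₂ h => by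
      by_cases hz : z₂ = 0
      · subst hz; simpa using h
      · exact absurd ⟨z₁ / z₂, by field_simp; linear_combination -h⟩ hs
    obtain ⟨e, he⟩ := (isometric_iff_disc h2 hn (nondegenerate_qfMinus 0 hab) (Pi.basisFun F (Fin 2))
      (Pi.basisFun F ((Fin 0 ⊕ Fin 0) ⊕ Fin 2)) (by simp)).2 (by
        rw [gramDet_pair, gramDet_qfMinus]; exact ⟨4 * c, by ring⟩)
    rw [isoCard_congr e he, val_qfMinus hF 0 hab]
    simp only [zero_add, pow_one, Nat.factorial_zero, padicValNat.one, zero_mul, add_zero]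
    have := val_eq_one_of_mod (show (Fintype.card F + 1) % 4 = 2 by omega)
    refine ⟨fun h => absurd ((hsq.1 h).2 h4) hs, fun _ => by omega⟩
  -- q ≡ 3
  · obtain ⟨e, he⟩ := (isometric_iff_disc h2 hn (nondegenerate_qfPlus 1) (Pi.basisFun F (Fin 2))
      (Pi.basisFun F (Fin 1 ⊕ Fin 1)) (by simp)).2 (by
        rw [gramDet_pair, gramDet_qfPlus, show 4 * c * (-1) ^ 1 = 2 ^ 2 * -c by ring, isSquare_mul_sq h2]
        exact hs)
    rw [isoCard_congr e he, val_qfPlus hF 0]
    simp only [zero_add, pow_one, Nat.factorial_zero, padicValNat.one, zero_mul, add_zero]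
    have := val_eq_one_of_mod (show (Fintype.card F - 1) % 4 = 2 by omega)
    refine ⟨fun h => absurd ((hsq.1 h).1 hs) (by omega), fun _ => by omega⟩
  · have hab : ∀ z₁ z₂ : F, z₁ ^ 2 + 0 * z₁ * z₂ + c * z₂ ^ 2 = 0 → z₁ = 0 ∧ z₂ = 0 := fun z₁ z₂ h => by
      by_cases hz : z₂ = 0
      · subst hz; simpa using h
      · exact absurd ⟨z₁ / z₂, by field_simp; linear_combination -h⟩ hs
    obtain ⟨e, he⟩ := (isometric_iff_disc h2 hn (nondegenerate_qfMinus 0 hab) (Pi.basisFun F (Fin 2))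
      (Pi.basisFun F ((Fin 0 ⊕ Fin 0) ⊕ Fin 2)) (by simp)).2 (by
        rw [gramDet_pair, gramDet_qfMinus]; exact ⟨4 * c, by ring⟩)
    rw [isoCard_congr e he, val_qfMinus hF 0 hab]
    simp only [zero_add, pow_one, Nat.factorial_zero, padicValNat.one, zero_mul, add_zero]
    have := val_eq_one_of_mod (show (Fintype.card F - 1) % 4 = 2 by omega)
    exact ⟨fun _ => by omega, fun h => absurd (hsq.2 (iff_of_false hs (by omega))) h⟩

theorem val_one2 (hF : Odd (Fintype.card F)) :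
    padicValNat 2 (Nat.card (isometryGroup F ⇑(one2 F))) = dExp F := by
  rw [one2, show (fun _ : Fin 2 => (1 : F)) = ![1, 1] from funext fun i => by fin_cases i <;> simp]
  exact (val_pair_group hF one_ne_zero).1 IsSquare.one

theorem natCard_unary (h2 : (2 : F) ≠ 0) {c : F} (hc : c ≠ 0) :
    Nat.card (isometryGroup F ⇑(wss fun _ : Unit => c)) = 2 := by
  have hv : wss (fun _ : Unit => c) (fun _ => 1) ≠ 0 := by simpa [wss_apply] using hc
  have h1 : ∀ g : isometryGroup F ⇑(wss fun _ : Unit => c), ogVal g () () = 1 ∨ ogVal g () () = -1 := fun g => by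
    have h := ogVal_quad g (fun _ => (1 : F))
    simp [wss_apply, Matrix.mulVec, dotProduct] at h
    exact (sq_eq_one_iff.1 (mul_left_cancel₀ hc (by rw [pow_two]; linear_combination h)))
  have h3 : ogVal (OrthAut.refl hv) () () = -1 := by
    have h := refl_det hv
    rwa [Matrix.det_unique] at h
  refine Nat.card_eq_two_iff.2 ⟨1, OrthAut.refl hv, fun e => ?_, Set.eq_univ_iff_forall.2 fun g => ?_⟩
  · rw [← e, ogVal_one] at h3
    exact h2 (by simp at h3; linear_combination h3)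
  · rcases h1 g with h | h
    · exact Or.inl (ogVal_ext (Matrix.ext fun i j => by rw [ogVal_one]; simpa using h))
    · exact Or.inr (ogVal_ext (Matrix.ext fun i j => by simpa [h3] using h))

theorem gramDet_model {κ : Type} [Fintype κ] [DecidableEq κ] (k : ℕ) (c : κ → F) :
    gramDet (QuadraticMap.polarBilin (sumQ (sos F k) (wss c))) (Pi.basisFun F (Fin 2 × Fin k ⊕ κ)) =
      (2 ^ k) ^ 2 * ∏ i, 2 * c i := by
  rw [sos, sumQ_wss, gramDet_wss, Fintype.prod_sum_type]
  simp only [Sum.elim_inl, Sum.elim_inr, mul_one, Finset.prod_const, Finset.card_univ, Fintype.card_prod,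
    Fintype.card_fin]
  rw [← pow_mul, mul_comm k 2]

/-- The main statement, from the shape of the form. -/
theorem sq_of_shape {ι κ : Type} [Fintype ι] [DecidableEq ι] [Fintype κ] [DecidableEq κ]
    {Q : QuadraticForm F (ι → F)} (hF : Odd (Fintype.card F)) (hQ : (QuadraticMap.polarBilin Q).Nondegenerate)
    {k : ℕ} (hk : 2 ≤ k) (c : κ → F) (hc : ∀ i, c i ≠ 0) (hdim : Fintype.card ι = 2 * k + Fintype.card κ)
    (hdisc : IsSquare (gramDet (QuadraticMap.polarBilin Q) (Pi.basisFun F ι) * ∏ i, 2 * c i))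
    (hsq : ∀ g : isometryGroup F ⇑(wss c), (ogVal g).det = -1 → g * g = 1)
    (hcard : padicValNat 2 (isoCard Q) =
      k * dExp F + padicValNat 2 k.factorial + padicValNat 2 (Nat.card (isometryGroup F ⇑(wss c))))
    (P : Sylow 2 (Omega F ⇑Q)) : ∀ x : (P : Subgroup (Omega F ⇑Q)), x ^ 2 ∈ commutator _ := by
  haveI : Fact (Nat.Prime 2) := ⟨Nat.prime_two⟩
  have h2 := two_ne_zero_of_odd hF
  have hM : (QuadraticMap.polarBilin (sumQ (sos F k) (wss c))).Nondegenerate :=
    nondegenerate_sumQ (nondegenerate_wss h2 fun _ => one_ne_zero) (nondegenerate_wss h2 hc)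
  obtain ⟨e, he⟩ := (isometric_iff_disc h2 hQ hM (Pi.basisFun F ι) (Pi.basisFun F (Fin 2 × Fin k ⊕ κ))
    (by simp [hdim])).2 (by
      rw [gramDet_model, mul_left_comm, isSquare_mul_sq (pow_ne_zero _ h2)]
      exact hdisc)
  obtain ⟨D⟩ := nonempty_isoData he
  have key := sq_model h2 hk c hc (val_one2 hF) hsq (by rw [natCard_isometryGroup, ← isoCard_congr e he, hcard])
    (P.mapSurjective (f := D.om.toMonoidHom) D.om.surjective)
  have i : (P : Subgroup (Omega F ⇑Q)) ≃*
      ((P.mapSurjective (f := D.om.toMonoidHom) D.om.surjective) : Subgroup (Omega F ⇑(sumQ (sos F k) (wss c)))) :=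
    ((P : Subgroup (Omega F ⇑Q)).equivMapOfInjective _ D.om.injective).trans
      (MulEquiv.subgroupCongr (Sylow.coe_mapSurjective _ _).symm)
  exact Sq.of_surjective key i.symm.toMonoidHom i.symm.surjective

/-- Even dimension. -/
theorem sq_even {ι : Type} [Fintype ι] [DecidableEq ι] {Q : QuadraticForm F (ι → F)} (hF : Odd (Fintype.card F))
    (hQ : (QuadraticMap.polarBilin Q).Nondegenerate) {n : ℕ} (hdim : Fintype.card ι = 2 * (n + 1))
    (δ : F) (hδ0 : δ ≠ 0) (hδ : gramDet (QuadraticMap.polarBilin Q) (Pi.basisFun F ι) = δ)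
    (hsquare : IsSquare δ → 1 ≤ n ∧ padicValNat 2 (isoCard Q) = (n + 1) * dExp F + padicValNat 2 (n + 1).factorial)
    (hnon : ¬ IsSquare δ → 2 ≤ n ∧ padicValNat 2 (isoCard Q) = n * dExp F + padicValNat 2 n.factorial + 2)
    (P : Sylow 2 (Omega F ⇑Q)) : ∀ x : (P : Subgroup (Omega F ⇑Q)), x ^ 2 ∈ commutator _ := by
  have h2 := two_ne_zero_of_odd hF
  by_cases hs : IsSquare δ
  · obtain ⟨hn, hv⟩ := hsquare hs
    refine sq_of_shape hF hQ (k := n + 1) (by omega) (Fin.elim0 : Fin 0 → F) (fun i => i.elim0)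
      (by simp [hdim]) (by simpa [hδ] using hs) (fun g _ => ogVal_ext (Subsingleton.elim _ _)) ?_ P
    have h1 : Nat.card (isometryGroup F ⇑(wss (Fin.elim0 : Fin 0 → F))) = 1 :=
      Nat.card_eq_one_iff_unique.2 ⟨⟨fun a b => ogVal_ext (Subsingleton.elim _ _)⟩, ⟨1⟩⟩
    rw [h1, padicValNat.one, add_zero, hv]
  · obtain ⟨hn, hv⟩ := hnon hs
    refine sq_of_shape hF hQ (k := n) hn (![1, δ] : Fin 2 → F) (vec_two_ne_zero hδ0) (by simp [hdim]; ring)
      ⟨2 * δ, by rw [hδ, Fin.prod_univ_two]; simp; ring⟩ (binary_sq h2 (vec_two_ne_zero hδ0)) ?_ P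
    rw [(val_pair_group hF hδ0).2 hs, hv]

/-- Odd dimension. -/
theorem sq_odd (hF : Odd (Fintype.card F)) {m : ℕ} (hm : 2 ≤ m) (P : Sylow 2 (Omega F ⇑(qfOdd m F))) :
    ∀ x : (P : Subgroup (Omega F ⇑(qfOdd m F))), x ^ 2 ∈ commutator _ := by
  have h2 := two_ne_zero_of_odd hF
  set δ := gramDet (QuadraticMap.polarBilin (qfOdd m F)) (Pi.basisFun F (Unit ⊕ (Fin m ⊕ Fin m))) with hδ
  have hδ0 : δ ≠ 0 := gramDet_ne_zero (nondegenerate_qfOdd m h2) _
  refine sq_of_shape hF (nondegenerate_qfOdd m h2) hm (fun _ : Unit => 2 * δ)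
    (fun _ => mul_ne_zero h2 hδ0) (by simp; ring) ⟨2 * δ, by simp [← hδ]; ring⟩ (unary_sq _) ?_ P
  rw [natCard_unary h2 (mul_ne_zero h2 hδ0), val_qfOdd hF, padicValNat_self]
  ring

/-- Plus type. -/
theorem sq_plus (hF : Odd (Fintype.card F)) {n : ℕ} (hn : 1 ≤ n) (hn' : Even (n + 1) ∨ 2 ≤ n)
    (P : Sylow 2 (Omega F ⇑(qfPlus (n + 1) F))) :
    ∀ x : (P : Subgroup (Omega F ⇑(qfPlus (n + 1) F))), x ^ 2 ∈ commutator _ := by
  haveI : Fact (Nat.Prime 2) := ⟨Nat.prime_two⟩
  have hp := val_pair hF n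
  have hq := val_qfPlus hF n
  refine sq_even hF (nondegenerate_qfPlus (n + 1)) (n := n) (by simp; ring) ((-1) ^ (n + 1))
    (pow_ne_zero _ (neg_ne_zero.2 one_ne_zero)) (gramDet_qfPlus (n + 1)) (fun hs => ⟨hn, ?_⟩)
    (fun hs => ⟨?_, ?_⟩) P
  · have h4 := (neg_one_pow_square hF (n + 1)).1 hs
    have := val_eq_one_of_mod (show (Fintype.card F ^ (n + 1) + 1) % 4 = 2 by omega)
    rw [hq, Nat.factorial_succ, padicValNat.mul (by omega) (Nat.factorial_ne_zero n), add_one_mul]
    omega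
  · rcases hn' with h | h
    · exact absurd (by rw [h.neg_one_pow]; exact IsSquare.one) hs
    · exact h
  · have h4 := (pow_mod_four hF (n + 1)).resolve_left fun h => hs ((neg_one_pow_square hF (n + 1)).2 h)
    have := val_eq_one_of_mod (show (Fintype.card F ^ (n + 1) - 1) % 4 = 2 by omega)
    omega

/-- Minus type. -/
theorem sq_minus (hF : Odd (Fintype.card F)) {n : ℕ} (hn : 2 ≤ n) {a b : F}
    (hab : ∀ z₁ z₂ : F, z₁ ^ 2 + a * z₁ * z₂ + b * z₂ ^ 2 = 0 → z₁ = 0 ∧ z₂ = 0)
    (P : Sylow 2 (Omega F ⇑(qfMinus n F a b))) :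
    ∀ x : (P : Subgroup (Omega F ⇑(qfMinus n F a b))), x ^ 2 ∈ commutator _ := by
  haveI : Fact (Nat.Prime 2) := ⟨Nat.prime_two⟩
  have h2 := two_ne_zero_of_odd hF
  have hp := val_pair hF n
  have hq := val_qfMinus hF n hab
  set D : F := 4 * b - a ^ 2
  have hD : ¬ IsSquare (-D) := by
    rintro ⟨t, ht⟩
    have h := (hab ((-a + t) / 2) 1 (by field_simp; linear_combination -ht)).2
    exact one_ne_zero h
  have hD0 : D ≠ 0 := fun h => hD (by rw [h, neg_zero]; exact IsSquare.zero)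
  have hiff : IsSquare ((-1) ^ n * D) ↔ ¬ IsSquare ((-1 : F) ^ (n + 1)) := by
    have e : (-1 : F) ^ n * D = (-1) ^ (n + 1) * -D := by ring
    rw [e]
    constructor
    · exact fun h hh => hD ((isSquare_mul_left_iff (pow_ne_zero _ (neg_ne_zero.2 one_ne_zero)) hh).1 h)
    · exact fun h => isSquare_of_two_nonsquares h2 h hD
  refine sq_even hF (nondegenerate_qfMinus n hab) (n := n) (by simp; ring) ((-1) ^ n * D)
    (mul_ne_zero (pow_ne_zero _ (neg_ne_zero.2 one_ne_zero)) hD0) (gramDet_qfMinus n a b)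
    (fun hs => ⟨by omega, ?_⟩) (fun hs => ⟨hn, ?_⟩) P
  · have h4 := (pow_mod_four hF (n + 1)).resolve_left fun h =>
      hiff.1 hs ((neg_one_pow_square hF (n + 1)).2 h)
    have := val_eq_one_of_mod (show (Fintype.card F ^ (n + 1) - 1) % 4 = 2 by omega)
    rw [hq, Nat.factorial_succ, padicValNat.mul (by omega) (Nat.factorial_ne_zero n), add_one_mul]
    omega
  · have h4 := (neg_one_pow_square hF (n + 1)).1 (by_contra fun h => hs (hiff.2 h))
    have := val_eq_one_of_mod (show (Fintype.card F ^ (n + 1) + 1) % 4 = 2 by omega)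
    omega

end Cfsg.Agent.Fus.OmegaSylowTwo
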