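import Cfsg.Agent.Lib.Fus.OmegaSevenModel
import Cfsg.Agent.Lib.Fus.OmegaSylowTwo
import Cfsg.Agent.Lib.Fus.SimpleCriterion
import Cfsg.Agent.Lib.Fus.GroupSystem

/-!
The 2-fusion system of `Ω₇(q)`, `q ≡ ±3 mod 8`.
-/

set_option autoImplicit false
set_option linter.unusedSectionVars false
set_option linter.style.haveILetI false

noncomputable section

namespace Cfsg.Agent.Fus.OmegaSeven

open Matrix Cfsg.Agent.Classical Cfsg.Agent.Classical.OrthAut FusionSystem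
open Cfsg.Agent.Fus.OmegaSylowTwo (wss gramDet_wss nondegenerate_wss dExp val_qfOdd two_ne_zero_of_odd)

/-- Consequences of rigidity for the fusion system of a group. -/
theorem fusion_of_rigid {G : Type*} [Group G] [Finite G] (S : Sylow 2 G) (h : Rigid (S : Subgroup G))
    (hS1 : (S : Subgroup G) ≠ ⊥) :
    (groupFusionSystem (S : Subgroup G)).autGroup (S : Subgroup G) = Inn (S : Subgroup G) ∧
      (∀ T : Subgroup G, (groupFusionSystem (S : Subgroup G)).StronglyClosed T →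
        T = ⊥ ∨ T = (S : Subgroup G)) ∧
      (groupFusionSystem (S : Subgroup G)).IsSimple 2 := by
  haveI : Fact (Nat.Prime 2) := ⟨Nat.prime_two⟩
  refine ⟨?_, fun T hT => ?_, ?_⟩
  · rw [groupFusionSystem_eq, autGroup_ofSubgroup le_rfl]
    refine le_antisymm ((Subgroup.closure_le _).2 ?_) ?_
    · rintro α ⟨g, -, hg⟩
      have hgS : g ∈ (S : Subgroup G) := h.normalizer_le (by
        refine Subgroup.mem_normalizer_iff.2 fun x => ⟨fun hx => ?_, fun hx => ?_⟩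
        · exact (hg ⟨x, hx⟩) ▸ (α ⟨x, hx⟩).2
        · obtain ⟨⟨y, hy⟩, hye⟩ := α.surjective ⟨_, hx⟩
          have := (congrArg Subtype.val hye).symm.trans (hg ⟨y, hy⟩)
          rwa [mul_left_cancel (mul_right_cancel this)])
      exact ⟨⟨g, hgS⟩, MulEquiv.ext fun x => Subtype.ext (hg x).symm⟩
    · rintro _ ⟨⟨g, hg⟩, rfl⟩
      exact Subgroup.subset_closure ⟨g, Subgroup.mem_top g, fun x => rfl⟩
  · by_cases h1 : T = ⊥
    · exact Or.inl h1
    refine Or.inr (le_antisymm hT.1 (h.closed T hT.1 h1 fun g x hx hgx => ?_))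
    have hm : IsMap (groupFusionSystem (S : Subgroup G)) (Subgroup.zpowers x)
        (fun y => g * y * g⁻¹) := by
      refine isMap_group.2 ⟨Subgroup.zpowers_le.2 (hT.1 hx), g, fun y hy => ⟨rfl, ?_⟩⟩
      obtain ⟨i, rfl⟩ := hy
      show g * x ^ i * g⁻¹ ∈ _
      rw [← conj_zpow]
      exact Subgroup.zpow_mem _ hgx i
    exact StronglyClosed.apply_mem hT hm (Subgroup.zpowers_le.2 hx) (Subgroup.mem_zpowers x)
  · exact isSimple_group_of S hS1 (fun T hT hT1 _ hc => h.closed T hT hT1 hc) fun g hg =>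
      Subgroup.subset_closure ⟨hg, Or.inl (h.normalizer_le hg)⟩

variable {F : Type*} [Field F] [Fintype F]

theorem not_isSquare_two {q : ℕ} (hF : Fintype.card F = q) (hq : q % 8 = 3 ∨ q % 8 = 5) :
    ¬ IsSquare (2 : F) := by
  rw [FiniteField.isSquare_two_iff]
  omega

theorem dExp_eq {q : ℕ} (hF : Fintype.card F = q) (hq : q % 8 = 3 ∨ q % 8 = 5) : dExp F = 3 := by
  haveI : Fact (Nat.Prime 2) := ⟨Nat.prime_two⟩
  obtain ⟨k, hk⟩ : ∃ k, q ^ 2 - 1 = 8 * (2 * k + 1) := by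
    obtain ⟨j, hj⟩ : ∃ j, q = 8 * j + q % 8 := ⟨q / 8, (Nat.div_add_mod q 8).symm⟩
    rcases hq with e | e <;> rw [e] at hj <;> subst hj
    · exact ⟨4 * j * j + 3 * j, by rw [Nat.sub_eq_iff_eq_add] <;> ring_nf <;> omega⟩
    · exact ⟨4 * j * j + 5 * j + 1, by rw [Nat.sub_eq_iff_eq_add] <;> ring_nf <;> omega⟩
  rw [dExp, hF, hk, padicValNat.mul (by norm_num) (by omega),
    show (8 : ℕ) = 2 ^ 3 from rfl, padicValNat.prime_pow,
    padicValNat.eq_zero_of_not_dvd (by omega)]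

/-- A rigid Sylow 2-subgroup of `Ω₇(q)`. -/
theorem rigid_sylow {q : ℕ} (hF : Fintype.card F = q) (hq : q % 8 = 3 ∨ q % 8 = 5)
    (S : Sylow 2 (Omega F ⇑(qfOdd 3 F))) :
    Rigid (S : Subgroup (Omega F ⇑(qfOdd 3 F))) ∧ (S : Subgroup (Omega F ⇑(qfOdd 3 F))) ≠ ⊥ := by
  classical
  haveI : Fact (Nat.Prime 2) := ⟨Nat.prime_two⟩
  have hodd : Odd (Fintype.card F) := by rw [Nat.odd_iff]; omega
  have h2 : (2 : F) ≠ 0 := two_ne_zero_of_odd hodd
  have hns := not_isSquare_two hF hq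
  set δ := gramDet (QuadraticMap.polarBilin (qfOdd 3 F)) (Pi.basisFun F (Unit ⊕ (Fin 3 ⊕ Fin 3))) with hδ
  have hδ0 : δ ≠ 0 := gramDet_ne_zero (nondegenerate_qfOdd 3 h2) _
  set c := 2 * δ with hc'
  have hc : c ≠ 0 := mul_ne_zero h2 hδ0
  obtain ⟨e, he⟩ := (isometric_iff_disc h2 (nondegenerate_qfOdd 3 h2) (nondeg hc h2)
    (Pi.basisFun F (Unit ⊕ (Fin 3 ⊕ Fin 3))) (Pi.basisFun F (Fin 7)) (by simp)).2 (by
      rw [← hδ, form, gramDet_wss, Finset.prod_const, Finset.card_univ, Fintype.card_fin, hc']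
      exact ⟨δ ^ 4 * 2 ^ 7, by ring⟩)
  obtain ⟨D⟩ := nonempty_isoData he
  have hv : padicValNat 2 (Nat.card (Omega F ⇑(qfOdd 3 F))) = 9 := by
    have hiso : padicValNat 2 (Nat.card (isometryGroup F ⇑(qfOdd 3 F))) = 11 := by
      rw [natCard_isometryGroup, val_qfOdd hodd, dExp_eq hF hq,
        show (3 : ℕ).factorial = 2 * 3 from rfl, padicValNat.mul (by norm_num) (by norm_num),
        padicValNat_self, padicValNat.eq_zero_of_not_dvd (by decide)]
    rw [← Subgroup.card_mul_index (Omega F ⇑(qfOdd 3 F)),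
      index_omega_odd (nondegenerate_qfOdd 3 h2) (genQ_odd (nondegenerate_qfOdd 3 h2) h2) h2 (by simp),
      padicValNat.mul Nat.card_pos.ne' (by norm_num), show (4 : ℕ) = 2 ^ 2 from rfl,
      padicValNat.prime_pow] at hiso
    omega
  let P : Sylow 2 (Omega F ⇑(form c)) := Sylow.ofCard (syl c) (by
    rw [card_syl hc h2 hns, ← Nat.card_congr D.om.toEquiv, Nat.factorization_def _ Nat.prime_two, hv]
    norm_num)
  let P' : Sylow 2 (Omega F ⇑(qfOdd 3 F)) := P.mapSurjective (f := D.om.symm.toMonoidHom) D.om.symm.surjective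
  have hP : Rigid (P' : Subgroup (Omega F ⇑(qfOdd 3 F))) := by
    rw [show (P' : Subgroup (Omega F ⇑(qfOdd 3 F))) = (syl c).map D.om.symm.toMonoidHom from rfl]
    exact (rigid_syl hc h2 hns).map D.om.symm
  obtain ⟨g, rfl⟩ := MulAction.exists_smul_eq (Omega F ⇑(qfOdd 3 F)) P' S
  have hS : ((g • P' : Sylow 2 _) : Subgroup (Omega F ⇑(qfOdd 3 F))) =
      (P' : Subgroup (Omega F ⇑(qfOdd 3 F))).map (MulAut.conj g).toMonoidHom := rfl
  refine ⟨hS ▸ hP.map (MulAut.conj g), Sylow.ne_bot_of_dvd_card _ ?_⟩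
  have := dvd_of_one_le_padicValNat (p := 2) (n := Nat.card (Omega F ⇑(qfOdd 3 F))) (by omega)
  exact this

end Cfsg.Agent.Fus.OmegaSeven
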