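import Cfsg.Agent.Lib.Fus.WreathSylowTwo

/-!
An abstract criterion: a subgroup generated by involutions lying in commuting pieces, and by a group of
elements with trivial invariant, meets the kernel of the invariant in a group whose squares are commutators.
-/

set_option autoImplicit false
set_option linter.unusedSectionVars false
set_option linter.style.haveILetI false

namespace Cfsg.Agent.Fus.OmegaSylowTwo

open scoped commutatorElement

variable {G A I : Type*} [Group G] [CommGroup A]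

theorem sq_mem_of_invol (χ : G →* A) (W : Subgroup G) (C : I → Set G) (T : Subgroup G) (α β : A)
    (hα : α ≠ 1) (hβ : β ≠ 1) (hαβ : α ≠ β) (hW : W = Subgroup.closure ((⋃ i, C i) ∪ (T : Set G)))
    (hinv : ∀ i, ∀ r ∈ C i, r * r = 1 ∧ (χ r = α ∨ χ r = β))
    (hcomm : ∀ i j, i ≠ j → ∀ r ∈ C i, ∀ s ∈ C j, Commute r s)
    (hex : ∀ i, ∃ j, j ≠ i ∧ (∃ u ∈ C j, χ u = α) ∧ ∃ u ∈ C j, χ u = β) (i₀ : I)
    (hT : T ≤ χ.ker) (hTsq : ∀ t ∈ T, t ^ 2 ∈ ⁅T, T⁆) :
    ∀ x ∈ W ⊓ χ.ker, x ^ 2 ∈ ⁅W ⊓ χ.ker, W ⊓ χ.ker⁆ := by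
  set P := W ⊓ χ.ker with hP
  have hCW : ∀ i, ∀ r ∈ C i, r ∈ W := fun i r hr => by
    rw [hW]; exact Subgroup.subset_closure (Or.inl (Set.mem_iUnion.2 ⟨i, hr⟩))
  have hTW : T ≤ W := fun t ht => by rw [hW]; exact Subgroup.subset_closure (Or.inr ht)
  have hTP : T ≤ P := le_inf hTW hT
  let K : Subgroup G :=
    { carrier := {x | x ∈ P ∧ x ^ 2 ∈ ⁅P, P⁆}
      one_mem' := ⟨one_mem _, by rw [one_pow]; exact one_mem _⟩
      mul_mem' := fun {x y} hx hy => ⟨mul_mem hx.1 hy.1, by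
        rw [show (x * y) ^ 2 = x ^ 2 * ⁅x⁻¹, y⁆ * y ^ 2 by simp [commutatorElement_def, pow_two, mul_assoc]]
        exact mul_mem (mul_mem hx.2 (Subgroup.commutator_mem_commutator (inv_mem hx.1) hy.1)) hy.2⟩
      inv_mem' := fun {x} hx => ⟨P.inv_mem hx.1, by rw [inv_pow]; exact (⁅P, P⁆).inv_mem hx.2⟩ }
  have hconjP : ∀ g ∈ W, ∀ x ∈ P, g * x * g⁻¹ ∈ P := fun g hg x hx =>
    ⟨W.mul_mem (W.mul_mem hg hx.1) (W.inv_mem hg), (inferInstance : χ.ker.Normal).conj_mem x hx.2 g⟩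
  have hWK : ∀ g ∈ W, ∀ x ∈ K, g * x * g⁻¹ ∈ K := fun g hg x hx => by
    refine ⟨hconjP g hg x hx.1, ?_⟩
    rw [conj_pow]
    have h1 : (⁅P, P⁆).map (MulAut.conj g).toMonoidHom ≤ ⁅P, P⁆ := by
      have h2 : P.map (MulAut.conj g).toMonoidHom ≤ P := by
        rintro _ ⟨y, hy, rfl⟩; exact hconjP g hg y hy
      rw [Subgroup.map_commutator]
      exact Subgroup.commutator_mono h2 h2
    exact h1 ⟨_, hx.2, rfl⟩
  -- products of two involutions of the same class in commuting pieces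
  have link : ∀ i j, i ≠ j → ∀ r ∈ C i, ∀ s ∈ C j, χ r = χ s → r * s ∈ K := by
    intro i j hij r hr s hs hrs
    refine ⟨⟨mul_mem (hCW i r hr) (hCW j s hs), ?_⟩, ?_⟩
    · show χ (r * s) = 1
      rw [map_mul, hrs, ← map_mul, (hinv j s hs).1, map_one]
    · rw [(hcomm i j hij r hr s hs).mul_pow, pow_two, pow_two, (hinv i r hr).1, (hinv j s hs).1, one_mul]
      exact one_mem _
  have same : ∀ i j, ∀ r ∈ C i, ∀ s ∈ C j, χ r = χ s → r * s ∈ K := by
    intro i j r hr s hs hrs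
    by_cases hij : i = j
    · subst hij
      obtain ⟨k, hk, ⟨u, hu, hua⟩, ⟨v, hv, hvb⟩⟩ := hex i
      obtain ⟨w, hw, hwr⟩ : ∃ w ∈ C k, χ w = χ r := by
        rcases (hinv i r hr).2 with e | e
        exacts [⟨u, hu, hua.trans e.symm⟩, ⟨v, hv, hvb.trans e.symm⟩]
      have := mul_mem (link i k hk.symm r hr w hw hwr.symm) (link k i hk w hw s hs (hwr.trans hrs))
      rwa [mul_assoc, ← mul_assoc w, (hinv k w hw).1, one_mul] at this
    · exact link i j hij r hr s hs hrs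
  obtain ⟨j, -, ⟨a, ha, hχa⟩, -⟩ := hex i₀
  obtain ⟨j', hj', -, ⟨b, hb, hχb⟩⟩ := hex j
  have hab : Commute a b := hcomm j j' hj'.symm a ha b hb
  have haa := (hinv j a ha).1
  have hbb := (hinv j' b hb).1
  set L : Subgroup G := Subgroup.closure {a, b}
  have hLW : L ≤ W := (Subgroup.closure_le _).2 fun z hz => by
    rcases hz with rfl | rfl
    exacts [hCW j _ ha, hCW j' _ hb]
  have hLK : L ≤ Subgroup.normalizer (K : Set G) := fun g hg => Subgroup.mem_normalizer_iff.2 fun x =>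
    ⟨fun hx => hWK g (hLW hg) x hx, fun hx => by
      have := hWK g⁻¹ (inv_mem (hLW hg)) _ hx
      simpa [mul_assoc] using this⟩
  have hWle : W ≤ K ⊔ L := by
    rw [hW]
    refine (Subgroup.closure_le _).2 ?_
    rintro r (hr | hr)
    · obtain ⟨i, hr⟩ := Set.mem_iUnion.1 hr
      obtain ⟨c, k, hc, hck, hcL⟩ : ∃ c k, c ∈ C k ∧ χ r = χ c ∧ c ∈ L := by
        rcases (hinv i r hr).2 with e | e
        exacts [⟨a, j, ha, e.trans hχa.symm, Subgroup.subset_closure (Or.inl rfl)⟩,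
          ⟨b, j', hb, e.trans hχb.symm, Subgroup.subset_closure (Or.inr rfl)⟩]
      have := Subgroup.mul_mem_sup (same i k r hr c hc hck) hcL
      rwa [mul_assoc, (hinv k c hc).1, mul_one] at this
    · refine Subgroup.mem_sup_left ⟨hTP hr, ?_⟩
      exact Subgroup.commutator_mono hTP hTP (hTsq r hr)
  have hL : ∀ y ∈ L, y = 1 ∨ y = a ∨ y = b ∨ y = a * b := by
    intro y hy
    have hainv : a⁻¹ = a := inv_eq_of_mul_eq_one_right haa
    have hbinv : b⁻¹ = b := inv_eq_of_mul_eq_one_right hbb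
    have h3 : ∀ z, a * (a * z) = z := fun z => by rw [← mul_assoc, haa, one_mul]
    have h4 : ∀ z, b * (b * z) = z := fun z => by rw [← mul_assoc, hbb, one_mul]
    have hba : ∀ z, b * (a * z) = a * (b * z) := fun z => by rw [← mul_assoc, ← hab.eq, mul_assoc]
    induction hy using Subgroup.closure_induction with
    | mem z hz => rcases hz with rfl | rfl <;> simp
    | one => simp
    | mul z w _ _ hz hw =>
      rcases hz with rfl | rfl | rfl | rfl <;> rcases hw with rfl | rfl | rfl | rfl <;>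
        simp [mul_assoc, haa, hbb, h3, hba, ← hab.eq]
    | inv z _ hz =>
      rcases hz with rfl | rfl | rfl | rfl <;> simp [hainv, hbinv, hab.eq]
  intro x hx
  have hxmem : x ∈ ((K ⊔ L : Subgroup G) : Set G) := hWle hx.1
  rw [Subgroup.coe_mul_of_right_le_normalizer_left K L hLK] at hxmem
  obtain ⟨k, hk, y, hy, rfl⟩ := hxmem
  have hχ : χ y = 1 := by
    have h1 : χ (k * y) = 1 := hx.2
    rwa [map_mul, show χ k = 1 from hk.1.2, one_mul] at h1
  rcases hL y hy with rfl | rfl | rfl | rfl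
  · show (k * 1) ^ 2 ∈ _
    rw [mul_one]; exact hk.2
  · exact absurd (hχa ▸ hχ) hα
  · exact absurd (hχb ▸ hχ) hβ
  · rw [map_mul, hχa, hχb] at hχ
    have hbeta : β * β = 1 := by rw [← hχb, ← map_mul, hbb, map_one]
    exact absurd ((eq_inv_of_mul_eq_one_left hχ).trans (inv_eq_of_mul_eq_one_right hbeta)) hαβ

/-- The criterion passes from one Sylow subgroup to the Sylow subgroups of a normal subgroup. -/
theorem sq_normal_sylow [Finite G] (W : Sylow 2 G) (N : Subgroup G) [N.Normal]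
    (h : ∀ x ∈ (W : Subgroup G) ⊓ N, x ^ 2 ∈ ⁅(W : Subgroup G) ⊓ N, (W : Subgroup G) ⊓ N⁆) (P : Sylow 2 N) :
    ∀ x : (P : Subgroup N), x ^ 2 ∈ commutator (P : Subgroup N) := by
  haveI : Fact (Nat.Prime 2) := ⟨Nat.prime_two⟩
  obtain ⟨W', hW'⟩ := (P.isPGroup'.map N.subtype).exists_le_sylow
  obtain ⟨g, rfl⟩ := MulAction.exists_smul_eq G W W'
  set c := (MulAut.conj g).toMonoidHom
  have hsmul : ((g • W : Sylow 2 G) : Subgroup G) = (W : Subgroup G).map c := rfl
  have hN : N.map c = N := le_antisymm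
    (by rintro _ ⟨y, hy, rfl⟩; exact (inferInstance : N.Normal).conj_mem y hy g)
    fun y hy => ⟨g⁻¹ * y * g, by simpa using (inferInstance : N.Normal).conj_mem y hy g⁻¹,
      by simp [c, MulAut.conj_apply, mul_assoc]⟩
  set P₁ := (P : Subgroup N).map N.subtype with hP₁
  have heq : P₁ = ((W : Subgroup G) ⊓ N).map c := by
    rw [Subgroup.map_inf _ _ _ (MulAut.conj g).injective, hN, ← hsmul]
    refine le_antisymm (le_inf hW' (Subgroup.map_subtype_le _)) ?_
    rintro y ⟨hy1, hy2⟩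
    have hmax : ((g • W : Sylow 2 G) : Subgroup G).subgroupOf N = (P : Subgroup N) := by
      refine P.is_maximal' ((g • W : Sylow 2 G).isPGroup'.comap_subtype) fun z hz => ?_
      exact hW' ⟨z, hz, rfl⟩
    exact ⟨⟨y, hy2⟩, hmax.le hy1, rfl⟩
  intro x
  have hx : (x : N).1 ∈ ((W : Subgroup G) ⊓ N).map c := heq ▸ ⟨x.1, x.2, rfl⟩
  obtain ⟨w, hw, hwx⟩ := hx
  have h1 : (x : N).1 ^ 2 ∈ ⁅P₁, P₁⁆ := by
    rw [heq, ← Subgroup.map_commutator, ← hwx]
    exact ⟨w ^ 2, h w hw, map_pow _ _ _⟩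
  rw [hP₁, ← Subgroup.map_commutator, ← Subgroup.map_subtype_commutator, Subgroup.map_map] at h1
  obtain ⟨z, hz, hzx⟩ := h1
  have : z = x ^ 2 := Subtype.ext (Subtype.ext hzx)
  exact this ▸ hz

end Cfsg.Agent.Fus.OmegaSylowTwo
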