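import Mathlib
import Cfsg.Prelude.Def_CaseTheorems
import Cfsg.Prelude.Def_Amalgam
import Cfsg.Prelude.Def_Involutions
import Cfsg.Prelude.Def_EvenType
import Cfsg.Agent.Lib.Grp.Cores
import Cfsg.Agent.Lib.Invol.SPEmbedded
import Cfsg.Agent.Lib.Invol.BlockBasic
import Cfsg.Agent.Lib.Fus.CTSimpleLinear
import Cfsg.Agent.S2798
import Cfsg.Agent.S0205

/-!
# Groups with one class of maximal 2-local subgroups

If `M` contains a Sylow 2-subgroup, `N(M) = M ≠ G`, and the normalizer of every nontrivial 2-subgroup lies in some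
conjugate of `M`, then `M` is strongly embedded: a largest 2-subgroup common to two distinct conjugates would have
its normalizer in a third one, which has to equal both.
-/

set_option autoImplicit false

namespace Cfsg.Agent.Fus.OneClass

open Subgroup

variable {G : Type*} [Group G]

/-- The conjugate `g M g⁻¹`. -/
abbrev cj (g : G) (M : Subgroup G) : Subgroup G := M.map (MulAut.conj g).toMonoidHom

theorem mem_cj {g x : G} {M : Subgroup G} : x ∈ cj g M ↔ g⁻¹ * x * g ∈ M := Invol.mem_map_conj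

theorem cj_eq_cj_of_mem {a b : G} {M : Subgroup G} (h : a⁻¹ * b ∈ M) : cj a M = cj b M := by
  ext x
  have h' : a⁻¹ * x * a ∈ M ↔ b⁻¹ * x * b ∈ M := by
    have e : a⁻¹ * x * a = (a⁻¹ * b) * (b⁻¹ * x * b) * (a⁻¹ * b)⁻¹ := by group
    rw [e, M.mul_mem_cancel_right (inv_mem h), M.mul_mem_cancel_left h]
  exact mem_cj.trans (h'.trans mem_cj.symm)

theorem cj_one (M : Subgroup G) : cj 1 M = M := by
  ext x
  simp [mem_cj]

variable [Finite G] [Fact (Nat.Prime 2)]

/-- A 2-subgroup of a conjugate of `M` is contained in a Sylow subgroup of `G` inside that conjugate. -/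
theorem exists_sylow_le_cj {M : Subgroup G} {S : Sylow 2 G} (hS : (S : Subgroup G) ≤ M) {D : Subgroup G}
    (hD : IsPGroup 2 D) {a : G} (hDa : D ≤ cj a M) :
    ∃ P : Sylow 2 G, D ≤ P ∧ (P : Subgroup G) ≤ cj a M := by
  have hSa : ((a • S : Sylow 2 G) : Subgroup G) ≤ cj a M := by
    rw [Sylow.coe_subgroup_smul]
    exact fun x hx => mem_cj.2 (hS (by simpa [Subgroup.mem_pointwise_smul_iff_inv_smul_mem, MulAut.smul_def] using hx))
  obtain ⟨T, hT⟩ := (hD.of_equiv (Subgroup.subgroupOfEquivOfLe hDa).symm).exists_le_sylow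
  obtain ⟨x, hx⟩ := MulAction.exists_smul_eq ↥(cj a M) ((a • S).subtype hSa) T
  refine ⟨(x : G) • (a • S), fun y hy => ?_, fun y hy => ?_⟩
  · have h1 : (⟨y, hDa hy⟩ : ↥(cj a M)) ∈ (T : Subgroup ↥(cj a M)) := hT hy
    rw [← hx, Sylow.coe_subgroup_smul, Subgroup.mem_pointwise_smul_iff_inv_smul_mem] at h1
    rw [Sylow.coe_subgroup_smul, Subgroup.mem_pointwise_smul_iff_inv_smul_mem]
    exact h1
  · rw [Sylow.coe_subgroup_smul, Subgroup.mem_pointwise_smul_iff_inv_smul_mem] at hy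
    have h1 := hSa hy
    have e : y = (x : G) * ((MulAut.conj (x : G))⁻¹ • y) * (x : G)⁻¹ := by
      simp [MulAut.smul_def, mul_assoc]
    rw [e]
    exact mul_mem (mul_mem x.2 h1) (inv_mem x.2)

/-- A conjugate containing a Sylow subgroup contains every conjugate's normalizer of it: uniqueness. -/
theorem cj_eq_of_sylow {M : Subgroup G} {S : Sylow 2 G} (hS : (S : Subgroup G) ≤ M) (P : Sylow 2 G) {a k : G}
    (hPa : (P : Subgroup G) ≤ cj a M) (hk : normalizer ((P : Subgroup G) : Set G) ≤ cj k M) :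
    cj a M = cj k M := by
  have hP : ∀ g : G, (P : Subgroup G) ≤ cj g M → ∃ m ∈ M, m • (g⁻¹ • P) = S := fun g hg => by
    have hg' : ((g⁻¹ • P : Sylow 2 G) : Subgroup G) ≤ M := fun x hx => by
      rw [Sylow.coe_subgroup_smul, Subgroup.mem_pointwise_smul_iff_inv_smul_mem] at hx
      have h := mem_cj.1 (hg hx)
      simpa [MulAut.smul_def, mul_assoc] using h
    obtain ⟨m, hm⟩ := MulAction.exists_smul_eq ↥M ((g⁻¹ • P).subtype hg') (S.subtype hS)
    refine ⟨m, m.2, Sylow.subtype_injective (hP := ?_) (hQ := hS) ?_⟩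
    · intro x hx
      rw [Sylow.coe_subgroup_smul, Subgroup.mem_pointwise_smul_iff_inv_smul_mem] at hx
      have e : x = (m : G) * ((MulAut.conj (m : G))⁻¹ • x) * (m : G)⁻¹ := by
        simp [MulAut.smul_def, mul_assoc]
      rw [e]
      exact mul_mem (mul_mem m.2 (hg' hx)) (inv_mem m.2)
    · rw [← hm]
      exact (Sylow.smul_subtype hg' m).symm
  obtain ⟨m, hm, h1⟩ := hP a hPa
  obtain ⟨n, hn, h2⟩ := hP k (le_normalizer.trans hk)
  have h3 : (k * n⁻¹ * m * a⁻¹) • P = P := by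
    rw [mul_smul, mul_smul, mul_smul, h1, ← h2, inv_smul_smul, smul_inv_smul]
  have h4 := mem_cj.1 (hk (Sylow.smul_eq_iff_mem_normalizer.1 h3))
  refine cj_eq_cj_of_mem (?_ : a⁻¹ * k ∈ M)
  have e : a⁻¹ * k = m⁻¹ * n * (k⁻¹ * (k * n⁻¹ * m * a⁻¹) * k) := by group
  rw [e]
  exact mul_mem (mul_mem (inv_mem hm) hn) h4

/-- Covering all normalizers of 2-subgroups by conjugates forces strong embedding. -/
theorem stronglyEmbedded {M : Subgroup G} (hM : M ≠ ⊤) (hN : normalizer (M : Set G) ≤ M) (h2 : 2 ∣ Nat.card M)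
    {S : Sylow 2 G} (hS : (S : Subgroup G) ≤ M)
    (hc : ∀ T : Subgroup G, IsPGroup 2 T → T ≠ ⊥ → ∃ k : G, normalizer (T : Set G) ≤ cj k M) :
    Cfsg.IsStronglyEmbedded M := by
  classical
  refine ⟨hM, even_iff_two_dvd.2 h2, fun g hg => Nat.not_even_iff_odd.1 fun he => ?_⟩
  set A := {D : Subgroup G | IsPGroup 2 D ∧ D ≠ ⊥ ∧ ∃ a b : G, cj a M ≠ cj b M ∧ D ≤ cj a M ∧ D ≤ cj b M}
    with hA
  obtain ⟨z, hz, hz2⟩ := Invol.exists_orderOf_prime_mem (even_iff_two_dvd.1 he)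
  have hne : A.Nonempty := by
    refine ⟨zpowers z, IsPGroup.of_card (n := 1) (by rw [Nat.card_zpowers, hz2, pow_one]), ?_, 1, g, ?_, ?_, ?_⟩
    · rw [Ne, zpowers_eq_bot, ← orderOf_eq_one_iff, hz2]
      omega
    · intro h
      rw [cj_one] at h
      exact hg (hN (mem_normalizer_iff''.2 fun x => (iff_of_eq (congrArg (x ∈ ·) h)).trans mem_cj))
    · rw [cj_one, zpowers_le]
      exact (mem_inf.1 hz).1
    · rw [zpowers_le]
      exact (mem_inf.1 hz).2
  obtain ⟨D, ⟨hD, hD1, a, b, hab, hDa, hDb⟩, hmax⟩ :=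
    A.toFinite.exists_maximalFor (fun D : Subgroup G => Nat.card D) A hne
  obtain ⟨k, hk⟩ := hc D hD hD1
  suffices h : ∀ c : G, D ≤ cj c M → cj c M = cj k M from hab ((h a hDa).trans (h b hDb).symm)
  intro c hDc
  by_contra hck
  obtain ⟨P, hDP, hPc⟩ := exists_sylow_le_cj hS hD hDc
  by_cases hPD : (P : Subgroup G) ≤ D
  · have hPk := hk
    rw [le_antisymm hDP hPD] at hPk
    exact hck (cj_eq_of_sylow hS P hPc hPk)
  · set R := normalizer (D : Set G) ⊓ (P : Subgroup G) with hR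
    have hDR : D ≤ R := le_inf le_normalizer hDP
    have hlt : D < R := by
      refine lt_of_le_of_ne hDR fun e => ?_
      have hn : Group.IsNilpotent ↥(P : Subgroup G) := P.isPGroup'.isNilpotent
      obtain ⟨x, hx, hxD⟩ := SetLike.exists_of_lt (Group.normalizerCondition_of_isNilpotent (D.subgroupOf P)
        (lt_top_iff_ne_top.2 fun h => hPD (subgroupOf_eq_top.1 h)))
      refine hxD (mem_subgroupOf.2 (?_ : (x : G) ∈ D))
      rw [e]
      exact mem_inf.2 ⟨mem_normalizer_iff.2 fun y => ⟨fun hy => mem_subgroupOf.1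
        ((mem_normalizer_iff.1 hx ⟨y, hDP hy⟩).1 hy), fun hy => by
          have hyP : y ∈ (P : Subgroup G) := by
            have h := mul_mem (mul_mem (inv_mem x.2) (hDP hy)) x.2
            simpa [mul_assoc] using h
          exact mem_subgroupOf.1 ((mem_normalizer_iff.1 hx ⟨y, hyP⟩).2 (mem_subgroupOf.2 hy))⟩, x.2⟩
    have hRA : R ∈ A := ⟨P.isPGroup'.to_le inf_le_right, fun h => hD1 (le_bot_iff.1 (h ▸ hDR)), c, k, hck,
      inf_le_right.trans hPc, inf_le_left.trans hk⟩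
    have h5 : Nat.card D < Nat.card R :=
      lt_of_le_of_ne (Nat.le_of_dvd Nat.card_pos (Subgroup.card_dvd_of_le hDR)) fun e =>
        hlt.ne (Subgroup.eq_of_le_of_card_ge hDR e.ge)
    exact absurd (hmax hRA h5.le) (not_le.2 h5)

omit [Fact (Nat.Prime 2)] in
theorem not_isSolvable [IsSimpleGroup G] (hG : ¬ IsMulCommutative G) : ¬ Group.IsSolvable G := fun h =>
  hG ⟨⟨fun a b => IsSimpleGroup.comm_iff_isSolvable.2 h a b⟩⟩

/-- A simple group with one class of maximal 2-local subgroups has a strongly embedded subgroup. -/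
theorem exists_stronglyEmbedded [IsSimpleGroup G] (hG : ¬ IsMulCommutative G)
    (h1 : ∀ M M' : Subgroup G, Cfsg.IsMaximalTwoLocal M → Cfsg.IsMaximalTwoLocal M' →
      ∃ g : G, M' = M.map (MulAut.conj g).toMonoidHom) :
    ∃ M : Subgroup G, Cfsg.IsStronglyEmbedded M := by
  classical
  have hd : 2 ∣ Nat.card G := by
    by_contra h
    exact not_isSolvable hG (Cfsg.Agent.S0205.result (Nat.not_even_iff_odd.1 fun he => h (even_iff_two_dvd.1 he)))
  obtain ⟨S⟩ : Nonempty (Sylow 2 G) := inferInstance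
  have hS1 : (S : Subgroup G) ≠ ⊥ := S.ne_bot_of_dvd_card hd
  have hcover : ∀ T : Subgroup G, IsPGroup 2 T → T ≠ ⊥ →
      ∃ N : Subgroup G, Cfsg.IsMaximalTwoLocal N ∧ normalizer (T : Set G) ≤ N := fun T hT hT1 => by
    obtain ⟨N, hTN, hN⟩ := ({N : Subgroup G | Cfsg.IsTwoLocal N}).toFinite.exists_le_maximal
      (show normalizer (T : Set G) ∈ {N : Subgroup G | Cfsg.IsTwoLocal N} from ⟨T, hT, hT1, rfl⟩)
    exact ⟨N, ⟨hN.prop, fun N' hN' hle => le_antisymm (hN.2 hN' hle) hle⟩, hTN⟩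
  obtain ⟨M, hMmax, hNM⟩ := hcover S S.isPGroup' hS1
  obtain ⟨T, hT, hT1, hMT⟩ := hMmax.1
  have hO : ∃ O : Subgroup G, IsPGroup 2 O ∧ T ≤ O ∧ O ≤ M ∧ normalizer (M : Set G) ≤ normalizer (O : Set G) ∧
      M ≤ normalizer (O : Set G) := by
    have hTM : T ≤ M := hMT ▸ le_normalizer
    haveI : (T.subgroupOf M).Normal := normal_subgroupOf_of_le_normalizer hMT.le
    refine ⟨(Cfsg.pCore 2 ↥M).map M.subtype, Grp.pCore_isPGroup.map _, fun x hx => ⟨⟨x, hTM hx⟩,
      Grp.le_pCore inferInstance (hT.of_equiv (subgroupOfEquivOfLe hTM).symm) hx, rfl⟩, map_subtype_le _, ?_, ?_⟩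
    · exact Invol.BlockBasic.normalizer_le_pCoreOf (p := 2) M
    · exact le_normalizer.trans (Invol.BlockBasic.normalizer_le_pCoreOf (p := 2) M)
  obtain ⟨O, hOp, hTO, hOM, hNO, hMO⟩ := hO
  have hO1 : O ≠ ⊥ := fun h => hT1 (le_bot_iff.1 (h ▸ hTO))
  have hOeq : normalizer (O : Set G) = M := hMmax.2 _ ⟨O, hOp, hO1, rfl⟩ hMO
  have hSM : (S : Subgroup G) ≤ M := le_normalizer.trans hNM
  refine ⟨M, stronglyEmbedded ?_ (hNO.trans hOeq.le) ?_ hSM fun U hU hU1 => ?_⟩
  · intro h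
    rw [h] at hMT
    haveI : T.Normal := normalizer_eq_top_iff.1 hMT.symm
    rcases (inferInstance : T.Normal).eq_bot_or_eq_top with e | e
    · exact hT1 e
    · rw [e] at hT
      haveI : Group.IsNilpotent G := (hT.of_equiv Subgroup.topEquiv).isNilpotent
      exact not_isSolvable hG inferInstance
  · exact (S.dvd_card_of_dvd_card hd).trans (Subgroup.card_dvd_of_le hSM)
  · obtain ⟨N, hN, hUN⟩ := hcover U hU hU1
    obtain ⟨k, rfl⟩ := h1 M N hMmax hN
    exact ⟨k, hUN⟩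

end Cfsg.Agent.Fus.OneClass
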