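import Mathlib
import Cfsg.Agent.Lib.Fus.MaxClassPower
import Cfsg.Agent.Lib.Fus.EssentialCube

/-!
A pearl makes a `p`-group of maximal class with an element of order `p` whose centraliser has
order `p²` (the extraspecial part follows `Transfer.MaxClass.class_of_nonabelian_cube`).
-/

set_option autoImplicit false
set_option linter.style.haveILetI false

namespace Cfsg.Agent.Fus.MC

open scoped commutatorElement

variable {G : Type*} [Group G] [Finite G] {p n : ℕ} [hp : Fact p.Prime]

/-- The centraliser of a noncentral element of a self-centralising subgroup of order `p ^ 2`. -/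
theorem cent_eq_of_sq (hG : IsPGroup p G) {A : Subgroup G} (hA : Nat.card A = p ^ 2)
    (hC : Subgroup.centralizer (A : Set G) = A) {x : G} (hxA : x ∈ A) (hx : x ∉ Subgroup.center G) :
    Subgroup.centralizer ({x} : Set G) = A := by
  haveI : Nontrivial G := ⟨⟨x, 1, fun e => hx (e ▸ one_mem _)⟩⟩
  haveI := hG.center_nontrivial
  have hZA : Subgroup.center G ≤ A := (Subgroup.center_le_centralizer _).trans hC.le
  have hsub : Subgroup.zpowers x ⊔ Subgroup.center G ≤ A := sup_le (Subgroup.zpowers_le.2 hxA) hZA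
  have heq : Subgroup.zpowers x ⊔ Subgroup.center G = A := by
    refine Subgroup.eq_of_le_of_card_ge hsub ?_
    obtain ⟨j, hj, he⟩ := (Nat.dvd_prime_pow hp.out).1 (hA ▸ Subgroup.card_dvd_of_le hsub)
    obtain ⟨i, hi, hie⟩ := (Nat.dvd_prime_pow hp.out).1 (hA ▸ Subgroup.card_dvd_of_le hZA)
    have h1 : 1 < Nat.card (Subgroup.center G) := Finite.one_lt_card
    have hlt : Nat.card (Subgroup.center G) < Nat.card ↥(Subgroup.zpowers x ⊔ Subgroup.center G) := by
      refine lt_of_le_of_ne (Subgroup.card_le_of_le le_sup_right) fun e => hx ?_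
      rw [Subgroup.eq_of_le_of_card_ge (le_sup_right : Subgroup.center G ≤
        Subgroup.zpowers x ⊔ Subgroup.center G) e.ge]
      exact Subgroup.mem_sup_left (Subgroup.mem_zpowers x)
    rw [hie, he] at hlt
    rw [hie] at h1
    have h2 := (Nat.pow_lt_pow_iff_right hp.out.one_lt).1 hlt
    have h3 : i ≠ 0 := by rintro rfl; simp at h1
    rw [hA, he]
    exact Nat.pow_le_pow_right hp.out.pos (by omega)
  refine le_antisymm (fun y hy => ?_) ?_
  · rw [← hC]
    refine Subgroup.mem_centralizer_iff.2 fun a ha => ?_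
    have hle : A ≤ Subgroup.centralizer ({y} : Set G) := by
      rw [← heq]
      refine sup_le (Subgroup.zpowers_le.2 ?_) (Subgroup.center_le_centralizer _)
      exact Subgroup.mem_centralizer_singleton_iff.2 (Subgroup.mem_centralizer_singleton_iff.1 hy).symm
    exact Subgroup.mem_centralizer_singleton_iff.1 (hle ha)
  · intro a ha
    have h : a ∈ Subgroup.centralizer (A : Set G) := by rwa [hC]
    exact Subgroup.mem_centralizer_iff.2 fun y hy => by
      rw [Set.mem_singleton_iff.1 hy]
      exact Subgroup.mem_centralizer_iff.1 h x hxA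

/-- A self-centralising elementary abelian subgroup of order `p ^ 2` gives a pearl element. -/
theorem exists_pearl_sq (hG : Nat.card G = p ^ n) (hn : 3 ≤ n) {A : Subgroup G}
    (hA : Nat.card A = p ^ 2) (hexp : ∀ a ∈ A, a ^ p = 1)
    (hC : Subgroup.centralizer (A : Set G) = A) : ∃ x, Pearl G p n x := by
  obtain ⟨x, hxA, hx⟩ : ∃ x ∈ A, x ∉ Subgroup.center G := by
    by_contra h
    push Not at h
    have htop : A = ⊤ := by
      refine hC ▸ eq_top_iff.2 fun g _ => Subgroup.mem_centralizer_iff.2 fun a ha => ?_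
      exact (Subgroup.mem_center_iff.1 (h a ha) g).symm
    rw [htop, Subgroup.card_top, hG] at hA
    have := Nat.pow_right_injective hp.out.two_le hA
    omega
  refine ⟨x, hG, hn, Transfer.MaxClass.class_of_selfCentralizing n hG A hA hC, hexp x hxA, ?_⟩
  rw [cent_eq_of_sq (IsPGroup.of_card hG) hA hC hxA hx, hA]

/-- A self-centralising nonabelian subgroup of order `p ^ 3` and exponent `p` gives a pearl
element. -/
theorem exists_pearl_cube (hG : Nat.card G = p ^ n) {B : Subgroup G} (hB : Nat.card B = p ^ 3)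
    (hBna : ¬ IsMulCommutative B) (hexp : ∀ b ∈ B, b ^ p = 1)
    (hC : Subgroup.centralizer (B : Set G) ≤ B) : ∃ x, Pearl G p n x := by
  have hcl := Transfer.MaxClass.class_of_nonabelian_cube hG B hB hBna hC
  haveI := (IsPGroup.of_card hG).isNilpotent
  have hpB : IsPGroup p B := (IsPGroup.of_card hG).to_subgroup B
  have hn : 3 ≤ n := by
    have h1 := Subgroup.card_subgroup_dvd_card B
    rwa [hB, hG, Nat.pow_dvd_pow_iff_le_right hp.out.one_lt] at h1
  haveI : Nontrivial G := Finite.one_lt_card_iff_nontrivial.1 (by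
    rw [hG]; exact Nat.one_lt_pow (by omega) hp.out.one_lt)
  haveI := (IsPGroup.of_card hG).center_nontrivial
  set Z := Subgroup.center G with hZdef
  set q := QuotientGroup.mk' Z with hq
  have hZB : Z ≤ B := (Subgroup.center_le_centralizer _).trans hC
  -- `B` is not generated by one element over a central subgroup
  have hgen : ∀ (W : Subgroup G), W ≤ B → (∀ w ∈ W, ∀ b ∈ B, w * b = b * w) → ∀ c ∈ B,
      ¬ B ≤ Subgroup.zpowers c ⊔ W := by
    intro W hWB hW c hcB hle
    apply hBna
    have hnorm : Subgroup.zpowers c ≤ Subgroup.normalizer (W : Set G) := by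
      refine Subgroup.zpowers_le.2 (Subgroup.mem_normalizer_iff.2 fun w => ⟨fun hw => ?_, fun hw => ?_⟩)
      · rwa [← hW w hw c hcB, mul_inv_cancel_right]
      · have h := hW _ hw c hcB
        have : w = c * w * c⁻¹ := by
          have h2 : c * (c * w * c⁻¹) = c * w := by rw [← h]; group
          exact (mul_left_cancel h2).symm
        rwa [this]
    have hdec : ∀ b ∈ B, ∃ i : ℤ, ∃ w ∈ W, b = c ^ i * w := fun b hb => by
      have h1 : b ∈ ((Subgroup.zpowers c ⊔ W : Subgroup G) : Set G) := hle hb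
      rw [Subgroup.coe_mul_of_left_le_normalizer_right _ _ hnorm] at h1
      obtain ⟨u, hu, w, hw, rfl⟩ := h1
      obtain ⟨i, rfl⟩ := Subgroup.mem_zpowers_iff.1 hu
      exact ⟨i, w, hw, rfl⟩
    refine ⟨⟨fun u v => Subtype.ext ?_⟩⟩
    obtain ⟨i, w, hw, hu⟩ := hdec u u.2
    obtain ⟨j, w', hw', hv⟩ := hdec v v.2
    show (u : G) * v = v * u
    rw [hu, hv]
    have hcw : Commute w (c ^ j) := (show Commute w c from hW w hw c hcB).zpow_right j
    have hcw' : Commute w' (c ^ i) := (show Commute w' c from hW w' hw' c hcB).zpow_right i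
    have hww : Commute w w' := hW w hw w' (hWB hw')
    exact ((((Commute.refl c).zpow_zpow i j).mul_right hcw'.symm).mul_left (hcw.mul_right hww)).eq
  -- the centre is the centraliser
  have hZC : Z = Subgroup.centralizer (B : Set G) ∧ Nat.card Z = p := by
    have hle : Z ≤ Subgroup.centralizer (B : Set G) := Subgroup.center_le_centralizer _
    have hCp : Nat.card (Subgroup.centralizer (B : Set G)) ≤ p := by
      obtain ⟨j, hj, hje⟩ := (Nat.dvd_prime_pow hp.out).1 (hB ▸ Subgroup.card_dvd_of_le hC)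
      rw [hje]
      by_contra hlt
      have hj2 : 2 ≤ j := by
        by_contra hj2
        exact hlt ((Nat.pow_le_pow_right hp.out.pos (by omega : j ≤ 1)).trans (pow_one p).le)
      set C := Subgroup.centralizer (B : Set G)
      by_cases hCB : B ≤ C
      · exact hgen C hC (fun w hw b hb => (Subgroup.mem_centralizer_iff.1 hw b hb).symm) 1 B.one_mem
          (hCB.trans le_sup_right)
      · obtain ⟨c, hcB, hcC⟩ := SetLike.not_le_iff_exists.1 hCB
        refine hgen C hC (fun w hw b hb => (Subgroup.mem_centralizer_iff.1 hw b hb).symm) c hcB ?_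
        have hsub : Subgroup.zpowers c ⊔ C ≤ B := sup_le (Subgroup.zpowers_le.2 hcB) hC
        refine le_of_eq (Subgroup.eq_of_le_of_card_ge hsub ?_).symm
        obtain ⟨i, hi, hie⟩ := (Nat.dvd_prime_pow hp.out).1 (hB ▸ Subgroup.card_dvd_of_le hsub)
        rw [hB, hie]
        refine Nat.pow_le_pow_right hp.out.pos ?_
        by_contra hi3
        have h2 : C = Subgroup.zpowers c ⊔ C := Subgroup.eq_of_le_of_card_ge le_sup_right (by
          rw [hie, hje]; exact Nat.pow_le_pow_right hp.out.pos (by omega))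
        exact hcC (h2 ▸ Subgroup.mem_sup_left (Subgroup.mem_zpowers c))
    have h1 := Finite.one_lt_card (α := Z)
    obtain ⟨j, hj, hje⟩ := (Nat.dvd_prime_pow hp.out).1 (hB ▸ Subgroup.card_dvd_of_le hZB)
    have hpZ : p ≤ Nat.card Z := by
      rw [hje]
      rcases Nat.eq_zero_or_pos j with rfl | hj0
      · rw [hje, pow_zero] at h1; omega
      · exact Nat.le_self_pow hj0.ne' p
    exact ⟨Subgroup.eq_of_le_of_card_ge hle (hCp.trans hpZ),
      le_antisymm ((Subgroup.card_le_of_le hle).trans hCp) hpZ⟩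
  obtain ⟨hZC, hZp⟩ := hZC
  -- two generators
  obtain ⟨b, hb, hbZ⟩ := SetLike.not_le_iff_exists.1 (show ¬ B ≤ Z from fun h => by
    have := Subgroup.card_le_of_le h
    rw [hB, hZp] at this
    have := Nat.pow_lt_pow_right hp.out.one_lt (show 1 < 3 by norm_num)
    rw [pow_one] at this
    omega)
  obtain ⟨c, hc, hcb⟩ := SetLike.not_le_iff_exists.1 (hgen Z hZB (fun w hw v _ =>
    (Subgroup.mem_center_iff.1 hw v).symm) b hb)
  have hfull : B ≤ Subgroup.zpowers b ⊔ Z ⊔ Subgroup.zpowers c := by
    set U := Subgroup.zpowers b ⊔ Z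
    have hU : U ≤ B := sup_le (Subgroup.zpowers_le.2 hb) hZB
    have hsub : U ⊔ Subgroup.zpowers c ≤ B := sup_le hU (Subgroup.zpowers_le.2 hc)
    refine le_of_eq (Subgroup.eq_of_le_of_card_ge hsub ?_).symm
    obtain ⟨i, hi, hie⟩ := (Nat.dvd_prime_pow hp.out).1 (hB ▸ Subgroup.card_dvd_of_le hsub)
    obtain ⟨j, hj, hje⟩ := (Nat.dvd_prime_pow hp.out).1 (hB ▸ Subgroup.card_dvd_of_le hU)
    have hj2 : 2 ≤ j := by
      by_contra hj2
      have h2 : Z = U := Subgroup.eq_of_le_of_card_ge le_sup_right (by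
        rw [hje, hZp]; exact (Nat.pow_le_pow_right hp.out.pos (by omega : j ≤ 1)).trans (pow_one p).le)
      exact hbZ (h2 ▸ Subgroup.mem_sup_left (Subgroup.mem_zpowers b))
    rw [hB, hie]
    refine Nat.pow_le_pow_right hp.out.pos ?_
    by_contra hi3
    have h2 : U = U ⊔ Subgroup.zpowers c := Subgroup.eq_of_le_of_card_ge le_sup_left (by
      rw [hie, hje]; exact Nat.pow_le_pow_right hp.out.pos (by omega))
    exact hcb (h2 ▸ Subgroup.mem_sup_right (Subgroup.mem_zpowers c))
  -- the image of `B`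
  set A := B.map q with hA
  have hXq : Nat.card (G ⧸ Z) = p ^ (n - 1) := by
    have h1 := Subgroup.card_eq_card_quotient_mul_card_subgroup Z
    rw [hG, hZp, show n = n - 1 + 1 from by omega, pow_succ] at h1
    exact (Nat.eq_of_mul_eq_mul_right hp.out.pos h1).symm
  have hcomap : A.comap q = B := Subgroup.comap_map_eq_self (by rwa [hq, QuotientGroup.ker_mk'])
  have hAcard : Nat.card A = p ^ 2 := by
    have h1 := Subgroup.card_eq_card_quotient_mul_card_subgroup Z
    have h2 : B.index = A.index := by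
      rw [← hcomap, Subgroup.index_comap_of_surjective _ (QuotientGroup.mk'_surjective _)]
    rw [hZp, ← B.card_mul_index, ← A.card_mul_index, hB, h2, mul_right_comm] at h1
    have h3 := Nat.eq_of_mul_eq_mul_right (Nat.pos_of_ne_zero Subgroup.index_ne_zero_of_finite) h1
    rw [pow_succ] at h3
    exact (Nat.eq_of_mul_eq_mul_right hp.out.pos h3).symm
  set M := (Subgroup.centralizer (A : Set (G ⧸ Z))).comap q with hM
  have hMc : ∀ g ∈ M, ∀ v ∈ B, ⁅g, v⁆ ∈ Z := fun g hg v hv => by
    refine (QuotientGroup.eq_one_iff _).1 ?_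
    show q ⁅g, v⁆ = 1
    rw [map_commutatorElement, commutatorElement_eq_one_iff_mul_comm]
    exact (Subgroup.mem_centralizer_iff.1 hg _ (Subgroup.mem_map_of_mem q hv)).symm
  have hBM : B ≤ M := fun g hg => Subgroup.mem_centralizer_iff.2 fun h hh => by
    exact congrArg Subtype.val ((IsPGroup.commGroupOfCardEqPrimeSq (p := p) hAcard).mul_comm
      ⟨h, hh⟩ ⟨q g, Subgroup.mem_map_of_mem q hg⟩)
  let φ : M →* Z × Z :=
    { toFun := fun g => (⟨⁅(g : G), b⁆, hMc g g.2 b hb⟩, ⟨⁅(g : G), c⁆, hMc g g.2 c hc⟩)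
      map_one' := by simp
      map_mul' := fun g h => by
        have key : ∀ v ∈ B, ⁅(g : G) * h, v⁆ = ⁅(g : G), v⁆ * ⁅(h : G), v⁆ := fun v hv => by
          calc ⁅(g : G) * h, v⁆ = (g : G) * ⁅(h : G), v⁆ * (g : G)⁻¹ * ⁅(g : G), v⁆ := by
                simp only [commutatorElement_def]; group
            _ = ⁅(h : G), v⁆ * ⁅(g : G), v⁆ := by
                rw [Subgroup.mem_center_iff.1 (hMc h h.2 v hv) (g : G), mul_inv_cancel_right]
            _ = _ := (Subgroup.mem_center_iff.1 (hMc h h.2 v hv) _).symm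
        exact Prod.ext (Subtype.ext (key b hb)) (Subtype.ext (key c hc)) }
  have hMle : Nat.card M ≤ Nat.card B := by
    rw [← φ.ker.card_mul_index, Subgroup.index_ker, hB, show p ^ 3 = p * (p * p) from by ring]
    refine Nat.mul_le_mul ?_ ((Subgroup.card_le_card_group _).trans (by rw [Nat.card_prod, hZp]))
    rw [← hZp]
    refine Nat.card_le_card_of_injective (fun g : φ.ker => (⟨((g : M) : G), ?_⟩ : Z))
      fun g h hgh => Subtype.ext (Subtype.ext (congrArg (fun v : Z => (v : G)) hgh))
    have hker := MonoidHom.mem_ker.1 g.2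
    have h1 : ⁅((g : M) : G), b⁆ = 1 := congrArg (fun v : Z × Z => (v.1 : G)) hker
    have h2 : ⁅((g : M) : G), c⁆ = 1 := congrArg (fun v : Z × Z => (v.2 : G)) hker
    refine hZC.symm.le ?_
    have hle : Subgroup.zpowers b ⊔ Z ⊔ Subgroup.zpowers c ≤ Subgroup.centralizer {((g : M) : G)} := by
      refine sup_le (sup_le (Subgroup.zpowers_le.2 ?_) (Subgroup.center_le_centralizer _))
        (Subgroup.zpowers_le.2 ?_)
      · exact Subgroup.mem_centralizer_singleton_iff.2 (commutatorElement_eq_one_iff_mul_comm.1 h1).symm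
      · exact Subgroup.mem_centralizer_singleton_iff.2 (commutatorElement_eq_one_iff_mul_comm.1 h2).symm
    exact Subgroup.mem_centralizer_iff.2 fun v hv =>
      Subgroup.mem_centralizer_singleton_iff.1 (hle (hfull hv))
  have hMB : B = M := Subgroup.eq_of_le_of_card_ge hBM hMle
  have hCA : Subgroup.centralizer (A : Set (G ⧸ Z)) = A := by
    refine Subgroup.comap_injective (QuotientGroup.mk'_surjective Z) ?_
    show M = A.comap q
    rw [hcomap, hMB]
  have hpQ : IsPGroup p (G ⧸ Z) := IsPGroup.of_card hXq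
  obtain ⟨x, hxB, hxZ, hxC⟩ : ∃ x ∈ B, x ∉ Z ∧ Subgroup.centralizer ({q x} : Set (G ⧸ Z)) ≤ A := by
    by_cases hAc : A ≤ Subgroup.center (G ⧸ Z)
    · have htop : A = ⊤ := by
        refine hCA ▸ eq_top_iff.2 fun g _ => Subgroup.mem_centralizer_iff.2 fun a ha => ?_
        exact (Subgroup.mem_center_iff.1 (hAc ha) g).symm
      exact ⟨b, hb, hbZ, htop ▸ le_top⟩
    · obtain ⟨_, ⟨x, hxB, rfl⟩, hx⟩ := SetLike.not_le_iff_exists.1 hAc
      refine ⟨x, hxB, fun h => hx ?_,
        (cent_eq_of_sq hpQ hAcard hCA (Subgroup.mem_map_of_mem q hxB) hx).le⟩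
      rw [show q x = 1 from (QuotientGroup.eq_one_iff x).2 h]
      exact one_mem _
  refine ⟨x, hG, hn, hcl, hexp x hxB, ?_⟩
  set D := Subgroup.centralizer ({x} : Set G)
  have hDB : D ≤ B := fun y hy => by
    rw [← hcomap]
    refine hxC (Subgroup.mem_centralizer_singleton_iff.2 ?_)
    rw [← map_mul, ← map_mul, Subgroup.mem_centralizer_singleton_iff.1 hy]
  obtain ⟨j, hj, hje⟩ := (Nat.dvd_prime_pow hp.out).1 (hB ▸ Subgroup.card_dvd_of_le hDB)
  rw [hje]
  congr 1
  have hj3 : j ≠ 3 := by
    rintro rfl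
    have h := Subgroup.eq_of_le_of_card_ge hDB (by rw [hB, hje])
    refine hxZ (hZC.symm.le (Subgroup.mem_centralizer_iff.2 fun v hv => ?_))
    exact Subgroup.mem_centralizer_singleton_iff.1 (h.symm.le hv)
  have hZD : Z ≤ D := Subgroup.center_le_centralizer _
  have hlt : Nat.card Z < Nat.card D := by
    refine lt_of_le_of_ne (Subgroup.card_le_of_le hZD) fun e => hxZ ?_
    rw [Subgroup.eq_of_le_of_card_ge hZD e.ge]
    exact Subgroup.mem_centralizer_singleton_iff.2 rfl
  rw [hZp, hje] at hlt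
  have := (Nat.pow_lt_pow_iff_right hp.out.one_lt).1 (show p ^ 1 < p ^ j by rw [pow_one]; exact hlt)
  omega

end Cfsg.Agent.Fus.MC
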