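import Cfsg.Agent.Lib.Fus.RankTwoFrame

/-!
For `p ≥ 5` a group of rank two with an essential subgroup `C_p × C_p` is nonabelian of order `p³`
and exponent `p`.
-/

set_option autoImplicit false
set_option linter.unusedSectionVars false
set_option linter.style.haveILetI false

universe u

namespace Cfsg.Agent.Fus.RankTwo

open Cfsg FusionSystem RankTwoAut TorusExt Invol.CubicStable
open Grp.SL2 (up low up_mul up_pow up_zero)

variable {Ω : Type u} [Group Ω] {S : Subgroup Ω} [Finite S] {p : ℕ} [hp : Fact p.Prime]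
  {F : FusionSystem S}

theorem natCast_ne_zero (h5 : 5 ≤ p) {n : ℕ} (h1 : 0 < n) (h2 : n < p) : (n : ZMod p) ≠ 0 :=
  fun e => absurd (Nat.le_of_dvd h1 ((ZMod.natCast_eq_zero_iff n p).1 e)) (not_le.2 h2)

/-- A scalar of order at least four. -/
theorem exists_scalar (h5 : 5 ≤ p) :
    ∃ c : ZMod p, c ≠ 0 ∧ c ≠ 1 ∧ c * c ≠ 1 ∧ c * c * c ≠ 1 := by
  have hn : ∀ n : ℕ, ¬ p ∣ n → (n : ZMod p) ≠ 0 := fun n h e =>
    h ((ZMod.natCast_eq_zero_iff n p).1 e)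
  have hq : ∀ q n : ℕ, q.Prime → p ∣ q ^ n → p = q := fun q n hq h =>
    (Nat.prime_dvd_prime_iff_eq hp.out hq).1 (hp.out.dvd_of_dvd_pow h)
  by_cases h7 : p = 7
  · subst h7
    have h2 := hn 2 (by norm_num)
    have h3 := hn 3 (by norm_num)
    have h8 := hn 8 (by norm_num)
    have h26 := hn 26 (by norm_num)
    push_cast at h2 h3 h8 h26
    exact ⟨3, h3, fun e => h2 (by linear_combination e), fun e => h8 (by linear_combination e),
      fun e => h26 (by linear_combination e)⟩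
  · have h2 := hn 2 fun h => by have := hq 2 1 Nat.prime_two (by simpa using h); omega
    have h3 := hn 3 fun h => by have := hq 3 1 Nat.prime_three (by simpa using h); omega
    have h7' := hn 7 fun h => h7 (hq 7 1 (by norm_num) (by simpa using h))
    push_cast at h2 h3 h7'
    exact ⟨2, h2, fun e => one_ne_zero (α := ZMod p) (by linear_combination e),
      fun e => h3 (by linear_combination e), fun e => h7' (by linear_combination e)⟩

/-- The image of `N_S(P)` in the automorphisms of the quotient of a frame by its centre. -/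
noncomputable def frameRep (F : FusionSystem S) (P : Subgroup Ω) :
    F.autGroup P →* MulAut (↥P ⧸ Subgroup.center ↥P) :=
  (Frame.quotAut ↥P).comp (F.autGroup P).subtype

theorem frameRep_ker {P : Subgroup Ω} (f : Frame p ↥P) :
    ∀ g, frameRep F P g = 1 → (g : MulAut P) ∈ Inn P := fun _ hg => f.mem_inn_of_quotAut hg

/-- `|N_S(P) : P| ≤ p` for a self-centralizing frame. -/
theorem card_normalizerIn_le (F : FusionSystem S) (hS : IsPGroup p S) {P : Subgroup Ω} (hP : P ≤ S)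
    (hC : centralizerIn S P ≤ P) (f : Frame p ↥P) :
    Nat.card (normalizerIn S P) ≤ Nat.card P * p := by
  haveI := finite_of_le hP
  haveI : Finite ↥(normalizerIn S P) := finite_of_le (inf_le_left : normalizerIn S P ≤ S)
  have hle : P ≤ normalizerIn S P := le_normalizerIn hP
  have hidx : P.relIndex (normalizerIn S P) ≤ p := by
    set g := (frameRep F P).comp (cj F hP) with hg
    have hker : g.ker ≤ P.subgroupOf (normalizerIn S P) := fun x hx => by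
      have := mem_of_map_eq hC (frameRep F P) (frameRep_ker f) hP (x := x) (y := 1)
        (by rw [map_one, map_one]; exact hx)
      rwa [OneMemClass.coe_one, inv_one, mul_one] at this
    refine (Nat.le_of_dvd Nat.card_pos (show P.relIndex _ ∣ Nat.card g.range from ?_)).trans
      (card_le_of_pgroup_aut f.card_quot ?_)
    · rw [← Subgroup.index_ker]
      exact Subgroup.index_dvd_of_le hker
    · rw [MonoidHom.range_eq_map]
      exact ((hS.to_le inf_le_left : IsPGroup p (normalizerIn S P)).to_subgroup _).map _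
  rw [← Grp.card_mul_relIndex hle]
  exact Nat.mul_le_mul_left _ hidx

set_option maxHeartbeats 800000 in
/-- The normalizer of a self-centralizing group of order `p³` and exponent `p` with a torus has a
forbidden elementary abelian subgroup. -/
theorem final_false (hS : IsPGroup p S) (hR : RankLe p S) {R : Subgroup Ω} (hRS : R ≤ S)
    (hexpR : ∀ a ∈ R, a ^ p = 1) (f : Frame p ↥R) (hC : centralizerIn S R ≤ R)
    {w : ↥(normalizerIn S R)} (hwR : (w : Ω) ∉ R) {i₀ j₀ l₀ m₀ : ℕ}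
    (hwx₀ : (w : Ω) * f.x₀ * (w : Ω)⁻¹ = f.x₀ * (f.z : Ω) ^ j₀)
    (hwx₁ : (w : Ω) * f.x₁ * (w : Ω)⁻¹ = f.x₁ * (f.x₀ : Ω) ^ i₀ * (f.z : Ω) ^ l₀)
    (hwp : (w : Ω) ^ p ∈ R) {β : Ω → Ω} (hβ : IsMap F (normalizerIn S R) β) (hβR : ∀ x ∈ R, β x ∈ R)
    {μ ν c : ZMod p} (hμ : μ ≠ 0) (hν : ν ≠ 0) (hν2 : ν * ν ≠ 1) (hc : c = μ * ν⁻¹)
    (hβ₀ : β f.x₀ = (f.x₀ : Ω) ^ μ.val * (f.z : Ω) ^ m₀) {n₀ : ℕ}
    (hβ₁ : β f.x₁ = (f.x₁ : Ω) ^ ν.val * (f.z : Ω) ^ n₀)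
    (hβw : β w * ((w : Ω) ^ c.val)⁻¹ ∈ R) : False := by
  haveI := finite_of_le hRS
  set x₀ : Ω := ((f.x₀ : R) : Ω) with hx₀
  set x₁ : Ω := ((f.x₁ : R) : Ω) with hx₁
  set z : Ω := ((f.z : R) : Ω) with hz
  have hzR : z ∈ R := f.z.2
  have hx₀R : x₀ ∈ R := f.x₀.2
  have hx₁R : x₁ ∈ R := f.x₁.2
  have hx₁p : x₁ ^ p = 1 := hexpR _ hx₁R
  have hx₀p : x₀ ^ p = 1 := hexpR _ hx₀R
  have hzp : z ^ p = 1 := hexpR _ hzR
  have hzc : ∀ a ∈ R, Commute z a := fun a ha =>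
    (f.hz ⟨a, ha⟩).map R.subtype
  have hrel : x₁ * x₀ * x₁⁻¹ = x₀ * z ^ f.s := by
    have := congrArg (Subtype.val : R → Ω) f.rel
    simpa using this
  have hz1 : z ≠ 1 := fun h => f.hz1 (Subtype.ext h)
  have hnc : ¬ Commute x₁ x₀ := fun h => f.x₁_not_commute (Subtype.ext h.eq)
  have hx₀1 : x₀ ≠ 1 := fun h => hnc (by rw [h]; exact Commute.one_right _)
  have hx₀z : x₀ ∉ Subgroup.zpowers z := by
    rintro ⟨k, hk⟩
    exact hnc (hk ▸ ((hzc x₁ hx₁R).zpow_left k).symm)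
  have hNS : normalizerIn S R ≤ S := inf_le_left
  -- the span of `z` and `x₀`
  have hspan : ∀ a ∈ R, Commute a x₀ → ∃ i j : ℕ, a = z ^ i * x₀ ^ j := fun a ha hc' =>
    hR.exists_pow_mul_of_commute (hRS hzR) (hRS hx₀R) (hRS ha) hzp hx₀p (hexpR a ha) hz1 hx₀z
      (hzc _ hx₀R) (hzc a ha).symm hc'
  -- correct `w` to centralize `x₀`
  obtain ⟨v, hvw, hvx₀, hvx₁, hvp⟩ : ∃ v : ↥(normalizerIn S R), (∃ k : ℕ, (v : Ω) = x₁ ^ k * w) ∧
      Commute (v : Ω) x₀ ∧ (∃ i l : ℕ, (v : Ω) * x₁ * (v : Ω)⁻¹ = x₁ * x₀ ^ i * z ^ l) ∧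
      (v : Ω) ^ p ∈ R := by
    set k := (-(j₀ : ZMod p) * (f.s : ZMod p)⁻¹).val with hk
    have hpk : x₁ ^ k * x₀ * (x₁ ^ k)⁻¹ = x₀ * z ^ (f.s * k) := by
      have := congrArg (Subtype.val : R → Ω) (f.conj_x₁_pow k)
      simpa using this
    have hkR : x₁ ^ k ∈ R := R.pow_mem hx₁R k
    refine ⟨⟨x₁ ^ k * w, mul_mem (le_normalizerIn hRS hkR) w.2⟩, ⟨k, rfl⟩, ?_, ⟨i₀, f.s * k * i₀ + l₀, ?_⟩, ?_⟩
    · refine mul_inv_eq_iff_eq_mul.1 ?_
      rw [show x₁ ^ k * (w : Ω) * x₀ * (x₁ ^ k * (w : Ω))⁻¹ =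
        x₁ ^ k * ((w : Ω) * x₀ * (w : Ω)⁻¹) * (x₁ ^ k)⁻¹ by group, hwx₀,
        show x₁ ^ k * (x₀ * z ^ j₀) * (x₁ ^ k)⁻¹ =
          x₁ ^ k * x₀ * (x₁ ^ k)⁻¹ * (x₁ ^ k * z ^ j₀ * (x₁ ^ k)⁻¹) by group, hpk,
        ← ((hzc _ hkR).pow_left j₀).eq, mul_inv_cancel_right, mul_assoc, ← pow_add]
      refine mul_eq_left.2 ((pow_eq_of_cast hzp (b := 0) ?_).trans (pow_zero z))
      rw [Nat.cast_add, Nat.cast_mul, hk, ZMod.natCast_zmod_val, mul_left_comm,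
        mul_inv_cancel₀ f.hs, mul_one, neg_add_cancel, Nat.cast_zero]
    · rw [show x₁ ^ k * (w : Ω) * x₁ * (x₁ ^ k * (w : Ω))⁻¹ =
        x₁ ^ k * ((w : Ω) * x₁ * (w : Ω)⁻¹) * (x₁ ^ k)⁻¹ by group, hwx₁,
        show x₁ ^ k * (x₁ * x₀ ^ i₀ * z ^ l₀) * (x₁ ^ k)⁻¹ =
          x₁ * (x₁ ^ k * x₀ * (x₁ ^ k)⁻¹) ^ i₀ * (x₁ ^ k * z ^ l₀ * (x₁ ^ k)⁻¹) by
            rw [conj_pow]; group, hpk, ← ((hzc _ hkR).pow_left l₀).eq, mul_inv_cancel_right,
        (((hzc _ hx₀R).pow_left _).symm).mul_pow, ← pow_mul, pow_add]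
      group
    · -- the image of `v` modulo `R` is that of `w`
      have hn : ∀ n : ℕ, ((w : Ω) ^ n)⁻¹ * (x₁ ^ k * w) ^ n ∈ R := by
        intro n
        induction n with
        | zero => simp
        | succ n ih =>
          rw [show ((w : Ω) ^ (n + 1))⁻¹ * (x₁ ^ k * (w : Ω)) ^ (n + 1) =
            (w : Ω)⁻¹ * (((w : Ω) ^ n)⁻¹ * (x₁ ^ k * (w : Ω)) ^ n * x₁ ^ k) * (w : Ω) by
              rw [pow_succ, pow_succ]; group]
          exact (Subgroup.mem_normalizer_iff''.1 w.2.2 _).1 (R.mul_mem ih hkR)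
      have := R.mul_mem hwp (hn p)
      rwa [mul_inv_cancel_left] at this
  obtain ⟨k, hvk⟩ := hvw
  obtain ⟨i, l, hvi⟩ := hvx₁
  have hvR : (v : Ω) ∉ R := fun h => hwR (by
    have := R.mul_mem (R.inv_mem (R.pow_mem hx₁R k)) h
    rwa [hvk, inv_mul_cancel_left] at this)
  -- `v` fixes the centre
  have hvz : Commute (v : Ω) z := by
    have h1 : ((v : Ω) * x₁ * (v : Ω)⁻¹) * ((v : Ω) * x₀ * (v : Ω)⁻¹) * ((v : Ω) * x₁ * (v : Ω)⁻¹)⁻¹ =
        (v : Ω) * (x₁ * x₀ * x₁⁻¹) * (v : Ω)⁻¹ := by group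
    rw [hrel, hvi, hvx₀.eq, mul_inv_cancel_right] at h1
    have h2 : x₁ * x₀ ^ i * z ^ l * x₀ * (x₁ * x₀ ^ i * z ^ l)⁻¹ = x₁ * x₀ * x₁⁻¹ := by
      rw [show x₁ * x₀ ^ i * z ^ l * x₀ * (x₁ * x₀ ^ i * z ^ l)⁻¹ =
        x₁ * (x₀ ^ i * (z ^ l * x₀ * (z ^ l)⁻¹) * (x₀ ^ i)⁻¹) * x₁⁻¹ by group,
        ((hzc _ hx₀R).pow_left l).eq, mul_inv_cancel_right, ((Commute.refl x₀).pow_left i).eq,
        mul_inv_cancel_right]
    rw [h2, hrel, show (v : Ω) * (x₀ * z ^ f.s) * (v : Ω)⁻¹ =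
      (v : Ω) * x₀ * (v : Ω)⁻¹ * ((v : Ω) * z ^ f.s * (v : Ω)⁻¹) by group, hvx₀.eq,
      mul_inv_cancel_right, mul_left_cancel_iff] at h1
    exact (commute_of_pow hzp f.hs (mul_inv_eq_iff_eq_mul.1 h1.symm).symm).symm
  -- `v ^ p` lies in the centre
  obtain ⟨q₀, hq₀⟩ : ∃ q₀ : ℕ, (v : Ω) ^ p = z ^ q₀ := by
    obtain ⟨a, b, hab⟩ := hspan _ hvp (hvx₀.pow_left p)
    have hx₁v : Commute x₁ ((v : Ω) ^ p) := by
      have h2 : x₁⁻¹ * (v : Ω) * x₁ = x₀ ^ i * z ^ l * v := by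
        rw [mul_assoc, show (v : Ω) * x₁ = x₁ * x₀ ^ i * z ^ l * v from mul_inv_eq_iff_eq_mul.1 hvi]
        group
      have h3 : Commute (x₀ ^ i * z ^ l) (v : Ω) :=
        (hvx₀.symm.pow_left i).mul_left (hvz.symm.pow_left l)
      have h4 : (x₁⁻¹ * (v : Ω) * x₁) ^ p = (v : Ω) ^ p := by
        rw [h2, h3.mul_pow, ((hzc _ hx₀R).symm.pow_pow i l).mul_pow, ← pow_mul, ← pow_mul,
          mul_comm i, mul_comm l, pow_mul, pow_mul, hx₀p, hzp, one_pow, one_pow, one_mul, one_mul]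
      rw [show x₁⁻¹ * (v : Ω) * x₁ = x₁⁻¹ * (v : Ω) * x₁⁻¹⁻¹ by rw [inv_inv], conj_pow, inv_inv,
        mul_assoc, inv_mul_eq_iff_eq_mul] at h4
      exact h4.symm
    refine ⟨a, ?_⟩
    rcases eq_or_ne (b : ZMod p) 0 with hb | hb
    · rw [hab, (pow_eq_of_cast hx₀p (b := 0) (by simpa using hb)).trans (pow_zero _), mul_one]
    · refine (hnc ?_).elim
      rw [hab] at hx₁v
      have h5 := ((hzc _ hx₁R).symm.pow_right a).inv_right.mul_right hx₁v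
      rw [inv_mul_cancel_left] at h5
      exact (commute_of_pow hx₀p hb h5.symm).symm
  -- the weights
  have hxN : ∀ {a : Ω}, a ∈ R → a ∈ normalizerIn S R := fun ha => le_normalizerIn hRS ha
  have hRN := le_normalizerIn hRS
  have hpow : ∀ {a : Ω}, a ∈ normalizerIn S R → ∀ n : ℕ, β (a ^ n) = β a ^ n := fun {a} ha n => by
    induction n with
    | zero => rw [pow_zero, pow_zero, hβ.map_one]
    | succ n ih => rw [pow_succ, pow_succ, hβ.map_mul (pow_mem ha n) ha, ih]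
  have hβz : β z = z ^ (μ * ν).val := by
    have h1 : β (x₁ * x₀ * x₁⁻¹) = β x₀ * β z ^ f.s := by
      rw [hrel, hβ.map_mul (hxN hx₀R) (hxN (R.pow_mem hzR _)), hpow (hxN hzR)]
    rw [hβ.map_conj (hxN hx₁R) (hxN hx₀R), hβ₀, hβ₁] at h1
    have h2 : x₁ ^ ν.val * x₀ ^ μ.val * (x₁ ^ ν.val)⁻¹ = x₀ ^ μ.val * z ^ (f.s * (μ * ν).val) := by
      have h3 : x₁ ^ ν.val * x₀ * (x₁ ^ ν.val)⁻¹ = x₀ * z ^ (f.s * ν.val) := by
        have := congrArg (Subtype.val : R → Ω) (f.conj_x₁_pow ν.val)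
        simpa using this
      rw [← conj_pow, h3, (((hzc _ hx₀R).pow_left _).symm).mul_pow, ← pow_mul]
      refine congrArg _ (pow_eq_of_cast hzp ?_)
      simp only [Nat.cast_mul, ZMod.natCast_zmod_val]
      ring
    have hcz : ∀ n : ℕ, Commute (z ^ n) (x₁ ^ ν.val) := fun n =>
      ((hzc _ (R.pow_mem hx₁R _)).pow_left n)
    rw [show x₁ ^ ν.val * z ^ n₀ * (x₀ ^ μ.val * z ^ m₀) * (x₁ ^ ν.val * z ^ n₀)⁻¹ =
      x₁ ^ ν.val * (z ^ n₀ * (x₀ ^ μ.val * z ^ m₀) * (z ^ n₀)⁻¹) * (x₁ ^ ν.val)⁻¹ by group,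
      (((hzc _ hx₀R).pow_pow n₀ μ.val).mul_right ((Commute.refl z).pow_pow n₀ m₀)).eq,
      mul_inv_cancel_right,
      show x₁ ^ ν.val * (x₀ ^ μ.val * z ^ m₀) * (x₁ ^ ν.val)⁻¹ =
        x₁ ^ ν.val * x₀ ^ μ.val * (x₁ ^ ν.val)⁻¹ * (x₁ ^ ν.val * z ^ m₀ * (x₁ ^ ν.val)⁻¹) by group,
      h2, ← (hcz m₀).eq, mul_inv_cancel_right, mul_assoc, mul_assoc, mul_left_cancel_iff,
      ((Commute.refl z).pow_pow _ m₀).eq, mul_left_cancel_iff, mul_comm, pow_mul] at h1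
    obtain ⟨t, ht⟩ : ∃ t : ℕ, (t : ZMod p) * f.s = 1 :=
      ⟨((f.s : ZMod p)⁻¹).val, by rw [ZMod.natCast_zmod_val, inv_mul_cancel₀ f.hs]⟩
    have h3 := congrArg (· ^ t) h1.symm
    simp only [← pow_mul] at h3
    have hβzp : β z ^ p = 1 := hexpR _ (hβR z hzR)
    have ht' : ((f.s * t : ℕ) : ZMod p) = (1 : ℕ) := by rw [Nat.cast_mul, Nat.cast_one, mul_comm]; exact ht
    rw [pow_eq_of_cast hβzp ht', pow_one] at h3
    refine h3.trans (pow_eq_of_cast hzp ?_)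
    rw [Nat.cast_mul, Nat.cast_mul, mul_assoc, mul_comm (f.s : ZMod p), ht, mul_one]
  -- `β v = q * v ^ c` with `q` in the span
  obtain ⟨q, hqR, hq⟩ : ∃ q ∈ R, β v = q * (v : Ω) ^ c.val := by
    refine ⟨β v * ((v : Ω) ^ c.val)⁻¹, ?_, (inv_mul_cancel_right _ _).symm⟩
    rw [hvk, hβ.map_mul (hxN (R.pow_mem hx₁R k)) w.2]
    have hn : ∀ n : ℕ, (x₁ ^ k * w) ^ n * ((w : Ω) ^ n)⁻¹ ∈ R := by
      intro n
      induction n with
      | zero => simp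
      | succ n ih =>
        rw [show (x₁ ^ k * (w : Ω)) ^ (n + 1) * ((w : Ω) ^ (n + 1))⁻¹ =
          x₁ ^ k * ((w : Ω) * ((x₁ ^ k * (w : Ω)) ^ n * ((w : Ω) ^ n)⁻¹) * (w : Ω)⁻¹) by
            rw [pow_succ', pow_succ']; group]
        exact R.mul_mem (R.pow_mem hx₁R k) ((Subgroup.mem_normalizer_iff.1 w.2.2 _).1 ih)
    rw [show β (x₁ ^ k) * β w * ((x₁ ^ k * (w : Ω)) ^ c.val)⁻¹ = β (x₁ ^ k) *
      ((β w * ((w : Ω) ^ c.val)⁻¹) * ((x₁ ^ k * (w : Ω)) ^ c.val * ((w : Ω) ^ c.val)⁻¹)⁻¹) by group]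
    exact R.mul_mem (hβR _ (R.pow_mem hx₁R k)) (R.mul_mem hβw (R.inv_mem (hn _)))
  have hqv : Commute q (v : Ω) := by
    have h1 : Commute (β v) x₀ := by
      refine (commute_of_pow hx₀p (a := μ.val) (by rwa [ZMod.natCast_zmod_val]) ?_).symm
      have h2 : β v * β x₀ = β x₀ * β v := by
        rw [← hβ.map_mul v.2 (hxN hx₀R), ← hβ.map_mul (hxN hx₀R) v.2, hvx₀.eq]
      have h4 : β v * β z = β z * β v := by
        rw [← hβ.map_mul v.2 (hxN hzR), ← hβ.map_mul (hxN hzR) v.2, hvz.eq]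
      rw [hβz] at h4
      have h5 : Commute (β v) z := by
        refine (commute_of_pow hzp (a := (μ * ν).val) ?_ (show Commute _ _ from h4.symm)).symm
        rw [ZMod.natCast_zmod_val]
        exact mul_ne_zero hμ hν
      have h3 := (show Commute (β v) (β x₀) from h2).mul_right ((h5.pow_right m₀).inv_right)
      rw [hβ₀, mul_inv_cancel_right] at h3
      exact h3.symm
    rw [hq] at h1
    have h6 := h1.mul_left ((hvx₀.pow_left c.val).inv_left)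
    rw [mul_inv_cancel_right] at h6
    obtain ⟨a, b, rfl⟩ := hspan q hqR h6
    exact (hvz.symm.pow_left a).mul_left (hvx₀.symm.pow_left b)
  have hfin : (v : Ω) ^ p = 1 := by
    have h1 := congrArg (· ^ p) hq
    simp only [(hqv.pow_right c.val).mul_pow, hexpR q hqR, one_mul, ← hpow v.2] at h1
    rw [← pow_mul, mul_comm, pow_mul, hq₀, hpow (hxN hzR), hβz, ← pow_mul, ← pow_mul] at h1
    rcases eq_or_ne (q₀ : ZMod p) 0 with h0 | h0
    · rw [hq₀, (pow_eq_of_cast hzp (b := 0) (by simpa using h0)).trans (pow_zero z)]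
    · exfalso
      have h2 := cast_eq_of_pow hzp hz1 h1
      simp only [Nat.cast_mul, ZMod.natCast_zmod_val] at h2
      rw [mul_comm (q₀ : ZMod p)] at h2
      have h3 := mul_right_cancel₀ h0 h2
      rw [hc] at h3
      refine hν2 (mul_left_cancel₀ hμ ?_)
      rw [mul_one, ← mul_assoc, h3, inv_mul_cancel_right₀ hν]
  refine hvR ?_
  obtain ⟨a, b, hab⟩ := hR.exists_pow_mul_of_commute (hRS hzR) (hRS hx₀R) (hNS v.2) hzp hx₀p hfin
    hz1 hx₀z (hzc _ hx₀R) hvz hvx₀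
  rw [hab]
  exact R.mul_mem (R.pow_mem hzR a) (R.pow_mem hx₀R b)

end Cfsg.Agent.Fus.RankTwo
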