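import Cfsg.Agent.Lib.Fus.TorusExt
import Cfsg.Prelude.Def_Transfer
import Cfsg.Agent.Lib.Grp.GaschutzYen

/-!
Small lemmas on groups of rank two and on nonabelian groups of order `p³` and exponent `p`.
-/

set_option autoImplicit false
set_option linter.unusedSectionVars false
set_option linter.style.haveILetI false

universe u v

namespace Cfsg.Agent.Fus.RankTwo

open Cfsg RankTwoAut Invol.CubicStable
open Grp.SL2 (up low up_mul up_pow up_zero)

variable {G : Type u} [Group G] {p : ℕ} [hp : Fact p.Prime]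

theorem pow_eq_of_cast {x : G} (hx : x ^ p = 1) {a b : ℕ} (h : (a : ZMod p) = b) : x ^ a = x ^ b := by
  rw [pow_eq_pow_mod a hx, pow_eq_pow_mod b hx, (ZMod.natCast_eq_natCast_iff' a b p).1 h]

theorem cast_eq_of_pow {x : G} (hx : x ^ p = 1) (h1 : x ≠ 1) {a b : ℕ} (h : x ^ a = x ^ b) :
    (a : ZMod p) = b := by
  refine (ZMod.natCast_eq_natCast_iff a b p).2 ?_
  have := pow_eq_pow_iff_modEq.1 h
  rwa [orderOf_eq_prime hx h1] at this

/-- An element is recovered from a power prime to `p`. -/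
theorem exists_pow_eq {x : G} (hx : x ^ p = 1) {a : ℕ} (ha : (a : ZMod p) ≠ 0) :
    ∃ b : ℕ, (x ^ a) ^ b = x :=
  ⟨((a : ZMod p)⁻¹).val, by
    rw [← pow_mul]
    refine (pow_eq_of_cast hx (b := 1) ?_).trans (pow_one x)
    rw [Nat.cast_mul, ZMod.natCast_zmod_val, mul_inv_cancel₀ ha, Nat.cast_one]⟩

theorem commute_of_pow {x y : G} (hx : x ^ p = 1) {a : ℕ} (ha : (a : ZMod p) ≠ 0)
    (h : Commute (x ^ a) y) : Commute x y := by
  obtain ⟨b, hb⟩ := exists_pow_eq hx ha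
  exact hb ▸ h.pow_left b

/-- The elements of the group generated by two commuting elements of order dividing `p`. -/
theorem exists_pow_mul {x y z : G} (hxy : Commute x y) (hx : x ^ p = 1) (hy : y ^ p = 1)
    (hz : z ∈ Subgroup.closure {x, y}) : ∃ i j : ℕ, z = x ^ i * y ^ j := by
  induction hz using Subgroup.closure_induction with
  | mem a ha =>
    rcases ha with rfl | rfl
    exacts [⟨1, 0, by simp⟩, ⟨0, 1, by simp⟩]
  | one => exact ⟨0, 0, by simp⟩
  | mul a b _ _ iha ihb =>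
    obtain ⟨i, j, rfl⟩ := iha
    obtain ⟨k, l, rfl⟩ := ihb
    refine ⟨i + k, j + l, ?_⟩
    rw [mul_assoc, ← mul_assoc (y ^ j), ← (hxy.pow_pow k j).eq, pow_add, pow_add]
    group
  | inv a _ iha =>
    obtain ⟨i, j, rfl⟩ := iha
    refine ⟨i * (p - 1), j * (p - 1), inv_eq_of_mul_eq_one_right ?_⟩
    rw [mul_assoc, ← mul_assoc (y ^ j), ← (hxy.pow_pow _ j).eq, ← mul_assoc, ← mul_assoc, ← pow_add,
      mul_assoc, ← pow_add, show i + i * (p - 1) = p * i by
        obtain ⟨n, rfl⟩ : ∃ n, p = n + 1 := ⟨p - 1, by have := hp.out.pos; omega⟩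
        simp; ring,
      show j + j * (p - 1) = p * j by
        obtain ⟨n, rfl⟩ : ∃ n, p = n + 1 := ⟨p - 1, by have := hp.out.pos; omega⟩
        simp; ring,
      pow_mul, pow_mul, hx, hy, one_pow, one_pow, mul_one]

/-- No elementary abelian subgroup of order `p³` in `S`. -/
def RankLe (p : ℕ) (S : Subgroup G) : Prop :=
  ∀ E : Subgroup G, E ≤ S → IsElementaryAbelian p E → Nat.card E ≤ p ^ 2

theorem closure_pair_elementary {x y : G} (hxy : Commute x y) (hx : x ^ p = 1) (hy : y ^ p = 1) :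
    IsElementaryAbelian p (Subgroup.closure {x, y}) := by
  refine ⟨⟨⟨fun a b => ?_⟩⟩, fun a ha => ?_⟩
  · refine Subtype.ext ?_
    obtain ⟨i, j, hi⟩ := exists_pow_mul hxy hx hy a.2
    obtain ⟨k, l, hk⟩ := exists_pow_mul hxy hx hy b.2
    show (a : G) * b = b * a
    rw [hi, hk]
    exact ((((Commute.refl x).pow_pow i k).mul_right (hxy.pow_pow i l)).mul_left
      ((hxy.symm.pow_pow j k).mul_right ((Commute.refl y).pow_pow j l))).eq
  · obtain ⟨i, j, rfl⟩ := exists_pow_mul hxy hx hy ha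
    rw [(hxy.pow_pow i j).mul_pow, ← pow_mul, ← pow_mul, mul_comm i, mul_comm j, pow_mul, pow_mul,
      hx, hy, one_pow, one_pow, one_mul]

theorem sq_le_card [Finite G] {x y : G} (hxy : Commute x y) (hx : x ^ p = 1) (hy : y ^ p = 1)
    (hx1 : x ≠ 1) (hyx : y ∉ Subgroup.zpowers x) : p ^ 2 ≤ Nat.card (Subgroup.closure {x, y}) := by
  set A := Subgroup.closure ({x, y} : Set G)
  have hle : Subgroup.zpowers x < A := lt_of_le_of_ne
    (Subgroup.zpowers_le.2 (Subgroup.subset_closure (Or.inl rfl))) fun e =>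
      hyx (e.ge (Subgroup.subset_closure (Or.inr rfl)))
  have hA : IsPGroup p A := fun a => ⟨1, Subtype.ext (by
    rw [pow_one, SubmonoidClass.coe_pow]; exact (closure_pair_elementary hxy hx hy).2 a a.2)⟩
  obtain ⟨i, hi⟩ := IsPGroup.iff_card.1 hA
  have h1 := card_lt_of_lt hle
  rw [Nat.card_zpowers, orderOf_eq_prime hx hx1, hi] at h1
  rw [hi]
  refine Nat.pow_le_pow_right hp.out.pos ?_
  by_contra h
  have : p ^ i ≤ p := (Nat.pow_le_pow_right hp.out.pos (by omega : i ≤ 1)).trans (pow_one p).le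
  omega

/-- In rank two an element of order `p` commuting with two independent ones is in their span. -/
theorem RankLe.exists_pow_mul_of_commute {S : Subgroup G} [Finite S] (hS : RankLe p S) {x y w : G}
    (hxS : x ∈ S) (hyS : y ∈ S) (hwS : w ∈ S) (hx : x ^ p = 1) (hy : y ^ p = 1) (hw : w ^ p = 1)
    (hx1 : x ≠ 1) (hyx : y ∉ Subgroup.zpowers x) (hxy : Commute x y) (hwx : Commute w x)
    (hwy : Commute w y) : ∃ i j : ℕ, w = x ^ i * y ^ j := by
  refine exists_pow_mul hxy hx hy ?_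
  by_contra hne
  set A := Subgroup.closure ({x, y} : Set G) with hA
  set B := Subgroup.closure ({x, y, w} : Set G) with hB
  have hBS : B ≤ S := (Subgroup.closure_le _).2 (by rintro _ (rfl | rfl | rfl) <;> assumption)
  haveI := finite_of_le hBS
  have hBel : IsElementaryAbelian p B := by
    haveI hc : IsMulCommutative B := Subgroup.isMulCommutative_closure (by
      rintro a (rfl | rfl | rfl) b (rfl | rfl | rfl) <;>
        first
        | rfl
        | exact hxy.eq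
        | exact hxy.eq.symm
        | exact hwx.eq
        | exact hwx.eq.symm
        | exact hwy.eq
        | exact hwy.eq.symm)
    refine ⟨hc, fun a ha => ?_⟩
    induction ha using Subgroup.closure_induction with
    | mem c hc' => rcases hc' with rfl | rfl | rfl <;> assumption
    | one => exact one_pow p
    | mul a b ha hb iha ihb =>
      have hcab : Commute a b := congrArg Subtype.val (hc.is_comm.comm ⟨a, ha⟩ ⟨b, hb⟩)
      rw [hcab.mul_pow, iha, ihb, one_mul]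
    | inv a _ ih => rw [inv_pow, ih, inv_one]
  have hlt : A < B := lt_of_le_of_ne (Subgroup.closure_mono (by
    rintro a (rfl | rfl) <;> simp)) fun e => hne (e.ge (Subgroup.subset_closure (by simp)))
  have h1 := card_lt_of_lt hlt
  have h2 := hS B hBS hBel
  haveI := finite_of_le (hlt.le.trans hBS)
  have h3 : p ^ 2 ≤ Nat.card A := by
    have hAS : A ≤ S := hlt.le.trans hBS
    have hxy' : Commute (⟨x, hxS⟩ : S) ⟨y, hyS⟩ := Subtype.ext hxy.eq
    have h4 := sq_le_card (p := p) hxy' (Subtype.ext hx) (Subtype.ext hy)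
      (fun e => hx1 (congrArg Subtype.val e)) (fun ⟨i, hi⟩ => hyx ⟨i, congrArg Subtype.val hi⟩)
    rwa [← Subgroup.card_map_of_injective S.subtype_injective, MonoidHom.map_closure,
      Set.image_pair] at h4
  omega

section Coords

variable {Q : Type v} [Group Q] (e : Multiplicative (Fin 2 → ZMod p) ≃* Q)

local notation "f₀" => e (Multiplicative.ofAdd (Pi.single 0 1))
local notation "f₁" => e (Multiplicative.ofAdd (Pi.single 1 1))

theorem e_smul (c : ZMod p) (v : Fin 2 → ZMod p) :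
    e (Multiplicative.ofAdd (c • v)) = e (Multiplicative.ofAdd v) ^ c.val := by
  rw [← map_pow, ← ofAdd_nsmul]
  congr 2
  funext i
  simp [-ZMod.natCast_val, ZMod.natCast_zmod_val]

theorem act_up (t : ZMod p) : act e (up t) f₀ = f₀ ∧ act e (up t) f₁ = f₀ ^ t.val * f₁ := by
  have key : ∀ i : Fin 2, act e (up t) (e (Multiplicative.ofAdd (Pi.single i 1))) =
      e (Multiplicative.ofAdd ((up t : Matrix.SpecialLinearGroup (Fin 2) (ZMod p)).1.mulVec
        (Pi.single i 1))) := fun i => by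
    rw [← lin_act e (up t), lin_apply]; simp
  constructor
  · rw [key]
    congr 2
    funext k; fin_cases k <;> simp [up]
  · rw [key, ← e_smul, ← map_mul, ← ofAdd_add]
    congr 2
    funext k; fin_cases k <;> simp [up]

theorem act_dg (c d : ZMod p) (h : c * d = 1) :
    act e (dg c d h) f₀ = f₀ ^ c.val ∧ act e (dg c d h) f₁ = f₁ ^ d.val := by
  have key : ∀ i : Fin 2, act e (dg c d h) (e (Multiplicative.ofAdd (Pi.single i 1))) =
      e (Multiplicative.ofAdd ((dg c d h : Matrix.SpecialLinearGroup (Fin 2) (ZMod p)).1.mulVec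
        (Pi.single i 1))) := fun i => by
    rw [← lin_act e (dg c d h), lin_apply]; simp
  constructor
  · rw [key, ← e_smul]
    congr 2
    funext k; fin_cases k <;> simp [dg]
  · rw [key, ← e_smul]
    congr 2
    funext k; fin_cases k <;> simp [dg]

theorem coord_f₀_ne_one : f₀ ≠ 1 := fun h => by
  have := congrArg (fun v : Multiplicative (Fin 2 → ZMod p) => v.toAdd 0)
    (e.injective (h.trans (map_one e).symm))
  simp at this

theorem coord_f₁_notMem : f₁ ∉ Subgroup.zpowers f₀ := by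
  rintro ⟨i, hi⟩
  have h' : Multiplicative.ofAdd (Pi.single (0 : Fin 2) (1 : ZMod p) : Fin 2 → ZMod p) ^ i =
      Multiplicative.ofAdd (Pi.single (1 : Fin 2) (1 : ZMod p) : Fin 2 → ZMod p) :=
    e.injective ((map_zpow e _ i).trans hi)
  have := congrArg (fun v : Multiplicative (Fin 2 → ZMod p) => v.toAdd 1) h'
  simp at this

theorem coord_cast {a b a' b' : ℕ} (h : f₀ ^ a * f₁ ^ b = f₀ ^ a' * f₁ ^ b') :
    (a : ZMod p) = a' ∧ (b : ZMod p) = b' := by
  have h1 := congrArg (fun q => (e.symm q).toAdd) h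
  constructor
  · simpa using congrFun h1 0
  · simpa using congrFun h1 1

theorem exists_coord (q : Q) : ∃ i j : ℕ, q = f₀ ^ i * f₁ ^ j := by
  refine ⟨((e.symm q).toAdd 0).val, ((e.symm q).toAdd 1).val, ?_⟩
  rw [← e_smul, ← e_smul, ← map_mul, ← ofAdd_add]
  refine (e.apply_symm_apply q).symm.trans (congrArg e ?_)
  apply Multiplicative.toAdd.injective
  funext k; fin_cases k <;> simp [-ZMod.natCast_val, ZMod.natCast_zmod_val]

end Coords

/-- Generators and relation of a nonabelian group of order `p³` and exponent `p`. -/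
structure Frame (p : ℕ) (D : Type v) [Group D] where
  /-- first generator -/
  x₀ : D
  /-- second generator -/
  x₁ : D
  /-- generator of the centre -/
  z : D
  /-- exponent of the commutator -/
  s : ℕ
  hz : ∀ d : D, Commute z d
  hzp : z ^ p = 1
  hx₀p : x₀ ^ p = 1
  hx₁p : x₁ ^ p = 1
  hs : (s : ZMod p) ≠ 0
  rel : x₁ * x₀ * x₁⁻¹ = x₀ * z ^ s
  hcl : Subgroup.closure {x₀, x₁} = ⊤
  hz1 : z ≠ 1

namespace Frame

variable {D : Type v} [Group D] (f : Frame p D)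

theorem conj_x₁_pow (j : ℕ) : f.x₁ ^ j * f.x₀ * (f.x₁ ^ j)⁻¹ = f.x₀ * f.z ^ (f.s * j) := by
  induction j with
  | zero => simp
  | succ j ih =>
    calc f.x₁ ^ (j + 1) * f.x₀ * (f.x₁ ^ (j + 1))⁻¹
        = f.x₁ * (f.x₁ ^ j * f.x₀ * (f.x₁ ^ j)⁻¹) * f.x₁⁻¹ := by rw [pow_succ']; group
      _ = (f.x₁ * f.x₀ * f.x₁⁻¹) * (f.x₁ * f.z ^ (f.s * j) * f.x₁⁻¹) := by rw [ih]; group
      _ = f.x₀ * f.z ^ (f.s * (j + 1)) := by
        rw [f.rel, ← ((f.hz f.x₁).pow_left _).eq, mul_inv_cancel_right, mul_assoc, ← pow_add,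
          mul_add, mul_one, add_comm]

theorem x₁_not_commute : ¬ Commute f.x₁ f.x₀ := fun h => by
  have h1 := f.rel
  rw [h.eq, mul_inv_cancel_right, left_eq_mul] at h1
  have := cast_eq_of_pow f.hzp f.hz1 (a := f.s) (b := 0) (by rw [h1, pow_zero])
  exact f.hs (by simpa using this)

theorem conj_x₀_x₁ : f.x₀ * f.x₁ * f.x₀⁻¹ = (f.z ^ f.s)⁻¹ * f.x₁ := by
  have h : f.x₁ * f.x₀ = f.x₀ * f.z ^ f.s * f.x₁ := mul_inv_eq_iff_eq_mul.1 f.rel
  calc f.x₀ * f.x₁ * f.x₀⁻¹ = (f.z ^ f.s)⁻¹ * (f.z ^ f.s * f.x₀ * f.x₁) * f.x₀⁻¹ := by group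
    _ = (f.z ^ f.s)⁻¹ * (f.x₁ * f.x₀) * f.x₀⁻¹ := by
      rw [((f.hz f.x₀).pow_left f.s).eq, h]
    _ = (f.z ^ f.s)⁻¹ * f.x₁ := by group

theorem conj_x₀_pow (i : ℕ) : f.x₀ ^ i * f.x₁ * (f.x₀ ^ i)⁻¹ = (f.z ^ (f.s * i))⁻¹ * f.x₁ := by
  induction i with
  | zero => simp
  | succ i ih =>
    calc f.x₀ ^ (i + 1) * f.x₁ * (f.x₀ ^ (i + 1))⁻¹
        = f.x₀ * (f.x₀ ^ i * f.x₁ * (f.x₀ ^ i)⁻¹) * f.x₀⁻¹ := by rw [pow_succ']; group
      _ = (f.x₀ * (f.z ^ (f.s * i))⁻¹ * f.x₀⁻¹) * (f.x₀ * f.x₁ * f.x₀⁻¹) := by rw [ih]; group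
      _ = (f.z ^ (f.s * (i + 1)))⁻¹ * f.x₁ := by
        rw [f.conj_x₀_x₁, ← (((f.hz f.x₀).pow_left _).inv_left).eq, mul_inv_cancel_right, mul_add,
          mul_one, add_comm, pow_add, mul_inv_rev, mul_assoc]

/-- Every element is a product of powers of the generators. -/
theorem exists_word (d : D) : ∃ i j k : ℕ, d = f.x₀ ^ i * f.x₁ ^ j * f.z ^ k := by
  set M : Submonoid D :=
    { carrier := {d | ∃ i j k : ℕ, d = f.x₀ ^ i * f.x₁ ^ j * f.z ^ k}
      one_mem' := ⟨0, 0, 0, by simp⟩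
      mul_mem' := by
        rintro _ _ ⟨i, j, k, rfl⟩ ⟨i', j', k', rfl⟩
        refine ⟨i + i', j + j', f.s * j * i' + k + k', ?_⟩
        have hmove : f.x₁ ^ j * f.x₀ ^ i' = f.x₀ ^ i' * f.x₁ ^ j * f.z ^ (f.s * j * i') := by
          have h1 : (f.x₁ ^ j * f.x₀ * (f.x₁ ^ j)⁻¹) ^ i' = (f.x₀ * f.z ^ (f.s * j)) ^ i' :=
            congrArg (· ^ i') (f.conj_x₁_pow j)
          rw [conj_pow, (((f.hz f.x₀).pow_left _).symm).mul_pow, ← pow_mul,
            mul_inv_eq_iff_eq_mul, mul_assoc (f.x₀ ^ i'), ((f.hz (f.x₁ ^ j)).pow_left _).eq,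
            ← mul_assoc] at h1
          exact h1
        have hz' : ∀ (n : ℕ) (d : D), f.z ^ n * d = d * f.z ^ n := fun n d => ((f.hz d).pow_left n).eq
        calc f.x₀ ^ i * f.x₁ ^ j * f.z ^ k * (f.x₀ ^ i' * f.x₁ ^ j' * f.z ^ k')
            = f.x₀ ^ i * f.x₁ ^ j * (f.z ^ k * (f.x₀ ^ i' * f.x₁ ^ j')) * f.z ^ k' := by group
          _ = f.x₀ ^ i * (f.x₁ ^ j * f.x₀ ^ i') * f.x₁ ^ j' * f.z ^ k * f.z ^ k' := by
            rw [hz']; group
          _ = f.x₀ ^ i * f.x₀ ^ i' * (f.x₁ ^ j * (f.z ^ (f.s * j * i') * f.x₁ ^ j')) *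
              f.z ^ k * f.z ^ k' := by rw [hmove]; group
          _ = _ := by rw [hz', pow_add, pow_add, pow_add, pow_add]; group }
  have hpM : ∀ x ∈ ({f.x₀, f.x₁} : Set D), x ∈ M ∧ x⁻¹ ∈ M := by
    have hinv : ∀ x : D, x ^ p = 1 → x⁻¹ = x ^ (p - 1) := fun x hx => inv_eq_of_mul_eq_one_right (by
      rw [← pow_succ', Nat.sub_add_cancel hp.out.one_le, hx])
    rintro x (rfl | rfl)
    · exact ⟨⟨1, 0, 0, by simp⟩, ⟨p - 1, 0, 0, by simp [hinv _ f.hx₀p]⟩⟩
    · exact ⟨⟨0, 1, 0, by simp⟩, ⟨0, p - 1, 0, by simp [hinv _ f.hx₁p]⟩⟩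
  have hd : d ∈ Subgroup.closure ({f.x₀, f.x₁} : Set D) := f.hcl ▸ Subgroup.mem_top d
  rw [← Subgroup.mem_toSubmonoid, Subgroup.closure_toSubmonoid] at hd
  refine (Submonoid.closure_le.2 ?_ : _ ≤ M) hd
  rintro x (hx | hx)
  · exact (hpM x hx).1
  · simpa using (hpM x⁻¹ hx).2

theorem mem_center_iff {d : D} : d ∈ Subgroup.center D ↔ ∃ k : ℕ, d = f.z ^ k := by
  refine ⟨fun hd => ?_, ?_⟩
  · obtain ⟨i, j, k, rfl⟩ := f.exists_word d
    have hzc : ∀ y : D, Commute (f.z ^ k) y := fun y => (f.hz y).pow_left k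
    have hd' : ∀ y : D, Commute (f.x₀ ^ i * f.x₁ ^ j) y := fun y => by
      have h1 : Commute (f.x₀ ^ i * f.x₁ ^ j * f.z ^ k * (f.z ^ k)⁻¹) y :=
        (show Commute (f.x₀ ^ i * f.x₁ ^ j * f.z ^ k) y from
          (Subgroup.mem_center_iff.1 hd y).symm).mul_left (hzc y).inv_left
      rwa [mul_inv_cancel_right] at h1
    have hj : (j : ZMod p) = 0 := by
      by_contra hj
      refine f.x₁_not_commute (commute_of_pow f.hx₁p hj ?_)
      have h1 := ((Commute.refl f.x₀).pow_left i).inv_left.mul_left (hd' f.x₀)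
      rwa [inv_mul_cancel_left] at h1
    have hj1 : f.x₁ ^ j = 1 :=
      (pow_eq_of_cast f.hx₁p (b := 0) (by simpa using hj)).trans (pow_zero _)
    have hi : (i : ZMod p) = 0 := by
      by_contra hi
      refine f.x₁_not_commute (commute_of_pow f.hx₀p hi ?_).symm
      have h1 := hd' f.x₁
      rwa [hj1, mul_one] at h1
    have hi1 : f.x₀ ^ i = 1 :=
      (pow_eq_of_cast f.hx₀p (b := 0) (by simpa using hi)).trans (pow_zero _)
    exact ⟨k, by rw [hi1, hj1, one_mul, one_mul]⟩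
  · rintro ⟨k, rfl⟩
    exact Subgroup.mem_center_iff.2 fun y => (((f.hz y).pow_left k).eq).symm

/-- An automorphism trivial modulo the centre is inner. -/
theorem mem_inn {α : MulAut D} (h₀ : f.x₀⁻¹ * α f.x₀ ∈ Subgroup.center D)
    (h₁ : f.x₁⁻¹ * α f.x₁ ∈ Subgroup.center D) : α ∈ Inn D := by
  obtain ⟨a, ha⟩ := f.mem_center_iff.1 h₀
  obtain ⟨b, hb⟩ := f.mem_center_iff.1 h₁
  set j := ((a : ZMod p) * (f.s : ZMod p)⁻¹).val
  set i := (-(b : ZMod p) * (f.s : ZMod p)⁻¹).val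
  refine ⟨f.x₁ ^ j * f.x₀ ^ i, ?_⟩
  have hle : (⊤ : Subgroup D) ≤
      (MulAut.conj (f.x₁ ^ j * f.x₀ ^ i)).toMonoidHom.eqLocus α.toMonoidHom := by
    rw [← f.hcl, Subgroup.closure_le]
    rintro x (rfl | rfl)
    · show f.x₁ ^ j * f.x₀ ^ i * f.x₀ * (f.x₁ ^ j * f.x₀ ^ i)⁻¹ = α f.x₀
      rw [inv_mul_eq_iff_eq_mul.1 ha, show f.x₁ ^ j * f.x₀ ^ i * f.x₀ * (f.x₁ ^ j * f.x₀ ^ i)⁻¹ =
        f.x₁ ^ j * (f.x₀ ^ i * f.x₀ * (f.x₀ ^ i)⁻¹) * (f.x₁ ^ j)⁻¹ by group,
        ((Commute.refl f.x₀).pow_left i).eq, mul_inv_cancel_right, f.conj_x₁_pow]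
      refine congrArg _ (pow_eq_of_cast f.hzp ?_)
      rw [Nat.cast_mul, ZMod.natCast_zmod_val, mul_left_comm, mul_inv_cancel₀ f.hs, mul_one]
    · show f.x₁ ^ j * f.x₀ ^ i * f.x₁ * (f.x₁ ^ j * f.x₀ ^ i)⁻¹ = α f.x₁
      rw [inv_mul_eq_iff_eq_mul.1 hb, show f.x₁ ^ j * f.x₀ ^ i * f.x₁ * (f.x₁ ^ j * f.x₀ ^ i)⁻¹ =
        f.x₁ ^ j * (f.x₀ ^ i * f.x₁ * (f.x₀ ^ i)⁻¹) * (f.x₁ ^ j)⁻¹ by group, f.conj_x₀_pow,
        show f.x₁ ^ j * ((f.z ^ (f.s * i))⁻¹ * f.x₁) * (f.x₁ ^ j)⁻¹ =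
          f.x₁ ^ j * (f.z ^ (f.s * i))⁻¹ * (f.x₁ ^ j)⁻¹ * f.x₁ by group,
        ← (((f.hz (f.x₁ ^ j)).pow_left _).inv_left).eq, mul_inv_cancel_right,
        (((f.hz f.x₁).pow_left _).inv_left).eq]
      refine congrArg _ (inv_eq_of_mul_eq_one_right ?_)
      rw [← pow_add]
      refine (pow_eq_of_cast f.hzp (b := 0) ?_).trans (pow_zero _)
      rw [Nat.cast_add, Nat.cast_mul, ZMod.natCast_zmod_val, mul_left_comm, mul_inv_cancel₀ f.hs,
        mul_one, neg_add_cancel, Nat.cast_zero]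
  exact MulEquiv.ext fun x => hle (Subgroup.mem_top x)

/-- The automorphisms act on the quotient by the centre. -/
def quotAut (D : Type v) [Group D] : MulAut D →* MulAut (D ⧸ Subgroup.center D) where
  toFun α := QuotientGroup.congr _ _ α (Subgroup.characteristic_iff_map_eq.1 inferInstance α)
  map_one' := MulEquiv.ext fun q => by induction q using QuotientGroup.induction_on; rfl
  map_mul' a b := MulEquiv.ext fun q => by induction q using QuotientGroup.induction_on; rfl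

theorem quotAut_mk (α : MulAut D) (d : D) :
    quotAut D α (QuotientGroup.mk d) = QuotientGroup.mk (α d) := rfl

include f

theorem mem_inn_of_quotAut {α : MulAut D} (h : quotAut D α = 1) : α ∈ Inn D := by
  refine f.mem_inn ?_ ?_ <;>
  · refine QuotientGroup.eq.1 ?_
    rw [← quotAut_mk, h]
    rfl

theorem quot_comm (x y : D ⧸ Subgroup.center D) : x * y = y * x := by
  induction x using QuotientGroup.induction_on with | _ a =>
  induction y using QuotientGroup.induction_on with | _ b =>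
  have hle : (⊤ : Subgroup D) ≤ (Subgroup.centralizer {(QuotientGroup.mk' (Subgroup.center D)) b}).comap
      (QuotientGroup.mk' (Subgroup.center D)) := by
    have hgen : ∀ u ∈ ({f.x₀, f.x₁} : Set D), ∀ v ∈ ({f.x₀, f.x₁} : Set D),
        Commute (QuotientGroup.mk' (Subgroup.center D) u) (QuotientGroup.mk' (Subgroup.center D) v) := by
      have h : Commute (QuotientGroup.mk' (Subgroup.center D) f.x₁)
          (QuotientGroup.mk' (Subgroup.center D) f.x₀) := by
        refine mul_inv_eq_iff_eq_mul.1 ?_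
        rw [← map_inv, ← map_mul, ← map_mul, f.rel, map_mul,
          (QuotientGroup.eq_one_iff _).2 (f.mem_center_iff.2 ⟨f.s, rfl⟩) |> fun e =>
            (show QuotientGroup.mk' (Subgroup.center D) (f.z ^ f.s) = 1 from e), mul_one]
      rintro u (rfl | rfl) v (rfl | rfl)
      exacts [Commute.refl _, h.symm, h, Commute.refl _]
    rw [← f.hcl, Subgroup.closure_le]
    intro u hu
    have hb : b ∈ Subgroup.closure ({f.x₀, f.x₁} : Set D) := f.hcl ▸ Subgroup.mem_top b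
    show QuotientGroup.mk' _ u ∈ Subgroup.centralizer _
    rw [Subgroup.mem_centralizer_singleton_iff]
    induction hb using Subgroup.closure_induction with
    | mem v hv => exact (hgen u hu v hv).eq
    | one => simp
    | mul v w _ _ hv hw => rw [map_mul]; exact (Commute.mul_right (show Commute _ _ from hv) hw).eq
    | inv v _ hv => rw [map_inv]; exact (show Commute _ _ from hv).inv_right.eq
  exact Subgroup.mem_centralizer_singleton_iff.1 (hle (Subgroup.mem_top a))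

theorem pow_mem_center (d : D) : d ^ p ∈ Subgroup.center D := by
  obtain ⟨i, j, k, rfl⟩ := f.exists_word d
  rw [← QuotientGroup.eq_one_iff, QuotientGroup.mk_pow, QuotientGroup.mk_mul, QuotientGroup.mk_mul,
    (show Commute _ _ from f.quot_comm _ _).mul_pow, (show Commute _ _ from f.quot_comm _ _).mul_pow,
    ← QuotientGroup.mk_pow, ← QuotientGroup.mk_pow, ← QuotientGroup.mk_pow, ← pow_mul, ← pow_mul,
    ← pow_mul, mul_comm i, mul_comm j, mul_comm k, pow_mul, pow_mul, pow_mul, f.hx₀p, f.hx₁p, f.hzp,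
    one_pow, one_pow, one_pow]
  simp

theorem quot_exp (x : D ⧸ Subgroup.center D) : x ^ p = 1 := by
  induction x using QuotientGroup.induction_on with | _ a =>
  rw [← QuotientGroup.mk_pow, QuotientGroup.eq_one_iff]
  exact f.pow_mem_center a

theorem card_quot [Finite D] : Nat.card (D ⧸ Subgroup.center D) = p ^ 2 := by
  set q := QuotientGroup.mk' (Subgroup.center D)
  have hc : Commute (q f.x₀) (q f.x₁) := f.quot_comm _ _
  have htop : Subgroup.closure ({q f.x₀, q f.x₁} : Set (D ⧸ Subgroup.center D)) = ⊤ := by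
    rw [← Set.image_pair, ← MonoidHom.map_closure, f.hcl,
      Subgroup.map_top_of_surjective _ (QuotientGroup.mk'_surjective _)]
  refine le_antisymm ?_ ?_
  · have hs : Function.Surjective
        (fun v : ZMod p × ZMod p => q f.x₀ ^ v.1.val * q f.x₁ ^ v.2.val) := by
      intro x
      obtain ⟨i, j, rfl⟩ := exists_pow_mul hc (f.quot_exp _) (f.quot_exp _)
        (htop.ge (Subgroup.mem_top x))
      exact ⟨(i, j), by
        show q f.x₀ ^ _ * q f.x₁ ^ _ = _
        rw [pow_eq_of_cast (f.quot_exp _) (b := i) (by rw [ZMod.natCast_zmod_val]),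
          pow_eq_of_cast (f.quot_exp (q f.x₁)) (b := j) (by rw [ZMod.natCast_zmod_val])]⟩
    refine (Nat.card_le_card_of_surjective _ hs).trans ?_
    simp [sq]
  · have h := sq_le_card (p := p) hc (f.quot_exp _) (f.quot_exp _) (fun e => ?_) (fun ⟨i, hi⟩ => ?_)
    · rwa [htop, Subgroup.card_top] at h
    · exact f.x₁_not_commute
        (Subgroup.mem_center_iff.1 ((QuotientGroup.eq_one_iff _).1 e) f.x₁)
    · have hm : (f.x₀ ^ i)⁻¹ * f.x₁ ∈ Subgroup.center D :=
        QuotientGroup.eq.1 (show q (f.x₀ ^ i) = q f.x₁ by rw [map_zpow]; exact hi)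
      refine f.x₁_not_commute ?_
      have h2 := ((Commute.refl f.x₀).zpow_left i).mul_left
        (show Commute ((f.x₀ ^ i)⁻¹ * f.x₁) f.x₀ from (Subgroup.mem_center_iff.1 hm f.x₀).symm)
      rwa [mul_inv_cancel_left] at h2

omit hp in
/-- Transport along an isomorphism. -/
def map {D' : Type*} [Group D'] (e : D ≃* D') : Frame p D' where
  x₀ := e f.x₀
  x₁ := e f.x₁
  z := e f.z
  s := f.s
  hz d := by rw [← e.apply_symm_apply d]; exact (f.hz _).map e
  hzp := by rw [← map_pow, f.hzp, map_one]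
  hx₀p := by rw [← map_pow, f.hx₀p, map_one]
  hx₁p := by rw [← map_pow, f.hx₁p, map_one]
  hs := f.hs
  rel := by rw [← map_inv, ← map_mul, ← map_mul, f.rel, map_mul, map_pow]
  hcl := by
    rw [← Set.image_pair, show (e : D → D') = e.toMonoidHom from rfl, ← MonoidHom.map_closure, f.hcl,
      Subgroup.map_top_of_surjective _ e.surjective]
  hz1 := fun h => f.hz1 (e.injective (h.trans (map_one e).symm))

theorem center_eq : Subgroup.center D = Subgroup.zpowers f.z := by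
  refine le_antisymm (fun x hx => ?_) (Subgroup.zpowers_le.2 (f.mem_center_iff.2 ⟨1, by rw [pow_one]⟩))
  obtain ⟨k, rfl⟩ := f.mem_center_iff.1 hx
  exact Subgroup.pow_mem _ (Subgroup.mem_zpowers _) k

theorem card_eq [Finite D] : Nat.card D = p ^ 3 := by
  rw [Subgroup.card_eq_card_quotient_mul_card_subgroup (Subgroup.center D), f.card_quot, f.center_eq,
    Nat.card_zpowers, orderOf_eq_prime f.hzp f.hz1]
  ring

theorem pow_eq_one (hodd : p ≠ 2) (d : D) : d ^ p = 1 := by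
  obtain ⟨i, j, k, rfl⟩ := f.exists_word d
  rw [(((f.hz (f.x₀ ^ i * f.x₁ ^ j)).pow_left k).symm).mul_pow, ← pow_mul, mul_comm k, pow_mul,
    f.hzp, one_pow, mul_one]
  set c := f.z ^ (f.s * j * i) with hc
  have hyx : f.x₁ ^ j * f.x₀ ^ i = c * f.x₀ ^ i * f.x₁ ^ j := by
    have h1 : (f.x₁ ^ j * f.x₀ * (f.x₁ ^ j)⁻¹) ^ i = (f.x₀ * f.z ^ (f.s * j)) ^ i :=
      congrArg (· ^ i) (f.conj_x₁_pow j)
    rw [conj_pow, (((f.hz f.x₀).pow_left _).symm).mul_pow, ← pow_mul,
      mul_inv_eq_iff_eq_mul] at h1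
    rw [h1, hc, ((f.hz (f.x₀ ^ i)).pow_left _).eq]
  obtain ⟨m, hm⟩ := hp.out.dvd_choose_self (two_ne_zero) (by have := hp.out.two_le; omega)
  have hpw : ∀ (x : D) (n : ℕ), x ^ p = 1 → (x ^ n) ^ p = 1 := fun x n hx => by
    rw [← pow_mul, mul_comm, pow_mul, hx, one_pow]
  rw [Grp.mul_pow_class_two hyx ((f.hz _).pow_left _) ((f.hz _).pow_left _) p, hm, pow_mul, hc,
    hpw _ _ f.hzp, hpw _ _ f.hx₀p, hpw _ _ f.hx₁p, one_pow, one_mul, one_mul]

/-- A frame on two generators modulo the centre. -/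
theorem exists_frame [Finite D] (hodd : p ≠ 2) {X₀ X₁ : D}
    (h0 : (QuotientGroup.mk X₀ : D ⧸ Subgroup.center D) ≠ 1)
    (hgen : ∀ q : D ⧸ Subgroup.center D, ∃ i j : ℕ,
      q = (QuotientGroup.mk X₀ : D ⧸ Subgroup.center D) ^ i * (QuotientGroup.mk X₁) ^ j) :
    ∃ g : Frame p D, g.x₀ = X₀ ∧ g.x₁ = X₁ ∧ g.z = f.z := by
  obtain ⟨k, hk⟩ : ∃ k : ℕ, X₁ * X₀ * X₁⁻¹ = X₀ * f.z ^ k := by
    have h : X₀⁻¹ * (X₁ * X₀ * X₁⁻¹) ∈ Subgroup.center D := by
      rw [← QuotientGroup.eq, QuotientGroup.mk_mul, QuotientGroup.mk_mul, QuotientGroup.mk_inv,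
        f.quot_comm (QuotientGroup.mk X₁) (QuotientGroup.mk X₀), mul_inv_cancel_right]
    obtain ⟨k, hk⟩ := f.mem_center_iff.1 h
    exact ⟨k, inv_mul_eq_iff_eq_mul.1 hk⟩
  have hall : ∀ d : D, ∃ i j l : ℕ, d = X₀ ^ i * X₁ ^ j * f.z ^ l := fun d => by
    obtain ⟨i, j, hij⟩ := hgen (QuotientGroup.mk d)
    rw [← QuotientGroup.mk_pow, ← QuotientGroup.mk_pow, ← QuotientGroup.mk_mul] at hij
    obtain ⟨l, hl⟩ := f.mem_center_iff.1 (QuotientGroup.eq.1 hij.symm)
    exact ⟨i, j, l, inv_mul_eq_iff_eq_mul.1 hl⟩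
  have hk0 : (k : ZMod p) ≠ 0 := by
    intro h
    rw [(pow_eq_of_cast f.hzp (b := 0) (by simpa using h)).trans (pow_zero _), mul_one] at hk
    have hc : Commute X₁ X₀ := mul_inv_eq_iff_eq_mul.1 hk
    refine h0 ((QuotientGroup.eq_one_iff _).2 (Subgroup.mem_center_iff.2 fun d => ?_))
    obtain ⟨i, j, l, rfl⟩ := hall d
    exact ((((Commute.refl X₀).pow_left i).mul_left (hc.pow_left j)).mul_left
      ((f.hz X₀).pow_left l)).eq
  refine ⟨⟨X₀, X₁, f.z, k, f.hz, f.hzp, f.pow_eq_one hodd _, f.pow_eq_one hodd _, hk0, hk,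
    ?_, f.hz1⟩, rfl, rfl, rfl⟩
  rw [eq_top_iff]
  intro d _
  set M := Subgroup.closure ({X₀, X₁} : Set D)
  have h0M : X₀ ∈ M := Subgroup.subset_closure (Or.inl rfl)
  have h1M : X₁ ∈ M := Subgroup.subset_closure (Or.inr rfl)
  have hzk : f.z ^ k ∈ M := by
    have := M.mul_mem (M.inv_mem h0M) (M.mul_mem (M.mul_mem h1M h0M) (M.inv_mem h1M))
    rwa [hk, inv_mul_cancel_left] at this
  obtain ⟨b, hb⟩ := exists_pow_eq f.hzp hk0
  have hzM : f.z ∈ M := hb ▸ M.pow_mem hzk b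
  obtain ⟨i, j, l, rfl⟩ := hall d
  exact M.mul_mem (M.mul_mem (M.pow_mem h0M i) (M.pow_mem h1M j)) (M.pow_mem hzM l)

end Frame

end Cfsg.Agent.Fus.RankTwo
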