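import Cfsg.Agent.Lib.Fus.OrthFlagTwo

/-!
The stabiliser of a singular flag over the field with two elements meets each conjugate non-trivially:
a root element fixes two flags that are not opposite, a swap two opposite ones.
-/

set_option autoImplicit false

namespace Cfsg.Agent.Fus.OrthFlagTwo

open Matrix Cfsg.Agent.Fus.Siegel
open scoped Pointwise

variable {F : Type*} [Field F] [Fintype F] {m : ℕ}

local notation "V" => (Fin m ⊕ Fin m → F)
local notation "Q" => Cfsg.quadFormPlus m F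
local notation "GF" => (Cfsg.isometryGroup F (Cfsg.quadFormPlus m F))
local notation "Mm" => Matrix (Fin m ⊕ Fin m) (Fin m ⊕ Fin m) F

omit [Fintype F] in
/-- A root element as an isometry. -/
theorem exists_root (h2 : (1 : F) + 1 = 0) {p r : V} (h : Good p r) :
    ∃ y : GF, mat y = S p r 1 ∧ y ≠ 1 := by
  have hinv : S p r 1 * S p r 1 = (1 : Mm) := by rw [S_mul h, h2, S_zero]
  let u : GL (Fin m ⊕ Fin m) F := ⟨S p r 1, S p r 1, hinv, hinv⟩
  refine ⟨⟨u, fun v _ => Q_S h 1 v⟩, rfl, fun e => ?_⟩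
  obtain ⟨s, t, hs1, hs2, -, -⟩ := h.dual
  have h1 : S p r 1 *ᵥ s = s := by
    have := congrArg (fun g : GF => mat g *ᵥ s) e
    simp only [mat_one, one_mulVec] at this
    exact this
  rw [S_mulVec, hs1, hs2, one_smul, one_smul, zero_smul, sub_zero, add_eq_left] at h1
  exact h.ne_right h1

omit [Fintype F] in
theorem root_stable {i₀ : ℕ} {a b : V} (ha : a ∈ (Pflag i₀ : Submodule F V))
    (hb : b ∈ (Perp i₀ : Submodule F V)) {i : ℕ} {u : V} (hu : u ∈ (Pflag i : Submodule F V)) :
    B u a • b - B u b • a ∈ (Pflag i : Submodule F V) := by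
  rw [B_of_Pflag hu (Pflag_le_Perp i₀ i ha), zero_smul, zero_sub]
  refine neg_mem ?_
  rcases le_or_gt i i₀ with h | h
  · rw [B_of_Pflag (Pflag_mono h hu) hb, zero_smul]
    exact zero_mem _
  · exact Submodule.smul_mem _ _ (Pflag_mono h.le ha)

theorem root_mem {p r : V} {y : GF} (hy : mat y = S p r 1) {x : GF} {i₀ : ℕ}
    (h : (mat x⁻¹ *ᵥ p ∈ (Pflag i₀ : Submodule F V) ∧ mat x⁻¹ *ᵥ r ∈ (Perp i₀ : Submodule F V)) ∨
      (mat x⁻¹ *ᵥ r ∈ (Pflag i₀ : Submodule F V) ∧ mat x⁻¹ *ᵥ p ∈ (Perp i₀ : Submodule F V))) :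
    x⁻¹ * y * x ∈ flagStab := by
  intro i _ u hu
  have e : mat (x⁻¹ * y * x) *ᵥ u =
      u + (B u (mat x⁻¹ *ᵥ p) • (mat x⁻¹ *ᵥ r) - B u (mat x⁻¹ *ᵥ r) • (mat x⁻¹ *ᵥ p)) := by
    have hB : ∀ w, B (mat x *ᵥ u) w = B u (mat x⁻¹ *ᵥ w) := fun w => by
      rw [← B_mat x u, mat_mulVec_inv]
    rw [mat_mul, mat_mul, hy, ← mulVec_mulVec, ← mulVec_mulVec, S_mulVec, one_smul,
      Matrix.mulVec_add, mat_inv_mulVec, Matrix.mulVec_sub, Matrix.mulVec_smul, Matrix.mulVec_smul,
      hB, hB]
  rw [e]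
  refine add_mem hu ?_
  rcases h with ⟨h1, h2⟩ | ⟨h1, h2⟩
  · exact root_stable h1 h2 hu
  · rw [← neg_sub]; exact neg_mem (root_stable h1 h2 hu)

variable (hF : Fintype.card F = 2)

/-- The pairing matrix of the first `i` steps of the two flags. -/
def pairing (x : GF) {i : ℕ} (hi : i ≤ m) : Matrix (Fin i) (Fin i) F :=
  Matrix.of fun j l => B (ex (Fin.castLE hi j)) (mat x *ᵥ ex (Fin.castLE hi l))

omit [Fintype F] in
theorem B_sum_right {ι : Type*} (s : Finset ι) (u : V) (c : ι → F) (w : ι → V) :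
    B u (∑ i ∈ s, c i • w i) = ∑ i ∈ s, c i * B u (w i) := by
  classical
  induction s using Finset.induction_on with
  | empty => rw [Finset.sum_empty, Finset.sum_empty, B_comm, B_zero_left]
  | insert i s hi ih =>
    rw [Finset.sum_insert hi, Finset.sum_insert hi, B_add_right, B_smul_right, ih]

omit [Fintype F] in
theorem B_sum_left {ι : Type*} (s : Finset ι) (u : V) (c : ι → F) (w : ι → V) :
    B (∑ i ∈ s, c i • w i) u = ∑ i ∈ s, c i * B (w i) u := by
  rw [B_comm, B_sum_right]
  simp only [B_comm u]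

omit [Fintype F] in
theorem sum_ex_mem {i : ℕ} (hi : i ≤ m) (c : Fin i → F) :
    ∑ l, c l • ex (Fin.castLE hi l) ∈ (Pflag i : Submodule F V) :=
  sum_mem fun l _ => Submodule.smul_mem _ _ (Pflag_mono (by simp) (ex_mem _))

omit [Fintype F] in
theorem sum_ex_apply {i : ℕ} (hi : i ≤ m) (c : Fin i → F) (l : Fin i) :
    (∑ t, c t • ex (Fin.castLE hi t) : V) (Sum.inl (Fin.castLE hi l)) = c l := by
  rw [Finset.sum_apply, Finset.sum_eq_single l]
  · simp [ex]
  · intro t _ ht
    have hne : (Sum.inl (Fin.castLE hi l) : Fin m ⊕ Fin m) ≠ Sum.inl (Fin.castLE hi t) := fun e =>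
      ht (Fin.castLE_injective hi (Sum.inl_injective e)).symm
    simp [ex, Pi.single_eq_of_ne hne]
  · simp

include hF

theorem meet_of_singular (x : GF) {i : ℕ} (hi : i < m)
    (hdet : (pairing x hi.le).det = 0) :
    ∃ y : GF, y ≠ 1 ∧ y ∈ flagStab ∧ x⁻¹ * y * x ∈ flagStab := by
  classical
  have h2 := two_eq_zero hF
  -- one vector of the first space orthogonal to the second, one conversely
  obtain ⟨d, hd0, hd⟩ := Matrix.exists_vecMul_eq_zero_iff.2 hdet
  obtain ⟨c, hc0, hc⟩ := Matrix.exists_mulVec_eq_zero_iff.2 hdet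
  obtain ⟨v, hv⟩ : ∃ v : V, v = ∑ j, d j • ex (Fin.castLE hi.le j) := ⟨_, rfl⟩
  obtain ⟨w', hw'⟩ : ∃ w' : V, w' = ∑ l, c l • ex (Fin.castLE hi.le l) := ⟨_, rfl⟩
  have hvP : v ∈ (Pflag i : Submodule F V) := hv ▸ sum_ex_mem _ _
  have hwP : w' ∈ (Pflag i : Submodule F V) := hw' ▸ sum_ex_mem _ _
  have hv0 : v ≠ 0 := fun e => hd0 (funext fun j => by
    rw [← sum_ex_apply hi.le d j, ← hv, e]; rfl)
  have hw0 : w' ≠ 0 := fun e => hc0 (funext fun j => by
    rw [← sum_ex_apply hi.le c j, ← hw', e]; rfl)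
  have hvW : mat x⁻¹ *ᵥ v ∈ (Perp i : Submodule F V) := fun r hr => by
    rw [← B_ex_left r (mat x⁻¹ *ᵥ v), ← B_mat x, mat_mulVec_inv, hv, B_sum_right]
    have := congrFun hd ⟨r, hr⟩
    simp only [Matrix.vecMul, dotProduct, pairing, Matrix.of_apply, Pi.zero_apply] at this
    rw [← this]
    refine Finset.sum_congr rfl fun t _ => ?_
    rw [B_comm (mat x *ᵥ ex r)]
    rfl
  have hwW : mat x *ᵥ w' ∈ (Perp i : Submodule F V) := fun r hr => by
    rw [← B_ex_left r (mat x *ᵥ w'), hw', Matrix.mulVec_sum]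
    simp only [Matrix.mulVec_smul]
    rw [B_sum_right]
    have := congrFun hc ⟨r, hr⟩
    simp only [Matrix.mulVec, dotProduct, pairing, Matrix.of_apply, Pi.zero_apply] at this
    rw [← this]
    exact Finset.sum_congr rfl fun t _ => mul_comm _ _
  by_cases hcap : ∃ z ∈ (Pflag i : Submodule F V), z ≠ 0 ∧ mat x⁻¹ *ᵥ z ∈ (Pflag i : Submodule F V)
  · -- the two spaces meet
    obtain ⟨z, hz, hz0, hzW⟩ := hcap
    obtain ⟨r, hr⟩ : ∃ r, z (Sum.inl r) ≠ 0 := by
      by_contra hcon
      push Not at hcon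
      exact hz0 (funext fun t => by rcases t with t | t; exacts [hcon t, hz.1 t])
    obtain ⟨z', hz'⟩ : ∃ z', z' = mat x⁻¹ *ᵥ z := ⟨_, rfl⟩
    rw [← hz'] at hzW
    have hxz : mat x *ᵥ z' = z := by rw [hz', mat_mulVec_inv]
    obtain ⟨l₀, hl₀⟩ : ∃ l₀ : Fin i, z' (Sum.inl (Fin.castLE hi.le l₀)) ≠ 0 := by
      by_contra hcon
      push Not at hcon
      refine hz0 ?_
      rw [← hxz, show z' = 0 from funext fun t => ?_, Matrix.mulVec_zero]
      rcases t with t | t
      · rcases Nat.lt_or_ge (t : ℕ) i with h | h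
        · exact hcon ⟨t, h⟩
        · exact hzW.2 t h
      · exact hzW.1 t
    let A : (Fin m → F) →ₗ[F] (Fin i → F) :=
      LinearMap.pi fun l => if l = l₀ then LinearMap.proj r else
        { toFun := fun a => B (∑ j, a j • ex j : V) (mat x *ᵥ ex (Fin.castLE hi.le l))
          map_add' := fun a b => by
            rw [← B_add_left]; congr 1; simp [add_smul, Finset.sum_add_distrib]
          map_smul' := fun a b => by
            rw [RingHom.id_apply, smul_eq_mul, ← B_smul_left]; congr 1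
            simp [Finset.smul_sum, smul_smul] }
    obtain ⟨a, ha, ha0⟩ := Submodule.exists_mem_ne_zero_of_ne_bot
      (LinearMap.ker_ne_bot_of_finrank_lt (f := A) (by simpa using hi))
    rw [LinearMap.mem_ker] at ha
    obtain ⟨w, hw⟩ : ∃ w : V, w = ∑ j, a j • ex j := ⟨_, rfl⟩
    have hwM : w ∈ (Pflag m : Submodule F V) :=
      hw ▸ sum_mem fun j _ => Submodule.smul_mem _ _ (Pflag_mono (show (j : ℕ) + 1 ≤ m from j.2) (ex_mem j))
    have hwa : ∀ j, w (Sum.inl j) = a j := fun j => by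
      rw [hw, Finset.sum_apply, Finset.sum_eq_single j]
      · simp [ex]
      · intro t _ ht
        have hne : (Sum.inl j : Fin m ⊕ Fin m) ≠ Sum.inl t := fun e => ht (Sum.inl_injective e).symm
        simp [ex, Pi.single_eq_of_ne hne]
      · simp
    have har : a r = 0 := by
      have := congrFun ha l₀
      simpa [A] using this
    have hwl : ∀ l, l ≠ l₀ → B w (mat x *ᵥ ex (Fin.castLE hi.le l)) = 0 := fun l hl => by
      have := congrFun ha l
      simp only [A, LinearMap.pi_apply, if_neg hl, LinearMap.coe_mk, AddHom.coe_mk, Pi.zero_apply] at this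
      rw [hw]; exact this
    have hwx : ∀ u, B w (mat x *ᵥ u) = B (mat x⁻¹ *ᵥ w) u := fun u => by
      rw [← B_mat x (mat x⁻¹ *ᵥ w) u, mat_mulVec_inv]
    have hall : ∀ l : Fin i, B w (mat x *ᵥ ex (Fin.castLE hi.le l)) = 0 := by
      intro l
      by_cases hl : l = l₀
      · subst hl
        have hBz : B w (mat x *ᵥ z') = 0 := by
          rw [hxz]; exact B_of_Pflag hwM (Pflag_le_Perp _ _ hz)
        have e : z' = ∑ t : Fin i, z' (Sum.inl (Fin.castLE hi.le t)) • ex (Fin.castLE hi.le t) := by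
          funext t
          rcases t with t | t
          · rcases Nat.lt_or_ge (t : ℕ) i with h | h
            · exact (sum_ex_apply hi.le (fun t => z' (Sum.inl (Fin.castLE hi.le t))) ⟨t, h⟩).symm
            · rw [hzW.2 t h, ((sum_ex_mem hi.le _).2 t h)]
          · rw [hzW.1 t, ((sum_ex_mem hi.le _).1 t)]
        rw [e, Matrix.mulVec_sum] at hBz
        simp only [Matrix.mulVec_smul] at hBz
        rw [B_sum_right, Finset.sum_eq_single l (fun t _ ht => by rw [hwl t ht, mul_zero]) (by simp)]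
          at hBz
        exact (mul_eq_zero.1 hBz).resolve_left hl₀
      · exact hwl l hl
    have hgood : Good z w := by
      refine ⟨hz0, fun k e => ?_, Q_Pflag hz, Q_Pflag hwM, B_of_Pflag hz (Pflag_le_Perp _ _ hwM)⟩
      have h1 := congrFun e (Sum.inl r)
      rw [hwa, har, Pi.smul_apply, smul_eq_mul, eq_comm, mul_eq_zero] at h1
      rw [h1.resolve_right hr, zero_smul] at e
      exact ha0 (funext fun j => by rw [← hwa, e]; rfl)
    obtain ⟨y, hy, hy1⟩ := exists_root h2 hgood
    refine ⟨y, hy1, ?_, root_mem hy (Or.inl ⟨hz' ▸ hzW, fun t ht => ?_⟩)⟩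
    · have := root_mem hy (x := 1) (i₀ := i) (Or.inl
        ⟨by rwa [inv_one, mat_one, one_mulVec],
          by rw [inv_one, mat_one, one_mulVec]; exact Pflag_le_Perp _ _ hwM⟩)
      simpa using this
    · rw [← B_ex_left t (mat x⁻¹ *ᵥ w), B_comm, ← hwx]
      exact hall ⟨t, ht⟩
  · push Not at hcap
    have hgood : Good v (mat x *ᵥ w') := by
      refine ⟨hv0, fun k e => ?_, Q_Pflag hvP, by rw [Q_mat]; exact Q_Pflag hwP,
        B_of_Pflag hvP hwW⟩
      have hxw : mat x *ᵥ w' ≠ 0 := fun e' => hw0 (by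
        rw [← mat_inv_mulVec x w', e', Matrix.mulVec_zero])
      refine hcap _ (e ▸ Submodule.smul_mem _ k hvP) hxw ?_
      rwa [mat_inv_mulVec]
    obtain ⟨y, hy, hy1⟩ := exists_root h2 hgood
    refine ⟨y, hy1, ?_, root_mem hy (Or.inr ⟨by rwa [mat_inv_mulVec], hvW⟩)⟩
    have := root_mem hy (x := 1) (i₀ := i) (Or.inl
      ⟨by rwa [inv_one, mat_one, one_mulVec], by rwa [inv_one, mat_one, one_mulVec]⟩)
    simpa using this

omit hF [Fintype F] in
/-- An isometry from a hyperbolic basis. -/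
theorem exists_isometry (col : Fin m ⊕ Fin m → V) (hQ : ∀ s, Q (col s) = 0)
    (hG : ∀ s t, B (col s) (col t) = if t = s.swap then 1 else 0) :
    ∃ k : GF, ∀ s, mat k *ᵥ Pi.single s 1 = col s := by
  classical
  let M : Mm := Matrix.of fun i j => col j i
  have hM : ∀ v : V, M *ᵥ v = ∑ s, v s • col s := fun v => by
    funext i
    simp [M, Matrix.mulVec, dotProduct, mul_comm]
  have hsingle : ∀ v : V, v = ∑ s, v s • (Pi.single s 1 : V) := fun v => by
    funext i
    simp [Finset.sum_apply, Pi.single_apply]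
  have hB : ∀ v w, B (M *ᵥ v) (M *ᵥ w) = B v w := fun v w => by
    rw [hM, hM, B_sum_left]
    simp only [B_sum_right, hG, mul_ite, mul_one, mul_zero, Finset.sum_ite_eq', Finset.mem_univ,
      if_true]
    simp only [B, bar, dotProduct]
    exact Finset.sum_congr rfl fun s _ => mul_comm _ _
  have hQM : ∀ v, Q (M *ᵥ v) = Q v := by
    intro v
    rw [hM]
    conv_rhs => rw [hsingle v]
    suffices h : ∀ S : Finset (Fin m ⊕ Fin m),
        Q (∑ s ∈ S, v s • col s) = Q (∑ s ∈ S, v s • (Pi.single s 1 : V)) from h _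
    intro S
    induction S using Finset.induction_on with
    | empty => rw [Finset.sum_empty, Finset.sum_empty]
    | insert s T hs ih =>
      rw [Finset.sum_insert hs, Finset.sum_insert hs, Q_add, Q_add, ih, Q_smul, Q_smul, hQ,
        B_smul_left, B_smul_left, B_sum_right, B_sum_right]
      congr 2
      · have h0 : Q (Pi.single s 1 : V) = 0 := by
          refine Finset.sum_eq_zero fun r _ => ?_
          rcases s with s | s <;> simp [Pi.single_apply]
        rw [h0]
      · refine Finset.sum_congr rfl fun t _ => ?_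
        rw [hG]
        congr 1
        simp only [B, bar, dotProduct, Pi.single_apply, mul_ite, mul_one, mul_zero,
          Finset.sum_ite_eq', Finset.mem_univ, if_true]
        by_cases h : t = s.swap
        · subst h; simp
        · rw [if_neg h, if_neg (Ne.symm h)]
  have hdet : IsUnit M.det := by
    rw [isUnit_iff_ne_zero]
    intro h0
    obtain ⟨v, hv0, hv⟩ := Matrix.exists_mulVec_eq_zero_iff.2 h0
    refine hv0 (eq_zero_of_B fun w => ?_)
    rw [← hB, hv, B_comm, B_zero_left]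
  refine ⟨⟨Matrix.GeneralLinearGroup.mk'' M hdet, fun u _ => hQM u⟩, fun s => ?_⟩
  show M *ᵥ Pi.single s 1 = col s
  funext i
  simp [M, Matrix.mulVec_single]

theorem meet_of_opposite (hm : 2 ≤ m) (x : GF)
    (hop : ∀ i, ∀ hi : i < m, (pairing x hi.le).det ≠ 0) :
    ∃ y : GF, y ≠ 1 ∧ y ∈ flagStab ∧ x⁻¹ * y * x ∈ flagStab := by
  classical
  obtain ⟨l, hl⟩ : ∃ l : Fin m, (l : ℕ) = m - 1 := ⟨⟨m - 1, by omega⟩, rfl⟩
  -- the dual vectors in the second flag
  have hex : ∀ i : Fin m, ∃ u : V, i < l → u ∈ (Pflag ((i : ℕ) + 1) : Submodule F V) ∧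
      ∀ j : Fin m, j ≤ i → B (ex j) (mat x *ᵥ u) = if j = i then 1 else 0 := by
    intro i
    by_cases hil : i < l
    · have hlt : (i : ℕ) + 1 < m := by
        have : (i : ℕ) < (l : ℕ) := hil
        omega
      obtain ⟨c, hc⟩ := Matrix.mulVec_surjective_iff_isUnit.2
        ((Matrix.isUnit_iff_isUnit_det _).2 (isUnit_iff_ne_zero.2 (hop _ hlt)))
        (Pi.single ⟨i, Nat.lt_succ_self _⟩ 1)
      refine ⟨∑ t, c t • ex (Fin.castLE hlt.le t), fun _ => ⟨sum_ex_mem _ _, fun j hj => ?_⟩⟩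
      have h := congrFun hc ⟨j, Nat.lt_succ_of_le hj⟩
      rw [Matrix.mulVec_sum]
      simp only [Matrix.mulVec_smul]
      rw [B_sum_right]
      simp only [Matrix.mulVec, dotProduct, pairing, Matrix.of_apply] at h
      rw [Pi.single_apply] at h
      simp only [Fin.ext_iff] at h ⊢
      rw [← h]
      exact Finset.sum_congr rfl fun t _ => mul_comm _ _
    · exact ⟨0, fun h => absurd h hil⟩
  choose u hu using hex
  obtain ⟨f, hf⟩ : ∃ f : Fin m → V, f = fun i => mat x *ᵥ u i := ⟨_, rfl⟩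
  have hfM : ∀ i, i < l → mat x⁻¹ *ᵥ f i ∈ (Pflag m : Submodule F V) := fun i hi => by
    rw [hf, mat_inv_mulVec]
    exact Pflag_mono i.2 (hu i hi).1
  have hfd : ∀ i, i < l → ∀ j : Fin m, j ≤ i → B (ex j) (f i) = if j = i then 1 else 0 :=
    fun i hi j hj => by rw [hf]; exact (hu i hi).2 j hj
  have hfQ : ∀ i, i < l → Q (f i) = 0 := fun i hi => by
    rw [hf, Q_mat]; exact Q_Pflag (hu i hi).1
  have hff : ∀ i j, i < l → j < l → B (f i) (f j) = 0 := fun i j hi hj => by
    rw [hf, B_mat]; exact B_of_Pflag (hu i hi).1 (Pflag_le_Perp _ _ (hu j hj).1)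
  -- the dual vectors in the first flag
  have hX : ∀ n (i : Fin m), (i : ℕ) = n → i < l → ∃ X : V,
      X ∈ (Pflag ((i : ℕ) + 1) : Submodule F V) ∧ ∀ j, j < l → B X (f j) = if i = j then 1 else 0 := by
    intro n
    induction n using Nat.strong_induction_on with
    | _ n IH =>
      intro i hin hil
      have hY : ∀ t : Fin m, ∃ X : V, t < i → X ∈ (Pflag ((t : ℕ) + 1) : Submodule F V) ∧
          ∀ j, j < l → B X (f j) = if t = j then 1 else 0 := fun t => by
        by_cases ht : t < i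
        · obtain ⟨X, hX⟩ := IH t (hin ▸ ht) t rfl (ht.trans hil)
          exact ⟨X, fun _ => hX⟩
        · exact ⟨0, fun h => absurd h ht⟩
      choose Y hY using hY
      refine ⟨ex i - ∑ t ∈ Finset.univ.filter (· < i), B (ex i) (f t) • Y t, sub_mem (ex_mem i)
        (sum_mem fun t ht => Submodule.smul_mem _ _ ?_), fun j hj => ?_⟩
      · have ht' : t < i := (Finset.mem_filter.1 ht).2
        exact Pflag_mono (by have : (t : ℕ) < (i : ℕ) := ht'; omega) (hY t ht').1
      · rw [B_sub_left, B_sum_left, Finset.sum_congr rfl (fun t ht =>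
          show _ = B (ex i) (f t) * (if t = j then 1 else 0) by
            rw [(hY t (Finset.mem_filter.1 ht).2).2 j hj])]
        simp only [mul_ite, mul_one, mul_zero, Finset.sum_ite_eq', Finset.mem_filter, Finset.mem_univ,
          true_and]
        by_cases hji : j < i
        · rw [if_pos hji, sub_self, if_neg (fun e => (e ▸ hji).false)]
        · rw [if_neg hji, sub_zero, hfd j hj i (not_lt.1 hji)]
  have hX' : ∀ i : Fin m, ∃ X : V, i < l → X ∈ (Pflag ((i : ℕ) + 1) : Submodule F V) ∧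
      ∀ j, j < l → B X (f j) = if i = j then 1 else 0 := fun i => by
    by_cases hi : i < l
    · obtain ⟨X, h⟩ := hX _ i rfl hi
      exact ⟨X, fun _ => h⟩
    · exact ⟨0, fun h => absurd h hi⟩
  choose X hXp using hX'
  obtain ⟨S', hS'⟩ : ∃ S' : Finset (Fin m), S' = Finset.univ.filter (· < l) := ⟨_, rfl⟩
  have hmemS : ∀ t, t ∈ S' ↔ t < l := fun t => by simp [hS']
  have hXM : ∀ t ∈ S', X t ∈ (Pflag (m - 1) : Submodule F V) := fun t ht => by
    have h := (hmemS t).1 ht
    exact Pflag_mono (by have : (t : ℕ) < (l : ℕ) := h; omega) (hXp t h).1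
  obtain ⟨Xl, hXl⟩ : ∃ Xl : V, Xl = ex l - ∑ t ∈ S', B (ex l) (f t) • X t := ⟨_, rfl⟩
  obtain ⟨Yl, hYl⟩ : ∃ Yl : V, Yl = ey l - ∑ t ∈ S', B (ey l) (f t) • X t := ⟨_, rfl⟩
  have hlperp : ∀ t ∈ S', B (X t) (ex l) = 0 ∧ B (X t) (ey l) = 0 := fun t ht =>
    ⟨B_of_Pflag (hXM t ht) (fun r _ => by simp [ex]),
      B_of_Pflag (hXM t ht) (fun r hr => by
        have hne : (Sum.inr r : Fin m ⊕ Fin m) ≠ Sum.inr l := fun e => by
          have := congrArg Fin.val (Sum.inr_injective e); omega
        simp [ey, Pi.single_eq_of_ne hne])⟩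
  have hXX : ∀ s ∈ S', ∀ t ∈ S', B (X s) (X t) = 0 := fun s hs t ht =>
    B_of_Pflag (hXM s hs) (Pflag_le_Perp _ _ (hXM t ht))
  have hproj : ∀ (e : V), ∀ j, j < l → B (e - ∑ t ∈ S', B e (f t) • X t) (f j) = 0 := fun e j hj => by
    rw [B_sub_left, B_sum_left, Finset.sum_congr rfl (fun t ht =>
      show _ = B e (f t) * (if t = j then 1 else 0) by rw [(hXp t ((hmemS t).1 ht)).2 j hj])]
    simp only [mul_ite, mul_one, mul_zero, Finset.sum_ite_eq', if_pos ((hmemS j).2 hj), sub_self]
  have hXlM : Xl ∈ (Pflag m : Submodule F V) :=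
    hXl ▸ sub_mem (Pflag_mono l.2 (ex_mem l))
      (sum_mem fun t ht => Submodule.smul_mem _ _ (Pflag_mono (Nat.sub_le m 1) (hXM t ht)))
  have hsumQ : ∀ (c : Fin m → F), ∑ t ∈ S', c t • X t ∈ (Pflag (m - 1) : Submodule F V) := fun c =>
    sum_mem fun t ht => Submodule.smul_mem _ _ (hXM t ht)
  have heyperp : (ey l : V) ∈ (Perp (m - 1) : Submodule F V) := fun r hr => by
    have hne : (Sum.inr r : Fin m ⊕ Fin m) ≠ Sum.inr l := fun e => by
      have := congrArg Fin.val (Sum.inr_injective e); omega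
    simp [ey, Pi.single_eq_of_ne hne]
  have hYQ : Q Yl = 0 := by
    rw [hYl, sub_eq_add_neg, Q_add, Q_Pflag (neg_mem (hsumQ _)), B_neg_right, B_comm,
      B_of_Pflag (hsumQ _) heyperp, neg_zero, add_zero, add_zero]
    exact Finset.sum_eq_zero fun r _ => by simp [ey]
  have hXlX : ∀ t ∈ S', B Xl (X t) = 0 ∧ B Yl (X t) = 0 := fun t ht => by
    rw [hXl, hYl, B_sub_left, B_sub_left, B_comm (ex l), (hlperp t ht).1, B_comm (ey l),
      (hlperp t ht).2, B_sum_left, B_sum_left,
      Finset.sum_eq_zero (fun s hs => by rw [hXX s hs t ht, mul_zero]),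
      Finset.sum_eq_zero (fun s hs => by rw [hXX s hs t ht, mul_zero])]
    simp
  have hXlYl : B Xl Yl = 1 := by
    rw [hYl, B_sub_right, B_sum_right,
      Finset.sum_eq_zero (fun t ht => by rw [(hXlX t ht).1, mul_zero]), sub_zero, hXl, B_sub_left,
      B_sum_left, Finset.sum_eq_zero (fun t ht => by rw [(hlperp t ht).2, mul_zero]), sub_zero,
      B_ex_left]
    simp [ey]
  have hle : ∀ i : Fin m, l = i ∨ i < l := fun i => by
    rcases lt_trichotomy i l with h | h | h
    · exact Or.inr h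
    · exact Or.inl h.symm
    · exact absurd (show (l : ℕ) < (i : ℕ) from h) (by omega)
  obtain ⟨col, hcol⟩ : ∃ col : Fin m ⊕ Fin m → V,
      col = Sum.elim (fun i => if i = l then Xl else X i) (fun i => if i = l then Yl else f i) :=
    ⟨_, rfl⟩
  have hBself : ∀ v : V, Q v = 0 → B v v = 0 := fun v hv => by rw [B_self, hv, mul_zero]
  obtain ⟨k, hk⟩ := exists_isometry col (fun s => by
    rw [hcol]
    rcases s with s | s <;> rcases hle s with rfl | hs
    · simp only [Sum.elim_inl, if_true]; exact Q_Pflag hXlM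
    · simp only [Sum.elim_inl, if_neg hs.ne]; exact Q_Pflag (hXp s hs).1
    · simp only [Sum.elim_inr, if_true]; exact hYQ
    · simp only [Sum.elim_inr, if_neg hs.ne]; exact hfQ s hs) (fun s t => by
    rw [hcol]
    rcases s with s | s <;> rcases hle s with rfl | hs <;> rcases t with t | t <;>
      rcases hle t with rfl | ht
    · simpa using hBself _ (Q_Pflag hXlM)
    · simpa [ht.ne] using (hXlX t ((hmemS t).2 ht)).1
    · simpa using hXlYl
    · simpa [ht.ne] using (hXl ▸ hproj (ex l) t ht : B Xl (f t) = 0)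
    · simpa [hs.ne] using (B_comm _ _).trans (hXlX s ((hmemS s).2 hs)).1
    · simpa [hs.ne, ht.ne] using hXX s ((hmemS s).2 hs) t ((hmemS t).2 ht)
    · simpa [hs.ne, hs.ne'] using (B_comm _ _).trans (hXlX s ((hmemS s).2 hs)).2
    · simp [hs.ne, ht.ne]; rw [(hXp s hs).2 t ht]; simp [eq_comm]
    · simpa [B_comm Yl] using hXlYl
    · simpa [ht.ne] using (hXlX t ((hmemS t).2 ht)).2
    · simpa using hBself _ hYQ
    · simpa [ht.ne] using (hYl ▸ hproj (ey l) t ht : B Yl (f t) = 0)
    · simpa [hs.ne, hs.ne'] using (B_comm _ _).trans (hXl ▸ hproj (ex l) s hs : B Xl (f s) = 0)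
    · simp [hs.ne, ht.ne]; rw [B_comm, (hXp t ht).2 s hs]
    · simpa [hs.ne] using (B_comm _ _).trans (hYl ▸ hproj (ey l) s hs : B Yl (f s) = 0)
    · simpa [hs.ne, ht.ne] using hff s t hs ht)
  have hk1 : ∀ i, i < l → mat k *ᵥ ex i = X i ∧ mat k *ᵥ ey i = f i := fun i hi => by
    rw [ex, ey, hk, hk, hcol]
    simp [hi.ne]
  have hkK : k ∈ flagStab := fun i hi v hv => by
    have : v ∈ (Pflag i : Submodule F V).comap (Matrix.mulVecLin (mat k)) := span_Pflag hv fun j hj => by
      have hjl : j < l := Fin.lt_def.2 (by omega)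
      show mat k *ᵥ ex j ∈ (Pflag i : Submodule F V)
      rw [(hk1 j hjl).1]
      exact Pflag_mono hj (hXp j hjl).1
    exact this
  -- the swap
  obtain ⟨τ, hτ⟩ := exists_isometry (fun s => (Pi.single (Equiv.swap (Sum.inl l) (Sum.inr l) s) 1 : V))
    (fun s => Finset.sum_eq_zero fun r _ => by
      rcases Equiv.swap (Sum.inl l) (Sum.inr l) s with a | a <;> simp [Pi.single_apply])
    (fun s t => by
      simp only [B, bar, dotProduct, Pi.single_apply, mul_ite, mul_one, mul_zero, Finset.sum_ite_eq',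
        Finset.mem_univ, if_true]
      have : ∀ a : Fin m ⊕ Fin m, Equiv.swap (Sum.inl l) (Sum.inr l) a.swap =
          (Equiv.swap (Sum.inl l) (Sum.inr l) a).swap := by
        rintro (a | a) <;> by_cases h : a = l
        · subst h; simp
        · simp [Equiv.swap_apply_of_ne_of_ne, h]
        · subst h; simp
        · simp [Equiv.swap_apply_of_ne_of_ne, h]
      by_cases h : t = s.swap
      · subst h; rw [if_pos rfl, if_pos]; rw [this]
      · rw [if_neg h, if_neg]
        intro e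
        apply h
        apply (Equiv.swap (Sum.inl l) (Sum.inr l)).injective
        rw [this, ← e])
  have hτfix : ∀ i, i < l → mat τ *ᵥ ex i = ex i ∧ mat τ *ᵥ ey i = ey i := fun i hi => by
    rw [ex, ey, hτ, hτ]
    simp [Equiv.swap_apply_of_ne_of_ne, hi.ne]
  have hτK : τ ∈ flagStab := fun i hi v hv => by
    have : v ∈ (Pflag i : Submodule F V).comap (Matrix.mulVecLin (mat τ)) := span_Pflag hv fun j hj => by
      have hjl : j < l := Fin.lt_def.2 (by omega)
      show mat τ *ᵥ ex j ∈ (Pflag i : Submodule F V)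
      rw [(hτfix j hjl).1]
      exact Pflag_mono hj (ex_mem j)
    exact this
  have hτ1 : τ ≠ 1 := fun e => by
    have := hτ (Sum.inl l)
    rw [e, mat_one, one_mulVec] at this
    have := congrFun this (Sum.inl l)
    simp at this
  refine ⟨k * τ * k⁻¹, by simpa using hτ1, flagStab.mul_mem (flagStab.mul_mem hkK hτK) (flagStab.inv_mem hkK),
    ?_⟩
  obtain ⟨z, hz⟩ : ∃ z, z = x⁻¹ * (k * τ * k⁻¹) * x := ⟨_, rfl⟩
  rw [← hz]
  -- it fixes the second flag pointwise
  have hfix_u : ∀ i, i < l → mat z *ᵥ u i = u i := fun i hi => by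
    have h1 : mat x *ᵥ u i = mat k *ᵥ ey i := by rw [(hk1 i hi).2, hf]
    rw [hz, mat_mul, mat_mul, mat_mul, mat_mul, ← mulVec_mulVec, ← mulVec_mulVec, ← mulVec_mulVec,
      ← mulVec_mulVec, h1, mat_inv_mulVec, (hτfix i hi).2, ← h1, mat_inv_mulVec]
  have hfix : ∀ n (i : Fin m), (i : ℕ) = n → i < l → mat z *ᵥ ex i = ex i := by
    intro n
    induction n using Nat.strong_induction_on with
    | _ n IH =>
      intro i hin hil
      obtain ⟨hu1, hu2⟩ := hu i hil
      let W : Submodule F V := LinearMap.eqLocus (Matrix.mulVecLin (mat z)) LinearMap.id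
      have hlow : (Pflag (i : ℕ) : Submodule F V) ≤ W := fun v hv => span_Pflag hv fun j hj =>
        IH j (hin ▸ hj) j rfl (lt_trans (Fin.lt_def.2 hj) hil)
      have hrest : u i - u i (Sum.inl i) • ex i ∈ (Pflag (i : ℕ) : Submodule F V) := by
        refine ⟨fun r => by simp [hu1.1 r, ex], fun r hr => ?_⟩
        rcases Nat.eq_or_lt_of_le hr with e | e
        · obtain rfl : i = r := Fin.ext e
          simp [ex]
        · have hne : (Sum.inl r : Fin m ⊕ Fin m) ≠ Sum.inl i := fun h => by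
            have := congrArg Fin.val (Sum.inl_injective h); omega
          simp [hu1.2 r e, ex, Pi.single_eq_of_ne hne]
      have hc : u i (Sum.inl i) ≠ 0 := fun h0 => by
        have hmem : u i ∈ (Pflag (i : ℕ) : Submodule F V) := by simpa [h0] using hrest
        -- then its pairings vanish, against `B (ex i) (f i) = 1`
        have hu0 : u i = 0 := by
          refine funext fun r => ?_
          rcases r with r | r
          · rcases Nat.lt_or_ge (r : ℕ) (i : ℕ) with h | h
            · have hinj := (Matrix.mulVec_injective_iff_isUnit.2 ((Matrix.isUnit_iff_isUnit_det _).2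
                (isUnit_iff_ne_zero.2 (hop (i : ℕ) i.2))))
              have : (fun t : Fin (i : ℕ) => u i (Sum.inl (Fin.castLE i.2.le t))) = 0 := by
                refine hinj ?_
                rw [Matrix.mulVec_zero]
                funext t
                have hB := hu2 (Fin.castLE i.2.le t) (Fin.le_def.2 (by simp))
                rw [if_neg (fun e => by have := congrArg Fin.val e; simp at this; omega)] at hB
                rw [show u i = ∑ s, u i (Sum.inl (Fin.castLE i.2.le s)) • ex (Fin.castLE i.2.le s) by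
                  funext r'
                  rcases r' with r' | r'
                  · rcases Nat.lt_or_ge (r' : ℕ) (i : ℕ) with h' | h'
                    · exact (sum_ex_apply i.2.le (fun s => u i (Sum.inl (Fin.castLE i.2.le s))) ⟨r', h'⟩).symm
                    · rw [hmem.2 r' h', ((sum_ex_mem i.2.le _).2 r' h')]
                  · rw [hmem.1 r', ((sum_ex_mem i.2.le _).1 r')], Matrix.mulVec_sum] at hB
                simp only [Matrix.mulVec_smul] at hB
                rw [B_sum_right] at hB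
                simp only [Matrix.mulVec, dotProduct, pairing, Matrix.of_apply, Pi.zero_apply]
                rw [← hB]
                exact Finset.sum_congr rfl fun s _ => mul_comm _ _
              exact congrFun this ⟨r, h⟩
            · exact hmem.2 r h
          · exact hmem.1 r
        have := hu2 i le_rfl
        rw [if_pos rfl, hu0, Matrix.mulVec_zero, B_comm, B_zero_left] at this
        exact zero_ne_one this
      have h1 : mat z *ᵥ (u i - u i (Sum.inl i) • ex i) = u i - u i (Sum.inl i) • ex i := hlow hrest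
      rw [Matrix.mulVec_sub, Matrix.mulVec_smul, hfix_u i hil, sub_right_inj] at h1
      exact smul_right_injective V hc h1
  intro i hi v hv
  have : v ∈ LinearMap.eqLocus (Matrix.mulVecLin (mat z)) LinearMap.id := span_Pflag hv fun j hj =>
    hfix _ j rfl (Fin.lt_def.2 (by omega))
  rw [show mat z *ᵥ v = v from this]
  exact hv

theorem sylow_meet (hm : 2 ≤ m) (H : Sylow 2 GF) (x : GF) :
    (H : Subgroup GF) ⊓ MulAut.conj x • (H : Subgroup GF) ≠ ⊥ := by
  haveI : Fact (Nat.Prime 2) := ⟨Nat.prime_two⟩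
  obtain ⟨P, hP⟩ := (isPGroup_flagStab hF hm).exists_le_sylow
  obtain ⟨θ, hθ⟩ := MulAction.exists_smul_eq GF P H
  have hHmem : ∀ y : GF, θ⁻¹ * y * θ ∈ flagStab → y ∈ (H : Subgroup GF) := fun y hy => by
    rw [← hθ, Sylow.coe_subgroup_smul, Subgroup.mem_pointwise_smul_iff_inv_smul_mem]
    show (MulAut.conj θ)⁻¹ y ∈ (P : Subgroup GF)
    rw [MulAut.conj_inv_apply]
    exact hP hy
  obtain ⟨x', hx'⟩ : ∃ x', x' = θ⁻¹ * x * θ := ⟨_, rfl⟩
  obtain ⟨y, hy1, hy, hy'⟩ : ∃ y : GF, y ≠ 1 ∧ y ∈ flagStab ∧ x'⁻¹ * y * x' ∈ flagStab := by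
    by_cases hop : ∀ i, ∀ hi : i < m, (pairing x' hi.le).det ≠ 0
    · exact meet_of_opposite hF hm x' hop
    · push Not at hop
      obtain ⟨i, hi, h⟩ := hop
      exact meet_of_singular hF x' hi h
  intro hbot
  have hmem : θ * y * θ⁻¹ ∈ (H : Subgroup GF) ⊓ MulAut.conj x • (H : Subgroup GF) := by
    refine ⟨hHmem _ (by rwa [show θ⁻¹ * (θ * y * θ⁻¹) * θ = y by group]), ?_⟩
    refine Subgroup.mem_pointwise_smul_iff_inv_smul_mem.2 ?_
    show (MulAut.conj x)⁻¹ (θ * y * θ⁻¹) ∈ (H : Subgroup GF)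
    rw [MulAut.conj_inv_apply]
    refine hHmem _ ?_
    rwa [show θ⁻¹ * (x⁻¹ * (θ * y * θ⁻¹) * x) * θ = x'⁻¹ * y * x' by rw [hx']; group]
  rw [hbot, Subgroup.mem_bot, conj_eq_one_iff] at hmem
  exact hy1 hmem

end Cfsg.Agent.Fus.OrthFlagTwo
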