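import Cfsg.Agent.Lib.Fus.SiegelBasic

/-!
Over the field with two elements, the stabiliser of a flag of singular subspaces of the hyperbolic
space is a `2`-group, and it always meets its conjugates non-trivially.
-/

set_option autoImplicit false

namespace Cfsg.Agent.Fus.OrthFlagTwo

open Matrix Cfsg.Agent.Fus.Siegel

variable {F : Type*} [Field F] {m : ℕ}

local notation "V" => (Fin m ⊕ Fin m → F)
local notation "Q" => Cfsg.quadFormPlus m F
local notation "GF" => (Cfsg.isometryGroup F (Cfsg.quadFormPlus m F))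
local notation "Mm" => Matrix (Fin m ⊕ Fin m) (Fin m ⊕ Fin m) F

/-- The matrix of an isometry. -/
def mat (g : GF) : Mm := ((g : GL (Fin m ⊕ Fin m) F) : Mm)

theorem mat_mul (g h : GF) : mat (g * h) = mat g * mat h := rfl

theorem mat_one : mat (1 : GF) = 1 := rfl

theorem mat_inj {g h : GF} (e : mat g = mat h) : g = h := Subtype.ext (Units.ext e)

theorem Q_mat (g : GF) (v : V) : Q (mat g *ᵥ v) = Q v := g.2 v v

theorem B_mat (g : GF) (v w : V) : B (mat g *ᵥ v) (mat g *ᵥ w) = B v w := by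
  have h := Q_mat g (v + w)
  rw [Matrix.mulVec_add, Q_add, Q_add, Q_mat, Q_mat] at h
  exact add_left_cancel h

theorem mat_inv_mulVec (g : GF) (v : V) : mat g⁻¹ *ᵥ mat g *ᵥ v = v := by
  rw [mulVec_mulVec, ← mat_mul, inv_mul_cancel, mat_one, one_mulVec]

theorem mat_mulVec_inv (g : GF) (v : V) : mat g *ᵥ mat g⁻¹ *ᵥ v = v := by
  rw [mulVec_mulVec, ← mat_mul, mul_inv_cancel, mat_one, one_mulVec]

/-- The first `i` steps of the standard flag. -/
def Pflag (i : ℕ) : Submodule F V where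
  carrier := {v | (∀ r, v (Sum.inr r) = 0) ∧ ∀ r : Fin m, i ≤ (r : ℕ) → v (Sum.inl r) = 0}
  add_mem' ha hb := ⟨fun r => by simp [ha.1 r, hb.1 r], fun r h => by simp [ha.2 r h, hb.2 r h]⟩
  zero_mem' := ⟨fun _ => rfl, fun _ _ => rfl⟩
  smul_mem' c _ ha := ⟨fun r => by simp [ha.1 r], fun r h => by simp [ha.2 r h]⟩

/-- The vectors orthogonal to the first `i` steps. -/
def Perp (i : ℕ) : Submodule F V where
  carrier := {v | ∀ r : Fin m, (r : ℕ) < i → v (Sum.inr r) = 0}
  add_mem' ha hb := fun r h => by simp [ha r h, hb r h]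
  zero_mem' := fun _ _ => rfl
  smul_mem' c _ ha := fun r h => by simp [ha r h]

/-- The basis vectors. -/
def ex (j : Fin m) : V := Pi.single (Sum.inl j) 1

/-- The dual basis vectors. -/
def ey (j : Fin m) : V := Pi.single (Sum.inr j) 1

theorem mem_Pflag {i : ℕ} {v : V} : v ∈ (Pflag i : Submodule F V) ↔
    (∀ r, v (Sum.inr r) = 0) ∧ ∀ r : Fin m, i ≤ (r : ℕ) → v (Sum.inl r) = 0 := Iff.rfl

theorem mem_Perp {i : ℕ} {v : V} : v ∈ (Perp i : Submodule F V) ↔
    ∀ r : Fin m, (r : ℕ) < i → v (Sum.inr r) = 0 := Iff.rfl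

theorem Pflag_mono {i j : ℕ} (h : i ≤ j) : (Pflag i : Submodule F V) ≤ Pflag j :=
  fun _ hv => ⟨hv.1, fun r hr => hv.2 r (h.trans hr)⟩

theorem ex_mem (j : Fin m) : (ex j : V) ∈ (Pflag ((j : ℕ) + 1) : Submodule F V) := by
  refine ⟨fun r => by simp [ex], fun r hr => ?_⟩
  simp only [ex]
  rw [Pi.single_eq_of_ne (by simp only [ne_eq, Sum.inl.injEq, Fin.ext_iff]; omega)]

theorem B_ex_left (j : Fin m) (v : V) : B (ex j) v = v (Sum.inr j) := by
  simp [B, ex, bar]

theorem B_ey_left (j : Fin m) (v : V) : B (ey j) v = v (Sum.inl j) := by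
  simp [B, ey, bar]

theorem B_of_Pflag {i : ℕ} {u v : V} (hu : u ∈ (Pflag i : Submodule F V))
    (hv : v ∈ (Perp i : Submodule F V)) : B u v = 0 := by
  rw [B_eq]
  refine Finset.sum_eq_zero fun r _ => ?_
  rw [hu.1 r, zero_mul, add_zero]
  rcases Nat.lt_or_ge (r : ℕ) i with h | h
  · rw [hv r h, mul_zero]
  · rw [hu.2 r h, zero_mul]

theorem Perp_of_B {i : ℕ} {v : V} (h : ∀ u ∈ (Pflag i : Submodule F V), B u v = 0) :
    v ∈ (Perp i : Submodule F V) := fun r hr => by
  rw [← B_ex_left r v]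
  exact h _ (Pflag_mono (by omega) (ex_mem r))

theorem Pflag_le_Perp (i j : ℕ) : (Pflag i : Submodule F V) ≤ Perp j :=
  fun _ hv r _ => hv.1 r

theorem Q_Pflag {i : ℕ} {v : V} (hv : v ∈ (Pflag i : Submodule F V)) : Q v = 0 :=
  Finset.sum_eq_zero fun r _ => by rw [hv.1 r, mul_zero]

theorem span_Pflag {W : Submodule F V} {i : ℕ} {v : V} (hv : v ∈ (Pflag i : Submodule F V))
    (h : ∀ j : Fin m, (j : ℕ) < i → ex j ∈ W) : v ∈ W := by
  have e : v = ∑ j : Fin m, v (Sum.inl j) • ex j := by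
    funext r
    rcases r with r | r
    · simp [ex, Finset.sum_apply, Pi.single_apply]
    · simp [ex, Finset.sum_apply, Pi.single_apply, hv.1 r]
  rw [e]
  refine W.sum_mem fun j _ => ?_
  rcases Nat.lt_or_ge (j : ℕ) i with hj | hj
  · exact W.smul_mem _ (h j hj)
  · rw [hv.2 j hj, zero_smul]; exact W.zero_mem

section Finite

variable [Fintype F]

/-- The stabiliser of the standard flag. -/
def flagStab : Subgroup GF :=
  { carrier := {g | ∀ i < m, ∀ v ∈ (Pflag i : Submodule F V), mat g *ᵥ v ∈ (Pflag i : Submodule F V)}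
    mul_mem' := fun ha hb i hi v hv => by
      rw [mat_mul, ← mulVec_mulVec]
      exact ha i hi _ (hb i hi v hv)
    one_mem' := fun i _ v hv => by rwa [mat_one, one_mulVec]
    inv_mem' := fun {g} hg i hi v hv => by
      let f : ↥(Pflag i : Submodule F V) → ↥(Pflag i : Submodule F V) :=
        fun u => ⟨mat g *ᵥ u, hg i hi u u.2⟩
      have hinj : Function.Injective f := fun a b hab => Subtype.ext (by
        have h : mat g *ᵥ (a : V) = mat g *ᵥ (b : V) := congrArg Subtype.val hab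
        rw [← mat_inv_mulVec g (a : V), h, mat_inv_mulVec])
      obtain ⟨u, hu⟩ := Finite.surjective_of_injective hinj ⟨v, hv⟩
      have e : mat g *ᵥ (u : V) = v := congrArg Subtype.val hu
      rw [← e, mat_inv_mulVec]
      exact u.2 }

theorem mem_flagStab {g : GF} : g ∈ flagStab ↔
    ∀ i < m, ∀ v ∈ (Pflag i : Submodule F V), mat g *ᵥ v ∈ (Pflag i : Submodule F V) := Iff.rfl

variable (hF : Fintype.card F = 2)

include hF

theorem two_cases (x : F) : x = 0 ∨ x = 1 := by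
  classical
  by_contra h
  push Not at h
  have : ({0, 1, x} : Finset F).card ≤ 2 := hF ▸ Finset.card_le_univ _
  rw [Finset.card_insert_of_notMem (by simp [h.1.symm]),
    Finset.card_insert_of_notMem (by simp [h.2.symm]), Finset.card_singleton] at this
  omega

theorem two_eq_zero : (1 : F) + 1 = 0 := by
  rcases two_cases hF (1 + 1) with h | h
  · exact h
  · simp at h

theorem flag_diag {g : GF} (hg : g ∈ flagStab) {i : ℕ} (hi : i + 1 < m) {v : V}
    (hv : v ∈ (Pflag (i + 1) : Submodule F V)) :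
    mat g *ᵥ v - v ∈ (Pflag i : Submodule F V) := by
  obtain ⟨r, hr⟩ : ∃ r : Fin m, (r : ℕ) = i := ⟨⟨i, by omega⟩, rfl⟩
  have hlow : ∀ u ∈ (Pflag (i + 1) : Submodule F V), u (Sum.inl r) = 0 →
      u ∈ (Pflag i : Submodule F V) := fun u hu h0 => ⟨hu.1, fun t ht => by
    rcases Nat.eq_or_lt_of_le ht with e | e
    · rwa [show t = r from Fin.ext (by omega)]
    · exact hu.2 t e⟩
  have hgr : (mat g *ᵥ ex r) (Sum.inl r) = 1 := by
    refine (two_cases hF _).resolve_left fun h0 => ?_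
    have h1 := hlow _ (hg (i + 1) hi _ (hr ▸ ex_mem r)) h0
    have h2 := flagStab.inv_mem hg i (by omega) _ h1
    rw [mat_inv_mulVec] at h2
    have := h2.2 r hr.ge
    simp [ex] at this
  have hu : v - v (Sum.inl r) • ex r ∈ (Pflag i : Submodule F V) :=
    hlow _ (sub_mem hv (Submodule.smul_mem _ _ (hr ▸ ex_mem r))) (by simp [ex])
  have hgu := hg i (by omega) _ hu
  refine hlow _ (sub_mem (hg (i + 1) hi _ hv) hv) ?_
  have h0 := hgu.2 r hr.ge
  rw [Matrix.mulVec_sub, Matrix.mulVec_smul, Pi.sub_apply, Pi.smul_apply, hgr, smul_eq_mul,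
    mul_one] at h0
  rw [Pi.sub_apply, h0]

theorem perp_step {g : GF} (hg : g ∈ flagStab) {i : ℕ} (hi : i + 1 < m) {v : V}
    (hv : v ∈ (Perp i : Submodule F V)) :
    mat g *ᵥ v - v ∈ (Perp (i + 1) : Submodule F V) := by
  refine Perp_of_B fun u hu => ?_
  have hgv : ∀ w ∈ (Pflag i : Submodule F V), B w (mat g *ᵥ v) = 0 := fun w hw => by
    have h := B_mat g⁻¹ w (mat g *ᵥ v)
    rw [mat_inv_mulVec] at h
    rw [← h]
    exact B_of_Pflag (flagStab.inv_mem hg i (by omega) _ hw) hv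
  rw [B_sub_right]
  have h := hgv _ (flag_diag hF hg hi hu)
  rw [B_sub_left, B_mat] at h
  linear_combination -h

theorem plane_step {g : GF} (hg : g ∈ flagStab) (hm : 2 ≤ m) {v : V}
    (hv : v ∈ (Perp (m - 1) : Submodule F V)) :
    mat (g * g) *ᵥ v - v ∈ (Pflag (m - 1) : Submodule F V) := by
  obtain ⟨l, hl⟩ : ∃ l : Fin m, (l : ℕ) = m - 1 := ⟨⟨m - 1, by omega⟩, rfl⟩
  have hperp : ∀ u ∈ (Perp (m - 1) : Submodule F V),
      mat g *ᵥ u ∈ (Perp (m - 1) : Submodule F V) := fun u hu => Perp_of_B fun w hw => by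
    have h := B_mat g⁻¹ w (mat g *ᵥ u)
    rw [mat_inv_mulVec] at h
    rw [← h]
    exact B_of_Pflag (flagStab.inv_mem hg (m - 1) (by omega) _ hw) hu
  have hQl : ∀ u ∈ (Perp (m - 1) : Submodule F V), Q u = u (Sum.inl l) * u (Sum.inr l) :=
    fun u hu => Finset.sum_eq_single l
      (fun t _ ht => by rw [hu t (by have := Fin.val_ne_of_ne ht; omega), mul_zero]) (by simp)
  have hlow : ∀ u ∈ (Perp (m - 1) : Submodule F V), u (Sum.inl l) = 0 → u (Sum.inr l) = 0 →
      u ∈ (Pflag (m - 1) : Submodule F V) := fun u hu h1 h2 => ⟨fun r => by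
    rcases Nat.lt_or_ge (r : ℕ) (m - 1) with h | h
    · exact hu r h
    · rwa [show r = l from Fin.ext (by omega)], fun r h => by rwa [show r = l from Fin.ext (by omega)]⟩
  have hex : (ex l : V) ∈ (Perp (m - 1) : Submodule F V) := fun r hr => by simp [ex]
  have hey : (ey l : V) ∈ (Perp (m - 1) : Submodule F V) := fun r hr => by
    have hne : (Sum.inr r : Fin m ⊕ Fin m) ≠ Sum.inr l := fun e => by
      have := congrArg Fin.val (Sum.inr_injective e); omega
    simp [ey, Pi.single_eq_of_ne hne]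
  have hpq := hQl _ (hperp _ hex)
  have hrs := hQl _ (hperp _ hey)
  rw [Q_mat, hQl _ hex, show (ex l : V) (Sum.inr l) = 0 by simp [ex], mul_zero] at hpq
  rw [Q_mat, hQl _ hey, show (ey l : V) (Sum.inl l) = 0 by simp [ey], zero_mul] at hrs
  have hB : B (mat g *ᵥ ex l) (mat g *ᵥ ey l) = (1 : F) := by
    rw [B_mat, B_ex_left]; simp [ey]
  rw [B_eq, Finset.sum_eq_single l (fun t _ ht => by
    rw [hperp _ hex t (by have := Fin.val_ne_of_ne ht; omega),
      hperp _ hey t (by have := Fin.val_ne_of_ne ht; omega), mul_zero, zero_mul, add_zero])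
    (by simp)] at hB
  obtain ⟨p, hp⟩ : ∃ p, p = (mat g *ᵥ ex l : V) (Sum.inl l) := ⟨_, rfl⟩
  obtain ⟨q, hq⟩ : ∃ q, q = (mat g *ᵥ ex l : V) (Sum.inr l) := ⟨_, rfl⟩
  obtain ⟨r, hr⟩ : ∃ r, r = (mat g *ᵥ ey l : V) (Sum.inl l) := ⟨_, rfl⟩
  obtain ⟨s, hs⟩ : ∃ s, s = (mat g *ᵥ ey l : V) (Sum.inr l) := ⟨_, rfl⟩
  rw [← hp, ← hq] at hpq
  rw [← hr, ← hs] at hrs
  rw [← hp, ← hq, ← hr, ← hs] at hB
  have hco : ∀ u ∈ (Perp (m - 1) : Submodule F V),
      (mat g *ᵥ u) (Sum.inl l) = u (Sum.inl l) * p + u (Sum.inr l) * r ∧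
      (mat g *ᵥ u) (Sum.inr l) = u (Sum.inl l) * q + u (Sum.inr l) * s := by
    intro u hu
    have hw : u - (u (Sum.inl l) • ex l + u (Sum.inr l) • ey l) ∈ (Pflag (m - 1) : Submodule F V) :=
      hlow _ (sub_mem hu (add_mem (Submodule.smul_mem _ _ hex) (Submodule.smul_mem _ _ hey)))
        (by simp [ex, ey]) (by simp [ex, ey])
    have h := hg (m - 1) (by omega) _ hw
    have h1 := h.2 l hl.ge
    have h2 := h.1 l
    rw [Matrix.mulVec_sub, Matrix.mulVec_add, Matrix.mulVec_smul, Matrix.mulVec_smul, Pi.sub_apply,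
      Pi.add_apply, Pi.smul_apply, Pi.smul_apply, smul_eq_mul, smul_eq_mul, ← hp, ← hr,
      sub_eq_zero] at h1
    rw [Matrix.mulVec_sub, Matrix.mulVec_add, Matrix.mulVec_smul, Matrix.mulVec_smul, Pi.sub_apply,
      Pi.add_apply, Pi.smul_apply, Pi.smul_apply, smul_eq_mul, smul_eq_mul, ← hq, ← hs,
      sub_eq_zero] at h2
    exact ⟨h1, h2⟩
  have hgv := hperp v hv
  have h11 := two_eq_zero hF
  rw [mat_mul, ← mulVec_mulVec]
  refine hlow _ (sub_mem (hperp _ hgv) hv) ?_ ?_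
  · rw [Pi.sub_apply, (hco _ hgv).1, (hco v hv).1, (hco v hv).2]
    rcases two_cases hF p with rfl | rfl <;> rcases two_cases hF q with rfl | rfl <;>
      rcases two_cases hF r with rfl | rfl <;> rcases two_cases hF s with rfl | rfl <;>
      simp at hpq hrs hB ⊢
  · rw [Pi.sub_apply, (hco _ hgv).2, (hco v hv).1, (hco v hv).2]
    rcases two_cases hF p with rfl | rfl <;> rcases two_cases hF q with rfl | rfl <;>
      rcases two_cases hF r with rfl | rfl <;> rcases two_cases hF s with rfl | rfl <;>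
      simp at hpq hrs hB ⊢

theorem isPGroup_flagStab (hm : 2 ≤ m) : IsPGroup 2 (flagStab : Subgroup GF) := by
  rintro ⟨g, hg⟩
  obtain ⟨h, hh⟩ : ∃ h, h = g * g := ⟨_, rfl⟩
  have hhK : h ∈ flagStab := hh ▸ flagStab.mul_mem hg hg
  have hstep : ∀ k v, (k < m - 1 → v ∈ (Perp k : Submodule F V) →
        (mat h - 1) *ᵥ v ∈ (Perp (k + 1) : Submodule F V)) ∧
      (v ∈ (Perp (m - 1) : Submodule F V) → (mat h - 1) *ᵥ v ∈ (Pflag (m - 1) : Submodule F V)) ∧
      (k + 1 < m → v ∈ (Pflag (k + 1) : Submodule F V) →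
        (mat h - 1) *ᵥ v ∈ (Pflag k : Submodule F V)) := by
    intro k v
    rw [Matrix.sub_mulVec, one_mulVec]
    exact ⟨fun hk hv => perp_step hF hhK (by omega) hv,
      fun hv => hh ▸ plane_step hF hg hm hv, fun hk hv => flag_diag hF hhK hk hv⟩
  obtain ⟨N, hN⟩ : ∃ N : Mm, N = mat h - 1 := ⟨_, rfl⟩
  rw [← hN] at hstep
  have hup : ∀ k, k ≤ m - 1 → ∀ v, (N ^ k) *ᵥ v ∈ (Perp k : Submodule F V) := by
    intro k
    induction k with
    | zero => exact fun _ v r hr => absurd hr (Nat.not_lt_zero _)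
    | succ k ih =>
      intro hk v
      rw [pow_succ', ← mulVec_mulVec]
      exact (hstep k _).1 (by omega) (ih (by omega) v)
  have hdown : ∀ k, k ≤ m - 1 → ∀ v, (N ^ (m + k)) *ᵥ v ∈ (Pflag (m - 1 - k) : Submodule F V) := by
    intro k
    induction k with
    | zero =>
      intro _ v
      rw [show m + 0 = m - 1 + 1 by omega, pow_succ', ← mulVec_mulVec, Nat.sub_zero]
      exact (hstep 0 _).2.1 (hup _ le_rfl v)
    | succ k ih =>
      intro hk v
      rw [← add_assoc, pow_succ', ← mulVec_mulVec]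
      refine (hstep (m - 1 - (k + 1)) _).2.2 (by omega) ?_
      rw [show m - 1 - (k + 1) + 1 = m - 1 - k by omega]
      exact ih (by omega) v
  have hnil : N ^ (m + (m - 1)) = 0 := by
    refine Matrix.ext_iff_mulVec.2 fun v => ?_
    rw [Matrix.zero_mulVec]
    have h0 := hdown _ le_rfl v
    rw [Nat.sub_self] at h0
    funext r
    rcases r with r | r
    · exact h0.2 r (Nat.zero_le _)
    · exact h0.1 r
  haveI : Nonempty (Fin m ⊕ Fin m) := ⟨Sum.inl ⟨0, by omega⟩⟩
  haveI : CharP F 2 := CharTwo.of_one_ne_zero_of_two_eq_zero one_ne_zero (by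
    rw [← one_add_one_eq_two]; exact two_eq_zero hF)
  haveI : Fact (Nat.Prime 2) := ⟨Nat.prime_two⟩
  obtain ⟨t, ht⟩ : ∃ t, m + (m - 1) ≤ 2 ^ t :=
    ⟨m + (m - 1), (Nat.lt_two_pow_self).le⟩
  refine ⟨t + 1, ?_⟩
  have hpow : mat (h ^ (2 ^ t)) = (1 : Mm) := by
    have e : ∀ j, mat (h ^ j) = mat h ^ j := fun j => by
      induction j with
      | zero => rfl
      | succ j ih => rw [pow_succ, pow_succ, mat_mul, ih]
    have h0 : N ^ (2 ^ t) = 0 := pow_eq_zero_of_le ht hnil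
    rw [hN, sub_pow_char_pow_of_commute (R := Mm) (p := 2) t (Commute.one_right (mat h)), one_pow, sub_eq_zero] at h0
    rw [e, h0]
  apply Subtype.ext
  apply mat_inj
  show mat (g ^ 2 ^ (t + 1)) = mat 1
  rw [pow_succ', pow_mul, pow_two, ← hh, hpow, mat_one]

end Finite

end Cfsg.Agent.Fus.OrthFlagTwo
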