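import Mathlib
import Cfsg.Prelude.Def_KGroupFacts

/-!
# A group with a core-free subgroup of prime index has solvable outer automorphism group

Automorphisms centralising a Sylow `p`-subgroup `P` (of order `p`) commute: each one gives an
intertwiner of permutation modules over `ZMod p` which lies in the image of the group algebra of
`P`, and is invertible because its `p`-th power is a nonzero scalar.
-/

namespace Cfsg.Agent.Fus.OutPrimeIndex

open MulAction
open scoped Pointwise

variable {G Ω : Type*} [Group G] [MulAction G Ω]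

/-- Translation operators on functions. -/
noncomputable def transl (p : ℕ) : G →* Module.End (ZMod p) (Ω → ZMod p) where
  toFun g := LinearMap.funLeft (ZMod p) (ZMod p) (fun i => g⁻¹ • i)
  map_one' := by
    refine LinearMap.ext fun f => funext fun i => ?_
    simp [LinearMap.funLeft_apply]
  map_mul' a b := by
    refine LinearMap.ext fun f => funext fun i => ?_
    simp [LinearMap.funLeft_apply, mul_smul]

@[simp] theorem transl_apply (p : ℕ) (g : G) (f : Ω → ZMod p) (i : Ω) :
    transl p g f i = f (g⁻¹ • i) := rfl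

theorem transl_injective (p : ℕ) [Fact p.Prime] [FaithfulSMul G Ω] :
    Function.Injective (transl (G := G) (Ω := Ω) p) := by
  classical
  intro a b hab
  have : a⁻¹ = b⁻¹ := by
    refine FaithfulSMul.eq_of_smul_eq_smul (α := Ω) fun i => ?_
    have h := congrFun (LinearMap.congr_fun hab
      (fun j => if j = a⁻¹ • i then (1 : ZMod p) else 0)) i
    simp only [transl_apply, if_pos] at h
    by_contra hne
    rw [if_neg (Ne.symm hne)] at h
    exact one_ne_zero h
  exact inv_injective this

variable [Finite G] [Finite Ω]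

theorem exists_intertwiner (p : ℕ) [Fact p.Prime] (P : Subgroup G) (hP : Nat.card P = p)
    (hPab : ∀ a ∈ P, ∀ b ∈ P, a * b = b * a) (ω : Ω)
    (hreg : Function.Bijective (fun y : P => (y : G) • ω))
    (hst : ¬ p ∣ Nat.card (stabilizer G ω)) (α : MulAut G) (hα : ∀ y ∈ P, α y = y) :
    ∃ M : Module.End (ZMod p) (Ω → ZMod p),
      (∀ g : G, M * transl p g = transl p (α g) * M) ∧ Function.Surjective M ∧
      M ∈ (MonoidAlgebra.lift (ZMod p) (Module.End (ZMod p) (Ω → ZMod p)) ↥P
        ((transl p).comp P.subtype)).range := by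
  classical
  haveI : Fintype Ω := Fintype.ofFinite Ω
  haveI : Fintype P := Fintype.ofFinite P
  let R : Ω → Ω → Prop := fun i j => ∃ g : G, g • ω = i ∧ (α g) • ω = j
  have hR : ∀ (g : G) (i j : Ω), R (g • i) ((α g) • j) ↔ R i j := by
    intro g i j
    constructor
    · rintro ⟨h, h1, h2⟩
      refine ⟨g⁻¹ * h, ?_, ?_⟩
      · rw [mul_smul, h1, inv_smul_smul]
      · rw [map_mul, mul_smul, h2, map_inv, inv_smul_smul]
    · rintro ⟨h, h1, h2⟩
      refine ⟨g * h, ?_, ?_⟩
      · rw [mul_smul, h1]
      · rw [map_mul, mul_smul, h2]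
  let D : Finset P := Finset.univ.filter (fun y : P => R ω ((y : G) • ω))
  have hD1 : (1 : P) ∈ D := by
    simp only [D, Finset.mem_filter, Finset.mem_univ, true_and, Subgroup.coe_one, one_smul]
    exact ⟨1, one_smul _ _, by simp⟩
  have hDne : D ≠ Finset.univ := by
    intro hall
    apply hst
    let K : Subgroup G := (stabilizer G ω).map α.toMonoidHom
    have hK : Nat.card K = Nat.card (stabilizer G ω) :=
      (Nat.card_congr (Subgroup.equivMapOfInjective _ _ α.injective).toEquiv).symm
    have horb : orbit K ω = Set.univ := by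
      refine Set.eq_univ_of_forall fun i => ?_
      obtain ⟨y, hy⟩ := hreg.2 i
      have hyD : y ∈ D := hall ▸ Finset.mem_univ y
      obtain ⟨g, h1, h2⟩ := (Finset.mem_filter.1 hyD).2
      exact ⟨⟨α g, Subgroup.mem_map.2 ⟨g, h1, rfl⟩⟩, h2.trans hy⟩
    have hc : Nat.card (orbit K ω) = p := by
      rw [horb, Nat.card_coe_set_eq, Set.ncard_univ, ← Nat.card_congr (Equiv.ofBijective _ hreg), hP]
    rw [← hK, ← hc, Nat.card_congr (orbitEquivQuotientStabilizer K ω)]
    exact Subgroup.card_quotient_dvd_card _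
  have hk : ((D.card : ℕ) : ZMod p) ≠ 0 := by
    rw [Ne, ZMod.natCast_eq_zero_iff]
    refine Nat.not_dvd_of_pos_of_lt (Finset.card_pos.2 ⟨1, hD1⟩) ?_
    have := Finset.card_lt_card (D.subset_univ.ssubset_of_ne hDne)
    rwa [Finset.card_univ, ← Nat.card_eq_fintype_card, hP] at this
  let lft := MonoidAlgebra.lift (ZMod p) (Module.End (ZMod p) (Ω → ZMod p)) ↥P
    ((transl p).comp P.subtype)
  let m : MonoidAlgebra (ZMod p) ↥P := ∑ y ∈ D, MonoidAlgebra.single y 1
  let M := lft m
  have hpP : ∀ y : P, y ^ p = 1 := fun y => hP ▸ pow_card_eq_one'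
  letI : CommGroup P := { (inferInstance : Group P) with
    mul_comm := fun a b => Subtype.ext (hPab a a.2 b b.2) }
  haveI : CharP (MonoidAlgebra (ZMod p) ↥P) p :=
    charP_of_injective_algebraMap (FaithfulSMul.algebraMap_injective (ZMod p) _) p
  have hmp : m ^ p = algebraMap (ZMod p) _ (D.card : ZMod p) := by
    simp only [m]
    rw [sum_pow_char p]
    simp only [MonoidAlgebra.single_pow, one_pow, hpP]
    rw [Finset.sum_const, map_natCast, ← MonoidAlgebra.one_def, nsmul_one]
  have hMp : M ^ p = algebraMap (ZMod p) _ (D.card : ZMod p) := by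
    simp only [M]
    rw [← map_pow, hmp, AlgHom.commutes]
  have hMinj : Function.Injective M := by
    refine LinearMap.ker_eq_bot.1 (LinearMap.ker_eq_bot'.2 fun f hf => ?_)
    have hp0 : p ≠ 0 := (Fact.out : p.Prime).ne_zero
    have h0 : (M ^ p) f = 0 := by
      rw [← pow_sub_one_mul hp0 M, Module.End.mul_apply, hf, map_zero]
    rw [hMp, Module.algebraMap_end_apply] at h0
    exact (smul_eq_zero.1 h0).resolve_left hk
  have hMapply : ∀ (f : Ω → ZMod p) (j : Ω),
      M f j = ∑ i ∈ Finset.univ.filter (fun i => R i j), f i := by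
    intro f j
    have h1 : M f j = ∑ y ∈ D, f ((y : G)⁻¹ • j) := by
      simp only [M, m, lft, map_sum, MonoidAlgebra.lift_single, one_smul, MonoidHom.coe_comp,
        Function.comp_apply, Subgroup.coe_subtype, LinearMap.sum_apply, Finset.sum_apply,
        transl_apply]
    rw [h1]
    obtain ⟨z, hz⟩ := hreg.2 j
    have key : ∀ y : P, R ((y : G)⁻¹ • j) j ↔ R ω ((y : G) • ω) := by
      intro y
      have hu : (y : G)⁻¹ * (z : G) ∈ P := P.mul_mem (P.inv_mem y.2) z.2
      rw [← hR ((y : G)⁻¹ * (z : G)) ω ((y : G) • ω), hα _ hu, mul_smul, ← mul_smul _ (y : G),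
        hPab _ hu _ y.2, ← mul_assoc, mul_inv_cancel, one_mul]
      rw [← hz]
    refine Finset.sum_nbij (fun y => (y : G)⁻¹ • j) ?_ ?_ ?_ (fun _ _ => rfl)
    · intro y hy
      simp only [D, Finset.mem_filter, Finset.mem_univ, true_and] at hy
      simp only [Finset.mem_filter, Finset.mem_univ, true_and]
      exact (key y).2 hy
    · intro a _ b _ hab
      have : (a⁻¹ * z : P) = b⁻¹ * z := hreg.1 (by
        simpa [mul_smul, ← hz] using hab)
      simpa using this
    · intro i hi
      simp only [Finset.coe_filter, Finset.mem_univ, true_and, Set.mem_setOf_eq] at hi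
      obtain ⟨u, hu⟩ := hreg.2 i
      have hy : ((z * u⁻¹ : P) : G)⁻¹ • j = i := by
        simp [← hz, ← hu, smul_smul, mul_assoc]
      refine ⟨z * u⁻¹, ?_, hy⟩
      simp only [D, Finset.coe_filter, Finset.mem_univ, true_and, Set.mem_setOf_eq]
      exact (key _).1 (by rw [hy]; exact hi)
  refine ⟨M, fun g => ?_, ?_, ⟨m, rfl⟩⟩
  · refine LinearMap.ext fun f => funext fun j => ?_
    simp only [Module.End.mul_apply, transl_apply, hMapply]
    refine Finset.sum_nbij' (fun i => g⁻¹ • i) (fun i => g • i) ?_ ?_ ?_ ?_ ?_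
    · intro i hi
      simp only [Finset.mem_filter, Finset.mem_univ, true_and] at hi ⊢
      have := (hR g (g⁻¹ • i) ((α g)⁻¹ • j))
      rw [smul_inv_smul, smul_inv_smul] at this
      exact this.1 hi
    · intro i hi
      simp only [Finset.mem_filter, Finset.mem_univ, true_and] at hi ⊢
      have := (hR g i ((α g)⁻¹ • j))
      rw [smul_inv_smul] at this
      exact this.2 hi
    · intro i _; simp
    · intro i _; simp
    · intro i _; simp
  · exact LinearMap.surjective_of_injective hMinj

theorem commute_of_fix (p : ℕ) [Fact p.Prime] [FaithfulSMul G Ω] (P : Subgroup G)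
    (hP : Nat.card P = p) (hPab : ∀ a ∈ P, ∀ b ∈ P, a * b = b * a) (ω : Ω)
    (hreg : Function.Bijective (fun y : P => (y : G) • ω))
    (hst : ¬ p ∣ Nat.card (stabilizer G ω)) (α β : MulAut G) (hα : ∀ y ∈ P, α y = y)
    (hβ : ∀ y ∈ P, β y = y) : α * β = β * α := by
  obtain ⟨M, hM, hMs, m, hm⟩ := exists_intertwiner p P hP hPab ω hreg hst α hα
  obtain ⟨N, hN, hNs, n, hn⟩ := exists_intertwiner p P hP hPab ω hreg hst β hβ
  letI : CommGroup P := { (inferInstance : Group P) with
    mul_comm := fun a b => Subtype.ext (hPab a a.2 b b.2) }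
  have hMN : M * N = N * M := by
    rw [← hm, ← hn]
    exact (map_mul _ m n).symm.trans ((congrArg _ (mul_comm m n)).trans (map_mul _ n m))
  refine MulEquiv.ext fun g => transl_injective (Ω := Ω) p ?_
  have h1 : transl p ((α * β) g) * (M * N) = transl (Ω := Ω) p ((β * α) g) * (M * N) := by
    rw [MulAut.mul_apply, MulAut.mul_apply]
    calc transl p (α (β g)) * (M * N) = (M * N) * transl p g := by
          rw [← mul_assoc, ← hM, mul_assoc, ← hN, ← mul_assoc]
      _ = (N * M) * transl p g := by rw [hMN]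
      _ = transl p (β (α g)) * (N * M) := by rw [mul_assoc, hM, ← mul_assoc, hN, mul_assoc]
      _ = transl p (β (α g)) * (M * N) := by rw [hMN]
  refine LinearMap.ext fun f => ?_
  obtain ⟨f₁, rfl⟩ := hMs f
  obtain ⟨f₂, rfl⟩ := hNs f₁
  exact LinearMap.congr_fun h1 f₂

theorem out_solvable {G : Type*} [Group G] [Finite G] (H : Subgroup G) (hH : H.index.Prime)
    (hcore : H.normalCore = ⊥) : Group.IsSolvable (Cfsg.Out G) := by
  haveI hp : Fact H.index.Prime := ⟨hH⟩
  haveI : FaithfulSMul G (G ⧸ H) := by
    refine ⟨fun {a b} hab => ?_⟩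
    have h : toPermHom G (G ⧸ H) a = toPermHom G (G ⧸ H) b := Equiv.ext hab
    have hinj : Function.Injective (toPermHom G (G ⧸ H)) := by
      rw [← MonoidHom.ker_eq_bot_iff, ← Subgroup.normalCore_eq_ker, hcore]
    exact hinj h
  have hdvd : Nat.card G ∣ H.index.factorial := by
    have hinj : Function.Injective (toPermHom G (G ⧸ H)) := by
      rw [← MonoidHom.ker_eq_bot_iff, ← Subgroup.normalCore_eq_ker, hcore]
    have := Subgroup.card_dvd_of_injective _ hinj
    rwa [Nat.card_perm] at this
  have hpH : ¬ H.index ∣ Nat.card H := by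
    intro hd
    have h1 : H.index * H.index ∣ H.index.factorial :=
      (mul_dvd_mul_right hd _).trans (H.card_mul_index.symm ▸ hdvd)
    rw [← Nat.mul_factorial_pred hH.ne_zero] at h1
    have := (Nat.Prime.dvd_factorial hH).1 (Nat.dvd_of_mul_dvd_mul_left hH.pos h1)
    have := hH.two_le
    omega
  obtain ⟨P⟩ : Nonempty (Sylow H.index G) := inferInstance
  have hP : Nat.card P = H.index := by
    rw [P.card_eq_multiplicity, ← H.card_mul_index, Nat.factorization_mul Nat.card_pos.ne'
      hH.ne_zero, Finsupp.add_apply, Nat.factorization_eq_zero_of_not_dvd hpH,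
      hH.factorization_self, zero_add, pow_one]
  haveI : IsCyclic (P : Subgroup G) := isCyclic_of_prime_card hP
  have hPab : ∀ a ∈ (P : Subgroup G), ∀ b ∈ (P : Subgroup G), a * b = b * a := by
    intro a ha b hb
    letI := IsCyclic.commGroup (α := (P : Subgroup G))
    exact congrArg Subtype.val (mul_comm (⟨a, ha⟩ : (P : Subgroup G)) ⟨b, hb⟩)
  let ω : G ⧸ H := ((1 : G) : G ⧸ H)
  have hst : stabilizer G ω = H := MulAction.stabilizer_quotient H
  have hreg : Function.Bijective (fun y : (P : Subgroup G) => (y : G) • ω) := by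
    refine (Nat.bijective_iff_injective_and_card _).2 ⟨fun a b hab => ?_, hP⟩
    simp only at hab
    have hmem : ((b⁻¹ * a : (P : Subgroup G)) : G) ∈ H := by
      refine (SetLike.ext_iff.1 hst _).1 (mem_stabilizer_iff.2 ?_)
      rw [Subgroup.coe_mul, Subgroup.coe_inv, mul_smul, hab, inv_smul_smul]
    by_contra hne
    have ho : orderOf ((b⁻¹ * a : (P : Subgroup G)) : G) = H.index := by
      rw [Subgroup.orderOf_coe]
      exact orderOf_eq_prime ((congrArg ((b⁻¹ * a) ^ ·) hP).symm.trans pow_card_eq_one') fun h => hne (inv_mul_eq_one.1 h).symm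
    have hd := Subgroup.orderOf_dvd_natCard H hmem
    rw [ho] at hd
    exact hpH hd
  let A : Subgroup (MulAut G) := stabilizer (MulAut G) P
  have hA : ∀ a : A, ∀ y ∈ (P : Subgroup G), (a : MulAut G) y ∈ (P : Subgroup G) := by
    intro a y hy
    have : (a : MulAut G) • (P : Subgroup G) = P := by
      exact congrArg Sylow.toSubgroup a.2
    rw [← this]
    exact Subgroup.smul_mem_pointwise_smul y _ _ hy
  let res : A →* MulAut (P : Subgroup G) :=
    { toFun := fun a =>
        { toFun := fun y => ⟨(a : MulAut G) y, hA a y y.2⟩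
          invFun := fun y => ⟨((a⁻¹ : A) : MulAut G) y, hA a⁻¹ y y.2⟩
          left_inv := fun y => Subtype.ext ((a : MulAut G).symm_apply_apply _)
          right_inv := fun y => Subtype.ext ((a : MulAut G).apply_symm_apply _)
          map_mul' := fun x y => Subtype.ext (map_mul (a : MulAut G) _ _) }
      map_one' := rfl
      map_mul' := fun _ _ => rfl }
  haveI : Group.IsSolvable (MulAut (P : Subgroup G)) :=
    Group.isSolvable_of_comm fun a b =>
      (IsCyclic.mulAutMulEquiv (P : Subgroup G)).injective (by rw [map_mul, map_mul, mul_comm])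
  haveI : Group.IsSolvable res.ker := Group.isSolvable_of_comm fun a b => by
    refine Subtype.ext (Subtype.ext ?_)
    have hfix : ∀ c : res.ker, ∀ y ∈ (P : Subgroup G), ((c : A) : MulAut G) y = y :=
      fun c y hy => congrArg Subtype.val (MulEquiv.congr_fun (MonoidHom.mem_ker.1 c.2) ⟨y, hy⟩)
    exact commute_of_fix H.index (P : Subgroup G) hP hPab ω hreg (hst.symm ▸ hpH) _ _
      (hfix a) (hfix b)
  haveI : Group.IsSolvable A :=
    Group.isSolvable_of_ker_le_range res.ker.subtype res (by rw [Subgroup.range_subtype])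
  refine Group.isSolvable_of_surjective (f := (QuotientGroup.mk' (Cfsg.Inn G)).comp A.subtype) ?_
  intro o
  induction o using QuotientGroup.induction_on with
  | _ α =>
    obtain ⟨g, hg⟩ := exists_smul_eq G (α • P) P
    have hc : MulAut.conj g * α ∈ A := by
      rw [mem_stabilizer_iff, mul_smul]
      exact hg
    refine ⟨⟨_, hc⟩, ?_⟩
    change QuotientGroup.mk' _ (MulAut.conj g * α) = _
    rw [map_mul, show QuotientGroup.mk' (Cfsg.Inn G) (MulAut.conj g) = 1 from
      (QuotientGroup.eq_one_iff _).2 ⟨g, rfl⟩, one_mul]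
    rfl

end Cfsg.Agent.Fus.OutPrimeIndex
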