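import Cfsg.Agent.Lib.Fus.RootPairLocal
import Cfsg.Agent.Lib.Fus.PSLTwo

/-!
# The stabiliser of a member acts by field automorphisms on its commutator space
-/

set_option autoImplicit false
set_option linter.unusedSectionVars false
set_option linter.style.haveILetI false

open scoped commutatorElement Pointwise

namespace Cfsg.Agent.Fus.RootPair

open Subgroup Cfsg.Agent.Grp Cfsg.Agent.Grp.OffenderSL2 Matrix

universe u

theorem two_dim {F : Type*} [Field F] {e : Fin 2 → F} (he : e ≠ 0) (v : Fin 2 → F) :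
    (∃ f : F, v = f • e) ∨ ∀ w : Fin 2 → F, ∃ a b : F, w = a • e + b • v := by
  by_cases hd : e 0 * v 1 - e 1 * v 0 = 0
  · left
    by_cases h0 : e 0 = 0
    · have h1 : e 1 ≠ 0 := fun h1 => he (funext (Fin.forall_fin_two.mpr ⟨h0, h1⟩))
      refine ⟨v 1 / e 1, funext (Fin.forall_fin_two.mpr ⟨?_, ?_⟩)⟩
      · rw [h0, zero_mul, zero_sub, neg_eq_zero] at hd
        simp [h0, (mul_eq_zero.mp hd).resolve_left h1]
      · simp [h1]
    · refine ⟨v 0 / e 0, funext (Fin.forall_fin_two.mpr ⟨?_, ?_⟩)⟩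
      · simp [h0]
      · simp only [Pi.smul_apply, smul_eq_mul]
        field_simp
        linear_combination hd
  · right
    intro w
    refine ⟨(w 0 * v 1 - w 1 * v 0) / (e 0 * v 1 - e 1 * v 0), (e 0 * w 1 - e 1 * w 0) / (e 0 * v 1 - e 1 * v 0),
      funext (Fin.forall_fin_two.mpr ⟨?_, ?_⟩)⟩ <;>
    · simp only [Pi.add_apply, Pi.smul_apply, smul_eq_mul]
      rw [div_mul_eq_mul_div, div_mul_eq_mul_div, ← add_div, eq_div_iff hd]
      ring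

variable {G : Type u} [Group G] [Finite G] {p : ℕ} [Fact p.Prime] {W Γ S M : Subgroup G}
  (C : Sit p W Γ S M)
include C

variable {g : G} {A : Subgroup G} (E : Ext p W Γ S M g A)
include E

set_option maxHeartbeats 1000000 in
/-- The final data of one member. -/
theorem Ext.exists_split (hodd : p ≠ 2) :
    ∃ (x : G) (T : Subgroup G) (F : Type) (_ : Field F) (_ : Fintype F), Pr p W Γ S M g A x T ∧
      Fintype.card F = Nat.card A ∧ ¬ p ∣ A.relIndex (A ⊔ cj x A) ∧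
      (∃ ρ : ↥(A ⊔ cj x A) →* Matrix.SpecialLinearGroup (Fin 2) F, Function.Bijective ρ) ∧
      (∀ s ∈ S, (∀ v ∈ ⁅A, W⁆, s * v * s⁻¹ = v) →
        ∃ a ∈ A, a⁻¹ * s ∈ centralizer ((A ⊔ cj x A : Subgroup G) : Set G)) ∧
      ∀ U : Subgroup G, U ≤ S → (∀ a ∈ U, ∀ b ∈ U, a * b = b * a) →
        (∀ E' : Subgroup G, E' ≤ U → meas W E' ≤ meas W U) → (∀ e ∈ U, cj e A = A) →
        ∀ e ∈ U, ∀ v ∈ ⁅A, W⁆, e * v * e⁻¹ = v := by
  classical
  obtain ⟨x, T, w', Q, hw', hw'Z, hsplit⟩ := E.exists_frame C hodd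
  obtain ⟨F, iF, fF, hF, ρ, ψ, hρ, hψ, hker, hact⟩ := Q.natural C E
  obtain ⟨u, hu, huG⟩ := C.exists_vec
  obtain ⟨H, hH⟩ : ∃ H, H = W ⊓ centralizer (A : Set G) := ⟨_, rfl⟩
  obtain ⟨Z, hZ⟩ : ∃ Z, Z = W ⊓ centralizer ((A ⊔ cj x A : Subgroup G) : Set G) := ⟨_, rfl⟩
  simp only [← hZ] at hw'Z hker
  rw [← hH] at hw'
  have hHW : H ≤ W := hH ▸ inf_le_left
  have hH'W : cj x H ≤ W := hH ▸ Q.conf.point_le Q.xP
  have hZH : Z ≤ H := hZ ▸ hH ▸ Q.z_le C E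
  have hAP : A ≤ A ⊔ cj x A := le_sup_left
  obtain ⟨Λ, hΛ⟩ : ∃ Λ : G → (Fin 2 → F), ∀ (v : G) (hv : v ∈ W), Λ v = Multiplicative.toAdd (ψ ⟨v, hv⟩) :=
    ⟨fun v => if hv : v ∈ W then Multiplicative.toAdd (ψ ⟨v, hv⟩) else 0, fun v hv => dif_pos hv⟩
  have hΛm : ∀ v ∈ W, ∀ w ∈ W, Λ (v * w) = Λ v + Λ w := fun v hv w hw => by
    rw [hΛ v hv, hΛ w hw, hΛ _ (mul_mem hv hw), ← toAdd_mul, ← map_mul]; rfl
  have hΛ0 : ∀ v ∈ W, (Λ v = 0 ↔ v ∈ Z) := fun v hv => by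
    rw [hΛ v hv, ← hker ⟨v, hv⟩]
    exact ⟨fun h => Multiplicative.toAdd.injective (h.trans toAdd_one.symm), fun h => by rw [h]; rfl⟩
  have hΛeq : ∀ v ∈ W, ∀ w ∈ W, (Λ v = Λ w ↔ v * w⁻¹ ∈ Z) := fun v hv w hw => by
    rw [← hΛ0 _ (mul_mem hv (inv_mem hw))]
    have h1 := hΛm _ (mul_mem hv (inv_mem hw)) w hw
    rw [inv_mul_cancel_right] at h1
    rw [h1]
    exact add_eq_right
  obtain ⟨Mt, hMt⟩ : ∃ Mt : G → Matrix (Fin 2) (Fin 2) F, ∀ (e : G) (he : e ∈ A ⊔ cj x A),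
      Mt e = ((ρ ⟨e, he⟩ : Matrix.SpecialLinearGroup (Fin 2) F) : Matrix (Fin 2) (Fin 2) F) :=
    ⟨fun e => if he : e ∈ A ⊔ cj x A then
      ((ρ ⟨e, he⟩ : Matrix.SpecialLinearGroup (Fin 2) F) : Matrix (Fin 2) (Fin 2) F) else 0,
      fun e he => dif_pos he⟩
  have hconj : ∀ e ∈ A ⊔ cj x A, ∀ v ∈ W, Λ (e * v * e⁻¹) = Mt e *ᵥ Λ v := fun e he v hv => by
    rw [hΛ v hv, hΛ _ (Q.conf.norm e he v hv), hMt e he]
    exact hact ⟨e, he⟩ ⟨v, hv⟩ _ rfl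
  have hMt1 : ∀ e ∈ A ⊔ cj x A, (∀ w, Mt e *ᵥ w = w) → e = 1 := fun e he hall => by
    have h1 : ρ ⟨e, he⟩ = 1 := Subtype.ext (Matrix.ext_of_mulVec_single fun i => by
      rw [← hMt e he, hall, Matrix.SpecialLinearGroup.coe_one, Matrix.one_mulVec])
    exact congrArg Subtype.val (hρ.1 (h1.trans (map_one ρ).symm))
  have hsub : ∀ a ∈ A, ∀ v ∈ W, Λ ⁅a, v⁆ = Mt a *ᵥ Λ v - Λ v := fun a ha v hv => by
    have h1 := hΛm _ (Q.conf.comm_mem (hAP ha) hv) v hv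
    rw [show ⁅a, v⁆ * v = a * v * a⁻¹ by rw [commutatorElement_def]; group, hconj a (hAP ha) v hv] at h1
    rw [h1]; abel
  have huH : u ∈ H := hH ▸ mem_fix.mpr ⟨hu.1, fun b hb => (mem_fix.mp hu).2 b (E.leS hb)⟩
  have he1 : Λ u ≠ 0 := fun h => by
    have := Q.vec_notZ C E (one_mem _) hu huG
    rw [one_mul, inv_one, mul_one, ← hZ] at this
    exact this ((hΛ0 u hu.1).mp h)
  obtain ⟨e1, he1'⟩ : ∃ e1, e1 = Λ u := ⟨_, rfl⟩
  rw [← he1'] at he1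
  -- the line of `H`
  have hfixA : ∀ a ∈ A, ∀ h ∈ H, Mt a *ᵥ Λ h = Λ h := fun a ha h hh => by
    rw [← hconj a (hAP ha) h (hHW hh), (mem_fix.mp (hH.le hh)).2 a ha]
  have hline : ∀ h ∈ H, ∃ f : F, Λ h = f • e1 := by
    intro h hh
    refine (two_dim he1 (Λ h)).resolve_right fun hall => E.mem.ne (eq_bot_iff.mpr fun a ha => ?_)
    refine mem_bot.mpr (hMt1 a (hAP ha) fun w => ?_)
    obtain ⟨α, β, rfl⟩ := hall w
    rw [Matrix.mulVec_add, Matrix.mulVec_smul, Matrix.mulVec_smul, he1', hfixA a ha u huH, hfixA a ha h hh]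
  have hcoef : ∀ {f f' : F}, f • e1 = f' • e1 → f = f' := fun h => smul_left_injective F he1 h
  obtain ⟨c, hc⟩ : ∃ c : A → F, ∀ a : A, Λ ⁅(a : G), w'⁆ = c a • e1 :=
    Classical.axiom_of_choice fun a : A => hline _ (hH ▸ Q.conf.quadratic a a.2 w' (hH'W hw'))
  have hcinj : Function.Injective c := fun a b e => Subtype.ext (by
    refine Q.conf.eval_inj Q.xP (Q.xnot C E) (hH ▸ hw') (fun h => hw'Z (hZ ▸ h)) a.2 b.2 ?_
    rw [← hZ, ← hΛeq _ (Q.conf.comm_mem (hAP b.2) (hH'W hw')) _ (Q.conf.comm_mem (hAP a.2) (hH'W hw')),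
      hc, hc, e])
  have hcsurj : Function.Surjective c := ((Nat.bijective_iff_injective_and_card c).mpr
    ⟨hcinj, by rw [Nat.card_eq_fintype_card (α := F), hF]⟩).2
  -- representatives
  obtain ⟨cinv, hcinv⟩ := hcsurj.hasRightInverse
  obtain ⟨rep, hrep⟩ : ∃ rep : F → G, ∀ f, rep f = ⁅((cinv f : A) : G), w'⁆ := ⟨_, fun _ => rfl⟩
  have hrepΛ : ∀ f, Λ (rep f) = f • e1 := fun f => by rw [hrep, hc, hcinv f]
  have hrepQ : ∀ f, rep f ∈ ⁅A, W⁆ := fun f => by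
    rw [hrep]; exact commutator_mem_commutator (cinv f).2 (hH'W hw')
  have hrepH : ∀ f, rep f ∈ H := fun f => hH ▸ Q.QA_le_H C E (hrepQ f)
  -- the second line
  have hQZ : ∀ v ∈ ⁅A, W⁆, v ∈ Z → v = 1 := fun v hv hvZ => Q.comm_inf C E hodd hv (hZ ▸ hvZ)
  obtain ⟨e2, he2⟩ : ∃ e2, e2 = Λ w' := ⟨_, rfl⟩
  have he2ne : ∀ f : F, e2 ≠ f • e1 := by
    intro f h
    have h1 : w' * (rep f)⁻¹ ∈ Z := (hΛeq _ (hH'W hw') _ (hHW (hrepH f))).mp (by rw [← he2, h, hrepΛ])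
    have h2 : w' ∈ H := by simpa using mul_mem (hZH h1) (hrepH f)
    exact hw'Z (hZ ▸ Q.conf.inter Q.xP (Q.xnot C E) (hH ▸ h2) (hH ▸ hw'))
  have hspan : ∀ w : Fin 2 → F, ∃ α β : F, w = α • e1 + β • e2 :=
    (two_dim he1 e2).resolve_left fun ⟨f, hf⟩ => he2ne f hf
  have hline2 : ∀ h ∈ cj x H, ∃ θ : F, Λ h = θ • e2 := by
    intro h hh
    obtain ⟨α, β, hαβ⟩ := hspan (Λ h)
    refine ⟨β, ?_⟩
    by_contra hne
    have hα : α ≠ 0 := fun h0 => hne (by rw [hαβ, h0, zero_smul, zero_add])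
    refine E.mem.ne (eq_bot_iff.mpr fun a ha => mem_bot.mpr ?_)
    have hb : x * a * x⁻¹ ∈ A ⊔ cj x A := le_sup_right (a := A) (conj_mem_cj x ha)
    have hfixB : ∀ k ∈ cj x H, Mt (x * a * x⁻¹) *ᵥ Λ k = Λ k := fun k hk => by
      rw [← hconj _ hb k (hH'W hk), Q.conf.point_fix (hH ▸ hk) (conj_mem_cj x ha)]
    have h1 := hfixB h hh
    rw [hαβ, Matrix.mulVec_add, Matrix.mulVec_smul, Matrix.mulVec_smul, he2, hfixB w' hw',
      add_left_inj] at h1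
    have h2 : Mt (x * a * x⁻¹) *ᵥ e1 = e1 := smul_right_injective _ hα h1
    have h3 : x * a * x⁻¹ = 1 := hMt1 _ hb fun w => by
      obtain ⟨γ, δ, rfl⟩ := hspan w
      rw [Matrix.mulVec_add, Matrix.mulVec_smul, Matrix.mulVec_smul, h2, he2, hfixB w' hw']
    exact conj_eq_one_iff.mp h3
  obtain ⟨-, -, hsup, -⟩ := Q.conf.cards Q.xP (Q.xnot C E)
  rw [← hH] at hsup
  have hsurj2 : ∀ θ : F, ∃ h ∈ cj x H, Λ h = θ • e2 := by
    intro θ
    obtain ⟨v, hv⟩ := hψ (Multiplicative.ofAdd (θ • e2))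
    have hvΛ : Λ v = θ • e2 := by rw [hΛ v v.2, Subtype.coe_eta, hv]; rfl
    obtain ⟨h1, hh1, h2, hh2, he⟩ := exists_mul_of_comm
      (fun a (ha : a ∈ H) b (hb : b ∈ cj x H) => C.wcomm a (hHW ha) b (hH'W hb)) (hsup.ge v.2)
    refine ⟨h2, hh2, ?_⟩
    rw [← he, hΛm _ (hHW hh1) _ (hH'W hh2)] at hvΛ
    obtain ⟨α, hα⟩ := hline h1 hh1
    obtain ⟨β, hβ⟩ := hline2 h2 hh2
    rw [hα, hβ] at hvΛ
    rw [hβ]
    congr 1
    by_contra hne
    by_cases hα0 : α = 0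
    · rw [hα0, zero_smul, zero_add] at hvΛ
      exact hne (smul_left_injective F (fun h => he2ne 0 (by rw [h, zero_smul])) hvΛ)
    · refine he2ne ((θ - β)⁻¹ * α) ?_
      rw [mul_smul, show α • e1 = θ • e2 - β • e2 from eq_sub_of_add_eq hvΛ, ← sub_smul, smul_smul,
        inv_mul_cancel₀ (sub_ne_zero.mpr (Ne.symm hne)), one_smul]
  -- the stabiliser
  obtain ⟨R, hR⟩ : ∃ R : Subgroup G, ∀ s, s ∈ R ↔ s ∈ S ∧ cj s A = A :=
    ⟨S ⊓ normalizer (A : Set G), fun s => ⟨fun h => ⟨h.1, cj_eq_of_norm h.2⟩,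
      fun h => mem_inf.mpr ⟨h.1, norm_of_cj h.2⟩⟩⟩
  have hRΓ : ∀ {s : G}, s ∈ R → s ∈ Γ := fun hs => C.syl.1 ((hR _).mp hs).1
  have hRH : ∀ {s : G}, s ∈ R → ∀ h ∈ H, s * h * s⁻¹ ∈ H := fun {s} hs h hh => by
    have := conj_mem_cj s hh
    rw [hH, C.cj_fix (hRΓ hs), ((hR s).mp hs).2] at this
    exact hH ▸ this
  -- the normalised part preserves the second point and the fixed space
  have hr : ∀ {r : G}, r ∈ Γ → cj r A = A → cj r (cj x A) = cj x A →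
      (∀ h ∈ cj x H, r * h * r⁻¹ ∈ cj x H) ∧ ∀ z ∈ Z, r * z * r⁻¹ ∈ Z := by
    intro r hrΓ hrA hrB
    refine ⟨fun h hh => ?_, fun z hz => ?_⟩
    · have := conj_mem_cj r hh
      rw [hH, C.cj_fix (Q.xΓ C E), C.cj_fix hrΓ, hrB, ← C.cj_fix (Q.xΓ C E), ← hH] at this
      exact this
    · have := conj_mem_cj r hz
      rwa [hZ, C.cj_fix hrΓ, show cj r (A ⊔ cj x A) = A ⊔ cj x A by
        rw [cj, Subgroup.map_sup]; exact congrArg₂ (· ⊔ ·) hrA hrB, ← hZ] at this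
  have hdec : ∀ {s : G}, s ∈ R → ∃ r, r ∈ R ∧ cj r (cj x A) = cj x A ∧ r * w' * r⁻¹ = w' ∧
      ∃ a ∈ A, s = a * r ∧ ∀ h ∈ H, s * h * s⁻¹ = r * h * r⁻¹ := by
    intro s hs
    obtain ⟨hsS, hsA⟩ := (hR s).mp hs
    obtain ⟨a, ha, h1, h2⟩ := hsplit s hsS hsA
    have hrR : a⁻¹ * s ∈ R := (hR _).mpr ⟨mul_mem (inv_mem (E.leS ha)) hsS, by
      rw [← cj_cj, hsA, cj_eq_of_norm (le_normalizer (inv_mem ha))]⟩
    refine ⟨a⁻¹ * s, hrR, h1, h2, a, ha, by rw [mul_inv_cancel_left], fun h hh => ?_⟩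
    have h3 := (mem_fix.mp (hH.le (hRH hrR h hh))).2 a ha
    calc s * h * s⁻¹ = a * ((a⁻¹ * s) * h * (a⁻¹ * s)⁻¹) * a⁻¹ := by group
      _ = _ := h3
  have hRZ : ∀ {s : G}, s ∈ R → ∀ z ∈ Z, s * z * s⁻¹ ∈ Z := fun {s} hs z hz => by
    obtain ⟨r, hrR, hrB, -, a, -, -, hh⟩ := hdec hs
    rw [hh z (hZH hz)]
    exact (hr (hRΓ hrR) ((hR r).mp hrR).2 hrB).2 z hz
  obtain ⟨φ, hφ⟩ : ∃ φ : G → F → F, ∀ s ∈ R, ∀ f, Λ (s * rep f * s⁻¹) = φ s f • e1 := by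
    have : ∀ (s : G) (f : F), ∃ v : F, s ∈ R → Λ (s * rep f * s⁻¹) = v • e1 := fun s f => by
      by_cases hs : s ∈ R
      · obtain ⟨v, hv⟩ := hline _ (hRH hs _ (hrepH f))
        exact ⟨v, fun _ => hv⟩
      · exact ⟨0, fun h => absurd h hs⟩
    choose v hv using this
    exact ⟨v, fun s hs f => hv s f hs⟩
  have hφd : ∀ s ∈ R, ∀ h ∈ H, ∀ f : F, Λ h = f • e1 → Λ (s * h * s⁻¹) = φ s f • e1 := by
    intro s hs h hh f hf
    rw [← hφ s hs f]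
    refine (hΛeq _ (hHW (hRH hs h hh)) _ (hHW (hRH hs _ (hrepH f)))).mpr ?_
    rw [show s * h * s⁻¹ * (s * rep f * s⁻¹)⁻¹ = s * (h * (rep f)⁻¹) * s⁻¹ by group]
    exact hRZ hs _ ((hΛeq _ (hHW hh) _ (hHW (hrepH f))).mp (by rw [hf, hrepΛ]))
  have hφadd : ∀ s ∈ R, ∀ f f', φ s (f + f') = φ s f + φ s f' := by
    intro s hs f f'
    refine hcoef ?_
    rw [← hφd s hs _ (mul_mem (hrepH f) (hrepH f')) (f + f') (by
      rw [hΛm _ (hHW (hrepH f)) _ (hHW (hrepH f')), hrepΛ, hrepΛ, add_smul]),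
      show s * (rep f * rep f') * s⁻¹ = (s * rep f * s⁻¹) * (s * rep f' * s⁻¹) by group,
      hΛm _ (hHW (hRH hs _ (hrepH f))) _ (hHW (hRH hs _ (hrepH f'))), hφ s hs, hφ s hs, add_smul]
  have hφone : ∀ s ∈ R, φ s 1 = 1 := by
    intro s hs
    refine hcoef ?_
    rw [← hφd s hs u huH 1 (by rw [one_smul, he1']), (mem_fix.mp hu).2 s ((hR s).mp hs).1, one_smul, he1']
  have hφcomp : ∀ s ∈ R, ∀ t ∈ R, ∀ f, φ (s * t) f = φ s (φ t f) := by
    intro s hs t ht f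
    refine hcoef ?_
    rw [← hφ (s * t) (mul_mem hs ht), ← hφd s hs _ (hRH ht _ (hrepH f)) _ (hφ t ht f)]
    congr 1
    group
  have hφid : ∀ f, φ 1 f = f := fun f => hcoef (by rw [← hφ 1 (one_mem _), one_mul, inv_one, mul_one, hrepΛ])
  -- compatibility with the second line
  have hkey : ∀ r ∈ R, cj r (cj x A) = cj x A → r * w' * r⁻¹ = w' → ∀ h ∈ cj x H, ∀ θ : F, Λ h = θ • e2 →
      Λ (r * h * r⁻¹) = φ r θ • e2 ∧ ∀ f, φ r (θ * f) = φ r θ * φ r f := by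
    intro r hrR hrB hrw h hh θ hθ
    obtain ⟨hrH', -⟩ := hr (hRΓ hrR) ((hR r).mp hrR).2 hrB
    obtain ⟨θ', hθ'⟩ := hline2 _ (hrH' h hh)
    have step : ∀ (a : A) (k : G) (η η' : F), k ∈ cj x H → Λ k = η • e2 → Λ (r * k * r⁻¹) = η' • e2 →
        ∃ a' : A, φ r (η * c a) = η' * c a' ∧ r * (a : G) * r⁻¹ = a' := by
      intro a k η η' hk hη hη'
      have haR : r * (a : G) * r⁻¹ ∈ A := ((hR r).mp hrR).2.le (conj_mem_cj r a.2)
      refine ⟨⟨_, haR⟩, hcoef ?_, rfl⟩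
      have hlin : ∀ (b : A) (k : G) (η : F), k ∈ W → Λ k = η • e2 → Λ ⁅(b : G), k⁆ = (η * c b) • e1 := by
        intro b k η hk hη
        rw [hsub b b.2 k hk, hη, Matrix.mulVec_smul, ← smul_sub, mul_smul, ← hc b, hsub b b.2 w' (hH'W hw'), he2]
      rw [← hlin ⟨_, haR⟩ _ η' (hH'W (hrH' k hk)) hη',
        ← hφd r hrR _ (hH ▸ Q.conf.quadratic a a.2 k (hH'W hk)) _ (hlin a k η (hH'W hk) hη)]
      congr 1
      simp only [commutatorElement_def]; group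
    have hc' : ∀ (a a' : A), r * (a : G) * r⁻¹ = a' → φ r (c a) = c a' := by
      intro a a' e
      obtain ⟨a'', h1, h2⟩ := step a w' 1 1 hw' (by rw [one_smul, he2]) (by rw [hrw, one_smul, he2])
      rw [one_mul, one_mul] at h1
      rw [h1, show a' = a'' from Subtype.ext (e.symm.trans h2)]
    have hθe : θ' = φ r θ := by
      obtain ⟨a1, ha1⟩ := hcsurj 1
      obtain ⟨a', h1, h2⟩ := step a1 h θ θ' hh hθ hθ'
      rw [ha1, mul_one, ← hc' a1 a' h2, ha1, hφone r hrR, mul_one] at h1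
      exact h1.symm
    refine ⟨hθe ▸ hθ', fun f => ?_⟩
    obtain ⟨af, rfl⟩ := hcsurj f
    obtain ⟨a', h1, h2⟩ := step af h θ θ' hh hθ hθ'
    rw [h1, hθe, hc' af a' h2]
  have hφmul : ∀ s ∈ R, ∀ f f', φ s (f * f') = φ s f * φ s f' := by
    intro s hs f f'
    obtain ⟨r, hrR, hrB, hrw, a, -, -, hh⟩ := hdec hs
    have he : ∀ g, φ s g = φ r g := fun g => hcoef (by rw [← hφ s hs, hh _ (hrepH g), hφ r hrR])
    rw [he, he, he]
    obtain ⟨h, hh', hθ⟩ := hsurj2 f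
    exact (hkey r hrR hrB hrw h hh' f hθ).2 f'
  let Φ : ↥R →* RingAut F :=
    { toFun := fun s =>
        { toFun := φ s
          invFun := φ (s⁻¹ : ↥R)
          left_inv := fun f => by rw [← hφcomp _ (s⁻¹).2 _ s.2, ← coe_mul, inv_mul_cancel, coe_one, hφid]
          right_inv := fun f => by rw [← hφcomp _ s.2 _ (s⁻¹).2, ← coe_mul, mul_inv_cancel, coe_one, hφid]
          map_mul' := hφmul s s.2
          map_add' := hφadd s s.2 }
      map_one' := RingEquiv.ext fun f => hφid f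
      map_mul' := fun s t => RingEquiv.ext fun f => hφcomp s s.2 t t.2 f }
  -- fixed vectors
  have hQfix : ∀ s ∈ R, ∀ v ∈ ⁅A, W⁆, ∀ f : F, Λ v = f • e1 → (s * v * s⁻¹ = v ↔ φ s f = f) := by
    intro s hs v hv f hf
    have hvH : v ∈ H := hH ▸ Q.QA_le_H C E hv
    have hsv : s * v * s⁻¹ ∈ ⁅A, W⁆ := by
      have := conj_mem_cj s hv
      rwa [C.cj_commW (hRΓ hs), ((hR s).mp hs).2] at this
    refine ⟨fun h => hcoef ?_, fun h => mul_inv_eq_one.mp (hQZ _ (mul_mem hsv (inv_mem hv)) ?_)⟩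
    · rw [← hφd s hs v hvH f hf, h, hf]
    · exact (hΛeq _ (hHW (hRH hs v hvH)) _ (hHW hvH)).mp (by rw [hφd s hs v hvH f hf, h, hf])
  refine ⟨x, T, F, iF, fF, Q, hF, ?_, ⟨ρ, hρ⟩, ?_, ?_⟩
  · intro hd
    have h1 := relIndex_mul_relIndex ⊥ A (A ⊔ cj x A) bot_le hAP
    rw [relIndex_bot_left, relIndex_bot_left, Nat.card_congr (MulEquiv.ofBijective ρ hρ).toEquiv,
      PSLTwo.natCard_SL_two, hF] at h1
    have h2 := Nat.eq_of_mul_eq_mul_left Nat.card_pos h1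
    rw [h2] at hd
    obtain ⟨n, hn⟩ := IsPGroup.iff_card.mp E.mem.pg
    have hn0 : n ≠ 0 := fun h => E.mem.ne (Subgroup.card_eq_one.mp (by rw [hn, h, pow_zero]))
    have hpdvd : p ∣ Nat.card A := hn ▸ dvd_pow_self p hn0
    have hp := (Fact.out : p.Prime)
    rcases hp.dvd_mul.mp hd with h | h
    · have h' : p ∣ Nat.card A - (Nat.card A - 1) := Nat.dvd_sub hpdvd h
      rw [show Nat.card A - (Nat.card A - 1) = 1 from by have := Nat.card_pos (α := A); omega] at h'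
      exact hp.not_dvd_one h'
    · exact hp.not_dvd_one ((Nat.dvd_add_right hpdvd).mp h)
  · intro s hs hfix
    obtain ⟨v, hv, hv1⟩ : ∃ v ∈ ⁅A, W⁆, v ≠ 1 :=
      ⟨rep 1, hrepQ 1, fun h => he1 (by
        have := hrepΛ 1
        rw [h, one_smul, (hΛ0 1 (one_mem _)).mpr (one_mem _)] at this
        exact this.symm)⟩
    have hsR : s ∈ R := (hR s).mpr ⟨hs, E.of_fix_vec C hodd hs hv hv1 (hfix v hv)⟩
    obtain ⟨r, hrR, hrB, hrw, a, ha, hsr, hh⟩ := hdec hsR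
    refine ⟨a, ha, ?_⟩
    rw [hsr, inv_mul_cancel_left]
    have hid : ∀ f, φ r f = f := fun f => by
      refine hcoef ?_
      rw [← hφ r hrR, ← hh _ (hrepH f), hfix _ (hrepQ f), hrepΛ]
    have hW : ∀ v ∈ W, Λ (r * v * r⁻¹) = Λ v := by
      intro v hv
      obtain ⟨h1, hh1, h2, hh2, rfl⟩ := exists_mul_of_comm
        (fun a (ha : a ∈ H) b (hb : b ∈ cj x H) => C.wcomm a (hHW ha) b (hH'W hb)) (hsup.ge hv)
      obtain ⟨f, hf⟩ := hline h1 hh1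
      obtain ⟨θ, hθ⟩ := hline2 h2 hh2
      have hrW := fun k (hk : k ∈ W) => C.norm r (hRΓ hrR) k hk
      rw [show r * (h1 * h2) * r⁻¹ = (r * h1 * r⁻¹) * (r * h2 * r⁻¹) by group,
        hΛm _ (hrW _ (hHW hh1)) _ (hrW _ (hH'W hh2)), hΛm _ (hHW hh1) _ (hH'W hh2), hφd r hrR h1 hh1 f hf,
        (hkey r hrR hrB hrw h2 hh2 θ hθ).1, hid, hid, hf, hθ]
    refine mem_centralizer_iff.mpr fun l hl => ?_
    have hrP : ∀ k ∈ A ⊔ cj x A, r * k * r⁻¹ ∈ A ⊔ cj x A := fun k hk => by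
      have e : cj r (A ⊔ cj x A) = A ⊔ cj x A := by
        rw [cj, Subgroup.map_sup]; exact congrArg₂ (· ⊔ ·) ((hR r).mp hrR).2 hrB
      exact e.le (conj_mem_cj r hk)
    have hcP : ⁅r, l⁆ ∈ A ⊔ cj x A := by
      rw [commutatorElement_def]; exact mul_mem (hrP l hl) (inv_mem hl)
    have hc1 : ⁅r, l⁆ = 1 := by
      refine hMt1 _ hcP fun w => ?_
      obtain ⟨v, hv⟩ := hψ (Multiplicative.ofAdd w)
      have hvw : Λ v = w := by rw [hΛ v v.2, Subtype.coe_eta, hv]; rfl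
      rw [← hvw, ← hconj _ hcP v v.2]
      have hrW := fun k (hk : k ∈ W) => C.norm r (hRΓ hrR) k hk
      have hlW := Q.conf.norm l hl
      have hlW' := Q.conf.norm l⁻¹ (inv_mem hl)
      have hv1 : r⁻¹ * ((l⁻¹ * (v : G) * l)) * r ∈ W := by
        simpa using C.norm r⁻¹ (inv_mem (hRΓ hrR)) _ (by simpa using hlW' v v.2)
      calc Λ (⁅r, l⁆ * v * ⁅r, l⁆⁻¹)
          = Λ (r * (l * (r⁻¹ * (l⁻¹ * v * l) * r) * l⁻¹) * r⁻¹) := by
            congr 1; simp only [commutatorElement_def]; group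
        _ = Λ (l * (r⁻¹ * (l⁻¹ * v * l) * r) * l⁻¹) := hW _ (hlW _ hv1)
        _ = Mt l *ᵥ Λ (r⁻¹ * (l⁻¹ * v * l) * r) := hconj l hl _ hv1
        _ = Mt l *ᵥ Λ (l⁻¹ * v * l) := by
            rw [← hW _ hv1]
            congr 2
            group
        _ = Λ v := by
            rw [← hconj l hl _ (by simpa using hlW' v v.2)]
            congr 1
            group
    exact (commutatorElement_eq_one_iff_mul_comm.mp hc1).symm
  · intro U hUS hUc hmax hUA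
    have hUR : U ≤ R := fun e he => (hR e).mpr ⟨hUS he, hUA e he⟩
    obtain ⟨ΦU, hΦU⟩ : ∃ ΦU : ↥U →* RingAut F, ΦU = Φ.comp (inclusion hUR) := ⟨_, rfl⟩
    obtain ⟨U', hU'⟩ : ∃ U', U' = ΦU.ker.map U.subtype := ⟨_, rfl⟩
    have hU'U : U' ≤ U := hU' ▸ map_subtype_le _
    have hfixU' : ∀ e ∈ U', ∀ v ∈ ⁅A, W⁆, e * v * e⁻¹ = v := by
      intro e he v hv
      rw [hU'] at he
      obtain ⟨e0, he0, rfl⟩ := he
      obtain ⟨f, hf⟩ := hline v (hH ▸ Q.QA_le_H C E hv)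
      refine (hQfix _ (hUR e0.2) v hv f hf).mpr ?_
      have h1 : ΦU e0 = 1 := he0
      rw [hΦU] at h1
      exact RingEquiv.congr_fun h1 f
    suffices hk1 : U' = U by exact fun e he => hfixU' e (hk1.ge he)
    -- the count
    obtain ⟨G0, hG0⟩ : ∃ G0, G0 = ΦU.range := ⟨_, rfl⟩
    haveI : Finite (RingAut F) := Finite.of_injective (fun e : RingAut F => (e : F → F)) DFunLike.coe_injective
    haveI : Fintype ↥G0 := Fintype.ofFinite _
    haveI : FaithfulSMul ↥G0 F := ⟨fun {a b} h => Subtype.ext (RingEquiv.ext fun f => h f)⟩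
    obtain ⟨F0, hF0⟩ : ∃ F0, F0 = FixedPoints.subfield ↥G0 F := ⟨_, rfl⟩
    have hFcard : Fintype.card F = Nat.card ↥F0 ^ Nat.card ↥G0 := by
      rw [← Nat.card_eq_fintype_card (α := F), Module.natCard_eq_pow_finrank (K := ↥F0), hF0,
        FixedPoints.finrank_eq_card, Nat.card_eq_fintype_card (α := ↥G0)]
    obtain ⟨CU, hCU⟩ : ∃ CU, CU = W ⊓ centralizer (U : Set G) := ⟨_, rfl⟩
    obtain ⟨QA, hQA⟩ : ∃ QA, QA = ⁅A, W⁆ := ⟨_, rfl⟩
    have hQW : QA ≤ W := hQA ▸ E.QA_le C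
    have hQcard : Fintype.card F ≤ Nat.card ↥QA := by
      rw [← Nat.card_eq_fintype_card]
      refine Nat.card_le_card_of_injective (fun f => (⟨rep f, hQA ▸ hrepQ f⟩ : ↥QA)) fun f f' h => hcoef ?_
      rw [← hrepΛ, ← hrepΛ, show rep f = rep f' from congrArg Subtype.val h]
    have hfixcard : Nat.card ↥(QA ⊓ CU) ≤ Nat.card ↥F0 := by
      have hcf : ∀ v : ↥(QA ⊓ CU), ∃ f : F, Λ v = f • e1 := fun v => hline v (hH ▸ Q.QA_le_H C E (hQA ▸ v.2.1))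
      choose cf hcf using hcf
      have hin : ∀ v, cf v ∈ F0 := fun v => by
        rw [hF0]
        rintro ⟨σ, hσ⟩
        rw [hG0] at hσ
        obtain ⟨e0, rfl⟩ := hσ
        show ΦU e0 (cf v) = cf v
        rw [hΦU]
        exact (hQfix _ (hUR e0.2) v (hQA ▸ v.2.1) _ (hcf v)).mp ((mem_fix.mp (hCU.le v.2.2)).2 e0 e0.2)
      refine Nat.card_le_card_of_injective (fun v => (⟨cf v, hin v⟩ : ↥F0)) fun v v' h => Subtype.ext ?_
      have h' : cf v = cf v' := congrArg Subtype.val h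
      refine mul_inv_eq_one.mp (hQZ _ (hQA ▸ mul_mem v.2.1 (inv_mem v'.2.1)) ?_)
      exact (hΛeq _ (hQW v.2.1) _ (hQW v'.2.1)).mp (by rw [hcf, hcf, h'])
    have hsupcard := card_sup_mul_card_inf (H := QA) (N := CU) fun q hq => centralizer_le_normalizer _
      (mem_centralizer_iff.mpr fun k hk => C.wcomm k (hCU.le hk).1 q (hQW hq))
    have hle : QA ⊔ CU ≤ W ⊓ centralizer (U' : Set G) := sup_le
      (fun v hv => mem_fix.mpr ⟨hQW hv, fun e he => hfixU' e he v (hQA ▸ hv)⟩)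
      (hCU ▸ inf_le_inf le_rfl (centralizer_le (SetLike.coe_subset_coe.mpr hU'U)))
    have hineq : Fintype.card F * Nat.card ↥CU ≤ Nat.card ↥(W ⊓ centralizer (U' : Set G)) * Nat.card ↥F0 :=
      (Nat.mul_le_mul_right _ hQcard).trans (hsupcard ▸ Nat.mul_le_mul (card_le_of_le hle) hfixcard)
    have hm := hmax U' hU'U
    have hU'card : Nat.card U' = Nat.card ↥ΦU.ker := hU' ▸ card_map_of_injective U.subtype_injective
    have hUcard : Nat.card U = Nat.card ↥G0 * Nat.card U' := by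
      rw [card_eq_card_quotient_mul_card_subgroup ΦU.ker, hU'card, hG0,
        Nat.card_congr (QuotientGroup.quotientKerEquivRange ΦU).toEquiv]
    rw [meas, meas, ← hCU, hUcard] at hm
    obtain ⟨k, hk⟩ : ∃ k, k = Nat.card ↥G0 := ⟨_, rfl⟩
    rw [← hk] at hm hFcard hUcard
    have hc : Nat.card ↥F0 ^ k * Nat.card ↥CU ≤ k * Nat.card ↥F0 * Nat.card ↥CU := by
      refine Nat.le_of_mul_le_mul_left ?_ (Nat.card_pos (α := ↥U'))
      calc Nat.card ↥U' * (Nat.card ↥F0 ^ k * Nat.card ↥CU)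
          ≤ Nat.card ↥U' * (Nat.card ↥(W ⊓ centralizer (U' : Set G)) * Nat.card ↥F0) :=
            Nat.mul_le_mul_left _ (hFcard ▸ hineq)
        _ ≤ k * Nat.card ↥U' * Nat.card ↥CU * Nat.card ↥F0 := by
            rw [← mul_assoc]; exact Nat.mul_le_mul_right _ hm
        _ = _ := by ring
    have hc2 : Nat.card ↥F0 ^ k ≤ k * Nat.card ↥F0 := Nat.le_of_mul_le_mul_right hc Nat.card_pos
    have hF03 : 3 ≤ Nat.card ↥F0 := by
      by_contra h
      have h1 : 1 < Nat.card ↥F0 := Finite.one_lt_card_iff_nontrivial.mpr inferInstance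
      have h2 : Nat.card ↥F0 = 2 := by omega
      obtain ⟨n, hn⟩ := IsPGroup.iff_card.mp E.mem.pg
      rw [h2, hF, hn] at hFcard
      have hn0 : n ≠ 0 := fun h => E.mem.ne (Subgroup.card_eq_one.mp (by rw [hn, h, pow_zero]))
      have h3 : p ∣ 2 := (Fact.out : p.Prime).dvd_of_dvd_pow (hFcard ▸ dvd_pow_self p hn0)
      exact hodd ((Nat.prime_dvd_prime_iff_eq Fact.out Nat.prime_two).mp h3)
    have hk0 : 0 < k := hk ▸ Nat.card_pos
    have hkone : k = 1 := by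
      by_contra hne
      have key : ∀ n : ℕ, 1 ≤ n → n + 1 < Nat.card ↥F0 ^ n := by
        intro n hn
        induction n with
        | zero => omega
        | succ n ih =>
          rw [pow_succ]
          rcases Nat.eq_zero_or_pos n with rfl | hn'
          · rw [pow_zero, one_mul]; omega
          · have := ih hn'
            nlinarith
      obtain ⟨n, rfl⟩ : ∃ n, k = n + 1 := ⟨k - 1, by omega⟩
      rw [pow_succ] at hc2
      exact absurd (Nat.le_of_mul_le_mul_right hc2 Nat.card_pos) (not_le.mpr (key n (by omega)))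
    exact eq_of_le_of_card_ge hU'U (by rw [hUcard, hkone, one_mul])

end Cfsg.Agent.Fus.RootPair
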