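import Mathlib

/-!
The correspondence between the 40 non-isotropic points of the Hermitian space of dimension 4 over
`F_4` and the 40 points of the symplectic space of dimension 4 over `F_3`, with the checks.
-/

set_option autoImplicit false
set_option maxRecDepth 8000

namespace Cfsg.Agent.Fus.PSUFourTwo

/-- Points of the Hermitian space, coded in base 4. -/
def uCode : List ℕ := [64, 16, 4, 84, 148, 212, 100, 164, 228, 116, 180, 244, 1, 81, 145, 209, 97, 161, 225, 113, 177, 241, 69, 133, 197, 21, 37, 53, 73, 137, 201, 25, 41, 57, 77, 141, 205, 29, 45, 61]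

/-- The corresponding points of the symplectic space, coded in base 3. -/
def wCode : List ℕ := [27, 9, 36, 4, 31, 58, 13, 40, 67, 22, 49, 76, 63, 7, 61, 34, 16, 70, 43, 25, 79, 52, 3, 30, 57, 1, 10, 19, 39, 66, 12, 37, 46, 28, 75, 21, 48, 73, 55, 64]

/-- The permutations of the points by the 40 reflections, row by row. -/
def pCode : List (List ℕ) := [[0, 1, 2, 4, 5, 3, 7, 8, 6, 10, 11, 9, 12, 14, 15, 13, 17, 18, 16, 20, 21, 19, 23, 24, 22, 25, 26, 27, 29, 30, 28, 31, 32, 33, 35, 36, 34, 37, 38, 39],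
  [0, 1, 2, 6, 7, 8, 9, 10, 11, 3, 4, 5, 12, 16, 17, 18, 19, 20, 21, 13, 14, 15, 22, 23, 24, 26, 27, 25, 28, 29, 30, 32, 33, 31, 34, 35, 36, 38, 39, 37],
  [0, 1, 2, 11, 9, 10, 5, 3, 4, 8, 6, 7, 12, 13, 14, 15, 16, 17, 18, 19, 20, 21, 28, 29, 30, 31, 32, 33, 34, 35, 36, 37, 38, 39, 22, 23, 24, 25, 26, 27],
  [5, 9, 7, 3, 0, 4, 1, 11, 8, 6, 10, 2, 12, 13, 33, 23, 30, 17, 37, 26, 34, 21, 22, 38, 14, 25, 35, 16, 18, 29, 27, 20, 32, 24, 31, 19, 36, 28, 15, 39],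
  [3, 10, 8, 5, 4, 0, 6, 1, 9, 2, 7, 11, 12, 24, 14, 33, 37, 28, 18, 19, 26, 35, 15, 23, 38, 25, 36, 17, 27, 16, 30, 21, 32, 22, 34, 31, 20, 29, 13, 39],
  [4, 11, 6, 0, 3, 5, 10, 7, 1, 9, 2, 8, 12, 33, 22, 15, 16, 37, 29, 36, 20, 26, 38, 13, 24, 25, 34, 18, 28, 27, 17, 19, 32, 23, 21, 35, 31, 30, 14, 39],
  [8, 3, 10, 9, 4, 2, 6, 0, 7, 1, 5, 11, 12, 27, 34, 15, 16, 31, 23, 30, 20, 38, 22, 39, 17, 19, 26, 35, 21, 29, 25, 24, 14, 33, 32, 13, 36, 37, 28, 18],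
  [6, 4, 11, 2, 10, 5, 8, 7, 0, 9, 1, 3, 12, 13, 27, 35, 24, 17, 31, 38, 28, 21, 18, 23, 39, 20, 26, 36, 25, 19, 30, 22, 15, 33, 34, 32, 14, 37, 29, 16],
  [7, 5, 9, 3, 2, 11, 0, 6, 8, 4, 10, 1, 12, 36, 14, 27, 31, 22, 18, 19, 38, 29, 39, 16, 24, 21, 26, 34, 28, 25, 20, 23, 13, 33, 15, 35, 32, 37, 30, 17],
  [11, 6, 4, 1, 8, 5, 3, 7, 2, 9, 0, 10, 12, 30, 14, 39, 25, 34, 18, 19, 32, 23, 22, 37, 20, 35, 13, 27, 15, 29, 26, 31, 24, 17, 33, 16, 36, 21, 38, 28],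
  [9, 7, 5, 3, 1, 6, 2, 4, 8, 11, 10, 0, 12, 39, 28, 15, 16, 25, 35, 24, 20, 32, 21, 23, 37, 36, 14, 27, 26, 13, 30, 31, 22, 18, 34, 33, 17, 19, 38, 29],
  [10, 8, 3, 7, 4, 1, 6, 2, 5, 0, 9, 11, 12, 13, 39, 29, 36, 17, 25, 32, 22, 21, 37, 19, 24, 34, 15, 27, 28, 26, 14, 31, 23, 16, 18, 35, 33, 20, 38, 30],
  [0, 1, 2, 3, 4, 5, 6, 7, 8, 9, 10, 11, 12, 21, 19, 20, 15, 13, 14, 18, 16, 17, 36, 34, 35, 39, 37, 38, 24, 22, 23, 27, 25, 26, 30, 28, 29, 33, 31, 32],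
  [15, 19, 2, 3, 38, 23, 35, 7, 32, 26, 29, 11, 17, 13, 0, 14, 1, 21, 18, 16, 20, 12, 22, 33, 4, 25, 30, 6, 28, 39, 9, 31, 36, 5, 34, 27, 8, 37, 24, 10],
  [13, 20, 2, 24, 4, 38, 32, 36, 8, 9, 26, 30, 18, 15, 14, 0, 16, 1, 19, 12, 17, 21, 5, 23, 33, 25, 28, 7, 10, 29, 39, 31, 34, 3, 6, 35, 27, 37, 22, 11],
  [14, 21, 2, 38, 22, 5, 6, 32, 34, 28, 10, 26, 16, 0, 13, 15, 20, 17, 1, 19, 12, 18, 33, 3, 24, 25, 29, 8, 39, 11, 30, 31, 35, 4, 27, 7, 36, 37, 23, 9],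
  [18, 13, 2, 27, 29, 5, 6, 39, 23, 35, 10, 33, 20, 19, 14, 12, 16, 0, 17, 1, 15, 21, 22, 31, 7, 9, 26, 30, 28, 37, 3, 8, 32, 36, 34, 25, 11, 4, 38, 24],
  [16, 14, 2, 3, 27, 30, 24, 7, 39, 33, 36, 11, 21, 12, 20, 15, 18, 17, 0, 19, 1, 13, 8, 23, 31, 10, 26, 28, 4, 29, 37, 6, 32, 34, 9, 35, 25, 5, 38, 22],
  [17, 15, 2, 28, 4, 27, 39, 22, 8, 9, 33, 34, 19, 13, 12, 21, 0, 16, 18, 14, 20, 1, 31, 6, 24, 11, 26, 29, 37, 5, 30, 7, 32, 35, 25, 10, 36, 3, 38, 23],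
  [21, 16, 2, 35, 4, 31, 25, 29, 8, 9, 37, 23, 14, 1, 18, 15, 13, 17, 12, 19, 0, 20, 22, 32, 10, 30, 3, 27, 28, 38, 6, 36, 11, 33, 34, 26, 5, 24, 7, 39],
  [19, 17, 2, 31, 36, 5, 6, 25, 30, 24, 10, 37, 15, 13, 1, 16, 12, 14, 18, 21, 20, 0, 11, 23, 32, 28, 4, 27, 7, 29, 38, 34, 9, 33, 3, 35, 26, 22, 8, 39],
  [20, 18, 2, 3, 31, 34, 28, 7, 25, 37, 22, 11, 13, 17, 14, 1, 16, 12, 15, 0, 19, 21, 32, 9, 24, 29, 5, 27, 38, 8, 30, 35, 10, 33, 26, 4, 36, 23, 6, 39],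
  [24, 1, 34, 3, 33, 14, 6, 31, 17, 9, 32, 20, 29, 13, 38, 4, 16, 39, 7, 19, 37, 10, 22, 0, 23, 25, 26, 27, 2, 36, 30, 18, 21, 15, 28, 35, 12, 11, 5, 8],
  [22, 1, 35, 15, 4, 33, 18, 7, 31, 21, 10, 32, 30, 5, 14, 38, 8, 17, 39, 11, 20, 37, 24, 23, 0, 25, 26, 27, 28, 2, 34, 16, 19, 13, 12, 29, 36, 9, 3, 6],
  [23, 1, 36, 33, 13, 5, 31, 16, 8, 32, 19, 11, 28, 38, 3, 15, 39, 6, 18, 37, 9, 21, 0, 22, 24, 25, 26, 27, 35, 29, 2, 17, 20, 14, 34, 12, 30, 10, 4, 7],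
  [0, 27, 37, 3, 4, 5, 30, 28, 29, 16, 17, 18, 32, 13, 14, 15, 35, 36, 34, 6, 7, 8, 22, 23, 24, 25, 1, 26, 20, 21, 19, 2, 39, 33, 11, 9, 10, 31, 38, 12],
  [0, 25, 38, 19, 20, 21, 6, 7, 8, 30, 28, 29, 33, 9, 10, 11, 16, 17, 18, 35, 36, 34, 22, 23, 24, 27, 26, 1, 14, 15, 13, 31, 2, 37, 5, 3, 4, 12, 32, 39],
  [0, 26, 39, 30, 28, 29, 13, 14, 15, 9, 10, 11, 31, 35, 36, 34, 3, 4, 5, 19, 20, 21, 22, 23, 24, 1, 25, 27, 17, 18, 16, 38, 32, 2, 8, 6, 7, 37, 12, 33],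
  [30, 1, 22, 37, 17, 5, 38, 20, 8, 39, 14, 11, 35, 13, 26, 9, 16, 27, 3, 19, 25, 6, 34, 23, 12, 7, 10, 4, 28, 0, 29, 31, 32, 33, 2, 24, 36, 18, 21, 15],
  [28, 1, 23, 3, 37, 18, 6, 38, 21, 9, 39, 15, 36, 10, 14, 26, 4, 17, 27, 7, 20, 25, 12, 35, 24, 8, 11, 5, 30, 29, 0, 31, 32, 33, 34, 2, 22, 16, 19, 13],
  [29, 1, 24, 16, 4, 37, 19, 7, 38, 13, 10, 39, 34, 26, 11, 15, 27, 5, 18, 25, 8, 21, 22, 12, 36, 6, 9, 3, 0, 28, 30, 31, 32, 33, 23, 35, 2, 17, 20, 14],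
  [0, 33, 25, 34, 35, 36, 17, 18, 16, 9, 10, 11, 38, 13, 14, 15, 23, 24, 22, 5, 3, 4, 7, 8, 6, 37, 26, 12, 28, 29, 30, 31, 1, 32, 20, 21, 19, 2, 27, 39],
  [0, 31, 26, 3, 4, 5, 34, 35, 36, 20, 21, 19, 39, 8, 6, 7, 16, 17, 18, 23, 24, 22, 10, 11, 9, 12, 38, 27, 28, 29, 30, 33, 32, 1, 14, 15, 13, 37, 2, 25],
  [0, 32, 27, 14, 15, 13, 6, 7, 8, 34, 35, 36, 37, 23, 24, 22, 11, 9, 10, 19, 20, 21, 4, 5, 3, 25, 12, 39, 28, 29, 30, 1, 31, 33, 17, 18, 16, 26, 38, 2],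
  [36, 1, 28, 20, 4, 26, 14, 7, 27, 17, 10, 25, 23, 13, 32, 8, 16, 33, 11, 19, 31, 5, 2, 30, 24, 18, 21, 15, 22, 29, 12, 3, 6, 9, 34, 0, 35, 37, 38, 39],
  [34, 1, 29, 26, 21, 5, 27, 15, 8, 25, 18, 11, 24, 6, 14, 32, 9, 17, 33, 3, 20, 31, 22, 2, 28, 16, 19, 13, 12, 23, 30, 4, 7, 10, 36, 35, 0, 37, 38, 39],
  [35, 1, 30, 3, 26, 19, 6, 27, 13, 9, 25, 16, 22, 32, 7, 15, 33, 10, 18, 31, 4, 21, 29, 23, 2, 17, 20, 14, 28, 12, 24, 5, 8, 11, 0, 34, 36, 37, 38, 39],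
  [0, 39, 31, 18, 16, 17, 6, 7, 8, 23, 24, 22, 26, 13, 14, 15, 29, 30, 28, 10, 11, 9, 20, 21, 19, 2, 33, 27, 3, 4, 5, 25, 32, 12, 34, 35, 36, 37, 1, 38],
  [0, 37, 32, 23, 24, 22, 21, 19, 20, 9, 10, 11, 27, 4, 5, 3, 16, 17, 18, 29, 30, 28, 14, 15, 13, 25, 2, 31, 6, 7, 8, 12, 26, 33, 34, 35, 36, 39, 38, 1],
  [0, 38, 33, 3, 4, 5, 23, 24, 22, 15, 13, 14, 25, 29, 30, 28, 7, 8, 6, 19, 20, 21, 17, 18, 16, 32, 26, 2, 9, 10, 11, 31, 12, 27, 34, 35, 36, 1, 37, 39]]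

/-- Addition in `F_4`. -/
def add4 (a b : Fin 4) : Fin 4 :=
  Fin.ofNat 4 (([[0, 1, 2, 3], [1, 0, 3, 2], [2, 3, 0, 1], [3, 2, 1, 0]] : List (List ℕ)).getD a.val []
    |>.getD b.val 0)

/-- Multiplication in `F_4`, with `2 = ω`, `3 = ω²`. -/
def mul4 (a b : Fin 4) : Fin 4 :=
  Fin.ofNat 4 (([[0, 0, 0, 0], [0, 1, 2, 3], [0, 2, 3, 1], [0, 3, 1, 2]] : List (List ℕ)).getD a.val []
    |>.getD b.val 0)

/-- The Hermitian form on codes. -/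
def herm4 (u v : Fin 4 → Fin 4) : Fin 4 :=
  add4 (add4 (add4 (mul4 (u 0) (mul4 (v 0) (v 0))) (mul4 (u 1) (mul4 (v 1) (v 1))))
    (mul4 (u 2) (mul4 (v 2) (v 2)))) (mul4 (u 3) (mul4 (v 3) (v 3)))

/-- The points of the Hermitian space. -/
def uPt (i : Fin 40) (l : Fin 4) : Fin 4 := Fin.ofNat 4 (uCode.getD i.val 0 / 4 ^ l.val)

/-- The points of the symplectic space. -/
def wPt (i : Fin 40) (l : Fin 2 ⊕ Fin 2) : ZMod 3 :=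
  Sum.elim (fun a => ((wCode.getD i.val 0 / 3 ^ a.val : ℕ) : ZMod 3))
    (fun a => ((wCode.getD i.val 0 / 3 ^ (2 + a.val) : ℕ) : ZMod 3)) l

/-- The permutations. -/
def pPt (i j : Fin 40) : Fin 40 := Fin.ofNat 40 ((pCode.getD i.val []).getD j.val 0)

/-- The symplectic form on codes. -/
def symp3 (u v : Fin 2 ⊕ Fin 2 → ZMod 3) : ZMod 3 :=
  u (.inr 0) * v (.inl 0) - u (.inl 0) * v (.inr 0) + (u (.inr 1) * v (.inl 1) - u (.inl 1) * v (.inr 1))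

theorem herm_uPt : ∀ i, herm4 (uPt i) (uPt i) = 1 := by decide +kernel

theorem exists_uPt : ∀ a b c d : Fin 4, herm4 ![a, b, c, d] ![a, b, c, d] = 1 →
    ∃ i : Fin 40, ∃ k : Fin 4, k ≠ 0 ∧ ∀ l, ![a, b, c, d] l = mul4 k (uPt i l) := by decide +kernel

theorem unique_uPt : ∀ i j : Fin 40, ∀ k : Fin 4, (∀ l, uPt j l = mul4 k (uPt i l)) → j = i := by
  decide +kernel

theorem ne_zero_wPt : ∀ i, ∃ l, wPt i l ≠ 0 := by decide +kernel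

theorem exists_wPt : ∀ a b c d : ZMod 3, ¬ (a = 0 ∧ b = 0 ∧ c = 0 ∧ d = 0) →
    ∃ i : Fin 40, ∃ k : ZMod 3, k ≠ 0 ∧ a = k * wPt i (.inl 0) ∧ b = k * wPt i (.inl 1) ∧
      c = k * wPt i (.inr 0) ∧ d = k * wPt i (.inr 1) := by decide +kernel

theorem unique_wPt : ∀ i j : Fin 40, ∀ k : ZMod 3, (∀ l, wPt j l = k * wPt i l) → j = i := by
  decide +kernel

theorem refl_uPt : ∀ i j : Fin 40, ∃ k : Fin 4, k ≠ 0 ∧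
    ∀ l, mul4 3 (add4 (uPt j l) (mul4 (mul4 3 (herm4 (uPt j) (uPt i))) (uPt i l))) =
      mul4 k (uPt (pPt i j) l) := by decide +kernel

theorem trans_wPt : ∀ i j : Fin 40, ∃ k : ZMod 3, k ≠ 0 ∧
    ∀ l, wPt j l + 2 * symp3 (wPt j) (wPt i) * wPt i l = k * wPt (pPt i j) l := by decide +kernel

end Cfsg.Agent.Fus.PSUFourTwo
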