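import Mathlib
import Cfsg.Prelude.Def_LocalEven
import Cfsg.Agent.Lib.Fus.GroupLocal
import Cfsg.Agent.Lib.Grp.Cores

/-!
The normalizer form of `p`-stability and the fusion system of the group.
-/

set_option autoImplicit false
set_option linter.style.haveILetI false

namespace Cfsg.Agent.Fus.PStable

open Cfsg FusionSystem
open scoped commutatorElement

variable {G : Type*} [Group G] {p : ℕ}

/-- Membership in the preimage of the `p`-core under a surjection. -/
theorem mem_pCore_iff_of_surjective {N Q : Type*} [Group N] [Group Q] [Finite Q] [Fact p.Prime]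
    (f : N →* Q) (hf : Function.Surjective f) (g : N) :
    f g ∈ pCore p Q ↔
      ∃ M : Subgroup N, M.Normal ∧ g ∈ M ∧ ∀ m ∈ M, ∃ j : ℕ, m ^ p ^ j ∈ f.ker := by
  constructor
  · intro h
    refine ⟨(pCore p Q).comap f, inferInstance, h, fun m hm => ?_⟩
    obtain ⟨j, hj⟩ := (Grp.pCore_isPGroup (p := p)) ⟨f m, hm⟩
    exact ⟨j, by rw [MonoidHom.mem_ker, map_pow]; exact congrArg Subtype.val hj⟩
  · rintro ⟨M, hM, hg, hpow⟩
    refine Grp.le_pCore (N := M.map f) (hM.map f hf) ?_ ⟨g, hg, rfl⟩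
    rintro ⟨_, m, hm, rfl⟩
    obtain ⟨j, hj⟩ := hpow m hm
    exact ⟨j, Subtype.ext (by simpa [map_pow] using hj)⟩

/-- Being a `p`-element modulo the centralizer, inside the normalizer, in an invariant subgroup. -/
def InCore (p : ℕ) (P : Subgroup G) (g : G) : Prop :=
  ∃ M : Subgroup G, M ≤ Subgroup.normalizer (P : Set G) ∧
    (∀ n ∈ Subgroup.normalizer (P : Set G), ∀ m ∈ M, n * m * n⁻¹ ∈ M) ∧ g ∈ M ∧
    ∀ m ∈ M, ∃ j : ℕ, m ^ p ^ j ∈ Subgroup.centralizer (P : Set G)

theorem inCore_iff [Finite G] [Fact p.Prime] {Q : Type*} [Group Q] [Finite Q] {P : Subgroup G}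
    (f : ↥(Subgroup.normalizer (P : Set G)) →* Q) (hf : Function.Surjective f)
    (hker : ∀ x, x ∈ f.ker ↔ (x : G) ∈ Subgroup.centralizer (P : Set G)) {g : G}
    (hg : g ∈ Subgroup.normalizer (P : Set G)) : f ⟨g, hg⟩ ∈ pCore p Q ↔ InCore p P g := by
  rw [mem_pCore_iff_of_surjective f hf]
  constructor
  · rintro ⟨M, hM, hgM, hpow⟩
    refine ⟨M.map (Subgroup.normalizer (P : Set G)).subtype, Subgroup.map_subtype_le M, ?_,
      ⟨_, hgM, rfl⟩, ?_⟩
    · rintro n hn _ ⟨m, hm, rfl⟩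
      exact ⟨⟨n, hn⟩ * m * ⟨n, hn⟩⁻¹, hM.conj_mem m hm _, rfl⟩
    · rintro _ ⟨m, hm, rfl⟩
      obtain ⟨j, hj⟩ := hpow m hm
      exact ⟨j, (hker _).1 hj⟩
  · rintro ⟨M, -, hinv, hgM, hpow⟩
    refine ⟨M.subgroupOf _, ⟨fun m hm n => hinv n n.2 m hm⟩, hgM, fun m hm => ?_⟩
    obtain ⟨j, hj⟩ := hpow m hm
    exact ⟨j, (hker _).2 hj⟩

theorem inCore_map (e : G ≃* G) {P : Subgroup G} {g : G} (h : InCore p P g) :
    InCore p (P.map e.toMonoidHom) (e g) := by
  have hN : ∀ x, e x ∈ Subgroup.normalizer ((P.map e.toMonoidHom : Subgroup G) : Set G) ↔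
      x ∈ Subgroup.normalizer (P : Set G) := by
    intro x
    rw [← Subgroup.map_equiv_normalizer_eq]
    exact Subgroup.mem_map_iff_mem e.injective
  have hC : ∀ x, x ∈ Subgroup.centralizer (P : Set G) →
      e x ∈ Subgroup.centralizer ((P.map e.toMonoidHom : Subgroup G) : Set G) := by
    intro x hx
    refine Subgroup.mem_centralizer_iff.2 ?_
    rintro _ ⟨y, hy, rfl⟩
    exact (map_mul e y x).symm.trans
      ((congrArg e (Subgroup.mem_centralizer_iff.1 hx y hy)).trans (map_mul e x y))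
  obtain ⟨M, hle, hinv, hgM, hpow⟩ := h
  refine ⟨M.map e.toMonoidHom, ?_, ?_, ⟨g, hgM, rfl⟩, ?_⟩
  · rintro _ ⟨m, hm, rfl⟩
    exact (hN m).2 (hle hm)
  · rintro n hn _ ⟨m, hm, rfl⟩
    obtain ⟨n, rfl⟩ := e.surjective n
    exact ⟨n * m * n⁻¹, hinv n ((hN n).1 hn) m hm, by simp⟩
  · rintro _ ⟨m, hm, rfl⟩
    obtain ⟨j, hj⟩ := hpow m hm
    refine ⟨j, ?_⟩
    show (e m) ^ p ^ j ∈ _
    rw [← map_pow]
    exact hC _ hj

/-- Quadratic action, by elements. -/
def Quad (P : Subgroup G) (g : G) : Prop :=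
  ∀ a ∈ P, g * (g * a⁻¹ * g⁻¹ * a) * g⁻¹ = g * a⁻¹ * g⁻¹ * a

theorem quad_iff {P : Subgroup G} {g : G} :
    ⁅⁅P, Subgroup.zpowers g⁆, Subgroup.zpowers g⁆ = ⊥ ↔ Quad P g := by
  rw [Subgroup.commutator_eq_bot_iff_le_centralizer]
  have hz : ∀ x : G, x ∈ Subgroup.centralizer ((Subgroup.zpowers g : Subgroup G) : Set G) ↔
      g * x * g⁻¹ = x := by
    intro x
    rw [Subgroup.mem_centralizer_iff]
    refine ⟨fun h => by rw [h g (Subgroup.mem_zpowers g)]; group, fun h y hy => ?_⟩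
    obtain ⟨i, rfl⟩ := Subgroup.mem_zpowers_iff.1 hy
    have hc : Commute g x := by
      show g * x = x * g
      calc g * x = g * x * g⁻¹ * g := by group
        _ = x * g := by rw [h]
    exact (hc.zpow_left i).eq
  constructor
  · intro h a ha
    refine (hz _).1 (h ?_)
    have e : g * a⁻¹ * g⁻¹ * a = ⁅g, a⁻¹⁆ := by rw [commutatorElement_def, inv_inv]
    rw [e, Subgroup.commutator_comm]
    exact Subgroup.commutator_mem_commutator (Subgroup.mem_zpowers g) (P.inv_mem ha)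
  · intro h
    refine Subgroup.commutator_le.2 fun x hx y hy => ?_
    obtain ⟨i, rfl⟩ := Subgroup.mem_zpowers_iff.1 hy
    rw [← commutatorElement_inv]
    refine inv_mem ?_
    set C := Subgroup.centralizer ((Subgroup.zpowers g : Subgroup G) : Set G) with hC
    have h1 : g * x * g⁻¹ * x⁻¹ ∈ C := by
      have := h x⁻¹ (P.inv_mem hx)
      rw [inv_inv] at this
      exact (hz _).2 this
    have key : ∀ i : ℤ, g ^ i * x * (g ^ i)⁻¹ * x⁻¹ ∈ C := by
      intro i
      induction i using Int.induction_on with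
      | zero => simp
      | succ i ih =>
        have e : g ^ ((i : ℤ) + 1) * x * (g ^ ((i : ℤ) + 1))⁻¹ * x⁻¹ =
            (g * (g ^ (i : ℤ) * x * (g ^ (i : ℤ))⁻¹ * x⁻¹) * g⁻¹) * (g * x * g⁻¹ * x⁻¹) := by
          group
        rw [e, (hz _).1 ih]
        exact mul_mem ih h1
      | pred i ih =>
        have e : g ^ (-(i : ℤ) - 1) * x * (g ^ (-(i : ℤ) - 1))⁻¹ * x⁻¹ =
            g⁻¹ * ((g ^ (-(i : ℤ)) * x * (g ^ (-(i : ℤ)))⁻¹ * x⁻¹) *
              (g * x * g⁻¹ * x⁻¹)⁻¹) * g := by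
          group
        rw [e]
        have hw := mul_mem ih (inv_mem h1)
        generalize g ^ (-(i : ℤ)) * x * (g ^ (-(i : ℤ)))⁻¹ * x⁻¹ * (g * x * g⁻¹ * x⁻¹)⁻¹ = w at hw ⊢
        have : g⁻¹ * w * g = w := by
          conv_lhs => rw [← (hz _).1 hw]
          group
        rwa [this]
    rw [commutatorElement_def]
    exact key i

theorem quad_map (e : G ≃* G) {P : Subgroup G} {g : G} (h : Quad P g) :
    Quad (P.map e.toMonoidHom) (e g) := by
  rintro _ ⟨a, ha, rfl⟩
  simpa using congrArg e (h a ha)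

theorem isNormalizerPStable_iff [Finite G] [Fact p.Prime] :
    IsNormalizerPStable p G ↔ ∀ P : Subgroup G, IsPGroup p P →
      ∀ g ∈ Subgroup.normalizer (P : Set G), Quad P g → InCore p P g := by
  refine forall_congr' fun P => forall_congr' fun _ => forall_congr' fun g => forall_congr' fun hg =>
    ?_
  rw [quad_iff]
  refine forall_congr' fun _ => ?_
  haveI : ((Subgroup.centralizer (P : Set G)).subgroupOf
      (Subgroup.normalizer (P : Set G))).Normal := by
    rw [← Subgroup.normalizerMonoidHom_ker]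
    infer_instance
  refine inCore_iff (p := p) (QuotientGroup.mk' _) (QuotientGroup.mk'_surjective _) (fun x => ?_) hg
  rw [QuotientGroup.ker_mk']
  rfl

theorem autGroup_group [Finite G] [Fact p.Prime] (S : Sylow p G) {Q : Subgroup G}
    (hQ : Q ≤ (S : Subgroup G)) :
    (groupFusionSystem (S : Subgroup G)).autGroup Q = Q.normalizerMonoidHom.range := by
  rw [groupFusionSystem_eq, autGroup_ofSubgroup hQ]
  ext α
  rw [mem_autInducedBy]
  constructor
  · rintro ⟨g, -, h⟩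
    exact ⟨⟨g, mem_normalizer_of_conj_aut h⟩, MulEquiv.ext fun x => Subtype.ext (h x).symm⟩
  · rintro ⟨⟨g, hg⟩, rfl⟩
    exact ⟨g, Subgroup.mem_top g, fun x => rfl⟩

/-- The condition of the statement for one automorphism, in terms of the group. -/
theorem aut_iff [Finite G] [Fact p.Prime] (S : Sylow p G) {Q : Subgroup G}
    (hQ : Q ≤ (S : Subgroup G)) {g : G} (hg : g ∈ Subgroup.normalizer (Q : Set G)) :
    Q.normalizerMonoidHom ⟨g, hg⟩ ∈
      ((pCore p ↥((groupFusionSystem (S : Subgroup G)).autGroup Q)).map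
        ((groupFusionSystem (S : Subgroup G)).autGroup Q).subtype : Subgroup (MulAut ↥Q)) ↔
      InCore p Q g := by
  have e := autGroup_group S hQ
  haveI : Finite (MulAut Q) := Finite.of_injective (fun e : MulAut Q => (e : Q → Q)) DFunLike.coe_injective
  let f : ↥(Subgroup.normalizer (Q : Set G)) →*
      ↥((groupFusionSystem (S : Subgroup G)).autGroup Q) :=
    Q.normalizerMonoidHom.codRestrict _ fun x => e ▸ ⟨x, rfl⟩
  have hf : Function.Surjective f := by
    rintro ⟨α, hα⟩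
    rw [e] at hα
    obtain ⟨x, hx⟩ := hα
    exact ⟨x, Subtype.ext hx⟩
  have hker : ∀ x, x ∈ f.ker ↔ (x : G) ∈ Subgroup.centralizer (Q : Set G) := by
    intro x
    rw [MonoidHom.ker_codRestrict, Subgroup.normalizerMonoidHom_ker]
    rfl
  rw [← inCore_iff f hf hker hg]
  constructor
  · rintro ⟨y, hy, hye⟩
    have : f ⟨g, hg⟩ = y := Subtype.ext hye.symm
    rwa [this]
  · intro h
    exact ⟨_, h, rfl⟩

theorem quad_aut {Q : Subgroup G} {g : G} (hg : g ∈ Subgroup.normalizer (Q : Set G)) :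
    (∀ a : ↥Q, (Q.normalizerMonoidHom ⟨g, hg⟩ a⁻¹) * a * (Q.normalizerMonoidHom ⟨g, hg⟩ a⁻¹) *
      (Q.normalizerMonoidHom ⟨g, hg⟩ (Q.normalizerMonoidHom ⟨g, hg⟩ a)) = 1) ↔ Quad Q g := by
  have key : ∀ a : G, g * a⁻¹ * g⁻¹ * a * (g * a⁻¹ * g⁻¹) * (g * (g * a * g⁻¹) * g⁻¹) =
      g * a⁻¹ * g⁻¹ * a * (g * (g * a⁻¹ * g⁻¹ * a) * g⁻¹)⁻¹ := fun a => by group
  constructor
  · intro h a ha
    have := congrArg Subtype.val (h ⟨a, ha⟩)
    refine (mul_inv_eq_one.1 ((key a).symm.trans ?_)).symm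
    exact this
  · intro h a
    refine Subtype.ext ?_
    show g * (a : G)⁻¹ * g⁻¹ * a * (g * (a : G)⁻¹ * g⁻¹) * (g * (g * a * g⁻¹) * g⁻¹) = 1
    rw [key, mul_inv_eq_one]
    exact (h a a.2).symm

theorem exists_fullyNormalized_conj [Finite G] [Fact p.Prime] (S : Sylow p G) {P : Subgroup G}
    (hP : IsPGroup p P) : ∃ k : G,
      (groupFusionSystem (S : Subgroup G)).IsFullyNormalized
        (P.map (MulAut.conj k).toMonoidHom) := by
  classical
  obtain ⟨T, hT⟩ := hP.exists_le_sylow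
  obtain ⟨k₀, hk₀⟩ := MulAction.exists_smul_eq G T S
  let s : Set G := {k | P.map (MulAut.conj k).toMonoidHom ≤ (S : Subgroup G)}
  have hne : s.Nonempty := ⟨k₀, by
    show P.map _ ≤ _
    rw [← hk₀]
    exact Subgroup.map_mono hT⟩
  obtain ⟨k, hk, hmax⟩ := Set.exists_max_image s
    (fun k => Nat.card (normalizerIn (S : Subgroup G) (P.map (MulAut.conj k).toMonoidHom)))
    (Set.toFinite s) hne
  refine ⟨k, hk, fun Q hQ => ?_⟩
  obtain ⟨-, hQS, x, rfl⟩ := (isConj_group S).1 hQ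
  rw [conjMap_comp] at hQS ⊢
  exact hmax (x * k) hQS

/-- `p`-stability of the group and of its fusion system. -/
theorem pStable_iff [Finite G] [Fact p.Prime] (S : Sylow p G) : IsNormalizerPStable p G ↔
    (∀ Q : Subgroup G, (groupFusionSystem (S : Subgroup G)).IsFullyNormalized Q →
      ∀ χ : MulAut ↥Q, χ ∈ (groupFusionSystem (S : Subgroup G)).autGroup Q →
        (∀ a : ↥Q, (χ a⁻¹) * a * (χ a⁻¹) * (χ (χ a)) = 1) →
        χ ∈ ((pCore p ↥((groupFusionSystem (S : Subgroup G)).autGroup Q)).map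
          ((groupFusionSystem (S : Subgroup G)).autGroup Q).subtype : Subgroup (MulAut ↥Q))) := by
  rw [isNormalizerPStable_iff]
  constructor
  · intro h Q hQ χ hχ hq
    rw [autGroup_group S hQ.1] at hχ
    obtain ⟨⟨g, hg⟩, rfl⟩ := hχ
    exact (aut_iff S hQ.1 hg).2
      (h Q (S.isPGroup'.to_le hQ.1) g hg ((quad_aut hg).1 hq))
  · intro h P hP g hg hq
    obtain ⟨k, hk⟩ := exists_fullyNormalized_conj S hP
    set e := MulAut.conj k with he
    have hg' : e g ∈ Subgroup.normalizer ((P.map e.toMonoidHom : Subgroup G) : Set G) := by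
      rw [← Subgroup.map_equiv_normalizer_eq]
      exact ⟨g, hg, rfl⟩
    have hmem : (P.map e.toMonoidHom).normalizerMonoidHom ⟨e g, hg'⟩ ∈
        (groupFusionSystem (S : Subgroup G)).autGroup (P.map e.toMonoidHom) := by
      rw [autGroup_group S hk.1]
      exact ⟨_, rfl⟩
    have := (aut_iff S hk.1 hg').1 (h _ hk _ hmem ((quad_aut hg').2 (quad_map e hq)))
    have := inCore_map e.symm this
    rw [Subgroup.map_map, MulEquiv.symm_apply_apply,
      show e.symm.toMonoidHom.comp e.toMonoidHom = MonoidHom.id G from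
        MonoidHom.ext fun x => e.symm_apply_apply x, Subgroup.map_id] at this
    exact this

end Cfsg.Agent.Fus.PStable
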