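import Cfsg.Agent.Lib.Fus.StableOdd
import Cfsg.Agent.Lib.Fus.NormalCrit
import Cfsg.Agent.Lib.Fus.GroupLocal
import Cfsg.Agent.Lib.Fus.PStableSystem

/-!
A stable fusion system of a group, for odd `p`, has a nontrivial normal subgroup and is constrained.
-/

set_option autoImplicit false
set_option linter.style.haveILetI false
set_option linter.unusedSectionVars false

open scoped commutatorElement

universe u

namespace Cfsg.Agent.Fus.PStableConstrained

open Cfsg FusionSystem Fus Invol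

variable {G : Type u} [Group G] [Finite G] {p : ℕ} [hp : Fact p.Prime]

theorem commute_centerOmega {X : Type u} [Group X] {n : ℕ} {R : Subgroup X} {x y : X}
    (hx : x ∈ centerOmega n R) (hy : y ∈ centerOmega n R) : Commute x y :=
  (Subgroup.mem_centralizer_iff.1 (Invol.mem_centerOmega.1 hy).1.2 x
    (Invol.mem_centerOmega.1 hx).1.1)

/-- For odd `p` a stable nontrivial system has nontrivial core. -/
theorem core_ne_bot (hodd : p ≠ 2) (S : Sylow p G) (hS : (S : Subgroup G) ≠ ⊥)
    (hst : IsNormalizerPStable p G) : (groupFusionSystem (S : Subgroup G)).core ≠ ⊥ := by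
  set W := centerOmega 0 (S : Subgroup G) with hW
  have hWS : W ≤ (S : Subgroup G) := Invol.centerOmega_le _
  have hsc : (groupFusionSystem (S : Subgroup G)).StronglyClosed W := by
    refine stronglyClosed_of_forall hWS fun R hR f hf x hx => ?_
    obtain ⟨-, g, hg⟩ := isMap_group.1 hf
    obtain ⟨m, hm, he⟩ := StableOdd.zjControl_of_stable hodd G hst S {x}
      (Set.singleton_subset_iff.2 (hWS (hR hx))) g (fun a ha => by rw [Set.mem_singleton_iff.1 ha]; exact (hg x hx).2)
    rw [(hg x hx).1, ← he x rfl]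
    exact (Subgroup.mem_normalizer_iff.1 hm x).1 (hR hx)
  have hn := isNormal_of_chain S.isPGroup' (isSaturated_group S) (n := 1) ![⊥, W] rfl
    (fun i j hij => by fin_cases i <;> fin_cases j <;> simp at hij ⊢)
    (fun i => by
      fin_cases i
      refine ⟨hsc, Subgroup.commutator_le.2 fun a ha b hb => ?_⟩
      show ⁅a, b⁆ ∈ (⊥ : Subgroup G)
      rw [Subgroup.mem_bot, commutatorElement_eq_one_iff_commute]
      exact commute_centerOmega ha hb)
  exact fun h => Invol.centerOmega_ne_bot (Or.inl rfl) S.isPGroup' hS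
    (le_bot_iff.1 (h ▸ le_core hn))

/-- For odd `p` a stable system is constrained. -/
theorem isConstrained (hodd : p ≠ 2) (S : Sylow p G) (hst : IsNormalizerPStable p G) :
    (groupFusionSystem (S : Subgroup G)).IsConstrained p := by
  classical
  set F := groupFusionSystem (S : Subgroup G) with hF
  set Q := F.core with hQdef
  have hQn : F.IsNormal Q := isNormal_core F
  have hQS : Q ≤ (S : Subgroup G) := hQn.1
  have hQsc : F.StronglyClosed Q := stronglyClosed_of_isNormal hQn
  refine ⟨isSaturated_group S, Q, hQn, hQS, fun Q' hQ' => ?_⟩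
  have hQ'Q : Q' = Q := by
    obtain ⟨f, hf, rfl⟩ := isConj_iff.1 hQ'
    exact Subgroup.eq_of_le_of_card_ge (fimg_le fun x hx => StronglyClosed.apply_mem hQsc hf le_rfl hx)
      hf.card_fimg.ge
  rw [hQ'Q]
  -- elements of the normalizer realize all maps
  have hreal : ∀ R f, IsMap F R f → ∃ h ∈ Subgroup.normalizer (Q : Set G),
      ∀ x ∈ R, f x = h * x * h⁻¹ := by
    intro R f hf
    obtain ⟨f', hf', h1, h2⟩ := (isNormal_iff.1 hQn).2 R f hf
    obtain ⟨-, h, hh⟩ := isMap_group.1 hf'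
    refine ⟨h, Invol.mem_normalizer_of_forall_mem fun q hq => ?_, fun x hx => ?_⟩
    · rw [← (hh q (Subgroup.mem_sup_right hq)).1]
      exact h2.le (apply_mem_fimg f' hq)
    · rw [← h1 x hx]
      exact (hh x (Subgroup.mem_sup_left hx)).1
  have hSN : (S : Subgroup G) ≤ Subgroup.normalizer (Q : Set G) := fun s hs =>
    Invol.mem_normalizer_of_forall_mem fun q hq => StronglyClosed.conj_mem' hQsc hs hq
  set C := Subgroup.centralizer (Q : Set G) with hC
  set T₀ := centralizerIn (S : Subgroup G) Q with hT₀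
  obtain ⟨hT₀C, T, hT⟩ : IsSylowOf p T₀ C := by
    refine isSylowOf_centralizerIn (S := S) (p := p) ?_
    rw [show normalizerIn (S : Subgroup G) Q = (S : Subgroup G) from inf_eq_left.2 hSN]
    exact ⟨hSN, S.subtype hSN, rfl⟩
  have hmemT : ∀ {c : C}, c ∈ (T : Subgroup C) ↔ (c : G) ∈ T₀ := fun {c} => by
    rw [hT]; exact Subgroup.mem_subgroupOf
  set Z := Q.subgroupOf C with hZ
  have hZc : Z ≤ Subgroup.center C := fun z hz => Subgroup.mem_center_iff.2 fun c =>
    Subtype.ext (Subgroup.mem_centralizer_iff.1 c.2 z hz).symm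
  haveI : Z.Normal := ⟨fun z hz c => by
    rwa [Subgroup.mem_center_iff.1 (hZc hz) c, mul_inv_cancel_right]⟩
  have hZp : IsPGroup p Z := (S.isPGroup'.to_le hQS).comap_subtype
  have hstC : IsNormalizerPStable p (C ⧸ Z) := CubicOdd.isNormalizerPStable_quotient_central
    hodd (Invol.isNormalizerPStable_subgroup hst C) Z hZc hZp
  set q := QuotientGroup.mk' Z with hq
  have hqs : Function.Surjective q := QuotientGroup.mk'_surjective Z
  set T' : Sylow p (C ⧸ Z) := T.mapSurjective hqs with hT'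
  set W := centerOmega 0 (T' : Subgroup (C ⧸ Z)) with hW
  by_contra hnc
  have hT'1 : (T' : Subgroup (C ⧸ Z)) ≠ ⊥ := fun h => hnc fun x hx => by
    have h1 : q ⟨x, hx.2⟩ ∈ (T : Subgroup C).map q := ⟨_, hmemT.2 hx, rfl⟩
    rw [show (T : Subgroup C).map q = ⊥ from h, Subgroup.mem_bot] at h1
    exact (QuotientGroup.eq_one_iff (N := Z) (⟨x, hx.2⟩ : C)).1 h1
  set R := (W.comap q).map C.subtype with hR
  have hWT : W ≤ (T : Subgroup C).map q := Invol.centerOmega_le _
  have hRT₀ : R ≤ T₀ := by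
    rintro _ ⟨w, hw, rfl⟩
    obtain ⟨t, ht, hte⟩ := hWT hw
    have h1 : t⁻¹ * w ∈ Z := QuotientGroup.eq.1 hte
    have h2 : (t : G)⁻¹ * w ∈ T₀ := ⟨hQS h1, (t⁻¹ * w).2⟩
    have h3 := T₀.mul_mem (hmemT.1 ht) h2
    rwa [mul_inv_cancel_left] at h3
  have hRS : R ≤ (S : Subgroup G) := hRT₀.trans inf_le_left
  -- the conjugations by the normalizer
  have hCn : ∀ {h : G}, h ∈ Subgroup.normalizer (Q : Set G) → ∀ {c : G}, c ∈ C → h * c * h⁻¹ ∈ C := by
    intro h hh c hc
    refine Subgroup.mem_centralizer_iff.2 fun x hx => ?_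
    have h1 := Subgroup.mem_centralizer_iff.1 hc _ ((Subgroup.mem_normalizer_iff''.1 hh x).1 hx)
    calc x * (h * c * h⁻¹) = h * (h⁻¹ * x * h * c) * h⁻¹ := by group
      _ = h * (c * (h⁻¹ * x * h)) * h⁻¹ := by rw [h1]
      _ = h * c * h⁻¹ * x := by group
  have hRsc : F.StronglyClosed R := by
    refine stronglyClosed_of_forall hRS fun A hA f hf x hx => ?_
    obtain ⟨h, hh, hfh⟩ := hreal A f hf
    have hy : h * x * h⁻¹ ∈ (S : Subgroup G) := by
      rw [← hfh x hx]
      exact hf.apply_mem hx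
    obtain ⟨x₀, hx₀, hx₀e⟩ := hA hx
    rw [hfh x hx, ← hx₀e]
    have hy₀ : h * (x₀ : G) * h⁻¹ ∈ T₀ := ⟨by rw [show (x₀ : G) = x from hx₀e]; exact hy, hCn hh x₀.2⟩
    -- correct `h` by the centralizer, to normalize `T`
    let e : MulAut C := C.normalizerMonoidHom
      ⟨h, Invol.mem_normalizer_of_forall_mem fun c hc => hCn hh hc⟩
    have he : ∀ c : C, ((e c : C) : G) = h * c * h⁻¹ := fun c => rfl
    obtain ⟨c, hc⟩ := MulAction.exists_smul_eq C
      (T.mapSurjective (f := (e : C ≃* C).toMonoidHom) (e : C ≃* C).surjective) T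
    let e' : MulAut C := MulAut.conj c * e
    have he'T : (T : Subgroup C).map e'.toMonoidHom = T := by
      conv_rhs => rw [← hc, Sylow.coe_subgroup_smul, ← Grp.map_conj_eq_smul]
      rw [show e'.toMonoidHom = (MulAut.conj c).toMonoidHom.comp e.toMonoidHom from rfl,
        ← Subgroup.map_map]
      rfl
    have he'Z : Z.map (e' : C ≃* C).toMonoidHom = Z := by
      haveI : Finite Z := inferInstance
      refine Subgroup.eq_of_le_of_card_ge ?_
        (Subgroup.card_map_of_injective (e' : C ≃* C).injective).ge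
      rintro _ ⟨z, hz, rfl⟩
      have h1 : e z ∈ Z := by
        rw [hZ, Subgroup.mem_subgroupOf, he]
        exact (Subgroup.mem_normalizer_iff.1 hh _).1 hz
      show c * e z * c⁻¹ ∈ Z
      rwa [Subgroup.mem_center_iff.1 (hZc h1) c, mul_inv_cancel_right]
    let ē : C ⧸ Z ≃* C ⧸ Z := QuotientGroup.congr Z Z e' he'Z
    have hēT : (T' : Subgroup (C ⧸ Z)).map ē.toMonoidHom = T' := by
      show ((T : Subgroup C).map q).map ē.toMonoidHom = (T : Subgroup C).map q
      rw [Subgroup.map_map, show ē.toMonoidHom.comp q = q.comp e'.toMonoidHom from rfl,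
        ← Subgroup.map_map, he'T]
    have hx' : ē (q x₀) ∈ W := by
      have h2 := Invol.centerOmega_map (n := 0) ē.toMonoidHom (R := (T' : Subgroup (C ⧸ Z)))
        (fun w _ hw => ē.injective (hw.trans (map_one ē).symm))
      rw [hēT] at h2
      exact h2.le ⟨_, hx₀, rfl⟩
    have hy' : e x₀ ∈ (T : Subgroup C) := hmemT.2 ((he x₀).symm ▸ hy₀)
    have hconj : (q c)⁻¹ * ē (q x₀) * q c = q (e x₀) := by
      show (q c)⁻¹ * q (c * e x₀ * c⁻¹) * q c = _
      rw [map_mul, map_mul, map_inv]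
      group
    obtain ⟨m, hm, hme⟩ := StableOdd.zjControl_of_stable hodd _ hstC T' {ē (q x₀)}
      (Set.singleton_subset_iff.2 (Invol.centerOmega_le _ hx')) (q c)⁻¹ (by
        rintro _ rfl
        rw [inv_inv, hconj]
        exact ⟨_, hy', rfl⟩)
    have h3 := (Subgroup.mem_normalizer_iff.1 hm _).1 hx'
    rw [hme _ rfl, inv_inv, hconj] at h3
    exact ⟨e x₀, h3, he x₀⟩
  set Z₀ := Q ⊓ C with hZ₀
  have hZ₀R : Z₀ ≤ R := fun z hz => ⟨⟨z, hz.2⟩, by
    show q ⟨z, hz.2⟩ ∈ W
    rw [show q ⟨z, hz.2⟩ = 1 from (QuotientGroup.eq_one_iff _).2 hz.1]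
    exact W.one_mem, rfl⟩
  have hZ₀sc : F.StronglyClosed Z₀ := stronglyClosed_of_forall (inf_le_left.trans hQS)
    fun A hA f hf x hx => by
      obtain ⟨h, hh, hfh⟩ := hreal A f hf
      rw [hfh x hx]
      exact ⟨(Subgroup.mem_normalizer_iff.1 hh _).1 (hA hx).1, hCn hh (hA hx).2⟩
  have hn : F.IsNormal R := isNormal_of_chain S.isPGroup' (isSaturated_group S) (n := 2)
    ![⊥, Z₀, R] rfl (fun i j hij => by fin_cases i <;> fin_cases j <;> simp [hZ₀R] at hij ⊢)
    (fun i => by
      fin_cases i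
      · refine ⟨hZ₀sc, Subgroup.commutator_le.2 fun a ha b hb => ?_⟩
        show ⁅a, b⁆ ∈ (⊥ : Subgroup G)
        obtain ⟨a₀, -, rfl⟩ : a ∈ R := ha
        rw [Subgroup.mem_bot, commutatorElement_eq_one_iff_commute]
        exact (Subgroup.mem_centralizer_iff.1 a₀.2 b hb.1).symm
      · refine ⟨hRsc, Subgroup.commutator_le.2 fun a ha b hb => ?_⟩
        obtain ⟨a₀, ha₀, rfl⟩ : a ∈ R := ha
        obtain ⟨b₀, hb₀, rfl⟩ : b ∈ R := hb
        have h1 : ⁅a₀, b₀⁆ ∈ Z := by
          rw [← QuotientGroup.eq_one_iff]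
          show q ⁅a₀, b₀⁆ = 1
          rw [map_commutatorElement, commutatorElement_eq_one_iff_commute]
          exact commute_centerOmega ha₀ hb₀
        exact ⟨h1, (⁅a₀, b₀⁆).2⟩)
  refine Invol.centerOmega_ne_bot (Or.inl rfl) T'.isPGroup' hT'1 (le_bot_iff.1 fun y hy => ?_)
  obtain ⟨w, rfl⟩ := hqs y
  exact Subgroup.mem_bot.2 ((QuotientGroup.eq_one_iff w).2 (le_core hn ⟨w, hy, rfl⟩))

end Cfsg.Agent.Fus.PStableConstrained
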