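import Mathlib
import Cfsg.Prelude.Def_LocalEven
import Cfsg.Agent.Lib.Fus.NormalizerSat
import Cfsg.Agent.Lib.Fus.Saturation
import Cfsg.Agent.Lib.Grp.Cores

/-!
`p`-stability of a fusion system is determined by the normalizer systems of noncyclic subgroups.
-/

set_option autoImplicit false
set_option linter.style.haveILetI false

namespace Cfsg.Agent.Fus.PStableLocal

open Subgroup Cfsg FusionSystem

variable {Ω : Type*} [Group Ω] {S : Subgroup Ω} {p : ℕ}

/-- Quadratic action of an automorphism. -/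
def Quad {Q : Subgroup Ω} (χ : MulAut Q) : Prop :=
  ∀ a : Q, (χ a⁻¹) * a * (χ a⁻¹) * (χ (χ a)) = 1

/-- Being in the core of the automizer. -/
def InP (p : ℕ) (F : FusionSystem S) {Q : Subgroup Ω} (χ : MulAut Q) : Prop :=
  χ ∈ ((pCore p ↥(F.autGroup Q)).map (F.autGroup Q).subtype : Subgroup (MulAut ↥Q))

theorem finite_mulAut {Q : Subgroup Ω} [Finite Q] : Finite (MulAut Q) :=
  Finite.of_injective (fun e : MulAut Q => (e : Q → Q)) DFunLike.coe_injective

theorem inP_of_le [Fact p.Prime] {F : FusionSystem S} {T : Subgroup Ω} {N : FusionSystem T}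
    {Q : Subgroup Ω} [Finite Q] (hle : N.autGroup Q ≤ F.autGroup Q) {χ : MulAut Q}
    (hχ : χ ∈ N.autGroup Q) (h : InP p F χ) : InP p N χ := by
  haveI : Finite (MulAut Q) := finite_mulAut
  obtain ⟨y, hy, hye⟩ := h
  refine ⟨⟨χ, hχ⟩, Grp.le_pCore (N := (pCore p ↥(F.autGroup Q)).comap (Subgroup.inclusion hle))
    inferInstance ?_ ?_, rfl⟩
  · exact (Grp.pCore_isPGroup (p := p)).comap_of_injective _ (Subgroup.inclusion_injective hle)
  · show Subgroup.inclusion hle ⟨χ, hχ⟩ ∈ pCore p ↥(F.autGroup Q)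
    rw [show Subgroup.inclusion hle ⟨χ, hχ⟩ = y from Subtype.ext hye.symm]
    exact hy

theorem inP_congr [Fact p.Prime] {F : FusionSystem S} {Q Q' : Subgroup Ω} [Finite Q]
    (e : Q ≃* Q') (heA : ∀ α, α ∈ F.autGroup Q ↔ MulAut.congr e α ∈ F.autGroup Q') {χ : MulAut Q}
    (h : InP p F (MulAut.congr e χ)) : InP p F χ := by
  haveI : Finite Q' := Finite.of_equiv Q e.toEquiv
  haveI : Finite (MulAut Q) := finite_mulAut
  haveI : Finite (MulAut Q') := finite_mulAut
  obtain ⟨y, hy, hye⟩ := h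
  let f : ↥(F.autGroup Q) →* ↥(F.autGroup Q') :=
    ((MulAut.congr e).toMonoidHom.comp (F.autGroup Q).subtype).codRestrict _
      fun a => (heA a).1 a.2
  have hinj : Function.Injective f := fun a b hab =>
    Subtype.ext ((MulAut.congr e).injective (congrArg Subtype.val hab))
  have hχ : χ ∈ F.autGroup Q := (heA χ).2 (by
    have := y.2
    rwa [show ((y : ↥(F.autGroup Q')) : MulAut Q') = MulAut.congr e χ from hye] at this)
  refine ⟨⟨χ, hχ⟩, Grp.le_pCore (N := (pCore p ↥(F.autGroup Q')).comap f) inferInstance ?_ ?_, rfl⟩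
  · exact (Grp.pCore_isPGroup (p := p)).comap_of_injective _ hinj
  · show f ⟨χ, hχ⟩ ∈ pCore p ↥(F.autGroup Q')
    rw [show f ⟨χ, hχ⟩ = y from Subtype.ext hye.symm]
    exact hy

theorem quad_congr {Q Q' : Subgroup Ω} (e : Q ≃* Q') {χ : MulAut Q} (h : Quad χ) :
    Quad (MulAut.congr e χ) := by
  intro b
  have := congrArg e (h (e.symm b))
  simpa [MulAut.congr] using this

theorem inP_of_cyclic [Fact p.Prime] (F : FusionSystem S) {Q : Subgroup Ω} [Finite Q]
    (hQ : IsPGroup p Q) [IsCyclic Q] {χ : MulAut Q} (hχ : χ ∈ F.autGroup Q) (hq : Quad χ) :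
    InP p F χ := by
  haveI : Finite (MulAut Q) := finite_mulAut
  obtain ⟨g, hg⟩ := IsCyclic.exists_generator (α := Q)
  have hcomm : ∀ α β : MulAut Q, α * β = β * α := by
    intro α β
    obtain ⟨i, hi⟩ := Subgroup.mem_zpowers_iff.1 (hg (α g))
    obtain ⟨j, hj⟩ := Subgroup.mem_zpowers_iff.1 (hg (β g))
    refine MulEquiv.ext fun x => ?_
    obtain ⟨k, rfl⟩ := Subgroup.mem_zpowers_iff.1 (hg x)
    show α (β (g ^ k)) = β (α (g ^ k))
    simp only [map_zpow, ← hi, ← hj, ← zpow_mul]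
    congr 1
    ring
  obtain ⟨k, hk⟩ := hQ.exists_card_eq
  have hc : ∀ x y : Q, x * y = y * x := fun x y => by
    obtain ⟨i, rfl⟩ := Subgroup.mem_zpowers_iff.1 (hg x)
    obtain ⟨j, rfl⟩ := Subgroup.mem_zpowers_iff.1 (hg y)
    rw [← zpow_add, ← zpow_add, add_comm]
  have hfix : ∀ a : Q, χ (a⁻¹ * χ a) = a⁻¹ * χ a := by
    intro a
    have h := hq a
    rw [map_mul, map_inv]
    rw [map_inv, mul_assoc] at h
    have h1 : ((χ a)⁻¹ * a) * ((χ a)⁻¹ * χ (χ a)) = 1 := h
    rw [mul_eq_one_iff_eq_inv] at h1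
    have h2 := congrArg (·⁻¹) h1
    simp only [inv_inv, mul_inv_rev] at h2
    exact h2.symm
  have hpow : ∀ (m : ℕ) (a : Q), (χ ^ m) a = a * (a⁻¹ * χ a) ^ m := by
    intro m
    induction m with
    | zero => intro a; simp
    | succ m ih =>
      intro a
      rw [pow_succ', MulAut.mul_apply, ih, map_mul, map_pow, hfix, pow_succ']
      conv_lhs => rw [show χ a = a * (a⁻¹ * χ a) by rw [mul_inv_cancel_left]]
      rw [mul_assoc]
      simp [mul_inv_cancel_left]
  have hχp : χ ^ p ^ k = 1 := MulEquiv.ext fun a => by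
    rw [hpow, ← hk, pow_card_eq_one', mul_one]; rfl
  refine ⟨⟨χ, hχ⟩, Grp.le_pCore (N := Subgroup.zpowers ⟨χ, hχ⟩) ⟨fun x hx y => ?_⟩ ?_
    (Subgroup.mem_zpowers _), rfl⟩
  · rw [show y * x * y⁻¹ = x from mul_inv_eq_iff_eq_mul.2 (Subtype.ext (hcomm y x))]
    exact hx
  · intro z
    obtain ⟨i, hi⟩ := Subgroup.mem_zpowers_iff.1 z.2
    refine ⟨k, Subtype.ext ?_⟩
    rw [SubgroupClass.coe_pow, ← hi, ← zpow_natCast, ← zpow_mul, mul_comm, zpow_mul, zpow_natCast,
      show (⟨χ, hχ⟩ : ↥(F.autGroup Q)) ^ p ^ k = 1 from Subtype.ext hχp, one_zpow]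
    rfl

/-- The reduction to normalizer systems. -/
theorem pStable_iff_local [Finite S] [Fact p.Prime] (hS : IsPGroup p S) (F : FusionSystem S) :
    (∀ Q : Subgroup Ω, F.IsFullyNormalized Q → ∀ χ : MulAut ↥Q, χ ∈ F.autGroup Q →
      Quad χ → InP p F χ) ↔
    ∀ R : Subgroup Ω, F.IsFullyNormalized R → ¬ IsCyclic ↥R →
      ∀ N : FusionSystem (normalizerIn S R), F.IsNormalizerSystem R N →
        ∀ Q : Subgroup Ω, N.IsFullyNormalized Q → ∀ χ : MulAut ↥Q, χ ∈ N.autGroup Q →
          Quad χ → InP p N χ := by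
  constructor
  · intro h R hR _ N hN Q hQ χ hχ hq
    have hQS : Q ≤ S := hQ.1.trans inf_le_left
    haveI : Finite Q := finite_of_le hQS
    have hsub : N.IsSubsystemOf F := fun P φ hφ => by
      rw [hN P] at hφ
      exact hφ.1
    refine inP_of_le (autGroup_mono hsub Q) hχ ?_
    obtain ⟨Q', hconj, hQ'⟩ := exists_fullyNormalized F hQS
    obtain ⟨u, hu, huQ⟩ := isConj_iff.1 hconj
    obtain ⟨e, -, heA⟩ := exists_mulEquiv hu huQ
    exact inP_congr e heA (h Q' hQ' _ ((heA χ).1 (autGroup_mono hsub Q hχ)) (quad_congr e hq))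
  · intro h Q hQ χ hχ hq
    haveI : Finite Q := finite_of_le hQ.1
    by_cases hcyc : IsCyclic Q
    · exact inP_of_cyclic F (hS.to_le hQ.1) hχ hq
    have hQN : Q ≤ normalizerIn S Q := le_inf hQ.1 Subgroup.le_normalizer
    have heq : (normalizerSystem F Q hQ.1).autGroup Q = F.autGroup Q := by
      refine le_antisymm (autGroup_mono (normalizerSystem_isSubsystemOf hQ.1) Q) fun α hα => ?_
      rw [mem_autGroup hQN, isMap_normalizerSystem hQ.1]
      refine ⟨hQN, fun x hx => hQN (autFun_mem α hx), autFun α, ?_, fun x _ => rfl, fimg_autFun α⟩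
      rw [sup_idem]
      exact (mem_autGroup hQ.1).1 hα
    have hfn : (normalizerSystem F Q hQ.1).IsFullyNormalized Q := by
      refine ⟨hQN, fun Q₂ hQ₂ => ?_⟩
      haveI : Finite ↥(normalizerIn S Q) := finite_of_le (S := S) inf_le_left
      haveI : Finite ↥(normalizerIn (normalizerIn S Q) Q) := finite_of_le (S := S) (inf_le_left.trans inf_le_left)
      exact (Subgroup.card_le_of_le inf_le_left).trans
        (Subgroup.card_le_of_le (le_inf le_rfl inf_le_right))
    have := h Q hQ hcyc _ (isNormalizerSystem_normalizerSystem F hQ.1) Q hfn χ (heq ▸ hχ) hq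
    show χ ∈ _
    rw [InP, heq] at this
    exact this

end Cfsg.Agent.Fus.PStableLocal
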