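import Mathlib
import Cfsg.Agent.Lib.Fus.PStableLocal
import Cfsg.Agent.Lib.Fus.NormalCrit
import Cfsg.Agent.Lib.Fus.PrimeQuotientMain
import Cfsg.Agent.Lib.Fus.SolvableSystem

/-!
`p`-stability of a saturated system is determined at its centric radical subgroups.
-/

set_option autoImplicit false
set_option linter.style.haveILetI false
set_option linter.unusedSectionVars false

namespace Cfsg.Agent.Fus.PStableLocal

open Subgroup Cfsg FusionSystem

variable {Ω : Type*} [Group Ω] {S : Subgroup Ω} [Finite S] {p : ℕ} [Fact p.Prime]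
  {F : FusionSystem S}

/-- A map of `U` onto itself that restricts to the given automorphism comes from an automorphism. -/
theorem exists_autGroup_of_isMap {U : Subgroup Ω} {f : Ω → Ω} (hU : U ≤ S) (hf : IsMap F U f)
    (hfU : fimg f U = U) : ∃ β ∈ F.autGroup U, ∀ x ∈ U, autFun β x = f x := by
  obtain ⟨e, he, -⟩ := exists_mulEquiv hf hfU
  refine ⟨e, (mem_autGroup hU).2 (hf.congr fun x hx => ?_), fun x hx => ?_⟩
  · rw [show x = ((⟨x, hx⟩ : U) : Ω) from rfl, autFun_coe]; exact (he _).symm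
  · rw [show x = ((⟨x, hx⟩ : U) : Ω) from rfl, autFun_coe]; exact he _

/-- Every centric subgroup has a map into a fully normalized centric radical subgroup along which
all of its automorphisms extend. -/
theorem exists_radical_over (hS : IsPGroup p S) (hF : F.IsSaturated p) {U : Subgroup Ω}
    (hU : F.IsCentric U) : ∃ (R : Subgroup Ω) (h : Ω → Ω), F.IsFullyNormalized R ∧
      F.IsCentric R ∧ F.IsRadical p R ∧ IsMap F U h ∧ fimg h U ≤ R ∧
      ∀ α ∈ F.autGroup U, ∃ β ∈ F.autGroup R, ∀ x ∈ U, autFun β (h x) = h (autFun α x) := by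
  suffices main : ∀ (m : ℕ) (U : Subgroup Ω), Nat.card S - Nat.card U = m → F.IsCentric U →
      ∃ (R : Subgroup Ω) (h : Ω → Ω), F.IsFullyNormalized R ∧
        F.IsCentric R ∧ F.IsRadical p R ∧ IsMap F U h ∧ fimg h U ≤ R ∧
        ∀ α ∈ F.autGroup U, ∃ β ∈ F.autGroup R, ∀ x ∈ U, autFun β (h x) = h (autFun α x) from
    main _ U rfl hU
  intro m
  induction m using Nat.strong_induction_on with
  | _ m ih =>
  intro U hm hU
  -- move to a fully normalized conjugate
  obtain ⟨U', hconj, hU'⟩ := exists_fullyNormalized F hU.1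
  obtain ⟨h1, hh1, hh1U⟩ := isConj_iff.1 hconj
  obtain ⟨e, he, heA⟩ := exists_mulEquiv hh1 hh1U
  have hmove : ∀ α ∈ F.autGroup U, ∃ α' ∈ F.autGroup U', ∀ x ∈ U,
      autFun α' (h1 x) = h1 (autFun α x) := by
    intro α hα
    refine ⟨_, (heA α).1 hα, fun x hx => ?_⟩
    rw [show h1 x = ((e ⟨x, hx⟩ : U') : Ω) from (he ⟨x, hx⟩).symm, autFun_coe,
      show autFun α x = ((α ⟨x, hx⟩ : U) : Ω) from autFun_coe α ⟨x, hx⟩, ← he]
    simp [MulAut.congr]
  have hmem : ∀ x ∈ U, h1 x ∈ U' := fun x hx => hh1U ▸ apply_mem_fimg h1 hx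
  have hUc := centric_of_isConj hU hconj
  have hcard : Nat.card U' = Nat.card U := isConj_card hconj
  haveI := finite_of_le hU'.1
  by_cases hrad : F.IsRadical p U'
  · exact ⟨U', h1, hU', hUc, hrad, hh1, hh1U.le, hmove⟩
  set O := (pCore p (F.autGroup U')).map (F.autGroup U').subtype with hO
  obtain ⟨-, P, hP⟩ := fullyAutomized_of_fullyNormalized hS hF hU'
  haveI hOn : (pCore p (F.autGroup U')).Normal := Grp.pCore_isNormal
  haveI : Finite (MulAut U') := Finite.of_injective (fun e : MulAut U' => (e : U' → U'))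
    DFunLike.coe_injective
  have hOS : O ≤ autInducedBy S U' := by
    rintro _ ⟨a, ha, rfl⟩
    have h2 := (Grp.pCore_isPGroup (p := p) (G := F.autGroup U')).le_sylow_of_normal P ha
    rw [hP] at h2
    exact h2
  have hOinn : Inn U' ≤ O := by
    intro a ha
    refine ⟨⟨a, inn_le_autGroup F hU'.1 ha⟩, ?_, rfl⟩
    refine Grp.le_pCore (N := (Inn U').subgroupOf (F.autGroup U')) ?_
      ((isPGroup_inn (hS.to_le hU'.1)).comap_of_injective
        (F.autGroup U').subtype Subtype.coe_injective) ha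
    exact ⟨fun b hb g => by
      obtain ⟨y, hy⟩ := hb
      refine ⟨(g : MulAut U') y, MulEquiv.ext fun z => ?_⟩
      show (g : MulAut U') y * z * ((g : MulAut U') y)⁻¹ =
        ((g : MulAut U') * (b : MulAut U') * (g : MulAut U')⁻¹) z
      rw [show (b : MulAut U') = MulAut.conj y from hy.symm]
      simp⟩
  set R1 : Subgroup Ω := S ⊓ (O.comap U'.normalizerMonoidHom).map
    (Subgroup.normalizer (U' : Set Ω)).subtype with hR1
  have hR1mem : ∀ g, g ∈ R1 ↔ g ∈ normalizerIn S U' ∧ ∃ a ∈ O,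
      ∀ x : U', ((a x : U') : Ω) = g * x * g⁻¹ := by
    intro g
    constructor
    · rintro ⟨hg, ⟨g', hg', rfl⟩⟩
      exact ⟨⟨hg, g'.2⟩, _, hg', fun x => rfl⟩
    · rintro ⟨⟨hg, hgn⟩, a, ha, hax⟩
      refine ⟨hg, ⟨g, hgn⟩, ?_, rfl⟩
      show U'.normalizerMonoidHom ⟨g, hgn⟩ ∈ O
      rwa [show U'.normalizerMonoidHom ⟨g, hgn⟩ = a from
        MulEquiv.ext fun x => Subtype.ext (hax x).symm]
  have hR1S : R1 ≤ S := inf_le_left
  haveI := finite_of_le hR1S
  have hUR : U' ≤ R1 := fun x hx => (hR1mem x).2 ⟨le_normalizerIn hU'.1 hx,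
    MulAut.conj ⟨x, hx⟩, hOinn ⟨⟨x, hx⟩, rfl⟩, fun _ => rfl⟩
  have hlt : U' < R1 := by
    refine lt_of_le_of_ne hUR fun heq => hrad ⟨hU'.1, le_antisymm ?_ hOinn⟩
    intro a ha
    obtain ⟨g, hg, hga⟩ := mem_autInducedBy.1 (hOS ha)
    have hgR : g ∈ R1 := (hR1mem g).2 ⟨⟨hg, mem_normalizer_of_conj_aut hga⟩, a, ha, hga⟩
    rw [← heq] at hgR
    exact ⟨⟨g, hgR⟩, MulEquiv.ext fun x => Subtype.ext (hga x).symm⟩
  have hR1c : F.IsCentric R1 := centric_mono hUc hUR hR1S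
  have hm' : Nat.card S - Nat.card R1 < m := by
    have h2 : Nat.card U' < Nat.card R1 := card_lt_of_lt hlt
    have h3 : Nat.card R1 ≤ Nat.card S := Subgroup.card_le_of_le hR1S
    omega
  obtain ⟨R, h2, hRn, hRc, hRr, hh2, hh2R, hext⟩ := ih _ hm' R1 rfl hR1c
  refine ⟨R, fun x => h2 (h1 x), hRn, hRc, hRr, hh1.comp hh2 fun x hx => hUR (hmem x hx), ?_, ?_⟩
  · exact fimg_le fun x hx => hh2R (apply_mem_fimg h2 (hUR (hmem x hx)))
  intro α hα
  obtain ⟨α', hα', hαe⟩ := hmove α hα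
  -- extend `α'` to `R1`
  have hgN : ∀ g ∈ R1, g ∈ normalizerIn S U' ∧ ∃ k ∈ S, ∀ x ∈ U',
      autFun α' (g * x * g⁻¹) = k * autFun α' x * k⁻¹ ∧ k ∈ R1 := by
    intro g hg
    obtain ⟨hgn, a, ha, hax⟩ := (hR1mem g).1 hg
    obtain ⟨b, hb, rfl⟩ := ha
    have hconjO : ((⟨α', hα'⟩ * b * (⟨α', hα'⟩ : F.autGroup U')⁻¹ : F.autGroup U') : MulAut U') ∈ O :=
      ⟨_, hOn.conj_mem b hb ⟨α', hα'⟩, rfl⟩
    obtain ⟨k, hk, hke⟩ := mem_autInducedBy.1 (hOS hconjO)
    refine ⟨hgn, k, hk, fun x hx => ⟨?_,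
      (hR1mem k).2 ⟨⟨hk, mem_normalizer_of_conj_aut hke⟩, _, hconjO, hke⟩⟩⟩
    have h4 := hke (α' ⟨x, hx⟩)
    have h5 := hax ⟨x, hx⟩
    rw [show x = ((⟨x, hx⟩ : U') : Ω) from rfl, ← h5, autFun_coe, autFun_coe, ← h4]
    simp
  obtain ⟨f', hf', hfe⟩ := receptive_extend (receptive_of_fullyNormalized hS hF hU')
    ((mem_autGroup hU'.1).1 hα') (fimg_autFun α')
    (fun g hg => ⟨(hgN g hg).1, let ⟨k, hk, h⟩ := (hgN g hg).2; ⟨k, hk, fun x hx => (h x hx).1⟩⟩) hUR
  have hf'R : fimg f' R1 = R1 := by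
    refine Subgroup.eq_of_le_of_card_ge (fimg_le fun g hg => ?_) hf'.card_fimg.ge
    obtain ⟨hgn, k, hk, hkx⟩ := hgN g hg
    have hfg : ∀ y ∈ U', f' g * y * (f' g)⁻¹ = k * y * k⁻¹ := by
      intro y hy
      rw [← fimg_autFun α'] at hy
      have hy' : y ∈ U' := fimg_autFun α' ▸ hy
      set x := autFun (α'⁻¹) y with hx
      have hxU : x ∈ U' := autFun_mem _ hy'
      have hxy : autFun α' x = y := by
        rw [hx, ← autFun_mul _ _ hy', mul_inv_cancel, autFun_one hy']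
      rw [← hxy, ← (hkx x hxU).1, ← hfe x hxU,
        ← hfe _ ((Subgroup.mem_normalizer_iff.1 hgn.2 x).1 hxU), hf'.map_conj hg (hUR hxU)]
    have hkR : k ∈ R1 := (hkx 1 (one_mem _)).2
    obtain ⟨⟨hkS, hkn⟩, a, ha, hax⟩ := (hR1mem k).1 hkR
    have hga : ∀ x : U', ((a x : U') : Ω) = f' g * (x : Ω) * (f' g)⁻¹ := fun x => by
      rw [hax, hfg x x.2]
    exact (hR1mem _).2 ⟨⟨hf'.apply_mem hg, mem_normalizer_of_conj_aut hga⟩, a, ha, hga⟩
  obtain ⟨β1, hβ1, hβ1e⟩ := exists_autGroup_of_isMap hR1S hf' hf'R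
  obtain ⟨β, hβ, hβe⟩ := hext β1 hβ1
  refine ⟨β, hβ, fun x hx => ?_⟩
  rw [hβe _ (hUR (hmem x hx)), hβ1e _ (hUR (hmem x hx)), hfe _ (hmem x hx), hαe x hx]

/-- Stability at the fully normalized centric radical subgroups gives stability. -/
theorem pStable_iff_radical (hS : IsPGroup p S) (hF : F.IsSaturated p) :
    (∀ Q : Subgroup Ω, F.IsFullyNormalized Q → ∀ χ : MulAut ↥Q, χ ∈ F.autGroup Q →
      Quad χ → InP p F χ) ↔
    ∀ R : Subgroup Ω, F.IsFullyNormalized R → F.IsCentric R → F.IsRadical p R →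
      ∀ N : FusionSystem (normalizerIn S R), F.IsNormalizerSystem R N →
        ∀ Q : Subgroup Ω, N.IsFullyNormalized Q → ∀ χ : MulAut ↥Q, χ ∈ N.autGroup Q →
          Quad χ → InP p N χ := by
  constructor
  · intro h R hR _ _ N hN Q hQ χ hχ hq
    have hQS : Q ≤ S := hQ.1.trans inf_le_left
    haveI : Finite Q := finite_of_le hQS
    have hsub : N.IsSubsystemOf F := fun P φ hφ => by
      rw [hN P] at hφ
      exact hφ.1
    refine inP_of_le (autGroup_mono hsub Q) hχ ?_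
    obtain ⟨Q', hconj, hQ'⟩ := exists_fullyNormalized F hQS
    obtain ⟨u, hu, huQ⟩ := isConj_iff.1 hconj
    obtain ⟨e, -, heA⟩ := exists_mulEquiv hu huQ
    exact inP_congr e heA (h Q' hQ' _ ((heA χ).1 (autGroup_mono hsub Q hχ)) (quad_congr e hq))
  intro hloc Q hQ χ hχ hq
  haveI : Finite Q := finite_of_le hQ.1
  set U := Q ⊔ centralizerIn S Q with hU
  have hUS : U ≤ S := sup_le hQ.1 inf_le_left
  have hQU : Q ≤ U := le_sup_left
  haveI := finite_of_le hUS
  have hcen := PrimeQuot.centric_sup_centralizerIn (fullyCentralized_of_fullyNormalized hS hF hQ)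
  have hCn : Q ≤ Subgroup.normalizer ((centralizerIn S Q : Subgroup Ω) : Set Ω) := by
    intro x hx
    have key : ∀ y ∈ Q, ∀ c ∈ centralizerIn S Q, y * c * y⁻¹ ∈ centralizerIn S Q := by
      intro y hy c hc
      rw [(mem_centralizerIn.1 hc).2 y hy, mul_inv_cancel_right]
      exact hc
    exact mem_normalizer_of_forall (key x hx) fun c hc => by
      simpa using key x⁻¹ (Q.inv_mem hx) c hc
  -- all automorphisms of `Q` extend to `U`
  have hextU : ∀ α ∈ F.autGroup Q, ∃ α' ∈ F.autGroup U, ∀ x ∈ Q,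
      autFun α' x = autFun α x := by
    intro α hα
    have hdec : ∀ g ∈ U, g ∈ normalizerIn S Q ∧ ∃ k ∈ Q, ∀ x ∈ Q,
        autFun α (g * x * g⁻¹) = k * autFun α x * k⁻¹ := by
      intro g hg
      obtain ⟨q, hq', c, hc, rfl⟩ := mem_sup_dest hCn hg
      obtain ⟨hcS, hcx⟩ := mem_centralizerIn.1 hc
      have hcn : c ∈ Subgroup.normalizer (Q : Set Ω) :=
        mem_normalizer_of_forall (fun x hx => by rw [← hcx x hx, mul_inv_cancel_right]; exact hx)
          fun x hx => by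
            rw [mul_assoc, hcx x hx, ← mul_assoc, inv_mul_cancel, one_mul]; exact hx
      refine ⟨⟨S.mul_mem (hQ.1 hq') hcS,
        Subgroup.mul_mem _ (Subgroup.le_normalizer hq') hcn⟩,
        autFun α q, autFun_mem α hq', fun x hx => ?_⟩
      rw [show q * c * x * (q * c)⁻¹ = q * x * q⁻¹ by
        rw [mul_inv_rev, mul_assoc q c x, ← hcx x hx]; group]
      exact ((mem_autGroup hQ.1).1 hα).map_conj hq' hx
    obtain ⟨f', hf', hfe⟩ := receptive_extend (receptive_of_fullyNormalized hS hF hQ)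
      ((mem_autGroup hQ.1).1 hα) (fimg_autFun α)
      (fun g hg => ⟨(hdec g hg).1, let ⟨k, hk, h⟩ := (hdec g hg).2; ⟨k, hQ.1 hk, h⟩⟩) hQU
    have hf'U : fimg f' U = U := by
      refine Subgroup.eq_of_le_of_card_ge (fimg_le fun g hg => ?_) hf'.card_fimg.ge
      obtain ⟨q, hq', c, hc, rfl⟩ := mem_sup_dest hCn hg
      have hcU : c ∈ U := le_sup_right (a := Q) hc
      rw [hf'.map_mul (hQU hq') hcU]
      refine U.mul_mem (hQU (hfe q hq' ▸ autFun_mem α hq'))
        (le_sup_right (a := Q) (mem_centralizerIn.2 ⟨hf'.apply_mem hcU, fun y hy => ?_⟩))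
      have hy' := hy
      rw [← fimg_autFun α] at hy
      set x := autFun (α⁻¹) y with hx
      have hxQ : x ∈ Q := autFun_mem _ hy'
      have hxy : f' x = y := by
        rw [hfe x hxQ, hx, ← autFun_mul _ _ hy', mul_inv_cancel, autFun_one hy']
      rw [← hxy, ← hf'.map_mul (hQU hxQ) hcU, ← hf'.map_mul hcU (hQU hxQ),
        (mem_centralizerIn.1 hc).2 x hxQ]
    obtain ⟨α', hα', hα'e⟩ := exists_autGroup_of_isMap hUS hf' hf'U
    exact ⟨α', hα', fun x hx => by rw [hα'e x (hQU hx), hfe x hx]⟩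
  obtain ⟨R, h, hRn, hRc, hRr, hh, hhR, hext⟩ := exists_radical_over hS hF hcen
  have hRS := hRc.1
  set Q' := fimg h Q with hQ'
  have hQ'R : Q' ≤ R := (fimg_mono h hQU).trans hhR
  have hQ'S : Q' ≤ S := hQ'R.trans hRS
  haveI : Finite Q' := finite_of_le hQ'S
  obtain ⟨e, he, heA⟩ := exists_mulEquiv (hh.res hQU) (rfl : fimg h Q = Q')
  refine inP_congr e heA ?_
  set N := normalizerSystem F R hRS with hN
  have hQ'N : Q' ≤ normalizerIn S R := hQ'R.trans (le_normalizerIn hRS)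
  have heq : N.autGroup Q' = F.autGroup Q' := by
    refine le_antisymm (autGroup_mono (normalizerSystem_isSubsystemOf hRS) Q') fun γ hγ => ?_
    have hγ' : (MulAut.congr e).symm γ ∈ F.autGroup Q :=
      (heA _).2 (by rwa [MulEquiv.apply_symm_apply])
    obtain ⟨α', hα', hα'e⟩ := hextU _ hγ'
    obtain ⟨β, hβ, hβe⟩ := hext α' hα'
    rw [mem_autGroup hQ'N, isMap_normalizerSystem hRS]
    refine ⟨hQ'N, fun x hx => hQ'N (autFun_mem γ hx), autFun β, ?_, fun x hx => ?_, fimg_autFun β⟩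
    · rw [sup_eq_right.2 hQ'R]
      exact (mem_autGroup hRS).1 hβ
    · obtain ⟨y, hy⟩ := e.surjective ⟨x, hx⟩
      have hxy : x = h y := by rw [← he, hy]
      rw [hxy, hβe y (hQU y.2), hα'e y y.2, autFun_coe]
      rw [← he, ← he, autFun_coe]
      simp [MulAut.congr]
  have hQ'f : Q' ≤ normalizerIn S R := hQ'N
  haveI : Finite ↥(normalizerIn S R) := finite_of_le (S := S) inf_le_left
  obtain ⟨Q'', hconj, hQ''⟩ := exists_fullyNormalized N hQ'f
  obtain ⟨u, hu, huQ⟩ := isConj_iff.1 hconj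
  obtain ⟨e', -, heA'⟩ := exists_mulEquiv hu huQ
  haveI : Finite ↥(normalizerIn S R) := finite_of_le (S := S) inf_le_left
  have hχN : MulAut.congr e χ ∈ N.autGroup Q' := heq ▸ (heA χ).1 hχ
  have hfin := inP_congr (F := N) e' heA' (hloc R hRn hRc hRr N
    (isNormalizerSystem_normalizerSystem F hRS) Q'' hQ'' _ ((heA' _).1 hχN)
    (quad_congr e' (quad_congr e hq)))
  rw [InP, heq] at hfin
  exact hfin

end Cfsg.Agent.Fus.PStableLocal
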