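import Mathlib
import Cfsg.Prelude.Def_Solvable

/-!
A cyclic group of order `(p ^ q - 1) / (p - 1)` acting freely on a group of order `p ^ q` and exponent `p`
gives the group the structure of a field.
-/

set_option autoImplicit false
set_option linter.style.haveILetI false

open scoped Pointwise

namespace Cfsg.Agent.Fus.ParabolicField

universe u v

variable {G : Type*} [Group G]

/-- Free conjugation action inside a Frobenius group, read in the ambient group. -/
theorem frobenius_facts {H A P : Subgroup G} (hAH : A ≤ H) (hPH : P ≤ H)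
    (hker : Cfsg.frobeniusKernel (A.subgroupOf H) = (P.subgroupOf H : Set ↥H))
    (hfr : Cfsg.IsFrobeniusComplement (A.subgroupOf H)) :
    (∀ a ∈ A, ∀ x ∈ P, a * x * a⁻¹ ∈ P) ∧
      ∀ a ∈ A, ∀ x ∈ P, a * x * a⁻¹ = x → a = 1 ∨ x = 1 := by
  have hk : ∀ x : ↥H, x ∈ P.subgroupOf H ↔
      (x = 1 ∨ ∀ g : ↥H, x ∉ MulAut.conj g • A.subgroupOf H) := fun x => by
    rw [← SetLike.mem_coe, ← hker]; rfl
  refine ⟨fun a ha x hx => ?_, fun a ha x hx he => ?_⟩
  · let a' : ↥H := ⟨a, hAH ha⟩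
    let x' : ↥H := ⟨x, hPH hx⟩
    have h : a' * x' * a'⁻¹ ∈ P.subgroupOf H := by
      rw [hk]
      rcases (hk x').1 hx with h1 | h1
      · left; rw [h1, mul_one, mul_inv_cancel]
      · right
        intro g hg
        apply h1 (a'⁻¹ * g)
        rw [Subgroup.mem_pointwise_smul_iff_inv_smul_mem] at hg ⊢
        rw [← map_inv, MulAut.smul_def, MulAut.conj_apply] at hg ⊢
        have e : (a'⁻¹ * g)⁻¹ * x' * ((a'⁻¹ * g)⁻¹)⁻¹ = g⁻¹ * (a' * x' * a'⁻¹) * g⁻¹⁻¹ := by group
        rw [e]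
        exact hg
    exact h
  · by_cases hx1 : x = 1
    · exact Or.inr hx1
    left
    let a' : ↥H := ⟨a, hAH ha⟩
    let x' : ↥H := ⟨x, hPH hx⟩
    have hx'A : x' ∉ A.subgroupOf H := by
      intro hmem
      rcases (hk x').1 hx with h1 | h1
      · exact hx1 (congrArg Subtype.val h1)
      · exact h1 1 (by rw [map_one, one_smul]; exact hmem)
    have hmem : a' ∈ A.subgroupOf H ⊓ MulAut.conj x' • A.subgroupOf H := by
      refine Subgroup.mem_inf.2 ⟨ha, ?_⟩
      rw [Subgroup.mem_pointwise_smul_iff_inv_smul_mem, ← map_inv, MulAut.smul_def, MulAut.conj_apply]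
      have hc : a * x = x * a := by
        calc a * x = a * x * a⁻¹ * a := by group
          _ = x * a := by rw [he]
      have : x'⁻¹ * a' * x'⁻¹⁻¹ = a' := Subtype.ext (by
        show x⁻¹ * a * x⁻¹⁻¹ = a
        rw [inv_inv, mul_assoc, hc, inv_mul_cancel_left])
      rw [this]
      exact ha
    rw [hfr.2.2 x' hx'A, Subgroup.mem_bot] at hmem
    exact congrArg Subtype.val hmem

/-- The field coordinates, for an abstract `ZMod p`-module. -/
theorem exists_field_aux {A : Type*} [Group A] [Finite A] [IsCyclic A] {W₀ : Type v} [AddCommGroup W₀] [Finite W₀]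
    {p q : ℕ} [hp : Fact p.Prime] [Module (ZMod p) W₀] (hq : 2 ≤ q) (hVcard : Nat.card W₀ = p ^ q)
    (hAcard : Nat.card A = (p ^ q - 1) / (p - 1)) (act : A →* Module.End (ZMod p) W₀)
    (hfree : ∀ a v, act a v = v → a = 1 ∨ v = 0) (v₀ : W₀) (hv₀ : v₀ ≠ 0) :
    ∃ (F : Type v) (_ : Field F) (_ : Fintype F) (f : W₀ → F) (ψ : A → F),
      Fintype.card F = p ^ q ∧ Function.Bijective f ∧ (∀ x z, f (x + z) = f x + f z) ∧
      (∀ a, ψ a ≠ 0 ∧ ∀ x, f (act a x) = ψ a * f x) ∧ (∀ a b, ψ (a * b) = ψ a * ψ b) ∧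
      Function.Injective ψ ∧ ∀ x, f x ^ p = f x → ∃ n : ℕ, x = n • v₀ := by
  classical
  have hp1 := hp.out.one_lt
  obtain ⟨g, hg⟩ := IsCyclic.exists_generator (α := A)
  let T := act g
  let K : Subalgebra (ZMod p) (Module.End (ZMod p) (W₀)) := Algebra.adjoin (ZMod p) {T}
  have hTK : T ∈ K := Algebra.subset_adjoin (Set.mem_singleton T)
  have hactK : ∀ a : A, act a ∈ K := fun a => by
    obtain ⟨n, hn⟩ := (mem_powers_iff_mem_zpowers (x := g) (y := a)).2 (hg a)
    rw [← hn, map_pow]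
    exact K.pow_mem hTK n
  have hcomm : ∀ k ∈ K, k * T = T * k := fun k hk =>
    (Algebra.commute_of_mem_adjoin_self hk).symm.eq
  -- irreducibility
  have hmbig : p ^ (q - 1) ≤ Nat.card A := by
    rw [hAcard, Nat.le_div_iff_mul_le (by omega), Nat.mul_sub, mul_one, ← pow_succ, Nat.sub_add_cancel (by omega)]
    have : 1 ≤ p ^ (q - 1) := Nat.one_le_pow _ _ (by omega)
    omega
  have hirr : ∀ W : Submodule (ZMod p) (W₀), (∀ v ∈ W, T v ∈ W) → W = ⊥ ∨ W = ⊤ := by
    intro W hW
    by_cases hW0 : W = ⊥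
    · exact Or.inl hW0
    right
    obtain ⟨w, hw, hw0⟩ := W.ne_bot_iff.1 hW0
    have hWa : ∀ a : A, act a w ∈ W := fun a => by
      obtain ⟨n, hn⟩ := (mem_powers_iff_mem_zpowers (x := g) (y := a)).2 (hg a)
      rw [← hn, map_pow]
      clear hn
      induction n with
      | zero => simpa using hw
      | succ n ih => rw [pow_succ', Module.End.mul_apply]; exact hW _ ih
    have hinj : Function.Injective (fun a : A => (⟨act a w, hWa a⟩ : W)) := by
      intro a b hab
      have h1 : act a w = act b w := congrArg Subtype.val hab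
      have h2 : act (b⁻¹ * a) w = w := by
        rw [map_mul, Module.End.mul_apply, h1, ← Module.End.mul_apply, ← map_mul, inv_mul_cancel, map_one]
        rfl
      rcases hfree _ _ h2 with h4 | h4
      · exact (inv_mul_eq_one.1 h4).symm
      · exact absurd h4 hw0
    have hlt : p ^ (q - 1) < Nat.card W := by
      have h1 : Nat.card A < Nat.card W := by
        refine lt_of_le_of_ne (Nat.card_le_card_of_injective _ hinj) fun he => ?_
        have hsur := ((Nat.bijective_iff_injective_and_card _).2 ⟨hinj, he⟩).2 0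
        obtain ⟨a, ha⟩ := hsur
        have h1 : act a w = 0 := congrArg Subtype.val ha
        apply hw0
        have h2 : act a⁻¹ (act a w) = w := by
          rw [← Module.End.mul_apply, ← map_mul, inv_mul_cancel, map_one]; rfl
        rw [← h2, h1, map_zero]
      omega
    have hWd : Nat.card W ∣ p ^ q := by
      have := AddSubgroup.card_addSubgroup_dvd_card W.toAddSubgroup
      simpa [hVcard] using this
    obtain ⟨k, hk, hk'⟩ := (Nat.dvd_prime_pow hp.out).1 hWd
    rw [hk'] at hlt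
    have : q - 1 < k := (Nat.pow_lt_pow_iff_right hp1).1 hlt
    have hkq : Nat.card W = p ^ q := by rw [hk', show k = q by omega]
    have : W.toAddSubgroup = ⊤ := AddSubgroup.eq_top_of_card_eq _ (by
      show Nat.card W = Nat.card (W₀)
      rw [hkq, ← hVcard])
    exact SetLike.ext fun v => ⟨fun _ => trivial, fun _ => by
      have hv : v ∈ W.toAddSubgroup := this ▸ AddSubgroup.mem_top v
      exact hv⟩
  have hker : ∀ k ∈ K, ∀ v : W₀, v ≠ 0 → k v = 0 → k = 0 := by
    intro k hk v hv hkv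
    rcases hirr (LinearMap.ker k) (fun x hx => by
      rw [LinearMap.mem_ker] at hx ⊢
      rw [← Module.End.mul_apply, hcomm k hk, Module.End.mul_apply, hx, map_zero]) with h | h
    · exact absurd (by rwa [← LinearMap.mem_ker, h, Submodule.mem_bot] at hkv) hv
    · exact LinearMap.ker_eq_top.1 h
  let ev : ↥K →ₗ[ZMod p] W₀ :=
    { toFun := fun k => (k : Module.End (ZMod p) (W₀)) v₀
      map_add' := fun _ _ => rfl
      map_smul' := fun _ _ => rfl }
  have hevinj : Function.Injective ev := LinearMap.ker_eq_bot.1 (LinearMap.ker_eq_bot'.2 fun k hk =>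
    Subtype.ext (hker k k.2 v₀ hv₀ hk))
  have hevsurj : Function.Surjective ev := by
    rcases hirr (LinearMap.range ev) (fun x hx => by
      obtain ⟨k, rfl⟩ := hx
      exact ⟨⟨T * k, K.mul_mem hTK k.2⟩, rfl⟩) with h | h
    · exfalso
      apply hv₀
      have : ev 1 ∈ LinearMap.range ev := ⟨1, rfl⟩
      rw [h, Submodule.mem_bot] at this
      exact this
    · exact LinearMap.range_eq_top.1 h
  let e : ↥K ≃ₗ[ZMod p] W₀ := LinearEquiv.ofBijective ev ⟨hevinj, hevsurj⟩
  haveI : Finite ↥K := Finite.of_equiv _ e.symm.toEquiv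
  letI : CommRing ↥K := { (inferInstance : Ring ↥K) with
    mul_comm := fun a b => by
      have := Algebra.isMulCommutative_adjoin (R := ZMod p) (s := {T}) (by simp)
      exact this.is_comm.comm a b }
  haveI : Nontrivial ↥K := e.toEquiv.nontrivial_congr.2 ⟨⟨v₀, 0, hv₀⟩⟩
  haveI : NoZeroDivisors ↥K := ⟨fun {a b} hab => by
    by_contra! hne
    have h1 : ev b ≠ 0 := fun h => hne.2 (hevinj (h.trans (map_zero ev).symm))
    exact hne.1 (Subtype.ext (hker a a.2 (ev b) h1 (by
      show ((a * b : ↥K) : Module.End (ZMod p) (W₀)) v₀ = 0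
      rw [hab]; rfl)))⟩
  haveI : IsDomain ↥K := NoZeroDivisors.to_isDomain _
  letI : Field ↥K := (Finite.isField_of_domain ↥K).toField
  letI : Fintype ↥K := Fintype.ofFinite _
  let f : W₀ → ↥K := fun x => e.symm x
  let ψ : A → ↥K := fun a => ⟨act a, hactK a⟩
  have hcardK : Nat.card ↥K = p ^ q := by
    rw [Nat.card_congr e.toEquiv, ← hVcard]
  refine ⟨↥K, inferInstance, inferInstance, f, ψ, by rwa [← Nat.card_eq_fintype_card], ?_, ?_, ?_, ?_, ?_, ?_⟩
  · exact e.symm.bijective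
  · intro x z
    simp only [f, map_add]
  · intro a
    refine ⟨fun h0 => ?_, fun x => ?_⟩
    · have h1 : act a = 0 := congrArg Subtype.val h0
      apply hv₀
      have h2 : act a⁻¹ (act a v₀) = v₀ := by
        rw [← Module.End.mul_apply, ← map_mul, inv_mul_cancel, map_one]; rfl
      rw [← h2, h1, LinearMap.zero_apply, map_zero]
    · apply e.injective
      rw [e.apply_symm_apply]
      exact (congrArg (act a) (e.apply_symm_apply x)).symm
  · exact fun a b => Subtype.ext (map_mul act a b)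
  · intro a b h
    have h1 : act a v₀ = act b v₀ := by rw [show act a = act b from congrArg Subtype.val h]
    have h2 : act (b⁻¹ * a) v₀ = v₀ := by
      rw [map_mul, Module.End.mul_apply, h1, ← Module.End.mul_apply, ← map_mul, inv_mul_cancel, map_one]; rfl
    rcases hfree _ _ h2 with h4 | h4
    · exact (inv_mul_eq_one.1 h4).symm
    · exact absurd h4 hv₀
  · intro x hfix
    haveI : CharP ↥K p := charP_of_injective_algebraMap (algebraMap (ZMod p) ↥K).injective p
    have hb := (Subfield.mem_bot_iff_pow_eq_self (F := ↥K) (p := p) (x := f x)).2 hfix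
    rw [← ZMod.fieldRange_castHom_eq_bot p] at hb
    obtain ⟨c, hc⟩ := hb
    obtain ⟨n, rfl⟩ : ∃ n : ℕ, (n : ZMod p) = c := ⟨c.val, ZMod.natCast_zmod_val c⟩
    rw [map_natCast] at hc
    have h1 : e (f x) = n • v₀ := by
      rw [← hc, ← nsmul_one, map_nsmul]
      rfl
    rw [e.apply_symm_apply] at h1
    exact ⟨n, h1⟩

/-- The field coordinates. -/
theorem exists_field {G : Type u} [Group G] [Finite G] {p q : ℕ} [hp : Fact p.Prime] (hq : 2 ≤ q) {A P P₀ : Subgroup G}
    (hPc : IsMulCommutative P) (hPe : ∀ x ∈ P, x ^ p = 1) (hPcard : Nat.card P = p ^ q)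
    (hA : IsCyclic A) (hAcard : Nat.card A = (p ^ q - 1) / (p - 1))
    (hnorm : ∀ a ∈ A, ∀ x ∈ P, a * x * a⁻¹ ∈ P)
    (hfree : ∀ a ∈ A, ∀ x ∈ P, a * x * a⁻¹ = x → a = 1 ∨ x = 1)
    (hP₀ : P₀ ≤ P) (hP₀card : Nat.card P₀ = p) :
    ∃ (F : Type u) (_ : Field F) (_ : Fintype F) (f ψ : G → F),
      Fintype.card F = p ^ q ∧ Set.BijOn f (P : Set G) Set.univ ∧
      (∀ x ∈ P, ∀ z ∈ P, f (x * z) = f x + f z) ∧
      (∀ u ∈ A, ψ u ≠ 0 ∧ ∀ x ∈ P, f (u * x * u⁻¹) = ψ u * f x) ∧
      (∀ u ∈ A, ∀ v ∈ A, ψ (u * v) = ψ u * ψ v) ∧ Set.InjOn ψ (A : Set G) ∧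
      ∀ x ∈ P, f x ^ p = f x → x ∈ P₀ := by
  classical
  have hP₀ne : P₀ ≠ ⊥ := fun h => by
    rw [h, Subgroup.card_bot] at hP₀card; exact hp.out.one_lt.ne hP₀card
  obtain ⟨s, hs, hs1⟩ := P₀.ne_bot_iff_exists_ne_one.1 hP₀ne |>.elim
    fun a ha => (⟨a, a.2, fun h => ha (Subtype.ext h)⟩ : ∃ s ∈ P₀, s ≠ 1)
  let φ : ↥A →* MulAut ↥P :=
    (Subgroup.normalizerMonoidHom P).comp (Subgroup.inclusion (fun a ha => by
      rw [Subgroup.mem_normalizer_iff]
      intro x
      refine ⟨hnorm a ha x, fun hx => ?_⟩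
      have := hnorm a⁻¹ (A.inv_mem ha) _ hx
      simpa [mul_assoc] using this))
  have hφ : ∀ (a : ↥A) (x : ↥P), ((φ a x : ↥P) : G) = (a : G) * x * (a : G)⁻¹ := fun a x => rfl
  haveI := hPc
  letI : CommGroup ↥P := { (inferInstance : Group ↥P) with mul_comm := hPc.is_comm.comm }
  letI : Module (ZMod p) (Additive ↥P) :=
    AddCommGroup.zmodModule (fun v => Additive.toMul.injective (Subtype.ext (hPe _ v.toMul.2)))
  obtain ⟨F, _, _, f, ψ, hcard, hbij, hadd, hψ, hψm, hψi, hfix⟩ :=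
    @exists_field_aux ↥A _ _ hA (Additive ↥P) _ _ p q hp _ hq hPcard hAcard
      { toFun := fun a => AddMonoidHom.toZModLinearMap p (MonoidHom.toAdditive (φ a).toMonoidHom)
        map_one' := LinearMap.ext fun v => congrArg Additive.ofMul (DFunLike.congr_fun φ.map_one v.toMul)
        map_mul' := fun a b =>
          LinearMap.ext fun v => congrArg Additive.ofMul (DFunLike.congr_fun (φ.map_mul a b) v.toMul) }
      (fun a v h => (hfree _ a.2 _ v.toMul.2
        ((hφ a v.toMul).symm.trans (congrArg (fun w : Additive ↥P => (w.toMul : G)) h))).imp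
        (fun h1 => Subtype.ext h1) (fun h1 => Additive.toMul.injective (Subtype.ext h1)))
      (Additive.ofMul ⟨s, hP₀ hs⟩) (fun h => hs1 (congrArg (fun w : Additive ↥P => (w.toMul : G)) h))
  let f' : G → F := fun x => if h : x ∈ P then f (Additive.ofMul ⟨x, h⟩) else 0
  let ψ' : G → F := fun u => if h : u ∈ A then ψ ⟨u, h⟩ else 0
  have hfd : ∀ {x : G} (h : x ∈ P), f' x = f (Additive.ofMul ⟨x, h⟩) := fun h => dif_pos h
  have hψd : ∀ {u : G} (h : u ∈ A), ψ' u = ψ ⟨u, h⟩ := fun h => dif_pos h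
  refine ⟨F, inferInstance, inferInstance, f', ψ', hcard, ?_, ?_, ?_, ?_, ?_, ?_⟩
  · refine ⟨Set.mapsTo_univ _ _, fun x hx y hy h => ?_, fun k _ => ?_⟩
    · rw [hfd hx, hfd hy] at h
      exact congrArg (fun w : Additive ↥P => (w.toMul : G)) (hbij.1 h)
    · obtain ⟨w, rfl⟩ := hbij.2 k
      exact ⟨w.toMul, w.toMul.2, hfd w.toMul.2⟩
  · intro x hx z hz
    rw [hfd hx, hfd hz, hfd (P.mul_mem hx hz)]
    exact hadd (Additive.ofMul ⟨x, hx⟩) (Additive.ofMul ⟨z, hz⟩)
  · intro u hu
    rw [hψd hu]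
    refine ⟨(hψ _).1, fun x hx => ?_⟩
    rw [hfd hx, hfd (hnorm u hu x hx)]
    exact (hψ ⟨u, hu⟩).2 (Additive.ofMul ⟨x, hx⟩)
  · intro u hu v hv
    rw [hψd hu, hψd hv, hψd (A.mul_mem hu hv)]
    exact hψm ⟨u, hu⟩ ⟨v, hv⟩
  · intro u hu v hv h
    rw [hψd hu, hψd hv] at h
    exact congrArg Subtype.val (hψi h)
  · intro x hx h
    rw [hfd hx] at h
    obtain ⟨n, hn⟩ := hfix _ h
    have : x = s ^ n := congrArg (fun w : Additive ↥P => (w.toMul : G)) hn
    rw [this]
    exact P₀.pow_mem hs n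

end Cfsg.Agent.Fus.ParabolicField
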