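import Mathlib

/-! The prime graph of a split extension of a power of a module of prime exponent by a finite group. -/

set_option autoImplicit false

namespace Cfsg.Agent.Fus.PrimeGraph

variable {G V : Type} [Group G] [Finite G] [AddCommGroup V] [Finite V] [DistribMulAction G V]

/-- Arbitrarily large groups whose prime graph is that of `G` with the edges from `r` to the orders of
elements with nonzero fixed points. -/
theorem exists_large_graph [Nontrivial V] {r : ℕ} (hr : r.Prime) (hrG : r ∣ Nat.card G)
    (hV : ∀ v : V, r • v = 0) (N : ℕ) :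
    ∃ (H : Type) (_ : Group H) (_ : Finite H), N < Nat.card H ∧
      ((∀ p : ℕ, p.Prime → (p ∣ Nat.card G ↔ p ∣ Nat.card H)) ∧
        (∀ p q : ℕ, p.Prime → q.Prime → p ≠ q →
          ((∃ y : H, orderOf y = p * q) ↔ ((∃ x : G, orderOf x = p * q) ∨
            ∃ (g : G) (v : V), v ≠ 0 ∧ g • v = v ∧ ((p = r ∧ orderOf g = q) ∨ (q = r ∧ orderOf g = p)))))) := by
  classical
  let A := Fin (N + 1) → V
  let ψ : G →* MulAut (Multiplicative A) := MonoidHom.mk'
    (fun g => AddEquiv.toMultiplicative
      (AddEquiv.piCongrRight fun _ : Fin (N + 1) => DistribMulAction.toAddEquiv V g))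
    (fun g h => MulEquiv.ext fun a => by
      apply Multiplicative.toAdd.injective
      funext i
      exact mul_smul g h (a.toAdd i))
  let P := Multiplicative A ⋊[ψ] G
  have hfin : Finite P := Finite.of_equiv _ SemidirectProduct.equivProd.symm
  have hcard : Nat.card P = Nat.card V ^ (N + 1) * Nat.card G := by
    rw [SemidirectProduct.card, Nat.card_congr Multiplicative.toAdd, Nat.card_fun, Nat.card_fin]
  have hAexp : ∀ a : Multiplicative A, a ^ r = 1 := fun a => by
    apply Multiplicative.toAdd.injective
    funext i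
    exact hV (a.toAdd i)
  have := Fact.mk hr
  have hmk : ∀ (g : G) (v : V) (q : ℕ), q.Prime → q ≠ r → v ≠ 0 → g • v = v → orderOf g = q →
      ∃ y : P, orderOf y = r * q := fun g v q hq hqr hv hgv hg => by
    let a : Multiplicative A := Multiplicative.ofAdd fun _ => v
    have hfix : ψ g a = a := Multiplicative.toAdd.injective (funext fun _ => hgv)
    have ha : orderOf (SemidirectProduct.inl a : P) = r := by
      rw [orderOf_injective _ SemidirectProduct.inl_injective]
      exact orderOf_eq_prime (hAexp a) fun h => hv (congrFun (congrArg Multiplicative.toAdd h) 0)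
    have hb : orderOf (SemidirectProduct.inr g : P) = q := by
      rw [orderOf_injective _ SemidirectProduct.inr_injective, hg]
    have hc : Commute (SemidirectProduct.inl a : P) (SemidirectProduct.inr g) := by
      show _ = _
      refine SemidirectProduct.ext ?_ ?_
      · simp [hfix]
      · simp
    exact ⟨SemidirectProduct.inl a * SemidirectProduct.inr g, by
      rw [hc.orderOf_mul_eq_mul_orderOf_of_coprime (by
        rw [ha, hb]; exact (Nat.coprime_primes hr hq).2 hqr.symm), ha, hb]⟩
  refine ⟨P, inferInstance, hfin, ?_, ?_, ?_⟩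
  · rw [hcard]
    calc N < N + 1 := Nat.lt_succ_self N
      _ ≤ Nat.card V ^ (N + 1) := (Nat.lt_pow_self Finite.one_lt_card).le
      _ ≤ _ := Nat.le_mul_of_pos_right _ Nat.card_pos
  · intro p hp
    rw [hcard]
    refine ⟨fun h => h.trans (Nat.dvd_mul_left _ _), fun h => ?_⟩
    rcases hp.dvd_mul.mp h with h | h
    · have hVp : IsPGroup r (Multiplicative V) := fun v => ⟨1, by
        rw [pow_one]; exact Multiplicative.toAdd.injective (hV v.toAdd)⟩
      obtain ⟨k, hk⟩ := IsPGroup.iff_card.mp hVp
      rw [show Nat.card V = r ^ k from (Nat.card_congr Multiplicative.toAdd).symm.trans hk] at h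
      rwa [(Nat.prime_dvd_prime_iff_eq hp hr).mp (hp.dvd_of_dvd_pow (hp.dvd_of_dvd_pow h))]
    · exact h
  · intro p q hp hq hpq
    constructor
    · rintro ⟨z, hz⟩
      set g : G := z.right with hg
      set o := orderOf g with ho'
      have hd : o ∣ p * q := hz ▸ orderOf_map_dvd (SemidirectProduct.rightHom : P →* G) z
      rcases eq_or_ne o (p * q) with ho | ho
      · exact Or.inl ⟨g, ho⟩
      right
      have hr1 : (z ^ o).right = 1 := by
        show SemidirectProduct.rightHom (z ^ o) = 1
        rw [map_pow]
        exact pow_orderOf_eq_one g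
      have hzo : z ^ o = SemidirectProduct.inl (z ^ o).left := SemidirectProduct.ext rfl hr1
      have hdr : p * q ∣ o * r := by
        rw [← hz]
        exact orderOf_dvd_of_pow_eq_one (by rw [pow_mul, hzo, ← map_pow, hAexp, map_one])
      have hne : z ^ o ≠ 1 := fun h => ho (Nat.dvd_antisymm hd (hz ▸ orderOf_dvd_of_pow_eq_one h))
      set w := (z ^ o).left with hw
      have hw0 : w.toAdd ≠ 0 := fun h => hne (by rw [hzo, show w = 1 from h, map_one])
      obtain ⟨i, hi⟩ := Function.ne_iff.mp hw0
      have hcomm : ψ g w = w := by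
        have h1 := congrArg SemidirectProduct.left (Commute.self_pow z o).eq
        rw [SemidirectProduct.mul_left, SemidirectProduct.mul_left, hr1, map_one, MulAut.one_apply,
          mul_comm (z ^ o).left z.left] at h1
        exact mul_left_cancel h1
      have hfi : g • (w.toAdd i) = w.toAdd i := congrArg (fun a : Multiplicative A => a.toAdd i) hcomm
      refine ⟨g, w.toAdd i, hi, hfi, ?_⟩
      obtain ⟨c, hc⟩ := hd
      have hc' : c ∣ r := by
        rw [hc] at hdr
        exact (Nat.mul_dvd_mul_iff_left (orderOf_pos g)).mp hdr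
      rcases (Nat.dvd_prime hr).mp hc' with rfl | rfl
      · exact absurd (by rw [hc, mul_one]) ho
      rcases hr.dvd_mul.mp (Dvd.intro_left _ hc.symm) with h | h
      · have := (Nat.prime_dvd_prime_iff_eq hr hp).mp h
        subst this
        exact Or.inl ⟨rfl, (Nat.eq_of_mul_eq_mul_left hr.pos (hc.trans (mul_comm _ _))).symm⟩
      · have := (Nat.prime_dvd_prime_iff_eq hr hq).mp h
        subst this
        exact Or.inr ⟨rfl, (Nat.eq_of_mul_eq_mul_right hr.pos hc).symm⟩
    · rintro (⟨x, hx⟩ | ⟨g, v, hv, hgv, ⟨rfl, hg⟩ | ⟨rfl, hg⟩⟩)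
      · exact ⟨SemidirectProduct.inr x, by rw [orderOf_injective _ SemidirectProduct.inr_injective, hx]⟩
      · exact hmk g v q hq hpq.symm hv hgv hg
      · rw [mul_comm]
        exact hmk g v p hp hpq hv hgv hg

end Cfsg.Agent.Fus.PrimeGraph
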