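import Cfsg.Agent.Lib.Lie.PSUThreeSpectrum

/-!
The prime graph of `PSU(3, 4)`. The bound on the element orders is that of `Lie.PSUThreeSpectrum`, allowing even
characteristic: the exponent of the unipotent part is then `p ^ 2`.
-/

set_option autoImplicit false
set_option linter.unusedSectionVars false

namespace Cfsg.Agent.Fus.PrimeGraph

open Matrix Polynomial Cfsg.Agent.Classical Cfsg.Agent.Lie.PSUThreeSpectrum

variable {F : Type*} [Field F] [Fintype F] {q : ℕ}

local notation "K" => AlgebraicClosure F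
local notation "em" => algebraMap F (AlgebraicClosure F)

theorem pow_eq_scalar_sq {p : ℕ} [Fact p.Prime] [CharP F p] {M : Matrix (Fin 3) (Fin 3) F}
    {k : ℕ} {c : F} (h : ∀ r ∈ eig M, r ^ k = em c) : M ^ (k * p ^ 2) = Matrix.scalar (Fin 3) (c ^ p ^ 2) := by
  have h3 : 3 ≤ p ^ 2 := le_trans (by norm_num) (Nat.pow_le_pow_left (Fact.out : p.Prime).two_le 2)
  have key : ∀ R : Multiset (AlgebraicClosure F), (∀ r ∈ R, r ^ k = em c) →
      (R.map fun a => X - C a).prod ∣ (X ^ k - C (em c)) ^ R.card := by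
    intro R
    induction R using Multiset.induction with
    | empty => simp
    | cons a R ih =>
      intro hR
      rw [Multiset.map_cons, Multiset.prod_cons, Multiset.card_cons, pow_succ']
      refine mul_dvd_mul ?_ (ih fun r hr => hR r (Multiset.mem_cons_of_mem hr))
      rw [dvd_iff_isRoot]
      simp [hR a (Multiset.mem_cons_self a R)]
  have hdvd : M.charpoly.map em ∣ ((X ^ k - C c) ^ p ^ 2).map em := by
    rw [← prod_eig, Polynomial.map_pow, Polynomial.map_sub, Polynomial.map_pow, map_X, map_C]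
    exact (key _ h).trans (pow_dvd_pow _ (by rw [card_eig]; exact h3))
  obtain ⟨g, hg⟩ := (map_dvd_map' em).1 hdvd
  rw [sub_pow_char_pow] at hg
  have := congrArg (aeval M) hg
  rw [map_mul, Matrix.aeval_self_charpoly, zero_mul, map_sub, map_pow, map_pow, aeval_X, map_pow, aeval_C,
    sub_eq_zero, ← pow_mul] at this
  rw [this, ← map_pow]
  rfl

theorem exists_scalar_pow_sq (hF : Fintype.card F = q ^ 2) {p : ℕ} [Fact p.Prime] [CharP F p]
    {M : Matrix (Fin 3) (Fin 3) F} (hM : Mᵀ * M.map (qFrob hF) = 1) (hdet : M.det = 1) :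
    ∃ k, (k = q + 1 ∨ k = p ^ 2 * (q + 1) / Nat.gcd 3 (q + 1) ∨ k = (q ^ 2 - 1) / Nat.gcd 3 (q + 1) ∨
      k = (q ^ 2 - q + 1) / Nat.gcd 3 (q + 1)) ∧ ∃ c : F, M ^ k = Matrix.scalar (Fin 3) c := by
  classical
  obtain ⟨a, ha⟩ : ∃ a, q = p ^ a := by
    obtain ⟨m, -, hm⟩ := FiniteField.card F p
    rw [hF] at hm
    obtain ⟨a, -, ha⟩ := (Nat.dvd_prime_pow (Fact.out : p.Prime)).1 ((dvd_pow_self q two_ne_zero).trans hm.dvd)
    exact ⟨a, ha⟩
  have hq2 := two_le_q hF
  have : CharP (AlgebraicClosure F) p := charP_of_injective_algebraMap (algebraMap F (AlgebraicClosure F)).injective p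
  let φ : AlgebraicClosure F →+* AlgebraicClosure F := iterateFrobenius _ p a
  have hφ : ∀ x, φ x = x ^ q := fun x => by rw [ha]; exact iterateFrobenius_def p a x
  let ψ : AlgebraicClosure F →+* AlgebraicClosure F := φ.comp φ
  have hψ : ∀ x, ψ x = x ^ q ^ 2 := fun x => by
    show φ (φ x) = _
    rw [hφ, hφ, ← pow_mul, sq]
  have hψc : ∀ c : F, ψ (em c) = em c := fun c => by rw [hψ, ← map_pow, ← hF, FiniteField.pow_card]
  have hσ : ∀ r ∈ eig M, (r ^ q)⁻¹ ∈ eig M := fun r hr => (eig_inv hF hM φ hφ hr).1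
  have h0 : ∀ r ∈ eig M, r ≠ 0 := fun r hr => (eig_inv hF hM φ hφ hr).2
  have hfix : ∀ r : AlgebraicClosure F, (r ^ q)⁻¹ = r → r ≠ 0 → r ^ (q + 1) = 1 := fun r hr hr0 => by
    have h' : (r ^ q)⁻¹ * r ^ q = r * r ^ q := by rw [hr]
    rw [inv_mul_cancel₀ (pow_ne_zero _ hr0)] at h'
    rw [pow_succ', ← h']
  have hσσ : ∀ r : AlgebraicClosure F, ((r ^ q)⁻¹ ^ q)⁻¹ = r ^ q ^ 2 := fun r => by
    rw [inv_pow, inv_inv, ← pow_mul, sq]
  have hprod := eig_prod hdet
  have hcard := card_eig M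
  set d := Nat.gcd 3 (q + 1) with hd
  have hd3 : d ∣ 3 := Nat.gcd_dvd_left _ _
  have hdq : d ∣ q + 1 := Nat.gcd_dvd_right _ _
  have hdpos : 0 < d := Nat.gcd_pos_of_pos_left _ (by norm_num)
  have hkk : q + 1 ∣ 3 * ((q + 1) / d) := dvd_three_mul_div _ hdq hd3
  have hscal : ∀ r : AlgebraicClosure F, r ^ q ^ 2 = r → ∀ k : ℕ, ∃ c : F, em c = r ^ k := by
    intro r hr k
    obtain ⟨c, rfl⟩ := mem_range_of_pow hF hr
    exact ⟨c ^ k, map_pow _ _ _⟩
  by_cases hall : ∀ r ∈ eig M, r ^ q ^ 2 = r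
  · -- all roots in the field
    by_cases hnd : (eig M).Nodup
    · by_cases hfixall : ∀ r ∈ eig M, (r ^ q)⁻¹ = r
      · refine ⟨q + 1, Or.inl rfl, 1, pow_eq_scalar hnd (fun r hr => ?_) (by omega)⟩
        rw [map_one]
        exact hfix r (hfixall r hr) (h0 r hr)
      · push Not at hfixall
        obtain ⟨r, hr, hne⟩ := hfixall
        obtain ⟨t, hR⟩ := eq_cons_cons hcard hr (hσ r hr) (Ne.symm hne)
        have hr0 := h0 r hr
        have hr1 : r ^ (q ^ 2 - 1) = 1 := by
          refine mul_left_cancel₀ hr0 ?_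
          rw [mul_one, ← pow_succ', Nat.sub_add_cancel (by nlinarith), hall r hr]
        obtain ⟨s, hs⟩ : ∃ s, q ^ 2 - 1 = (q + 1) * s := ⟨q - 1, by
          obtain ⟨e, rfl⟩ : ∃ e, q = e + 1 := ⟨q - 1, by omega⟩
          rw [Nat.add_sub_cancel, show (e + 1) ^ 2 = (e + 1 + 1) * e + 1 by ring, Nat.add_sub_cancel]⟩
        set k := (q ^ 2 - 1) / d with hk
        have hks : k = (q + 1) / d * s := by rw [hk, hs, Nat.mul_comm, Nat.mul_div_assoc _ hdq, Nat.mul_comm]
        have hk3 : q ^ 2 - 1 ∣ 3 * k := dvd_three_mul_div _ (hdq.trans ⟨s, hs⟩) hd3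
        have hkq : q ^ 2 - 1 ∣ k * (q + 1) := by
          rw [hk, Nat.mul_comm, ← Nat.mul_div_assoc _ (hdq.trans ⟨s, hs⟩), Nat.mul_comm,
            Nat.mul_div_assoc _ hdq]
          exact dvd_mul_right _ _
        obtain ⟨c, hc⟩ := hscal r (hall r hr) k
        refine ⟨k, Or.inr (Or.inr (Or.inl rfl)), c, pow_eq_scalar hnd (fun x hx => ?_)
          (Nat.div_pos (Nat.le_of_dvd (Nat.sub_pos_of_lt (Nat.one_lt_pow two_ne_zero (by omega))) (hdq.trans ⟨s, hs⟩)) hdpos)⟩
        rw [hc]
        have hone : ∀ {N : ℕ}, q ^ 2 - 1 ∣ N → r ^ N = 1 := fun {N} hN =>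
          orderOf_dvd_iff_pow_eq_one.1 ((orderOf_dvd_of_pow_eq_one hr1).trans hN)
        rw [hR] at hx
        simp only [Multiset.insert_eq_cons, Multiset.mem_cons, Multiset.mem_singleton] at hx
        rcases hx with rfl | rfl | rfl
        · rfl
        · rw [inv_pow]
          refine inv_eq_of_mul_eq_one_right ?_
          rw [← pow_mul, ← pow_add]
          exact hone (by rw [show q * k + k = k * (q + 1) by ring]; exact hkq)
        · rw [hR] at hprod
          simp only [Multiset.insert_eq_cons, Multiset.prod_cons, Multiset.prod_singleton] at hprod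
          have hxr : x * r = r ^ q := by
            field_simp at hprod
            linear_combination hprod
          have h1 : x ^ k * r ^ k = (r ^ k) ^ q := by rw [← mul_pow, hxr, ← pow_mul, ← pow_mul, mul_comm]
          refine mul_right_cancel₀ (pow_ne_zero k hr0) (h1.trans ?_)
          rw [← pow_mul, ← pow_add]
          have hdd : q ^ 2 - 1 ∣ k * (q + 1) := hkq
          calc r ^ (k * q) = r ^ (k * q) * r ^ (3 * k) := by rw [hone hk3, mul_one]
            _ = r ^ (k * (q + 1)) * r ^ (k + k) := by rw [← pow_add, ← pow_add]; ring_nf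
            _ = r ^ (k + k) := by rw [hone hdd, one_mul]
    · -- a repeated root
      obtain ⟨l, hl⟩ : ∃ l, 1 < (eig M).count l := by
        rw [Multiset.nodup_iff_count_le_one] at hnd
        push Not at hnd
        exact hnd
      have hlm : l ∈ eig M := Multiset.count_pos.1 (by omega)
      have hl' : l ∈ (eig M).erase l := Multiset.count_pos.1 (by rw [Multiset.count_erase_self]; omega)
      obtain ⟨m, hm⟩ : ∃ m, ((eig M).erase l).erase l = {m} := Multiset.card_eq_one.1 (by
        rw [Multiset.card_erase_of_mem hl', Multiset.card_erase_of_mem hlm, hcard]; rfl)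
      have hR : eig M = {l, l, m} := by
        rw [← Multiset.cons_erase hlm, ← Multiset.cons_erase hl', hm]; rfl
      rw [hR] at hprod
      simp only [Multiset.insert_eq_cons, Multiset.prod_cons, Multiset.prod_singleton] at hprod
      have hl0 := h0 l hlm
      have hσl : (l ^ q)⁻¹ = l := by
        have h := hσ l hlm
        rw [hR] at h
        simp only [Multiset.insert_eq_cons, Multiset.mem_cons, Multiset.mem_singleton, or_self_left] at h
        rcases h with h | h
        · exact h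
        · -- then `l ^ q = l ^ 2`, so `l ^ 3 = 1` and `m = l`
          have hlq : l ^ q = l ^ 2 := by
            rw [← h] at hprod
            field_simp at hprod
            linear_combination -hprod
          have h4 : l ^ 4 = l := by
            conv_rhs => rw [← hall l hlm, sq, pow_mul, hlq, ← pow_mul, mul_comm, pow_mul, hlq]
            ring
          have h3 : l ^ 3 = 1 := mul_left_cancel₀ hl0 (by rw [mul_one]; linear_combination h4)
          have : m = l := by
            refine mul_left_cancel₀ (mul_ne_zero hl0 hl0) ?_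
            linear_combination hprod - h3
          rw [h, this]
      have hlq1 : l ^ (q + 1) = 1 := hfix l hσl hl0
      obtain ⟨c, hc⟩ := hscal l (hall l hlm) ((q + 1) / d)
      refine ⟨(q + 1) / d * p ^ 2, Or.inr (Or.inl ?_), c ^ p ^ 2, pow_eq_scalar_sq fun x hx => ?_⟩
      · rw [Nat.mul_div_assoc _ hdq, Nat.mul_comm]
      · rw [hc]
        rw [hR] at hx
        simp only [Multiset.insert_eq_cons, Multiset.mem_cons, Multiset.mem_singleton, or_self_left] at hx
        rcases hx with rfl | rfl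
        · rfl
        · refine mul_left_cancel₀ (pow_ne_zero ((q + 1) / d) (mul_ne_zero hl0 hl0)) ?_
          rw [← mul_pow, show l * l * x = 1 by linear_combination hprod, one_pow, ← mul_pow,
            show l * l * l = l ^ 3 by ring, ← pow_mul]
          exact (orderOf_dvd_iff_pow_eq_one.1 ((orderOf_dvd_of_pow_eq_one hlq1).trans hkk)).symm
  · -- a root outside the field
    push Not at hall
    obtain ⟨r, hr, hne⟩ := hall
    have hr0 := h0 r hr
    have hψr : ψ r ∈ eig M := eig_pow ψ hψc hr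
    have hψψ : ψ (ψ r) ∈ eig M := eig_pow ψ hψc hψr
    rw [hψ] at hψr
    rw [hψ, hψ] at hψψ
    have hinj : ∀ x y : AlgebraicClosure F, x ^ q ^ 2 = y ^ q ^ 2 → x = y := fun x y h =>
      ψ.injective (by rw [hψ, hψ, h])
    have hinjq : ∀ x y : AlgebraicClosure F, x ^ q = y ^ q → x = y := fun x y h =>
      φ.injective (by rw [hφ, hφ, h])
    have hq1 : r ^ (q + 1) ≠ 1 := fun h => hne (by
      obtain ⟨e, rfl⟩ : ∃ e, q = e + 1 := ⟨q - 1, by omega⟩
      rw [show (e + 1) ^ 2 = (e + 1 + 1) * e + 1 by ring, pow_succ, pow_mul, h, one_pow, one_mul])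
    -- the image of `r` is neither `r` nor its conjugate
    have hσ1 : (r ^ q)⁻¹ ≠ r := fun h => hq1 (hfix r h hr0)
    have hσ2 : (r ^ q)⁻¹ ≠ r ^ q ^ 2 := fun h => hq1 (by
      refine hinjq _ _ ?_
      have h' : (r ^ q)⁻¹ * r ^ q = r ^ q ^ 2 * r ^ q := by rw [h]
      rw [inv_mul_cancel₀ (pow_ne_zero _ hr0), ← pow_add] at h'
      rw [one_pow, ← pow_mul, h']
      ring_nf)
    obtain ⟨t, hR⟩ := eq_cons_cons hcard hr hψr (Ne.symm hne)
    by_cases h4 : (r ^ q ^ 2) ^ q ^ 2 = r
    · -- impossible: the third root would be in the field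
      exfalso
      have h := hσ r hr
      rw [hR] at h hprod
      simp only [Multiset.insert_eq_cons, Multiset.mem_cons, Multiset.mem_singleton] at h
      simp only [Multiset.insert_eq_cons, Multiset.prod_cons, Multiset.prod_singleton] at hprod
      have ht : t ^ q ^ 2 = t := by
        have h1 := congrArg (· ^ q ^ 2) hprod
        simp only [mul_pow, one_pow, h4] at h1
        refine mul_left_cancel₀ (mul_ne_zero hr0 (pow_ne_zero (q ^ 2) hr0)) ?_
        linear_combination h1 - hprod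
      rcases h with h | h | h
      · exact hσ1 h
      · exact hσ2 h
      · refine hne (hinjq _ _ (inv_injective ?_))
        rw [← pow_mul, mul_comm, pow_mul, ← inv_pow, h, ht]
    · have h4' : (r ^ q ^ 2) ^ q ^ 2 ≠ r ^ q ^ 2 := fun h => hne (hinj _ _ h)
      have ht : t = (r ^ q ^ 2) ^ q ^ 2 := by
        rw [hR] at hψψ
        simp only [Multiset.insert_eq_cons, Multiset.mem_cons, Multiset.mem_singleton] at hψψ
        rcases hψψ with h | h | h
        · exact absurd h h4
        · exact absurd h h4'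
        · exact h.symm
      have hnd : (eig M).Nodup := by
        rw [hR, ht]
        simp [Multiset.insert_eq_cons, Ne.symm hne, Ne.symm h4, Ne.symm h4']
      have h3 : r ^ (q ^ 3 + 1) = 1 := by
        have h := hσ r hr
        rw [hR, ht] at h
        simp only [Multiset.insert_eq_cons, Multiset.mem_cons, Multiset.mem_singleton] at h
        rcases h with h | h | h
        · exact absurd h hσ1
        · exact absurd h hσ2
        · refine hinjq _ _ ?_
          have h' : (r ^ q)⁻¹ * r ^ q = (r ^ q ^ 2) ^ q ^ 2 * r ^ q := by rw [h]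
          rw [inv_mul_cancel₀ (pow_ne_zero _ hr0), ← pow_mul, ← pow_add] at h'
          rw [one_pow, ← pow_mul, h']
          ring_nf
      have hP : r ^ (q ^ 4 + q ^ 2 + 1) = 1 := by
        rw [hR, ht] at hprod
        simp only [Multiset.insert_eq_cons, Multiset.prod_cons, Multiset.prod_singleton, ← pow_mul,
          ← pow_add, ← pow_succ'] at hprod
        rw [← hprod]
        congr 1
        ring
      obtain ⟨e, rfl⟩ : ∃ e, q = e + 1 := ⟨q - 1, by omega⟩
      set A := e * e + e + 1 with hA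
      have hAe : (e + 1) ^ 2 - (e + 1) + 1 = A := by
        rw [show (e + 1) ^ 2 = (e * e + e) + (e + 1) by ring, Nat.add_sub_cancel]
      have hrA : r ^ A = 1 := by
        refine orderOf_dvd_iff_pow_eq_one.1 ((Nat.dvd_gcd (orderOf_dvd_of_pow_eq_one h3)
          (orderOf_dvd_of_pow_eq_one hP)).trans ?_)
        rw [show (e + 1) ^ 3 + 1 = A * (e + 1 + 1) by rw [hA]; ring,
          show (e + 1) ^ 4 + (e + 1) ^ 2 + 1 = A * (1 + (e + 1) * (e + 1 + 1)) by rw [hA]; ring,
          Nat.gcd_mul_left, Nat.gcd_add_mul_right_right, Nat.gcd_one_right, mul_one]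
      have hdA : d ∣ A := by
        rcases (Nat.dvd_prime Nat.prime_three).1 hd3 with h | h
        · rw [h]; exact one_dvd _
        · rw [h] at hdq ⊢
          rw [hA, Nat.dvd_iff_mod_eq_zero, Nat.add_mod, Nat.add_mod (e * e), Nat.mul_mod,
            show e % 3 = 1 by omega]
      set k := A / d with hk
      have hk3 : (r ^ k) ^ d = 1 := by rw [← pow_mul, hk, Nat.div_mul_cancel hdA, hrA]
      have hrk : (r ^ k) ^ (e + 1) ^ 2 = r ^ k := by
        have hdd : d ∣ (e + 1) ^ 2 - 1 := hdq.trans ⟨e, by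
          rw [show (e + 1) ^ 2 = (e + 1 + 1) * e + 1 by ring, Nat.add_sub_cancel]⟩
        obtain ⟨f, hf⟩ := hdd
        rw [show (e + 1) ^ 2 = d * f + 1 by have : 1 ≤ (e + 1) ^ 2 := Nat.one_le_pow _ _ (by omega); omega,
          pow_succ, pow_mul, hk3, one_pow, one_mul]
      obtain ⟨c, hc⟩ := mem_range_of_pow hF hrk
      refine ⟨k, Or.inr (Or.inr (Or.inr (by rw [hAe]))), c, pow_eq_scalar hnd (fun x hx => ?_)
        (Nat.div_pos (Nat.le_of_dvd (by omega) hdA) hdpos)⟩
      rw [hc]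
      rw [hR, ht] at hx
      simp only [Multiset.insert_eq_cons, Multiset.mem_cons, Multiset.mem_singleton] at hx
      have hsw : (r ^ (e + 1) ^ 2) ^ k = r ^ k := by rw [← pow_mul, mul_comm, pow_mul, hrk]
      rcases hx with rfl | rfl | rfl
      · rfl
      · exact hsw
      · rw [← pow_mul, mul_comm, pow_mul, hsw, hrk]


/-- The edges of this graph. -/
def UFourEdge (r s : ℕ) : Prop :=
  (r = 2 ∧ s = 5) ∨ (r = 5 ∧ s = 2) ∨ (r = 3 ∧ s = 5) ∨ (r = 5 ∧ s = 3)

variable (hF : Fintype.card F = 16)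
include hF

theorem charP_two : CharP F 2 := by
  obtain ⟨p, hp⟩ := CharP.exists F
  obtain ⟨n, hpp, hn⟩ := FiniteField.card F p
  have h : p ∣ 2 ^ 4 := by rw [show (2 : ℕ) ^ 4 = Fintype.card F by rw [hF]; rfl, hn]; exact dvd_pow_self p n.ne_zero
  rwa [← (Nat.prime_dvd_prime_iff_eq hpp Nat.prime_two).1 (hpp.dvd_of_dvd_pow h)]

theorem orderOf_psu_dvd (y : PSU 3 F 4) : orderOf y ∣ 13 ∨ orderOf y ∣ 15 ∨ orderOf y ∣ 20 := by
  have hF' : Fintype.card F = 4 ^ 2 := hF
  have := charP_two hF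
  have := Fact.mk Nat.prime_two
  obtain ⟨s, rfl⟩ := QuotientGroup.mk'_surjective (Subgroup.center (SU 3 F 4)) y
  obtain ⟨k, hk, c, hc⟩ := exists_scalar_pow_sq hF' (p := 2) (suVal_transpose_mul hF' s) (s.1.2)
  have h : orderOf (suToPSU 3 F 4 s) ∣ k :=
    orderOf_dvd_of_pow_eq_one ((suToPSU_pow_eq_one_iff hF' s k).2 ⟨c, hc⟩)
  rcases hk with rfl | rfl | rfl | rfl
  · exact Or.inr (Or.inr (h.trans (by norm_num)))
  · exact Or.inr (Or.inr (h.trans (by norm_num)))
  · exact Or.inr (Or.inl (h.trans (by norm_num)))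
  · exact Or.inl (h.trans (by norm_num))

theorem psu_four_dvd_card {r : ℕ} (hr : r.Prime) :
    r ∣ Nat.card (PSU 3 F 4) ↔ r = 2 ∨ r = 3 ∨ r = 5 ∨ r = 13 := by
  have hF' : Fintype.card F = 4 ^ 2 := hF
  have := charP_two hF
  have := Fact.mk Nat.prime_two
  constructor
  · intro h
    have := Fact.mk hr
    obtain ⟨y, hy⟩ := exists_prime_orderOf_dvd_card' (G := PSU 3 F 4) r h
    have h' := orderOf_psu_dvd hF y
    rw [hy] at h'
    rcases h' with h' | h' | h'
    · exact Or.inr (Or.inr (Or.inr ((Nat.prime_dvd_prime_iff_eq hr (by norm_num)).1 h')))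
    · rw [show (15 : ℕ) = 3 * 5 from rfl] at h'
      rcases hr.dvd_mul.1 h' with h' | h'
      · exact Or.inr (Or.inl ((Nat.prime_dvd_prime_iff_eq hr Nat.prime_three).1 h'))
      · exact Or.inr (Or.inr (Or.inl ((Nat.prime_dvd_prime_iff_eq hr Nat.prime_five).1 h')))
    · rw [show (20 : ℕ) = 2 ^ 2 * 5 from rfl] at h'
      rcases hr.dvd_mul.1 h' with h' | h'
      · exact Or.inl ((Nat.prime_dvd_prime_iff_eq hr Nat.prime_two).1 (hr.dvd_of_dvd_pow h'))
      · exact Or.inr (Or.inr (Or.inl ((Nat.prime_dvd_prime_iff_eq hr Nat.prime_five).1 h')))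
  · obtain ⟨y₁, h₁⟩ := exists_p_mul hF' (p := 2) (a := 2) rfl
    obtain ⟨y₂, h₂⟩ := exists_q_sq hF' (p := 2) (a := 2) rfl
    obtain ⟨y₃, h₃⟩ := exists_psu_torus hF' (n := 3) (p := 2) (a := 2) rfl (by norm_num)
    norm_num at h₁ h₂
    rw [show psuTorus 4 3 = 13 by decide] at h₃
    rintro (rfl | rfl | rfl | rfl)
    · exact ((show 2 ∣ 10 by norm_num).trans h₁).trans (orderOf_dvd_natCard y₁)
    · exact ((show 3 ∣ 15 by norm_num).trans h₂).trans (orderOf_dvd_natCard y₂)
    · exact ((show 5 ∣ 15 by norm_num).trans h₂).trans (orderOf_dvd_natCard y₂)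
    · exact h₃.trans (orderOf_dvd_natCard y₃)

theorem psu_four_adj {r s : ℕ} (hr : r.Prime) (hs : s.Prime) (hrs : r ≠ s) :
    (∃ y : PSU 3 F 4, orderOf y = r * s) ↔ UFourEdge r s := by
  have hF' : Fintype.card F = 4 ^ 2 := hF
  have := charP_two hF
  have := Fact.mk Nat.prime_two
  have hex : ∀ {m : ℕ}, (∃ y : PSU 3 F 4, m ∣ orderOf y) → ∀ {d}, d ∣ m → ∃ y : PSU 3 F 4, orderOf y = d := by
    rintro m ⟨y, hy⟩ d hd
    have hd' := hd.trans hy
    have hd0 : d ≠ 0 := fun h => (orderOf_pos y).ne' (by rw [h] at hd'; exact Nat.eq_zero_of_zero_dvd hd')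
    exact ⟨y ^ (orderOf y / d), orderOf_pow_orderOf_div (orderOf_pos y).ne' hd'⟩
  constructor
  · rintro ⟨y, hy⟩
    have hr' := (psu_four_dvd_card hF hr).1 ((hy ▸ dvd_mul_right r s).trans (orderOf_dvd_natCard y))
    have hs' := (psu_four_dvd_card hF hs).1 ((hy ▸ dvd_mul_left s r).trans (orderOf_dvd_natCard y))
    have h := orderOf_psu_dvd hF y
    rw [hy] at h
    unfold UFourEdge
    rcases hr' with rfl | rfl | rfl | rfl <;> rcases hs' with rfl | rfl | rfl | rfl <;> simp_all
  · obtain ⟨y₁, h₁⟩ := exists_p_mul hF' (p := 2) (a := 2) rfl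
    obtain ⟨y₂, h₂⟩ := exists_q_sq hF' (p := 2) (a := 2) rfl
    norm_num at h₁ h₂
    rintro (⟨rfl, rfl⟩ | ⟨rfl, rfl⟩ | ⟨rfl, rfl⟩ | ⟨rfl, rfl⟩)
    · exact hex ⟨y₁, h₁⟩ (dvd_refl 10)
    · exact hex ⟨y₁, h₁⟩ (dvd_refl 10)
    · exact hex ⟨y₂, h₂⟩ (dvd_refl 15)
    · exact hex ⟨y₂, h₂⟩ (dvd_refl 15)

end Cfsg.Agent.Fus.PrimeGraph
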