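import Cfsg.Agent.Lib.Fus.PrimeGraphSymp
import Cfsg.Agent.Lib.Classical.SympGen
import Mathlib

/-! The prime graph of `PSp 3 F` over the field with three elements. -/

set_option autoImplicit false

namespace Cfsg.Agent.Fus.PrimeGraph

open Cfsg.Agent.Classical Matrix

variable {F : Type*} [Field F] [Fintype F]

/-- The edges of this graph. -/
def SixEdge (r s : ℕ) : Prop :=
  (r = 2 ∧ (s = 3 ∨ s = 5 ∨ s = 7)) ∨ (s = 2 ∧ (r = 3 ∨ r = 5 ∨ r = 7)) ∨ (r = 3 ∧ s = 5) ∨ (r = 5 ∧ s = 3)

variable (hF : Fintype.card F = 3)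
include hF

theorem charP_three : CharP F 3 := by
  obtain ⟨p, hp⟩ := CharP.exists F
  obtain ⟨n, hpp, hn⟩ := FiniteField.card F p
  rwa [← (Nat.prime_dvd_prime_iff_eq hpp Nat.prime_three).1 (hF ▸ hn ▸ dvd_pow_self p n.ne_zero)]

theorem two_ne : (2 : F) ≠ 0 := by
  haveI := charP_three hF
  intro h
  have := (CharP.cast_eq_zero_iff F 3 2).1 (by exact_mod_cast h)
  norm_num at this

theorem order_mod : orderOf ((Fintype.card F : ℕ) : ZMod 5) = 4 ∧ orderOf ((Fintype.card F : ℕ) : ZMod 7) = 6 ∧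
    orderOf ((Fintype.card F : ℕ) : ZMod 13) = 3 := by
  rw [hF]
  refine ⟨?_, ?_, ?_⟩ <;>
    · rw [orderOf_eq_iff (by norm_num)]
      refine ⟨by decide, fun m hm hm0 => ?_⟩
      interval_cases m <;> decide

theorem eta_vals : Eta 4 2 ∧ Eta 6 3 ∧ Eta 3 3 :=
  ⟨Or.inr ⟨by decide, rfl⟩, Or.inr ⟨by decide, rfl⟩, Or.inl ⟨by decide, rfl⟩⟩

theorem card_sp : Nat.card (Matrix.symplecticGroup (Fin 3) F) = 2 ^ 10 * 3 ^ 9 * 5 * 7 * 13 := by
  rw [natCard_symplecticGroup, Nat.card_eq_fintype_card, hF]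
  norm_num [Finset.prod_range_succ]

/-- A noncentral involution times an element of odd order of the complement. -/
theorem exists_two_mul {a : ℕ} {M : ℕ} (hM : Odd M) {x : Matrix.symplecticGroup (Fin a) F} (hx : orderOf x = M)
    (ha : 1 + a ≤ 3) (ha1 : 1 ≤ a) : ∃ y : PSp 3 F, orderOf y = 2 * M := by
  obtain ⟨b, hb⟩ := Nat.exists_eq_add_of_le ha
  have h2 := two_ne hF
  have hz : orderOf (sympBlock 1 a (sympNegOne 1 F, x)) = 2 * M := by
    rw [orderOf_injective _ sympBlock_injective, Prod.orderOf, hx,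
      orderOf_eq_prime (hp := ⟨Nat.prime_two⟩) (sympNegOne_sq 1) (sympNegOne_ne_one h2 le_rfl)]
    exact (Nat.Coprime.lcm_eq_mul hM.coprime_two_left)
  set w : Matrix.symplecticGroup (Fin (1 + a + b)) F := sympBlock (1 + a) b (sympBlock 1 a (sympNegOne 1 F, x), 1)
  have hw : orderOf (spToPSp (1 + a + b) F w) = 2 * M := by
    refine Nat.dvd_antisymm ?_ ?_
    · refine (orderOf_map_dvd _ w).trans ?_
      rw [orderOf_injective _ sympBlock_injective, Prod.orderOf, hz, orderOf_one, Nat.lcm_one_right]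
    · refine orderOf_dvd_of_pow_eq_one ?_ |> fun h => (hz ▸ h : 2 * M ∣ _)
      set j := orderOf (spToPSp (1 + a + b) F w)
      rcases spToPSp_pow_eq_one (pow_orderOf_eq_one (spToPSp (1 + a + b) F w)) with h | h
      · have e : sympBlock (1 + a) b ((sympBlock 1 a (sympNegOne 1 F, x), 1) ^ j) = sympBlock (1 + a) b 1 := by
          rw [map_pow, map_one]; exact h
        exact congrArg Prod.fst (sympBlock_injective e)
      · exfalso
        have e : sympBlock (1 + a) b ((sympBlock 1 a (sympNegOne 1 F, x), 1) ^ j) =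
            sympBlock (1 + a) b (sympNegOne (1 + a) F, sympNegOne b F) := by
          rw [map_pow, sympBlock_negOne]; exact h
        have e' : sympBlock 1 a ((sympNegOne 1 F, x) ^ j) = sympBlock 1 a (sympNegOne 1 F, sympNegOne a F) := by
          rw [map_pow, sympBlock_negOne]; exact congrArg Prod.fst (sympBlock_injective e)
        have hxj : x ^ j = sympNegOne a F := congrArg Prod.snd (sympBlock_injective e')
        obtain ⟨k, hk⟩ := hM
        have h1 : (x ^ j) ^ M = 1 := by rw [← pow_mul, mul_comm, pow_mul, ← hx, pow_orderOf_eq_one, one_pow]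
        rw [hxj, hk, pow_succ, pow_mul, sympNegOne_sq, one_pow, one_mul] at h1
        exact sympNegOne_ne_one h2 ha1 h1
  exact hb ▸ ⟨_, hw⟩

theorem psp_six_two_three : ∃ y : PSp 3 F, orderOf y = 2 * 3 := by
  haveI := charP_three hF
  haveI := Fact.mk Nat.prime_three
  obtain ⟨u, hu⟩ := exists_symp_regular_unipotent (F := F) 3 (le_refl 1)
  rw [show Nat.clog 3 (2 * 1) = 1 from Nat.clog_eq_one (by norm_num) (by norm_num), pow_one] at hu
  exact exists_two_mul hF (by decide) hu (by norm_num) le_rfl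

theorem psp_six_two_five : ∃ y : PSp 3 F, orderOf y = 2 * 5 := by
  obtain ⟨x, hx⟩ := exists_symp_torus (F := F) (e := 2) (M := 5) (by norm_num) (Or.inl (by rw [hF]; norm_num))
  exact exists_two_mul hF (by decide) hx (by norm_num) (by norm_num)

theorem psp_six_two_seven : ∃ y : PSp 3 F, orderOf y = 2 * 7 := by
  obtain ⟨z, hz⟩ := exists_symp_torus (F := F) (e := 3) (M := 28) (by norm_num) (Or.inl (by rw [hF]; norm_num))
  have h14 : 14 ∣ orderOf (spToPSp 3 F z) := by
    have h := orderOf_dvd_two_mul_psp z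
    rw [hz, show 28 = 2 * 14 from rfl] at h
    exact Nat.dvd_of_mul_dvd_mul_left two_pos h
  exact ⟨_, orderOf_pow_orderOf_div (orderOf_pos _).ne' h14⟩

omit hF in
theorem mem_eigRoots_neg {ι K : Type*} [Fintype ι] [DecidableEq ι] [Field K] [Algebra F K] {A : Matrix ι ι F}
    {x : K} (hx : x ∈ eigRoots K (-A)) : -x ∈ eigRoots K A := by
  rw [mem_eigRoots_iff] at hx ⊢
  rw [show (-A).map (algebraMap F K) = -(A.map (algebraMap F K)) from Matrix.map_neg _ (map_neg _) A,
    ← spectrum.neg_eq, Set.mem_neg] at hx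
  exact hx

theorem psp_six_no_two_thirteen : ¬ ∃ y : PSp 3 F, orderOf y = 2 * 13 := by
  classical
  haveI := charP_three hF
  haveI := Fact.mk Nat.prime_three
  rintro ⟨y, hy⟩
  obtain ⟨A, rfl⟩ := QuotientGroup.mk'_surjective _ y
  change orderOf (spToPSp 3 F A) = 2 * 13 at hy
  let K := AlgebraicClosure F
  set Am := (A : Matrix (Fin 3 ⊕ Fin 3) (Fin 3 ⊕ Fin 3) F) with hAm
  have hA52 : Am ^ 52 = 1 := val_pow_eq_one.2 (orderOf_dvd_iff_pow_eq_one.1 (by
    have := orderOf_dvd_two_mul_psp A; rw [hy] at this; exact this))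
  have hA4 : Am ^ 4 ≠ 1 := fun h => by
    have h' : spToPSp 3 F A ^ 4 = 1 := by rw [← map_pow, val_pow_eq_one.1 h, map_one]
    have := orderOf_dvd_of_pow_eq_one h'
    rw [hy] at this
    exact absurd (Nat.le_of_dvd (by norm_num) this) (by norm_num)
  obtain ⟨x, hx, hrx⟩ := exists_root_dvd 3 K (r := 13) (s := 4) (by norm_num) (by norm_num) (by norm_num) hA52 hA4
  obtain ⟨hx0, hxN⟩ := root_facts (by norm_num) hA52 hx
  have hco : (orderOf x).Coprime (Fintype.card F) := by
    rw [hF]; exact (Nat.Coprime.coprime_dvd_left hxN (by norm_num))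
  have hcases : orderOf x = 13 ∨ orderOf x = 26 ∨ orderOf x = 52 := by
    have hle := Nat.le_of_dvd (by norm_num) hxN
    obtain ⟨t, ht⟩ := hrx
    rw [ht] at hle hxN
    have ht4 : t ≤ 4 := by omega
    interval_cases t <;> rw [ht] <;> norm_num at *
  have hsix : (Fintype.card (Fin 3 ⊕ Fin 3)) = 6 := by simp
  have hne52 : orderOf x ≠ 52 := fun h52 => by
    obtain ⟨T, hT, hTc, -⟩ := exists_signed_orbit_card (fun z hz => inv_mem A hz) hx hx0 hco 4
      (fun δ hδ hlt hd => by rw [h52, hF] at hd; interval_cases δ <;> norm_num at hd)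
      (fun δ hlt hd => by rw [h52, hF] at hd; interval_cases δ <;> norm_num at hd)
    have := card_le_card_roots hT
    omega
  obtain ⟨T, hT, hTc, hTo⟩ := exists_signed_orbit_card (fun z hz => inv_mem A hz) hx hx0 hco 3
    (fun δ hδ hlt hd => by
      rw [hF] at hd
      rcases hcases with h | h | h <;> rw [h] at hd <;> interval_cases δ <;> norm_num at hd)
    (fun δ hlt hd => by
      rw [hF] at hd
      rcases hcases with h | h | h <;> rw [h] at hd <;> interval_cases δ <;> norm_num at hd)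
  have hall : ∀ z ∈ eigRoots K Am, orderOf z = orderOf x := fun z hz => by
    refine hTo z ?_
    by_contra hzT
    have hle := Finset.card_le_card (s := insert z T) (t := (eigRoots K Am).toFinset)
      (Finset.insert_subset (Multiset.mem_toFinset.2 hz) hT)
    rw [Finset.card_insert_of_notMem hzT, hTc] at hle
    have := (Multiset.toFinset_card_le (eigRoots K Am)).trans (card_eigRoots Am).le
    omega
  have h26 : Am ^ 26 = 1 := by
    refine pow_eq_one_of_roots 3 K (by norm_num) hA52 (fun z hz => orderOf_dvd_iff_pow_eq_one.1 ?_) fun c => ?_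
    · rw [hall z hz]
      rcases hcases with h | h | h
      · rw [h]; norm_num
      · rw [h]
      · exact absurd h hne52
    · rw [show (52 : ℕ) = 2 * 26 from rfl, Nat.gcd_mul_right,
        Nat.Coprime.gcd_eq_one (Nat.Coprime.pow_right c (by norm_num)), one_mul]
  have hgcd : ∀ c : ℕ, Nat.gcd 26 (3 ^ c * 13) ∣ 13 := fun c => by
    rw [show (26 : ℕ) = 2 * 13 from rfl, Nat.gcd_mul_right,
      Nat.Coprime.gcd_eq_one (Nat.Coprime.pow_right c (by norm_num)), one_mul]
  have h13 : spToPSp 3 F A ^ 13 = 1 := by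
    rcases hcases with h | h | h
    · have e : Am ^ 13 = 1 :=
        pow_eq_one_of_roots 3 K (by norm_num) h26 (fun z hz => orderOf_dvd_iff_pow_eq_one.1 (by rw [hall z hz, h])) hgcd
      rw [← map_pow, val_pow_eq_one.1 e, map_one]
    · have e : (-Am) ^ 13 = 1 := by
        refine pow_eq_one_of_roots 3 K (by norm_num) (by rw [Even.neg_pow (by decide)]; exact h26)
          (fun z hz => ?_) hgcd
        have hz' := hall _ (mem_eigRoots_neg hz)
        rw [h] at hz'
        have h26' : ((-z) ^ 13) ^ 2 = 1 := by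
          rw [← pow_mul, show 13 * 2 = orderOf (-z) from hz'.symm, pow_orderOf_eq_one]
        rcases sq_eq_one_iff.1 h26' with h1 | h1
        · exact absurd (hz' ▸ orderOf_dvd_of_pow_eq_one h1) (by norm_num)
        · rw [Odd.neg_pow (by decide)] at h1
          exact neg_inj.1 h1
      rw [Odd.neg_pow (by decide), neg_eq_iff_eq_neg] at e
      have e' : A ^ 13 = sympNegOne 3 F := Subtype.ext (by rw [SubmonoidClass.coe_pow]; exact e)
      rw [← map_pow, e']
      exact (QuotientGroup.eq_one_iff _).2 (Subgroup.mem_center_iff.2 fun g => (sympNegOne_commute g).eq.symm)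
    · exact absurd h hne52
  have := orderOf_dvd_of_pow_eq_one h13
  rw [hy] at this
  exact absurd (Nat.le_of_dvd (by norm_num) this) (by norm_num)

theorem psp_six_dvd_card {r : ℕ} (hr : r.Prime) :
    r ∣ Nat.card (PSp 3 F) ↔ r = 2 ∨ r = 3 ∨ r = 5 ∨ r = 7 ∨ r = 13 := by
  haveI := Fact.mk hr
  constructor
  · intro h
    have hd : r ∣ 2 ^ 10 * 3 ^ 9 * 5 * 7 * 13 := card_sp hF ▸ h.trans (Subgroup.card_quotient_dvd_card _)
    have key : ∀ a k : ℕ, a.Prime → r ∣ a ^ k → r = a := fun a k ha h =>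
      (Nat.prime_dvd_prime_iff_eq hr ha).1 (hr.dvd_of_dvd_pow h)
    rcases hr.dvd_mul.1 hd with hd | hd
    swap
    · exact Or.inr (Or.inr (Or.inr (Or.inr (key 13 1 (by norm_num) (by simpa using hd)))))
    rcases hr.dvd_mul.1 hd with hd | hd
    swap
    · exact Or.inr (Or.inr (Or.inr (Or.inl (key 7 1 (by norm_num) (by simpa using hd)))))
    rcases hr.dvd_mul.1 hd with hd | hd
    swap
    · exact Or.inr (Or.inr (Or.inl (key 5 1 (by norm_num) (by simpa using hd))))
    rcases hr.dvd_mul.1 hd with hd | hd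
    · exact Or.inl (key 2 10 Nat.prime_two hd)
    · exact Or.inr (Or.inl (key 3 9 Nat.prime_three hd))
  · intro h
    by_cases h2 : r = 2
    · subst h2
      obtain ⟨y, hy⟩ := psp_six_two_three hF
      exact (dvd_mul_right 2 3).trans (hy ▸ orderOf_dvd_natCard y)
    · have hd : r ∣ Nat.card (Matrix.symplecticGroup (Fin 3) F) := by
        rw [card_sp hF]
        rcases h with rfl | rfl | rfl | rfl | rfl <;> norm_num
      obtain ⟨x, hx⟩ := exists_prime_orderOf_dvd_card' r hd
      have := orderOf_spToPSp x (Or.inl (hx ▸ hr.odd_of_ne_two h2))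
      exact hx ▸ this ▸ orderOf_dvd_natCard (spToPSp 3 F x)

theorem psp_six_adj {r s : ℕ} (hr : r.Prime) (hs : s.Prime) (hrs : r ≠ s) :
    (∃ y : PSp 3 F, orderOf y = r * s) ↔ SixEdge r s := by
  haveI := charP_three hF
  haveI := Fact.mk Nat.prime_three
  obtain ⟨o5, o7, o13⟩ := order_mod hF
  obtain ⟨e5, e7, e13⟩ := eta_vals hF
  have h35 : ∃ y : PSp 3 F, orderOf y = 5 * 3 := by
    by_contra h
    exact absurd ((psp_rp 3 (n := 3) (by norm_num) (r := 5) (by norm_num) (by norm_num) (by norm_num)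
      o5.symm e5).1 (fun ⟨y, hy⟩ => h ⟨y, hy⟩)) (by norm_num)
  have hd : ∀ a : ℕ, a.Prime → (a = 7 ∨ a = 13) → a ∣ Nat.card (PSp 3 F) := fun a ha h =>
    (psp_six_dvd_card hF ha).2 (by rcases h with rfl | rfl <;> simp)
  have n57 : ¬ ∃ y : PSp 3 F, orderOf y = 5 * 7 := fun h =>
    (psp_two_primes 3 (n := 3) (r := 5) (s := 7) (by norm_num) (by norm_num) (by norm_num) (by norm_num)
      (by norm_num) (by norm_num) (by norm_num) (hd 7 (by norm_num) (Or.inl rfl)) o5.symm o7.symm e5 e7
      (by norm_num)).2 ⟨by norm_num, fun ⟨t, _, h⟩ => by omega⟩ h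
  have n513 : ¬ ∃ y : PSp 3 F, orderOf y = 5 * 13 := fun h =>
    (psp_two_primes 3 (n := 3) (r := 5) (s := 13) (by norm_num) (by norm_num) (by norm_num) (by norm_num)
      (by norm_num) (by norm_num) (by norm_num) (hd 13 (by norm_num) (Or.inr rfl)) o5.symm o13.symm e5 e13
      (by norm_num)).2 ⟨by norm_num, fun ⟨t, _, h⟩ => by omega⟩ h
  have n713 : ¬ ∃ y : PSp 3 F, orderOf y = 7 * 13 := fun h =>
    (psp_two_primes 3 (n := 3) (r := 7) (s := 13) (by norm_num) (by norm_num) (by norm_num) (by norm_num)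
      (by norm_num) (by norm_num) (by norm_num) (hd 13 (by norm_num) (Or.inr rfl)) o7.symm o13.symm e7 e13
      (by norm_num)).2 ⟨by norm_num, fun ⟨t, _, h⟩ => by omega⟩ h
  have n37 : ¬ ∃ y : PSp 3 F, orderOf y = 7 * 3 := fun h =>
    (psp_rp 3 (n := 3) (by norm_num) (r := 7) (by norm_num) (by norm_num) (by norm_num) o7.symm e7).2
      (by norm_num) h
  have n313 : ¬ ∃ y : PSp 3 F, orderOf y = 13 * 3 := fun h =>
    (psp_rp 3 (n := 3) (by norm_num) (r := 13) (by norm_num) (by norm_num) (by norm_num) o13.symm e13).2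
      (by norm_num) h
  have n213 := psp_six_no_two_thirteen hF
  have swap : ∀ {a b : ℕ}, (∃ y : PSp 3 F, orderOf y = a * b) → ∃ y : PSp 3 F, orderOf y = b * a :=
    fun ⟨y, hy⟩ => ⟨y, hy.trans (Nat.mul_comm _ _)⟩
  constructor
  · intro h
    obtain ⟨y, hy⟩ := id h
    have hc := hy ▸ orderOf_dvd_natCard y
    have hr' := (psp_six_dvd_card hF hr).1 ((dvd_mul_right r s).trans hc)
    have hs' := (psp_six_dvd_card hF hs).1 ((dvd_mul_left s r).trans hc)
    rcases hr' with rfl | rfl | rfl | rfl | rfl <;> rcases hs' with rfl | rfl | rfl | rfl | rfl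
    all_goals first
      | exact absurd rfl hrs
      | exact Or.inl ⟨rfl, Or.inl rfl⟩
      | exact Or.inl ⟨rfl, Or.inr (Or.inl rfl)⟩
      | exact Or.inl ⟨rfl, Or.inr (Or.inr rfl)⟩
      | exact Or.inr (Or.inl ⟨rfl, Or.inl rfl⟩)
      | exact Or.inr (Or.inl ⟨rfl, Or.inr (Or.inl rfl)⟩)
      | exact Or.inr (Or.inl ⟨rfl, Or.inr (Or.inr rfl)⟩)
      | exact Or.inr (Or.inr (Or.inl ⟨rfl, rfl⟩))
      | exact Or.inr (Or.inr (Or.inr ⟨rfl, rfl⟩))
      | exact absurd h n57
      | exact absurd (swap h) n57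
      | exact absurd h n513
      | exact absurd (swap h) n513
      | exact absurd h n713
      | exact absurd (swap h) n713
      | exact absurd h n37
      | exact absurd (swap h) n37
      | exact absurd h n313
      | exact absurd (swap h) n313
      | exact absurd h n213
      | exact absurd (swap h) n213
  · rintro (⟨rfl, rfl | rfl | rfl⟩ | ⟨rfl, rfl | rfl | rfl⟩ | ⟨rfl, rfl⟩ | ⟨rfl, rfl⟩)
    exacts [psp_six_two_three hF, psp_six_two_five hF, psp_six_two_seven hF, swap (psp_six_two_three hF),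
      swap (psp_six_two_five hF), swap (psp_six_two_seven hF), swap h35, h35]

end Cfsg.Agent.Fus.PrimeGraph
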