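import Cfsg.Agent.Lib.Fus.PrimeGraphRoots
import Cfsg.Agent.Lib.Classical.SympOrders
import Mathlib

/-! Prime graph adjacency in `PSp 2n`. -/

set_option autoImplicit false

namespace Cfsg.Agent.Fus.PrimeGraph

open Cfsg.Agent.Classical Matrix

variable {F : Type*} [Field F] [Fintype F]

local notation "Sp(" m ")" => Matrix.symplecticGroup (Fin m) F

/-- A non-split torus element, in characteristic two. -/
theorem exists_symp_order_add_two (h2 : (2 : F) = 0) {e : ℕ} (he : 1 ≤ e) :
    ∃ x : Sp(e), orderOf x = Fintype.card F ^ e + 1 := by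
  classical
  obtain ⟨p, hp⟩ := CharP.exists F
  haveI := hp
  haveI : Fact p.Prime := ⟨CharP.char_is_prime F p⟩
  haveI : NeZero (2 * e) := ⟨by omega⟩
  set q := Fintype.card F with hqdef
  let K := FiniteField.Extension F p (2 * e)
  have hK : Module.finrank F K = 2 * e := FiniteField.finrank_extension F p (2 * e)
  letI : Fintype K := Fintype.ofFinite K
  have hKc : Fintype.card K = q ^ (2 * e) := by
    rw [← Nat.card_eq_fintype_card, Module.natCard_eq_pow_finrank (K := F), Nat.card_eq_fintype_card, hK]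
  let s : K ≃ₐ[F] K := AlgEquiv.ofBijective ((FiniteField.frobeniusAlgHom F K) ^ e)
    (Finite.injective_iff_bijective.1 (RingHom.injective _))
  have hs : ∀ x, s x = x ^ q ^ e := by
    intro x
    show ((FiniteField.frobeniusAlgHom F K) ^ e) x = _
    rw [AlgHom.coe_pow, FiniteField.coe_frobeniusAlgHom, pow_iterate]
  have hss : ∀ x, s (s x) = x := fun x => by
    rw [hs, hs, ← pow_mul, ← pow_add, ← two_mul, ← hKc, FiniteField.pow_card]
  obtain ⟨g, hg⟩ := IsCyclic.exists_generator (α := Kˣ)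
  have hog : orderOf g = q ^ (2 * e) - 1 := by
    rw [orderOf_eq_card_of_forall_mem_zpowers hg, Nat.card_units, Nat.card_eq_fintype_card, hKc]
  have hq1 : 2 ≤ q := Fintype.one_lt_card
  have hqe : q ≤ q ^ e := Nat.le_self_pow (by omega) q
  have hfac : q ^ (2 * e) - 1 = (q ^ e + 1) * (q ^ e - 1) := by
    rw [← Nat.sq_sub_sq, one_pow, ← pow_mul, mul_comm]
  have hK2 : (2 : K) = 0 := by
    rw [show (2 : K) = algebraMap F K 2 from (map_ofNat _ 2).symm, h2, map_zero]
  set ω := (g : K) - s g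
  have hω0 : ω ≠ 0 := by
    intro h
    rw [sub_eq_zero, hs] at h
    have h1 : g ^ (q ^ e - 1) = 1 := by
      refine mul_left_cancel (a := g) ?_
      rw [mul_one, ← pow_succ', Nat.sub_add_cancel (by omega)]
      exact Units.ext (by rw [Units.val_pow_eq_pow_val]; exact h.symm)
    have h3 := Nat.le_of_dvd (by omega) (orderOf_dvd_of_pow_eq_one h1)
    rw [hog, hfac] at h3
    have h4 : 2 * (q ^ e - 1) ≤ (q ^ e + 1) * (q ^ e - 1) := Nat.mul_le_mul_right _ (by omega)
    omega
  have hsω : s ω = ω := by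
    rw [map_sub, hss]
    linear_combination (s (g : K) - (g : K)) * hK2
  set c := (g : K) / ω with hcdef
  have hc : c + s c = 1 := by
    rw [hcdef, map_div₀, hsω, ← add_div, div_eq_one_iff_eq hω0]
    linear_combination (s (g : K)) * hK2
  let B : LinearMap.BilinForm F K :=
    LinearMap.mk₂ F (fun x y => Algebra.trace F K (ω * x * s y))
      (fun x x' y => by rw [mul_add, add_mul, map_add])
      (fun a x y => by rw [mul_smul_comm, smul_mul_assoc, map_smul])
      (fun x y y' => by rw [map_add, mul_add, map_add])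
      (fun a x y => by rw [map_smul, mul_smul_comm, map_smul])
  have hBa : ∀ x y, B x y = Algebra.trace F K (ω * x * s y) := fun x y => rfl
  have hA : B.IsAlt := fun x => by
    rw [hBa]
    set y := ω * x * s x with hy
    have hsy : s y = y := by rw [hy, map_mul, map_mul, hsω, hss]; ring
    have h : y = y * c + s (y * c) := by rw [map_mul, hsy, ← mul_add, hc, mul_one]
    rw [h, map_add, Algebra.trace_eq_of_algEquiv s (y * c), ← two_mul, h2, zero_mul]
  have hB : ∀ x, (∀ y, B x y = 0) → x = 0 := fun x hx => by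
    have h1 : ω * x = 0 := (traceForm_nondegenerate F K).1 (ω * x) fun y => by
      rw [Algebra.traceForm_apply, ← hss y, ← hBa]; exact hx _
    exact (mul_eq_zero.1 h1).resolve_left hω0
  obtain ⟨L, hL⟩ := exists_symp_coords B hA hB hK
  let T : K →* Matrix (Fin e ⊕ Fin e) (Fin e ⊕ Fin e) F :=
    { toFun := fun z => LinearMap.toMatrix' (L.symm.toLinearMap ∘ₗ LinearMap.mulLeft F z ∘ₗ L.toLinearMap)
      map_one' := by
        rw [show L.symm.toLinearMap ∘ₗ LinearMap.mulLeft F (1 : K) ∘ₗ L.toLinearMap = LinearMap.id from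
          LinearMap.ext fun v => by simp, LinearMap.toMatrix'_id]
      map_mul' := fun z w => by
        rw [← LinearMap.toMatrix'_comp]
        congr 1
        exact LinearMap.ext fun v => by simp [mul_assoc] }
  have hT : ∀ z v, T z *ᵥ v = L.symm (z * L v) := fun z v => by
    show LinearMap.toMatrix' _ *ᵥ v = _
    rw [← Matrix.toLin'_apply, Matrix.toLin'_toMatrix']; simp
  have hTinj : Function.Injective T := fun z w h => by
    have h1 := congrArg (fun M => M *ᵥ L.symm 1) h
    simpa [hT] using h1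
  set z := g ^ (q ^ e - 1)
  have hz : orderOf z = q ^ e + 1 := by
    rw [orderOf_pow, hog, hfac, Nat.gcd_mul_left_left, Nat.mul_div_cancel _ (by omega)]
  have hz1 : (z : K) * s (z : K) = 1 := by
    rw [hs, ← pow_succ', ← Units.val_pow_eq_pow_val, ← hz, pow_orderOf_eq_one, Units.val_one]
  have hmem : T (z : K) ∈ Sp(e) := mem_symplecticGroup_iff_form.2 fun u v => by
    rw [← hL, ← hL, hT, hT, L.apply_symm_apply, L.apply_symm_apply, hBa, hBa, map_mul s,
      show ω * ((z : K) * L u) * (s (z : K) * s (L v)) = ((z : K) * s (z : K)) * (ω * L u * s (L v)) by ring,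
      hz1, one_mul]
  refine ⟨⟨_, hmem⟩, ?_⟩
  rw [← orderOf_injective Sp(e).subtype Subtype.val_injective, ← hz, ← orderOf_units]
  exact orderOf_injective T hTinj (z : K)

/-- Elements of symplectic tori, in any characteristic. -/
theorem exists_symp_torus {e M : ℕ} (he : 1 ≤ e)
    (hM : M ∣ Fintype.card F ^ e + 1 ∨ M ∣ Fintype.card F ^ e - 1) : ∃ x : Sp(e), orderOf x = M := by
  have hq : 2 ≤ Fintype.card F ^ e := le_trans Fintype.one_lt_card (Nat.le_self_pow (by omega) _)
  rcases hM with hM | hM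
  · obtain ⟨x, hx⟩ : ∃ x : Sp(e), orderOf x = Fintype.card F ^ e + 1 := by
      by_cases h2 : (2 : F) = 0
      · exact exists_symp_order_add_two h2 he
      · exact exists_symp_order_add h2 he
    exact ⟨x ^ (orderOf x / M), orderOf_pow_orderOf_div (by omega) (hx ▸ hM)⟩
  · obtain ⟨x, hx⟩ := exists_symp_order_sub (F := F) he
    exact ⟨x ^ (orderOf x / M), orderOf_pow_orderOf_div (by omega) (hx ▸ hM)⟩

theorem eta_pos {k η : ℕ} (hk : 0 < k) (hη : Eta k η) : 0 < η := by
  rcases hη with ⟨-, rfl⟩ | ⟨-, h⟩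
  · exact hk
  · omega

/-- For even `k` the half is congruent to `-1`. -/
theorem pow_half_eq_neg_one {r k η : ℕ} (hr : r.Prime) (hk : k = orderOf ((Fintype.card F : ℕ) : ZMod r))
    (hk2 : 2 * η = k) (hη : 0 < η) : ((Fintype.card F : ℕ) : ZMod r) ^ η = -1 := by
  haveI := Fact.mk hr
  set c : ZMod r := ((Fintype.card F : ℕ) : ZMod r)
  have h1 : c ^ η * c ^ η = 1 := by rw [← pow_add, ← two_mul, hk2, hk]; exact pow_orderOf_eq_one c
  refine (mul_self_eq_one_iff.1 h1).resolve_left fun h => ?_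
  have h3 := Nat.le_of_dvd hη (orderOf_dvd_of_pow_eq_one h)
  rw [← hk] at h3
  omega

/-- An element of order `r` in `Sp` of rank `η k`. -/
theorem exists_symp_prime (p : ℕ) [Fact p.Prime] [CharP F p] {r k η : ℕ} (hr : r.Prime) (hrp : r ≠ p)
    (hk : k = orderOf ((Fintype.card F : ℕ) : ZMod r)) (hη : Eta k η) : ∃ x : Sp(η), orderOf x = r := by
  have hk0 := order_pos (p := p) hr hrp hk
  have hη0 := eta_pos hk0 hη
  refine exists_symp_torus hη0 ?_
  rcases hη with ⟨-, rfl⟩ | ⟨-, h⟩
  · exact Or.inr ((dvd_pow_sub_one_iff _ Fintype.card_pos).2 (orderOf_dvd_iff_pow_eq_one.1 hk.symm.dvd))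
  · exact Or.inl ((dvd_pow_add_one_iff _).2 (pow_half_eq_neg_one hr hk h hη0))

/-- Padding. -/
theorem exists_symp_pad {a n : ℕ} (ha : a ≤ n) (x : Sp(a)) : ∃ y : Sp(n), orderOf y = orderOf x := by
  obtain ⟨b, rfl⟩ := Nat.exists_eq_add_of_le ha
  exact ⟨sympBlock a b (x, 1), by rw [orderOf_injective _ sympBlock_injective, Prod.orderOf, orderOf_one, Nat.lcm_one_right]⟩

theorem exists_symp_product {a b n N M : ℕ} (h : a + b ≤ n) (hco : N.Coprime M) {x : Sp(a)} (hx : orderOf x = N)
    {y : Sp(b)} (hy : orderOf y = M) : ∃ z : Sp(n), orderOf z = N * M := by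
  obtain ⟨z, hz⟩ := exists_symp_pad h (sympBlock a b (x, y))
  exact ⟨z, by rw [hz, orderOf_injective _ sympBlock_injective, Prod.orderOf, hx, hy]; exact hco.lcm_eq_mul⟩

omit [Fintype F] in
theorem sympNegOne_eq_one (h2 : (2 : F) = 0) (n : ℕ) : sympNegOne n F = 1 := by
  refine Subtype.ext (Matrix.ext fun i j => ?_)
  show (-1 : Matrix (Fin n ⊕ Fin n) (Fin n ⊕ Fin n) F) i j = (1 : Matrix _ _ F) i j
  rw [Matrix.neg_apply]
  linear_combination -((1 : Matrix (Fin n ⊕ Fin n) (Fin n ⊕ Fin n) F) i j) * h2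

omit [Fintype F] in
theorem orderOf_spToPSp {n : ℕ} (x : Sp(n)) (h : Odd (orderOf x) ∨ (2 : F) = 0) :
    orderOf (spToPSp n F x) = orderOf x := by
  refine Nat.dvd_antisymm (orderOf_map_dvd _ x) ?_
  rcases h with h | h
  · exact h.coprime_two_right.dvd_of_dvd_mul_left (orderOf_dvd_two_mul_psp x)
  · refine orderOf_dvd_of_pow_eq_one ?_
    rcases spToPSp_pow_eq_one (pow_orderOf_eq_one (spToPSp n F x)) with h' | h'
    · exact h'
    · rw [h', sympNegOne_eq_one h]

omit [Fintype F] in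
theorem exists_psp_lift {n : ℕ} (y : PSp n F) (h : Odd (orderOf y) ∨ (2 : F) = 0) :
    ∃ A : Sp(n), orderOf A = orderOf y := by
  rcases h with h | h
  · obtain ⟨A, -, hA⟩ := exists_odd_lift y h
    exact ⟨A, hA⟩
  · obtain ⟨A, rfl⟩ := QuotientGroup.mk'_surjective _ y
    exact ⟨A, (orderOf_spToPSp A (Or.inr h)).symm⟩

variable (p : ℕ) [Fact p.Prime] [CharP F p]

/-- Adjacency of two odd primes in `PSp`. -/
theorem psp_two_primes {n : ℕ} {r s : ℕ} (hr : r.Prime) (hs : s.Prime) (hr2 : r ≠ 2) (hs2 : s ≠ 2) (hrp : r ≠ p)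
    (hsp : s ≠ p) (hrs : r ≠ s) (hsG : s ∣ Nat.card (PSp n F)) {k l ηk ηl : ℕ}
    (hk : k = orderOf ((Fintype.card F : ℕ) : ZMod r)) (hl : l = orderOf ((Fintype.card F : ℕ) : ZMod s))
    (hηk : Eta k ηk) (hηl : Eta l ηl) (hkl : ηk ≤ ηl) :
    (r * s ∉ Set.range (orderOf : PSp n F → ℕ)) ↔ (n < ηk + ηl ∧ ¬ ∃ t : ℕ, Odd t ∧ l = k * t) := by
  classical
  have hodd : Odd (r * s) := (hr.eq_two_or_odd'.resolve_left hr2).mul (hs.eq_two_or_odd'.resolve_left hs2)
  have hcop : r.Coprime s := (Nat.coprime_primes hr hs).2 hrs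
  constructor
  · intro hno
    by_contra hcon
    obtain ⟨z, hz⟩ : ∃ z : Sp(n), orderOf z = r * s := by
      by_cases hd : ∃ t : ℕ, Odd t ∧ l = k * t
      · obtain ⟨t, ht, hlt⟩ := hd
        obtain ⟨y, hy⟩ := exists_prime_orderOf_dvd_card' (hp := ⟨hs⟩) s hsG
        obtain ⟨A, hA⟩ := exists_psp_lift y (Or.inl (hy ▸ hs.eq_two_or_odd'.resolve_left hs2))
        have hsn : ηl ≤ n := sp_one (p := p) hs hs2 hsp hl hηl (B := A)
          (by rw [← hy, ← hA]; exact pow_orderOf_eq_one A)
          (fun h => hs.ne_one (by rw [← hy, ← hA, h, orderOf_one]))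
        have hl0 := eta_pos (order_pos (p := p) hs hsp hl) hηl
        obtain ⟨x, hx⟩ : ∃ x : Sp(ηl), orderOf x = r * s := by
          refine exists_symp_torus hl0 ?_
          rcases hηl with ⟨-, rfl⟩ | ⟨hle, hl2⟩
          · refine Or.inr (hcop.mul_dvd_of_dvd_of_dvd ?_ ?_) <;>
              rw [dvd_pow_sub_one_iff _ Fintype.card_pos, ← orderOf_dvd_iff_pow_eq_one]
            · rw [← hk, hlt]; exact dvd_mul_right k t
            · rw [← hl]
          · obtain ⟨a, rfl⟩ : ∃ a, k = 2 * a := by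
              have : Even k := by
                rw [hlt, Nat.even_mul] at hle
                exact hle.resolve_right (Nat.not_even_iff_odd.2 ht)
              exact even_iff_two_dvd.1 this
            have ha : ηl = a * t := by rw [hlt, mul_assoc] at hl2; omega
            refine Or.inl (hcop.mul_dvd_of_dvd_of_dvd ?_ ?_) <;> rw [dvd_pow_add_one_iff]
            · rw [ha, pow_mul, pow_half_eq_neg_one hr hk rfl
                (by have := order_pos (p := p) hr hrp hk; omega), ht.neg_one_pow]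
            · exact pow_half_eq_neg_one hs hl hl2 hl0
        obtain ⟨z, hz⟩ := exists_symp_pad hsn x
        exact ⟨z, hz.trans hx⟩
      · have hle : ηk + ηl ≤ n := by
          by_contra h
          exact hcon ⟨by omega, hd⟩
        obtain ⟨x, hx⟩ := exists_symp_prime p hr hrp hk hηk
        obtain ⟨y, hy⟩ := exists_symp_prime p hs hsp hl hηl
        exact exists_symp_product hle hcop hx hy
    exact hno ⟨spToPSp n F z, by
      show orderOf (spToPSp n F z) = r * s
      rw [orderOf_spToPSp z (Or.inl (hz ▸ hodd)), hz]⟩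
  · rintro ⟨hn, hd⟩ ⟨y, hy⟩
    obtain ⟨A, hA⟩ := exists_psp_lift y (Or.inl (hy ▸ hodd))
    rw [hy] at hA
    rcases sp_two (p := p) hr hs hr2 hs2 hrp hsp hk hl hηk hηl hkl (B := A)
      (by rw [← hA]; exact pow_orderOf_eq_one A)
      (fun h => hs.ne_one (Nat.dvd_one.1 (Nat.dvd_of_mul_dvd_mul_left hr.pos (by
        rw [mul_one, ← hA]; exact orderOf_dvd_of_pow_eq_one h))))
      (fun h => hr.ne_one (Nat.dvd_one.1 (Nat.dvd_of_mul_dvd_mul_right hs.pos (by
        rw [one_mul, ← hA]; exact orderOf_dvd_of_pow_eq_one h)))) with h | h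
    · omega
    · exact hd h

/-- Adjacency of `r` and `p` in `PSp`. -/
theorem psp_rp {n : ℕ} (hn : 1 ≤ n) {r : ℕ} (hr : r.Prime) (hr2 : r ≠ 2) (hrp : r ≠ p) {k ηk : ℕ}
    (hk : k = orderOf ((Fintype.card F : ℕ) : ZMod r)) (hηk : Eta k ηk) :
    (r * p ∉ Set.range (orderOf : PSp n F → ℕ)) ↔ n - 1 < ηk := by
  classical
  have hp : p.Prime := Fact.out
  have hodd : Odd (r * p) ∨ (2 : F) = 0 := by
    rcases hp.eq_two_or_odd' with rfl | ho
    · exact Or.inr (by exact_mod_cast CharP.cast_eq_zero F 2)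
    · exact Or.inl ((hr.eq_two_or_odd'.resolve_left hr2).mul ho)
  constructor
  · intro hno
    by_contra hle
    obtain ⟨x, hx⟩ := exists_symp_prime p hr hrp hk hηk
    obtain ⟨u, hu⟩ := exists_symp_regular_unipotent (F := F) p (le_refl 1)
    have hu' : orderOf u = p := by
      rw [hu, show Nat.clog p (2 * 1) = 1 from Nat.clog_eq_one (by norm_num) (by have := hp.two_le; omega), pow_one]
    obtain ⟨z, hz⟩ := exists_symp_product (n := n) (by omega) ((Nat.coprime_primes hr hp).2 hrp) hx hu'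
    exact hno ⟨spToPSp n F z, by
      show orderOf (spToPSp n F z) = r * p
      rw [orderOf_spToPSp z (hz ▸ hodd), hz]⟩
  · rintro hlt ⟨y, hy⟩
    obtain ⟨A, hA⟩ := exists_psp_lift y (hy ▸ hodd)
    rw [hy] at hA
    have := sp_rp (p := p) hr hr2 hrp hk hηk (B := A) (by rw [← hA]; exact pow_orderOf_eq_one A)
      (fun h => hp.ne_one (Nat.dvd_one.1 (Nat.dvd_of_mul_dvd_mul_left hr.pos (by
        rw [mul_one, ← hA]; exact orderOf_dvd_of_pow_eq_one h))))
      (fun h => hr.ne_one (Nat.dvd_one.1 (Nat.dvd_of_mul_dvd_mul_right hp.pos (by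
        rw [one_mul, ← hA]; exact orderOf_dvd_of_pow_eq_one h))))
    omega

end Cfsg.Agent.Fus.PrimeGraph
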