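import Mathlib
import Cfsg.Prelude.Def_TwoFusion
import Cfsg.Agent.Lib.Fus.CentralizerSat
import Cfsg.Agent.Lib.Fus.FactorExtend
import Cfsg.Agent.Lib.Fus.ResidualInvariant
import Cfsg.Agent.Lib.Fus.SolvableSystem
import Cfsg.Agent.Lib.Fus.EnvelopeLevel

/-!
Subsystems over the strongly closed factors of a direct product.
-/

set_option autoImplicit false
set_option linter.style.haveILetI false
set_option linter.unusedSectionVars false

open scoped Classical

universe u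

namespace Cfsg.Agent.Fus.ProdSC

open Subgroup FusionSystem

variable {Ω : Type u} [Group Ω] {S T A : Subgroup Ω} {F : FusionSystem S} {p : ℕ}

theorem isMap_iff_of_hom_eq {T : Subgroup Ω} {R : FusionSystem T} {P : Subgroup Ω}
    (h : R.Hom P = F.Hom P) {f : Ω → Ω} : IsMap R P f ↔ IsMap F P f := by
  unfold IsMap
  rw [h]

theorem isConj_of_full {R : FusionSystem T} (hR : ∀ P : Subgroup Ω, P ≤ T → R.Hom P = F.Hom P)
    {P Q : Subgroup Ω} (hP : P ≤ T) : R.IsConj P Q ↔ F.IsConj P Q := by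
  unfold FusionSystem.IsConj
  rw [hR P hP]

theorem autGroup_of_full {R : FusionSystem T} (hR : ∀ P : Subgroup Ω, P ≤ T → R.Hom P = F.Hom P)
    {P : Subgroup Ω} (hP : P ≤ T) : R.autGroup P = F.autGroup P := by
  unfold FusionSystem.autGroup
  rw [hR P hP]

theorem le_normalizer_of_comm (hc : ∀ a ∈ T, ∀ b ∈ A, a * b = b * a) :
    T ≤ Subgroup.normalizer (A : Set Ω) := fun a ha =>
  mem_normalizer_of_forall (fun b hb => by rw [hc a ha b hb, mul_inv_cancel_right]; exact hb)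
    fun b hb => by rw [hc a⁻¹ (T.inv_mem ha) b hb, inv_mul_cancel_right]; exact hb

variable [Finite S] [Fact p.Prime]

/-- In a subgroup with a centralizing complement, the automorphisms induced by the whole group are
induced by the subgroup. -/
theorem autInducedBy_sup (hsup : T ⊔ A = S) (hc : ∀ a ∈ T, ∀ b ∈ A, a * b = b * a)
    {Q : Subgroup Ω} (hQ : Q ≤ T) : autInducedBy S Q = autInducedBy T Q := by
  refine le_antisymm ?_ (autInducedBy_mono (hsup ▸ le_sup_left) Q)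
  intro α hα
  obtain ⟨g, hg, hge⟩ := mem_autInducedBy.1 hα
  rw [← hsup] at hg
  obtain ⟨a, ha, b, hb, rfl⟩ := mem_sup_dest (le_normalizer_of_comm hc) hg
  refine mem_autInducedBy.2 ⟨a, ha, fun x => ?_⟩
  rw [hge x, mul_inv_rev, show a * b * (x : Ω) * (b⁻¹ * a⁻¹) = a * (b * x * b⁻¹) * a⁻¹ by group,
    ← hc x (hQ x.2) b hb, mul_inv_cancel_right]

/-- The full subsystem over a strongly closed direct factor is saturated. -/
theorem saturated_full (hF : F.IsSaturated p) (hT : F.StronglyClosed T)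
    (hsup : T ⊔ A = S) (hc : ∀ a ∈ T, ∀ b ∈ A, a * b = b * a) {R : FusionSystem T}
    (hR : ∀ P : Subgroup Ω, P ≤ T → R.Hom P = F.Hom P) : R.IsSaturated p := by
  intro P hP
  obtain ⟨Q, hPQ, ⟨hQS, W, hW⟩, hQr⟩ := hF P (hP.trans hT.1)
  have hQT : Q ≤ T := by
    obtain ⟨f, hf, rfl⟩ := isConj_iff.1 hPQ
    exact fimg_le fun x hx => StronglyClosed.apply_mem hT hf hP hx
  refine ⟨Q, (isConj_of_full hR hP).2 hPQ, ⟨hQT, ?_⟩, receptive_of hQT fun U f hf hfQ N hUN hN => ?_⟩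
  · rw [autGroup_of_full hR hQT, ← autInducedBy_sup hsup hc hQT]
    exact ⟨W, hW⟩
  · have hU : U ≤ T := hf.source_le
    have hNT : N ≤ T := fun g hg => ((hN g).1 hg).1
    obtain ⟨f', hf', he⟩ := receptive_extend hQr ((isMap_iff_of_hom_eq (hR U hU)).1 hf) hfQ
      (fun g hg => by
        obtain ⟨hgT, hgn, h, hh, hhe⟩ := (hN g).1 hg
        exact ⟨⟨hT.1 hgT, hgn⟩, h, hT.1 hh, hhe⟩) hUN
    exact ⟨f', (isMap_iff_of_hom_eq (hR N hNT)).2 hf', he⟩

/-- What is used of the decomposition. -/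
structure Split (F : FusionSystem S) (p : ℕ) (T A : Subgroup Ω) : Prop where
  sat : F.IsSaturated p
  pgroup : IsPGroup p S
  left : F.StronglyClosed T
  right : F.StronglyClosed A
  comm : ∀ a ∈ T, ∀ b ∈ A, a * b = b * a
  disj : T ⊓ A = ⊥
  sup : T ⊔ A = S

variable (d : Split F p T A)
include d

theorem Split.decomp {s : Ω} (hs : s ∈ S) : ∃ a ∈ T, ∃ b ∈ A, a * b = s :=
  mem_sup_dest (le_normalizer_of_comm d.comm) (d.sup.symm ▸ hs)

/-- A map on a subgroup of `T` extends over `A`. -/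
theorem Split.extend {P : Subgroup Ω} {f : Ω → Ω} (hP : P ≤ T) (hf : IsMap F P f) :
    ∃ g, IsMap F (P ⊔ A) g ∧ fimg g A = A ∧ ∀ x ∈ P, g x = f x := by
  obtain ⟨g, hg, hgA, hgx⟩ := extMod_of_isMap d.pgroup d.sat d.right hf
  refine ⟨g, hg, hgA, fun x hx => ?_⟩
  have h1 : (g x)⁻¹ * f x ∈ T := T.mul_mem
    (T.inv_mem (StronglyClosed.apply_mem d.left (hg.res le_sup_left) hP hx))
    (StronglyClosed.apply_mem d.left hf hP hx)
  have h2 : (g x)⁻¹ * f x ∈ T ⊓ A := ⟨h1, hgx x hx⟩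
  rw [d.disj, Subgroup.mem_bot] at h2
  exact inv_mul_eq_one.1 h2

/-- An automorphism of `A` extends to the whole group. -/
theorem Split.liftRight {g : Ω → Ω} (hg : IsMap F A g) (hgA : fimg g A = A) :
    ∃ a, IsMap F S a ∧ ∀ x ∈ A, a x = g x := by
  have hAn : F.IsFullyNormalized A := by
    obtain ⟨Q, hQ, hQn⟩ := exists_fullyNormalized F d.right.1
    obtain ⟨f, hf, rfl⟩ := isConj_iff.1 hQ
    rwa [fimg_stronglyClosed d.right hf le_rfl] at hQn
  refine receptive_extend (receptive_of_fullyNormalized d.pgroup d.sat hAn) hg hgA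
    (fun s hs => ?_) d.right.1
  refine ⟨⟨hs, le_normalizer_of_stronglyClosed d.right hs⟩, ?_⟩
  obtain ⟨a, ha, b, hb, rfl⟩ := d.decomp hs
  refine ⟨g b, hg.apply_mem hb, fun x hx => ?_⟩
  rw [show a * b * x * (a * b)⁻¹ = a * (b * x * b⁻¹) * a⁻¹ by group,
    d.comm a ha _ (A.mul_mem (A.mul_mem hb hx) (A.inv_mem hb)), mul_inv_cancel_right,
    hg.map_conj hb hx]

theorem Split.centralizer_eq {C : Subgroup Ω} (hC : C = centralizerIn S A) :
    T ⊔ centralizerIn A A = C := by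
  subst hC
  refine le_antisymm (sup_le (fun t ht => mem_centralizerIn.2 ⟨d.left.1 ht, fun x hx =>
    (d.comm t ht x hx).symm⟩) (inf_le_inf_right _ d.right.1)) fun s hs => ?_
  obtain ⟨hsS, hsc⟩ := mem_centralizerIn.1 hs
  obtain ⟨a, ha, b, hb, rfl⟩ := d.decomp hsS
  refine Subgroup.mul_mem _ (Subgroup.mem_sup_left ha) (Subgroup.mem_sup_right
    (mem_centralizerIn.2 ⟨hb, fun x hx => ?_⟩))
  have := hsc x hx
  rw [← mul_assoc, ← d.comm a ha x hx, mul_assoc, mul_assoc] at this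
  exact mul_left_cancel this

variable {R R' : FusionSystem T}
  (hR : ∀ P : Subgroup Ω, P ≤ T → R.Hom P = F.Hom P)
  (hR' : ∀ P : Subgroup Ω, P ≤ T → R'.Hom P = F.centralizerHom A P)

include hR' in
theorem Split.isMap_cent {P : Subgroup Ω} {f : Ω → Ω} :
    IsMap R' P f ↔ P ≤ T ∧ ∃ g, IsMap F (P ⊔ A) g ∧ (∀ x ∈ P, g x = f x) ∧ ∀ x ∈ A, g x = x := by
  have hE : F.IsCentralizerSystem A (centralizerSystem F A d.right.1) :=
    isCentralizerSystem_centralizerSystem F d.right.1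
  constructor
  · intro hf
    have hP := hf.source_le
    have h' : IsMap (centralizerSystem F A d.right.1) P f := by
      obtain ⟨φ, hφ, e⟩ := hf.exists_hom
      exact ⟨φ, by rw [hE P, ← hR' P hP]; exact hφ, e⟩
    obtain ⟨-, -, g, hg⟩ := (isMap_centralizerSystem d.right.1 hE).1 h'
    exact ⟨hP, g, hg⟩
  · rintro ⟨hP, g, hg, hg1, hg2⟩
    have hTC : T ≤ centralizerIn S A := le_sup_left.trans (d.centralizer_eq rfl).le
    have hfP : IsMap F P f := (hg.res le_sup_left).congr hg1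
    obtain ⟨φ, hφ, e⟩ := ((isMap_centralizerSystem d.right.1 hE (f := f)).2 ⟨hP.trans hTC,
      fun x hx => hTC (StronglyClosed.apply_mem d.left hfP hP hx), g, hg, hg1, hg2⟩).exists_hom
    exact ⟨φ, by rw [hR' P hP, ← hE P]; exact hφ, e⟩

include hR' in
theorem Split.sub_cent : R'.IsSubsystemOf F := fun P φ hφ => by
  have hP := (R'.le_of_mem hφ).1
  rw [hR' P hP] at hφ
  exact hφ.1

include hR in
theorem Split.sub_full : R.IsSubsystemOf F := fun P φ hφ => by
  rw [← hR P (R.le_of_mem hφ).1]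
  exact hφ

include hR' in
theorem Split.saturated_cent : R'.IsSaturated p := by
  have hAn : F.IsFullyCentralized A := ⟨d.right.1, fun Q hQ => by
    obtain ⟨f, hf, rfl⟩ := isConj_iff.1 hQ
    rw [fimg_stronglyClosed d.right hf le_rfl]⟩
  have hE : F.IsCentralizerSystem A (centralizerSystem F A d.right.1) :=
    isCentralizerSystem_centralizerSystem F d.right.1
  have hC := isSaturated_centralizerSystem d.pgroup d.sat hAn hE
  haveI : Finite (centralizerIn S A) := finite_of_le (S := S) inf_le_left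
  refine saturated_full (A := centralizerIn A A) hC ?_ (d.centralizer_eq rfl)
    (fun a ha b hb => d.comm a ha b hb.1) fun P hP => ?_
  · refine stronglyClosed_of_forall (le_sup_left.trans (d.centralizer_eq rfl).le)
      fun U hU f hf x hx => ?_
    obtain ⟨φ, hφ, e⟩ := hf.exists_hom
    rw [hE U] at hφ
    exact StronglyClosed.apply_mem d.left ⟨φ, hφ.1, e⟩ hU hx
  · rw [hR' P hP, hE P]

/-- An automorphism of `T` extends to the whole group. -/
theorem Split.liftLeft {α : MulAut T} (hα : α ∈ F.autGroup T) :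
    ∃ a, IsMap F S a ∧ fimg a A = A ∧ ∀ x ∈ T, a x = autFun α x := by
  obtain ⟨g, hg, hgA, hgx⟩ := d.extend le_rfl ((mem_autGroup d.left.1).1 hα)
  rw [d.sup] at hg
  exact ⟨g, hg, hgA, hgx⟩

theorem Split.aut_of {a : Ω → Ω} (ha : IsMap F S a) :
    ∃ α ∈ F.autGroup T, ∀ x ∈ T, autFun α x = a x :=
  (ha.res d.left.1).exists_aut (fimg_stronglyClosed d.left (ha.res d.left.1) le_rfl)

include hR' in
theorem Split.twist {α : MulAut T} (hα : α ∈ F.autGroup T) {P : Subgroup Ω} {f : Ω → Ω}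
    (hf : IsMap R' P f) :
    ∃ k, IsMap R' (fimg (autFun α) P) k ∧ ∀ x ∈ P, k (autFun α x) = autFun α (f x) := by
  obtain ⟨hP, g, hg, hg1, hg2⟩ := (d.isMap_cent hR').1 hf
  obtain ⟨a, ha, haA, hax⟩ := d.liftLeft hα
  obtain ⟨a', ha', ha1, -, -⟩ := ha.exists_inv
  rw [fimg_eq_self_of_source_top ha] at ha'
  have hPS : P ⊔ A ≤ S := hg.source_le
  have hαT : fimg (autFun α) P ≤ T := fimg_le fun x hx => autFun_mem α (hP hx)
  have hαS : fimg (autFun α) P ⊔ A ≤ S := sup_le (hαT.trans d.left.1) d.right.1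
  have hm : ∀ z ∈ fimg (autFun α) P ⊔ A, a' z ∈ P ⊔ A := by
    intro z hz
    obtain ⟨x, hx, y, hy, rfl⟩ :=
      mem_sup_dest (hαT.trans (le_normalizer_of_comm d.comm)) hz
    obtain ⟨x₀, hx₀, rfl⟩ := (((mem_autGroup d.left.1).1 hα).res hP).mem_fimg_iff.1 hx
    obtain ⟨y₀, hy₀, rfl⟩ := (ha.res d.right.1).mem_fimg_iff.1 (haA.symm ▸ hy)
    rw [← hax x₀ (hP hx₀), ← ha.map_mul (d.left.1 (hP hx₀)) (d.right.1 hy₀),
      ha1 _ (S.mul_mem (d.left.1 (hP hx₀)) (d.right.1 hy₀))]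
    exact Subgroup.mul_mem _ (Subgroup.mem_sup_left hx₀) (Subgroup.mem_sup_right hy₀)
  have hk := ((ha'.res hαS).comp hg hm).comp ha fun z hz => hg.apply_mem (hm z hz)
  refine ⟨fun z => a (g (a' z)), (d.isMap_cent hR').2 ⟨hαT, _, hk, fun x _ => rfl, fun y hy => ?_⟩,
    fun x hx => ?_⟩
  · show a (g (a' y)) = y
    obtain ⟨y₀, hy₀, rfl⟩ := (ha.res d.right.1).mem_fimg_iff.1 (haA.symm ▸ hy)
    rw [ha1 _ (d.right.1 hy₀), hg2 _ hy₀]
  · show a (g (a' (autFun α x))) = _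
    rw [← hax x (hP hx), ha1 _ (d.left.1 (hP hx)), hg1 x hx, hax _ (hf.apply_mem hx)]

include hR' in
theorem Split.decompose {P : Subgroup Ω} {f : Ω → Ω} (hP : P ≤ T) (hf : IsMap F P f) :
    ∃ α ∈ F.autGroup T, ∃ f₀, IsMap R' P f₀ ∧ ∀ x ∈ P, f x = autFun α (f₀ x) := by
  obtain ⟨g, hg, hgA, hgx⟩ := d.extend hP hf
  obtain ⟨a, ha, hax⟩ := d.liftRight (hg.res le_sup_right) hgA
  obtain ⟨a', ha', ha1, ha2, -⟩ := ha.exists_inv
  rw [fimg_eq_self_of_source_top ha] at ha' ha2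
  obtain ⟨α, hα, hαe⟩ := d.aut_of ha
  refine ⟨α, hα, fun x => a' (g x), (d.isMap_cent hR').2 ⟨hP, _,
    hg.comp ha' fun x hx => hg.apply_mem hx, fun x _ => rfl, fun y hy => ?_⟩, fun x hx => ?_⟩
  · show a' (g y) = y
    rw [← hax y hy, ha1 _ (d.right.1 hy)]
  · have hgS : g x ∈ S := hg.apply_mem (Subgroup.mem_sup_left hx)
    show f x = autFun α (a' (g x))
    have hT' : a' (g x) ∈ T := by
      rw [hgx x hx]
      exact StronglyClosed.apply_mem d.left (ha'.res d.left.1) le_rfl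
        (StronglyClosed.apply_mem d.left hf hP hx)
    rw [hαe _ hT', (ha2 _ hgS).2, hgx x hx]

include hR in
theorem Split.invariant_full : R.IsInvariantIn F := by
  refine ResInv.isInvariantIn_of_twist (d.sub_full hR) d.left (fun {α} hα {P f} hf => ?_)
    fun {P f} hP hf => ⟨1, one_mem _, f, (isMap_iff_of_hom_eq (hR P hP)).2 hf, fun x hx =>
      (autFun_one (StronglyClosed.apply_mem d.left hf hP hx)).symm⟩
  have hP := hf.source_le
  have hf' := hf.mono (d.sub_full hR)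
  obtain ⟨a, ha, -, hax⟩ := d.liftLeft hα
  obtain ⟨a', ha', ha1, -, -⟩ := ha.exists_inv
  rw [fimg_eq_self_of_source_top ha] at ha'
  have hαT : fimg (autFun α) P ≤ T := fimg_le fun x hx => autFun_mem α (hP hx)
  have hm : ∀ z ∈ fimg (autFun α) P, a' z ∈ P := by
    intro z hz
    obtain ⟨x₀, hx₀, rfl⟩ := (((mem_autGroup d.left.1).1 hα).res hP).mem_fimg_iff.1 hz
    rw [← hax x₀ (hP hx₀), ha1 _ (d.left.1 (hP hx₀))]
    exact hx₀
  have hk := ((ha'.res (hαT.trans d.left.1)).comp hf' hm).comp ha fun z hz => hf'.apply_mem (hm z hz)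
  refine ⟨fun z => a (f (a' z)), (isMap_iff_of_hom_eq (hR _ hαT)).2 hk, fun x hx => ?_⟩
  show a (f (a' (autFun α x))) = _
  rw [← hax x (hP hx), ha1 _ (d.left.1 (hP hx)), hax _ (hf.apply_mem hx)]

include hR' in
theorem Split.invariant_cent : R'.IsInvariantIn F :=
  ResInv.isInvariantIn_of_twist (d.sub_cent hR') d.left (fun {_} hα {_ _} hf => d.twist hR' hα hf)
    fun hP hf => d.decompose hR' hP hf

include hR hR' in
theorem Split.invariant_cent_full : R'.IsInvariantIn R := by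
  refine ResInv.isInvariantIn_of_twist (fun P φ hφ => ?_)
    ⟨le_rfl, fun _ _ φ hφ x => (R.le_of_mem hφ).2 x⟩ (fun {α} hα {P f} hf => ?_) fun {P f} hP hf => ?_
  · rw [hR P (R'.le_of_mem hφ).1]
    exact d.sub_cent hR' P hφ
  · rw [autGroup_of_full hR le_rfl] at hα
    exact d.twist hR' hα hf
  · obtain ⟨α, hα, h⟩ := d.decompose hR' hP ((isMap_iff_of_hom_eq (hR P hP)).1 hf)
    exact ⟨α, by rwa [autGroup_of_full hR le_rfl], h⟩

include hR hR' in
/-- The five assertions. -/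
theorem Split.main : R.IsSaturated p ∧ R'.IsSaturated p ∧ R'.IsNormalIn F p ∧
    R'.IsNormalIn R p ∧ R.IsWeaklyNormalIn F p := by
  have hRs : R.IsSaturated p := saturated_full d.sat d.left d.sup d.comm hR
  have hR's := d.saturated_cent hR'
  haveI : Finite T := finite_of_le d.left.1
  refine ⟨hRs, hR's, ⟨⟨hR's, d.sat, d.invariant_cent hR'⟩, fun α hα => ?_⟩,
    Envelope.isNormalIn_of_selfCentralizing hRs (d.invariant_cent_full hR hR') hR's inf_le_left,
    hRs, d.sat, d.invariant_full hR⟩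
  obtain ⟨-, g, hg, hg1, hg2⟩ := (d.isMap_cent hR').1 ((mem_autGroup le_rfl).1 hα)
  rw [d.sup] at hg
  have hUS : T ⊔ centralizerIn S T = S := by
    refine le_antisymm (sup_le d.left.1 inf_le_left) ?_
    conv_lhs => rw [← d.sup]
    exact sup_le le_sup_left (le_trans (fun b hb => mem_centralizerIn.2
      ⟨d.right.1 hb, fun x hx => d.comm x hx b hb⟩) le_sup_right)
  have hgU : IsMap F (T ⊔ centralizerIn S T) g := by rw [hUS]; exact hg
  obtain ⟨β, hβ, hβe⟩ := hgU.exists_aut (by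
    rw [hUS]; exact fimg_eq_self_of_source_top hg)
  refine ⟨β, hβ, fun x => ?_, fun c hc => ?_⟩
  · rw [← autFun_coe β, Subgroup.coe_inclusion, hβe _ (Subgroup.mem_sup_left x.2), hg1 x x.2,
      autFun_coe]
  · rw [← autFun_coe β, hβe _ c.2]
    obtain ⟨hcS, hcT⟩ := mem_centralizerIn.1 hc
    obtain ⟨a, ha, b, hb, hab⟩ := d.decomp hcS
    rw [← hab, hg.map_mul (d.left.1 ha) (d.right.1 hb), hg2 b hb]
    have hga : g a ∈ T := StronglyClosed.apply_mem d.left (hg.res d.left.1) le_rfl ha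
    rw [show (a * b)⁻¹ * (g a * b) = b⁻¹ * (a⁻¹ * g a) * b by group, mul_assoc,
      d.comm _ (T.mul_mem (T.inv_mem ha) hga) b hb, inv_mul_cancel_left]
    have haC : a ∈ centralizerIn S T := mem_centralizerIn.2 ⟨d.left.1 ha, fun x hx => by
      have h1 := hcT x hx
      rw [← hab, ← mul_assoc, mul_assoc a b x, ← d.comm x hx b hb, ← mul_assoc] at h1
      exact mul_right_cancel h1⟩
    have hgC := hg.map_centralizerIn (P := T) d.left.1
      haC.1 haC.2
    rw [fimg_stronglyClosed d.left (hg.res d.left.1) le_rfl] at hgC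
    exact ⟨T.mul_mem (T.inv_mem ha) hga, Subgroup.mul_mem _ (Subgroup.inv_mem _ haC.2) hgC.2⟩

end Cfsg.Agent.Fus.ProdSC
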