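import Mathlib
import Cfsg.Prelude.Def_PLocal

/-!
The group `Qd(p)` as translations extended by `SL(2, p)`.
-/

set_option autoImplicit false

namespace Cfsg.Agent.Fus

open Matrix

variable {p : ℕ}

local notation "SL2" => Matrix.SpecialLinearGroup (Fin 2) (ZMod p)
local notation "SL3" => Matrix.SpecialLinearGroup (Fin 3) (ZMod p)
local notation "F2" => Multiplicative (Fin 2 → ZMod p)

/-- The matrices of `SL(3, p)` with last row `(0, 0, 1)`. -/
def qdMats (p : ℕ) : Subgroup (Matrix.SpecialLinearGroup (Fin 3) (ZMod p)) where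
  carrier := {M | M.1 2 0 = 0 ∧ M.1 2 1 = 0 ∧ M.1 2 2 = 1}
  one_mem' := ⟨rfl, rfl, rfl⟩
  mul_mem' := by
    rintro A B ⟨a0, a1, a2⟩ ⟨b0, b1, b2⟩
    simp [Matrix.mul_apply, Fin.sum_univ_three, a0, a1, a2, b0, b1, b2]
  inv_mem' := by
    intro A ⟨a0, a1, a2⟩
    have h : A.1.det = 1 := A.2
    rw [Matrix.det_fin_three, a0, a1, a2] at h
    simp only [Set.mem_ofPred_eq, Matrix.SpecialLinearGroup.coe_inv, Matrix.adjugate_fin_three,
      Matrix.of_apply, Matrix.cons_val', Matrix.cons_val_zero, Matrix.cons_val_one,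
      Matrix.cons_val, a0, a1, a2]
    refine ⟨by ring, by ring, by linear_combination h⟩

theorem qd_eq_mats (p : ℕ) : qd p = qdMats p := Subgroup.closure_eq (qdMats p)

theorem qd_apply (x : qd p) : x.1.1 2 0 = 0 ∧ x.1.1 2 1 = 0 ∧ x.1.1 2 2 = 1 := by
  have h : x.1 ∈ qdMats p := qd_eq_mats p ▸ x.2
  exact h

/-- The upper left block. -/
def qdBlock (p : ℕ) : qd p →* Matrix.SpecialLinearGroup (Fin 2) (ZMod p) where
  toFun x := ⟨!![x.1.1 0 0, x.1.1 0 1; x.1.1 1 0, x.1.1 1 1], by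
    have h : x.1.1.det = 1 := x.1.2
    obtain ⟨a0, a1, a2⟩ := qd_apply x
    rw [Matrix.det_fin_three, a0, a1, a2] at h
    rw [Matrix.det_fin_two_of]
    linear_combination h⟩
  map_one' := by
    apply Subtype.ext
    ext i j
    fin_cases i <;> fin_cases j <;> rfl
  map_mul' x y := by
    apply Subtype.ext
    obtain ⟨a0, a1, a2⟩ := qd_apply x
    obtain ⟨b0, b1, b2⟩ := qd_apply y
    show _ = HMul.hMul (α := Matrix _ _ (ZMod p)) (β := Matrix _ _ (ZMod p)) _ _
    ext i j
    fin_cases i <;> fin_cases j <;>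
      simp [Matrix.mul_apply, Fin.sum_univ_three, Fin.sum_univ_two, b0, b1]

theorem qdBlock_coe (x : qd p) :
    (qdBlock p x).1 = !![x.1.1 0 0, x.1.1 0 1; x.1.1 1 0, x.1.1 1 1] := rfl

/-- Translations. -/
def qdTrans (p : ℕ) : Multiplicative (Fin 2 → ZMod p) →* qd p where
  toFun v := ⟨⟨!![1, 0, v.toAdd 0; 0, 1, v.toAdd 1; 0, 0, 1], by simp [Matrix.det_fin_three]⟩,
    Subgroup.subset_closure ⟨rfl, rfl, rfl⟩⟩
  map_one' := by
    apply Subtype.ext
    apply Subtype.ext
    ext i j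
    fin_cases i <;> fin_cases j <;> rfl
  map_mul' v w := by
    apply Subtype.ext
    apply Subtype.ext
    show _ = HMul.hMul (α := Matrix _ _ (ZMod p)) (β := Matrix _ _ (ZMod p)) _ _
    ext i j
    fin_cases i <;> fin_cases j <;>
      simp [Matrix.mul_apply, Fin.sum_univ_three, add_comm]

/-- The complement `SL(2, p)`. -/
def qdLift (p : ℕ) : Matrix.SpecialLinearGroup (Fin 2) (ZMod p) →* qd p where
  toFun g := ⟨⟨!![g.1 0 0, g.1 0 1, 0; g.1 1 0, g.1 1 1, 0; 0, 0, 1], by
    have h : g.1.det = 1 := g.2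
    rw [Matrix.det_fin_two] at h
    simp [Matrix.det_fin_three, h]⟩, Subgroup.subset_closure ⟨rfl, rfl, rfl⟩⟩
  map_one' := by
    apply Subtype.ext
    apply Subtype.ext
    ext i j
    fin_cases i <;> fin_cases j <;> rfl
  map_mul' v w := by
    apply Subtype.ext
    apply Subtype.ext
    show _ = HMul.hMul (α := Matrix _ _ (ZMod p)) (β := Matrix _ _ (ZMod p)) _ _
    ext i j
    fin_cases i <;> fin_cases j <;>
      simp [Matrix.mul_apply, Fin.sum_univ_three, Fin.sum_univ_two]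

theorem qdBlock_trans (v : F2) : qdBlock p (qdTrans p v) = 1 := by
  apply Subtype.ext
  ext i j
  fin_cases i <;> fin_cases j <;> rfl

theorem qdBlock_lift (g : SL2) : qdBlock p (qdLift p g) = g := by
  apply Subtype.ext
  ext i j
  fin_cases i <;> fin_cases j <;> rfl

theorem qdTrans_injective : Function.Injective (qdTrans p) := fun v w h => by
  have h0 : ∀ i, (qdTrans p v).1.1 i 2 = (qdTrans p w).1.1 i 2 := fun i => by rw [h]
  apply Multiplicative.toAdd.injective
  ext i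
  fin_cases i
  · exact h0 0
  · exact h0 1

theorem qd_decomp (x : qd p) :
    x = qdTrans p (Multiplicative.ofAdd ![x.1.1 0 2, x.1.1 1 2]) * qdLift p (qdBlock p x) := by
  obtain ⟨a0, a1, a2⟩ := qd_apply x
  apply Subtype.ext
  apply Subtype.ext
  show _ = HMul.hMul (α := Matrix _ _ (ZMod p)) (β := Matrix _ _ (ZMod p)) _ _
  ext i j
  fin_cases i <;> fin_cases j <;>
    simp [qdTrans, qdLift, qdBlock_coe, Matrix.mul_apply, Fin.sum_univ_three, a0, a1, a2]

theorem qdBlock_surjective : Function.Surjective (qdBlock p) := fun g => ⟨_, qdBlock_lift g⟩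

theorem mem_ker_qdBlock {x : qd p} : x ∈ (qdBlock p).ker ↔ x ∈ (qdTrans p).range := by
  constructor
  · intro h
    refine ⟨Multiplicative.ofAdd ![x.1.1 0 2, x.1.1 1 2], ?_⟩
    conv_rhs => rw [qd_decomp x, show qdBlock p x = 1 from h, map_one, mul_one]
  · rintro ⟨v, rfl⟩
    exact qdBlock_trans v

theorem qd_mul_trans (x : qd p) (v : F2) :
    x * qdTrans p v =
      qdTrans p (Multiplicative.ofAdd ((qdBlock p x).1 *ᵥ v.toAdd)) * x := by
  obtain ⟨a0, a1, a2⟩ := qd_apply x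
  apply Subtype.ext
  apply Subtype.ext
  show HMul.hMul (α := Matrix _ _ (ZMod p)) (β := Matrix _ _ (ZMod p)) _ _ =
    HMul.hMul (α := Matrix _ _ (ZMod p)) (β := Matrix _ _ (ZMod p)) _ _
  ext i j
  fin_cases i <;> fin_cases j <;>
    simp [qdTrans, qdBlock_coe, Matrix.mul_apply, Fin.sum_univ_three, a0, a1, a2, add_comm,
      dotProduct, Fin.sum_univ_two]

end Cfsg.Agent.Fus
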