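import Mathlib

/-!
Normalised pairs of square zero elements in an algebra over `ZMod p`: the copy of `SL(2, p)` attached to
a pair, the pairs with a common first member are conjugate under the centralizer of that member, and
square roots in an additive group closed under `x ↦ a x a`.
-/

set_option autoImplicit false
set_option linter.unusedSectionVars false

namespace Cfsg.Agent.Fus.QFix

variable {p : ℕ} [Fact p.Prime] {R : Type*} [Ring R] [Algebra (ZMod p) R]

/-- `s` and `t` are the two root elements of a copy of `SL(2)`. -/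
structure NPair (s t : R) : Prop where
  ss : s * s = 0
  tt : t * t = 0
  sts : s * t * s = s
  tst : t * s * t = t

/-- The projection on the support of a pair. -/
def proj (s t : R) : R := s * t + t * s

/-- The Weyl elements of a pair. -/
def wel (c : ZMod p) (s t : R) : R := 1 - proj s t + c • s - c⁻¹ • t

namespace NPair

variable {s t : R} (h : NPair s t)

include h

theorem symm : NPair t s := ⟨h.tt, h.ss, h.tst, h.sts⟩

omit h in
theorem assoc_rules (h : NPair s t) :
    s * (t * s) = s ∧ t * (s * t) = t ∧ (∀ x : R, s * (s * x) = 0) ∧ (∀ x : R, t * (t * x) = 0) ∧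
      (∀ x : R, s * (t * (s * x)) = s * x) ∧ ∀ x : R, t * (s * (t * x)) = t * x := by
  refine ⟨by rw [← mul_assoc, h.sts], by rw [← mul_assoc, h.tst], fun x => ?_, fun x => ?_, fun x => ?_,
    fun x => ?_⟩
  · rw [← mul_assoc, h.ss, zero_mul]
  · rw [← mul_assoc, h.tt, zero_mul]
  · rw [← mul_assoc, ← mul_assoc, h.sts]
  · rw [← mul_assoc, ← mul_assoc, h.tst]

theorem proj_left : proj s t * s = s ∧ s * proj s t = s := by
  obtain ⟨a1, a2, a3, a4, a5, a6⟩ := h.assoc_rules
  constructor <;> simp [proj, add_mul, mul_add, mul_assoc, h.ss, h.tt, a1, a2, a3, a4, a5, a6]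

theorem proj_right : proj s t * t = t ∧ t * proj s t = t := by
  obtain ⟨a1, a2, a3, a4, a5, a6⟩ := h.assoc_rules
  constructor <;> simp [proj, add_mul, mul_add, mul_assoc, h.ss, h.tt, a1, a2, a3, a4, a5, a6]

theorem proj_idem : proj s t * proj s t = proj s t := by
  obtain ⟨a1, a2, a3, a4, a5, a6⟩ := h.assoc_rules
  simp [proj, add_mul, mul_add, mul_assoc, h.ss, h.tt, a1, a2, a3, a4, a5, a6]

theorem wel_eq {c : ZMod p} (hc : c ≠ 0) :
    (1 + c • s) * (1 - c⁻¹ • t) * (1 + c • s) = wel c s t := by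
  obtain ⟨a1, a2, a3, a4, a5, a6⟩ := h.assoc_rules
  simp only [wel, proj, mul_add, add_mul, mul_sub, sub_mul, one_mul, mul_one, smul_mul_assoc, mul_smul_comm,
    smul_smul, mul_assoc, h.ss, a1, smul_zero, add_zero, sub_zero]
  match_scalars <;> field_simp <;> ring

theorem wel_mul_neg {c : ZMod p} (hc : c ≠ 0) : wel c s t * wel (-c) s t = 1 := by
  obtain ⟨a1, a2, a3, a4, a5, a6⟩ := h.assoc_rules
  obtain ⟨b1, b2⟩ := h.proj_left
  obtain ⟨b3, b4⟩ := h.proj_right
  simp only [wel, mul_add, add_mul, mul_sub, sub_mul, one_mul, mul_one, smul_mul_assoc, mul_smul_comm,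
    smul_smul, b1, b2, b3, b4, h.proj_idem, h.ss, h.tt, smul_zero, inv_neg, mul_neg, neg_mul,
    mul_inv_cancel₀ hc, inv_mul_cancel₀ hc, neg_smul, one_smul, neg_neg, mul_neg, neg_zero]
  simp only [smul_neg, neg_smul, smul_smul, mul_inv_cancel₀ hc, inv_mul_cancel₀ hc, one_smul, neg_neg, proj]
  match_scalars <;> field_simp <;> ring

theorem wel_neg_mul {c : ZMod p} (hc : c ≠ 0) : wel (-c) s t * wel c s t = 1 := by
  simpa using h.wel_mul_neg (neg_ne_zero.2 hc)

/-- The square of a Weyl element is the involution of the pair. -/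
theorem wel_sq : wel (1 : ZMod p) s t * wel (1 : ZMod p) s t = 1 - (2 : ZMod p) • proj s t := by
  obtain ⟨b1, b2⟩ := h.proj_left
  obtain ⟨b3, b4⟩ := h.proj_right
  simp only [wel, one_smul, inv_one, mul_add, add_mul, mul_sub, sub_mul, one_mul, mul_one, b1, b2, b3, b4,
    h.proj_idem, h.ss, h.tt]
  rw [two_smul]
  simp only [proj]
  abel

theorem conj {v w : R} (hvw : v * w = 1) (hwv : w * v = 1) : NPair (v * s * w) (v * t * w) := by
  have e : ∀ a b : R, v * a * w * (v * b * w) = v * (a * b) * w := fun a b => by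
    rw [mul_assoc (v * a), ← mul_assoc w, ← mul_assoc w, hwv, one_mul, ← mul_assoc, mul_assoc v a b]
  exact ⟨by rw [e, h.ss, mul_zero, zero_mul], by rw [e, h.tt, mul_zero, zero_mul], by rw [e, e, h.sts],
    by rw [e, e, h.tst]⟩

/-- Conjugation by a Weyl element. -/
theorem wel_conj {y : R} (hy1 : proj s t * y = y) (hy2 : y * proj s t = y) (hy3 : t * y = 0) (hy4 : y * t = 0) :
    wel (1 : ZMod p) s t * y * wel (-1 : ZMod p) s t = -(s * y * s) := by
  simp [wel, sub_mul, add_mul, mul_sub, mul_add, hy1, hy2, hy3, hy4, mul_assoc, inv_neg]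

end NPair

theorem conj_proj {s t v w : R} (hwv : w * v = 1) : proj (v * s * w) (v * t * w) = v * proj s t * w := by
  have e : ∀ a b : R, v * a * w * (v * b * w) = v * (a * b) * w := fun a b => by
    rw [mul_assoc (v * a), ← mul_assoc w, ← mul_assoc w, hwv, one_mul, ← mul_assoc, mul_assoc v a b]
  rw [proj, e, e, ← add_mul, ← mul_add]
  rfl

theorem one_add_pow_of_cube {y : R} (hy : y * (y * y) = 0) (n : ℕ) :
    (1 + y) ^ n = 1 + (n : ZMod p) • y + (n.choose 2 : ZMod p) • (y * y) := by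
  induction n with
  | zero => simp
  | succ n ih =>
    rw [pow_succ, ih, Nat.choose_succ_succ, Nat.choose_one_right]
    push_cast
    simp only [add_mul, mul_add, one_mul, mul_one, smul_mul_assoc, mul_assoc, hy, smul_zero, add_smul, one_smul]
    abel

theorem one_add_pow_of_sq {y : R} (hy : y * y = 0) (n : ℕ) : (1 + y) ^ n = 1 + (n : ZMod p) • y := by
  rw [one_add_pow_of_cube (p := p) (by rw [hy, mul_zero]), hy, smul_zero, add_zero]

theorem two_ne (hp : 5 ≤ p) : (2 : ZMod p) ≠ 0 ∧ (3 : ZMod p) ≠ 0 := by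
  have key : ∀ n : ℕ, 0 < n → n < 5 → (n : ZMod p) ≠ 0 := fun n h0 h5 e => by
    have := Nat.le_of_dvd h0 ((ZMod.natCast_eq_zero_iff n p).1 e)
    omega
  exact ⟨by exact_mod_cast key 2 (by norm_num) (by norm_num), by exact_mod_cast key 3 (by norm_num) (by norm_num)⟩

section Transitive

variable (hp : 5 ≤ p) {M : Submonoid R}

include hp

/-- Two pairs on a first member with the same projection differ by an element of `M`. -/
theorem exists_shift (hinv : ∀ x ∈ M, ∀ y, x * y = 1 → y * x = 1 → y ∈ M) {s t t1 : R} (h : NPair s t)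
    (h1 : NPair s t1) (hP : proj s t1 = proj s t) (hs : ∀ c : ZMod p, 1 + c • s ∈ M)
    (ht : ∀ c : ZMod p, 1 + c • t ∈ M) (ht1 : ∀ c : ZMod p, 1 + c • t1 ∈ M) :
    ∃ v ∈ M, ∃ w ∈ M, v * w = 1 ∧ w * v = 1 ∧ v * s = s * v ∧ v * t * w = t1 := by
  obtain ⟨ω, hω⟩ : ∃ ω, ω = s * t - s * t1 := ⟨_, rfl⟩
  have hω' : ω = t1 * s - t * s := by
    have e : s * t + t * s = s * t1 + t1 * s := hP.symm
    rw [hω, sub_eq_sub_iff_add_eq_add, e, add_comm]
  have hωω : ω * ω = 0 := by
    have e1 : s * t * (s * t) = s * t := by rw [← mul_assoc, h.sts]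
    have e2 : s * t * (s * t1) = s * t1 := by rw [← mul_assoc, h.sts]
    have e3 : s * t1 * (s * t) = s * t := by rw [← mul_assoc, h1.sts]
    have e4 : s * t1 * (s * t1) = s * t1 := by rw [← mul_assoc, h1.sts]
    rw [hω, mul_sub, sub_mul, sub_mul, e1, e2, e3, e4]
    abel
  have hωt : ω * t = t1 * s * t - t := by rw [hω', sub_mul, h.tst]
  have htω : t * ω = t - t * s * t1 := by rw [hω, mul_sub, ← mul_assoc, ← mul_assoc, h.tst]
  have hconj : (1 + ω) * t * (1 - ω) = t1 := by
    have e : ω * t * ω = t1 * s * t - t1 - (t - t * s * t1) := by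
      rw [hωt, sub_mul, htω]
      congr 1
      rw [hω, mul_sub, show t1 * s * t * (s * t) = t1 * s * (t * s * t) by simp only [mul_assoc], h.tst,
        show t1 * s * t * (s * t1) = t1 * (s * t * s) * t1 by simp only [mul_assoc], h.sts, h1.tst]
    rw [add_mul, one_mul, mul_sub, mul_one, add_mul, e, hωt, htω]
    abel
  have hU : (1 + ω) * (1 - ω) = 1 ∧ (1 - ω) * (1 + ω) = 1 := by
    constructor <;> simp [add_mul, mul_add, sub_mul, mul_sub, hωω]
  obtain ⟨lam, hlam⟩ : ∃ lam, lam = t * ω * t := ⟨_, rfl⟩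
  have hlam2 : lam * lam = 0 := by
    rw [hlam, show t * ω * t * (t * ω * t) = t * ω * (t * t) * (ω * t) by simp only [mul_assoc], h.tt, mul_zero,
      zero_mul]
  have ht1t : t1 * t = -(lam + ω * lam) := by
    have e : ∀ u : R, u * t * t = 0 := fun u => by rw [mul_assoc, h.tt, mul_zero]
    rw [← hconj, hlam, add_mul, one_mul, mul_sub, mul_one, sub_mul, add_mul, h.tt, e, add_mul, add_mul, zero_add]
    simp only [mul_assoc]
    abel
  have hg : ∀ c : ZMod p, c ≠ 0 → (1 + ω) * (1 + (c⁻¹ * c⁻¹) • lam) ∈ M := by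
    intro c hc
    have key : wel c s t1 * wel (-c) s t = (1 + ω) * (1 + (c⁻¹ * c⁻¹) • lam) := by
      obtain ⟨b1, b2⟩ := h.proj_left
      obtain ⟨b3, b4⟩ := h.proj_right
      have b5 : t1 * proj s t = t1 := by rw [← hP, h1.proj_right.2]
      have e : (1 + ω) * (1 + (c⁻¹ * c⁻¹) • lam) = 1 + ω - (c⁻¹ * c⁻¹) • (t1 * t) := by
        rw [ht1t]
        simp only [add_mul, mul_add, one_mul, mul_one, mul_smul_comm, smul_neg, smul_add]
        abel
      rw [e, hω', wel, wel, hP]
      simp only [mul_add, add_mul, mul_sub, sub_mul, one_mul, mul_one, smul_mul_assoc, mul_smul_comm, smul_smul,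
        b1, b2, b3, b4, b5, h.proj_idem, h.ss, smul_zero, inv_neg, mul_neg, neg_mul, mul_inv_cancel₀ hc,
        inv_mul_cancel₀ hc, neg_smul, one_smul, neg_neg, neg_zero]
      simp only [smul_neg, neg_smul, smul_sub, smul_add, smul_smul, mul_inv_cancel₀ hc, inv_mul_cancel₀ hc, one_smul, neg_neg, smul_zero, neg_zero, proj]
      abel
    rw [← key, ← h1.wel_eq hc, ← h.wel_eq (neg_ne_zero.2 hc)]
    refine M.mul_mem (M.mul_mem (M.mul_mem (hs c) ?_) (hs c)) (M.mul_mem (M.mul_mem (hs _) ?_) (hs _))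
    · rw [sub_eq_add_neg, ← neg_smul]; exact ht1 _
    · rw [sub_eq_add_neg, ← neg_smul]; exact ht _
  obtain ⟨h20, h30⟩ := two_ne hp
  have g1 := hg 1 one_ne_zero
  rw [inv_one, one_mul, one_smul] at g1
  have hl : ∀ a b : ZMod p, (1 + a • lam) * (1 + b • lam) = 1 + (a + b) • lam := fun a b => by
    simp only [add_mul, mul_add, one_mul, mul_one, smul_mul_assoc, mul_smul_comm, hlam2, smul_zero, add_smul]
    abel
  have hl' : (1 - lam) * (1 + lam) = 1 ∧ (1 + lam) * (1 - lam) = 1 := by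
    constructor <;> simp [add_mul, mul_add, sub_mul, mul_sub, hlam2]
  have g1' : (1 - lam) * (1 - ω) ∈ M := by
    refine hinv _ g1 _ ?_ ?_
    · rw [mul_assoc, ← mul_assoc (1 + lam), hl'.2, one_mul, hU.1]
    · rw [mul_assoc, ← mul_assoc (1 - ω), hU.2, one_mul, hl'.1]
  obtain ⟨e, he⟩ : ∃ e, e = (2 : ZMod p)⁻¹ * 2⁻¹ - 1 := ⟨_, rfl⟩
  have he0 : e ≠ 0 := by
    intro h0
    apply h30
    have h4 : (2 : ZMod p)⁻¹ * 2⁻¹ = 1 := by rw [← sub_eq_zero, ← he, h0]
    have : (4 : ZMod p) = 1 := by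
      rw [show (4 : ZMod p) = 2 * 2 by norm_num]
      calc (2 : ZMod p) * 2 = 2 * 2 * (2⁻¹ * 2⁻¹) := by rw [h4, mul_one]
        _ = 1 := by field_simp
    linear_combination this
  have g2 : 1 + e • lam ∈ M := by
    have g3 := M.mul_mem g1' (hg 2 h20)
    rwa [mul_assoc, ← mul_assoc (1 - ω), hU.2, one_mul, show (1 : R) - lam = 1 + (-1 : ZMod p) • lam by
      rw [neg_one_smul, sub_eq_add_neg], hl, show -1 + (2 : ZMod p)⁻¹ * 2⁻¹ = e by rw [he]; ring] at g3
  have g4 : ∀ c : ZMod p, 1 + c • lam ∈ M := fun c => by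
    have := M.pow_mem g2 (c * e⁻¹).val
    rwa [one_add_pow_of_sq (p := p) (by rw [smul_mul_smul_comm, hlam2, smul_zero]), smul_smul,
      ZMod.natCast_zmod_val, inv_mul_cancel_right₀ he0] at this
  have hUM : 1 + ω ∈ M := by
    have := M.mul_mem g1 (g4 (-1))
    rwa [mul_assoc, neg_one_smul, ← sub_eq_add_neg, hl'.2, mul_one] at this
  refine ⟨1 + ω, hUM, 1 - ω, hinv _ hUM _ hU.1 hU.2, hU.1, hU.2, ?_, hconj⟩
  have e1 : ω * s = 0 := by rw [hω', sub_mul, mul_assoc, mul_assoc, h.ss, mul_zero, mul_zero, sub_zero]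
  have e2 : s * ω = 0 := by rw [hω, mul_sub, ← mul_assoc, ← mul_assoc, h.ss, zero_mul, zero_mul, sub_zero]
  rw [add_mul, mul_add, e1, e2, one_mul, mul_one]

/-- Two pairs with the same first member are conjugate in the centralizer of that member. -/
theorem exists_conj (hinv : ∀ x ∈ M, ∀ y, x * y = 1 → y * x = 1 → y ∈ M) {s t t' : R} (h : NPair s t)
    (h' : NPair s t') (hs : ∀ c : ZMod p, 1 + c • s ∈ M) (ht : ∀ c : ZMod p, 1 + c • t ∈ M)
    (ht' : ∀ c : ZMod p, 1 + c • t' ∈ M) :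
    ∃ v ∈ M, ∃ w ∈ M, v * w = 1 ∧ w * v = 1 ∧ v * s = s * v ∧ v * t * w = t' := by
  obtain ⟨h20, -⟩ := two_ne hp
  have hw : ∀ {a b : R}, NPair a b → (∀ c : ZMod p, 1 + c • a ∈ M) → (∀ c : ZMod p, 1 + c • b ∈ M) →
      1 - (2 : ZMod p) • proj a b ∈ M := fun {a b} hab ha hb => by
    have : wel (1 : ZMod p) a b ∈ M := by
      rw [← hab.wel_eq one_ne_zero]
      refine M.mul_mem (M.mul_mem (ha _) ?_) (ha _)
      rw [sub_eq_add_neg, ← neg_smul]; exact hb _
    rw [← hab.wel_sq]; exact M.mul_mem this this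
  have hinvol : ∀ {a b : R}, NPair a b →
      (1 - (2 : ZMod p) • proj a b) * (1 - (2 : ZMod p) • proj a b) = 1 ∧
      (1 - (2 : ZMod p) • proj a b) * a = -a ∧ a * (1 - (2 : ZMod p) • proj a b) = -a := fun {a b} hab => by
    refine ⟨?_, ?_, ?_⟩
    · simp only [sub_mul, mul_sub, one_mul, mul_one, smul_mul_assoc, mul_smul_comm, hab.proj_idem]
      module
    · rw [sub_mul, one_mul, smul_mul_assoc, hab.proj_left.1, two_smul]; abel
    · rw [mul_sub, mul_one, mul_smul_comm, hab.proj_left.2, two_smul]; abel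
  obtain ⟨i, hi⟩ : ∃ i, i = 1 - (2 : ZMod p) • proj s t := ⟨_, rfl⟩
  obtain ⟨i', hi'⟩ : ∃ i', i' = 1 - (2 : ZMod p) • proj s t' := ⟨_, rfl⟩
  obtain ⟨hii, his, hsi⟩ := hinvol h
  obtain ⟨hii', his', hsi'⟩ := hinvol h'
  rw [← hi] at hii his hsi
  rw [← hi'] at hii' his' hsi'
  have hiM : i ∈ M := hi ▸ hw h hs ht
  have hi'M : i' ∈ M := hi' ▸ hw h' hs ht'
  obtain ⟨u, hu⟩ : ∃ u, u = i * i' := ⟨_, rfl⟩
  have huM : u ∈ M := hu ▸ M.mul_mem hiM hi'M
  have hus : u * s = s := by rw [hu, mul_assoc, his', mul_neg, his, neg_neg]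
  have hsu : s * u = s := by rw [hu, ← mul_assoc, hsi, neg_mul, hsi', neg_neg]
  obtain ⟨y, hy⟩ : ∃ y, y = u - 1 := ⟨_, rfl⟩
  have hy3 : y * (y * y) = 0 := by
    obtain ⟨d, hd⟩ : ∃ d, d = t' - t := ⟨_, rfl⟩
    have hys : y * s = 0 := by rw [hy, sub_mul, hus, one_mul, sub_self]
    have hsy : s * y = 0 := by rw [hy, mul_sub, hsu, mul_one, sub_self]
    have e : y = s * ((2 : ZMod p) • d) + -((2 : ZMod p) • (i * d)) * s := by
      calc y = i * (i' - i) := by rw [hy, hu, mul_sub, hii]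
        _ = -((2 : ZMod p) • (i * (proj s t' - proj s t))) := by
          rw [show i' - i = -((2 : ZMod p) • (proj s t' - proj s t)) by rw [hi, hi', smul_sub]; abel, mul_neg,
            mul_smul_comm]
        _ = -((2 : ZMod p) • (i * (s * d) + i * d * s)) := by
          rw [hd]; congr 2; simp only [proj, mul_add, mul_sub, sub_mul, mul_assoc]; abel
        _ = _ := by
          rw [← mul_assoc, his, neg_mul, smul_add, smul_neg, neg_add, neg_neg, mul_smul_comm, neg_mul,
            smul_mul_assoc]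
    have e2 : y * y = s * ((2 : ZMod p) • d) * y := by
      conv_lhs => arg 1; rw [e]
      rw [add_mul, mul_assoc (-_) s y, hsy, mul_zero, add_zero]
    rw [e2, ← mul_assoc, ← mul_assoc, hys, zero_mul, zero_mul]
  have hup : u ^ p = 1 := by
    have hp2 : p ∣ p.choose 2 := (Fact.out : p.Prime).dvd_choose_self (by norm_num) (by omega)
    rw [show u = 1 + y by rw [hy, add_sub_cancel], one_add_pow_of_cube (p := p) hy3, ZMod.natCast_self, zero_smul,
      (ZMod.natCast_eq_zero_iff _ p).2 hp2, zero_smul, add_zero, add_zero]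
  obtain ⟨m, hm⟩ : ∃ m, 2 * m = p + 1 := by
    obtain ⟨r, hr⟩ := (Fact.out : p.Prime).odd_of_ne_two (by omega)
    exact ⟨r + 1, by omega⟩
  obtain ⟨v, hv⟩ : ∃ v, v = u ^ m := ⟨_, rfl⟩
  obtain ⟨w, hwd⟩ : ∃ w, w = u ^ (p - m) := ⟨_, rfl⟩
  have hvw : v * w = 1 := by rw [hv, hwd, ← pow_add, Nat.add_sub_cancel' (by omega), hup]
  have hwv : w * v = 1 := by rw [hv, hwd, ← pow_add, Nat.sub_add_cancel (by omega), hup]
  have hwwu : w * u * w = 1 := by
    rw [hwd, ← pow_succ, ← pow_add, show p - m + 1 + (p - m) = p by omega, hup]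
  have hcs : Commute u s := (hus.trans hsu.symm :)
  have hvs : v * s = s * v := hv ▸ (hcs.pow_left m).eq
  have hws : w * s = s * w := hwd ▸ (hcs.pow_left (p - m)).eq
  have hiv : v * i = i * w := by
    have hk : ∀ n : ℕ, i * u ^ n * i = (i' * i) ^ n := by
      intro n
      induction n with
      | zero => rw [pow_zero, pow_zero, mul_one, hii]
      | succ n ih =>
        rw [pow_succ u, pow_succ, ← ih]
        have : i * (u ^ n * u) * i = i * u ^ n * (i * i) * (u * i) := by rw [hii]; simp only [mul_assoc, one_mul]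
        rw [this, hu]
        simp only [mul_assoc]
        rw [← mul_assoc i i (i * (i' * i)), hii, one_mul]
    have hr : (i' * i) * u = 1 ∧ Commute (i' * i) u := by
      have e1 : (i' * i) * u = 1 := by rw [hu, mul_assoc, ← mul_assoc i, hii, one_mul, hii']
      have e2 : u * (i' * i) = 1 := by rw [hu, mul_assoc, ← mul_assoc i', hii', one_mul, hii]
      exact ⟨e1, e1.trans e2.symm⟩
    have e : i * v * i = w := by
      rw [hv, hk]
      calc (i' * i) ^ m = (i' * i) ^ m * (v * w) := by rw [hvw, mul_one]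
        _ = w := by rw [← mul_assoc, hv, ← hr.2.mul_pow, hr.1, one_pow, one_mul]
    rw [← e]
    simp only [← mul_assoc, hii, one_mul]
  obtain ⟨t1, ht1⟩ : ∃ t1, t1 = v * t' * w := ⟨_, rfl⟩
  have hsvw : v * s * w = s := by rw [hvs, mul_assoc, hvw, mul_one]
  have h1 : NPair s t1 := by
    have := h'.conj hvw hwv
    rwa [hsvw, ← ht1] at this
  have hP : proj s t1 = proj s t := by
    have e := conj_proj (s := s) (t := t') hwv
    rw [hsvw, ← ht1] at e
    have key : v * i' * w = i := by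
      rw [show i' = i * u by rw [hu, ← mul_assoc, hii, one_mul], ← mul_assoc, hiv, mul_assoc, mul_assoc,
        ← mul_assoc w, hwwu, mul_one]
    rw [hi, hi'] at key
    simp only [mul_sub, sub_mul, mul_one, hvw, mul_smul_comm, smul_mul_assoc, sub_right_inj] at key
    rw [← e] at key
    exact smul_right_injective R h20 key
  have hvM : v ∈ M := hv ▸ M.pow_mem huM m
  have hwM : w ∈ M := hwd ▸ M.pow_mem huM _
  have ht1M : ∀ c : ZMod p, 1 + c • t1 ∈ M := fun c => by
    have := M.mul_mem (M.mul_mem hvM (ht' c)) hwM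
    rwa [mul_add, add_mul, mul_one, hvw, mul_smul_comm, smul_mul_assoc, ← ht1] at this
  obtain ⟨a, ha, b, hb, hab, hba, has, hat⟩ := exists_shift hp hinv h h1 hP hs ht ht1M
  refine ⟨w * a, M.mul_mem hwM ha, b * v, M.mul_mem hb hvM, ?_, ?_, ?_, ?_⟩
  · rw [mul_assoc, ← mul_assoc a, hab, one_mul, hwv]
  · rw [mul_assoc, ← mul_assoc v, hvw, one_mul, hba]
  · rw [mul_assoc, has, ← mul_assoc, hws, mul_assoc]
  · calc w * a * t * (b * v) = w * (a * t * b) * v := by simp only [mul_assoc]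
      _ = w * v * t' * (w * v) := by rw [hat, ht1]; simp only [mul_assoc]
      _ = t' := by rw [hwv, one_mul, mul_one]

end Transitive

/-- The linear map of a matrix, for a pair. -/
def slFun (s t : R) (g : Matrix (Fin 2) (Fin 2) (ZMod p)) : R :=
  1 - proj s t + g 0 0 • (s * t) + g 0 1 • s + g 1 0 • t + g 1 1 • (t * s)

theorem slFun_one (s t : R) : slFun s t (1 : Matrix (Fin 2) (Fin 2) (ZMod p)) = 1 := by
  simp [slFun, proj]
  abel

theorem slFun_mul {s t : R} (h : NPair s t) (g g' : Matrix (Fin 2) (Fin 2) (ZMod p)) :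
    slFun s t (g * g') = slFun s t g * slFun s t g' := by
  obtain ⟨a1, a2, a3, a4, a5, a6⟩ := h.assoc_rules
  simp only [slFun, proj, Matrix.mul_apply, Fin.sum_univ_two, mul_add, add_mul, mul_sub, sub_mul, one_mul, mul_one,
    smul_mul_assoc, mul_smul_comm, smul_smul, mul_assoc, h.ss, h.tt, a1, a2, a3, a4, a5, a6, smul_zero, mul_zero]
  module

/-- The homomorphism of a pair. -/
def slHom {s t : R} (h : NPair s t) : Matrix.SpecialLinearGroup (Fin 2) (ZMod p) →* Rˣ :=
  MonoidHom.toHomUnits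
    { toFun := fun g => slFun s t g.1
      map_one' := slFun_one s t
      map_mul' := fun g g' => slFun_mul h g.1 g'.1 }

theorem coe_slHom {s t : R} (h : NPair s t) (g : Matrix.SpecialLinearGroup (Fin 2) (ZMod p)) :
    (slHom h g : R) = slFun s t g.1 := rfl

theorem slHom_injective {s t : R} (h : NPair s t) (hs : s ≠ 0) : Function.Injective (slHom (p := p) h) := by
  refine (injective_iff_map_eq_one _).2 fun g hg => ?_
  have e : slFun s t g.1 = 1 := by rw [← coe_slHom h, hg]; rfl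
  obtain ⟨a1, a2, a3, a4, a5, a6⟩ := h.assoc_rules
  have ht : t ≠ 0 := fun e => hs (by rw [← h.sts, e, mul_zero, zero_mul])
  have hst : s * t ≠ 0 := fun e => hs (by rw [← h.sts, e, zero_mul])
  have e10 : g.1 1 0 = 0 := by
    have := congrArg (fun X => s * X * s) e
    simp only [slFun, proj, mul_add, add_mul, mul_sub, sub_mul, one_mul, mul_one, smul_mul_assoc, mul_smul_comm,
      mul_assoc, h.ss, a1, a3, smul_zero, mul_zero, add_zero, zero_add, sub_zero, sub_self, zero_sub] at this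
    exact (smul_eq_zero.1 this).resolve_right hs
  have e01 : g.1 0 1 = 0 := by
    have := congrArg (fun X => t * X * t) e
    simp only [slFun, proj, mul_add, add_mul, mul_sub, sub_mul, one_mul, mul_one, smul_mul_assoc, mul_smul_comm,
      mul_assoc, h.tt, a2, a4, smul_zero, mul_zero, add_zero, zero_add, sub_zero, sub_self, zero_sub] at this
    exact (smul_eq_zero.1 this).resolve_right ht
  have e00 : g.1 0 0 = 1 := by
    have := congrArg (fun X => s * t * X * (s * t)) e
    simp only [slFun, proj, mul_add, add_mul, mul_sub, sub_mul, one_mul, mul_one, smul_mul_assoc, mul_smul_comm,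
      mul_assoc, h.ss, h.tt, a1, a2, a3, a4, a5, a6, smul_zero, mul_zero, add_zero, zero_add, sub_zero, sub_self,
      zero_sub] at this
    refine sub_eq_zero.1 ((smul_eq_zero.1 ?_).resolve_right hst)
    rw [sub_smul, one_smul, sub_eq_zero]
    exact this
  have e11 : g.1 1 1 = 1 := by
    have hd := g.2
    rw [Matrix.det_fin_two, e00, e01, zero_mul, sub_zero, one_mul] at hd
    exact hd
  refine Subtype.ext ?_
  ext a b
  fin_cases a <;> fin_cases b <;> simp [e00, e01, e10, e11]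

/-- Square roots in a set of units closed under `x ↦ a x a` are unique up to sign. -/
theorem eq_or_eq_neg_of_mul_self [Finite R] (hp : 5 ≤ p) (S : Submodule (ZMod p) R) (h1 : (1 : R) ∈ S)
    (hunit : ∀ x ∈ S, x ≠ 0 → IsUnit x) (hU : ∀ a ∈ S, ∀ x ∈ S, a * x * a ∈ S) {x y : R} (hx : x ∈ S)
    (hy : y ∈ S) (h : x * x = y * y) : x = y ∨ x = -y := by
  classical
  obtain ⟨h20, -⟩ := two_ne hp
  have hnz : ∀ a ∈ S, ∀ b : R, a * b = 0 → a = 0 ∨ b = 0 := fun a ha b hab =>
    (em (a = 0)).imp id fun h0 => (hunit a ha h0).mul_right_eq_zero.1 hab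
  by_cases hx0 : x = 0
  · refine Or.inl ?_
    rw [hx0, mul_zero] at h
    rw [hx0]
    rcases hnz y hy y h.symm with h | h <;> exact h.symm
  haveI : Nontrivial R := ⟨⟨x, 0, hx0⟩⟩
  have hsq : ∀ a ∈ S, a * a ∈ S := fun a ha => by simpa using hU a ha 1 h1
  have hjor : ∀ a ∈ S, ∀ b ∈ S, a * b + b * a ∈ S := fun a ha b hb => by
    have := S.sub_mem (S.sub_mem (hsq _ (S.add_mem ha hb)) (hsq a ha)) (hsq b hb)
    convert this using 1
    simp only [add_mul, mul_add]
    abel
  have hmul : ∀ a ∈ S, ∀ b ∈ S, a * b = b * a → a * b ∈ S := fun a ha b hb hab => by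
    have := hjor a ha b hb
    rw [← hab, ← two_smul (ZMod p)] at this
    simpa [smul_smul, inv_mul_cancel₀ h20] using S.smul_mem (2 : ZMod p)⁻¹ this
  obtain ⟨s, hs⟩ : ∃ s, s = x * x := ⟨_, rfl⟩
  obtain ⟨t, ht⟩ : ∃ t, t = x * y + y * x := ⟨_, rfl⟩
  have hcs : Commute s x ∧ Commute s y := by
    constructor
    · show s * x = x * s; rw [hs, mul_assoc]
    · show s * y = y * s; rw [hs, h, mul_assoc]
  have hct : Commute t x ∧ Commute t y := by
    constructor
    · show t * x = x * t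
      rw [ht, add_mul, mul_add, mul_assoc y x, ← mul_assoc x x y, ← hs, ← hcs.2.eq]
      simp only [mul_assoc]
      rw [add_comm]
    · show t * y = y * t
      have e1 : x * y * y = y * (y * x) := by rw [mul_assoc, ← h, ← hs, ← hcs.1.eq, hs, h, mul_assoc]
      rw [ht, add_mul, mul_add, e1]
      simp only [mul_assoc]
      rw [add_comm]
  obtain ⟨Z, hZ⟩ : ∃ Z, Z = Subring.closure ({s, t} : Set R) := ⟨_, rfl⟩
  have hst : s * t = t * s := by rw [hs]; exact (hct.1.mul_right hct.1).eq.symm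
  have hsetcomm : ∀ a ∈ ({s, t} : Set R), ∀ b ∈ ({s, t} : Set R), a * b = b * a := by
    rintro a (rfl | rfl) b (rfl | rfl) <;> first | rfl | exact hst | exact hst.symm
  haveI := Subring.isMulCommutative_closure hsetcomm
  have hZc : ∀ a ∈ Z, ∀ b ∈ Z, a * b = b * a := fun a ha b hb => by
    rw [hZ] at ha hb
    exact congrArg Subtype.val (mul_comm' (⟨a, ha⟩ : Subring.closure ({s, t} : Set R)) ⟨b, hb⟩)
  have hZS : ∀ a ∈ Z, a ∈ S ∧ Commute a x ∧ Commute a y := by
    intro a ha
    rw [hZ] at ha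
    induction ha using Subring.closure_induction with
    | mem a ha =>
      rcases ha with rfl | rfl
      · exact ⟨hs ▸ hsq x hx, hcs⟩
      · exact ⟨ht ▸ hjor x hx y hy, hct⟩
    | zero => exact ⟨S.zero_mem, Commute.zero_left _, Commute.zero_left _⟩
    | one => exact ⟨h1, Commute.one_left _, Commute.one_left _⟩
    | add a b _ _ iha ihb => exact ⟨S.add_mem iha.1 ihb.1, iha.2.1.add_left ihb.2.1, iha.2.2.add_left ihb.2.2⟩
    | neg a _ iha => exact ⟨S.neg_mem iha.1, iha.2.1.neg_left, iha.2.2.neg_left⟩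
    | mul a b ha hb iha ihb =>
      exact ⟨hmul a iha.1 b ihb.1 (hZc a (hZ ▸ ha) b (hZ ▸ hb)), iha.2.1.mul_left ihb.2.1,
        iha.2.2.mul_left ihb.2.2⟩
  letI : CommRing Z := { (inferInstance : Ring Z) with mul_comm := fun a b => Subtype.ext (hZc a a.2 b b.2) }
  haveI : Nontrivial Z := ⟨⟨0, 1, fun e => zero_ne_one (congrArg Subtype.val e)⟩⟩
  haveI : NoZeroDivisors Z := ⟨fun {a b} hab =>
    (hnz a (hZS a a.2).1 b (congrArg Subtype.val hab)).imp Subtype.ext Subtype.ext⟩
  haveI : IsDomain Z := NoZeroDivisors.to_isDomain _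
  letI : Fintype Z := Fintype.ofFinite _
  have hodd : Fintype.card Z % 2 = 1 := by
    by_contra hev
    haveI : Fact (Nat.Prime 2) := ⟨Nat.prime_two⟩
    obtain ⟨z, hz⟩ := exists_prime_addOrderOf_dvd_card (G := Z) 2 (Nat.dvd_of_mod_eq_zero (by omega))
    have hpz : p • z = 0 := Subtype.ext (by
      show p • (z : R) = 0
      rw [← Nat.cast_smul_eq_nsmul (ZMod p), ZMod.natCast_self, zero_smul])
    have := addOrderOf_dvd_of_nsmul_eq_zero hpz
    rw [hz] at this
    rcases (Fact.out : p.Prime).eq_one_or_self_of_dvd 2 this with h2 | h2 <;> omega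
  obtain ⟨sZ, hsZ⟩ : ∃ sZ : Z, (sZ : R) = s := ⟨⟨s, hZ ▸ Subring.subset_closure (Or.inl rfl)⟩, rfl⟩
  obtain ⟨tZ, htZ⟩ : ∃ tZ : Z, (tZ : R) = t := ⟨⟨t, hZ ▸ Subring.subset_closure (Or.inr rfl)⟩, rfl⟩
  have hsne : -sZ ≠ 0 := by
    intro e
    rw [neg_eq_zero] at e
    refine hx0 ((hnz x hx x ?_).elim id id)
    rw [← hs, ← hsZ, e]; rfl
  obtain ⟨γ, α, hγα⟩ := FiniteField.exists_root_sum_quadratic (f := (Polynomial.X : Polynomial Z) ^ 2)
    (g := Polynomial.C (-sZ) * Polynomial.X ^ 2 + Polynomial.C (-tZ) * Polynomial.X + Polynomial.C (-sZ))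
    (Polynomial.degree_X_pow 2) (Polynomial.degree_quadratic hsne) hodd
  simp only [Polynomial.eval_add, Polynomial.eval_mul, Polynomial.eval_pow, Polynomial.eval_X,
    Polynomial.eval_C] at hγα
  obtain ⟨w, hw⟩ : ∃ w, w = (α : R) * x + y := ⟨_, rfl⟩
  obtain ⟨hαS, hαx, hαy⟩ := hZS α α.2
  obtain ⟨hγS, hγx, hγy⟩ := hZS γ γ.2
  have hww : w * w = (γ : R) * γ := by
    have e0 := congrArg (fun z : Z => (z : R)) hγα
    simp only [pow_two, Subring.coe_add, Subring.coe_mul, NegMemClass.coe_neg, ZeroMemClass.coe_zero,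
      neg_mul, hsZ, htZ] at e0
    have e1 : w * w = (α : R) * α * s + (α : R) * t + s := by
      rw [hw, add_mul, mul_add, mul_add]
      rw [show (α : R) * x * ((α : R) * x) = (α : R) * α * (x * x) by
          rw [mul_assoc, ← mul_assoc x, ← hαx.eq]; simp only [mul_assoc],
        show y * ((α : R) * x) = (α : R) * (y * x) by rw [← mul_assoc, ← hαy.eq, mul_assoc],
        mul_assoc (α : R) x y, ← hs, ← h, ← hs, ht, mul_add]
      abel
    rw [e1, show (α : R) * α * s = s * ((α : R) * α) from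
        (hZc _ (Z.mul_mem α.2 α.2) s (hsZ ▸ sZ.2)), show (α : R) * t = t * α from hZc _ α.2 t (htZ ▸ tZ.2)]
    linear_combination (norm := abel) -e0
  have hwγ : Commute w (γ : R) := by
    rw [hw]
    exact ((show Commute (α : R) γ from hZc _ α.2 _ γ.2).mul_left hγx.symm).add_left hγy.symm
  have hwS : w ∈ S := hw ▸ S.add_mem (hmul _ hαS x hx hαx.eq) hy
  have hprod : ((γ : R) - w) * ((γ : R) + w) = 0 := by
    rw [sub_mul, mul_add, mul_add, hww, hwγ.eq]; abel
  have hxw : Commute x w := by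
    rcases hnz _ (S.sub_mem hγS hwS) _ hprod with e | e
    · rw [← sub_eq_zero.1 e]; exact hγx.symm
    · rw [eq_neg_of_add_eq_zero_right e]; exact hγx.symm.neg_right
  have hxy : Commute x y := by
    have := hxw.sub_right (hαx.symm.mul_right (Commute.refl x))
    rwa [hw, add_sub_cancel_left] at this
  have hprod2 : (x - y) * (x + y) = 0 := by
    rw [sub_mul, mul_add, mul_add, h, hxy.eq]; abel
  exact (hnz _ (S.sub_mem hx hy) _ hprod2).imp sub_eq_zero.1 eq_neg_of_add_eq_zero_left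

end Cfsg.Agent.Fus.QFix
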