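import Mathlib
import Cfsg.Prelude.Def_RootSubgroups

/-!
The class of a quadratic element of minimal rank, for an arbitrary linear group, and the condition on
normal subgroups which replaces irreducibility.
-/

set_option autoImplicit false
set_option linter.unusedSectionVars false

namespace Cfsg.Agent.Fus.QPair

open Cfsg

universe u

variable {k : Type u} [Field k] {M : Type u} [AddCommGroup M] [Module k M]

/-- Every nontrivial normal subgroup fixes only zero and moves the whole space. -/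
def NormalFree (H : Subgroup (LinearMap.GeneralLinearGroup k M)) : Prop :=
  ∀ N : Subgroup (LinearMap.GeneralLinearGroup k M), N ≤ H → N ≠ ⊥ → (∀ g ∈ H, ∀ n ∈ N, g * n * g⁻¹ ∈ N) →
    Cfsg.fixedSubmodule N = ⊥ ∧ Cfsg.commutatorSubmodule N = ⊤

/-- No nontrivial normal subgroup acts unipotently. -/
def UnipFree (H : Subgroup (LinearMap.GeneralLinearGroup k M)) : Prop :=
  ∀ N : Subgroup (LinearMap.GeneralLinearGroup k M), N ≤ H → Cfsg.IsUnipotentOn N →
    (∀ g ∈ H, ∀ n ∈ N, g * n * g⁻¹ ∈ N) → N = ⊥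

/-- An irreducible group is of this kind. -/
theorem normalFree {G : Subgroup (LinearMap.GeneralLinearGroup k M)} (hG : Cfsg.IsQuadraticPair G) :
    NormalFree G := by
  obtain ⟨⟨-, hirr⟩, -⟩ := hG
  intro N hN hne hnorm
  have hconj : ∀ g ∈ G, ∀ n ∈ N, ∀ v : M, (n : M →ₗ[k] M) ((g : M →ₗ[k] M) v) =
      (g : M →ₗ[k] M) (((g⁻¹ * n * g : LinearMap.GeneralLinearGroup k M) : M →ₗ[k] M) v) := by
    intro g _ n _ v
    show (n * g : LinearMap.GeneralLinearGroup k M).val v = (g * (g⁻¹ * n * g) : LinearMap.GeneralLinearGroup k M).val v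
    rw [show g * (g⁻¹ * n * g) = n * g by group]
  have hmem : ∀ g ∈ G, ∀ n ∈ N, g⁻¹ * n * g ∈ N := fun g hg n hn => by
    simpa using hnorm g⁻¹ (inv_mem hg) n hn
  constructor
  · have hinv : ∀ g ∈ G, ∀ w ∈ Cfsg.fixedSubmodule N, (g : M →ₗ[k] M) w ∈ Cfsg.fixedSubmodule N := by
      intro g hg w hw
      simp only [Cfsg.fixedSubmodule, Submodule.mem_iInf, LinearMap.mem_ker, LinearMap.sub_apply,
        Module.End.one_apply, sub_eq_zero] at hw ⊢
      intro n hn
      rw [hconj g hg n hn, hw _ (hmem g hg n hn)]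
    refine (hirr _ hinv).resolve_right fun htop => hne ((Subgroup.eq_bot_iff_forall N).2 fun n hn => ?_)
    refine Units.ext (LinearMap.ext fun v => sub_eq_zero.1 ?_)
    have hv : v ∈ Cfsg.fixedSubmodule N := htop ▸ Submodule.mem_top
    simp only [Cfsg.fixedSubmodule, Submodule.mem_iInf] at hv
    exact hv n hn
  · have hinv : ∀ g ∈ G, ∀ w ∈ Cfsg.commutatorSubmodule N, (g : M →ₗ[k] M) w ∈ Cfsg.commutatorSubmodule N := by
      intro g hg w hw
      have hle : Cfsg.commutatorSubmodule N ≤ (Cfsg.commutatorSubmodule N).comap (g : M →ₗ[k] M) := by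
        refine iSup₂_le fun n hn => ?_
        rintro _ ⟨m, rfl⟩
        refine Submodule.mem_iSup_of_mem (g * n * g⁻¹) (Submodule.mem_iSup_of_mem (hnorm g hg n hn) ?_)
        refine ⟨(g : M →ₗ[k] M) m, ?_⟩
        show (((g * n * g⁻¹ : LinearMap.GeneralLinearGroup k M) : M →ₗ[k] M) ((g : M →ₗ[k] M) m)) - (g : M →ₗ[k] M) m =
          (g : M →ₗ[k] M) ((n : M →ₗ[k] M) m - m)
        rw [map_sub, ← Module.End.mul_apply, ← Units.val_mul, inv_mul_cancel_right]
        rfl
      exact hle hw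
    refine (hirr _ hinv).resolve_left fun hbot => hne ((Subgroup.eq_bot_iff_forall N).2 fun n hn => ?_)
    refine Units.ext (LinearMap.ext fun v => sub_eq_zero.1 ?_)
    have hv : ((n : M →ₗ[k] M) - 1) v ∈ Cfsg.commutatorSubmodule N :=
      Submodule.mem_iSup_of_mem n (Submodule.mem_iSup_of_mem hn ⟨v, rfl⟩)
    rw [hbot, Submodule.mem_bot] at hv
    exact hv

/-- The class of a quadratic element of minimal rank is a group with the identity, and abelian. -/
theorem class_spec [FiniteDimensional k M] {G : Subgroup (LinearMap.GeneralLinearGroup k M)}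
    {σ : LinearMap.GeneralLinearGroup k M} (hσ : σ ∈ Cfsg.minimalQuadraticElements G) :
    (Cfsg.sameActionSubgroup G σ : Set (LinearMap.GeneralLinearGroup k M)) = Cfsg.sameActionClass G σ ∪ {1} ∧
    IsMulCommutative ↥(Cfsg.sameActionSubgroup G σ) := by
  classical
  obtain ⟨⟨hσG, ⟨hσ2, hσ0⟩, hσsc⟩, hσmin⟩ := hσ
  set s : M →ₗ[k] M := (σ : M →ₗ[k] M) - 1 with hs
  -- the class together with the identity, described by endomorphisms
  have hmem : ∀ x ∈ sameActionClass G σ ∪ {1}, x ∈ G ∧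
      LinearMap.ker s ≤ LinearMap.ker ((x : M →ₗ[k] M) - 1) ∧
      LinearMap.range ((x : M →ₗ[k] M) - 1) ≤ LinearMap.range s ∧
      (∀ c : k, ∃ y ∈ G, (y : M →ₗ[k] M) = 1 + c • ((x : M →ₗ[k] M) - 1)) := by
    rintro x (⟨⟨⟨hxG, hxq, hxsc⟩, -⟩, hk, hr⟩ | rfl)
    · refine ⟨hxG, hk.ge, hr.le, fun c => ?_⟩
      set t : M →ₗ[k] M := (x : M →ₗ[k] M) - 1 with ht
      have h2 : t * t = 0 := hxq.1
      refine ⟨⟨1 + c • t, 1 + (-c) • t, ?_, ?_⟩, hxsc ⟨c, rfl⟩, rfl⟩ <;>
        simp only [add_mul, mul_add, one_mul, mul_one, smul_mul_assoc, mul_smul_comm, h2, smul_zero, add_zero] <;>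
        rw [neg_smul] <;> abel
    · refine ⟨G.one_mem, ?_, ?_, fun c => ⟨1, G.one_mem, ?_⟩⟩
      · simp [Module.End.one_eq_id]
      · simp
      · simp
  have hrk : LinearMap.range s ≤ LinearMap.ker s := by
    rintro _ ⟨m, rfl⟩
    exact LinearMap.congr_fun hσ2 m
  have hst : ∀ a b : M →ₗ[k] M, LinearMap.ker s ≤ LinearMap.ker a → LinearMap.range b ≤ LinearMap.range s →
      a * b = 0 := fun a b ha hb => LinearMap.ext fun m => ha (hrk (hb ⟨m, rfl⟩))
  -- closure under products and inverses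
  have hclose : ∀ z ∈ G, LinearMap.ker s ≤ LinearMap.ker ((z : M →ₗ[k] M) - 1) →
      LinearMap.range ((z : M →ₗ[k] M) - 1) ≤ LinearMap.range s →
      (∀ c : k, ∃ y ∈ G, (y : M →ₗ[k] M) = 1 + c • ((z : M →ₗ[k] M) - 1)) →
      z ∈ sameActionClass G σ ∪ {1} := by
    intro z hzG hzk hzr hzsc
    by_cases hz : z = 1
    · exact Or.inr hz
    set u : M →ₗ[k] M := (z : M →ₗ[k] M) - 1 with hu
    have hu0 : u ≠ 0 := fun h => hz (Units.ext (sub_eq_zero.mp h))
    have hq : z ∈ quadraticElements G := ⟨hzG, ⟨hst u u hzk hzr, hu0⟩, by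
      rintro τ ⟨c, hc⟩
      obtain ⟨y, hy, hye⟩ := hzsc c
      rw [show τ = y from Units.ext (hc.trans hye.symm)]
      exact hy⟩
    have hr : LinearMap.range u = LinearMap.range s :=
      Submodule.eq_of_le_of_finrank_le hzr (hσmin z hq)
    have hk : LinearMap.ker u = LinearMap.ker s := by
      refine (Submodule.eq_of_le_of_finrank_le hzk ?_).symm
      have h1 := LinearMap.finrank_range_add_finrank_ker u
      have h2 := LinearMap.finrank_range_add_finrank_ker s
      rw [hr] at h1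
      omega
    refine Or.inl ⟨⟨hq, fun τ hτ => ?_⟩, hk, hr⟩
    show Module.finrank k (LinearMap.range u) ≤ _
    rw [hr]
    exact hσmin τ hτ
  have hmul : ∀ x ∈ sameActionClass G σ ∪ {1}, ∀ y ∈ sameActionClass G σ ∪ {1},
      x * y ∈ sameActionClass G σ ∪ {1} ∧ x * y = y * x := by
    intro x hx y hy
    obtain ⟨hxG, hxk, hxr, hxc⟩ := hmem x hx
    obtain ⟨hyG, hyk, hyr, hyc⟩ := hmem y hy
    set a : M →ₗ[k] M := (x : M →ₗ[k] M) - 1 with ha
    set b : M →ₗ[k] M := (y : M →ₗ[k] M) - 1 with hb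
    have hab : a * b = 0 := hst a b hxk hyr
    have hba : b * a = 0 := hst b a hyk hxr
    have hxe : (x : M →ₗ[k] M) = 1 + a := (add_sub_cancel _ _).symm
    have hye : (y : M →ₗ[k] M) = 1 + b := (add_sub_cancel _ _).symm
    have e1 : ((x * y : LinearMap.GeneralLinearGroup k M) : M →ₗ[k] M) - 1 = a + b := by
      rw [Units.val_mul, hxe, hye, add_mul, one_mul, mul_add, mul_one, hab]
      abel
    refine ⟨hclose _ (G.mul_mem hxG hyG) ?_ ?_ fun c => ?_, Units.ext ?_⟩
    · rw [e1]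
      intro m hm
      simp only [LinearMap.mem_ker, LinearMap.add_apply]
      rw [LinearMap.mem_ker.mp (hxk hm), LinearMap.mem_ker.mp (hyk hm), add_zero]
    · rw [e1]
      rintro _ ⟨m, rfl⟩
      rw [LinearMap.add_apply]
      exact Submodule.add_mem _ (hxr ⟨m, rfl⟩) (hyr ⟨m, rfl⟩)
    · obtain ⟨x', hx', hx'e⟩ := hxc c
      obtain ⟨y', hy', hy'e⟩ := hyc c
      refine ⟨x' * y', G.mul_mem hx' hy', ?_⟩
      rw [e1, Units.val_mul, hx'e, hy'e, add_mul, one_mul, mul_add, mul_one, smul_mul_smul_comm, hab,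
        smul_zero, add_zero, smul_add]
      abel
    · rw [Units.val_mul, Units.val_mul, hxe, hye, add_mul, add_mul, one_mul, one_mul, mul_add, mul_add, mul_one,
        mul_one, hab, hba]
      abel
  have hinv : ∀ x ∈ sameActionClass G σ ∪ {1}, x⁻¹ ∈ sameActionClass G σ ∪ {1} := by
    intro x hx
    obtain ⟨hxG, hxk, hxr, hxc⟩ := hmem x hx
    set a : M →ₗ[k] M := (x : M →ₗ[k] M) - 1 with ha
    have haa : a * a = 0 := hst a a hxk hxr
    have e0 : ((x⁻¹ : LinearMap.GeneralLinearGroup k M) : M →ₗ[k] M) = 1 - a := by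
      refine Units.inv_eq_of_mul_eq_one_right ?_
      rw [show (x : M →ₗ[k] M) = 1 + a from (add_sub_cancel _ _).symm, add_mul, one_mul, mul_sub, mul_one, haa]
      abel
    have e1 : ((x⁻¹ : LinearMap.GeneralLinearGroup k M) : M →ₗ[k] M) - 1 = -a := by rw [e0]; abel
    refine hclose _ (G.inv_mem hxG) ?_ ?_ fun c => ?_
    · rw [e1]; intro m hm
      simp only [LinearMap.mem_ker, LinearMap.neg_apply, LinearMap.mem_ker.mp (hxk hm), neg_zero]
    · rw [e1]; rintro _ ⟨m, rfl⟩
      rw [LinearMap.neg_apply]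
      exact Submodule.neg_mem _ (hxr ⟨m, rfl⟩)
    · obtain ⟨y, hy, hye⟩ := hxc (-c)
      exact ⟨y, hy, by rw [hye, e1, neg_smul, smul_neg]⟩
  let H : Subgroup (LinearMap.GeneralLinearGroup k M) :=
    { carrier := sameActionClass G σ ∪ {1}
      mul_mem' := fun hx hy => (hmul _ hx _ hy).1
      one_mem' := Or.inr rfl
      inv_mem' := fun hx => hinv _ hx }
  have hH : sameActionSubgroup G σ = H :=
    le_antisymm ((Subgroup.closure_le _).mpr fun x hx => Or.inl hx) (by
      rintro x (hx | rfl)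
      · exact Subgroup.subset_closure hx
      · exact one_mem _)
  refine ⟨by rw [hH]; rfl, ?_⟩
  rw [hH]
  exact ⟨⟨fun a b => Subtype.ext (hmul _ a.2 _ b.2).2⟩⟩

end Cfsg.Agent.Fus.QPair
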