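import Mathlib
import Cfsg.Prelude.Def_RootSubgroups

/-!
A conjugation-invariant family of subgroups of a linear group which pairwise generate unipotent
groups generates a unipotent group (Baer's maximal-intersection argument).
-/

set_option autoImplicit false

namespace Cfsg.Agent.Fus.UnipJoin

open Submodule

variable {k : Type*} [Field k] {M : Type*} [AddCommGroup M] [Module k M]

local notation "GLM" => LinearMap.GeneralLinearGroup k M
local notation "R" => (M →ₗ[k] M)

/-- The subspace spanned by the `g - 1`, `g ∈ s`. -/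
def nSpan (s : Set GLM) : Submodule k R := span k ((fun g : GLM => (g : R) - 1) '' s)

theorem sub_one_mem {s : Set GLM} {g : GLM} (hg : g ∈ s) : (g : R) - 1 ∈ nSpan s :=
  subset_span ⟨g, hg, rfl⟩

theorem nSpan_mono {s t : Set GLM} (h : s ⊆ t) : nSpan s ≤ nSpan t :=
  span_mono (Set.image_mono h)

/-- The multiplicative closure of a subspace. -/
def alg (N : Submodule k R) : Submodule k R := ⨆ i : ℕ, N ^ (i + 1)

theorem le_alg (N : Submodule k R) : N ≤ alg N := le_iSup_of_le 0 (by rw [zero_add, pow_one])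

theorem alg_mul_self (N : Submodule k R) : alg N * alg N ≤ alg N := by
  rw [alg, Submodule.iSup_mul]
  refine iSup_le fun i => ?_
  rw [Submodule.mul_iSup]
  refine iSup_le fun j => le_iSup_of_le (i + 1 + j) (le_of_eq ?_)
  rw [← pow_add]
  congr 1

theorem mul_mem_alg {N : Submodule k R} {x y : R} (hx : x ∈ alg N) (hy : y ∈ alg N) :
    x * y ∈ alg N :=
  alg_mul_self N (Submodule.mul_mem_mul hx hy)

theorem alg_pow_le (N : Submodule k R) (n : ℕ) : alg N ^ (n + 1) ≤ ⨆ j : ℕ, N ^ (n + 1 + j) := by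
  induction n with
  | zero =>
    rw [zero_add, pow_one]
    exact iSup_le fun i => le_iSup_of_le i (le_of_eq (by congr 1; omega))
  | succ n ih =>
    rw [pow_succ]
    refine (mul_le_mul' ih le_rfl).trans ?_
    rw [Submodule.iSup_mul]
    refine iSup_le fun j => ?_
    rw [alg, Submodule.mul_iSup]
    refine iSup_le fun i => le_iSup_of_le (j + i) (le_of_eq ?_)
    rw [← pow_add]
    congr 1
    omega

theorem pow_eq_bot_of_le {N : Submodule k R} {n m : ℕ} (h : N ^ n = ⊥) (hnm : n ≤ m) :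
    N ^ m = ⊥ := by
  obtain ⟨j, rfl⟩ := Nat.exists_eq_add_of_le hnm
  rw [pow_add, h, Submodule.bot_mul]

theorem alg_pow_eq_bot {N : Submodule k R} {n : ℕ} (h : N ^ n = ⊥) : alg N ^ (n + 1) = ⊥ := by
  refine le_bot_iff.1 ((alg_pow_le N n).trans (iSup_le fun j => le_of_eq ?_))
  exact pow_eq_bot_of_le h (by omega)

theorem alg_pow_succ_mul_le (N : Submodule k R) (m : ℕ) :
    alg N ^ (m + 1) * alg N ≤ alg N ^ (m + 1) := by
  rw [pow_succ, mul_assoc]
  exact mul_le_mul' le_rfl (alg_mul_self N)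

theorem inv_sub_one_mem {P : Submodule k R} (hP : ∀ x ∈ P, ∀ y ∈ P, x * y ∈ P) {n : ℕ}
    (hn : P ^ n = ⊥) {g : GLM} (hg : (g : R) - 1 ∈ P) : ((g⁻¹ : GLM) : R) - 1 ∈ P := by
  set x : R := (g : R) - 1 with hx
  set y : R := ((g⁻¹ : GLM) : R) - 1 with hy
  have hxy : y = -x - x * y := by
    have h : (g : R) * ((g⁻¹ : GLM) : R) = 1 := by rw [← Units.val_mul, mul_inv_cancel, Units.val_one]
    rw [hx, hy]
    rw [sub_mul, mul_sub, mul_sub, h, mul_one, one_mul, one_mul]
    abel
  clear_value x y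
  have key : ∀ j : ℕ, ∃ p ∈ P, ∃ q ∈ P ^ j, y = p + q * y := by
    intro j
    induction j with
    | zero => exact ⟨0, P.zero_mem, 1, by rw [pow_zero]; exact Submodule.one_le.1 le_rfl, by simp⟩
    | succ j ih =>
      obtain ⟨p, hp, q, hq, he⟩ := ih
      refine ⟨p - q * x, P.sub_mem hp ?_, -(q * x), neg_mem ?_, ?_⟩
      · rcases j with _ | j
        · rw [pow_zero] at hq
          obtain ⟨c, hc⟩ := Submodule.mem_one.1 hq
          rw [← hc, ← Algebra.smul_def]
          exact P.smul_mem c hg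
        · have : q ∈ P := by
            refine (?_ : P ^ (j + 1) ≤ P) hq
            have hPP : P * P ≤ P := Submodule.mul_le.2 hP
            clear hq
            induction j with
            | zero => rw [zero_add, pow_one]
            | succ j ih => rw [pow_succ]; exact (mul_le_mul' ih le_rfl).trans hPP
          exact hP _ this _ hg
      · rw [pow_succ]
        exact Submodule.mul_mem_mul hq hg
      · conv_lhs => rw [he, hxy]
        rw [mul_sub, mul_neg, neg_mul, mul_assoc]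
        abel
  obtain ⟨p, hp, q, hq, he⟩ := key n
  rw [hn, Submodule.mem_bot] at hq
  rw [he, hq, zero_mul, add_zero]
  exact hp

/-- The subgroup of elements congruent to one modulo a nilpotent subalgebra. -/
def congrGroup (P : Submodule k R) (hP : ∀ x ∈ P, ∀ y ∈ P, x * y ∈ P) {n : ℕ} (hn : P ^ n = ⊥) :
    Subgroup GLM where
  carrier := {g | (g : R) - 1 ∈ P}
  one_mem' := by simp
  mul_mem' {g h} hg hh := by
    show ((g * h : GLM) : R) - 1 ∈ P
    rw [Units.val_mul, show (g : R) * (h : R) - 1 =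
      ((g : R) - 1) * ((h : R) - 1) + ((g : R) - 1) + ((h : R) - 1) by
        rw [sub_mul, mul_sub, mul_one, one_mul]; abel]
    exact P.add_mem (P.add_mem (hP _ hg _ hh) hg) hh
  inv_mem' hg := inv_sub_one_mem hP hn hg

theorem unipotent_prod_eq (l : List GLM) :
    (List.map (fun g : R => g - 1) (do let a ← l; pure (a : R))) =
      l.map fun g : GLM => (g : R) - 1 := by
  rw [show (fun g : GLM => (g : R) - 1) = (fun g : R => g - 1) ∘ (fun g : GLM => (g : R)) from rfl,
    ← List.map_map]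
  congr 1
  induction l with
  | nil => rfl
  | cons a l ih =>
    rw [List.map_cons, ← ih]
    rfl

theorem isUnipotentOn_of_pow {H : Subgroup GLM} {P : Submodule k R} {n : ℕ} (hn : P ^ n = ⊥)
    (h : ∀ g ∈ H, (g : R) - 1 ∈ P) : Cfsg.IsUnipotentOn H := by
  refine ⟨n, fun l hl hlen => ?_⟩
  rw [unipotent_prod_eq]
  have : ∀ l : List GLM, (∀ g ∈ l, g ∈ H) →
      (l.map fun g : GLM => (g : R) - 1).prod ∈ P ^ l.length := by
    intro l hl
    induction l with
    | nil => simp only [List.map_nil, List.prod_nil, List.length_nil, pow_zero]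
             exact Submodule.one_le.1 le_rfl
    | cons a l ih =>
      rw [List.map_cons, List.prod_cons, List.length_cons, pow_succ']
      exact Submodule.mul_mem_mul (h a (hl a List.mem_cons_self))
        (ih fun g hg => hl g (List.mem_cons_of_mem _ hg))
  have h' := this l hl
  rw [hlen, hn, Submodule.mem_bot] at h'
  exact h'

theorem exists_pow_of_isUnipotentOn {H : Subgroup GLM} (h : Cfsg.IsUnipotentOn H) :
    ∃ n, nSpan (H : Set GLM) ^ n = ⊥ := by
  obtain ⟨n, hn⟩ := h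
  refine ⟨n, ?_⟩
  rw [nSpan, Submodule.span_pow, Submodule.span_eq_bot]
  intro x hx
  obtain ⟨f, rfl⟩ := Set.mem_pow.1 hx
  choose g hg hgf using fun i => (f i).2
  have : (List.ofFn fun i => ((f i : R))) = (List.ofFn g).map fun g : GLM => (g : R) - 1 := by
    rw [List.map_ofFn]
    exact congrArg List.ofFn (funext fun i => (hgf i).symm)
  rw [this]
  have h' := hn (List.ofFn g) (fun x hx => ?_) List.length_ofFn
  · rwa [unipotent_prod_eq] at h'
  obtain ⟨i, rfl⟩ := List.mem_ofFn.1 hx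
  exact hg i

/-- The elements of the members of a family. -/
def elems (X : Set (Subgroup GLM)) : Set GLM := {g | ∃ A ∈ X, g ∈ A}

/-- A family all of whose members act nilpotently together. -/
def IsNilFamily (X : Set (Subgroup GLM)) : Prop := ∃ n, nSpan (elems X) ^ n = ⊥

theorem elems_mono {X Y : Set (Subgroup GLM)} (h : X ⊆ Y) : elems X ⊆ elems Y :=
  fun _ ⟨A, hA, hg⟩ => ⟨A, h hA, hg⟩

theorem nSpan_le {X : Set (Subgroup GLM)} {P : Submodule k R}
    (h : ∀ A ∈ X, ∀ g ∈ A, (g : R) - 1 ∈ P) : nSpan (elems X) ≤ P := by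
  refine span_le.2 ?_
  rintro _ ⟨g, ⟨A, hA, hg⟩, rfl⟩
  exact h A hA g hg

theorem isNilFamily_of_le {X : Set (Subgroup GLM)} {P : Submodule k R} {n : ℕ} (hn : P ^ n = ⊥)
    (h : nSpan (elems X) ≤ P) : IsNilFamily X :=
  ⟨n, le_bot_iff.1 ((pow_le_pow_left' h n).trans_eq hn)⟩

/-- Adding a nilpotent family normalizing a nilpotent subspace keeps nilpotency. -/
theorem pow_sup_eq_bot {N V : Submodule k R} {n n' : ℕ} (hN : N ^ n = ⊥) (hV : V ^ n' = ⊥)
    (hcomm : V * N ≤ N * (1 ⊔ V)) : ∃ m, (N ⊔ V) ^ m = ⊥ := by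
  set T : Submodule k R := 1 ⊔ alg V with hT
  have hTT : T * T ≤ T := by
    rw [hT, Submodule.sup_mul, one_mul, Submodule.mul_sup, mul_one]
    exact sup_le le_rfl (sup_le le_sup_right ((alg_mul_self V).trans le_sup_right))
  have h1T : (1 : Submodule k R) ≤ T := le_sup_left
  have hVT : V ≤ T := (le_alg V).trans le_sup_right
  have hVN : V * N ≤ N * T := hcomm.trans (mul_le_mul' le_rfl (sup_le h1T hVT))
  have hViN : ∀ i : ℕ, V ^ i * N ≤ N * T := by
    intro i
    induction i with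
    | zero => rw [pow_zero, one_mul]; exact (mul_one N).ge.trans (mul_le_mul' le_rfl h1T)
    | succ i ih =>
      rw [pow_succ', mul_assoc]
      refine (mul_le_mul' le_rfl ih).trans ?_
      rw [← mul_assoc]
      refine (mul_le_mul' hVN le_rfl).trans ?_
      rw [mul_assoc]
      exact mul_le_mul' le_rfl hTT
  have hTN : T * N ≤ N * T := by
    rw [hT, Submodule.sup_mul, one_mul, alg, Submodule.iSup_mul]
    refine sup_le ((mul_one N).ge.trans (mul_le_mul' le_rfl h1T)) (iSup_le fun i => hViN _)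
  clear_value T
  have hTA : T * alg N ≤ alg N * T := by
    rw [alg, Submodule.mul_iSup, Submodule.iSup_mul]
    refine iSup_le fun i => le_iSup_of_le i ?_
    induction i with
    | zero => rw [zero_add, pow_one]; exact hTN
    | succ i ih =>
      rw [pow_succ, ← mul_assoc]
      refine (mul_le_mul' ih le_rfl).trans ?_
      rw [mul_assoc, mul_assoc]
      exact mul_le_mul' le_rfl hTN
  have hNA : N ≤ alg N := le_alg N
  have hAA : alg N * alg N ≤ alg N := alg_mul_self N
  have hApow := alg_pow_eq_bot hN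
  generalize alg N = A at hTA hNA hAA hApow
  have hATpow : ∀ j : ℕ, (A * T) ^ (j + 1) ≤ A ^ (j + 1) * T := by
    intro j
    induction j with
    | zero => rw [zero_add, pow_one, pow_one]
    | succ j ih =>
      rw [pow_succ, pow_succ A]
      refine (mul_le_mul' ih le_rfl).trans ?_
      rw [mul_assoc, mul_assoc, ← mul_assoc T]
      refine mul_le_mul' le_rfl ?_
      calc T * A * T ≤ A * T * T := mul_le_mul' hTA le_rfl
        _ ≤ A * T := by rw [mul_assoc]; exact mul_le_mul' le_rfl hTT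
  have hAV : A * T * V ≤ A * T := by
    rw [mul_assoc]
    exact mul_le_mul' le_rfl ((mul_le_mul' le_rfl hVT).trans hTT)
  have hATN : A * T * N ≤ A * T := by
    rw [mul_assoc]
    refine (mul_le_mul' le_rfl hTN).trans ?_
    rw [← mul_assoc]
    exact mul_le_mul' ((mul_le_mul' le_rfl hNA).trans hAA) le_rfl
  have hstep : ∀ m : ℕ, (N ⊔ V) ^ m ≤ A * T ⊔ V ^ m := by
    intro m
    induction m with
    | zero => rw [pow_zero, pow_zero]; exact le_sup_right
    | succ m ih =>
      rw [pow_succ]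
      refine (mul_le_mul' ih le_rfl).trans ?_
      rw [Submodule.sup_mul, Submodule.mul_sup, Submodule.mul_sup]
      refine sup_le (sup_le (le_sup_of_le_left hATN) (le_sup_of_le_left hAV))
        (sup_le (le_sup_of_le_left ((hViN m).trans (mul_le_mul' hNA le_rfl))) ?_)
      rw [← pow_succ]
      exact le_sup_right
  refine ⟨n' * (n + 1), le_bot_iff.1 ?_⟩
  rw [pow_mul]
  refine (pow_le_pow_left' (hstep n') _).trans ?_
  rw [hV, sup_bot_eq]
  exact (hATpow n).trans (le_of_eq (by rw [hApow, Submodule.bot_mul]))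

section Main

variable [FiniteDimensional k M] {G : Subgroup (LinearMap.GeneralLinearGroup k M)}
  {W : Set (Subgroup (LinearMap.GeneralLinearGroup k M))}

/-- A maximal nilpotent subfamily of `W`. -/
def IsMaxNil (W X : Set (Subgroup GLM)) : Prop :=
  X ⊆ W ∧ IsNilFamily X ∧ ∀ X', X' ⊆ W → IsNilFamily X' → X ⊆ X' → X' ⊆ X

theorem finrank_le_end (N : Submodule k R) : Module.finrank k N ≤ Module.finrank k R :=
  Submodule.finrank_le N

theorem mem_of_alg {X : Set (Subgroup GLM)} (hX : IsMaxNil W X) {A : Subgroup GLM} (hA : A ∈ W)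
    (h : ∀ g ∈ A, (g : R) - 1 ∈ alg (nSpan (elems X))) : A ∈ X := by
  obtain ⟨n, hn⟩ := hX.2.1
  refine hX.2.2 (insert A X) (Set.insert_subset hA hX.1) ?_ (Set.subset_insert _ _)
    (Set.mem_insert _ _)
  refine isNilFamily_of_le (alg_pow_eq_bot hn) (nSpan_le ?_)
  rintro B (rfl | hB) g hg
  · exact h g hg
  · exact le_alg _ (sub_one_mem ⟨B, hB, hg⟩)

theorem exists_maxNil {X : Set (Subgroup GLM)} (hXW : X ⊆ W) (hX : IsNilFamily X) :
    ∃ X', X ⊆ X' ∧ IsMaxNil W X' := by
  classical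
  have key : ∀ d : ℕ, ∀ X : Set (Subgroup GLM), X ⊆ W → IsNilFamily X →
      Module.finrank k R - Module.finrank k (nSpan (elems X)) = d → ∃ X', X ⊆ X' ∧ IsMaxNil W X' := by
    intro d
    induction d using Nat.strong_induction_on with
    | _ d ih =>
      intro X hXW hX hd
      by_cases h : ∃ X', X' ⊆ W ∧ IsNilFamily X' ∧ X ⊆ X' ∧
          nSpan (elems X) ≠ nSpan (elems X')
      · obtain ⟨X', h1, h2, h3, h4⟩ := h
        have hlt := Submodule.finrank_lt_finrank_of_lt
          (lt_of_le_of_ne (nSpan_mono (elems_mono h3)) h4)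
        have hle := finrank_le_end (nSpan (elems X'))
        obtain ⟨X'', h5, h6⟩ := ih _ (by omega) X' h1 h2 rfl
        exact ⟨X'', h3.trans h5, h6⟩
      · push Not at h
        obtain ⟨n, hn⟩ := hX
        refine ⟨{A | A ∈ W ∧ ∀ g ∈ A, (g : R) - 1 ∈ alg (nSpan (elems X))},
          fun A hA => ⟨hXW hA, fun g hg => le_alg _ (sub_one_mem ⟨A, hA, hg⟩)⟩,
          fun A hA => hA.1,
          isNilFamily_of_le (alg_pow_eq_bot hn) (nSpan_le fun A hA => hA.2), ?_⟩
        intro X' h1 h2 h3 A hA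
        have hsub : X ⊆ X' := fun B hB =>
          h3 ⟨hXW hB, fun g hg => le_alg _ (sub_one_mem ⟨B, hB, hg⟩)⟩
        refine ⟨h1 hA, fun g hg => le_alg _ ?_⟩
        rw [h X' h1 h2 hsub]
        exact sub_one_mem ⟨A, hA, hg⟩
  exact key _ X hXW hX rfl

theorem conj_sub_one (g b : GLM) :
    ((g * b * g⁻¹ : GLM) : R) - 1 = (g : R) * ((b : R) - 1) * ((g⁻¹ : GLM) : R) := by
  rw [Units.val_mul, Units.val_mul, mul_sub, sub_mul, mul_one, ← Units.val_mul g g⁻¹,
    mul_inv_cancel, Units.val_one]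

/-- A maximal nilpotent family is invariant under elements of `G` congruent to one. -/
theorem maxNil_conj (hWconj : ∀ A ∈ W, ∀ g ∈ G, Cfsg.conjBy A g ∈ W) {X : Set (Subgroup GLM)}
    (hX : IsMaxNil W X) {g : GLM} (hgG : g ∈ G) (hg : (g : R) - 1 ∈ alg (nSpan (elems X)))
    {A : Subgroup GLM} (hA : A ∈ X) : Cfsg.conjBy A g ∈ X := by
  refine mem_of_alg hX (hWconj A (hX.1 hA) g hgG) ?_
  rintro _ ⟨b, hb, rfl⟩
  have hb' : (b : R) - 1 ∈ alg (nSpan (elems X)) := le_alg _ (sub_one_mem ⟨A, hA, hb⟩)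
  obtain ⟨n, hn⟩ := hX.2.1
  exact (congrGroup (alg (nSpan (elems X))) (fun x hx y hy => mul_mem_alg hx hy)
    (alg_pow_eq_bot hn)).mul_mem ((congrGroup (alg (nSpan (elems X)))
      (fun x hx y hy => mul_mem_alg hx hy) (alg_pow_eq_bot hn)).mul_mem hg hb')
    ((congrGroup (alg (nSpan (elems X))) (fun x hx y hy => mul_mem_alg hx hy)
      (alg_pow_eq_bot hn)).inv_mem hg)

/-- An element normalizes a family. -/
def Normalizes (g : GLM) (Y : Set (Subgroup GLM)) : Prop := ∀ B ∈ Y, Cfsg.conjBy B g ∈ Y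

theorem normalizes_mul {g h : GLM} {Y : Set (Subgroup GLM)} (hg : Normalizes g Y)
    (hh : Normalizes h Y) : Normalizes (g * h) Y := fun B hB => by
  have := hg _ (hh B hB)
  rwa [Cfsg.conjBy, Cfsg.conjBy, Subgroup.map_map, show (MulAut.conj g).toMonoidHom.comp
    (MulAut.conj h).toMonoidHom = (MulAut.conj (g * h)).toMonoidHom from
      MonoidHom.ext fun x => by simp [mul_assoc]] at this

/-- In a maximal nilpotent family some member outside a smaller invariant part normalizes it. -/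
theorem exists_normalizing (hWG : ∀ A ∈ W, A ≤ G)
    (hWconj : ∀ A ∈ W, ∀ g ∈ G, Cfsg.conjBy A g ∈ W) {X Y : Set (Subgroup GLM)}
    (hX : IsMaxNil W X) (hYX : Y ⊆ X) (hne : ∃ A ∈ X, A ∉ Y)
    (hY : ∀ A ∈ Y, ∀ a ∈ A, Normalizes a Y) :
    ∃ A ∈ X, A ∉ Y ∧ ∀ a ∈ A, Normalizes a Y := by
  classical
  obtain ⟨n, hn⟩ := hX.2.1
  set P := alg (nSpan (elems X)) with hP
  have hPP : P * P ≤ P := alg_mul_self _
  have hPn : P ^ (n + 1) = ⊥ := alg_pow_eq_bot hn
  clear_value P
  by_cases h0 : ∀ g ∈ G, (g : R) - 1 ∈ P → Normalizes g Y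
  · obtain ⟨A, hA, hAY⟩ := hne
    exact ⟨A, hA, hAY, fun a ha => h0 a (hWG A (hX.1 hA) ha)
      (hP ▸ le_alg _ (sub_one_mem ⟨A, hA, ha⟩))⟩
  let Q : ℕ → Prop := fun i => ∀ g ∈ G, (g : R) - 1 ∈ P ^ (i + 1) → Normalizes g Y
  have hex : ∃ i, Q i := ⟨n, fun g _ hg => by
    rw [hPn, Submodule.mem_bot, sub_eq_zero, ← Units.val_one] at hg
    intro B hB
    rw [Units.ext hg, Cfsg.conjBy, map_one]
    convert hB using 1
    exact Subgroup.map_id B⟩
  have hspec := Nat.find_spec hex
  obtain ⟨i, hi⟩ : ∃ i, Nat.find hex = i + 1 := by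
    rcases h : Nat.find hex with _ | i
    · refine absurd ?_ h0
      rw [h] at hspec
      intro g hg hg'
      exact hspec g hg (by rwa [zero_add, pow_one])
    · exact ⟨i, rfl⟩
  have hnot := Nat.find_min hex (show i < Nat.find hex by omega)
  rw [hi] at hspec
  simp only [Q, Normalizes, not_forall] at hnot
  obtain ⟨g, hgG, hg, B, hB, hgB⟩ := hnot
  have hPle : ∀ j : ℕ, P ^ (j + 1) ≤ P := by
    intro j
    induction j with
    | zero => rw [zero_add, pow_one]
    | succ j ih => rw [pow_succ]; exact (mul_le_mul' ih le_rfl).trans hPP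
  refine ⟨Cfsg.conjBy B g, maxNil_conj hWconj hX hgG (hP ▸ hPle i hg) (hYX hB), hgB, ?_⟩
  rintro _ ⟨b, hb, rfl⟩
  have hbG : b ∈ G := hWG B (hX.1 (hYX hB)) hb
  have hbP : (b : R) - 1 ∈ P := hP ▸ le_alg _ (sub_one_mem ⟨B, hYX hB, hb⟩)
  have hc : Normalizes (g * b * g⁻¹ * b⁻¹) Y := by
    refine hspec _ (G.mul_mem (G.mul_mem (G.mul_mem hgG hbG) (G.inv_mem hgG)) (G.inv_mem hbG)) ?_
    have hid : ((g * b * g⁻¹ * b⁻¹ : GLM) : R) - 1 =
        (((g : R) - 1) * ((b : R) - 1) - ((b : R) - 1) * ((g : R) - 1)) *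
          (((g⁻¹ : GLM) : R) * ((b⁻¹ : GLM) : R)) := by
      rw [show ((g : R) - 1) * ((b : R) - 1) - ((b : R) - 1) * ((g : R) - 1) =
          (g : R) * b - b * g by
        simp only [sub_mul, mul_sub, mul_one, one_mul]
        abel]
      rw [← Units.val_mul, ← Units.val_mul, ← Units.val_mul, sub_mul, ← Units.val_mul,
        ← Units.val_mul, show b * g * (g⁻¹ * b⁻¹) = 1 by group, Units.val_one,
        show g * b * (g⁻¹ * b⁻¹) = g * b * g⁻¹ * b⁻¹ by group]
    rw [hid]
    have hz : ((g : R) - 1) * ((b : R) - 1) - ((b : R) - 1) * ((g : R) - 1) ∈ P ^ (i + 1 + 1) := by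
      refine sub_mem ?_ ?_
      · rw [pow_succ]; exact Submodule.mul_mem_mul hg hbP
      · rw [pow_succ']; exact Submodule.mul_mem_mul hbP hg
    have hu : (((g⁻¹ : GLM) : R) * ((b⁻¹ : GLM) : R)) - 1 ∈ P := by
      have := (congrGroup P (fun x hx y hy => hPP (Submodule.mul_mem_mul hx hy)) hPn).mul_mem
        ((congrGroup P (fun x hx y hy => hPP (Submodule.mul_mem_mul hx hy)) hPn).inv_mem
          (hPle i hg))
        ((congrGroup P (fun x hx y hy => hPP (Submodule.mul_mem_mul hx hy)) hPn).inv_mem hbP)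
      exact this
    rw [← sub_add_cancel (((g⁻¹ : GLM) : R) * ((b⁻¹ : GLM) : R)) 1, mul_add, mul_one]
    refine add_mem ?_ hz
    refine (?_ : P ^ (i + 1 + 1) * P ≤ P ^ (i + 1 + 1)) (Submodule.mul_mem_mul hz hu)
    rw [pow_succ, mul_assoc]
    exact mul_le_mul' le_rfl hPP
  have := normalizes_mul hc (hY B hB b hb)
  rwa [inv_mul_cancel_right] at this

theorem nil_union {X : Set (Subgroup GLM)} {Y : Set (Subgroup GLM)} {A A' : Subgroup GLM}
    (hX : IsNilFamily X) (hYX : Y ⊆ X) (hA : ∀ a ∈ A, Normalizes a Y)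
    (hA' : ∀ a ∈ A', Normalizes a Y) (hU : Cfsg.IsUnipotentOn (A ⊔ A')) :
    IsNilFamily (Y ∪ {A, A'}) := by
  obtain ⟨n, hn⟩ := hX
  obtain ⟨n', hn'⟩ := exists_pow_of_isUnipotentOn hU
  set N := nSpan (elems Y) with hNdef
  set V := nSpan ((A ⊔ A' : Subgroup GLM) : Set GLM) with hVdef
  have hN : N ^ n = ⊥ :=
    le_bot_iff.1 ((pow_le_pow_left' (nSpan_mono (elems_mono hYX)) n).trans_eq hn)
  have hnorm : ∀ u ∈ A ⊔ A', ∀ x ∈ N, (u : R) * x * ((u⁻¹ : GLM) : R) ∈ N := by
    intro u hu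
    have hu' : u ∈ Subgroup.closure ((A : Set GLM) ∪ A') := by
      rwa [Subgroup.closure_union, Subgroup.closure_eq, Subgroup.closure_eq]
    suffices hboth : ∀ x ∈ N,
        (u : R) * x * ((u⁻¹ : GLM) : R) ∈ N ∧ ((u⁻¹ : GLM) : R) * x * (u : R) ∈ N from
      fun x hx => (hboth x hx).1
    clear hu
    induction hu' using Subgroup.closure_induction with
    | mem a ha =>
      intro x hx
      have hboth : Normalizes a Y ∧ Normalizes a⁻¹ Y := by
        rcases ha with h | h
        · exact ⟨hA a h, hA _ (A.inv_mem h)⟩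
        · exact ⟨hA' a h, hA' _ (A'.inv_mem h)⟩
      have gen : ∀ c : GLM, Normalizes c Y → ∀ x ∈ N, (c : R) * x * ((c⁻¹ : GLM) : R) ∈ N := by
        intro c hc x hx
        refine Submodule.span_induction ?_ ?_ ?_ ?_ hx
        · rintro _ ⟨b, ⟨B, hB, hb⟩, rfl⟩
          simp only
          rw [← conj_sub_one]
          exact sub_one_mem ⟨_, hc B hB, ⟨b, hb, rfl⟩⟩
        · rw [mul_zero, zero_mul]; exact N.zero_mem
        · intro x y _ _ h1 h2
          rw [mul_add, add_mul]
          exact N.add_mem h1 h2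
        · intro r x _ h1
          rw [mul_smul_comm, smul_mul_assoc]
          exact N.smul_mem r h1
      refine ⟨gen a hboth.1 x hx, ?_⟩
      have := gen a⁻¹ hboth.2 x hx
      rwa [inv_inv] at this
    | one => intro x hx; simp [hx]
    | mul u v _ _ h1 h2 =>
      intro x hx
      refine ⟨?_, ?_⟩
      · rw [mul_inv_rev, Units.val_mul, Units.val_mul]
        have := (h1 _ (h2 x hx).1).1
        simpa [mul_assoc] using this
      · rw [mul_inv_rev, Units.val_mul, Units.val_mul]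
        have := (h2 _ (h1 x hx).2).2
        simpa [mul_assoc] using this
    | inv u _ h =>
      intro x hx
      rw [inv_inv]
      exact ⟨(h x hx).2, (h x hx).1⟩
  have hcomm : V * N ≤ N * (1 ⊔ V) := by
    refine Submodule.mul_le.2 fun v hv x hx => ?_
    refine Submodule.span_induction ?_ ?_ ?_ ?_ hv
    · rintro _ ⟨u, hu, rfl⟩
      simp only
      have hy := hnorm u hu x hx
      have huu : ((u⁻¹ : GLM) : R) * (u : R) = 1 := by
        rw [← Units.val_mul, inv_mul_cancel, Units.val_one]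
      rw [show ((u : R) - 1) * x =
        ((u : R) * x * ((u⁻¹ : GLM) : R)) * (u : R) - x * 1 by
          rw [mul_assoc _ ((u⁻¹ : GLM) : R), huu, mul_one, mul_one, sub_mul, one_mul]]
      refine sub_mem (Submodule.mul_mem_mul hy ?_) (Submodule.mul_mem_mul hx ?_)
      · rw [← sub_add_cancel (u : R) 1]
        exact add_mem (Submodule.mem_sup_right (sub_one_mem hu))
          (Submodule.mem_sup_left (Submodule.one_le.1 le_rfl))
      · exact Submodule.mem_sup_left (Submodule.one_le.1 le_rfl)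
    · rw [zero_mul]; exact Submodule.zero_mem _
    · intro a b _ _ h1 h2
      rw [add_mul]; exact add_mem h1 h2
    · intro r a _ h1
      rw [smul_mul_assoc]; exact Submodule.smul_mem _ r h1
  obtain ⟨m, hm⟩ := pow_sup_eq_bot hN hn' hcomm
  refine isNilFamily_of_le hm (nSpan_le ?_)
  rintro B (hB | rfl | rfl) g hg
  · exact Submodule.mem_sup_left (sub_one_mem ⟨B, hB, hg⟩)
  · exact Submodule.mem_sup_right (sub_one_mem (Subgroup.mem_sup_left hg))
  · exact Submodule.mem_sup_right (sub_one_mem (Subgroup.mem_sup_right hg))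

theorem isNilFamily_singleton {A : Subgroup GLM} (h : Cfsg.IsUnipotentOn A) :
    IsNilFamily ({A} : Set (Subgroup GLM)) := by
  obtain ⟨n, hn⟩ := exists_pow_of_isUnipotentOn h
  refine isNilFamily_of_le hn (nSpan_le ?_)
  rintro B rfl g hg
  exact sub_one_mem hg

theorem maxNil_unique (hWG : ∀ A ∈ W, A ≤ G)
    (hWW : ∀ A ∈ W, ∀ B ∈ W, Cfsg.IsUnipotentOn (A ⊔ B))
    (hWconj : ∀ A ∈ W, ∀ g ∈ G, Cfsg.conjBy A g ∈ W) :
    ∀ d : ℕ, ∀ X X' : Set (Subgroup GLM), IsMaxNil W X → IsMaxNil W X' →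
      Module.finrank k R - Module.finrank k (nSpan (elems (X ∩ X'))) ≤ d → X = X' := by
  intro d
  induction d with
  | zero =>
    intro X X' hX hX' hd
    have htop : nSpan (elems (X ∩ X')) = ⊤ :=
      Submodule.eq_top_of_finrank_eq (le_antisymm (finrank_le_end _) (by omega))
    refine Set.Subset.antisymm (fun A hA => mem_of_alg hX' (hX.1 hA) fun g _ => ?_)
      (fun A hA => mem_of_alg hX (hX'.1 hA) fun g _ => ?_)
    · exact le_alg _ (nSpan_mono (elems_mono Set.inter_subset_right) (htop ▸ Submodule.mem_top))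
    · exact le_alg _ (nSpan_mono (elems_mono Set.inter_subset_left) (htop ▸ Submodule.mem_top))
  | succ d ih =>
    intro X X' hX hX' hd
    by_contra hne
    have h1 : ∃ A ∈ X, A ∉ X ∩ X' := by
      by_contra! h
      exact hne (Set.Subset.antisymm (fun A hA => (h A hA).2)
        (hX.2.2 X' hX'.1 hX'.2.1 fun A hA => (h A hA).2))
    have h2 : ∃ A ∈ X', A ∉ X ∩ X' := by
      by_contra! h
      exact hne (Set.Subset.antisymm (hX'.2.2 X hX.1 hX.2.1 fun A hA => (h A hA).1)
        (fun A hA => (h A hA).1))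
    have hY : ∀ A ∈ X ∩ X', ∀ a ∈ A, Normalizes a (X ∩ X') := fun A hA a ha B hB =>
      ⟨maxNil_conj hWconj hX (hWG A (hX.1 hA.1) ha) (le_alg _ (sub_one_mem ⟨A, hA.1, ha⟩)) hB.1,
        maxNil_conj hWconj hX' (hWG A (hX.1 hA.1) ha) (le_alg _ (sub_one_mem ⟨A, hA.2, ha⟩))
          hB.2⟩
    obtain ⟨A, hAX, hAY, hAn⟩ :=
      exists_normalizing hWG hWconj hX Set.inter_subset_left h1 hY
    obtain ⟨A', hAX', hAY', hAn'⟩ :=
      exists_normalizing hWG hWconj hX' Set.inter_subset_right h2 hY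
    have hnil := nil_union hX.2.1 Set.inter_subset_left hAn hAn'
      (hWW A (hX.1 hAX) A' (hX'.1 hAX'))
    obtain ⟨X'', hsub, hX''⟩ := exists_maxNil (W := W) (by
      rintro B (hB | rfl | rfl)
      exacts [hX.1 hB.1, hX.1 hAX, hX'.1 hAX']) hnil
    have hlt : nSpan (elems (X ∩ X')) < nSpan (elems (X ∩ X'')) := by
      refine lt_of_le_of_ne (nSpan_mono (elems_mono fun B hB => ⟨hB.1, hsub (Or.inl hB)⟩))
        fun he => hAY ⟨hAX, mem_of_alg hX' (hX.1 hAX) fun g hg => le_alg _ ?_⟩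
      have hA'' : A ∈ X'' := hsub (Or.inr (Or.inl rfl))
      have hmem : (g : R) - 1 ∈ nSpan (elems (X ∩ X'')) :=
        sub_one_mem (s := elems (X ∩ X'')) ⟨A, ⟨hAX, hA''⟩, hg⟩
      rw [← he] at hmem
      exact nSpan_mono (elems_mono Set.inter_subset_right) hmem
    have hlt' := Submodule.finrank_lt_finrank_of_lt hlt
    have heq := ih X X'' hX hX'' (by omega)
    exact hAY' ⟨heq ▸ hsub (Or.inr (Or.inr rfl)), hAX'⟩

theorem isUnipotentOn_iSup (hWG : ∀ A ∈ W, A ≤ G)
    (hWW : ∀ A ∈ W, ∀ B ∈ W, Cfsg.IsUnipotentOn (A ⊔ B))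
    (hWconj : ∀ A ∈ W, ∀ g ∈ G, Cfsg.conjBy A g ∈ W) :
    Cfsg.IsUnipotentOn (⨆ A ∈ W, A) := by
  have hempty : IsNilFamily (∅ : Set (Subgroup GLM)) := by
    refine isNilFamily_of_le (P := ⊥) (n := 1) (pow_one _) (nSpan_le ?_)
    rintro A ⟨⟩
  obtain ⟨X, -, hX⟩ := exists_maxNil (W := W) (Set.empty_subset W) hempty
  have hall : W ⊆ X := fun A hA => by
    have h1 : Cfsg.IsUnipotentOn A := by simpa using hWW A hA A hA
    obtain ⟨X', hsub, hX'⟩ :=
      exists_maxNil (W := W) (Set.singleton_subset_iff.2 hA) (isNilFamily_singleton h1)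
    rw [maxNil_unique hWG hWW hWconj _ X X' hX hX' le_rfl]
    exact hsub rfl
  obtain ⟨n, hn⟩ := hX.2.1
  refine isUnipotentOn_of_pow (alg_pow_eq_bot hn) (P := alg (nSpan (elems X))) ?_
  have hle : (⨆ A ∈ W, A) ≤ congrGroup (alg (nSpan (elems X)))
      (fun x hx y hy => mul_mem_alg hx hy) (alg_pow_eq_bot hn) :=
    iSup₂_le fun A hA g hg => le_alg _ (sub_one_mem ⟨A, hall hA, hg⟩)
  exact fun g hg => hle hg

theorem conjBy_iSup_eq (hWconj : ∀ A ∈ W, ∀ g ∈ G, Cfsg.conjBy A g ∈ W) {g : GLM} (hg : g ∈ G) :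
    Cfsg.conjBy (⨆ A ∈ W, A) g = ⨆ A ∈ W, A := by
  have h : ∀ g ∈ G, Cfsg.conjBy (⨆ A ∈ W, A) g ≤ ⨆ A ∈ W, A := fun g hg => by
    rw [Cfsg.conjBy, Subgroup.map_iSup]
    refine iSup_le fun A => ?_
    rw [Subgroup.map_iSup]
    exact iSup_le fun hA => le_iSup₂_of_le _ (hWconj A hA g hg) le_rfl
  refine le_antisymm (h g hg) fun x hx => ?_
  refine ⟨g⁻¹ * x * g, h g⁻¹ (G.inv_mem hg) ⟨x, hx, ?_⟩, ?_⟩
  · simp
  · simp [mul_assoc]

end Main

end Cfsg.Agent.Fus.UnipJoin
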