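import Mathlib
import Cfsg.Agent.Lib.Fus.UnipotentJoin

/-!
Two endomorphisms of square zero: the part on which their anticommutator is nilpotent and the part on which
it is invertible.
-/

set_option autoImplicit false
set_option linter.unusedSectionVars false

namespace Cfsg.Agent.Fus.QPair

open Polynomial

variable {k : Type*} [Field k] {M : Type*} [AddCommGroup M] [Module k M]

local notation "End'" => Module.End k M

/-- The anticommutator. -/
def zz (s t : End') : End' := s * t + t * s

theorem zz_comm_left {s t : End'} (hs : s * s = 0) : zz s t * s = s * zz s t := by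
  rw [zz, add_mul, mul_add, mul_assoc t s s, hs, mul_zero, add_zero, ← mul_assoc s s t, hs, zero_mul, zero_add,
    mul_assoc]

theorem zz_symm (s t : End') : zz t s = zz s t := add_comm _ _

theorem zz_comm_right {s t : End'} (ht : t * t = 0) : zz s t * t = t * zz s t := by
  rw [← zz_symm s t]; exact zz_comm_left ht

theorem sts {s t : End'} (hs : s * s = 0) : s * t * s = zz s t * s := by
  rw [zz, add_mul, mul_assoc t s s, hs, mul_zero, add_zero]

/-- The products of many factors from the span of `s` and `t`. -/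
theorem span_pow_le {s t : End'} (hs : s * s = 0) (ht : t * t = 0) (i : ℕ) :
    Submodule.span k ({s, t} : Set End') ^ (2 * i + 1) ≤
      Submodule.span k ({zz s t ^ i * s, zz s t ^ i * t} : Set End') := by
  induction i with
  | zero => simp
  | succ i ih =>
    rw [show 2 * (i + 1) + 1 = (2 * i + 1) + 2 by omega, pow_add]
    refine (mul_le_mul' ih le_rfl).trans ?_
    rw [pow_two, Submodule.span_mul_span, Submodule.span_mul_span, Submodule.span_le]
    rintro _ ⟨x, hx, y, hy, rfl⟩
    obtain ⟨a, ha, b, hb, rfl⟩ := hy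
    show x * (a * b) ∈ Submodule.span k _
    have h1 : zz s t ^ i * s * (t * s) = zz s t ^ (i + 1) * s := by
      rw [mul_assoc, ← mul_assoc s, sts hs, pow_succ, mul_assoc]
    have h2 : zz s t ^ i * t * (s * t) = zz s t ^ (i + 1) * t := by
      rw [mul_assoc, ← mul_assoc t, sts ht, zz_symm, pow_succ, mul_assoc]
    simp only [Set.mem_insert_iff, Set.mem_singleton_iff] at hx ha hb
    rcases hx with hx | hx <;> rcases ha with ha | ha <;> rcases hb with hb | hb <;> rw [hx, ha, hb] <;>
      first
        | (rw [h1]; exact Submodule.subset_span (Set.mem_insert _ _))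
        | (rw [h2]; exact Submodule.subset_span (Set.mem_insert_of_mem _ rfl))
        | (rw [hs, mul_zero]; exact Submodule.zero_mem _)
        | (rw [ht, mul_zero]; exact Submodule.zero_mem _)
        | (rw [← mul_assoc, mul_assoc _ s s, hs, mul_zero, zero_mul]; exact Submodule.zero_mem _)
        | (rw [← mul_assoc, mul_assoc _ t t, ht, mul_zero, zero_mul]; exact Submodule.zero_mem _)

theorem span_pow_eq_bot {s t : End'} (hs : s * s = 0) (ht : t * t = 0) {n : ℕ} (hn : zz s t ^ n = 0) :
    Submodule.span k ({s, t} : Set End') ^ (2 * n + 1) = ⊥ := by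
  refine le_bot_iff.1 ((span_pow_le hs ht n).trans ?_)
  rw [hn, zero_mul, zero_mul, Submodule.span_le]
  intro x hx
  simp only [Set.mem_insert_iff, Set.mem_singleton_iff, or_self] at hx
  exact hx ▸ Submodule.zero_mem _

/-- The data of the splitting of `z`. -/
structure IsSplit (z E : End') (q : k[X]) : Prop where
  idem : E * E = E
  poly : ∃ e : k[X], E = aeval z e
  q_ne : q ≠ 0
  q_zero : q.eval 0 ≠ 0
  q_deg : ¬ IsUnit q
  q_ann : aeval z q * E = 0
  q_min : ∀ p : k[X], aeval z p * E = 0 → q ∣ p
  nil : ∃ m : ℕ, z ^ m * (1 - E) = 0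

theorem exists_split [FiniteDimensional k M] {z : End'} (hz : ¬ IsNilpotent z) :
    ∃ (E : End') (q : k[X]), IsSplit z E q := by
  have hint : IsIntegral k z := IsIntegral.of_finite k z
  obtain ⟨q, hq, hq0⟩ := exists_eq_pow_rootMultiplicity_mul_and_not_dvd (minpoly k z) (minpoly.ne_zero hint) 0
  obtain ⟨m, hm⟩ : ∃ m, m = (minpoly k z).rootMultiplicity 0 := ⟨_, rfl⟩
  rw [← hm, C_0, sub_zero] at hq
  rw [C_0, sub_zero] at hq0
  have hcop : IsCoprime (X ^ m) q := (IsCoprime.pow_left ((irreducible_X).coprime_iff_not_dvd.2 hq0))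
  obtain ⟨a, b, hab⟩ := hcop
  have hmin : aeval z (X ^ m * q) = 0 := hq ▸ minpoly.aeval k z
  have hone : aeval z (a * X ^ m) + aeval z (b * q) = 1 := by rw [← map_add, hab, map_one]
  refine ⟨aeval z (a * X ^ m), q, ?_, ⟨_, rfl⟩, ?_, ?_, ?_, ?_, ?_, m, ?_⟩
  · have h : aeval z (a * X ^ m) * aeval z (b * q) = 0 := by
      rw [← map_mul, show a * X ^ m * (b * q) = a * b * (X ^ m * q) by ring, map_mul, hmin, mul_zero]
    calc aeval z (a * X ^ m) * aeval z (a * X ^ m)
        = aeval z (a * X ^ m) * (1 - aeval z (b * q)) := by rw [← hone, add_sub_cancel_right]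
      _ = aeval z (a * X ^ m) := by rw [mul_sub, mul_one, h, sub_zero]
  · exact fun e => hq0 (e ▸ dvd_zero _)
  · exact fun e => hq0 (X_dvd_iff.2 (by rw [coeff_zero_eq_eval_zero]; exact e))
  · intro hu
    obtain ⟨u, rfl⟩ := hu
    refine hz ⟨m, ?_⟩
    have h : aeval z (X ^ m * (u : k[X]) * ((u⁻¹ : k[X]ˣ) : k[X])) = 0 := by rw [map_mul, hmin, zero_mul]
    rwa [mul_assoc, Units.mul_inv, mul_one, map_pow, aeval_X] at h
  · rw [← map_mul, show q * (a * X ^ m) = a * (X ^ m * q) by ring, map_mul, hmin, mul_zero]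
  · intro p hp
    rw [← map_mul] at hp
    have h := minpoly.dvd k z hp
    have h1 : q ∣ p * (a * X ^ m) := (Dvd.intro_left _ hq.symm).trans h
    have h2 : p = p * (a * X ^ m) + p * (b * q) := by rw [← mul_add, hab, mul_one]
    rw [h2]
    exact dvd_add h1 ⟨p * b, by ring⟩
  · rw [← hone, add_sub_cancel_left]
    calc z ^ m * aeval z (b * q) = aeval z (X ^ m * (b * q)) := by rw [map_mul _ (X ^ m), map_pow, aeval_X]
      _ = 0 := by rw [show X ^ m * (b * q) = b * (X ^ m * q) by ring, map_mul, hmin, mul_zero]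

end Cfsg.Agent.Fus.QPair
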