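import Mathlib
import Cfsg.Agent.Lib.Fus.QuadPairSplit
import Cfsg.Agent.Lib.Fus.RingSLBasic

/-!
The action of `SL(2, k[X]/(q))` attached to two endomorphisms of square zero.
-/

set_option autoImplicit false
set_option linter.unusedSectionVars false

namespace Cfsg.Agent.Fus.QPair

open Polynomial Cfsg.Agent.Fus.RingSL

universe u v

variable {k : Type u} [Field k] {M : Type v} [AddCommGroup M] [Module k M]

local notation "End'" => Module.End k M

variable {s t E : Module.End k M} {q : k[X]}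

/-- A representative polynomial. -/
noncomputable def rep (x : AdjoinRoot q) : k[X] := Function.surjInv (AdjoinRoot.mk_surjective (g := q)) x

theorem mk_rep (x : AdjoinRoot q) : AdjoinRoot.mk q (rep x) = x :=
  Function.surjInv_eq (AdjoinRoot.mk_surjective (g := q)) x

/-- The embedding of `k[X]/(q)`. -/
noncomputable def emb (z E : End') (x : AdjoinRoot q) : End' := aeval z (rep x) * E

theorem E_comm {z : End'} (h : IsSplit z E q) {a : End'} (ha : Commute z a) : Commute E a := by
  obtain ⟨e, rfl⟩ := h.poly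
  exact (Algebra.commute_of_mem_adjoin_singleton_of_commute (aeval_mem_adjoin_singleton k z) ha.symm).symm

theorem aeval_comm {z a : End'} (ha : Commute z a) (p : k[X]) : Commute (aeval z p) a :=
  (Algebra.commute_of_mem_adjoin_singleton_of_commute (aeval_mem_adjoin_singleton k z) ha.symm).symm

theorem emb_mk {z : End'} (h : IsSplit z E q) (p : k[X]) : emb z E (AdjoinRoot.mk q p) = aeval z p * E := by
  obtain ⟨r, hr⟩ := AdjoinRoot.mk_eq_mk.1 (mk_rep (AdjoinRoot.mk q p))
  rw [emb, sub_eq_iff_eq_add.1 hr, map_add, add_mul, map_mul, (Commute.all q r).map (aeval z) |>.eq,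
    mul_assoc, h.q_ann, mul_zero, zero_add]

theorem emb_comm {z a : End'} (h : IsSplit z E q) (ha : Commute z a) (x : AdjoinRoot q) :
    Commute (emb z E x) a :=
  (aeval_comm ha _).mul_left (E_comm h ha)

theorem emb_one {z : End'} (h : IsSplit z E q) : emb z E (1 : AdjoinRoot q) = E := by
  rw [← map_one (AdjoinRoot.mk q), emb_mk h, map_one, one_mul]

theorem emb_zero {z : End'} (h : IsSplit z E q) : emb z E (0 : AdjoinRoot q) = 0 := by
  rw [← map_zero (AdjoinRoot.mk q), emb_mk h, map_zero, zero_mul]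

theorem emb_add {z : End'} (h : IsSplit z E q) (x y : AdjoinRoot q) :
    emb z E (x + y) = emb z E x + emb z E y := by
  obtain ⟨a, rfl⟩ := AdjoinRoot.mk_surjective x
  obtain ⟨b, rfl⟩ := AdjoinRoot.mk_surjective y
  rw [← map_add, emb_mk h, emb_mk h, emb_mk h, map_add, add_mul]

theorem emb_mul {z : End'} (h : IsSplit z E q) (x y : AdjoinRoot q) :
    emb z E (x * y) = emb z E x * emb z E y := by
  obtain ⟨a, rfl⟩ := AdjoinRoot.mk_surjective x
  obtain ⟨b, rfl⟩ := AdjoinRoot.mk_surjective y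
  rw [← map_mul, emb_mk h, emb_mk h, emb_mk h, map_mul, mul_assoc (aeval z a) E,
    ← mul_assoc E, (E_comm h ((aeval_comm (Commute.refl z) b).symm)).eq, mul_assoc (aeval z b) E, h.idem, mul_assoc]

theorem emb_algebraMap {z : End'} (h : IsSplit z E q) (c : k) :
    emb z E (algebraMap k (AdjoinRoot q) c) = c • E := by
  rw [AdjoinRoot.algebraMap_eq, ← AdjoinRoot.mk_C, emb_mk h, aeval_C, ← Algebra.smul_def]

theorem emb_root {z : End'} (h : IsSplit z E q) : emb z E (AdjoinRoot.root q) = z * E := by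
  rw [← AdjoinRoot.mk_X, emb_mk h, aeval_X]

theorem emb_injective {z : End'} (h : IsSplit z E q) {x : AdjoinRoot q} (hx : emb z E x = 0) : x = 0 := by
  rw [← mk_rep x, AdjoinRoot.mk_eq_zero]
  exact h.q_min _ hx

theorem emb_E {z : End'} (h : IsSplit z E q) (x : AdjoinRoot q) : emb z E x * E = emb z E x := by
  rw [emb, mul_assoc, h.idem]

theorem E_emb {z : End'} (h : IsSplit z E q) (x : AdjoinRoot q) : E * emb z E x = emb z E x := by
  rw [← (emb_comm h (E_comm h (Commute.refl z)).symm x).eq, emb_E h]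

theorem isUnit_root {z : End'} (h : IsSplit z E q) : IsUnit (AdjoinRoot.root q) := by
  have h0 : AdjoinRoot.root q * AdjoinRoot.mk q q.divX + AdjoinRoot.mk q (C (q.coeff 0)) = 0 := by
    rw [← AdjoinRoot.mk_X, ← map_mul, ← map_add, X_mul_divX_add, AdjoinRoot.mk_self]
  have hc : q.coeff 0 ≠ 0 := by rw [coeff_zero_eq_eval_zero]; exact h.q_zero
  refine IsUnit.of_mul_eq_one (-(AdjoinRoot.mk q q.divX * AdjoinRoot.mk q (C (q.coeff 0)⁻¹))) ?_
  rw [mul_neg, ← mul_assoc, eq_neg_of_add_eq_zero_left h0, neg_mul, neg_neg, ← map_mul, ← map_mul,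
    mul_inv_cancel₀ hc, map_one, map_one]

/-- The class of `X` as a unit. -/
noncomputable def zUnit {z : End'} (h : IsSplit z E q) : (AdjoinRoot q)ˣ := (isUnit_root h).unit

theorem coe_zUnit {z : End'} (h : IsSplit z E q) : (zUnit h : AdjoinRoot q) = AdjoinRoot.root q :=
  IsUnit.unit_spec _

/-- The matrix units. -/
noncomputable def mu (s t : End') {E : End'} (h : IsSplit (zz s t) E q) : Fin 2 → Fin 2 → End' :=
  ![![emb (zz s t) E ((zUnit h)⁻¹ : (AdjoinRoot q)ˣ).val * (s * t), E * s],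
    ![emb (zz s t) E ((zUnit h)⁻¹ : (AdjoinRoot q)ˣ).val * t,
      emb (zz s t) E ((zUnit h)⁻¹ : (AdjoinRoot q)ˣ).val * (t * s)]]

variable (hs : s * s = 0) (ht : t * t = 0) (h : IsSplit (zz s t) E q)

include hs ht

theorem z_comm_mu (i l : Fin 2) : Commute (zz s t) (mu s t h i l) := by
  have h1 : Commute (zz s t) s := zz_comm_left hs
  have h2 : Commute (zz s t) t := zz_comm_right ht
  have he : Commute (zz s t) E := (E_comm h (Commute.refl _)).symm
  have hi : Commute (zz s t) (emb (zz s t) E ((zUnit h)⁻¹ : (AdjoinRoot q)ˣ).val) :=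
    (emb_comm h (Commute.refl _) _).symm
  fin_cases i <;> fin_cases l <;> simp [mu]
  · exact hi.mul_right (h1.mul_right h2)
  · exact he.mul_right h1
  · exact hi.mul_right h2
  · exact hi.mul_right (h2.mul_right h1)

theorem emb_inv_root : emb (zz s t) E ((zUnit h)⁻¹ : (AdjoinRoot q)ˣ).val * zz s t = E := by
  have e : emb (zz s t) E (((zUnit h)⁻¹ : (AdjoinRoot q)ˣ).val * AdjoinRoot.root q) = E := by
    rw [← coe_zUnit h, Units.inv_mul, emb_one h]
  rw [emb_mul h, emb_root h, ← (E_comm h (Commute.refl _)).eq, ← mul_assoc, emb_E h] at e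
  exact e

theorem mu_mul (i l m n : Fin 2) : mu s t h i l * mu s t h m n = if l = m then mu s t h i n else 0 := by
  obtain ⟨W, hW⟩ : ∃ W, W = emb (zz s t) E ((zUnit h)⁻¹ : (AdjoinRoot q)ˣ).val := ⟨_, rfl⟩
  have hz := emb_inv_root hs ht h
  rw [← hW] at hz
  have hWs : W * s = s * W := hW ▸ (emb_comm h (zz_comm_left hs) _).eq
  have hWt : W * t = t * W := hW ▸ (emb_comm h (zz_comm_right ht) _).eq
  have hEs : E * s = s * E := (E_comm h (zz_comm_left hs)).eq
  have hEt : E * t = t * E := (E_comm h (zz_comm_right ht)).eq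
  have hWE : W * E = W := hW ▸ emb_E h _
  have hEW : E * W = W := hW ▸ E_emb h _
  have hsts : s * t * s = zz s t * s := sts hs
  have htst : t * s * t = zz s t * t := by rw [← zz_symm]; exact sts ht
  have hWst : s * t * W = W * (s * t) := by rw [mul_assoc, ← hWt, ← mul_assoc, ← hWs, mul_assoc]
  have hWts : t * s * W = W * (t * s) := by rw [mul_assoc, ← hWs, ← mul_assoc, ← hWt, mul_assoc]
  have hst0 : s * t * (t * s) = 0 := by rw [mul_assoc, ← mul_assoc t t, ht, zero_mul, mul_zero]
  have hts0 : t * s * (s * t) = 0 := by rw [mul_assoc, ← mul_assoc s s, hs, zero_mul, mul_zero]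
  have hstt : s * t * t = 0 := by rw [mul_assoc, ht, mul_zero]
  have htss : t * s * s = 0 := by rw [mul_assoc, hs, mul_zero]
  have hsst : s * (s * t) = 0 := by rw [← mul_assoc, hs, zero_mul]
  have htts : t * (t * s) = 0 := by rw [← mul_assoc, ht, zero_mul]
  -- one product for each pair
  have key : ∀ a b : End', ∀ X, a * b = X → a * W = W * a → W * a * (W * b) = W * (W * X) := fun a b X e c => by
    rw [mul_assoc, ← mul_assoc a, c, mul_assoc W a, e]
  have keyE : ∀ a b : End', ∀ X, a * b = X → a * E = E * a → W * a * (E * b) = W * X := fun a b X e c => by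
    rw [mul_assoc, ← mul_assoc a, c, ← mul_assoc, ← mul_assoc, hWE, mul_assoc, e]
  have keyE' : ∀ a b : End', ∀ X, a * b = X → a * W = W * a → E * a * (W * b) = W * X := fun a b X e c => by
    rw [mul_assoc, ← mul_assoc a, c, ← mul_assoc, ← mul_assoc, hEW, mul_assoc, e]
  have hWz : ∀ x, W * (zz s t * x) = E * x := fun x => by rw [← mul_assoc, hz]
  have cst : s * t * E = E * (s * t) := by rw [mul_assoc, ← hEt, ← mul_assoc, ← hEs, mul_assoc]
  have cts : t * s * E = E * (t * s) := by rw [mul_assoc, ← hEs, ← mul_assoc, ← hEt, mul_assoc]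
  have hWEx : ∀ x, W * (E * x) = W * x := fun x => by rw [← mul_assoc, hWE]
  have hss : s * t * (s * t) = zz s t * (s * t) := by rw [← mul_assoc, hsts, mul_assoc]
  have htt : t * s * (t * s) = zz s t * (t * s) := by rw [← mul_assoc, htst, mul_assoc]
  fin_cases i <;> fin_cases l <;> fin_cases m <;> fin_cases n <;> simp [mu, ← hW]
  · rw [key _ _ _ hss hWst, hWz, hWEx]
  · rw [keyE _ _ _ hsts cst, hWz]
  · rw [key _ _ _ hstt hWst, mul_zero, mul_zero]
  · rw [key _ _ _ hst0 hWst, mul_zero, mul_zero]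
  · rw [keyE' _ _ _ hsst hWs.symm, mul_zero]
  · rw [mul_assoc, ← mul_assoc s, ← hEs, mul_assoc, hs, mul_zero, mul_zero]
  · rw [keyE' _ _ _ rfl hWs.symm]
  · rw [keyE' _ _ _ (show s * (t * s) = zz s t * s by rw [← mul_assoc, hsts]) hWs.symm, hWz]
  · rw [key _ _ _ (show t * (s * t) = zz s t * t by rw [← mul_assoc, htst]) hWt.symm, hWz, hWEx]
  · rw [keyE _ _ _ rfl hEt.symm]
  · rw [key _ _ _ ht hWt.symm, mul_zero, mul_zero]
  · rw [key _ _ _ htts hWt.symm, mul_zero, mul_zero]
  · rw [key _ _ _ hts0 hWts, mul_zero, mul_zero]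
  · rw [keyE _ _ _ htss cts, mul_zero]
  · rw [key _ _ _ htst hWts, hWz, hWEx]
  · rw [key _ _ _ htt hWts, hWz, hWEx]

theorem mu_sum : mu s t h 0 0 + mu s t h 1 1 = E := by
  simp only [mu, Matrix.cons_val_zero, Matrix.cons_val_one, Matrix.cons_val_fin_one, ← mul_add]
  exact emb_inv_root hs ht h

theorem E_mu (i l : Fin 2) : E * mu s t h i l = mu s t h i l := by
  fin_cases i <;> fin_cases l <;> simp [mu, ← mul_assoc, E_emb h, h.idem]

theorem mu_E (i l : Fin 2) : mu s t h i l * E = mu s t h i l := by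
  rw [← (E_comm h (z_comm_mu hs ht h i l)).eq, E_mu hs ht h]

end Cfsg.Agent.Fus.QPair
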