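import Mathlib
import Cfsg.Agent.Lib.Fus.QuadPairModel
import Cfsg.Agent.Lib.Fus.RingSLGen

/-!
The group generated by two scalar families contains the whole image of `SL(2, k[X]/(q))`.
-/

set_option autoImplicit false
set_option linter.unusedSectionVars false

namespace Cfsg.Agent.Fus.QPair

open Polynomial Cfsg.Agent.Fus.RingSL

universe u v

variable {k : Type u} [Field k] {M : Type v} [AddCommGroup M] [Module k M]

local notation "End'" => Module.End k M
local notation "GLM" => LinearMap.GeneralLinearGroup k M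

variable {s t E : Module.End k M} {q : k[X]}

set_option quotPrecheck false in
local notation "SL₂" => Matrix.SpecialLinearGroup (Fin 2) (AdjoinRoot q)

/-- The linear map of a matrix. -/
noncomputable def phiFun (s t : End') {E : End'} (h : IsSplit (zz s t) E q)
    (X : Matrix (Fin 2) (Fin 2) (AdjoinRoot q)) : End' :=
  (1 - E) + ∑ i : Fin 2, ∑ l : Fin 2, emb (zz s t) E (X i l) * mu s t h i l

variable (hs : s * s = 0) (ht : t * t = 0) (h : IsSplit (zz s t) E q)

include hs ht h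

theorem phi_one : phiFun s t h 1 = 1 := by
  simp only [phiFun, Fin.sum_univ_two, Matrix.one_apply_eq,
    Matrix.one_apply_ne (show (0 : Fin 2) ≠ 1 by decide), Matrix.one_apply_ne (show (1 : Fin 2) ≠ 0 by decide),
    emb_one h, emb_zero h, zero_mul, add_zero, zero_add, E_mu hs ht h, mu_sum hs ht h]
  exact sub_add_cancel 1 E

theorem term_mul (a b : AdjoinRoot q) (i l m n : Fin 2) :
    emb (zz s t) E a * mu s t h i l * (emb (zz s t) E b * mu s t h m n) =
      if l = m then emb (zz s t) E (a * b) * mu s t h i n else 0 := by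
  rw [mul_assoc, ← mul_assoc (mu s t h i l), ← (emb_comm h (z_comm_mu hs ht h i l) b).eq,
    mul_assoc (emb (zz s t) E b), mu_mul hs ht h, ← mul_assoc, ← emb_mul h]
  split <;> simp

set_option maxHeartbeats 1000000 in
theorem phi_mul (X Y : Matrix (Fin 2) (Fin 2) (AdjoinRoot q)) :
    phiFun s t h (X * Y) = phiFun s t h X * phiFun s t h Y := by
  have h0 : ∀ (a : AdjoinRoot q) (i l : Fin 2),
      (1 - E) * (emb (zz s t) E a * mu s t h i l) = 0 ∧ emb (zz s t) E a * mu s t h i l * (1 - E) = 0 :=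
    fun a i l => ⟨by rw [← mul_assoc, sub_mul, one_mul, E_emb h, sub_self, zero_mul],
      by rw [mul_assoc, mul_sub, mul_one, mu_E hs ht h, sub_self, mul_zero]⟩
  have hE : (1 - E) * (1 - E) = 1 - E := by
    rw [mul_sub, mul_one, sub_mul, one_mul, h.idem, sub_self, sub_zero]
  simp only [phiFun, Fin.sum_univ_two, Matrix.mul_apply, emb_add h, add_mul, mul_add, hE,
    (h0 _ _ _).1, (h0 _ _ _).2, term_mul hs ht h]
  simp
  abel

/-- The homomorphism. -/
noncomputable def phi : SL₂ →* GLM :=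
  MonoidHom.toHomUnits
    { toFun := fun g => phiFun s t h g.1
      map_one' := phi_one hs ht h
      map_mul' := fun g g' => phi_mul hs ht h g.1 g'.1 }

theorem coe_phi (g : SL₂) : ((phi hs ht h g : GLM) : End') = phiFun s t h g.1 := rfl

theorem phi_up (c : AdjoinRoot q) :
    ((phi hs ht h (up c) : GLM) : End') = 1 + emb (zz s t) E c * s := by
  rw [coe_phi, coe_up, phiFun]
  simp only [Fin.sum_univ_two, Matrix.cons_val', Matrix.cons_val_zero, Matrix.cons_val_one, Matrix.of_apply,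
    Matrix.cons_val_fin_one, emb_one h, emb_zero h, zero_mul, zero_add, E_mu hs ht h]
  rw [show mu s t h 0 1 = E * s from rfl, ← mul_assoc, emb_E h,
    show mu s t h 0 0 + emb (zz s t) E c * s + mu s t h 1 1 =
      (mu s t h 0 0 + mu s t h 1 1) + emb (zz s t) E c * s by abel, mu_sum hs ht h, ← add_assoc, sub_add_cancel]

theorem phi_low (c : AdjoinRoot q) :
    ((phi hs ht h (low (c * (zUnit h : AdjoinRoot q))) : GLM) : End') = 1 + emb (zz s t) E c * t := by
  rw [coe_phi, coe_low, phiFun]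
  simp only [Fin.sum_univ_two, Matrix.cons_val', Matrix.cons_val_zero, Matrix.cons_val_one, Matrix.of_apply,
    Matrix.cons_val_fin_one, emb_one h, emb_zero h, zero_mul, add_zero, E_mu hs ht h]
  rw [show mu s t h 1 0 = emb (zz s t) E ((zUnit h)⁻¹ : (AdjoinRoot q)ˣ).val * t from rfl, ← mul_assoc,
    ← emb_mul h, mul_assoc c, Units.mul_inv, mul_one,
    show mu s t h 0 0 + (emb (zz s t) E c * t + mu s t h 1 1) =
      (mu s t h 0 0 + mu s t h 1 1) + emb (zz s t) E c * t by abel, mu_sum hs ht h, ← add_assoc, sub_add_cancel]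

/-- The nilpotent span on the complement. -/
noncomputable def nilSpan (s t E : End') : Submodule k End' :=
  Cfsg.Agent.Fus.UnipJoin.alg (Submodule.span k ({(1 - E) * s, (1 - E) * t} : Set End'))

theorem nilSpan_pow : ∃ n, nilSpan s t E ^ (n + 1) = ⊥ := by
  have cs : Commute (1 - E) s := (Commute.one_left _).sub_left (E_comm h (zz_comm_left hs))
  have ct : Commute (1 - E) t := (Commute.one_left _).sub_left (E_comm h (zz_comm_right ht))
  have hE : (1 - E) * (1 - E) = 1 - E := by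
    rw [mul_sub, mul_one, sub_mul, one_mul, h.idem, sub_self, sub_zero]
  have hprod : ∀ a b : End', Commute (1 - E) a → (1 - E) * a * ((1 - E) * b) = (1 - E) * (a * b) := fun a b c => by
    rw [mul_assoc, ← mul_assoc a, ← c.eq, ← mul_assoc, ← mul_assoc, hE, mul_assoc]
  obtain ⟨m, hm⟩ := h.nil
  refine ⟨2 * (m + 1) + 1, UnipJoin.alg_pow_eq_bot (span_pow_eq_bot ?_ ?_ (n := m + 1) ?_)⟩
  · rw [hprod _ _ cs, hs, mul_zero]
  · rw [hprod _ _ ct, ht, mul_zero]
  · have hz : zz ((1 - E) * s) ((1 - E) * t) = (1 - E) * zz s t := by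
      rw [zz, zz, hprod _ _ cs, hprod _ _ ct, mul_add]
    have cz : Commute (1 - E) (zz s t) := (cs.mul_right ct).add_right (ct.mul_right cs)
    have hpow : ∀ n : ℕ, ((1 - E) * zz s t) ^ (n + 1) = zz s t ^ (n + 1) * (1 - E) := by
      intro n
      induction n with
      | zero => rw [zero_add, pow_one, pow_one, cz.eq]
      | succ n ih => rw [pow_succ, ih, mul_assoc, ← mul_assoc (1 - E), hE, cz.eq, ← mul_assoc, ← pow_succ]
    rw [hz, hpow, pow_succ', mul_assoc, hm, mul_zero]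

omit hs ht h in
theorem nilSpan_mul {a b : End'} (ha : a ∈ nilSpan s t E) (hb : b ∈ nilSpan s t E) : a * b ∈ nilSpan s t E :=
  UnipJoin.mul_mem_alg ha hb

theorem nilSpan_mul_E {a : End'} (ha : a ∈ nilSpan s t E) : E * a = 0 ∧ a * E = 0 := by
  let K : Submodule k End' :=
    { carrier := {a | E * a = 0 ∧ a * E = 0}
      add_mem' := fun {a b} ha hb => ⟨by rw [mul_add, ha.1, hb.1, add_zero], by rw [add_mul, ha.2, hb.2, add_zero]⟩
      zero_mem' := ⟨mul_zero _, zero_mul _⟩
      smul_mem' := fun c a ha => ⟨by rw [mul_smul_comm, ha.1, smul_zero], by rw [smul_mul_assoc, ha.2, smul_zero]⟩ }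
  have hK : nilSpan s t E ≤ K := by
    have hspan : Submodule.span k ({(1 - E) * s, (1 - E) * t} : Set End') ≤ K := by
      rw [Submodule.span_le]
      have hb : ∀ a : End', Commute E a → (1 - E) * a ∈ K := fun a c => ⟨by
          rw [← mul_assoc, mul_sub, mul_one, h.idem, sub_self, zero_mul], by
          rw [mul_assoc, ← c.eq, ← mul_assoc, sub_mul, one_mul, h.idem, sub_self, zero_mul]⟩
      rintro x (rfl | rfl)
      · exact hb s (E_comm h (zz_comm_left hs))
      · exact hb t (E_comm h (zz_comm_right ht))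
    rw [nilSpan, UnipJoin.alg]
    refine iSup_le fun i => ?_
    induction i with
    | zero => rw [zero_add, pow_one]; exact hspan
    | succ i ih =>
      rw [pow_succ]
      refine Submodule.mul_le.2 fun a ha b hb => ⟨?_, ?_⟩
      · rw [← mul_assoc, (ih ha).1, zero_mul]
      · rw [mul_assoc, (hspan hb).2, mul_zero]
  exact hK ha

/-- Pairs: the part on the complement, and the matrix. -/
noncomputable def pairs : Subgroup (GLM × SL₂) :=
  Subgroup.closure
    ({p | ∃ c : k, (p.1 : End') = 1 + c • ((1 - E) * s) ∧ p.2 = up (algebraMap k (AdjoinRoot q) c)} ∪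
      {p | ∃ c : k, (p.1 : End') = 1 + c • ((1 - E) * t) ∧
        p.2 = low (algebraMap k (AdjoinRoot q) c * (zUnit h : AdjoinRoot q))})

theorem pairs_congr {p : GLM × SL₂} (hp : p ∈ pairs h) : (p.1 : End') - 1 ∈ nilSpan s t E := by
  obtain ⟨n, hn⟩ := nilSpan_pow hs ht h
  have hle : pairs h ≤ (UnipJoin.congrGroup (nilSpan s t E) (fun x hx y hy => nilSpan_mul hx hy) hn).comap
      (MonoidHom.fst GLM SL₂) := by
    rw [pairs, Subgroup.closure_le]
    rintro p (⟨c, hc, -⟩ | ⟨c, hc, -⟩) <;>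
      (show (p.1 : End') - 1 ∈ nilSpan s t E; rw [hc, add_sub_cancel_left])
    · exact Submodule.smul_mem _ _ (UnipJoin.le_alg _ (Submodule.subset_span (Set.mem_insert _ _)))
    · exact Submodule.smul_mem _ _ (UnipJoin.le_alg _ (Submodule.subset_span (Set.mem_insert_of_mem _ rfl)))
  exact hle hp

theorem pairs_mul_phi {p : GLM × SL₂} (hp : p ∈ pairs h) (g : SL₂) : Commute p.1 (phi hs ht h g) := by
  refine Units.ext ?_
  rw [Units.val_mul, Units.val_mul, coe_phi, phiFun]
  obtain ⟨h1, h2⟩ := nilSpan_mul_E hs ht h (pairs_congr hs ht h hp)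
  obtain ⟨a, ha⟩ : ∃ a, a = (p.1 : End') - 1 := ⟨_, rfl⟩
  rw [show (p.1 : End') = 1 + a by rw [ha, add_sub_cancel]]
  rw [← ha] at h1 h2
  have hterm : ∀ (x : AdjoinRoot q) (i l : Fin 2), a * (emb (zz s t) E x * mu s t h i l) = 0 ∧
      emb (zz s t) E x * mu s t h i l * a = 0 := fun x i l =>
    ⟨by rw [← E_emb h, ← mul_assoc, ← mul_assoc, h2, zero_mul, zero_mul],
      by rw [mul_assoc, ← mu_E hs ht h, mul_assoc, h1, mul_zero, mul_zero]⟩
  simp only [Fin.sum_univ_two, add_mul, mul_add, one_mul, mul_one, (hterm _ _ _).1, (hterm _ _ _).2, sub_mul,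
    mul_sub, h1, h2]
  abel

/-- The group generated by the two families. -/
def famGroup (s t : End') : Subgroup GLM :=
  Subgroup.closure {g : GLM | ∃ c : k, (g : End') = 1 + c • s ∨ (g : End') = 1 + c • t}

theorem pairs_prod_mem {p : GLM × SL₂} (hp : p ∈ pairs h) : p.1 * phi hs ht h p.2 ∈ famGroup s t := by
  have hp' := hp
  induction hp using Subgroup.closure_induction with
  | mem p hp0 =>
    refine Subgroup.subset_closure ?_
    obtain ⟨c, hc, hg⟩ | ⟨c, hc, hg⟩ := hp0 <;> refine ⟨c, ?_⟩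
    · refine Or.inl ?_
      rw [Units.val_mul, hc, hg, phi_up hs ht h, emb_algebraMap h]
      simp only [add_mul, mul_add, one_mul, mul_one, smul_mul_assoc, mul_smul_comm, smul_smul]
      rw [mul_assoc (1 - E) s,
        show s * (E * s) = 0 by rw [← mul_assoc, ← (E_comm h (zz_comm_left hs)).eq, mul_assoc, hs, mul_zero],
        mul_zero]
      simp only [sub_mul, one_mul, smul_zero, sub_self, add_zero, smul_sub]
      abel
    · refine Or.inr ?_
      rw [Units.val_mul, hc, hg, phi_low hs ht h, emb_algebraMap h]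
      simp only [add_mul, mul_add, one_mul, mul_one, smul_mul_assoc, mul_smul_comm, smul_smul]
      rw [mul_assoc (1 - E) t,
        show t * (E * t) = 0 by rw [← mul_assoc, ← (E_comm h (zz_comm_right ht)).eq, mul_assoc, ht, mul_zero],
        mul_zero]
      simp only [sub_mul, one_mul, smul_zero, sub_self, add_zero, smul_sub]
      abel
  | one => simp
  | mul a b ha hb iha ihb =>
    have e : (a * b).1 * phi hs ht h (a * b).2 = a.1 * phi hs ht h a.2 * (b.1 * phi hs ht h b.2) := by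
      rw [Prod.fst_mul, Prod.snd_mul, map_mul, mul_assoc, mul_assoc, ← mul_assoc b.1,
        (pairs_mul_phi hs ht h hb a.2).eq, mul_assoc]
    rw [e]; exact mul_mem (iha ha) (ihb hb)
  | inv a ha iha =>
    have e : a⁻¹.1 * phi hs ht h a⁻¹.2 = (a.1 * phi hs ht h a.2)⁻¹ := by
      rw [Prod.fst_inv, Prod.snd_inv, map_inv, mul_inv_rev, ((pairs_mul_phi hs ht h ha a.2).inv_inv).eq]
    rw [e]; exact inv_mem (iha ha)

variable [FiniteDimensional k M]

theorem fin_adjoinRoot : FiniteDimensional k (AdjoinRoot q) := (AdjoinRoot.powerBasis h.q_ne).finite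

theorem pairs_snd (hk2 : ringChar k ≠ 2) (hk3 : Nat.card k ≠ 3) (a : AdjoinRoot q) :
    (∃ p ∈ pairs h, p.2 = up a) ∧ (∃ p ∈ pairs h, p.2 = low a) := by
  have := fin_adjoinRoot hs ht h
  have hgen : Algebra.adjoin k {(zUnit h : AdjoinRoot q)} = ⊤ := by
    rw [coe_zUnit h, AdjoinRoot.adjoinRoot_eq_top]
  obtain ⟨hu, hl⟩ := RingSL.mem_adjR hk2 hk3 _ (AdjoinRoot q) rfl (zUnit h) hgen a
  have hle : adjR k (zUnit h) ≤ (pairs h).map (MonoidHom.snd GLM SL₂) := by
    rw [adjR, Subgroup.closure_le]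
    have hun : ∀ (w : End') (c : k), ((1 - E) * w) * ((1 - E) * w) = 0 →
        ∃ u : GLM, (u : End') = 1 + c • ((1 - E) * w) := fun w c hw =>
      ⟨⟨1 + c • ((1 - E) * w), 1 + (-c) • ((1 - E) * w), by
        simp only [add_mul, mul_add, one_mul, mul_one, smul_mul_assoc, mul_smul_comm, hw, smul_zero, add_zero]
        rw [neg_smul]; abel, by
        simp only [add_mul, mul_add, one_mul, mul_one, smul_mul_assoc, mul_smul_comm, hw, smul_zero, add_zero]
        rw [neg_smul]; abel⟩, rfl⟩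
    have hsq : ∀ w : End', w * w = 0 → Commute E w → ((1 - E) * w) * ((1 - E) * w) = 0 := fun w hw c => by
      have c' : Commute (1 - E) w := (Commute.one_left _).sub_left c
      rw [mul_assoc, ← mul_assoc w, ← c'.eq, mul_assoc (1 - E) w, hw, mul_zero, mul_zero]
    rintro g (⟨c, rfl⟩ | ⟨c, rfl⟩)
    · obtain ⟨u, hu⟩ := hun s c (hsq s hs (E_comm h (zz_comm_left hs)))
      exact ⟨(u, _), Subgroup.subset_closure (Or.inl ⟨c, hu, rfl⟩), rfl⟩
    · obtain ⟨u, hu⟩ := hun t c (hsq t ht (E_comm h (zz_comm_right ht)))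
      exact ⟨(u, _), Subgroup.subset_closure (Or.inr ⟨c, hu, rfl⟩), rfl⟩
  exact ⟨hle hu, hle hl⟩

theorem pairs_deep (hk2 : ringChar k ≠ 2) (hk3 : Nat.card k ≠ 3) (n : ℕ) : ∀ a : AdjoinRoot q,
    (∃ p ∈ pairs h, (p.1 : End') - 1 ∈ nilSpan s t E ^ (n + 1) ∧ p.2 = up a) ∧
      (∃ p ∈ pairs h, (p.1 : End') - 1 ∈ nilSpan s t E ^ (n + 1) ∧ p.2 = low a) := by
  obtain ⟨c, hc0, hc1⟩ := exists_sq_ne_one hk2 hk3
  induction n with
  | zero =>
    intro a
    obtain ⟨⟨p, hp, e⟩, ⟨p', hp', e'⟩⟩ := pairs_snd hs ht h hk2 hk3 a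
    rw [zero_add, pow_one]
    exact ⟨⟨p, hp, pairs_congr hs ht h hp, e⟩, ⟨p', hp', pairs_congr hs ht h hp', e'⟩⟩
  | succ n ih =>
    obtain ⟨u, hu⟩ : ∃ u : (AdjoinRoot q)ˣ, (u : AdjoinRoot q) = algebraMap k _ c :=
      ⟨((Ne.isUnit hc0).map _).unit, IsUnit.unit_spec _⟩
    obtain ⟨d, hd, hd2⟩ : ∃ d ∈ pairs h, d.2 = dia u := by
      have e : (dia u : SL₂) = up (u : AdjoinRoot q) * low (-(u⁻¹ : (AdjoinRoot q)ˣ).val) * up (u : AdjoinRoot q) *
          (up (-1) * low 1 * up (-1)) := by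
        obtain ⟨g, hg, hge⟩ := diag_eq (u : AdjoinRoot q) ((u⁻¹ : (AdjoinRoot q)ˣ) : AdjoinRoot q) u.mul_inv
        rw [← hge]; exact Subtype.ext hg.symm
      have hm : (dia u : SL₂) ∈ (pairs h).map (MonoidHom.snd GLM SL₂) := by
        have hU : ∀ a, (up a : SL₂) ∈ (pairs h).map (MonoidHom.snd GLM SL₂) := fun a => by
          obtain ⟨⟨p, hp, e⟩, -⟩ := pairs_snd hs ht h hk2 hk3 a
          exact ⟨p, hp, e⟩
        have hL : ∀ a, (low a : SL₂) ∈ (pairs h).map (MonoidHom.snd GLM SL₂) := fun a => by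
          obtain ⟨-, ⟨p, hp, e⟩⟩ := pairs_snd hs ht h hk2 hk3 a
          exact ⟨p, hp, e⟩
        rw [e]
        exact mul_mem (mul_mem (mul_mem (hU _) (hL _)) (hU _)) (mul_mem (mul_mem (hU _) (hL _)) (hU _))
      exact hm
    have hstep : ∀ p ∈ pairs h, (p.1 : End') - 1 ∈ nilSpan s t E ^ (n + 1) →
        ((d * p * d⁻¹ * p⁻¹).1 : End') - 1 ∈ nilSpan s t E ^ (n + 1 + 1) := by
      intro p hp hpn
      have hdn := pairs_congr hs ht h hd
      have hinv := pairs_congr hs ht h (mul_mem (inv_mem hd) (inv_mem hp))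
      obtain ⟨P, hP⟩ : ∃ P, P = nilSpan s t E := ⟨_, rfl⟩
      rw [← hP] at hpn hdn hinv ⊢
      have hid : ((d * p * d⁻¹ * p⁻¹).1 : End') - 1 =
          (((d.1 : End') - 1) * ((p.1 : End') - 1) - ((p.1 : End') - 1) * ((d.1 : End') - 1)) *
            ((((d⁻¹ * p⁻¹).1 : GLM) : End') - 1 + 1) := by
        rw [sub_add_cancel, Prod.fst_mul, Prod.fst_mul, Prod.fst_mul, Prod.fst_inv, Prod.fst_inv,
          show ((d.1 : End') - 1) * ((p.1 : End') - 1) - ((p.1 : End') - 1) * ((d.1 : End') - 1) =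
            (d.1 : End') * p.1 - p.1 * d.1 by
          simp only [sub_mul, mul_sub, one_mul, mul_one]; abel,
          Prod.fst_mul, Prod.fst_inv, Prod.fst_inv,
          sub_mul, ← Units.val_mul, ← Units.val_mul, ← Units.val_mul, ← Units.val_mul,
          show p.1 * d.1 * (d.1⁻¹ * p.1⁻¹) = 1 by group,
          show d.1 * p.1 * (d.1⁻¹ * p.1⁻¹) = d.1 * p.1 * d.1⁻¹ * p.1⁻¹ by group, Units.val_one]
      rw [hid]
      have hz : ((d.1 : End') - 1) * ((p.1 : End') - 1) - ((p.1 : End') - 1) * ((d.1 : End') - 1) ∈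
          P ^ (n + 1 + 1) := by
        refine sub_mem ?_ ?_
        · rw [pow_succ']; exact Submodule.mul_mem_mul hdn hpn
        · rw [pow_succ]; exact Submodule.mul_mem_mul hpn hdn
      rw [mul_add, mul_one]
      refine add_mem ?_ hz
      have hle : P ^ (n + 1 + 1) * P ≤ P ^ (n + 1 + 1) := by
        rw [pow_succ, mul_assoc]
        exact mul_le_mul' le_rfl (hP ▸ UnipJoin.alg_mul_self _)
      exact hle (Submodule.mul_mem_mul hz hinv)
    intro a
    have hv1 : (algebraMap k (AdjoinRoot q) (c * c - 1)) * algebraMap k _ (c * c - 1)⁻¹ = 1 := by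
      rw [← map_mul, mul_inv_cancel₀ (sub_ne_zero.2 hc1), map_one]
    obtain ⟨w, hw⟩ : ∃ w, w = (c⁻¹ * c⁻¹ - 1 : k) := ⟨_, rfl⟩
    have hw0 : w ≠ 0 := by
      rw [hw, sub_ne_zero, ← mul_inv, Ne, inv_eq_one]; exact hc1
    constructor
    · obtain ⟨⟨p, hp, hpn, hp2⟩, -⟩ := ih (algebraMap k _ (c * c - 1)⁻¹ * a)
      refine ⟨d * p * d⁻¹ * p⁻¹, mul_mem (mul_mem (mul_mem hd hp) (inv_mem hd)) (inv_mem hp), hstep p hp hpn, ?_⟩
      rw [Prod.snd_mul, Prod.snd_mul, Prod.snd_mul, Prod.snd_inv, Prod.snd_inv, hd2, hp2,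
        conj_up_of_zero (dia u) (by simp), up_inv, up_mul]
      congr 1
      rw [coe_dia]; simp [hu, -AdjoinRoot.algebraMap_eq]
      rw [map_sub, map_mul, map_one] at hv1
      linear_combination a * hv1
    · obtain ⟨-, ⟨p, hp, hpn, hp2⟩⟩ := ih (algebraMap k _ w⁻¹ * a)
      refine ⟨d * p * d⁻¹ * p⁻¹, mul_mem (mul_mem (mul_mem hd hp) (inv_mem hd)) (inv_mem hp), hstep p hp hpn, ?_⟩
      rw [Prod.snd_mul, Prod.snd_mul, Prod.snd_mul, Prod.snd_inv, Prod.snd_inv, hd2, hp2, mul_inv_eq_iff_eq_mul,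
        mul_inv_eq_iff_eq_mul]
      have hui : ((u⁻¹ : (AdjoinRoot q)ˣ) : AdjoinRoot q) = algebraMap k _ c⁻¹ := by
        refine Units.inv_eq_of_mul_eq_one_right ?_
        rw [hu, ← map_mul, mul_inv_cancel₀ hc0, map_one]
      have hw1 : algebraMap k (AdjoinRoot q) w * algebraMap k _ w⁻¹ = 1 := by
        rw [← map_mul, mul_inv_cancel₀ hw0, map_one]
      have hwv : algebraMap k (AdjoinRoot q) w = algebraMap k _ c⁻¹ * algebraMap k _ c⁻¹ - 1 := by
        rw [hw, map_sub, map_mul, map_one]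
      have hcc : algebraMap k (AdjoinRoot q) c * algebraMap k _ c⁻¹ = 1 := by
        rw [← map_mul, mul_inv_cancel₀ hc0, map_one]
      refine ext4 ?_ ?_ ?_ ?_ <;>
        simp [Matrix.SpecialLinearGroup.coe_mul, Matrix.mul_apply, Fin.sum_univ_two, hu, hui, -AdjoinRoot.algebraMap_eq]
      linear_combination (a * algebraMap k (AdjoinRoot q) c) * hw1 -
        (a * algebraMap k (AdjoinRoot q) c * algebraMap k _ w⁻¹) * hwv -
        (a * algebraMap k _ w⁻¹ * algebraMap k _ c⁻¹) * hcc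

/-- The image of `SL(2, k[X]/(q))` lies in the group generated by the families. -/
theorem phi_mem (hk2 : ringChar k ≠ 2) (hk3 : Nat.card k ≠ 3) (a : AdjoinRoot q) :
    phi hs ht h (up a) ∈ famGroup s t ∧ phi hs ht h (low a) ∈ famGroup s t := by
  obtain ⟨n, hn⟩ := nilSpan_pow hs ht h
  obtain ⟨⟨p, hp, hpn, hp2⟩, ⟨p', hp', hpn', hp2'⟩⟩ := pairs_deep hs ht h hk2 hk3 n a
  rw [hn, Submodule.mem_bot, sub_eq_zero] at hpn hpn'
  constructor
  · have := pairs_prod_mem hs ht h hp
    rwa [show p.1 = 1 from Units.ext hpn, one_mul, hp2] at this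
  · have := pairs_prod_mem hs ht h hp'
    rwa [show p'.1 = 1 from Units.ext hpn', one_mul, hp2'] at this

end Cfsg.Agent.Fus.QPair
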