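import Mathlib
import Cfsg.Prelude.Def_RootSubgroups
import Cfsg.Agent.Lib.Fus.QuadPairGen
import Cfsg.Agent.Lib.Fus.SLTwoAdjoinBasic

/-!
Two quadratic elements of minimal rank in a group: unipotent, or a copy of `SL(2, k(λ))`.
-/

set_option autoImplicit false
set_option linter.unusedSectionVars false

namespace Cfsg.Agent.Fus.QPair

open Polynomial Cfsg.Agent.Fus.RingSL

universe u v

variable {k : Type u} [Field k] {M : Type v} [AddCommGroup M] [Module k M]

local notation "End'" => Module.End k M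
local notation "GLM" => LinearMap.GeneralLinearGroup k M

theorem isUnipotentOn_famGroup {s t : End'} (hs : s * s = 0) (ht : t * t = 0) (hz : IsNilpotent (zz s t)) :
    Cfsg.IsUnipotentOn (famGroup s t) := by
  obtain ⟨n, hn⟩ := hz
  have h := UnipJoin.alg_pow_eq_bot (span_pow_eq_bot hs ht hn)
  refine UnipJoin.isUnipotentOn_of_pow h fun g hg => ?_
  have hle : famGroup s t ≤ UnipJoin.congrGroup _ (fun x hx y hy => UnipJoin.mul_mem_alg hx hy) h := by
    rw [famGroup, Subgroup.closure_le]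
    rintro g ⟨c, hc | hc⟩ <;>
      (show (g : End') - 1 ∈ UnipJoin.alg (Submodule.span k ({s, t} : Set End')); rw [hc, add_sub_cancel_left])
    · exact Submodule.smul_mem _ _ (UnipJoin.le_alg _ (Submodule.subset_span (Set.mem_insert _ _)))
    · exact Submodule.smul_mem _ _ (UnipJoin.le_alg _ (Submodule.subset_span (Set.mem_insert_of_mem _ rfl)))
  exact hle hg

theorem famGroup_eq (σ τ : GLM) :
    famGroup ((σ : End') - 1) ((τ : End') - 1) = Subgroup.closure (Cfsg.scalarFamily σ ∪ Cfsg.scalarFamily τ) := by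
  refine congrArg Subgroup.closure (Set.ext fun g => ⟨?_, ?_⟩)
  · rintro ⟨c, h | h⟩
    exacts [Or.inl ⟨c, h⟩, Or.inr ⟨c, h⟩]
  · rintro (⟨c, h⟩ | ⟨c, h⟩)
    exacts [⟨c, Or.inl h⟩, ⟨c, Or.inr h⟩]

variable [FiniteDimensional k M] {s t E : Module.End k M} {q : k[X]}

set_option quotPrecheck false in
local notation "SL₂" => Matrix.SpecialLinearGroup (Fin 2) (AdjoinRoot q)

variable (hs : s * s = 0) (ht : t * t = 0) (h : IsSplit (zz s t) E q)

include hs ht h

theorem emb_mul_s_ne {r : AdjoinRoot q} (hr : r ≠ 0) : emb (zz s t) E r * s ≠ 0 := by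
  intro e
  refine hr (emb_injective h ?_)
  have c1 : Commute (emb (zz s t) E r) (mu s t h 1 0) := emb_comm h (z_comm_mu hs ht h 1 0) r
  have e' : emb (zz s t) E r * mu s t h 0 1 = 0 := by
    rw [show mu s t h 0 1 = E * s from rfl, ← mul_assoc, emb_E h, e]
  have h00 : emb (zz s t) E r * mu s t h 0 0 = 0 := by
    rw [show mu s t h 0 0 = mu s t h 0 1 * mu s t h 1 0 by rw [mu_mul hs ht h, if_pos rfl], ← mul_assoc, e',
      zero_mul]
  have h11 : emb (zz s t) E r * mu s t h 1 1 = 0 := by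
    rw [show mu s t h 1 1 = mu s t h 1 0 * mu s t h 0 1 by rw [mu_mul hs ht h, if_pos rfl], ← mul_assoc, c1.eq,
      mul_assoc, e', mul_zero]
  have hsum := congrArg (emb (zz s t) E r * ·) (mu_sum hs ht h)
  simp only [mul_add, h00, h11, add_zero, emb_E h] at hsum
  exact hsum.symm

/-- The quadratic elements of the group. -/
theorem phi_up_quadratic (hk2 : ringChar k ≠ 2) (hk3 : Nat.card k ≠ 3) {G : Subgroup GLM}
    (hG : famGroup s t ≤ G) {r : AdjoinRoot q} (hr : r ≠ 0) :
    phi hs ht h (up r) ∈ Cfsg.quadraticElements G ∧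
      Cfsg.commutatorRank (phi hs ht h (up r)) = Module.finrank k (LinearMap.range (emb (zz s t) E r * s)) := by
  have e : (((phi hs ht h (up r) : GLM)) : End') - 1 = emb (zz s t) E r * s := by
    rw [phi_up hs ht h, add_sub_cancel_left]
  refine ⟨⟨hG (phi_mem hs ht h hk2 hk3 r).1, ⟨?_, ?_⟩, ?_⟩, by rw [Cfsg.commutatorRank, e]⟩
  · show ((phi hs ht h (up r) : End') - 1) * ((phi hs ht h (up r) : End') - 1) = 0
    rw [e, mul_assoc, ← mul_assoc s, ← (emb_comm h (zz_comm_left hs) r).eq, mul_assoc _ s s, hs, mul_zero, mul_zero]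
  · show (phi hs ht h (up r) : End') - 1 ≠ 0
    rw [e]; exact emb_mul_s_ne hs ht h hr
  · rintro g ⟨c, hc⟩
    have : g = phi hs ht h (up (algebraMap k (AdjoinRoot q) c * r)) := by
      refine Units.ext ?_
      rw [hc, e, phi_up hs ht h, emb_mul h, emb_algebraMap h, smul_mul_assoc, E_emb h, smul_mul_assoc]
    exact this ▸ hG (phi_mem hs ht h hk2 hk3 _).1

/-- Minimality of the rank of `s` makes `E` fix `s` and every nonzero element of the algebra invertible. -/
theorem minimal_s (hk2 : ringChar k ≠ 2) (hk3 : Nat.card k ≠ 3) {G : Subgroup GLM} (hG : famGroup s t ≤ G)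
    (hmin : ∀ ρ ∈ Cfsg.quadraticElements G,
      Module.finrank k (LinearMap.range s) ≤ Cfsg.commutatorRank ρ) :
    E * s = s ∧ ∀ x y : AdjoinRoot q, x * y = 0 → x = 0 ∨ y = 0 := by
  have cs : ∀ r, emb (zz s t) E r * s = s * emb (zz s t) E r := fun r =>
    (emb_comm h (zz_comm_left hs) r).eq
  have hinj : ∀ r : AdjoinRoot q, r ≠ 0 → ∀ v ∈ LinearMap.range s, emb (zz s t) E r v = 0 → v = 0 := by
    intro r hr
    obtain ⟨hq, hrk⟩ := phi_up_quadratic hs ht h hk2 hk3 hG hr
    have h1 := hmin _ hq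
    rw [hrk] at h1
    have hrange : LinearMap.range (emb (zz s t) E r * s) =
        LinearMap.range ((emb (zz s t) E r).domRestrict (LinearMap.range s)) := by
      ext x
      constructor
      · rintro ⟨m, rfl⟩; exact ⟨⟨s m, m, rfl⟩, rfl⟩
      · rintro ⟨⟨_, m, rfl⟩, rfl⟩; exact ⟨m, rfl⟩
    rw [hrange] at h1
    have h2 := LinearMap.finrank_range_add_finrank_ker ((emb (zz s t) E r).domRestrict (LinearMap.range s))
    have h3 : LinearMap.ker ((emb (zz s t) E r).domRestrict (LinearMap.range s)) = ⊥ :=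
      Submodule.finrank_eq_zero.1 (by omega)
    intro v hv e
    have := LinearMap.ker_eq_bot'.1 h3 ⟨v, hv⟩ e
    exact congrArg Subtype.val this
  have hEs : E * s = s := by
    rw [← sub_eq_zero]
    refine LinearMap.ext fun m => ?_
    have c : E * s = s * E := (E_comm h (zz_comm_left hs)).eq
    have hv : (E * s - s) m ∈ LinearMap.range s := ⟨E m - m, by
      rw [c]; simp⟩
    have h1 : (1 : AdjoinRoot q) ≠ 0 := fun e => h.q_deg (isUnit_of_dvd_one (AdjoinRoot.mk_eq_zero.1
      (by rw [map_one]; exact e)))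
    refine hinj 1 h1 _ hv ?_
    rw [emb_one h]
    show (E * (E * s - s)) m = 0
    rw [mul_sub, ← mul_assoc, h.idem, sub_self]; rfl
  refine ⟨hEs, fun x y hxy => ?_⟩
  by_contra hne
  push Not at hne
  refine emb_mul_s_ne hs ht h hne.2 (LinearMap.ext fun m => hinj x hne.1 _ ⟨emb (zz s t) E y m, ?_⟩ ?_)
  · show (s * emb (zz s t) E y) m = _
    rw [← cs]
  · show (emb (zz s t) E x * (emb (zz s t) E y * s)) m = 0
    rw [← mul_assoc, ← emb_mul h, hxy, emb_zero h, zero_mul]; rfl

omit hs ht in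
theorem irreducible_of_domain (hdom : ∀ x y : AdjoinRoot q, x * y = 0 → x = 0 ∨ y = 0) : Irreducible q := by
  refine ⟨h.q_deg, fun a b hab => ?_⟩
  have h0 : AdjoinRoot.mk q a * AdjoinRoot.mk q b = 0 := by rw [← map_mul, ← hab, AdjoinRoot.mk_self]
  have hane : a ≠ 0 := fun e => h.q_ne (by rw [hab, e, zero_mul])
  have hbne : b ≠ 0 := fun e => h.q_ne (by rw [hab, e, mul_zero])
  rcases hdom _ _ h0 with e | e
  · obtain ⟨c, hc⟩ := AdjoinRoot.mk_eq_zero.1 e
    refine Or.inr (IsUnit.of_mul_eq_one c ?_)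
    exact mul_left_cancel₀ hane (by rw [mul_one, ← mul_assoc, ← hab]; exact hc.symm)
  · obtain ⟨c, hc⟩ := AdjoinRoot.mk_eq_zero.1 e
    refine Or.inl (IsUnit.of_mul_eq_one c ?_)
    exact mul_left_cancel₀ hbne (by rw [mul_one, ← mul_assoc, mul_comm b a, ← hab]; exact hc.symm)

theorem phi_injective : Function.Injective (phi hs ht h) := by
  refine (injective_iff_map_eq_one _).2 fun g hg => ?_
  have he : phiFun s t h g.1 = 1 := by rw [← coe_phi hs ht h, hg, Units.val_one]
  have key : ∀ i l : Fin 2, emb (zz s t) E (g.1 i l - (1 : Matrix (Fin 2) (Fin 2) (AdjoinRoot q)) i l) *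
      mu s t h 0 0 = 0 := by
    intro i l
    have hl : ∀ X : Matrix (Fin 2) (Fin 2) (AdjoinRoot q),
        mu s t h 0 i * phiFun s t h X * mu s t h l 0 = emb (zz s t) E (X i l) * mu s t h 0 0 := by
      intro X
      have hterm : ∀ a b : Fin 2, mu s t h 0 i * (emb (zz s t) E (X a b) * mu s t h a b) * mu s t h l 0 =
          if i = a ∧ b = l then emb (zz s t) E (X a b) * mu s t h 0 0 else 0 := by
        intro a b
        rw [← mul_assoc, ← (emb_comm h (z_comm_mu hs ht h 0 i) _).eq, mul_assoc (emb (zz s t) E _),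
          mu_mul hs ht h, mul_assoc]
        by_cases h1 : i = a
        · rw [if_pos h1, mu_mul hs ht h]
          by_cases h2 : b = l
          · rw [if_pos h2, if_pos ⟨h1, h2⟩]
          · rw [if_neg h2, if_neg (fun e => h2 e.2), mul_zero]
        · rw [if_neg h1, if_neg (fun e => h1 e.1), zero_mul, mul_zero]
      have h0 : mu s t h 0 i * (1 - E) = 0 := by rw [mul_sub, mul_one, mu_E hs ht h, sub_self]
      simp only [phiFun, Fin.sum_univ_two, mul_add, add_mul, h0, zero_mul, zero_add, hterm]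
      fin_cases i <;> fin_cases l <;> simp
    have h1 := hl g.1
    have h2 := hl 1
    rw [he, ← phi_one hs ht h] at h1
    rw [h1] at h2
    have hsub := emb_add h (g.1 i l - (1 : Matrix (Fin 2) (Fin 2) (AdjoinRoot q)) i l)
      ((1 : Matrix (Fin 2) (Fin 2) (AdjoinRoot q)) i l)
    rw [sub_add_cancel] at hsub
    rw [eq_sub_of_add_eq hsub.symm, sub_mul, ← h2, sub_self]
  refine Subtype.ext (Matrix.ext fun i l => sub_eq_zero.1 (emb_injective h ?_))
  obtain ⟨r, hr⟩ : ∃ r, r = g.1 i l - (1 : Matrix (Fin 2) (Fin 2) (AdjoinRoot q)) i l := ⟨_, rfl⟩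
  have h00 := key i l
  rw [← hr] at h00
  show emb (zz s t) E (g.1 i l - (1 : Matrix (Fin 2) (Fin 2) (AdjoinRoot q)) i l) = 0
  rw [← hr]
  have h11 : emb (zz s t) E r * mu s t h 1 1 = 0 := by
    rw [show mu s t h 1 1 = mu s t h 1 0 * (mu s t h 0 0 * mu s t h 0 1) by
        rw [mu_mul hs ht h, if_pos rfl, mu_mul hs ht h, if_pos rfl],
      ← mul_assoc, (emb_comm h (z_comm_mu hs ht h 1 0) r).eq, mul_assoc, ← mul_assoc (emb (zz s t) E r), h00,
      zero_mul, mul_zero]
  have hsum := congrArg (emb (zz s t) E r * ·) (mu_sum hs ht h)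
  simp only [mul_add, h00, h11, add_zero, emb_E h] at hsum
  exact hsum.symm

/-- The range is the group of the two families. -/
theorem phi_range [Fact (Irreducible q)] (hk2 : ringChar k ≠ 2) (hk3 : Nat.card k ≠ 3) (hEs : E * s = s)
    (hEt : E * t = t) : (phi hs ht h).range = famGroup s t := by
  refine le_antisymm ?_ ?_
  · have htop : (famGroup s t).comap (phi hs ht h) = ⊤ := by
      refine AdjoinSL.eq_top_of_up_low (fun a => ?_) (fun a => ?_)
      · rw [Subgroup.mem_comap, show (Grp.SL2.up a : SL₂) = up a from Subtype.ext rfl]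
        exact (phi_mem hs ht h hk2 hk3 a).1
      · rw [Subgroup.mem_comap, show (Grp.SL2.low a : SL₂) = low a from Subtype.ext rfl]
        exact (phi_mem hs ht h hk2 hk3 a).2
    rintro _ ⟨g, rfl⟩
    exact (htop.ge (Subgroup.mem_top g) : _)
  · rw [famGroup, Subgroup.closure_le]
    rintro g ⟨c, hc | hc⟩
    · refine ⟨up (algebraMap k _ c), Units.ext ?_⟩
      rw [phi_up hs ht h, emb_algebraMap h, smul_mul_assoc, hEs, hc]
    · refine ⟨low (algebraMap k _ c * (zUnit h : AdjoinRoot q)), Units.ext ?_⟩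
      rw [phi_low hs ht h, emb_algebraMap h, smul_mul_assoc, hEt, hc]

end Cfsg.Agent.Fus.QPair
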