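import Mathlib
import Cfsg.Prelude.Def_RootSubgroups
import Cfsg.Agent.Lib.Fus.QuadPairMinimal

/-!
Opposite and non-opposite pairs of quadratic elements of minimal rank.
-/

set_option autoImplicit false
set_option linter.unusedSectionVars false

namespace Cfsg.Agent.Fus.QPair

open Cfsg.Agent.Fus.RingSL

universe u v

variable {k : Type u} [Field k] {M : Type v} [AddCommGroup M] [Module k M]

local notation "End'" => Module.End k M
local notation "GLM" => LinearMap.GeneralLinearGroup k M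

/-- The fixed space. -/
abbrev kf (σ : GLM) : Submodule k M := LinearMap.ker ((σ : End') - 1)

/-- The commutator space. -/
abbrev rf (σ : GLM) : Submodule k M := LinearMap.range ((σ : End') - 1)

/-- The two elements are opposite. -/
def Opposite (σ τ : GLM) : Prop := rf σ ⊓ kf τ = ⊥ ∧ rf τ ⊓ kf σ = ⊥

theorem Opposite.symm {σ τ : GLM} (h : Opposite σ τ) : Opposite τ σ := ⟨h.2, h.1⟩

theorem rf_le_kf {σ : GLM} (h : ((σ : End') - 1) * ((σ : End') - 1) = 0) : rf σ ≤ kf σ := by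
  rintro _ ⟨m, rfl⟩
  exact LinearMap.congr_fun h m

theorem not_isNilpotent_of_opposite {σ τ : GLM} (hs : ((σ : End') - 1) * ((σ : End') - 1) = 0)
    (ht : ((τ : End') - 1) * ((τ : End') - 1) = 0) (h0 : (σ : End') - 1 ≠ 0) (hop : Opposite σ τ) :
    ¬ IsNilpotent (zz ((σ : End') - 1) ((τ : End') - 1)) := by
  obtain ⟨s, hs'⟩ : ∃ s, s = (σ : End') - 1 := ⟨_, rfl⟩
  obtain ⟨t, ht'⟩ : ∃ t, t = (τ : End') - 1 := ⟨_, rfl⟩
  rw [← hs'] at hs h0 ⊢
  rw [← ht'] at ht ⊢
  rintro ⟨n, hn⟩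
  have hstep : ∀ n, zz s t ^ (n + 1) * s = 0 → zz s t ^ n * s = 0 := by
    intro n hn
    have c : Commute (zz s t ^ n) s := Commute.pow_left (zz_comm_left hs) n
    have e0 : s * (zz s t ^ n * s) = 0 := by rw [← mul_assoc, ← c.eq, mul_assoc, hs, mul_zero]
    have e : zz s t ^ (n + 1) * s = s * (t * (zz s t ^ n * s)) := by
      rw [pow_succ', mul_assoc]
      generalize zz s t ^ n * s = Y at e0 ⊢
      rw [zz, add_mul, mul_assoc, mul_assoc t s, e0, mul_zero, add_zero]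
    rw [e] at hn
    refine LinearMap.ext fun m => ?_
    have h1 : (zz s t ^ n * s) m ∈ LinearMap.range s := ⟨(zz s t ^ n) m, by rw [c.eq]; rfl⟩
    have h2 : t ((zz s t ^ n * s) m) ∈ LinearMap.ker s := LinearMap.congr_fun hn m
    have h3 : t ((zz s t ^ n * s) m) = 0 := by
      have : t ((zz s t ^ n * s) m) ∈ (rf τ ⊓ kf σ : Submodule k M) :=
        ⟨ht' ▸ ⟨_, rfl⟩, by show _ ∈ LinearMap.ker ((σ : End') - 1); rw [← hs']; exact h2⟩
      rwa [hop.2, Submodule.mem_bot] at this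
    have : (zz s t ^ n * s) m ∈ (rf σ ⊓ kf τ : Submodule k M) :=
      ⟨hs' ▸ h1, by show _ ∈ LinearMap.ker ((τ : End') - 1); rw [← ht']; exact h3⟩
    rwa [hop.1, Submodule.mem_bot] at this
  refine h0 ?_
  have hn' : zz s t ^ n * s = 0 := by rw [hn, zero_mul]
  clear hn
  induction n with
  | zero => rwa [pow_zero, one_mul] at hn'
  | succ n ih => exact ih (hstep n hn')

variable [FiniteDimensional k M] {G : Subgroup (LinearMap.GeneralLinearGroup k M)}

/-- A minimal pair whose anticommutator is not nilpotent is a model of `SL(2)` over a field. -/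
theorem exists_field (hk2 : ringChar k ≠ 2) (hk3 : Nat.card k ≠ 3) {σ τ : GLM}
    (hσ : σ ∈ Cfsg.minimalQuadraticElements G) (hτ : τ ∈ Cfsg.minimalQuadraticElements G)
    (hz : ¬ IsNilpotent (zz ((σ : End') - 1) ((τ : End') - 1))) :
    ∃ (E : End') (q : Polynomial k) (_ : IsSplit (zz ((σ : End') - 1) ((τ : End') - 1)) E q),
      Irreducible q ∧ E * ((σ : End') - 1) = (σ : End') - 1 ∧ E * ((τ : End') - 1) = (τ : End') - 1 := by
  obtain ⟨⟨hσG, ⟨hs, -⟩, hσsc⟩, hσmin⟩ := hσ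
  obtain ⟨⟨hτG, ⟨ht, -⟩, hτsc⟩, hτmin⟩ := hτ
  obtain ⟨E, q, h⟩ := exists_split hz
  have hle : ∀ a b : GLM, Cfsg.scalarFamily a ⊆ G → Cfsg.scalarFamily b ⊆ G →
      famGroup ((a : End') - 1) ((b : End') - 1) ≤ G := fun a b ha hb => by
    rw [famGroup_eq, Subgroup.closure_le]
    exact Set.union_subset ha hb
  obtain ⟨hEs, hdom⟩ := minimal_s hs ht h hk2 hk3 (hle _ _ hσsc hτsc) hσmin
  have h' : IsSplit (zz ((τ : End') - 1) ((σ : End') - 1)) E q := by rw [zz_symm]; exact h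
  obtain ⟨hEt, -⟩ := minimal_s ht hs h' hk2 hk3 (hle _ _ hτsc hσsc) hτmin
  exact ⟨E, q, h, irreducible_of_domain h hdom, hEs, hEt⟩

/-- A pair which is not opposite has a nilpotent anticommutator. -/
theorem isNilpotent_of_not_opposite (hk2 : ringChar k ≠ 2) (hk3 : Nat.card k ≠ 3) {σ τ : GLM}
    (hσ : σ ∈ Cfsg.minimalQuadraticElements G) (hτ : τ ∈ Cfsg.minimalQuadraticElements G)
    (hne : rf σ ⊓ kf τ ≠ ⊥) : IsNilpotent (zz ((σ : End') - 1) ((τ : End') - 1)) := by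
  by_contra hz
  obtain ⟨E, q, h, -, hEs, -⟩ := exists_field hk2 hk3 hσ hτ hz
  have hs := hσ.1.2.1.1
  have ht := hτ.1.2.1.1
  refine hne ((Submodule.eq_bot_iff _).2 fun v hv => ?_)
  obtain ⟨⟨m, hm⟩, hv2⟩ := hv
  have e1 : ((σ : End') - 1) v = 0 := rf_le_kf hs ⟨m, hm⟩
  have e2 : ((τ : End') - 1) v = 0 := hv2
  calc v = E v := by rw [← hm]; exact (LinearMap.congr_fun hEs m).symm
    _ = 0 := by
      rw [← mu_sum hs ht h]
      simp [mu, Module.End.mul_apply, e1, e2]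

omit [FiniteDimensional k M] in
theorem subgroup_sub_one {W : Submodule k M} {X : Subgroup GLM} {S : Set GLM} (hX : X ≤ Subgroup.closure S)
    (hS : ∀ g ∈ S, LinearMap.range ((g : End') - 1) ≤ W) {g : GLM} (hg : g ∈ X) :
    LinearMap.range ((g : End') - 1) ≤ W := by
  have hg' := hX hg
  clear hg hX
  induction hg' using Subgroup.closure_induction with
  | mem g hg => exact hS g hg
  | one => simp
  | mul a b _ _ iha ihb =>
    rintro _ ⟨m, rfl⟩
    have e : ((a * b : GLM) : End') - 1 = ((a : End') - 1) * (b : End') + ((b : End') - 1) := by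
      rw [Units.val_mul, sub_mul, one_mul]; abel
    rw [e, LinearMap.add_apply]
    exact W.add_mem (iha ⟨(b : End') m, rfl⟩) (ihb ⟨m, rfl⟩)
  | inv a _ iha =>
    rintro _ ⟨m, rfl⟩
    have e : ((a⁻¹ : GLM) : End') - 1 = -(((a : End') - 1) * ((a⁻¹ : GLM) : End')) := by
      rw [sub_mul, one_mul, ← Units.val_mul, mul_inv_cancel, Units.val_one, neg_sub]
    rw [e, LinearMap.neg_apply]
    exact W.neg_mem (iha ⟨((a⁻¹ : GLM) : End') m, rfl⟩)

omit [FiniteDimensional k M] in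
theorem subgroup_fix {v : M} {S : Set GLM} (hS : ∀ g ∈ S, (g : End') v = v) {g : GLM}
    (hg : g ∈ Subgroup.closure S) : (g : End') v = v := by
  induction hg using Subgroup.closure_induction with
  | mem g hg => exact hS g hg
  | one => simp
  | mul a b _ _ iha ihb => rw [Units.val_mul, Module.End.mul_apply, ihb, iha]
  | inv a _ iha =>
    conv_lhs => rw [← iha]
    rw [← Module.End.mul_apply, ← Units.val_mul, inv_mul_cancel, Units.val_one, Module.End.one_apply]

omit [FiniteDimensional k M] in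
theorem sup_eq_closure (σ τ : GLM) : Cfsg.sameActionSubgroup G σ ⊔ Cfsg.sameActionSubgroup G τ =
    Subgroup.closure (Cfsg.sameActionClass G σ ∪ Cfsg.sameActionClass G τ) := by
  rw [Cfsg.sameActionSubgroup, Cfsg.sameActionSubgroup, Subgroup.closure_union]

/-- Conjugation keeps the minimal quadratic elements. -/
theorem conj_minimal {g σ : GLM} (hg : g ∈ G) (hσ : σ ∈ Cfsg.minimalQuadraticElements G) :
    g * σ * g⁻¹ ∈ Cfsg.minimalQuadraticElements G ∧ rf (g * σ * g⁻¹) = (rf σ).map (g : End') ∧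
      kf (g * σ * g⁻¹) = (kf σ).map (g : End') := by
  obtain ⟨⟨hσG, ⟨hs, h0⟩, hsc⟩, hmin⟩ := hσ
  have e : ((g * σ * g⁻¹ : GLM) : End') - 1 = (g : End') * ((σ : End') - 1) * ((g⁻¹ : GLM) : End') :=
    UnipJoin.conj_sub_one g σ
  have hgi : ((g⁻¹ : GLM) : End') * (g : End') = 1 := by rw [← Units.val_mul, inv_mul_cancel, Units.val_one]
  have hig : (g : End') * ((g⁻¹ : GLM) : End') = 1 := by rw [← Units.val_mul, mul_inv_cancel, Units.val_one]
  have hr : rf (g * σ * g⁻¹) = (rf σ).map (g : End') := by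
    ext x
    constructor
    · rintro ⟨m, rfl⟩; rw [e]; exact ⟨_, ⟨_, rfl⟩, rfl⟩
    · rintro ⟨_, ⟨m, rfl⟩, rfl⟩
      refine ⟨(g : End') m, ?_⟩
      rw [e, Module.End.mul_apply, Module.End.mul_apply, ← Module.End.mul_apply ((g⁻¹ : GLM) : End'), hgi]
      rfl
  have hk : kf (g * σ * g⁻¹) = (kf σ).map (g : End') := by
    ext x
    constructor
    · intro hx
      rw [LinearMap.mem_ker, e] at hx
      refine ⟨((g⁻¹ : GLM) : End') x, ?_, ?_⟩
      · have := congrArg ((g⁻¹ : GLM) : End') hx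
        rw [map_zero, Module.End.mul_apply, Module.End.mul_apply, ← Module.End.mul_apply ((g⁻¹ : GLM) : End'),
          hgi, Module.End.one_apply] at this
        exact this
      · rw [← Module.End.mul_apply, hig]; rfl
    · rintro ⟨y, hy, rfl⟩
      rw [LinearMap.mem_ker, e, Module.End.mul_apply, Module.End.mul_apply,
        ← Module.End.mul_apply ((g⁻¹ : GLM) : End'), hgi, Module.End.one_apply, LinearMap.mem_ker.1 hy, map_zero]
  have hgbij : Function.Injective (g : End') := fun a b hab => by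
    have := congrArg ((g⁻¹ : GLM) : End') hab
    rwa [← Module.End.mul_apply, ← Module.End.mul_apply, hgi, Module.End.one_apply, Module.End.one_apply] at this
  refine ⟨⟨⟨G.mul_mem (G.mul_mem hg hσG) (G.inv_mem hg), ⟨?_, ?_⟩, ?_⟩, fun ρ hρ => ?_⟩, hr, hk⟩
  · show (((g * σ * g⁻¹ : GLM) : End') - 1) * (((g * σ * g⁻¹ : GLM) : End') - 1) = 0
    rw [e, show (g : End') * ((σ : End') - 1) * ((g⁻¹ : GLM) : End') * ((g : End') * ((σ : End') - 1) *
      ((g⁻¹ : GLM) : End')) = (g : End') * ((σ : End') - 1) * (((g⁻¹ : GLM) : End') * (g : End')) *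
      (((σ : End') - 1) * ((g⁻¹ : GLM) : End')) by simp only [mul_assoc], hgi, mul_one,
      mul_assoc (g : End'), ← mul_assoc ((σ : End') - 1) ((σ : End') - 1), hs, zero_mul, mul_zero]
  · intro h
    refine h0 ?_
    have := congrArg (fun x : End' => ((g⁻¹ : GLM) : End') * x * (g : End')) (e.symm.trans h)
    simpa [← mul_assoc, hgi, mul_assoc, hgi] using this
  · rintro τ ⟨c, hc⟩
    obtain ⟨y, hy⟩ : ∃ y : GLM, y = g⁻¹ * τ * g := ⟨_, rfl⟩
    have hyG : y ∈ G := hsc ⟨c, by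
      rw [hy, Units.val_mul, Units.val_mul, hc, e, mul_add, add_mul, mul_one, hgi, mul_smul_comm, smul_mul_assoc,
        show ((g⁻¹ : GLM) : End') * ((g : End') * ((σ : End') - 1) * ((g⁻¹ : GLM) : End')) * (g : End') =
          (((g⁻¹ : GLM) : End') * (g : End')) * ((σ : End') - 1) * (((g⁻¹ : GLM) : End') * (g : End')) by
          simp only [mul_assoc], hgi, one_mul, mul_one]⟩
    rw [show τ = g * y * g⁻¹ by rw [hy]; group]
    exact G.mul_mem (G.mul_mem hg hyG) (G.inv_mem hg)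
  · refine le_trans (le_of_eq ?_) (hmin ρ hρ)
    show Module.finrank k (rf (g * σ * g⁻¹)) = Module.finrank k (rf σ)
    rw [hr]
    exact (Submodule.equivMapOfInjective _ hgbij _).finrank_eq.symm

/-- A pair which is not opposite generates a unipotent group. -/
theorem isUnipotentOn_sup (hk2 : ringChar k ≠ 2) (hk3 : Nat.card k ≠ 3) {σ τ : GLM}
    (hσ : σ ∈ Cfsg.minimalQuadraticElements G) (hτ : τ ∈ Cfsg.minimalQuadraticElements G)
    (hne : rf σ ⊓ kf τ ≠ ⊥) :
    Cfsg.IsUnipotentOn (Cfsg.sameActionSubgroup G σ ⊔ Cfsg.sameActionSubgroup G τ) := by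
  classical
  rw [sup_eq_closure]
  obtain ⟨X, hX⟩ : ∃ X, X = Subgroup.closure (Cfsg.sameActionClass G σ ∪ Cfsg.sameActionClass G τ) := ⟨_, rfl⟩
  rw [← hX]
  have hXG : X ≤ G := hX ▸ (Subgroup.closure_le _).2 (by
    rintro g (hg | hg) <;> exact hg.1.1.1)
  -- the common fixed vectors
  have hfix : ∀ x ∈ X, ∀ v ∈ rf σ ⊓ kf τ, (x : End') v = v := by
    intro x hx v hv
    refine subgroup_fix (S := Cfsg.sameActionClass G σ ∪ Cfsg.sameActionClass G τ) ?_ (hX ▸ hx)
    rintro g (⟨hg, hk, -⟩ | ⟨hg, hk, -⟩)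
    · have : v ∈ LinearMap.ker ((g : End') - 1) := hk ▸ rf_le_kf hσ.1.2.1.1 hv.1
      exact sub_eq_zero.1 this
    · have : v ∈ LinearMap.ker ((g : End') - 1) := hk ▸ hv.2
      exact sub_eq_zero.1 this
  obtain ⟨W, hW⟩ : ∃ W : Set (Subgroup GLM), W =
      {A | ∃ ρ ∈ Cfsg.sameActionClass G σ, ∃ x ∈ X,
        A = Subgroup.closure (Cfsg.scalarFamily (x * ρ * x⁻¹))} := ⟨_, rfl⟩
  -- the scalar families of the classes lie in `X`
  have hscal : ∀ a : GLM, a ∈ Cfsg.minimalQuadraticElements G → ∀ ρ ∈ Cfsg.sameActionClass G a,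
      ∀ g ∈ Cfsg.scalarFamily ρ, g = 1 ∨ g ∈ Cfsg.sameActionClass G a := by
    rintro a ha ρ ⟨hρ, hk, hr⟩ g ⟨c, hc⟩
    by_cases hc0 : c = 0
    · exact Or.inl (Units.ext (by rw [hc, hc0, zero_smul, add_zero, Units.val_one]))
    have e : (g : End') - 1 = c • ((ρ : End') - 1) := by rw [hc, add_sub_cancel_left]
    have hk' : LinearMap.ker ((g : End') - 1) = LinearMap.ker ((ρ : End') - 1) := by
      rw [e, LinearMap.ker_smul _ _ hc0]
    have hr' : LinearMap.range ((g : End') - 1) = LinearMap.range ((ρ : End') - 1) := by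
      rw [e, LinearMap.range_smul _ _ hc0]
    refine Or.inr ⟨⟨⟨hρ.1.2.2 ⟨c, hc⟩, ⟨?_, ?_⟩, ?_⟩, fun ρ' hρ' => ?_⟩, hk'.trans hk, hr'.trans hr⟩
    · rw [e, smul_mul_smul_comm, hρ.1.2.1.1, smul_zero]
    · rw [e]; exact smul_ne_zero hc0 hρ.1.2.1.2
    · rintro g' ⟨d, hd⟩
      exact hρ.1.2.2 ⟨d * c, by rw [hd, e, smul_smul]⟩
    · refine le_trans (le_of_eq ?_) (hρ.2 ρ' hρ')
      unfold Cfsg.commutatorRank
      rw [hr']
  have hWX : ∀ A ∈ W, A ≤ X := by
    rw [hW]
    rintro A ⟨ρ, hρ, x, hx, rfl⟩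
    rw [Subgroup.closure_le]
    rintro g ⟨c, hc⟩
    obtain ⟨y, hy⟩ : ∃ y : GLM, y = x⁻¹ * g * x := ⟨_, rfl⟩
    have hy' : y ∈ X := by
      rcases hscal σ hσ ρ hρ y ⟨c, by
        rw [hy, Units.val_mul, Units.val_mul, hc, UnipJoin.conj_sub_one, mul_add, add_mul, mul_one,
          ← Units.val_mul x⁻¹ x, inv_mul_cancel, Units.val_one, mul_smul_comm, smul_mul_assoc]
        congr 2
        rw [← mul_assoc, ← mul_assoc, ← Units.val_mul x⁻¹ x, inv_mul_cancel, Units.val_one, one_mul, mul_assoc,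
          ← Units.val_mul x⁻¹ x, inv_mul_cancel, Units.val_one, mul_one]⟩ with h | h
      · rw [h]; exact one_mem _
      · exact hX ▸ Subgroup.subset_closure (Or.inl h)
    rw [show g = x * y * x⁻¹ by rw [hy]; group]
    exact mul_mem (mul_mem hx hy') (inv_mem hx)
  have hWconj : ∀ A ∈ W, ∀ g ∈ X, Cfsg.conjBy A g ∈ W := by
    rw [hW]
    rintro A ⟨ρ, hρ, x, hx, rfl⟩ g hg
    refine ⟨ρ, hρ, g * x, mul_mem hg hx, ?_⟩
    rw [Cfsg.conjBy, MonoidHom.map_closure]
    refine congrArg Subgroup.closure (Set.ext fun y => ⟨?_, fun hy => ?_⟩)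
    · rintro ⟨y, ⟨c, hc⟩, rfl⟩
      refine ⟨c, ?_⟩
      rw [show g * x * ρ * (g * x)⁻¹ = g * (x * ρ * x⁻¹) * g⁻¹ by group, UnipJoin.conj_sub_one]
      have : ((MulAut.conj g).toMonoidHom y : GLM) = g * y * g⁻¹ := rfl
      rw [this, Units.val_mul, Units.val_mul, hc, mul_add, add_mul, mul_one, ← Units.val_mul, mul_inv_cancel,
        Units.val_one]
      simp only [mul_smul_comm, smul_mul_assoc]
    · obtain ⟨c, hc⟩ := hy
      refine ⟨g⁻¹ * y * g, ⟨c, ?_⟩, by simp [mul_assoc]⟩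
      rw [Units.val_mul, Units.val_mul, hc, show g * x * ρ * (g * x)⁻¹ = g * (x * ρ * x⁻¹) * g⁻¹ by group,
        UnipJoin.conj_sub_one g, mul_add, add_mul, mul_one, ← Units.val_mul g⁻¹ g, inv_mul_cancel, Units.val_one,
        mul_smul_comm, smul_mul_assoc]
      congr 2
      rw [← mul_assoc, ← mul_assoc, ← Units.val_mul g⁻¹ g, inv_mul_cancel, Units.val_one, one_mul, mul_assoc,
        ← Units.val_mul g⁻¹ g, inv_mul_cancel, Units.val_one, mul_one]
  have hWW : ∀ A ∈ W, ∀ B ∈ W, Cfsg.IsUnipotentOn (A ⊔ B) := by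
    rw [hW]
    rintro A ⟨ρ₁, hρ₁, x, hx, rfl⟩ B ⟨ρ₂, hρ₂, y, hy, rfl⟩
    rw [← Subgroup.closure_union, ← famGroup_eq]
    obtain ⟨h1, hr1, hk1⟩ := conj_minimal (hXG hx) hρ₁.1
    obtain ⟨h2, hr2, hk2'⟩ := conj_minimal (hXG hy) hρ₂.1
    refine isUnipotentOn_famGroup h1.1.2.1.1 h2.1.2.1.1 (isNilpotent_of_not_opposite hk2 hk3 h1 h2 ?_)
    intro e
    refine hne ((Submodule.eq_bot_iff _).2 fun v hv => ?_)
    have hm : v ∈ rf (x * ρ₁ * x⁻¹) ⊓ kf (y * ρ₂ * y⁻¹) := by
      constructor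
      · rw [hr1]
        refine ⟨v, ?_, hfix x hx v hv⟩
        show v ∈ LinearMap.range ((ρ₁ : End') - 1)
        rw [hρ₁.2.2]; exact hv.1
      · rw [hk2']
        refine ⟨v, ?_, hfix y hy v hv⟩
        show v ∈ LinearMap.ker ((ρ₂ : End') - 1)
        rw [hρ₂.2.1]; exact rf_le_kf hσ.1.2.1.1 hv.1
    rwa [e, Submodule.mem_bot] at hm
  obtain ⟨P, hP⟩ : ∃ P : Subgroup GLM, P = ⨆ A ∈ W, A := ⟨_, rfl⟩
  have hPu : Cfsg.IsUnipotentOn P := hP ▸ UnipJoin.isUnipotentOn_iSup hWX hWW hWconj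
  have hPn : ∀ g ∈ X, Cfsg.conjBy P g = P := fun g hg => hP ▸ UnipJoin.conjBy_iSup_eq hWconj hg
  obtain ⟨n, hn⟩ := UnipJoin.exists_pow_of_isUnipotentOn hPu
  obtain ⟨V, hV⟩ : ∃ V, V = UnipJoin.nSpan (Cfsg.sameActionClass G τ) := ⟨_, rfl⟩
  have hV2 : V ^ 2 = ⊥ := by
    rw [hV, pow_two, UnipJoin.nSpan, Submodule.span_mul_span, Submodule.span_eq_bot]
    rintro _ ⟨_, ⟨a, ha, rfl⟩, _, ⟨b, hb, rfl⟩, rfl⟩
    refine LinearMap.ext fun m => ?_
    have hbm : ((b : End') - 1) m ∈ LinearMap.ker ((a : End') - 1) := by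
      rw [ha.2.1]
      exact rf_le_kf hτ.1.2.1.1 (hb.2.2.le ⟨m, rfl⟩)
    exact hbm
  have hVN : V * UnipJoin.nSpan (P : Set GLM) ≤ UnipJoin.nSpan (P : Set GLM) * (1 ⊔ V) := by
    rw [hV]
    refine Submodule.mul_le.2 ?_
    intro a ha b hb
    induction ha using Submodule.span_induction with
    | mem a ha =>
      obtain ⟨g, hg, rfl⟩ := ha
      induction hb using Submodule.span_induction with
      | mem b hb =>
        obtain ⟨p, hp, rfl⟩ := hb
        have hp' : g * p * g⁻¹ ∈ P :=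
          (hPn g (hX ▸ Subgroup.subset_closure (Or.inr hg))).le (Subgroup.mem_map_of_mem _ hp)
        have hN : UnipJoin.nSpan (P : Set GLM) ≤ UnipJoin.nSpan (P : Set GLM) * (1 ⊔ V) := fun z hz => by
          have := Submodule.mul_mem_mul hz (Submodule.mem_sup_left (Submodule.one_le.1 (le_refl (1 : Submodule k End')))
            : (1 : End') ∈ 1 ⊔ V)
          rwa [mul_one] at this
        have e : ((g : End') - 1) * ((p : End') - 1) =
            (((g * p * g⁻¹ : GLM) : End') - 1) * (g : End') - ((p : End') - 1) := by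
          rw [UnipJoin.conj_sub_one, mul_assoc, ← Units.val_mul g⁻¹ g, inv_mul_cancel, Units.val_one, mul_one,
            sub_mul, one_mul]
        show ((g : End') - 1) * ((p : End') - 1) ∈ _
        rw [e]
        refine sub_mem (Submodule.mul_mem_mul (UnipJoin.sub_one_mem hp') ?_) (hV ▸ hN (UnipJoin.sub_one_mem hp))
        rw [show (g : End') = 1 + ((g : End') - 1) by abel]
        exact Submodule.add_mem_sup (Submodule.one_le.1 le_rfl) (UnipJoin.sub_one_mem hg)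
      | zero => simp
      | add x y _ _ ihx ihy => rw [mul_add]; exact add_mem ihx ihy
      | smul c x _ ihx => rw [mul_smul_comm]; exact Submodule.smul_mem _ c ihx
    | zero => simp
    | add x y _ _ ihx ihy => rw [add_mul]; exact add_mem ihx ihy
    | smul c x _ ihx => rw [smul_mul_assoc]; exact Submodule.smul_mem _ c ihx
  obtain ⟨m, hm⟩ := UnipJoin.pow_sup_eq_bot hn hV2 hVN
  have hm' := UnipJoin.alg_pow_eq_bot hm
  refine UnipJoin.isUnipotentOn_of_pow hm' fun g hg => ?_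
  have hle : X ≤ UnipJoin.congrGroup _ (fun x hx y hy => UnipJoin.mul_mem_alg hx hy) hm' := by
    rw [hX, Subgroup.closure_le]
    rintro g (hg | hg) <;>
      show (g : End') - 1 ∈ UnipJoin.alg (UnipJoin.nSpan (P : Set GLM) ⊔ V)
    · refine UnipJoin.le_alg _ (Submodule.mem_sup_left (UnipJoin.sub_one_mem ?_))
      rw [hP]
      refine (le_biSup (fun A : Subgroup GLM => A) (?_ : Subgroup.closure (Cfsg.scalarFamily g) ∈ W))
        (Subgroup.subset_closure ⟨1, by rw [one_smul, add_sub_cancel]⟩)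
      rw [hW]
      exact ⟨g, hg, 1, one_mem _, by simp⟩
    · exact UnipJoin.le_alg _ (Submodule.mem_sup_right (hV ▸ UnipJoin.sub_one_mem hg))
  exact hle hg

end Cfsg.Agent.Fus.QPair
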