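import Mathlib
import Cfsg.Prelude.Def_RootSubgroups
import Cfsg.Agent.Lib.Fus.QuadPairOpposite
import Cfsg.Agent.Lib.Fus.QuadPairClass

/-!
Opposite quadratic elements of minimal rank give special rank one groups.
-/

set_option autoImplicit false
set_option linter.unusedSectionVars false

namespace Cfsg.Agent.Fus.QPair

open Cfsg.Agent.Fus.RingSL

universe u

variable {k : Type u} [Field k] {M : Type u} [AddCommGroup M] [Module k M]
  {G : Subgroup (LinearMap.GeneralLinearGroup k M)}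

local notation "End'" => Module.End k M
local notation "GLM" => LinearMap.GeneralLinearGroup k M

/-- Scalar families of a class stay in the class. -/
theorem scalar_mem_class {a ρ : GLM} (hρ : ρ ∈ Cfsg.sameActionClass G a) {g : GLM}
    (hg : g ∈ Cfsg.scalarFamily ρ) : g = 1 ∨ g ∈ Cfsg.sameActionClass G a := by
  obtain ⟨hρ', hk, hr⟩ := hρ
  obtain ⟨c, hc⟩ := hg
  by_cases hc0 : c = 0
  · exact Or.inl (Units.ext (by rw [hc, hc0, zero_smul, add_zero, Units.val_one]))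
  have e : (g : End') - 1 = c • ((ρ : End') - 1) := by rw [hc, add_sub_cancel_left]
  have hk' : LinearMap.ker ((g : End') - 1) = LinearMap.ker ((ρ : End') - 1) := by
    rw [e, LinearMap.ker_smul _ _ hc0]
  have hr' : LinearMap.range ((g : End') - 1) = LinearMap.range ((ρ : End') - 1) := by
    rw [e, LinearMap.range_smul _ _ hc0]
  refine Or.inr ⟨⟨⟨hρ'.1.2.2 ⟨c, hc⟩, ⟨?_, ?_⟩, ?_⟩, fun ρ' hρ'' => ?_⟩, hk'.trans hk, hr'.trans hr⟩
  · rw [e, smul_mul_smul_comm, hρ'.1.2.1.1, smul_zero]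
  · rw [e]; exact smul_ne_zero hc0 hρ'.1.2.1.2
  · rintro g' ⟨d, hd⟩
    exact hρ'.1.2.2 ⟨d * c, by rw [hd, e, smul_smul]⟩
  · refine le_trans (le_of_eq ?_) (hρ'.2 ρ' hρ'')
    unfold Cfsg.commutatorRank
    rw [hr']

theorem self_mem_class {σ : GLM} (hσ : σ ∈ Cfsg.minimalQuadraticElements G) :
    σ ∈ Cfsg.sameActionClass G σ := ⟨hσ, rfl, rfl⟩

theorem subgroup_le {σ : GLM} : Cfsg.sameActionSubgroup G σ ≤ G :=
  (Subgroup.closure_le _).2 fun _ hg => hg.1.1.1

theorem famGroup_le {σ τ : GLM} (hσ : σ ∈ Cfsg.minimalQuadraticElements G)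
    (hτ : τ ∈ Cfsg.minimalQuadraticElements G) :
    famGroup ((σ : End') - 1) ((τ : End') - 1) ≤ Cfsg.sameActionSubgroup G σ ⊔ Cfsg.sameActionSubgroup G τ := by
  rw [famGroup_eq, sup_eq_closure, Subgroup.closure_le]
  rintro g (hg | hg)
  · rcases scalar_mem_class (self_mem_class hσ) hg with e | e
    · rw [e]; exact one_mem _
    · exact Subgroup.subset_closure (Or.inl e)
  · rcases scalar_mem_class (self_mem_class hτ) hg with e | e
    · rw [e]; exact one_mem _
    · exact Subgroup.subset_closure (Or.inr e)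

variable [FiniteDimensional k M]

/-- A map of `G` carrying both spaces carries the root group. -/
theorem conjBy_eq_of_map {g σ τ : GLM} (hg : g ∈ G) (hr : (rf σ).map (g : End') = rf τ)
    (hk : (kf σ).map (g : End') = kf τ) :
    Cfsg.conjBy (Cfsg.sameActionSubgroup G σ) g = Cfsg.sameActionSubgroup G τ := by
  have hig : ((g⁻¹ : GLM) : End') * (g : End') = 1 := by rw [← Units.val_mul, inv_mul_cancel, Units.val_one]
  have hback : ∀ V : Submodule k M, (V.map (g : End')).map ((g⁻¹ : GLM) : End') = V := fun V => by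
    rw [← Submodule.map_comp, ← Module.End.mul_eq_comp, hig, Module.End.one_eq_id, Submodule.map_id]
  rw [Cfsg.conjBy, Cfsg.sameActionSubgroup, Cfsg.sameActionSubgroup, MonoidHom.map_closure]
  refine congrArg Subgroup.closure (Set.ext fun y => ⟨?_, fun hy => ?_⟩)
  · rintro ⟨ρ, ⟨hρ, hρk, hρr⟩, rfl⟩
    obtain ⟨h1, h2, h3⟩ := conj_minimal hg hρ
    exact ⟨h1, h3.trans ((congrArg (Submodule.map _) hρk).trans hk), h2.trans ((congrArg (Submodule.map _) hρr).trans hr)⟩
  · obtain ⟨hy, hyk, hyr⟩ := hy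
    obtain ⟨h1, h2, h3⟩ := conj_minimal (G.inv_mem hg) hy
    refine ⟨g⁻¹ * y * g⁻¹⁻¹, ⟨h1, ?_, ?_⟩, by simp [mul_assoc]⟩
    · exact h3.trans ((congrArg (Submodule.map _) (hyk.trans hk.symm)).trans (hback _))
    · exact h2.trans ((congrArg (Submodule.map _) (hyr.trans hr.symm)).trans (hback _))

variable {s t E : Module.End k M} {q : Polynomial k}

/-- The lower elements of the model with a unit entry belong to the class of `τ`. -/
theorem phi_low_class (hk2 : ringChar k ≠ 2) (hk3 : Nat.card k ≠ 3) (hs : s * s = 0) (ht : t * t = 0)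
    (h : IsSplit (zz s t) E q) {τ : GLM} (hτ : τ ∈ Cfsg.minimalQuadraticElements G) (htt : (τ : End') - 1 = t)
    (hEt : E * t = t) (hG : famGroup s t ≤ G) (y : (AdjoinRoot q)ˣ) :
    phi hs ht h (low (y : AdjoinRoot q)) ∈ Cfsg.sameActionClass G τ := by
  obtain ⟨u, hu⟩ : ∃ u, u = y * (zUnit h)⁻¹ := ⟨_, rfl⟩
  have hyu : (u : AdjoinRoot q) * (zUnit h : AdjoinRoot q) = y := by rw [hu, ← Units.val_mul, inv_mul_cancel_right]
  have e : ((phi hs ht h (low (y : AdjoinRoot q)) : GLM) : End') - 1 = emb (zz s t) E (u : AdjoinRoot q) * t := by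
    rw [← hyu, phi_low hs ht h, add_sub_cancel_left]
  have cu : ∀ r, emb (zz s t) E r * t = t * emb (zz s t) E r := fun r => (emb_comm h (zz_comm_right ht) r).eq
  have hinv : emb (zz s t) E ((u⁻¹ : (AdjoinRoot q)ˣ) : AdjoinRoot q) * (emb (zz s t) E (u : AdjoinRoot q) * t) = t := by
    rw [← mul_assoc, ← emb_mul h, Units.inv_mul, emb_one h, hEt]
  have hk : LinearMap.ker ((phi hs ht h (low (y : AdjoinRoot q)) : End') - 1) = LinearMap.ker t := by
    rw [e]
    refine le_antisymm (fun v hv => ?_) fun v hv => ?_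
    · rw [LinearMap.mem_ker] at hv ⊢
      have := LinearMap.congr_fun hinv v
      rw [Module.End.mul_apply, hv, map_zero] at this
      exact this.symm
    · rw [LinearMap.mem_ker] at hv ⊢
      rw [Module.End.mul_apply, hv, map_zero]
  have hr : LinearMap.range ((phi hs ht h (low (y : AdjoinRoot q)) : End') - 1) = LinearMap.range t := by
    rw [e]
    refine le_antisymm ?_ ?_
    · rintro _ ⟨m, rfl⟩
      exact ⟨emb (zz s t) E (u : AdjoinRoot q) m, by rw [cu]; rfl⟩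
    · rintro _ ⟨m, rfl⟩
      refine ⟨emb (zz s t) E ((u⁻¹ : (AdjoinRoot q)ˣ) : AdjoinRoot q) m, ?_⟩
      rw [← Module.End.mul_apply, mul_assoc, ← cu, ← mul_assoc, ← emb_mul h, Units.mul_inv, emb_one h, hEt]
  refine ⟨⟨⟨hG (phi_mem hs ht h hk2 hk3 _).2, ⟨?_, ?_⟩, ?_⟩, fun ρ hρ => ?_⟩, by rw [htt]; exact hk, by rw [htt]; exact hr⟩
  · rw [e, cu, mul_assoc, ← mul_assoc (emb (zz s t) E _), cu, mul_assoc, ← mul_assoc t, ht, zero_mul]
  · intro e0
    rw [e] at e0
    rw [e0, mul_zero] at hinv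
    exact hτ.1.2.1.2 (htt.trans hinv.symm)
  · rintro g ⟨c, hc⟩
    have : g = phi hs ht h (low (algebraMap k (AdjoinRoot q) c * (u : AdjoinRoot q) * (zUnit h : AdjoinRoot q))) := by
      refine Units.ext ?_
      rw [hc, e, phi_low hs ht h, emb_mul h, emb_algebraMap h, smul_mul_assoc, E_emb h, smul_mul_assoc]
    exact this ▸ hG (phi_mem hs ht h hk2 hk3 _).2
  · refine le_trans (le_of_eq ?_) (hτ.2 ρ hρ)
    unfold Cfsg.commutatorRank
    rw [hr, htt]

variable {σ τ : LinearMap.GeneralLinearGroup k M}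

/-- The partner of an element of a root group in an opposite one. -/
theorem exists_partner (hk2 : ringChar k ≠ 2) (hk3 : Nat.card k ≠ 3)
    (hσ : σ ∈ Cfsg.minimalQuadraticElements G) (hτ : τ ∈ Cfsg.minimalQuadraticElements G) (hop : Opposite σ τ) :
    ∃ b ∈ Cfsg.sameActionClass G τ,
      Cfsg.conjBy (Cfsg.sameActionSubgroup G σ) (σ * b⁻¹) = Cfsg.sameActionSubgroup G τ ∧
      b⁻¹ * σ * b = σ⁻¹ * b⁻¹ * σ := by
  have hs := hσ.1.2.1.1
  have ht := hτ.1.2.1.1
  obtain ⟨E, q, h, -, hEs, hEt⟩ :=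
    exists_field hk2 hk3 hσ hτ (not_isNilpotent_of_opposite hs ht hσ.1.2.1.2 hop)
  have hG : famGroup ((σ : End') - 1) ((τ : End') - 1) ≤ G :=
    (famGroup_le hσ hτ).trans (sup_le subgroup_le subgroup_le)
  obtain ⟨φ, hφ⟩ : ∃ φ, φ = phi hs ht h := ⟨_, rfl⟩
  have hσ1 : φ (up 1) = σ := Units.ext (by rw [hφ, phi_up hs ht h, emb_one h, hEs, add_sub_cancel])
  have hb1 : φ (low 1) ∈ Cfsg.sameActionClass G τ :=
    hφ ▸ phi_low_class hk2 hk3 hs ht h hτ rfl hEt hG 1
  have hb2 : φ (low (-1)) ∈ Cfsg.sameActionClass G τ := by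
    simpa [← hφ] using phi_low_class hk2 hk3 hs ht h hτ rfl hEt hG (-1)
  refine ⟨φ (low 1), hb1, ?_, ?_⟩
  · obtain ⟨-, hr, hk⟩ := conj_minimal (mul_mem hσ.1.1 (inv_mem hb1.1.1.1)) hσ
    have e : σ * (φ (low 1))⁻¹ * σ * (σ * (φ (low 1))⁻¹)⁻¹ = φ (low (-1)) := by
      rw [← hσ1]
      simp only [← map_inv, ← map_mul]
      refine congrArg φ ?_
      rw [mul_inv_eq_iff_eq_mul]
      have hlow : (low (1 : AdjoinRoot q))⁻¹ = low (-1) := inv_eq_of_mul_eq_one_right (by
        refine ext4 ?_ ?_ ?_ ?_ <;> simp [Matrix.mul_apply, Fin.sum_univ_two])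
      rw [hlow]
      refine ext4 ?_ ?_ ?_ ?_ <;> simp [Matrix.mul_apply, Fin.sum_univ_two]
    rw [e] at hr hk
    exact conjBy_eq_of_map (mul_mem hσ.1.1 (inv_mem hb1.1.1.1)) (hr.symm.trans hb2.2.2) (hk.symm.trans hb2.2.1)
  · rw [← hσ1, mul_assoc _ _ (φ (low 1))]
    simp only [← map_inv, ← map_mul]
    refine congrArg φ ?_
    have hlow : (low (1 : AdjoinRoot q))⁻¹ = low (-1) := inv_eq_of_mul_eq_one_right (by
      refine ext4 ?_ ?_ ?_ ?_ <;> simp [Matrix.mul_apply, Fin.sum_univ_two])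
    rw [hlow, up_inv]
    refine ext4 ?_ ?_ ?_ ?_ <;> simp [Matrix.mul_apply, Fin.sum_univ_two]

theorem mem_class_of_mem (hk2 : ringChar k ≠ 2) (hk3 : Nat.card k ≠ 3) (hG : UnipFree G)
    (hσ : σ ∈ Cfsg.minimalQuadraticElements G) {a : GLM} (ha : a ∈ Cfsg.sameActionSubgroup G σ) (h1 : a ≠ 1) :
    a ∈ Cfsg.sameActionClass G σ :=
  ((class_spec hσ).1.subset ha).resolve_right h1

theorem subgroup_congr {a : GLM} (ha : a ∈ Cfsg.sameActionClass G σ) :
    Cfsg.sameActionSubgroup G a = Cfsg.sameActionSubgroup G σ := by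
  unfold Cfsg.sameActionSubgroup Cfsg.sameActionClass
  rw [ha.2.1, ha.2.2]

theorem exists_partner' (hk2 : ringChar k ≠ 2) (hk3 : Nat.card k ≠ 3) (hG : UnipFree G)
    (hσ : σ ∈ Cfsg.minimalQuadraticElements G) (hτ : τ ∈ Cfsg.minimalQuadraticElements G) (hop : Opposite σ τ)
    {a : GLM} (ha : a ∈ Cfsg.sameActionSubgroup G σ) (h1 : a ≠ 1) :
    ∃ b ∈ Cfsg.sameActionSubgroup G τ, b ≠ 1 ∧
      Cfsg.conjBy (Cfsg.sameActionSubgroup G σ) b⁻¹ = Cfsg.conjBy (Cfsg.sameActionSubgroup G τ) a⁻¹ ∧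
      b⁻¹ * a * b = a⁻¹ * b⁻¹ * a := by
  have hac := mem_class_of_mem hk2 hk3 hG hσ ha h1
  have hop' : Opposite a τ := by
    obtain ⟨o1, o2⟩ := hop
    exact ⟨by unfold rf; rw [hac.2.2]; exact o1, by unfold kf; rw [hac.2.1]; exact o2⟩
  obtain ⟨b, hb, hconj, hsp⟩ := exists_partner hk2 hk3 hac.1 hτ hop'
  refine ⟨b, Subgroup.subset_closure hb, ?_, ?_, hsp⟩
  · rintro rfl
    exact hb.1.1.2.1.2 (by rw [Units.val_one, sub_self])
  · rw [subgroup_congr hac] at hconj
    rw [← hconj, Cfsg.conjBy, Cfsg.conjBy, Cfsg.conjBy, Subgroup.map_map]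
    refine congrArg (fun f => Subgroup.map f _) (MonoidHom.ext fun x => ?_)
    simp [mul_assoc]

theorem rankOneCondition (hk2 : ringChar k ≠ 2) (hk3 : Nat.card k ≠ 3) (hG : UnipFree G)
    (hσ : σ ∈ Cfsg.minimalQuadraticElements G) (hτ : τ ∈ Cfsg.minimalQuadraticElements G) (hop : Opposite σ τ) :
    Cfsg.RankOneCondition (Cfsg.sameActionSubgroup G σ) (Cfsg.sameActionSubgroup G τ) := fun _a ha h1 => by
  obtain ⟨b, hb, hb1, he, -⟩ := exists_partner' hk2 hk3 hG hσ hτ hop ha h1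
  exact ⟨b, hb, hb1, he⟩

theorem isSpecialRankOnePair (hk2 : ringChar k ≠ 2) (hk3 : Nat.card k ≠ 3) (hG : UnipFree G)
    (hσ : σ ∈ Cfsg.minimalQuadraticElements G) (hτ : τ ∈ Cfsg.minimalQuadraticElements G) (hop : Opposite σ τ) :
    Cfsg.IsSpecialRankOnePair (Cfsg.sameActionSubgroup G σ) (Cfsg.sameActionSubgroup G τ) := by
  have hnil : ∀ ρ ∈ Cfsg.minimalQuadraticElements G, Group.IsNilpotent (Cfsg.sameActionSubgroup G ρ) := by
    intro ρ hρ
    have := (class_spec hρ).2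
    let : CommGroup (Cfsg.sameActionSubgroup G ρ) :=
      { (inferInstance : Group (Cfsg.sameActionSubgroup G ρ)) with mul_comm := fun a b => this.is_comm.comm a b }
    infer_instance
  have hrne : rf σ ≠ ⊥ := fun e => hσ.1.2.1.2 (LinearMap.range_eq_bot.1 e)
  refine ⟨⟨?_, hnil σ hσ, hnil τ hτ, rankOneCondition hk2 hk3 hG hσ hτ hop,
    rankOneCondition hk2 hk3 hG hτ hσ hop.symm⟩, fun a ha ha1 b' hb' _ he' => ?_⟩
  · intro e
    have hmem : σ ∈ Cfsg.sameActionClass G τ := mem_class_of_mem hk2 hk3 hG hτ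
      (e ▸ Subgroup.subset_closure (self_mem_class hσ))
      (fun h1 => hσ.1.2.1.2 (by rw [h1, Units.val_one, sub_self]))
    refine hrne ?_
    rw [eq_bot_iff]
    intro v hv
    rw [← hop.1]
    exact ⟨hv, show v ∈ LinearMap.ker ((τ : End') - 1) from hmem.2.1 ▸ rf_le_kf hσ.1.2.1.1 hv⟩
  · obtain ⟨b, hb, -, he, hsp⟩ := exists_partner' hk2 hk3 hG hσ hτ hop ha ha1
    have hdd : b' = b := by
      by_contra hne
      obtain ⟨d, hd⟩ : ∃ d : GLM, d = b * b'⁻¹ := ⟨_, rfl⟩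
      have hdB : d ∈ Cfsg.sameActionSubgroup G τ := hd ▸ mul_mem hb (inv_mem hb')
      have hd1 : d ≠ 1 := fun e => hne (mul_inv_eq_one.1 (hd.symm.trans e)).symm
      have hdc := mem_class_of_mem hk2 hk3 hG hτ hdB hd1
      have hmem : d * σ * d⁻¹ ∈ Cfsg.sameActionSubgroup G σ := by
        have h2 : b'⁻¹ * σ * b' ∈ Cfsg.conjBy (Cfsg.sameActionSubgroup G σ) b⁻¹ := by
          rw [he, ← he']
          exact ⟨σ, Subgroup.subset_closure (self_mem_class hσ), by simp⟩
        obtain ⟨x, hx, hxe⟩ := h2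
        have hxe' : b⁻¹ * x * b = b'⁻¹ * σ * b' := by simpa using hxe
        rw [show d * σ * d⁻¹ = b * (b'⁻¹ * σ * b') * b⁻¹ by rw [hd]; group, ← hxe']
        simpa [mul_assoc] using hx
      obtain ⟨hcm, hcr, -⟩ := conj_minimal (subgroup_le hdB) hσ
      have hcl := mem_class_of_mem hk2 hk3 hG hσ hmem
        (fun e => hcm.1.2.1.2 (by rw [e, Units.val_one, sub_self]))
      refine hrne ?_
      rw [eq_bot_iff]
      intro v hv
      have hdv : (d : End') v ∈ rf σ := hcl.2.2.le (hcr.ge (Submodule.mem_map_of_mem hv))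
      have h3 : ((d : End') - 1) v ∈ rf τ := hdc.2.2.le ⟨v, rfl⟩
      have h4 : ((d : End') - 1) v = 0 := by
        have : ((d : End') - 1) v ∈ rf σ ⊓ kf τ :=
          ⟨sub_mem hdv hv, rf_le_kf hτ.1.2.1.1 h3⟩
        rwa [hop.1, Submodule.mem_bot] at this
      rw [← hop.1]
      exact ⟨hv, show v ∈ LinearMap.ker ((τ : End') - 1) from hdc.2.1 ▸ LinearMap.mem_ker.2 h4⟩
    rw [hdd]; exact hsp

/-- The central involution and the splitting of the space. -/
theorem involution_compl (hk2 : ringChar k ≠ 2) (hk3 : Nat.card k ≠ 3)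
    (hσ : σ ∈ Cfsg.minimalQuadraticElements G) (hτ : τ ∈ Cfsg.minimalQuadraticElements G) (hop : Opposite σ τ)
    {X : Subgroup GLM} (hX : X = Cfsg.sameActionSubgroup G σ ⊔ Cfsg.sameActionSubgroup G τ) :
    (∃! i : GLM, i ∈ X ∧ i ≠ 1 ∧ i * i = 1 ∧ (∀ x ∈ X, i * x = x * i) ∧
      (∀ m ∈ Cfsg.commutatorSubmodule X, (i : End') m = -m) ∧ (∀ m ∈ Cfsg.fixedSubmodule X, (i : End') m = m)) ∧
    IsCompl (Cfsg.fixedSubmodule X) (Cfsg.commutatorSubmodule X) := by
  have hs := hσ.1.2.1.1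
  have ht := hτ.1.2.1.1
  obtain ⟨E, q, h, -, hEs, hEt⟩ :=
    exists_field hk2 hk3 hσ hτ (not_isNilpotent_of_opposite hs ht hσ.1.2.1.2 hop)
  have hσX : σ ∈ X := hX ▸ Subgroup.mem_sup_left (Subgroup.subset_closure (self_mem_class hσ))
  have hτX : τ ∈ X := hX ▸ Subgroup.mem_sup_right (Subgroup.subset_closure (self_mem_class hτ))
  have hsE : ((σ : End') - 1) * E = (σ : End') - 1 := by rw [← (E_comm h (zz_comm_left hs)).eq, hEs]
  have htE : ((τ : End') - 1) * E = (τ : End') - 1 := by rw [← (E_comm h (zz_comm_right ht)).eq, hEt]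
  have hW : Cfsg.commutatorSubmodule X = LinearMap.range E := by
    refine le_antisymm (iSup₂_le fun g hg => ?_) ?_
    · refine subgroup_sub_one (W := LinearMap.range E) (le_of_eq (hX.trans (sup_eq_closure σ τ))) ?_ hg
      rintro g (⟨-, -, hr⟩ | ⟨-, -, hr⟩) <;> rw [hr] <;> rintro _ ⟨m, rfl⟩
      exacts [⟨((σ : End') - 1) m, LinearMap.congr_fun hEs m⟩, ⟨((τ : End') - 1) m, LinearMap.congr_fun hEt m⟩]
    · rintro _ ⟨m, rfl⟩
      rw [← mu_sum hs ht h]
      have cW : ∀ {a : End'}, Commute (zz ((σ : End') - 1) ((τ : End') - 1)) a → ∀ r,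
          emb (zz ((σ : End') - 1) ((τ : End') - 1)) E r * a = a * emb _ E r := fun ha r => (emb_comm h ha r).eq
      refine Submodule.add_mem _ ?_ ?_
      · refine Submodule.mem_iSup_of_mem σ (Submodule.mem_iSup_of_mem hσX ?_)
        simp only [mu, Matrix.cons_val_zero]
        rw [← mul_assoc, cW (zz_comm_left hs)]
        exact ⟨_, rfl⟩
      · refine Submodule.mem_iSup_of_mem τ (Submodule.mem_iSup_of_mem hτX ?_)
        simp only [mu, Matrix.cons_val_one, Matrix.cons_val_fin_one]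
        rw [← mul_assoc, cW (zz_comm_right ht)]
        exact ⟨_, rfl⟩
  have hfixX : ∀ v, E v = 0 → ∀ x ∈ X, (x : End') v = v := by
    intro v hv x hx
    refine subgroup_fix (S := Cfsg.sameActionClass G σ ∪ Cfsg.sameActionClass G τ) ?_ (sup_eq_closure (G := G) σ τ ▸ hX ▸ hx)
    rintro g (⟨-, hk, -⟩ | ⟨-, hk, -⟩) <;> refine sub_eq_zero.1 ?_ <;>
      show v ∈ LinearMap.ker ((g : End') - 1) <;> rw [hk, LinearMap.mem_ker]
    · rw [← hsE, Module.End.mul_apply, hv, map_zero]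
    · rw [← htE, Module.End.mul_apply, hv, map_zero]
  have hC : Cfsg.fixedSubmodule X = LinearMap.ker E := by
    refine le_antisymm (fun v hv => ?_) fun v hv => ?_
    · simp only [Cfsg.fixedSubmodule, Submodule.mem_iInf] at hv
      rw [LinearMap.mem_ker, ← mu_sum hs ht h]
      simp [mu, Module.End.mul_apply, LinearMap.mem_ker.1 (hv σ hσX), LinearMap.mem_ker.1 (hv τ hτX)]
    · simp only [Cfsg.fixedSubmodule, Submodule.mem_iInf]
      intro x hx
      exact sub_eq_zero.2 (hfixX v hv x hx)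
  have hdec : ∀ m, m = E m + (m - E m) ∧ E (m - E m) = 0 := fun m =>
    ⟨(add_sub_cancel _ _).symm, by rw [map_sub, ← Module.End.mul_apply, h.idem, sub_self]⟩
  have hid : ∀ m ∈ LinearMap.range E, E m = m := by
    rintro _ ⟨m, rfl⟩; rw [← Module.End.mul_apply, h.idem]
  obtain ⟨g0, hg0⟩ : ∃ g0 : Matrix.SpecialLinearGroup (Fin 2) (AdjoinRoot q),
      g0 = (up 1 * low (-1) * up 1) * (up 1 * low (-1) * up 1) := ⟨_, rfl⟩
  obtain ⟨i, hi⟩ : ∃ i, i = phi hs ht h g0 := ⟨_, rfl⟩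
  have hiX : i ∈ X := by
    have hle := hX ▸ famGroup_le hσ hτ
    have hu := fun a => hle (phi_mem hs ht h hk2 hk3 a).1
    have hl := fun a => hle (phi_mem hs ht h hk2 hk3 a).2
    rw [hi, hg0]
    simp only [map_mul]
    exact mul_mem (mul_mem (mul_mem (hu _) (hl _)) (hu _)) (mul_mem (mul_mem (hu _) (hl _)) (hu _))
  have hiE : (i : End') = 1 - E - E := by
    rw [hi, coe_phi, hg0]
    simp [phiFun, Fin.sum_univ_two, Matrix.mul_apply, emb_zero h]
    have hneg : emb (zz ((σ : End') - 1) ((τ : End') - 1)) E (-1 : AdjoinRoot q) = -E := by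
      refine eq_neg_of_add_eq_zero_left ?_
      have := emb_add h (-1 : AdjoinRoot q) 1
      rw [neg_add_cancel, emb_zero h, emb_one h] at this
      exact this.symm
    rw [hneg, neg_mul, neg_mul, E_mu hs ht h, E_mu hs ht h, ← neg_add, mu_sum hs ht h]
    abel
  have hiW : ∀ m ∈ Cfsg.commutatorSubmodule X, (i : End') m = -m := by
    intro m hm
    rw [hiE]
    simp [hid m (hW ▸ hm)]
  have hiC : ∀ m ∈ Cfsg.fixedSubmodule X, (i : End') m = m := by
    intro m hm
    rw [hC, LinearMap.mem_ker] at hm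
    rw [hiE]
    simp [hm]
  have h2 : (2 : k) ≠ 0 := Ring.two_ne_zero hk2
  refine ⟨⟨i, ⟨hiX, ?_, ?_, fun x hx => ?_, hiW, hiC⟩, ?_⟩, ?_⟩
  · intro e
    refine hσ.1.2.1.2 (LinearMap.ext fun m => ?_)
    have hm : ((σ : End') - 1) m ∈ Cfsg.commutatorSubmodule X :=
      Submodule.mem_iSup_of_mem σ (Submodule.mem_iSup_of_mem hσX ⟨m, rfl⟩)
    have := hiW _ hm
    rw [e, Units.val_one, Module.End.one_apply, ← add_eq_zero_iff_eq_neg, ← two_smul k] at this
    exact (smul_eq_zero.1 this).resolve_left h2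
  · refine Units.ext ?_
    rw [Units.val_mul, hiE, Units.val_one]
    simp only [sub_mul, mul_sub, one_mul, mul_one, h.idem]
    abel
  · have e1 : (x : End') * E = E * (x : End') := by
      refine LinearMap.ext fun m => ?_
      obtain ⟨hm, hm0⟩ := hdec m
      rw [Module.End.mul_apply, Module.End.mul_apply]
      conv_rhs => rw [hm, map_add, map_add, hfixX _ hm0 x hx, hm0, add_zero]
      have h1 : ((x : End') - 1) (E m) ∈ LinearMap.range E :=
        hW ▸ Submodule.mem_iSup_of_mem x (Submodule.mem_iSup_of_mem hx ⟨_, rfl⟩)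
      have h2 := hid _ h1
      rw [LinearMap.sub_apply, Module.End.one_apply, map_sub, ← Module.End.mul_apply E E, h.idem] at h2
      exact (sub_left_inj.1 h2).symm
    refine Units.ext ?_
    rw [Units.val_mul, Units.val_mul, hiE]
    simp only [sub_mul, mul_sub, one_mul, mul_one, e1]
  · rintro j ⟨-, -, -, -, hjW, hjC⟩
    refine Units.ext (LinearMap.ext fun m => ?_)
    obtain ⟨hm, hm0⟩ := hdec m
    have e1 : E m ∈ Cfsg.commutatorSubmodule X := hW ▸ ⟨m, rfl⟩
    have e2 : m - E m ∈ Cfsg.fixedSubmodule X := hC ▸ hm0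
    rw [hm, map_add, map_add, hjW _ e1, hiW _ e1, hjC _ e2, hiC _ e2]
  · rw [hC, hW]
    refine ⟨Submodule.disjoint_def.2 fun v h1 h2 => ?_, codisjoint_iff.2 (Submodule.eq_top_iff'.2 fun m => ?_)⟩
    · rw [← hid v h2, LinearMap.mem_ker.1 h1]
    · obtain ⟨hm, hm0⟩ := hdec m
      rw [hm]
      exact Submodule.add_mem _ (Submodule.mem_sup_right ⟨m, rfl⟩) (Submodule.mem_sup_left hm0)

end Cfsg.Agent.Fus.QPair
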