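import Mathlib
import Cfsg.Prelude.Def_RootSubgroups
import Cfsg.Agent.Lib.Fus.QuadPairRankOne

/-!
The vector space `{g - 1}` attached to a root group `E(σ)` of a quadratic pair.
-/

set_option autoImplicit false
set_option linter.unusedSectionVars false

namespace Cfsg.Agent.Fus.QPair

universe u

variable {k : Type u} [Field k] {M : Type u} [AddCommGroup M] [Module k M]
  {G : Subgroup (LinearMap.GeneralLinearGroup k M)} {σ τ : LinearMap.GeneralLinearGroup k M}

local notation "End'" => Module.End k M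
local notation "GLM" => LinearMap.GeneralLinearGroup k M

/-- The space of the `g - 1`, `g ∈ E(σ)`. -/
def rootSpace (G : Subgroup GLM) (σ : GLM) : Submodule k End' :=
  UnipJoin.nSpan (Cfsg.sameActionClass G σ)

theorem rootSpace_le {a : End'} (ha : a ∈ rootSpace G σ) : kf σ ≤ LinearMap.ker a ∧ LinearMap.range a ≤ rf σ := by
  induction ha using Submodule.span_induction with
  | mem a ha =>
    obtain ⟨g, ⟨-, hk, hr⟩, rfl⟩ := ha
    exact ⟨hk.ge, hr.le⟩
  | zero => exact ⟨by simp, by simp⟩
  | add a b _ _ iha ihb =>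
    refine ⟨fun v hv => ?_, ?_⟩
    · rw [LinearMap.mem_ker, LinearMap.add_apply, LinearMap.mem_ker.1 (iha.1 hv), LinearMap.mem_ker.1 (ihb.1 hv),
        add_zero]
    · rintro _ ⟨m, rfl⟩
      exact add_mem (iha.2 ⟨m, rfl⟩) (ihb.2 ⟨m, rfl⟩)
  | smul c a _ iha =>
    refine ⟨fun v hv => ?_, ?_⟩
    · rw [LinearMap.mem_ker, LinearMap.smul_apply, LinearMap.mem_ker.1 (iha.1 hv), smul_zero]
    · rintro _ ⟨m, rfl⟩
      exact Submodule.smul_mem _ c (iha.2 ⟨m, rfl⟩)

theorem rootSpace_mul (hs : ((σ : End') - 1) * ((σ : End') - 1) = 0) {a b : End'} (ha : a ∈ rootSpace G σ)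
    (hb : b ∈ rootSpace G σ) : a * b = 0 := by
  refine LinearMap.ext fun m => ?_
  exact LinearMap.mem_ker.1 ((rootSpace_le ha).1 (rf_le_kf hs ((rootSpace_le hb).2 ⟨m, rfl⟩)))

theorem rootSpace_alg (hs : ((σ : End') - 1) * ((σ : End') - 1) = 0) :
    UnipJoin.alg (rootSpace G σ) = rootSpace G σ := by
  refine le_antisymm (iSup_le fun i => ?_) (UnipJoin.le_alg _)
  rcases i with _ | i
  · rw [zero_add, pow_one]
  · rw [add_assoc, pow_add, pow_two, show rootSpace G σ * rootSpace G σ = ⊥ from
      le_bot_iff.1 (Submodule.mul_le.2 fun a ha b hb => (Submodule.mem_bot k).2 (rootSpace_mul hs ha hb)),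
      Submodule.mul_bot]
    exact bot_le

variable [FiniteDimensional k M] (hk2 : ringChar k ≠ 2) (hk3 : Nat.card k ≠ 3) (hG : UnipFree G)
  (hσ : σ ∈ Cfsg.minimalQuadraticElements G)

include hk2 hk3 hG hσ

/-- Every element of the space comes from the group. -/
theorem exists_elem {a : End'} (ha : a ∈ rootSpace G σ) :
    ∃ g ∈ Cfsg.sameActionSubgroup G σ, (g : End') = 1 + a := by
  induction ha using Submodule.span_induction with
  | mem a ha =>
    obtain ⟨g, hg, rfl⟩ := ha
    exact ⟨g, Subgroup.subset_closure hg, (add_sub_cancel _ _).symm⟩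
  | zero => exact ⟨1, one_mem _, by rw [Units.val_one, add_zero]⟩
  | add a b ha hb iha ihb =>
    obtain ⟨g, hg, e⟩ := iha
    obtain ⟨f, hf, e'⟩ := ihb
    refine ⟨g * f, mul_mem hg hf, ?_⟩
    rw [Units.val_mul, e, e']
    simp only [add_mul, mul_add, one_mul, mul_one, rootSpace_mul hσ.1.2.1.1 ha hb]
    abel
  | smul c a _ iha =>
    obtain ⟨g, hg, e⟩ := iha
    by_cases h1 : g = 1
    · refine ⟨1, one_mem _, ?_⟩
      rw [h1, Units.val_one] at e
      rw [Units.val_one, (add_eq_left.1 e.symm), smul_zero, add_zero]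
    have hgc := mem_class_of_mem hk2 hk3 hG hσ hg h1
    have hinv : (1 + c • a) * (1 + (-c) • a) = 1 ∧ (1 + (-c) • a) * (1 + c • a) = 1 := by
      have ha2 : a * a = 0 := by
        have := hgc.1.1.2.1.1
        rwa [e, add_sub_cancel_left] at this
      constructor <;>
      · simp only [add_mul, mul_add, one_mul, mul_one, smul_mul_assoc, mul_smul_comm, ha2, smul_zero, add_zero]
        rw [neg_smul]; abel
    obtain ⟨g', hg'⟩ : ∃ g' : GLM, (g' : End') = 1 + c • a := ⟨⟨_, _, hinv.1, hinv.2⟩, rfl⟩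
    refine ⟨g', ?_, hg'⟩
    rcases scalar_mem_class hgc (show g' ∈ Cfsg.scalarFamily g from ⟨c, by rw [hg', e, add_sub_cancel_left]⟩) with
      h | h
    · rw [h]; exact one_mem _
    · exact Subgroup.subset_closure h

theorem sub_one_mem_rootSpace {g : GLM} (hg : g ∈ Cfsg.sameActionSubgroup G σ) :
    (g : End') - 1 ∈ rootSpace G σ := by
  by_cases h1 : g = 1
  · rw [h1, Units.val_one, sub_self]; exact zero_mem _
  · exact UnipJoin.sub_one_mem (mem_class_of_mem hk2 hk3 hG hσ hg h1)

/-- A nonzero element of the space gives a member of the class. -/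
theorem exists_class {a : End'} (ha : a ∈ rootSpace G σ) (h0 : a ≠ 0) :
    ∃ g ∈ Cfsg.sameActionClass G σ, (g : End') = 1 + a := by
  obtain ⟨g, hg, e⟩ := exists_elem hk2 hk3 hG hσ ha
  refine ⟨g, mem_class_of_mem hk2 hk3 hG hσ hg (fun h1 => h0 ?_), e⟩
  rw [h1, Units.val_one] at e
  exact add_eq_left.1 e.symm

theorem ker_range {a : End'} (ha : a ∈ rootSpace G σ) (h0 : a ≠ 0) :
    LinearMap.ker a = kf σ ∧ LinearMap.range a = rf σ := by
  obtain ⟨g, ⟨-, hk, hr⟩, e⟩ := exists_class hk2 hk3 hG hσ ha h0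
  rw [e, add_sub_cancel_left] at hk hr
  exact ⟨hk, hr⟩

omit hσ in
/-- Conjugation maps root spaces into root spaces. -/
theorem conj_rootSpace {g : GLM} (hg : g ∈ G) {a : End'} (ha : a ∈ rootSpace G σ) :
    (g : End') * a * ((g⁻¹ : GLM) : End') ∈ rootSpace G (g * σ * g⁻¹) := by
  induction ha using Submodule.span_induction with
  | mem a ha =>
    obtain ⟨f, ⟨hf, hk, hr⟩, rfl⟩ := ha
    refine Submodule.subset_span ⟨g * f * g⁻¹, ?_, UnipJoin.conj_sub_one g f⟩
    obtain ⟨h1, h2, h3⟩ := conj_minimal hg hf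
    have e : ((g * σ * g⁻¹ : GLM) : End') - 1 = (g : End') * ((σ : End') - 1) * ((g⁻¹ : GLM) : End') :=
      UnipJoin.conj_sub_one g σ
    have hsur : Function.Surjective ((g⁻¹ : GLM) : End') := fun m => ⟨(g : End') m, by
      rw [← Module.End.mul_apply, ← Units.val_mul, inv_mul_cancel, Units.val_one, Module.End.one_apply]⟩
    refine ⟨h1, ?_, ?_⟩
    · rw [e, UnipJoin.conj_sub_one, mul_assoc, mul_assoc]
      ext m
      have hinj : Function.Injective (g : End') := fun x y hxy => by
        have := congrArg ((g⁻¹ : GLM) : End') hxy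
        rwa [← Module.End.mul_apply, ← Module.End.mul_apply, ← Units.val_mul, inv_mul_cancel, Units.val_one,
          Module.End.one_apply, Module.End.one_apply] at this
      simp only [LinearMap.mem_ker, Module.End.mul_apply, LinearMap.map_eq_zero_iff _ hinj]
      exact SetLike.ext_iff.1 hk _
    · refine h2.trans ?_
      rw [e, LinearMap.range_eq_map, Module.End.mul_eq_comp, Submodule.map_comp, Submodule.map_top,
        LinearMap.range_eq_top.2 hsur, Module.End.mul_eq_comp, Submodule.map_comp, Submodule.map_top]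
      exact congrArg _ hr
  | zero => simp
  | add a b _ _ iha ihb => rw [mul_add, add_mul]; exact add_mem iha ihb
  | smul c a _ iha => rw [mul_smul_comm, smul_mul_assoc]; exact Submodule.smul_mem _ c iha

omit hσ in
theorem finrank_rootSpace_le {g : GLM} (hg : g ∈ G) :
    Module.finrank k (rootSpace G σ) ≤ Module.finrank k (rootSpace G (g * σ * g⁻¹)) := by
  obtain ⟨f, hf⟩ : ∃ f : rootSpace G σ →ₗ[k] rootSpace G (g * σ * g⁻¹),
      ∀ a, (f a : End') = (g : End') * (a : End') * ((g⁻¹ : GLM) : End') :=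
    ⟨{ toFun := fun a => ⟨_, conj_rootSpace hk2 hk3 hG hg a.2⟩
       map_add' := fun a b => Subtype.ext (by simp [mul_add, add_mul])
       map_smul' := fun c a => Subtype.ext (by simp [mul_smul_comm, smul_mul_assoc]) }, fun _ => rfl⟩
  refine LinearMap.finrank_le_finrank_of_injective (f := f) fun a b hab => Subtype.ext ?_
  have := congrArg (fun x : rootSpace G (g * σ * g⁻¹) => ((g⁻¹ : GLM) : End') * (x : End') * (g : End')) hab
  simp only [hf, ← mul_assoc, ← Units.val_mul, inv_mul_cancel, Units.val_one, one_mul] at this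
  simpa [mul_assoc] using this

omit hk2 hk3 hG hσ in
theorem rootSpace_congr {ρ : GLM} (h : ρ ∈ Cfsg.sameActionClass G σ) : rootSpace G ρ = rootSpace G σ := by
  unfold rootSpace Cfsg.sameActionClass
  rw [h.2.1, h.2.2]

omit hk2 hk3 hG hσ in
theorem subgroup_eq_of_spaces {ρ : GLM} (hk : kf ρ = kf σ) (hr : rf ρ = rf σ) :
    Cfsg.sameActionSubgroup G ρ = Cfsg.sameActionSubgroup G σ := by
  unfold Cfsg.sameActionSubgroup Cfsg.sameActionClass
  rw [show LinearMap.ker ((ρ : End') - 1) = LinearMap.ker ((σ : End') - 1) from hk,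
    show LinearMap.range ((ρ : End') - 1) = LinearMap.range ((σ : End') - 1) from hr]

end Cfsg.Agent.Fus.QPair
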