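import Mathlib
import Cfsg.Prelude.Def_RootSubgroups
import Cfsg.Agent.Lib.Fus.QuadPairRootSpace

/-!
Two root groups of a quadratic pair generating a unipotent group: `aba = bab = 0`, and the commutator
`1 + (ab - ba)` is trivial or again a quadratic element of minimal rank.
-/

set_option autoImplicit false
set_option linter.unusedSectionVars false

namespace Cfsg.Agent.Fus.QPair

universe u

variable {k : Type u} [Field k] {M : Type u} [AddCommGroup M] [Module k M] [FiniteDimensional k M]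
  {G : Subgroup (LinearMap.GeneralLinearGroup k M)} {σ τ : LinearMap.GeneralLinearGroup k M}

local notation "End'" => Module.End k M
local notation "GLM" => LinearMap.GeneralLinearGroup k M

omit [FiniteDimensional k M] in
/-- The commutator of `1 + a` and `1 + b` when `aba = 0`. -/
theorem comm_formula {a b : End'} (ha : a * a = 0) (haba : a * b * a = 0) (c : k)
    (x y : GLM) (hx : (x : End') = 1 + c • a) (hy : (y : End') = 1 + b) (hb : b * b = 0) :
    ((x * y * x⁻¹ * y⁻¹ : GLM) : End') = 1 + c • (a * b - b * a) + c • (b * a * b) := by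
  have hx' : ((x⁻¹ : GLM) : End') = 1 + (-c) • a := by
    refine Units.inv_eq_of_mul_eq_one_right ?_
    rw [hx]
    simp only [add_mul, mul_add, one_mul, mul_one, smul_mul_assoc, mul_smul_comm, ha, smul_zero, add_zero]
    rw [neg_smul]; abel
  have hy' : ((y⁻¹ : GLM) : End') = 1 + -b := by
    refine Units.inv_eq_of_mul_eq_one_right ?_
    rw [hy]
    simp only [add_mul, mul_add, one_mul, mul_one, mul_neg, hb, add_zero]
    abel
  have habb : a * b * b = 0 := by rw [mul_assoc, hb, mul_zero]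
  simp only [Units.val_mul, hx, hy, hx', hy', add_mul, mul_add, one_mul, mul_one, smul_mul_assoc, mul_smul_comm,
    mul_neg, neg_mul, haba, ha, hb, habb, smul_zero, add_zero,
    neg_smul, smul_sub, smul_add]
  abel

omit [FiniteDimensional k M] in
theorem exists_unit {a : End'} (ha : a * a = 0) (c : k) : ∃ g : GLM, (g : End') = 1 + c • a :=
  ⟨⟨1 + c • a, 1 + (-c) • a, by
      simp only [add_mul, mul_add, one_mul, mul_one, smul_mul_assoc, mul_smul_comm, ha, smul_zero, add_zero]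
      rw [neg_smul]; abel, by
      simp only [add_mul, mul_add, one_mul, mul_one, smul_mul_assoc, mul_smul_comm, ha, smul_zero, add_zero]
      rw [neg_smul]; abel⟩, rfl⟩

/-- A quadratic family of small rank is minimal. -/
theorem minimal_of_rank {u : End'} (hu : u * u = 0) (h0 : u ≠ 0) (hmem : ∀ c : k, ∀ g : GLM, (g : End') = 1 + c • u → g ∈ G)
    (hσ : σ ∈ Cfsg.minimalQuadraticElements G) (hrk : Module.finrank k (LinearMap.range u) ≤ Cfsg.commutatorRank σ) :
    ∃ g : GLM, (g : End') = 1 + u ∧ g ∈ Cfsg.minimalQuadraticElements G ∧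
      Cfsg.commutatorRank σ = Module.finrank k (LinearMap.range u) := by
  obtain ⟨g, hg⟩ := exists_unit hu (1 : k)
  rw [one_smul] at hg
  have e : (g : End') - 1 = u := by rw [hg, add_sub_cancel_left]
  have hq : g ∈ Cfsg.quadraticElements G := by
    refine ⟨hmem 1 g (by rw [hg, one_smul]), ⟨?_, ?_⟩, ?_⟩
    · show ((g : End') - 1) * ((g : End') - 1) = 0
      rw [e]; exact hu
    · show (g : End') - 1 ≠ 0
      rw [e]; exact h0
    · rintro f ⟨c, hc⟩
      exact hmem c f (by rw [hc, e])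
  have hr : Cfsg.commutatorRank g = Module.finrank k (LinearMap.range u) := by rw [Cfsg.commutatorRank, e]
  have h1 := hσ.2 g hq
  exact ⟨g, hg, ⟨hq, fun ρ hρ => by have := hσ.2 ρ hρ; omega⟩, by omega⟩

variable (hk2 : ringChar k ≠ 2) (hk3 : Nat.card k ≠ 3) (hG : UnipFree G)

include hk2 hk3 hG

theorem comm_mem {σ τ : GLM} (hσ : σ ∈ Cfsg.minimalQuadraticElements G) (hτ : τ ∈ Cfsg.minimalQuadraticElements G)
    {a b : End'} (ha : a ∈ rootSpace G σ) (hb : b ∈ rootSpace G τ) (haba : a * b * a = 0) (c : k) :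
    ∃ g ∈ G, (g : End') = 1 + c • (a * b - b * a) + c • (b * a * b) := by
  obtain ⟨x, hx, ex⟩ := exists_elem hk2 hk3 hG hσ (Submodule.smul_mem _ c ha)
  obtain ⟨y, hy, ey⟩ := exists_elem hk2 hk3 hG hτ hb
  exact ⟨x * y * x⁻¹ * y⁻¹, mul_mem (mul_mem (mul_mem (subgroup_le hx) (subgroup_le hy))
    (inv_mem (subgroup_le hx))) (inv_mem (subgroup_le hy)),
    comm_formula (rootSpace_mul hσ.1.2.1.1 ha ha) haba c x y ex ey (rootSpace_mul hτ.1.2.1.1 hb hb)⟩

/-- The consequences of a nontrivial commutator. -/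
theorem class_two {σ τ : GLM} (hσ : σ ∈ Cfsg.minimalQuadraticElements G) (hτ : τ ∈ Cfsg.minimalQuadraticElements G)
    {a b : End'} (ha : a ∈ rootSpace G σ) (hb : b ∈ rootSpace G τ) (haba : a * b * a = 0) (hbab : b * a * b = 0)
    (hu : a * b - b * a ≠ 0) :
    ∃ δ ∈ Cfsg.minimalQuadraticElements G, (δ : End') = 1 + (a * b - b * a) ∧
      rf δ = (rf σ ⊓ kf τ) ⊔ (rf τ ⊓ kf σ) ∧ kf δ = (kf τ ⊔ rf σ) ⊓ (kf σ ⊔ rf τ) ∧
      rf σ ⊓ rf τ = ⊥ ∧ (rf τ).map a = rf σ ⊓ kf τ ∧ (rf σ).map b = rf τ ⊓ kf σ := by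
  have hs := hσ.1.2.1.1
  have ht := hτ.1.2.1.1
  have ha0 : a ≠ 0 := fun e => hu (by rw [e, zero_mul, mul_zero, sub_zero])
  have hb0 : b ≠ 0 := fun e => hu (by rw [e, zero_mul, mul_zero, sub_zero])
  obtain ⟨hka, hra⟩ := ker_range hk2 hk3 hG hσ ha ha0
  obtain ⟨hkb, hrb⟩ := ker_range hk2 hk3 hG hτ hb hb0
  obtain ⟨u, hu'⟩ : ∃ u, u = a * b - b * a := ⟨_, rfl⟩
  rw [← hu'] at hu ⊢
  have haa := rootSpace_mul (G := G) hs ha ha
  have hbb := rootSpace_mul (G := G) ht hb hb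
  have hm : ∀ x y z : End', ∀ w, x * y * z = 0 → x (y (z w)) = 0 := fun x y z w e => by
    have := LinearMap.congr_fun e w; exact this
  have huu : u * u = 0 := by
    refine LinearMap.ext fun m => ?_
    rw [hu']
    simp only [Module.End.mul_apply, LinearMap.sub_apply, map_sub, LinearMap.zero_apply]
    rw [hm a b a _ haba, hm b a b _ hbab, ← Module.End.mul_apply b b, hbb, ← Module.End.mul_apply a a, haa]
    simp
  obtain ⟨P, hP⟩ : ∃ P, P = (rf τ).map a := ⟨_, rfl⟩
  obtain ⟨Q, hQ⟩ : ∃ Q, Q = (rf σ).map b := ⟨_, rfl⟩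
  rw [← hP, ← hQ]
  have hPle : P ≤ rf σ ⊓ kf τ := by
    rw [hP]
    rintro _ ⟨v, hv, rfl⟩
    refine ⟨(rootSpace_le ha).2 ⟨v, rfl⟩, ?_⟩
    show a v ∈ kf τ
    rw [← hkb]
    rw [← hrb] at hv
    obtain ⟨w, rfl⟩ := hv
    exact LinearMap.mem_ker.2 (hm b a b w hbab)
  have hQle : Q ≤ rf τ ⊓ kf σ := by
    rw [hQ]
    rintro _ ⟨v, hv, rfl⟩
    refine ⟨(rootSpace_le hb).2 ⟨v, rfl⟩, ?_⟩
    show b v ∈ kf σ
    rw [← hka]
    rw [← hra] at hv
    obtain ⟨w, rfl⟩ := hv
    exact LinearMap.mem_ker.2 (hm a b a w haba)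
  have hdim : ∀ (f : End') (V : Submodule k M), Module.finrank k (V.map f) +
      Module.finrank k (V ⊓ LinearMap.ker f : Submodule k M) = Module.finrank k V := by
    intro f V
    have h := LinearMap.finrank_range_add_finrank_ker (f.domRestrict V)
    have e1 : LinearMap.range (f.domRestrict V) = V.map f := by
      ext x
      constructor
      · rintro ⟨v, rfl⟩; exact ⟨v, v.2, rfl⟩
      · rintro ⟨v, hv, rfl⟩; exact ⟨⟨v, hv⟩, rfl⟩
    have e2 : Module.finrank k (LinearMap.ker (f.domRestrict V)) =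
        Module.finrank k (V ⊓ LinearMap.ker f : Submodule k M) := by
      rw [← Submodule.finrank_map_subtype_eq]
      refine congrArg (fun W : Submodule k M => Module.finrank k W) ?_
      ext x
      constructor
      · rintro ⟨v, hv, rfl⟩; exact ⟨v.2, hv⟩
      · rintro ⟨h1, h2⟩; exact ⟨⟨x, h1⟩, h2, rfl⟩
    rw [e1, e2] at h
    exact h
  have hru : LinearMap.range u ≤ P ⊔ Q := by
    rintro _ ⟨m, rfl⟩
    rw [hu', LinearMap.sub_apply]
    refine sub_mem (Submodule.mem_sup_left ?_) (Submodule.mem_sup_right ?_)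
    · rw [hP]; exact ⟨b m, (rootSpace_le hb).2 ⟨m, rfl⟩, rfl⟩
    · rw [hQ]; exact ⟨a m, (rootSpace_le ha).2 ⟨m, rfl⟩, rfl⟩
  obtain ⟨d, hd⟩ : ∃ d, d = Cfsg.commutatorRank σ := ⟨_, rfl⟩
  have hdσ : Module.finrank k (rf σ) = d := hd.symm
  have hdτ : Module.finrank k (rf τ) = d := by
    have h1 := hσ.2 τ hτ.1
    have h2 := hτ.2 σ hσ.1
    have e1 : Module.finrank k (rf τ) = Cfsg.commutatorRank τ := rfl
    omega
  have e1 := hdim a (rf τ)
  have e2 := hdim b (rf σ)
  rw [hdτ, hka, ← hP] at e1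
  rw [hdσ, hkb, ← hQ] at e2
  have l1 := Submodule.finrank_mono hPle
  have l2 := Submodule.finrank_mono hQle
  have l3 := Submodule.finrank_sup_add_finrank_inf_eq P Q
  have l4 := Submodule.finrank_mono hru
  have hmem : ∀ (c : k) (g : GLM), (g : End') = 1 + c • u → g ∈ G := by
    intro c g hg
    obtain ⟨f, hf, e⟩ := comm_mem hk2 hk3 hG hσ hτ ha hb haba c
    rw [hbab, smul_zero, add_zero, ← hu', ← hg] at e
    exact Units.ext e ▸ hf
  obtain ⟨δ, hδe, hδ, hrk⟩ := minimal_of_rank huu hu hmem hσ (by omega)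
  rw [← hd] at hrk
  have hPe : P = rf σ ⊓ kf τ := Submodule.eq_of_le_of_finrank_le hPle (by omega)
  have hQe : Q = rf τ ⊓ kf σ := Submodule.eq_of_le_of_finrank_le hQle (by omega)
  have hPQ : P ⊓ Q = ⊥ := Submodule.finrank_eq_zero.1 (by omega)
  have hδu : (δ : End') - 1 = u := by rw [hδe, add_sub_cancel_left]
  have hr : rf δ = P ⊔ Q := by
    show LinearMap.range ((δ : End') - 1) = _
    rw [hδu]
    exact Submodule.eq_of_le_of_finrank_le hru (by omega)
  have hdisj : rf σ ⊓ rf τ = ⊥ := by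
    rw [eq_bot_iff, ← hPQ, hPe, hQe]
    rintro v ⟨h1, h2⟩
    exact ⟨⟨h1, rf_le_kf ht h2⟩, ⟨h2, rf_le_kf hs h1⟩⟩
  refine ⟨δ, hδ, hδe, hPe ▸ hQe ▸ hr, ?_, hdisj, hPe, hQe⟩
  show LinearMap.ker ((δ : End') - 1) = _
  rw [hδu]
  refine le_antisymm (fun m hm0 => ?_) ?_
  · rw [LinearMap.mem_ker, hu', LinearMap.sub_apply, sub_eq_zero] at hm0
    have hP' : a (b m) ∈ P := by rw [hP]; exact ⟨b m, (rootSpace_le hb).2 ⟨m, rfl⟩, rfl⟩
    have hQ' : b (a m) ∈ Q := by rw [hQ]; exact ⟨a m, (rootSpace_le ha).2 ⟨m, rfl⟩, rfl⟩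
    have h0 : a (b m) = 0 := by
      have : a (b m) ∈ P ⊓ Q := ⟨hP', by
        show a (b m) ∈ Q
        rw [show a (b m) = b (a m) from hm0]; exact hQ'⟩
      rwa [hPQ, Submodule.mem_bot] at this
    have h1 : b m ∈ Q := by
      rw [hQe, ← hka]; exact ⟨(rootSpace_le hb).2 ⟨m, rfl⟩, h0⟩
    have h2 : a m ∈ P := by
      rw [hPe, ← hkb]
      exact ⟨(rootSpace_le ha).2 ⟨m, rfl⟩, (show b (a m) = a (b m) from hm0.symm).trans h0⟩
    rw [hQ] at h1; rw [hP] at h2
    obtain ⟨x, hx, ex⟩ := h1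
    obtain ⟨y, hy, ey⟩ := h2
    refine ⟨Submodule.mem_sup.2 ⟨m - x, ?_, x, hx, sub_add_cancel _ _⟩,
      Submodule.mem_sup.2 ⟨m - y, ?_, y, hy, sub_add_cancel _ _⟩⟩
    · rw [← hkb, LinearMap.mem_ker, map_sub, ex, sub_self]
    · rw [← hka, LinearMap.mem_ker, map_sub, ey, sub_self]
  · intro m hm0
    obtain ⟨h1, h2⟩ := hm0
    obtain ⟨x, hx, y, hy, rfl⟩ := Submodule.mem_sup.1 h1
    obtain ⟨x', hx', y', hy', e⟩ := Submodule.mem_sup.1 h2
    have ab0 : a (b (x + y)) = 0 := by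
      rw [map_add, LinearMap.mem_ker.1 (hkb.ge hx), zero_add]
      obtain ⟨w, rfl⟩ := hra.ge hy
      exact hm a b a w haba
    have ba0 : b (a (x + y)) = 0 := by
      rw [← e, map_add, LinearMap.mem_ker.1 (hka.ge hx'), zero_add]
      obtain ⟨w, rfl⟩ := hrb.ge hy'
      exact hm b a b w hbab
    rw [LinearMap.mem_ker, hu', LinearMap.sub_apply, Module.End.mul_apply, Module.End.mul_apply, ab0, ba0, sub_zero]

omit hk2 hk3 hG in
theorem le_alg_of_le_add {A : Submodule k End'} {N : Submodule k End'} (hA : A * A ≤ A) {n : ℕ} (hn : A ^ n = ⊥)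
    (hNA : N ≤ A) (h : A ≤ N ⊔ A * A) : A ≤ UnipJoin.alg N := by
  have hmain : ∀ j, A ≤ UnipJoin.alg N ⊔ A ^ (j + 1) := by
    intro j
    induction j with
    | zero => rw [zero_add, pow_one]; exact le_sup_right
    | succ j ih =>
      refine h.trans (sup_le ((UnipJoin.le_alg N).trans le_sup_left) ?_)
      have hNle : UnipJoin.alg N ≤ A := by
        refine iSup_le fun i => ?_
        induction i with
        | zero => rw [zero_add, pow_one]; exact hNA
        | succ i ihi => rw [pow_succ]; exact (mul_le_mul' ihi hNA).trans hA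
      calc A * A ≤ (UnipJoin.alg N ⊔ A ^ (j + 1)) * A := mul_le_mul' ih le_rfl
        _ = UnipJoin.alg N * A ⊔ A ^ (j + 1 + 1) := by rw [Submodule.sup_mul, pow_succ A (j + 1)]
        _ ≤ _ := by
          refine sup_le ?_ le_sup_right
          refine (mul_le_mul' le_rfl ih).trans ?_
          rw [Submodule.mul_sup]
          refine sup_le ((UnipJoin.alg_mul_self N).trans le_sup_left) (le_sup_of_le_right ?_)
          rw [pow_succ' A (j + 1)]
          exact mul_le_mul' hNle le_rfl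
  intro x hx
  have := hmain n hx
  rwa [pow_succ, hn, Submodule.bot_mul, sup_bot_eq] at this

theorem alg_nilpotent {σ τ : GLM} (hσ : σ ∈ Cfsg.minimalQuadraticElements G)
    (hτ : τ ∈ Cfsg.minimalQuadraticElements G) (hne : rf σ ⊓ kf τ ≠ ⊥) :
    ∃ n, UnipJoin.alg (rootSpace G σ ⊔ rootSpace G τ) ^ n = ⊥ := by
  obtain ⟨n, hn⟩ := UnipJoin.exists_pow_of_isUnipotentOn (isUnipotentOn_sup hk2 hk3 hσ hτ hne)
  refine ⟨n + 1, UnipJoin.alg_pow_eq_bot (le_bot_iff.1 ((pow_le_pow_left' (sup_le ?_ ?_) n).trans hn.le))⟩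
  · exact UnipJoin.nSpan_mono fun g hg => Subgroup.mem_sup_left (Subgroup.subset_closure hg)
  · exact UnipJoin.nSpan_mono fun g hg => Subgroup.mem_sup_right (Subgroup.subset_closure hg)

theorem cube_zero_aux (n : ℕ) : ∀ σ τ : GLM, σ ∈ Cfsg.minimalQuadraticElements G →
    τ ∈ Cfsg.minimalQuadraticElements G → rf σ ⊓ kf τ ≠ ⊥ →
    Module.finrank k (UnipJoin.alg (rootSpace G σ ⊔ rootSpace G τ)) = n →
    ∀ a ∈ rootSpace G σ, ∀ b ∈ rootSpace G τ, a * b * a = 0 ∧ b * a * b = 0 := by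
  induction n using Nat.strong_induction_on with
  | _ n IH =>
  intro σ τ hσ hτ hne hn a ha b hb
  by_cases ha0 : a = 0
  · subst ha0; simp
  by_cases hb0 : b = 0
  · subst hb0; simp
  obtain ⟨m, hm⟩ := alg_nilpotent hk2 hk3 hG hσ hτ hne
  obtain ⟨A, hA⟩ : ∃ A, A = UnipJoin.alg (rootSpace G σ ⊔ rootSpace G τ) := ⟨_, rfl⟩
  rw [← hA] at hn hm
  have haa := rootSpace_mul (G := G) hσ.1.2.1.1 ha ha
  have hbb := rootSpace_mul (G := G) hτ.1.2.1.1 hb hb
  obtain ⟨hka, hra⟩ := ker_range hk2 hk3 hG hσ ha ha0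
  obtain ⟨hkb, hrb⟩ := ker_range hk2 hk3 hG hτ hb hb0
  have hA1 : rootSpace G σ ≤ A := hA ▸ le_sup_left.trans (UnipJoin.le_alg _)
  have hA2 : rootSpace G τ ≤ A := hA ▸ le_sup_right.trans (UnipJoin.le_alg _)
  have hAA : A * A ≤ A := hA ▸ UnipJoin.alg_mul_self _
  -- `a` commutes with its conjugates under `1 + k b`, or everything lies in one space
  have key : b ∈ rootSpace G σ ∨ ∀ e : k, Commute a (a + e • (b * a - a * b) - (e * e) • (b * a * b)) := by
    by_contra hcon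
    push Not at hcon
    obtain ⟨hbn, e, hnc⟩ := hcon
    obtain ⟨f, hf, ef⟩ := exists_elem hk2 hk3 hG hτ (Submodule.smul_mem _ e hb)
    have hfi : ((f⁻¹ : GLM) : End') = 1 + -(e • b) := by
      refine Units.inv_eq_of_mul_eq_one_right ?_
      rw [ef]
      simp only [add_mul, mul_add, one_mul, mul_one, mul_neg, smul_mul_assoc, mul_smul_comm, hbb, smul_zero,
        add_zero]
      abel
    have hfG := subgroup_le hf
    obtain ⟨hσ', hr', -⟩ := conj_minimal hfG hσ
    have hconj : ∀ x : End', (f : End') * x * ((f⁻¹ : GLM) : End') =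
        x + e • (b * x - x * b) - (e * e) • (b * x * b) := fun x => by
      rw [ef, hfi]
      simp only [add_mul, mul_add, one_mul, mul_one, mul_neg, smul_mul_assoc, mul_smul_comm, smul_smul,
        smul_sub, smul_add]
      abel
    obtain ⟨a', ha'e⟩ : ∃ a', a' = (f : End') * a * ((f⁻¹ : GLM) : End') := ⟨_, rfl⟩
    have ha' : a' ∈ rootSpace G (f * σ * f⁻¹) := ha'e ▸ conj_rootSpace hk2 hk3 hG hfG ha
    -- a common fixed vector
    obtain ⟨v, hv, hv0⟩ := Submodule.exists_mem_ne_zero_of_ne_bot hne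
    have hfv : (f : End') v = v := by
      rw [ef, LinearMap.add_apply, Module.End.one_apply, LinearMap.smul_apply,
        LinearMap.mem_ker.1 (hkb.ge hv.2), smul_zero, add_zero]
    have hv' : v ∈ rf (f * σ * f⁻¹) := hr' ▸ ⟨v, hv.1, hfv⟩
    have hne' : rf σ ⊓ kf (f * σ * f⁻¹) ≠ ⊥ := fun e0 => hv0 (by
      have : v ∈ rf σ ⊓ kf (f * σ * f⁻¹) := ⟨hv.1, rf_le_kf hσ'.1.2.1.1 hv'⟩
      rwa [e0, Submodule.mem_bot] at this)
    have hN : ∀ x ∈ rootSpace G (f * σ * f⁻¹), x ∈ rootSpace G σ ⊔ A * A := by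
      intro x hx
      have hx' := conj_rootSpace hk2 hk3 hG (inv_mem hfG) hx
      rw [show f⁻¹ * (f * σ * f⁻¹) * f⁻¹⁻¹ = σ by group] at hx'
      obtain ⟨x₀, hx₀⟩ : ∃ x₀, x₀ = ((f⁻¹ : GLM) : End') * x * ((f⁻¹⁻¹ : GLM) : End') := ⟨_, rfl⟩
      rw [← hx₀] at hx'
      have ex : x = x₀ + e • (b * x₀ - x₀ * b) - (e * e) • (b * x₀ * b) := by
        rw [← hconj, hx₀, inv_inv, ← mul_assoc, ← mul_assoc, ← Units.val_mul, mul_inv_cancel, Units.val_one, one_mul,
          mul_assoc, ← Units.val_mul, mul_inv_cancel, Units.val_one, mul_one]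
      rw [ex]
      refine sub_mem (add_mem (Submodule.mem_sup_left hx') (Submodule.smul_mem _ _ (Submodule.mem_sup_right
        (sub_mem (Submodule.mul_mem_mul (hA2 hb) (hA1 hx')) (Submodule.mul_mem_mul (hA1 hx') (hA2 hb))))))
        (Submodule.smul_mem _ _ (Submodule.mem_sup_right
          (Submodule.mul_mem_mul (hAA (Submodule.mul_mem_mul (hA2 hb) (hA1 hx'))) (hA2 hb))))
    have hsub : rootSpace G σ ⊔ rootSpace G (f * σ * f⁻¹) ≤ A := by
      refine sup_le hA1 fun x hx => ?_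
      exact sup_le hA1 hAA (hN x hx)
    have hle : UnipJoin.alg (rootSpace G σ ⊔ rootSpace G (f * σ * f⁻¹)) ≤ A := by
      refine iSup_le fun i => ?_
      induction i with
      | zero => rw [zero_add, pow_one]; exact hsub
      | succ i ihi => rw [pow_succ]; exact (mul_le_mul' ihi hsub).trans hAA
    rcases (Submodule.finrank_mono hle).lt_or_eq with hlt | heq
    · obtain ⟨z1, z2⟩ := IH _ (hn ▸ hlt) σ (f * σ * f⁻¹) hσ hσ' hne' rfl a ha a' ha'
      have hu : a * a' - a' * a ≠ 0 := fun e0 => hnc (by rw [← hconj, ← ha'e]; exact sub_eq_zero.1 e0)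
      obtain ⟨_, -, -, -, -, hdis, -, -⟩ := class_two hk2 hk3 hG hσ hσ' ha ha' z1 z2 hu
      exact hv0 (by
        have : v ∈ rf σ ⊓ rf (f * σ * f⁻¹) := ⟨hv.1, hv'⟩
        rwa [hdis, Submodule.mem_bot] at this)
    · have hAeq := Submodule.eq_of_le_of_finrank_eq hle heq
      have hgen : A ≤ rootSpace G σ ⊔ A * A := by
        conv_lhs => rw [← hAeq]
        refine iSup_le fun i => ?_
        rcases i with _ | i
        · rw [zero_add, pow_one]; exact sup_le le_sup_left hN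
        · rw [pow_succ]
          refine (mul_le_mul' ?_ hsub).trans le_sup_right
          calc _ ≤ UnipJoin.alg (rootSpace G σ ⊔ rootSpace G (f * σ * f⁻¹)) :=
                le_iSup_of_le i le_rfl
            _ ≤ A := hle
      refine hbn (rootSpace_alg (G := G) hσ.1.2.1.1 ▸ ?_)
      exact le_alg_of_le_add hAA hm hA1 hgen (hA2 hb)
  rcases key with hbs | hcomm
  · exact ⟨by rw [rootSpace_mul hσ.1.2.1.1 ha hbs, zero_mul], by rw [rootSpace_mul hσ.1.2.1.1 hbs ha, zero_mul]⟩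
  have h2 : (2 : k) ≠ 0 := Ring.two_ne_zero hk2
  have haba : a * b * a = 0 := by
    have e1 := (hcomm 1).eq
    have e2 := (hcomm (-1)).eq
    simp only [one_smul, neg_smul, mul_one, sub_mul, mul_sub, add_mul, mul_add, mul_neg, neg_mul,
      neg_sub] at e1 e2
    simp only [haa, ← mul_assoc, zero_mul] at e1 e2
    simp only [mul_assoc b a a, haa, mul_zero] at e1 e2
    have e3 : (2 : k) • ((2 : k) • (a * b * a)) = 0 := by
      rw [two_smul, two_smul]
      linear_combination (norm := abel) e1 - e2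
    exact (smul_eq_zero.1 ((smul_eq_zero.1 e3).resolve_left h2)).resolve_left h2
  refine ⟨haba, ?_⟩
  by_contra hw
  -- the element `1 + b a b`
  obtain ⟨w, hwd⟩ : ∃ w, w = b * a * b := ⟨_, rfl⟩
  rw [← hwd] at hw
  have hm3 : ∀ x y z : End', ∀ X, X = x * y * z → ∀ p, X p = x (y (z p)) := fun x y z X e p => by rw [e]; rfl
  have z1 : ∀ p, a (a p) = 0 := fun p => LinearMap.congr_fun haa p
  have z2 : ∀ p, b (b p) = 0 := fun p => LinearMap.congr_fun hbb p
  have z3 : ∀ p, a (b (a p)) = 0 := fun p => LinearMap.congr_fun haba p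
  have hww : w * w = 0 := LinearMap.ext fun p => by simp [hwd, Module.End.mul_apply, z2]
  have hprod : ∀ c : k, ((1 + c • (a * b - b * a) + c • w) * (1 + c • (a * -b - -b * a) + c • (-b * a * -b))) =
      1 + (2 * c) • w := by
    intro c
    refine LinearMap.ext fun p => ?_
    simp only [hwd, neg_mul, mul_neg, neg_neg, Module.End.mul_apply, LinearMap.add_apply, LinearMap.sub_apply,
      LinearMap.smul_apply, LinearMap.neg_apply, Module.End.one_apply, map_add, map_sub, map_smul, map_neg, z1, z2, z3,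
      map_zero]
    rw [mul_smul, two_smul]
    simp [smul_sub, smul_add]
    abel
  have hmem : ∀ (c : k) (g : GLM), (g : End') = 1 + c • w → g ∈ G := by
    intro c g hg
    obtain ⟨f1, hf1, e1⟩ := comm_mem hk2 hk3 hG hσ hτ ha hb haba (c / 2)
    obtain ⟨f2, hf2, e2⟩ := comm_mem hk2 hk3 hG hσ hτ ha (Submodule.neg_mem _ hb)
      (by rw [mul_neg, neg_mul, haba, neg_zero]) (c / 2)
    refine (Units.ext (?_ : ((f1 * f2 : GLM) : End') = (g : End'))) ▸ mul_mem hf1 hf2
    rw [Units.val_mul, e1, e2, ← hwd, hprod, mul_div_cancel₀ c h2, hg]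
  have hle : LinearMap.range w ≤ ((rf τ).map a).map b := by
    rintro _ ⟨p, rfl⟩
    exact ⟨a (b p), ⟨b p, (rootSpace_le hb).2 ⟨p, rfl⟩, rfl⟩, (hm3 b a b w hwd p).symm⟩
  have r1 : Module.finrank k (((rf τ).map a).map b) ≤ Module.finrank k ((rf τ).map a) :=
    Submodule.finrank_map_le b _
  have r2 : Module.finrank k ((rf τ).map a) ≤ Module.finrank k (rf τ) := Submodule.finrank_map_le a _
  have r3 := Submodule.finrank_mono hle
  have c1 : Module.finrank k (rf τ) = Cfsg.commutatorRank τ := rfl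
  have c2 : Module.finrank k (rf σ) = Cfsg.commutatorRank σ := rfl
  obtain ⟨_, -, -, hrk⟩ := minimal_of_rank hww hw hmem hτ (by omega)
  have hst := hσ.2 τ hτ.1
  have hts := hτ.2 σ hσ.1
  have hP : (rf τ).map a ≤ rf σ := by
    rintro _ ⟨p, -, rfl⟩
    exact (rootSpace_le ha).2 ⟨p, rfl⟩
  have hPe := Submodule.eq_of_le_of_finrank_le hP (by omega)
  refine hne ?_
  have h := LinearMap.finrank_range_add_finrank_ker (b.domRestrict (rf σ))
  have e1 : LinearMap.range (b.domRestrict (rf σ)) = ((rf τ).map a).map b := by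
    rw [hPe]
    ext x
    constructor
    · rintro ⟨p, rfl⟩; exact ⟨p, p.2, rfl⟩
    · rintro ⟨p, hp, rfl⟩; exact ⟨⟨p, hp⟩, rfl⟩
  rw [e1] at h
  have hk0 : LinearMap.ker (b.domRestrict (rf σ)) = ⊥ := Submodule.finrank_eq_zero.1 (by omega)
  refine (Submodule.eq_bot_iff _).2 fun p hp => ?_
  have := LinearMap.ker_eq_bot'.1 hk0 ⟨p, hp.1⟩ (LinearMap.mem_ker.1 (hkb.ge hp.2))
  exact congrArg Subtype.val this

/-- A non-opposite pair satisfies `aba = bab = 0`. -/
theorem cube_zero {σ τ : GLM} (hσ : σ ∈ Cfsg.minimalQuadraticElements G)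
    (hτ : τ ∈ Cfsg.minimalQuadraticElements G) (hnop : ¬ Opposite σ τ) {a b : End'} (ha : a ∈ rootSpace G σ)
    (hb : b ∈ rootSpace G τ) : a * b * a = 0 ∧ b * a * b = 0 := by
  rcases not_and_or.1 hnop with h | h
  · exact cube_zero_aux hk2 hk3 hG _ σ τ hσ hτ h rfl a ha b hb
  · exact (cube_zero_aux hk2 hk3 hG _ τ σ hτ hσ h rfl b hb a ha).symm

end Cfsg.Agent.Fus.QPair
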