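import Mathlib
import Cfsg.Prelude.Def_RootSubgroups
import Cfsg.Agent.Lib.Fus.QuadPairUnipotentPair

/-!
The commutator of two root groups of a quadratic pair is trivial, or again a root group.
-/

set_option autoImplicit false
set_option linter.unusedSectionVars false

open scoped commutatorElement

namespace Cfsg.Agent.Fus.QPair

universe u

variable {k : Type u} [Field k] {M : Type u} [AddCommGroup M] [Module k M] [FiniteDimensional k M]
  {G : Subgroup (LinearMap.GeneralLinearGroup k M)}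

local notation "End'" => Module.End k M
local notation "GLM" => LinearMap.GeneralLinearGroup k M

omit [FiniteDimensional k M] in
/-- A unipotent group fixes a nonzero vector. -/
theorem exists_fixed {H : Subgroup GLM} (hH : Cfsg.IsUnipotentOn H) (hM : ∃ m : M, m ≠ 0) :
    ∃ v : M, v ≠ 0 ∧ ∀ g ∈ H, (g : End') v = v := by
  by_contra hcon
  push Not at hcon
  obtain ⟨n, hn⟩ := hH
  have : ∀ j : ℕ, ∀ v : M, v ≠ 0 → ∃ l : List GLM, (∀ g ∈ l, g ∈ H) ∧ l.length = j ∧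
      (l.map fun g => (g : End') - 1).prod v ≠ 0 := by
    intro j
    induction j with
    | zero => exact fun v hv => ⟨[], by simp, rfl, by simpa using hv⟩
    | succ j ih =>
      intro v hv
      obtain ⟨l, hl, hlen, hne⟩ := ih v hv
      obtain ⟨g, hg, hgv⟩ := hcon _ hne
      refine ⟨g :: l, List.forall_mem_cons.2 ⟨hg, hl⟩, by simp [hlen], ?_⟩
      simp only [List.bind_eq_flatMap, List.pure_def, List.flatMap_cons, List.singleton_append, List.map_cons,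
        List.prod_cons, Module.End.mul_apply, LinearMap.sub_apply, Module.End.one_apply, sub_ne_zero]
      exact hgv
  obtain ⟨m, hm⟩ := hM
  obtain ⟨l, hl, hlen, hne⟩ := this n m hm
  exact hne (by rw [hn l hl hlen]; rfl)

/-- A group with `NormalFree` has no nontrivial normal unipotent subgroup. -/
theorem NormalFree.unip (h : NormalFree G) : UnipFree G := by
  intro N hN hu hnorm
  by_contra hne
  obtain ⟨n, hn, hn1⟩ := (Subgroup.bot_or_exists_ne_one N).resolve_left hne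
  obtain ⟨m, hm⟩ : ∃ m : M, m ≠ 0 := by
    by_contra hz
    push Not at hz
    exact hn1 (Units.ext (LinearMap.ext fun v => by rw [hz v, map_zero]; rfl))
  obtain ⟨v, hv0, hv⟩ := exists_fixed hu ⟨m, hm⟩
  have hmem : v ∈ Cfsg.fixedSubmodule N := by
    simp only [Cfsg.fixedSubmodule, Submodule.mem_iInf]
    exact fun g hg => sub_eq_zero.2 (hv g hg)
  rw [(h N hN hne hnorm).1, Submodule.mem_bot] at hmem
  exact hv0 hmem

variable (hk2 : ringChar k ≠ 2) (hk3 : Nat.card k ≠ 3) (hG : UnipFree G)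

include hk2 hk3 hG

/-- Every quadratic element of minimal rank has an opposite one, a conjugate of it. -/
theorem exists_opposite {σ : GLM} (hσ : σ ∈ Cfsg.minimalQuadraticElements G) :
    ∃ g ∈ G, g * σ * g⁻¹ ∈ Cfsg.minimalQuadraticElements G ∧ Opposite σ (g * σ * g⁻¹) := by
  by_contra hcon
  push Not at hcon
  have hnop : ∀ g ∈ G, ∀ f ∈ G, ¬ Opposite (g * σ * g⁻¹) (f * σ * f⁻¹) := by
    intro g hg f hf hop
    refine hcon (g⁻¹ * f) (mul_mem (inv_mem hg) hf) (conj_minimal (mul_mem (inv_mem hg) hf) hσ).1 ?_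
    obtain ⟨hm, hr1, hk1⟩ := conj_minimal hg hσ
    obtain ⟨hm2, hr2, hk2'⟩ := conj_minimal (mul_mem (inv_mem hg) hf) hσ
    obtain ⟨-, hr3, hk3'⟩ := conj_minimal hg hm2
    rw [show g * (g⁻¹ * f * σ * (g⁻¹ * f)⁻¹) * g⁻¹ = f * σ * f⁻¹ by group] at hr3 hk3'
    have hinj : Function.Injective (g : End') := fun x y hxy => by
      have := congrArg ((g⁻¹ : GLM) : End') hxy
      rwa [← Module.End.mul_apply, ← Module.End.mul_apply, ← Units.val_mul, inv_mul_cancel, Units.val_one,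
        Module.End.one_apply, Module.End.one_apply] at this
    obtain ⟨o1, o2⟩ := hop
    rw [hr1, hk3', ← Submodule.map_inf _ hinj, ← Submodule.map_bot (g : End')] at o1
    rw [hr3, hk1, ← Submodule.map_inf _ hinj, ← Submodule.map_bot (g : End')] at o2
    exact ⟨Submodule.map_injective_of_injective hinj o1, Submodule.map_injective_of_injective hinj o2⟩
  obtain ⟨W, hW⟩ : ∃ W : Set (Subgroup GLM),
      W = {A | ∃ g ∈ G, A = Cfsg.sameActionSubgroup G (g * σ * g⁻¹)} := ⟨_, rfl⟩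
  have hWG : ∀ A ∈ W, A ≤ G := by rw [hW]; rintro A ⟨g, -, rfl⟩; exact subgroup_le
  have hWW : ∀ A ∈ W, ∀ B ∈ W, Cfsg.IsUnipotentOn (A ⊔ B) := by
    rw [hW]
    rintro A ⟨g, hg, rfl⟩ B ⟨f, hf, rfl⟩
    have h1 := (conj_minimal hg hσ).1
    have h2 := (conj_minimal hf hσ).1
    rcases not_and_or.1 (hnop g hg f hf) with h | h
    · exact isUnipotentOn_sup hk2 hk3 h1 h2 h
    · rw [sup_comm]; exact isUnipotentOn_sup hk2 hk3 h2 h1 h
  have hWconj : ∀ A ∈ W, ∀ g ∈ G, Cfsg.conjBy A g ∈ W := by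
    rw [hW]
    rintro A ⟨f, hf, rfl⟩ g hg
    refine ⟨g * f, mul_mem hg hf, ?_⟩
    obtain ⟨-, hr, hk⟩ := conj_minimal hg (conj_minimal hf hσ).1
    rw [show g * f * σ * (g * f)⁻¹ = g * (f * σ * f⁻¹) * g⁻¹ by group]
    exact conjBy_eq_of_map hg hr.symm hk.symm
  have hU := UnipJoin.isUnipotentOn_iSup hWG hWW hWconj
  obtain ⟨P, hP⟩ : ∃ P : Subgroup GLM, P = ⨆ A ∈ W, A := ⟨_, rfl⟩
  rw [← hP] at hU
  have hσP : σ ∈ P := by
    have : σ ∈ Cfsg.sameActionSubgroup G (1 * σ * 1⁻¹) := by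
      rw [inv_one, mul_one, one_mul]; exact Subgroup.subset_closure (self_mem_class hσ)
    rw [hP]
    exact le_biSup (fun A : Subgroup GLM => A)
      (show Cfsg.sameActionSubgroup G (1 * σ * 1⁻¹) ∈ W by rw [hW]; exact ⟨1, G.one_mem, rfl⟩) this
  have hP1 : P ≠ ⊥ := fun e => hσ.1.2.1.2 (by
    rw [(Subgroup.mem_bot.1 (e ▸ hσP) : σ = 1), Units.val_one, sub_self])
  have hPG : P ≤ G := hP ▸ iSup₂_le hWG
  have hnorm : ∀ g ∈ G, ∀ p ∈ P, g * p * g⁻¹ ∈ P := by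
    intro g hg p hp
    have h2 := UnipJoin.conjBy_iSup_eq hWconj hg
    rw [← hP] at h2
    exact h2 ▸ (⟨p, hp, rfl⟩ : g * p * g⁻¹ ∈ Cfsg.conjBy P g)
  exact hP1 (hG P hPG hU hnorm)

theorem finrank_eq_of_conj {σ : GLM} {g : GLM} (hg : g ∈ G) :
    Module.finrank k (rootSpace G (g * σ * g⁻¹)) = Module.finrank k (rootSpace G σ) := by
  refine le_antisymm ?_ (finrank_rootSpace_le hk2 hk3 hG hg)
  have h := finrank_rootSpace_le hk2 hk3 hG (σ := g * σ * g⁻¹) (inv_mem hg)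
  rwa [show g⁻¹ * (g * σ * g⁻¹) * g⁻¹⁻¹ = σ by group] at h

/-- Opposite root groups are conjugate, so their spaces have one dimension. -/
theorem finrank_eq_of_opposite {σ τ : GLM} (hσ : σ ∈ Cfsg.minimalQuadraticElements G)
    (hτ : τ ∈ Cfsg.minimalQuadraticElements G) (hop : Opposite σ τ) :
    Module.finrank k (rootSpace G σ) = Module.finrank k (rootSpace G τ) := by
  obtain ⟨b, hb, hconj, -⟩ := exists_partner hk2 hk3 hσ hτ hop
  have hgG : σ * b⁻¹ ∈ G := mul_mem hσ.1.1 (inv_mem hb.1.1.1)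
  have hmem : σ * b⁻¹ * σ * (σ * b⁻¹)⁻¹ ∈ Cfsg.sameActionSubgroup G τ :=
    hconj ▸ ⟨σ, Subgroup.subset_closure (self_mem_class hσ), rfl⟩
  have hc := mem_class_of_mem hk2 hk3 hG hτ hmem
    (fun e => (conj_minimal hgG hσ).1.1.2.1.2 (by rw [e, Units.val_one, sub_self]))
  rw [← rootSpace_congr hc, finrank_eq_of_conj hk2 hk3 hG hgG]

variable {σ τ : LinearMap.GeneralLinearGroup k M}

/-- Some conjugate of `σ` under `E(τ)` is opposite to an opposite element of the commutator. -/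
theorem exists_linked (hσ : σ ∈ Cfsg.minimalQuadraticElements G) (hτ : τ ∈ Cfsg.minimalQuadraticElements G)
    {a b : End'} (ha : a ∈ rootSpace G σ) (hb : b ∈ rootSpace G τ) (hbab : b * a * b = 0) {δ : GLM}
    (hδ : δ ∈ Cfsg.minimalQuadraticElements G) (hδe : (δ : End') = 1 + (a * b - b * a)) :
    ∃ γ ∈ Cfsg.minimalQuadraticElements G, Opposite δ γ ∧
      ∃ f ∈ Cfsg.sameActionSubgroup G τ, Opposite (f * σ * f⁻¹) γ := by
  obtain ⟨g, -, hγ, hop⟩ := exists_opposite hk2 hk3 hG hδ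
  obtain ⟨γ, hγe⟩ : ∃ γ, γ = g * δ * g⁻¹ := ⟨_, rfl⟩
  rw [← hγe] at hγ hop
  obtain ⟨c, hc⟩ : ∃ c, c = (γ : End') - 1 := ⟨_, rfl⟩
  have hcm : c ∈ rootSpace G γ := hc ▸ UnipJoin.sub_one_mem (self_mem_class hγ)
  obtain ⟨u, hu⟩ : ∃ u, u = a * b - b * a := ⟨_, rfl⟩
  rw [← hu] at hδe
  have hδu : (δ : End') - 1 = u := by rw [hδe, add_sub_cancel_left]
  refine ⟨γ, hγ, hop, ?_⟩
  by_contra hcon
  push Not at hcon
  have hrel : ∀ e : k, (a - e • u) * c * (a - e • u) = 0 := by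
    intro e
    obtain ⟨f, hf, ef⟩ := exists_elem hk2 hk3 hG hτ (Submodule.smul_mem _ e hb)
    have hfi : ((f⁻¹ : GLM) : End') = 1 + -(e • b) := by
      refine Units.inv_eq_of_mul_eq_one_right ?_
      rw [ef]
      simp only [add_mul, mul_add, one_mul, mul_one, mul_neg, smul_mul_assoc, mul_smul_comm,
        rootSpace_mul hτ.1.2.1.1 hb hb, smul_zero, add_zero]
      abel
    have hfG := subgroup_le hf
    have ha' := conj_rootSpace hk2 hk3 hG hfG ha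
    have he : (f : End') * a * ((f⁻¹ : GLM) : End') = a - e • u := by
      rw [ef, hfi, hu]
      simp only [add_mul, mul_add, one_mul, mul_one, mul_neg, smul_mul_assoc, mul_smul_comm, smul_add, hbab,
        smul_zero, smul_sub]
      abel
    rw [he] at ha'
    exact (cube_zero hk2 hk3 hG (conj_minimal hfG hσ).1 hγ (hcon f hf) ha' hcm).1
  have h0 := hrel 0
  have h1 := hrel 1
  have h2 := hrel (-1)
  simp only [zero_smul, sub_zero] at h0
  simp only [one_smul, neg_smul, sub_neg_eq_add, sub_mul, mul_sub, add_mul, mul_add, h0] at h1 h2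
  have h3 : (2 : k) • (u * c * u) = 0 := by
    rw [two_smul]; linear_combination (norm := abel) h1 + h2
  have hucu := (smul_eq_zero.1 h3).resolve_left (Ring.two_ne_zero hk2)
  refine hδ.1.2.1.2 (LinearMap.range_eq_bot.1 (eq_bot_iff.2 ?_))
  intro v hv
  have hv' : v ∈ rf δ := hv
  rw [← hop.1]
  refine ⟨hv', ?_⟩
  show v ∈ LinearMap.ker ((γ : End') - 1)
  rw [← hc, LinearMap.mem_ker]
  obtain ⟨m, rfl⟩ := hv
  have hmem : c (((δ : End') - 1) m) ∈ rf γ ⊓ kf δ := by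
    refine ⟨hc ▸ ⟨_, rfl⟩, ?_⟩
    show c (((δ : End') - 1) m) ∈ LinearMap.ker ((δ : End') - 1)
    rw [hδu, LinearMap.mem_ker]
    exact LinearMap.congr_fun hucu m
  rwa [hop.2, Submodule.mem_bot] at hmem

/-- The second space is at most as large as the first. -/
theorem finrank_comm_le (hσ : σ ∈ Cfsg.minimalQuadraticElements G) (hτ : τ ∈ Cfsg.minimalQuadraticElements G)
    {a b : End'} (ha : a ∈ rootSpace G σ) (hb : b ∈ rootSpace G τ) (hbab : b * a * b = 0) {δ : GLM}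
    (hδ : δ ∈ Cfsg.minimalQuadraticElements G) (hδe : (δ : End') = 1 + (a * b - b * a)) :
    Module.finrank k (rootSpace G δ) = Module.finrank k (rootSpace G σ) := by
  obtain ⟨γ, hγ, hop, f, hf, hop'⟩ := exists_linked hk2 hk3 hG hσ hτ ha hb hbab hδ hδe
  rw [finrank_eq_of_opposite hk2 hk3 hG hδ hγ hop,
    ← finrank_eq_of_opposite hk2 hk3 hG (conj_minimal (subgroup_le hf) hσ).1 hγ hop',
    finrank_eq_of_conj hk2 hk3 hG (subgroup_le hf)]

/-- All nontrivial pairs have nontrivial commutators. -/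
theorem comm_ne (hσ : σ ∈ Cfsg.minimalQuadraticElements G) (hτ : τ ∈ Cfsg.minimalQuadraticElements G)
    (hnop : ¬ Opposite σ τ) {a₀ b₀ : End'} (ha₀ : a₀ ∈ rootSpace G σ) (hb₀ : b₀ ∈ rootSpace G τ)
    (hu : a₀ * b₀ - b₀ * a₀ ≠ 0) {a b : End'} (ha : a ∈ rootSpace G σ) (hb : b ∈ rootSpace G τ)
    (ha0 : a ≠ 0) (hb0 : b ≠ 0) : a * b - b * a ≠ 0 := by
  obtain ⟨z1, z2⟩ := cube_zero hk2 hk3 hG hσ hτ hnop ha₀ hb₀
  obtain ⟨_, -, -, -, -, hdis, hP, hQ⟩ := class_two hk2 hk3 hG hσ hτ ha₀ hb₀ z1 z2 hu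
  obtain ⟨hka, hra⟩ := ker_range hk2 hk3 hG hσ ha ha0
  obtain ⟨hkb, hrb⟩ := ker_range hk2 hk3 hG hτ hb hb0
  intro e
  rw [sub_eq_zero] at e
  have h0 : ∀ m, a (b m) = 0 := fun m => by
    have : a (b m) ∈ rf σ ⊓ rf τ :=
      ⟨(rootSpace_le ha).2 ⟨b m, rfl⟩, (show b (a m) = a (b m) from LinearMap.congr_fun e.symm m) ▸
        (rootSpace_le hb).2 ⟨a m, rfl⟩⟩
    rwa [hdis, Submodule.mem_bot] at this
  have h1 : rf τ ≤ kf σ := by
    rw [← hka, ← hrb]; rintro _ ⟨m, rfl⟩; exact h0 m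
  have h2 : rf σ ≤ kf τ := by
    rw [← hkb, ← hra]; rintro _ ⟨m, rfl⟩
    exact ((show b (a m) = a (b m) from LinearMap.congr_fun e.symm m).trans (h0 m))
  refine hσ.1.2.1.2 (LinearMap.range_eq_bot.1 ?_)
  rw [eq_bot_iff]
  intro v hv
  have hv' : v ∈ (rf τ).map a₀ := by rw [hP]; exact ⟨hv, h2 hv⟩
  obtain ⟨w, hw, rfl⟩ := hv'
  exact (Submodule.mem_bot k).2 (LinearMap.mem_ker.1 ((rootSpace_le ha₀).1 (h1 hw)))

/-- The spaces of the commutator are those of every nontrivial commutator. -/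
theorem comm_class (hσ : σ ∈ Cfsg.minimalQuadraticElements G) (hτ : τ ∈ Cfsg.minimalQuadraticElements G)
    (hnop : ¬ Opposite σ τ) {δ : GLM}
    (hr : rf δ = (rf σ ⊓ kf τ) ⊔ (rf τ ⊓ kf σ)) (hk : kf δ = (kf τ ⊔ rf σ) ⊓ (kf σ ⊔ rf τ))
    {a b : End'} (ha : a ∈ rootSpace G σ) (hb : b ∈ rootSpace G τ) : a * b - b * a ∈ rootSpace G δ := by
  by_cases hu : a * b - b * a = 0
  · rw [hu]; exact zero_mem _
  obtain ⟨z1, z2⟩ := cube_zero hk2 hk3 hG hσ hτ hnop ha hb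
  obtain ⟨δ', hδ', hδ'e, hr', hk', -⟩ := class_two hk2 hk3 hG hσ hτ ha hb z1 z2 hu
  have := UnipJoin.sub_one_mem (k := k) (M := M) (show δ' ∈ Cfsg.sameActionClass G δ from
    ⟨hδ', hk'.trans hk.symm, hr'.trans hr.symm⟩)
  rwa [hδ'e, add_sub_cancel_left] at this

/-- `[a, V_τ]` is the whole space of the commutator. -/
theorem comm_surjective (hσ : σ ∈ Cfsg.minimalQuadraticElements G) (hτ : τ ∈ Cfsg.minimalQuadraticElements G)
    (hnop : ¬ Opposite σ τ) {a₀ b₀ : End'} (ha₀ : a₀ ∈ rootSpace G σ) (hb₀ : b₀ ∈ rootSpace G τ)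
    (hu : a₀ * b₀ - b₀ * a₀ ≠ 0) {δ : GLM} (hδ : δ ∈ Cfsg.minimalQuadraticElements G)
    (hδe : (δ : End') = 1 + (a₀ * b₀ - b₀ * a₀))
    (hr : rf δ = (rf σ ⊓ kf τ) ⊔ (rf τ ⊓ kf σ)) (hk : kf δ = (kf τ ⊔ rf σ) ⊓ (kf σ ⊔ rf τ)) :
    (∀ a ∈ rootSpace G σ, a ≠ 0 → ∀ w ∈ rootSpace G δ, ∃ b ∈ rootSpace G τ, a * b - b * a = w) ∧
      (∀ b ∈ rootSpace G τ, b ≠ 0 → ∀ w ∈ rootSpace G δ, ∃ a ∈ rootSpace G σ, a * b - b * a = w) := by
  obtain ⟨z1, z2⟩ := cube_zero hk2 hk3 hG hσ hτ hnop ha₀ hb₀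
  have dσ : Module.finrank k (rootSpace G δ) = Module.finrank k (rootSpace G σ) :=
    finrank_comm_le hk2 hk3 hG hσ hτ ha₀ hb₀ z2 hδ hδe
  have dτ : Module.finrank k (rootSpace G δ) = Module.finrank k (rootSpace G τ) := by
    obtain ⟨δi, hδi, hδie⟩ : ∃ δi : GLM, δi ∈ Cfsg.sameActionClass G δ ∧
        (δi : End') = 1 + (b₀ * a₀ - a₀ * b₀) := by
      have hm : b₀ * a₀ - a₀ * b₀ ∈ rootSpace G δ := by
        rw [← neg_sub]; exact neg_mem (comm_class hk2 hk3 hG hσ hτ hnop hr hk ha₀ hb₀)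
      obtain ⟨g, hg, e⟩ := exists_class hk2 hk3 hG hδ hm (fun e => hu (by rw [← neg_sub, e, neg_zero]))
      exact ⟨g, hg, e⟩
    rw [← rootSpace_congr hδi]
    exact finrank_comm_le hk2 hk3 hG hτ hσ hb₀ ha₀ z1 hδi.1 hδie
  constructor
  · intro a ha ha0 w hw
    obtain ⟨L, hL⟩ : ∃ L : rootSpace G τ →ₗ[k] rootSpace G δ, ∀ b, (L b : End') = a * b - (b : End') * a :=
      ⟨{ toFun := fun b => ⟨_, comm_class hk2 hk3 hG hσ hτ hnop hr hk ha b.2⟩
         map_add' := fun x y => Subtype.ext (by simp [mul_add, add_mul, add_sub_add_comm])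
         map_smul' := fun c x => Subtype.ext (by simp [smul_sub]) }, fun _ => rfl⟩
    have hinj : Function.Injective L := (injective_iff_map_eq_zero L).2 fun b hb => by
      by_contra hb0
      exact comm_ne hk2 hk3 hG hσ hτ hnop ha₀ hb₀ hu ha b.2 ha0 (fun e => hb0 (Subtype.ext e))
        (by rw [← hL, hb]; rfl)
    obtain ⟨b, hb⟩ := (LinearMap.injective_iff_surjective_of_finrank_eq_finrank dτ.symm).1 hinj ⟨w, hw⟩
    exact ⟨b, b.2, by rw [← hL, hb]⟩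
  · intro b hb hb0 w hw
    obtain ⟨L, hL⟩ : ∃ L : rootSpace G σ →ₗ[k] rootSpace G δ, ∀ a, (L a : End') = (a : End') * b - b * a :=
      ⟨{ toFun := fun a => ⟨_, comm_class hk2 hk3 hG hσ hτ hnop hr hk a.2 hb⟩
         map_add' := fun x y => Subtype.ext (by simp [mul_add, add_mul, add_sub_add_comm])
         map_smul' := fun c x => Subtype.ext (by simp [smul_sub]) }, fun _ => rfl⟩
    have hinj : Function.Injective L := (injective_iff_map_eq_zero L).2 fun a ha => by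
      by_contra ha0
      exact comm_ne hk2 hk3 hG hσ hτ hnop ha₀ hb₀ hu a.2 hb (fun e => ha0 (Subtype.ext e)) hb0
        (by rw [← hL, ha]; rfl)
    obtain ⟨a, ha⟩ := (LinearMap.injective_iff_surjective_of_finrank_eq_finrank dσ.symm).1 hinj ⟨w, hw⟩
    exact ⟨a, a.2, by rw [← hL, ha]⟩

/-- The commutator of two elements of non-opposite root groups. -/
theorem comm_elem (hσ : σ ∈ Cfsg.minimalQuadraticElements G) (hτ : τ ∈ Cfsg.minimalQuadraticElements G)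
    (hnop : ¬ Opposite σ τ) {e f : GLM} (he : e ∈ Cfsg.sameActionSubgroup G σ)
    (hf : f ∈ Cfsg.sameActionSubgroup G τ) :
    ((e * f * e⁻¹ * f⁻¹ : GLM) : End') =
      1 + (((e : End') - 1) * ((f : End') - 1) - ((f : End') - 1) * ((e : End') - 1)) := by
  have ha := sub_one_mem_rootSpace hk2 hk3 hG hσ he
  have hb := sub_one_mem_rootSpace hk2 hk3 hG hτ hf
  obtain ⟨z1, z2⟩ := cube_zero hk2 hk3 hG hσ hτ hnop ha hb
  rw [comm_formula (rootSpace_mul hσ.1.2.1.1 ha ha) z1 1 e f (by rw [one_smul, add_sub_cancel])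
    (by rw [add_sub_cancel]) (rootSpace_mul hτ.1.2.1.1 hb hb), one_smul, z2, smul_zero, add_zero]

/-- The conclusion for two non-opposite root groups. -/
theorem commutator_cases (hσ : σ ∈ Cfsg.minimalQuadraticElements G) (hτ : τ ∈ Cfsg.minimalQuadraticElements G)
    (hnop : ¬ Opposite σ τ) :
    (∀ a ∈ rootSpace G σ, ∀ b ∈ rootSpace G τ, a * b = b * a) ∧
        ⁅Cfsg.sameActionSubgroup G σ, Cfsg.sameActionSubgroup G τ⁆ = ⊥ ∨
      ∃ δ ∈ Cfsg.minimalQuadraticElements G,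
        ⁅Cfsg.sameActionSubgroup G σ, Cfsg.sameActionSubgroup G τ⁆ = Cfsg.sameActionSubgroup G δ ∧
        rf δ = (rf σ ⊓ kf τ) ⊔ (rf τ ⊓ kf σ) ∧ kf δ = (kf τ ⊔ rf σ) ⊓ (kf σ ⊔ rf τ) ∧ rf σ ⊓ rf τ = ⊥ ∧
        (∀ a ∈ rootSpace G σ, ∀ b ∈ rootSpace G τ, a ≠ 0 → b ≠ 0 → a * b - b * a ≠ 0) ∧
        (∀ e ∈ Cfsg.sameActionSubgroup G σ, e ≠ 1 →
          Subgroup.closure ((fun f : GLM => e * f * e⁻¹ * f⁻¹) '' (Cfsg.sameActionSubgroup G τ : Set GLM)) =
            Cfsg.sameActionSubgroup G δ) ∧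
        (∀ f ∈ Cfsg.sameActionSubgroup G τ, f ≠ 1 →
          Subgroup.closure ((fun e : GLM => e * f * e⁻¹ * f⁻¹) '' (Cfsg.sameActionSubgroup G σ : Set GLM)) =
            Cfsg.sameActionSubgroup G δ) := by
  by_cases hall : ∀ a ∈ rootSpace G σ, ∀ b ∈ rootSpace G τ, a * b = b * a
  · refine Or.inl ⟨hall, ?_⟩
    rw [eq_bot_iff, Subgroup.commutator_le]
    intro e he f hf
    rw [Subgroup.mem_bot, commutatorElement_def]
    refine Units.ext ?_
    rw [comm_elem hk2 hk3 hG hσ hτ hnop he hf,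
      hall _ (sub_one_mem_rootSpace hk2 hk3 hG hσ he) _ (sub_one_mem_rootSpace hk2 hk3 hG hτ hf), sub_self, add_zero,
      Units.val_one]
  push Not at hall
  obtain ⟨a₀, ha₀, b₀, hb₀, hu⟩ := hall
  rw [Ne, ← sub_eq_zero] at hu
  obtain ⟨z1, z2⟩ := cube_zero hk2 hk3 hG hσ hτ hnop ha₀ hb₀
  obtain ⟨δ, hδ, hδe, hr, hk, hdis, -⟩ := class_two hk2 hk3 hG hσ hτ ha₀ hb₀ z1 z2 hu
  obtain ⟨hs1, hs2⟩ := comm_surjective hk2 hk3 hG hσ hτ hnop ha₀ hb₀ hu hδ hδe hr hk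
  have hmem : ∀ e ∈ Cfsg.sameActionSubgroup G σ, ∀ f ∈ Cfsg.sameActionSubgroup G τ,
      e * f * e⁻¹ * f⁻¹ ∈ Cfsg.sameActionSubgroup G δ := by
    intro e he f hf
    obtain ⟨g, hg, ge⟩ := exists_elem hk2 hk3 hG hδ (comm_class hk2 hk3 hG hσ hτ hnop hr hk
      (sub_one_mem_rootSpace hk2 hk3 hG hσ he) (sub_one_mem_rootSpace hk2 hk3 hG hτ hf))
    rwa [show e * f * e⁻¹ * f⁻¹ = g from Units.ext ((comm_elem hk2 hk3 hG hσ hτ hnop he hf).trans ge.symm)]
  have hne : ∀ {ρ : GLM}, ρ ≠ 1 → (ρ : End') - 1 ≠ 0 := fun h e =>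
    h (Units.ext (by rw [Units.val_one]; exact sub_eq_zero.1 e))
  have himg1 : ∀ e ∈ Cfsg.sameActionSubgroup G σ, e ≠ 1 →
      (fun f : GLM => e * f * e⁻¹ * f⁻¹) '' (Cfsg.sameActionSubgroup G τ : Set GLM) =
        (Cfsg.sameActionSubgroup G δ : Set GLM) := by
    intro e he he1
    refine Set.Subset.antisymm (by rintro _ ⟨f, hf, rfl⟩; exact hmem e he f hf) fun x hx => ?_
    obtain ⟨b, hb, hbe⟩ := hs1 _ (sub_one_mem_rootSpace hk2 hk3 hG hσ he) (hne he1) _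
      (sub_one_mem_rootSpace hk2 hk3 hG hδ hx)
    obtain ⟨f, hf, fe⟩ := exists_elem hk2 hk3 hG hτ hb
    refine ⟨f, hf, Units.ext ?_⟩
    rw [comm_elem hk2 hk3 hG hσ hτ hnop he hf, fe, add_sub_cancel_left, hbe, add_sub_cancel]
  have himg2 : ∀ f ∈ Cfsg.sameActionSubgroup G τ, f ≠ 1 →
      (fun e : GLM => e * f * e⁻¹ * f⁻¹) '' (Cfsg.sameActionSubgroup G σ : Set GLM) =
        (Cfsg.sameActionSubgroup G δ : Set GLM) := by
    intro f hf hf1
    refine Set.Subset.antisymm (by rintro _ ⟨e, he, rfl⟩; exact hmem e he f hf) fun x hx => ?_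
    obtain ⟨a, ha, hae⟩ := hs2 _ (sub_one_mem_rootSpace hk2 hk3 hG hτ hf) (hne hf1) _
      (sub_one_mem_rootSpace hk2 hk3 hG hδ hx)
    obtain ⟨e, he, ee⟩ := exists_elem hk2 hk3 hG hσ ha
    refine ⟨e, he, Units.ext ?_⟩
    rw [comm_elem hk2 hk3 hG hσ hτ hnop he hf, ee, add_sub_cancel_left, hae, add_sub_cancel]
  refine Or.inr ⟨δ, hδ, ?_, hr, hk, hdis,
    fun a ha b hb ha0 hb0 => comm_ne hk2 hk3 hG hσ hτ hnop ha₀ hb₀ hu ha hb ha0 hb0,
    fun e he h1 => by rw [himg1 e he h1, Subgroup.closure_eq],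
    fun f hf h1 => by rw [himg2 f hf h1, Subgroup.closure_eq]⟩
  refine le_antisymm (Subgroup.commutator_le.2 fun e he f hf => by
    rw [commutatorElement_def]; exact hmem e he f hf) fun x hx => ?_
  have hσ1 : σ ≠ 1 := fun h => hσ.1.2.1.2 (by rw [h, Units.val_one, sub_self])
  have hx' : x ∈ (fun f : GLM => σ * f * σ⁻¹ * f⁻¹) '' (Cfsg.sameActionSubgroup G τ : Set GLM) := by
    rw [himg1 σ (Subgroup.subset_closure (self_mem_class hσ)) hσ1]; exact hx
  obtain ⟨f, hf, rfl⟩ := hx'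
  have hmm : ⁅σ, f⁆ ∈ ⁅Cfsg.sameActionSubgroup G σ, Cfsg.sameActionSubgroup G τ⁆ :=
    Subgroup.commutator_mem_commutator (Subgroup.subset_closure (self_mem_class hσ)) hf
  rwa [commutatorElement_def] at hmm

/-- Commuting pieces, or a normalised root group, force commuting root groups. -/
theorem commutator_eq_bot (hσ : σ ∈ Cfsg.minimalQuadraticElements G) (hτ : τ ∈ Cfsg.minimalQuadraticElements G)
    (h : (∃ e ∈ Cfsg.sameActionSubgroup G σ, e ≠ 1 ∧ ∃ f ∈ Cfsg.sameActionSubgroup G τ, f ≠ 1 ∧ e * f = f * e) ∨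
      Cfsg.sameActionSubgroup G σ ⊓ Subgroup.normalizer (Cfsg.sameActionSubgroup G τ : Set GLM) ≠ ⊥) :
    ⁅Cfsg.sameActionSubgroup G σ, Cfsg.sameActionSubgroup G τ⁆ = ⊥ := by
  have hne : ∀ {ρ : GLM}, ρ ≠ 1 → (ρ : End') - 1 ≠ 0 := fun h e =>
    h (Units.ext (by rw [Units.val_one]; exact sub_eq_zero.1 e))
  obtain ⟨e, he, he1, hnorm⟩ : ∃ e ∈ Cfsg.sameActionSubgroup G σ, e ≠ 1 ∧
      ((∃ f ∈ Cfsg.sameActionSubgroup G τ, f ≠ 1 ∧ e * f = f * e) ∨
        ∀ f ∈ Cfsg.sameActionSubgroup G τ, e * f * e⁻¹ ∈ Cfsg.sameActionSubgroup G τ) := by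
    rcases h with ⟨e, he, he1, hf⟩ | h
    · exact ⟨e, he, he1, Or.inl hf⟩
    · obtain ⟨e, ⟨he, hN⟩, he1⟩ := (Subgroup.bot_or_exists_ne_one _).resolve_left h
      exact ⟨e, he, he1, Or.inr fun f hf => (Subgroup.mem_normalizer_iff.1 hN f).1 hf⟩
  have hec := mem_class_of_mem hk2 hk3 hG hσ he he1
  have hnop : ¬ Opposite σ τ := by
    intro hop
    have hzero : ((e : End') - 1) * ((τ : End') - 1) * ((e : End') - 1) ≠ 0 := by
      intro h0
      refine hσ.1.2.1.2 (LinearMap.range_eq_bot.1 (eq_bot_iff.2 fun v hv => ?_))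
      rw [← hop.1]
      refine ⟨hv, LinearMap.mem_ker.2 ?_⟩
      obtain ⟨m, rfl⟩ := hec.2.2.ge hv
      have : ((τ : End') - 1) (((e : End') - 1) m) ∈ rf τ ⊓ kf σ :=
        ⟨⟨_, rfl⟩, hec.2.1.le (LinearMap.mem_ker.2 (LinearMap.congr_fun h0 m))⟩
      rwa [hop.2, Submodule.mem_bot] at this
    obtain ⟨f, hf, hf1, hfN⟩ : ∃ f ∈ Cfsg.sameActionSubgroup G τ, f ≠ 1 ∧
        e * f * e⁻¹ ∈ Cfsg.sameActionSubgroup G τ := by
      rcases hnorm with ⟨f, hf, hf1, hc⟩ | hN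
      · exact ⟨f, hf, hf1, by rw [hc, mul_inv_cancel_right]; exact hf⟩
      · exact ⟨τ, Subgroup.subset_closure (self_mem_class hτ), fun h => hτ.1.2.1.2 (by rw [h, Units.val_one, sub_self]),
          hN τ (Subgroup.subset_closure (self_mem_class hτ))⟩
    have hfc := mem_class_of_mem hk2 hk3 hG hτ hf hf1
    have hf'c := mem_class_of_mem hk2 hk3 hG hτ hfN (fun h => hf1 (by simpa using h))
    obtain ⟨-, hr', -⟩ := conj_minimal (subgroup_le he) hfc.1
    -- `e` preserves `rf τ`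
    refine hzero (LinearMap.ext fun m => ?_)
    have hw : ((τ : End') - 1) (((e : End') - 1) m) ∈ rf τ := ⟨_, rfl⟩
    obtain ⟨w, hw'⟩ : ∃ w, w = ((τ : End') - 1) (((e : End') - 1) m) := ⟨_, rfl⟩
    rw [← hw'] at hw
    have h1 : (e : End') w ∈ rf τ := hf'c.2.2.le (hr'.ge (Submodule.mem_map_of_mem (hfc.2.2.ge hw)))
    have h2 : ((e : End') - 1) w ∈ rf τ ⊓ kf σ :=
      ⟨sub_mem h1 hw, rf_le_kf hσ.1.2.1.1 (hec.2.2.le ⟨w, rfl⟩)⟩
    rw [hop.2, Submodule.mem_bot, hw'] at h2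
    exact h2
  rcases commutator_cases hk2 hk3 hG hσ hτ hnop with ⟨-, hb⟩ | ⟨δ, hδ, hD, hr, hk, hdis, hall, -⟩
  · exact hb
  exfalso
  rcases hnorm with ⟨f, hf, hf1, hc⟩ | hN
  · refine hall _ (sub_one_mem_rootSpace hk2 hk3 hG hσ he) _ (sub_one_mem_rootSpace hk2 hk3 hG hτ hf) (hne he1)
      (hne hf1) ?_
    have := comm_elem hk2 hk3 hG hσ hτ hnop he hf
    rw [show e * f * e⁻¹ * f⁻¹ = 1 by rw [hc, mul_inv_cancel_right, mul_inv_cancel], Units.val_one] at this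
    exact (left_eq_add.1 this)
  · have hτm : τ ∈ Cfsg.sameActionSubgroup G τ := Subgroup.subset_closure (self_mem_class hτ)
    have hτ1 : τ ≠ 1 := fun h => hτ.1.2.1.2 (by rw [h, Units.val_one, sub_self])
    obtain ⟨x, hx⟩ : ∃ x, x = e * τ * e⁻¹ * τ⁻¹ := ⟨_, rfl⟩
    have hxτ : x ∈ Cfsg.sameActionSubgroup G τ := hx ▸ mul_mem (hN τ hτm) (inv_mem hτm)
    have hxδ : x ∈ Cfsg.sameActionSubgroup G δ := by
      rw [← hD, hx, ← commutatorElement_def]; exact Subgroup.commutator_mem_commutator he hτm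
    have hx1 : x ≠ 1 := by
      intro h1
      have := comm_elem hk2 hk3 hG hσ hτ hnop he hτm
      rw [← hx, h1, Units.val_one] at this
      exact hall _ (sub_one_mem_rootSpace hk2 hk3 hG hσ he) _ (sub_one_mem_rootSpace hk2 hk3 hG hτ hτm) (hne he1)
        (hne hτ1) (left_eq_add.1 this)
    have cτ := mem_class_of_mem hk2 hk3 hG hτ hxτ hx1
    have cδ := mem_class_of_mem hk2 hk3 hG hδ hxδ hx1
    have hKeq : kf δ = kf τ := cδ.2.1.symm.trans cτ.2.1
    have hReq : rf δ = rf τ := cδ.2.2.symm.trans cτ.2.2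
    -- `rf τ ≤ kf σ`, so `rf σ ⊓ kf τ = ⊥`
    have hs := hσ.1.2.1.1
    have ht := hτ.1.2.1.1
    have hP0 : rf σ ⊓ kf τ = ⊥ := by
      rw [eq_bot_iff, ← hdis]
      exact fun v hv => ⟨hv.1, hReq ▸ (hr ▸ Submodule.mem_sup_left hv)⟩
    have hτσ : rf τ ≤ kf σ := by
      rw [← hReq, hr, hP0, bot_sup_eq]; exact inf_le_right
    have hle : kf τ ≤ kf σ := by
      rw [← hKeq, hk, sup_eq_left.2 hτσ]; exact inf_le_right
    have hdim : Module.finrank k (kf τ) = Module.finrank k (kf σ) := by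
      have h1 : Module.finrank k (rf σ) + Module.finrank k (kf σ) = Module.finrank k M :=
        LinearMap.finrank_range_add_finrank_ker _
      have h2 : Module.finrank k (rf τ) + Module.finrank k (kf τ) = Module.finrank k M :=
        LinearMap.finrank_range_add_finrank_ker _
      have h3 : Cfsg.commutatorRank σ = Module.finrank k (rf σ) := rfl
      have h4 : Cfsg.commutatorRank τ = Module.finrank k (rf τ) := rfl
      have h5 := hσ.2 τ hτ.1
      have h6 := hτ.2 σ hσ.1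
      omega
    refine hσ.1.2.1.2 (LinearMap.range_eq_bot.1 (eq_bot_iff.2 fun v hv => ?_))
    rw [← hP0]
    exact ⟨hv, (Submodule.eq_of_le_of_finrank_eq hle hdim).ge (rf_le_kf hs hv)⟩

end Cfsg.Agent.Fus.QPair
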