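import Mathlib
import Cfsg.Prelude.Def_RootSubgroups
import Cfsg.Agent.Lib.Fus.QuadPairCommutator

/-!
Unipotent and class two pairs of root groups of a quadratic pair, and the group `U(D)`.
-/

set_option autoImplicit false
set_option linter.unusedSectionVars false

open scoped commutatorElement

namespace Cfsg.Agent.Fus.QPair

open Cfsg.Agent.Fus.RingSL

universe u

variable {k : Type u} [Field k] {M : Type u} [AddCommGroup M] [Module k M] [FiniteDimensional k M]
  {G : Subgroup (LinearMap.GeneralLinearGroup k M)} {σ τ : LinearMap.GeneralLinearGroup k M}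

local notation "End'" => Module.End k M
local notation "GLM" => LinearMap.GeneralLinearGroup k M

theorem not_opposite_of_unipotent (hσ : σ ∈ Cfsg.minimalQuadraticElements G)
    (hτ : τ ∈ Cfsg.minimalQuadraticElements G)
    (hu : Cfsg.IsUnipotentOn (Cfsg.sameActionSubgroup G σ ⊔ Cfsg.sameActionSubgroup G τ)) : ¬ Opposite σ τ := by
  intro hop
  obtain ⟨n, hn⟩ := UnipJoin.exists_pow_of_isUnipotentOn hu
  refine not_isNilpotent_of_opposite hσ.1.2.1.1 hτ.1.2.1.1 hσ.1.2.1.2 hop ⟨n, ?_⟩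
  obtain ⟨N, hN⟩ : ∃ N, N = UnipJoin.nSpan ((Cfsg.sameActionSubgroup G σ ⊔ Cfsg.sameActionSubgroup G τ : Subgroup GLM) :
      Set GLM) := ⟨_, rfl⟩
  rw [← hN] at hn
  have h1 : (σ : End') - 1 ∈ N :=
    hN ▸ UnipJoin.sub_one_mem (Subgroup.mem_sup_left (Subgroup.subset_closure (self_mem_class hσ)))
  have h2 : (τ : End') - 1 ∈ N :=
    hN ▸ UnipJoin.sub_one_mem (Subgroup.mem_sup_right (Subgroup.subset_closure (self_mem_class hτ)))
  have hz : zz ((σ : End') - 1) ((τ : End') - 1) ∈ N ^ 2 := by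
    rw [pow_two]; exact add_mem (Submodule.mul_mem_mul h1 h2) (Submodule.mul_mem_mul h2 h1)
  have := Submodule.pow_mem_pow _ hz n
  rw [← pow_mul, mul_comm, pow_mul, hn, pow_two, Submodule.bot_mul, Submodule.mem_bot] at this
  exact this

variable (hk2 : ringChar k ≠ 2) (hk3 : Nat.card k ≠ 3) (hG : UnipFree G)

include hk2 hk3

theorem not_opposite_of_class_two (hσ : σ ∈ Cfsg.minimalQuadraticElements G)
    (hτ : τ ∈ Cfsg.minimalQuadraticElements G)
    (h2 : ⁅⁅Cfsg.sameActionSubgroup G σ ⊔ Cfsg.sameActionSubgroup G τ,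
      Cfsg.sameActionSubgroup G σ ⊔ Cfsg.sameActionSubgroup G τ⁆,
      Cfsg.sameActionSubgroup G σ ⊔ Cfsg.sameActionSubgroup G τ⁆ = ⊥) : ¬ Opposite σ τ := by
  intro hop
  have hs := hσ.1.2.1.1
  have ht := hτ.1.2.1.1
  obtain ⟨E, q, h, -, hEs, hEt⟩ :=
    exists_field hk2 hk3 hσ hτ (not_isNilpotent_of_opposite hs ht hσ.1.2.1.2 hop)
  obtain ⟨X, hX⟩ : ∃ X, X = Cfsg.sameActionSubgroup G σ ⊔ Cfsg.sameActionSubgroup G τ := ⟨_, rfl⟩
  rw [← hX] at h2
  have hle : famGroup ((σ : End') - 1) ((τ : End') - 1) ≤ X := hX ▸ famGroup_le hσ hτ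
  obtain ⟨x, hx⟩ : ∃ x : Matrix.SpecialLinearGroup (Fin 2) (AdjoinRoot q), x = up 1 := ⟨_, rfl⟩
  obtain ⟨y, hy⟩ : ∃ y : Matrix.SpecialLinearGroup (Fin 2) (AdjoinRoot q), y = low 1 := ⟨_, rfl⟩
  have hxm : phi hs ht h x ∈ X := hx ▸ hle (phi_mem hs ht h hk2 hk3 1).1
  have hym : phi hs ht h y ∈ X := hy ▸ hle (phi_mem hs ht h hk2 hk3 1).2
  have hc : ⁅⁅phi hs ht h x, phi hs ht h y⁆, phi hs ht h x⁆ = 1 := by
    rw [← Subgroup.mem_bot, ← h2]
    exact Subgroup.commutator_mem_commutator (Subgroup.commutator_mem_commutator hxm hym) hxm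
  rw [← map_commutatorElement, ← map_commutatorElement, ← map_one (phi hs ht h)] at hc
  have hc' := phi_injective hs ht h hc
  rw [commutatorElement_eq_one_iff_mul_comm] at hc'
  have hlow : (low (1 : AdjoinRoot q))⁻¹ = low (-1) := inv_eq_of_mul_eq_one_right (by
    refine ext4 ?_ ?_ ?_ ?_ <;> simp [Matrix.mul_apply, Fin.sum_univ_two])
  rw [hx, hy, commutatorElement_def, up_inv, hlow] at hc'
  have h00 := congrArg (fun g : Matrix.SpecialLinearGroup (Fin 2) (AdjoinRoot q) => g.1 0 0) hc'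
  simp [Matrix.mul_apply, Fin.sum_univ_two] at h00
  refine h.q_deg (isUnit_of_dvd_one (AdjoinRoot.mk_eq_zero.1 ?_))
  rw [map_one]
  exact h00

include hG

theorem fixedSubmodule_eq (hσ : σ ∈ Cfsg.minimalQuadraticElements G) :
    Cfsg.fixedSubmodule (Cfsg.sameActionSubgroup G σ) = kf σ ∧
      Cfsg.commutatorSubmodule (Cfsg.sameActionSubgroup G σ) = rf σ := by
  have hm := Subgroup.subset_closure (self_mem_class hσ)
  exact ⟨le_antisymm (iInf₂_le σ hm) (le_iInf₂ fun g hg => (rootSpace_le (sub_one_mem_rootSpace hk2 hk3 hG hσ hg)).1),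
    le_antisymm (iSup₂_le fun g hg => (rootSpace_le (sub_one_mem_rootSpace hk2 hk3 hG hσ hg)).2)
      (le_iSup₂ (f := fun g (_ : g ∈ Cfsg.sameActionSubgroup G σ) => LinearMap.range ((g : End') - 1)) σ hm)⟩

/-- A non-commuting, non-opposite pair generates a group of class two inside `U(D)`. -/
theorem class_two_group (hσ : σ ∈ Cfsg.minimalQuadraticElements G) (hτ : τ ∈ Cfsg.minimalQuadraticElements G)
    (hnop : ¬ Opposite σ τ) (hne : ⁅Cfsg.sameActionSubgroup G σ, Cfsg.sameActionSubgroup G τ⁆ ≠ ⊥)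
    {E F X : Subgroup GLM} (hE : E = Cfsg.sameActionSubgroup G σ) (hF : F = Cfsg.sameActionSubgroup G τ)
    (hX : X = E ⊔ F) :
    ⁅E, F⁆ ∈ Cfsg.quadraticRootSubgroups G ∧
      (∀ e ∈ E, e ≠ 1 → Subgroup.closure ((fun f : GLM => e * f * e⁻¹ * f⁻¹) '' (F : Set GLM)) = ⁅E, F⁆) ∧
      (∀ f ∈ F, f ≠ 1 → Subgroup.closure ((fun e : GLM => e * f * e⁻¹ * f⁻¹) '' (E : Set GLM)) = ⁅E, F⁆) ∧
      ⁅X, X⁆ ≠ ⊥ ∧ ⁅⁅X, X⁆, X⁆ = ⊥ ∧ (X : Set GLM) ⊆ Cfsg.quadraticUnipotentCore G ⁅E, F⁆ := by
  rcases commutator_cases hk2 hk3 hG hσ hτ hnop with ⟨-, hb⟩ | ⟨δ, hδ, hD, hr, hk, hdis, hall, hc1, hc2⟩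
  · exact absurd hb hne
  rw [← hE, ← hF] at hD hc1 hc2
  rw [hD]
  refine ⟨⟨δ, hδ, rfl⟩, hc1, hc2, ?_, ?_, ?_⟩
  · intro hbot
    refine hne (le_bot_iff.1 ?_)
    rw [← hbot, hX, hE, hF]
    exact Subgroup.commutator_mono le_sup_left le_sup_right
  all_goals
    have hs := hσ.1.2.1.1
    have ht := hτ.1.2.1.1
    have hσm : σ ∈ E := hE ▸ Subgroup.subset_closure (self_mem_class hσ)
    have hτm : τ ∈ F := hF ▸ Subgroup.subset_closure (self_mem_class hτ)
    -- elements of `D` commute with the two groups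
    have hDE : ∀ d ∈ Cfsg.sameActionSubgroup G δ, ∀ g, g ∈ E ∨ g ∈ F → d * g = g * d := by
      intro d hd g hg
      have hdV := sub_one_mem_rootSpace hk2 hk3 hG hδ hd
      obtain ⟨w, hw⟩ : ∃ w, w = (g : End') - 1 := ⟨_, rfl⟩
      obtain ⟨hdk, hdr⟩ := rootSpace_le hdV
      have key : ((d : End') - 1) * w = 0 ∧ w * ((d : End') - 1) = 0 := by
        rcases hg with hg | hg
        · rw [hE] at hg
          have hwV : w ∈ rootSpace G σ := hw ▸ sub_one_mem_rootSpace hk2 hk3 hG hσ hg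
          obtain ⟨hwk, hwr⟩ := rootSpace_le hwV
          constructor
          · refine LinearMap.ext fun m => LinearMap.mem_ker.1 (hdk ?_)
            rw [hk]
            exact ⟨Submodule.mem_sup_right (hwr ⟨m, rfl⟩), Submodule.mem_sup_left (rf_le_kf hs (hwr ⟨m, rfl⟩))⟩
          · refine LinearMap.ext fun m => LinearMap.mem_ker.1 (hwk ?_)
            have := hdr ⟨m, rfl⟩
            rw [hr] at this
            exact sup_le (inf_le_left.trans (rf_le_kf hs)) inf_le_right this
        · rw [hF] at hg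
          have hwV : w ∈ rootSpace G τ := hw ▸ sub_one_mem_rootSpace hk2 hk3 hG hτ hg
          obtain ⟨hwk, hwr⟩ := rootSpace_le hwV
          constructor
          · refine LinearMap.ext fun m => LinearMap.mem_ker.1 (hdk ?_)
            rw [hk]
            exact ⟨Submodule.mem_sup_left (rf_le_kf ht (hwr ⟨m, rfl⟩)), Submodule.mem_sup_right (hwr ⟨m, rfl⟩)⟩
          · refine LinearMap.ext fun m => LinearMap.mem_ker.1 (hwk ?_)
            have := hdr ⟨m, rfl⟩
            rw [hr] at this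
            exact sup_le inf_le_right (inf_le_left.trans (rf_le_kf ht)) this
      refine Units.ext ?_
      rw [Units.val_mul, Units.val_mul]
      have e1 := key.1
      have e2 := key.2
      rw [hw] at e1 e2
      simp only [sub_mul, mul_sub, one_mul, mul_one] at e1 e2
      linear_combination (norm := abel) e1 - e2
    have hcent : X ≤ Subgroup.centralizer (Cfsg.sameActionSubgroup G δ : Set GLM) := by
      rw [hX]
      exact sup_le (fun g hg => Subgroup.mem_centralizer_iff.2 fun d hd => hDE d hd g (Or.inl hg))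
        (fun g hg => Subgroup.mem_centralizer_iff.2 fun d hd => hDE d hd g (Or.inr hg))
  · -- the derived group lies in `D`
    obtain ⟨hσc, hτc⟩ : IsMulCommutative E ∧ IsMulCommutative F :=
      ⟨hE ▸ (class_spec hσ).2, hF ▸ (class_spec hτ).2⟩
    have hcomm : ∀ {A : Subgroup GLM}, IsMulCommutative A → ∀ x ∈ A, ∀ y ∈ A, x * y = y * x :=
      fun hA x hx y hy => congrArg Subtype.val (hA.is_comm.comm ⟨x, hx⟩ ⟨y, hy⟩)
    obtain ⟨D, hD'⟩ : ∃ D, D = Cfsg.sameActionSubgroup G δ := ⟨_, rfl⟩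
    rw [← hD'] at hD hcent
    have hDX : ∀ d ∈ D, ∀ g ∈ X, g * d = d * g := fun d hd g hg =>
      (Subgroup.mem_centralizer_iff.1 (hcent hg) d hd).symm
    let S : Set GLM := (E : Set GLM) ∪ F
    have hXS : X = Subgroup.closure S := by
      rw [hX, Subgroup.closure_union, Subgroup.closure_eq, Subgroup.closure_eq]
    have hgen : ∀ x ∈ S, ∀ y ∈ S, x * y * x⁻¹ * y⁻¹ ∈ D := by
      rintro x (hx | hx) y (hy | hy)
      · rw [hcomm hσc x hx y hy, mul_inv_cancel_right, mul_inv_cancel]; exact one_mem _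
      · rw [← hD, ← commutatorElement_def]; exact Subgroup.commutator_mem_commutator hx hy
      · rw [← commutatorElement_def, ← commutatorElement_inv]
        exact inv_mem (hD ▸ Subgroup.commutator_mem_commutator hy hx)
      · rw [hcomm hτc x hx y hy, mul_inv_cancel_right, mul_inv_cancel]; exact one_mem _
    have hSX : S ⊆ X := hXS ▸ Subgroup.subset_closure
    have hmul : ∀ x ∈ X, ∀ y ∈ X, ∀ z ∈ X, x * z * x⁻¹ * z⁻¹ ∈ D → y * z * y⁻¹ * z⁻¹ ∈ D →
        x * y * z * (x * y)⁻¹ * z⁻¹ ∈ D := by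
      intro x hx y _ z _ h1 h2
      have e : x * y * z * (x * y)⁻¹ * z⁻¹ = x * (y * z * y⁻¹ * z⁻¹) * x⁻¹ * (x * z * x⁻¹ * z⁻¹) := by group
      rw [e, hDX _ h2 x hx, mul_inv_cancel_right]
      exact mul_mem h2 h1
    have hinv : ∀ x ∈ X, ∀ z ∈ X, x * z * x⁻¹ * z⁻¹ ∈ D → x⁻¹ * z * x⁻¹⁻¹ * z⁻¹ ∈ D := by
      intro x hx z _ h1
      have e : x⁻¹ * z * x⁻¹⁻¹ * z⁻¹ = x⁻¹ * (x * z * x⁻¹ * z⁻¹)⁻¹ * x := by group
      rw [e, hDX _ (inv_mem h1) x⁻¹ (inv_mem hx), inv_mul_cancel_right]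
      exact inv_mem h1
    have hstep : ∀ z ∈ X, (∀ x ∈ S, x * z * x⁻¹ * z⁻¹ ∈ D) → ∀ x ∈ X, x * z * x⁻¹ * z⁻¹ ∈ D := by
      intro z hz hS x hx
      rw [hXS] at hx
      induction hx using Subgroup.closure_induction with
      | mem x hx => exact hS x hx
      | one => simp
      | mul x y hx hy ihx ihy => exact hmul x (hXS.ge hx) y (hXS.ge hy) z hz ihx ihy
      | inv x hx ihx => exact hinv x (hXS.ge hx) z hz ihx
    have hall' : ∀ x ∈ X, ∀ y ∈ X, x * y * x⁻¹ * y⁻¹ ∈ D := by
      intro x hx y hy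
      refine hstep y hy (fun s hs => ?_) x hx
      rw [← commutatorElement_def, ← commutatorElement_inv, commutatorElement_def]
      exact inv_mem (hstep s (hSX hs) (fun t ht => hgen t ht s hs) y hy)
    rw [eq_bot_iff]
    refine (Subgroup.commutator_mono (Subgroup.commutator_le.2 fun x hx y hy => by
      rw [commutatorElement_def]; exact hall' x hx y hy) le_rfl).trans (Subgroup.commutator_le.2 fun d hd g hg => ?_)
    rw [Subgroup.mem_bot, commutatorElement_eq_one_iff_mul_comm]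
    exact (hDX d hd g hg).symm
  · obtain ⟨hCf, hCr⟩ := fixedSubmodule_eq hk2 hk3 hG hδ
    intro g hg
    have hXG : X ≤ G := by rw [hX, hE, hF]; exact sup_le subgroup_le subgroup_le
    refine ⟨hXG hg, Subgroup.centralizer_le_normalizer _ (hcent hg), ?_⟩
    rw [hCf, hCr]
    let Y : Subgroup GLM :=
      { carrier := {g | (∀ m, (g : End') m - m ∈ kf δ) ∧ (∀ m ∈ kf δ, (g : End') m - m ∈ rf δ) ∧
          ∀ m ∈ rf δ, (g : End') m = m}
        one_mem' := ⟨by simp, by simp, by simp⟩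
        mul_mem' := by
          rintro a b ⟨a1, a2, a3⟩ ⟨b1, b2, b3⟩
          refine ⟨fun m => ?_, fun m hm => ?_, fun m hm => ?_⟩
          · rw [Units.val_mul, Module.End.mul_apply, ← sub_add_sub_cancel _ ((b : End') m)]
            exact add_mem (a1 _) (b1 m)
          · rw [Units.val_mul, Module.End.mul_apply, ← sub_add_sub_cancel _ ((b : End') m)]
            refine add_mem (a2 _ ?_) (b2 m hm)
            rw [← sub_add_cancel ((b : End') m) m]
            exact add_mem (b1 m) hm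
          · rw [Units.val_mul, Module.End.mul_apply, b3 m hm, a3 m hm]
        inv_mem' := by
          rintro a ⟨a1, a2, a3⟩
          have hi : ∀ m, (a : End') (((a⁻¹ : GLM) : End') m) = m := fun m => by
            rw [← Module.End.mul_apply, ← Units.val_mul, mul_inv_cancel, Units.val_one, Module.End.one_apply]
          have e : ∀ m, ((a⁻¹ : GLM) : End') m - m =
              -((a : End') (((a⁻¹ : GLM) : End') m) - ((a⁻¹ : GLM) : End') m) := fun m => by rw [hi, neg_sub]
          have hK : ∀ m ∈ kf δ, ((a⁻¹ : GLM) : End') m ∈ kf δ := fun m hm => by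
            rw [← sub_add_cancel (((a⁻¹ : GLM) : End') m) m]
            exact add_mem (e m ▸ neg_mem (a1 _)) hm
          refine ⟨fun m => e m ▸ neg_mem (a1 _), fun m hm => e m ▸ neg_mem (a2 _ (hK m hm)), fun m hm => ?_⟩
          have : (a : End') m = m := a3 m hm
          conv_lhs => rw [← this]
          rw [← Module.End.mul_apply, ← Units.val_mul, inv_mul_cancel, Units.val_one, Module.End.one_apply] }
    have hXY : X ≤ Y := by
      have hgen : ∀ (g : GLM), ((g : End') - 1) ∈ rootSpace G σ ∨ ((g : End') - 1) ∈ rootSpace G τ → g ∈ Y := by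
        intro g hg
        have hev : ∀ m, (g : End') m - m = ((g : End') - 1) m := fun _ => rfl
        have hRK : rf σ ≤ kf δ ∧ rf τ ≤ kf δ := by
          rw [hk]
          exact ⟨le_inf le_sup_right ((rf_le_kf hs).trans le_sup_left),
            le_inf ((rf_le_kf ht).trans le_sup_left) le_sup_right⟩
        refine ⟨fun m => ?_, fun m hm => ?_, fun m hm => ?_⟩
        · rw [hev]
          rcases hg with hg | hg
          exacts [hRK.1 ((rootSpace_le hg).2 ⟨m, rfl⟩), hRK.2 ((rootSpace_le hg).2 ⟨m, rfl⟩)]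
        · rw [hev]
          rw [hk] at hm
          rcases hg with hg | hg
          · obtain ⟨x, hx, y, hy, rfl⟩ := Submodule.mem_sup.1 hm.2
            rw [map_add, LinearMap.mem_ker.1 ((rootSpace_le hg).1 hx), zero_add, hr]
            by_cases h0 : (g : End') - 1 = 0
            · rw [h0]; exact zero_mem _
            refine Submodule.mem_sup_left ⟨(rootSpace_le hg).2 ⟨y, rfl⟩, ?_⟩
            obtain ⟨w, hw⟩ := hy
            have := (cube_zero hk2 hk3 hG hσ hτ hnop hg (UnipJoin.sub_one_mem (self_mem_class hτ))).2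
            rw [← hw]
            exact LinearMap.congr_fun this w
          · obtain ⟨x, hx, y, hy, rfl⟩ := Submodule.mem_sup.1 hm.1
            rw [map_add, LinearMap.mem_ker.1 ((rootSpace_le hg).1 hx), zero_add, hr]
            refine Submodule.mem_sup_right ⟨(rootSpace_le hg).2 ⟨y, rfl⟩, ?_⟩
            obtain ⟨w, hw⟩ := hy
            have := (cube_zero hk2 hk3 hG hσ hτ hnop (UnipJoin.sub_one_mem (self_mem_class hσ)) hg).1
            rw [← hw]
            exact LinearMap.congr_fun this w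
        · refine sub_eq_zero.1 ?_
          rw [hev, ← LinearMap.mem_ker]
          rw [hr] at hm
          rcases hg with hg | hg
          · exact (rootSpace_le hg).1 (sup_le (inf_le_left.trans (rf_le_kf hs)) inf_le_right hm)
          · exact (rootSpace_le hg).1 (sup_le inf_le_right (inf_le_left.trans (rf_le_kf ht)) hm)
      rw [hX, hE, hF]
      exact sup_le (fun g hg => hgen g (Or.inl (sub_one_mem_rootSpace hk2 hk3 hG hσ hg)))
        (fun g hg => hgen g (Or.inr (sub_one_mem_rootSpace hk2 hk3 hG hτ hg)))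
    exact hXY hg


omit hk2 hk3 hG [FiniteDimensional k M] in
/-- Commuting abelian subgroups generate an abelian subgroup. -/
theorem sup_eq_bot_of_comm {E F : Subgroup GLM} (hE : IsMulCommutative E) (hF : IsMulCommutative F)
    (h : ⁅E, F⁆ = ⊥) : ⁅E ⊔ F, E ⊔ F⁆ = ⊥ := by
  have hc : ∀ {A : Subgroup GLM}, IsMulCommutative A → A ≤ Subgroup.centralizer (A : Set GLM) := fun {A} hA x hx =>
    Subgroup.mem_centralizer_iff.2 fun y hy => congrArg Subtype.val (hA.is_comm.comm ⟨y, hy⟩ ⟨x, hx⟩)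
  have h1 : E ≤ Subgroup.centralizer (F : Set GLM) := Subgroup.commutator_eq_bot_iff_le_centralizer.1 h
  have h2 : F ≤ Subgroup.centralizer (E : Set GLM) :=
    Subgroup.commutator_eq_bot_iff_le_centralizer.1 (by rw [Subgroup.commutator_comm, h])
  rw [Subgroup.commutator_eq_bot_iff_le_centralizer]
  refine sup_le ?_ ?_
  · exact Subgroup.le_centralizer_iff.1 (sup_le (hc hE) h2)
  · exact Subgroup.le_centralizer_iff.1 (sup_le h1 (hc hF))

end Cfsg.Agent.Fus.QPair
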