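import Mathlib
import Cfsg.Agent.Lib.Fus.RootLines
import Cfsg.Agent.Lib.Fus.RankOne

/-!
Rank one pairs with a separating member are special, and separators exist when the unipotent
subgroups are not too small.

A separator of a rank one pair `(A, B)` is a member commuting with `A` but not with `B`.
-/

set_option autoImplicit false
set_option linter.style.haveILetI false

open scoped commutatorElement

namespace Cfsg.Agent.Fus.RootSep

open Subgroup

variable {G : Type*} [Group G] {S : Set (Subgroup G)} {A B C E : Subgroup G}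

theorem commutator_conj_eq_bot (g : G) (h : ⁅A, B⁆ = ⊥) : ⁅conjBy A g, conjBy B g⁆ = ⊥ := by
  rw [commutator_conjBy, h]; exact Subgroup.map_bot _

theorem conjBy_of_commute {g : G} (h : ∀ x ∈ A, g * x = x * g) : conjBy A g = A :=
  mem_normalizer_iff_conjBy.1 (centralizer_le_normalizer _ (Subgroup.mem_centralizer_iff.2
    fun x hx => (h x hx).symm))

/-- With a separator the partner of `a⁻¹` is the inverse of the partner of `a`, and the pair
satisfies the identity of a special rank one group. -/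
theorem neg_partner (hS : IsRootSubgroupSet S) (hA : A ∈ S) (hB : B ∈ S) (hC : C ∈ S)
    (hAB : IsRankOnePair A B) (hBC : IsRankOnePair B C) (hAC : ⁅A, C⁆ = ⊥) (hne : C ≠ A)
    {a b : G} (ha : a ∈ A) (ha1 : a ≠ 1) (hb : b ∈ B) (he : conjBy B a = conjBy A b) :
    conjBy A b⁻¹ = conjBy B a⁻¹ ∧ b⁻¹ * a * b = a⁻¹ * b⁻¹ * a := by
  have hBA := RankOnePair_symm hAB
  -- the basic identity
  have key : ∀ {a b b' : G}, a ∈ A → a ≠ 1 → b ∈ B → b' ∈ B → conjBy B a = conjBy A b →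
      conjBy B a⁻¹ = conjBy A b' → b * a * b⁻¹ = a * b' * a⁻¹ := by
    intro a b b' ha ha1 hb hb' e e'
    have hb1 : b ≠ 1 := fun h => RankOne.conj_ne hAB ha (by rw [e, h, conjBy_one])
    obtain ⟨c, hc, -, ec⟩ := RankOne.exists_partner hBC hb hb1
    obtain ⟨n, hn⟩ : ∃ n : G, n = a⁻¹ * c := ⟨_, rfl⟩
    obtain ⟨D, hD⟩ : ∃ D : Subgroup G, D = conjBy B n := ⟨_, rfl⟩
    have hcA : ∀ x ∈ A, c * x = x * c := fun x hx =>
      (commute_of_commutator_eq_bot hAC hx hc).symm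
    have hnA : ∀ x ∈ A, n * x = x * n := fun x hx => by
      rw [hn, mul_assoc, hcA x hx, ← mul_assoc,
        IsRootSubgroupSet.commute hS hA (A.inv_mem ha) hx, mul_assoc]
    have hnfix : conjBy A n = A := conjBy_of_commute hnA
    have hDB : ⁅B, D⁆ = ⊥ := by
      have h1 : ⁅conjBy B a, conjBy B c⁆ = ⊥ := by
        rw [e, ← ec]; exact commutator_conj_eq_bot b hAC
      have h2 := commutator_conj_eq_bot a⁻¹ h1
      rwa [conjBy_conjBy, conjBy_conjBy, inv_mul_cancel, conjBy_one, ← hn, ← hD] at h2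
    have hDne : D ≠ B := fun h => by
      refine hne (conjBy_injective b ?_)
      show conjBy C b = conjBy A b
      rw [← e, ec]
      conv_lhs => rw [show c = a * n by rw [hn]; group, ← conjBy_conjBy, ← hD, h]
    obtain ⟨d, hd⟩ : ∃ d : G, d = n * b * n⁻¹ := ⟨_, rfl⟩
    obtain ⟨d', hd'⟩ : ∃ d' : G, d' = n * b' * n⁻¹ := ⟨_, rfl⟩
    have hdD : d ∈ D := hD ▸ hd ▸ conj_mem_conjBy n hb
    have hd'D : d' ∈ D := hD ▸ hd' ▸ conj_mem_conjBy n hb'
    obtain ⟨β, hβ, eβ⟩ : ∃ β ∈ B, b * a * b⁻¹ = a * β * a⁻¹ := by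
      have h1 : b * a * b⁻¹ ∈ conjBy B a := e ▸ conj_mem_conjBy b ha
      refine ⟨_, mem_conjBy.1 h1, ?_⟩
      group
    obtain ⟨δ, hδ⟩ : ∃ δ : G, δ = n * β * n⁻¹ := ⟨_, rfl⟩
    have hδD : δ ∈ D := hD ▸ hδ ▸ conj_mem_conjBy n hβ
    have hcomm : ∀ {x y : G}, x ∈ B → y ∈ D → x * y = y * x := fun hx hy =>
      commute_of_commutator_eq_bot hDB hx hy
    -- evaluate `b d` on `A` in two ways
    have hdA : conjBy A d = conjBy D a := by
      rw [hd, ← conjBy_conjBy, ← conjBy_conjBy, show conjBy A n⁻¹ = A by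
        rw [conjBy_eq_iff, inv_inv, hnfix], ← e, hD, conjBy_conjBy, conjBy_conjBy, hnA a ha]
    have h1 : conjBy A (b * d) = conjBy D (a * β * a⁻¹) := by
      rw [← conjBy_conjBy, hdA, conjBy_conjBy, ← eβ]
      conv_lhs => rw [show b * a = b * a * b⁻¹ * b by group, ← conjBy_conjBy,
        conjBy_of_commute fun x hx => hcomm hb hx]
    have hda : d * a * d⁻¹ = a * δ * a⁻¹ := by
      have hna : n * a * n⁻¹ = a := mul_inv_eq_iff_eq_mul.2 (hnA a ha)
      have hna' : n * a⁻¹ * n⁻¹ = a⁻¹ :=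
        mul_inv_eq_iff_eq_mul.2 (hnA a⁻¹ (A.inv_mem ha))
      calc d * a * d⁻¹ = d * (n * a * n⁻¹) * d⁻¹ := by rw [hna]
        _ = n * (b * a * b⁻¹) * n⁻¹ := by rw [hd]; group
        _ = (n * a * n⁻¹) * δ * (n * a⁻¹ * n⁻¹) := by rw [eβ, hδ]; group
        _ = _ := by rw [hna, hna']
    have h2 : conjBy A (b * d) = conjBy B (a * δ * a⁻¹) := by
      rw [hcomm hb hdD, ← conjBy_conjBy, ← e, conjBy_conjBy, ← hda]
      conv_lhs => rw [show d * a = d * a * d⁻¹ * d by group, ← conjBy_conjBy,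
        conjBy_of_commute fun x hx => (hcomm hx hdD).symm]
    have hd'A : conjBy D a⁻¹ = conjBy A d' := by
      rw [hd', ← conjBy_conjBy, ← conjBy_conjBy, show conjBy A n⁻¹ = A by
        rw [conjBy_eq_iff, inv_inv, hnfix], ← e', hD, conjBy_conjBy, conjBy_conjBy,
        hnA a⁻¹ (A.inv_mem ha)]
    have h3 : conjBy A (β * d') = conjBy A (δ * b') := by
      refine conjBy_injective a ?_
      show conjBy (conjBy A (β * d')) a = conjBy (conjBy A (δ * b')) a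
      rw [← conjBy_conjBy A d', ← hd'A, ← conjBy_conjBy A b', ← e', conjBy_conjBy, conjBy_conjBy,
        conjBy_conjBy, conjBy_conjBy, ← h1, ← h2]
    set u := β * b'⁻¹ with hu
    have huB : u ∈ B := B.mul_mem hβ (B.inv_mem hb')
    have hfix : conjBy A (u * n * u⁻¹) = A := by
      have h4 : conjBy A ((δ * b')⁻¹ * (β * d')) = A := by
        rw [← conjBy_conjBy, h3, conjBy_conjBy, inv_mul_cancel, conjBy_one]
      have e4 : (δ * b')⁻¹ * (β * d') = u * n * u⁻¹ * n⁻¹ := by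
        have hun : n * u⁻¹ * n⁻¹ = δ⁻¹ * d' := by
          have hbb : b' * β⁻¹ = β⁻¹ * b' :=
            IsRootSubgroupSet.commute hS hB hb' (B.inv_mem hβ)
          calc n * u⁻¹ * n⁻¹ = n * (b' * β⁻¹) * n⁻¹ := by rw [hu]; group
            _ = n * (β⁻¹ * b') * n⁻¹ := by rw [hbb]
            _ = δ⁻¹ * d' := by rw [hδ, hd']; group
        have hu' : b'⁻¹ * δ⁻¹ * β = u * δ⁻¹ := by
          rw [mul_assoc, ← hcomm hβ (D.inv_mem hδD), ← mul_assoc,
            IsRootSubgroupSet.commute hS hB (B.inv_mem hb') hβ, hu]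
        calc (δ * b')⁻¹ * (β * d') = b'⁻¹ * δ⁻¹ * β * d' := by group
          _ = u * (δ⁻¹ * d') := by rw [hu', mul_assoc]
          _ = u * n * u⁻¹ * n⁻¹ := by rw [← hun]; group
      rw [e4, ← conjBy_conjBy, show conjBy A n⁻¹ = A by
        rw [conjBy_eq_iff, inv_inv, hnfix]] at h4
      exact h4
    have hu1 : u = 1 := by
      by_contra hu1
      have hP : conjBy A u⁻¹ ∈ unipotentSubgroups A B :=
        ⟨u⁻¹, Subgroup.mem_sup_right (B.inv_mem huB), rfl⟩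
      obtain ⟨α, hα, eα⟩ := RankOne.exists_of_ne hAB hP fun h => hu1
        (inv_eq_one.1 (RankOne.eq_one_of_conjBy_eq hBA (B.inv_mem huB) h))
      refine hDne (hD.trans (conjBy_injective α ?_))
      show conjBy (conjBy B n) α = conjBy B α
      rw [← eα]
      refine conjBy_injective u ?_
      show conjBy (conjBy (conjBy B n) α) u = conjBy (conjBy A u⁻¹) u
      rw [conjBy_conjBy A, mul_inv_cancel, conjBy_one, conjBy_conjBy B n α, ← hnA α hα,
        ← conjBy_conjBy B α n, ← eα, conjBy_conjBy, conjBy_conjBy, hfix]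
    rw [eβ, mul_inv_eq_one.1 hu1]
  -- combine the identities of `a` and `a⁻¹`
  obtain ⟨b', hb', -, e'⟩ := RankOne.exists_partner hAB (A.inv_mem ha) (inv_ne_one.2 ha1)
  have k1 := key ha ha1 hb hb' he e'
  have k2 := key (A.inv_mem ha) (inv_ne_one.2 ha1) hb' hb e' (by rw [inv_inv]; exact he)
  rw [inv_inv] at k2
  have hbb : b' = b⁻¹ := by
    have h1 : b = b * a * b⁻¹ * b'⁻¹ * a⁻¹ := by
      calc b = a * (a⁻¹ * b * a) * a⁻¹ := by group
        _ = (a * b' * a⁻¹) * b'⁻¹ * a⁻¹ := by rw [← k2]; group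
        _ = _ := by rw [← k1]
    have h2 : (b⁻¹ * b'⁻¹ : G) = 1 := by
      calc b⁻¹ * b'⁻¹ = a⁻¹ * (b⁻¹ * (b * a * b⁻¹ * b'⁻¹ * a⁻¹)) * a := by group
        _ = a⁻¹ * (b⁻¹ * b) * a := by rw [← h1]
        _ = 1 := by group
    exact (mul_inv_eq_one.1 h2).symm
  subst hbb
  refine ⟨e'.symm, ?_⟩
  have k := congrArg (fun x => x⁻¹) k2
  simp only [mul_inv_rev, inv_inv] at k
  calc b⁻¹ * a * b = b⁻¹ * (a * b) := mul_assoc _ _ _
    _ = a⁻¹ * (b⁻¹ * a) := k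
    _ = a⁻¹ * b⁻¹ * a := (mul_assoc _ _ _).symm

/-- A rank one pair with a separator is special. -/
theorem special (hS : IsRootSubgroupSet S) (hA : A ∈ S) (hB : B ∈ S) (hC : C ∈ S)
    (hAB : IsRankOnePair A B) (hBC : IsRankOnePair B C) (hAC : ⁅A, C⁆ = ⊥) (hne : C ≠ A) :
    IsSpecialRankOnePair A B := by
  refine ⟨hAB, fun a ha ha1 b hb _ he => ?_⟩
  obtain ⟨b₀, hb₀, -, e₀⟩ := RankOne.exists_partner hAB ha ha1
  obtain ⟨e₁, hid⟩ := neg_partner hS hA hB hC hAB hBC hAC hne ha ha1 hb₀ e₀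
  have : b⁻¹ = b₀⁻¹ := RankOne.inj_conj (RankOnePair_symm hAB) (B.inv_mem hb) (B.inv_mem hb₀)
    (he.trans e₁.symm)
  rw [inv_injective this]
  exact hid

/-- Partners and negation for a pair with a separator: the element `ε` and `a` have equal order. -/
theorem pow_eq_one_iff {a b : G} (h : b⁻¹ * a * b = a⁻¹ * b⁻¹ * a) (k : ℕ) :
    b ^ k = 1 ↔ a ^ k = 1 := by
  have hconj : a = (b * a⁻¹) * b⁻¹ * (b * a⁻¹)⁻¹ := by
    calc a = b * (b⁻¹ * a * b) * b⁻¹ := by group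
      _ = _ := by rw [h]; group
  conv_rhs => rw [hconj, conj_pow, conj_eq_one_iff, inv_pow, inv_eq_one]

/-- Translations along `E`: elements `M x` centralizing `E`, carrying `A` to members commuting with
`A`, with `M ε` carrying `a` into `C`, and the third difference of `x ↦ M x a (M x)⁻¹` vanishing. -/
theorem translations (hS : IsRootSubgroupSet S) (hA : A ∈ S) (hC : C ∈ S)
    (hE : E ∈ S) (hAE : IsRankOnePair A E) (hCE : IsRankOnePair C E)
    (hAC : ⁅A, C⁆ = ⊥) (hne : C ≠ A) {a ε : G} (ha : a ∈ A) (ha1 : a ≠ 1) (hε : ε ∈ E)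
    (he : conjBy E a = conjBy A ε) :
    ∃ M : G → G, M 1 = 1 ∧ (∀ x ∈ E, ∀ y ∈ E, M (x * y) = M x * M y) ∧
      (∀ x ∈ E, ∀ y ∈ E, M x * y = y * M x) ∧
      conjBy A (M ε) = C ∧ (∀ x ∈ E, ⁅A, conjBy A (M x)⁆ = ⊥) ∧
      (∀ x ∈ E, x ≠ 1 → conjBy A (M x) ≠ A) ∧
      ∀ β ∈ E, ∀ γ ∈ E, a = M γ * a * (M γ)⁻¹ * (M (ε * γ) * a * (M (ε * γ))⁻¹)⁻¹ *
        (M (ε * β * γ) * a * (M (ε * β * γ))⁻¹ * (M (β * γ) * a * (M (β * γ))⁻¹)⁻¹) *
        (M β * a * (M β)⁻¹ * (M (ε * β) * a * (M (ε * β))⁻¹)⁻¹) * (M ε * a * (M ε)⁻¹) := by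
  have hCA : ⁅C, A⁆ = ⊥ := by rwa [Subgroup.commutator_comm]
  have hε1 : ε ≠ 1 := fun h => RankOne.conj_ne hAE ha (by rw [he, h, conjBy_one])
  obtain ⟨c, hc, -, ec⟩ := RankOne.exists_partner (RankOnePair_symm hCE) hε hε1
  obtain ⟨eA, iA⟩ := neg_partner hS hA hE hC hAE (RankOnePair_symm hCE) hAC hne ha ha1 hε he
  have hc1 : c ≠ 1 := fun h => RankOne.conj_ne (RankOnePair_symm hCE) hε (by
    rw [ec, h, conjBy_one])
  obtain ⟨eC, iC⟩ := neg_partner hS hC hE hA hCE (RankOnePair_symm hAE) hCA hne.symm hc hc1 hε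
    ec.symm
  obtain ⟨n, hn⟩ : ∃ n : G, n = a⁻¹ * c := ⟨_, rfl⟩
  have hcA : ∀ x ∈ A, c * x = x * c := fun x hx =>
    (commute_of_commutator_eq_bot hAC hx hc).symm
  have hnA : ∀ x ∈ A, n * x = x * n := fun x hx => by
    rw [hn, mul_assoc, hcA x hx, ← mul_assoc,
      IsRootSubgroupSet.commute hS hA (A.inv_mem ha) hx, mul_assoc]
  have hnfix : conjBy A n = A := conjBy_of_commute hnA
  have hnfix' : conjBy A n⁻¹ = A := by rw [conjBy_eq_iff, inv_inv, hnfix]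
  obtain ⟨D, hD⟩ : ∃ D : Subgroup G, D = conjBy E n := ⟨_, rfl⟩
  have hED : ⁅E, D⁆ = ⊥ := by
    have k1 : ⁅conjBy E a, conjBy E c⁆ = ⊥ := by
      rw [he, ← ec]; exact commutator_conj_eq_bot ε hAC
    have k2 := commutator_conj_eq_bot a⁻¹ k1
    rwa [conjBy_conjBy, conjBy_conjBy, inv_mul_cancel, conjBy_one, ← hn, ← hD] at k2
  have hDne : D ≠ E := fun h => by
    refine hne (conjBy_injective ε ?_)
    show conjBy C ε = conjBy A ε
    rw [← he, ec]
    conv_lhs => rw [show c = a * n by rw [hn]; group, ← conjBy_conjBy, ← hD, h]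
  have hcomm : ∀ {x y : G}, x ∈ E → y ∈ D → x * y = y * x := fun hx hy =>
    commute_of_commutator_eq_bot hED hx hy
  set M : G → G := fun x => n * x * n⁻¹ * x⁻¹ with hM
  have hDmem : ∀ {x : G}, x ∈ E → n * x * n⁻¹ ∈ D := fun hx => hD ▸ conj_mem_conjBy n hx
  have hMmul : ∀ {x y : G}, x ∈ E → y ∈ E → M (x * y) = M x * M y := fun {x y} hx hy => by
    have hd := hcomm (E.inv_mem hx) (hDmem hy)
    calc M (x * y) = n * x * n⁻¹ * (n * y * n⁻¹) * (x * y)⁻¹ := by rw [hM]; group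
      _ = n * x * n⁻¹ * (n * y * n⁻¹) * (x⁻¹ * y⁻¹) := by
          rw [IsRootSubgroupSet.commute hS hE hx hy, mul_inv_rev]
      _ = n * x * n⁻¹ * (n * y * n⁻¹ * x⁻¹) * y⁻¹ := by group
      _ = n * x * n⁻¹ * (x⁻¹ * (n * y * n⁻¹)) * y⁻¹ := by rw [hd]
      _ = M x * M y := by rw [hM]; group
  have hM1 : M 1 = 1 := by rw [hM]; group
  have hMcomm : ∀ {x y : G}, x ∈ E → y ∈ E → M x * M y = M y * M x := fun {x y} hx hy => by
    rw [← hMmul hx hy, ← hMmul hy hx, IsRootSubgroupSet.commute hS hE hx hy]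
  -- `M ε` carries `a` to `c`
  have hMa : M ε * a * (M ε)⁻¹ = c := by
    have k1 : ε⁻¹ * a * ε = a⁻¹ * ε⁻¹ * a := iA
    have k2 : ε⁻¹ * c * ε = c⁻¹ * ε⁻¹ * c := iC
    calc M ε * a * (M ε)⁻¹ = n * ε * n⁻¹ * (ε⁻¹ * a * ε) * n * ε⁻¹ * n⁻¹ := by rw [hM]; group
      _ = n * ε * (n⁻¹ * a⁻¹) * ε⁻¹ * (a * n) * ε⁻¹ * n⁻¹ := by rw [k1]; group
      _ = n * ε * (c⁻¹ * ε⁻¹ * c) * ε⁻¹ * n⁻¹ := by
          have e1 : a * n = c := by rw [hn]; group
          have e2 : n⁻¹ * a⁻¹ = c⁻¹ := by rw [← e1]; group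
          rw [e1, e2]; group
      _ = n * c * n⁻¹ := by rw [← k2]; group
      _ = c := by
          rw [mul_inv_eq_iff_eq_mul, hn, mul_assoc,
            ← mul_assoc c, ← mul_assoc, ← hcA a⁻¹ (A.inv_mem ha)]
  have hCn : ¬ IsIsolatedIn (FAdj S) S C := not_isolated_of_pair hC hE hCE
  have hMA : conjBy A (M ε) = C :=
    (eq_of_mem_inter hS hCn hC (hS.conj_mem A hA _) hc (hMa ▸ conj_mem_conjBy _ ha) hc1).symm
  have hMfixE : ∀ {x y : G}, x ∈ E → y ∈ E → M x * y = y * M x := fun {x y} hx hy => by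
    rw [hM]
    show n * x * n⁻¹ * x⁻¹ * y = y * (n * x * n⁻¹ * x⁻¹)
    rw [mul_assoc _ x⁻¹, IsRootSubgroupSet.commute hS hE (E.inv_mem hx) hy, ← mul_assoc,
      ← hcomm hy (hDmem hx)]
    group
  -- the second translate of `D` commutes with `E`
  set D₂ := conjBy D n with hD₂
  have hDD₂ : ⁅D, D₂⁆ = ⊥ := by
    have := commutator_conj_eq_bot n hED
    rwa [← hD] at this
  have hED₂ : ⁅E, D₂⁆ = ⊥ := by
    have hn2 : D₂ = conjBy E ((a ^ 2)⁻¹ * c ^ 2) := by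
      rw [hD₂, hD, conjBy_conjBy]
      congr 1
      have k := hcA a⁻¹ (A.inv_mem ha)
      rw [hn]
      calc a⁻¹ * c * (a⁻¹ * c) = a⁻¹ * (c * a⁻¹) * c := by group
        _ = a⁻¹ * (a⁻¹ * c) * c := by rw [k]
        _ = _ := by rw [pow_two, pow_two]; group
    have hMc : M ε * a ^ 2 * (M ε)⁻¹ = c ^ 2 := by rw [← conj_pow, hMa]
    have hME : conjBy E (M ε) = E := conjBy_of_commute fun x hx => hMfixE hε hx
    have k1 : ⁅conjBy E (a ^ 2), conjBy E (c ^ 2)⁆ = ⊥ := by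
      by_cases ha2 : a ^ 2 = 1
      · have hc2 : c ^ 2 = 1 := by rw [← hMc, ha2]; group
        rw [ha2, hc2]
        exact Subgroup.commutator_eq_bot_iff_le_centralizer.2 fun x hx =>
          Subgroup.mem_centralizer_iff.2 fun y hy => IsRootSubgroupSet.commute hS
            (hS.conj_mem E hE 1) hy hx
      · obtain ⟨ε₂, hε₂, -, e₂⟩ := RankOne.exists_partner hAE (A.pow_mem ha 2) ha2
        have e₃ : conjBy E (c ^ 2) = conjBy C ε₂ := by
          calc conjBy E (c ^ 2) = conjBy (conjBy E (a ^ 2)) (M ε) := by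
                rw [conjBy_conjBy, show M ε * a ^ 2 = c ^ 2 * M ε from
                  mul_inv_eq_iff_eq_mul.1 hMc, ← conjBy_conjBy, hME]
            _ = conjBy C ε₂ := by
                rw [e₂, conjBy_conjBy, hMfixE hε hε₂, ← conjBy_conjBy, hMA]
        rw [e₂, e₃]
        exact commutator_conj_eq_bot ε₂ hAC
    have k2 := commutator_conj_eq_bot (a ^ 2)⁻¹ k1
    rwa [conjBy_conjBy, conjBy_conjBy, inv_mul_cancel, conjBy_one, ← hn2] at k2
  set T : G → G := fun x => M x * a * (M x)⁻¹ with hT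
  set Am : G → Subgroup G := fun x => conjBy A (M x) with hAm
  have hTA : ∀ x, T x ∈ Am x := fun x => conj_mem_conjBy _ ha
  have hcommA : ∀ {x : G}, x ∈ E → ⁅A, Am x⁆ = ⊥ := by
    intro x hx
    by_cases hx1 : x = 1
    · rw [hAm]
      show ⁅A, conjBy A (M x)⁆ = ⊥
      rw [hx1, hM1, conjBy_one]
      exact Subgroup.commutator_eq_bot_iff_le_centralizer.2 fun u hu =>
        Subgroup.mem_centralizer_iff.2 fun v hv => IsRootSubgroupSet.commute hS hA hv hu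
    · have hP : conjBy A x⁻¹ ∈ unipotentSubgroups A E :=
        ⟨x⁻¹, Subgroup.mem_sup_right (E.inv_mem hx), rfl⟩
      obtain ⟨α, hα, eα⟩ := RankOne.exists_of_ne hAE hP fun h => hx1
        (inv_eq_one.1 (RankOne.eq_one_of_conjBy_eq (RankOnePair_symm hAE) (E.inv_mem hx) h))
      set δ := n * x * n⁻¹
      have e₁ : conjBy A δ⁻¹ = conjBy D α := by
        rw [show δ⁻¹ = n * x⁻¹ * n⁻¹ by simp only [δ]; group, ← conjBy_conjBy, hnfix',
          ← conjBy_conjBy, eα, conjBy_conjBy, hnA α hα, ← conjBy_conjBy, ← hD]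
      have k1 : ⁅conjBy A δ⁻¹, conjBy A x⁻¹⁆ = ⊥ := by
        rw [e₁, eα]; exact commutator_conj_eq_bot α (by rwa [Subgroup.commutator_comm])
      have k2 := commutator_conj_eq_bot δ k1
      rwa [conjBy_conjBy, conjBy_conjBy, mul_inv_cancel, conjBy_one] at k2
  have hV : ∀ {x y : G}, x ∈ E → y ∈ E → T x * T y = T y * T x := fun {x y} hx hy => by
    refine commute_of_commutator_eq_bot ?_ (hTA x) (hTA y)
    have hy' : M y = M x * M (x⁻¹ * y) := by
      rw [← hMmul hx (E.mul_mem (E.inv_mem hx) hy), mul_inv_cancel_left]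
    show ⁅conjBy A (M x), conjBy A (M y)⁆ = ⊥
    rw [hy', ← conjBy_conjBy A (M (x⁻¹ * y)) (M x)]
    exact commutator_conj_eq_bot _ (hcommA (E.mul_mem (E.inv_mem hx) hy))
  have hT1 : T 1 = a := by rw [hT]; show M 1 * a * (M 1)⁻¹ = a; rw [hM1]; group
  have hna : n * a = c := by rw [hn, mul_assoc, hcA a ha, inv_mul_cancel_left]
  -- the differences
  set Z : G → G := fun x => M x * n * (M x)⁻¹ * n⁻¹ with hZ
  have hZM : ∀ {x y : G}, x ∈ E → y ∈ E → M y * Z x * (M y)⁻¹ = Z x := fun {x y} hx hy => by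
    rw [mul_inv_eq_iff_eq_mul]
    set X₁ := n * x * n⁻¹
    set X₂ := n * X₁ * n⁻¹
    have hX₂ : X₂ ∈ D₂ := conj_mem_conjBy n (hDmem hx)
    have hDD : ∀ {u v : G}, u ∈ D → v ∈ D → u * v = v * u := fun hu hv =>
      IsRootSubgroupSet.commute hS (hS.conj_mem E hE n) (hD ▸ hu) (hD ▸ hv)
    have eZ : Z x = X₁ * x⁻¹ * (X₁ * X₂⁻¹) := by simp only [hZ, hM, X₁, X₂]; group
    have c1 : Commute (M y) X₁ := by
      rw [hM]
      exact Commute.mul_left (hDD (hDmem hy) (hDmem hx))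
        (hcomm (E.inv_mem hy) (hDmem hx))
    have c2 : Commute (M y) x := hMfixE hy hx
    have c3 : Commute (M y) X₂ := by
      rw [hM]
      exact Commute.mul_left (commute_of_commutator_eq_bot hDD₂ (hDmem hy) hX₂)
        (commute_of_commutator_eq_bot hED₂ (E.inv_mem hy) hX₂)
    rw [eZ]
    exact ((c1.mul_right c2.inv_right).mul_right (c1.mul_right c3.inv_right)).eq
  have hrel : ∀ {x : G}, x ∈ E → T (ε * x) * (T x)⁻¹ = Z x * n := fun {x} hx => by
    have k : T (ε * x) = M x * c * (M x)⁻¹ := by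
      rw [hT]
      show M (ε * x) * a * (M (ε * x))⁻¹ = _
      rw [hMmul hε hx, hMcomm hε hx, ← hMa]; group
    rw [k, ← hna, hT, hZ]; group
  have hrel1 : T ε * a⁻¹ = n := by
    rw [hT]
    show M ε * a * (M ε)⁻¹ * a⁻¹ = n
    rw [hMa, ← hna, mul_inv_cancel_right]
  refine ⟨M, hM1, fun x hx y hy => hMmul hx hy, fun x hx y hy => hMfixE hx hy, hMA,
    fun x hx => hcommA hx, fun x hx hx1 h => ?_, fun β hβ γ hγ => ?_⟩
  · have hP : conjBy A x⁻¹ ∈ unipotentSubgroups A E :=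
      ⟨x⁻¹, Subgroup.mem_sup_right (E.inv_mem hx), rfl⟩
    obtain ⟨α, hα, eα⟩ := RankOne.exists_of_ne hAE hP fun h => hx1
      (inv_eq_one.1 (RankOne.eq_one_of_conjBy_eq (RankOnePair_symm hAE) (E.inv_mem hx) h))
    refine hDne (hD.trans (conjBy_injective α ?_))
    show conjBy (conjBy E n) α = conjBy E α
    rw [← eα, conjBy_conjBy, ← hnA α hα, ← conjBy_conjBy, ← eα, conjBy_conjBy]
    refine conjBy_injective (n * x * n⁻¹) ?_
    show conjBy (conjBy A (n * x⁻¹)) _ = conjBy (conjBy A x⁻¹) _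
    rw [conjBy_conjBy, conjBy_conjBy, show n * x * n⁻¹ * (n * x⁻¹) = n by group, hnfix]
    exact h.symm
  have hZmul : Z (β * γ) = Z γ * Z β := by
    calc Z (β * γ) = (M β * Z γ * (M β)⁻¹) * Z β := by
          rw [hZ]
          show M (β * γ) * n * (M (β * γ))⁻¹ * n⁻¹ = _
          rw [hMmul hβ hγ]; group
      _ = _ := by rw [hZM hγ hβ]
  show a = T γ * (T (ε * γ))⁻¹ * (T (ε * β * γ) * (T (β * γ))⁻¹) *
    (T β * (T (ε * β))⁻¹) * T ε
  have k1 : T (ε * β * γ) * (T (β * γ))⁻¹ = Z γ * Z β * n := by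
    rw [mul_assoc ε, hrel (E.mul_mem hβ hγ), hZmul]
  have k2 : (T (ε * β)) * (T β)⁻¹ = Z β * n := hrel hβ
  have k3 : (T (ε * γ)) * (T γ)⁻¹ = Z γ * n := hrel hγ
  calc a = n⁻¹ * T ε := by rw [← hrel1]; group
    _ = (Z γ * n)⁻¹ * (Z γ * Z β * n) * (Z β * n)⁻¹ * T ε := by
        congr 1
        group
    _ = _ := by rw [← k1, ← k2, ← k3]; group

/-- A separator from a commuting member with a common rank one partner. -/
theorem exists_separator (hS : IsRootSubgroupSet S) (hA : A ∈ S) (hB : B ∈ S) (hC : C ∈ S)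
    (hE : E ∈ S) (hAB : IsRankOnePair A B) (hAE : IsRankOnePair A E) (hCE : IsRankOnePair C E)
    (hAC : ⁅A, C⁆ = ⊥) (hne : C ≠ A) {a ε : G} (ha : a ∈ A) (ha1 : a ≠ 1) (hε : ε ∈ E)
    (he : conjBy E a = conjBy A ε) {β γ : G} (hβ : β ∈ E) (hγ : γ ∈ E) (h1 : β ≠ 1) (h2 : γ ≠ 1)
    (h3 : β * γ ≠ 1) (h4 : ε * β ≠ 1) (h5 : ε * γ ≠ 1) (h6 : ε * β * γ ≠ 1) :
    ∃ C' ∈ S, C' ≠ A ∧ ⁅A, C'⁆ = ⊥ ∧ ⁅B, C'⁆ ≠ ⊥ := by
  obtain ⟨M, -, -, -, -, hcommA, hAmne, hid⟩ :=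
    translations hS hA hC hE hAE hCE hAC hne ha ha1 hε he
  by_contra! hcon
  obtain ⟨b, hb, hb1⟩ := exists_mem_ne_one (hS.ne_bot B hB)
  have hTb : ∀ {x : G}, x ∈ E → x ≠ 1 →
      M x * a * (M x)⁻¹ ∈ Subgroup.centralizer {b} := fun {x} hx hx1 =>
    Subgroup.mem_centralizer_singleton_iff.2 (commute_of_commutator_eq_bot
      (hcon _ (hS.conj_mem A hA _) (hAmne x hx hx1) (hcommA x hx)) hb
      (conj_mem_conjBy _ ha)).symm
  have hε1 : ε ≠ 1 := fun h => RankOne.conj_ne hAE ha (by rw [he, h, conjBy_one])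
  refine RankOne.not_commute_elements hAB ha ha1 hb hb1 ?_
  have hmem : a ∈ Subgroup.centralizer {b} := by
    rw [hid β hβ γ hγ]
    refine mul_mem (mul_mem (mul_mem (mul_mem (hTb hγ h2) (inv_mem (hTb (E.mul_mem hε hγ) h5)))
      (mul_mem (hTb (E.mul_mem (E.mul_mem hε hβ) hγ) h6)
        (inv_mem (hTb (E.mul_mem hβ hγ) h3))))
      (mul_mem (hTb hβ h1) (inv_mem (hTb (E.mul_mem hε hβ) h4)))) (hTb hε hε1)
  exact Subgroup.mem_centralizer_singleton_iff.1 hmem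

end Cfsg.Agent.Fus.RootSep
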