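import Cfsg.Agent.Lib.Fus.RankOne

/-!
Rank one groups acting quadratically on an abelian group.
-/

set_option autoImplicit false
set_option linter.style.haveILetI false

open scoped commutatorElement

namespace Cfsg.Agent.Fus.RankOne

open Subgroup

variable {X : Type*} [Group X] {A B : Subgroup X}

theorem eq_one_of_mem_center (h : IsRankOneGroup X A B) {a : X} (ha : a ∈ A)
    (hz : a ∈ Subgroup.center X) : a = 1 := by
  by_contra ha1
  obtain ⟨b, hb, hb1⟩ := exists_one_ne (RankOnePair_symm h.2)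
  exact not_commute_elements h.2 ha ha1 hb hb1 (Subgroup.mem_center_iff.1 hz b).symm

/-- A normal subgroup containing an element of `A#` supplements `A`. -/
theorem sup_eq_top_of_mem (h : IsRankOneGroup X A B) {N : Subgroup X} (hN : N.Normal) {a : X}
    (ha : a ∈ A) (ha1 : a ≠ 1) (haN : a ∈ N) : N ⊔ A = ⊤ :=
  (sup_eq_top_or_le_center h hN).resolve_right fun e => ha1 (eq_one_of_mem_center h ha (e haN))

theorem not_commutator_le_center (h : IsRankOneGroup X A B) :
    ¬ commutator X ≤ Subgroup.center X := by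
  intro e
  refine center_ne_top h (top_le_iff.1 fun x _ => ?_)
  rw [← upperCentralSeries_two h, Subgroup.mem_upperCentralSeries_succ_iff]
  intro y
  rw [Subgroup.upperCentralSeries_one]
  exact e (Subgroup.commutator_mem_commutator (Subgroup.mem_top x) (Subgroup.mem_top y))

/-- If `A` is abelian, the quotient by a supplement of `A` is abelian. -/
theorem commutator_le_of_sup_eq_top (hA : IsMulCommutative A) {N : Subgroup X} (hN : N.Normal)
    (hs : N ⊔ A = ⊤) : commutator X ≤ N := by
  haveI := hN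
  haveI := hA
  show ⁅(⊤ : Subgroup X), ⊤⁆ ≤ N
  refine Subgroup.commutator_le.2 fun x _ y _ => ?_
  obtain ⟨m, hm, a, ha, rfl⟩ := Subgroup.mem_sup_of_normal_left.1 (hs.ge (Subgroup.mem_top x))
  obtain ⟨n, hn, a', ha', rfl⟩ := Subgroup.mem_sup_of_normal_left.1 (hs.ge (Subgroup.mem_top y))
  rw [← QuotientGroup.eq_one_iff]
  have hm1 : (m : X ⧸ N) = 1 := (QuotientGroup.eq_one_iff m).2 hm
  have hn1 : (n : X ⧸ N) = 1 := (QuotientGroup.eq_one_iff n).2 hn
  have e : a * a' = a' * a := congrArg Subtype.val (mul_comm' (⟨a, ha⟩ : A) ⟨a', ha'⟩)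
  rw [← QuotientGroup.mk'_apply, map_commutatorElement, commutatorElement_eq_one_iff_mul_comm]
  simp only [QuotientGroup.mk'_apply, QuotientGroup.mk_mul, hm1, hn1, one_mul]
  rw [← QuotientGroup.mk_mul, ← QuotientGroup.mk_mul, e]

variable {V : Type*} [AddCommGroup V] [DistribMulAction X V]

/-- `x - 1` as an endomorphism. -/
def delta (V : Type*) [AddCommGroup V] [DistribMulAction X V] (x : X) : AddMonoid.End V :=
  DistribMulAction.toAddMonoidEnd X V x - 1

theorem delta_apply (x : X) (v : V) : delta V x v = x • v - v := rfl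

theorem delta_one : delta V (1 : X) = 0 := by
  rw [delta, map_one, sub_self]

theorem delta_mul (x y : X) :
    delta V (x * y) = delta V x + delta V y + delta V x * delta V y := by
  simp only [delta, map_mul]
  noncomm_ring

theorem delta_eq_zero_iff {x : X} : delta V x = 0 ↔ ∀ v : V, x • v = v := by
  constructor
  · intro e v
    have := DFunLike.congr_fun e v
    exact sub_eq_zero.1 this
  · intro e
    ext v
    exact sub_eq_zero.2 (e v)

theorem delta_inv_of_sq {x : X} (hx : delta V x * delta V x = 0) :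
    delta V x⁻¹ = - delta V x := by
  have h1 := delta_mul (V := V) x⁻¹ x
  rw [inv_mul_cancel, delta_one] at h1
  have h2 : (delta V x⁻¹ + delta V x + delta V x⁻¹ * delta V x) * delta V x = 0 := by
    rw [← h1, zero_mul]
  rw [add_mul, add_mul, mul_assoc, hx, mul_zero, add_zero, add_zero] at h2
  rw [h2, add_zero] at h1
  exact eq_neg_of_add_eq_zero_left h1.symm

theorem delta_pow {x : X} (hx : delta V x * delta V x = 0) (n : ℕ) :
    delta V (x ^ n) = n • delta V x := by
  induction n with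
  | zero => rw [pow_zero, delta_one, zero_smul]
  | succ n ih =>
    rw [pow_succ, delta_mul, ih, smul_mul_assoc, hx, succ_nsmul]
    simp

/-- The quadratic hypothesis in terms of `delta`. -/
theorem delta_mul_eq_zero (hq : ∀ a ∈ A, ∀ a' ∈ A, ∀ v : V, a' • (a • v - v) = a • v - v)
    {a a' : X} (ha : a ∈ A) (ha' : a' ∈ A) : delta V a' * delta V a = 0 := by
  ext v
  exact sub_eq_zero.2 (hq a ha a' ha' v)

theorem delta_conj (x a : X) :
    delta V (x * a * x⁻¹) =
      DistribMulAction.toAddMonoidEnd X V x * delta V a *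
        DistribMulAction.toAddMonoidEnd X V x⁻¹ := by
  simp only [delta, map_mul, mul_sub, sub_mul, mul_one]
  rw [← map_mul, ← map_mul, ← map_mul, mul_inv_cancel, map_one]

theorem conj_quadratic (hq : ∀ a ∈ A, ∀ a' ∈ A, ∀ v : V, a' • (a • v - v) = a • v - v) (w : X)
    {d d' : X} (hd : d ∈ conjBy A w) (hd' : d' ∈ conjBy A w) :
    delta V d * delta V d' = 0 := by
  obtain ⟨a, ha, rfl⟩ := hd
  obtain ⟨a', ha', rfl⟩ := hd'
  show delta V (w * a * w⁻¹) * delta V (w * a' * w⁻¹) = 0
  rw [delta_conj, delta_conj]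
  simp only [mul_assoc]
  rw [← mul_assoc (DistribMulAction.toAddMonoidEnd X V w⁻¹), ← map_mul, inv_mul_cancel, map_one,
    one_mul, ← mul_assoc (delta V a), delta_mul_eq_zero hq ha' ha, zero_mul, mul_zero]

/-- The fixators. -/
def fixator (X : Type*) [Group X] {V : Type*} [AddCommGroup V] [DistribMulAction X V] (W : Set V) :
    Subgroup X where
  carrier := {x | ∀ v ∈ W, x • v = v}
  one_mem' := fun v _ => one_smul X v
  mul_mem' := fun {x y} hx hy v hv => by rw [mul_smul, hy v hv, hx v hv]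
  inv_mem' := fun {x} hx v hv => by rw [inv_smul_eq_iff, hx v hv]

theorem fixator_normal {W : Set V} (hW : ∀ (x : X), ∀ v ∈ W, x • v ∈ W) :
    (fixator X W).Normal := by
  refine ⟨fun n hn g v hv => ?_⟩
  rw [mul_smul, mul_smul, hn _ (hW g⁻¹ v hv), smul_inv_smul]

/-- A rank one group with a quadratic module on which `A` is faithful has `A` abelian. -/
theorem isMulCommutative_of_quadratic (hf : ∀ x : X, (∀ v : V, x • v = v) → x = 1)
    (hq : ∀ a ∈ A, ∀ a' ∈ A, ∀ v : V, a' • (a • v - v) = a • v - v) : IsMulCommutative A := by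
  refine ⟨⟨fun a a' => Subtype.ext ?_⟩⟩
  have e : delta V ((a : X) * a') = delta V ((a' : X) * a) := by
    rw [delta_mul, delta_mul, delta_mul_eq_zero hq a'.2 a.2, delta_mul_eq_zero hq a.2 a'.2,
      add_comm (delta V (a : X))]
  refine inv_mul_eq_one.1 (hf _ fun v => ?_)
  have := DFunLike.congr_fun e v
  rw [delta_apply, delta_apply, sub_left_inj] at this
  rw [mul_smul, inv_smul_eq_iff]
  exact this.symm

/-- Timmesfeld's structure theorem for quadratic rank one groups. -/
theorem torsionFree_or_elementary (h : IsRankOneGroup X A B)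
    (hf : ∀ x : X, (∀ v : V, x • v = v) → x = 1)
    (hq : ∀ a ∈ A, ∀ a' ∈ A, ∀ v : V, a' • (a • v - v) = a • v - v) {a₀ : X} (ha₀ : a₀ ∈ A)
    {p : ℕ} (hp : p.Prime) (ho : orderOf a₀ = p) {a : X} (ha : a ∈ A) : a ^ p = 1 := by
  haveI := Fact.mk hp
  have hA := isMulCommutative_of_quadratic hf hq
  by_contra hc1
  have ha₀1 : a₀ ≠ 1 := fun e => hp.ne_one (by rw [← ho, e, orderOf_one])
  have hpv : ∀ (x : X) (v : V), x • (p • v) = p • (x • v) := fun x v =>
    (DistribSMul.toAddMonoidHom V x).map_nsmul p v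
  have hpd : p • delta V a₀ = 0 := by
    rw [← delta_pow (delta_mul_eq_zero hq ha₀ ha₀), ← ho, pow_orderOf_eq_one, delta_one]
  set K := fixator X {w : V | ∃ v : V, w = p • v} with hK
  set L := fixator X {w : V | p • w = 0} with hL
  have hKn : K.Normal := fixator_normal fun x w ⟨v, e⟩ => ⟨x • v, by rw [e, hpv]⟩
  have hLn : L.Normal := fixator_normal fun x w (e : p • w = 0) => by
    show p • (x • w) = 0
    rw [← hpv, e, smul_zero]
  have h0K : a₀ ∈ K := by
    rintro _ ⟨v, rfl⟩
    have := DFunLike.congr_fun hpd v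
    rw [hpv]
    refine sub_eq_zero.1 ?_
    rw [← nsmul_sub]
    exact this
  have hcL : a ^ p ∈ L := by
    intro w (hw : p • w = 0)
    refine sub_eq_zero.1 ?_
    rw [← delta_apply, delta_pow (delta_mul_eq_zero hq ha ha)]
    show p • delta V a w = 0
    rw [← map_nsmul, hw, map_zero]
  have hMK := commutator_le_of_sup_eq_top hA hKn (sup_eq_top_of_mem h hKn ha₀ ha₀1 h0K)
  have hML := commutator_le_of_sup_eq_top hA hLn
    (sup_eq_top_of_mem h hLn (A.pow_mem ha p) hc1 hcL)
  set M := commutator X with hM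
  have hMA : M ⊔ A = ⊤ :=
    (sup_eq_top_or_le_center h (inferInstanceAs (commutator X).Normal)).resolve_right
      (not_commutator_le_center h)
  -- `M` stabilizes the chain
  have hprod : ∀ m ∈ M, ∀ n ∈ M, delta V m * delta V n = 0 := by
    intro m hm n hn
    ext v
    show delta V m (delta V n v) = 0
    rw [delta_apply, sub_eq_zero]
    refine hML hm _ ?_
    show p • delta V n v = 0
    rw [delta_apply, nsmul_sub, ← hpv, hMK hn _ ⟨v, rfl⟩, sub_self]
  have hMc : ∀ m ∈ M, ∀ n ∈ M, m * n = n * m := by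
    intro m hm n hn
    refine inv_mul_eq_one.1 (hf _ fun v => ?_)
    have e : delta V (m * n) = delta V (n * m) := by
      rw [delta_mul, delta_mul, hprod m hm n hn, hprod n hn m hm, add_comm (delta V m)]
    have := DFunLike.congr_fun e v
    rw [delta_apply, delta_apply, sub_left_inj] at this
    rw [mul_smul, inv_smul_eq_iff]
    exact this.symm
  have hdisj : ∀ x ∈ M, x ∈ A → x = 1 := by
    intro x hxM hxA
    refine eq_one_of_mem_center h hxA (Subgroup.mem_center_iff.2 fun y => ?_)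
    obtain ⟨m, hm, b, hb, rfl⟩ := Subgroup.mem_sup_of_normal_left.1 (hMA.ge (Subgroup.mem_top y))
    have := hA
    have e : b * x = x * b := congrArg Subtype.val (mul_comm' (⟨b, hb⟩ : A) ⟨x, hxA⟩)
    rw [mul_assoc, e, ← mul_assoc, hMc m hm x hxM, mul_assoc]
  -- the central series stops at the center
  have step : ∀ m ∈ M, ⁅a₀, m⁆ ∈ Subgroup.center X → m ∈ Subgroup.center X := by
    intro m hm hz
    have hcomm : ∀ y ∈ A, (m * a₀ * m⁻¹) * y = y * (m * a₀ * m⁻¹) := by
      intro y hy
      have := hA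
      have e : a₀ * y = y * a₀ := congrArg Subtype.val (mul_comm' (⟨a₀, ha₀⟩ : A) ⟨y, hy⟩)
      have hz' := Subgroup.mem_center_iff.1 ((Subgroup.center X).inv_mem hz)
      have em : m * a₀ * m⁻¹ = ⁅a₀, m⁆⁻¹ * a₀ := by rw [commutatorElement_def]; group
      rw [em, mul_assoc, e, ← mul_assoc, ← hz' y, mul_assoc]
    have hD : conjBy A m ∈ unipotentSubgroups A B := ⟨m, h.1 ▸ Subgroup.mem_top m, rfl⟩
    have hfix : conjBy A m = A := by
      by_contra hne
      have hmem : m * a₀ * m⁻¹ ∈ conjBy A m ⊓ Subgroup.normalizer (A : Set X) :=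
        ⟨conj_mem_conjBy m ha₀, centralizer_le_normalizer _
          (Subgroup.mem_centralizer_iff.2 fun y hy => (hcomm y hy).symm)⟩
      rw [inf_normalizer_points h.2 hD (self_mem A B) hne, Subgroup.mem_bot,
        conj_eq_one_iff] at hmem
      exact ha₀1 hmem
    refine Subgroup.mem_center_iff.2 fun y => ?_
    obtain ⟨n, hn, b, hb, rfl⟩ := Subgroup.mem_sup_of_normal_left.1 (hMA.ge (Subgroup.mem_top y))
    have hb' : m * b * m⁻¹ * b⁻¹ = 1 := by
      refine hdisj _ ?_ (A.mul_mem (hfix.le (conj_mem_conjBy m hb)) (A.inv_mem hb))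
      rw [show m * b * m⁻¹ * b⁻¹ = ⁅m, b⁆ from rfl]
      exact Subgroup.commutator_mem_commutator (Subgroup.mem_top m) (Subgroup.mem_top b)
    rw [mul_inv_eq_one, mul_inv_eq_iff_eq_mul] at hb'
    rw [mul_assoc, ← hb', ← mul_assoc, ← mul_assoc, hMc n hn m hm]
  have hmemM : ∀ x : X, ⁅a₀, x⁆ ∈ M := fun x =>
    Subgroup.commutator_mem_commutator (Subgroup.mem_top a₀) (Subgroup.mem_top x)
  have hphi : ∀ m ∈ M, delta V ⁅a₀, m⁆ = delta V a₀ * delta V m - delta V m * delta V a₀ -
      delta V a₀ * delta V m * delta V a₀ := by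
    intro m hm
    have hmm : delta V m * delta V m = 0 := hprod m hm m hm
    have haa := delta_mul_eq_zero hq ha₀ ha₀
    have hc : a₀ * m * a₀⁻¹ ∈ M :=
      (inferInstance : (commutator X).Normal).conj_mem m hm a₀
    have h1 := hprod _ hc m hm
    rw [commutatorElement_def, delta_mul, delta_inv_of_sq hmm, mul_neg, h1, neg_zero, add_zero,
      delta_mul, delta_mul, delta_inv_of_sq haa]
    noncomm_ring
    simp [haa]
  have h3 : ∀ m ∈ M, ⁅a₀, ⁅a₀, ⁅a₀, m⁆⁆⁆ = 1 := by
    intro m hm
    refine hf _ (delta_eq_zero_iff.1 ?_)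
    have haa := delta_mul_eq_zero hq ha₀ ha₀
    have haa' : ∀ z : AddMonoid.End V, delta V a₀ * (delta V a₀ * z) = 0 := fun z => by
      rw [← mul_assoc, haa, zero_mul]
    rw [hphi _ (hmemM _), hphi _ (hmemM _), hphi _ hm]
    simp only [mul_sub, sub_mul, mul_assoc, haa, haa', mul_zero, zero_mul, sub_zero, zero_sub,
      mul_neg, neg_mul, sub_self, neg_zero]
  refine not_commutator_le_center h fun m hm => step m hm (step _ (hmemM m) (step _ (hmemM _) ?_))
  rw [h3 m hm]
  exact one_mem _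

/-- A quadratic module with `[N, X, X] ≠ 0` forces a rank one group to be special. -/
theorem special_of_quadratic (h : IsRankOneGroup X A B) (hA : IsMulCommutative A)
    (hq : ∀ a ∈ A, ∀ a' ∈ A, ∀ v : V, a' • (a • v - v) = a • v - v)
    (hX : ∃ x y : X, ∃ v : V, y • (x • v - v) ≠ x • v - v) {a b : X} (ha : a ∈ A) (ha1 : a ≠ 1)
    (hb : b ∈ B) (hb1 : b ≠ 1) (he : conjBy A b⁻¹ = conjBy B a⁻¹) :
    b⁻¹ * a * b = a⁻¹ * b⁻¹ * a := by
  by_contra hne
  obtain ⟨w, -, hw⟩ := right_mem h.2
  set c := b⁻¹ with hc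
  have hcB : c ∈ B := B.inv_mem hb
  have hBq : ∀ {y z : X}, y ∈ B → z ∈ B → delta V y * delta V z = 0 := fun hy hz =>
    conj_quadratic hq w (hw ▸ hy) (hw ▸ hz)
  set d₁ := c * a * c⁻¹ with hd₁
  set d₂ := a⁻¹ * c * a with hd₂
  have hD₁ : d₁ ∈ conjBy A c := conj_mem_conjBy c ha
  have hD₂ : d₂ ∈ conjBy A c := by
    rw [he]
    have := conj_mem_conjBy a⁻¹ hcB
    rwa [inv_inv] at this
  set α := delta V a with hα
  set γ := delta V c with hγ
  have hαα : α * α = 0 := delta_mul_eq_zero hq ha ha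
  have hγγ : γ * γ = 0 := hBq hcB hcB
  have hαα' : ∀ z, α * (α * z) = 0 := fun z => by rw [← mul_assoc, hαα, zero_mul]
  have hγγ' : ∀ z, γ * (γ * z) = 0 := fun z => by rw [← mul_assoc, hγγ, zero_mul]
  have e₁ : delta V d₁ = (1 + γ) * α * (1 - γ) := by
    rw [hd₁, delta_mul, delta_mul, delta_inv_of_sq hγγ]
    noncomm_ring
    simp [← hα, ← hγ, hγγ, hαα]
  have e₂ : delta V d₂ = (1 - α) * γ * (1 + α) := by
    rw [hd₂, delta_mul, delta_mul, delta_inv_of_sq hαα]
    noncomm_ring
    simp [← hα, ← hγ, hγγ, hαα]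
  have i₁ : α * γ + α * γ * α * γ = 0 := by
    have h1 := conj_quadratic hq c hD₁ hD₂
    rw [e₁, e₂] at h1
    have h2 : (1 - γ) * ((1 + γ) * α * (1 - γ) * ((1 - α) * γ * (1 + α))) * (1 - α) = 0 := by
      rw [h1, mul_zero, zero_mul]
    have l : (1 - γ) * (1 + γ) = 1 := by
      noncomm_ring
      simp [hγγ]
    have r : (1 + α) * (1 - α) = 1 := by
      noncomm_ring
      simp [hαα]
    calc α * γ + α * γ * α * γ = α * (1 - γ) * ((1 - α) * γ) := by
          noncomm_ring
          simp [hγγ, hαα, hαα', hγγ']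
      _ = ((1 - γ) * (1 + γ)) * (α * (1 - γ) * ((1 - α) * γ)) * ((1 + α) * (1 - α)) := by
          rw [l, r, one_mul, mul_one]
      _ = (1 - γ) * ((1 + γ) * α * (1 - γ) * ((1 - α) * γ * (1 + α))) * (1 - α) := by
          simp only [mul_assoc]
      _ = 0 := h2
  have i₂ : γ * α + γ * α * γ * α = 0 := by
    have h1 := conj_quadratic hq c hD₂ hD₁
    rw [e₁, e₂] at h1
    have h2 : (1 + α) * ((1 - α) * γ * (1 + α) * ((1 + γ) * α * (1 - γ))) * (1 + γ) = 0 := by
      rw [h1, mul_zero, zero_mul]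
    have l : (1 + α) * (1 - α) = 1 := by
      noncomm_ring
      simp [hαα]
    have r : (1 - γ) * (1 + γ) = 1 := by
      noncomm_ring
      simp [hγγ]
    calc γ * α + γ * α * γ * α = γ * (1 + α) * ((1 + γ) * α) := by
          noncomm_ring
          simp [hγγ, hαα, hαα', hγγ']
      _ = ((1 + α) * (1 - α)) * (γ * (1 + α) * ((1 + γ) * α)) * ((1 - γ) * (1 + γ)) := by
          rw [l, r, one_mul, mul_one]
      _ = (1 + α) * ((1 - α) * γ * (1 + α) * ((1 + γ) * α * (1 - γ))) * (1 + γ) := by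
          simp only [mul_assoc]
      _ = 0 := h2
  -- the subgroup killing a given endomorphism on both sides
  have hgen : ∀ (R : AddMonoid.End V) (T : Subgroup X) (t : X), T ⊔ Subgroup.zpowers t = ⊤ →
      (∀ y ∈ T, delta V y * R = 0 ∧ R * delta V y = 0) → delta V t * R = 0 → R * delta V t = 0 →
      ∀ x : X, delta V x * R = 0 ∧ R * delta V x = 0 := by
    intro R T t htop hT ht ht' x
    have hx : x ∈ Subgroup.closure ((T : Set X) ∪ {t}) := by
      rw [Subgroup.closure_union, Subgroup.closure_eq, ← Subgroup.zpowers_eq_closure, htop]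
      exact Subgroup.mem_top x
    induction hx using Subgroup.closure_induction with
    | mem y hy =>
      rcases hy with hy | hy
      · exact hT y hy
      · rw [Set.mem_singleton_iff.1 hy]; exact ⟨ht, ht'⟩
    | one => rw [delta_one, zero_mul, mul_zero]; exact ⟨rfl, rfl⟩
    | mul y z _ _ ihy ihz =>
      rw [delta_mul, add_mul, add_mul, mul_add, mul_add, mul_assoc, ihz.1, ← mul_assoc, ihy.2,
        ihy.1, ihz.2]
      simp
    | inv y _ ih =>
      have e1 := delta_mul (V := V) y⁻¹ y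
      have e2 := delta_mul (V := V) y y⁻¹
      rw [inv_mul_cancel, delta_one] at e1
      rw [mul_inv_cancel, delta_one] at e2
      have f1 := congrArg (· * R) e1
      have f2 := congrArg (R * ·) e2
      simp only [zero_mul, mul_zero, add_mul, mul_add, mul_assoc, ih.1, add_zero] at f1
      simp only [zero_mul, mul_zero, add_mul, mul_add, ← mul_assoc, ih.2, zero_add, add_zero] at f2
      exact ⟨f1.symm, f2.symm⟩
  have gA : A ⊔ Subgroup.zpowers c = ⊤ := by
    refine top_le_iff.1 ?_
    rw [← h.1, ← sup_eq h.2 (self_mem A B) ⟨c, h.1 ▸ Subgroup.mem_top c, rfl⟩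
      (fun e => hb1 ?_)]
    · refine sup_le le_sup_left ?_
      rintro _ ⟨y, hy, rfl⟩
      exact mul_mem (mul_mem (Subgroup.mem_sup_right (Subgroup.mem_zpowers c))
        (Subgroup.mem_sup_left hy)) (Subgroup.mem_sup_right (inv_mem (Subgroup.mem_zpowers c)))
    · exact inv_eq_one.1 (eq_one_of_conjBy_eq (RankOnePair_symm h.2) hcB e.symm)
  have gB : B ⊔ Subgroup.zpowers a = ⊤ := by
    refine top_le_iff.1 ?_
    rw [← h.1, ← sup_eq h.2 (right_mem h.2)
      (conj_mem (right_mem h.2) (Subgroup.mem_sup_left (A.inv_mem ha)))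
      (fun e => ha1 (inv_eq_one.1 (eq_one_of_conjBy_eq h.2 (A.inv_mem ha) e.symm)))]
    refine sup_le le_sup_left ?_
    rintro _ ⟨y, hy, rfl⟩
    exact mul_mem (mul_mem (Subgroup.mem_sup_right (inv_mem (Subgroup.mem_zpowers a)))
      (Subgroup.mem_sup_left hy))
      (Subgroup.mem_sup_right (inv_mem (inv_mem (Subgroup.mem_zpowers a))))
  have hδ : ∀ x : X, delta V x * (α + α * γ * α) = 0 ∧ (α + α * γ * α) * delta V x = 0 := by
    refine hgen _ A c gA (fun y hy => ?_) ?_ ?_
    · have l := delta_mul_eq_zero hq ha hy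
      have r := delta_mul_eq_zero hq hy ha
      rw [← hα] at l r
      constructor
      · rw [mul_add, ← mul_assoc, ← mul_assoc, l, zero_mul, zero_mul, add_zero]
      · rw [add_mul, mul_assoc, r, mul_zero, add_zero]
    · rw [mul_add, ← mul_assoc, ← mul_assoc, ← hγ, i₂]
    · rw [add_mul, ← hγ, i₁]
  have hε : ∀ x : X, delta V x * (γ + γ * α * γ) = 0 ∧ (γ + γ * α * γ) * delta V x = 0 := by
    refine hgen _ B a gB (fun y hy => ?_) ?_ ?_
    · have l := hBq hy hcB
      have r := hBq hcB hy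
      rw [← hγ] at l r
      constructor
      · rw [mul_add, ← mul_assoc, ← mul_assoc, l, zero_mul, zero_mul, add_zero]
      · rw [add_mul, mul_assoc, r, mul_zero, add_zero]
    · rw [mul_add, ← mul_assoc, ← mul_assoc, ← hα, i₁]
    · rw [add_mul, ← hα, i₂]
  set u := d₁ * d₂⁻¹ with hu
  have eu : delta V u = (α + α * γ * α) - (γ + γ * α * γ) := by
    rw [hu, delta_mul, delta_inv_of_sq (conj_quadratic hq c hD₂ hD₂), mul_neg,
      conj_quadratic hq c hD₁ hD₂, neg_zero, add_zero, e₁, e₂]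
    noncomm_ring
  have hzero : ∀ x : X, delta V x * delta V u = 0 ∧ delta V u * delta V x = 0 := by
    intro x
    rw [eu, mul_sub, sub_mul, (hδ x).1, (hδ x).2, (hε x).1, (hε x).2, sub_zero]
    exact ⟨rfl, rfl⟩
  set K := fixator X (Set.univ : Set V) with hK
  have hKn : K.Normal := fixator_normal fun _ _ _ => Set.mem_univ _
  set Z := (Subgroup.center (X ⧸ K)).comap (QuotientGroup.mk' K) with hZ
  have huZ : u ∈ Z := by
    rw [hZ, Subgroup.mem_comap, Subgroup.mem_center_iff]
    intro q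
    obtain ⟨x, rfl⟩ := QuotientGroup.mk'_surjective K q
    rw [← map_mul, ← map_mul]
    refine QuotientGroup.eq.2 fun v _ => ?_
    have e : delta V (x * u) = delta V (u * x) := by
      rw [delta_mul x u, delta_mul u x, (hzero x).1, (hzero x).2, add_comm (delta V x)]
    have e' := DFunLike.congr_fun e v
    rw [delta_apply, delta_apply, sub_left_inj] at e'
    rw [mul_smul, inv_smul_eq_iff]
    exact e'.symm
  have hu1 : u ≠ 1 := fun e => hne (by
    have := mul_inv_eq_one.1 e
    simpa [hd₁, hd₂, hc] using this)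
  obtain ⟨a₁, ha₁, e₁'⟩ := (conjBy A c).mul_mem hD₁ ((conjBy A c).inv_mem hD₂)
  have hZn : Z.Normal := inferInstanceAs ((Subgroup.center (X ⧸ K)).comap _).Normal
  have ha₁Z : a₁ ∈ Z := by
    have := hZn.conj_mem u huZ c⁻¹
    have e : c⁻¹ * u * c⁻¹⁻¹ = a₁ := by
      rw [hu, ← e₁']
      show c⁻¹ * (c * a₁ * c⁻¹) * c⁻¹⁻¹ = a₁
      group
    rwa [e] at this
  have ha₁1 : a₁ ≠ 1 := fun e => hu1 (by
    rw [hu, ← e₁', e]
    exact map_one _)
  have hsup := sup_eq_top_of_mem h hZn ha₁ ha₁1 ha₁Z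
  have hab : ∀ x y : X, ((x * y : X) : X ⧸ K) = ((y * x : X) : X ⧸ K) := by
    intro x y
    obtain ⟨m, hm, p, hp, rfl⟩ := Subgroup.mem_sup_of_normal_left.1 (hsup.ge (Subgroup.mem_top x))
    obtain ⟨n, hn, q, hq', rfl⟩ := Subgroup.mem_sup_of_normal_left.1 (hsup.ge (Subgroup.mem_top y))
    have cm := Subgroup.mem_center_iff.1 hm
    have cn := Subgroup.mem_center_iff.1 hn
    simp only [QuotientGroup.mk'_apply] at cm cn
    have := hA
    have e : p * q = q * p := congrArg Subtype.val (mul_comm' (⟨p, hp⟩ : A) ⟨q, hq'⟩)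
    have e' : (p : X ⧸ K) * q = q * p := by rw [← QuotientGroup.mk_mul, e, QuotientGroup.mk_mul]
    simp only [QuotientGroup.mk_mul]
    calc (m : X ⧸ K) * p * (n * q) = m * (p * n) * q := by group
      _ = (m * n) * (p * q) := by rw [cn]; group
      _ = (n * m) * (q * p) := by rw [cn, e']
      _ = n * (m * q) * p := by group
      _ = n * q * (m * p) := by rw [← cm]; group
  have hcomm : commutator X ≤ K := by
    show ⁅(⊤ : Subgroup X), ⊤⁆ ≤ K
    refine Subgroup.commutator_le.2 fun x _ y _ => ?_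
    rw [← QuotientGroup.eq_one_iff, ← QuotientGroup.mk'_apply, map_commutatorElement,
      commutatorElement_eq_one_iff_mul_comm]
    exact hab x y
  rcases sup_eq_top_or_le_center h hKn with hs | hs
  · obtain ⟨x, y, v, hxy⟩ := hX
    obtain ⟨k, hk, p, hp, rfl⟩ := Subgroup.mem_sup_of_normal_left.1 (hs.ge (Subgroup.mem_top x))
    obtain ⟨l, hl, q, hq', rfl⟩ := Subgroup.mem_sup_of_normal_left.1 (hs.ge (Subgroup.mem_top y))
    apply hxy
    rw [mul_smul, mul_smul, hk _ trivial, hl _ trivial]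
    exact hq p hp q hq' v
  · exact not_commutator_le_center h (hcomm.trans hs)

end Cfsg.Agent.Fus.RankOne
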