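import Mathlib
import Cfsg.Agent.Lib.Fus.RootLines

/-!
Three members `A, B, C` of a set of abstract root subgroups with `⁅A, B⁆`, `⁅B, C⁆` members and
`⁅A, C⁆ = 1` generate a nilpotent group.
-/

set_option autoImplicit false
set_option linter.style.haveILetI false

open scoped commutatorElement

namespace Cfsg.Agent.Fus.RootNil

open Subgroup

variable {G : Type*} [Group G]

theorem commutatorElement_mem_of_closure {N X : Subgroup G} {s : Set G}
    (hX : Subgroup.closure s = X) (hc : ∀ n ∈ N, ∀ x ∈ X, x * n = n * x) {u : G}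
    (h : ∀ y ∈ s, ⁅u, y⁆ ∈ N) : ∀ y ∈ X, ⁅u, y⁆ ∈ N := by
  intro y hy
  rw [← hX] at hy
  induction hy using Subgroup.closure_induction with
  | mem y hy => exact h y hy
  | one => rw [commutatorElement_one_right]; exact N.one_mem
  | mul y z hy hz ihy ihz =>
    rw [show ⁅u, y * z⁆ = ⁅u, y⁆ * (y * ⁅u, z⁆ * y⁻¹) by simp only [commutatorElement_def]; group,
      hc _ ihz y (hX ▸ hy), mul_inv_cancel_right]
    exact N.mul_mem ihy ihz
  | inv y hy ih =>
    rw [show ⁅u, y⁻¹⁆ = y⁻¹ * ⁅u, y⁆⁻¹ * y⁻¹⁻¹ by simp only [commutatorElement_def]; group,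
      hc _ (N.inv_mem ih) y⁻¹ (hX ▸ inv_mem hy), mul_inv_cancel_right]
    exact N.inv_mem ih

/-- The derived subgroup of a join, from the commutators between the two parts. -/
theorem commutator_sup_le {N H K : Subgroup G} (hc : ∀ n ∈ N, ∀ x ∈ H ⊔ K, x * n = n * x)
    (h1 : ⁅H, H⁆ ≤ N) (h2 : ⁅K, K⁆ ≤ N) (h3 : ⁅H, K⁆ ≤ N) : ⁅H ⊔ K, H ⊔ K⁆ ≤ N := by
  have hX : Subgroup.closure ((H : Set G) ∪ K) = H ⊔ K := by
    rw [Subgroup.closure_union, Subgroup.closure_eq, Subgroup.closure_eq]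
  have hgen : ∀ u ∈ (H : Set G) ∪ K, ∀ y ∈ H ⊔ K, ⁅u, y⁆ ∈ N := by
    intro u hu
    refine commutatorElement_mem_of_closure hX hc ?_
    rintro y (hy | hy) <;> rcases hu with hu | hu
    · exact h1 (Subgroup.commutator_mem_commutator hu hy)
    · rw [← commutatorElement_inv]
      exact N.inv_mem (h3 (Subgroup.commutator_mem_commutator hy hu))
    · exact h3 (Subgroup.commutator_mem_commutator hu hy)
    · exact h2 (Subgroup.commutator_mem_commutator hu hy)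
  refine Subgroup.commutator_le.2 fun x hx y hy => ?_
  rw [← commutatorElement_inv]
  refine N.inv_mem (commutatorElement_mem_of_closure hX hc (fun u hu => ?_) x hx)
  rw [← commutatorElement_inv]
  exact N.inv_mem (hgen u hu y hy)

/-- A step up the upper central series from commutators with generators. -/
theorem mem_upper_succ {R : Type*} [Group R] {s : Set R} (hs : Subgroup.closure s = ⊤) {i : ℕ}
    {x : R} (h : ∀ y ∈ s, ⁅x, y⁆ ∈ Subgroup.upperCentralSeries R i) :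
    x ∈ Subgroup.upperCentralSeries R (i + 1) := by
  rw [Subgroup.mem_upperCentralSeries_succ_iff]
  intro y
  have hy : y ∈ Subgroup.closure s := hs ▸ Subgroup.mem_top y
  suffices hxy : ⁅x, y⁆ ∈ Subgroup.upperCentralSeries R i by simpa [commutatorElement_def] using hxy
  induction hy using Subgroup.closure_induction with
  | mem y hy => exact h y hy
  | one => rw [commutatorElement_one_right]; exact one_mem _
  | mul y z hy hz ihy ihz =>
    rw [show ⁅x, y * z⁆ = ⁅x, y⁆ * (y * ⁅x, z⁆ * y⁻¹) by simp only [commutatorElement_def]; group]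
    exact mul_mem ihy ((inferInstance : (Subgroup.upperCentralSeries R i).Normal).conj_mem _ ihz y)
  | inv y hy ih =>
    rw [show ⁅x, y⁻¹⁆ = y⁻¹ * ⁅x, y⁆⁻¹ * y⁻¹⁻¹ by simp only [commutatorElement_def]; group]
    exact (inferInstance : (Subgroup.upperCentralSeries R i).Normal).conj_mem _ (inv_mem ih) _

variable {S : Set (Subgroup G)} {A B C : Subgroup G}

theorem isMulCommutative_sup {H K : Subgroup G} (hH : IsMulCommutative H) (hK : IsMulCommutative K)
    (h : ∀ x ∈ H, ∀ y ∈ K, x * y = y * x) : IsMulCommutative ↥(H ⊔ K) := by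
  have key : H ⊔ K ≤ Subgroup.centralizer ((H ⊔ K : Subgroup G) : Set G) := by
    rw [Subgroup.le_centralizer_iff]
    refine sup_le ?_ ?_ <;> rw [Subgroup.le_centralizer_iff] <;> refine sup_le ?_ ?_ <;>
      intro x hx <;> refine Subgroup.mem_centralizer_iff.2 fun y hy => ?_
    · exact congrArg Subtype.val (mul_comm' (⟨y, hy⟩ : H) ⟨x, hx⟩)
    · exact h y hy x hx
    · exact (h x hx y hy).symm
    · exact congrArg Subtype.val (mul_comm' (⟨y, hy⟩ : K) ⟨x, hx⟩)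
  exact ⟨⟨fun x y => Subtype.ext (Subgroup.mem_centralizer_iff.1 (key y.2) x x.2)⟩⟩

theorem conjBy_le_sup (A B : Subgroup G) {x : G} (hx : x ∈ B) : conjBy A x ≤ A ⊔ ⁅A, B⁆ := by
  rintro _ ⟨a, ha, rfl⟩
  show x * a * x⁻¹ ∈ _
  rw [show x * a * x⁻¹ = a * ⁅a⁻¹, x⁆ by simp only [commutatorElement_def]; group]
  exact mul_mem (Subgroup.mem_sup_left ha)
    (Subgroup.mem_sup_right (Subgroup.commutator_mem_commutator (A.inv_mem ha) hx))

theorem conjBy_le_sup' (B C : Subgroup G) {x : G} (hx : x ∈ B) : conjBy C x ≤ C ⊔ ⁅B, C⁆ := by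
  rw [Subgroup.commutator_comm]
  exact conjBy_le_sup C B hx

theorem line_centralizes (hS : IsRootSubgroupSet S) (hA : A ∈ S) (h : RootCommutatorCase S A B)
    {x a : G} (hx : x ∈ A ⊔ ⁅A, B⁆) (ha : a ∈ A) : a * x = x * a := by
  have : A ⊔ ⁅A, B⁆ ≤ Subgroup.centralizer (A : Set G) :=
    sup_le (fun y hy => Subgroup.mem_centralizer_iff.2 fun z hz =>
        IsRootSubgroupSet.commute hS hA hz hy)
      fun y hy => Subgroup.mem_centralizer_iff.2 fun z hz =>
        RootCommutatorCase.commute_left h hz hy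
  exact Subgroup.mem_centralizer_iff.1 (this hx) a ha

/-- In the situation of the statement, `⁅A, ⁅B, C⁆⁆` is trivial or a member. -/
theorem commutator_case (hS : IsRootSubgroupSet S) (hA : A ∈ S)
    (hAB : RootCommutatorCase S A B) (hBC : RootCommutatorCase S B C) (hC : C ∈ S)
    (hAC : ⁅A, C⁆ = ⊥) :
    ⁅A, ⁅B, C⁆⁆ = ⊥ ∨ RootCommutatorCase S A ⁅B, C⁆ := by
  rcases hS.pair A hA _ hBC.1 with h | h | h
  · exact Or.inl h
  swap
  · exact Or.inr h
  exfalso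
  set K := ⁅B, C⁆ with hK
  obtain ⟨b, hb, hb1⟩ : ∃ b ∈ B, b ≠ 1 := by
    by_contra! hcon
    refine hS.ne_bot _ hAB.1 (Subgroup.commutator_eq_bot_iff_le_centralizer.2 fun a _ => ?_)
    exact Subgroup.mem_centralizer_iff.2 fun y hy => by rw [hcon y hy, one_mul, mul_one]
  obtain ⟨c, hc, hne⟩ := RootCommutatorCase.not_centralize hS hBC hb hb1
  set k := ⁅c, b⁆ with hk
  have hkK : k ∈ K := by
    rw [hk, ← commutatorElement_inv]
    exact inv_mem (Subgroup.commutator_mem_commutator hb hc)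
  have hk1 : k ≠ 1 := fun e => hne (commutatorElement_eq_one_iff_mul_comm.1 e).symm
  have hcA : conjBy A c = A := mem_normalizer_iff_conjBy.1 (centralizer_le_normalizer _
    (Subgroup.mem_centralizer_iff.2 fun a ha => commute_of_commutator_eq_bot hAC ha hc))
  -- `conjBy A b⁻¹` commutes with `A` and with `conjBy A k`
  have h1 : ∀ x ∈ conjBy A b⁻¹, ∀ a ∈ A, a * x = x * a := fun x hx a ha =>
    line_centralizes hS hA hAB (conjBy_le_sup A B (B.inv_mem hb) hx) ha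
  have h2 : ∀ x ∈ conjBy A b⁻¹, ∀ y ∈ conjBy A k, x * y = y * x := by
    rintro _ ⟨a, ha, rfl⟩ _ ⟨a', ha', rfl⟩
    show b⁻¹ * a * b⁻¹⁻¹ * (k * a' * k⁻¹) = k * a' * k⁻¹ * (b⁻¹ * a * b⁻¹⁻¹)
    obtain ⟨a'', ha'', hae⟩ : ∃ a'' ∈ A, c * a'' * c⁻¹ = a' := by
      have := hcA.symm ▸ ha'
      obtain ⟨a'', ha'', e⟩ := this
      exact ⟨a'', ha'', e⟩
    have hb' : b * k = k * b := RootCommutatorCase.commute_right
      (RootCommutatorCase.symm' hBC) hb (by rw [Subgroup.commutator_comm]; exact hkK)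
    have hcom : a * (b * a'' * b⁻¹) = b * a'' * b⁻¹ * a :=
      line_centralizes hS hA hAB (conjBy_le_sup A B hb (conj_mem_conjBy b ha'')) ha
    have hac : c * a * c⁻¹ = a := by
      rw [← commute_of_commutator_eq_bot hAC ha hc, mul_inv_cancel_right]
    have e1 : c * (b * a'' * b⁻¹) * c⁻¹ = b * (k * a' * k⁻¹) * b⁻¹ := by
      rw [show b * (k * a' * k⁻¹) * b⁻¹ = b * k * a' * (b * k)⁻¹ by group, hb', ← hae, hk,
        commutatorElement_def]
      group
    have h := congrArg (fun y => c * y * c⁻¹) hcom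
    rw [show c * (a * (b * a'' * b⁻¹)) * c⁻¹ = c * a * c⁻¹ * (c * (b * a'' * b⁻¹) * c⁻¹) by group,
      show c * (b * a'' * b⁻¹ * a) * c⁻¹ = c * (b * a'' * b⁻¹) * c⁻¹ * (c * a * c⁻¹) by group,
      hac, e1] at h
    calc b⁻¹ * a * b⁻¹⁻¹ * (k * a' * k⁻¹) = b⁻¹ * (a * (b * (k * a' * k⁻¹) * b⁻¹)) * b := by group
      _ = k * a' * k⁻¹ * (b⁻¹ * a * b⁻¹⁻¹) := by rw [h]; group
  have hA1 : conjBy A k ≠ A := fun e =>
    hk1 (RankOne.eq_one_of_conjBy_eq (RankOnePair_symm h) hkK e)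
  have hmem : conjBy A k ∈ unipotentSubgroups A K := ⟨k, Subgroup.mem_sup_right hkK, rfl⟩
  have hsup := RankOne.sup_eq h (RankOne.self_mem A K) hmem hA1.symm
  have hcen : A ⊔ conjBy A k ≤ Subgroup.centralizer ((conjBy A b⁻¹ : Subgroup G) : Set G) :=
    sup_le (fun a ha => Subgroup.mem_centralizer_iff.2 fun x hx => (h1 x hx a ha).symm)
      fun y hy => Subgroup.mem_centralizer_iff.2 fun x hx => h2 x hx y hy
  have hKb : conjBy K b⁻¹ = K := mem_normalizer_iff_conjBy.1 (centralizer_le_normalizer _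
    (Subgroup.mem_centralizer_iff.2 fun y hy => (RootCommutatorCase.commute_left hBC
      (B.inv_mem hb) hy).symm))
  have hpair := isRankOnePair_conjBy h b⁻¹
  rw [hKb] at hpair
  obtain ⟨x, hx, hx1⟩ := RankOne.exists_one_ne hpair
  exact RankOne.not_commute_elements hpair hx hx1 hkK hk1
    (Subgroup.mem_centralizer_iff.1 (hcen (hsup ▸ Subgroup.mem_sup_right hkK)) x hx)

/-- Structure of `X = ⟨A, b⁻¹ C b⟩`. -/
theorem side (hS : IsRootSubgroupSet S) (hA : A ∈ S) (hC : C ∈ S)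
    (hAB : RootCommutatorCase S A B) (hBC : RootCommutatorCase S B C) (hAC : ⁅A, C⁆ = ⊥)
    {b : G} (hb : b ∈ B) (hb1 : b ≠ 1) :
    ⁅A, ⁅B, C⁆⁆ ≤ A ⊔ conjBy C b⁻¹ ∧
      (∀ n ∈ ⁅A, ⁅B, C⁆⁆, ∀ x ∈ A ⊔ conjBy C b⁻¹, x * n = n * x) ∧
      ⁅A ⊔ conjBy C b⁻¹, A ⊔ conjBy C b⁻¹⁆ ≤ ⁅A, ⁅B, C⁆⁆ ∧
      (IsMulCommutative ↥(A ⊔ conjBy C b⁻¹) ↔ ⁅A, ⁅B, C⁆⁆ = ⊥) := by
  set K := ⁅B, C⁆ with hK
  set M := ⁅A, K⁆ with hM
  have hCK : conjBy C b⁻¹ ≤ C ⊔ K := conjBy_le_sup' B C (B.inv_mem hb)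
  have hkey : ∀ k ∈ K, ∀ a ∈ A, ∃ x ∈ conjBy C b⁻¹, ⁅a, k⁆ = ⁅a, x⁆ := by
    intro k hk a ha
    obtain ⟨c, hc, e⟩ := RootCommutatorCase.exists_left hBC (B.inv_mem hb) (inv_ne_one.2 hb1) hk
    refine ⟨b⁻¹ * c * b⁻¹⁻¹, conj_mem_conjBy b⁻¹ hc, ?_⟩
    have hce : b⁻¹ * c * b⁻¹⁻¹ = k * c := by rw [← e, commutatorElement_def]; group
    rw [hce, show ⁅a, k * c⁆ = ⁅a, k⁆ * (k * ⁅a, c⁆ * k⁻¹) by
      simp only [commutatorElement_def]; group,
      commutatorElement_eq_one_iff_mul_comm.2 (commute_of_commutator_eq_bot hAC ha hc)]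
    simp
  have hcases := commutator_case hS hA hAB hBC hC hAC
  have hMc : ∀ n ∈ M, ∀ x ∈ A ⊔ conjBy C b⁻¹, x * n = n * x := by
    rcases hcases with h | h
    · intro n hn x _
      rw [← hM] at h
      rw [h, Subgroup.mem_bot] at hn
      rw [hn, mul_one, one_mul]
    · intro n hn x hx
      have hMC : M ≤ Subgroup.centralizer (C : Set G) := Subgroup.commutator_le.2 fun a ha k hk => by
        have h1 : a ∈ Subgroup.centralizer (C : Set G) :=
          Subgroup.mem_centralizer_iff.2 fun c hc => (commute_of_commutator_eq_bot hAC ha hc).symm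
        have h2 : k ∈ Subgroup.centralizer (C : Set G) :=
          Subgroup.mem_centralizer_iff.2 fun c hc => RootCommutatorCase.commute_right hBC hc hk
        exact mul_mem (mul_mem (mul_mem h1 h2) (inv_mem h1)) (inv_mem h2)
      have hle : A ⊔ conjBy C b⁻¹ ≤ A ⊔ (C ⊔ K) := sup_le_sup_left hCK A
      have hcen : A ⊔ (C ⊔ K) ≤ Subgroup.centralizer ({n} : Set G) := by
        refine sup_le ?_ (sup_le ?_ ?_) <;> intro y hy <;>
          refine Subgroup.mem_centralizer_iff.2 fun z hz => ?_ <;>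
          rw [Set.mem_singleton_iff.1 hz]
        · exact (RootCommutatorCase.commute_left h hy hn).symm
        · exact (Subgroup.mem_centralizer_iff.1 (hMC hn) y hy).symm
        · exact (RootCommutatorCase.commute_right h hy hn).symm
      exact (Subgroup.mem_centralizer_iff.1 (hcen (hle hx)) n rfl).symm
  have hC' : ∀ x ∈ conjBy C b⁻¹, ∀ y ∈ conjBy C b⁻¹, x * y = y * x := fun x hx y hy =>
    IsRootSubgroupSet.commute hS (hS.conj_mem C hC b⁻¹) hx hy
  have hder : ⁅A ⊔ conjBy C b⁻¹, A ⊔ conjBy C b⁻¹⁆ ≤ M := by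
    refine commutator_sup_le hMc ?_ ?_ ?_
    · exact Subgroup.commutator_le.2 fun x hx y hy => by
        rw [commutatorElement_eq_one_iff_mul_comm.2 (IsRootSubgroupSet.commute hS hA hx hy)]
        exact M.one_mem
    · exact Subgroup.commutator_le.2 fun x hx y hy => by
        rw [commutatorElement_eq_one_iff_mul_comm.2 (hC' x hx y hy)]; exact M.one_mem
    · refine Subgroup.commutator_le.2 fun a ha x hx => ?_
      obtain ⟨c, hc, rfl⟩ := hx
      show ⁅a, b⁻¹ * c * b⁻¹⁻¹⁆ ∈ M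
      rw [show b⁻¹ * c * b⁻¹⁻¹ = ⁅b⁻¹, c⁆ * c by simp only [commutatorElement_def]; group,
        show ⁅a, ⁅b⁻¹, c⁆ * c⁆ = ⁅a, ⁅b⁻¹, c⁆⁆ * (⁅b⁻¹, c⁆ * ⁅a, c⁆ * ⁅b⁻¹, c⁆⁻¹) by
          simp only [commutatorElement_def]; group,
        commutatorElement_eq_one_iff_mul_comm.2 (commute_of_commutator_eq_bot hAC ha hc)]
      rw [mul_one, mul_inv_cancel, mul_one]
      exact Subgroup.commutator_mem_commutator ha
        (Subgroup.commutator_mem_commutator (B.inv_mem hb) hc)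
  refine ⟨Subgroup.commutator_le.2 fun a ha k hk => ?_, hMc, hder, fun h => ?_, fun h => ?_⟩
  · obtain ⟨x, hx, e⟩ := hkey k hk a ha
    rw [e]
    have h1 : a ∈ A ⊔ conjBy C b⁻¹ := Subgroup.mem_sup_left ha
    have h2 : x ∈ A ⊔ conjBy C b⁻¹ := Subgroup.mem_sup_right hx
    exact mul_mem (mul_mem (mul_mem h1 h2) (inv_mem h1)) (inv_mem h2)
  · refine le_bot_iff.1 (Subgroup.commutator_le.2 fun a ha k hk => ?_)
    obtain ⟨x, hx, e⟩ := hkey k hk a ha
    rw [e, Subgroup.mem_bot, commutatorElement_eq_one_iff_mul_comm]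
    exact congrArg Subtype.val (mul_comm'
      (⟨a, Subgroup.mem_sup_left ha⟩ : ↥(A ⊔ conjBy C b⁻¹)) ⟨x, Subgroup.mem_sup_right hx⟩)
  · refine ⟨⟨fun x y => Subtype.ext (commutatorElement_eq_one_iff_mul_comm.1 ?_)⟩⟩
    have := hder (Subgroup.commutator_mem_commutator x.2 y.2)
    rw [h] at this
    exact Subgroup.mem_bot.1 this

/-- The main lemma on three members. -/
theorem root_nilpotent (hS : IsRootSubgroupSet S) (hA : A ∈ S) (hB : B ∈ S) (hC : C ∈ S)
    (hABm : ⁅A, B⁆ ∈ S) (hBCm : ⁅B, C⁆ ∈ S) (hAC : C ∈ commutingPartners S A)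
    {b : G} (hb : b ∈ B) (hb1 : b ≠ 1) :
    ((IsMulCommutative ↥(A ⊔ conjBy C b⁻¹) ∧ IsMulCommutative ↥(conjBy A b⁻¹ ⊔ C)) ∨
      ((¬ IsMulCommutative ↥(A ⊔ conjBy C b⁻¹) ∧
        ⁅⁅A ⊔ conjBy C b⁻¹, A ⊔ conjBy C b⁻¹⁆, A ⊔ conjBy C b⁻¹⁆ = ⊥) ∧
      (¬ IsMulCommutative ↥(conjBy A b⁻¹ ⊔ C) ∧
        ⁅⁅conjBy A b⁻¹ ⊔ C, conjBy A b⁻¹ ⊔ C⁆, conjBy A b⁻¹ ⊔ C⁆ = ⊥))) ∧
    ⁅A ⊔ conjBy C b⁻¹, conjBy A b⁻¹ ⊔ C⁆ = ⊥ ∧
    (∀ r ∈ A ⊔ B ⊔ C, conjBy ((A ⊔ conjBy C b⁻¹) ⊔ (conjBy A b⁻¹ ⊔ C)) r =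
      (A ⊔ conjBy C b⁻¹) ⊔ (conjBy A b⁻¹ ⊔ C)) ∧
    ((A ⊔ conjBy C b⁻¹) ⊔ (conjBy A b⁻¹ ⊔ C)) ⊔ B = A ⊔ B ⊔ C ∧
    Group.IsNilpotent ↥(A ⊔ B ⊔ C) := by
  have hAB := rootCommutatorCase_of_mem hS hA hB hABm
  have hBC := rootCommutatorCase_of_mem hS hB hC hBCm
  have hAC0 : ⁅A, C⁆ = ⊥ := hAC.2.2
  have hCA0 : ⁅C, A⁆ = ⊥ := by rw [Subgroup.commutator_comm]; exact hAC0
  obtain ⟨hMX, hMc, hderX, hiffX⟩ := side hS hA hC hAB hBC hAC0 hb hb1
  obtain ⟨hMY, hMc', hderY, hiffY⟩ := side hS hC hA (RootCommutatorCase.symm' hBC)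
    (RootCommutatorCase.symm' hAB) hCA0 hb hb1
  rw [sup_comm C, Subgroup.commutator_comm B A] at hMY hMc' hderY hiffY
  set X := A ⊔ conjBy C b⁻¹ with hX
  set Y := conjBy A b⁻¹ ⊔ C with hY
  set E := ⁅A, B⁆ with hE
  set K := ⁅B, C⁆ with hK
  have hiff : ⁅A, K⁆ = ⊥ ↔ ⁅C, E⁆ = ⊥ := by
    constructor <;> intro h
    · rw [Subgroup.commutator_comm, hE]
      refine Subgroup.commutator_commutator_eq_bot_of_rotate ?_ (by rw [hCA0, Subgroup.commutator_bot_left])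
      rw [Subgroup.commutator_comm]; exact h
    · rw [Subgroup.commutator_comm, hK]
      refine Subgroup.commutator_commutator_eq_bot_of_rotate (by rw [hCA0, Subgroup.commutator_bot_left]) ?_
      rw [Subgroup.commutator_comm]; exact h
  have hclass : ∀ {Z N : Subgroup G}, (∀ n ∈ N, ∀ x ∈ Z, x * n = n * x) → ⁅Z, Z⁆ ≤ N →
      ⁅⁅Z, Z⁆, Z⁆ = ⊥ := fun {Z N} hc hd =>
    Subgroup.commutator_eq_bot_iff_le_centralizer.2 fun n hn =>
      Subgroup.mem_centralizer_iff.2 fun x hx => hc n (hd hn) x hx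
  have hXY : ⁅X, Y⁆ = ⊥ := by
    rw [Subgroup.commutator_eq_bot_iff_le_centralizer]
    refine sup_le ?_ ?_ <;> rw [Subgroup.le_centralizer_iff] <;> refine sup_le ?_ ?_ <;>
      intro y hy <;> refine Subgroup.mem_centralizer_iff.2 fun x hx => ?_
    · exact line_centralizes hS hA hAB (conjBy_le_sup A B (B.inv_mem hb) hy) hx
    · exact commute_of_commutator_eq_bot hAC0 hx hy
    · obtain ⟨c, hc, rfl⟩ := hx
      obtain ⟨a, ha, rfl⟩ := hy
      have := commute_of_commutator_eq_bot hAC0 ha hc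
      simp only [MulEquiv.coe_toMonoidHom, ← map_mul]
      rw [this]
    · exact (line_centralizes hS hC (RootCommutatorCase.symm' hBC)
        (conjBy_le_sup C B (B.inv_mem hb) hx) hy).symm
  set P := X ⊔ Y with hP
  have hAP : A ≤ P := le_sup_left.trans le_sup_left
  have hCP : C ≤ P := le_sup_right.trans le_sup_right
  have hEP : E ≤ P := fun e he => by
    obtain ⟨a, ha, rfl⟩ := RootCommutatorCase.exists_right hAB (B.inv_mem hb) (inv_ne_one.2 hb1) he
    rw [show ⁅a, b⁻¹⁆ = a * (b⁻¹ * a⁻¹ * b⁻¹⁻¹) by simp only [commutatorElement_def]; group]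
    exact mul_mem (hAP ha)
      (Subgroup.mem_sup_right (Subgroup.mem_sup_left (conj_mem_conjBy _ (A.inv_mem ha))))
  have hKP : K ≤ P := fun k hk => by
    obtain ⟨c, hc, rfl⟩ := RootCommutatorCase.exists_left hBC (B.inv_mem hb) (inv_ne_one.2 hb1) hk
    rw [commutatorElement_def]
    exact mul_mem (Subgroup.mem_sup_left (Subgroup.mem_sup_right (conj_mem_conjBy _ hc)))
      (hCP (C.inv_mem hc))
  have hPle : P ≤ A ⊔ C ⊔ E ⊔ K := by
    refine sup_le (sup_le ?_ ?_) (sup_le ?_ ?_)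
    · exact le_sup_left.trans (le_sup_left.trans le_sup_left)
    · exact (conjBy_le_sup' B C (B.inv_mem hb)).trans
        (sup_le (le_sup_right.trans (le_sup_left.trans le_sup_left)) le_sup_right)
    · exact (conjBy_le_sup A B (B.inv_mem hb)).trans
        (sup_le (le_sup_left.trans (le_sup_left.trans le_sup_left))
          (le_sup_right.trans le_sup_left))
    · exact le_sup_right.trans (le_sup_left.trans le_sup_left)
  have hPeq : P = A ⊔ C ⊔ E ⊔ K := le_antisymm hPle (sup_le (sup_le (sup_le hAP hCP) hEP) hKP)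
  have hBE : ∀ β ∈ B, ∀ e ∈ E, β * e * β⁻¹ = e := fun β hβ e he => by
    rw [RootCommutatorCase.commute_right hAB hβ he, mul_inv_cancel_right]
  have hBK : ∀ β ∈ B, ∀ k ∈ K, β * k * β⁻¹ = k := fun β hβ k hk => by
    rw [RootCommutatorCase.commute_left hBC hβ hk, mul_inv_cancel_right]
  have hBP : ∀ β ∈ B, conjBy P β ≤ P := fun β hβ => by
    conv_lhs => rw [hPeq]
    simp only [conjBy, Subgroup.map_sup]
    refine sup_le (sup_le (sup_le ?_ ?_) ?_) ?_
    · exact (conjBy_le_sup A B hβ).trans (sup_le hAP hEP)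
    · exact (conjBy_le_sup' B C hβ).trans (sup_le hCP hKP)
    · rintro _ ⟨e, he, rfl⟩
      show β * e * β⁻¹ ∈ P
      rw [hBE β hβ e he]; exact hEP he
    · rintro _ ⟨k, hk, rfl⟩
      show β * k * β⁻¹ ∈ P
      rw [hBK β hβ k hk]; exact hKP hk
  have hnorm : A ⊔ B ⊔ C ≤ Subgroup.normalizer (P : Set G) := by
    refine sup_le (sup_le (hAP.trans Subgroup.le_normalizer) fun β hβ => ?_)
      (hCP.trans Subgroup.le_normalizer)
    rw [mem_normalizer_iff_conjBy]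
    refine le_antisymm (hBP β hβ) fun x hx => ?_
    have h := hBP β⁻¹ (B.inv_mem hβ) (conj_mem_conjBy β⁻¹ hx)
    exact ⟨β⁻¹ * x * β⁻¹⁻¹, h, by simp [mul_assoc]⟩
  have hR : A ⊔ B ⊔ C = P ⊔ B := by
    refine le_antisymm (sup_le (sup_le (hAP.trans le_sup_left) le_sup_right) (hCP.trans le_sup_left)) ?_
    refine sup_le (hPle.trans (sup_le (sup_le (sup_le ?_ le_sup_right) ?_) ?_))
      (le_sup_right.trans le_sup_left)
    · exact le_sup_left.trans le_sup_left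
    · exact Subgroup.commutator_le.2 fun a ha β hβ => by
        have h1 : a ∈ A ⊔ B ⊔ C := Subgroup.mem_sup_left (Subgroup.mem_sup_left ha)
        have h2 : β ∈ A ⊔ B ⊔ C := Subgroup.mem_sup_left (Subgroup.mem_sup_right hβ)
        exact mul_mem (mul_mem (mul_mem h1 h2) (inv_mem h1)) (inv_mem h2)
    · exact Subgroup.commutator_le.2 fun β hβ c hc => by
        have h1 : c ∈ A ⊔ B ⊔ C := Subgroup.mem_sup_right hc
        have h2 : β ∈ A ⊔ B ⊔ C := Subgroup.mem_sup_left (Subgroup.mem_sup_right hβ)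
        exact mul_mem (mul_mem (mul_mem h2 h1) (inv_mem h2)) (inv_mem h1)
  refine ⟨?_, hXY, fun r hr => mem_normalizer_iff_conjBy.1 (hnorm hr), hR.symm, ?_⟩
  · by_cases h : ⁅A, K⁆ = ⊥
    · exact Or.inl ⟨hiffX.2 h, hiffY.2 (hiff.1 h)⟩
    · exact Or.inr ⟨⟨fun h' => h (hiffX.1 h'), hclass hMc hderX⟩,
        fun h' => h (hiff.2 (hiffY.1 h')), hclass hMc' hderY⟩
  -- nilpotency
  set D := ⁅A, K⁆ ⊔ ⁅C, E⁆ with hD
  have hDc : ∀ n ∈ D, ∀ x ∈ P, x * n = n * x := by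
    have h : P ≤ Subgroup.centralizer (D : Set G) := by
      have hXc : X ≤ Subgroup.centralizer (D : Set G) := by
        rw [Subgroup.le_centralizer_iff]
        refine sup_le (fun n hn => Subgroup.mem_centralizer_iff.2 fun x hx => hMc n hn x hx)
          (hMY.trans ?_)
        rw [Subgroup.le_centralizer_iff]
        exact Subgroup.commutator_eq_bot_iff_le_centralizer.1 hXY
      have hYc : Y ≤ Subgroup.centralizer (D : Set G) := by
        rw [Subgroup.le_centralizer_iff]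
        exact sup_le (hMX.trans (Subgroup.commutator_eq_bot_iff_le_centralizer.1 hXY))
          fun n hn => Subgroup.mem_centralizer_iff.2 fun x hx => hMc' n hn x hx
      exact sup_le hXc hYc
    exact fun n hn x hx => (Subgroup.mem_centralizer_iff.1 (h hx) n hn).symm
  have hPD : ⁅P, P⁆ ≤ D := commutator_sup_le hDc (hderX.trans le_sup_left)
    (hderY.trans le_sup_right) (by rw [hXY]; exact bot_le)
  set R := A ⊔ B ⊔ C with hRdef
  set s : Set R := {x | (x : G) ∈ A ∨ (x : G) ∈ B ∨ (x : G) ∈ C} with hsdef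
  have hs : Subgroup.closure s = ⊤ := by
    refine (Subgroup.map_injective R.subtype_injective) ?_
    rw [MonoidHom.map_closure, ← MonoidHom.range_eq_map, Subgroup.range_subtype]
    refine le_antisymm ((Subgroup.closure_le _).2 ?_) (sup_le (sup_le ?_ ?_) ?_)
    · rintro _ ⟨x, -, rfl⟩; exact x.2
    · exact fun x hx => Subgroup.subset_closure
        ⟨⟨x, Subgroup.mem_sup_left (Subgroup.mem_sup_left hx)⟩, Or.inl hx, rfl⟩
    · exact fun x hx => Subgroup.subset_closure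
        ⟨⟨x, Subgroup.mem_sup_left (Subgroup.mem_sup_right hx)⟩, Or.inr (Or.inl hx), rfl⟩
    · exact fun x hx => Subgroup.subset_closure
        ⟨⟨x, Subgroup.mem_sup_right hx⟩, Or.inr (Or.inr hx), rfl⟩
  have hPR : P ≤ R := hR.symm ▸ le_sup_left
  let U : ℕ → Subgroup G := fun i => (Subgroup.upperCentralSeries R i).map R.subtype
  have step : ∀ {i : ℕ} {x : G}, x ∈ R → (∀ y ∈ A, ⁅x, y⁆ ∈ U i) → (∀ y ∈ B, ⁅x, y⁆ ∈ U i) →
      (∀ y ∈ C, ⁅x, y⁆ ∈ U i) → x ∈ U (i + 1) := by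
    intro i x hx h1 h2 h3
    refine ⟨⟨x, hx⟩, mem_upper_succ hs ?_, rfl⟩
    intro y hy
    have hmem : ⁅x, (y : G)⁆ ∈ U i := by
      rcases hy with hy | hy | hy
      exacts [h1 _ hy, h2 _ hy, h3 _ hy]
    obtain ⟨z, hz, hze⟩ := hmem
    have : z = ⁅(⟨x, hx⟩ : R), y⁆ := Subtype.ext (hze.trans rfl)
    exact this ▸ hz
  have hzero : ∀ {x : G}, x = 1 → ∀ i, x ∈ U i := fun {x} hx i => hx ▸ one_mem _
  have hcomm1 : ∀ {x y : G}, x * y = y * x → ∀ i, ⁅x, y⁆ ∈ U i := fun h i =>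
    hzero (commutatorElement_eq_one_iff_mul_comm.2 h) i
  have hEK : ∀ e ∈ E, ∀ k ∈ K, ⁅e, k⁆ ∈ U 1 := by
    intro e he k hk
    have hD' : ⁅e, k⁆ ∈ D := hPD (Subgroup.commutator_mem_commutator (hEP he) (hKP hk))
    refine step (hPR ((show ⁅e, k⁆ ∈ P from mul_mem (mul_mem (mul_mem (hEP he) (hKP hk))
      (inv_mem (hEP he))) (inv_mem (hKP hk))))) (fun y hy => hcomm1 (hDc _ hD' y (hAP hy)).symm 0)
      (fun y hy => hcomm1 ?_ 0) fun y hy => hcomm1 (hDc _ hD' y (hCP hy)).symm 0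
    have h1 : y * ⁅e, k⁆ * y⁻¹ = ⁅e, k⁆ := by
      rw [show y * ⁅e, k⁆ * y⁻¹ = ⁅y * e * y⁻¹, y * k * y⁻¹⁆ by
        simp only [commutatorElement_def]; group, hBE y hy e he, hBK y hy k hk]
    exact (mul_inv_eq_iff_eq_mul.1 h1).symm
  have hM2 : ⁅A, K⁆ ≤ U 2 := Subgroup.commutator_le.2 fun a ha k hk => by
    have hD' : ⁅a, k⁆ ∈ D := Subgroup.mem_sup_left (Subgroup.commutator_mem_commutator ha hk)
    refine step (hPR (le_sup_left (b := Y) (hMX (Subgroup.commutator_mem_commutator ha hk))))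
      (fun y hy => hcomm1 (hDc _ hD' y (hAP hy)).symm 1) (fun y hy => ?_)
      fun y hy => hcomm1 (hDc _ hD' y (hCP hy)).symm 1
    have he : ⁅a⁻¹, y⁆ ∈ E := Subgroup.commutator_mem_commutator (A.inv_mem ha) hy
    have hek : ⁅⁅a⁻¹, y⁆, k⁆ ∈ D := hPD (Subgroup.commutator_mem_commutator (hEP he) (hKP hk))
    have h1 : y * ⁅a, k⁆ * y⁻¹ = ⁅⁅a⁻¹, y⁆, k⁆ * ⁅a, k⁆ := by
      rw [show y * ⁅a, k⁆ * y⁻¹ = ⁅y * a * y⁻¹, y * k * y⁻¹⁆ by
        simp only [commutatorElement_def]; group, hBK y hy k hk,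
        show y * a * y⁻¹ = a * ⁅a⁻¹, y⁆ by simp only [commutatorElement_def]; group,
        show ⁅a * ⁅a⁻¹, y⁆, k⁆ = a * ⁅⁅a⁻¹, y⁆, k⁆ * a⁻¹ * ⁅a, k⁆ by
          simp only [commutatorElement_def]; group,
        hDc _ hek a (hAP ha), mul_inv_cancel_right]
    rw [show ⁅⁅a, k⁆, y⁆ = ⁅a, k⁆ * (y * ⁅a, k⁆ * y⁻¹)⁻¹ by
      simp only [commutatorElement_def]; group, h1, mul_inv_rev, mul_inv_cancel_left]
    exact inv_mem (hEK _ he k hk)
  have hM2' : ⁅C, E⁆ ≤ U 2 := Subgroup.commutator_le.2 fun c hc e he => by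
    have hD' : ⁅c, e⁆ ∈ D := Subgroup.mem_sup_right (Subgroup.commutator_mem_commutator hc he)
    refine step (hPR (le_sup_right (a := X) (hMY (Subgroup.commutator_mem_commutator hc he))))
      (fun y hy => hcomm1 (hDc _ hD' y (hAP hy)).symm 1) (fun y hy => ?_)
      fun y hy => hcomm1 (hDc _ hD' y (hCP hy)).symm 1
    have hk : ⁅c⁻¹, y⁆ ∈ K := by
      rw [hK, Subgroup.commutator_comm]
      exact Subgroup.commutator_mem_commutator (C.inv_mem hc) hy
    have hek : ⁅⁅c⁻¹, y⁆, e⁆ ∈ D := hPD (Subgroup.commutator_mem_commutator (hKP hk) (hEP he))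
    have h1 : y * ⁅c, e⁆ * y⁻¹ = ⁅⁅c⁻¹, y⁆, e⁆ * ⁅c, e⁆ := by
      rw [show y * ⁅c, e⁆ * y⁻¹ = ⁅y * c * y⁻¹, y * e * y⁻¹⁆ by
        simp only [commutatorElement_def]; group, hBE y hy e he,
        show y * c * y⁻¹ = c * ⁅c⁻¹, y⁆ by simp only [commutatorElement_def]; group,
        show ⁅c * ⁅c⁻¹, y⁆, e⁆ = c * ⁅⁅c⁻¹, y⁆, e⁆ * c⁻¹ * ⁅c, e⁆ by
          simp only [commutatorElement_def]; group,
        hDc _ hek c (hCP hc), mul_inv_cancel_right]
    rw [show ⁅⁅c, e⁆, y⁆ = ⁅c, e⁆ * (y * ⁅c, e⁆ * y⁻¹)⁻¹ by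
      simp only [commutatorElement_def]; group, h1, mul_inv_rev, mul_inv_cancel_left,
      ← commutatorElement_inv, inv_inv, ← commutatorElement_inv]
    rw [commutatorElement_inv]
    exact hEK e he _ hk
  have hE3 : ∀ e ∈ E, e ∈ U 3 := fun e he => by
    refine step (hPR (hEP he)) (fun y hy => hcomm1 (RootCommutatorCase.commute_left hAB hy he).symm 2)
      (fun y hy => hcomm1 (RootCommutatorCase.commute_right hAB hy he).symm 2) fun y hy => ?_
    rw [← commutatorElement_inv]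
    exact inv_mem (hM2' (Subgroup.commutator_mem_commutator hy he))
  have hK3 : ∀ k ∈ K, k ∈ U 3 := fun k hk => by
    refine step (hPR (hKP hk)) (fun y hy => ?_)
      (fun y hy => hcomm1 (RootCommutatorCase.commute_left hBC hy hk).symm 2)
      fun y hy => hcomm1 (RootCommutatorCase.commute_right hBC hy hk).symm 2
    rw [← commutatorElement_inv]
    exact inv_mem (hM2 (Subgroup.commutator_mem_commutator hy hk))
  have h4 : R ≤ U 4 := by
    refine sup_le (sup_le ?_ ?_) ?_ <;> intro x hx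
    · refine step (Subgroup.mem_sup_left (Subgroup.mem_sup_left hx))
        (fun y hy => hcomm1 (IsRootSubgroupSet.commute hS hA hx hy) 3)
        (fun y hy => hE3 _ (Subgroup.commutator_mem_commutator hx hy))
        fun y hy => hcomm1 (commute_of_commutator_eq_bot hAC0 hx hy) 3
    · refine step (Subgroup.mem_sup_left (Subgroup.mem_sup_right hx)) (fun y hy => ?_)
        (fun y hy => hcomm1 (IsRootSubgroupSet.commute hS hB hx hy) 3)
        fun y hy => hK3 _ (Subgroup.commutator_mem_commutator hx hy)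
      rw [← commutatorElement_inv]
      exact inv_mem (hE3 _ (Subgroup.commutator_mem_commutator hy hx))
    · refine step (Subgroup.mem_sup_right hx)
        (fun y hy => hcomm1 (commute_of_commutator_eq_bot hAC0 hy hx).symm 3) (fun y hy => ?_)
        fun y hy => hcomm1 (IsRootSubgroupSet.commute hS hC hx hy) 3
      rw [← commutatorElement_inv]
      exact inv_mem (hK3 _ (Subgroup.commutator_mem_commutator hy hx))
  refine ⟨⟨4, eq_top_iff.2 fun x _ => ?_⟩⟩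
  obtain ⟨y, hy, hye⟩ := h4 x.2
  exact Subtype.ext hye ▸ hy

end Cfsg.Agent.Fus.RootNil
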