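import Mathlib
import Cfsg.Agent.Lib.Fus.RootLines
import Cfsg.Agent.Lib.Fus.RootNilpotent
import Cfsg.Agent.Lib.Fus.RankOneQuadratic

/-!
In a non-degenerate class of abstract root subgroups the rank one pairs are special.
-/

set_option autoImplicit false
set_option linter.style.haveILetI false

open scoped commutatorElement

namespace Cfsg.Agent.Fus.RootSpecial

open Subgroup

variable {G : Type*} [Group G] {S : Set (Subgroup G)} {A B E : Subgroup G}

/-- A member of a covered line through `A` does not commute with a rank one partner of `A`. -/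
theorem not_commute_of_line (hS : IsRootSubgroupSet S) (hA : A ∈ S) (hB : B ∈ S) (hE : E ∈ S)
    (hAB : IsRankOnePair A B) (hAE : ⁅A, E⁆ = ⊥)
    (hcov : ∀ x ∈ A ⊔ E, x ≠ 1 → ∃ F ∈ S, x ∈ F) (hne : E ≠ A) : ⁅E, B⁆ ≠ ⊥ := by
  intro hEB
  obtain ⟨a, ha, ha1⟩ := exists_mem_ne_one (hS.ne_bot A hA)
  obtain ⟨z, hz, hz1⟩ := exists_mem_ne_one (hS.ne_bot E hE)
  have hza : z * a ≠ 1 := fun h => hne (eq_of_mem_inter hS (not_isolated_of_pair hA hB hAB) hA hE
    (by rw [eq_inv_of_mul_eq_one_left h]; exact A.inv_mem ha) hz hz1).symm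
  obtain ⟨F, hF, hmem⟩ := hcov (z * a)
    (mul_mem (Subgroup.mem_sup_right hz) (Subgroup.mem_sup_left ha)) hza
  refine hz1 (eq_one_of_mul_mem hS hA hB hAB hF (fun y hy => ?_) ha ha1 hmem hza)
  have hle : A ⊔ B ≤ Subgroup.centralizer ({z} : Set G) := by
    refine sup_le ?_ ?_ <;> intro x hx <;> refine Subgroup.mem_centralizer_singleton_iff.2 ?_
    · exact commute_of_commutator_eq_bot hAE hx hz
    · exact (commute_of_commutator_eq_bot hEB hz hx).symm
  exact (Subgroup.mem_centralizer_singleton_iff.1 (hle hy)).symm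

theorem exists_case (hcl : IsRootSubgroupClass S) (hnd : IsNondegenerateRootSet S) (hA : A ∈ S) :
    ∃ D ∈ S, RootCommutatorCase S A D := by
  obtain ⟨hS, hne, hconj⟩ := hcl
  obtain ⟨A₀, hA₀, B₀, hB₀, h⟩ := hnd.2.2
  obtain ⟨g, rfl⟩ := hconj A₀ hA₀ A hA
  refine ⟨conjBy B₀ g, hS.conj_mem B₀ hB₀ g,
    rootCommutatorCase_of_mem hS hA (hS.conj_mem B₀ hB₀ g) ?_⟩
  rw [commutator_conjBy]
  exact hS.conj_mem _ h.1 g

/-- On a line through `A` some other member is in the commutator case with a given rank one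
partner of `A`. -/
theorem exists_in_line (hS : IsRootSubgroupSet S) (hA : A ∈ S) (hB : B ∈ S)
    (hAB : IsRankOnePair A B) {C : Subgroup G} (hC : C ∈ linePartners S A) :
    ∃ F ∈ membersIn S (A ⊔ C), F ≠ A ∧ RootCommutatorCase S B F := by
  have hAn := not_isolated_of_pair hA hB hAB
  have hKA : C ≠ A := hC.1.2.1
  have hpart := hC.2
  have hcomm : ∀ F ∈ membersIn S (A ⊔ C), ⁅A, F⁆ = ⊥ := fun F hF => by
    have hle : A ⊔ C ≤ Subgroup.centralizer (A : Set G) := sup_le
      (fun x hx => Subgroup.mem_centralizer_iff.2 fun y hy =>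
        IsRootSubgroupSet.commute hS hA hy hx)
      fun x hx => Subgroup.mem_centralizer_iff.2 fun y hy =>
        commute_of_commutator_eq_bot hC.1.2.2 hy hx
    exact Subgroup.commutator_eq_bot_iff_le_centralizer.2 fun a ha =>
      Subgroup.mem_centralizer_iff.2 fun x hx =>
        (Subgroup.mem_centralizer_iff.1 (hle (hF.2 hx)) a ha).symm
  have hnc : ∀ F ∈ membersIn S (A ⊔ C), F ≠ A → ⁅F, B⁆ ≠ ⊥ := fun F hF hne => by
    refine not_commute_of_line hS hA hB hF.1 hAB (hcomm F hF) (fun x hx hx1 => ?_) hne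
    obtain ⟨M, hM, hxM⟩ := hpart.2.1 x (sup_le le_sup_left hF.2 hx) hx1
    exact ⟨M, hM.1, hxM⟩
  by_contra hcon
  push Not at hcon
  have hrk : ∀ F ∈ membersIn S (A ⊔ C), F ≠ A → IsRankOnePair F B := fun F hF hne => by
    rcases hS.pair F hF.1 B hB with h | h | h
    · exact absurd h (hnc F hF hne)
    · exact h
    · exact absurd (RootCommutatorCase.symm' h) (hcon F hF hne)
  have hKm : C ∈ membersIn S (A ⊔ C) := ⟨hC.1.1, le_sup_right⟩
  obtain ⟨b, hb, hb1⟩ := exists_mem_ne_one (hS.ne_bot B hB)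
  obtain ⟨a, ha, ha1, ea⟩ := RankOne.exists_partner (RankOnePair_symm hAB) hb hb1
  obtain ⟨c, hc, hc1, ec⟩ := RankOne.exists_partner (RankOnePair_symm (hrk C hKm hKA)) hb hb1
  -- `B` commutes with its conjugate by `c⁻¹ a`
  set e := c⁻¹ * a with he
  have hcomB : ⁅B, conjBy B e⁆ = ⊥ := by
    have h : ⁅conjBy B c, conjBy B a⁆ = ⊥ := by
      rw [← ec, ← ea, commutator_conjBy, Subgroup.commutator_comm, hcomm C hKm, conjBy,
        Subgroup.map_bot]
    have h' := congrArg (fun X => conjBy X c⁻¹) h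
    rw [← commutator_conjBy, conjBy_conjBy, conjBy_conjBy, inv_mul_cancel, conjBy_one] at h'

    exact h'.trans (Subgroup.map_bot _)
  have he1 : e ≠ 1 := fun h => by
    have hac : c = a := inv_mul_eq_one.1 h
    exact hKA (eq_of_mem_inter hS hAn hA hC.1.1 ha (hac ▸ hc) ha1).symm
  obtain ⟨F, hF, heF⟩ := hpart.2.1 e (mul_mem (Subgroup.mem_sup_right (inv_mem hc))
    (Subgroup.mem_sup_left ha)) he1
  have hFB : IsRankOnePair F B := by
    by_cases hne : F = A
    · rw [hne]; exact hAB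
    · exact hrk F hF hne
  refine he1 (RankOne.eq_one_of_conjBy_eq hFB heF ?_)
  exact RankOne.eq_of_commute (RankOnePair_symm hFB)
    ⟨e, Subgroup.mem_sup_right heF, rfl⟩ hcomB

/-- The members of a line given by a commutator case are line partners. -/
theorem mem_linePartners_of_line (hS : IsRootSubgroupSet S) {D : Subgroup G} (hA : A ∈ S)
    (hAn : ¬ IsIsolatedIn (FAdj S) S A) (hD : D ∈ S) (hAD : RootCommutatorCase S A D)
    {F : Subgroup G} (hF : F ∈ membersIn S (A ⊔ ⁅A, D⁆)) (hne : F ≠ A) :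
    F ∈ linePartners S A := by
  have hpart := line_partition hS hD hAD (lineInj_of_not_isolated hS hAn hA hAD)
  have hmem := membersIn_line hS hAn hA hAD
  rw [← hmem] at hpart
  have hsup : ∀ F ∈ membersIn S (A ⊔ ⁅A, D⁆), F ≠ A → A ⊔ F = A ⊔ ⁅A, D⁆ := by
    intro F hF hne
    refine le_antisymm (sup_le le_sup_left hF.2) (sup_le le_sup_left ?_)
    rw [hmem] at hF
    rcases hF with ⟨d, hd, rfl⟩ | rfl
    · intro c hc
      have hd1 : d ≠ 1 := fun e => hne (by simp only [e, conjBy_one])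
      obtain ⟨x, hx, rfl⟩ := RootCommutatorCase.exists_right hAD hd hd1 hc
      rw [show ⁅x, d⁆ = x * (d * x⁻¹ * d⁻¹) by simp only [commutatorElement_def]; group]
      exact mul_mem (Subgroup.mem_sup_left hx)
        (Subgroup.mem_sup_right (conj_mem_conjBy d (A.inv_mem hx)))
    · exact le_sup_right
  have hcomm : ∀ F ∈ membersIn S (A ⊔ ⁅A, D⁆), ⁅A, F⁆ = ⊥ := fun F hF =>
    Subgroup.commutator_eq_bot_iff_le_centralizer.2 fun a ha => Subgroup.mem_centralizer_iff.2
      fun x hx => (RootNil.line_centralizes hS hA hAD (hF.2 hx) ha).symm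
  exact ⟨⟨hF.1, hne, hcomm F hF⟩, by rw [hsup F hF hne]; exact hpart⟩

/-- A line partner of `A` in the commutator case with a given rank one partner of `A`. -/
theorem exists_linePartner (hcl : IsRootSubgroupClass S) (hnd : IsNondegenerateRootSet S)
    (hA : A ∈ S) (hB : B ∈ S) (hAB : IsRankOnePair A B) :
    ∃ C ∈ linePartners S A, RootCommutatorCase S B C := by
  obtain ⟨D, hD, hAD⟩ := exists_case hcl hnd hA
  have hAn := not_isolated_of_pair hA hB hAB
  have hK : ⁅A, D⁆ ∈ linePartners S A := mem_linePartners_of_line hcl.1 hA hAn hD hAD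
    ⟨hAD.1, le_sup_right⟩ (RootCommutatorCase.ne_left hcl.1 hAD).symm
  obtain ⟨F, hF, hne, h⟩ := exists_in_line hcl.1 hA hB hAB hK
  exact ⟨F, mem_linePartners_of_line hcl.1 hA hAn hD hAD hF hne, h⟩

/-- A member `C` commuting with `A` and in the commutator case with a rank one partner `B` of `A`
gives a member `⁅B, C⁆` in the commutator case with `A`. -/
theorem case_of_linePartner (hS : IsRootSubgroupSet S) {C : Subgroup G} (hA : A ∈ S)
    (hB : B ∈ S) (hC : C ∈ S) (hAB : IsRankOnePair A B) (hAC : ⁅A, C⁆ = ⊥)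
    (hBC : RootCommutatorCase S B C) : RootCommutatorCase S A ⁅B, C⁆ := by
  set K := ⁅B, C⁆ with hKdef
  have hKS : K ∈ S := hBC.1
  have hBA := RankOnePair_symm hAB
  have hBn := not_isolated_of_pair hB hA hBA
  have hKB : ⁅B, K⁆ = ⊥ := Subgroup.commutator_eq_bot_iff_le_centralizer.2 fun b hb =>
    Subgroup.mem_centralizer_iff.2 fun k hk => (RootCommutatorCase.commute_left hBC hb hk).symm
  have hKne : K ≠ B := (RootCommutatorCase.ne_left hS hBC).symm
  have hfixC : ∀ a ∈ A, ∀ c ∈ C, c * a * c⁻¹ = a := fun a ha c hc => by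
    rw [← commute_of_commutator_eq_bot hAC ha hc, mul_inv_cancel_right]
  have hAc : ∀ c ∈ C, conjBy A c = A := fun c hc => mem_normalizer_iff_conjBy.1
    (centralizer_le_normalizer _ (Subgroup.mem_centralizer_iff.2 fun a ha =>
      commute_of_commutator_eq_bot hAC ha hc))
  rcases hS.pair A hA K hKS with h | h | h
  · exfalso
    refine not_commute_of_line hS hB hA hKS hBA hKB (fun x hx _ => ?_) hKne
      (by rw [Subgroup.commutator_comm]; exact h)
    rcases line_cover hBC hx with h' | ⟨c, -, h'⟩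
    · exact ⟨K, hKS, h'⟩
    · exact ⟨_, hS.conj_mem B hB c, h'⟩
  swap
  · exact h
  exfalso
  obtain ⟨b, hb, hb1⟩ := exists_mem_ne_one (hS.ne_bot B hB)
  obtain ⟨a, ha, -, ea⟩ := RankOne.exists_partner hBA hb hb1
  obtain ⟨c, hc, hne⟩ := RootCommutatorCase.not_centralize hS hBC hb hb1
  set k := c * b * c⁻¹ * b⁻¹ with hk
  have hkK : k ∈ K := by
    rw [hKdef, Subgroup.commutator_comm]; exact Subgroup.commutator_mem_commutator hc hb
  have hk1 : k ≠ 1 := fun e => hne (commutatorElement_eq_one_iff_mul_comm.1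
    (e : ⁅c, b⁆ = 1)).symm
  set B1 := conjBy A b with hB1
  have hpair : IsRankOnePair B1 K := by
    have h' := isRankOnePair_conjBy h b
    rwa [show conjBy K b = K from mem_normalizer_iff_conjBy.1 (centralizer_le_normalizer _
      (Subgroup.mem_centralizer_iff.2 fun y hy =>
        (RootCommutatorCase.commute_left hBC hb hy).symm))] at h'
  have e1 : conjBy B1 c = conjBy B1 k := by
    rw [hB1, conjBy_conjBy, conjBy_conjBy, show c * b = k * b * c by rw [hk]; group,
      ← conjBy_conjBy, hAc c hc]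
  have e2 : conjBy B1 c = conjBy (conjBy B c) a := by
    have hca : c * a = a * c := (commute_of_commutator_eq_bot hAC ha hc).symm
    rw [ea, conjBy_conjBy, conjBy_conjBy, hca]
  have hcom : ⁅B1, conjBy B1 k⁆ = ⊥ := by
    have h0 : ⁅B, conjBy B c⁆ = ⊥ := Subgroup.commutator_eq_bot_iff_le_centralizer.2
      fun x hx => Subgroup.mem_centralizer_iff.2 fun y hy =>
        (RootNil.line_centralizes hS hB hBC (conjBy_le_line B C hc hy) hx).symm
    rw [← e1, e2, ea, commutator_conjBy, h0]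
    exact Subgroup.map_bot _
  exact hk1 (RankOne.eq_one_of_conjBy_eq (RankOnePair_symm hpair) hkK
    (RankOne.eq_of_commute hpair ⟨k, Subgroup.mem_sup_right hkK, rfl⟩ hcom))

/-- The conjugates of `⁅A, ⁅B, C⁆⁆` by `B` are conjugates of `⁅B, C⁆` by `A`. -/
theorem move_of_linePartner {C : Subgroup G}
    (hAB : IsRankOnePair A B) (hAC : ⁅A, C⁆ = ⊥) (hBC : RootCommutatorCase S B C)
    {b : G} (hb : b ∈ B) (hb1 : b ≠ 1) :
    ∃ a ∈ A, conjBy ⁅A, ⁅B, C⁆⁆ b = conjBy ⁅B, C⁆ a := by
  have hBA := RankOnePair_symm hAB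
  set K := ⁅B, C⁆ with hKdef
  set C' := ⁅A, K⁆ with hC'def
  have hsub : ∀ b ∈ B, b ≠ 1 → ⁅A, conjBy C b⁻¹⁆ = C' := by
    intro b hb hb1
    refine le_antisymm (Subgroup.commutator_le.2 ?_) (Subgroup.commutator_le.2 ?_)
    · rintro a ha _ ⟨c, hc, rfl⟩
      show ⁅a, b⁻¹ * c * b⁻¹⁻¹⁆ ∈ C'
      rw [show b⁻¹ * c * b⁻¹⁻¹ = ⁅b⁻¹, c⁆ * c by simp only [commutatorElement_def]; group,
        show ⁅a, ⁅b⁻¹, c⁆ * c⁆ = ⁅a, ⁅b⁻¹, c⁆⁆ * (⁅b⁻¹, c⁆ * ⁅a, c⁆ * ⁅b⁻¹, c⁆⁻¹) by
          simp only [commutatorElement_def]; group,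
        commutatorElement_eq_one_iff_mul_comm.2 (commute_of_commutator_eq_bot hAC ha hc),
        mul_one, mul_inv_cancel, mul_one]
      exact Subgroup.commutator_mem_commutator ha
        (Subgroup.commutator_mem_commutator (B.inv_mem hb) hc)
    · intro a ha k hk
      obtain ⟨c, hc, e⟩ := RootCommutatorCase.exists_left hBC (B.inv_mem hb) (inv_ne_one.2 hb1) hk
      have he : ⁅a, k⁆ = ⁅a, b⁻¹ * c * b⁻¹⁻¹⁆ := by
        rw [show b⁻¹ * c * b⁻¹⁻¹ = k * c by rw [← e, commutatorElement_def]; group,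
          show ⁅a, k * c⁆ = ⁅a, k⁆ * (k * ⁅a, c⁆ * k⁻¹) by
            simp only [commutatorElement_def]; group,
          commutatorElement_eq_one_iff_mul_comm.2 (commute_of_commutator_eq_bot hAC ha hc)]
        group
      rw [he]
      exact Subgroup.commutator_mem_commutator ha (conj_mem_conjBy b⁻¹ hc)
  have hmove : ∀ b ∈ B, b ≠ 1 → ∃ a ∈ A, conjBy C' b = conjBy K a := by
    intro b hb hb1
    obtain ⟨a, ha, -, ea⟩ := RankOne.exists_partner hBA hb hb1
    refine ⟨a, ha, ?_⟩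
    rw [← hsub b hb hb1, ← commutator_conjBy, conjBy_conjBy, mul_inv_cancel, conjBy_one, ea,
      hKdef, ← commutator_conjBy, show conjBy C a = C from mem_normalizer_iff_conjBy.1
        (centralizer_le_normalizer _ (Subgroup.mem_centralizer_iff.2 fun c hc =>
          (commute_of_commutator_eq_bot hAC ha hc).symm))]
  exact hmove b hb hb1

/-- Rank one pairs are special when a line partner of `A` is in the commutator case with `B`. -/
theorem special_of_linePartner (hS : IsRootSubgroupSet S) {C : Subgroup G} (hA : A ∈ S)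
    (hB : B ∈ S) (hC : C ∈ S) (hAB : IsRankOnePair A B) (hAC : ⁅A, C⁆ = ⊥)
    (hBC : RootCommutatorCase S B C) : IsSpecialRankOnePair A B := by
  set K := ⁅B, C⁆ with hKdef
  have hKS : K ∈ S := hBC.1
  have hBA := RankOnePair_symm hAB
  have hBn := not_isolated_of_pair hB hA hBA
  have hKB : ⁅B, K⁆ = ⊥ := Subgroup.commutator_eq_bot_iff_le_centralizer.2 fun b hb =>
    Subgroup.mem_centralizer_iff.2 fun k hk => (RootCommutatorCase.commute_left hBC hb hk).symm
  have hKne : K ≠ B := (RootCommutatorCase.ne_left hS hBC).symm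
  have hfixC : ∀ a ∈ A, ∀ c ∈ C, c * a * c⁻¹ = a := fun a ha c hc => by
    rw [← commute_of_commutator_eq_bot hAC ha hc, mul_inv_cancel_right]
  have hAc : ∀ c ∈ C, conjBy A c = A := fun c hc => mem_normalizer_iff_conjBy.1
    (centralizer_le_normalizer _ (Subgroup.mem_centralizer_iff.2 fun a ha =>
      commute_of_commutator_eq_bot hAC ha hc))
  -- `A` and `K` are in the commutator case
  have hcase : RootCommutatorCase S A K := case_of_linePartner hS hA hB hC hAB hAC hBC
  set C' := ⁅A, K⁆ with hC'def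
  have hC'A : ∀ a ∈ A, ∀ c ∈ C', a * c = c * a := fun a ha c hc =>
    RootCommutatorCase.commute_left hcase ha hc
  have hC'K : ∀ k ∈ K, ∀ c ∈ C', k * c = c * k := fun k hk c hc =>
    RootCommutatorCase.commute_right hcase hk hc
  have hKC' : K ≠ C' := by
    have h := RootCommutatorCase.ne_left hS (RootCommutatorCase.symm' hcase)
    rwa [Subgroup.commutator_comm] at h
  have hmove : ∀ b ∈ B, b ≠ 1 → ∃ a ∈ A, conjBy C' b = conjBy K a := fun b hb hb1 =>
    move_of_linePartner hAB hAC hBC hb hb1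
  set N := K ⊔ C' with hNdef
  have hconjA : ∀ a ∈ A, conjBy K a ≤ N := fun a ha => by
    rintro _ ⟨k, hk, rfl⟩
    show a * k * a⁻¹ ∈ N
    rw [show a * k * a⁻¹ = ⁅a, k⁆ * k by rw [commutatorElement_def]; group]
    exact mul_mem (Subgroup.mem_sup_right (Subgroup.commutator_mem_commutator ha hk))
      (Subgroup.mem_sup_left hk)
  have hAN : ∀ a ∈ A, conjBy N a ≤ N := fun a ha => by
    rw [hNdef, conjBy_sup]
    refine sup_le (hconjA a ha) ?_
    rintro _ ⟨c, hc, rfl⟩
    show a * c * a⁻¹ ∈ N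
    rw [hC'A a ha c hc, mul_inv_cancel_right]
    exact Subgroup.mem_sup_right hc
  have hBN : ∀ b ∈ B, conjBy N b ≤ N := fun b hb => by
    rw [hNdef, conjBy_sup]
    refine sup_le ?_ ?_
    · rintro _ ⟨k, hk, rfl⟩
      show b * k * b⁻¹ ∈ N
      rw [RootCommutatorCase.commute_left hBC hb hk, mul_inv_cancel_right]
      exact Subgroup.mem_sup_left hk
    · by_cases hb1 : b = 1
      · rw [hb1, conjBy_one]; exact le_sup_right
      · obtain ⟨a, ha, e⟩ := hmove b hb hb1
        rw [e]; exact hconjA a ha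
  have hnorm : A ⊔ B ≤ Subgroup.normalizer (N : Set G) := by
    have key : ∀ x : G, conjBy N x ≤ N → conjBy N x⁻¹ ≤ N →
        x ∈ Subgroup.normalizer (N : Set G) := fun x h h' => by
      refine mem_normalizer_iff_conjBy.2 (le_antisymm h fun y hy => ?_)
      exact mem_conjBy.2 (by simpa using h' (conj_mem_conjBy x⁻¹ hy))
    exact sup_le (fun a ha => key a (hAN a ha) (hAN _ (A.inv_mem ha)))
      fun b hb => key b (hBN b hb) (hBN _ (B.inv_mem hb))
  have hNab : IsMulCommutative ↥N := RootNil.isMulCommutative_sup (hS.commutative K hKS)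
    (hS.commutative C' hcase.1) hC'K
  have hconjN : ∀ x : ↥(A ⊔ B), ∀ n : ↥N, (x : G) * n * (x : G)⁻¹ ∈ N := fun x n =>
    (Subgroup.mem_normalizer_iff.1 (hnorm x.2) n).1 n.2
  letI : CommGroup ↥N := { (inferInstance : Group ↥N) with mul_comm := hNab.is_comm.comm }
  letI : DistribMulAction ↥(A ⊔ B) (Additive ↥N) :=
    { smul := fun x n => Additive.ofMul ⟨(x : G) * n.toMul * (x : G)⁻¹, hconjN x n.toMul⟩
      one_smul := fun n => Subtype.ext (show (1 : G) * n.toMul * (1 : G)⁻¹ = n.toMul by group)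
      mul_smul := fun x y n => Subtype.ext (show (x : G) * y * n.toMul * ((x : G) * y)⁻¹ =
        x * (y * n.toMul * (y : G)⁻¹) * (x : G)⁻¹ by group)
      smul_zero := fun x => Subtype.ext (show (x : G) * 1 * (x : G)⁻¹ = 1 by group)
      smul_add := fun x n m => Subtype.ext (show (x : G) * (n.toMul * m.toMul) * (x : G)⁻¹ =
        x * n.toMul * (x : G)⁻¹ * (x * m.toMul * (x : G)⁻¹) by group) }
  have hval : ∀ (x : ↥(A ⊔ B)) (n : Additive ↥N),
      (((x • n).toMul : ↥N) : G) = (x : G) * n.toMul * (x : G)⁻¹ := fun _ _ => rfl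
  have hdiff : ∀ (x : ↥(A ⊔ B)) (n : Additive ↥N),
      (((x • n - n).toMul : ↥N) : G) = ⁅(x : G), (n.toMul : G)⁆ := fun x n => by
    rw [sub_eq_add_neg, toMul_add, toMul_neg, Subgroup.coe_mul, Subgroup.coe_inv, hval,
      commutatorElement_def]
  set A' := A.subgroupOf (A ⊔ B) with hA'
  set B' := B.subgroupOf (A ⊔ B) with hB'
  have hmapA : A'.map (A ⊔ B).subtype = A := by
    rw [hA', Subgroup.subgroupOf_map_subtype, inf_eq_left.2 le_sup_left]
  have hmapB : B'.map (A ⊔ B).subtype = B := by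
    rw [hB', Subgroup.subgroupOf_map_subtype, inf_eq_left.2 le_sup_right]
  have hinj := Subgroup.map_injective (A ⊔ B).subtype_injective
  have hpull : ∀ {P Q : Subgroup ↥(A ⊔ B)} {P₀ Q₀ : Subgroup G}, P.map (A ⊔ B).subtype = P₀ →
      Q.map (A ⊔ B).subtype = Q₀ → RankOneCondition P₀ Q₀ → RankOneCondition P Q := by
    intro P Q P₀ Q₀ hP hQ hc x hx hx1
    obtain ⟨y, hy, hy1, e⟩ := hc x (hP ▸ Subgroup.mem_map_of_mem _ hx)
      fun h => hx1 (Subtype.ext h)
    rw [← hQ] at hy
    obtain ⟨y', hy', rfl⟩ := hy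
    refine ⟨y', hy', fun h => hy1 (by rw [h, map_one]), hinj ?_⟩
    rw [map_conjBy, map_conjBy, hP, hQ, map_inv, map_inv]
    exact e
  have hX : IsRankOneGroup ↥(A ⊔ B) A' B' := by
    haveI := hAB.nilpotent_left
    haveI := hAB.nilpotent_right
    refine ⟨hinj ?_, ⟨fun h => hAB.ne (by rw [← hmapA, h, hmapB]), ?_, ?_,
      hpull hmapA hmapB hAB.cond_left, hpull hmapB hmapA hAB.cond_right⟩⟩
    · rw [Subgroup.map_sup, hmapA, hmapB, ← MonoidHom.range_eq_map, Subgroup.range_subtype]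
    · exact Group.nilpotent_of_mulEquiv (Subgroup.subgroupOfEquivOfLe (le_sup_left : A ≤ A ⊔ B)).symm
    · exact Group.nilpotent_of_mulEquiv (Subgroup.subgroupOfEquivOfLe (le_sup_right : B ≤ A ⊔ B)).symm
  have hab' : IsMulCommutative ↥A' := ⟨⟨fun x y => Subtype.ext (Subtype.ext
    (IsRootSubgroupSet.commute hS hA x.2 y.2))⟩⟩
  have hcomC' : ∀ a ∈ A, ∀ n ∈ N, ⁅a, n⁆ ∈ C' := fun a ha n hn => by
    refine RootNil.commutatorElement_mem_of_closure (s := (K : Set G) ∪ C')
      (by rw [Subgroup.closure_union, Subgroup.closure_eq, Subgroup.closure_eq])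
      (fun c hc x hx => congrArg Subtype.val
        (hNab.is_comm.comm ⟨x, hx⟩ ⟨c, Subgroup.mem_sup_right hc⟩)) ?_ n hn
    rintro y (hy | hy)
    · exact Subgroup.commutator_mem_commutator ha hy
    · rw [commutatorElement_eq_one_iff_mul_comm.2 (hC'A a ha y hy)]
      exact C'.one_mem
  have hq : ∀ a ∈ A', ∀ a' ∈ A', ∀ n : Additive ↥N, a' • (a • n - n) = a • n - n := by
    intro a ha a' ha' n
    refine Additive.toMul.injective (Subtype.ext ?_)
    rw [hval, hdiff, hC'A a' ha' _ (hcomC' a ha n.toMul n.toMul.2), mul_inv_cancel_right]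
  refine ⟨hAB, fun a ha ha1 b hb hb1 he => ?_⟩
  have hmove' : ∃ x y : ↥(A ⊔ B), ∃ n : Additive ↥N, y • (x • n - n) ≠ x • n - n := by
    obtain ⟨b', hb', hb'1⟩ := exists_mem_ne_one (hS.ne_bot B hB)
    obtain ⟨c, hc, hne⟩ : ∃ c ∈ C', b' * c * b'⁻¹ ≠ c := by
      by_contra! hcon
      obtain ⟨a', ha'', e⟩ := hmove b' hb' hb'1
      have hfix : conjBy C' b' = C' := mem_normalizer_iff_conjBy.1
        (centralizer_le_normalizer _ (Subgroup.mem_centralizer_iff.2 fun c hc =>
          (mul_inv_eq_iff_eq_mul.1 (hcon c hc)).symm))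
      refine hKC' (conjBy_injective a' ?_)
      show conjBy K a' = conjBy C' a'
      rw [← e, hfix]
      exact (mem_normalizer_iff_conjBy.1 (centralizer_le_normalizer _
        (Subgroup.mem_centralizer_iff.2 fun c hc => (hC'A a' ha'' c hc).symm))).symm
    obtain ⟨k, hk, rfl⟩ := RootCommutatorCase.exists_left hcase ha ha1 hc
    refine ⟨⟨a, Subgroup.mem_sup_left ha⟩, ⟨b', Subgroup.mem_sup_right hb'⟩,
      Additive.ofMul ⟨k, Subgroup.mem_sup_left hk⟩, fun h => hne ?_⟩
    have h1 := congrArg (fun z : Additive ↥N => ((z.toMul : ↥N) : G)) h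
    simp only [hval, hdiff] at h1
    exact h1
  have hsp := RankOne.special_of_quadratic hX hab' hq hmove'
    (a := ⟨a, Subgroup.mem_sup_left ha⟩) (b := ⟨b, Subgroup.mem_sup_right hb⟩) ha
    (fun h => ha1 (congrArg Subtype.val h)) hb (fun h => hb1 (congrArg Subtype.val h))
    (hinj (by rw [map_conjBy, map_conjBy, hmapA, hmapB]; exact he))
  exact congrArg Subtype.val hsp

/-- The statement for a non-degenerate class. -/
theorem nondegenerate_special (hcl : IsRootSubgroupClass S) (hnd : IsNondegenerateRootSet S)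
    (hA : A ∈ S) (hB : B ∈ rankOnePartners S A) :
    (∃ C ∈ linePartners S A, C ∈ commutatorPartners S B) ∧ IsSpecialRankOnePair A B := by
  obtain ⟨hBS, hAB⟩ := hB
  obtain ⟨C, hC, hBC⟩ := exists_linePartner hcl hnd hA hBS hAB
  exact ⟨⟨C, hC, hC.1.1, hBC.1⟩,
    special_of_linePartner hcl.1 hA hBS hC.1.1 hAB hC.1.2.2 hBC⟩

end Cfsg.Agent.Fus.RootSpecial
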