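import Mathlib
import Cfsg.Agent.Lib.Fus.RootSeparator
import Cfsg.Agent.Lib.Fus.RootSpecial

/-!
In a class of abstract root subgroups with different commuting members the rank one pairs are
special.
-/

set_option autoImplicit false
set_option linter.style.haveILetI false
set_option linter.unusedSimpArgs false

open scoped commutatorElement

namespace Cfsg.Agent.Fus.RootClassSpecial

open Subgroup

universe u

variable {G : Type u} [Group G] {S : Set (Subgroup G)}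

section SL2

variable {k : Type*} [Field k]

/-- Upper unitriangular. -/
def upMat (t : k) : Matrix.SpecialLinearGroup (Fin 2) k :=
  ⟨!![1, t; 0, 1], by simp [Matrix.det_fin_two]⟩

/-- Lower unitriangular. -/
def lowMat (t : k) : Matrix.SpecialLinearGroup (Fin 2) k :=
  ⟨!![1, 0; t, 1], by simp [Matrix.det_fin_two]⟩

theorem upMat_mul (s t : k) : upMat s * upMat t = upMat (s + t) := Subtype.ext (by
  show (!![1, s; 0, 1] : Matrix (Fin 2) (Fin 2) k) * !![1, t; 0, 1] = !![1, s + t; 0, 1]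
  simp [add_comm])

theorem lowMat_mul (s t : k) : lowMat s * lowMat t = lowMat (s + t) := Subtype.ext (by
  show (!![1, 0; s, 1] : Matrix (Fin 2) (Fin 2) k) * !![1, 0; t, 1] = !![1, 0; s + t, 1]
  simp [add_comm])

theorem upMat_inv (t : k) : (upMat t)⁻¹ = upMat (-t) :=
  inv_eq_of_mul_eq_one_right (by
    rw [upMat_mul, add_neg_cancel]; exact Subtype.ext (Matrix.one_fin_two).symm)

theorem lowMat_inv (t : k) : (lowMat t)⁻¹ = lowMat (-t) :=
  inv_eq_of_mul_eq_one_right (by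
    rw [lowMat_mul, add_neg_cancel]; exact Subtype.ext (Matrix.one_fin_two).symm)

theorem mem_upper {g : Matrix.SpecialLinearGroup (Fin 2) k} :
    g ∈ upperUnipotentSL2 k ↔ ∃ t, g = upMat t := by
  constructor
  · intro hg
    induction hg using Subgroup.closure_induction with
    | mem x hx =>
      refine ⟨x 0 1, Subtype.ext ?_⟩
      conv_lhs => rw [Matrix.eta_fin_two (x : Matrix (Fin 2) (Fin 2) k)]
      rw [hx.1, hx.2.1, hx.2.2]
      rfl
    | one => exact ⟨0, Subtype.ext (Matrix.one_fin_two)⟩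
    | mul x y _ _ hx hy =>
      obtain ⟨s, rfl⟩ := hx
      obtain ⟨t, rfl⟩ := hy
      exact ⟨s + t, upMat_mul s t⟩
    | inv x _ hx =>
      obtain ⟨s, rfl⟩ := hx
      exact ⟨-s, upMat_inv s⟩
  · rintro ⟨t, rfl⟩
    exact Subgroup.subset_closure ⟨rfl, rfl, rfl⟩

theorem mem_lower {g : Matrix.SpecialLinearGroup (Fin 2) k} :
    g ∈ lowerUnipotentSL2 k ↔ ∃ t, g = lowMat t := by
  constructor
  · intro hg
    induction hg using Subgroup.closure_induction with
    | mem x hx =>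
      refine ⟨x 1 0, Subtype.ext ?_⟩
      conv_lhs => rw [Matrix.eta_fin_two (x : Matrix (Fin 2) (Fin 2) k)]
      rw [hx.1, hx.2.1, hx.2.2]
      rfl
    | one => exact ⟨0, Subtype.ext (Matrix.one_fin_two)⟩
    | mul x y _ _ hx hy =>
      obtain ⟨s, rfl⟩ := hx
      obtain ⟨t, rfl⟩ := hy
      exact ⟨s + t, lowMat_mul s t⟩
    | inv x _ hx =>
      obtain ⟨s, rfl⟩ := hx
      exact ⟨-s, lowMat_inv s⟩
  · rintro ⟨t, rfl⟩
    exact Subgroup.subset_closure ⟨rfl, rfl, rfl⟩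

theorem braid_SL2 {t : k} (ht : t ≠ 0) :
    upMat t * lowMat (-t⁻¹) * upMat t = lowMat (-t⁻¹) * upMat t * lowMat (-t⁻¹) :=
  Subtype.ext (by
    show (!![1, t; 0, 1] : Matrix (Fin 2) (Fin 2) k) * !![1, 0; -t⁻¹, 1] * !![1, t; 0, 1] =
      !![1, 0; -t⁻¹, 1] * !![1, t; 0, 1] * !![1, 0; -t⁻¹, 1]
    simp [ht])

theorem swap_SL2 {t : k} (ht : t ≠ 0) (x : k) :
    upMat t * lowMat (-t⁻¹) * upMat t * upMat x =
      lowMat (-x / t ^ 2) * (upMat t * lowMat (-t⁻¹) * upMat t) :=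
  Subtype.ext (by
    show (!![1, t; 0, 1] : Matrix (Fin 2) (Fin 2) k) * !![1, 0; -t⁻¹, 1] * !![1, t; 0, 1] *
        !![1, x; 0, 1] =
      !![1, 0; -x / t ^ 2, 1] * (!![1, t; 0, 1] * !![1, 0; -t⁻¹, 1] * !![1, t; 0, 1])
    ext i j
    fin_cases i <;> fin_cases j <;> simp [ht] <;> field_simp)

/-- An image of `SL₂(k)` on unitriangular subgroups is special. -/
theorem special_of_psl2 {A B : Subgroup G} (hAB : IsRankOnePair A B) (h : IsPSL2PairOver k A B) :
    IsSpecialRankOnePair A B := by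
  obtain ⟨φ, -, -, hu, hl⟩ := h
  refine ⟨hAB, fun a ha ha1 b hb _ he => ?_⟩
  obtain ⟨g, hg, rfl⟩ : ∃ g ∈ upperUnipotentSL2 k, φ g = a := by rw [← hu] at ha; exact ha
  obtain ⟨t, rfl⟩ := mem_upper.1 hg
  have ht : t ≠ 0 := fun e => ha1 (by
    rw [e, show upMat (0 : k) = 1 from Subtype.ext (Matrix.one_fin_two).symm, map_one])
  set a := φ (upMat t) with hadef
  set c := φ (lowMat (-t⁻¹)) with hcdef
  have hc : c ∈ B := hl ▸ ⟨_, mem_lower.2 ⟨_, rfl⟩, rfl⟩
  have hbraid : a * c * a = c * a * c := by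
    simp only [hadef, hcdef, ← map_mul, braid_SL2 ht]
  have hA : conjBy A (a * c * a) = B := by
    refine le_antisymm ?_ fun y hy => ?_
    · rintro _ ⟨z, hz, rfl⟩
      rw [← hu] at hz
      obtain ⟨g, hg, rfl⟩ := hz
      obtain ⟨x, rfl⟩ := mem_upper.1 hg
      show a * c * a * φ (upMat x) * (a * c * a)⁻¹ ∈ B
      rw [show a * c * a * φ (upMat x) = φ (lowMat (-x / t ^ 2)) * (a * c * a) by
        simp only [hadef, hcdef, ← map_mul, swap_SL2 ht], mul_inv_cancel_right, ← hl]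
      exact ⟨_, mem_lower.2 ⟨_, rfl⟩, rfl⟩
    · rw [← hl] at hy
      obtain ⟨g, hg, rfl⟩ := hy
      obtain ⟨x, rfl⟩ := mem_lower.1 hg
      refine ⟨φ (upMat (-x * t ^ 2)), hu ▸ ⟨_, mem_upper.2 ⟨_, rfl⟩, rfl⟩, ?_⟩
      show a * c * a * φ (upMat (-x * t ^ 2)) * (a * c * a)⁻¹ = _
      rw [show a * c * a * φ (upMat (-x * t ^ 2)) =
          φ (lowMat (-(-x * t ^ 2) / t ^ 2)) * (a * c * a) by
        simp only [hadef, hcdef, ← map_mul, swap_SL2 ht], mul_inv_cancel_right]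
      rw [show -(-x * t ^ 2) / t ^ 2 = x by field_simp]
  have hcA : conjBy A c = conjBy B a⁻¹ := by
    rw [← hA, conjBy_conjBy, show a⁻¹ * (a * c * a) = c * a by group, ← conjBy_conjBy,
      conjBy_eq_self_of_mem ha]
  have hbc : b⁻¹ = c :=
    RankOne.inj_conj (RankOnePair_symm hAB) (B.inv_mem hb) hc (he.trans hcA.symm)
  rw [show b = c⁻¹ by rw [← hbc, inv_inv], inv_inv]
  calc c * a * c⁻¹ = a⁻¹ * (a * c * a) * c⁻¹ := by group
    _ = a⁻¹ * (c * a * c) * c⁻¹ := by rw [hbraid]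
    _ = a⁻¹ * c * a := by group

theorem card_upper_le {A₀ B₀ : Subgroup G} (h : IsPSL2PairOver k A₀ B₀) (hk : 3 < ENat.card k) :
    3 < ENat.card A₀ := by
  obtain ⟨φ, -, hker, hu, -⟩ := h
  refine lt_of_lt_of_le hk (ENat.card_le_card_of_injective
    (f := fun t : k => (⟨φ (upMat t), hu ▸ ⟨_, mem_upper.2 ⟨t, rfl⟩, rfl⟩⟩ : A₀))
    fun s t e => ?_)
  have e1 : φ (upMat s) = φ (upMat t) := congrArg Subtype.val e
  have hmem : upMat (s + -t) ∈ φ.ker := by
    rw [MonoidHom.mem_ker, ← upMat_mul, map_mul, e1, ← map_mul, upMat_mul, add_neg_cancel,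
      show upMat (0 : k) = 1 from Subtype.ext (Matrix.one_fin_two).symm, map_one]
  have hcen := Subgroup.mem_center_iff.1 (hker hmem) (lowMat 1)
  have e2 := congrArg (fun g : Matrix.SpecialLinearGroup (Fin 2) k =>
    (g : Matrix (Fin 2) (Fin 2) k) 1 1) hcen
  simp only [Matrix.SpecialLinearGroup.coe_mul] at e2
  simp [upMat, lowMat] at e2
  exact (add_neg_eq_zero.1 (by linear_combination e2))

end SL2

theorem card_eq_of_pair {A B : Subgroup G} (hAB : IsRankOnePair A B) :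
    ENat.card B = ENat.card A := by
  obtain ⟨x, -, e⟩ := RankOne.right_mem hAB
  rw [e]
  exact (ENat.card_congr (Subgroup.equivMapOfInjective A _ (MulAut.conj x).injective).toEquiv).symm

theorem exists_fifth {E : Subgroup G} (hE : 4 < ENat.card E) (w x y z : G) :
    ∃ g ∈ E, g ≠ w ∧ g ≠ x ∧ g ≠ y ∧ g ≠ z := by
  by_contra! hcon
  refine not_lt.2 (?_ : ENat.card E ≤ 4) hE
  classical
  have hsub : (E : Set G) ⊆ ↑({w, x, y, z} : Finset G) := fun g hg => by
    simp only [Finset.coe_insert, Finset.coe_singleton, Set.mem_insert_iff, Set.mem_singleton_iff]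
    by_cases h1 : g = w
    · exact Or.inl h1
    by_cases h2 : g = x
    · exact Or.inr (Or.inl h2)
    by_cases h3 : g = y
    · exact Or.inr (Or.inr (Or.inl h3))
    · exact Or.inr (Or.inr (Or.inr (hcon g hg h1 h2 h3)))
  calc ENat.card E = (E : Set G).encard := by rw [Set.encard]; rfl
    _ ≤ (↑({w, x, y, z} : Finset G) : Set G).encard := Set.encard_le_encard hsub
    _ ≤ 4 := by
      rw [Set.encard_coe_eq_coe_finsetCard]
      exact_mod_cast Finset.card_le_four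

theorem eq_of_le_of_card {A₀ A : Subgroup G} (hle : A₀ ≤ A) (h₀ : 3 < ENat.card A₀)
    (h : ENat.card A ≤ 4) : A₀ = A := by
  have hfin : (A : Set G).Finite := by
    rw [← Set.encard_lt_top_iff]
    calc (A : Set G).encard = ENat.card A := by rw [Set.encard]; rfl
      _ ≤ 4 := h
      _ < ⊤ := by exact WithTop.coe_lt_top 4
  refine SetLike.coe_injective ((hfin.subset hle).eq_of_subset_of_encard_le hle ?_)
  calc (A : Set G).encard = ENat.card A := by rw [Set.encard]; rfl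
    _ ≤ 4 := h
    _ ≤ ENat.card A₀ := Order.add_one_le_of_lt h₀
    _ = (A₀ : Set G).encard := by rw [Set.encard]; rfl

/-- The rank one pairs of a class with different commuting members are special. -/
theorem special (hcl : IsRootSubgroupClass S) (hcomm : ∃ A ∈ S, ∃ C ∈ S, A ≠ C ∧ ⁅A, C⁆ = ⊥)
    (hH : IsDegenerateRootSet S → (∀ A ∈ S, ∀ a ∈ A, 0 < orderOf a ∧ orderOf a ≤ 3) →
      ∀ A ∈ S, ∀ B ∈ rankOnePartners S A, ∃ A₀ B₀ : Subgroup G, A₀ ≤ A ∧ B₀ ≤ B ∧
        ∃ (k : Type u) (_ : Field k), 3 < ENat.card k ∧ IsPSL2PairOver k A₀ B₀)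
    {A B : Subgroup G} (hA : A ∈ S) (hB : B ∈ rankOnePartners S A) :
    IsSpecialRankOnePair A B := by
  by_cases hdeg : IsDegenerateRootSet S
  swap
  · have hdeg' : ∃ P ∈ S, ∃ Q ∈ S, RootCommutatorCase S P Q := by
      by_contra h
      push Not at h
      exact hdeg h
    obtain ⟨P, hP, Q, hQ, hne, hPQ⟩ := hcomm
    exact (RootSpecial.nondegenerate_special hcl
      ⟨⟨P, hP, Q, hQ, hne, hPQ⟩, ⟨A, hA, B, hB.1, hB.2⟩, hdeg'⟩ hA hB).2
  obtain ⟨hBS, hAB⟩ := hB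
  have hS := hcl.1
  have hrank : ∀ {P Q : Subgroup G}, P ∈ S → Q ∈ S → ⁅P, Q⁆ ≠ ⊥ → IsRankOnePair P Q :=
    fun hP hQ h => ((hS.pair _ hP _ hQ).resolve_left h).resolve_right (hdeg _ hP _ hQ)
  -- a commuting member
  obtain ⟨C₀, hC₀, hC₀ne, hAC₀⟩ : ∃ C ∈ S, C ≠ A ∧ ⁅A, C⁆ = ⊥ := by
    obtain ⟨P, hP, Q, hQ, hne, hPQ⟩ := hcomm
    obtain ⟨g, rfl⟩ := hcl.2.2 P hP A hA
    exact ⟨conjBy Q g, hS.conj_mem Q hQ g, fun e => hne (conjBy_injective g e).symm,
      RootSep.commutator_conj_eq_bot g hPQ⟩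
  by_cases hsep : ∃ C ∈ S, C ≠ A ∧ ⁅A, C⁆ = ⊥ ∧ ⁅B, C⁆ ≠ ⊥
  · obtain ⟨C, hC, hne, hAC, hBC⟩ := hsep
    exact RootSep.special hS hA hBS hC hAB (hrank hBS hC hBC) hAC hne
  push Not at hsep
  -- a commuting member with a common rank one partner
  obtain ⟨C, hC, hCne, hAC, E, hE, hAE, hCE⟩ : ∃ C ∈ S, C ≠ A ∧ ⁅A, C⁆ = ⊥ ∧
      ∃ E ∈ S, IsRankOnePair A E ∧ IsRankOnePair C E := by
    by_contra hno
    push Not at hno
    have hconn := connected_of_class hS hcl.2 hA (not_isolated_of_pair hA hBS hAB)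
    have key : ∀ Q, Relation.ReflTransGen (FAdj S) C₀ Q → Q ≠ A ∧ ⁅A, Q⁆ = ⊥ := by
      intro Q hQ
      induction hQ with
      | refl => exact ⟨hC₀ne, hAC₀⟩
      | @tail P R _ hPR ih =>
        obtain ⟨hPS, hRS, hpair⟩ := hPR
        have hRA : R ≠ A := fun e => RankOne.commutator_ne_bot hpair (RankOne.self_mem P R)
          (RankOne.right_mem hpair) hpair.ne (by rw [e, Subgroup.commutator_comm]; exact ih.2)
        refine ⟨hRA, ?_⟩
        by_contra hAR
        exact hno P hPS ih.1 ih.2 R hRS (hrank hA hRS hAR) hpair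
    exact (key A (hconn C₀ hC₀ A hA)).1 rfl
  have build : ∀ {a ε β γ : G}, a ∈ A → a ≠ 1 → ε ∈ E → conjBy E a = conjBy A ε → β ∈ E → γ ∈ E →
      β ≠ 1 → γ ≠ 1 → β * γ ≠ 1 → ε * β ≠ 1 → ε * γ ≠ 1 → ε * β * γ ≠ 1 → False := by
    intro a ε β γ ha ha1 hε he hβ hγ h1 h2 h3 h4 h5 h6
    obtain ⟨C', hC', hne', hAC', hBC'⟩ := RootSep.exists_separator hS hA hBS hC hE hAB hAE hCE hAC
      hCne ha ha1 hε he hβ hγ h1 h2 h3 h4 h5 h6
    exact hBC' (hsep C' hC' hne' hAC')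
  -- an element of order more than three gives a separator
  by_cases hbig : ∃ a ∈ A, a ^ 2 ≠ 1 ∧ a ^ 3 ≠ 1
  · exfalso
    obtain ⟨a, ha, ha2, ha3⟩ := hbig
    have ha1 : a ≠ 1 := fun e => ha2 (by rw [e, one_pow])
    obtain ⟨ε, hε, hε1, he⟩ := RankOne.exists_partner hAE ha ha1
    obtain ⟨-, hid⟩ := RootSep.neg_partner hS hA hE hC hAE (RankOnePair_symm hCE) hAC hCne ha ha1
      hε he
    have e2 : ε * ε ≠ 1 := fun e => ha2 ((RootSep.pow_eq_one_iff hid 2).1 (by rw [pow_two, e]))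
    have e3 : ε * ε * ε ≠ 1 := fun e => ha3 ((RootSep.pow_eq_one_iff hid 3).1 (by
      rw [pow_succ, pow_two, e]))
    exact build ha ha1 hε he hε hε hε1 hε1 e2 e2 e2 e3
  push Not at hbig
  by_cases hfive : 4 < ENat.card A
  · exfalso
    obtain ⟨a, ha, ha1⟩ := exists_mem_ne_one (hS.ne_bot A hA)
    obtain ⟨ε, hε, hε1, he⟩ := RankOne.exists_partner hAE ha ha1
    have hE5 : 4 < ENat.card E := by rw [card_eq_of_pair hAE]; exact hfive
    obtain ⟨β, hβ, b1, b2, -, -⟩ := exists_fifth hE5 1 ε⁻¹ 1 1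
    obtain ⟨γ, hγ, c1, c2, c3, c4⟩ := exists_fifth hE5 1 ε⁻¹ β⁻¹ (ε * β)⁻¹
    exact build ha ha1 hε he hβ hγ b1 c1 (fun e => c3 (eq_inv_of_mul_eq_one_right e))
      (fun e => b2 (eq_inv_of_mul_eq_one_right e)) (fun e => c2 (eq_inv_of_mul_eq_one_right e))
      (fun e => c4 (eq_inv_of_mul_eq_one_right e))
  -- the remaining case is the given image of `SL₂`
  have hord : ∀ X ∈ S, ∀ x ∈ X, 0 < orderOf x ∧ orderOf x ≤ 3 := by
    intro X hX x hx
    obtain ⟨g, rfl⟩ := hcl.2.2 A hA X hX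
    obtain ⟨a, ha, rfl⟩ := hx
    have ho : orderOf ((MulAut.conj g).toMonoidHom a) = orderOf a :=
      orderOf_injective _ (MulAut.conj g).injective a
    rw [ho]
    by_cases h2 : a ^ 2 = 1
    · exact ⟨(isOfFinOrder_iff_pow_eq_one.2 ⟨2, two_pos, h2⟩).orderOf_pos,
        (orderOf_le_of_pow_eq_one two_pos h2).trans (by norm_num)⟩
    · have h3 := hbig a ha h2
      exact ⟨(isOfFinOrder_iff_pow_eq_one.2 ⟨3, by norm_num, h3⟩).orderOf_pos,
        orderOf_le_of_pow_eq_one (by norm_num) h3⟩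
  obtain ⟨A₀, B₀, hA₀, hB₀, k, _, hk, hpsl⟩ := hH hdeg hord A hA B ⟨hBS, hAB⟩
  have hA0card := card_upper_le hpsl hk
  obtain rfl := eq_of_le_of_card hA₀ hA0card (not_lt.1 hfive)
  have hB0card : 3 < ENat.card B₀ := by
    obtain ⟨φ, _, hker, hu, hl⟩ := hpsl
    refine lt_of_lt_of_le hk (ENat.card_le_card_of_injective
      (f := fun t : k => (⟨φ (lowMat t), hl ▸ ⟨_, mem_lower.2 ⟨t, rfl⟩, rfl⟩⟩ : B₀))
      fun s t e => ?_)
    have e1 : φ (lowMat s) = φ (lowMat t) := congrArg Subtype.val e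
    have hmem : lowMat (s + -t) ∈ φ.ker := by
      rw [MonoidHom.mem_ker, ← lowMat_mul, map_mul, e1, ← map_mul, lowMat_mul, add_neg_cancel,
        show lowMat (0 : k) = 1 from Subtype.ext (Matrix.one_fin_two).symm, map_one]
    have hcen := Subgroup.mem_center_iff.1 (hker hmem) (upMat 1)
    have e2 := congrArg (fun g : Matrix.SpecialLinearGroup (Fin 2) k =>
      (g : Matrix (Fin 2) (Fin 2) k) 0 0) hcen
    simp only [Matrix.SpecialLinearGroup.coe_mul] at e2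
    simp [upMat, lowMat] at e2
    exact (add_neg_eq_zero.1 (by linear_combination e2))
  obtain rfl := eq_of_le_of_card hB₀ hB0card (by rw [card_eq_of_pair hAB]; exact not_lt.1 hfive)
  exact special_of_psl2 hAB hpsl

end Cfsg.Agent.Fus.RootClassSpecial
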