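import Mathlib
import Cfsg.Agent.Lib.Fus.RootLines
import Cfsg.Agent.Lib.Fus.RankOneQuadratic
import Cfsg.Agent.Lib.Grp.Quasisimple

/-!
Special rank one groups with abelian unipotent subgroups: the derived subgroup is quasisimple as
soon as it meets a unipotent subgroup, and it does so when the unipotent subgroups have more than
three elements.

The action on the unipotent subgroups is used throughout: the points are `A` and `conjBy B x`
(`x ∈ A`), and `a * b⁻¹ * a` exchanges `A` and `B`.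
-/

set_option autoImplicit false
set_option linter.style.haveILetI false

open scoped commutatorElement

namespace Cfsg.Agent.Fus.RankOne

open Subgroup

variable {X : Type*} [Group X] {A B : Subgroup X}

/-- A rank one group which is special and has abelian unipotent subgroups. -/
structure AbelianSpecial (A B : Subgroup X) : Prop where
  group : IsRankOneGroup X A B
  special : IsSpecialRankOnePair A B
  comm_left : IsMulCommutative A
  comm_right : IsMulCommutative B

theorem AbelianSpecial.comm (h : AbelianSpecial A B) {a a' : X} (ha : a ∈ A) (ha' : a' ∈ A) :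
    a * a' = a' * a :=
  have := h.comm_left
  congrArg Subtype.val (mul_comm' (⟨a, ha⟩ : A) ⟨a', ha'⟩)

theorem mem_points (h : IsRankOneGroup X A B) (x : X) :
    conjBy A x ∈ unipotentSubgroups A B := ⟨x, h.1 ▸ Subgroup.mem_top x, rfl⟩

theorem point_conj (h : IsRankOneGroup X A B) (a : X) :
    conjBy B a ∈ unipotentSubgroups A B :=
  conj_mem (right_mem h.2) (h.1 ▸ Subgroup.mem_top a)

/-- Two points with a common non-identity element are equal. -/
theorem eq_of_common (h : IsRankOnePair A B) {C D : Subgroup X}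
    (hC : C ∈ unipotentSubgroups A B) (hD : D ∈ unipotentSubgroups A B) {x : X} (hx : x ∈ C)
    (hx' : x ∈ D) (hx1 : x ≠ 1) : C = D := by
  by_contra hne
  exact hx1 (Subgroup.mem_bot.1 (inf_normalizer_points h hC hD hne ▸
    ⟨hx, Subgroup.le_normalizer hx'⟩))

/-- Non-identity elements of different points do not commute. -/
theorem not_commute_points (h : IsRankOnePair A B) {C D : Subgroup X}
    (hC : C ∈ unipotentSubgroups A B) (hD : D ∈ unipotentSubgroups A B) (hne : C ≠ D) {x y : X}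
    (hx : x ∈ C) (hx1 : x ≠ 1) (hy : y ∈ D) (hy1 : y ≠ 1) : x * y ≠ y * x := by
  obtain ⟨z, -, zC, zD⟩ := exists_to_base h hC hD hne
  intro e
  refine not_commute_elements h (zC ▸ conj_mem_conjBy z hx : z * x * z⁻¹ ∈ A)
    (fun e' => hx1 (conj_eq_one_iff.1 e')) (zD ▸ conj_mem_conjBy z hy : z * y * z⁻¹ ∈ B)
    (fun e' => hy1 (conj_eq_one_iff.1 e')) ?_
  calc z * x * z⁻¹ * (z * y * z⁻¹) = z * (x * y) * z⁻¹ := by group
    _ = z * (y * x) * z⁻¹ := by rw [e]
    _ = z * y * z⁻¹ * (z * x * z⁻¹) := by group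

/-- An element of `A#` fixes no point but `A`. -/
theorem eq_base_of_fixed (h : IsRankOneGroup X A B) {a : X} (ha : a ∈ A) (ha1 : a ≠ 1)
    {C : Subgroup X} (hC : C ∈ unipotentSubgroups A B) (hfix : conjBy C a = C) : C = A := by
  by_contra hne
  exact ha1 (Subgroup.mem_bot.1 (inf_normalizer_points h.2 (self_mem A B) hC (Ne.symm hne) ▸
    ⟨ha, mem_normalizer_iff_conjBy.2 hfix⟩))

/-- The elements `w = a b⁻¹ a` exchange `A` and `B`. -/
theorem exists_swap (h : IsRankOnePair A B) (hs : IsSpecialRankOnePair A B) {a : X} (ha : a ∈ A)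
    (ha1 : a ≠ 1) : ∃ b ∈ B, b ≠ 1 ∧ b * a ∈ commutator X ∧
      conjBy A (a * b⁻¹ * a) = B ∧ conjBy B (a * b⁻¹ * a) = A := by
  obtain ⟨b, hb, hb1, e⟩ := h.cond_left a ha ha1
  have es := hs.2 a ha ha1 b hb hb1 e
  refine ⟨b, hb, hb1, ?_, ?_, ?_⟩
  · have h1 : ⁅b⁻¹, a⁆ = a⁻¹ * b⁻¹ := by
      rw [commutatorElement_def, inv_inv, es]; group
    have h2 := inv_mem (h1 ▸ Subgroup.commutator_mem_commutator (Subgroup.mem_top b⁻¹)
      (Subgroup.mem_top a) : a⁻¹ * b⁻¹ ∈ commutator X)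
    rwa [mul_inv_rev, inv_inv, inv_inv] at h2
  · rw [← conjBy_conjBy, conjBy_eq_self_of_mem ha, ← conjBy_conjBy, e, conjBy_conjBy,
      mul_inv_cancel, conjBy_one]
  · set w := a * b⁻¹ * a with hw
    have hw' : w = b⁻¹ * a * b⁻¹ := by
      calc w = a * (a⁻¹ * b⁻¹ * a) * b⁻¹ := by
            rw [hw, ← es]; group
        _ = b⁻¹ * a * b⁻¹ := by group
    have hconj : w * b⁻¹ * w⁻¹ = a := by
      nth_rewrite 1 [hw]
      rw [hw']
      group
    by_contra hne
    refine hne (eq_of_common h ?_ (self_mem A B) (x := a) ?_ ha ha1)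
    · exact conj_mem (right_mem h) (mul_mem (mul_mem (Subgroup.mem_sup_left ha)
        (Subgroup.mem_sup_right (B.inv_mem hb))) (Subgroup.mem_sup_left ha))
    · exact hconj ▸ conj_mem_conjBy w (B.inv_mem hb)

/-! ### The derived subgroup -/

theorem commutator_sup (h : AbelianSpecial A B) : commutator X ⊔ A = ⊤ :=
  (sup_eq_top_or_le_center h.group (inferInstanceAs (commutator X).Normal)).resolve_right
    (not_commutator_le_center h.group)

theorem exists_factor (h : AbelianSpecial A B) (x : X) :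
    ∃ y ∈ commutator X, ∃ a ∈ A, y * a = x :=
  Subgroup.mem_sup_of_normal_left.1 ((commutator_sup h).ge (Subgroup.mem_top x))

/-- The derived subgroup is transitive on the points. -/
theorem point_eq_conj (h : AbelianSpecial A B) {C : Subgroup X}
    (hC : C ∈ unipotentSubgroups A B) : ∃ y ∈ commutator X, C = conjBy A y := by
  obtain ⟨x, -, rfl⟩ := hC
  obtain ⟨y, hy, a, ha, rfl⟩ := exists_factor h x
  exact ⟨y, hy, by rw [← conjBy_conjBy, conjBy_eq_self_of_mem ha]⟩

theorem perfect (h : AbelianSpecial A B) {a : X} (ha : a ∈ A) (haX : a ∈ commutator X)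
    (ha1 : a ≠ 1) : ⁅commutator X, commutator X⁆ = commutator X := by
  obtain ⟨b, -, -, -, hwA, -⟩ := exists_swap h.group.2 h.special ha ha1
  set w := a * b⁻¹ * a
  set c := w * a * w⁻¹
  have hcB : c ∈ B := hwA ▸ conj_mem_conjBy w ha
  have hcX : c ∈ commutator X := (inferInstance : (commutator X).Normal).conj_mem a haX w
  have hc1 : c ≠ 1 := fun e => ha1 (conj_eq_one_iff.1 e)
  haveI : ⁅commutator X, commutator X⁆.Normal := Subgroup.commutator_normal _ _
  refine le_antisymm (Subgroup.commutator_le_left _ _) ?_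
  rcases sup_eq_top_or_le_center h.group (N := ⁅commutator X, commutator X⁆) inferInstance
    with e | e
  · exact commutator_le_of_sup_eq_top h.comm_left inferInstance e
  exfalso
  have hz := e (Subgroup.commutator_mem_commutator haX hcX)
  have hne : conjBy B a ≠ B := fun e' => ha1 (eq_one_of_conjBy_eq h.group.2 ha e')
  refine not_commute_points h.group.2 (point_conj h.group a) (right_mem h.group.2) hne
    (conj_mem_conjBy a hcB) (fun e' => hc1 (conj_eq_one_iff.1 e')) hcB hc1 ?_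
  have hac : a * c * a⁻¹ = ⁅a, c⁆ * c := by rw [commutatorElement_def]; group
  have hcz := Subgroup.mem_center_iff.1 hz c
  rw [hac]
  calc ⁅a, c⁆ * c * c = c * ⁅a, c⁆ * c := by rw [hcz]
    _ = c * (⁅a, c⁆ * c) := mul_assoc _ _ _

/-- The orbit of `A` under a subgroup. -/
def orb (A M : Subgroup X) : Set (Subgroup X) := {C | ∃ m ∈ M, C = conjBy A m}

/-- `M` is a subgroup of the derived subgroup normalized by it. -/
def DerivedNormal (M : Subgroup X) : Prop :=
  M ≤ commutator X ∧ ∀ x ∈ commutator X, ∀ m ∈ M, x * m * x⁻¹ ∈ M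

theorem self_mem_orb (A M : Subgroup X) : A ∈ orb A M := ⟨1, M.one_mem, (conjBy_one A).symm⟩

theorem orb_preserved {M : Subgroup X} (hM : DerivedNormal M) {x : X} (hx : x ∈ commutator X)
    (hxA : conjBy A x ∈ orb A M) {C : Subgroup X} (hC : C ∈ orb A M) :
    conjBy C x ∈ orb A M := by
  obtain ⟨m, hm, rfl⟩ := hC
  obtain ⟨m', hm', e⟩ := hxA
  refine ⟨x * m * x⁻¹ * m', M.mul_mem (hM.2 x hx m hm) hm', ?_⟩
  rw [← conjBy_conjBy A m', ← e, conjBy_conjBy, conjBy_conjBy]
  congr 1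
  group

theorem mem_derived_shift {M : Subgroup X} (hM : DerivedNormal M)
    {a : X} (ha : a ∈ A) (haX : a ∈ commutator X) {d : X}
    (hd : conjBy B d ∈ orb A M) : conjBy B (a * d) ∈ orb A M := by
  rw [← conjBy_conjBy]
  refine orb_preserved hM haX ?_ hd
  rw [conjBy_eq_self_of_mem ha]
  exact self_mem_orb A M

/-- Translations by cubes preserve the orbit. -/
theorem cube_shift (h : AbelianSpecial A B) {a₀ : X} (ha₀ : a₀ ∈ A) (ha₀X : a₀ ∈ commutator X)
    (ha₀1 : a₀ ≠ 1) {M : Subgroup X} (hM : DerivedNormal M)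
    {x d : X} (hx : x ∈ A) (hd : d ∈ A) (hdO : conjBy B d ∈ orb A M) :
    conjBy B (x ^ 3 * d) ∈ orb A M := by
  by_cases hA2 : ∀ c ∈ A, c ≠ 1 → x * c = 1
  · have e := eq_inv_of_mul_eq_one_left (hA2 a₀ ha₀ ha₀1)
    exact mem_derived_shift hM (A.pow_mem hx 3) (pow_mem (e ▸ inv_mem ha₀X) 3) hdO
  push Not at hA2
  obtain ⟨c, hc, hc1, hxc⟩ := hA2
  obtain ⟨b₁, -, -, hb₁, h1A, h1B⟩ := exists_swap h.group.2 h.special (A.mul_mem hx hc) hxc
  obtain ⟨b₂, -, -, hb₂, h2A, h2B⟩ := exists_swap h.group.2 h.special hc hc1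
  set g := (x * c * b₁⁻¹ * (x * c)) * (c * b₂⁻¹ * c)⁻¹ with hg
  have hgA : conjBy A g = A := by
    rw [hg, ← conjBy_conjBy, show conjBy A (c * b₂⁻¹ * c)⁻¹ = B by
      rw [conjBy_eq_iff, inv_inv, h2B], h1B]
  have hgB : conjBy B g = B := by
    rw [hg, ← conjBy_conjBy, show conjBy B (c * b₂⁻¹ * c)⁻¹ = A by
      rw [conjBy_eq_iff, inv_inv, h2A], h1A]
  set y := x ^ 3 * g⁻¹ with hy
  have hyX : y ∈ commutator X := by
    have q1 : (Abelianization.of b₁)⁻¹ = Abelianization.of (x * c) := by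
      rw [inv_eq_iff_mul_eq_one, ← map_mul, ← MonoidHom.mem_ker, Abelianization.ker_of]
      exact hb₁
    have q2 : (Abelianization.of b₂)⁻¹ = Abelianization.of c := by
      rw [inv_eq_iff_mul_eq_one, ← map_mul, ← MonoidHom.mem_ker, Abelianization.ker_of]
      exact hb₂
    rw [← Abelianization.ker_of, MonoidHom.mem_ker, hy, hg]
    simp only [map_mul, map_pow, map_inv, q1, q2]
    set p := Abelianization.of x
    set q := Abelianization.of c
    calc p ^ 3 * (p * q * (p * q) * (p * q) * (q * q * q)⁻¹)⁻¹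
        = p ^ 3 * (p * p * p * ((q * q * q) * (q * q * q)⁻¹))⁻¹ := by ac_rfl
      _ = 1 := by rw [mul_inv_cancel, mul_one, pow_three', mul_inv_cancel]
  have hyA : conjBy A y = A := by
    rw [hy, ← conjBy_conjBy, show conjBy A g⁻¹ = A by rw [conjBy_eq_iff, inv_inv, hgA],
      conjBy_eq_self_of_mem (A.pow_mem hx 3)]
  have hmove := orb_preserved hM hyX (hyA.symm ▸ self_mem_orb A M) hdO
  set e := d⁻¹ * (g⁻¹ * d * g) with he
  have hgd : g⁻¹ * d * g ∈ A := by
    rw [← mem_conjBy]; exact hgA.symm ▸ hd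
  have heA : e ∈ A := A.mul_mem (A.inv_mem hd) hgd
  have heX : e ∈ commutator X := by
    rw [← Abelianization.ker_of, MonoidHom.mem_ker, he]
    simp only [map_mul, map_inv]
    calc (Abelianization.of d)⁻¹ * ((Abelianization.of g)⁻¹ * Abelianization.of d *
          Abelianization.of g)
        = ((Abelianization.of d)⁻¹ * Abelianization.of d) *
          ((Abelianization.of g)⁻¹ * Abelianization.of g) := by ac_rfl
      _ = 1 := by rw [inv_mul_cancel, inv_mul_cancel, one_mul]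
  have e1 : conjBy (conjBy B d) y = conjBy B (e * (x ^ 3 * d)) := by
    have hsort : x ^ 3 * (d * e) = e * (x ^ 3 * d) := by
      calc x ^ 3 * (d * e) = x ^ 3 * d * e := (mul_assoc _ _ _).symm
        _ = e * (x ^ 3 * d) := h.comm (A.mul_mem (A.pow_mem hx 3) hd) heA
    rw [conjBy_conjBy, show y * d = x ^ 3 * (d * e) * g⁻¹ by rw [hy, he]; group,
      ← conjBy_conjBy B g⁻¹, show conjBy B g⁻¹ = B by rw [conjBy_eq_iff, inv_inv, hgB], hsort]
  rw [e1] at hmove
  have := mem_derived_shift hM (A.inv_mem heA) (inv_mem heX) hmove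
  rwa [inv_mul_cancel_left] at this

/-- The orbit is closed under inversion of the parameter. -/
theorem inv_shift (h : AbelianSpecial A B) {a₀ : X} (ha₀ : a₀ ∈ A) (ha₀X : a₀ ∈ commutator X)
    (ha₀1 : a₀ ≠ 1) {M : Subgroup X} (hM : DerivedNormal M) (hB : B ∈ orb A M)
    {d : X} (hd : d ∈ A) (hdO : conjBy B d ∈ orb A M) : conjBy B d⁻¹ ∈ orb A M := by
  by_cases hd1 : d = 1
  · rw [hd1, inv_one, ← hd1]; exact hdO
  set f := d⁻¹ with hf
  have hfA : f ∈ A := A.inv_mem hd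
  obtain ⟨b, hb, -, hbX, hwA, hwB⟩ := exists_swap h.group.2 h.special hfA (inv_ne_one.2 hd1)
  set w := f * b⁻¹ * f with hw
  set y := (f ^ 3)⁻¹ * w with hy
  have hyX : y ∈ commutator X := by
    have q1 : (Abelianization.of b)⁻¹ = Abelianization.of f := by
      rw [inv_eq_iff_mul_eq_one, ← map_mul, ← MonoidHom.mem_ker, Abelianization.ker_of]
      exact hbX
    rw [← Abelianization.ker_of, MonoidHom.mem_ker, hy, hw]
    simp only [map_mul, map_pow, map_inv, q1]
    rw [← pow_three', inv_mul_cancel]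
  have hyA : conjBy A y ∈ orb A M := by
    rw [hy, ← conjBy_conjBy, hwA, ← inv_pow, ← mul_one (f⁻¹ ^ 3)]
    exact cube_shift h ha₀ ha₀X ha₀1 hM (A.inv_mem hfA) A.one_mem (by rwa [conjBy_one])
  have e1 : conjBy (conjBy B d) y = conjBy B ((f⁻¹) ^ 2) := by
    rw [conjBy_conjBy, show y * d = f⁻¹ ^ 2 * b⁻¹ by rw [hy, hw, hf]; group,
      ← conjBy_conjBy, conjBy_eq_self_of_mem (B.inv_mem hb)]
  have := cube_shift h ha₀ ha₀X ha₀1 hM hfA (A.pow_mem (A.inv_mem hfA) 2)
    (e1 ▸ orb_preserved hM hyX hyA hdO)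
  rwa [show f ^ 3 * f⁻¹ ^ 2 = f by group] at this

/-- The same group based at another point different from `A`. -/
theorem rebase (h : AbelianSpecial A B) {e : X} (he : e ∈ A) : AbelianSpecial A (conjBy B e) := by
  have hA : conjBy A e = A := conjBy_eq_self_of_mem he
  have hp : IsRankOnePair A (conjBy B e) := hA ▸ isRankOnePair_conjBy h.group.2 e
  refine ⟨⟨?_, hp⟩, ⟨hp, ?_⟩, h.comm_left, ?_⟩
  · conv_lhs => rw [← hA]
    rw [← conjBy_sup, h.group.1]
    exact top_le_iff.1 fun x _ => mem_conjBy.2 (Subgroup.mem_top _)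
  · intro a ha ha1 b hb hb1 heq
    have hb' : e⁻¹ * b * e ∈ B := mem_conjBy.1 hb
    have hca : e⁻¹ * a * e = a := by rw [h.comm (A.inv_mem he) ha, inv_mul_cancel_right]
    have he' : conjBy A (e⁻¹ * b * e)⁻¹ = conjBy B a⁻¹ := by
      refine conjBy_injective e ?_
      show conjBy (conjBy A _) e = conjBy (conjBy B a⁻¹) e
      rw [conjBy_conjBy, conjBy_conjBy, h.comm he (A.inv_mem ha), ← conjBy_conjBy B, ← heq,
        show e * (e⁻¹ * b * e)⁻¹ = b⁻¹ * e by group, ← conjBy_conjBy, hA]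
    have := h.special.2 a ha ha1 _ hb' (fun e' => hb1 (by
      rw [show b = e * (e⁻¹ * b * e) * e⁻¹ by group, e']; group)) he'
    calc b⁻¹ * a * b = e * ((e⁻¹ * b * e)⁻¹ * (e⁻¹ * a * e) * (e⁻¹ * b * e)) * e⁻¹ := by group
      _ = e * ((e⁻¹ * a * e)⁻¹ * (e⁻¹ * b * e)⁻¹ * (e⁻¹ * a * e)) * e⁻¹ := by
          rw [hca, this]
      _ = a⁻¹ * b⁻¹ * a := by group
  · refine ⟨⟨fun x y => Subtype.ext ?_⟩⟩
    obtain ⟨p, hp, ep⟩ := x.2
    obtain ⟨q, hq, eq'⟩ := y.2
    have := h.comm_right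
    have hc : p * q = q * p := congrArg Subtype.val (mul_comm' (⟨p, hp⟩ : B) ⟨q, hq⟩)
    show (x : X) * y = y * x
    rw [← ep, ← eq', ← map_mul, hc, map_mul]

/-- The parameters of an orbit through `B` form a subgroup of `A`. -/
theorem orb_mul (h : AbelianSpecial A B) {a₀ : X} (ha₀ : a₀ ∈ A) (ha₀X : a₀ ∈ commutator X)
    (ha₀1 : a₀ ≠ 1) {M : Subgroup X} (hM : DerivedNormal M) (hB : B ∈ orb A M)
    {d e : X} (hd : d ∈ A) (he : e ∈ A) (hdO : conjBy B d ∈ orb A M)
    (heO : conjBy B e ∈ orb A M) : conjBy B (d * e) ∈ orb A M := by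
  -- reflection at a parameter of the orbit
  have refl : ∀ {x f : X}, x ∈ A → f ∈ A → conjBy B x ∈ orb A M → conjBy B f ∈ orb A M →
      conjBy B (f ^ 2 * x) ∈ orb A M := by
    intro x f hx hf hxO hfO
    have hxi := inv_shift h ha₀ ha₀X ha₀1 hM hB hx hxO
    have h1 := inv_shift (rebase h hf) ha₀ ha₀X ha₀1 hM hfO
      (A.mul_mem (A.inv_mem hx) (A.inv_mem hf))
      (by rwa [conjBy_conjBy, inv_mul_cancel_right])
    rwa [conjBy_conjBy, mul_inv_rev, inv_inv, inv_inv, mul_assoc, h.comm hx hf, ← mul_assoc,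
      ← pow_two] at h1
  have h2 := refl hd (A.inv_mem he) hdO (inv_shift h ha₀ ha₀X ha₀1 hM hB he heO)
  have h3 := cube_shift h ha₀ ha₀X ha₀1 hM he (A.mul_mem (A.pow_mem (A.inv_mem he) 2) hd) h2
  rwa [show e ^ 3 * (e⁻¹ ^ 2 * d) = e * d by group, h.comm he hd] at h3

/-- A subgroup normal in the derived subgroup and moving `A` to `B` contains it. -/
theorem derived_le_of_moves (h : AbelianSpecial A B) {a₀ : X} (ha₀ : a₀ ∈ A)
    (ha₀X : a₀ ∈ commutator X) (ha₀1 : a₀ ≠ 1) {M : Subgroup X} (hM : DerivedNormal M)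
    (hB : B ∈ orb A M) : commutator X ≤ M := by
  have hperf := perfect h ha₀ ha₀X ha₀1
  have hX := h.group
  by_cases hall : ∀ d ∈ A, conjBy B d ∈ orb A M
  · -- `M` is transitive
    have htrans : ∀ C ∈ unipotentSubgroups A B, C ∈ orb A M := fun C hC => by
      by_cases hCA : C = A
      · exact hCA ▸ self_mem_orb A M
      · obtain ⟨d, hd, rfl⟩ := exists_of_ne hX.2 hC hCA
        exact hall d hd
    set A₀ := A ⊓ commutator X with hA₀
    have hnA₀ : A₀ ≤ Subgroup.normalizer (M : Set X) := fun a ha => by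
      rw [Subgroup.mem_normalizer_iff]
      refine fun m => ⟨fun hm => hM.2 a ha.2 m hm, fun hm => ?_⟩
      have := hM.2 a⁻¹ (inv_mem ha.2) _ hm
      simpa [mul_assoc] using this
    have hle : commutator X ≤ M ⊔ A₀ := by
      have hN : (Subgroup.normalClosure ({a₀} : Set X)) ≤ M ⊔ A₀ := by
        rw [Subgroup.normalClosure, Subgroup.closure_le]
        intro z hz
        obtain ⟨z₀, hz₀, hconj⟩ := Group.mem_conjugatesOfSet_iff.1 hz
        rw [Set.mem_singleton_iff.1 hz₀] at hconj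
        obtain ⟨g, rfl⟩ := isConj_iff.1 hconj
        obtain ⟨m, hm, e⟩ := htrans (conjBy A g) (mem_points hX g)
        have hz' : m⁻¹ * (g * a₀ * g⁻¹) * m ∈ A₀ := by
          refine ⟨mem_conjBy.1 (e ▸ conj_mem_conjBy g ha₀), ?_⟩
          have := (inferInstance : (commutator X).Normal).conj_mem _
            ((inferInstance : (commutator X).Normal).conj_mem a₀ ha₀X g) m⁻¹
          rwa [inv_inv] at this
        show g * a₀ * g⁻¹ ∈ M ⊔ A₀
        rw [show g * a₀ * g⁻¹ = m * (m⁻¹ * (g * a₀ * g⁻¹) * m) * m⁻¹ by group]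
        exact mul_mem (mul_mem (Subgroup.mem_sup_left hm) (Subgroup.mem_sup_right hz'))
          (Subgroup.mem_sup_left (inv_mem hm))
      refine le_trans ?_ hN
      exact commutator_le_of_sup_eq_top h.comm_left inferInstance (sup_eq_top_of_mem hX
        inferInstance ha₀ ha₀1 (Subgroup.subset_normalClosure rfl))
    rw [← hperf]
    refine (Subgroup.commutator_mono hle hle).trans (Subgroup.commutator_le.2 ?_)
    intro u hu v hv
    rw [← SetLike.mem_coe, Subgroup.coe_mul_of_right_le_normalizer_left M A₀ hnA₀] at hu hv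
    obtain ⟨m, hm, a, ha, rfl⟩ := hu
    obtain ⟨n, hn, c, hc, rfl⟩ := hv
    have k : ∀ {p : X}, p ∈ A₀ → ∀ {q : X}, q ∈ M → p * q * p⁻¹ ∈ M :=
      fun hp _ hq => hM.2 _ hp.2 _ hq
    have e : ⁅m * a, n * c⁆ = m * (a * n * a⁻¹) * (c * m⁻¹ * c⁻¹) * n⁻¹ := by
      rw [commutatorElement_def]
      calc m * a * (n * c) * (m * a)⁻¹ * (n * c)⁻¹
          = m * (a * n * a⁻¹) * (a * c * a⁻¹) * m⁻¹ * c⁻¹ * n⁻¹ := by group
        _ = m * (a * n * a⁻¹) * (c * m⁻¹ * c⁻¹) * n⁻¹ := by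
          rw [h.comm ha.1 hc.1]; group
    show ⁅m * a, n * c⁆ ∈ M
    rw [e]
    exact mul_mem (mul_mem (mul_mem hm (k ha hn)) (k hc (inv_mem hm))) (inv_mem hn)
  -- otherwise the translates of `M` would commute
  exfalso
  push Not at hall
  obtain ⟨t, ht, htO⟩ := hall
  set Z := Subgroup.center X with hZ
  set q := QuotientGroup.mk' Z with hq
  let O := orb A M
  let tr : X → Subgroup X := fun g => conjBy M g
  have htrN : ∀ g, DerivedNormal (tr g) := fun g => by
    refine ⟨fun x hx => ?_, fun x hx m hm => mem_conjBy.2 ?_⟩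
    · have h1 := hM.1 (mem_conjBy.1 hx)
      have := (inferInstance : (commutator X).Normal).conj_mem _ h1 g
      simpa [mul_assoc] using this
    · have h1 := hM.2 (g⁻¹ * x * g) (by
        simpa using (inferInstance : (commutator X).Normal).conj_mem x hx g⁻¹) _ (mem_conjBy.1 hm)
      rw [show g⁻¹ * (x * m * x⁻¹) * g = g⁻¹ * x * g * (g⁻¹ * m * g) * (g⁻¹ * x * g)⁻¹ by group]
      exact h1
  have horbtr : ∀ g ∈ A, ∀ C ∈ O, conjBy C g ∈ orb A (tr g) := by
    rintro g hg _ ⟨m, hm, rfl⟩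
    refine ⟨g * m * g⁻¹, conj_mem_conjBy g hm, ?_⟩
    rw [← conjBy_conjBy, ← conjBy_conjBy, conjBy_eq_self_of_mem (A.inv_mem hg)]
  have htrorb : ∀ g ∈ A, ∀ C ∈ orb A (tr g), ∃ C' ∈ O, C = conjBy C' g := by
    rintro g hg _ ⟨_, ⟨m, hm, rfl⟩, rfl⟩
    refine ⟨conjBy A m, ⟨m, hm, rfl⟩, ?_⟩
    show conjBy A (g * m * g⁻¹) = _
    rw [← conjBy_conjBy, conjBy_eq_self_of_mem (A.inv_mem hg), conjBy_conjBy]
  -- translates with disjoint parameters commute modulo the center
  have hdisj : ∀ g ∈ A, conjBy B g ∉ O → ∀ x ∈ M, ∀ y ∈ tr g, q x * q y = q y * q x := by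
    intro g hg hgO x hx y hy
    set N := M ⊓ tr g with hN
    have hfixA : ∀ n ∈ N, conjBy A n = A := by
      intro n hn
      by_contra hne
      obtain ⟨d, hd, ed⟩ := exists_of_ne hX.2 (mem_points hX n) hne
      have h1 : conjBy B d ∈ O := ed ▸ ⟨n, hn.1, rfl⟩
      obtain ⟨C', hC', eC⟩ := htrorb g hg _ ⟨n, hn.2, rfl⟩
      rw [ed, eq_comm, conjBy_eq_iff, conjBy_conjBy] at eC
      refine hgO ?_
      have h2 := orb_mul h ha₀ ha₀X ha₀1 hM hB hd
        (A.inv_mem (A.mul_mem (A.inv_mem hg) hd)) h1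
        (inv_shift h ha₀ ha₀X ha₀1 hM hB (A.mul_mem (A.inv_mem hg) hd) (eC ▸ hC'))
      rwa [show d * (g⁻¹ * d)⁻¹ = g by group] at h2
    have hz : ∀ n ∈ N, n ∈ Z := fun n hn => mem_center_of_forall hX fun C hC => by
      obtain ⟨u, hu, rfl⟩ := point_eq_conj h hC
      have hn' : u⁻¹ * n * u⁻¹⁻¹ ∈ N :=
        ⟨hM.2 _ (inv_mem hu) _ hn.1, (htrN g).2 _ (inv_mem hu) _ hn.2⟩
      rw [inv_inv] at hn'
      conv_rhs => rw [← hfixA _ hn']
      rw [conjBy_conjBy, conjBy_conjBy]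
      congr 1; group
    have hxy : ⁅x, y⁆ ∈ N := by
      refine ⟨?_, ?_⟩
      · rw [commutatorElement_def, mul_assoc x, mul_assoc x]
        exact M.mul_mem hx (hM.2 y ((htrN g).1 hy) _ (M.inv_mem hx))
      · rw [commutatorElement_def]
        exact (tr g).mul_mem ((htrN g).2 x (hM.1 hx) _ hy) ((tr g).inv_mem hy)
    rw [← commutatorElement_eq_one_iff_mul_comm, ← map_commutatorElement]
    exact (QuotientGroup.eq_one_iff _).2 (hz _ hxy)
  set P : Subgroup X := ⨆ d ∈ {d | d ∈ A ∧ conjBy B d ∈ O}, tr d with hP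
  set K : Subgroup X := ⨆ s ∈ {s | s ∈ A ∧ conjBy B s ∉ O}, tr s with hK
  have hcomm : ∀ m ∈ P, ∀ k ∈ K, q m * q k = q k * q m := by
    have : P.map q ≤ Subgroup.centralizer ((K.map q : Subgroup (X ⧸ Z)) : Set (X ⧸ Z)) := by
      rw [hP, hK, Subgroup.map_iSup, Subgroup.le_centralizer_iff]
      simp only [Subgroup.map_iSup]
      refine iSup₂_le fun s hs => Subgroup.le_centralizer_iff.1 (iSup₂_le fun d hd => ?_)
      rintro _ ⟨m, hm, rfl⟩
      refine Subgroup.mem_centralizer_iff.2 ?_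
      rintro _ ⟨k, hk, rfl⟩
      -- move the pair back by `d`
      have hgO : conjBy B (d⁻¹ * s) ∉ O := fun hh => hs.2 (by
        have := orb_mul h ha₀ ha₀X ha₀1 hM hB hd.1 (A.mul_mem (A.inv_mem hd.1) hs.1) hd.2 hh
        rwa [mul_inv_cancel_left] at this)
      have hk' : d⁻¹ * k * d ∈ tr (d⁻¹ * s) := by
        refine mem_conjBy.2 ?_
        have := mem_conjBy.1 hk
        rwa [show (d⁻¹ * s)⁻¹ * (d⁻¹ * k * d) * (d⁻¹ * s) = s⁻¹ * k * s by group]
      have e := hdisj _ (A.mul_mem (A.inv_mem hd.1) hs.1) hgO _ (mem_conjBy.1 hm) _ hk'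
      simp only [map_mul, map_inv] at e
      calc q k * q m = q d * ((q d)⁻¹ * q k * q d * ((q d)⁻¹ * q m * q d)) * (q d)⁻¹ := by group
        _ = q d * ((q d)⁻¹ * q m * q d * ((q d)⁻¹ * q k * q d)) * (q d)⁻¹ := by rw [e]
        _ = q m * q k := by group
    exact fun m hm k hk => (Subgroup.mem_centralizer_iff.1 (this ⟨m, hm, rfl⟩) _ ⟨k, hk, rfl⟩).symm
  have hderiv : ∀ {ι : Set X}, ∀ x ∈ commutator X,
      ∀ m ∈ ⨆ g ∈ ι, tr g, x * m * x⁻¹ ∈ ⨆ g ∈ ι, tr g := by
    intro ι x hx m hm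
    have h1 : (⨆ g ∈ ι, tr g).map (MulAut.conj x).toMonoidHom ≤ ⨆ g ∈ ι, tr g := by
      simp only [Subgroup.map_iSup]
      refine iSup₂_mono fun g _ => ?_
      rintro _ ⟨y, hy, rfl⟩
      exact (htrN g).2 x hx y hy
    exact h1 ⟨m, hm, rfl⟩
  have hKN : DerivedNormal K := ⟨iSup₂_le fun g _ => (htrN g).1, hderiv⟩
  have hPN : DerivedNormal P := ⟨iSup₂_le fun g _ => (htrN g).1, hderiv⟩
  have hMP : M ≤ P := by
    refine le_trans ?_ (le_iSup₂ (f := fun d (_ : d ∈ {d | d ∈ A ∧ conjBy B d ∈ O}) => tr d) 1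
      ⟨A.one_mem, by rw [conjBy_one]; exact hB⟩)
    show M ≤ conjBy M 1
    rw [conjBy_one]
  -- `B` lies in the orbit of `K`
  have hBK : B ∈ orb A K := by
    have hin : ∀ s ∈ A, conjBy B s ∉ O → conjBy B s ∈ orb A K := fun s hs hsO => by
      obtain ⟨m, hm, e⟩ := horbtr s hs B hB
      exact ⟨m, le_iSup₂ (f := fun s (_ : s ∈ {s | s ∈ A ∧ conjBy B s ∉ O}) => tr s) s
        ⟨hs, hsO⟩ hm, e⟩
    have ht2 : conjBy B (t ^ 2) ∉ O := fun hh => htO (by
      have h3 := cube_shift h ha₀ ha₀X ha₀1 hM ht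
        (A.inv_mem (A.pow_mem ht 2)) (inv_shift h ha₀ ha₀X ha₀1 hM hB (A.pow_mem ht 2) hh)
      rwa [show t ^ 3 * (t ^ 2)⁻¹ = t by group] at h3)
    have h4 := inv_shift (rebase h ht) ha₀ ha₀X ha₀1 hKN (hin t ht htO) ht
      (by rw [conjBy_conjBy, ← pow_two]; exact hin _ (A.pow_mem ht 2) ht2)
    rwa [conjBy_conjBy, inv_mul_cancel, conjBy_one] at h4
  -- `X'` is covered by `P` and `K`
  have hnK : K ≤ Subgroup.normalizer (P : Set X) := fun k hk => by
    rw [Subgroup.mem_normalizer_iff]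
    refine fun m => ⟨fun hm => hPN.2 k (hKN.1 hk) m hm, fun hm => ?_⟩
    have := hPN.2 k⁻¹ (inv_mem (hKN.1 hk)) _ hm
    simpa [mul_assoc] using this
  have hcov : commutator X ≤ P ⊔ K := by
    set L : Subgroup X := ⨆ g ∈ (A : Set X), tr g with hL
    have hLle : L ≤ P ⊔ K := iSup₂_le fun g hg => by
      by_cases hgO : conjBy B g ∈ O
      · exact le_sup_of_le_left
          (le_iSup₂ (f := fun d (_ : d ∈ {d | d ∈ A ∧ conjBy B d ∈ O}) => tr d) g ⟨hg, hgO⟩)
      · exact le_sup_of_le_right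
          (le_iSup₂ (f := fun s (_ : s ∈ {s | s ∈ A ∧ conjBy B s ∉ O}) => tr s) g ⟨hg, hgO⟩)
    have hLn : L.Normal := ⟨fun m hm x => by
      obtain ⟨y, hy, a, ha, rfl⟩ := exists_factor h x
      rw [show y * a * m * (y * a)⁻¹ = y * (a * m * a⁻¹) * y⁻¹ by group]
      refine hderiv y hy _ ?_
      have h1 : L.map (MulAut.conj a).toMonoidHom ≤ L := by
        simp only [hL, Subgroup.map_iSup]
        refine iSup₂_le fun g hg => ?_
        refine le_trans (le_of_eq (conjBy_conjBy M g a)) ?_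
        exact le_iSup₂ (f := fun g (_ : g ∈ (A : Set X)) => tr g) (a * g) (A.mul_mem ha hg)
      exact h1 ⟨m, hm, rfl⟩⟩
    refine le_trans ?_ hLle
    refine commutator_le_of_sup_eq_top h.comm_left hLn
      ((sup_eq_top_or_le_center hX hLn).resolve_right fun e => ?_)
    obtain ⟨m, hm, e'⟩ := hB
    refine hX.2.ne ?_
    rw [e', eq_comm, ← mem_normalizer_iff_conjBy]
    refine Subgroup.center_le_normalizer _ (e ?_)
    have := le_iSup₂ (f := fun g (_ : g ∈ (A : Set X)) => tr g) 1 A.one_mem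
    exact this (by show m ∈ conjBy M 1; rw [conjBy_one]; exact hm)
  have ha' := hcov ha₀X
  rw [← SetLike.mem_coe, Subgroup.coe_mul_of_right_le_normalizer_left P K hnK] at ha'
  obtain ⟨m, hm, k, hk, hmk⟩ := ha'
  simp only at hmk
  -- central elements fix every point
  have hqfix : ∀ (C : Subgroup X) (u v : X), q u = q v → conjBy C u = conjBy C v := by
    intro C u v e
    conv_rhs => rw [show v = u * (u⁻¹ * v) by group, ← conjBy_conjBy C,
      conjBy_eq_self_of_center ((QuotientGroup.eq).1 e)]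
  have hkA : ∀ {C : Subgroup X} {u v : X}, C = conjBy A u → q v * q u = q u * q v →
      conjBy A v = A → conjBy C v = C := by
    intro C u v hC e hv
    rw [hC, conjBy_conjBy, hqfix A (v * u) (u * v) (by simpa using e), ← conjBy_conjBy, hv]
  have hmA : conjBy A m = A := by
    refine eq_base_of_fixed hX ha₀ ha₀1 (mem_points hX m) ?_
    rw [conjBy_conjBy, hqfix A (a₀ * m) (m * a₀) ?_, ← conjBy_conjBy, conjBy_eq_self_of_mem ha₀]
    rw [← hmk, map_mul, map_mul, map_mul, mul_assoc, ← hcomm m hm k hk, map_mul]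
  have hkA' : conjBy A k = A := by
    refine conjBy_injective m ?_
    show conjBy (conjBy A k) m = conjBy A m
    rw [conjBy_conjBy, hmk, conjBy_eq_self_of_mem ha₀, hmA]
  obtain ⟨m₁, hm₁, e₁⟩ := hB
  obtain ⟨k₁, hk₁, e₂⟩ := hBK
  have hkB : conjBy B k = B := hkA e₁ (hcomm m₁ (hMP hm₁) k hk).symm hkA'
  have hmB : conjBy B m = B := hkA e₂ (hcomm m hm k₁ hk₁) hmA
  refine ha₀1 (eq_one_of_conjBy_eq hX.2 ha₀ ?_)
  rw [← hmk, ← conjBy_conjBy, hkB, hmB]
where
  conjBy_eq_self_of_center {C : Subgroup X} {z : X} (hz : z ∈ Subgroup.center X) :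
      conjBy C z = C := mem_normalizer_iff_conjBy.1 (Subgroup.center_le_normalizer _ hz)

/-- A non-central subgroup normal in the derived subgroup is the whole derived subgroup. -/
theorem derived_le (h : AbelianSpecial A B) {a₀ : X} (ha₀ : a₀ ∈ A) (ha₀X : a₀ ∈ commutator X)
    (ha₀1 : a₀ ≠ 1) {M : Subgroup X} (hM : DerivedNormal M) {m : X} (hm : m ∈ M)
    (hmz : m ∉ Subgroup.center X) : commutator X ≤ M := by
  obtain ⟨C, hC, hne⟩ : ∃ C ∈ unipotentSubgroups A B, conjBy C m ≠ C := by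
    by_contra! hcon
    exact hmz (mem_center_of_forall h.group hcon)
  obtain ⟨y, hy, rfl⟩ := point_eq_conj h hC
  set n := y⁻¹ * m * y with hn
  have hnM : n ∈ M := by
    have := hM.2 y⁻¹ (inv_mem hy) m hm
    rwa [inv_inv] at this
  have hnA : conjBy A n ≠ A := fun e => hne (by
    conv_rhs => rw [← e]
    rw [conjBy_conjBy, conjBy_conjBy]
    congr 1; rw [hn]; group)
  obtain ⟨d, hd, e⟩ := exists_of_ne h.group.2 (mem_points h.group n) hnA
  exact derived_le_of_moves (rebase h hd) ha₀ ha₀X ha₀1 hM ⟨n, hnM, e.symm⟩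

theorem isQuasisimple_derived (h : AbelianSpecial A B) {a₀ : X} (ha₀ : a₀ ∈ A)
    (ha₀X : a₀ ∈ commutator X) (ha₀1 : a₀ ≠ 1) : Cfsg.IsQuasisimple ↥(commutator X) := by
  have hperf := perfect h ha₀ ha₀X ha₀1
  have hp : Group.IsPerfect ↥(commutator X) := Subgroup.isPerfect_iff.2 hperf
  haveI : Nontrivial ↥(commutator X) :=
    (Subgroup.nontrivial_iff_exists_ne_one _).2 ⟨a₀, ha₀X, ha₀1⟩
  refine Grp.isQuasisimple_of hp fun N hN => ?_
  by_cases hz : ∀ n ∈ N, (n : X) ∈ Subgroup.center X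
  · exact Or.inr fun n hn => Subgroup.mem_center_iff.2 fun y =>
      Subtype.ext (Subgroup.mem_center_iff.1 (hz n hn) y)
  push Not at hz
  obtain ⟨n, hn, hnz⟩ := hz
  left
  have hM : DerivedNormal (N.map (commutator X).subtype) := by
    refine ⟨Subgroup.map_subtype_le N, fun x hx m hm => ?_⟩
    obtain ⟨k, hk, rfl⟩ := hm
    exact ⟨⟨x, hx⟩ * k * ⟨x, hx⟩⁻¹, hN.conj_mem k hk _, rfl⟩
  have hle := derived_le h ha₀ ha₀X ha₀1 hM ⟨n, hn, rfl⟩ hnz
  refine top_le_iff.1 fun y _ => ?_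
  obtain ⟨k, hk, e⟩ := hle y.2
  exact Subtype.ext e ▸ hk

/-! ### The derived subgroup meets `A` -/

theorem two_lt_or_four {U : Subgroup X} (hU : ¬ 3 < ENat.card U) {u : X} (hu : u ∈ U) (hu1 : u ≠ 1)
    {v : X} (hv : v ∈ U) : v = 1 ∨ v = u ∨ v = u⁻¹ := by
  by_contra hcon
  push Not at hcon
  obtain ⟨hv1, hvu, hvu'⟩ := hcon
  refine hU ?_
  have key : ∀ w ∈ U, w ≠ 1 → w ≠ u → w ≠ v → 3 < ENat.card U := by
    intro w hw hw1 hwu hwv
    have hinj : Function.Injective
        (![⟨1, U.one_mem⟩, ⟨u, hu⟩, ⟨v, hv⟩, ⟨w, hw⟩] : Fin 4 → U) := by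
      intro i j e
      fin_cases i <;> fin_cases j <;>
        simp [Subtype.ext_iff, hu1, hu1.symm, hv1, hv1.symm, hw1, hw1.symm, hvu, hvu.symm, hwu,
          hwu.symm, hwv, hwv.symm] at e ⊢
    refine lt_of_lt_of_le ?_ (ENat.card_le_card_of_injective hinj)
    rw [ENat.card_eq_coe_fintype_card, Fintype.card_fin]
    norm_num
  by_cases huu : u = u⁻¹
  · refine key (u * v) (U.mul_mem hu hv) (fun e => hvu' ?_) (fun e => hv1 ?_) (fun e => hu1 ?_)
    · exact eq_inv_of_mul_eq_one_right e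
    · exact mul_eq_left.1 e
    · exact mul_eq_right.1 e
  · exact key u⁻¹ (U.inv_mem hu) (inv_ne_one.2 hu1) (fun e => huu e.symm) (fun e => hvu' e.symm)

/-- For more than three elements in `A` the subgroup `⁅A, H⁆` has more than three elements. -/
theorem three_lt_commutator_diagonal (h : AbelianSpecial A B) (hcard : 3 < ENat.card A) :
    3 < ENat.card ↥(⁅A, rankOneDiagonal A B⁆ : Subgroup X) := by
  set U : Subgroup X := ⁅A, rankOneDiagonal A B⁆ with hUdef
  by_contra hU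
  have hX := h.group
  have hUA : U ≤ A := Subgroup.commutator_le.2 fun a ha g hg => by
    rw [commutatorElement_def, mul_assoc a, mul_assoc a]
    exact A.mul_mem ha ((mem_normalizer_iff_conjBy.1 hg.1.2).le
      (conj_mem_conjBy g (A.inv_mem ha)))
  have hexA : ∀ x y : X, x ∈ A → y ∈ A → ∃ z ∈ A, z ≠ 1 ∧ z ≠ x ∧ z ≠ y := by
    intro x y hx hy
    by_contra! hcon
    refine not_lt.2 (?_ : ENat.card A ≤ 3) hcard
    have hsub : (A : Set X) ⊆ {1, x, y} := fun z hz => by
      by_cases h1 : z = 1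
      · exact Or.inl h1
      by_cases h2 : z = x
      · exact Or.inr (Or.inl h2)
      · exact Or.inr (Or.inr (hcon z hz h1 h2))
    calc ENat.card A = (A : Set X).encard := by rw [Set.encard]; rfl
      _ ≤ ({1, x, y} : Set X).encard := Set.encard_le_encard hsub
      _ ≤ 3 := le_trans (Set.encard_insert_le _ _) (by
        refine le_trans (add_le_add (le_trans (Set.encard_insert_le _ _)
          (add_le_add (le_of_eq (Set.encard_singleton y)) le_rfl)) le_rfl) ?_
        norm_num)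
  -- the non-identity elements outside `U`
  have hexU : ∃ a ∈ A, a ∉ U := by
    by_contra! hcon
    exact hU ((show U = A from le_antisymm hUA hcon) ▸ hcard)
  -- each of them is an involution
  have main : ∀ a ∈ A, a ∉ U → a⁻¹ = a ∧ ∃ f : X, (∀ x ∈ A, x ≠ a → x ≠ 1 →
      ∃ u ∈ U, conjBy (conjBy B x) f = conjBy B (x⁻¹ * u) ∧
        conjBy (conjBy B x) f ≠ conjBy B x ∧ conjBy (conjBy B x) f ≠ B) := by
    intro a ha haU
    have ha1 : a ≠ 1 := fun e => haU (e ▸ U.one_mem)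
    obtain ⟨b, hb, hb1, -, hwA, hwB⟩ := exists_swap hX.2 h.special ha ha1
    have hfB : conjBy B b⁻¹ = B := conjBy_eq_self_of_mem (B.inv_mem hb)
    have hf_eq : b⁻¹ = a⁻¹ * (a * b⁻¹ * a) * a⁻¹ := by group
    have hfA : conjBy A b⁻¹ = conjBy B a⁻¹ := by
      rw [hf_eq, ← conjBy_conjBy, ← conjBy_conjBy, conjBy_eq_self_of_mem (A.inv_mem ha), hwA]
    have hfa : conjBy (conjBy B a) b⁻¹ = A := by
      rw [hf_eq, conjBy_conjBy, inv_mul_cancel_right, ← conjBy_conjBy, hwB,
        conjBy_eq_self_of_mem (A.inv_mem ha)]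
    have hff : ∀ x ∈ A, x ≠ a → ∃ u ∈ U, conjBy (conjBy B x) b⁻¹ = conjBy B (x⁻¹ * u) := by
      intro x hx hxa
      set c := a * x⁻¹ with hcdef
      have hc : c ∈ A := A.mul_mem ha (A.inv_mem hx)
      have hc1 : c ≠ 1 := fun e => hxa (mul_inv_eq_one.1 e).symm
      obtain ⟨d, hd, -, -, hvA, hvB⟩ := exists_swap hX.2 h.special hc hc1
      set g := (a * b⁻¹ * a) * (c * d⁻¹ * c)⁻¹ with hg
      have hgA : conjBy A g = A := by
        rw [hg, ← conjBy_conjBy, show conjBy A (c * d⁻¹ * c)⁻¹ = B by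
          rw [conjBy_eq_iff, inv_inv, hvB], hwB]
      have hgB : conjBy B g = B := by
        rw [hg, ← conjBy_conjBy, show conjBy B (c * d⁻¹ * c)⁻¹ = A by
          rw [conjBy_eq_iff, inv_inv, hvA], hwA]
      have hgH : g ∈ rankOneDiagonal A B := ⟨⟨hX.1 ▸ Subgroup.mem_top g,
        mem_normalizer_iff_conjBy.2 hgA⟩, mem_normalizer_iff_conjBy.2 hgB⟩
      -- the swap of `c` sends `c⁻¹` to `c`
      have hvc : conjBy (conjBy B c⁻¹) (c * d⁻¹ * c) = conjBy B c := by
        rw [conjBy_conjBy, mul_inv_cancel_right, ← conjBy_conjBy B d⁻¹,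
          conjBy_eq_self_of_mem (B.inv_mem hd)]
      have hgc : g * c * g⁻¹ = c * ⁅c⁻¹, g⁆ := by rw [commutatorElement_def]; group
      refine ⟨⁅c⁻¹, g⁆, Subgroup.commutator_mem_commutator (A.inv_mem hc) hgH, ?_⟩
      have hxc : x = a * c⁻¹ := by
        rw [hcdef, mul_inv_rev, inv_inv, ← mul_assoc, h.comm ha hx, mul_inv_cancel_right]
      rw [conjBy_conjBy, show b⁻¹ * x = a⁻¹ * (g * ((c * d⁻¹ * c) * c⁻¹)) by
        rw [hg, hxc]; group, ← conjBy_conjBy B, ← conjBy_conjBy B, ← conjBy_conjBy B c⁻¹, hvc,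
        conjBy_conjBy B c g, show g * c = (g * c * g⁻¹) * g by group, ← conjBy_conjBy B g, hgB,
        conjBy_conjBy B _ a⁻¹, hgc, ← mul_assoc, hcdef, inv_mul_cancel_left]
    have hfix : ∀ x ∈ A, x ≠ 1 → conjBy (conjBy B x) b⁻¹ ≠ conjBy B x := fun x hx hx1 e => by
      refine hb1 (inv_eq_one.1 (eq_one_of_conjBy_eq (RankOnePair_symm hX.2)
        (B.inv_mem hb) ?_))
      by_contra -
      exact inv_ne_one.2 hb1 (Subgroup.mem_bot.1 (inf_normalizer_points hX.2 (right_mem hX.2)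
        (point_conj hX x) (fun e' => hx1 (eq_one_of_conjBy_eq hX.2 hx e'.symm)) ▸
          ⟨B.inv_mem hb, mem_normalizer_iff_conjBy.2 e⟩))
    -- some parameter is fixed by the square
    obtain ⟨x, hx, hx1, hxfix⟩ : ∃ x ∈ A, x ≠ 1 ∧
        conjBy (conjBy (conjBy B x) b⁻¹) b⁻¹ = conjBy B x := by
      by_cases hU1 : ∃ u ∈ U, u ≠ 1
      · obtain ⟨u, hu, hu1⟩ := hU1
        have step : ∀ v ∈ U, v ≠ 1 → ∃ v' ∈ U, v' ≠ 1 ∧
            conjBy (conjBy B v) b⁻¹ = conjBy B v' ∧ v' ≠ v := by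
          intro v hv hv1
          obtain ⟨w, hw, e⟩ := hff v (hUA hv) fun e => haU (e ▸ hv)
          refine ⟨v⁻¹ * w, U.mul_mem (U.inv_mem hv) hw, fun e' => hv1 ?_, e, fun e' => ?_⟩
          · rw [e', conjBy_one] at e
            refine eq_one_of_conjBy_eq hX.2 (hUA hv) (conjBy_injective b⁻¹ ?_)
            show conjBy (conjBy B v) b⁻¹ = conjBy B b⁻¹
            rw [e, hfB]
          · exact hfix v (hUA hv) hv1 (by rw [e, e'])
        obtain ⟨v, hv, hv1, e1, hne1⟩ := step u hu hu1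
        obtain ⟨w, hw, hw1, e2, hne2⟩ := step v hv hv1
        refine ⟨u, hUA hu, hu1, ?_⟩
        rw [e1, e2]
        rcases two_lt_or_four hU hu hu1 hv with e | e | e
        · exact absurd e hv1
        · exact absurd e hne1
        rcases two_lt_or_four hU hu hu1 hw with e' | e' | e'
        · exact absurd e' hw1
        · rw [e']
        · exact absurd (e'.trans e.symm) hne2
      · push Not at hU1
        obtain ⟨x, hx, hx1, hxa, hxa'⟩ := hexA a a⁻¹ ha (A.inv_mem ha)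
        refine ⟨x, hx, hx1, ?_⟩
        obtain ⟨u, hu, e1⟩ := hff x hx hxa
        rw [hU1 u hu, mul_one] at e1
        obtain ⟨v, hv, e2⟩ := hff x⁻¹ (A.inv_mem hx) fun e => hxa' (by rw [← e, inv_inv])
        rw [hU1 v hv, mul_one, inv_inv] at e2
        rw [e1, e2]
    have hb2 : b⁻¹ * b⁻¹ = 1 := by
      by_contra hne
      refine hne (Subgroup.mem_bot.1 (inf_normalizer_points hX.2 (right_mem hX.2)
        (point_conj hX x) (fun e' => hx1 (eq_one_of_conjBy_eq hX.2 hx e'.symm)) ▸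
          ⟨B.mul_mem (B.inv_mem hb) (B.inv_mem hb), mem_normalizer_iff_conjBy.2 ?_⟩))
      rw [← conjBy_conjBy, hxfix]
    have hinv : a⁻¹ = a := by
      refine inj_conj hX.2 (A.inv_mem ha) ha (conjBy_injective b⁻¹ ?_)
      show conjBy (conjBy B a⁻¹) b⁻¹ = conjBy (conjBy B a) b⁻¹
      rw [hfa, ← hfA, conjBy_conjBy, hb2, conjBy_one]
    refine ⟨hinv, b⁻¹, fun x hx hxa hx1 => ?_⟩
    obtain ⟨u, hu, e⟩ := hff x hx hxa
    refine ⟨u, hu, e, hfix x hx hx1, fun e' => hx1 (eq_one_of_conjBy_eq hX.2 hx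
      (conjBy_injective b⁻¹ ?_))⟩
    show conjBy (conjBy B x) b⁻¹ = conjBy B b⁻¹
    rw [e', hfB]
  obtain ⟨a, ha, haU⟩ := hexU
  obtain ⟨hinv, f, hf⟩ := main a ha haU
  have hexp : ∀ x ∈ A, x⁻¹ = x := by
    intro x hx
    by_cases hxU : x ∈ U
    · have h1 := (main (x * a) (A.mul_mem hx ha) fun e => haU (by
        have := U.mul_mem (U.inv_mem hxU) e
        rwa [inv_mul_cancel_left] at this)).1
      rw [mul_inv_rev, hinv, h.comm hx ha] at h1
      exact mul_left_cancel h1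
    · exact (main x hx hxU).1
  by_cases hU1 : ∃ u ∈ U, u ≠ 1
  · obtain ⟨u, hu, hu1⟩ := hU1
    obtain ⟨w, hw, e, hne, hne'⟩ := hf u (hUA hu) (fun e => haU (e ▸ hu)) hu1
    rw [hexp u (hUA hu)] at e
    rcases two_lt_or_four hU hu hu1 (U.mul_mem hu hw) with e' | e' | e'
    · rw [e', conjBy_one] at e
      exact hne' e
    · exact hne (by rw [e, e'])
    · exact hne (by rw [e, e', hexp u (hUA hu)])
  · push Not at hU1
    obtain ⟨x, hx, hx1, hxa, -⟩ := hexA a a ha ha
    obtain ⟨u, hu, e, hne, -⟩ := hf x hx hxa hx1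
    exact hne (by rw [e, hU1 u hu, mul_one, hexp x hx])

/-- For more than three elements in `A` the derived subgroup meets `A`. -/
theorem exists_derived (h : AbelianSpecial A B) (hcard : 3 < ENat.card A) :
    ∃ a ∈ A, a ∈ commutator X ∧ a ≠ 1 := by
  have h3 := three_lt_commutator_diagonal h hcard
  obtain ⟨a, ha, ha1⟩ : ∃ a ∈ (⁅A, rankOneDiagonal A B⁆ : Subgroup X), a ≠ 1 := by
    by_contra! hcon
    have e : (⁅A, rankOneDiagonal A B⁆ : Subgroup X) = ⊥ :=
      (Subgroup.eq_bot_iff_forall _).2 hcon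
    rw [e] at h3
    simp at h3
  refine ⟨a, ?_, Subgroup.commutator_mono le_top le_top ha, ha1⟩
  refine (Subgroup.commutator_le.2 fun a ha g hg => ?_) ha
  rw [commutatorElement_def, mul_assoc a, mul_assoc a]
  exact A.mul_mem ha ((mem_normalizer_iff_conjBy.1 hg.1.2).le
    (conj_mem_conjBy g (A.inv_mem ha)))

end Cfsg.Agent.Fus.RankOne
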