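import Mathlib
import Cfsg.Agent.Lib.Fus.RankOneAbelian
import Cfsg.Agent.Lib.Fus.RootLines
import Cfsg.Agent.Lib.Fus.RootSpecial
import Cfsg.Agent.Lib.Fus.RootNilpotent

/-!
The structure theorem for connected sets of abstract root subgroups with special rank one pairs:
the derived group is quasisimple and supplemented by each member.
-/

set_option autoImplicit false
set_option linter.style.haveILetI false
set_option linter.unusedSectionVars false

open scoped commutatorElement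

namespace Cfsg.Agent.Fus.RootQuasi

open Subgroup

variable {G : Type*} [Group G] {S : Set (Subgroup G)}

/-- A special pair with abelian unipotent subgroups, seen inside the group it generates. -/
theorem abelianSpecial_subgroupOf {P Q : Subgroup G} (hs : IsSpecialRankOnePair P Q)
    (hP : IsMulCommutative P) (hQ : IsMulCommutative Q) :
    RankOne.AbelianSpecial (P.subgroupOf (P ⊔ Q)) (Q.subgroupOf (P ⊔ Q)) := by
  obtain ⟨hAB, hspec⟩ := hs
  set A' := P.subgroupOf (P ⊔ Q) with hA'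
  set B' := Q.subgroupOf (P ⊔ Q) with hB'
  have hmapA : A'.map (P ⊔ Q).subtype = P := by
    rw [hA', Subgroup.subgroupOf_map_subtype, inf_eq_left.2 le_sup_left]
  have hmapB : B'.map (P ⊔ Q).subtype = Q := by
    rw [hB', Subgroup.subgroupOf_map_subtype, inf_eq_left.2 le_sup_right]
  have hinj := Subgroup.map_injective (P ⊔ Q).subtype_injective
  have hpull : ∀ {R T : Subgroup ↥(P ⊔ Q)} {R₀ T₀ : Subgroup G}, R.map (P ⊔ Q).subtype = R₀ →
      T.map (P ⊔ Q).subtype = T₀ → RankOneCondition R₀ T₀ → RankOneCondition R T := by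
    intro R T R₀ T₀ hR hT hc x hx hx1
    obtain ⟨y, hy, hy1, e⟩ := hc x (hR ▸ Subgroup.mem_map_of_mem _ hx)
      fun h => hx1 (Subtype.ext h)
    rw [← hT] at hy
    obtain ⟨y', hy', rfl⟩ := hy
    refine ⟨y', hy', fun h => hy1 (by rw [h, map_one]), hinj ?_⟩
    rw [map_conjBy, map_conjBy, hR, hT, map_inv, map_inv]
    exact e
  haveI := hAB.nilpotent_left
  haveI := hAB.nilpotent_right
  have hp : IsRankOnePair A' B' := ⟨fun h => hAB.ne (by rw [← hmapA, h, hmapB]),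
    Group.nilpotent_of_mulEquiv (Subgroup.subgroupOfEquivOfLe (le_sup_left : P ≤ P ⊔ Q)).symm,
    Group.nilpotent_of_mulEquiv (Subgroup.subgroupOfEquivOfLe (le_sup_right : Q ≤ P ⊔ Q)).symm,
    hpull hmapA hmapB hAB.cond_left, hpull hmapB hmapA hAB.cond_right⟩
  refine ⟨⟨hinj ?_, hp⟩, ⟨hp, fun a ha ha1 b hb hb1 e => Subtype.ext ?_⟩,
    ⟨⟨fun x y => Subtype.ext (Subtype.ext ?_)⟩⟩, ⟨⟨fun x y => Subtype.ext (Subtype.ext ?_)⟩⟩⟩
  · rw [Subgroup.map_sup, hmapA, hmapB, ← MonoidHom.range_eq_map, Subgroup.range_subtype]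
  · refine hspec (a : G) ha (fun h => ha1 (Subtype.ext h)) (b : G) hb
      (fun h => hb1 (Subtype.ext h)) ?_
    have := congrArg (Subgroup.map (P ⊔ Q).subtype) e
    rwa [map_conjBy, map_conjBy, hmapA, hmapB, map_inv, map_inv] at this
  · exact congrArg (fun z : P => (z : G))
      (hP.is_comm.comm ⟨((x : ↥(P ⊔ Q)) : G), x.2⟩ ⟨((y : ↥(P ⊔ Q)) : G), y.2⟩)
  · exact congrArg (fun z : Q => (z : G))
      (hQ.is_comm.comm ⟨((x : ↥(P ⊔ Q)) : G), x.2⟩ ⟨((y : ↥(P ⊔ Q)) : G), y.2⟩)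

/-- The derived group of the rank one group meets `P` when `P` has more than three elements. -/
theorem exists_local_derived {P Q : Subgroup G} (hs : IsSpecialRankOnePair P Q)
    (hP : IsMulCommutative P) (hQ : IsMulCommutative Q) (hcard : 3 < ENat.card P) :
    ∃ a ∈ P, a ∈ ⁅P ⊔ Q, P ⊔ Q⁆ ∧ a ≠ 1 := by
  obtain ⟨a, ha, haX, ha1⟩ := RankOne.exists_derived (abelianSpecial_subgroupOf hs hP hQ)
    (by rwa [ENat.card_congr (Subgroup.subgroupOfEquivOfLe (le_sup_left : P ≤ P ⊔ Q)).toEquiv])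
  refine ⟨(a : G), ha, ?_, fun h => ha1 (Subtype.ext h)⟩
  rw [← Subgroup.map_subtype_commutator]
  exact ⟨a, haX, rfl⟩

theorem local_perfect {P Q : Subgroup G} (hs : IsSpecialRankOnePair P Q)
    (hP : IsMulCommutative P) (hQ : IsMulCommutative Q) {a : G} (ha : a ∈ P)
    (haL : a ∈ ⁅P ⊔ Q, P ⊔ Q⁆) (ha1 : a ≠ 1) :
    ⁅⁅P ⊔ Q, P ⊔ Q⁆, ⁅P ⊔ Q, P ⊔ Q⁆⁆ = ⁅P ⊔ Q, P ⊔ Q⁆ := by
  have h := abelianSpecial_subgroupOf hs hP hQ
  have hmap := Subgroup.map_subtype_commutator (P ⊔ Q)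
  obtain ⟨a', ha', rfl⟩ := hmap.ge haL
  calc ⁅⁅P ⊔ Q, P ⊔ Q⁆, ⁅P ⊔ Q, P ⊔ Q⁆⁆
      = ⁅commutator ↥(P ⊔ Q), commutator ↥(P ⊔ Q)⁆.map (P ⊔ Q).subtype := by
        rw [Subgroup.map_commutator, hmap]
    _ = (commutator ↥(P ⊔ Q)).map (P ⊔ Q).subtype :=
        congrArg _ (RankOne.perfect h (a := a') ha ha' fun e => ha1 (by rw [e, map_one]))
    _ = ⁅P ⊔ Q, P ⊔ Q⁆ := hmap

/-- A subgroup normalized by the derived group of the rank one group, containing an element of it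
which does not centralize `Q`, contains it. -/
theorem local_derived_le {P Q : Subgroup G} (hs : IsSpecialRankOnePair P Q)
    (hP : IsMulCommutative P) (hQ : IsMulCommutative Q) {a : G} (ha : a ∈ P)
    (haL : a ∈ ⁅P ⊔ Q, P ⊔ Q⁆) (ha1 : a ≠ 1) {M : Subgroup G}
    (hM : ∀ x ∈ ⁅P ⊔ Q, P ⊔ Q⁆, ∀ m ∈ M, x * m * x⁻¹ ∈ M) {m q : G} (hm : m ∈ M)
    (hmL : m ∈ ⁅P ⊔ Q, P ⊔ Q⁆) (hq : q ∈ Q) (hne : m * q ≠ q * m) :
    ⁅P ⊔ Q, P ⊔ Q⁆ ≤ M := by
  have h := abelianSpecial_subgroupOf hs hP hQ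
  rw [← Subgroup.map_subtype_commutator] at haL hmL hM ⊢
  obtain ⟨a', ha', rfl⟩ := haL
  obtain ⟨m', hm', rfl⟩ := hmL
  have key := RankOne.derived_le h (a₀ := a') ha ha' (fun e => ha1 (by rw [e, map_one]))
    (M := M.subgroupOf (P ⊔ Q) ⊓ commutator ↥(P ⊔ Q))
    ⟨inf_le_right, fun x hx y hy => ⟨hM x ⟨x, hx, rfl⟩ y hy.1,
      (inferInstance : (commutator ↥(P ⊔ Q)).Normal).conj_mem y hy.2 x⟩⟩
    (m := m') ⟨hm, hm'⟩ fun hz => hne (congrArg Subtype.val
      (Subgroup.mem_center_iff.1 hz ⟨q, Subgroup.mem_sup_right hq⟩).symm)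
  rintro _ ⟨x, hx, rfl⟩
  exact (key hx).1

/-- If `⁅P, Q⁆ ≤ M` for abelian `P`, `Q` and normal `M`, the derived group of `P ⊔ Q` is in `M`. -/
theorem commutator_le_of_commutator_le {M P Q : Subgroup G} (hMn : M.Normal)
    (hP : IsMulCommutative P) (hQ : IsMulCommutative Q)
    (h : ∀ a ∈ P, ∀ b ∈ Q, ⁅a, b⁆ ∈ M) : ⁅P ⊔ Q, P ⊔ Q⁆ ≤ M := by
  set f := QuotientGroup.mk' M
  have h' : ∀ a ∈ P, ∀ b ∈ Q, f a * f b = f b * f a := fun a ha b hb => by
    rw [← commutatorElement_eq_one_iff_mul_comm, ← map_commutatorElement]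
    exact (QuotientGroup.eq_one_iff _).2 (h a ha b hb)
  have hc : IsMulCommutative ↥(P.map f ⊔ Q.map f) := RootNil.isMulCommutative_sup
    inferInstance inferInstance (by
      rintro _ ⟨a, ha, rfl⟩ _ ⟨b, hb, rfl⟩
      exact h' a ha b hb)
  rw [← QuotientGroup.ker_mk' M, ← Subgroup.map_eq_bot_iff, Subgroup.map_commutator,
    Subgroup.map_sup, Subgroup.commutator_eq_bot_iff_le_centralizer]
  exact fun x hx => Subgroup.mem_centralizer_iff.2 fun y hy =>
    congrArg Subtype.val (hc.is_comm.comm ⟨y, hy⟩ ⟨x, hx⟩)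

section

variable (hS : IsRootSubgroupSet S) (h1 : IsConnectedFamily (FAdj S) S)
include hS h1

omit hS in
theorem exists_conj {A C : Subgroup G} (hA : A ∈ S) (hC : C ∈ S) : ∃ g : G, C = conjBy A g :=
  exists_conj_of_rtg (h1 A hA C hC)

theorem derived_sup {A : Subgroup G} (hA : A ∈ S) : commutator G ⊔ A = ⊤ := by
  refine top_le_iff.1 (hS.generates ▸ iSup₂_le fun C hC => ?_)
  obtain ⟨g, rfl⟩ := exists_conj h1 hA hC
  rintro _ ⟨a, ha, rfl⟩
  show g * a * g⁻¹ ∈ _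
  rw [show g * a * g⁻¹ = ⁅g, a⁆ * a by rw [commutatorElement_def]; group]
  exact mul_mem (Subgroup.mem_sup_left
    (Subgroup.commutator_mem_commutator (Subgroup.mem_top g) (Subgroup.mem_top a)))
    (Subgroup.mem_sup_right ha)

theorem derived_eq_top {A : Subgroup G} (hA : A ∈ S) (hle : A ≤ commutator G) :
    commutator G = ⊤ := by
  rw [← derived_sup hS h1 hA, sup_eq_left.2 hle]

theorem derived_eq_top_of_case {P Q : Subgroup G} (h : RootCommutatorCase S P Q) :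
    commutator G = ⊤ :=
  derived_eq_top hS h1 h.1 (Subgroup.commutator_mono le_top le_top)

/-- A normal subgroup meeting a member contains the derived group. -/
theorem derived_le_of_meets {N : Subgroup G} (hN : N.Normal) {A : Subgroup G} (hA : A ∈ S) {a : G}
    (ha : a ∈ A) (ha1 : a ≠ 1) (haN : a ∈ N) : commutator G ≤ N := by
  haveI := hN
  have step : ∀ C, Relation.ReflTransGen (FAdj S) A C →
      C ≤ N ⊔ A ∧ ∃ c ∈ C, c ≠ 1 ∧ c ∈ N := by
    intro C hC
    induction hC with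
    | refl => exact ⟨le_sup_right, a, ha, ha1, haN⟩
    | @tail P Q _ hPQ ih =>
      obtain ⟨hle, c, hc, hc1, hcN⟩ := ih
      obtain ⟨x, hx, e⟩ := RankOne.right_mem hPQ.2.2
      refine ⟨?_, x * c * x⁻¹, e ▸ conj_mem_conjBy x hc, fun h => hc1 (conj_eq_one_iff.1 h),
        hN.conj_mem c hcN x⟩
      -- the elements `⁅x, p⁆` lie in the normal closure of `c` and `P`
      set X := P ⊔ Q with hX
      have hmapP : (P.subgroupOf X).map X.subtype = P := by
        rw [Subgroup.subgroupOf_map_subtype, inf_eq_left.2 le_sup_left]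
      have hmapQ : (Q.subgroupOf X).map X.subtype = Q := by
        rw [Subgroup.subgroupOf_map_subtype, inf_eq_left.2 le_sup_right]
      have hinj := Subgroup.map_injective X.subtype_injective
      have hpull : ∀ {R T : Subgroup ↥X} {R₀ T₀ : Subgroup G}, R.map X.subtype = R₀ →
          T.map X.subtype = T₀ → RankOneCondition R₀ T₀ → RankOneCondition R T := by
        intro R T R₀ T₀ hR hT hc x hx hx1
        obtain ⟨y, hy, hy1, e⟩ := hc x (hR ▸ Subgroup.mem_map_of_mem _ hx)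
          fun h => hx1 (Subtype.ext h)
        rw [← hT] at hy
        obtain ⟨y', hy', rfl⟩ := hy
        refine ⟨y', hy', fun h => hy1 (by rw [h, map_one]), hinj ?_⟩
        rw [map_conjBy, map_conjBy, hR, hT, map_inv, map_inv]
        exact e
      have hg : IsRankOneGroup ↥X (P.subgroupOf X) (Q.subgroupOf X) := by
        haveI := hPQ.2.2.nilpotent_left
        haveI := hPQ.2.2.nilpotent_right
        refine ⟨hinj ?_, ⟨fun h => hPQ.2.2.ne (by rw [← hmapP, h, hmapQ]), ?_, ?_,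
          hpull hmapP hmapQ hPQ.2.2.cond_left, hpull hmapQ hmapP hPQ.2.2.cond_right⟩⟩
        · rw [Subgroup.map_sup, hmapP, hmapQ, ← MonoidHom.range_eq_map, Subgroup.range_subtype]
        · exact Group.nilpotent_of_mulEquiv
            (Subgroup.subgroupOfEquivOfLe (le_sup_left : P ≤ P ⊔ Q)).symm
        · exact Group.nilpotent_of_mulEquiv
            (Subgroup.subgroupOfEquivOfLe (le_sup_right : Q ≤ P ⊔ Q)).symm
      have htop := RankOne.sup_eq_top_of_mem hg (N := N.subgroupOf X) inferInstance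
        (a := ⟨c, Subgroup.mem_sup_left hc⟩) hc (fun h => hc1 (congrArg Subtype.val h)) hcN
      refine le_trans ?_ (sup_le le_sup_left hle : N ⊔ P ≤ N ⊔ A)
      have h' := congrArg (Subgroup.map X.subtype) htop
      rw [Subgroup.map_sup, hmapP, Subgroup.subgroupOf_map_subtype, ← MonoidHom.range_eq_map,
        Subgroup.range_subtype] at h'
      exact (le_sup_right : Q ≤ X).trans (h'.ge.trans (sup_le_sup_right inf_le_left P))
  refine RankOne.commutator_le_of_sup_eq_top (hS.commutative A hA) hN (top_le_iff.1 ?_)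
  rw [← hS.generates]
  exact iSup₂_le fun C hC => (step C (h1 A hA C hC)).1

end

section

variable (hS : IsRootSubgroupSet S) (h2 : ∃ A ∈ S, ∃ B ∈ S, A ≠ B)
  (h1 : IsConnectedFamily (FAdj S) S)
  (h3 : IsDegenerateRootSet S → ∀ A ∈ S, 3 < ENat.card A)
  (h4 : ∀ A ∈ S, ∀ B ∈ rankOnePartners S A, IsSpecialRankOnePair A B)
include hS h2 h1 h3 h4

theorem exists_partner {A : Subgroup G} (hA : A ∈ S) : ∃ B ∈ S, IsRankOnePair A B := by
  obtain ⟨P, hP, Q, hQ, hPQ⟩ := h2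
  obtain ⟨C, hC, hne⟩ : ∃ C ∈ S, C ≠ A := by
    by_cases h : P = A
    · exact ⟨Q, hQ, fun e => hPQ (h.trans e.symm)⟩
    · exact ⟨P, hP, h⟩
  rcases Relation.ReflTransGen.cases_head (h1 A hA C hC) with e | ⟨B, hB, -⟩
  · exact absurd e.symm hne
  · exact ⟨B, hB.2.1, hB.2.2⟩

omit h2 in
theorem degenerate_or_top : IsDegenerateRootSet S ∨ commutator G = ⊤ := by
  by_cases h : IsDegenerateRootSet S
  · exact Or.inl h
  · simp only [IsDegenerateRootSet] at h
    push Not at h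
    obtain ⟨P, -, Q, -, hc⟩ := h
    exact Or.inr (derived_eq_top_of_case hS h1 hc)

/-- Each member meets the derived group. -/
theorem meets_derived {A : Subgroup G} (hA : A ∈ S) : ∃ a ∈ A, a ∈ commutator G ∧ a ≠ 1 := by
  rcases degenerate_or_top hS h1 h3 h4 with h | h
  · obtain ⟨B, hB, hAB⟩ := exists_partner hS h2 h1 h3 h4 hA
    obtain ⟨a, ha, haL, ha1⟩ := exists_local_derived (h4 A hA B ⟨hB, hAB⟩) (hS.commutative A hA)
      (hS.commutative B hB) (h3 h A hA)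
    exact ⟨a, ha, Subgroup.commutator_mono le_top le_top haL, ha1⟩
  · obtain ⟨a, ha, ha1⟩ := exists_mem_ne_one (hS.ne_bot A hA)
    exact ⟨a, ha, h.ge (Subgroup.mem_top a), ha1⟩

theorem derived_perfect : ⁅commutator G, commutator G⁆ = commutator G := by
  refine le_antisymm (Subgroup.commutator_le_left _ _) ?_
  rcases degenerate_or_top hS h1 h3 h4 with h | h
  · obtain ⟨A, hA, -⟩ := id h2
    obtain ⟨B, hB, hAB⟩ := exists_partner hS h2 h1 h3 h4 hA
    have hs := h4 A hA B ⟨hB, hAB⟩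
    obtain ⟨a, ha, haL, ha1⟩ := exists_local_derived hs (hS.commutative A hA)
      (hS.commutative B hB) (h3 h A hA)
    refine derived_le_of_meets hS h1 (Subgroup.commutator_normal _ _) hA ha ha1 ?_
    rw [← local_perfect hs (hS.commutative A hA) (hS.commutative B hB) ha haL ha1] at haL
    exact Subgroup.commutator_mono (Subgroup.commutator_mono le_top le_top)
      (Subgroup.commutator_mono le_top le_top) haL
  · rw [h]; exact h.ge

omit h3 h4 in
/-- A normal subgroup of the derived group meeting a member is the whole derived group. -/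
theorem eq_derived_of_meets {M : Subgroup G}
    (hM : ∀ x ∈ commutator G, ∀ m ∈ M, x * m * x⁻¹ ∈ M) {A : Subgroup G} (hA : A ∈ S) {a : G}
    (ha : a ∈ A) (ha1 : a ≠ 1) (haM : a ∈ M) : commutator G ≤ M := by
  refine le_trans (derived_le_of_meets hS h1 (N := Subgroup.normalClosure {a}) inferInstance hA ha
    ha1 (Subgroup.subset_normalClosure rfl)) ?_
  rw [Subgroup.normalClosure, Subgroup.closure_le]
  intro z hz
  obtain ⟨z₀, hz₀, hconj⟩ := Group.mem_conjugatesOfSet_iff.1 hz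
  rw [Set.mem_singleton_iff.1 hz₀] at hconj
  obtain ⟨g, rfl⟩ := isConj_iff.1 hconj
  obtain ⟨y, hy, b, hb, rfl⟩ := Subgroup.mem_sup_of_normal_left.1
    ((derived_sup hS h1 hA).ge (Subgroup.mem_top g))
  show y * b * a * (y * b)⁻¹ ∈ M
  rw [show y * b * a * (y * b)⁻¹ = y * (b * a * b⁻¹) * y⁻¹ by group,
    IsRootSubgroupSet.commute hS hA hb ha, mul_inv_cancel_right]
  exact hM y hy a haM

/-- A non-commuting pair of members with commutators in `M` gives a member meeting `M`. -/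
theorem meets_of_pair {M : Subgroup G} (hM : ∀ x ∈ commutator G, ∀ m ∈ M, x * m * x⁻¹ ∈ M)
    {P Q : Subgroup G} (hP : P ∈ S) (hQ : Q ∈ S) (hne : ⁅P, Q⁆ ≠ ⊥)
    (hcom : ∀ p ∈ P, p ∈ commutator G → ∀ q ∈ Q, q ∈ commutator G → ⁅p, q⁆ ∈ M) :
    ∃ E ∈ S, ∃ e ∈ E, e ≠ 1 ∧ e ∈ M := by
  rcases hS.pair P hP Q hQ with h | h | h
  · exact absurd h hne
  swap
  · have htop := derived_eq_top_of_case hS h1 h
    obtain ⟨p, hp, hp1⟩ := exists_mem_ne_one (hS.ne_bot P hP)
    obtain ⟨q, hq, hpq⟩ := RootCommutatorCase.not_centralize hS h hp hp1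
    exact ⟨_, h.1, ⁅p, q⁆, Subgroup.commutator_mem_commutator hp hq,
      fun e => hpq (commutatorElement_eq_one_iff_mul_comm.1 e),
      hcom p hp (htop.ge (Subgroup.mem_top p)) q hq (htop.ge (Subgroup.mem_top q))⟩
  have hs := h4 P hP Q ⟨hQ, h⟩
  rcases degenerate_or_top hS h1 h3 h4 with hd | htop
  · obtain ⟨p, hp, hpL, hp1⟩ := exists_local_derived hs (hS.commutative P hP)
      (hS.commutative Q hQ) (h3 hd P hP)
    obtain ⟨x, hx, e⟩ := RankOne.right_mem h
    set q := x * p * x⁻¹ with hq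
    have hqQ : q ∈ Q := e ▸ conj_mem_conjBy x hp
    have hqL : q ∈ ⁅P ⊔ Q, P ⊔ Q⁆ := by
      have h' : ⁅P ⊔ Q, P ⊔ Q⁆.map (MulAut.conj x).toMonoidHom = ⁅P ⊔ Q, P ⊔ Q⁆ := by
        rw [Subgroup.map_commutator]
        exact congrArg₂ _ (conjBy_eq_self_of_mem hx) (conjBy_eq_self_of_mem hx)
      exact h' ▸ ⟨p, hpL, rfl⟩
    have hq1 : q ≠ 1 := fun e => hp1 (conj_eq_one_iff.1 e)
    have hle : ⁅P ⊔ Q, P ⊔ Q⁆ ≤ commutator G := Subgroup.commutator_mono le_top le_top
    refine ⟨P, hP, p, hp, hp1, local_derived_le hs (hS.commutative P hP) (hS.commutative Q hQ) hp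
      hpL hp1 (fun x hx m hm => hM x (hle hx) m hm) (hcom p hp (hle hpL) q hqQ (hle hqL))
      (Subgroup.commutator_mem_commutator (Subgroup.mem_sup_left hp)
        (Subgroup.mem_sup_right hqQ)) hqQ ?_ hpL⟩
    intro hc
    have hne' : conjBy Q p ≠ Q := fun e => hp1 (RankOne.eq_one_of_conjBy_eq h hp e)
    refine RankOne.not_commute_points h
      (RankOne.conj_mem (RankOne.right_mem h) (Subgroup.mem_sup_left hp)) (RankOne.right_mem h)
      hne' (conj_mem_conjBy p hqQ) (fun e => hq1 (conj_eq_one_iff.1 e)) hqQ hq1 ?_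
    calc p * q * p⁻¹ * q = ⁅p, q⁆ * q * q := by rw [commutatorElement_def]; group
      _ = q * ⁅p, q⁆ * q := by rw [hc]
      _ = q * (p * q * p⁻¹) := by rw [commutatorElement_def]; group
  · by_cases hd : IsDegenerateRootSet S
    · -- a degenerate class with `G' = G`
      obtain ⟨p, hp, hpL, hp1⟩ := exists_local_derived hs (hS.commutative P hP)
        (hS.commutative Q hQ) (h3 hd P hP)
      haveI hMn : M.Normal := ⟨fun m hm x => hM x (htop.ge (Subgroup.mem_top x)) m hm⟩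
      have hcent : ⁅P ⊔ Q, P ⊔ Q⁆ ≤ M := commutator_le_of_commutator_le hMn
        (hS.commutative P hP) (hS.commutative Q hQ) fun a ha b hb =>
          hcom a ha (htop.ge (Subgroup.mem_top a)) b hb (htop.ge (Subgroup.mem_top b))
      exact ⟨P, hP, p, hp, hp1, hcent hpL⟩
    simp only [IsDegenerateRootSet] at hd
    push Not at hd
    obtain ⟨C₀, hC₀, D, hD, hcase⟩ := hd
    obtain ⟨g, hg⟩ := exists_conj h1 hC₀ hP
    have hcase' : ⁅P, conjBy D g⁆ ∈ S := by
      rw [hg, commutator_conjBy]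
      exact hS.conj_mem _ hcase.1 g
    obtain ⟨C, -, hPC, hQC⟩ :=
      exists_case_partner hS h1 hP hQ h hcase' (hS.conj_mem D hD g)
    haveI hMn : M.Normal := ⟨fun m hm x => hM x (htop.ge (Subgroup.mem_top x)) m hm⟩
    have hcent : ⁅P ⊔ Q, P ⊔ Q⁆ ≤ M := commutator_le_of_commutator_le hMn
      (hS.commutative P hP) (hS.commutative Q hQ) fun a ha b hb =>
        hcom a ha (htop.ge (Subgroup.mem_top a)) b hb (htop.ge (Subgroup.mem_top b))
    obtain ⟨q, hq, hq1⟩ := exists_mem_ne_one (hS.ne_bot Q hQ)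
    obtain ⟨c, hc, hqc⟩ := RootCommutatorCase.not_centralize hS hQC hq hq1
    obtain ⟨x, hx, e⟩ := RankOne.right_mem h
    obtain ⟨p, hp, ev⟩ := (e.le hq : q ∈ conjBy P x)
    have hmem : q * p⁻¹ ∈ M := by
      rw [← ev]
      exact hcent (Subgroup.commutator_mem_commutator hx (Subgroup.mem_sup_left hp))
    refine ⟨_, hQC.1, ⁅q, c⁆, Subgroup.commutator_mem_commutator hq hc,
      fun e => hqc (commutatorElement_eq_one_iff_mul_comm.1 e), ?_⟩
    rw [show ⁅q, c⁆ = (q * p⁻¹) * ⁅p, c⁆ * (c * (q * p⁻¹)⁻¹ * c⁻¹) by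
        simp only [commutatorElement_def]; group,
      commutatorElement_eq_one_iff_mul_comm.2 (commute_of_commutator_eq_bot hPC hp hc), mul_one]
    exact mul_mem hmem (hMn.conj_mem _ (inv_mem hmem) c)
where
  exists_case_partner (hS : IsRootSubgroupSet S) (h1 : IsConnectedFamily (FAdj S) S)
      {P Q E : Subgroup G} (hP : P ∈ S) (hQ : Q ∈ S) (h : IsRankOnePair P Q)
      (hcase : ⁅P, E⁆ ∈ S) (hE : E ∈ S) :
      ∃ C ∈ S, ⁅P, C⁆ = ⊥ ∧ RootCommutatorCase S Q C := by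
    have hPn := not_isolated_of_pair hP hQ h
    have hc := rootCommutatorCase_of_mem hS hP hE hcase
    have hK := RootSpecial.mem_linePartners_of_line hS hP hPn hE hc ⟨hc.1, le_sup_right⟩
      (RootCommutatorCase.ne_left hS hc).symm
    obtain ⟨F, hF, hne, hQF⟩ := RootSpecial.exists_in_line hS hP hQ h hK
    refine ⟨F, hF.1, Subgroup.commutator_eq_bot_iff_le_centralizer.2 fun x hx =>
      Subgroup.mem_centralizer_iff.2 fun y hy => ?_, hQF⟩
    have hle : P ⊔ ⁅P, E⁆ ≤ Subgroup.centralizer (P : Set G) := sup_le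
      (fun z hz => Subgroup.mem_centralizer_iff.2 fun w hw =>
        IsRootSubgroupSet.commute hS hP hw hz)
      fun z hz => Subgroup.mem_centralizer_iff.2 fun w hw =>
        RootCommutatorCase.commute_left hc hw hz
    exact (Subgroup.mem_centralizer_iff.1 (hle (hF.2 hy)) x hx).symm

theorem meets_of_moves (h2' : ∀ A ∈ S, ∀ C ∈ S, A ≠ C →
      centralizingMembers S A ≠ centralizingMembers S C) {M : Subgroup G}
    (hM : ∀ x ∈ commutator G, ∀ m ∈ M, x * m * x⁻¹ ∈ M) {A : Subgroup G} (hA : A ∈ S) {m : G}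
    (hm : m ∈ M) (hne : conjBy A m ≠ A) : ∃ E ∈ S, ∃ e ∈ E, e ≠ 1 ∧ e ∈ M := by
  have hA' := hS.conj_mem A hA m
  by_cases hc : ⁅A, conjBy A m⁆ = ⊥
  swap
  · refine meets_of_pair hS h2 h1 h3 h4 hM hA hA' hc fun a ha haG a' ha' ha'G => ?_
    obtain ⟨b, hb, rfl⟩ := ha'
    have hbG : b ∈ commutator G := by
      have := (inferInstance : (commutator G).Normal).conj_mem _ ha'G m⁻¹
      simpa [mul_assoc] using this
    show ⁅a, m * b * m⁻¹⁆ ∈ M
    have hab := IsRootSubgroupSet.commute hS hA ha hb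
    have e : ⁅a, m * b * m⁻¹⁆ =
        a * m * a⁻¹ * (a * b * m⁻¹ * (a * b)⁻¹) * (b * m * b⁻¹) * m⁻¹ := by
      calc ⁅a, m * b * m⁻¹⁆ = a * m * b * m⁻¹ * a⁻¹ * m * b⁻¹ * m⁻¹ := by
            rw [commutatorElement_def]; group
        _ = a * m * b * m⁻¹ * ((a * b)⁻¹ * b) * m * b⁻¹ * m⁻¹ := by
            rw [hab]; group
        _ = a * m * a⁻¹ * (a * b * m⁻¹ * (a * b)⁻¹) * (b * m * b⁻¹) * m⁻¹ := by group
    rw [e]
    exact mul_mem (mul_mem (mul_mem (hM a haG m hm) (hM _ (mul_mem haG hbG) _ (inv_mem hm)))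
      (hM b hbG m hm)) (inv_mem hm)
  -- the commuting case
  have main : ∀ n ∈ M, ∀ B ∈ S, B ≤ Subgroup.centralizer (A : Set G) →
      ¬ B ≤ Subgroup.centralizer ((conjBy A n : Subgroup G) : Set G) →
      ∃ E ∈ S, ∃ e ∈ E, e ≠ 1 ∧ e ∈ M := by
    intro n hn B hB hBA hBA'
    refine meets_of_pair hS h2 h1 h3 h4 hM (hS.conj_mem A hA n) hB
      (fun e => hBA' (Subgroup.commutator_eq_bot_iff_le_centralizer.1
        ((Subgroup.commutator_comm B (conjBy A n)).trans e))) fun a' ha' ha'G q hq hqG => ?_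
    obtain ⟨b, hb, rfl⟩ := ha'
    have hbG : b ∈ commutator G := by
      have := (inferInstance : (commutator G).Normal).conj_mem _ ha'G n⁻¹
      simpa [mul_assoc] using this
    show ⁅n * b * n⁻¹, q⁆ ∈ M
    have hbq : b * q = q * b := Subgroup.mem_centralizer_iff.1 (hBA hq) b hb
    have e : ⁅n * b * n⁻¹, q⁆ =
        n * (b * n⁻¹ * b⁻¹) * (b * q * n * (b * q)⁻¹) * (q * n⁻¹ * q⁻¹) := by
      calc ⁅n * b * n⁻¹, q⁆ = n * b * n⁻¹ * q * n * b⁻¹ * n⁻¹ * q⁻¹ := by
            rw [commutatorElement_def]; group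
        _ = n * b * n⁻¹ * q * n * ((b * q)⁻¹ * q) * n⁻¹ * q⁻¹ := by rw [hbq]; group
        _ = n * (b * n⁻¹ * b⁻¹) * (b * q * n * (b * q)⁻¹) * (q * n⁻¹ * q⁻¹) := by group
    rw [e]
    exact mul_mem (mul_mem (mul_mem hn (hM b hbG _ (inv_mem hn)))
      (hM _ (mul_mem hbG hqG) n hn)) (hM q hqG _ (inv_mem hn))
  obtain ⟨B, hB⟩ : ∃ B, ¬ (B ∈ centralizingMembers S A ↔
      B ∈ centralizingMembers S (conjBy A m)) := by
    by_contra! hcon
    exact h2' A hA _ hA' (Ne.symm hne) (Set.ext hcon)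
  by_cases hBA : B ∈ centralizingMembers S A
  · exact main m hm B hBA.1 hBA.2 fun h => hB ⟨fun _ => ⟨hBA.1, h⟩, fun _ => hBA⟩
  · have hBA' : B ∈ centralizingMembers S (conjBy A m) := by
      by_contra h
      exact hB ⟨fun h' => absurd h' hBA, fun h' => absurd h' h⟩
    have hcb : ⁅conjBy B m⁻¹, A⁆ = conjBy ⁅B, conjBy A m⁆ m⁻¹ := by
      rw [← commutator_conjBy, conjBy_conjBy A, inv_mul_cancel, conjBy_one]
    refine main m⁻¹ (inv_mem hm) (conjBy B m⁻¹) (hS.conj_mem B hBA'.1 _)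
      (Subgroup.commutator_eq_bot_iff_le_centralizer.1 ?_) fun h => hBA ⟨hBA'.1, ?_⟩
    · rw [hcb, Subgroup.commutator_eq_bot_iff_le_centralizer.2 hBA'.2]
      exact Subgroup.map_bot _
    · refine Subgroup.commutator_eq_bot_iff_le_centralizer.1 (conjBy_injective m⁻¹ ?_)
      show conjBy ⁅B, A⁆ m⁻¹ = conjBy ⊥ m⁻¹
      rw [← commutator_conjBy, Subgroup.commutator_eq_bot_iff_le_centralizer.2 h]
      exact (Subgroup.map_bot _).symm

theorem isQuasisimple_derived (h2' : ∀ A ∈ S, ∀ C ∈ S, A ≠ C →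
      centralizingMembers S A ≠ centralizingMembers S C) :
    Cfsg.IsQuasisimple ↥(commutator G) := by
  have hp : Group.IsPerfect ↥(commutator G) :=
    Subgroup.isPerfect_iff.2 (derived_perfect hS h2 h1 h3 h4)
  obtain ⟨A, hA, -⟩ := id h2
  obtain ⟨a₀, ha₀, ha₀G, ha₀1⟩ := meets_derived hS h2 h1 h3 h4 hA
  haveI : Nontrivial ↥(commutator G) :=
    (Subgroup.nontrivial_iff_exists_ne_one _).2 ⟨a₀, ha₀G, ha₀1⟩
  refine Grp.isQuasisimple_of hp fun N hN => ?_
  set M := N.map (commutator G).subtype with hMdef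
  have hM : ∀ x ∈ commutator G, ∀ m ∈ M, x * m * x⁻¹ ∈ M := by
    rintro x hx _ ⟨k, hk, rfl⟩
    exact ⟨⟨x, hx⟩ * k * ⟨x, hx⟩⁻¹, hN.conj_mem k hk _, rfl⟩
  by_cases hmeet : ∃ E ∈ S, ∃ e ∈ E, e ≠ 1 ∧ e ∈ M
  · obtain ⟨E, hE, e, he, he1, heM⟩ := hmeet
    left
    refine top_le_iff.1 fun y _ => ?_
    obtain ⟨k, hk, ek⟩ := eq_derived_of_meets hS h2 h1 hM hE he he1 heM y.2
    exact Subtype.ext ek ▸ hk
  right
  intro n hn
  refine Subgroup.mem_center_iff.2 fun y => Subtype.ext ?_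
  have hcent : commutator G ≤ Subgroup.centralizer {(n : G)} := by
    refine le_trans (derived_le_of_meets hS h1 (N := Subgroup.normalClosure {a₀}) inferInstance
      hA ha₀ ha₀1 (Subgroup.subset_normalClosure rfl)) ?_
    rw [Subgroup.normalClosure, Subgroup.closure_le]
    intro z hz
    obtain ⟨z₀, hz₀, hconj⟩ := Group.mem_conjugatesOfSet_iff.1 hz
    rw [Set.mem_singleton_iff.1 hz₀] at hconj
    obtain ⟨g, rfl⟩ := isConj_iff.1 hconj
    have hnM : (n : G) ∈ M := ⟨n, hn, rfl⟩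
    have hE := hS.conj_mem A hA g
    have hfix : conjBy (conjBy A g) n = conjBy A g := by
      by_contra hne
      exact hmeet (meets_of_moves hS h2 h1 h3 h4 h2' hM hE hnM hne)
    have hzG : g * a₀ * g⁻¹ ∈ commutator G :=
      (inferInstance : (commutator G).Normal).conj_mem a₀ ha₀G g
    have hzE : g * a₀ * g⁻¹ ∈ conjBy A g := conj_mem_conjBy g ha₀
    refine Subgroup.mem_centralizer_singleton_iff.2 ?_
    by_contra hne
    refine hmeet ⟨_, hE, ⁅(n : G), g * a₀ * g⁻¹⁆, ?_,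
      fun e => hne (commutatorElement_eq_one_iff_mul_comm.1 e).symm, ?_⟩
    · rw [commutatorElement_def]
      exact mul_mem (hfix.le (conj_mem_conjBy _ hzE)) (inv_mem hzE)
    · rw [commutatorElement_def, mul_assoc (n : G), mul_assoc (n : G)]
      exact mul_mem hnM (hM _ hzG _ (inv_mem hnM))
  exact Subgroup.mem_centralizer_singleton_iff.1 (hcent y.2)

/-- The structure theorem. -/
theorem structure_theorem (h2' : ∀ A ∈ S, ∀ C ∈ S, A ≠ C →
      centralizingMembers S A ≠ centralizingMembers S C) :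
    (∀ A ∈ S, commutator G ⊔ A = ⊤ ∧ A ⊓ commutator G ≠ ⊥) ∧
      Cfsg.IsQuasisimple ↥(commutator G) ∧
      (IsNondegenerateRootSet S → commutator G = ⊤) ∧
      ((∃ A ∈ S, ∃ B ∈ rankOnePartners S A, Group.IsPerfect ↥(A ⊔ B)) → commutator G = ⊤) := by
  refine ⟨fun A hA => ⟨derived_sup hS h1 hA, fun e => ?_⟩,
    isQuasisimple_derived hS h2 h1 h3 h4 h2', fun hnd => ?_, ?_⟩
  · obtain ⟨a, ha, haG, ha1⟩ := meets_derived hS h2 h1 h3 h4 hA
    exact ha1 (Subgroup.mem_bot.1 (e ▸ ⟨ha, haG⟩))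
  · obtain ⟨P, -, Q, -, hc⟩ := hnd.2.2
    exact derived_eq_top_of_case hS h1 hc
  · rintro ⟨A, hA, B, hB, hp⟩
    refine derived_eq_top hS h1 hA ((le_sup_left : A ≤ A ⊔ B).trans ?_)
    rw [← Subgroup.isPerfect_iff.1 hp]
    exact Subgroup.commutator_mono le_top le_top

end

end Cfsg.Agent.Fus.RootQuasi
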