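import Mathlib
import Cfsg.Prelude.Def_RootSubgroups
import Cfsg.Agent.Lib.Fus.QuadPairClassTwo
import Cfsg.Agent.Lib.Fus.RootQuasi
import Cfsg.Agent.Lib.Fus.RootClassSpecial

/-!
The root groups of a quadratic pair form a set of abstract root subgroups.
-/

set_option autoImplicit false
set_option linter.unusedSectionVars false

open scoped commutatorElement

namespace Cfsg.Agent.Fus.QPair

open Cfsg.Agent.Fus.RingSL

universe u

variable {k : Type u} [Field k] {M : Type u} [AddCommGroup M] [Module k M] [FiniteDimensional k M]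
  {G : Subgroup (LinearMap.GeneralLinearGroup k M)} {σ τ : LinearMap.GeneralLinearGroup k M}

local notation "End'" => Module.End k M
local notation "GLM" => LinearMap.GeneralLinearGroup k M

omit [FiniteDimensional k M] in
theorem root_ne_bot (hσ : σ ∈ Cfsg.minimalQuadraticElements G) : Cfsg.sameActionSubgroup G σ ≠ ⊥ := fun e =>
  hσ.1.2.1.2 (by
    have h := Subgroup.subset_closure (self_mem_class hσ)
    rw [← Cfsg.sameActionSubgroup, e] at h
    rw [(Subgroup.mem_bot.1 h : σ = 1), Units.val_one, sub_self])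

/-- The upper elements of the model belong to the class of `σ`. -/
theorem phi_up_class {s t E : End'} {q : Polynomial k} (hk2 : ringChar k ≠ 2) (hk3 : Nat.card k ≠ 3)
    (hs : s * s = 0) (ht : t * t = 0) (h : IsSplit (zz s t) E q) (hσ : σ ∈ Cfsg.minimalQuadraticElements G)
    (hss : (σ : End') - 1 = s) (hEs : E * s = s) (hG : famGroup s t ≤ G) (u : (AdjoinRoot q)ˣ) :
    phi hs ht h (up (u : AdjoinRoot q)) ∈ Cfsg.sameActionClass G σ := by
  have e : ((phi hs ht h (up (u : AdjoinRoot q)) : GLM) : End') - 1 = emb (zz s t) E (u : AdjoinRoot q) * s := by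
    rw [phi_up hs ht h, add_sub_cancel_left]
  have cu : ∀ r, emb (zz s t) E r * s = s * emb (zz s t) E r := fun r => (emb_comm h (zz_comm_left hs) r).eq
  have hinv : emb (zz s t) E ((u⁻¹ : (AdjoinRoot q)ˣ) : AdjoinRoot q) * (emb (zz s t) E (u : AdjoinRoot q) * s) = s := by
    rw [← mul_assoc, ← emb_mul h, Units.inv_mul, emb_one h, hEs]
  have hinv' : emb (zz s t) E (u : AdjoinRoot q) * (s * emb (zz s t) E ((u⁻¹ : (AdjoinRoot q)ˣ) : AdjoinRoot q)) = s := by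
    rw [← cu, ← mul_assoc, ← emb_mul h, Units.mul_inv, emb_one h, hEs]
  have hk : LinearMap.ker ((phi hs ht h (up (u : AdjoinRoot q)) : End') - 1) = LinearMap.ker s := by
    rw [e]
    refine le_antisymm (fun v hv => ?_) fun v hv => ?_
    · rw [LinearMap.mem_ker] at hv ⊢
      have := LinearMap.congr_fun hinv v
      rw [Module.End.mul_apply, hv, map_zero] at this
      exact this.symm
    · rw [LinearMap.mem_ker] at hv ⊢
      rw [Module.End.mul_apply, hv, map_zero]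
  have hr : LinearMap.range ((phi hs ht h (up (u : AdjoinRoot q)) : End') - 1) = LinearMap.range s := by
    rw [e]
    refine le_antisymm ?_ ?_
    · rintro _ ⟨m, rfl⟩
      exact ⟨emb (zz s t) E (u : AdjoinRoot q) m, by rw [cu]; rfl⟩
    · rintro _ ⟨m, rfl⟩
      exact ⟨emb (zz s t) E ((u⁻¹ : (AdjoinRoot q)ˣ) : AdjoinRoot q) m, LinearMap.congr_fun hinv' m⟩
  have h1 : (1 : AdjoinRoot q) ≠ 0 := fun e' => h.q_deg (isUnit_of_dvd_one (AdjoinRoot.mk_eq_zero.1
    (by rw [map_one]; exact e')))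
  have hu0 : (u : AdjoinRoot q) ≠ 0 := fun e' => h1 (by rw [← u.inv_mul, e', mul_zero])
  obtain ⟨hq, hrk⟩ := phi_up_quadratic hs ht h hk2 hk3 hG hu0
  refine ⟨⟨hq, fun ρ hρ => le_trans (le_of_eq ?_) (hσ.2 ρ hρ)⟩, by rw [hss]; exact hk, by rw [hss]; exact hr⟩
  unfold Cfsg.commutatorRank
  rw [hr, hss]

variable (hk2 : ringChar k ≠ 2) (hk3 : Nat.card k ≠ 3)

include hk2 hk3

/-- Opposite root groups contain the two unipotent groups of an `SL(2)` over a field. -/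
theorem exists_subPair (hσ : σ ∈ Cfsg.minimalQuadraticElements G) (hτ : τ ∈ Cfsg.minimalQuadraticElements G)
    (hop : Opposite σ τ) :
    ∃ A₀ B₀ : Subgroup GLM, A₀ ≤ Cfsg.sameActionSubgroup G σ ∧ B₀ ≤ Cfsg.sameActionSubgroup G τ ∧
      ∃ (k₁ : Type u) (_ : Field k₁), 3 < ENat.card k₁ ∧ Cfsg.IsPSL2PairOver k₁ A₀ B₀ := by
  have hs := hσ.1.2.1.1
  have ht := hτ.1.2.1.1
  obtain ⟨E, q, h, hirr, hEs, hEt⟩ :=
    exists_field hk2 hk3 hσ hτ (not_isNilpotent_of_opposite hs ht hσ.1.2.1.2 hop)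
  have : Fact (Irreducible q) := ⟨hirr⟩
  have hG : famGroup ((σ : End') - 1) ((τ : End') - 1) ≤ G :=
    (famGroup_le hσ hτ).trans (sup_le subgroup_le subgroup_le)
  obtain ⟨φ, hφ⟩ : ∃ φ, φ = phi hs ht h := ⟨_, rfl⟩
  refine ⟨(Cfsg.upperUnipotentSL2 (AdjoinRoot q)).map φ, (Cfsg.lowerUnipotentSL2 (AdjoinRoot q)).map φ, ?_, ?_,
    AdjoinRoot q, inferInstance, ?_, φ, ?_, ?_, rfl, rfl⟩
  · rintro _ ⟨g, hg, rfl⟩
    obtain ⟨c, rfl⟩ := (RootClassSpecial.mem_upper).1 hg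
    by_cases hc : c = 0
    · rw [hc, show RootClassSpecial.upMat (0 : AdjoinRoot q) = 1 from Subtype.ext Matrix.one_fin_two.symm, map_one]
      exact one_mem _
    · have e : RootClassSpecial.upMat c = up c := Subtype.ext rfl
      rw [e, hφ]
      exact Subgroup.subset_closure (phi_up_class hk2 hk3 hs ht h hσ rfl hEs hG (Ne.isUnit hc).unit)
  · rintro _ ⟨g, hg, rfl⟩
    obtain ⟨c, rfl⟩ := (RootClassSpecial.mem_lower).1 hg
    by_cases hc : c = 0
    · rw [hc, show RootClassSpecial.lowMat (0 : AdjoinRoot q) = 1 from Subtype.ext Matrix.one_fin_two.symm, map_one]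
      exact one_mem _
    · have e : RootClassSpecial.lowMat c = low c := Subtype.ext rfl
      rw [e, hφ]
      exact Subgroup.subset_closure (phi_low_class hk2 hk3 hs ht h hτ rfl hEt hG (Ne.isUnit hc).unit)
  · have hle : ENat.card k ≤ ENat.card (AdjoinRoot q) :=
      ENat.card_le_card_of_injective (algebraMap k (AdjoinRoot q)).injective
    refine lt_of_lt_of_le ?_ hle
    rcases finite_or_infinite k with hf | hf
    · have : Fintype k := Fintype.ofFinite k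
      rw [ENat.card_eq_coe_fintype_card]
      rw [Nat.card_eq_fintype_card] at hk3
      have h1 : 1 < Fintype.card k := Fintype.one_lt_card
      have h2 : Fintype.card k ≠ 2 := by
        intro h2
        refine hk2 ?_
        have : Fact (Nat.Prime 2) := ⟨Nat.prime_two⟩
        have := ringChar.charP k
        obtain ⟨n, hp, hn⟩ := FiniteField.card k (ringChar k)
        rw [h2] at hn
        exact Nat.prime_dvd_prime_iff_eq hp Nat.prime_two |>.1 (hn ▸ dvd_pow_self _ n.ne_zero)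
      exact_mod_cast (by omega : 3 < Fintype.card k)
    · rw [ENat.card_eq_top_of_infinite]
      exact ENat.natCast_lt_top 3
  · rw [← Subgroup.map_sup, MonoidHom.range_eq_map]
    refine congrArg _ (AdjoinSL.eq_top_of_up_low (fun a => ?_) fun a => ?_).symm
    · exact Subgroup.mem_sup_left (RootClassSpecial.mem_upper.2 ⟨a, Subtype.ext rfl⟩)
    · exact Subgroup.mem_sup_right (RootClassSpecial.mem_lower.2 ⟨a, Subtype.ext rfl⟩)
  · rw [hφ, (MonoidHom.ker_eq_bot_iff _).2 (phi_injective hs ht h)]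
    exact bot_le

variable (hG : UnipFree G)

include hG

theorem commutative (hσ : σ ∈ Cfsg.minimalQuadraticElements G) : IsMulCommutative (Cfsg.sameActionSubgroup G σ) :=
  (class_spec hσ).2

/-- A rank one pair of root groups comes from opposite elements. -/
theorem opposite_of_rankOne (hσ : σ ∈ Cfsg.minimalQuadraticElements G) (hτ : τ ∈ Cfsg.minimalQuadraticElements G)
    (h : Cfsg.IsRankOnePair (Cfsg.sameActionSubgroup G σ) (Cfsg.sameActionSubgroup G τ)) : Opposite σ τ := by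
  by_contra hnop
  obtain ⟨A, hA⟩ : ∃ A, A = Cfsg.sameActionSubgroup G σ := ⟨_, rfl⟩
  obtain ⟨B, hB⟩ : ∃ B, B = Cfsg.sameActionSubgroup G τ := ⟨_, rfl⟩
  obtain ⟨X, hX⟩ : ∃ X, X = A ⊔ B := ⟨_, rfl⟩
  have hcen : ⁅⁅X, X⁆, X⁆ = ⊥ := by
    by_cases hc : ⁅Cfsg.sameActionSubgroup G σ, Cfsg.sameActionSubgroup G τ⁆ = ⊥
    · rw [hX, hA, hB, sup_eq_bot_of_comm (commutative hk2 hk3 hG hσ) (commutative hk2 hk3 hG hτ) hc,
        Subgroup.commutator_bot_left]
    · exact (class_two_group hk2 hk3 hG hσ hτ hnop hc hA hB hX).2.2.2.2.1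
  rw [← hA, ← hB] at h
  have hσA : σ ∈ A := hA ▸ Subgroup.subset_closure (self_mem_class hσ)
  have hτB : τ ∈ B := hB ▸ Subgroup.subset_closure (self_mem_class hτ)
  have hσ1 : σ ≠ 1 := fun h => hσ.1.2.1.2 (by rw [h, Units.val_one, sub_self])
  have hτ1 : τ ≠ 1 := fun h => hτ.1.2.1.2 (by rw [h, Units.val_one, sub_self])
  have hBc : ∀ x ∈ B, ∀ y ∈ B, x * y = y * x := fun x hx y hy =>
    congrArg Subtype.val ((show IsMulCommutative B from hB ▸ commutative hk2 hk3 hG hτ).is_comm.comm ⟨x, hx⟩ ⟨y, hy⟩)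
  obtain ⟨b, hb, -, he⟩ := h.cond_left σ hσA hσ1
  obtain ⟨g, hg⟩ : ∃ g : GLM, g = σ * b⁻¹ := ⟨_, rfl⟩
  have hgB : g * σ * g⁻¹ ∈ B := by
    have h2 : b⁻¹ * σ * b ∈ Cfsg.conjBy B σ⁻¹ := by
      rw [← he]; exact ⟨σ, hσA, by simp⟩
    obtain ⟨x, hx, hxe⟩ := h2
    have hxe' : σ⁻¹ * x * σ = b⁻¹ * σ * b := by simpa using hxe
    rw [show g * σ * g⁻¹ = σ * (b⁻¹ * σ * b) * σ⁻¹ by rw [hg]; group, ← hxe']
    simpa [mul_assoc] using hx
  have hAX : A ≤ X := hX ▸ le_sup_left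
  have hBX : B ≤ X := hX ▸ le_sup_right
  have hgX : g ∈ X := hg ▸ mul_mem (hAX hσA) (inv_mem (hBX hb))
  have hc1 : ⁅g, σ⁆ * τ = τ * ⁅g, σ⁆ := by
    rw [← commutatorElement_eq_one_iff_mul_comm, ← Subgroup.mem_bot, ← hcen]
    exact Subgroup.commutator_mem_commutator (Subgroup.commutator_mem_commutator hgX (hAX hσA)) (hBX hτB)
  have hc2 : σ * τ = τ * σ := by
    have e : σ = ⁅g, σ⁆⁻¹ * (g * σ * g⁻¹) := by rw [commutatorElement_def]; group
    have c2 : Commute (g * σ * g⁻¹) τ := hBc _ hgB _ hτB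
    have c1 : Commute ⁅g, σ⁆⁻¹ τ := Commute.inv_left hc1
    exact e ▸ (c1.mul_left c2).eq
  have hbot := commutator_eq_bot hk2 hk3 hG hσ hτ
    (Or.inl ⟨σ, hA ▸ hσA, hσ1, τ, hB ▸ hτB, hτ1, hc2⟩)
  refine h.ne ?_
  have hab : ∀ x ∈ X, ∀ y ∈ X, x * y = y * x := by
    intro x hx y hy
    have hb' := sup_eq_bot_of_comm (commutative hk2 hk3 hG hσ) (commutative hk2 hk3 hG hτ) hbot
    rw [← hA, ← hB, ← hX] at hb'
    rw [← commutatorElement_eq_one_iff_mul_comm, ← Subgroup.mem_bot, ← hb']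
    exact Subgroup.commutator_mem_commutator hx hy
  have hfix : ∀ (Y : Subgroup GLM) (x : GLM), Y ≤ X → x ∈ X → Cfsg.conjBy Y x = Y := by
    intro Y x hY hx
    refine le_antisymm ?_ fun y hy => ⟨y, hy, ?_⟩
    · rintro _ ⟨y, hy, rfl⟩
      show x * y * x⁻¹ ∈ Y
      rw [hab x hx y (hY hy), mul_inv_cancel_right]; exact hy
    · show x * y * x⁻¹ = y
      rw [hab x hx y (hY hy), mul_inv_cancel_right]
  rw [hfix A b⁻¹ hAX (inv_mem (hBX hb)), hfix B σ⁻¹ hBX (inv_mem (hAX hσA))] at he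
  exact he

/-- The three cases for two root groups. -/
theorem trichotomy (hσ : σ ∈ Cfsg.minimalQuadraticElements G) (hτ : τ ∈ Cfsg.minimalQuadraticElements G) :
    ⁅Cfsg.sameActionSubgroup G σ, Cfsg.sameActionSubgroup G τ⁆ = ⊥ ∨
      Cfsg.IsSpecialRankOnePair (Cfsg.sameActionSubgroup G σ) (Cfsg.sameActionSubgroup G τ) ∨
      Cfsg.RootCommutatorCase (Cfsg.quadraticRootSubgroups G) (Cfsg.sameActionSubgroup G σ)
        (Cfsg.sameActionSubgroup G τ) := by
  by_cases hop : Opposite σ τ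
  · exact Or.inr (Or.inl (isSpecialRankOnePair hk2 hk3 hG hσ hτ hop))
  by_cases hc : ⁅Cfsg.sameActionSubgroup G σ, Cfsg.sameActionSubgroup G τ⁆ = ⊥
  · exact Or.inl hc
  obtain ⟨h1, h2, h3, -, h4, -⟩ := class_two_group hk2 hk3 hG hσ hτ hop hc rfl rfl rfl
  refine Or.inr (Or.inr ⟨h1, fun c hc' x hx => ?_, h2, h3⟩)
  rw [← commutatorElement_eq_one_iff_mul_comm, ← Subgroup.mem_bot, ← h4]
  exact Subgroup.commutator_mem_commutator (Subgroup.commutator_mono le_sup_left le_sup_right hc') hx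

theorem not_isolated (hσ : σ ∈ Cfsg.minimalQuadraticElements G) :
    ∃ B, Cfsg.FAdj (Cfsg.quadraticRootSubgroups G) (Cfsg.sameActionSubgroup G σ) B := by
  obtain ⟨g, -, hm, hop⟩ := exists_opposite hk2 hk3 hG hσ
  exact ⟨_, ⟨σ, hσ, rfl⟩, ⟨_, hm, rfl⟩, (isSpecialRankOnePair hk2 hk3 hG hσ hm hop).1⟩

omit [FiniteDimensional k M] hk2 hk3 hG in
theorem rankOnePair_subgroupOf {H P Q : Subgroup GLM} (hP : P ≤ H) (hQ : Q ≤ H) (h : Cfsg.IsRankOnePair P Q) :
    Cfsg.IsRankOnePair (P.subgroupOf H) (Q.subgroupOf H) := by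
  have mP : (P.subgroupOf H).map H.subtype = P := by rw [Subgroup.subgroupOf_map_subtype, inf_eq_left.2 hP]
  have mQ : (Q.subgroupOf H).map H.subtype = Q := by rw [Subgroup.subgroupOf_map_subtype, inf_eq_left.2 hQ]
  have hinj := Subgroup.map_injective H.subtype_injective
  have hpull : ∀ {R T : Subgroup H} {R₀ T₀ : Subgroup GLM}, R.map H.subtype = R₀ → T.map H.subtype = T₀ →
      Cfsg.RankOneCondition R₀ T₀ → Cfsg.RankOneCondition R T := by
    intro R T R₀ T₀ hR hT hc x hx hx1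
    obtain ⟨y, hy, hy1, e⟩ := hc x (hR ▸ Subgroup.mem_map_of_mem _ hx) fun h => hx1 (Subtype.ext h)
    rw [← hT] at hy
    obtain ⟨y', hy', rfl⟩ := hy
    refine ⟨y', hy', fun h => hy1 (by rw [h, map_one]), hinj ?_⟩
    rw [map_conjBy, map_conjBy, hR, hT, map_inv, map_inv]
    exact e
  have := h.nilpotent_left
  have := h.nilpotent_right
  exact ⟨fun e => h.ne (by rw [← mP, e, mQ]),
    Group.nilpotent_of_mulEquiv (Subgroup.subgroupOfEquivOfLe hP).symm,
    Group.nilpotent_of_mulEquiv (Subgroup.subgroupOfEquivOfLe hQ).symm,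
    hpull mP mQ h.cond_left, hpull mQ mP h.cond_right⟩

omit [FiniteDimensional k M] hk2 hk3 hG in
theorem rootCase_subgroupOf {H P Q : Subgroup GLM} {S : Set (Subgroup GLM)} {S' : Set (Subgroup H)}
    (hP : P ≤ H) (hQ : Q ≤ H) (hS : ∀ D ∈ S, D.subgroupOf H ∈ S') (h : Cfsg.RootCommutatorCase S P Q) :
    Cfsg.RootCommutatorCase S' (P.subgroupOf H) (Q.subgroupOf H) := by
  have mP : (P.subgroupOf H).map H.subtype = P := by rw [Subgroup.subgroupOf_map_subtype, inf_eq_left.2 hP]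
  have mQ : (Q.subgroupOf H).map H.subtype = Q := by rw [Subgroup.subgroupOf_map_subtype, inf_eq_left.2 hQ]
  have hinj := Subgroup.map_injective H.subtype_injective
  obtain ⟨h1, h2, h3, h4⟩ := h
  have mC : ⁅P.subgroupOf H, Q.subgroupOf H⁆.map H.subtype = ⁅P, Q⁆ := by rw [Subgroup.map_commutator, mP, mQ]
  have hCH : ⁅P, Q⁆ ≤ H := mC ▸ Subgroup.map_subtype_le _
  have eC : ⁅P.subgroupOf H, Q.subgroupOf H⁆ = ⁅P, Q⁆.subgroupOf H := hinj (by
    rw [mC, Subgroup.subgroupOf_map_subtype, inf_eq_left.2 hCH])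
  refine ⟨eC ▸ hS _ h1, fun c hc x hx => ?_, fun a ha ha1 => hinj ?_, fun b hb hb1 => hinj ?_⟩
  · refine Subtype.ext (h2 (c : GLM) (mC ▸ Subgroup.mem_map_of_mem _ hc) (x : GLM) ?_)
    have := Subgroup.mem_map_of_mem H.subtype hx
    rwa [Subgroup.map_sup, mP, mQ] at this
  · rw [MonoidHom.map_closure, mC, ← h3 (a : GLM) ha (fun e => ha1 (Subtype.ext e))]
    refine congrArg Subgroup.closure (Set.ext fun y => ⟨?_, ?_⟩)
    · rintro ⟨_, ⟨b, hb, rfl⟩, rfl⟩
      exact ⟨(b : GLM), hb, rfl⟩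
    · rintro ⟨b, hb, rfl⟩
      exact ⟨_, ⟨⟨b, hQ hb⟩, hb, rfl⟩, rfl⟩
  · rw [MonoidHom.map_closure, mC, ← h4 (b : GLM) hb (fun e => hb1 (Subtype.ext e))]
    refine congrArg Subgroup.closure (Set.ext fun y => ⟨?_, ?_⟩)
    · rintro ⟨_, ⟨a, ha, rfl⟩, rfl⟩
      exact ⟨(a : GLM), ha, rfl⟩
    · rintro ⟨a, ha, rfl⟩
      exact ⟨_, ⟨⟨a, hP ha⟩, ha, rfl⟩, rfl⟩

/-- The root groups form a set of abstract root subgroups of a group they generate. -/
theorem isRootSubgroupSet (T : Set (Subgroup GLM)) (hT : T ⊆ Cfsg.quadraticRootSubgroups G)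
    (hconj : ∀ A ∈ T, ∀ g ∈ ⨆ B ∈ T, B, Cfsg.conjBy A g ∈ T)
    (hclosed : ∀ A ∈ T, ∀ B ∈ T, Cfsg.RootCommutatorCase (Cfsg.quadraticRootSubgroups G) A B → ⁅A, B⁆ ∈ T) :
    Cfsg.IsRootSubgroupSet ((fun A : Subgroup GLM => A.subgroupOf (⨆ B ∈ T, B)) '' T) := by
  obtain ⟨H, hH⟩ : ∃ H, H = ⨆ B ∈ T, B := ⟨_, rfl⟩
  rw [← hH] at hconj ⊢
  have hle : ∀ A ∈ T, A ≤ H := fun A hA => hH ▸ le_biSup (fun B : Subgroup GLM => B) hA
  have hinj := Subgroup.map_injective H.subtype_injective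
  have hmap : ∀ A ∈ T, (A.subgroupOf H).map H.subtype = A := fun A hA => by
    rw [Subgroup.subgroupOf_map_subtype, inf_eq_left.2 (hle A hA)]
  refine ⟨?_, ?_, ?_, ?_, ?_⟩
  · rintro _ ⟨A, hA, rfl⟩
    obtain ⟨σ, hσ, rfl⟩ := hT hA
    have := commutative hk2 hk3 hG hσ
    exact ⟨⟨fun x y => Subtype.ext (Subtype.ext
      (congrArg (fun z : Cfsg.sameActionSubgroup G σ => (z : GLM))
        (this.is_comm.comm ⟨((x : H) : GLM), x.2⟩ ⟨((y : H) : GLM), y.2⟩)))⟩⟩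
  · rintro _ ⟨A, hA, rfl⟩ e
    obtain ⟨σ, hσ, rfl⟩ := hT hA
    refine root_ne_bot hσ ?_
    rw [← hmap _ hA]
    exact (congrArg _ e).trans (Subgroup.map_bot _)
  · refine hinj ?_
    rw [← MonoidHom.range_eq_map, Subgroup.range_subtype, Subgroup.map_iSup]
    refine le_antisymm (iSup_le fun A => ?_) ?_
    · rw [Subgroup.map_iSup]
      exact iSup_le fun hA => Subgroup.map_subtype_le A
    · conv_lhs => rw [hH]
      refine iSup₂_le fun A hA => le_iSup_of_le (A.subgroupOf H) ?_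
      rw [Subgroup.map_iSup]
      exact le_iSup_of_le ⟨A, hA, rfl⟩ (hmap A hA).ge
  · rintro _ ⟨A, hA, rfl⟩ g
    refine ⟨Cfsg.conjBy A (g : GLM), hconj A hA _ g.2, hinj ?_⟩
    rw [hmap _ (hconj A hA _ g.2), map_conjBy, hmap A hA]
    rfl
  · rintro _ ⟨A, hA, rfl⟩ _ ⟨B, hB, rfl⟩
    obtain ⟨σ, hσ, eσ⟩ := hT hA
    obtain ⟨τ, hτ, eτ⟩ := hT hB
    rcases trichotomy hk2 hk3 hG hσ hτ with h | h | h <;> rw [← eσ, ← eτ] at h
    · refine Or.inl (hinj ?_)
      rw [Subgroup.map_commutator, hmap A hA, hmap B hB, h, Subgroup.map_bot]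
    · exact Or.inr (Or.inl (rankOnePair_subgroupOf (hle A hA) (hle B hB) h.1))
    · refine Or.inr (Or.inr (rootCase_subgroupOf (hle A hA) (hle B hB)
        (S := {D | D ∈ T}) (fun D hD => ⟨D, hD, rfl⟩) ⟨hclosed A hA B hB h, h.2.1, h.2.2.1, h.2.2.2⟩))

theorem conj_root (A : Subgroup GLM) (hA : A ∈ Cfsg.quadraticRootSubgroups G) {g : GLM} (hg : g ∈ G) :
    Cfsg.conjBy A g ∈ Cfsg.quadraticRootSubgroups G := by
  obtain ⟨σ, hσ, rfl⟩ := hA
  obtain ⟨hm, hr, hk⟩ := conj_minimal hg hσ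
  exact ⟨_, hm, conjBy_eq_of_map hg hr.symm hk.symm⟩

omit [FiniteDimensional k M] hk2 hk3 hG in
theorem roots_le : (⨆ A ∈ Cfsg.quadraticRootSubgroups G, A) ≤ G :=
  iSup₂_le fun A hA => by obtain ⟨σ, -, rfl⟩ := hA; exact subgroup_le

end Cfsg.Agent.Fus.QPair
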