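import Mathlib
import Cfsg.Prelude.Def_RootSubgroups
import Cfsg.Agent.Lib.Fus.QuadPairRootSet

/-!
A quadratic element of any rank: split off an element of minimal rank, or commute with all root groups.
-/

set_option autoImplicit false
set_option linter.unusedSectionVars false

open scoped commutatorElement

namespace Cfsg.Agent.Fus.QPair

open Cfsg.Agent.Fus.RingSL

universe u

variable {k : Type u} [Field k] {M : Type u} [AddCommGroup M] [Module k M] [FiniteDimensional k M]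
  {G : Subgroup (LinearMap.GeneralLinearGroup k M)} {σ τ ρ : LinearMap.GeneralLinearGroup k M}

local notation "End'" => Module.End k M
local notation "GLM" => LinearMap.GeneralLinearGroup k M

/-- `ρ` has a nilpotent anticommutator with every minimal quadratic element. -/
def NilAll (G : Subgroup GLM) (ρ : GLM) : Prop :=
  ∀ σ ∈ Cfsg.minimalQuadraticElements G, IsNilpotent (zz ((σ : End') - 1) ((ρ : End') - 1))

omit [FiniteDimensional k M] in
theorem pow_st {a b : End'} (ha : a * a = 0) (n : ℕ) : (a * b) ^ (n + 1) = zz a b ^ n * (a * b) := by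
  induction n with
  | zero => rw [zero_add, pow_one, pow_zero, one_mul]
  | succ n ih =>
    rw [pow_succ, ih, pow_succ, mul_assoc (zz a b ^ n), mul_assoc (zz a b ^ n),
      ← mul_assoc (a * b) a b, sts ha, mul_assoc (zz a b)]

omit [FiniteDimensional k M] in
theorem opp_mul_ne {δ γ : GLM} (hop : Opposite δ γ) (hγ : (γ : End') - 1 ≠ 0) :
    ((γ : End') - 1) * ((δ : End') - 1) * ((γ : End') - 1) ≠ 0 := by
  intro h
  refine hγ (LinearMap.ext fun m => ?_)
  have h1 : ((δ : End') - 1) (((γ : End') - 1) m) ∈ rf δ ⊓ kf γ := ⟨⟨_, rfl⟩, LinearMap.congr_fun h m⟩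
  rw [hop.1, Submodule.mem_bot] at h1
  have h2 : ((γ : End') - 1) m ∈ rf γ ⊓ kf δ := ⟨⟨_, rfl⟩, h1⟩
  rwa [hop.2, Submodule.mem_bot] at h2

omit [FiniteDimensional k M] in
/-- Elements of the scalar family. -/
theorem family_elem (hρ : ρ ∈ Cfsg.quadraticElements G) (c : k) :
    ∃ f ∈ G, (f : End') = 1 + c • ((ρ : End') - 1) := by
  obtain ⟨f, hf⟩ := exists_unit (M := M) hρ.2.1.1 c
  exact ⟨f, hρ.2.2 ⟨c, hf⟩, hf⟩

variable (hk2 : ringChar k ≠ 2) (hk3 : Nat.card k ≠ 3) (hG : UnipFree G)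

include hk2 hk3 hG

omit hk2 hk3 hG in
theorem finrank_range {a : End'} (ha : a ∈ rootSpace G σ) :
    Module.finrank k (LinearMap.range a) ≤ Cfsg.commutatorRank σ :=
  Submodule.finrank_mono (rootSpace_le ha).2

/-- The products `aba` vanish. -/
theorem aba_zero (hρ : ρ ∈ Cfsg.quadraticElements G) (hnil : NilAll G ρ)
    (hσ : σ ∈ Cfsg.minimalQuadraticElements G) {a : End'} (ha : a ∈ rootSpace G σ) :
    a * ((ρ : End') - 1) * a = 0 := by
  obtain ⟨b, hb⟩ : ∃ b, b = (ρ : End') - 1 := ⟨_, rfl⟩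
  rw [← hb]
  by_contra hT
  have hbb : b * b = 0 := hb ▸ hρ.2.1.1
  have ha0 : a ≠ 0 := fun e => hT (by rw [e, zero_mul, zero_mul])
  obtain ⟨hka, hra⟩ := ker_range hk2 hk3 hG hσ ha ha0
  have haa := rootSpace_mul (G := G) hσ.1.2.1.1 ha ha
  have hnz : IsNilpotent (zz a b) := by
    obtain ⟨g, hg, ge⟩ := exists_class hk2 hk3 hG hσ ha ha0
    have := hnil g hg.1
    rwa [ge, add_sub_cancel_left, ← hb] at this
  obtain ⟨H, hH⟩ : ∃ H, H = famGroup ((σ : End') - 1) b := ⟨_, rfl⟩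
  obtain ⟨n, hn⟩ := UnipJoin.exists_pow_of_isUnipotentOn
    (show Cfsg.IsUnipotentOn H from hH ▸ isUnipotentOn_famGroup hσ.1.2.1.1 hbb (hb ▸ hnil σ hσ))
  -- the conjugates of `a`
  have hconj : ∀ e : k, ∃ a', a' = a + e • (b * a - a * b) - (e * e) • (b * a * b) ∧
      a * a' * a = 0 ∧ ∀ c : k, ∃ g ∈ G, (g : End') = 1 + c • (a * a' - a' * a) := by
    intro e
    obtain ⟨f, hfG, hf⟩ := family_elem hρ e
    rw [← hb] at hf
    have hfi : ((f⁻¹ : GLM) : End') = 1 + -(e • b) := by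
      refine Units.inv_eq_of_mul_eq_one_right ?_
      rw [hf]
      simp only [add_mul, mul_add, one_mul, mul_one, mul_neg, smul_mul_assoc, mul_smul_comm, hbb, smul_zero,
        add_zero]
      abel
    obtain ⟨hσ', -, -⟩ := conj_minimal hfG hσ
    have hnop : ¬ Opposite σ (f * σ * f⁻¹) := by
      intro hop
      refine not_isNilpotent_of_opposite hσ.1.2.1.1 hσ'.1.2.1.1 hσ.1.2.1.2 hop ⟨n, ?_⟩
      have h1 : σ ∈ H := hH ▸ Subgroup.subset_closure ⟨1, Or.inl (by rw [one_smul, add_sub_cancel])⟩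
      have hfH : f ∈ H := hH ▸ Subgroup.subset_closure ⟨e, Or.inr hf⟩
      have h2 : f * σ * f⁻¹ ∈ H := mul_mem (mul_mem hfH h1) (inv_mem hfH)
      have hz : zz ((σ : End') - 1) (((f * σ * f⁻¹ : GLM) : End') - 1) ∈ UnipJoin.nSpan (H : Set GLM) ^ 2 := by
        rw [pow_two]
        exact add_mem (Submodule.mul_mem_mul (UnipJoin.sub_one_mem h1) (UnipJoin.sub_one_mem h2))
          (Submodule.mul_mem_mul (UnipJoin.sub_one_mem h2) (UnipJoin.sub_one_mem h1))
      have := Submodule.pow_mem_pow _ hz n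
      rw [← pow_mul, mul_comm, pow_mul, hn, pow_two, Submodule.bot_mul, Submodule.mem_bot] at this
      exact this
    obtain ⟨a', ha'⟩ : ∃ a', a' = (f : End') * a * ((f⁻¹ : GLM) : End') := ⟨_, rfl⟩
    have hm : a' ∈ rootSpace G (f * σ * f⁻¹) := ha' ▸ conj_rootSpace hk2 hk3 hG hfG ha
    refine ⟨a', ?_, (cube_zero hk2 hk3 hG hσ hσ' hnop ha hm).1, fun c => ?_⟩
    · rw [ha', hf, hfi]
      simp only [add_mul, mul_add, one_mul, mul_one, mul_neg, smul_mul_assoc, mul_smul_comm, smul_smul,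
        smul_sub, smul_add]
      abel
    · obtain ⟨x, hx, ex⟩ := exists_elem hk2 hk3 hG hσ (Submodule.smul_mem _ c ha)
      obtain ⟨y, hy, ey⟩ := exists_elem hk2 hk3 hG hσ' hm
      refine ⟨x * y * x⁻¹ * y⁻¹, mul_mem (mul_mem (mul_mem (subgroup_le hx) (subgroup_le hy))
        (inv_mem (subgroup_le hx))) (inv_mem (subgroup_le hy)), ?_⟩
      rw [comm_elem hk2 hk3 hG hσ hσ' hnop hx hy, ex, ey, add_sub_cancel_left, add_sub_cancel_left,
        smul_mul_assoc, mul_smul_comm, ← smul_sub]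
  obtain ⟨a₁, ea₁, haaa, hg₁⟩ := hconj 1
  obtain ⟨a₂, ea₂, -, hg₂⟩ := hconj (-1)
  have z1 : ∀ p, a (a p) = 0 := fun p => LinearMap.congr_fun haa p
  have z2 : ∀ p, b (b p) = 0 := fun p => LinearMap.congr_fun hbb p
  have z5 : ∀ p, a (b (a (b (a p)))) = 0 := by
    intro p
    have := LinearMap.congr_fun haaa p
    simp [ea₁, Module.End.mul_apply, z1] at this
    exact this
  have hmem : ∀ (c : k) (g : GLM), (g : End') = 1 + c • (a * b * a) → g ∈ G := by
    intro c g hg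
    have h2 : (2 : k) ≠ 0 := Ring.two_ne_zero hk2
    have h4 : (4 : k) ≠ 0 := by
      rw [show (4 : k) = 2 * 2 by norm_num]; exact mul_ne_zero h2 h2
    obtain ⟨g1, hg1, e1⟩ := hg₁ (c / 4)
    obtain ⟨g2, hg2, e2⟩ := hg₂ (-(c / 4))
    refine (Units.ext (?_ : ((g1 * g2 : GLM) : End') = (g : End'))) ▸ mul_mem hg1 hg2
    rw [Units.val_mul, e1, e2, hg, ea₁, ea₂]
    conv_rhs => rw [← div_mul_cancel₀ c h4, show (c / 4 * 4 : k) = c / 4 + c / 4 + c / 4 + c / 4 by ring]
    refine LinearMap.ext fun p => ?_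
    simp [Module.End.mul_apply, z1, z2, z5, add_smul, smul_sub]
    abel
  have hTT : a * b * a * (a * b * a) = 0 := LinearMap.ext fun p => by simp [Module.End.mul_apply, z1]
  have hle : Module.finrank k (LinearMap.range (a * b * a)) ≤ Cfsg.commutatorRank σ := by
    refine le_trans (Submodule.finrank_mono ?_) (finrank_range ha)
    rintro _ ⟨p, rfl⟩
    exact ⟨b (a p), rfl⟩
  obtain ⟨_, -, -, hrk⟩ := minimal_of_rank hTT hT hmem hσ hle
  have hsub : LinearMap.range (a * b * a) = rf σ := by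
    refine Submodule.eq_of_le_of_finrank_eq ?_ hrk.symm
    rintro _ ⟨p, rfl⟩
    exact (rootSpace_le ha).2 ⟨b (a p), rfl⟩
  obtain ⟨m, hm⟩ := hnz
  have hpow : ∀ j : ℕ, rf σ ≤ LinearMap.range ((a * b) ^ j) := by
    intro j
    induction j with
    | zero => rw [pow_zero, Module.End.one_eq_id, LinearMap.range_id]; exact le_top
    | succ j ih =>
      intro v hv
      obtain ⟨p, rfl⟩ := hsub.ge hv
      obtain ⟨w, hw⟩ := ih ((rootSpace_le ha).2 ⟨p, rfl⟩)
      exact ⟨w, by rw [pow_succ', Module.End.mul_apply, hw]; rfl⟩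
  refine hσ.1.2.1.2 (LinearMap.range_eq_bot.1 (le_bot_iff.1 ((hpow (m + 1)).trans ?_)))
  rw [pow_st haa, hm, zero_mul, LinearMap.range_zero]

/-- The products `bab` vanish, and `ab = ba`. -/
theorem commute_of_nilAll (hρ : ρ ∈ Cfsg.quadraticElements G) (hnil : NilAll G ρ)
    (hσ : σ ∈ Cfsg.minimalQuadraticElements G) {a : End'} (ha : a ∈ rootSpace G σ) :
    a * ((ρ : End') - 1) = ((ρ : End') - 1) * a := by
  obtain ⟨b, hb⟩ : ∃ b, b = (ρ : End') - 1 := ⟨_, rfl⟩
  rw [← hb]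
  have hbb : b * b = 0 := hb ▸ hρ.2.1.1
  have haa := rootSpace_mul (G := G) hσ.1.2.1.1 ha ha
  have haba : a * b * a = 0 := hb ▸ aba_zero hk2 hk3 hG hρ hnil hσ ha
  have h2 : (2 : k) ≠ 0 := Ring.two_ne_zero hk2
  have z1 : ∀ p, a (a p) = 0 := fun p => LinearMap.congr_fun haa p
  have z2 : ∀ p, b (b p) = 0 := fun p => LinearMap.congr_fun hbb p
  have z3 : ∀ p, a (b (a p)) = 0 := fun p => LinearMap.congr_fun haba p
  obtain ⟨w, hw⟩ : ∃ w, w = b * a * b := ⟨_, rfl⟩
  obtain ⟨u, hu⟩ : ∃ u, u = a * b - b * a := ⟨_, rfl⟩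
  -- commutators of the two families
  have hcomm : ∀ c : k, (∃ g ∈ G, (g : End') = 1 + c • u + c • w) ∧
      ∃ g ∈ G, (g : End') = 1 + -(c • u) + c • w := by
    intro c
    obtain ⟨x, hx, ex⟩ := exists_elem hk2 hk3 hG hσ (Submodule.smul_mem _ c ha)
    obtain ⟨f1, hf1, e1⟩ := family_elem hρ (1 : k)
    obtain ⟨f2, hf2, e2⟩ := family_elem hρ (-1 : k)
    rw [one_smul, ← hb] at e1
    rw [neg_one_smul, ← hb] at e2
    have hG' := subgroup_le hx
    refine ⟨⟨x * f1 * x⁻¹ * f1⁻¹, mul_mem (mul_mem (mul_mem hG' hf1) (inv_mem hG')) (inv_mem hf1), ?_⟩,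
      x * f2 * x⁻¹ * f2⁻¹, mul_mem (mul_mem (mul_mem hG' hf2) (inv_mem hG')) (inv_mem hf2), ?_⟩
    · rw [comm_formula haa haba c x f1 ex e1 hbb, hu, hw]
    · rw [comm_formula haa (by rw [mul_neg, neg_mul, haba, neg_zero]) c x f2 ex e2
        (by rw [neg_mul_neg, hbb]), hu, hw]
      simp only [neg_mul, mul_neg, neg_neg, smul_sub, smul_add, smul_neg, sub_neg_eq_add]
      abel
  have hww : w * w = 0 := LinearMap.ext fun p => by simp [hw, Module.End.mul_apply, z2]
  have huw : u * w = 0 := LinearMap.ext fun p => by simp [hu, hw, Module.End.mul_apply, z2, z3]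
  have hwu : w * u = 0 := LinearMap.ext fun p => by simp [hu, hw, Module.End.mul_apply, z2, z3]
  have huu : u * u = 0 := LinearMap.ext fun p => by simp [hu, Module.End.mul_apply, z1, z2, z3]
  have hwG : ∀ (c : k) (g : GLM), (g : End') = 1 + c • w → g ∈ G := by
    intro c g hg
    obtain ⟨⟨g1, hg1, e1⟩, g2, hg2, e2⟩ := hcomm (c / 2)
    refine (Units.ext (?_ : ((g1 * g2 : GLM) : End') = (g : End'))) ▸ mul_mem hg1 hg2
    rw [Units.val_mul, e1, e2, hg]
    conv_rhs => rw [← div_mul_cancel₀ c h2, mul_two]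
    simp only [add_mul, mul_add, mul_one, one_mul, mul_neg, smul_mul_assoc, mul_smul_comm, huu, huw, hwu, hww,
      smul_zero, add_zero, add_smul]
    abel
  have huG : ∀ (c : k) (g : GLM), (g : End') = 1 + c • u → g ∈ G := by
    intro c g hg
    obtain ⟨⟨g1, hg1, e1⟩, -⟩ := hcomm c
    obtain ⟨g2, e2⟩ := exists_unit hww (-c)
    refine (Units.ext (?_ : ((g1 * g2 : GLM) : End') = (g : End'))) ▸ mul_mem hg1 (hwG _ g2 e2)
    rw [Units.val_mul, e1, e2, hg]
    simp only [add_mul, mul_add, mul_one, one_mul, smul_mul_assoc, mul_smul_comm, mul_neg, huw, hww,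
      smul_zero, add_zero, neg_smul]
    abel
  -- every conjugate kills in the sandwich
  have hsand : ∀ γ ∈ Cfsg.minimalQuadraticElements G, ∀ g ∈ G,
      ((γ : End') - 1) * (((g⁻¹ : GLM) : End') * b * (g : End')) * ((γ : End') - 1) = 0 := by
    intro γ hγ g hg
    have hm := conj_rootSpace hk2 hk3 hG hg (UnipJoin.sub_one_mem (self_mem_class hγ) :
      (γ : End') - 1 ∈ rootSpace G γ)
    have h0 := aba_zero hk2 hk3 hG hρ hnil (conj_minimal hg hγ).1 hm
    rw [← hb] at h0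
    have h1 := congrArg (fun X : End' => ((g⁻¹ : GLM) : End') * X * (g : End')) h0
    simp only [← mul_assoc, ← Units.val_mul, inv_mul_cancel, Units.val_one, one_mul, mul_zero, zero_mul] at h1
    rw [mul_assoc _ ((g⁻¹ : GLM) : End') (g : End'), ← Units.val_mul, inv_mul_cancel, Units.val_one, mul_one] at h1
    simpa [mul_assoc] using h1
  have hw0 : w = 0 := by
    by_contra hw0
    obtain ⟨δ, hδe, hδ, -⟩ := minimal_of_rank hww hw0 hwG hσ (by
      refine le_trans (Submodule.finrank_mono (t := (LinearMap.range a).map b) ?_)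
        ((Submodule.finrank_map_le b _).trans (finrank_range ha))
      rintro _ ⟨p, rfl⟩
      exact ⟨a (b p), ⟨_, rfl⟩, by rw [hw]; rfl⟩)
    obtain ⟨g, -, hγ, hop⟩ := exists_opposite hk2 hk3 hG hδ
    obtain ⟨γ, hγe⟩ : ∃ γ, γ = g * δ * g⁻¹ := ⟨_, rfl⟩
    rw [← hγe] at hγ hop
    obtain ⟨v, hv⟩ := exists_unit huu (1 : k)
    have hvi : ((v⁻¹ : GLM) : End') = 1 + -u := by
      refine Units.inv_eq_of_mul_eq_one_right ?_
      rw [hv, one_smul]
      simp only [add_mul, mul_add, one_mul, mul_one, mul_neg, huu, add_zero]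
      abel
    have h1 := hsand γ hγ v (huG 1 v hv)
    have h0 := hb ▸ aba_zero hk2 hk3 hG hρ hnil hγ (UnipJoin.sub_one_mem (self_mem_class hγ) :
      (γ : End') - 1 ∈ rootSpace G γ)
    have e : ((v⁻¹ : GLM) : End') * b * (v : End') = b + (2 : k) • w := by
      rw [hvi, hv, one_smul, two_smul]
      refine LinearMap.ext fun p => ?_
      simp [hu, hw, Module.End.mul_apply, z2, z3]
      abel
    rw [e, mul_add, add_mul, h0, zero_add, mul_smul_comm, smul_mul_assoc] at h1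
    refine opp_mul_ne hop hγ.1.2.1.2 ?_
    rw [hδe, add_sub_cancel_left]
    exact (smul_eq_zero.1 h1).resolve_left h2
  by_contra hne
  have hu0 : u ≠ 0 := fun e => hne (sub_eq_zero.1 (hu ▸ e))
  have z4 : ∀ p, b (a (b p)) = 0 := fun p => LinearMap.congr_fun (hw ▸ hw0 : b * a * b = 0) p
  obtain ⟨δ, hδe, hδ, -⟩ := minimal_of_rank huu hu0 huG hσ (by
    have hru : LinearMap.range u ≤ (LinearMap.range a ⊓ LinearMap.ker b) ⊔ (LinearMap.range a).map b := by
      rintro _ ⟨p, rfl⟩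
      rw [hu, LinearMap.sub_apply]
      exact sub_mem (Submodule.mem_sup_left ⟨⟨b p, rfl⟩, z4 p⟩) (Submodule.mem_sup_right ⟨a p, ⟨p, rfl⟩, rfl⟩)
    have h := LinearMap.finrank_range_add_finrank_ker (b.domRestrict (LinearMap.range a))
    have e1 : LinearMap.range (b.domRestrict (LinearMap.range a)) = (LinearMap.range a).map b := by
      ext x
      constructor
      · rintro ⟨v, rfl⟩; exact ⟨v, v.2, rfl⟩
      · rintro ⟨v, hv, rfl⟩; exact ⟨⟨v, hv⟩, rfl⟩
    have e2 : Module.finrank k (LinearMap.ker (b.domRestrict (LinearMap.range a))) =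
        Module.finrank k (LinearMap.range a ⊓ LinearMap.ker b : Submodule k M) := by
      rw [← Submodule.finrank_map_subtype_eq]
      refine congrArg (fun W : Submodule k M => Module.finrank k W) ?_
      ext x
      constructor
      · rintro ⟨v, hv, rfl⟩; exact ⟨v.2, hv⟩
      · rintro ⟨h1, h2⟩; exact ⟨⟨x, h1⟩, h2, rfl⟩
    rw [e1, e2] at h
    have l1 := Submodule.finrank_mono hru
    have l2 := Submodule.finrank_add_le_finrank_add_finrank (LinearMap.range a ⊓ LinearMap.ker b)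
      ((LinearMap.range a).map b)
    have l3 := finrank_range ha
    omega)
  obtain ⟨g, -, hγ, hop⟩ := exists_opposite hk2 hk3 hG hδ
  obtain ⟨γ, hγe⟩ : ∃ γ, γ = g * δ * g⁻¹ := ⟨_, rfl⟩
  rw [← hγe] at hγ hop
  obtain ⟨v, hvm, hv⟩ := exists_elem hk2 hk3 hG hσ ha
  have hvi : ((v⁻¹ : GLM) : End') = 1 + -a := by
    refine Units.inv_eq_of_mul_eq_one_right ?_
    rw [hv]
    simp only [add_mul, mul_add, one_mul, mul_one, mul_neg, haa, add_zero]
    abel
  have h1 := hsand γ hγ v (subgroup_le hvm)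
  have h0 := hb ▸ aba_zero hk2 hk3 hG hρ hnil hγ (UnipJoin.sub_one_mem (self_mem_class hγ) :
    (γ : End') - 1 ∈ rootSpace G γ)
  have e : ((v⁻¹ : GLM) : End') * b * (v : End') = b - u := by
    rw [hvi, hv]
    refine LinearMap.ext fun p => ?_
    simp [hu, Module.End.mul_apply, z3]
    abel
  obtain ⟨C, hC⟩ : ∃ C, C = (γ : End') - 1 := ⟨_, rfl⟩
  rw [← hC] at h0 h1
  rw [e, mul_sub, sub_mul, h0, zero_sub, neg_eq_zero] at h1
  exact opp_mul_ne hop hγ.1.2.1.2 (by rw [hδe, add_sub_cancel_left, ← hC]; exact h1)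

/-- Splitting off an element of minimal rank opposite to `σ`. -/
theorem exists_split_quadratic (hρ : ρ ∈ Cfsg.quadraticElements G) (hσ : σ ∈ Cfsg.minimalQuadraticElements G)
    (hz : ¬ IsNilpotent (zz ((σ : End') - 1) ((ρ : End') - 1))) :
    ∃ g ∈ Cfsg.minimalQuadraticElements G, Opposite σ g ∧ ∃ ρ' ∈ G, ρ = g * ρ' ∧
      (ρ' = 1 ∨ ρ' ∈ Cfsg.quadraticElements G) ∧ Cfsg.commutatorRank ρ' < Cfsg.commutatorRank ρ ∧
      ((ρ' : End') - 1) * ((σ : End') - 1) = 0 ∧ ((ρ' : End') - 1) * ((g : End') - 1) = 0 ∧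
      ((g : End') - 1) * ((ρ' : End') - 1) = 0 := by
  have hs := hσ.1.2.1.1
  have ht := hρ.2.1.1
  obtain ⟨E, q, h⟩ := exists_split hz
  have hle : famGroup ((σ : End') - 1) ((ρ : End') - 1) ≤ G := by
    rw [famGroup_eq, Subgroup.closure_le]
    exact Set.union_subset hσ.1.2.2 hρ.2.2
  obtain ⟨hEs, -⟩ := minimal_s hs ht h hk2 hk3 hle hσ.2
  obtain ⟨t, htd⟩ : ∃ t, t = (ρ : End') - 1 := ⟨_, rfl⟩
  obtain ⟨φ, hφ⟩ : ∃ φ, φ = phi hs ht h := ⟨_, rfl⟩
  have hEt : Commute E ((ρ : End') - 1) := E_comm h (zz_comm_right ht)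
  have hEsc : Commute E ((σ : End') - 1) := E_comm h (zz_comm_left hs)
  obtain ⟨g, hg⟩ : ∃ g, g = φ (low (1 * (zUnit h : AdjoinRoot q))) := ⟨_, rfl⟩
  have hge : (g : End') = 1 + E * t := by rw [hg, hφ, phi_low hs ht h, emb_one h, htd]
  have hEtt : E * t * (E * t) = 0 := by
    rw [htd, mul_assoc, ← mul_assoc ((ρ : End') - 1), ← hEt.eq, mul_assoc E ((ρ : End') - 1), ht, mul_zero, mul_zero]
  have hs0 : (σ : End') - 1 ≠ 0 := hσ.1.2.1.2
  have hfam : ∀ (c : k) (x : GLM), (x : End') = 1 + c • (E * t) → x ∈ G := by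
    intro c x hx
    refine (Units.ext (?_ : ((φ (low (algebraMap k (AdjoinRoot q) c * (zUnit h : AdjoinRoot q))) : GLM) : End') =
      (x : End'))) ▸ hle (hφ ▸ (phi_mem hs ht h hk2 hk3 _).2)
    rw [hφ, phi_low hs ht h, emb_algebraMap h, smul_mul_assoc, hx, htd]
  have hEt0 : E * t ≠ 0 := by
    intro e
    refine hz ?_
    have : E * zz ((σ : End') - 1) ((ρ : End') - 1) = 0 := by
      rw [zz, mul_add, ← mul_assoc, hEsc.eq, mul_assoc, ← htd, e, mul_zero, ← mul_assoc E t, e, zero_mul, add_zero]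
    exfalso
    exact hs0 (by
      have e2 := emb_inv_root hs ht h
      rw [← emb_E h, mul_assoc, this, mul_zero] at e2
      rw [← hEs, ← e2, zero_mul])
  have hrk : Module.finrank k (LinearMap.range (E * t)) ≤ Cfsg.commutatorRank σ := by
    obtain ⟨A, hA⟩ : ∃ A, A = emb (zz ((σ : End') - 1) ((ρ : End') - 1)) E (AdjoinRoot.root q) * mu _ _ h 1 0 :=
      ⟨_, rfl⟩
    have eEt : E * t = A := by
      rw [hA, show mu _ _ h 1 0 = emb (zz ((σ : End') - 1) ((ρ : End') - 1)) E ((zUnit h)⁻¹ : (AdjoinRoot q)ˣ).val *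
        ((ρ : End') - 1) from rfl, ← mul_assoc, ← emb_mul h, ← coe_zUnit h, Units.mul_inv, emb_one h, htd]
    have eA : A = A * mu _ _ h 0 1 * mu _ _ h 1 0 := by
      conv_lhs => rw [hA]
      rw [hA, mul_assoc (emb _ E _ * _), mu_mul hs ht h, if_pos rfl, mul_assoc, mu_mul hs ht h, if_pos rfl]
    rw [eEt, eA]
    refine le_trans (Submodule.finrank_mono (t := (rf σ).map A) ?_) (Submodule.finrank_map_le A _)
    rintro _ ⟨p, rfl⟩
    refine ⟨mu _ _ h 0 1 (mu _ _ h 1 0 p), ?_, rfl⟩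
    show mu _ _ h 0 1 _ ∈ LinearMap.range ((σ : End') - 1)
    rw [show mu ((σ : End') - 1) ((ρ : End') - 1) h 0 1 = E * ((σ : End') - 1) from rfl, hEs]
    exact ⟨_, rfl⟩
  obtain ⟨g', hg'e, hg'm, -⟩ := minimal_of_rank hEtt hEt0 hfam hσ hrk
  have hgg : g' = g := Units.ext (hg'e.trans hge.symm)
  subst hgg
  have hop : Opposite σ g' := by
    have hnn : ¬ IsNilpotent (zz ((σ : End') - 1) ((g' : End') - 1)) := by
      rw [hge, add_sub_cancel_left]
      have e : zz ((σ : End') - 1) (E * t) = zz ((σ : End') - 1) ((ρ : End') - 1) * E := by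
        rw [zz, zz, add_mul, ← htd, ← mul_assoc, ← hEsc.eq]
        have cEt : Commute E t := htd ▸ hEt
        rw [mul_assoc E, mul_assoc t ((σ : End') - 1) E, ← hEsc.eq, mul_assoc ((σ : End') - 1) t E, ← cEt.eq,
          ← mul_assoc ((σ : End') - 1) E t, ← hEsc.eq, ← mul_assoc t E ((σ : End') - 1), ← cEt.eq]
        simp only [mul_assoc]
      rw [e]
      rintro ⟨j, hj⟩
      have cz : Commute (zz ((σ : End') - 1) ((ρ : End') - 1)) E := (E_comm h (Commute.refl _)).symm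
      have hpow : ∀ j : ℕ, emb (zz ((σ : End') - 1) ((ρ : End') - 1)) E ((zUnit h)⁻¹ : (AdjoinRoot q)ˣ).val ^ j *
          (zz ((σ : End') - 1) ((ρ : End') - 1) * E) ^ j * E = E := by
        intro j
        induction j with
        | zero => rw [pow_zero, pow_zero, one_mul, one_mul]
        | succ j ih =>
          rw [pow_succ, pow_succ', mul_assoc (_ ^ j), ← mul_assoc (emb _ E _), ← mul_assoc (emb _ E _),
            emb_inv_root hs ht h, h.idem]
          have cj : Commute (emb (zz ((σ : End') - 1) ((ρ : End') - 1)) E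
              ((zUnit h)⁻¹ : (AdjoinRoot q)ˣ).val ^ j) E :=
            (emb_comm h (E_comm h (Commute.refl _)).symm _).pow_left j
          rw [← mul_assoc (_ ^ j) E, cj.eq, mul_assoc E, mul_assoc E, ih, h.idem]
      have := hpow j
      rw [hj, mul_zero, zero_mul] at this
      exact hs0 (by rw [← hEs, ← this, zero_mul])
    by_contra hnop
    rcases not_and_or.1 hnop with h' | h'
    · exact hnn (isNilpotent_of_not_opposite hk2 hk3 hσ hg'm h')
    · exact hnn (zz_symm (t := (σ : End') - 1) (s := (g' : End') - 1) ▸ isNilpotent_of_not_opposite hk2 hk3 hg'm hσ h')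
  obtain ⟨y, hy⟩ : ∃ y, y = (1 - E) * t := ⟨_, rfl⟩
  have cy : Commute (1 - E) t := (Commute.one_left _).sub_left (htd ▸ hEt)
  have htt : t * t = 0 := htd ▸ ht
  have hyy : y * y = 0 := by
    rw [hy, mul_assoc, ← mul_assoc t, ← cy.eq, mul_assoc (1 - E) t, htt, mul_zero, mul_zero]
  have hgy : E * t * y = 0 ∧ y * (E * t) = 0 := by
    have e1 : E * (1 - E) = 0 := by rw [mul_sub, mul_one, h.idem, sub_self]
    have e2 : (1 - E) * E = 0 := by rw [sub_mul, one_mul, h.idem, sub_self]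
    constructor
    · rw [hy, mul_assoc, ← mul_assoc t, ← cy.eq, mul_assoc (1 - E) t, htt, mul_zero, mul_zero]
    · rw [hy, mul_assoc, ← mul_assoc t, show t * E = E * t from (htd ▸ hEt.symm.eq), mul_assoc E, htt, mul_zero,
        mul_zero]
  have hty : t = E * t + y := by rw [hy, sub_mul, one_mul, add_sub_cancel]
  obtain ⟨ρ', hρ'⟩ := exists_unit hyy (1 : k)
  rw [one_smul] at hρ'
  have hsplit : ρ = g' * ρ' := by
    refine Units.ext ?_
    rw [Units.val_mul, hge, hρ', add_mul, one_mul, mul_add, mul_one, hgy.1, add_zero, add_assoc,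
      add_comm y, ← hty, htd, add_sub_cancel]
  have hyfam : ∀ (c : k) (x : GLM), (x : End') = 1 + c • y → x ∈ G := by
    intro c x hx
    obtain ⟨f, hf, ef⟩ := family_elem hρ c
    obtain ⟨f', ef'⟩ := exists_unit hEtt (-c)
    refine (Units.ext (?_ : ((f' * f : GLM) : End') = (x : End'))) ▸ mul_mem (hfam _ f' ef') hf
    rw [Units.val_mul, ef', ef, hx, ← htd]
    conv_lhs => rw [show c • t = c • (E * t) + c • y by rw [← smul_add, ← hty]]
    simp only [add_mul, mul_add, one_mul, mul_one, neg_mul, smul_mul_assoc, mul_smul_comm, hEtt, hgy.1,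
      smul_zero, add_zero, neg_smul, neg_zero]
    abel
  have hsρ : y * ((σ : End') - 1) = 0 := by
    rw [hy, cy.eq, mul_assoc, sub_mul, one_mul, hEs, sub_self, mul_zero]
  refine ⟨g', hg'm, hop, ρ', hyfam 1 ρ' (by rw [one_smul, hρ']), hsplit, ?_, ?_, ?_, ?_, ?_⟩
  · by_cases hy0 : y = 0
    · exact Or.inl (Units.ext (by rw [hρ', hy0, add_zero, Units.val_one]))
    · refine Or.inr ⟨hyfam 1 ρ' (by rw [one_smul, hρ']), ⟨?_, ?_⟩, ?_⟩
      · show ((ρ' : End') - 1) * ((ρ' : End') - 1) = 0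
        rw [hρ', add_sub_cancel_left]; exact hyy
      · show (ρ' : End') - 1 ≠ 0
        rw [hρ', add_sub_cancel_left]; exact hy0
      · rintro x ⟨c, hc⟩
        exact hyfam c x (by rw [hc, hρ', add_sub_cancel_left])
  · unfold Cfsg.commutatorRank
    rw [hρ', add_sub_cancel_left, ← htd]
    have hle' : LinearMap.range y ≤ LinearMap.range t := by
      rintro _ ⟨p, rfl⟩
      exact ⟨(1 - E) p, by rw [hy, cy.eq]; rfl⟩
    refine Submodule.finrank_lt_finrank_of_lt (lt_of_le_of_ne hle' fun e => hEt0 (LinearMap.ext fun p => ?_))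
    obtain ⟨r, hr⟩ := e.ge (⟨E p, by rw [← Module.End.mul_apply, show t * E = E * t from (htd ▸ hEt.symm.eq)]⟩ :
      (E * t) p ∈ LinearMap.range t)
    have h1 : E (y r) = 0 := by
      rw [hy, ← Module.End.mul_apply, ← mul_assoc, mul_sub, mul_one, h.idem, sub_self, zero_mul]; rfl
    rw [hr, ← Module.End.mul_apply, ← mul_assoc, h.idem] at h1
    exact h1
  · rw [hρ', add_sub_cancel_left]; exact hsρ
  · rw [hρ', add_sub_cancel_left, hge, add_sub_cancel_left]; exact hgy.2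
  · rw [hρ', add_sub_cancel_left, hge, add_sub_cancel_left]; exact hgy.1

end Cfsg.Agent.Fus.QPair
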