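import Mathlib
import Cfsg.Prelude.Def_RootSubgroups
import Cfsg.Agent.Lib.Fus.QuadPairSplitting

/-!
The connected components of the graph of rank one pairs of a quadratic pair commute with one another.
-/

set_option autoImplicit false
set_option linter.unusedSectionVars false
set_option linter.unusedVariables false

open scoped commutatorElement

namespace Cfsg.Agent.Fus.QPair

universe u

variable {k : Type u} [Field k] {M : Type u} [AddCommGroup M] [Module k M] [FiniteDimensional k M]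
  {G : Subgroup (LinearMap.GeneralLinearGroup k M)} {σ τ : LinearMap.GeneralLinearGroup k M}

local notation "End'" => Module.End k M
local notation "GLM" => LinearMap.GeneralLinearGroup k M

/-- Joined by rank one pairs. -/
def Conn (G : Subgroup GLM) (A B : Subgroup GLM) : Prop :=
  Relation.ReflTransGen (Cfsg.FAdj (Cfsg.quadraticRootSubgroups G)) A B

/-- The members of the component of `A`. -/
def part (G : Subgroup GLM) (A : Subgroup GLM) : Set (Subgroup GLM) :=
  Cfsg.componentOf (Cfsg.FAdj (Cfsg.quadraticRootSubgroups G)) (Cfsg.quadraticRootSubgroups G) A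

/-- The group generated by a component. -/
def partGroup (G : Subgroup GLM) (A : Subgroup GLM) : Subgroup GLM := ⨆ B ∈ part G A, B

omit [FiniteDimensional k M] in
theorem conn_symm {A B : Subgroup GLM} (h : Conn G A B) : Conn G B A := by
  induction h with
  | refl => exact Relation.ReflTransGen.refl
  | tail _ h ih => exact Relation.ReflTransGen.head ⟨h.2.1, h.1, Cfsg.RankOnePair_symm h.2.2⟩ ih

omit [FiniteDimensional k M] in
theorem conn_trans {A B C : Subgroup GLM} (h : Conn G A B) (h' : Conn G B C) : Conn G A C := h.trans h'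

omit [FiniteDimensional k M] in
theorem conjBy_conjBy (A : Subgroup GLM) (g h : GLM) :
    Cfsg.conjBy (Cfsg.conjBy A h) g = Cfsg.conjBy A (g * h) := by
  rw [Cfsg.conjBy, Cfsg.conjBy, Cfsg.conjBy, Subgroup.map_map]
  exact congrArg (fun f => Subgroup.map f A) (MonoidHom.ext fun x => by simp [mul_assoc])

omit [FiniteDimensional k M] in
theorem conjBy_one (A : Subgroup GLM) : Cfsg.conjBy A 1 = A :=
  Subgroup.ext fun x => ⟨fun ⟨y, hy, e⟩ => by simpa [← e] using hy, fun hx => ⟨x, hx, by simp⟩⟩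

omit [FiniteDimensional k M] in
theorem conjBy_commute {A : Subgroup GLM} {g : GLM} (h : ∀ a ∈ A, g * a = a * g) : Cfsg.conjBy A g = A := by
  refine le_antisymm ?_ fun y hy => ⟨y, hy, by show g * y * g⁻¹ = y; rw [h y hy, mul_inv_cancel_right]⟩
  rintro _ ⟨y, hy, rfl⟩
  show g * y * g⁻¹ ∈ A
  rw [h y hy, mul_inv_cancel_right]; exact hy

variable (hk2 : ringChar k ≠ 2) (hk3 : Nat.card k ≠ 3) (hG : UnipFree G)

include hk2 hk3 hG

theorem conjBy_root (hσ : σ ∈ Cfsg.minimalQuadraticElements G) {g : GLM} (hg : g ∈ G) :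
    Cfsg.conjBy (Cfsg.sameActionSubgroup G σ) g = Cfsg.sameActionSubgroup G (g * σ * g⁻¹) := by
  obtain ⟨-, hr, hk⟩ := conj_minimal hg hσ
  exact conjBy_eq_of_map hg hr.symm hk.symm

theorem opposite_conj (hσ : σ ∈ Cfsg.minimalQuadraticElements G) (hτ : τ ∈ Cfsg.minimalQuadraticElements G)
    (hop : Opposite σ τ) {g : GLM} (hg : g ∈ G) : Opposite (g * σ * g⁻¹) (g * τ * g⁻¹) := by
  obtain ⟨-, hr, hk⟩ := conj_minimal hg hσ
  obtain ⟨-, hr', hk'⟩ := conj_minimal hg hτ
  have hinj : Function.Injective (g : End') := fun x y hxy => by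
    have := congrArg ((g⁻¹ : GLM) : End') hxy
    rwa [← Module.End.mul_apply, ← Module.End.mul_apply, ← Units.val_mul, inv_mul_cancel, Units.val_one,
      Module.End.one_apply, Module.End.one_apply] at this
  constructor
  · rw [hr, hk', ← Submodule.map_inf _ hinj, hop.1, Submodule.map_bot]
  · rw [hr', hk, ← Submodule.map_inf _ hinj, hop.2, Submodule.map_bot]

theorem conn_of_opposite (hσ : σ ∈ Cfsg.minimalQuadraticElements G) (hτ : τ ∈ Cfsg.minimalQuadraticElements G)
    (hop : Opposite σ τ) : Conn G (Cfsg.sameActionSubgroup G σ) (Cfsg.sameActionSubgroup G τ) :=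
  Relation.ReflTransGen.single ⟨⟨σ, hσ, rfl⟩, ⟨τ, hτ, rfl⟩, (isSpecialRankOnePair hk2 hk3 hG hσ hτ hop).1⟩

theorem conn_conj {A B : Subgroup GLM} (h : Conn G A B) {g : GLM} (hg : g ∈ G) :
    Conn G (Cfsg.conjBy A g) (Cfsg.conjBy B g) := by
  induction h with
  | refl => exact Relation.ReflTransGen.refl
  | tail _ h ih =>
    obtain ⟨⟨σ, hσ, rfl⟩, ⟨τ, hτ, rfl⟩, hp⟩ := h
    refine conn_trans ih ?_
    rw [conjBy_root hk2 hk3 hG hσ hg, conjBy_root hk2 hk3 hG hτ hg]
    exact conn_of_opposite hk2 hk3 hG (conj_minimal hg hσ).1 (conj_minimal hg hτ).1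
      (opposite_conj hk2 hk3 hG hσ hτ (opposite_of_rankOne hk2 hk3 hG hσ hτ hp) hg)

/-- A pair in the commutator case lies, with its commutator, in one component. -/
theorem conn_of_case (hσ : σ ∈ Cfsg.minimalQuadraticElements G) (hτ : τ ∈ Cfsg.minimalQuadraticElements G)
    (hnop : ¬ Opposite σ τ) (hne : ⁅Cfsg.sameActionSubgroup G σ, Cfsg.sameActionSubgroup G τ⁆ ≠ ⊥) :
    Conn G (Cfsg.sameActionSubgroup G σ) (Cfsg.sameActionSubgroup G τ) ∧
      Conn G (Cfsg.sameActionSubgroup G σ) ⁅Cfsg.sameActionSubgroup G σ, Cfsg.sameActionSubgroup G τ⁆ := by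
  rcases commutator_cases hk2 hk3 hG hσ hτ hnop with ⟨-, hb⟩ | ⟨δ₀, hδ₀, hD, hr₀, hk₀, -, hall, -, -⟩
  · exact absurd hb hne
  obtain ⟨a, ha⟩ : ∃ a, a = (σ : End') - 1 := ⟨_, rfl⟩
  obtain ⟨b, hb⟩ : ∃ b, b = (τ : End') - 1 := ⟨_, rfl⟩
  have haV : a ∈ rootSpace G σ := ha ▸ UnipJoin.sub_one_mem (self_mem_class hσ)
  have hbV : b ∈ rootSpace G τ := hb ▸ UnipJoin.sub_one_mem (self_mem_class hτ)
  have hu : a * b - b * a ≠ 0 := hall a haV b hbV (ha ▸ hσ.1.2.1.2) (hb ▸ hτ.1.2.1.2)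
  obtain ⟨z1, z2⟩ := cube_zero hk2 hk3 hG hσ hτ hnop haV hbV
  obtain ⟨δ, hδ, hδe, hr, hk, -⟩ := class_two hk2 hk3 hG hσ hτ haV hbV z1 z2 hu
  have hu' : b * a - a * b ≠ 0 := fun e => hu (by rw [← neg_sub, e, neg_zero])
  obtain ⟨δ', hδ', hδ'e, hr', hk', -⟩ := class_two hk2 hk3 hG hτ hσ hbV haV z2 z1 hu'
  obtain ⟨A, hA⟩ : ∃ A, A = Cfsg.sameActionSubgroup G σ := ⟨_, rfl⟩
  obtain ⟨B, hB⟩ : ∃ B, B = Cfsg.sameActionSubgroup G τ := ⟨_, rfl⟩
  obtain ⟨D, hDd⟩ : ∃ D, D = Cfsg.sameActionSubgroup G δ₀ := ⟨_, rfl⟩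
  have eD : Cfsg.sameActionSubgroup G δ = D := hDd ▸ subgroup_eq_of_spaces (hk.trans hk₀.symm) (hr.trans hr₀.symm)
  have eD' : Cfsg.sameActionSubgroup G δ' = D := hDd ▸ subgroup_eq_of_spaces
    ((hk'.trans (inf_comm _ _)).trans hk₀.symm) ((hr'.trans (sup_comm _ _)).trans hr₀.symm)
  obtain ⟨γ, hγ, hop, f, hf, hop'⟩ := exists_linked hk2 hk3 hG hσ hτ haV hbV z2 hδ hδe
  obtain ⟨γ', hγ', hop₂, e, he, hop₂'⟩ := exists_linked hk2 hk3 hG hτ hσ hbV haV z1 hδ' hδ'e
  have hfG := subgroup_le hf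
  have heG := subgroup_le he
  have c1 : Conn G (Cfsg.conjBy A f) D := by
    rw [hA, conjBy_root hk2 hk3 hG hσ hfG, ← eD]
    exact conn_trans (conn_of_opposite hk2 hk3 hG (conj_minimal hfG hσ).1 hγ hop')
      (conn_symm (conn_of_opposite hk2 hk3 hG hδ hγ hop))
  have c2 : Conn G (Cfsg.conjBy B e) D := by
    rw [hB, conjBy_root hk2 hk3 hG hτ heG, ← eD']
    exact conn_trans (conn_of_opposite hk2 hk3 hG (conj_minimal heG hτ).1 hγ' hop₂')
      (conn_symm (conn_of_opposite hk2 hk3 hG hδ' hγ' hop₂))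
  obtain ⟨-, -, -, -, hcen, -⟩ := class_two_group hk2 hk3 hG hσ hτ hnop hne hA hB (rfl : A ⊔ B = A ⊔ B)
  have hAc : ∀ x ∈ A, ∀ y ∈ A, x * y = y * x := fun x hx y hy =>
    congrArg Subtype.val ((show IsMulCommutative A from hA ▸ commutative hk2 hk3 hG hσ).is_comm.comm ⟨x, hx⟩ ⟨y, hy⟩)
  have hBc : ∀ x ∈ B, ∀ y ∈ B, x * y = y * x := fun x hx y hy =>
    congrArg Subtype.val ((show IsMulCommutative B from hB ▸ commutative hk2 hk3 hG hτ).is_comm.comm ⟨x, hx⟩ ⟨y, hy⟩)
  rw [← hA, ← hB, ← hDd] at hD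
  rw [← hA] at he
  rw [← hB] at hf
  have hfX : f ∈ A ⊔ B := Subgroup.mem_sup_right hf
  have heX : e ∈ A ⊔ B := Subgroup.mem_sup_left he
  have hcentral : ∀ d ∈ ⁅A ⊔ B, A ⊔ B⁆, ∀ x ∈ A ⊔ B, d * x = x * d := fun d hd x hx => by
    rw [← commutatorElement_eq_one_iff_mul_comm, ← Subgroup.mem_bot, ← hcen]
    exact Subgroup.commutator_mem_commutator hd hx
  have eA : Cfsg.conjBy A (f * e) = Cfsg.conjBy A f := by
    rw [← conjBy_conjBy, conjBy_commute (fun a ha' => hAc e he a ha')]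
  have eB : Cfsg.conjBy B (f * e) = Cfsg.conjBy B e := by
    have e2 : f * e = ⁅f, e⁆ * (e * f) := by rw [commutatorElement_def]; group
    rw [e2, ← conjBy_conjBy, ← conjBy_conjBy B e f, conjBy_commute (fun y hy => hBc f hf y hy)]
    refine conjBy_commute ?_
    rintro _ ⟨y, hy, rfl⟩
    exact hcentral _ (Subgroup.commutator_mem_commutator hfX heX) _
      (mul_mem (mul_mem heX (Subgroup.mem_sup_right hy)) (inv_mem heX))
  have hDle : D ≤ ⁅A ⊔ B, A ⊔ B⁆ := hD ▸ Subgroup.commutator_mono le_sup_left le_sup_right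
  have eDx : ∀ x ∈ A ⊔ B, Cfsg.conjBy D x = D := fun x hx =>
    conjBy_commute fun d hd => (hcentral d (hDle hd) x hx).symm
  have hxX : f * e ∈ A ⊔ B := mul_mem hfX heX
  have hxG : (f * e)⁻¹ ∈ G := inv_mem (mul_mem hfG heG)
  have hback : ∀ C : Subgroup GLM, Cfsg.conjBy (Cfsg.conjBy C (f * e)) (f * e)⁻¹ = C := fun C => by
    rw [conjBy_conjBy, inv_mul_cancel, conjBy_one]
  have hcA : Conn G A D := by
    have := conn_conj hk2 hk3 hG c1 hxG
    rwa [← eA, hback, eDx _ (inv_mem hxX)] at this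
  have hcB : Conn G B D := by
    have := conn_conj hk2 hk3 hG c2 hxG
    rwa [← eB, hback, eDx _ (inv_mem hxX)] at this
  rw [← hA, ← hB, hD]
  exact ⟨conn_trans hcA (conn_symm hcB), hcA⟩

omit hk2 hk3 hG [FiniteDimensional k M] in
theorem mem_part {A B : Subgroup GLM} (hB : B ∈ Cfsg.quadraticRootSubgroups G) (h : Conn G A B) : B ∈ part G A :=
  ⟨hB, h⟩

/-- Different components commute. -/
theorem commute_of_not_conn (hσ : σ ∈ Cfsg.minimalQuadraticElements G) (hτ : τ ∈ Cfsg.minimalQuadraticElements G)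
    (hn : ¬ Conn G (Cfsg.sameActionSubgroup G σ) (Cfsg.sameActionSubgroup G τ)) :
    ⁅Cfsg.sameActionSubgroup G σ, Cfsg.sameActionSubgroup G τ⁆ = ⊥ := by
  by_cases hop : Opposite σ τ
  · exact absurd (conn_of_opposite hk2 hk3 hG hσ hτ hop) hn
  · by_contra hne
    exact hn (conn_of_case hk2 hk3 hG hσ hτ hop hne).1

theorem partGroup_commute {A B : Subgroup GLM} (hn : ¬ Conn G A B) : ⁅partGroup G A, partGroup G B⁆ = ⊥ := by
  rw [Subgroup.commutator_eq_bot_iff_le_centralizer]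
  refine iSup₂_le fun C hC => ?_
  refine Subgroup.le_centralizer_iff.1 (iSup₂_le fun D hD => ?_)
  obtain ⟨⟨σ, hσ, rfl⟩, hAC⟩ := hC
  obtain ⟨⟨τ, hτ, rfl⟩, hBD⟩ := hD
  refine Subgroup.commutator_eq_bot_iff_le_centralizer.1 ?_
  rw [Subgroup.commutator_comm]
  exact commute_of_not_conn hk2 hk3 hG hσ hτ fun h => hn (conn_trans hAC (conn_trans h (conn_symm hBD)))

omit hk2 hk3 hG [FiniteDimensional k M] in
theorem partGroup_le (A : Subgroup GLM) : partGroup G A ≤ G :=
  iSup₂_le fun B hB => by obtain ⟨⟨σ, -, rfl⟩, -⟩ := hB; exact subgroup_le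

omit hk2 hk3 hG [FiniteDimensional k M] in
theorem le_partGroup {A B : Subgroup GLM} (h : B ∈ part G A) : B ≤ partGroup G A :=
  le_biSup (fun C : Subgroup GLM => C) h

/-- The group of a component keeps the component. -/
theorem conn_conj_part {A : Subgroup GLM} (hA : A ∈ Cfsg.quadraticRootSubgroups G) {g : GLM}
    (hg : g ∈ partGroup G A) : Conn G A (Cfsg.conjBy A g) := by
  suffices h : ∀ x ∈ Subgroup.closure (⋃ B ∈ part G A, (B : Set GLM)), x ∈ G ∧ Conn G A (Cfsg.conjBy A x) by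
    refine (h g ?_).2
    refine (show partGroup G A ≤ _ from iSup₂_le fun B hB x hx => ?_) hg
    exact Subgroup.subset_closure (Set.mem_biUnion hB hx)
  intro x hx
  induction hx using Subgroup.closure_induction with
  | mem x hx =>
    obtain ⟨B, hB, hxB⟩ := Set.mem_iUnion₂.1 hx
    have hxG : x ∈ G := partGroup_le A (le_partGroup hB hxB)
    refine ⟨hxG, ?_⟩
    obtain ⟨⟨τ, hτ, rfl⟩, hAB⟩ := hB
    have h2 := conn_conj hk2 hk3 hG hAB hxG
    rw [conjBy_commute (A := Cfsg.sameActionSubgroup G τ) fun a ha =>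
      congrArg Subtype.val ((commutative hk2 hk3 hG hτ).is_comm.comm ⟨x, hxB⟩ ⟨a, ha⟩)] at h2
    exact conn_trans hAB (conn_symm h2)
  | one => exact ⟨one_mem _, by rw [conjBy_one]; exact Relation.ReflTransGen.refl⟩
  | mul x y _ _ ihx ihy =>
    refine ⟨mul_mem ihx.1 ihy.1, ?_⟩
    rw [← conjBy_conjBy]
    exact conn_trans ihx.2 (conn_conj hk2 hk3 hG ihy.2 ihx.1)
  | inv x _ ihx =>
    refine ⟨inv_mem ihx.1, ?_⟩
    have := conn_symm (conn_conj hk2 hk3 hG ihx.2 (inv_mem ihx.1))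
    rwa [conjBy_conjBy, inv_mul_cancel, conjBy_one] at this

theorem conj_part {A B : Subgroup GLM} (hA : A ∈ Cfsg.quadraticRootSubgroups G) (hB : B ∈ part G A) {g : GLM}
    (hg : g ∈ partGroup G A) : Cfsg.conjBy B g ∈ part G A :=
  mem_part (conj_root hk2 hk3 hG B hB.1 (partGroup_le A hg))
    (conn_trans (conn_conj_part hk2 hk3 hG hA hg) (conn_conj hk2 hk3 hG hB.2 (partGroup_le A hg)))

theorem conj_partGroup {A : Subgroup GLM} (hA : A ∈ Cfsg.quadraticRootSubgroups G) {g : GLM}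
    (hg : g ∈ ⨆ B ∈ Cfsg.quadraticRootSubgroups G, B) :
    Cfsg.conjBy (partGroup G A) g = partGroup G A := by
  suffices h : (⨆ B ∈ Cfsg.quadraticRootSubgroups G, B) ≤ Subgroup.normalizer (partGroup G A : Set GLM) by
    refine le_antisymm ?_ fun y hy => ?_
    · rintro _ ⟨y, hy, rfl⟩
      exact (Subgroup.mem_normalizer_iff.1 (h hg) y).1 hy
    · exact ⟨g⁻¹ * y * g, (Subgroup.mem_normalizer_iff.1 (h hg) _).2 (by simpa [mul_assoc] using hy),
        by simp [mul_assoc]⟩
  refine iSup₂_le fun B hB => ?_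
  by_cases hc : Conn G A B
  · exact (le_partGroup (mem_part hB hc)).trans Subgroup.le_normalizer
  · refine le_trans ?_ (Subgroup.centralizer_le_normalizer _)
    have h0 := partGroup_commute hk2 hk3 hG (fun h => hc (conn_symm h) : ¬ Conn G B A)
    exact (le_partGroup (mem_part hB Relation.ReflTransGen.refl : B ∈ part G B)).trans
      (Subgroup.commutator_eq_bot_iff_le_centralizer.1 h0)

/-- A component is a set of abstract root subgroups forming one class. -/
theorem part_class {A : Subgroup GLM} (hA : A ∈ Cfsg.quadraticRootSubgroups G) :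
    Cfsg.IsRootSubgroupClass ((fun C : Subgroup GLM => C.subgroupOf (partGroup G A)) '' part G A) := by
  refine ⟨isRootSubgroupSet hk2 hk3 hG (part G A) (fun B hB => hB.1) (fun B hB g hg => conj_part hk2 hk3 hG hA hB hg)
    ?_, ⟨_, A, mem_part hA Relation.ReflTransGen.refl, rfl⟩, ?_⟩
  · rintro B hB C hC hcase
    obtain ⟨⟨σ, hσ, rfl⟩, hAB⟩ := hB
    obtain ⟨⟨τ, hτ, rfl⟩, -⟩ := hC
    have hne : ⁅Cfsg.sameActionSubgroup G σ, Cfsg.sameActionSubgroup G τ⁆ ≠ ⊥ := fun e => by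
      obtain ⟨ρ, hρ, hρe⟩ := hcase.1
      exact root_ne_bot hρ (hρe.symm.trans e)
    have hnop : ¬ Opposite σ τ := by
      intro hop
      refine not_opposite_of_class_two hk2 hk3 hσ hτ ?_ hop
      obtain ⟨D, hD⟩ : ∃ D, D = ⁅Cfsg.sameActionSubgroup G σ, Cfsg.sameActionSubgroup G τ⁆ := ⟨_, rfl⟩
      obtain ⟨X, hX⟩ : ∃ X, X = Cfsg.sameActionSubgroup G σ ⊔ Cfsg.sameActionSubgroup G τ := ⟨_, rfl⟩
      have hcen := hcase.2.1
      rw [← hD, ← hX] at hcen
      rw [← hX, eq_bot_iff]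
      refine (Subgroup.commutator_mono (?_ : ⁅X, X⁆ ≤ D) le_rfl).trans (Subgroup.commutator_le.2 fun d hd x hx => by
        rw [Subgroup.mem_bot, commutatorElement_eq_one_iff_mul_comm]; exact hcen d hd x hx)
      have hnorm : (D.subgroupOf X).Normal := ⟨fun d hd x => by
        show (x : GLM) * (d : GLM) * ((x : GLM))⁻¹ ∈ D
        rw [← hcen (d : GLM) (show (d : GLM) ∈ D from hd) (x : GLM) x.2, mul_inv_cancel_right]
        exact hd⟩
      obtain ⟨P, hP⟩ : ∃ P, P = (Cfsg.sameActionSubgroup G σ).subgroupOf X := ⟨_, rfl⟩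
      obtain ⟨Q, hQ⟩ : ∃ Q, Q = (Cfsg.sameActionSubgroup G τ).subgroupOf X := ⟨_, rfl⟩
      have hc : ∀ {ρ : GLM}, ρ ∈ Cfsg.minimalQuadraticElements G →
          IsMulCommutative ((Cfsg.sameActionSubgroup G ρ).subgroupOf X) := fun {ρ} hρ =>
        ⟨⟨fun x y => Subtype.ext (Subtype.ext (congrArg (fun z : Cfsg.sameActionSubgroup G ρ => (z : GLM))
          ((commutative hk2 hk3 hG hρ).is_comm.comm ⟨((x : X) : GLM), x.2⟩ ⟨((y : X) : GLM), y.2⟩)))⟩⟩
      have hle := RootQuasi.commutator_le_of_commutator_le hnorm (hP ▸ hc hσ) (hQ ▸ hc hτ) (fun a ha b hb => by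
        rw [hP] at ha; rw [hQ] at hb
        show ((⁅a, b⁆ : X) : GLM) ∈ D
        rw [hD]
        exact Subgroup.commutator_mem_commutator ha hb)
      have hsup : P ⊔ Q = ⊤ := by
        refine Subgroup.map_injective X.subtype_injective ?_
        rw [Subgroup.map_sup, hP, hQ, Subgroup.subgroupOf_map_subtype, Subgroup.subgroupOf_map_subtype,
          ← MonoidHom.range_eq_map, Subgroup.range_subtype, inf_eq_left.2 (hX ▸ le_sup_left),
          inf_eq_left.2 (hX ▸ le_sup_right), hX]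
      rw [hsup] at hle
      rw [← Subgroup.map_subtype_commutator, commutator_def]
      exact (Subgroup.map_mono hle).trans (by rw [Subgroup.subgroupOf_map_subtype]; exact inf_le_left)
    exact mem_part hcase.1 (conn_trans hAB (conn_of_case hk2 hk3 hG hσ hτ hnop hne).2)
  · rintro _ ⟨B, hB, rfl⟩ _ ⟨C, hC, rfl⟩
    have hex : ∀ D, Conn G B D → D ∈ Cfsg.quadraticRootSubgroups G →
        ∃ g ∈ partGroup G A, D = Cfsg.conjBy B g := by
      intro D hBD
      induction hBD with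
      | refl => exact fun _ => ⟨1, one_mem _, (conjBy_one B).symm⟩
      | @tail P D hBP hPD ih =>
        intro _
        obtain ⟨⟨σ, hσ, rfl⟩, ⟨τ, hτ, rfl⟩, hp⟩ := hPD
        obtain ⟨g, hg, hge⟩ := ih ⟨σ, hσ, rfl⟩
        have hop := opposite_of_rankOne hk2 hk3 hG hσ hτ hp
        obtain ⟨b, hb, hconj, -⟩ := exists_partner hk2 hk3 hσ hτ hop
        refine ⟨σ * b⁻¹ * g, mul_mem (mul_mem ?_ (inv_mem ?_)) hg, ?_⟩
        · exact le_partGroup (mem_part ⟨σ, hσ, rfl⟩ (conn_trans hB.2 hBP)) (Subgroup.subset_closure (self_mem_class hσ))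
        · exact le_partGroup (mem_part ⟨τ, hτ, rfl⟩ (conn_trans hB.2
            (conn_trans hBP (conn_of_opposite hk2 hk3 hG hσ hτ hop)))) (Subgroup.subset_closure hb)
        · rw [← conjBy_conjBy, ← hge]; exact hconj.symm
    obtain ⟨g, hg, rfl⟩ := hex C (conn_trans (conn_symm hB.2) hC.2) hC.1
    refine ⟨⟨g, hg⟩, Subgroup.map_injective (partGroup G A).subtype_injective ?_⟩
    rw [map_conjBy, Subgroup.subgroupOf_map_subtype, Subgroup.subgroupOf_map_subtype,
      inf_eq_left.2 (le_partGroup hB), inf_eq_left.2 (le_partGroup (conj_part hk2 hk3 hG hA hB hg))]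
    rfl

omit hk2 hk3 hG [FiniteDimensional k M] in
theorem part_eq {A B : Subgroup GLM} (h : Conn G A B) : part G A = part G B :=
  Set.ext fun _ => ⟨fun hC => ⟨hC.1, conn_trans (conn_symm h) hC.2⟩, fun hC => ⟨hC.1, conn_trans h hC.2⟩⟩

/-- There are finitely many components. -/
theorem finite_parts : (part G '' Cfsg.quadraticRootSubgroups G).Finite := by
  classical
  have hch : ∀ P : (part G '' Cfsg.quadraticRootSubgroups G), ∃ σ ∈ Cfsg.minimalQuadraticElements G,
      part G (Cfsg.sameActionSubgroup G σ) = (P : Set (Subgroup GLM)) := by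
    rintro ⟨_, A, ⟨σ, hσ, rfl⟩, rfl⟩
    exact ⟨σ, hσ, rfl⟩
  choose f hf hfe using hch
  choose g hg hgm hop using fun P => exists_opposite hk2 hk3 hG (hf P)
  have hli : LinearIndependent k (fun P => ((f P : GLM) : End') - 1) := by
    rw [linearIndependent_iff']
    intro S c hsum P hP
    obtain ⟨t, ht⟩ : ∃ t, t = ((g P * f P * (g P)⁻¹ : GLM) : End') - 1 := ⟨_, rfl⟩
    obtain ⟨L, hL⟩ : ∃ L : End' →ₗ[k] End', ∀ x, L x = x * t - t * x :=
      ⟨LinearMap.mulRight k t - LinearMap.mulLeft k t, fun x => rfl⟩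
    have hLQ : ∀ Q, Q ≠ P → L (((f Q : GLM) : End') - 1) = 0 := by
      intro Q hQ
      have hn : ¬ Conn G (Cfsg.sameActionSubgroup G (f Q)) (Cfsg.sameActionSubgroup G (g P * f P * (g P)⁻¹)) := by
        intro h
        refine hQ (Subtype.ext ?_)
        rw [← hfe Q, ← hfe P, part_eq h, part_eq (conn_of_opposite hk2 hk3 hG (hf P) (hgm P) (hop P))]
      have h0 := commute_of_not_conn hk2 hk3 hG (hf Q) (hgm P) hn
      have hcm : f Q * (g P * f P * (g P)⁻¹) = g P * f P * (g P)⁻¹ * f Q := by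
        rw [← commutatorElement_eq_one_iff_mul_comm, ← Subgroup.mem_bot, ← h0]
        exact Subgroup.commutator_mem_commutator (Subgroup.subset_closure (self_mem_class (hf Q)))
          (Subgroup.subset_closure (self_mem_class (hgm P)))
      have hcm' := congrArg (fun x : GLM => (x : End')) hcm
      simp only [Units.val_mul] at hcm'
      rw [hL, ht, Units.val_mul, Units.val_mul]
      simp only [sub_mul, mul_sub, one_mul, mul_one]
      linear_combination (norm := abel) hcm'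
    have hLP : L (((f P : GLM) : End') - 1) ≠ 0 := by
      intro e
      rw [hL, sub_eq_zero] at e
      have hop' := hop P
      refine (hf P).1.2.1.2 (LinearMap.range_eq_bot.1 (eq_bot_iff.2 fun v hv => ?_))
      rw [← hop'.1]
      refine ⟨hv, LinearMap.mem_ker.2 ?_⟩
      obtain ⟨m, rfl⟩ := hv
      have h2 : t ((((f P : GLM) : End') - 1) m) ∈ (rf (g P * f P * (g P)⁻¹) ⊓ kf (f P) : Submodule k M) := by
        refine ⟨ht ▸ ⟨_, rfl⟩, LinearMap.mem_ker.2 ?_⟩
        have e' := LinearMap.congr_fun e m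
        simp only [Module.End.mul_apply] at e'
        rw [← e', ← Module.End.mul_apply (((f P : GLM) : End') - 1), (hf P).1.2.1.1]
        rfl
      rw [hop'.2, Submodule.mem_bot] at h2
      rwa [ht] at h2
    have h1 := congrArg L hsum
    rw [map_sum, map_zero, Finset.sum_eq_single P (fun Q _ hQ => by rw [map_smul, hLQ Q hQ, smul_zero])
      (fun h => absurd hP h), map_smul] at h1
    exact (smul_eq_zero.1 h1).resolve_right hLP
  have : Finite (part G '' Cfsg.quadraticRootSubgroups G) := hli.finite_of_isNoetherian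
  exact Set.toFinite _

end Cfsg.Agent.Fus.QPair
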