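import Mathlib
import Cfsg.Agent.Lib.Fus.QuadFixedRing
import Cfsg.Agent.Lib.Fus.QuadPairRootSet
import Cfsg.Agent.Lib.Fus.QuadPairComponents

/-!
The quadratic elements of minimal rank of a linear group over `ZMod p` without normal `p`-subgroups:
partners, classes of root groups, and the classes of elements inside one root group.
-/

set_option autoImplicit false
set_option linter.unusedSectionVars false

namespace Cfsg.Agent.Fus.QFix

open Cfsg.Agent.Fus.QPair

variable {p : ℕ} [Fact p.Prime] {V : Type} [AddCommGroup V] [Module (ZMod p) V] [Finite V]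
  {L : Subgroup (LinearMap.GeneralLinearGroup (ZMod p) V)}

local notation "GLM" => LinearMap.GeneralLinearGroup (ZMod p) V
local notation "End'" => Module.End (ZMod p) V

instance finiteEnd : Finite (Module.End (ZMod p) V) :=
  Finite.of_injective (fun f : Module.End (ZMod p) V => (f : V → V)) DFunLike.coe_injective

theorem char_ne (hp : 5 ≤ p) : ringChar (ZMod p) ≠ 2 ∧ Nat.card (ZMod p) ≠ 3 :=
  ⟨by rw [ZMod.ringChar_zmod_n]; omega, by rw [Nat.card_zmod]; omega⟩

/-- The quadratic elements of a group over the prime field. -/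
theorem mem_quadratic_iff {σ : GLM} :
    σ ∈ Cfsg.quadraticElements L ↔
      σ ∈ L ∧ ((σ : End') - 1) * ((σ : End') - 1) = 0 ∧ (σ : End') - 1 ≠ 0 := by
  refine ⟨fun h => ⟨h.1, h.2.1.1, h.2.1.2⟩, fun h => ⟨h.1, ⟨h.2.1, h.2.2⟩, ?_⟩⟩
  rintro τ ⟨c, hc⟩
  have e : τ = σ ^ c.val := by
    refine Units.ext ?_
    rw [hc, Units.val_pow_eq_pow_val]
    conv_rhs => rw [show (σ : End') = 1 + ((σ : End') - 1) from (add_sub_cancel _ _).symm]
    rw [one_add_pow_of_sq (p := p) h.2.1, ZMod.natCast_zmod_val]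
  exact e ▸ L.pow_mem h.1 _

theorem exists_minimal (h : ∃ σ, σ ∈ Cfsg.quadraticElements L) :
    ∃ σ, σ ∈ Cfsg.minimalQuadraticElements L := by
  classical
  obtain ⟨σ, hσ⟩ := h
  have hex : ∃ n, ∃ τ ∈ Cfsg.quadraticElements L, Cfsg.commutatorRank τ = n := ⟨_, σ, hσ, rfl⟩
  obtain ⟨τ, hτ, e⟩ := Nat.find_spec hex
  exact ⟨τ, hτ, fun ρ hρ => e ▸ Nat.find_min' hex ⟨ρ, hρ, rfl⟩⟩

/-- A group without normal `p`-subgroups has no normal unipotent subgroups. -/
theorem unipFree (hO : ∀ N : Subgroup GLM, N ≤ L → IsPGroup p N →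
    (∀ g ∈ L, ∀ n ∈ N, g * n * g⁻¹ ∈ N) → N = ⊥) : UnipFree L := by
  intro N hN hu hn
  refine hO N hN (fun g => ?_) hn
  obtain ⟨n, hn'⟩ := hu
  rcases subsingleton_or_nontrivial V with h | h
  · exact ⟨0, Subtype.ext (Units.ext (LinearMap.ext fun v => Subsingleton.elim _ _))⟩
  haveI : CharP (Module.End (ZMod p) V) p :=
    charP_of_injective_algebraMap (RingHom.injective (algebraMap (ZMod p) (Module.End (ZMod p) V))) p
  have h0 : (((g : GLM) : End') - 1) ^ n = 0 := by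
    have := hn' (List.replicate n (g : GLM)) (fun x hx => List.eq_of_mem_replicate hx ▸ g.2) List.length_replicate
    rw [← this]
    clear this hn'
    induction n with
    | zero => simp
    | succ m ih =>
      rw [pow_succ', ih]
      simp [List.replicate_succ, List.bind_eq_flatMap, List.pure_def]
  refine ⟨n, Subtype.ext (Units.ext ?_)⟩
  rw [Subgroup.coe_pow, Units.val_pow_eq_pow_val, Subgroup.coe_one, Units.val_one, ← sub_eq_zero]
  have h1 := sub_pow_char_pow_of_commute (Commute.one_right ((g : GLM) : End')) (p := p) (n := n)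
  rw [one_pow] at h1
  rw [← h1]
  exact pow_eq_zero_of_le (Nat.lt_pow_self (Fact.out : p.Prime).one_lt).le h0

/-- The image of the group in the endomorphism ring. -/
def mset (L : Subgroup GLM) : Submonoid End' := L.toSubmonoid.map (Units.coeHom End')

theorem mset_inv : ∀ x ∈ mset L, ∀ y, x * y = 1 → y * x = 1 → y ∈ mset L := by
  rintro _ ⟨g, hg, rfl⟩ y hxy -
  exact ⟨g⁻¹, L.inv_mem hg, Units.inv_eq_of_mul_eq_one_right hxy⟩

theorem scalar_mem {σ : GLM} (hσ : σ ∈ Cfsg.minimalQuadraticElements L) (c : ZMod p) :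
    1 + c • ((σ : End') - 1) ∈ mset L := by
  obtain ⟨g, hg⟩ := QPair.exists_unit hσ.1.2.1.1 c
  exact ⟨g, hσ.1.2.2 ⟨c, hg⟩, hg⟩

theorem opposite_of_npair {σ τ : GLM} (h : NPair ((σ : End') - 1) ((τ : End') - 1)) : Opposite σ τ := by
  have key : ∀ {σ τ : GLM}, NPair ((σ : End') - 1) ((τ : End') - 1) → rf σ ⊓ kf τ = ⊥ := by
    intro σ τ h
    refine (Submodule.eq_bot_iff _).2 fun v hv => ?_
    obtain ⟨⟨m, rfl⟩, hk⟩ := hv
    replace hk := LinearMap.mem_ker.1 hk
    have e := LinearMap.congr_fun h.sts m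
    simp only [Module.End.mul_apply] at e
    rw [hk, map_zero] at e
    exact e.symm
  exact ⟨key h, key h.symm⟩

variable (hp : 5 ≤ p) (hG : UnipFree L)

include hp hG

/-- An opposite element has a normalised one in its class. -/
theorem exists_pair {σ τ : GLM} (hσ : σ ∈ Cfsg.minimalQuadraticElements L)
    (hτ : τ ∈ Cfsg.minimalQuadraticElements L) (hop : Opposite σ τ) :
    ∃ τ₁ ∈ Cfsg.sameActionClass L τ, NPair ((σ : End') - 1) ((τ₁ : End') - 1) := by
  obtain ⟨hk2, hk3⟩ := char_ne hp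
  have hs := hσ.1.2.1.1
  have ht := hτ.1.2.1.1
  obtain ⟨E, q, h, -, hEs, hEt⟩ :=
    exists_field hk2 hk3 hσ hτ (not_isNilpotent_of_opposite hs ht hσ.1.2.1.2 hop)
  have hfam : famGroup ((σ : End') - 1) ((τ : End') - 1) ≤ L :=
    (famGroup_le hσ hτ).trans (sup_le subgroup_le subgroup_le)
  have hcl := phi_low_class hk2 hk3 hs ht h hτ rfl hEt hfam 1
  refine ⟨_, hcl, ?_⟩
  have e : ((phi hs ht h (RingSL.low ((1 : (AdjoinRoot q)ˣ) : AdjoinRoot q)) : GLM) : End') - 1 =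
      mu ((σ : End') - 1) ((τ : End') - 1) h 1 0 := by
    rw [show ((1 : (AdjoinRoot q)ˣ) : AdjoinRoot q) = ((zUnit h)⁻¹ : (AdjoinRoot q)ˣ).val * (zUnit h : AdjoinRoot q) by
      rw [Units.inv_mul, Units.val_one], phi_low hs ht h, add_sub_cancel_left]
    rfl
  rw [e]
  have h01 : mu ((σ : End') - 1) ((τ : End') - 1) h 0 1 = (σ : End') - 1 := hEs
  have A1 : mu ((σ : End') - 1) ((τ : End') - 1) h 0 1 * mu ((σ : End') - 1) ((τ : End') - 1) h 1 0 *
      mu ((σ : End') - 1) ((τ : End') - 1) h 0 1 = mu ((σ : End') - 1) ((τ : End') - 1) h 0 1 := by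
    simp [mu_mul hs ht h]
  have A2 : mu ((σ : End') - 1) ((τ : End') - 1) h 1 0 * mu ((σ : End') - 1) ((τ : End') - 1) h 0 1 *
      mu ((σ : End') - 1) ((τ : End') - 1) h 1 0 = mu ((σ : End') - 1) ((τ : End') - 1) h 1 0 := by
    simp [mu_mul hs ht h]
  rw [h01] at A1 A2
  exact ⟨hs, by simp [mu_mul hs ht h], A1, A2⟩

/-- Every minimal element has a partner. -/
theorem exists_partner_any {σ : GLM} (hσ : σ ∈ Cfsg.minimalQuadraticElements L) :
    ∃ τ ∈ Cfsg.minimalQuadraticElements L, NPair ((σ : End') - 1) ((τ : End') - 1) := by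
  obtain ⟨hk2, hk3⟩ := char_ne hp
  obtain ⟨g, -, hγ, hop⟩ := exists_opposite hk2 hk3 hG hσ
  obtain ⟨τ, hτ, hp'⟩ := exists_pair hp hG hσ hγ hop
  exact ⟨τ, hτ.1, hp'⟩

omit hp hG

/-- The root groups are conjugate. -/
def RConj (L : Subgroup GLM) (σ τ : GLM) : Prop := ∃ g ∈ L, g * σ * g⁻¹ ∈ Cfsg.sameActionClass L τ

/-- The elements are conjugate. -/
def EConj (L : Subgroup GLM) (σ τ : GLM) : Prop := ∃ g ∈ L, g * σ * g⁻¹ = τ

theorem EConj.refl (σ : GLM) : EConj L σ σ := ⟨1, L.one_mem, by simp⟩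

theorem EConj.symm {σ τ : GLM} (h : EConj L σ τ) : EConj L τ σ := by
  obtain ⟨g, hg, rfl⟩ := h
  exact ⟨g⁻¹, L.inv_mem hg, by group⟩

theorem EConj.trans {σ τ ρ : GLM} (h : EConj L σ τ) (h' : EConj L τ ρ) : EConj L σ ρ := by
  obtain ⟨g, hg, rfl⟩ := h
  obtain ⟨f, hf, rfl⟩ := h'
  exact ⟨f * g, L.mul_mem hf hg, by group⟩

theorem EConj.minimal {σ τ : GLM} (h : EConj L σ τ) (hσ : σ ∈ Cfsg.minimalQuadraticElements L) :
    τ ∈ Cfsg.minimalQuadraticElements L := by
  obtain ⟨g, hg, rfl⟩ := h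
  exact (conj_minimal hg hσ).1

theorem conj_class {g x τ : GLM} (hg : g ∈ L) (hx : x ∈ Cfsg.sameActionClass L τ)
    (hτ : τ ∈ Cfsg.minimalQuadraticElements L) : g * x * g⁻¹ ∈ Cfsg.sameActionClass L (g * τ * g⁻¹) := by
  obtain ⟨h1, h2, h3⟩ := conj_minimal hg hx.1
  obtain ⟨-, h5, h6⟩ := conj_minimal hg hτ
  refine ⟨h1, ?_, ?_⟩
  · show kf (g * x * g⁻¹) = kf (g * τ * g⁻¹)
    rw [h3, h6]; exact congrArg _ hx.2.1
  · show rf (g * x * g⁻¹) = rf (g * τ * g⁻¹)
    rw [h2, h5]; exact congrArg _ hx.2.2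

theorem class_symm {σ τ : GLM} (h : σ ∈ Cfsg.sameActionClass L τ) (hτ : τ ∈ Cfsg.minimalQuadraticElements L) :
    τ ∈ Cfsg.sameActionClass L σ := ⟨hτ, h.2.1.symm, h.2.2.symm⟩

theorem class_trans {σ τ ρ : GLM} (h : σ ∈ Cfsg.sameActionClass L τ) (h' : τ ∈ Cfsg.sameActionClass L ρ) :
    σ ∈ Cfsg.sameActionClass L ρ := ⟨h.1, h.2.1.trans h'.2.1, h.2.2.trans h'.2.2⟩

theorem EConj.rconj {σ τ : GLM} (h : EConj L σ τ) (hσ : σ ∈ Cfsg.minimalQuadraticElements L) : RConj L σ τ := by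
  have hτ := h.minimal hσ
  obtain ⟨g, hg, rfl⟩ := h
  exact ⟨g, hg, self_mem_class hτ⟩

theorem RConj.trans {σ τ ρ : GLM} (h : RConj L σ τ) (h' : RConj L τ ρ)
    (hτ : τ ∈ Cfsg.minimalQuadraticElements L) : RConj L σ ρ := by
  obtain ⟨g, hg, hc⟩ := h
  obtain ⟨f, hf, hc'⟩ := h'
  refine ⟨f * g, L.mul_mem hf hg, ?_⟩
  rw [show f * g * σ * (f * g)⁻¹ = f * (g * σ * g⁻¹) * f⁻¹ by group]
  exact class_trans (conj_class hf hc hτ) hc'

theorem RConj.symm {σ τ : GLM} (h : RConj L σ τ) (hσ : σ ∈ Cfsg.minimalQuadraticElements L)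
    (hτ : τ ∈ Cfsg.minimalQuadraticElements L) : RConj L τ σ := by
  obtain ⟨g, hg, hc⟩ := h
  refine ⟨g⁻¹, L.inv_mem hg, ?_⟩
  have := conj_class (L.inv_mem hg) (class_symm hc hτ) (conj_minimal hg hσ).1
  rwa [show g⁻¹ * (g * σ * g⁻¹) * g⁻¹⁻¹ = σ by group] at this

include hp hG

/-- Connected root groups are conjugate. -/
theorem rconj_of_conn {σ τ : GLM} (hσ : σ ∈ Cfsg.minimalQuadraticElements L)
    (hτ : τ ∈ Cfsg.minimalQuadraticElements L)
    (h : Conn L (Cfsg.sameActionSubgroup L σ) (Cfsg.sameActionSubgroup L τ)) : RConj L σ τ := by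
  obtain ⟨hk2, hk3⟩ := char_ne hp
  have hne : σ ≠ 1 := fun e => hσ.1.2.1.2 (by rw [e, Units.val_one, sub_self])
  suffices key : ∀ B, Conn L (Cfsg.sameActionSubgroup L σ) B → ∀ τ ∈ Cfsg.minimalQuadraticElements L,
      B = Cfsg.sameActionSubgroup L τ → RConj L σ τ from key _ h τ hτ rfl
  intro B hB
  induction hB with
  | refl =>
    intro τ hτ e
    refine ⟨1, L.one_mem, ?_⟩
    rw [one_mul, inv_one, mul_one]
    refine mem_class_of_mem hk2 hk3 hG hτ ?_ hne
    rw [← e]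
    exact Subgroup.subset_closure (self_mem_class hσ)
  | tail _ h2 ih =>
    intro τ hτ e
    obtain ⟨⟨π, hπ, rfl⟩, -, hpair⟩ := h2
    rw [e] at hpair
    have hop := opposite_of_rankOne hk2 hk3 hG hπ hτ hpair
    obtain ⟨b, hb, hconj, -⟩ := QPair.exists_partner hk2 hk3 hπ hτ hop
    have hgL : π * b⁻¹ ∈ L := L.mul_mem hπ.1.1 (L.inv_mem hb.1.1.1)
    have hmem : π * b⁻¹ * π * (π * b⁻¹)⁻¹ ∈ Cfsg.sameActionSubgroup L τ :=
      hconj ▸ ⟨π, Subgroup.subset_closure (self_mem_class hπ), rfl⟩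
    have hc := mem_class_of_mem hk2 hk3 hG hτ hmem
      (fun e => (conj_minimal hgL hπ).1.1.2.1.2 (by rw [e, Units.val_one, sub_self]))
    exact (ih π hπ rfl).trans ⟨_, hgL, hc⟩ hπ

/-- The two members of a pair have conjugate root groups. -/
theorem rconj_of_npair {σ τ : GLM} (hσ : σ ∈ Cfsg.minimalQuadraticElements L)
    (hτ : τ ∈ Cfsg.minimalQuadraticElements L) (h : NPair ((σ : End') - 1) ((τ : End') - 1)) : RConj L σ τ := by
  obtain ⟨hk2, hk3⟩ := char_ne hp
  exact rconj_of_conn hp hG hσ hτ (conn_of_opposite hk2 hk3 hG hσ hτ (opposite_of_npair h))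

/-- Elements of nonconjugate root groups commute. -/
theorem commute_of_not_rconj {σ τ : GLM} (hσ : σ ∈ Cfsg.minimalQuadraticElements L)
    (hτ : τ ∈ Cfsg.minimalQuadraticElements L) (h : ¬ RConj L σ τ) :
    Commute ((σ : End') - 1) ((τ : End') - 1) := by
  obtain ⟨hk2, hk3⟩ := char_ne hp
  have hb := commute_of_not_conn hk2 hk3 hG hσ hτ fun hc => h (rconj_of_conn hp hG hσ hτ hc)
  have e : σ * τ = τ * σ := by
    rw [← commutatorElement_eq_one_iff_mul_comm, ← Subgroup.mem_bot, ← hb]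
    exact Subgroup.commutator_mem_commutator (Subgroup.subset_closure (self_mem_class hσ))
      (Subgroup.subset_closure (self_mem_class hτ))
  have e' : Commute (σ : End') (τ : End') := by
    show (σ : End') * (τ : End') = (τ : End') * (σ : End')
    rw [← Units.val_mul, e, Units.val_mul]
  exact (e'.sub_left (Commute.one_left _)).sub_right ((Commute.one_right _).sub_left (Commute.one_right _))

/-- Conjugation by a Weyl element exchanges the two root spaces. -/
theorem exists_swap {σ τ : GLM} (hσ : σ ∈ Cfsg.minimalQuadraticElements L)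
    (hτ : τ ∈ Cfsg.minimalQuadraticElements L) (h : NPair ((σ : End') - 1) ((τ : End') - 1)) {y : End'}
    (hy : y ∈ rootSpace L τ) :
    ∃ g ∈ L, (g : End') * y * ((g⁻¹ : GLM) : End') = -(((σ : End') - 1) * y * ((σ : End') - 1)) ∧
      -(((σ : End') - 1) * y * ((σ : End') - 1)) ∈ rootSpace L σ := by
  obtain ⟨hk2, hk3⟩ := char_ne hp
  obtain ⟨s, hs⟩ : ∃ s, s = (σ : End') - 1 := ⟨_, rfl⟩
  obtain ⟨t, ht⟩ : ∃ t, t = (τ : End') - 1 := ⟨_, rfl⟩
  rw [← hs, ← ht] at h
  rw [← hs]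
  have h' : ∀ c : ZMod p, 1 + c • s ∈ mset L := hs ▸ scalar_mem hσ
  have hmem : wel (1 : ZMod p) s t ∈ mset L := by
    rw [← h.wel_eq one_ne_zero]
    refine Submonoid.mul_mem _ (Submonoid.mul_mem _ (h' _) ?_) (h' _)
    rw [sub_eq_add_neg, ← neg_smul, ht]
    exact scalar_mem hτ _
  obtain ⟨g, hg, hge⟩ := hmem
  have hge' : (g : End') = wel (1 : ZMod p) s t := hge
  have hgi : ((g⁻¹ : GLM) : End') = wel (-1 : ZMod p) s t :=
    Units.inv_eq_of_mul_eq_one_right (by rw [hge', h.wel_mul_neg one_ne_zero])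
  have htm : t ∈ rootSpace L τ := ht ▸ UnipJoin.sub_one_mem (self_mem_class hτ)
  have h3 : t * y = 0 := rootSpace_mul hτ.1.2.1.1 htm hy
  have h4 : y * t = 0 := rootSpace_mul hτ.1.2.1.1 hy htm
  obtain ⟨hyk, hyr⟩ := rootSpace_le hy
  have h1 : proj s t * y = y := by
    refine LinearMap.ext fun v => ?_
    obtain ⟨w, hw⟩ := hyr ⟨v, rfl⟩
    rw [← ht] at hw
    rw [Module.End.mul_apply, ← hw, ← Module.End.mul_apply, h.proj_right.1]
  have h2 : y * proj s t = y := by
    refine LinearMap.ext fun v => ?_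
    have hv : proj s t v - v ∈ LinearMap.ker y := hyk (by
      show ((τ : End') - 1) (proj s t v - v) = 0
      rw [← ht, map_sub, ← Module.End.mul_apply, h.proj_right.2, sub_self])
    rw [LinearMap.mem_ker, map_sub, sub_eq_zero] at hv
    exact hv
  have key : (g : End') * y * ((g⁻¹ : GLM) : End') = -(s * y * s) := by
    rw [hge', hgi, h.wel_conj h1 h2 h3 h4]
  refine ⟨g, hg, key, ?_⟩
  rw [← key]
  have hval : ((g * τ * g⁻¹ : GLM) : End') - 1 = -s := by
    rw [UnipJoin.conj_sub_one, hge', hgi, ← ht, h.wel_conj h.proj_right.1 h.proj_right.2 h.tt h.tt, h.sts]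
  have hc : g * τ * g⁻¹ ∈ Cfsg.sameActionClass L σ := by
    refine ⟨(conj_minimal hg hτ).1, ?_, ?_⟩
    · rw [hval, ← hs]
      ext v; simp
    · rw [hval, ← hs]
      exact LinearMap.range_neg s
  rw [← rootSpace_congr hc]
  exact conj_rootSpace hk2 hk3 hG hg hy

/-- The map `x ↦ a t x t a` is a conjugation of the root space. -/
theorem exists_double {r τ : GLM} (hr : r ∈ Cfsg.minimalQuadraticElements L)
    (hτ : τ ∈ Cfsg.minimalQuadraticElements L) (h : NPair ((r : End') - 1) ((τ : End') - 1)) {a x : End'}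
    (ha : a ∈ rootSpace L r) (ha0 : a ≠ 0) (hx : x ∈ rootSpace L r) :
    ∃ g ∈ L, (g : End') * x * ((g⁻¹ : GLM) : End') = a * ((τ : End') - 1) * x * ((τ : End') - 1) * a ∧
      a * ((τ : End') - 1) * x * ((τ : End') - 1) * a ∈ rootSpace L r := by
  obtain ⟨hk2, hk3⟩ := char_ne hp
  obtain ⟨t, ht⟩ : ∃ t, t = (τ : End') - 1 := ⟨_, rfl⟩
  obtain ⟨g1, hg1, e1, m1⟩ := exists_swap hp hG hτ hr h.symm hx
  rw [← ht] at e1 m1
  obtain ⟨α, hα, hαe⟩ := exists_class hk2 hk3 hG hr ha ha0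
  have hop : Opposite α τ := by
    obtain ⟨o1, o2⟩ := opposite_of_npair h
    exact ⟨by unfold rf; rw [hα.2.2]; exact o1, by unfold kf; rw [hα.2.1]; exact o2⟩
  obtain ⟨τ', hτ', hpair⟩ := exists_pair hp hG hα.1 hτ hop
  rw [← rootSpace_congr hτ'] at m1
  obtain ⟨g2, hg2, e2, m2⟩ := exists_swap hp hG hα.1 hτ'.1 hpair m1
  rw [hαe, add_sub_cancel_left, rootSpace_congr hα] at m2
  rw [hαe, add_sub_cancel_left] at e2
  have hval : -(a * -(t * x * t) * a) = a * t * x * t * a := by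
    rw [mul_neg, neg_mul, neg_neg]; simp only [mul_assoc]
  rw [hval] at e2 m2
  rw [← ht]
  refine ⟨g2 * g1, L.mul_mem hg2 hg1, ?_, m2⟩
  rw [← e2, ← e1, mul_inv_rev, Units.val_mul, Units.val_mul]
  simp only [mul_assoc]

/-- A root group meets at most two classes of elements. -/
theorem econj_of_three {σ a b : GLM} (hσ : σ ∈ Cfsg.minimalQuadraticElements L)
    (ha : a ∈ Cfsg.sameActionClass L σ) (hb : b ∈ Cfsg.sameActionClass L σ) :
    EConj L σ a ∨ EConj L σ b ∨ EConj L a b := by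
  classical
  obtain ⟨hk2, hk3⟩ := char_ne hp
  letI : Fintype End' := Fintype.ofFinite _
  obtain ⟨Λ, hΛ⟩ : ∃ Λ : Finset End', Λ = Finset.univ.filter fun z => z ∈ rootSpace L σ ∧ z ≠ 0 := ⟨_, rfl⟩
  let cls : GLM → Finset End' := fun r =>
    Λ.filter fun z => ∃ g ∈ L, ((g * r * g⁻¹ : GLM) : End') = 1 + z
  have hhalf : ∀ r ∈ Cfsg.sameActionClass L σ, Λ.card ≤ 2 * (cls r).card := by
    intro r hr
    obtain ⟨τ, hτ, hpair⟩ := exists_partner_any hp hG hr.1
    obtain ⟨s, hs⟩ : ∃ s, s = (r : End') - 1 := ⟨_, rfl⟩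
    obtain ⟨t, ht⟩ : ∃ t, t = (τ : End') - 1 := ⟨_, rfl⟩
    rw [← hs, ← ht] at hpair
    have hs0 : s ≠ 0 := hs ▸ hr.1.1.2.1.2
    have hsm : s ∈ rootSpace L r := hs ▸ UnipJoin.sub_one_mem (self_mem_class hr.1)
    have hΛ' : ∀ z, z ∈ Λ ↔ z ∈ rootSpace L r ∧ z ≠ 0 := fun z => by
      rw [hΛ, Finset.mem_filter, rootSpace_congr hr]
      simp
    have hD : ∀ z ∈ rootSpace L r, ∀ v ∈ LinearMap.range s, (z * t) v ∈ LinearMap.range s := by
      intro z hz v _
      have := (rootSpace_le hz).2 (⟨t v, rfl⟩ : z (t v) ∈ LinearMap.range z)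
      rwa [rf, ← hs] at this
    let ψ : rootSpace L r →ₗ[ZMod p] Module.End (ZMod p) (LinearMap.range s) :=
      { toFun := fun z => ((z : End') * t).restrict (hD z z.2)
        map_add' := fun z z' => LinearMap.ext fun v => Subtype.ext (by simp [add_mul])
        map_smul' := fun c z => LinearMap.ext fun v => Subtype.ext (by simp) }
    have hψone : ψ ⟨s, hsm⟩ = 1 := by
      refine LinearMap.ext fun v => Subtype.ext ?_
      obtain ⟨_, m, rfl⟩ := v
      exact LinearMap.congr_fun hpair.sts m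
    have hψinj : ∀ z : rootSpace L r, (z : End') ≠ 0 → LinearMap.ker (ψ z) = ⊥ := by
      intro z hz
      refine LinearMap.ker_eq_bot'.2 fun v hv => Subtype.ext ?_
      obtain ⟨_, m, rfl⟩ := v
      have h1 : t (s m) ∈ LinearMap.ker (z : End') := congrArg Subtype.val hv
      rw [(ker_range hk2 hk3 hG hr.1 z.2 hz).1] at h1
      have h2 : s (t (s m)) = 0 := by
        have h1' : ((r : End') - 1) (t (s m)) = 0 := h1
        rwa [← hs] at h1'
      have h3 := LinearMap.congr_fun hpair.sts m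
      simp only [Module.End.mul_apply] at h3
      show s m = 0
      rw [← h3, h2]
    have hψ0 : ∀ z : rootSpace L r, ψ z = 0 → (z : End') = 0 := by
      intro z hz
      by_contra h0
      refine hs0 (LinearMap.ext fun m => ?_)
      have := (LinearMap.ker_eq_bot'.1 (hψinj z h0)) ⟨s m, ⟨m, rfl⟩⟩ (by rw [hz]; rfl)
      exact congrArg Subtype.val this
    have hU : ∀ z x : rootSpace L r, (z : End') ≠ 0 →
        ∃ y : rootSpace L r, (y : End') = (z : End') * t * x * t * z ∧ ψ y = ψ z * ψ x * ψ z := by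
      intro z x hz
      obtain ⟨g, -, -, hm⟩ := exists_double hp hG hr.1 hτ (hs ▸ ht ▸ hpair) z.2 hz x.2
      rw [← ht] at hm
      exact ⟨⟨_, hm⟩, rfl, LinearMap.ext fun v => Subtype.ext rfl⟩
    have hf : ∀ z ∈ Λ, z * t * z ∈ cls r := by
      intro z hz
      rw [hΛ'] at hz
      obtain ⟨g, hg, he, hm⟩ := exists_double hp hG hr.1 hτ (hs ▸ ht ▸ hpair) hz.1 hz.2 (hs ▸ hsm :)
      have e : z * t * s * t * z = z * t * z := by
        rw [show z * t * s * t * z = z * (t * s * t) * z by simp only [mul_assoc], hpair.tst]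
      rw [← ht, ← hs, e] at he
      rw [← ht, ← hs, e] at hm
      have hne : z * t * z ≠ 0 := by
        intro h0
        rw [h0] at he
        refine hs0 ?_
        have := congrArg (fun w : End' => ((g⁻¹ : GLM) : End') * w * (g : End')) he
        simpa [← mul_assoc, ← Units.val_mul, mul_assoc] using this
      refine Finset.mem_filter.2 ⟨(hΛ' _).2 ⟨hm, hne⟩, g, hg, ?_⟩
      rw [← he, hs, ← UnipJoin.conj_sub_one, add_sub_cancel]
    have hfib : ∀ y ∈ Λ.image (fun z => z * t * z), (Λ.filter fun z => z * t * z = y).card ≤ 2 := by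
      intro y hy
      obtain ⟨z, hz, rfl⟩ := Finset.mem_image.1 hy
      refine (Finset.card_le_card (t := {z, -z}) fun w hw => ?_).trans Finset.card_le_two
      obtain ⟨hw, hwz⟩ := Finset.mem_filter.1 hw
      rw [hΛ'] at hw hz
      have hsq : ψ ⟨w, hw.1⟩ * ψ ⟨w, hw.1⟩ = ψ ⟨z, hz.1⟩ * ψ ⟨z, hz.1⟩ :=
        LinearMap.ext fun v => Subtype.ext (by
          show (w * t) ((w * t) v) = (z * t) ((z * t) v)
          rw [← Module.End.mul_apply, ← Module.End.mul_apply, ← mul_assoc, hwz, ← mul_assoc])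
      have hsmem : (1 : Module.End (ZMod p) (LinearMap.range s)) ∈ LinearMap.range ψ := ⟨_, hψone⟩
      rcases eq_or_eq_neg_of_mul_self hp (LinearMap.range ψ) hsmem (by
          rintro _ ⟨u, rfl⟩ hu
          exact (LinearMap.isUnit_iff_ker_eq_bot _).2 (hψinj u fun h0 => hu (by
            rw [show u = 0 from Subtype.ext h0, map_zero]))) (by
          rintro _ ⟨u, rfl⟩ _ ⟨x, rfl⟩
          by_cases hu : (u : End') = 0
          · rw [show u = 0 from Subtype.ext hu, map_zero, zero_mul, zero_mul]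
            exact Submodule.zero_mem _
          · obtain ⟨y, -, hy⟩ := hU u x hu
            exact ⟨y, hy⟩) ⟨_, rfl⟩ ⟨_, rfl⟩ hsq with e | e
      · have := hψ0 (⟨w, hw.1⟩ - ⟨z, hz.1⟩) (by rw [map_sub, e, sub_self])
        simp [sub_eq_zero.1 (show w - z = 0 from this)]
      · have := hψ0 (⟨w, hw.1⟩ + ⟨z, hz.1⟩) (by rw [map_add, e, neg_add_cancel])
        simp [eq_neg_of_add_eq_zero_left (show w + z = 0 from this)]
    exact (Finset.card_le_mul_card_image Λ 2 hfib).trans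
      (Nat.mul_le_mul_left 2 (Finset.card_le_card (Finset.image_subset_iff.2 hf)))
  by_contra hcon
  push Not at hcon
  obtain ⟨n1, n2, n3⟩ := hcon
  have hdis : ∀ r r', ¬ EConj L r r' → Disjoint (cls r) (cls r') := by
    intro r r' hn
    refine Finset.disjoint_left.2 fun z hz hz' => hn ?_
    obtain ⟨g, hg, e⟩ := (Finset.mem_filter.1 hz).2
    obtain ⟨g', hg', e'⟩ := (Finset.mem_filter.1 hz').2
    exact EConj.trans ⟨g, hg, rfl⟩ (EConj.symm ⟨g', hg', (Units.ext (e'.trans e.symm))⟩)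
  have hpos : 0 < Λ.card := Finset.card_pos.2 ⟨(σ : End') - 1, by
    rw [hΛ, Finset.mem_filter]
    exact ⟨Finset.mem_univ _, UnipJoin.sub_one_mem (self_mem_class hσ), hσ.1.2.1.2⟩⟩
  have h1 := hhalf σ (self_mem_class hσ)
  have h2 := hhalf a ha
  have h3 := hhalf b hb
  have hsub : cls σ ∪ cls a ∪ cls b ⊆ Λ :=
    Finset.union_subset (Finset.union_subset (Finset.filter_subset _ _) (Finset.filter_subset _ _))
      (Finset.filter_subset _ _)
  have h4 := Finset.card_le_card hsub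
  rw [Finset.card_union_of_disjoint (Finset.disjoint_union_left.2 ⟨hdis _ _ n2, hdis _ _ n3⟩),
    Finset.card_union_of_disjoint (hdis _ _ n1)] at h4
  omega

end Cfsg.Agent.Fus.QFix
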