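import Mathlib
import Cfsg.Agent.Lib.Fus.QuadFixedClasses
import Cfsg.Agent.Lib.Grp.Coprime
import Cfsg.Agent.Lib.Grp.SL2Basic
import Cfsg.Agent.Lib.Classical.SLGroup
import Cfsg.Agent.S0205

/-!
A linear group over `ZMod p`, `p ≥ 5`, without normal `p`-subgroups and with a quadratic element: under
a coprime group of operators the fixed points contain an image of `SL(2, p)` with central kernel.
-/

set_option autoImplicit false
set_option linter.unusedSectionVars false

namespace Cfsg.Agent.Fus.QFix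

open Cfsg.Agent.Fus.QPair

/-- Of two finite groups of coprime orders one is solvable. -/
theorem solvable_or_solvable {G₁ G₂ : Type*} [Group G₁] [Finite G₁] [Group G₂] [Finite G₂]
    (h : (Nat.card G₁).Coprime (Nat.card G₂)) : Group.IsSolvable G₁ ∨ Group.IsSolvable G₂ := by
  rcases Nat.even_or_odd (Nat.card G₁) with h1 | h1
  · refine Or.inr (S0205.result ?_)
    rw [← Nat.not_even_iff_odd]
    exact fun h2 => Nat.prime_two.not_dvd_one (h ▸ Nat.dvd_gcd h1.two_dvd h2.two_dvd)
  · exact Or.inl (S0205.result h1)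

/-- A point of the conjugation action. -/
@[ext] structure CPt (G : Type*) where
  val : G

instance cptAction {G : Type*} [Group G] : MulAction G (CPt G) where
  smul g x := ⟨g * x.val * g⁻¹⟩
  one_smul x := CPt.ext (show (1 : G) * x.val * 1⁻¹ = x.val by simp)
  mul_smul g h x := CPt.ext (show g * h * x.val * (g * h)⁻¹ = g * (h * x.val * h⁻¹) * g⁻¹ by group)

/-- A coprime group of operators fixes a point of a conjugacy orbit. -/
theorem exists_conj_fixed {G : Type*} [Group G] [Finite G] (A K : Subgroup G)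
    (hAK : A ≤ Subgroup.normalizer (K : Set G)) (hcop : (Nat.card A).Coprime (Nat.card K)) (s : Set G)
    (hne : s.Nonempty) (hA : ∀ a ∈ A, ∀ x ∈ s, a * x * a⁻¹ ∈ s) (hK : ∀ k ∈ K, ∀ x ∈ s, k * x * k⁻¹ ∈ s)
    (htr : ∀ x ∈ s, ∀ y ∈ s, ∃ k ∈ K, k * x * k⁻¹ = y) : ∃ x ∈ s, ∀ a ∈ A, a * x * a⁻¹ = x := by
  obtain ⟨x0, hx0⟩ := hne
  obtain ⟨x, hx, hfix⟩ := Grp.exists_fixed_point (X := CPt G) A K (CPt.val ⁻¹' s) hAK hcop
    (solvable_or_solvable hcop) ⟨⟨x0⟩, hx0⟩ (fun a ha x hx => hA a ha _ hx) (fun k hk x hx => hK k hk _ hx)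
    (fun x hx y hy => by
      obtain ⟨k, hk, e⟩ := htr _ hx _ hy
      exact ⟨k, hk, CPt.ext e⟩)
  exact ⟨x.val, hx, fun a ha => congrArg CPt.val (hfix a ha)⟩

variable {p : ℕ} [Fact p.Prime] {V : Type} [AddCommGroup V] [Module (ZMod p) V] [Finite V]
  {L : Subgroup (LinearMap.GeneralLinearGroup (ZMod p) V)}

local notation "GLM" => LinearMap.GeneralLinearGroup (ZMod p) V
local notation "End'" => Module.End (ZMod p) V
local notation "SLp" => Matrix.SpecialLinearGroup (Fin 2) (ZMod p)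

theorem slHom_up {s t : End'} (h : NPair s t) (c : ZMod p) :
    (slHom (p := p) h (Grp.SL2.up c) : End') = 1 + c • s := by
  rw [coe_slHom]
  show 1 - proj s t + (1 : ZMod p) • (s * t) + c • s + (0 : ZMod p) • t + (1 : ZMod p) • (t * s) = _
  rw [one_smul, zero_smul, one_smul, proj]
  abel

theorem slHom_low {s t : End'} (h : NPair s t) (c : ZMod p) :
    (slHom (p := p) h (Grp.SL2.low c) : End') = 1 + c • t := by
  rw [coe_slHom]
  show 1 - proj s t + (1 : ZMod p) • (s * t) + (0 : ZMod p) • s + c • t + (1 : ZMod p) • (t * s) = _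
  rw [one_smul, zero_smul, one_smul, proj]
  abel

/-- The copy of `SL(2, p)` of a pair lies in the group. -/
theorem slHom_mem {σ τ : GLM} (hσ : σ ∈ Cfsg.minimalQuadraticElements L)
    (hτ : τ ∈ Cfsg.minimalQuadraticElements L) (h : NPair ((σ : End') - 1) ((τ : End') - 1)) (g : SLp) :
    slHom (p := p) h g ∈ L := by
  have key : ∀ {x : End'} {u : GLM}, (u : End') = x → x ∈ mset L → u ∈ L := by
    rintro _ u rfl ⟨g, hg, e⟩
    exact Units.ext (e : (g : End') = u) ▸ hg
  suffices h' : L.comap (slHom (p := p) h) = ⊤ from (h'.ge (Subgroup.mem_top g) :)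
  rw [eq_top_iff, ← Classical.SL_closure_transvections, Subgroup.closure_le]
  rintro _ ⟨⟨i, j, hij, c⟩, rfl⟩
  fin_cases i <;> fin_cases j
  · exact absurd rfl hij
  · refine (congrArg (fun z => z ∈ L.comap (slHom (p := p) h)) (Subtype.ext ?_ : _ = Grp.SL2.up c)).mpr
      (key (slHom_up h c) (scalar_mem hσ c))
    ext r s; fin_cases r <;> fin_cases s <;>
      simp [Grp.SL2.up, Matrix.TransvectionStruct.toSpecialLinearGroup,
        Matrix.SpecialLinearGroup.transvection_coe, Matrix.transvection]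
  · refine (congrArg (fun z => z ∈ L.comap (slHom (p := p) h)) (Subtype.ext ?_ : _ = Grp.SL2.low c)).mpr
      (key (slHom_low h c) (scalar_mem hτ c))
    ext r s; fin_cases r <;> fin_cases s <;>
      simp [Grp.SL2.low, Matrix.TransvectionStruct.toSpecialLinearGroup,
        Matrix.SpecialLinearGroup.transvection_coe, Matrix.transvection]
  · exact absurd rfl hij

/-- An element normalising the group permutes its minimal elements and their root classes. -/
theorem conj_equivariant {c : GLM} (hc : c ∈ Subgroup.normalizer (L : Set GLM)) {σ : GLM}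
    (hσ : σ ∈ Cfsg.minimalQuadraticElements L) :
    c * σ * c⁻¹ ∈ Cfsg.minimalQuadraticElements L ∧
      ∀ x ∈ Cfsg.sameActionClass L σ, c * x * c⁻¹ ∈ Cfsg.sameActionClass L (c * σ * c⁻¹) := by
  have spaces : ∀ (d x : GLM), rf (d * x * d⁻¹) = (rf x).map (d : End') ∧
      kf (d * x * d⁻¹) = (kf x).map (d : End') := by
    intro d x
    have e := UnipJoin.conj_sub_one d x
    have h1 : ∀ v, ((d⁻¹ : GLM) : End') ((d : End') v) = v := fun v => by
      rw [← Module.End.mul_apply, ← Units.val_mul, inv_mul_cancel, Units.val_one, Module.End.one_apply]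
    have h2 : ∀ v, (d : End') (((d⁻¹ : GLM) : End') v) = v := fun v => by
      rw [← Module.End.mul_apply, ← Units.val_mul, mul_inv_cancel, Units.val_one, Module.End.one_apply]
    constructor
    · ext v
      constructor
      · rintro ⟨m, rfl⟩; rw [e]; exact ⟨_, ⟨_, rfl⟩, rfl⟩
      · rintro ⟨_, ⟨m, rfl⟩, rfl⟩
        refine ⟨(d : End') m, ?_⟩
        rw [e, Module.End.mul_apply, Module.End.mul_apply, h1]
    · ext v
      constructor
      · intro hv
        refine ⟨((d⁻¹ : GLM) : End') v, ?_, h2 v⟩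
        rw [LinearMap.mem_ker, e, Module.End.mul_apply, Module.End.mul_apply] at hv
        have := congrArg ((d⁻¹ : GLM) : End') hv
        rw [h1, map_zero] at this
        exact this
      · rintro ⟨w, hw, rfl⟩
        rw [LinearMap.mem_ker, e, Module.End.mul_apply, Module.End.mul_apply, h1, LinearMap.mem_ker.1 hw, map_zero]
  have quad : ∀ d ∈ Subgroup.normalizer (L : Set GLM), ∀ x ∈ Cfsg.quadraticElements L,
      d * x * d⁻¹ ∈ Cfsg.quadraticElements L ∧ Cfsg.commutatorRank (d * x * d⁻¹) = Cfsg.commutatorRank x := by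
    intro d hd x hx
    obtain ⟨hxL, hx2, hx0⟩ := mem_quadratic_iff.1 hx
    have e := UnipJoin.conj_sub_one d x
    have hdi : ((d⁻¹ : GLM) : End') * (d : End') = 1 := by rw [← Units.val_mul, inv_mul_cancel, Units.val_one]
    refine ⟨mem_quadratic_iff.2 ⟨(Subgroup.mem_normalizer_iff.1 hd x).1 hxL, ?_, ?_⟩, ?_⟩
    · rw [e, show (d : End') * ((x : End') - 1) * ((d⁻¹ : GLM) : End') * ((d : End') * ((x : End') - 1) *
        ((d⁻¹ : GLM) : End')) = (d : End') * (((x : End') - 1) * (((d⁻¹ : GLM) : End') * (d : End')) *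
        ((x : End') - 1)) * ((d⁻¹ : GLM) : End') by simp only [mul_assoc], hdi, mul_one, hx2, mul_zero, zero_mul]
    · rw [e]
      intro h0
      refine hx0 ?_
      have := congrArg (fun w : End' => ((d⁻¹ : GLM) : End') * w * (d : End')) h0
      simpa [← mul_assoc, hdi, mul_assoc] using this
    · show Module.finrank (ZMod p) (rf (d * x * d⁻¹)) = Module.finrank (ZMod p) (rf x)
      rw [(spaces d x).1]
      refine (Submodule.equivMapOfInjective _ (fun a b hab => ?_) _).finrank_eq.symm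
      have := congrArg ((d⁻¹ : GLM) : End') hab
      rwa [← Module.End.mul_apply, ← Module.End.mul_apply, hdi, Module.End.one_apply, Module.End.one_apply] at this
  have hmin : ∀ x ∈ Cfsg.minimalQuadraticElements L, c * x * c⁻¹ ∈ Cfsg.minimalQuadraticElements L := by
    intro x hx
    obtain ⟨h1, h2⟩ := quad c hc x hx.1
    refine ⟨h1, fun τ hτ => ?_⟩
    obtain ⟨h3, h4⟩ := quad c⁻¹ (inv_mem hc) τ hτ
    rw [h2, ← h4]
    exact hx.2 _ h3
  refine ⟨hmin σ hσ, fun x hx => ⟨hmin x hx.1, ?_, ?_⟩⟩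
  · show kf (c * x * c⁻¹) = kf (c * σ * c⁻¹)
    rw [(spaces c x).2, (spaces c σ).2]; exact congrArg _ hx.2.1
  · show rf (c * x * c⁻¹) = rf (c * σ * c⁻¹)
    rw [(spaces c x).1, (spaces c σ).1]; exact congrArg _ hx.2.2

theorem EConj.equivariant {c : GLM} (hc : c ∈ Subgroup.normalizer (L : Set GLM)) {σ τ : GLM}
    (h : EConj L σ τ) : EConj L (c * σ * c⁻¹) (c * τ * c⁻¹) := by
  obtain ⟨g, hg, rfl⟩ := h
  exact ⟨c * g * c⁻¹, (Subgroup.mem_normalizer_iff.1 hc g).1 hg, by group⟩

theorem RConj.equivariant {c : GLM} (hc : c ∈ Subgroup.normalizer (L : Set GLM)) {σ τ : GLM}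
    (h : RConj L σ τ) (hτ : τ ∈ Cfsg.minimalQuadraticElements L) :
    RConj L (c * σ * c⁻¹) (c * τ * c⁻¹) := by
  obtain ⟨g, hg, hcl⟩ := h
  refine ⟨c * g * c⁻¹, (Subgroup.mem_normalizer_iff.1 hc g).1 hg, ?_⟩
  rw [show c * g * c⁻¹ * (c * σ * c⁻¹) * (c * g * c⁻¹)⁻¹ = c * (g * σ * g⁻¹) * c⁻¹ by group]
  exact (conj_equivariant hc hτ).2 _ hcl

/-- An element of odd order cannot interchange two classes within one root class. -/
theorem econj_of_rconj_odd (hp : 5 ≤ p) (hG : UnipFree L) {c : GLM}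
    (hc : c ∈ Subgroup.normalizer (L : Set GLM)) (hodd : Odd (orderOf c)) {x : GLM}
    (hx : x ∈ Cfsg.minimalQuadraticElements L) (h : RConj L x (c * x * c⁻¹)) : EConj L x (c * x * c⁻¹) := by
  obtain ⟨x', hx'⟩ : ∃ x', x' = c * x * c⁻¹ := ⟨_, rfl⟩
  obtain ⟨x'', hx''⟩ : ∃ x'', x'' = c * x' * c⁻¹ := ⟨_, rfl⟩
  rw [← hx'] at h ⊢
  have hm' : x' ∈ Cfsg.minimalQuadraticElements L := hx' ▸ (conj_equivariant hc hx).1
  have hm'' : x'' ∈ Cfsg.minimalQuadraticElements L := hx'' ▸ (conj_equivariant hc hm').1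
  have h' : RConj L x' x'' := by
    have := h.equivariant hc hm'
    rwa [← hx', ← hx''] at this
  obtain ⟨g, hg, hy⟩ := h
  obtain ⟨f, hf, hz⟩ := h'.symm hm' hm''
  have ey : EConj L x (g * x * g⁻¹) := ⟨g, hg, rfl⟩
  have ez : EConj L x'' (f * x'' * f⁻¹) := ⟨f, hf, rfl⟩
  rcases econj_of_three hp hG hm' hy hz with e | e | e
  · exact ey.trans e.symm
  · have := ((e.trans ez.symm).symm).equivariant (inv_mem hc)
    rw [show c⁻¹ * x'' * c⁻¹⁻¹ = x' by rw [hx'']; group, show c⁻¹ * x' * c⁻¹⁻¹ = x by rw [hx']; group] at this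
    exact this.symm
  · have h2 : EConj L x (c ^ 2 * x * (c ^ 2)⁻¹) := by
      rw [show c ^ 2 * x * (c ^ 2)⁻¹ = x'' by rw [hx'', hx', pow_two]; group]
      exact ey.trans (e.trans ez.symm)
    have hall : ∀ j : ℕ, EConj L x (c ^ (2 * j) * x * (c ^ (2 * j))⁻¹) := by
      intro j
      induction j with
      | zero => simpa using EConj.refl x
      | succ j ih =>
        refine ih.trans ?_
        have := h2.equivariant (pow_mem hc (2 * j))
        rwa [show c ^ (2 * j) * (c ^ 2 * x * (c ^ 2)⁻¹) * (c ^ (2 * j))⁻¹ =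
          c ^ (2 * (j + 1)) * x * (c ^ (2 * (j + 1)))⁻¹ by
          rw [show 2 * (j + 1) = 2 * j + 2 by ring, pow_add]; group] at this
    obtain ⟨j, hj⟩ := hodd
    have h3 := (hall j).equivariant hc
    rw [show c * (c ^ (2 * j) * x * (c ^ (2 * j))⁻¹) * c⁻¹ = c ^ (2 * j + 1) * x * (c ^ (2 * j + 1))⁻¹ by
        rw [pow_succ']; group,
      ← hj, pow_orderOf_eq_one, inv_one, one_mul, mul_one] at h3
    rw [hx']; exact h3.symm

/-- The class of a minimal element as a point of the index set. -/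
def eclass (L : Subgroup GLM) (σ : GLM) : Set GLM := {y | EConj L σ y}

theorem eclass_eq_iff {σ τ : GLM} : eclass L σ = eclass L τ ↔ EConj L σ τ := by
  constructor
  · exact fun h => (h.ge (EConj.refl τ) :)
  · exact fun h => Set.ext fun y => ⟨fun hy => h.symm.trans hy, fun hy => h.trans hy⟩

/-- The fixed points of a coprime group contain an image of `SL(2, p)` with central kernel. -/
theorem exists_fixed_sl_two (hp : 5 ≤ p) (L A : Subgroup GLM)
    (hnorm : A ≤ Subgroup.normalizer (L : Set GLM)) (hcop : (Nat.card A).Coprime (Nat.card L))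
    (hO : ∀ N : Subgroup GLM, N ≤ L → IsPGroup p N → (∀ g ∈ L, ∀ n ∈ N, g * n * g⁻¹ ∈ N) → N = ⊥)
    (hq : ∃ a ∈ L, ((a : End') - 1) * ((a : End') - 1) = 0 ∧ (a : End') - 1 ≠ 0) :
    ∃ φ : SLp →* GLM, (∀ g, φ g ∈ L ⊓ Subgroup.centralizer (A : Set GLM)) ∧
      φ.ker ≤ Subgroup.center SLp := by
  classical
  have hG := unipFree hO
  obtain ⟨h20, -⟩ := two_ne hp
  obtain ⟨a₀, ha₀, ha₁, ha₂⟩ := hq
  obtain ⟨σ₁, hσ₁⟩ := exists_minimal ⟨a₀, mem_quadratic_iff.2 ⟨ha₀, ha₁, ha₂⟩⟩
  -- the operators have odd order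
  have hoddA : Odd (Nat.card A) := by
    obtain ⟨τ₁, hτ₁, h₁⟩ := exists_partner_any hp hG hσ₁
    have hne : (-1 : SLp) ≠ 1 := by
      intro e
      have := congrFun (congrFun (congrArg Subtype.val e) 0) 0
      simp [Matrix.SpecialLinearGroup.coe_neg, neg_eq_iff_add_eq_zero, one_add_one_eq_two] at this
      exact h20 this
    have hord : orderOf (slHom (p := p) h₁ (-1 : SLp)) = 2 := by
      rw [orderOf_injective _ (slHom_injective h₁ hσ₁.1.2.1.2)]
      exact orderOf_eq_prime (by simp) hne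
    have hd := L.orderOf_dvd_natCard (slHom_mem hσ₁ hτ₁ h₁ (-1))
    rw [hord] at hd
    rw [← Nat.not_even_iff_odd]
    exact fun he => Nat.prime_two.not_dvd_one (hcop ▸ Nat.dvd_gcd he.two_dvd hd)
  have hoddc : ∀ c ∈ A, Odd (orderOf c) := fun c hc => hoddA.of_dvd_nat (A.orderOf_dvd_natCard hc)
  -- the stabiliser of the class and its fixed elements
  obtain ⟨A1, hA1⟩ : ∃ A1 : Subgroup GLM, ∀ c, c ∈ A1 ↔ c ∈ A ∧ EConj L σ₁ (c * σ₁ * c⁻¹) := by
    refine ⟨{ carrier := {c | c ∈ A ∧ EConj L σ₁ (c * σ₁ * c⁻¹)}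
              mul_mem' := ?_
              one_mem' := ⟨A.one_mem, by simpa using EConj.refl σ₁⟩
              inv_mem' := ?_ }, fun c => Iff.rfl⟩
    · rintro c d ⟨hc, hc'⟩ ⟨hd, hd'⟩
      refine ⟨A.mul_mem hc hd, hc'.trans ?_⟩
      rw [show c * d * σ₁ * (c * d)⁻¹ = c * (d * σ₁ * d⁻¹) * c⁻¹ by group]
      exact hd'.equivariant (hnorm hc)
    · rintro c ⟨hc, hc'⟩
      refine ⟨A.inv_mem hc, ?_⟩
      have := (hc'.equivariant (inv_mem (hnorm hc))).symm
      rwa [show c⁻¹ * (c * σ₁ * c⁻¹) * c⁻¹⁻¹ = σ₁ by group] at this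
  have hA1A : A1 ≤ A := fun c hc => ((hA1 c).1 hc).1
  have hcop1 : (Nat.card A1).Coprime (Nat.card L) := hcop.coprime_dvd_left (Subgroup.card_dvd_of_le hA1A)
  obtain ⟨σ, hσ1σ, hσfix⟩ := exists_conj_fixed A1 L (hA1A.trans hnorm) hcop1 (eclass L σ₁)
    ⟨σ₁, EConj.refl σ₁⟩
    (fun c hc x hx => ((hA1 c).1 hc).2.trans (hx.equivariant (hnorm (hA1A hc))))
    (fun g hg x hx => hx.trans ⟨g, hg, rfl⟩) (fun x hx y hy => hx.symm.trans hy)
  have hσ : σ ∈ Cfsg.minimalQuadraticElements L := EConj.minimal hσ1σ hσ₁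
  have hstab : ∀ c ∈ A, EConj L σ (c * σ * c⁻¹) → c ∈ A1 := fun c hc h =>
    (hA1 c).2 ⟨hc, (EConj.trans hσ1σ h).trans ((EConj.symm hσ1σ).equivariant (hnorm hc))⟩
  -- a fixed partner
  obtain ⟨K, hK⟩ : ∃ K, K = L ⊓ Subgroup.centralizer ({σ} : Set GLM) := ⟨_, rfl⟩
  have hKmem : ∀ k, k ∈ K ↔ k ∈ L ∧ k * σ = σ * k := fun k => by
    rw [hK, Subgroup.mem_inf, Subgroup.mem_centralizer_singleton_iff]
  have hA1K : A1 ≤ Subgroup.normalizer (K : Set GLM) := by
    refine fun c hc => Subgroup.mem_normalizer_iff.2 fun k => ?_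
    rw [hKmem, hKmem, ← Subgroup.mem_normalizer_iff.1 (hnorm (hA1A hc)) k]
    refine and_congr_right fun _ => ?_
    have e := hσfix c hc
    have e' : c * σ = σ * c := mul_inv_eq_iff_eq_mul.1 e
    constructor
    · intro hk
      calc c * k * c⁻¹ * σ = c * k * (c⁻¹ * (σ * c)) * c⁻¹ := by group
        _ = c * (k * σ) * c⁻¹ := by rw [← e']; group
        _ = c * σ * (k * c⁻¹) := by rw [hk]; group
        _ = σ * (c * k * c⁻¹) := by rw [e']; group
    · intro hk
      calc k * σ = c⁻¹ * (c * k * c⁻¹ * (c * σ)) := by group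
        _ = c⁻¹ * (c * k * c⁻¹ * σ * c) := by rw [e']; group
        _ = c⁻¹ * (σ * c * k) := by rw [hk]; group
        _ = σ * k := by rw [← e']; group
  obtain ⟨P, hP⟩ : ∃ P : Set GLM,
      P = {τ | τ ∈ Cfsg.minimalQuadraticElements L ∧ NPair ((σ : End') - 1) ((τ : End') - 1)} := ⟨_, rfl⟩
  have hPconj : ∀ c ∈ Subgroup.normalizer (L : Set GLM), c * σ * c⁻¹ = σ → ∀ τ ∈ P, c * τ * c⁻¹ ∈ P := by
    rw [hP]
    rintro c hc hcσ τ ⟨hτ, hpair⟩
    refine ⟨(conj_equivariant hc hτ).1, ?_⟩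
    have := hpair.conj (v := (c : End')) (w := ((c⁻¹ : GLM) : End')) (by rw [← Units.val_mul, mul_inv_cancel]; rfl)
      (by rw [← Units.val_mul, inv_mul_cancel]; rfl)
    rwa [← UnipJoin.conj_sub_one, ← UnipJoin.conj_sub_one, hcσ] at this
  obtain ⟨τ, hτP, hτfix⟩ := exists_conj_fixed A1 K hA1K
    (hcop1.coprime_dvd_right (Subgroup.card_dvd_of_le (hK ▸ inf_le_left))) P
    (by
      obtain ⟨τ, hτ, h⟩ := exists_partner_any hp hG hσ
      exact ⟨τ, hP ▸ ⟨hτ, h⟩⟩)
    (fun c hc => hPconj c (hnorm (hA1A hc)) (hσfix c hc))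
    (fun k hk => hPconj k (Subgroup.le_normalizer ((hKmem k).1 hk).1) (by rw [((hKmem k).1 hk).2]; group))
    (fun x hx y hy => by
      rw [hP] at hx hy
      obtain ⟨v, hv, w, -, hvw, hwv, hvs, hvt⟩ := exists_conj hp mset_inv hx.2 hy.2 (scalar_mem hσ)
        (scalar_mem hx.1) (scalar_mem hy.1)
      obtain ⟨g, hg, hge⟩ := hv
      have hge' : (g : End') = v := hge
      have hgi : ((g⁻¹ : GLM) : End') = w := Units.inv_eq_of_mul_eq_one_right (by rw [hge', hvw])
      refine ⟨g, (hKmem g).2 ⟨hg, Units.ext ?_⟩, Units.ext ?_⟩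
      · rw [Units.val_mul, Units.val_mul, hge']
        rw [mul_sub, sub_mul, mul_one, one_mul, sub_left_inj] at hvs
        exact hvs
      · refine sub_left_inj (a := (1 : End')) |>.1 ?_
        rw [UnipJoin.conj_sub_one, hge', hgi, hvt])
  rw [hP] at hτP
  obtain ⟨hτ, hpair⟩ := hτP
  -- conjugates of the copy
  let ψ : GLM → SLp →* GLM := fun c => (MulAut.conj c).toMonoidHom.comp (slHom (p := p) hpair)
  have hψ : ∀ c g, ψ c g = c * slHom (p := p) hpair g * c⁻¹ := fun c g => rfl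
  have hfix1 : ∀ c ∈ A1, ∀ g, c * slHom (p := p) hpair g * c⁻¹ = slHom (p := p) hpair g := by
    intro c hc g
    have comm : ∀ ρ : GLM, c * ρ * c⁻¹ = ρ → Commute (c : End') ((ρ : End') - 1) := by
      intro ρ e
      refine Commute.sub_right ?_ (Commute.one_right _)
      show (c : End') * (ρ : End') = (ρ : End') * (c : End')
      rw [← Units.val_mul, ← Units.val_mul, mul_inv_eq_iff_eq_mul.1 e]
    have c1 := comm σ (hσfix c hc)
    have c2 := comm τ (hτfix c hc)
    refine mul_inv_eq_iff_eq_mul.2 (Units.ext ?_)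
    rw [Units.val_mul, Units.val_mul, coe_slHom]
    refine Commute.eq ?_
    unfold slFun proj
    exact (((((Commute.one_right _).sub_right ((c1.mul_right c2).add_right (c2.mul_right c1))).add_right
      ((c1.mul_right c2).smul_right _)).add_right (c1.smul_right _)).add_right (c2.smul_right _)).add_right
      ((c2.mul_right c1).smul_right _)
  have hwd : ∀ c ∈ A, ∀ d ∈ A, EConj L (c * σ * c⁻¹) (d * σ * d⁻¹) → ψ c = ψ d := by
    intro c hc d hd h
    have := h.equivariant (inv_mem (hnorm hc))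
    rw [show c⁻¹ * (c * σ * c⁻¹) * c⁻¹⁻¹ = σ by group,
      show c⁻¹ * (d * σ * d⁻¹) * c⁻¹⁻¹ = c⁻¹ * d * σ * (c⁻¹ * d)⁻¹ by group] at this
    have hmem := hstab _ (A.mul_mem (A.inv_mem hc) hd) this
    refine MonoidHom.ext fun g => ?_
    rw [hψ, hψ]
    conv_lhs => rw [← hfix1 _ hmem g]
    group
  let f : A → Set GLM := fun c => eclass L ((c : GLM) * σ * (c : GLM)⁻¹)
  letI : Fintype ↥(Set.range f) := Fintype.ofFinite _
  let rep : ↥(Set.range f) → A := fun C => C.2.choose
  have hrep : ∀ C, f (rep C) = C.1 := fun C => C.2.choose_spec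
  let φ : ↥(Set.range f) → SLp →* GLM := fun C => ψ (rep C)
  have hφ : ∀ c : A, φ ⟨f c, c, rfl⟩ = ψ c := fun c =>
    hwd _ (rep _).2 _ c.2 (eclass_eq_iff.1 (hrep ⟨f c, c, rfl⟩))
  have hcomm : Pairwise fun C D => ∀ g h, Commute (φ C g) (φ D h) := by
    intro C D hCD g h
    obtain ⟨c, hc⟩ := rep C, (rep C).2
    have hne : ¬ RConj L ((rep C : GLM) * σ * (rep C : GLM)⁻¹) ((rep D : GLM) * σ * (rep D : GLM)⁻¹) := by
      intro hr
      refine hCD (Subtype.ext ?_)
      rw [← hrep C, ← hrep D]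
      refine eclass_eq_iff.2 ?_
      have hd : (rep D : GLM) * (rep C : GLM)⁻¹ ∈ A := A.mul_mem (rep D).2 (A.inv_mem (rep C).2)
      have e : (rep D : GLM) * σ * (rep D : GLM)⁻¹ = (rep D : GLM) * (rep C : GLM)⁻¹ *
          ((rep C : GLM) * σ * (rep C : GLM)⁻¹) * ((rep D : GLM) * (rep C : GLM)⁻¹)⁻¹ := by group
      rw [e] at hr ⊢
      exact econj_of_rconj_odd hp hG (hnorm hd) (hoddc _ hd) (conj_equivariant (hnorm (rep C).2) hσ).1 hr
    have hτσ : RConj L σ τ := rconj_of_npair hp hG hσ hτ hpair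
    have mn : ∀ (E : ↥(Set.range f)) (ρ : GLM), ρ ∈ Cfsg.minimalQuadraticElements L →
        (rep E : GLM) * ρ * (rep E : GLM)⁻¹ ∈ Cfsg.minimalQuadraticElements L :=
      fun E ρ hρ => (conj_equivariant (hnorm (rep E).2) hρ).1
    have hC := hτσ.equivariant (hnorm (rep C).2) hτ
    have hD := hτσ.equivariant (hnorm (rep D).2) hτ
    have n1 : ¬ RConj L ((rep C : GLM) * σ * (rep C : GLM)⁻¹) ((rep D : GLM) * τ * (rep D : GLM)⁻¹) :=
      fun hr => hne (hr.trans (hD.symm (mn D σ hσ) (mn D τ hτ)) (mn D τ hτ))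
    have n2 : ¬ RConj L ((rep C : GLM) * τ * (rep C : GLM)⁻¹) ((rep D : GLM) * σ * (rep D : GLM)⁻¹) :=
      fun hr => hne (hC.trans hr (mn C τ hτ))
    have n3 : ¬ RConj L ((rep C : GLM) * τ * (rep C : GLM)⁻¹) ((rep D : GLM) * τ * (rep D : GLM)⁻¹) :=
      fun hr => hne (hC.trans (hr.trans (hD.symm (mn D σ hσ) (mn D τ hτ)) (mn D τ hτ)) (mn C τ hτ))
    have q1 := commute_of_not_rconj hp hG (mn C σ hσ) (mn D σ hσ) hne
    have q2 := commute_of_not_rconj hp hG (mn C σ hσ) (mn D τ hτ) n1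
    have q3 := commute_of_not_rconj hp hG (mn C τ hτ) (mn D σ hσ) n2
    have q4 := commute_of_not_rconj hp hG (mn C τ hτ) (mn D τ hτ) n3
    rw [UnipJoin.conj_sub_one, UnipJoin.conj_sub_one] at q1 q2 q3 q4
    obtain ⟨a, ha⟩ : ∃ a : End', a = ((rep C : GLM) : End') := ⟨_, rfl⟩
    have conjfun : ∀ (d : GLM) (k : SLp), ((d * slHom (p := p) hpair k * d⁻¹ : GLM) : End') =
        slFun ((d : End') * ((σ : End') - 1) * ((d⁻¹ : GLM) : End'))
          ((d : End') * ((τ : End') - 1) * ((d⁻¹ : GLM) : End')) k.1 := by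
      intro d k
      have hdi : ((d⁻¹ : GLM) : End') * (d : End') = 1 := by rw [← Units.val_mul, inv_mul_cancel]; rfl
      have hid : (d : End') * ((d⁻¹ : GLM) : End') = 1 := by rw [← Units.val_mul, mul_inv_cancel]; rfl
      have e : ∀ u w : End', (d : End') * u * ((d⁻¹ : GLM) : End') * ((d : End') * w * ((d⁻¹ : GLM) : End')) =
          (d : End') * (u * w) * ((d⁻¹ : GLM) : End') := fun u w => by
        rw [mul_assoc ((d : End') * u), ← mul_assoc ((d⁻¹ : GLM) : End'), ← mul_assoc ((d⁻¹ : GLM) : End'), hdi,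
          one_mul, ← mul_assoc, mul_assoc (d : End') u w]
      rw [Units.val_mul, Units.val_mul, coe_slHom]
      simp only [slFun, proj, e, mul_add, add_mul, mul_sub, sub_mul, mul_one, hid, mul_smul_comm, smul_mul_assoc]
      simp only [one_mul]
    refine (Commute.units_val_iff).1 ?_
    rw [hψ, hψ, conjfun, conjfun]
    have cx : ∀ {X : End'}, Commute X (((rep D : GLM) : End') * ((σ : End') - 1) * (((rep D : GLM)⁻¹ : GLM) : End')) →
        Commute X (((rep D : GLM) : End') * ((τ : End') - 1) * (((rep D : GLM)⁻¹ : GLM) : End')) →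
        Commute X (slFun (((rep D : GLM) : End') * ((σ : End') - 1) * (((rep D : GLM)⁻¹ : GLM) : End'))
          (((rep D : GLM) : End') * ((τ : End') - 1) * (((rep D : GLM)⁻¹ : GLM) : End')) h.1) := fun c1 c2 => by
      unfold slFun proj
      exact (((((Commute.one_right _).sub_right ((c1.mul_right c2).add_right (c2.mul_right c1))).add_right
        ((c1.mul_right c2).smul_right _)).add_right (c1.smul_right _)).add_right (c2.smul_right _)).add_right
        ((c2.mul_right c1).smul_right _)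
    have d1 := (cx q1 q2).symm
    have d2 := (cx q3 q4).symm
    refine Commute.symm ?_
    generalize (slFun (R := End') _ _ h.1) = Y at d1 d2 ⊢
    unfold slFun proj
    exact (((((Commute.one_right _).sub_right ((d1.mul_right d2).add_right (d2.mul_right d1))).add_right
      ((d1.mul_right d2).smul_right _)).add_right (d1.smul_right _)).add_right (d2.smul_right _)).add_right
      ((d2.mul_right d1).smul_right _)
  let Φ : SLp →* GLM := (MonoidHom.noncommPiCoprod φ hcomm).comp (Pi.monoidHom fun _ => MonoidHom.id _)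
  have hcg : ∀ g, Set.Pairwise (↑(Finset.univ : Finset ↥(Set.range f))) (Function.onFun Commute fun C => φ C g) :=
    fun g C _ D _ hCD => hcomm hCD g g
  have hΦ : ∀ g, Φ g = Finset.univ.noncommProd (fun C => φ C g) (hcg g) := fun g => rfl
  have hφmem : ∀ C g, φ C g ∈ L := fun C g =>
    (Subgroup.mem_normalizer_iff.1 (hnorm (rep C).2) _).1 (slHom_mem hσ hτ hpair g)
  refine ⟨Φ, fun g => Subgroup.mem_inf.2 ⟨?_, Subgroup.mem_centralizer_iff.2 fun c hc => ?_⟩, ?_⟩
  · rw [hΦ]
    exact Subgroup.noncommProd_mem L _ fun C _ => hφmem C g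
  · -- the operators permute the factors
    obtain ⟨T, hT⟩ : ∃ T, T = Subgroup.closure (Set.range fun C => φ C g) := ⟨_, rfl⟩
    haveI : IsMulCommutative T := by
      rw [hT]
      refine Subgroup.isMulCommutative_closure ?_
      rintro _ ⟨C, rfl⟩ _ ⟨D, rfl⟩
      by_cases hCD : C = D
      · rw [hCD]
      · exact hcomm hCD g g
    letI : CommGroup T := { (inferInstance : Group T) with mul_comm := fun x y => IsMulCommutative.is_comm.comm x y }
    let φT : ↥(Set.range f) → T := fun C => ⟨φ C g, hT ▸ Subgroup.subset_closure ⟨C, rfl⟩⟩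
    have hprod : ∀ (F : ↥(Set.range f) → T) (hF), Finset.univ.noncommProd (fun C => (F C : GLM)) hF =
        ((∏ C, F C : T) : GLM) := by
      intro F hF
      rw [← Finset.noncommProd_eq_prod]
      exact (Finset.map_noncommProd Finset.univ F _ T.subtype).symm
    let e : ↥(Set.range f) → ↥(Set.range f) := fun C => ⟨f (⟨c, hc⟩ * rep C), _, rfl⟩
    have he : ∀ C, c * φ C g * c⁻¹ = φ (e C) g := by
      intro C
      rw [hφ (⟨c, hc⟩ * rep C), hψ, hψ]
      show c * ((rep C : GLM) * slHom (p := p) hpair g * (rep C : GLM)⁻¹) * c⁻¹ =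
        c * (rep C : GLM) * slHom (p := p) hpair g * (c * (rep C : GLM))⁻¹
      group
    have hebij : Function.Bijective e := by
      refine Finite.injective_iff_bijective.1 fun C D hCD => Subtype.ext ?_
      rw [← hrep C, ← hrep D]
      refine eclass_eq_iff.2 ?_
      have h1 := (eclass_eq_iff.1 (congrArg Subtype.val hCD)).equivariant (inv_mem (hnorm hc))
      simpa [mul_assoc] using h1
    have key : c * Φ g * c⁻¹ = Φ g := by
      have h1 : c * Φ g * c⁻¹ = Finset.univ.noncommProd (fun C => φ (e C) g)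
          (fun C _ D _ hCD => hcomm (fun h => hCD (hebij.1 h)) g g) := by
        rw [hΦ]
        refine ((Finset.map_noncommProd Finset.univ (fun C => φ C g) (hcg g) (MulAut.conj c)).trans ?_)
        exact Finset.noncommProd_congr rfl (fun C _ => he C) _
      rw [h1, hΦ]
      exact (hprod (fun C => φT (e C)) _).trans ((congrArg Subtype.val
        (Fintype.prod_bijective e hebij (fun C => φT (e C)) φT fun C => rfl)).trans (hprod φT _).symm)
    exact mul_inv_eq_iff_eq_mul.1 key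
  · intro g hg
    rw [MonoidHom.mem_ker, hΦ] at hg
    refine Subgroup.mem_center_iff.2 fun k => ?_
    obtain ⟨C₀, hC₀⟩ : ∃ C₀ : ↥(Set.range f), C₀ = ⟨f 1, 1, rfl⟩ := ⟨_, rfl⟩
    have hsplit : φ C₀ g * (Finset.univ.erase C₀).noncommProd (fun C => φ C g)
        ((hcg g).mono (by simp)) = 1 := by
      rw [← hg]
      refine (Finset.noncommProd_insert_of_notMem (Finset.univ.erase C₀) C₀ (fun C => φ C g)
        ((hcg g).mono (by simp)) (Finset.notMem_erase C₀ _)).symm.trans ?_
      exact Finset.noncommProd_congr (Finset.insert_erase (Finset.mem_univ C₀)) (fun C _ => rfl) _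
    have hc : Commute (φ C₀ k) ((Finset.univ.erase C₀).noncommProd (fun C => φ C g) ((hcg g).mono (by simp))) :=
      Finset.noncommProd_commute _ _ _ _ fun C hC => hcomm (Finset.ne_of_mem_erase hC).symm k g
    have hinj : Function.Injective (φ C₀) :=
      (MulAut.conj _).injective.comp (slHom_injective hpair hσ.1.2.1.2)
    apply hinj
    rw [map_mul, map_mul]
    have e : φ C₀ g = ((Finset.univ.erase C₀).noncommProd (fun C => φ C g) ((hcg g).mono (by simp)))⁻¹ :=
      eq_inv_of_mul_eq_one_left hsplit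
    rw [e]
    exact hc.inv_right.eq

end Cfsg.Agent.Fus.QFix
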