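import Mathlib
import Cfsg.Prelude.Def_PLocal
import Cfsg.Prelude.Def_LocalEven
import Cfsg.Agent.Lib.Fus.QuadFixedCore
import Cfsg.Agent.Lib.Grp.Cores
import Cfsg.Agent.Lib.Grp.Frattini
import Cfsg.Agent.Lib.Grp.HHWreath
import Cfsg.Agent.Lib.Grp.QuadraticGroup

/-!
Under a coprime group of operators whose fixed points do not involve `PSL(2, p)`, `p ≥ 5`, the group is
`p`-stable on the invariant normal `p`-subgroups of its equivariant quotients.
-/

set_option autoImplicit false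
set_option linter.unusedSectionVars false

universe u v

open scoped commutatorElement

namespace Cfsg.Agent.Fus.QFix

variable {p : ℕ} [Fact p.Prime] {G : Type u} [Group G] [Finite G] {A : Type v} [Group A] [Finite A]
  {α : A →* MulAut G}

local notation "PSLp" => Matrix.ProjectiveSpecialLinearGroup (Fin 2) (ZMod p)

/-- Lifting fixed points of a coprime group of operators along an equivariant map. -/
theorem exists_fixed_lift {M : Type*} [Group M] (hcop : (Nat.card A).Coprime (Nat.card G)) (θ : G →* M)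
    (θA : A →* M) (hθ : ∀ a g, θA a * θ g * (θA a)⁻¹ = θ (α a g)) {g : G}
    (hg : ∀ a, θA a * θ g = θ g * θA a) : ∃ c, (∀ a, α a c = c) ∧ θ c = θ g := by
  haveI : Finite (G ⋊[α] A) := Finite.of_equiv _ SemidirectProduct.equivProd.symm
  haveI hK : (SemidirectProduct.inl : G →* G ⋊[α] A).range.Normal := by
    rw [SemidirectProduct.range_inl_eq_ker_rightHom]; infer_instance
  haveI hN : (θ.ker.map (SemidirectProduct.inl : G →* G ⋊[α] A)).Normal := by
    refine ⟨?_⟩
    rintro _ ⟨m, hm, rfl⟩ x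
    have hm' : θ m = 1 := hm
    refine ⟨x.left * α x.right m * x.left⁻¹, ?_, ?_⟩
    · show θ (x.left * α x.right m * x.left⁻¹) = 1
      rw [map_mul, map_mul, ← hθ, hm', mul_one, mul_inv_cancel, mul_one, map_inv, mul_inv_cancel]
    · conv_rhs => rw [← SemidirectProduct.inl_left_mul_inr_right x, mul_inv_rev]
      rw [map_mul, map_mul, SemidirectProduct.inl_aut, map_inv]
      simp only [mul_assoc, ← map_inv]
  have hinf : (SemidirectProduct.inr : A →* G ⋊[α] A).range ⊓
      (SemidirectProduct.inl : G →* G ⋊[α] A).range = ⊥ := by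
    rw [eq_bot_iff]
    rintro _ ⟨⟨a, rfl⟩, ⟨h, hh⟩⟩
    have := congrArg SemidirectProduct.rightHom hh
    rw [SemidirectProduct.rightHom_inl, SemidirectProduct.rightHom_inr] at this
    rw [Subgroup.mem_bot, ← this, map_one]
  have hcop' : (Nat.card (SemidirectProduct.inr : A →* G ⋊[α] A).range).Coprime
      (Nat.card (θ.ker.map (SemidirectProduct.inl : G →* G ⋊[α] A))) :=
    (hcop.coprime_dvd_left (Subgroup.card_range_dvd _)).coprime_dvd_right
      ((Subgroup.card_map_dvd _ _).trans (Subgroup.card_subgroup_dvd_card _))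
  obtain ⟨_, ⟨⟨c, rfl⟩, hc⟩, hc'⟩ := Grp.exists_fixed_rep _ _ _
    (by rw [Subgroup.normalizer_eq_top_iff.2 hK]; exact le_top) hinf hcop'
    (solvable_or_solvable hcop') (Subgroup.map_le_range _ _)
    (by rw [Subgroup.normalizer_eq_top_iff.2 hN]; exact le_top)
    (by rw [Subgroup.normalizer_eq_top_iff.2 hN]; exact le_top) ⟨g, rfl⟩
    (by
      rintro _ ⟨a, rfl⟩
      refine ⟨α a g * g⁻¹, ?_, ?_⟩
      · show θ (α a g * g⁻¹) = 1
        rw [map_mul, ← hθ, hg, mul_inv_cancel_right, map_inv, mul_inv_cancel]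
      · rw [map_mul, SemidirectProduct.inl_aut, map_inv, map_inv])
  refine ⟨c, fun a => ?_, ?_⟩
  · refine SemidirectProduct.inl_injective (φ := α) ?_
    have := Subgroup.mem_centralizer_iff.1 hc (SemidirectProduct.inr a) ⟨a, rfl⟩
    rw [SemidirectProduct.inl_aut, this, map_inv, mul_inv_cancel_right]
  · obtain ⟨m, hm, hme⟩ := hc'
    rw [← map_inv, ← map_mul] at hme
    have hm' : θ m = 1 := hm
    rw [SemidirectProduct.inl_injective hme, map_mul, map_inv] at hm'
    exact (inv_mul_eq_one.1 hm').symm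

/-- A jointly irreducible action leaves no nontrivial normal `p`-subgroup of the image. -/
theorem eq_bot_of_invariant {V : Type u} [CommGroup V] [Finite V] (hV : ∀ v : V, v ^ p = 1)
    (θ : G →* MulAut V) (θA : A →* MulAut V) (hθ : ∀ a g, θA a * θ g * (θA a)⁻¹ = θ (α a g))
    (hirr : ∀ W : Subgroup V, (∀ g, ∀ w ∈ W, θ g w ∈ W) → (∀ a, ∀ w ∈ W, θA a w ∈ W) → W = ⊥ ∨ W = ⊤)
    {g₀ : G} (h0 : θ g₀ ≠ 1) {N : Subgroup (MulAut V)} (hle : N ≤ θ.range) (hN : IsPGroup p N)
    (hn : ∀ g, ∀ n ∈ N, θ g * n * (θ g)⁻¹ ∈ N) : N = ⊥ := by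
  obtain ⟨R, hR⟩ : ∃ R : Subgroup (MulAut V), R = (Cfsg.pCore p θ.range).map θ.range.subtype := ⟨_, rfl⟩
  have hNR : N ≤ R := by
    have h1 : N.subgroupOf θ.range ≤ Cfsg.pCore p θ.range :=
      Grp.le_pCore ⟨fun x hx r => by
        obtain ⟨g, hg⟩ := r.2
        show (r : MulAut V) * x * (r : MulAut V)⁻¹ ∈ N
        rw [← hg]
        exact hn g _ hx⟩ hN.comap_subtype
    rw [hR, ← inf_eq_left.2 hle, ← Subgroup.subgroupOf_map_subtype]
    exact Subgroup.map_mono h1
  have hRθ : ∀ g, ∀ r ∈ R, θ g * r * (θ g)⁻¹ ∈ R := by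
    rw [hR]
    rintro g _ ⟨x, hx, rfl⟩
    obtain ⟨r, hr⟩ : ∃ r : θ.range, (r : MulAut V) = θ g := ⟨⟨θ g, ⟨g, rfl⟩⟩, rfl⟩
    have h2 : r * x * r⁻¹ ∈ Cfsg.pCore p θ.range := Grp.pCore_isNormal.conj_mem x hx r
    refine Subgroup.mem_map.2 ⟨r * x * r⁻¹, h2, ?_⟩
    rw [map_mul, map_mul, map_inv, Subgroup.subtype_apply, Subgroup.subtype_apply, hr]
  have hAn : ∀ a, θA a ∈ Subgroup.normalizer (θ.range : Set (MulAut V)) := by
    have key : ∀ a, ∀ h ∈ θ.range, θA a * h * (θA a)⁻¹ ∈ θ.range := by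
      rintro a _ ⟨g, rfl⟩; exact ⟨α a g, (hθ a g).symm⟩
    intro a
    refine Subgroup.mem_normalizer_iff.2 fun h => ⟨key a h, fun hh => ?_⟩
    have := key a⁻¹ _ hh
    rwa [map_inv, inv_inv, show (θA a)⁻¹ * (θA a * h * (θA a)⁻¹) * θA a = h by group] at this
  have hRA : ∀ a, ∀ r ∈ R, θA a * r * (θA a)⁻¹ ∈ R := by
    rw [hR]
    rintro a _ ⟨x, hx, rfl⟩
    exact ⟨θ.range.normalizerMonoidHom ⟨θA a, hAn a⟩ x,
      Subgroup.characteristic_iff_map_le.1 Grp.instCharPCore _ (Subgroup.mem_map_of_mem _ hx), rfl⟩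
  let W : Subgroup V :=
    { carrier := {v | ∀ r ∈ R, r v = v}
      one_mem' := fun r _ => map_one r
      mul_mem' := fun hu hv r hr => by rw [map_mul, hu r hr, hv r hr]
      inv_mem' := fun hu r hr => by rw [map_inv, hu r hr] }
  have hinv : ∀ f : MulAut V, (∀ r ∈ R, f⁻¹ * r * f ∈ R) → ∀ w ∈ W, f w ∈ W := by
    intro f hf w hw r hr
    calc r (f w) = f ((f⁻¹ * r * f) w) := by
          rw [MulAut.mul_apply, MulAut.mul_apply, MulAut.apply_inv_self]
      _ = f w := by rw [hw _ (hf r hr)]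
  rcases hirr W (fun g => hinv _ fun r hr => by
      have := hRθ g⁻¹ r hr; rwa [map_inv, inv_inv] at this)
    (fun a => hinv _ fun r hr => by
      have := hRA a⁻¹ r hr; rwa [map_inv, inv_inv] at this) with hW | hW
  · exfalso
    obtain ⟨k, hk⟩ := IsPGroup.iff_card.1 (fun v => ⟨1, by rw [pow_one]; exact hV v⟩ : IsPGroup p V)
    have hk0 : k ≠ 0 := by
      rintro rfl
      rw [pow_zero, Nat.card_eq_one_iff_unique] at hk
      haveI := hk.1
      exact h0 (MulEquiv.ext fun v => Subsingleton.elim _ _)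
    have hRp : IsPGroup p R := hR ▸ Grp.pCore_isPGroup.map _
    obtain ⟨w, hw, hw1⟩ := hRp.exists_fixed_point_of_prime_dvd_card_of_fixed_point V
      (hk ▸ dvd_pow_self p hk0) (a := (1 : V)) (fun r => map_one (r : MulAut V))
    have hwW : w ∈ W := fun r hr => hw ⟨r, hr⟩
    rw [hW, Subgroup.mem_bot] at hwW
    exact hw1 hwW.symm
  · rw [eq_bot_iff]
    exact fun f hf => Subgroup.mem_bot.2 (MulEquiv.ext fun v => (hW.ge (Subgroup.mem_top v) : v ∈ W) f (hNR hf))

/-- The irreducible case: a nontrivial quadratic action gives a section `PSL(2, p)` of the fixed points. -/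
theorem section_case (hp : 5 ≤ p) (hcop : (Nat.card A).Coprime (Nat.card G)) {C : Subgroup G}
    (hC : ∀ g, (∀ a, α a g = g) → g ∈ C) {V : Type u} [CommGroup V] [Finite V] (hV : ∀ v : V, v ^ p = 1)
    (θ : G →* MulAut V) (θA : A →* MulAut V) (hθ : ∀ a g, θA a * θ g * (θA a)⁻¹ = θ (α a g))
    (hirr : ∀ W : Subgroup V, (∀ g, ∀ w ∈ W, θ g w ∈ W) → (∀ a, ∀ w ∈ W, θA a w ∈ W) → W = ⊥ ∨ W = ⊤)
    {g₀ : G} (h0 : θ g₀ ≠ 1) (hq : ∀ v, θ g₀ (θ g₀ v * v⁻¹) = θ g₀ v * v⁻¹) :
    Cfsg.Involves PSLp ↥C := by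
  classical
  haveI : Module (ZMod p) (Additive V) := AddCommGroup.zmodModule fun w => by
    refine Additive.toMul.injective ?_
    rw [toMul_nsmul, toMul_zero]
    exact hV _
  let e := (Module.finBasis (ZMod p) (Additive V)).equivFun
  let W₀ := Fin (Module.finrank (ZMod p) (Additive V)) → ZMod p
  let Ψ : MulAut V →* Module.End (ZMod p) W₀ :=
    { toFun := fun f => e.toLinearMap ∘ₗ (f.toMonoidHom.toAdditive.toZModLinearMap p) ∘ₗ e.symm.toLinearMap
      map_one' := LinearMap.ext fun x => e.apply_symm_apply x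
      map_mul' := fun f g => LinearMap.ext fun x => by
        show e (Additive.ofMul (f (g (Additive.toMul (e.symm x))))) =
          e (Additive.ofMul (f (Additive.toMul (e.symm (e (Additive.ofMul (g (Additive.toMul (e.symm x)))))))))
        rw [e.symm_apply_apply]; rfl }
  let Φ : MulAut V →* LinearMap.GeneralLinearGroup (ZMod p) W₀ := Ψ.toHomUnits
  have hΦ : ∀ f x, (Φ f : Module.End (ZMod p) W₀) x = e (Additive.ofMul (f (Additive.toMul (e.symm x)))) :=
    fun f x => rfl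
  have hΦi : Function.Injective Φ := by
    intro f g hfg
    refine MulEquiv.ext fun v => ?_
    have := congrArg (fun u : LinearMap.GeneralLinearGroup (ZMod p) W₀ =>
      (u : Module.End (ZMod p) W₀) (e (Additive.ofMul v))) hfg
    simp only [hΦ, e.symm_apply_apply, EmbeddingLike.apply_eq_iff_eq, toMul_ofMul] at this
    exact this
  have hnorm : θA.range.map Φ ≤ Subgroup.normalizer (θ.range.map Φ : Set _) := by
    have key : ∀ a h, h ∈ θ.range.map Φ → Φ (θA a) * h * (Φ (θA a))⁻¹ ∈ θ.range.map Φ := by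
      rintro a _ ⟨_, ⟨g, rfl⟩, rfl⟩
      exact ⟨_, ⟨α a g, rfl⟩, by rw [← hθ, map_mul, map_mul, map_inv]⟩
    rintro _ ⟨_, ⟨a, rfl⟩, rfl⟩
    refine Subgroup.mem_normalizer_iff.2 fun h => ⟨key a h, fun hh => ?_⟩
    have := key a⁻¹ _ hh
    rwa [map_inv, map_inv, inv_inv, show (Φ (θA a))⁻¹ * (Φ (θA a) * h * (Φ (θA a))⁻¹) * Φ (θA a) = h by
      group] at this
  have hcop' : (Nat.card (θA.range.map Φ)).Coprime (Nat.card (θ.range.map Φ)) :=
    (hcop.coprime_dvd_left ((Subgroup.card_map_dvd _ _).trans (Subgroup.card_range_dvd _))).coprime_dvd_right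
      ((Subgroup.card_map_dvd _ _).trans (Subgroup.card_range_dvd _))
  have hO : ∀ N : Subgroup (LinearMap.GeneralLinearGroup (ZMod p) W₀), N ≤ θ.range.map Φ → IsPGroup p N →
      (∀ g ∈ θ.range.map Φ, ∀ n ∈ N, g * n * g⁻¹ ∈ N) → N = ⊥ := by
    intro N hNL hN hNn
    have h1 : N.comap Φ = ⊥ := eq_bot_of_invariant hV θ θA hθ hirr h0 (fun f hf => by
        obtain ⟨f', hf', he⟩ := hNL hf
        exact hΦi he ▸ hf') (hN.comap_of_injective Φ hΦi)
      (fun g n hn => by
        rw [Subgroup.mem_comap, map_mul, map_mul, map_inv]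
        exact hNn _ ⟨_, ⟨g, rfl⟩, rfl⟩ _ hn)
    rw [eq_bot_iff]
    intro x hx
    obtain ⟨f, -, rfl⟩ := hNL hx
    have h2 : f ∈ N.comap Φ := hx
    rw [h1, Subgroup.mem_bot] at h2
    rw [Subgroup.mem_bot, h2, map_one]
  have hquad : ∃ a ∈ θ.range.map Φ, ((a : Module.End (ZMod p) W₀) - 1) * ((a : Module.End (ZMod p) W₀) - 1) = 0 ∧
      (a : Module.End (ZMod p) W₀) - 1 ≠ 0 := by
    refine ⟨Φ (θ g₀), ⟨_, ⟨g₀, rfl⟩, rfl⟩, LinearMap.ext fun x => ?_, sub_ne_zero.2 fun h => h0 (hΦi ?_)⟩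
    · have h1 : ∀ x, ((Φ (θ g₀) : Module.End (ZMod p) W₀) - 1) x =
          e (Additive.ofMul (θ g₀ (Additive.toMul (e.symm x)) * (Additive.toMul (e.symm x))⁻¹)) := by
        intro x
        rw [LinearMap.sub_apply, Module.End.one_apply, hΦ, ← div_eq_mul_inv, ofMul_div, map_sub,
          ofMul_toMul, e.apply_symm_apply]
      rw [Module.End.mul_apply, h1, h1, e.symm_apply_apply, toMul_ofMul, hq, mul_inv_cancel, ofMul_one,
        map_zero, LinearMap.zero_apply]
    · rw [map_one]; exact Units.ext h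
  obtain ⟨φ, hφ, hker⟩ := exists_fixed_sl_two hp _ _ hnorm hcop' hO hquad
  let K : Subgroup G := (φ.range.comap Φ).comap θ
  let χ : ↥(K.subgroupOf C) →* φ.range :=
    MonoidHom.mk' (fun k => ⟨Φ (θ (k : C)), k.2⟩) fun a b => Subtype.ext (by
      show Φ (θ ((a : C) * (b : C) : G)) = _
      rw [map_mul, map_mul]; rfl)
  have hχ : Function.Surjective χ := by
    rintro ⟨_, s, rfl⟩
    obtain ⟨⟨_, ⟨g, rfl⟩, hg⟩, hcent⟩ := Subgroup.mem_inf.1 (hφ s)
    obtain ⟨c, hc1, hc2⟩ := exists_fixed_lift hcop θ θA hθ (g := g) fun a => hΦi (by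
      rw [map_mul, map_mul, hg]
      exact Subgroup.mem_centralizer_iff.1 hcent _ ⟨_, ⟨a, rfl⟩, rfl⟩)
    refine ⟨⟨⟨c, hC c hc1⟩, ?_⟩, Subtype.ext ?_⟩
    · show Φ (θ c) ∈ φ.range
      rw [hc2, hg]; exact ⟨s, rfl⟩
    · show Φ (θ c) = φ s
      rw [hc2, hg]
  let q : φ.range →* PSLp := φ.rangeRestrict.liftOfSurjective φ.rangeRestrict_surjective
    ⟨QuotientGroup.mk' (Subgroup.center (Matrix.SpecialLinearGroup (Fin 2) (ZMod p))),
      by rw [MonoidHom.ker_rangeRestrict, QuotientGroup.ker_mk']; exact hker⟩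
  have hqs : Function.Surjective q := by
    intro y
    obtain ⟨s, rfl⟩ := QuotientGroup.mk'_surjective _ y
    exact ⟨φ.rangeRestrict s, MonoidHom.liftOfRightInverse_comp_apply _ _ _ _ _⟩
  exact Grp.HHP.involves_of_surjective (K.subgroupOf C) (q.comp χ) (hqs.comp hχ)

/-- The automorphisms of a subgroup restricting an automorphism group that leaves it invariant. -/
def restrictAut {X H : Type*} [Group X] [Group H] (β : X →* MulAut H) (P : Subgroup H)
    (h : ∀ x, ∀ v ∈ P, β x v ∈ P) : X →* MulAut ↥P where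
  toFun x :=
    { toFun := fun v => ⟨β x v, h x v v.2⟩
      invFun := fun v => ⟨β x⁻¹ v, h x⁻¹ v v.2⟩
      left_inv := fun v => Subtype.ext (by
        show β x⁻¹ (β x (v : H)) = v
        rw [← MulAut.mul_apply, ← map_mul, inv_mul_cancel, map_one]; rfl)
      right_inv := fun v => Subtype.ext (by
        show β x (β x⁻¹ (v : H)) = v
        rw [← MulAut.mul_apply, ← map_mul, mul_inv_cancel, map_one]; rfl)
      map_mul' := fun v w => Subtype.ext (map_mul (β x) (v : H) (w : H)) }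
  map_one' := MulEquiv.ext fun v => Subtype.ext (by show β 1 (v : H) = v; rw [map_one]; rfl)
  map_mul' x y := MulEquiv.ext fun v => Subtype.ext (by show β (x * y) (v : H) = β x (β y v); rw [map_mul]; rfl)

/-- The action on a quotient of a group acting by automorphisms leaving the kernel invariant. -/
def quotientAut {X H : Type*} [Group X] [Group H] (τ : X →* MulAut H) (N : Subgroup H) [N.Normal]
    (h : ∀ x, ∀ n ∈ N, τ x n ∈ N) : X →* MulAut (H ⧸ N) where
  toFun x := QuotientGroup.congr N N (τ x) (le_antisymm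
    (Subgroup.map_le_iff_le_comap.2 fun n hn => h x n hn)
    fun n hn => ⟨τ x⁻¹ n, h _ n hn, by
      show τ x (τ x⁻¹ n) = n
      rw [← MulAut.mul_apply, ← map_mul, mul_inv_cancel, map_one]; rfl⟩)
  map_one' := MulEquiv.ext fun y => QuotientGroup.induction_on y fun v => by
    show (QuotientGroup.mk (τ 1 v) : H ⧸ N) = _
    rw [map_one]; rfl
  map_mul' x y := MulEquiv.ext fun z => QuotientGroup.induction_on z fun v => by
    show (QuotientGroup.mk (τ (x * y) v) : H ⧸ N) = _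
    rw [map_mul]; rfl

/-- `p`-stability on invariant normal `p`-subgroups of an equivariant quotient. -/
theorem stableOn_of_fixed (hp : 5 ≤ p) (hcop : (Nat.card A).Coprime (Nat.card G)) {C : Subgroup G}
    (hC : ∀ g, (∀ a, α a g = g) → g ∈ C) (hfix : ¬ Cfsg.Involves PSLp ↥C)
    {G' : Type u} [Group G'] [Finite G'] (π : G →* G') (hπ : Function.Surjective π) (α' : A →* MulAut G')
    (heq : ∀ a g, π (α a g) = α' a (π g)) (P : Subgroup G') [P.Normal] (hP : IsPGroup p P)
    (hinv : ∀ a, ∀ v ∈ P, α' a v ∈ P) : Cfsg.IsPStableOn p P := by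
  classical
  induction hn : Nat.card P using Nat.strong_induction_on generalizing P with
  | _ n ih =>
  subst hn
  intro a hcomm
  rcases eq_or_ne P ⊥ with rfl | hP1
  · rw [(QuotientGroup.eq_one_iff a).2 (Subgroup.mem_centralizer_iff.2 fun v hv => by
      rw [Subgroup.mem_bot.1 hv, one_mul, mul_one])]
    exact one_mem _
  obtain ⟨D, hD⟩ : ∃ D, D = (frattini P).map P.subtype := ⟨_, rfl⟩
  haveI hDn : D.Normal := hD ▸ inferInstance
  have hDinv : ∀ b, ∀ v ∈ D, α' b v ∈ D := by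
    rw [hD]
    rintro b _ ⟨x, hx, rfl⟩
    exact ⟨restrictAut α' P hinv b x,
      Subgroup.characteristic_iff_map_le.1 inferInstance _ (Subgroup.mem_map_of_mem _ hx), rfl⟩
  have hDP : D < P := by
    refine lt_of_le_of_ne (hD ▸ Subgroup.map_subtype_le _) fun h => ?_
    haveI : Nontrivial P := (Subgroup.nontrivial_iff_ne_bot P).mpr hP1
    obtain ⟨M, hM, -⟩ := (eq_top_or_exists_le_coatom (⊥ : Subgroup P)).resolve_left bot_ne_top
    refine hM.1 (top_le_iff.1 (le_trans (le_of_eq ?_) (frattini_le_coatom hM)))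
    refine (Subgroup.map_injective P.subtype_injective ?_).symm
    rw [← hD, h, ← MonoidHom.range_eq_map, Subgroup.range_subtype]
  obtain ⟨M, ⟨hMn, hMinv, hDM, hMP⟩, hMmax⟩ := (Set.toFinite {M : Subgroup G' | M.Normal ∧
    (∀ b, ∀ v ∈ M, α' b v ∈ M) ∧ D ≤ M ∧ M < P}).exists_maximal ⟨D, hDn, hDinv, le_rfl, hDP⟩
  haveI := hMn
  have hfr : ∀ x ∈ frattini P, x ∈ M.subgroupOf P := fun x hx =>
    hDM (hD ▸ Subgroup.mem_map_of_mem P.subtype hx)
  letI : CommGroup (P ⧸ M.subgroupOf P) := { (inferInstance : Group (P ⧸ M.subgroupOf P)) with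
    mul_comm := by
      intro x y
      induction x using QuotientGroup.induction_on with | _ x => ?_
      induction y using QuotientGroup.induction_on with | _ y => ?_
      rw [← QuotientGroup.mk_mul, ← QuotientGroup.mk_mul, QuotientGroup.eq]
      refine hfr _ (Grp.pGroup_commutator_le_frattini hP ?_)
      rw [show (x * y)⁻¹ * (y * x) = y⁻¹ * x⁻¹ * (y⁻¹)⁻¹ * (x⁻¹)⁻¹ by group, ← commutatorElement_def]
      exact Subgroup.commutator_mem_commutator (Subgroup.mem_top _) (Subgroup.mem_top _) }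
  have hV : ∀ v : P ⧸ M.subgroupOf P, v ^ p = 1 := fun v => QuotientGroup.induction_on v fun x => by
    rw [← QuotientGroup.mk_pow, QuotientGroup.eq_one_iff]
    exact hfr _ (Grp.pGroup_pow_mem_frattini hP x)
  let θ' : G' →* MulAut (P ⧸ M.subgroupOf P) :=
    quotientAut MulAut.conjNormal _ fun x n hn => hMn.conj_mem _ hn x
  let θA : A →* MulAut (P ⧸ M.subgroupOf P) :=
    quotientAut (restrictAut α' P hinv) _ fun b n hn => hMinv b _ hn
  have hθ : ∀ b g, θA b * θ' (π g) * (θA b)⁻¹ = θ' (π (α b g)) := by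
    intro b g
    rw [mul_inv_eq_iff_eq_mul]
    refine MulEquiv.ext fun y => QuotientGroup.induction_on y fun v => ?_
    show (QuotientGroup.mk (restrictAut α' P hinv b (MulAut.conjNormal (π g) v)) : P ⧸ M.subgroupOf P) =
      QuotientGroup.mk (MulAut.conjNormal (π (α b g)) (restrictAut α' P hinv b v))
    congr 1
    refine Subtype.ext ?_
    show α' b (π g * (v : G') * (π g)⁻¹) = π (α b g) * α' b (v : G') * (π (α b g))⁻¹
    rw [map_mul, map_mul, map_inv, heq]
  have hquad := Grp.Quad.quadOn_of_commutator hcomm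
  by_cases hθa : θ' a = 1
  · -- the section is centralised
    have hstM := ih _ (Set.ncard_lt_ncard (SetLike.coe_ssubset_coe.2 hMP)) M (hP.to_le hMP.le) hMinv rfl a
      (le_bot_iff.1 ((Subgroup.commutator_mono (Subgroup.commutator_mono hMP.le le_rfl) le_rfl).trans hcomm.le))
    haveI : (Cfsg.pCore p (G' ⧸ Subgroup.centralizer (M : Set G'))).Normal := Grp.pCore_isNormal
    obtain ⟨N, hN⟩ : ∃ N, N = θ'.ker ⊓ (Cfsg.pCore p (G' ⧸ Subgroup.centralizer (M : Set G'))).comap
        (QuotientGroup.mk' (Subgroup.centralizer (M : Set G'))) := ⟨_, rfl⟩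
    haveI : N.Normal := hN ▸ inferInstance
    have ha : a ∈ N := hN ▸ ⟨hθa, hstM⟩
    refine Grp.le_pCore (Subgroup.Normal.map ‹N.Normal› _ (QuotientGroup.mk'_surjective _)) ?_
      (Subgroup.mem_map_of_mem (QuotientGroup.mk' (Subgroup.centralizer (P : Set G'))) ha)
    rintro ⟨_, x, hx, rfl⟩
    rw [hN] at hx
    obtain ⟨hxθ, hxM⟩ := hx
    obtain ⟨k, hk⟩ := Grp.pCore_isPGroup ⟨_, hxM⟩
    obtain ⟨y, hy⟩ : ∃ y, y = x ^ p ^ k := ⟨_, rfl⟩
    have hyM : ∀ m ∈ M, y * m = m * y := by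
      have h1 : y ∈ Subgroup.centralizer (M : Set G') := by
        rw [← QuotientGroup.eq_one_iff, hy, QuotientGroup.mk_pow]
        exact congrArg Subtype.val hk
      exact fun m hm => (Subgroup.mem_centralizer_iff.1 h1 m hm).symm
    have hyθ : θ' y = 1 := by rw [hy, map_pow, show θ' x = 1 from hxθ, one_pow]
    obtain ⟨r, hr⟩ := IsPGroup.iff_card.1 (hP.to_le hMP.le)
    refine ⟨k + r, Subtype.ext ?_⟩
    show (QuotientGroup.mk x : G' ⧸ Subgroup.centralizer (P : Set G')) ^ p ^ (k + r) = 1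
    rw [← QuotientGroup.mk_pow, pow_add, pow_mul, ← hy, ← hr, QuotientGroup.eq_one_iff,
      Subgroup.mem_centralizer_iff]
    intro v hv
    have hm : v⁻¹ * (y * v * y⁻¹) ∈ M := by
      have h1 : (QuotientGroup.mk (MulAut.conjNormal y ⟨v, hv⟩) : P ⧸ M.subgroupOf P) =
          QuotientGroup.mk ⟨v, hv⟩ := by
        show θ' y (QuotientGroup.mk ⟨v, hv⟩) = _
        rw [hyθ]; rfl
      have h2 := QuotientGroup.eq.1 h1.symm
      exact h2
    have hpow : ∀ j : ℕ, y ^ j * v * (y ^ j)⁻¹ = v * (v⁻¹ * (y * v * y⁻¹)) ^ j := by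
      intro j
      induction j with
      | zero => simp
      | succ j ihj =>
        calc y ^ (j + 1) * v * (y ^ (j + 1))⁻¹ = y * (y ^ j * v * (y ^ j)⁻¹) * y⁻¹ := by
              rw [pow_succ']; group
          _ = y * v * y⁻¹ * (y * (v⁻¹ * (y * v * y⁻¹)) ^ j * y⁻¹) := by rw [ihj]; group
          _ = v * (v⁻¹ * (y * v * y⁻¹)) ^ (j + 1) := by
              rw [hyM _ (M.pow_mem hm j), mul_inv_cancel_right, pow_succ']; simp only [mul_assoc, mul_inv_cancel_left]
    have h2 := hpow (Nat.card M)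
    rw [show (v⁻¹ * (y * v * y⁻¹)) ^ Nat.card M = 1 from
      congrArg Subtype.val (pow_card_eq_one' (x := (⟨_, hm⟩ : M))), mul_one, mul_inv_eq_iff_eq_mul] at h2
    exact h2.symm
  · exfalso
    obtain ⟨g₀, rfl⟩ := hπ a
    refine hfix (section_case (V := P ⧸ M.subgroupOf P) hp hcop hC hV (θ'.comp π) θA hθ ?_ hθa ?_)
    · intro W hWg hWA
      obtain ⟨W', hW'⟩ : ∃ W', W' = (W.comap (QuotientGroup.mk' (M.subgroupOf P))).map P.subtype := ⟨_, rfl⟩
      have hMW : M ≤ W' := fun m hm => hW' ▸ ⟨⟨m, hMP.le hm⟩, by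
        show (QuotientGroup.mk (⟨m, hMP.le hm⟩ : P) : P ⧸ M.subgroupOf P) ∈ W
        have h1 : (QuotientGroup.mk (⟨m, hMP.le hm⟩ : P) : P ⧸ M.subgroupOf P) = 1 :=
          (QuotientGroup.eq_one_iff _).2 hm
        exact h1.symm ▸ W.one_mem, rfl⟩
      have hW'n : W'.Normal := by
        rw [hW']
        refine ⟨?_⟩
        rintro _ ⟨v, hv, rfl⟩ x
        obtain ⟨g, rfl⟩ := hπ x
        exact ⟨MulAut.conjNormal (π g) v, hWg g _ hv, rfl⟩
      have hW'inv : ∀ b, ∀ v ∈ W', α' b v ∈ W' := by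
        rw [hW']
        rintro b _ ⟨v, hv, rfl⟩
        exact ⟨restrictAut α' P hinv b v, hWA b _ hv, rfl⟩
      rcases eq_or_lt_of_le (hW' ▸ Subgroup.map_subtype_le _ : W' ≤ P) with h | h
      · refine Or.inr (eq_top_iff.2 fun y _ => QuotientGroup.induction_on y fun v => ?_)
        obtain ⟨u, hu, he⟩ := hW' ▸ h.ge v.2
        rwa [← Subtype.ext he]
      · have hle : W' ≤ M := hMmax ⟨hW'n, hW'inv, hDM.trans hMW, h⟩ hMW
        refine Or.inl (eq_bot_iff.2 fun y => QuotientGroup.induction_on y fun v hv => ?_)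
        exact (QuotientGroup.eq_one_iff v).2 (hle (hW' ▸ Subgroup.mem_map_of_mem P.subtype hv))
    · intro y
      refine QuotientGroup.induction_on y fun v => ?_
      show (QuotientGroup.mk (MulAut.conjNormal (π g₀) (MulAut.conjNormal (π g₀) v * v⁻¹)) : P ⧸ M.subgroupOf P) =
        QuotientGroup.mk (MulAut.conjNormal (π g₀) v * v⁻¹)
      congr 1
      refine Subtype.ext ?_
      show π g₀ * (π g₀ * (v : G') * (π g₀)⁻¹ * (v : G')⁻¹) * (π g₀)⁻¹ =
        π g₀ * (v : G') * (π g₀)⁻¹ * (v : G')⁻¹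
      rw [(hquad _ v.2).eq, mul_inv_cancel_right]

end Cfsg.Agent.Fus.QFix
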