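import Mathlib
import Cfsg.Prelude.Def_RootSubgroups
import Cfsg.Agent.Lib.Fus.QuadPairComponents
import Cfsg.Agent.Lib.Grp.Quasisimple

/-!
The group of a component of a quadratic pair is quasisimple.
-/

set_option autoImplicit false
set_option linter.unusedSectionVars false

open scoped commutatorElement

namespace Cfsg.Agent.Fus.QPair

open Cfsg.Agent.Fus.RingSL

universe u

variable {k : Type u} [Field k] {M : Type u} [AddCommGroup M] [Module k M]

local notation "End'" => Module.End k M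
local notation "GLM" => LinearMap.GeneralLinearGroup k M

theorem isUnipotentOn_mono {H K : Subgroup GLM} (h : H ≤ K) (hK : Cfsg.IsUnipotentOn K) : Cfsg.IsUnipotentOn H := by
  obtain ⟨n, hn⟩ := hK
  exact ⟨n, fun l hl => hn l fun g hg => h (hl g hg)⟩

variable [FiniteDimensional k M]

/-- Two unipotent groups, one normalizing the other, generate a unipotent group. -/
theorem isUnipotentOn_sup_normalized {U V : Subgroup GLM} (hU : Cfsg.IsUnipotentOn U) (hV : Cfsg.IsUnipotentOn V)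
    (hn : ∀ g ∈ V, ∀ p ∈ U, g * p * g⁻¹ ∈ U) : Cfsg.IsUnipotentOn (U ⊔ V) := by
  obtain ⟨n, hn'⟩ := UnipJoin.exists_pow_of_isUnipotentOn hU
  obtain ⟨n₂, hn₂⟩ := UnipJoin.exists_pow_of_isUnipotentOn hV
  obtain ⟨N, hN⟩ : ∃ N, N = UnipJoin.nSpan (U : Set GLM) := ⟨_, rfl⟩
  obtain ⟨W, hW⟩ : ∃ W, W = UnipJoin.nSpan (V : Set GLM) := ⟨_, rfl⟩
  rw [← hN] at hn'
  rw [← hW] at hn₂
  have hVN : W * N ≤ N * (1 ⊔ W) := by
    refine Submodule.mul_le.2 ?_
    intro a ha b hb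
    rw [hW] at ha
    rw [hN] at hb
    induction ha using Submodule.span_induction with
    | mem a ha =>
      obtain ⟨g, hg, rfl⟩ := ha
      induction hb using Submodule.span_induction with
      | mem b hb =>
        obtain ⟨p, hp, rfl⟩ := hb
        have hp' : g * p * g⁻¹ ∈ U := hn g hg p hp
        have hle : N ≤ N * (1 ⊔ W) := fun z hz => by
          have := Submodule.mul_mem_mul hz (Submodule.mem_sup_left (Submodule.one_le.1 (le_refl (1 : Submodule k End')))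
            : (1 : End') ∈ 1 ⊔ W)
          rwa [mul_one] at this
        have e : ((g : End') - 1) * ((p : End') - 1) =
            (((g * p * g⁻¹ : GLM) : End') - 1) * (g : End') - ((p : End') - 1) := by
          rw [UnipJoin.conj_sub_one, mul_assoc, ← Units.val_mul g⁻¹ g, inv_mul_cancel, Units.val_one, mul_one,
            sub_mul, one_mul]
        show ((g : End') - 1) * ((p : End') - 1) ∈ _
        rw [e]
        refine sub_mem (Submodule.mul_mem_mul (hN ▸ UnipJoin.sub_one_mem hp') ?_)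
          (hle (hN ▸ UnipJoin.sub_one_mem hp))
        rw [show (g : End') = 1 + ((g : End') - 1) by abel]
        exact Submodule.add_mem_sup (Submodule.one_le.1 le_rfl) (hW ▸ UnipJoin.sub_one_mem hg)
      | zero => simp
      | add x y _ _ ihx ihy => rw [mul_add]; exact add_mem ihx ihy
      | smul c x _ ihx => rw [mul_smul_comm]; exact Submodule.smul_mem _ c ihx
    | zero => simp
    | add x y _ _ ihx ihy => rw [add_mul]; exact add_mem ihx ihy
    | smul c x _ ihx => rw [smul_mul_assoc]; exact Submodule.smul_mem _ c ihx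
  obtain ⟨m, hm⟩ := UnipJoin.pow_sup_eq_bot hn' hn₂ hVN
  have hm' := UnipJoin.alg_pow_eq_bot hm
  refine UnipJoin.isUnipotentOn_of_pow hm' fun g hg => ?_
  have hle : U ⊔ V ≤ UnipJoin.congrGroup _ (fun x hx y hy => UnipJoin.mul_mem_alg hx hy) hm' := by
    refine sup_le (fun g hg => ?_) (fun g hg => ?_) <;> show (g : End') - 1 ∈ UnipJoin.alg (N ⊔ W)
    · exact UnipJoin.le_alg _ (Submodule.mem_sup_left (hN ▸ UnipJoin.sub_one_mem hg))
    · exact UnipJoin.le_alg _ (Submodule.mem_sup_right (hW ▸ UnipJoin.sub_one_mem hg))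
  exact hle hg

/-- In a perfect group generated by abelian `A`, `B` with `A ≡ B` modulo a normalized `N`, all is in `N`. -/
theorem collapse {Γ N A B : Subgroup GLM} (hN : ∀ g ∈ Γ, ∀ n ∈ N, g * n * g⁻¹ ∈ N) (hAΓ : A ≤ Γ) (hBΓ : B ≤ Γ)
    (hB : IsMulCommutative B) (hperf : A ⊔ B ≤ ⁅A ⊔ B, A ⊔ B⁆) (hcong : ∀ a ∈ A, ∃ b ∈ B, a * b⁻¹ ∈ N) :
    A ⊔ B ≤ N := by
  obtain ⟨X, hX⟩ : ∃ X, X = A ⊔ B := ⟨_, rfl⟩
  rw [← hX] at hperf ⊢
  have hXΓ : X ≤ Γ := hX ▸ sup_le hAΓ hBΓ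
  have hform : ∀ x ∈ X, ∃ n ∈ N, ∃ b ∈ B, x = n * b := by
    intro x hx
    rw [hX, ← Subgroup.closure_eq A, ← Subgroup.closure_eq B, ← Subgroup.closure_union] at hx
    induction hx using Subgroup.closure_induction with
    | mem x hx =>
      rcases hx with hx | hx
      · obtain ⟨b, hb, hab⟩ := hcong x hx
        exact ⟨_, hab, b, hb, by group⟩
      · exact ⟨1, one_mem _, x, hx, (one_mul _).symm⟩
    | one => exact ⟨1, one_mem _, 1, one_mem _, (one_mul _).symm⟩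
    | mul x y _ _ ihx ihy =>
      obtain ⟨n, hn, b, hb, rfl⟩ := ihx
      obtain ⟨m, hm, c, hc, rfl⟩ := ihy
      exact ⟨n * (b * m * b⁻¹), mul_mem hn (hN b (hBΓ hb) m hm), b * c, mul_mem hb hc, by group⟩
    | inv x _ ih =>
      obtain ⟨n, hn, b, hb, rfl⟩ := ih
      refine ⟨b⁻¹ * n⁻¹ * b, ?_, b⁻¹, inv_mem hb, by group⟩
      simpa using hN b⁻¹ (inv_mem (hBΓ hb)) n⁻¹ (inv_mem hn)
  refine hperf.trans (Subgroup.commutator_le.2 fun x hx y hy => ?_)
  obtain ⟨n, hn, b, hb, rfl⟩ := hform x hx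
  obtain ⟨m, hm, c, hc, rfl⟩ := hform y hy
  have hbc : b * c = c * b := congrArg Subtype.val (hB.is_comm.comm ⟨b, hb⟩ ⟨c, hc⟩)
  have e : ⁅n * b, m * c⁆ = n * (b * m * b⁻¹) * ((b * c) * (c * b)⁻¹) * (c * n⁻¹ * c⁻¹) * m⁻¹ := by
    rw [commutatorElement_def]
    simp only [mul_inv_rev, mul_assoc, inv_mul_cancel_left]
  rw [e, hbc, mul_inv_cancel, mul_one]
  exact mul_mem (mul_mem (mul_mem hn (hN b (hBΓ hb) m hm)) (hN c (hBΓ hc) _ (inv_mem hn))) (inv_mem hm)

variable {G : Subgroup (LinearMap.GeneralLinearGroup k M)}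
  {σ τ : LinearMap.GeneralLinearGroup k M}

variable (hk2 : ringChar k ≠ 2) (hk3 : Nat.card k ≠ 3) (hG : UnipFree G)

include hk2 hk3 hG

theorem le_derived (hσ : σ ∈ Cfsg.minimalQuadraticElements G) (hτ : τ ∈ Cfsg.minimalQuadraticElements G)
    (hop : Opposite σ τ) {X : Subgroup GLM}
    (hX : X = Cfsg.sameActionSubgroup G σ ⊔ Cfsg.sameActionSubgroup G τ) :
    Cfsg.sameActionSubgroup G σ ≤ ⁅X, X⁆ := by
  intro a ha
  by_cases h1 : a = 1
  · rw [h1]; exact one_mem _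
  have hac := mem_class_of_mem hk2 hk3 hG hσ ha h1
  have hopa : Opposite a τ := by
    obtain ⟨o1, o2⟩ := hop
    exact ⟨by unfold rf; rw [hac.2.2]; exact o1, by unfold kf; rw [hac.2.1]; exact o2⟩
  have hs := hac.1.1.2.1.1
  have ht := hτ.1.2.1.1
  obtain ⟨E, q, h, hirr, hEs, -⟩ :=
    exists_field hk2 hk3 hac.1 hτ (not_isNilpotent_of_opposite hs ht hac.1.1.2.1.2 hopa)
  have : Fact (Irreducible q) := ⟨hirr⟩
  have hle : famGroup ((a : End') - 1) ((τ : End') - 1) ≤ X := by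
    refine hX ▸ ?_
    rw [← subgroup_congr hac]
    exact famGroup_le hac.1 hτ
  obtain ⟨φ, hφ⟩ : ∃ φ, φ = phi hs ht h := ⟨_, rfl⟩
  have hall : ∀ g, φ g ∈ X := by
    have htop : X.comap φ = ⊤ := AdjoinSL.eq_top_of_up_low
      (fun r => by
        rw [Subgroup.mem_comap, show (Grp.SL2.up r : Matrix.SpecialLinearGroup (Fin 2) (AdjoinRoot q)) = up r
          from Subtype.ext rfl, hφ]
        exact hle (phi_mem hs ht h hk2 hk3 r).1)
      (fun r => by
        rw [Subgroup.mem_comap, show (Grp.SL2.low r : Matrix.SpecialLinearGroup (Fin 2) (AdjoinRoot q)) = low r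
          from Subtype.ext rfl, hφ]
        exact hle (phi_mem hs ht h hk2 hk3 r).2)
    exact fun g => (htop.ge (Subgroup.mem_top g) : _)
  obtain ⟨c, hc0, hc1⟩ := exists_sq_ne_one hk2 hk3
  obtain ⟨d, hd⟩ : ∃ d : AdjoinRoot q, d = algebraMap k _ c := ⟨_, rfl⟩
  have hd0 : d ≠ 0 := hd ▸ (map_ne_zero _).2 hc0
  have hd1 : d * d - 1 ≠ 0 := by
    rw [hd, ← map_mul, ← map_one (algebraMap k (AdjoinRoot q)), ← map_sub]
    exact (map_ne_zero _).2 (sub_ne_zero.2 hc1)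
  have e : a = ⁅φ (dia (Units.mk0 d hd0)), φ (up (1 / (d * d - 1)))⁆ := by
    rw [← map_commutatorElement, commutatorElement_def, conj_up_of_zero _ (by simp), up_inv, up_mul]
    refine (Units.ext ?_).symm
    have hcoef : d * d * (1 / (d * d - 1)) + -(1 / (d * d - 1)) = 1 := by
      rw [← sub_eq_add_neg, ← sub_one_mul, mul_one_div, div_self hd1]
    rw [coe_dia, hφ]
    simp only [Matrix.cons_val_zero, Matrix.of_apply, Matrix.cons_val', Matrix.cons_val_fin_one, Units.val_mk0]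
    rw [hcoef, phi_up hs ht h, emb_one h, hEs, add_sub_cancel]
  rw [e]
  exact Subgroup.commutator_mem_commutator (hall _) (hall _)

theorem sup_perfect (hσ : σ ∈ Cfsg.minimalQuadraticElements G) (hτ : τ ∈ Cfsg.minimalQuadraticElements G)
    (hop : Opposite σ τ) {X : Subgroup GLM}
    (hX : X = Cfsg.sameActionSubgroup G σ ⊔ Cfsg.sameActionSubgroup G τ) : X ≤ ⁅X, X⁆ :=
  hX.le.trans (sup_le (le_derived hk2 hk3 hG hσ hτ hop hX)
    (le_derived hk2 hk3 hG hτ hσ hop.symm (hX.trans (sup_comm _ _))))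

theorem not_opposite_of_commute (hσ : σ ∈ Cfsg.minimalQuadraticElements G) (hτ : τ ∈ Cfsg.minimalQuadraticElements G)
    (h : ⁅Cfsg.sameActionSubgroup G σ, Cfsg.sameActionSubgroup G τ⁆ = ⊥) : ¬ Opposite σ τ :=
  not_opposite_of_class_two hk2 hk3 hσ hτ (by
    rw [sup_eq_bot_of_comm (commutative hk2 hk3 hG hσ) (commutative hk2 hk3 hG hτ) h, Subgroup.commutator_bot_left])

theorem exists_partner_part {A B : Subgroup GLM} (hB : B ∈ part G A) :
    ∃ σ ∈ Cfsg.minimalQuadraticElements G, ∃ τ ∈ Cfsg.minimalQuadraticElements G, Opposite σ τ ∧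
      B = Cfsg.sameActionSubgroup G σ ∧ Cfsg.sameActionSubgroup G τ ∈ part G A := by
  obtain ⟨⟨σ, hσ, rfl⟩, hAB⟩ := hB
  obtain ⟨g, -, hm, hop⟩ := exists_opposite hk2 hk3 hG hσ
  exact ⟨σ, hσ, _, hm, hop, rfl, mem_part ⟨_, hm, rfl⟩ (conn_trans hAB (conn_of_opposite hk2 hk3 hG hσ hm hop))⟩

theorem partGroup_perfect (A : Subgroup GLM) : partGroup G A ≤ ⁅partGroup G A, partGroup G A⁆ := by
  refine iSup₂_le fun B hB => ?_
  obtain ⟨σ, hσ, τ, hτ, hop, rfl, hτA⟩ := exists_partner_part hk2 hk3 hG hB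
  exact (le_derived hk2 hk3 hG hσ hτ hop rfl).trans
    (Subgroup.commutator_mono (sup_le (le_partGroup hB) (le_partGroup hτA)) (sup_le (le_partGroup hB) (le_partGroup hτA)))

/-- The roots generate a group without unipotent normal subgroups. -/
theorem eq_bot_of_unipotent {U : Subgroup GLM} (hU : U ≤ ⨆ B ∈ Cfsg.quadraticRootSubgroups G, B)
    (hn : ∀ g ∈ ⨆ B ∈ Cfsg.quadraticRootSubgroups G, B, ∀ u ∈ U, g * u * g⁻¹ ∈ U) (hu : Cfsg.IsUnipotentOn U) :
    U = ⊥ := by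
  obtain ⟨R, hR⟩ : ∃ R, R = ⨆ B ∈ Cfsg.quadraticRootSubgroups G, B := ⟨_, rfl⟩
  rw [← hR] at hU hn
  have hRG : R ≤ G := hR ▸ roots_le
  have hRn : ∀ g ∈ G, Cfsg.conjBy R g = R := by
    have h1 : ∀ g ∈ G, Cfsg.conjBy R g ≤ R := by
      intro g hg
      rw [Cfsg.conjBy, hR, Subgroup.map_iSup]
      refine iSup_le fun B => ?_
      rw [Subgroup.map_iSup]
      exact iSup_le fun hB => le_biSup (fun C : Subgroup GLM => C) (conj_root hk2 hk3 hG B hB hg)
    refine fun g hg => le_antisymm (h1 g hg) ?_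
    calc R = Cfsg.conjBy (Cfsg.conjBy R g⁻¹) g := by rw [conjBy_conjBy, mul_inv_cancel, conjBy_one]
      _ ≤ Cfsg.conjBy R g := Subgroup.map_mono (h1 g⁻¹ (inv_mem hg))
  obtain ⟨W, hW⟩ : ∃ W : Set (Subgroup GLM),
      W = {V | V ≤ R ∧ Cfsg.IsUnipotentOn V ∧ ∀ g ∈ R, ∀ v ∈ V, g * v * g⁻¹ ∈ V} := ⟨_, rfl⟩
  have hWG : ∀ V ∈ W, V ≤ G := by rw [hW]; exact fun V hV => hV.1.trans hRG
  have hWW : ∀ V ∈ W, ∀ V' ∈ W, Cfsg.IsUnipotentOn (V ⊔ V') := by
    rw [hW]
    exact fun V hV V' hV' => isUnipotentOn_sup_normalized hV.2.1 hV'.2.1 fun g hg => hV.2.2 g (hV'.1 hg)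
  have hWc : ∀ V ∈ W, ∀ g ∈ G, Cfsg.conjBy V g ∈ W := by
    rw [hW]
    rintro V ⟨hVR, hVu, hVn⟩ g hg
    refine ⟨(Subgroup.map_mono hVR).trans (hRn g hg).le, ?_, ?_⟩
    · obtain ⟨n, hn'⟩ := UnipJoin.exists_pow_of_isUnipotentOn hVu
      refine UnipJoin.isUnipotentOn_of_pow (P := (UnipJoin.nSpan (V : Set GLM)).map
        ((LinearMap.mulRight k ((g⁻¹ : GLM) : End')).comp (LinearMap.mulLeft k (g : End')))) (n := n + 1) ?_ ?_
      · obtain ⟨f, hf⟩ : ∃ f : End' →ₐ[k] End', ∀ x, f x = (g : End') * x * ((g⁻¹ : GLM) : End') :=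
          ⟨AlgHom.ofLinearMap ((LinearMap.mulRight k ((g⁻¹ : GLM) : End')).comp (LinearMap.mulLeft k (g : End')))
            (by simp [← Units.val_mul]) (fun x y => by
              simp only [LinearMap.comp_apply, LinearMap.mulLeft_apply, LinearMap.mulRight_apply]
              rw [show (g : End') * x * ((g⁻¹ : GLM) : End') * ((g : End') * y * ((g⁻¹ : GLM) : End')) =
                (g : End') * x * (((g⁻¹ : GLM) : End') * (g : End')) * y * ((g⁻¹ : GLM) : End') by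
                simp only [mul_assoc], ← Units.val_mul, inv_mul_cancel, Units.val_one, mul_one]
              simp only [mul_assoc]), fun x => rfl⟩
        have hfl : ((LinearMap.mulRight k ((g⁻¹ : GLM) : End')).comp (LinearMap.mulLeft k (g : End'))) = f.toLinearMap :=
          LinearMap.ext fun x => (hf x).symm
        rw [hfl, ← Submodule.map_pow, pow_succ, hn', Submodule.bot_mul, Submodule.map_bot]
      · rintro _ ⟨v, hv, rfl⟩
        exact ⟨(v : End') - 1, UnipJoin.sub_one_mem hv, (UnipJoin.conj_sub_one g v).symm⟩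
    · rintro r hr _ ⟨v, hv, rfl⟩
      have hr' : g⁻¹ * r * g ∈ R := by
        have h2 := hRn g⁻¹ (inv_mem hg)
        have h3 : (MulAut.conj g⁻¹).toMonoidHom r ∈ Cfsg.conjBy R g⁻¹ := Subgroup.mem_map_of_mem _ hr
        rw [h2] at h3
        simpa using h3
      exact ⟨_, hVn _ hr' v hv, by simp [mul_assoc]⟩
  have hP := UnipJoin.isUnipotentOn_iSup hWG hWW hWc
  have hUW : U ≤ ⨆ V ∈ W, V :=
    le_biSup (fun V : Subgroup GLM => V) (show U ∈ W by rw [hW]; exact ⟨hU, hu, hn⟩)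
  by_contra hne
  have hP1 : (⨆ V ∈ W, V) ≠ ⊥ := fun e => hne (le_bot_iff.1 (hUW.trans e.le))
  exact hP1 (hG _ (iSup₂_le hWG) hP (fun g hg p hp =>
    (UnipJoin.conjBy_iSup_eq hWc hg).le (⟨p, hp, rfl⟩ : g * p * g⁻¹ ∈ Cfsg.conjBy _ g)))

/-- A normal subgroup of the group of a component is everything or central. -/
theorem partGroup_normal {A : Subgroup GLM} (hA : A ∈ Cfsg.quadraticRootSubgroups G) {N : Subgroup GLM}
    (hNH : N ≤ partGroup G A) (hN : ∀ g ∈ partGroup G A, ∀ n ∈ N, g * n * g⁻¹ ∈ N) :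
    partGroup G A ≤ N ∨ ∀ n ∈ N, ∀ g ∈ partGroup G A, g * n = n * g := by
  by_cases hmeet : ∃ B ∈ part G A, ∃ b ∈ B, b ≠ 1 ∧ b ∈ N
  · obtain ⟨B, hB, b, hb, hb1, hbN⟩ := hmeet
    left
    -- a member meeting `N` has its partner in `N` too
    have step : ∀ σ τ, σ ∈ Cfsg.minimalQuadraticElements G → τ ∈ Cfsg.minimalQuadraticElements G → Opposite σ τ →
        Cfsg.sameActionSubgroup G σ ∈ part G A → Cfsg.sameActionSubgroup G τ ∈ part G A →
        (∃ a ∈ Cfsg.sameActionSubgroup G σ, a ≠ 1 ∧ a ∈ N) →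
        Cfsg.sameActionSubgroup G σ ⊔ Cfsg.sameActionSubgroup G τ ≤ N := by
      rintro σ τ hσ hτ hop hσA hτA ⟨a, ha, ha1, haN⟩
      obtain ⟨c, hc, -, he, hsp⟩ := exists_partner' hk2 hk3 hG hσ hτ hop ha ha1
      have haH := le_partGroup hσA ha
      have hcH := le_partGroup hτA hc
      have hcN : c ∈ N := by
        have h1 : c⁻¹ * a * c ∈ N := by simpa using hN c⁻¹ (inv_mem hcH) a haN
        rw [hsp] at h1
        have := mul_mem (mul_mem haN h1) (inv_mem haN)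
        simpa [mul_assoc] using this
      refine collapse hN (le_partGroup hσA) (le_partGroup hτA) (commutative hk2 hk3 hG hτ)
        (sup_perfect hk2 hk3 hG hσ hτ hop rfl) fun x hx => ?_
      have hx' : c⁻¹ * x * c ∈ Cfsg.conjBy (Cfsg.sameActionSubgroup G τ) a⁻¹ := by
        rw [← he]; exact ⟨x, hx, by simp⟩
      obtain ⟨y, hy, hye⟩ := hx'
      have hye' : a⁻¹ * y * a = c⁻¹ * x * c := by simpa using hye
      refine ⟨y, hy, ?_⟩
      have hxe : x * y⁻¹ = c * a⁻¹ * (y * a * c⁻¹ * y⁻¹) := by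
        rw [show x = c * (c⁻¹ * x * c) * c⁻¹ by group, ← hye']; group
      rw [hxe]
      refine mul_mem (mul_mem hcN (inv_mem haN)) ?_
      rw [show y * a * c⁻¹ * y⁻¹ = y * (a * c⁻¹) * y⁻¹ by group]
      exact hN y (le_partGroup hτA hy) _ (mul_mem haN (inv_mem hcN))
    have hall : ∀ C, Conn G B C → C ∈ part G A → C ≤ N := by
      intro C hBC
      induction hBC with
      | refl =>
        intro _
        obtain ⟨σ, hσ, τ, hτ, hop, rfl, hτA⟩ := exists_partner_part hk2 hk3 hG hB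
        exact le_sup_left.trans (step σ τ hσ hτ hop hB hτA ⟨b, hb, hb1, hbN⟩)
      | @tail P C hBP hPC ih =>
        intro hC
        obtain ⟨hP, hC', hpair⟩ := hPC
        have hPA : P ∈ part G A := mem_part hP (conn_trans hB.2 hBP)
        have hPN := ih hPA
        obtain ⟨σ, hσ, rfl⟩ := hP
        obtain ⟨τ, hτ, rfl⟩ := hC'
        exact le_sup_right.trans (step σ τ hσ hτ (opposite_of_rankOne hk2 hk3 hG hσ hτ hpair) hPA hC
          ⟨σ, Subgroup.subset_closure (self_mem_class hσ), fun h => hσ.1.2.1.2 (by rw [h, Units.val_one, sub_self]),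
            hPN (Subgroup.subset_closure (self_mem_class hσ))⟩)
    exact iSup₂_le fun C hC => hall C (conn_trans (conn_symm hB.2) hC.2) hC
  right
  push Not at hmeet
  -- conjugates under `N` commute with the member
  have hcomm : ∀ B ∈ part G A, ∀ n ∈ N, ⁅B, Cfsg.conjBy B n⁆ = ⊥ := by
    intro B hB n hn
    obtain ⟨⟨σ, hσ, rfl⟩, hAB⟩ := id hB
    have hnH := hNH hn
    have hnG : n ∈ G := partGroup_le A hnH
    obtain ⟨σ', hσ'e⟩ : ∃ σ', σ' = n * σ * n⁻¹ := ⟨_, rfl⟩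
    have hσ' : σ' ∈ Cfsg.minimalQuadraticElements G := hσ'e ▸ (conj_minimal hnG hσ).1
    have eB : Cfsg.conjBy (Cfsg.sameActionSubgroup G σ) n = Cfsg.sameActionSubgroup G σ' :=
      hσ'e ▸ conjBy_root hk2 hk3 hG hσ hnG
    have hB' : Cfsg.sameActionSubgroup G σ' ∈ part G A := eB ▸ conj_part hk2 hk3 hG hA hB hnH
    have hdiv : ∀ x ∈ Cfsg.sameActionSubgroup G σ, n * x * n⁻¹ * x⁻¹ ∈ N := by
      intro x hx
      have := mul_mem hn (hN x (le_partGroup hB hx) n⁻¹ (inv_mem hn))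
      simpa [mul_assoc] using this
    rw [eB]
    by_contra hne
    have hnop : ¬ Opposite σ σ' := by
      intro hop
      have hle : Cfsg.sameActionSubgroup G σ' ⊔ Cfsg.sameActionSubgroup G σ ≤ N := by
        refine collapse hN (le_partGroup hB') (le_partGroup hB) (commutative hk2 hk3 hG hσ)
          (sup_perfect hk2 hk3 hG hσ' hσ hop.symm rfl) fun x hx => ?_
        rw [← eB] at hx
        obtain ⟨y, hy, rfl⟩ := hx
        exact ⟨y, hy, hdiv y hy⟩
      exact hmeet _ hB σ (Subgroup.subset_closure (self_mem_class hσ))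
        (fun h => hσ.1.2.1.2 (by rw [h, Units.val_one, sub_self])) (hle (Subgroup.mem_sup_right
          (Subgroup.subset_closure (self_mem_class hσ))))
    rcases commutator_cases hk2 hk3 hG hσ hσ' hnop with ⟨-, hb⟩ | ⟨δ, hδ, hD, -⟩
    · exact hne hb
    have hconn := (conn_of_case hk2 hk3 hG hσ hσ' hnop hne).2
    have hDN : ⁅Cfsg.sameActionSubgroup G σ, Cfsg.sameActionSubgroup G σ'⁆ ≤ N := by
      refine Subgroup.commutator_le.2 fun x hx y hy => ?_
      rw [← eB] at hy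
      obtain ⟨z, hz, rfl⟩ := hy
      show ⁅x, n * z * n⁻¹⁆ ∈ N
      have hxz : x * z = z * x := congrArg Subtype.val ((commutative hk2 hk3 hG hσ).is_comm.comm ⟨x, hx⟩ ⟨z, hz⟩)
      obtain ⟨w, hw⟩ : ∃ w, w = n * z * n⁻¹ * z⁻¹ := ⟨_, rfl⟩
      have hwN : w ∈ N := hw ▸ hdiv z hz
      have e : ⁅x, n * z * n⁻¹⁆ = x * w * x⁻¹ * w⁻¹ := by
        rw [show n * z * n⁻¹ = w * z by rw [hw]; group, commutatorElement_def,
          show x * (w * z) * x⁻¹ * (w * z)⁻¹ = x * w * (z * x⁻¹ * z⁻¹) * w⁻¹ by group]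
        rw [show z * x⁻¹ * z⁻¹ = x⁻¹ by
          rw [show z * x⁻¹ = x⁻¹ * z from (Commute.inv_left hxz).eq.symm, mul_inv_cancel_right]]
      rw [e]
      exact mul_mem (hN x (le_partGroup hB hx) w hwN) (inv_mem hwN)
    rw [hD] at hDN hconn
    exact hmeet _ (mem_part ⟨δ, hδ, rfl⟩ (conn_trans hAB hconn)) δ (Subgroup.subset_closure (self_mem_class hδ))
      (fun h => hδ.1.2.1.2 (by rw [h, Units.val_one, sub_self])) (hDN (Subgroup.subset_closure (self_mem_class hδ)))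
  -- the parts of `N` in the abelian groups of conjugates
  obtain ⟨U, hUd⟩ : ∃ U : Subgroup GLM → Subgroup GLM, ∀ B, U B = ⨆ C ∈ {C | ∃ n ∈ N, C = Cfsg.conjBy B n}, C :=
    ⟨_, fun _ => rfl⟩
  have hBU : ∀ B, B ≤ U B := fun B => by
    rw [hUd]
    exact le_biSup (fun C : Subgroup GLM => C) ⟨1, one_mem _, (conjBy_one B).symm⟩
  have hUu : ∀ B ∈ part G A, Cfsg.IsUnipotentOn (U B) := by
    intro B hB
    obtain ⟨⟨σ, hσ, rfl⟩, -⟩ := id hB
    have hpair : ∀ n ∈ N, ∀ m ∈ N, ⁅Cfsg.conjBy (Cfsg.sameActionSubgroup G σ) n,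
        Cfsg.conjBy (Cfsg.sameActionSubgroup G σ) m⁆ = ⊥ := by
      intro n hn m hm
      have h0 := hcomm _ hB (n⁻¹ * m) (mul_mem (inv_mem hn) hm)
      have := congrArg (fun S : Subgroup GLM => Cfsg.conjBy S n) h0
      simp only [Cfsg.conjBy, Subgroup.map_commutator, Subgroup.map_bot] at this
      rwa [show Subgroup.map (MulAut.conj n).toMonoidHom (Subgroup.map (MulAut.conj (n⁻¹ * m)).toMonoidHom
          (Cfsg.sameActionSubgroup G σ)) = Cfsg.conjBy (Cfsg.sameActionSubgroup G σ) m by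
        show Cfsg.conjBy (Cfsg.conjBy _ _) _ = _
        rw [conjBy_conjBy, mul_inv_cancel_left]] at this
    rw [hUd]
    refine UnipJoin.isUnipotentOn_iSup (fun C hC => le_biSup (fun C : Subgroup GLM => C) hC) ?_ ?_
    · rintro C ⟨n, hn, rfl⟩ D ⟨m, hm, rfl⟩
      have hnG : n ∈ G := partGroup_le A (hNH hn)
      have hmG : m ∈ G := partGroup_le A (hNH hm)
      have h0 := hpair n hn m hm
      rw [conjBy_root hk2 hk3 hG hσ hnG, conjBy_root hk2 hk3 hG hσ hmG] at h0 ⊢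
      have h1 := (conj_minimal hnG hσ).1
      have h2 := (conj_minimal hmG hσ).1
      rcases not_and_or.1 (not_opposite_of_commute hk2 hk3 hG h1 h2 h0) with h | h
      · exact isUnipotentOn_sup hk2 hk3 h1 h2 h
      · rw [sup_comm]; exact isUnipotentOn_sup hk2 hk3 h2 h1 h
    · rintro C ⟨n, hn, rfl⟩ g hg
      refine ⟨n, hn, conjBy_commute fun c hc => ?_⟩
      have hle : (⨆ D ∈ {C | ∃ n ∈ N, C = Cfsg.conjBy (Cfsg.sameActionSubgroup G σ) n}, D) ≤
          Subgroup.centralizer (Cfsg.conjBy (Cfsg.sameActionSubgroup G σ) n : Set GLM) :=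
        iSup₂_le fun D ⟨m, hm, e⟩ => e ▸ Subgroup.commutator_eq_bot_iff_le_centralizer.1 (hpair m hm n hn)
      exact (Subgroup.mem_centralizer_iff.1 (hle hg) c hc).symm
  have hUconj : ∀ B, ∀ g ∈ partGroup G A, Cfsg.conjBy (U B) g = U (Cfsg.conjBy B g) := by
    intro B g hg
    rw [hUd, hUd, Cfsg.conjBy, Subgroup.map_iSup]
    refine le_antisymm (iSup_le fun C => ?_) (iSup₂_le fun C hC => ?_)
    · rw [Subgroup.map_iSup]
      refine iSup_le fun ⟨n, hn, e⟩ => ?_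
      refine le_biSup (fun C : Subgroup GLM => C) ⟨g * n * g⁻¹, hN g hg n hn, ?_⟩
      rw [e]
      show Cfsg.conjBy (Cfsg.conjBy B n) g = Cfsg.conjBy (Cfsg.conjBy B g) (g * n * g⁻¹)
      rw [conjBy_conjBy, conjBy_conjBy, inv_mul_cancel_right]
    · obtain ⟨n, hn, rfl⟩ := hC
      refine le_iSup_of_le (Cfsg.conjBy B (g⁻¹ * n * g)) ?_
      rw [Subgroup.map_iSup]
      refine le_iSup_of_le ⟨g⁻¹ * n * g, by simpa using hN g⁻¹ (inv_mem hg) n hn, rfl⟩ (le_of_eq ?_)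
      show Cfsg.conjBy (Cfsg.conjBy B g) n = Cfsg.conjBy (Cfsg.conjBy B (g⁻¹ * n * g)) g
      rw [conjBy_conjBy, conjBy_conjBy]
      congr 1
      group
  have hUn : ∀ B, ∀ m ∈ N, ∀ x ∈ U B, m * x * m⁻¹ ∈ U B := by
    intro B m hm x hx
    have h1 : m * x * m⁻¹ ∈ Cfsg.conjBy (U B) m := ⟨x, hx, rfl⟩
    rw [hUconj B m (hNH hm), hUd] at h1
    rw [hUd]
    have hle : (⨆ C ∈ {C | ∃ n ∈ N, C = Cfsg.conjBy (Cfsg.conjBy B m) n}, C) ≤
        ⨆ C ∈ {C | ∃ n ∈ N, C = Cfsg.conjBy B n}, C := iSup₂_le fun C ⟨n, hn, e⟩ =>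
      le_biSup (fun C : Subgroup GLM => C) ⟨n * m, mul_mem hn hm, by rw [e, conjBy_conjBy]⟩
    exact hle h1
  obtain ⟨W, hW⟩ : ∃ W : Set (Subgroup GLM), W = {V | ∃ B ∈ part G A, V = U B ⊓ N} := ⟨_, rfl⟩
  have hWG : ∀ V ∈ W, V ≤ partGroup G A := by
    rw [hW]; rintro V ⟨B, -, rfl⟩; exact inf_le_right.trans hNH
  have hWW : ∀ V ∈ W, ∀ V' ∈ W, Cfsg.IsUnipotentOn (V ⊔ V') := by
    rw [hW]
    rintro V ⟨B, hB, rfl⟩ V' ⟨B', hB', rfl⟩
    exact isUnipotentOn_sup_normalized (isUnipotentOn_mono inf_le_left (hUu B hB))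
      (isUnipotentOn_mono inf_le_left (hUu B' hB'))
      fun g hg p hp => Subgroup.mem_inf.2 ⟨hUn B g hg.2 p hp.1, N.mul_mem (N.mul_mem hg.2 hp.2) (N.inv_mem hg.2)⟩
  have hWc : ∀ V ∈ W, ∀ g ∈ partGroup G A, Cfsg.conjBy V g ∈ W := by
    rw [hW]
    rintro V ⟨B, hB, rfl⟩ g hg
    refine ⟨Cfsg.conjBy B g, conj_part hk2 hk3 hG hA hB hg, ?_⟩
    rw [Cfsg.conjBy, Subgroup.map_inf _ _ _ (MulAut.conj g).injective]
    refine congrArg₂ _ (hUconj B g hg) (le_antisymm ?_ fun y hy => ?_)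
    · rintro _ ⟨y, hy, rfl⟩; exact hN g hg y hy
    · exact ⟨g⁻¹ * y * g, by simpa using hN g⁻¹ (inv_mem hg) y hy, by simp [mul_assoc]⟩
  have hP := UnipJoin.isUnipotentOn_iSup hWG hWW hWc
  have hPn : ∀ g ∈ ⨆ B ∈ Cfsg.quadraticRootSubgroups G, B, ∀ v ∈ ⨆ V ∈ W, V, g * v * g⁻¹ ∈ ⨆ V ∈ W, V := by
    have hle : (⨆ B ∈ Cfsg.quadraticRootSubgroups G, B) ≤
        Subgroup.normalizer ((⨆ V ∈ W, V : Subgroup GLM) : Set GLM) := by
      refine iSup₂_le fun B hB => ?_
      by_cases hc : Conn G A B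
      · intro g hg
        have hgH := le_partGroup (mem_part hB hc) hg
        refine Subgroup.mem_normalizer_iff.2 fun v => ⟨fun hv => (UnipJoin.conjBy_iSup_eq hWc hgH).le ⟨v, hv, rfl⟩,
          fun hv => ?_⟩
        obtain ⟨w, hw, e⟩ := (UnipJoin.conjBy_iSup_eq hWc hgH).ge hv
        have : w = v := by simpa using e
        exact this ▸ hw
      · refine le_trans ?_ (Subgroup.centralizer_le_normalizer _)
        refine (le_partGroup (mem_part hB Relation.ReflTransGen.refl : B ∈ part G B)).trans ?_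
        refine (Subgroup.commutator_eq_bot_iff_le_centralizer.1
          (partGroup_commute hk2 hk3 hG (fun h => hc (conn_symm h) : ¬ Conn G B A))).trans
          (Subgroup.centralizer_le ?_)
        exact iSup₂_le hWG
    exact fun g hg v hv => (Subgroup.mem_normalizer_iff.1 (hle hg) v).1 hv
  have hbot := eq_bot_of_unipotent hk2 hk3 hG ((iSup₂_le hWG).trans
    (iSup₂_le fun B hB => le_biSup (fun C : Subgroup GLM => C) hB.1)) hPn hP
  intro n hn g hg
  suffices hle : partGroup G A ≤ Subgroup.centralizer ({n} : Set GLM) from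
    Subgroup.mem_centralizer_singleton_iff.1 (hle hg)
  refine iSup₂_le fun B hB a ha => Subgroup.mem_centralizer_singleton_iff.2 ?_
  have h1 : a * n * a⁻¹ * n⁻¹ ∈ U B := by
    have := mul_mem (hBU B ha) (hUn B n hn a⁻¹ (inv_mem (hBU B ha)))
    simpa [mul_assoc] using this
  have h2 : a * n * a⁻¹ * n⁻¹ ∈ N := mul_mem (hN a (le_partGroup hB ha) n hn) (inv_mem hn)
  have h3 : a * n * a⁻¹ * n⁻¹ ∈ ⨆ V ∈ W, V :=
    le_biSup (fun V : Subgroup GLM => V) (show U B ⊓ N ∈ W by rw [hW]; exact ⟨B, hB, rfl⟩) ⟨h1, h2⟩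
  rw [hbot, Subgroup.mem_bot, ← commutatorElement_def, commutatorElement_eq_one_iff_mul_comm] at h3
  exact h3

/-- The group of a component is quasisimple. -/
theorem partGroup_quasisimple {A : Subgroup GLM} (hA : A ∈ Cfsg.quadraticRootSubgroups G) :
    Cfsg.IsQuasisimple ↥(partGroup G A) := by
  have hp : Group.IsPerfect ↥(partGroup G A) :=
    Subgroup.isPerfect_iff.2 (le_antisymm (Subgroup.commutator_le_self _) (partGroup_perfect hk2 hk3 hG A))
  obtain ⟨σ, hσ, rfl⟩ := id hA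
  have hσH : σ ∈ partGroup G (Cfsg.sameActionSubgroup G σ) :=
    le_partGroup (mem_part hA Relation.ReflTransGen.refl) (Subgroup.subset_closure (self_mem_class hσ))
  have : Nontrivial ↥(partGroup G (Cfsg.sameActionSubgroup G σ)) :=
    (Subgroup.nontrivial_iff_exists_ne_one _).2 ⟨σ, hσH, fun h => hσ.1.2.1.2 (by rw [h, Units.val_one, sub_self])⟩
  refine Grp.isQuasisimple_of hp fun N hNn => ?_
  rcases partGroup_normal hk2 hk3 hG hA (N := N.map (partGroup G (Cfsg.sameActionSubgroup G σ)).subtype)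
    (Subgroup.map_subtype_le N) (by
      rintro g hg _ ⟨n, hn, rfl⟩
      exact ⟨⟨g, hg⟩ * n * ⟨g, hg⟩⁻¹, hNn.conj_mem n hn _, rfl⟩) with h | h
  · left
    refine top_le_iff.1 fun y _ => ?_
    obtain ⟨n, hn, e⟩ := h y.2
    exact Subtype.ext e ▸ hn
  · exact Or.inr fun n hn => Subgroup.mem_center_iff.2 fun y => Subtype.ext (h _ ⟨n, hn, rfl⟩ _ y.2)

end Cfsg.Agent.Fus.QPair
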