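import Mathlib
import Cfsg.Prelude.Def_RootSubgroups
import Cfsg.Agent.Lib.Fus.QuadPairQuasi

/-!
A quadratic pair is a central product of quasisimple groups.
-/

set_option autoImplicit false
set_option linter.unusedSectionVars false

open scoped commutatorElement

namespace Cfsg.Agent.Fus.QPair

universe u

variable {k : Type u} [Field k] {M : Type u} [AddCommGroup M] [Module k M] [FiniteDimensional k M]
  {G : Subgroup (LinearMap.GeneralLinearGroup k M)} {σ τ : LinearMap.GeneralLinearGroup k M}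

local notation "End'" => Module.End k M
local notation "GLM" => LinearMap.GeneralLinearGroup k M

/-- The group generated by all the root groups. -/
def rootsGroup (G : Subgroup GLM) : Subgroup GLM := ⨆ A ∈ Cfsg.quadraticRootSubgroups G, A

variable (hk2 : ringChar k ≠ 2) (hk3 : Nat.card k ≠ 3) (hG : NormalFree G)

include hk2 hk3 hG

/-- A quadratic element lies in the root groups times their centralizer. -/
theorem quad_mem_sup {ρ : GLM} (hρ : ρ ∈ Cfsg.quadraticElements G) :
    ρ ∈ rootsGroup G ⊔ (G ⊓ Subgroup.centralizer (rootsGroup G : Set GLM)) := by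
  suffices h : ∀ n, ∀ ρ ∈ Cfsg.quadraticElements G, Cfsg.commutatorRank ρ = n →
      ρ ∈ rootsGroup G ⊔ (G ⊓ Subgroup.centralizer (rootsGroup G : Set GLM)) from h _ ρ hρ rfl
  intro n
  induction n using Nat.strong_induction_on with
  | _ n IH =>
  intro ρ hρ hn
  by_cases hnil : NilAll G ρ
  · refine Subgroup.mem_sup_right ⟨hρ.1, ?_⟩
    have hle : rootsGroup G ≤ Subgroup.centralizer ({ρ} : Set GLM) := by
      refine iSup₂_le fun A hA a ha => Subgroup.mem_centralizer_singleton_iff.2 ?_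
      obtain ⟨σ, hσ, rfl⟩ := hA
      have h := commute_of_nilAll hk2 hk3 hG.unip hρ hnil hσ (sub_one_mem_rootSpace hk2 hk3 hG.unip hσ ha)
      refine Units.ext ?_
      rw [Units.val_mul, Units.val_mul]
      simp only [sub_mul, mul_sub, one_mul, mul_one] at h
      linear_combination (norm := abel) h
    exact Subgroup.mem_centralizer_iff.2 fun x hx => Subgroup.mem_centralizer_singleton_iff.1 (hle hx)
  · simp only [NilAll, not_forall] at hnil
    obtain ⟨σ, hσ, hz⟩ := hnil
    obtain ⟨g, hg, -, ρ', -, hρe, hρ', hlt, -⟩ := exists_split_quadratic hk2 hk3 hG.unip hρ hσ hz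
    have hgR : g ∈ rootsGroup G := le_biSup (fun A : Subgroup GLM => A)
      (show Cfsg.sameActionSubgroup G g ∈ Cfsg.quadraticRootSubgroups G from ⟨g, hg, rfl⟩)
      (Subgroup.subset_closure (self_mem_class hg))
    rw [hρe]
    refine mul_mem (Subgroup.mem_sup_left hgR) ?_
    rcases hρ' with h | h
    · rw [h]; exact one_mem _
    · exact IH _ (hn ▸ hlt) ρ' h rfl

theorem le_sup_centralizer (hgen : Subgroup.closure (Cfsg.quadraticElements G) = G) :
    G ≤ rootsGroup G ⊔ (G ⊓ Subgroup.centralizer (rootsGroup G : Set GLM)) := by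
  conv_lhs => rw [← hgen]
  exact (Subgroup.closure_le _).2 fun ρ hρ => quad_mem_sup hk2 hk3 hG hρ

omit hk2 hk3 hG [FiniteDimensional k M] in
theorem partGroup_le_roots (A : Subgroup GLM) : partGroup G A ≤ rootsGroup G :=
  iSup₂_le fun B hB => le_biSup (fun C : Subgroup GLM => C) hB.1

theorem conj_partGroup_all (hgen : Subgroup.closure (Cfsg.quadraticElements G) = G) {A : Subgroup GLM}
    (hA : A ∈ Cfsg.quadraticRootSubgroups G) {g : GLM} (hg : g ∈ G) :
    Cfsg.conjBy (partGroup G A) g = partGroup G A := by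
  have hle : rootsGroup G ⊔ (G ⊓ Subgroup.centralizer (rootsGroup G : Set GLM)) ≤
      Subgroup.normalizer (partGroup G A : Set GLM) := by
    refine sup_le (fun x hx => ?_) ?_
    · have h1 := conj_partGroup hk2 hk3 hG.unip hA hx
      refine Subgroup.mem_normalizer_iff.2 fun y => ⟨fun hy => h1.le ⟨y, hy, rfl⟩, fun hy => ?_⟩
      obtain ⟨z, hz, e⟩ := h1.ge hy
      have : z = y := by simpa using e
      exact this ▸ hz
    · exact inf_le_right.trans ((Subgroup.centralizer_le (partGroup_le_roots A)).trans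
        (Subgroup.centralizer_le_normalizer _))
  have hn := hle (le_sup_centralizer hk2 hk3 hG hgen hg)
  refine le_antisymm ?_ fun y hy => ?_
  · rintro _ ⟨y, hy, rfl⟩
    exact (Subgroup.mem_normalizer_iff.1 hn y).1 hy
  · exact ⟨g⁻¹ * y * g, (Subgroup.mem_normalizer_iff.1 hn _).2 (by simpa [mul_assoc] using hy), by simp [mul_assoc]⟩

/-- A quadratic element lies in one factor, or centralizes all root groups. -/
theorem quad_cases (hgen : Subgroup.closure (Cfsg.quadraticElements G) = G) {ρ : GLM}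
    (hρ : ρ ∈ Cfsg.quadraticElements G) :
    (∃ A ∈ Cfsg.quadraticRootSubgroups G, ρ ∈ partGroup G A) ∨
      ρ ∈ Subgroup.centralizer (rootsGroup G : Set GLM) := by
  suffices h : ∀ n, ∀ ρ ∈ Cfsg.quadraticElements G, Cfsg.commutatorRank ρ = n →
      (∃ A ∈ Cfsg.quadraticRootSubgroups G, ρ ∈ partGroup G A) ∨
        ρ ∈ Subgroup.centralizer (rootsGroup G : Set GLM) from h _ ρ hρ rfl
  intro n
  induction n using Nat.strong_induction_on with
  | _ n IH =>
  intro ρ hρ hn
  by_cases hnil : NilAll G ρ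
  · right
    have hle : rootsGroup G ≤ Subgroup.centralizer ({ρ} : Set GLM) := by
      refine iSup₂_le fun A hA a ha => Subgroup.mem_centralizer_singleton_iff.2 ?_
      obtain ⟨σ, hσ, rfl⟩ := hA
      have h := commute_of_nilAll hk2 hk3 hG.unip hρ hnil hσ (sub_one_mem_rootSpace hk2 hk3 hG.unip hσ ha)
      refine Units.ext ?_
      rw [Units.val_mul, Units.val_mul]
      simp only [sub_mul, mul_sub, one_mul, mul_one] at h
      linear_combination (norm := abel) h
    exact Subgroup.mem_centralizer_iff.2 fun x hx => Subgroup.mem_centralizer_singleton_iff.1 (hle hx)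
  simp only [NilAll, not_forall] at hnil
  obtain ⟨σ, hσ, hz⟩ := hnil
  obtain ⟨g, hg, hop, ρ', hρ'G, hρe, hρ', hlt, hyσ, hyg, -⟩ := exists_split_quadratic hk2 hk3 hG.unip hρ hσ hz
  obtain ⟨A, hA⟩ : ∃ A, A = Cfsg.sameActionSubgroup G σ := ⟨_, rfl⟩
  have hAroot : A ∈ Cfsg.quadraticRootSubgroups G := ⟨σ, hσ, hA⟩
  have hgA : g ∈ partGroup G A := le_partGroup
    (mem_part ⟨g, hg, rfl⟩ (hA ▸ conn_of_opposite hk2 hk3 hG.unip hσ hg hop))
    (Subgroup.subset_closure (self_mem_class hg))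
  refine Or.inl ⟨A, hAroot, hρe ▸ mul_mem hgA ?_⟩
  rcases hρ' with h | h
  · rw [h]; exact one_mem _
  by_cases hsame : ρ' ∈ partGroup G A
  · exact hsame
  exfalso
  -- otherwise `ρ'` centralizes the factor, so kills all of the moved space
  have hcent : ∀ x ∈ partGroup G A, ρ' * x = x * ρ' := by
    intro x hx
    rcases IH _ (hn ▸ hlt) ρ' h rfl with ⟨B, hB, hρB⟩ | hc
    · have hne : ¬ Conn G B A := fun hc => hsame (by
        have : partGroup G B = partGroup G A := by unfold partGroup; rw [part_eq hc]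
        exact this ▸ hρB)
      rw [← commutatorElement_eq_one_iff_mul_comm, ← Subgroup.mem_bot, ← partGroup_commute hk2 hk3 hG.unip hne]
      exact Subgroup.commutator_mem_commutator hρB hx
    · exact (Subgroup.mem_centralizer_iff.1 hc x (partGroup_le_roots A hx)).symm
  obtain ⟨y, hy⟩ : ∃ y, y = (ρ' : End') - 1 := ⟨_, rfl⟩
  rw [← hy] at hyσ hyg
  have hpath : ∀ C, Conn G A C → ∀ γ ∈ Cfsg.minimalQuadraticElements G, C = Cfsg.sameActionSubgroup G γ →
      rf γ ≤ LinearMap.ker y := by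
    intro C hAC
    induction hAC with
    | refl =>
      intro γ hγ e
      have hm : γ ∈ Cfsg.sameActionSubgroup G σ := by
        rw [← hA, e]; exact Subgroup.subset_closure (self_mem_class hγ)
      have hc := mem_class_of_mem hk2 hk3 hG.unip hσ hm (fun h => hγ.1.2.1.2 (by rw [h, Units.val_one, sub_self]))
      intro v hv
      obtain ⟨m, rfl⟩ := hc.2.2.le hv
      exact LinearMap.mem_ker.2 (LinearMap.congr_fun hyσ m)
    | @tail P C hAP hPC ih =>
      intro γ hγ e
      subst e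
      obtain ⟨⟨π, hπ, rfl⟩, -, hpair⟩ := hPC
      have hop' := opposite_of_rankOne hk2 hk3 hG.unip hπ hγ hpair
      obtain ⟨b, hb, hconj, -⟩ := exists_partner hk2 hk3 hπ hγ hop'
      have hxA : π * b⁻¹ ∈ partGroup G A := mul_mem
        (le_partGroup (mem_part ⟨π, hπ, rfl⟩ hAP) (Subgroup.subset_closure (self_mem_class hπ)))
        (inv_mem (le_partGroup (mem_part ⟨γ, hγ, rfl⟩ (conn_trans hAP (conn_of_opposite hk2 hk3 hG.unip hπ hγ hop')))
          (Subgroup.subset_closure hb)))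
      obtain ⟨x, hx⟩ : ∃ x, x = π * b⁻¹ := ⟨_, rfl⟩
      rw [← hx] at hxA hconj
      have hxG : x ∈ G := partGroup_le A hxA
      obtain ⟨-, hr, -⟩ := conj_minimal hxG hπ
      have hm : x * π * x⁻¹ ∈ Cfsg.sameActionSubgroup G γ :=
        hconj ▸ ⟨π, Subgroup.subset_closure (self_mem_class hπ), rfl⟩
      have hc := mem_class_of_mem hk2 hk3 hG.unip hγ hm
        (fun h => (conj_minimal hxG hπ).1.1.2.1.2 (by rw [h, Units.val_one, sub_self]))
      intro v hv
      obtain ⟨w, hw, rfl⟩ := hr.le (hc.2.2.ge hv)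
      have hyw := ih π hπ rfl hw
      rw [LinearMap.mem_ker] at hyw ⊢
      have hyx : y * (x : End') = (x : End') * y := by
        rw [hy, sub_mul, mul_sub, one_mul, mul_one, ← Units.val_mul, ← Units.val_mul, hcent x hxA]
      rw [← Module.End.mul_apply, hyx, Module.End.mul_apply, hyw, map_zero]
  have hle : Cfsg.commutatorSubmodule (partGroup G A) ≤ LinearMap.ker y := by
    refine iSup₂_le fun x hx => subgroup_sub_one (X := partGroup G A) (S := ⋃ B ∈ part G A, (B : Set GLM)) ?_ ?_ hx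
    · exact iSup₂_le fun B hB x hx => Subgroup.subset_closure (Set.mem_biUnion hB hx)
    · intro x hx
      obtain ⟨B, hB, hxB⟩ := Set.mem_iUnion₂.1 hx
      obtain ⟨⟨γ, hγ, rfl⟩, hAB⟩ := hB
      exact (rootSpace_le (sub_one_mem_rootSpace hk2 hk3 hG.unip hγ hxB)).2.trans (hpath _ hAB γ hγ rfl)
  have hne : partGroup G A ≠ ⊥ := fun e => root_ne_bot hσ (le_bot_iff.1
    (hA ▸ (le_partGroup (mem_part hAroot Relation.ReflTransGen.refl)).trans e.le))
  have htop := (hG (partGroup G A) (partGroup_le A) hne fun x hx n hn =>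
    (conj_partGroup_all hk2 hk3 hG hgen hAroot hx).le ⟨n, hn, rfl⟩).2
  rw [htop] at hle
  refine h.2.1.2 ?_
  show (ρ' : End') - 1 = 0
  rw [← hy]
  exact LinearMap.ker_eq_top.1 (top_le_iff.1 hle)

omit hk2 hk3 hG in
/-- The decomposition of a group generated by its quadratic elements. -/
theorem decomposition (hk2 : ringChar k ≠ 2) (hk3 : Nat.card k ≠ 3) :
    ∀ n, ∀ H : Subgroup GLM, Module.finrank k (UnipJoin.nSpan (H : Set GLM)) = n → NormalFree H →
      Subgroup.closure (Cfsg.quadraticElements H) = H →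
      ∃ S : Set (Subgroup GLM), S.Finite ∧
        (∀ N ∈ S, N ≤ H ∧ (∀ g ∈ H, Cfsg.conjBy N g = N) ∧ Cfsg.IsQuasisimple ↥N ∧
          Subgroup.closure (Cfsg.quadraticElements H ∩ (N : Set GLM)) = N) ∧
        (∀ N ∈ S, ∀ N' ∈ S, N ≠ N' → ⁅N, N'⁆ = ⊥) ∧ (⨆ N ∈ S, N) = H ∧
        Cfsg.quadraticElements H ⊆ ⋃ N ∈ S, (N : Set GLM) := by
  intro n
  induction n using Nat.strong_induction_on with
  | _ n IH =>
  intro H hn hH hgen
  by_cases hne : Cfsg.quadraticElements H = ∅
  · refine ⟨∅, Set.finite_empty, by simp, by simp, ?_, by simp [hne]⟩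
    rw [← hgen, hne, Subgroup.closure_empty]
    simp
  obtain ⟨σ, hσ⟩ : ∃ σ, σ ∈ Cfsg.minimalQuadraticElements H := by
    classical
    have hex : ∃ d, ∃ ρ ∈ Cfsg.quadraticElements H, Cfsg.commutatorRank ρ = d := by
      obtain ⟨ρ, hρ⟩ := Set.nonempty_iff_ne_empty.2 hne
      exact ⟨_, ρ, hρ, rfl⟩
    obtain ⟨σ, hσ, e⟩ := Nat.find_spec hex
    exact ⟨σ, hσ, fun ρ hρ => e ▸ Nat.find_min' hex ⟨ρ, hρ, rfl⟩⟩
  obtain ⟨C, hC⟩ : ∃ C, C = Subgroup.centralizer (rootsGroup H : Set GLM) := ⟨_, rfl⟩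
  obtain ⟨H', hH'⟩ : ∃ H', H' = Subgroup.closure (Cfsg.quadraticElements H ∩ (C : Set GLM)) := ⟨_, rfl⟩
  have hH'H : H' ≤ H := by rw [hH', Subgroup.closure_le]; exact fun x hx => hx.1.1
  have hH'C : H' ≤ C := by rw [hH', Subgroup.closure_le]; exact fun x hx => hx.2
  have hQ : Cfsg.quadraticElements H' = Cfsg.quadraticElements H ∩ (C : Set GLM) := by
    refine Set.Subset.antisymm (fun x hx => ⟨⟨hH'H hx.1, hx.2.1, fun f hf => hH'H (hx.2.2 hf)⟩, hH'C hx.1⟩) ?_
    rintro x ⟨hxQ, hxC⟩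
    refine ⟨hH' ▸ Subgroup.subset_closure ⟨hxQ, hxC⟩, hxQ.2.1, fun f hf => ?_⟩
    obtain ⟨c, hc⟩ := hf
    by_cases hc0 : c = 0
    · rw [show f = 1 from Units.ext (by rw [hc, hc0, zero_smul, add_zero, Units.val_one])]
      exact one_mem _
    refine hH' ▸ Subgroup.subset_closure ⟨⟨hxQ.2.2 ⟨c, hc⟩, ⟨?_, ?_⟩, ?_⟩, ?_⟩
    · show ((f : End') - 1) * ((f : End') - 1) = 0
      rw [hc, add_sub_cancel_left, smul_mul_smul_comm, hxQ.2.1.1, smul_zero]
    · show (f : End') - 1 ≠ 0
      rw [hc, add_sub_cancel_left]; exact smul_ne_zero hc0 hxQ.2.1.2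
    · rintro g ⟨d, hd⟩
      exact hxQ.2.2 ⟨d * c, by rw [hd, hc, add_sub_cancel_left, smul_smul]⟩
    · rw [hC] at hxC ⊢
      refine Subgroup.mem_centralizer_iff.2 fun r hr => Units.ext ?_
      have h1 : (r : End') * (x : End') = (x : End') * (r : End') := by
        rw [← Units.val_mul, ← Units.val_mul, Subgroup.mem_centralizer_iff.1 hxC r hr]
      rw [Units.val_mul, Units.val_mul, hc]
      simp only [mul_add, add_mul, mul_one, one_mul, smul_mul_assoc, mul_smul_comm, mul_sub, sub_mul, h1]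
  have hsup : H ≤ rootsGroup H ⊔ H' := by
    conv_lhs => rw [← hgen]
    rw [Subgroup.closure_le]
    intro ρ hρ
    rcases quad_cases hk2 hk3 hH hgen hρ with ⟨A, -, hA⟩ | hc
    · exact Subgroup.mem_sup_left (partGroup_le_roots A hA)
    · exact Subgroup.mem_sup_right (hH' ▸ Subgroup.subset_closure ⟨hρ, hC ▸ hc⟩)
  have hcommC : ∀ r ∈ rootsGroup H, ∀ x ∈ H', r * x = x * r := fun r hr x hx =>
    Subgroup.mem_centralizer_iff.1 (hC ▸ hH'C hx) r hr
  have hfree : NormalFree H' := by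
    intro N hN hN1 hnorm
    refine hH N (hN.trans hH'H) hN1 ?_
    have hle : rootsGroup H ⊔ H' ≤ Subgroup.normalizer (N : Set GLM) := by
      refine sup_le ?_ fun g hg => Subgroup.mem_normalizer_iff.2 fun y => ⟨hnorm g hg y, fun hy => ?_⟩
      · exact le_trans (fun r hr => Subgroup.mem_centralizer_iff.2 fun x hx => (hcommC r hr x (hN hx)).symm)
          (Subgroup.centralizer_le_normalizer _)
      · simpa [mul_assoc] using hnorm g⁻¹ (inv_mem hg) _ hy
    exact fun g hg y hy => (Subgroup.mem_normalizer_iff.1 (hle (hsup hg)) y).1 hy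
  have hlt : Module.finrank k (UnipJoin.nSpan (H' : Set GLM)) < n := by
    rw [← hn]
    refine Submodule.finrank_lt_finrank_of_lt (lt_of_le_of_ne (UnipJoin.nSpan_mono hH'H) fun e => ?_)
    obtain ⟨g, -, hγ, hop⟩ := exists_opposite hk2 hk3 hH.unip hσ
    obtain ⟨γ, hγe⟩ : ∃ γ, γ = g * σ * g⁻¹ := ⟨_, rfl⟩
    rw [← hγe] at hγ hop
    obtain ⟨c, hc⟩ : ∃ c, c = (γ : End') - 1 := ⟨_, rfl⟩
    have hγR : γ ∈ rootsGroup H := le_biSup (fun A : Subgroup GLM => A)
      (show Cfsg.sameActionSubgroup H γ ∈ Cfsg.quadraticRootSubgroups H from ⟨γ, hγ, rfl⟩)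
      (Subgroup.subset_closure (self_mem_class hγ))
    have hall : ∀ x ∈ UnipJoin.nSpan (H' : Set GLM), c * x = x * c := by
      intro x hx
      induction hx using Submodule.span_induction with
      | mem x hx =>
        obtain ⟨f, hf, rfl⟩ := hx
        have h1 : (γ : End') * (f : End') = (f : End') * (γ : End') := by
          rw [← Units.val_mul, ← Units.val_mul, hcommC γ hγR f hf]
        simp only [hc, mul_sub, sub_mul, one_mul, mul_one, h1]
        abel
      | zero => rw [mul_zero, zero_mul]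
      | add x y _ _ ihx ihy => rw [mul_add, add_mul, ihx, ihy]
      | smul d x _ ihx => rw [mul_smul_comm, smul_mul_assoc, ihx]
    have h2 := hall _ (e.ge (UnipJoin.sub_one_mem hσ.1.1 : (σ : End') - 1 ∈ UnipJoin.nSpan (H : Set GLM)))
    refine opp_mul_ne hop hγ.1.2.1.2 ?_
    rw [← hc, h2, mul_assoc, hc, hγ.1.2.1.1, mul_zero]
  obtain ⟨S', hSfin, hS1, hS2, hS3, hS4⟩ := IH _ hlt H' rfl hfree (by rw [hQ, ← hH'])
  have hpartQ : ∀ A, ∀ B ∈ part H A, (B : Set GLM) ⊆ insert 1 (Cfsg.quadraticElements H) := by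
    intro A B hB x hx
    obtain ⟨⟨π, hπ, rfl⟩, -⟩ := hB
    by_cases h1 : x = 1
    · exact Or.inl h1
    · exact Or.inr (mem_class_of_mem hk2 hk3 hH.unip hπ hx h1).1.1
  refine ⟨(fun A => partGroup H A) '' Cfsg.quadraticRootSubgroups H ∪ S', ?_, ?_, ?_, ?_, ?_⟩
  · refine Set.Finite.union ?_ hSfin
    have : (fun A => partGroup H A) '' Cfsg.quadraticRootSubgroups H =
        (fun P : Set (Subgroup GLM) => ⨆ B ∈ P, B) '' (part H '' Cfsg.quadraticRootSubgroups H) := by
      rw [Set.image_image]; rfl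
    rw [this]
    exact (finite_parts hk2 hk3 hH.unip).image _
  · rintro N (⟨A, hA, rfl⟩ | hN)
    · refine ⟨partGroup_le A, fun g hg => conj_partGroup_all hk2 hk3 hH hgen hA hg,
        partGroup_quasisimple hk2 hk3 hH.unip hA, le_antisymm ((Subgroup.closure_le _).2 Set.inter_subset_right) ?_⟩
      refine iSup₂_le fun B hB x hx => ?_
      rcases hpartQ A B hB hx with h | h
      · rw [h]; exact one_mem _
      · exact Subgroup.subset_closure ⟨h, le_partGroup hB hx⟩
    · obtain ⟨h1, h2, h3, h4⟩ := hS1 N hN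
      refine ⟨h1.trans hH'H, fun g hg => ?_, h3, le_antisymm ((Subgroup.closure_le _).2 Set.inter_subset_right) ?_⟩
      · have hle : rootsGroup H ⊔ H' ≤ Subgroup.normalizer (N : Set GLM) := by
          refine sup_le ?_ fun x hx => Subgroup.mem_normalizer_iff.2 fun y =>
            ⟨fun hy => (h2 x hx).le ⟨y, hy, rfl⟩, fun hy => ?_⟩
          · exact le_trans (fun r hr => Subgroup.mem_centralizer_iff.2 fun x hx => (hcommC r hr x (h1 hx)).symm)
              (Subgroup.centralizer_le_normalizer _)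
          · obtain ⟨z, hz, e⟩ := (h2 x hx).ge hy
            have : z = y := by simpa using e
            exact this ▸ hz
        have hn' := hle (hsup hg)
        refine le_antisymm ?_ fun y hy => ?_
        · rintro _ ⟨y, hy, rfl⟩
          exact (Subgroup.mem_normalizer_iff.1 hn' y).1 hy
        · exact ⟨g⁻¹ * y * g, (Subgroup.mem_normalizer_iff.1 hn' _).2 (by simpa [mul_assoc] using hy),
            by simp [mul_assoc]⟩
      · conv_lhs => rw [← h4]
        exact Subgroup.closure_mono (Set.inter_subset_inter_left _ (hQ ▸ Set.inter_subset_left))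
  · have hcross : ∀ A, ∀ N ∈ S', ⁅partGroup H A, N⁆ = ⊥ := fun A N hN => by
      rw [Subgroup.commutator_eq_bot_iff_le_centralizer]
      exact fun r hr => Subgroup.mem_centralizer_iff.2 fun x hx =>
        (hcommC r (partGroup_le_roots A hr) x ((hS1 N hN).1 hx)).symm
    rintro N (⟨A, hA, rfl⟩ | hN) N' (⟨B, hB, rfl⟩ | hN') hne'
    · exact partGroup_commute hk2 hk3 hH.unip fun hc => hne' (by simp only [partGroup, part_eq hc])
    · exact hcross A N' hN'
    · rw [Subgroup.commutator_comm]; exact hcross B N hN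
    · exact hS2 N hN N' hN' hne'
  · refine le_antisymm (iSup₂_le ?_) (hsup.trans (sup_le ?_ ?_))
    · rintro N (⟨A, -, rfl⟩ | hN)
      exacts [partGroup_le A, (hS1 N hN).1.trans hH'H]
    · exact iSup₂_le fun A hA => (le_partGroup (mem_part hA Relation.ReflTransGen.refl)).trans
        (le_biSup (fun N : Subgroup GLM => N) (Or.inl ⟨A, hA, rfl⟩))
    · rw [← hS3]
      exact iSup₂_le fun N hN => le_biSup (fun N : Subgroup GLM => N) (Or.inr hN)
  · intro ρ hρ
    rcases quad_cases hk2 hk3 hH hgen hρ with ⟨A, hA, hρA⟩ | hc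
    · exact Set.mem_biUnion (Or.inl ⟨A, hA, rfl⟩) hρA
    · obtain ⟨N, hN, hρN⟩ := Set.mem_iUnion₂.1 (hS4 (hQ ▸ ⟨hρ, hC ▸ hc⟩ : ρ ∈ Cfsg.quadraticElements H'))
      exact Set.mem_biUnion (Or.inr hN) hρN

/-- The partition of the root groups into components. -/
theorem root_partition :
    ∃ (r : ℕ) (P : Fin r → Set (Subgroup GLM)), (⋃ i, P i) = Cfsg.quadraticRootSubgroups G ∧
      (∀ i j, i ≠ j → Disjoint (P i) (P j)) ∧ (∀ i, ∃ A ∈ Cfsg.quadraticRootSubgroups G, P i = part G A) ∧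
      ∀ i j, i ≠ j → ⁅⨆ A ∈ P i, A, ⨆ A ∈ P j, A⁆ = ⊥ := by
  classical
  have hfin := finite_parts hk2 hk3 hG.unip
  have := hfin.fintype
  obtain ⟨e⟩ : Nonempty (Fin (Fintype.card (part G '' Cfsg.quadraticRootSubgroups G)) ≃
      (part G '' Cfsg.quadraticRootSubgroups G)) := ⟨(Fintype.equivFin _).symm⟩
  have hne : ∀ i j, i ≠ j → ∀ A B, (e i : Set (Subgroup GLM)) = part G A → (e j : Set (Subgroup GLM)) = part G B →
      ¬ Conn G A B := fun i j hij A B hA hB hc => hij (e.injective (Subtype.ext (by rw [hA, hB, part_eq hc])))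
  refine ⟨_, fun i => (e i : Set (Subgroup GLM)), ?_, ?_, ?_, ?_⟩
  · refine Set.Subset.antisymm (Set.iUnion_subset fun i => ?_) fun A hA => ?_
    · obtain ⟨A, -, hAe⟩ := (e i).2
      exact hAe ▸ fun B hB => hB.1
    · refine Set.mem_iUnion.2 ⟨e.symm ⟨part G A, A, hA, rfl⟩, ?_⟩
      rw [Equiv.apply_symm_apply]
      exact mem_part hA Relation.ReflTransGen.refl
  · intro i j hij
    obtain ⟨A, -, hAe⟩ := (e i).2
    obtain ⟨B, -, hBe⟩ := (e j).2
    refine Set.disjoint_left.2 fun C hC hC' => ?_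
    have hC1 : C ∈ part G A := hAe.symm.subset hC
    have hC2 : C ∈ part G B := hBe.symm.subset hC'
    exact hne i j hij A B hAe.symm hBe.symm (conn_trans hC1.2 (conn_symm hC2.2))
  · intro i
    obtain ⟨A, hA, hAe⟩ := (e i).2
    exact ⟨A, hA, hAe.symm⟩
  · intro i j hij
    obtain ⟨A, -, hAe⟩ := (e i).2
    obtain ⟨B, -, hBe⟩ := (e j).2
    show ⁅⨆ C ∈ (e i : Set (Subgroup GLM)), C, ⨆ C ∈ (e j : Set (Subgroup GLM)), C⁆ = ⊥
    rw [← hAe, ← hBe]
    exact partGroup_commute hk2 hk3 hG.unip (hne i j hij A B hAe.symm hBe.symm)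

end Cfsg.Agent.Fus.QPair
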