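import Cfsg.Agent.Lib.Fus.FunctorCenter

/-!
A quadratic element outside the core centralizes the `p`-th powers modulo `X`.
-/

set_option autoImplicit false
set_option linter.style.haveILetI false
set_option linter.unusedSectionVars false

open scoped Classical commutatorElement

namespace Cfsg.Agent.Fus

open Subgroup FusionSystem

/-- A quadratic element whose `p`-th power acts trivially centralizes `p`-th powers. -/
theorem conj_pow_eq_of_quad {G : Type*} [Group G] {p : ℕ} {V C : Subgroup G}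
    (hVc : ∀ a ∈ V, ∀ b ∈ V, a * b = b * a) (hC : ∀ c ∈ C, ∀ v ∈ V, c * v = v * c)
    {g g' : G} (hg' : g' ∈ Subgroup.zpowers g) (hn : ∀ v ∈ V, g' * v * g'⁻¹ ∈ V)
    (hq : ⁅⁅V, Subgroup.zpowers g⁆, Subgroup.zpowers g⁆ = ⊥) (hp : g' ^ p ∈ C) {v : G} (hv : v ∈ V) :
    g' * v ^ p * g'⁻¹ = v ^ p := by
  set d := v * g' * v⁻¹ * g'⁻¹ with hd
  have hdV : d ∈ V := by
    rw [hd, show v * g' * v⁻¹ * g'⁻¹ = v * (g' * v⁻¹ * g'⁻¹) by group]
    exact V.mul_mem hv (hn _ (V.inv_mem hv))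
  have hd1 : ⁅d, g'⁆ = 1 := Subgroup.mem_bot.1 (hq ▸
    Subgroup.commutator_mem_commutator (Subgroup.commutator_mem_commutator hv hg') hg')
  have hfix : g' * d * g'⁻¹ = d := by
    rw [← commutatorElement_eq_one_iff_mul_comm.1 hd1, mul_inv_cancel_right]
  have hgv : g' * v * g'⁻¹ = d⁻¹ * v := by
    rw [hd]
    group
  have hiter : ∀ i : ℕ, g' ^ i * v * (g' ^ i)⁻¹ = d⁻¹ ^ i * v := by
    intro i
    induction i with
    | zero => simp
    | succ i ih =>
      calc g' ^ (i + 1) * v * (g' ^ (i + 1))⁻¹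
          = g' * (g' ^ i * v * (g' ^ i)⁻¹) * g'⁻¹ := by rw [pow_succ']; group
        _ = g' * (d⁻¹ ^ i * v) * g'⁻¹ := by rw [ih]
        _ = (g' * d⁻¹ * g'⁻¹) ^ i * (g' * v * g'⁻¹) := by rw [conj_pow]; group
        _ = d⁻¹ ^ (i + 1) * v := by
            rw [show g' * d⁻¹ * g'⁻¹ = (g' * d * g'⁻¹)⁻¹ by group, hfix, hgv, pow_succ, mul_assoc]
  have hdp : d⁻¹ ^ p = 1 := by
    have h1 := hiter p
    rw [hC _ hp v hv, mul_inv_cancel_right] at h1
    exact mul_eq_right.1 h1.symm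
  rw [← conj_pow, hgv, (show Commute d⁻¹ v from hVc _ (V.inv_mem hdV) v hv).mul_pow, hdp, one_mul]

end Cfsg.Agent.Fus
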