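import Mathlib
import Cfsg.Prelude.Def_ClassicalGeometry
import Cfsg.Agent.Lib.Classical.Symp

/-!
The number of totally isotropic lines of a symplectic four space.
-/

set_option autoImplicit false

namespace Cfsg.Agent.Fus.QuadrangleCount

open Module Finset

variable {F : Type*} [Field F] [Fintype F]

local notation "V" => (Fin 2 ⊕ Fin 2 → F)

theorem card_sub (W : Submodule F V) :
    Nat.card W = Fintype.card F ^ finrank F W := by
  rw [← Nat.card_eq_fintype_card (α := F)]
  exact Module.natCard_eq_pow_finrank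

theorem card_filter_mem [DecidableEq V] (W : Submodule F V) [DecidablePred (· ∈ W)] :
    (univ.filter (· ∈ W)).card = Fintype.card F ^ finrank F W := by
  rw [← card_sub, Nat.card_eq_fintype_card, ← Fintype.card_subtype]

theorem mul_sub_one_cancel {q a : ℕ} (hq : 2 ≤ q) (h : a * (q ^ 2 - q) = q ^ 3 - q) :
    a = q + 1 := by
  have h1 : q ≤ q ^ 2 := Nat.le_self_pow (by norm_num) q
  have h2 : q ≤ q ^ 3 := Nat.le_self_pow (by norm_num) q
  have h' : (a : ℤ) * ((q : ℤ) ^ 2 - q) = (q : ℤ) ^ 3 - q := by
    have := congrArg (Nat.cast : ℕ → ℤ) h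
    push_cast [h1, h2] at this
    exact this
  have hne : ((q : ℤ) ^ 2 - q) ≠ 0 := by
    have : (2 : ℤ) ≤ q := by exact_mod_cast hq
    nlinarith
  have : ((a : ℤ) - (q + 1)) * ((q : ℤ) ^ 2 - q) = 0 := by linear_combination h'
  have := (mul_eq_zero.1 this).resolve_right hne
  omega

theorem finrank_perp {v : V} (hv : v ≠ 0) :
    finrank F (LinearMap.ker (Classical.sympB 2 F v)) = 3 := by
  have h := LinearMap.finrank_range_add_finrank_ker (Classical.sympB 2 F v)
  have hr : LinearMap.range (Classical.sympB 2 F v) = ⊤ := by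
    refine LinearMap.range_eq_top.2 fun c => ?_
    obtain ⟨w, hw⟩ := Classical.exists_sympForm_eq_one hv
    exact ⟨c • w, by rw [map_smul, Classical.sympB_apply, hw, smul_eq_mul, mul_one]⟩
  rw [hr, finrank_top, Module.finrank_self, Module.finrank_fintype_fun_eq_card] at h
  simp at h
  omega

theorem count_through {q : ℕ} (hF : Fintype.card F = q) (v : V) (hv : v ≠ 0) :
    Nat.card {W : Submodule F V // finrank F W = 2 ∧ v ∈ W ∧
      ∀ u ∈ W, ∀ w ∈ W, Cfsg.sympForm 2 F u w = 0} = q + 1 := by
  classical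
  haveI : Fintype (Submodule F V) := Fintype.ofFinite _
  rw [Nat.card_eq_fintype_card, Fintype.card_subtype]
  have hq : 2 ≤ q := hF ▸ Fintype.one_lt_card
  let P := univ.filter fun w : V => w ∈ LinearMap.ker (Classical.sympB 2 F v) ∧ w ∉ F ∙ v
  let T := univ.filter fun W : Submodule F V => finrank F W = 2 ∧ v ∈ W ∧
      ∀ u ∈ W, ∀ w ∈ W, Cfsg.sympForm 2 F u w = 0
  show T.card = q + 1
  have hP : P.card = q ^ 3 - q := by
    have e : P = (univ.filter (· ∈ LinearMap.ker (Classical.sympB 2 F v))) \
        univ.filter (· ∈ F ∙ v) := by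
      ext w; simp [P]
    have hsub : univ.filter (· ∈ F ∙ v) ⊆
        univ.filter (· ∈ LinearMap.ker (Classical.sympB 2 F v)) := by
      intro w hw
      obtain ⟨c, rfl⟩ := Submodule.mem_span_singleton.1 (mem_filter.1 hw).2
      simp [Classical.sympB_apply, Classical.sympForm_smul_right, Classical.sympForm_self]
    rw [e, card_sdiff_of_subset hsub, card_filter_mem, card_filter_mem, finrank_perp hv,
      finrank_span_singleton hv, pow_one, hF]
  have hspan : ∀ w ∈ P, finrank F (Submodule.span F {v, w}) = 2 ∧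
      ∀ a ∈ Submodule.span F {v, w}, ∀ b ∈ Submodule.span F {v, w},
        Cfsg.sympForm 2 F a b = 0 := by
    intro w hw
    obtain ⟨hw1, hw2⟩ := (mem_filter.1 hw).2
    rw [LinearMap.mem_ker, Classical.sympB_apply] at hw1
    constructor
    · have hli : LinearIndependent F ![v, w] :=
        (LinearIndependent.pair_iff' hv).2 fun c e => hw2 (Submodule.mem_span_singleton.2 ⟨c, e⟩)
      have := finrank_span_eq_card hli
      rwa [Matrix.range_cons, Matrix.range_cons, Matrix.range_empty, Set.union_empty,
        Set.singleton_union, Fintype.card_fin] at this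
    · intro a ha b hb
      obtain ⟨x, y, rfl⟩ := Submodule.mem_span_pair.1 ha
      obtain ⟨x', y', rfl⟩ := Submodule.mem_span_pair.1 hb
      simp only [Classical.sympForm_add_left, Classical.sympForm_add_right,
        Classical.sympForm_smul_left, Classical.sympForm_smul_right, Classical.sympForm_self, hw1,
        Classical.sympForm_swap w v]
      ring
  have hfib : ∀ W ∈ T, (P.filter fun w => Submodule.span F {v, w} = W).card = q ^ 2 - q := by
    intro W hW
    obtain ⟨hW1, hW2, hW3⟩ := (mem_filter.1 hW).2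
    have hvW : F ∙ v ≤ W := (Submodule.span_singleton_le_iff_mem _ _).2 hW2
    have e : P.filter (fun w => Submodule.span F {v, w} = W) =
        (univ.filter (· ∈ W)) \ univ.filter (· ∈ F ∙ v) := by
      ext w
      simp only [mem_filter, mem_univ, true_and, mem_sdiff, P]
      constructor
      · rintro ⟨⟨-, h2⟩, h3⟩
        exact ⟨h3 ▸ Submodule.subset_span (by simp), h2⟩
      · rintro ⟨h1, h2⟩
        have hwP : w ∈ P := mem_filter.2 ⟨mem_univ _, by
          rw [LinearMap.mem_ker, Classical.sympB_apply]; exact hW3 v hW2 w h1, h2⟩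
        refine ⟨(mem_filter.1 hwP).2, Submodule.eq_of_le_of_finrank_le (Submodule.span_le.2 ?_) ?_⟩
        · rintro a (rfl | rfl)
          exacts [hW2, h1]
        · rw [hW1, (hspan w hwP).1]
    have hsub : univ.filter (· ∈ F ∙ v) ⊆ univ.filter (· ∈ W) := fun w hw =>
      mem_filter.2 ⟨mem_univ _, hvW (mem_filter.1 hw).2⟩
    rw [e, card_sdiff_of_subset hsub, card_filter_mem, card_filter_mem, hW1,
      finrank_span_singleton hv, pow_one, hF]
  have hmaps : ∀ w ∈ P, Submodule.span F {v, w} ∈ T := fun w hw =>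
    mem_filter.2 ⟨mem_univ _, (hspan w hw).1, Submodule.subset_span (by simp), (hspan w hw).2⟩
  have := card_eq_sum_card_fiberwise hmaps
  rw [sum_const_nat hfib, hP] at this
  exact mul_sub_one_cancel hq this.symm

theorem count_total {q : ℕ} (hF : Fintype.card F = q) :
    Nat.card {W : Submodule F V // finrank F W = 2 ∧
      ∀ u ∈ W, ∀ v ∈ W, Cfsg.sympForm 2 F u v = 0} = (q + 1) * (q ^ 2 + 1) := by
  classical
  haveI : Fintype (Submodule F V) := Fintype.ofFinite _
  rw [Nat.card_eq_fintype_card, Fintype.card_subtype]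
  have hq : 2 ≤ q := hF ▸ Fintype.one_lt_card
  let T := univ.filter fun W : Submodule F V => finrank F W = 2 ∧
      ∀ u ∈ W, ∀ v ∈ W, Cfsg.sympForm 2 F u v = 0
  show T.card = _
  let D := (univ : Finset V).erase 0
  have h := sum_card_bipartiteAbove_eq_sum_card_bipartiteBelow (s := D) (t := T)
    (fun (v : V) (W : Submodule F V) => v ∈ W)
  have hl : ∀ v ∈ D, (T.bipartiteAbove (fun (v : V) (W : Submodule F V) => v ∈ W) v).card = q + 1 := by
    intro v hv
    rw [← count_through hF v (ne_of_mem_erase hv), Nat.card_eq_fintype_card, Fintype.card_subtype]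
    congr 1
    ext W
    simp [T, Finset.mem_bipartiteAbove, and_assoc, and_comm, and_left_comm]
  have hr : ∀ W ∈ T, (D.bipartiteBelow (fun (v : V) (W : Submodule F V) => v ∈ W) W).card =
      q ^ 2 - 1 := by
    intro W hW
    have e : D.bipartiteBelow (fun (v : V) (W : Submodule F V) => v ∈ W) W =
        (univ.filter (· ∈ W)).erase 0 := by
      ext v; simp [D, Finset.mem_bipartiteBelow, and_comm]
    rw [e, card_erase_of_mem (mem_filter.2 ⟨mem_univ _, W.zero_mem⟩), card_filter_mem,
      (mem_filter.1 hW).2.1, hF]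
  rw [sum_const_nat hl, sum_const_nat hr] at h
  have hD : D.card = q ^ 4 - 1 := by
    rw [card_erase_of_mem (mem_univ _), card_univ, Fintype.card_fun, hF]
    simp
  have h1 : 1 ≤ q ^ 2 := Nat.one_le_pow _ _ (by omega)
  have e : q ^ 4 - 1 = (q ^ 2 - 1) * (q ^ 2 + 1) := by
    rw [Nat.sub_mul, one_mul, mul_add, mul_one, ← pow_add]
    norm_num
    omega
  rw [hD, e] at h
  refine Nat.eq_of_mul_eq_mul_right (show 0 < q ^ 2 - 1 by have := Nat.pow_le_pow_left hq 2; omega) ?_
  rw [← h]; ring

end Cfsg.Agent.Fus.QuadrangleCount
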