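import Mathlib
import Cfsg.Prelude.Def_QuasithinSetup
import Cfsg.Agent.Lib.Invol.CharPLocal
import Cfsg.Agent.Lib.Grp.Subnormal
import Cfsg.Agent.Lib.Grp.Cores

/-!
Overgroups of members of `ℒ_f(G, T)` in `ℒ(G, T)`.
-/

set_option autoImplicit false
set_option linter.style.haveILetI false

namespace Cfsg.Agent.Fus.QTLf

open Subgroup
open scoped commutatorElement

variable {G : Type*} [Group G] [Finite G]

/-- A perfect subgroup is generated by its elements of odd order. -/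
theorem oddGenerated_of_perfect {K : Subgroup G} (hK : ⁅K, K⁆ = K) : Cfsg.oddGenerated K = K := by
  obtain ⟨N, hN⟩ : ∃ N : Subgroup ↥K, N = Subgroup.closure {x : ↥K | Odd (orderOf x)} := ⟨_, rfl⟩
  haveI : Fact (Nat.Prime 2) := ⟨Nat.prime_two⟩
  haveI : N.Normal := ⟨fun n hn g => by
    rw [hN] at hn ⊢
    induction hn using Subgroup.closure_induction with
    | mem x hx => exact Subgroup.subset_closure (by
        show Odd (orderOf (g * x * g⁻¹))
        rw [← MulAut.conj_apply, MulEquiv.orderOf_eq]; exact hx)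
    | one => simp
    | mul x y _ _ hx hy =>
      rw [show g * (x * y) * g⁻¹ = (g * x * g⁻¹) * (g * y * g⁻¹) by group]; exact mul_mem hx hy
    | inv x _ hx => rw [show g * x⁻¹ * g⁻¹ = (g * x * g⁻¹)⁻¹ by group]; exact inv_mem hx⟩
  have hq : IsPGroup 2 (↥K ⧸ N) := by
    intro x
    induction x using QuotientGroup.induction_on with
    | H x =>
      obtain ⟨a, m, hm, hxm⟩ := Nat.exists_eq_two_pow_mul_odd (orderOf_pos x).ne'
      refine ⟨a, ?_⟩
      rw [← QuotientGroup.mk_pow, QuotientGroup.eq_one_iff, hN]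
      refine Subgroup.subset_closure ?_
      show Odd (orderOf (x ^ 2 ^ a))
      rw [orderOf_pow' _ (pow_ne_zero _ two_ne_zero), hxm, Nat.gcd_eq_right (dvd_mul_right _ _),
        Nat.mul_div_cancel_left _ (Nat.pow_pos two_pos)]
      exact hm
  have hperf : commutator ↥K = ⊤ :=
    Subgroup.map_injective K.subtype_injective (by
      rw [_root_.commutator_def, Subgroup.map_commutator, ← MonoidHom.range_eq_map, Subgroup.range_subtype, hK])
  have htop : N = ⊤ := by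
    by_contra hne
    haveI : Nontrivial (↥K ⧸ N) := QuotientGroup.nontrivial_iff.mpr hne
    haveI := hq.isNilpotent
    have h2 : commutator (↥K ⧸ N) = ⊤ := by
      rw [_root_.commutator_def, ← Subgroup.map_top_of_surjective _ (QuotientGroup.mk'_surjective N),
        ← Subgroup.map_commutator, ← commutator_def, hperf]
    exact (ne_of_lt (Group.IsSolvable.commutator_lt_top_of_nontrivial (↥K ⧸ N))) h2
  refine le_antisymm ((Subgroup.closure_le _).2 fun x hx => hx.1) fun x hx => ?_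
  have h : (⟨x, hx⟩ : ↥K) ∈ N := htop ▸ Subgroup.mem_top _
  rw [hN] at h
  have h' := Subgroup.mem_map_of_mem K.subtype h
  rw [MonoidHom.map_closure] at h'
  refine Subgroup.closure_mono ?_ h'
  rintro _ ⟨y, hy, rfl⟩
  exact ⟨y.2, by rwa [Subgroup.coe_subtype, Subgroup.orderOf_coe]⟩

/-- Elements of an abelian subgroup normalised by `L`, central in `Q ⊓ C(Z)` terms, are fixed by `L`. -/
theorem perfect_centralizes {L Q Z : Subgroup G} (hL : ⁅L, L⁆ = L) (hQ : Group.IsNilpotent ↥Q)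
    (hZQ : Z ≤ Q) (hQZ : ∀ q ∈ Q, ∀ z ∈ Z, q * z * q⁻¹ ∈ Z) (hLZ : ∀ l ∈ L, ∀ z ∈ Z, l * z * l⁻¹ ∈ Z)
    (hab : ∀ y ∈ Z, ∀ z ∈ Z, y * z = z * y) (hcomm : ∀ q ∈ Q, ∀ l ∈ L, ∀ z ∈ Z, ⁅l⁻¹, q⁆ * z = z * ⁅l⁻¹, q⁆)
    (hfix : ∀ z ∈ Z, (∀ q ∈ Q, q * z = z * q) → ∀ l ∈ L, l * z = z * l) :
    ∀ z ∈ Z, ∀ l ∈ L, l * z = z * l := by
  obtain ⟨n, hn⟩ := hQ.nilpotent'
  suffices ∀ k, ∀ z (hz : z ∈ Z), (⟨z, hZQ hz⟩ : ↥Q) ∈ Subgroup.upperCentralSeries ↥Q k →
      ∀ l ∈ L, l * z = z * l from fun z hz => this n z hz (by rw [hn]; exact Subgroup.mem_top _)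
  intro k
  induction k with
  | zero =>
    intro z hz h l _
    rw [Subgroup.upperCentralSeries_zero, Subgroup.mem_bot] at h
    rw [show z = 1 from congrArg Subtype.val h, mul_one, one_mul]
  | succ k ih =>
    intro z hz h
    rw [Subgroup.mem_upperCentralSeries_succ_iff] at h
    have key : ∀ l ∈ L, ∀ l' ∈ L, l' * (l * z * l⁻¹ * z⁻¹) = (l * z * l⁻¹ * z⁻¹) * l' := by
      intro l hl
      obtain ⟨d, hd⟩ : ∃ d, d = l * z * l⁻¹ * z⁻¹ := ⟨_, rfl⟩
      have hdZ : d ∈ Z := hd ▸ mul_mem (hLZ l hl z hz) (inv_mem hz)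
      rw [← hd]
      refine hfix d hdZ fun q hq => ?_
      obtain ⟨w, hw⟩ : ∃ w, w = q * z * q⁻¹ * z⁻¹ := ⟨_, rfl⟩
      have hwZ : w ∈ Z := hw ▸ mul_mem (hQZ q hq z hz) (inv_mem hz)
      have hwk : (⟨w, hZQ hwZ⟩ : ↥Q) ∈ Subgroup.upperCentralSeries ↥Q k := by
        have h1 := h ⟨q, hq⟩
        have h2 := inv_mem h1
        convert h2 using 1
        apply Subtype.ext
        show w = (⁅(⟨z, hZQ hz⟩ : ↥Q), ⟨q, hq⟩⁆⁻¹ : ↥Q)
        simp [commutatorElement_def, hw, mul_assoc]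
      have hlw : ∀ l' ∈ L, l' * w * l'⁻¹ = w := fun l' hl' => by
        rw [ih w hwZ hwk l' hl', mul_inv_cancel_right]
      obtain ⟨u, hu⟩ : ∃ u, u = ⁅l⁻¹, q⁆ := ⟨_, rfl⟩
      have huz : u * z * u⁻¹ = z := by rw [hu, hcomm q hq l hl z hz, mul_inv_cancel_right]
      have e1 : q * l * q⁻¹ = l * u := by rw [hu, commutatorElement_def]; group
      have e2 : q * z * q⁻¹ = w * z := by rw [hw, inv_mul_cancel_right]
      have e3 : q * (l * z * l⁻¹) * q⁻¹ = w * (l * z * l⁻¹) := by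
        calc q * (l * z * l⁻¹) * q⁻¹ = (q * l * q⁻¹) * (q * z * q⁻¹) * (q * l * q⁻¹)⁻¹ := by group
          _ = (l * u) * (w * z) * (l * u)⁻¹ := by rw [e1, e2]
          _ = l * ((u * w * u⁻¹) * (u * z * u⁻¹)) * l⁻¹ := by group
          _ = l * (w * z) * l⁻¹ := by rw [huz, hu, hcomm q hq l hl w hwZ, mul_inv_cancel_right]
          _ = (l * w * l⁻¹) * (l * z * l⁻¹) := by group
          _ = w * (l * z * l⁻¹) := by rw [hlw l hl]
      have e4 : q * d * q⁻¹ = d := by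
        calc q * d * q⁻¹ = (q * (l * z * l⁻¹) * q⁻¹) * (q * z * q⁻¹)⁻¹ := by rw [hd]; group
          _ = w * (l * z * l⁻¹) * (w * z)⁻¹ := by rw [e3, e2]
          _ = w * d * w⁻¹ := by rw [hd]; group
          _ = d := by rw [hab w hwZ d hdZ, mul_inv_cancel_right]
      exact mul_inv_eq_iff_eq_mul.1 e4
    -- the map `l ↦ [l, z]` is a homomorphism into an abelian group
    let f : ↥L →* ↥Z :=
      { toFun := fun l => ⟨l * z * (l : G)⁻¹ * z⁻¹, mul_mem (hLZ l l.2 z hz) (inv_mem hz)⟩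
        map_one' := by apply Subtype.ext; simp
        map_mul' := fun l m => by
          apply Subtype.ext
          show (l * m : G) * z * (l * m : G)⁻¹ * z⁻¹ =
            ((l : G) * z * (l : G)⁻¹ * z⁻¹) * ((m : G) * z * (m : G)⁻¹ * z⁻¹)
          calc (l * m : G) * z * (l * m : G)⁻¹ * z⁻¹
              = ((l : G) * ((m : G) * z * (m : G)⁻¹ * z⁻¹)) * z * (l : G)⁻¹ * z⁻¹ := by group
            _ = (((m : G) * z * (m : G)⁻¹ * z⁻¹) * l) * z * (l : G)⁻¹ * z⁻¹ := by rw [key m m.2 l l.2]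
            _ = ((m : G) * z * (m : G)⁻¹ * z⁻¹) * ((l : G) * z * (l : G)⁻¹ * z⁻¹) := by group
            _ = _ := hab _ (mul_mem (hLZ m m.2 z hz) (inv_mem hz)) _ (mul_mem (hLZ l l.2 z hz) (inv_mem hz)) }
    intro l hl
    have hker : (⟨l, hl⟩ : ↥L) ∈ f.ker := by
      have hle : commutator ↥L ≤ f.ker := by
        rw [_root_.commutator_def, Subgroup.commutator_le]
        intro a _ b _
        rw [MonoidHom.mem_ker, map_commutatorElement, commutatorElement_eq_one_iff_mul_comm]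
        exact Subtype.ext (hab _ (f a).2 _ (f b).2)
      refine hle ?_
      rw [show commutator ↥L = ⊤ from Subgroup.map_injective L.subtype_injective (by
        rw [_root_.commutator_def, Subgroup.map_commutator, ← MonoidHom.range_eq_map, Subgroup.range_subtype, hL])]
      exact Subgroup.mem_top _
    have h1 : l * z * l⁻¹ * z⁻¹ = 1 := congrArg Subtype.val (MonoidHom.mem_ker.1 hker)
    exact mul_inv_eq_iff_eq_mul.1 (mul_inv_eq_one.1 h1)

/-- The commutator of an abelian normal subgroup with a perfect subnormal subgroup lies in it. -/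
theorem commutator_perfect {H : Type*} [Group H] {K : Subgroup H} (hK : ⁅K, K⁆ = K) (hsn : K.IsSubnormal)
    {Z : Subgroup H} [hZn : Z.Normal] (hab : ∀ y ∈ Z, ∀ z ∈ Z, y * z = z * y) :
    ⁅K, Z⁆ ≤ K ∧ ⁅K, Z⁆ ≤ ⁅K, ⁅K, Z⁆⁆ := by
  obtain ⟨R, hR⟩ : ∃ R : Subgroup H, R = ⁅K, ⁅K, Z⁆⁆ := ⟨_, rfl⟩
  have hAZ : ⁅K, Z⁆ ≤ Z := Subgroup.commutator_le_right K Z
  have h2 : ⁅K, Z⁆ ≤ R := by
    rw [Subgroup.commutator_le]
    intro k hk z hz
    haveI : (R.subgroupOf Z).Normal := ⟨fun n hn g => by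
      rwa [show g * n * g⁻¹ = n from Subtype.ext (by
        show (g : H) * n * (g : H)⁻¹ = n
        rw [hab _ g.2 _ n.2, mul_inv_cancel_right])]⟩
    let f : ↥K →* ↥Z ⧸ R.subgroupOf Z :=
      { toFun := fun k => QuotientGroup.mk ⟨⁅(k : H), z⁆, hAZ (Subgroup.commutator_mem_commutator k.2 hz)⟩
        map_one' := by
          rw [QuotientGroup.eq_one_iff, Subgroup.mem_subgroupOf]
          simp [commutatorElement_def]
        map_mul' := fun a b => by
          rw [← QuotientGroup.mk_mul, QuotientGroup.eq, Subgroup.mem_subgroupOf]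
          obtain ⟨c, hc⟩ : ∃ c, c = ⁅(b : H), z⁆ := ⟨_, rfl⟩
          have hcZ : c ∈ Z := hc ▸ hAZ (Subgroup.commutator_mem_commutator b.2 hz)
          obtain ⟨d, hd⟩ : ∃ d, d = ⁅(a : H), z⁆ := ⟨_, rfl⟩
          have hdZ : d ∈ Z := hd ▸ hAZ (Subgroup.commutator_mem_commutator a.2 hz)
          obtain ⟨r, hr⟩ : ∃ r, r = ⁅(a : H), c⁆ := ⟨_, rfl⟩
          have hrR : r ∈ R := hR ▸ hr ▸ Subgroup.commutator_mem_commutator a.2
            (hc ▸ Subgroup.commutator_mem_commutator b.2 hz)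
          have hrZ : r ∈ Z := by
            rw [hr, commutatorElement_def]; exact mul_mem (hZn.conj_mem c hcZ a) (inv_mem hcZ)
          have e : ⁅((a * b : ↥K) : H), z⁆ = r * c * d := by
            rw [hr, hc, hd, Subgroup.coe_mul]
            simp only [commutatorElement_def]
            group
          show (⁅((a * b : ↥K) : H), z⁆)⁻¹ * (⁅(a : H), z⁆ * ⁅(b : H), z⁆) ∈ R
          rw [e, ← hc, ← hd, hab d hdZ c hcZ,
            show (r * c * d)⁻¹ * (c * d) = (c * d)⁻¹ * (r⁻¹ * (c * d)) by group,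
            hab r⁻¹ (inv_mem hrZ) (c * d) (mul_mem hcZ hdZ), inv_mul_cancel_left]
          exact inv_mem hrR }
    have hle : commutator ↥K ≤ f.ker := by
      rw [_root_.commutator_def, Subgroup.commutator_le]
      intro a _ b _
      rw [MonoidHom.mem_ker, map_commutatorElement, commutatorElement_eq_one_iff_mul_comm]
      induction f a using QuotientGroup.induction_on with
      | H x =>
        induction f b using QuotientGroup.induction_on with
        | H y => rw [← QuotientGroup.mk_mul, ← QuotientGroup.mk_mul,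
            show x * y = y * x from Subtype.ext (hab _ x.2 _ y.2)]
    have hker : (⟨k, hk⟩ : ↥K) ∈ f.ker := hle (by
      rw [show commutator ↥K = ⊤ from Subgroup.map_injective K.subtype_injective (by
        rw [_root_.commutator_def, Subgroup.map_commutator, ← MonoidHom.range_eq_map, Subgroup.range_subtype, hK])]
      exact Subgroup.mem_top _)
    exact (QuotientGroup.eq_one_iff (N := R.subgroupOf Z) _).1 (MonoidHom.mem_ker.1 hker)
  refine ⟨?_, hR ▸ h2⟩
  suffices ∀ X : Subgroup H, X.IsSubnormal → K ≤ X → ⁅K, Z⁆ ≤ X from this K hsn le_rfl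
  intro X hX
  induction hX with
  | top => exact fun _ => le_top
  | step X Y hle _ hn ih =>
    intro hKX
    refine (hR ▸ h2).trans ((Subgroup.commutator_mono hKX (ih (hKX.trans hle))).trans ?_)
    rw [Subgroup.commutator_le]
    intro x hx y hy
    have h1 := hn.conj_mem ⟨x, hle hx⟩ hx ⟨y, hy⟩
    rw [Subgroup.mem_subgroupOf] at h1
    rw [commutatorElement_def, mul_assoc, mul_assoc, ← mul_assoc y]
    refine mul_mem hx ?_
    have h2 := inv_mem h1
    simpa [mul_assoc] using h2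

/-- A normal `p`-subgroup normalises every perfect subnormal subgroup. -/
theorem pNormal_normalizes {p : ℕ} [Fact p.Prime] : ∀ (n : ℕ) {J : Type*} [Group J] [Finite J],
    Nat.card J = n → ∀ (P L : Subgroup J), P.Normal → IsPGroup p P → ⁅L, L⁆ = L → L.IsSubnormal →
      P ≤ Subgroup.normalizer (L : Set J) := by
  intro n
  induction n using Nat.strong_induction_on with
  | _ n ih =>
  intro J _ _ hn P L hPn hPp hLp hLs
  haveI := hPn
  rcases hLs.lt_normal with e | ⟨X, hX, hLX, hlt⟩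
  · subst e; rw [Subgroup.normalizer_eq_top]; exact le_top
  haveI := hX
  have hLp' : ⁅L.subgroupOf X, L.subgroupOf X⁆ = L.subgroupOf X :=
    Subgroup.map_injective X.subtype_injective (by
      rw [Subgroup.map_commutator, Subgroup.subgroupOf_map_subtype, inf_eq_left.2 hLX, hLp])
  have h1 := ih _ (hn ▸ Grp.card_lt_of_ne_top hlt.ne) rfl ((P ⊓ X).subgroupOf X) (L.subgroupOf X)
    (Subgroup.Normal.subgroupOf inferInstance X) ((hPp.to_le inf_le_left).comap_subtype) hLp' hLs.subgroupOf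
  rw [← Subgroup.subgroupOf_normalizer_eq hLX] at h1
  have h2 : P ⊓ X ≤ Subgroup.normalizer (L : Set J) := fun x hx => h1 (show (⟨x, hx.2⟩ : X) ∈ _ from hx)
  obtain ⟨D, hD⟩ : ∃ D : Subgroup J, D = L ⊔ (P ⊓ X) := ⟨_, rfl⟩
  have hDn : D ≤ Subgroup.normalizer (L : Set J) := hD ▸ sup_le Subgroup.le_normalizer h2
  haveI : (L.subgroupOf D).Normal :=
    (Subgroup.normal_subgroupOf_iff_le_normalizer (hD ▸ le_sup_left)).2 hDn
  intro q hq
  have hconj : ∀ g ∈ P, ∀ l ∈ L, g * l * g⁻¹ ∈ L := by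
    intro g hg
    obtain ⟨L', hL'⟩ : ∃ L', L' = L.map (MulAut.conj g).toMonoidHom := ⟨_, rfl⟩
    have hL'D : L' ≤ D := by
      rintro _ hy
      rw [hL'] at hy
      obtain ⟨l, hl, rfl⟩ := hy
      show g * l * g⁻¹ ∈ D
      have hm : g * l * g⁻¹ * l⁻¹ ∈ P ⊓ X := by
        refine ⟨?_, ?_⟩
        · rw [show g * l * g⁻¹ * l⁻¹ = g * (l * g⁻¹ * l⁻¹) by group]
          exact mul_mem hg (hPn.conj_mem _ (inv_mem hg) l)
        · exact mul_mem (hX.conj_mem _ (hLX hl) g) (X.inv_mem (hLX hl))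
      rw [hD, show g * l * g⁻¹ = (g * l * g⁻¹ * l⁻¹) * l by group]
      exact mul_mem (Subgroup.mem_sup_right hm) (Subgroup.mem_sup_left hl)
    let π := QuotientGroup.mk' (L.subgroupOf D)
    have hsurj : ∀ y : ↥D ⧸ L.subgroupOf D, ∃ x ∈ P ⊓ X, ∃ hx : x ∈ D, π ⟨x, hx⟩ = y := by
      intro y
      obtain ⟨⟨d, hd⟩, rfl⟩ := QuotientGroup.mk'_surjective _ y
      obtain ⟨l, hl, x, hx, e⟩ := Subgroup.mem_sup_of_normal_right.1 (hD ▸ hd)
      refine ⟨x, hx, hD ▸ Subgroup.mem_sup_right hx, QuotientGroup.eq.2 ?_⟩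
      rw [Subgroup.mem_subgroupOf]
      show x⁻¹ * d ∈ L
      rw [← e]
      have := (Subgroup.mem_normalizer_iff.1 (h2 hx) (x⁻¹ * l * x))
      exact show x⁻¹ * (l * x) ∈ L by
        rw [← mul_assoc]; exact this.2 (by simpa [mul_assoc] using hl)
    have hq' : IsPGroup p (↥D ⧸ L.subgroupOf D) := by
      intro y
      obtain ⟨x, hx, hxD, rfl⟩ := hsurj y
      obtain ⟨k, hk⟩ := hPp ⟨x, hx.1⟩
      refine ⟨k, ?_⟩
      rw [← map_pow, show (⟨x, hxD⟩ : ↥D) ^ p ^ k = 1 from Subtype.ext (by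
        simpa using congrArg Subtype.val hk), map_one]
    haveI := hq'.isNilpotent
    have hperf' : ⁅L', L'⁆ = L' := by rw [hL', ← Subgroup.map_commutator, hLp]
    have hbot : (L'.subgroupOf D).map π = ⊥ := by
      have hp2 : ⁅(L'.subgroupOf D).map π, (L'.subgroupOf D).map π⁆ = (L'.subgroupOf D).map π := by
        rw [← Subgroup.map_commutator]
        congr 1
        exact Subgroup.map_injective D.subtype_injective (by
          rw [Subgroup.map_commutator, Subgroup.subgroupOf_map_subtype, inf_eq_left.2 hL'D, hperf'])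
      by_contra hne
      haveI : Nontrivial ↥((L'.subgroupOf D).map π) := (Subgroup.nontrivial_iff_ne_bot _).2 hne
      refine (ne_of_lt (Group.IsSolvable.commutator_lt_top_of_nontrivial ↥((L'.subgroupOf D).map π))) ?_
      exact Subgroup.map_injective (Subgroup.subtype_injective _) (by
        rw [_root_.commutator_def, Subgroup.map_commutator, ← MonoidHom.range_eq_map, Subgroup.range_subtype, hp2])
    intro l hl
    have hmem : g * l * g⁻¹ ∈ L' := hL' ▸ ⟨l, hl, rfl⟩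
    have h3 : π ⟨g * l * g⁻¹, hL'D hmem⟩ = 1 := by
      rw [← Subgroup.mem_bot, ← hbot]
      exact ⟨⟨_, hL'D hmem⟩, hmem, rfl⟩
    exact (QuotientGroup.eq_one_iff (N := L.subgroupOf D) _).1 h3
  refine Subgroup.mem_normalizer_iff.2 fun l => ⟨fun hl => hconj q hq l hl, fun hl => ?_⟩
  simpa [mul_assoc] using hconj q⁻¹ (inv_mem hq) _ hl

/-- Overgroups in `ℒ(G, T)` of members of `ℒ_f(G, T)`. -/
theorem mem_calLf (hE : Cfsg.IsOfEvenCharacteristic G) (T : Sylow 2 G) {L K : Subgroup G}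
    (hL : L ∈ Cfsg.calLf (T : Subgroup G)) (hK : K ∈ Cfsg.calL (T : Subgroup G)) (hLK : L ≤ K) :
    K ∈ Cfsg.calLf (T : Subgroup G) := by
  haveI : Fact (Nat.Prime 2) := ⟨Nat.prime_two⟩
  obtain ⟨⟨⟨-, hLp, hLsn, -⟩, -, -⟩, -, hLV⟩ := hL
  have hK0 := hK
  obtain ⟨⟨hKne, hKp, hKsn, -⟩, -, hKcore⟩ := hK
  have hperf : ∀ {X Y : Subgroup G}, X ≤ Y → ⁅X.subgroupOf Y, X.subgroupOf Y⁆ = X.subgroupOf Y → ⁅X, X⁆ = X :=
    fun {X Y} hXY h => by
      have := congrArg (Subgroup.map Y.subtype) h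
      rwa [Subgroup.map_commutator, Subgroup.subgroupOf_map_subtype, inf_eq_left.2 hXY] at this
  have hLperf := hperf le_sup_left hLp
  have hKperf := hperf le_sup_left hKp
  obtain ⟨H, hH⟩ : ∃ H, H = K ⊔ (T : Subgroup G) := ⟨_, rfl⟩
  rw [← hH] at hKsn hKcore hKp hKne
  have hKH : K ≤ H := hH ▸ le_sup_left
  have hTH : (T : Subgroup G) ≤ H := hH ▸ le_sup_right
  obtain ⟨J, hJ⟩ : ∃ J, J = L ⊔ (T : Subgroup G) := ⟨_, rfl⟩
  rw [← hJ] at hLsn
  have hLJ : L ≤ J := hJ ▸ le_sup_left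
  have hTJ : (T : Subgroup G) ≤ J := hJ ▸ le_sup_right
  have hJH : J ≤ H := hJ ▸ sup_le (hLK.trans hKH) hTH
  obtain ⟨U, hU⟩ : ∃ U : Subgroup G, U = (Cfsg.pCore 2 ↥H).map H.subtype := ⟨_, rfl⟩
  have hUp : IsPGroup 2 U := hU ▸ (Grp.pCore_isPGroup).map _
  have hUn : H ≤ Subgroup.normalizer (U : Set G) := by
    haveI : (Cfsg.pCore 2 ↥H).Normal := Invol.pCore_normal 2 ↥H
    have h := Subgroup.le_normalizer_map (H := Cfsg.pCore 2 ↥H) H.subtype
    rw [Subgroup.normalizer_eq_top, ← MonoidHom.range_eq_map, Subgroup.range_subtype, ← hU] at h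
    exact h
  have hUT : U ≤ (T : Subgroup G) := by
    have h1 := T.isPGroup'.to_sup_of_normal_right' hUp (hTH.trans hUn)
    exact le_sup_right.trans_eq (T.is_maximal' h1 le_sup_left)
  have hUne : U ≠ ⊥ := fun e => hKcore ((Subgroup.map_eq_bot_iff_of_injective _ H.subtype_injective).1 (hU ▸ e))
  have hM : Invol.CharP' 2 ↥(Subgroup.normalizer (U : Set G)) :=
    hE _ ⟨U, hUp, hUne, rfl⟩ ⟨T, hTH.trans hUn⟩
  -- `H` has characteristic two
  obtain ⟨W, hW⟩ : ∃ W : Subgroup G, W = (Cfsg.pCore 2 ↥(Subgroup.normalizer (U : Set G))).map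
      (Subgroup.normalizer (U : Set G)).subtype := ⟨_, rfl⟩
  have hHc : Invol.CharP' 2 ↥H := by
    have hWT : W ≤ (T : Subgroup G) := by
      haveI : (Cfsg.pCore 2 ↥(Subgroup.normalizer (U : Set G))).Normal := Invol.pCore_normal 2 _
      have h := Subgroup.le_normalizer_map (H := Cfsg.pCore 2 ↥(Subgroup.normalizer (U : Set G)))
        (Subgroup.normalizer (U : Set G)).subtype
      rw [Subgroup.normalizer_eq_top (H := Cfsg.pCore 2 ↥(Subgroup.normalizer (U : Set G))), ← MonoidHom.range_eq_map, Subgroup.range_subtype, ← hW] at h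
      have h1 := T.isPGroup'.to_sup_of_normal_right' (hW ▸ (Grp.pCore_isPGroup).map _) ((hTH.trans hUn).trans h)
      exact le_sup_right.trans_eq (T.is_maximal' h1 le_sup_left)
    have h2 : Cfsg.pCore 2 ↥(Subgroup.normalizer (U : Set G)) ≤
        Subgroup.normalizer (H.subgroupOf (Subgroup.normalizer (U : Set G)) : Set _) := fun x hx => by
      refine Subgroup.le_normalizer (H := H.subgroupOf _) ?_
      exact hTH (hWT (hW ▸ ⟨x, hx, rfl⟩))
    exact Invol.charP_of_mulEquiv (Subgroup.subgroupOfEquivOfLe hUn)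
      (Invol.charP_of_le_normalizer hM _ h2)
  -- the fixed points of `O_2(H)` in `Z(O_2(L))`
  obtain ⟨Z, hZ⟩ : ∃ Z, Z = Cfsg.omegaOne 2 (Cfsg.pCoreTwoOf L ⊓ Subgroup.centralizer (Cfsg.pCoreTwoOf L : Set G)) :=
    ⟨_, rfl⟩
  obtain ⟨Q, hQ⟩ : ∃ Q : Subgroup G, Q = (Cfsg.pCore 2 ↥J).map J.subtype := ⟨_, rfl⟩
  have hQn : J ≤ Subgroup.normalizer (Q : Set G) := by
    haveI : (Cfsg.pCore 2 ↥J).Normal := Invol.pCore_normal 2 ↥J
    have h := Subgroup.le_normalizer_map (H := Cfsg.pCore 2 ↥J) J.subtype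
    rw [Subgroup.normalizer_eq_top, ← MonoidHom.range_eq_map, Subgroup.range_subtype, ← hQ] at h
    exact h
  have hQJ : Q ≤ J := hQ ▸ Subgroup.map_subtype_le _
  have hQp : IsPGroup 2 Q := hQ ▸ (Grp.pCore_isPGroup).map _
  have hUQ : U ≤ Q := by
    intro u hu
    have hn : (U.subgroupOf J).Normal := (Subgroup.normal_subgroupOf_iff_le_normalizer (hUT.trans hTJ)).2
      (hJH.trans hUn)
    rw [hQ]
    exact ⟨⟨u, hTJ (hUT hu)⟩, Invol.mem_pCore_of_subgroupOf hn hUp hu _, rfl⟩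
  obtain ⟨O, hO⟩ : ∃ O, O = Cfsg.pCoreTwoOf L := ⟨_, rfl⟩
  have hOL : O ≤ L := hO ▸ Subgroup.map_subtype_le _
  have hOn : L ≤ Subgroup.normalizer (O : Set G) := by
    haveI : (Cfsg.pCore 2 ↥L).Normal := Invol.pCore_normal 2 ↥L
    have h := Subgroup.le_normalizer_map (H := Cfsg.pCore 2 ↥L) L.subtype
    rw [Subgroup.normalizer_eq_top, ← MonoidHom.range_eq_map, Subgroup.range_subtype] at h
    exact hO ▸ h
  have hsub : ∀ {A B X : Subgroup G}, A ≤ B → B ≤ X → (B.subgroupOf X).IsSubnormal →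
      B ≤ Subgroup.normalizer (A : Set G) → IsPGroup 2 A → A ≤ (Cfsg.pCore 2 ↥X).map X.subtype := by
    intro A B X hAB hBX hsn hn hAp
    have h1 : ((A.subgroupOf X).subgroupOf (B.subgroupOf X)).Normal := by
      rw [Subgroup.normal_subgroupOf_iff_le_normalizer (Subgroup.subgroupOf_mono X hAB),
        ← Subgroup.subgroupOf_normalizer_eq (hAB.trans hBX)]
      exact Subgroup.subgroupOf_mono X hn
    have h2 := Subgroup.IsSubnormal.trans (Subgroup.subgroupOf_mono X hAB) h1.isSubnormal hsn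
    have h3 := Grp.le_pCore_of_isSubnormal h2 (hAp.comap_subtype)
    intro a ha
    exact ⟨⟨a, hBX (hAB ha)⟩, h3 ha, rfl⟩
  have hOp : IsPGroup 2 O := hO ▸ (Grp.pCore_isPGroup).map _
  have hOQ : O ≤ Q := hQ ▸ hsub hOL hLJ hLsn hOn hOp
  have hQO : ∀ {x}, x ∈ L → x ∈ Q → x ∈ O := by
    intro x hxL hxQ
    have hn : ((L ⊓ Q).subgroupOf L).Normal := (Subgroup.normal_subgroupOf_iff_le_normalizer inf_le_left).2
      (fun l hl => Subgroup.mem_normalizer_iff.2 fun y => by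
        have hlQ := Subgroup.mem_normalizer_iff.1 (hQn (hLJ hl)) y
        exact ⟨fun h => ⟨mul_mem (mul_mem hl h.1) (L.inv_mem hl), hlQ.1 h.2⟩, fun h =>
          ⟨by simpa [mul_assoc] using mul_mem (mul_mem (inv_mem hl) h.1) hl, hlQ.2 h.2⟩⟩)
    rw [hO]
    exact ⟨⟨x, hxL⟩, Invol.mem_pCore_of_subgroupOf hn (hQp.to_le inf_le_right) ⟨hxL, hxQ⟩ _, rfl⟩
  rw [← hO] at hZ
  have hZO : Z ≤ O := hZ ▸ Invol.CpLocal.omegaOne_le.trans inf_le_left
  have hZab : ∀ y ∈ Z, ∀ z ∈ Z, y * z = z * y := fun y hy z hz => by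
    have := (Invol.CpLocal.omegaOne_le (p := 2) (hZ ▸ hy :) : y ∈ O ⊓ Subgroup.centralizer (O : Set G)).2
    exact (Subgroup.mem_centralizer_iff.1 this z (hZO hz)).symm
  have hcl : ∀ (g : G), (∀ x ∈ O, g * x * g⁻¹ ∈ O) → ∀ z ∈ Z, g * z * g⁻¹ ∈ Z := by
    intro g hg z hz
    rw [hZ] at hz ⊢
    refine Subgroup.closure_induction (p := fun z _ => g * z * g⁻¹ ∈ _) (fun x hx => ?_) (by simp)
      (fun x y _ _ hx hy => ?_) (fun x _ hx => ?_) hz
    · refine Subgroup.subset_closure ⟨⟨hg x hx.1.1, Subgroup.mem_centralizer_iff.2 fun o ho => ?_⟩, ?_⟩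
      · have hsur : g⁻¹ * o * g ∈ O := by
          have heq : O.map (MulAut.conj g).toMonoidHom = O :=
            Subgroup.eq_of_le_of_card_ge (fun y ⟨x, hx, e⟩ => e ▸ hg x hx)
              (by rw [Subgroup.card_map_of_injective (MulAut.conj g).injective])
          obtain ⟨x', hx', e⟩ := heq.ge ho
          rw [← e]
          simpa [mul_assoc] using hx'
        have := Subgroup.mem_centralizer_iff.1 hx.1.2 _ hsur
        calc o * (g * x * g⁻¹) = g * (g⁻¹ * o * g * x) * g⁻¹ := by group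
          _ = g * (x * (g⁻¹ * o * g)) * g⁻¹ := by rw [this]
          _ = g * x * g⁻¹ * o := by group
      · rw [← MulAut.conj_apply, ← map_pow, hx.2, map_one]
    · rw [show g * (x * y) * g⁻¹ = (g * x * g⁻¹) * (g * y * g⁻¹) by group]; exact mul_mem hx hy
    · rw [show g * x⁻¹ * g⁻¹ = (g * x * g⁻¹)⁻¹ by group]; exact inv_mem hx
  have hLnorm : ∀ q ∈ Q, ∀ x ∈ L, q * x * q⁻¹ ∈ L := by
    intro q hq x hx
    haveI : (Cfsg.pCore 2 ↥J).Normal := Invol.pCore_normal 2 ↥J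
    have hnq := pNormal_normalizes (p := 2) _ rfl (Cfsg.pCore 2 ↥J) (L.subgroupOf J) inferInstance
      Grp.pCore_isPGroup (hJ ▸ hLp) hLsn
    rw [← Subgroup.subgroupOf_normalizer_eq hLJ] at hnq
    obtain ⟨q', hq', rfl⟩ := (hQ ▸ hq : q ∈ (Cfsg.pCore 2 ↥J).map J.subtype)
    exact (Subgroup.mem_normalizer_iff.1 (hnq hq') x).1 hx
  -- `L` moves a fixed point of `Q`
  obtain ⟨v, hvZ, hvQ, l, hl, hvl⟩ : ∃ v ∈ Z, (∀ q ∈ Q, q * v = v * q) ∧ ∃ l ∈ L, l * v ≠ v * l := by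
    by_contra hcon
    push Not at hcon
    refine hLV ?_
    rw [Cfsg.moduleV, ← hO, ← hZ, Subgroup.commutator_eq_bot_iff_le_centralizer]
    have hLO : ∀ {x}, x ∈ L → ∀ y ∈ O, x * y * x⁻¹ ∈ O := fun hx y hy =>
      (Subgroup.mem_normalizer_iff.1 (hOn hx) y).1 hy
    have hQO' : ∀ q ∈ Q, ∀ y ∈ O, q * y * q⁻¹ ∈ O := fun q hq y hy => hQO (hLnorm q hq y (hOL hy))
      (mul_mem (mul_mem hq (hOQ hy)) (inv_mem hq))
    have h := perfect_centralizes hLperf hQp.isNilpotent (hZO.trans hOQ)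
      (fun q hq => hcl q (hQO' q hq)) (fun x hx => hcl x (hLO hx)) hZab
      (fun q hq x hx z hz => ?_) hcon
    · exact fun z hz => Subgroup.mem_centralizer_iff.2 fun x hx => h z hz x hx
    · have hu : ⁅x⁻¹, q⁆ ∈ O := by
        refine hQO ?_ ?_
        · rw [commutatorElement_def, show x⁻¹ * q * x⁻¹⁻¹ * q⁻¹ = x⁻¹ * (q * x * q⁻¹) by group]
          exact mul_mem (inv_mem hx) (hLnorm q hq x hx)
        · rw [commutatorElement_def, show x⁻¹ * q * x⁻¹⁻¹ * q⁻¹ = (x⁻¹ * q * x) * q⁻¹ by group]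
          refine mul_mem ?_ (inv_mem hq)
          simpa using (Subgroup.mem_normalizer_iff.1 (hQn (hLJ (inv_mem hx))) q).1 hq
      exact Subgroup.mem_centralizer_iff.1 (Invol.CpLocal.omegaOne_le (p := 2) (hZ ▸ hz :)).2 _ hu
  -- that point lies in `O_2(H)`
  have hvH : v ∈ H := hJH (hLJ (hOL (hZO hvZ)))
  have hv2 : v ^ 2 = 1 := by
    rcases eq_or_ne v 1 with rfl | hv1
    · exact one_pow 2
    · rw [← Invol.CpLocal.orderOf_of_mem_omegaOne_center (p := 2) (hZ ▸ hvZ :) hv1, pow_orderOf_eq_one]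
  have hvU : (⟨v, hvH⟩ : ↥H) ∈ Cfsg.pCore 2 ↥H := by
    refine hHc (Subgroup.mem_centralizer_iff.2 fun u hu => Subtype.ext ?_)
    exact hvQ u (hUQ (hU ▸ ⟨u, hu, rfl⟩))
  obtain ⟨V, hV⟩ : ∃ V : Subgroup ↥H,
      V = Cfsg.omegaOne 2 (Cfsg.pCore 2 ↥H ⊓ Subgroup.centralizer (Cfsg.pCore 2 ↥H : Set ↥H)) := ⟨_, rfl⟩
  haveI hPn : (Cfsg.pCore 2 ↥H).Normal := Invol.pCore_normal 2 ↥H
  have hVin : ∀ x ∈ V, x ∈ Cfsg.pCore 2 ↥H ⊓ Subgroup.centralizer (Cfsg.pCore 2 ↥H : Set ↥H) ∧ x ^ 2 = 1 := by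
    intro x hx
    rw [hV] at hx
    refine ⟨Invol.CpLocal.omegaOne_le hx, ?_⟩
    rcases eq_or_ne x 1 with rfl | hx1
    · exact one_pow 2
    · rw [← Invol.CpLocal.orderOf_of_mem_omegaOne_center (p := 2) hx hx1, pow_orderOf_eq_one]
  have hVab : ∀ y ∈ V, ∀ z ∈ V, y * z = z * y := fun y hy z hz =>
    Subgroup.mem_centralizer_iff.1 (hVin z hz).1.2 y (hVin y hy).1.1
  haveI : V.Normal := by
    rw [hV]
    refine ⟨fun x hx g => ?_⟩
    refine Subgroup.closure_induction (p := fun z _ => g * z * g⁻¹ ∈ _) (fun x hx => ?_) (by simp)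
      (fun x y _ _ hx hy => ?_) (fun x _ hx => ?_) hx
    · refine Subgroup.subset_closure ⟨⟨hPn.conj_mem _ hx.1.1 g,
        (inferInstance : (Subgroup.centralizer (Cfsg.pCore 2 ↥H : Set ↥H)).Normal).conj_mem _ hx.1.2 g⟩, ?_⟩
      rw [← MulAut.conj_apply, ← map_pow, hx.2, map_one]
    · rw [show g * (x * y) * g⁻¹ = (g * x * g⁻¹) * (g * y * g⁻¹) by group]; exact mul_mem hx hy
    · rw [show g * x⁻¹ * g⁻¹ = (g * x * g⁻¹)⁻¹ by group]; exact inv_mem hx
  have hvV : (⟨v, hvH⟩ : ↥H) ∈ V := by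
    rw [hV]
    refine Subgroup.subset_closure ⟨⟨hvU, Subgroup.mem_centralizer_iff.2 fun u hu => Subtype.ext ?_⟩,
      Subtype.ext hv2⟩
    exact hvQ u (hUQ (hU ▸ ⟨u, hu, rfl⟩))
  obtain ⟨hAK, hAA⟩ := commutator_perfect hKp hKsn (Z := V) hVab
  refine ⟨⟨⟨hH ▸ hKne, hH ▸ hKp, ?_, ?_⟩, ?_, ?_⟩, ⟨?_, oddGenerated_of_perfect hKperf, ?_⟩, ?_⟩
  · exact hH ▸ hKsn
  · exact hH ▸ (show K ∈ Cfsg.calL (T : Subgroup G) from hK0).1.2.2.2
  · exact hK0.2.1
  · exact hK0.2.2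
  · intro e
    exact hKne (by rw [e, Subgroup.bot_subgroupOf])
  · exact Invol.CpLocal.gfit_of_charP (Invol.CpLocal.charP_sub hHc hKH hKsn)
  · intro hVK
    -- `[V, K]` lies in `Ω₁(Z(O₂(K)))` and is centralised by `K`
    obtain ⟨A, hA⟩ : ∃ A : Subgroup ↥H, A = ⁅K.subgroupOf H, V⁆ := ⟨_, rfl⟩
    rw [← hA] at hAK hAA
    have hAV : A ≤ V := hA ▸ Subgroup.commutator_le_right _ V
    rw [Cfsg.moduleV, Subgroup.commutator_eq_bot_iff_le_centralizer] at hVK
    obtain ⟨O', hO'⟩ : ∃ O', O' = Cfsg.pCoreTwoOf K := ⟨_, rfl⟩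
    have hO'K : O' ≤ K := hO' ▸ Subgroup.map_subtype_le _
    have hO'p : IsPGroup 2 O' := hO' ▸ (Grp.pCore_isPGroup).map _
    have hO'n : K ≤ Subgroup.normalizer (O' : Set G) := by
      haveI : (Cfsg.pCore 2 ↥K).Normal := Invol.pCore_normal 2 ↥K
      have h := Subgroup.le_normalizer_map (H := Cfsg.pCore 2 ↥K) K.subtype
      rw [Subgroup.normalizer_eq_top, ← MonoidHom.range_eq_map, Subgroup.range_subtype] at h
      exact hO' ▸ h
    have hO'U : O' ≤ (Cfsg.pCore 2 ↥H).map H.subtype := hsub hO'K hKH hKsn hO'n hO'p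
    have hAcen : ∀ a ∈ A, ∀ k ∈ K.subgroupOf H, k * a = a * k := by
      intro a ha k hk
      apply Subtype.ext
      have haK : (a : G) ∈ K := hAK ha
      have hn : ((A.map H.subtype).subgroupOf K).Normal := by
        refine (Subgroup.normal_subgroupOf_iff_le_normalizer ?_).2 ?_
        · rintro _ ⟨x, hx, rfl⟩; exact hAK hx
        · have hAKn : ∀ k ∈ K.subgroupOf H, ∀ x ∈ A, k * x * k⁻¹ ∈ A := by
            intro k hk x hx
            rw [show k * x * k⁻¹ = ⁅k, x⁆ * x by simp [commutatorElement_def]]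
            exact mul_mem (hA ▸ Subgroup.commutator_mem_commutator hk (hAV hx)) hx
          intro g hg
          refine Subgroup.mem_normalizer_iff.2 fun y => ⟨?_, ?_⟩
          · rintro ⟨x, hx, rfl⟩
            exact ⟨⟨g, hKH hg⟩ * x * (⟨g, hKH hg⟩ : ↥H)⁻¹, hAKn _ hg x hx, rfl⟩
          · rintro ⟨x, hx, e⟩
            refine ⟨(⟨g, hKH hg⟩ : ↥H)⁻¹ * x * ⟨g, hKH hg⟩, by
              simpa using hAKn _ (inv_mem (show (⟨g, hKH hg⟩ : ↥H) ∈ K.subgroupOf H from hg)) x hx, ?_⟩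
            show g⁻¹ * (x : G) * g = y
            rw [show (x : G) = g * y * g⁻¹ from e]
            group
      have haO : (a : G) ∈ O' := by
        rw [hO']
        exact ⟨⟨a, haK⟩, Invol.mem_pCore_of_subgroupOf hn
          (((Grp.pCore_isPGroup).to_le fun x hx => (hVin x (hAV hx)).1.1).map _) ⟨a, ha, rfl⟩ haK, rfl⟩
      have hmem : (a : G) ∈ Cfsg.omegaOne 2 (O' ⊓ Subgroup.centralizer (O' : Set G)) := by
        refine Subgroup.subset_closure ⟨⟨haO, Subgroup.mem_centralizer_iff.2 fun o ho => ?_⟩, ?_⟩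
        · obtain ⟨o', ho', e⟩ := hO'U ho
          rw [← e]
          exact congrArg Subtype.val (Subgroup.mem_centralizer_iff.1 (hVin a (hAV ha)).1.2 o' ho')
        · exact congrArg Subtype.val (hVin a (hAV ha)).2
      exact (Subgroup.mem_centralizer_iff.1 (hVK (hO' ▸ hmem)) (k : G) hk)
    have hAbot : A = ⊥ := by
      refine le_bot_iff.1 (hAA.trans ?_)
      rw [Subgroup.commutator_le]
      intro k hk a ha
      rw [Subgroup.mem_bot, commutatorElement_eq_one_iff_mul_comm]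
      exact hAcen a ha k hk
    refine hvl ?_
    have h := Subgroup.commutator_mem_commutator (show (⟨l, hJH (hLJ hl)⟩ : ↥H) ∈ K.subgroupOf H from hLK hl) hvV
    rw [← hA, hAbot, Subgroup.mem_bot, commutatorElement_eq_one_iff_mul_comm] at h
    exact congrArg Subtype.val h

end Cfsg.Agent.Fus.QTLf
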