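import Mathlib
import Cfsg.Agent.Lib.Fus.RankOneAbelian

/-!
Special rank one groups with abelian unipotent subgroups: the exchanges of `A` and `B` are
anti-linear for multiples, so `A` is elementary abelian or torsion-free and divisible.
-/

set_option autoImplicit false
set_option linter.style.haveILetI false

namespace Cfsg.Agent.Fus.RankOne

open Subgroup

variable {X : Type*} [Group X] {A B : Subgroup X}

/-- `w` exchanges `A` and `B`. -/
def Swaps (A B : Subgroup X) (w : X) : Prop := conjBy A w = B ∧ conjBy B w = A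

theorem Swaps.inv {w : X} (hw : Swaps A B w) : Swaps A B w⁻¹ :=
  ⟨by rw [conjBy_eq_iff, inv_inv, hw.2], by rw [conjBy_eq_iff, inv_inv, hw.1]⟩

theorem Swaps.exists_image (h : IsRankOnePair A B) {w : X} (hwm : w ∈ A ⊔ B) (hw : Swaps A B w)
    {u : X} (hu : u ∈ A) (hu1 : u ≠ 1) :
    ∃ p ∈ A, p ≠ 1 ∧ conjBy (conjBy B u) w = conjBy B p := by
  have hne : conjBy (conjBy B u) w ≠ A := fun e => by
    refine hu1 (eq_one_of_conjBy_eq h hu (conjBy_injective w ?_))
    show conjBy (conjBy B u) w = conjBy B w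
    rw [e, hw.2]
  obtain ⟨p, hp, e⟩ := exists_of_ne h
    (RankOne.conj_mem (RankOne.conj_mem (right_mem h) (Subgroup.mem_sup_left hu)) hwm) hne
  refine ⟨p, hp, fun hp1 => conj_ne h hu ?_, e⟩
  rw [hp1, conjBy_one] at e
  refine conjBy_injective w ?_
  show conjBy (conjBy B u) w = conjBy A w
  rw [e, hw.1]

/-- The exchange attached to `x`. -/
theorem exists_own (h : AbelianSpecial A B) {x : X} (hx : x ∈ A) (hx1 : x ≠ 1) :
    ∃ w : X, Swaps A B w ∧ w * x * w⁻¹ = x⁻¹ * w * x⁻¹ ∧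
      conjBy (conjBy B x⁻¹) w = conjBy B x ∧ conjBy (conjBy B x) w = conjBy B x⁻¹ := by
  obtain ⟨b, hb, hb1, -, hwA, hwB⟩ := exists_swap h.group.2 h.special hx hx1
  have e : conjBy A b⁻¹ = conjBy B x⁻¹ := by
    refine conjBy_injective x ?_
    show conjBy (conjBy A b⁻¹) x = conjBy (conjBy B x⁻¹) x
    rw [conjBy_conjBy B, mul_inv_cancel, conjBy_one, conjBy_conjBy]
    conv_rhs => rw [← hwA, ← conjBy_conjBy, conjBy_eq_self_of_mem hx]
  have es := h.special.2 x hx hx1 b hb hb1 e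
  set w := x * b⁻¹ * x with hw
  have hbraid : w = b⁻¹ * x * b⁻¹ := by
    calc w = x * (x⁻¹ * b⁻¹ * x) * b⁻¹ := by rw [hw, ← es]; group
      _ = b⁻¹ * x * b⁻¹ := by group
  have hwx : w * x = b⁻¹ * w := by
    nth_rewrite 1 [hbraid]
    rw [hw]; group
  refine ⟨w, ⟨hwA, hwB⟩, ?_, ?_, ?_⟩
  · rw [hwx, hw]; group
  · rw [conjBy_conjBy, hw, mul_inv_cancel_right, ← conjBy_conjBy,
      conjBy_eq_self_of_mem (B.inv_mem hb)]
  · rw [conjBy_conjBy, hwx, ← conjBy_conjBy, hwB, e]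

/-- Two exchanges differ by an element fixing `A` and `B`. -/
theorem image_transfer {v w : X} (hv : Swaps A B v) (hw : Swaps A B w) {u p : X}
    (hu : conjBy (conjBy B u) v = conjBy B p) :
    conjBy (conjBy B u) w = conjBy B (w * v⁻¹ * p * (w * v⁻¹)⁻¹) := by
  have hg : conjBy B (w * v⁻¹) = B := by
    rw [← conjBy_conjBy, (hv.inv).2, hw.1]
  conv_rhs => rw [← conjBy_conjBy, show conjBy B (w * v⁻¹)⁻¹ = B by
    rw [conjBy_eq_iff, inv_inv, hg], ← conjBy_conjBy, ← hu, conjBy_conjBy _ v,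
    inv_mul_cancel_right]

theorem transfer_mem {v w : X} (hv : Swaps A B v) (hw : Swaps A B w) {p : X} (hp : p ∈ A) :
    w * v⁻¹ * p * (w * v⁻¹)⁻¹ ∈ A := by
  have hg : conjBy A (w * v⁻¹) = A := by
    rw [← conjBy_conjBy, (hv.inv).1, hw.2]
  exact hg.le (conj_mem_conjBy _ hp)

theorem image_unique (h : IsRankOnePair A B) {w : X} {u p p' : X} (hp : p ∈ A) (hp' : p' ∈ A)
    (e : conjBy (conjBy B u) w = conjBy B p) (e' : conjBy (conjBy B u) w = conjBy B p') :
    p = p' := inj_conj h hp hp' (e.symm.trans e')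

/-- An exchange sends inverse parameters to inverse parameters. -/
theorem image_inv (h : AbelianSpecial A B) {w : X} (hw : Swaps A B w) {u p : X} (hu : u ∈ A)
    (hu1 : u ≠ 1) (hp : p ∈ A) (e : conjBy (conjBy B u) w = conjBy B p) :
    conjBy (conjBy B u⁻¹) w = conjBy B p⁻¹ := by
  obtain ⟨v, hv, -, v1, v2⟩ := exists_own h hu hu1
  have h1 := image_transfer hv hw v1
  have h2 := image_transfer hv hw v2
  have hp' := image_unique h.group.2 hp (transfer_mem hv hw (A.inv_mem hu)) e h2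
  rw [h1, hp', ← conj_inv, inv_inv]

/-- An exchange turns `k`-th powers into `k`-th roots. -/
theorem image_pow (h : AbelianSpecial A B) : ∀ (k : ℕ) {w : X}, Swaps A B w →
    ∀ {u p q : X}, u ∈ A → p ∈ A → q ∈ A → u ^ k ≠ 1 →
      conjBy (conjBy B u) w = conjBy B p → conjBy (conjBy B (u ^ k)) w = conjBy B q →
        q ^ k = p := by
  intro k
  induction k with
  | zero => intro w _ u p q _ _ _ hk; exact absurd (pow_zero u) hk
  | succ k ih =>
    intro w hw u p q hu hp hq hk hup huq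
    have hX := h.group
    have hpair := hX.2
    have hm : ∀ y : X, y ∈ A ⊔ B := fun y => hX.1 ▸ Subgroup.mem_top y
    have hu1 : u ≠ 1 := fun e => hk (by rw [e, one_pow])
    obtain ⟨v, hv, hrel, v1, v2⟩ := exists_own h hu hu1
    -- the claim for the exchange attached to `u`
    obtain ⟨T, hT, hT1, eT⟩ := Swaps.exists_image hpair (hm v) hv (A.pow_mem hu (k + 1)) hk
    have main : T ^ (k + 1) = u⁻¹ := by
      by_cases hk0 : u ^ k = 1
      · have e1 : u ^ (k + 1) = u := by rw [pow_succ, hk0, one_mul]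
        rw [e1] at eT
        rw [image_unique hpair hT (A.inv_mem hu) eT v2, inv_pow, e1]
      obtain ⟨r, hr, -, er⟩ := Swaps.exists_image hpair (hm v) hv (A.pow_mem hu k) hk0
      have hr' : r ^ k = u⁻¹ := ih hv hu (A.inv_mem hu) hr hk0 v2 er
      have hsA : r ^ (k + 1) ∈ A := A.pow_mem hr _
      have hrs : r * u⁻¹ = r ^ (k + 1) := by rw [← hr', ← pow_succ']
      -- the relation `v u v⁻¹ = u⁻¹ v u⁻¹` at the image of `u ^ k`
      have eS : conjBy (conjBy B (r ^ (k + 1))) v = conjBy B (u * T) := by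
        have h1 : conjBy (conjBy B r) (v * u * v⁻¹) = conjBy B T := by
          rw [← eT, pow_succ', ← conjBy_conjBy B (u ^ k) u, conjBy_conjBy _ u v, ← er]
          simp only [conjBy_conjBy]
          congr 1
          group
        rw [hrel] at h1
        rw [← hrs]
        refine conjBy_injective u⁻¹ ?_
        show conjBy (conjBy (conjBy B (r * u⁻¹)) v) u⁻¹ = conjBy (conjBy B (u * T)) u⁻¹
        rw [conjBy_conjBy B (u * T), inv_mul_cancel_left, ← h1, conjBy_conjBy, conjBy_conjBy,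
          conjBy_conjBy, h.comm hr (A.inv_mem hu)]
        congr 1
        group
      have hsk : (r ^ (k + 1)) ^ k = (u ^ (k + 1))⁻¹ := by
        rw [← pow_mul, mul_comm, pow_mul, hr', inv_pow]
      have hsk1 : (r ^ (k + 1)) ^ k ≠ 1 := by rwa [hsk, inv_ne_one]
      have hS := ih hv hsA (A.mul_mem hu hT) (A.inv_mem hT) hsk1 eS (by
        rw [hsk]; exact image_inv h hv (A.pow_mem hu _) hk hT eT)
      rw [inv_pow] at hS
      rw [eq_inv_iff_mul_eq_one, pow_succ, mul_assoc, ← h.comm hu hT, ← hS, mul_inv_cancel]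
    -- transfer to `w`
    have e1 := image_unique hpair hp (transfer_mem hv hw (A.inv_mem hu)) hup
      (image_transfer hv hw v2)
    have e2 := image_unique hpair hq (transfer_mem hv hw hT) huq (image_transfer hv hw eT)
    rw [e1, e2, conj_pow, main]

/-- Every element of `A` other than `1` has prime order, the same for all, or none has finite
order and all have roots. -/
theorem elementary_or_divisible (h : AbelianSpecial A B) :
    (∃ p : ℕ, p.Prime ∧ ∀ a ∈ A, a ^ p = 1) ∨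
      ((∀ a ∈ A, a ≠ 1 → ¬ IsOfFinOrder a) ∧
        ∀ a ∈ A, ∀ n : ℕ, 0 < n → ∃ c ∈ A, c ^ n = a) := by
  have hX := h.group
  have hm : ∀ y : X, y ∈ A ⊔ B := fun y => hX.1 ▸ Subgroup.mem_top y
  by_cases htor : ∀ a ∈ A, a ≠ 1 → ¬ IsOfFinOrder a
  · refine Or.inr ⟨htor, fun a ha n hn => ?_⟩
    by_cases ha1 : a = 1
    · exact ⟨1, A.one_mem, by rw [one_pow, ha1]⟩
    obtain ⟨v, hv, -, v1, -⟩ := exists_own h ha ha1
    have hne : (a⁻¹) ^ n ≠ 1 := fun e => htor a⁻¹ (A.inv_mem ha) (inv_ne_one.2 ha1)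
      (isOfFinOrder_iff_pow_eq_one.2 ⟨n, hn, e⟩)
    obtain ⟨q, hq, -, eq⟩ := Swaps.exists_image hX.2 (hm v) hv (A.pow_mem (A.inv_mem ha) n) hne
    exact ⟨q, hq, image_pow h n hv (A.inv_mem ha) ha hq hne v1 eq⟩
  push Not at htor
  obtain ⟨a₀, ha₀, ha₀1, hfin⟩ := htor
  obtain ⟨ℓ, hℓ, hdvd⟩ := Nat.exists_prime_and_dvd (mt orderOf_eq_one_iff.1 ha₀1)
  set z := a₀ ^ (orderOf a₀ / ℓ) with hz
  have hzℓ : z ^ ℓ = 1 := by
    rw [hz, ← pow_mul, Nat.div_mul_cancel hdvd, pow_orderOf_eq_one]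
  have hz1 : z ≠ 1 := fun e => by
    have h1 := orderOf_le_of_pow_eq_one (Nat.div_pos (Nat.le_of_dvd hfin.orderOf_pos hdvd)
      hℓ.pos) e
    exact absurd (Nat.div_lt_self hfin.orderOf_pos hℓ.one_lt) (not_lt.2 h1)
  have hzA : z ∈ A := A.pow_mem ha₀ _
  refine Or.inl ⟨ℓ, hℓ, fun a ha => ?_⟩
  by_contra hne
  have ha1 : a ≠ 1 := fun e => hne (by rw [e, one_pow])
  obtain ⟨v, hv, -, v1, v2⟩ := exists_own h ha ha1
  obtain ⟨q, hq, -, eq⟩ := Swaps.exists_image hX.2 (hm v) hv (A.pow_mem ha ℓ) hne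
  have hpow : (z * a) ^ ℓ = a ^ ℓ := by
    rw [Commute.mul_pow (h.comm hzA ha), hzℓ, one_mul]
  have hza1 : z * a ≠ 1 := fun e => hne (by rw [← hpow, e, one_pow])
  obtain ⟨p, hp, -, ep⟩ := Swaps.exists_image hX.2 (hm v) hv (A.mul_mem hzA ha) hza1
  have e1 := image_pow h ℓ hv ha (A.inv_mem ha) hq hne v2 eq
  have e2 := image_pow h ℓ hv (A.mul_mem hzA ha) hp hq (hpow.symm ▸ hne) ep (hpow.symm ▸ eq)
  rw [← e2, e1] at ep
  have h3 : conjBy B (z * a) = conjBy B a := conjBy_injective v (ep.trans v2.symm)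
  exact hz1 (mul_eq_right.1 (inj_conj hX.2 (A.mul_mem hzA ha) ha h3))

end Cfsg.Agent.Fus.RankOne
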