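import Mathlib
import Cfsg.Prelude.Def_Transfer
import Cfsg.Agent.Lib.Fus.RankOneScalar
import Cfsg.Agent.Lib.Fus.BraidSLTwo
import Cfsg.Agent.Lib.Lie.Sl2Pres

/-!
Special rank one groups with abelian unipotent subgroups: a non-identity element of exponent `p`
and its partner generate an image of `SL₂(p)` with central kernel.
-/

set_option autoImplicit false
set_option linter.style.haveILetI false

namespace Cfsg.Agent.Fus.RankOne

open Subgroup BraidSLTwo Lie.Sl2Pres

theorem neg_one_SL_two : (-1 : Matrix.SpecialLinearGroup (Fin 2) (ZMod 2)) = 1 := by decide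

variable {X : Type*} [Group X] {A B : Subgroup X} {p : ℕ} [Fact p.Prime]

/-- A partner of `x` satisfies the braid relation with it. -/
theorem partner_braid (h : AbelianSpecial A B) {x c : X} (hx : x ∈ A) (hx1 : x ≠ 1) (hc : c ∈ B)
    (he : conjBy A c = conjBy B x⁻¹) : x * c * x = c * x * c := by
  have hc1 : c ≠ 1 := fun e => conj_ne h.group.2 (A.inv_mem hx) (by rw [← he, e, conjBy_one])
  have hs := h.special.2 x hx hx1 c⁻¹ (B.inv_mem hc) (inv_ne_one.2 hc1) (by rwa [inv_inv])
  rw [inv_inv] at hs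
  calc x * c * x = x * (x⁻¹ * c * x) * c := by rw [← hs]; group
    _ = c * x * c := by group

/-- The exchange `a c a` of a partner. -/
theorem partner_swaps (h : AbelianSpecial A B) {a c : X} (ha : a ∈ A) (ha1 : a ≠ 1) (hc : c ∈ B)
    (he : conjBy A c = conjBy B a⁻¹) :
    Swaps A B (a * c * a) ∧ (a * c * a) * a = c * (a * c * a) ∧
      (a * c * a) * c = a * (a * c * a) ∧
      conjBy (conjBy B a) (a * c * a) = conjBy B a⁻¹ := by
  have hbr := partner_braid h ha ha1 hc he
  set w := a * c * a with hw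
  have hwc : w * c = a * w := by
    calc w * c = a * (c * a * c) := by rw [hw]; group
      _ = a * w := by rw [← hbr]
  have hwa : w * a = c * w := by
    calc w * a = c * a * c * a := by rw [hbr]
      _ = c * w := by rw [hw]; group
  have hc1 : c ≠ 1 := fun e => conj_ne h.group.2 (A.inv_mem ha) (by rw [← he, e, conjBy_one])
  have hA : conjBy A w = B := by
    rw [hw, ← conjBy_conjBy, conjBy_eq_self_of_mem ha, ← conjBy_conjBy, he, conjBy_conjBy,
      mul_inv_cancel, conjBy_one]
  have hB : conjBy B w = A := by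
    refine eq_of_common h.group.2 (point_conj h.group w) (self_mem A B) ?_ ha ha1
    exact mem_conjBy.2 (by
      rw [mul_assoc, ← hwc, inv_mul_cancel_left]; exact hc)
  refine ⟨⟨hA, hB⟩, hwa, hwc, ?_⟩
  rw [conjBy_conjBy, hwa, ← conjBy_conjBy, hB, he]

theorem orderOf_of_pow {a : X} (ha1 : a ≠ 1) (hap : a ^ p = 1) : orderOf a = p :=
  orderOf_eq_prime hap ha1

theorem zp_ne_one {a : X} (ha1 : a ≠ 1) (hap : a ^ p = 1) {t : ZMod p} (ht : t ≠ 0) :
    zp a t ≠ 1 := fun e => by
  have h1 := orderOf_dvd_of_pow_eq_one e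
  rw [orderOf_of_pow ha1 hap] at h1
  exact ht (by rw [← ZMod.natCast_zmod_val t, (ZMod.natCast_eq_zero_iff _ _).2 h1])

/-- The powers of an element of exponent `p` and of its partner satisfy the braid relations. -/
theorem braided (h : AbelianSpecial A B) (hA : ∀ x ∈ A, x ^ p = 1) {a c : X} (ha : a ∈ A)
    (ha1 : a ≠ 1) (hc : c ∈ B) (he : conjBy A c = conjBy B a⁻¹) : Braided p a c := by
  obtain ⟨hsw, hwa, -, hwB⟩ := partner_swaps h ha ha1 hc he
  set w := a * c * a
  have hcw : c = w * a * w⁻¹ := eq_mul_inv_of_mul_eq hwa.symm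
  refine ⟨hA a ha, by rw [hcw, conj_pow, hA a ha, mul_one, mul_inv_cancel], fun s hs => ?_⟩
  have ht : s⁻¹ ≠ 0 := inv_ne_zero hs
  refine partner_braid h (A.pow_mem ha _) (zp_ne_one ha1 (hA a ha) hs) (B.pow_mem hc _) ?_
  have hct : zp c s⁻¹ = w * zp a s⁻¹ * w⁻¹ := by
    rw [zp, zp, hcw, conj_pow]
  have hne := zp_ne_one ha1 (hA a ha) ht
  obtain ⟨q, hq, -, eq⟩ := Swaps.exists_image h.group.2 (h.group.1 ▸ Subgroup.mem_top w) hsw
    (A.pow_mem ha _) hne
  have hqk := image_pow h _ hsw ha (A.inv_mem ha) hq hne hwB eq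
  have hqs : q = (zp a s)⁻¹ := by
    have e1 : zp q (((s⁻¹).val : ZMod p) * s) = zp q s ^ (s⁻¹).val := zp_nat_mul (hA q hq) _ _
    rw [ZMod.natCast_zmod_val, inv_mul_cancel₀ hs, zp_one, zp, ← pow_mul, mul_comm, pow_mul,
      hqk] at e1
    rw [e1, inv_pow, zp]
  rw [hct, mul_assoc, ← conjBy_conjBy A _ w, ← conjBy_conjBy A _ (zp a s⁻¹), (hsw.inv).1,
    show conjBy (conjBy B (zp a s⁻¹)) w = conjBy B q from eq, hqs]

/-- A non-identity element of exponent `p` and its partner generate `SL₂(p)` or `PSL₂(p)`. -/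
theorem line_iso (h : AbelianSpecial A B) (hA : ∀ x ∈ A, x ^ p = 1) {a b : X} (ha : a ∈ A)
    (ha1 : a ≠ 1) (hb : b ∈ B) (he : conjBy A b⁻¹ = conjBy B a⁻¹) :
    Nonempty (↥(Subgroup.closure ({a, b} : Set X)) ≃*
        Matrix.SpecialLinearGroup (Fin 2) (ZMod p)) ∨
      Nonempty (↥(Subgroup.closure ({a, b} : Set X)) ≃*
        Matrix.ProjectiveSpecialLinearGroup (Fin 2) (ZMod p)) := by
  have hc : b⁻¹ ∈ B := B.inv_mem hb
  obtain ⟨hsw, -, -, -⟩ := partner_swaps h ha ha1 hc he
  have hbr := braided h hA ha ha1 hc he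
  obtain ⟨φ, hφa, hφc, hφr⟩ := exists_hom hbr
  have hap := hA a ha
  have hc1 : b⁻¹ ≠ 1 := fun e => conj_ne h.group.2 (A.inv_mem ha) (by rw [← he, e, conjBy_one])
  have hφU : ∀ t : ZMod p, φ (slU t) = zp a t := fun t => by rw [← slU_zp, zp_map, hφa]
  have hφW : φ slW = a * b⁻¹ * a := by
    rw [← W_SL_one, W, map_mul, map_mul, zp_map, zp_map, hφa, hφc, inv_one, zp_one, zp_one]
  have hφH : ∀ r : (ZMod p)ˣ, φ (slH r) = H a b⁻¹ r := fun r => by
    rw [← H_SL r, H, H, map_mul, map_inv, W, W]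
    simp only [map_mul, zp_map, hφa, hφc]
    rfl
  have hHA : ∀ r : (ZMod p)ˣ, conjBy A (φ (slH r)) = A := fun r => by
    rw [hφH]
    refine eq_of_common h.group.2 (mem_points h.group _) (self_mem A B)
      (x := zp a ((r : ZMod p) ^ 2 * 1)) ?_ (A.pow_mem ha _)
      (zp_ne_one ha1 hap (by rw [mul_one]; exact pow_ne_zero 2 r.ne_zero))
    rw [← H_conj_a hbr]
    exact conj_mem_conjBy _ (A.pow_mem ha _)
  have hHB : ∀ r : (ZMod p)ˣ, conjBy B (φ (slH r)) = B := fun r => by
    rw [hφH]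
    refine eq_of_common h.group.2 (point_conj h.group _) (right_mem h.group.2)
      (x := zp b⁻¹ ((1 : ZMod p) / (r : ZMod p) ^ 2)) ?_ (B.pow_mem hc _)
      (zp_ne_one hc1 hbr.pow_c (div_ne_zero one_ne_zero (pow_ne_zero 2 r.ne_zero)))
    rw [← H_conj_c hbr]
    exact conj_mem_conjBy _ (B.pow_mem hc _)
  have hUA : ∀ t : ZMod p, conjBy A (φ (slU t)) = A := fun t => by
    rw [hφU]; exact conjBy_eq_self_of_mem (A.pow_mem ha _)
  -- the kernel is central
  have hker : φ.ker ≤ Subgroup.center (Matrix.SpecialLinearGroup (Fin 2) (ZMod p)) := by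
    intro k hk
    rw [MonoidHom.mem_ker] at hk
    have hdet := k.2
    rw [Matrix.det_fin_two] at hdet
    by_cases hr : (k : Matrix (Fin 2) (Fin 2) (ZMod p)) 1 0 = 0
    · rw [hr, mul_zero, sub_zero] at hdet
      set r : (ZMod p)ˣ := Units.mk0 _ (left_ne_zero_of_mul_eq_one hdet) with hrdef
      set t := (k : Matrix (Fin 2) (Fin 2) (ZMod p)) 0 1 *
        (k : Matrix (Fin 2) (Fin 2) (ZMod p)) 0 0 with htdef
      have hdec : k = slU t * slH r := by
        refine Subtype.ext ?_
        rw [Matrix.SpecialLinearGroup.coe_mul]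
        show _ = !![1, t; 0, 1] * !![(r : ZMod p), 0; 0, ((r⁻¹ : (ZMod p)ˣ) : ZMod p)]
        have h11 : (k : Matrix (Fin 2) (Fin 2) (ZMod p)) 1 1 =
            ((k : Matrix (Fin 2) (Fin 2) (ZMod p)) 0 0)⁻¹ :=
          (eq_inv_of_mul_eq_one_right hdet)
        rw [Units.val_inv_eq_inv_val, hrdef, Units.val_mk0, Matrix.mul_fin_two]
        simp only [mul_zero, zero_mul, one_mul, add_zero, zero_add]
        rw [htdef, mul_inv_cancel_right₀ (left_ne_zero_of_mul_eq_one hdet)]
        conv_lhs => rw [Matrix.eta_fin_two (k : Matrix (Fin 2) (Fin 2) (ZMod p)), hr, h11]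
      rw [hdec, map_mul] at hk
      have ht0 : t = 0 := by
        by_contra ht
        refine zp_ne_one ha1 hap ht (eq_one_of_conjBy_eq h.group.2 (A.pow_mem ha _) ?_)
        have := conjBy_one B
        rwa [← hk, ← conjBy_conjBy, hHB, hφU] at this
      rw [ht0, slU_zero, map_one, one_mul, hφH] at hk
      have h2 := H_conj_a hbr r 1
      rw [hk, one_mul, inv_one, mul_one, mul_one, zp_one] at h2
      have hr2 : (r : ZMod p) ^ 2 = 1 := by
        by_contra hne
        refine zp_ne_one ha1 hap (sub_ne_zero.2 hne) ?_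
        rw [sub_eq_add_neg, zp_add hap, zp_neg hap, zp_one, ← h2, mul_inv_cancel]
      have hz : r = 1 ∨ r = -1 := by
        rcases mul_self_eq_one_iff.1 ((pow_two _).symm.trans hr2) with e | e
        · exact Or.inl (Units.ext e)
        · exact Or.inr (Units.ext e)
      rw [hdec, ht0, slU_zero, one_mul]
      rcases hz with e | e <;> rw [e]
      · rw [slH_one]; exact one_mem _
      · refine Subgroup.mem_center_iff.2 fun g => Subtype.ext ?_
        rw [Matrix.SpecialLinearGroup.coe_mul, Matrix.SpecialLinearGroup.coe_mul]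
        have e1 : ((slH (-1 : (ZMod p)ˣ) : Matrix.SpecialLinearGroup (Fin 2) (ZMod p)) :
            Matrix (Fin 2) (Fin 2) (ZMod p)) = -1 := by
          show !![((-1 : (ZMod p)ˣ) : ZMod p), 0; 0, (((-1 : (ZMod p)ˣ)⁻¹ : (ZMod p)ˣ) : ZMod p)] = _
          simp [Matrix.one_fin_two]
        rw [e1, mul_neg, mul_one, neg_mul, one_mul]
    · exfalso
      set r : (ZMod p)ˣ := Units.mk0 _ hr with hrdef
      set t := (k : Matrix (Fin 2) (Fin 2) (ZMod p)) 0 0 / (r : ZMod p) with htdef
      set u := (k : Matrix (Fin 2) (Fin 2) (ZMod p)) 1 1 * (r : ZMod p) with hudef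
      have hdec : slW * slU (-t) * k = slU u * slH r := by
        refine Subtype.ext ?_
        rw [Matrix.SpecialLinearGroup.coe_mul, Matrix.SpecialLinearGroup.coe_mul,
          Matrix.SpecialLinearGroup.coe_mul]
        show !![(0 : ZMod p), 1; -1, 0] * !![1, -t; 0, 1] * (k : Matrix (Fin 2) (Fin 2) (ZMod p)) =
          !![1, u; 0, 1] * !![(r : ZMod p), 0; 0, ((r⁻¹ : (ZMod p)ˣ) : ZMod p)]
        rw [Units.val_inv_eq_inv_val, htdef, hudef, hrdef, Units.val_mk0]
        conv_lhs => rw [Matrix.eta_fin_two (k : Matrix (Fin 2) (Fin 2) (ZMod p))]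
        simp only [Matrix.mul_fin_two]
        ext i j
        fin_cases i <;> fin_cases j <;> simp <;> field_simp <;>
          first | ring1 | linear_combination hdet
      have h1 := congrArg (fun g => conjBy A (φ g)) hdec
      simp only [map_mul, hk, mul_one] at h1
      rw [← conjBy_conjBy, hUA, ← conjBy_conjBy, hHA, hUA, hφW] at h1
      exact h.group.2.ne (h1.symm.trans hsw.1)
  have hK : Subgroup.closure ({a, b} : Set X) = φ.range := by
    rw [hφr]
    refine le_antisymm ((Subgroup.closure_le _).2 ?_) ((Subgroup.closure_le _).2 ?_)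
    · rintro x (rfl | hx)
      · exact Subgroup.subset_closure (Or.inl rfl)
      · rw [Set.mem_singleton_iff.1 hx]
        exact (Subgroup.inv_mem_iff _).1 (Subgroup.subset_closure (Or.inr rfl))
    · rintro x (rfl | rfl)
      · exact Subgroup.subset_closure (Or.inl rfl)
      · exact inv_mem (Subgroup.subset_closure (Or.inr rfl))
  rw [hK]
  have e := (QuotientGroup.quotientKerEquivRange φ).symm
  by_cases hinj : φ.ker = ⊥
  · exact Or.inl ⟨e.trans ((QuotientGroup.quotientMulEquivOfEq hinj).trans QuotientGroup.quotientBot)⟩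
  · refine Or.inr ⟨e.trans (QuotientGroup.quotientMulEquivOfEq (le_antisymm hker fun z hz => ?_))⟩
    obtain ⟨k, hk, hk1⟩ : ∃ k ∈ φ.ker, k ≠ 1 := by
      by_contra! hcon
      exact hinj ((Subgroup.eq_bot_iff_forall _).2 hcon)
    rcases center_SL2 (hker hk) with e1 | e1
    · exact absurd e1 hk1
    rcases center_SL2 hz with e2 | e2
    · exact e2 ▸ one_mem _
    · exact e2 ▸ (e1 ▸ hk)

omit [Fact p.Prime] in
theorem abelianSpecial_of (h : IsRankOneGroup X A B) (hs : IsSpecialRankOnePair A B)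
    (hab : HasAbelianUnipotents A B) : AbelianSpecial A B := ⟨h, hs, hab.1, hab.2⟩

omit [Fact p.Prime] in
/-- The structure of special rank one groups with abelian unipotent subgroups. -/
theorem structure_theorem (h : AbelianSpecial A B) :
    (ENat.card A ≤ 3 ∧ (Nonempty (X ≃* Matrix.SpecialLinearGroup (Fin 2) (ZMod 2)) ∨
      Nonempty (X ≃* Matrix.SpecialLinearGroup (Fin 2) (ZMod 3)) ∨
      Nonempty (X ≃* Matrix.ProjectiveSpecialLinearGroup (Fin 2) (ZMod 3)))) ∨
    (commutator X ⊔ A = ⊤ ∧ Cfsg.IsQuasisimple (commutator X) ∧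
      3 < ENat.card ↥(⁅A, rankOneDiagonal A B⁆ : Subgroup X)) := by
  by_cases hcard : 3 < ENat.card A
  · obtain ⟨a, ha, haX, ha1⟩ := exists_derived h hcard
    exact Or.inr ⟨commutator_sup h, isQuasisimple_derived h ha haX ha1,
      three_lt_commutator_diagonal h hcard⟩
  refine Or.inl ⟨le_of_not_gt hcard, ?_⟩
  have hfin : Finite A := by
    by_contra hinf
    haveI := not_finite_iff_infinite.1 hinf
    exact hcard (by rw [ENat.card_eq_top_of_infinite]; exact WithTop.coe_lt_top 3)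
  have hn : Nat.card A = 2 ∨ Nat.card A = 3 := by
    have h1 : Nat.card A ≤ 3 := by
      have := le_of_not_gt hcard
      rw [show ENat.card A = (Nat.card A : ℕ∞) from (ENat.card_eq_coe_natCard _)] at this
      exact_mod_cast this
    obtain ⟨a, ha, ha1⟩ := exists_one_ne h.group.2
    haveI : Nontrivial A := ⟨⟨⟨a, ha⟩, 1, fun e => ha1 (congrArg Subtype.val e)⟩⟩
    have h2 : 1 < Nat.card A := Finite.one_lt_card
    omega
  obtain ⟨q, hq, hqA⟩ : ∃ q : ℕ, q.Prime ∧ Nat.card A = q := by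
    rcases hn with e | e
    · exact ⟨2, Nat.prime_two, e⟩
    · exact ⟨3, Nat.prime_three, e⟩
  haveI := Fact.mk hq
  have hpow : ∀ x ∈ A, x ^ q = 1 := fun x hx => by
    have := pow_card_eq_one' (x := (⟨x, hx⟩ : A))
    rw [hqA] at this
    exact congrArg Subtype.val this
  obtain ⟨a, ha, ha1⟩ := exists_one_ne h.group.2
  obtain ⟨b, hb, -, he⟩ := h.group.2.cond_left a ha ha1
  have hgenA : ∀ {x : X}, x ∈ A → x ∈ Subgroup.zpowers a := fun {x} hx => by
    obtain ⟨n, hn⟩ := Subgroup.mem_zpowers_iff.1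
      (mem_zpowers_of_prime_card hqA (g := (⟨a, ha⟩ : A)) (g' := ⟨x, hx⟩)
        fun e => ha1 (congrArg Subtype.val e))
    exact Subgroup.mem_zpowers_iff.2 ⟨n, congrArg Subtype.val hn⟩
  obtain ⟨hsw, hwa, -, -⟩ := partner_swaps h ha ha1 (B.inv_mem hb) he
  set K := Subgroup.closure ({a, b} : Set X)
  have haK : a ∈ K := Subgroup.subset_closure (Or.inl rfl)
  have hbK : b ∈ K := Subgroup.subset_closure (Or.inr rfl)
  have hAK : A ≤ K := fun x hx => Subgroup.zpowers_le.2 haK (hgenA hx)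
  have htop : K = ⊤ := top_le_iff.1 (h.group.1 ▸ sup_le hAK (fun x hx => by
    rw [← hsw.1] at hx
    obtain ⟨y, hy, rfl⟩ := hx
    have hw : a * b⁻¹ * a ∈ K := mul_mem (mul_mem haK (inv_mem hbK)) haK
    exact mul_mem (mul_mem hw (hAK hy)) (inv_mem hw)))
  have e : K ≃* X := (MulEquiv.subgroupCongr htop).trans Subgroup.topEquiv
  rcases hn with e2 | e3
  · obtain rfl : q = 2 := hqA.symm.trans e2
    rcases line_iso h hpow ha ha1 hb he with f | f <;> obtain ⟨f⟩ := f
    · exact Or.inl ⟨e.symm.trans f⟩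
    · refine Or.inl ⟨e.symm.trans (f.trans ((QuotientGroup.quotientMulEquivOfEq ?_).trans
        QuotientGroup.quotientBot))⟩
      refine (Subgroup.eq_bot_iff_forall _).2 fun z hz => ?_
      rcases center_SL2 hz with e' | e'
      · exact e'
      · rw [e']
        exact neg_one_SL_two
  · obtain rfl : q = 3 := hqA.symm.trans e3
    rcases line_iso h hpow ha ha1 hb he with f | f <;> obtain ⟨f⟩ := f
    · exact Or.inr (Or.inl ⟨e.symm.trans f⟩)
    · exact Or.inr (Or.inr ⟨e.symm.trans f⟩)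

end Cfsg.Agent.Fus.RankOne
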