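import Cfsg.Agent.Lib.Fus.RankTwoPearl

/-!
For `p ≥ 5` a group of rank two with an essential subgroup `C_p × C_p` is nonabelian of order `p³`
and exponent `p`.
-/

set_option autoImplicit false
set_option linter.unusedSectionVars false
set_option linter.style.haveILetI false

universe u

namespace Cfsg.Agent.Fus.RankTwo

open Cfsg FusionSystem RankTwoAut TorusExt Invol.CubicStable
open Grp.SL2 (up low up_mul up_pow up_zero)

variable {Ω : Type u} [Group Ω] {S : Subgroup Ω} [Finite S] {p : ℕ} [hp : Fact p.Prime]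
  {F : FusionSystem S}

theorem mem_normalizer_of_le {E : Subgroup Ω} [Finite E] {g : Ω}
    (h : ∀ x ∈ E, g * x * g⁻¹ ∈ E) : g ∈ Subgroup.normalizer (E : Set Ω) := by
  have he : E.map (MulAut.conj g).toMonoidHom = E := Subgroup.eq_of_le_of_card_ge
    (by rintro _ ⟨x, hx, rfl⟩; exact h x hx)
    (Subgroup.card_map_of_injective (MulAut.conj g).injective).ge
  refine mem_normalizer_of_forall h fun x hx => ?_
  obtain ⟨a, ha, hax⟩ := he.ge hx
  rw [← hax]
  simpa [mul_assoc] using ha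

set_option maxHeartbeats 1600000 in
/-- The case of an essential subgroup of order `p²`. -/
theorem pearl_case (hS : IsPGroup p S) (hF : F.IsSaturated p) (h5 : 5 ≤ p) (hR : RankLe p S)
    {E : Subgroup Ω} (hE : F.IsEssential p E) (hel : IsElementaryAbelian p E)
    (hcard : Nat.card E = p ^ 2) : Nat.card S = p ^ 3 ∧ Monoid.exponent ↥S = p := by
  classical
  have hpp : p.Prime := hp.out
  have hodd : p ≠ 2 := by omega
  have hES : E ≤ S := hE.2.1.1
  haveI := finite_of_le hES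
  have hCE : centralizerIn S E ≤ E := hE.1.2 E (isConj_refl F hES)
  set r := (F.autGroup E).subtype with hr
  have hker : ∀ g, r g = 1 → (g : MulAut E) ∈ Inn E := fun g hg => by
    rw [show (g : MulAut E) = 1 from hg]; exact one_mem _
  have hab : ∀ x y : E, x * y = y * x := fun x y => hel.1.is_comm.comm x y
  have hexpE : ∀ x : E, x ^ p = 1 := fun x =>
    Subtype.ext (by rw [SubmonoidClass.coe_pow]; exact hel.2 x x.2)
  set R := normalizerIn S E with hRdef
  obtain ⟨u, huE, hu1, hg, -⟩ := exists_nonnormal hS hCE r hker hcard hF hE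
  obtain ⟨e, s, hs, hau, htor⟩ := exists_torus hS hCE r hker hcard hab hexpE hF hE.2.1 hu1 hg
  obtain ⟨hup, hgen⟩ := TorusExt.exists_pow_eq hS hCE r hker hcard hES hu1
  set z : E := e (Multiplicative.ofAdd (Pi.single 0 1)) with hzdef
  set y : E := e (Multiplicative.ofAdd (Pi.single 1 1)) with hydef
  have hucj : ∀ a : E, ((r (cj F hES u) a : E) : Ω) = (u : Ω) * a * (u : Ω)⁻¹ := fun a => rfl
  have huz : Commute (u : Ω) z := by
    have h := congrArg Subtype.val ((congrArg (fun f : MulAut E => f z) hau).trans (act_up e s).1)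
    exact mul_inv_eq_iff_eq_mul.1 h
  have hzy : Commute (z : Ω) y := congrArg Subtype.val (hab z y)
  have huy : (u : Ω) * y * (u : Ω)⁻¹ = y * (z : Ω) ^ s.val := by
    have h := congrArg Subtype.val ((congrArg (fun f : MulAut E => f y) hau).trans (act_up e s).2)
    exact h.trans ((hzy.pow_left _).eq)
  have hzp : (z : Ω) ^ p = 1 := hel.2 _ z.2
  have hyp : (y : Ω) ^ p = 1 := hel.2 _ y.2
  have hz1 : (z : Ω) ≠ 1 := fun h => coord_f₀_ne_one e (Subtype.ext h)
  have hsn : (s.val : ZMod p) ≠ 0 := by rwa [ZMod.natCast_zmod_val]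
  have hE' : ∀ a ∈ E, ∃ i j : ℕ, a = (z : Ω) ^ i * (y : Ω) ^ j := fun a ha => by
    obtain ⟨i, j, h⟩ := exists_coord e ⟨a, ha⟩
    exact ⟨i, j, by simpa using congrArg Subtype.val h⟩
  -- the weights
  obtain ⟨c, hc0, hc1, hc2, hc3⟩ := exists_scalar (p := p) h5
  obtain ⟨t, β, -, ht, hβ, hβt, hβN, hβu⟩ := htor c c⁻¹ (mul_inv_cancel₀ hc0)
  have hER : E ≤ R := le_normalizerIn hES
  have hRS : R ≤ S := inf_le_left
  haveI := finite_of_le hRS
  have hβz : β z = (z : Ω) ^ c.val := by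
    rw [hβt]
    exact congrArg Subtype.val ((congrArg (fun f : MulAut E => f z) ht).trans (act_dg e _ _ _).1)
  have hβy : β y = (y : Ω) ^ (c⁻¹).val := by
    rw [hβt]
    exact congrArg Subtype.val ((congrArg (fun f : MulAut E => f y) ht).trans (act_dg e _ _ _).2)
  have hpowβ : ∀ {a : Ω}, a ∈ R → ∀ n : ℕ, β (a ^ n) = β a ^ n := fun {a} ha n => by
    induction n with
    | zero => rw [pow_zero, pow_zero, hβ.map_one]
    | succ n ih => rw [pow_succ, pow_succ, hβ.map_mul (pow_mem ha n) ha, ih]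
  -- `u ^ p = 1`
  set n := (c * c).val with hn
  have hup' : (u : Ω) ^ p = 1 := by
    have hupE : (u : Ω) ^ p ∈ E := by
      have := TorusExt.mem_of_map_eq hCE r hker hES (x := u ^ p) (y := 1)
        (by rw [map_pow, map_pow, hup, map_one, map_one])
      rwa [OneMemClass.coe_one, inv_one, mul_one, SubmonoidClass.coe_pow] at this
    obtain ⟨i, j, hij⟩ := hE' _ hupE
    have hj : (j : ZMod p) = 0 := by
      by_contra hj
      have h1 : Commute (u : Ω) ((z : Ω) ^ i * (y : Ω) ^ j) := hij ▸ Commute.self_pow _ p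
      have h2 := ((huz.pow_right i).inv_right).mul_right h1
      rw [inv_mul_cancel_left] at h2
      have h3 : Commute (u : Ω) y := (commute_of_pow hyp hj h2.symm).symm
      rw [h3.eq, mul_inv_cancel_right, left_eq_mul] at huy
      exact hsn ((cast_eq_of_pow hzp hz1 (a := s.val) (b := 0) (by rw [huy, pow_zero])).trans
        Nat.cast_zero)
    rw [(pow_eq_of_cast hyp (b := 0) (by simpa using hj)).trans (pow_zero _), mul_one] at hij
    rcases eq_or_ne (i : ZMod p) 0 with hi | hi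
    · rw [hij, (pow_eq_of_cast hzp (b := 0) (by simpa using hi)).trans (pow_zero _)]
    exfalso
    obtain ⟨a, b, hab'⟩ := hE' _ hβu
    set m := β u * ((u : Ω) ^ n)⁻¹ with hm
    have hconj : ∀ l : ℕ, (u : Ω) ^ l * y * ((u : Ω) ^ l)⁻¹ = y * (z : Ω) ^ (s.val * l) := by
      intro l
      induction l with
      | zero => simp
      | succ l ih =>
        calc (u : Ω) ^ (l + 1) * y * ((u : Ω) ^ (l + 1))⁻¹
            = (u : Ω) * ((u : Ω) ^ l * y * ((u : Ω) ^ l)⁻¹) * (u : Ω)⁻¹ := by rw [pow_succ']; group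
          _ = ((u : Ω) * y * (u : Ω)⁻¹) * ((u : Ω) * (z : Ω) ^ (s.val * l) * (u : Ω)⁻¹) := by
            rw [ih]; group
          _ = y * (z : Ω) ^ (s.val * (l + 1)) := by
            rw [huy, (huz.pow_right _).eq, mul_inv_cancel_right, mul_assoc, ← pow_add, mul_add,
              mul_one, add_comm]
    have hum : (u : Ω) ^ n * m = (z : Ω) ^ (s.val * n * b) * m * (u : Ω) ^ n := by
      have h1 : (u : Ω) ^ n * (y : Ω) ^ b * ((u : Ω) ^ n)⁻¹ = (y : Ω) ^ b * (z : Ω) ^ (s.val * n * b) := by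
        rw [← conj_pow, hconj, (hzy.symm.pow_right _).mul_pow, ← pow_mul]
      calc (u : Ω) ^ n * m = ((u : Ω) ^ n * (z : Ω) ^ a * ((u : Ω) ^ n)⁻¹) *
            ((u : Ω) ^ n * (y : Ω) ^ b * ((u : Ω) ^ n)⁻¹) * (u : Ω) ^ n := by rw [hab']; group
        _ = (z : Ω) ^ a * ((y : Ω) ^ b * (z : Ω) ^ (s.val * n * b)) * (u : Ω) ^ n := by
          rw [h1, (huz.pow_pow n a).eq, mul_inv_cancel_right]
        _ = (z : Ω) ^ (s.val * n * b) * m * (u : Ω) ^ n := by
          rw [(hzy.pow_pow _ b).symm.eq, ← mul_assoc, ((Commute.refl (z : Ω)).pow_pow a _).eq,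
            mul_assoc _ ((z : Ω) ^ a), ← hab']
    have hmc : Commute ((z : Ω) ^ (s.val * n * b)) m := by
      rw [hab']
      exact ((Commute.refl (z : Ω)).pow_pow _ a).mul_right (hzy.pow_pow _ b)
    obtain ⟨M, hM⟩ := hpp.dvd_choose_self (k := 2) two_ne_zero (by omega)
    have h1 : (m * (u : Ω) ^ n) ^ p = (z : Ω) ^ (i * n) := by
      rw [Grp.mul_pow_class_two hum hmc (huz.symm.pow_pow _ n) p, hM, ← pow_mul,
        show s.val * n * b * (p * M) = p * (s.val * n * b * M) by ring, pow_mul, hzp, one_pow,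
        one_mul, show m ^ p = 1 from hel.2 _ hβu, one_mul, ← pow_mul, mul_comm, pow_mul, hij,
        ← pow_mul]
    rw [hm, inv_mul_cancel_right, ← hpowβ u.2, hij, hpowβ (hER z.2), hβz, ← pow_mul] at h1
    have h2 := cast_eq_of_pow hzp hz1 h1
    simp only [Nat.cast_mul, hn, ZMod.natCast_zmod_val] at h2
    rw [mul_comm (i : ZMod p)] at h2
    exact hc1 (mul_left_cancel₀ hc0 ((mul_right_cancel₀ hi h2).symm.trans (mul_one c).symm))
  -- the frame
  obtain ⟨f, hfx₀, hfx₁, hfz⟩ : ∃ f : Frame p ↥R,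
      ((f.x₀ : R) : Ω) = y ∧ ((f.x₁ : R) : Ω) = u ∧ ((f.z : R) : Ω) = z := by
    let Y : R := ⟨y, hER y.2⟩
    let Z : R := ⟨z, hER z.2⟩
    set M := Subgroup.closure ({Y, u} : Set R) with hM
    have hYM : Y ∈ M := Subgroup.subset_closure (Or.inl rfl)
    have huM : u ∈ M := Subgroup.subset_closure (Or.inr rfl)
    have hrel : u * Y * u⁻¹ = Y * Z ^ s.val := Subtype.ext (by simpa [Y, Z] using huy)
    have hZp : Z ^ p = 1 := Subtype.ext (by simpa [Z] using hzp)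
    have hZM : Z ∈ M := by
      obtain ⟨b, hb⟩ := exists_pow_eq hZp hsn
      have h1 := M.mul_mem (M.inv_mem hYM) (M.mul_mem (M.mul_mem huM hYM) (M.inv_mem huM))
      rw [hrel, inv_mul_cancel_left] at h1
      exact hb ▸ M.pow_mem h1 b
    have hdec : ∀ x : R, ∃ (a b l : ℕ), x = Z ^ a * Y ^ b * u ^ l := by
      intro x
      obtain ⟨l, hl⟩ := hgen x
      have hmem := TorusExt.mem_of_map_eq hCE r hker hES (x := x) (y := u ^ l)
        (by rw [map_pow, map_pow, hl])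
      obtain ⟨a, b, hab'⟩ := hE' _ hmem
      exact ⟨a, b, l, Subtype.ext (by
        simpa [Y, Z] using mul_inv_eq_iff_eq_mul.1 hab')⟩
    refine ⟨⟨Y, u, Z, s.val, fun d => ?_, hZp, Subtype.ext (by simpa [Y] using hyp),
      Subtype.ext (by simpa using hup'), hsn, hrel, eq_top_iff.2 fun x _ => ?_,
      fun h => hz1 (congrArg Subtype.val h)⟩, rfl, rfl, rfl⟩
    · obtain ⟨a, b, l, rfl⟩ := hdec d
      refine (((Commute.refl Z).pow_right a).mul_right ?_).mul_right ?_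
      · exact (show Commute Z Y from Subtype.ext hzy.eq).pow_right b
      · exact (show Commute Z u from Subtype.ext huz.eq.symm).pow_right l
    · obtain ⟨a, b, l, rfl⟩ := hdec x
      exact M.mul_mem (M.mul_mem (M.pow_mem hZM a) (M.pow_mem hYM b)) (M.pow_mem huM l)
  have hexpR : ∀ a ∈ R, a ^ p = 1 := fun a ha => by
    simpa using congrArg Subtype.val (f.pow_eq_one hodd ⟨a, ha⟩)
  rcases eq_top_or_lt hRS with hRS' | hRS'
  · refine ⟨hRS' ▸ f.card_eq, ?_⟩
    haveI : Nontrivial ↥S := Finite.one_lt_card_iff_nontrivial.1 (by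
      rw [show Nat.card S = p ^ 3 from hRS' ▸ f.card_eq]
      exact Nat.one_lt_pow (by norm_num) hpp.one_lt)
    refine (Monoid.exponent_eq_prime_iff hpp).2 fun g hg => orderOf_eq_prime ?_ hg
    exact Subtype.ext (by simpa using hexpR g (hRS'.ge g.2))
  exfalso
  -- `R` is centric and fully normalized
  have hCconj : ∀ Q, F.IsConj R Q → centralizerIn S Q ≤ Q ∧ Nonempty (Frame p ↥Q) := by
    intro Q hQ
    obtain ⟨g, hg, hgQ⟩ := isConj_iff.1 hQ
    obtain ⟨e', -, -⟩ := exists_mulEquiv hg hgQ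
    refine ⟨fun x hx => ?_, ⟨f.map e'⟩⟩
    have hle : fimg g E ≤ Q := hgQ ▸ fimg_le fun a ha => apply_mem_fimg g (hER ha)
    refine hle (hE.1.2 _ (hg.res hER).isConj ?_)
    exact mem_centralizerIn.2 ⟨hx.1, fun a ha => (mem_centralizerIn.1 hx).2 a (hle ha)⟩
  have hCR : centralizerIn S R ≤ R := (hCconj R (isConj_refl F hRS)).1
  have hlt : R < normalizerIn S R := lt_normalizerIn hS hRS'
  have hRn : F.IsFullyNormalized R := by
    refine ⟨hRS, fun Q hQ => ?_⟩
    obtain ⟨hCQ, ⟨fQ⟩⟩ := hCconj Q hQ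
    have hQS := isConj_le_right hQ
    haveI := finite_of_le hQS
    refine (card_normalizerIn_le F hS hQS hCQ fQ).trans ?_
    haveI : Finite ↥(normalizerIn S R) := finite_of_le (inf_le_left : normalizerIn S R ≤ S)
    obtain ⟨i, hi⟩ := IsPGroup.iff_card.1
      (hS.to_le (inf_le_left : normalizerIn S R ≤ S) : IsPGroup p (normalizerIn S R))
    have h1 := card_lt_of_lt hlt
    rw [f.card_eq, hi] at h1
    rw [fQ.card_eq, hi, ← pow_succ]
    exact Nat.pow_le_pow_right hpp.pos ((Nat.pow_lt_pow_iff_right hpp.one_lt).1 h1)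
  obtain ⟨t₀, ht₀A, ht₀⟩ := (hβ : IsMap F R β).exists_aut (Subgroup.eq_of_le_of_card_ge
    (fimg_le hβN) hβ.card_fimg.ge)
  set q₂ := QuotientGroup.mk' (Subgroup.center ↥R) with hq₂
  set r₂ := frameRep F R with hr₂
  have hker₂ := frameRep_ker (F := F) f
  have hab₂ := f.quot_comm
  have hexp₂ := f.quot_exp
  have hcard₂ := f.card_quot
  have hr₂ap : ∀ (g : F.autGroup R) (d : R), r₂ g (q₂ d) = q₂ ((g : MulAut R) d) := fun g d => rfl
  obtain ⟨w, hwN, hwR⟩ := SetLike.exists_of_lt hlt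
  set W : ↥(normalizerIn S R) := ⟨w, hwN⟩ with hW
  have hW1 : r₂ (cj F hRS W) ≠ 1 := fun h => hwR (by
    have := TorusExt.mem_of_map_eq hCR r₂ hker₂ hRS (x := W) (y := 1) (by rw [h, map_one, map_one])
    rwa [OneMemClass.coe_one, inv_one, mul_one] at this)
  obtain ⟨hWp, hWgen⟩ := TorusExt.exists_pow_eq hS hCR r₂ hker₂ hcard₂ hRS hW1
  set g₀ := r₂ ⟨t₀, ht₀A⟩ with hg₀
  have hqz : q₂ f.z = 1 := (QuotientGroup.eq_one_iff _).2 (f.mem_center_iff.2 ⟨1, (pow_one _).symm⟩)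
  have ht₀ap : ∀ a : R, ((t₀ a : R) : Ω) = β a := fun a => by rw [← ht₀ _ a.2, autFun_coe]
  have hqx : ∀ {x : R}, q₂ x ^ p = 1 := fun {x} => hexp₂ _
  set d := (c⁻¹).val with hd
  set vy := q₂ f.x₀ with hvy
  have hg₀y : g₀ vy = vy ^ d := by
    rw [hvy, hg₀, hr₂ap, ← map_pow]
    refine congrArg q₂ (Subtype.ext ?_)
    rw [SubmonoidClass.coe_pow, ht₀ap, hfx₀, hβy]
  obtain ⟨X, hX⟩ : ∃ X : R, g₀ (q₂ X) = q₂ X ^ n ∧ ∃ k : ℕ, X = f.x₁ * f.x₀ ^ k := by
    obtain ⟨a, b, hab'⟩ := hE' _ hβu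
    have h1 : t₀ f.x₁ = f.z ^ a * f.x₀ ^ b * f.x₁ ^ n := Subtype.ext (by
      rw [ht₀ap, hfx₁]
      push_cast
      rw [hfz, hfx₀, hfx₁, ← hab', inv_mul_cancel_right])
    have h2 : g₀ (q₂ f.x₁) = vy ^ b * q₂ f.x₁ ^ n := by
      rw [hg₀, hr₂ap, h1, map_mul, map_mul, map_pow, map_pow, map_pow, hqz, one_pow, one_mul]
    have hne : (c * c - c⁻¹ : ZMod p) ≠ 0 := fun h => hc3 (by
      field_simp at h
      linear_combination h)
    set k := ((b : ZMod p) * (c * c - c⁻¹)⁻¹).val with hk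
    refine ⟨f.x₁ * f.x₀ ^ k, ?_, k, rfl⟩
    have hc' : Commute (q₂ f.x₁) vy := hab₂ _ _
    rw [map_mul, map_pow, map_mul, map_pow, ← hvy, h2, hg₀y, (hc'.pow_right k).mul_pow, ← pow_mul,
      ← pow_mul, (hc'.symm.pow_pow b n).eq, mul_assoc, ← pow_add]
    refine congrArg _ (pow_eq_of_cast hqx ?_)
    have hk' : (k : ZMod p) * (c * c - c⁻¹) = b := by
      rw [hk, ZMod.natCast_zmod_val, inv_mul_cancel_right₀ hne]
    simp only [Nat.cast_add, Nat.cast_mul, hd, hn, ZMod.natCast_zmod_val]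
    linear_combination -hk'
  obtain ⟨hXg, k, hXk⟩ := hX
  set v := q₂ X with hv
  have hindep : vy ≠ 1 ∧ v ∉ Subgroup.zpowers vy := by
    have h0 : vy ≠ 1 := fun h => f.x₁_not_commute
      (Subgroup.mem_center_iff.1 ((QuotientGroup.eq_one_iff _).1 h) f.x₁)
    refine ⟨h0, fun h => ?_⟩
    have hle : Subgroup.closure ({vy, q₂ f.x₁} : Set _) ≤ Subgroup.zpowers vy := by
      refine (Subgroup.closure_le _).2 ?_
      rintro x (rfl | rfl)
      · exact Subgroup.mem_zpowers vy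
      · have h' : v * (vy ^ k)⁻¹ ∈ Subgroup.zpowers vy :=
          mul_mem h (inv_mem (pow_mem (Subgroup.mem_zpowers vy) k))
        rwa [hv, hXk, map_mul, map_pow, ← hvy, mul_inv_cancel_right] at h'
    rw [← Set.image_pair, ← MonoidHom.map_closure, f.hcl,
      Subgroup.map_top_of_surjective _ (QuotientGroup.mk'_surjective _), top_le_iff] at hle
    have h2 := hcard₂
    rw [← Subgroup.card_top, ← hle, Nat.card_zpowers, orderOf_eq_prime hqx h0] at h2
    nlinarith [hpp.two_le]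
  set a := r₂ (cj F hRS W) with ha
  -- finish from coordinates in which `a` is a transvection
  have finish : ∀ (e₂ : Multiplicative (Fin 2 → ZMod p) ≃* (↥R ⧸ Subgroup.center ↥R)) (s' : ZMod p)
      (T : F.autGroup R) (β₂ : Ω → Ω) (μ ν : ZMod p), a = act e₂ (up s') →
      r₂ T (e₂ (Multiplicative.ofAdd (Pi.single 0 1))) =
        e₂ (Multiplicative.ofAdd (Pi.single 0 1)) ^ μ.val →
      r₂ T (e₂ (Multiplicative.ofAdd (Pi.single 1 1))) =
        e₂ (Multiplicative.ofAdd (Pi.single 1 1)) ^ ν.val →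
      μ ≠ 0 → ν ≠ 0 → ν * ν ≠ 1 → IsMap F (normalizerIn S R) β₂ →
      (∀ b : R, β₂ b = ((T : MulAut R) b : R)) →
      β₂ w * (w ^ (μ * ν⁻¹).val)⁻¹ ∈ R → False := by
    intro e₂ s' T β₂ μ ν hae hT0 hT1 hμ hν hν2 hβ₂ hβ₂T hβ₂w
    obtain ⟨X₀, hX₀⟩ := QuotientGroup.mk'_surjective (Subgroup.center ↥R)
      (e₂ (Multiplicative.ofAdd (Pi.single 0 1)))
    obtain ⟨X₁, hX₁⟩ := QuotientGroup.mk'_surjective (Subgroup.center ↥R)
      (e₂ (Multiplicative.ofAdd (Pi.single 1 1)))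
    obtain ⟨f', hf'₀, hf'₁, hf'z⟩ := f.exists_frame hodd (X₀ := X₀) (X₁ := X₁)
      (fun h => coord_f₀_ne_one e₂ (hX₀.symm.trans h)) fun q => by
        obtain ⟨i, j, h⟩ := exists_coord e₂ q
        exact ⟨i, j, h.trans (by rw [← hX₀, ← hX₁]; rfl)⟩
    subst hf'₀ hf'₁
    have hmod : ∀ {A B : R}, q₂ A = q₂ B → ∃ j : ℕ, (A : Ω) = (B : Ω) * ((f'.z : R) : Ω) ^ j := by
      intro A B hAB
      obtain ⟨j, hj⟩ := f'.mem_center_iff.1 (QuotientGroup.eq.1 hAB.symm)
      exact ⟨j, by simpa using congrArg Subtype.val (inv_mul_eq_iff_eq_mul.1 hj)⟩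
    obtain ⟨j₀, hj₀⟩ := hmod (A := ((cj F hRS W : F.autGroup R) : MulAut R) f'.x₀) (B := f'.x₀) (by
      rw [← hr₂ap, ← ha, hae, hX₀, (act_up e₂ s').1])
    obtain ⟨l₀, hl₀⟩ := hmod (A := ((cj F hRS W : F.autGroup R) : MulAut R) f'.x₁)
      (B := f'.x₁ * f'.x₀ ^ s'.val) (by
        rw [← hr₂ap, ← ha, hae, hX₁, (act_up e₂ s').2, map_mul, map_pow, hX₀, hX₁]
        exact hab₂ _ _)
    obtain ⟨m₀, hm₀⟩ := hmod (A := (T : MulAut R) f'.x₀) (B := f'.x₀ ^ μ.val) (by
      rw [← hr₂ap, hX₀, hT0, map_pow, hX₀])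
    obtain ⟨n₀, hn₀⟩ := hmod (A := (T : MulAut R) f'.x₁) (B := f'.x₁ ^ ν.val) (by
      rw [← hr₂ap, hX₁, hT1, map_pow, hX₁])
    refine final_false hS hR hRS hexpR f' hCR (w := W) hwR (i₀ := s'.val) (j₀ := j₀) (l₀ := l₀)
      (m₀ := m₀) (n₀ := n₀) ?_ ?_ ?_ hβ₂ (fun x hx => ?_) hμ hν hν2 rfl ?_ ?_ hβ₂w
    · simpa using hj₀
    · simpa [mul_assoc] using hl₀
    · have h1 := TorusExt.mem_of_map_eq hCR r₂ hker₂ hRS (x := W ^ p) (y := 1)
        (by rw [map_pow, map_pow, hWp, map_one, map_one])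
      rwa [OneMemClass.coe_one, inv_one, mul_one, SubmonoidClass.coe_pow] at h1
    · rw [show x = ((⟨x, hx⟩ : R) : Ω) from rfl, hβ₂T]
      exact SetLike.coe_mem _
    · rw [hβ₂T]; simpa using hm₀
    · rw [hβ₂T]; simpa using hn₀
  by_cases hnorm : g₀ * a * g₀⁻¹ ∈ Subgroup.zpowers a
  swap
  · obtain ⟨e₂, s', -, hae, htor₂⟩ := exists_torus hS hCR r₂ hker₂ hcard₂ hab₂ hexp₂ hF hRn hW1
      ⟨_, hnorm⟩
    obtain ⟨T, β₂, -, hT, hβ₂, hβ₂T, -, hβ₂w⟩ := htor₂ c c⁻¹ (mul_inv_cancel₀ hc0)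
    refine finish e₂ s' T β₂ c c⁻¹ hae ?_ ?_ hc0 (inv_ne_zero hc0) ?_ hβ₂ hβ₂T ?_
    · rw [hT]; exact (act_dg e₂ _ _ _).1
    · rw [hT]; exact (act_dg e₂ _ _ _).2
    · intro h
      exact hc2 (by rw [← mul_inv, inv_eq_one] at h; exact h)
    · rw [inv_inv]; exact hβ₂w
  -- `g₀` normalizes, so `a` fixes one of its eigenlines
  obtain ⟨l, hl⟩ := (mem_powers_iff_mem_zpowers (x := a)).2 hnorm
  have hl : a ^ l * g₀ = g₀ * a := mul_inv_eq_iff_eq_mul.1 hl.symm |>.symm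
  have hl0 : (l : ZMod p) ≠ 0 := by
    intro h
    refine hW1 ?_
    rw [(pow_eq_of_cast hWp (b := 0) (by simpa using h)).trans (pow_zero a), one_mul] at hl
    exact left_eq_mul.1 hl
  obtain ⟨q, hq1, hqa⟩ : ∃ q, q ≠ 1 ∧ a q = q := by
    letI : MulAction (Subgroup.zpowers a) (↥R ⧸ Subgroup.center ↥R) :=
      MulAction.compHom _ (Subgroup.zpowers a).subtype
    have hpa : IsPGroup p (Subgroup.zpowers a) := fun x => ⟨1, Subtype.ext (by
      obtain ⟨i, hi⟩ := Subgroup.mem_zpowers_iff.1 x.2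
      rw [pow_one, SubmonoidClass.coe_pow, ← hi, ← zpow_natCast (a ^ i), zpow_comm, zpow_natCast,
        hWp, one_zpow]
      rfl)⟩
    obtain ⟨q, hq, hne⟩ := hpa.exists_fixed_point_of_prime_dvd_card_of_fixed_point
      (↥R ⧸ Subgroup.center ↥R) (by rw [hcard₂]; exact dvd_pow_self p two_ne_zero)
      (show (1 : ↥R ⧸ Subgroup.center ↥R) ∈ MulAction.fixedPoints _ _ from
        fun b => map_one (b : MulAut (↥R ⧸ Subgroup.center ↥R)))
    exact ⟨q, fun h => hne h.symm, hq ⟨a, Subgroup.mem_zpowers a⟩⟩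
  obtain ⟨e₁, he0, he1⟩ := exists_coords hab₂ hexp₂ hcard₂ hindep.1 hindep.2
  have hfix : ∀ m : ℕ, ∀ x, (a ^ m) x = x → (m : ZMod p) ≠ 0 → a x = x := by
    intro m x hx hm
    obtain ⟨b, hb⟩ := exists_pow_eq hWp hm
    rw [← hb]
    clear hb
    induction b with
    | zero => rfl
    | succ b ih => rw [pow_succ (a ^ m), MulAut.mul_apply, hx, ih]
  have hgq : a (g₀ q) = g₀ q := by
    refine hfix l _ ?_ hl0
    rw [← MulAut.mul_apply, hl, MulAut.mul_apply, hqa]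
  obtain ⟨m, hm⟩ : ∃ m : ℕ, g₀ q = q ^ m := by
    by_contra h
    push Not at h
    refine hW1 (MulEquiv.ext fun x => ?_)
    have hnot : g₀ q ∉ Subgroup.zpowers q := fun hmem => by
      obtain ⟨m, hm⟩ := (mem_powers_iff_mem_zpowers (x := q)).2 hmem
      exact h m hm.symm
    have hle : Subgroup.closure {q, g₀ q} ≤ a.toMonoidHom.eqLocus (MonoidHom.id _) :=
      (Subgroup.closure_le _).2 (by rintro x (rfl | rfl); exacts [hqa, hgq])
    have htop : Subgroup.closure {q, g₀ q} = ⊤ := Subgroup.eq_top_of_le_card _ (by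
      rw [hcard₂]; exact sq_le_card (hab₂ _ _) (hexp₂ _) (hexp₂ _) hq1 hnot)
    exact hle (htop.ge (Subgroup.mem_top x))
  obtain ⟨i, j, hqij⟩ := exists_coord e₁ q
  rw [he0, he1] at hqij
  have hcast : (i : ZMod p) * c⁻¹ = (i : ZMod p) * m ∧ (j : ZMod p) * (c * c) = (j : ZMod p) * m := by
    have h1 : vy ^ (d * i) * v ^ (n * j) = vy ^ (i * m) * v ^ (j * m) := by
      rw [hqij, map_mul, map_pow, map_pow, hg₀y, hXg, ← pow_mul, ← pow_mul,
        (show Commute _ _ from hab₂ (vy ^ i) (v ^ j)).mul_pow, ← pow_mul, ← pow_mul] at hm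
      exact hm
    rw [← he0, ← he1] at h1
    obtain ⟨h2, h3⟩ := coord_cast e₁ h1
    simp only [Nat.cast_mul, hd, hn, ZMod.natCast_zmod_val] at h2 h3
    exact ⟨by rw [mul_comm, h2], by rw [mul_comm, h3]⟩
  have hav : a v = v := by
    rcases eq_or_ne (i : ZMod p) 0 with hi | hi
    · rw [(pow_eq_of_cast hqx (x := vy) (b := 0) (by simpa using hi)).trans (pow_zero vy),
        one_mul] at hqij
      have hj : (j : ZMod p) ≠ 0 := fun hj => hq1 (by
        rw [hqij, (pow_eq_of_cast hqx (x := v) (b := 0) (by simpa using hj)).trans (pow_zero v)])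
      obtain ⟨b, hb⟩ := exists_pow_eq (hexp₂ v) hj
      rw [← hb, ← hqij, map_pow, hqa]
    · exfalso
      have hmc : c⁻¹ = (m : ZMod p) := mul_left_cancel₀ hi hcast.1
      have hj : (j : ZMod p) = 0 := by
        by_contra hj
        refine hc3 ?_
        have h1 := (mul_left_cancel₀ hj hcast.2).trans hmc.symm
        rw [h1, inv_mul_cancel₀ hc0]
      rw [(pow_eq_of_cast hqx (x := v) (b := 0) (by simpa using hj)).trans (pow_zero v), mul_one] at hqij
      obtain ⟨b, hb⟩ := exists_pow_eq (hexp₂ vy) hi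
      have hay : a vy = vy := by rw [← hb, ← hqij, map_pow, hqa]
      rw [hvy, ha, hr₂ap] at hay
      -- so `w` normalizes `E`
      refine hwR ⟨hwN.1, mem_normalizer_of_le fun x hx => ?_⟩
      obtain ⟨i', j', rfl⟩ := hE' x hx
      have hzc : w * (z : Ω) * w⁻¹ ∈ E := by
        have hmem : ((cj F hRS W : F.autGroup R) : MulAut R) f.z ∈ Subgroup.center R :=
          (Subgroup.characteristic_iff_map_le.1 inferInstance
            ((cj F hRS W : F.autGroup R) : MulAut R))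
            ⟨_, f.mem_center_iff.2 ⟨1, (pow_one _).symm⟩, rfl⟩
        obtain ⟨l', hl'⟩ := f.mem_center_iff.1 hmem
        have h2 := congrArg Subtype.val hl'
        simp only [cj_apply, SubmonoidClass.coe_pow, hfz] at h2
        rw [h2]
        exact E.pow_mem z.2 l'
      have hyc : w * (y : Ω) * w⁻¹ ∈ E := by
        obtain ⟨l', hl'⟩ := f.mem_center_iff.1 (QuotientGroup.eq.1 hay.symm)
        have h2 := congrArg Subtype.val (inv_mul_eq_iff_eq_mul.1 hl')
        simp only [cj_apply, Subgroup.coe_mul, SubmonoidClass.coe_pow, hfz, hfx₀] at h2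
        rw [h2]
        exact E.mul_mem y.2 (E.pow_mem z.2 l')
      rw [show w * ((z : Ω) ^ i' * (y : Ω) ^ j') * w⁻¹ = (w * z * w⁻¹) ^ i' * (w * y * w⁻¹) ^ j' by
        rw [conj_pow, conj_pow]; group]
      exact E.mul_mem (E.pow_mem hzc i') (E.pow_mem hyc j')
  have hindep' : v ≠ 1 ∧ vy ∉ Subgroup.zpowers v := by
    have hv1 : v ≠ 1 := fun h => hindep.2 (h ▸ one_mem _)
    refine ⟨hv1, fun h => hindep.2 ?_⟩
    obtain ⟨i', hi'⟩ := (mem_powers_iff_mem_zpowers (x := v)).2 h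
    have hi0 : (i' : ZMod p) ≠ 0 := fun h0 => hindep.1 (by
      rw [← hi']; exact (pow_eq_of_cast (hexp₂ v) (b := 0) (by simpa using h0)).trans (pow_zero v))
    obtain ⟨b, hb⟩ := exists_pow_eq (hexp₂ v) hi0
    rw [← hb, show v ^ i' = vy from hi']
    exact pow_mem (Subgroup.mem_zpowers vy) b
  obtain ⟨e₂, he20, he21⟩ := exists_coords hab₂ hexp₂ hcard₂ hindep'.1 hindep'.2
  obtain ⟨s', hs'⟩ := (eq_shear e₂ hWp).1 (by
    rw [lin_apply, he20, hav, ← he20, MulEquiv.symm_apply_apply, toAdd_ofAdd])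
  have hlin : ∀ (x : Fin 2 → ZMod p) (α : ZMod p),
      g₀ (e₂ (Multiplicative.ofAdd x)) = e₂ (Multiplicative.ofAdd x) ^ α.val →
      lin e₂ g₀ x = α • x := fun x α h => by
    rw [lin_apply, h, ← e_smul, MulEquiv.symm_apply_apply, toAdd_ofAdd]
  have h20 : g₀ (e₂ (Multiplicative.ofAdd (Pi.single 0 1))) =
      e₂ (Multiplicative.ofAdd (Pi.single 0 1)) ^ (c * c).val := by rw [he20]; exact hXg
  have h21 : g₀ (e₂ (Multiplicative.ofAdd (Pi.single 1 1))) =
      e₂ (Multiplicative.ofAdd (Pi.single 1 1)) ^ (c⁻¹).val := by rw [he21]; exact hg₀y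
  have hconj := conj_eq_pow e₂ (g := g₀) (s := s') (inv_ne_zero hc0) (hlin _ _ h20) (hlin _ _ h21)
  rw [← hs'] at hconj
  obtain ⟨β₂, hβ₂, hβ₂T, -, hβ₂e⟩ := exists_ext hS hCR r₂ hker₂ hF hRn ⟨t₀, ht₀A⟩ (fun x => by
    obtain ⟨i', hi'⟩ := hWgen x
    refine ⟨W ^ ((c * c * c⁻¹⁻¹).val * i'), ?_⟩
    show g₀ * _ * g₀⁻¹ = _
    rw [hi', ← conj_pow, hconj, ← pow_mul, map_pow, map_pow])
  refine finish e₂ s' ⟨t₀, ht₀A⟩ β₂ (c * c) c⁻¹ hs' h20 h21 (mul_ne_zero hc0 hc0) (inv_ne_zero hc0)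
    ?_ hβ₂ hβ₂T ?_
  · intro h
    exact hc2 (by rw [← mul_inv, inv_eq_one] at h; exact h)
  · have h1 := hβ₂e W (W ^ (c * c * c⁻¹⁻¹).val) (by rw [map_pow, map_pow]; exact hconj)
    rwa [SubmonoidClass.coe_pow] at h1

end Cfsg.Agent.Fus.RankTwo
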