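import Cfsg.Agent.Lib.Fus.RankTwoAbelian
import Cfsg.Agent.Lib.Fus.RankTwoExtra
import Cfsg.Agent.Lib.Fus.EssentialRankTwo
import Cfsg.Agent.Lib.Fus.NormalCrit
import Cfsg.Agent.Lib.Invol.Critical
import Cfsg.Agent.Lib.Fus.CubicOddLift

/-!
For `p ≥ 5` a `p`-group of rank two other than the extraspecial one of exponent `p` is resistant.
-/

set_option autoImplicit false
set_option linter.unusedSectionVars false
set_option linter.style.haveILetI false

universe u v

namespace Cfsg.Agent.Fus.RankTwo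

open Cfsg FusionSystem RankTwoAut TorusExt Invol.CubicStable
open Grp.SL2 (up low up_mul up_pow up_zero)

variable {Ω : Type u} [Group Ω] {S : Subgroup Ω} [Finite S] {p : ℕ} [hp : Fact p.Prime]
  {F : FusionSystem S}

/-- A characteristic subgroup of exponent `p` and class two detecting automorphisms of order prime
to `p`. -/
theorem exists_detecting {E : Type v} [Group E] [Finite E] (hE : IsPGroup p E) (hodd : p ≠ 2) :
    ∃ D : Subgroup E, D.Characteristic ∧ (∀ x ∈ D, x ^ p = 1) ∧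
      (∀ a ∈ D, ∀ b ∈ D, ∀ c ∈ D, Commute (a * b * a⁻¹ * b⁻¹) c) ∧
      ∀ α : MulAut E, (orderOf α).Coprime p → (∀ x ∈ D, α x = x) → α = 1 := by
  obtain ⟨H, hHc, hH1, -, hH3⟩ := Invol.exists_critical hE
  haveI := hHc
  have hcl : ∀ r ∈ H, ∀ s ∈ H, ∀ t ∈ H, Commute (r * s * r⁻¹ * s⁻¹) t := fun r hr s _ t ht => by
    have h := hH1 (Subgroup.commutator_mem_commutator hr (Subgroup.mem_top s))
    rw [commutatorElement_def] at h
    exact (Subgroup.mem_centralizer_iff.1 h.2 t ht).symm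
  let D : Subgroup E :=
    { carrier := {w | w ∈ H ∧ w ^ p = 1}
      one_mem' := ⟨H.one_mem, one_pow _⟩
      mul_mem' := fun {r s} hr hs => ⟨H.mul_mem hr.1 hs.1, by
        set c := s * r * s⁻¹ * r⁻¹ with hc
        have hcr : Commute c r := hcl s hs.1 r hr.1 r hr.1
        have hcs : Commute c s := hcl s hs.1 r hr.1 s hs.1
        have hcp : c ^ p = 1 := by
          have h1 : (c * r) ^ p = 1 := by
            rw [show c * r = s * r * s⁻¹ by rw [hc, inv_mul_cancel_right], conj_pow, hr.2, mul_one,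
              mul_inv_cancel]
          rwa [hcr.mul_pow, hr.2, mul_one] at h1
        obtain ⟨m, hm⟩ := hp.out.dvd_choose_self (k := 2) two_ne_zero
          (by have := hp.out.two_le; omega)
        rw [Grp.mul_pow_class_two (show s * r = c * r * s by rw [hc]; group) hcr hcs p, hr.2, hs.2,
          hm, pow_mul, hcp, one_pow, one_mul, one_mul]⟩
      inv_mem' := fun {r} hr => ⟨H.inv_mem hr.1, by rw [inv_pow, hr.2, inv_one]⟩ }
  refine ⟨D, ?_, fun x hx => hx.2, fun a ha b hb c hc => hcl a ha.1 b hb.1 c hc.1, fun α hα hfix => ?_⟩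
  · refine Subgroup.characteristic_iff_map_le.2 fun α => ?_
    rintro _ ⟨x, hx, rfl⟩
    exact ⟨Subgroup.characteristic_iff_map_le.1 hHc α ⟨x, hx.1, rfl⟩, by
      rw [← map_pow, hx.2, map_one]⟩
  · have h1 : restrictChar H α = 1 := by
      refine Transfer.aut_eq_one_of_fix_omega hodd (hE.to_subgroup H)
        (hα.coprime_dvd_left (orderOf_map_dvd (restrictChar H) α)) fun x hx => Subtype.ext ?_
      exact hfix x ⟨x.2, by simpa using congrArg Subtype.val hx⟩
    refine Invol.aut_eq_one_of_fixed hE hH3 hα fun x hx => ?_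
    exact congrArg (fun g : MulAut H => ((g ⟨x, hx⟩ : H) : E)) h1

omit [Finite S] in
/-- In rank two a subgroup of exponent `p` and class two is elementary of order at most `p²` or has
a frame. -/
theorem frame_of_nonabelian (hodd : p ≠ 2) (hR : RankLe p S) [Finite S] {E : Subgroup Ω} (hES : E ≤ S)
    (D : Subgroup E) (hexp : ∀ x ∈ D, x ^ p = 1)
    (hcl : ∀ a ∈ D, ∀ b ∈ D, ∀ c ∈ D, Commute (a * b * a⁻¹ * b⁻¹) c)
    (hna : ¬ ∀ a ∈ D, ∀ b ∈ D, Commute a b) : Nonempty (Frame p ↥D) := by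
  haveI := finite_of_le hES
  push Not at hna
  obtain ⟨a, ha, b, hb, hab⟩ := hna
  set x₀ : D := ⟨a, ha⟩ with hx₀
  set x₁ : D := ⟨b, hb⟩ with hx₁
  have hp1 : ∀ d : D, d ^ p = 1 := fun d => Subtype.ext (by
    rw [SubmonoidClass.coe_pow]; exact hexp d d.2)
  have hnc : ¬ Commute x₁ x₀ := fun h => hab (congrArg Subtype.val h.eq).symm
  have hc' : ∀ x y w : D, Commute (x * y * x⁻¹ * y⁻¹) w := fun x y w =>
    Subtype.ext (hcl x x.2 y y.2 w w.2).eq
  set z := x₁ * x₀ * x₁⁻¹ * x₀⁻¹ with hzdef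
  have hz : ∀ d, Commute z d := hc' x₁ x₀
  have hz1 : z ≠ 1 := fun h => hnc (mul_inv_eq_iff_eq_mul.1 (mul_inv_eq_one.1 h))
  have hzi : ∀ d, Commute z d := hz
  have hrel : x₁ * x₀ * x₁⁻¹ = x₀ * z ^ 1 := by
    rw [pow_one, ← (hz x₀).eq, hzdef, inv_mul_cancel_right]
  -- everything is generated by the two
  let toΩ : D →* Ω := E.subtype.comp D.subtype
  have hinj : Function.Injective toΩ := fun x y h => Subtype.ext (Subtype.ext h)
  have hmem : ∀ d, toΩ d ∈ S := fun d => hES ((d : E).2)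
  have hp' : ∀ d, toΩ d ^ p = 1 := fun d => by rw [← map_pow, hp1, map_one]
  have hz1' : toΩ z ≠ 1 := fun h => hz1 (hinj (h.trans (map_one _).symm))
  have hx₀z : toΩ x₀ ∉ Subgroup.zpowers (toΩ z) := by
    rintro ⟨k, hk⟩
    have hk' : z ^ k = x₀ := hinj ((map_zpow toΩ z k).trans hk)
    exact hnc (hk' ▸ ((hz x₁).zpow_left k).symm)
  have hspan : ∀ d : D, Commute d x₀ → ∃ i j : ℕ, d = z ^ i * x₀ ^ j := fun d hd => by
    obtain ⟨i, j, h⟩ := hR.exists_pow_mul_of_commute (hmem z) (hmem x₀) (hmem d) (hp' z) (hp' x₀)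
      (hp' d) hz1' hx₀z ((hz x₀).map toΩ) ((hz d).symm.map toΩ) (hd.map toΩ)
    exact ⟨i, j, hinj (h.trans ((congrArg₂ (· * ·) (map_pow toΩ z i).symm (map_pow toΩ x₀ j).symm).trans
      (map_mul toΩ (z ^ i) (x₀ ^ j)).symm))⟩
  have hpc : ∀ j : ℕ, x₁ ^ j * x₀ * (x₁ ^ j)⁻¹ = x₀ * z ^ j := by
    intro j
    induction j with
    | zero => simp
    | succ j ih =>
      calc x₁ ^ (j + 1) * x₀ * (x₁ ^ (j + 1))⁻¹ = x₁ * (x₁ ^ j * x₀ * (x₁ ^ j)⁻¹) * x₁⁻¹ := by
            rw [pow_succ']; group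
        _ = (x₁ * x₀ * x₁⁻¹) * (x₁ * z ^ j * x₁⁻¹) := by rw [ih]; group
        _ = x₀ * z ^ (j + 1) := by
          rw [hrel, ← ((hz x₁).pow_left j).eq, mul_inv_cancel_right, mul_assoc, ← pow_add, add_comm]
  set M := Subgroup.closure ({x₀, x₁} : Set D)
  have h0M : x₀ ∈ M := Subgroup.subset_closure (Or.inl rfl)
  have h1M : x₁ ∈ M := Subgroup.subset_closure (Or.inr rfl)
  have hzM : z ∈ M := M.mul_mem (M.mul_mem (M.mul_mem h1M h0M) (M.inv_mem h1M)) (M.inv_mem h0M)
  refine ⟨⟨x₀, x₁, z, 1, hz, hp1 z, hp1 x₀, hp1 x₁, by simp, hrel, eq_top_iff.2 fun d _ => ?_, hz1⟩⟩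
  -- `d x₀ d⁻¹ x₀⁻¹` is a power of `z`
  set c := d * x₀ * d⁻¹ * x₀⁻¹ with hcd
  obtain ⟨i, j, hij⟩ := hspan c (hc' d x₀ x₀)
  have hj : x₀ ^ j = 1 := by
    rcases eq_or_ne (j : ZMod p) 0 with hj | hj
    · exact (pow_eq_of_cast (hp1 x₀) (b := 0) (by simpa using hj)).trans (pow_zero _)
    · refine (hnc (commute_of_pow (hp1 x₀) hj ?_).symm).elim
      have h : Commute c x₁ := hc' d x₀ x₁
      rw [hij] at h
      have h2 := ((hz x₁).pow_left i).inv_left.mul_left h
      rwa [inv_mul_cancel_left] at h2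
  rw [hj, mul_one] at hij
  have hdx : d * x₀ * d⁻¹ = x₀ * z ^ i := by
    rw [← ((hz x₀).pow_left i).eq, ← hij, hcd, inv_mul_cancel_right]
  obtain ⟨k, l, hkl⟩ := hspan ((x₁ ^ i)⁻¹ * d) (by
    refine mul_inv_eq_iff_eq_mul.1 ?_
    rw [show (x₁ ^ i)⁻¹ * d * x₀ * ((x₁ ^ i)⁻¹ * d)⁻¹ = (x₁ ^ i)⁻¹ * (d * x₀ * d⁻¹) * x₁ ^ i by group,
      hdx, ← hpc i]
    group)
  rw [inv_mul_eq_iff_eq_mul.1 hkl]
  exact M.mul_mem (M.pow_mem h1M i) (M.mul_mem (M.pow_mem hzM k) (M.pow_mem h0M l))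

set_option maxHeartbeats 800000 in
/-- An essential subgroup forces `S` to be the extraspecial group. -/
theorem essential_false (hS : IsPGroup p S) (hF : F.IsSaturated p) (h5 : 5 ≤ p) (hR : RankLe p S)
    (hnot : ¬ (Nat.card S = p ^ 3 ∧ Monoid.exponent ↥S = p)) {E : Subgroup Ω}
    (hE : F.IsEssential p E) : False := by
  classical
  have hpp : p.Prime := hp.out
  have hodd : p ≠ 2 := by omega
  have hES : E ≤ S := hE.2.1.1
  haveI := finite_of_le hES
  haveI : Finite (MulAut E) := Finite.of_injective (fun e : MulAut E => (e : E → E)) DFunLike.coe_injective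
  have hEp : IsPGroup p E := hS.to_le hES
  have hCE : centralizerIn S E ≤ E := hE.1.2 E (isConj_refl F hES)
  obtain ⟨D, hDc, hexp, hcl, hfix⟩ := exists_detecting hEp hodd
  haveI := hDc
  by_cases hab : ∀ a ∈ D, ∀ b ∈ D, Commute a b
  swap
  · obtain ⟨f⟩ := frame_of_nonabelian hodd hR hES D hexp hcl hab
    exact extraspecial_case hS hF h5 hR hE D f hfix
  have hDel : IsElementaryAbelian p (D.map E.subtype) :=
    ⟨⟨⟨by
      rintro ⟨_, a, ha, rfl⟩ ⟨_, b, hb, rfl⟩
      exact Subtype.ext ((hab a ha b hb).map E.subtype).eq⟩⟩, by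
      rintro _ ⟨a, ha, rfl⟩
      rw [← map_pow, hexp a ha, map_one]⟩
  have hcard : Nat.card D ≤ p ^ 2 := by
    rw [← Subgroup.card_map_of_injective E.subtype_injective]
    exact hR _ ((Subgroup.map_subtype_le D).trans hES) hDel
  set r := (restrictChar D).comp (F.autGroup E).subtype with hr
  have hker : ∀ g, r g = 1 → (g : MulAut E) ∈ Inn E := ker_le_inn hS hE r fun g hg hgp =>
    Subtype.ext (hfix _ (by rwa [Subgroup.orderOf_coe]) fun x hx =>
      congrArg (fun α : MulAut D => ((α ⟨x, hx⟩ : D) : E)) hg)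
  have hkerp : IsPGroup p r.ker :=
    IsPGroup.of_injective (isPGroup_inn hEp)
      (((F.autGroup E).subtype.comp r.ker.subtype).codRestrict (Inn E) fun g => hker g g.2)
      fun a b h => Subtype.ext (Subtype.ext (congrArg (fun z : Inn E => (z : MulAut E)) h))
  have hDp : IsPGroup p D := hEp.to_subgroup D
  obtain ⟨i, hi⟩ := IsPGroup.iff_card.1 hDp
  rcases (show i ≤ 1 ∨ i = 2 from by
    rw [hi] at hcard
    have := (Nat.pow_le_pow_iff_right hpp.one_lt).1 hcard
    omega) with hi1 | rfl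
  · refine not_essential_of_normal_pgroup hS hE r.ker inferInstance hkerp fun g k hg => ?_
    refine MonoidHom.mem_ker.2 (MulEquiv.ext fun x => ?_)
    have h := factor_fix (U := (⊥ : Subgroup D)) (X := ⊤) bot_le (p := p) ?_ (r g) (k := k)
      (by rw [← map_pow, hg, map_one]) (fun y hy => by rw [Subgroup.mem_bot.1 hy, map_one]; exact one_mem _)
      (fun y _ => Subgroup.mem_top _) (Subgroup.mem_top x)
    · exact (inv_mul_eq_one.1 (Subgroup.mem_bot.1 h)).symm
    · rw [Subgroup.card_top, Subgroup.card_bot, mul_one, hi]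
      exact (Nat.pow_le_pow_right hpp.pos hi1).trans (pow_one p).le
  have hab' : ∀ x y : D, x * y = y * x := fun x y => Subtype.ext (hab x x.2 y y.2).eq
  have hexp' : ∀ x : D, x ^ p = 1 := fun x => Subtype.ext (by
    rw [SubmonoidClass.coe_pow]; exact hexp x x.2)
  obtain ⟨u, -, hu1, hg, hinn⟩ := exists_nonnormal hS hCE r hker hi hF hE
  obtain ⟨e, s, -, -, htor⟩ := exists_torus hS hCE r hker hi hab' hexp' hF hE.2.1 hu1 hg
  obtain ⟨t, β, htp, ht, -, -, -, -⟩ := htor (-1) (-1) (by simp)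
  have hcen : ∀ d : D, ∀ x : E, Commute x (d : E) := fun d x => by
    have h := congrArg (fun α : MulAut D => ((α d : D) : E))
      (hinn ⟨x, le_normalizerIn hES x.2⟩ x.2)
    refine mul_inv_eq_iff_eq_mul.1 ?_
    refine Subtype.ext ?_
    exact congrArg Subtype.val h
  set f₀ : D := e (Multiplicative.ofAdd (Pi.single 0 1)) with hf₀
  set f₁ : D := e (Multiplicative.ofAdd (Pi.single 1 1)) with hf₁
  let toΩ : D →* Ω := E.subtype.comp D.subtype
  have hinj : Function.Injective toΩ := fun x y h => Subtype.ext (Subtype.ext h)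
  have hOmega : ∀ x : E, x ^ p = 1 → x ∈ D := by
    intro x hx
    obtain ⟨a, b, h⟩ := hR.exists_pow_mul_of_commute (hES ((f₀ : E)).2) (hES ((f₁ : E)).2) (hES x.2)
      (x := toΩ f₀) (y := toΩ f₁) (w := (x : Ω))
      (by rw [← map_pow, hexp', map_one]) (by rw [← map_pow, hexp', map_one])
      (by simpa using congrArg Subtype.val hx)
      (fun h => coord_f₀_ne_one e (hinj (h.trans (map_one _).symm)))
      (fun ⟨k, hk⟩ => coord_f₁_notMem e ⟨k, hinj ((map_zpow toΩ f₀ k).trans hk)⟩)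
      ((show Commute f₀ f₁ from hab' _ _).map toΩ)
      ((hcen f₀ x).map E.subtype) ((hcen f₁ x).map E.subtype)
    rw [show x = ((f₀ ^ a * f₁ ^ b : D) : E) from Subtype.ext (by simpa [toΩ] using h)]
    exact SetLike.coe_mem _
  have hneg : ∀ x : D, r t x = x⁻¹ := fun x => by
    obtain ⟨a, b, rfl⟩ := exists_coord e x
    have h1 : ((p - 1 : ℕ) : ZMod p) = -1 := by
      rw [Nat.cast_sub hpp.one_le, ZMod.natCast_self, Nat.cast_one, zero_sub]
    rw [map_mul, map_pow, map_pow, ht, (act_dg e _ _ _).1, (act_dg e _ _ _).2]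
    refine eq_inv_of_mul_eq_one_left ?_
    have hP : ∀ y : D, y ^ (-1 : ZMod p).val = y⁻¹ := fun y => by
      rw [pow_eq_of_cast (hexp' y) (b := p - 1) (by rw [ZMod.natCast_zmod_val, h1])]
      exact eq_inv_of_mul_eq_one_left (by
        rw [← pow_succ, Nat.sub_add_cancel hpp.one_le, hexp'])
    rw [hP, hP, inv_pow, inv_pow, (show Commute _ _ from hab' ((f₀ ^ a)⁻¹) ((f₁ ^ b)⁻¹)).eq,
      ← mul_inv_rev, inv_mul_cancel]
  set α := (t : MulAut E) with hα
  have hαp : (orderOf α).Coprime p := by rwa [hα, Subgroup.orderOf_coe]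
  have hα2 : α * α = 1 := by
    refine hfix _ ?_ fun x hx => ?_
    · rw [← sq]; exact hαp.coprime_dvd_left (orderOf_pow_dvd 2)
    · have h1 : α x = ((r t ⟨x, hx⟩ : D) : E) := rfl
      rw [hneg, InvMemClass.coe_inv] at h1
      rw [MulAut.mul_apply, h1, map_inv, h1, inv_inv]
  have hfree : MonoidHom.FixedPointFree α := by
    intro x hx
    by_contra hne
    obtain ⟨k, hk⟩ := hEp x
    obtain ⟨m, -, hm⟩ := (Nat.dvd_prime_pow hpp).1 (orderOf_dvd_of_pow_eq_one hk)
    obtain ⟨m, rfl⟩ : ∃ m', m = m' + 1 := ⟨m - 1, by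
      rcases m with _ | m
      · exact absurd (orderOf_eq_one_iff.1 (by rw [hm, pow_zero])) hne
      · simp⟩
    set y := x ^ p ^ m with hy
    have hyp : y ^ p = 1 := by rw [hy, ← pow_mul, ← pow_succ, ← hm, pow_orderOf_eq_one]
    have hy1 : y ≠ 1 := fun h => by
      have h2 := Nat.le_of_dvd (pow_pos hpp.pos m) (hm ▸ orderOf_dvd_of_pow_eq_one h)
      exact absurd h2 (not_le.2 (Nat.pow_lt_pow_right hpp.one_lt (Nat.lt_succ_self m)))
    have hyD := hOmega y hyp
    have h1 : α y = y := by rw [hy, map_pow, show α x = x from hx]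
    have h2 : α y = y⁻¹ := by
      have h3 : α y = ((r t ⟨y, hyD⟩ : D) : E) := rfl
      rw [hneg] at h3
      exact h3
    exact hy1 (Fus.CubicOdd.eq_one_of_sq hodd hyp (by
      conv_lhs => arg 1; rw [← h1, h2]
      rw [inv_mul_cancel]))
  have hinv : Function.Involutive α := fun x => by
    rw [← MulAut.mul_apply, hα2]; rfl
  have hEab : ∀ x y : E, Commute x y := hfree.commute_all_of_involutive hinv
  have habE : IsMulCommutative E := ⟨⟨fun a b => (hEab a b).eq⟩⟩
  have hidx : (frattini ↥E).index ≤ p ^ 2 := by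
    letI : CommGroup E := { (inferInstance : Group E) with mul_comm := fun a b => (hEab a b).eq }
    set R := (powMonoidHom p : E →* E).range
    have hRle : R ≤ frattini E := by
      rintro _ ⟨y, rfl⟩
      exact Grp.pGroup_pow_mem_frattini hEp y
    have h1 := (powMonoidHom p : E →* E).ker.index_mul_card
    rw [Subgroup.index_ker] at h1
    have h2 : R.index = Nat.card (powMonoidHom p : E →* E).ker :=
      Nat.eq_of_mul_eq_mul_left Nat.card_pos (((mul_comm _ _).trans R.index_mul_card).trans h1.symm)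
    refine (Nat.le_of_dvd (Nat.pos_of_ne_zero Subgroup.FiniteIndex.index_ne_zero)
      (Subgroup.index_dvd_of_le hRle)).trans ?_
    rw [h2]
    refine le_trans ?_ hcard
    exact Subgroup.card_le_of_le fun y hy => hOmega y hy
  rcases essential_rank_two hS hE habE hidx with ⟨hel, hc⟩ | ⟨hp3, -⟩
  · exact hnot (pearl_case hS hF h5 hR hE hel hc)
  · omega

/-- For `p ≥ 5` a group of rank two other than `p¹⁺²` is resistant. -/
theorem isNormal (hS : IsPGroup p S) (hF : F.IsSaturated p) (h5 : 5 ≤ p) (hR : RankLe p S)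
    (hnot : ¬ (Nat.card S = p ^ 3 ∧ Monoid.exponent ↥S = p)) : F.IsNormal S :=
  isNormal_of_essential hS hF le_rfl (fun α _ x hx => autFun_mem α hx) fun _ hP =>
    (essential_false hS hF h5 hR hnot hP).elim

end Cfsg.Agent.Fus.RankTwo
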