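import Mathlib
import Cfsg.Prelude.Def_ClassicalGeometry
import Cfsg.Agent.Lib.Classical.Symp

/-!
Invariant subspaces of a regular unipotent symplectic transformation.
-/

set_option autoImplicit false

namespace Cfsg.Agent.Fus.RegularUnipotent

open Module Matrix

theorem finrank_ker_pow_le {F V : Type*} [Field F] [AddCommGroup V] [Module F V]
    [FiniteDimensional F V] (N : Module.End F V) (h : finrank F (LinearMap.ker N) ≤ 1) (j : ℕ) :
    finrank F (LinearMap.ker (N ^ j)) ≤ j := by
  induction j with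
  | zero => simp [LinearMap.ker_id, Module.End.one_eq_id]
  | succ j ih =>
    have h1 := LinearMap.finrank_range_add_finrank_ker
      (N.domRestrict (LinearMap.ker (N ^ (j + 1))))
    have h2 : finrank F (LinearMap.range (N.domRestrict (LinearMap.ker (N ^ (j + 1))))) ≤ j := by
      refine (Submodule.finrank_mono ?_).trans ih
      rintro _ ⟨⟨x, hx⟩, rfl⟩
      rw [LinearMap.mem_ker, pow_succ] at hx
      exact hx
    have h3 : finrank F (LinearMap.ker (N.domRestrict (LinearMap.ker (N ^ (j + 1))))) ≤ 1 := by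
      refine le_trans ?_ h
      rw [← Submodule.finrank_map_subtype_eq]
      refine Submodule.finrank_mono ?_
      rintro _ ⟨x, hx, rfl⟩
      exact hx
    omega

theorem le_ker_pow_finrank {F V : Type*} [Field F] [AddCommGroup V] [Module F V]
    [FiniteDimensional F V] (N : Module.End F V) (hN : IsNilpotent N) (W : Submodule F V)
    (hW : ∀ v ∈ W, N v ∈ W) : W ≤ LinearMap.ker (N ^ finrank F W) := by
  intro v hv
  have h2 : LinearMap.restrict N hW ^ finrank F W = 0 := by
    obtain ⟨k, hk⟩ := hN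
    have hnil : IsNilpotent (LinearMap.restrict N hW) := ⟨k, LinearMap.ext fun x => Subtype.ext (by
      rw [Module.End.pow_restrict k hW, LinearMap.coe_restrict_apply, hk]
      rfl)⟩
    have := LinearMap.aeval_self_charpoly (LinearMap.restrict N hW)
    rw [hnil.charpoly_eq_X_pow_finrank, map_pow, Polynomial.aeval_X] at this
    exact this
  have h3 := LinearMap.congr_fun h2 ⟨v, hv⟩
  rw [Module.End.pow_restrict _ hW] at h3
  exact congrArg Subtype.val h3

variable {F : Type*} [Field F] {m : ℕ}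

local notation "V" => (Fin m ⊕ Fin m → F)

theorem main (u : Matrix.symplecticGroup (Fin m) F)
    (hnil : ((u : Matrix (Fin m ⊕ Fin m) (Fin m ⊕ Fin m) F) - 1) ^ (2 * m) = 0)
    (hreg : ((u : Matrix (Fin m ⊕ Fin m) (Fin m ⊕ Fin m) F) - 1).rank = 2 * m - 1)
    (W : Submodule F V)
    (hW : ∀ v ∈ W, (u : Matrix (Fin m ⊕ Fin m) (Fin m ⊕ Fin m) F).mulVec v ∈ W)
    (hdim : 2 * finrank F W ≤ 2 * m) : ∀ v ∈ W, ∀ w ∈ W, Cfsg.sympForm m F v w = 0 := by
  obtain ⟨M, hM⟩ : ∃ M, M = (u : Matrix (Fin m ⊕ Fin m) (Fin m ⊕ Fin m) F) := ⟨_, rfl⟩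
  rw [← hM] at hnil hreg hW
  obtain ⟨N, hN⟩ : ∃ N : Module.End F V, N = Matrix.toLinAlgEquiv' (M - 1) := ⟨_, rfl⟩
  have hNapp : ∀ v, N v = M *ᵥ v - v := fun v => by
    rw [hN, Matrix.toLinAlgEquiv'_apply, Matrix.sub_mulVec, Matrix.one_mulVec]
  have hNnil : IsNilpotent N := ⟨2 * m, by rw [hN, ← map_pow, hnil, map_zero]⟩
  have hV : finrank F V = 2 * m := by
    rw [Module.finrank_fintype_fun_eq_card, Fintype.card_sum, Fintype.card_fin]; omega
  have hker : finrank F (LinearMap.ker N) ≤ 1 := by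
    have h1 := LinearMap.finrank_range_add_finrank_ker N
    have h2 : finrank F (LinearMap.range N) = 2 * m - 1 := by
      rw [← hreg, Matrix.rank, hN]
      rfl
    omega
  have hbound := finrank_ker_pow_le N hker
  have hNmem : ∀ (U : Submodule F V), (∀ v ∈ U, M *ᵥ v ∈ U) → ∀ v ∈ U, N v ∈ U :=
    fun U hU v hv => by rw [hNapp]; exact U.sub_mem (hU v hv) hv
  obtain ⟨B, hB⟩ : ∃ B, B = Classical.sympB m F := ⟨_, rfl⟩
  have hBapp : ∀ x y, B x y = Cfsg.sympForm m F x y := fun x y => by
    rw [hB, Classical.sympB_apply]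
  have hrefl : B.IsRefl := fun x y e => by
    rw [hBapp] at e ⊢
    rw [Classical.sympForm_swap, e, neg_zero]
  have horth := LinearMap.BilinForm.finrank_orthogonal (B := B)
    (hB ▸ Classical.sympB_nondegenerate) W
  have hinv : ∀ v ∈ B.orthogonal W, M *ᵥ v ∈ B.orthogonal W := by
    intro v hv w hw
    obtain ⟨w', hw', rfl⟩ : ∃ w' ∈ W, M *ᵥ w' = w := by
      let f : W →ₗ[F] W := LinearMap.restrict M.mulVecLin hW
      have hf : Function.Injective f := by
        intro a b e
        have e' : M *ᵥ (a : V) = M *ᵥ (b : V) := congrArg Subtype.val e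
        refine Subtype.ext (sub_eq_zero.1 (Classical.eq_zero_of_sympForm_eq_zero fun z => ?_))
        rw [← Classical.sympForm_map u, ← hM, Matrix.mulVec_sub, e', sub_self,
          Classical.sympForm_zero_left]
      obtain ⟨a, ha⟩ := LinearMap.surjective_of_injective hf ⟨w, hw⟩
      exact ⟨a, a.2, congrArg Subtype.val ha⟩
    show B (M *ᵥ w') (M *ᵥ v) = 0
    rw [hBapp, hM, Classical.sympForm_map, ← hBapp]
    exact hv w' hw'
  have hOker : B.orthogonal W = LinearMap.ker (N ^ finrank F (B.orthogonal W)) :=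
    Submodule.eq_of_le_of_finrank_le (le_ker_pow_finrank N hNnil _ (hNmem _ hinv)) (hbound _)
  have hle : W ≤ B.orthogonal W := by
    rw [hOker]
    intro v hv
    have h1 := le_ker_pow_finrank N hNnil W (hNmem W hW) hv
    rw [LinearMap.mem_ker] at h1 ⊢
    rw [← Nat.add_sub_of_le (show finrank F W ≤ finrank F (B.orthogonal W) by omega),
      add_comm, pow_add, Module.End.mul_apply, h1, map_zero]
  intro v hv w hw
  rw [← hBapp]
  exact hle hw v hv

end Cfsg.Agent.Fus.RegularUnipotent
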