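import Mathlib
import Cfsg.Agent.Lib.Fus.RootSpecial

/-!
Non-degenerate classes of abstract root subgroups: the triangle of a rank one pair and a line,
generation, and connectivity of the line graph.
-/

set_option autoImplicit false
set_option linter.style.haveILetI false

open scoped commutatorElement

namespace Cfsg.Agent.Fus.RootTriangle

open Subgroup RootSpecial

variable {G : Type*} [Group G] {S : Set (Subgroup G)} {A B C : Subgroup G}

theorem not_isolated (hcl : IsRootSubgroupClass S) (hnd : IsNondegenerateRootSet S) {X : Subgroup G}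
    (hX : X ∈ S) : ¬ IsIsolatedIn (FAdj S) S X := by
  obtain ⟨A₀, hA₀, B₀, hB₀, h⟩ := hnd.2.1
  obtain ⟨g, rfl⟩ := hcl.2.2 A₀ hA₀ X hX
  exact not_isolated_conjBy hcl.1 (not_isolated_of_pair hA₀ hB₀ h) hA₀ g

theorem commute_of_le_centralizer {X Y : Subgroup G} (h : X ≤ Subgroup.centralizer (Y : Set G))
    {x y : G} (hx : x ∈ X) (hy : y ∈ Y) : x * y = y * x :=
  (Subgroup.mem_centralizer_iff.1 (h hx) y hy).symm

theorem conjBy_fix {X : Subgroup G} {g : G} (h : ∀ x ∈ X, x * g = g * x) : conjBy X g = X :=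
  mem_normalizer_iff_conjBy.1
    (centralizer_le_normalizer _ (Subgroup.mem_centralizer_iff.2 fun x hx => h x hx))

theorem mem_linePartners_symm (hC : C ∈ linePartners S A) (hA : A ∈ S) :
    A ∈ linePartners S C :=
  ⟨⟨hA, hC.1.2.1.symm, by rw [Subgroup.commutator_comm]; exact hC.1.2.2⟩,
    by rw [sup_comm]; exact hC.2⟩

/-- If `(A, B)` is a rank one pair and `C` lies on a line through `A` and is in the commutator case
with `B`, then `⁅A, ⁅B, C⁆⁆ = C`. -/
theorem triangle (hS : IsRootSubgroupSet S) (hns : ∀ X ∈ S, ¬ IsIsolatedIn (FAdj S) S X)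
    (hA : A ∈ S) (hB : B ∈ S) (hC : C ∈ S) (hAB : IsRankOnePair A B) (hAC : ⁅A, C⁆ = ⊥)
    (hne : C ≠ A) (hcov : ∀ x ∈ A ⊔ C, x ≠ 1 → ∃ F ∈ S, x ∈ F)
    (hBC : RootCommutatorCase S B C) : ⁅A, ⁅B, C⁆⁆ = C := by
  have hcase := case_of_linePartner hS hA hB hC hAB hAC hBC
  set K := ⁅B, C⁆ with hK
  set C' := ⁅A, K⁆ with hC'
  have hKS : K ∈ S := hBC.1
  have hC'S : C' ∈ S := hcase.1
  have hKC' : K ≠ C' := by
    have h := RootCommutatorCase.ne_left hS (RootCommutatorCase.symm' hcase)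
    rwa [Subgroup.commutator_comm] at h
  have hmove : ∀ b ∈ B, b ≠ 1 → ∃ a ∈ A, conjBy C' b = conjBy K a := fun b hb hb1 =>
    move_of_linePartner hAB hAC hBC hb hb1
  have hconjK : ∀ a ∈ A, conjBy K a ≤ K ⊔ C' := fun a ha => by
    rintro _ ⟨k, hk, rfl⟩
    show a * k * a⁻¹ ∈ _
    rw [show a * k * a⁻¹ = ⁅a, k⁆ * k by rw [commutatorElement_def]; group]
    exact mul_mem (Subgroup.mem_sup_right (Subgroup.commutator_mem_commutator ha hk))
      (Subgroup.mem_sup_left hk)
  have hAK' : ∀ a ∈ A, ∀ c ∈ C', a * c = c * a := fun a ha c hc =>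
    RootCommutatorCase.commute_left hcase ha hc
  have hKK' : ∀ k ∈ K, ∀ c ∈ C', k * c = c * k := fun k hk c hc =>
    RootCommutatorCase.commute_right hcase hk hc
  have hBK : ∀ b ∈ B, ∀ k ∈ K, b * k = k * b := fun b hb k hk =>
    RootCommutatorCase.commute_left hBC hb hk
  have hCK : ∀ c ∈ C, ∀ k ∈ K, c * k = k * c := fun c hc k hk =>
    RootCommutatorCase.commute_right hBC hc hk
  have hCC' : C' ≤ Subgroup.centralizer (C : Set G) := Subgroup.commutator_le.2 fun a ha k hk => by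
    have h1 : a ∈ Subgroup.centralizer (C : Set G) :=
      Subgroup.mem_centralizer_iff.2 fun c hc => (commute_of_commutator_eq_bot hAC ha hc).symm
    have h2 : k ∈ Subgroup.centralizer (C : Set G) :=
      Subgroup.mem_centralizer_iff.2 fun c hc => hCK c hc k hk
    exact mul_mem (mul_mem (mul_mem h1 h2) (inv_mem h1)) (inv_mem h2)
  -- `B` and `C'` are in the commutator case
  have hBC' : RootCommutatorCase S B C' := by
    rcases hS.pair B hB C' hC'S with h | h | h
    · exfalso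
      obtain ⟨b, hb, hb1⟩ := exists_mem_ne_one (hS.ne_bot B hB)
      obtain ⟨a, ha, e⟩ := hmove b hb hb1
      refine hKC' (conjBy_injective a ?_)
      show conjBy K a = conjBy C' a
      rw [← e, conjBy_fix fun x hx => (commute_of_commutator_eq_bot h hb hx).symm,
        conjBy_fix fun x hx => (hAK' a ha x hx).symm]
    · exfalso
      obtain ⟨b, hb, hb1⟩ := exists_mem_ne_one (hS.ne_bot B hB)
      obtain ⟨c, hc, -, ec⟩ := RankOne.exists_partner h hb hb1
      obtain ⟨a, ha, e⟩ := hmove b hb hb1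
      have hcom : ⁅C', conjBy B c⁆ = ⊥ := by
        rw [← ec, e]
        refine Subgroup.commutator_eq_bot_iff_le_centralizer.2 fun x hx =>
          Subgroup.mem_centralizer_iff.2 fun y hy => ?_
        have hle : K ⊔ C' ≤ Subgroup.centralizer (C' : Set G) := sup_le
          (fun z hz => Subgroup.mem_centralizer_iff.2 fun w hw => (hKK' z hz w hw).symm)
          fun z hz => Subgroup.mem_centralizer_iff.2 fun w hw =>
            IsRootSubgroupSet.commute hS hC'S hw hz
        exact (Subgroup.mem_centralizer_iff.1 (hle (hconjK a ha hy)) x hx).symm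
      exact RankOne.conj_ne (RankOnePair_symm h) hc (RankOne.eq_of_commute (RankOnePair_symm h)
        ((RankOne.mem_iff (RankOnePair_symm h)).2 (Or.inr ⟨c, hc, rfl⟩)) hcom)
    · exact h
  -- its commutator is `K`
  have hK2 : ⁅B, C'⁆ = K := by
    have hi : LineInj C' B := lineInj_of_not_isolated hS (hns C' hC'S) hC'S
      (RootCommutatorCase.symm' hBC')
    have hle : ⁅B, C'⁆ ≤ K := by
      refine Subgroup.commutator_le.2 fun b hb c hc => ?_
      have hmem : ⁅b, c⁆ ∈ K ⊔ C' := by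
        rw [commutatorElement_def]
        refine mul_mem ?_ (Subgroup.mem_sup_right (inv_mem hc))
        by_cases hb1 : b = 1
        · rw [hb1]; simpa using Subgroup.mem_sup_right hc
        obtain ⟨a, ha, e⟩ := hmove b hb hb1
        exact hconjK a ha (e ▸ conj_mem_conjBy b hc)
      have hn : K ≤ Subgroup.normalizer (C' : Set G) := fun x hx => centralizer_le_normalizer _
        (Subgroup.mem_centralizer_iff.2 fun y hy => (hKK' x hx y hy).symm)
      rw [← SetLike.mem_coe, Subgroup.coe_mul_of_left_le_normalizer_right _ _ hn] at hmem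
      obtain ⟨k, hk, c1, hc1, he⟩ := hmem
      replace he : k * c1 = ⁅b, c⁆ := he
      have hcom : ∀ b' ∈ B, c1 * b' = b' * c1 := by
        intro b' hb'
        have h1 : b' * ⁅b, c⁆ = ⁅b, c⁆ * b' :=
          RootCommutatorCase.commute_left hBC' hb' (Subgroup.commutator_mem_commutator hb hc)
        rw [← he, ← mul_assoc, hBK b' hb' k hk, mul_assoc, mul_assoc] at h1
        exact (mul_left_cancel h1).symm
      obtain ⟨b', hb', hb'1⟩ := exists_mem_ne_one (hS.ne_bot B hB)
      have hc11 : c1 = 1 := (hi c1 hc1 b' hb' (hcom b' hb')).resolve_right hb'1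
      rw [← he, hc11, mul_one]; exact hk
    obtain ⟨x, hx, hx1⟩ := exists_mem_ne_one (hS.ne_bot _ hBC'.1)
    exact (eq_of_mem_inter hS (hns K hKS) hKS hBC'.1 (hle hx) hx hx1).symm
  obtain ⟨b0, hb0, hb01⟩ := exists_mem_ne_one (hS.ne_bot B hB)
  have hBn := hns B hB
  suffices hle : C ≤ C' by
    obtain ⟨x, hx, hx1⟩ := exists_mem_ne_one (hS.ne_bot C hC)
    exact (eq_of_mem_inter hS (hns C hC) hC hC'S hx (hle hx) hx1).symm
  intro c hc
  obtain ⟨c', hc', ec⟩ := RootCommutatorCase.exists_left hBC' hb0 hb01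
    (c := ⁅b0, c⁆) (hK2.symm ▸ Subgroup.commutator_mem_commutator hb0 hc)
  set z := c'⁻¹ * c with hz
  have hcc' : c * c' = c' * c := (commute_of_le_centralizer hCC' hc' hc).symm
  have hzA : ∀ a ∈ A, z * a = a * z := fun a ha => by
    rw [hz, mul_assoc, ← commute_of_commutator_eq_bot hAC ha hc, ← mul_assoc,
      ← hAK' a ha _ (inv_mem hc'), mul_assoc]
  have hzK : ∀ k ∈ K, z * k = k * z := fun k hk => by
    rw [hz, mul_assoc, hCK c hc k hk, ← mul_assoc, ← hKK' k hk _ (inv_mem hc'), mul_assoc]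
  have hconjz : ∀ b ∈ B, ∃ k ∈ K, b * z * b⁻¹ = k * z := by
    intro b hb
    refine ⟨⁅b, c'⁻¹⁆ * ⁅b, c⁆, K.mul_mem
      (hK2.le (Subgroup.commutator_mem_commutator hb (inv_mem hc')))
      (Subgroup.commutator_mem_commutator hb hc), ?_⟩
    have hk : ⁅b, c⁆ * c'⁻¹ = c'⁻¹ * ⁅b, c⁆ :=
      hKK' _ (Subgroup.commutator_mem_commutator hb hc) _ (inv_mem hc')
    calc b * z * b⁻¹ = ⁅b, c'⁻¹⁆ * (c'⁻¹ * ⁅b, c⁆) * c := by
          rw [hz]; simp only [commutatorElement_def]; group
      _ = ⁅b, c'⁻¹⁆ * ⁅b, c⁆ * (c'⁻¹ * c) := by rw [← hk]; group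
  have hz0 : b0 * z = z * b0 := by
    have h1 : b0 * c * b0⁻¹ = ⁅b0, c⁆ * c := by rw [commutatorElement_def]; group
    have h2 : b0 * c' * b0⁻¹ = ⁅b0, c⁆ * c' := by rw [← ec, commutatorElement_def]; group
    have h3 : b0 * z * b0⁻¹ = z := by
      calc b0 * z * b0⁻¹ = (b0 * c' * b0⁻¹)⁻¹ * (b0 * c * b0⁻¹) := by rw [hz]; group
        _ = z := by rw [h1, h2, hz]; group
    exact mul_inv_eq_iff_eq_mul.1 h3
  have hBz : conjBy B z = B := eq_of_mem_inter hS (not_isolated_conjBy hS hBn hB z)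
    (hS.conj_mem B hB z) hB (mem_conjBy.2 (by rw [mul_assoc, hz0, inv_mul_cancel_left]; exact hb0) :
      b0 ∈ conjBy B z) hb0 hb01
  have hzB : ∀ b ∈ B, z * b = b * z := by
    intro b hb
    obtain ⟨k, hk, e⟩ := hconjz b hb
    have h1 : k ∈ B := by
      rw [show k = b * (z * b⁻¹ * z⁻¹) by
        rw [eq_mul_inv_of_mul_eq e.symm]; group]
      exact B.mul_mem hb (hBz.le (conj_mem_conjBy z (B.inv_mem hb)))
    have hk1 : k = 1 := by
      by_contra hk1
      exact RootCommutatorCase.ne_left hS hBC (eq_of_mem_inter hS hBn hB hKS h1 hk hk1)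
    rw [hk1, one_mul] at e
    exact (mul_inv_eq_iff_eq_mul.1 e).symm
  obtain ⟨a, ha, ha1⟩ := exists_mem_ne_one (hS.ne_bot A hA)
  obtain ⟨k, hk, ek⟩ := RootCommutatorCase.exists_left hcase ha ha1 (inv_mem hc')
  have he' : k * a * k⁻¹ = a * c' := by
    rw [← inv_inv c', ← ek, commutatorElement_def]
    have h1 : ⁅a, k⁆⁻¹ * a = a * ⁅a, k⁆⁻¹ :=
      (hAK' a ha _ (inv_mem (Subgroup.commutator_mem_commutator ha hk))).symm
    simp only [commutatorElement_def] at h1
    rw [← h1]; group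
  have hpair : IsRankOnePair (conjBy A k) B := by
    have h := isRankOnePair_conjBy hAB k
    rwa [conjBy_fix fun b hb => hBK b hb k hk] at h
  have hsum : z * (k * a * k⁻¹) = a * c := by
    rw [he', ← mul_assoc, hzA a ha, mul_assoc, hz, mul_assoc, hcc', inv_mul_cancel_left]
  have hac1 : a * c ≠ 1 := fun h => hne (eq_of_mem_inter hS (hns A hA) hA hC ha
    (by rw [eq_inv_of_mul_eq_one_left h]; exact C.inv_mem hc) ha1).symm
  obtain ⟨F, hF, hmem⟩ := hcov (a * c)
    (mul_mem (Subgroup.mem_sup_left ha) (Subgroup.mem_sup_right hc)) hac1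
  have hz1 : z = 1 := by
    refine eq_one_of_mul_mem hS (hS.conj_mem A hA k) hB hpair hF (fun y hy => ?_)
      (conj_mem_conjBy k ha) (fun e => ha1 ?_) (hsum ▸ hmem) (hsum ▸ hac1)
    · have hle : conjBy A k ⊔ B ≤ Subgroup.centralizer ({z} : Set G) := by
        refine sup_le ?_ fun b hb => Subgroup.mem_centralizer_singleton_iff.2 (hzB b hb).symm
        rintro _ ⟨x, hx, rfl⟩
        refine Subgroup.mem_centralizer_singleton_iff.2 ?_
        show k * x * k⁻¹ * z = z * (k * x * k⁻¹)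
        have h1 : Commute z k := hzK k hk
        have h2 : Commute z x := hzA x hx
        exact ((h1.mul_right h2).mul_right h1.inv_right).symm.eq
      exact (Subgroup.mem_centralizer_singleton_iff.1 (hle hy)).symm
    · exact conj_eq_one_iff.1 e
  rw [hz, inv_mul_eq_one] at hz1
  exact hz1 ▸ hc'

/-- A line through `A` and `⁅A, F⁆` can be traversed back: some `D` has `⁅⁅A, F⁆, D⁆ = A`. -/
theorem exists_return (hS : IsRootSubgroupSet S) (hns : ∀ X ∈ S, ¬ IsIsolatedIn (FAdj S) S X)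
    {F : Subgroup G} (hA : A ∈ S) (hF : F ∈ S) (hAF : RootCommutatorCase S A F) :
    ∃ D ∈ linePartners S A, RootCommutatorCase S ⁅A, F⁆ D ∧ ⁅⁅A, F⁆, D⁆ = A := by
  set C := ⁅A, F⁆ with hCdef
  have hC : C ∈ S := hAF.1
  have hAn := hns A hA
  have hCA : C ∈ linePartners S A := mem_linePartners_of_line hS hA hAn hF hAF
    ⟨hC, le_sup_right⟩ (RootCommutatorCase.ne_left hS hAF).symm
  have hAC := mem_linePartners_symm hCA hA
  obtain ⟨P, hP, hCP⟩ := not_isIsolatedIn (hns C hC) hC
  obtain ⟨E, hE, hne, hPE⟩ := exists_in_line hS hC hP hCP hAC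
  rw [sup_comm] at hE
  have hE' := membersIn_line hS hAn hA hAF ▸ hE
  rcases hE' with ⟨f, hf, rfl⟩ | h
  swap
  · exact absurd h hne
  -- move `conjBy A f` to `A`
  set P' := conjBy P f⁻¹ with hP'
  have hP'S : P' ∈ S := hS.conj_mem P hP f⁻¹
  have hfixC : conjBy C f⁻¹ = C := conjBy_fix fun x hx =>
    (RootCommutatorCase.commute_right hAF (F.inv_mem hf) hx).symm
  have hCP' : IsRankOnePair C P' := by
    have h := isRankOnePair_conjBy hCP f⁻¹
    rwa [hfixC] at h
  have hP'A : RootCommutatorCase S P' A := by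
    refine rootCommutatorCase_of_mem hS hP'S hA ?_
    have hA' : conjBy (conjBy A f) f⁻¹ = A := by
      rw [conjBy_conjBy, inv_mul_cancel, conjBy_one]
    rw [← hA', hP', commutator_conjBy]
    exact hS.conj_mem _ hPE.1 f⁻¹
  have hcomCA : ⁅C, A⁆ = ⊥ := hAC.1.2.2
  refine ⟨⁅P', A⁆, ?_, case_of_linePartner hS hC hP'S hA hCP' hcomCA hP'A,
    triangle hS hns hC hP'S hA hCP' hcomCA hAC.1.2.1
      (fun x hx hx1 => let ⟨M, hM, h⟩ := hAC.2.2.1 x hx hx1; ⟨M, hM.1, h⟩) hP'A⟩
  have hAP : RootCommutatorCase S A P' := RootCommutatorCase.symm' hP'A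
  rw [Subgroup.commutator_comm]
  exact mem_linePartners_of_line hS hA hAn hP'S hAP ⟨hAP.1, le_sup_right⟩
    (RootCommutatorCase.ne_left hS hAP).symm

theorem conjBy_membersIn (hS : IsRootSubgroupSet S) (L : Subgroup G) (g : G) {X : Subgroup G} :
    X ∈ membersIn S L → conjBy X g ∈ membersIn S (conjBy L g) :=
  fun h => ⟨hS.conj_mem X h.1 g, Subgroup.map_mono h.2⟩

/-- Conjugation permutes line partners. -/
theorem conj_linePartners (hS : IsRootSubgroupSet S) (g : G) (hC : C ∈ linePartners S A) :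
    conjBy C g ∈ linePartners S (conjBy A g) := by
  obtain ⟨⟨hCS, hne, hcom⟩, hle, hcov, hdis⟩ := hC
  have hback : ∀ {X : Subgroup G}, X ∈ membersIn S (conjBy A g ⊔ conjBy C g) →
      conjBy X g⁻¹ ∈ membersIn S (A ⊔ C) := fun {X} h => by
    have h' := conjBy_membersIn hS _ g⁻¹ h
    rwa [← conjBy_sup, conjBy_conjBy, inv_mul_cancel, conjBy_one] at h'
  refine ⟨⟨hS.conj_mem C hCS g, fun e => hne (conjBy_injective g e), by
    rw [commutator_conjBy, hcom]; exact Subgroup.map_bot _⟩,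
    fun X hX => hX.2, fun x hx hx1 => ?_, fun X hX Y hY hXY => ?_⟩
  · have hx' : g⁻¹ * x * g ∈ A ⊔ C := by
      rw [← conjBy_sup] at hx; exact mem_conjBy.1 hx
    have hx1' : g⁻¹ * x * g ≠ 1 := fun e => hx1 (by
      have := congrArg (fun y => g * y * g⁻¹) e
      simpa [mul_assoc] using this)
    obtain ⟨M, hM, hxM⟩ := hcov _ hx' hx1'
    exact ⟨conjBy M g, conjBy_sup A C g ▸ conjBy_membersIn hS _ g hM, mem_conjBy.2 hxM⟩
  · have h := hdis _ (hback hX) _ (hback hY) fun e => hXY (conjBy_injective g⁻¹ e)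
    refine eq_bot_iff.2 fun x hx => Subgroup.mem_bot.2 ?_
    have h1 : g⁻¹ * x * g⁻¹⁻¹ ∈ conjBy X g⁻¹ ⊓ conjBy Y g⁻¹ :=
      ⟨conj_mem_conjBy g⁻¹ hx.1, conj_mem_conjBy g⁻¹ hx.2⟩
    rw [h, Subgroup.mem_bot] at h1
    exact conj_eq_one_iff.1 h1

/-- `G` is generated by the line partners of `A` and a rank one partner. -/
theorem generated (hcl : IsRootSubgroupClass S) (hnd : IsNondegenerateRootSet S) (hA : A ∈ S)
    (hB : B ∈ rankOnePartners S A) : (⨆ C ∈ linePartners S A, C) ⊔ B = ⊤ := by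
  obtain ⟨hBS, hAB⟩ := hB
  have hS := hcl.1
  have hns : ∀ X ∈ S, ¬ IsIsolatedIn (FAdj S) S X := fun X => not_isolated hcl hnd
  set R := (⨆ C ∈ linePartners S A, C) ⊔ B with hR
  have hline : ∀ C ∈ linePartners S A, C ≤ R := fun C hC =>
    (le_iSup₂ (f := fun (C : Subgroup G) (_ : C ∈ linePartners S A) => C) C hC).trans le_sup_left
  obtain ⟨D, hD, hAD⟩ := exists_case hcl hnd hA
  -- `A` lies in `R`
  have hAn := hns A hA
  have hAR : A ≤ R := by
    intro a ha
    obtain ⟨d, hd, hd1⟩ := exists_mem_ne_one (hS.ne_bot D hD)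
    have hKne := (RootCommutatorCase.ne_left hS hAD).symm
    have hAdne : conjBy A d ≠ A := fun e => by
      obtain ⟨x, hx, hx1⟩ := exists_mem_ne_one (hS.ne_bot A hA)
      exact hd1 (line_conj_inf hS hD hAD (lineInj_of_not_isolated hS hAn hA hAD) hd D.one_mem
        (e.symm ▸ hx : x ∈ conjBy A d) (by rwa [conjBy_one]) hx1)
    have h1 := hline _ (mem_linePartners_of_line hS hA hAn hD hAD
      ⟨hS.conj_mem A hA d, conjBy_le_line A D hd⟩ hAdne)
    have h2 := hline _ (mem_linePartners_of_line hS hA hAn hD hAD ⟨hAD.1, le_sup_right⟩ hKne)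
    rw [show a = ⁅a, d⁆ * (d * a * d⁻¹) by rw [commutatorElement_def]; group]
    exact mul_mem (h2 (Subgroup.commutator_mem_commutator ha hd)) (h1 (conj_mem_conjBy d ha))
  have hBR : B ≤ R := le_sup_right
  set T := {X : Subgroup G | ∃ x ∈ R, X = conjBy A x} with hTdef
  have hTA : A ∈ T := ⟨1, R.one_mem, (conjBy_one A).symm⟩
  have hTB : B ∈ T := by
    obtain ⟨x, hx, e⟩ := RankOne.right_mem hAB
    exact ⟨x, sup_le hAR hBR hx, e⟩
  have hTconj : ∀ {X}, X ∈ T → ∀ g ∈ R, conjBy X g ∈ T := by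
    rintro _ ⟨x, hx, rfl⟩ g hg
    exact ⟨g * x, R.mul_mem hg hx, conjBy_conjBy _ _ _⟩
  have hTle : ∀ X ∈ T, X ≤ R := by
    rintro _ ⟨x, hx, rfl⟩ _ ⟨a, ha, rfl⟩
    exact R.mul_mem (R.mul_mem hx (hAR ha)) (R.inv_mem hx)
  have hTline : ∀ X ∈ T, ∀ E ∈ linePartners S X, E ≤ R := by
    rintro _ ⟨x, hx, rfl⟩ E hE e he
    have h := conj_linePartners hS x⁻¹ hE
    rw [conjBy_conjBy, inv_mul_cancel, conjBy_one] at h
    have h' := hline _ h (conj_mem_conjBy x⁻¹ he)
    have := R.mul_mem (R.mul_mem hx h') (R.inv_mem hx)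
    simpa [mul_assoc] using this
  -- every line through `A` lies in `T`
  have hTK : ∀ {E}, E ∈ S → RootCommutatorCase S A E → ⁅A, E⁆ ∈ T := by
    intro E hE hAE
    set K := ⁅A, E⁆ with hK
    have hKA : K ∈ linePartners S A := mem_linePartners_of_line hS hA hAn hE hAE
      ⟨hAE.1, le_sup_right⟩ (RootCommutatorCase.ne_left hS hAE).symm
    obtain ⟨C, hC, hne, hBC⟩ := exists_in_line hS hA hBS hAB hKA
    have hCA : C ∈ linePartners S A := mem_linePartners_of_line hS hA hAn hE hAE hC hne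
    set F := ⁅B, C⁆ with hFdef
    have hAF := case_of_linePartner hS hA hBS hC.1 hAB hCA.1.2.2 hBC
    have htri : ⁅A, F⁆ = C := triangle hS hns hA hBS hC.1 hAB hCA.1.2.2 hne
      (fun x hx hx1 => let ⟨M, hM, h⟩ := hCA.2.2.1 x hx hx1; ⟨M, hM.1, h⟩) hBC
    have hFR : F ≤ R := Subgroup.commutator_le.2 fun b hb c hc =>
      R.mul_mem (R.mul_mem (R.mul_mem (hBR hb) (hline C hCA hc)) (R.inv_mem (hBR hb)))
        (R.inv_mem (hline C hCA hc))
    obtain ⟨D', hD', hCD, hD'e⟩ := exists_return hS hns hA hBC.1 hAF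
    rw [htri] at hCD hD'e
    obtain ⟨hpair, -, heq, -⟩ := rank_one_on_line hS hA hBC.1 (D := D') (by rw [htri]; exact hC.1) hD'.1.1
      (by rw [htri, Subgroup.commutator_comm, hD'e])
    have horb : ∀ M ∈ membersIn S (A ⊔ C), M ∈ T := by
      intro M hM
      have hM' : M ∈ (fun f : G => conjBy A f) '' (F : Set G) ∪ {⁅A, F⁆} :=
        membersIn_line hS hAn hA hAF ▸ (htri.symm ▸ hM)
      rw [← heq] at hM'
      obtain ⟨x, hx, rfl⟩ := hM'
      exact ⟨x, sup_le hFR (hline D' hD') hx, rfl⟩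
    refine horb K ⟨hAE.1, ?_⟩
    -- the lines coincide
    have hC' : C ∈ (fun e : G => conjBy A e) '' (E : Set G) ∪ {⁅A, E⁆} :=
      membersIn_line hS hAn hA hAE ▸ hC
    rcases hC' with ⟨e, he, rfl⟩ | h
    · intro y hy
      have he1 : e ≠ 1 := fun e1 => hne (by simp only [e1, conjBy_one])
      obtain ⟨x, hx, rfl⟩ := RootCommutatorCase.exists_right hAE he he1 hy
      rw [show ⁅x, e⁆ = x * (e * x⁻¹ * e⁻¹) by simp only [commutatorElement_def]; group]
      exact mul_mem (Subgroup.mem_sup_left hx)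
        (Subgroup.mem_sup_right (conj_mem_conjBy e (A.inv_mem hx)))
    · rw [Set.mem_singleton_iff.1 h]; exact le_sup_right
  have hPsiA : ∀ {E}, E ∈ S → RootCommutatorCase S A E → E ≤ R := by
    intro E hE hAE
    have h := RootCommutatorCase.symm' hAE
    have hEK : E ∈ linePartners S ⁅A, E⁆ := by
      rw [Subgroup.commutator_comm]
      exact mem_linePartners_symm (mem_linePartners_of_line hS hE (hns E hE) hA h
        ⟨h.1, le_sup_right⟩ (RootCommutatorCase.ne_left hS h).symm) hE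
    exact hTline _ (hTK hE hAE) E hEK
  have hPsi : ∀ {X E}, X ∈ T → E ∈ S → RootCommutatorCase S X E → E ≤ R := by
    rintro _ E ⟨x, hx, rfl⟩ hE hXE e he
    have h1 : RootCommutatorCase S A (conjBy E x⁻¹) := by
      refine rootCommutatorCase_of_mem hS hA (hS.conj_mem E hE x⁻¹) ?_
      have h2 : conjBy (conjBy A x) x⁻¹ = A := by
        rw [conjBy_conjBy, inv_mul_cancel, conjBy_one]
      rw [← h2, commutator_conjBy]
      exact hS.conj_mem _ hXE.1 x⁻¹
    have h' := hPsiA (hS.conj_mem E hE x⁻¹) h1 (conj_mem_conjBy x⁻¹ he)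
    have := R.mul_mem (R.mul_mem hx h') (R.inv_mem hx)
    simpa [mul_assoc] using this
  have hOmA : ∀ {E}, E ∈ S → IsRankOnePair A E → E ≤ R := by
    intro E hE hAE
    have hKA : ⁅A, D⁆ ∈ linePartners S A := mem_linePartners_of_line hS hA hAn hD hAD
      ⟨hAD.1, le_sup_right⟩ (RootCommutatorCase.ne_left hS hAD).symm
    obtain ⟨C, hC, -, hEC⟩ := exists_in_line hS hA hE hAE hKA
    have hC' : C ∈ (fun d : G => conjBy A d) '' (D : Set G) ∪ {⁅A, D⁆} :=
      membersIn_line hS hAn hA hAD ▸ hC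
    have hCT : C ∈ T := by
      rcases hC' with ⟨d, hd, rfl⟩ | h
      · exact hTconj hTA d (hPsiA hD hAD hd)
      · rw [Set.mem_singleton_iff.1 h]; exact hTK hD hAD
    exact hPsi hCT hE (RootCommutatorCase.symm' hEC)
  have hnc : ∀ X ∈ T, ∀ E ∈ S, ⁅X, E⁆ ≠ ⊥ → E ≤ R := by
    intro X hX E hE hne
    rcases hS.pair X (by obtain ⟨x, -, rfl⟩ := hX; exact hS.conj_mem A hA x) E hE with h | h | h
    · exact absurd h hne
    · obtain ⟨x, hx, rfl⟩ := hX
      intro e he
      have h1 := isRankOnePair_conjBy h x⁻¹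
      rw [conjBy_conjBy, inv_mul_cancel, conjBy_one] at h1
      have h' := hOmA (hS.conj_mem E hE x⁻¹) h1 (conj_mem_conjBy x⁻¹ he)
      have := R.mul_mem (R.mul_mem hx h') (R.inv_mem hx)
      simpa [mul_assoc] using this
    · exact hPsi hX hE h
  -- `T` is invariant under `G`
  have hinv : ∀ g : G, ∀ X ∈ T, conjBy X g ∈ T := by
    let N : Subgroup G :=
      { carrier := {g | ∀ X, X ∈ T ↔ conjBy X g ∈ T}
        one_mem' := fun X => by rw [conjBy_one]
        mul_mem' := fun {g h} hg hh X => by rw [hh X, hg, conjBy_conjBy]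
        inv_mem' := fun {g} hg X => by
          rw [hg (conjBy X g⁻¹), conjBy_conjBy, mul_inv_cancel, conjBy_one] }
    have hRN : R ≤ N := fun g hg X => ⟨fun h => hTconj h g hg, fun h => by
      have := hTconj h g⁻¹ (R.inv_mem hg)
      rwa [conjBy_conjBy, inv_mul_cancel, conjBy_one] at this⟩
    have htop : N = ⊤ := by
      refine eq_top_iff.2 (hS.generates ▸ iSup₂_le fun E hE => ?_)
      by_cases hall : ∀ X ∈ T, ⁅X, E⁆ = ⊥
      · intro e he X
        have hfix : ∀ Y ∈ T, conjBy Y e = Y := fun Y hY => conjBy_fix fun y hy =>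
          commute_of_commutator_eq_bot (hall Y hY) hy he
        refine ⟨fun h => (hfix X h).symm ▸ h, fun h => ?_⟩
        have h2 := hfix _ h
        exact (conjBy_injective e h2 : conjBy X e = X) ▸ h
      · push Not at hall
        obtain ⟨X, hX, hne⟩ := hall
        exact (hnc X hX E hE hne).trans hRN
    intro g X hX
    exact ((htop ▸ Subgroup.mem_top g : g ∈ N) X).1 hX
  refine eq_top_iff.2 (hS.generates ▸ iSup₂_le fun E hE => ?_)
  obtain ⟨g, rfl⟩ := hcl.2.2 A hA E hE
  exact hTle _ (hinv g A hTA)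

theorem eAdj_conjBy (hS : IsRootSubgroupSet S) (g : G) {X Y : Subgroup G} (h : EAdj S S X Y) :
    EAdj S S (conjBy X g) (conjBy Y g) :=
  ⟨hS.conj_mem X h.1 g, hS.conj_mem Y h.2.1 g, conj_linePartners hS g h.2.2⟩

/-- The line graph and the commuting graph are connected. -/
theorem line_connected (hcl : IsRootSubgroupClass S) (hnd : IsNondegenerateRootSet S) :
    IsConnectedFamily (EAdj S S) S ∧ IsConnectedFamily (DAdj S) S := by
  have hS := hcl.1
  suffices h : IsConnectedFamily (EAdj S S) S by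
    refine ⟨h, fun X hX Y hY => ?_⟩
    have h' := h X hX Y hY
    clear hX hY
    induction h' with
    | refl => exact Relation.ReflTransGen.refl
    | tail _ hUV ih => exact ih.tail ⟨hUV.1, hUV.2.1, hUV.2.2.1.2.1.symm, hUV.2.2.1.2.2⟩
  have hns : ∀ X ∈ S, ¬ IsIsolatedIn (FAdj S) S X := fun X => not_isolated hcl hnd
  have hsymm : ∀ {X Y}, Relation.ReflTransGen (EAdj S S) X Y →
      Relation.ReflTransGen (EAdj S S) Y X := by
    intro X Y h
    induction h with
    | refl => exact Relation.ReflTransGen.refl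
    | tail _ h ih => exact ih.head ⟨h.2.1, h.1, mem_linePartners_symm h.2.2 h.1⟩
  have hconj : ∀ {X Y} (g : G), Relation.ReflTransGen (EAdj S S) X Y →
      Relation.ReflTransGen (EAdj S S) (conjBy X g) (conjBy Y g) := by
    intro X Y g h
    induction h with
    | refl => exact Relation.ReflTransGen.refl
    | tail _ h ih => exact ih.tail (eAdj_conjBy hS g h)
  obtain ⟨A, hA⟩ := hcl.2.1
  obtain ⟨D, hD, hAD⟩ := exists_case hcl hnd hA
  let H : Subgroup G :=
    { carrier := {g | Relation.ReflTransGen (EAdj S S) A (conjBy A g)}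
      one_mem' := by show Relation.ReflTransGen _ A _; rw [conjBy_one]
      mul_mem' := fun {g h} hg hh => by
        show Relation.ReflTransGen _ A _
        rw [← conjBy_conjBy]
        exact Relation.ReflTransGen.trans hg (hconj g hh)
      inv_mem' := fun {g} hg => by
        show Relation.ReflTransGen _ A _
        have := hsymm (hconj g⁻¹ hg)
        rwa [conjBy_conjBy, inv_mul_cancel, conjBy_one] at this }
  -- adjacency of a member to its conjugates in the commutator case
  have hline : ∀ {X E : Subgroup G}, X ∈ S → E ∈ S → RootCommutatorCase S X E → ∀ e ∈ E,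
      Relation.ReflTransGen (EAdj S S) X (conjBy X e) := by
    intro X E hX hE h e he
    by_cases heq : conjBy X e = X
    · rw [heq]
    · exact Relation.ReflTransGen.single ⟨hX, hS.conj_mem X hX e,
        mem_linePartners_of_line hS hX (hns X hX) hE h
          ⟨hS.conj_mem X hX e, conjBy_le_line X E he⟩ heq⟩
  have hH : H = ⊤ := by
    refine eq_top_iff.2 (hS.generates ▸ iSup₂_le fun E hE e he => ?_)
    show Relation.ReflTransGen (EAdj S S) A (conjBy A e)
    rcases hS.pair A hA E hE with h | h | h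
    · rw [conjBy_fix fun a ha => commute_of_commutator_eq_bot h ha he]
    · have hK : ⁅A, D⁆ ∈ linePartners S A := mem_linePartners_of_line hS hA (hns A hA) hD hAD
        ⟨hAD.1, le_sup_right⟩ (RootCommutatorCase.ne_left hS hAD).symm
      obtain ⟨C, hC, hne, hEC⟩ := exists_in_line hS hA hE h hK
      have h1 : EAdj S S A C :=
        ⟨hA, hC.1, mem_linePartners_of_line hS hA (hns A hA) hD hAD hC hne⟩
      exact ((Relation.ReflTransGen.single h1).trans
        (hline hC.1 hE (RootCommutatorCase.symm' hEC) e he)).trans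
          (hconj e (hsymm (Relation.ReflTransGen.single h1)))
    · exact hline hA hE h e he
  have key : ∀ X ∈ S, Relation.ReflTransGen (EAdj S S) A X := fun X hX => by
    obtain ⟨g, rfl⟩ := hcl.2.2 A hA X hX
    exact (hH ▸ Subgroup.mem_top g : g ∈ H)
  exact fun X hX Y hY => (hsymm (key X hX)).trans (key Y hY)

end Cfsg.Agent.Fus.RootTriangle
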