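import Mathlib
import Cfsg.Agent.Lib.Fus.RootTriangle

/-!
Weak TI subsets of non-degenerate classes of abstract root subgroups, and the double transitivity
of the normalizer on a line.
-/

set_option autoImplicit false
set_option linter.style.haveILetI false

open scoped commutatorElement

namespace Cfsg.Agent.Fus.RootTI

open Subgroup RootSpecial RootTriangle

variable {G : Type*} [Group G] {S : Set (Subgroup G)} {A B : Subgroup G}

/-- A weak TI subset of a non-degenerate class is abelian. -/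
theorem weakTI_abelian (hcl : IsRootSubgroupClass S) (hnd : IsNondegenerateRootSet S)
    {Δ : Set (Subgroup G)} (hΔ : IsWeakTISubset S Δ) : IsAbelianFamily Δ := by
  obtain ⟨hΔS, -, hΔne, hTI⟩ := hΔ
  have hS := hcl.1
  have hns : ∀ X ∈ S, ¬ IsIsolatedIn (FAdj S) S X := fun X => not_isolated hcl hnd
  let H : Subgroup G :=
    { carrier := {g | (fun A => conjBy A g) '' Δ = Δ}
      one_mem' := by
        show _ '' Δ = Δ
        rw [Set.image_congr (fun X _ => conjBy_one X), Set.image_id']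
      mul_mem' := fun {g h} hg hh => by
        show _ '' Δ = Δ
        conv_rhs => rw [← hg, ← hh, Set.image_image]
        exact Set.image_congr fun X _ => (conjBy_conjBy X h g).symm
      inv_mem' := fun {g} hg => by
        show _ '' Δ = Δ
        conv_lhs => rw [← hg, Set.image_image]
        rw [Set.image_congr (fun X _ => by rw [conjBy_conjBy, inv_mul_cancel, conjBy_one]),
          Set.image_id'] }
  have hfix : ∀ {E X : Subgroup G}, E ∈ S → X ∈ Δ → (∀ e ∈ E, conjBy X e = X) → E ≤ H := by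
    intro E X hE hX hf e he
    by_cases he1 : e = 1
    · exact he1 ▸ H.one_mem
    exact (hTI e ⟨he1, E, hE, he⟩).resolve_right
      (Set.not_disjoint_iff.2 ⟨X, ⟨X, hX, hf e he⟩, hX⟩)
  have hcomH : ∀ {E X : Subgroup G}, E ∈ S → X ∈ Δ → ⁅X, E⁆ = ⊥ → E ≤ H := fun hE hX h =>
    hfix hE hX fun e he => conjBy_fix fun x hx => commute_of_commutator_eq_bot h hx he
  have hself : ∀ {X : Subgroup G}, X ∈ Δ → X ≤ H := fun hX =>
    hfix (hΔS hX) hX fun e he => conjBy_eq_self_of_mem he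
  have hmove : ∀ {X : Subgroup G}, X ∈ Δ → ∀ g ∈ H, conjBy X g ∈ Δ := fun {X} hX g hg => by
    rw [← (hg : (fun A => conjBy A g) '' Δ = Δ)]
    exact ⟨X, hX, rfl⟩
  -- no rank one pair lies in `Δ`
  have hrk : ∀ {A B : Subgroup G}, A ∈ Δ → B ∈ Δ → ¬ IsRankOnePair A B := by
    intro A B hA hB h
    have htop := generated hcl hnd (hΔS hA) (B := B) ⟨hΔS hB, h⟩
    have hle : (⨆ C ∈ linePartners S A, C) ⊔ B ≤ H :=
      sup_le (iSup₂_le fun C hC => hcomH hC.1.1 hA hC.1.2.2) (hself hB)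
    refine hΔne (Set.Subset.antisymm hΔS fun X hX => ?_)
    obtain ⟨g, rfl⟩ := hcl.2.2 A (hΔS hA) X hX
    exact hmove hA g (hle (htop.ge (Subgroup.mem_top g)))
  intro A hA B hB a ha b hb
  rcases hS.pair A (hΔS hA) B (hΔS hB) with h | h | h
  · exact commute_of_commutator_eq_bot h ha hb
  · exact absurd h (hrk hA hB)
  · exfalso
    obtain ⟨D, hD, hKD, he⟩ := exists_return hS hns (hΔS hA) (hΔS hB) h
    obtain ⟨hpair, -⟩ := rank_one_on_line hS (hΔS hA) (hΔS hB) (D := D) h.1 hD.1.1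
      (by rw [Subgroup.commutator_comm, he])
    obtain ⟨x, hx, e⟩ := RankOne.right_mem hpair
    exact hrk hB (e ▸ hmove hB x (sup_le (hself hB) (hcomH hD.1.1 hA hD.1.2.2) hx)) hpair

/-- A rank one partner of `A` picks a member of a line through `A` that spans it with `A`. -/
theorem exists_spanning (hS : IsRootSubgroupSet S) (hns : ∀ X ∈ S, ¬ IsIsolatedIn (FAdj S) S X)
    {P : Subgroup G} (hA : A ∈ S) (hP : P ∈ S) (hAP : IsRankOnePair A P)
    (hB : B ∈ linePartners S A) :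
    ∃ F ∈ membersIn S (A ⊔ B), F ≠ A ∧ RootCommutatorCase S P F ∧ A ⊔ F = A ⊔ B := by
  have hpart := hB.2
  have hBm : B ∈ membersIn S (A ⊔ B) := ⟨hB.1.1, le_sup_right⟩
  rcases hS.pair B hB.1.1 P hP with h | h | h
  · exact absurd h (not_commute_of_line hS hA hP hB.1.1 hAP hB.1.2.2
      (fun x hx hx1 => let ⟨M, hM, h⟩ := hpart.2.1 x hx hx1; ⟨M, hM.1, h⟩) hB.1.2.1)
  swap
  · exact ⟨B, hBm, hB.1.2.1, RootCommutatorCase.symm' h, rfl⟩
  obtain ⟨p, hp, hp1⟩ := exists_mem_ne_one (hS.ne_bot P hP)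
  obtain ⟨a, ha, ha1, ea⟩ := RankOne.exists_partner (RankOnePair_symm hAP) hp hp1
  obtain ⟨c, hc, hc1, ec⟩ := RankOne.exists_partner (RankOnePair_symm h) hp hp1
  set e := c⁻¹ * a with he
  have hcomP : ⁅P, conjBy P e⁆ = ⊥ := by
    have h' : ⁅conjBy P c, conjBy P a⁆ = ⊥ := by
      rw [← ec, ← ea, commutator_conjBy, Subgroup.commutator_comm, hB.1.2.2]
      exact Subgroup.map_bot _
    have h'' := congrArg (fun X => conjBy X c⁻¹) h'
    rw [← commutator_conjBy, conjBy_conjBy, conjBy_conjBy, inv_mul_cancel, conjBy_one] at h''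
    exact h''.trans (Subgroup.map_bot _)
  have he1 : e ≠ 1 := fun h' => by
    have hac : c = a := inv_mul_eq_one.1 h'
    exact hB.1.2.1 (eq_of_mem_inter hS (hns A hA) hA hB.1.1 ha (hac ▸ hc) ha1).symm
  obtain ⟨F, hF, heF⟩ := hpart.2.1 e (mul_mem (Subgroup.mem_sup_right (inv_mem hc))
    (Subgroup.mem_sup_left ha)) he1
  have hFA : F ≠ A := fun h' => by
    have h1 : c⁻¹ ∈ A := by
      rw [show c⁻¹ = e * a⁻¹ by rw [he]; group]
      exact A.mul_mem (h' ▸ heF) (A.inv_mem ha)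
    exact hB.1.2.1 (eq_of_mem_inter hS (hns A hA) hA hB.1.1 h1 (inv_mem hc)
      (inv_ne_one.2 hc1)).symm
  have hcA : c ∈ A ⊔ F := by
    rw [show c = a * e⁻¹ by rw [he]; group]
    exact mul_mem (Subgroup.mem_sup_left ha) (Subgroup.mem_sup_right (inv_mem heF))
  refine ⟨F, hF, hFA, ?_, le_antisymm (sup_le le_sup_left hF.2) (sup_le le_sup_left ?_)⟩
  · rcases hS.pair F hF.1 P hP with h' | h' | h'
    · refine absurd h' (not_commute_of_line hS hA hP hF.1 hAP ?_ (fun x hx hx1 => ?_) hFA)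
      · refine Subgroup.commutator_eq_bot_iff_le_centralizer.2 fun x hx =>
          Subgroup.mem_centralizer_iff.2 fun y hy => ?_
        have hle : A ⊔ B ≤ Subgroup.centralizer (A : Set G) := sup_le
          (fun z hz => Subgroup.mem_centralizer_iff.2 fun w hw =>
            IsRootSubgroupSet.commute hS hA hw hz)
          fun z hz => Subgroup.mem_centralizer_iff.2 fun w hw =>
            commute_of_commutator_eq_bot hB.1.2.2 hw hz
        exact (Subgroup.mem_centralizer_iff.1 (hle (hF.2 hy)) x hx).symm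
      · obtain ⟨M, hM, hxM⟩ := hpart.2.1 x (sup_le le_sup_left hF.2 hx) hx1
        exact ⟨M, hM.1, hxM⟩
    · exact absurd (RankOne.eq_one_of_conjBy_eq h' heF (RankOne.eq_of_commute (RankOnePair_symm h')
        ⟨e, Subgroup.mem_sup_right heF, rfl⟩ hcomP)) he1
    · exact RootCommutatorCase.symm' h'
  -- `B` lies in `A ⊔ F`
  intro b hb
  have hle : A ⊔ F ≤ A ⊔ B := sup_le le_sup_left hF.2
  obtain ⟨Q, hQ, hPF⟩ : ∃ Q ∈ S, RootCommutatorCase S A Q ∧ ⁅A, Q⁆ = F := by
    have hPF : RootCommutatorCase S P F := by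
      rcases hS.pair F hF.1 P hP with h' | h' | h'
      · refine absurd h' (not_commute_of_line hS hA hP hF.1 hAP ?_ (fun x hx hx1 => ?_) hFA)
        · refine Subgroup.commutator_eq_bot_iff_le_centralizer.2 fun x hx =>
            Subgroup.mem_centralizer_iff.2 fun y hy => ?_
          have hle : A ⊔ B ≤ Subgroup.centralizer (A : Set G) := sup_le
            (fun z hz => Subgroup.mem_centralizer_iff.2 fun w hw =>
              IsRootSubgroupSet.commute hS hA hw hz)
            fun z hz => Subgroup.mem_centralizer_iff.2 fun w hw =>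
              commute_of_commutator_eq_bot hB.1.2.2 hw hz
          exact (Subgroup.mem_centralizer_iff.1 (hle (hF.2 hy)) x hx).symm
        · obtain ⟨M, hM, hxM⟩ := hpart.2.1 x (hle hx) hx1
          exact ⟨M, hM.1, hxM⟩
      · exact absurd (RankOne.eq_one_of_conjBy_eq h' heF (RankOne.eq_of_commute
          (RankOnePair_symm h') ⟨e, Subgroup.mem_sup_right heF, rfl⟩ hcomP)) he1
      · exact RootCommutatorCase.symm' h'
    have hAF : ⁅A, F⁆ = ⊥ := by
      refine Subgroup.commutator_eq_bot_iff_le_centralizer.2 fun x hx =>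
        Subgroup.mem_centralizer_iff.2 fun y hy => ?_
      have hle : A ⊔ B ≤ Subgroup.centralizer (A : Set G) := sup_le
        (fun z hz => Subgroup.mem_centralizer_iff.2 fun w hw =>
          IsRootSubgroupSet.commute hS hA hw hz)
        fun z hz => Subgroup.mem_centralizer_iff.2 fun w hw =>
          commute_of_commutator_eq_bot hB.1.2.2 hw hz
      exact (Subgroup.mem_centralizer_iff.1 (hle (hF.2 hy)) x hx).symm
    exact ⟨⁅P, F⁆, hPF.1, case_of_linePartner hS hA hP hF.1 hAP hAF hPF,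
      triangle hS hns hA hP hF.1 hAP hAF hFA
        (fun x hx hx1 => let ⟨M, hM, h⟩ := hpart.2.1 x (hle hx) hx1; ⟨M, hM.1, h⟩) hPF⟩
  obtain ⟨hAQ, hAQe⟩ := hPF
  rcases line_cover hAQ (hAQe.symm ▸ hcA : c ∈ A ⊔ ⁅A, Q⁆) with h' | ⟨q, hq, h'⟩
  · rw [hAQe] at h'
    rw [← eq_of_mem_inter hS (hns B hB.1.1) hB.1.1 hF.1 hc h' hc1] at *
    exact Subgroup.mem_sup_right hb
  · have hEq := eq_of_mem_inter hS (hns B hB.1.1) hB.1.1 (hS.conj_mem A hA q) hc h' hc1
    rw [← hAQe]
    exact conjBy_le_line A Q hq (hEq ▸ hb)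

/-- `⟨N_Σ(AB)⟩` is doubly transitive on the members of the line `AB`. -/
theorem line_two_transitive (hS : IsRootSubgroupSet S)
    (hns : ∀ X ∈ S, ¬ IsIsolatedIn (FAdj S) S X) (hA : A ∈ S) (hB : B ∈ linePartners S A) :
    ∀ C₁ ∈ membersIn S (A ⊔ B), ∀ C₂ ∈ membersIn S (A ⊔ B), ∀ D₁ ∈ membersIn S (A ⊔ B),
      ∀ D₂ ∈ membersIn S (A ⊔ B), C₁ ≠ C₂ → D₁ ≠ D₂ →
        ∃ x ∈ ⨆ E ∈ normalizingMembers S (A ⊔ B), E, conjBy C₁ x = D₁ ∧ conjBy C₂ x = D₂ := by
  obtain ⟨P, hP, hAP⟩ := not_isIsolatedIn (hns A hA) hA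
  obtain ⟨F, hF, hFA, hPF, hsup⟩ := exists_spanning hS hns hA hP hAP hB
  have hpart := hB.2
  rw [← hsup] at hF hpart ⊢
  have hAF : ⁅A, F⁆ = ⊥ := Subgroup.commutator_eq_bot_iff_le_centralizer.2 fun x hx =>
    Subgroup.mem_centralizer_iff.2 fun y hy => by
      have hle : A ⊔ B ≤ Subgroup.centralizer (A : Set G) := sup_le
        (fun z hz => Subgroup.mem_centralizer_iff.2 fun w hw =>
          IsRootSubgroupSet.commute hS hA hw hz)
        fun z hz => Subgroup.mem_centralizer_iff.2 fun w hw =>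
          commute_of_commutator_eq_bot hB.1.2.2 hw hz
      exact (Subgroup.mem_centralizer_iff.1 (hle (hsup ▸ hF.2 hy)) x hx).symm
  have htri := triangle hS hns hA hP hF.1 hAP hAF hFA
    (fun x hx hx1 => let ⟨M, hM, h⟩ := hpart.2.1 x hx hx1; ⟨M, hM.1, h⟩) hPF
  have hAK := case_of_linePartner hS hA hP hF.1 hAP hAF hPF
  set K := ⁅P, F⁆ with hKdef
  obtain ⟨D, hD, hFD, hDe⟩ := exists_return hS hns hA hPF.1 hAK
  obtain ⟨-, -, heq, -⟩ := rank_one_on_line hS hA hPF.1 (D := D) hAK.1 hD.1.1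
    (by rw [Subgroup.commutator_comm, hDe])
  have hmem := membersIn_line hS (hns A hA) hA hAK
  rw [htri] at hmem hFD hDe heq
  set L := A ⊔ F with hL
  set N := ⨆ E ∈ normalizingMembers S L, E with hN
  have hNle : ∀ E ∈ normalizingMembers S L, E ≤ N := fun E hE =>
    le_iSup₂ (f := fun (E : Subgroup G) (_ : E ∈ normalizingMembers S L) => E) E hE
  have hnorm : ∀ E ∈ S, (∀ e ∈ E, conjBy L e ≤ L) → E ≤ N := fun E hE h =>
    hNle E ⟨hE, fun e he => mem_normalizer_iff_conjBy.2 (le_antisymm (h e he) fun y hy =>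
      mem_conjBy.2 (by simpa using h e⁻¹ (E.inv_mem he) (conj_mem_conjBy e⁻¹ hy)))⟩
  have hKN : K ≤ N := hnorm K hPF.1 fun k hk => by
    rw [hL, conjBy_sup]
    refine sup_le (htri ▸ conjBy_le_line A K hk) ?_
    rw [conjBy_fix fun f hf => (RootCommutatorCase.commute_right hAK hk (htri.symm ▸ hf)).symm]
    exact le_sup_right
  have hDN : D ≤ N := hnorm D hD.1.1 fun d hd => by
    rw [hL, conjBy_sup]
    refine sup_le ?_ ((conjBy_le_line F D hd).trans ?_)
    · rw [conjBy_fix fun a ha => commute_of_commutator_eq_bot hD.1.2.2 ha hd]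
      exact le_sup_left
    · rw [hDe]; exact sup_le le_sup_right le_sup_left
  -- move two different members to `F`, `A`
  have key : ∀ C₁ ∈ membersIn S L, ∀ C₂ ∈ membersIn S L, C₁ ≠ C₂ →
      ∃ g ∈ N, conjBy C₁ g = F ∧ conjBy C₂ g = A := by
    intro C₁ h1 C₂ h2 hne
    have horb : ∀ M ∈ membersIn S L, ∃ x ∈ K ⊔ D, M = conjBy A x := fun M hM => by
      rw [hmem, ← heq] at hM
      exact hM
    obtain ⟨y, hy, rfl⟩ := horb C₁ h1
    obtain ⟨z, hz, ez⟩ := horb F ⟨hF.1, le_sup_right⟩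
    set g := z * y⁻¹
    have hgKD : g ∈ K ⊔ D := mul_mem hz (inv_mem hy)
    have hg1 : conjBy (conjBy A y) g = F := by
      rw [conjBy_conjBy, inv_mul_cancel_right, ← ez]
    have hgN : g ∈ N := sup_le hKN hDN hgKD
    have hmem2 : conjBy C₂ g ∈ (fun k : G => conjBy A k) '' (K : Set G) ∪ {F} := by
      obtain ⟨x, hx, rfl⟩ := horb C₂ h2
      rw [← heq]
      exact ⟨g * x, mul_mem hgKD hx, conjBy_conjBy _ _ _⟩
    rcases hmem2 with ⟨k, hk, e⟩ | h
    · refine ⟨k⁻¹ * g, mul_mem (inv_mem (hKN hk)) hgN, ?_, ?_⟩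
      · rw [← conjBy_conjBy, hg1]
        exact conjBy_fix fun f hf =>
          (RootCommutatorCase.commute_right hAK (K.inv_mem hk) (htri.symm ▸ hf)).symm
      · rw [← conjBy_conjBy, ← e, conjBy_conjBy, inv_mul_cancel, conjBy_one]
    · exact absurd (conjBy_injective g (hg1.trans (Set.mem_singleton_iff.1 h).symm)) hne
  intro C₁ h1 C₂ h2 D₁ h3 D₂ h4 hC hD'
  obtain ⟨g, hg, eg1, eg2⟩ := key C₁ h1 C₂ h2 hC
  obtain ⟨g', hg', eg1', eg2'⟩ := key D₁ h3 D₂ h4 hD'
  refine ⟨g'⁻¹ * g, mul_mem (inv_mem hg') hg, ?_, ?_⟩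
  · rw [← conjBy_conjBy, eg1, ← eg1', conjBy_conjBy, inv_mul_cancel, conjBy_one]
  · rw [← conjBy_conjBy, eg2, ← eg2', conjBy_conjBy, inv_mul_cancel, conjBy_one]

end Cfsg.Agent.Fus.RootTI
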