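import Mathlib
import Cfsg.Agent.Lib.Fus.RootSeparator
import Cfsg.Agent.Lib.Fus.RootTI
import Cfsg.Agent.Lib.Fus.RootQuasi

/-!
Inclusions between the centralizing members, and between the rank one partners, of two members of
a class of abstract root subgroups.
-/

set_option autoImplicit false
set_option linter.style.haveILetI false

open scoped commutatorElement

namespace Cfsg.Agent.Fus.RootInclusion

open Subgroup RootSpecial RootTriangle

variable {G : Type*} [Group G] {S : Set (Subgroup G)} {A B C X Y : Subgroup G}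

theorem not_case_of_rank (hS : IsRootSubgroupSet S) (hB : B ∈ S) (h : IsRankOnePair A B) :
    ¬ RootCommutatorCase S A B := fun hc => by
  obtain ⟨a, ha, ha1⟩ := RankOne.exists_one_ne h
  exact RankOne.commutator_ne_bot h ((RankOne.mem_iff h).2 (Or.inr ⟨a, ha, rfl⟩))
    (RankOne.right_mem h) (fun e => ha1 (RankOne.eq_one_of_conjBy_eq h ha e))
    (RootCommutatorCase.commutator_conjBy_eq_bot hS hB hc ha)

theorem not_commute_of_rank (h : IsRankOnePair A B) : ⁅A, B⁆ ≠ ⊥ :=
  RankOne.commutator_ne_bot h (RankOne.self_mem A B) (RankOne.right_mem h) h.ne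

theorem mem_centralizing_iff :
    X ∈ centralizingMembers S A ↔ X ∈ S ∧ ⁅X, A⁆ = ⊥ :=
  and_congr_right fun _ => Subgroup.commutator_eq_bot_iff_le_centralizer.symm

theorem commutator_self (hS : IsRootSubgroupSet S) (hA : A ∈ S) : ⁅A, A⁆ = ⊥ :=
  Subgroup.commutator_eq_bot_iff_le_centralizer.2 fun _ hx =>
    Subgroup.mem_centralizer_iff.2 fun _ hy => IsRootSubgroupSet.commute hS hA hy hx

theorem case_conj (hS : IsRootSubgroupSet S) (hA : A ∈ S) (hB : B ∈ S)
    (h : RootCommutatorCase S A B) (g : G) :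
    RootCommutatorCase S (conjBy A g) (conjBy B g) :=
  rootCommutatorCase_of_mem hS (hS.conj_mem A hA g) (hS.conj_mem B hB g)
    (by rw [commutator_conjBy]; exact hS.conj_mem _ h.1 g)

theorem commutator_of_conj {X Y : Subgroup G} {g : G} (h : ⁅conjBy X g⁻¹, Y⁆ = ⊥) :
    ⁅X, conjBy Y g⁆ = ⊥ := by
  have := RootSep.commutator_conj_eq_bot g h
  rwa [conjBy_conjBy, mul_inv_cancel, conjBy_one] at this

/-- An inclusion of centralizing members is an equality. -/
theorem centralizing_eq (hcl : IsRootSubgroupClass S) (hA : A ∈ S) (hC : C ∈ S) (hne : A ≠ C)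
    (hns : ∀ Z ∈ S, ¬ IsIsolatedIn (FAdj S) S Z)
    (h : centralizingMembers S A ⊆ centralizingMembers S C) :
    centralizingMembers S A = centralizingMembers S C := by
  have hS := hcl.1
  have hsub : ∀ Z ∈ S, ⁅Z, A⁆ = ⊥ → ⁅Z, C⁆ = ⊥ := fun Z hZ hZA =>
    (mem_centralizing_iff.1 (h (mem_centralizing_iff.2 ⟨hZ, hZA⟩))).2
  have hAC : ⁅A, C⁆ = ⊥ := hsub A hA (commutator_self hS hA)
  refine h.antisymm fun Y hY => ?_
  obtain ⟨hYS, hYC⟩ := mem_centralizing_iff.1 hY
  refine mem_centralizing_iff.2 ⟨hYS, ?_⟩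
  obtain ⟨E, hE, hCE⟩ := not_isIsolatedIn (hns C hC) hC
  have hAE : IsRankOnePair A E := by
    rcases hS.pair A hA E hE with e | e | e
    · exact absurd (hsub E hE (by rwa [Subgroup.commutator_comm])) fun h' =>
        not_commute_of_rank (RankOnePair_symm hCE) h'
    · exact e
    · exfalso
      have hEA := RootCommutatorCase.symm' e
      have hcase := case_of_linePartner hS hC hE hA hCE (by rwa [Subgroup.commutator_comm]) hEA
      refine hS.ne_bot _ hcase.1 ?_
      rw [Subgroup.commutator_comm]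
      exact hsub _ hEA.1 (Subgroup.commutator_eq_bot_iff_le_centralizer.2 fun x hx =>
        Subgroup.mem_centralizer_iff.2 fun y hy => RootCommutatorCase.commute_right hEA hy hx)
  obtain ⟨a, ha, ha1⟩ := exists_mem_ne_one (hS.ne_bot A hA)
  obtain ⟨ε, hε, -, he⟩ := RankOne.exists_partner hAE ha ha1
  obtain ⟨M, hM1, hMmul, -, hMA, -, -, hid⟩ :=
    RootSep.translations hS hA hC hE hAE hCE hAC hne.symm ha ha1 hε he
  obtain ⟨m, hm⟩ : ∃ m, m = M ε := ⟨_, rfl⟩
  have hMinv : M ε⁻¹ = m⁻¹ := by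
    refine eq_inv_of_mul_eq_one_right ?_
    rw [hm, ← hMmul ε hε ε⁻¹ (E.inv_mem hε), mul_inv_cancel, hM1]
  rw [← hm] at hMA
  -- members commuting with `A` commute with `m⁻¹ A m`
  have key : ∀ Z ∈ S, ⁅Z, A⁆ = ⊥ → ⁅Z, conjBy A m⁻¹⁆ = ⊥ := by
    intro Z hZ hZA
    have hZC := hsub Z hZ hZA
    have hZC' : ∀ W ∈ S, ⁅W, C⁆ = ⊥ → ⁅W, conjBy C m⁆ = ⊥ := fun W hW hWC =>
      commutator_of_conj (hsub _ (hS.conj_mem W hW m⁻¹) (by
        have := RootSep.commutator_conj_eq_bot m⁻¹ hWC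
        rwa [← hMA, conjBy_conjBy, inv_mul_cancel, conjBy_one] at this))
    rw [Subgroup.commutator_comm]
    have hmem : M ε⁻¹ * a * (M ε⁻¹)⁻¹ ∈ conjBy A m⁻¹ := hMinv ▸ conj_mem_conjBy _ ha
    refine commutator_eq_bot_of_centralize hS (hS.conj_mem A hA _) hZ hmem
      (fun e => ha1 (conj_eq_one_iff.1 e)) fun z hz => ?_
    have hk := hid ε hε ε⁻¹ (E.inv_mem hε)
    rw [mul_inv_cancel, hM1, show ε * ε * ε⁻¹ = ε by group] at hk
    simp only [one_mul, inv_one, mul_one] at hk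
    obtain ⟨c, hc⟩ : ∃ c, c = M ε * a * (M ε)⁻¹ := ⟨_, rfl⟩
    obtain ⟨t, ht⟩ : ∃ t, t = M ε⁻¹ * a * (M ε⁻¹)⁻¹ := ⟨_, rfl⟩
    obtain ⟨u, hu⟩ : ∃ u, u = M (ε * ε) * a * (M (ε * ε))⁻¹ := ⟨_, rfl⟩
    rw [← hc, ← ht, ← hu] at hk
    rw [← ht]
    have hzc : ∀ {W : Subgroup G} {w : G}, ⁅Z, W⁆ = ⊥ → w ∈ W → Commute z w := fun hW hw =>
      commute_of_commutator_eq_bot hW hz hw
    have hza : Commute z a := hzc hZA ha
    have hzcc : Commute z c := hzc hZC (by rw [hc, ← hm, ← hMA]; exact conj_mem_conjBy _ ha)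
    have hzu : Commute z u := hzc (hZC' Z hZ hZC) (by
      rw [hu, hMmul ε hε ε hε, ← hm, ← hMA, conjBy_conjBy]; exact conj_mem_conjBy _ ha)
    have e : t = a * c⁻¹ * (c * u⁻¹)⁻¹ * (c * a⁻¹)⁻¹ * a := by
      conv_rhs => arg 1; arg 1; arg 1; arg 1; rw [hk]
      group
    rw [e]
    exact ((((hza.mul_right hzcc.inv_right).mul_right
      (hzcc.mul_right hzu.inv_right).inv_right).mul_right
      (hzcc.mul_right hza.inv_right).inv_right).mul_right hza).eq.symm
  have hY' : ⁅conjBy Y m⁻¹, A⁆ = ⊥ := by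
    have := RootSep.commutator_conj_eq_bot m⁻¹ hYC
    rwa [← hMA, conjBy_conjBy, inv_mul_cancel, conjBy_one] at this
  have := commutator_of_conj (key _ (hS.conj_mem Y hYS _) hY')
  rwa [conjBy_conjBy, mul_inv_cancel, conjBy_one] at this

/-- In a class with a commutator pair a member of `Ω_A ⊆ Ω_C` excludes the commutator case. -/
theorem not_case_of_subset (hcl : IsRootSubgroupClass S) (hnd : IsNondegenerateRootSet S)
    (hA : A ∈ S) (hC : C ∈ S) (h : rankOnePartners S A ⊆ rankOnePartners S C) :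
    ¬ RootCommutatorCase S A C := fun hAC => by
  have hS := hcl.1
  have hns : ∀ Z ∈ S, ¬ IsIsolatedIn (FAdj S) S Z := fun Z => not_isolated hcl hnd
  obtain ⟨K, hK⟩ : ∃ K : Subgroup G, K = ⁅A, C⁆ := ⟨_, rfl⟩
  have hKS : K ∈ S := hK ▸ hAC.1
  have hCA := RootCommutatorCase.symm' hAC
  have hKC : K ∈ linePartners S C := by
    rw [hK, Subgroup.commutator_comm]
    exact mem_linePartners_of_line hS hC (hns C hC) hA hCA ⟨hCA.1, le_sup_right⟩
      (RootCommutatorCase.ne_left hS hCA).symm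
  have hcase : ∀ Z ∈ rankOnePartners S A, RootCommutatorCase S Z K := by
    intro Z hZ
    obtain ⟨F, hF, hFC, hZF⟩ := exists_in_line hS hC hZ.1 (h hZ).2 hKC
    have hF' : F ∈ (fun a : G => conjBy C a) '' (A : Set G) ∪ {⁅C, A⁆} := by
      rw [← membersIn_line hS (hns C hC) hC hCA, Subgroup.commutator_comm, ← hK]
      exact hF
    rcases hF' with ⟨a, ha, e⟩ | e
    · exfalso
      change conjBy C a = F at e
      have h1 := isRankOnePair_conjBy hZ.2 a⁻¹
      rw [conjBy_eq_self_of_mem (A.inv_mem ha)] at h1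
      have h2 := isRankOnePair_conjBy (h ⟨hS.conj_mem Z hZ.1 _, h1⟩).2 a
      rw [conjBy_conjBy, mul_inv_cancel, conjBy_one, e] at h2
      exact not_case_of_rank hS hF.1 (RankOnePair_symm h2) hZF
    · rw [Set.mem_singleton_iff.1 e, Subgroup.commutator_comm, ← hK] at hZF
      exact hZF
  obtain ⟨Z, hZ, hAZ⟩ := not_isIsolatedIn (hns A hA) hA
  obtain ⟨D, hD, hKD, hKDe⟩ := exists_return hS hns hA hC hAC
  rw [← hK] at hKD hKDe
  obtain ⟨d, hd, hd1⟩ := exists_mem_ne_one (hS.ne_bot D hD.1.1)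
  obtain ⟨k, hk, hdk⟩ :=
    RootCommutatorCase.not_centralize hS (RootCommutatorCase.symm' hKD) hd hd1
  have hfixA : ∀ g ∈ D, conjBy A g = A := fun g hg =>
    RootTriangle.conjBy_fix fun x hx => commute_of_commutator_eq_bot hD.1.2.2 hx hg
  have haA : d * k * d⁻¹ * k⁻¹ ∈ A := by
    rw [← hKDe, Subgroup.commutator_comm]
    exact Subgroup.commutator_mem_commutator hd hk
  have ha1 : d * k * d⁻¹ * k⁻¹ ≠ 1 := fun e => hdk (mul_inv_eq_iff_eq_mul.1
    (mul_inv_eq_one.1 e))
  have hKA : K ≠ A := fun e => RootCommutatorCase.ne_left hS hAC (hK ▸ e.symm)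
  have hK' : ⁅K, conjBy K d⁆ = ⊥ := by
    rw [Subgroup.commutator_comm]
    exact RootCommutatorCase.commutator_conjBy_eq_bot hS hKS (RootCommutatorCase.symm' hKD) hd
  have hK'ne : conjBy K d ≠ K := fun e => hKA (eq_of_mem_inter hS (hns K hKS) hKS hA
    (K.mul_mem (e.le (conj_mem_conjBy d hk)) (K.inv_mem hk)) haA ha1)
  have hZK := hcase Z ⟨hZ, hAZ⟩
  have hZK' : RootCommutatorCase S Z (conjBy K d) := by
    have h1 : conjBy Z d⁻¹ ∈ rankOnePartners S A := by
      refine ⟨hS.conj_mem Z hZ _, ?_⟩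
      have := isRankOnePair_conjBy hAZ d⁻¹
      rwa [hfixA _ (D.inv_mem hd)] at this
    have h2 := case_conj hS (hS.conj_mem Z hZ _) hKS (hcase _ h1) d
    rwa [conjBy_conjBy, mul_inv_cancel, conjBy_one] at h2
  obtain ⟨z, hz, hz1⟩ := exists_mem_ne_one (hS.ne_bot Z hZ)
  obtain ⟨-, -, -, -, hnil⟩ := RootNil.root_nilpotent hS hKS hZ (hS.conj_mem K hKS d)
    (by rw [Subgroup.commutator_comm]; exact hZK.1) hZK'.1
    ⟨hS.conj_mem K hKS d, hK'ne, hK'⟩ hz hz1
  obtain ⟨R, hR⟩ : ∃ R : Subgroup G, R = K ⊔ Z ⊔ conjBy K d := ⟨_, rfl⟩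
  rw [← hR] at hnil
  have haR : d * k * d⁻¹ * k⁻¹ ∈ R := hR ▸ mul_mem
    (Subgroup.mem_sup_right (conj_mem_conjBy d hk))
    (Subgroup.mem_sup_left (Subgroup.mem_sup_left (K.inv_mem hk)))
  have hZR : Z ≤ R := hR ▸ le_sup_of_le_left le_sup_right
  have hle : A ⊔ Z ≤ R := by
    rw [← RankOne.sup_eq hAZ (RankOne.right_mem hAZ)
      ((RankOne.mem_iff hAZ).2 (Or.inr ⟨_, haA, rfl⟩))
      fun e => ha1 (RankOne.eq_one_of_conjBy_eq hAZ haA e.symm)]
    refine sup_le hZR ?_
    rintro _ ⟨y, hy, rfl⟩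
    exact mul_mem (mul_mem haR (hZR hy)) (inv_mem haR)
  have hspec := RootQuasi.abelianSpecial_subgroupOf
    (nondegenerate_special hcl hnd hA ⟨hZ, hAZ⟩).2 (hS.commutative A hA) (hS.commutative Z hZ)
  haveI := hnil
  exact RankOne.not_isNilpotent hspec.group
    (Group.nilpotent_of_mulEquiv (Subgroup.subgroupOfEquivOfLe hle))

/-- A rank one partner of `C` is not in the commutator case with `A` when `Ω_A ⊆ Ω_C`. -/
theorem not_case_partner (hcl : IsRootSubgroupClass S) (hnd : IsNondegenerateRootSet S)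
    (hA : A ∈ S) (hC : C ∈ S) (h : rankOnePartners S A ⊆ rankOnePartners S C)
    (hX : X ∈ S) (hXC : IsRankOnePair X C) : ¬ RootCommutatorCase S X A := fun hXA => by
  have hS := hcl.1
  have hns : ∀ Z ∈ S, ¬ IsIsolatedIn (FAdj S) S Z := fun Z => not_isolated hcl hnd
  obtain ⟨D, hD, hLD, hLDe⟩ := exists_return hS hns hX hA hXA
  obtain ⟨L, hL⟩ : ∃ L : Subgroup G, L = ⁅X, A⁆ := ⟨_, rfl⟩
  rw [← hL] at hLD hLDe
  have hpair : IsRankOnePair A D :=
    (rank_one_on_line hS hX hA hXA.1 hD.1.1 (by rw [← hL, Subgroup.commutator_comm, hLDe])).1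
  obtain ⟨F, hF, hFX, hCF⟩ := exists_in_line hS hX hC hXC hD
  have hDL := RootCommutatorCase.symm' hLD
  have hDLe : ⁅D, L⁆ = X := by rw [Subgroup.commutator_comm, hLDe]
  have hF' : F ∈ (fun l : G => conjBy D l) '' (L : Set G) ∪ {⁅D, L⁆} := by
    rw [← membersIn_line hS (hns D hD.1.1) hD.1.1 hDL, hDLe, sup_comm]
    exact hF
  rcases hF' with ⟨l, hl, e⟩ | e
  · change conjBy D l = F at e
    have hlA : conjBy A l = A := RootTriangle.conjBy_fix fun x hx =>
      RootCommutatorCase.commute_right hXA hx (hL ▸ hl)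
    have h2 := isRankOnePair_conjBy hpair l
    rw [hlA, e] at h2
    exact not_case_of_rank hS hF.1 (h ⟨hF.1, h2⟩).2 hCF
  · exact hFX ((Set.mem_singleton_iff.1 e).trans hDLe)

/-- In a non-degenerate class `Ω_A ⊆ Ω_C` forces equality. -/
theorem partners_eq (hcl : IsRootSubgroupClass S) (hnd : IsNondegenerateRootSet S)
    (hA : A ∈ S) (hC : C ∈ S) (hAC : ⁅A, C⁆ = ⊥)
    (h : rankOnePartners S A ⊆ rankOnePartners S C) :
    rankOnePartners S A = rankOnePartners S C := by
  have hS := hcl.1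
  have hns : ∀ Z ∈ S, ¬ IsIsolatedIn (FAdj S) S Z := fun Z => not_isolated hcl hnd
  refine h.antisymm fun X hX => ⟨hX.1, ?_⟩
  obtain ⟨hXS, hCX⟩ := hX
  have hXC := RankOnePair_symm hCX
  rcases hS.pair X hXS A hA with hXA | hXA | hXA
  swap
  · exact RankOnePair_symm hXA
  swap
  · exact absurd hXA (not_case_partner hcl hnd hA hC h hXS hXC)
  exfalso
  have hline : ∀ Y ∈ linePartners S X, ⁅Y, A⁆ = ⊥ := by
    intro Y hY
    obtain ⟨F, hF, hFX, hCF, hsup⟩ := RootTI.exists_spanning hS hns hXS hC hXC hY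
    have hcov : ∀ x ∈ X ⊔ Y, x ≠ 1 → ∃ M ∈ S, x ∈ M := fun x hx hx1 =>
      let ⟨M, hM, hxM⟩ := hY.2.2.1 x hx hx1; ⟨M, hM.1, hxM⟩
    have hXF : ⁅X, F⁆ = ⊥ := by
      refine Subgroup.commutator_eq_bot_iff_le_centralizer.2 fun x hx =>
        Subgroup.mem_centralizer_iff.2 fun y hy => ?_
      have hle : X ⊔ Y ≤ Subgroup.centralizer (X : Set G) := sup_le
        (fun z hz => Subgroup.mem_centralizer_iff.2 fun w hw =>
          IsRootSubgroupSet.commute hS hXS hw hz)
        fun z hz => Subgroup.mem_centralizer_iff.2 fun w hw =>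
          commute_of_commutator_eq_bot hY.1.2.2 hw hz
      exact (Subgroup.mem_centralizer_iff.1 (hle (hF.2 hy)) x hx).symm
    have hcase := case_of_linePartner hS hXS hC hF.1 hXC hXF hCF
    have htri := triangle hS hns hXS hC hF.1 hXC hXF hFX
      (fun x hx hx1 => hcov x (hsup ▸ hx) hx1) hCF
    obtain ⟨K, hK⟩ : ∃ K : Subgroup G, K = ⁅C, F⁆ := ⟨_, rfl⟩
    rw [← hK] at hcase htri
    have hmove : ∀ k ∈ K, ∀ x ∈ X, ∀ y ∈ A, Commute (k * x * k⁻¹) y := by
      intro k hk x hx y hy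
      refine commute_of_commutator_eq_bot ?_ (conj_mem_conjBy k hx) hy
      have hCk : conjBy C k = C := RootTriangle.conjBy_fix fun z hz =>
        RootCommutatorCase.commute_left hCF hz (hK ▸ hk)
      have hX'C : IsRankOnePair (conjBy X k) C := by
        have := isRankOnePair_conjBy hXC k
        rwa [hCk] at this
      have hX'S := hS.conj_mem X hXS k
      rcases hS.pair _ hX'S A hA with e | e | e
      · exact e
      · exfalso
        by_cases heq : conjBy X k = X
        · exact not_commute_of_rank (heq ▸ e) hXA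
        refine not_commute_of_line hS hX'S hA hXS e
          (RootCommutatorCase.commutator_conjBy_eq_bot hS hXS (RootCommutatorCase.symm' hcase) hk)
          (fun z hz hz1 => hcov z ?_ hz1) (fun e' => heq e'.symm) hXA
        have hle : conjBy X k ≤ X ⊔ Y := by
          rw [← hsup, ← htri]
          exact conjBy_le_line X K hk
        exact (sup_le hle le_sup_left : conjBy X k ⊔ X ≤ X ⊔ Y) hz
      · exact absurd e (not_case_partner hcl hnd hA hC h hX'S hX'C)
    have hFA : F ≤ Subgroup.centralizer (A : Set G) := by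
      rw [← htri]
      refine Subgroup.commutator_le.2 fun x hx k hk => Subgroup.mem_centralizer_iff.2 fun y hy => ?_
      have h1 : Commute x y := commute_of_commutator_eq_bot hXA hx hy
      have h2 := hmove k hk x⁻¹ (X.inv_mem hx) y hy
      have := h1.mul_left h2
      rw [commutatorElement_def, show x * k * x⁻¹ * k⁻¹ = x * (k * x⁻¹ * k⁻¹) by group]
      exact this.eq.symm
    exact Subgroup.commutator_eq_bot_iff_le_centralizer.2
      ((le_sup_right.trans hsup.ge).trans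
        (sup_le (Subgroup.commutator_eq_bot_iff_le_centralizer.1 hXA) hFA))
  have hgen := generated hcl hnd hXS (B := C) ⟨hC, hXC⟩
  have hle : (⊤ : Subgroup G) ≤ Subgroup.centralizer (A : Set G) := by
    rw [← hgen]
    refine sup_le (iSup₂_le fun Y hY => Subgroup.commutator_eq_bot_iff_le_centralizer.1
      (hline Y hY)) ?_
    rw [← Subgroup.commutator_eq_bot_iff_le_centralizer, Subgroup.commutator_comm]
    exact hAC
  obtain ⟨Z, hZ, hAZ⟩ := not_isIsolatedIn (hns A hA) hA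
  exact not_commute_of_rank (RankOnePair_symm hAZ)
    (Subgroup.commutator_eq_bot_iff_le_centralizer.2 (le_top.trans hle))

/-- The statement for a degenerate or non-degenerate class. -/
theorem inclusion (hcl : IsRootSubgroupClass S)
    (hdn : IsDegenerateRootSet S ∨ IsNondegenerateRootSet S) (hA : A ∈ S) (hC : C ∈ S)
    (hne : A ≠ C) :
    (centralizingMembers S A ⊆ centralizingMembers S C →
      centralizingMembers S A = centralizingMembers S C) ∧
    (rankOnePartners S A ⊆ rankOnePartners S C →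
      ⁅A, C⁆ = ⊥ ∧ rankOnePartners S A = rankOnePartners S C) := by
  obtain ⟨hS, -, hconj⟩ := id hcl
  by_cases hiso : ∀ P ∈ S, ∀ Q ∈ S, ¬ IsRankOnePair P Q
  · have hdeg : IsDegenerateRootSet S := hdn.resolve_right fun hnd => by
      obtain ⟨P, hP, Q, hQ, hPQ⟩ := hnd.2.1
      exact hiso P hP Q hQ hPQ
    have hall : ∀ P ∈ S, ∀ Q ∈ S, ⁅P, Q⁆ = ⊥ := fun P hP Q hQ =>
      ((hS.pair P hP Q hQ).resolve_right fun e => e.elim (hiso P hP Q hQ) (hdeg P hP Q hQ))
    exact ⟨fun h => h.antisymm fun X hX => mem_centralizing_iff.2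
      ⟨hX.1, hall X hX.1 A hA⟩, fun h => ⟨hall A hA C hC,
        h.antisymm fun X hX => absurd hX.2 (hiso C hC X hX.1)⟩⟩
  push Not at hiso
  obtain ⟨P, hP, Q, hQ, hPQ⟩ := hiso
  have hns : ∀ Z ∈ S, ¬ IsIsolatedIn (FAdj S) S Z := fun Z hZ => by
    obtain ⟨g, rfl⟩ := hconj P hP Z hZ
    exact not_isolated_conjBy hS (not_isolated_of_pair hP hQ hPQ) hP g
  refine ⟨centralizing_eq hcl hA hC hne hns, fun h => ?_⟩
  have hAC : ⁅A, C⁆ = ⊥ := by
    rcases hS.pair A hA C hC with e | e | e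
    · exact e
    · exact absurd rfl (h ⟨hC, e⟩).2.ne
    · rcases hdn with hd | hnd
      · exact absurd e (hd A hA C hC)
      · exact absurd e (not_case_of_subset hcl hnd hA hC h)
  refine ⟨hAC, ?_⟩
  rcases hdn with hd | hnd
  swap
  · exact partners_eq hcl hnd hA hC hAC h
  have hcm : ∀ {U V : Subgroup G}, U ∈ S → V ∈ S → ⁅V, U⁆ ≠ ⊥ → IsRankOnePair U V := by
    intro U V hU hV hne'
    rcases hS.pair U hU V hV with e | e | e
    · exact absurd (by rwa [Subgroup.commutator_comm]) hne'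
    · exact e
    · exact absurd e (hd U hU V hV)
  have hsub : centralizingMembers S C ⊆ centralizingMembers S A := fun X hX => by
    obtain ⟨hXS, hXC⟩ := mem_centralizing_iff.1 hX
    refine mem_centralizing_iff.2 ⟨hXS, by_contra fun hXA => ?_⟩
    exact not_commute_of_rank (RankOnePair_symm (h ⟨hXS, hcm hA hXS hXA⟩).2) hXC
  have heq := centralizing_eq hcl hC hA hne.symm hns hsub
  refine h.antisymm fun X hX => ⟨hX.1, hcm hA hX.1 fun e => ?_⟩
  exact not_commute_of_rank (RankOnePair_symm hX.2)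
    (mem_centralizing_iff.1 (heq.ge (mem_centralizing_iff.2 ⟨hX.1, e⟩))).2

end Cfsg.Agent.Fus.RootInclusion
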