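import Cfsg.Agent.Lib.Grp.OffenderSL2.Main
import Cfsg.Agent.Lib.Grp.HomogeneousDPi
import Cfsg.Agent.Lib.Grp.Coprime
import Mathlib

/-!
# Offenders of a group with one maximal overgroup of a Sylow subgroup: maximal intersections

`Sit p W Γ S M`: `Γ` acts faithfully on the elementary abelian `W`, a Sylow subgroup `S` lies in the unique
maximal subgroup `M`, no normal `p`-subgroup is nontrivial and `W` is generated by the conjugates of the
fixed vectors of `S`.  For `g ∉ M` the members (minimal offenders) common to `S` and `S^g` form `inter g`.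
-/

set_option autoImplicit false
set_option linter.unusedSectionVars false
set_option linter.style.haveILetI false

open scoped commutatorElement

namespace Cfsg.Agent.Fus.RootPair

open Subgroup Cfsg.Agent.Grp Cfsg.Agent.Grp.OffenderSL2

universe u

variable {G : Type u} [Group G]

/-- The measure of an offender. -/
noncomputable def meas (W A : Subgroup G) : ℕ := Nat.card A * Nat.card ↥(W ⊓ centralizer (A : Set G))

/-- A minimal offender. -/
structure Member (p : ℕ) (W Γ A : Subgroup G) : Prop where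
  le : A ≤ Γ
  ne : A ≠ ⊥
  pg : IsPGroup p A
  comm : ∀ x ∈ A, ∀ y ∈ A, x * y = y * x
  meas_ge : Nat.card W ≤ meas W A
  strict : ∀ A₀ : Subgroup G, A₀ ≤ A → A₀ ≠ ⊥ → A₀ ≠ A → meas W A₀ < meas W A

/-- The situation. -/
structure Sit (p : ℕ) (W Γ S M : Subgroup G) : Prop where
  wcomm : ∀ x ∈ W, ∀ y ∈ W, x * y = y * x
  wexp : ∀ x ∈ W, x ^ p = 1
  norm : ∀ g ∈ Γ, ∀ x ∈ W, g * x * g⁻¹ ∈ W
  faith : Γ ⊓ centralizer (W : Set G) = ⊥
  syl : Grp.IsSylowIn p S Γ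
  SM : S ≤ M
  MG : M ≤ Γ
  Mne : M ≠ Γ
  uniq : ∀ H : Subgroup G, S ≤ H → H ≤ Γ → H ≠ Γ → H ≤ M
  core : ∀ Q : Subgroup G, Q ≤ Γ → IsPGroup p Q → Γ ≤ normalizer (Q : Set G) → Q = ⊥
  span : W ≤ closure {w | ∃ g ∈ Γ, ∃ u ∈ W ⊓ centralizer (S : Set G), w = g * u * g⁻¹}
  moved : ¬ W ⊓ centralizer (S : Set G) ≤ centralizer (Γ : Set G)

theorem mem_fix {W A : Subgroup G} {w : G} :
    w ∈ W ⊓ centralizer (A : Set G) ↔ w ∈ W ∧ ∀ a ∈ A, a * w * a⁻¹ = w := by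
  rw [mem_inf, Config.mem_cent]

theorem cj_le {g : G} {H K : Subgroup G} : cj g H ≤ K ↔ ∀ h ∈ H, g * h * g⁻¹ ∈ K := by
  refine ⟨fun h x hx => h (conj_mem_cj g hx), fun h x hx => ?_⟩
  have := h _ (mem_cj.mp hx)
  rwa [show g * (g⁻¹ * x * g) * g⁻¹ = x by group] at this

theorem cj_inv_le {g : G} {H K : Subgroup G} (h : H ≤ cj g K) : cj g⁻¹ H ≤ K := by
  have := cj_mono g⁻¹ h
  rwa [cj_cj, inv_mul_cancel, cj_one] at this

theorem le_cj_inv {g : G} {H K : Subgroup G} (h : cj g H ≤ K) : H ≤ cj g⁻¹ K := by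
  have := cj_mono g⁻¹ h
  rwa [cj_cj, inv_mul_cancel, cj_one] at this

theorem cj_inj (g : G) : Function.Injective (cj g : Subgroup G → Subgroup G) := fun H K e => by
  have := congrArg (cj g⁻¹) e
  rwa [cj_cj, cj_cj, inv_mul_cancel, cj_one, cj_one] at this

theorem cj_eq_of_norm {g : G} {H : Subgroup G} (h : g ∈ normalizer (H : Set G)) : cj g H = H := by
  ext x
  rw [mem_cj, mem_normalizer_iff.mp h, show g * (g⁻¹ * x * g) * g⁻¹ = x by group]

theorem norm_of_cj {g : G} {H : Subgroup G} (h : cj g H = H) : g ∈ normalizer (H : Set G) := by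
  refine mem_normalizer_iff.mpr fun x => ?_
  have h1 := mem_cj (g := g) (H := H) (x := g * x * g⁻¹)
  rw [h, show g⁻¹ * (g * x * g⁻¹) * g = x by group] at h1
  exact h1.symm

theorem cj_normalizer {g : G} {H : Subgroup G} {a : G} (h : a ∈ normalizer (H : Set G)) :
    g * a * g⁻¹ ∈ normalizer ((cj g H : Subgroup G) : Set G) := by
  refine norm_of_cj ?_
  rw [cj_cj, show g * a * g⁻¹ * g = g * a by group, ← cj_cj, cj_eq_of_norm h]

/-- The join of a family. -/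
def jn (Φ : Set (Subgroup G)) : Subgroup G := ⨆ A ∈ Φ, A

theorem le_jn {Φ : Set (Subgroup G)} {A : Subgroup G} (h : A ∈ Φ) : A ≤ jn Φ := le_biSup (fun A => A) h

theorem jn_le {Φ : Set (Subgroup G)} {H : Subgroup G} (h : ∀ A ∈ Φ, A ≤ H) : jn Φ ≤ H := iSup₂_le h

theorem cj_jn (g : G) (Φ : Set (Subgroup G)) : cj g (jn Φ) = jn (cj g '' Φ) := by
  refine le_antisymm ?_ (jn_le ?_)
  · rw [cj, map_le_iff_le_comap]
    refine jn_le fun A hA => ?_
    rw [← map_le_iff_le_comap]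
    exact le_jn ⟨A, hA, rfl⟩
  · rintro _ ⟨A, hA, rfl⟩
    exact cj_mono g (le_jn hA)

/-- The members inside `H`. -/
def mems (p : ℕ) (W Γ H : Subgroup G) : Set (Subgroup G) := {A | Member p W Γ A ∧ A ≤ H}

variable [Finite G] {p : ℕ} [Fact p.Prime] {W Γ S M : Subgroup G} (C : Sit p W Γ S M)
include C

theorem Sit.cj_gamma {g : G} (hg : g ∈ Γ) : cj g Γ = Γ := cj_eq_of_norm (le_normalizer hg)

theorem Sit.cj_W {g : G} (hg : g ∈ Γ) : cj g W = W :=
  eq_of_le_of_card_ge (cj_le.mpr (C.norm g hg)) (card_cj g W).ge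

theorem Sit.cj_fix {g : G} (hg : g ∈ Γ) (A : Subgroup G) :
    cj g (W ⊓ centralizer (A : Set G)) = W ⊓ centralizer ((cj g A : Subgroup G) : Set G) := by
  ext w
  rw [mem_cj, mem_fix, mem_fix]
  constructor
  · rintro ⟨hw, h⟩
    refine ⟨(C.cj_W hg).le (mem_cj.mpr hw), fun a ha => ?_⟩
    have := h _ (mem_cj.mp ha)
    exact mul_left_cancel (mul_right_cancel ((by group :
      g⁻¹ * (a * w * a⁻¹) * g = g⁻¹ * a * g * (g⁻¹ * w * g) * (g⁻¹ * a * g)⁻¹).trans this))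
  · rintro ⟨hw, h⟩
    refine ⟨by simpa using C.norm g⁻¹ (inv_mem hg) w hw, fun a ha => ?_⟩
    calc a * (g⁻¹ * w * g) * a⁻¹ = g⁻¹ * ((g * a * g⁻¹) * w * (g * a * g⁻¹)⁻¹) * g := by group
      _ = _ := by rw [h _ (conj_mem_cj g ha)]

theorem Sit.meas_cj {g : G} (hg : g ∈ Γ) (A : Subgroup G) : meas W (cj g A) = meas W A := by
  rw [meas, meas, ← C.cj_fix hg, card_cj, card_cj]

theorem Sit.member_cj {g : G} (hg : g ∈ Γ) {A : Subgroup G} (hA : Member p W Γ A) :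
    Member p W Γ (cj g A) where
  le := (cj_mono g hA.le).trans (C.cj_gamma hg).le
  ne := fun e => hA.ne (cj_inj g (e.trans (Subgroup.map_bot _).symm))
  pg := hA.pg.map _
  comm := fun x hx y hy => by
    have := hA.comm _ (mem_cj.mp hx) _ (mem_cj.mp hy)
    exact mul_left_cancel (mul_right_cancel ((by group :
      g⁻¹ * (x * y) * g = g⁻¹ * x * g * (g⁻¹ * y * g)).trans (this.trans (by group))))
  meas_ge := by rw [C.meas_cj hg]; exact hA.meas_ge
  strict := fun A₀ h0 h1 h2 => by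
    have hle := cj_inv_le h0
    have e : meas W (cj g⁻¹ A₀) = meas W A₀ := C.meas_cj (inv_mem hg) A₀
    have := hA.strict _ hle (fun e' => h1 (cj_inj g⁻¹ (e'.trans (Subgroup.map_bot _).symm))) fun e' => h2 (by
      rw [← e', cj_cj, mul_inv_cancel, cj_one])
    rwa [C.meas_cj hg, ← e]

theorem Sit.mems_cj {g : G} (hg : g ∈ Γ) (H : Subgroup G) :
    mems p W Γ (cj g H) = cj g '' mems p W Γ H := by
  ext A
  constructor
  · rintro ⟨hA, hle⟩
    exact ⟨cj g⁻¹ A, ⟨C.member_cj (inv_mem hg) hA, cj_inv_le hle⟩, by rw [cj_cj, mul_inv_cancel, cj_one]⟩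
  · rintro ⟨B, ⟨hB, hle⟩, rfl⟩
    exact ⟨C.member_cj hg hB, cj_mono g hle⟩

theorem Sit.eq_gamma_of_le {H : Subgroup G} (hSH : S ≤ H) (hH : H ≤ Γ) (h : ¬ H ≤ M) : H = Γ := by
  by_contra hne
  exact h (C.uniq H hSH hH hne)

/-- A fixed vector of `S` outside the fixed space of `Γ`. -/
theorem Sit.exists_vec : ∃ u, u ∈ W ⊓ centralizer (S : Set G) ∧ u ∉ centralizer (Γ : Set G) :=
  SetLike.not_le_iff_exists.mp C.moved

/-- What fixes such a vector lies in `M`. -/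
theorem Sit.mem_of_fix {u g : G} (hu : u ∈ W ⊓ centralizer (S : Set G)) (huG : u ∉ centralizer (Γ : Set G))
    (hg : g ∈ Γ) (h : g * u * g⁻¹ = u) : g ∈ M := by
  obtain ⟨H, hH⟩ : ∃ H, H = Γ ⊓ centralizer ({u} : Set G) := ⟨_, rfl⟩
  have hgH : g ∈ H := hH ▸ ⟨hg, mem_centralizer_singleton_iff.mpr (mul_inv_eq_iff_eq_mul.mp h)⟩
  refine C.uniq H ?_ (hH ▸ inf_le_left) ?_ hgH
  · rw [hH]
    exact le_inf C.syl.1 fun s hs => mem_centralizer_singleton_iff.mpr
      (mem_centralizer_iff.mp hu.2 s hs)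
  · intro e
    refine huG (mem_centralizer_iff.mpr fun x hx => ?_)
    exact mem_centralizer_singleton_iff.mp ((hH ▸ e.ge) hx).2

/-- Normalisers of nontrivial `p`-groups normalised by `S` lie in `M`. -/
theorem Sit.norm_le {Q : Subgroup G} (hQ : Q ≤ Γ) (hp : IsPGroup p Q) (hne : Q ≠ ⊥)
    (hS : S ≤ normalizer (Q : Set G)) : Γ ⊓ normalizer (Q : Set G) ≤ M :=
  C.uniq _ (le_inf C.syl.1 hS) inf_le_left fun e => hne (C.core Q hQ hp (e.ge.trans inf_le_right))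

/-- A `p`-subgroup of `g M g⁻¹` lies in some `S^{gm}`. -/
theorem Sit.into_sylow {g : G} {Q : Subgroup G} (hQ : Q ≤ cj g M) (hp : IsPGroup p Q) :
    ∃ m ∈ M, Q ≤ cj (g * m) S := by
  have hsyl : Grp.IsSylowIn p S M := ⟨C.SM, C.syl.2.1, fun h => C.syl.2.2
    (h.trans ⟨_, (relIndex_mul_relIndex S M Γ C.SM C.MG).symm⟩)⟩
  have hpj : IsPGroup p ↥(cj g⁻¹ Q) := hp.map _
  obtain ⟨S1, hS1, hle⟩ := HomDPi.exists_isSylowIn_ge (q := p) (cj_inv_le hQ) hpj
  obtain ⟨m, hm, he⟩ := hsyl.conj hS1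
  refine ⟨m, hm, ?_⟩
  have h1 := cj_mono g hle
  rw [cj_cj, mul_inv_cancel, cj_one, ← he, ← map_conj_eq_smul] at h1
  rw [← cj_cj]
  exact h1

theorem Sit.S_le_cj {g : G} (hg : g ∈ Γ) : cj g S ≤ Γ := (cj_mono g C.syl.1).trans (C.cj_gamma hg).le

theorem Sit.pS (g : G) : IsPGroup p ↥(cj g S) := C.syl.2.1.map _

/-- The members common to `S` and `S^g`. -/
def inter (p : ℕ) (W Γ S : Subgroup G) (g : G) : Set (Subgroup G) := mems p W Γ S ∩ mems p W Γ (cj g S)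

/-- An element with the largest intersection. -/
structure Top (p : ℕ) (W Γ S M : Subgroup G) (g : G) : Prop where
  mem : g ∈ Γ
  notM : g ∉ M
  max : ∀ h ∈ Γ, h ∉ M → (inter p W Γ S h).ncard ≤ (inter p W Γ S g).ncard

theorem Sit.exists_top : ∃ g, Top p W Γ S M g := by
  obtain ⟨g0, hg0, hg0M⟩ := SetLike.not_le_iff_exists.mp fun h => C.Mne (le_antisymm C.MG h)
  obtain ⟨g, hg, hmax⟩ := Set.exists_max_image {h : G | h ∈ Γ ∧ h ∉ M}
    (fun h => (inter p W Γ S h).ncard) (Set.toFinite _) ⟨g0, hg0, hg0M⟩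
  exact ⟨g, hg.1, hg.2, fun h h1 h2 => hmax h ⟨h1, h2⟩⟩

/-- More than the maximum forces the coset. -/
theorem Sit.glue {g a b : G} (hT : Top p W Γ S M g) (ha : a ∈ Γ) (hb : b ∈ Γ) {Φ : Set (Subgroup G)}
    (h1 : Φ ⊆ mems p W Γ (cj a S)) (h2 : Φ ⊆ mems p W Γ (cj b S))
    (hlt : (inter p W Γ S g).ncard < Φ.ncard) : a⁻¹ * b ∈ M := by
  by_contra hc
  refine absurd (hT.max _ (mul_mem (inv_mem ha) hb) hc) (not_le.mpr (hlt.trans_le ?_))
  rw [← Set.ncard_image_of_injective Φ (cj_inj a⁻¹)]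
  refine Set.ncard_le_ncard ?_ (Set.toFinite _)
  rintro _ ⟨A, hA, rfl⟩
  refine ⟨⟨C.member_cj (inv_mem ha) (h1 hA).1, cj_inv_le (h1 hA).2⟩,
    C.member_cj (inv_mem ha) (h1 hA).1, ?_⟩
  rw [← cj_cj]
  exact cj_mono a⁻¹ (h2 hA).2

/-- The subgroup generated by the common members. -/
def delta (p : ℕ) (W Γ S : Subgroup G) (g : G) : Subgroup G := jn (inter p W Γ S g)

/-- Its normaliser. -/
def loc (p : ℕ) (W Γ S : Subgroup G) (g : G) : Subgroup G :=
  Γ ⊓ normalizer ((delta p W Γ S g : Subgroup G) : Set G)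

theorem Sit.delta_le (g : G) : delta p W Γ S g ≤ S := jn_le fun _ h => h.1.2

theorem Sit.delta_le' (g : G) : delta p W Γ S g ≤ cj g S := jn_le fun _ h => h.2.2

theorem Sit.delta_gamma (g : G) : delta p W Γ S g ≤ Γ := (C.delta_le g).trans C.syl.1

theorem Sit.delta_le_loc (g : G) : delta p W Γ S g ≤ loc p W Γ S g :=
  le_inf (C.delta_gamma g) le_normalizer

theorem Sit.mem_inter_iff {g : G} {A : Subgroup G} :
    A ∈ inter p W Γ S g ↔ Member p W Γ A ∧ A ≤ delta p W Γ S g :=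
  ⟨fun h => ⟨h.1.1, le_jn h⟩, fun h => ⟨⟨h.1, h.2.trans (C.delta_le g)⟩, h.1, h.2.trans (C.delta_le' g)⟩⟩

theorem Sit.inter_conj {g n : G} (hn : n ∈ loc p W Γ S g) {A : Subgroup G} (hA : A ∈ inter p W Γ S g) :
    cj n A ∈ inter p W Γ S g := by
  rw [C.mem_inter_iff] at hA ⊢
  exact ⟨C.member_cj hn.1 hA.1, (cj_mono n hA.2).trans (cj_eq_of_norm hn.2).le⟩

theorem Sit.mems_ne_inter {g : G} (hT : Top p W Γ S M g) (hne : (mems p W Γ S).Nonempty) :
    ¬ mems p W Γ S ⊆ inter p W Γ S g := by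
  intro hsub
  obtain ⟨A0, hA0⟩ := hne
  obtain ⟨E, hE⟩ : ∃ E, E = jn (mems p W Γ S) := ⟨_, rfl⟩
  have hEg : cj g E = E := by
    rw [hE, cj_jn, ← C.mems_cj hT.mem]
    congr 1
    refine (Set.eq_of_subset_of_ncard_le (fun A hA => (hsub hA).2) ?_ (Set.toFinite _)).symm
    rw [C.mems_cj hT.mem, Set.ncard_image_of_injective _ (cj_inj g)]
  refine hT.notM (C.norm_le (Q := E) ?_ ?_ ?_ ?_ ⟨hT.mem, norm_of_cj hEg⟩)
  · exact hE ▸ jn_le fun A hA => hA.1.le
  · exact C.syl.2.1.to_le (hE ▸ jn_le fun A hA => hA.2)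
  · exact fun e => hA0.1.ne (le_bot_iff.mp (e ▸ hE ▸ le_jn hA0))
  · intro s hs
    refine norm_of_cj ?_
    rw [hE, cj_jn, ← C.mems_cj (C.syl.1 hs), cj_eq_of_norm (le_normalizer hs)]

/-- Some member of a Sylow subgroup above `inter g` normalises it and is not in it. -/
theorem Sit.exists_extra {g : G} (hT : Top p W Γ S M g) {R : Subgroup G} (hR : IsPGroup p R)
    (hsub : ∀ A ∈ inter p W Γ S g, A ≤ R) (hne : ¬ mems p W Γ R ⊆ inter p W Γ S g) (hRG : R ≤ Γ) :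
    ∃ A ∈ mems p W Γ R, A ∉ inter p W Γ S g ∧ A ≤ loc p W Γ S g := by
  by_contra hc
  push Not at hc
  obtain ⟨Q, hQ⟩ : ∃ Q, Q = R ⊓ loc p W Γ S g := ⟨_, rfl⟩
  have hmem : ∀ A, A ∈ mems p W Γ Q ↔ A ∈ inter p W Γ S g := fun A => by
    constructor
    · rintro ⟨hA, hle⟩
      rw [hQ] at hle
      by_contra hn
      exact hc A ⟨hA, hle.trans inf_le_left⟩ hn (hle.trans inf_le_right)
    · intro hA
      exact ⟨hA.1.1, hQ ▸ le_inf (hsub A hA) ((le_jn hA).trans (C.delta_le_loc g))⟩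
  have hQR : Q = R := by
    by_contra hne'
    have : Group.IsNilpotent ↥R := hR.isNilpotent
    have hlt : Q.subgroupOf R < ⊤ := lt_top_iff_ne_top.mpr fun e =>
      hne' (le_antisymm (hQ ▸ inf_le_left) (subgroupOf_eq_top.mp e))
    obtain ⟨r, hr, hrn⟩ := SetLike.exists_of_lt (normalizerCondition_of_isNilpotent (G := ↥R) _ hlt)
    refine hrn (mem_subgroupOf.mpr ?_)
    have hrN : cj (r : G) Q = Q := by
      refine eq_of_le_of_card_ge (cj_le.mpr fun x hx => ?_) (card_cj _ _).ge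
      have hx' : x ∈ R := (hQ.le hx).1
      exact mem_subgroupOf.mp ((mem_normalizer_iff.mp hr ⟨x, hx'⟩).mp (mem_subgroupOf.mpr hx))
    have hset : inter p W Γ S g = mems p W Γ Q := Set.ext fun A => (hmem A).symm
    rw [hQ]
    refine ⟨r.2, hRG r.2, norm_of_cj ?_⟩
    rw [delta, hset, cj_jn, ← C.mems_cj (hRG r.2), hrN]
  exact hne fun A hA => (hmem A).mp ⟨hA.1, hQR ▸ hA.2⟩

end Cfsg.Agent.Fus.RootPair
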