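import Cfsg.Agent.Lib.Fus.RootPairBasic

/-!
# A member outside a maximal intersection generates `SL₂` with a conjugate
-/

set_option autoImplicit false
set_option linter.unusedSectionVars false
set_option linter.style.haveILetI false

open scoped commutatorElement

namespace Cfsg.Agent.Fus.RootPair

open Subgroup Cfsg.Agent.Grp Cfsg.Agent.Grp.OffenderSL2

universe u

variable {G : Type u} [Group G]

/-- A member of `S` normalising a maximal intersection but not in it. -/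
structure Ext (p : ℕ) (W Γ S M : Subgroup G) (g : G) (A : Subgroup G) : Prop where
  top : Top p W Γ S M g
  mem : Member p W Γ A
  leS : A ≤ S
  notin : A ∉ inter p W Γ S g
  leLoc : A ≤ loc p W Γ S g

/-- The generating pair and its properties. -/
structure Pr (p : ℕ) (W Γ S M : Subgroup G) (g : G) (A : Subgroup G) (x : G) (T : Subgroup G) : Prop where
  xloc : x ∈ loc p W Γ S g
  xM : x ∉ M
  xP : x ∈ A ⊔ cj x A
  conf : Config p W (A ⊔ cj x A) A (M ⊓ (A ⊔ cj x A)) T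

variable [Finite G] {p : ℕ} [Fact p.Prime] {W Γ S M : Subgroup G} (C : Sit p W Γ S M)
include C

theorem Sit.fix_of_le {g u : G} (hu : u ∈ W ⊓ centralizer (S : Set G)) {q : G} (hq : q ∈ cj g S) :
    q * (g * u * g⁻¹) * q⁻¹ = g * u * g⁻¹ := by
  have h := (mem_fix.mp hu).2 _ (mem_cj.mp hq)
  calc q * (g * u * g⁻¹) * q⁻¹ = g * ((g⁻¹ * q * g) * u * (g⁻¹ * q * g)⁻¹) * g⁻¹ := by group
    _ = _ := by rw [h]

theorem Sit.pgroup_delta_sup {g : G} {Q : Subgroup G} (hQ : IsPGroup p Q) (hle : Q ≤ loc p W Γ S g) :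
    IsPGroup p ↥(delta p W Γ S g ⊔ Q) := by
  rw [sup_comm]
  exact hQ.to_sup_of_normal_right' (C.syl.2.1.to_le (C.delta_le g)) (hle.trans inf_le_right)

theorem Sit.loc_not_le {g : G} (hT : Top p W Γ S M g) (hne : (mems p W Γ S).Nonempty) :
    ¬ loc p W Γ S g ≤ M := by
  intro hle
  have hRne : ¬ mems p W Γ (cj g S) ⊆ inter p W Γ S g := by
    intro hsub
    refine C.mems_ne_inter hT hne fun A hA => ?_
    have hcard : (mems p W Γ (cj g S)).ncard = (mems p W Γ S).ncard := by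
      rw [C.mems_cj hT.mem, Set.ncard_image_of_injective _ (cj_inj g)]
    have he : inter p W Γ S g = mems p W Γ S :=
      Set.eq_of_subset_of_ncard_le (fun B hB => hB.1)
        (hcard ▸ Set.ncard_le_ncard hsub (Set.toFinite _)) (Set.toFinite _)
    exact he ▸ hA
  obtain ⟨B, hB, hBn, hBl⟩ := C.exists_extra hT (C.pS g) (fun A hA => hA.2.2) hRne (C.S_le_cj hT.mem)
  obtain ⟨m, hm, hmle⟩ := C.into_sylow (g := 1) (Q := delta p W Γ S g ⊔ B)
    (by rw [cj_one]; exact sup_le ((C.delta_le g).trans C.SM) (hBl.trans hle))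
    (C.pgroup_delta_sup hB.1.pg hBl)
  rw [one_mul] at hmle
  have h := C.glue hT hT.mem (C.MG hm) (Φ := insert B (inter p W Γ S g))
    (Set.insert_subset hB fun A hA => hA.2)
    (Set.insert_subset ⟨hB.1, le_sup_right.trans hmle⟩ fun A hA => ⟨hA.1.1, (le_jn hA).trans (le_sup_left.trans hmle)⟩)
    (by rw [Set.ncard_insert_of_notMem hBn (Set.toFinite _)]; omega)
  refine hT.notM ?_
  have := M.mul_mem hm (M.inv_mem h)
  simpa using this

variable {g : G} {A : Subgroup G} (E : Ext p W Γ S M g A)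
include E

theorem Ext.key {a b : G} (ha : a ∈ Γ) (hb : b ∈ Γ) (h1 : delta p W Γ S g ≤ cj a S) (h2 : A ≤ cj a S)
    (h3 : delta p W Γ S g ≤ cj b S) (h4 : A ≤ cj b S) : a⁻¹ * b ∈ M :=
  C.glue E.top ha hb (Φ := insert A (inter p W Γ S g))
    (Set.insert_subset ⟨E.mem, h2⟩ fun _ hB => ⟨hB.1.1, (le_jn hB).trans h1⟩)
    (Set.insert_subset ⟨E.mem, h4⟩ fun _ hB => ⟨hB.1.1, (le_jn hB).trans h3⟩)
    (by rw [Set.ncard_insert_of_notMem E.notin (Set.toFinite _)]; omega)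

/-- If `A` fixes a point whose Sylow subgroup contains the intersection, the point is the first one. -/
theorem Ext.fix_coset {h u : G} (hu : u ∈ W ⊓ centralizer (S : Set G)) (huG : u ∉ centralizer (Γ : Set G))
    (hh : h ∈ Γ) (hd : delta p W Γ S g ≤ cj h S)
    (hfix : ∀ a ∈ A, a * (h * u * h⁻¹) * a⁻¹ = h * u * h⁻¹) : h ∈ M := by
  have hQ : delta p W Γ S g ⊔ A ≤ cj h M := by
    refine sup_le (hd.trans (cj_mono h C.SM)) fun a ha => mem_cj.mpr ?_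
    refine C.mem_of_fix hu huG (mul_mem (mul_mem (inv_mem hh) (E.mem.le ha)) hh) ?_
    calc h⁻¹ * a * h * u * (h⁻¹ * a * h)⁻¹ = h⁻¹ * (a * (h * u * h⁻¹) * a⁻¹) * h := by group
      _ = u := by rw [hfix a ha]; group
  obtain ⟨m, hm, hle⟩ := C.into_sylow hQ (C.pgroup_delta_sup E.mem.pg E.leLoc)
  have h1 := E.key C (a := 1) (b := h * m) (one_mem _) (mul_mem hh (C.MG hm))
    (by rw [cj_one]; exact C.delta_le g) (by rw [cj_one]; exact E.leS)
    (le_sup_left.trans hle) (le_sup_right.trans hle)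
  rw [inv_one, one_mul] at h1
  simpa using M.mul_mem h1 (M.inv_mem hm)

theorem Ext.conj_mem {y : G} (hy : y ∈ loc p W Γ S g) (h : cj y A ≤ M) : y ∈ M := by
  have hl : cj y A ≤ loc p W Γ S g := (cj_mono y E.leLoc).trans (cj_eq_of_norm (le_normalizer hy)).le
  have hp : IsPGroup p ↥(cj y A) := E.mem.pg.map _
  obtain ⟨m, hm, hle⟩ := C.into_sylow (g := 1) (Q := delta p W Γ S g ⊔ cj y A)
    (by rw [cj_one]; exact sup_le ((C.delta_le g).trans C.SM) h) (C.pgroup_delta_sup hp hl)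
  rw [one_mul] at hle
  have hd : delta p W Γ S g ≤ cj y S :=
    (cj_eq_of_norm hy.2).ge.trans (cj_mono y (C.delta_le g))
  have h1 : y⁻¹ * m ∈ M := C.glue E.top hy.1 (C.MG hm) (Φ := insert (cj y A) (inter p W Γ S g))
    (Set.insert_subset ⟨C.member_cj hy.1 E.mem, cj_mono y E.leS⟩ fun _ hB => ⟨hB.1.1, (le_jn hB).trans hd⟩)
    (Set.insert_subset ⟨C.member_cj hy.1 E.mem, le_sup_right.trans hle⟩
      fun _ hB => ⟨hB.1.1, (le_jn hB).trans (le_sup_left.trans hle)⟩)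
    (by
      rw [Set.ncard_insert_of_notMem (fun hc => E.notin ?_) (Set.toFinite _)]
      · omega
      · have := C.inter_conj (inv_mem hy) hc
        rwa [cj_cj, inv_mul_cancel, cj_one] at this)
  simpa using M.mul_mem hm (M.inv_mem h1)

/-- A generating pair inside every subgroup of the local group not inside `M`. -/
theorem Ext.exists_pr {N' : Subgroup G} (hN' : N' ≤ loc p W Γ S g) (hA : A ≤ N') (hnM : ¬ N' ≤ M) :
    ∃ x T, x ∈ N' ∧ Pr p W Γ S M g A x T := by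
  classical
  have hcj : ∀ {y : G}, y ∈ N' → cj y A ≤ N' := fun hy => (cj_mono _ hA).trans (cj_eq_of_norm (le_normalizer hy)).le
  obtain ⟨x0, hx0⟩ := SetLike.not_le_iff_exists.mp hnM
  obtain ⟨x1, ⟨hx1, hx1M⟩, hmin⟩ := Set.exists_min_image {y : G | y ∈ N' ∧ y ∉ M}
    (fun y => Nat.card ↥(A ⊔ cj y A)) (Set.toFinite _) ⟨x0, hx0⟩
  obtain ⟨P, hP⟩ : ∃ P, P = A ⊔ cj x1 A := ⟨_, rfl⟩
  have hPN : P ≤ N' := hP ▸ sup_le hA (hcj hx1)
  obtain ⟨x, hxP, hxM⟩ : ∃ x ∈ P, x ∉ M := by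
    obtain ⟨b, hb, hbM⟩ := SetLike.not_le_iff_exists.mp fun h => hx1M (E.conj_mem C (hN' hx1) h)
    exact ⟨b, hP ▸ (le_sup_right : cj x1 A ≤ A ⊔ cj x1 A) hb, hbM⟩
  have hAP : A ≤ P := hP ▸ le_sup_left
  have hgen : ∀ z ∈ P, z ∉ M → A ⊔ cj z A = P := fun z hz hzM =>
    eq_of_le_of_card_ge (sup_le hAP ((cj_mono z hAP).trans (cj_eq_of_norm (le_normalizer hz)).le))
      (hP ▸ hmin z ⟨hPN hz, hzM⟩)
  have hPx := hgen x hxP hxM
  have hPΓ : P ≤ Γ := (hPN.trans hN').trans inf_le_left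
  obtain ⟨T, hT, hAT⟩ := HomDPi.exists_isSylowIn_ge (q := p) (K := M ⊓ P)
    (le_inf (E.leS.trans C.SM) hAP) E.mem.pg
  have hTloc : T ≤ loc p W Γ S g := hT.1.trans (inf_le_right.trans (hPN.trans hN'))
  refine ⟨x, T, hPN hxP, hN' (hPN hxP), hxM, hPx.symm ▸ hxP, ?_⟩
  rw [hPx]
  refine ⟨C.wcomm, C.wexp, fun a ha => C.norm a (hPΓ ha), E.mem.comm, hAT, hT.1, inf_le_right,
    ⟨x, hxP, fun h => hxM h.1⟩, hT.2.1, ?_, ?_, E.mem.meas_ge, E.mem.strict,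
    fun z hz hzM => hgen z hz fun h => hzM ⟨h, hz⟩, ?_⟩
  · intro Q hQ hQp
    obtain ⟨S1, hS1, hle⟩ := HomDPi.exists_isSylowIn_ge (q := p) hQ hQp
    obtain ⟨k, hk, he⟩ := hT.conj hS1
    exact ⟨k, hk, hle.trans (by rw [← he, ← map_conj_eq_smul]; rfl)⟩
  · obtain ⟨T2, hT2, hTT2⟩ := HomDPi.exists_isSylowIn_ge (q := p) (hT.1.trans inf_le_right) hT.2.1
    suffices he : T = T2 by rw [he]; exact hT2.2.2
    by_contra hne
    have : Group.IsNilpotent ↥T2 := hT2.2.1.isNilpotent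
    have hlt : T.subgroupOf T2 < ⊤ := lt_top_iff_ne_top.mpr fun e =>
      hne (le_antisymm hTT2 (subgroupOf_eq_top.mp e))
    obtain ⟨r, hr, hrn⟩ := SetLike.exists_of_lt (normalizerCondition_of_isNilpotent (G := ↥T2) _ hlt)
    have hrT : ∀ t ∈ T, (r : G) * t * (r : G)⁻¹ ∈ T := fun t ht =>
      mem_subgroupOf.mp ((mem_normalizer_iff.mp hr ⟨t, hTT2 ht⟩).mp (mem_subgroupOf.mpr ht))
    have hrP : (r : G) ∈ P := hT2.1 r.2
    have hrM : (r : G) ∈ M := E.conj_mem C (hN' (hPN hrP))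
      ((cj_le.mpr fun a ha => hrT a (hAT ha)).trans (hT.1.trans inf_le_left))
    have := hT.eq_of_le (Y := T2 ⊓ (M ⊓ P)) (le_inf hTT2 hT.1) inf_le_right (hT2.2.1.to_le inf_le_left)
    exact hrn (mem_subgroupOf.mpr (this.symm ▸ ⟨r.2, hrM, hrP⟩))
  · obtain ⟨m, hm, hle⟩ := C.into_sylow (g := 1) (Q := delta p W Γ S g ⊔ T)
      (by rw [cj_one]; exact sup_le ((C.delta_le g).trans C.SM) (hT.1.trans inf_le_left))
      (C.pgroup_delta_sup hT.2.1 hTloc)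
    rw [one_mul] at hle
    obtain ⟨u, hu, huG⟩ := C.exists_vec
    refine ⟨m * u * m⁻¹, C.norm m (C.MG hm) u hu.1,
      Config.mem_cent.mpr fun t ht => C.fix_of_le hu (le_sup_right.trans hle ht), fun hc => hxM ?_⟩
    have h1 := Config.mem_cent.mp hc x hxP
    have h2 : m⁻¹ * x * m ∈ M := C.mem_of_fix hu huG
      (mul_mem (mul_mem (inv_mem (C.MG hm)) (hPΓ hxP)) (C.MG hm)) (by
        calc m⁻¹ * x * m * u * (m⁻¹ * x * m)⁻¹ = m⁻¹ * (x * (m * u * m⁻¹) * x⁻¹) * m := by group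
          _ = u := by rw [h1]; group)
    simpa [mul_assoc] using M.mul_mem (M.mul_mem hm h2) (M.inv_mem hm)

variable {x : G} {T : Subgroup G} (Q : Pr p W Γ S M g A x T)
include Q

theorem Pr.xΓ : x ∈ Γ := Q.xloc.1

theorem Pr.xnot : x ∉ M ⊓ (A ⊔ cj x A) := fun h => Q.xM h.1

theorem Pr.cards :
    Nat.card ↥(W ⊓ centralizer (A : Set G)) =
      Nat.card A * Nat.card ↥(W ⊓ centralizer ((A ⊔ cj x A : Subgroup G) : Set G)) ∧
    Nat.card W = Nat.card A * Nat.card ↥(W ⊓ centralizer (A : Set G)) :=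
  ⟨(Q.conf.cards Q.xP (Q.xnot C E)).1, (Q.conf.cards Q.xP (Q.xnot C E)).2.1⟩

theorem Pr.z_le : W ⊓ centralizer ((A ⊔ cj x A : Subgroup G) : Set G) ≤ W ⊓ centralizer (A : Set G) :=
  inf_le_inf le_rfl (centralizer_le (SetLike.coe_subset_coe.mpr (le_sup_left (b := cj x A))))

/-- Regularity. -/
theorem Pr.reg {a w : G} (ha : a ∈ A) (ha1 : a ≠ 1) (hw : w ∈ W)
    (h : ⁅a, w⁆ ∈ W ⊓ centralizer ((A ⊔ cj x A : Subgroup G) : Set G)) :
    w ∈ W ⊓ centralizer (A : Set G) := by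
  obtain ⟨-, -, hsup, -⟩ := Q.conf.cards Q.xP (Q.xnot C E)
  have hx' := Q.conf.point_le Q.xP
  obtain ⟨w1, hw1, w2, hw2, rfl⟩ := exists_mul_of_comm
    (fun a (ha : a ∈ W ⊓ centralizer (A : Set G)) b hb => C.wcomm a ha.1 b (hx' hb)) (hsup.ge hw)
  rw [Q.conf.comm_mul_right (le_sup_left (b := cj x A) ha) hw1.1 (hx' hw2),
    show ⁅a, w1⁆ = 1 by rw [commutatorElement_def, (mem_fix.mp hw1).2 a ha, mul_inv_cancel], one_mul] at h
  refine mul_mem hw1 (Q.z_le C E ?_)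
  by_contra hn
  exact ha1 (Q.conf.regular Q.xP (Q.xnot C E) hw2 hn ha h)

theorem Pr.reg_fix {a w : G} (ha : a ∈ A) (ha1 : a ≠ 1) (hw : w ∈ W) (h : a * w * a⁻¹ = w) :
    ∀ b ∈ A, b * w * b⁻¹ = w :=
  (mem_fix.mp (Q.reg C E ha ha1 hw (by rw [commutatorElement_def, h, mul_inv_cancel]; exact one_mem _))).2

theorem Pr.meas_eq : meas W A = Nat.card W := (Q.cards C E).2.symm

/-- The cosets of the local group. -/
theorem Pr.point {h : G} (hh : h ∈ loc p W Γ S g) (hhM : h ∉ M) : ∃ a ∈ A, (a * x)⁻¹ * h ∈ M := by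
  obtain ⟨u, hu, huG⟩ := C.exists_vec
  have hd : ∀ {k : G}, k ∈ loc p W Γ S g → delta p W Γ S g ≤ cj k S := fun hk =>
    (cj_eq_of_norm hk.2).ge.trans (cj_mono _ (C.delta_le g))
  have hv : h * u * h⁻¹ ∈ W := C.norm h hh.1 u hu.1
  have hA : ∀ {w : G}, w ∈ W ⊓ centralizer (A : Set G) → w = h * u * h⁻¹ → False := fun hw e =>
    hhM (E.fix_coset C hu huG hh.1 (hd hh) fun a ha => by rw [← e]; exact (mem_fix.mp hw).2 a ha)
  rcases Q.conf.cover Q.xP (Q.xnot C E) hv (fun hz => hA (Q.z_le C E hz) rfl) with h1 | ⟨a, ha, h1⟩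
  · exact (hA h1 rfl).elim
  · refine ⟨a, ha, ?_⟩
    have hax : a * x ∈ loc p W Γ S g := mul_mem (E.leLoc ha) Q.xloc
    refine E.fix_coset C hu huG (mul_mem (inv_mem hax.1) hh.1) (hd (mul_mem (inv_mem hax) hh)) fun b hb => ?_
    have := (mem_fix.mp (mem_cj.mp h1)).2 b hb
    have e : (a * x)⁻¹ * (h * u * h⁻¹) * (a * x) = (a * x)⁻¹ * h * u * ((a * x)⁻¹ * h)⁻¹ := by group
    rwa [e] at this

/-- The points of the first coset are fixed by `A`. -/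
theorem Pr.point_mem {h u : G} (hu : u ∈ W ⊓ centralizer (S : Set G)) (huG : u ∉ centralizer (Γ : Set G))
    (hh : h ∈ loc p W Γ S g) (hhM : h ∈ M) : h * u * h⁻¹ ∈ W ⊓ centralizer (A : Set G) := by
  have hv : h * u * h⁻¹ ∈ W := C.norm h hh.1 u hu.1
  by_contra hn
  rcases Q.conf.cover Q.xP (Q.xnot C E) hv (fun hz => hn (Q.z_le C E hz)) with h1 | ⟨a, ha, h1⟩
  · exact hn h1
  · have hax : a * x ∈ loc p W Γ S g := mul_mem (E.leLoc ha) Q.xloc
    have h2 : (a * x)⁻¹ * h ∈ M := by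
      refine E.fix_coset C hu huG (mul_mem (inv_mem hax.1) hh.1)
        ((cj_eq_of_norm (mul_mem (inv_mem hax) hh).2).ge.trans (cj_mono _ (C.delta_le g))) fun b hb => ?_
      have := (mem_fix.mp (mem_cj.mp h1)).2 b hb
      have e : (a * x)⁻¹ * (h * u * h⁻¹) * (a * x) = (a * x)⁻¹ * h * u * ((a * x)⁻¹ * h)⁻¹ := by group
      rwa [e] at this
    have h3 : a * x ∈ M := by simpa using M.mul_mem hhM (M.inv_mem h2)
    exact Q.xM (by simpa using M.mul_mem (M.inv_mem (C.SM (E.leS ha))) h3)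

/-- `A` acts semiregularly on the other cosets. -/
theorem Pr.semireg {a h : G} (ha : a ∈ A) (hh : h ∈ Γ) (hd : delta p W Γ S g ≤ cj h S) (hhM : h ∉ M)
    (hc : h⁻¹ * a * h ∈ M) : a = 1 := by
  by_contra ha1
  have hz : zpowers a ≤ A := zpowers_le.mpr ha
  obtain ⟨m, hm, hle⟩ := C.into_sylow (g := h) (Q := delta p W Γ S g ⊔ zpowers a)
    (sup_le (hd.trans (cj_mono h C.SM)) (zpowers_le.mpr (mem_cj.mpr hc)))
    (C.pgroup_delta_sup (E.mem.pg.to_le hz) (hz.trans E.leLoc))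
  obtain ⟨u, hu, huG⟩ := C.exists_vec
  have hhm : h * m ∈ Γ := mul_mem hh (C.MG hm)
  have h1 := E.fix_coset C hu huG hhm (le_sup_left.trans hle) fun b hb =>
    Q.reg_fix C E ha ha1 (C.norm _ hhm u hu.1)
      (C.fix_of_le hu (hle (le_sup_right (a := delta p W Γ S g) (mem_zpowers a)))) b hb
  exact hhM (by simpa using M.mul_mem h1 (M.inv_mem hm))

omit E Q in
theorem Sit.commW_norm (hS : S ≠ ⊥) : Γ ⊓ normalizer ((⁅S, W⁆ : Subgroup G) : Set G) ≤ M := by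
  have hYW : ⁅S, W⁆ ≤ W := commutator_le.mpr fun s hs w hw => W.mul_mem (C.norm s (C.syl.1 hs) w hw) (W.inv_mem hw)
  refine C.uniq _ (le_inf C.syl.1 fun s hs => norm_of_cj ?_) inf_le_left fun htop => ?_
  · rw [cj, map_commutator]
    exact congrArg₂ (fun a b => ⁅a, b⁆) (cj_eq_of_norm (le_normalizer hs)) (C.cj_W (C.syl.1 hs))
  have hYn : ∀ k ∈ Γ, ∀ y ∈ ⁅S, W⁆, k * y * k⁻¹ ∈ ⁅S, W⁆ := fun k hk y hy =>
    (mem_normalizer_iff.mp ((htop.ge hk).2) y).mp hy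
  obtain ⟨K, hK⟩ : ∃ K : Subgroup G, ∀ k, k ∈ K ↔ k ∈ Γ ∧ ∀ w ∈ W, ⁅k, w⁆ ∈ ⁅S, W⁆ :=
    ⟨{ carrier := {k | k ∈ Γ ∧ ∀ w ∈ W, ⁅k, w⁆ ∈ ⁅S, W⁆}
       one_mem' := ⟨one_mem _, fun w _ => by rw [commutatorElement_one_left]; exact one_mem _⟩
       mul_mem' := fun {a b} ha hb => ⟨mul_mem ha.1 hb.1, fun w hw => by
         have e : ⁅a * b, w⁆ = a * ⁅b, w⁆ * a⁻¹ * ⁅a, w⁆ := by simp only [commutatorElement_def]; group
         rw [e]; exact mul_mem (hYn a ha.1 _ (hb.2 w hw)) (ha.2 w hw)⟩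
       inv_mem' := fun {a} ha => ⟨inv_mem ha.1, fun w hw => by
         have e : ⁅a⁻¹, w⁆ = a⁻¹ * ⁅a, w⁆⁻¹ * a⁻¹⁻¹ := by simp only [commutatorElement_def]; group
         rw [e]; exact hYn _ (inv_mem ha.1) _ (inv_mem (ha.2 w hw))⟩ }, fun _ => Iff.rfl⟩
  have hSK : S ≤ K := fun s hs => (hK s).mpr ⟨C.syl.1 hs, fun w hw => commutator_mem_commutator hs hw⟩
  have hKn : ∀ k ∈ Γ, ∀ c ∈ K, k * c * k⁻¹ ∈ K := fun k hk c hc => by
    refine (hK _).mpr ⟨mul_mem (mul_mem hk ((hK c).mp hc).1) (inv_mem hk), fun w hw => ?_⟩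
    have e : ⁅k * c * k⁻¹, w⁆ = k * ⁅c, k⁻¹ * w * k⁆ * k⁻¹ := by simp only [commutatorElement_def]; group
    rw [e]
    exact hYn k hk _ (((hK c).mp hc).2 _ (by simpa using C.norm k⁻¹ (inv_mem hk) w hw))
  have hKG : K = Γ := by
    refine C.eq_gamma_of_le hSK (fun k hk => ((hK k).mp hk).1) fun hKM => ?_
    obtain ⟨h, hh, hhM⟩ := SetLike.not_le_iff_exists.mp fun h => C.Mne (le_antisymm C.MG h)
    obtain ⟨m, hm, hle⟩ := C.into_sylow (g := 1) (Q := cj h S)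
      (by rw [cj_one]; exact (cj_le.mpr fun s hs => hKn h hh s (hSK hs)).trans hKM) (C.pS h)
    rw [one_mul] at hle
    have he : cj h S = cj m S := eq_of_le_of_card_ge hle (by rw [card_cj, card_cj])
    have h2 : m⁻¹ * h ∈ normalizer (S : Set G) := norm_of_cj (by
      rw [← cj_cj, he, cj_cj, inv_mul_cancel, cj_one])
    have h3 : m⁻¹ * h ∈ M := C.norm_le (Q := S) C.syl.1 C.syl.2.1 hS le_normalizer
      (mem_inf.mpr ⟨Γ.mul_mem (Γ.inv_mem (C.MG hm)) hh, h2⟩)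
    exact hhM (by simpa using M.mul_mem hm h3)
  have hWle : W ≤ ⁅S, W⁆ ⊔ (W ⊓ centralizer (S : Set G)) := by
    refine C.span.trans ((closure_le _).mpr ?_)
    rintro _ ⟨k, hk, u, hu, rfl⟩
    rw [show k * u * k⁻¹ = ⁅k, u⁆ * u by rw [commutatorElement_def]; group]
    exact mul_mem_sup (((hK k).mp (hKG.ge hk)).2 u hu.1) hu
  have hstep : ⁅S, W⁆ ≤ ⁅S, ⁅S, W⁆⁆ := by
    refine commutator_le.mpr fun s hs w hw => ?_
    obtain ⟨c, hc, f, hf, rfl⟩ := exists_mul_of_comm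
      (fun a ha b (hb : b ∈ W ⊓ centralizer (S : Set G)) => C.wcomm a (hYW ha) b hb.1) (hWle hw)
    have e : ⁅s, c * f⁆ = ⁅s, c⁆ := by
      rw [commutatorElement_def, commutatorElement_def, show s * (c * f) * s⁻¹ * (c * f)⁻¹ =
        (s * c * s⁻¹) * ((s * f * s⁻¹) * f⁻¹) * c⁻¹ by group, (mem_fix.mp hf).2 s hs, mul_inv_cancel, mul_one]
    rw [e]
    exact commutator_mem_commutator hs hc
  have hp : IsPGroup p ↥(S ⊔ W) := C.syl.2.1.to_sup_of_normal_right'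
    (fun w => ⟨1, Subtype.ext (by rw [pow_one, coe_pow, coe_one]; exact C.wexp _ w.2)⟩)
    fun s hs => norm_of_cj (C.cj_W (C.syl.1 hs))
  have : Group.IsNilpotent ↥(S ⊔ W) := hp.isNilpotent
  obtain ⟨k, hk⟩ := Subgroup.nilpotent_iff_lowerCentralSeries.mp this
  have hlow : ∀ n, ⁅S, W⁆ ≤ (Subgroup.lowerCentralSeries (⊤ : Subgroup ↥(S ⊔ W)) n).map (S ⊔ W).subtype := by
    intro n
    induction n with
    | zero => exact fun y hy => ⟨⟨y, le_sup_right (a := S) (hYW hy)⟩, mem_top _, rfl⟩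
    | succ n ih =>
      rw [Subgroup.lowerCentralSeries_succ, map_commutator]
      refine hstep.trans ((commutator_mono ?_ ih).trans (commutator_comm _ _).le)
      exact fun r hr => ⟨⟨r, le_sup_left (b := W) hr⟩, mem_top _, rfl⟩
  refine hS (eq_bot_iff.mpr fun s hs => ?_)
  rw [← C.faith]
  refine ⟨C.syl.1 hs, mem_centralizer_iff.mpr fun w hw => ?_⟩
  have := hlow k (commutator_mem_commutator hs hw)
  rw [hk, Subgroup.map_bot, mem_bot, commutatorElement_eq_one_iff_mul_comm] at this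
  exact this.symm

theorem Pr.span {Y : Subgroup G} (hYW : Y ≤ W) (hA : ∀ a ∈ A, ∀ y ∈ Y, a * y * a⁻¹ ∈ Y)
    (hx : ∀ y ∈ Y, x * y * x⁻¹ ∈ Y) {v : G} (hv : v ∈ Y)
    (hvZ : v ∉ W ⊓ centralizer ((A ⊔ cj x A : Subgroup G) : Set G)) :
    W ≤ Y ⊔ (W ⊓ centralizer ((A ⊔ cj x A : Subgroup G) : Set G)) := by
  obtain ⟨Z, hZ⟩ : ∃ Z, Z = W ⊓ centralizer ((A ⊔ cj x A : Subgroup G) : Set G) := ⟨_, rfl⟩
  rw [← hZ] at hvZ ⊢
  obtain ⟨-, -, hsup, hev⟩ := Q.conf.cards Q.xP (Q.xnot C E)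
  have hxH := Q.conf.point_le Q.xP
  obtain ⟨v', hv', hv'H⟩ : ∃ v' ∈ Y, v' ∉ W ⊓ centralizer (A : Set G) := by
    by_contra hc
    push Not at hc
    refine hvZ (hZ ▸ ?_)
    have h1 := Q.conf.inter Q.xP (Q.xnot C E) (hc _ (hx v hv)) (conj_mem_cj x (hc v hv))
    have h2 := Q.conf.z_le (inv_mem Q.xP) h1
    rw [show x⁻¹ * (x * v * x⁻¹) * x⁻¹⁻¹ = v by group] at h2
    exact h2.symm ▸ h1
  obtain ⟨w1, hw1, w2, hw2, hw⟩ := exists_mul_of_comm
    (fun a (ha : a ∈ W ⊓ centralizer (A : Set G)) b hb => C.wcomm a ha.1 b (hxH hb)) (hsup.ge (hYW hv'))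
  have hw2Z : w2 ∉ W ⊓ centralizer ((A ⊔ cj x A : Subgroup G) : Set G) := fun hz =>
    hv'H (hw ▸ mul_mem hw1 (Q.z_le C E hz))
  have hH : W ⊓ centralizer (A : Set G) ≤ Y ⊔ Z := fun h hh => by
    obtain ⟨a, ha, z, hz, rfl⟩ := hev w2 hw2 hw2Z h hh
    refine mul_mem_sup ?_ (hZ ▸ hz)
    have e : ⁅a, w2⁆ = ⁅a, v'⁆ := by
      rw [← hw, Q.conf.comm_mul_right (le_sup_left (b := cj x A) ha) hw1.1 (hxH hw2),
        show ⁅a, w1⁆ = 1 by rw [commutatorElement_def, (mem_fix.mp hw1).2 a ha, mul_inv_cancel], one_mul]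
    rw [e, commutatorElement_def]
    exact Y.mul_mem (hA a ha v' hv') (Y.inv_mem hv')
  refine hsup.ge.trans (sup_le hH ((cj_mono x hH).trans ?_))
  rw [cj, Subgroup.map_sup]
  refine sup_le ((cj_le.mpr hx).trans le_sup_left) (le_trans (cj_le.mpr fun z hz => ?_) le_sup_right)
  rw [hZ] at hz ⊢
  rw [Q.conf.z_le Q.xP hz]
  exact hz

theorem Pr.vec_notZ {m u : G} (hm : m ∈ M) (hu : u ∈ W ⊓ centralizer (S : Set G))
    (huG : u ∉ centralizer (Γ : Set G)) :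
    m * u * m⁻¹ ∉ W ⊓ centralizer ((A ⊔ cj x A : Subgroup G) : Set G) := by
  intro hz
  have h1 := Q.conf.z_le Q.xP hz
  have h2 : m⁻¹ * x * m ∈ M := C.mem_of_fix hu huG
    (mul_mem (mul_mem (inv_mem (C.MG hm)) (Q.xΓ C E)) (C.MG hm)) (by
      calc m⁻¹ * x * m * u * (m⁻¹ * x * m)⁻¹ = m⁻¹ * (x * (m * u * m⁻¹) * x⁻¹) * m := by group
        _ = u := by rw [h1]; group)
  exact Q.xM (by simpa [mul_assoc] using M.mul_mem (M.mul_mem hm h2) (M.inv_mem hm))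

/-- A `p`-group of `M` normalised by the pair acts only on the fixed space and commutes with the pair. -/
theorem Pr.separation {D : Subgroup G} {m : G} (hm : m ∈ M) (hD : D ≤ cj m S)
    (hAD : A ≤ normalizer (D : Set G)) (hxD : x ∈ normalizer (D : Set G)) :
    (∀ d ∈ D, ∀ w ∈ W, ⁅d, w⁆ ∈ W ⊓ centralizer ((A ⊔ cj x A : Subgroup G) : Set G)) ∧
    W ≤ (W ⊓ centralizer (D : Set G)) ⊔ (W ⊓ centralizer ((A ⊔ cj x A : Subgroup G) : Set G)) ∧
    ∀ d ∈ D, ∀ a ∈ A, d * a = a * d ∧ d * (x * a * x⁻¹) = x * a * x⁻¹ * d := by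
  obtain ⟨Z, hZ⟩ : ∃ Z, Z = W ⊓ centralizer ((A ⊔ cj x A : Subgroup G) : Set G) := ⟨_, rfl⟩
  rw [← hZ]
  have hDΓ : D ≤ Γ := hD.trans (C.S_le_cj (C.MG hm))
  have hDW : ∀ d ∈ D, ∀ w ∈ W, ⁅d, w⁆ ∈ W := fun d hd w hw =>
    W.mul_mem (C.norm d (hDΓ hd) w hw) (W.inv_mem hw)
  obtain ⟨Y, hY⟩ : ∃ Y, Y = ⁅D, W⁆ := ⟨_, rfl⟩
  have hYW : Y ≤ W := hY ▸ commutator_le.mpr hDW
  have hYn : ∀ k ∈ Γ, k ∈ normalizer (D : Set G) → ∀ y ∈ Y, k * y * k⁻¹ ∈ Y := by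
    intro k hk hkD y hy
    have e : cj k Y = Y := by
      rw [hY, cj, map_commutator]
      exact congrArg₂ (fun a b => ⁅a, b⁆) (cj_eq_of_norm hkD) (C.cj_W hk)
    exact e.le (conj_mem_cj k hy)
  have hYZ : Y ≤ Z := by
    intro v hv
    by_contra hvZ
    have hW := Q.span C E hYW (fun a ha => hYn a (E.mem.le ha) (hAD ha))
      (hYn x (Q.xΓ C E) hxD) hv (hZ ▸ hvZ)
    obtain ⟨Y1, hY1⟩ : ∃ Y1, Y1 = ⁅cj m S, W⁆ := ⟨_, rfl⟩
    have hYY1 : Y ≤ Y1 := hY ▸ hY1 ▸ commutator_mono hD le_rfl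
    have hY1W : Y1 ≤ W := hY1 ▸ commutator_le.mpr fun s hs w hw =>
      W.mul_mem (C.norm s (C.S_le_cj (C.MG hm) hs) w hw) (W.inv_mem hw)
    have key : ∀ k ∈ A ⊔ cj x A, k ∈ normalizer (D : Set G) → k ∈ normalizer (Y1 : Set G) := by
      intro k hk hkD
      have hkΓ : k ∈ Γ := sup_le E.mem.le ((C.member_cj (Q.xΓ C E) E.mem).le) hk
      have hin : ∀ w ∈ W, ⁅k, w⁆ ∈ Y1 := by
        intro w hw
        obtain ⟨y, hy, z, hz, rfl⟩ := exists_mul_of_comm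
          (fun a ha b (hb : b ∈ W ⊓ centralizer ((A ⊔ cj x A : Subgroup G) : Set G)) => C.wcomm a (hYW ha) b hb.1) (hW hw)
        rw [Q.conf.comm_mul_right hk (hYW hy) hz.1,
          show ⁅k, z⁆ = 1 by rw [commutatorElement_def, Q.conf.z_le hk hz, mul_inv_cancel], mul_one,
          commutatorElement_def]
        exact hYY1 (Y.mul_mem (hYn k hkΓ hkD y hy) (Y.inv_mem hy))
      refine norm_of_cj (eq_of_le_of_card_ge (cj_le.mpr fun y hy => ?_) (card_cj _ _).ge)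
      rw [show k * y * k⁻¹ = ⁅k, y⁆ * y by rw [commutatorElement_def]; group]
      exact Y1.mul_mem (hin y (hY1W hy)) hy
    have hall : A ⊔ cj x A ≤ normalizer (Y1 : Set G) := sup_le
      (fun a ha => key a (le_sup_left (b := cj x A) ha) (hAD ha))
      (cj_le.mpr fun a ha => key _ (le_sup_right (a := A) (conj_mem_cj x ha))
        (mul_mem (mul_mem hxD (hAD ha)) (inv_mem hxD)))
    have h1 : x ∈ normalizer (Y1 : Set G) := hall Q.xP
    have hS : S ≠ ⊥ := fun e => E.mem.ne (le_bot_iff.mp (E.leS.trans e.le))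
    have h2 : m⁻¹ * x * m ∈ normalizer ((⁅S, W⁆ : Subgroup G) : Set G) := by
      have := cj_normalizer (g := m⁻¹) h1
      rw [inv_inv] at this
      have e : cj m⁻¹ Y1 = ⁅S, W⁆ := by
        rw [hY1, cj, map_commutator]
        exact congrArg₂ (fun a b => ⁅a, b⁆) ((cj_cj _ _ _).trans (by rw [inv_mul_cancel, cj_one]))
          (C.cj_W (inv_mem (C.MG hm)))
      rwa [e] at this
    have h3 : m⁻¹ * x * m ∈ M := C.commW_norm hS
      (mem_inf.mpr ⟨Γ.mul_mem (Γ.mul_mem (Γ.inv_mem (C.MG hm)) (Q.xΓ C E)) (C.MG hm), h2⟩)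
    exact Q.xM (by simpa [mul_assoc] using M.mul_mem (M.mul_mem hm h3) (M.inv_mem hm))
  obtain ⟨u, hu, huG⟩ := C.exists_vec
  have hCn : ∀ k ∈ Γ, k ∈ normalizer (D : Set G) → ∀ y ∈ W ⊓ centralizer (D : Set G),
      k * y * k⁻¹ ∈ W ⊓ centralizer (D : Set G) := fun k hk hkD y hy => by
    have := conj_mem_cj k hy
    rwa [C.cj_fix hk, cj_eq_of_norm hkD] at this
  have hW : W ≤ (W ⊓ centralizer (D : Set G)) ⊔ Z := hZ ▸ Q.span C E inf_le_left
    (fun a ha => hCn a (E.mem.le ha) (hAD ha)) (hCn x (Q.xΓ C E) hxD)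
    (mem_fix.mpr ⟨C.norm m (C.MG hm) u hu.1, fun d hd => C.fix_of_le hu (hD hd)⟩) (Q.vec_notZ C E hm hu huG)
  refine ⟨fun d hd w hw => hYZ (hY ▸ commutator_mem_commutator hd hw), hW, ?_⟩
  have comm : ∀ d ∈ D, ∀ k ∈ A ⊔ cj x A, k ∈ normalizer (D : Set G) → d * k = k * d := by
    intro d hd k hk hkD
    have hkΓ : k ∈ Γ := sup_le E.mem.le ((C.member_cj (Q.xΓ C E) E.mem).le) hk
    obtain ⟨c, hc⟩ : ∃ c, c = d * (k * d⁻¹ * k⁻¹) := ⟨_, rfl⟩
    have hcD : c ∈ D := hc ▸ D.mul_mem hd ((mem_normalizer_iff.mp hkD d⁻¹).mp (D.inv_mem hd))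
    have hfix : ∀ z ∈ Z, c * z * c⁻¹ = z := by
      intro z hz
      have hdz : d⁻¹ * z * d ∈ Z := by
        have h1 := hYZ (hY ▸ commutator_mem_commutator (D.inv_mem hd) ((hZ.le hz).1) : ⁅d⁻¹, z⁆ ∈ Y)
        have := Z.mul_mem h1 hz
        simpa [commutatorElement_def, mul_assoc] using this
      have h1 : ∀ z' ∈ Z, k * z' * k⁻¹ = z' := fun z' hz' => Q.conf.z_le hk (hZ ▸ hz')
      have h2 : k⁻¹ * z * k = z := by simpa using Q.conf.z_le (inv_mem hk) (hZ ▸ hz)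
      calc c * z * c⁻¹ = d * (k * (d⁻¹ * (k⁻¹ * z * k) * d) * k⁻¹) * d⁻¹ := by rw [hc]; group
        _ = z := by rw [h2, h1 _ hdz]; group
    have h1 : c = 1 := by
      rw [← mem_bot, ← C.faith]
      refine ⟨hDΓ hcD, mem_centralizer_iff.mpr fun w hw => ?_⟩
      obtain ⟨f, hf, z, hz, rfl⟩ := exists_mul_of_comm
        (fun a (ha : a ∈ W ⊓ centralizer (D : Set G)) b hb => C.wcomm a ha.1 b ((hZ.le hb).1)) (hW hw)
      have e : c * (f * z) * c⁻¹ = f * z := by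
        rw [show c * (f * z) * c⁻¹ = (c * f * c⁻¹) * (c * z * c⁻¹) by group, (mem_fix.mp hf).2 c hcD, hfix z hz]
      exact (mul_inv_eq_iff_eq_mul.mp e).symm
    rw [hc] at h1
    calc d * k = d * (k * d⁻¹ * k⁻¹) * (k * d) := by group
      _ = k * d := by rw [h1, one_mul]
  exact fun d hd a ha => ⟨comm d hd a (le_sup_left (b := cj x A) ha) (hAD ha),
    comm d hd _ (le_sup_right (a := A) (conj_mem_cj x ha)) (mul_mem (mul_mem hxD (hAD ha)) (inv_mem hxD))⟩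

end Cfsg.Agent.Fus.RootPair
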