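import Cfsg.Agent.Lib.Fus.RootPairOrbit

/-!
# Every pair outside `M` is a pair of root groups; the stabiliser of a member
-/

set_option autoImplicit false
set_option linter.unusedSectionVars false
set_option linter.style.haveILetI false

open scoped commutatorElement Pointwise

namespace Cfsg.Agent.Fus.RootPair

open Subgroup Cfsg.Agent.Grp Cfsg.Agent.Grp.OffenderSL2

universe u

variable {G : Type u} [Group G] [Finite G] {p : ℕ} [Fact p.Prime] {W Γ S M : Subgroup G}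
  (C : Sit p W Γ S M)
include C

/-- Elements fixing `H` with commutators in `H` commute. -/
theorem Sit.commute_quad {H : Subgroup G} (hH : H ≤ W) {a b : G} (haΓ : a ∈ Γ) (hbΓ : b ∈ Γ)
    (hfa : ∀ h ∈ H, a * h * a⁻¹ = h) (hfb : ∀ h ∈ H, b * h * b⁻¹ = h)
    (hqa : ∀ w ∈ W, ⁅a, w⁆ ∈ H) (hqb : ∀ w ∈ W, ⁅b, w⁆ ∈ H) : a * b = b * a := by
  have h1 : ⁅a, b⁆ = 1 := by
    rw [← mem_bot, ← C.faith]
    refine mem_inf.mpr ⟨?_, mem_centralizer_iff.mpr fun w hw => ?_⟩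
    · rw [commutatorElement_def]
      exact mul_mem (mul_mem (mul_mem haΓ hbΓ) (inv_mem haΓ)) (inv_mem hbΓ)
    have hab : ∀ {a b : G}, (∀ h ∈ H, a * h * a⁻¹ = h) → (∀ w ∈ W, ⁅b, w⁆ ∈ H) → ∀ w ∈ W,
        a * (b * w * b⁻¹) * a⁻¹ = ⁅b, w⁆ * ⁅a, w⁆ * w := by
      intro a b hfa hqb w hw
      rw [show b * w * b⁻¹ = ⁅b, w⁆ * w by rw [commutatorElement_def]; group,
        show a * (⁅b, w⁆ * w) * a⁻¹ = (a * ⁅b, w⁆ * a⁻¹) * (⁅a, w⁆ * w) by simp only [commutatorElement_def]; group,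
        hfa _ (hqb w hw), mul_assoc]
    obtain ⟨w', hw', rfl⟩ : ∃ w' ∈ W, b * (a * w' * a⁻¹) * b⁻¹ = w :=
      ⟨a⁻¹ * (b⁻¹ * w * b) * a, by
        simpa using C.norm a⁻¹ (inv_mem haΓ) _ (by simpa using C.norm b⁻¹ (inv_mem hbΓ) w hw), by group⟩
    have e : ⁅a, b⁆ * (b * (a * w' * a⁻¹) * b⁻¹) * ⁅a, b⁆⁻¹ = a * (b * w' * b⁻¹) * a⁻¹ := by
      rw [commutatorElement_def]; group
    rw [hab hfa hqb w' hw', C.wcomm _ (hH (hqb w' hw')) _ (hH (hqa w' hw')), ← hab hfb hqa w' hw'] at e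
    exact (mul_inv_eq_iff_eq_mul.mp e).symm
  exact commutatorElement_eq_one_iff_mul_comm.mp h1

variable {g : G} {A : Subgroup G} (E : Ext p W Γ S M g A)
include E

theorem Ext.cj_notin {k : G} (hk : k ∈ loc p W Γ S g) : cj k A ∉ inter p W Γ S g := fun h => E.notin (by
  have := C.inter_conj (inv_mem hk) h
  rwa [cj_cj, inv_mul_cancel, cj_one] at this)

/-- The members of a Sylow subgroup above the intersection and a conjugate of `A`. -/
theorem Ext.eq_of_le (hodd : p ≠ 2) {k : G} (hk : k ∈ loc p W Γ S g) {m : G} (hm : m ∈ Γ) {B : Subgroup G}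
    (hB : Member p W Γ B) (hBn : B ∉ inter p W Γ S g) (hd : delta p W Γ S g ≤ cj m S)
    (hA : cj k A ≤ cj m S) (hBle : B ≤ cj m S) : B = cj k A := by
  have hcard : (mems p W Γ (cj m S)).ncard = (inter p W Γ S g).ncard + 1 := by
    rw [C.mems_cj hm, Set.ncard_image_of_injective _ (cj_inj m), E.mems_eq C hodd,
      Set.ncard_insert_of_notMem E.notin (Set.toFinite _)]
  have he : insert (cj k A) (inter p W Γ S g) = mems p W Γ (cj m S) :=
    Set.eq_of_subset_of_ncard_le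
      (Set.insert_subset ⟨C.member_cj hk.1 E.mem, hA⟩ fun D hD => ⟨hD.1.1, (le_jn hD).trans hd⟩)
      (by rw [Set.ncard_insert_of_notMem (E.cj_notin C hk) (Set.toFinite _)]; exact hcard.le) (Set.toFinite _)
  exact (Set.mem_insert_iff.mp (he.ge ⟨hB, hBle⟩)).resolve_right hBn

/-- Any conjugate outside `M` gives a generating pair. -/
theorem Ext.pr_of (hodd : p ≠ 2) {y : G} (hy : y ∈ loc p W Γ S g) (hyM : y ∉ M) :
    ∃ x T, Pr p W Γ S M g A x T ∧ cj x A = cj y A := by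
  obtain ⟨N', hN'⟩ : ∃ N', N' = A ⊔ cj y A := ⟨_, rfl⟩
  have hAyl : cj y A ≤ loc p W Γ S g := (cj_mono y E.leLoc).trans (cj_eq_of_norm (le_normalizer hy)).le
  have hN'l : N' ≤ loc p W Γ S g := hN' ▸ sup_le E.leLoc hAyl
  have hAN' : A ≤ N' := hN' ▸ le_sup_left
  obtain ⟨z, T, hzN, Q⟩ := E.exists_pr C hN'l hAN'
    fun h => hyM (E.conj_mem C hy ((hN' ▸ le_sup_right : cj y A ≤ N').trans h))
  have hPN' : A ⊔ cj z A ≤ N' := sup_le hAN' ((cj_mono z hAN').trans (cj_eq_of_norm (le_normalizer hzN)).le)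
  obtain ⟨a, ha, hm⟩ := Q.point C E hy hyM
  have hazP : a * z ∈ A ⊔ cj z A := mul_mem (le_sup_left (b := cj z A) ha) Q.xP
  have hazl : a * z ∈ loc p W Γ S g := mul_mem (E.leLoc ha) Q.xloc
  obtain ⟨m, hmdef⟩ : ∃ m, m = (a * z)⁻¹ * y := ⟨_, rfl⟩
  rw [← hmdef] at hm
  have hml : m ∈ loc p W Γ S g := hmdef ▸ mul_mem (inv_mem hazl) hy
  have hmA : cj m A ≤ M := (cj_mono m (E.leS.trans C.SM)).trans (cj_eq_of_norm (le_normalizer hm)).le
  have hmN : cj m A ≤ N' := by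
    rw [hmdef, ← cj_cj]
    exact (cj_mono _ (hN' ▸ le_sup_right : cj y A ≤ N')).trans
      (cj_eq_of_norm (le_normalizer (inv_mem (hPN' hazP)))).le
  -- the two fixed spaces agree
  obtain ⟨hc1, hc2⟩ := Q.cards C E
  have hHW : ∀ k ∈ Γ, cj k (W ⊓ centralizer (A : Set G)) ≤ W := fun k hk =>
    (cj_mono k inf_le_left).trans (C.cj_W hk).le
  have hZle : W ⊓ centralizer (N' : Set G) ≤ W ⊓ centralizer ((A ⊔ cj z A : Subgroup G) : Set G) :=
    inf_le_inf le_rfl (centralizer_le (SetLike.coe_subset_coe.mpr hPN'))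
  have hZ : W ⊓ centralizer (N' : Set G) = W ⊓ centralizer ((A ⊔ cj z A : Subgroup G) : Set G) := by
    refine eq_of_le_of_card_ge hZle ?_
    obtain ⟨H, hH⟩ : ∃ H, H = W ⊓ centralizer (A : Set G) := ⟨_, rfl⟩
    have hinf : H ⊓ cj y H ≤ W ⊓ centralizer (N' : Set G) := fun w hw => by
      rw [hH] at hw
      refine mem_inf.mpr ⟨hw.1.1, mem_centralizer_iff.mpr fun n hn => ?_⟩
      have hle : N' ≤ centralizer ({w} : Set G) := hN' ▸ sup_le
        (fun c hc => mem_centralizer_singleton_iff.mpr (mem_centralizer_iff.mp hw.1.2 c hc))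
        (fun c hc => mem_centralizer_singleton_iff.mpr
          (mem_centralizer_iff.mp ((C.cj_fix hy.1 A).le hw.2).2 c hc))
      exact mem_centralizer_singleton_iff.mp (hle hn)
    have hprod := card_sup_mul_card_inf (H := H) (N := cj y H) fun h hh =>
      centralizer_le_normalizer _ (mem_centralizer_iff.mpr fun k hk =>
        C.wcomm k (hHW y hy.1 (hH ▸ hk)) h (hH.le hh).1)
    rw [card_cj] at hprod
    have h1 : Nat.card H * Nat.card H ≤ Nat.card W * Nat.card ↥(W ⊓ centralizer (N' : Set G)) :=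
      hprod ▸ Nat.mul_le_mul (card_le_of_le (sup_le (hH ▸ inf_le_left) (hH ▸ hHW y hy.1))) (card_le_of_le hinf)
    rw [← hH] at hc1 hc2
    rw [hc2, hc1] at h1
    have h2 : (Nat.card A * Nat.card A * Nat.card ↥(W ⊓ centralizer ((A ⊔ cj z A : Subgroup G) : Set G))) *
        Nat.card ↥(W ⊓ centralizer ((A ⊔ cj z A : Subgroup G) : Set G)) ≤
        (Nat.card A * Nat.card A * Nat.card ↥(W ⊓ centralizer ((A ⊔ cj z A : Subgroup G) : Set G))) *
        Nat.card ↥(W ⊓ centralizer (N' : Set G)) := by linarith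
    exact Nat.le_of_mul_le_mul_left h2 (Nat.mul_pos (Nat.mul_pos Nat.card_pos Nat.card_pos) Nat.card_pos)
  -- elements of `M` in the pair preserve the fixed space of `A`
  obtain ⟨u, hu, huG⟩ := C.exists_vec
  have hw : z * u * z⁻¹ ∈ cj z (W ⊓ centralizer (A : Set G)) :=
    conj_mem_cj z (mem_fix.mpr ⟨hu.1, fun b hb => (mem_fix.mp hu).2 b (E.leS hb)⟩)
  have hwZ : z * u * z⁻¹ ∉ W ⊓ centralizer ((A ⊔ cj z A : Subgroup G) : Set G) := fun hz => by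
    have := Q.vec_notZ C E (one_mem _) hu huG
    have h2 := Q.conf.z_le (inv_mem Q.xP) hz
    rw [show z⁻¹ * (z * u * z⁻¹) * z⁻¹⁻¹ = u by group] at h2
    rw [one_mul, inv_one, mul_one, h2] at this
    exact this hz
  obtain ⟨-, -, -, hev⟩ := Q.conf.cards Q.xP (Q.xnot C E)
  have hnorm : ∀ k ∈ N', k ∈ M → cj k (W ⊓ centralizer (A : Set G)) = W ⊓ centralizer (A : Set G) := by
    intro k hk hkM
    refine eq_of_le_of_card_ge (cj_le.mpr fun h hh => ?_) (card_cj _ _).ge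
    have hkZ : ∀ z0 ∈ W ⊓ centralizer ((A ⊔ cj z A : Subgroup G) : Set G), k * z0 * k⁻¹ = z0 :=
      fun z0 hz0 => (mem_fix.mp (hZ.ge hz0)).2 k hk
    obtain ⟨b0, hb0, z0, hz0, rfl⟩ := hev _ hw hwZ h hh
    have hz0H : k * z0 * k⁻¹ ∈ W ⊓ centralizer (A : Set G) := by
      rw [hkZ z0 hz0]; exact Q.z_le C E hz0
    rw [show k * (⁅b0, z * u * z⁻¹⁆ * z0) * k⁻¹ = (k * ⁅b0, z * u * z⁻¹⁆ * k⁻¹) * (k * z0 * k⁻¹) by group]
    refine mul_mem ?_ hz0H
    by_cases hb1 : b0 = 1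
    · rw [hb1, commutatorElement_one_left, mul_one, mul_inv_cancel]; exact one_mem _
    obtain ⟨b, hb, -, hbe⟩ := (Q.conf.turn Q.xP (Q.xnot C E)).1 b0 hb0 hb1
    obtain ⟨l, hl⟩ : ∃ l, l = b⁻¹ * b0 * z := ⟨_, rfl⟩
    have hbP : b ∈ A ⊔ cj z A := le_sup_right (a := A) hb
    have hb0P : b0 ∈ A ⊔ cj z A := le_sup_left (b := cj z A) hb0
    have hv : b0 * (z * u * z⁻¹) * b0⁻¹ ∈ cj b (W ⊓ centralizer (A : Set G)) := by
      rw [← hbe, ← cj_cj]; exact conj_mem_cj b0 hw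
    have hl1 : l * u * l⁻¹ ∈ W ⊓ centralizer (A : Set G) := by
      have := mem_cj.mp hv
      rwa [show b⁻¹ * (b0 * (z * u * z⁻¹) * b0⁻¹) * b = l * u * l⁻¹ by rw [hl]; group] at this
    have hll : l ∈ loc p W Γ S g := hl ▸ mul_mem (mul_mem (inv_mem (hN'l (hPN' hbP))) (E.leLoc hb0)) Q.xloc
    have hlM : l ∈ M := E.fix_coset C hu huG hll.1 ((cj_eq_of_norm hll.2).ge.trans (cj_mono _ (C.delta_le g)))
      (mem_fix.mp hl1).2
    have hdz : (l * u * l⁻¹)⁻¹ * ⁅b0, z * u * z⁻¹⁆ ∈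
        W ⊓ centralizer ((A ⊔ cj z A : Subgroup G) : Set G) := by
      refine Q.conf.inter Q.xP (Q.xnot C E) (mul_mem (inv_mem hl1) (Q.conf.quadratic b0 hb0 _ (Q.conf.point_le Q.xP hw))) ?_
      have e : b0 * (z * u * z⁻¹) * b0⁻¹ = b * (l * u * l⁻¹) * b⁻¹ := by rw [hl]; group
      have e2 : (l * u * l⁻¹)⁻¹ * ⁅b0, z * u * z⁻¹⁆ =
          ((l * u * l⁻¹)⁻¹ * ⁅b, l * u * l⁻¹⁆ * (l * u * l⁻¹)) * (z * u * z⁻¹)⁻¹ := by
        rw [commutatorElement_def, e, commutatorElement_def]; group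
      rw [e2]
      refine mul_mem ?_ (inv_mem hw)
      rw [C.wcomm _ (W.inv_mem hl1.1) _ (Q.conf.comm_mem hbP hl1.1), inv_mul_cancel_right]
      exact Q.conf.quad_point Q.xP hb hl1.1
    have hsplit : ⁅b0, z * u * z⁻¹⁆ = (l * u * l⁻¹) * ((l * u * l⁻¹)⁻¹ * ⁅b0, z * u * z⁻¹⁆) := by group
    rw [hsplit, show k * ((l * u * l⁻¹) * ((l * u * l⁻¹)⁻¹ * ⁅b0, z * u * z⁻¹⁆)) * k⁻¹ =
      ((k * l) * u * (k * l)⁻¹) * (k * ((l * u * l⁻¹)⁻¹ * ⁅b0, z * u * z⁻¹⁆) * k⁻¹) by group, hkZ _ hdz]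
    exact mul_mem (Q.point_mem C E hu huG (mul_mem (hN'l hk) hll) (M.mul_mem hkM hlM)) (Q.z_le C E hdz)
  -- the conjugate is `A`
  have hB : Member p W Γ (cj m A) := C.member_cj hml.1 E.mem
  obtain ⟨T1, hT1, hAT1⟩ := HomDPi.exists_isSylowIn_ge (q := p) (K := M ⊓ N')
    (le_inf (E.leS.trans C.SM) hAN') E.mem.pg
  obtain ⟨T2, hT2, hBT2⟩ := HomDPi.exists_isSylowIn_ge (q := p) (K := M ⊓ N') (le_inf hmA hmN) hB.pg
  obtain ⟨k, hk, hke⟩ := hT2.conj hT1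
  have hkl : k * m ∈ loc p W Γ S g := mul_mem (hN'l hk.2) hml
  have key : ∀ {R : Subgroup G}, IsPGroup p R → R ≤ M → R ≤ loc p W Γ S g → A ≤ R →
      ∀ j ∈ loc p W Γ S g, cj j A ≤ R → cj j A = A := by
    intro R hRp hRM hRl hAR j hj hjR
    obtain ⟨m2, hm2, hle⟩ := C.into_sylow (g := 1) (Q := delta p W Γ S g ⊔ R)
      (by rw [cj_one]; exact sup_le ((C.delta_le g).trans C.SM) hRM) (C.pgroup_delta_sup hRp hRl)
    rw [one_mul] at hle
    have h := E.eq_of_le C hodd (k := 1) (one_mem _) (C.MG hm2) (C.member_cj hj.1 E.mem) (E.cj_notin C hj)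
      (le_sup_left.trans hle) (by rw [cj_one]; exact hAR.trans (le_sup_right.trans hle))
      (hjR.trans (le_sup_right.trans hle))
    rwa [cj_one] at h
  have hkm : cj (k * m) A = A := key hT1.2.1 (hT1.1.trans inf_le_left) (hT1.1.trans (inf_le_right.trans hN'l))
    hAT1 _ hkl (by
      rw [← cj_cj]
      refine (cj_mono k hBT2).trans ?_
      rw [← hke, ← map_conj_eq_smul]
      exact le_rfl)
  have hmk : cj m A = cj k⁻¹ A := by
    conv_rhs => rw [← hkm, cj_cj, inv_mul_cancel_left]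
  have hcent : W ⊓ centralizer ((cj m A : Subgroup G) : Set G) = W ⊓ centralizer (A : Set G) := by
    rw [hmk, ← C.cj_fix (inv_mem (C.MG hk.1))]
    exact hnorm _ (inv_mem hk.2) (inv_mem hk.1)
  have hcom : ∀ b ∈ cj m A, ∀ c ∈ A, b * c = c * b := fun b hb c hc => by
    refine C.commute_quad (H := W ⊓ centralizer (A : Set G)) inf_le_left (hB.le hb) (E.mem.le hc)
      (fun h hh => (mem_fix.mp (hcent.ge hh)).2 b hb) (fun h hh => (mem_fix.mp hh).2 c hc) (fun w hw => ?_)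
      (Q.conf.quadratic c hc)
    rw [← hcent, ← C.cj_fix hml.1, mem_cj,
      show m⁻¹ * ⁅b, w⁆ * m = ⁅m⁻¹ * b * m, m⁻¹ * w * m⁆ by simp only [commutatorElement_def]; group]
    exact Q.conf.quadratic _ (mem_cj.mp hb) _ (by simpa using C.norm m⁻¹ (inv_mem hml.1) w hw)
  have hp : IsPGroup p ↥(cj m A ⊔ A) := hB.pg.to_sup_of_normal_right' E.mem.pg fun b hb =>
    centralizer_le_normalizer _ (mem_centralizer_iff.mpr fun c hc => (hcom b hb c hc).symm)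
  have hmeq : cj m A = A := key hp (sup_le hmA (E.leS.trans C.SM))
    (sup_le (hmN.trans hN'l) E.leLoc) le_sup_right m hml le_sup_left
  have hgen := Q.conf.gen (a * z) hazP fun h => Q.xM (by
    simpa using M.mul_mem (M.inv_mem (C.SM (E.leS ha))) h.1)
  refine ⟨a * z, T, ⟨hazl, fun h => Q.xM (by simpa using M.mul_mem (M.inv_mem (C.SM (E.leS ha))) h),
    hgen.symm ▸ hazP, by rw [hgen]; exact Q.conf⟩, ?_⟩
  have e : y = a * z * m := by rw [hmdef, mul_inv_cancel_left]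
  conv_rhs => rw [e, ← cj_cj, hmeq]

omit E in
theorem Sit.cj_mems {s : G} (hs : s ∈ S) {B : Subgroup G} (hB : B ∈ mems p W Γ S) : cj s B ∈ mems p W Γ S :=
  ⟨C.member_cj (C.syl.1 hs) hB.1, (cj_mono s hB.2).trans (cj_eq_of_norm (le_normalizer hs)).le⟩

/-- The stabiliser of `A` in `S` is the local group. -/
theorem Ext.loc_iff (hodd : p ≠ 2) {s : G} (hs : s ∈ S) : s ∈ loc p W Γ S g ↔ cj s A = A := by
  refine ⟨fun h => E.unique C (E.conj C h hs), fun h => E.conj_inter C (C.syl.1 hs) ?_ h⟩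
  rw [← E.mems_eq C hodd]
  rintro _ ⟨B, hB, rfl⟩
  exact C.cj_mems hs hB

/-- An element fixing a nontrivial vector of the commutator space fixes the member. -/
theorem Ext.of_fix_vec (hodd : p ≠ 2) {s v : G} (hs : s ∈ S) (hv : v ∈ ⁅A, W⁆) (hv1 : v ≠ 1)
    (hfix : s * v * s⁻¹ = v) : cj s A = A := by
  by_contra hne
  obtain ⟨x, T, Q⟩ := E.exists_pair C
  obtain ⟨hDW, -, -⟩ := Q.separation C E (m := 1) (one_mem _) (D := delta p W Γ S g)
    (by rw [cj_one]; exact C.delta_le g) (E.leLoc.trans inf_le_right) Q.xloc.2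
  have hmem := (Set.ext_iff.mp (E.mems_eq C hodd) _).mp (C.cj_mems hs ⟨E.mem, E.leS⟩)
  have hB := (Set.mem_insert_iff.mp hmem).resolve_left hne
  have h1 : v ∈ ⁅cj s A, W⁆ := by
    rw [← C.cj_commW (C.syl.1 hs), ← hfix]
    exact conj_mem_cj s hv
  exact hv1 (Q.comm_inf C E hodd hv (commutator_le.mpr (fun b hb w hw => hDW b (le_jn hB hb) w hw) h1))

/-- A pair whose second root group and a point on it are stable under a complement of `A` in the stabiliser. -/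
theorem Ext.exists_frame (hodd : p ≠ 2) : ∃ (x : G) (T : Subgroup G) (w' : G),
    Pr p W Γ S M g A x T ∧ w' ∈ cj x (W ⊓ centralizer (A : Set G)) ∧
      w' ∉ W ⊓ centralizer ((A ⊔ cj x A : Subgroup G) : Set G) ∧
      ∀ s ∈ S, cj s A = A → ∃ a ∈ A,
        cj (a⁻¹ * s) (cj x A) = cj x A ∧ a⁻¹ * s * w' * (a⁻¹ * s)⁻¹ = w' := by
  obtain ⟨x0, T0, Q0⟩ := E.exists_pair C
  have hx0 := Q0.xloc
  obtain ⟨R0, hR0⟩ : ∃ R0, R0 = S ⊓ loc p W Γ S g ⊓ cj x0 M := ⟨_, rfl⟩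
  have hR0p : IsPGroup p ↥(cj x0⁻¹ R0) := (C.syl.2.1.to_le (hR0 ▸ inf_le_left.trans inf_le_left)).map _
  have hR0l : cj x0⁻¹ R0 ≤ loc p W Γ S g := (cj_mono _ (hR0 ▸ inf_le_left.trans inf_le_right)).trans
    (cj_eq_of_norm (le_normalizer (inv_mem hx0))).le
  have hR0M : cj x0⁻¹ R0 ≤ M := cj_inv_le (hR0 ▸ inf_le_right)
  obtain ⟨Rm, hRm, hle⟩ := HomDPi.exists_isSylowIn_ge (q := p) (K := loc p W Γ S g ⊓ M)
    (W := delta p W Γ S g ⊔ cj x0⁻¹ R0)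
    (sup_le (le_inf (C.delta_le_loc g) ((C.delta_le g).trans C.SM)) (le_inf hR0l hR0M))
    (C.pgroup_delta_sup hR0p hR0l)
  obtain ⟨R1, hR1, hAR1⟩ := HomDPi.exists_isSylowIn_ge (q := p) (K := loc p W Γ S g ⊓ M)
    (le_inf E.leLoc (E.leS.trans C.SM)) E.mem.pg
  obtain ⟨k, hk, hke⟩ := hR1.conj hRm
  have hkA : cj k A ≤ Rm := by
    refine (cj_mono k hAR1).trans ?_
    rw [← hke, ← map_conj_eq_smul]
    exact le_rfl
  obtain ⟨m2, hm2, hm2le⟩ := C.into_sylow (g := 1) (Q := Rm) (by rw [cj_one]; exact hRm.1.trans inf_le_right) hRm.2.1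
  rw [one_mul] at hm2le
  have hy : x0 * k ∈ loc p W Γ S g := mul_mem hx0 hk.1
  obtain ⟨x, T, Q, hxe⟩ := E.pr_of C hodd hy fun h => Q0.xM (by simpa using M.mul_mem h (M.inv_mem hk.2))
  obtain ⟨u, hu, huG⟩ := C.exists_vec
  obtain ⟨w', hw'⟩ : ∃ w', w' = (x0 * m2) * u * (x0 * m2)⁻¹ := ⟨_, rfl⟩
  have hw'e : w' = x0 * (m2 * u * m2⁻¹) * x0⁻¹ := by rw [hw']; group
  have hfixRm : ∀ r ∈ Rm, r * (m2 * u * m2⁻¹) * r⁻¹ = m2 * u * m2⁻¹ := fun r hr => C.fix_of_le hu (hm2le hr)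
  have hw'B : w' ∈ W ⊓ centralizer ((cj x A : Subgroup G) : Set G) := by
    rw [hxe, ← cj_cj, ← C.cj_fix hx0.1, hw'e]
    exact conj_mem_cj x0 (mem_fix.mpr ⟨C.norm m2 (C.MG hm2) u hu.1, fun b hb => hfixRm b (hkA hb)⟩)
  refine ⟨x, T, w', Q, by rw [C.cj_fix (Q.xΓ C E)]; exact hw'B, fun hz => ?_, fun s hs hsA => ?_⟩
  · have hd : delta p W Γ S g ≤ cj (x0 * m2) S := by
      rw [← cj_cj]
      exact (cj_eq_of_norm hx0.2).ge.trans (cj_mono x0 ((le_sup_left.trans hle).trans hm2le))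
    have := E.fix_coset C hu huG (mul_mem hx0.1 (C.MG hm2)) hd fun a ha =>
      hw' ▸ (mem_fix.mp (Q.z_le C E hz)).2 a ha
    exact Q0.xM (by simpa using M.mul_mem this (M.inv_mem hm2))
  · have hsl : s ∈ loc p W Γ S g := (E.loc_iff C hodd hs).mpr hsA
    obtain ⟨a, ha, hm⟩ := Q0.point C E (h := s * x0) (mul_mem hsl hx0) fun h =>
      Q0.xM (by simpa using M.mul_mem (M.inv_mem (C.SM hs)) h)
    refine ⟨a, ha, ?_⟩
    obtain ⟨r, hr⟩ : ∃ r, r = a⁻¹ * s := ⟨_, rfl⟩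
    have hrR0 : r ∈ R0 := hR0 ▸ mem_inf.mpr ⟨mem_inf.mpr ⟨hr ▸ mul_mem (inv_mem (E.leS ha)) hs,
      hr ▸ mul_mem (inv_mem (E.leLoc ha)) hsl⟩, mem_cj.mpr (by simpa [hr, mul_assoc] using hm)⟩
    have hrRm : x0⁻¹ * r * x0 ∈ Rm := by
      refine hle (le_sup_right (a := delta p W Γ S g) ?_)
      have := conj_mem_cj x0⁻¹ hrR0
      rwa [inv_inv] at this
    rw [← hr]
    refine ⟨?_, ?_⟩
    · have hr0 : x0⁻¹ * r * x0 ∈ loc p W Γ S g := (hRm.1 hrRm).1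
      have h2 : cj (x0⁻¹ * r * x0 * k) A = cj k A :=
        E.eq_of_le C hodd hk.1 (C.MG hm2) (C.member_cj (mul_mem hr0 hk.1).1 E.mem)
          (E.cj_notin C (mul_mem hr0 hk.1)) ((le_sup_left.trans hle).trans hm2le) (hkA.trans hm2le)
          (by
            rw [← cj_cj]
            exact ((cj_mono _ hkA).trans (cj_eq_of_norm (le_normalizer hrRm)).le).trans hm2le)
      rw [hxe, cj_cj, show r * (x0 * k) = x0 * (x0⁻¹ * r * x0 * k) by group, ← cj_cj, h2, cj_cj]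
    · rw [hw'e, show r * (x0 * (m2 * u * m2⁻¹) * x0⁻¹) * r⁻¹ =
        x0 * ((x0⁻¹ * r * x0) * (m2 * u * m2⁻¹) * (x0⁻¹ * r * x0)⁻¹) * x0⁻¹ by group, hfixRm _ hrRm]

end Cfsg.Agent.Fus.RootPair
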