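import Cfsg.Agent.Lib.Fus.RootPairUnique

/-!
# Every member is omitted by a maximal intersection
-/

set_option autoImplicit false
set_option linter.unusedSectionVars false
set_option linter.style.haveILetI false

open scoped commutatorElement Pointwise

namespace Cfsg.Agent.Fus.RootPair

open Subgroup Cfsg.Agent.Grp Cfsg.Agent.Grp.OffenderSL2 Matrix

universe u

variable {G : Type u} [Group G] [Finite G] {p : ℕ} [Fact p.Prime] {W Γ S M : Subgroup G}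
  (C : Sit p W Γ S M)
include C

theorem Sit.member_max {A : Subgroup G} (hA : Member p W Γ A) :
    ∀ E' : Subgroup G, E' ≤ A → meas W E' ≤ meas W A := by
  intro E' hE
  by_cases h0 : E' = ⊥
  · refine le_trans ?_ hA.meas_ge
    rw [h0, meas, Subgroup.card_bot, one_mul]
    exact card_le_of_le inf_le_left
  by_cases h1 : E' = A
  · rw [h1]
  exact (hA.strict E' hE h0 h1).le

theorem Sit.cj_commW {h : G} (hh : h ∈ Γ) (A : Subgroup G) : cj h ⁅A, W⁆ = ⁅cj h A, W⁆ := by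
  rw [cj, map_commutator]
  exact congrArg₂ (fun a b => ⁅a, b⁆) rfl (C.cj_W hh)

variable {g : G} {A : Subgroup G} (E : Ext p W Γ S M g A)
include E

theorem Ext.QA_le : ⁅A, W⁆ ≤ W :=
  commutator_le.mpr fun a ha w hw => W.mul_mem (C.norm a (E.mem.le ha) w hw) (W.inv_mem hw)

variable {x : G} {T : Subgroup G} (Q : Pr p W Γ S M g A x T)
include Q

theorem Pr.P_le : A ⊔ cj x A ≤ Γ := sup_le E.mem.le (C.member_cj (Q.xΓ C E) E.mem).le

theorem Pr.QA_le_H : ⁅A, W⁆ ≤ W ⊓ centralizer (A : Set G) :=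
  commutator_le.mpr fun a ha w hw => Q.conf.quadratic a ha w hw

theorem Pr.natural : ∃ (F : Type) (_ : Field F) (_ : Fintype F), Fintype.card F = Nat.card A ∧
    ∃ (ρ : ↥(A ⊔ cj x A) →* Matrix.SpecialLinearGroup (Fin 2) F) (ψ : ↥W →* Multiplicative (Fin 2 → F)),
      Function.Bijective ρ ∧ Function.Surjective ψ ∧
      (∀ v : ↥W, ψ v = 1 ↔ (v : G) ∈ W ⊓ centralizer ((A ⊔ cj x A : Subgroup G) : Set G)) ∧
      ∀ (e : ↥(A ⊔ cj x A)) (v : ↥W), ∀ w : ↥W, (w : G) = (e : G) * (v : G) * (e : G)⁻¹ →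
        Multiplicative.toAdd (ψ w) = ((ρ e : Matrix.SpecialLinearGroup (Fin 2) F) :
          Matrix (Fin 2) (Fin 2) F) *ᵥ Multiplicative.toAdd (ψ v) := by
  obtain ⟨F, iF, fF, hF, ⟨iso⟩, -, -, -, ρ, ψ, hr, hψ, hker, hact⟩ := Q.conf.natural
    (le_bot_iff.mp ((inf_le_inf (Q.P_le C E) le_rfl).trans C.faith.le))
  refine ⟨F, iF, fF, hF, ρ, ψ, (Nat.bijective_iff_surjective_and_card ρ).mpr
    ⟨MonoidHom.range_eq_top.mp hr, Nat.card_congr iso.toEquiv⟩, hψ, hker, fun e v w hw => ?_⟩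
  obtain ⟨w', hw', he⟩ := hact e v
  rwa [show w = w' from Subtype.ext (hw.trans hw'.symm)]

/-- The commutator space meets the fixed space of the pair trivially. -/
theorem Pr.comm_inf (hodd : p ≠ 2) {w : G} (hw : w ∈ ⁅A, W⁆)
    (hwZ : w ∈ W ⊓ centralizer ((A ⊔ cj x A : Subgroup G) : Set G)) : w = 1 := by
  classical
  obtain ⟨F, iF, fF, hF, ρ, ψ, hρ, hψ, hker, hact⟩ := Q.natural C E
  obtain ⟨ζ, hζ⟩ := hρ.2 (-1)
  have hcomm : ∀ e : ↥(A ⊔ cj x A), (ζ : G) * e = e * ζ := fun e => by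
    have : ζ * e = e * ζ := hρ.1 (by rw [map_mul, map_mul, hζ]; simp)
    exact congrArg Subtype.val this
  have hζW : ∀ v ∈ W, (ζ : G) * v * (ζ : G)⁻¹ ∈ W := C.norm _ (Q.P_le C E ζ.2)
  obtain ⟨I, hI⟩ : ∃ I : Subgroup G, ∀ v, v ∈ I ↔ v ∈ W ∧ (ζ : G) * v * (ζ : G)⁻¹ = v⁻¹ :=
    ⟨{ carrier := {v | v ∈ W ∧ (ζ : G) * v * (ζ : G)⁻¹ = v⁻¹}
       one_mem' := ⟨one_mem _, by simp⟩
       mul_mem' := fun {a b} ha hb => ⟨mul_mem ha.1 hb.1, by
         rw [show (ζ : G) * (a * b) * (ζ : G)⁻¹ = ((ζ : G) * a * (ζ : G)⁻¹) * ((ζ : G) * b * (ζ : G)⁻¹) by group,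
           ha.2, hb.2, _root_.mul_inv_rev]
         exact C.wcomm _ (inv_mem ha.1) _ (inv_mem hb.1)⟩
       inv_mem' := fun {a} ha => ⟨inv_mem ha.1, by
         rw [show (ζ : G) * a⁻¹ * (ζ : G)⁻¹ = ((ζ : G) * a * (ζ : G)⁻¹)⁻¹ by group, ha.2]⟩ }, fun _ => Iff.rfl⟩
  have hQI : ⁅A, W⁆ ≤ I := by
    refine commutator_le.mpr fun a ha v hv => ?_
    obtain ⟨t, ht⟩ : ∃ t, t = (ζ : G) * v * (ζ : G)⁻¹ := ⟨_, rfl⟩
    have htW : t ∈ W := ht ▸ hζW v hv
    have hvt : v * t ∈ W ⊓ centralizer ((A ⊔ cj x A : Subgroup G) : Set G) := by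
      refine (hker ⟨v * t, mul_mem hv htW⟩).mp ?_
      rw [show (⟨v * t, mul_mem hv htW⟩ : ↥W) = ⟨v, hv⟩ * ⟨t, htW⟩ from rfl, map_mul]
      refine Multiplicative.toAdd.injective ?_
      rw [toAdd_mul, hact ζ ⟨v, hv⟩ ⟨t, htW⟩ ht, hζ, toAdd_one]
      simp [Matrix.neg_mulVec]
    have hsq : (ζ : G) * t * (ζ : G)⁻¹ = v := by
      have h2 : ζ * ζ = 1 := hρ.1 (by rw [map_mul, hζ, map_one]; simp)
      have h3 : (ζ : G) * ζ = 1 := congrArg Subtype.val h2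
      rw [ht, show (ζ : G) * ((ζ : G) * v * (ζ : G)⁻¹) * (ζ : G)⁻¹ = ((ζ : G) * ζ) * v * ((ζ : G) * ζ)⁻¹ by group,
        h3, one_mul, inv_one, mul_one]
    have hiv : v * t⁻¹ ∈ I := (hI _).mpr ⟨mul_mem hv (inv_mem htW), by
      rw [show (ζ : G) * (v * t⁻¹) * (ζ : G)⁻¹ = ((ζ : G) * v * (ζ : G)⁻¹) * ((ζ : G) * t * (ζ : G)⁻¹)⁻¹ by group,
        hsq, ← ht, _root_.mul_inv_rev, inv_inv]⟩
    have haP : a ∈ A ⊔ cj x A := le_sup_left (b := cj x A) ha
    have hza := hcomm ⟨a, haP⟩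
    have h1 : ⁅a, v * t⁻¹⁆ ∈ I := by
      refine (hI _).mpr ⟨Q.conf.comm_mem haP (mul_mem hv (inv_mem htW)), ?_⟩
      rw [show (ζ : G) * ⁅a, v * t⁻¹⁆ * (ζ : G)⁻¹ =
        ⁅(ζ : G) * a * (ζ : G)⁻¹, (ζ : G) * (v * t⁻¹) * (ζ : G)⁻¹⁆ by simp only [commutatorElement_def]; group,
        ((hI _).mp hiv).2, show (ζ : G) * a * (ζ : G)⁻¹ = a from mul_inv_eq_iff_eq_mul.mpr hza]
      have h2 := Q.conf.comm_mul_right haP (inv_mem (mul_mem hv (inv_mem htW))) (mul_mem hv (inv_mem htW))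
      rw [inv_mul_cancel, commutatorElement_one_right] at h2
      exact eq_inv_of_mul_eq_one_left h2.symm
    have h3 : ⁅a, v⁆ ^ 2 = ⁅a, v * t⁻¹⁆ := by
      have e : v * v = (v * t⁻¹) * (v * t) := by
        rw [C.wcomm v hv t htW, mul_assoc, ← mul_assoc t⁻¹ t v, inv_mul_cancel, one_mul]
      have h4 := Q.conf.comm_mul_right haP hv hv
      rw [e, Q.conf.comm_mul_right haP (mul_mem hv (inv_mem htW)) hvt.1,
        show ⁅a, v * t⁆ = 1 by rw [commutatorElement_def, Q.conf.z_le haP hvt, mul_inv_cancel], mul_one] at h4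
      rw [pow_two, ← h4]
    have h5 : ⁅a, v⁆ = (⁅a, v⁆ ^ 2) ^ ((p + 1) / 2) := by
      obtain ⟨k, hk⟩ := ((Fact.out : p.Prime).odd_of_ne_two hodd)
      rw [← pow_mul, show 2 * ((p + 1) / 2) = p + 1 by omega, pow_succ,
        C.wexp _ (Q.conf.comm_mem haP hv), one_mul]
    rw [h5, h3]
    exact pow_mem h1 _
  have h1 := ((hI w).mp (hQI hw)).2
  rw [Q.conf.z_le ζ.2 hwZ, eq_inv_iff_mul_eq_one, ← pow_two] at h1
  have h2 : orderOf w ∣ 2 := orderOf_dvd_of_pow_eq_one h1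
  have h3 : orderOf w ∣ p := orderOf_dvd_of_pow_eq_one (C.wexp w hwZ.1)
  rw [← orderOf_eq_one_iff]
  exact Nat.dvd_one.mp (((Nat.coprime_primes Nat.prime_two Fact.out).mpr fun e => hodd e.symm) ▸
    Nat.dvd_gcd h2 h3)

set_option maxHeartbeats 1000000 in
omit Q in
/-- An abelian group of largest measure permuting the members normalises each one. -/
theorem Ext.fix_member (hodd : p ≠ 2) {U : Subgroup G} (hUS : U ≤ S)
    (hUc : ∀ a ∈ U, ∀ b ∈ U, a * b = b * a) (hmax : ∀ E' : Subgroup G, E' ≤ U → meas W E' ≤ meas W U)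
    (hperm : ∀ e ∈ U, cj e A = A ∨ cj e A ∈ inter p W Γ S g) : ∀ e ∈ U, cj e A = A := by
  classical
  obtain ⟨x, T, Q⟩ := E.exists_pair C
  obtain ⟨hDW, -, -⟩ := Q.separation C E (m := 1) (one_mem _) (D := delta p W Γ S g)
    (by rw [cj_one]; exact C.delta_le g) (E.leLoc.trans inf_le_right) Q.xloc.2
  obtain ⟨U', hU'⟩ : ∃ U', U' = U ⊓ normalizer (A : Set G) := ⟨_, rfl⟩
  suffices he : U' = U by
    intro e he'
    exact cj_eq_of_norm ((hU'.le (he.ge he')).2)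
  have hUΓ : U ≤ Γ := hUS.trans C.syl.1
  have hU'U : U' ≤ U := hU' ▸ inf_le_left
  have hUp : IsPGroup p U := C.syl.2.1.to_le hUS
  obtain ⟨Z, hZ⟩ : ∃ Z, Z = W ⊓ centralizer ((A ⊔ cj x A : Subgroup G) : Set G) := ⟨_, rfl⟩
  obtain ⟨v, hv, hv1, hvfix⟩ : ∃ v ∈ ⁅A, W⁆, v ≠ 1 ∧ ∀ e ∈ U', e * v * e⁻¹ = v := by
    obtain ⟨J, hJ⟩ : ∃ J, J = U' ⊔ ⁅A, W⁆ := ⟨_, rfl⟩
    have hQp : IsPGroup p ↥(⁅A, W⁆) := fun w => ⟨1, Subtype.ext (by
      rw [pow_one, coe_pow, coe_one]; exact C.wexp _ (E.QA_le C w.2))⟩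
    have hU'n : U' ≤ normalizer ((⁅A, W⁆ : Subgroup G) : Set G) := fun e he => by
      rw [hU'] at he
      exact norm_of_cj (by rw [C.cj_commW (hUΓ he.1), cj_eq_of_norm he.2])
    have hJp : IsPGroup p ↥J := hJ ▸ (hUp.to_le hU'U).to_sup_of_normal_right' hQp hU'n
    have : Group.IsNilpotent ↥J := hJp.isNilpotent
    have : ((⁅A, W⁆).subgroupOf J).Normal :=
      normal_subgroupOf_of_le_normalizer (hJ ▸ sup_le hU'n le_normalizer)
    have hne : (⁅A, W⁆).subgroupOf J ≠ ⊥ := fun e => by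
      rw [subgroupOf_eq_bot, disjoint_iff, inf_eq_left.mpr (hJ ▸ le_sup_right)] at e
      refine E.mem.ne (eq_bot_iff.mpr fun a ha => ?_)
      rw [← C.faith]
      refine mem_inf.mpr ⟨E.mem.le ha, mem_centralizer_iff.mpr fun w hw => ?_⟩
      have := commutator_mem_commutator ha hw
      rw [e, mem_bot, commutatorElement_eq_one_iff_mul_comm] at this
      exact this.symm
    obtain ⟨z, hz, hz1⟩ := (bot_or_exists_ne_one _).resolve_left (Grp.inf_center_ne_bot _ hne)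
    refine ⟨z, mem_subgroupOf.mp hz.1, fun e => hz1 (Subtype.ext e), fun e he => ?_⟩
    have := congrArg Subtype.val (Subgroup.mem_center_iff.mp hz.2 ⟨e, hJ ▸ le_sup_left (b := ⁅A, W⁆) he⟩)
    exact mul_inv_eq_iff_eq_mul.mpr this
  have hvW : v ∈ W := E.QA_le C hv
  have hvZ : ∀ k : ℕ, v ^ k ∈ Z → v ^ k = 1 := fun k hk =>
    Q.comm_inf C E hodd (pow_mem hv k) (hZ ▸ hk)
  have hout : ∀ e ∈ U, e ∉ U' → ∀ d ∈ zpowers v, e * d * e⁻¹ ∈ Z := by
    intro e he hn d hd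
    have hB : cj e A ∈ inter p W Γ S g := (hperm e he).resolve_left fun h =>
      hn (hU' ▸ mem_inf.mpr ⟨he, norm_of_cj h⟩)
    have h1 : e * d * e⁻¹ ∈ ⁅cj e A, W⁆ := by
      rw [← C.cj_commW (hUΓ he)]
      exact conj_mem_cj e (zpowers_le.mpr hv hd)
    refine (commutator_le.mpr fun b hb w hw => hZ ▸ hDW b (le_jn hB hb) w hw) h1
  -- count
  by_contra hne
  letI : CommGroup ↥W :=
    { (inferInstance : Group ↥W) with mul_comm := fun a b => Subtype.ext (C.wcomm _ a.2 _ b.2) }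
  let cg : ↥U → (↥W →* ↥W) := fun e =>
    { toFun := fun w => ⟨(e : G) * w * (e : G)⁻¹, C.norm e (hUΓ e.2) w w.2⟩
      map_one' := Subtype.ext (by simp)
      map_mul' := fun a b => Subtype.ext (by simp [mul_assoc]) }
  have hcg : ∀ (e f : ↥U) (w : ↥W), cg e (cg f w) = cg (e * f) w := fun e f w =>
    Subtype.ext (by simp [cg, mul_assoc])
  let I := {q : ↥U ⧸ U'.subgroupOf U // q ≠ ((1 : ↥U) : ↥U ⧸ U'.subgroupOf U)}
  have hrep : ∀ q : I, ((q.1.out : ↥U) : G) ∉ U' := fun q h => q.2 (by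
    rw [← QuotientGroup.out_eq' q.1, QuotientGroup.eq, mul_one]
    exact inv_mem (mem_subgroupOf.mpr h))
  obtain ⟨V0, hV0⟩ : ∃ V0, V0 = Subgroup.zpowers (⟨v, hvW⟩ : ↥W) := ⟨_, rfl⟩
  have hV0mem : ∀ d ∈ V0, (d : G) ∈ zpowers v := fun d hd => by
    rw [hV0] at hd
    obtain ⟨k, rfl⟩ := mem_zpowers_iff.mp hd
    exact mem_zpowers_iff.mpr ⟨k, by rw [SubgroupClass.coe_zpow]⟩
  obtain ⟨CE, hCE⟩ : ∃ CE, CE = (W ⊓ centralizer (U : Set G)).subgroupOf W := ⟨_, rfl⟩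
  obtain ⟨ZW, hZW⟩ : ∃ ZW, ZW = Z.subgroupOf W := ⟨_, rfl⟩
  haveI : Fintype I := Fintype.ofFinite _
  let Φ : (I → ↥V0) × ↥CE →* ↥W :=
    { toFun := fun q => (∏ i, cg i.1.out ((q.1 i : ↥V0) : ↥W)) * (q.2 : ↥W)
      map_one' := by simp
      map_mul' := fun a b => by
        rw [mul_mul_mul_comm, ← Finset.prod_mul_distrib, Prod.snd_mul, Subgroup.coe_mul]
        refine congrArg (· * _) (Finset.prod_congr rfl fun i _ => ?_)
        rw [Prod.fst_mul, Pi.mul_apply, Subgroup.coe_mul, map_mul] }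
  have hΦfix : ∀ q, ∀ e ∈ U', e * (Φ q : G) * e⁻¹ = (Φ q : G) := by
    intro q e he
    have h1 : cg ⟨e, hU'U he⟩ (Φ q) = Φ q := by
      show cg ⟨e, hU'U he⟩ ((∏ i, cg i.1.out ((q.1 i : ↥V0) : ↥W)) * (q.2 : ↥W)) = _
      rw [map_mul, map_prod]
      refine congrArg₂ (· * ·) (Finset.prod_congr rfl fun i _ => ?_) (Subtype.ext ?_)
      · rw [hcg, show (⟨e, hU'U he⟩ : ↥U) * i.1.out = i.1.out * ⟨e, hU'U he⟩ from
          Subtype.ext (hUc _ (hU'U he) _ i.1.out.2), ← hcg]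
        refine congrArg _ (Subtype.ext ?_)
        obtain ⟨k, hk⟩ := mem_zpowers_iff.mp (hV0mem _ (q.1 i).2)
        show e * (((q.1 i : ↥V0) : ↥W) : G) * e⁻¹ = _
        rw [← hk, ← conj_zpow, hvfix e he]
      · exact (mem_fix.mp (mem_subgroupOf.mp (hCE.le q.2.2))).2 e (hU'U he)
    exact congrArg Subtype.val h1
  have hinj : Function.Injective Φ := by
    refine (injective_iff_map_eq_one Φ).mpr fun q hq => ?_
    have hcZ : ∀ e : ↥U, cg e (q.2 : ↥W) = (q.2 : ↥W) := fun e => Subtype.ext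
      ((mem_fix.mp (mem_subgroupOf.mp (hCE.le q.2.2))).2 _ e.2)
    have hterm : ∀ (e : ↥U) (i : I), (e : G) * ((i.1.out : ↥U) : G) ∉ U' →
        cg e (cg i.1.out ((q.1 i : ↥V0) : ↥W)) ∈ ZW := fun e i h => by
      rw [hcg, hZW, mem_subgroupOf]
      exact hout _ (e * i.1.out).2 h _ (hV0mem _ (q.1 i).2)
    have hc : (q.2 : ↥W) ∈ ZW := by
      have hprod : (∏ i, cg i.1.out ((q.1 i : ↥V0) : ↥W)) ∈ ZW :=
        prod_mem fun i _ => by
          have := hterm 1 i (by simpa using hrep i)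
          rwa [show cg 1 (cg i.1.out ((q.1 i : ↥V0) : ↥W)) = cg i.1.out ((q.1 i : ↥V0) : ↥W) by
            rw [hcg, one_mul]] at this
      have h1 : (∏ i, cg i.1.out ((q.1 i : ↥V0) : ↥W)) * (q.2 : ↥W) = 1 := hq
      rw [show (q.2 : ↥W) = (∏ i, cg i.1.out ((q.1 i : ↥V0) : ↥W))⁻¹ from eq_inv_of_mul_eq_one_right h1]
      exact inv_mem hprod
    have hone : ∀ i, q.1 i = 1 := by
      intro i
      have h1 : cg (i.1.out)⁻¹ ((∏ j, cg j.1.out ((q.1 j : ↥V0) : ↥W)) * (q.2 : ↥W)) = 1 := by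
        rw [show (∏ j, cg j.1.out ((q.1 j : ↥V0) : ↥W)) * (q.2 : ↥W) = 1 from hq, map_one]
      rw [map_mul, hcZ, map_prod, ← Finset.mul_prod_erase _ _ (Finset.mem_univ i)] at h1
      have hrest : (∏ j ∈ Finset.univ.erase i, cg (i.1.out)⁻¹ (cg j.1.out ((q.1 j : ↥V0) : ↥W))) ∈ ZW :=
        prod_mem fun j hj => hterm _ j fun h => (Finset.ne_of_mem_erase hj) (Subtype.ext (by
          rw [← QuotientGroup.out_eq' j.1, ← QuotientGroup.out_eq' i.1, eq_comm, QuotientGroup.eq]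
          exact mem_subgroupOf.mpr h))
      rw [hcg, inv_mul_cancel, show cg 1 ((q.1 i : ↥V0) : ↥W) = ((q.1 i : ↥V0) : ↥W) from
        Subtype.ext (by simp [cg]), mul_assoc] at h1
      have h2 : ((q.1 i : ↥V0) : ↥W) ∈ ZW := by
        rw [eq_inv_of_mul_eq_one_left h1]
        exact inv_mem (mul_mem hrest hc)
      refine Subtype.ext (Subtype.ext ?_)
      obtain ⟨k, hk⟩ := (isOfFinOrder_of_finite v).mem_powers_iff_mem_zpowers.mpr (hV0mem _ (q.1 i).2)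
      dsimp only at hk
      rw [← hk]
      exact hvZ k (hk.symm ▸ (hZW.le h2))
    refine Prod.ext (funext hone) (Subtype.ext ?_)
    have h1 : (∏ j, cg j.1.out ((q.1 j : ↥V0) : ↥W)) * (q.2 : ↥W) = 1 := hq
    rwa [Finset.prod_eq_one fun j _ => by rw [hone j, coe_one, map_one], one_mul] at h1
  have hV0card : Nat.card ↥V0 = p := by
    rw [hV0, Nat.card_zpowers]
    exact orderOf_eq_prime (Subtype.ext (C.wexp v hvW)) fun e => hv1 (congrArg Subtype.val e)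
  have hCEcard : Nat.card ↥CE = Nat.card ↥(W ⊓ centralizer (U : Set G)) := by
    rw [hCE]; exact Nat.card_congr (subgroupOfEquivOfLe inf_le_left).toEquiv
  have hIcard : Nat.card I + 1 = Nat.card (↥U ⧸ U'.subgroupOf U) := by
    haveI : Fintype (↥U ⧸ U'.subgroupOf U) := Fintype.ofFinite _
    rw [Nat.card_eq_fintype_card, Nat.card_eq_fintype_card, Fintype.card_subtype_compl,
      Fintype.card_subtype_eq]
    exact Nat.succ_pred_eq_of_pos Fintype.card_pos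
  have hle : p ^ Nat.card I * Nat.card ↥(W ⊓ centralizer (U : Set G)) ≤
      Nat.card ↥(W ⊓ centralizer (U' : Set G)) := by
    have h := Nat.card_le_card_of_injective
      (fun q => (⟨(Φ q : G), mem_fix.mpr ⟨(Φ q).2, hΦfix q⟩⟩ : ↥(W ⊓ centralizer (U' : Set G))))
      fun a b h => hinj (Subtype.ext (congrArg (fun z : ↥(W ⊓ centralizer (U' : Set G)) => (z : G)) h))
    rw [Nat.card_prod, Nat.card_fun, hV0card, hCEcard] at h
    exact h
  have hm := hmax U' hU'U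
  rw [meas, meas, card_eq_card_quotient_mul_card_subgroup (U'.subgroupOf U), ← hIcard,
    Nat.card_congr (subgroupOfEquivOfLe hU'U).toEquiv] at hm
  have h1 : Nat.card U' * (p ^ Nat.card I * Nat.card ↥(W ⊓ centralizer (U : Set G))) ≤
      (Nat.card I + 1) * Nat.card U' * Nat.card ↥(W ⊓ centralizer (U : Set G)) :=
    (Nat.mul_le_mul_left _ hle).trans hm
  rw [← mul_assoc, mul_comm (Nat.card U') (p ^ _)] at h1
  have h2 : p ^ Nat.card I ≤ Nat.card I + 1 :=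
    Nat.le_of_mul_le_mul_right (Nat.le_of_mul_le_mul_right h1 Nat.card_pos) Nat.card_pos
  have hI0 : 0 < Nat.card I := by
    obtain ⟨e, he, hen⟩ := SetLike.not_le_iff_exists.mp fun h : U ≤ U' => hne (le_antisymm hU'U h)
    have : Nonempty I := ⟨⟨QuotientGroup.mk ⟨e, he⟩, fun h => hen (by
      rw [QuotientGroup.eq, mul_one, inv_mem_iff, mem_subgroupOf] at h
      exact h)⟩⟩
    exact Nat.card_pos
  have h3 : ∀ n : ℕ, 0 < n → n + 1 < 3 ^ n := by
    intro n hn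
    induction n with
    | zero => omega
    | succ n ih =>
      rw [pow_succ]
      rcases Nat.eq_zero_or_pos n with rfl | hn'
      · norm_num
      · have := ih hn'; omega
  have hp3 : 3 ≤ p := by
    have := (Fact.out : p.Prime).two_le
    omega
  exact absurd h2 (not_le.mpr ((h3 _ hI0).trans_le (Nat.pow_le_pow_left hp3 _)))

omit Q in
theorem Ext.mems_loc : mems p W Γ (S ⊓ loc p W Γ S g) = insert A (inter p W Γ S g) := by
  ext B
  constructor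
  · rintro ⟨hB, hle⟩
    by_cases hn : B ∈ inter p W Γ S g
    · exact Set.mem_insert_of_mem _ hn
    · exact Set.mem_insert_iff.mpr (Or.inl (E.unique C ⟨E.top, hB, hle.trans inf_le_left, hn, hle.trans inf_le_right⟩))
  · rintro (rfl | hB)
    · exact ⟨E.mem, le_inf E.leS E.leLoc⟩
    · exact ⟨hB.1.1, le_inf hB.1.2 ((le_jn hB).trans (C.delta_le_loc g))⟩

omit Q in
theorem Ext.conj_inter {e : G} (he : e ∈ Γ) (hset : cj e '' insert A (inter p W Γ S g) ⊆ insert A (inter p W Γ S g))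
    (hA : cj e A = A) : e ∈ loc p W Γ S g := by
  refine mem_inf.mpr ⟨he, norm_of_cj (eq_of_le_of_card_ge ?_ (card_cj _ _).ge)⟩
  rw [delta, cj_jn]
  refine jn_le ?_
  rintro _ ⟨B, hB, rfl⟩
  rcases Set.mem_insert_iff.mp (hset ⟨B, Set.mem_insert_of_mem _ hB, rfl⟩) with h | h
  · exact absurd (cj_inj e (h.trans hA.symm) ▸ hB) E.notin
  · exact le_jn h

omit Q in
theorem Ext.mems_eq (hodd : p ≠ 2) : mems p W Γ S = insert A (inter p W Γ S g) := by
  refine Set.Subset.antisymm ?_ (Set.insert_subset ⟨E.mem, E.leS⟩ fun B hB => hB.1)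
  obtain ⟨E2, hE2⟩ : ∃ E2, E2 = jn (insert A (inter p W Γ S g)) := ⟨_, rfl⟩
  have hE2le : E2 ≤ S ⊓ loc p W Γ S g :=
    hE2 ▸ jn_le fun B hB => ((Set.ext_iff.mp (E.mems_loc C) B).mpr hB).2
  have hperm : ∀ e ∈ S, cj e E2 = E2 → cj e '' insert A (inter p W Γ S g) ⊆ insert A (inter p W Γ S g) := by
    rintro e he hE _ ⟨B, hB, rfl⟩
    have hBm : Member p W Γ B := ((Set.ext_iff.mp (E.mems_loc C) B).mpr hB).1
    rw [← E.mems_loc C]
    refine ⟨C.member_cj (C.syl.1 he) hBm, ?_⟩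
    exact ((cj_mono e (hE2 ▸ le_jn hB)).trans hE.le).trans hE2le
  obtain ⟨Qn, hQn⟩ : ∃ Qn, Qn = S ⊓ normalizer (E2 : Set G) := ⟨_, rfl⟩
  by_contra hnot
  have hex : ∃ B ∈ mems p W Γ Qn, B ∉ insert A (inter p W Γ S g) := by
    by_contra hc
    push Not at hc
    have hset : mems p W Γ Qn = insert A (inter p W Γ S g) := by
      refine Set.Subset.antisymm hc fun B hB => ?_
      have hB' := (Set.ext_iff.mp (E.mems_loc C) B).mpr hB
      exact ⟨hB'.1, hQn ▸ le_inf (hB'.2.trans inf_le_left) ((le_jn hB).trans (hE2 ▸ le_normalizer))⟩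
    have hQS : Qn = S := by
      by_contra hne
      have : Group.IsNilpotent ↥S := C.syl.2.1.isNilpotent
      have hlt : Qn.subgroupOf S < ⊤ := lt_top_iff_ne_top.mpr fun e =>
        hne (le_antisymm (hQn ▸ inf_le_left) (subgroupOf_eq_top.mp e))
      obtain ⟨r, hr, hrn⟩ := SetLike.exists_of_lt (normalizerCondition_of_isNilpotent (G := ↥S) _ hlt)
      refine hrn (mem_subgroupOf.mpr ?_)
      have hrN : cj (r : G) Qn = Qn := by
        refine eq_of_le_of_card_ge (cj_le.mpr fun x hx => ?_) (card_cj _ _).ge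
        have hx' : x ∈ S := (hQn.le hx).1
        exact mem_subgroupOf.mp ((mem_normalizer_iff.mp hr ⟨x, hx'⟩).mp (mem_subgroupOf.mpr hx))
      rw [hQn]
      refine mem_inf.mpr ⟨r.2, norm_of_cj ?_⟩
      rw [hE2, cj_jn, ← hset, ← C.mems_cj (C.syl.1 r.2), hrN]
    exact hnot (by rw [← hset, hQS])
  obtain ⟨B, ⟨hB, hBle⟩, hBn⟩ := hex
  rw [hQn] at hBle
  have hBS : B ≤ S := hBle.trans inf_le_left
  have hpB : ∀ e ∈ B, cj e '' insert A (inter p W Γ S g) ⊆ insert A (inter p W Γ S g) := fun e he =>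
    hperm e (hBS he) (cj_eq_of_norm (hBle he).2)
  have hfix := E.fix_member C hodd hBS hB.comm (C.member_max hB)
    (fun e he => Set.mem_insert_iff.mp (hpB e he ⟨A, Set.mem_insert _ _, rfl⟩))
  refine hBn ?_
  rw [← E.mems_loc C]
  exact ⟨hB, le_inf hBS fun e he => E.conj_inter C (hB.le he) (hpB e he) (hfix e he)⟩

omit E Q in
theorem Sit.exists_ext {g : G} (hT : Top p W Γ S M g) (hne : (mems p W Γ S).Nonempty) :
    ∃ A, Ext p W Γ S M g A := by
  obtain ⟨A, hA, hAn, hAl⟩ := C.exists_extra hT C.syl.2.1 (fun B hB => hB.1.2) (C.mems_ne_inter hT hne) C.syl.1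
  exact ⟨A, hT, hA.1, hA.2, hAn, hAl⟩

omit E Q in
/-- Every member is omitted. -/
theorem Sit.omitted (hodd : p ≠ 2) {A0 : Subgroup G} (hA0 : A0 ∈ mems p W Γ S) :
    ∃ g, Ext p W Γ S M g A0 := by
  suffices h : ∃ g, Top p W Γ S M g ∧ A0 ∉ inter p W Γ S g by
    obtain ⟨g, hg, hn⟩ := h
    obtain ⟨A, E⟩ := C.exists_ext hg ⟨A0, hA0⟩
    have := E.mems_eq C hodd ▸ hA0
    rcases Set.mem_insert_iff.mp this with rfl | h'
    · exact ⟨g, E⟩
    · exact absurd h' hn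
  by_contra hc
  push Not at hc
  obtain ⟨Φ0, hΦ0⟩ : ∃ Φ0, Φ0 = {B | B ∈ mems p W Γ S ∧ ∀ g, Top p W Γ S M g → B ∈ inter p W Γ S g} := ⟨_, rfl⟩
  obtain ⟨g, hg⟩ := C.exists_top
  obtain ⟨A, E⟩ := C.exists_ext hg ⟨A0, hA0⟩
  obtain ⟨x, T, Q⟩ := E.exists_pair C
  obtain ⟨-, -, hcm⟩ := Q.separation C E (m := 1) (one_mem _) (D := delta p W Γ S g)
    (by rw [cj_one]; exact C.delta_le g) (E.leLoc.trans inf_le_right) Q.xloc.2
  have hle : jn Φ0 ≤ delta p W Γ S g := jn_le fun B hB => le_jn ((hΦ0.le hB).2 g hg)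
  have hP : A ⊔ cj x A ≤ centralizer ((jn Φ0 : Subgroup G) : Set G) :=
    sup_le (fun a ha => mem_centralizer_iff.mpr fun d hd => (hcm d (hle hd) a ha).1)
      (cj_le.mpr fun a ha => mem_centralizer_iff.mpr fun d hd => (hcm d (hle hd) a ha).2)
  refine Q.xM (C.norm_le (Q := jn Φ0) (hle.trans (C.delta_gamma g)) (C.syl.2.1.to_le (hle.trans (C.delta_le g)))
    (fun e => hA0.1.ne (le_bot_iff.mp (e ▸ le_jn (hΦ0.ge ⟨hA0, hc⟩)))) ?_
    (mem_inf.mpr ⟨Q.xΓ C E, centralizer_le_normalizer _ (hP Q.xP)⟩))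
  intro s hs
  have hsΓ := C.syl.1 hs
  have hmemsS : ∀ B, B ∈ mems p W Γ S → cj s B ∈ mems p W Γ S := fun B hB =>
    ⟨C.member_cj hsΓ hB.1, (cj_mono s hB.2).trans (cj_eq_of_norm (le_normalizer hs)).le⟩
  have hinter : ∀ h, inter p W Γ S (s * h) = cj s '' inter p W Γ S h := fun h => by
    rw [inter, inter, Set.image_inter (cj_inj s), ← C.mems_cj hsΓ, ← C.mems_cj hsΓ,
      cj_eq_of_norm (le_normalizer hs), cj_cj]
  refine norm_of_cj (eq_of_le_of_card_ge ?_ (card_cj _ _).ge)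
  rw [cj_jn]
  refine jn_le ?_
  rintro _ ⟨B, hB, rfl⟩
  rw [hΦ0] at hB
  refine le_jn (hΦ0.ge ⟨hmemsS B hB.1, fun h hh => ?_⟩)
  have hcard : ∀ k, (inter p W Γ S (s * k)).ncard = (inter p W Γ S k).ncard := fun k => by
    rw [hinter, Set.ncard_image_of_injective _ (cj_inj s)]
  have hT' : Top p W Γ S M (s⁻¹ * h) := by
    refine ⟨mul_mem (inv_mem hsΓ) hh.mem, fun hm => hh.notM (by simpa using M.mul_mem (C.SM hs) hm), fun k hk hkM => ?_⟩
    rw [← hcard (s⁻¹ * h), mul_inv_cancel_left]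
    exact hh.max k hk hkM
  have := (hinter (s⁻¹ * h)).ge ⟨B, hB.2 _ hT', rfl⟩
  rwa [mul_inv_cancel_left] at this

end Cfsg.Agent.Fus.RootPair
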