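import Cfsg.Agent.Lib.Fus.RootPairConfig
import Cfsg.Agent.Lib.Fus.FailGlobal
import Cfsg.Agent.Lib.Grp.Frattini

/-!
# The member outside a maximal intersection is unique
-/

set_option autoImplicit false
set_option linter.unusedSectionVars false
set_option linter.style.haveILetI false

open scoped commutatorElement Pointwise

namespace Cfsg.Agent.Fus.RootPair

open Subgroup Cfsg.Agent.Grp Cfsg.Agent.Grp.OffenderSL2

universe u

variable {G : Type u} [Group G] [Finite G] {p : ℕ} [Fact p.Prime] {W Γ S M : Subgroup G}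
  (C : Sit p W Γ S M)
include C

variable {g : G} {A A' : Subgroup G} (E : Ext p W Γ S M g A) (E' : Ext p W Γ S M g A')
include E

theorem Ext.loc_not_le : ¬ loc p W Γ S g ≤ M := C.loc_not_le E.top ⟨A, E.mem, E.leS⟩

theorem Ext.exists_pair : ∃ x T, Pr p W Γ S M g A x T := by
  obtain ⟨x, T, -, hQ⟩ := E.exists_pr C le_rfl E.leLoc (E.loc_not_le C)
  exact ⟨x, T, hQ⟩

theorem Ext.meas_eq : meas W A = Nat.card W := by
  obtain ⟨x, T, Q⟩ := E.exists_pair C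
  exact Q.meas_eq C E

theorem Ext.conj {h : G} (hh : h ∈ loc p W Γ S g) (hS : h ∈ S) : Ext p W Γ S M g (cj h A) where
  top := E.top
  mem := C.member_cj hh.1 E.mem
  leS := (cj_mono h E.leS).trans (cj_eq_of_norm (le_normalizer hS)).le
  notin := fun hc => E.notin (by
    have := C.inter_conj (inv_mem hh) hc
    rwa [cj_cj, inv_mul_cancel, cj_one] at this)
  leLoc := (cj_mono h E.leLoc).trans (cj_eq_of_norm (le_normalizer hh)).le

include E'

theorem Ext.eq_of_commute (hc : ∀ a ∈ A, ∀ b ∈ A', a * b = b * a) : A' = A := by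
  classical
  obtain ⟨x, T, Q⟩ := E.exists_pair C
  obtain ⟨x', T', Q'⟩ := E'.exists_pair C
  have hx := Q.xloc
  have hAM : ∀ {a : G}, a ∈ A → a ∈ M := fun ha => C.SM (E.leS ha)
  have hA'M : ∀ {a : G}, a ∈ A' → a ∈ M := fun ha => C.SM (E'.leS ha)
  have hd : delta p W Γ S g ≤ cj x S := (cj_eq_of_norm hx.2).ge.trans (cj_mono _ (C.delta_le g))
  have hex : ∀ b : A', ∃ a : A, ((a : G) * x)⁻¹ * ((b : G) * x) ∈ M := by
    intro b
    obtain ⟨a, ha, h⟩ := Q.point C E (h := (b : G) * x) (mul_mem (E'.leLoc b.2) hx) fun h =>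
      Q.xM (by simpa using M.mul_mem (M.inv_mem (hA'M b.2)) h)
    exact ⟨⟨a, ha⟩, h⟩
  choose f hf using hex
  have hinj : Function.Injective f := by
    intro b1 b2 e
    have h1 := hf b1
    have h2 := hf b2
    rw [e] at h1
    have h3 : x⁻¹ * ((b1 : G)⁻¹ * b2) * x ∈ M := by
      have := M.mul_mem (M.inv_mem h1) h2
      simpa [mul_assoc] using this
    have := Q'.semireg C E' (mul_mem (inv_mem b1.2) b2.2) hx.1 hd Q.xM h3
    exact Subtype.ext (inv_mul_eq_one.mp this)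
  obtain ⟨K1, hK1⟩ : ∃ K1 : Subgroup G, ∀ k, k ∈ K1 ↔ k ∈ loc p W Γ S g ∧ k ∈ M ∧
      ∀ h ∈ loc p W Γ S g, h⁻¹ * k * h ∈ M :=
    ⟨{ carrier := {k | k ∈ loc p W Γ S g ∧ k ∈ M ∧ ∀ h ∈ loc p W Γ S g, h⁻¹ * k * h ∈ M}
       one_mem' := ⟨one_mem _, one_mem _, fun h _ => by simp⟩
       mul_mem' := fun {a b} ha hb => ⟨mul_mem ha.1 hb.1, mul_mem ha.2.1 hb.2.1, fun h hh => by
         simpa [mul_assoc] using M.mul_mem (ha.2.2 h hh) (hb.2.2 h hh)⟩
       inv_mem' := fun {a} ha => ⟨inv_mem ha.1, inv_mem ha.2.1, fun h hh => by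
         simpa [mul_assoc] using M.inv_mem (ha.2.2 h hh)⟩ }, fun _ => Iff.rfl⟩
  have hK1n : ∀ k ∈ loc p W Γ S g, ∀ c ∈ K1, k * c * k⁻¹ ∈ K1 := by
    intro k hk c hc
    rw [hK1] at hc
    refine (hK1 _).mpr ⟨mul_mem (mul_mem hk hc.1) (inv_mem hk), ?_, fun h hh => ?_⟩
    · simpa using hc.2.2 k⁻¹ (inv_mem hk)
    · simpa [mul_assoc] using hc.2.2 (k⁻¹ * h) (mul_mem (inv_mem hk) hh)
  have hr : ∀ b : A', ((f b : A) : G)⁻¹ * b ∈ K1 := by
    intro b
    have h0 : x⁻¹ * (((f b : A) : G)⁻¹ * b) * x ∈ M := by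
      simpa [mul_assoc] using hf b
    have hrM : ((f b : A) : G)⁻¹ * b ∈ M := M.mul_mem (M.inv_mem (hAM (f b).2)) (hA'M b.2)
    refine (hK1 _).mpr ⟨mul_mem (inv_mem (E.leLoc (f b).2)) (E'.leLoc b.2), hrM, fun h hh => ?_⟩
    by_cases hhM : h ∈ M
    · exact M.mul_mem (M.mul_mem (M.inv_mem hhM) hrM) hhM
    obtain ⟨a, ha, hm⟩ := Q.point C E hh hhM
    have hcomm : a⁻¹ * (((f b : A) : G)⁻¹ * b) * a = ((f b : A) : G)⁻¹ * b := by
      have e1 : a * (((f b : A) : G)⁻¹ * b) = ((f b : A) : G)⁻¹ * b * a := by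
        rw [← mul_assoc, E.mem.comm a ha _ (inv_mem (f b).2), mul_assoc, hc a ha b b.2, ← mul_assoc]
      rw [mul_assoc, ← e1, ← mul_assoc, inv_mul_cancel, one_mul]
    have := M.mul_mem (M.mul_mem (M.inv_mem hm) h0) hm
    rw [show ((a * x)⁻¹ * h)⁻¹ * (x⁻¹ * (((f b : A) : G)⁻¹ * b) * x) * ((a * x)⁻¹ * h) =
      h⁻¹ * a * (((f b : A) : G)⁻¹ * b) * a⁻¹ * h by group] at this
    have e2 : a * (((f b : A) : G)⁻¹ * b) * a⁻¹ = ((f b : A) : G)⁻¹ * b := by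
      conv_lhs => rw [← hcomm]
      group
    rw [show h⁻¹ * a * (((f b : A) : G)⁻¹ * b) * a⁻¹ * h = h⁻¹ * (a * (((f b : A) : G)⁻¹ * b) * a⁻¹) * h by group,
      e2] at this
    exact this
  -- the kernel has a Sylow subgroup normalised by `A`
  have hAA' : IsPGroup p ↥(A ⊔ A') := E.mem.pg.to_sup_of_normal_right' E'.mem.pg fun a ha =>
    centralizer_le_normalizer _ (mem_centralizer_iff.mpr fun b hb => (hc a ha b hb).symm)
  obtain ⟨Rm, hRm, hle⟩ := HomDPi.exists_isSylowIn_ge (q := p) (K := loc p W Γ S g ⊓ M)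
    (W := A ⊔ A') (sup_le (le_inf E.leLoc fun _ h => hAM h) (le_inf E'.leLoc fun _ h => hA'M h)) hAA'
  have hK1le : K1 ≤ loc p W Γ S g ⊓ M := fun k hk => ⟨((hK1 k).mp hk).1, ((hK1 k).mp hk).2.1⟩
  have hD2 : Grp.IsSylowIn p (Rm ⊓ K1) K1 :=
    Fail.sylow_inf_normal hRm hK1le fun k hk c hc => hK1n k hk.1 c hc
  have hAD : ∀ {a : G}, a ∈ A → a ∈ normalizer ((Rm ⊓ K1 : Subgroup G) : Set G) := fun {a} ha =>
    norm_of_cj (eq_of_le_of_card_ge (cj_le.mpr fun d hd =>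
      ⟨Rm.mul_mem (Rm.mul_mem (hle (le_sup_left (b := A') ha)) hd.1) (Rm.inv_mem (hle (le_sup_left (b := A') ha))),
        hK1n a (E.leLoc ha) d hd.2⟩) (card_cj _ _).ge)
  have hxK : MulAut.conj x • K1 = K1 := by
    rw [← map_conj_eq_smul]
    exact eq_of_le_of_card_ge (cj_le.mpr fun c hc => hK1n x hx c hc) (card_cj x K1).ge
  obtain ⟨k, hk, hke⟩ := hD2.conj (hD2.smul hxK)
  obtain ⟨N', hN'⟩ : ∃ N', N' = loc p W Γ S g ⊓ normalizer ((Rm ⊓ K1 : Subgroup G) : Set G) := ⟨_, rfl⟩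
  have hN'M : ¬ N' ≤ M := fun hle' => by
    have hk' : k⁻¹ * x ∈ N' := by
      refine hN' ▸ mem_inf.mpr ⟨mul_mem (inv_mem (hK1le hk).1) hx, ?_⟩
      rw [Grp.mem_normalizer_iff_smul, map_mul, mul_smul, ← hke, smul_smul, ← map_mul,
        inv_mul_cancel, map_one, one_smul]
    exact Q.xM (by simpa using M.mul_mem (hK1le hk).2 (hle' hk'))
  obtain ⟨x3, T3, hx3, Q3⟩ := E.exists_pr C (N' := N') (hN' ▸ inf_le_left)
    (hN' ▸ le_inf E.leLoc fun _ h => hAD h) hN'M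
  obtain ⟨m, hm, hmle⟩ := C.into_sylow (g := 1) (Q := Rm)
    (by rw [cj_one]; exact hRm.1.trans inf_le_right) hRm.2.1
  rw [one_mul] at hmle
  obtain ⟨hDW, hW, -⟩ := Q3.separation C E hm (inf_le_left.trans hmle) (fun _ h => hAD h) (hN'.le hx3).2
  -- the fixed space of `A'`
  have key : ∀ b : A', (b : G) ≠ 1 → ∀ v ∈ W, (b : G) * v * (b : G)⁻¹ = v →
      v ∈ W ⊓ centralizer (A : Set G) ∧ ∀ c ∈ W ⊓ centralizer ((Rm ⊓ K1 : Subgroup G) : Set G),
        ∀ z ∈ W ⊓ centralizer ((A ⊔ cj x3 A : Subgroup G) : Set G), c * z = v →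
          ((f b : A) : G)⁻¹ * b * z * (((f b : A) : G)⁻¹ * b)⁻¹ = z := by
    intro b hb v hv hfix
    obtain ⟨a, ha⟩ : ∃ a, a = ((f b : A) : G) := ⟨_, rfl⟩
    obtain ⟨r, hr'⟩ : ∃ r, r = a⁻¹ * b := ⟨_, rfl⟩
    have haA : a ∈ A := ha ▸ (f b).2
    have hbr : (b : G) = a * r := by rw [hr', mul_inv_cancel_left]
    have hrD : r ∈ Rm ⊓ K1 := ⟨by
      rw [hr']; exact Rm.mul_mem (Rm.inv_mem (hle (le_sup_left (b := A') haA))) (hle (le_sup_right (a := A) b.2)),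
      by rw [hr', ha]; exact hr b⟩
    have ha1 : a ≠ 1 := fun e => hb (Q'.semireg C E' b.2 hx.1 hd Q.xM (by
      simpa [mul_assoc, ← ha, e] using hf b))
    have main : ∀ c ∈ W ⊓ centralizer ((Rm ⊓ K1 : Subgroup G) : Set G),
        ∀ z ∈ W ⊓ centralizer ((A ⊔ cj x3 A : Subgroup G) : Set G), c * z = v →
          c ∈ W ⊓ centralizer (A : Set G) ∧ r * z * r⁻¹ = z := by
      intro c hc z hz hcz
      have hz2 : r * z * r⁻¹ ∈ W ⊓ centralizer ((A ⊔ cj x3 A : Subgroup G) : Set G) := by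
        have := mul_mem (hDW r hrD z hz.1) hz
        rwa [show ⁅r, z⁆ * z = r * z * r⁻¹ by rw [commutatorElement_def]; group] at this
      have hrc := (mem_fix.mp hc).2 r hrD
      have haz := Q3.conf.z_le (le_sup_left (b := cj x3 A) haA) hz2
      have h1 : ⁅a, c⁆ = z * (r * z * r⁻¹)⁻¹ := by
        have e : (b : G) * (c * z) * (b : G)⁻¹ = (a * c * a⁻¹) * (r * z * r⁻¹) := by
          rw [hbr, show a * r * (c * z) * (a * r)⁻¹ = (a * (r * c * r⁻¹) * a⁻¹) * (a * (r * z * r⁻¹) * a⁻¹) by group,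
            hrc, haz]
        rw [hcz, hfix] at e
        rw [commutatorElement_def, eq_mul_inv_iff_mul_eq]
        calc a * c * a⁻¹ * c⁻¹ * (r * z * r⁻¹)
            = c⁻¹ * ((a * c * a⁻¹) * (r * z * r⁻¹)) := by
              rw [C.wcomm _ (C.norm a (E.mem.le haA) c hc.1) _ (W.inv_mem hc.1)]; group
          _ = z := by rw [← e, ← hcz, inv_mul_cancel_left]
      have hmemZ : ⁅a, c⁆ ∈ W ⊓ centralizer ((A ⊔ cj x3 A : Subgroup G) : Set G) :=
        h1 ▸ mul_mem hz (inv_mem hz2)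
      have hcA := Q3.reg C E haA ha1 hc.1 hmemZ
      refine ⟨hcA, ?_⟩
      have h2 : ⁅a, c⁆ = 1 := by rw [commutatorElement_def, (mem_fix.mp hcA).2 a haA, mul_inv_cancel]
      rw [h2] at h1
      exact (mul_inv_eq_one.mp h1.symm).symm
    obtain ⟨c, hc0, z, hz0, hcz⟩ := exists_mul_of_comm (fun a (ha : a ∈ W ⊓ centralizer ((Rm ⊓ K1 : Subgroup G) : Set G))
      b (hb : b ∈ W ⊓ centralizer ((A ⊔ cj x3 A : Subgroup G) : Set G)) => C.wcomm a ha.1 b hb.1) (hW hv)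
    refine ⟨hcz ▸ mul_mem (main c hc0 z hz0 hcz).1 (Q3.z_le C E hz0), fun c' hc' z' hz' he => ?_⟩
    rw [← ha, ← hr']
    exact (main c' hc' z' hz' he).2
  obtain ⟨b0, hb0, hb01⟩ := (bot_or_exists_ne_one A').resolve_left E'.mem.ne
  have hH' : W ⊓ centralizer (A' : Set G) ≤ W ⊓ centralizer (A : Set G) := fun v hv =>
    (key ⟨b0, hb0⟩ hb01 v hv.1 ((mem_fix.mp hv).2 b0 hb0)).1
  have hcA : Nat.card A' ≤ Nat.card A := Nat.card_le_card_of_injective f hinj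
  have hm1 := E'.mem.meas_ge
  have hm2 := E.meas_eq C
  unfold meas at hm1 hm2
  have hH : W ⊓ centralizer (A' : Set G) = W ⊓ centralizer (A : Set G) :=
    eq_of_le_of_card_ge hH' (Nat.le_of_mul_le_mul_left
      (hm2.le.trans (hm1.trans (Nat.mul_le_mul_right _ hcA))) Nat.card_pos)
  have hsub : A' ≤ A := by
    intro b hb
    by_cases hb1 : b = 1
    · rw [hb1]; exact one_mem _
    have h1 : ((f ⟨b, hb⟩ : A) : G)⁻¹ * b = 1 := by
      rw [← mem_bot, ← C.faith]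
      refine mem_inf.mpr ⟨mul_mem (inv_mem (E.mem.le (f ⟨b, hb⟩).2)) (E'.mem.le hb), mem_centralizer_iff.mpr fun w hw => ?_⟩
      obtain ⟨c, hc0, z, hz0, rfl⟩ := exists_mul_of_comm (fun a (ha : a ∈ W ⊓ centralizer ((Rm ⊓ K1 : Subgroup G) : Set G))
        b (hb : b ∈ W ⊓ centralizer ((A ⊔ cj x3 A : Subgroup G) : Set G)) => C.wcomm a ha.1 b hb.1) (hW hw)
      have hrD : ((f ⟨b, hb⟩ : A) : G)⁻¹ * b ∈ Rm ⊓ K1 := ⟨Rm.mul_mem
        (Rm.inv_mem (hle (le_sup_left (b := A') (f ⟨b, hb⟩).2))) (hle (le_sup_right (a := A) hb)), hr ⟨b, hb⟩⟩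
      have hzfix : b * z * b⁻¹ = z := (mem_fix.mp (hH.ge (Q3.z_le C E hz0))).2 b hb
      have h2 := (key ⟨b, hb⟩ hb1 z hz0.1 hzfix).2 1 (one_mem _) z hz0 (one_mul z)
      have h3 := (mem_fix.mp hc0).2 _ hrD
      exact (mul_inv_eq_iff_eq_mul.mp (by
        rw [show ((f ⟨b, hb⟩ : A) : G)⁻¹ * b * (c * z) * (((f ⟨b, hb⟩ : A) : G)⁻¹ * b)⁻¹ =
          (((f ⟨b, hb⟩ : A) : G)⁻¹ * b * c * (((f ⟨b, hb⟩ : A) : G)⁻¹ * b)⁻¹) *
          (((f ⟨b, hb⟩ : A) : G)⁻¹ * b * z * (((f ⟨b, hb⟩ : A) : G)⁻¹ * b)⁻¹) by group, h3, h2])).symm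
    rw [← inv_mul_eq_one.mp h1]
    exact (f ⟨b, hb⟩).2
  by_contra hne
  have := E.mem.strict A' hsub E'.mem.ne hne
  exact absurd this (not_lt.mpr ((E.meas_eq C).le.trans E'.mem.meas_ge))

omit E' in
/-- Elements acting with the same fixed space and inside it commute. -/
theorem Ext.commute_of_fix {a b : G} (ha : a ∈ A) {B : Subgroup G} (E'' : Ext p W Γ S M g B) (hb : b ∈ B)
    (hH : W ⊓ centralizer (B : Set G) = W ⊓ centralizer (A : Set G)) : a * b = b * a := by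
  obtain ⟨x, T, Q⟩ := E.exists_pair C
  obtain ⟨x', T', Q'⟩ := E''.exists_pair C
  have h1 : ⁅a, b⁆ = 1 := by
    rw [← mem_bot, ← C.faith]
    refine mem_inf.mpr ⟨?_, mem_centralizer_iff.mpr fun w hw => ?_⟩
    · rw [commutatorElement_def]
      exact mul_mem (mul_mem (mul_mem (E.mem.le ha) (E''.mem.le hb)) (inv_mem (E.mem.le ha))) (inv_mem (E''.mem.le hb))
    have hab : ∀ {a b : G}, (∀ h ∈ W ⊓ centralizer (A : Set G), a * h * a⁻¹ = h) →
        (∀ w ∈ W, ⁅b, w⁆ ∈ W ⊓ centralizer (A : Set G)) → ∀ w ∈ W, a * (b * w * b⁻¹) * a⁻¹ = ⁅b, w⁆ * ⁅a, w⁆ * w := by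
      intro a b hfa hqb w hw
      rw [show b * w * b⁻¹ = ⁅b, w⁆ * w by rw [commutatorElement_def]; group,
        show a * (⁅b, w⁆ * w) * a⁻¹ = (a * ⁅b, w⁆ * a⁻¹) * (⁅a, w⁆ * w) by simp only [commutatorElement_def]; group,
        hfa _ (hqb w hw), mul_assoc]
    have hfa : ∀ h ∈ W ⊓ centralizer (A : Set G), a * h * a⁻¹ = h := fun h hh => (mem_fix.mp hh).2 a ha
    have hfb : ∀ h ∈ W ⊓ centralizer (A : Set G), b * h * b⁻¹ = h := fun h hh => (mem_fix.mp (hH.ge hh)).2 b hb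
    have hqa : ∀ w ∈ W, ⁅a, w⁆ ∈ W ⊓ centralizer (A : Set G) := Q.conf.quadratic a ha
    have hqb : ∀ w ∈ W, ⁅b, w⁆ ∈ W ⊓ centralizer (A : Set G) := fun w hw => hH.le (Q'.conf.quadratic b hb w hw)
    have hsym : ∀ w ∈ W, a * (b * w * b⁻¹) * a⁻¹ = b * (a * w * a⁻¹) * b⁻¹ := fun w hw => by
      rw [hab hfa hqb w hw, hab hfb hqa w hw, C.wcomm _ (hqb w hw).1 _ (hqa w hw).1]
    obtain ⟨w', hw', rfl⟩ : ∃ w' ∈ W, b * (a * w' * a⁻¹) * b⁻¹ = w :=
      ⟨a⁻¹ * (b⁻¹ * w * b) * a, by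
        simpa using C.norm a⁻¹ (inv_mem (E.mem.le ha)) _ (by simpa using C.norm b⁻¹ (inv_mem (E''.mem.le hb)) w hw),
        by group⟩
    rw [commutatorElement_def]
    have e : a * b * a⁻¹ * b⁻¹ * (b * (a * w' * a⁻¹) * b⁻¹) * (a * b * a⁻¹ * b⁻¹)⁻¹ =
        a * (b * w' * b⁻¹) * a⁻¹ := by group
    rw [hsym w' hw'] at e
    exact (mul_inv_eq_iff_eq_mul.mp e).symm
  exact commutatorElement_eq_one_iff_mul_comm.mp h1

theorem Ext.unique : A' = A := by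
  suffices h : ∀ (n : ℕ) (A A' : Subgroup G), Nat.card ↥(A ⊔ A') = n →
      Ext p W Γ S M g A → Ext p W Γ S M g A' → A' = A from h _ A A' rfl E E'
  intro n
  induction n using Nat.strong_induction_on with
  | _ n ih =>
    intro A A' hn E E'
    have step : ∀ (A A' : Subgroup G), Nat.card ↥(A ⊔ A') = n → Ext p W Γ S M g A → Ext p W Γ S M g A' →
        ∀ h ∈ A', cj h A = A ∨ A' = A := by
      intro A A' hn E E' h hh
      by_cases hne : A' = A
      · exact Or.inr hne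
      left
      refine ih _ (hn ▸ ?_) A (cj h A) rfl E (E.conj C (E'.leLoc hh) (E'.leS hh))
      have hle : A ⊔ cj h A ≤ A ⊔ A' := sup_le le_sup_left
        ((cj_mono h le_sup_left).trans (cj_eq_of_norm (le_normalizer (le_sup_right (a := A) hh))).le)
      refine lt_of_le_of_ne (card_le_of_le hle) fun hcard => ?_
      have he := eq_of_le_of_card_ge hle hcard.ge
      have hJp : IsPGroup p ↥(A ⊔ A') := C.syl.2.1.to_le (sup_le E.leS E'.leS)
      have : Group.IsNilpotent ↥(A ⊔ A') := hJp.isNilpotent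
      have hAne : A.subgroupOf (A ⊔ A') ≠ ⊤ := fun e => by
        have hle2 : A' ≤ A := le_sup_right.trans (subgroupOf_eq_top.mp e)
        exact absurd (E.mem.strict A' hle2 E'.mem.ne hne)
          (not_lt.mpr ((E.meas_eq C).le.trans E'.mem.meas_ge))
      obtain ⟨Mx, hMx, hAMx⟩ := (eq_top_or_exists_le_coatom _).resolve_left hAne
      have hMn : Mx.Normal := NormalizerCondition.normal_of_coatom Mx normalizerCondition_of_isNilpotent hMx
      refine hMx.1 (eq_top_iff.mpr fun j _ => ?_)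
      have hj : (j : G) ∈ A ⊔ cj h A := he.ge j.2
      have hsub : A ⊔ cj h A ≤ Mx.map (A ⊔ A').subtype := by
        refine sup_le (fun a ha => ⟨⟨a, le_sup_left (b := A') ha⟩, hAMx (mem_subgroupOf.mpr ha), rfl⟩) ?_
        refine cj_le.mpr fun a ha => ⟨⟨h, le_sup_right (a := A) hh⟩ * ⟨a, le_sup_left (b := A') ha⟩ *
          ⟨h, le_sup_right (a := A) hh⟩⁻¹, hMn.conj_mem _ (hAMx (mem_subgroupOf.mpr ha)) _, rfl⟩
      obtain ⟨j', hj', e⟩ := hsub hj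
      exact (Subtype.ext e : j' = j) ▸ hj'
    by_cases hne : A' = A
    · exact hne
    have h1 : ∀ h ∈ A', cj h A = A := fun h hh => (step A A' hn E E' h hh).resolve_right hne
    have h2 : ∀ h ∈ A, cj h A' = A' := fun h hh =>
      (step A' A (sup_comm A A' ▸ hn) E' E h hh).resolve_right fun e => hne e.symm
    refine E.eq_of_commute C E' fun a ha b hb => ?_
    have hcA : ⁅a, b⁆ ∈ A := by
      rw [commutatorElement_def, show a * b * a⁻¹ * b⁻¹ = a * (b * a⁻¹ * b⁻¹) by group]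
      exact A.mul_mem ha ((h1 b hb).le (conj_mem_cj b (A.inv_mem ha)))
    have hcB : ⁅a, b⁆ ∈ A' := by
      rw [commutatorElement_def]
      exact A'.mul_mem ((h2 a ha).le (conj_mem_cj a hb)) (A'.inv_mem hb)
    by_cases hc1 : ⁅a, b⁆ = 1
    · exact commutatorElement_eq_one_iff_mul_comm.mp hc1
    obtain ⟨x, T, Q⟩ := E.exists_pair C
    obtain ⟨x', T', Q'⟩ := E'.exists_pair C
    refine E.commute_of_fix C ha E' hb (le_antisymm (fun w hw => ?_) fun w hw => ?_)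
    · exact mem_fix.mpr ⟨hw.1, Q.reg_fix C E hcA hc1 hw.1 ((mem_fix.mp hw).2 _ hcB)⟩
    · exact mem_fix.mpr ⟨hw.1, Q'.reg_fix C E' hcB hc1 hw.1 ((mem_fix.mp hw).2 _ hcA)⟩

end Cfsg.Agent.Fus.RootPair
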