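import Cfsg.Agent.Lib.Fus.RankOne

/-!
Elementary facts about sets of abstract root subgroups.
-/

set_option autoImplicit false
set_option linter.style.haveILetI false

open scoped commutatorElement

namespace Cfsg.Agent.Fus

open Subgroup

variable {G : Type*} [Group G] {S : Set (Subgroup G)}

theorem commute_of_commutator_eq_bot {A B : Subgroup G} (h : ⁅A, B⁆ = ⊥) {a b : G} (ha : a ∈ A)
    (hb : b ∈ B) : a * b = b * a :=
  commutatorElement_eq_one_iff_mul_comm.1
    (Subgroup.mem_bot.1 (h ▸ Subgroup.commutator_mem_commutator ha hb))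

theorem IsRootSubgroupSet.commute (hS : IsRootSubgroupSet S) {A : Subgroup G} (hA : A ∈ S)
    {a a' : G} (ha : a ∈ A) (ha' : a' ∈ A) : a * a' = a' * a :=
  have := hS.commutative A hA
  congrArg Subtype.val (mul_comm' (⟨a, ha⟩ : A) ⟨a', ha'⟩)

/-- In the commutator case no non-identity element of `A` centralizes `B`. -/
theorem RootCommutatorCase.not_centralize (hS : IsRootSubgroupSet S) {A B : Subgroup G}
    (h : RootCommutatorCase S A B) {a : G} (ha : a ∈ A) (ha1 : a ≠ 1) :
    ∃ b ∈ B, a * b ≠ b * a := by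
  by_contra! hc
  refine hS.ne_bot _ h.1 ?_
  rw [← h.2.2.1 a ha ha1, Subgroup.closure_eq_bot_iff]
  rintro _ ⟨b, hb, rfl⟩
  show a * b * a⁻¹ * b⁻¹ = 1
  rw [hc b hb]
  group

/-- A member sharing a centralizing element with a member commutes with it. -/
theorem commutator_eq_bot_of_centralize (hS : IsRootSubgroupSet S) {A B : Subgroup G}
    (hA : A ∈ S) (hB : B ∈ S) {a : G} (ha : a ∈ A) (ha1 : a ≠ 1)
    (hc : ∀ b ∈ B, a * b = b * a) : ⁅A, B⁆ = ⊥ := by
  rcases hS.pair A hA B hB with h | h | h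
  · exact h
  · obtain ⟨b, hb, hb1⟩ := RankOne.exists_one_ne (RankOnePair_symm h)
    exact absurd (hc b hb) (RankOne.not_commute_elements h ha ha1 hb hb1)
  · obtain ⟨b, hb, hne⟩ := RootCommutatorCase.not_centralize hS h ha ha1
    exact absurd (hc b hb) hne

/-- In the commutator case of `A` and `C`, every conjugate of `C` by an element of `A` commutes
with `C`. -/
theorem RootCommutatorCase.commutator_conjBy_eq_bot (hS : IsRootSubgroupSet S) {A C : Subgroup G}
    (hC : C ∈ S) (h : RootCommutatorCase S A C) {a : G} (ha : a ∈ A) :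
    ⁅conjBy C a, C⁆ = ⊥ := by
  rw [Subgroup.commutator_eq_bot_iff_le_centralizer]
  rintro _ ⟨c, hc, rfl⟩
  refine Subgroup.mem_centralizer_iff.2 fun d hd => ?_
  show d * (a * c * a⁻¹) = a * c * a⁻¹ * d
  have he := h.2.1 _ (Subgroup.commutator_mem_commutator ha hc) d (Subgroup.mem_sup_right hd)
  rw [commutatorElement_def] at he
  calc d * (a * c * a⁻¹) = d * (a * c * a⁻¹ * c⁻¹) * c := by group
    _ = a * c * a⁻¹ * c⁻¹ * d * c := by rw [he]
    _ = a * c * a⁻¹ * c⁻¹ * (d * c) := by group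
    _ = a * c * a⁻¹ * c⁻¹ * (c * d) := by rw [IsRootSubgroupSet.commute hS hC hd hc]
    _ = a * c * a⁻¹ * d := by group

/-- If `x` is not the identity, lies in the member `E` and conjugates the partner `C` of `A` in
the same way as some `a ∈ A#`, and `E` commutes with `A`, then `E = A`. -/
theorem eq_of_conjBy_eq (hS : IsRootSubgroupSet S) {A C E : Subgroup G} (hA : A ∈ S)
    (hC : C ∈ S) (hE : E ∈ S) (hAC : IsRankOnePair A C) {x a : G} (hx : x ∈ E) (hx1 : x ≠ 1)
    (ha : a ∈ A) (ha1 : a ≠ 1) (hxa : ∀ c ∈ C, x * c * x⁻¹ = a * c * a⁻¹)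
    (hEA : ⁅E, A⁆ = ⊥) : E = A := by
  have hconj : conjBy C x = conjBy C a := by
    ext y
    constructor <;> rintro ⟨c, hc, rfl⟩ <;> refine ⟨c, hc, ?_⟩
    · exact (hxa c hc).symm
    · exact hxa c hc
  have hne : conjBy C a ≠ C := fun e => ha1 (RankOne.eq_one_of_conjBy_eq hAC ha e)
  have hmem : conjBy C a ∈ unipotentSubgroups A C :=
    (RankOne.mem_iff hAC).2 (Or.inr ⟨a, ha, rfl⟩)
  rcases hS.pair E hE C hC with h | h | h
  · refine absurd ?_ hne
    rw [← hconj, ← mem_normalizer_iff_conjBy]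
    exact centralizer_le_normalizer _ (Subgroup.commutator_eq_bot_iff_le_centralizer.1 h hx)
  · obtain ⟨c, hc, -, e⟩ := RankOne.exists_partner h hx hx1
    obtain ⟨d, hd, -, e'⟩ := RankOne.exists_partner hAC ha ha1
    rw [hconj, e'] at e
    have h2 : conjBy A (c⁻¹ * d) = E := by
      rw [← conjBy_conjBy, e, conjBy_conjBy, inv_mul_cancel, conjBy_one]
    have hE' : E ∈ unipotentSubgroups A C := ⟨c⁻¹ * d, mul_mem
      (Subgroup.mem_sup_right (C.inv_mem hc)) (Subgroup.mem_sup_right hd), h2.symm⟩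
    exact RankOne.eq_of_commute hAC hE' (by rw [Subgroup.commutator_comm]; exact hEA)
  · refine absurd ?_ (RankOne.commutator_ne_bot hAC hmem (RankOne.right_mem hAC) hne)
    rw [← hconj]
    exact RootCommutatorCase.commutator_conjBy_eq_bot hS hC h hx

theorem not_isIsolatedIn {A : Subgroup G} (hS : ¬ IsIsolatedIn (FAdj S) S A) (hA : A ∈ S) :
    ∃ B ∈ S, IsRankOnePair A B := by
  simp only [IsIsolatedIn, hA, true_and, not_forall] at hS
  obtain ⟨B, hB⟩ := hS
  rw [not_and_or, not_not, not_not] at hB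
  rcases hB with ⟨-, hB, h⟩ | ⟨hB, -, h⟩
  exacts [⟨B, hB, h⟩, ⟨B, hB, RankOnePair_symm h⟩]

/-- A translate by an element centralizing a rank one pair is not a root element. -/
theorem eq_one_of_mul_mem (hS : IsRootSubgroupSet S) {A B E : Subgroup G} (hA : A ∈ S)
    (hB : B ∈ S) (hAB : IsRankOnePair A B) (hE : E ∈ S) {z a : G}
    (hz : ∀ y ∈ A ⊔ B, z * y = y * z) (ha : a ∈ A) (ha1 : a ≠ 1) (hmem : z * a ∈ E)
    (hne : z * a ≠ 1) : z = 1 := by
  have hEA : ⁅E, A⁆ = ⊥ := commutator_eq_bot_of_centralize hS hE hA hmem hne fun a' ha' => by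
    rw [mul_assoc, IsRootSubgroupSet.commute hS hA ha ha', ← mul_assoc,
      hz a' (Subgroup.mem_sup_left ha'), mul_assoc]
  have hxa : ∀ c ∈ B, z * a * c * (z * a)⁻¹ = a * c * a⁻¹ := by
    intro c hc
    have := hz (a * c * a⁻¹) (mul_mem (mul_mem (Subgroup.mem_sup_left ha)
      (Subgroup.mem_sup_right hc)) (Subgroup.mem_sup_left (A.inv_mem ha)))
    calc z * a * c * (z * a)⁻¹ = z * (a * c * a⁻¹) * z⁻¹ := by group
      _ = a * c * a⁻¹ := by rw [this]; group
  have hEq := eq_of_conjBy_eq hS hA hB hE hAB hmem hne ha ha1 hxa hEA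
  have hzA : z ∈ A := by
    have := A.mul_mem (hEq ▸ hmem) (A.inv_mem ha)
    rwa [mul_inv_cancel_right] at this
  by_contra hz1
  obtain ⟨b, hb, hb1⟩ := RankOne.exists_one_ne (RankOnePair_symm hAB)
  exact RankOne.not_commute_elements hAB hzA hz1 hb hb1 (hz b (Subgroup.mem_sup_right hb))

end Cfsg.Agent.Fus
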