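import Cfsg.Agent.Lib.Grp.Frattini
import Cfsg.Agent.Lib.Fus.OrderEight

/-!
# Two-groups of Rudvalis type

`T` is a 2-group of order at least `2 ^ 14` whose fourth centre has order 16; `W` centralises the
third centre, its Frattini subgroup has order at most 8 and lies in every subgroup of index at most
16 of `W`. Then `T` has order `2 ^ 14`, the Frattini subgroup of `W` is the elementary third centre
and `T / W` permutes regularly a basis of `W` modulo it.
-/

set_option autoImplicit false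
set_option linter.style.haveILetI false
set_option linter.unusedSectionVars false
set_option linter.unnecessarySeqFocus false

open scoped commutatorElement
open Subgroup

namespace Cfsg.Agent.Fus.RudType

variable {T : Type*} [Group T]

/-- The terms of the upper central series. -/
abbrev ucs (T : Type*) [Group T] (i : ℕ) : Subgroup T := Subgroup.upperCentralSeries T i

/-- The Frattini subgroup of a subgroup. -/
abbrev phi (W : Subgroup T) : Subgroup T := (frattini ↥W).map W.subtype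

/-- The hypotheses. -/
structure Hyp (W : Subgroup T) : Prop where
  pgroup : IsPGroup 2 T
  big : 2 ^ 14 ≤ Nat.card T
  four : Nat.card (ucs T 4) = 16
  cent : W = centralizer ((ucs T 3 : Subgroup T) : Set T)
  small : Nat.card (phi W) ≤ 8
  flat : ∀ P : Subgroup T, P ≤ W → P.relIndex W ≤ 16 → phi W ≤ P

theorem comm_sq_identity (a b : T) : ⁅a, b⁆ = a * a * ((a⁻¹ * b) * (a⁻¹ * b)) * (b * b)⁻¹ := by
  rw [commutatorElement_def]; group

variable [Finite T] {W : Subgroup T}

theorem exists_step (hT : IsPGroup 2 T) {N : Subgroup T} [N.Normal] (i : ℕ) (h : ¬ N ≤ ucs T i) :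
    ∃ x ∈ N, x ∈ ucs T (i + 1) ∧ x ∉ ucs T i := by
  haveI := hT.isNilpotent
  obtain ⟨c, hc⟩ := Group.IsNilpotent.nilpotent (G := T)
  obtain ⟨x, hx, hxi⟩ := SetLike.not_le_iff_exists.1 h
  suffices key : ∀ j, ∀ x ∈ N, x ∈ ucs T j → x ∉ ucs T i → ∃ y ∈ N, y ∈ ucs T (i + 1) ∧ y ∉ ucs T i from
    key c x hx (by show x ∈ Subgroup.upperCentralSeries T c; rw [hc]; exact mem_top x) hxi
  intro j
  induction j with
  | zero => exact fun x _ hx0 hxi => absurd (Subgroup.upperCentralSeries_mono T (Nat.zero_le i) hx0) hxi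
  | succ j ih =>
    intro x hx hxj hxi
    by_cases hall : x ∈ ucs T (i + 1)
    · exact ⟨x, hx, hall, hxi⟩
    obtain ⟨y, hy⟩ := not_forall.1 (fun hh => hall (Subgroup.mem_upperCentralSeries_succ_iff.2 hh))
    refine ih _ ?_ (Subgroup.mem_upperCentralSeries_succ_iff.1 hxj y) hy
    rw [commutatorElement_def, mul_assoc, mul_assoc]
    exact mul_mem hx (by simpa [mul_assoc] using (inferInstance : N.Normal).conj_mem _ (inv_mem hx) y)

namespace Hyp

variable (h : Hyp W)
include h

omit [Finite T] in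
theorem W_normal : W.Normal := by
  haveI : (ucs T 3).Normal := inferInstance
  rw [h.cent]
  infer_instance

theorem ne_top {i : ℕ} (hi : i ≤ 4) : ¬ (⊤ : Subgroup T) ≤ ucs T i := fun hle => by
  have h1 := card_le_of_le (hle.trans (Subgroup.upperCentralSeries_mono T hi))
  rw [card_top, h.four] at h1
  have := h.big.trans h1
  norm_num at this

theorem card_ucs {i : ℕ} (hi : i ≤ 4) : Nat.card (ucs T i) = 2 ^ i := by
  haveI : Fact (Nat.Prime 2) := ⟨Nat.prime_two⟩
  have hstep : ∀ j < 4, 2 * Nat.card (ucs T j) ≤ Nat.card (ucs T (j + 1)) := by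
    intro j hj
    obtain ⟨x, -, hx1, hx⟩ := exists_step h.pgroup (N := ⊤) j (h.ne_top (by omega))
    have hlt : ucs T j < ucs T (j + 1) :=
      lt_of_le_of_ne (Subgroup.upperCentralSeries_mono T (Nat.le_succ j)) fun e => hx (e ▸ hx1)
    obtain ⟨m, hm⟩ := IsPGroup.iff_card.1 (h.pgroup.to_subgroup (ucs T (j + 1)))
    obtain ⟨l, hl⟩ := IsPGroup.iff_card.1 (h.pgroup.to_subgroup (ucs T j))
    have h1 : Nat.card (ucs T j) < Nat.card (ucs T (j + 1)) := Set.Finite.card_lt_card (Set.toFinite _) hlt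
    rw [hl, hm] at h1 ⊢
    rw [← pow_succ']
    exact Nat.pow_le_pow_right two_pos (Nat.lt_iff_add_one_le.1 ((Nat.pow_lt_pow_iff_right one_lt_two).1 h1))
  have h0 : Nat.card (ucs T 0) = 1 := by simp [Subgroup.upperCentralSeries_zero]
  have h4 := h.four
  have s0 := hstep 0 (by omega)
  have s1 := hstep 1 (by omega)
  have s2 := hstep 2 (by omega)
  have s3 := hstep 3 (by omega)
  simp only [Nat.reduceAdd] at s0 s1 s2 s3
  interval_cases i <;> omega

/-- Consecutive terms have index two. -/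
theorem step_two {i : ℕ} (hi : i < 4) {x y : T} (hx : x ∈ ucs T (i + 1)) (hy : y ∈ ucs T (i + 1))
    (hxi : x ∉ ucs T i) (hyi : y ∉ ucs T i) : x * y ∈ ucs T i := by
  have hle : ucs T i ≤ ucs T (i + 1) := Subgroup.upperCentralSeries_mono T (Nat.le_succ i)
  have hidx : ((ucs T i).subgroupOf (ucs T (i + 1))).index = 2 := by
    have h1 := ((ucs T i).subgroupOf (ucs T (i + 1))).card_mul_index
    rw [Nat.card_congr (subgroupOfEquivOfLe hle).toEquiv, h.card_ucs (by omega), h.card_ucs (by omega),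
      pow_succ] at h1
    exact Nat.eq_of_mul_eq_mul_left (pow_pos two_pos i) h1
  have h2 := mul_mem_iff_of_index_two hidx (a := ⟨x, hx⟩) (b := ⟨y, hy⟩)
  simp only [mem_subgroupOf] at h2
  exact h2.2 (iff_of_false hxi hyi)

/-- Small normal subgroups are terms of the series. -/
theorem dichotomy {N : Subgroup T} [N.Normal] {i : ℕ} (hi : i < 4) :
    N ≤ ucs T i ∨ ucs T (i + 1) ≤ N := by
  induction i with
  | zero =>
    refine or_iff_not_imp_left.2 fun hn => ?_
    obtain ⟨x, hx, hx1, hx0⟩ := exists_step h.pgroup 0 hn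
    intro y hy
    by_cases hy0 : y ∈ ucs T 0
    · rw [show y = 1 by simpa [Subgroup.upperCentralSeries_zero] using hy0]; exact one_mem N
    have h1 := h.step_two (by omega) hy hx1 hy0 hx0
    simp only [ucs, Subgroup.upperCentralSeries_zero, mem_bot] at h1
    rw [eq_inv_of_mul_eq_one_left h1]
    exact inv_mem hx
  | succ i ih =>
    refine or_iff_not_imp_left.2 fun hn => ?_
    have hle := (ih (by omega)).resolve_left fun hle => hn (hle.trans (Subgroup.upperCentralSeries_mono T (Nat.le_succ i)))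
    obtain ⟨x, hx, hx1, hx0⟩ := exists_step h.pgroup _ hn
    intro y hy
    by_cases hy0 : y ∈ ucs T (i + 1)
    · exact hle hy0
    exact (Subgroup.mul_mem_cancel_right N hx).1 (hle (h.step_two hi hy hx1 hy0 hx0))

omit [Finite T] in
theorem phi_le : phi W ≤ W := map_subtype_le _

omit [Finite T] in
theorem phi_normal : (phi W).Normal := by
  haveI := h.W_normal
  infer_instance

theorem sq_mem {w : T} (hw : w ∈ W) : w * w ∈ phi W := by
  haveI : Fact (Nat.Prime 2) := ⟨Nat.prime_two⟩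
  exact ⟨_, Grp.pGroup_pow_mem_frattini (h.pgroup.to_subgroup W) ⟨w, hw⟩, by simp [pow_two]⟩

theorem comm_mem {a b : T} (ha : a ∈ W) (hb : b ∈ W) : ⁅a, b⁆ ∈ phi W := by
  haveI : Fact (Nat.Prime 2) := ⟨Nat.prime_two⟩
  exact ⟨⁅(⟨a, ha⟩ : W), ⟨b, hb⟩⁆, Grp.pGroup_commutator_le_frattini (h.pgroup.to_subgroup W)
    (commutator_mem_commutator (mem_top _) (mem_top _)), rfl⟩

theorem exists_k : ∃ k ≤ 3, Nat.card (phi W) = 2 ^ k ∧ phi W = ucs T k := by
  haveI : Fact (Nat.Prime 2) := ⟨Nat.prime_two⟩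
  haveI := h.phi_normal
  obtain ⟨k, hk⟩ := IsPGroup.iff_card.1 (h.pgroup.to_subgroup (phi W))
  have hk3 : k ≤ 3 := (Nat.pow_le_pow_iff_right (show 1 < 2 by norm_num)).1
    (le_of_le_of_eq (hk ▸ h.small) (by norm_num))
  refine ⟨k, hk3, hk, ?_⟩
  rcases h.dichotomy (N := phi W) (i := k) (by omega) with h1 | h1
  · exact eq_of_le_of_card_ge h1 (by rw [h.card_ucs (by omega), hk])
  · have := card_le_of_le h1
    rw [hk, h.card_ucs (by omega)] at this
    exact absurd this (not_le.2 (Nat.pow_lt_pow_right one_lt_two (Nat.lt_succ_self k)))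

/-- Elements of the centres outside the previous one. -/
theorem exists_gens : ∃ g2 g3 : T, g2 ∈ ucs T 2 ∧ g2 ∉ ucs T 1 ∧ g3 ∈ ucs T 3 ∧ g3 ∉ ucs T 2 := by
  obtain ⟨g2, -, a, b⟩ := exists_step h.pgroup (N := ⊤) 1 (h.ne_top (by omega))
  obtain ⟨g3, -, c, d⟩ := exists_step h.pgroup (N := ⊤) 2 (h.ne_top (by omega))
  exact ⟨g2, g3, a, b, c, d⟩

/-- Elements acting alike on the two generators are congruent modulo `W`. -/
theorem congr_mod {g2 g3 : T} (a : g2 ∈ ucs T 2) (b : g2 ∉ ucs T 1) (c : g3 ∈ ucs T 3) (d : g3 ∉ ucs T 2)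
    {s t : T} (e2 : s * g2 * s⁻¹ = t * g2 * t⁻¹) (e3 : s * g3 * s⁻¹ = t * g3 * t⁻¹) : t⁻¹ * s ∈ W := by
  have conj : ∀ g : T, s * g * s⁻¹ = t * g * t⁻¹ → Commute (t⁻¹ * s) g := fun g e => by
    have : t⁻¹ * (s * g * s⁻¹) * t = g := by rw [e]; group
    show t⁻¹ * s * g = g * (t⁻¹ * s)
    calc t⁻¹ * s * g = t⁻¹ * (s * g * s⁻¹) * t * (t⁻¹ * s) := by group
      _ = _ := by rw [this]
  have h2 : ∀ y ∈ ucs T 2, Commute (t⁻¹ * s) y := by
    intro y hy
    have h1 : ∀ z ∈ ucs T 1, Commute (t⁻¹ * s) z := fun z hz => by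
      simp only [ucs, Subgroup.upperCentralSeries_one] at hz
      exact mem_center_iff.1 hz _
    by_cases hy1 : y ∈ ucs T 1
    · exact h1 y hy1
    · have := (h1 _ (h.step_two (by omega) hy a hy1 b)).mul_right (conj g2 e2).inv_right
      simpa using this
  rw [h.cent, mem_centralizer_iff]
  intro y hy
  by_cases hy2 : y ∈ ucs T 2
  · exact (h2 y hy2).symm.eq
  · have := (h2 _ (h.step_two (by omega) hy c hy2 d)).mul_right (conj g3 e3).inv_right
    simp only [mul_inv_cancel_right] at this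
    exact this.symm.eq

theorem comm_one {i : ℕ} {g : T} (hg : g ∈ ucs T (i + 1)) (t : T) : t * g * t⁻¹ * g⁻¹ ∈ ucs T i := by
  have h1 := inv_mem (Subgroup.mem_upperCentralSeries_succ_iff.1 hg t)
  rwa [commutatorElement_inv, commutatorElement_def] at h1

theorem index_le : W.index ≤ 8 := by
  obtain ⟨g2, g3, a, b, c, d⟩ := h.exists_gens
  let f : T ⧸ W → ucs T 1 × ucs T 2 := fun q => (⟨_, h.comm_one a q.out⟩, ⟨_, h.comm_one c q.out⟩)
  have hf : Function.Injective f := by
    intro q r e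
    have e2 := congrArg (fun p => (p.1 : T)) e
    have e3 := congrArg (fun p => (p.2 : T)) e
    simp only [f, mul_left_inj] at e2 e3
    have := h.congr_mod a b c d e2 e3
    rw [← q.out_eq', ← r.out_eq', QuotientGroup.eq]
    simpa using inv_mem this
  have := Nat.card_le_card_of_injective f hf
  rw [Nat.card_prod, h.card_ucs (by omega), h.card_ucs (by omega)] at this
  exact this

theorem card_mul : W.index * Nat.card W = Nat.card T := W.index_mul_card

theorem W_big : 2 ^ 11 ≤ Nat.card W := by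
  have := Nat.mul_le_mul_right (Nat.card W) h.index_le
  rw [h.card_mul] at this
  have := h.big
  omega

theorem W_not_le {i : ℕ} (hi : i ≤ 4) : ¬ W ≤ ucs T i := fun hle => by
  have h1 := card_le_of_le (hle.trans (Subgroup.upperCentralSeries_mono T hi))
  rw [h.four] at h1
  have := h.W_big.trans h1
  norm_num at this

end Hyp

open scoped Classical in
/-- The coordinates of `w` with respect to a maximal subgroup of `W`. -/
noncomputable def coord (W M : Subgroup T) (w : T) (q : T ⧸ W) : ZMod 2 :=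
  if q.out * w * q.out⁻¹ ∈ M then 0 else 1

/-- A maximal subgroup of `W` with trivial core modulo the Frattini subgroup. -/
structure Maximal (W M : Subgroup T) : Prop where
  le : M ≤ W
  phi_le : phi W ≤ M
  two : ∀ a ∈ W, ∀ b ∈ W, (a * b ∈ M ↔ (a ∈ M ↔ b ∈ M))
  core : ∀ w ∈ W, (∀ t : T, t * w * t⁻¹ ∈ M) → w ∈ phi W

theorem Hyp.exists_maximal (h : Hyp W) : ∃ M, Maximal W M := by
  haveI : Fact (Nat.Prime 2) := ⟨Nat.prime_two⟩
  obtain ⟨k, hk3, hk, hphi⟩ := h.exists_k
  haveI := h.W_normal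
  have hle : ucs T (k + 1) ≤ W := (h.dichotomy (N := W) (by omega)).resolve_left (h.W_not_le (by omega))
  obtain ⟨f, hf1, hf0⟩ : ∃ f, f ∈ ucs T (k + 1) ∧ f ∉ ucs T k := by
    obtain ⟨x, -, a, b⟩ := exists_step h.pgroup (N := ⊤) k (h.ne_top (by omega))
    exact ⟨x, a, b⟩
  have hfphi : (⟨f, hle hf1⟩ : W) ∉ frattini ↥W := fun hm => hf0 (hphi ▸ mem_map_of_mem W.subtype hm)
  obtain ⟨M, hM, hfM⟩ : ∃ M : Subgroup W, IsCoatom M ∧ (⟨f, hle hf1⟩ : W) ∉ M := by
    by_contra hno
    push Not at hno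
    exact hfphi (by
      rw [frattini, Order.radical]
      simp only [mem_iInf]
      exact fun M hM => hno M hM)
  obtain ⟨hn, hidx⟩ := Grp.coatom_index_eq_of_pGroup (h.pgroup.to_subgroup W) hM
  refine ⟨M.map W.subtype, map_subtype_le M, map_mono (frattini_le_coatom hM), fun a ha b hb => ?_, fun w hw hall => ?_⟩
  · have hiff : ∀ y : W, (y : T) ∈ M.map W.subtype ↔ y ∈ M := fun y =>
      mem_map_iff_mem W.subtype_injective
    exact (hiff (⟨a, ha⟩ * ⟨b, hb⟩)).trans
      ((mul_mem_iff_of_index_two hidx).trans (iff_congr (hiff ⟨a, ha⟩).symm (hiff ⟨b, hb⟩).symm))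
  · have hcore : w ∈ (M.map W.subtype).normalCore := hall
    rcases h.dichotomy (N := (M.map W.subtype).normalCore) (i := k) (by omega) with h1 | h1
    · exact hphi ▸ h1 hcore
    · refine absurd ?_ hfM
      obtain ⟨y, hy, e⟩ := normalCore_le _ (h1 hf1)
      rwa [show (⟨f, hle hf1⟩ : W) = y from Subtype.ext e.symm]

namespace Maximal

variable {M : Subgroup T} (hM : Maximal W M) (h : Hyp W)
include hM h

theorem conj_W {a w : T} (ha : a ∈ W) (hw : w ∈ W) : a * w * a⁻¹ ∈ M ↔ w ∈ M := by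
  rw [show a * w * a⁻¹ = ⁅a, w⁆ * w by rw [commutatorElement_def]; group,
    hM.two _ (phi_le_of h (h.comm_mem ha hw)) _ hw]
  simp [hM.phi_le (h.comm_mem ha hw)]
where
  phi_le_of {x : T} (h : Hyp W) (hx : x ∈ phi W) : x ∈ W := h.phi_le hx

theorem conj_congr {s t w : T} (hw : w ∈ W) (hst : (s : T ⧸ W) = t) :
    s * w * s⁻¹ ∈ M ↔ t * w * t⁻¹ ∈ M := by
  haveI := h.W_normal
  have ha : t⁻¹ * s ∈ W := QuotientGroup.eq.1 hst.symm
  rw [show s * w * s⁻¹ = (t * (t⁻¹ * s) * t⁻¹) * (t * w * t⁻¹) * (t * (t⁻¹ * s) * t⁻¹)⁻¹ by group]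
  exact hM.conj_W h (h.W_normal.conj_mem _ ha t) (h.W_normal.conj_mem _ hw t)

open scoped Classical in
theorem coord_eq {w : T} (hw : w ∈ W) (t : T) :
    coord W M w (t : T ⧸ W) = if t * w * t⁻¹ ∈ M then 0 else 1 := by
  have := hM.conj_congr h hw (QuotientGroup.out_eq' (t : T ⧸ W))
  simp only [coord, this]

theorem coord_mul {a b : T} (ha : a ∈ W) (hb : b ∈ W) (q : T ⧸ W) :
    coord W M (a * b) q = coord W M a q + coord W M b q := by
  haveI := h.W_normal
  set t := q.out
  have h1 := hM.two _ (h.W_normal.conj_mem _ ha t) _ (h.W_normal.conj_mem _ hb t)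
  rw [show t * a * t⁻¹ * (t * b * t⁻¹) = t * (a * b) * t⁻¹ by group] at h1
  by_cases p : t * a * t⁻¹ ∈ M <;> by_cases p' : t * b * t⁻¹ ∈ M <;>
    simp [coord, ← show t = q.out from rfl, p, p', h1] <;> rfl

theorem coord_conj {w : T} (hw : w ∈ W) (s t : T) :
    coord W M (s * w * s⁻¹) (t : T ⧸ W) = coord W M w ((t * s : T) : T ⧸ W) := by
  classical
  rw [hM.coord_eq h (h.W_normal.conj_mem _ hw s), hM.coord_eq h hw,
    show t * (s * w * s⁻¹) * t⁻¹ = t * s * w * (t * s)⁻¹ by group]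

theorem coord_phi {w : T} (hw : w ∈ phi W) : coord W M w = 0 := by
  funext q
  simp [coord, hM.phi_le (h.phi_normal.conj_mem _ hw q.out)]

theorem coord_eq_iff {a b : T} (ha : a ∈ W) (hb : b ∈ W) : coord W M a = coord W M b ↔ a⁻¹ * b ∈ phi W := by
  constructor
  · intro e
    refine hM.core _ (mul_mem (inv_mem ha) hb) fun t => ?_
    have h1 := hM.coord_mul h ha (mul_mem (inv_mem ha) hb) (t : T ⧸ W)
    rw [mul_inv_cancel_left, ← congrFun e, left_eq_add] at h1
    classical
    rw [hM.coord_eq h (mul_mem (inv_mem ha) hb)] at h1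
    by_contra hn
    simp [hn] at h1
  · intro hp
    funext q
    have h1 := hM.coord_mul h ha (h.phi_le hp) q
    rw [mul_inv_cancel_left, hM.coord_phi h hp] at h1
    simpa using h1.symm

/-- The coordinates as a homomorphism. -/
noncomputable def chi : ↥W →* Multiplicative (T ⧸ W → ZMod 2) :=
  MonoidHom.mk' (fun w => Multiplicative.ofAdd (coord W M (w : T))) fun a b =>
    congrArg Multiplicative.ofAdd (funext fun q => hM.coord_mul h a.2 b.2 q)

theorem chi_ker : (hM.chi h).ker = frattini ↥W := by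
  ext w
  have h1 := hM.coord_eq_iff h (one_mem W) w.2
  rw [inv_one, one_mul, hM.coord_phi h (one_mem _)] at h1
  rw [MonoidHom.mem_ker, ← mem_map_iff_mem W.subtype_injective (K := frattini ↥W)]
  exact ⟨fun e => h1.1 (congrArg Multiplicative.toAdd e).symm, fun e => congrArg Multiplicative.ofAdd (h1.2 e).symm⟩

theorem counts : Nat.card T = 2 ^ 14 ∧ W.index = 8 ∧ Nat.card W = 2 ^ 11 ∧ Nat.card (phi W) = 8 ∧
    Function.Surjective (hM.chi h) := by
  haveI := h.W_normal
  haveI : Fintype (T ⧸ W) := Fintype.ofFinite _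
  have hr : Nat.card (hM.chi h).range ≤ 2 ^ W.index := by
    refine (card_le_card_group _).trans_eq ?_
    rw [Nat.card_congr Multiplicative.toAdd, Nat.card_fun, Nat.card_zmod]
    rfl
  have hW : Nat.card (phi W) * Nat.card (hM.chi h).range = Nat.card W := by
    rw [card_map_of_injective W.subtype_injective, ← hM.chi_ker h, ← index_ker, card_mul_index]
  have hi := h.index_le
  have hp := h.small
  have hpow : 2 ^ W.index ≤ 2 ^ 8 := Nat.pow_le_pow_right two_pos hi
  have hT := h.card_mul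
  have hb := h.big
  have e1 : Nat.card (hM.chi h).range ≤ 256 := hr.trans hpow
  have e2 : Nat.card W ≤ 8 * 256 := hW ▸ Nat.mul_le_mul hp e1
  have e3 : Nat.card T ≤ 8 * (8 * 256) := hT ▸ Nat.mul_le_mul hi e2
  have i8 : W.index = 8 := by
    by_contra hne
    have := Nat.mul_le_mul (show W.index ≤ 7 by omega) e2
    rw [hT] at this
    omega
  rw [i8] at hT hr
  have w11 : Nat.card W = 2 ^ 11 := by omega
  have p8 : Nat.card (phi W) = 8 := by
    by_contra hne
    have := Nat.mul_le_mul (show Nat.card (phi W) ≤ 7 by omega) e1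
    rw [hW] at this
    omega
  refine ⟨by omega, i8, w11, p8, MonoidHom.range_eq_top.1 (eq_top_of_card_eq _ ?_)⟩
  rw [p8] at hW
  rw [Nat.card_congr Multiplicative.toAdd, Nat.card_fun, Nat.card_zmod,
    show Nat.card (T ⧸ W) = 8 from i8]
  omega

end Maximal

namespace Hyp

variable (h : Hyp W)
include h

theorem counts : Nat.card T = 2 ^ 14 ∧ W.index = 8 ∧ Nat.card W = 2 ^ 11 ∧ Nat.card (phi W) = 8 := by
  obtain ⟨M, hM⟩ := h.exists_maximal
  obtain ⟨a, b, c, d, -⟩ := hM.counts h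
  exact ⟨a, b, c, d⟩

theorem phi_eq : phi W = ucs T 3 := by
  obtain ⟨k, hk3, hk, e⟩ := h.exists_k
  rw [h.counts.2.2.2, show (8 : ℕ) = 2 ^ 3 from rfl] at hk
  rw [e, Nat.pow_right_injective le_rfl hk.symm]

theorem z_le {i : ℕ} (hi : i ≤ 3) : ucs T i ≤ W :=
  (Subgroup.upperCentralSeries_mono T hi).trans (le_of_eq_of_le h.phi_eq.symm h.phi_le)

/-- `W` centralises the third centre. -/
theorem phi_comm {z w : T} (hz : z ∈ ucs T 3) (hw : w ∈ W) : z * w = w * z := by
  rw [h.cent, mem_centralizer_iff] at hw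
  exact hw z hz

theorem four_le : ucs T 4 ≤ W := by
  haveI := h.W_normal
  exact (h.dichotomy (N := W) (i := 3) (by omega)).resolve_left (h.W_not_le (by omega))

/-- No subgroup of index at most eight over the Frattini subgroup has all squares in the second centre. -/
theorem no_flat {P : Subgroup T} (hPW : P ≤ W) (hphi : phi W ≤ P) (hidx : P.relIndex W ≤ 8) :
    ∃ p ∈ P, p * p ∉ ucs T 2 := by
  haveI : Fact (Nat.Prime 2) := ⟨Nat.prime_two⟩
  by_contra hno
  push Not at hno
  obtain ⟨g2, g3, a, b, c, d⟩ := h.exists_gens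
  have hg3 : g3 ∈ P := hphi (h.phi_eq ▸ c)
  haveI : (ucs T 2).Normal := inferInstance
  have hfr : frattini ↥P ≤ (ucs T 2).subgroupOf P := by
    refine Grp.frattini_le_of_elementary Nat.prime_two ?_ fun x => ?_
    · refine commutator_le.2 fun x _ y _ => ?_
      rw [mem_subgroupOf, show ((⁅x, y⁆ : P) : T) = ⁅(x : T), (y : T)⁆ from rfl, comm_sq_identity]
      exact mul_mem (mul_mem (hno _ x.2) (hno _ (mul_mem (inv_mem x.2) y.2))) (inv_mem (hno _ y.2))
    · rw [mem_subgroupOf, SubmonoidClass.coe_pow, pow_two]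
      exact hno _ x.2
  obtain ⟨U, hU, hgU⟩ : ∃ U : Subgroup P, IsCoatom U ∧ (⟨g3, hg3⟩ : P) ∉ U := by
    by_contra hall
    push Not at hall
    exact d (hfr (show (⟨g3, hg3⟩ : P) ∈ frattini ↥P by
      rw [frattini, Order.radical]
      simp only [mem_iInf]
      exact fun U hU => hall U hU))
  obtain ⟨-, h2⟩ := Grp.coatom_index_eq_of_pGroup (h.pgroup.to_subgroup P) hU
  have hrel : (U.map P.subtype).relIndex P = 2 := by
    rw [← h2, relIndex, ← comap_subtype, comap_map_eq_self_of_injective P.subtype_injective]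
  have := h.flat (U.map P.subtype) ((map_subtype_le U).trans hPW) (by
    rw [← relIndex_mul_relIndex _ P W (map_subtype_le U) hPW, hrel]
    omega)
  obtain ⟨y, hy, e⟩ := this (h.phi_eq ▸ c)
  exact hgU (by rwa [show (⟨g3, hg3⟩ : P) = y from Subtype.ext e.symm])

theorem comm_mul_left {a b y : T} (ha : a ∈ W) (hb : b ∈ W) (hy : y ∈ W) :
    ⁅a * b, y⁆ = ⁅a, y⁆ * ⁅b, y⁆ := by
  have hz : ∀ {w : T}, w ∈ W → ⁅b, y⁆ * w = w * ⁅b, y⁆ := fun hw =>
    h.phi_comm (h.phi_eq ▸ h.comm_mem hb hy) hw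
  calc ⁅a * b, y⁆ = a * ⁅b, y⁆ * y * a⁻¹ * y⁻¹ := by simp only [commutatorElement_def]; group
    _ = ⁅b, y⁆ * a * y * a⁻¹ * y⁻¹ := by rw [hz ha]
    _ = ⁅b, y⁆ * ⁅a, y⁆ := by simp only [commutatorElement_def]; group
    _ = _ := hz (h.phi_le (h.comm_mem ha hy))

theorem comm_exists : ∃ a ∈ W, ∃ b ∈ W, ⁅a, b⁆ ∉ ucs T 2 := by
  by_contra hno
  push Not at hno
  haveI : (ucs T 2).Normal := inferInstance
  set π := QuotientGroup.mk' (ucs T 2) with hπ
  have hker : ∀ y : T, π y = 1 ↔ y ∈ ucs T 2 := fun y => QuotientGroup.eq_one_iff y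
  have hcomm : ∀ a ∈ W, ∀ b ∈ W, Commute (π a) (π b) := fun a ha b hb => by
    refine commutatorElement_eq_one_iff_mul_comm.1 ?_
    rw [← map_commutatorElement, hker]
    exact hno a ha b hb
  let P : Subgroup T :=
    { carrier := {w | w ∈ W ∧ π w ^ 2 = 1}
      one_mem' := ⟨one_mem W, by rw [map_one, one_pow]⟩
      mul_mem' := fun {a b} ha hb => ⟨mul_mem ha.1 hb.1, by
        rw [map_mul, (hcomm a ha.1 b hb.1).mul_pow, ha.2, hb.2, one_mul]⟩
      inv_mem' := fun {a} ha => ⟨inv_mem ha.1, by rw [map_inv, inv_pow, ha.2, inv_one]⟩ }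
  have hsq : ∀ w : T, π w ^ 2 = 1 ↔ w * w ∈ ucs T 2 := fun w => by rw [pow_two, ← map_mul, hker]
  have hphi : phi W ≤ P := fun z hz => by
    refine ⟨h.phi_le hz, (hsq z).2 ?_⟩
    by_cases hz2 : z ∈ ucs T 2
    · exact mul_mem hz2 hz2
    · exact h.step_two (by omega) (h.phi_eq ▸ hz) (h.phi_eq ▸ hz) hz2 hz2
  have hidx : P.relIndex W ≤ 2 := by
    classical
    rw [Subgroup.relIndex, Subgroup.index]
    let f : W ⧸ P.subgroupOf W → Bool := fun q => decide ((q.out : T) ∈ P)
    have hf : Function.Injective f := by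
      intro q r e
      rw [← q.out_eq', ← r.out_eq', QuotientGroup.eq, mem_subgroupOf, Subgroup.coe_mul, Subgroup.coe_inv]
      have e' : (q.out : T) ∈ P ↔ (r.out : T) ∈ P := by simpa [f] using e
      by_cases hq : (q.out : T) ∈ P
      · exact mul_mem (inv_mem hq) (e'.1 hq)
      refine ⟨mul_mem (inv_mem q.out.2) r.out.2, ?_⟩
      have hq' : (q.out : T) * q.out ∉ ucs T 2 := fun hh => hq ⟨q.out.2, (hsq _).2 hh⟩
      have hr' : (r.out : T) * r.out ∉ ucs T 2 := fun hh => hq (e'.2 ⟨r.out.2, (hsq _).2 hh⟩)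
      have key := h.step_two (i := 2) (by omega) (inv_mem (h.phi_eq ▸ h.sq_mem q.out.2))
        (h.phi_eq ▸ h.sq_mem r.out.2) (fun hh => hq' (inv_mem_iff.1 hh)) hr'
      rw [← hker, map_mul, map_inv, map_mul, map_mul, ← pow_two, ← pow_two] at key
      rw [map_mul, map_inv, ((hcomm _ q.out.2 _ r.out.2).inv_left).mul_pow, inv_pow]
      exact key
    have := Nat.card_le_card_of_injective f hf
    simpa using this
  obtain ⟨p, hp, hpp⟩ := h.no_flat (fun w (hw : w ∈ W ∧ π w ^ 2 = 1) => hw.1) hphi (by omega)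
  exact hpp ((hsq p).1 hp.2)

end Hyp

end Cfsg.Agent.Fus.RudType
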