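import Cfsg.Agent.Lib.Fus.RudTypeStructure
import Cfsg.Agent.Lib.Transfer.NormalComplement

/-!
# Local properties of two-groups of Rudvalis type

A two-group of Rudvalis type has no nontrivial automorphism of odd order and its subgroup `W` is
the only subgroup of its isomorphism type, so `W` is weakly closed in a Sylow subgroup of this type.
-/

set_option autoImplicit false
set_option linter.style.haveILetI false
set_option linter.unusedSectionVars false

open scoped commutatorElement
open Subgroup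

namespace Cfsg.Agent.Fus.RudType

variable {T : Type*} [Group T] [Finite T] {W : Subgroup T}

/-- An automorphism of odd order stabilising a step of a series fixes it. -/
theorem fix_of (hT : IsPGroup 2 T) {α : MulAut T} {n : ℕ} (hn : Odd n) (hα : α ^ n = 1) {y : T}
    (hc : α (y⁻¹ * α y) = y⁻¹ * α y) : α y = y := by
  have hk : ∀ k : ℕ, (α ^ k) y = y * (y⁻¹ * α y) ^ k := by
    intro k
    induction k with
    | zero => simp
    | succ k ih => rw [pow_succ', MulAut.mul_apply, ih, map_mul, map_pow, hc, pow_succ', ← mul_assoc y,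
        mul_inv_cancel_left]
  have h1 := hk n
  rw [hα, MulAut.one_apply, left_eq_mul] at h1
  obtain ⟨j, hj⟩ := hT (y⁻¹ * α y)
  have h2 : y⁻¹ * α y = 1 := orderOf_eq_one_iff.1 <| Nat.eq_one_of_dvd_coprimes
    (Nat.Coprime.pow_right j hn.coprime_two_right) (orderOf_dvd_of_pow_eq_one h1)
    (orderOf_dvd_of_pow_eq_one hj)
  exact (inv_mul_eq_one.1 h2).symm

namespace Hyp

variable (h : Hyp W)
include h

theorem fix_ucs {α : MulAut T} {n : ℕ} (hn : Odd n) (hα : α ^ n = 1) {i : ℕ} (hi : i ≤ 4) {y : T}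
    (hy : y ∈ ucs T i) : α y = y := by
  induction i generalizing y with
  | zero =>
    simp only [ucs, Subgroup.upperCentralSeries_zero, mem_bot] at hy
    rw [hy, map_one]
  | succ i ih =>
    by_cases hyi : y ∈ ucs T i
    · exact ih (by omega) hyi
    have hchar : ∀ j, ∀ x, α x ∈ ucs T j ↔ x ∈ ucs T j := fun j x => by
      have := characteristic_iff_comap_eq.1 (inferInstance : (ucs T j).Characteristic) α
      exact iff_of_eq (congrArg (x ∈ ·) this)
    exact fix_of h.pgroup hn hα (ih (by omega) (h.step_two (by omega) (inv_mem hy)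
      ((hchar _ _).2 hy) (fun hh => hyi (inv_mem_iff.1 hh)) (fun hh => hyi ((hchar _ _).1 hh))))

/-- There is no automorphism of odd order. -/
theorem aut_trivial {α : MulAut T} {n : ℕ} (hn : Odd n) (hα : α ^ n = 1) : α = 1 := by
  have hz : ∀ z ∈ ucs T 3, α z = z := fun z hz => h.fix_ucs hn hα (by omega) hz
  have hαW : ∀ w ∈ W, α w ∈ W := fun w hw => by
    rw [h.cent, mem_centralizer_iff]
    intro z hz'
    rw [← hz z hz', ← map_mul, ← map_mul, h.phi_comm hz' hw]
  have hmove : ∀ t : T, t⁻¹ * α t ∈ W := fun t => by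
    rw [h.cent, mem_centralizer_iff]
    intro g hg
    have hg' : t * g * t⁻¹ ∈ ucs T 3 := (inferInstance : (ucs T 3).Normal).conj_mem _ hg t
    have := hz _ hg'
    rw [map_mul, map_mul, map_inv, hz g hg] at this
    calc g * (t⁻¹ * α t) = t⁻¹ * (t * g * t⁻¹) * α t := by group
      _ = t⁻¹ * (α t * g * (α t)⁻¹) * α t := by rw [this]
      _ = t⁻¹ * α t * g := by group
  suffices hW : ∀ w ∈ W, α w = w by
    ext t
    exact fix_of h.pgroup hn hα (hW _ (hmove t))
  haveI := h.W_normal
  have hd : ∀ u ∈ W, u⁻¹ * α u ∈ W := fun u hu => mul_mem (inv_mem hu) (hαW u hu)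
  -- the commutators with the automorphism, modulo the third centre
  let I : Subgroup T :=
    { carrier := {w | ∃ u ∈ W, ∃ z ∈ ucs T 3, w = u⁻¹ * α u * z}
      one_mem' := ⟨1, one_mem W, 1, one_mem _, by simp⟩
      mul_mem' := by
        rintro _ _ ⟨u, hu, z, hz', rfl⟩ ⟨v, hv, z', hz'', rfl⟩
        have hX : ⁅(u⁻¹ * α u)⁻¹, v⁆ ∈ ucs T 3 := h.phi_eq ▸ h.comm_mem (inv_mem (hd u hu)) hv
        refine ⟨u * v, mul_mem hu hv, ⁅(u⁻¹ * α u)⁻¹, v⁆ * (z * z'), mul_mem hX (mul_mem hz' hz''), ?_⟩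
        rw [map_mul]
        calc u⁻¹ * α u * z * (v⁻¹ * α v * z')
            = u⁻¹ * α u * (z * (v⁻¹ * α v)) * z' := by group
          _ = u⁻¹ * α u * (v⁻¹ * α v * z) * z' := by rw [h.phi_comm hz' (hd v hv)]
          _ = v⁻¹ * (u⁻¹ * α u) * (⁅(u⁻¹ * α u)⁻¹, v⁆ * α v) * (z * z') := by
            rw [commutatorElement_def]; group
          _ = v⁻¹ * (u⁻¹ * α u) * (α v * ⁅(u⁻¹ * α u)⁻¹, v⁆) * (z * z') := by rw [h.phi_comm hX (hαW v hv)]
          _ = _ := by group
      inv_mem' := by
        rintro _ ⟨u, hu, z, hz', rfl⟩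
        refine ⟨u⁻¹, inv_mem hu, ⁅α u, u⁻¹⁆ * z⁻¹, mul_mem
          (h.phi_eq ▸ h.comm_mem (hαW u hu) (inv_mem hu)) (inv_mem hz'), ?_⟩
        rw [mul_inv_rev, h.phi_comm (inv_mem hz') (inv_mem (hd u hu)), map_inv, commutatorElement_def]
        group }
  haveI : I.Normal := ⟨by
    rintro _ ⟨u, hu, z, hz', rfl⟩ t
    refine ⟨t * u * t⁻¹, h.W_normal.conj_mem _ hu t, t * ⁅t⁻¹ * α t, (α u)⁻¹⁆ * t⁻¹ * (t * z * t⁻¹), mul_mem
      ((inferInstance : (ucs T 3).Normal).conj_mem _
        (h.phi_eq ▸ h.comm_mem (hmove t) (inv_mem (hαW u hu))) t)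
      ((inferInstance : (ucs T 3).Normal).conj_mem _ hz' t), ?_⟩
    rw [map_mul, map_mul, map_inv, commutatorElement_def]
    group⟩
  rcases h.dichotomy (N := I) (i := 3) (by omega) with hI | hI
  · intro w hw
    exact fix_of h.pgroup hn hα (hz _ (hI ⟨w, hw, 1, one_mem _, by simp⟩))
  · exfalso
    obtain ⟨v, -, hv4, hv3⟩ := exists_step h.pgroup (N := ⊤) 3 (h.ne_top (by omega))
    obtain ⟨u, hu, z, hz', e⟩ := hI hv4
    have hc : u⁻¹ * α u ∈ ucs T 4 := by
      rw [show u⁻¹ * α u = v * z⁻¹ by rw [e]; group]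
      exact mul_mem hv4 (inv_mem (Subgroup.upperCentralSeries_mono T (by omega : 3 ≤ 4) hz'))
    have hu' := fix_of h.pgroup hn hα (h.fix_ucs hn hα le_rfl hc)
    rw [hu', inv_mul_cancel, one_mul] at e
    exact hv3 (e ▸ hz')

/-- The Frattini subgroup of a copy of `W` lies in its subgroups of index at most sixteen. -/
theorem phi_le_of_equiv {W1 : Subgroup T} (e : W ≃* W1) {P : Subgroup T} (_hP : P ≤ W1)
    (hidx : P.relIndex W1 ≤ 16) : phi W1 ≤ P := by
  rintro _ ⟨y, hy, rfl⟩
  have hy' : e.symm y ∈ frattini ↥W := frattini_le_comap_frattini_of_surjective (φ := e.symm.toMonoidHom) e.symm.surjective hy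
  set U := (P.subgroupOf W1).comap e.toMonoidHom
  have hU : U.index ≤ 16 := by rwa [index_comap_of_surjective _ e.surjective]
  have h1 : phi W ≤ U.map W.subtype := h.flat _ (map_subtype_le U) (by
    rwa [relIndex, ← comap_subtype, comap_map_eq_self_of_injective W.subtype_injective])
  obtain ⟨x, hx, ex⟩ := h1 (mem_map_of_mem W.subtype hy')
  rw [W.subtype_injective ex] at hx
  simpa [U, mem_subgroupOf] using hx

/-- `W` is the only subgroup of its isomorphism type. -/
theorem eq_of_equiv {W1 : Subgroup T} (e : W ≃* W1) : W1 = W := by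
  haveI : Fact (Nat.Prime 2) := ⟨Nat.prime_two⟩
  haveI := h.W_normal
  obtain ⟨-, hi, hW, hp⟩ := h.counts
  have hc : Nat.card W1 = Nat.card W := (Nat.card_congr e.toEquiv).symm
  have hmap : frattini ↥W1 = (frattini ↥W).map e.toMonoidHom :=
    le_antisymm (fun y hy => ⟨e.symm y, frattini_le_comap_frattini_of_surjective (φ := e.symm.toMonoidHom) e.symm.surjective hy,
      e.apply_symm_apply y⟩) (map_le_iff_le_comap.2 (frattini_le_comap_frattini_of_surjective (φ := e.toMonoidHom) e.surjective))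
  have hp1 : Nat.card (phi W1) = 8 := by
    rw [card_map_of_injective W1.subtype_injective, hmap, card_map_of_injective (f := e.toMonoidHom) e.injective,
      ← card_map_of_injective W.subtype_injective]
    exact hp
  let I := W ⊓ W1
  have hI1 : I.relIndex W1 ≤ 8 := by
    rw [inf_relIndex_right]
    exact (Nat.le_of_dvd (by omega) (W.relIndex_dvd_index_of_normal W1)).trans_eq hi
  have hI2 : I.relIndex W = I.relIndex W1 := by
    refine mul_left_cancel₀ (Nat.card_pos (α := I)).ne' ?_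
    have k : ∀ K : Subgroup T, I ≤ K → Nat.card I * I.relIndex K = Nat.card K := fun K hK => by
      rw [← Nat.card_congr (subgroupOfEquivOfLe hK).toEquiv]
      exact card_mul_index _
    rw [k W inf_le_left, k W1 inf_le_right, hc]
  have hco : ∀ U : Subgroup I, IsCoatom U → phi W ≤ U.map I.subtype ∧ phi W1 ≤ U.map I.subtype := by
    intro U hU
    obtain ⟨-, h2⟩ := Grp.coatom_index_eq_of_pGroup (h.pgroup.to_subgroup I) hU
    have hrel : (U.map I.subtype).relIndex I = 2 := by
      rw [← h2, relIndex, ← comap_subtype, comap_map_eq_self_of_injective I.subtype_injective]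
    refine ⟨h.flat _ ((map_subtype_le U).trans inf_le_left) ?_,
      h.phi_le_of_equiv e ((map_subtype_le U).trans inf_le_right) ?_⟩
    · rw [← relIndex_mul_relIndex _ I W (map_subtype_le U) inf_le_left, hrel, hI2]; omega
    · rw [← relIndex_mul_relIndex _ I W1 (map_subtype_le U) inf_le_right, hrel]; omega
  have hIne : ∃ U : Subgroup I, IsCoatom U := by
    refine (eq_top_or_exists_le_coatom (⊥ : Subgroup I)).elim (fun hb => absurd hI1 ?_) fun ⟨U, hU, _⟩ => ⟨U, hU⟩
    have hI : I = ⊥ := card_eq_one.1 <| by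
      rw [← card_top (G := I), ← hb, card_bot]
    rw [hI, relIndex_bot_left, hc, hW]
    norm_num
  obtain ⟨U0, hU0⟩ := hIne
  have hle : ∀ Q : Subgroup T, (∀ U : Subgroup I, IsCoatom U → Q ≤ U.map I.subtype) → Q ≤ phi I := by
    intro Q hQ y hy
    have hyI : y ∈ I := map_subtype_le U0 (hQ U0 hU0 hy)
    refine ⟨⟨y, hyI⟩, ?_, rfl⟩
    show (⟨y, hyI⟩ : I) ∈ frattini ↥I
    rw [frattini, Order.radical]
    simp only [mem_iInf]
    intro U hU
    obtain ⟨x, hx, ex⟩ := hQ U hU hy
    rwa [I.subtype_injective (a₁ := ⟨y, hyI⟩) (a₂ := x) ex.symm]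
  have hIphi : phi I ≤ phi W := by
    haveI := h.phi_normal
    rintro _ ⟨y, hy, rfl⟩
    have hle : frattini ↥I ≤ (phi W).subgroupOf I := Grp.frattini_le_of_elementary Nat.prime_two
      (commutator_le.2 fun a _ b _ => h.comm_mem a.2.1 b.2.1)
      fun a => by rw [mem_subgroupOf, SubmonoidClass.coe_pow, pow_two]; exact h.sq_mem a.2.1
    exact hle hy
  have hphi : phi W1 = phi W :=
    eq_of_le_of_card_ge ((hle _ fun U hU => (hco U hU).2).trans hIphi) (by rw [hp1, hp])
  refine eq_of_le_of_card_ge (fun w hw => ?_) hc.symm.le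
  rw [h.cent, mem_centralizer_iff]
  intro z hz
  rw [SetLike.mem_coe, ← h.phi_eq, ← hphi] at hz
  obtain ⟨y, hy, rfl⟩ := hz
  rw [SetLike.mem_coe, hmap] at hy
  obtain ⟨x, hx, rfl⟩ := hy
  have hxz : (x : T) ∈ ucs T 3 := h.phi_eq ▸ mem_map_of_mem W.subtype hx
  have key : x * e.symm ⟨w, hw⟩ = e.symm ⟨w, hw⟩ * x := Subtype.ext (h.phi_comm hxz (e.symm ⟨w, hw⟩).2)
  simpa using congrArg (fun y => ((e y : W1) : T)) key

end Hyp

/-- The normalizer of a Sylow subgroup without automorphisms of odd order has a normal complement. -/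
theorem normalizer_complement {G : Type*} [Group G] [Finite G] (S : Sylow 2 G)
    (hA : ∀ α : MulAut ↥(S : Subgroup G), ∀ n, Odd n → α ^ n = 1 → α = 1) :
    HasNormalPComplement 2 ↥(Subgroup.normalizer ((S : Subgroup G) : Set G)) := by
  haveI : Fact (Nat.Prime 2) := ⟨Nat.prime_two⟩
  set N := Subgroup.normalizer ((S : Subgroup G) : Set G)
  let S' : Sylow 2 N := S.subtype le_normalizer
  haveI hn : (S' : Subgroup N).Normal := normal_in_normalizer
  obtain ⟨H, hH⟩ := exists_left_complement'_of_coprime S'.card_coprime_index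
  have hodd : ¬ 2 ∣ Nat.card H := Transfer.not_dvd_card_of_isComplement' S' hH
  have hfix : ∀ x ∈ H, ∀ s ∈ (S' : Subgroup N), Commute x s := by
    intro x hx s hs
    have hx2 : Odd (orderOf x) := Nat.not_even_iff_odd.1 fun he =>
      hodd ((even_iff_two_dvd.1 he).trans (H.orderOf_dvd_natCard hx))
    let ρ : N →* MulAut ↥(S : Subgroup G) := (S : Subgroup G).normalizerMonoidHom
    have h1 : ρ x = 1 := hA _ (orderOf x) hx2 (by rw [← map_pow, pow_orderOf_eq_one, map_one])
    have h2 := congrArg Subtype.val (DFunLike.congr_fun h1 (⟨(s : G), hs⟩ : ↥(S : Subgroup G)))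
    refine Subtype.ext ?_
    have h3 : (x : G) * (s : G) * (x : G)⁻¹ = (s : G) := h2
    exact mul_inv_eq_iff_eq_mul.1 h3
  refine ⟨S', H, ⟨fun a ha g => ?_⟩, hH⟩
  obtain ⟨⟨b, c⟩, rfl⟩ := hH.2 g
  have hc := (hfix a ha c c.2).symm
  show (b : N) * c * a * ((b : N) * c)⁻¹ ∈ H
  rw [show (b : N) * c * a * ((b : N) * c)⁻¹ = (b : N) * ((c : N) * a * (c : N)⁻¹) * (b : N)⁻¹ by group,
    hc.eq, mul_inv_cancel_right]
  exact mul_mem (mul_mem b.2 ha) (inv_mem b.2)

/-- A subgroup that is the only one of its isomorphism type is weakly closed. -/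
theorem weaklyClosed_of_unique {G : Type*} [Group G] (S : Subgroup G) (W : Subgroup S)
    (hW : ∀ W1 : Subgroup S, Nonempty (W ≃* W1) → W1 = W) : IsWeaklyClosed (W.map S.subtype) S := by
  refine ⟨map_subtype_le W, fun g hg => ?_⟩
  set V := (W.map S.subtype).map (MulAut.conj g).toMonoidHom
  have h1 : V.subgroupOf S = W := hW _ ⟨(W.equivMapOfInjective S.subtype S.subtype_injective).trans
    (((W.map S.subtype).equivMapOfInjective (MulAut.conj g).toMonoidHom (MulAut.conj g).injective).trans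
      (subgroupOfEquivOfLe hg).symm)⟩
  rw [← h1, subgroupOf_map_subtype, inf_of_le_left hg]

end Cfsg.Agent.Fus.RudType
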