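import Cfsg.Agent.Lib.Fus.RudTypeBasic

/-!
# The structure of two-groups of Rudvalis type

The quotient by `W` is dihedral of order eight, the derived group of `W` is the elementary third
centre and coincides with the centre of `W`.
-/

set_option autoImplicit false
set_option linter.style.haveILetI false
set_option linter.unusedSectionVars false
set_option linter.unnecessarySeqFocus false

open scoped commutatorElement
open Subgroup

namespace Cfsg.Agent.Fus.RudType

variable {T : Type*} [Group T] [Finite T] {W : Subgroup T}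

namespace Hyp

variable (h : Hyp W)
include h

theorem map_commutator_eq : (commutator ↥W).map W.subtype = ucs T 3 := by
  haveI : Fact (Nat.Prime 2) := ⟨Nat.prime_two⟩
  haveI := h.W_normal
  refine le_antisymm (h.phi_eq ▸ map_mono (Grp.pGroup_commutator_le_frattini (h.pgroup.to_subgroup W))) ?_
  refine (h.dichotomy (N := (commutator ↥W).map W.subtype) (i := 2) (by omega)).resolve_left fun hle => ?_
  obtain ⟨a, ha, b, hb, hab⟩ := h.comm_exists
  exact hab (hle ⟨⁅(⟨a, ha⟩ : W), ⟨b, hb⟩⁆,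
    commutator_mem_commutator (mem_top _) (mem_top _), rfl⟩)

theorem z_comm {a b : T} (ha : a ∈ ucs T 3) (hb : b ∈ ucs T 3) : a * b = b * a :=
  h.phi_comm ha (h.z_le le_rfl hb)

theorem comm_sq {a b : T} (ha : a ∈ W) (hb : b ∈ W) : ⁅a, b⁆ * ⁅a, b⁆ = 1 := by
  rw [← h.comm_mul_left ha ha hb, commutatorElement_eq_one_iff_mul_comm]
  exact h.phi_comm (h.phi_eq ▸ h.sq_mem ha) hb

theorem z_sq {z : T} (hz : z ∈ ucs T 3) : z * z = 1 := by
  let S : Subgroup ↥W :=
    { carrier := {y | (y : T) ∈ ucs T 3 ∧ (y : T) * y = 1}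
      one_mem' := ⟨one_mem _, one_mul 1⟩
      mul_mem' := fun {a b} ha hb => ⟨mul_mem ha.1 hb.1, by
        rw [Subgroup.coe_mul, mul_assoc, ← mul_assoc (b : T), h.z_comm hb.1 ha.1, mul_assoc (a : T),
          hb.2, mul_one, ha.2]⟩
      inv_mem' := fun {a} ha => ⟨inv_mem ha.1, by rw [Subgroup.coe_inv, ← mul_inv_rev, ha.2, inv_one]⟩ }
  have hle : commutator ↥W ≤ S := commutator_le.2 fun a _ b _ =>
    ⟨h.phi_eq ▸ h.comm_mem a.2 b.2, h.comm_sq a.2 b.2⟩
  rw [← h.map_commutator_eq] at hz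
  obtain ⟨y, hy, rfl⟩ := hz
  exact (hle hy).2

theorem z_inv {z : T} (hz : z ∈ ucs T 3) : z⁻¹ = z := inv_eq_of_mul_eq_one_right (h.z_sq hz)

theorem quot_commutator : Nat.card (↥W ⧸ commutator ↥W) = 2 ^ 8 ∧ ∀ x : ↥W ⧸ commutator ↥W, x ^ 2 = 1 := by
  have heq : commutator ↥W = frattini ↥W :=
    map_injective W.subtype_injective (h.map_commutator_eq.trans h.phi_eq.symm)
  refine ⟨?_, fun x => ?_⟩
  · have h1 := (commutator ↥W).card_eq_card_quotient_mul_card_subgroup
    obtain ⟨-, -, hW, hp⟩ := h.counts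
    rw [heq, ← card_map_of_injective W.subtype_injective, hp, hW] at h1
    rw [heq]; omega
  · haveI : Fact (Nat.Prime 2) := ⟨Nat.prime_two⟩
    obtain ⟨y, rfl⟩ := QuotientGroup.mk_surjective x
    rw [← QuotientGroup.mk_pow, QuotientGroup.eq_one_iff, heq]
    exact Grp.pGroup_pow_mem_frattini (h.pgroup.to_subgroup W) y

theorem fix_W {w g : T} (hw : w ∈ W) (hg : g ∈ ucs T 3) : w * g * w⁻¹ = g := by
  rw [← h.phi_comm hg hw, mul_inv_cancel_right]

end Hyp

/-- The effect of `t` on the two generators of the third centre. -/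
def Act (g2 g3 t a b : T) : Prop := t * g2 * t⁻¹ = a * g2 ∧ t * g3 * t⁻¹ = b * g3

theorem Act.mul {g2 g3 s t a b a' b' : T} (hs : Act g2 g3 s a b) (ht : Act g2 g3 t a' b')
    (ha : s * a' = a' * s) : Act g2 g3 (s * t) (a' * a) (s * b' * s⁻¹ * b) := by
  constructor
  · rw [show s * t * g2 * (s * t)⁻¹ = s * (t * g2 * t⁻¹) * s⁻¹ by group, ht.1, ← mul_assoc, ha,
      mul_assoc a' s g2, mul_assoc a' (s * g2), hs.1, mul_assoc]
  · rw [show s * t * g3 * (s * t)⁻¹ = s * (t * g3 * t⁻¹) * s⁻¹ by group, ht.2,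
      show s * (b' * g3) * s⁻¹ = s * b' * s⁻¹ * (s * g3 * s⁻¹) by group, hs.2]
    group

/-- Representatives for the cosets of `W`, with their actions. -/
structure Reps (W : Subgroup T) where
  z : T
  g2 : T
  g3 : T
  u : T
  t1 : T
  t2 : T
  hz : z ∈ ucs T 1
  hz1 : z ≠ 1
  hg2 : g2 ∈ ucs T 2
  hg2' : g2 ∉ ucs T 1
  hg3 : g3 ∈ ucs T 3
  hg3' : g3 ∉ ucs T 2
  hu : Act g2 g3 u 1 z
  ht1 : Act g2 g3 t1 1 g2
  ht2 : Act g2 g3 t2 z 1

theorem Hyp.exists_act (h : Hyp W) {g2 g3 : T} (a : g2 ∈ ucs T 2) (b : g2 ∉ ucs T 1)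
    (c : g3 ∈ ucs T 3) (d : g3 ∉ ucs T 2) {x y : T} (hx : x ∈ ucs T 1) (hy : y ∈ ucs T 2) :
    ∃ t : T, Act g2 g3 t x y := by
  let f : T ⧸ W → ucs T 1 × ucs T 2 := fun q => (⟨_, h.comm_one a q.out⟩, ⟨_, h.comm_one c q.out⟩)
  have hf : Function.Injective f := by
    intro q r e
    have e2 := congrArg (fun p => (p.1 : T)) e
    have e3 := congrArg (fun p => (p.2 : T)) e
    simp only [f, mul_left_inj] at e2 e3
    have := h.congr_mod a b c d e2 e3
    rw [← q.out_eq', ← r.out_eq', QuotientGroup.eq]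
    simpa using inv_mem this
  have hbij := hf.bijective_of_nat_card_le (by
    rw [Nat.card_prod, h.card_ucs (by omega), h.card_ucs (by omega), show Nat.card (T ⧸ W) = 8 from h.counts.2.1]
    norm_num)
  obtain ⟨q, hq⟩ := hbij.2 (⟨x, hx⟩, ⟨y, hy⟩)
  have e2 := congrArg (fun p => (p.1 : T)) hq
  have e3 := congrArg (fun p => (p.2 : T)) hq
  simp only [f] at e2 e3
  exact ⟨q.out, mul_inv_eq_iff_eq_mul.1 e2, mul_inv_eq_iff_eq_mul.1 e3⟩

theorem Hyp.exists_reps (h : Hyp W) : Nonempty (Reps W) := by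
  obtain ⟨g2, g3, a, b, c, d⟩ := h.exists_gens
  obtain ⟨z, -, hz, hz0⟩ := exists_step h.pgroup (N := ⊤) 0 (h.ne_top (by omega))
  have hz1 : z ≠ 1 := fun e => hz0 (e ▸ one_mem _)
  obtain ⟨u, hu⟩ := h.exists_act a b c d (one_mem _) (Subgroup.upperCentralSeries_mono T (by omega : 1 ≤ 2) hz)
  obtain ⟨t1, ht1⟩ := h.exists_act a b c d (one_mem _) a
  obtain ⟨t2, ht2⟩ := h.exists_act a b c d hz (one_mem _)
  exact ⟨⟨z, g2, g3, u, t1, t2, hz, hz1, a, b, c, d, hu, ht1, ht2⟩⟩

namespace Reps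

variable (R : Reps W) (h : Hyp W)

theorem z_central (t : T) : t * R.z = R.z * t := by
  have := R.hz
  simp only [ucs, Subgroup.upperCentralSeries_one] at this
  exact mem_center_iff.1 this t

include h

theorem zg : R.z * R.z = 1 ∧ R.g2 * R.g2 = 1 :=
  ⟨h.z_sq (Subgroup.upperCentralSeries_mono T (by omega : 1 ≤ 3) R.hz),
    h.z_sq (Subgroup.upperCentralSeries_mono T (by omega : 2 ≤ 3) R.hg2)⟩

theorem act_one : Act R.g2 R.g3 1 1 1 := by simp [Act]

theorem act_t1u : Act R.g2 R.g3 (R.t1 * R.u) 1 (R.z * R.g2) := by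
  have := R.ht1.mul R.hu (by simp)
  rwa [mul_one, R.z_central R.t1, mul_inv_cancel_right] at this

theorem act_t2u : Act R.g2 R.g3 (R.t2 * R.u) R.z R.z := by
  have := R.ht2.mul R.hu (by simp)
  rwa [one_mul, mul_one, R.z_central R.t2, mul_inv_cancel_right] at this

theorem act_r : Act R.g2 R.g3 (R.t2 * R.t1) R.z (R.z * R.g2) := by
  have := R.ht2.mul R.ht1 (by simp)
  rwa [one_mul, mul_one, R.ht2.1] at this

theorem act_ru : Act R.g2 R.g3 (R.t2 * R.t1 * R.u) R.z R.g2 := by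
  have := (R.act_r h).mul R.hu (by simp)
  rwa [one_mul, R.z_central (R.t2 * R.t1), mul_inv_cancel_right, ← mul_assoc, (R.zg h).1, one_mul] at this

theorem eq_iff {s t a b a' b' : T} (hs : Act R.g2 R.g3 s a b) (ht : Act R.g2 R.g3 t a' b') :
    (s : T ⧸ W) = t ↔ (a = a' ∧ b = b') := by
  rw [QuotientGroup.eq]
  constructor
  · intro hm
    have f2 := h.fix_W hm (Subgroup.upperCentralSeries_mono T (by omega : 2 ≤ 3) R.hg2)
    have f3 := h.fix_W hm R.hg3
    have k : ∀ g : T, (s⁻¹ * t) * g * (s⁻¹ * t)⁻¹ = g → t * g * t⁻¹ = s * g * s⁻¹ := fun g e => by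
      calc t * g * t⁻¹ = s * (s⁻¹ * t * g * (s⁻¹ * t)⁻¹) * s⁻¹ := by group
        _ = _ := by rw [e]
    have k2 := k _ f2
    have k3 := k _ f3
    rw [hs.1, ht.1, mul_left_inj] at k2
    rw [hs.2, ht.2, mul_left_inj] at k3
    exact ⟨k2.symm, k3.symm⟩
  · rintro ⟨rfl, rfl⟩
    exact h.congr_mod R.hg2 R.hg2' R.hg3 R.hg3' (ht.1.trans hs.1.symm) (ht.2.trans hs.2.symm)

/-- The representatives. -/
def rep : Fin 8 → T :=
  ![1, R.u, R.t1, R.t1 * R.u, R.t2, R.t2 * R.u, R.t2 * R.t1, R.t2 * R.t1 * R.u]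

omit h in
/-- Their actions. -/
def val (i : Fin 8) : T × T :=
  ![((1 : T), (1 : T)), (1, R.z), (1, R.g2), (1, R.z * R.g2), (R.z, 1), (R.z, R.z), (R.z, R.z * R.g2),
    (R.z, R.g2)] i

theorem act_rep (i : Fin 8) : Act R.g2 R.g3 (R.rep i) (R.val i).1 (R.val i).2 := by
  fin_cases i
  exacts [R.act_one h, R.hu, R.ht1, R.act_t1u h, R.ht2, R.act_t2u h, R.act_r h, R.act_ru h]

theorem rep_inj {i j : Fin 8} (e : (R.rep i : T ⧸ W) = R.rep j) : i = j := by
  obtain ⟨e1, e2⟩ := (R.eq_iff h (R.act_rep h i) (R.act_rep h j)).1 e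
  have d1 : R.z ≠ 1 := R.hz1
  have d2 : R.g2 ≠ 1 := fun e => R.hg2' (e ▸ one_mem _)
  have d3 : R.g2 ≠ R.z := fun e => R.hg2' (e ▸ R.hz)
  have d4 : R.z * R.g2 ≠ 1 := fun e => d3 (by
    rw [← h.z_inv (Subgroup.upperCentralSeries_mono T (by omega : 1 ≤ 3) R.hz)]
    exact eq_inv_of_mul_eq_one_right e)
  have d5 : R.z * R.g2 ≠ R.z := fun e => d2 (mul_eq_left.1 e)
  have d6 : R.z * R.g2 ≠ R.g2 := fun e => d1 (mul_eq_right.1 e)
  fin_cases i <;> fin_cases j <;>
    first
      | rfl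
      | (exfalso; simp_all [val, eq_comm])

theorem rep_surj (t : T) : ∃ i, (R.rep i : T ⧸ W) = t := by
  have hbij : Function.Bijective fun i => (R.rep i : T ⧸ W) :=
    Function.Injective.bijective_of_nat_card_le (fun i j e => R.rep_inj h e) (by
      rw [Nat.card_fin, show Nat.card (T ⧸ W) = 8 from h.counts.2.1])
  exact hbij.2 _

theorem mk_relations : (R.u * R.u : T) ∈ W ∧ (R.t1 * R.t1 : T) ∈ W ∧ (R.t2 * R.t2 : T) ∈ W ∧
    (R.t2 * R.t1) * (R.t2 * R.t1 * R.u) ∈ W ∧ ∀ t : T, ((t * R.u : T) : T ⧸ W) = (R.u * t : T) := by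
  haveI := h.W_normal
  obtain ⟨hzz, hgg⟩ := R.zg h
  have key : ∀ {t : T}, Act R.g2 R.g3 t 1 1 → t ∈ W := fun ht => by
    have := (R.eq_iff h (R.act_one h) ht).2 ⟨rfl, rfl⟩
    simpa using QuotientGroup.eq.1 this
  refine ⟨key ?_, key ?_, key ?_, key ?_, fun t => ?_⟩
  · have := R.hu.mul R.hu (by simp)
    rwa [one_mul, R.z_central R.u, mul_inv_cancel_right, hzz] at this
  · have := R.ht1.mul R.ht1 (by simp)
    rwa [one_mul, R.ht1.1, one_mul, hgg] at this
  · have := R.ht2.mul R.ht2 (R.z_central R.t2)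
    rwa [hzz, mul_one, mul_one, mul_inv_cancel] at this
  · have := (R.act_r h).mul (R.act_ru h) (R.z_central _)
    rwa [hzz, (R.act_r h).1, show R.z * R.g2 * (R.z * R.g2) = R.z * (R.g2 * R.z) * R.g2 by group,
      R.z_central, show R.z * (R.z * R.g2) * R.g2 = R.z * R.z * (R.g2 * R.g2) by group, hzz, hgg,
      one_mul] at this
  · obtain ⟨i, hi⟩ := R.rep_surj h t
    have ai := R.act_rep h i
    have hc : ∀ j, (R.val j).1 = 1 ∨ (R.val j).1 = R.z := fun j => by fin_cases j <;> simp [val]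
    have hau : R.u * (R.val i).1 = (R.val i).1 * R.u := by
      rcases hc i with e | e <;> rw [e]
      · simp
      · exact R.z_central _
    have h1 := R.hu.mul ai hau
    have h2 := ai.mul R.hu (by simp)
    rw [R.z_central (R.rep i), mul_inv_cancel_right, one_mul] at h2
    have hfix : R.u * (R.val i).2 * R.u⁻¹ = (R.val i).2 := by
      have fz : R.u * R.z * R.u⁻¹ = R.z := by rw [R.z_central, mul_inv_cancel_right]
      have fg : R.u * R.g2 * R.u⁻¹ = R.g2 := by rw [R.hu.1, one_mul]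
      fin_cases i <;> simp [val, fz, fg]
      all_goals rw [show R.u * (R.z * R.g2) * R.u⁻¹ = R.u * R.z * R.u⁻¹ * (R.u * R.g2 * R.u⁻¹) by group, fz, fg]
    rw [hfix, mul_one] at h1
    have hzc : (R.val i).2 * R.z = R.z * (R.val i).2 := R.z_central _
    rw [hzc] at h1
    have e := (R.eq_iff h h2 h1).2 ⟨rfl, rfl⟩
    rw [QuotientGroup.mk_mul, QuotientGroup.mk_mul, hi] at e
    rw [QuotientGroup.mk_mul, QuotientGroup.mk_mul]
    exact e

end Reps

theorem Hyp.quotient_dihedral (h : Hyp W) [W.Normal] : Nonempty (T ⧸ W ≃* DihedralGroup 4) := by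
  obtain ⟨R⟩ := h.exists_reps
  obtain ⟨-, h1, h2, -, -⟩ := R.mk_relations h
  have hne : (R.t1 : T ⧸ W) * R.t2 ≠ (R.t2 : T ⧸ W) * R.t1 := by
    intro e
    have a12 := R.ht1.mul R.ht2 (R.z_central _)
    rw [← QuotientGroup.mk_mul, ← QuotientGroup.mk_mul] at e
    have := ((R.eq_iff h a12 (R.act_r h)).1 e).2
    rw [mul_one, mul_inv_cancel, one_mul, eq_comm] at this
    exact R.hz1 (mul_eq_right.1 this)
  refine (dihedral_or_quaternion_of_card_eight (H := T ⧸ W) h.counts.2.1 (fun hc => hne (hc _ _))).resolve_right ?_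
  intro e'
  obtain ⟨e⟩ := e'
  · refine hne (e.injective ?_)
    have hq : ∀ a b : QuaternionGroup 2, a * a = 1 → b * b = 1 → a * b = b * a := by decide
    rw [map_mul, map_mul]
    refine hq _ _ ?_ ?_ <;> rw [← map_mul, ← QuotientGroup.mk_mul]
    · rw [(QuotientGroup.eq_one_iff _).2 h1, map_one]
    · rw [(QuotientGroup.eq_one_iff _).2 h2, map_one]

/-- Membership in the second centre as a coordinate. -/
noncomputable def top2 (z : T) : ZMod 2 :=
  open scoped Classical in if z ∈ ucs T 2 then 0 else 1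

/-- The commutator form modulo the second centre. -/
noncomputable def form (a b : T) : ZMod 2 := top2 ⁅a, b⁆

/-- The square form modulo the second centre. -/
noncomputable def quad (a : T) : ZMod 2 := top2 (a * a)

namespace Hyp

variable (h : Hyp W)
include h

theorem top2_mul {a b : T} (ha : a ∈ ucs T 3) (hb : b ∈ ucs T 3) : top2 (a * b) = top2 a + top2 b := by
  classical
  by_cases p : a ∈ ucs T 2
  · simp [top2, p, mul_mem_cancel_left]
  by_cases q : b ∈ ucs T 2
  · simp [top2, p, q, mul_mem_cancel_right]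
  have := h.step_two (i := 2) (by omega) ha hb p q
  simp [top2, p, q, this]
  rfl

theorem top2_inv (a : T) : top2 a⁻¹ = top2 a := by
  have := inv_mem_iff (H := ucs T 2) (x := a)
  classical exact if_congr this rfl rfl

theorem top2_conj (t z : T) : top2 (t * z * t⁻¹) = top2 z := by
  haveI hn : (ucs T 2).Normal := inferInstance
  classical
  have : t * z * t⁻¹ ∈ ucs T 2 ↔ z ∈ ucs T 2 := by
    refine ⟨fun hh => ?_, fun hh => hn.conj_mem _ hh t⟩
    simpa [mul_assoc] using hn.conj_mem _ hh t⁻¹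
  simp [top2, this]

theorem form_symm (a b : T) : form a b = form b a := by
  rw [form, form, ← commutatorElement_inv, h.top2_inv]

theorem form_add {a b y : T} (ha : a ∈ W) (hb : b ∈ W) (hy : y ∈ W) :
    form (a * b) y = form a y + form b y := by
  rw [form, h.comm_mul_left ha hb hy, h.top2_mul (h.phi_eq ▸ h.comm_mem ha hy) (h.phi_eq ▸ h.comm_mem hb hy)]
  rfl

theorem form_add' {a b y : T} (ha : a ∈ W) (hb : b ∈ W) (hy : y ∈ W) :
    form y (a * b) = form y a + form y b := by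
  rw [h.form_symm, h.form_add ha hb hy, h.form_symm a, h.form_symm b]

theorem form_zero {a y : T} (ha : a ∈ phi W) (hy : y ∈ W) : form a y = 0 := by
  rw [form, commutatorElement_eq_one_iff_mul_comm.2 (h.phi_comm (h.phi_eq ▸ ha) hy)]
  simp [top2]

theorem form_self (a : T) : form a a = 0 := by simp [form, top2]

theorem form_inv {a y : T} (ha : a ∈ W) (hy : y ∈ W) : form a⁻¹ y = form a y := by
  have h1 := h.form_add (inv_mem ha) ha hy
  rw [inv_mul_cancel, h.form_zero (one_mem _) hy] at h1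
  exact CharTwo.add_eq_zero.1 h1.symm

theorem quad_mul {a b : T} (ha : a ∈ W) (hb : b ∈ W) : quad (a * b) = quad a + quad b + form a b := by
  have e : a * b * (a * b) = a * a * (b * ⁅b⁻¹, a⁻¹⁆ * b) := by simp only [commutatorElement_def]; group
  have hc : ⁅b⁻¹, a⁻¹⁆ ∈ ucs T 3 := h.phi_eq ▸ h.comm_mem (inv_mem hb) (inv_mem ha)
  rw [quad, e, mul_assoc b, h.phi_comm hc hb, ← mul_assoc b,
    h.top2_mul (h.phi_eq ▸ h.sq_mem ha) (mul_mem (h.phi_eq ▸ h.sq_mem hb) hc),
    h.top2_mul (h.phi_eq ▸ h.sq_mem hb) hc]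
  have : top2 ⁅b⁻¹, a⁻¹⁆ = form a b := by
    show form b⁻¹ a⁻¹ = _
    rw [h.form_inv hb (inv_mem ha), h.form_symm, h.form_inv ha hb]
  rw [this, ← add_assoc]
  rfl

theorem quad_phi {a : T} (ha : a ∈ phi W) : quad a = 0 := by
  rw [quad, h.z_sq (h.phi_eq ▸ ha)]; simp [top2]

theorem form_congr {a a' y : T} (ha : a ∈ W) (e : a⁻¹ * a' ∈ phi W) (hy : y ∈ W) : form a' y = form a y := by
  have h1 := h.form_add ha (h.phi_le e) hy
  rwa [mul_inv_cancel_left, h.form_zero e hy, add_zero] at h1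

theorem form_conj (t a b : T) : form (t * a * t⁻¹) (t * b * t⁻¹) = form a b := by
  rw [form, form, show ⁅t * a * t⁻¹, t * b * t⁻¹⁆ = t * ⁅a, b⁆ * t⁻¹ by
    simp only [commutatorElement_def]; group, h.top2_conj]

theorem quad_conj (t a : T) : quad (t * a * t⁻¹) = quad a := by
  rw [quad, show t * a * t⁻¹ * (t * a * t⁻¹) = t * (a * a) * t⁻¹ by group, h.top2_conj]
  rfl

/-- An element moving the third centre outside the second one but fixing the second kills the form on
the pairs it interchanges. -/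
theorem form_swap (R : Reps W) {s b : T} (hs : Act R.g2 R.g3 s 1 b) (hb : b ≠ 1) (hs2 : s * s ∈ W)
    {a : T} (ha : a ∈ W) : form a (s * a * s⁻¹) = 0 := by
  haveI := h.W_normal
  classical
  set a' := s * a * s⁻¹ with ha'
  have haW : a' ∈ W := h.W_normal.conj_mem _ ha s
  set c := ⁅a, a'⁆
  have hc : c ∈ ucs T 3 := h.phi_eq ▸ h.comm_mem ha haW
  have hfix : s * c * s⁻¹ = c := by
    have h1 : (s * s) * a * (s * s)⁻¹ = a * ⁅a⁻¹, s * s⁆ := by simp only [commutatorElement_def]; group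
    have h2 : ⁅a⁻¹, s * s⁆ ∈ ucs T 3 := h.phi_eq ▸ h.comm_mem (inv_mem ha) hs2
    rw [show s * c * s⁻¹ = ⁅a', (s * s) * a * (s * s)⁻¹⁆ by
      simp only [c, ha', commutatorElement_def]; group, h1]
    have h3 : ⁅a', a * ⁅a⁻¹, s * s⁆⁆ = ⁅a', a⁆ := by
      rw [← commutatorElement_inv, h.comm_mul_left ha (h.z_le le_rfl h2) haW,
        commutatorElement_eq_one_iff_mul_comm.2 (h.phi_comm h2 haW), mul_one, commutatorElement_inv]
    rw [h3, ← commutatorElement_inv, h.z_inv hc]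
  have hmem : c ∈ ucs T 2 := by
    by_contra hno
    have hy := h.step_two (i := 2) (by omega) hc R.hg3 hno R.hg3'
    have hyfix : s * (c * R.g3) * s⁻¹ = c * R.g3 := by
      by_cases h1 : c * R.g3 ∈ ucs T 1
      · simp only [ucs, Subgroup.upperCentralSeries_one] at h1
        rw [mem_center_iff.1 h1 s, mul_inv_cancel_right]
      · have h2 := h.step_two (i := 1) (by omega) hy R.hg2 h1 R.hg2'
        simp only [ucs, Subgroup.upperCentralSeries_one] at h2
        have h3 : s * (c * R.g3 * R.g2) * s⁻¹ = c * R.g3 * R.g2 := by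
          rw [mem_center_iff.1 h2 s, mul_inv_cancel_right]
        rw [show s * (c * R.g3 * R.g2) * s⁻¹ = s * (c * R.g3) * s⁻¹ * (s * R.g2 * s⁻¹) by group,
          hs.1, one_mul, mul_left_inj] at h3
        exact h3
    rw [show s * (c * R.g3) * s⁻¹ = s * c * s⁻¹ * (s * R.g3 * s⁻¹) by group, hfix, hs.2] at hyfix
    exact hb (mul_eq_right.1 (mul_left_cancel hyfix))
  show top2 c = 0
  simp [top2, hmem]

end Hyp

/-- The coefficients of the five generators of a totally singular subgroup. -/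
def comb (e : Fin 5 → Bool) : Fin 8 → ZMod 2 :=
  let n : Bool → ZMod 2 := fun b => if b then 1 else 0
  ![n (e 0) + n (e 4), n (e 0), n (e 1) + n (e 4), n (e 1), n (e 2), n (e 2), n (e 3), n (e 3)]

theorem comb_injective : Function.Injective comb := by decide

theorem Hyp.center_le (h : Hyp W) : (center ↥W).map W.subtype ≤ ucs T 3 := by
  classical
  haveI := h.W_normal
  by_contra hno
  have hle : ucs T 4 ≤ (center ↥W).map W.subtype :=
    (h.dichotomy (N := (center ↥W).map W.subtype) (i := 3) (by omega)).resolve_left hno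
  obtain ⟨v, -, hv4, hv3⟩ := exists_step h.pgroup (N := ⊤) 3 (h.ne_top (by omega))
  have hvW : v ∈ W := h.four_le hv4
  obtain ⟨M, hM⟩ := h.exists_maximal
  obtain ⟨R⟩ := h.exists_reps
  obtain ⟨-, -, -, -, hsurj⟩ := hM.counts h
  obtain ⟨ru, rt1, rt2, rr, rc⟩ := R.mk_relations h
  obtain ⟨⟨x, hxW⟩, hx⟩ := hsurj (Multiplicative.ofAdd fun q : T ⧸ W => if q = ((1 : T) : T ⧸ W) then 1 else 0)
  have hx' : ∀ q, coord W M x q = if q = ((1 : T) : T ⧸ W) then 1 else 0 := fun q =>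
    congrFun (congrArg Multiplicative.toAdd hx) q
  let X : T → T := fun t => t * x * t⁻¹
  have hX : ∀ t, X t ∈ W := fun t => h.W_normal.conj_mem _ hxW t
  have hcX : ∀ s t : T, coord W M (X t) (s : T ⧸ W) = if ((s * t : T) : T ⧸ W) = (1 : T) then 1 else 0 :=
    fun s t => by rw [hM.coord_conj h hxW, hx']
  let β : T → ZMod 2 := fun t => form x (X t)
  have hβcongr : ∀ {s t : T}, (s : T ⧸ W) = t → β s = β t := fun {s t} e => by
    show form x (X s) = form x (X t)
    rw [h.form_symm x, h.form_symm x]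
    refine (h.form_congr (hX s) ((hM.coord_eq_iff h (hX s) (hX t)).1 (funext fun q => ?_)) hxW).symm
    obtain ⟨r, rfl⟩ := QuotientGroup.mk_surjective q
    rw [hcX, hcX, show ((r * s : T) : T ⧸ W) = (r * t : T) by
      rw [QuotientGroup.mk_mul, QuotientGroup.mk_mul, e]]
  have hβshift : ∀ a b, form (X a) (X b) = β (a⁻¹ * b) := fun a b => by
    show _ = form x (X (a⁻¹ * b))
    rw [← h.form_conj a⁻¹]
    congr 1 <;> simp only [X] <;> group
  have hβinv : ∀ t, β t⁻¹ = β t := fun t => by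
    rw [show t⁻¹ = t⁻¹ * 1 by group, ← hβshift, h.form_symm, show X 1 = x by simp [X]]
  have hβswap : ∀ {s b : T}, Act R.g2 R.g3 s 1 b → b ≠ 1 → s * s ∈ W → β s = 0 := fun hs hb hs2 =>
    h.form_swap R hs hb hs2 hxW
  have d2 : R.g2 ≠ 1 := fun e => R.hg2' (e ▸ one_mem _)
  have d4 : R.z * R.g2 ≠ 1 := fun e => R.hg2' (by
    rw [eq_inv_of_mul_eq_one_right e]; exact inv_mem R.hz)
  have rt1u : R.t1 * R.u * (R.t1 * R.u) ∈ W := by
    rw [← QuotientGroup.eq_one_iff, QuotientGroup.mk_mul]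
    nth_rw 2 [rc R.t1]
    rw [← QuotientGroup.mk_mul, QuotientGroup.eq_one_iff,
      show R.t1 * R.u * (R.u * R.t1) = R.t1 * (R.u * R.u) * R.t1⁻¹ * (R.t1 * R.t1) by group]
    exact mul_mem (h.W_normal.conj_mem _ ru _) rt1
  have b0 : β 1 = 0 := by simp only [β, X, one_mul, inv_one, mul_one]; exact h.form_self x
  have b1 : β R.u = 0 := hβswap R.hu R.hz1 ru
  have b2 : β R.t1 = 0 := hβswap R.ht1 d2 rt1
  have b3 : β (R.t1 * R.u) = 0 := hβswap (R.act_t1u h) d4 rt1u
  have b67 : β (R.t2 * R.t1 * R.u) = β (R.t2 * R.t1) := by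
    rw [← hβinv (R.t2 * R.t1)]
    exact hβcongr (QuotientGroup.eq.2 (by
      rw [show (R.t2 * R.t1 * R.u)⁻¹ * (R.t2 * R.t1)⁻¹ = ((R.t2 * R.t1) * (R.t2 * R.t1 * R.u))⁻¹ by group]
      exact inv_mem rr))
  -- the central element is congruent to the product of the basis
  let Pv : T := X (R.rep 0) * X (R.rep 1) * X (R.rep 2) * X (R.rep 3) * X (R.rep 4) * X (R.rep 5) *
    X (R.rep 6) * X (R.rep 7)
  have hPv : Pv ∈ W := by
    simp only [Pv]
    exact mul_mem (mul_mem (mul_mem (mul_mem (mul_mem (mul_mem (mul_mem (hX _) (hX _)) (hX _)) (hX _))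
      (hX _)) (hX _)) (hX _)) (hX _)
  have hXrep : ∀ i j : Fin 8, coord W M (X (R.rep j)) (((R.rep i)⁻¹ : T) : T ⧸ W) = if i = j then 1 else 0 := by
    intro i j
    rw [hcX]
    refine if_congr ⟨fun e => R.rep_inj h ?_, fun e => ?_⟩ rfl rfl
    · rw [QuotientGroup.mk_mul, QuotientGroup.mk_inv, QuotientGroup.mk_one, inv_mul_eq_one] at e
      exact e
    · rw [e, inv_mul_cancel]
  have hclass : ∀ q : T ⧸ W, ∃ i, (((R.rep i)⁻¹ : T) : T ⧸ W) = q := fun q => by
    obtain ⟨r, rfl⟩ := QuotientGroup.mk_surjective q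
    obtain ⟨i, hi⟩ := R.rep_surj h r⁻¹
    exact ⟨i, by rw [QuotientGroup.mk_inv, hi, ← QuotientGroup.mk_inv, inv_inv]⟩
  have hvc : coord W M v = fun _ => 1 := by
    have hconst : ∀ t : T, t * v * t⁻¹ ∈ M ↔ v ∈ M := fun t => by
      have h1 : v⁻¹ * (t * v * t⁻¹) ∈ phi W := by
        rw [h.phi_eq]
        have h2 := h.comm_one hv4 t
        have h3 := (inferInstance : (ucs T 3).Normal).conj_mem _ h2 v⁻¹
        rwa [show v⁻¹ * (t * v * t⁻¹ * v⁻¹) * v⁻¹⁻¹ = v⁻¹ * (t * v * t⁻¹) by group] at h3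
      have h4 := hM.two v hvW _ (h.phi_le h1)
      rw [mul_inv_cancel_left] at h4
      simp [h4, hM.phi_le h1]
    have hvM : v ∉ M := fun hm => hv3 (h.phi_eq ▸ hM.core v hvW fun t => (hconst t).2 hm)
    funext q
    simp [coord, hconst, hvM]
  have hvPv : v⁻¹ * Pv ∈ phi W := by
    refine (hM.coord_eq_iff h hvW hPv).1 (funext fun q => ?_)
    obtain ⟨i, rfl⟩ := hclass q
    have hmul : ∀ {a b : T}, a ∈ W → b ∈ W → ∀ q, coord W M (a * b) q = coord W M a q + coord W M b q :=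
      fun ha hb q => hM.coord_mul h ha hb q
    simp only [Pv]
    rw [hvc, hmul (mul_mem (mul_mem (mul_mem (mul_mem (mul_mem (mul_mem (hX _) (hX _)) (hX _)) (hX _)) (hX _)) (hX _)) (hX _)) (hX _),
      hmul (mul_mem (mul_mem (mul_mem (mul_mem (mul_mem (hX _) (hX _)) (hX _)) (hX _)) (hX _)) (hX _)) (hX _),
      hmul (mul_mem (mul_mem (mul_mem (mul_mem (hX _) (hX _)) (hX _)) (hX _)) (hX _)) (hX _),
      hmul (mul_mem (mul_mem (mul_mem (hX _) (hX _)) (hX _)) (hX _)) (hX _),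
      hmul (mul_mem (mul_mem (hX _) (hX _)) (hX _)) (hX _),
      hmul (mul_mem (hX _) (hX _)) (hX _), hmul (hX _) (hX _)]
    simp only [hXrep]
    fin_cases i <;> decide
  have hvx : form Pv x = 0 := by
    rw [h.form_congr hvW hvPv hxW, form]
    obtain ⟨y, hy, e⟩ := hle hv4
    have : v * x = x * v := by
      have := congrArg Subtype.val (mem_center_iff.1 hy ⟨x, hxW⟩)
      simp only [Subgroup.coe_mul] at this
      rw [← e]; exact this.symm
    rw [commutatorElement_eq_one_iff_mul_comm.2 this]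
    simp [top2]
  have hsum : β (R.t2) + β (R.t2 * R.u) = 0 := by
    simp only [Pv] at hvx
    have hadd := fun {a b : T} (ha : a ∈ W) (hb : b ∈ W) => h.form_add ha hb hxW
    rw [hadd (mul_mem (mul_mem (mul_mem (mul_mem (mul_mem (mul_mem (hX _) (hX _)) (hX _)) (hX _)) (hX _)) (hX _)) (hX _)) (hX _),
      hadd (mul_mem (mul_mem (mul_mem (mul_mem (mul_mem (hX _) (hX _)) (hX _)) (hX _)) (hX _)) (hX _)) (hX _),
      hadd (mul_mem (mul_mem (mul_mem (mul_mem (hX _) (hX _)) (hX _)) (hX _)) (hX _)) (hX _),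
      hadd (mul_mem (mul_mem (mul_mem (hX _) (hX _)) (hX _)) (hX _)) (hX _),
      hadd (mul_mem (mul_mem (hX _) (hX _)) (hX _)) (hX _),
      hadd (mul_mem (hX _) (hX _)) (hX _), hadd (hX _) (hX _)] at hvx
    simp only [h.form_symm _ x] at hvx
    change β 1 + β R.u + β R.t1 + β (R.t1 * R.u) + β R.t2 + β (R.t2 * R.u) + β (R.t2 * R.t1) +
      β (R.t2 * R.t1 * R.u) = 0 at hvx
    rw [b0, b1, b2, b3, b67, zero_add, zero_add, zero_add, zero_add, add_assoc,
      CharTwo.add_self_eq_zero, add_zero] at hvx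
    exact hvx
  have hpair : ∀ t, β t + β (t * R.u) = 0 := by
    intro t
    obtain ⟨i, hi⟩ := R.rep_surj h t
    have e1 : β t = β (R.rep i) := hβcongr hi.symm
    have e2 : β (t * R.u) = β (R.rep i * R.u) := hβcongr (by rw [QuotientGroup.mk_mul, QuotientGroup.mk_mul, hi])
    have huu : ∀ a, β (a * R.u * R.u) = β a := fun a => hβcongr (QuotientGroup.eq.2 (by
      rw [show (a * R.u * R.u)⁻¹ * a = (R.u * R.u)⁻¹ by group]; exact inv_mem ru))
    rw [e1, e2]
    fin_cases i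
    · show β 1 + β (1 * R.u) = 0
      rw [one_mul, b0, b1, add_zero]
    · show β R.u + β (R.u * R.u) = 0
      rw [show R.u * R.u = 1 * R.u * R.u by group, huu, b0, b1, add_zero]
    · show β R.t1 + β (R.t1 * R.u) = 0
      rw [b2, b3, add_zero]
    · show β (R.t1 * R.u) + β (R.t1 * R.u * R.u) = 0
      rw [huu, b2, b3, add_zero]
    · exact hsum
    · show β (R.t2 * R.u) + β (R.t2 * R.u * R.u) = 0
      rw [huu, add_comm]; exact hsum
    · show β (R.t2 * R.t1) + β (R.t2 * R.t1 * R.u) = 0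
      rw [b67, CharTwo.add_self_eq_zero]
    · show β (R.t2 * R.t1 * R.u) + β (R.t2 * R.t1 * R.u * R.u) = 0
      rw [huu, b67, CharTwo.add_self_eq_zero]
  -- the totally singular generators
  let Y : T → T := fun a => X a * X (a * R.u)
  have hY : ∀ a, Y a ∈ W := fun a => mul_mem (hX _) (hX _)
  let Z0 : T := X 1 * X R.t1
  have hZ0 : Z0 ∈ W := mul_mem (hX _) (hX _)
  let S : Set T := (phi W : Set T) ∪ {Y 1, Y R.t1, Y R.t2, Y (R.t2 * R.t1), Z0}
  have hYY : ∀ a b, form (Y a) (Y b) = 0 := by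
    intro a b
    simp only [Y]
    rw [h.form_add (hX _) (hX _) (mul_mem (hX _) (hX _)), h.form_add' (hX _) (hX _) (hX _),
      h.form_add' (hX _) (hX _) (hX _), hβshift, hβshift, hβshift, hβshift,
      show a⁻¹ * (b * R.u) = a⁻¹ * b * R.u by group, hpair, zero_add,
      show (a * R.u)⁻¹ * (b * R.u) = (a * R.u)⁻¹ * b * R.u by group, hpair]
  have hZY : ∀ b, form Z0 (Y b) = 0 := by
    intro b
    simp only [Y, Z0]
    rw [h.form_add (hX _) (hX _) (mul_mem (hX _) (hX _)), h.form_add' (hX _) (hX _) (hX _),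
      h.form_add' (hX _) (hX _) (hX _), hβshift, hβshift, hβshift, hβshift,
      ← mul_assoc, hpair, zero_add, ← mul_assoc, hpair]
  have hSW : ∀ a ∈ S, a ∈ W := by
    rintro a (ha | rfl | rfl | rfl | rfl | rfl)
    exacts [h.phi_le ha, hY _, hY _, hY _, hY _, hZ0]
  have hSS : ∀ a ∈ S, ∀ b ∈ S, form a b = 0 := by
    have hin : ∀ a ∈ S, a ∈ phi W ∨ (∃ c, a = Y c) ∨ a = Z0 := by
      rintro a (ha | ha | ha | ha | ha | ha)
      exacts [Or.inl ha, Or.inr (Or.inl ⟨_, ha⟩), Or.inr (Or.inl ⟨_, ha⟩), Or.inr (Or.inl ⟨_, ha⟩),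
        Or.inr (Or.inl ⟨_, ha⟩), Or.inr (Or.inr ha)]
    intro a ha b hb
    have haW := hSW a ha
    rcases hin b hb with hb' | ⟨d, hd⟩ | hd
    · rw [h.form_symm]; exact h.form_zero hb' haW
    · rcases hin a ha with ha' | ⟨c, hc⟩ | hc
      · exact h.form_zero ha' (hSW b hb)
      · rw [hc, hd]; exact hYY c d
      · rw [hc, hd]; exact hZY d
    · rcases hin a ha with ha' | ⟨c, hc⟩ | hc
      · exact h.form_zero ha' (hSW b hb)
      · rw [hc, hd, h.form_symm]; exact hZY c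
      · rw [hc, hd]; exact h.form_self Z0
  have hSq : ∀ a ∈ S, quad a = 0 := by
    have hqY : ∀ a, quad (Y a) = 0 := fun a => by
      simp only [Y, X]
      rw [h.quad_mul (hX _) (hX _), h.quad_conj, h.quad_conj, CharTwo.add_self_eq_zero, zero_add]
      show form (X a) (X (a * R.u)) = 0
      rw [hβshift, inv_mul_cancel_left, b1]
    rintro a (ha | rfl | rfl | rfl | rfl | rfl)
    exacts [h.quad_phi ha, hqY _, hqY _, hqY _, hqY _, by
      simp only [Z0, X]
      rw [h.quad_mul (hX _) (hX _), h.quad_conj, h.quad_conj, CharTwo.add_self_eq_zero, zero_add]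
      show form (X 1) (X R.t1) = 0
      rw [hβshift, inv_one, one_mul, b2]]
  let P := closure S
  have hPW : P ≤ W := (closure_le W).2 hSW
  have hP1 : ∀ p ∈ P, ∀ b ∈ S, form p b = 0 := by
    intro p hp b hb
    induction hp using closure_induction with
    | mem a ha => exact hSS a ha b hb
    | one => exact h.form_zero (one_mem _) (hSW b hb)
    | mul a c ha hc iha ihc => rw [h.form_add (hPW ha) (hPW hc) (hSW b hb), iha, ihc, add_zero]
    | inv a ha iha => rw [h.form_inv (hPW ha) (hSW b hb), iha]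
  have hP2 : ∀ p ∈ P, ∀ q ∈ P, form p q = 0 := by
    intro p hp q hq
    induction hq using closure_induction with
    | mem b hb => exact hP1 p hp b hb
    | one => rw [h.form_symm]; exact h.form_zero (one_mem _) (hPW hp)
    | mul a c ha hc iha ihc => rw [h.form_add' (hPW ha) (hPW hc) (hPW hp), iha, ihc, add_zero]
    | inv a ha iha => rw [h.form_symm, h.form_inv (hPW ha) (hPW hp), h.form_symm, iha]
  have hP3 : ∀ p ∈ P, quad p = 0 := by
    intro p hp
    induction hp using closure_induction with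
    | mem a ha => exact hSq a ha
    | one => exact h.quad_phi (one_mem _)
    | mul a c ha hc iha ihc => rw [h.quad_mul (hPW ha) (hPW hc), iha, ihc, hP2 a ha c hc, add_zero, add_zero]
    | inv a ha iha =>
      show top2 (a⁻¹ * a⁻¹) = 0
      rw [← mul_inv_rev, h.top2_inv]; exact iha
  have hgen : Y 1 ∈ P ∧ Y R.t1 ∈ P ∧ Y R.t2 ∈ P ∧ Y (R.t2 * R.t1) ∈ P ∧ Z0 ∈ P :=
    ⟨subset_closure (Or.inr (by simp)), subset_closure (Or.inr (by simp)), subset_closure (Or.inr (by simp)),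
      subset_closure (Or.inr (by simp)), subset_closure (Or.inr (by simp))⟩
  obtain ⟨g0, g1, g2, g3, g4⟩ := hgen
  have hphiP : phi W ≤ P := fun y hy => subset_closure (Or.inl hy)
  let pw : T → Bool → T := fun g e => if e then g else 1
  have hpw : ∀ {g : T} {K : Subgroup T} (e : Bool), g ∈ K → pw g e ∈ K := fun e hg => by
    cases e <;> simp [pw, hg]
  let we : (Fin 5 → Bool) → T := fun e =>
    pw (Y 1) (e 0) * pw (Y R.t1) (e 1) * pw (Y R.t2) (e 2) * pw (Y (R.t2 * R.t1)) (e 3) * pw Z0 (e 4)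
  have hweP : ∀ e, we e ∈ P := fun e => mul_mem (mul_mem (mul_mem (mul_mem (hpw _ g0) (hpw _ g1)) (hpw _ g2)) (hpw _ g3)) (hpw _ g4)
  have hweC : ∀ e i, coord W M (we e) (((R.rep i)⁻¹ : T) : T ⧸ W) = comb e i := by
    intro e i
    have hmul : ∀ {a b : T}, a ∈ W → b ∈ W → ∀ q, coord W M (a * b) q = coord W M a q + coord W M b q :=
      fun ha hb q => hM.coord_mul h ha hb q
    have hc : ∀ {g : T} (b : Bool), coord W M (pw g b) (((R.rep i)⁻¹ : T) : T ⧸ W) =
        (if b then 1 else 0) * coord W M g (((R.rep i)⁻¹ : T) : T ⧸ W) := fun {g} b => by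
      cases b
      · simp [pw, hM.coord_phi h (one_mem (phi W))]
      · simp [pw]
    simp only [we]
    rw [hmul (mul_mem (mul_mem (mul_mem (hpw _ (hY _)) (hpw _ (hY _))) (hpw _ (hY _))) (hpw _ (hY _))) (hpw _ hZ0),
      hmul (mul_mem (mul_mem (hpw _ (hY _)) (hpw _ (hY _))) (hpw _ (hY _))) (hpw _ (hY _)),
      hmul (mul_mem (hpw _ (hY _)) (hpw _ (hY _))) (hpw _ (hY _)), hmul (hpw _ (hY _)) (hpw _ (hY _)),
      hc, hc, hc, hc, hc]
    simp only [Y, Z0, one_mul]
    rw [hmul (hX _) (hX _), hmul (hX _) (hX _), hmul (hX _) (hX _), hmul (hX _) (hX _), hmul (hX _) (hX _),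
      show X 1 = X (R.rep 0) from rfl, show X R.u = X (R.rep 1) from rfl,
      show X R.t1 = X (R.rep 2) from rfl, show X (R.t1 * R.u) = X (R.rep 3) from rfl,
      show X R.t2 = X (R.rep 4) from rfl, show X (R.t2 * R.u) = X (R.rep 5) from rfl,
      show X (R.t2 * R.t1) = X (R.rep 6) from rfl,
      show X (R.t2 * R.t1 * R.u) = X (R.rep 7) from rfl]
    simp only [hXrep]
    fin_cases i <;> simp [comb]
  have hcard : 2 ^ 8 ≤ Nat.card P := by
    let f : phi W × (Fin 5 → Bool) → P := fun p => ⟨we p.2 * (p.1 : T), mul_mem (hweP _) (hphiP p.1.2)⟩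
    have hf : Function.Injective f := by
      rintro ⟨a, e⟩ ⟨a', e'⟩ he
      have he' : we e * (a : T) = we e' * (a' : T) := congrArg Subtype.val he
      have hee : e = e' := comb_injective (funext fun i => by
        have := congrArg (fun y => coord W M y (((R.rep i)⁻¹ : T) : T ⧸ W)) he'
        simp only [hM.coord_mul h (hPW (hweP _)) (h.phi_le a.2), hM.coord_mul h (hPW (hweP _)) (h.phi_le a'.2),
          hM.coord_phi h a.2, hM.coord_phi h a'.2, Pi.zero_apply, add_zero, hweC] at this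
        exact this)
      subst hee
      exact Prod.ext (Subtype.ext (mul_left_cancel he')) rfl
    have := Nat.card_le_card_of_injective f hf
    rw [Nat.card_prod, h.counts.2.2.2, Nat.card_fun, Nat.card_eq_fintype_card (α := Bool), Fintype.card_bool,
      Nat.card_fin] at this
    exact this
  have hidx : P.relIndex W ≤ 8 := by
    have h1 := (P.subgroupOf W).card_mul_index
    rw [Nat.card_congr (subgroupOfEquivOfLe hPW).toEquiv, h.counts.2.2.1] at h1
    by_contra hh
    have : 2 ^ 8 * 9 ≤ Nat.card P * (P.subgroupOf W).index := Nat.mul_le_mul hcard (by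
      show 9 ≤ P.relIndex W
      omega)
    omega
  obtain ⟨p, hp, hpp⟩ := h.no_flat hPW hphiP hidx
  have := hP3 p hp
  simp [quad, top2, hpp] at this

theorem Hyp.card_center (h : Hyp W) : Nat.card (center ↥W) = 8 := by
  rw [← card_map_of_injective W.subtype_injective, show (8 : ℕ) = 2 ^ 3 from rfl, ← h.card_ucs (i := 3) (by omega)]
  refine congrArg (fun K : Subgroup T => Nat.card K) (le_antisymm h.center_le fun z hz => ?_)
  exact ⟨⟨z, h.z_le le_rfl hz⟩, mem_center_iff.2 fun w => Subtype.ext (h.phi_comm hz w.2).symm, rfl⟩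

/-- The hypotheses from conditions on the subgroup as a group. -/
theorem Hyp.of_frattini (hT : IsPGroup 2 T) (ha : 2 ^ 14 ≤ Nat.card T)
    (hb : Nat.card ↥(Subgroup.upperCentralSeries T 4) = 16)
    (hW : W = Subgroup.centralizer ((Subgroup.upperCentralSeries T 3 : Subgroup T) : Set T))
    (hc : Nat.card ↥(frattini ↥W) ≤ 8) (hd : ∀ U : Subgroup ↥W, U.index ≤ 16 → frattini ↥W ≤ U) :
    Hyp W := by
  refine ⟨hT, ha, hb, hW, ?_, fun P _ hP => ?_⟩
  · rwa [phi, card_map_of_injective W.subtype_injective]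
  · rintro _ ⟨y, hy, rfl⟩
    exact hd (P.subgroupOf W) hP hy

end Cfsg.Agent.Fus.RudType
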