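import Cfsg.Agent.Lib.Fus.PSLUnipotent

/-!
Over the field with two elements, the conjugates of the unitriangular group meeting it trivially
belong to the opposite flags, of which there are no more than elements of the group.
-/

set_option autoImplicit false

namespace Cfsg.Agent.Fus.SLFlagOpposite

open Matrix Cfsg.Agent.Fus.PSLN

variable {n : ℕ}

local notation "SLn" => Matrix.SpecialLinearGroup (Fin n) (ZMod 2)
local notation "Mn" => Matrix (Fin n) (Fin n) (ZMod 2)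

instance : Fact (Nat.Prime 2) := ⟨Nat.prime_two⟩

theorem eq_one_of_ne_zero : ∀ x : ZMod 2, x ≠ 0 → x = 1 := by decide

theorem eq_one_of_mul_self : ∀ x : ZMod 2, x * x = 1 → x = 1 := by decide

/-- An upper triangular element is unitriangular. -/
theorem mem_unip_of_upper {g : SLn} (h : IsUpper g) : g ∈ unip (ZMod 2) n :=
  ⟨h, fun i => eq_one_of_ne_zero _ (h.diag_ne_zero i)⟩

theorem self_normalizing (g : SLn)
    (h : ∀ u ∈ unip (ZMod 2) n, g * u * g⁻¹ ∈ unip (ZMod 2) n) : g ∈ unip (ZMod 2) n :=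
  mem_unip_of_upper (isUpper_of_conj_mem h)

theorem inv_mulVec (g : SLn) (v : Fin n → ZMod 2) :
    (g : Mn) *ᵥ ((g⁻¹ : SLn) : Mn) *ᵥ v = v := by
  rw [Matrix.mulVec_mulVec, ← Matrix.SpecialLinearGroup.coe_mul, mul_inv_cancel,
    Matrix.SpecialLinearGroup.coe_one, Matrix.one_mulVec]

/-- The first `i` steps of the standard flag and the last `n - i` of its image meet trivially. -/
def Opp (g : SLn) (i : ℕ) : Prop :=
  ∀ v : Fin n → ZMod 2, (∀ r : Fin n, i ≤ r → v r = 0) →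
    (∀ r : Fin n, n - i ≤ r → (((g⁻¹ : SLn) : Mn) *ᵥ v) r = 0) → v = 0

theorem exists_transvection {g : SLn} {i : ℕ} (h : ¬ Opp g i) :
    ∃ t : SLn, t ≠ 1 ∧ t ∈ unip (ZMod 2) n ∧ g⁻¹ * t * g ∈ unip (ZMod 2) n := by
  unfold Opp at h
  push Not at h
  obtain ⟨v, hv, hw, hv0⟩ := h
  obtain ⟨w, hwdef⟩ : ∃ w, w = ((g⁻¹ : SLn) : Mn) *ᵥ v := ⟨_, rfl⟩
  have hgw : (g : Mn) *ᵥ w = v := hwdef ▸ inv_mulVec g v
  rw [← hwdef] at hw
  have hin : i < n := by
    by_contra hc
    have hw0 : w = 0 := funext fun r => hw r (by omega)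
    exact hv0 (by rw [← hgw, hw0, Matrix.mulVec_zero])
  -- a functional vanishing on both spaces
  let A : (Fin n → ZMod 2) →ₗ[ZMod 2] ((Fin i ⊕ Fin (n - i)) → ZMod 2) := LinearMap.pi fun x =>
    x.elim (fun r => LinearMap.proj (Fin.castLE hin.le r))
      (fun c => (LinearMap.proj (Fin.castLE (Nat.sub_le n i) c)).comp (g : Mn).vecMulLinear)
  have hnotsurj : ¬ Function.Surjective A := by
    intro hs
    obtain ⟨r, hr⟩ : ∃ r : Fin n, v r ≠ 0 := by
      by_contra hc; push Not at hc; exact hv0 (funext hc)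
    have hri : (r : ℕ) < i := by by_contra hc; exact hr (hv r (by omega))
    obtain ⟨φ, hφ⟩ := hs (Pi.single (Sum.inl ⟨r, hri⟩) 1)
    have h1 : φ ⬝ᵥ v = v r := by
      rw [dotProduct, Finset.sum_eq_single r]
      · have := congrFun hφ (Sum.inl ⟨r, hri⟩)
        simp [A] at this
        rw [this, one_mul]
      · intro b _ hb
        by_cases hbi : (b : ℕ) < i
        · have := congrFun hφ (Sum.inl ⟨b, hbi⟩)
          have hne : (Sum.inl ⟨b, hbi⟩ : Fin i ⊕ Fin (n - i)) ≠ Sum.inl ⟨r, hri⟩ := fun e =>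
            hb (Fin.ext (by simpa [Fin.ext_iff] using e))
          rw [Pi.single_eq_of_ne hne] at this
          simp [A] at this
          rw [this, zero_mul]
        · rw [hv b (by omega), mul_zero]
      · exact fun hh => absurd (Finset.mem_univ r) hh
    have h2 : φ ⬝ᵥ v = 0 := by
      rw [← hgw, Matrix.dotProduct_mulVec]
      refine Finset.sum_eq_zero fun c _ => ?_
      by_cases hc : (c : ℕ) < n - i
      · have := congrFun hφ (Sum.inr ⟨c, hc⟩)
        rw [Pi.single_eq_of_ne (by simp)] at this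
        simp [A] at this
        rw [this, zero_mul]
      · rw [hw c (by omega), mul_zero]
    exact hr (h1 ▸ h2)
  have hfin : Module.finrank (ZMod 2) (Fin n → ZMod 2) =
      Module.finrank (ZMod 2) ((Fin i ⊕ Fin (n - i)) → ZMod 2) := by
    simp; omega
  have hninj : ¬ Function.Injective A := fun hc =>
    hnotsurj ((LinearMap.injective_iff_surjective_of_finrank_eq_finrank hfin).1 hc)
  rw [← LinearMap.ker_eq_bot] at hninj
  obtain ⟨φ, hφ, hφ0⟩ := Submodule.exists_mem_ne_zero_of_ne_bot hninj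
  rw [LinearMap.mem_ker] at hφ
  have hφl : ∀ r : Fin n, (r : ℕ) < i → φ r = 0 := fun r hr => by
    have := congrFun hφ (Sum.inl ⟨r, hr⟩); simpa [A] using this
  have hφr : ∀ c : Fin n, (c : ℕ) < n - i → (φ ᵥ* (g : Mn)) c = 0 := fun c hc => by
    have := congrFun hφ (Sum.inr ⟨c, hc⟩); simpa [A] using this
  -- the transvection
  have hup : (1 + vecMulVec v φ : Mn).IsUpperTriangular := by
    intro r c hrc
    replace hrc : c < r := hrc
    rw [Matrix.add_apply, vecMulVec_apply, Matrix.one_apply_ne hrc.ne', zero_add]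
    by_cases hr : i ≤ (r : ℕ)
    · rw [hv r hr, zero_mul]
    · rw [hφl c (by rw [Fin.lt_def] at hrc; omega), mul_zero]
  have hdiag : ∀ r, (1 + vecMulVec v φ : Mn) r r = 1 := fun r => by
    rw [Matrix.add_apply, vecMulVec_apply, Matrix.one_apply_eq]
    by_cases hr : i ≤ (r : ℕ)
    · rw [hv r hr, zero_mul, add_zero]
    · rw [hφl r (by omega), mul_zero, add_zero]
  obtain ⟨t, ht⟩ : ∃ t : SLn, (t : Mn) = 1 + vecMulVec v φ := ⟨⟨_, by
    rw [Matrix.det_of_isUpperTriangular hup]; exact Finset.prod_eq_one fun r _ => hdiag r⟩, rfl⟩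
  refine ⟨t, fun e => ?_, ⟨fun r c hrc => ?_, fun r => ?_⟩, ?_⟩
  · obtain ⟨r, hr⟩ : ∃ r : Fin n, v r ≠ 0 := by
      by_contra hc; push Not at hc; exact hv0 (funext hc)
    obtain ⟨c, hc⟩ : ∃ c : Fin n, φ c ≠ 0 := by
      by_contra hc; push Not at hc; exact hφ0 (funext hc)
    rw [e, Matrix.SpecialLinearGroup.coe_one, eq_comm, add_eq_left] at ht
    have := congrFun (congrFun ht r) c
    simp [vecMulVec_apply, hr, hc] at this
  · show (t : Mn) r c = 0
    rw [ht]; exact hup hrc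
  · show (t : Mn) r r = 1
    rw [ht]; exact hdiag r
  · have hm : ((g⁻¹ * t * g : SLn) : Mn) = 1 + vecMulVec w (φ ᵥ* (g : Mn)) := by
      rw [Matrix.SpecialLinearGroup.coe_mul, Matrix.SpecialLinearGroup.coe_mul, ht, mul_add,
        add_mul, mul_one, ← Matrix.SpecialLinearGroup.coe_mul, inv_mul_cancel,
        Matrix.SpecialLinearGroup.coe_one, Matrix.mul_vecMulVec, Matrix.vecMulVec_mul, hwdef]
    refine mem_unip_of_upper fun r c hrc => ?_
    show ((g⁻¹ * t * g : SLn) : Mn) r c = 0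
    rw [hm, Matrix.add_apply, vecMulVec_apply, Matrix.one_apply_ne hrc.ne', zero_add]
    by_cases hr : n - i ≤ (r : ℕ)
    · rw [hw r hr, zero_mul]
    · rw [hφr c (by rw [Fin.lt_def] at hrc; omega), mul_zero]

/-- The antidiagonal matrix. -/
def w0Mat (n : ℕ) : Matrix (Fin n) (Fin n) (ZMod 2) :=
  fun r c => if r = c.rev then 1 else 0

theorem mul_w0Mat (A : Mn) (r c : Fin n) : (A * w0Mat n) r c = A r c.rev := by
  simp [Matrix.mul_apply, w0Mat]

theorem w0Mat_det : (w0Mat n).det = 1 := by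
  refine eq_one_of_mul_self _ ?_
  rw [← Matrix.det_mul, show w0Mat n * w0Mat n = (1 : Mn) from ?_, Matrix.det_one]
  ext r c
  rw [mul_w0Mat, Matrix.one_apply, w0Mat, Fin.rev_rev]

/-- The antidiagonal element. -/
def w0 (n : ℕ) : Matrix.SpecialLinearGroup (Fin n) (ZMod 2) := ⟨w0Mat n, w0Mat_det⟩

theorem exists_factor {g : SLn} (h : ∀ i, Opp g i) :
    ∃ v : unip (ZMod 2) n, ∀ a : SLn,
      g⁻¹ * a * g ∈ unip (ZMod 2) n ↔
        ((v : SLn) * w0 n)⁻¹ * a * ((v : SLn) * w0 n) ∈ unip (ZMod 2) n := by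
  have hex : ∀ j : Fin n, ∃ x : Fin n → ZMod 2, x ≠ 0 ∧ (∀ r : Fin n, (j : ℕ) < r → x r = 0) ∧
      ∀ r : Fin n, n - j ≤ r → (((g⁻¹ : SLn) : Mn) *ᵥ x) r = 0 := by
    intro j
    let A : (Fin n → ZMod 2) →ₗ[ZMod 2] ((Fin (n - 1 - j) ⊕ Fin (j : ℕ)) → ZMod 2) :=
      LinearMap.pi fun x => x.elim
        (fun r : Fin (n - 1 - j) => LinearMap.proj (⟨(j : ℕ) + 1 + r, by omega⟩ : Fin n))
        (fun r : Fin (j : ℕ) => (LinearMap.proj (⟨n - j + r, by omega⟩ : Fin n)).comp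
          ((g⁻¹ : SLn) : Mn).mulVecLin)
    have hk : LinearMap.ker A ≠ ⊥ := LinearMap.ker_ne_bot_of_finrank_lt (by simp; omega)
    obtain ⟨x, hx, hx0⟩ := Submodule.exists_mem_ne_zero_of_ne_bot hk
    rw [LinearMap.mem_ker] at hx
    refine ⟨x, hx0, fun r hr => ?_, fun r hr => ?_⟩
    · have h1 := congrFun hx (Sum.inl ⟨(r : ℕ) - (j + 1), by omega⟩)
      have e : (⟨(j : ℕ) + 1 + ((r : ℕ) - (j + 1)), by omega⟩ : Fin n) = r :=
        Fin.ext (by simp; omega)
      simp [A] at h1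
      rwa [e] at h1
    · have h1 := congrFun hx (Sum.inr ⟨(r : ℕ) - (n - j), by omega⟩)
      have e : (⟨n - (j : ℕ) + ((r : ℕ) - (n - j)), by omega⟩ : Fin n) = r :=
        Fin.ext (by simp; omega)
      simp [A] at h1
      rwa [e] at h1
  choose x hx0 hx1 hx2 using hex
  have hdiag : ∀ j, x j j = 1 := fun j => eq_one_of_ne_zero _ fun e => hx0 j (h j (x j)
    (fun r hr => by
      rcases hr.eq_or_lt with hh | hh
      · rw [show r = j from Fin.ext hh.symm]; exact e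
      · exact hx1 j r hh) (hx2 j))
  let X : Mn := fun r c => x c r
  have hup : X.IsUpperTriangular := fun r c hrc => hx1 c r hrc
  obtain ⟨u, hu⟩ : ∃ u : SLn, (u : Mn) = X := ⟨⟨X, by
    rw [Matrix.det_of_isUpperTriangular hup]; exact Finset.prod_eq_one fun r _ => hdiag r⟩, rfl⟩
  have huU : u ∈ unip (ZMod 2) n := by
    refine mem_unip_of_upper fun r c hrc => ?_
    show (u : Mn) r c = 0
    rw [hu]; exact hup hrc
  have hb : g⁻¹ * (u * w0 n) ∈ unip (ZMod 2) n := by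
    refine mem_unip_of_upper fun r c hrc => ?_
    show ((g⁻¹ * (u * w0 n) : SLn) : Mn) r c = 0
    rw [← mul_assoc, Matrix.SpecialLinearGroup.coe_mul]
    show (((g⁻¹ * u : SLn) : Mn) * w0Mat n) r c = 0
    rw [mul_w0Mat, Matrix.SpecialLinearGroup.coe_mul, hu]
    have := hx2 c.rev r (by rw [Fin.lt_def] at hrc; simp [Fin.val_rev]; omega)
    exact this
  refine ⟨⟨u, huU⟩, fun a => ?_⟩
  show _ ↔ (u * w0 n)⁻¹ * a * (u * w0 n) ∈ unip (ZMod 2) n
  rw [show (u * w0 n)⁻¹ * a * (u * w0 n) =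
    (g⁻¹ * (u * w0 n))⁻¹ * (g⁻¹ * a * g) * (g⁻¹ * (u * w0 n)) by group,
    Subgroup.mul_mem_cancel_right _ hb, Subgroup.mul_mem_cancel_left _ (inv_mem hb)]

theorem disjoint_factor (g : SLn)
    (h : ∀ u ∈ unip (ZMod 2) n, g⁻¹ * u * g ∈ unip (ZMod 2) n → u = 1) :
    ∃ v : unip (ZMod 2) n, ∀ a : SLn,
      g⁻¹ * a * g ∈ unip (ZMod 2) n ↔
        ((v : SLn) * w0 n)⁻¹ * a * ((v : SLn) * w0 n) ∈ unip (ZMod 2) n := by
  refine exists_factor fun i => ?_
  by_contra hi
  obtain ⟨t, ht1, ht, ht'⟩ := exists_transvection hi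
  exact ht1 (h t ht ht')

end Cfsg.Agent.Fus.SLFlagOpposite
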