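import Cfsg.Agent.Lib.Fus.SLSylowTwoBlocks
import Cfsg.Agent.Lib.Fus.SympSylowTwo

/-!
Sylow 2-subgroups of `SL (n, q)`, `q` odd, whose squares lie in the derived subgroup.
-/

set_option autoImplicit false
set_option linter.unusedSectionVars false
set_option linter.style.haveILetI false

namespace Cfsg.Agent.Fus.SLSylowTwo

open Cfsg.Agent.Fus.PermWreath
open Matrix

variable {F : Type*} [Field F] [Fintype F] [DecidableEq F]
  (S : Sylow 2 (GL (Fin 2) F)) (C : Sylow 2 Fˣ) (Q : Sylow 2 (Matrix.SpecialLinearGroup (Fin 2) F))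
  (hd : ∀ c ∈ C, dOne c ∈ S) (hdet : ∀ x ∈ S, Matrix.GeneralLinearGroup.det x ∈ C)
  (hQ : ∀ q : Matrix.SpecialLinearGroup (Fin 2) F, q ∈ Q ↔ Matrix.SpecialLinearGroup.toGL q ∈ S)

local notation "S'" => (S : Subgroup (GL (Fin 2) F))

variable {m : ℕ}

/-- Forgetting the Sylow subgroup. -/
def incl : PW (↥S') (Fin m) →* PW (GL (Fin 2) F) (Fin m) where
  toFun x := ⟨fun i => (x.left i : GL (Fin 2) F), x.right⟩
  map_one' := rfl
  map_mul' _ _ := rfl

instance finite_pw : Finite (PW (↥S') (Fin m)) :=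
  Finite.of_equiv _ SemidirectProduct.equivProd.symm

theorem incl_injective : Function.Injective (incl S (m := m)) := fun x y h =>
  SemidirectProduct.ext (funext fun i => Subtype.ext (congrFun (congrArg SemidirectProduct.left h) i))
    (congrArg SemidirectProduct.right h :)

include hd in
/-- The diagonal elements inside `S`. -/
def dS : (C : Subgroup Fˣ) →* ↥S' :=
  ((dOne (F := F)).comp (C : Subgroup Fˣ).subtype).codRestrict S' fun c => hd c c.2

include hQ in
/-- The part of determinant one inside `S`. -/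
def qS : (Q : Subgroup (Matrix.SpecialLinearGroup (Fin 2) F)) →* ↥S' :=
  ((Matrix.SpecialLinearGroup.toGL).comp (Q : Subgroup _).subtype).codRestrict S' fun q => (hQ q).1 q.2

include hd hdet hQ in
theorem S_decomp (x : ↥S') : ∃ (c : (C : Subgroup Fˣ)) (q : (Q : Subgroup (Matrix.SpecialLinearGroup (Fin 2) F))),
    (c : Fˣ) = Matrix.GeneralLinearGroup.det (x : GL (Fin 2) F) ∧ x = dS S C hd c * qS S Q hQ q := by
  obtain ⟨c, hc⟩ : ∃ c : (C : Subgroup Fˣ), (c : Fˣ) = Matrix.GeneralLinearGroup.det (x : GL (Fin 2) F) :=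
    ⟨⟨_, hdet _ x.2⟩, rfl⟩
  set y : GL (Fin 2) F := (((dS S C hd c)⁻¹ * x : ↥S') : GL (Fin 2) F)
  have hy : (y : Matrix (Fin 2) (Fin 2) F).det = 1 := by
    have h : Matrix.GeneralLinearGroup.det y = 1 := by
      show Matrix.GeneralLinearGroup.det ((dOne (c : Fˣ))⁻¹ * (x : GL (Fin 2) F)) = 1
      rw [map_mul, map_inv, det_dOne, hc, inv_mul_cancel]
    exact congrArg Units.val h
  have e : Matrix.SpecialLinearGroup.toGL (⟨(y : Matrix (Fin 2) (Fin 2) F), hy⟩ : Matrix.SpecialLinearGroup (Fin 2) F) = y :=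
    Units.ext rfl
  refine ⟨c, ⟨⟨(y : Matrix (Fin 2) (Fin 2) F), hy⟩, (hQ _).2 ?_⟩, hc, ?_⟩
  · rw [e]; exact Subtype.coe_prop _
  · have e' : qS S Q hQ ⟨⟨(y : Matrix (Fin 2) (Fin 2) F), hy⟩, (hQ _).2 (by rw [e]; exact Subtype.coe_prop _)⟩ =
        (dS S C hd c)⁻¹ * x := Subtype.ext e
    rw [e', mul_inv_cancel_left]

include hd hdet hQ in
/-- `S` itself, when the 2-part of `F*` has exponent two. -/
theorem sq_S (hQsq : Sq (Q : Subgroup (Matrix.SpecialLinearGroup (Fin 2) F)))
    (hC2 : ∀ c : (C : Subgroup Fˣ), c ^ 2 = 1) : Sq ↥S' := by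
  refine Sq.of_closure rfl (Set.range (dS S C hd) ∪ Set.range (qS S Q hQ)) (fun x _ => ?_) ?_
  · obtain ⟨c, q, -, rfl⟩ := S_decomp S C Q hd hdet hQ x
    exact mul_mem (Subgroup.subset_closure (Or.inl ⟨c, rfl⟩)) (Subgroup.subset_closure (Or.inr ⟨q, rfl⟩))
  · rintro _ (⟨c, rfl⟩ | ⟨q, rfl⟩)
    · rw [← map_pow, hC2, map_one]; exact one_mem _
    · exact hQsq.map_mem _ q

/-- The elements of determinant one over `T`. -/
def detOne (T : Subgroup (Equiv.Perm (Fin m))) : Subgroup (PW (↥S') (Fin m)) :=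
  overGrp T ⊓ (bDet.comp (incl S)).ker

theorem bDet_one_of (x : PW (↥S') (Fin m))
    (h : ∀ i, Matrix.GeneralLinearGroup.det (x.left i : GL (Fin 2) F) = 1) : x ∈ (bDet.comp (incl S)).ker :=
  MonoidHom.mem_ker.2 (by
    show (∏ i, Matrix.GeneralLinearGroup.det (x.left i : GL (Fin 2) F)) = 1
    exact Finset.prod_eq_one fun i _ => h i)

theorem bDet_inl_dS (f : Fin m → (C : Subgroup Fˣ)) :
    bDet (incl S (SemidirectProduct.inl fun i => dS S C hd (f i))) = ((∏ i, f i : (C : Subgroup Fˣ)) : Fˣ) := by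
  show ∏ i, Matrix.GeneralLinearGroup.det (dOne (f i : Fˣ)) = _
  simp [det_dOne]

include hd hdet hQ in
theorem sq_detOne [NeZero m] (hQsq : Sq (Q : Subgroup (Matrix.SpecialLinearGroup (Fin 2) F)))
    (T : Subgroup (Equiv.Perm (Fin m))) (hT : Sq T)
    (hcase : (∀ c : (C : Subgroup Fˣ), c ^ 2 = 1) ∨ ∀ i : Fin m, ∃ t ∈ T, t 0 = i) :
    Sq (detOne S T) := by
  set K := detOne S T
  have hrightmem : ∀ f : Fin m → ↥S', (SemidirectProduct.inl f : PW (↥S') (Fin m)) ∈ overGrp T := fun f => by
    show SemidirectProduct.rightHom _ ∈ T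
    rw [SemidirectProduct.rightHom_inl]; exact T.one_mem
  let top : T →* K := ((SemidirectProduct.inr : Equiv.Perm (Fin m) →* PW (↥S') (Fin m)).comp T.subtype).codRestrict K
    fun t => ⟨by show SemidirectProduct.rightHom _ ∈ T; rw [MonoidHom.comp_apply, SemidirectProduct.rightHom_inr]; exact t.2,
      bDet_one_of S _ fun i => map_one _⟩
  let sq : (i : Fin m) → (Q : Subgroup (Matrix.SpecialLinearGroup (Fin 2) F)) →* K := fun i =>
    ((SemidirectProduct.inl : (Fin m → ↥S') →* PW (↥S') (Fin m)).comp ((MonoidHom.mulSingle _ i).comp (qS S Q hQ))).codRestrict K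
      fun q => ⟨hrightmem _, bDet_one_of S _ fun j => by
        show Matrix.GeneralLinearGroup.det ((Pi.mulSingle i (qS S Q hQ q) : Fin m → ↥S') j : GL (Fin 2) F) = 1
        rcases eq_or_ne j i with rfl | hne
        · rw [Pi.mulSingle_eq_same]; exact Units.ext q.1.2
        · rw [Pi.mulSingle_eq_of_ne hne]; exact map_one _⟩
  let dPi : (Fin m → (C : Subgroup Fˣ)) →* (Fin m → ↥S') :=
    { toFun := fun f i => dS S C hd (f i), map_one' := funext fun i => map_one _,
      map_mul' := fun f g => funext fun i => map_mul _ _ _ }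
  let η : (Fin m → (C : Subgroup Fˣ)) →* (Fin m → (C : Subgroup Fˣ)) :=
    { toFun := fun f => f * (Pi.mulSingle 0 (∏ i, f i))⁻¹
      map_one' := by simp
      map_mul' := fun f g => by
        simp only [Pi.mul_apply, Finset.prod_mul_distrib, Pi.mulSingle_mul, mul_inv]
        ac_rfl }
  have hη : ∀ f, ∏ i, η f i = 1 := fun f => by
    show ∏ i, (f i * ((Pi.mulSingle 0 (∏ i, f i) : Fin m → (C : Subgroup Fˣ))⁻¹ i)) = 1
    rw [Finset.prod_mul_distrib]
    simp only [Pi.inv_apply, Finset.prod_inv_distrib]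
    rw [Finset.prod_pi_mulSingle', if_pos (Finset.mem_univ _), mul_inv_cancel]
  let ψ : (Fin m → (C : Subgroup Fˣ)) →* K :=
    ((SemidirectProduct.inl : (Fin m → ↥S') →* PW (↥S') (Fin m)).comp (dPi.comp η)).codRestrict K fun f =>
      ⟨hrightmem _, by
        show bDet (incl S (SemidirectProduct.inl fun i => dS S C hd (η f i))) = 1
        rw [bDet_inl_dS, hη]; rfl⟩
  refine Sq.of_closure rfl ((Set.range top ∪ ⋃ i, Set.range (sq i)) ∪ ⋃ i, Set.range fun c => ψ (Pi.mulSingle i c))
    (fun x _ => ?_) ?_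
  · set L := Subgroup.closure ((Set.range top ∪ ⋃ i, Set.range (sq i)) ∪ ⋃ i, Set.range fun c => ψ (Pi.mulSingle i c))
    choose c q hc hx using fun i => S_decomp S C Q hd hdet hQ (x.1.left i)
    have hprod : ∏ i, c i = 1 := Subtype.ext (by
      have h : (∏ i, Matrix.GeneralLinearGroup.det (x.1.left i : GL (Fin 2) F)) = 1 := x.2.2
      rw [Subgroup.val_finsetProd, Finset.prod_congr rfl fun i _ => hc i]
      exact h)
    let qPi : (Fin m → (Q : Subgroup (Matrix.SpecialLinearGroup (Fin 2) F))) →* K :=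
      ((SemidirectProduct.inl : (Fin m → ↥S') →* PW (↥S') (Fin m)).comp
        ({ toFun := fun f i => qS S Q hQ (f i), map_one' := funext fun i => map_one _,
           map_mul' := fun f g => funext fun i => map_mul _ _ _ } :
          (Fin m → (Q : Subgroup (Matrix.SpecialLinearGroup (Fin 2) F))) →* (Fin m → ↥S'))).codRestrict K
        fun f => ⟨hrightmem _, bDet_one_of S _ fun j => Units.ext (f j).1.2⟩
    have h1 : c ∈ L.comap ψ := Subgroup.pi_mem_of_mulSingle_mem c fun i =>
      Subgroup.subset_closure (Or.inr (Set.mem_iUnion.2 ⟨i, c i, rfl⟩))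
    have h2 : q ∈ L.comap qPi := Subgroup.pi_mem_of_mulSingle_mem q fun i => by
      have e : qPi (Pi.mulSingle i (q i)) = sq i (q i) := Subtype.ext (congrArg SemidirectProduct.inl (funext fun j =>
        Pi.apply_mulSingle (fun _ => qS S Q hQ) (fun _ => map_one _) i (q i) j))
      rw [Subgroup.mem_comap, e]
      exact Subgroup.subset_closure (Or.inl (Or.inr (Set.mem_iUnion.2 ⟨i, q i, rfl⟩)))
    have ex : x = ψ c * qPi q * top ⟨x.1.right, x.2.1⟩ := by
      refine Subtype.ext ?_
      have hη1 : η c = c := by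
        show c * _ = c
        rw [hprod, Pi.mulSingle_one, inv_one, mul_one]
      show x.1 = SemidirectProduct.inl (dPi (η c)) * SemidirectProduct.inl _ * SemidirectProduct.inr x.1.right
      rw [hη1, ← map_mul]
      conv_lhs => rw [← SemidirectProduct.inl_left_mul_inr_right x.1]
      congr 2
      exact funext fun i => hx i
    rw [ex]
    exact mul_mem (mul_mem h1 h2) (Subgroup.subset_closure (Or.inl (Or.inl ⟨_, rfl⟩)))
  · rintro y ((⟨t, rfl⟩ | hy) | hy)
    · exact hT.map_mem top t
    · obtain ⟨i, q, rfl⟩ := Set.mem_iUnion.1 hy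
      exact hQsq.map_mem (sq i) q
    obtain ⟨i, c, rfl⟩ := Set.mem_iUnion.1 hy
    rcases hcase with hC2 | htr
    · show ψ (Pi.mulSingle i c) ^ 2 ∈ _
      rw [← map_pow, ← Pi.mulSingle_pow, hC2, Pi.mulSingle_one, map_one]
      exact one_mem _
    -- conjugation by the diagonal element at `0`
    obtain ⟨t, ht, rfl⟩ := htr i
    set e : PW (↥S') (Fin m) := SemidirectProduct.inl (dPi (Pi.mulSingle 0 c))
    have he : ∀ k : K, e * k.1 * e⁻¹ ∈ K := fun k =>
      ⟨mul_mem (mul_mem (hrightmem _) k.2.1) ((overGrp T).inv_mem (hrightmem _)),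
        (MonoidHom.normal_ker (bDet.comp (incl S))).conj_mem k.1 k.2.2 e⟩
    let φ : K →* K := ((MulAut.conj e).toMonoidHom.comp K.subtype).codRestrict K he
    let θ : K →* Abelianization K := Abelianization.of * (Abelianization.of.comp φ)⁻¹
    have hθ : θ (top ⟨t, ht⟩) = Abelianization.of (ψ (Pi.mulSingle (t 0) c)) := by
      show Abelianization.of (top ⟨t, ht⟩) * (Abelianization.of (φ (top ⟨t, ht⟩)))⁻¹ = _
      rw [← map_inv, ← map_mul]
      congr 1
      refine Subtype.ext ?_
      show SemidirectProduct.inr t * (e * SemidirectProduct.inr t * e⁻¹)⁻¹ =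
        SemidirectProduct.inl (dPi (η (Pi.mulSingle (t 0) c)))
      have hperm : permAct t (dPi (Pi.mulSingle 0 c)) = dPi (Pi.mulSingle (t 0) c) := funext fun j => by
        show dS S C hd ((Pi.mulSingle 0 c : Fin m → (C : Subgroup Fˣ)) (t.symm j)) =
          dS S C hd ((Pi.mulSingle (t 0) c : Fin m → (C : Subgroup Fˣ)) j)
        by_cases h : j = t 0
        · subst h; simp
        · rw [Pi.mulSingle_eq_of_ne h, Pi.mulSingle_eq_of_ne (fun h' => h (by rw [← h', Equiv.apply_symm_apply]))]
      calc SemidirectProduct.inr t * (e * SemidirectProduct.inr t * e⁻¹)⁻¹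
          = SemidirectProduct.inr t * e * (SemidirectProduct.inr t)⁻¹ * e⁻¹ := by group
        _ = SemidirectProduct.inl (permAct t (dPi (Pi.mulSingle 0 c))) * e⁻¹ := by
            rw [SemidirectProduct.inl_aut, map_inv]
        _ = _ := by
            rw [hperm, ← map_inv, ← map_mul, ← map_inv dPi, ← map_mul]
            congr 2
            show _ = (Pi.mulSingle (t 0) c : Fin m → (C : Subgroup Fˣ)) * (Pi.mulSingle 0 (∏ i, (Pi.mulSingle (t 0) c : Fin m → (C : Subgroup Fˣ)) i))⁻¹
            rw [Finset.prod_pi_mulSingle', if_pos (Finset.mem_univ _)]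
    show ψ (Pi.mulSingle (t 0) c) ^ 2 ∈ _
    have hker : (top ⟨t, ht⟩) ^ 2 ∈ θ.ker := Abelianization.commutator_subset_ker θ (hT.map_mem top ⟨t, ht⟩)
    rw [MonoidHom.mem_ker, map_pow, hθ, ← map_pow] at hker
    rwa [← Abelianization.ker_of, MonoidHom.mem_ker]

/-- The even-dimensional embedding. -/
noncomputable def evenHom (T : Subgroup (Equiv.Perm (Fin m))) :
    detOne S T →* Matrix.SpecialLinearGroup (Fin (2 * m)) F where
  toFun x := ⟨Matrix.reindexAlgEquiv F F finProdFinEquiv (bMat (incl S x.1)), by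
    rw [Matrix.det_reindexAlgEquiv, det_bMat]
    exact congrArg Units.val (MonoidHom.mem_ker.1 x.2.2)⟩
  map_one' := Subtype.ext (by simp [bMat_one])
  map_mul' x y := Subtype.ext (by
    show Matrix.reindexAlgEquiv F F finProdFinEquiv (bMat (incl S (x.1 * y.1))) = _
    rw [map_mul, bMat_mul, map_mul]
    rfl)

theorem evenHom_injective (T : Subgroup (Equiv.Perm (Fin m))) : Function.Injective (evenHom S T) := fun x y h =>
  Subtype.ext (incl_injective S (bMat_injective
    ((Matrix.reindexAlgEquiv F F finProdFinEquiv).injective (congrArg Subtype.val h))))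

/-- The odd-dimensional embedding. -/
noncomputable def oddHom (T : Subgroup (Equiv.Perm (Fin m))) :
    overGrp (Q := ↥S') T →* Matrix.SpecialLinearGroup (Fin (2 * m + 1)) F where
  toFun x := ⟨Matrix.reindexAlgEquiv F F ((finProdFinEquiv.sumCongr (Equiv.refl (Fin 1))).trans finSumFinEquiv)
      (Matrix.fromBlocks (bMat (incl S x.1)) 0 0 (Matrix.diagonal fun _ => ((bDet (incl S x.1))⁻¹ : Fˣ))), by
    rw [Matrix.det_reindexAlgEquiv, Matrix.det_fromBlocks_zero₂₁, det_bMat, Matrix.det_diagonal]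
    simp⟩
  map_one' := Subtype.ext (by
    show Matrix.reindexAlgEquiv F F _ (Matrix.fromBlocks (bMat (incl S (1 : PW (↥S') (Fin m)))) 0 0
      (Matrix.diagonal fun _ => ((bDet (incl S (1 : PW (↥S') (Fin m))))⁻¹ : Fˣ))) = 1
    rw [map_one, bMat_one, map_one, inv_one, Units.val_one, Matrix.diagonal_one, Matrix.fromBlocks_one, map_one])
  map_mul' x y := Subtype.ext (by
    show _ = Matrix.reindexAlgEquiv F F _ _ * Matrix.reindexAlgEquiv F F _ _
    rw [← map_mul, Matrix.fromBlocks_multiply]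
    show Matrix.reindexAlgEquiv F F _ (Matrix.fromBlocks (bMat (incl S (x.1 * y.1))) 0 0
      (Matrix.diagonal fun _ => ((bDet (incl S (x.1 * y.1)))⁻¹ : Fˣ))) = _
    rw [map_mul, bMat_mul, map_mul]
    congr 1
    simp only [Matrix.zero_mul, Matrix.mul_zero, add_zero, zero_add, Matrix.diagonal_mul_diagonal, mul_inv, Units.val_mul])

theorem oddHom_injective (T : Subgroup (Equiv.Perm (Fin m))) : Function.Injective (oddHom S T) := fun x y h =>
  Subtype.ext (incl_injective S (bMat_injective
    (Matrix.fromBlocks_inj.1 ((Matrix.reindexAlgEquiv F F _).injective (congrArg Subtype.val h))).1))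

theorem sq_of_embedding {A : Type*} [Group A] [Finite A] {k : ℕ}
    (f : A →* Matrix.SpecialLinearGroup (Fin k) F) (hf : Function.Injective f) (hA : Sq A) (hA2 : IsPGroup 2 A)
    (hcard : 2 ^ (Nat.card (Matrix.SpecialLinearGroup (Fin k) F)).factorization 2 ≤ Nat.card A)
    (P : Sylow 2 (Matrix.SpecialLinearGroup (Fin k) F)) :
    Sq (P : Subgroup (Matrix.SpecialLinearGroup (Fin k) F)) := by
  haveI : Fact (Nat.Prime 2) := ⟨Nat.prime_two⟩
  obtain ⟨R, hR⟩ := (hA2.of_surjective f.rangeRestrict f.rangeRestrict_surjective).exists_le_sylow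
  have hcard' : Nat.card R ≤ Nat.card f.range := by
    rw [← Nat.card_congr (MonoidHom.ofInjective hf).toEquiv, R.card_eq_multiplicity]
    exact hcard
  have hRA : f.range = (R : Subgroup _) := Subgroup.eq_of_le_of_card_ge hR hcard'
  let g := (Sylow.equiv R P).toMonoidHom.comp ((MulEquiv.subgroupCongr hRA).toMonoidHom.comp f.rangeRestrict)
  exact hA.of_surjective g ((Sylow.equiv R P).surjective.comp
    ((MulEquiv.subgroupCongr hRA).surjective.comp f.rangeRestrict_surjective))

theorem card_facts (hodd : Odd (Fintype.card F)) (T : Sylow 2 (Equiv.Perm (Fin m))) (r : ℕ) (hr : r ≤ 1) (hm : 1 ≤ m) :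
    (Nat.card (Matrix.SpecialLinearGroup (Fin (2 * m + r)) F)).factorization 2 + padicValNat 2 (Fintype.card F - 1) =
        r * padicValNat 2 (Fintype.card F - 1) + (Nat.card (GL (Fin 2) F)).factorization 2 * m + padicValNat 2 m.factorial ∧
      Nat.card (overGrp (Q := ↥S') (T : Subgroup (Equiv.Perm (Fin m)))) =
        2 ^ ((Nat.card (GL (Fin 2) F)).factorization 2 * m + padicValNat 2 m.factorial) := by
  haveI : Fact (Nat.Prime 2) := ⟨Nat.prime_two⟩
  refine ⟨?_, ?_⟩
  · have h : (Nat.card (GL (Fin (2 * m + r)) F)).factorization 2 =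
        (Nat.card (Matrix.SpecialLinearGroup (Fin (2 * m + r)) F)).factorization 2 +
          padicValNat 2 (Fintype.card F - 1) := by
      rw [Classical.natCard_GL_eq_SL_mul _ (by omega), Classical.natCard_units_field,
        Nat.factorization_mul (by have := Fintype.one_lt_card (α := F); omega) Nat.card_pos.ne', Finsupp.add_apply,
        add_comm, ← Nat.factorization_def _ Nat.prime_two]
    rw [← h, Nat.factorization_def _ Nat.prime_two, Nat.factorization_def _ Nat.prime_two,
      Lie.GLWreath.padicValNat_card_GL hodd, Lie.GLWreath.padicValNat_card_GL hodd,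
      show (2 * m + r) / 2 = m by omega, show (2 : ℕ) / 2 = 1 by rfl, Nat.factorial_one]
    simp
    ring
  · rw [card_over, S.card_eq_multiplicity, T.card_eq_multiplicity, Nat.card_perm, Nat.card_fin,
      Nat.factorization_def m.factorial Nat.prime_two, ← pow_mul, ← pow_add]

/-- Even dimension. -/
theorem sq_sylow_even (hodd : Odd (Fintype.card F)) (hm : 1 ≤ m)
    (hq : 4 ∣ Fintype.card F + 1 ∨ ∃ j : ℕ, m = 2 ^ j) (P : Sylow 2 (Matrix.SpecialLinearGroup (Fin (2 * m)) F)) :
    Sq (P : Subgroup (Matrix.SpecialLinearGroup (Fin (2 * m)) F)) := by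
  haveI : Fact (Nat.Prime 2) := ⟨Nat.prime_two⟩
  haveI : NeZero m := ⟨by omega⟩
  obtain ⟨S, C, Q, hd, hdet, hQ, hC⟩ := exists_sylow_shape (F := F)
  obtain ⟨T⟩ : Nonempty (Sylow 2 (Equiv.Perm (Fin m))) := inferInstance
  have hcase : (∀ c : (C : Subgroup Fˣ), c ^ 2 = 1) ∨ ∀ i : Fin m, ∃ t ∈ (T : Subgroup (Equiv.Perm (Fin m))), t 0 = i := by
    rcases hq with h4 | ⟨j, hj⟩
    · left
      intro c
      have hv : padicValNat 2 (Fintype.card F - 1) ≤ 1 := by
        by_contra hlt
        have h := (pow_dvd_pow 2 (show 2 ≤ padicValNat 2 (Fintype.card F - 1) by omega)).trans pow_padicValNat_dvd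
        have := Fintype.one_lt_card (α := F)
        omega
      have hdvd : Nat.card C ∣ 2 := by
        rw [hC]
        exact (pow_dvd_pow 2 hv).trans (by norm_num)
      exact orderOf_dvd_iff_pow_eq_one.1 ((orderOf_dvd_natCard c).trans hdvd)
    · right
      subst hj
      -- the orbit of `0` is everything
      set T' := (T : Subgroup (Equiv.Perm (Fin (2 ^ j))))
      have hst : IsPGroup 2 (MulAction.stabilizer T' (0 : Fin (2 ^ j))) := T.isPGroup'.to_subgroup _
      obtain ⟨a, ha⟩ := IsPGroup.iff_card.1 hst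
      obtain ⟨b, hb⟩ := T.isPGroup'.card_orbit (0 : Fin (2 ^ j))
      have hbij : b ≤ j := by
        rw [← Nat.pow_le_pow_iff_right (show 1 < 2 by norm_num), ← hb]
        exact (Finite.card_subtype_le _).trans (le_of_eq (Nat.card_fin _))
      have hmul : Nat.card (MulAction.orbit T' (0 : Fin (2 ^ j))) * Nat.card (MulAction.stabilizer T' (0 : Fin (2 ^ j))) =
          Nat.card T' := by
        rw [← Nat.card_prod]; exact Nat.card_congr (MulAction.orbitProdStabilizerEquivGroup _ _)
      have hle : a ≤ padicValNat 2 (2 ^ j - 1).factorial := by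
        have h1 : 2 ^ a ∣ Nat.card (MulAction.stabilizer (Equiv.Perm (Fin (2 ^ j))) (0 : Fin (2 ^ j))) := by
          rw [← ha]
          let f : MulAction.stabilizer T' (0 : Fin (2 ^ j)) →* MulAction.stabilizer (Equiv.Perm (Fin (2 ^ j))) (0 : Fin (2 ^ j)) :=
            { toFun := fun x => ⟨(x.1 : Equiv.Perm (Fin (2 ^ j))), x.2⟩, map_one' := rfl, map_mul' := fun _ _ => rfl }
          exact Subgroup.card_dvd_of_injective f fun x y h => Subtype.ext (Subtype.ext (congrArg
            (fun z : MulAction.stabilizer (Equiv.Perm (Fin (2 ^ j))) (0 : Fin (2 ^ j)) => z.1) h :))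
        have hcard : Nat.card (MulAction.stabilizer (Equiv.Perm (Fin (2 ^ j))) (0 : Fin (2 ^ j))) = (2 ^ j - 1).factorial := by
          have h := Subgroup.index_mul_card (MulAction.stabilizer (Equiv.Perm (Fin (2 ^ j))) (0 : Fin (2 ^ j)))
          rw [MulAction.index_stabilizer_of_transitive, Nat.card_perm, Nat.card_fin,
            ← Nat.mul_factorial_pred (by positivity)] at h
          exact Nat.eq_of_mul_eq_mul_left (by positivity) h
        rw [hcard] at h1
        exact (padicValNat_dvd_iff_le (Nat.factorial_ne_zero _)).1 h1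
      have hv : padicValNat 2 (2 ^ j).factorial = j + padicValNat 2 (2 ^ j - 1).factorial := by
        rw [← Nat.mul_factorial_pred (show 2 ^ j ≠ 0 by positivity), padicValNat.mul (by positivity) (Nat.factorial_ne_zero _),
          padicValNat.prime_pow]
      rw [hb, ha, T.card_eq_multiplicity, Nat.card_perm, Nat.card_fin, Nat.factorization_def _ Nat.prime_two, ← pow_add] at hmul
      have := Nat.pow_right_injective (le_refl 2) hmul
      have huniv : MulAction.orbit T' (0 : Fin (2 ^ j)) = Set.univ := by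
        refine Set.eq_of_subset_of_ncard_le (Set.subset_univ _) ?_
        rw [Set.ncard_univ, ← Nat.card_coe_set_eq, hb, Nat.card_fin]
        exact Nat.pow_le_pow_right two_pos (by omega)
      intro i
      obtain ⟨t, ht⟩ : i ∈ MulAction.orbit T' (0 : Fin (2 ^ j)) := huniv ▸ Set.mem_univ i
      exact ⟨t.1, t.2, ht⟩
  have hQsq := (SympSylowTwo.sl_facts hodd Q).1
  obtain ⟨hv, hcard⟩ := card_facts S hodd T 0 (by omega) hm
  let W := overGrp (Q := ↥(S : Subgroup (GL (Fin 2) F))) (T : Subgroup (Equiv.Perm (Fin m)))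
  let δ : W →* (C : Subgroup Fˣ) := ((bDet.comp (incl S)).comp W.subtype).codRestrict (C : Subgroup Fˣ)
    fun x => Subgroup.prod_mem _ fun i _ => hdet _ (x.1.left i).2
  have hker : Nat.card (detOne S (T : Subgroup (Equiv.Perm (Fin m)))) = Nat.card δ.ker := Nat.card_congr
    { toFun := fun x => ⟨⟨x.1, x.2.1⟩, Subtype.ext x.2.2⟩
      invFun := fun x => ⟨x.1.1, x.1.2, congrArg Subtype.val x.2⟩
      left_inv := fun x => rfl
      right_inv := fun x => rfl }
  have hW2 : IsPGroup 2 W := IsPGroup.of_card hcard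
  refine sq_of_embedding (evenHom S _) (evenHom_injective S _)
    (sq_detOne S C Q hd hdet hQ hQsq _ (sq_perm_sylow T) hcase)
    (hW2.of_injective (Subgroup.inclusion inf_le_left) (Subgroup.inclusion_injective _)) ?_ P
  have h1 : Nat.card δ.ker * Nat.card δ.range = Nat.card W := by
    rw [← Subgroup.index_ker]; exact Subgroup.card_mul_index _
  have h2 : Nat.card δ.range ≤ 2 ^ padicValNat 2 (Fintype.card F - 1) := hC ▸ Subgroup.card_le_card_group _
  rw [hker]
  refine Nat.le_of_mul_le_mul_right ?_ (Nat.pos_of_ne_zero (pow_ne_zero (padicValNat 2 (Fintype.card F - 1)) two_ne_zero))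
  refine le_trans ?_ (Nat.mul_le_mul_left _ h2)
  rw [h1, ← pow_add, hcard]
  simp only [zero_mul, zero_add] at hv
  change (Nat.card (Matrix.SpecialLinearGroup (Fin (2 * m)) F)).factorization 2 + _ = _ at hv
  rw [hv]

/-- Odd dimension. -/
theorem sq_sylow_odd (hodd : Odd (Fintype.card F)) (hm : 1 ≤ m) (h4 : 4 ∣ Fintype.card F + 1)
    (P : Sylow 2 (Matrix.SpecialLinearGroup (Fin (2 * m + 1)) F)) :
    Sq (P : Subgroup (Matrix.SpecialLinearGroup (Fin (2 * m + 1)) F)) := by
  haveI : Fact (Nat.Prime 2) := ⟨Nat.prime_two⟩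
  obtain ⟨S, C, Q, hd, hdet, hQ, hC⟩ := exists_sylow_shape (F := F)
  obtain ⟨T⟩ : Nonempty (Sylow 2 (Equiv.Perm (Fin m))) := inferInstance
  have hC2 : ∀ c : (C : Subgroup Fˣ), c ^ 2 = 1 := fun c => by
    have hv : padicValNat 2 (Fintype.card F - 1) ≤ 1 := by
      by_contra hlt
      have h := (pow_dvd_pow 2 (show 2 ≤ padicValNat 2 (Fintype.card F - 1) by omega)).trans pow_padicValNat_dvd
      have := Fintype.one_lt_card (α := F)
      omega
    have hdvd : Nat.card C ∣ 2 := by
      rw [hC]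
      exact (pow_dvd_pow 2 hv).trans (by norm_num)
    exact orderOf_dvd_iff_pow_eq_one.1 ((orderOf_dvd_natCard c).trans hdvd)
  obtain ⟨hv, hcard⟩ := card_facts S hodd T 1 le_rfl hm
  refine sq_of_embedding (oddHom S _) (oddHom_injective S _)
    (sq_over (sq_S S C Q hd hdet hQ (SympSylowTwo.sl_facts hodd Q).1 hC2) _ (sq_perm_sylow T))
    (IsPGroup.of_card hcard) ?_ P
  rw [hcard]
  exact Nat.pow_le_pow_right two_pos (by omega)

end Cfsg.Agent.Fus.SLSylowTwo
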