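import Mathlib
import Cfsg.Agent.Lib.Block.SL2Char.SLFacts

/-!
Values of the characters of `SL(2, q)` induced from the Borel subgroup.
-/

set_option linter.unusedSectionVars false

namespace Cfsg.Agent.Fus.SLTwoInduced

open Cfsg.Agent.Block.SL2Char Matrix

universe u

variable {F : Type u} [Field F] [Fintype F] [DecidableEq F]

local notation "GG" => GL (Fin 2) F
local notation "SS" => Matrix.SpecialLinearGroup (Fin 2) F
local notation "tg" => (Matrix.SpecialLinearGroup.toGL : SS →* GG)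

theorem values (α : MulChar F ℂ) (g : SS) :
    let χ := Cfsg.indFun ((Cfsg.upperTriangularGL 2 F).comap Matrix.SpecialLinearGroup.toGL)
      (fun b => α (((b : SS) : Matrix (Fin 2) (Fin 2) F) 0 0))
    ((g : Matrix (Fin 2) (Fin 2) F) 0 1 = 0 → (g : Matrix (Fin 2) (Fin 2) F) 1 0 = 0 →
        (g : Matrix (Fin 2) (Fin 2) F) 0 0 ^ 2 ≠ 1 →
        χ g = α ((g : Matrix (Fin 2) (Fin 2) F) 0 0) + α ((g : Matrix (Fin 2) (Fin 2) F) 1 1)) ∧
    ((∀ (c : F) (v : Fin 2 → F), v ≠ 0 → (g : Matrix (Fin 2) (Fin 2) F).mulVec v ≠ c • v) →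
        χ g = 0) ∧
    ((g : Matrix (Fin 2) (Fin 2) F) 1 0 = 0 →
        (g : Matrix (Fin 2) (Fin 2) F) 0 0 = (g : Matrix (Fin 2) (Fin 2) F) 1 1 →
        (g : Matrix (Fin 2) (Fin 2) F) 0 1 ≠ 0 → χ g = α ((g : Matrix (Fin 2) (Fin 2) F) 0 0)) ∧
    ((g : Matrix (Fin 2) (Fin 2) F) 0 1 = 0 → (g : Matrix (Fin 2) (Fin 2) F) 1 0 = 0 →
        (g : Matrix (Fin 2) (Fin 2) F) 0 0 = (g : Matrix (Fin 2) (Fin 2) F) 1 1 →
        χ g = ((Fintype.card F : ℂ) + 1) * α ((g : Matrix (Fin 2) (Fin 2) F) 0 0)) := by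
  intro χ
  have hχ : χ g = vI α.toUnitHom 1 (tg g) := congrFun (indFun_S α) g
  obtain ⟨a, ha⟩ : ∃ a, a = (g : Matrix (Fin 2) (Fin 2) F) 0 0 := ⟨_, rfl⟩
  obtain ⟨b, hb⟩ : ∃ b, b = (g : Matrix (Fin 2) (Fin 2) F) 0 1 := ⟨_, rfl⟩
  obtain ⟨c, hc⟩ : ∃ c, c = (g : Matrix (Fin 2) (Fin 2) F) 1 0 := ⟨_, rfl⟩
  obtain ⟨d, hd⟩ : ∃ d, d = (g : Matrix (Fin 2) (Fin 2) F) 1 1 := ⟨_, rfl⟩
  rw [← ha, ← hb, ← hc, ← hd, hχ]
  have hdet : a * d - b * c = 1 := by
    have := g.2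
    rw [Matrix.det_fin_two] at this
    rw [ha, hb, hc, hd]; exact this
  have hg : ((tg g : GG) : Matrix (Fin 2) (Fin 2) F) = !![a, b; c, d] := by
    rw [ha, hb, hc, hd]
    exact Matrix.eta_fin_two _
  have hcv : ∀ x : Fˣ, cv α.toUnitHom x = α (x : F) := fun x => MulChar.coe_toUnitHom α x
  have hcv1 : ∀ x : Fˣ, cv (1 : Fˣ →* ℂˣ) x = 1 := fun x => by simp [cv]
  refine ⟨fun hb0 hc0 ha2 => ?_, fun hne => ?_, fun hc0 had hb0 => ?_, fun hb0 hc0 had => ?_⟩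
  · rw [hb0, zero_mul, sub_zero] at hdet
    have hxy : Units.mk0 a (left_ne_zero_of_mul_eq_one hdet) ≠
        Units.mk0 d (right_ne_zero_of_mul_eq_one hdet) := fun e => ha2 (by
      have e' : a = d := congrArg Units.val e
      rw [sq]; nth_rw 2 [e']
      exact hdet)
    have e : (tg g : GG) = di (Units.mk0 a (left_ne_zero_of_mul_eq_one hdet))
        (Units.mk0 d (right_ne_zero_of_mul_eq_one hdet)) :=
      Units.ext (by rw [hg, di_val, hb0, hc0]; rfl)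
    rw [e, vI_di _ _ hxy, hcv, hcv, hcv1, hcv1, mul_one, mul_one]
    rfl
  · refine Cfsg.Agent.Char.indFun_eq_zero_of_not_conj _ _ fun u hu => ?_
    exfalso
    rw [mem_BB] at hu
    obtain ⟨w, hw⟩ : ∃ w, w = (u : Matrix (Fin 2) (Fin 2) F) *ᵥ ![1, 0] := ⟨_, rfl⟩
    refine hne (((u⁻¹ * tg g * u : GG) : Matrix (Fin 2) (Fin 2) F) 0 0) w ?_ ?_
    · intro e
      have := congrArg ((u⁻¹ : GG) : Matrix (Fin 2) (Fin 2) F).mulVec e
      rw [hw, Matrix.mulVec_mulVec, ← Units.val_mul, inv_mul_cancel, Units.val_one,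
        Matrix.one_mulVec, Matrix.mulVec_zero] at this
      exact one_ne_zero (congrFun this 0)
    · have h1 : ((u⁻¹ * tg g * u : GG) : Matrix (Fin 2) (Fin 2) F) *ᵥ ![1, 0] =
          (((u⁻¹ * tg g * u : GG) : Matrix (Fin 2) (Fin 2) F) 0 0) • ![1, 0] := by
        generalize ((u⁻¹ * tg g * u : GG) : Matrix (Fin 2) (Fin 2) F) = M at hu ⊢
        funext i
        fin_cases i <;> simp [Matrix.mulVec, dotProduct, Fin.sum_univ_two, hu]
      rw [hw, ← Matrix.mulVec_smul, ← h1, Matrix.mulVec_mulVec, Matrix.mulVec_mulVec,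
        ← Units.val_mul, show u * (u⁻¹ * tg g * u) = tg g * u by group, Units.val_mul]
      rfl
  · subst had
    rw [hc0, mul_zero, sub_zero] at hdet
    obtain ⟨z, hz⟩ : ∃ z : Fˣ, z = Units.mk0 a (left_ne_zero_of_mul_eq_one hdet) := ⟨_, rfl⟩
    have e : (tg g : GG) = di (Units.mk0 b hb0) 1 * un z * (di (Units.mk0 b hb0) 1)⁻¹ := by
      rw [eq_mul_inv_iff_mul_eq]
      refine Units.ext ?_
      rw [Units.val_mul, Units.val_mul, hg, di_val, un_val, hz, hc0]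
      simp [mul_comm]
    rw [e, classFun_vI _ _ (un z), vI_un, hcv, hcv1, mul_one, hz]
    rfl
  · subst had
    rw [hb0, zero_mul, sub_zero] at hdet
    have e : (tg g : GG) = sc (Units.mk0 a (left_ne_zero_of_mul_eq_one hdet)) :=
      Units.ext (by rw [hg, sc_val, hb0, hc0]; rfl)
    rw [e, vI_sc, hcv, hcv1, mul_one]
    rfl

end Cfsg.Agent.Fus.SLTwoInduced
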