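import Cfsg.Agent.Lib.Block.SL2Char.SLFacts

/-!
Inner products of the characters of `SL(2, q)` induced from the Borel subgroup.
-/

set_option linter.unusedSectionVars false

namespace Cfsg.Agent.Fus.SLTwoMackey

open Cfsg.Agent.Block.SL2Char Matrix Finset
open scoped ComplexConjugate

universe u v

variable {F : Type u} [Field F] [Fintype F] [DecidableEq F]

local notation "GG" => GL (Fin 2) F
local notation "SS" => Matrix.SpecialLinearGroup (Fin 2) F
local notation "tg" => (Matrix.SpecialLinearGroup.toGL : SS →* GG)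

variable (K : Type v) [Field K] [Algebra F K] [Fintype K] [DecidableEq K]
  (hK : Module.finrank F K = 2)

include K hK in
theorem inner_vIS (a b : Fˣ →* ℂˣ) [Decidable (a = b)] [Decidable (a = b⁻¹)] :
    classInner (vIS a) (vIS b) = (if a = b then 1 else 0) + (if a = b⁻¹ then 1 else 0) := by
  classical
  rw [classInner]
  simp only [vIS, resS_apply]
  rw [sum_SS_eq K hK (f := fun g => vI a 1 g * conj (vI b 1 g))
    (fun g k => by simp only [classFun_vI a 1 g k, classFun_vI b 1 g k])]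
  have hsc : ∀ z ∈ (univ : Finset Fˣ).filter (fun z => z * z = 1),
      vI a 1 (sc z) * conj (vI b 1 (sc z)) =
        ((Fintype.card F : ℂ) + 1) ^ 2 * (cv a z * conj (cv b z)) := fun z _ => by
    simp only [vI_sc, cv_one_hom, mul_one, map_mul, map_add, map_natCast, map_one]
    ring
  have hun : ∀ z ∈ (univ : Finset Fˣ).filter (fun z => z * z = 1),
      vI a 1 (un z) * conj (vI b 1 (un z)) = cv a z * conj (cv b z) := fun z _ => by
    simp only [vI_un, cv_one_hom, mul_one]
  let k : Fˣ → ℂ := fun x =>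
    (cv a x + cv a x⁻¹) * (conj (cv b x) + conj (cv b x⁻¹))
  have hdi : ∀ x ∈ (univ : Finset Fˣ).filter (fun x => x ≠ x⁻¹),
      vI a 1 (di x x⁻¹) * conj (vI b 1 (di x x⁻¹)) = k x := fun x hx => by
    simp only [k, vI_di a 1 (mem_filter.1 hx).2, vI_di b 1 (mem_filter.1 hx).2, cv_one_hom,
      mul_one, map_add]
  rw [sum_congr rfl hsc, sum_congr rfl hun, sum_congr rfl hdi, ← mul_sum]
  have hell : ∀ l ∈ (outF (F := F) K).filter (fun l => l ^ (Fintype.card F + 1) = 1),
      vI a 1 (ell (F := F) K hK l) * conj (vI b 1 (ell (F := F) K hK l)) = 0 := fun l hl => by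
    simp only [vI_ell K hK a 1 ((mem_outF K).1 (mem_filter.1 hl).1), zero_mul]
  rw [sum_eq_zero hell, mul_zero, add_zero]
  obtain ⟨S, hS⟩ : ∃ S : ℂ, S = ∑ z ∈ (univ : Finset Fˣ).filter (fun z => z * z = 1),
      cv a z * conj (cv b z) := ⟨_, rfl⟩
  rw [← hS]
  have hk : ∑ x : Fˣ, k x =
      2 * ((Fintype.card F : ℂ) - 1) *
        ((if a = b then 1 else 0) + (if a = b⁻¹ then 1 else 0)) := by
    have h1 : ∀ x, k x = cv a x * conj (cv b x) + cv a x * conj (cv b⁻¹ x) +
        (cv a x⁻¹ * conj (cv b x⁻¹) + cv a x⁻¹ * conj (cv b⁻¹ x⁻¹)) := fun x => by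
      simp only [k, cv_inv_hom, inv_inv]
      ring
    have h2 : ∑ x : Fˣ, (cv a x⁻¹ * conj (cv b x⁻¹) + cv a x⁻¹ * conj (cv b⁻¹ x⁻¹)) =
        ∑ x : Fˣ, (cv a x * conj (cv b x) + cv a x * conj (cv b⁻¹ x)) :=
      Equiv.sum_comp (Equiv.inv Fˣ) fun x : Fˣ =>
        cv a x * conj (cv b x) + cv a x * conj (cv b⁻¹ x)
    rw [Finset.sum_congr rfl (fun x _ => h1 x), Finset.sum_add_distrib, h2,
      Finset.sum_add_distrib, sum_mul_conj_cv, sum_mul_conj_cv, card_units_cast]
    split_ifs <;> ring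
  have hZ : ∀ z ∈ (univ : Finset Fˣ).filter (fun z => z * z = 1),
      k z = 4 * (cv a z * conj (cv b z)) := fun z hz => by
    have : z⁻¹ = z := inv_eq_of_mul_eq_one_right (mem_filter.1 hz).2
    simp only [k, this]; ring
  have hout : ∑ x ∈ (univ : Finset Fˣ).filter (fun x => x ≠ x⁻¹), k x =
      2 * ((Fintype.card F : ℂ) - 1) *
        ((if a = b then 1 else 0) + (if a = b⁻¹ then 1 else 0)) - 4 * S := by
    rw [← hk, show (univ : Finset Fˣ).filter (fun x => x ≠ x⁻¹) =
        univ \ (univ : Finset Fˣ).filter (fun z => z * z = 1) by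
      ext x; simp [eq_inv_iff_mul_eq_one],
      Finset.sum_sdiff_eq_sub (subset_univ _), sum_congr rfl hZ, ← mul_sum, ← hS]
  rw [hout, card_SS]
  have hne : (Fintype.card F : ℂ) * ((Fintype.card F : ℂ) ^ 2 - 1) ≠ 0 := by
    rw [← card_SS]; exact Nat.cast_ne_zero.2 Nat.card_pos.ne'
  rw [inv_mul_eq_iff_eq_mul₀ hne]
  ring

theorem inner_indFun (α β : MulChar F ℂ) [Decidable (α = β)] [Decidable (α = β⁻¹)] :
    classInner
      (indFun ((upperTriangularGL 2 F).comap Matrix.SpecialLinearGroup.toGL)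
        (fun b => α (((b : SS) : Matrix (Fin 2) (Fin 2) F) 0 0)))
      (indFun ((upperTriangularGL 2 F).comap Matrix.SpecialLinearGroup.toGL)
        (fun b => β (((b : SS) : Matrix (Fin 2) (Fin 2) F) 0 0))) =
      (if α = β then 1 else 0) + (if α = β⁻¹ then 1 else 0) := by
  classical
  obtain ⟨K, _, _, _, _, hK⟩ := exists_model F
  refine (congrArg₂ classInner (indFun_S α) (indFun_S β)).trans ?_
  rw [inner_vIS K hK]
  have hinj : Function.Injective (MulChar.toUnitHom : MulChar F ℂ → Fˣ →* ℂˣ) :=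
    MulChar.equivToUnitHom.injective
  have hinv : β⁻¹.toUnitHom = β.toUnitHom⁻¹ := by
    ext x
    simp [MulChar.inv_apply_eq_inv]
  simp only [← hinv, hinj.eq_iff]

end Cfsg.Agent.Fus.SLTwoMackey
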