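import Cfsg.Agent.Lib.Classical.SLTwoSylow
import Cfsg.Agent.Lib.Grp.SL2Core
import Cfsg.Agent.Lib.Transfer.MaxClass

/-!
A subgroup of `SL(2, q)` with more than one Sylow `p`-subgroup has quaternion Sylow 2-subgroups.
-/

set_option autoImplicit false

namespace Cfsg.Agent.Fus.QuatSyl

open QuaternionGroup

/-- Non-abelian subgroups of generalised quaternion 2-groups are generalised quaternion. -/
theorem nonempty_of_hom {S : Type*} [Group S] [Finite S] {N : ℕ} [NeZero N] (hS : IsPGroup 2 S)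
    (f : S →* QuaternionGroup N) (hf : Function.Injective f)
    (hne : ∃ s t : S, s * t ≠ t * s) :
    ∃ j : ℕ, 1 ≤ j ∧ Nonempty (S ≃* QuaternionGroup (2 ^ j)) := by
  classical
  let A : Subgroup S := (Subgroup.zpowers (a 1 : QuaternionGroup N)).comap f
  have hmemQ : ∀ g : QuaternionGroup N, g ∈ Subgroup.zpowers (a 1) ↔ ∃ i, g = a i := by
    intro g
    constructor
    · rintro ⟨z, rfl⟩
      obtain ⟨i, hi⟩ : ∃ i : ℕ, (a 1 : QuaternionGroup N) ^ i = (a 1) ^ z :=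
        Submonoid.mem_powers_iff _ _ |>.1
          ((isOfFinOrder_of_finite (a 1 : QuaternionGroup N)).mem_powers_iff_mem_zpowers.2 ⟨z, rfl⟩)
      exact ⟨i, hi.symm.trans (a_one_pow i)⟩
    · rintro ⟨i, rfl⟩
      exact ⟨(i.val : ℤ), by
        show (a 1 : QuaternionGroup N) ^ (i.val : ℤ) = a i
        rw [zpow_natCast, a_one_pow, ZMod.natCast_zmod_val]⟩
  have mem : ∀ s, s ∈ A ↔ ∃ i, f s = a i := fun s => Subgroup.mem_comap.trans (hmemQ _)
  have hcomA : ∀ s ∈ A, ∀ t ∈ A, s * t = t * s := by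
    intro s hs t ht
    obtain ⟨i, hi⟩ := (mem s).1 hs
    obtain ⟨j, hj⟩ := (mem t).1 ht
    exact hf (by rw [map_mul, map_mul, hi, hj, a_mul_a, a_mul_a, add_comm])
  obtain ⟨x, hx⟩ : ∃ x, x ∉ A := by
    by_contra h
    push Not at h
    obtain ⟨s, t, hst⟩ := hne
    exact hst (hcomA s (h s) t (h t))
  have notA : ∀ s, s ∉ A → ∃ i, f s = xa i := fun s hs => by
    rcases h : f s with i | i
    · exact absurd ((mem s).2 ⟨i, h⟩) hs
    · exact ⟨i, rfl⟩
  obtain ⟨i, hxi⟩ := notA x hx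
  have hidx : A.index = 2 := Subgroup.index_eq_two_iff_exists_notMem_and.2 ⟨x, hx, fun b => by
    by_cases hb : b ∈ A
    · exact Or.inr hb
    · obtain ⟨l, hl⟩ := notA b hb
      exact Or.inl ((mem _).2 ⟨_, by rw [map_mul, hl, hxi, xa_mul_xa]⟩)⟩
  have hA : IsCyclic A := by
    refine isCyclic_of_injective ((f.comp A.subtype).codRestrict
      (Subgroup.zpowers (a 1 : QuaternionGroup N)) fun s => s.2) fun s t h => ?_
    exact Subtype.ext (hf (congrArg Subtype.val h))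
  obtain ⟨g₀, hg₀⟩ := hA.exists_generator
  set g : S := g₀.1 with hg
  have hAz : Subgroup.zpowers g = A := by
    refine le_antisymm (Subgroup.zpowers_le.2 g₀.2) fun s hs => ?_
    obtain ⟨z, hz⟩ := hg₀ ⟨s, hs⟩
    exact ⟨z, congrArg Subtype.val hz⟩
  obtain ⟨i₀, hi₀⟩ := (mem g).1 g₀.2
  have hsq : x * x ≠ 1 := fun h => by
    have := congrArg f h
    rw [map_mul, hxi, xa_mul_xa, add_sub_cancel_right, map_one, one_def, a.injEq] at this
    rw [ZMod.natCast_eq_zero_iff] at this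
    have := Nat.le_of_dvd (Nat.pos_of_neZero N) this
    have : 0 < N := Nat.pos_of_neZero N
    omega
  have hxxA : x * x ∈ A := (mem _).2 ⟨_, by rw [map_mul, hxi, xa_mul_xa]⟩
  have hconj : x * g * x⁻¹ = g⁻¹ := by
    have h1 : x * g * x⁻¹ * g = 1 := hf (by
      rw [map_mul, map_mul, map_mul, map_inv, hxi, hi₀, xa_mul_a, map_one]
      show xa (i + i₀) * xa ((N : ZMod (2 * N)) + i) * a i₀ = 1
      rw [xa_mul_xa, a_mul_a, one_def]
      congr 1
      have := ZMod.natCast_self (2 * N)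
      push_cast at this
      linear_combination this)
    exact eq_inv_of_mul_eq_one_left h1
  have hx4 : (x * x) * (x * x) = 1 := hf (by
    rw [map_mul, map_mul, hxi, xa_mul_xa, a_mul_a, map_one, one_def]
    congr 1
    have := ZMod.natCast_self (2 * N)
    push_cast at this
    linear_combination this)
  obtain ⟨e, he⟩ := (IsPGroup.iff_orderOf.1 hS) g
  obtain ⟨z, hz⟩ : x * x ∈ Subgroup.zpowers g := hAz.symm ▸ hxxA
  obtain ⟨m, hm⟩ : ∃ m, e = m + 1 := ⟨e - 1, by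
    have : e ≠ 0 := fun h => hsq (by
      rw [h, pow_zero, orderOf_eq_one_iff] at he
      rw [← hz]
      show g ^ z = 1
      rw [he, one_zpow])
    omega⟩
  have hord : orderOf g = 2 * 2 ^ m := by rw [he, hm, pow_succ']
  have hxx : x * x = g ^ (2 ^ m) := by
    have h2 : ((2 * 2 ^ m : ℕ) : ℤ) ∣ z * 2 := by
      rw [← hord, orderOf_dvd_iff_zpow_eq_one, zpow_mul, show g ^ z = x * x from hz,
        show ((2 : ℤ)) = ((2 : ℕ) : ℤ) from rfl, zpow_natCast, sq, hx4]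
    have h3 : ((2 ^ m : ℕ) : ℤ) ∣ z := by
      rw [Nat.cast_mul, mul_comm z] at h2
      exact Int.dvd_of_mul_dvd_mul_left (by norm_num) h2
    obtain ⟨c, hc⟩ := h3
    have hgm : g ^ (2 ^ m) * g ^ (2 ^ m) = 1 := by
      rw [← pow_add, ← two_mul, ← hord, pow_orderOf_eq_one]
    rcases Int.even_or_odd c with ⟨d, hd⟩ | ⟨d, hd⟩
    · refine absurd ?_ hsq
      rw [← hz]
      show g ^ z = 1
      rw [hc, zpow_mul, zpow_natCast, hd, zpow_add, ← (Commute.refl _).mul_zpow, hgm, one_zpow]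
    · rw [← hz]
      show g ^ z = _
      rw [hc, zpow_mul, zpow_natCast, hd, zpow_add, zpow_one, zpow_mul,
        show ((2 : ℤ)) = ((2 : ℕ) : ℤ) from rfl, zpow_natCast, sq, hgm, one_zpow, one_mul]
  refine ⟨m, ?_, Transfer.MaxClass.nonempty_quaternion (by positivity) hord (hAz.symm ▸ hidx)
    (hAz.symm ▸ hx) hxx hconj⟩
  by_contra h0
  have h1 : m = 0 := by omega
  rw [h1, pow_zero, pow_one] at hxx
  -- then everything commutes
  have hgx : Commute g x := by rw [← hxx]; exact (Commute.refl x).mul_left (Commute.refl x)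
  obtain ⟨s, t, hst⟩ := hne
  have key : ∀ s : S, ∃ u : ℤ, s = g ^ u ∨ s = g ^ u * x := fun s => by
    by_cases hs : s ∈ A
    · obtain ⟨u, hu⟩ : s ∈ Subgroup.zpowers g := hAz.symm ▸ hs
      exact ⟨u, Or.inl hu.symm⟩
    · obtain ⟨u, hu⟩ : s * x⁻¹ ∈ Subgroup.zpowers g := hAz.symm ▸ by
        obtain ⟨l, hl⟩ := notA s hs
        exact (mem _).2 ⟨_, by rw [map_mul, map_inv, hl, hxi]; exact xa_mul_xa _ _⟩
      exact ⟨u, Or.inr (eq_mul_inv_iff_mul_eq.1 hu).symm⟩
  have hcs : ∀ s : S, Commute s g ∧ Commute s x := fun s => by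
    obtain ⟨u, rfl | rfl⟩ := key s
    · exact ⟨(Commute.refl g).zpow_left u, hgx.zpow_left u⟩
    · exact ⟨((Commute.refl g).zpow_left u).mul_left hgx.symm,
        (hgx.zpow_left u).mul_left (Commute.refl x)⟩
  obtain ⟨u, rfl | rfl⟩ := key t
  · exact hst ((hcs s).1.zpow_right u)
  · exact hst (((hcs s).1.zpow_right u).mul_right (hcs s).2)

/-- A subgroup of `SL(2, q)` with several Sylow `p`-subgroups has quaternion Sylow 2-subgroups. -/
theorem sylow_two {F : Type*} [Field F] [Fintype F] (p : ℕ) [Fact p.Prime] [CharP F p] (hp : p ≠ 2)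
    (H : Subgroup (Matrix.SpecialLinearGroup (Fin 2) F)) (hH : 1 < Nat.card (Sylow p H))
    (S : Sylow 2 H) :
    ∃ k : ℕ, 1 ≤ k ∧ Nonempty ((S : Subgroup H) ≃* QuaternionGroup (2 ^ k)) := by
  classical
  have hpp : p.Prime := Fact.out
  have tr2 : ∀ x : H, ∀ i : ℕ, x ^ p ^ i = 1 → Grp.SL2.tr (x : Matrix.SpecialLinearGroup (Fin 2) F) = 2 :=
    fun x i h => Grp.SL2.tr_eq_two_of_pPower (p := p) hp (k := i) (by
      rw [← SubmonoidClass.coe_pow, h]; rfl)
  -- two non-commuting p-elements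
  obtain ⟨a₁, b₁, hab, ⟨i, hi⟩, ⟨l, hl⟩⟩ : ∃ x y : H, ¬ Commute x y ∧
      (∃ i : ℕ, x ^ p ^ i = 1) ∧ ∃ l : ℕ, y ^ p ^ l = 1 := by
    by_contra hcon
    have hle : ∀ P Q : Sylow p H, (Q : Subgroup H) ≤ P := fun P Q => by
      have hn : (Q : Subgroup H) ≤ Subgroup.normalizer ((P : Subgroup H) : Set H) := by
        refine le_trans ?_ (Subgroup.centralizer_le_normalizer _)
        intro y hy x hx
        obtain ⟨iy, hiy⟩ := Q.2 ⟨y, hy⟩
        obtain ⟨ix, hix⟩ := P.2 ⟨x, hx⟩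
        by_contra h
        exact hcon ⟨x, y, h, ⟨ix, congrArg Subtype.val hix⟩, ⟨iy, congrArg Subtype.val hiy⟩⟩
      exact (P.3 (Q.2.to_sup_of_normal_right' P.2 hn) le_sup_right).le.trans' le_sup_left
    have : Subsingleton (Sylow p H) :=
      ⟨fun P Q => Sylow.ext (le_antisymm (hle Q P) (hle P Q))⟩
    rw [Nat.card_of_subsingleton (Classical.arbitrary (Sylow p H))] at hH
    omega
  obtain ⟨K, hKH, ⟨e⟩⟩ := Grp.SL2.exists_equiv_of_pair hp H a₁.2 b₁.2 (tr2 a₁ i hi) (tr2 b₁ l hl)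
    fun h => hab (Subtype.ext h)
  let ψ : Matrix.SpecialLinearGroup (Fin 2) (ZMod p) →* H :=
    (Subgroup.inclusion hKH).comp e.symm.toMonoidHom
  have hψ : Function.Injective ψ := (Subgroup.inclusion_injective hKH).comp e.symm.injective
  have hoddp : Odd (Fintype.card (ZMod p)) := by rw [ZMod.card]; exact hpp.odd_of_ne_two hp
  obtain ⟨P⟩ := (inferInstance : Nonempty (Sylow 2 (Matrix.SpecialLinearGroup (Fin 2) (ZMod p))))
  obtain ⟨⟨j, hj, ⟨eP⟩⟩, -⟩ := Classical.SLTwoSylow.two_sylow_SL hoddp P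
  obtain ⟨S', hS'⟩ := (P.2.map ψ).exists_le_sylow
  have : NeZero (2 ^ j) := ⟨by positivity⟩
  have hne : ∃ s t : (S' : Subgroup H), s * t ≠ t * s := by
    refine ⟨⟨ψ (eP.symm (.a 1)), hS' ⟨_, (eP.symm (.a 1)).2, rfl⟩⟩,
      ⟨ψ (eP.symm (.xa 0)), hS' ⟨_, (eP.symm (.xa 0)).2, rfl⟩⟩, fun h => ?_⟩
    have h := congrArg Subtype.val h
    simp only [Subgroup.coe_mul] at h
    rw [← map_mul, ← map_mul] at h
    have h := eP.symm.injective ((map_mul _ _ _).trans <| (Subtype.ext (hψ h)).trans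
      (map_mul _ _ _).symm)
    rw [xa_mul_a, a_mul_xa, xa.injEq, zero_add, zero_sub] at h
    have h2 : ((2 : ℕ) : ZMod (2 * 2 ^ j)) = 0 := by push_cast; linear_combination -h
    rw [ZMod.natCast_eq_zero_iff] at h2
    have := Nat.le_of_dvd two_pos h2
    have : 2 ≤ 2 ^ j := Nat.le_self_pow (by omega) 2
    omega
  have hodd : Odd (Fintype.card F) := by
    obtain ⟨m, -, hm⟩ := FiniteField.card F p
    rw [hm]
    exact (hpp.odd_of_ne_two hp).pow
  obtain ⟨g, hg⟩ := MulAction.exists_smul_eq H S' S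
  have eS : (S' : Subgroup H) ≃* (S : Subgroup H) := hg ▸ S'.equivSMul g
  obtain ⟨T, hT⟩ := (S'.2.map H.subtype).exists_le_sylow
  obtain ⟨⟨k, -, ⟨eT⟩⟩, -⟩ := Classical.SLTwoSylow.two_sylow_SL hodd T
  let f : (S' : Subgroup H) →* QuaternionGroup (2 ^ k) := eT.toMonoidHom.comp
    ((Subgroup.inclusion hT).comp
      (Subgroup.equivMapOfInjective (S' : Subgroup H) H.subtype H.subtype_injective).toMonoidHom)
  obtain ⟨r, hr, ⟨er⟩⟩ := nonempty_of_hom S'.2 f
    (eT.injective.comp ((Subgroup.inclusion_injective hT).comp (MulEquiv.injective _))) hne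
  exact ⟨r, hr, ⟨eS.symm.trans er⟩⟩

end Cfsg.Agent.Fus.QuatSyl
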