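import Cfsg.Prelude.Def_Sporadic_a
import Cfsg.Agent.Lib.Spor.Leech.HSGraph
import Mathlib

/-!
A strongly regular graph with parameters (100, 22, 0, 6) is the point-block graph of a Steiner system S(3,6,22).
-/

set_option autoImplicit false
set_option linter.unusedSectionVars false

namespace Cfsg.Agent.Fus.SRGHundred

open Finset

variable {V : Type*} [Fintype V] [DecidableEq V] {G : SimpleGraph V} [DecidableRel G.Adj]

/-- The neighbours of `v`, as the point set. -/
abbrev Pt (G : SimpleGraph V) (v : V) : Type _ := {x : V // G.Adj v x}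

/-- The block attached to a vertex. -/
def blk (G : SimpleGraph V) [DecidableRel G.Adj] (v w : V) : Finset (Pt G v) :=
  univ.filter fun a => G.Adj w a

/-- The vertices at distance two from `v`. -/
def far (G : SimpleGraph V) [DecidableRel G.Adj] (v : V) : Finset V :=
  univ.filter fun w => w ≠ v ∧ ¬ G.Adj v w

/-- The family of blocks. -/
def family (G : SimpleGraph V) [DecidableRel G.Adj] (v : V) : Set (Finset (Pt G v)) :=
  ↑((far G v).image (blk G v))

variable (h : G.IsSRGWith 100 22 0 6)
include h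

theorem card_nbr (x : V) : #(univ.filter fun y => G.Adj x y) = 22 := by
  rw [← h.regular x, ← SimpleGraph.card_neighborFinset_eq_degree]
  congr 1; ext y; simp

theorem card_common_far {x y : V} (hne : x ≠ y) (hn : ¬ G.Adj x y) :
    #(univ.filter fun z => G.Adj x z ∧ G.Adj y z) = 6 := by
  rw [← h.of_not_adj hne hn, Fintype.card_subtype]
  congr 1

theorem no_triangle {x y z : V} (h1 : G.Adj x y) (h2 : G.Adj x z) (h3 : G.Adj y z) : False := by
  have h0 := h.of_adj x y h1
  rw [Fintype.card_eq_zero_iff] at h0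
  exact h0.elim ⟨z, h2, h3⟩

variable {v : V}

theorem card_pt : Fintype.card (Pt G v) = 22 := by
  rw [Fintype.card_subtype]; exact card_nbr h v

theorem card_far : #(far G v) = 77 := by
  have h1 : far G v = univ \ insert v (univ.filter fun y => G.Adj v y) := by
    ext w; simp [far]
  rw [h1, card_sdiff_of_subset (subset_univ _), card_insert_of_notMem (by simp), card_nbr h, card_univ, h.card]

theorem card_blk {w : V} (hw : w ∈ far G v) : #(blk G v w) = 6 := by
  obtain ⟨hne, hn⟩ := (mem_filter.1 hw).2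
  rw [← card_common_far h hne.symm hn, ← card_map (Function.Embedding.subtype fun x => G.Adj v x)]
  congr 1; ext z; simp [blk]; tauto

theorem card_through (a : Pt G v) : #((far G v).filter fun u => G.Adj u a) = 21 := by
  have h1 : (far G v).filter (fun u => G.Adj u a) = (univ.filter fun u => G.Adj (a : V) u).erase v := by
    ext u
    simp only [far, mem_filter, mem_univ, true_and, mem_erase]
    constructor
    · rintro ⟨⟨hu, -⟩, hua⟩; exact ⟨hu, hua.symm⟩
    · rintro ⟨hu, hua⟩
      exact ⟨⟨hu, fun hvu => no_triangle h a.2 hvu hua⟩, hua.symm⟩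
  rw [h1, card_erase_of_mem (by simp [a.2.symm]), card_nbr h]

theorem card_through_pair {a b : Pt G v} (hab : a ≠ b) :
    #((far G v).filter fun u => G.Adj u a ∧ G.Adj u b) = 5 := by
  have hne : (a : V) ≠ b := fun e => hab (Subtype.ext e)
  have hn : ¬ G.Adj (a : V) b := fun e => no_triangle h a.2 b.2 e
  have h1 : (far G v).filter (fun u => G.Adj u a ∧ G.Adj u b) =
      (univ.filter fun u => G.Adj (a : V) u ∧ G.Adj (b : V) u).erase v := by
    ext u
    simp only [far, mem_filter, mem_univ, true_and, mem_erase]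
    constructor
    · rintro ⟨⟨hu, -⟩, hua, hub⟩; exact ⟨hu, hua.symm, hub.symm⟩
    · rintro ⟨hu, hua, hub⟩
      exact ⟨⟨hu, fun hvu => no_triangle h a.2 hvu hua⟩, hua.symm, hub.symm⟩
  rw [h1, card_erase_of_mem (by simp [a.2.symm, b.2.symm]), card_common_far h hne hn]

theorem disjoint_of_adj {w u : V} (hwu : G.Adj w u) : Disjoint (blk G v w) (blk G v u) := by
  rw [Finset.disjoint_left]
  intro a ha ha'
  simp only [blk, mem_filter, mem_univ, true_and] at ha ha'
  exact no_triangle h hwu ha ha'

theorem card_inter {w : V} (hw : w ∈ far G v) {u : V} (hu : u ∈ far G v) (hne : u ≠ w) :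
    #(blk G v w ∩ blk G v u) = if G.Adj w u then 0 else 2 := by
  have hint : ∀ u, blk G v w ∩ blk G v u = (blk G v w).filter fun a : Pt G v => G.Adj u a := by
    intro u; ext a; simp [blk]
  have hs1 : ∑ u ∈ far G v, #(blk G v w ∩ blk G v u) = 126 := by
    simp only [hint, card_filter]
    rw [sum_comm]
    simp only [← card_filter]
    rw [sum_congr rfl fun a _ => card_through h a, sum_const, card_blk h hw, smul_eq_mul]
  have hs2 : ∑ u ∈ far G v, #(blk G v w ∩ blk G v u) * #(blk G v w ∩ blk G v u) = 276 := by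
    have e : ∀ u, #(blk G v w ∩ blk G v u) * #(blk G v w ∩ blk G v u) = ∑ a ∈ blk G v w, ∑ b ∈ blk G v w,
        if G.Adj u (a : V) ∧ G.Adj u (b : V) then 1 else 0 := by
      intro u
      rw [hint, card_filter, sum_mul_sum]
      refine sum_congr rfl fun a _ => sum_congr rfl fun b _ => ?_
      by_cases ha : G.Adj u (a : V) <;> by_cases hb : G.Adj u (b : V) <;> simp [ha, hb]
    rw [sum_congr rfl fun u _ => e u, sum_comm, sum_congr rfl fun a _ => sum_comm]
    simp only [← card_filter]
    have : ∀ a ∈ blk G v w, ∑ b ∈ blk G v w, #((far G v).filter fun u => G.Adj u (a : V) ∧ G.Adj u (b : V)) = 46 := by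
      intro a ha
      rw [← Finset.add_sum_erase _ _ ha, sum_congr rfl fun b hb => card_through_pair h (Finset.ne_of_mem_erase hb).symm,
        sum_const, card_erase_of_mem ha, card_blk h hw, smul_eq_mul]
      simp only [and_self]
      rw [card_through h a]
    rw [sum_congr rfl this, sum_const, card_blk h hw, smul_eq_mul]
  set T := (far G v).erase w with hT
  set f : V → ℕ := fun u => #(blk G v w ∩ blk G v u) with hf
  have hfw : f w = 6 := by simp only [hf, inter_self]; exact card_blk h hw
  rw [← add_sum_erase _ _ hw] at hs1 hs2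
  change f w + ∑ u ∈ T, f u = 126 at hs1
  change f w * f w + ∑ u ∈ T, f u * f u = 276 at hs2
  rw [hfw] at hs1 hs2
  have hadj : #(T.filter fun u => G.Adj w u) = 16 := by
    obtain ⟨hwne, hwn⟩ := (mem_filter.1 hw).2
    have h1 : T.filter (fun u => G.Adj w u) = (univ.filter fun u => G.Adj w u) \
        (univ.filter fun u => G.Adj v u ∧ G.Adj w u) := by
      ext u
      simp only [hT, far, mem_filter, mem_erase, mem_univ, true_and, mem_sdiff]
      constructor
      · rintro ⟨⟨-, -, hn⟩, ha⟩; exact ⟨ha, fun e => hn e.1⟩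
      · rintro ⟨ha, hn⟩
        exact ⟨⟨ha.ne', fun e => hwn ((e ▸ ha).symm), fun e => hn ⟨e, ha⟩⟩, ha⟩
    rw [h1, card_sdiff_of_subset (by intro u; simp), card_nbr h, card_common_far h hwne.symm hwn]
  have hzero : ∀ u ∈ T.filter (fun u => G.Adj w u), f u = 0 := fun u hu =>
    card_eq_zero.2 (Finset.disjoint_iff_inter_eq_empty.1 (disjoint_of_adj h (mem_filter.1 hu).2))
  have hTn : #(T.filter fun u => ¬ G.Adj w u) = 60 := by
    have := card_filter_add_card_filter_not (s := T) (fun u => G.Adj w u)
    rw [hadj, hT, card_erase_of_mem hw, card_far h] at this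
    rw [hT]; omega
  rw [← sum_filter_add_sum_filter_not T (fun u => G.Adj w u), sum_eq_zero hzero] at hs1
  rw [← sum_filter_add_sum_filter_not T (fun u => G.Adj w u),
    sum_eq_zero fun u hu => by rw [hzero u hu, mul_zero]] at hs2
  have hsq : ∑ u ∈ T.filter (fun u => ¬ G.Adj w u), ((f u : ℤ) - 2) ^ 2 = 0 := by
    have e1 : ((∑ u ∈ T.filter (fun u => ¬ G.Adj w u), f u : ℕ) : ℤ) = 120 := by
      have : ∑ u ∈ T.filter (fun u => ¬ G.Adj w u), f u = 120 := by omega
      exact_mod_cast this
    have e2 : ((∑ u ∈ T.filter (fun u => ¬ G.Adj w u), f u * f u : ℕ) : ℤ) = 240 := by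
      have : ∑ u ∈ T.filter (fun u => ¬ G.Adj w u), f u * f u = 240 := by omega
      exact_mod_cast this
    push_cast at e1 e2
    calc ∑ u ∈ T.filter (fun u => ¬ G.Adj w u), ((f u : ℤ) - 2) ^ 2
        = ∑ u ∈ T.filter (fun u => ¬ G.Adj w u), ((f u : ℤ) * f u - 4 * f u + 4) :=
          sum_congr rfl fun u _ => by ring
      _ = 240 - 4 * 120 + 60 * 4 := by
          rw [sum_add_distrib, sum_sub_distrib, ← mul_sum, e1, e2, sum_const, hTn]; simp
      _ = 0 := by norm_num
  have hmem : u ∈ T := mem_erase.2 ⟨hne, hu⟩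
  by_cases ha : G.Adj w u
  · rw [if_pos ha]; exact hzero u (mem_filter.2 ⟨hmem, ha⟩)
  · rw [if_neg ha]
    have := (sum_eq_zero_iff_of_nonneg fun x _ => sq_nonneg _).1 hsq u (mem_filter.2 ⟨hmem, ha⟩)
    have := pow_eq_zero_iff (two_ne_zero) |>.1 this
    show f u = 2
    omega

theorem blk_injOn : Set.InjOn (blk G v) (far G v) := by
  intro w hw u hu e
  by_contra hne
  have := card_inter h hw hu (Ne.symm hne)
  rw [← e, inter_self, card_blk h hw] at this
  split_ifs at this <;> omega

theorem steiner : Cfsg.IsSteinerSystem 3 6 (family G v) := by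
  refine ⟨fun b hb => ?_, fun s hs => ?_⟩
  · obtain ⟨w, hw, rfl⟩ := mem_image.1 (mem_coe.1 hb)
    exact card_blk h hw
  set B := (far G v).image (blk G v) with hB
  have huniq : ∀ b ∈ B, ∀ c ∈ B, ∀ t : Finset (Pt G v), #t = 3 → t ⊆ b → t ⊆ c → b = c := by
    intro b hb c hc t ht htb htc
    obtain ⟨w, hw, rfl⟩ := mem_image.1 hb
    obtain ⟨u, hu, rfl⟩ := mem_image.1 hc
    by_contra hne
    have h1 := card_le_card (subset_inter htb htc)
    rw [card_inter h hw hu (fun e => hne (by rw [e])), ht] at h1
    split_ifs at h1 <;> omega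
  have hall : B.biUnion (fun b => b.powersetCard 3) = (univ : Finset (Pt G v)).powersetCard 3 := by
    refine eq_of_subset_of_card_le (fun t ht => ?_) ?_
    · obtain ⟨b, -, htb⟩ := mem_biUnion.1 ht
      exact mem_powersetCard.2 ⟨subset_univ _, (mem_powersetCard.1 htb).2⟩
    rw [card_biUnion, sum_congr rfl (g := fun _ => 20), sum_const, hB,
      card_image_of_injOn (blk_injOn h), card_far h, card_powersetCard, card_univ, card_pt h]
    · decide
    · intro b hb
      obtain ⟨w, hw, rfl⟩ := mem_image.1 hb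
      rw [card_powersetCard, card_blk h hw]; decide
    · intro b hb c hc hne
      show Disjoint (b.powersetCard 3) (c.powersetCard 3)
      rw [Finset.disjoint_left]
      intro t ht ht'
      exact hne (huniq b hb c hc t (mem_powersetCard.1 ht).2 (mem_powersetCard.1 ht).1 (mem_powersetCard.1 ht').1)
  obtain ⟨b, hb, hsb⟩ : ∃ b ∈ B, s ∈ b.powersetCard 3 := by
    rw [← mem_biUnion, hall]; exact mem_powersetCard.2 ⟨subset_univ _, hs⟩
  exact ⟨b, ⟨hb, (mem_powersetCard.1 hsb).1⟩, fun c hc => huniq c hc.1 b hb s hs hc.2 (mem_powersetCard.1 hsb).1⟩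

omit h in
theorem mem_family {b : Finset (Pt G v)} (hb : b ∈ family G v) : ∃ w ∈ far G v, blk G v w = b :=
  mem_image.1 (mem_coe.1 hb)

theorem nonempty_iso : Nonempty (Cfsg.pointBlockGraph (family G v) ≃g G) := by
  classical
  choose g hg hgb using fun b : family G v => mem_family b.2
  let f : Option (Pt G v ⊕ family G v) → V
    | none => v
    | some (Sum.inl a) => a
    | some (Sum.inr b) => g b
  have hgne : ∀ b, g b ≠ v := fun b => (mem_filter.1 (hg b)).2.1
  have hgna : ∀ b, ¬ G.Adj v (g b) := fun b => (mem_filter.1 (hg b)).2.2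
  have hinj : Function.Injective f := by
    rintro (_ | a | b) (_ | a' | b') e <;> simp only [f] at e
    · rfl
    · exact absurd e.symm a'.2.ne'
    · exact absurd e.symm (hgne b')
    · exact absurd e a.2.ne'
    · rw [Subtype.ext e]
    · exact absurd (e ▸ a.2) (hgna b')
    · exact absurd e (hgne b)
    · exact absurd (e ▸ a'.2) (hgna b)
    · rw [Subtype.ext (show (b : Finset (Pt G v)) = b' by rw [← hgb b, ← hgb b', e])]
  have hbij : Function.Bijective f := by
    have : Fintype (family G v) := Fintype.ofFinite _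
    refine (Fintype.bijective_iff_injective_and_card f).2 ⟨hinj, ?_⟩
    rw [Fintype.card_option, Fintype.card_sum, card_pt h, h.card, ← Nat.card_eq_fintype_card,
      Nat.card_coe_set_eq, family, Set.ncard_coe_finset, card_image_of_injOn (blk_injOn h), card_far h]
  have hab : ∀ (a : Pt G v) b, G.Adj (a : V) (g b) ↔ a ∈ (b : Finset (Pt G v)) := by
    intro a b
    conv_rhs => rw [← hgb b]
    simp [blk, G.adj_comm]
  refine ⟨⟨Equiv.ofBijective f hbij, ?_⟩⟩
  intro x y
  show G.Adj (f x) (f y) ↔ _
  rcases x with _ | a | b <;> rcases y with _ | a' | b' <;>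
    simp only [Cfsg.pointBlockGraph, SimpleGraph.fromRel_adj, Cfsg.pointBlockRel, f]
  · simp
  · simp [a'.2]
  · simp [hgna b']
  · simp [a.2.symm]
  · have : ¬ G.Adj (a : V) a' := fun e => no_triangle h a.2 a'.2 e
    simp [this]
  · simp [hab]
  · simp [G.adj_comm, hgna b]
  · simp [G.adj_comm (g b), hab]
  · rw [disjoint_comm (a := (b' : Finset (Pt G v))), or_self]
    constructor
    · intro e
      refine ⟨fun e' => e.ne (congrArg f e'), ?_⟩
      rw [← hgb b, ← hgb b']; exact disjoint_of_adj h e
    · rintro ⟨hne, hd⟩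
      by_contra hn
      have hgg : g b' ≠ g b := fun e => hne (hinj (show f (some (Sum.inr b)) = f (some (Sum.inr b')) from e.symm))
      have := card_inter h (hg b) (hg b') hgg
      rw [if_neg hn, hgb, hgb, Finset.disjoint_iff_inter_eq_empty.1 hd, card_empty] at this
      omega

end Cfsg.Agent.Fus.SRGHundred

namespace Cfsg.Agent.Fus.SRGHundred

/-- An isomorphism of families of subsets induces one of point-block graphs. -/
theorem iso_of_setSystemIso {α β : Type*} [DecidableEq β] {B : Set (Finset α)} {B' : Set (Finset β)}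
    (h : Cfsg.SetSystemIso B B') : Nonempty (Cfsg.pointBlockGraph B ≃g Cfsg.pointBlockGraph B') := by
  classical
  obtain ⟨e, he⟩ := h
  have hm : ∀ b : B, (b : Finset α).image e ∈ B' := fun b => he ▸ ⟨b, b.2, rfl⟩
  have hb : Function.Bijective fun b : B => (⟨(b : Finset α).image e, hm b⟩ : B') := by
    refine ⟨fun b c hbc => Subtype.ext (Finset.image_injective e.injective (congrArg Subtype.val hbc)), fun c => ?_⟩
    obtain ⟨b, hb, hbc⟩ := (he.symm ▸ c.2 : (c : Finset β) ∈ (fun b => b.image e) '' B)
    exact ⟨⟨b, hb⟩, Subtype.ext hbc⟩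
  let E : Option (α ⊕ B) ≃ Option (β ⊕ B') := (Equiv.sumCongr e (Equiv.ofBijective _ hb)).optionCongr
  refine ⟨⟨E, ?_⟩⟩
  intro x y
  rcases x with _ | a | b <;> rcases y with _ | a' | b' <;>
    simp [E, Cfsg.pointBlockGraph, Cfsg.pointBlockRel, Finset.disjoint_image e.injective]
  intro
  exact not_congr ((Finset.image_injective e.injective).eq_iff.trans Subtype.coe_inj)

theorem unique {V W : Type*} [Fintype V] [Fintype W] {G : SimpleGraph V} {H : SimpleGraph W}
    [DecidableRel G.Adj] [DecidableRel H.Adj] (hG : G.IsSRGWith 100 22 0 6) (hH : H.IsSRGWith 100 22 0 6) :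
    Nonempty (G ≃g H) := by
  classical
  obtain ⟨v⟩ : Nonempty V := Fintype.card_pos_iff.1 (by rw [hG.card]; norm_num)
  obtain ⟨w⟩ : Nonempty W := Fintype.card_pos_iff.1 (by rw [hH.card]; norm_num)
  obtain ⟨φ⟩ := nonempty_iso hG (v := v)
  obtain ⟨ψ⟩ := nonempty_iso hH (v := w)
  obtain ⟨χ⟩ := iso_of_setSystemIso
    (Spor.SteinerCode.iso622 (card_pt hG) (card_pt hH) (steiner hG (v := v)) (steiner hH (v := w)))
  exact ⟨(φ.symm.trans χ).trans ψ⟩

end Cfsg.Agent.Fus.SRGHundred
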