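import Cfsg.Prelude.Def_Sporadic_a
import Cfsg.Agent.Lib.Spor.SteinerAut622
import Mathlib

/-!
A strongly regular graph with parameters (77, 16, 0, 4) is the block graph of a Steiner system S(3,6,22): its 22
points are the independent sets of 21 vertices.
-/

set_option autoImplicit false
set_option linter.unusedSectionVars false

namespace Cfsg.Agent.Fus.SRGSeventySeven

open Finset

variable {V : Type*} [Fintype V] [DecidableEq V] {G : SimpleGraph V} [DecidableRel G.Adj]

/-- Adjacency as a number. -/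
def ad (G : SimpleGraph V) [DecidableRel G.Adj] (x y : V) : ℤ := if G.Adj x y then 1 else 0

/-- Equality as a number. -/
def dl (x y : V) : ℤ := if x = y then 1 else 0

/-- The neighbours of `v`. -/
def nb (G : SimpleGraph V) [DecidableRel G.Adj] (v : V) : Finset V := univ.filter fun w => G.Adj v w

/-- The vertices at distance two from `v`. -/
def far (G : SimpleGraph V) [DecidableRel G.Adj] (v : V) : Finset V :=
  univ.filter fun w => w ≠ v ∧ ¬ G.Adj v w

/-- Common neighbours inside the neighbourhood of `v`. -/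
def tt (G : SimpleGraph V) [DecidableRel G.Adj] (v u w : V) : ℤ := ∑ n ∈ nb G v, ad G u n * ad G w n

/-- A scaled Gram matrix on the vertices at distance two from `v`. -/
def S (G : SimpleGraph V) [DecidableRel G.Adj] (v u w : V) : ℤ :=
  12 * dl u w + 4 - 6 * ad G u w - 3 * tt G v u w

theorem ad_comm (x y : V) : ad G x y = ad G y x := by simp [ad, G.adj_comm]

theorem dl_comm (x y : V) : dl x y = dl y x := by simp [dl, eq_comm]

theorem tt_comm (v u w : V) : tt G v u w = tt G v w u := sum_congr rfl fun _ _ => mul_comm _ _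

theorem S_comm (v u w : V) : S G v u w = S G v w u := by
  rw [S, S, ad_comm, dl_comm, tt_comm]

theorem sum_dl {s : Finset V} {u : V} (hu : u ∈ s) (f : V → ℤ) : ∑ w ∈ s, dl u w * f w = f u := by
  simp [dl, hu]

variable (h : G.IsSRGWith 77 16 0 4)
include h

theorem sum_univ_ad (x : V) : ∑ z, ad G x z = 16 := by
  simp only [ad, sum_boole]
  have e := h.regular x
  rw [← SimpleGraph.card_neighborFinset_eq_degree] at e
  rw [show (univ.filter fun z => G.Adj x z) = G.neighborFinset x by ext z; simp, e]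
  norm_num

theorem no_triangle {x y z : V} (h1 : G.Adj x y) (h2 : G.Adj x z) (h3 : G.Adj y z) : False := by
  have h0 := h.of_adj x y h1
  rw [Fintype.card_eq_zero_iff] at h0
  exact h0.elim ⟨z, h2, h3⟩

theorem common_univ (x y : V) : ∑ z, ad G x z * ad G y z = 12 * dl x y + 4 - 4 * ad G x y := by
  by_cases hxy : x = y
  · subst hxy
    have e : ∀ z, ad G x z * ad G x z = ad G x z := fun z => by unfold ad; split_ifs <;> rfl
    simp only [e, sum_univ_ad h]
    simp [dl, ad]
  · have e : ∀ z, ad G x z * ad G y z = if G.Adj x z ∧ G.Adj y z then 1 else 0 := fun z => by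
      unfold ad; by_cases h1 : G.Adj x z <;> by_cases h2 : G.Adj y z <;> simp [h1, h2]
    simp only [e, sum_boole]
    by_cases ha : G.Adj x y
    · have : #(univ.filter fun z => G.Adj x z ∧ G.Adj y z) = 0 := by
        rw [← h.of_adj x y ha, Fintype.card_subtype]; congr 1
      simp [this, dl, ad, hxy, ha]
    · have : #(univ.filter fun z => G.Adj x z ∧ G.Adj y z) = 4 := by
        rw [← h.of_not_adj hxy ha, Fintype.card_subtype]; congr 1
      simp [this, dl, ad, hxy, ha]

variable {v : V}

theorem split (f : V → ℤ) : ∑ z, f z = f v + ∑ z ∈ nb G v, f z + ∑ z ∈ far G v, f z := by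
  have hd : Disjoint (nb G v) (far G v) := by
    rw [Finset.disjoint_left]; intro z h1 h2
    simp [nb, far] at h1 h2; exact h2.2 h1
  have hv : v ∉ nb G v ∪ far G v := by simp [nb, far]
  rw [add_assoc, ← sum_union hd, ← sum_insert hv]
  congr 1
  ext z
  simp [nb, far]
  tauto

theorem nb_adj {n : V} (hn : n ∈ nb G v) : ad G n v = 1 := by simp [nb] at hn; simp [ad, hn.symm]

theorem far_adj {u : V} (hu : u ∈ far G v) : ad G u v = 0 := by simp [far] at hu; simp [ad, G.adj_comm, hu.2]

theorem nb_indep {n m : V} (hn : n ∈ nb G v) (hm : m ∈ nb G v) : ad G n m = 0 := by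
  simp [nb] at hn hm
  have : ¬ G.Adj n m := fun e => no_triangle h hn hm e
  simp [ad, this]

theorem sum_nb_far {u : V} (hu : u ∈ far G v) : ∑ n ∈ nb G v, ad G u n = 4 := by
  simp [far] at hu
  have h1 := common_univ h v u
  simp only [dl, if_neg (Ne.symm hu.1), ad, if_neg hu.2, mul_zero, zero_add, sub_zero] at h1
  rw [← h1, nb, sum_filter]
  refine sum_congr rfl fun z _ => ?_
  simp only [ad]
  split_ifs <;> simp

theorem far_ad {u : V} (hu : u ∈ far G v) : ∑ w ∈ far G v, ad G u w = 12 := by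
  have h1 := split h (v := v) (fun z => ad G u z)
  rw [sum_univ_ad h, far_adj h hu, sum_nb_far h hu] at h1
  linarith

theorem far_ad_nb {n : V} (hn : n ∈ nb G v) : ∑ w ∈ far G v, ad G n w = 15 := by
  have h1 := split h (v := v) (fun z => ad G n z)
  rw [sum_univ_ad h, nb_adj h hn, sum_eq_zero fun m hm => nb_indep h hn hm] at h1
  linarith

theorem far_ad_ad {u u' : V} (hu : u ∈ far G v) (_hu' : u' ∈ far G v) :
    ∑ w ∈ far G v, ad G u w * ad G u' w = 12 * dl u u' + 4 - 4 * ad G u u' - tt G v u u' := by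
  have h1 := split h (v := v) (fun z => ad G u z * ad G u' z)
  rw [common_univ h, far_adj h hu, zero_mul] at h1
  rw [tt]; linarith

theorem far_ad_mixed {u n : V} (hu : u ∈ far G v) (hn : n ∈ nb G v) :
    ∑ w ∈ far G v, ad G u w * ad G n w = 4 - 4 * ad G u n := by
  have h1 := split h (v := v) (fun z => ad G u z * ad G n z)
  have hne : dl u n = 0 := by
    simp [far] at hu; simp [nb] at hn
    have : u ≠ n := fun e => hu.2 (e ▸ hn)
    simp [dl, this]
  rw [common_univ h, hne, far_adj h hu, zero_mul, sum_eq_zero fun m hm => by rw [nb_indep h hn hm, mul_zero]] at h1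
  linarith

theorem far_nb_nb {n m : V} (hn : n ∈ nb G v) (hm : m ∈ nb G v) :
    ∑ w ∈ far G v, ad G n w * ad G m w = 12 * dl n m + 3 := by
  have h1 := split h (v := v) (fun z => ad G n z * ad G m z)
  rw [common_univ h, nb_indep h hn hm, nb_adj h hn, nb_adj h hm,
    sum_eq_zero fun z hz => by rw [nb_indep h hn hz, zero_mul]] at h1
  linarith

theorem far_t {u : V} (hu : u ∈ far G v) : ∑ w ∈ far G v, tt G v u w = 60 := by
  simp only [tt]
  rw [sum_comm]
  simp only [← mul_sum]
  have : ∀ n ∈ nb G v, ad G u n * ∑ w ∈ far G v, ad G w n = ad G u n * 15 := fun n hn => by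
    rw [sum_congr rfl fun w _ => ad_comm w n, far_ad_nb h hn]
  rw [sum_congr rfl this, ← sum_mul, sum_nb_far h hu]
  norm_num

theorem far_ad_t {u u' : V} (hu : u ∈ far G v) (hu' : u' ∈ far G v) :
    ∑ w ∈ far G v, ad G u w * tt G v u' w = 16 - 4 * tt G v u u' := by
  simp only [tt, mul_sum]
  rw [sum_comm]
  have : ∀ n ∈ nb G v, ∑ w ∈ far G v, ad G u w * (ad G u' n * ad G w n) =
      4 * ad G u' n - 4 * (ad G u n * ad G u' n) := fun n hn => by
    rw [sum_congr rfl fun w _ => show ad G u w * (ad G u' n * ad G w n) = ad G u' n * (ad G u w * ad G n w) by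
      rw [ad_comm n w]; ring]
    rw [← mul_sum, far_ad_mixed h hu hn]; ring
  rw [sum_congr rfl this, sum_sub_distrib, ← mul_sum, sum_nb_far h hu', ← mul_sum]
  norm_num

theorem far_t_t {u u' : V} (hu : u ∈ far G v) (hu' : u' ∈ far G v) :
    ∑ w ∈ far G v, tt G v u w * tt G v u' w = 12 * tt G v u u' + 48 := by
  simp only [tt, sum_mul_sum]
  rw [sum_comm]
  have : ∀ n ∈ nb G v, ∑ w ∈ far G v, ∑ m ∈ nb G v, ad G u n * ad G w n * (ad G u' m * ad G w m) =
      12 * (ad G u n * ad G u' n) + 3 * (ad G u n * 4) := fun n hn => by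
    rw [sum_comm]
    have e : ∀ m ∈ nb G v, ∑ w ∈ far G v, ad G u n * ad G w n * (ad G u' m * ad G w m) =
        dl n m * (12 * (ad G u n * ad G u' m)) + 3 * (ad G u n * ad G u' m) := fun m hm => by
      rw [sum_congr rfl fun w _ => show ad G u n * ad G w n * (ad G u' m * ad G w m) =
        ad G u n * ad G u' m * (ad G n w * ad G m w) by rw [ad_comm n w, ad_comm m w]; ring]
      rw [← mul_sum, far_nb_nb h hn hm]; ring
    rw [sum_congr rfl e, sum_add_distrib, sum_dl hn, ← mul_sum, ← mul_sum, sum_nb_far h hu']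
  rw [sum_congr rfl this, sum_add_distrib, ← mul_sum, ← mul_sum, ← sum_mul, sum_nb_far h hu]
  norm_num

theorem card_far : #(far G v) = 60 := by
  have h1 : far G v = univ \ insert v (nb G v) := by ext w; simp [far, nb]
  have h2 : #(nb G v) = 16 := by
    rw [← h.regular v, ← SimpleGraph.card_neighborFinset_eq_degree]; congr 1; ext z; simp [nb]
  rw [h1, card_sdiff_of_subset (subset_univ _), card_insert_of_notMem (by simp [nb]), h2, card_univ, h.card]

/-- The matrix `S` is 48 times an idempotent. -/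
theorem S_sq {u u' : V} (hu : u ∈ far G v) (hu' : u' ∈ far G v) :
    ∑ w ∈ far G v, S G v u w * S G v u' w = 48 * S G v u u' := by
  have e : ∀ w, S G v u w * S G v u' w = 12 * (dl u w * S G v u' w) +
      12 * (dl u' w * (4 - 6 * ad G u w - 3 * tt G v u w)) + 16 + (-24) * ad G u w + (-24) * ad G u' w +
      (-12) * tt G v u w + (-12) * tt G v u' w + 36 * (ad G u w * ad G u' w) + 18 * (ad G u w * tt G v u' w) +
      18 * (ad G u' w * tt G v u w) + 9 * (tt G v u w * tt G v u' w) := fun w => by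
    simp only [S]; ring
  simp only [e, sum_add_distrib, ← mul_sum, sum_dl hu, sum_dl hu', far_ad h hu, far_ad h hu', far_t h hu, far_t h hu',
    far_ad_ad h hu hu', far_ad_t h hu hu', far_ad_t h hu' hu, far_t_t h hu hu', sum_const, card_far h]
  rw [S_comm v u' u, tt_comm v u' u]
  simp only [S]
  ring

theorem S_self {u : V} (hu : u ∈ far G v) : S G v u u = 4 := by
  have e : tt G v u u = 4 := by
    rw [tt, ← sum_nb_far h hu]; exact sum_congr rfl fun n _ => by unfold ad; split_ifs <;> rfl
  simp [S, e, dl, ad]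

theorem S_sum {u : V} (hu : u ∈ far G v) : ∑ w ∈ far G v, S G v u w = 0 := by
  have e : ∀ w, S G v u w = 12 * (dl u w * 1) + 4 + (-6) * ad G u w + (-3) * tt G v u w := fun w => by
    simp only [S]; ring
  simp only [e, sum_add_distrib, ← mul_sum, sum_dl hu, far_ad h hu, far_t h hu, sum_const, card_far h]
  norm_num

theorem val {u w : V} (hu : u ∈ far G v) (hw : w ∈ far G v) :
    S G v u w = 4 ∨ S G v u w = 1 ∨ S G v u w = -2 := by
  by_cases e : u = w
  · subst e; exact Or.inl (S_self h hu)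
  by_cases ha : G.Adj u w
  · have ht : tt G v u w = 0 := sum_eq_zero fun n _ => by
      unfold ad
      split_ifs with h1 h2 <;> simp
      exact no_triangle h ha h1 h2
    simp [S, ht, dl, ad, e, ha]
  have hS : S G v u w = 4 - 3 * tt G v u w := by simp [S, dl, ad, e, ha]
  have h0 : 0 ≤ tt G v u w := sum_nonneg fun n _ => by unfold ad; split_ifs <;> simp
  have h1 : (0 : ℤ) ≤ ∑ x ∈ far G v, (S G v u x + S G v w x) ^ 2 := sum_nonneg fun x _ => sq_nonneg _
  have e' : ∀ x, (S G v u x + S G v w x) ^ 2 =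
      S G v u x * S G v u x + 2 * (S G v u x * S G v w x) + S G v w x * S G v w x := fun x => by ring
  simp only [e', sum_add_distrib, ← mul_sum, S_sq h hu hu, S_sq h hu hw, S_sq h hw hw, S_self h hu, S_self h hw] at h1
  omega

theorem row_eq {u w : V} (hu : u ∈ far G v) (hw : w ∈ far G v) (huw : S G v u w = 4) {x : V} (hx : x ∈ far G v) :
    S G v u x = S G v w x := by
  have h1 : ∑ x ∈ far G v, (S G v u x - S G v w x) ^ 2 = 0 := by
    have e' : ∀ x, (S G v u x - S G v w x) ^ 2 =
        S G v u x * S G v u x + (-2) * (S G v u x * S G v w x) + S G v w x * S G v w x := fun x => by ring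
    simp only [e', sum_add_distrib, ← mul_sum, S_sq h hu hu, S_sq h hu hw, S_sq h hw hw, S_self h hu, S_self h hw, huw]
    norm_num
  have := (sum_eq_zero_iff_of_nonneg fun x _ => sq_nonneg _).1 h1 x hx
  have := pow_eq_zero_iff (two_ne_zero) |>.1 this
  omega

/-- The vertices in a given relation to `u`. -/
def rel (G : SimpleGraph V) [DecidableRel G.Adj] (v u : V) (c : ℤ) : Finset V :=
  (far G v).filter fun w => S G v u w = c

omit h in
theorem mem_rel {u w : V} {c : ℤ} : w ∈ rel G v u c ↔ w ∈ far G v ∧ S G v u w = c := mem_filter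

theorem card_rel {u : V} (hu : u ∈ far G v) :
    #(rel G v u 4) = 4 ∧ #(rel G v u (-2)) = 24 ∧ #(rel G v u 1) = 32 := by
  have hd : ∀ f : ℤ → ℤ, ∑ w ∈ far G v, f (S G v u w) =
      (#(rel G v u 4) : ℤ) * f 4 + (#(rel G v u (-2)) : ℤ) * f (-2) + (#(rel G v u 1) : ℤ) * f 1 := by
    intro f
    have e : ∀ w ∈ far G v, f (S G v u w) = (if S G v u w = 4 then f 4 else 0) +
        (if S G v u w = -2 then f (-2) else 0) + (if S G v u w = 1 then f 1 else 0) := fun w hw => by
      rcases val h hu hw with e | e | e <;> rw [e] <;> norm_num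
    rw [sum_congr rfl e, sum_add_distrib, sum_add_distrib, ← sum_filter, ← sum_filter, ← sum_filter]
    simp [rel, mul_comm]
  have h1 := hd fun _ => 1
  have h2 := hd fun s => s
  have h3 := hd fun s => s * s
  simp only [sum_const, card_far h, S_sum h hu, S_sq h hu hu, S_self h hu, nsmul_eq_mul, mul_one] at h1 h2 h3
  norm_num at h1 h2 h3
  omega

/-- Two rows with a given product share a given number of values `-2`. -/
theorem card_both {u w : V} (hu : u ∈ far G v) (hw : w ∈ far G v) :
    (S G v u w = -2 → #((rel G v u (-2)).filter fun x => S G v w x = -2) = 4) ∧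
    (S G v u w = 1 → #((rel G v u (-2)).filter fun x => S G v w x = -2) = 12) := by
  let p : V → V → ℤ := fun u x => if S G v u x = 4 then 1 else 0
  let m : V → V → ℤ := fun u x => if S G v u x = -2 then 1 else 0
  have hdec : ∀ u ∈ far G v, ∀ x ∈ far G v, S G v u x = 1 + 3 * p u x - 3 * m u x := fun u hu x hx => by
    rcases val h hu hx with e | e | e <;> simp [p, m, e]
  have hp : ∀ u ∈ far G v, ∑ x ∈ far G v, p u x = 4 := fun u hu => by
    simp only [p, sum_boole]; exact_mod_cast (card_rel h hu).1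
  have hm : ∀ u ∈ far G v, ∑ x ∈ far G v, m u x = 24 := fun u hu => by
    simp only [m, sum_boole]; exact_mod_cast (card_rel h hu).2.1
  have hmm : ∑ x ∈ far G v, m u x * m w x = (#((rel G v u (-2)).filter fun x => S G v w x = -2) : ℤ) := by
    rw [rel, filter_filter, ← sum_boole]
    refine sum_congr rfl fun x _ => ?_
    by_cases e1 : S G v u x = -2 <;> by_cases e2 : S G v w x = -2 <;> simp [m, e1, e2]
  have main : ∀ x ∈ far G v, S G v u x * S G v w x = 1 + 3 * p u x + (-3) * m u x + 3 * p w x + (-3) * m w x +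
      9 * (p u x * p w x) + (-9) * (p u x * m w x) + (-9) * (p w x * m u x) + 9 * (m u x * m w x) := fun x hx => by
    rw [hdec u hu x hx, hdec w hw x hx]; ring
  have hS := S_sq h hu hw
  rw [sum_congr rfl main] at hS
  simp only [sum_add_distrib, ← mul_sum, hp u hu, hp w hw, hm u hu, hm w hw, hmm, sum_const, card_far h] at hS
  have hk : ∀ u w, u ∈ far G v → w ∈ far G v → ∀ x ∈ far G v, S G v u x = 4 → S G v w x = S G v u w :=
    fun u w hu hw x hx e => by rw [row_eq h hu hx e hw, S_comm]
  have q1 : ∀ (c : ℤ), S G v u w = c → ∀ (f : ℤ → ℤ) x, x ∈ far G v → p u x * f (S G v w x) = p u x * f c := by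
    intro c hc f x hx
    by_cases e : S G v u x = 4
    · rw [hk u w hu hw x hx e, hc]
    · simp [p, e]
  constructor <;> intro hc <;> rw [hc] at hS
  · have e1 : ∑ x ∈ far G v, p u x * p w x = 0 := sum_eq_zero fun x hx => by
      rw [q1 _ hc (fun s => if s = 4 then 1 else 0) x hx]; norm_num
    have e2 : ∑ x ∈ far G v, p u x * m w x = 4 := by
      rw [← hp u hu]; refine sum_congr rfl fun x hx => ?_
      rw [q1 _ hc (fun s => if s = -2 then 1 else 0) x hx]; simp
    have e3 : ∑ x ∈ far G v, p w x * m u x = 4 := by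
      rw [← hp w hw]; refine sum_congr rfl fun x hx => ?_
      by_cases e : S G v w x = 4
      · simp [p, m, e, hk w u hw hu x hx e, S_comm v w u, hc]
      · simp [p, e]
    rw [e1, e2, e3] at hS
    norm_num at hS
    omega
  · have e1 : ∑ x ∈ far G v, p u x * p w x = 0 := sum_eq_zero fun x hx => by
      rw [q1 _ hc (fun s => if s = 4 then 1 else 0) x hx]; norm_num
    have e2 : ∑ x ∈ far G v, p u x * m w x = 0 := sum_eq_zero fun x hx => by
      rw [q1 _ hc (fun s => if s = -2 then 1 else 0) x hx]; norm_num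
    have e3 : ∑ x ∈ far G v, p w x * m u x = 0 := sum_eq_zero fun x hx => by
      by_cases e : S G v w x = 4
      · simp [p, m, hk w u hw hu x hx e, S_comm v w u, hc]
      · simp [p, e]
    rw [e1, e2, e3] at hS
    norm_num at hS
    omega

/-- The third row of a pair with product `-2`. -/
theorem exists_third {u w : V} (hu : u ∈ far G v) (hw : w ∈ far G v) (huw : S G v u w = -2) :
    ∃ z ∈ far G v, S G v u z = -2 ∧ S G v w z = -2 ∧
      ∀ x ∈ far G v, S G v u x + S G v w x + S G v z x = 0 := by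
  obtain ⟨z, hz⟩ := card_pos.1 (show 0 < #((rel G v u (-2)).filter fun x => S G v w x = -2) by
    rw [(card_both h hu hw).1 huw]; norm_num)
  simp only [mem_filter, mem_rel] at hz
  obtain ⟨⟨hz, h1⟩, h2⟩ := hz
  refine ⟨z, hz, h1, h2, fun x hx => ?_⟩
  have h0 : ∑ x ∈ far G v, (S G v u x + S G v w x + S G v z x) ^ 2 = 0 := by
    have e' : ∀ x, (S G v u x + S G v w x + S G v z x) ^ 2 = S G v u x * S G v u x + S G v w x * S G v w x +
        S G v z x * S G v z x + 2 * (S G v u x * S G v w x) + 2 * (S G v u x * S G v z x) +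
        2 * (S G v w x * S G v z x) := fun x => by ring
    simp only [e', sum_add_distrib, ← mul_sum, S_sq h hu hu, S_sq h hu hw, S_sq h hw hw, S_sq h hz hz, S_sq h hu hz,
      S_sq h hw hz, S_self h hu, S_self h hw, S_self h hz, huw, h1, h2]
    norm_num
  exact pow_eq_zero_iff (two_ne_zero) |>.1 ((sum_eq_zero_iff_of_nonneg fun x _ => sq_nonneg _).1 h0 x hx)

section Local

variable {u : V} (hu : u ∈ far G v)
include hu

/-- Degree twelve inside the set in relation one to `u`. -/
theorem deg_one {x : V} (hx : x ∈ rel G v u 1) :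
    #((rel G v u 1).filter fun y => S G v x y = -2) = 12 := by
  obtain ⟨hx, hux⟩ := mem_rel.1 hx
  have h1 := (card_both h hu hx).2 hux
  have h2 := (card_rel h hx).2.1
  have e : rel G v x (-2) = ((rel G v u (-2)).filter fun y => S G v x y = -2) ∪
      ((rel G v u 1).filter fun y => S G v x y = -2) := by
    ext y
    simp only [mem_union, mem_filter, mem_rel]
    constructor
    · rintro ⟨hy, e⟩
      rcases val h hu hy with e' | e' | e'
      · rw [S_comm, ← row_eq h hu hy e' hx, hux] at e; omega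
      · exact Or.inr ⟨⟨hy, e'⟩, e⟩
      · exact Or.inl ⟨⟨hy, e'⟩, e⟩
    · rintro (⟨⟨hy, -⟩, e⟩ | ⟨⟨hy, -⟩, e⟩) <;> exact ⟨hy, e⟩
  rw [e, card_union_of_disjoint, h1] at h2
  · omega
  · rw [Finset.disjoint_left]
    intro y h1 h2
    simp only [mem_filter, mem_rel] at h1 h2
    omega

theorem no_tri {x y z : V} (hx : x ∈ rel G v u 1) (hy : y ∈ rel G v u 1) (hz : z ∈ rel G v u 1)
    (hxy : S G v x y = -2) (hxz : S G v x z = -2) (hyz : S G v y z = -2) : False := by
  obtain ⟨hxf, hux⟩ := mem_rel.1 hx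
  obtain ⟨hyf, huy⟩ := mem_rel.1 hy
  obtain ⟨hzf, huz⟩ := mem_rel.1 hz
  obtain ⟨z', hz', h1, h2, hsum⟩ := exists_third h hxf hyf hxy
  have e1 := hsum u hu
  have e2 := hsum z hzf
  rw [hxz, hyz] at e2
  have e3 : S G v z' z = 4 := by omega
  have e4 := row_eq h hz' hzf e3 hu
  rw [S_comm v x u, hux, S_comm v y u, huy, e4, S_comm v z u, huz] at e1
  omega

/-- The complement of an independent half is independent. -/
theorem compl_indep {Y : Finset V} (hYU : Y ⊆ rel G v u 1) (hYc : #Y = 16)
    (hY : ∀ x ∈ Y, ∀ y ∈ Y, S G v x y ≠ -2) :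
    ∀ x ∈ rel G v u 1 \ Y, ∀ y ∈ rel G v u 1 \ Y, S G v x y ≠ -2 := by
  intro x hx y hy e
  have hcnt := sum_card_bipartiteAbove_eq_sum_card_bipartiteBelow (s := Y) (t := rel G v u 1 \ Y) (fun a b => S G v a b = -2)
  simp only [bipartiteAbove, bipartiteBelow] at hcnt
  have h1 : ∀ a ∈ Y, #((rel G v u 1 \ Y).filter fun b => S G v a b = -2) = 12 := fun a ha => by
    rw [← deg_one h hu (hYU ha)]
    congr 1
    ext b
    simp only [mem_filter, mem_sdiff]
    exact ⟨fun e => ⟨e.1.1, e.2⟩, fun e => ⟨⟨e.1, fun hb => hY a ha b hb e.2⟩, e.2⟩⟩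
  have h2 : ∀ b ∈ rel G v u 1 \ Y, #(Y.filter fun a => S G v a b = -2) ≤ 12 := fun b hb => by
    rw [← deg_one h hu (mem_sdiff.1 hb).1]
    refine card_le_card fun a ha => ?_
    simp only [mem_filter] at ha ⊢
    exact ⟨hYU ha.1, by rw [S_comm]; exact ha.2⟩
  have h3 : #(Y.filter fun a => S G v a x = -2) < 12 := by
    rw [← deg_one h hu (mem_sdiff.1 hx).1]
    refine card_lt_card ⟨fun a ha => ?_, fun hsub => ?_⟩
    · simp only [mem_filter] at ha ⊢
      exact ⟨hYU ha.1, by rw [S_comm]; exact ha.2⟩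
    · have := hsub (mem_filter.2 ⟨(mem_sdiff.1 hy).1, e⟩)
      exact (mem_sdiff.1 hy).2 (mem_filter.1 this).1
  have h4 := Finset.sum_lt_sum h2 ⟨x, hx, h3⟩
  rw [← hcnt, sum_congr rfl h1] at h4
  have hc : #(rel G v u 1 \ Y) = 16 := by rw [card_sdiff_of_subset hYU, hYc, (card_rel h hu).2.2]
  simp [hYc, hc] at h4

/-- A two-colouring of the set in relation one to `u`. -/
theorem exists_colour {x₀ : V} (hx₀ : x₀ ∈ rel G v u 1) :
    ∃ Y ⊆ rel G v u 1, x₀ ∈ Y ∧ #Y = 16 ∧ (∀ x ∈ Y, ∀ y ∈ Y, S G v x y ≠ -2) ∧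
      ∀ Y' ⊆ rel G v u 1, #Y' = 16 → (∀ x ∈ Y', ∀ y ∈ Y', S G v x y ≠ -2) → x₀ ∈ Y' → Y' = Y := by
  set U := rel G v u 1 with hU
  obtain ⟨hx₀f, hux₀⟩ := mem_rel.1 hx₀
  have hUf : ∀ {y}, y ∈ U → y ∈ far G v := fun hy => (mem_rel.1 hy).1
  have hUu : ∀ {y}, y ∈ U → S G v u y = 1 := fun hy => (mem_rel.1 hy).2
  set B0 := U.filter fun y => S G v x₀ y = -2 with hB0
  set A0 := U.filter fun y => S G v x₀ y = 4 with hA0
  set W := U.filter fun y => S G v x₀ y = 1 ∧ ∃ z ∈ B0, S G v y z = -2 with hW
  have hB : ∀ {z}, z ∈ B0 → z ∈ U ∧ S G v x₀ z = -2 := fun hz => mem_filter.1 hz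
  have hB0c : #B0 = 12 := deg_one h hu hx₀
  have hA0c : #A0 = 4 := by
    rw [← (card_rel h hx₀f).1]; congr 1
    ext y
    simp only [hA0, hU, mem_filter, mem_rel]
    exact ⟨fun e => ⟨e.1.1, e.2⟩, fun e => ⟨⟨e.1, by rw [S_comm, ← row_eq h hx₀f e.1 e.2 hu, S_comm, hux₀]⟩, e.2⟩⟩
  -- an element of `W` has eight neighbours in `B0`
  have key : ∀ y ∈ W, #(B0.filter fun z => S G v y z = -2) = 8 := by
    intro y hy
    obtain ⟨hyU, hxy, z, hzB, hyz⟩ := mem_filter.1 hy
    obtain ⟨hzU, hxz⟩ := hB hzB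
    have hyf := hUf hyU
    have hzf := hUf hzU
    obtain ⟨a, haf, hxa, hza, hsa⟩ := exists_third h hx₀f hzf hxz
    obtain ⟨b, hbf, hyb, hzb, hsb⟩ := exists_third h hyf hzf hyz
    have hua : S G v u a = -2 := by
      have := hsa u hu; rw [S_comm v x₀ u, hux₀, S_comm v z u, hUu hzU, S_comm v a u] at this; omega
    have hub : S G v u b = -2 := by
      have := hsb u hu; rw [S_comm v y u, hUu hyU, S_comm v z u, hUu hzU, S_comm v b u] at this; omega
    have hay : S G v a y = 1 := by
      have := hsa y hyf; rw [hxy, S_comm v z y, hyz] at this; omega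
    have hab : S G v a b = 1 := by
      have := hsb a haf; rw [S_comm v y a, hay, hza, S_comm v b a] at this; omega
    -- the common neighbours of `x₀` and `y` in relation `-2` to `u`
    set Q := (rel G v u (-2)).filter fun s => S G v x₀ s = -2 ∧ S G v y s = -2 with hQ
    have hQ1 : ∀ s ∈ Q, s ∈ far G v ∧ S G v u s = -2 ∧ S G v a s = 1 ∧ S G v b s = 1 := by
      intro s hs
      simp only [hQ, mem_filter, mem_rel] at hs
      obtain ⟨⟨hsf, hus⟩, hxs, hys⟩ := hs
      have e1 := hsa s hsf
      have e2 := hsb s hsf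
      rw [hxs] at e1
      rw [hys] at e2
      rcases val h haf hsf with e | e | e
      · exfalso
        have := row_eq h haf hsf e hyf
        rw [hay, S_comm v s y, hys] at this; omega
      · exact ⟨hsf, hus, e, by omega⟩
      · exfalso
        rw [e] at e1
        have h4 : S G v z s = 4 := by omega
        have := row_eq h hzf hsf h4 hu
        rw [S_comm v z u, hUu hzU, S_comm v s u, hus] at this; omega
    obtain ⟨a', ha'f, hua', haa', hsa'⟩ := exists_third h hu haf hua
    obtain ⟨b', hb'f, hub', hbb', hsb'⟩ := exists_third h hu hbf hub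
    -- the part of `rel u (-2)` in relation one to both `a` and `b`
    set L := (rel G v u (-2)).filter fun s => S G v a s = 1 ∧ S G v b s = 1 with hL
    have hLc : #L = 8 := by
      have hsplit : ∀ c c', c ∈ far G v → c' ∈ far G v → S G v u c = -2 → S G v c c' = -2 → S G v u c' = -2 →
          (∀ x ∈ far G v, S G v u x + S G v c x + S G v c' x = 0) → ∀ s ∈ rel G v u (-2),
          (S G v c s = 1 ↔ s ∉ rel G v c 4 ∪ rel G v c' 4) := by
        intro c c' hc hc' h1 h2 h3 hsum s hs
        obtain ⟨hsf, hus⟩ := mem_rel.1 hs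
        have := hsum s hsf
        rw [hus] at this
        simp only [mem_union, mem_rel, hsf, true_and, not_or]
        rcases val h hc hsf with e | e | e <;> rcases val h hc' hsf with e' | e' | e' <;> omega
      have hsub : ∀ c, S G v u c = -2 → c ∈ far G v → rel G v c 4 ⊆ rel G v u (-2) := fun c h1 hc s hs => by
        obtain ⟨hsf, e⟩ := mem_rel.1 hs
        exact mem_rel.2 ⟨hsf, by rw [S_comm, ← row_eq h hc hsf e hu, S_comm, h1]⟩
      have hba' : S G v a' b = 1 := by
        have := hsa' b hbf; rw [hub, hab] at this; omega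
      have hab' : S G v a b' = 1 := by
        have := hsb' a haf; rw [hua, S_comm v b a, hab, S_comm v b' a] at this; omega
      have ha'b' : S G v a' b' = 1 := by
        have := hsa' b' hb'f; rw [hub', hab'] at this; omega
      have hdisj : ∀ c c', c ∈ far G v → c' ∈ far G v → S G v c c' ≠ 4 → Disjoint (rel G v c 4) (rel G v c' 4) :=
        fun c c' hc hc' hne => by
          rw [Finset.disjoint_left]
          intro s h1 h2
          obtain ⟨hsf, e1⟩ := mem_rel.1 h1
          obtain ⟨-, e2⟩ := mem_rel.1 h2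
          refine hne ?_
          rw [row_eq h hc hsf e1 hc', S_comm, e2]
      have hL' : L = rel G v u (-2) \ ((rel G v a 4 ∪ rel G v a' 4) ∪ (rel G v b 4 ∪ rel G v b' 4)) := by
        ext s
        simp only [hL, mem_filter, mem_sdiff]
        constructor
        · rintro ⟨hs, e1, e2⟩
          refine ⟨hs, fun e => ?_⟩
          rcases mem_union.1 e with e | e
          · exact (hsplit a a' haf ha'f hua haa' hua' hsa' s hs).1 e1 e
          · exact (hsplit b b' hbf hb'f hub hbb' hub' hsb' s hs).1 e2 e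
        · rintro ⟨hs, e⟩
          rw [mem_union, not_or] at e
          exact ⟨hs, (hsplit a a' haf ha'f hua haa' hua' hsa' s hs).2 e.1,
            (hsplit b b' hbf hb'f hub hbb' hub' hsb' s hs).2 e.2⟩
      rw [hL', card_sdiff_of_subset (union_subset (union_subset (hsub a hua haf) (hsub a' hua' ha'f))
        (union_subset (hsub b hub hbf) (hsub b' hub' hb'f)))]
      rw [card_union_of_disjoint, card_union_of_disjoint (hdisj a a' haf ha'f (by omega)),
        card_union_of_disjoint (hdisj b b' hbf hb'f (by omega)), (card_rel h haf).1, (card_rel h ha'f).1,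
        (card_rel h hbf).1, (card_rel h hb'f).1, (card_rel h hu).2.1]
      rw [Finset.disjoint_union_left, Finset.disjoint_union_right, Finset.disjoint_union_right]
      exact ⟨⟨hdisj a b haf hbf (by omega), hdisj a b' haf hb'f (by omega)⟩,
        hdisj a' b ha'f hbf (by omega), hdisj a' b' ha'f hb'f (by omega)⟩
    obtain ⟨s₀, hs₀⟩ := card_pos.1 (show 0 < #L by omega)
    simp only [hL, mem_filter, mem_rel] at hs₀
    obtain ⟨⟨hs₀f, hus₀⟩, has₀, hbs₀⟩ := hs₀
    obtain ⟨s₁, hs₁f, hus₁, hs₀₁, hss⟩ := exists_third h hu hs₀f hus₀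
    have has₁ : S G v a s₁ = 1 := by
      have := hss a haf; rw [hua, S_comm v s₀ a, has₀, S_comm v s₁ a] at this; omega
    have hbs₁ : S G v b s₁ = 1 := by
      have := hss b hbf; rw [hub, S_comm v s₀ b, hbs₀, S_comm v s₁ b] at this; omega
    have hKL : ∀ s, s ∈ far G v → S G v u s = -2 → S G v a s = 1 → S G v b s = 1 → rel G v s 4 ⊆ L := by
      intro s hsf h1 h2 h3 r hr
      obtain ⟨hrf, e⟩ := mem_rel.1 hr
      simp only [hL, mem_filter, mem_rel]
      refine ⟨⟨hrf, ?_⟩, ?_, ?_⟩ <;> rw [S_comm, ← row_eq h hsf hrf e (by assumption), S_comm] <;> assumption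
    have hLeq : L = rel G v s₀ 4 ∪ rel G v s₁ 4 := by
      symm
      refine eq_of_subset_of_card_le (union_subset (hKL _ hs₀f hus₀ has₀ hbs₀) (hKL _ hs₁f hus₁ has₁ hbs₁)) ?_
      rw [hLc, card_union_of_disjoint, (card_rel h hs₀f).1, (card_rel h hs₁f).1]
      rw [Finset.disjoint_left]
      intro s h1 h2
      obtain ⟨hsf, e1⟩ := mem_rel.1 h1
      obtain ⟨-, e2⟩ := mem_rel.1 h2
      have := row_eq h hs₀f hsf e1 hs₁f
      rw [hs₀₁, S_comm v s s₁, e2] at this; omega
    -- `Q` is one class
    have hQc : #Q = 4 := by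
      have hval : ∀ s, s ∈ far G v → S G v a s = 1 → S G v b s = 1 → S G v y s = S G v x₀ s := fun s hsf h1 h2 => by
        have e1 := hsa s hsf
        have e2 := hsb s hsf
        omega
      have hx2 : S G v x₀ s₀ + S G v x₀ s₁ = -1 := by
        have := hss x₀ hx₀f; rw [hux₀, S_comm v s₀ x₀, S_comm v s₁ x₀] at this; omega
      obtain ⟨d, hd', d', hd'', hdd, hd, hnd⟩ : ∃ d, d ∈ far G v ∧ ∃ d', d' ∈ far G v ∧
          L = rel G v d 4 ∪ rel G v d' 4 ∧ S G v x₀ d = -2 ∧ S G v x₀ d' ≠ -2 := by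
        rcases val h hx₀f hs₀f with e | e | e
        · exfalso; rcases val h hx₀f hs₁f with e' | e' | e' <;> omega
        · exact ⟨s₁, hs₁f, s₀, hs₀f, by rw [hLeq, union_comm], by omega, by omega⟩
        · exact ⟨s₀, hs₀f, s₁, hs₁f, hLeq, e, by omega⟩
      rw [← (card_rel h hd').1]
      congr 1
      ext s
      constructor
      · intro hs
        obtain ⟨hsf, hus, has, hbs⟩ := hQ1 s hs
        have hsL : s ∈ L := by simp [hL, mem_rel, hsf, hus, has, hbs]
        rw [hdd, mem_union] at hsL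
        refine hsL.resolve_right fun e => hnd ?_
        simp only [hQ, mem_filter] at hs
        rw [S_comm v x₀ d', row_eq h hd'' hsf (mem_rel.1 e).2 hx₀f, S_comm, hs.2.1]
      · intro hs
        have hsL : s ∈ L := by rw [hdd]; exact mem_union_left _ hs
        obtain ⟨hsf, e⟩ := mem_rel.1 hs
        simp only [hL, mem_filter, mem_rel] at hsL
        have hxs : S G v x₀ s = -2 := by rw [S_comm, ← row_eq h hd' hsf e hx₀f, S_comm, hd]
        simp only [hQ, mem_filter, mem_rel]
        exact ⟨hsL.1, hxs, by rw [hval s hsf hsL.2.1 hsL.2.2, hxs]⟩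
    -- so eight of the twelve common ones lie in `B0`
    have h12 := (card_both h hx₀f hyf).2 hxy
    have hpart : (rel G v x₀ (-2)).filter (fun s => S G v y s = -2) = Q ∪ B0.filter (fun z => S G v y z = -2) := by
      ext s
      simp only [hQ, hB0, hU, mem_union, mem_filter, mem_rel]
      constructor
      · rintro ⟨⟨hsf, e1⟩, e2⟩
        rcases val h hu hsf with e | e | e
        · exfalso
          have := row_eq h hu hsf e hx₀f
          rw [hux₀, S_comm v s x₀, e1] at this; omega
        · exact Or.inr ⟨⟨⟨hsf, e⟩, e1⟩, e2⟩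
        · exact Or.inl ⟨⟨hsf, e⟩, e1, e2⟩
      · rintro (⟨⟨hsf, -⟩, e1, e2⟩ | ⟨⟨⟨hsf, -⟩, e1⟩, e2⟩) <;> exact ⟨⟨hsf, e1⟩, e2⟩
    rw [hpart, card_union_of_disjoint, hQc] at h12
    · omega
    · rw [Finset.disjoint_left]
      intro s h1 h2
      simp only [hQ, hB0, hU, mem_filter, mem_rel] at h1 h2
      omega
  -- independence of `A0 ∪ W`
  have hYind : ∀ x ∈ A0 ∪ W, ∀ y ∈ A0 ∪ W, S G v x y ≠ -2 := by
    have hA : ∀ a ∈ A0, ∀ y ∈ A0 ∪ W, S G v a y ≠ -2 := by
      intro a ha y hy e
      obtain ⟨haU, hxa⟩ := mem_filter.1 ha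
      have hyU : y ∈ U := (mem_union.1 hy).elim (fun h => (mem_filter.1 h).1) (fun h => (mem_filter.1 h).1)
      rw [← row_eq h hx₀f (hUf haU) hxa (hUf hyU)] at e
      rcases mem_union.1 hy with hy | hy
      · rw [(mem_filter.1 hy).2] at e; omega
      · rw [(mem_filter.1 hy).2.1] at e; omega
    intro x hx y hy e
    rcases mem_union.1 hx with hx' | hx'
    · exact hA x hx' y hy e
    rcases mem_union.1 hy with hy' | hy'
    · exact hA y hy' x hx (by rw [S_comm]; exact e)
    have hxU := (mem_filter.1 hx').1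
    have hyU := (mem_filter.1 hy').1
    have hd : Disjoint (B0.filter fun z => S G v x z = -2) (B0.filter fun z => S G v y z = -2) := by
      rw [Finset.disjoint_left]
      intro z h1 h2
      exact no_tri h hu hxU hyU (hB (mem_filter.1 h1).1).1 e (mem_filter.1 h1).2 (mem_filter.1 h2).2
    have := card_le_card (union_subset (filter_subset (fun z => S G v x z = -2) B0) (filter_subset (fun z => S G v y z = -2) B0))
    rw [card_union_of_disjoint hd, key x hx', key y hy', hB0c] at this
    omega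
  -- each vertex of `B0` has eight neighbours in `W`, so `W` has twelve elements
  have hBW : ∀ z ∈ B0, #(W.filter fun y => S G v y z = -2) = 8 := by
    intro z hz
    obtain ⟨hzU, hxz⟩ := hB hz
    have h1 := deg_one h hu hzU
    have e : U.filter (fun y => S G v z y = -2) = A0 ∪ W.filter (fun y => S G v y z = -2) := by
      ext y
      simp only [hA0, hW, mem_union, mem_filter]
      constructor
      · rintro ⟨hyU, e⟩
        rcases val h hx₀f (hUf hyU) with e' | e' | e'
        · exact Or.inl ⟨hyU, e'⟩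
        · exact Or.inr ⟨⟨hyU, e', z, hz, by rw [S_comm]; exact e⟩, by rw [S_comm]; exact e⟩
        · exact (no_tri h hu hx₀ hzU hyU hxz e' e).elim
      · rintro (⟨hyU, e⟩ | ⟨⟨hyU, -⟩, e⟩)
        · exact ⟨hyU, by rw [S_comm, ← row_eq h hx₀f (hUf hyU) e (hUf hzU), hxz]⟩
        · exact ⟨hyU, by rw [S_comm]; exact e⟩
    rw [e, card_union_of_disjoint, hA0c] at h1
    · omega
    · rw [Finset.disjoint_left]
      intro y h1 h2
      simp only [hA0, hW, mem_filter] at h1 h2
      omega
  have hWc : #W = 12 := by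
    have := sum_card_bipartiteAbove_eq_sum_card_bipartiteBelow (s := W) (t := B0) (fun y z => S G v y z = -2)
    simp only [bipartiteAbove, bipartiteBelow] at this
    rw [sum_congr rfl key, sum_congr rfl hBW, sum_const, sum_const, hB0c, smul_eq_mul, smul_eq_mul] at this
    omega
  have hYc : #(A0 ∪ W) = 16 := by
    rw [card_union_of_disjoint, hA0c, hWc]
    rw [Finset.disjoint_left]
    intro y h1 h2
    simp only [hA0, hW, mem_filter] at h1 h2
    omega
  have hYU : A0 ∪ W ⊆ U := union_subset (filter_subset _ _) (filter_subset _ _)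
  refine ⟨A0 ∪ W, hYU, mem_union_left _ (mem_filter.2 ⟨hx₀, S_self h hx₀f⟩), hYc, hYind, ?_⟩
  -- an independent half meets every edge once
  intro Y' hY'U hY'c hY'ind hxY'
  have hout := fun Z (hZU : Z ⊆ U) hZc hZ => compl_indep (Y := Z) h hu hZU hZc hZ
  refine eq_of_subset_of_card_le (fun y hy => ?_) (by rw [hYc, hY'c]) |>.symm
  by_contra hny
  have hyU := hYU hy
  rcases mem_union.1 hy with hy | hy
  · obtain ⟨z, hz⟩ := card_pos.1 (show 0 < #B0 by omega)
    obtain ⟨hzU, hxz⟩ := hB hz
    have hzn : z ∉ Y' := fun e => hY'ind x₀ hxY' z e hxz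
    refine hout Y' hY'U hY'c hY'ind y (mem_sdiff.2 ⟨hyU, hny⟩) z (mem_sdiff.2 ⟨hzU, hzn⟩) ?_
    rw [← row_eq h hx₀f (hUf hyU) (mem_filter.1 hy).2 (hUf hzU)]; exact hxz
  · obtain ⟨-, -, z, hz, hyz⟩ := mem_filter.1 hy
    obtain ⟨hzU, hxz⟩ := hB hz
    have hzn : z ∉ Y' := fun e => hY'ind x₀ hxY' z e hxz
    exact hout Y' hY'U hY'c hY'ind y (mem_sdiff.2 ⟨hyU, hny⟩) z (mem_sdiff.2 ⟨hzU, hzn⟩) hyz

end Local

theorem S_adj {x y : V} (ha : G.Adj x y) : S G v x y = -2 := by
  have ht : tt G v x y = 0 := sum_eq_zero fun n _ => by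
    unfold ad
    split_ifs with h1 h2 <;> simp
    exact no_triangle h ha h1 h2
  simp [S, ht, dl, ad, ha.ne, ha]

/-- The independent sets of 21 vertices. -/
def Coc (G : SimpleGraph V) [DecidableRel G.Adj] : Finset (Finset V) :=
  univ.filter fun C => #C = 21 ∧ ∀ x ∈ C, ∀ y ∈ C, ¬ G.Adj x y

omit h in
theorem mem_coc {C : Finset V} : C ∈ Coc G ↔ #C = 21 ∧ ∀ x ∈ C, ∀ y ∈ C, ¬ G.Adj x y := by simp [Coc]

theorem nbrs_in_coc {C : Finset V} (hC : C ∈ Coc G) {x : V} (hx : x ∉ C) : ∑ y ∈ C, ad G x y = 6 := by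
  obtain ⟨hCc, hCi⟩ := mem_coc.1 hC
  set f : V → ℤ := fun x => ∑ y ∈ C, ad G x y with hf
  have hin : ∀ z ∈ C, f z = 0 := fun z hz => sum_eq_zero fun y hy => by simp [ad, hCi z hz y hy]
  have h1 : ∑ z, f z = 336 := by
    simp only [hf]
    rw [sum_comm, sum_congr rfl (g := fun _ => (16 : ℤ)) fun y _ => by
      rw [sum_congr rfl fun z _ => ad_comm z y, sum_univ_ad h], sum_const, hCc]
    norm_num
  have h2 : ∑ z, f z * f z = 2016 := by
    simp only [hf, sum_mul_sum]
    rw [sum_comm]
    have e : ∀ a ∈ C, ∑ z, ∑ b ∈ C, ad G z a * ad G z b = 96 := fun a ha => by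
      rw [sum_comm, sum_congr rfl (g := fun b => 12 * (dl a b * 1) + 4) fun b hb => ?_]
      · rw [sum_add_distrib, ← mul_sum, sum_dl ha, sum_const, hCc]; norm_num
      · rw [sum_congr rfl fun z _ => show ad G z a * ad G z b = ad G a z * ad G b z by rw [ad_comm z a, ad_comm z b],
          common_univ h]
        simp [ad, hCi a ha b hb]
    rw [sum_congr rfl e, sum_const, hCc]
    norm_num
  have h0 : ∑ z ∈ univ \ C, (f z - 6) ^ 2 = 0 := by
    have e : ∀ z, (f z - 6) ^ 2 = f z * f z + (-12) * f z + 36 := fun z => by ring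
    have a1 : ∑ z ∈ univ \ C, f z = 336 := by
      rw [← h1, ← sum_sdiff (subset_univ C), sum_eq_zero hin, add_zero]
    have a2 : ∑ z ∈ univ \ C, f z * f z = 2016 := by
      rw [← h2, ← sum_sdiff (subset_univ C), sum_eq_zero (s := C) fun z hz => by rw [hin z hz, mul_zero], add_zero]
    simp only [e, sum_add_distrib, ← mul_sum, a1, a2, sum_const]
    rw [card_sdiff_of_subset (subset_univ _), card_univ, h.card, hCc]
    norm_num
  have := (sum_eq_zero_iff_of_nonneg fun x _ => sq_nonneg _).1 h0 x (mem_sdiff.2 ⟨mem_univ _, hx⟩)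
  have := pow_eq_zero_iff (two_ne_zero) |>.1 this
  show f x = 6
  omega

/-- The traces of the independent sets of 21 vertices through `v` and `u`. -/
theorem coc_struct {C : Finset V} (hC : C ∈ Coc G) {u : V} (hvC : v ∈ C) (huC : u ∈ C) (hu : u ∈ far G v) :
    rel G v u 4 ⊆ C.erase v ∧ C.erase v ⊆ rel G v u 4 ∪ rel G v u 1 ∧
      #((C.erase v).filter fun x => S G v u x = 1) = 16 := by
  obtain ⟨hCc, hCi⟩ := mem_coc.1 hC
  set C' := C.erase v with hC'
  have hcard : #C' = 20 := by rw [hC', card_erase_of_mem hvC, hCc]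
  have hsub : C' ⊆ far G v := fun x hx => by
    simp [far, (mem_erase.1 hx).1, hCi v hvC x (mem_erase.1 hx).2]
  have hn5 : ∀ n ∈ nb G v, ∑ x ∈ C', ad G x n = 5 := fun n hn => by
    have hnv : G.Adj v n := by simpa [nb] using hn
    have := nbrs_in_coc h hC (x := n) fun hn' => hCi v hvC n hn' hnv
    rw [← add_sum_erase _ _ hvC, nb_adj h hn] at this
    rw [sum_congr rfl fun x _ => ad_comm x n, hC']
    linarith
  have hsum : ∀ w ∈ far G v, ∑ x ∈ C', S G v w x = if w ∈ C' then 32 else -16 := fun w hw => by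
    have et : ∑ x ∈ C', tt G v w x = 20 := by
      simp only [tt]
      rw [sum_comm, sum_congr rfl (g := fun n => ad G w n * 5) fun n hn => by rw [← mul_sum, hn5 n hn],
        ← sum_mul, sum_nb_far h hw]
      norm_num
    have e : ∀ x, S G v w x = 12 * dl w x + 4 + (-6) * ad G w x + (-3) * tt G v w x := fun x => by
      simp only [S]; ring
    simp only [e, sum_add_distrib, ← mul_sum, et, sum_const, hcard]
    by_cases hwC : w ∈ C'
    · have e1 : ∑ x ∈ C', dl w x = 1 := by simp [dl, hwC]
      have e2 : ∑ x ∈ C', ad G w x = 0 := sum_eq_zero fun x hx => by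
        simp [ad, hCi w (mem_erase.1 hwC).2 x (mem_erase.1 hx).2]
      rw [if_pos hwC, e1, e2]; norm_num
    · have hwne : w ∉ C := fun e => hwC (mem_erase.2 ⟨(mem_filter.1 hw).2.1, e⟩)
      have e1 : ∑ x ∈ C', dl w x = 0 := by simp [dl, hwC]
      have e2 : ∑ x ∈ C', ad G w x = 6 := by
        have := nbrs_in_coc h hC hwne
        rw [← add_sum_erase _ _ hvC, far_adj h hw, zero_add] at this
        exact this
      rw [if_neg hwC, e1, e2]; norm_num
  have huC' : u ∈ C' := mem_erase.2 ⟨(mem_filter.1 hu).2.1, huC⟩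
  have hu32 : ∑ x ∈ C', S G v u x = 32 := by rw [hsum u hu, if_pos huC']
  have h4 : rel G v u 4 ⊆ C' := fun w hw => by
    obtain ⟨hwf, e⟩ := mem_rel.1 hw
    by_contra hn
    have h1 := hsum w hwf
    rw [if_neg hn, ← sum_congr rfl fun x hx => row_eq h hu hwf e (hsub hx), hu32] at h1
    omega
  have hd : ∀ x ∈ C' \ rel G v u 4, S G v u x ≤ 1 ∧ (S G v u x = 1 ∨ S G v u x = -2) := fun x hx => by
    obtain ⟨hx, hn⟩ := mem_sdiff.1 hx
    rcases val h hu (hsub hx) with e | e | e
    · exact absurd (mem_rel.2 ⟨hsub hx, e⟩) hn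
    · exact ⟨e.le, Or.inl e⟩
    · exact ⟨by omega, Or.inr e⟩
  have hdc : #(C' \ rel G v u 4) = 16 := by rw [card_sdiff_of_subset h4, hcard, (card_rel h hu).1]
  have h16 : ∑ x ∈ C' \ rel G v u 4, S G v u x = 16 := by
    have := sum_sdiff (f := S G v u) h4
    rw [hu32, sum_congr rfl (g := fun _ => (4 : ℤ)) (s₁ := rel G v u 4) fun x hx => (mem_rel.1 hx).2,
      sum_const, (card_rel h hu).1] at this
    norm_num at this
    linarith
  have hone : ∀ x ∈ C' \ rel G v u 4, S G v u x = 1 := by
    refine (sum_eq_sum_iff_of_le fun x hx => (hd x hx).1).1 ?_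
    rw [h16, sum_const, hdc]; norm_num
  refine ⟨h4, fun x hx => ?_, ?_⟩
  · by_cases hx4 : x ∈ rel G v u 4
    · exact mem_union_left _ hx4
    · exact mem_union_right _ (mem_rel.2 ⟨hsub hx, hone x (mem_sdiff.2 ⟨hx, hx4⟩)⟩)
  · rw [← hdc]; congr 1
    ext x
    simp only [mem_filter, mem_sdiff, mem_rel]
    constructor
    · rintro ⟨hx, e⟩; exact ⟨hx, fun e' => by omega⟩
    · rintro ⟨hx, hn⟩; exact ⟨hx, hone x (mem_sdiff.2 ⟨hx, fun e => hn (mem_rel.1 e)⟩)⟩

theorem card_coc_pair {u : V} (hu : u ∈ far G v) : #((Coc G).filter fun C => v ∈ C ∧ u ∈ C) = 2 := by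
  set U := rel G v u 1 with hU
  have hUc : #U = 32 := (card_rel h hu).2.2
  obtain ⟨x₀, hx₀⟩ := card_pos.1 (show 0 < #U by omega)
  obtain ⟨Y, hYU, hxY, hYc, hYi, huniq⟩ := exists_colour h hu hx₀
  have hZi := compl_indep h hu hYU hYc hYi
  have hZc : #(U \ Y) = 16 := by rw [card_sdiff_of_subset hYU, hUc, hYc]
  set mk : Finset V → Finset V := fun Z => insert v (rel G v u 4 ∪ Z) with hmk
  have hufar : ∀ {x}, x ∈ far G v → x ≠ v ∧ ¬ G.Adj v x := fun hx => (mem_filter.1 hx).2
  have hmem : ∀ Z ⊆ U, #Z = 16 → (∀ x ∈ Z, ∀ y ∈ Z, S G v x y ≠ -2) →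
      mk Z ∈ (Coc G).filter fun C => v ∈ C ∧ u ∈ C := by
    intro Z hZU hZc hZi
    have hd : Disjoint (rel G v u 4) Z := by
      rw [Finset.disjoint_left]; intro x h1 h2
      have e1 := (mem_rel.1 h1).2; have e2 := (mem_rel.1 (hZU h2)).2; omega
    have hf : ∀ x ∈ rel G v u 4 ∪ Z, x ∈ far G v := fun x hx =>
      (mem_union.1 hx).elim (fun e => (mem_rel.1 e).1) fun e => (mem_rel.1 (hZU e)).1
    have hindep : ∀ x ∈ rel G v u 4 ∪ Z, ∀ y ∈ rel G v u 4 ∪ Z, S G v x y ≠ -2 := by
      have h4 : ∀ x ∈ rel G v u 4, ∀ y ∈ rel G v u 4 ∪ Z, S G v x y ≠ -2 := fun x hx y hy e => by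
        obtain ⟨hxf, ex⟩ := mem_rel.1 hx
        rw [← row_eq h hu hxf ex (hf y hy)] at e
        rcases mem_union.1 hy with hy | hy
        · rw [(mem_rel.1 hy).2] at e; omega
        · rw [(mem_rel.1 (hZU hy)).2] at e; omega
      intro x hx y hy
      rcases mem_union.1 hx with hx' | hx'
      · exact h4 x hx' y hy
      rcases mem_union.1 hy with hy' | hy'
      · rw [S_comm]; exact h4 y hy' x hx
      · exact hZi x hx' y hy'
    refine mem_filter.2 ⟨mem_coc.2 ⟨?_, fun x hx y hy ha => ?_⟩, mem_insert_self _ _,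
      mem_insert_of_mem (mem_union_left _ (mem_rel.2 ⟨hu, S_self h hu⟩))⟩
    · rw [hmk, card_insert_of_notMem (fun e => (hufar (hf v e)).1 rfl), card_union_of_disjoint hd,
        (card_rel h hu).1, hZc]
    · rcases mem_insert.1 hx with rfl | hx <;> rcases mem_insert.1 hy with rfl | hy
      · exact ha.ne rfl
      · exact (hufar (hf y hy)).2 ha
      · exact (hufar (hf x hx)).2 ha.symm
      · exact hindep x hx y hy (S_adj h ha)
  have hset : (Coc G).filter (fun C => v ∈ C ∧ u ∈ C) = {mk Y, mk (U \ Y)} := by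
    apply Finset.Subset.antisymm
    · intro C hC
      obtain ⟨hC, hvC, huC⟩ := mem_filter.1 hC
      obtain ⟨h4, h41, h16⟩ := coc_struct h hC hvC huC hu
      set Z := (C.erase v).filter fun x => S G v u x = 1 with hZ
      have hCi := (mem_coc.1 hC).2
      have hZU : Z ⊆ U := fun x hx => by
        obtain ⟨hx, e⟩ := mem_filter.1 hx
        exact (mem_union.1 (h41 hx)).elim (fun e' => by have := (mem_rel.1 e').2; omega) id
      have hZi' : ∀ x ∈ Z, ∀ y ∈ Z, S G v x y ≠ -2 := by
        intro x hx y hy e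
        have hxf := (mem_rel.1 (hZU hx)).1
        have := (coc_struct h hC hvC (mem_erase.1 (mem_filter.1 hx).1).2 hxf).2.1 (mem_filter.1 hy).1
        rcases mem_union.1 this with e' | e' <;> have := (mem_rel.1 e').2 <;> omega
      have hCeq : C = mk Z := by
        rw [hmk, ← insert_erase hvC]
        congr 1
        · ext x
          rw [mem_union]
          constructor
          · intro hx
            rcases mem_union.1 (h41 hx) with e | e
            · exact Or.inl e
            · exact Or.inr (mem_filter.2 ⟨hx, (mem_rel.1 e).2⟩)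
          · rintro (e | e)
            · exact h4 e
            · exact (mem_filter.1 e).1
      rw [mem_insert, mem_singleton]
      by_cases hxZ : x₀ ∈ Z
      · exact Or.inl (by rw [hCeq, huniq Z hZU h16 hZi' hxZ])
      · refine Or.inr ?_
        have := huniq (U \ Z) sdiff_subset (by rw [card_sdiff_of_subset hZU, hUc, h16])
          (compl_indep h hu hZU h16 hZi') (mem_sdiff.2 ⟨hx₀, hxZ⟩)
        rw [hCeq, ← this, sdiff_sdiff_right_self]
        simp [hZU]
    · intro C hC
      rw [mem_insert, mem_singleton] at hC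
      rcases hC with rfl | rfl
      · exact hmem Y hYU hYc hYi
      · exact hmem _ sdiff_subset hZc hZi
  rw [hset, card_pair]
  intro e
  have hxm : x₀ ∈ mk (U \ Y) := e ▸ mem_insert_of_mem (mem_union_right _ hxY)
  rcases mem_insert.1 hxm with rfl | hxm
  · exact (hufar (mem_rel.1 hx₀).1).1 rfl
  · rcases mem_union.1 hxm with hxm | hxm
    · have := (mem_rel.1 hxm).2; have := (mem_rel.1 hx₀).2; omega
    · exact (mem_sdiff.1 hxm).2 hxY

theorem card_coc_through (v : V) : #((Coc G).filter fun C => v ∈ C) = 6 := by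
  have key := sum_card_bipartiteAbove_eq_sum_card_bipartiteBelow (s := far G v)
    (t := (Coc G).filter fun C => v ∈ C) (fun u C => u ∈ C)
  simp only [bipartiteAbove, bipartiteBelow, filter_filter] at key
  have h2 : ∀ C ∈ (Coc G).filter (fun C => v ∈ C), #((far G v).filter fun u => u ∈ C) = 20 := fun C hC => by
    obtain ⟨hC, hvC⟩ := mem_filter.1 hC
    obtain ⟨hCc, hCi⟩ := mem_coc.1 hC
    have e : (far G v).filter (fun u => u ∈ C) = C.erase v := by
      ext u
      simp only [far, mem_filter, mem_univ, true_and, mem_erase]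
      exact ⟨fun e => ⟨e.1.1, e.2⟩, fun e => ⟨⟨e.1, hCi v hvC u e.2⟩, e.2⟩⟩
    rw [e, card_erase_of_mem hvC, hCc]
  rw [sum_congr rfl fun u hu => card_coc_pair h hu, sum_congr rfl h2, sum_const, sum_const, card_far h,
    smul_eq_mul, smul_eq_mul] at key
  omega

theorem card_coc : #(Coc G) = 22 := by
  have key := sum_card_bipartiteAbove_eq_sum_card_bipartiteBelow (s := (univ : Finset V))
    (t := Coc G) (fun u C => u ∈ C)
  simp only [bipartiteAbove, bipartiteBelow] at key
  have e : ∀ C ∈ Coc G, #((univ : Finset V).filter fun u => u ∈ C) = 21 := fun C hC => by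
    rw [← (mem_coc.1 hC).1]; congr 1; ext u; simp
  rw [sum_congr rfl fun u _ => card_coc_through h u, sum_congr rfl e, sum_const, sum_const,
    smul_eq_mul, smul_eq_mul, card_univ, h.card] at key
  omega

/-- The points: the independent sets of 21 vertices. -/
abbrev Pt (G : SimpleGraph V) [DecidableRel G.Adj] : Type _ := {C : Finset V // C ∈ Coc G}

/-- The block attached to a vertex. -/
def blk (G : SimpleGraph V) [DecidableRel G.Adj] (x : V) : Finset (Pt G) := univ.filter fun C : Pt G => x ∈ C.1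

/-- The family of blocks. -/
def family (G : SimpleGraph V) [DecidableRel G.Adj] : Set (Finset (Pt G)) := ↑((univ : Finset V).image (blk G))

omit h in
theorem card_subtype_coc (p : Finset V → Prop) [DecidablePred p] :
    #((univ : Finset (Pt G)).filter fun C => p C.1) = #((Coc G).filter p) := by
  rw [← card_map (Function.Embedding.subtype fun C => C ∈ Coc G)]
  congr 1; ext C; simp [and_comm]

theorem card_pt : Fintype.card (Pt G) = 22 := by
  rw [Fintype.card_coe]; exact card_coc h

theorem card_blk (x : V) : #(blk G x) = 6 := by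
  rw [blk, card_subtype_coc (fun C => x ∈ C)]; exact card_coc_through h x

theorem card_inter {x y : V} (hne : x ≠ y) : #(blk G x ∩ blk G y) = if G.Adj x y then 0 else 2 := by
  rw [show blk G x ∩ blk G y = univ.filter fun C : Pt G => x ∈ C.1 ∧ y ∈ C.1 by ext C; simp [blk],
    card_subtype_coc (fun C => x ∈ C ∧ y ∈ C)]
  split_ifs with ha
  · rw [card_eq_zero, filter_eq_empty_iff]
    exact fun C hC e => (mem_coc.1 hC).2 x e.1 y e.2 ha
  · exact card_coc_pair h (by simp [far, hne.symm, ha])

theorem blk_injective : Function.Injective (blk G) := by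
  intro x y e
  by_contra hne
  have := card_inter h hne
  rw [← e, inter_self, card_blk h] at this
  split_ifs at this <;> omega

theorem steiner : Cfsg.IsSteinerSystem 3 6 (family G) := by
  refine ⟨fun b hb => ?_, fun s hs => ?_⟩
  · obtain ⟨x, -, rfl⟩ := mem_image.1 (mem_coe.1 hb)
    exact card_blk h x
  set B := (univ : Finset V).image (blk G) with hB
  have huniq : ∀ b ∈ B, ∀ c ∈ B, ∀ t : Finset (Pt G), #t = 3 → t ⊆ b → t ⊆ c → b = c := by
    intro b hb c hc t ht htb htc
    obtain ⟨x, -, rfl⟩ := mem_image.1 hb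
    obtain ⟨y, -, rfl⟩ := mem_image.1 hc
    by_contra hne
    have h1 := card_le_card (subset_inter htb htc)
    rw [card_inter h (fun e => hne (by rw [e])), ht] at h1
    split_ifs at h1 <;> omega
  have hall : B.biUnion (fun b => b.powersetCard 3) = (univ : Finset (Pt G)).powersetCard 3 := by
    refine eq_of_subset_of_card_le (fun t ht => ?_) ?_
    · obtain ⟨b, -, htb⟩ := mem_biUnion.1 ht
      exact mem_powersetCard.2 ⟨subset_univ _, (mem_powersetCard.1 htb).2⟩
    rw [card_biUnion, sum_congr rfl (g := fun _ => 20), sum_const, hB,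
      card_image_of_injective _ (blk_injective h), card_univ, h.card, card_powersetCard, card_univ, card_pt h]
    · decide
    · intro b hb
      obtain ⟨x, -, rfl⟩ := mem_image.1 hb
      rw [card_powersetCard, card_blk h]; decide
    · intro b hb c hc hne
      show Disjoint (b.powersetCard 3) (c.powersetCard 3)
      rw [Finset.disjoint_left]
      intro t ht ht'
      exact hne (huniq b hb c hc t (mem_powersetCard.1 ht).2 (mem_powersetCard.1 ht).1 (mem_powersetCard.1 ht').1)
  obtain ⟨b, hb, hsb⟩ : ∃ b ∈ B, s ∈ b.powersetCard 3 := by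
    rw [← mem_biUnion, hall]; exact mem_powersetCard.2 ⟨subset_univ _, hs⟩
  exact ⟨b, ⟨hb, (mem_powersetCard.1 hsb).1⟩, fun c hc => huniq c hc.1 b hb s hs hc.2 (mem_powersetCard.1 hsb).1⟩

theorem nonempty_iso : Nonempty (G ≃g Cfsg.blockGraph (family G)) := by
  let f : V → family G := fun x => ⟨blk G x, mem_coe.2 (mem_image_of_mem _ (mem_univ x))⟩
  have hf : Function.Bijective f := ⟨fun x y e => blk_injective h (congrArg Subtype.val e), fun b => by
    obtain ⟨x, -, hx⟩ := mem_image.1 (mem_coe.1 b.2)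
    exact ⟨x, Subtype.ext hx⟩⟩
  refine ⟨⟨Equiv.ofBijective f hf, ?_⟩⟩
  intro x y
  show (Cfsg.blockGraph (family G)).Adj (f x) (f y) ↔ G.Adj x y
  rw [Cfsg.blockGraph, SimpleGraph.fromRel_adj, disjoint_comm (a := ((f y : family G) : Finset (Pt G))), or_self]
  constructor
  · rintro ⟨hne, hd⟩
    have hxy : x ≠ y := fun e => hne (by rw [e])
    have := card_inter h hxy
    rw [show #(blk G x ∩ blk G y) = 0 from card_eq_zero.2 (Finset.disjoint_iff_inter_eq_empty.1 hd)] at this
    by_contra hn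
    rw [if_neg hn] at this
    omega
  · intro ha
    refine ⟨fun e => ha.ne (blk_injective h (congrArg Subtype.val e)), ?_⟩
    show Disjoint (blk G x) (blk G y)
    rw [Finset.disjoint_iff_inter_eq_empty, ← card_eq_zero, card_inter h ha.ne, if_pos ha]

end Cfsg.Agent.Fus.SRGSeventySeven

namespace Cfsg.Agent.Fus.SRGSeventySeven

/-- An isomorphism of families of subsets induces one of block graphs. -/
theorem blockGraph_iso {α β : Type*} [DecidableEq β] {B : Set (Finset α)} {B' : Set (Finset β)}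
    (h : Cfsg.SetSystemIso B B') : Nonempty (Cfsg.blockGraph B ≃g Cfsg.blockGraph B') := by
  classical
  obtain ⟨e, he⟩ := h
  have hm : ∀ b : B, (b : Finset α).image e ∈ B' := fun b => he ▸ ⟨b, b.2, rfl⟩
  have hb : Function.Bijective fun b : B => (⟨(b : Finset α).image e, hm b⟩ : B') := by
    refine ⟨fun b c hbc => Subtype.ext (Finset.image_injective e.injective (congrArg Subtype.val hbc)), fun c => ?_⟩
    obtain ⟨b, hb, hbc⟩ := (he.symm ▸ c.2 : (c : Finset β) ∈ (fun b => b.image e) '' B)
    exact ⟨⟨b, hb⟩, Subtype.ext hbc⟩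
  refine ⟨⟨Equiv.ofBijective _ hb, ?_⟩⟩
  intro x y
  simp only [Cfsg.blockGraph, SimpleGraph.fromRel_adj, Equiv.ofBijective_apply, ne_eq, hb.1.eq_iff,
    Finset.disjoint_image e.injective]

/-- A strongly regular graph with parameters (77, 16, 0, 4) is unique up to isomorphism. -/
theorem unique {V W : Type*} [Fintype V] [Fintype W] {G : SimpleGraph V} {H : SimpleGraph W}
    [DecidableRel G.Adj] [DecidableRel H.Adj] (hG : G.IsSRGWith 77 16 0 4) (hH : H.IsSRGWith 77 16 0 4) :
    Nonempty (G ≃g H) := by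
  classical
  obtain ⟨φ⟩ := nonempty_iso hG
  obtain ⟨ψ⟩ := nonempty_iso hH
  obtain ⟨χ⟩ := blockGraph_iso
    (Spor.SteinerCode.iso622 (card_pt hG) (card_pt hH) (steiner hG) (steiner hH))
  exact ⟨(φ.trans χ).trans ψ.symm⟩

end Cfsg.Agent.Fus.SRGSeventySeven
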