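import Cfsg.Agent.Lib.Fus.CTSimpleLinear
import Cfsg.Agent.Lib.Transfer.Abelian
import Cfsg.Agent.Lib.Transfer.Frobenius

/-!
Simple groups in which every non-abelian subgroup is self-normalising have abelian centralisers
of non-identity elements.
-/

set_option autoImplicit false
set_option linter.unusedSectionVars false
set_option linter.style.haveILetI false

namespace Cfsg.Agent.Fus.SelfNormalizing

open Subgroup

universe u

variable {G : Type u} [Group G] [Finite G]

/-- Every non-commutative subgroup is its own normaliser. -/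
def Ppty (G : Type*) [Group G] : Prop :=
  ∀ H : Subgroup G, ¬ IsMulCommutative H → Subgroup.normalizer (H : Set G) = H

omit [Finite G] in
theorem comm_iff {H : Subgroup G} : IsMulCommutative H ↔ ∀ a ∈ H, ∀ b ∈ H, a * b = b * a :=
  ⟨fun h a ha b hb => congrArg Subtype.val (h.is_comm.comm (⟨a, ha⟩ : H) ⟨b, hb⟩),
    fun h => ⟨⟨fun a b => Subtype.ext (h a a.2 b b.2)⟩⟩⟩

omit [Finite G] in
theorem Ppty.le_of_normalizes (hS : Ppty G) {N K : Subgroup G} (hN : ¬ IsMulCommutative N)
    (hK : K ≤ normalizer (N : Set G)) : K ≤ N := hK.trans (hS N hN).le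

omit [Finite G] in
theorem center_eq_bot [IsSimpleGroup G] (hna : ¬ IsMulCommutative G) : center G = ⊥ :=
  (IsSimpleGroup.eq_bot_or_eq_top_of_normal (center G) inferInstance).resolve_right fun e =>
    hna ⟨⟨fun a b => mem_center_iff.mp (e ▸ mem_top b) a⟩⟩

theorem not_npc [IsSimpleGroup G] (hna : ¬ IsMulCommutative G) {p : ℕ} [Fact p.Prime]
    (hp : p ∣ Nat.card G) : ¬ Cfsg.HasNormalPComplement p G := by
  rintro ⟨P, N, hN, hc⟩
  rcases hN.eq_bot_or_eq_top with e | e <;> subst e
  · have hP : (P : Subgroup G) = ⊤ := isComplement'_bot_left.mp hc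
    have hG : IsPGroup p G := by
      intro g
      obtain ⟨k, hk⟩ := P.isPGroup' ⟨g, hP ▸ mem_top g⟩
      exact ⟨k, congrArg Subtype.val hk⟩
    haveI := hG.center_nontrivial
    obtain ⟨z, hz⟩ := exists_ne (1 : center G)
    exact hz (Subtype.ext (mem_bot.mp ((center_eq_bot hna).le z.2)))
  · have hP := isComplement'_top_left.mp hc
    have hd := P.dvd_card_of_dvd_card hp
    rw [hP, card_bot] at hd
    exact (Fact.out : p.Prime).ne_one (Nat.dvd_one.mp hd)

theorem exists_mem_normalizer {p : ℕ} [Fact p.Prime] {P K : Subgroup G} (hP : IsPGroup p P)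
    (hK : K < P) : ∃ x ∈ P, x ∉ K ∧ x ∈ normalizer (K : Set G) := by
  haveI : Group.IsNilpotent P := hP.isNilpotent
  have hlt : K.subgroupOf P < ⊤ := lt_top_iff_ne_top.mpr fun e => hK.not_ge (subgroupOf_eq_top.mp e)
  obtain ⟨x, hx, hxK⟩ := SetLike.exists_of_lt (Group.normalizerCondition_of_isNilpotent _ hlt)
  refine ⟨x, x.2, hxK, mem_normalizer_iff.mpr fun w => ⟨fun hw => ?_, fun hw => ?_⟩⟩
  · exact (mem_normalizer_iff.mp hx ⟨w, hK.le hw⟩).mp hw
  · have hwP : w ∈ P := by
      have := P.mul_mem (P.mul_mem (P.inv_mem x.2) (hK.le hw)) x.2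
      simpa [mul_assoc] using this
    exact (mem_normalizer_iff.mp hx ⟨w, hwP⟩).mpr hw

theorem Ppty.proper_comm (hS : Ppty G) {p : ℕ} [Fact p.Prime] {P K : Subgroup G}
    (hP : IsPGroup p P) (hK : K < P) : IsMulCommutative K := by
  by_contra hc
  obtain ⟨x, -, hxK, hxN⟩ := exists_mem_normalizer hP hK
  exact hxK ((hS K hc).le hxN)

omit [Finite G] in
theorem sylow_comm_smul {p : ℕ} {P : Sylow p G} (g : G)
    (h : IsMulCommutative ((g • P : Sylow p G) : Subgroup G)) :
    IsMulCommutative (P : Subgroup G) := by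
  refine comm_iff.mpr fun a ha b hb => ?_
  have e : ∀ x ∈ (P : Subgroup G), g * x * g⁻¹ ∈ ((g • P : Sylow p G) : Subgroup G) := fun x hx =>
    ⟨x, hx, rfl⟩
  have := comm_iff.mp h _ (e a ha) _ (e b hb)
  have h2 : g * (a * b) * g⁻¹ = g * (b * a) * g⁻¹ :=
    calc g * (a * b) * g⁻¹ = g * a * g⁻¹ * (g * b * g⁻¹) := by group
      _ = g * b * g⁻¹ * (g * a * g⁻¹) := this
      _ = g * (b * a) * g⁻¹ := by group
  exact mul_left_cancel (mul_right_cancel h2)

/-- In a simple group all Sylow subgroups are abelian. -/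
theorem Ppty.sylow_comm (hS : Ppty G) [IsSimpleGroup G] (hna : ¬ IsMulCommutative G)
    {p : ℕ} [hp : Fact p.Prime] (P : Sylow p G) : IsMulCommutative (P : Subgroup G) := by
  classical
  by_contra hP
  have hall : ∀ P' : Sylow p G, ¬ IsMulCommutative (P' : Subgroup G) := by
    intro P' h
    obtain ⟨g, rfl⟩ := MulAction.exists_smul_eq G P P'
    exact hP (sylow_comm_smul g h)
  have hpG : p ∣ Nat.card G := by
    by_contra h
    obtain ⟨n, hn⟩ := P.isPGroup'.exists_card_eq
    rcases Nat.eq_zero_or_pos n with rfl | hn'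
    · have hb : (P : Subgroup G) = ⊥ := card_eq_one.mp (by simpa using hn)
      exact hP (comm_iff.mpr fun a ha b hb' => by rw [mem_bot.mp (hb.le ha)]; simp)
    · exact h ((dvd_pow_self p hn'.ne').trans (hn ▸ card_subgroup_dvd_card _))
  have hF : ¬ Transfer.FrobeniusCondition p (P : Subgroup G) := fun h =>
    not_npc hna hpG ((Transfer.hasNormalPComplement_iff_frobeniusCondition P).mpr h)
  simp only [Transfer.FrobeniusCondition, not_forall] at hF
  obtain ⟨Q, hQP, g₀, hg₀, hg₀c, hg₀n⟩ := hF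
  haveI : Fintype (Subgroup G) := Fintype.ofFinite _
  let Bad : Subgroup G → Prop := fun D => IsPGroup p D ∧
    ∃ g ∈ normalizer (D : Set G), (orderOf g).Coprime p ∧ g ∉ centralizer (D : Set G)
  obtain ⟨D, hD, hmax⟩ := (Finset.univ.filter Bad).exists_max_image (fun D => Nat.card D)
    ⟨Q, Finset.mem_filter.mpr ⟨Finset.mem_univ _, P.isPGroup'.to_le hQP, g₀, hg₀, hg₀c, hg₀n⟩⟩
  obtain ⟨hDp, g, hgN, hgc, hgn⟩ := (Finset.mem_filter.mp hD).2
  replace hmax : ∀ T : Subgroup G, Bad T → Nat.card T ≤ Nat.card D := fun T hT =>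
    hmax T (Finset.mem_filter.mpr ⟨Finset.mem_univ _, hT⟩)
  set N := normalizer (D : Set G) with hNdef
  have hDN : D ≤ N := le_normalizer
  haveI hDn : (D.subgroupOf N).Normal := normal_in_normalizer
  have hDne : ∀ P' : Sylow p G, D ≠ P' := by
    rintro P' rfl
    have hgP : g ∈ (P' : Subgroup G) := (hS _ (hall P')).le hgN
    obtain ⟨k, hk⟩ := IsPGroup.iff_orderOf.mp P'.isPGroup' ⟨g, hgP⟩
    rw [Subgroup.orderOf_mk] at hk
    rw [hk] at hgc
    have h1 : orderOf g = 1 := by
      rw [hk]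
      rcases Nat.eq_zero_or_pos k with rfl | hk'
      · simp
      · exact absurd (Nat.Coprime.coprime_dvd_left (dvd_pow_self p hk'.ne') hgc)
          (by simp [Nat.coprime_self, hp.out.ne_one])
    exact hgn (orderOf_eq_one_iff.mp h1 ▸ one_mem _)
  obtain ⟨T0⟩ : Nonempty (Sylow p N) := inferInstance
  have hDT0 : D.subgroupOf N ≤ (T0 : Subgroup N) := by
    have h1 : IsPGroup p (D.subgroupOf N) := hDp.of_equiv (subgroupOfEquivOfLe hDN).symm
    have h2 : IsPGroup p ((D.subgroupOf N) ⊔ (T0 : Subgroup N) : Subgroup N) :=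
      h1.to_sup_of_normal_left T0.isPGroup'
    exact (le_sup_left).trans (T0.is_maximal' h2 le_sup_right).le
  set T := (T0 : Subgroup N).map N.subtype with hTdef
  have hTp : IsPGroup p T := T0.isPGroup'.map _
  have hTN : T ≤ N := map_subtype_le _
  have hDT : D ≤ T := fun d hd => ⟨⟨d, hDN hd⟩, hDT0 hd, rfl⟩
  obtain ⟨P', hTP'⟩ := hTp.exists_le_sylow
  rcases hTP'.lt_or_eq with hlt | heq
  · have hTc := comm_iff.mp (hS.proper_comm P'.isPGroup' hlt)
    have hTC : T ≤ centralizer (D : Set G) := fun t ht =>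
      mem_centralizer_iff.mpr fun d hd => hTc d (hDT hd) t ht
    have hcard : Nat.card D < Nat.card T := by
      obtain ⟨x, hxP, hxD, hxN⟩ := exists_mem_normalizer P'.isPGroup'
        (lt_of_le_of_ne (hDT.trans hTP') (hDne P'))
      set R := ((P' : Subgroup G) ⊓ N).subgroupOf N with hR
      have hRp : IsPGroup p R :=
        (P'.isPGroup'.to_le inf_le_left).of_equiv (subgroupOfEquivOfLe inf_le_right).symm
      obtain ⟨T1, hT1⟩ := hRp.exists_le_sylow
      have h1 : Nat.card D < Nat.card ((P' : Subgroup G) ⊓ N : Subgroup G) := by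
        refine lt_of_le_of_ne (card_le_of_le (le_inf (hDT.trans hTP') hDN)) fun e => hxD ?_
        rw [eq_of_le_of_card_ge (le_inf (hDT.trans hTP') hDN) e.ge]
        exact ⟨hxP, hxN⟩
      have h2 : Nat.card ((P' : Subgroup G) ⊓ N : Subgroup G) ≤ Nat.card T := by
        rw [hTdef, card_map_of_injective N.subtype_injective,
          ← Nat.card_congr (subgroupOfEquivOfLe (inf_le_right : (P' : Subgroup G) ⊓ N ≤ N)).toEquiv,
          T0.card_eq_multiplicity, ← T1.card_eq_multiplicity]
        exact card_le_of_le hT1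
      omega
    -- Frattini in `N`
    set CN := (centralizer (D : Set G)).subgroupOf N with hCN
    haveI : CN.Normal := ⟨fun c hc n => mem_centralizer_iff.mpr fun d hd => by
      have hd' : (n : G)⁻¹ * d * n ∈ D := by
        have := (mem_normalizer_iff.mp (N.inv_mem n.2) d).mp hd
        rwa [inv_inv] at this
      have h1 := mem_centralizer_iff.mp (mem_subgroupOf.mp hc) _ hd'
      show d * ((n : G) * (c : G) * (n : G)⁻¹) = (n : G) * (c : G) * (n : G)⁻¹ * d
      calc d * ((n : G) * (c : G) * (n : G)⁻¹)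
          = (n : G) * ((n : G)⁻¹ * d * n * (c : G)) * (n : G)⁻¹ := by group
        _ = (n : G) * ((c : G) * ((n : G)⁻¹ * d * n)) * (n : G)⁻¹ := by rw [h1]
        _ = (n : G) * (c : G) * (n : G)⁻¹ * d := by group⟩
    have hT0C : (T0 : Subgroup N) ≤ CN := fun t ht => hTC ⟨t, ht, rfl⟩
    have hfr : normalizer ((T0 : Subgroup N) : Set N) ⊔ CN = ⊤ :=
      Sylow.normalizer_sup_eq_top' T0 hT0C
    obtain ⟨n, hn, c, hc, hnc⟩ := mem_sup_of_normal_right.mp (hfr ▸ mem_top (⟨g, hgN⟩ : N))
    have hnc' : (n : G) * (c : G) = g := congrArg Subtype.val hnc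
    have hact : ∀ d ∈ D, (n : G) * d * (n : G)⁻¹ = g * d * g⁻¹ := by
      intro d hd
      have h1 : (c : G) * d = d * (c : G) :=
        (mem_centralizer_iff.mp (mem_subgroupOf.mp hc) d hd).symm
      calc (n : G) * d * (n : G)⁻¹ = (n : G) * (d * (c : G)) * ((n : G) * (c : G))⁻¹ := by group
        _ = (n : G) * ((c : G) * d) * ((n : G) * (c : G))⁻¹ := by rw [h1]
        _ = g * d * g⁻¹ := by rw [← hnc']; group
    have hpow : ∀ k : ℕ, ∀ d ∈ D, (n : G) ^ k * d * ((n : G) ^ k)⁻¹ = g ^ k * d * (g ^ k)⁻¹ := by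
      intro k
      induction k with
      | zero => intro d _; simp
      | succ k ih =>
        intro d hd
        have h1 : g * d * g⁻¹ ∈ D := (mem_normalizer_iff.mp hgN d).mp hd
        calc (n : G) ^ (k + 1) * d * ((n : G) ^ (k + 1))⁻¹
            = (n : G) ^ k * ((n : G) * d * (n : G)⁻¹) * ((n : G) ^ k)⁻¹ := by rw [pow_succ]; group
          _ = (n : G) ^ k * (g * d * g⁻¹) * ((n : G) ^ k)⁻¹ := by rw [hact d hd]
          _ = g ^ k * (g * d * g⁻¹) * (g ^ k)⁻¹ := ih _ h1
          _ = g ^ (k + 1) * d * (g ^ (k + 1))⁻¹ := by rw [pow_succ]; group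
    obtain ⟨a, m, hm, hord⟩ := Nat.exists_eq_pow_mul_and_not_dvd (orderOf_pos (n : G)).ne' p hp.out.ne_one
    have hn' : orderOf ((n : G) ^ p ^ a) = m := by
      rw [orderOf_pow_of_dvd (pow_ne_zero _ hp.out.ne_zero) (Dvd.intro m hord.symm), hord,
        Nat.mul_div_cancel_left _ (pow_pos hp.out.pos a)]
    have hbad : Bad T := by
      refine ⟨hTp, (n : G) ^ p ^ a, pow_mem ?_ _, hn'.symm ▸ (hp.out.coprime_iff_not_dvd.mpr hm).symm,
        fun hcT => hgn ?_⟩
      · rw [hTdef]
        exact le_normalizer_map N.subtype ⟨n, hn, rfl⟩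
      · have hgpa : g ^ p ^ a ∈ centralizer (D : Set G) := mem_centralizer_iff.mpr fun d hd => by
          have h1 := hpow (p ^ a) d hd
          rw [← mem_centralizer_iff.mp hcT d (hDT hd), mul_inv_cancel_right] at h1
          conv_lhs => rw [h1]
          group
        obtain ⟨j, hj⟩ := exists_pow_eq_self_of_coprime (Nat.Coprime.pow_left a hgc.symm)
        rw [← hj]
        exact pow_mem hgpa j
    exact absurd (hmax T hbad) (not_le.mpr hcard)
  · have hPN : (P' : Subgroup G) ≤ N := heq ▸ hTN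
    obtain ⟨y, hyP, hyc⟩ : ∃ y ∈ (P' : Subgroup G), y ∉ centralizer (D : Set G) := by
      by_contra hcon
      push Not at hcon
      refine hgn ?_
      have hCna : ¬ IsMulCommutative (centralizer (D : Set G) ⊓ N : Subgroup G) := fun h =>
        hall P' (comm_iff.mpr fun a ha b hb =>
          comm_iff.mp h a ⟨hcon a ha, hPN ha⟩ b ⟨hcon b hb, hPN hb⟩)
      have hle : N ≤ normalizer ((centralizer (D : Set G) ⊓ N : Subgroup G) : Set G) := by
        intro n hn
        refine mem_normalizer_iff.mpr fun w => ?_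
        have key : ∀ n ∈ N, ∀ w ∈ (centralizer (D : Set G) ⊓ N : Subgroup G),
            n * w * n⁻¹ ∈ (centralizer (D : Set G) ⊓ N : Subgroup G) := by
          intro n hn w hw
          refine ⟨mem_centralizer_iff.mpr fun d hd => ?_, N.mul_mem (N.mul_mem hn hw.2) (N.inv_mem hn)⟩
          have hd' : n⁻¹ * d * n ∈ D := by
            have := (mem_normalizer_iff.mp (N.inv_mem hn) d).mp hd
            rwa [inv_inv] at this
          have h1 := mem_centralizer_iff.mp hw.1 _ hd'
          calc d * (n * w * n⁻¹) = n * (n⁻¹ * d * n * w) * n⁻¹ := by group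
            _ = n * (w * (n⁻¹ * d * n)) * n⁻¹ := by rw [h1]
            _ = n * w * n⁻¹ * d := by group
        exact ⟨key n hn w, fun h => by simpa [mul_assoc] using key _ (N.inv_mem hn) _ h⟩
      exact (hS.le_of_normalizes hCna hle hgN).1
    have hgen : D ⊔ zpowers y = (P' : Subgroup G) := by
      have hle : D ⊔ zpowers y ≤ (P' : Subgroup G) :=
        sup_le (hDT.trans hTP') (zpowers_le.mpr hyP)
      by_contra hne
      refine hyc (mem_centralizer_iff.mpr fun d hd => ?_)
      exact comm_iff.mp (hS.proper_comm P'.isPGroup' (lt_of_le_of_ne hle hne)) d (mem_sup_left hd)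
        y (mem_sup_right (mem_zpowers y))
    set DN := D.subgroupOf N with hDNdef
    let yN : N := ⟨y, hPN hyP⟩
    have hT0 : (T0 : Subgroup N) = DN ⊔ zpowers yN := by
      apply map_injective N.subtype_injective
      rw [Subgroup.map_sup, hDNdef, map_subgroupOf_eq_of_le hDN, MonoidHom.map_zpowers]
      exact heq.trans hgen.symm
    let π := QuotientGroup.mk' DN
    have hπ : Function.Surjective π := QuotientGroup.mk'_surjective DN
    let PQ : Sylow p (N ⧸ DN) := T0.mapSurjective hπ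
    have hPQ : (PQ : Subgroup (N ⧸ DN)) = (T0 : Subgroup N).map π := rfl
    have hPQz : (PQ : Subgroup (N ⧸ DN)) = zpowers (π yN) := by
      rw [hPQ, hT0, Subgroup.map_sup, MonoidHom.map_zpowers]
      simp [π]
    have hle : normalizer ((PQ : Subgroup (N ⧸ DN)) : Set (N ⧸ DN)) ≤
        centralizer ((PQ : Subgroup (N ⧸ DN)) : Set (N ⧸ DN)) := by
      intro q hq
      obtain ⟨x, rfl⟩ := hπ q
      have hcm : (PQ : Subgroup (N ⧸ DN)).comap π = (T0 : Subgroup N) := by
        rw [hPQ, comap_map_eq, QuotientGroup.ker_mk']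
        exact sup_eq_left.mpr hDT0
      have hxT : x ∈ normalizer ((T0 : Subgroup N) : Set N) := by
        refine mem_normalizer_iff.mpr fun w => ?_
        rw [← hcm, mem_comap, mem_comap, map_mul, map_mul, map_inv]
        exact mem_normalizer_iff.mp hq (π w)
      have hxP : (x : G) ∈ normalizer ((P' : Subgroup G) : Set G) := by
        rw [← heq, hTdef]
        exact le_normalizer_map N.subtype ⟨x, hxT, rfl⟩
      have hxP' : x ∈ (T0 : Subgroup N) := by
        have := (hS _ (hall P')).le hxP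
        rw [← heq] at this
        obtain ⟨x', hx', e⟩ := this
        rwa [Subtype.ext e] at hx'
      have hxm : π x ∈ (PQ : Subgroup (N ⧸ DN)) := ⟨x, hxP', rfl⟩
      refine mem_centralizer_iff.mpr fun w hw => ?_
      rw [SetLike.mem_coe, hPQz] at hw
      rw [hPQz] at hxm
      obtain ⟨i, hi⟩ := mem_zpowers_iff.mp hw
      obtain ⟨j, hj⟩ := mem_zpowers_iff.mp hxm
      rw [← hi, ← hj]
      exact (((Commute.refl (π yN)).zpow_left i).zpow_right j).eq
    have hcompl := MonoidHom.ker_transferSylow_isComplement' PQ hle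
    set f := MonoidHom.transferSylow PQ hle with hf
    set W := (f.ker.comap π).map N.subtype with hWdef
    have hDW : D ≤ W := fun d hd => by
      refine ⟨⟨d, hDN hd⟩, ?_, rfl⟩
      show f (π ⟨d, hDN hd⟩) = 1
      rw [show π ⟨d, hDN hd⟩ = 1 from (QuotientGroup.eq_one_iff _).mpr hd, map_one]
    have hgW : g ∈ W := by
      refine ⟨⟨g, hgN⟩, ?_, rfl⟩
      show f (π ⟨g, hgN⟩) = 1
      have h1 : orderOf (f (π ⟨g, hgN⟩)) ∣ orderOf g := by
        exact (Subgroup.orderOf_mk g hgN) ▸ orderOf_map_dvd (f.comp π) (⟨g, hgN⟩ : N)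
      obtain ⟨k, hk⟩ := IsPGroup.iff_orderOf.mp PQ.isPGroup' (f (π ⟨g, hgN⟩))
      refine orderOf_eq_one_iff.mp (Nat.eq_one_of_dvd_coprimes (hgc.pow_right k) h1 hk.dvd)
    have hWna : ¬ IsMulCommutative W := fun h => hgn (mem_centralizer_iff.mpr fun d hd =>
      comm_iff.mp h d (hDW hd) g hgW)
    have hNW : N ≤ W := by
      refine hS.le_of_normalizes hWna fun n hn => ?_
      have : (⟨n, hn⟩ : N) ∈ normalizer ((f.ker.comap π) : Set N) := by
        rw [normalizer_eq_top (f.ker.comap π)]; exact mem_top _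
      rw [hWdef]
      exact le_normalizer_map N.subtype ⟨_, this, rfl⟩
    have hker : f.ker = ⊤ := by
      refine eq_top_iff.mpr fun q _ => ?_
      obtain ⟨x, rfl⟩ := hπ q
      obtain ⟨x', hx', e⟩ := hNW x.2
      rw [← Subtype.ext e]
      exact hx'
    rw [hker] at hcompl
    have hbot := isComplement'_top_left.mp hcompl
    refine hDne P' (le_antisymm (hDT.trans hTP') fun x hx => ?_)
    have hxT : (⟨x, hPN hx⟩ : N) ∈ (T0 : Subgroup N) := by
      obtain ⟨x', hx', e⟩ := (heq.ge hx : x ∈ T)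
      rwa [show x' = ⟨x, hPN hx⟩ from Subtype.ext e] at hx'
    exact (QuotientGroup.eq_one_iff (⟨x, hPN hx⟩ : N)).mp
      (mem_bot.mp (hbot.le ⟨_, hxT, rfl⟩))

end Cfsg.Agent.Fus.SelfNormalizing
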