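import Cfsg.Agent.Lib.Fus.SelfNormalizing

/-!
A simple group in which every non-abelian subgroup is self-normalising has abelian centralisers
of non-identity elements.
-/

set_option autoImplicit false
set_option linter.unusedSectionVars false
set_option linter.style.haveILetI false

namespace Cfsg.Agent.Fus.SelfNormalizing

open Subgroup

universe u

variable {G : Type u} [Group G] [Finite G]

/-- The elements of `M` killed by `r`, for an abelian subgroup `M`. -/
def torsionSub (M : Subgroup G) (hM : ∀ a ∈ M, ∀ b ∈ M, a * b = b * a) (r : ℕ) : Subgroup G where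
  carrier := {x | x ∈ M ∧ x ^ r = 1}
  one_mem' := ⟨one_mem _, one_pow _⟩
  mul_mem' := by
    rintro a b ⟨ha, ha'⟩ ⟨hb, hb'⟩
    exact ⟨mul_mem ha hb, by rw [(show Commute a b from hM a ha b hb).mul_pow, ha', hb', mul_one]⟩
  inv_mem' := by
    rintro a ⟨ha, ha'⟩
    exact ⟨inv_mem ha, by rw [inv_pow, ha', inv_one]⟩

/-- An abelian Sylow subgroup generated by a single element, containing `a`, has trivial action of
the normaliser when the centraliser of `a` is self-normalising and contains only abelian elements. -/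
theorem Ppty.not_cyclic (hS : Ppty G) [IsSimpleGroup G] (hna : ¬ IsMulCommutative G) {p : ℕ}
    [hp : Fact p.Prime] {a : G} (ha : orderOf a = p)
    (hH : ¬ IsMulCommutative (centralizer ({a} : Set G))) (P : Sylow p G) {y : G}
    (hPc : IsMulCommutative (P : Subgroup G))
    (haP : a ∈ (P : Subgroup G)) (hyP : y ∈ (P : Subgroup G))
    (hPy : (P : Subgroup G) ≤ zpowers y) : False := by
  have hpG : p ∣ Nat.card G := ha ▸ orderOf_dvd_natCard a
  refine not_npc hna hpG (Transfer.hasNormalPComplement_of_prime_elements P hPc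
    fun q hq hqp g hg hgo x hx => ?_)
  obtain ⟨s, hs⟩ := hgo
  have hgy : g * y * g⁻¹ ∈ (P : Subgroup G) := (mem_normalizer_iff.mp hg y).mp hyP
  obtain ⟨k, hk⟩ := Submonoid.mem_powers_iff _ _ |>.mp
    (mem_powers_iff_mem_zpowers.mpr (hPy hgy))
  obtain ⟨j, hj⟩ := Submonoid.mem_powers_iff _ _ |>.mp
    (mem_powers_iff_mem_zpowers.mpr (hPy haP))
  have hga : g * a * g⁻¹ = a ^ k := by
    rw [← hj, ← conj_pow, ← hk, ← pow_mul, ← pow_mul, mul_comm]
  have ha1 : a ≠ 1 := fun e => hp.out.ne_one (by rw [← ha, e, orderOf_one])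
  have hkp : ¬ p ∣ k := fun h => ha1 (conj_eq_one_iff.mp (hga.trans (by
    obtain ⟨c, rfl⟩ := h; rw [pow_mul, ← ha, pow_orderOf_eq_one, one_pow])))
  obtain ⟨l, hl⟩ : ∃ l : ℕ, (a ^ k) ^ l = a := exists_pow_eq_self_of_coprime
    (by rw [ha]; exact ((hp.out.coprime_iff_not_dvd).mpr hkp).symm)
  have hgH : g ∈ centralizer ({a} : Set G) := by
    refine (hS _ hH).le (mem_normalizer_iff.mpr fun h => ?_)
    simp only [mem_centralizer_singleton_iff]
    constructor
    · intro (e : h * a = a * h)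
      have h1 : Commute (g * h * g⁻¹) (g * a * g⁻¹) := by
        simpa using (show Commute h a from e).map (MulAut.conj g)
      rw [hga] at h1
      have := h1.pow_right l
      rwa [hl] at this
    · intro (e : g * h * g⁻¹ * a = a * (g * h * g⁻¹))
      have h1 : Commute (g * h * g⁻¹) (g * a * g⁻¹) :=
        hga ▸ (show Commute (g * h * g⁻¹) a from e).pow_right k
      exact (show Commute h a from by simpa [mul_assoc] using h1.map (MulAut.conj g⁻¹)).eq
  have hak : a ^ k = a ^ 1 := by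
    rw [← hga, mem_centralizer_singleton_iff.mp hgH, mul_inv_cancel_right, pow_one]
  have hk1 : k ≡ 1 [MOD p] := ha ▸ pow_eq_pow_iff_modEq.mp hak
  obtain ⟨e, he⟩ := IsPGroup.iff_orderOf.mp P.isPGroup' ⟨y, hyP⟩
  rw [Subgroup.orderOf_mk] at he
  have hpow : ∀ n : ℕ, g ^ n * y * (g ^ n)⁻¹ = y ^ (k ^ n) := by
    intro n
    induction n with
    | zero => simp
    | succ n ih =>
      calc g ^ (n + 1) * y * (g ^ (n + 1))⁻¹ = g * (g ^ n * y * (g ^ n)⁻¹) * g⁻¹ := by
            rw [pow_succ']; group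
        _ = g * y ^ (k ^ n) * g⁻¹ := by rw [ih]
        _ = (g * y * g⁻¹) ^ (k ^ n) := conj_pow.symm
        _ = y ^ (k ^ (n + 1)) := by rw [← hk, ← pow_mul, pow_succ']
  have hkN : k ^ (p ^ e) ≡ 1 [MOD p ^ e] := by
    refine Nat.ModEq.symm ((Nat.modEq_iff_dvd).mpr ?_)
    have h1 : (p : ℤ) ∣ (k : ℤ) - 1 := by exact_mod_cast (Nat.modEq_iff_dvd.mp hk1.symm)
    have h2 := dvd_sub_pow_of_dvd_sub h1 e
    rw [one_pow] at h2
    push_cast
    exact (pow_dvd_pow _ (Nat.le_succ e)).trans h2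
  have hcy : g ^ (p ^ e) * y * (g ^ (p ^ e))⁻¹ = y := by
    rw [hpow]
    nth_rw 2 [← pow_one y]
    exact pow_eq_pow_iff_modEq.mpr (he ▸ hkN)
  obtain ⟨m, hm⟩ : ∃ m : ℕ, (g ^ (p ^ e)) ^ m = g := exists_pow_eq_self_of_coprime
    (by rw [hs]; exact Nat.Coprime.pow e s ((Nat.coprime_primes hp.out hq).mpr hqp.symm))
  have hgy' : Commute g y := hm ▸ (show Commute (g ^ (p ^ e)) y from
    mul_inv_eq_iff_eq_mul.mp hcy).pow_left m
  obtain ⟨i, rfl⟩ := mem_zpowers_iff.mp (hPy hx)
  exact mul_inv_eq_iff_eq_mul.mpr (hgy'.zpow_right i).eq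

/-- The centraliser of an element of prime order is abelian. -/
theorem Ppty.centralizer_comm (hS : Ppty G) [IsSimpleGroup G] (hna : ¬ IsMulCommutative G) {p : ℕ}
    [hp : Fact p.Prime] {a : G} (ha : orderOf a = p) :
    IsMulCommutative (centralizer ({a} : Set G)) := by
  classical
  by_contra hH
  set H := centralizer ({a} : Set G) with hHdef
  obtain ⟨P, hP⟩ := (IsPGroup.of_card (n := 1) (by rw [Nat.card_zpowers, ha, pow_one]) :
    IsPGroup p (zpowers a)).exists_le_sylow
  have haP : a ∈ (P : Subgroup G) := hP (mem_zpowers a)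
  have hPc := hS.sylow_comm hna P
  have hPcomm := comm_iff.mp hPc
  have hPH : (P : Subgroup G) ≤ H := fun x hx => mem_centralizer_singleton_iff.mpr (hPcomm x hx a haP)
  have haH : a ∈ H := hPH haP
  -- `a` is not in the derived group of its centraliser
  set PH : Sylow p H := P.subtype hPH with hPHdef
  have haD : (⟨a, haH⟩ : H) ∉ commutator H := by
    intro h
    have hc : IsMulCommutative (PH : Subgroup H) := comm_iff.mpr fun u hu v hv =>
      Subtype.ext (hPcomm (u : G) hu (v : G) hv)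
    have hb := Transfer.hall_inf_commutator_inf_center (PH : Subgroup H) hc PH.card_coprime_index
    have hmem : (⟨a, haH⟩ : H) ∈ (PH : Subgroup H) ⊓ commutator H ⊓ center H :=
      ⟨⟨haP, h⟩, mem_center_iff.mpr fun x => Subtype.ext (mem_centralizer_singleton_iff.mp x.2)⟩
    rw [hb, mem_bot] at hmem
    have : a = 1 := congrArg Subtype.val hmem
    rw [this, orderOf_one] at ha
    exact hp.out.ne_one ha.symm
  let of : H →* Abelianization H := Abelianization.of
  have hob : orderOf (of ⟨a, haH⟩) = p := by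
    have h1 : orderOf (of ⟨a, haH⟩) ∣ p :=
      ha ▸ Subgroup.orderOf_mk a haH ▸ orderOf_map_dvd of (⟨a, haH⟩ : H)
    refine ((Nat.dvd_prime hp.out).mp h1).resolve_left fun e => haD ?_
    rw [orderOf_eq_one_iff] at e
    exact (QuotientGroup.eq_one_iff _).mp e
  set R := (powMonoidHom p : Abelianization H →* Abelianization H).range with hR
  have hRtop : R ≠ ⊤ := by
    intro e
    have hinj : Function.Injective (powMonoidHom p : Abelianization H →* Abelianization H) :=
      Finite.injective_iff_surjective.mpr (MonoidHom.range_eq_top.mp e)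
    have h1 : of ⟨a, haH⟩ = 1 := by
      refine hinj ?_
      simp only [powMonoidHom_apply, one_pow]
      rw [← hob, pow_orderOf_eq_one]
    rw [h1, orderOf_one] at hob
    exact hp.out.ne_one hob.symm
  obtain ⟨M0, hM0, hRM0⟩ := (eq_top_or_exists_le_coatom R).resolve_left hRtop
  set M := (M0.comap of).map H.subtype with hMdef
  have hMH : M ≤ H := map_subtype_le _
  have hmemM : ∀ x : H, (x : G) ∈ M ↔ of x ∈ M0 := fun x => by
    simp [hMdef]
  have hnorm : ∀ h ∈ H, ∀ m ∈ M, h * m * h⁻¹ ∈ M := by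
    intro h hh m hm
    have h1 := (hmemM ⟨m, hMH hm⟩).mp hm
    refine (hmemM ⟨h * m * h⁻¹, H.mul_mem (H.mul_mem hh (hMH hm)) (H.inv_mem hh)⟩).mpr ?_
    rw [show (⟨h * m * h⁻¹, H.mul_mem (H.mul_mem hh (hMH hm)) (H.inv_mem hh)⟩ : H) =
      ⟨h, hh⟩ * ⟨m, hMH hm⟩ * ⟨h, hh⟩⁻¹ from rfl, map_mul, map_mul, map_inv, mul_comm (of ⟨h, hh⟩),
      mul_inv_cancel_right]
    exact h1
  have hMtop : ¬ H ≤ M := fun h => hM0.1 (eq_top_iff.mpr fun q _ => by
    obtain ⟨x, rfl⟩ := QuotientGroup.mk'_surjective (commutator H) q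
    exact (hmemM x).mp (h x.2))
  have hMc : ∀ u ∈ M, ∀ v ∈ M, u * v = v * u := by
    refine comm_iff.mp (by_contra fun h => hMtop (hS.le_of_normalizes h fun x hx => ?_))
    exact mem_normalizer_iff.mpr fun w => ⟨hnorm x hx w, fun hw => by
      simpa [mul_assoc] using hnorm x⁻¹ (H.inv_mem hx) _ hw⟩
  have hpowM : ∀ x ∈ H, x ^ p ∈ M := fun x hx => (hmemM (⟨x, hx⟩ ^ p)).mpr (by
    rw [map_pow]; exact hRM0 ⟨_, rfl⟩)
  obtain ⟨y, hyP, hyM⟩ : ∃ y ∈ (P : Subgroup G), y ∉ M := by
    by_contra hcon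
    push Not at hcon
    refine hMtop fun x hx => ?_
    refine Transfer.prime_parts x M fun q hq z ⟨s, hs⟩ hzx => ?_
    have hzH : z ∈ H := (zpowers_le.mpr hx) hzx
    by_cases hqp : q = p
    · subst hqp
      -- a `p`-element of `H` lies in a conjugate of `P` by `H`
      have hzp : IsPGroup q (zpowers (⟨z, hzH⟩ : H)) :=
        IsPGroup.of_card (n := s) (by rw [Nat.card_zpowers, Subgroup.orderOf_mk, hs])
      obtain ⟨Q, hQ⟩ := hzp.exists_le_sylow
      obtain ⟨h, rfl⟩ := MulAction.exists_smul_eq H PH Q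
      obtain ⟨w, hw, hwz⟩ := hQ (mem_zpowers (⟨z, hzH⟩ : H))
      have := hnorm h h.2 w (hcon w hw)
      rwa [show (h : G) * (w : G) * (h : G)⁻¹ = z from congrArg Subtype.val hwz] at this
    · obtain ⟨j, hj⟩ := exists_pow_eq_self_of_coprime (x := z) (n := p)
        (by rw [hs]; exact Nat.Coprime.pow_right s ((Nat.coprime_primes hp.out hq).mpr (Ne.symm hqp)))
      rw [← hj]
      exact pow_mem (hpowM z hzH) j
  have hyH : y ∈ H := hPH hyP
  have hgen : ∀ h ∈ H, ∃ i : ℤ, h * y ^ (-i) ∈ M := by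
    intro h hh
    have hne : M0 < M0 ⊔ zpowers (of ⟨y, hyH⟩) := lt_of_le_of_ne le_sup_left fun e => hyM
      ((hmemM ⟨y, hyH⟩).mpr (e.ge (mem_sup_right (mem_zpowers _))))
    have htop := hM0.2 _ hne
    obtain ⟨m0, hm0, w, hw, e⟩ := mem_sup.mp (htop ▸ mem_top (of ⟨h, hh⟩))
    obtain ⟨i, hi⟩ := mem_zpowers_iff.mp hw
    refine ⟨i, (hmemM (⟨h, hh⟩ * ⟨y, hyH⟩ ^ (-i))).mpr ?_⟩
    rw [map_mul, map_zpow, ← e, ← hi, zpow_neg, mul_inv_cancel_right]
    exact hm0
  obtain ⟨E, hE⟩ := P.isPGroup'.exists_card_eq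
  have hyE : y ^ p ^ E = 1 := by
    have h := congrArg Subtype.val (pow_card_eq_one' (x := (⟨y, hyP⟩ : (P : Subgroup G))))
    rwa [hE] at h
  -- `p`-elements of `M` commute with `y`
  have hpel : ∀ u ∈ M, ∀ s : ℕ, orderOf u = p ^ s → Commute u y := by
    intro u hu s hs
    set Rp := torsionSub M hMc (p ^ s) with hRp
    have hRpp : IsPGroup p Rp := fun x => ⟨s, Subtype.ext x.2.2⟩
    have hPn : (P : Subgroup G) ≤ normalizer (Rp : Set G) := by
      intro x hx
      refine mem_normalizer_iff.mpr fun w => ⟨fun hw => ⟨hnorm x (hPH hx) w hw.1, by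
        rw [conj_pow, hw.2, mul_one, mul_inv_cancel]⟩, fun hw => ⟨?_, ?_⟩⟩
      · simpa [mul_assoc] using hnorm x⁻¹ (H.inv_mem (hPH hx)) _ hw.1
      · have := hw.2
        rw [conj_pow] at this
        exact conj_eq_one_iff.mp this
    have hle : Rp ≤ (P : Subgroup G) := fun w hw =>
      (P.is_maximal' (P.isPGroup'.to_sup_of_normal_right' hRpp hPn) le_sup_left).le (mem_sup_right hw)
    exact hPcomm u (hle ⟨hu, by rw [← hs, pow_orderOf_eq_one]⟩) y hyP
  -- some `p'`-element of `M` does not commute with `y`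
  obtain ⟨b, hbM, hbco, hby⟩ : ∃ b ∈ M, (orderOf b).Coprime p ∧ ¬ Commute b y := by
    by_contra hcon
    push Not at hcon
    have hall : ∀ m ∈ M, Commute m y := by
      intro m hm
      refine mem_centralizer_singleton_iff.mp (Transfer.prime_parts m (centralizer ({y} : Set G))
        fun q hq z ⟨s, hs⟩ hzm => mem_centralizer_singleton_iff.mpr ?_)
      have hzM : z ∈ M := (zpowers_le.mpr hm) hzm
      by_cases hqp : q = p
      · subst hqp
        exact hpel z hzM s hs
      · exact hcon z hzM (hs ▸ Nat.Coprime.pow_left s ((Nat.coprime_primes hq hp.out).mpr hqp))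
    refine hH (comm_iff.mpr fun u hu v hv => ?_)
    obtain ⟨i, hi⟩ := hgen u hu
    obtain ⟨j, hj⟩ := hgen v hv
    rw [show u = u * y ^ (-i) * y ^ i by group, show v = v * y ^ (-j) * y ^ j by group]
    exact ((show Commute (u * y ^ (-i)) (v * y ^ (-j)) from hMc _ hi _ hj).mul_right
      ((hall _ hi).zpow_right j)).mul_left (((hall _ hj).symm.zpow_left i).mul_right
        (((Commute.refl y).zpow_left i).zpow_right j))
  set r := orderOf b with hr
  set B := torsionSub M hMc r with hBdef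
  have hbB : b ∈ B := ⟨hbM, pow_orderOf_eq_one b⟩
  have hBn : ∀ h ∈ H, ∀ β ∈ B, h * β * h⁻¹ ∈ B := fun h hh β hβ =>
    ⟨hnorm h hh β hβ.1, by rw [conj_pow, hβ.2, mul_one, mul_inv_cancel]⟩
  set d := b⁻¹ * (y * b * y⁻¹) with hd
  have hdB : d ∈ B := B.mul_mem (B.inv_mem hbB) (hBn y hyH b hbB)
  have hdy : ¬ Commute d y := by
    intro hc
    have hbd : Commute b d := hMc b hbM d hdB.1
    have hi : ∀ i : ℕ, y ^ i * b * (y ^ i)⁻¹ = b * d ^ i := by
      intro i
      induction i with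
      | zero => simp
      | succ i ih =>
        calc y ^ (i + 1) * b * (y ^ (i + 1))⁻¹ = y * (y ^ i * b * (y ^ i)⁻¹) * y⁻¹ := by
              rw [pow_succ']; group
          _ = (y * b * y⁻¹) * (y * d ^ i * y⁻¹) := by rw [ih]; group
          _ = b * d * d ^ i := by
              rw [(hc.symm.pow_right i).eq, mul_inv_cancel_right, hd]; group
          _ = b * d ^ (i + 1) := by rw [pow_succ', mul_assoc]
    have h1 := hi (p ^ E)
    rw [hyE, one_mul, inv_one, mul_one] at h1
    have h2 : d ^ p ^ E = 1 := left_eq_mul.mp h1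
    have h3 : d = 1 := by
      refine orderOf_eq_one_iff.mp (Nat.eq_one_of_dvd_coprimes (Nat.Coprime.pow_right E hbco)
        (orderOf_dvd_of_pow_eq_one hdB.2) (orderOf_dvd_of_pow_eq_one h2))
    exact hby (commutatorElement_eq_one_iff_mul_comm.mp (by
      rw [hd] at h3; rw [commutatorElement_def]
      rw [inv_mul_eq_one] at h3
      conv_lhs => enter [1, 1, 1]; rw [h3]
      group))
  set K1 := closure ({d, y} : Set G) with hK1
  have hdK : d ∈ K1 := subset_closure (Set.mem_insert _ _)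
  have hyK : y ∈ K1 := subset_closure (Set.mem_insert_of_mem _ rfl)
  have hKna : ¬ IsMulCommutative K1 := fun h => hdy (comm_iff.mp h d hdK y hyK)
  have hPK : (P : Subgroup G) ≤ K1 := by
    refine hS.le_of_normalizes hKna ?_
    have key : ∀ x ∈ (P : Subgroup G), K1.map (MulAut.conj x).toMonoidHom ≤ K1 := by
      intro x hx
      obtain ⟨i, hi⟩ := hgen x (hPH hx)
      have hmP : x * y ^ (-i) ∈ (P : Subgroup G) := mul_mem hx (zpow_mem hyP _)
      have hmd : Commute (x * y ^ (-i)) d := hMc _ hi d hdB.1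
      rw [hK1, MonoidHom.map_closure, closure_le]
      rintro _ ⟨w, rfl | rfl, rfl⟩
      · show x * d * x⁻¹ ∈ K1
        have hmem : y ^ i * d * (y ^ i)⁻¹ ∈ K1 :=
          K1.mul_mem (K1.mul_mem (zpow_mem hyK i) hdK) (K1.inv_mem (zpow_mem hyK i))
        have hmy : Commute (x * y ^ (-i)) (y ^ i) := hPcomm _ hmP _ (zpow_mem hyP i)
        have e : x * d * x⁻¹ = y ^ i * d * (y ^ i)⁻¹ := by
          have h1 : Commute (x * y ^ (-i)) (y ^ i * d * (y ^ i)⁻¹) :=
            (hmy.mul_right hmd).mul_right hmy.inv_right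
          calc x * d * x⁻¹ = (x * y ^ (-i)) * (y ^ i * d * (y ^ i)⁻¹) * (x * y ^ (-i))⁻¹ := by group
            _ = y ^ i * d * (y ^ i)⁻¹ := by rw [h1.eq, mul_inv_cancel_right]
        rw [e]
        exact hmem
      · show x * w * x⁻¹ ∈ closure ({d, w} : Set G)
        rw [hPcomm x hx w hyP, mul_inv_cancel_right]
        exact hyK
    intro x hx
    refine mem_normalizer_iff.mpr fun w => ⟨fun hw => key x hx ⟨w, hw, rfl⟩, fun hw => ?_⟩
    have := key x⁻¹ (inv_mem hx) ⟨_, hw, rfl⟩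
    simpa [mul_assoc] using this
  have hK1sub : ∀ w ∈ K1, ∃ β ∈ B, ∃ i : ℤ, w = β * y ^ i := by
    intro w hw
    induction hw using closure_induction with
    | mem z hz =>
      rcases hz with rfl | rfl
      · exact ⟨_, hdB, 0, by simp⟩
      · exact ⟨1, one_mem _, 1, by simp⟩
    | one => exact ⟨1, one_mem _, 0, by simp⟩
    | mul z z' _ _ h h' =>
      obtain ⟨β, hβ, i, rfl⟩ := h
      obtain ⟨β', hβ', j, rfl⟩ := h'
      refine ⟨β * (y ^ i * β' * (y ^ i)⁻¹), B.mul_mem hβ (hBn _ (zpow_mem hyH i) _ hβ'), i + j, ?_⟩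
      rw [zpow_add]; group
    | inv z _ h =>
      obtain ⟨β, hβ, i, rfl⟩ := h
      refine ⟨y ^ (-i) * β⁻¹ * (y ^ (-i))⁻¹, hBn _ (zpow_mem hyH _) _ (B.inv_mem hβ), -i, ?_⟩
      group
  refine hS.not_cyclic hna ha hH P hPc haP hyP fun x hx => ?_
  obtain ⟨β, hβ, i, rfl⟩ := hK1sub x (hPK hx)
  have hβP : β ∈ (P : Subgroup G) := by
    have := (P : Subgroup G).mul_mem hx (zpow_mem hyP (-i))
    rwa [mul_assoc, ← zpow_add, add_neg_cancel, zpow_zero, mul_one] at this
  obtain ⟨s, hs⟩ := IsPGroup.iff_orderOf.mp P.isPGroup' ⟨β, hβP⟩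
  rw [Subgroup.orderOf_mk] at hs
  have h1 : β = 1 := orderOf_eq_one_iff.mp (Nat.eq_one_of_dvd_coprimes
    (Nat.Coprime.pow_right s hbco) (orderOf_dvd_of_pow_eq_one hβ.2) hs.dvd)
  rw [h1, one_mul]
  exact zpow_mem (mem_zpowers y) i

theorem Ppty.isCT (hS : Ppty G) [IsSimpleGroup G] (hna : ¬ IsMulCommutative G) :
    CTSimple.IsCT G := by
  intro a b c _ hb _ hab hbc
  obtain ⟨p, hp, hpb⟩ := Nat.exists_prime_and_dvd (n := orderOf b)
    (fun e => hb (orderOf_eq_one_iff.mp e))
  haveI := Fact.mk hp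
  have ho : orderOf (b ^ (orderOf b / p)) = p := by
    rw [orderOf_pow_of_dvd (Nat.div_ne_zero_iff.mpr ⟨hp.ne_zero,
      Nat.le_of_dvd (orderOf_pos b) hpb⟩) (Nat.div_dvd_of_dvd hpb),
      Nat.div_div_self hpb (orderOf_pos b).ne']
  exact comm_iff.mp (hS.centralizer_comm hna ho) a
    (mem_centralizer_singleton_iff.mpr (hab.pow_right _).eq) c
    (mem_centralizer_singleton_iff.mpr (hbc.symm.pow_right _).eq)

end Cfsg.Agent.Fus.SelfNormalizing
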