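import Cfsg.Agent.Lib.Fus.SelfNormalizingCT
import Cfsg.Agent.Lib.Classical.DicksonFacts
import Cfsg.Agent.Lib.Classical.DicksonTorus

/-!
Self-normalising non-abelian subgroups in `PSL(2, 2^n)`.
-/

set_option autoImplicit false
set_option linter.unusedSectionVars false
set_option linter.style.haveILetI false

namespace Cfsg.Agent.Fus.SelfNormalizing

open Subgroup Matrix

theorem Ppty.of_equiv {G X : Type*} [Group G] [Group X] (e : G ≃* X) (hS : Ppty G) : Ppty X := by
  intro H hH
  have hc : ¬ IsMulCommutative (H.comap e.toMonoidHom) := fun h => hH (comm_iff.mpr fun a ha b hb =>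
    e.symm.injective (by
      rw [map_mul, map_mul]
      exact comm_iff.mp h _ (by simpa using ha) _ (by simpa using hb)))
  refine le_antisymm (fun x hx => ?_) le_normalizer
  have h1 : e.symm x ∈ normalizer ((H.comap e.toMonoidHom) : Set G) :=
    mem_normalizer_iff.mpr fun w => by simpa using mem_normalizer_iff.mp hx (e w)
  rw [hS _ hc] at h1
  simpa using h1

variable {F : Type*} [Field F] [Fintype F]

local notation "SL₂" => Matrix.SpecialLinearGroup (Fin 2) F
local notation "PSL₂" => Matrix.ProjectiveSpecialLinearGroup (Fin 2) F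

/-- The subgroup of upper triangular matrices with upper left entry in `D`. -/
def upperSub (D : Subgroup Fˣ) : Subgroup SL₂ where
  carrier := {g | g.1 1 0 = 0 ∧ ∃ d ∈ D, g.1 0 0 = ((d : Fˣ) : F)}
  one_mem' := ⟨by simp, 1, one_mem D, by simp⟩
  mul_mem' := by
    rintro g h ⟨hg, d, hd, hg0⟩ ⟨hh, d', hd', hh0⟩
    refine ⟨by simp [Matrix.mul_apply, Fin.sum_univ_two, hg, hh], d * d', mul_mem hd hd', ?_⟩
    simp [Matrix.mul_apply, Fin.sum_univ_two, hh, hg0, hh0]
  inv_mem' := by
    rintro g ⟨hg, d, hd, hg0⟩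
    refine ⟨by simp [Matrix.SpecialLinearGroup.coe_inv, Matrix.adjugate_fin_two, hg], d⁻¹,
      inv_mem hd, ?_⟩
    have hdet := g.2
    rw [Matrix.det_fin_two, hg, mul_zero, sub_zero, hg0] at hdet
    rw [Units.val_inv_eq_inv_val, ← eq_inv_of_mul_eq_one_right hdet]
    simp [Matrix.SpecialLinearGroup.coe_inv, Matrix.adjugate_fin_two]

theorem prime_of_ppty (h2 : (2 : F) = 0) (hq : 4 ≤ Fintype.card F) (hS : Ppty PSL₂) :
    (Fintype.card F - 1).Prime := by
  have hinj : Function.Injective (QuotientGroup.mk' (center SL₂)) := by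
    rw [← MonoidHom.ker_eq_bot_iff, QuotientGroup.ker_mk', CTSimple.center_eq_bot_of_two h2]
  have hS' : Ppty SL₂ := hS.of_equiv
    (MulEquiv.ofBijective _ ⟨hinj, QuotientGroup.mk'_surjective _⟩).symm
  have hsub : ∀ D : Subgroup Fˣ, D = ⊥ ∨ D = ⊤ := by
    intro D
    by_contra hD
    rw [not_or] at hD
    obtain ⟨d, hd, hd1⟩ := D.bot_or_exists_ne_one.resolve_left hD.1
    obtain ⟨μ, hμ⟩ : ∃ μ, μ ∉ D := by
      by_contra h
      push Not at h
      exact hD.2 (eq_top_iff.mpr fun x _ => h x)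
    let T : SL₂ := ⟨!![(μ : F), 0; 0, ((μ⁻¹ : Fˣ) : F)], by simp [Matrix.det_fin_two]⟩
    have hna : ¬ IsMulCommutative (upperSub D) := by
      intro h
      let U : SL₂ := ⟨!![1, 1; 0, 1], by simp [Matrix.det_fin_two]⟩
      let Td : SL₂ := ⟨!![(d : F), 0; 0, ((d⁻¹ : Fˣ) : F)], by simp [Matrix.det_fin_two]⟩
      have hU : U ∈ upperSub D := ⟨by simp [U], 1, one_mem D, by simp [U]⟩
      have hT : Td ∈ upperSub D := ⟨by simp [Td], d, hd, by simp [Td]⟩
      have e := congrArg (fun g : SL₂ => g.1 0 1) (comm_iff.mp h U hU Td hT)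
      simp only [Matrix.SpecialLinearGroup.coe_mul] at e
      simp [U, Td, Matrix.mul_apply, Fin.sum_univ_two] at e
      refine hd1 (Units.ext ?_)
      have hd0 := d.ne_zero
      field_simp at e
      refine sub_eq_zero.mp (mul_self_eq_zero.mp ?_)
      simp only [Units.val_one]
      linear_combination -e + (1 - (d : F)) * h2
    refine hμ ?_
    have hn : T ∈ normalizer ((upperSub D : Subgroup SL₂) : Set SL₂) := by
      refine mem_normalizer_iff.mpr fun g => ?_
      show _ ∧ _ ↔ _ ∧ _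
      have hm := μ.ne_zero
      simp only [Matrix.SpecialLinearGroup.coe_mul, Matrix.SpecialLinearGroup.coe_inv]
      simp [T, Matrix.mul_apply, Fin.sum_univ_two, Matrix.adjugate_fin_two, hm, Matrix.vecMul, dotProduct, mul_comm, mul_left_comm]
    obtain ⟨-, d', hd', e⟩ := (hS' _ hna).le hn
    have : μ = d' := Units.ext (by simpa [T] using e)
    exact this ▸ hd'
  have hc : Nat.card Fˣ = Fintype.card F - 1 := by
    rw [Nat.card_units, Nat.card_eq_fintype_card]
  obtain ⟨p, hp, hpd⟩ := Nat.exists_prime_and_dvd (n := Nat.card Fˣ) (by omega)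
  haveI := Fact.mk hp
  obtain ⟨x, hx⟩ := exists_prime_orderOf_dvd_card' p hpd
  rw [← hc]
  rcases hsub (zpowers x) with e | e
  · rw [zpowers_eq_bot.mp e, orderOf_one] at hx
    exact absurd hx hp.one_lt.ne
  · rw [← card_top (G := Fˣ), ← e, Nat.card_zpowers, hx]
    exact hp

open Cfsg.Agent.Dickson Cfsg.Agent.Grp.SL2 Cfsg.Agent.PSL2Spec in
theorem ppty_psl [CharP F 2] {n : ℕ} (hn : n.Prime) (hq : Fintype.card F = 2 ^ n)
    (hr : (Fintype.card F - 1).Prime) : Ppty PSL₂ := by
  haveI : Fact (Nat.Prime 2) := ⟨Nat.prime_two⟩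
  haveI := Dickson.finite_pgl (F := F)
  have hdel : del F = 1 := by
    rcases del_cases F with ⟨e, -⟩ | ⟨-, ho⟩
    · exact e
    · exact absurd ho (Nat.not_odd_iff_even.mpr (hq ▸ even_two.pow_of_ne_zero hn.ne_zero))
  have hcomm : ∀ {a x y : PSL₂}, a ≠ 1 → x ∈ tor a → y ∈ tor a → x * y = y * x :=
    fun ha hx hy => ((pslData (F := F) 2).comm ha hx hy).eq
  intro H hH
  rcases dickson 2 H with e | ⟨a, ha, ha1, hap, h⟩ | ⟨a, ha, ha1, hap, hidx, hN, -⟩ |
    ⟨a, ha, ha1, hap, hN⟩ | ⟨hc, -, hp⟩ | ⟨hc, -, hp⟩ | ⟨hc, -, hp⟩ | h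
  · exact absurd (comm_iff.mpr fun x hx y hy => by rw [mem_bot.mp (e.le hx)]; simp) hH
  · exact absurd (comm_iff.mpr fun x hx y hy => hcomm ha1 (h hx) (h hy)) hH
  · have hflip : ∀ w ∈ H, w ∉ tor a → w * w = 1 := fun w hw hwt =>
      ((pslData (F := F) 2).semi_flip ha1 hap
        ((pslData (F := F) 2).mem_normalizer_iff ha1 |>.mp (hN hw)) hwt).1
    have ha2 : a * a ≠ 1 := fun e => hap (by rw [pow_two, e])
    refine le_antisymm (fun g hg => ?_) le_normalizer
    have hga : g * a * g⁻¹ ∈ H := (mem_normalizer_iff.mp hg a).mp ha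
    have hgt : g * a * g⁻¹ ∈ tor a := by
      by_contra hc
      apply ha2
      have := hflip _ hga hc
      rw [show g * a * g⁻¹ * (g * a * g⁻¹) = g * (a * a) * g⁻¹ by group] at this
      exact conj_eq_one_iff.mp this
    obtain ⟨w, hwH, hwt⟩ : ∃ w ∈ H, w ∉ tor a := by
      by_contra hc
      push Not at hc
      exact hH (comm_iff.mpr fun x hx y hy => hcomm ha1 (hc x hx) (hc y hy))
    have hwa : w * a * w⁻¹ ∈ tor a := (pslData (F := F) 2).mem_normalizer_iff ha1 |>.mp (hN hwH)
    obtain ⟨hw2, hinv⟩ := (pslData (F := F) 2).semi_flip ha1 hap hwa hwt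
    have key : ∀ t ∈ tor a, t ∈ normalizer (H : Set PSL₂) → t ∈ H := by
      intro t ht htn
      have h1 : t * w * t⁻¹ ∈ H := (mem_normalizer_iff.mp htn w).mp hwH
      have h2 : t * t ∈ H := by
        have h3 : t * w * t⁻¹ * w⁻¹ = t * t := by
          calc t * w * t⁻¹ * w⁻¹ = t * (w * t⁻¹ * w⁻¹) := by group
            _ = t * t := by rw [hinv t⁻¹ (inv_mem ht), inv_inv]
        exact h3 ▸ H.mul_mem h1 (H.inv_mem hwH)
      obtain ⟨k, hk⟩ := exists_pow_eq_self_of_coprime (x := t) (n := 2)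
        ((Nat.prime_two.coprime_iff_not_dvd).mpr fun hd =>
          (pslData (F := F) 2).not_dvd_card Nat.prime_two ha1 hap
            (hd.trans (Subgroup.orderOf_dvd_natCard _ ht)))
      rw [← hk, pow_two]
      exact pow_mem h2 k
    by_cases hgT : g ∈ tor a
    · exact key g hgT hg
    · have h1 : g * w ∈ tor a := (pslData (F := F) 2).semi_mul ha1 hap hgt hgT hwa hwt
      have h2 := key _ h1 (mul_mem hg (le_normalizer hwH))
      simpa using H.mul_mem h2 (H.inv_mem hwH)
  · have hT : Nat.card (tor a) = Fintype.card F := card_tor_uni 2 ha1 hap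
    have haa : a * a = 1 := by rw [← pow_two, hap]
    -- involutions of the normaliser lie in the torus
    have hinvol : ∀ c, c * a * c⁻¹ ∈ tor a → c * c = 1 → c ∈ tor a := by
      intro c hc hcc
      have hci : c⁻¹ = c := inv_eq_of_mul_eq_one_right hcc
      set a' := c * a * c⁻¹ with ha'
      by_cases e : a' = a
      · exact (pslData (F := F) 2).uni_cent ha1 hap (mul_inv_eq_iff_eq_mul.mp e)
      set b := a * a' with hb
      have hbT : b ∈ tor a := mul_mem ((pslData (F := F) 2).self a) hc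
      have hb1 : b ≠ 1 := fun h => e (by
        rw [hb, mul_eq_one_iff_inv_eq, inv_eq_of_mul_eq_one_right haa] at h; exact h.symm)
      have hb2 : b ^ 2 = 1 := (pslData (F := F) 2).uni_exp ha1 hap hbT
      have hcb : c * b * c⁻¹ = b := by
        calc c * b * c⁻¹ = (c * a * c⁻¹) * ((c * c) * a * (c * c)⁻¹) := by rw [hb, ha']; group
          _ = a' * a := by rw [hcc]; simp [ha']
          _ = b := hcomm ha1 hc ((pslData (F := F) 2).self a)
      have := (pslData (F := F) 2).uni_cent hb1 hb2 (mul_inv_eq_iff_eq_mul.mp hcb)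
      have he : (pslData (F := F) 2).T b = (pslData (F := F) 2).T a :=
        (pslData (F := F) 2).same ha1 hbT hb1
      rw [he] at this
      exact this
    obtain ⟨c, hcH, hcT⟩ : ∃ c ∈ H, c ∉ tor a := by
      by_contra hc
      push Not at hc
      exact hH (comm_iff.mpr fun x hx y hy => hcomm ha1 (hc x hx) (hc y hy))
    have hca : c * a * c⁻¹ ∈ tor a := (pslData (F := F) 2).mem_normalizer_iff ha1 |>.mp (hN hcH)
    have hc1 : c ≠ 1 := fun e => hcT (e ▸ one_mem _)
    have hcp : c ^ 2 ≠ 1 := fun e => hcT (hinvol c hca (by rw [← pow_two, e]))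
    have hTc : ∀ x ∈ tor c, x * a * x⁻¹ ∈ tor a := fun x hx =>
      (pslData (F := F) 2).borel_torus ha1 hap hcp hca hx
    have hfree : ∀ x ∈ tor c, x * a * x⁻¹ = a → x = 1 := by
      intro x hx e
      by_contra hx1
      exact (pslData (F := F) 2).semi_of_ne hc1 hcp hx hx1
        ((pslData (F := F) 2).uni_exp ha1 hap
          ((pslData (F := F) 2).uni_cent ha1 hap (mul_inv_eq_iff_eq_mul.mp e)))
    let f : tor c → {t : tor a // t ≠ 1} := fun x =>
      ⟨⟨(x : PSL₂) * a * (x : PSL₂)⁻¹, hTc x x.2⟩, fun e =>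
        ha1 (conj_eq_one_iff.mp (congrArg Subtype.val e))⟩
    have hf : Function.Injective f := by
      intro x y e
      have e' : (x : PSL₂) * a * (x : PSL₂)⁻¹ = (y : PSL₂) * a * (y : PSL₂)⁻¹ :=
        congrArg (fun t : {t : tor a // t ≠ 1} => ((t : tor a) : PSL₂)) e
      have := hfree _ (mul_mem (inv_mem y.2) x.2) (by
        calc (y : PSL₂)⁻¹ * x * a * ((y : PSL₂)⁻¹ * x)⁻¹
            = (y : PSL₂)⁻¹ * ((x : PSL₂) * a * (x : PSL₂)⁻¹) * y := by group
          _ = a := by rw [e']; group)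
      exact Subtype.ext (inv_mul_eq_one.mp this).symm
    classical
    haveI : Fintype (tor a) := Fintype.ofFinite _
    have hcard1 : Nat.card {t : tor a // t ≠ 1} = Fintype.card F - 1 := by
      rw [Nat.card_eq_fintype_card, Fintype.card_subtype_compl, Fintype.card_subtype_eq,
        ← Nat.card_eq_fintype_card, hT]
    have hle := Nat.card_le_card_of_injective f hf
    have hcard : Nat.card (tor c) = Fintype.card F - 1 := by
      have := Fintype.one_lt_card (α := F)
      rcases card_tor_semi 2 hc1 hcp with e | e <;> rw [hdel, Nat.div_one] at e <;> omega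
    have hbij := (Nat.bijective_iff_injective_and_card f).mpr ⟨hf, by rw [hcard, hcard1]⟩
    have hoc : orderOf c = Nat.card (tor c) := by
      have hd := Subgroup.orderOf_dvd_natCard _ ((pslData (F := F) 2).self c)
      change orderOf c ∣ Nat.card (tor c) at hd
      rw [hcard] at hd ⊢
      exact ((Nat.dvd_prime hr).mp hd).resolve_left fun e => hc1 (orderOf_eq_one_iff.mp e)
    have hTcH : tor c ≤ H := by
      have e : zpowers c = tor c := eq_of_le_of_card_ge (zpowers_le.mpr ((pslData (F := F) 2).self c))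
        (by rw [Nat.card_zpowers, hoc])
      exact e ▸ zpowers_le.mpr hcH
    have hcov : ∀ t ∈ tor a, t ≠ 1 → ∃ x ∈ tor c, x * a * x⁻¹ = t := by
      intro t ht ht1
      obtain ⟨x, hx⟩ := hbij.2 ⟨⟨t, ht⟩, fun e => ht1 (congrArg Subtype.val e)⟩
      exact ⟨x, x.2, congrArg (fun t : {t : tor a // t ≠ 1} => ((t : tor a) : PSL₂)) hx⟩
    have hTH : tor a ≤ H := by
      intro t ht
      by_cases ht1 : t = 1
      · exact ht1 ▸ one_mem H
      obtain ⟨x, hx, rfl⟩ := hcov t ht ht1
      exact H.mul_mem (H.mul_mem (hTcH hx) ha) (H.inv_mem (hTcH hx))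
    have hB : ∀ g, g * a * g⁻¹ ∈ tor a → g ∈ H := by
      intro g hg
      obtain ⟨x, hx, e⟩ := hcov _ hg (fun h => ha1 (conj_eq_one_iff.mp h))
      have h1 : x⁻¹ * g * a * (x⁻¹ * g)⁻¹ = a := by
        calc x⁻¹ * g * a * (x⁻¹ * g)⁻¹ = x⁻¹ * (g * a * g⁻¹) * x := by group
          _ = a := by rw [← e]; group
      have h2 := hTH ((pslData (F := F) 2).uni_cent ha1 hap (mul_inv_eq_iff_eq_mul.mp h1))
      simpa using H.mul_mem (hTcH hx) h2
    refine le_antisymm (fun g hg => hB g ?_) le_normalizer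
    have hga : g * a * g⁻¹ ∈ H := (mem_normalizer_iff.mp hg a).mp ha
    refine hinvol _ ((pslData (F := F) 2).mem_normalizer_iff ha1 |>.mp (hN hga)) ?_
    rw [show g * a * g⁻¹ * (g * a * g⁻¹) = g * (a * a) * g⁻¹ by group, haa]
    group
  · rcases hp with hp | hp
    · exact absurd (by rw [hc]; norm_num) hp
    · omega
  · exact absurd (by rw [hc]; norm_num) hp
  · rcases hp with hp | hp
    · exact absurd (by rw [hc]; norm_num) hp
    · omega
  · obtain ⟨K, iK, iK', m, h3, hm, he⟩ := Dickson.SubfieldType.nonempty h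
    obtain ⟨j, -, hj⟩ := (Nat.dvd_prime_pow Nat.prime_two).mp
      (hq ▸ hm ▸ dvd_pow_self (Fintype.card K) (by
        rintro rfl
        rw [pow_zero, hq] at hm
        exact absurd hm.symm (Nat.one_lt_two_pow hn.ne_zero).ne'))
    have hjm : j * m = n := Nat.pow_right_injective le_rfl (by
      show 2 ^ (j * m) = 2 ^ n
      rw [pow_mul, ← hj, hm, hq])
    have hjn : j = n := by
      rcases (Nat.dvd_prime hn).mp (Dvd.intro m hjm) with e | e
      · rw [e] at hj; omega
      · exact e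
    obtain ⟨e⟩ := Dickson.nonempty_psl_congr (FiniteField.ringEquivOfCardEq
      (show Fintype.card K = Fintype.card F by rw [hj, hjn, hq]))
    haveI := Dickson.finite_pgl (F := K)
    have hcardK : Nat.card PSL₂ ≤ Nat.card H := by
      rw [← Nat.card_congr e.toEquiv]
      rcases he with ⟨⟨i⟩⟩ | ⟨⟨i⟩⟩
      · rw [Nat.card_congr i.toEquiv]
      · rw [Nat.card_congr i.toEquiv]
        exact Nat.card_le_card_of_injective _
          (Matrix.ProjectiveSpecialLinearGroup.toPGL_injective (n := Fin 2) (R := K))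
    have htop : H = ⊤ := Subgroup.eq_top_of_le_card H hcardK
    subst htop
    exact le_antisymm le_top le_normalizer

theorem iff_psl {G : Type*} [Group G] [Finite G] [IsSimpleGroup G]
    (hna : ¬ IsMulCommutative G) :
    Ppty G ↔ ∃ n : ℕ, 2 ≤ n ∧ (2 ^ n - 1).Prime ∧
      Nonempty (G ≃* Matrix.ProjectiveSpecialLinearGroup (Fin 2) (GaloisField 2 n)) := by
  constructor
  · intro hS
    obtain ⟨K, i1, i2, f, hf, hK, ⟨e⟩⟩ := CTSimple.iso_psl (hS.isCT hna) hna
    haveI : Fintype (GaloisField 2 f) := Fintype.ofFinite _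
    have hc : Fintype.card (GaloisField 2 f) = 2 ^ f := by
      rw [← Nat.card_eq_fintype_card, GaloisField.card 2 f (by omega)]
    obtain ⟨c⟩ := Dickson.nonempty_psl_congr (FiniteField.ringEquivOfCardEq (hK.trans hc.symm))
    refine ⟨f, hf, ?_, ⟨e.trans c⟩⟩
    have h4 : 4 ≤ Fintype.card K := by
      rw [hK]; exact le_trans (by norm_num) (Nat.pow_le_pow_right two_pos hf)
    exact hK ▸ prime_of_ppty (CTSimple.two_eq_zero (by omega) hK) h4 (hS.of_equiv e)
  · rintro ⟨n, hn, hp, ⟨e⟩⟩
    haveI : Fintype (GaloisField 2 n) := Fintype.ofFinite _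
    have hc : Fintype.card (GaloisField 2 n) = 2 ^ n := by
      rw [← Nat.card_eq_fintype_card, GaloisField.card 2 n (by omega)]
    exact (ppty_psl (Nat.prime_of_pow_sub_one_prime (by omega) hp).2 hc (hc ▸ hp)).of_equiv e.symm

end Cfsg.Agent.Fus.SelfNormalizing
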