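import Mathlib

/-!
Finite semifields of characteristic two whose sets of left and of right multiplications are closed
under inversion are fields.

The two hypotheses give `((x a) b) a = x ((a b) a)` and its mirror image, so the powers of an element
generate a field `K`, the space is a `K`-bimodule, and an eigenvector `x` of a right multiplication
spans with `K` an associative ring without zero divisors, commutative by Wedderburn's theorem.
-/

set_option autoImplicit false
set_option linter.unusedSectionVars false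
set_option linter.style.haveILetI false

namespace Cfsg.Agent.Fus.InvSemifield

variable {W : Type*} [AddCommGroup W] [Finite W]

/-- The axioms: a bi-additive product with unit on a finite space of characteristic two, without zero
divisors, whose translations are closed under inversion. -/
structure IsInvSemifield (mul : W →+ W →+ W) (e : W) : Prop where
  two : ∀ x : W, x + x = 0
  ne_zero : e ≠ 0
  one_mul : ∀ x, mul e x = x
  mul_one : ∀ x, mul x e = x
  eq_zero : ∀ x y, mul x y = 0 → x = 0 ∨ y = 0
  inv_right : ∀ a, a ≠ 0 → ∃ a', ∀ x, mul (mul x a') a = x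
  inv_left : ∀ a, a ≠ 0 → ∃ a', ∀ x, mul a (mul a' x) = x

/-- Left multiplications. -/
def lm (mul : W →+ W →+ W) (a : W) : AddMonoid.End W := mul a

/-- Right multiplications. -/
def rm (mul : W →+ W →+ W) (a : W) : AddMonoid.End W := mul.flip a

variable {mul : W →+ W →+ W} {e : W}

theorem lm_add (a b : W) : lm mul (a + b) = lm mul a + lm mul b := mul.map_add a b

theorem rm_add (a b : W) : rm mul (a + b) = rm mul a + rm mul b := mul.flip.map_add a b

/-- Hua's identity in a set of operators closed under inversion. -/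
theorem hua {R : Type*} [Ring R] (T : W →+ R) (h2 : ∀ r : R, r + r = 0)
    (hinv : ∀ a : W, a ≠ 0 → ∃ a', T a' * T a = 1 ∧ T a * T a' = 1) (a b : W) :
    ∃ c, T c = T a * T b * T a := by
  by_cases ha : a = 0
  · exact ⟨0, by rw [ha, map_zero, zero_mul, mul_zero]⟩
  by_cases hb : b = 0
  · exact ⟨0, by rw [hb, map_zero, mul_zero, zero_mul]⟩
  obtain ⟨a', ha1, ha2⟩ := hinv a ha
  obtain ⟨b', hb1, hb2⟩ := hinv b hb
  by_cases hd : b' + a = 0
  · refine ⟨a, ?_⟩
    have h : T b' = T a := by
      have h1 := congrArg T hd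
      rw [map_add, map_zero] at h1
      exact add_right_cancel (h1.trans (h2 (T a)).symm)
    rw [← h, hb1, one_mul]
  obtain ⟨d', hd1, -⟩ := hinv _ hd
  have key : T (a' + d') * (T (b' + a) * T b * T a) = 1 := by
    have e1 : T d' * (T (b' + a) * T b * T a) = T b * T a := by
      rw [← mul_assoc, ← mul_assoc, hd1, one_mul]
    have e2 : T (b' + a) * T b * T a = T a + T a * T b * T a := by
      rw [map_add, add_mul, add_mul, hb1, one_mul]
    rw [map_add, add_mul, e1, e2, mul_add, ha1, ← mul_assoc, ← mul_assoc, ha1, one_mul, add_assoc, h2,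
      add_zero]
  by_cases hc : a' + d' = 0
  · rw [hc, map_zero, zero_mul] at key
    exact ⟨0, by rw [map_zero, ← mul_one (T a * T b * T a), ← key, mul_zero]⟩
  obtain ⟨c, hc1, -⟩ := hinv _ hc
  refine ⟨c + a, ?_⟩
  have e3 : T c = T (b' + a) * T b * T a := by
    calc T c = T c * (T (a' + d') * (T (b' + a) * T b * T a)) := by rw [key, mul_one]
      _ = _ := by rw [← mul_assoc, hc1, one_mul]
  rw [map_add, e3, map_add, add_mul, add_mul, hb1, one_mul, add_comm (T a), add_assoc, h2, add_zero]

variable (h : IsInvSemifield mul e)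
include h

theorem end_two (T : AddMonoid.End W) : T + T = 0 := by
  ext x
  exact h.two (T x)

theorem flip : IsInvSemifield mul.flip e :=
  ⟨h.two, h.ne_zero, h.mul_one, h.one_mul, fun x y hxy => (h.eq_zero y x hxy).symm, fun a ha => by
    obtain ⟨a', ha'⟩ := h.inv_left a ha
    exact ⟨a', ha'⟩, fun a ha => by
    obtain ⟨a', ha'⟩ := h.inv_right a ha
    exact ⟨a', ha'⟩⟩

theorem rm_injective {a : W} (ha : a ≠ 0) : Function.Injective (rm mul a) := fun x y hxy => by
  have h1 : mul (x + y) a = 0 := by
    rw [map_add, AddMonoidHom.add_apply]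
    exact (congrArg (· + mul y a) hxy).trans (h.two _)
  have h2 := (h.eq_zero _ _ h1).resolve_right ha
  exact add_right_cancel (h2.trans (h.two y).symm)

theorem rm_hua (a b : W) : rm mul a * rm mul b * rm mul a = rm mul (mul (mul a b) a) := by
  obtain ⟨c, hc⟩ := hua (mul.flip : W →+ AddMonoid.End W) (end_two h) (fun a ha => by
    obtain ⟨a', ha'⟩ := h.inv_right a ha
    have h1 : rm mul a * rm mul a' = 1 := AddMonoidHom.ext ha'
    refine ⟨a', AddMonoidHom.ext fun x => ?_, h1⟩
    apply rm_injective h ha
    exact ha' _) a b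
  have hc' : rm mul c = rm mul a * rm mul b * rm mul a := hc
  have he := DFunLike.congr_fun hc' e
  change mul e c = mul (mul (mul e a) b) a at he
  rw [h.one_mul, h.one_mul] at he
  rw [← hc', he]

theorem lm_hua (a b : W) : lm mul a * lm mul b * lm mul a = lm mul (mul a (mul b a)) :=
  rm_hua (flip h) a b

theorem rm_one : rm mul e = 1 := AddMonoidHom.ext h.mul_one

theorem lm_one : lm mul e = 1 := AddMonoidHom.ext h.one_mul

/-- Powers of an element. -/
theorem rm_pow (a : W) : ∀ n, rm mul ((rm mul a ^ n) e) = rm mul a ^ n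
  | 0 => by rw [pow_zero]; exact rm_one h
  | 1 => by rw [pow_one]; exact congrArg (rm mul) (h.one_mul a)
  | n + 2 => by
    obtain ⟨w, hw⟩ : ∃ w, w = (rm mul a ^ n) e := ⟨_, rfl⟩
    have hn : rm mul w = rm mul a ^ n := hw ▸ rm_pow a n
    have key : rm mul a ^ (n + 2) = rm mul (mul (mul a w) a) := by
      rw [← rm_hua h, hn, ← pow_succ', ← pow_succ]
    have he := DFunLike.congr_fun key e
    change _ = mul e _ at he
    rw [h.one_mul] at he
    rw [he, key]

theorem pow_eval (a : W) : ∀ n, (lm mul a ^ n) e = (rm mul a ^ n) e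
  | 0 => rfl
  | n + 1 => by
    rw [pow_succ', pow_succ']
    show mul a ((lm mul a ^ n) e) = (rm mul a * rm mul a ^ n) e
    rw [pow_eval a n, ← pow_succ', pow_succ]
    show rm mul ((rm mul a ^ n) e) a = (rm mul a ^ n) (mul e a)
    rw [rm_pow h, h.one_mul]

theorem lm_pow (a : W) (n : ℕ) : lm mul ((lm mul a ^ n) e) = lm mul a ^ n :=
  rm_pow (flip h) a n

theorem flexible (a : W) : Commute (lm mul a) (rm mul a) := by
  refine AddMonoidHom.ext fun x => ?_
  show mul a (mul x a) = mul (mul a x) a
  have sq : ∀ b, rm mul b * rm mul b = rm mul (mul b b) := fun b => by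
    have := rm_hua h b e
    rwa [rm_one h, mul_one, h.mul_one] at this
  have e1 : mul a (mul a x) = mul (mul a a) x := by
    have := DFunLike.congr_fun (lm_hua h a e) x
    rw [lm_one h, mul_one, h.one_mul] at this
    exact this
  have lin : rm mul a * rm mul x + rm mul x * rm mul a = rm mul (mul x a + mul a x) := by
    have h1 := sq (a + x)
    rw [rm_add, add_mul, mul_add, mul_add, sq, sq, map_add, map_add, AddMonoidHom.add_apply,
      AddMonoidHom.add_apply, rm_add, rm_add, rm_add] at h1
    rw [rm_add]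
    have h2 : rm mul (mul a a) + (rm mul a * rm mul x + rm mul x * rm mul a) + rm mul (mul x x) =
        rm mul (mul a a) + (rm mul (mul x a) + rm mul (mul a x)) + rm mul (mul x x) := by
      calc _ = rm mul (mul a a) + rm mul a * rm mul x +
              (rm mul x * rm mul a + rm mul (mul x x)) := by abel
        _ = _ := h1
        _ = _ := by abel
    exact add_left_cancel (add_right_cancel h2)
  have e2 := DFunLike.congr_fun lin a
  change mul (mul a x) a + mul (mul a a) x = mul a (mul x a + mul a x) at e2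
  rw [map_add, e1] at e2
  exact (add_right_cancel e2).symm

/-- The elements `p (a)`. -/
theorem eval_poly (a : W) (p : Polynomial ℤ) :
    (Polynomial.aeval (lm mul a) p) e = (Polynomial.aeval (rm mul a) p) e ∧
      lm mul ((Polynomial.aeval (lm mul a) p) e) = Polynomial.aeval (lm mul a) p ∧
      rm mul ((Polynomial.aeval (lm mul a) p) e) = Polynomial.aeval (rm mul a) p := by
  induction p using Polynomial.induction_on' with
  | add p q hp hq =>
    simp only [map_add]
    refine ⟨?_, ?_, ?_⟩
    · exact congrArg₂ (· + ·) hp.1 hq.1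
    · show lm mul ((Polynomial.aeval (lm mul a) p) e + (Polynomial.aeval (lm mul a) q) e) = _
      rw [lm_add, hp.2.1, hq.2.1]
    · show rm mul ((Polynomial.aeval (lm mul a) p) e + (Polynomial.aeval (lm mul a) q) e) = _
      rw [rm_add, hp.2.2, hq.2.2]
  | monomial n c =>
    simp only [Polynomial.aeval_monomial, ← Algebra.smul_def]
    show c • ((lm mul a ^ n) e) = c • ((rm mul a ^ n) e) ∧
      (mul : W →+ W →+ W) (c • ((lm mul a ^ n) e)) = c • (lm mul a ^ n) ∧
      (mul.flip : W →+ W →+ W) (c • ((lm mul a ^ n) e)) = c • (rm mul a ^ n)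
    rw [map_zsmul, map_zsmul]
    refine ⟨by rw [pow_eval h], congrArg (c • ·) (lm_pow h a n), congrArg (c • ·) ?_⟩
    rw [pow_eval h]
    exact rm_pow h a n

theorem lm_injective {a : W} (ha : a ≠ 0) : Function.Injective (lm mul a) :=
  rm_injective (flip h) ha

/-- An element commutes with all. -/
theorem comm_elem (a x₀ : W) : mul a x₀ = mul x₀ a := by
  classical
  by_contra hne
  obtain ⟨La, hLa⟩ : ∃ La, La = lm mul a := ⟨_, rfl⟩
  -- the field of polynomials in `a`
  let 𝒦 := (Polynomial.aeval (R := ℤ) La).toRingHom.range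
  have hmem : ∀ T : 𝒦, ∃ p, Polynomial.aeval La p = (T : AddMonoid.End W) := fun T => T.2
  have hval : ∀ T : 𝒦, ∀ x, (T : AddMonoid.End W) x = mul ((T : AddMonoid.End W) e) x := fun T x => by
    obtain ⟨p, hp⟩ := hmem T
    subst hLa
    rw [← hp]
    exact (DFunLike.congr_fun (eval_poly h a p).2.1 x).symm
  haveI hfinEnd : Finite (AddMonoid.End W) :=
    Finite.of_injective (fun f : AddMonoid.End W => (f : W → W)) DFunLike.coe_injective
  letI : CommRing 𝒦 := { (inferInstance : Ring 𝒦) with
    mul_comm := fun S T => by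
      obtain ⟨p, hp⟩ := hmem S
      obtain ⟨q, hq⟩ := hmem T
      refine Subtype.ext ?_
      show (S : AddMonoid.End W) * T = T * S
      rw [← hp, ← hq, ← map_mul, ← map_mul, mul_comm] }
  have hev : Function.Injective fun T : 𝒦 => (T : AddMonoid.End W) e := fun S T hST =>
    Subtype.ext (AddMonoidHom.ext fun x => (hval S x).trans ((congrArg (mul · x) hST).trans (hval T x).symm))
  haveI : Nontrivial 𝒦 := ⟨⟨0, 1, fun h01 => h.ne_zero (congrArg (fun T : 𝒦 => (T : AddMonoid.End W) e) h01).symm⟩⟩
  haveI : NoZeroDivisors 𝒦 := ⟨fun {S T} hST => by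
    have h1 := congrArg (fun R : 𝒦 => (R : AddMonoid.End W) e) hST
    change (S : AddMonoid.End W) ((T : AddMonoid.End W) e) = 0 at h1
    rw [hval S] at h1
    exact (h.eq_zero _ _ h1).imp (fun e' => hev e') (fun e' => hev e')⟩
  haveI : IsDomain 𝒦 := NoZeroDivisors.to_isDomain _
  letI := Fintype.ofFinite 𝒦
  letI : Field 𝒦 := Fintype.fieldOfDomain 𝒦
  haveI : CharP 𝒦 2 := CharTwo.of_one_ne_zero_of_two_eq_zero one_ne_zero (by
    rw [← one_add_one_eq_two]
    exact Subtype.ext (end_two h _))
  letI : Module 𝒦 W :=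
    { smul := fun T x => (T : AddMonoid.End W) x
      one_smul := fun _ => rfl
      mul_smul := fun _ _ _ => rfl
      smul_zero := fun T => map_zero (T : AddMonoid.End W)
      smul_add := fun T x y => map_add (T : AddMonoid.End W) x y
      add_smul := fun _ _ _ => rfl
      zero_smul := fun _ => rfl }
  obtain ⟨g, hgdef⟩ : ∃ g : 𝒦, (g : AddMonoid.End W) = La := ⟨⟨La, Polynomial.X, by simp⟩, rfl⟩
  have hge : (g : AddMonoid.End W) e = a := by rw [hgdef, hLa]; exact h.mul_one a
  let ρ : Module.End 𝒦 W :=
    { toFun := fun x => mul x a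
      map_add' := fun x y => by rw [map_add]; rfl
      map_smul' := fun T x => by
        obtain ⟨p, hp⟩ := hmem T
        show rm mul a ((T : AddMonoid.End W) x) = (T : AddMonoid.End W) (rm mul a x)
        rw [← hp, hLa]
        exact DFunLike.congr_fun
          (((Commute.refl (Polynomial.X : Polynomial ℤ)).map (Polynomial.aeval (lm mul a))) |> fun _ =>
            (Polynomial.induction_on' p
              (fun p q hp hq => by rw [map_add, add_mul, mul_add, hp, hq])
              (fun n c => by
                rw [Polynomial.aeval_monomial, mul_assoc, ((flexible h a).pow_left n).eq,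
                  ← mul_assoc, Algebra.commutes, mul_assoc]) :
              Polynomial.aeval (lm mul a) p * rm mul a = rm mul a * Polynomial.aeval (lm mul a) p)).symm x }
  have hρpow : ∀ (n : ℕ) x, (ρ ^ n) x = (rm mul a ^ n) x := by
    intro n
    induction n with
    | zero => exact fun _ => rfl
    | succ n ih =>
      intro x
      rw [pow_succ', pow_succ']
      exact congrArg (fun w => mul w a) (ih x)
  -- `ρ` is a root of `X ^ q - X`
  have hq : ∀ x, (ρ ^ Fintype.card 𝒦) x = ρ x := by
    intro x
    have hga : La ^ Fintype.card 𝒦 = La := by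
      rw [← hgdef, ← SubmonoidClass.coe_pow, FiniteField.pow_card]
    rw [hρpow, ← rm_pow h, ← pow_eval h, ← hLa, hga, hLa]
    exact congrArg (mul x) (h.mul_one a)
  have hker : ∀ (s : Finset 𝒦) (y : W), y ≠ 0 →
      (Polynomial.aeval ρ (∏ l ∈ s, (Polynomial.X - Polynomial.C l))) y = 0 →
      ∃ l ∈ s, ∃ x, x ≠ 0 ∧ ρ x = l • x := by
    intro s
    induction s using Finset.induction_on with
    | empty =>
      intro y hy hs
      rw [Finset.prod_empty, map_one] at hs
      exact absurd hs hy
    | insert l s hls ih =>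
      intro y hy hs
      rw [Finset.prod_insert hls, map_mul, Module.End.mul_apply] at hs
      by_cases hz : (Polynomial.aeval ρ (∏ l ∈ s, (Polynomial.X - Polynomial.C l))) y = 0
      · obtain ⟨l', hl', hx⟩ := ih y hy hz
        exact ⟨l', Finset.mem_insert_of_mem hl', hx⟩
      · refine ⟨l, Finset.mem_insert_self _ _, _, hz, ?_⟩
        rw [map_sub, Polynomial.aeval_X, Polynomial.aeval_C, LinearMap.sub_apply, sub_eq_zero] at hs
        exact hs
  obtain ⟨l, hlg, x, hx, hxl⟩ : ∃ l : 𝒦, l ≠ g ∧ ∃ x : W, x ≠ 0 ∧ mul x a = (l : AddMonoid.End W) x := by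
    have hpoly : (Polynomial.X - Polynomial.C g) *
        ∏ l ∈ Finset.univ.erase g, (Polynomial.X - Polynomial.C l) =
        (Polynomial.X ^ Fintype.card 𝒦 - Polynomial.X : Polynomial 𝒦) := by
      rw [Finset.mul_prod_erase Finset.univ (fun l => Polynomial.X - Polynomial.C l) (Finset.mem_univ g)]
      have hq1 : 1 < Fintype.card 𝒦 := Fintype.one_lt_card
      have hr := Polynomial.prod_multiset_X_sub_C_of_monic_of_roots_card_eq
        (p := (Polynomial.X ^ Fintype.card 𝒦 - Polynomial.X : Polynomial 𝒦))
        (Polynomial.monic_X_pow_sub (by rw [Polynomial.degree_X]; exact_mod_cast hq1)) (by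
          rw [FiniteField.roots_X_pow_card_sub_X, FiniteField.X_pow_card_sub_X_natDegree_eq 𝒦 hq1]
          rfl)
      rw [FiniteField.roots_X_pow_card_sub_X] at hr
      exact hr
    have hy : mul x₀ a + mul a x₀ ≠ 0 := fun e' =>
      hne (add_right_cancel (e'.trans (h.two (mul a x₀)).symm)).symm
    obtain ⟨l, hl, x, hx, hxl⟩ := hker (Finset.univ.erase g) (mul x₀ a + mul a x₀) hy (by
      have h1 := congrArg (fun P => Polynomial.aeval ρ P x₀) hpoly
      simp only [mul_comm (Polynomial.X - Polynomial.C g)] at h1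
      rw [map_mul, Module.End.mul_apply, map_sub, map_sub, Polynomial.aeval_X, Polynomial.aeval_C,
        map_pow, Polynomial.aeval_X, LinearMap.sub_apply, LinearMap.sub_apply, hq, sub_self] at h1
      have h2 : ρ x₀ - (algebraMap 𝒦 (Module.End 𝒦 W) g) x₀ = mul x₀ a + mul a x₀ := by
        rw [sub_eq_add_neg, neg_eq_of_add_eq_zero_left (h.two _)]
        show mul x₀ a + (g : AddMonoid.End W) x₀ = _
        rw [hgdef, hLa]
        rfl
      rwa [h2] at h1)
    exact ⟨l, Finset.ne_of_mem_erase hl, x, hx, hxl⟩
  -- the twist of `K` induced by `x`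
  obtain ⟨Lx, hLxdef⟩ : ∃ Lx, Lx = lm mul x := ⟨_, rfl⟩
  obtain ⟨ι, hι⟩ : ∃ ι : 𝒦 → W, ι = fun T : 𝒦 => (T : AddMonoid.End W) e := ⟨_, rfl⟩
  have hιL : ∀ (T : 𝒦) w, mul (ι T) w = (T : AddMonoid.End W) w := fun T w => by
    subst hι; exact (hval T w).symm
  have hιR : ∀ (T : 𝒦), ∃ p, Polynomial.aeval La p = (T : AddMonoid.End W) ∧
      rm mul (ι T) = Polynomial.aeval (rm mul a) p := fun T => by
    obtain ⟨p, hp⟩ := hmem T
    refine ⟨p, hp, ?_⟩
    subst hι hLa
    show rm mul ((T : AddMonoid.End W) e) = _
    rw [← hp]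
    exact (eval_poly h a p).2.2
  -- right multiplications by `K` are linear over `K`
  have hcomm : ∀ (S T : 𝒦) w, mul ((S : AddMonoid.End W) w) (ι T) = (S : AddMonoid.End W) (mul w (ι T)) := by
    intro S T w
    obtain ⟨p, hp⟩ := hmem S
    obtain ⟨q, hq', hqR⟩ := hιR T
    have hc : Commute (Polynomial.aeval (rm mul a) q) (Polynomial.aeval La p) := by
      have h1 : Commute (rm mul a) La := hLa ▸ (flexible h a).symm
      have h2 : ∀ q : Polynomial ℤ, ∀ R : AddMonoid.End W, Commute (rm mul a) R →
          Commute (Polynomial.aeval (rm mul a) q) R := fun q R hR => by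
        induction q using Polynomial.induction_on' with
        | add p q hp hq => rw [map_add]; exact hp.add_left hq
        | monomial n c =>
          rw [Polynomial.aeval_monomial]
          exact (Algebra.commute_algebraMap_left c R).mul_left (hR.pow_left n)
      refine h2 q _ (Commute.symm ?_)
      have h3 : ∀ p : Polynomial ℤ, Commute (Polynomial.aeval La p) (rm mul a) := fun p => by
        induction p using Polynomial.induction_on' with
        | add p q hp hq => rw [map_add]; exact hp.add_left hq
        | monomial n c =>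
          rw [Polynomial.aeval_monomial]
          exact (Algebra.commute_algebraMap_left c _).mul_left (h1.symm.pow_left n)
      exact h3 p
    show rm mul (ι T) ((S : AddMonoid.End W) w) = (S : AddMonoid.End W) (rm mul (ι T) w)
    rw [hqR, ← hp]
    exact DFunLike.congr_fun hc.eq w
  have hmulK : ∀ (S T : 𝒦) w, mul w (ι (S * T)) = mul (mul w (ι S)) (ι T) := by
    intro S T w
    obtain ⟨p, hp, hpR⟩ := hιR S
    obtain ⟨q, hq', hqR⟩ := hιR T
    have key : rm mul (ι (S * T)) = Polynomial.aeval (rm mul a) (q * p) := by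
      subst hι hLa
      show rm mul (((S * T : 𝒦) : AddMonoid.End W) e) = _
      rw [show ((S * T : 𝒦) : AddMonoid.End W) = Polynomial.aeval (lm mul a) (q * p) by
        rw [mul_comm q p, map_mul, hp, hq']; rfl]
      exact (eval_poly h a _).2.2
    rw [map_mul, ← hqR, ← hpR] at key
    exact DFunLike.congr_fun key w
  have hex : ∀ T : 𝒦, ∃ T' : 𝒦, mul x (ι T) = (T' : AddMonoid.End W) x := by
    intro T
    obtain ⟨p, hp, hpR⟩ := hιR T
    show ∃ T' : 𝒦, rm mul (ι T) x = (T' : AddMonoid.End W) x
    rw [hpR]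
    clear hpR hp
    induction p using Polynomial.induction_on' with
    | add p q hp hq =>
      obtain ⟨S, hS⟩ := hp
      obtain ⟨S', hS'⟩ := hq
      exact ⟨S + S', by rw [map_add]; exact congrArg₂ (· + ·) hS hS'⟩
    | monomial n c =>
      refine ⟨c • l ^ n, ?_⟩
      have hn : ∀ n : ℕ, (rm mul a ^ n) x = ((l ^ n : 𝒦) : AddMonoid.End W) x := by
        intro n
        induction n with
        | zero => rfl
        | succ n ih =>
          rw [pow_succ']
          show mul ((rm mul a ^ n) x) a = _
          rw [ih, ← hge]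
          show mul _ ((g : AddMonoid.End W) e) = _
          rw [show ((g : AddMonoid.End W) e) = ι g by rw [hι], hcomm, show mul x (ι g) = mul x a by
            rw [hι]; exact congrArg (mul x) hge, hxl, pow_succ]
          rfl
      rw [Polynomial.aeval_monomial, ← Algebra.smul_def]
      show c • ((rm mul a ^ n) x) = _
      rw [hn]
      rfl
  choose σ hσ using hex
  have hinjx : ∀ S T : 𝒦, (S : AddMonoid.End W) x = (T : AddMonoid.End W) x → S = T := fun S T hST => by
    apply hev
    refine rm_injective h hx ?_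
    show mul _ x = mul _ x
    rw [← hval, ← hval]
    exact hST
  have hσm : ∀ S T, σ (S * T) = σ S * σ T := fun S T => hinjx _ _ (by
    rw [← hσ, hmulK, hσ, hcomm, hσ]; rfl)
  have hσa : ∀ S T, σ (S + T) = σ S + σ T := fun S T => hinjx _ _ (by
    rw [← hσ, hι]
    show mul x ((S : AddMonoid.End W) e + (T : AddMonoid.End W) e) = _
    rw [map_add]
    show _ = (σ S : AddMonoid.End W) x + (σ T : AddMonoid.End W) x
    rw [← hσ S, ← hσ T, hι])
  have hσ1 : σ 1 = 1 := hinjx _ _ (by rw [← hσ, hι]; exact h.mul_one x)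
  let σh : 𝒦 →+* 𝒦 :=
    { toFun := σ
      map_one' := hσ1
      map_mul' := hσm
      map_zero' := hinjx _ _ (by rw [← hσ, hι]; exact map_zero (mul x))
      map_add' := hσa }
  -- powers of `x`
  obtain ⟨px, hpx⟩ : ∃ px : ℕ → W, px = fun n => (lm mul x ^ n) e := ⟨_, rfl⟩
  have hpxL : ∀ n w, mul (px n) w = (lm mul x ^ n) w := fun n w => by
    subst hpx; exact DFunLike.congr_fun (lm_pow h x n) w
  have hpxR : ∀ n w, mul w (px n) = (rm mul x ^ n) w := fun n w => by
    subst hpx
    show rm mul ((lm mul x ^ n) e) w = _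
    rw [pow_eval h, rm_pow h]
  have hxsucc : ∀ n, mul (px n) x = px (n + 1) := fun n => by
    rw [hpxL, hpx]
    show (lm mul x ^ n) x = (lm mul x ^ (n + 1)) e
    rw [pow_succ]
    exact congrArg (lm mul x ^ n) (h.mul_one x).symm
  have hleft : ∀ (T : 𝒦) (n : ℕ), mul x ((T : AddMonoid.End W) (px n)) =
      (σ T : AddMonoid.End W) (px (n + 1)) := by
    intro T n
    have e1 : mul (mul (ι T) x + mul x (ι T)) (px n) =
        ((T + σ T : 𝒦) : AddMonoid.End W) (px (n + 1)) := by
      have e0 : mul (ι T) x + mul x (ι T) = ((T + σ T : 𝒦) : AddMonoid.End W) x := by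
        rw [hιL, hσ]; rfl
      rw [e0, hval (T + σ T) x, hval (T + σ T) (px (n + 1)), hpxR n, hpxR (n + 1), pow_succ]
      rfl
    have sq : ∀ b, lm mul b * lm mul b = lm mul (mul b b) := fun b => by
      have := lm_hua h b e
      rwa [lm_one h, mul_one, h.one_mul] at this
    have e2 : lm mul (ι T) * lm mul x + lm mul x * lm mul (ι T) =
        lm mul (mul (ι T) x + mul x (ι T)) := by
      have h1 := sq (ι T + x)
      simp only [lm_add, add_mul, mul_add, sq, map_add, AddMonoidHom.add_apply] at h1
      rw [lm_add]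
      have h2 : lm mul (mul (ι T) (ι T)) + (lm mul (ι T) * lm mul x + lm mul x * lm mul (ι T)) +
            lm mul (mul x x) = lm mul (mul (ι T) (ι T)) +
            (lm mul (mul (ι T) x) + lm mul (mul x (ι T))) + lm mul (mul x x) := by
        calc _ = lm mul (mul (ι T) (ι T)) + lm mul x * lm mul (ι T) +
                (lm mul (ι T) * lm mul x + lm mul (mul x x)) := by abel
          _ = _ := h1
          _ = _ := by abel
      exact add_left_cancel (add_right_cancel h2)
    have e3 := DFunLike.congr_fun e2 (px n)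
    change mul (ι T) (mul x (px n)) + mul x (mul (ι T) (px n)) =
      mul (mul (ι T) x + mul x (ι T)) (px n) at e3
    rw [e1, hιL, hιL, show mul x (px n) = px (n + 1) by simp only [hpx, pow_succ']; rfl] at e3
    exact add_left_cancel (a := (T : AddMonoid.End W) (px (n + 1))) e3
  have hpowL : ∀ (n : ℕ) (T : 𝒦) (j : ℕ), mul (px n) ((T : AddMonoid.End W) (px j)) =
      (((σh ^ n : 𝒦 →+* 𝒦) T : 𝒦) : AddMonoid.End W) (px (j + n)) := by
    intro n
    induction n with
    | zero =>
      intro T j
      rw [hpxL]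
      rfl
    | succ n ih =>
      intro T j
      rw [hpxL, pow_succ]
      show (lm mul x ^ n) (mul x _) = _
      rw [hleft, ← hpxL, ih, add_right_comm, pow_succ]
      rfl
  -- an odd period
  obtain ⟨N, hNodd, hN⟩ : ∃ N, Odd N ∧ px N = e := by
    by_cases h1 : x = e
    · exact ⟨1, odd_one, by simp only [hpx, pow_one]; exact (h.mul_one x).trans h1⟩
    have hinj := lm_injective h hx
    have hp : ∀ n : ℕ, Function.Injective (lm mul x ^ n) := by
      intro n
      induction n with
      | zero => exact fun _ _ hh => hh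
      | succ n ih => rw [pow_succ']; exact hinj.comp ih
    obtain ⟨i, j, hij, he'⟩ := Finite.exists_ne_map_eq_of_infinite fun n : ℕ => lm mul x ^ n
    wlog hlt : i < j generalizing i j
    · exact this j i hij.symm he'.symm (by omega)
    obtain ⟨d, hd, hd0⟩ : ∃ d, (lm mul x ^ d) = 1 ∧ 0 < d := by
      refine ⟨j - i, AddMonoidHom.ext fun w => hp i ?_, by omega⟩
      show (lm mul x ^ i * lm mul x ^ (j - i)) w = (lm mul x ^ i) w
      rw [← pow_add, show i + (j - i) = j by omega]
      exact (DFunLike.congr_fun he' w).symm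
    -- remove the two-part, squaring being injective
    obtain ⟨k, r, hr, rfl⟩ := Nat.exists_eq_two_pow_mul_odd hd0.ne'
    refine ⟨r, hr, ?_⟩
    have hsq : ∀ T : AddMonoid.End W, (∃ w, lm mul w = T) → ∀ k : ℕ, T ^ 2 ^ k = 1 → T = 1 := by
      rintro T ⟨w, rfl⟩ k
      induction k with
      | zero => exact fun h1 => by simpa using h1
      | succ k ih =>
        intro h1
        refine ih ?_
        rw [pow_succ, pow_mul] at h1
        obtain ⟨v, hv⟩ : ∃ v, lm mul v = lm mul w ^ 2 ^ k := ⟨_, lm_pow h w (2 ^ k)⟩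
        rw [← hv] at h1 ⊢
        have h2 : lm mul (v + e) * lm mul (v + e) = 0 := by
          rw [lm_add, lm_one h, add_mul, mul_add, mul_add, one_mul, one_mul, mul_one, ← sq, h1]
          calc (1 : AddMonoid.End W) + lm mul v + (lm mul v + 1) = (1 + 1) + (lm mul v + lm mul v) := by
                abel
            _ = 0 := by rw [end_two h, end_two h, add_zero]
        have h3 := DFunLike.congr_fun h2 e
        change mul (v + e) (mul (v + e) e) = 0 at h3
        rw [h.mul_one] at h3
        have h4 : v + e = 0 := (h.eq_zero _ _ h3).elim id id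
        rw [add_right_cancel (h4.trans (h.two e).symm), lm_one h]
    have h1' := hsq (lm mul x ^ r) ⟨_, lm_pow h x r⟩ k (by rw [← pow_mul, mul_comm]; exact hd)
    rw [hpx]
    exact congrArg (fun T : AddMonoid.End W => T e) h1'
  have hσN : σh ^ N = 1 := by
    refine RingHom.ext fun T => hev ?_
    have h1 := hpowL N T 0
    rw [zero_add, hN, h.one_mul] at h1
    have e0 : px 0 = e := by rw [hpx]; rfl
    rw [e0] at h1
    exact h1.symm
  -- norms are surjective
  have hnorm : ∀ (j : ℕ) (μ : 𝒦), ∃ t : 𝒦, t * (σh ^ j : 𝒦 →+* 𝒦) t = μ := by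
    intro j
    refine (Finite.injective_iff_surjective (α := 𝒦)).1 fun s t hst => ?_
    change s * (σh ^ j : 𝒦 →+* 𝒦) s = t * (σh ^ j : 𝒦 →+* 𝒦) t at hst
    by_cases hs : s = 0
    · subst hs
      rw [zero_mul] at hst
      exact ((mul_eq_zero.1 hst.symm).elim id fun h0 =>
        (map_eq_zero (σh ^ j : 𝒦 →+* 𝒦)).1 h0).symm
    obtain ⟨τ, hτ⟩ : ∃ τ : 𝒦 →+* 𝒦, τ = σh ^ j := ⟨_, rfl⟩
    rw [← hτ] at hst
    obtain ⟨u, hu⟩ : ∃ u, u = t * s⁻¹ := ⟨_, rfl⟩
    have hu1 : u * τ u = 1 := by
      have hts : τ s ≠ 0 := (map_ne_zero τ).2 hs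
      rw [hu, map_mul, map_inv₀, mul_mul_mul_comm, ← hst]
      field_simp
    have hu0 : u ≠ 0 := fun h0 => by rw [h0, zero_mul] at hu1; exact zero_ne_one hu1
    have hτu : τ u = u⁻¹ := eq_inv_of_mul_eq_one_right hu1
    have h2 : (τ ^ 2) u = u := by
      rw [pow_two]
      show τ (τ u) = u
      rw [hτu, map_inv₀, hτu, inv_inv]
    obtain ⟨r, hr⟩ := hNodd
    have h3 : τ ^ N = 1 := by rw [hτ, ← pow_mul, mul_comm, pow_mul, hσN, one_pow]
    have h4 : ∀ r : ℕ, (τ ^ (2 * r)) u = u := fun r => by
      induction r with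
      | zero => rfl
      | succ r ih =>
        rw [show 2 * (r + 1) = 2 * r + 2 by ring, pow_add]
        show (τ ^ (2 * r)) ((τ ^ 2) u) = u
        rw [h2, ih]
    have h5 : τ u = u := by
      have := DFunLike.congr_fun h3 u
      rw [hr, pow_succ'] at this
      change τ ((τ ^ (2 * r)) u) = u at this
      rwa [h4] at this
    rw [h5] at hu1
    have h6 : (u + 1) * (u + 1) = 0 := by
      linear_combination hu1 + (u + 1) * CharTwo.two_eq_zero (R := 𝒦)
    have h7 : u = 1 := CharTwo.add_eq_zero.1 (mul_self_eq_zero.1 h6)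
    rw [h7] at hu
    rw [eq_mul_inv_iff_mul_eq₀ hs, one_mul] at hu
    exact hu
  -- the products
  have hprod : ∀ (S T : 𝒦) (i j : ℕ), mul ((S : AddMonoid.End W) (px i)) ((T : AddMonoid.End W) (px j)) =
      ((S * (σh ^ i : 𝒦 →+* 𝒦) T : 𝒦) : AddMonoid.End W) (px (i + j)) := by
    intro S T i j
    have hR : ∀ (S t : 𝒦) i, mul ((S : AddMonoid.End W) (px i)) (ι t) =
        ((S * (σh ^ i : 𝒦 →+* 𝒦) t : 𝒦) : AddMonoid.End W) (px i) := fun S t i => by
      rw [hcomm, show ι t = (t : AddMonoid.End W) (px 0) by rw [hι, hpx]; rfl, hpowL, zero_add]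
      rfl
    have hX : ∀ (S : 𝒦) i j, mul ((S : AddMonoid.End W) (px i)) (px j) =
        (S : AddMonoid.End W) (px (i + j)) := fun S i j => by
      rw [hpxR, hval S, hpxR, hval S (px (i + j)), hpxR, add_comm, pow_add]
      rfl
    obtain ⟨t, ht⟩ := hnorm j T
    have hT : (T : AddMonoid.End W) (px j) = mul (mul (ι t) (px j)) (ι t) := by
      rw [hιL, hR, ht]
    rw [hT]
    have h1 := DFunLike.congr_fun (rm_hua h (ι t) (px j)) ((S : AddMonoid.End W) (px i))
    change mul (mul (mul ((S : AddMonoid.End W) (px i)) (ι t)) (px j)) (ι t) =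
      mul ((S : AddMonoid.End W) (px i)) (mul (mul (ι t) (px j)) (ι t)) at h1
    rw [← h1, hR, hX, hR, ← ht, map_mul, mul_assoc]
    have hij : (σh ^ i : 𝒦 →+* 𝒦) ((σh ^ j : 𝒦 →+* 𝒦) t) = (σh ^ (i + j) : 𝒦 →+* 𝒦) t := by
      rw [pow_add]; rfl
    rw [hij]
  -- the ring they span
  let W₁ := AddSubgroup.closure (Set.range fun q : 𝒦 × ℕ => (q.1 : AddMonoid.End W) (px q.2))
  have hclosed : ∀ u ∈ W₁, ∀ v ∈ W₁, mul u v ∈ W₁ := by
    intro u hu v hv
    induction hu using AddSubgroup.closure_induction with
    | mem u hu =>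
      induction hv using AddSubgroup.closure_induction with
      | mem v hv =>
        obtain ⟨q, rfl⟩ := hu
        obtain ⟨r, rfl⟩ := hv
        exact AddSubgroup.subset_closure ⟨(_, _), (hprod q.1 r.1 q.2 r.2).symm⟩
      | zero => rw [map_zero]; exact zero_mem _
      | add v w _ _ hv hw => rw [map_add]; exact add_mem hv hw
      | neg v _ hv => rw [map_neg]; exact neg_mem hv
    | zero => rw [map_zero]; exact zero_mem _
    | add v w _ _ hv hw => rw [map_add]; exact add_mem hv hw
    | neg v _ hv => rw [map_neg]; exact neg_mem hv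
  have hassoc : ∀ u ∈ W₁, ∀ v ∈ W₁, ∀ w ∈ W₁, mul (mul u v) w = mul u (mul v w) := by
    intro u hu v hv w hw
    induction hu using AddSubgroup.closure_induction with
    | mem u hu =>
      induction hv using AddSubgroup.closure_induction with
      | mem v hv =>
        induction hw using AddSubgroup.closure_induction with
        | mem w hw =>
          obtain ⟨q, rfl⟩ := hu
          obtain ⟨r, rfl⟩ := hv
          obtain ⟨s, rfl⟩ := hw
          simp only [hprod, map_mul, mul_assoc, add_assoc, pow_add]
          rfl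
        | zero => simp
        | add v' w' _ _ hv' hw' => simp [hv', hw']
        | neg v' _ hv' => simp [hv']
      | zero => simp
      | add v' w' _ _ hv' hw' => simp [hv', hw']
      | neg v' _ hv' => simp [hv']
    | zero => simp
    | add v' w' _ _ hv' hw' => simp [hv', hw']
    | neg v' _ hv' => simp [hv']
  have hιmem : ∀ T, ι T ∈ W₁ := fun T => AddSubgroup.subset_closure ⟨(T, 0), by rw [hι, hpx]; rfl⟩
  have hemem : e ∈ W₁ := by have := hιmem 1; rwa [hι] at this
  letI : Mul W₁ := ⟨fun u v => ⟨mul u v, hclosed _ u.2 _ v.2⟩⟩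
  letI : One W₁ := ⟨⟨e, hemem⟩⟩
  letI : Ring W₁ := { (inferInstance : AddCommGroup W₁), (inferInstance : Mul W₁),
      (inferInstance : One W₁) with
    mul_assoc := fun u v w => Subtype.ext (hassoc _ u.2 _ v.2 _ w.2)
    one_mul := fun u => Subtype.ext (h.one_mul _)
    mul_one := fun u => Subtype.ext (h.mul_one _)
    left_distrib := fun u v w => Subtype.ext (map_add (mul (u : W)) _ _)
    right_distrib := fun u v w => Subtype.ext (by
      show mul ((u : W) + v) w = mul (u : W) w + mul (v : W) w
      rw [map_add]; rfl)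
    zero_mul := fun u => Subtype.ext (by show mul 0 (u : W) = 0; rw [map_zero]; rfl)
    mul_zero := fun u => Subtype.ext (map_zero (mul (u : W))) }
  haveI : Nontrivial W₁ := ⟨⟨0, 1, fun h01 => h.ne_zero (congrArg Subtype.val h01).symm⟩⟩
  haveI : NoZeroDivisors W₁ := ⟨fun {u v} huv =>
    (h.eq_zero _ _ (congrArg Subtype.val huv)).imp (fun e' => Subtype.ext e') fun e' => Subtype.ext e'⟩
  haveI : IsDomain W₁ := NoZeroDivisors.to_isDomain _
  have hxmem : x ∈ W₁ := AddSubgroup.subset_closure
    ⟨(1, 1), by show (px 1 : W) = x; simp only [hpx, pow_one]; exact h.mul_one x⟩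
  have hc := congrArg Subtype.val
    ((Finite.isDomain_to_isField W₁).mul_comm ⟨x, hxmem⟩ ⟨ι g, hιmem g⟩)
  change mul x (ι g) = mul (ι g) x at hc
  refine hlg (hinjx _ _ ?_)
  rw [← hιL g x, ← hc, show ι g = a by rw [hι]; exact hge, ← hxl]

/-- The product is commutative and associative. -/
theorem comm_assoc (a b c : W) : mul a b = mul b a ∧ mul (mul a b) c = mul a (mul b c) := by
  refine ⟨comm_elem h a b, ?_⟩
  have hc : ∀ u v, mul u v = mul v u := fun u v => comm_elem h u v
  have sq : ∀ u, rm mul u * rm mul u = rm mul (mul u u) := fun u => by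
    have := rm_hua h u e
    rwa [rm_one h, mul_one, h.mul_one] at this
  have lin : ∀ w u v, mul (mul w u) v + mul (mul w v) u = 0 := by
    intro w u v
    have h1 := DFunLike.congr_fun (sq (u + v)) w
    change mul (mul w (u + v)) (u + v) = mul w (mul (u + v) (u + v)) at h1
    simp only [map_add, AddMonoidHom.add_apply] at h1
    have h2 : ∀ t, mul (mul w t) t = mul w (mul t t) := fun t => DFunLike.congr_fun (sq t) w
    rw [h2 u, h2 v, hc v u] at h1
    calc mul (mul w u) v + mul (mul w v) u
        = mul w (mul u u) + mul (mul w v) u + (mul (mul w u) v + mul w (mul v v)) +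
            (mul w (mul u u) + mul w (mul v v)) := by
          rw [show mul w (mul u u) + mul (mul w v) u + (mul (mul w u) v + mul w (mul v v)) +
              (mul w (mul u u) + mul w (mul v v)) = mul (mul w u) v + mul (mul w v) u +
              (mul w (mul u u) + mul w (mul u u)) + (mul w (mul v v) + mul w (mul v v)) by abel,
            h.two, h.two]
          simp
      _ = mul w (mul u u) + mul w (mul u v) + (mul w (mul u v) + mul w (mul v v)) +
            (mul w (mul u u) + mul w (mul v v)) := by rw [h1]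
      _ = (mul w (mul u u) + mul w (mul u u)) + (mul w (mul u v) + mul w (mul u v)) +
            (mul w (mul v v) + mul w (mul v v)) := by abel
      _ = 0 := by simp [h.two]
  have e1 := lin b a c
  rw [hc b a, hc (mul b c) a] at e1
  exact add_right_cancel (e1.trans (h.two _).symm)

end Cfsg.Agent.Fus.InvSemifield
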