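import Mathlib
import Cfsg.Agent.Lib.Fus.FocalCentralizerMain
import Cfsg.Agent.Lib.Fus.InvariantClass
import Cfsg.Agent.Lib.Fus.Hyperfocal

/-!
Extensions of the maps of a normal subsystem over `T` to an element of `C_S(T)`: the element is
moved by a factor in the centre of the image (a shift).
-/

set_option autoImplicit false
set_option linter.style.haveILetI false
set_option linter.unusedSectionVars false
set_option linter.unusedVariables false

open scoped Classical Pointwise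

universe u

namespace Cfsg.Agent.Fus.Shift

open Subgroup FusionSystem FocalCent

variable {Ω : Type u} [Group Ω] {S T : Subgroup Ω} {F : FusionSystem S} {E : FusionSystem T}
  {p : ℕ}

/-- A map of the system on `P ⊔ ⟨c⟩` agreeing with `f` on `P` moves `c` by the factor `z`. -/
def Shifts (F : FusionSystem S) (P : Subgroup Ω) (f : Ω → Ω) (c z : Ω) : Prop :=
  ∃ g, IsMap F (P ⊔ zpowers c) g ∧ (∀ x ∈ P, g x = f x) ∧ g c = c * z

theorem eq_on_sup {P Q : Subgroup Ω} {f g : Ω → Ω} (hf : IsMap F (P ⊔ Q) f)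
    (hg : IsMap F (P ⊔ Q) g) (hP : ∀ x ∈ P, f x = g x) (hQ : ∀ x ∈ Q, f x = g x) :
    ∀ x ∈ P ⊔ Q, f x = g x := by
  intro x hx
  rw [Subgroup.sup_eq_closure] at hx
  induction hx using Subgroup.closure_induction with
  | mem y hy => exact hy.elim (hP y) (hQ y)
  | one => rw [hf.map_one, hg.map_one]
  | mul a b ha hb iha ihb =>
    rw [← Subgroup.sup_eq_closure] at ha hb
    rw [hf.map_mul ha hb, hg.map_mul ha hb, iha, ihb]
  | inv a ha iha =>
    rw [← Subgroup.sup_eq_closure] at ha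
    rw [hf.map_inv ha, hg.map_inv ha, iha]

theorem fix_zpowers {D : Subgroup Ω} {g : Ω → Ω} (hg : IsMap F D g) {c : Ω} (hc : c ∈ D)
    (h : g c = c) : ∀ y ∈ zpowers c, g y = y := by
  let K : Subgroup Ω :=
    { carrier := {y | y ∈ D ∧ g y = y}
      one_mem' := ⟨D.one_mem, hg.map_one⟩
      mul_mem' := fun {a b} ha hb => ⟨D.mul_mem ha.1 hb.1, by rw [hg.map_mul ha.1 hb.1, ha.2, hb.2]⟩
      inv_mem' := fun {a} ha => ⟨D.inv_mem ha.1, by rw [hg.map_inv ha.1, ha.2]⟩ }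
  exact fun y hy => ((Subgroup.zpowers_le (H := K)).2 ⟨hc, h⟩ hy).2

theorem eq_of_zpowers {P : Subgroup Ω} {c : Ω} {f g : Ω → Ω} (hf : IsMap F (P ⊔ zpowers c) f)
    (hg : IsMap F (P ⊔ zpowers c) g) (hP : ∀ x ∈ P, f x = g x) (hc : f c = g c) :
    ∀ x ∈ P ⊔ zpowers c, f x = g x := by
  refine eq_on_sup hf hg hP ?_
  let K : Subgroup Ω :=
    { carrier := {y | y ∈ P ⊔ zpowers c ∧ f y = g y}
      one_mem' := ⟨one_mem _, by rw [hf.map_one, hg.map_one]⟩
      mul_mem' := fun {a b} ha hb => ⟨mul_mem ha.1 hb.1, by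
        rw [hf.map_mul ha.1 hb.1, hg.map_mul ha.1 hb.1, ha.2, hb.2]⟩
      inv_mem' := fun {a} ha => ⟨inv_mem ha.1, by rw [hf.map_inv ha.1, hg.map_inv ha.1, ha.2]⟩ }
  exact fun y hy =>
    ((Subgroup.zpowers_le (H := K)).2 ⟨Subgroup.mem_sup_right (mem_zpowers c), hc⟩ hy).2

/-- The image of a cyclic subgroup lies where the image of its generator lies. -/
theorem fimg_zpowers_le {D R : Subgroup Ω} {g : Ω → Ω} (hg : IsMap F D g) {c : Ω} (hc : c ∈ D)
    (h : g c ∈ R) : fimg g (zpowers c) ≤ R := by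
  let K : Subgroup Ω :=
    { carrier := {y | y ∈ D ∧ g y ∈ R}
      one_mem' := ⟨D.one_mem, by rw [hg.map_one]; exact one_mem _⟩
      mul_mem' := fun {a b} ha hb => ⟨D.mul_mem ha.1 hb.1, by
        rw [hg.map_mul ha.1 hb.1]; exact mul_mem ha.2 hb.2⟩
      inv_mem' := fun {a} ha => ⟨D.inv_mem ha.1, by rw [hg.map_inv ha.1]; exact inv_mem ha.2⟩ }
  exact fimg_le fun y hy => ((Subgroup.zpowers_le (H := K)).2 ⟨hc, h⟩ hy).2

theorem Shifts.congr {P : Subgroup Ω} {f f' : Ω → Ω} {c z : Ω} (h : Shifts F P f c z)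
    (e : ∀ x ∈ P, f x = f' x) : Shifts F P f' c z :=
  let ⟨g, hg, h1, h2⟩ := h; ⟨g, hg, fun x hx => (h1 x hx).trans (e x hx), h2⟩

theorem Shifts.res {P R : Subgroup Ω} {f : Ω → Ω} {c z : Ω} (h : Shifts F R f c z)
    (hPR : P ≤ R) : Shifts F P f c z :=
  let ⟨g, hg, h1, h2⟩ := h
  ⟨g, hg.res (sup_le_sup_right hPR _), fun x hx => h1 x (hPR hx), h2⟩

theorem Shifts.of_fixes {P : Subgroup Ω} {f : Ω → Ω} {c : Ω} (h : Fixes F (zpowers c) P f) :
    Shifts F P f c 1 :=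
  let ⟨g, hg, h1, h2⟩ := h; ⟨g, hg, h1, by rw [h2 c (mem_zpowers c), mul_one]⟩

theorem Shifts.fixes {P : Subgroup Ω} {f : Ω → Ω} {c : Ω} (h : Shifts F P f c 1) :
    Fixes F (zpowers c) P f :=
  let ⟨g, hg, h1, h2⟩ := h
  ⟨g, hg, h1, fix_zpowers hg (Subgroup.mem_sup_right (mem_zpowers c)) (h2.trans (mul_one c))⟩

theorem centralizerIn_le_center {P Q : Subgroup Ω} (hQT : Q ≤ T) (hQc : centralizerIn T Q ≤ Q)
    (h : P ≤ centralizerIn T Q) : P ≤ centralizerIn Q Q := fun _ hx =>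
  ⟨hQc (h hx), (h hx).2⟩

/-- Subgroups above a centric subgroup are centric. -/
theorem centric_of_le {P Q : Subgroup Ω} (hP : E.IsCentric P) (hPQ : P ≤ Q) (hQ : Q ≤ T) :
    E.IsCentric Q := by
  refine ⟨hQ, fun R hR => ?_⟩
  obtain ⟨f, hf, rfl⟩ := isConj_iff.1 hR
  exact fun x hx => fimg_mono f hPQ (hP.2 _ (hf.res hPQ).isConj
    ⟨hx.1, Subgroup.centralizer_le (fimg_mono f hPQ) hx.2⟩)

theorem centric_image {P : Subgroup Ω} (hP : E.IsCentric P) {f : Ω → Ω} (hf : IsMap E P f) :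
    E.IsCentric (fimg f P) :=
  ⟨hf.fimg_le_S, fun R hR => hP.2 R (isConj_trans hf.isConj hR)⟩

theorem normalizerIn_T_le {P : Subgroup Ω} (hTS : T ≤ S) :
    normalizerIn T P ≤ normalizerIn S P := fun x hx => ⟨hTS hx.1, hx.2⟩

variable [Finite S] [Fact p.Prime]

theorem finT (hE : E.IsNormalIn F p) : Finite T := finite_of_le hE.1.2.2.2.1.1

/-- A shift of a map fixing a centric subgroup commutes with its normalizer in `T`. -/
theorem ker_commute (hS : IsPGroup p S) (hF : F.IsSaturated p) (hE : E.IsNormalIn F p)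
    {P : Subgroup Ω} (hP : E.IsCentric P) {c z : Ω} (hc : c ∈ centralizerIn S T)
    (hk : Shifts F P (fun x => x) c z) {t : Ω} (ht : t ∈ T)
    (htP : t ∈ Subgroup.normalizer (P : Set Ω)) : t * z * t⁻¹ = z := by
  have hinv := hE.1.2.2
  have hT := hinv.2.1
  have hTS := hT.1
  have hPS := hP.1.trans hTS
  obtain ⟨k, hk, hk1, hk2⟩ := hk
  obtain ⟨Q, hPQ, hQn⟩ := exists_fullyNormalized F hPS
  obtain ⟨φ, hφ, hφQ, -⟩ := exists_map_to_fullyNormalized hS hF hQn hPQ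
  have hPN : P ≤ normalizerIn S P := le_normalizerIn hPS
  have hcP : c ∈ centralizerIn S P :=
    ⟨hc.1, Subgroup.centralizer_le hP.1 hc.2⟩
  have hkc : k c ∈ centralizerIn S P := by
    have h1 := hk.map_centralizerIn (P := P) le_sup_left (Subgroup.mem_sup_right (mem_zpowers c))
      hcP.2
    rwa [fimg_eq_self_of_forall hk1] at h1
  have hcN := centralizerIn_le_normalizerIn P hcP
  have hkcN := centralizerIn_le_normalizerIn P hkc
  have hzN : z ∈ normalizerIn S P := by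
    have := Subgroup.mul_mem _ (Subgroup.inv_mem _ hcN) hkcN
    rwa [hk2, inv_mul_cancel_left] at this
  have htN : t ∈ normalizerIn S P := ⟨hTS ht, htP⟩
  obtain ⟨φ', hφ', hφ1, -, -⟩ := hφ.exists_inv
  have hQS := hQn.1
  have hQimg : Q ≤ fimg φ (normalizerIn S P) := hφQ ▸ fimg_mono φ hPN
  have hQT : Q ≤ T := hφQ ▸ fimg_le fun x hx =>
    StronglyClosed.apply_mem hT (hφ.res hPN) hP.1 hx
  have hQc : centralizerIn T Q ≤ Q := centralizerIn_le_of_centric
    (hφQ ▸ InvClass.centric_transport hinv hP (hφ.res hPN))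
  have hdom : zpowers (φ c) ⊔ Q ≤ fimg φ (normalizerIn S P) :=
    sup_le (Subgroup.zpowers_le.2 (apply_mem_fimg φ hcN)) hQimg
  have hPc : P ⊔ zpowers c ≤ normalizerIn S P := sup_le hPN (Subgroup.zpowers_le.2 hcN)
  have hkimg : ∀ y ∈ P ⊔ zpowers c, k y ∈ normalizerIn S P := by
    intro y hy
    have h1 := apply_mem_fimg k hy
    rw [hk.fimg_sup] at h1
    exact (sup_le ((fimg_eq_self_of_forall hk1).le.trans hPN)
      (fimg_zpowers_le hk (Subgroup.mem_sup_right (mem_zpowers c)) hkcN) : _ ≤ normalizerIn S P) h1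
  have hφ'dom : ∀ y ∈ zpowers (φ c) ⊔ Q, φ' y ∈ P ⊔ zpowers c := by
    intro y hy
    have h1 := apply_mem_fimg φ' hy
    rw [(hφ'.res hdom).fimg_sup] at h1
    refine (sup_le ?_ ?_ : _ ≤ P ⊔ zpowers c) h1
    · refine fimg_zpowers_le hφ' (hdom (Subgroup.mem_sup_left (mem_zpowers _))) ?_
      rw [hφ1 c hcN]
      exact Subgroup.mem_sup_right (mem_zpowers c)
    · refine fimg_le fun y hy => ?_
      rw [← hφQ] at hy
      obtain ⟨x, hx, rfl⟩ := (hφ.res hPN).mem_fimg_iff.1 hy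
      rw [hφ1 x (hPN hx)]
      exact Subgroup.mem_sup_left hx
  have hmap := ((hφ'.res hdom).comp hk hφ'dom).comp hφ fun y hy => hkimg _ (hφ'dom y hy)
  have hQfix : ∀ q ∈ Q, φ (k (φ' q)) = q := by
    intro q hq
    rw [← hφQ] at hq
    obtain ⟨x, hx, rfl⟩ := (hφ.res hPN).mem_fimg_iff.1 hq
    rw [hφ1 x (hPN hx), hk1 x hx]
  have hdm : IsMap (centralizerSystem F Q hQS) (zpowers (φ c)) (fun y => φ (k (φ' y))) := by
    refine (isMap_centralizerSystem hQS (isCentralizerSystem_centralizerSystem F hQS)).2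
      ⟨Subgroup.zpowers_le.2 ?_, fun y hy => ?_, _, hmap, fun _ _ => rfl, hQfix⟩
    · have := hφ.map_centralizerIn (P := P) hPN hcN hcP.2
      rwa [hφQ] at this
    · have h1 := hmap.map_centralizerIn (P := Q) le_sup_right (Subgroup.mem_sup_left hy) ?_
      · rwa [fimg_eq_self_of_forall hQfix] at h1
      · have hcQ : φ c ∈ Subgroup.centralizer (Q : Set Ω) := by
          have := hφ.map_centralizerIn (P := P) hPN hcN hcP.2
          rw [hφQ] at this
          exact this.2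
        exact (Subgroup.zpowers_le.2 hcQ) hy
  have hfoc := hdm.focal_mem (mem_zpowers (φ c))
  rw [hφ1 c hcN, hk2, hφ.map_mul hcN hzN, inv_mul_cancel_left] at hfoc
  have htimg : φ t ∈ Subgroup.normalizer (Q : Set Ω) := by
    have := hφ.map_normalizerIn (P := P) hPN htN htP
    rw [hφQ] at this
    exact this.2
  have htT : φ t ∈ T := StronglyClosed.apply_mem hT (hφ.res (Subgroup.zpowers_le.2 htN))
    (Subgroup.zpowers_le.2 ht) (mem_zpowers t)
  have h := conj_fix_focal hS hF hT hQc hQn htT htimg _ hfoc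
  rw [← hφ.map_conj htN hzN] at h
  exact hφ.injOn (mul_mem (mul_mem htN hzN) (inv_mem htN)) hzN h

/-- Conjugation by `t` seen through an automorphism moving `c` by `z`. -/
theorem conj_shift (hT : F.StronglyClosed T) {Q : Subgroup Ω} (hQT : Q ≤ T) {c z : Ω}
    (hc : c ∈ centralizerIn S T) (hz : z ∈ Q) {b : MulAut Q}
    (hb : Shifts F Q (autFun b) c z) {t : Ω} (ht : t ∈ normalizerIn T Q)
    (hu : t * z * t⁻¹ * z⁻¹ ∈ Q) {a : MulAut Q}
    (ha : ∀ x ∈ Q, t * autFun b x * t⁻¹ = autFun b (autFun a x)) :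
    Shifts F Q (autFun a) c (autFun b⁻¹ (t * z * t⁻¹ * z⁻¹)) := by
  have hTS := hT.1
  obtain ⟨g, hg, hg1, hg2⟩ := hb
  obtain ⟨g', hg', hg'1, -, -⟩ := hg.exists_inv
  have hcB : c ∈ Q ⊔ zpowers c := Subgroup.mem_sup_right (mem_zpowers c)
  have hgQ : fimg g Q = Q := by rw [fimg_congr hg1, fimg_autFun]
  have himg : fimg g (Q ⊔ zpowers c) = Q ⊔ zpowers c := by
    have hsS : Q ⊔ zpowers c ≤ S := hg.source_le
    haveI := finite_of_le hsS
    refine Subgroup.eq_of_le_of_card_ge ?_ hg.card_fimg.ge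
    rw [hg.fimg_sup, hgQ]
    refine sup_le le_sup_left (fimg_zpowers_le hg hcB ?_)
    rw [hg2]
    exact mul_mem hcB (Subgroup.mem_sup_left hz)
  rw [himg] at hg'
  have htc : t * c * t⁻¹ = c := by
    rw [(mem_centralizerIn.1 hc).2 t ht.1, mul_inv_cancel_right]
  have htconj : ∀ y ∈ Q ⊔ zpowers c, t * y * t⁻¹ ∈ Q ⊔ zpowers c := by
    intro y hy
    have hle : Q ⊔ zpowers c ≤ (Q ⊔ zpowers c).comap (MulAut.conj t).toMonoidHom := by
      refine sup_le (fun x hx => Subgroup.mem_sup_left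
        ((Subgroup.mem_normalizer_iff.1 ht.2 x).1 hx)) (Subgroup.zpowers_le.2 ?_)
      show t * c * t⁻¹ ∈ Q ⊔ zpowers c
      rw [htc]
      exact hcB
    exact hle hy
  have hgm : ∀ y ∈ Q ⊔ zpowers c, g y ∈ Q ⊔ zpowers c := fun y hy =>
    himg ▸ apply_mem_fimg g hy
  have hmap := (hg.comp (isMap_conj F hg.source_le (hTS ht.1)) hgm).comp hg'
    fun y hy => htconj _ (hgm y hy)
  refine ⟨_, hmap, fun x hx => ?_, ?_⟩
  · show g' (t * g x * t⁻¹) = autFun a x
    rw [hg1 x hx, ha x hx, ← hg1 _ (autFun_mem a hx),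
      hg'1 _ (Subgroup.mem_sup_left (autFun_mem a hx))]
  · show g' (t * g c * t⁻¹) = c * _
    set u := t * z * t⁻¹ * z⁻¹ with hudef
    have huz : autFun b⁻¹ u ∈ Q := autFun_mem _ hu
    have h1 : t * g c * t⁻¹ = c * u * z := by
      rw [hg2, show t * (c * z) * t⁻¹ = (t * c * t⁻¹) * (t * z * t⁻¹) by group, htc, hudef]
      group
    have hcu : u * c = c * u := (mem_centralizerIn.1 hc).2 u (hQT hu)
    have hcu' : autFun b⁻¹ u * c = c * autFun b⁻¹ u := (mem_centralizerIn.1 hc).2 _ (hQT huz)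
    have h2 : g (c * autFun b⁻¹ u) = c * u * z := by
      rw [← hcu', hg.map_mul (Subgroup.mem_sup_left huz) hcB, hg1 _ huz, hg2,
        ← autFun_mul _ _ hu, mul_inv_cancel, autFun_one hu, ← mul_assoc, hcu]
    rw [h1, ← h2, hg'1 _ (mul_mem hcB (Subgroup.mem_sup_left huz))]

/-- A subgroup of automorphisms containing the extendable ones and the conjugates of the Sylow
subgroup from `T` contains all automorphisms. -/
theorem aut_induction {Q : Subgroup Ω} (hTp : IsPGroup p T) [Finite T] (hEs : E.IsSaturated p)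
    (hQn : E.IsFullyNormalized Q) (G : Subgroup (MulAut Q))
    (hext : ∀ a ∈ E.autGroup Q,
      (∀ r ∈ autInducedBy T Q, a * r * a⁻¹ ∈ autInducedBy T Q) → a ∈ G)
    (hconj : ∀ b ∈ E.autGroup Q, ∀ t ∈ normalizerIn T Q, ∀ a ∈ E.autGroup Q,
      (∀ x ∈ Q, t * autFun b x * t⁻¹ = autFun b (autFun a x)) → a ∈ G) :
    E.autGroup Q ≤ G := by
  haveI : Finite Q := finite_of_le hQn.1
  obtain ⟨-, R, hR⟩ := fullyAutomized_of_fullyNormalized hTp hEs hQn
  set K : Subgroup (E.autGroup Q) :=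
    Subgroup.closure {a : E.autGroup Q | ∃ k : ℕ, orderOf a = p ^ k} with hK
  haveI : K.Normal := ⟨fun k hk a => by
    refine (Subgroup.closure_le (K.comap (MulAut.conj a).toMonoidHom)).2 ?_ hk
    rintro x ⟨i, hi⟩
    exact subset_closure ⟨i, by
      rw [orderOf_injective (MulAut.conj a).toMonoidHom (MulAut.conj a).injective, hi]⟩⟩
  have hRK : (R : Subgroup (E.autGroup Q)) ≤ K := fun r hr => by
    obtain ⟨k, hk⟩ := R.2 ⟨r, hr⟩
    obtain ⟨i, -, hi⟩ := (Nat.dvd_prime_pow (Fact.out : p.Prime)).1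
      (orderOf_dvd_of_pow_eq_one (show r ^ p ^ k = 1 from congrArg Subtype.val hk))
    exact subset_closure ⟨i, hi⟩
  have hKG : K ≤ G.comap (E.autGroup Q).subtype := by
    refine (Subgroup.closure_le _).2 ?_
    rintro a ⟨k, hk⟩
    have hp' : IsPGroup p (Subgroup.zpowers a) := IsPGroup.of_card (n := k) (by
      rw [Nat.card_zpowers, hk])
    obtain ⟨W, hW⟩ := hp'.exists_le_sylow
    obtain ⟨b, hb⟩ := MulAction.exists_smul_eq (E.autGroup Q) W R
    have hc : b * a * b⁻¹ ∈ (R : Subgroup (E.autGroup Q)) := by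
      rw [← hb, Sylow.coe_subgroup_smul]
      exact Subgroup.smul_mem_pointwise_smul a (MulAut.conj b) _ (hW (mem_zpowers a))
    rw [hR] at hc
    obtain ⟨t, ht, hte⟩ := mem_autInducedBy.1 hc
    refine hconj _ b.2 t ⟨ht, mem_normalizer_of_conj_aut hte⟩ _ a.2 fun x hx => ?_
    have h1 := hte ((b : MulAut Q) ⟨x, hx⟩)
    simp only [Subgroup.coe_subtype]
    simp only [Subgroup.coe_subtype, Subgroup.coe_mul, Subgroup.coe_inv, MulAut.mul_apply,
      MulAut.inv_apply_self] at h1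
    rw [show autFun (b : MulAut Q) x = (((b : MulAut Q) ⟨x, hx⟩ : Q) : Ω) from
      autFun_coe (b : MulAut Q) ⟨x, hx⟩, ← h1,
      show autFun (a : MulAut Q) x = (((a : MulAut Q) ⟨x, hx⟩ : Q) : Ω) from
      autFun_coe (a : MulAut Q) ⟨x, hx⟩, autFun_coe]
  intro δ hδ
  have hmem : (⟨δ, hδ⟩ : E.autGroup Q) ∈ Subgroup.normalizer
      ((R : Subgroup (E.autGroup Q)) : Set (E.autGroup Q)) ⊔ K :=
    R.normalizer_sup_eq_top' hRK ▸ mem_top _
  obtain ⟨n, hn, k, hk, hnk⟩ := Subgroup.mem_sup_of_normal_right.1 hmem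
  rw [show δ = (n : MulAut Q) * (k : MulAut Q) from congrArg Subtype.val hnk.symm]
  refine mul_mem (hext _ n.2 fun r hr => ?_) (hKG hk)
  have hr' : (⟨r, autInducedBy_le_autGroup E hQn.1 hr⟩ : E.autGroup Q) ∈
      (R : Subgroup (E.autGroup Q)) := by
    rw [hR]
    exact hr
  have := (Subgroup.mem_normalizer_iff.1 hn _).1 hr'
  rw [hR] at this
  exact this

/-- An automorphism mapping the conjugations by `N` to conjugations by `T` extends to `N`. -/
theorem exists_extension {Q N : Subgroup Ω} (hQr : E.IsReceptive Q) {a : MulAut Q}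
    (ha : a ∈ E.autGroup Q) (hQN : Q ≤ N) (hN : N ≤ normalizerIn T Q)
    (h : ∀ y ∈ N, ∀ r : MulAut Q, (∀ x : Q, (r x : Ω) = y * x * y⁻¹) →
      a * r * a⁻¹ ∈ autInducedBy T Q) :
    ∃ e, IsMap E N e ∧ ∀ x ∈ Q, e x = autFun a x := by
  refine receptive_extend hQr ((mem_autGroup hQr.1).1 ha) (fimg_autFun a) (fun y hy => ?_) hQN
  refine ⟨hN hy, ?_⟩
  let r : MulAut Q := Q.normalizerMonoidHom ⟨y, (hN hy).2⟩
  obtain ⟨t, ht, hte⟩ := mem_autInducedBy.1 (h y hy r fun _ => rfl)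
  refine ⟨t, ht, fun x hx => ?_⟩
  have h1 := hte (a ⟨x, hx⟩)
  simp only [MulAut.mul_apply, MulAut.inv_apply_self] at h1
  have hx' : y * x * y⁻¹ ∈ Q := (Subgroup.mem_normalizer_iff.1 (hN hy).2 x).1 hx
  rw [show autFun a (y * x * y⁻¹) = ((a ⟨_, hx'⟩ : Q) : Ω) from autFun_coe a ⟨_, hx'⟩,
    show autFun a x = ((a ⟨x, hx⟩ : Q) : Ω) from autFun_coe a ⟨x, hx⟩, ← h1]
  rfl

/-- The commutator of an element of a centralizer and `t` lies in the centre of a centric subgroup. -/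
theorem commutator_center (hT : F.StronglyClosed T) {Q : Subgroup Ω}
    (hQc : centralizerIn T Q ≤ Q) {t z : Ω} (ht : t ∈ normalizerIn T Q)
    (hz : z ∈ centralizerIn S Q) : t * z * t⁻¹ * z⁻¹ ∈ centralizerIn Q Q := by
  have hz' : t * z * t⁻¹ ∈ centralizerIn S Q := by
    refine mem_centralizerIn.2 ⟨S.mul_mem (S.mul_mem (hT.1 ht.1) hz.1) (S.inv_mem (hT.1 ht.1)),
      fun y hy => ?_⟩
    have hy' := (Subgroup.mem_normalizer_iff''.1 ht.2 y).1 hy
    calc y * (t * z * t⁻¹) = t * (t⁻¹ * y * t * z) * t⁻¹ := by group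
      _ = t * (z * (t⁻¹ * y * t)) * t⁻¹ := by rw [(mem_centralizerIn.1 hz).2 _ hy']
      _ = t * z * t⁻¹ * y := by group
  have h1 : t * z * t⁻¹ * z⁻¹ ∈ T := by
    have := T.mul_mem ht.1 (StronglyClosed.conj_mem' hT hz.1 (T.inv_mem ht.1))
    rwa [← mul_assoc, ← mul_assoc] at this
  have h2 : t * z * t⁻¹ * z⁻¹ ∈ centralizerIn S Q := Subgroup.mul_mem _ hz' (Subgroup.inv_mem _ hz)
  exact ⟨hQc ⟨h1, h2.2⟩, h2.2⟩

theorem apply_center {Q : Subgroup Ω} (a : MulAut Q) {z : Ω} (hz : z ∈ centralizerIn Q Q) :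
    autFun a z ∈ centralizerIn Q Q := by
  obtain ⟨hz1, hz2⟩ := mem_centralizerIn.1 hz
  refine mem_centralizerIn.2 ⟨autFun_mem a hz1, fun y hy => ?_⟩
  obtain ⟨w, hw⟩ := a.surjective ⟨y, hy⟩
  have h1 := congrArg (fun w : Q => ((a w : Q) : Ω))
    (Subtype.ext (hz2 w w.2) : (w : Q) * ⟨z, hz1⟩ = ⟨z, hz1⟩ * w)
  simp only [map_mul, Subgroup.coe_mul, hw] at h1
  rwa [show autFun a z = ((a ⟨z, hz1⟩ : Q) : Ω) from autFun_coe a ⟨z, hz1⟩]

set_option maxHeartbeats 1600000 in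
/-- Every map of `E` on a centric subgroup extends to each element of `C_S(T)`, moving it by a
factor in the centre of the image. -/
theorem exists_shift (hS : IsPGroup p S) (hF : F.IsSaturated p) (hE : E.IsNormalIn F p)
    {c : Ω} (hc : c ∈ centralizerIn S T) {P : Subgroup Ω} {f : Ω → Ω} (hf : IsMap E P f)
    (hP : E.IsCentric P) : ∃ z ∈ centralizerIn (fimg f P) (fimg f P), Shifts F P f c z := by
  obtain ⟨⟨hEs, -, hinv⟩, hext⟩ := id hE
  have hT := hinv.2.1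
  have hTS := hT.1
  haveI : Finite T := finite_of_le hTS
  have hTp : IsPGroup p T := hS.to_le hTS
  revert hP
  refine alperin' hTp hEs (fun P f => E.IsCentric P →
    ∃ z ∈ centralizerIn (fimg f P) (fimg f P), Shifts F P f c z) ?_ ?_ ?_ ?_ ?_ hf
  · intro P f g h e hP
    obtain ⟨z, hz, hs⟩ := h hP
    exact ⟨z, fimg_congr e ▸ hz, hs.congr e⟩
  · intro P Q f g hfm hgm hm h h' hP
    obtain ⟨z, hz, g1, hg1, hg1e, hg1c⟩ := h hP
    have hfPQ : fimg f P ≤ Q := fimg_le hm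
    have hQ : E.IsCentric Q := centric_of_le (centric_image hP hfm) hfPQ hgm.source_le
    obtain ⟨z', hz', g2, hg2, hg2e, hg2c⟩ := h' hQ
    have hfPc : E.IsCentric (fimg f P) := centric_image hP hfm
    have hgz : g z ∈ centralizerIn (fimg (fun x => g (f x)) P) (fimg (fun x => g (f x)) P) := by
      rw [hfm.fimg_comp]
      have h1 := (hgm.res hfPQ).map_centralizerIn le_rfl hz.1 hz.2
      exact ⟨apply_mem_fimg g hz.1, h1.2⟩
    have hcd : c ∈ Q ⊔ zpowers c := Subgroup.mem_sup_right (mem_zpowers c)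
    have hzd : z ∈ Q ⊔ zpowers c := Subgroup.mem_sup_left (hfPQ hz.1)
    have hm' : ∀ y ∈ P ⊔ zpowers c, g1 y ∈ Q ⊔ zpowers c := by
      intro y hy
      have h1 := apply_mem_fimg g1 hy
      rw [hg1.fimg_sup] at h1
      refine (sup_le ?_ ?_ : _ ≤ Q ⊔ zpowers c) h1
      · rw [fimg_congr hg1e]
        exact hfPQ.trans le_sup_left
      · refine fimg_zpowers_le hg1 (Subgroup.mem_sup_right (mem_zpowers c)) ?_
        rw [hg1c]
        exact mul_mem hcd hzd
    refine ⟨z' * g z, Subgroup.mul_mem _ ?_ hgz, _, hg1.comp hg2 hm', fun x hx => ?_, ?_⟩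
    · rw [hfm.fimg_comp]
      have hle : fimg g (fimg f P) ≤ fimg g Q := fimg_mono g hfPQ
      have hz'T : z' ∈ centralizerIn T (fimg g (fimg f P)) :=
        ⟨hgm.fimg_le_S hz'.1, Subgroup.centralizer_le hle hz'.2⟩
      exact ⟨centralizerIn_le_of_centric (centric_image hfPc (hgm.res hfPQ)) hz'T, hz'T.2⟩
    · show g2 (g1 x) = g (f x)
      rw [hg1e x hx, hg2e _ (hm x hx)]
    · show g2 (g1 c) = _
      rw [hg1c, hg2.map_mul hcd hzd, hg2c, hg2e _ (hfPQ hz.1)]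
      exact mul_assoc _ _ _
  · intro P Q f hfm hPQ h hP
    obtain ⟨z, hz, hs⟩ := h (centric_of_le hP hPQ hfm.source_le)
    have hzT : z ∈ centralizerIn T (fimg f P) :=
      ⟨hfm.fimg_le_S hz.1, Subgroup.centralizer_le (fimg_mono f hPQ) hz.2⟩
    exact ⟨z, ⟨centralizerIn_le_of_centric (centric_image hP (hfm.res hPQ)) hzT, hzT.2⟩,
      hs.res hPQ⟩
  · intro α hα _
    obtain ⟨β, hβ, hβT, hβC⟩ := hext α hα
    have hBS : T ⊔ centralizerIn S T ≤ S := sup_le hTS inf_le_left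
    have hcB : c ∈ T ⊔ centralizerIn S T := Subgroup.mem_sup_right hc
    refine ⟨c⁻¹ * autFun β c, ?_, autFun β, ((mem_autGroup hBS).1 hβ).res
      (sup_le le_sup_left (Subgroup.zpowers_le.2 hcB)), fun x hx => ?_,
      (mul_inv_cancel_left _ _).symm⟩
    · rw [fimg_autFun, show autFun β c = ((β ⟨c, hcB⟩ : ↥(T ⊔ centralizerIn S T)) : Ω) from
        autFun_coe β ⟨c, hcB⟩]
      exact hβC ⟨c, hcB⟩ hc
    · rw [show autFun α x = ((α ⟨x, hx⟩ : T) : Ω) from autFun_coe α ⟨x, hx⟩, ← hβT ⟨x, hx⟩]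
      exact autFun_coe β ⟨x, Subgroup.mem_sup_left hx⟩
  intro Q hQ big α hα _
  have hQT : Q ≤ T := hQ.1.1
  haveI : Finite Q := finite_of_le hQT
  have hQc : centralizerIn T Q ≤ Q := centralizerIn_le_of_centric hQ.1
  have hQS := hQT.trans hTS
  let G : Subgroup (MulAut Q) :=
    { carrier := {a | a ∈ E.autGroup Q ∧ ∃ z ∈ centralizerIn Q Q, Shifts F Q (autFun a) c z}
      one_mem' := ⟨one_mem _, 1, one_mem _, fun x => x,
        isMap_id F (sup_le hQS (Subgroup.zpowers_le.2 hc.1)), fun x hx => (autFun_one hx).symm,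
        (mul_one c).symm⟩
      mul_mem' := by
        rintro a b ⟨ha, z, hz, g, hg, h1, h2⟩ ⟨hb, z', hz', g', hg', h1', h2'⟩
        have hcd : c ∈ Q ⊔ zpowers c := Subgroup.mem_sup_right (mem_zpowers c)
        refine ⟨mul_mem ha hb, z * autFun a z', Subgroup.mul_mem _ hz (apply_center a hz'), _,
          hg'.comp hg ?_, fun x hx => ?_, ?_⟩
        · intro y hy
          have h := apply_mem_fimg g' hy
          rw [hg'.fimg_sup, fimg_congr h1', fimg_autFun] at h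
          refine (sup_le le_sup_left (fimg_zpowers_le hg' hcd ?_) : _ ≤ Q ⊔ zpowers c) h
          rw [h2']
          exact mul_mem hcd (Subgroup.mem_sup_left hz'.1)
        · show g (g' x) = _
          rw [h1' x hx, h1 _ (autFun_mem b hx), autFun_mul _ _ hx]
        · show g (g' c) = _
          rw [h2', hg.map_mul hcd (Subgroup.mem_sup_left hz'.1), h2, h1 _ hz'.1]
          exact mul_assoc _ _ _
      inv_mem' := by
        rintro a ⟨ha, z, hz, g, hg, h1, h2⟩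
        obtain ⟨g', hg', hg'1, -, -⟩ := hg.exists_inv
        have hcd : c ∈ Q ⊔ zpowers c := Subgroup.mem_sup_right (mem_zpowers c)
        set w := autFun a⁻¹ z⁻¹ with hw
        have hwQ : w ∈ centralizerIn Q Q := apply_center _ (Subgroup.inv_mem _ hz)
        have hgw : g (c * w) = c := by
          rw [hg.map_mul hcd (Subgroup.mem_sup_left hwQ.1), h2, h1 _ hwQ.1, hw,
            ← autFun_mul _ _ (Q.inv_mem hz.1), mul_inv_cancel, autFun_one (Q.inv_mem hz.1),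
            mul_inv_cancel_right]
        have hle : Q ⊔ zpowers c ≤ fimg g (Q ⊔ zpowers c) := by
          rw [hg.fimg_sup, fimg_congr h1, fimg_autFun]
          refine sup_le le_sup_left (Subgroup.zpowers_le.2 ?_)
          rw [← fimg_autFun a, ← fimg_congr h1, ← hg.fimg_sup]
          exact (congrArg (· ∈ fimg g (Q ⊔ zpowers c)) hgw).mp
            (apply_mem_fimg g (mul_mem hcd (Subgroup.mem_sup_left hwQ.1)))
        refine ⟨inv_mem ha, w, hwQ, g', hg'.res hle, fun x hx => ?_, ?_⟩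
        · have h3 := hg'1 _ (Subgroup.mem_sup_left (autFun_mem a⁻¹ hx))
          rwa [h1 _ (autFun_mem a⁻¹ hx), ← autFun_mul _ _ hx, mul_inv_cancel, autFun_one hx] at h3
        · conv_lhs => rw [← hgw]
          exact hg'1 _ (mul_mem hcd (Subgroup.mem_sup_left hwQ.1)) }
  rw [fimg_autFun]
  refine (aut_induction hTp hEs hQ.2.1 G (fun a ha hconj => ?_)
    (fun b hb t ht a ha hab => ?_) hα).2
  · rcases hQT.eq_or_lt with rfl | hlt
    · refine ⟨ha, ?_⟩
      obtain ⟨β, hβ, hβT, hβC⟩ := hext a ha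
      have hBS : Q ⊔ centralizerIn S Q ≤ S := sup_le hQS inf_le_left
      have hcB : c ∈ Q ⊔ centralizerIn S Q := Subgroup.mem_sup_right hc
      refine ⟨c⁻¹ * autFun β c, ?_, autFun β, ((mem_autGroup hBS).1 hβ).res
        (sup_le le_sup_left (Subgroup.zpowers_le.2 hcB)), fun x hx => ?_,
        (mul_inv_cancel_left _ _).symm⟩
      · rw [show autFun β c = ((β ⟨c, hcB⟩ : ↥(Q ⊔ centralizerIn S Q)) : Ω) from
          autFun_coe β ⟨c, hcB⟩]
        exact hβC ⟨c, hcB⟩ hc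
      · rw [show autFun a x = ((a ⟨x, hx⟩ : Q) : Ω) from autFun_coe a ⟨x, hx⟩, ← hβT ⟨x, hx⟩]
        exact autFun_coe β ⟨x, Subgroup.mem_sup_left hx⟩
    obtain ⟨e, he, hee⟩ := exists_extension (receptive_of_fullyNormalized hTp hEs hQ.2.1) ha
      (le_normalizerIn hQT) le_rfl
      fun y hy r hr => hconj r (mem_autInducedBy.2 ⟨y, hy.1, hr⟩)
    have hlt' := lt_normalizerIn hTp hlt
    haveI : Finite ↥(normalizerIn T Q) := finite_of_le (S := T) inf_le_left
    obtain ⟨z, hz, hs⟩ :=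
      big _ e he (card_lt_of_lt hlt') (centric_of_le hQ.1 (le_normalizerIn hQT) inf_le_left)
    have hzT : z ∈ centralizerIn T (fimg e Q) := ⟨he.fimg_le_S hz.1,
      Subgroup.centralizer_le (fimg_mono e (le_normalizerIn hQT)) hz.2⟩
    rw [fimg_congr hee, fimg_autFun] at hzT
    exact ⟨ha, z, ⟨hQc hzT, hzT.2⟩, (hs.res (le_normalizerIn hQT)).congr hee⟩
  · -- a conjugate of an element induced by `T`
    obtain ⟨Q₀, hQQ₀, hQ₀n⟩ := exists_fullyNormalized F hQS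
    obtain ⟨f₀, hf₀, hf₀Q, -⟩ := exists_map_to_fullyNormalized hS hF hQ₀n hQQ₀
    have hQN : Q ≤ normalizerIn S Q := le_normalizerIn hQS
    have hQ₀S := hQ₀n.1
    haveI := finite_of_le hQ₀S
    have hcC : c ∈ centralizerIn S Q := ⟨hc.1, Subgroup.centralizer_le hQT hc.2⟩
    have hcN := centralizerIn_le_normalizerIn Q hcC
    have htN : t ∈ normalizerIn S Q := ⟨hTS ht.1, ht.2⟩
    have hQ₀T : Q₀ ≤ T :=
      hf₀Q ▸ fimg_le fun x hx => StronglyClosed.apply_mem hT (hf₀.res hQN) hQT hx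
    have hQ₀c : centralizerIn T Q₀ ≤ Q₀ := centralizerIn_le_of_centric
      (hf₀Q ▸ InvClass.centric_transport hinv hQ.1 (hf₀.res hQN))
    have hc₀ : f₀ c ∈ centralizerIn S Q₀ :=
      hf₀Q ▸ hf₀.map_centralizerIn hQN hcN hcC.2
    have ht₀ : f₀ t ∈ normalizerIn T Q₀ := by
      refine ⟨StronglyClosed.apply_mem hT (hf₀.res (Subgroup.zpowers_le.2 htN))
        (Subgroup.zpowers_le.2 ht.1) (mem_zpowers t), ?_⟩
      have h1 := hf₀.map_normalizerIn hQN htN ht.2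
      rw [hf₀Q] at h1
      exact h1.2
    -- the automorphism at the fully normalized position
    obtain ⟨f', hf', hf'1, hf'2, hf'3⟩ := hf₀.exists_inv
    have hQ₀img : Q₀ ≤ fimg f₀ (normalizerIn S Q) := hf₀Q ▸ fimg_mono f₀ hQN
    have hf'Q : ∀ y ∈ Q₀, f' y ∈ Q := fun y hy => by
      rw [← hf₀Q] at hy
      obtain ⟨x, hx, rfl⟩ := (hf₀.res hQN).mem_fimg_iff.1 hy
      rw [hf'1 x (hQN hx)]
      exact hx
    have hb₀m := ((hf'.res hQ₀img).comp
      (((mem_autGroup hQT).1 hb).mono hinv.1) hf'Q).comp (hf₀.res hQN)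
      fun y hy => autFun_mem b (hf'Q y hy)
    obtain ⟨b₀, hb₀, hb₀e⟩ := hb₀m.exists_aut (Subgroup.eq_of_le_of_card_ge (fimg_le fun y hy =>
      hf₀Q ▸ apply_mem_fimg f₀ (autFun_mem b (hf'Q y hy))) hb₀m.card_fimg.ge)
    obtain ⟨g, hg, hge, hgQ, hgC⟩ := exists_ext hS hF hQ₀n hb₀
    obtain ⟨g', hg', hg1, -, -⟩ := hg.exists_inv
    have hW : fimg g (Q₀ ⊔ centralizerIn S Q₀) = Q₀ ⊔ centralizerIn S Q₀ := by
      haveI : Finite ↥(Q₀ ⊔ centralizerIn S Q₀) := finite_of_le (sup_le hQ₀S inf_le_left)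
      refine Subgroup.eq_of_le_of_card_ge ?_ hg.card_fimg.ge
      rw [hg.fimg_sup, hgQ]
      exact sup_le_sup_left (fimg_le hgC) _
    rw [hW] at hg'
    set t₀ := f₀ t with ht₀def
    set c₀ := f₀ c with hc₀def
    have hWn : ∀ z ∈ Q₀ ⊔ centralizerIn S Q₀, t₀ * z * t₀⁻¹ ∈ Q₀ ⊔ centralizerIn S Q₀ := by
      have hle : Q₀ ⊔ centralizerIn S Q₀ ≤
          (Q₀ ⊔ centralizerIn S Q₀).comap (MulAut.conj t₀).toMonoidHom := by
        refine sup_le (fun x hx => Subgroup.mem_sup_left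
          ((Subgroup.mem_normalizer_iff.1 ht₀.2 x).1 hx)) fun w hw => ?_
        have h1 := Subgroup.mul_mem _ (Subgroup.mem_sup_left
          (commutator_center hT hQ₀c ht₀ hw).1) (Subgroup.mem_sup_right hw : w ∈ Q₀ ⊔ _)
        show t₀ * w * t₀⁻¹ ∈ Q₀ ⊔ centralizerIn S Q₀
        rwa [inv_mul_cancel_right] at h1
      exact fun z hz => hle hz
    have hgm : ∀ z ∈ Q₀ ⊔ centralizerIn S Q₀, g z ∈ Q₀ ⊔ centralizerIn S Q₀ := fun z hz =>
      hW ▸ apply_mem_fimg g hz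
    have hmap := (hg.comp (isMap_conj F (sup_le hQ₀S inf_le_left) (hTS ht₀.1)) hgm).comp hg'
      fun z hz => hWn _ (hgm z hz)
    have hc₀d : c₀ ∈ Q₀ ⊔ centralizerIn S Q₀ := Subgroup.mem_sup_right hc₀
    -- the factor
    obtain ⟨v, hv, hve⟩ : ∃ v ∈ centralizerIn Q₀ Q₀, g' (t₀ * g c₀ * t₀⁻¹) = c₀ * v := by
      have hu := commutator_center hT hQ₀c ht₀ (hgC _ hc₀)
      set u := t₀ * g c₀ * t₀⁻¹ * (g c₀)⁻¹ with hudef
      have hgc : g c₀ ∈ Q₀ ⊔ centralizerIn S Q₀ := hgm _ hc₀d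
      refine ⟨autFun b₀⁻¹ u, apply_center _ hu, ?_⟩
      have hv := apply_center b₀⁻¹ hu
      have h2 : g (c₀ * autFun b₀⁻¹ u) = t₀ * g c₀ * t₀⁻¹ := by
        rw [hg.map_mul hc₀d (Subgroup.mem_sup_left hv.1), hge _ hv.1,
          ← autFun_mul _ _ hu.1, mul_inv_cancel, autFun_one hu.1,
          ← (mem_centralizerIn.1 (hgC _ hc₀)).2 u hu.1, hudef, inv_mul_cancel_right]
      rw [← h2, hg1 _ (mul_mem hc₀d (Subgroup.mem_sup_left hv.1))]
    -- back at `Q`
    have hle₁ : Q ⊔ zpowers c ≤ normalizerIn S Q := sup_le hQN (Subgroup.zpowers_le.2 hcN)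
    have hf₀d : ∀ y ∈ Q ⊔ zpowers c, f₀ y ∈ Q₀ ⊔ centralizerIn S Q₀ := by
      intro y hy
      have h1 := apply_mem_fimg f₀ hy
      rw [(hf₀.res hle₁).fimg_sup, hf₀Q] at h1
      exact (sup_le le_sup_left (fimg_zpowers_le hf₀ hcN hc₀d) :
        _ ≤ Q₀ ⊔ centralizerIn S Q₀) h1
    have hH := (hf₀.res hle₁).comp hmap hf₀d
    have hHim : ∀ y ∈ Q ⊔ zpowers c,
        g' (t₀ * g (f₀ y) * t₀⁻¹) ∈ fimg f₀ (normalizerIn S Q) := by
      intro y hy
      have h1 := apply_mem_fimg (fun y => g' (t₀ * g (f₀ y) * t₀⁻¹)) hy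
      rw [hH.fimg_sup] at h1
      refine (sup_le (fimg_le fun x hx => ?_) ?_ : _ ≤ fimg f₀ (normalizerIn S Q)) h1
      · have hx₀ : f₀ x ∈ Q₀ := hf₀Q ▸ apply_mem_fimg f₀ hx
        have h2 : g' (t₀ * g (f₀ x) * t₀⁻¹) ∈ fimg g' Q₀ := apply_mem_fimg g'
          ((Subgroup.mem_normalizer_iff.1 ht₀.2 _).1 (by rw [hge _ hx₀]; exact autFun_mem _ hx₀))
        refine hQ₀img ?_
        obtain ⟨w, hw, hwe⟩ := (hg'.res le_sup_left).mem_fimg_iff.1 h2
        have hwg : g (autFun b₀⁻¹ w) = w := by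
          rw [hge _ (autFun_mem _ hw), ← autFun_mul _ _ hw, mul_inv_cancel, autFun_one hw]
        rw [← hwe, ← hwg, hg1 _ (Subgroup.mem_sup_left (autFun_mem _ hw))]
        exact autFun_mem _ hw
      · refine fimg_zpowers_le hH (Subgroup.mem_sup_right (mem_zpowers c)) ?_
        show g' (t₀ * g c₀ * t₀⁻¹) ∈ _
        rw [hve]
        exact mul_mem (apply_mem_fimg f₀ hcN) (hQ₀img hv.1)
    refine ⟨ha, f' v, ?_, _, hH.comp hf' hHim, fun x hx => ?_, ?_⟩
    · refine ⟨hf'Q v hv.1, Subgroup.mem_centralizer_iff.2 fun y hy => ?_⟩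
      have hy₀ : f₀ y ∈ Q₀ := hf₀Q ▸ apply_mem_fimg f₀ hy
      rw [← hf'1 y (hQN hy), ← hf'.map_mul (hQ₀img hy₀) (hQ₀img hv.1),
        (mem_centralizerIn.1 hv).2 _ hy₀, hf'.map_mul (hQ₀img hv.1) (hQ₀img hy₀)]
    · show f' (g' (t₀ * g (f₀ x) * t₀⁻¹)) = autFun a x
      have hax : autFun a x ∈ Q := autFun_mem a hx
      have hx₀ : f₀ x ∈ Q₀ := hf₀Q ▸ apply_mem_fimg f₀ hx
      have hax₀ : f₀ (autFun a x) ∈ Q₀ := hf₀Q ▸ apply_mem_fimg f₀ hax
      have h3 : t₀ * g (f₀ x) * t₀⁻¹ = g (f₀ (autFun a x)) := by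
        rw [hge _ hx₀, hge _ hax₀, hb₀e _ hx₀, hb₀e _ hax₀]
        show t₀ * f₀ (autFun b (f' (f₀ x))) * t₀⁻¹ = f₀ (autFun b (f' (f₀ (autFun a x))))
        rw [hf'1 x (hQN hx), hf'1 _ (hQN hax), ← hab x hx,
          hf₀.map_conj htN (hQN (autFun_mem b hx))]
      rw [h3, hg1 _ (Subgroup.mem_sup_left hax₀), hf'1 _ (hQN hax)]
    · show f' (g' (t₀ * g c₀ * t₀⁻¹)) = c * f' v
      rw [hve, hf'.map_mul (apply_mem_fimg f₀ hcN) (hQ₀img hv.1), hf'1 c hcN]

end Cfsg.Agent.Fus.Shift
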