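import Mathlib
import Cfsg.Agent.Lib.Fus.ShiftBasic
import Cfsg.Agent.Lib.Fus.QuadFix

/-!
For a centric subgroup `P` and `c ∈ C_S(T)`: when all automorphisms of `P` in a normal subsystem
can be extended fixing `c` (quadratic elements), or fixing a translate of `c` by the centre
(averaging over the cosets of a Sylow subgroup).
-/

set_option autoImplicit false
set_option linter.style.haveILetI false
set_option linter.unusedSectionVars false
set_option linter.unusedVariables false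

open scoped Classical Pointwise IsMulCommutative

universe u

namespace Cfsg.Agent.Fus.Shift

open Subgroup FusionSystem FocalCent

/-- A translate of `c`, fixed exactly by `S₀`, is fixed modulo `W` by the whole group. -/
theorem exists_translate_abstract {G M : Type*} [Group G] [Finite G] [CommGroup M] [Finite M]
    {p : ℕ} [Fact p.Prime] (act : G →* MulAut M) (hM : IsPGroup p M) (W W' : Subgroup M)
    (T' : Sylow p G) (S₀ : Subgroup G) (c : M) (hWinv : ∀ g, ∀ w ∈ W, act g w ∈ W)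
    (hsh : ∀ g, act g c * c⁻¹ ∈ W') (hT : ∀ t ∈ T', act t c * c⁻¹ ∈ W)
    (hstab : ∀ s ∈ S₀, ∀ g, g⁻¹ * s * g ∈ T' → act s (act g c) = act g c) :
    ∃ u ∈ W', (∀ s ∈ S₀, act s (c * u) = c * u) ∧ ∀ g, act g (c * u) * (c * u)⁻¹ ∈ W := by
  haveI := Fintype.ofFinite (G ⧸ (T' : Subgroup G))
  let r : G ⧸ (T' : Subgroup G) → G := fun q =>
    (Quotient.mk (MulAction.orbitRel S₀ (G ⧸ (T' : Subgroup G))) q).out.out
  have hr : ∀ q, ∃ s ∈ S₀, QuotientGroup.mk (s * r q) = q := by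
    intro q
    obtain ⟨s, hs⟩ := MulAction.orbitRel_apply.1
      (Quotient.mk_out (s := MulAction.orbitRel S₀ (G ⧸ (T' : Subgroup G))) q)
    refine ⟨(s : G)⁻¹, inv_mem s.2, ?_⟩
    have h1 : (s⁻¹ : S₀) • (Quotient.mk (MulAction.orbitRel S₀ (G ⧸ (T' : Subgroup G))) q).out = q :=
      by rw [← hs, inv_smul_smul]
    conv_rhs => rw [← h1, ← QuotientGroup.out_eq'
      (Quotient.mk (MulAction.orbitRel S₀ (G ⧸ (T' : Subgroup G))) q).out]
    rfl
  choose s hs hsq using hr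
  let u : G ⧸ (T' : Subgroup G) → M := fun q => act (s q * r q) c
  -- the value depends on the coset only, modulo `W`
  have hmod : ∀ g h : G, QuotientGroup.mk g = (QuotientGroup.mk h : G ⧸ (T' : Subgroup G)) →
      act h c * (act g c)⁻¹ ∈ W := by
    intro g h e
    have h1 := hWinv g _ (hT _ (QuotientGroup.eq.1 e))
    rwa [map_mul, ← MulAut.mul_apply, ← map_mul, mul_inv_cancel_left, map_inv] at h1
  have hequiv : ∀ t ∈ S₀, ∀ q, act t (u q) = u (t • q) := by
    intro t ht q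
    have hrq : r (t • q) = r q := by
      show (Quotient.mk _ (t • q)).out.out = _
      rw [Quotient.sound (MulAction.orbitRel_apply.2 ⟨⟨t, ht⟩, rfl⟩ :
        MulAction.orbitRel S₀ (G ⧸ (T' : Subgroup G)) (t • q) q)]
    show act t (act (s q * r q) c) = act (s (t • q) * r (t • q)) c
    rw [hrq, ← MulAut.mul_apply, ← map_mul]
    have he : QuotientGroup.mk (s (t • q) * r q) =
        (QuotientGroup.mk (t * (s q * r q)) : G ⧸ (T' : Subgroup G)) := by
      have h1 := hsq (t • q)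
      rw [hrq] at h1
      rw [h1]
      conv_lhs => rw [← hsq q]
      rfl
    have hmem : (s (t • q))⁻¹ * (t * s q) ∈ S₀ := mul_mem (inv_mem (hs _)) (mul_mem ht (hs _))
    have h2 := hstab _ hmem (r q) (by
      have h3 := QuotientGroup.eq.1 he
      rwa [show (r q)⁻¹ * ((s (t • q))⁻¹ * (t * s q)) * r q =
        (s (t • q) * r q)⁻¹ * (t * (s q * r q)) by group])
    conv_rhs => rw [map_mul, MulAut.mul_apply, ← h2]
    simp only [← MulAut.mul_apply, ← map_mul]
    congr 2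
    group
  have hall : ∀ g q, act g (u q) * (u (g • q))⁻¹ ∈ W := by
    intro g q
    show act g (act (s q * r q) c) * (act (s (g • q) * r (g • q)) c)⁻¹ ∈ W
    rw [← MulAut.mul_apply, ← map_mul]
    refine hmod _ _ ?_
    rw [hsq (g • q)]
    conv_lhs => rw [← hsq q]
    rfl
  set n := Nat.card (G ⧸ (T' : Subgroup G)) with hn
  have hcop : n.Coprime (orderOf c) := by
    obtain ⟨k, hk⟩ := IsPGroup.iff_orderOf.1 hM c
    rw [hk]
    exact ((((Fact.out : p.Prime).coprime_iff_not_dvd).2 T'.not_dvd_index).symm).pow_right k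
  obtain ⟨m, hm⟩ := exists_pow_eq_self_of_coprime hcop
  set V := ∏ q, u q with hV
  set U := ∏ q, (u q * c⁻¹) with hU
  have hVU : V ^ m = c * U ^ m := by
    rw [hU, Finset.prod_mul_distrib, ← hV, Finset.prod_const, Finset.card_univ,
      ← Nat.card_eq_fintype_card, ← hn, mul_pow, inv_pow, inv_pow, hm,
      mul_comm (V ^ m), mul_inv_cancel_left]
  refine ⟨U ^ m, pow_mem (Subgroup.prod_mem _ fun q _ => hsh _) _, fun t ht => ?_, fun g => ?_⟩
  · rw [← hVU, map_pow, hV, map_prod]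
    simp only [hequiv t ht]
    exact congrArg (· ^ m) (Equiv.prod_comp (MulAction.toPerm t) u)
  · rw [← hVU, map_pow, ← inv_pow, ← mul_pow]
    refine pow_mem ?_ m
    rw [hV, map_prod]
    have h1 : ∏ q, (act g (u q) * (u (g • q))⁻¹) ∈ W := Subgroup.prod_mem _ fun q _ => hall g q
    rw [Finset.prod_mul_distrib, Finset.prod_inv_distrib] at h1
    rwa [show (∏ q, u (g • q)) = ∏ q, u q from Equiv.prod_comp (MulAction.toPerm g) u] at h1

variable {Ω : Type u} [Group Ω] {S T : Subgroup Ω} {F : FusionSystem S} {E : FusionSystem T}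
  {p : ℕ}

theorem autFun_map_mul' {D : Subgroup Ω} (g : MulAut D) {x y : Ω} (hx : x ∈ D) (hy : y ∈ D) :
    autFun g (x * y) = autFun g x * autFun g y := by
  rw [show x * y = ((⟨x, hx⟩ * ⟨y, hy⟩ : D) : Ω) from rfl, autFun_coe, map_mul, Subgroup.coe_mul,
    ← autFun_coe g ⟨x, hx⟩, ← autFun_coe g ⟨y, hy⟩]

theorem autFun_map_inv' {D : Subgroup Ω} (g : MulAut D) {x : Ω} (hx : x ∈ D) :
    autFun g x⁻¹ = (autFun g x)⁻¹ := by
  rw [show x⁻¹ = (((⟨x, hx⟩ : D)⁻¹ : D) : Ω) from rfl, autFun_coe, map_inv, Subgroup.coe_inv,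
    ← autFun_coe g ⟨x, hx⟩]

theorem autFun_inv_eq {D : Subgroup Ω} (g : MulAut D) {x y : Ω} (hy : y ∈ D)
    (h : autFun g y = x) : autFun g⁻¹ x = y := h ▸ autFun_inv_apply g hy

/-- The automorphisms of `P ⊔ ⟨c⟩` lying over automorphisms of `P` in the subsystem and moving `c`
by a central factor. -/
def auts (F : FusionSystem S) (E : FusionSystem T) (P : Subgroup Ω) (c : Ω) :
    Subgroup (MulAut ↥(P ⊔ zpowers c)) where
  carrier := {g | g ∈ F.autGroup (P ⊔ zpowers c) ∧ ∃ a ∈ E.autGroup P,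
    (∀ x ∈ P, autFun g x = autFun a x) ∧ ∃ z ∈ centralizerIn P P, autFun g c = c * z}
  one_mem' := ⟨one_mem _, 1, one_mem _,
    fun x hx => by rw [autFun_one (Subgroup.mem_sup_left hx), autFun_one hx],
    1, one_mem _, by rw [autFun_one (Subgroup.mem_sup_right (mem_zpowers c)), mul_one]⟩
  mul_mem' := by
    rintro g g' ⟨hg, a, ha, hga, z, hz, hgc⟩ ⟨hg', a', ha', hga', z', hz', hgc'⟩
    refine ⟨mul_mem hg hg', a * a', mul_mem ha ha', fun x hx => ?_,
      z * autFun a z', mul_mem hz (apply_center a hz'), ?_⟩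
    · rw [autFun_mul _ _ (Subgroup.mem_sup_left hx), hga' x hx, hga _ (autFun_mem a' hx),
        autFun_mul _ _ hx]
    · rw [autFun_mul _ _ (Subgroup.mem_sup_right (mem_zpowers c)), hgc',
        autFun_map_mul' g (Subgroup.mem_sup_right (mem_zpowers c)) (Subgroup.mem_sup_left hz'.1),
        hgc, hga _ hz'.1, mul_assoc]
  inv_mem' := by
    rintro g ⟨hg, a, ha, hga, z, hz, hgc⟩
    refine ⟨inv_mem hg, a⁻¹, inv_mem ha, fun x hx => ?_, autFun a⁻¹ z⁻¹,
      apply_center _ (inv_mem hz), ?_⟩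
    · exact autFun_inv_eq g (Subgroup.mem_sup_left (autFun_mem _ hx))
        (by rw [hga _ (autFun_mem _ hx), ← autFun_mul _ _ hx, mul_inv_cancel, autFun_one hx])
    · have hw := (apply_center a⁻¹ (inv_mem hz)).1
      refine autFun_inv_eq g
        (mul_mem (Subgroup.mem_sup_right (mem_zpowers c)) (Subgroup.mem_sup_left hw)) ?_
      rw [autFun_map_mul' g (Subgroup.mem_sup_right (mem_zpowers c)) (Subgroup.mem_sup_left hw),
        hgc, hga _ hw, ← autFun_mul _ _ (P.inv_mem hz.1), mul_inv_cancel,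
        autFun_one (P.inv_mem hz.1), mul_inv_cancel_right]

/-- A centric fully normalized subgroup and an element of `C_S(T)`. -/
structure Setup (F : FusionSystem S) (E : FusionSystem T) (p : ℕ) (P : Subgroup Ω) (c : Ω) :
    Prop where
  pgroup : IsPGroup p S
  sat : F.IsSaturated p
  normal : E.IsNormalIn F p
  centric : E.IsCentric P
  fn : E.IsFullyNormalized P
  hc : c ∈ centralizerIn S T

variable {P : Subgroup Ω} {c : Ω}

/-- The factors moving `c` of the automorphisms trivial on `P`. -/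
def shifts (F : FusionSystem S) (E : FusionSystem T) (P : Subgroup Ω) (c : Ω) :
    Subgroup Ω where
  carrier := {w | w ∈ centralizerIn P P ∧ ∃ g ∈ auts F E P c,
    (∀ x ∈ P, autFun g x = x) ∧ autFun g c = c * w}
  one_mem' := ⟨one_mem _, 1, one_mem _, fun x hx => autFun_one (Subgroup.mem_sup_left hx),
    by rw [autFun_one (Subgroup.mem_sup_right (mem_zpowers c)), mul_one]⟩
  mul_mem' := by
    rintro v w ⟨hv, g, hg, hgx, hgc⟩ ⟨hw, g', hg', hgx', hgc'⟩
    refine ⟨mul_mem hv hw, g * g', mul_mem hg hg', fun x hx => ?_, ?_⟩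
    · rw [autFun_mul _ _ (Subgroup.mem_sup_left hx), hgx' x hx, hgx x hx]
    · rw [autFun_mul _ _ (Subgroup.mem_sup_right (mem_zpowers c)), hgc',
        autFun_map_mul' g (Subgroup.mem_sup_right (mem_zpowers c)) (Subgroup.mem_sup_left hw.1),
        hgc, hgx _ hw.1, mul_assoc]
  inv_mem' := by
    rintro w ⟨hw, g, hg, hgx, hgc⟩
    refine ⟨inv_mem hw, g⁻¹, inv_mem hg, fun x hx => ?_, ?_⟩
    · exact autFun_inv_eq g (Subgroup.mem_sup_left hx) (hgx x hx)
    · refine autFun_inv_eq g (mul_mem (Subgroup.mem_sup_right (mem_zpowers c))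
        (Subgroup.mem_sup_left (P.inv_mem hw.1))) ?_
      rw [autFun_map_mul' g (Subgroup.mem_sup_right (mem_zpowers c))
        (Subgroup.mem_sup_left (P.inv_mem hw.1)), hgc, hgx _ (P.inv_mem hw.1),
        mul_inv_cancel_right]

/-- The centre of `P` moved by an automorphism from `P ⊔ ⟨c⟩` keeps the shifts. -/
theorem shifts_apply {g : MulAut ↥(P ⊔ zpowers c)} (hg : g ∈ auts F E P c) {w : Ω}
    (hw : w ∈ shifts F E P c) : autFun g w ∈ shifts F E P c := by
  obtain ⟨a, ha, hga, z, hz, hgc⟩ := hg.2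
  obtain ⟨hwZ, k, hk, hkx, hkc⟩ := hw
  obtain ⟨a', ha', hga', z', hz', hgc'⟩ := (inv_mem hg : g⁻¹ ∈ auts F E P c).2
  have hcD : c ∈ P ⊔ zpowers c := Subgroup.mem_sup_right (mem_zpowers c)
  refine ⟨hga w hwZ.1 ▸ apply_center a hwZ, g * k * g⁻¹, mul_mem (mul_mem hg hk) (inv_mem hg),
    fun x hx => ?_, ?_⟩
  · rw [autFun_mul _ _ (Subgroup.mem_sup_left hx), hga' x hx,
      autFun_mul _ _ (Subgroup.mem_sup_left (autFun_mem _ hx)), hkx _ (autFun_mem _ hx), ← hga' x hx,
      ← autFun_mul _ _ (Subgroup.mem_sup_left hx), mul_inv_cancel,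
      autFun_one (Subgroup.mem_sup_left hx)]
  · have hzD : z' ∈ P ⊔ zpowers c := Subgroup.mem_sup_left hz'.1
    have hwD : w ∈ P ⊔ zpowers c := Subgroup.mem_sup_left hwZ.1
    have h1 : autFun g (c * z') = c := by
      rw [← hgc', ← autFun_mul _ _ hcD, mul_inv_cancel, autFun_one hcD]
    rw [autFun_mul _ _ hcD, hgc', autFun_mul _ _ (mul_mem hcD hzD),
      autFun_map_mul' k hcD hzD, hkc, hkx _ hz'.1, mul_assoc,
      (mem_centralizerIn.1 hz').2 w hwZ.1, ← mul_assoc, autFun_map_mul' g (mul_mem hcD hzD) hwD, h1]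

namespace Setup

variable [Finite S] [Fact p.Prime] (d : Setup F E p P c)
include d

theorem tS : T ≤ S := d.normal.1.2.2.2.1.1
theorem pT : P ≤ T := d.centric.1

theorem dom : P ⊔ zpowers c ≤ S := sup_le (d.pT.trans d.tS) (Subgroup.zpowers_le.2 d.hc.1)

theorem finD : Finite ↥(P ⊔ zpowers c) := finite_of_le d.dom

theorem comm {x : Ω} (hx : x ∈ T) : x * c = c * x := (mem_centralizerIn.1 d.hc).2 x hx

theorem finT' : Finite T := finite_of_le d.tS

theorem tpgroup : IsPGroup p T := d.pgroup.to_le d.tS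

theorem receptive : E.IsReceptive P :=
  haveI := d.finT'
  receptive_of_fullyNormalized d.tpgroup d.normal.1.1 d.fn

/-- A shifting map gives an automorphism. -/
theorem exists_mem {a : MulAut P} (ha : a ∈ E.autGroup P) {z : Ω} (hz : z ∈ centralizerIn P P)
    (h : Shifts F P (autFun a) c z) :
    ∃ g ∈ auts F E P c, (∀ x ∈ P, autFun g x = autFun a x) ∧ autFun g c = c * z := by
  obtain ⟨f, hf, hfa, hfc⟩ := h
  have hcD : c ∈ P ⊔ zpowers c := Subgroup.mem_sup_right (mem_zpowers c)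
  haveI := d.finD
  have hle : fimg f (P ⊔ zpowers c) ≤ P ⊔ zpowers c := by
    rw [hf.fimg_sup, fimg_congr hfa, fimg_autFun]
    refine sup_le le_sup_left (fimg_zpowers_le hf hcD ?_)
    rw [hfc]
    exact mul_mem hcD (Subgroup.mem_sup_left hz.1)
  obtain ⟨g, hg, hge⟩ := hf.exists_aut (Subgroup.eq_of_le_of_card_ge hle hf.card_fimg.ge)
  have h1 : ∀ x ∈ P, autFun g x = autFun a x := fun x hx => by
    rw [hge x (Subgroup.mem_sup_left hx), hfa x hx]
  have h2 : autFun g c = c * z := by rw [hge c hcD, hfc]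
  exact ⟨g, ⟨hg, a, ha, h1, z, hz, h2⟩, h1, h2⟩

/-- Every automorphism of `P` in the subsystem lifts. -/
theorem exists_lift {a : MulAut P} (ha : a ∈ E.autGroup P) :
    ∃ g ∈ auts F E P c, ∀ x ∈ P, autFun g x = autFun a x := by
  obtain ⟨z, hz, h⟩ := exists_shift d.pgroup d.sat d.normal d.hc
    ((mem_autGroup d.pT).1 ha) d.centric
  rw [fimg_autFun] at hz
  obtain ⟨g, hg, h1, -⟩ := d.exists_mem ha hz h
  exact ⟨g, hg, h1⟩

/-- Two lifts of an automorphism move `c` by factors differing by a shift. -/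
theorem shift_of_eq {g g' : MulAut ↥(P ⊔ zpowers c)} (hg : g ∈ auts F E P c)
    (hg' : g' ∈ auts F E P c) (e : ∀ x ∈ P, autFun g x = autFun g' x) :
    ∃ w ∈ shifts F E P c, autFun g c = autFun g' c * w := by
  obtain ⟨a, -, hk, w, hw, hkc⟩ := (mul_mem (inv_mem hg') hg : g'⁻¹ * g ∈ auts F E P c).2
  have hcD : c ∈ P ⊔ zpowers c := Subgroup.mem_sup_right (mem_zpowers c)
  have hkx : ∀ x ∈ P, autFun (g'⁻¹ * g) x = x := fun x hx => by
    rw [autFun_mul _ _ (Subgroup.mem_sup_left hx), e x hx,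
      autFun_inv_apply g' (Subgroup.mem_sup_left hx)]
  have hws : w ∈ shifts F E P c :=
    ⟨hw, _, mul_mem (inv_mem hg') hg, hkx, hkc⟩
  refine ⟨autFun g' w, shifts_apply hg' hws, ?_⟩
  rw [← autFun_map_mul' g' hcD (Subgroup.mem_sup_left hw.1), ← hkc, ← autFun_mul _ _ hcD,
    mul_inv_cancel_left]

/-- Shifts commute with the normalizer in `T`. -/
theorem shifts_fix {w : Ω} (hw : w ∈ shifts F E P c) {t : Ω} (ht : t ∈ normalizerIn T P) :
    t * w * t⁻¹ = w := by
  obtain ⟨hwZ, k, hk, hkx, hkc⟩ := hw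
  exact ker_commute d.pgroup d.sat d.normal d.centric d.hc
    ⟨_, (mem_autGroup d.dom).1 hk.1, hkx, hkc⟩ ht.1 ht.2

/-- An automorphism moving `c` by a shift can be corrected to fix it. -/
theorem fixes_of_shift {g : MulAut ↥(P ⊔ zpowers c)} (hg : g ∈ auts F E P c) {a : MulAut P}
    (hga : ∀ x ∈ P, autFun g x = autFun a x) {z : Ω} (hgc : autFun g c = c * z)
    (hz : z ∈ shifts F E P c) : Fixes F (zpowers c) P (autFun a) := by
  obtain ⟨hzZ, k, hk, hkx, hkc⟩ := inv_mem hz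
  have hcD : c ∈ P ⊔ zpowers c := Subgroup.mem_sup_right (mem_zpowers c)
  refine Shifts.fixes ⟨autFun (k * g), (mem_autGroup d.dom).1 (mul_mem hk hg).1, fun x hx => ?_, ?_⟩
  · rw [autFun_mul _ _ (Subgroup.mem_sup_left hx), hga x hx, hkx _ (autFun_mem a hx)]
  · rw [autFun_mul _ _ hcD, hgc, autFun_map_mul' k hcD (Subgroup.mem_sup_left hz.1.1), hkc,
      hkx _ hz.1.1, inv_mul_cancel_right, mul_one]

theorem le_normalizer_dom : normalizerIn T P ≤ Subgroup.normalizer (↑(P ⊔ zpowers c) : Set Ω) := by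
  intro t ht
  have hfix : t * c * t⁻¹ = c := by rw [d.comm ht.1, mul_inv_cancel_right]
  refine Subgroup.mem_normalizer_iff.2 fun x => ?_
  have key : ∀ u ∈ normalizerIn T P, ∀ y ∈ P ⊔ zpowers c, u * y * u⁻¹ ∈ P ⊔ zpowers c := by
    intro u hu y hy
    have hle : P ⊔ zpowers c ≤ (P ⊔ zpowers c).comap (MulAut.conj u).toMonoidHom := by
      refine sup_le (fun v hv => Subgroup.mem_sup_left
        ((Subgroup.mem_normalizer_iff.1 hu.2 v).1 hv)) (Subgroup.zpowers_le.2 ?_)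
      show u * c * u⁻¹ ∈ P ⊔ zpowers c
      rw [d.comm hu.1, mul_inv_cancel_right]
      exact Subgroup.mem_sup_right (mem_zpowers c)
    exact hle hy
  refine ⟨fun hx => key t ht x hx, fun hx => ?_⟩
  have h1 := key t⁻¹ (Subgroup.inv_mem _ ht) _ hx
  rwa [show t⁻¹ * (t * x * t⁻¹) * t⁻¹⁻¹ = x by group] at h1

theorem conj_mem_auts (t : ↥(normalizerIn T P)) :
    ((P ⊔ zpowers c).normalizerMonoidHom.comp (Subgroup.inclusion d.le_normalizer_dom)) t ∈
      auts F E P c := by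
  have hcD : c ∈ P ⊔ zpowers c := Subgroup.mem_sup_right (mem_zpowers c)
  refine ⟨autInducedBy_le_autGroup F d.dom (mem_autInducedBy.2 ⟨t, d.tS t.2.1, fun x => rfl⟩),
    P.normalizerMonoidHom ⟨t, t.2.2⟩,
    autInducedBy_le_autGroup E d.pT (mem_autInducedBy.2 ⟨t, t.2.1, fun x => rfl⟩),
    fun x hx => ?_, 1, one_mem _, ?_⟩
  · refine (autFun_coe _ (⟨x, Subgroup.mem_sup_left hx⟩ : ↥(P ⊔ zpowers c))).trans
      (Eq.trans ?_ (autFun_coe (P.normalizerMonoidHom ⟨t, t.2.2⟩) (⟨x, hx⟩ : P)).symm)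
    rfl
  · rw [mul_one]
    refine (autFun_coe _ (⟨c, hcD⟩ : ↥(P ⊔ zpowers c))).trans ?_
    show (t : Ω) * c * (t : Ω)⁻¹ = c
    rw [d.comm t.2.1, mul_inv_cancel_right]

/-- Conjugation by the normalizer in `T`. -/
def psi : ↥(normalizerIn T P) →* ↥(auts F E P c) :=
  ((P ⊔ zpowers c).normalizerMonoidHom.comp (Subgroup.inclusion d.le_normalizer_dom)).codRestrict _
    d.conj_mem_auts

theorem psi_apply (t : ↥(normalizerIn T P)) {x : Ω} (hx : x ∈ P ⊔ zpowers c) :
    autFun (d.psi t : MulAut ↥(P ⊔ zpowers c)) x = t * x * (t : Ω)⁻¹ :=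
  autFun_coe _ (⟨x, hx⟩ : ↥(P ⊔ zpowers c))

theorem exists_proj : ∃ π : ↥(auts F E P c) →* ↥(E.autGroup P), Function.Surjective π ∧
    ∀ g, ∀ x ∈ P, autFun (π g : MulAut P) x = autFun (g : MulAut ↥(P ⊔ zpowers c)) x := by
  have h : ∀ g : ↥(auts F E P c), ∃ a : ↥(E.autGroup P),
      ∀ x ∈ P, autFun (a : MulAut P) x = autFun (g : MulAut ↥(P ⊔ zpowers c)) x := fun g =>
    let ⟨a, ha, h, _⟩ := g.2.2; ⟨⟨a, ha⟩, fun x hx => (h x hx).symm⟩
  choose π hπ using h
  refine ⟨MonoidHom.mk' π fun g g' => Subtype.ext (mulAut_ext fun x hx => ?_), fun a => ?_, hπ⟩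
  · rw [hπ _ x hx, Subgroup.coe_mul, Subgroup.coe_mul, autFun_mul _ _ (Subgroup.mem_sup_left hx),
      autFun_mul _ _ hx, hπ _ x hx, ← hπ g' x hx, hπ g _ (autFun_mem _ hx)]
  · obtain ⟨g, hg, e⟩ := d.exists_lift a.2
    exact ⟨⟨g, hg⟩, Subtype.ext (mulAut_ext fun x hx => (hπ _ x hx).trans (e x hx))⟩

/-- A Sylow subgroup of the automorphisms, over the conjugations by `T`. -/
theorem exists_sylow : ∃ T' : Sylow p ↥(auts F E P c),
    (∀ g : ↥(auts F E P c), g ∈ T' ↔ ∃ t : ↥(normalizerIn T P), ∀ x ∈ P,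
      autFun (g : MulAut ↥(P ⊔ zpowers c)) x = (t : Ω) * x * (t : Ω)⁻¹) := by
  haveI := d.finD
  haveI := d.finT'
  haveI : Finite P := finite_of_le d.pT
  obtain ⟨π, hπs, hπ⟩ := d.exists_proj
  obtain ⟨-, R, hR⟩ := fullyAutomized_of_fullyNormalized d.tpgroup d.normal.1.1 d.fn
  have hker : IsPGroup p π.ker := by
    intro g
    have hgx : ∀ x ∈ P, autFun ((g : ↥(auts F E P c)) : MulAut ↥(P ⊔ zpowers c)) x = x := by
      intro x hx
      rw [← hπ _ x hx, MonoidHom.mem_ker.1 g.2]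
      exact autFun_one hx
    obtain ⟨-, -, -, -, z, hz, hgc⟩ := (g : ↥(auts F E P c)).2
    obtain ⟨k, hk⟩ := d.pgroup ⟨z, d.pT.trans d.tS hz.1⟩
    refine ⟨k, Subtype.ext (Subtype.ext (mulAut_ext fun x hx => ?_))⟩
    have hpow : ∀ i : ℕ, (∀ x ∈ P, autFun
        (((g : ↥(auts F E P c)) : MulAut ↥(P ⊔ zpowers c)) ^ i) x = x) ∧
        autFun (((g : ↥(auts F E P c)) : MulAut ↥(P ⊔ zpowers c)) ^ i) c = c * z ^ i := by
      intro i
      induction i with
      | zero =>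
        exact ⟨fun x hx => by rw [pow_zero, autFun_one (Subgroup.mem_sup_left hx)], by
          rw [pow_zero, pow_zero, autFun_one (Subgroup.mem_sup_right (mem_zpowers c)), mul_one]⟩
      | succ i ih =>
        have hcD : c ∈ P ⊔ zpowers c := Subgroup.mem_sup_right (mem_zpowers c)
        refine ⟨fun x hx => ?_, ?_⟩
        · rw [pow_succ, autFun_mul _ _ (Subgroup.mem_sup_left hx), hgx x hx, ih.1 x hx]
        · rw [pow_succ, autFun_mul _ _ hcD, hgc,
            autFun_map_mul' _ hcD (Subgroup.mem_sup_left hz.1), ih.2, ih.1 z hz.1, mul_assoc,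
            ← pow_succ]
    push_cast
    refine eq_of_zpowers (F := F) ((mem_autGroup d.dom).1 (pow_mem (g : ↥(auts F E P c)).2.1 _))
      ((mem_autGroup d.dom).1 (one_mem _)) (fun y hy => ?_) ?_ x hx
    · rw [(hpow _).1 y hy, autFun_one (Subgroup.mem_sup_left hy)]
    · rw [(hpow _).2, autFun_one (Subgroup.mem_sup_right (mem_zpowers c)),
        show z ^ p ^ k = 1 from congrArg Subtype.val hk, mul_one]
  refine ⟨R.comapOfKerIsPGroup π hker (fun r _ => hπs r), fun g => ?_⟩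
  have hiff : π g ∈ (R : Subgroup ↥(E.autGroup P)) ↔
      (π g : MulAut P) ∈ autInducedBy T P := by
    rw [hR]
    exact Subgroup.mem_subgroupOf
  show π g ∈ (R : Subgroup ↥(E.autGroup P)) ↔ _
  rw [hiff, mem_autInducedBy]
  constructor
  · rintro ⟨t, ht, h⟩
    exact ⟨⟨t, ht, mem_normalizer_of_conj_aut h⟩, fun x hx => by
      rw [← hπ g x hx]
      exact (autFun_coe _ (⟨x, hx⟩ : P)).trans (h ⟨x, hx⟩)⟩
  · rintro ⟨t, h⟩
    exact ⟨t, t.2.1, fun x => by rw [← autFun_coe, hπ g x x.2, h x x.2]⟩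

/-- Elements of the Sylow subgroup move `c` by shifts. -/
theorem shift_mem_of_sylow {g : ↥(auts F E P c)} {t : ↥(normalizerIn T P)}
    (h : ∀ x ∈ P, autFun (g : MulAut ↥(P ⊔ zpowers c)) x = (t : Ω) * x * (t : Ω)⁻¹) :
    ∃ w ∈ shifts F E P c, autFun (g : MulAut ↥(P ⊔ zpowers c)) c = c * w := by
  obtain ⟨w, hw, e⟩ := d.shift_of_eq g.2 (d.psi t).2 fun x hx => by
    rw [h x hx, d.psi_apply t (Subgroup.mem_sup_left hx)]
  rw [d.psi_apply t (Subgroup.mem_sup_right (mem_zpowers c)), d.comm t.2.1,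
    mul_inv_cancel_right] at e
  exact ⟨w, hw, e⟩

/-- An automorphism whose conjugates of some elements of `N_T(P)` act as elements of `N_T(P)`
extends in the subsystem over the subgroup they make. -/
theorem exists_extend {g : ↥(auts F E P c)} {a : MulAut P} (ha : a ∈ E.autGroup P)
    (hga : ∀ x ∈ P, autFun (g : MulAut ↥(P ⊔ zpowers c)) x = autFun a x)
    {N : Subgroup Ω} (hPN : P ≤ N) (hN : N ≤ normalizerIn T P)
    (h : ∀ (y : Ω) (hy : y ∈ N), ∃ t : ↥(normalizerIn T P), ∀ x ∈ P,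
      autFun ((g * d.psi ⟨y, hN hy⟩ * g⁻¹ : ↥(auts F E P c)) : MulAut ↥(P ⊔ zpowers c)) x =
        (t : Ω) * x * (t : Ω)⁻¹) :
    ∃ e, IsMap E N e ∧ ∀ x ∈ P, e x = autFun a x := by
  refine exists_extension d.receptive ha hPN hN fun y hy r hr => ?_
  obtain ⟨t, ht⟩ := h y hy
  refine mem_autInducedBy.2 ⟨t, t.2.1, fun x => ?_⟩
  rw [← autFun_coe, ← ht x x.2]
  obtain ⟨a', ha', hga', -⟩ := (g⁻¹).2.2
  have hxD : (x : Ω) ∈ P ⊔ zpowers c := Subgroup.mem_sup_left x.2
  have hinv : autFun a' (x : Ω) = autFun a⁻¹ x := by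
    rw [← hga' _ x.2]
    rw [InvMemClass.coe_inv]
    exact autFun_inv_eq _ (Subgroup.mem_sup_left (autFun_mem _ x.2))
      (by rw [hga _ (autFun_mem _ x.2), ← autFun_mul _ _ x.2, mul_inv_cancel, autFun_one x.2])
  have hy' : y * autFun a⁻¹ x * y⁻¹ ∈ P :=
    (Subgroup.mem_normalizer_iff.1 (hN hy).2 _).1 (autFun_mem _ x.2)
  rw [Subgroup.coe_mul, Subgroup.coe_mul, autFun_mul _ _ hxD, hga' _ x.2, hinv,
    autFun_mul _ _ (Subgroup.mem_sup_left (autFun_mem _ x.2)),
    d.psi_apply _ (Subgroup.mem_sup_left (autFun_mem _ x.2)), hga _ hy',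
    autFun_mul _ _ x.2, autFun_mul _ _ (autFun_mem _ x.2),
    show autFun r (autFun a⁻¹ x) = y * autFun a⁻¹ x * y⁻¹ from
      (autFun_coe r ⟨_, autFun_mem _ x.2⟩).trans (hr _)]

/-- A central element of `P` is central in `P ⊔ ⟨c⟩`. -/
theorem mem_center_of {x : Ω} (hx : x ∈ centralizerIn P P) :
    (⟨x, Subgroup.mem_sup_left hx.1⟩ : ↥(P ⊔ zpowers c)) ∈
      Subgroup.center ↥(P ⊔ zpowers c) := by
  refine Subgroup.mem_center_iff.2 fun y => Subtype.ext ?_
  have hle : P ⊔ zpowers c ≤ Subgroup.centralizer {x} := sup_le (fun y hy => by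
    rw [Subgroup.mem_centralizer_singleton_iff]
    exact ((mem_centralizerIn.1 hx).2 y hy)) (Subgroup.zpowers_le.2 (by
      rw [Subgroup.mem_centralizer_singleton_iff]
      exact (d.comm (d.pT hx.1)).symm))
  exact Subgroup.mem_centralizer_singleton_iff.1 (hle y.2)

theorem c_mem_center : (⟨c, Subgroup.mem_sup_right (mem_zpowers c)⟩ : ↥(P ⊔ zpowers c)) ∈
    Subgroup.center ↥(P ⊔ zpowers c) := by
  refine Subgroup.mem_center_iff.2 fun y => Subtype.ext ?_
  have hle : P ⊔ zpowers c ≤ Subgroup.centralizer {c} := sup_le (fun y hy => by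
    rw [Subgroup.mem_centralizer_singleton_iff]
    exact d.comm (d.pT hy)) (Subgroup.zpowers_le.2 (by
      rw [Subgroup.mem_centralizer_singleton_iff]))
  exact Subgroup.mem_centralizer_singleton_iff.1 (hle y.2)

end Setup

/-- The action on the centre of `P ⊔ ⟨c⟩`. -/
def actC (F : FusionSystem S) (E : FusionSystem T) (P : Subgroup Ω) (c : Ω) :
    ↥(auts F E P c) →* MulAut ↥(Subgroup.center ↥(P ⊔ zpowers c)) :=
  MonoidHom.mk' (fun g => Subgroup.centerCongr (g : MulAut ↥(P ⊔ zpowers c)))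
    fun g g' => MulEquiv.ext fun m => rfl

theorem actC_coe (g : ↥(auts F E P c)) (m : ↥(Subgroup.center ↥(P ⊔ zpowers c))) :
    (((actC F E P c g m) : ↥(P ⊔ zpowers c)) : Ω) =
      autFun (g : MulAut ↥(P ⊔ zpowers c)) ((m : ↥(P ⊔ zpowers c)) : Ω) :=
  (autFun_coe _ _).symm

/-- The shifts inside the centre of `P ⊔ ⟨c⟩`. -/
def shiftsC (F : FusionSystem S) (E : FusionSystem T) (P : Subgroup Ω) (c : Ω) :
    Subgroup ↥(Subgroup.center ↥(P ⊔ zpowers c)) :=
  ((shifts F E P c).comap (P ⊔ zpowers c).subtype).comap (Subgroup.center _).subtype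

theorem mem_shiftsC {m : ↥(Subgroup.center ↥(P ⊔ zpowers c))} :
    m ∈ shiftsC F E P c ↔ ((m : ↥(P ⊔ zpowers c)) : Ω) ∈ shifts F E P c := Iff.rfl

theorem shiftsC_apply (g : ↥(auts F E P c)) {m : ↥(Subgroup.center ↥(P ⊔ zpowers c))}
    (hm : m ∈ shiftsC F E P c) : actC F E P c g m ∈ shiftsC F E P c := by
  rw [mem_shiftsC, actC_coe]
  exact shifts_apply g.2 hm

namespace Setup

variable [Finite S] [Fact p.Prime] (d : Setup F E p P c)
include d

/-- The point `c` of the centre. -/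
def cM : ↥(Subgroup.center ↥(P ⊔ zpowers c)) :=
  ⟨⟨c, Subgroup.mem_sup_right (mem_zpowers c)⟩, d.c_mem_center⟩

theorem actC_cM (g : ↥(auts F E P c)) {z : Ω} (hz : z ∈ centralizerIn P P)
    (h : autFun (g : MulAut ↥(P ⊔ zpowers c)) c = c * z) :
    (((actC F E P c g d.cM * d.cM⁻¹ : ↥(Subgroup.center ↥(P ⊔ zpowers c))) :
      ↥(P ⊔ zpowers c)) : Ω) = z := by
  push_cast
  rw [actC_coe]
  show autFun (g : MulAut ↥(P ⊔ zpowers c)) c * c⁻¹ = z
  rw [h, ← d.comm (d.pT hz.1), mul_inv_cancel_right]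

theorem finM : Finite ↥(Subgroup.center ↥(P ⊔ zpowers c)) :=
  haveI := d.finD
  inferInstance

theorem pgroupM : IsPGroup p ↥(Subgroup.center ↥(P ⊔ zpowers c)) :=
  (d.pgroup.to_le d.dom).to_subgroup _

/-- For `P` normal in `T`, a translate of `c` by the centre is fixed by all automorphisms of `P`
in the subsystem; the translate lies in any subgroup containing all the factors. -/
theorem exists_translate (hPn : T ≤ Subgroup.normalizer (P : Set Ω)) {W' : Subgroup Ω}
    (hsh : ∀ g ∈ auts F E P c, ∀ z ∈ centralizerIn P P, autFun g c = c * z → z ∈ W') :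
    ∃ z ∈ W', z ∈ centralizerIn P P ∧ z ∈ Subgroup.centralizer (T : Set Ω) ∧
      ∀ a ∈ E.autGroup P, Fixes F (zpowers (c * z)) P (autFun a) := by
  haveI := d.finD
  haveI := d.finM
  haveI := d.finT'
  obtain ⟨T', hT'⟩ := d.exists_sylow
  have hcD : c ∈ P ⊔ zpowers c := Subgroup.mem_sup_right (mem_zpowers c)
  have hNT : normalizerIn T P = T := le_antisymm inf_le_left (le_inf le_rfl hPn)
  obtain ⟨u, hu, huT, huG⟩ := exists_translate_abstract (actC F E P c) d.pgroupM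
    (shiftsC F E P c)
    (((W' ⊓ centralizerIn P P).comap (P ⊔ zpowers c).subtype).comap (Subgroup.center _).subtype)
    T' d.psi.range d.cM (fun g w hw => shiftsC_apply g hw)
    (fun g => by
      obtain ⟨-, -, -, -, z, hz, hgc⟩ := g.2
      show _ ∈ W' ⊓ centralizerIn P P
      simp only [Subgroup.coe_subtype]
      rw [d.actC_cM g hz hgc]
      exact ⟨hsh _ g.2 z hz hgc, hz⟩)
    (fun t ht => by
      obtain ⟨y, hy⟩ := (hT' t).1 ht
      obtain ⟨w, hw, e⟩ := d.shift_mem_of_sylow hy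
      rw [mem_shiftsC, d.actC_cM t hw.1 e]
      exact hw)
    (by
      rintro _ ⟨y, rfl⟩ g hg
      obtain ⟨-, a, ha, hga, z₂, hz₂, hgc₂⟩ := (g⁻¹).2
      obtain ⟨-, -, -, -, z₁, hz₁, hgc₁⟩ := g.2
      let N : Subgroup Ω := (((T' : Subgroup ↥(auts F E P c)).comap
        (MulAut.conj g⁻¹).toMonoidHom).comap d.psi).map (normalizerIn T P).subtype
      have hN : N ≤ normalizerIn T P := Subgroup.map_subtype_le _
      have hPN : P ≤ N := fun x hx => by
        have hxN : x ∈ normalizerIn T P := le_normalizerIn d.pT hx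
        refine ⟨⟨x, hxN⟩, (hT' _).2 ⟨⟨autFun a x, le_normalizerIn d.pT (autFun_mem a hx)⟩,
          fun v hv => ?_⟩, rfl⟩
        show autFun ((g⁻¹ * d.psi ⟨x, hxN⟩ * g⁻¹⁻¹ : ↥(auts F E P c)) :
          MulAut ↥(P ⊔ zpowers c)) v = autFun a x * v * (autFun a x)⁻¹
        have hvD : v ∈ P ⊔ zpowers c := Subgroup.mem_sup_left hv
        have hxD : x ∈ P ⊔ zpowers c := Subgroup.mem_sup_left hx
        rw [inv_inv, Subgroup.coe_mul, Subgroup.coe_mul, autFun_mul _ _ hvD,
          autFun_mul _ _ (autFun_mem _ hvD), d.psi_apply _ (autFun_mem _ hvD),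
          autFun_map_mul' _ (mul_mem hxD (autFun_mem _ hvD)) (inv_mem hxD),
          autFun_map_mul' _ hxD (autFun_mem _ hvD), autFun_map_inv' _ hxD,
          ← autFun_mul _ _ hvD, ← Subgroup.coe_mul, inv_mul_cancel, OneMemClass.coe_one,
          autFun_one hvD, hga x hx]
      obtain ⟨e, he, hea⟩ := d.exists_extend (g := g⁻¹) ha hga hPN hN fun v hv => by
        obtain ⟨v', hv', hvv⟩ := id hv
        have h2 : v' = ⟨v, hN hv⟩ := Subtype.ext hvv
        exact (hT' _).1 (h2 ▸ hv')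
      have hyN : (y : Ω) ∈ N := ⟨y, by
        show g⁻¹ * d.psi y * g⁻¹⁻¹ ∈ T'
        rwa [inv_inv], rfl⟩
      obtain ⟨w, hw, hs⟩ := exists_shift d.pgroup d.sat d.normal d.hc he
        (centric_of_le d.centric hPN (hN.trans inf_le_left))
      have heP : fimg e P = P := by rw [fimg_congr hea, fimg_autFun]
      have hwT : w ∈ centralizerIn T P := by
        refine mem_centralizerIn.2 ⟨he.fimg_le_S hw.1, fun x hx => ?_⟩
        rw [← heP] at hx
        exact (mem_centralizerIn.1 hw).2 x (fimg_mono e hPN hx)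
      have hwP : w ∈ centralizerIn P P := ⟨centralizerIn_le_of_centric d.centric hwT, hwT.2⟩
      obtain ⟨g', hg', hg'a, hg'c⟩ := d.exists_mem ha hwP ((hs.res hPN).congr hea)
      obtain ⟨v, hv, hvc⟩ := d.shift_of_eq (g⁻¹).2 hg' fun x hx => by rw [hga x hx, hg'a x hx]
      rw [hg'c, hgc₂, mul_assoc, mul_right_inj] at hvc
      have hey : e y ∈ normalizerIn T P := by
        refine ⟨he.fimg_le_S (apply_mem_fimg e hyN), ?_⟩
        have h1 := he.map_normalizerIn (P := P) hPN hyN y.2.2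
        rw [heP] at h1
        exact h1.2
      have hyz₂ : e y * z₂ * (e y)⁻¹ = z₂ := by
        rw [hvc, show e y * (w * v) * (e y)⁻¹ = e y * w * (e y)⁻¹ * (e y * v * (e y)⁻¹) by group,
          d.shifts_fix hv hey,
          (mem_centralizerIn.1 hw).2 _ (apply_mem_fimg e hyN), mul_inv_cancel_right]
      have haz : autFun a z₁ = z₂⁻¹ := by
        have h1 : autFun ((g⁻¹ : ↥(auts F E P c)) : MulAut ↥(P ⊔ zpowers c)) (c * z₁) = c := by
          rw [InvMemClass.coe_inv, ← hgc₁]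
          exact autFun_inv_apply _ hcD
        rw [autFun_map_mul' _ hcD (Subgroup.mem_sup_left hz₁.1), hgc₂, hga _ hz₁.1, mul_assoc,
          mul_eq_left] at h1
        exact eq_inv_of_mul_eq_one_right h1
      have hkey : (y : Ω) * z₁ * (y : Ω)⁻¹ = z₁ := by
        refine he.injOn (mul_mem (mul_mem hyN (hPN hz₁.1)) (inv_mem hyN)) (hPN hz₁.1) ?_
        rw [he.map_conj hyN (hPN hz₁.1), hea _ hz₁.1, haz]
        conv_rhs => rw [← hyz₂]
        group
      refine Subtype.ext (Subtype.ext ?_)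
      rw [actC_coe, actC_coe]
      show autFun (d.psi y : MulAut ↥(P ⊔ zpowers c))
        (autFun (g : MulAut ↥(P ⊔ zpowers c)) c) = autFun (g : MulAut ↥(P ⊔ zpowers c)) c
      rw [hgc₁, d.psi_apply y (mul_mem hcD (Subgroup.mem_sup_left hz₁.1))]
      conv_rhs => rw [← hkey]
      rw [show (y : Ω) * (c * z₁) * (y : Ω)⁻¹ = (y : Ω) * c * (y : Ω)⁻¹ * (y * z₁ * (y : Ω)⁻¹) by
        group, d.comm y.2.1, mul_inv_cancel_right])
  obtain ⟨huW, huP⟩ : ((u : ↥(P ⊔ zpowers c)) : Ω) ∈ W' ∧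
      ((u : ↥(P ⊔ zpowers c)) : Ω) ∈ centralizerIn P P := hu
  set z := ((u : ↥(P ⊔ zpowers c)) : Ω) with hzdef
  have hzD : z ∈ P ⊔ zpowers c := Subgroup.mem_sup_left huP.1
  refine ⟨z, huW, huP, Subgroup.mem_centralizer_iff.2 fun t ht => ?_, fun a ha => ?_⟩
  · have htN : t ∈ normalizerIn T P := hNT.symm ▸ ht
    have h1 := congrArg (fun m : ↥(Subgroup.center ↥(P ⊔ zpowers c)) =>
      ((m : ↥(P ⊔ zpowers c)) : Ω)) (huT _ ⟨⟨t, htN⟩, rfl⟩)
    simp only [actC_coe, Subgroup.coe_mul] at h1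
    rw [show (((d.cM : ↥(Subgroup.center ↥(P ⊔ zpowers c))) : ↥(P ⊔ zpowers c)) : Ω) = c from rfl,
      ← hzdef, d.psi_apply _ (mul_mem hcD hzD)] at h1
    change t * (c * z) * t⁻¹ = c * z at h1
    rw [show t * (c * z) * t⁻¹ = t * c * t⁻¹ * (t * z * t⁻¹) by group, d.comm ht,
      mul_inv_cancel_right, mul_right_inj] at h1
    calc t * z = t * z * t⁻¹ * t := by group
      _ = z * t := by rw [h1]
  · obtain ⟨g, hg, hga⟩ := d.exists_lift ha
    have h1 := huG ⟨g, hg⟩
    rw [mem_shiftsC] at h1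
    push_cast at h1
    rw [actC_coe, Subgroup.coe_mul, Subgroup.coe_mul] at h1
    change autFun g (c * z) * (c * z)⁻¹ ∈ shifts F E P c at h1
    set w := autFun g (c * z) * (c * z)⁻¹ with hw
    obtain ⟨-, k, hk, hkx, hkc⟩ := inv_mem h1
    have hle : P ⊔ zpowers (c * z) ≤ P ⊔ zpowers c :=
      sup_le le_sup_left (Subgroup.zpowers_le.2 (mul_mem hcD hzD))
    refine Shifts.fixes ⟨autFun (k * g), ((mem_autGroup d.dom).1 (mul_mem hk hg).1).res hle,
      fun x hx => ?_, ?_⟩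
    · rw [autFun_mul _ _ (Subgroup.mem_sup_left hx), hga x hx, hkx _ (autFun_mem a hx)]
    · have hwD : w ∈ P ⊔ zpowers c := Subgroup.mem_sup_left h1.1.1
      have hwc : w * c = c * w := d.comm (d.pT h1.1.1)
      rw [autFun_mul _ _ (mul_mem hcD hzD), mul_one,
        show autFun g (c * z) = w * (c * z) by rw [hw, inv_mul_cancel_right],
        autFun_map_mul' k hwD (mul_mem hcD hzD), autFun_map_mul' k hcD hzD, hkx _ h1.1.1, hkc,
        hkx _ huP.1]
      rw [← mul_assoc, ← mul_assoc, hwc, mul_inv_cancel_right]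

/-- If the maps above `P` and a quadratically acting subgroup fix `c`, so do all automorphisms
of `P` in the subsystem. -/
theorem fixes_of_quad (hp : p ≠ 2) {A : Subgroup Ω} (hA : A ≤ normalizerIn T P)
    (hquad : ∀ a ∈ A, ∀ v ∈ centralizerIn P P,
      a * (a * v * a⁻¹ * v⁻¹) * a⁻¹ = a * v * a⁻¹ * v⁻¹)
    (hbig : ∀ L e, P ⊔ A ≤ L → L ≤ normalizerIn T P → IsMap E L e → Fixes F (zpowers c) L e)
    {a : MulAut P} (ha : a ∈ E.autGroup P) : Fixes F (zpowers c) P (autFun a) := by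
  haveI := d.finD
  haveI := d.finM
  haveI := d.finT'
  obtain ⟨T', hT'⟩ := d.exists_sylow
  have hcD : c ∈ P ⊔ zpowers c := Subgroup.mem_sup_right (mem_zpowers c)
  have hmap : ∀ g : ↥(auts F E P c),
      (shiftsC F E P c).map (actC F E P c g).toMonoidHom = shiftsC F E P c := by
    intro g
    refine le_antisymm ?_ fun w hw => ?_
    · rintro _ ⟨w, hw, rfl⟩
      exact shiftsC_apply g hw
    · refine ⟨actC F E P c g⁻¹ w, shiftsC_apply g⁻¹ hw, ?_⟩
      show actC F E P c g (actC F E P c g⁻¹ w) = w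
      rw [← MulAut.mul_apply, ← map_mul, mul_inv_cancel, map_one, MulAut.one_apply]
  let ρ : ↥(auts F E P c) →*
      MulAut (↥(Subgroup.center ↥(P ⊔ zpowers c)) ⧸ shiftsC F E P c) :=
    MonoidHom.mk' (fun g => QuotientGroup.congr _ _ (actC F E P c g) (hmap g)) fun g g' =>
      MulEquiv.ext fun x => by
        induction x using QuotientGroup.induction_on with
        | H m =>
          show QuotientGroup.mk (actC F E P c (g * g') m) = _
          rw [map_mul, MulAut.mul_apply]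
          rfl
  have hρ : ∀ g m, ρ g (QuotientGroup.mk m) = QuotientGroup.mk (actC F E P c g m) :=
    fun g m => rfl
  have hfix : ∀ g : ↥(auts F E P c),
      actC F E P c g d.cM * d.cM⁻¹ ∈ shiftsC F E P c →
        ρ g (QuotientGroup.mk d.cM) = QuotientGroup.mk d.cM := fun g h => by
    rw [hρ, QuotientGroup.eq_iff_div_mem, div_eq_mul_inv]
    exact h
  let X : Set ↥(auts F E P c) := {g | g ∈ T' ∧ ∀ v, ρ g (ρ g v * v⁻¹) = ρ g v * v⁻¹}
  have hclosed : ∀ g, ∀ x ∈ X, g * x * g⁻¹ ∈ T' → g * x * g⁻¹ ∈ X := by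
    intro g x hx hgx
    refine ⟨hgx, fun v => ?_⟩
    have h1 := congrArg (ρ g) (hx.2 (ρ g⁻¹ v))
    have h2 : ∀ w, ρ g (ρ g⁻¹ w) = w := fun w => by
      rw [← MulAut.mul_apply, ← map_mul, mul_inv_cancel, map_one, MulAut.one_apply]
    have h3 : ∀ w, ρ (g * x * g⁻¹) w = ρ g (ρ x (ρ g⁻¹ w)) := fun w => by
      rw [map_mul, map_mul, MulAut.mul_apply, MulAut.mul_apply]
    have h4 : ρ g (ρ x (ρ g⁻¹ v)) * v⁻¹ = ρ g (ρ x (ρ g⁻¹ v) * (ρ g⁻¹ v)⁻¹) := by
      rw [map_mul (ρ g), map_inv (ρ g), h2]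
    have h5 : ∀ w, ρ g⁻¹ (ρ g w) = w := fun w => by
      rw [← MulAut.mul_apply, ← map_mul, inv_mul_cancel, map_one, MulAut.one_apply]
    rw [h3 v, h3, h4, h5, h1]
  have hψT : ∀ y, d.psi y ∈ T' := fun y => (hT' _).2
    ⟨y, fun x hx => d.psi_apply y (Subgroup.mem_sup_left hx)⟩
  have hψX : ∀ (y : Ω) (hy : y ∈ normalizerIn T P), (∀ v ∈ centralizerIn P P,
      y * (y * v * y⁻¹ * v⁻¹) * y⁻¹ = y * v * y⁻¹ * v⁻¹) → d.psi ⟨y, hy⟩ ∈ X := by
    intro y hy hq
    refine ⟨hψT _, fun v => ?_⟩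
    induction v using QuotientGroup.induction_on with
    | H m =>
      rw [hρ, ← QuotientGroup.mk_inv, ← QuotientGroup.mk_mul, hρ]
      congr 1
      refine Subtype.ext (Subtype.ext ?_)
      set q := actC F E P c (d.psi ⟨y, hy⟩) m * m⁻¹
      rw [actC_coe, d.psi_apply _ (q : ↥(P ⊔ zpowers c)).2]
      show y * _ * y⁻¹ = _
      simp only [q, Subgroup.coe_mul, Subgroup.coe_inv, actC_coe]
      rw [d.psi_apply _ (m : ↥(P ⊔ zpowers c)).2]
      show y * (y * _ * y⁻¹ * _) * y⁻¹ = y * _ * y⁻¹ * _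
      have hmm : ((m : ↥(P ⊔ zpowers c)) : Ω) ∈ (P : Set Ω) * (zpowers c : Set Ω) := by
        rw [← Subgroup.coe_mul_of_right_le_normalizer_left P (zpowers c)
          (Subgroup.zpowers_le.2 (centralizerIn_le_normalizerIn (S := S) P
            ⟨d.hc.1, Subgroup.centralizer_le d.pT d.hc.2⟩).2)]
        exact (m : ↥(P ⊔ zpowers c)).2
      obtain ⟨u, hu, v', hv', huv⟩ := hmm
      obtain ⟨n, rfl⟩ := Subgroup.mem_zpowers_iff.1 hv'
      simp only at huv
      have huZ : u ∈ centralizerIn P P := by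
        refine mem_centralizerIn.2 ⟨hu, fun x hx => ?_⟩
        have h3 : (x : Ω) * ((m : ↥(P ⊔ zpowers c)) : Ω) = (m : ↥(P ⊔ zpowers c)) * x :=
          congrArg Subtype.val (Subgroup.mem_center_iff.1 m.2 ⟨x, Subgroup.mem_sup_left hx⟩)
        have h4 : Commute x (c ^ n) := (show Commute x c from d.comm (d.pT hx)).zpow_right n
        rw [← huv, ← mul_assoc, mul_assoc u, ← h4.eq, ← mul_assoc] at h3
        exact mul_right_cancel h3
      have h5 : y * c ^ n * y⁻¹ = c ^ n := by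
        rw [((show Commute y c from d.comm hy.1).zpow_right n).eq, mul_inv_cancel_right]
      rw [← huv, show y * (u * c ^ n) * y⁻¹ * (u * c ^ n)⁻¹ =
        y * u * y⁻¹ * (y * c ^ n * y⁻¹) * (c ^ n)⁻¹ * u⁻¹ by group, h5, mul_inv_cancel_right,
        hq u huZ]
  obtain ⟨g, hg, hga⟩ := d.exists_lift ha
  have hmain : ρ ⟨g, hg⟩ (QuotientGroup.mk d.cM) = QuotientGroup.mk d.cM := by
    refine fixed_of_quadratic_gen ρ hp (d.pgroupM.to_quotient _) T' (X := X) (fun x hx => hx.1)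
      (fun x hx => hx.2) hclosed (fun t ht => ?_) (fun g hgN => ?_) _
    · obtain ⟨y, hy⟩ := (hT' t).1 ht
      obtain ⟨w, hw, e⟩ := d.shift_mem_of_sylow hy
      exact hfix t (by rw [mem_shiftsC, d.actC_cM t hw.1 e]; exact hw)
    -- the normalizer extends over a larger subgroup
    let N : Subgroup Ω := ((Subgroup.closure X).comap d.psi).map (normalizerIn T P).subtype
    have hN : N ≤ normalizerIn T P := Subgroup.map_subtype_le _
    have hXT : Subgroup.closure X ≤ (T' : Subgroup ↥(auts F E P c)) :=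
      (Subgroup.closure_le _).2 fun x hx => hx.1
    have hPA : P ⊔ A ≤ N := sup_le (fun x hx => ⟨⟨x, le_normalizerIn d.pT hx⟩,
        Subgroup.subset_closure (hψX x _ fun v hv => by
          rw [(mem_centralizerIn.1 hv).2 x hx, mul_inv_cancel_right, mul_inv_cancel, mul_one,
            mul_inv_cancel]), rfl⟩)
      fun x hx => ⟨⟨x, hA hx⟩, Subgroup.subset_closure (hψX x _ (hquad x hx)), rfl⟩
    obtain ⟨-, b, hb, hgb, z, hz, hgc⟩ := g.2
    obtain ⟨e, he, heb⟩ := d.exists_extend hb hgb (le_sup_left.trans hPA) hN fun v hv => by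
      obtain ⟨v', hv', hvv⟩ := id hv
      have h2 : v' = ⟨v, hN hv⟩ := Subtype.ext hvv
      exact (hT' _).1 (hXT ((Subgroup.mem_normalizer_iff.1 hgN _).1 (h2 ▸ hv')))
    obtain ⟨g', hg', hg'a, hg'c⟩ := d.exists_mem hb (one_mem _)
      (Shifts.of_fixes (((hbig N e hPA hN he).res (le_sup_left.trans hPA)).congr heb))
    obtain ⟨w, hw, hwc⟩ := d.shift_of_eq g.2 hg' fun x hx => by rw [hgb x hx, hg'a x hx]
    rw [hg'c, mul_one, hgc, mul_right_inj] at hwc
    exact hfix g (by rw [mem_shiftsC, d.actC_cM g hz hgc, hwc]; exact hw)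
  obtain ⟨-, -, -, -, z, hz, hgc⟩ := id hg
  rw [hρ, QuotientGroup.eq_iff_div_mem, div_eq_mul_inv, mem_shiftsC, d.actC_cM _ hz hgc] at hmain
  exact d.fixes_of_shift hg hga hgc hmain

end Setup

end Cfsg.Agent.Fus.Shift
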