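import Mathlib
import Cfsg.Agent.Lib.Fus.ShiftModule
import Cfsg.Agent.Lib.Fus.ShiftMeasure
import Cfsg.Agent.Lib.Fus.CentralizerSubgroup

/-!
For odd `p` every element of `C_S(T)` is, up to the centre of `T`, centralized by a normal
subsystem over `T`.
-/

set_option autoImplicit false
set_option linter.style.haveILetI false
set_option linter.unusedSectionVars false
set_option linter.unusedVariables false

open scoped Classical Pointwise

universe u

namespace Cfsg.Agent.Fus.Shift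

open Subgroup FusionSystem FocalCent

variable {Ω : Type u} [Group Ω] {S T : Subgroup Ω} {F : FusionSystem S} {E : FusionSystem T}
  {p : ℕ} [Finite S] [Fact p.Prime] {c : Ω}

/-- An abelian subgroup of largest order outside `U` normalized by `V`. -/
theorem exists_maxAb_normalized {R U V : Subgroup Ω} [Finite R] (hRp : IsPGroup p R) (hVR : V ≤ R)
    (hRV : R ≤ Subgroup.normalizer (V : Set Ω)) (hVc : ∀ x ∈ V, ∀ y ∈ V, x * y = y * x)
    (hUV : U ≤ Subgroup.centralizer (V : Set Ω)) (hJ : ¬ thompsonSubgroupAOf R ≤ U) :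
    ∃ A, IsMaxAb R A ∧ ¬ A ≤ U ∧ V ≤ Subgroup.normalizer (A : Set Ω) := by
  set s := {A : Subgroup Ω | IsMaxAb R A ∧ ¬ A ≤ U}
  have hsfin : s.Finite := (finite_subgroups_le (S := R)).subset fun A hA => hA.1.1
  have hsne : s.Nonempty := by
    by_contra h
    exact hJ (thompsonA_le_of fun A hA => by
      by_contra hAU
      exact h ⟨A, hA, hAU⟩)
  obtain ⟨A, hAs, hmax⟩ :=
    Set.exists_max_image s (fun A : Subgroup Ω => Nat.card ↥(A ⊓ V)) hsfin hsne
  obtain ⟨hA, hAU⟩ := hAs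
  by_contra hne
  push Not at hne
  obtain ⟨B, hBR, hBc, hcard, hlt, hBA⟩ :=
    thompson_replacement hRp hA.1 hVR hA.2.1 hVc (hA.1.trans hRV) (hne A hA hAU)
  have hB : IsMaxAb R B := ⟨hBR, hBc, fun C hC hc => (hA.2.2 C hC hc).trans hcard⟩
  haveI : Finite ↥(B ⊓ V) := finite_of_le (S := R) (inf_le_left.trans hBR)
  have hBU : B ≤ U := by
    by_contra hBU
    exact (hmax B ⟨hB, hBU⟩).not_gt (card_lt_of_lt hlt)
  have hBV : ∀ b ∈ B, ∀ v ∈ V, b * v = v * b := fun b hb v hv =>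
    (Subgroup.mem_centralizer_iff.1 (hUV (hBU hb)) v hv).symm
  have hle : B ⊔ V ≤ R := sup_le hBR hVR
  haveI := finite_of_le hle
  have heq := Subgroup.eq_of_le_of_card_ge (le_sup_left : B ≤ B ⊔ V)
    (hB.2.2 _ hle fun x hx y hy => by
      rw [← SetLike.mem_coe, Subgroup.coe_mul_of_left_le_normalizer_right B V (hBR.trans hRV)]
        at hx hy
      obtain ⟨b, hb, v, hv, rfl⟩ := hx
      obtain ⟨b', hb', v', hv', rfl⟩ := hy
      exact (((show Commute b b' from hBc b hb b' hb').mul_right (hBV b hb v' hv')).mul_left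
        ((show Commute v b' from (hBV b' hb' v hv).symm).mul_right (hVc v hv v' hv'))).eq)
  exact hne A hA hAU ((le_sup_right.trans heq.ge).trans hBA)

/-- A maximal abelian subgroup normalized by `V` acts quadratically on it. -/
theorem quad_of_normalized {R A V : Subgroup Ω} (hA : IsMaxAb R A)
    (hVA : V ≤ Subgroup.normalizer (A : Set Ω)) : ∀ a ∈ A, ∀ v ∈ V,
      a * (a * v * a⁻¹ * v⁻¹) * a⁻¹ = a * v * a⁻¹ * v⁻¹ := by
  intro a ha v hv
  have hw : a * v * a⁻¹ * v⁻¹ ∈ A := by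
    rw [show a * v * a⁻¹ * v⁻¹ = a * (v * a⁻¹ * v⁻¹) by group]
    exact A.mul_mem ha ((Subgroup.mem_normalizer_iff.1 (hVA hv) _).1 (A.inv_mem ha))
  rw [hA.2.1 a ha _ hw, mul_inv_cancel_right]

/-- A fully centralized subgroup containing its centralizer is centric. -/
theorem centric_of_fullyCentralized {P : Subgroup Ω} [Finite T] (hP : E.IsFullyCentralized P)
    (hc : centralizerIn T P ≤ P) : E.IsCentric P := by
  refine ⟨hP.1, fun Q hQ => ?_⟩
  obtain ⟨f, hf, hfQ⟩ := isConj_iff.1 hQ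
  have hsub : fimg f (centralizerIn T P) ≤ centralizerIn T Q := fimg_le fun x hx =>
    hfQ ▸ hf.map_centralizerIn le_rfl (hc hx) hx.2
  haveI : Finite ↥(centralizerIn T Q) := finite_of_le (S := T) inf_le_left
  have heq := Subgroup.eq_of_le_of_card_ge hsub
    ((hP.2 Q hQ).trans (hf.res hc).card_fimg.ge)
  rw [← heq, ← hfQ]
  exact fimg_mono f hc

/-- An automorphism of `Q` preserves its centre. -/
theorem center_data (Q : Subgroup Ω) :
    (∀ x ∈ centralizerIn Q Q, ∀ y ∈ centralizerIn Q Q, x * y = y * x) ∧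
      Q ≤ Subgroup.centralizer (centralizerIn Q Q : Set Ω) :=
  ⟨fun x hx y hy => (mem_centralizerIn.1 hy).2 x hx.1,
    fun q hq => Subgroup.mem_centralizer_iff.2 fun z hz => ((mem_centralizerIn.1 hz).2 q hq).symm⟩

theorem normalizer_le_center {Q R : Subgroup Ω} (hR : R ≤ Subgroup.normalizer (Q : Set Ω)) :
    R ≤ Subgroup.normalizer (centralizerIn Q Q : Set Ω) := by
  have key : ∀ t ∈ Subgroup.normalizer (Q : Set Ω), ∀ x ∈ centralizerIn Q Q,
      t * x * t⁻¹ ∈ centralizerIn Q Q := by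
    intro t ht x hx
    refine mem_centralizerIn.2 ⟨(Subgroup.mem_normalizer_iff.1 ht x).1 hx.1, fun y hy => ?_⟩
    have hy' := (Subgroup.mem_normalizer_iff''.1 ht y).1 hy
    calc y * (t * x * t⁻¹) = t * (t⁻¹ * y * t * x) * t⁻¹ := by group
      _ = t * (x * (t⁻¹ * y * t)) * t⁻¹ := by rw [(mem_centralizerIn.1 hx).2 _ hy']
      _ = t * x * t⁻¹ * y := by group
  intro t ht
  refine Subgroup.mem_normalizer_iff.2 fun x => ⟨fun hx => key t (hR ht) x hx, fun hx => ?_⟩
  have h1 := key t⁻¹ (Subgroup.inv_mem _ (hR ht)) _ hx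
  rwa [show t⁻¹ * (t * x * t⁻¹) * t⁻¹⁻¹ = x by group] at h1

/-- If `J(N_T(Q)) ≤ Q` then it contains its centralizer in `T`. -/
theorem centralizer_thompson_le (hTp : IsPGroup p T) [Finite T] {Q : Subgroup Ω} (hQ : Q ≤ T)
    (hJ : thompsonSubgroupAOf (normalizerIn T Q) ≤ Q)
    (hn : normalizerIn T Q ≤ Subgroup.normalizer
      (thompsonSubgroupAOf (normalizerIn T Q) : Set Ω)) :
    centralizerIn T (thompsonSubgroupAOf (normalizerIn T Q)) ≤
      thompsonSubgroupAOf (normalizerIn T Q) := by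
  haveI : Finite ↥(normalizerIn T Q) := finite_of_le (S := T) inf_le_left
  set X := thompsonSubgroupAOf (normalizerIn T Q) with hX
  have hin : ∀ x ∈ centralizerIn T X, x ∈ normalizerIn T Q → x ∈ X := fun x hx hxR =>
    centralizer_thompsonA_le ⟨hxR, hx.2⟩
  suffices h : centralizerIn T X ≤ Q from fun x hx => hin x hx (le_normalizerIn hQ (h hx))
  by_contra hne
  have hQU : Q ≤ Subgroup.normalizer (centralizerIn T X : Set Ω) := by
    have key : ∀ q ∈ Q, ∀ x ∈ centralizerIn T X, q * x * q⁻¹ ∈ centralizerIn T X := by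
      intro q hq x hx
      refine mem_centralizerIn.2 ⟨T.mul_mem (T.mul_mem (hQ hq) hx.1) (T.inv_mem (hQ hq)),
        fun y hy => ?_⟩
      have hy' := (Subgroup.mem_normalizer_iff''.1 (hn (le_normalizerIn hQ hq)) y).1 hy
      calc y * (q * x * q⁻¹) = q * (q⁻¹ * y * q * x) * q⁻¹ := by group
        _ = q * (x * (q⁻¹ * y * q)) * q⁻¹ := by rw [(mem_centralizerIn.1 hx).2 _ hy']
        _ = q * x * q⁻¹ * y := by group
    intro q hq
    refine Subgroup.mem_normalizer_iff.2 fun x => ⟨fun hx => key q hq x hx, fun hx => ?_⟩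
    have h1 := key q⁻¹ (Q.inv_mem hq) _ hx
    rwa [show q⁻¹ * (q * x * q⁻¹) * q⁻¹⁻¹ = x by group] at h1
  have hWT : Q ⊔ centralizerIn T X ≤ T := sup_le hQ inf_le_left
  haveI := finite_of_le hWT
  have hlt : Q < Q ⊔ centralizerIn T X :=
    lt_of_le_of_ne le_sup_left fun e => hne (e ▸ le_sup_right)
  obtain ⟨y, hy, hyQ⟩ := SetLike.exists_of_lt (lt_normalizerIn (hTp.to_le hWT) hlt)
  obtain ⟨hyW, hyn⟩ := hy
  have hyW' : y ∈ ((Q ⊔ centralizerIn T X : Subgroup Ω) : Set Ω) := hyW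
  rw [Subgroup.coe_mul_of_left_le_normalizer_right Q (centralizerIn T X) hQU] at hyW'
  obtain ⟨q, hq, u, hu, rfl⟩ := hyW' 
  have huR : u ∈ normalizerIn T Q := ⟨hu.1, by
    have := Subgroup.mul_mem _ (Subgroup.inv_mem _ (Subgroup.le_normalizer hq)) hyn
    rwa [inv_mul_cancel_left] at this⟩
  exact hyQ (Q.mul_mem hq (hJ (hin u hu huR)))

/-- The standing data: all automorphisms of `T` and of `J(T)` in the subsystem fix `c`. -/
structure Base (F : FusionSystem S) (E : FusionSystem T) (p : ℕ) (c : Ω) : Prop where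
  pgroup : IsPGroup p S
  sat : F.IsSaturated p
  normal : E.IsNormalIn F p
  odd : p ≠ 2
  hc : c ∈ centralizerIn S T
  top : ∀ a ∈ E.autGroup T, Fixes F (zpowers c) T (autFun a)
  thompson : ∀ a ∈ E.autGroup (thompsonSubgroupAOf T),
    Fixes F (zpowers c) (thompsonSubgroupAOf T) (autFun a)

set_option maxHeartbeats 1600000 in
/-- All maps of the subsystem fix `c`. -/
theorem Base.fixes (d : Base F E p c) {P : Subgroup Ω} {f : Ω → Ω} (hf : IsMap E P f) :
    Fixes F (zpowers c) P f := by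
  obtain ⟨hEs, -, hinv⟩ := d.normal.1
  have hT := hinv.2.1
  have hTS := hT.1
  haveI : Finite T := finite_of_le hTS
  have hTp : IsPGroup p T := d.pgroup.to_le hTS
  set M := (Nat.card T + 1) * (Nat.card T + 1) with hM
  suffices h : ∀ k n, M - n ≤ k → ∀ P f, IsMap E P f → n ≤ meas T P → Fixes F (zpowers c) P f from
    h _ 0 le_rfl P f hf (Nat.zero_le _)
  intro k
  induction k with
  | zero =>
    intro n hn P f hf hnP
    have := meas_lt_bound (S := T) hf.source_le
    omega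
  | succ k IH =>
  intro n hn P f hf hnP
  have up : ∀ R g, IsMap E R g → n < meas T R → Fixes F (zpowers c) R g := fun R g hg hlt =>
    IH (meas T R) (by have := meas_lt_bound (S := T) hg.source_le; omega) R g hg le_rfl
  refine alperin' hTp hEs (fun P f => n ≤ meas T P → Fixes F (zpowers c) P f)
    (fun P f g h e hP => (h hP).congr e)
    (fun P Q f g hfm hgm hm h h' hP => (h hP).comp (h' (hP.trans
      (meas_le_of_map hfm le_rfl (fimg_le hm) hgm.source_le))) hm)
    (fun P Q f hfm hPQ h hP => (h (hP.trans (meas_mono E hPQ hfm.source_le))).res hPQ)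
    (fun a ha _ => d.top a ha) ?_ hf hnP
  clear hf hnP P f
  intro Q hQ big' α hα hnQ
  rcases hnQ.lt_or_eq with hlt | hnQ
  · exact up Q _ ((mem_autGroup hQ.1.1).1 hα) hlt
  have big : ∀ R g, IsMap E R g → Nat.card Q < Nat.card R → meas T Q ≤ meas T R →
      Fixes F (zpowers c) R g := fun R g hg h1 h2 => big' R g hg h1 (hnQ.le.trans h2)
  have hQT : Q ≤ T := hQ.1.1
  rcases hQT.eq_or_lt with rfl | hQlt
  · exact d.top α hα
  have dQ : Setup F E p Q c := ⟨d.pgroup, d.sat, d.normal, hQ.1, hQ.2.1, d.hc⟩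
  haveI : Finite Q := finite_of_le hQT
  set R := normalizerIn T Q with hR
  have hRT : R ≤ T := inf_le_left
  haveI : Finite R := finite_of_le hRT
  have hQR : Q < R := lt_normalizerIn hTp hQlt
  obtain ⟨hZc, hQZ⟩ := center_data Q
  by_cases hJ : thompsonSubgroupAOf R ≤ Q
  case neg =>
    obtain ⟨A, hA, hAQ, hVA⟩ := exists_maxAb_normalized (U := Q) (V := centralizerIn Q Q)
      (hTp.to_le hRT) (fun x hx => hQR.le hx.1) (normalizer_le_center fun x hx => hx.2) hZc hQZ hJ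
    refine dQ.fixes_of_quad d.odd hA.1 (quad_of_normalized hA hVA) (fun L e hL hLN he => ?_) hα
    haveI := finite_of_le he.source_le
    have hQL : Q < L := lt_of_lt_of_le
      (lt_of_le_of_ne le_sup_left fun h => hAQ (h ▸ le_sup_right)) hL
    exact big L e he (card_lt_of_lt hQL) (meas_mono E hQL.le he.source_le)
  -- the Thompson subgroup of the normalizer
  set X := thompsonSubgroupAOf R with hX
  have hXQ : thompsonSubgroupAOf Q = X := thompsonA_eq_of_le hJ hQR.le
  have hXT : X ≤ T := hJ.trans hQT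
  haveI : Finite X := finite_of_le hXT
  have hRX : R ≤ normalizerIn T X := fun r hr => ⟨hRT hr, (normalizerIn_le_thompsonA E hRT
    (le_normalizerIn hRT hr))⟩
  have hXX : thompsonSubgroupAOf X = X := thompsonA_eq_of_le le_rfl (thompsonA_le R)
  have hXmeas : meas T X = meas T Q := by
    have e1 : abMax X = abMax Q := abMax_eq_of_le hXQ.le hJ
    unfold meas
    rw [e1, hXX, hXQ]
  -- a fully normalized conjugate
  obtain ⟨X₁, hXX₁, hX₁n⟩ := exists_fullyNormalized E hXT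
  obtain ⟨θ, hθ, hθX, -⟩ := exists_map_to_fullyNormalized hTp hEs hX₁n hXX₁
  have hNXT : normalizerIn T X ≤ T := inf_le_left
  haveI : Finite ↥(normalizerIn T X) := finite_of_le hNXT
  have hQN : Q ≤ normalizerIn T X := hQR.le.trans hRX
  have hθfix : Fixes F (zpowers c) (normalizerIn T X) θ := big _ θ hθ
    (lt_of_lt_of_le (card_lt_of_lt hQR) (Subgroup.card_le_of_le hRX))
    (meas_mono E hQN hNXT)
  have hX₁T : X₁ ≤ T := hX₁n.1
  haveI : Finite X₁ := finite_of_le hX₁T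
  set Q₁ := fimg θ Q with hQ₁
  have hQ₁T : Q₁ ≤ T := (hθ.res hQN).fimg_le_S
  have hθR : fimg θ R = normalizerIn T Q₁ := by
    haveI : Finite ↥(normalizerIn T Q₁) := finite_of_le (S := T) inf_le_left
    refine Subgroup.eq_of_le_of_card_ge (fimg_le fun r hr =>
      hθ.map_normalizerIn hQN (hRX hr) hr.2) ?_
    rw [(hθ.res hRX).card_fimg]
    exact hQ.2.1.2 Q₁ (hθ.res hQN).isConj
  have hJ₁ : thompsonSubgroupAOf (normalizerIn T Q₁) = X₁ := by
    rw [← hθR, ← hθX]
    obtain ⟨θ', hθ', hθ1, hθ2, -⟩ := (hθ.res hRX).exists_inv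
    have hle : abMax (fimg θ R) ≤ abMax R :=
      abMax_le_of_map hθ' le_rfl (fimg_le fun y hy => (hθ2 y hy).1) hRT
    haveI := finite_of_le ((thompsonA_le (fimg θ R)).trans (hθ.res hRX).fimg_le_S)
    refine (Subgroup.eq_of_le_of_card_ge ?_ ?_).symm
    · exact fimg_thompsonA_le hθ hRX le_rfl (hθ.res hRX).fimg_le_S hle
    · rw [(hθ.res ((thompsonA_le R).trans hRX)).card_fimg,
        ← (hθ'.res (thompsonA_le (fimg θ R))).card_fimg]
      exact Subgroup.card_le_of_le (fimg_thompsonA_le hθ' le_rfl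
        (fimg_le fun y hy => (hθ2 y hy).1) hRT
        (abMax_le_of_map hθ hRX le_rfl (hθ.res hRX).fimg_le_S))
  have hX₁Q : X₁ ≤ Q₁ := hθX ▸ fimg_mono θ hJ
  have hX₁c : centralizerIn T X₁ ≤ X₁ := by
    have h := centralizer_thompson_le hTp hQ₁T (hJ₁.le.trans hX₁Q)
      (fun r hr => normalizerIn_le_thompsonA E inf_le_left (le_normalizerIn inf_le_left hr))
    rwa [hJ₁] at h
  have hX₁cen : E.IsCentric X₁ :=
    centric_of_fullyCentralized (fullyCentralized_of_fullyNormalized hTp hEs hX₁n) hX₁c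
  have hXcen : E.IsCentric X := centric_of_isConj hX₁cen (isConj_symm hXX₁)
  have hX₁meas : meas T Q ≤ meas T X₁ :=
    hXmeas.ge.trans (meas_le_of_map hθ (hJ.trans hQN) hθX.le hX₁T)
  -- automorphisms of the conjugate
  have hfix₁ : ∀ a ∈ E.autGroup X₁, Fixes F (zpowers c) X₁ (autFun a) := by
    haveI : Finite ↥(normalizerIn T X₁) := finite_of_le (S := T) inf_le_left
    haveI : Finite ↥(normalizerIn T Q₁) := finite_of_le (S := T) inf_le_left
    have hX₁J : thompsonSubgroupAOf X₁ = X₁ := by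
      conv_lhs => rw [← hJ₁]
      rw [thompsonA_eq_of_le le_rfl (thompsonA_le _), hJ₁]
    by_cases hN : thompsonSubgroupAOf (normalizerIn T X₁) ≤ X₁
    · have e1 : thompsonSubgroupAOf (normalizerIn T X₁) = X₁ := by
        rw [← thompsonA_eq_of_le hN (le_normalizerIn hX₁T), hX₁J]
      have hNT : normalizerIn T X₁ = T := by
        by_contra hne
        obtain ⟨y, hy, hy'⟩ := SetLike.exists_of_lt
          (lt_normalizerIn hTp (lt_of_le_of_ne inf_le_left hne))
        refine hy' ⟨hy.1, ?_⟩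
        have h := normalizerIn_le_thompsonA E (R := normalizerIn T X₁) inf_le_left hy
        rwa [e1] at h
      rw [hNT] at e1
      rw [← e1]
      exact d.thompson
    · obtain ⟨hZc₁, hX₁Z⟩ := center_data X₁
      obtain ⟨A, hA, hAX, hVA⟩ := exists_maxAb_normalized (U := X₁) (V := centralizerIn X₁ X₁)
        ((hTp.to_le inf_le_left : IsPGroup p ↥(normalizerIn T X₁))) (fun x hx => le_normalizerIn hX₁T hx.1)
        (normalizer_le_center fun x hx => hx.2) hZc₁ hX₁Z hN
      intro a ha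
      refine (⟨d.pgroup, d.sat, d.normal, hX₁cen, hX₁n, d.hc⟩ :
        Setup F E p X₁ c).fixes_of_quad d.odd hA.1 (quad_of_normalized hA hVA)
        (fun L e hL hLN he => up L e he ?_) ha
      refine hnQ.trans_lt (hX₁meas.trans_lt (meas_lt (le_sup_left.trans hL) he.source_le
        (le_sup_right.trans hL) hA.2.1 ?_ fun h => hAX (h.trans (thompsonA_le X₁))))
      exact (abMax_mono (le_normalizerIn hX₁T)).trans (isMaxAb_iff_card.1 hA).2.2
  -- automorphisms of `X`
  obtain ⟨θ', hθ', hθ1, hθ2, -⟩ := hθ.exists_inv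
  have hQ₁N : Q₁ ≤ fimg θ (normalizerIn T X) := fimg_mono θ hQN
  have hθ'fix : Fixes F (zpowers c) (fimg θ (normalizerIn T X)) θ' := by
    refine big _ θ' hθ' ?_ ((meas_le_of_map hθ hQN le_rfl hQ₁T).trans
      (meas_mono E hQ₁N hθ.fimg_le_S))
    rw [hθ.card_fimg]
    exact lt_of_lt_of_le (card_lt_of_lt hQR) (Subgroup.card_le_of_le hRX)
  have hXN : X ≤ normalizerIn T X := le_normalizerIn hXT
  have hX₁N : X₁ ≤ fimg θ (normalizerIn T X) := hθX ▸ fimg_mono θ hXN
  have hθ'X : ∀ y ∈ X₁, θ' y ∈ X := by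
    intro y hy
    rw [← hθX] at hy
    obtain ⟨x, hx, rfl⟩ := (hθ.res hXN).mem_fimg_iff.1 hy
    rw [hθ1 x (hXN hx)]
    exact hx
  have hfix : ∀ a ∈ E.autGroup X, Fixes F (zpowers c) X (autFun a) := by
    intro a ha
    have hm : IsMap E X₁ (fun y => θ (autFun a (θ' y))) :=
      (((hθ'.res hX₁N).comp ((mem_autGroup hXT).1 ha) hθ'X).comp (hθ.res hXN)
        fun y hy => autFun_mem a (hθ'X y hy))
    obtain ⟨a₁, ha₁, ha₁e⟩ := hm.exists_aut (Subgroup.eq_of_le_of_card_ge (fimg_le fun y hy =>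
      hθX ▸ apply_mem_fimg θ (autFun_mem a (hθ'X y hy))) hm.card_fimg.ge)
    refine ((((hθfix.res hXN)).comp (hfix₁ a₁ ha₁)
      (fun x hx => hθX ▸ apply_mem_fimg θ hx)).comp (hθ'fix.res hX₁N)
      (fun x hx => autFun_mem a₁ (hθX ▸ apply_mem_fimg θ hx))).congr fun x hx => ?_
    show θ' (autFun a₁ (θ x)) = autFun a x
    rw [ha₁e _ (hθX ▸ apply_mem_fimg θ hx), hθ1 x (hXN hx), hθ1 _ (hXN (autFun_mem a hx))]
  -- automorphisms of `Q`
  have hQc : Q ⊔ zpowers c ≤ S := dQ.dom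
  refine mem_goodAuts.1 ((aut_induction hTp hEs hQ.2.1 (goodAuts F (zpowers c) Q hQc)
    (fun a ha hconj => ?_) (fun b hb t ht a ha hab => ?_)) hα)
  · obtain ⟨e, he, hee⟩ := exists_extension dQ.receptive ha (le_normalizerIn hQT) le_rfl
      fun y hy r hr => hconj r (mem_autInducedBy.2 ⟨y, hy.1, hr⟩)
    exact mem_goodAuts.2 (((big R e he (card_lt_of_lt hQR) (meas_mono E hQR.le hRT)).res
      hQR.le).congr hee)
  · obtain ⟨z, hz, hs⟩ := exists_shift d.pgroup d.sat d.normal d.hc ((mem_autGroup hQT).1 hb) hQ.1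
    rw [fimg_autFun] at hz
    -- the factor is a shift at `X`
    have hbX : fimg (autFun b) X = X := by
      haveI : Finite X := finite_of_le hXT
      rw [← hXQ]
      exact IsMap.map_thompsonA ((mem_autGroup hQT).1 hb) (thompsonA_le Q)
        fun x hx => autFun_mem b (thompsonA_le Q hx)
    obtain ⟨aX, haX, haXe⟩ := (((mem_autGroup hQT).1 hb).res hJ).exists_aut hbX
    obtain ⟨g₀, hg₀, hg₀1, hg₀2⟩ := hfix aX haX
    obtain ⟨g₀', hg₀', hg₀'1, hg₀'2, -⟩ := hg₀.exists_inv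
    have hcX : c ∈ X ⊔ zpowers c := Subgroup.mem_sup_right (mem_zpowers c)
    have himg : fimg g₀ (X ⊔ zpowers c) = X ⊔ zpowers c := by
      rw [hg₀.fimg_sup, fimg_congr hg₀1, fimg_autFun, fimg_eq_self_of_forall hg₀2]
    rw [himg] at hg₀' hg₀'2
    obtain ⟨g, hg, hg1, hg2⟩ := id hs
    have hk : Shifts F X (fun x => x) c z := by
      refine ⟨_, hg₀'.comp hg (fun y hy => (sup_le_sup_right hJ _) (hg₀'2 y hy).1),
        fun x hx => ?_, ?_⟩
      · show g (g₀' x) = x
        have hxX : autFun aX⁻¹ x ∈ X := autFun_mem _ hx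
        have h1 : g₀ (autFun aX⁻¹ x) = x := by
          rw [hg₀1 _ hxX, ← autFun_mul _ _ hx, mul_inv_cancel, autFun_one hx]
        rw [show g₀' x = autFun aX⁻¹ x by
          conv_lhs => rw [← h1]
          exact hg₀'1 _ (Subgroup.mem_sup_left hxX), hg1 _ (hJ hxX), ← haXe _ hxX,
          ← autFun_mul _ _ hx, mul_inv_cancel, autFun_one hx]
      · show g (g₀' c) = c * z
        rw [show g₀' c = c by
          conv_lhs => rw [← hg₀2 c (mem_zpowers c)]
          exact hg₀'1 _ hcX, hg2]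
    have htz : t * z * t⁻¹ = z :=
      ker_commute d.pgroup d.sat d.normal hXcen d.hc hk ht.1 (hRX ht).2
    have h := conj_shift hT hQT d.hc hz.1 hs ht
      (by rw [htz, mul_inv_cancel]; exact Q.one_mem) hab
    rw [htz, mul_inv_cancel, (((mem_autGroup hQT).1 (inv_mem hb))).map_one] at h
    exact mem_goodAuts.2 h.fixes

/-- For odd `p`, the centralizer of `T` is the product of that of `E` and the centre of `T`. -/
theorem centralizer_le_of_centSub_le (hS : IsPGroup p S) (hF : F.IsSaturated p)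
    (hE : E.IsNormalIn F p) (hp : p ≠ 2) (hU : CentNormal.centSub F E ≤ T) :
    centralizerIn S T ≤ T := by
  obtain ⟨hEs, -, hinv⟩ := hE.1
  have hT := hinv.2.1
  have hTS := hT.1
  haveI : Finite T := finite_of_le hTS
  have hTp : IsPGroup p T := hS.to_le hTS
  intro c hc
  set J := thompsonSubgroupAOf T with hJdef
  have hJT : J ≤ T := thompsonA_le T
  haveI : Finite J := finite_of_le hJT
  have hJn : T ≤ Subgroup.normalizer (J : Set Ω) := fun t ht =>
    normalizerIn_le_thompsonA E le_rfl (le_normalizerIn le_rfl ht)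
  have hJc : centralizerIn T J ≤ J := fun x hx => centralizer_thompsonA_le ⟨hx.1, hx.2⟩
  have hJcen : E.IsCentric J := by
    refine ⟨hJT, fun Q hQ => ?_⟩
    obtain ⟨f, hf, rfl⟩ := isConj_iff.1 hQ
    rw [IsMap.map_thompsonA hf le_rfl fun x hx => hf.fimg_le_S (apply_mem_fimg f hx)]
    exact hJc
  have hJfn : E.IsFullyNormalized J := by
    refine ⟨hJT, fun Q hQ => ?_⟩
    rw [show normalizerIn T J = T from le_antisymm inf_le_left (le_inf le_rfl hJn)]
    exact Subgroup.card_le_of_le inf_le_left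
  -- the first translate
  obtain ⟨z₁, -, hz₁, hz₁T, hfix₁⟩ := (⟨hS, hF, hE, hJcen, hJfn, hc⟩ :
    Setup F E p J c).exists_translate hJn (W' := ⊤) fun _ _ _ _ _ => Subgroup.mem_top _
  have hz₁C : z₁ ∈ centralizerIn S T := ⟨hTS (hJT hz₁.1), hz₁T⟩
  set c₁ := c * z₁ with hc₁def
  have hc₁ : c₁ ∈ centralizerIn S T := Subgroup.mul_mem _ hc hz₁C
  have d₁ : Setup F E p J c₁ := ⟨hS, hF, hE, hJcen, hJfn, hc₁⟩
  -- the second translate
  have dT : Setup F E p T c₁ := ⟨hS, hF, hE, centric_self E,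
    ⟨le_rfl, fun Q hQ => by rw [eq_top_of_isConj hQ]⟩, hc₁⟩
  obtain ⟨z₂, hz₂, hz₂Z, hz₂T, hfixT⟩ := dT.exists_translate Subgroup.le_normalizer
    (W' := shifts F E J c₁) fun g hg z hz hgc => by
      obtain ⟨hgF, a, ha, hga, -⟩ := hg
      have hzJ : z ∈ centralizerIn J J :=
        ⟨hJc ⟨hz.1, Subgroup.centralizer_le hJT hz.2⟩, Subgroup.centralizer_le hJT hz.2⟩
      have ham := (mem_autGroup (le_refl T)).1 ha
      obtain ⟨aJ, haJ, haJe⟩ := (ham.res hJT).exists_aut
        (IsMap.map_thompsonA ham hJT fun x hx => autFun_mem a (hJT hx))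
      obtain ⟨g₁, hg₁, hg₁a, hg₁c⟩ := d₁.exists_mem haJ hzJ ⟨autFun g,
        ((mem_autGroup dT.dom).1 hgF).res (sup_le_sup_right hJT _),
        fun x hx => by rw [hga x (hJT hx), haJe x hx], hgc⟩
      obtain ⟨g₂, hg₂, hg₂a, hg₂c⟩ :=
        d₁.exists_mem haJ (one_mem _) (Shifts.of_fixes (hfix₁ aJ haJ))
      obtain ⟨w, hw, e⟩ := d₁.shift_of_eq hg₁ hg₂ fun x hx => by rw [hg₁a x hx, hg₂a x hx]
      rw [hg₁c, hg₂c, mul_one, mul_right_inj] at e
      exact e ▸ hw
  have hz₂C : z₂ ∈ centralizerIn S T := ⟨hTS hz₂Z.1, hz₂T⟩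
  set c₂ := c₁ * z₂ with hc₂def
  have hc₂ : c₂ ∈ centralizerIn S T := Subgroup.mul_mem _ hc₁ hz₂C
  have hJfix : ∀ a ∈ E.autGroup J, Fixes F (zpowers c₂) J (autFun a) := by
    intro a ha
    obtain ⟨g, hg, hga, hgc⟩ := d₁.exists_mem ha (one_mem _) (Shifts.of_fixes (hfix₁ a ha))
    rw [mul_one] at hgc
    have hz₂J : z₂ ∈ J := hz₂.1.1
    have haz : autFun a z₂ ∈ shifts F E J c₁ := hga z₂ hz₂J ▸ shifts_apply hg hz₂
    obtain ⟨hwZ, k, hk, hkx, hkc⟩ := mul_mem hz₂ (inv_mem haz)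
    have hcD : c₁ ∈ J ⊔ zpowers c₁ := Subgroup.mem_sup_right (mem_zpowers c₁)
    have hzD : z₂ ∈ J ⊔ zpowers c₁ := Subgroup.mem_sup_left hz₂J
    have hle : J ⊔ zpowers c₂ ≤ J ⊔ zpowers c₁ :=
      sup_le le_sup_left (Subgroup.zpowers_le.2 (mul_mem hcD hzD))
    refine Shifts.fixes ⟨autFun (k * g), ((mem_autGroup d₁.dom).1 (mul_mem hk hg).1).res hle,
      fun x hx => ?_, ?_⟩
    · rw [autFun_mul _ _ (Subgroup.mem_sup_left hx), hga x hx, hkx _ (autFun_mem a hx)]
    · rw [autFun_mul _ _ (mul_mem hcD hzD), autFun_map_mul' g hcD hzD, hgc, hga _ hz₂J,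
        autFun_map_mul' k hcD (Subgroup.mem_sup_left haz.1.1), hkc, hkx _ haz.1.1, mul_one,
        mul_assoc, inv_mul_cancel_right]
  have hbase : Base F E p c₂ := ⟨hS, hF, hE, hp, hc₂, hfixT, hJfix⟩
  have hcent : ∀ P : Subgroup Ω, E.Hom P ⊆ F.centralizerHom (zpowers c₂) P := by
    intro P φ hφ
    obtain ⟨g, hg, hg1, hg2⟩ := hbase.fixes (isMap_toFun hφ)
    have hXC : ∀ y ∈ T, y ∈ centralizerIn S (zpowers c₂) := fun y hy =>
      mem_centralizerIn.2 ⟨hTS hy, fun x hx => ((mem_centralizerIn.1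
        ((Subgroup.zpowers_le (H := centralizerIn S T)).2 hc₂ hx)).2 y hy).symm⟩
    exact mem_centralizerHom.2 ⟨fun y hy => hXC y ((E.le_of_mem hφ).1 hy),
      fun x => hXC _ ((E.le_of_mem hφ).2 x), g, hg,
      fun x => (hg1 x x.2).trans (toFun_coe φ x), hg2⟩
  have hc₂T : c₂ ∈ T :=
    hU (CentNormal.le_centSub (Subgroup.zpowers_le.2 hc₂) hcent (mem_zpowers c₂))
  have hc₁T : c₁ ∈ T := by
    have h := T.mul_mem hc₂T (T.inv_mem hz₂Z.1)
    rwa [hc₂def, mul_inv_cancel_right] at h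
  have h := T.mul_mem hc₁T (T.inv_mem (hJT hz₁.1))
  rwa [hc₁def, mul_inv_cancel_right] at h

end Cfsg.Agent.Fus.Shift

namespace Cfsg.Agent.Fus.Shift

open Subgroup FusionSystem FocalCent

variable {Ω : Type*} [Group Ω] {S T : Subgroup Ω} {F : FusionSystem S} {E : FusionSystem T}
  {p : ℕ} [Finite S] [Fact p.Prime]

/-- `T C_S(T) / T` is abelian when the focal subgroup of `C_F(T)` lies in `T`. -/
theorem commutator_sup_le (hT : F.StronglyClosed T)
    (hfoc : (centralizerSystem F T hT.1).focalSubgroup ≤ T) :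
    ⁅T ⊔ centralizerIn S T, T ⊔ centralizerIn S T⁆ ≤ T := by
  have hTS := hT.1
  have hn := le_normalizer_of_stronglyClosed hT
  have hcc : ∀ c ∈ centralizerIn S T, ∀ d ∈ centralizerIn S T, c * d * c⁻¹ * d⁻¹ ∈ T := by
    intro c hc d hd
    have hm : IsMap (centralizerSystem F T hTS) (centralizerIn S T) (fun x => c * x * c⁻¹) :=
      (isMap_centralizerSystem hTS (isCentralizerSystem_centralizerSystem F hTS)).2
        ⟨le_rfl, fun x hx => Subgroup.mul_mem _ (Subgroup.mul_mem _ hc hx) (Subgroup.inv_mem _ hc),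
          _, isMap_conj F (sup_le inf_le_left hTS) hc.1, fun x _ => rfl, fun t ht => by
            show c * t * c⁻¹ = t
            rw [← (mem_centralizerIn.1 hc).2 t ht, mul_inv_cancel_right]⟩
    have h := hfoc (hm.focal_mem hd)
    have h2 := (Subgroup.mem_normalizer_iff.1 (hn hd.1) _).1 h
    rwa [show d * (d⁻¹ * (c * d * c⁻¹)) * d⁻¹ = c * d * c⁻¹ * d⁻¹ by group] at h2
  have hW : ∀ x ∈ T ⊔ centralizerIn S T, ∃ t ∈ T, ∃ c ∈ centralizerIn S T, x = t * c := by
    intro x hx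
    rw [← SetLike.mem_coe, Subgroup.coe_mul_of_right_le_normalizer_left T (centralizerIn S T)
      (fun c hc => hn hc.1)] at hx
    obtain ⟨t, ht, c, hc, e⟩ := hx
    exact ⟨t, ht, c, hc, e.symm⟩
  refine Subgroup.commutator_le.2 fun x hx y hy => ?_
  obtain ⟨t, ht, c, hc, rfl⟩ := hW x hx
  obtain ⟨u, hu, d, hd, rfl⟩ := hW y hy
  have h := hcc c hc d hd
  have ht' : t * c = c * t := (mem_centralizerIn.1 hc).2 t ht
  have hu' : u * d = d * u := (mem_centralizerIn.1 hd).2 u hu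
  rw [commutatorElement_def]
  have hcn := hn hc.1
  have hdn := hn hd.1
  have e : t * c * (u * d) * (t * c)⁻¹ * (u * d)⁻¹ =
      t * u * (c * d * c⁻¹ * t⁻¹ * d⁻¹) * u⁻¹ := by
    rw [show t * c * (u * d) * (t * c)⁻¹ * (u * d)⁻¹ =
      t * (c * u) * (d * c⁻¹ * t⁻¹ * d⁻¹) * u⁻¹ by group, ← (mem_centralizerIn.1 hc).2 u hu]
    group
  rw [e]
  refine T.mul_mem (T.mul_mem (T.mul_mem ht hu) ?_) (T.inv_mem hu)
  rw [show c * d * c⁻¹ * t⁻¹ * d⁻¹ = c * d * c⁻¹ * d⁻¹ * (d * t⁻¹ * d⁻¹) by group]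
  exact T.mul_mem h ((Subgroup.mem_normalizer_iff.1 hdn _).1 (T.inv_mem ht))

end Cfsg.Agent.Fus.Shift
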