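import Mathlib
import Cfsg.Prelude.Def_Classical

/-!
The hyperbolic quadratic space: singular lines, their duals and their Siegel transvections.
-/

set_option autoImplicit false

namespace Cfsg.Agent.Fus.Siegel

open Matrix

variable {F : Type*} [Field F] {n : ℕ}

local notation "V" => (Fin n ⊕ Fin n → F)
local notation "Mn" => Matrix (Fin n ⊕ Fin n) (Fin n ⊕ Fin n) F
local notation "Q" => Cfsg.quadFormPlus n F

/-- The vector whose dot product is the polar form with `p`. -/
def bar (p : V) : V := fun i => p i.swap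

/-- The polar form. -/
def B (x y : V) : F := bar y ⬝ᵥ x

theorem B_eq (x y : V) : B x y =
    ∑ i : Fin n, (x (.inl i) * y (.inr i) + x (.inr i) * y (.inl i)) := by
  simp only [B, bar, dotProduct, Fintype.sum_sum_type, Sum.swap_inl, Sum.swap_inr,
    Finset.sum_add_distrib]
  congr 1 <;> exact Finset.sum_congr rfl fun i _ => mul_comm _ _

theorem Q_add (x y : V) : Q (x + y) = Q x + Q y + B x y := by
  rw [B_eq]
  simp only [Cfsg.quadFormPlus, ← Finset.sum_add_distrib, Pi.add_apply]
  exact Finset.sum_congr rfl fun i _ => by ring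

theorem polar_iff (x y : V) : Q (x + y) - Q x - Q y = 0 ↔ B x y = 0 := by
  rw [Q_add]; ring_nf

theorem B_comm (x y : V) : B x y = B y x := by
  rw [B_eq, B_eq]
  exact Finset.sum_congr rfl fun i _ => by ring

theorem B_add_left (x y z : V) : B (x + y) z = B x z + B y z := dotProduct_add _ _ _
theorem B_sub_left (x y z : V) : B (x - y) z = B x z - B y z := dotProduct_sub _ _ _
theorem B_neg_left (x z : V) : B (-x) z = -B x z := dotProduct_neg _ _
theorem B_smul_left (c : F) (x z : V) : B (c • x) z = c * B x z := dotProduct_smul _ _ _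
theorem B_zero_left (z : V) : B 0 z = 0 := dotProduct_zero _

theorem B_add_right (x y z : V) : B x (y + z) = B x y + B x z := by
  rw [B_comm, B_add_left, B_comm y, B_comm z]
theorem B_sub_right (x y z : V) : B x (y - z) = B x y - B x z := by
  rw [B_comm, B_sub_left, B_comm y, B_comm z]
theorem B_neg_right (x z : V) : B x (-z) = -B x z := by
  rw [B_comm, B_neg_left, B_comm]
theorem B_smul_right (c : F) (x z : V) : B x (c • z) = c * B x z := by
  rw [B_comm, B_smul_left, B_comm]

theorem Q_smul (c : F) (x : V) : Q (c • x) = c ^ 2 * Q x := by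
  simp only [Cfsg.quadFormPlus, Finset.mul_sum, Pi.smul_apply, smul_eq_mul]
  exact Finset.sum_congr rfl fun i _ => by ring

theorem B_self (x : V) : B x x = 2 * Q x := by
  rw [B_eq, Cfsg.quadFormPlus, Finset.mul_sum]
  exact Finset.sum_congr rfl fun i _ => by ring

theorem eq_zero_of_B {y : V} (h : ∀ x, B x y = 0) : y = 0 := by
  funext i
  have := h (Pi.single i.swap 1)
  simpa [B, bar] using this

theorem eq_of_B {y z : V} (h : ∀ x, B x y = B x z) : y = z :=
  sub_eq_zero.1 (eq_zero_of_B fun x => by rw [B_sub_right, h, sub_self])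

/-- Dual to a vector outside the line of another one. -/
theorem exists_dual {p r : V} (hp : p ≠ 0) (h : ∀ c : F, r ≠ c • p) :
    ∃ x, B x p = 0 ∧ B x r = 1 := by
  obtain ⟨y, hy⟩ : ∃ y, B y p ≠ 0 := by
    by_contra! h0
    exact hp (eq_zero_of_B h0)
  by_contra! h0
  refine h (B y r / B y p) (eq_of_B fun x => ?_)
  obtain ⟨x', hx'⟩ : ∃ x', x' = x - (B x p / B y p) • y := ⟨_, rfl⟩
  have h1 : B x' p = 0 := by
    rw [hx', B_sub_left, B_smul_left, div_mul_cancel₀ _ hy, sub_self]
  have h2 : B x' r = 0 := by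
    by_contra h2
    exact h0 ((B x' r)⁻¹ • x') (by rw [B_smul_left, h1, mul_zero])
      (by rw [B_smul_left, inv_mul_cancel₀ h2])
  rw [hx', B_sub_left, B_smul_left, sub_eq_zero] at h2
  rw [h2, B_smul_right]
  field_simp

/-- A pair of spanning vectors of a singular line. -/
structure Good (p r : V) : Prop where
  ne : p ≠ 0
  indep : ∀ c : F, r ≠ c • p
  sing_left : Q p = 0
  sing_right : Q r = 0
  orth : B p r = 0

theorem good_iff (p r : V) : Good p r ↔
    LinearIndependent F ![p, r] ∧ Q p = 0 ∧ Q r = 0 ∧ Q (p + r) = 0 := by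
  constructor
  · rintro ⟨h1, h2, h3, h4, h5⟩
    refine ⟨(LinearIndependent.pair_iff' h1).2 fun c e => h2 c e.symm, h3, h4, ?_⟩
    rw [Q_add, h3, h4, h5, add_zero, add_zero]
  · rintro ⟨h1, h2, h3, h4⟩
    have hp : p ≠ 0 := h1.ne_zero 0
    refine ⟨hp, fun c e => (LinearIndependent.pair_iff' hp).1 h1 c e.symm, h2, h3, ?_⟩
    rw [Q_add, h2, h3, zero_add, zero_add] at h4
    exact h4

section GoodLemmas

theorem Good.self_left {p r : V} (h : Good p r) : B p p = (0 : F) := by rw [B_self, h.sing_left, mul_zero]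
theorem Good.self_right {p r : V} (h : Good p r) : B r r = (0 : F) := by rw [B_self, h.sing_right, mul_zero]
theorem Good.orth' {p r : V} (h : Good p r) : B r p = (0 : F) := by rw [B_comm, h.orth]
theorem Good.ne_right {p r : V} (h : Good p r) : r ≠ 0 := fun e => h.indep 0 (by rw [e, zero_smul])

theorem Good.symm {p r : V} (h : Good p r) : Good r p := by
  refine ⟨h.ne_right, fun c e => ?_, h.sing_right, h.sing_left, h.orth'⟩
  rcases eq_or_ne c 0 with rfl | hc
  · exact h.ne (by rw [e, zero_smul])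
  · exact h.indep c⁻¹ (by rw [e, smul_smul, inv_mul_cancel₀ hc, one_smul])

theorem Good.dual {p r : V} (h : Good p r) : ∃ s t : V, B s p = 1 ∧ B s r = 0 ∧ B t p = 0 ∧ B t r = 1 := by
  obtain ⟨t, ht1, ht2⟩ := exists_dual h.ne h.indep
  obtain ⟨s, hs1, hs2⟩ := exists_dual h.symm.ne h.symm.indep
  exact ⟨s, t, hs2, hs1, ht1, ht2⟩

end GoodLemmas

/-- A singular partner. -/
theorem exists_singular {p x : V} (hp : Q p = 0) (hx : B x p = 1) :
    Q (x - Q x • p) = 0 := by
  rw [sub_eq_add_neg, ← neg_smul, Q_add, Q_smul, hp, B_smul_right, hx]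
  ring

/-- `σ - 1` for a Siegel transvection. -/
def K (p r : V) : Mn := Matrix.vecMulVec r (bar p) - Matrix.vecMulVec p (bar r)

/-- The matrix of a Siegel transvection. -/
def S (p r : V) (c : F) : Mn := 1 + c • K p r

theorem K_mulVec (p r x : V) : K p r *ᵥ x = B x p • r - B x r • p := by
  funext i
  simp only [K, Matrix.sub_mulVec, Matrix.vecMulVec_mulVec, Pi.sub_apply, Pi.smul_apply,
    MulOpposite.smul_eq_mul_unop, MulOpposite.unop_op, smul_eq_mul]
  show r i * B x p - p i * B x r = _
  ring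

theorem S_mulVec (p r x : V) (c : F) :
    S p r c *ᵥ x = x + c • (B x p • r - B x r • p) := by
  rw [S, Matrix.add_mulVec, Matrix.one_mulVec, Matrix.smul_mulVec, K_mulVec]

theorem S_zero (p r : V) : S p r 0 = 1 := by rw [S, zero_smul, add_zero]

theorem Q_S {p r : V} (h : Good p r) (c : F) (x : V) : Q (S p r c *ᵥ x) = Q x := by
  rw [S_mulVec, Q_add, Q_smul, B_smul_right, B_sub_right, B_smul_right, B_smul_right,
    sub_eq_add_neg, ← neg_smul, Q_add, Q_smul, Q_smul, h.sing_left, h.sing_right, B_smul_left,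
    B_smul_right, h.orth']
  ring

theorem S_mul {p r : V} (h : Good p r) (c d : F) : S p r c * S p r d = S p r (c + d) := by
  refine Matrix.ext_iff_mulVec.2 fun x => ?_
  rw [← Matrix.mulVec_mulVec]
  simp only [S_mulVec, B_add_left, B_smul_left, B_sub_left, h.orth, h.orth', h.self_left,
    h.self_right, mul_zero, sub_self, add_zero]
  module

theorem S_commute {p r a b : V} (hap : B a p = 0) (har : B a r = 0) (hbp : B b p = 0)
    (hbr : B b r = 0) (c d : F) : S p r c * S a b d = S a b d * S p r c := by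
  have e : B p a = 0 ∧ B r a = 0 ∧ B p b = 0 ∧ B r b = 0 :=
    ⟨by rw [B_comm, hap], by rw [B_comm, har], by rw [B_comm, hbp], by rw [B_comm, hbr]⟩
  refine Matrix.ext_iff_mulVec.2 fun x => ?_
  rw [← Matrix.mulVec_mulVec, ← Matrix.mulVec_mulVec]
  simp only [S_mulVec, B_add_left, B_smul_left, B_sub_left, hap, har, hbp, hbr, e.1, e.2.1,
    e.2.2.1, e.2.2.2, mul_zero, sub_self, add_zero]
  module

/-- Lines whose pairing has rank one: the commutator. -/
theorem S_commutator {p r a b : V} (h : Good p r) (h' : Good a b) (hap : B a p = 0)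
    (har : B a r = 0) (hbp : B b p = 0) (hbr : B b r = 1) (c d : F) :
    S p r c * S a b d = S p a (c * d) * (S a b d * S p r c) := by
  have e : B p a = 0 ∧ B r a = 0 ∧ B p b = 0 ∧ B r b = 1 :=
    ⟨by rw [B_comm, hap], by rw [B_comm, har], by rw [B_comm, hbp], by rw [B_comm, hbr]⟩
  refine Matrix.ext_iff_mulVec.2 fun x => ?_
  rw [← Matrix.mulVec_mulVec, ← Matrix.mulVec_mulVec, ← Matrix.mulVec_mulVec]
  simp only [S_mulVec, B_add_left, B_smul_left, B_sub_left, hap, har, hbp, hbr, e.1, e.2.1,
    e.2.2.1, e.2.2.2, h.orth, h.orth', h.self_left, h.self_right, h'.orth, h'.orth',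
    h'.self_left, h'.self_right, mul_zero, mul_one, sub_self, add_zero, zero_sub, sub_zero]
  module

end Cfsg.Agent.Fus.Siegel
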