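import Mathlib
import Cfsg.Prelude.Def_RootSubgroups
import Cfsg.Agent.Lib.Fus.SiegelBasic
import Cfsg.Agent.Lib.Fus.RootLines

/-!
The root groups of singular lines: elements, independence of the spanning pair, conjugates, and
the relations of pairs with degenerate pairing.
-/

set_option autoImplicit false
set_option linter.unusedSectionVars false

open scoped commutatorElement

namespace Cfsg.Agent.Fus.Siegel

open Matrix

variable {F : Type*} [Field F] {n : ℕ} {Γ : Type*} [Group Γ]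
  (ρ : Γ →* Matrix (Fin n ⊕ Fin n) (Fin n ⊕ Fin n) F)

local notation "V" => (Fin n ⊕ Fin n → F)
local notation "Mn" => Matrix (Fin n ⊕ Fin n) (Fin n ⊕ Fin n) F
local notation "Q" => Cfsg.quadFormPlus n F

/-- A group of isometries containing all Siegel transvections. -/
structure IsRep : Prop where
  inj : Function.Injective ρ
  iso : ∀ (g : Γ) (x : V), Q (ρ g *ᵥ x) = Q x
  full : ∀ p r : V, Good p r → ∀ c : F, ∃ g : Γ, ρ g = S p r c

/-- The root group of a singular line. -/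
def root (p r : V) : Subgroup Γ :=
  Subgroup.closure {g | ∀ v : V, B v p = 0 → B v r = 0 → ρ g *ᵥ v = v}

/-- The family of these groups. -/
def fam : Set (Subgroup Γ) := {A | ∃ p r : V, Good p r ∧ A = root ρ p r}

variable {ρ}
variable (hρ : IsRep ρ)
include hρ

theorem B_rho (g : Γ) (x y : V) : B (ρ g *ᵥ x) (ρ g *ᵥ y) = B x y := by
  have h := Q_add (ρ g *ᵥ x) (ρ g *ᵥ y)
  rw [← Matrix.mulVec_add, hρ.iso, hρ.iso, hρ.iso, Q_add] at h
  exact (add_left_cancel h).symm

theorem mem_root_iff_fix (p r : V) {g : Γ} :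
    g ∈ root ρ p r ↔ ∀ v : V, B v p = 0 → B v r = 0 → ρ g *ᵥ v = v := by
  refine ⟨fun hg => ?_, fun hg => Subgroup.subset_closure hg⟩
  induction hg using Subgroup.closure_induction with
  | mem g hg => exact hg
  | one => intro v _ _; rw [map_one, Matrix.one_mulVec]
  | mul a b _ _ ha hb =>
    intro v h1 h2
    rw [map_mul, ← Matrix.mulVec_mulVec, hb v h1 h2, ha v h1 h2]
  | inv a _ ha =>
    intro v h1 h2
    conv_lhs => rw [← ha v h1 h2]
    rw [Matrix.mulVec_mulVec, ← map_mul, inv_mul_cancel, map_one, Matrix.one_mulVec]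

theorem mem_root {p r : V} (h : Good p r) {g : Γ} :
    g ∈ root ρ p r ↔ ∃ c : F, ρ g = S p r c := by
  rw [mem_root_iff_fix hρ]
  constructor
  · intro hg
    obtain ⟨s, t, hsp, hsr, htp, htr⟩ := h.dual
    obtain ⟨u, hu⟩ : ∃ u, u = ρ g *ᵥ s - s := ⟨_, rfl⟩
    obtain ⟨w, hw⟩ : ∃ w, w = ρ g *ᵥ t - t := ⟨_, rfl⟩
    have hs : ρ g *ᵥ s = s + u := by rw [hu]; abel
    have ht : ρ g *ᵥ t = t + w := by rw [hw]; abel
    have hdec : ∀ x : V, B (x - B x p • s - B x r • t) p = 0 ∧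
        B (x - B x p • s - B x r • t) r = 0 := by
      intro x
      simp [B_sub_left, B_smul_left, hsp, hsr, htp, htr]
    have himage : ∀ x : V, ρ g *ᵥ x = x + B x p • u + B x r • w := by
      intro x
      have hfix := hg _ (hdec x).1 (hdec x).2
      rw [Matrix.mulVec_sub, Matrix.mulVec_sub, Matrix.mulVec_smul, Matrix.mulVec_smul, hs, ht]
        at hfix
      rw [show ρ g *ᵥ x = (ρ g *ᵥ x - B x p • (s + u) - B x r • (t + w)) + B x p • (s + u)
        + B x r • (t + w) by abel, hfix]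
      module
    have hspan : ∀ z : V, (∀ y, B y p = 0 → B y r = 0 → B z y = 0) →
        z = B z s • p + B z t • r := by
      intro z hz
      refine eq_of_B fun x => ?_
      have := hz _ (hdec x).1 (hdec x).2
      simp only [B_sub_right, B_smul_right] at this
      rw [B_add_right, B_smul_right, B_smul_right, B_comm x z]
      linear_combination this
    have himg : ∀ (z y : V), B y p = 0 → B y r = 0 → B (ρ g *ᵥ z - z) y = 0 := by
      intro z y h1 h2
      have := B_rho hρ g z y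
      rw [hg y h1 h2] at this
      rw [B_sub_left, this, sub_self]
    have hu' := hspan u (fun y h1 h2 => hu ▸ himg s y h1 h2)
    have hw' := hspan w (fun y h1 h2 => hw ▸ himg t y h1 h2)
    obtain ⟨α, hα⟩ : ∃ α, α = B u s := ⟨_, rfl⟩
    obtain ⟨γ, hγ⟩ : ∃ γ, γ = B u t := ⟨_, rfl⟩
    obtain ⟨β, hβ⟩ : ∃ β, β = B w s := ⟨_, rfl⟩
    obtain ⟨δ, hδ⟩ : ∃ δ, δ = B w t := ⟨_, rfl⟩
    rw [← hα, ← hγ] at hu'
    rw [← hβ, ← hδ] at hw'
    have Qspan : ∀ a b : F, Q (a • p + b • r) = 0 := by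
      intro a b
      rw [Q_add, Q_smul, Q_smul, h.sing_left, h.sing_right, B_smul_left, B_smul_right, h.orth]
      ring
    have hα0 : α = 0 := by
      have := hρ.iso g s
      rw [hs, Q_add, hu', Qspan, ← hu', B_comm s u, ← hα, add_zero, add_eq_left] at this
      exact this
    have hδ0 : δ = 0 := by
      have := hρ.iso g t
      rw [ht, Q_add, hw', Qspan, ← hw', B_comm t w, ← hδ, add_zero, add_eq_left] at this
      exact this
    have huw : B u w = 0 := by
      rw [hu', hw']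
      simp [B_add_left, B_add_right, B_smul_left, B_smul_right, h.orth, h.orth', h.self_left,
        h.self_right]
    have hβγ : β = -γ := by
      have := B_rho hρ g s t
      rw [hs, ht, B_add_left, B_add_right, B_add_right, huw, B_comm s w, ← hβ, ← hγ] at this
      linear_combination this
    refine ⟨γ, Matrix.ext_iff_mulVec.2 fun x => ?_⟩
    rw [himage, S_mulVec, hu', hw', hα0, hδ0, hβγ]
    module
  · rintro ⟨c, hc⟩ v h1 h2
    rw [hc, S_mulVec, h1, h2, zero_smul, zero_smul, sub_self, smul_zero, add_zero]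

theorem root_congr {p r p' r' : V}
    (e : ∀ v : V, (B v p = 0 ∧ B v r = 0) ↔ (B v p' = 0 ∧ B v r' = 0)) :
    root ρ p r = root ρ p' r' := by
  ext g
  rw [mem_root_iff_fix hρ, mem_root_iff_fix hρ]
  exact ⟨fun h v h1 h2 => h v ((e v).2 ⟨h1, h2⟩).1 ((e v).2 ⟨h1, h2⟩).2,
    fun h v h1 h2 => h v ((e v).1 ⟨h1, h2⟩).1 ((e v).1 ⟨h1, h2⟩).2⟩

theorem root_swap (p r : V) : root ρ p r = root ρ r p :=
  root_congr hρ fun _ => and_comm

theorem root_change {p r : V} {a b c d : F} (hdet : a * d - b * c ≠ 0) :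
    root ρ (a • p + b • r) (c • p + d • r) = root ρ p r := by
  refine root_congr hρ fun v => ?_
  simp only [B_add_right, B_smul_right]
  constructor
  · rintro ⟨h1, h2⟩
    refine ⟨(mul_eq_zero.1 (?_ : (a * d - b * c) * B v p = 0)).resolve_left hdet,
      (mul_eq_zero.1 (?_ : (a * d - b * c) * B v r = 0)).resolve_left hdet⟩
    · linear_combination d * h1 - b * h2
    · linear_combination a * h2 - c * h1
  · rintro ⟨h1, h2⟩
    simp [h1, h2]

theorem good_map {p r : V} (h : Good p r) (g : Γ) : Good (ρ g *ᵥ p) (ρ g *ᵥ r) := by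
  have hinj : Function.Injective (ρ g *ᵥ ·) := by
    intro x y e
    have := congrArg (ρ g⁻¹ *ᵥ ·) e
    simpa [Matrix.mulVec_mulVec, ← map_mul] using this
  refine ⟨fun e => h.ne (hinj (by simpa using e)), fun c e => h.indep c (hinj ?_),
    by rw [hρ.iso, h.sing_left], by rw [hρ.iso, h.sing_right], by rw [B_rho hρ, h.orth]⟩
  simpa [Matrix.mulVec_smul] using e

theorem conjBy_root (p r : V) (g : Γ) :
    Cfsg.conjBy (root ρ p r) g = root ρ (ρ g *ᵥ p) (ρ g *ᵥ r) := by
  ext x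
  rw [mem_conjBy, mem_root_iff_fix hρ, mem_root_iff_fix hρ]
  have hgg : ∀ v : V, ρ g⁻¹ *ᵥ (ρ g *ᵥ v) = v := fun v => by
    rw [Matrix.mulVec_mulVec, ← map_mul, inv_mul_cancel, map_one, Matrix.one_mulVec]
  have hgg' : ∀ v : V, ρ g *ᵥ (ρ g⁻¹ *ᵥ v) = v := fun v => by
    rw [Matrix.mulVec_mulVec, ← map_mul, mul_inv_cancel, map_one, Matrix.one_mulVec]
  have hB : ∀ v q : V, B (ρ g⁻¹ *ᵥ v) q = B v (ρ g *ᵥ q) := fun v q => by
    rw [← B_rho hρ g, hgg']
  constructor
  · intro h v h1 h2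
    have := h (ρ g⁻¹ *ᵥ v) (by rw [hB, h1]) (by rw [hB, h2])
    rw [map_mul, map_mul, ← Matrix.mulVec_mulVec, hgg', ← Matrix.mulVec_mulVec] at this
    rw [← hgg' (ρ x *ᵥ v), this, hgg']
  · intro h v h1 h2
    rw [map_mul, map_mul, ← Matrix.mulVec_mulVec, ← Matrix.mulVec_mulVec,
      h _ (by rw [B_rho hρ, h1]) (by rw [B_rho hρ, h2]), hgg]

theorem conjBy_mem_fam {A : Subgroup Γ} (hA : A ∈ fam ρ) (g : Γ) :
    Cfsg.conjBy A g ∈ fam ρ := by
  obtain ⟨p, r, h, rfl⟩ := hA
  exact ⟨_, _, good_map hρ h g, conjBy_root hρ p r g⟩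

theorem root_comm {p r : V} (h : Good p r) : IsMulCommutative (root ρ p r) := by
  refine ⟨⟨fun a b => Subtype.ext ?_⟩⟩
  obtain ⟨c, hc⟩ := (mem_root hρ h).1 a.2
  obtain ⟨d, hd⟩ := (mem_root hρ h).1 b.2
  exact hρ.inj (by simp only [Subgroup.coe_mul, map_mul, hc, hd, S_mul h, add_comm c d])

theorem eq_zero_of_S_eq_one {p r : V} (h : Good p r) {c : F} (e : S p r c = 1) : c = 0 := by
  obtain ⟨s, -, hsp, hsr, -, -⟩ := h.dual
  have := congrArg (· *ᵥ s) e
  simp only [S_mulVec, hsp, hsr, Matrix.one_mulVec, one_smul, zero_smul, sub_zero,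
    add_eq_left, smul_eq_zero] at this
  exact this.resolve_right h.ne_right

theorem root_ne_bot {p r : V} (h : Good p r) : root ρ p r ≠ ⊥ := by
  intro e
  obtain ⟨g, hg⟩ := hρ.full p r h 1
  have hg1 : g ∈ root ρ p r := (mem_root hρ h).2 ⟨_, hg⟩
  rw [e, Subgroup.mem_bot] at hg1
  rw [hg1, map_one] at hg
  exact one_ne_zero (eq_zero_of_S_eq_one hρ h hg.symm)

theorem commutator_eq_bot {p r a b : V} (h : Good p r) (h' : Good a b) (hap : B a p = 0)
    (har : B a r = 0) (hbp : B b p = 0) (hbr : B b r = 0) :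
    ⁅root ρ p r, root ρ a b⁆ = ⊥ := by
  refine le_bot_iff.1 (Subgroup.commutator_le.2 fun g hg k hk => ?_)
  obtain ⟨c, hc⟩ := (mem_root hρ h).1 hg
  obtain ⟨d, hd⟩ := (mem_root hρ h').1 hk
  rw [Subgroup.mem_bot, commutatorElement_eq_one_iff_mul_comm]
  exact hρ.inj (by rw [map_mul, map_mul, hc, hd, S_commute hap har hbp hbr])

section RankOnePairing

variable {p r a b : Fin n ⊕ Fin n → F} (h : Good p r) (h' : Good a b) (hap : B a p = 0) (har : B a r = 0)
  (hbp : B b p = 0) (hbr : B b r = 1)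
include h h' hap har hbp hbr

theorem commutator_eq_bot_of_dep {l : F} (hl : a = l • p) :
    ⁅root ρ p r, root ρ a b⁆ = ⊥ := by
  refine le_bot_iff.1 (Subgroup.commutator_le.2 fun g hg k hk => ?_)
  obtain ⟨c, hc⟩ := (mem_root hρ h).1 hg
  obtain ⟨d, hd⟩ := (mem_root hρ h').1 hk
  rw [Subgroup.mem_bot, commutatorElement_eq_one_iff_mul_comm]
  refine hρ.inj ?_
  rw [map_mul, map_mul, hc, hd, S_commutator h h' hap har hbp hbr]
  rw [show S p a (c * d) = 1 from Matrix.ext_iff_mulVec.2 fun x => by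
    rw [S_mulVec, hl, B_smul_right, Matrix.one_mulVec]
    module, one_mul]

theorem rootCommutatorCase (hind : ∀ l : F, a ≠ l • p) :
    Cfsg.RootCommutatorCase (fam ρ) (root ρ p r) (root ρ a b) := by
  have hn : Good p a := ⟨h.ne, hind, h.sing_left, h'.sing_left, by rw [B_comm, hap]⟩
  have hcomm : ∀ {g k : Γ} {c d : F}, ρ g = S p r c → ρ k = S a b d →
      ρ (g * k * g⁻¹ * k⁻¹) = S p a (c * d) := by
    intro g k c d hc hd
    obtain ⟨z, hz⟩ := hρ.full p a hn (c * d)
    rw [← hz]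
    congr 1
    have e : g * k = z * (k * g) := hρ.inj (by
      rw [map_mul, map_mul, map_mul, hc, hd, hz, S_commutator h h' hap har hbp hbr])
    rw [e]
    group
  have hle : ⁅root ρ p r, root ρ a b⁆ ≤ root ρ p a := by
    refine Subgroup.commutator_le.2 fun g hg k hk => ?_
    obtain ⟨c, hc⟩ := (mem_root hρ h).1 hg
    obtain ⟨d, hd⟩ := (mem_root hρ h').1 hk
    rw [commutatorElement_def]
    exact (mem_root hρ hn).2 ⟨_, hcomm hc hd⟩
  have hleft : ∀ g ∈ root ρ p r, g ≠ 1 →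
      Subgroup.closure ((fun k : Γ => g * k * g⁻¹ * k⁻¹) '' (root ρ a b : Set Γ)) =
        root ρ p a := by
    intro g hg hg1
    obtain ⟨c, hc⟩ := (mem_root hρ h).1 hg
    have hc0 : c ≠ 0 := fun e => hg1 (hρ.inj (by rw [hc, e, S_zero, map_one]))
    refine le_antisymm ((Subgroup.closure_le _).2 ?_) fun x hx => ?_
    · rintro _ ⟨k, hk, rfl⟩
      obtain ⟨d, hd⟩ := (mem_root hρ h').1 hk
      exact (mem_root hρ hn).2 ⟨_, hcomm hc hd⟩
    · obtain ⟨e, he⟩ := (mem_root hρ hn).1 hx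
      obtain ⟨k, hk⟩ := hρ.full a b h' (e / c)
      refine Subgroup.subset_closure ⟨k, (mem_root hρ h').2 ⟨_, hk⟩, hρ.inj ?_⟩
      show ρ (g * k * g⁻¹ * k⁻¹) = ρ x
      rw [hcomm hc hk, he, mul_div_cancel₀ _ hc0]
  have hright : ∀ k ∈ root ρ a b, k ≠ 1 →
      Subgroup.closure ((fun g : Γ => g * k * g⁻¹ * k⁻¹) '' (root ρ p r : Set Γ)) =
        root ρ p a := by
    intro k hk hk1
    obtain ⟨d, hd⟩ := (mem_root hρ h').1 hk
    have hd0 : d ≠ 0 := fun e => hk1 (hρ.inj (by rw [hd, e, S_zero, map_one]))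
    refine le_antisymm ((Subgroup.closure_le _).2 ?_) fun x hx => ?_
    · rintro _ ⟨g, hg, rfl⟩
      obtain ⟨c, hc⟩ := (mem_root hρ h).1 hg
      exact (mem_root hρ hn).2 ⟨_, hcomm hc hd⟩
    · obtain ⟨e, he⟩ := (mem_root hρ hn).1 hx
      obtain ⟨g, hg⟩ := hρ.full p r h (e / d)
      refine Subgroup.subset_closure ⟨g, (mem_root hρ h).2 ⟨_, hg⟩, hρ.inj ?_⟩
      show ρ (g * k * g⁻¹ * k⁻¹) = ρ x
      rw [hcomm hg hd, he, div_mul_cancel₀ _ hd0]
  have heq : ⁅root ρ p r, root ρ a b⁆ = root ρ p a := by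
    refine le_antisymm hle ?_
    obtain ⟨g, hg⟩ := hρ.full p r h 1
    have hg1 : g ≠ 1 := fun e => by
      rw [e, map_one] at hg
      exact one_ne_zero (eq_zero_of_S_eq_one hρ h hg.symm)
    rw [← hleft g ((mem_root hρ h).2 ⟨_, hg⟩) hg1]
    refine (Subgroup.closure_le _).2 ?_
    rintro _ ⟨k, hk, rfl⟩
    exact Subgroup.commutator_mem_commutator ((mem_root hρ h).2 ⟨_, hg⟩) hk
  rw [Cfsg.RootCommutatorCase, heq]
  refine ⟨⟨p, a, hn, rfl⟩, fun z hz x hx => ?_, hleft, hright⟩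
  obtain ⟨e, he⟩ := (mem_root hρ hn).1 hz
  have hle' : root ρ p r ⊔ root ρ a b ≤ Subgroup.centralizer {z} := by
    refine sup_le (fun g hg => Subgroup.mem_centralizer_iff.2 fun y hy => ?_)
      (fun g hg => Subgroup.mem_centralizer_iff.2 fun y hy => ?_)
    · obtain ⟨c, hc⟩ := (mem_root hρ h).1 hg
      rw [Set.mem_singleton_iff.1 hy]
      exact hρ.inj (by rw [map_mul, map_mul, he, hc,
        S_commute h.self_left hn.orth h.orth' (by rw [B_comm, har])])
    · obtain ⟨c, hc⟩ := (mem_root hρ h').1 hg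
      rw [Set.mem_singleton_iff.1 hy]
      exact hρ.inj (by rw [map_mul, map_mul, he, hc,
        S_commute hap h'.self_left hbp h'.orth'])
  exact Subgroup.mem_centralizer_iff.1 (hle' hx) z rfl

end RankOnePairing

end Cfsg.Agent.Fus.Siegel
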