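import Mathlib
import Cfsg.Agent.Lib.Fus.SiegelRoot
import Cfsg.Agent.Lib.Classical.SLGroup
import Cfsg.Agent.Lib.Classical.SLNormal
import Cfsg.Agent.Lib.Fus.TransvectionRoot
import Cfsg.Agent.S5016

/-!
Opposite lines generate an image of `SL₂`, and the trichotomy for two lines.
-/

set_option autoImplicit false
set_option linter.unusedSectionVars false

open scoped commutatorElement

namespace Cfsg.Agent.Fus.Siegel

open Matrix

variable {F : Type*} [Field F] {n : ℕ} {Γ : Type*} [Group Γ]
  {ρ : Γ →* Matrix (Fin n ⊕ Fin n) (Fin n ⊕ Fin n) F}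

local notation "V" => (Fin n ⊕ Fin n → F)
local notation "Mn" => Matrix (Fin n ⊕ Fin n) (Fin n ⊕ Fin n) F
local notation "Q" => Cfsg.quadFormPlus n F

/-- The dual frame of an opposite pair of lines. -/
structure Opp (p r s t : V) : Prop where
  left : Good p r
  right : Good s t
  ps : B p s = 1
  pt : B p t = 0
  rs : B r s = 0
  rt : B r t = 1

theorem Opp.symm {p r s t : V} (h : Opp p r s t) : Opp s t p r :=
  ⟨h.right, h.left, by rw [B_comm, h.ps], by rw [B_comm, h.rs], by rw [B_comm, h.pt],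
    by rw [B_comm, h.rt]⟩

/-- The endomorphism given by a two by two matrix on both planes of the frame. -/
def lift (p r s t : V) (X : Matrix (Fin 2) (Fin 2) F) : Mn :=
  X 0 0 • (Matrix.vecMulVec r (bar t) + Matrix.vecMulVec p (bar s)) +
  X 0 1 • (Matrix.vecMulVec r (bar p) - Matrix.vecMulVec p (bar r)) +
  X 1 0 • (Matrix.vecMulVec s (bar t) - Matrix.vecMulVec t (bar s)) +
  X 1 1 • (Matrix.vecMulVec s (bar p) + Matrix.vecMulVec t (bar r))

theorem vmv_mulVec (u y x : V) : Matrix.vecMulVec u (bar y) *ᵥ x = B x y • u := by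
  funext i
  simp only [Matrix.vecMulVec_mulVec, Pi.smul_apply, MulOpposite.smul_eq_mul_unop,
    MulOpposite.unop_op, smul_eq_mul]
  show u i * B x y = _
  ring

theorem lift_mulVec (p r s t x : V) (X : Matrix (Fin 2) (Fin 2) F) :
    lift p r s t X *ᵥ x =
      X 0 0 • (B x t • r + B x s • p) + X 0 1 • (B x p • r - B x r • p) +
        X 1 0 • (B x t • s - B x s • t) + X 1 1 • (B x p • s + B x r • t) := by
  simp only [lift, Matrix.add_mulVec, Matrix.sub_mulVec, Matrix.smul_mulVec, vmv_mulVec]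

theorem lift_mul {p r s t : V} (h : Opp p r s t) (X Y : Matrix (Fin 2) (Fin 2) F) :
    lift p r s t X * lift p r s t Y = lift p r s t (X * Y) := by
  have h' := h.symm
  refine Matrix.ext_iff_mulVec.2 fun x => ?_
  rw [← Matrix.mulVec_mulVec]
  simp only [lift_mulVec, B_add_left, B_sub_left, B_smul_left, h.left.orth, h.left.orth',
    h.left.self_left, h.left.self_right, h.right.orth, h.right.orth', h.right.self_left,
    h.right.self_right, h.ps, h.pt, h.rs, h.rt, h'.ps, h'.pt, h'.rs, h'.rt,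
    Matrix.mul_apply, Fin.sum_univ_two]
  module

theorem lift_add (p r s t : V) (X Y : Matrix (Fin 2) (Fin 2) F) :
    lift p r s t (X + Y) = lift p r s t X + lift p r s t Y := by
  refine Matrix.ext_iff_mulVec.2 fun x => ?_
  simp only [lift_mulVec, Matrix.add_mulVec, Matrix.add_apply]
  module

theorem lift_zero (p r s t : V) : lift p r s t 0 = 0 := by simp [lift]

theorem lift_injective {p r s t : V} (h : Opp p r s t) : Function.Injective (lift p r s t) := by
  intro X Y e
  have h' := h.symm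
  have k1 := congrArg (fun M => (B (M *ᵥ t) p, B (M *ᵥ p) t)) e
  have k2 := congrArg (fun M => (B (M *ᵥ t) s, B (M *ᵥ p) s)) e
  have k3 := congrArg (fun M => (B (M *ᵥ s) p, B (M *ᵥ s) t)) e
  have k4 := congrArg (fun M => (B (M *ᵥ r) p, B (M *ᵥ r) t)) e
  simp only [lift_mulVec, B_add_left, B_sub_left, B_smul_left, h.left.orth, h.left.orth',
    h.left.self_left, h.left.self_right, h.right.orth, h.right.orth', h.right.self_left,
    h.right.self_right, h.ps, h.pt, h.rs, h.rt, h'.ps, h'.pt, h'.rs, h'.rt, mul_zero, zero_mul,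
    mul_one, one_mul, add_zero, zero_add, sub_zero, zero_sub, mul_neg, Prod.mk.injEq,
    neg_inj] at k1 k2 k3 k4
  ext i j
  fin_cases i <;> fin_cases j <;> simp_all

/-- `SL₂` on an opposite pair. -/
def block {p r s t : V} (h : Opp p r s t) :
    Matrix.SpecialLinearGroup (Fin 2) F →* Mn where
  toFun g := 1 + lift p r s t ((g : Matrix (Fin 2) (Fin 2) F) - 1)
  map_one' := by simp [lift_zero]
  map_mul' g k := by
    rw [add_mul, mul_add, mul_add, one_mul, one_mul, mul_one, lift_mul h,
      Matrix.SpecialLinearGroup.coe_mul,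
      show (g : Matrix (Fin 2) (Fin 2) F) * k - 1 = ((g : Matrix (Fin 2) (Fin 2) F) - 1) +
        ((k : Matrix (Fin 2) (Fin 2) F) - 1) + ((g : Matrix (Fin 2) (Fin 2) F) - 1) *
          ((k : Matrix (Fin 2) (Fin 2) F) - 1) by noncomm_ring,
      lift_add, lift_add]
    abel

theorem block_apply {p r s t : V} (h : Opp p r s t) (g : Matrix.SpecialLinearGroup (Fin 2) F) :
    block h g = 1 + lift p r s t ((g : Matrix (Fin 2) (Fin 2) F) - 1) := rfl

theorem block_injective {p r s t : V} (h : Opp p r s t) : Function.Injective (block h) := by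
  intro g k e
  rw [block_apply, block_apply] at e
  exact Subtype.ext (sub_left_injective (lift_injective h (add_left_cancel e)))

theorem block_upper {p r s t : V} (h : Opp p r s t) {g : Matrix.SpecialLinearGroup (Fin 2) F}
    (hg : (g : Matrix (Fin 2) (Fin 2) F) 1 0 = 0 ∧ (g : Matrix (Fin 2) (Fin 2) F) 0 0 = 1 ∧
      (g : Matrix (Fin 2) (Fin 2) F) 1 1 = 1) :
    block h g = S p r ((g : Matrix (Fin 2) (Fin 2) F) 0 1) := by
  obtain ⟨h1, h2, h3⟩ := hg
  refine Matrix.ext_iff_mulVec.2 fun x => ?_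
  rw [block_apply, Matrix.add_mulVec, Matrix.one_mulVec, lift_mulVec, S_mulVec]
  simp [h1, h2, h3]

theorem block_lower {p r s t : V} (h : Opp p r s t) {g : Matrix.SpecialLinearGroup (Fin 2) F}
    (hg : (g : Matrix (Fin 2) (Fin 2) F) 0 1 = 0 ∧ (g : Matrix (Fin 2) (Fin 2) F) 0 0 = 1 ∧
      (g : Matrix (Fin 2) (Fin 2) F) 1 1 = 1) :
    block h g = S s t (-(g : Matrix (Fin 2) (Fin 2) F) 1 0) := by
  obtain ⟨h1, h2, h3⟩ := hg
  refine Matrix.ext_iff_mulVec.2 fun x => ?_
  rw [block_apply, Matrix.add_mulVec, Matrix.one_mulVec, lift_mulVec, S_mulVec]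
  simp [h1, h2, h3]
  module

variable (hρ : IsRep ρ)
include hρ

theorem exists_block_hom {p r s t : V} (h : Opp p r s t) :
    ∃ Φ : Matrix.SpecialLinearGroup (Fin 2) F →* Γ, ∀ g, ρ (Φ g) = block h g := by
  have htop : ∀ g, ∃ x : Γ, ρ x = block h g := by
    intro g
    have hg : g ∈ Subgroup.closure (Set.range (Matrix.TransvectionStruct.toSpecialLinearGroup :
        Matrix.TransvectionStruct (Fin 2) F → Matrix.SpecialLinearGroup (Fin 2) F)) := by
      rw [Classical.SL_closure_transvections]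
      exact Subgroup.mem_top g
    induction hg using Subgroup.closure_induction with
    | mem x hx =>
      obtain ⟨⟨i, j, hij, c⟩, rfl⟩ := hx
      fin_cases i <;> fin_cases j
      · exact absurd rfl hij
      · obtain ⟨x, hx⟩ := hρ.full p r h.left c
        refine ⟨x, ?_⟩
        rw [hx, block_upper h (by simp [Matrix.SpecialLinearGroup.transvection, Matrix.transvection])]
        simp [Matrix.SpecialLinearGroup.transvection, Matrix.transvection]
      · obtain ⟨x, hx⟩ := hρ.full s t h.right (-c)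
        refine ⟨x, ?_⟩
        rw [hx, block_lower h (by simp [Matrix.SpecialLinearGroup.transvection, Matrix.transvection])]
        simp [Matrix.SpecialLinearGroup.transvection, Matrix.transvection]
      · exact absurd rfl hij
    | one => exact ⟨1, by rw [map_one, map_one]⟩
    | mul a b _ _ ha hb =>
      obtain ⟨x, hx⟩ := ha
      obtain ⟨y, hy⟩ := hb
      exact ⟨x * y, by rw [map_mul, map_mul, hx, hy]⟩
    | inv a _ ha =>
      obtain ⟨x, hx⟩ := ha
      refine ⟨x⁻¹, ?_⟩
      calc ρ x⁻¹ = ρ x⁻¹ * (block h a * block h a⁻¹) := by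
            rw [← map_mul, mul_inv_cancel, map_one, mul_one]
        _ = _ := by rw [← mul_assoc, ← hx, ← map_mul, inv_mul_cancel, map_one, one_mul]
  choose f hf using htop
  exact ⟨MonoidHom.mk' f fun a b => hρ.inj (by rw [map_mul, hf, hf, hf, map_mul]), hf⟩

theorem root_ne_of_opp {p r s t : V} (h : Opp p r s t) : root ρ p r ≠ root ρ s t := by
  intro e
  obtain ⟨g, hg⟩ := hρ.full p r h.left 1
  have hg1 : g ∈ root ρ p r := (mem_root hρ h.left).2 ⟨_, hg⟩
  rw [e, mem_root_iff_fix hρ] at hg1
  have := hg1 s h.right.self_left h.right.orth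
  rw [hg, S_mulVec, show B s p = 1 by rw [B_comm, h.ps], show B s r = 0 by rw [B_comm, h.rs],
    one_smul, one_smul, zero_smul, sub_zero, add_eq_left] at this
  exact h.left.ne_right this

theorem rankOne_pair {p r s t : V} (h : Opp p r s t) :
    Cfsg.IsRankOnePair (root ρ p r) (root ρ s t) ∧
      Cfsg.IsPSL2PairOver F (root ρ p r) (root ρ s t) := by
  obtain ⟨Φ, hΦ⟩ := exists_block_hom hρ h
  have hinj : Function.Injective Φ := fun a b e =>
    block_injective h (by rw [← hΦ, ← hΦ, e])
  have hU : (Cfsg.upperUnipotentSL2 F).map Φ = root ρ p r := by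
    rw [Cfsg.upperUnipotentSL2, MonoidHom.map_closure]
    refine le_antisymm ((Subgroup.closure_le _).2 ?_) fun x hx => ?_
    · rintro _ ⟨g, hg, rfl⟩
      exact (mem_root hρ h.left).2 ⟨_, (hΦ g).trans (block_upper h hg)⟩
    · obtain ⟨c, hc⟩ := (mem_root hρ h.left).1 hx
      refine Subgroup.subset_closure ⟨(⟨!![1, c; 0, 1], by simp [Matrix.det_fin_two]⟩ :
        Matrix.SpecialLinearGroup (Fin 2) F), ⟨by simp, by simp, by simp⟩, hρ.inj ?_⟩
      refine ((hΦ _).trans (block_upper h ⟨by simp, by simp, by simp⟩)).trans ?_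
      rw [hc]
      simp
  have hL : (Cfsg.lowerUnipotentSL2 F).map Φ = root ρ s t := by
    rw [Cfsg.lowerUnipotentSL2, MonoidHom.map_closure]
    refine le_antisymm ((Subgroup.closure_le _).2 ?_) fun x hx => ?_
    · rintro _ ⟨g, hg, rfl⟩
      exact (mem_root hρ h.right).2 ⟨_, (hΦ g).trans (block_lower h hg)⟩
    · obtain ⟨c, hc⟩ := (mem_root hρ h.right).1 hx
      refine Subgroup.subset_closure ⟨(⟨!![1, 0; -c, 1], by simp [Matrix.det_fin_two]⟩ :
        Matrix.SpecialLinearGroup (Fin 2) F), ⟨by simp, by simp, by simp⟩, hρ.inj ?_⟩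
      refine ((hΦ _).trans (block_lower h ⟨by simp, by simp, by simp⟩)).trans ?_
      rw [hc]
      simp
  refine ⟨?_, Φ, ?_, ?_, hU, hL⟩
  · rw [← hU, ← hL]
    exact isRankOnePair_map Φ (Cfsg.RankOnePair_symm (Cfsg.Agent.S5016.result F).1.2)
      (by rw [hU, hL]; exact root_ne_of_opp hρ h)
  · rw [MonoidHom.range_eq_map, ← hU, ← hL, ← Subgroup.map_sup, sup_comm,
      (Cfsg.Agent.S5016.result F).1.1]
  · rw [(MonoidHom.ker_eq_bot_iff Φ).2 hinj]
    exact bot_le

/-- Non-degenerate pairing: a dual frame inside the second line. -/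
theorem exists_opp {p r a b : V} (h : Good p r) (h' : Good a b)
    (hdet : B a p * B b r - B b p * B a r ≠ 0) :
    ∃ s t, Opp p r s t ∧ root ρ s t = root ρ a b := by
  obtain ⟨D, hD⟩ : ∃ D, D = B a p * B b r - B b p * B a r := ⟨_, rfl⟩
  rw [← hD] at hdet
  obtain ⟨α, β, γ, δ, e1, e2, e3, e4, e5⟩ : ∃ α β γ δ : F,
      α * B a p + β * B b p = 1 ∧ α * B a r + β * B b r = 0 ∧
      γ * B a p + δ * B b p = 0 ∧ γ * B a r + δ * B b r = 1 ∧ α * δ - β * γ ≠ 0 := by
    refine ⟨B b r / D, -B a r / D, -B b p / D, B a p / D, ?_, ?_, ?_, ?_, ?_⟩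
    · field_simp
      rw [hD]; ring
    · field_simp
      ring
    · field_simp
      ring
    · field_simp
      rw [hD]; ring
    · rw [show B b r / D * (B a p / D) - -B a r / D * (-B b p / D) = D⁻¹ by
        field_simp; rw [hD]; ring]
      exact inv_ne_zero hdet
  refine ⟨α • a + β • b, γ • a + δ • b, ⟨h, ?_, ?_, ?_, ?_, ?_⟩, root_change hρ e5⟩
  · have hs : ∀ x y : F, Q (x • a + y • b) = 0 := fun x y => by
      rw [Q_add, Q_smul, Q_smul, h'.sing_left, h'.sing_right, B_smul_left, B_smul_right, h'.orth]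
      ring
    have hp1 : B (α • a + β • b) p = 1 := by rw [B_add_left, B_smul_left, B_smul_left, e1]
    have hp2 : B (γ • a + δ • b) p = 0 := by rw [B_add_left, B_smul_left, B_smul_left, e3]
    have hr2 : B (γ • a + δ • b) r = 1 := by rw [B_add_left, B_smul_left, B_smul_left, e4]
    refine ⟨fun e => (one_ne_zero : (1 : F) ≠ 0) (by rw [← hp1, e, B_zero_left]), fun c e => ?_, hs _ _, hs _ _, ?_⟩
    · have := congrArg (fun z => (B z p, B z r)) e
      simp only [B_smul_left, hp1, hp2, hr2, mul_one, Prod.mk.injEq] at this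
      rw [← this.1, zero_mul] at this
      exact one_ne_zero this.2
    · simp only [B_add_left, B_add_right, B_smul_left, B_smul_right, h'.orth, h'.orth',
        h'.self_left, h'.self_right]
      ring
  · rw [B_comm, B_add_left, B_smul_left, B_smul_left, e1]
  · rw [B_comm, B_add_left, B_smul_left, B_smul_left, e3]
  · rw [B_comm, B_add_left, B_smul_left, B_smul_left, e2]
  · rw [B_comm, B_add_left, B_smul_left, B_smul_left, e4]

theorem pair_cases_normal {p r a b : V} (h : Good p r) (h' : Good a b)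
    (hdet : B a p * B b r - B b p * B a r = 0) (hbr : B b r ≠ 0) :
    ⁅root ρ p r, root ρ a b⁆ = ⊥ ∨
      Cfsg.RootCommutatorCase (fam ρ) (root ρ p r) (root ρ a b) := by
  obtain ⟨γ, hγ⟩ : ∃ γ, γ = B b r := ⟨_, rfl⟩
  rw [← hγ] at hbr
  obtain ⟨u, hu⟩ : ∃ u, u = B b p := ⟨_, rfl⟩
  obtain ⟨w, hw⟩ : ∃ w, w = B a r := ⟨_, rfl⟩
  have h1 : Good ((1 : F) • p + (-u / γ) • r) ((0 : F) • p + (1 : F) • r) := by
    refine ⟨fun e => ?_, fun c e => ?_, ?_, by simp [h.sing_right], ?_⟩
    · refine h.symm.indep (u / γ) (sub_eq_zero.1 ?_)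
      rw [← e]; module
    · rcases eq_or_ne c 0 with rfl | hc
      · exact h.ne_right (by simpa using e)
      · refine h.indep (c / (1 + c * (u / γ))) ?_
        have he : (1 + c * (u / γ)) • r = c • p := by
          rw [← sub_eq_zero] at e ⊢
          rw [← e]; module
        have hne : 1 + c * (u / γ) ≠ 0 := fun e0 => by
          rw [e0, zero_smul, eq_comm, smul_eq_zero] at he
          exact h.ne (he.resolve_left hc)
        rw [← inv_smul_smul₀ hne r, he, smul_smul]
        congr 1
        field_simp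
    · rw [Q_add, Q_smul, Q_smul, h.sing_left, h.sing_right, B_smul_left, B_smul_right, h.orth]
      ring
    · simp only [B_add_left, B_add_right, B_smul_left, B_smul_right, h.orth, h.self_right]
      ring
  have h2 : Good ((1 : F) • a + (-w / γ) • b) ((0 : F) • a + (1 / γ) • b) := by
    refine ⟨fun e => ?_, fun c e => ?_, ?_, ?_, ?_⟩
    · refine h'.symm.indep (w / γ) (sub_eq_zero.1 ?_)
      rw [← e]; module
    · rcases eq_or_ne c 0 with rfl | hc
      · exact h'.ne_right ((smul_eq_zero_iff_right (one_div_ne_zero hbr)).1 (by simpa using e))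
      · refine h'.indep (c / (1 / γ + c * (w / γ))) ?_
        have he : (1 / γ + c * (w / γ)) • b = c • a := by
          rw [← sub_eq_zero] at e ⊢
          rw [← e]; module
        have hne : 1 / γ + c * (w / γ) ≠ 0 := fun e0 => by
          rw [e0, zero_smul, eq_comm, smul_eq_zero] at he
          exact h'.ne (he.resolve_left hc)
        rw [← inv_smul_smul₀ hne b, he, smul_smul]
        congr 1
        field_simp
    · rw [Q_add, Q_smul, Q_smul, h'.sing_left, h'.sing_right, B_smul_left, B_smul_right, h'.orth]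
      ring
    · rw [zero_smul, zero_add, Q_smul, h'.sing_right, mul_zero]
    · simp only [B_add_left, B_add_right, B_smul_left, B_smul_right, h'.orth, h'.self_right]
      ring
  obtain ⟨p', hp'⟩ : ∃ p', p' = (1 : F) • p + (-u / γ) • r := ⟨_, rfl⟩
  obtain ⟨r', hr'⟩ : ∃ r', r' = (0 : F) • p + (1 : F) • r := ⟨_, rfl⟩
  obtain ⟨a', ha'⟩ : ∃ a', a' = (1 : F) • a + (-w / γ) • b := ⟨_, rfl⟩
  obtain ⟨b', hb'⟩ : ∃ b', b' = (0 : F) • a + (1 / γ) • b := ⟨_, rfl⟩
  rw [← hp', ← hr'] at h1
  rw [← ha', ← hb'] at h2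
  have e1 : root ρ p' r' = root ρ p r := by
    rw [hp', hr']; exact root_change hρ (by simp)
  have e2 : root ρ a' b' = root ρ a b := by
    rw [ha', hb']; exact root_change hρ (by simp [hbr])
  have k1 : B a' p' = 0 := by
    rw [ha', hp']
    simp only [B_add_left, B_add_right, B_smul_left, B_smul_right, ← hγ, ← hu, ← hw]
    rw [← hγ, ← hu, ← hw] at hdet
    field_simp
    linear_combination hdet
  have k2 : B a' r' = 0 := by
    rw [ha', hr']
    simp only [B_add_left, B_add_right, B_smul_left, B_smul_right, ← hγ, ← hu, ← hw]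
    field_simp
    ring
  have k3 : B b' p' = 0 := by
    rw [hb', hp']
    simp only [B_add_left, B_add_right, B_smul_left, B_smul_right, ← hγ, ← hu, ← hw]
    field_simp
    ring
  have k4 : B b' r' = 1 := by
    rw [hb', hr']
    simp only [B_add_left, B_add_right, B_smul_left, B_smul_right, ← hγ, ← hu, ← hw]
    field_simp
    ring
  rw [← e1, ← e2]
  by_cases hl : ∃ l : F, a' = l • p'
  · obtain ⟨l, hl⟩ := hl
    exact Or.inl (commutator_eq_bot_of_dep hρ h1 h2 k1 k2 k3 k4 hl)
  · push Not at hl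
    exact Or.inr (rootCommutatorCase hρ h1 h2 k1 k2 k3 k4 hl)

/-- The trichotomy. -/
theorem pair_cases {p r a b : V} (h : Good p r) (h' : Good a b) :
    ⁅root ρ p r, root ρ a b⁆ = ⊥ ∨
      (Cfsg.IsRankOnePair (root ρ p r) (root ρ a b) ∧
        Cfsg.IsPSL2PairOver F (root ρ p r) (root ρ a b)) ∨
      Cfsg.RootCommutatorCase (fam ρ) (root ρ p r) (root ρ a b) := by
  by_cases hdet : B a p * B b r - B b p * B a r = 0
  · by_cases h1 : B b r = 0
    · by_cases h2 : B a r = 0
      · by_cases h3 : B b p = 0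
        · by_cases h4 : B a p = 0
          · exact Or.inl (commutator_eq_bot hρ h h' h4 h2 h3 h1)
          · rw [root_swap hρ p r, root_swap hρ a b]
            rcases pair_cases_normal hρ h.symm h'.symm (by linear_combination hdet) h4 with e | e
            exacts [Or.inl e, Or.inr (Or.inr e)]
        · rw [root_swap hρ p r]
          rcases pair_cases_normal hρ h.symm h' (by linear_combination -hdet) h3 with e | e
          exacts [Or.inl e, Or.inr (Or.inr e)]
      · rw [root_swap hρ a b]
        rcases pair_cases_normal hρ h h'.symm (by linear_combination -hdet) h2 with e | e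
        exacts [Or.inl e, Or.inr (Or.inr e)]
    · rcases pair_cases_normal hρ h h' hdet h1 with e | e
      exacts [Or.inl e, Or.inr (Or.inr e)]
  · obtain ⟨s, t, ho, e⟩ := exists_opp hρ h h' hdet
    rw [← e]
    exact Or.inr (Or.inl (rankOne_pair hρ ho))

theorem isKRootSubgroupSet (hgen : (⨆ A ∈ fam ρ, A) = ⊤) :
    Cfsg.IsKRootSubgroupSet F (fam ρ) := by
  have hS : Cfsg.IsRootSubgroupSet (fam ρ) := by
    refine ⟨?_, ?_, hgen, fun A hA g => conjBy_mem_fam hρ hA g, ?_⟩
    · rintro A ⟨p, r, h, rfl⟩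
      exact root_comm hρ h
    · rintro A ⟨p, r, h, rfl⟩
      exact root_ne_bot hρ h
    · rintro A ⟨p, r, h, rfl⟩ B ⟨a, b, h', rfl⟩
      rcases pair_cases hρ h h' with e | ⟨e, -⟩ | e
      exacts [Or.inl e, Or.inr (Or.inl e), Or.inr (Or.inr e)]
  refine ⟨hS, ?_⟩
  rintro A ⟨p, r, h, rfl⟩ B ⟨a, b, h', rfl⟩ hr
  rcases pair_cases hρ h h' with e | ⟨-, e⟩ | e
  · exact absurd e (RankOne.commutator_ne_bot hr (RankOne.self_mem _ _) (RankOne.right_mem hr)
      hr.ne)
  · exact e
  · exact absurd e (TV.not_rootCommutatorCase_of_rankOne hS ⟨a, b, h', rfl⟩ hr)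

end Cfsg.Agent.Fus.Siegel
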