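import Mathlib
import Cfsg.Agent.Lib.Fus.SiegelPairs

/-!
The graph of opposite singular lines of the hyperbolic space of dimension at least six is
connected.
-/

set_option autoImplicit false
set_option linter.unusedSectionVars false

namespace Cfsg.Agent.Fus.Siegel

open Matrix

variable {F : Type*} [Field F] {n : ℕ} {Γ : Type*} [Group Γ]
  {ρ : Γ →* Matrix (Fin n ⊕ Fin n) (Fin n ⊕ Fin n) F}

local notation "V" => (Fin n ⊕ Fin n → F)
local notation "Q" => Cfsg.quadFormPlus n F

/-- Reachable through opposite lines. -/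
abbrev Conn (ρ : Γ →* Matrix (Fin n ⊕ Fin n) (Fin n ⊕ Fin n) F) (A C : Subgroup Γ) : Prop :=
  Relation.ReflTransGen (Cfsg.FAdj (fam ρ)) A C

/-- Vectors of the first half. -/
def half (α : Fin n → F) : V := Sum.elim α 0

theorem Q_half (α : Fin n → F) : Q (half α) = 0 := by simp [Cfsg.quadFormPlus, half]

theorem B_half_half (α β : Fin n → F) : B (half α) (half β) = 0 := by simp [B_eq, half]

theorem half_ne_zero {α : Fin n → F} (h : α ≠ 0) : half α ≠ 0 := fun e =>
  h (funext fun i => congrFun e (.inl i))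

theorem exists_half_kill (hn : 3 ≤ n) (f g : (Fin n → F) →ₗ[F] F) :
    ∃ α : Fin n → F, α ≠ 0 ∧ f α = 0 ∧ g α = 0 := by
  obtain ⟨α, hα, hα0⟩ := Submodule.exists_mem_ne_zero_of_ne_bot
    (LinearMap.ker_ne_bot_of_finrank_lt (f := f.prod g) (by
      rw [Module.finrank_prod, Module.finrank_fin_fun, Module.finrank_self]
      omega))
  rw [LinearMap.mem_ker, LinearMap.prod_apply, Prod.ext_iff] at hα
  exact ⟨α, hα0, hα.1, hα.2⟩

/-- The pairing with a vector, on the first half. -/
def halfPair (p : V) : (Fin n → F) →ₗ[F] F where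
  toFun α := B (half α) p
  map_add' α β := by
    rw [show half (α + β) = half α + half β by funext i; cases i <;> simp [half], B_add_left]
  map_smul' c α := by
    rw [show half (c • α) = c • half α by funext i; cases i <;> simp [half], B_smul_left]
    rfl

variable (hρ : IsRep ρ)
include hρ

theorem mem_fam {p r : V} (h : Good p r) : root ρ p r ∈ fam ρ := ⟨p, r, h, rfl⟩

/-- Two lines of a singular plane have a common opposite line. -/
theorem conn_coplanar {p r s : V} (h : Good p r) (h' : Good p s) (hrs : B r s = 0) :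
    Conn ρ (root ρ p r) (root ρ p s) := by
  obtain ⟨x1, hx1, hx1'⟩ := exists_dual h.ne h.indep
  obtain ⟨x2, hx2, hx2'⟩ := exists_dual h'.ne h'.indep
  obtain ⟨x, hxp, hxr, hxs⟩ : ∃ x, B x p = 0 ∧ B x r ≠ 0 ∧ B x s ≠ 0 := by
    by_cases e1 : B x1 s = 0
    · by_cases e2 : B x2 r = 0
      · exact ⟨x1 + x2, by rw [B_add_left, hx1, hx2, add_zero],
          by rw [B_add_left, hx1', e2, add_zero]; exact one_ne_zero,
          by rw [B_add_left, hx2', e1, zero_add]; exact one_ne_zero⟩
      · exact ⟨x2, hx2, e2, by rw [hx2']; exact one_ne_zero⟩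
    · exact ⟨x1, hx1, by rw [hx1']; exact one_ne_zero, e1⟩
  obtain ⟨x', hx'⟩ : ∃ x', x' = (B x r)⁻¹ • x := ⟨_, rfl⟩
  obtain ⟨t, ht⟩ : ∃ t, t = x' - Q x' • r := ⟨_, rfl⟩
  have hx'r : B x' r = 1 := by rw [hx', B_smul_left, inv_mul_cancel₀ hxr]
  have htQ : Q t = 0 := ht ▸ exists_singular h.sing_right hx'r
  have htp : B t p = 0 := by
    rw [ht, B_sub_left, B_smul_left, hx', B_smul_left, hxp, h.orth']; ring
  have htr : B t r = 1 := by rw [ht, B_sub_left, B_smul_left, hx'r, h.self_right]; ring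
  have hts : B t s ≠ 0 := by
    rw [ht, B_sub_left, B_smul_left, hrs, mul_zero, sub_zero, hx', B_smul_left]
    exact mul_ne_zero (inv_ne_zero hxr) hxs
  have ht0 : t ≠ 0 := fun e => by rw [e, B_zero_left] at htr; exact zero_ne_one htr
  obtain ⟨y, hyt, hyp⟩ := exists_dual ht0 (r := p) (fun c e => by
    have := congrArg (fun z => B z r) e
    simp only [B_smul_left, h.orth, htr, mul_one] at this
    exact h.ne (by rw [e, ← this, zero_smul]))
  obtain ⟨p', hp'⟩ : ∃ p', p' = y - Q y • p := ⟨_, rfl⟩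
  have hp'Q : Q p' = 0 := hp' ▸ exists_singular h.sing_left hyp
  have hp't : B p' t = 0 := by
    rw [hp', B_sub_left, B_smul_left, hyt, B_comm p t, htp]; ring
  have hp'p : B p' p = 1 := by rw [hp', B_sub_left, B_smul_left, hyp, h.self_left]; ring
  have hk : Good p' t :=
    ⟨fun e => by rw [e, B_zero_left] at hp'p; exact zero_ne_one hp'p, fun c e => by
      have := congrArg (fun z => B z p) e
      simp only [B_smul_left, htp, hp'p, mul_one] at this
      exact ht0 (by rw [e, ← this, zero_smul]), hp'Q, htQ, hp't⟩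
  obtain ⟨s1, t1, o1, e1⟩ := exists_opp hρ h hk
    (by rw [hp'p, htr, htp, zero_mul, sub_zero, one_mul]; exact one_ne_zero)
  obtain ⟨s2, t2, o2, e2⟩ := exists_opp hρ h' hk
    (by rw [hp'p, htp, zero_mul, sub_zero, one_mul]; exact hts)
  have k1 : Cfsg.IsRankOnePair (root ρ p r) (root ρ p' t) := by
    rw [← e1]; exact (rankOne_pair hρ o1).1
  have k2 : Cfsg.IsRankOnePair (root ρ p s) (root ρ p' t) := by
    rw [← e2]; exact (rankOne_pair hρ o2).1
  exact (Relation.ReflTransGen.single ⟨mem_fam hρ h, mem_fam hρ hk, k1⟩).tail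
    ⟨mem_fam hρ hk, mem_fam hρ h', Cfsg.RankOnePair_symm k2⟩

theorem conn_symm {A C : Subgroup Γ} (h : Conn ρ A C) : Conn ρ C A := rtg_symm h

theorem conn_half (hn : 3 ≤ n) {p r : V} (h : Good p r) :
    ∃ α β : Fin n → F, Good (half α) (half β) ∧ Conn ρ (root ρ p r) (root ρ (half α) (half β)) := by
  obtain ⟨α, hα0, hαp, hαr⟩ := exists_half_kill hn (halfPair p) (halfPair r)
  replace hαp : B (half α) p = 0 := hαp
  replace hαr : B (half α) r = 0 := hαr
  have ha0 := half_ne_zero hα0
  -- a line through the chosen vector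
  obtain ⟨x, hx, hc⟩ : ∃ x, Good x (half α) ∧ Conn ρ (root ρ p r) (root ρ x (half α)) := by
    by_cases e : ∃ c : F, half α = c • p
    · obtain ⟨c, hc⟩ := e
      have hc0 : c ≠ 0 := fun e => ha0 (by rw [hc, e, zero_smul])
      refine ⟨r, ⟨h.ne_right, fun d e => h.symm.indep (d / c) ?_, h.sing_right, Q_half α,
        by rw [B_comm, hαr]⟩, ?_⟩
      · rw [← inv_smul_smul₀ hc0 p, ← hc, e, smul_smul, div_eq_inv_mul]
      · have e' : root ρ r (half α) = root ρ p r := by
          rw [root_swap hρ r, show half α = c • p + (0 : F) • r by rw [hc]; module]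
          nth_rw 2 [show r = (0 : F) • p + (1 : F) • r by module]
          exact root_change hρ (by simpa using hc0)
        rw [e']
    · push Not at e
      exact ⟨p, ⟨h.ne, e, h.sing_left, Q_half α, by rw [B_comm, hαp]⟩,
        conn_coplanar hρ h ⟨h.ne, e, h.sing_left, Q_half α, by rw [B_comm, hαp]⟩
          (by rw [B_comm, hαr])⟩
  obtain ⟨j, hj⟩ : ∃ j, α j ≠ 0 := Function.ne_iff.1 hα0
  obtain ⟨β, hβ0, hβx, hβj⟩ := exists_half_kill hn (halfPair x) (LinearMap.proj j)
  replace hβx : B (half β) x = 0 := hβx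
  replace hβj : β j = 0 := hβj
  have hab : Good (half α) (half β) := by
    refine ⟨ha0, fun c e => ?_, Q_half α, Q_half β, B_half_half α β⟩
    have := congrFun e (.inl j)
    simp only [half, Pi.smul_apply, Sum.elim_inl, hβj, smul_eq_mul] at this
    exact half_ne_zero hβ0 (by rw [e, (mul_eq_zero.1 this.symm).resolve_right hj, zero_smul])
  refine ⟨α, β, hab, hc.trans ?_⟩
  rw [root_swap hρ x]
  exact conn_coplanar hρ hx.symm hab (by rw [B_comm, hβx])

theorem conn_halves (hn : 3 ≤ n) {α β γ δ : Fin n → F} (h : Good (half α) (half β))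
    (h' : Good (half γ) (half δ)) :
    Conn ρ (root ρ (half α) (half β)) (root ρ (half γ) (half δ)) := by
  have key : ∀ α β γ δ : Fin n → F, Good (half α) (half β) → Good (half γ) (half δ) →
      (∀ c : F, half γ ≠ c • half α) →
      Conn ρ (root ρ (half α) (half β)) (root ρ (half γ) (half δ)) := by
    intro α β γ δ h h' hne
    have h1 : Good (half α) (half γ) := ⟨h.ne, hne, Q_half α, Q_half γ, B_half_half α γ⟩
    refine (conn_coplanar hρ h h1 (B_half_half β γ)).trans ?_
    rw [root_swap hρ (half α) (half γ)]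
    exact conn_coplanar hρ h1.symm h' (B_half_half α δ)
  by_cases e : ∃ c : F, half γ = c • half α
  · obtain ⟨c, hc⟩ := e
    rw [root_swap hρ (half α) (half β)]
    refine key β α γ δ h.symm h' fun d e => ?_
    have hc0 : c ≠ 0 := fun e0 => h'.ne (by rw [hc, e0, zero_smul])
    refine h.symm.indep (d / c) ?_
    rw [← inv_smul_smul₀ hc0 (half α), ← hc, e, smul_smul, div_eq_inv_mul]
  · push Not at e
    exact key α β γ δ h h' e

theorem connected (hn : 3 ≤ n) : Cfsg.IsConnectedFamily (Cfsg.FAdj (fam ρ)) (fam ρ) := by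
  rintro A ⟨p, r, h, rfl⟩ C ⟨a, b, h', rfl⟩
  obtain ⟨α, β, h1, c1⟩ := conn_half hρ hn h
  obtain ⟨γ, δ, h2, c2⟩ := conn_half hρ hn h'
  exact (c1.trans (conn_halves hρ hn h1 h2)).trans (conn_symm hρ c2)

end Cfsg.Agent.Fus.Siegel
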