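import Mathlib
import Cfsg.Agent.Lib.Fus.SiegelConnected

/-!
The Siegel transvection groups inside the isometry group and inside the group they generate.
-/

set_option autoImplicit false

namespace Cfsg.Agent.Fus.Siegel

open Matrix

variable (F : Type*) [Field F] (n : ℕ)

local notation "Iso" => Cfsg.isometryGroup F (Cfsg.quadFormPlus n F)
local notation "Mn" => Matrix (Fin n ⊕ Fin n) (Fin n ⊕ Fin n) F

/-- The matrix of an isometry. -/
def isoMat : Iso →* Mn := (Units.coeHom Mn).comp (Subgroup.subtype Iso)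

theorem isoMat_isRep : IsRep (isoMat F n) := by
  refine ⟨fun a b e => Subtype.ext (Units.ext e), fun g x => g.2 x x, fun p r h c => ?_⟩
  refine ⟨⟨⟨S p r c, S p r (-c), by rw [S_mul h, add_neg_cancel, S_zero],
    by rw [S_mul h, neg_add_cancel, S_zero]⟩, fun u _ => Q_S h c u⟩, rfl⟩

/-- The set of Siegel transvection groups, as stated. -/
def siegelSet : Set (Subgroup Iso) :=
  {A | ∃ p r : Fin n ⊕ Fin n → F, LinearIndependent F ![p, r] ∧ Cfsg.quadFormPlus n F p = 0 ∧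
    Cfsg.quadFormPlus n F r = 0 ∧ Cfsg.quadFormPlus n F (p + r) = 0 ∧
    A = Subgroup.closure {σ : Iso | ∀ v : Fin n ⊕ Fin n → F,
      Cfsg.quadFormPlus n F (v + p) - Cfsg.quadFormPlus n F v - Cfsg.quadFormPlus n F p = 0 →
      Cfsg.quadFormPlus n F (v + r) - Cfsg.quadFormPlus n F v - Cfsg.quadFormPlus n F r = 0 →
      ((σ : Matrix.GeneralLinearGroup (Fin n ⊕ Fin n) F) : Mn) *ᵥ v = v}}

theorem siegelSet_eq : siegelSet F n = fam (isoMat F n) := by
  have key : ∀ p r : Fin n ⊕ Fin n → F, Subgroup.closure {σ : Iso | ∀ v : Fin n ⊕ Fin n → F,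
      Cfsg.quadFormPlus n F (v + p) - Cfsg.quadFormPlus n F v - Cfsg.quadFormPlus n F p = 0 →
      Cfsg.quadFormPlus n F (v + r) - Cfsg.quadFormPlus n F v - Cfsg.quadFormPlus n F r = 0 →
      ((σ : Matrix.GeneralLinearGroup (Fin n ⊕ Fin n) F) : Mn) *ᵥ v = v} =
        root (isoMat F n) p r := by
    intro p r
    rw [root]
    congr 1
    ext σ
    refine forall_congr' fun v => ?_
    rw [polar_iff, polar_iff]
    rfl
  ext A
  constructor
  · rintro ⟨p, r, h1, h2, h3, h4, rfl⟩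
    exact ⟨p, r, (good_iff p r).2 ⟨h1, h2, h3, h4⟩, key p r⟩
  · rintro ⟨p, r, h, rfl⟩
    obtain ⟨h1, h2, h3, h4⟩ := (good_iff p r).1 h
    exact ⟨p, r, h1, h2, h3, h4, (key p r).symm⟩

/-- The matrices of the group generated. -/
def genMat : ↥(⨆ A ∈ fam (isoMat F n), A) →* Mn :=
  (isoMat F n).comp (Subgroup.subtype _)

theorem genMat_isRep : IsRep (genMat F n) := by
  have h0 := isoMat_isRep F n
  refine ⟨fun a b e => Subtype.ext (h0.inj e), fun g x => h0.iso g.1 x, fun p r h c => ?_⟩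
  obtain ⟨g, hg⟩ := h0.full p r h c
  exact ⟨⟨g, le_iSup₂ (f := fun A (_ : A ∈ fam (isoMat F n)) => A) _ ⟨p, r, h, rfl⟩
    ((mem_root h0 h).2 ⟨c, hg⟩)⟩, hg⟩

theorem fam_genMat : fam (genMat F n) =
    (fun A : Subgroup Iso => A.subgroupOf (⨆ A ∈ fam (isoMat F n), A)) '' fam (isoMat F n) := by
  have key : ∀ p r, root (genMat F n) p r =
      (root (isoMat F n) p r).subgroupOf (⨆ A ∈ fam (isoMat F n), A) := by
    intro p r
    ext g
    rw [Subgroup.mem_subgroupOf, mem_root_iff_fix (genMat_isRep F n),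
      mem_root_iff_fix (isoMat_isRep F n)]
    rfl
  ext A
  constructor
  · rintro ⟨p, r, h, rfl⟩
    exact ⟨_, ⟨p, r, h, rfl⟩, (key p r).symm⟩
  · rintro ⟨_, ⟨p, r, h, rfl⟩, rfl⟩
    exact ⟨p, r, h, (key p r).symm⟩

theorem generates_genMat : (⨆ A ∈ fam (genMat F n), A) = ⊤ := by
  refine Subgroup.map_injective (⨆ A ∈ fam (isoMat F n), A).subtype_injective ?_
  rw [← MonoidHom.range_eq_map, Subgroup.range_subtype, Subgroup.map_iSup]
  refine le_antisymm (iSup_le fun A => ?_) (iSup₂_le fun B hB => ?_)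
  · rw [Subgroup.map_iSup]
    exact iSup_le fun hA => Subgroup.map_subtype_le _
  · refine le_iSup_of_le (B.subgroupOf (⨆ A ∈ fam (isoMat F n), A)) ?_
    rw [Subgroup.map_iSup]
    refine le_iSup_of_le (fam_genMat F n ▸ ⟨B, hB, rfl⟩) ?_
    rw [Subgroup.subgroupOf_map_subtype]
    exact le_inf le_rfl (le_iSup₂ (f := fun B (_ : B ∈ fam (isoMat F n)) => B) B hB)

theorem main (hn : 3 ≤ n) :
    Cfsg.IsKRootSubgroupSet F
      ((fun A : Subgroup Iso => A.subgroupOf (⨆ B ∈ siegelSet F n, B)) '' siegelSet F n) ∧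
    Cfsg.IsConnectedFamily (Cfsg.FAdj (siegelSet F n)) (siegelSet F n) := by
  rw [siegelSet_eq]
  refine ⟨?_, connected (isoMat_isRep F n) hn⟩
  rw [← fam_genMat]
  exact isKRootSubgroupSet (genMat_isRep F n) (generates_genMat F n)

end Cfsg.Agent.Fus.Siegel
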