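import Cfsg.Agent.Lib.Fus.SimpleCriterion

/-!
Simplicity of the fusion system of a quotient by a central subgroup of order prime to `p`, phrased
with data in the covering group, for a Sylow subgroup with `p`-group automiser.
-/

set_option autoImplicit false
set_option linter.style.haveILetI false

open scoped Classical

namespace Cfsg.Agent.Fus

variable {H G : Type*} [Group H] [Group G] {p : ℕ} [Fact p.Prime]

/-- A `p`-subgroup containing all `p`-elements normalizing it is maximal. -/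
theorem eq_of_normalizing_mem [Finite H] {P X : Subgroup H} (hX : IsPGroup p X) (hPX : P ≤ X)
    (hmax : ∀ g : H, (∃ k : ℕ, g ^ p ^ k = 1) → (∀ u ∈ P, g * u * g⁻¹ ∈ P) → g ∈ P) : X = P := by
  by_contra hne
  haveI : Group.IsNilpotent X := hX.isNilpotent
  have hlt : P.subgroupOf X < ⊤ := lt_top_iff_ne_top.2 fun h =>
    hne (le_antisymm (Subgroup.subgroupOf_eq_top.1 h) hPX)
  obtain ⟨⟨g, hgX⟩, hgN, hg⟩ := SetLike.exists_of_lt
    (Group.normalizerCondition_of_isNilpotent (P.subgroupOf X) hlt)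
  refine hg (hmax g ?_ fun u hu => ?_)
  · obtain ⟨k, hk⟩ := hX ⟨g, hgX⟩
    exact ⟨k, by simpa using congrArg Subtype.val hk⟩
  · exact (Subgroup.mem_normalizer_iff.1 hgN ⟨u, hPX hu⟩).1 hu

/-- The fusion system of `θ(H)` is simple, from data on a maximal `p`-subgroup of `H`. -/
theorem isSimple_of_central_quotient [Finite H] [Finite G] (θ : H →* G)
    (hθ : Function.Surjective θ) {m : ℕ} (hm : m.Coprime p)
    (hker : ∀ s, θ s = 1 → s ∈ Subgroup.center H ∧ s ^ m = 1)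
    (P : Subgroup H) (hP : IsPGroup p P) (hP1 : P ≠ ⊥)
    (hmax : ∀ g : H, (∃ k : ℕ, g ^ p ^ k = 1) → (∀ u ∈ P, g * u * g⁻¹ ∈ P) → g ∈ P)
    (ha : ∀ T : Subgroup H, T ≤ P → T ≠ ⊥ →
      (∀ g : H, ∀ x ∈ T, g * x * g⁻¹ ∈ P → g * x * g⁻¹ ∈ T) → P ≤ T)
    (hb : ∀ g : H, (∀ u ∈ P, g * u * g⁻¹ ∈ P) → ∃ k : ℕ, ∀ u ∈ P, g ^ p ^ k * u = u * g ^ p ^ k)
    (S : Sylow p G) : (groupFusionSystem (S : Subgroup G)).IsSimple p := by
  let PS : Sylow p H := ⟨P, hP, fun hX hle => eq_of_normalizing_mem hX hle hmax⟩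
  obtain ⟨a, ha'⟩ := MulAction.exists_smul_eq G (PS.mapSurjective hθ) S
  obtain ⟨ψ, hψ⟩ : ∃ ψ : H →* G, ψ = (MulAut.conj a).toMonoidHom.comp θ := ⟨_, rfl⟩
  have hψs : Function.Surjective ψ := hψ ▸ (MulAut.conj a).surjective.comp hθ
  have hψk : ∀ s, ψ s = 1 → s ∈ Subgroup.center H ∧ s ^ m = 1 := fun s hs => hker s (by
    rw [hψ] at hs
    exact (MulAut.conj a).injective (hs.trans (map_one _).symm))
  have hS : (S : Subgroup G) = P.map ψ := by
    rw [hψ, ← Subgroup.map_map, ← ha']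
    rfl
  have hinj : ∀ s t : H, (∃ k : ℕ, s ^ p ^ k = 1) → (∃ k : ℕ, t ^ p ^ k = 1) → ψ s = ψ t → s = t := by
    rintro s t ⟨i, hi⟩ ⟨j, hj⟩ hst
    obtain ⟨hc, hcm⟩ := hψk (t⁻¹ * s) (by rw [map_mul, map_inv, hst, inv_mul_cancel])
    have hcomm : Commute t (t⁻¹ * s) := (Subgroup.mem_center_iff.1 hc t)
    have h1 : (t⁻¹ * s) ^ p ^ (i + j) = 1 := by
      have h2 := hcomm.mul_pow (p ^ (i + j))
      rw [mul_inv_cancel_left] at h2
      rw [show s ^ p ^ (i + j) = 1 by rw [pow_add, pow_mul, hi, one_pow],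
        show t ^ p ^ (i + j) = 1 by rw [add_comm, pow_add, pow_mul, hj, one_pow], one_mul] at h2
      exact h2.symm
    have h3 := pow_gcd_eq_one.2 ⟨hcm, h1⟩
    rw [(Nat.Coprime.pow_right _ hm).gcd_eq_one, pow_one, inv_mul_eq_one] at h3
    exact h3.symm
  have hpow : ∀ u ∈ P, ∃ k : ℕ, u ^ p ^ k = 1 := fun u hu => by
    obtain ⟨k, hk⟩ := hP ⟨u, hu⟩
    exact ⟨k, by simpa using congrArg Subtype.val hk⟩
  refine isSimple_group_of' S ?_ ?_ ?_
  · rw [hS]
    intro hbot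
    refine hP1 ((Subgroup.eq_bot_iff_forall _).2 fun u hu =>
      hinj u 1 (hpow u hu) ⟨0, one_pow _⟩ ?_)
    rw [map_one, ← Subgroup.mem_bot, ← hbot]
    exact ⟨u, hu, rfl⟩
  · intro T hTS hT _ hTc
    have hle : P ≤ T.comap ψ ⊓ P := by
      refine ha _ inf_le_right (fun h => hT ?_) fun g x hx hgx => ⟨?_, hgx⟩
      · refine (Subgroup.eq_bot_iff_forall _).2 fun y hy => ?_
        obtain ⟨u, hu, rfl⟩ : ∃ u ∈ P, ψ u = y := by
          have := hTS hy
          rw [hS] at this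
          exact this
        rw [show u = 1 from Subgroup.mem_bot.1 (h ▸ ⟨hy, hu⟩), map_one]
      · show ψ (g * x * g⁻¹) ∈ T
        rw [map_mul, map_mul, map_inv]
        refine hTc _ _ hx.1 ?_
        rw [hS, ← map_inv, ← map_mul, ← map_mul]
        exact ⟨_, hgx, rfl⟩
    rw [hS]
    exact Subgroup.map_le_iff_le_comap.2 (hle.trans inf_le_left)
  · intro x hx
    obtain ⟨g, rfl⟩ := hψs x
    have hgP : ∀ u ∈ P, g * u * g⁻¹ ∈ P := by
      intro u hu
      have h1 : ψ g * ψ u * (ψ g)⁻¹ ∈ (S : Subgroup G) :=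
        (Subgroup.mem_normalizer_iff.1 hx (ψ u)).1 (by rw [hS]; exact ⟨u, hu, rfl⟩)
      rw [hS] at h1
      obtain ⟨v, hv, hve⟩ := h1
      obtain ⟨k, hk⟩ := hpow u hu
      rwa [hinj (g * u * g⁻¹) v ⟨k, by rw [conj_pow, hk, mul_one, mul_inv_cancel]⟩ (hpow v hv)
        (by rw [hve, map_mul, map_mul, map_inv])]
    obtain ⟨k, hk⟩ := hb g hgP
    obtain ⟨j, r, hr, hn⟩ := Nat.exists_eq_pow_mul_and_not_dvd (orderOf_pos (ψ g)).ne' p
      (Fact.out : p.Prime).ne_one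
    have hC : ψ g ^ p ^ k ∈ Subgroup.centralizer ((S : Subgroup G) : Set G) := by
      refine Subgroup.mem_centralizer_iff.2 fun y hy => ?_
      rw [hS] at hy
      obtain ⟨u, hu, rfl⟩ := hy
      rw [← map_pow, ← map_mul, ← map_mul, hk u hu]
    have hgr : (ψ g ^ r) ^ p ^ j = 1 := by
      rw [← pow_mul, mul_comm r, ← hn, pow_orderOf_eq_one]
    have hS' : ψ g ^ r ∈ (S : Subgroup G) := by
      have hN : ψ g ^ r ∈ Subgroup.normalizer ((S : Subgroup G) : Set G) := pow_mem hx r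
      have hZ : IsPGroup p (Subgroup.zpowers (ψ g ^ r)) := by
        obtain ⟨i, -, hi⟩ := (Nat.dvd_prime_pow Fact.out).1 (orderOf_dvd_of_pow_eq_one hgr)
        exact IsPGroup.of_card (n := i) ((Nat.card_zpowers _).trans hi)
      have hsup := IsPGroup.to_sup_of_normal_left' S.2 hZ (Subgroup.zpowers_le.2 hN)
      exact (S.3 hsup le_sup_left).le (SetLike.le_def.1 le_sup_right (Subgroup.mem_zpowers _))
    have hco : Nat.Coprime (p ^ k) r := ((Fact.out : p.Prime).coprime_iff_not_dvd.2 hr).pow_left k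
    have h1 : ψ g = (ψ g ^ p ^ k) ^ (Nat.gcdA (p ^ k) r) * (ψ g ^ r) ^ (Nat.gcdB (p ^ k) r) := by
      have hb := Nat.gcd_eq_gcd_ab (p ^ k) r
      rw [hco.gcd_eq_one] at hb
      rw [← zpow_natCast _ (p ^ k), ← zpow_natCast _ r, ← zpow_mul, ← zpow_mul, ← zpow_add, ← hb,
        Nat.cast_one, zpow_one]
    obtain ⟨C, hCdef⟩ : ∃ C, C = Subgroup.closure (simpleGenSet S ∪
        (Subgroup.centralizer ((S : Subgroup G) : Set G) : Set G)) := ⟨_, rfl⟩
    have c1 : ψ g ^ p ^ k ∈ C := hCdef ▸ Subgroup.subset_closure (Or.inr hC)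
    have c2 : ψ g ^ r ∈ C := hCdef ▸ Subgroup.subset_closure (Or.inl ⟨pow_mem hx r, Or.inl hS'⟩)
    have key := Subgroup.mul_mem _ (Subgroup.zpow_mem _ c1 (Nat.gcdA (p ^ k) r))
      (Subgroup.zpow_mem _ c2 (Nat.gcdB (p ^ k) r))
    rw [← h1] at key
    exact hCdef ▸ key

end Cfsg.Agent.Fus
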