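import Mathlib

/-!
Intersections of two conjugate Singer groups.
-/

set_option autoImplicit false

namespace Cfsg.Agent.Fus.SingerIntersect

variable {F K : Type*} [Field F] [Fintype F] [Field K] [Fintype K] [Algebra F K]

local notation "Φ" => Units.map ((Algebra.lmul F K : K →ₐ[F] Module.End F K) : K →* Module.End F K)

theorem main (n : ℕ) (hdim : Module.finrank F K = n) (g : (Module.End F K)ˣ)
    (hg : (Φ).range.map (MulAut.conj g).toMonoidHom ≠ (Φ).range) :
    ∃ r : ℕ, 1 ≤ r ∧ r ∣ n ∧ r < n ∧
      Nat.card ↥((Φ).range.map (MulAut.conj g).toMonoidHom ⊓ (Φ).range) ∣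
        Fintype.card F ^ r - 1 := by
  classical
  let lm : K →ₐ[F] Module.End F K := Algebra.lmul F K
  have hlinj : Function.Injective lm := fun a b e => by simpa [lm] using LinearMap.congr_fun e 1
  have hΦ : Function.Injective Φ := fun a b e => Units.ext (hlinj (congrArg Units.val e))
  let cj : Module.End F K →ₐ[F] Module.End F K :=
    { toFun := fun x => (g : Module.End F K) * x * ((g⁻¹ : (Module.End F K)ˣ) : Module.End F K)
      map_one' := by simp
      map_mul' := fun x y => by simp [mul_assoc]
      map_zero' := by simp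
      map_add' := fun x y => by simp [mul_add, add_mul]
      commutes' := fun c => by
        rw [← Algebra.commutes c, mul_assoc, Units.mul_inv, mul_one] }
  let S : Subalgebra F K := ((cj.comp lm).range).comap lm
  have hmem : ∀ u : Kˣ, (u : K) ∈ S ↔ Φ u ∈ (Φ).range.map (MulAut.conj g).toMonoidHom := by
    intro u
    constructor
    · rintro ⟨y, hy⟩
      have hy0 : y ≠ 0 := fun e => u.ne_zero (hlinj (by
        rw [← show cj (lm y) = lm u from hy, e, map_zero, map_zero]))
      exact ⟨Φ (Units.mk0 y hy0), ⟨_, rfl⟩, Units.ext hy⟩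
    · rintro ⟨_, ⟨y, rfl⟩, hy⟩
      exact ⟨(y : K), congrArg Units.val hy⟩
  let L : IntermediateField F K := S.toIntermediateField fun x hx => by
    rcases eq_or_ne x 0 with rfl | hx0
    · rw [inv_zero]; exact S.zero_mem
    have h1 := (hmem (Units.mk0 x hx0)).1 hx
    have h2 := (hmem (Units.mk0 x hx0)⁻¹).2 (by rw [map_inv]; exact inv_mem h1)
    simpa using h2
  have hcard : Nat.card L = Fintype.card F ^ Module.finrank F L := by
    rw [Module.natCard_eq_pow_finrank (K := F) (V := L), Nat.card_eq_fintype_card]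
  refine ⟨Module.finrank F L, Module.finrank_pos, ?_, ?_, ?_⟩
  · exact ⟨Module.finrank L K, by rw [Module.finrank_mul_finrank, hdim]⟩
  · rw [← hdim]
    refine lt_of_le_of_ne (Submodule.finrank_le L.toSubalgebra.toSubmodule) fun e => hg ?_
    have htop : ∀ x : K, x ∈ S := fun x => by
      have : L.toSubalgebra.toSubmodule = ⊤ := Submodule.eq_top_of_finrank_eq e
      exact (Submodule.eq_top_iff'.1 this x : x ∈ L.toSubalgebra.toSubmodule)
    refine le_antisymm ?_ ?_
    · have hle : (Φ).range ≤ (Φ).range.map (MulAut.conj g).toMonoidHom := by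
        rintro _ ⟨u, rfl⟩
        exact (hmem u).1 (htop u)
      haveI : Finite (Module.End F K) := Module.finite_of_finite F
      haveI : Finite (Module.End F K)ˣ := inferInstance
      refine (Subgroup.eq_of_le_of_card_ge hle ?_).ge
      exact (Subgroup.card_map_of_injective (MulAut.conj g).injective).le
    · rintro _ ⟨u, rfl⟩
      exact (hmem u).1 (htop u)
  · refine dvd_of_eq ?_
    rw [← hcard]
    let T : Finset L := Finset.univ.erase 0
    have hT : T.card = Nat.card L - 1 := by
      rw [Finset.card_erase_of_mem (Finset.mem_univ _), Finset.card_univ, Nat.card_eq_fintype_card]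
    rw [← hT, ← Nat.card_eq_finsetCard T]
    symm
    refine Nat.card_congr (Equiv.ofBijective
      (fun x : T => ⟨Φ (Units.mk0 ((x : L) : K) fun e =>
        (Finset.mem_erase.1 x.2).1 (Subtype.ext e)),
        (hmem _).1 (x : L).2, ⟨_, rfl⟩⟩) ⟨?_, ?_⟩)
    · intro a b e
      exact Subtype.ext (Subtype.ext (congrArg Units.val (hΦ (congrArg Subtype.val e))))
    · rintro ⟨_, h1, u, rfl⟩
      exact ⟨⟨⟨(u : K), (hmem u).2 h1⟩, Finset.mem_erase.2
        ⟨fun e => u.ne_zero (congrArg Subtype.val e), Finset.mem_univ _⟩⟩,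
        Subtype.ext (Units.ext rfl)⟩

end Cfsg.Agent.Fus.SingerIntersect
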