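import Cfsg.Agent.Lib.Invol.SixtyFourSplit
import Cfsg.Agent.Lib.Fus.OrderEight

/-!
# Groups of order 64 with an inverted fixed-point-free automorphism of order three

A nonabelian group `T` of order 64 with automorphisms `ψ` of order three, fixing only the identity,
and an involution `τ` inverting `ψ` is generated modulo its centre by two involutions and their
images under `ψ`, and the fixed points of `τ` form a nonabelian group of order eight.
-/

set_option autoImplicit false
set_option linter.style.haveILetI false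
set_option linter.unusedSectionVars false

namespace Cfsg.Agent.Fus.SixtyFourInvert

open Cfsg.Agent.Invol Cfsg.Agent.Invol.FpfThree Cfsg.Agent.Invol.SixtyFour

variable {T : Type*} [Group T] [Finite T]

/-- The hypotheses. -/
structure Hyp (ψ τ : MulAut T) : Prop where
  card : Nat.card T = 64
  na : ¬ IsMulCommutative T
  fpf : Fpf ψ
  invol : ∀ y, τ (τ y) = y
  anti : ∀ y, τ (ψ y) = ψ (ψ (τ y))

variable {ψ τ : MulAut T} (h : Hyp ψ τ)

theorem map_center (φ : MulAut T) {z : T} (hz : z ∈ Subgroup.center T) : φ z ∈ Subgroup.center T := by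
  refine Subgroup.mem_center_iff.mpr fun g => ?_
  obtain ⟨g, rfl⟩ := φ.surjective g
  rw [← map_mul, ← map_mul, Subgroup.mem_center_iff.mp hz g]

omit [Finite T] in
theorem center_right_comm {z : T} (hz : z ∈ Subgroup.center T) (a b : T) : a * z * b = a * b * z := by
  rw [mul_assoc, ← Subgroup.mem_center_iff.mp hz b, ← mul_assoc]

include h

theorem pgroup : IsPGroup 2 T := IsPGroup.of_card (n := 6) (by rw [h.card]; norm_num)

theorem comm_center (a b : T) : c a b ∈ Subgroup.center T := h.fpf.comm_center (pgroup h) a b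

theorem not_all_comm : ¬ ∀ a b : T, a * b = b * a := fun hc => h.na ⟨⟨hc⟩⟩

/-- `ψ` fixes no coset of the centre but the trivial one. -/
theorem fpf_quot {t : T} (ht : t⁻¹ * ψ t ∈ Subgroup.center T) : t ∈ Subgroup.center T := by
  have hinj : Function.Injective fun a : Subgroup.center T =>
      (⟨(a : T)⁻¹ * ψ a, mul_mem (inv_mem a.2) (map_center ψ a.2)⟩ : Subgroup.center T) := by
    intro a b hab
    have h0 : (a : T)⁻¹ * ψ a = (b : T)⁻¹ * ψ b := congrArg Subtype.val hab
    refine Subtype.ext (mul_inv_eq_one.mp (h.fpf.fix _ ?_))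
    rw [map_mul, map_inv, show ψ (a : T) = (a : T) * ((a : T)⁻¹ * ψ a) by group, h0]
    group
  obtain ⟨a, ha⟩ := (Finite.injective_iff_surjective.mp hinj) ⟨_, ht⟩
  have h0 : (a : T)⁻¹ * ψ a = t⁻¹ * ψ t := congrArg Subtype.val ha
  have h1 : ψ (t * (a : T)⁻¹) = t * (a : T)⁻¹ := by
    rw [map_mul, map_inv, show ψ t = t * (t⁻¹ * ψ t) by group, ← h0]
    group
  rw [mul_inv_eq_one.mp (h.fpf.fix _ h1)]
  exact a.2

theorem card_center : Nat.card (Subgroup.center T) = 4 := by
  classical
  haveI : Fact (Nat.Prime 2) := ⟨Nat.prime_two⟩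
  haveI : Fact (Nat.Prime 3) := ⟨Nat.prime_three⟩
  set Z := Subgroup.center T
  haveI : Nontrivial T := by
    rw [← Finite.one_lt_card_iff_nontrivial, h.card]; norm_num
  haveI : Nontrivial Z := (pgroup h).center_nontrivial
  haveI := Fintype.ofFinite Z
  let p : Equiv.Perm Z :=
    { toFun := fun a => ⟨ψ a, map_center ψ a.2⟩
      invFun := fun a => ⟨ψ (ψ a), map_center ψ (map_center ψ a.2)⟩
      left_inv := fun a => Subtype.ext (h.fpf.three a)
      right_inv := fun a => Subtype.ext (h.fpf.three a) }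
  have hp : p ^ 3 ^ 1 = 1 := by
    refine Equiv.ext fun a => Subtype.ext ?_
    show ψ (ψ (ψ (a : T))) = a
    exact h.fpf.three a
  have h3 := Equiv.Perm.card_compl_support_modEq (p := 3) (n := 1) (σ := p) hp
  have hs : p.supportᶜ = {1} := by
    ext a
    simp only [Finset.mem_compl, Equiv.Perm.mem_support, not_not, Finset.mem_singleton]
    refine ⟨fun ha => Subtype.ext (h.fpf.fix _ (congrArg Subtype.val ha)), ?_⟩
    rintro rfl
    exact Subtype.ext (map_one ψ)
  rw [hs, Finset.card_singleton, ← Nat.card_eq_fintype_card, Nat.ModEq] at h3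
  have hlt : 1 < Nat.card Z := Finite.one_lt_card
  have hne : Nat.card Z ≠ 64 := fun e => not_all_comm h fun a b =>
    Subgroup.mem_center_iff.mp (show b ∈ Z by
      rw [Subgroup.eq_top_of_card_eq Z (e.trans h.card.symm)]; exact Subgroup.mem_top b) a
  have hne16 : Nat.card Z ≠ 16 := by
    intro e
    have hidx : Nat.card (T ⧸ Z) = 4 := by
      have := Z.card_eq_card_quotient_mul_card_subgroup
      rw [e, h.card] at this; omega
    obtain ⟨u, hu⟩ : ∃ u, u ∉ Z := by
      by_contra hall
      push Not at hall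
      exact not_all_comm h fun a b => Subgroup.mem_center_iff.mp (hall b) a
    have hne1 : ∀ t, t ∉ Z → (t : T ⧸ Z) ≠ (ψ t : T) := fun t ht e1 =>
      ht (fpf_quot h (QuotientGroup.eq.mp e1))
    have hψu : ψ u ∉ Z := fun hm => hu (by simpa [h.fpf.three] using map_center ψ (map_center ψ hm))
    have hψψu : ψ (ψ u) ∉ Z := fun hm => hu (by simpa [h.fpf.three] using map_center ψ hm)
    have hone : ∀ t : T, t ∉ Z → ((1 : T) : T ⧸ Z) ≠ (t : T ⧸ Z) := fun t ht e1 =>
      ht (by simpa using QuotientGroup.eq.mp e1)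
    have huniv : ({((1 : T) : T ⧸ Z), (u : T ⧸ Z), ((ψ u : T) : T ⧸ Z), ((ψ (ψ u) : T) : T ⧸ Z)} : Finset (T ⧸ Z)) =
        @Finset.univ _ (Fintype.ofFinite _) := by
      letI := Fintype.ofFinite (T ⧸ Z)
      refine Finset.eq_univ_of_card _ ?_
      rw [← Nat.card_eq_fintype_card, hidx, Finset.card_eq_of_equiv_fin (n := 4)]
      refine (Equiv.ofBijective (fun i : Fin 4 => (⟨![((1 : T) : T ⧸ Z), (u : T ⧸ Z),
        ((ψ u : T) : T ⧸ Z), ((ψ (ψ u) : T) : T ⧸ Z)] i, by fin_cases i <;> simp⟩ :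
          {q // q ∈ ({((1 : T) : T ⧸ Z), (u : T ⧸ Z), ((ψ u : T) : T ⧸ Z), ((ψ (ψ u) : T) : T ⧸ Z)} : Finset (T ⧸ Z))}))
        ⟨?_, ?_⟩).symm
      · intro i j hij
        have h1 := congrArg Subtype.val hij
        have e3 : ((ψ (ψ u) : T) : T ⧸ Z) ≠ (u : T ⧸ Z) := by
          have := hne1 _ hψψu
          rwa [h.fpf.three] at this
        fin_cases i <;> fin_cases j <;>
          first
            | rfl
            | exact absurd h1 (hone u hu)
            | exact absurd h1.symm (hone u hu)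
            | exact absurd h1 (hone _ hψu)
            | exact absurd h1.symm (hone _ hψu)
            | exact absurd h1 (hone _ hψψu)
            | exact absurd h1.symm (hone _ hψψu)
            | exact absurd h1 (hne1 u hu)
            | exact absurd h1.symm (hne1 u hu)
            | exact absurd h1 (hne1 _ hψu)
            | exact absurd h1.symm (hne1 _ hψu)
            | exact absurd h1 e3
            | exact absurd h1.symm e3
      · rintro ⟨q, hq⟩
        simp only [Finset.mem_insert, Finset.mem_singleton] at hq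
        rcases hq with rfl | rfl | rfl | rfl
        · exact ⟨0, rfl⟩
        · exact ⟨1, rfl⟩
        · exact ⟨2, rfl⟩
        · exact ⟨3, rfl⟩
    have hrep : ∀ g : T, ∃ r z : T, z ∈ Z ∧ g = r * z ∧ (r = 1 ∨ r = u ∨ r = ψ u ∨ r = ψ (ψ u)) := by
      intro g
      have hg : (g : T ⧸ Z) ∈ @Finset.univ _ (Fintype.ofFinite _) := @Finset.mem_univ _ (Fintype.ofFinite _) _
      rw [← huniv] at hg
      simp only [Finset.mem_insert, Finset.mem_singleton] at hg
      rcases hg with e1 | e1 | e1 | e1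
      · exact ⟨1, g, by simpa using QuotientGroup.eq.mp e1.symm, by simp, Or.inl rfl⟩
      · exact ⟨u, u⁻¹ * g, QuotientGroup.eq.mp e1.symm, by group, Or.inr (Or.inl rfl)⟩
      · exact ⟨ψ u, (ψ u)⁻¹ * g, QuotientGroup.eq.mp e1.symm, by group, Or.inr (Or.inr (Or.inl rfl))⟩
      · exact ⟨ψ (ψ u), (ψ (ψ u))⁻¹ * g, QuotientGroup.eq.mp e1.symm, by group, Or.inr (Or.inr (Or.inr rfl))⟩
    refine not_all_comm h fun a b => ?_
    obtain ⟨r, z, hz, rfl, hr⟩ := hrep a
    obtain ⟨s, w, hw, rfl, hs⟩ := hrep b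
    have k1 : Commute u (ψ u) := h.fpf.commute u
    have k2 : Commute (ψ u) (ψ (ψ u)) := h.fpf.commute _
    have k3 : Commute (ψ (ψ u)) u := by
      have := h.fpf.commute (ψ (ψ u)); rwa [h.fpf.three] at this
    have hrs : Commute r s := by
      rcases hr with rfl | rfl | rfl | rfl <;> rcases hs with rfl | rfl | rfl | rfl <;>
        first
          | exact Commute.one_left _
          | exact Commute.one_right _
          | exact Commute.refl _
          | exact k1
          | exact k1.symm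
          | exact k2
          | exact k2.symm
          | exact k3
          | exact k3.symm
    have hzc : ∀ y : T, Commute y z := fun y => Subgroup.mem_center_iff.mp hz y
    have hwc : ∀ y : T, Commute y w := fun y => Subgroup.mem_center_iff.mp hw y
    exact ((hrs.mul_right (hwc r)).mul_left ((hzc s).symm.mul_right (hwc z))).eq
  obtain ⟨j, hj⟩ := IsPGroup.iff_card.mp ((pgroup h).to_subgroup Z)
  have hle : Nat.card Z ≤ 64 := by rw [← h.card]; exact Subgroup.card_le_card_group Z
  rw [hj] at hne hne16 h3 hle hlt ⊢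
  have hj6 : j ≤ 6 := (Nat.pow_le_pow_iff_right one_lt_two).mp (le_of_le_of_eq hle (by norm_num))
  interval_cases j <;> simp_all

theorem center_sq {z : T} (hz : z ∈ Subgroup.center T) : z * z = 1 := by
  classical
  haveI : Fact (Nat.Prime 2) := ⟨Nat.prime_two⟩
  obtain ⟨w, hw⟩ := exists_prime_orderOf_dvd_card' (G := Subgroup.center T) 2 (by rw [card_center h]; norm_num)
  have hw2 : (w : T) * w = 1 := by
    have := congrArg Subtype.val (pow_orderOf_eq_one w)
    rw [hw] at this
    simpa [pow_two] using this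
  have hw1 : (w : T) ≠ 1 := by
    intro e
    rw [show w = 1 from Subtype.ext e, orderOf_one] at hw
    omega
  have hwψ : ψ (w : T) ≠ 1 := fun e => hw1 (ψ.injective (e.trans (map_one ψ).symm))
  have hwψψ : ψ (ψ (w : T)) ≠ 1 := fun e => hwψ (ψ.injective (e.trans (map_one ψ).symm))
  have d1 : ψ (w : T) ≠ w := fun e => hw1 (h.fpf.fix _ e)
  have d2 : ψ (ψ (w : T)) ≠ ψ (w : T) := fun e => hwψ (h.fpf.fix _ e)
  have d3 : ψ (ψ (w : T)) ≠ w := fun e => hw1 (h.fpf.flip.fix _ e)
  have hcard := card_center h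
  by_contra hz2
  have hz1 : z ≠ 1 := fun e => hz2 (by rw [e, one_mul])
  have n1 : z ≠ w := fun e => hz2 (e ▸ hw2)
  have n2 : z ≠ ψ w := fun e => hz2 (by rw [e, ← map_mul, hw2, map_one])
  have n3 : z ≠ ψ (ψ w) := fun e => hz2 (by rw [e, ← map_mul, ← map_mul, hw2, map_one, map_one])
  have hle : ({1, (w : T), ψ w, ψ (ψ w), z} : Finset T).card ≤ 4 := by
    have hmem : ∀ y ∈ ({1, (w : T), ψ w, ψ (ψ w), z} : Finset T), y ∈ Subgroup.center T := by
      intro y hy
      simp only [Finset.mem_insert, Finset.mem_singleton] at hy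
      rcases hy with rfl | rfl | rfl | rfl | rfl
      · exact one_mem _
      · exact w.2
      · exact map_center ψ w.2
      · exact map_center ψ (map_center ψ w.2)
      · exact hz
    rw [← hcard, ← Nat.card_eq_finsetCard]
    exact Nat.card_le_card_of_injective (fun y => (⟨y.1, hmem y.1 y.2⟩ : Subgroup.center T))
      fun y y' e => Subtype.ext (Subtype.mk.inj e)
  rw [Finset.card_insert_of_notMem, Finset.card_insert_of_notMem, Finset.card_insert_of_notMem,
    Finset.card_insert_of_notMem, Finset.card_singleton] at hle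
  · omega
  all_goals simp [hw1.symm, hwψ.symm, hwψψ.symm, hz1.symm, n1.symm, n2.symm, n3.symm, d1.symm, d2.symm, d3.symm]

theorem rot : NoSCN.Rot ψ (Subgroup.center T) := by
  have hsq : ∀ w ∈ Subgroup.center T, w * w = 1 := fun w hw => center_sq h hw
  refine ⟨fun w hw => map_center ψ hw, hsq, fun w hw => ?_, fun w _ => h.fpf.fix w, fun w hw hw1 v hv => ?_⟩
  · rw [h.fpf.two w, mul_inv_rev, inv_eq_of_mul_eq_one_right (hsq w hw),
      inv_eq_of_mul_eq_one_right (hsq _ (map_center ψ hw))]
    exact Subgroup.mem_center_iff.mp hw (ψ w)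
  · classical
    by_contra hno
    push Not at hno
    obtain ⟨hv1, hv2, hv3, hv4⟩ := hno
    have hwψ : ψ w ≠ 1 := fun e => hw1 (ψ.injective (e.trans (map_one ψ).symm))
    have hwψψ : ψ (ψ w) ≠ 1 := fun e => hwψ (ψ.injective (e.trans (map_one ψ).symm))
    have d1 : ψ w ≠ w := fun e => hw1 (h.fpf.fix _ e)
    have d2 : ψ (ψ w) ≠ ψ w := fun e => hwψ (h.fpf.fix _ e)
    have d3 : ψ (ψ w) ≠ w := fun e => hw1 (h.fpf.flip.fix _ e)
    have hcard := card_center h
    let f : Fin 5 → Subgroup.center T := ![1, ⟨w, hw⟩, ⟨ψ w, map_center ψ hw⟩,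
      ⟨ψ (ψ w), map_center ψ (map_center ψ hw)⟩, ⟨v, hv⟩]
    have hinj : Function.Injective f := by
      intro i j hij
      have h1 := congrArg Subtype.val hij
      fin_cases i <;> fin_cases j <;> simp [f] at h1 ⊢ <;>
        first
          | exact hw1 h1
          | exact hw1 h1.symm
          | exact hwψ h1
          | exact hwψ h1.symm
          | exact hwψψ h1
          | exact hwψψ h1.symm
          | exact d1 h1
          | exact d1 h1.symm
          | exact d2 h1
          | exact d2 h1.symm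
          | exact d3 h1
          | exact d3 h1.symm
          | exact hv1 h1
          | exact hv1 h1.symm
          | exact hv2 h1
          | exact hv2 h1.symm
          | exact hv3 h1
          | exact hv3 h1.symm
          | exact hv4 h1
          | exact hv4 h1.symm
    have := Nat.card_le_card_of_injective f hinj
    simp [hcard] at this

theorem c_sq (a t : T) : c a t * c a t = 1 := center_sq h (comm_center h a t)

theorem c_symm (a b : T) : c a b = c b a := by
  rw [← c_inv b a]
  exact inv_eq_of_mul_eq_one_right (c_sq h b a)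

theorem sq_mem (y : T) : y * y ∈ Subgroup.center T :=
  Subgroup.mem_center_iff.mpr fun g =>
    (c_eq_one.mp (by rw [c_mul_left (comm_center h)]; exact c_sq h y g) : y * y * g = g * (y * y)).symm

theorem sq_mul (a b : T) : a * b * (a * b) = a * a * (b * b) * c a b := by
  have h1 : b * a = c a b * (a * b) := by
    rw [c_symm h a b]; simp only [c]; group
  calc a * b * (a * b) = a * (b * a) * b := by group
    _ = a * c a b * a * b * b := by rw [h1]; group
    _ = a * a * (b * b) * c a b := by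
      rw [center_right_comm (comm_center h a b), center_right_comm (comm_center h a b),
        center_right_comm (comm_center h a b)]
      group

theorem tau_psi_psi (y : T) : τ (ψ (ψ y)) = ψ (τ y) := by
  rw [h.anti, h.anti, h.fpf.three]

/-- The central element fixed by `τ`. -/
theorem exists_fixed : ∃ e ∈ Subgroup.center T, e ≠ 1 ∧ τ e = e ∧
    ∀ z ∈ Subgroup.center T, τ z = z → z = 1 ∨ z = e := by
  obtain ⟨q, hq1, hqf⟩ := exists_second_fixed
    (fun a : Subgroup.center T => (⟨τ a, map_center τ a.2⟩ : Subgroup.center T))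
    (fun a => Subtype.ext (h.invol a)) (by rw [card_center h]; norm_num) 1 (Subtype.ext (map_one τ))
  have hf : τ (q : T) = q := congrArg Subtype.val hqf
  have hq : (q : T) ≠ 1 := fun e => hq1 (Subtype.ext e)
  refine ⟨q, q.2, hq, hf, fun z hz hzf => ?_⟩
  rcases (rot h).all q q.2 hq z hz with e | e | e | e
  · exact Or.inl e
  · exact Or.inr e
  · exfalso
    rw [e, h.anti, hf] at hzf
    exact hq (ψ.injective ((h.fpf.fix _ hzf).trans (map_one ψ).symm))
  · exfalso
    rw [e, tau_psi_psi h, hf] at hzf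
    exact hq (ψ.injective ((h.fpf.fix _ hzf.symm).trans (map_one ψ).symm))

/-- A fixed coset of the centre contains a fixed element. -/
theorem lift_fixed {y : T} (hy : y⁻¹ * τ y ∈ Subgroup.center T) :
    ∃ z ∈ Subgroup.center T, τ (y * z) = y * z := by
  obtain ⟨e, he, -, hef, hall⟩ := exists_fixed h
  have hfix : τ (y⁻¹ * τ y) = y⁻¹ * τ y := by
    calc τ (y⁻¹ * τ y) = (y⁻¹ * τ y)⁻¹ := by rw [map_mul, map_inv, h.invol]; group
      _ = _ := inv_eq_of_mul_eq_one_right (center_sq h hy)
  rcases hall _ hy hfix with e1 | e1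
  · exact ⟨1, one_mem _, by rw [mul_one]; exact (inv_mul_eq_one.mp e1).symm⟩
  · refine ⟨ψ e, map_center ψ he, ?_⟩
    rw [map_mul, h.anti, hef, (rot h).two e he, show τ y = y * e by rw [← e1]; group, mul_assoc, ← mul_assoc e,
      (rot h).sq e he, one_mul]

/-- The quads generated by an orbit. -/
abbrev quad (ψ : MulAut T) (v : T) : Subgroup T := Subgroup.center T ⊔ Subgroup.zpowers v ⊔ Subgroup.zpowers (ψ v)

omit h in
theorem mem_quad_self (ψ : MulAut T) (v : T) : v ∈ quad ψ v :=
  Subgroup.mem_sup_left (Subgroup.mem_sup_right (Subgroup.mem_zpowers v))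

theorem quad_psi (v : T) : ∀ g ∈ quad ψ v, ψ g ∈ quad ψ v := by
  have hle : quad ψ v ≤ (quad ψ v).comap ψ.toMonoidHom := by
    refine sup_le (sup_le (fun a ha => Subgroup.mem_sup_left (Subgroup.mem_sup_left (map_center ψ ha)))
      (Subgroup.zpowers_le.mpr (Subgroup.mem_sup_right (Subgroup.mem_zpowers _))))
      (Subgroup.zpowers_le.mpr ?_)
    show ψ (ψ v) ∈ quad ψ v
    rw [h.fpf.two v]
    exact inv_mem (mul_mem (mem_quad_self ψ v) (Subgroup.mem_sup_right (Subgroup.mem_zpowers _)))
  exact fun g hg => hle hg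

theorem quad_comm (v : T) {a b : T} (ha : a ∈ quad ψ v) (hb : b ∈ quad ψ v) : c a b = 1 := by
  obtain ⟨z, hz, e⟩ := mem_quad (comm_center h) (sq_mem h) ha
  obtain ⟨z', hz', e'⟩ := mem_quad (comm_center h) (sq_mem h) hb
  have hcc := comm_center h
  have h0 := h.fpf.c_self v
  have h1 : c (ψ v) v = 1 := by rw [← c_inv, h0, inv_one]
  have hs : ∀ r : T, c r r = 1 := fun r => c_eq_one.mpr rfl
  rcases e with e | e | e | e <;> rcases e' with e' | e' | e' | e' <;> rw [e, e'] <;>
    simp only [c_mul_left hcc, c_mul_right hcc, c_center_left hz, c_center_right hz', h0, h1, hs, one_mul]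

theorem quad_ne_top (v : T) : ∃ g, g ∉ quad ψ v := by
  by_contra hall
  push Not at hall
  exact not_all_comm h fun a b => c_eq_one.mp (quad_comm h v (hall a) (hall b))

/-- Every element is generated by fixed cosets and their images. -/
theorem two_fixed : ∃ v w : T, τ v = v ∧ τ w = w ∧ v ∉ Subgroup.center T ∧ w ∉ quad ψ v := by
  haveI : (Subgroup.center T).Normal := inferInstance
  have hq : ∀ a b : T, (a : T ⧸ Subgroup.center T) * b = (b : T ⧸ Subgroup.center T) * a := fun a b => by
    rw [← QuotientGroup.mk_mul, ← QuotientGroup.mk_mul, QuotientGroup.eq]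
    have := comm_center h (a * b)⁻¹ 1
    have h1 := comm_center h b⁻¹ a⁻¹
    simpa [c, mul_assoc] using h1
  -- the fixed cosets
  have hfix : ∀ y : T, ∃ z ∈ Subgroup.center T, τ (y * τ y * z) = y * τ y * z := fun y => by
    refine lift_fixed h ?_
    rw [map_mul, h.invol]
    exact QuotientGroup.eq.mp (hq y (τ y))
  have hgen : ∀ A : Subgroup T, Subgroup.center T ≤ A → (∀ a ∈ A, ψ a ∈ A) →
      (∀ s, τ s = s → s ∈ A) → ∀ y, y ∈ A := by
    intro A hZA hAψ hAf y
    have hs : ∀ t, t * τ t ∈ A := fun t => by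
      obtain ⟨z, hz, e⟩ := hfix t
      exact (Subgroup.mul_mem_cancel_right A (hZA hz)).mp (hAf _ e)
    have h1 : ψ (ψ (y * τ y)) * (ψ y * τ (ψ y)) ∈ A := mul_mem (hAψ _ (hAψ _ (hs y))) (hs (ψ y))
    rw [map_mul, map_mul, h.anti] at h1
    have h2 : (y⁻¹ : T)⁻¹ * (ψ (ψ y) * ψ (ψ (τ y)) * (ψ y * ψ (ψ (τ y)))) ∈ A → True := fun _ => trivial
    have h3 : (y : T)⁻¹ * (ψ (ψ y) * ψ (ψ (τ y)) * (ψ y * ψ (ψ (τ y)))) ∈ Subgroup.center T := by
      have k : ψ (ψ y) * ψ (ψ (τ y)) * (ψ y * ψ (ψ (τ y))) =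
          (y * ψ y)⁻¹ * ψ (ψ (τ y)) * ψ y * ψ (ψ (τ y)) := by rw [h.fpf.two y]; group
      rw [k]
      refine (QuotientGroup.eq_one_iff _).mp ?_
      simp only [QuotientGroup.mk_mul, QuotientGroup.mk_inv]
      have hsq' : ((ψ (ψ (τ y)) : T) : T ⧸ Subgroup.center T) * (ψ (ψ (τ y)) : T) = 1 := by
        rw [← QuotientGroup.mk_mul, QuotientGroup.eq_one_iff]; exact sq_mem h _
      have hyy : (y : T ⧸ Subgroup.center T) * y = 1 := by
        rw [← QuotientGroup.mk_mul, QuotientGroup.eq_one_iff]; exact sq_mem h _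
      generalize (y : T ⧸ Subgroup.center T) = p at *
      generalize hr : ((ψ y : T) : T ⧸ Subgroup.center T) = r at *
      generalize ha : ((ψ (ψ (τ y)) : T) : T ⧸ Subgroup.center T) = a at *
      have har : a * r = r * a := by rw [← hr, ← ha]; exact hq _ _
      calc p⁻¹ * ((p * r)⁻¹ * a * r * a) = p⁻¹ * r⁻¹ * p⁻¹ * (a * r) * a := by group
        _ = p⁻¹ * r⁻¹ * p⁻¹ * r * (a * a) := by rw [har]; group
        _ = _ := by
          rw [hsq', mul_one, inv_eq_of_mul_eq_one_right hyy]
          have : p * r⁻¹ = r⁻¹ * p := by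
            obtain ⟨s, rfl⟩ := QuotientGroup.mk_surjective p
            rw [← hr, ← QuotientGroup.mk_inv]
            exact hq _ _
          rw [this, mul_assoc _ p p, hyy, mul_one, inv_mul_cancel]
    have h4 := mul_mem h1 (inv_mem (hZA h3))
    rwa [show ψ (ψ y) * ψ (ψ (τ y)) * (ψ y * ψ (ψ (τ y))) *
      (y⁻¹ * (ψ (ψ y) * ψ (ψ (τ y)) * (ψ y * ψ (ψ (τ y)))))⁻¹ = y by group] at h4
  obtain ⟨v, hv, hvZ⟩ : ∃ v, τ v = v ∧ v ∉ Subgroup.center T := by
    by_contra hall
    push Not at hall
    exact not_all_comm h fun a b => Subgroup.mem_center_iff.mp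
      (hgen _ le_rfl (fun a ha => map_center ψ ha) hall b) a
  obtain ⟨w, hw, hwv⟩ : ∃ w, τ w = w ∧ w ∉ quad ψ v := by
    by_contra hall
    push Not at hall
    obtain ⟨g, hg⟩ := quad_ne_top h v
    exact hg (hgen _ (le_sup_left.trans le_sup_left) (quad_psi h v) hall g)
  exact ⟨v, w, hv, hw, hvZ, hwv⟩

/-- The group generated by two orbits. -/
theorem span_top {u w : T} (hu : u ∉ Subgroup.center T) (hw : w ∉ quad ψ u) (y : T) :
    y ∈ quad ψ u ⊔ Subgroup.zpowers w ⊔ Subgroup.zpowers (ψ w) := by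
  have h1 := chain h.fpf (comm_center h) (sq_mem h) (u := u) (w := w) hu hw
  rw [card_center h] at h1
  rw [Subgroup.eq_top_of_card_eq _ (h1.trans h.card.symm)]
  exact Subgroup.mem_top y

/-- The commutator of two independent fixed elements. -/
theorem c_ne_one {u w : T} (hu : u ∉ Subgroup.center T) (hw : w ∉ quad ψ u) : c u w ≠ 1 := by
  intro hd
  obtain ⟨e1, e2, e3⟩ := h.fpf.pair (rot h) (comm_center h) (comm_center h) u w
  rw [hd] at e1 e2 e3
  simp only [map_one] at e1 e2 e3
  set S : Set T := (Subgroup.center T : Set T) ∪ {u, ψ u, w, ψ w}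
  have hS : ∀ a ∈ S, ∀ b ∈ S, a * b = b * a := by
    have hsw : ∀ {a b : T}, c a b = 1 → c b a = 1 := fun e => by rw [← c_inv, e, inv_one]
    have hs : ∀ r : T, c r r = 1 := fun r => c_eq_one.mpr rfl
    intro a ha b hb
    refine c_eq_one.mp ?_
    rcases ha with ha | ha
    · exact c_center_left ha b
    rcases hb with hb | hb
    · exact c_center_right hb a
    simp only [Set.mem_insert_iff, Set.mem_singleton_iff] at ha hb
    rcases ha with ha | ha | ha | ha <;> rcases hb with hb | hb | hb | hb <;> rw [ha, hb] <;>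
      first
        | exact hs _
        | exact h.fpf.c_self _
        | exact hsw (h.fpf.c_self _)
        | exact hd
        | exact hsw hd
        | exact e1
        | exact hsw e1
        | exact e2
        | exact hsw e2
        | exact e3
        | exact hsw e3
  have hle : quad ψ u ⊔ Subgroup.zpowers w ⊔ Subgroup.zpowers (ψ w) ≤ Subgroup.closure S :=
    sup_le (sup_le (sup_le (sup_le (fun z hz => Subgroup.subset_closure (Or.inl hz))
      (Subgroup.zpowers_le.mpr (Subgroup.subset_closure (Or.inr (by simp)))))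
      (Subgroup.zpowers_le.mpr (Subgroup.subset_closure (Or.inr (by simp)))))
      (Subgroup.zpowers_le.mpr (Subgroup.subset_closure (Or.inr (by simp)))))
      (Subgroup.zpowers_le.mpr (Subgroup.subset_closure (Or.inr (by simp))))
  refine not_all_comm h fun a b => ?_
  have := Subgroup.isMulCommutative_closure (k := S) hS
  exact congrArg Subtype.val (this.is_comm.comm ⟨a, hle (span_top h hu hw a)⟩ ⟨b, hle (span_top h hu hw b)⟩)

/-- Two noncommuting involutions. -/
theorem two_invol : ∃ u w : T, u * u = 1 ∧ w * w = 1 ∧ c u w ≠ 1 := by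
  obtain ⟨v, w, hv, hw, hvZ, hwv⟩ := two_fixed h
  obtain ⟨e, he, he1, hef, hall⟩ := exists_fixed h
  have hcc := comm_center h
  have hd : c v w = e := (hall _ (hcc v w) (by rw [map_c, hv, hw])).resolve_left (c_ne_one h hvZ hwv)
  have hee : e * e = 1 := center_sq h he
  have hself : ∀ r : T, c r r = 1 := fun r => c_eq_one.mpr rfl
  rcases hall _ (sq_mem h v) (by rw [map_mul, hv]) with qv | qv <;>
    rcases hall _ (sq_mem h w) (by rw [map_mul, hw]) with qw | qw
  · exact ⟨v, w, qv, qw, hd ▸ he1⟩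
  · refine ⟨v, v * w, qv, ?_, ?_⟩
    · rw [sq_mul h, qv, qw, hd, one_mul, hee]
    · rw [c_mul_right hcc, hself, one_mul, hd]; exact he1
  · refine ⟨v * w, w, ?_, qw, ?_⟩
    · rw [sq_mul h, qv, qw, hd, mul_one, hee]
    · rw [c_mul_left hcc, hself, mul_one, hd]; exact he1
  · obtain ⟨-, p2, -⟩ := h.fpf.pair (rot h) hcc hcc v w
    rw [hd] at p2
    have p3 : c (ψ (ψ v)) w = ψ e := by
      rw [h.fpf.two_congr hcc w (c_sq h v), hd, p2, (rot h).two e he, ← mul_assoc, hee, one_mul]
    have p4 : c w (ψ v) = ψ (ψ e) := by rw [c_symm h]; exact p2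
    have p5 : c w (ψ (ψ v)) = ψ e := by rw [c_symm h]; exact p3
    have k1 : ψ e * ψ (ψ e) = e := (rot h).sum he
    refine ⟨w * ψ v, w * ψ (ψ v), ?_, ?_, ?_⟩
    · rw [sq_mul h, qw, ← map_mul, qv, p4, mul_assoc, k1, hee]
    · rw [sq_mul h, qw, ← map_mul, ← map_mul, qv, p5, mul_assoc,
        (rot h).comm ((rot h).mem _ ((rot h).mem _ he)) ((rot h).mem _ he), k1, hee]
    · rw [c_mul_left hcc, c_mul_right hcc, c_mul_right hcc, hself, one_mul, p5,
        h.fpf.c_self (ψ v), mul_one, p2, k1]
      exact he1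

/-- The presentation. -/
theorem linear : Nonempty (Pres linearShape T) := by
  classical
  obtain ⟨u, w, hu2, hw2, hne⟩ := two_invol h
  have hR := rot h
  have hcc := comm_center h
  have hu : u ∉ Subgroup.center T := fun hm => hne (c_center_left hm w)
  have hw : w ∉ quad ψ u := fun hm => hne (quad_comm h u (mem_quad_self ψ u) hm)
  obtain ⟨e1, e2, e3⟩ := h.fpf.pair hR hcc hcc u w
  set d := c u w with hd
  have hdV : d ∈ Subgroup.center T := hcc u w
  have hd2 : ψ (ψ d) ∈ Subgroup.center T := hR.mem _ (hR.mem _ hdV)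
  have hmid : d * ψ (ψ d) = ψ d := by rw [hR.two d hdV, ← mul_assoc, hR.sq d hdV, one_mul]
  refine ⟨⟨![u, ψ u, w, ψ w], d, ψ (ψ d), fun g => Subgroup.mem_center_iff.mp hdV g,
    fun g => Subgroup.mem_center_iff.mp hd2 g, hR.sq _ hdV, hR.sq _ hd2, ?_, ?_, ?_, h.card⟩⟩
  · intro i
    fin_cases i <;> simp [linearShape, pw, ← map_mul, hu2, hw2]
  · intro i j hij
    fin_cases i <;> fin_cases j <;> simp [linearShape, pw] at hij ⊢
    · exact (h.fpf.commute u).symm
    · exact rel_of_c hd.symm (hR.sq _ hdV) hdV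
    · exact rel_of_c e1 (hR.sq _ hd2) hd2
    · exact rel_of_c e2 (hR.sq _ hd2) hd2
    · rw [hmid]; exact rel_of_c e3 (hR.sq _ (hR.mem _ hdV)) (hR.mem _ hdV)
    · exact (h.fpf.commute w).symm
  · set K := Subgroup.closure (Set.range ![u, ψ u, w, ψ w] ∪ {d, ψ (ψ d)})
    have hgen : ∀ i, ![u, ψ u, w, ψ w] i ∈ K := fun i => Subgroup.subset_closure (Or.inl ⟨i, rfl⟩)
    have hdK : d ∈ K := Subgroup.subset_closure (Or.inr (Or.inl rfl))
    have hd2K : ψ (ψ d) ∈ K := Subgroup.subset_closure (Or.inr (Or.inr rfl))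
    have hVK : Subgroup.center T ≤ K := by
      intro a ha
      rcases hR.all d hdV hne a ha with e | e | e | e <;> rw [e]
      · exact one_mem _
      · exact hdK
      · rw [← hmid]; exact mul_mem hdK hd2K
      · exact hd2K
    refine eq_top_iff.mpr fun y _ => ?_
    exact (sup_le (sup_le (sup_le (sup_le hVK (Subgroup.zpowers_le.mpr (hgen 0)))
      (Subgroup.zpowers_le.mpr (hgen 1))) (Subgroup.zpowers_le.mpr (hgen 2)))
      (Subgroup.zpowers_le.mpr (hgen 3))) (span_top h hu hw y)

/-- The fixed subgroup of `τ`. -/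
theorem fixed_group {C : Subgroup T} (hC : ∀ y, y ∈ C ↔ τ y = y) :
    Nonempty (↥C ≃* DihedralGroup 4) ∨ Nonempty (↥C ≃* QuaternionGroup 2) := by
  haveI : Fact (Nat.Prime 2) := ⟨Nat.prime_two⟩
  have hna : ¬ ∀ a b : C, a * b = b * a := by
    obtain ⟨v, w, hv, hw, hvZ, hwv⟩ := two_fixed h
    exact fun hc => c_ne_one h hvZ hwv (c_eq_one.mpr
      (congrArg Subtype.val (hc ⟨v, (hC v).mpr hv⟩ ⟨w, (hC w).mpr hw⟩)))
  have hle : Nat.card C * Nat.card C ≤ 64 := by
    rw [← h.card, ← Nat.card_prod]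
    refine Nat.card_le_card_of_injective (fun p : C × C => (p.1 : T) * ψ p.2) fun p q hpq => ?_
    have h1 : ((q.1 : T)⁻¹ * p.1 : T) = ψ ((q.2 : T) * (p.2 : T)⁻¹) := by
      have hpq' : (p.1 : T) * ψ p.2 = q.1 * ψ q.2 := hpq
      rw [map_mul, map_inv, eq_mul_inv_iff_mul_eq, mul_assoc, hpq', ← mul_assoc, inv_mul_cancel, one_mul]
    have hs : τ ((q.2 : T) * (p.2 : T)⁻¹) = (q.2 : T) * (p.2 : T)⁻¹ := by
      rw [map_mul, map_inv, (hC _).mp q.2.2, (hC _).mp p.2.2]
    have h2 := congrArg τ h1
    rw [map_mul, map_inv, (hC _).mp q.1.2, (hC _).mp p.1.2, h.anti, hs, h1] at h2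
    have h3 : (q.2 : T) * (p.2 : T)⁻¹ = 1 :=
      ψ.injective ((h.fpf.fix _ h2.symm).trans (map_one ψ).symm)
    rw [h3, map_one] at h1
    exact Prod.ext (Subtype.ext (inv_mul_eq_one.mp h1).symm) (Subtype.ext (mul_inv_eq_one.mp h3).symm)
  obtain ⟨j, hj⟩ := IsPGroup.iff_card.mp ((pgroup h).to_subgroup C)
  rw [hj] at hle
  have hj3 : j ≤ 3 := by
    by_contra hcon
    have : 16 ≤ 2 ^ j := le_trans (by norm_num) (Nat.pow_le_pow_right (show 1 ≤ 2 by norm_num) (show 4 ≤ j by omega))
    nlinarith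
  interval_cases j
  · exact absurd (fun a b => by
      haveI : Subsingleton C := (Nat.card_eq_one_iff_unique.mp (hj.trans (pow_zero 2))).1
      exact Subsingleton.elim _ _) hna
  · exact absurd (fun a b => by
      haveI : IsCyclic C := isCyclic_of_prime_card (p := 2) (by simpa using hj)
      exact (IsCyclic.commGroup (α := C)).mul_comm a b) hna
  · exact absurd (IsPGroup.isMulCommutative_of_card_eq_prime_sq (p := 2) hj).is_comm.comm hna
  · exact dihedral_or_quaternion_of_card_eight (by simpa using hj) hna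

/-- The group is a Sylow 2-subgroup of `PSL(3, 4)`. -/
theorem iso_sylow : ∃ (F : Type) (_ : Field F) (_ : Fintype F), Fintype.card F = 4 ∧
    ∃ S : Sylow 2 (Matrix.ProjectiveSpecialLinearGroup (Fin 3) F),
      Nonempty (T ≃* ↥(S : Subgroup (Matrix.ProjectiveSpecialLinearGroup (Fin 3) F))) := by
  haveI : Fact (Nat.Prime 2) := ⟨Nat.prime_two⟩
  letI : Fintype (GaloisField 2 2) := Fintype.ofFinite _
  have hF : Fintype.card (GaloisField 2 2) = 4 := by
    rw [← Nat.card_eq_fintype_card, GaloisField.card 2 2 two_ne_zero]; norm_num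
  haveI : CharP (GaloisField 2 2) 2 := inferInstance
  refine ⟨GaloisField 2 2, inferInstance, inferInstance, hF, default, ?_⟩
  obtain ⟨P⟩ := linear h
  obtain ⟨Q⟩ := linear_pres (F := GaloisField 2 2) hF
  obtain ⟨e⟩ := P.nonempty_mulEquiv Q
  obtain ⟨e'⟩ := sylow_psl (F := GaloisField 2 2) default
  exact ⟨e.trans e'⟩

end Cfsg.Agent.Fus.SixtyFourInvert
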