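import Cfsg.Agent.Lib.Fus.SmallExp
import Cfsg.Agent.Lib.Fus.InnerOnSystem
import Cfsg.Agent.Lib.Fus.JInduction
import Cfsg.Agent.Lib.Fus.Hyperfocal
import Cfsg.Agent.Lib.Fus.HypAction
import Cfsg.Agent.Lib.Fus.InnerCrit
import Cfsg.Agent.Lib.Invol.Critical

/-!
Abelian subgroups of small exponent in the hyperfocal subgroup control a saturated system.
-/

set_option autoImplicit false
set_option linter.style.haveILetI false
set_option linter.unusedSectionVars false

open scoped Classical commutatorElement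

namespace Cfsg.Agent.Fus

open Subgroup FusionSystem

universe u

variable {Ω : Type u} [Group Ω] {S : Subgroup Ω} [Finite S] {F E : FusionSystem S} {p : ℕ}
  [Fact p.Prime]

/-- The hyperfocal subgroup is strongly closed. -/
theorem stronglyClosed_hyperfocal (hS : IsPGroup p S) (hF : F.IsSaturated p) :
    F.StronglyClosed (F.hyperfocalSubgroup p) := by
  refine stronglyClosed_of_forall (hyperfocal_le F p) fun R hR f hf x hx => ?_
  obtain ⟨s, hs, e⟩ := exists_conj_congr hS hF hf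
  have := Subgroup.mul_mem _ (hyperfocal_conj_mem hs (hR hx)) (e x hx)
  rwa [mul_inv_cancel_left] at this

/-- The maps acting on a normal subgroup of `S` as elements of `S` form a saturated system. -/
theorem exists_innerOn_system (hS : IsPGroup p S) (hF : F.IsSaturated p) {U : Subgroup Ω}
    (hUS : U ≤ S) (hUn : S ≤ Subgroup.normalizer (U : Set Ω)) :
    ∃ G : FusionSystem S, G.IsSaturated p ∧ ∀ P f, IsMap G P f ↔ InnerOn F U P f := by
  have hR : normalizerIn S U = S := le_antisymm inf_le_left (le_inf le_rfl hUn)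
  have hU : F.IsFullyNormalized U := ⟨hUS, fun Q _ => by
    rw [hR]; exact Subgroup.card_le_of_le inf_le_left⟩
  haveI : Finite ↥(normalizerIn S U) := finite_of_le (S := S) inf_le_left
  set N := normalizerSystem F U hU.1
  have hn : N.IsNormal U := isNormal_normalizerSystem_self hUS
  have hRp : IsPGroup p ↥(normalizerIn S U) := hS.to_le inf_le_left
  have hsat := isSaturated_innerOnSystem hRp (isSaturated_normalizerSystem hS hF hU) hn
  have key : ∀ P f, InnerOn N U P f ↔ InnerOn F U P f := by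
    intro P f
    constructor
    · rintro ⟨g, hg, hg1, s, hs, hg2⟩
      exact ⟨g, hg.mono (normalizerSystem_isSubsystemOf _), hg1, s, hs.1, hg2⟩
    · rintro ⟨g, hg, hg1, s, hs, hg2⟩
      refine ⟨g, (isMap_normalizerSystem _).2 ⟨hg.source_le.trans hR.ge,
        fun x hx => hR.ge (hg.apply_mem hx), g, by rwa [sup_assoc, sup_idem], fun x _ => rfl, ?_⟩,
        hg1, s, hR.ge hs, hg2⟩
      haveI := finite_of_le hUS
      exact Subgroup.eq_of_le_of_card_ge (fimg_le fun u hu => (hg2 u hu).symm ▸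
        (Subgroup.mem_normalizer_iff.1 (hUn hs) u).1 hu) (hg.res le_sup_right).card_fimg.ge
  have move : ∀ (R : Subgroup Ω), R = S → ∀ G : FusionSystem R, G.IsSaturated p →
      (∀ P f, IsMap G P f ↔ InnerOn F U P f) →
      ∃ G : FusionSystem S, G.IsSaturated p ∧ ∀ P f, IsMap G P f ↔ InnerOn F U P f := by
    rintro R rfl G h1 h2
    exact ⟨G, h1, h2⟩
  exact move _ hR (innerOnSystem hn) hsat fun P f => (isMap_innerOnSystem hn).trans (key P f)

/-- An automorphism of order prime to `p` that acts on `A` as an element of `S` fixes it. -/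
theorem autFun_eq_self_of_conj (hS : IsPGroup p S) {A Q : Subgroup Ω} (hAQ : A ≤ Q)
    (hA : ∀ s ∈ S, ∀ a ∈ A, s * a * s⁻¹ ∈ A) {β : MulAut Q} (hβ : (orderOf β).Coprime p) {s : Ω}
    (hs : s ∈ S) (h : ∀ a ∈ A, autFun β a = s * a * s⁻¹) : ∀ a ∈ A, autFun β a = a := by
  have hpow : ∀ (k : ℕ), ∀ a ∈ A, autFun (β ^ k) a = s ^ k * a * (s ^ k)⁻¹ := by
    intro k
    induction k with
    | zero => intro a ha; rw [pow_zero, autFun_one (hAQ ha)]; group
    | succ k ih =>
      intro a ha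
      rw [pow_succ', autFun_mul _ _ (hAQ ha), ih a ha, h _ (hA _ (S.pow_mem hs k) a ha), pow_succ']
      group
  obtain ⟨k, hk⟩ := hS ⟨s, hs⟩
  have hk' : s ^ p ^ k = 1 := congrArg Subtype.val hk
  obtain ⟨m, hm⟩ := exists_pow_eq_self_of_coprime (hβ.pow_right k).symm
  intro a ha
  conv_lhs => rw [← hm, ← pow_mul, hpow _ a ha, pow_mul, hk', one_pow]
  group

/-- A system in which everything acts on a maximal small abelian subgroup of the hyperfocal
subgroup as an element of `S` has no hyperfocal part. -/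
theorem isInner_of_small_inner (hS : IsPGroup p S) {G : FusionSystem S} (hG : G.IsSaturated p)
    (hGF : ∀ P f, IsMap G P f → IsMap F P f) {A H₀ : Subgroup Ω} (hH₀S : H₀ ≤ S)
    (hH₀ : ∀ P f, IsMap F P f → ∀ x ∈ P, x ∈ H₀ → f x ∈ H₀)
    (hfoc : ∀ P, P ≤ S → ∀ α : F.autGroup P, (orderOf α).Coprime p → ∀ x ∈ P,
      x⁻¹ * autFun (α : MulAut P) x ∈ H₀)
    (hAH : A ≤ H₀) (hA : ∀ s ∈ S, ∀ a ∈ A, s * a * s⁻¹ ∈ A)
    (hAc : ∀ a ∈ A, ∀ b ∈ A, a * b = b * a)
    (hsmall : ∀ x ∈ H₀, (∀ a ∈ A, a * x = x * a) → x ^ smallExp p = 1 → x ∈ A)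
    (hinner : ∀ P f, IsMap G P f → InnerOn G A P f) : IsInner G := by
  have hbot : G.hyperfocalSubgroup p ≤ ⊥ := by
    refine hyperfocal_le_of_coprime fun P hP α hα x hx => ?_
    obtain ⟨g, hg, hg1, s, hs, hg2⟩ := hinner P _ ((mem_autGroup hP).1 α.2)
    set Q := P ⊔ A with hQ
    have hQS : Q ≤ S := hg.source_le
    haveI := finite_of_le hQS
    have hgQ : fimg g Q = Q := by
      refine Subgroup.eq_of_le_of_card_ge ?_ hg.card_fimg.ge
      rw [hQ, hg.fimg_sup]
      refine sup_le ((fimg_le fun y hy => ?_).trans le_sup_left)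
        ((fimg_le fun a ha => ?_).trans le_sup_right)
      · rw [hg1 y hy]; exact autFun_mem _ hy
      · rw [hg2 a ha]; exact hA s hs a ha
    obtain ⟨β₀, hβ₀, hβ₀e⟩ := hg.exists_aut hgQ
    -- pass to the part of order prime to `p`
    let β₁ : G.autGroup Q := ⟨β₀, hβ₀⟩
    set a := p ^ (orderOf β₁).factorization p with hadef
    obtain ⟨j, hj⟩ := exists_pow_eq_self_of_coprime (x := α)
      ((hα.pow_right _ : (orderOf α).Coprime a).symm)
    set β := ((β₁ ^ a) ^ j : G.autGroup Q) with hβdef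
    have hβc : (orderOf β).Coprime p := by
      refine Nat.Coprime.coprime_dvd_left (orderOf_pow_dvd j) ?_
      rw [orderOf_pow_of_dvd (pow_ne_zero _ (Fact.out : p.Prime).pos.ne') (Nat.ordProj_dvd _ _)]
      exact (Nat.coprime_ordCompl (Fact.out : p.Prime) (orderOf_pos β₁).ne').symm
    have hPQ : P ≤ Q := le_sup_left
    have hAQ : A ≤ Q := le_sup_right
    have hres : ∀ y (hy : y ∈ P), autFun (β : MulAut Q) y = autFun (α : MulAut P) y := by
      intro y hy
      rw [show (β : MulAut Q) = β₀ ^ (a * j) by rw [hβdef, ← pow_mul, Subgroup.coe_pow]]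
      rw [autFun_pow_eq hPQ (fun z hz => by rw [hβ₀e _ (hPQ hz), hg1 z hz]) (a * j) y hy,
        ← Subgroup.coe_pow, pow_mul, hj]
    have hβfix : ∀ b ∈ A, autFun (β : MulAut Q) b = b := by
      refine autFun_eq_self_of_conj hS hAQ hA (s := s ^ (a * j)) ?_ (S.pow_mem hs _) ?_
      · rwa [Subgroup.orderOf_coe]
      · intro b hb
        rw [show (β : MulAut Q) = β₀ ^ (a * j) by rw [hβdef, ← pow_mul, Subgroup.coe_pow]]
        have : ∀ k : ℕ, ∀ b ∈ A, autFun (β₀ ^ k) b = s ^ k * b * (s ^ k)⁻¹ := by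
          intro k
          induction k with
          | zero => intro b hb; rw [pow_zero, autFun_one (hAQ hb)]; group
          | succ k ih =>
            intro b hb
            rw [pow_succ', autFun_mul _ _ (hAQ hb), ih b hb, hβ₀e _ (hAQ (hA _ (S.pow_mem hs k) b hb)),
              hg2 _ (hA _ (S.pow_mem hs k) b hb), pow_succ']
            group
        exact this _ b hb
    have hβm : IsMap F Q (autFun (β : MulAut Q)) := hGF _ _ ((mem_autGroup hQS).1 β.2)
    -- the restrictions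
    set H : Subgroup Q := H₀.subgroupOf Q with hH
    set βQ : MulAut Q := (β : MulAut Q) with hβQ
    have hQp : IsPGroup p Q := hS.to_le hQS
    have hord : (orderOf βQ).Coprime p := by rwa [hβQ, Subgroup.orderOf_coe]
    have hHinv : ∀ q : Q, q ∈ H → βQ q ∈ H := fun q hq => by
      rw [hH, Subgroup.mem_subgroupOf, ← autFun_coe]
      exact hH₀ _ _ hβm q q.2 hq
    set C : Subgroup Q := H ⊓ Subgroup.centralizer ((A.subgroupOf Q : Subgroup Q) : Set Q) with hC
    have hA' : ∀ q : Q, (q : Ω) ∈ A → βQ q = q := fun q hq =>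
      Subtype.ext ((autFun_coe βQ q).symm.trans (hβfix q hq))
    have hCinv : ∀ q : Q, q ∈ C → βQ q ∈ C := fun q hq => ⟨hHinv q hq.1,
      Subgroup.mem_centralizer_iff.2 fun b hb => by
        rw [← hA' b hb, ← map_mul, ← map_mul, Subgroup.mem_centralizer_iff.1 hq.2 b hb]⟩
    have hHeq : H.map βQ.toMonoidHom = H := Subgroup.eq_of_le_of_card_ge
      (Subgroup.map_le_iff_le_comap.2 hHinv) (Subgroup.card_map_of_injective βQ.injective).ge
    have hCeq : C.map βQ.toMonoidHom = C := Subgroup.eq_of_le_of_card_ge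
      (Subgroup.map_le_iff_le_comap.2 hCinv) (Subgroup.card_map_of_injective βQ.injective).ge
    let βC : MulAut C := (βQ.subgroupMap C).trans (MulEquiv.subgroupCongr hCeq)
    let βH : MulAut H := (βQ.subgroupMap H).trans (MulEquiv.subgroupCongr hHeq)
    have hvC : ∀ c : C, ((βC c : C) : Q) = βQ c := fun c => rfl
    have hvH : ∀ c : H, ((βH c : H) : Q) = βQ c := fun c => rfl
    have hpowC : ∀ k : ℕ, ∀ c : C, (((βC ^ k) c : C) : Q) = (βQ ^ k) c := by
      intro k
      induction k with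
      | zero => simp
      | succ k ih => intro c; rw [pow_succ', pow_succ', MulAut.mul_apply, MulAut.mul_apply, hvC, ih]
    have hpowH : ∀ k : ℕ, ∀ c : H, (((βH ^ k) c : H) : Q) = (βQ ^ k) c := by
      intro k
      induction k with
      | zero => simp
      | succ k ih => intro c; rw [pow_succ', pow_succ', MulAut.mul_apply, MulAut.mul_apply, hvH, ih]
    have hC1 : βC = 1 := by
      refine eq_one_of_fixed_small (hQp.to_subgroup C) βC ?_ fun c hc => Subtype.ext ?_
      · refine Nat.Coprime.coprime_dvd_left (orderOf_dvd_of_pow_eq_one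
          (MulEquiv.ext fun c => Subtype.ext ?_)) hord
        rw [hpowC, pow_orderOf_eq_one]
        rfl
      · rw [hvC]
        refine hA' _ (hsmall _ c.2.1 (fun b hb => ?_) ?_)
        · exact congrArg Subtype.val (Subgroup.mem_centralizer_iff.1 c.2.2 ⟨b, hAQ hb⟩ hb)
        · exact congrArg (fun z : C => (((z : Q)) : Ω)) hc
    have hH1 : βH = 1 := by
      haveI : (C.subgroupOf H).Normal := ⟨fun c hc g => by
        refine ⟨(H.mul_mem (H.mul_mem g.2 c.2) (H.inv_mem g.2)), Subgroup.mem_centralizer_iff.2 ?_⟩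
        intro b hb
        have hgb : (g : Q)⁻¹ * b * (g : Q) ∈ A.subgroupOf Q := by
          have := hA ((g : Q) : Ω)⁻¹ (S.inv_mem (hQS (g : Q).2)) b hb
          exact Subgroup.mem_subgroupOf.2 (by simpa using this)
        have h := Subgroup.mem_centralizer_iff.1 (Subgroup.mem_subgroupOf.1 hc).2 _ hgb
        calc b * ((g : Q) * c * (g : Q)⁻¹) = (g : Q) * (((g : Q)⁻¹ * b * g) * c) * (g : Q)⁻¹ := by group
          _ = (g : Q) * (c * ((g : Q)⁻¹ * b * g)) * (g : Q)⁻¹ := by
              rw [h]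
          _ = _ := by
              simp only [Subgroup.coe_subtype, Subgroup.coe_mul, Subgroup.coe_inv]
              group⟩
      refine Invol.aut_eq_one_of_fixed (hQp.to_subgroup H) (H := C.subgroupOf H) ?_ ?_ ?_
      · intro c hc
        refine ⟨c.2, Subgroup.mem_centralizer_iff.2 fun b hb => ?_⟩
        have hbH : (b : Q) ∈ H := hAH hb
        have hbC : (b : Q) ∈ C := ⟨hbH, Subgroup.mem_centralizer_iff.2 fun d hd =>
          Subtype.ext (hAc _ hd _ hb)⟩
        exact congrArg Subtype.val (Subgroup.mem_centralizer_iff.1 hc ⟨b, hbH⟩ hbC)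
      · refine Nat.Coprime.coprime_dvd_left (orderOf_dvd_of_pow_eq_one
          (MulEquiv.ext fun c => Subtype.ext ?_)) hord
        rw [hpowH, pow_orderOf_eq_one]
        rfl
      · intro c hc
        refine Subtype.ext ((hvH c).trans ?_)
        rw [← hvC ⟨c, hc⟩, hC1]
        rfl
    have hx' : (⟨x, hPQ hx⟩ : Q)⁻¹ * βQ ⟨x, hPQ hx⟩ ∈ H := by
      rw [hH, Subgroup.mem_subgroupOf, Subgroup.coe_mul, Subgroup.coe_inv, ← autFun_coe, hres x hx]
      exact hfoc P hP ⟨(α : MulAut P), by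
        exact (mem_autGroup hP).2 (hGF _ _ ((mem_autGroup hP).1 α.2))⟩
        (by rwa [← Subgroup.orderOf_coe] at hα ⊢) x hx
    have hfixd : βQ ((⟨x, hPQ hx⟩ : Q)⁻¹ * βQ ⟨x, hPQ hx⟩) = _ := (hvH ⟨_, hx'⟩).symm.trans
      (congrArg (fun z : MulAut H => ((z ⟨_, hx'⟩ : H) : Q)) hH1)
    have := fix_step hS hQS βQ hord (pow_orderOf_eq_one βQ) hfixd
    rw [Subgroup.mem_bot, ← hres x hx, inv_mul_eq_one]
    exact (congrArg Subtype.val this).symm.trans (autFun_coe βQ ⟨x, hPQ hx⟩).symm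
  intro P f hf
  obtain ⟨s, hs, hse⟩ := exists_conj_congr hS hG hf
  exact ⟨s, hs, fun z hz => (inv_mul_eq_one.1 (Subgroup.mem_bot.1 (hbot (hse z hz)))).symm⟩

/-- Agreement on abelian subgroups of small exponent inside the hyperfocal subgroup. -/
theorem isMap_of_small (hS : IsPGroup p S) (hE : E.IsSaturated p) (hF : F.IsSaturated p)
    (hEF : E.IsSubsystemOf F)
    (hsmall : ∀ (B : Subgroup Ω) (f : Ω → Ω), IsMap F B f → B ≤ F.hyperfocalSubgroup p →
      fimg f B ≤ F.hyperfocalSubgroup p → (∀ a ∈ B, ∀ b ∈ B, a * b = b * a) →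
      (∀ b ∈ B, b ^ smallExp p = 1) → IsMap E B f)
    {P : Subgroup Ω} {f : Ω → Ω} (hf : IsMap F P f) : IsMap E P f := by
  set H₀ := F.hyperfocalSubgroup p with hH₀
  have hscH := stronglyClosed_hyperfocal hS hF
  have hH₀S : H₀ ≤ S := hyperfocal_le F p
  haveI : (H₀.subgroupOf S).Normal := ⟨fun x hx s => hyperfocal_conj_mem s.2 hx⟩
  obtain ⟨A₀, hA₀n, hA₀K, hA₀c, hA₀e, hA₀max⟩ := exists_maximal_small (H₀.subgroupOf S) p
  set A := A₀.map S.subtype with hAdef
  have hAS : A ≤ S := Subgroup.map_subtype_le _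
  have hAconj : ∀ s ∈ S, ∀ a ∈ A, s * a * s⁻¹ ∈ A := by
    rintro s hs _ ⟨a, ha, rfl⟩
    exact ⟨⟨s, hs⟩ * a * ⟨s, hs⟩⁻¹, hA₀n.conj_mem a ha _, rfl⟩
  have hAc : ∀ a ∈ A, ∀ b ∈ A, a * b = b * a := by
    rintro _ ⟨a, ha, rfl⟩ _ ⟨b, hb, rfl⟩
    exact congrArg Subtype.val (Subgroup.mem_centralizer_iff.1 (hA₀c hb) a ha)
  have hAe : ∀ a ∈ A, a ^ smallExp p = 1 := by
    rintro _ ⟨a, ha, rfl⟩
    exact congrArg Subtype.val (hA₀e a ha)
  have hAH : A ≤ H₀ := by
    rintro _ ⟨a, ha, rfl⟩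
    exact hA₀K ha
  have hAsmall : ∀ x ∈ H₀, (∀ a ∈ A, a * x = x * a) → x ^ smallExp p = 1 → x ∈ A := by
    intro x hx hxA hxn
    refine ⟨⟨x, hH₀S hx⟩, mem_of_maximal_small hS hA₀K hA₀c hA₀e hA₀max (x := ⟨x, hH₀S hx⟩) hx
      (Subgroup.mem_centralizer_iff.2 fun a ha => Subtype.ext (hxA _ ⟨a, ha, rfl⟩))
      (Subtype.ext hxn), rfl⟩
  -- the chain
  let lev : ℕ → Subgroup Ω := fun i => A ⊓ (Subgroup.upperCentralSeries ↥S i).map S.subtype
  have hlevA : ∀ i, lev i ≤ A := fun i => inf_le_left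
  have hlevS : ∀ i, lev i ≤ S := fun i => (hlevA i).trans hAS
  have hlevconj : ∀ i, ∀ s ∈ S, ∀ a ∈ lev i, s * a * s⁻¹ ∈ lev i := by
    rintro i s hs a ⟨haA, y, hy, rfl⟩
    exact ⟨hAconj s hs _ haA, ⟨s, hs⟩ * y * ⟨s, hs⟩⁻¹,
      Subgroup.Normal.conj_mem inferInstance y hy _, rfl⟩
  have hlevn : ∀ i, S ≤ Subgroup.normalizer (lev i : Set Ω) := fun i s hs =>
    mem_normalizer_of_forall (hlevconj i s hs) fun a ha => by
      simpa using hlevconj i s⁻¹ (S.inv_mem hs) a ha
  have hlev0 : lev 0 = ⊥ := eq_bot_iff.2 fun a ⟨_, y, hy, e⟩ => by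
    rw [SetLike.mem_coe, Subgroup.upperCentralSeries_zero, Subgroup.mem_bot] at hy
    subst hy e
    rfl
  have hlevmono : ∀ i j, j ≤ i → lev j ≤ lev i := fun i j hji =>
    inf_le_inf_left _ (Subgroup.map_mono (Subgroup.upperCentralSeries_mono _ hji))
  have hlevstep : ∀ i, ∀ a ∈ lev (i + 1), ∀ s ∈ S, s⁻¹ * (a * s * a⁻¹) ∈ lev i := by
    rintro i a ⟨haA, y, hy, rfl⟩ s hs
    refine ⟨?_, (⟨s, hs⟩ : S)⁻¹ * (y * ⟨s, hs⟩ * y⁻¹), ?_, rfl⟩
    · have h1 := A.mul_mem (hAconj s⁻¹ (S.inv_mem hs) _ haA) (A.inv_mem haA)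
      simpa [mul_assoc] using h1
    · have h1 := (Subgroup.upperCentralSeries ↥S i).inv_mem
        ((Subgroup.mem_upperCentralSeries_succ_iff.1 (Subgroup.inv_mem _ hy)) ⟨s, hs⟩)
      have h2 := Subgroup.Normal.conj_mem
        (inferInstance : (Subgroup.upperCentralSeries ↥S i).Normal) _ h1 (⟨s, hs⟩ : S)⁻¹
      have h3 := (Subgroup.mem_upperCentralSeries_succ_iff.1 hy) ⟨s, hs⟩
      have h4 := Subgroup.Normal.conj_mem
        (inferInstance : (Subgroup.upperCentralSeries ↥S i).Normal) _ h3 (⟨s, hs⟩ : S)⁻¹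
      simpa [commutatorElement_def, mul_assoc] using h4
  haveI := hS.isNilpotent
  obtain ⟨c, hc⟩ := (inferInstance : Group.IsNilpotent S).nilpotent'
  have hlevtop : lev c = A := inf_eq_left.2 fun a ha => ⟨⟨a, hAS ha⟩, hc ▸ Subgroup.mem_top _, rfl⟩
  suffices main : ∀ k i, i + k = c → ∀ P f, InnerOn F (lev i) P f → IsMap E P f by
    refine main c 0 (zero_add c) P f ?_
    rw [hlev0]
    exact ⟨f, hf.res (sup_le le_rfl bot_le), fun _ _ => rfl, 1, S.one_mem, fun u hu => by
      rw [Subgroup.mem_bot] at hu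
      subst hu
      rw [hf.map_one]; group⟩
  intro k
  induction k with
  | zero =>
    intro i hi P f hP
    obtain rfl : i = c := by omega
    obtain ⟨G, hG, hGmap⟩ := exists_innerOn_system hS hF (hlevS i) (hlevn i)
    rw [hlevtop] at hGmap
    have hinn := isInner_of_small_inner hS hG (fun P f h => ((hGmap P f).1 h).isMap) hH₀S
      (fun P f h x hx hxH => StronglyClosed.apply_mem hscH (h.res inf_le_left) inf_le_right
        (⟨hx, hxH⟩ : x ∈ P ⊓ H₀))
      (fun P hP α hα x hx => hyperfocal_mem hP (Subgroup.subset_closure hα) hx)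
      hAH hAconj hAc hAsmall fun P f h => by
        obtain ⟨g, hg, hg1, s, hs, hg2⟩ := (hGmap P f).1 h
        exact ⟨g, (hGmap _ _).2 ⟨g, by rwa [sup_assoc, sup_idem], fun _ _ => rfl, s, hs, hg2⟩,
          hg1, s, hs, hg2⟩
    rw [hlevtop] at hP
    obtain ⟨s, hs, e⟩ := hinn P f ((hGmap P f).2 hP)
    exact (isMap_conj E hP.isMap.source_le hs).congr fun x hx => (e x hx).symm
  | succ k ih =>
    intro i hi P f hP
    obtain ⟨G, hG, hGmap⟩ := exists_innerOn_system hS hF (hlevS i) (hlevn i)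
    have main : ∀ Q, G.IsCentric Q → (Q = S ∨ G.IsRadical p Q) → ∀ α ∈ G.autGroup Q,
        IsMap E Q (autFun α) := by
      intro Q hQc hQr α hα
      have hQS := hQc.1
      haveI := finite_of_le hQS
      have hle : ∀ j, j ≤ i + 1 → lev j ≤ Q := by
        intro j
        induction j with
        | zero => intro _; rw [hlev0]; exact bot_le
        | succ j ihj =>
          intro hj
          rcases hQr with rfl | hQr
          · exact hlevS _
          have hjQ := ihj (by omega)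
          refine le_of_chain_stab hS hQc hQr (hlevS _) (hlevconj _) 1
            (fun n => if n = 0 then ⊥ else lev j) ?_ ?_ ?_ ?_
          · intro β hβ n _ x hx
            split_ifs at hx ⊢ with h0
            · rw [Subgroup.mem_bot] at hx ⊢
              rw [show x = 1 from Subtype.ext hx, map_one, Subgroup.coe_one]
            · obtain ⟨g, hg, hg1, s, hs, hg2⟩ := (hGmap _ _).1 ((mem_autGroup hQS).1 hβ)
              rw [← autFun_coe, ← hg1 _ x.2, hg2 _ (hlevmono i j (by omega) hx)]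
              exact hlevconj j s hs _ hx
          · intro β _ m _ _ x hx
            rw [if_pos rfl, Subgroup.mem_bot] at hx
            rw [show x = 1 from Subtype.ext hx, map_one]
          · intro q hq _ x hx
            rw [if_neg (by norm_num)]
            exact hlevstep j q hq x (hQS hx)
          · intro n hn q hq _ x _ hxl
            obtain rfl : n = 0 := by omega
            rw [if_neg (by norm_num)] at hxl
            rw [if_pos rfl, Subgroup.mem_bot, hAc q (hlevA _ hq) x (hlevA _ hxl),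
              mul_inv_cancel_right, inv_mul_cancel]
      set U := lev (i + 1) with hU
      have hUQ : U ≤ Q := hle _ le_rfl
      have hαm : IsMap F Q (autFun α) := ((hGmap _ _).1 ((mem_autGroup hQS).1 hα)).isMap
      set B := fimg (autFun α⁻¹) U with hB
      have hinvA : ∀ x ∈ Q, autFun α (autFun α⁻¹ x) = x := fun x hx => by
        rw [← autFun_mul _ _ hx, mul_inv_cancel, autFun_one hx]
      have hαi : IsMap F Q (autFun α⁻¹) :=
        ((hGmap _ _).1 ((mem_autGroup hQS).1 (inv_mem hα))).isMap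
      have hBQ : B ≤ Q := fimg_le fun x hx => autFun_mem _ (hUQ hx)
      have hBimg : fimg (autFun α) B = U := by
        rw [hB, ← (hαi.res hUQ).fimg_comp]
        exact fimg_eq_self_of_forall fun x hx => hinvA x (hUQ hx)
      have hUH : U ≤ H₀ := (hlevA _).trans hAH
      have hcomm : ∀ a ∈ B, ∀ b ∈ B, a * b = b * a := by
        intro a ha b hb
        obtain ⟨a', ha', rfl⟩ := (hαi.res hUQ).mem_fimg_iff.1 ha
        obtain ⟨b', hb', rfl⟩ := (hαi.res hUQ).mem_fimg_iff.1 hb
        rw [← hαi.map_mul (hUQ ha') (hUQ hb'), ← hαi.map_mul (hUQ hb') (hUQ ha'),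
          hAc a' (hlevA _ ha') b' (hlevA _ hb')]
      have hBH : B ≤ H₀ := fimg_le fun x hx =>
        StronglyClosed.apply_mem hscH (hαi.res hUQ) hUH hx
      have hexp : ∀ b ∈ B, b ^ smallExp p = 1 := by
        intro b hb
        obtain ⟨a, ha, rfl⟩ := (hαi.res hUQ).mem_fimg_iff.1 hb
        obtain ⟨φ, hφ, e⟩ := hαi.exists_hom
        rw [← e ⟨a, hUQ ha⟩, ← map_pow,
          show (⟨a, hUQ ha⟩ : Q) ^ smallExp p = 1 from Subtype.ext (hAe a (hlevA _ ha)), map_one]
      have hBE : IsMap E B (autFun α) := hsmall B _ (hαm.res hBQ) hBH (hBimg ▸ hUH) hcomm hexp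
      have hUfn : E.IsFullyNormalized U := ⟨hlevS _, fun R _ => by
        rw [show normalizerIn S U = S from le_antisymm inf_le_left (le_inf le_rfl (hlevn _))]
        exact Subgroup.card_le_of_le inf_le_left⟩
      have hQB : ∀ q ∈ Q, ∀ b ∈ B, q * b * q⁻¹ ∈ B := by
        intro q hq b hb
        obtain ⟨a, ha, rfl⟩ := (hαi.res hUQ).mem_fimg_iff.1 hb
        have hq' : autFun α q ∈ Q := autFun_mem _ hq
        rw [show q = autFun α⁻¹ (autFun α q) from (autFun_inv_apply α hq).symm,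
          ← hαi.map_conj hq' (hUQ ha)]
        exact apply_mem_fimg _ (hlevconj _ _ (hQS hq') _ ha)
      obtain ⟨e', he', he'e⟩ := receptive_extend (receptive_of_fullyNormalized hS hE hUfn) hBE hBimg
        (N := Q) (fun q hq => ⟨⟨hQS hq, mem_normalizer_of_forall (hQB q hq) fun b hb => by
            simpa using hQB q⁻¹ (Q.inv_mem hq) b hb⟩,
          autFun α q, hQS (autFun_mem _ hq), fun b hb => hαm.map_conj hq (hBQ hb)⟩) hBQ
      have hk : IsMap F Q fun x => e' (autFun α⁻¹ x) :=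
        hαi.comp (he'.mono hEF) fun x hx => autFun_mem _ hx
      have hkE : IsMap E Q fun x => e' (autFun α⁻¹ x) := by
        refine ih (i + 1) (by omega) Q _ ⟨_, hk.res (sup_le le_rfl hUQ), fun _ _ => rfl, 1,
          S.one_mem, fun u hu => ?_⟩
        have hu' : autFun α⁻¹ u ∈ B := apply_mem_fimg _ hu
        show e' (autFun α⁻¹ u) = 1 * u * 1⁻¹
        rw [he'e _ hu', hinvA u (hUQ hu), one_mul, inv_one, mul_one]
      obtain ⟨g, hg, hg1, -, -⟩ := hkE.exists_inv
      have hmem : ∀ x ∈ Q, e' x ∈ fimg (fun x => e' (autFun α⁻¹ x)) Q := fun x hx => by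
        have := apply_mem_fimg (fun x => e' (autFun α⁻¹ x)) (autFun_mem α hx)
        simpa only [autFun_inv_apply α hx] using this
      refine (he'.comp hg hmem).congr fun x hx => ?_
      have := hg1 _ (autFun_mem α hx)
      simpa only [autFun_inv_apply α hx] using this
    exact alperin hS hG (fun R g => IsMap E R g) (fun R g g' h e => h.congr e)
      (fun R R' g g' _ _ hm h h' => h.comp h' hm) (fun R R' g _ hle h => h.res hle)
      (fun α hα => main S (centric_self G) (Or.inl rfl) α hα)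
      (fun Q hQ α hα => main Q hQ.1 (Or.inr (radical_of_essential hS hQ)) α hα) ((hGmap P f).2 hP)

end Cfsg.Agent.Fus

namespace Cfsg.Agent.Fus

open Subgroup FusionSystem

universe u

/-- The form with sets of maps between abelian subgroups of small exponent. -/
theorem hom_eq_of_small {Ω : Type u} [Group Ω] {S : Subgroup Ω} [Finite S] {p : ℕ} [Fact p.Prime]
    (hS : IsPGroup p S) {E F : FusionSystem S} (hE : E.IsSaturated p) (hF : F.IsSaturated p)
    (hEF : E.IsSubsystemOf F)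
    (hodd : p ≠ 2 → ∀ A B : Subgroup Ω, A ≤ F.hyperfocalSubgroup p → B ≤ F.hyperfocalSubgroup p →
      IsElementaryAbelian p A → IsElementaryAbelian p B → E.homSet A B = F.homSet A B)
    (htwo : p = 2 → ∀ A B : Subgroup Ω, A ≤ F.hyperfocalSubgroup p → B ≤ F.hyperfocalSubgroup p →
      IsMulCommutative ↥A → IsMulCommutative ↥B → (∀ a ∈ A, a ^ 4 = 1) → (∀ b ∈ B, b ^ 4 = 1) →
      E.homSet A B = F.homSet A B) (P : Subgroup Ω) : E.Hom P = F.Hom P := by
  refine Set.Subset.antisymm (hEF P) fun φ hφ => ?_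
  refine mem_hom_iff.2 (isMap_of_small hS hE hF hEF (fun B f hf hB hfB hc he => ?_) (isMap_toFun hφ))
  obtain ⟨ψ, hψ, eψ⟩ := hf.exists_hom
  have hmem : ψ ∈ F.homSet B (fimg f B) := ⟨hψ, fun x => by rw [eψ x]; exact apply_mem_fimg f x.2⟩
  have hB' : IsMulCommutative ↥B := ⟨⟨fun a b => Subtype.ext (hc a a.2 b b.2)⟩⟩
  have hfc : IsMulCommutative ↥(fimg f B) := ⟨⟨fun a b => Subtype.ext (by
    obtain ⟨x, hx, ex⟩ := hf.mem_fimg_iff.1 a.2
    obtain ⟨y, hy, ey⟩ := hf.mem_fimg_iff.1 b.2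
    show (a : Ω) * b = b * a
    rw [← ex, ← ey, ← hf.map_mul hx hy, ← hf.map_mul hy hx, hc x hx y hy])⟩⟩
  have hfe : ∀ b ∈ fimg f B, b ^ smallExp p = 1 := fun b hb => by
    obtain ⟨x, hx, rfl⟩ := hf.mem_fimg_iff.1 hb
    rw [← eψ ⟨x, hx⟩, ← map_pow, show (⟨x, hx⟩ : B) ^ smallExp p = 1 from Subtype.ext (he x hx),
      map_one]
  unfold smallExp at he hfe
  suffices h : E.homSet B (fimg f B) = F.homSet B (fimg f B) from ⟨ψ, (h.symm ▸ hmem).1, eψ⟩
  split_ifs at he hfe with hp2
  · exact htwo hp2 _ _ hB hfB hB' hfc he hfe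
  · exact hodd hp2 _ _ hB hfB ⟨hB', he⟩ ⟨hfc, hfe⟩

end Cfsg.Agent.Fus
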