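import Cfsg.Agent.Lib.Fus.SmallExp
import Cfsg.Agent.Lib.Fus.SmallControl
import Cfsg.Agent.Lib.Fus.NormalCrit
import Cfsg.Agent.Lib.Fus.CharInner
import Cfsg.Agent.Lib.Invol.Critical
import Cfsg.Agent.Lib.Transfer.MaxAbelianExponent

/-!
The cyclic subgroups of order `p` or 4 decide whether `S` is normal in the system.
-/

set_option autoImplicit false
set_option linter.style.haveILetI false
set_option linter.unusedSectionVars false

open scoped Classical commutatorElement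

namespace Cfsg.Agent.Fus

open Subgroup FusionSystem

/-- A characteristic subgroup of small exponent detecting the automorphisms of order prime to
`p`. -/
theorem exists_small_char {P : Type*} [Group P] [Finite P] {p : ℕ} [hp : Fact p.Prime]
    (hP : IsPGroup p P) : ∃ C : Subgroup P, C.Characteristic ∧ (∀ x ∈ C, x ^ smallExp p = 1) ∧
      ∀ a : MulAut P, (orderOf a).Coprime p → (∀ x ∈ C, a x = x) → a = 1 := by
  obtain ⟨H, hHc, hH1, hH2, hH3⟩ := Invol.exists_critical (p := p) hP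
  haveI := hHc
  set n := smallExp p with hn
  have hz : ∀ x ∈ H, ∀ y ∈ H, ∀ z ∈ H ⊓ centralizer (H : Set P), Commute z x ∧ Commute z y :=
    fun x hx y hy z hz => ⟨(Subgroup.mem_centralizer_iff.1 hz.2 x hx).symm,
      (Subgroup.mem_centralizer_iff.1 hz.2 y hy).symm⟩
  have hclosed : ∀ x ∈ H, ∀ y ∈ H, x ^ n = 1 → y ^ n = 1 → (x * y) ^ n = 1 := by
    intro x hx y hy hxn hyn
    have hswap : y * x = x * y * ⁅y⁻¹, x⁻¹⁆ := by rw [commutatorElement_def]; group
    have he : ⁅y⁻¹, x⁻¹⁆ ∈ H ⊓ centralizer (H : Set P) :=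
      hH1 (Subgroup.commutator_mem_commutator (H.inv_mem hy) (Subgroup.mem_top _))
    obtain ⟨hey, hex⟩ := hz y hy x hx _ he
    have hep : ⁅y⁻¹, x⁻¹⁆ ^ p = 1 := by
      have h1 := pow_swap hswap hey p
      rw [← (hz x hx x hx _ (hH2 y hy)).1.symm.eq] at h1
      exact mul_eq_left.1 h1.symm
    have hdvd : p ∣ n.choose 2 := by
      rw [hn, smallExp]
      split_ifs with h2
      · rw [h2]; decide
      · exact hp.out.dvd_choose_self two_ne_zero (lt_of_le_of_ne hp.out.two_le (Ne.symm h2))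
    obtain ⟨m, hm⟩ := hdvd
    rw [mul_pow_of_swap hswap hey hex, hxn, hyn, hm, pow_mul, hep, one_pow, mul_one, mul_one]
  let C : Subgroup P :=
    { carrier := {x | x ∈ H ∧ x ^ n = 1}
      one_mem' := ⟨H.one_mem, one_pow _⟩
      mul_mem' := fun {x y} hx hy => ⟨H.mul_mem hx.1 hy.1, hclosed x hx.1 y hy.1 hx.2 hy.2⟩
      inv_mem' := fun {x} hx => ⟨H.inv_mem hx.1, by rw [inv_pow, hx.2, inv_one]⟩ }
  refine ⟨C, Subgroup.characteristic_iff_map_le.2 fun e => ?_, fun x hx => hx.2, fun a ha h => ?_⟩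
  · rintro _ ⟨x, hx, rfl⟩
    refine ⟨Subgroup.characteristic_iff_map_le.1 hHc e ⟨x, hx.1, rfl⟩, ?_⟩
    rw [← map_pow, hx.2, map_one]
  have hHeq : H.map a.toMonoidHom = H := Subgroup.characteristic_iff_map_eq.1 hHc a
  let aH : MulAut H := (a.subgroupMap H).trans (MulEquiv.subgroupCongr hHeq)
  have hv : ∀ c : H, ((aH c : H) : P) = a c := fun c => rfl
  have hpow : ∀ k : ℕ, ∀ c : H, (((aH ^ k) c : H) : P) = (a ^ k) c := by
    intro k
    induction k with
    | zero => simp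
    | succ k ih => intro c; rw [pow_succ', pow_succ', MulAut.mul_apply, MulAut.mul_apply, hv, ih]
  have haH : aH = 1 := by
    refine eq_one_of_fixed_small (hP.to_subgroup H) aH ?_ fun c hc => Subtype.ext ?_
    · refine Nat.Coprime.coprime_dvd_left (orderOf_dvd_of_pow_eq_one
        (MulEquiv.ext fun c => Subtype.ext ?_)) ha
      rw [hpow, pow_orderOf_eq_one]
      rfl
    · rw [hv]
      exact h _ ⟨c.2, congrArg Subtype.val hc⟩
  refine Invol.aut_eq_one_of_fixed hP hH3 ha fun x hx => ?_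
  rw [← hv ⟨x, hx⟩, haH]
  rfl

universe u

variable {Ω : Type u} [Group Ω] {S : Subgroup Ω} [Finite S] {F : FusionSystem S} {p : ℕ}
  [Fact p.Prime]

/-- The same inside `Q ⊓ H₀`, for a subgroup `H₀` that contains the displacements. -/
theorem exists_small_detector (hS : IsPGroup p S) {Q : Subgroup Ω} (hQS : Q ≤ S) {H₀ : Subgroup Ω}
    (hinv : ∀ β ∈ F.autGroup Q, ∀ x ∈ Q, x ∈ H₀ → autFun β x ∈ H₀)
    (hfoc : ∀ β : F.autGroup Q, (orderOf β).Coprime p → ∀ x ∈ Q,
      x⁻¹ * autFun (β : MulAut Q) x ∈ H₀) :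
    ∃ C ≤ Q ⊓ H₀, (∀ x ∈ C, x ^ smallExp p = 1) ∧
      (∀ β ∈ F.autGroup Q, ∀ x ∈ C, autFun β x ∈ C) ∧
      ∀ β : F.autGroup Q, (orderOf β).Coprime p → (∀ x ∈ C, autFun (β : MulAut Q) x = x) → β = 1 := by
  haveI := finite_of_le hQS
  have hQp : IsPGroup p Q := hS.to_le hQS
  set H := H₀.subgroupOf Q with hH
  obtain ⟨C₀, hC₀, hC₀e, hC₀d⟩ := exists_small_char (hQp.to_subgroup H)
  have hHeq : ∀ β ∈ F.autGroup Q, H.map β.toMonoidHom = H := fun β hβ =>
    Subgroup.eq_of_le_of_card_ge (Subgroup.map_le_iff_le_comap.2 fun q hq => by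
      have := hinv β hβ q q.2 hq
      rw [autFun_coe] at this
      exact this) (Subgroup.card_map_of_injective β.injective).ge
  let res : ∀ β ∈ F.autGroup Q, MulAut H := fun β hβ =>
    (β.subgroupMap H).trans (MulEquiv.subgroupCongr (hHeq β hβ))
  have hres : ∀ β hβ (c : H), (((res β hβ) c : H) : Q) = β c := fun β hβ c => rfl
  set C := (C₀.map H.subtype).map Q.subtype with hC
  refine ⟨C, ?_, ?_, ?_, ?_⟩
  · rintro _ ⟨_, ⟨c, -, rfl⟩, rfl⟩
    exact ⟨(c : Q).2, c.2⟩
  · rintro _ ⟨_, ⟨c, hc, rfl⟩, rfl⟩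
    exact congrArg (fun z : H => ((z : Q) : Ω)) (hC₀e c hc)
  · rintro β hβ _ ⟨_, ⟨c, hc, rfl⟩, rfl⟩
    refine ⟨_, ⟨res β hβ c, Subgroup.characteristic_iff_map_le.1 hC₀ _ ⟨c, hc, rfl⟩, rfl⟩, ?_⟩
    exact ((autFun_coe β (c : Q)).trans (congrArg Subtype.val (hres β hβ c).symm)).symm
  · intro β hβc hfix
    have hord : (orderOf (β : MulAut Q)).Coprime p := by rwa [Subgroup.orderOf_coe]
    have hpow : ∀ k : ℕ, ∀ c : H, ((((res β β.2) ^ k) c : H) : Q) = ((β : MulAut Q) ^ k) c := by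
      intro k
      induction k with
      | zero => simp
      | succ k ih =>
        intro c
        rw [pow_succ', pow_succ', MulAut.mul_apply, MulAut.mul_apply, hres _ β.2, ih]
    have hone : res β β.2 = 1 := by
      refine hC₀d _ ?_ fun c hc => Subtype.ext (Subtype.ext ?_)
      · refine Nat.Coprime.coprime_dvd_left (orderOf_dvd_of_pow_eq_one
          (MulEquiv.ext fun c => Subtype.ext ?_)) hord
        rw [hpow, pow_orderOf_eq_one]
        rfl
      · rw [hres _ β.2]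
        exact (autFun_coe (β : MulAut Q) (c : Q)).symm.trans
          (hfix _ ⟨_, ⟨c, hc, rfl⟩, rfl⟩)
    refine Subtype.ext (MulEquiv.ext fun q => ?_)
    show (β : MulAut Q) q = q
    have hd : q⁻¹ * (β : MulAut Q) q ∈ H := by
      have := hfoc β hβc q q.2
      rw [autFun_coe] at this
      exact this
    refine fix_step hS hQS _ hord (pow_orderOf_eq_one _) ?_
    rw [← hres β β.2 ⟨_, hd⟩, hone]
    rfl

/-- The automorphisms acting trivially on the successive levels of the small elements. -/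
theorem le_or_isPGroup_of_levels (hS : IsPGroup p S) {Q : Subgroup Ω} (hQS : Q ≤ S)
    {H₀ : Subgroup Ω} (hinv : ∀ β ∈ F.autGroup Q, ∀ x ∈ Q, x ∈ H₀ → autFun β x ∈ H₀)
    (hfoc : ∀ β : F.autGroup Q, (orderOf β).Coprime p → ∀ x ∈ Q,
      x⁻¹ * autFun (β : MulAut Q) x ∈ H₀)
    (hlev : ∀ β ∈ F.autGroup Q, ∀ i, ∀ x ∈ Q, x ∈ H₀ → x ^ smallExp p = 1 →
      x ∈ (Subgroup.upperCentralSeries ↥S i).map S.subtype →
      autFun β x ∈ (Subgroup.upperCentralSeries ↥S i).map S.subtype) :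
    ∃ K : Subgroup (F.autGroup Q), K.Normal ∧ IsPGroup p K ∧ ∀ β : F.autGroup Q,
      (∀ x ∈ Q, x ∈ H₀ → x ^ smallExp p = 1 → ∃ s ∈ S, autFun (β : MulAut Q) x = s * x * s⁻¹) →
      β ∈ K := by
  haveI := finite_of_le hQS
  obtain ⟨C, hC, hCe, hCinv, hCd⟩ := exists_small_detector hS hQS hinv hfoc
  have hCQ : C ≤ Q := hC.trans inf_le_left
  set Z : ℕ → Subgroup Ω := fun i => C ⊓ (Subgroup.upperCentralSeries ↥S i).map S.subtype with hZ
  have hZinv : ∀ β : F.autGroup Q, ∀ i, ∀ x ∈ Z i, autFun (β : MulAut Q) x ∈ Z i :=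
    fun β i x hx => ⟨hCinv _ β.2 x hx.1,
      hlev _ β.2 i x (hC hx.1).1 (hC hx.1).2 (hCe x hx.1) hx.2⟩
  let K : Subgroup (F.autGroup Q) :=
    { carrier := {β | ∀ i, ∀ x ∈ Z (i + 1), x⁻¹ * autFun (β : MulAut Q) x ∈ Z i}
      one_mem' := fun i x hx => by
        rw [Subgroup.coe_one, autFun_one (hCQ hx.1), inv_mul_cancel]; exact Subgroup.one_mem _
      mul_mem' := fun {a b} ha hb i x hx => by
        rw [Subgroup.coe_mul, autFun_mul _ _ (hCQ hx.1)]
        have h := Subgroup.mul_mem _ (hb i x hx) (ha i _ (hZinv b _ x hx))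
        simpa [mul_assoc] using h
      inv_mem' := fun {a} ha i x hx => by
        have h := Subgroup.inv_mem _ (ha i _ (hZinv a⁻¹ _ x hx))
        rw [← autFun_mul _ _ (hCQ hx.1), ← Subgroup.coe_mul, mul_inv_cancel, Subgroup.coe_one,
          autFun_one (hCQ hx.1)] at h
        simpa using h }
  refine ⟨K, ⟨fun c hc b => ?_⟩, ?_, fun β hβ i x hx => ?_⟩
  · intro i x hx
    have hxQ := hCQ hx.1
    set y := autFun ((b⁻¹ : F.autGroup Q) : MulAut Q) x with hy
    have hyZ : y ∈ Z (i + 1) := hZinv b⁻¹ _ x hx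
    have h1 := hZinv b i _ (hc i y hyZ)
    have hm := (mem_autGroup hQS).1 b.2
    have hcy : autFun (c : MulAut Q) y ∈ Q := autFun_mem _ (hCQ hyZ.1)
    rw [hm.map_mul (Q.inv_mem (hCQ hyZ.1)) hcy, hm.map_inv (hCQ hyZ.1)] at h1
    have hby : autFun (b : MulAut Q) y = x := by
      rw [hy, ← autFun_mul _ _ hxQ, ← Subgroup.coe_mul, mul_inv_cancel, Subgroup.coe_one,
        autFun_one hxQ]
    rw [hby] at h1
    rw [Subgroup.coe_mul, Subgroup.coe_mul, autFun_mul _ _ hxQ, autFun_mul _ _ (autFun_mem _ hxQ)]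
    exact h1
  · intro β
    obtain ⟨k, m, hm, hord⟩ := Nat.exists_eq_pow_mul_and_not_dvd
      (orderOf_pos β).ne' p (Fact.out : p.Prime).ne_one
    refine ⟨k, Subtype.ext ?_⟩
    set γ := β ^ p ^ k with hγ
    have hγm : (γ : F.autGroup Q) ^ m = 1 := by
      rw [← SubgroupClass.coe_pow, hγ, ← pow_mul, ← hord, pow_orderOf_eq_one]; rfl
    have hγc : (orderOf (γ : F.autGroup Q)).Coprime p :=
      Nat.Coprime.coprime_dvd_left (orderOf_dvd_of_pow_eq_one hγm)
        ((Fact.out : p.Prime).coprime_iff_not_dvd.2 hm).symm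
    refine hCd _ hγc ?_
    have hfix : ∀ i, ∀ x ∈ Z i, autFun ((γ : F.autGroup Q) : MulAut Q) x = x := by
      intro i
      induction i with
      | zero =>
        rintro x ⟨hxC, y, hy, rfl⟩
        rw [SetLike.mem_coe, Subgroup.upperCentralSeries_zero, Subgroup.mem_bot] at hy
        subst hy
        exact ((mem_autGroup hQS).1 (γ : F.autGroup Q).2).map_one
      | succ i ih =>
        intro x hx
        have hxQ := hCQ hx.1
        have h1 := ih _ (γ.2 i x hx)
        rw [show x = ((⟨x, hxQ⟩ : Q) : Ω) from rfl, autFun_coe]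
        refine congrArg Subtype.val (fix_step hS hQS _
          ((Fact.out : p.Prime).coprime_iff_not_dvd.2 hm).symm
          (by rw [← Subgroup.coe_pow, hγm]; rfl) (Subtype.ext ?_))
        rw [← autFun_coe, Subgroup.coe_mul, Subgroup.coe_inv, ← autFun_coe]
        exact h1
    intro x hx
    haveI := hS.isNilpotent
    obtain ⟨c, hc⟩ := (inferInstance : Group.IsNilpotent S).nilpotent'
    exact hfix c x ⟨hx, ⟨x, hQS (hCQ hx)⟩, hc ▸ Subgroup.mem_top _, rfl⟩
  · refine ⟨C.mul_mem (C.inv_mem hx.1) (hCinv _ β.2 x hx.1), ?_⟩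
    obtain ⟨s, hs, e⟩ := hβ x (hC hx.1).1 (hC hx.1).2 (hCe x hx.1)
    obtain ⟨y, hy, rfl⟩ := hx.2
    refine ⟨y⁻¹ * (⟨s, hs⟩ * y * (⟨s, hs⟩ : S)⁻¹), ?_, ?_⟩
    · have h := (Subgroup.mem_upperCentralSeries_succ_iff.1 (Subgroup.inv_mem _ hy)) ⟨s, hs⟩
      simpa [commutatorElement_def, mul_assoc] using h
    · show (y : Ω)⁻¹ * (s * y * s⁻¹) = _
      rw [e]
      rfl

/-- If the maps on small elements of the hyperfocal subgroup preserve the upper central series
then `S` is normal. -/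
theorem isNormal_top_of_levels (hS : IsPGroup p S) (hF : F.IsSaturated p)
    (h : ∀ P f, IsMap F P f → ∀ x ∈ P, x ∈ F.hyperfocalSubgroup p → x ^ smallExp p = 1 →
      ∀ i, x ∈ (Subgroup.upperCentralSeries ↥S i).map S.subtype →
        f x ∈ (Subgroup.upperCentralSeries ↥S i).map S.subtype) : F.IsNormal S := by
  have hH := stronglyClosed_hyperfocal hS hF
  refine isNormal_of_essential hS hF le_rfl (fun α _ x hx => autFun_mem α hx) fun P hP => ?_
  have hPS := hP.1.1
  suffices hle : S ≤ P from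
    ⟨hle, fun α _ x hx => hPS (autFun_mem α (hle hx))⟩
  obtain ⟨K, hKn, hKp, hK⟩ := le_or_isPGroup_of_levels hS hPS (H₀ := F.hyperfocalSubgroup p)
    (fun β hβ x hx hxH => StronglyClosed.apply_mem hH
      (((mem_autGroup hPS).1 hβ).res inf_le_left) inf_le_right (⟨hx, hxH⟩ : x ∈ P ⊓ _))
    (fun β hβ x hx => hyperfocal_mem hPS (Subgroup.subset_closure hβ) hx)
    (fun β hβ i x hx hxH hxn hxi => h P _ ((mem_autGroup hPS).1 hβ) x hx hxH hxn i hxi)
  refine le_of_pgroup_aut hS hP.1 (radical_of_essential hS hP) le_rfl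
    (fun s hs q hq => S.mul_mem (S.mul_mem hs hq) (S.inv_mem hs)) K hKn hKp fun α hα => ?_
  obtain ⟨q, hq, hqe⟩ := mem_autInducedBy.1 hα
  exact hK α fun x hx _ _ => ⟨q, hq, (autFun_coe (α : MulAut P) ⟨x, hx⟩).trans (hqe ⟨x, hx⟩)⟩

/-- If maps on small elements of the hyperfocal subgroup are conjugations, the system is inner. -/
theorem isInner_of_small_conj (hS : IsPGroup p S) (hF : F.IsSaturated p)
    (h : ∀ P f, IsMap F P f → ∀ x ∈ P, x ∈ F.hyperfocalSubgroup p → x ^ smallExp p = 1 →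
      ∃ s ∈ S, f x = s * x * s⁻¹) : IsInner F := by
  have hlev : ∀ P f, IsMap F P f → ∀ x ∈ P, x ∈ F.hyperfocalSubgroup p → x ^ smallExp p = 1 →
      ∀ i, x ∈ (Subgroup.upperCentralSeries ↥S i).map S.subtype →
        f x ∈ (Subgroup.upperCentralSeries ↥S i).map S.subtype := by
    intro P f hf x hx hxH hxn i hxi
    obtain ⟨s, hs, e⟩ := h P f hf x hx hxH hxn
    obtain ⟨y, hy, rfl⟩ := hxi
    rw [e]
    exact ⟨⟨s, hs⟩ * y * ⟨s, hs⟩⁻¹, Subgroup.Normal.conj_mem inferInstance y hy _, rfl⟩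
  have hH := stronglyClosed_hyperfocal hS hF
  have hN := isNormal_top_of_levels hS hF hlev
  obtain ⟨K, hKn, hKp, hK⟩ := le_or_isPGroup_of_levels (F := F) hS le_rfl
    (H₀ := F.hyperfocalSubgroup p)
    (fun β hβ x hx hxH => StronglyClosed.apply_mem hH
      (((mem_autGroup le_rfl).1 hβ).res inf_le_left) inf_le_right (⟨hx, hxH⟩ : x ∈ S ⊓ _))
    (fun β hβ x hx => hyperfocal_mem le_rfl (Subgroup.subset_closure hβ) hx)
    (fun β hβ i x hx hxH hxn hxi => hlev S _ ((mem_autGroup le_rfl).1 hβ) x hx hxH hxn i hxi)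
  have hA : IsPGroup p (F.autGroup S) := by
    intro β
    obtain ⟨k, hk⟩ := hKp ⟨β, hK β fun x hx hxH hxn => h S _ ((mem_autGroup le_rfl).1 β.2) x hx hxH hxn⟩
    exact ⟨k, congrArg Subtype.val hk⟩
  exact isInner_of_autGroup hS hF hN inf_le_left
    (autGroup_le_autInducedBy_of_isPGroup (fullyAutomized_of_fullyNormalized hS hF
      (fullyNormalized_self F)) hA)

omit [Finite S] in
/-- A cyclic group generated by a small element. -/
theorem card_zpowers_small {x : Ω} (hx : x ^ smallExp p = 1) :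
    x = 1 ∨ Nat.card (Subgroup.zpowers x) = p ∨ Nat.card (Subgroup.zpowers x) = 4 := by
  rw [Nat.card_zpowers]
  unfold smallExp at hx
  split_ifs at hx with h2
  · have hd := orderOf_dvd_of_pow_eq_one hx
    have hle : orderOf x ≤ 4 := Nat.le_of_dvd (by norm_num) hd
    interval_cases ho : orderOf x
    · simp at hd
    · exact Or.inl (orderOf_eq_one_iff.1 ho)
    · exact Or.inr (Or.inl h2.symm)
    · norm_num at hd
    · exact Or.inr (Or.inr rfl)
  · rcases (Nat.dvd_prime (Fact.out : p.Prime)).1 (orderOf_dvd_of_pow_eq_one hx) with ho | ho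
    · exact Or.inl (orderOf_eq_one_iff.1 ho)
    · exact Or.inr (Or.inl ho)

/-- If every subgroup of order `p`, or 4 for `p = 2`, of the focal subgroup is normal in `S`, then
`S` is normal in the system. -/
theorem isNormal_top_of_small_normal (hS : IsPGroup p S) (hF : F.IsSaturated p)
    (hnorm : ∀ x ∈ F.focalSubgroup, (x ^ p = 1 ∨ (p = 2 ∧ x ^ 4 = 1)) →
      ∀ s ∈ S, s * x * s⁻¹ ∈ Subgroup.zpowers x) : F.IsNormal S := by
  haveI := hS.isNilpotent
  have hpm : ∀ x ∈ F.focalSubgroup, x ^ smallExp p = 1 → ∀ s ∈ S,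
      s * x * s⁻¹ = x ∨ (p = 2 ∧ s * x * s⁻¹ = x⁻¹) := by
    intro x hx hxn s hs
    by_cases hx1 : x = 1
    · left; subst hx1; group
    have hsm : x ^ p = 1 ∨ (p = 2 ∧ x ^ 4 = 1) := by
      unfold smallExp at hxn
      split_ifs at hxn with h2
      · exact Or.inr ⟨h2, hxn⟩
      · exact Or.inl hxn
    have hxS := focalSubgroup_le F hx
    set y : S := ⟨x, hxS⟩ with hy
    haveI hNn : (Subgroup.zpowers y).Normal := ⟨fun a ha t => by
      obtain ⟨k, rfl⟩ := ha
      obtain ⟨l, hl⟩ := hnorm x hx hsm t t.2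
      refine ⟨l * k, Subtype.ext ?_⟩
      show ((y ^ (l * k) : S) : Ω) = (t : Ω) * ((y ^ k : S) : Ω) * (t : Ω)⁻¹
      rw [SubgroupClass.coe_zpow, SubgroupClass.coe_zpow, show (y : Ω) = x from rfl, zpow_mul,
        show x ^ l = t * x * (t : Ω)⁻¹ from hl, conj_zpow]⟩
    have hyne : y ≠ 1 := fun h => hx1 (congrArg Subtype.val h)
    have hlt : ⁅Subgroup.zpowers y, (⊤ : Subgroup S)⁆ < Subgroup.zpowers y :=
      Transfer.MaxAbelianExponent.commutator_lt_of_normal (mt Subgroup.zpowers_eq_bot.1 hyne)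
    have hc : ⁅(⟨s, hs⟩ : S), y⁆ ∈ ⁅Subgroup.zpowers y, (⊤ : Subgroup S)⁆ := by
      rw [Subgroup.commutator_comm]
      exact Subgroup.commutator_mem_commutator (Subgroup.mem_top _) (Subgroup.mem_zpowers y)
    obtain ⟨k, hk⟩ := hlt.le hc
    replace hk : y ^ k = ⁅(⟨s, hs⟩ : S), y⁆ := hk
    have hkp : (p : ℤ) ∣ k := by
      by_contra hndvd
      refine hlt.not_ge (Subgroup.zpowers_le.2 ?_)
      obtain ⟨r, hr⟩ := hS y
      have hcop : IsCoprime k ((p : ℤ) ^ r) :=
        (((Nat.prime_iff_prime_int.1 (Fact.out : p.Prime)).coprime_iff_not_dvd.2 hndvd).symm).pow_right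
      obtain ⟨a, b, hab⟩ := hcop
      have : y = (y ^ k) ^ a := by
        conv_lhs => rw [← zpow_one y, ← hab, zpow_add, mul_comm a, zpow_mul y k a, mul_comm b,
          zpow_mul y _ b, ← Nat.cast_pow, zpow_natCast, hr, one_zpow, mul_one]
      rw [hk] at this
      exact Eq.mpr (congrArg (· ∈ ⁅Subgroup.zpowers y, (⊤ : Subgroup S)⁆) this)
        (Subgroup.zpow_mem _ hc a)
    obtain ⟨j, rfl⟩ := hkp
    have he : s * x * s⁻¹ = x ^ ((p : ℤ) * j) * x := by
      have h1 := congrArg Subtype.val hk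
      rw [SubgroupClass.coe_zpow] at h1
      rw [h1]
      show s * x * s⁻¹ = ((⁅(⟨s, hs⟩ : S), y⁆ : S) : Ω) * x
      rw [show ((⁅(⟨s, hs⟩ : S), y⁆ : S) : Ω) = s * x * s⁻¹ * x⁻¹ from rfl]
      group
    unfold smallExp at hxn
    split_ifs at hxn with h2
    · subst h2
      rcases Int.even_or_odd j with ⟨r, rfl⟩ | ⟨r, rfl⟩
      · left
        rw [he, show ((2 : ℕ) : ℤ) * (r + r) = ((4 : ℕ) : ℤ) * r by push_cast; ring, zpow_mul,
          zpow_natCast, hxn, one_zpow, one_mul]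
      · right
        refine ⟨rfl, ?_⟩
        rw [he, show ((2 : ℕ) : ℤ) * (2 * r + 1) = ((4 : ℕ) : ℤ) * r + 2 by push_cast; ring,
          zpow_add, zpow_mul, zpow_natCast, hxn, one_zpow, one_mul, ← zpow_add_one,
          show ((2 : ℤ) + 1) = ((4 : ℕ) : ℤ) + (-1) by norm_num, zpow_add, zpow_natCast, hxn,
          one_mul, zpow_neg, zpow_one]
    · left
      rw [he, zpow_mul, zpow_natCast, hxn, one_zpow, one_mul]
  refine isNormal_of_essential hS hF le_rfl (fun α _ x hx => autFun_mem α hx) fun P hP => ?_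
  have hPS := hP.1.1
  haveI := finite_of_le hPS
  suffices hle : S ≤ P from ⟨hle, fun α _ x hx => hPS (autFun_mem α (hle hx))⟩
  have hinv : ∀ β : F.autGroup P, ∀ x ∈ P, x ∈ F.focalSubgroup →
      autFun (β : MulAut P) x ∈ F.focalSubgroup := fun β x hx hxf => by
    have := mul_mem hxf (((mem_autGroup hPS).1 β.2).focal_mem hx)
    rwa [mul_inv_cancel_left] at this
  have hpow : ∀ β : F.autGroup P, ∀ x ∈ P, x ^ smallExp p = 1 →
      autFun (β : MulAut P) x ^ smallExp p = 1 := fun β x hx hxn => by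
    rw [show x = ((⟨x, hx⟩ : P) : Ω) from rfl, autFun_coe, ← Subgroup.coe_pow, ← map_pow,
      show (⟨x, hx⟩ : P) ^ smallExp p = 1 from Subtype.ext hxn, map_one, Subgroup.coe_one]
  let K : Subgroup (F.autGroup P) :=
    { carrier := {β | ∀ x ∈ P, x ∈ F.focalSubgroup → x ^ smallExp p = 1 →
        autFun (β : MulAut P) x = x ∨ (p = 2 ∧ autFun (β : MulAut P) x = x⁻¹)}
      one_mem' := fun x hx _ _ => Or.inl (by rw [Subgroup.coe_one, autFun_one hx])
      mul_mem' := fun {a b} ha hb x hx hxf hxn => by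
        rw [Subgroup.coe_mul, autFun_mul _ _ hx]
        have hax := ha x hx hxf hxn
        have hai : autFun (a : MulAut P) x⁻¹ = (autFun (a : MulAut P) x)⁻¹ :=
          ((mem_autGroup hPS).1 a.2).map_inv hx
        rcases hb x hx hxf hxn with e | ⟨h2, e⟩ <;> rw [e]
        · exact hax
        · rw [hai]
          rcases hax with e' | ⟨-, e'⟩ <;> rw [e']
          · exact Or.inr ⟨h2, rfl⟩
          · exact Or.inl (inv_inv x)
      inv_mem' := fun {a} ha x hx hxf hxn => by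
        have hai := ((mem_autGroup hPS).1 (a⁻¹ : F.autGroup P).2).map_inv hx
        have hinvap : autFun ((a⁻¹ : F.autGroup P) : MulAut P) (autFun (a : MulAut P) x) = x := by
          rw [← autFun_mul _ _ hx, ← Subgroup.coe_mul, inv_mul_cancel, Subgroup.coe_one,
            autFun_one hx]
        rcases ha x hx hxf hxn with e | ⟨h2, e⟩
        · rw [e] at hinvap
          exact Or.inl hinvap
        · rw [e, hai] at hinvap
          exact Or.inr ⟨h2, inv_eq_iff_eq_inv.1 hinvap⟩ }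
  refine le_of_pgroup_aut hS hP.1 (radical_of_essential hS hP) le_rfl
    (fun s hs q hq => S.mul_mem (S.mul_mem hs hq) (S.inv_mem hs)) K ⟨fun c hc b => ?_⟩ ?_ ?_
  · intro x hx hxf hxn
    set y := autFun ((b⁻¹ : F.autGroup P) : MulAut P) x with hy
    have hby : autFun (b : MulAut P) y = x := by
      rw [hy, ← autFun_mul _ _ hx, ← Subgroup.coe_mul, mul_inv_cancel, Subgroup.coe_one,
        autFun_one hx]
    rw [Subgroup.coe_mul, Subgroup.coe_mul, autFun_mul _ _ hx, autFun_mul _ _ (autFun_mem _ hx)]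
    rcases hc y (autFun_mem _ hx) (hinv b⁻¹ x hx hxf) (hpow b⁻¹ x hx hxn) with e | ⟨h2, e⟩ <;>
      rw [← hy, e]
    · exact Or.inl hby
    · exact Or.inr ⟨h2, by rw [((mem_autGroup hPS).1 b.2).map_inv (autFun_mem _ hx), hby]⟩
  · obtain ⟨C, hC, hCe, -, hCd⟩ := exists_small_detector (F := F) hS hPS (H₀ := F.focalSubgroup)
      (fun β hβ => hinv ⟨β, hβ⟩) (fun β _ x hx => ((mem_autGroup hPS).1 β.2).focal_mem hx)
    intro β
    obtain ⟨k, m, hm, hord⟩ := Nat.exists_eq_pow_mul_and_not_dvd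
      (orderOf_pos β).ne' p (Fact.out : p.Prime).ne_one
    refine ⟨k, Subtype.ext ?_⟩
    set γ := β ^ p ^ k with hγ
    have hγm : (γ : F.autGroup P) ^ m = 1 := by
      rw [← SubgroupClass.coe_pow, hγ, ← pow_mul, ← hord, pow_orderOf_eq_one]; rfl
    refine hCd _ (Nat.Coprime.coprime_dvd_left (orderOf_dvd_of_pow_eq_one hγm)
      ((Fact.out : p.Prime).coprime_iff_not_dvd.2 hm).symm) fun x hx => ?_
    have hxP : x ∈ P := (hC hx).1
    rcases γ.2 x hxP (hC hx).2 (hCe x hx) with e | ⟨h2, e⟩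
    · exact e
    -- an inverting automorphism of odd order
    have hm2 : ∀ j, autFun (((γ : F.autGroup P) : MulAut P) ^ (2 * j + 1)) x = x⁻¹ := by
      intro j
      induction j with
      | zero => simpa using e
      | succ j ih =>
        rw [show 2 * (j + 1) + 1 = 2 + (2 * j + 1) by ring, pow_add, autFun_mul _ _ hxP, ih,
          pow_two, autFun_mul _ _ (P.inv_mem hxP),
          ((mem_autGroup hPS).1 (γ : F.autGroup P).2).map_inv hxP, e, inv_inv, e]
    obtain ⟨j, rfl⟩ : Odd m := Nat.not_even_iff_odd.1 fun he =>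
      hm (h2 ▸ he.two_dvd)
    have := hm2 j
    rw [← Subgroup.coe_pow, hγm, Subgroup.coe_one, autFun_one hxP] at this
    rw [e, ← this]
  · intro α hα x hx hxf hxn
    obtain ⟨q, hq, hqe⟩ := mem_autInducedBy.1 hα
    rw [show autFun (α : MulAut P) x = q * x * q⁻¹ from
      (autFun_coe (α : MulAut P) ⟨x, hx⟩).trans (hqe ⟨x, hx⟩)]
    exact hpm x hxf hxn q hq

end Cfsg.Agent.Fus

namespace Cfsg.Agent.Fus

open Subgroup FusionSystem

universe u

variable {Ω : Type u} [Group Ω] {S : Subgroup Ω} [Finite S] {F : FusionSystem S} {p : ℕ}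
  [Fact p.Prime]

/-- The restriction of a map to the cyclic subgroup of a small element of the hyperfocal
subgroup. -/
theorem exists_cyclic_hom (hS : IsPGroup p S) (hF : F.IsSaturated p) {P : Subgroup Ω} {f : Ω → Ω}
    (hf : IsMap F P f) {x : Ω} (hx : x ∈ P) (hxH : x ∈ F.hyperfocalSubgroup p)
    (hxn : x ^ smallExp p = 1) (hx1 : x ≠ 1) :
    ∃ A B : Subgroup Ω, A ≤ F.hyperfocalSubgroup p ∧ B ≤ F.hyperfocalSubgroup p ∧ IsCyclic ↥A ∧
      (Nat.card ↥A = p ∨ Nat.card ↥A = 4) ∧ IsCyclic ↥B ∧ (Nat.card ↥B = p ∨ Nat.card ↥B = 4) ∧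
      ∃ φ ∈ F.homSet A B, ∃ hxA : x ∈ A, φ ⟨x, hxA⟩ = f x := by
  have hxP : Subgroup.zpowers x ≤ P := Subgroup.zpowers_le.2 hx
  obtain ⟨φ, hφ, e⟩ := (hf.res hxP).exists_hom
  have hfH : f x ∈ F.hyperfocalSubgroup p := StronglyClosed.apply_mem
    (stronglyClosed_hyperfocal hS hF) (hf.res inf_le_left) inf_le_right (⟨hx, hxH⟩ : x ∈ P ⊓ _)
  have hord : orderOf (f x) = orderOf x := by
    rw [← e ⟨x, Subgroup.mem_zpowers x⟩, orderOf_injective φ (F.injective_of_mem hφ),
      ← Subgroup.orderOf_coe]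
  have hcard := (card_zpowers_small hxn).resolve_left hx1
  refine ⟨Subgroup.zpowers x, Subgroup.zpowers (f x), Subgroup.zpowers_le.2 hxH,
    Subgroup.zpowers_le.2 hfH, inferInstance, hcard, inferInstance, ?_, φ, ⟨hφ, ?_⟩,
    Subgroup.mem_zpowers x, e ⟨x, Subgroup.mem_zpowers x⟩⟩
  · rwa [Nat.card_zpowers, hord, ← Nat.card_zpowers]
  · rintro ⟨_, k, rfl⟩
    refine ⟨k, ?_⟩
    show f x ^ k = _
    rw [← e ⟨x, Subgroup.mem_zpowers x⟩, ← map_zpow]
    exact congrArg φ (Subtype.ext (by rw [SubgroupClass.coe_zpow]))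

/-- A map of `S` onto itself preserves the upper central series. -/
theorem IsMap.apply_mem_upperCentralSeries {g : Ω → Ω} (hg : IsMap F S g) {i : ℕ} {x : Ω}
    (hx : x ∈ (Subgroup.upperCentralSeries ↥S i).map S.subtype) :
    g x ∈ (Subgroup.upperCentralSeries ↥S i).map S.subtype := by
  obtain ⟨α, -, e⟩ := hg.exists_aut (fimg_eq_self_of_source_top hg)
  obtain ⟨y, hy, rfl⟩ := hx
  refine ⟨α y, ?_, ((autFun_coe α y).symm.trans (e _ y.2))⟩
  have h := Subgroup.comap_upperCentralSeries α i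
  rw [← h] at hy
  exact hy

end Cfsg.Agent.Fus
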