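import Mathlib
import Cfsg.Agent.Lib.Grp.Frattini
import Cfsg.Agent.Lib.Invol.PStableClass

/-!
Elements of order `p`, or 4 when `p = 2`, in a finite `p`-group: they detect automorphisms of order
prime to `p`, and a maximal normal abelian subgroup of this exponent contains all those centralising it.
-/

set_option autoImplicit false
set_option linter.style.haveILetI false

open scoped commutatorElement

namespace Cfsg.Agent.Fus

open Subgroup

/-- The exponent `p`, or 4 for `p = 2`. -/
def smallExp (p : ℕ) : ℕ := if p = 2 then 4 else p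

section Formula

variable {G : Type*} [Group G] {x d e : G}

theorem pow_swap (h : x * d = d * x * e) (hex : Commute e x) (k : ℕ) :
    x ^ k * d = d * x ^ k * e ^ k := by
  induction k with
  | zero => simp
  | succ k ih =>
    calc x ^ (k + 1) * d = x ^ k * (x * d) := by rw [pow_succ]; group
      _ = (x ^ k * d) * x * e := by rw [h]; group
      _ = d * x ^ k * (e ^ k * x) * e := by rw [ih]; group
      _ = _ := by rw [(hex.pow_left k).eq, pow_succ, pow_succ]; group

theorem mul_pow_of_swap (h : x * d = d * x * e) (hex : Commute e x) (hed : Commute e d) (k : ℕ) :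
    (d * x) ^ k = d ^ k * x ^ k * e ^ k.choose 2 := by
  induction k with
  | zero => simp
  | succ k ih =>
    have hc : Commute (e ^ k.choose 2) (d * x) := (hed.mul_right hex).pow_left _
    calc (d * x) ^ (k + 1) = d ^ k * x ^ k * (e ^ k.choose 2 * (d * x)) := by
          rw [pow_succ, ih]; group
      _ = d ^ k * (x ^ k * d) * x * e ^ k.choose 2 := by rw [hc.eq]; group
      _ = d ^ k * d * x ^ k * (e ^ k * x) * e ^ k.choose 2 := by rw [pow_swap h hex]; group
      _ = d ^ (k + 1) * x ^ (k + 1) * (e ^ k * e ^ k.choose 2) := by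
          rw [(hex.pow_left k).eq, pow_succ, pow_succ]; group
      _ = _ := by rw [← pow_add, Nat.choose_succ_succ, Nat.choose_one_right]

end Formula

variable {P : Type*} [Group P] [Finite P] {p : ℕ} [hp : Fact p.Prime]

omit [Finite P] in
theorem pow_smallExp_of_pow {x : P} (h : x ^ p = 1) : x ^ smallExp p = 1 := by
  unfold smallExp
  split_ifs with h2
  · subst h2
    rw [show 4 = 2 * 2 from rfl, pow_mul, h, one_pow]
  · exact h

/-- An automorphism of order prime to `p` fixing the small elements is trivial. -/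
theorem eq_one_of_fixed_small (hP : IsPGroup p P) (a : MulAut P) (ha : (orderOf a).Coprime p)
    (h : ∀ x : P, x ^ smallExp p = 1 → a x = x) : a = 1 := by
  suffices main : ∀ n, ∀ H : Subgroup P, Nat.card H = n → (∀ x ∈ H, a x ∈ H) → ∀ x ∈ H, a x = x from
    MulEquiv.ext fun x => main _ ⊤ rfl (fun _ _ => Subgroup.mem_top _) x (Subgroup.mem_top x)
  intro n
  induction n using Nat.strong_induction_on with
  | _ n ih =>
  intro H hn hH x₀ hx₀
  have small : ∀ K : Subgroup P, K < H → (∀ x ∈ K, a x ∈ K) → ∀ x ∈ K, a x = x := fun K hK hK' =>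
    ih _ (hn ▸ lt_of_le_of_ne (Subgroup.card_le_of_le hK.le)
      fun e => hK.ne (Subgroup.eq_of_le_of_card_ge hK.le e.ge)) K rfl hK'
  -- a fixed displacement is trivial
  have fix : ∀ x, a (x⁻¹ * a x) = x⁻¹ * a x → a x = x := by
    intro x hx
    have hpow : ∀ k : ℕ, (a ^ k) x = x * (x⁻¹ * a x) ^ k := by
      intro k
      induction k with
      | zero => simp
      | succ k ihk =>
        rw [pow_succ', MulAut.mul_apply, ihk, map_mul, map_pow, hx, pow_succ' (x⁻¹ * a x),
          ← mul_assoc x, mul_inv_cancel_left]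
    have h1 := hpow (orderOf a)
    rw [pow_orderOf_eq_one, MulAut.one_apply, left_eq_mul] at h1
    obtain ⟨k, hk⟩ := hP (x⁻¹ * a x)
    have hc : x⁻¹ * a x = 1 := by
      rw [← pow_one (x⁻¹ * a x), ← (ha.pow_right k).gcd_eq_one]
      exact pow_gcd_eq_one.2 ⟨h1, hk⟩
    exact (inv_mul_eq_one.1 hc).symm
  let T : Subgroup P := Subgroup.closure {y | ∃ x ∈ H, x⁻¹ * a x = y}
  have hTH : T ≤ H := (Subgroup.closure_le H).2 (by
    rintro _ ⟨x, hx, rfl⟩
    exact H.mul_mem (H.inv_mem hx) (hH x hx))
  by_cases hTlt : T < H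
  · have hTinv : ∀ y ∈ T, a y ∈ T := by
      intro y hy
      suffices T ≤ T.comap a.toMonoidHom from this hy
      refine (Subgroup.closure_le _).2 ?_
      rintro _ ⟨x, hx, rfl⟩
      exact Subgroup.subset_closure ⟨a x, hH x hx, by simp⟩
    exact fix x₀ (small T hTlt hTinv _ (Subgroup.subset_closure ⟨x₀, hx₀, rfl⟩))
  have hT : T = H := hTH.eq_of_not_lt hTlt
  by_cases hbot : H = ⊥
  · rw [hbot, Subgroup.mem_bot] at hx₀
    rw [hx₀, map_one]
  let aH : MulAut H :=
    { toFun := fun x => ⟨a x, hH x x.2⟩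
      invFun := fun x => ⟨(a ^ (orderOf a - 1)) x, by
        have : ∀ k : ℕ, ∀ y ∈ H, (a ^ k) y ∈ H := by
          intro k
          induction k with
          | zero => simp
          | succ k ihk => intro y hy; rw [pow_succ', MulAut.mul_apply]; exact hH _ (ihk y hy)
        exact this _ x x.2⟩
      left_inv := fun x => Subtype.ext (by
        show (a ^ (orderOf a - 1)) (a x) = x
        rw [← MulAut.mul_apply, ← pow_succ, Nat.sub_add_cancel (orderOf_pos a), pow_orderOf_eq_one,
          MulAut.one_apply])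
      right_inv := fun x => Subtype.ext (by
        show a ((a ^ (orderOf a - 1)) x) = x
        rw [← MulAut.mul_apply, ← pow_succ', Nat.sub_add_cancel (orderOf_pos a), pow_orderOf_eq_one,
          MulAut.one_apply])
      map_mul' := fun x y => Subtype.ext (map_mul a (x : P) y) }
  haveI : Nontrivial H := (Subgroup.nontrivial_iff_ne_bot H).2 hbot
  set Φ := (frattini H).map H.subtype with hΦ
  have hΦlt : Φ < H := by
    refine lt_of_le_of_ne (Subgroup.map_subtype_le _) fun e => ?_
    have e2 : frattini H = ⊤ := Subgroup.map_injective H.subtype_injective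
      (e.trans (MonoidHom.range_eq_map H.subtype ▸ H.range_subtype.symm))
    have e3 : (⊥ : Subgroup H) = ⊤ := frattini_nongenerating (by rw [bot_sup_eq]; exact e2)
    exact bot_ne_top e3
  have hΦfix : ∀ y ∈ Φ, a y = y := small Φ hΦlt fun y hy => by
    obtain ⟨z, hz, rfl⟩ := hy
    exact ⟨aH z, Subgroup.characteristic_iff_map_le.1 inferInstance aH ⟨z, hz, rfl⟩, rfl⟩
  have hPH := hP.to_subgroup H
  have hcommΦ : ∀ f ∈ H, ∀ x ∈ H, ⁅f, x⁆ ∈ Φ := fun f hf x hx =>
    ⟨⁅(⟨f, hf⟩ : H), ⟨x, hx⟩⁆, Grp.pGroup_commutator_le_frattini hPH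
      (Subgroup.commutator_mem_commutator (Subgroup.mem_top _) (Subgroup.mem_top _)), rfl⟩
  have hΦc : ∀ f ∈ Φ, ∀ x ∈ H, x * f = f * x := by
    intro f hf
    suffices H ≤ Subgroup.centralizer {f} from fun x hx =>
      (Subgroup.mem_centralizer_singleton_iff.1 (this hx))
    rw [← hT]
    refine (Subgroup.closure_le _).2 ?_
    rintro _ ⟨x, hx, rfl⟩
    refine Subgroup.mem_centralizer_singleton_iff.2 ?_
    have e : f * a x * f⁻¹ * (a x)⁻¹ = f * x * f⁻¹ * x⁻¹ := by
      have h1 := hΦfix _ (hcommΦ f (hΦlt.le hf) x hx)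
      simp only [commutatorElement_def, map_mul, map_inv, hΦfix f hf] at h1
      exact h1
    calc x⁻¹ * a x * f = f * (f⁻¹ * (x⁻¹ * a x) * f) := by group
      _ = f * (f⁻¹ * x⁻¹ * (f * a x * f⁻¹ * (a x)⁻¹)⁻¹ * f * a x) := by group
      _ = f * (x⁻¹ * a x) := by rw [e]; group
  set x := x₀
  set c := x⁻¹ * a x with hcdef
  have hc : c ∈ H := H.mul_mem (H.inv_mem hx₀) (hH x hx₀)
  set e := ⁅x⁻¹, c⁻¹⁆ with hedef
  have he : e ∈ Φ := hcommΦ _ (H.inv_mem hx₀) _ (H.inv_mem hc)
  have hswap : x * c = c * x * e := by rw [hedef, commutatorElement_def]; group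
  have hex : Commute e x := (hΦc e he x hx₀).symm
  have hec : Commute e c := (hΦc e he c hc).symm
  have hxp : x ^ p ∈ Φ := ⟨(⟨x, hx₀⟩ : H) ^ p, Grp.pGroup_pow_mem_frattini hPH _, rfl⟩
  have hep : e ^ p = 1 := by
    have h1 := pow_swap hswap hex p
    rw [← hΦc _ hxp c hc] at h1
    exact mul_eq_left.1 h1.symm
  have hax : a x = x * c := by rw [hcdef]; group
  have h2 : (x * c) ^ p = x ^ p := by rw [← hax, ← map_pow, hΦfix _ hxp]
  have h3 : (c * x) ^ p = x ^ p := by
    rw [show c * x = c * (x * c) * c⁻¹ by group, conj_pow, h2, hΦc _ hxp c hc, mul_inv_cancel_right]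
  rw [mul_pow_of_swap hswap hex hec p, mul_assoc, ← ((hex.pow_left (p.choose 2)).pow_right p).eq,
    ← mul_assoc, mul_eq_right] at h3
  refine fix x (h c ?_)
  show c ^ smallExp p = 1
  unfold smallExp
  split_ifs with hp2
  · subst hp2
    rw [show Nat.choose 2 2 = 1 from rfl, pow_one, mul_eq_one_iff_eq_inv] at h3
    rw [show 4 = 2 * 2 from rfl, pow_mul, h3, inv_pow, hep, inv_one]
  · have hdvd : p ∣ p.choose 2 := hp.out.dvd_choose_self two_ne_zero
      (lt_of_le_of_ne hp.out.two_le (Ne.symm hp2))
    obtain ⟨m, hm⟩ := hdvd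
    rwa [hm, pow_mul, hep, one_pow, mul_one] at h3

variable {K A : Subgroup P} [K.Normal] [A.Normal]

/-- A maximal abelian normal subgroup of small exponent inside a normal `K` contains the small
elements of `K` centralising it. -/
theorem mem_of_maximal_small (hP : IsPGroup p P) (hAK : A ≤ K) (hAc : A ≤ centralizer (A : Set P))
    (hAe : ∀ a ∈ A, a ^ smallExp p = 1)
    (hmax : ∀ B : Subgroup P, B.Normal → B ≤ K → B ≤ centralizer (B : Set P) →
      (∀ b ∈ B, b ^ smallExp p = 1) → A ≤ B → B ≤ A) {x : P}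
    (hxK : x ∈ K) (hxA : x ∈ centralizer (A : Set P)) (hx : x ^ smallExp p = 1) : x ∈ A := by
  set C := K ⊓ centralizer (A : Set P) with hC
  haveI : (centralizer (A : Set P)).Normal := Subgroup.normal_centralizer
  haveI : C.Normal := Subgroup.normal_inf_normal K _
  suffices main : ∀ i, ∀ x ∈ C, x ∈ Subgroup.upperCentralSeries P i → x ^ smallExp p = 1 → x ∈ A by
    haveI := hP.isNilpotent
    obtain ⟨i, hi⟩ := (inferInstance : Group.IsNilpotent P).nilpotent'
    exact main i x ⟨hxK, hxA⟩ (hi ▸ Subgroup.mem_top x) hx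
  intro i
  induction i with
  | zero =>
    intro x _ hx0 _
    rw [Subgroup.upperCentralSeries_zero, Subgroup.mem_bot] at hx0
    exact hx0 ▸ A.one_mem
  | succ i ih =>
    intro x hxC hxi hxn
    have hAcomm : ∀ a ∈ A, ∀ y ∈ C, a * y = y * a := fun a ha y hy =>
      Subgroup.mem_centralizer_iff.1 hy.2 a ha
    have inner : ∀ j, ∀ d ∈ C, d ∈ Subgroup.upperCentralSeries P i → d ∈ Subgroup.upperCentralSeries P j →
        (x * d) ^ smallExp p = 1 → d ^ smallExp p = 1 := by
      intro j
      induction j with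
      | zero =>
        intro d _ _ hd0 _
        rw [Subgroup.upperCentralSeries_zero, Subgroup.mem_bot] at hd0
        rw [hd0, one_pow]
      | succ j ihj =>
        intro d hdC hdi hdj hxd
        set e := x⁻¹ * d⁻¹ * x * d with hedef
        have heC : e ∈ C := C.mul_mem (by
          simpa using Subgroup.Normal.conj_mem (inferInstance : C.Normal) _ (C.inv_mem hdC) x⁻¹) hdC
        have hei : e ∈ Subgroup.upperCentralSeries P i := Subgroup.mul_mem _ (by
          simpa using Subgroup.Normal.conj_mem
            (inferInstance : (Subgroup.upperCentralSeries P i).Normal) _ (Subgroup.inv_mem _ hdi) x⁻¹) hdi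
        have hej : e ∈ Subgroup.upperCentralSeries P j := by
          have h1 := (Subgroup.upperCentralSeries P j).inv_mem
            ((Subgroup.mem_upperCentralSeries_succ_iff.1 (Subgroup.inv_mem _ hdj)) x⁻¹)
          rw [commutatorElement_def] at h1
          simpa [hedef, mul_assoc] using h1
        have hxe : (x * e) ^ smallExp p = 1 := by
          rw [show x * e = d⁻¹ * x * d⁻¹⁻¹ by rw [hedef]; group, conj_pow, hxn]
          group
        have hen := ihj e heC hei hej hxe
        have heA := ih e heC hei hen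
        have hex : Commute e x := hAcomm e heA x hxC
        have hed : Commute e d := hAcomm e heA d hdC
        have hswap : x * d = d * x * e := by rw [hedef]; group
        have hdx : (d * x) ^ smallExp p = 1 := by
          rw [show d * x = d * (x * d) * d⁻¹ by group, conj_pow, hxd]
          group
        rw [mul_pow_of_swap hswap hex hed, hxn, mul_one] at hdx
        unfold smallExp at hdx hen ⊢
        split_ifs at hdx hen ⊢ with hp2
        · rw [show Nat.choose 4 2 = 6 from rfl, show 6 = 4 + 2 from rfl, pow_add, hen,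
            one_mul] at hdx
          have h8 : (d ^ 2) ^ 4 = 1 := by
            have e4 : d ^ 4 = (e ^ 2)⁻¹ := mul_eq_one_iff_eq_inv.1 hdx
            rw [← pow_mul, show 2 * 4 = 4 * 2 from rfl, pow_mul, e4, inv_pow, ← pow_mul, hen,
              inv_one]
          have hd2 : d ^ 2 ∈ A := ih _ (C.pow_mem hdC 2) (Subgroup.pow_mem _ hdi 2)
            (by simpa [smallExp, hp2] using h8)
          have e2 : e ^ 2 = 1 := by
            have h1 : x * d ^ 2 = d ^ 2 * x * e ^ 2 := by
              calc x * d ^ 2 = (x * d) * d := by rw [pow_two]; group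
                _ = d * x * (e * d) := by rw [hswap]; group
                _ = d * (x * d) * e := by rw [hed.eq]; group
                _ = d * (d * x * e) * e := by rw [hswap]
                _ = _ := by rw [pow_two, pow_two]; group
            rw [← hAcomm _ hd2 x hxC] at h1
            exact left_eq_mul.1 h1
          rwa [e2, mul_one] at hdx
        · have hdvd : p ∣ p.choose 2 := hp.out.dvd_choose_self two_ne_zero
            (lt_of_le_of_ne hp.out.two_le (Ne.symm hp2))
          obtain ⟨m, hm⟩ := hdvd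
          rwa [hm, pow_mul, hen, one_pow, mul_one] at hdx
    have hcomm : ∀ s : P, x⁻¹ * (s * x * s⁻¹) ∈ A := by
      intro s
      set c := x⁻¹ * (s * x * s⁻¹) with hcdef
      have hcC : c ∈ C := C.mul_mem (C.inv_mem hxC) (Subgroup.Normal.conj_mem inferInstance _ hxC s)
      have hci : c ∈ Subgroup.upperCentralSeries P i := by
        have h1 := (Subgroup.mem_upperCentralSeries_succ_iff.1 (Subgroup.inv_mem _ hxi)) s
        rw [commutatorElement_def] at h1
        simpa [hcdef, mul_assoc] using h1
      refine ih c hcC hci (inner i c hcC hci hci ?_)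
      rw [show x * c = s * x * s⁻¹ by rw [hcdef]; group, conj_pow, hxn]
      group
    set B := A ⊔ Subgroup.zpowers x with hB
    have hxB : x ∈ B := Subgroup.mem_sup_right (Subgroup.mem_zpowers x)
    have hBc : B ≤ centralizer (B : Set P) := by
      have h1 : B ≤ centralizer (A : Set P) := sup_le hAc (Subgroup.zpowers_le.2 hxC.2)
      have h2 : B ≤ centralizer {x} := sup_le
        (fun a ha => Subgroup.mem_centralizer_singleton_iff.2 (hAcomm a ha x hxC))
        (Subgroup.zpowers_le.2 (Subgroup.mem_centralizer_singleton_iff.2 rfl))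
      intro b hb
      refine Subgroup.mem_centralizer_iff.2 fun y hy => ?_
      suffices B ≤ centralizer {b} from Subgroup.mem_centralizer_singleton_iff.1 (this hy)
      refine sup_le (fun a ha => Subgroup.mem_centralizer_singleton_iff.2
        (Subgroup.mem_centralizer_iff.1 (h1 hb) a ha)) (Subgroup.zpowers_le.2 ?_)
      exact Subgroup.mem_centralizer_singleton_iff.2
        (Subgroup.mem_centralizer_singleton_iff.1 (h2 hb)).symm
    have hBn : B.Normal := ⟨fun b hb s => by
      have hle : B ≤ B.comap (MulAut.conj s).toMonoidHom := sup_le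
        (fun a ha => Subgroup.mem_sup_left (Subgroup.Normal.conj_mem inferInstance a ha s))
        (Subgroup.zpowers_le.2 (by
          show s * x * s⁻¹ ∈ B
          rw [show s * x * s⁻¹ = x * (x⁻¹ * (s * x * s⁻¹)) by group]
          exact B.mul_mem hxB (Subgroup.mem_sup_left (hcomm s))))
      exact hle hb⟩
    refine hmax B hBn (sup_le hAK (Subgroup.zpowers_le.2 hxC.1)) hBc (fun b hb => ?_) le_sup_left hxB
    rw [hB, Subgroup.mem_sup_of_normal_left] at hb
    obtain ⟨a, ha, y, ⟨k, rfl⟩, rfl⟩ := hb
    have hax : Commute a x := hAcomm a ha x hxC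
    rw [(hax.zpow_right k).mul_pow, hAe a ha, one_mul]
    show (x ^ k) ^ smallExp p = 1
    rw [← zpow_natCast, ← zpow_mul, mul_comm, zpow_mul, zpow_natCast, hxn, one_zpow]

omit [A.Normal] in
/-- Such a subgroup exists. -/
theorem exists_maximal_small (K : Subgroup P) (p : ℕ) :
    ∃ A : Subgroup P, A.Normal ∧ A ≤ K ∧ A ≤ centralizer (A : Set P) ∧
      (∀ a ∈ A, a ^ smallExp p = 1) ∧ ∀ B : Subgroup P, B.Normal → B ≤ K →
        B ≤ centralizer (B : Set P) → (∀ b ∈ B, b ^ smallExp p = 1) → A ≤ B → B ≤ A := by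
  obtain ⟨A, ⟨h1, h2, h3, h4⟩, hmax⟩ := Set.exists_max_image
    {A : Subgroup P | A.Normal ∧ A ≤ K ∧ A ≤ centralizer (A : Set P) ∧
      ∀ a ∈ A, a ^ smallExp p = 1} (fun A => Nat.card A) (Set.toFinite _)
    ⟨⊥, inferInstance, bot_le, bot_le, fun a ha => by rw [Subgroup.mem_bot.1 ha, one_pow]⟩
  exact ⟨A, h1, h2, h3, h4, fun B b1 b2 b3 b4 hAB =>
    (Subgroup.eq_of_le_of_card_ge hAB (hmax B ⟨b1, b2, b3, b4⟩)).ge⟩

end Cfsg.Agent.Fus
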