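import Cfsg.Agent.Lib.Fus.ThreeTwo
import Cfsg.Agent.Lib.Classical.PSpRootGroups

/-!
`Sp₄(F)` as two-by-two matrices over `Mat₂(F)`, and the quaternion 2-subgroups of `SL₂(F)`.
-/

set_option autoImplicit false
set_option linter.style.haveILetI false
set_option linter.unusedSectionVars false

open scoped Classical

namespace Cfsg.Agent.Fus.SpFour

open Matrix Cfsg.Agent.Fus.ThreeTwo

variable {F : Type*} [Field F]

local notation "M2" => Matrix (Fin 2) (Fin 2) F
local notation "M4" => Matrix (Fin 2 ⊕ Fin 2) (Fin 2 ⊕ Fin 2) F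
local notation "Sp4" => Matrix.symplecticGroup (Fin 2) F

/-- Select one of four blocks. -/
def pick (A B C D : M2) (i j : Fin 2) : M2 :=
  if i = 0 then (if j = 0 then A else B) else (if j = 0 then C else D)

/-- The matrix with the given blocks, one for each pair of hyperbolic pairs. -/
def emb (A B C D : M2) : M4 := fun r s =>
  match r, s with
  | .inl i, .inl j => pick A B C D i j 0 0
  | .inl i, .inr j => pick A B C D i j 0 1
  | .inr i, .inl j => pick A B C D i j 1 0
  | .inr i, .inr j => pick A B C D i j 1 1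

theorem emb_mul (A B C D A' B' C' D' : M2) : emb A B C D * emb A' B' C' D' =
    emb (A * A' + B * C') (A * B' + B * D') (C * A' + D * C') (C * B' + D * D') := by
  ext r s
  rcases r with i | i <;> rcases s with j | j <;> fin_cases i <;> fin_cases j <;>
    simp [emb, pick, Matrix.mul_apply, Fintype.sum_sum_type, Fin.sum_univ_two] <;> ring

theorem emb_one : emb (1 : M2) 0 0 1 = 1 := by
  ext r s
  rcases r with i | i <;> rcases s with j | j <;> fin_cases i <;> fin_cases j <;> simp [emb, pick]

theorem emb_neg (A B C D : M2) : emb (-A) (-B) (-C) (-D) = -emb A B C D := by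
  ext r s
  rcases r with i | i <;> rcases s with j | j <;> fin_cases i <;> fin_cases j <;> simp [emb, pick]

theorem emb_inj {A B C D A' B' C' D' : M2} (h : emb A B C D = emb A' B' C' D') :
    A = A' ∧ B = B' ∧ C = C' ∧ D = D' := by
  have hr : ∀ i j : Fin 2, pick A B C D i j = pick A' B' C' D' i j := by
    intro i j
    ext a b
    fin_cases a <;> fin_cases b
    · exact congrFun (congrFun h (.inl i)) (.inl j)
    · exact congrFun (congrFun h (.inl i)) (.inr j)
    · exact congrFun (congrFun h (.inr i)) (.inl j)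
    · exact congrFun (congrFun h (.inr i)) (.inr j)
  exact ⟨hr 0 0, hr 0 1, hr 1 0, hr 1 1⟩

theorem exists_emb (M : M4) : ∃ A B C D, M = emb A B C D := by
  obtain ⟨X, hX⟩ : ∃ X : Fin 2 → Fin 2 → M2, ∀ i j,
      X i j = !![M (.inl i) (.inl j), M (.inl i) (.inr j); M (.inr i) (.inl j), M (.inr i) (.inr j)] :=
    ⟨_, fun _ _ => rfl⟩
  refine ⟨X 0 0, X 0 1, X 1 0, X 1 1, ?_⟩
  ext r s
  rcases r with i | i <;> rcases s with j | j <;> fin_cases i <;> fin_cases j <;> simp [emb, pick, hX]

/-- The criterion for membership in `Sp₄`. -/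
theorem emb_mem {A B C D : M2} (h1 : A.det + B.det = 1) (h2 : C.det + D.det = 1)
    (h3 : A * C.adjugate + B * D.adjugate = 0) : emb A B C D ∈ Matrix.symplecticGroup (Fin 2) F := by
  rw [Matrix.det_fin_two, Matrix.det_fin_two] at h1 h2
  have e00 := congrFun (congrFun h3 0) 0
  have e01 := congrFun (congrFun h3 0) 1
  have e10 := congrFun (congrFun h3 1) 0
  have e11 := congrFun (congrFun h3 1) 1
  simp [Matrix.mul_apply, Fin.sum_univ_two, Matrix.adjugate_fin_two] at e00 e01 e10 e11
  rw [SymplecticGroup.mem_iff]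
  ext r s
  rcases r with i | i <;> rcases s with j | j <;> fin_cases i <;> fin_cases j <;>
    simp [emb, pick, Matrix.J, Matrix.mul_apply, Fintype.sum_sum_type, Fin.sum_univ_two] <;>
    first
      | ring1
      | linear_combination h1
      | linear_combination -h1
      | linear_combination h2
      | linear_combination -h2
      | linear_combination e00
      | linear_combination -e00
      | linear_combination e01
      | linear_combination -e01
      | linear_combination e10
      | linear_combination -e10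
      | linear_combination e11
      | linear_combination -e11

theorem exists_sp {A B C D : M2} (h1 : A.det + B.det = 1) (h2 : C.det + D.det = 1)
    (h3 : A * C.adjugate + B * D.adjugate = 0) : ∃ g : Sp4, (g : M4) = emb A B C D :=
  ⟨⟨_, emb_mem h1 h2 h3⟩, rfl⟩

theorem exists_sp_diag {A D : M2} (hA : A.det = 1) (hD : D.det = 1) :
    ∃ g : Sp4, (g : M4) = emb A 0 0 D :=
  exists_sp (by rw [hA, Matrix.det_zero, add_zero]) (by rw [hD, Matrix.det_zero, zero_add])
    (by simp)

theorem det_diag {A D : M2} (h : emb A 0 0 D ∈ Matrix.symplecticGroup (Fin 2) F) :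
    A.det = 1 ∧ D.det = 1 := by
  rw [SymplecticGroup.mem_iff] at h
  have e0 := congrFun (congrFun h (.inl 0)) (.inr 0)
  have e1 := congrFun (congrFun h (.inl 1)) (.inr 1)
  simp [emb, pick, Matrix.J, Matrix.mul_apply, Fintype.sum_sum_type, Fin.sum_univ_two] at e0 e1
  rw [Matrix.det_fin_two, Matrix.det_fin_two]
  constructor
  · linear_combination -e0
  · linear_combination -e1

/-! ### Quaternion subgroups of `SL₂` -/

/-- Rotation form. -/
def kk (x y : F) : M2 := !![x, -y; y, x]

/-- Reflection form. -/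
def rr (a b : F) : M2 := !![a, b; b, -a]

/-- The rotation of order four. -/
def II : M2 := kk 0 1

theorem det_kk (x y : F) : (kk x y).det = x * x + y * y := by
  rw [Matrix.det_fin_two]; simp [kk]

theorem det_rr (a b : F) : (rr a b).det = -(a * a + b * b) := by
  rw [Matrix.det_fin_two]; simp [rr]; ring

theorem kk_mul (x y x' y' : F) : kk x y * kk x' y' = kk (x * x' - y * y') (x * y' + y * x') := by
  ext i j; fin_cases i <;> fin_cases j <;> simp [kk] <;> ring

theorem rr_mul (a b a' b' : F) : rr a b * rr a' b' = kk (a * a' + b * b') (b * a' - a * b') := by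
  ext i j; fin_cases i <;> fin_cases j <;> simp [kk, rr] <;> ring

theorem kk_rr (x y a b : F) : kk x y * rr a b = rr (x * a - y * b) (x * b + y * a) := by
  ext i j; fin_cases i <;> fin_cases j <;> simp [kk, rr] <;> ring

theorem rr_kk (x y a b : F) : rr a b * kk x y = kk x (-y) * rr a b := by
  ext i j; fin_cases i <;> fin_cases j <;> simp [kk, rr] <;> ring

theorem kk_one : kk (1 : F) 0 = 1 := by
  ext i j; fin_cases i <;> fin_cases j <;> simp [kk]

theorem kk_neg (x y : F) : -kk x y = kk (-x) (-y) := by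
  ext i j; fin_cases i <;> fin_cases j <;> simp [kk]

theorem adj_kk (x y : F) : (kk x y).adjugate = kk x (-y) := by
  ext i j; fin_cases i <;> fin_cases j <;> simp [kk, Matrix.adjugate_fin_two]

theorem rr_neg (a b : F) : -rr a b = rr (-a) (-b) := by
  ext i j; fin_cases i <;> fin_cases j <;> simp [rr]

theorem adj_rr (a b : F) : (rr a b).adjugate = -rr a b := by
  ext i j; fin_cases i <;> fin_cases j <;> simp [rr, Matrix.adjugate_fin_two]

theorem rr_sq {a b : F} (h : a * a + b * b = -1) : rr a b * rr a b = -1 := by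
  rw [rr_mul, h, show b * a - a * b = 0 by ring, ← kk_one, kk_neg, neg_zero]

theorem II_sq : (II : M2) * II = -1 := by
  rw [II, kk_mul, ← kk_one, kk_neg]; congr 1 <;> ring

/-- The 2-part of the rotation torus. -/
def IsC2 (X : M2) : Prop := (∃ x y : F, X = kk x y ∧ x * x + y * y = 1) ∧ Two X

theorem isC2_one : IsC2 (1 : M2) := ⟨⟨1, 0, kk_one.symm, by ring⟩, two_one⟩

theorem isC2_II : IsC2 (II : M2) :=
  ⟨⟨0, 1, rfl, by ring⟩, 2, by
    rw [show (2 : ℕ) ^ 2 = 2 * 2 from rfl, pow_mul, pow_two, pow_two, II_sq, neg_mul_neg, one_mul]⟩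

theorem IsC2.comm {X Y : M2} (h : ∃ x y : F, X = kk x y) (h' : ∃ x y : F, Y = kk x y) :
    Commute X Y := by
  obtain ⟨x, y, rfl⟩ := h
  obtain ⟨x', y', rfl⟩ := h'
  show kk x y * kk x' y' = kk x' y' * kk x y
  rw [kk_mul, kk_mul]; congr 1 <;> ring

theorem IsC2.form {X : M2} (h : IsC2 X) : ∃ x y : F, X = kk x y := by
  obtain ⟨⟨x, y, hx, -⟩, -⟩ := h
  exact ⟨x, y, hx⟩

theorem IsC2.mul {X Y : M2} (h : IsC2 X) (h' : IsC2 Y) : IsC2 (X * Y) := by
  refine ⟨?_, h.2.mul (IsC2.comm h.form h'.form) h'.2⟩
  obtain ⟨⟨x, y, rfl, hn⟩, -⟩ := h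
  obtain ⟨⟨x', y', rfl, hn'⟩, -⟩ := h'
  exact ⟨_, _, kk_mul x y x' y', by linear_combination (x' * x' + y' * y') * hn + hn'⟩

theorem IsC2.neg {X : M2} (h : IsC2 X) : IsC2 (-X) := by
  have h1 := h.mul (isC2_II.mul isC2_II)
  rwa [II_sq, mul_neg, mul_one] at h1

theorem IsC2.adj {X : M2} (h : IsC2 X) : IsC2 X.adjugate := by
  obtain ⟨⟨x, y, rfl, hn⟩, k, hk⟩ := h
  exact ⟨⟨x, -y, adj_kk x y, by linear_combination hn⟩, k, by
    rw [← Matrix.adjugate_pow, hk, Matrix.adjugate_one]⟩

variable {α β : F}

/-- The quaternion group. -/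
def IsQ (α β : F) (X : M2) : Prop := IsC2 X ∨ ∃ c, IsC2 c ∧ X = c * rr α β

theorem IsQ.one : IsQ α β (1 : M2) := Or.inl isC2_one

theorem IsQ.II : IsQ α β (II : M2) := Or.inl isC2_II

theorem IsQ.JJ : IsQ α β (rr α β) := Or.inr ⟨1, isC2_one, (one_mul _).symm⟩

theorem IsQ.KK : IsQ α β ((SpFour.II : M2) * rr α β) := Or.inr ⟨_, isC2_II, rfl⟩

theorem jj_comm {c : M2} (h : IsC2 c) : rr α β * c = c.adjugate * rr α β := by
  obtain ⟨⟨x, y, rfl, -⟩, -⟩ := h
  rw [rr_kk, adj_kk]

theorem IsQ.mul (hj : α * α + β * β = -1) {X Y : M2} (h : IsQ α β X) (h' : IsQ α β Y) :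
    IsQ α β (X * Y) := by
  rcases h with h | ⟨c, h, rfl⟩ <;> rcases h' with h' | ⟨d, h', rfl⟩
  · exact Or.inl (h.mul h')
  · exact Or.inr ⟨_, h.mul h', (mul_assoc _ _ _).symm⟩
  · exact Or.inr ⟨_, h.mul h'.adj, by rw [mul_assoc, jj_comm h', ← mul_assoc]⟩
  · refine Or.inl ?_
    rw [mul_assoc, ← mul_assoc (rr α β), jj_comm h', mul_assoc, rr_sq hj, mul_neg, mul_one, mul_neg]
    exact (h.mul h'.adj).neg

theorem IsQ.det (hj : α * α + β * β = -1) {X : M2} (h : IsQ α β X) : X.det = 1 := by
  rcases h with ⟨⟨x, y, rfl, hn⟩, -⟩ | ⟨c, ⟨⟨x, y, rfl, hn⟩, -⟩, rfl⟩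
  · rw [det_kk, hn]
  · rw [Matrix.det_mul, det_kk, det_rr, hn, hj]; ring

theorem IsQ.neg {X : M2} (h : IsQ α β X) : IsQ α β (-X) := by
  rcases h with h | ⟨c, h, rfl⟩
  · exact Or.inl h.neg
  · exact Or.inr ⟨_, h.neg, (neg_mul c (rr α β)).symm⟩

theorem IsQ.adj {X : M2} (h : IsQ α β X) : IsQ α β X.adjugate := by
  rcases h with h | ⟨c, h, rfl⟩
  · exact Or.inl h.adj
  · refine Or.inr ⟨-c, h.neg, ?_⟩
    rw [Matrix.adjugate_mul_distrib, adj_rr, neg_mul, jj_comm h.adj, neg_mul]
    obtain ⟨⟨x, y, rfl, -⟩, -⟩ := h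
    rw [adj_kk, adj_kk, neg_neg]

theorem mul_adj {X : M2} (h : X.det = 1) : X * X.adjugate = 1 := by
  rw [Matrix.mul_adjugate, h, one_smul]

theorem adj_mul {X : M2} (h : X.det = 1) : X.adjugate * X = 1 := by
  rw [Matrix.adjugate_mul, h, one_smul]

theorem IsQ.ne_zero (hj : α * α + β * β = -1) {X : M2} (h : IsQ α β X) : X ≠ 0 := fun h0 => by
  have := h.det hj
  rw [h0, Matrix.det_zero] at this
  exact zero_ne_one this

theorem IsQ.two (hj : α * α + β * β = -1) {X : M2} (h : IsQ α β X) : Two X := by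
  rcases h with h | ⟨c, h, rfl⟩
  · exact h.2
  · refine Two.of_sq ?_
    have h1 : c * rr α β * (c * rr α β) = -1 := by
      rw [mul_assoc, ← mul_assoc (rr α β), jj_comm h, mul_assoc, rr_sq hj, mul_neg, mul_one, mul_neg,
        mul_adj]
      obtain ⟨⟨x, y, rfl, hn⟩, -⟩ := h
      rw [det_kk, hn]
    rw [h1]
    exact ⟨1, by simp⟩

/-- An element of `Q` of order four in the rotation part is `± II`. -/
theorem IsC2.eq_II (h2 : (2 : F) ≠ 0) {X : M2} (h : IsC2 X) (hX : X * X = -1) :
    X = II ∨ X = -II := by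
  obtain ⟨⟨x, y, rfl, hn⟩, -⟩ := h
  rw [kk_mul, ← kk_one, kk_neg] at hX
  have e1 := congrFun (congrFun hX 0) 0
  simp [kk] at e1
  have hx : x = 0 := by
    have h1 : 2 * (x * x) = 0 := by linear_combination e1 + hn
    exact mul_self_eq_zero.1 ((mul_eq_zero.1 h1).resolve_left h2)
  subst hx
  rcases mul_self_eq_one_iff.1 (show y * y = 1 by linear_combination hn) with rfl | rfl
  · exact Or.inl rfl
  · refine Or.inr ?_
    rw [II, kk_neg, neg_zero]

/-- The rotation torus has no elements of order bigger than four. -/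
def Small (F : Type*) [Field F] : Prop := ∀ X : Matrix (Fin 2) (Fin 2) F, IsC2 X → X * X * (X * X) = 1

theorem Small.c2_cases (h2 : (2 : F) ≠ 0) (hs : Small F) {X : M2} (h : IsC2 X) :
    X = 1 ∨ X = -1 ∨ X = II ∨ X = -II := by
  have h4 := hs X h
  obtain ⟨x, y, hX, hn⟩ := (h.mul h).1
  rw [hX, kk_mul, ← kk_one] at h4
  have e1 := congrFun (congrFun h4 0) 0
  simp [kk] at e1
  have hy : y = 0 := by
    have h1 : 2 * (y * y) = 0 := by linear_combination hn - e1
    exact mul_self_eq_zero.1 ((mul_eq_zero.1 h1).resolve_left h2)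
  subst hy
  rcases mul_self_eq_one_iff.1 (show x * x = 1 by linear_combination hn) with rfl | rfl
  · -- the square is one
    obtain ⟨a, b, rfl, hab⟩ := h.1
    rw [kk_mul, kk_one, ← kk_one] at hX
    have e2 := congrFun (congrFun hX 0) 0
    simp [kk] at e2
    have hb : b = 0 := by
      have h1 : 2 * (b * b) = 0 := by linear_combination hab - e2
      exact mul_self_eq_zero.1 ((mul_eq_zero.1 h1).resolve_left h2)
    subst hb
    rcases mul_self_eq_one_iff.1 (show a * a = 1 by linear_combination hab) with rfl | rfl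
    · exact Or.inl kk_one
    · exact Or.inr (Or.inl (by rw [← kk_one, kk_neg, neg_zero]))
  · exact Or.inr (Or.inr (IsC2.eq_II h2 h (by rw [hX, ← kk_one, kk_neg, neg_zero])))

theorem exists_sum_sq [Fintype F] (hodd : Fintype.card F % 2 = 1) (d : F) :
    ∃ x y : F, x * x + y * y = d := by
  obtain ⟨x, y, h⟩ := FiniteField.exists_root_sum_quadratic (R := F) (f := Polynomial.X ^ 2)
    (g := Polynomial.X ^ 2 - Polynomial.C d) (Polynomial.degree_X_pow 2)
    (Polynomial.degree_X_pow_sub_C (by norm_num) d) (by omega)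
  refine ⟨x, y, ?_⟩
  simp at h
  linear_combination h

theorem exists_alpha [Fintype F] (hodd : Fintype.card F % 2 = 1) :
    ∃ α β : F, α * α + β * β = -1 := exists_sum_sq hodd (-1)

/-- Elements of order four in `SL₂` are conjugate to `II`. -/
theorem exists_conj_II [Fintype F] (hodd : Fintype.card F % 2 = 1) (h2 : (2 : F) ≠ 0) {X : M2}
    (hX : X.det = 1) (hXX : X * X = -1) : ∃ h : M2, h.det = 1 ∧ h * II = X * h := by
  obtain ⟨a, b, c, d, rfl⟩ : ∃ a b c d, X = !![a, b; c, d] :=
    ⟨_, _, _, _, Matrix.eta_fin_two X⟩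
  have e00 := congrFun (congrFun hXX 0) 0
  have e01 := congrFun (congrFun hXX 0) 1
  have e10 := congrFun (congrFun hXX 1) 0
  have e11 := congrFun (congrFun hXX 1) 1
  simp at e00 e01 e10 e11
  rw [Matrix.det_fin_two] at hX
  simp at hX
  -- a vector which is not an eigenvector
  obtain ⟨u, v, huv⟩ : ∃ u v : F, u * (c * u + d * v) - v * (a * u + b * v) ≠ 0 := by
    by_contra hc
    push Not at hc
    have hc0 : c = 0 := by linear_combination hc 1 0
    have hb0 : b = 0 := by linear_combination -hc 0 1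
    have hda : d = a := by linear_combination hc 1 1 - hc0 + hb0
    subst hc0 hb0 hda
    exact h2 (by linear_combination e00 - hX)
  obtain ⟨x, y, hxy⟩ := exists_sum_sq hodd (u * (c * u + d * v) - v * (a * u + b * v))⁻¹
  refine ⟨!![u, a * u + b * v; v, c * u + d * v] * kk x y, ?_, ?_⟩
  · rw [Matrix.det_mul, det_kk, hxy, Matrix.det_fin_two]
    simp
    rw [mul_comm (a * u + b * v) v, mul_inv_cancel₀ huv]
  · rw [mul_assoc, II, (IsC2.comm ⟨x, y, rfl⟩ ⟨0, 1, rfl⟩).eq, ← mul_assoc, ← mul_assoc]
    congr 1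
    ext i j
    fin_cases i <;> fin_cases j <;> simp [kk]
    · linear_combination -(u * e00 + v * e01)
    · linear_combination -(u * e10 + v * e11)

/-- An element normalizing the quaternion group lies in it, up to a rotation of order three. -/
theorem normalizing_Q [Finite F] (h2 : (2 : F) ≠ 0) (hj : α * α + β * β = -1) {a : M2}
    (ha : a.det = 1) (hn : ∀ X, IsQ α β X → IsQ α β (a * X * a.adjugate)) :
    IsQ α β a ∨ (Small F ∧ (a * II * a.adjugate ≠ II ∧ a * II * a.adjugate ≠ -II)) := by
  by_cases hI : a * II * a.adjugate = II ∨ a * II * a.adjugate = -II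
  · left
    -- rotations normalizing lie in the group
    have hrot : ∀ b : M2, b.det = 1 → (∀ X, IsQ α β X → IsQ α β (b * X * b.adjugate)) →
        b * II = II * b → IsQ α β b := by
      intro b hb hbn hbc
      obtain ⟨p, q, r, s, rfl⟩ : ∃ p q r s, b = !![p, q; r, s] := ⟨_, _, _, _, Matrix.eta_fin_two b⟩
      have e00 := congrFun (congrFun hbc 0) 0
      have e01 := congrFun (congrFun hbc 0) 1
      simp [II, kk] at e00 e01
      rw [Matrix.det_fin_two] at hb
      simp at hb
      obtain rfl : q = -r := by linear_combination e00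
      obtain rfl : s = p := e01.symm
      have hbk : !![s, -r; r, s] = kk s r := rfl
      rw [hbk] at hbn ⊢
      have h1 := hbn _ IsQ.JJ
      rw [adj_kk, mul_assoc, rr_kk, ← mul_assoc, neg_neg, kk_mul] at h1
      rcases h1 with ⟨⟨x, y, he, -⟩, -⟩ | ⟨c, hc, he⟩
      · exfalso
        rw [kk_rr] at he
        have f00 := congrFun (congrFun he 0) 0
        have f01 := congrFun (congrFun he 0) 1
        have f10 := congrFun (congrFun he 1) 0
        have f11 := congrFun (congrFun he 1) 1
        simp [kk, rr] at f00 f01 f10 f11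
        have g1 : (s * s - r * r) * α - (s * r + r * s) * β = 0 :=
          (mul_eq_zero.1 (show 2 * ((s * s - r * r) * α - (s * r + r * s) * β) = 0 by
            linear_combination f00 - f11)).resolve_left h2
        have g2 : (s * s - r * r) * β + (s * r + r * s) * α = 0 :=
          (mul_eq_zero.1 (show 2 * ((s * s - r * r) * β + (s * r + r * s) * α) = 0 by
            linear_combination f01 + f10)).resolve_left h2
        have hone : (0 : F) = -1 := by
          linear_combination -((s * s - r * r) * α - (s * r + r * s) * β) * g1 -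
            ((s * s - r * r) * β + (s * r + r * s) * α) * g2 +
            (s * s + r * r) * (s * s + r * r) * hj - (s * s + r * r + 1) * hb
        exact neg_ne_zero.2 (one_ne_zero (α := F)) hone.symm
      · refine Or.inl ⟨⟨s, r, rfl, by linear_combination hb⟩, Two.of_sq ?_⟩
        have h3 := congrArg (· * rr α β) he
        simp only [mul_assoc, rr_sq hj, mul_neg, mul_one, neg_inj] at h3
        rw [kk_mul, h3]
        exact hc.2
    have hswap : ∀ Y : M2, a * Y * a.adjugate * a = a * Y := fun Y => by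
      rw [mul_assoc, adj_mul ha, mul_one]
    rcases hI with hI | hI
    · exact hrot a ha hn (by rw [← hswap II, hI])
    · have h1 : a * II = -(II * a) := by rw [← hswap II, hI, neg_mul]
      have h2' : IsQ α β (rr α β * a) := by
        refine hrot _ (by rw [Matrix.det_mul, IsQ.det hj IsQ.JJ, ha, one_mul]) (fun X hX => ?_) ?_
        · rw [Matrix.adjugate_mul_distrib]
          have := (IsQ.mul hj (IsQ.mul hj IsQ.JJ (hn X hX)) (IsQ.adj (IsQ.JJ (α := α) (β := β))))
          simpa [mul_assoc] using this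
        · rw [mul_assoc, h1, mul_neg, ← mul_assoc, jj_comm isC2_II, II, adj_kk,
            show kk (0 : F) (-1) = -kk 0 1 by rw [kk_neg, neg_zero], neg_mul, neg_mul, neg_neg,
            mul_assoc]
      have := (IsQ.mul hj (IsQ.neg (IsQ.JJ (α := α) (β := β))) h2')
      rwa [neg_mul, ← mul_assoc, rr_sq hj, neg_mul, one_mul, neg_neg] at this
  · push Not at hI
    refine Or.inr ⟨fun X hX => ?_, hI⟩
    by_contra h4
    -- `X` generates the rotation algebra, so `II` goes to `± II`
    have h1 := hn X (Or.inl hX)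
    have hXX : a * X * a.adjugate * (a * X * a.adjugate) = a * (X * X) * a.adjugate := by
      rw [← mul_assoc, ← mul_assoc, mul_assoc (a * X), adj_mul ha, mul_one, mul_assoc a X]
    rcases h1 with ⟨⟨x', y', he, -⟩, -⟩ | ⟨c, hc, he⟩
    · obtain ⟨x, y, rfl, hxy⟩ := hX.1
      have hy : y ≠ 0 := fun h0 => h4 (by
        rw [h0] at hxy ⊢
        rw [kk_mul, kk_mul, ← kk_one]
        congr 1
        · linear_combination (x * x + 1) * hxy
        · ring)
      have hsplit : kk x y = x • (1 : M2) + y • II := by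
        ext i j; fin_cases i <;> fin_cases j <;> simp [kk, II]
      have hsplit' : kk x' y' = x' • (1 : M2) + y' • II := by
        ext i j; fin_cases i <;> fin_cases j <;> simp [kk, II]
      rw [hsplit, hsplit', mul_add, add_mul, Matrix.mul_smul, Matrix.mul_smul, Matrix.smul_mul,
        Matrix.smul_mul, mul_one, mul_adj ha] at he
      have hform : a * II * a.adjugate = kk ((x' - x) / y) (y' / y) := by
        ext i j
        have := congrFun (congrFun he i) j
        simp only [Matrix.add_apply, Matrix.smul_apply, smul_eq_mul] at this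
        fin_cases i <;> fin_cases j <;> simp [kk, II] at this ⊢ <;> field_simp <;>
          linear_combination this
      have hsq : a * II * a.adjugate * (a * II * a.adjugate) = -1 := by
        rw [← mul_assoc, ← mul_assoc, mul_assoc (a * II), adj_mul ha, mul_one, mul_assoc a II, II_sq,
          mul_neg, mul_one, neg_mul, mul_adj ha]
      rw [hform] at hsq hI
      rw [kk_mul, ← kk_one, kk_neg] at hsq
      have e0 := congrFun (congrFun hsq 0) 0
      have e1 := congrFun (congrFun hsq 1) 0
      simp [kk] at e0 e1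
      obtain ⟨u, hu⟩ : ∃ u, u = (x' - x) / y := ⟨_, rfl⟩
      obtain ⟨v, hv⟩ : ∃ v, v = y' / y := ⟨_, rfl⟩
      rw [← hu, ← hv] at e0 e1 hI
      have hdet := congrArg Matrix.det hform
      rw [Matrix.det_mul, Matrix.det_mul, ha, ← hu, ← hv, det_kk, II, det_kk, Matrix.det_adjugate,
        ha, one_pow] at hdet
      have hu0 : u = 0 :=
        mul_self_eq_zero.1 ((mul_eq_zero.1 (show 2 * (u * u) = 0 by
          linear_combination e0 - hdet)).resolve_left h2)
      subst hu0
      rcases mul_self_eq_one_iff.1 (show v * v = 1 by linear_combination -hdet) with rfl | rfl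
      · exact hI.1 rfl
      · exact hI.2 (by rw [II, kk_neg, neg_zero])
    · refine h4 ?_
      have hdc : c.det = 1 := IsQ.det (α := α) (β := β) hj (Or.inl hc)
      have h5 : a * (X * X) * a.adjugate = -1 := by
        rw [← hXX, he, mul_assoc, ← mul_assoc (rr α β), jj_comm hc, mul_assoc, rr_sq hj, mul_neg,
          mul_one, mul_neg, mul_adj hdc]
      have h6 : X * X = -1 := by
        have h7 := congrArg (fun Z => a.adjugate * Z * a) h5
        simp only [mul_assoc, adj_mul ha, mul_one, neg_mul, one_mul, mul_neg] at h7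
        rwa [← mul_assoc a.adjugate, adj_mul ha, one_mul] at h7
      rw [h6, neg_mul_neg, one_mul]

end Cfsg.Agent.Fus.SpFour
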