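import Cfsg.Agent.Lib.Fus.SpFourMat
import Cfsg.Agent.Lib.Fus.SimpleQuotient
import Cfsg.Agent.Lib.Grp.Frattini

/-!
The 2-fusion system of `PSp₄(q)`, `q` odd, is simple.
-/

set_option autoImplicit false
set_option linter.style.haveILetI false
set_option linter.unusedSectionVars false

open scoped Classical

namespace Cfsg.Agent.Fus.SpFour

open Matrix Cfsg.Agent.Fus.ThreeTwo

variable {F : Type*} [Field F]

local notation "M2" => Matrix (Fin 2) (Fin 2) F
local notation "M4" => Matrix (Fin 2 ⊕ Fin 2) (Fin 2 ⊕ Fin 2) F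
local notation "Sp4" => Matrix.symplecticGroup (Fin 2) F

theorem sp_inj {g h : Sp4} (e : (g : M4) = (h : M4)) : g = h := Subtype.ext e

theorem sp_inv_eq {g : Sp4} {M : M4} (h : (g : M4) * M = 1) : ((g⁻¹ : Sp4) : M4) = M := by
  rw [← one_mul M, ← Submonoid.coe_one, ← inv_mul_cancel g, Submonoid.coe_mul, mul_assoc, h, mul_one]

theorem sp_conj {g x y : Sp4} (h : (g : M4) * (x : M4) = (y : M4) * (g : M4)) : g * x * g⁻¹ = y := by
  rw [mul_inv_eq_iff_eq_mul]
  exact sp_inj h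

/-- The kernel sign. -/
def IsPM (c : Sp4) : Prop := (c : M4) = 1 ∨ (c : M4) = -1

theorem IsPM.comm {c : Sp4} (h : IsPM c) (u : Sp4) : c * u = u * c := by
  refine sp_inj ?_
  rcases h with h | h <;> simp [h]

theorem ne_neg {X : M2} (h2 : (2 : F) ≠ 0) (h : X = -X) : X = 0 := by
  ext i j
  have := congrFun (congrFun h i) j
  exact (mul_eq_zero.1 (show 2 * X i j = 0 by
    simp only [Matrix.neg_apply] at this; linear_combination this)).resolve_left h2

variable {α β : F}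

/-- The monomial 2-subgroup. -/
def IsP (α β : F) (g : Sp4) : Prop :=
  ∃ X Y, IsQ α β X ∧ IsQ α β Y ∧ ((g : M4) = emb X 0 0 Y ∨ (g : M4) = emb 0 X Y 0)

theorem IsP.one : IsP α β (1 : Sp4) :=
  ⟨1, 1, IsQ.one, IsQ.one, Or.inl (by rw [Submonoid.coe_one, emb_one])⟩

theorem IsP.mul (hj : α * α + β * β = -1) {g g' : Sp4} (h : IsP α β g) (h' : IsP α β g') :
    IsP α β (g * g') := by
  obtain ⟨X, Y, hX, hY, h⟩ := h
  obtain ⟨X', Y', hX', hY', h'⟩ := h'
  rcases h with h | h <;> rcases h' with h' | h'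
  · exact ⟨_, _, hX.mul hj hX', hY.mul hj hY', Or.inl (by rw [Submonoid.coe_mul, h, h', emb_mul]; simp)⟩
  · exact ⟨_, _, hX.mul hj hX', hY.mul hj hY', Or.inr (by rw [Submonoid.coe_mul, h, h', emb_mul]; simp)⟩
  · exact ⟨_, _, hX.mul hj hY', hY.mul hj hX', Or.inr (by rw [Submonoid.coe_mul, h, h', emb_mul]; simp)⟩
  · exact ⟨_, _, hX.mul hj hY', hY.mul hj hX', Or.inl (by rw [Submonoid.coe_mul, h, h', emb_mul]; simp)⟩

variable [Finite F]

theorem inv_of_closed {K : Type*} [Group K] [Finite K] {S : Set K} (h1 : (1 : K) ∈ S)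
    (hm : ∀ a ∈ S, ∀ b ∈ S, a * b ∈ S) {a : K} (ha : a ∈ S) : a⁻¹ ∈ S := by
  have hn : ∀ n : ℕ, a ^ n ∈ S := fun n => by
    induction n with
    | zero => rwa [pow_zero]
    | succ n ih => rw [pow_succ]; exact hm _ ih _ ha
  rw [show a⁻¹ = a ^ (orderOf a - 1) from inv_eq_of_mul_eq_one_left (by
    rw [← pow_succ, Nat.sub_add_cancel (orderOf_pos a), pow_orderOf_eq_one])]
  exact hn _

/-- The monomial 2-subgroup. -/
def pGroup (hj : α * α + β * β = -1) : Subgroup Sp4 where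
  carrier := {g | IsP α β g}
  one_mem' := IsP.one
  mul_mem' := IsP.mul hj
  inv_mem' := fun ha => inv_of_closed (S := {g : Sp4 | IsP α β g}) IsP.one
    (fun _ h _ h' => IsP.mul hj h h') ha

variable {hj : α * α + β * β = -1}

theorem mem_pGroup {g : Sp4} : g ∈ pGroup hj ↔ IsP α β g := Iff.rfl

theorem isPGroup_pGroup : IsPGroup 2 (pGroup hj) := by
  rintro ⟨g, X, Y, hX, hY, h⟩
  suffices Two g by
    obtain ⟨k, hk⟩ := this
    exact ⟨k, Subtype.ext (by simpa using hk)⟩
  have hdiag : ∀ (x : Sp4) (X Y : M2), Two X → Two Y → (x : M4) = emb X 0 0 Y → Two x := by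
    intro x X Y ⟨i, hi⟩ ⟨j, hj'⟩ hx
    refine ⟨i + j, sp_inj ?_⟩
    have hp : ∀ n : ℕ, ((x ^ n : Sp4) : M4) = emb (X ^ n) 0 0 (Y ^ n) := by
      intro n
      induction n with
      | zero => rw [pow_zero, pow_zero, pow_zero, Submonoid.coe_one, emb_one]
      | succ n ih => rw [pow_succ, Submonoid.coe_mul, ih, hx, emb_mul]; simp [pow_succ]
    rw [hp, Submonoid.coe_one, show X ^ 2 ^ (i + j) = 1 by rw [pow_add, pow_mul, hi, one_pow],
      show Y ^ 2 ^ (i + j) = 1 by rw [add_comm, pow_add, pow_mul, hj', one_pow], emb_one]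
  rcases h with h | h
  · exact hdiag g X Y (hX.two hj) (hY.two hj) h
  · exact Two.of_sq (hdiag _ (X * Y) (Y * X) ((hX.mul hj hY).two hj) ((hY.mul hj hX).two hj)
      (by rw [Submonoid.coe_mul, h, emb_mul]; simp))

theorem exists_diag (hj : α * α + β * β = -1) {X Y : M2} (hX : IsQ α β X) (hY : IsQ α β Y) :
    ∃ g ∈ pGroup hj, (g : M4) = emb X 0 0 Y := by
  obtain ⟨g, hg⟩ := exists_sp_diag (hX.det hj) (hY.det hj)
  exact ⟨g, ⟨X, Y, hX, hY, Or.inl hg⟩, hg⟩

theorem exists_swap (hj : α * α + β * β = -1) :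
    ∃ g ∈ pGroup hj, (g : M4) = emb (0 : M2) 1 1 0 := by
  obtain ⟨g, hg⟩ := exists_sp (A := (0 : M2)) (B := 1) (C := 1) (D := 0) (by simp) (by simp) (by simp)
  exact ⟨g, ⟨1, 1, IsQ.one, IsQ.one, Or.inr hg⟩, hg⟩

theorem mem_of_pm {c : Sp4} (hc : IsPM c) : c ∈ pGroup hj := by
  rcases hc with h | h
  · exact ⟨1, 1, IsQ.one, IsQ.one, Or.inl (by rw [h, emb_one])⟩
  · refine ⟨-1, -1, IsQ.one.neg, IsQ.one.neg, Or.inl ?_⟩
    rw [h, ← emb_one, ← emb_neg, neg_zero]

theorem scalar_of_commute_quat (h2 : (2 : F) ≠ 0) (hj : α * α + β * β = -1) {A : M2}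
    (hI : A * II = II * A) (hJ : A * rr α β = rr α β * A) (hA : A.det = 1) : A = 1 ∨ A = -1 := by
  obtain ⟨p, q, r, s, rfl⟩ : ∃ p q r s, A = !![p, q; r, s] := ⟨_, _, _, _, Matrix.eta_fin_two A⟩
  have e00 := congrFun (congrFun hI 0) 0
  have e01 := congrFun (congrFun hI 0) 1
  have f00 := congrFun (congrFun hJ 0) 0
  have f01 := congrFun (congrFun hJ 0) 1
  simp [II, kk, rr] at e00 e01 f00 f01
  rw [Matrix.det_fin_two] at hA
  simp at hA
  obtain rfl : q = -r := by linear_combination e00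
  obtain rfl : p = s := e01
  have g1 : r * β = 0 := (mul_eq_zero.1 (show 2 * (r * β) = 0 by linear_combination -f00)).resolve_left h2
  have g2 : r * α = 0 := (mul_eq_zero.1 (show 2 * (r * α) = 0 by linear_combination f01)).resolve_left h2
  have hr : r = 0 := by linear_combination r * hj - α * g2 - β * g1
  subst hr
  rcases mul_self_eq_one_iff.1 (show p * p = 1 by linear_combination hA) with rfl | rfl
  · left; ext i j; fin_cases i <;> fin_cases j <;> simp
  · right; ext i j; fin_cases i <;> fin_cases j <;> simp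

/-- The second centre of the monomial group. -/
theorem second_centre (h2 : (2 : F) ≠ 0) {t : Sp4} (ht : t ∈ pGroup hj) (htn : ¬ IsPM t)
    (hc : ∀ u ∈ pGroup hj,
      (t : M4) * (u : M4) = (u : M4) * (t : M4) ∨ (t : M4) * (u : M4) = -((u : M4) * (t : M4))) :
    (t : M4) = emb 1 0 0 (-1) ∨ (t : M4) = emb (-1) 0 0 1 := by
  have hne : ∀ {X : M2}, IsQ α β X → X ≠ 0 := fun hX => hX.ne_zero hj
  obtain ⟨uI, huI, hvI⟩ := exists_diag hj (IsQ.II (α := α) (β := β)) IsQ.one
  obtain ⟨uJ, huJ, hvJ⟩ := exists_diag hj (IsQ.JJ (α := α) (β := β)) IsQ.one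
  obtain ⟨uI', huI', hvI'⟩ := exists_diag hj IsQ.one (IsQ.II (α := α) (β := β))
  obtain ⟨uJ', huJ', hvJ'⟩ := exists_diag hj IsQ.one (IsQ.JJ (α := α) (β := β))
  obtain ⟨X, Y, hX, hY, h | h⟩ := ht
  · have key : ∀ {A B : M2} {u : Sp4}, (u : M4) = emb A 0 0 B → u ∈ pGroup hj →
        (X * A = A * X ∧ Y * B = B * Y) ∨ (X * A = -(A * X) ∧ Y * B = -(B * Y)) := by
      intro A B u hu hum
      rcases hc u hum with h1 | h1 <;> rw [h, hu, emb_mul, emb_mul] at h1
      · obtain ⟨e1, -, -, e4⟩ := emb_inj h1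
        exact Or.inl ⟨by simpa using e1, by simpa using e4⟩
      · rw [← emb_neg] at h1
        obtain ⟨e1, -, -, e4⟩ := emb_inj h1
        exact Or.inr ⟨by simpa using e1, by simpa using e4⟩
    have hpos : ∀ {Z : M2}, IsQ α β Z → Z * 1 = -(1 * Z) → False := fun hZ e => by
      rw [mul_one, one_mul] at e
      exact hne hZ (ne_neg h2 e)
    have hXI : X * II = II * X := (key hvI huI).elim (·.1) (fun e => (hpos hY e.2).elim)
    have hXJ : X * rr α β = rr α β * X := (key hvJ huJ).elim (·.1) (fun e => (hpos hY e.2).elim)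
    have hYI : Y * II = II * Y := (key hvI' huI').elim (·.2) (fun e => (hpos hX e.1).elim)
    have hYJ : Y * rr α β = rr α β * Y := (key hvJ' huJ').elim (·.2) (fun e => (hpos hX e.1).elim)
    rcases scalar_of_commute_quat h2 hj hXI hXJ (hX.det hj) with rfl | rfl <;>
      rcases scalar_of_commute_quat h2 hj hYI hYJ (hY.det hj) with rfl | rfl
    · exact absurd (Or.inl (by rw [h, emb_one])) htn
    · exact Or.inl h
    · exact Or.inr h
    · exact absurd (Or.inr (by rw [h, ← emb_one, ← emb_neg, neg_zero])) htn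
  · exfalso
    have hII : (II : M2) ≠ 1 ∧ (II : M2) ≠ -1 := by
      constructor <;> intro e <;>
      · have := congrFun (congrFun e 1) 0
        simp [II, kk] at this
    have hcancel : ∀ Z : M2, IsQ α β X → II * X = Z * X → II = Z := fun Z hX e => by
      have := congrArg (· * X.adjugate) e
      simpa [mul_assoc, mul_adj (hX.det hj)] using this
    rcases hc uI huI with h1 | h1 <;> rw [h, hvI, emb_mul, emb_mul] at h1
    · obtain ⟨-, e2, -, -⟩ := emb_inj h1
      exact hII.1 (hcancel 1 hX (by simp at e2; rw [← e2, one_mul]))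
    · rw [← emb_neg] at h1
      obtain ⟨-, e2, -, -⟩ := emb_inj h1
      exact hII.2 (hcancel (-1) hX (by simp at e2; rw [neg_one_mul]; exact eq_neg_of_add_eq_zero_left (by
        nth_rw 2 [e2]; simp)))

theorem commute_sign {g : Sp4} {A B C D : M2} (h2 : (2 : F) ≠ 0) (hg : (g : M4) = emb A B C D) :
    ((g : M4) * emb 1 0 0 (-1) = emb 1 0 0 (-1) * (g : M4) → B = 0 ∧ C = 0) ∧
    ((g : M4) * emb 1 0 0 (-1) = emb (-1) 0 0 1 * (g : M4) → A = 0 ∧ D = 0) := by
  constructor <;> intro h <;> rw [hg, emb_mul, emb_mul] at h <;> obtain ⟨e1, e2, e3, e4⟩ := emb_inj h <;>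
    simp at e1 e2 e3 e4
  · exact ⟨ne_neg h2 e2.symm, ne_neg h2 e3⟩
  · exact ⟨ne_neg h2 e1, ne_neg h2 e4.symm⟩

/-- The normalizer of the monomial group. -/
theorem normalizing (h2 : (2 : F) ≠ 0) {g : Sp4}
    (hg : ∀ u ∈ pGroup hj, g * u * g⁻¹ ∈ pGroup hj) :
    ∃ p ∈ pGroup hj, ∃ a : M2, a.det = 1 ∧ (∀ X, IsQ α β X → IsQ α β (a * X * a.adjugate)) ∧
      ∃ d : Sp4, (d : M4) = emb a 0 0 a ∧ g = p * d := by
  obtain ⟨z, hzP, hz⟩ := exists_diag hj (IsQ.one (α := α) (β := β)) (IsQ.one (α := α) (β := β)).neg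
  have hginv := pow_conj_mem hg
  have hsign := second_centre h2 (hg z hzP) (t := g * z * g⁻¹) ?_ ?_
  rotate_left
  · intro hpm
    have h1 : z = g * z * g⁻¹ := by
      calc z = g⁻¹ * (g * z * g⁻¹) * g := by group
        _ = g * z * g⁻¹ * (g⁻¹ * g) := by rw [← hpm.comm]; group
        _ = g * z * g⁻¹ := by group
    rw [← h1] at hpm
    rcases hpm with h | h <;> rw [hz, ← emb_one] at h
    · exact one_ne_zero (mul_left_cancel₀ h2 (by
        have := congrFun (congrFun (emb_inj h).2.2.2 0) 0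
        simp at this
        linear_combination -this))
    · rw [← emb_neg] at h
      exact one_ne_zero (mul_left_cancel₀ h2 (by
        have := congrFun (congrFun (emb_inj h).1 0) 0
        simp at this
        linear_combination this))
  · intro u hu
    have hu' := hginv u hu
    obtain ⟨c, hcm, hc⟩ : ∃ c : Sp4, IsPM c ∧ z * (g⁻¹ * u * g) = c * ((g⁻¹ * u * g) * z) := by
      obtain ⟨X, Y, -, -, h | h⟩ := hu'
      · exact ⟨1, Or.inl rfl, sp_inj (by
          simp only [one_mul, Submonoid.coe_mul] at h ⊢; rw [h, hz, emb_mul, emb_mul]; simp)⟩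
      · obtain ⟨c, hc⟩ := exists_sp (A := (-1 : M2)) (B := 0) (C := 0) (D := -1)
          (by simp [Matrix.det_neg]) (by simp [Matrix.det_neg]) (by simp)
        refine ⟨c, Or.inr (by rw [hc, ← emb_one, ← emb_neg, neg_zero]), sp_inj ?_⟩
        simp only [Submonoid.coe_mul] at h ⊢
        rw [h, hz, hc, emb_mul, emb_mul, emb_mul]
        simp
    have hfin : g * z * g⁻¹ * u = c * (u * (g * z * g⁻¹)) := by
      calc g * z * g⁻¹ * u = g * (z * (g⁻¹ * u * g)) * g⁻¹ := by group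
        _ = g * (c * (g⁻¹ * u * g * z)) * g⁻¹ := by rw [hc]
        _ = g * c * (g⁻¹ * u * g * z) * g⁻¹ := by group
        _ = c * g * (g⁻¹ * u * g * z) * g⁻¹ := by rw [hcm.comm]
        _ = c * (u * (g * z * g⁻¹)) := by group
    have := congrArg (fun x : Sp4 => (x : M4)) hfin
    simp only [Submonoid.coe_mul] at this ⊢
    rcases hcm with h | h <;> rw [h] at this
    · exact Or.inl (by simpa using this)
    · exact Or.inr (by simpa using this)
  obtain ⟨A, B, C, D, hG⟩ := exists_emb (g : M4)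
  obtain ⟨w, hwP, hw⟩ := exists_swap hj
  have hcomm : ((g * z * g⁻¹ : Sp4) : M4) * (g : M4) = (g : M4) * (z : M4) := by
    rw [← Submonoid.coe_mul, inv_mul_cancel_right, Submonoid.coe_mul]
  -- reduce to a diagonal element
  obtain ⟨p0, hp0, g', a, d, hgg, hg'⟩ : ∃ p0 ∈ pGroup hj, ∃ (g' : Sp4) (a d : M2),
      g = p0 * g' ∧ (g' : M4) = emb a 0 0 d := by
    rcases hsign with hs | hs <;> rw [hs, hz] at hcomm
    · obtain ⟨rfl, rfl⟩ := (commute_sign h2 hG).1 hcomm.symm
      exact ⟨1, one_mem _, g, A, D, (one_mul g).symm, hG⟩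
    · obtain ⟨rfl, rfl⟩ := (commute_sign h2 hG).2 hcomm.symm
      refine ⟨w, hwP, w⁻¹ * g, C, B, (mul_inv_cancel_left w g).symm, ?_⟩
      rw [Submonoid.coe_mul, sp_inv_eq (g := w) (M := emb (0 : M2) 1 1 0) (by
        rw [hw, emb_mul]; simp [emb_one]), hG, emb_mul]
      simp
  obtain ⟨hda, hdd⟩ := det_diag (hg' ▸ g'.2)
  have hgn : ∀ u ∈ pGroup hj, g' * u * g'⁻¹ ∈ pGroup hj := by
    intro u hu
    have e : g' = p0⁻¹ * g := by rw [hgg, inv_mul_cancel_left]
    have := (pGroup hj).mul_mem ((pGroup hj).mul_mem ((pGroup hj).inv_mem hp0) (hg u hu)) hp0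
    rwa [show p0⁻¹ * (g * u * g⁻¹) * p0 = g' * u * g'⁻¹ by rw [e]; group] at this
  have hg'inv : ((g'⁻¹ : Sp4) : M4) = emb a.adjugate 0 0 d.adjugate := sp_inv_eq (by
    rw [hg', emb_mul]; simp [mul_adj hda, mul_adj hdd, emb_one])
  have hblock : ∀ {u : Sp4} {X Y X' Y' : M2}, (u : M4) = emb X X' Y' Y → u ∈ pGroup hj →
      ∃ X1 Y1, IsQ α β X1 ∧ IsQ α β Y1 ∧
        (emb (a * X * a.adjugate) (a * X' * d.adjugate) (d * Y' * a.adjugate) (d * Y * d.adjugate) =
          emb X1 0 0 Y1 ∨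
        emb (a * X * a.adjugate) (a * X' * d.adjugate) (d * Y' * a.adjugate) (d * Y * d.adjugate) =
          emb 0 X1 Y1 0) := by
    intro u X Y X' Y' hu hum
    have hv : ((g' * u * g'⁻¹ : Sp4) : M4) = emb (a * X * a.adjugate) (a * X' * d.adjugate)
        (d * Y' * a.adjugate) (d * Y * d.adjugate) := by
      rw [Submonoid.coe_mul, Submonoid.coe_mul, hg', hg'inv, hu, emb_mul, emb_mul]; simp
    obtain ⟨X1, Y1, h1, h2', h⟩ := hgn u hum
    exact ⟨X1, Y1, h1, h2', by rwa [hv] at h⟩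
  have han : ∀ X, IsQ α β X → IsQ α β (a * X * a.adjugate) := by
    intro X hX
    obtain ⟨u, hu, huv⟩ := exists_diag hj hX (IsQ.one (α := α) (β := β))
    obtain ⟨X1, Y1, h1, -, h | h⟩ := hblock huv hu <;> obtain ⟨e1, -, -, e4⟩ := emb_inj h
    · rw [e1]; exact h1
    · exfalso
      simp [mul_adj hdd] at e4
  obtain ⟨q, hq, hqe⟩ : ∃ q, IsQ α β q ∧ d = q * a := by
    obtain ⟨X1, Y1, -, h2', h | h⟩ := hblock hw hwP <;> obtain ⟨e1, e2, e3, -⟩ := emb_inj h
    · exfalso
      have := congrArg Matrix.det e2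
      simp [Matrix.det_mul, hda, Matrix.det_adjugate, hdd] at this
    · refine ⟨Y1, h2', ?_⟩
      rw [← e3, mul_one, mul_assoc, adj_mul hda, mul_one]
  obtain ⟨p1, hp1, hp1v⟩ := exists_diag hj (IsQ.one (α := α) (β := β)) hq
  obtain ⟨da, hdav⟩ := exists_sp_diag hda hda
  refine ⟨p0 * p1, (pGroup hj).mul_mem hp0 hp1, a, hda, han, da, hdav, ?_⟩
  rw [hgg, mul_assoc]
  congr 1
  refine sp_inj ?_
  rw [Submonoid.coe_mul, hg', hp1v, hdav, emb_mul, hqe]
  simp

/-- The rotation of order three. -/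
def rot3 (α β : F) : M2 := (2 : F)⁻¹ • (-1 - II - rr α β - II * rr α β)

theorem rot3_eq (α β : F) : rot3 α β =
    !![(-1 - α + β) / 2, (1 - β - α) / 2; (-1 - β - α) / 2, (-1 + α - β) / 2] := by
  ext i j; fin_cases i <;> fin_cases j <;> simp [rot3, II, kk, rr] <;> ring

theorem det_rot3 (h2 : (2 : F) ≠ 0) (hj : α * α + β * β = -1) : (rot3 α β).det = 1 := by
  rw [rot3_eq, Matrix.det_fin_two]
  simp
  field_simp
  linear_combination -2 * hj

theorem II_rr : (II : M2) * rr α β = rr (-β) α := by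
  rw [II, kk_rr]; congr 1 <;> ring

theorem rot3_II (h2 : (2 : F) ≠ 0) (hj : α * α + β * β = -1) :
    rot3 α β * II = rr α β * rot3 α β := by
  rw [rot3_eq]
  ext i j; fin_cases i <;> fin_cases j <;> simp [II, kk, rr] <;> field_simp
  · linear_combination hj
  · linear_combination hj
  · linear_combination -hj
  · linear_combination hj

theorem rot3_JJ (h2 : (2 : F) ≠ 0) (hj : α * α + β * β = -1) :
    rot3 α β * rr α β = II * rr α β * rot3 α β := by
  rw [rot3_eq, II_rr]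
  ext i j; fin_cases i <;> fin_cases j <;> simp [rr] <;> field_simp <;> ring

theorem rot3_cube (h2 : (2 : F) ≠ 0) (hj : α * α + β * β = -1) :
    rot3 α β * (rot3 α β * rot3 α β) = 1 := by
  have h1 : rot3 α β * rot3 α β = -rot3 α β - 1 := by
    rw [rot3_eq]
    ext i j; fin_cases i <;> fin_cases j <;> simp <;> field_simp
    · linear_combination 2 * hj
    · ring
    · ring
    · linear_combination 2 * hj
  rw [h1, mul_sub, mul_neg, mul_one, h1]
  abel

theorem Small.q_cases (h2 : (2 : F) ≠ 0) (hs : Small F) {X : M2} (h : IsQ α β X) :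
    ∃ Y ∈ ({1, II, rr α β, II * rr α β} : Set M2), X = Y ∨ X = -Y := by
  rcases h with h | ⟨c, h, rfl⟩
  · rcases hs.c2_cases h2 h with rfl | rfl | rfl | rfl
    · exact ⟨1, by simp, Or.inl rfl⟩
    · exact ⟨1, by simp, Or.inr rfl⟩
    · exact ⟨II, by simp, Or.inl rfl⟩
    · exact ⟨II, by simp, Or.inr rfl⟩
  · rcases hs.c2_cases h2 h with rfl | rfl | rfl | rfl
    · exact ⟨rr α β, by simp, Or.inl (one_mul _)⟩
    · exact ⟨rr α β, by simp, Or.inr (neg_one_mul _)⟩
    · exact ⟨II * rr α β, by simp, Or.inl rfl⟩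
    · exact ⟨II * rr α β, by simp, Or.inr (neg_mul _ _)⟩

theorem adj_pm (hj : α * α + β * β = -1) (h2 : (2 : F) ≠ 0) (hs : Small F) {X : M2}
    (h : IsQ α β X) : X.adjugate = X ∨ X.adjugate = -X := by
  have hneg : ∀ Y : M2, (-Y).adjugate = -Y.adjugate := fun Y => by
    ext i j; fin_cases i <;> fin_cases j <;> simp [Matrix.adjugate_fin_two]
  obtain ⟨Y, hY, hXY⟩ := hs.q_cases h2 h
  have hYY : Y.adjugate = Y ∨ Y.adjugate = -Y := by
    simp only [Set.mem_insert_iff, Set.mem_singleton_iff] at hY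
    rcases hY with rfl | rfl | rfl | rfl
    · exact Or.inl Matrix.adjugate_one
    · exact Or.inr (by rw [II, adj_kk, kk_neg, neg_zero])
    · exact Or.inr (adj_rr α β)
    · exact Or.inr (by rw [II_rr, adj_rr])
  rcases hXY with rfl | rfl
  · exact hYY
  · rw [hneg]
    rcases hYY with e | e <;> rw [e]
    · exact Or.inl rfl
    · exact Or.inr rfl

/-- Conjugates inside the small quaternion group differ by a sign. -/
theorem conj_pm (hj : α * α + β * β = -1) (h2 : (2 : F) ≠ 0) (hs : Small F) {A X : M2}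
    (hA : IsQ α β A) (hX : IsQ α β X) : A * X * A.adjugate = X ∨ A * X * A.adjugate = -X := by
  have hAA : A * A.adjugate = 1 := mul_adj (hA.det hj)
  have hsw : A * X = X * A ∨ A * X = -(X * A) := by
    have hm := adj_pm hj h2 hs (hA.mul hj hX)
    rw [Matrix.adjugate_mul_distrib] at hm
    rcases adj_pm hj h2 hs hA with a | a <;> rcases adj_pm hj h2 hs hX with x | x <;>
      rw [a, x] at hm <;> rcases hm with m | m <;>
      (try simp only [neg_mul, mul_neg, neg_neg, neg_inj, neg_eq_iff_eq_neg] at m) <;>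
      first
        | exact Or.inl m.symm
        | exact Or.inr (by rw [m, neg_neg])
        | exact Or.inr m.symm
        | exact Or.inl (by rw [m, neg_neg])
  rcases hsw with e | e
  · exact Or.inl (by rw [e, mul_assoc, hAA, mul_one])
  · exact Or.inr (by rw [e, neg_mul, mul_assoc, hAA, mul_one])

theorem rot3_normalizes (hj : α * α + β * β = -1) (h2 : (2 : F) ≠ 0) (hs : Small F) {X : M2}
    (hX : IsQ α β X) : IsQ α β (rot3 α β * X * (rot3 α β).adjugate) := by
  have hd := det_rot3 h2 hj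
  have hI : rot3 α β * II * (rot3 α β).adjugate = rr α β := by
    rw [rot3_II h2 hj, mul_assoc, mul_adj hd, mul_one]
  have hJ : rot3 α β * rr α β * (rot3 α β).adjugate = II * rr α β := by
    rw [rot3_JJ h2 hj, mul_assoc, mul_adj hd, mul_one]
  obtain ⟨Y, hY, hXY⟩ := hs.q_cases h2 hX
  have hYQ : IsQ α β (rot3 α β * Y * (rot3 α β).adjugate) := by
    simp only [Set.mem_insert_iff, Set.mem_singleton_iff] at hY
    rcases hY with rfl | rfl | rfl | rfl
    · rw [mul_one, mul_adj hd]; exact IsQ.one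
    · rw [hI]; exact IsQ.JJ
    · rw [hJ]; exact IsQ.KK
    · rw [show rot3 α β * (II * rr α β) * (rot3 α β).adjugate =
        (rot3 α β * II * (rot3 α β).adjugate) * (rot3 α β * rr α β * (rot3 α β).adjugate) by
          simp only [← mul_assoc]; rw [mul_assoc (rot3 α β * II) _ (rot3 α β), adj_mul hd, mul_one],
        hI, hJ]
      exact IsQ.JJ.mul hj IsQ.KK
  rcases hXY with rfl | rfl
  · exact hYQ
  · rw [mul_neg, neg_mul]; exact hYQ.neg

/-- Normalizing elements of the quaternion group. -/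
theorem q_normalizer (hj : α * α + β * β = -1) (h2 : (2 : F) ≠ 0) {a : M2} (ha : a.det = 1)
    (hn : ∀ X, IsQ α β X → IsQ α β (a * X * a.adjugate)) :
    IsQ α β a ∨ (Small F ∧ ∃ q, IsQ α β q ∧
      (a = q * rot3 α β ∨ a = q * (rot3 α β * rot3 α β))) := by
  rcases normalizing_Q h2 hj ha hn with h | ⟨hs, hI1, hI2⟩
  · exact Or.inl h
  refine Or.inr ⟨hs, ?_⟩
  have hd := det_rot3 h2 hj
  have hra : (rot3 α β).adjugate = rot3 α β * rot3 α β := by
    calc (rot3 α β).adjugate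
        = (rot3 α β).adjugate * (rot3 α β * (rot3 α β * rot3 α β)) := by
          rw [rot3_cube h2 hj, mul_one]
      _ = rot3 α β * rot3 α β := by rw [← mul_assoc, adj_mul hd, one_mul]
  -- `a` times a power of the rotation fixes `II` up to sign
  have hval : ∀ b : M2, b.det = 1 → (∀ X, IsQ α β X → IsQ α β (b * X * b.adjugate)) →
      (b * II * b.adjugate = II ∨ b * II * b.adjugate = -II) → IsQ α β b := by
    intro b hb hbn hbI
    rcases normalizing_Q h2 hj hb hbn with h | ⟨-, h1, h1'⟩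
    · exact h
    · rcases hbI with e | e
      · exact absurd e h1
      · exact absurd e h1'
  have hanI := hn II IsQ.II
  have hsq : a * II * a.adjugate * (a * II * a.adjugate) = -1 := by
    rw [← mul_assoc, ← mul_assoc, mul_assoc (a * II), adj_mul ha, mul_one, mul_assoc a II, II_sq,
      mul_neg, mul_one, neg_mul, mul_adj ha]
  obtain ⟨Y, hY, hXY⟩ := hs.q_cases h2 hanI
  simp only [Set.mem_insert_iff, Set.mem_singleton_iff] at hY
  rcases hY with rfl | rfl | rfl | rfl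
  · exfalso
    rcases hXY with e | e <;> rw [e] at hsq <;> simp at hsq <;>
    · have := congrFun (congrFun hsq 0) 0
      simp at this
      exact h2 (by linear_combination this)
  · exact absurd (hXY.resolve_right fun e => hI2 e) hI1
  · -- conjugate by the inverse rotation
    have hb := hval ((rot3 α β).adjugate * a) (by simp [Matrix.det_mul, Matrix.det_adjugate, ha, hd])
      (fun X hX => by
        have := rot3_normalizes hj h2 hs (rot3_normalizes hj h2 hs (hn X hX))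
        rw [Matrix.adjugate_mul_distrib, hra, Matrix.adjugate_mul_distrib, hra]
        rw [hra] at this
        simpa [mul_assoc, ← rot3_cube h2 hj] using this) (by
        have hI : (rot3 α β).adjugate * rr α β * rot3 α β = II := by
          rw [mul_assoc, ← rot3_II h2 hj, ← mul_assoc, adj_mul hd, one_mul]
        have e1 : (rot3 α β).adjugate * a * II * ((rot3 α β).adjugate * a).adjugate =
            (rot3 α β).adjugate * (a * II * a.adjugate) * rot3 α β := by
          rw [Matrix.adjugate_mul_distrib, Matrix.adjugate_adjugate' (rot3 α β)]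
          simp [mul_assoc]
        rw [e1]
        rcases hXY with e | e <;> rw [e]
        · exact Or.inl hI
        · exact Or.inr (by rw [mul_neg, neg_mul, hI]))
    obtain ⟨q, hqd⟩ : ∃ q, q = rot3 α β * ((rot3 α β).adjugate * a) * (rot3 α β).adjugate := ⟨_, rfl⟩
    refine ⟨q, hqd ▸ rot3_normalizes hj h2 hs hb, Or.inl ?_⟩
    rw [hqd, mul_assoc, adj_mul hd, mul_one, ← mul_assoc, mul_adj hd, one_mul]
  · have hb := hval (rot3 α β * a) (by simp [Matrix.det_mul, ha, hd])
      (fun X hX => by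
        have := rot3_normalizes hj h2 hs (hn X hX)
        rw [Matrix.adjugate_mul_distrib]
        simpa [mul_assoc] using this) (by
        have hK : rot3 α β * (II * rr α β) * (rot3 α β).adjugate = II := by
          have e1 : rot3 α β * (II * rr α β) = rr α β * (II * rr α β) * rot3 α β := by
            rw [← mul_assoc, rot3_II h2 hj, mul_assoc, rot3_JJ h2 hj, mul_assoc (rr α β)]
          rw [e1, mul_assoc _ (rot3 α β), mul_adj hd, mul_one, ← mul_assoc, jj_comm isC2_II,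
            mul_assoc, rr_sq hj, mul_neg, mul_one, II, adj_kk, kk_neg]
          congr 1 <;> ring
        have e1 : rot3 α β * a * II * (rot3 α β * a).adjugate =
            rot3 α β * (a * II * a.adjugate) * (rot3 α β).adjugate := by
          rw [Matrix.adjugate_mul_distrib]; simp [mul_assoc]
        rw [e1]
        rcases hXY with e | e <;> rw [e]
        · exact Or.inl hK
        · exact Or.inr (by rw [mul_neg, neg_mul, hK]))
    obtain ⟨q, hqd⟩ : ∃ q, q = (rot3 α β * rot3 α β) * (rot3 α β * a) *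
      (rot3 α β * rot3 α β).adjugate := ⟨_, rfl⟩
    refine ⟨q, ?_, Or.inr ?_⟩
    · rw [hqd, Matrix.adjugate_mul_distrib]
      have := rot3_normalizes hj h2 hs (rot3_normalizes hj h2 hs hb)
      simpa [mul_assoc] using this
    · rw [hqd, mul_assoc _ _ (rot3 α β * rot3 α β), adj_mul (by rw [Matrix.det_mul, hd, one_mul]),
        mul_one, ← mul_assoc, mul_assoc (rot3 α β), rot3_cube h2 hj, one_mul]

/-- The rotation of order three inside `Sp₄`. -/
theorem exists_t (h2 : (2 : F) ≠ 0) (hj : α * α + β * β = -1) :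
    ∃ t : Sp4, (t : M4) = emb (rot3 α β) 0 0 (rot3 α β) ∧ t * (t * t) = 1 := by
  obtain ⟨t, ht⟩ := exists_sp_diag (det_rot3 h2 hj) (det_rot3 h2 hj)
  refine ⟨t, ht, sp_inj ?_⟩
  rw [Submonoid.coe_mul, Submonoid.coe_mul, ht, emb_mul, emb_mul, Submonoid.coe_one, ← emb_one]
  simp [rot3_cube h2 hj]

/-- Every normalizing element is in the monomial group or its translate by the rotation. -/
theorem normalizing_cases (h2 : (2 : F) ≠ 0) {t : Sp4}
    (ht : (t : M4) = emb (rot3 α β) 0 0 (rot3 α β)) {g : Sp4}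
    (hg : ∀ u ∈ pGroup hj, g * u * g⁻¹ ∈ pGroup hj) :
    g ∈ pGroup hj ∨ (Small F ∧ ∃ p ∈ pGroup hj, g = p * t ∨ g = p * (t * t)) := by
  obtain ⟨p, hp, a, hda, han, da, hdav, hgp⟩ := normalizing h2 hg
  rcases q_normalizer hj h2 hda han with ha | ⟨hs, q, hq, hqa⟩
  · refine Or.inl ?_
    rw [hgp]
    exact (pGroup hj).mul_mem hp ⟨a, a, ha, ha, Or.inl hdav⟩
  · refine Or.inr ⟨hs, ?_⟩
    obtain ⟨d, hdP, hd⟩ := exists_diag hj hq hq
    refine ⟨p * d, (pGroup hj).mul_mem hp hdP, ?_⟩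
    rcases hqa with e | e
    · left
      rw [hgp, mul_assoc p d]
      congr 1
      refine sp_inj ?_
      rw [Submonoid.coe_mul, hdav, hd, ht, emb_mul]
      simp [e]
    · right
      rw [hgp, mul_assoc p d]
      congr 1
      refine sp_inj ?_
      rw [Submonoid.coe_mul, Submonoid.coe_mul, hdav, hd, ht, emb_mul, emb_mul]
      simp [e]

theorem t_normalizes (h2 : (2 : F) ≠ 0) (hs : Small F) {t : Sp4}
    (ht : (t : M4) = emb (rot3 α β) 0 0 (rot3 α β)) {u : Sp4} (hu : u ∈ pGroup hj) :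
    t * u * t⁻¹ ∈ pGroup hj := by
  have hd := det_rot3 h2 hj
  have hti : ((t⁻¹ : Sp4) : M4) = emb (rot3 α β).adjugate 0 0 (rot3 α β).adjugate := sp_inv_eq (by
    rw [ht, emb_mul]; simp [mul_adj hd, emb_one])
  obtain ⟨X, Y, hX, hY, h⟩ := hu
  refine ⟨_, _, rot3_normalizes hj h2 hs hX, rot3_normalizes hj h2 hs hY, ?_⟩
  rcases h with h | h
  · exact Or.inl (by rw [Submonoid.coe_mul, Submonoid.coe_mul, ht, hti, h, emb_mul, emb_mul]; simp)
  · exact Or.inr (by rw [Submonoid.coe_mul, Submonoid.coe_mul, ht, hti, h, emb_mul, emb_mul]; simp)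

theorem pGroup_maximal (h2 : (2 : F) ≠ 0) {g : Sp4} (hg2 : ∃ k : ℕ, g ^ 2 ^ k = 1)
    (hg : ∀ u ∈ pGroup hj, g * u * g⁻¹ ∈ pGroup hj) : g ∈ pGroup hj := by
  obtain ⟨t, ht, ht3⟩ := exists_t h2 hj
  rcases normalizing_cases h2 ht hg with h | ⟨-, p, hp, h⟩
  · exact h
  obtain ⟨k, hk⟩ := hg2
  have hN : Subgroup.zpowers g ≤ Subgroup.normalizer ((pGroup hj : Subgroup Sp4) : Set Sp4) :=
    Subgroup.zpowers_le.2 (mem_normalizer_of_forall hg (pow_conj_mem hg))
  have hZ : IsPGroup 2 (Subgroup.zpowers g) := by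
    obtain ⟨i, -, hi⟩ := (Nat.dvd_prime_pow Nat.prime_two).1 (orderOf_dvd_of_pow_eq_one hk)
    exact IsPGroup.of_card (n := i) ((Nat.card_zpowers g).trans hi)
  have hsup := IsPGroup.to_sup_of_normal_left' isPGroup_pGroup hZ hN
  obtain ⟨s, hs, hgs, hs3⟩ : ∃ s, s ∈ pGroup hj ⊔ Subgroup.zpowers g ∧ g = p * s ∧ s ^ 3 = 1 := by
    have hmem : p⁻¹ * g ∈ pGroup hj ⊔ Subgroup.zpowers g :=
      Subgroup.mul_mem _ (Subgroup.mem_sup_left ((pGroup hj).inv_mem hp))
        (Subgroup.mem_sup_right (Subgroup.mem_zpowers g))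
    have ht3' : t ^ 3 = 1 := by rw [pow_succ, pow_two, mul_assoc, ht3]
    have hpg : ∀ {x : Sp4}, g = p * x → x ∈ pGroup hj ⊔ Subgroup.zpowers g := fun {x} e => by
      have hx : p⁻¹ * g = x := by rw [e, inv_mul_cancel_left]
      rwa [hx] at hmem
    rcases h with e | e
    · exact ⟨t, hpg e, e, ht3'⟩
    · refine ⟨t * t, hpg e, e, ?_⟩
      rw [← pow_two, ← pow_mul, mul_comm, pow_mul, ht3', one_pow]
  obtain ⟨j, hj'⟩ := hsup ⟨s, hs⟩
  have hsj : s ^ 2 ^ j = 1 := by simpa using congrArg Subtype.val hj'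
  have h3 := pow_gcd_eq_one.2 ⟨hs3, hsj⟩
  rw [(Nat.Coprime.pow_right j (by norm_num : Nat.Coprime 3 2)).gcd_eq_one, pow_one] at h3
  rw [hgs, h3, mul_one]
  exact hp

/-- A fusion-closed subgroup containing more than the centre is everything. -/
theorem closed_eq_top [Fintype F] (hodd : Fintype.card F % 2 = 1) (h2 : (2 : F) ≠ 0)
    {T : Subgroup Sp4} (hpm : ∀ c, IsPM c → c ∈ T)
    (hTc : ∀ g : Sp4, ∀ x ∈ T, g * x * g⁻¹ ∈ pGroup hj → g * x * g⁻¹ ∈ T)
    {t : Sp4} (htT : t ∈ T) (htv : (t : M4) = emb 1 0 0 (-1) ∨ (t : M4) = emb (-1) 0 0 1) :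
    pGroup hj ≤ T := by
  have conj : ∀ (g x y : Sp4), x ∈ T → y ∈ pGroup hj →
      (g : M4) * (x : M4) = (y : M4) * (g : M4) → y ∈ T := by
    intro g x y hx hy h
    have h1 := hTc g x hx (by rw [sp_conj h]; exact hy)
    rwa [sp_conj h] at h1
  obtain ⟨m, hm⟩ := exists_sp_diag (A := (-1 : M2)) (D := -1) (by simp [Matrix.det_neg])
    (by simp [Matrix.det_neg])
  have hmT : m ∈ T := hpm m (Or.inr (by rw [hm, ← emb_one, ← emb_neg, neg_zero]))
  obtain ⟨z, hzT, hz⟩ : ∃ z ∈ T, (z : M4) = emb (1 : M2) 0 0 (-1) := by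
    rcases htv with h | h
    · exact ⟨t, htT, h⟩
    · exact ⟨m * t, T.mul_mem hmT htT, by rw [Submonoid.coe_mul, hm, h, emb_mul]; simp⟩
  obtain ⟨w, hwP, hw⟩ := exists_swap hj
  have hwT : w ∈ T := by
    obtain ⟨d, hd⟩ : ∃ d : M2, d = !![2⁻¹, 0; 0, 1] := ⟨_, rfl⟩
    have hdd : d.det = 2⁻¹ := by rw [hd, Matrix.det_fin_two]; simp
    obtain ⟨g1, hg1⟩ := exists_sp (A := d) (B := d) (C := d) (D := -d)
      (by rw [hdd]; field_simp; ring) (by rw [Matrix.det_neg, hdd]; simp; field_simp; ring)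
      (by
        have : (-d).adjugate = -d.adjugate := by
          ext i j; fin_cases i <;> fin_cases j <;> simp [Matrix.adjugate_fin_two]
        rw [this]; simp)
    exact conj g1 z w hzT hwP (by rw [hg1, hz, hw, emb_mul, emb_mul]; simp)
  have hpair : ∀ X, IsQ α β X → ∀ (y : Sp4), (y : M4) = emb X 0 0 X.adjugate → y ∈ T := by
    intro X hX y hy
    obtain ⟨a, haP, ha⟩ := exists_diag hj hX (IsQ.one (α := α) (β := β))
    have hai : ((a⁻¹ : Sp4) : M4) = emb X.adjugate 0 0 1 := sp_inv_eq (by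
      rw [ha, emb_mul]; simp [mul_adj (hX.det hj), emb_one])
    have h1 := T.mul_mem (hTc a w hwT ((pGroup hj).mul_mem ((pGroup hj).mul_mem haP hwP)
      ((pGroup hj).inv_mem haP))) hwT
    have : y = a * w * a⁻¹ * w := sp_inj (by
      rw [Submonoid.coe_mul, Submonoid.coe_mul, Submonoid.coe_mul, ha, hai, hw, hy, emb_mul, emb_mul,
        emb_mul]
      simp)
    exact this ▸ h1
  -- the diagonal element of order four
  obtain ⟨d, hd⟩ := exists_sp_diag (IsQ.det hj (IsQ.II (α := α) (β := β)))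
    (IsQ.det hj (IsQ.II (α := α) (β := β)))
  have hdT : d ∈ T := by
    obtain ⟨y, hy⟩ := exists_sp_diag (A := (II : M2)) (D := (II : M2).adjugate)
      (IsQ.det hj (IsQ.II (α := α) (β := β))) (IsQ.det hj (IsQ.II (α := α) (β := β)).adj)
    have hyz := T.mul_mem (hpair II IsQ.II y hy) hzT
    have : d = y * z := sp_inj (by
      rw [Submonoid.coe_mul, hy, hz, hd, emb_mul, II, adj_kk]; simp [kk_neg])
    exact this ▸ hyz
  have hord : ∀ X, IsQ α β X → X * X = -1 → ∀ y : Sp4, (y : M4) = emb II 0 0 X → y ∈ T := by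
    intro X hX hXX y hy
    obtain ⟨k, hk1, hk2⟩ := exists_conj_II hodd h2 (hX.det hj) hXX
    obtain ⟨g, hg⟩ := exists_sp_diag (A := (1 : M2)) Matrix.det_one hk1
    exact conj g d y hdT ⟨II, X, IsQ.II, hX, Or.inl hy⟩ (by
      rw [hg, hd, hy, emb_mul, emb_mul]; simp [hk2])
  have hKK : (II * rr α β) * (II * rr α β) = (-1 : M2) := by
    rw [II_rr, rr_sq (show (-β) * (-β) + α * α = -1 by linear_combination hj)]
  -- one-sided elements of order four
  obtain ⟨k0, hk0T, hk0⟩ : ∃ k0 ∈ T, (k0 : M4) = emb 1 0 0 (II * rr α β) := by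
    obtain ⟨y, hy⟩ := exists_sp_diag (IsQ.det hj (IsQ.II (α := α) (β := β)))
      (IsQ.det hj (IsQ.JJ (α := α) (β := β)))
    have h1 := T.mul_mem (T.mul_mem (T.inv_mem hdT) (hord _ IsQ.JJ (rr_sq hj) y hy)) hzT
    refine ⟨_, h1, ?_⟩
    rw [Submonoid.coe_mul, Submonoid.coe_mul, sp_inv_eq (g := d) (M := emb (II : M2).adjugate 0 0
      (II : M2).adjugate) (by
      rw [hd, emb_mul]; simp [mul_adj (IsQ.det hj (IsQ.II (α := α) (β := β))), emb_one]),
      hy, hz, emb_mul, emb_mul]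
    simp only [mul_zero, add_zero, zero_add, mul_one, zero_mul, mul_neg]
    rw [adj_mul (IsQ.det hj (IsQ.II (α := α) (β := β))), II, adj_kk, ← neg_mul, kk_neg, neg_neg]
    simp
  have hfour : ∀ X, IsQ α β X → X * X = -1 → ∀ y : Sp4, (y : M4) = emb 1 0 0 X → y ∈ T := by
    intro X hX hXX y hy
    obtain ⟨h1, h1d, h1e⟩ := exists_conj_II hodd h2 (IsQ.det hj (IsQ.KK (α := α) (β := β))) hKK
    obtain ⟨h', h'd, h'e⟩ := exists_conj_II hodd h2 (hX.det hj) hXX
    obtain ⟨g, hg⟩ := exists_sp_diag (A := (1 : M2)) (D := h' * h1.adjugate) Matrix.det_one (by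
      rw [Matrix.det_mul, h'd, Matrix.det_adjugate, h1d]; simp)
    refine conj g k0 y hk0T ⟨1, X, IsQ.one, hX, Or.inl hy⟩ ?_
    rw [hg, hk0, hy, emb_mul, emb_mul]
    simp only [mul_zero, add_zero, zero_add, mul_one, zero_mul, one_mul]
    congr 1
    have e : h1.adjugate * (II * rr α β) = II * h1.adjugate := by
      calc h1.adjugate * (II * rr α β) = h1.adjugate * ((II * rr α β) * h1) * h1.adjugate := by
            rw [mul_assoc h1.adjugate, mul_assoc (II * rr α β), mul_adj h1d, mul_one]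
        _ = II * h1.adjugate := by
          rw [← h1e, ← mul_assoc h1.adjugate, adj_mul h1d, one_mul]
    rw [mul_assoc, e, ← mul_assoc, h'e, mul_assoc]
  have hright : ∀ X, IsQ α β X → ∀ y : Sp4, (y : M4) = emb 1 0 0 X → y ∈ T := by
    intro X hX y hy
    rcases hX with hX | ⟨c, hc, rfl⟩
    · obtain ⟨a, haP, ha⟩ := exists_diag hj (IsQ.one (α := α) (β := β))
        (Or.inr ⟨X, hX, rfl⟩ : IsQ α β (X * rr α β))
      obtain ⟨b, hbP, hb⟩ := exists_diag hj (IsQ.one (α := α) (β := β)) (IsQ.JJ (α := α) (β := β))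
      have e : (X * rr α β) * (X * rr α β) = -1 := by
        rw [mul_assoc, ← mul_assoc (rr α β), jj_comm hX, mul_assoc, rr_sq hj, mul_neg, mul_one,
          mul_neg, mul_adj (IsQ.det (α := α) (β := β) hj (Or.inl hX))]
      have h1 := T.mul_mem (T.mul_mem (hfour _ (Or.inr ⟨X, hX, rfl⟩) e a ha)
        (hfour _ IsQ.JJ (rr_sq hj) b hb)) hzT
      have : y = a * b * z := sp_inj (by
        rw [Submonoid.coe_mul, Submonoid.coe_mul, ha, hb, hz, hy, emb_mul, emb_mul]
        simp [mul_assoc, rr_sq hj])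
      exact this ▸ h1
    · refine hfour _ (Or.inr ⟨c, hc, rfl⟩) ?_ y hy
      rw [mul_assoc, ← mul_assoc (rr α β), jj_comm hc, mul_assoc, rr_sq hj, mul_neg, mul_one,
        mul_neg, mul_adj (IsQ.det (α := α) (β := β) hj (Or.inl hc))]
  have hd2 : ∀ X Y, IsQ α β X → IsQ α β Y → ∀ y : Sp4, (y : M4) = emb X 0 0 Y → y ∈ T := by
    intro X Y hX hY y hy
    obtain ⟨a, haP, ha⟩ := exists_diag hj (IsQ.one (α := α) (β := β)) hX
    obtain ⟨b, hbP, hb⟩ := exists_diag hj (IsQ.one (α := α) (β := β)) hY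
    have h1 := T.mul_mem (T.mul_mem (T.mul_mem hwT (hright X hX a ha)) hwT) (hright Y hY b hb)
    have : y = w * a * w * b := sp_inj (by
      rw [Submonoid.coe_mul, Submonoid.coe_mul, Submonoid.coe_mul, hw, ha, hb, hy, emb_mul, emb_mul,
        emb_mul]
      simp)
    exact this ▸ h1
  rintro u ⟨X, Y, hX, hY, h | h⟩
  · exact hd2 X Y hX hY u h
  · have h1 : u * w ∈ T := hd2 X Y hX hY _ (by rw [Submonoid.coe_mul, h, hw, emb_mul]; simp)
    have := T.mul_mem h1 (T.inv_mem hwT)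
    rwa [mul_inv_cancel_right] at this

/-! ### The extraspecial subgroup of order 32 -/

/-- The extraspecial subgroup. -/
def IsR (α β : F) (g : Sp4) : Prop :=
  ∃ X Y, IsQ α β X ∧ (Y = X ∨ Y = -X) ∧ ((g : M4) = emb X 0 0 Y ∨ (g : M4) = emb 0 X Y 0)

theorem IsR.mul (hj : α * α + β * β = -1) {g g' : Sp4} (h : IsR α β g) (h' : IsR α β g') :
    IsR α β (g * g') := by
  obtain ⟨X, Y, hX, hY, h⟩ := h
  obtain ⟨X', Y', hX', hY', h'⟩ := h'
  have hXY' : IsQ α β (X * Y') := by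
    rcases hY' with rfl | rfl
    · exact hX.mul hj hX'
    · exact hX.mul hj hX'.neg
  rcases h with h | h <;> rcases h' with h' | h'
  · exact ⟨_, Y * Y', hX.mul hj hX', by rcases hY with rfl | rfl <;> rcases hY' with rfl | rfl <;> simp,
      Or.inl (by rw [Submonoid.coe_mul, h, h', emb_mul]; simp)⟩
  · exact ⟨_, Y * Y', hX.mul hj hX', by rcases hY with rfl | rfl <;> rcases hY' with rfl | rfl <;> simp,
      Or.inr (by rw [Submonoid.coe_mul, h, h', emb_mul]; simp)⟩
  · exact ⟨_, Y * X', hXY', by rcases hY with rfl | rfl <;> rcases hY' with rfl | rfl <;> simp,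
      Or.inr (by rw [Submonoid.coe_mul, h, h', emb_mul]; simp)⟩
  · exact ⟨_, Y * X', hXY', by rcases hY with rfl | rfl <;> rcases hY' with rfl | rfl <;> simp,
      Or.inl (by rw [Submonoid.coe_mul, h, h', emb_mul]; simp)⟩

theorem IsR.one : IsR α β (1 : Sp4) :=
  ⟨1, 1, IsQ.one, Or.inl rfl, Or.inl (by rw [Submonoid.coe_one, emb_one])⟩

/-- The extraspecial subgroup. -/
def rGroup (hj : α * α + β * β = -1) : Subgroup Sp4 where
  carrier := {g | IsR α β g}
  one_mem' := IsR.one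
  mul_mem' := IsR.mul hj
  inv_mem' := fun ha => inv_of_closed (S := {g : Sp4 | IsR α β g}) IsR.one
    (fun _ h _ h' => IsR.mul hj h h') ha

theorem rGroup_le : rGroup hj ≤ pGroup hj := by
  rintro g ⟨X, Y, hX, hY, h⟩
  refine ⟨X, Y, hX, ?_, h⟩
  rcases hY with rfl | rfl
  · exact hX
  · exact hX.neg

theorem pGroup_normalizes (h2 : (2 : F) ≠ 0) (hs : Small F) {g u : Sp4} (hg : g ∈ pGroup hj)
    (hu : u ∈ rGroup hj) : g * u * g⁻¹ ∈ rGroup hj := by
  obtain ⟨A, B, hA, hB, hgv⟩ := hg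
  obtain ⟨X, Y, hX, hY, huv⟩ := hu
  have hAA := mul_adj (hA.det hj)
  have hBB := mul_adj (hB.det hj)
  have hpm : ∀ {U U' : M2}, (U' = U ∨ U' = -U) →
      (U' = U ∨ U' = -U) ∧ (-U' = U ∨ -U' = -U) := fun h => ⟨h, by
    rcases h with rfl | rfl
    · exact Or.inr rfl
    · exact Or.inl (neg_neg _)⟩
  -- diagonal entries
  have hdia : B * Y * B.adjugate = A * X * A.adjugate ∨ B * Y * B.adjugate = -(A * X * A.adjugate) := by
    rcases conj_pm hj h2 hs hA hX with a | a <;> rcases conj_pm hj h2 hs hB hX with b | b <;>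
      rcases hY with rfl | rfl <;> simp [mul_neg, neg_mul, a, b]
  have hdia' : B * X * B.adjugate = A * Y * A.adjugate ∨ B * X * B.adjugate = -(A * Y * A.adjugate) := by
    rcases conj_pm hj h2 hs hA hX with a | a <;> rcases conj_pm hj h2 hs hB hX with b | b <;>
      rcases hY with rfl | rfl <;> simp [mul_neg, neg_mul, a, b]
  -- antidiagonal entries
  have hM : IsQ α β (A * X * B.adjugate) := (hA.mul hj hX).mul hj hB.adj
  have hM' : IsQ α β (A * Y * B.adjugate) := by
    rcases hY with rfl | rfl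
    · exact hM
    · rw [mul_neg, neg_mul]; exact hM.neg
  have hswap : ∀ U, IsQ α β U → B * U * A.adjugate = A * U * B.adjugate ∨
      B * U * A.adjugate = -(A * U * B.adjugate) := by
    intro U hU
    have h1 := adj_pm hj h2 hs ((hA.mul hj hU).mul hj hB.adj)
    rw [Matrix.adjugate_mul_distrib, Matrix.adjugate_mul_distrib,
      Matrix.adjugate_adjugate' B] at h1
    simp only [Fintype.card_fin, Nat.sub_self, pow_zero, one_smul, ← mul_assoc] at h1
    rcases adj_pm hj h2 hs hU with e | e <;> rw [e] at h1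
    · exact h1
    · simp only [mul_neg, neg_mul, neg_eq_iff_eq_neg, neg_neg] at h1
      exact h1.symm
  have hanti : B * Y * A.adjugate = A * X * B.adjugate ∨ B * Y * A.adjugate = -(A * X * B.adjugate) := by
    rcases hswap X hX with e | e <;> rcases hY with rfl | rfl <;> simp [mul_neg, neg_mul, e]
  have hanti' : B * X * A.adjugate = A * Y * B.adjugate ∨ B * X * A.adjugate = -(A * Y * B.adjugate) := by
    rcases hswap X hX with e | e <;> rcases hY with rfl | rfl <;> simp [mul_neg, neg_mul, e]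
  rcases hgv with hgv | hgv
  · have hgi : ((g⁻¹ : Sp4) : M4) = emb A.adjugate 0 0 B.adjugate := sp_inv_eq (by
      rw [hgv, emb_mul]; simp [hAA, hBB, emb_one])
    rcases huv with huv | huv
    · exact ⟨_, _, (hA.mul hj hX).mul hj hA.adj, hdia, Or.inl (by
        rw [Submonoid.coe_mul, Submonoid.coe_mul, hgv, hgi, huv, emb_mul, emb_mul]; simp)⟩
    · exact ⟨_, _, hM, hanti, Or.inr (by
        rw [Submonoid.coe_mul, Submonoid.coe_mul, hgv, hgi, huv, emb_mul, emb_mul]; simp)⟩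
  · have hgi : ((g⁻¹ : Sp4) : M4) = emb 0 B.adjugate A.adjugate 0 := sp_inv_eq (by
      rw [hgv, emb_mul]; simp [hAA, hBB, emb_one])
    rcases huv with huv | huv
    · refine ⟨_, _, ?_, hdia', Or.inl (by
        rw [Submonoid.coe_mul, Submonoid.coe_mul, hgv, hgi, huv, emb_mul, emb_mul]; simp)⟩
      rcases hY with rfl | rfl
      · exact (hA.mul hj hX).mul hj hA.adj
      · exact (hA.mul hj hX.neg).mul hj hA.adj
    · exact ⟨_, _, hM', hanti', Or.inr (by
        rw [Submonoid.coe_mul, Submonoid.coe_mul, hgv, hgi, huv, emb_mul, emb_mul]; simp)⟩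

/-- The extra element normalizing the extraspecial subgroup. -/
theorem exists_u (h2 : (2 : F) ≠ 0) (hj : α * α + β * β = -1) (hs : Small F) :
    ∃ u : Sp4, (u : M4) = emb ((2 : F)⁻¹ • (1 + II)) ((2 : F)⁻¹ • (1 + II)) ((2 : F)⁻¹ • (1 + II))
        (-((2 : F)⁻¹ • (1 + II))) ∧ Two u ∧
      ∀ r ∈ rGroup hj, u * r * u⁻¹ ∈ rGroup hj := by
  obtain ⟨g, hgd⟩ : ∃ g : M2, g = (2 : F)⁻¹ • (1 + II) := ⟨_, rfl⟩
  rw [← hgd]
  have hg : g = kk 2⁻¹ 2⁻¹ := by
    rw [hgd]; ext i j; fin_cases i <;> fin_cases j <;> simp [II, kk]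
  have hdet : g.det = 2⁻¹ := by rw [hg, det_kk]; field_simp; ring
  have hneg : (-g).adjugate = -g.adjugate := by
    ext i j; fin_cases i <;> fin_cases j <;> simp [Matrix.adjugate_fin_two]
  obtain ⟨u, hu⟩ := exists_sp (A := g) (B := g) (C := g) (D := -g) (by rw [hdet]; field_simp; ring)
    (by rw [Matrix.det_neg, hdet]; simp; field_simp; ring) (by rw [hneg]; simp)
  refine ⟨u, hu, ?_, ?_⟩
  · have h1 : ((u * u : Sp4) : M4) = emb II 0 0 II := by
      rw [Submonoid.coe_mul, hu, emb_mul]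
      simp only [neg_mul, mul_neg, neg_neg, add_neg_cancel]
      have : g * g + g * g = II := by
        rw [hg, kk_mul, II]; ext i j; fin_cases i <;> fin_cases j <;> simp [kk] <;> field_simp <;> ring
      rw [this]
    refine Two.of_sq ⟨2, sp_inj ?_⟩
    rw [show (2 : ℕ) ^ 2 = 2 * 2 from rfl, pow_mul, pow_two, pow_two]
    simp only [Submonoid.coe_mul] at h1 ⊢
    rw [h1, emb_mul, emb_mul, Submonoid.coe_one, ← emb_one]
    simp [II_sq]
  -- the action on the quaternion part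
  have hact : ∀ X, IsQ α β X → ∃ Y, IsQ α β Y ∧ g * X = Y * g := by
    intro X hX
    have hJ : g * rr α β = II * rr α β * g := by
      rw [hg, II_rr, rr_kk, kk_rr, kk_rr]; congr 1 <;> ring
    have hK : g * (II * rr α β) = -rr α β * g := by
      rw [hg, II_rr, rr_neg, rr_kk, kk_rr, kk_rr]; congr 1 <;> ring
    obtain ⟨Y, hY, hXY⟩ := hs.q_cases h2 hX
    obtain ⟨Z, hZ, hYZ⟩ : ∃ Z, IsQ α β Z ∧ g * Y = Z * g := by
      simp only [Set.mem_insert_iff, Set.mem_singleton_iff] at hY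
      rcases hY with rfl | rfl | rfl | rfl
      · exact ⟨1, IsQ.one, by simp⟩
      · refine ⟨II, IsQ.II, ?_⟩
        rw [hg]; exact (IsC2.comm ⟨_, _, rfl⟩ ⟨_, _, rfl⟩).eq
      · exact ⟨_, IsQ.KK, hJ⟩
      · exact ⟨_, IsQ.JJ.neg, hK⟩
    rcases hXY with rfl | rfl
    · exact ⟨Z, hZ, hYZ⟩
    · exact ⟨-Z, hZ.neg, by rw [mul_neg, hYZ, neg_mul]⟩
  intro r ⟨X, X', hX, hX', hr⟩
  obtain ⟨Z, hZ, hXZ⟩ := hact X hX
  have hmem : ∀ {M : M4} (hM : M ∈ Matrix.symplecticGroup (Fin 2) F),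
      (u : M4) * (r : M4) = M * (u : M4) → IsR α β ⟨M, hM⟩ → u * r * u⁻¹ ∈ rGroup hj := by
    intro M hM e hR
    rw [sp_conj (y := ⟨M, hM⟩) e]
    exact hR
  have hd0 : (0 : M2).det = 0 := Matrix.det_zero
  rcases hr with hr | hr <;> rcases hX' with rfl | rfl
  · refine hmem (M := emb Z 0 0 Z) (emb_mem (by simp [hd0, hZ.det hj]) (by simp [hd0, hZ.det hj]) (by simp))
      ?_ ⟨Z, Z, hZ, Or.inl rfl, Or.inl rfl⟩
    rw [hu, hr, emb_mul, emb_mul]
    simp [hXZ]
  · refine hmem (M := emb 0 Z Z 0) (emb_mem (by simp [hd0, hZ.det hj]) (by simp [hd0, hZ.det hj]) (by simp))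
      ?_ ⟨Z, Z, hZ, Or.inl rfl, Or.inr rfl⟩
    rw [hu, hr, emb_mul, emb_mul]
    simp [hXZ]
  · refine hmem (M := emb Z 0 0 (-Z)) (emb_mem (by simp [hd0, hZ.det hj])
      (by simp [hd0, hZ.det hj, Matrix.det_neg]) (by simp))
      ?_ ⟨Z, -Z, hZ, Or.inr rfl, Or.inl rfl⟩
    rw [hu, hr, emb_mul, emb_mul]
    simp [hXZ]
  · refine hmem (M := emb 0 (-Z) Z 0) (emb_mem (by simp [hd0, hZ.det hj, Matrix.det_neg])
      (by simp [hd0, hZ.det hj]) (by simp))
      ?_ ⟨-Z, Z, hZ.neg, Or.inr (neg_neg Z).symm, Or.inr rfl⟩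
    rw [hu, hr, emb_mul, emb_mul]
    simp [hXZ]

/-- Elements centralizing the extraspecial subgroup modulo the centre lie in it. -/
theorem rGroup_self_centralizing (h2 : (2 : F) ≠ 0) {g : Sp4}
    (hg : ∀ r ∈ rGroup hj,
      (g : M4) * (r : M4) = (r : M4) * (g : M4) ∨ (g : M4) * (r : M4) = -((r : M4) * (g : M4))) :
    g ∈ rGroup hj := by
  obtain ⟨z, hz⟩ := exists_sp_diag (A := (1 : M2)) (D := -1) Matrix.det_one (by simp [Matrix.det_neg])
  obtain ⟨w, hwP, hw⟩ := exists_swap hj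
  have hzR : z ∈ rGroup hj := ⟨1, -1, IsQ.one, Or.inr rfl, Or.inl hz⟩
  have hwR : w ∈ rGroup hj := ⟨1, 1, IsQ.one, Or.inl rfl, Or.inr hw⟩
  have hdR : ∀ Q, IsQ α β Q → ∃ d ∈ rGroup hj, (d : M4) = emb Q 0 0 Q := by
    intro Q hQ
    obtain ⟨d, hd⟩ := exists_sp_diag (hQ.det hj) (hQ.det hj)
    exact ⟨d, ⟨Q, Q, hQ, Or.inl rfl, Or.inl hd⟩, hd⟩
  -- a diagonal representative
  obtain ⟨g', A, D, hgmem, hg', hA⟩ : ∃ (g' : Sp4) (A D : M2), (g' ∈ rGroup hj → g ∈ rGroup hj) ∧
      (g' = g ∨ g' = g * w) ∧ (g' : M4) = emb A 0 0 D := by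
    obtain ⟨A, B, C, D, hG⟩ := exists_emb (g : M4)
    rcases hg z hzR with h | h <;> rw [hz] at h
    · obtain ⟨rfl, rfl⟩ := (commute_sign h2 hG).1 h
      exact ⟨g, A, D, id, Or.inl rfl, hG⟩
    · have h' : (g : M4) * emb 1 0 0 (-1) = emb (-1) 0 0 1 * (g : M4) := by
        rw [h, ← neg_mul, ← emb_neg, neg_zero, neg_neg]
      obtain ⟨rfl, rfl⟩ := (commute_sign h2 hG).2 h'
      refine ⟨g * w, B, C, fun hm => ?_, Or.inr rfl, by rw [Submonoid.coe_mul, hG, hw, emb_mul]; simp⟩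
      have := (rGroup hj).mul_mem hm ((rGroup hj).inv_mem hwR)
      rwa [mul_inv_cancel_right] at this
  have hcomm : ∀ r ∈ rGroup hj, (w : M4) * (r : M4) = (r : M4) * (w : M4) →
      (g' : M4) * (r : M4) = (r : M4) * (g' : M4) ∨ (g' : M4) * (r : M4) = -((r : M4) * (g' : M4)) := by
    intro r hr hwr
    rcases hg' with rfl | rfl
    · exact hg r hr
    · rcases hg r hr with e | e
      · exact Or.inl (by rw [Submonoid.coe_mul, mul_assoc, hwr, ← mul_assoc, e, mul_assoc])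
      · exact Or.inr (by rw [Submonoid.coe_mul, mul_assoc, hwr, ← mul_assoc, e, neg_mul, mul_assoc])
  have hdet := det_diag (hA ▸ g'.2)
  have hDA : D = A ∨ D = -A := by
    rcases hcomm w hwR rfl with e | e <;> rw [hA, hw, emb_mul, emb_mul] at e
    · obtain ⟨-, -, e3, -⟩ := emb_inj e
      exact Or.inl (by simpa using e3)
    · rw [← emb_neg] at e
      obtain ⟨-, -, e3, -⟩ := emb_inj e
      exact Or.inr (by simpa using e3)
  have hAq : ∀ Q, IsQ α β Q → A * Q = Q * A ∨ A * Q = -(Q * A) := by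
    intro Q hQ
    obtain ⟨d, hdm, hd⟩ := hdR Q hQ
    rcases hcomm d hdm (by rw [hd, hw, emb_mul, emb_mul]; simp) with e | e <;>
      rw [hA, hd, emb_mul, emb_mul] at e
    · obtain ⟨e1, -, -, -⟩ := emb_inj e
      exact Or.inl (by simpa using e1)
    · rw [← emb_neg] at e
      obtain ⟨e1, -, -, -⟩ := emb_inj e
      exact Or.inr (by simpa using e1)
  have hAQ : IsQ α β A := by
    have hsplit : ∀ Q, IsQ α β Q → A * Q * II = II * (A * Q) →
        A * Q * rr α β = rr α β * (A * Q) → IsQ α β A := by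
      intro Q hQ eI eJ
      have hA' : A = A * Q * Q.adjugate := by rw [mul_assoc, mul_adj (hQ.det hj), mul_one]
      rcases scalar_of_commute_quat h2 hj eI eJ (by rw [Matrix.det_mul, hdet.1, hQ.det hj, one_mul])
        with e | e <;> rw [e] at hA' <;> rw [hA']
      · rw [one_mul]; exact hQ.adj
      · rw [neg_one_mul]; exact hQ.adj.neg
    have hJI : rr α β * II = -(II * rr α β : M2) := by
      rw [jj_comm isC2_II, II, adj_kk, ← neg_mul, kk_neg, neg_zero]
    have hKJ : II * rr α β * rr α β = -(II : M2) := by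
      rw [mul_assoc, rr_sq hj, mul_neg, mul_one]
    rcases hAq II IsQ.II with a | a <;> rcases hAq (rr α β) IsQ.JJ with b | b
    · exact hsplit 1 IsQ.one (by rw [mul_one, a]) (by rw [mul_one, b])
    · refine hsplit II IsQ.II (by rw [← mul_assoc II, ← a]) ?_
      rw [← mul_assoc (rr α β), mul_assoc A, show II * rr α β = -(rr α β * II : M2) by
        rw [hJI, neg_neg], mul_neg, ← mul_assoc, b, neg_mul, neg_neg]
    · refine hsplit (rr α β) IsQ.JJ ?_ (by rw [← mul_assoc (rr α β), ← b])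
      rw [← mul_assoc II, mul_assoc A, hJI, mul_neg, ← mul_assoc, a, neg_mul, neg_neg]
    · have hAQ' : A * (II * rr α β) = II * rr α β * A := by
        rw [← mul_assoc, a, neg_mul, mul_assoc, b, mul_neg, neg_neg, mul_assoc]
      have hQI : II * rr α β * II = -(II * (II * rr α β) : M2) := by
        rw [mul_assoc, hJI, mul_neg]
      have hQJ : II * rr α β * rr α β = -(rr α β * (II * rr α β) : M2) := by
        rw [← mul_assoc (rr α β), hJI, neg_mul, neg_neg]
      refine hsplit (II * rr α β) IsQ.KK ?_ ?_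
      · rw [hAQ', mul_assoc _ A II, a, mul_neg, ← mul_assoc _ II A, hQI, neg_mul, neg_neg, mul_assoc]
      · rw [hAQ', mul_assoc _ A (rr α β), b, mul_neg, ← mul_assoc _ (rr α β) A, hQJ, neg_mul, neg_neg,
          mul_assoc]
  exact hgmem ⟨A, D, hAQ, hDA, Or.inl hA⟩

set_option maxHeartbeats 1600000 in
/-- The rotation of order three is a product of elements of 2-power order normalizing the
extraspecial subgroup. -/
theorem exists_word (h2 : (2 : F) ≠ 0) {u t : Sp4}
    (hu : (u : M4) = emb ((2 : F)⁻¹ • (1 + II)) ((2 : F)⁻¹ • (1 + II)) ((2 : F)⁻¹ • (1 + II))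
      (-((2 : F)⁻¹ • (1 + II))))
    (ht : (t : M4) = emb (rot3 α β) 0 0 (rot3 α β)) (hj : α * α + β * β = -1) :
    ∃ dJ ∈ pGroup hj, ∃ dK ∈ pGroup hj, ∃ y ∈ pGroup hj, t = u * dJ * u * dK * u * y⁻¹ := by
  obtain ⟨dJ, hdJm, hdJ⟩ := exists_diag hj (IsQ.one (α := α) (β := β)) (IsQ.JJ (α := α) (β := β))
  obtain ⟨dK, hdKm, hdK⟩ := exists_diag hj (IsQ.one (α := α) (β := β)) (IsQ.KK (α := α) (β := β))
  have hI' : IsQ α β (-II : M2) := IsQ.II.neg
  have hK' : IsQ α β (-(II * rr α β) : M2) := IsQ.KK.neg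
  obtain ⟨y, hy⟩ := exists_sp (A := (0 : M2)) (B := -II) (C := -(II * rr α β)) (D := 0)
    (by simp [hI'.det hj]) (by simp [hK'.det hj]) (by simp)
  refine ⟨dJ, hdJm, dK, hdKm, y, ⟨_, _, hI', hK', Or.inr hy⟩, eq_mul_inv_of_mul_eq (sp_inj ?_)⟩
  simp only [Submonoid.coe_mul]
  rw [hu, hdJ, hdK, ht, hy, emb_mul, emb_mul, emb_mul, emb_mul, emb_mul]
  rw [show (2 : F)⁻¹ • (1 + II : M2) = kk 2⁻¹ 2⁻¹ by
    ext i j; fin_cases i <;> fin_cases j <;> simp [II, kk], II_rr, rot3_eq, II]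
  congr 1 <;> ext i j <;> fin_cases i <;> fin_cases j <;> simp [kk, rr] <;> field_simp <;>
    first | ring1 | linear_combination 2 * hj | linear_combination -2 * hj

/-- The 2-fusion system of `PSp₄(q)`, `q` odd, is simple. -/
theorem isSimple_psp4 [Fintype F] (hodd : Fintype.card F % 2 = 1) (S : Sylow 2 (PSp 2 F)) :
    (groupFusionSystem (S : Subgroup (PSp 2 F))).IsSimple 2 := by
  have h2 : (2 : F) ≠ 0 := fun h0 => by
    haveI : CharP F 2 := CharTwo.of_one_ne_zero_of_two_eq_zero one_ne_zero h0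
    obtain ⟨n, hp, hn⟩ := FiniteField.card F 2
    rw [hn, Nat.pow_mod] at hodd
    simp at hodd
  obtain ⟨α, β, hj⟩ := exists_alpha hodd
  let PS : Sylow 2 Sp4 := ⟨pGroup hj, isPGroup_pGroup,
    fun hX hle => eq_of_normalizing_mem hX hle fun g => pGroup_maximal h2⟩
  have hπ : Function.Surjective (QuotientGroup.mk' (Subgroup.center Sp4)) :=
    QuotientGroup.mk'_surjective _
  obtain ⟨a, ha'⟩ := MulAction.exists_smul_eq (PSp 2 F) (PS.mapSurjective hπ) S
  obtain ⟨ψ, hψ⟩ : ∃ ψ : Sp4 →* PSp 2 F,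
      ψ = (MulAut.conj a).toMonoidHom.comp (QuotientGroup.mk' (Subgroup.center Sp4)) := ⟨_, rfl⟩
  have hψs : Function.Surjective ψ := hψ ▸ (MulAut.conj a).surjective.comp hπ
  have hker : ∀ c, ψ c = 1 ↔ IsPM c := by
    intro c
    rw [hψ, MonoidHom.comp_apply, MulEquiv.coe_toMonoidHom, map_eq_one_iff _ (MulAut.conj a).injective]
    refine (Classical.PSpAut.pi_eq_one_iff (F := F) (m := 2) (s := c) (by norm_num)).trans ⟨?_, ?_⟩
    · rintro ⟨l, hl, hc⟩
      rcases sq_eq_one_iff.1 hl with rfl | rfl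
      · exact Or.inl (by rw [hc, one_smul])
      · exact Or.inr (by rw [hc, neg_one_smul])
    · rintro (hc | hc)
      · exact ⟨1, one_pow _, by rw [hc, one_smul]⟩
      · exact ⟨-1, by norm_num, by rw [hc, neg_one_smul]⟩
  have hS : (S : Subgroup (PSp 2 F)) = (pGroup hj).map ψ := by
    rw [hψ, ← Subgroup.map_map, ← ha']
    rfl
  -- membership lifts, as the kernel lies in the monomial group
  have hlift : ∀ {x : Sp4}, ψ x ∈ (S : Subgroup (PSp 2 F)) → x ∈ pGroup hj := by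
    intro x hx
    rw [hS] at hx
    obtain ⟨v, hv, hve⟩ := hx
    have hc : IsPM (v⁻¹ * x) := (hker _).1 (by rw [map_mul, map_inv, hve, inv_mul_cancel])
    have := (pGroup hj).mul_mem hv (mem_of_pm (hj := hj) hc)
    rwa [mul_inv_cancel_left] at this
  have hsign : ∀ {g u : Sp4}, ψ g * ψ u = ψ u * ψ g →
      (g : M4) * (u : M4) = (u : M4) * (g : M4) ∨ (g : M4) * (u : M4) = -((u : M4) * (g : M4)) := by
    intro g u h
    have hc : IsPM ((g * u) * (u * g)⁻¹) := (hker _).1 (by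
      rw [map_mul, map_inv, map_mul, map_mul, h, mul_inv_cancel])
    have e : ((g * u * (u * g)⁻¹ : Sp4) : M4) * ((u * g : Sp4) : M4) = ((g * u : Sp4) : M4) := by
      rw [← Submonoid.coe_mul, inv_mul_cancel_right]
    rcases hc with hc | hc <;> rw [hc] at e <;> simp only [Submonoid.coe_mul] at e
    · exact Or.inl (by rw [← e, one_mul])
    · exact Or.inr (by rw [← e, neg_one_mul])
  refine isSimple_group_of' S ?_ ?_ ?_
  · obtain ⟨z, hzP, hz⟩ := exists_diag hj (IsQ.one (α := α) (β := β)) (IsQ.one (α := α) (β := β)).neg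
    intro hbot
    have h1 : ψ z = 1 := by rw [← Subgroup.mem_bot, ← hbot, hS]; exact ⟨z, hzP, rfl⟩
    rcases (hker z).1 h1 with h | h <;> rw [hz, ← emb_one] at h
    · have := congrFun (congrFun (emb_inj h).2.2.2 0) 0
      simp at this
      exact h2 (by linear_combination -this)
    · rw [← emb_neg] at h
      have := congrFun (congrFun (emb_inj h).1 0) 0
      simp at this
      exact h2 (by linear_combination this)
  · intro T hTS hT hTn hTc
    haveI : Group.IsNilpotent (S : Subgroup (PSp 2 F)) := S.2.isNilpotent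
    haveI : (T.subgroupOf (S : Subgroup (PSp 2 F))).Normal :=
      Subgroup.normal_subgroupOf_of_le_normalizer hTn
    obtain ⟨⟨x, hxS⟩, ⟨hxT, hxc⟩, hx1⟩ := Subgroup.bot_or_exists_ne_one _ |>.resolve_left
      (Grp.inf_center_ne_bot (T.subgroupOf (S : Subgroup (PSp 2 F))) fun hb => hT (by
        rw [Subgroup.subgroupOf_eq_bot] at hb
        exact hb.eq_bot_of_le hTS))
    obtain ⟨t, rfl⟩ := hψs x
    have htP := hlift hxS
    have htv := second_centre h2 htP (fun hpm => hx1 (Subtype.ext ((hker t).2 hpm))) fun u hu => by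
      have hu' : ψ u ∈ (S : Subgroup (PSp 2 F)) := by rw [hS]; exact ⟨u, hu, rfl⟩
      exact hsign (congrArg Subtype.val (Subgroup.mem_center_iff.1 hxc ⟨ψ u, hu'⟩)).symm
    have hle := closed_eq_top (hj := hj) hodd h2 (T := T.comap ψ)
      (fun c hc => by show ψ c ∈ T; rw [(hker c).2 hc]; exact one_mem T)
      (fun g x hx hgx => by
        show ψ (g * x * g⁻¹) ∈ T
        rw [map_mul, map_mul, map_inv]
        refine hTc _ _ hx ?_
        rw [hS, ← map_inv, ← map_mul, ← map_mul]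
        exact ⟨_, hgx, rfl⟩) (t := t) hxT htv
    rw [hS]
    exact Subgroup.map_le_iff_le_comap.2 hle
  · intro x hx
    obtain ⟨g, rfl⟩ := hψs x
    have hgP : ∀ u ∈ pGroup hj, g * u * g⁻¹ ∈ pGroup hj := fun u hu => hlift (by
      rw [map_mul, map_mul, map_inv]
      exact (Subgroup.mem_normalizer_iff.1 hx (ψ u)).1 (by rw [hS]; exact ⟨u, hu, rfl⟩))
    have hmemS : ∀ {p : Sp4}, p ∈ pGroup hj → ψ p ∈ Subgroup.closure (simpleGenSet S ∪
        (Subgroup.centralizer ((S : Subgroup (PSp 2 F)) : Set (PSp 2 F)) : Set (PSp 2 F))) := by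
      intro p hp
      have h1 : ψ p ∈ (S : Subgroup (PSp 2 F)) := by rw [hS]; exact ⟨p, hp, rfl⟩
      exact Subgroup.subset_closure (Or.inl ⟨Subgroup.le_normalizer h1, Or.inl h1⟩)
    obtain ⟨t, ht, -⟩ := exists_t h2 hj
    rcases normalizing_cases h2 ht hgP with h | ⟨hs, p, hp, h⟩
    · exact hmemS h
    have htN : ψ t ∈ Subgroup.normalizer ((S : Subgroup (PSp 2 F)) : Set (PSp 2 F)) := by
      rw [hS]
      have h1 : ∀ v ∈ pGroup hj, t * v * t⁻¹ ∈ pGroup hj := fun v hv => t_normalizes h2 hs ht hv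
      refine mem_normalizer_of_forall ?_ ?_ <;> rintro _ ⟨v, hv, rfl⟩
      · exact ⟨_, h1 v hv, by simp⟩
      · exact ⟨_, pow_conj_mem h1 v hv, by simp⟩
    have htgen : ψ t ∈ Subgroup.closure (simpleGenSet S ∪
        (Subgroup.centralizer ((S : Subgroup (PSp 2 F)) : Set (PSp 2 F)) : Set (PSp 2 F))) := by
      refine Subgroup.subset_closure (Or.inl ⟨htN, Or.inr ⟨(rGroup hj).map ψ,
        by rw [hS]; exact Subgroup.map_mono rGroup_le, ?_, ?_, ?_⟩⟩)
      · rw [hS]
        rintro _ ⟨v, hv, rfl⟩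
        refine mem_normalizer_of_forall ?_ ?_ <;> rintro _ ⟨r, hr, rfl⟩
        · exact ⟨_, pGroup_normalizes h2 hs hv hr, by simp⟩
        · exact ⟨_, pGroup_normalizes h2 hs ((pGroup hj).inv_mem hv) hr, by simp⟩
      · intro y hy
        obtain ⟨r, rfl⟩ := hψs y
        exact ⟨r, rGroup_self_centralizing h2 fun v hv => hsign
          (Subgroup.mem_centralizer_iff.1 hy (ψ v) ⟨v, hv, rfl⟩).symm, rfl⟩
      · obtain ⟨u, hu, hu2, huR⟩ := exists_u h2 hj hs
        obtain ⟨dJ, hdJ, dK, hdK, y, hy, hty⟩ := exists_word h2 hu ht hj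
        have key : ∀ v : Sp4, (∀ r ∈ rGroup hj, v * r * v⁻¹ ∈ rGroup hj) → (∃ k : ℕ, v ^ 2 ^ k = 1) →
            ψ v ∈ Subgroup.closure {x : PSp 2 F | x ∈ Subgroup.normalizer
              (((rGroup hj).map ψ : Subgroup (PSp 2 F)) : Set (PSp 2 F)) ∧ ∃ k : ℕ, x ^ 2 ^ k = 1} := by
          intro v hv ⟨k, hk⟩
          refine Subgroup.subset_closure ⟨?_, k, by rw [← map_pow, hk, map_one]⟩
          refine mem_normalizer_of_forall ?_ ?_ <;> rintro _ ⟨r, hr, rfl⟩
          · exact ⟨_, hv r hr, by simp⟩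
          · exact ⟨_, pow_conj_mem hv r hr, by simp⟩
        have keyP : ∀ v ∈ pGroup hj, ψ v ∈ Subgroup.closure {x : PSp 2 F | x ∈ Subgroup.normalizer
              (((rGroup hj).map ψ : Subgroup (PSp 2 F)) : Set (PSp 2 F)) ∧ ∃ k : ℕ, x ^ 2 ^ k = 1} := by
          intro v hv
          refine key v (fun r hr => pGroup_normalizes h2 hs hv hr) ?_
          obtain ⟨k, hk⟩ := isPGroup_pGroup (hj := hj) ⟨v, hv⟩
          exact ⟨k, by simpa using congrArg Subtype.val hk⟩
        have hU := key u huR hu2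
        rw [hty]
        simp only [map_mul, map_inv]
        exact Subgroup.mul_mem _ (Subgroup.mul_mem _ (Subgroup.mul_mem _ (Subgroup.mul_mem _
          (Subgroup.mul_mem _ hU (keyP dJ hdJ)) hU) (keyP dK hdK)) hU) (Subgroup.inv_mem _ (keyP y hy))
    rcases h with e | e <;> rw [e, map_mul]
    · exact Subgroup.mul_mem _ (hmemS hp) htgen
    · rw [map_mul]
      exact Subgroup.mul_mem _ (hmemS hp) (Subgroup.mul_mem _ htgen htgen)

end Cfsg.Agent.Fus.SpFour
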