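import Mathlib
import Cfsg.Agent.Lib.Fus.TransvectionRoot
import Cfsg.Agent.Lib.Classical.SympGen

/-!
The symplectic transvection groups form a degenerate class of root subgroups.
-/

set_option autoImplicit false

namespace Cfsg.Agent.Fus.SpRoot

open Matrix

variable {F : Type*} [Field F] {m : ℕ}

local notation "I" => Fin (m + 1) ⊕ Fin (m + 1)
local notation "Sp" => Matrix.symplecticGroup (Fin (m + 1)) F

/-- The inclusion of the symplectic group in the matrices. -/
def incl : Sp →* Matrix I I F := (Matrix.symplecticGroup (Fin (m + 1)) F).subtype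

theorem incl_injective : Function.Injective (incl (F := F) (m := m)) := Subtype.val_injective

theorem axis_dot (v w : I → F) :
    (Matrix.J (Fin (m + 1)) F *ᵥ v) ⬝ᵥ w = Cfsg.sympForm (m + 1) F w v := by
  rw [Cfsg.sympForm, dotProduct_comm]

theorem mat_eq (v : I → F) (c : F) :
    TV.mat v (Matrix.J (Fin (m + 1)) F *ᵥ v) c = Cfsg.sympTransvection (m + 1) v c := rfl

theorem isLine {v : I → F} (hv : v ≠ 0) : TV.IsLine incl v (Matrix.J (Fin (m + 1)) F *ᵥ v) := by
  refine ⟨hv, fun e => ?_, by rw [axis_dot, Classical.sympForm_self],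
    fun c => ⟨Classical.sympTv v c, rfl⟩⟩
  obtain ⟨w, hw⟩ := Classical.exists_sympForm_eq_one hv
  have : Cfsg.sympForm (m + 1) F w v = 0 := by rw [← axis_dot, e, zero_dotProduct]
  rw [Classical.sympForm_swap, hw, neg_eq_zero] at this
  exact one_ne_zero this

variable (F m) in
/-- The centres with their polar axes. -/
def points : Set ((I → F) × (I → F)) :=
  {p | p.1 ≠ 0 ∧ p.2 = Matrix.J (Fin (m + 1)) F *ᵥ p.1}

theorem points_isLine : ∀ p ∈ points F m, TV.IsLine incl p.1 p.2 := fun p hp => by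
  rw [hp.2]; exact isLine hp.1

theorem form_symm {p q : (I → F) × (I → F)} (hp : p ∈ points F m) (hq : q ∈ points F m) :
    p.2 ⬝ᵥ q.1 = -(q.2 ⬝ᵥ p.1) := by
  rw [hp.2, hq.2, axis_dot, axis_dot, Classical.sympForm_swap]

theorem closed : ∀ p ∈ points F m, ∀ q ∈ points F m, p.2 ⬝ᵥ q.1 = 0 → q.2 ⬝ᵥ p.1 ≠ 0 →
    TV.root incl q.1 p.2 ∈ TV.family (incl (F := F) (m := m)) (points F m) :=
  fun p hp q hq h h' => absurd (by rw [form_symm hq hp, h, neg_zero]) h'

theorem conjBy_eq {p : I → F} (hp : p ≠ 0) (g : Sp) :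
    Cfsg.conjBy (TV.root incl p (Matrix.J (Fin (m + 1)) F *ᵥ p)) g =
      TV.root incl ((g : Matrix I I F) *ᵥ p)
        (Matrix.J (Fin (m + 1)) F *ᵥ ((g : Matrix I I F) *ᵥ p)) := by
  have hne : (g : Matrix I I F) *ᵥ p ≠ 0 := fun e => hp (by
    have := congrArg (((g⁻¹ : Sp) : Matrix I I F) *ᵥ ·) e
    simp only [Matrix.mulVec_mulVec, Matrix.mulVec_zero] at this
    rwa [show ((g⁻¹ : Sp) : Matrix I I F) * (g : Matrix I I F) = 1 from
      congrArg Subtype.val (inv_mul_cancel g), Matrix.one_mulVec] at this)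
  ext x
  rw [mem_conjBy, TV.mem_root incl incl_injective (isLine hp).incident,
    TV.mem_root incl incl_injective (isLine hne).incident]
  refine exists_congr fun c => ⟨fun e => ?_, fun e => ?_⟩
  · have e' : g⁻¹ * x * g = Classical.sympTv p c := incl_injective e
    have : x = g * Classical.sympTv p c * g⁻¹ := by rw [← e']; group
    rw [this, Classical.sympTv_conj]
    rfl
  · have e' : x = Classical.sympTv ((g : Matrix I I F) *ᵥ p) c := incl_injective e
    rw [e', ← Classical.sympTv_conj]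
    show incl (g⁻¹ * (g * Classical.sympTv p c * g⁻¹) * g) = _
    rw [show g⁻¹ * (g * Classical.sympTv p c * g⁻¹) * g = Classical.sympTv p c by group]
    rfl

theorem mem_family {p : I → F} (hp : p ≠ 0) :
    TV.root incl p (Matrix.J (Fin (m + 1)) F *ᵥ p) ∈ TV.family (incl (F := F) (m := m)) (points F m) :=
  ⟨(p, _), ⟨hp, rfl⟩, rfl⟩

theorem isRootSubgroupSet :
    Cfsg.IsRootSubgroupSet (TV.family (incl (F := F) (m := m)) (points F m)) := by
  refine TV.isRootSubgroupSet incl incl_injective points_isLine closed ?_ ?_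
  · rw [eq_top_iff, ← Classical.closure_sympTvSet, Subgroup.closure_le]
    rintro A ⟨w, c, hA⟩
    by_cases hw : w = 0
    · have hA1 : A = 1 := Subtype.ext (by rw [hA, hw]; simp [Cfsg.sympTransvection])
      rw [hA1]
      exact one_mem _
    · exact le_iSup₂ (f := fun A (_ : A ∈ TV.family (incl (F := F) (m := m)) (points F m)) => A) _
        (mem_family hw) ((TV.mem_root incl incl_injective (isLine hw).incident).2 ⟨c, hA⟩)
  · rintro A ⟨⟨p, q⟩, ⟨hp, hq⟩, rfl⟩ g
    change q = Matrix.J (Fin (m + 1)) F *ᵥ p at hq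
    subst hq
    rw [conjBy_eq hp]
    refine mem_family fun e => hp ?_
    have := congrArg (((g⁻¹ : Sp) : Matrix I I F) *ᵥ ·) e
    simp only [Matrix.mulVec_mulVec, Matrix.mulVec_zero] at this
    rwa [show ((g⁻¹ : Sp) : Matrix I I F) * (g : Matrix I I F) = 1 from
      congrArg Subtype.val (inv_mul_cancel g), Matrix.one_mulVec] at this

theorem isConjClass :
    Cfsg.IsConjClassOfSubgroups (TV.family (incl (F := F) (m := m)) (points F m)) := by
  refine ⟨⟨_, mem_family (p := Pi.single (Sum.inl 0) 1) (by simp)⟩, ?_⟩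
  rintro A ⟨⟨v, a⟩, ⟨hv, ha⟩, rfl⟩ B ⟨⟨w, b⟩, ⟨hw, hb⟩, rfl⟩
  change a = Matrix.J (Fin (m + 1)) F *ᵥ v at ha
  change b = Matrix.J (Fin (m + 1)) F *ᵥ w at hb
  subst ha hb
  obtain ⟨g, -, hg⟩ := Classical.exists_closure_mulVec_eq hv hw
  exact ⟨g, by rw [conjBy_eq hv, hg]⟩

theorem degenerate :
    Cfsg.IsDegenerateRootSet (TV.family (incl (F := F) (m := m)) (points F m)) := by
  rintro A ⟨p, hp, rfl⟩ B ⟨q, hq, rfl⟩
  rcases TV.pair_cases incl incl_injective points_isLine closed hp hq with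
    ⟨-, -, h⟩ | ⟨-, -, h⟩ | ⟨h, -⟩
  · exact TV.not_rootCommutatorCase_of_commute isRootSubgroupSet h
  · exact TV.not_rootCommutatorCase_of_rankOne isRootSubgroupSet ⟨q, hq, rfl⟩ h
  · rw [form_symm hp hq, neg_eq_zero] at h
    exact absurd h (by tauto)

theorem connected :
    Cfsg.IsConnectedFamily (Cfsg.FAdj (TV.family (incl (F := F) (m := m)) (points F m)))
      (TV.family incl (points F m)) := by
  rintro A ⟨p, hp, rfl⟩ B ⟨q, hq, rfl⟩
  obtain ⟨z, hz1, hz2⟩ := Classical.exists_sympForm_ne_zero_both hp.1 hq.1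
  have hz : z ≠ 0 := fun e => hz1 (by rw [e, Classical.sympForm_zero_right])
  have hr : (z, Matrix.J (Fin (m + 1)) F *ᵥ z) ∈ points F m := ⟨hz, rfl⟩
  have key : ∀ x ∈ points F m, Cfsg.sympForm (m + 1) F x.1 z ≠ 0 →
      Cfsg.IsRankOnePair (TV.root incl x.1 x.2)
        (TV.root (incl (F := F)) z (Matrix.J (Fin (m + 1)) F *ᵥ z)) := by
    intro x hx hxz
    refine (TV.rankOne_pair incl incl_injective (points_isLine x hx) (points_isLine _ hr)
      ?_ (by rw [axis_dot]; exact hxz)).1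
    rw [hx.2, axis_dot, Classical.sympForm_swap, neg_ne_zero]
    exact hxz
  exact (Relation.ReflTransGen.single ⟨⟨p, hp, rfl⟩, mem_family hz, key p hp hz1⟩).tail
    ⟨mem_family hz, ⟨q, hq, rfl⟩, Cfsg.RankOnePair_symm (key q hq hz2)⟩

theorem setOf_eq : {A : Subgroup Sp | ∃ p : I → F, p ≠ 0 ∧ A = Subgroup.closure
    {g : Sp | ∃ c : F, ∀ v : I → F, (g : Matrix I I F) *ᵥ v =
      v + (c * (v ⬝ᵥ (Matrix.J (Fin (m + 1)) F *ᵥ p))) • p}} =
    TV.family (incl (F := F) (m := m)) (points F m) := by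
  have key : ∀ p : I → F, Subgroup.closure {g : Sp | ∃ c : F, ∀ v : I → F,
      (g : Matrix I I F) *ᵥ v = v + (c * (v ⬝ᵥ (Matrix.J (Fin (m + 1)) F *ᵥ p))) • p} =
      TV.root incl p (Matrix.J (Fin (m + 1)) F *ᵥ p) := by
    intro p
    rw [TV.root]
    congr 1
    ext g
    refine exists_congr fun c => ⟨fun h => ?_, fun h v => ?_⟩
    · refine Matrix.ext_iff_mulVec.2 fun v => ?_
      rw [mat_eq, Classical.sympTransvection_mulVec]
      exact h v
    · rw [show (g : Matrix I I F) = _ from h, mat_eq, Classical.sympTransvection_mulVec]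
      rfl
  ext A
  constructor
  · rintro ⟨p, hp, rfl⟩
    exact ⟨(p, _), ⟨hp, rfl⟩, key p⟩
  · rintro ⟨⟨p, q⟩, ⟨hp, hq⟩, rfl⟩
    change q = Matrix.J (Fin (m + 1)) F *ᵥ p at hq
    subst hq
    exact ⟨p, hp, (key p).symm⟩

end Cfsg.Agent.Fus.SpRoot
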