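import Cfsg.Agent.Lib.Fus.CharInner
import Cfsg.Agent.Lib.Fus.InnerOnSystem
import Cfsg.Agent.Lib.Fus.JInduction
import Cfsg.Agent.Lib.Fus.FunctorInduction
import Cfsg.Agent.Lib.Fus.PPowerNormal

/-!
Sparse saturated systems are constrained.
-/

set_option autoImplicit false
set_option linter.style.haveILetI false
set_option linter.unusedSectionVars false

open scoped Classical

namespace Cfsg.Agent.Fus

open Subgroup FusionSystem

universe u

variable {Ω : Type u} [Group Ω] {S : Subgroup Ω} {F : FusionSystem S} [Finite S] {p : ℕ}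
  [Fact p.Prime]

/-- A system whose quotient by a normal subgroup with `p`-group automizer is inner is inner. -/
theorem isInner_of_factor_inner (hS : IsPGroup p S) (hF : F.IsSaturated p) {C : Subgroup Ω}
    (hC : F.IsNormal C) (hCp : IsPGroup p (F.autGroup C)) {Ω' : Type u} [Group Ω'] {θ : S →* Ω'}
    {E : FusionSystem θ.range} (hE : F.IsFactorSystem C θ E) (hEi : IsInner E) : IsInner F := by
  have hCsc := stronglyClosed_of_isNormal hC
  -- automorphisms of order prime to `p` of a subgroup containing `C` are trivial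
  have triv : ∀ R : Subgroup Ω, C ≤ R → R ≤ S → ∀ β : F.autGroup R,
      Nat.Coprime (orderOf β) p → β = 1 := by
    intro R hCR hRS β hβ
    have hm := (mem_autGroup hRS).1 β.2
    have hfC : fimg (autFun (β : MulAut R)) C = C := fimg_stronglyClosed hCsc hm hCR
    obtain ⟨Φ, hΦ⟩ := exists_induced_hom hRS (w := fun x => x) (isMap_id F (hCR.trans hRS)) hCR
      (fun γ hγ x hx => StronglyClosed.apply_mem hCsc (((mem_autGroup hRS).1 hγ).res hCR) le_rfl hx)
      (fimg_id C)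
    have hC1 : ∀ x ∈ C, autFun (β : MulAut R) x = x := by
      intro x hx
      haveI := finite_of_le hC.1
      obtain ⟨k, hk⟩ := hCp (Φ β)
      have h1 : orderOf (Φ β) ∣ p ^ k := orderOf_dvd_of_pow_eq_one hk
      have h3 : orderOf (Φ β) = 1 := Nat.dvd_one.1 (((hβ.coprime_dvd_left
        (orderOf_map_dvd Φ β)).pow_right k).gcd_eq_one ▸ Nat.dvd_gcd dvd_rfl h1)
      have h4 := hΦ β x hx
      rw [orderOf_eq_one_iff.1 h3, OneMemClass.coe_one, autFun_one hx] at h4
      exact h4.symm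
    haveI := finite_of_le hRS
    have hR' : imageAlong θ R ≤ θ.range := by
      rintro _ ⟨y, -, rfl⟩
      exact ⟨y, rfl⟩
    have hpre := preimageAlong_imageAlong hE hRS hCR
    obtain ⟨g', hg', hge⟩ := exists_induced hE hCsc hR' (g := autFun (β : MulAut R)) (hpre.symm ▸ hm)
    obtain ⟨_, ⟨s, rfl⟩, hse⟩ := hEi _ g' hg'
    have hmodC : ∀ x ∈ R, ((s : Ω) * x * (s : Ω)⁻¹)⁻¹ * autFun (β : MulAut R) x ∈ C := by
      intro x hx
      have hxp : x ∈ preimageAlong θ (imageAlong θ R) := hpre.symm ▸ hx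
      have h1 := (hge x hxp).symm.trans (hse _ (mem_preimageAlong.1 hxp).2)
      rw [← factor_conj, eq_comm, factor_map_eq_iff hE] at h1
      exact h1
    have hsR : ∀ x ∈ R, (s : Ω) * x * (s : Ω)⁻¹ ∈ R := fun x hx => by
      have h1 := R.mul_mem (autFun_mem (β : MulAut R) hx) (R.inv_mem (hCR (hmodC x hx)))
      simpa [mul_assoc] using h1
    have hpow : ∀ (i : ℕ), ∀ x ∈ R, ((s : Ω) ^ i * x * ((s : Ω) ^ i)⁻¹)⁻¹ *
        autFun ((β : MulAut R) ^ i) x ∈ C := by
      intro i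
      induction i with
      | zero =>
        intro x hx
        rw [pow_zero, pow_zero, autFun_one hx, one_mul, inv_one, mul_one, inv_mul_cancel]
        exact C.one_mem
      | succ i ih =>
        intro x hx
        obtain ⟨y, hy⟩ : ∃ y, y = autFun ((β : MulAut R) ^ i) x := ⟨_, rfl⟩
        have h1 := ih x hx
        rw [← hy] at h1
        have hyR : y ∈ R := hy ▸ autFun_mem _ hx
        have h2 := C.mul_mem (conj_mem_of_isNormal hC s.2 h1) (hmodC y hyR)
        rw [pow_succ' (β : MulAut R), autFun_mul _ _ hx, ← hy, pow_succ']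
        rwa [show (s : Ω) * (((s : Ω) ^ i * x * ((s : Ω) ^ i)⁻¹)⁻¹ * y) * (s : Ω)⁻¹ *
          (((s : Ω) * y * (s : Ω)⁻¹)⁻¹ * autFun (β : MulAut R) y) =
          ((s : Ω) * (s : Ω) ^ i * x * ((s : Ω) * (s : Ω) ^ i)⁻¹)⁻¹ * autFun (β : MulAut R) y by
          group] at h2
    have hord : (β : MulAut R) ^ orderOf β = 1 := by
      rw [← Subgroup.coe_pow, pow_orderOf_eq_one, Subgroup.coe_one]
    have hso : ∀ x ∈ R, ((s : Ω) ^ orderOf β * x * ((s : Ω) ^ orderOf β)⁻¹)⁻¹ * x ∈ C := by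
      intro x hx
      have h1 := hpow (orderOf β) x hx
      rwa [hord, autFun_one hx] at h1
    obtain ⟨k, hk⟩ := hS s
    have hk' : (s : Ω) ^ p ^ k = 1 := congrArg Subtype.val hk
    have hmod1 : ∀ x ∈ R, x⁻¹ * autFun (β : MulAut R) x ∈ C := by
      intro x hx
      -- the elements acting trivially modulo `C`
      let T : Subgroup Ω :=
        { carrier := {t | t ∈ S ∧ ∀ y ∈ R, y⁻¹ * (t * y * t⁻¹) ∈ C ∧ y⁻¹ * (t⁻¹ * y * t) ∈ C}
          one_mem' := ⟨S.one_mem, fun y _ => by simp [C.one_mem]⟩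
          mul_mem' := fun {a b} ha hb => ⟨S.mul_mem ha.1 hb.1, fun y hy => by
            constructor
            · have h1 := (hb.2 y hy).1
              have h2 : b * y * b⁻¹ ∈ R := by
                rw [show b * y * b⁻¹ = y * (y⁻¹ * (b * y * b⁻¹)) by group]
                exact R.mul_mem hy (hCR h1)
              have := C.mul_mem h1 (ha.2 _ h2).1
              rwa [show y⁻¹ * (b * y * b⁻¹) * ((b * y * b⁻¹)⁻¹ * (a * (b * y * b⁻¹) * a⁻¹)) =
                y⁻¹ * (a * b * y * (a * b)⁻¹) by group] at this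
            · have h1 := (ha.2 y hy).2
              have h2 : a⁻¹ * y * a ∈ R := by
                rw [show a⁻¹ * y * a = y * (y⁻¹ * (a⁻¹ * y * a)) by group]
                exact R.mul_mem hy (hCR h1)
              have := C.mul_mem h1 (hb.2 _ h2).2
              rwa [show y⁻¹ * (a⁻¹ * y * a) * ((a⁻¹ * y * a)⁻¹ * (b⁻¹ * (a⁻¹ * y * a) * b)) =
                y⁻¹ * ((a * b)⁻¹ * y * (a * b)) by group] at this⟩
          inv_mem' := fun {a} ha => ⟨S.inv_mem ha.1, fun y hy => by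
            rw [inv_inv]
            exact ⟨(ha.2 y hy).2, (ha.2 y hy).1⟩⟩ }
      have hso' : (s : Ω) ^ orderOf β ∈ T := by
        refine ⟨S.pow_mem s.2 _, fun y hy => ?_⟩
        have h1 := hso y hy
        have h2 := C.inv_mem h1
        rw [show (((s : Ω) ^ orderOf β * y * ((s : Ω) ^ orderOf β)⁻¹)⁻¹ * y)⁻¹ =
          y⁻¹ * ((s : Ω) ^ orderOf β * y * ((s : Ω) ^ orderOf β)⁻¹) by group] at h2
        refine ⟨h2, ?_⟩
        have h3 := conj_mem_of_isNormal hC (S.inv_mem (S.pow_mem s.2 (orderOf β))) h1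
        rw [inv_inv, show ((s : Ω) ^ orderOf β)⁻¹ *
          (((s : Ω) ^ orderOf β * y * ((s : Ω) ^ orderOf β)⁻¹)⁻¹ * y) * (s : Ω) ^ orderOf β =
          y⁻¹ * (((s : Ω) ^ orderOf β)⁻¹ * y * (s : Ω) ^ orderOf β) by group] at h3
        exact h3
      have hsT : (s : Ω) ∈ T := by
        have hg : Nat.gcd (orderOf β) (p ^ k) = 1 := hβ.pow_right k
        have h2 := Nat.gcd_eq_gcd_ab (orderOf β) (p ^ k)
        rw [hg] at h2
        have h3 : (s : Ω) = ((s : Ω) ^ orderOf β) ^ Nat.gcdA (orderOf β) (p ^ k) *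
            ((s : Ω) ^ p ^ k) ^ Nat.gcdB (orderOf β) (p ^ k) := by
          rw [← zpow_natCast, ← zpow_mul, ← zpow_natCast, ← zpow_mul, ← zpow_add, ← h2]
          norm_num
        rw [h3, hk', one_zpow, mul_one]
        exact T.zpow_mem hso' _
      have := C.mul_mem (hsT.2 x hx).1 (hmodC x hx)
      rwa [show x⁻¹ * ((s : Ω) * x * (s : Ω)⁻¹) *
        (((s : Ω) * x * (s : Ω)⁻¹)⁻¹ * autFun (β : MulAut R) x) =
        x⁻¹ * autFun (β : MulAut R) x by group] at this
    refine Subtype.ext (mulAut_ext fun x hx => ?_)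
    rw [OneMemClass.coe_one, autFun_one hx]
    obtain ⟨c, hc⟩ : ∃ c, c = x⁻¹ * autFun (β : MulAut R) x := ⟨_, rfl⟩
    have hcC : c ∈ C := hc ▸ hmod1 x hx
    have hβx : autFun (β : MulAut R) x = x * c := by rw [hc]; group
    have hiter : ∀ i : ℕ, autFun ((β : MulAut R) ^ i) x = x * c ^ i := by
      intro i
      induction i with
      | zero => rw [pow_zero, autFun_one hx, pow_zero, mul_one]
      | succ i ih =>
        rw [pow_succ' (β : MulAut R), autFun_mul _ _ hx, ih,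
          hm.map_mul hx (hCR (C.pow_mem hcC i)), hβx, hC1 _ (C.pow_mem hcC i), mul_assoc,
          ← pow_succ']
    have h1 := hiter (orderOf β)
    rw [hord, autFun_one hx] at h1
    have h2 : c ^ orderOf β = 1 := mul_left_cancel (a := x) (by rw [← h1, mul_one])
    obtain ⟨j, hj⟩ := hS ⟨c, hC.1 hcC⟩
    have h3 : c ^ p ^ j = 1 := congrArg Subtype.val hj
    have h4 : c ^ Nat.gcd (orderOf β) (p ^ j) = 1 := pow_gcd_eq_one.2 ⟨h2, h3⟩
    rw [(hβ.pow_right j : Nat.gcd (orderOf β) (p ^ j) = 1), pow_one] at h4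
    rw [hβx, h4, mul_one]
  -- hence automorphisms of order prime to `p` are trivial
  have triv' : ∀ Q : Subgroup Ω, Q ≤ S → C ≤ Q → pResidual p (F.autGroup Q) = ⊥ := by
    intro Q hQ hCQ
    rw [eq_bot_iff]
    exact (Subgroup.closure_le _).2 fun β hβ => Subgroup.mem_bot.2 (triv Q hCQ hQ β hβ)
  intro P f hf
  obtain ⟨g, hg, hg1, -⟩ := (isNormal_iff.1 hC).2 P f hf
  suffices h : ∀ P f, IsMap F P f → C ≤ P → ∃ s ∈ S, ∀ x ∈ P, f x = s * x * s⁻¹ by
    obtain ⟨s, hs, e⟩ := h _ g hg le_sup_right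
    exact ⟨s, hs, fun x hx => (hg1 x hx).symm.trans (e x (Subgroup.mem_sup_left hx))⟩
  intro P f hf hCP
  refine alperin hS hF (fun P f => C ≤ P → ∃ s ∈ S, ∀ x ∈ P, f x = s * x * s⁻¹) ?_ ?_ ?_ ?_ ?_
    hf hCP
  · rintro P f g h e hle
    obtain ⟨s, hs, h⟩ := h hle
    exact ⟨s, hs, fun x hx => (e x hx).symm.trans (h x hx)⟩
  · rintro P Q f g hf hg hfQ h1 h2 hle
    obtain ⟨s, hs, h1⟩ := h1 hle
    have hCQ : C ≤ Q := (fimg_stronglyClosed hCsc hf hle).ge.trans
      ((fimg_mono f hle).trans (fimg_le hfQ))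
    obtain ⟨t, ht, h2⟩ := h2 hCQ
    refine ⟨t * s, S.mul_mem ht hs, fun x hx => ?_⟩
    show g (f x) = _
    rw [h2 _ (hfQ x hx), h1 x hx]
    group
  · rintro P Q f hQ hPQ h hle
    obtain ⟨g, hg, hg1, -⟩ := (isNormal_iff.1 hC).2 Q f hQ
    by_cases hCQ : C ≤ Q
    · obtain ⟨s, hs, h⟩ := h hCQ
      exact ⟨s, hs, fun x hx => h x (hPQ hx)⟩
    · exact absurd (hle.trans hPQ) hCQ
  · intro α hα _
    obtain ⟨g, hg, ρ, hρ, e⟩ :=
      aut_decomp (fullyAutomized_of_fullyNormalized hS hF (fullyNormalized_self F)) ⟨α, hα⟩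
    rw [triv' S le_rfl hC.1, Subgroup.mem_bot] at hρ
    refine ⟨g, hg, fun x hx => ?_⟩
    rw [e x hx, hρ, OneMemClass.coe_one, autFun_one hx]
  · intro Q hQ α hα hCQ
    obtain ⟨g, hg, ρ, hρ, e⟩ :=
      aut_decomp (fullyAutomized_of_fullyNormalized hS hF hQ.2.1) ⟨α, hα⟩
    rw [triv' Q hQ.1.1 hCQ, Subgroup.mem_bot] at hρ
    refine ⟨g, hg, fun x hx => ?_⟩
    rw [e x hx, hρ, OneMemClass.coe_one, autFun_one hx]

/-- The alternative for a subsystem over `S` of a sparse system. -/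
theorem sparse_cases (hsp : ∀ E : FusionSystem S, E.IsSaturated p → E.IsSubsystemOf F →
      (∀ P : Subgroup Ω, E.Hom P = F.Hom P) ∨
        (∀ P : Subgroup Ω, E.Hom P = (innerFusionSystem S).Hom P))
    {R : Subgroup Ω} (hR : R = S) (E : FusionSystem R) (hE : E.IsSaturated p)
    (hsub : E.IsSubsystemOf F) :
    (∀ P f, IsMap F P f → IsMap E P f) ∨ IsInner E := by
  subst hR
  rcases hsp E hE hsub with h | h
  · left
    rintro P f ⟨φ, hφ, e⟩
    exact ⟨φ, h P ▸ hφ, e⟩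
  · exact Or.inr (isInner_iff.2 h)

/-- A sparse saturated system is constrained. -/
theorem isConstrained_of_sparse (hS : IsPGroup p S) (hF : F.IsSaturated p) (hni : ¬ IsInner F)
    (hsp : ∀ E : FusionSystem S, E.IsSaturated p → E.IsSubsystemOf F →
      (∀ P : Subgroup Ω, E.Hom P = F.Hom P) ∨
        (∀ P : Subgroup Ω, E.Hom P = (innerFusionSystem S).Hom P))
    (hp : p ≠ 2 ∨ ¬ QdWitness F 2) : F.IsConstrained p := by
  have hCn := isNormal_core F
  set C := F.core with hC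
  have hCR : C ≤ S := hCn.1
  haveI := finite_of_le hCR
  refine ⟨hF, C, hCn, centric_of_isNormal hCn ?_⟩
  by_contra hcc
  set E₀ := innerOnSystem hCn with hE₀
  have hsub₀ : E₀.IsSubsystemOf F := innerOnSystem_isSubsystemOf hCn
  rcases sparse_cases hsp rfl E₀ (isSaturated_innerOnSystem hS hF hCn) hsub₀ with hfull | hinn
  swap
  · -- then `C C_S(C)` is normal
    set K := centralizerIn S C with hK
    have hRC : S ≤ Subgroup.normalizer (C : Set Ω) := le_normalizer_of_isNormal hCn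
    have hKS : K ⊔ C ≤ S := sup_le inf_le_left hCR
    have hCfn : F.IsFullyNormalized C := ⟨hCR, fun Q hQ => by
      rw [show normalizerIn S C = S from le_antisymm inf_le_left (le_inf le_rfl hRC)]
      exact Subgroup.card_le_of_le inf_le_left⟩
    refine hcc (le_trans le_sup_left (le_core (Q := K ⊔ C) ?_))
    refine isNormal_iff.2 ⟨hKS, fun P f hf => ?_⟩
    obtain ⟨g, hg, hg1, hgC⟩ := (isNormal_iff.1 hCn).2 P f hf
    obtain ⟨γ, hγ, hγe⟩ := (hg.res le_sup_right).exists_aut hgC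
    have hPCR : P ⊔ C ≤ S := hg.source_le
    have hNR : P ⊔ C ⊔ K ≤ S := sup_le hPCR inf_le_left
    let M : Subgroup S := (conjOn hCn).range.comap
      ((MulAut.conj (⟨γ, hγ⟩ : F.autGroup C)).toMonoidHom.comp (conjOn hCn))
    have hM : P ⊔ C ⊔ K ≤ M.map S.subtype := by
      refine sup_le (fun x hx => ⟨⟨x, hPCR hx⟩, ⟨⟨g x, hg.apply_mem hx⟩, ?_⟩, rfl⟩)
        fun x hx => ⟨⟨x, hx.1⟩, ⟨1, ?_⟩, rfl⟩
      · exact eq_mul_inv_of_mul_eq (conjOn_map hCn hg le_sup_right (fun u hu => (hγe u hu).symm)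
          (s := ⟨x, hPCR hx⟩) hx)
      · rw [map_one]
        show (1 : F.autGroup C) = (⟨γ, hγ⟩ : F.autGroup C) * conjOn hCn ⟨x, hx.1⟩ * (⟨γ, hγ⟩)⁻¹
        rw [conjOn_eq_of_forall hCn (s := ⟨x, hx.1⟩) (a := 1) fun u hu => by
          show x * u * x⁻¹ = _
          rw [OneMemClass.coe_one, autFun_one hu, ← (mem_centralizerIn.1 hx).2 u hu,
            mul_inv_cancel_right], mul_one, mul_inv_cancel]
    obtain ⟨θ, hθ, hθe⟩ := receptive_extend (receptive_of_fullyNormalized hS hF hCfn)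
      ((mem_autGroup hCR).1 hγ) (fimg_autFun γ) (N := P ⊔ C ⊔ K) (fun y hy => by
        obtain ⟨s, ⟨k, hk⟩, rfl⟩ := hM hy
        refine ⟨⟨s.2, hRC s.2⟩, k, k.2, fun u hu => ?_⟩
        rw [← autFun_conjOn hCn k (autFun_mem _ hu), hk, ← autFun_mul _ _ hu]
        show autFun γ ((s : Ω) * u * (s : Ω)⁻¹) = autFun (((⟨γ, hγ⟩ : F.autGroup C) *
          conjOn hCn s * (⟨γ, hγ⟩)⁻¹ * ⟨γ, hγ⟩ : F.autGroup C) : MulAut C) u
        rw [inv_mul_cancel_right, Subgroup.coe_mul, autFun_mul _ _ hu, autFun_conjOn hCn s hu])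
      (le_sup_right.trans le_sup_left)
    have hCPC : C ≤ P ⊔ C ⊔ K := le_sup_right.trans le_sup_left
    have hKN : K ⊔ C ≤ P ⊔ C ⊔ K := sup_le le_sup_right hCPC
    have hθC : fimg θ C = C := (fimg_congr hθe).trans (fimg_autFun γ)
    have hθ' : IsMap F (P ⊔ C) θ := hθ.res le_sup_left
    obtain ⟨h, hh, hh1, -, -⟩ := hθ'.exists_inv
    have hhP : ∀ y ∈ fimg θ (P ⊔ C), h y ∈ P ⊔ C := fun y hy => by
      obtain ⟨x, hx, rfl⟩ := hθ'.mem_fimg_iff.1 hy
      rw [hh1 x hx]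
      exact hx
    have hg₃m : IsMap F (fimg θ (P ⊔ C)) (fun y => g (h y)) := hh.comp hg hhP
    have hCθ : C ≤ fimg θ (P ⊔ C) := hθC.ge.trans (fimg_mono θ le_sup_right)
    have hg₃E : IsMap E₀ (fimg θ (P ⊔ C)) (fun y => g (h y)) := (isMap_innerOnSystem hCn).2
      ⟨fun y => g (h y), hg₃m.res (sup_le le_rfl hCθ), fun _ _ => rfl, 1, one_mem _, fun u hu => by
        rw [← hθC, (hθ'.res le_sup_right).mem_fimg_iff] at hu
        obtain ⟨c, hc, rfl⟩ := hu
        show g (h (θ c)) = 1 * θ c * 1⁻¹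
        rw [hh1 c (Subgroup.mem_sup_right hc), hθe c hc, hγe c hc]
        group⟩
    obtain ⟨s, hs, hse⟩ := hinn _ _ hg₃E
    have hk := hθ.comp (isMap_conj F le_rfl hs) fun x hx => hθ.apply_mem hx
    have hle : P ⊔ (K ⊔ C) ≤ P ⊔ C ⊔ K := sup_le (le_sup_left.trans le_sup_left) hKN
    refine ⟨_, hk.res hle, fun x hx => ?_, ?_⟩
    · show s * θ x * s⁻¹ = f x
      have h1 := hse _ (apply_mem_fimg θ (Subgroup.mem_sup_left hx : x ∈ P ⊔ C))
      simp only [hh1 x (Subgroup.mem_sup_left hx : x ∈ P ⊔ C)] at h1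
      rw [← h1, hg1 x hx]
    · haveI := finite_of_le hKS
      refine Subgroup.eq_of_le_of_card_ge (fimg_le fun x hx => ?_)
        (hk.res hKN).card_fimg.ge
      have hx' : θ x ∈ fimg θ (K ⊔ C) := apply_mem_fimg θ hx
      have hθKC : fimg θ (K ⊔ C) ≤ K ⊔ C := by
        rw [(hθ.res hKN).fimg_sup, hθC]
        refine sup_le_sup_right (fimg_le fun k hk => mem_centralizerIn.2
          ⟨hθ.apply_mem (Subgroup.mem_sup_right hk), fun x hx => ?_⟩) C
        rw [← hθC] at hx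
        obtain ⟨c, hc, rfl⟩ := (hθ.res hCPC).mem_fimg_iff.1 hx
        rw [← hθ.map_mul (hCPC hc) (Subgroup.mem_sup_right hk), (mem_centralizerIn.1 hk).2 c hc,
          hθ.map_mul (Subgroup.mem_sup_right hk) (hCPC hc)]
      have hSK : S ≤ Subgroup.normalizer ((K ⊔ C : Subgroup Ω) : Set Ω) := by
        have key : ∀ {s : Ω}, s ∈ S → ∀ k ∈ K, s * k * s⁻¹ ∈ K := fun {s} hs k hk => by
          obtain ⟨hk1, hk2⟩ := mem_centralizerIn.1 hk
          refine mem_centralizerIn.2 ⟨S.mul_mem (S.mul_mem hs hk1) (S.inv_mem hs), fun y hy => ?_⟩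
          have h1 := hk2 _ ((Subgroup.mem_normalizer_iff''.1 (hRC hs) y).1 hy)
          calc y * (s * k * s⁻¹) = s * (s⁻¹ * y * s * k) * s⁻¹ := by group
            _ = s * (k * (s⁻¹ * y * s)) * s⁻¹ := by rw [h1]
            _ = s * k * s⁻¹ * y := by group
        exact fun s hs => normalizer_sup_le (hRC hs) (mem_normalizer_of_forall (key hs)
          fun x hx => by simpa using key (inv_mem hs) x hx)
      exact (Subgroup.mem_normalizer_iff.1 (hSK hs) _).1 (hθKC hx')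
  -- `F` is inner on `C`
  have hCp : IsPGroup p (F.autGroup C) := by
    refine (isPGroup_autInducedBy hS C).to_le fun α hα => ?_
    exact autGroup_innerOnSystem_le hCn ((mem_autGroup hCR).2 (hfull _ _ ((mem_autGroup hCR).1 hα)))
  haveI : (C.subgroupOf S).Normal :=
    Subgroup.normal_subgroupOf_of_le_normalizer (le_normalizer_of_isNormal hCn)
  let θ : S →* S ⧸ C.subgroupOf S := QuotientGroup.mk' _
  have hker : ∀ s : S, θ s = 1 ↔ (s : Ω) ∈ C := fun s => by
    rw [QuotientGroup.mk'_apply, QuotientGroup.eq_one_iff, Subgroup.mem_subgroupOf]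
  have hCsc := stronglyClosed_of_isNormal hCn
  set E := factorSystemAlong F hCsc θ hker with hEdef
  have hE : F.IsFactorSystem C θ E := isFactorSystem_factorSystemAlong F hCsc θ hker
  have hEp : IsPGroup p θ.range := hS.of_surjective θ.rangeRestrict θ.rangeRestrict_surjective
  haveI : Finite θ.range := inferInstance
  refine hni (isInner_of_factor_inner hS hF hCn hCp hE ?_)
  refine isInner_of_char_pGroup p _ E le_rfl hEp (isSaturated_factor hS hF hCsc hE)
    (hp.imp_right fun hw he => hw (qdWitness_of_factor hE he)) fun V hV hV1 hVc => ?_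
  set Q := preimageAlong θ V with hQ
  have hQS : Q ≤ S := preimageAlong_le V
  have hCQ : C < Q := by
    refine lt_of_le_of_ne (factor_le_preimage hE V) fun e => hV1 (eq_bot_iff.2 fun v hv => ?_)
    obtain ⟨s, rfl⟩ := hV hv
    rw [Subgroup.mem_bot, hker, e]
    exact mem_preimageAlong.2 ⟨s.2, hv⟩
  have hSQ : S ≤ Subgroup.normalizer (Q : Set Ω) := by
    haveI := hVc
    have key : ∀ {s : Ω}, s ∈ S → ∀ x ∈ Q, s * x * s⁻¹ ∈ Q := fun {s} hs x hx => by
      obtain ⟨hxS, hxV⟩ := mem_preimageAlong.1 hx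
      refine mem_preimageAlong.2 ⟨S.mul_mem (S.mul_mem hs hxS) (S.inv_mem hs), ?_⟩
      rw [show (⟨s * x * s⁻¹, _⟩ : S) = ⟨s, hs⟩ * ⟨x, hxS⟩ * ⟨s, hs⟩⁻¹ from rfl, factor_conj]
      exact Subgroup.mem_subgroupOf.1 ((inferInstance : (V.subgroupOf θ.range).Normal).conj_mem
        ⟨θ ⟨x, hxS⟩, _, rfl⟩ hxV ⟨θ ⟨s, hs⟩, _, rfl⟩)
    exact fun s hs => mem_normalizer_of_forall (key hs) fun x hx => by
      simpa using key (inv_mem hs) x hx
  have heq : normalizerIn S Q = S := le_antisymm inf_le_left (le_inf le_rfl hSQ)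
  have hQn : F.IsFullyNormalized Q := ⟨hQS, fun P _ => by
    rw [heq]; exact Subgroup.card_le_of_le inf_le_left⟩
  haveI : Finite ↥(normalizerIn S Q) := finite_of_le (S := S) inf_le_left
  rcases sparse_cases hsp heq _ (isSaturated_normalizerSystem hS hF hQn)
    (normalizerSystem_isSubsystemOf hQn.1) with hfull' | hinn'
  · -- `Q` would be normal
    refine absurd (le_core (F := F) (Q := Q) (isNormal_iff.2 ⟨hQS, fun P f hf => ?_⟩))
      fun h => (hCQ.trans_le h).false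
    obtain ⟨-, -, g, hg, hg1, hgQ⟩ := (isMap_normalizerSystem hQn.1).1 (hfull' P f hf)
    exact ⟨g, hg, hg1, hgQ⟩
  -- the automizer of `V` is induced by `S`
  refine (isPGroup_autInducedBy hEp V).to_le fun β hβ => ?_
  obtain ⟨g, hg, hge⟩ := exists_lift hE ((mem_autGroup hV).1 hβ)
  haveI := finite_of_le hQS
  have hgQ : fimg g Q = Q := Subgroup.eq_of_le_of_card_ge (fimg_le fun x hx => mem_preimageAlong.2
    ⟨hg.apply_mem hx, (hge x hx (hg.apply_mem hx)).symm ▸
      autFun_mem β (mem_preimageAlong.1 hx).2⟩) hg.card_fimg.ge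
  obtain ⟨s, hs, hse⟩ := hinn' Q g ((isMap_normalizerSystem hQn.1).2
    ⟨le_normalizerIn hQS, fun x hx => le_normalizerIn hQS (hgQ ▸ apply_mem_fimg g hx), g,
      hg.res (sup_le le_rfl le_rfl), fun x _ => rfl, hgQ⟩)
  refine mem_autInducedBy.2 ⟨θ ⟨s, hs.1⟩, ⟨_, rfl⟩, fun y => ?_⟩
  obtain ⟨x, hx⟩ := hV y.2
  have hxQ : (x : Ω) ∈ Q := mem_preimageAlong.2 ⟨x.2, hx.symm ▸ y.2⟩
  rw [← autFun_coe β y, ← hx, ← hge x hxQ (hg.apply_mem hxQ), ← factor_conj]
  exact congrArg θ (Subtype.ext (hse x hxQ))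

end Cfsg.Agent.Fus
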