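import Cfsg.Agent.Lib.Fus.PrimeGraphLinear
import Mathlib

/-! The spectrum of `PSL 3`. -/

set_option autoImplicit false

namespace Cfsg.Agent.Fus.SpectrumPSLThree

open Polynomial Matrix Cfsg.Agent.Classical Cfsg.Agent.Fus.PrimeGraph

variable {F : Type*} [Field F]

/-- Matrices whose eigenvalues have equal powers are scalar up to a `p`-power. -/
theorem pow_eq_scalar_of_roots {K : Type*} [Field K] [IsAlgClosed K] [DecidableEq K] [Algebra F K] (p : ℕ)
    [Fact p.Prime] [CharP K p] {ι : Type*} [Fintype ι] [DecidableEq ι] (A : Matrix ι ι F) {e M : ℕ} (hM : M ≠ 0)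
    {c : F} (hMc : (M : K) ≠ 0) (hc : c ≠ 0) (hroot : ∀ x ∈ eigRoots K A, x ^ M = algebraMap F K c)
    (hmult : ∀ x ∈ eigRoots K A, (eigRoots K A).count x ≤ p ^ e) :
    A ^ (p ^ e * M) = Matrix.scalar ι (c ^ p ^ e) := by
  set R := eigRoots K A
  set AK := A.map (algebraMap F K)
  set cK := algebraMap F K c
  have hcK : cK ≠ 0 := (_root_.map_ne_zero _).2 hc
  have hsplit : AK.charpoly = (R.map fun a => X - Polynomial.C a).prod :=
    (IsAlgClosed.splits _).eq_prod_roots_of_monic (Matrix.charpoly_monic _)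
  have hdvd : AK.charpoly ∣ (X ^ (p ^ e * M) - Polynomial.C (cK ^ p ^ e) : K[X]) := by
    have h1 : (X ^ (p ^ e * M) - Polynomial.C (cK ^ p ^ e) : K[X]) = (X ^ M - Polynomial.C cK) ^ p ^ e := by
      rw [sub_pow_char_pow, ← pow_mul, map_pow, mul_comm]
    have h2 : (R.toFinset.val.map fun a => X - Polynomial.C a).prod ∣ (X ^ M - Polynomial.C cK : K[X]) := by
      have hne : (X ^ M - Polynomial.C cK : K[X]) ≠ 0 := (Polynomial.monic_X_pow_sub_C cK hM).ne_zero
      refine (Multiset.prod_X_sub_C_dvd_iff_le_roots hne _).2 ((Multiset.le_iff_subset R.toFinset.nodup).2 ?_)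
      intro x hx
      rw [Polynomial.mem_roots hne]
      simp [hroot x (Multiset.mem_toFinset.1 hx)]
    have h3 : R ≤ p ^ e • R.toFinset.val := Multiset.le_iff_count.2 fun x => by
      rw [Multiset.count_nsmul]
      by_cases hx : x ∈ R
      · rw [Multiset.count_eq_one_of_mem R.toFinset.nodup (Multiset.mem_toFinset.2 hx), mul_one]
        exact hmult x hx
      · rw [Multiset.count_eq_zero.2 hx]; exact Nat.zero_le _
    rw [hsplit, h1]
    refine (Multiset.prod_dvd_prod_of_le (Multiset.map_le_map h3)).trans ?_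
    rw [Multiset.map_nsmul, Multiset.prod_nsmul]
    exact pow_dvd_pow_of_dvd h2 _
  obtain ⟨g, hg⟩ := hdvd
  have h4 := congrArg (aeval AK) hg
  rw [map_mul, Matrix.aeval_self_charpoly, zero_mul, map_sub, map_pow, aeval_X, aeval_C, sub_eq_zero] at h4
  refine Matrix.map_injective (algebraMap F K).injective ?_
  show (A ^ (p ^ e * M)).map (algebraMap F K) = (Matrix.scalar ι (c ^ p ^ e)).map (algebraMap F K)
  rw [Matrix.map_pow, Matrix.scalar_apply, Matrix.diagonal_map (map_zero _)]
  refine h4.trans ?_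
  rw [Matrix.algebraMap_eq_diagonal]
  congr 1
  funext i
  simp [cK]

section finiteField

variable [Fintype F] (p : ℕ) [Fact p.Prime] [CharP F p]

theorem cast_q_eq_zero : ((Fintype.card F : ℕ) : F) = 0 := FiniteField.cast_card_eq_zero F

theorem gcd_cases : Nat.gcd 3 (Fintype.card F - 1) = 1 ∨ Nat.gcd 3 (Fintype.card F - 1) = 3 :=
  (Nat.dvd_prime Nat.prime_three).1 (Nat.gcd_dvd_left _ _)

omit [Fintype F] in
theorem mem_range_of_dvd {G : Type*} [Group G] [Finite G] {m : ℕ} {y : G} (h : m ∣ orderOf y) :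
    m ∈ Set.range (orderOf : G → ℕ) :=
  ⟨y ^ (orderOf y / m), orderOf_pow_orderOf_div (orderOf_pos y).ne' h⟩

include p in
theorem cast_ne_zero {K : Type*} [Field K] [Algebra F K] {M : ℕ} (h : ¬ p ∣ M) : (M : K) ≠ 0 := by
  have := charP_of_injective_algebraMap (algebraMap F K).injective p
  exact fun e => h ((CharP.cast_eq_zero_iff K p M).1 e)

include p in
theorem not_dvd_of_dvd_sub_one {m : ℕ} (h : m ∣ Fintype.card F - 1) : ¬ p ∣ m := fun hp =>
  (Fact.out : p.Prime).coprime_iff_not_dvd.1 (p_coprime_sub_one (F := F)) (hp.trans h)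

include p in
theorem not_dvd_cyclo (e : ℕ) {m : ℕ} (h : m ∣ Fintype.card F * e + 1 ∨ m ∣ Fintype.card F * e - 1)
    (he : 1 ≤ e) : ¬ p ∣ m := fun hp => by
  obtain ⟨f, -, hf⟩ := FiniteField.card F p
  have h1 : p ∣ Fintype.card F * e := (hf ▸ dvd_pow_self p f.pos.ne').mul_right e
  have h2 : p ∣ 1 := by
    rcases h with h | h
    · exact (Nat.dvd_add_right h1).1 (hp.trans h)
    · have h3 := Nat.dvd_sub h1 (hp.trans h)
      have : 1 ≤ Fintype.card F * e := Nat.one_le_iff_ne_zero.2 (Nat.mul_ne_zero Fintype.card_ne_zero (by omega))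
      rwa [Nat.sub_sub_self this] at h3
  exact (Fact.out : p.Prime).ne_one (Nat.dvd_one.1 h2)

/-- The predicate of the spectrum. -/
def Spec (q p m : ℕ) : Prop :=
  m ∣ (q ^ 2 + q + 1) / Nat.gcd 3 (q - 1) ∨ m ∣ (q ^ 2 - 1) / Nat.gcd 3 (q - 1) ∨ m ∣ q - 1 ∨
    m ∣ p * (q - 1) / Nat.gcd 3 (q - 1) ∨ (p = 2 ∧ m ∣ 4)

theorem dvd_cubic {q d : ℕ} (hq : 1 ≤ q) (hd : d ∣ q - 1) (h3 : d ∣ 3) : d ∣ q ^ 2 + q + 1 := by
  obtain ⟨r, rfl⟩ : ∃ r, q = r + 1 := ⟨q - 1, by omega⟩
  rw [Nat.add_sub_cancel] at hd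
  rw [show (r + 1) ^ 2 + (r + 1) + 1 = r * (r + 3) + 3 by ring]
  exact dvd_add (hd.mul_right _) h3

theorem dvd_sq_sub {q d : ℕ} (hd : d ∣ q - 1) : d ∣ q ^ 2 - 1 := by
  refine hd.trans ?_
  simpa using Nat.sub_dvd_pow_sub_pow q 1 2

theorem pow_mem_base {K : Type*} [Field K] [Algebra F K] {y : K} (h : y ^ Fintype.card F = y) :
    ∃ b : F, algebraMap F K b = y := by
  classical
  by_contra hcon
  push Not at hcon
  have hcard : Fintype.card F + 1 ≤ (X ^ Fintype.card F - X : K[X]).roots.toFinset.card := by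
    have hne : (X ^ Fintype.card F - X : K[X]) ≠ 0 := FiniteField.X_pow_card_sub_X_ne_zero K Fintype.one_lt_card
    have hci : (insert y (Finset.univ.image (algebraMap F K))).card = Fintype.card F + 1 := by
      rw [Finset.card_insert_of_notMem (by simpa using hcon),
        Finset.card_image_of_injective Finset.univ (algebraMap F K).injective, Finset.card_univ]
    refine hci.symm.le.trans ?_
    refine Finset.card_le_card fun x hx => ?_
    rw [Multiset.mem_toFinset, Polynomial.mem_roots hne]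
    rcases Finset.mem_insert.1 hx with rfl | hx
    · simp [h]
    · obtain ⟨b, -, rfl⟩ := Finset.mem_image.1 hx
      simp [← map_pow, FiniteField.pow_card]
  have := hcard.trans ((Multiset.toFinset_card_le _).trans (Polynomial.card_roots' _))
  rw [FiniteField.X_pow_card_sub_X_natDegree_eq K Fintype.one_lt_card] at this
  omega

/-- Every element order is in the list. -/
theorem orderOf_mem (A : Matrix.SpecialLinearGroup (Fin 3) F) :
    Spec (Fintype.card F) p (orderOf (slToPSL 3 F A)) := by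
  classical
  set q := Fintype.card F with hq
  have hq2 : 2 ≤ q := Fintype.one_lt_card
  set d := Nat.gcd 3 (q - 1) with hd
  have hd3 : d ∣ 3 := Nat.gcd_dvd_left _ _
  have hdq : d ∣ q - 1 := Nat.gcd_dvd_right _ _
  have hd0 : 0 < d := Nat.gcd_pos_of_pos_left _ (by norm_num)
  let K := AlgebraicClosure F
  have hchar : CharP K p := charP_of_injective_algebraMap (algebraMap F K).injective p
  set R := eigRoots K (A : Matrix (Fin 3) (Fin 3) F) with hRdef
  have hcard : Multiset.card R = 3 := by rw [hRdef, card_eigRoots, Fintype.card_fin]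
  have hprod : R.prod = 1 := by
    rw [hRdef, eigRoots, ← Matrix.det_eq_prod_roots_charpoly, ← RingHom.mapMatrix_apply, ← RingHom.map_det, A.2,
      map_one]
  have hne0 : ∀ x ∈ R, x ≠ 0 := fun x hx h0 => one_ne_zero (hprod.symm.trans (Multiset.prod_eq_zero (h0 ▸ hx)))
  have hfrobmem : ∀ x ∈ R, x ^ q ∈ R := fun x hx => pow_card_mem_eigRoots hx
  have hfrob : Function.Injective fun x : K => x ^ q :=
    (FiniteField.frobeniusAlgHom F K).toRingHom.injective
  have finish : ∀ (e M : ℕ) (c : F), ¬ p ∣ M → c ≠ 0 → (∀ x ∈ R, x ^ M = algebraMap F K c) →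
      (∀ x ∈ R, R.count x ≤ p ^ e) → orderOf (slToPSL 3 F A) ∣ p ^ e * M := fun e M c hpM hc hroot hmult => by
    refine orderOf_dvd_of_pow_eq_one ((slToPSL_pow_eq_one_iff A _).2 ⟨c ^ p ^ e, ?_⟩)
    exact pow_eq_scalar_of_roots p _ (fun h => hpM (by rw [h]; exact dvd_zero p)) (cast_ne_zero (F := F) p hpM) hc hroot hmult
  -- cube roots of unity lie in `F`
  have hcube : ∀ z : K, z ^ d = 1 → ∃ c : F, c ≠ 0 ∧ algebraMap F K c = z := fun z hz => by
    have hz0 : z ≠ 0 := fun h => by rw [h, zero_pow hd0.ne'] at hz; exact zero_ne_one hz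
    obtain ⟨u, hu⟩ := hdq
    obtain ⟨c, hc⟩ := pow_mem_base (F := F) (y := z) (by
      rw [← hq, show q = d * u + 1 by omega, pow_succ, pow_mul, hz, one_pow, one_mul])
    exact ⟨c, fun h => hz0 (by rw [← hc, h, map_zero]), hc⟩
  by_cases hrep : ∃ a, 2 ≤ R.count a
  · obtain ⟨a, ha⟩ := hrep
    have haR : a ∈ R := Multiset.count_pos.1 (by omega)
    have ha0 := hne0 a haR
    have haq : a ^ q = a := by
      by_contra hne
      have h4 : Multiset.replicate 2 a + Multiset.replicate 2 (a ^ q) ≤ R := by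
        rw [Multiset.le_iff_count]
        intro z
        rw [Multiset.count_add, Multiset.count_replicate, Multiset.count_replicate]
        have hc := count_pow_card (A : Matrix (Fin 3) (Fin 3) F) a
        rw [← hRdef, ← hq] at hc
        split_ifs with h1 h2 h2
        · exact absurd (h2.trans h1.symm) hne
        · subst h1; omega
        · subst h2; omega
        · omega
      have h5 := Multiset.card_le_card h4
      rw [Multiset.card_add, Multiset.card_replicate, Multiset.card_replicate, hcard] at h5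
      omega
    obtain ⟨S, hS⟩ := Multiset.le_iff_exists_add.1 ((Multiset.le_count_iff_replicate_le).1 ha)
    obtain ⟨b, rfl⟩ : ∃ b, S = {b} := Multiset.card_eq_one.1 (by
      rw [hS, Multiset.card_add, Multiset.card_replicate] at hcard; omega)
    have hab : a ^ 2 * b = 1 := by
      rwa [hS, Multiset.prod_add, Multiset.prod_replicate, Multiset.prod_singleton] at hprod
    have hqa : a ^ (q - 1) = 1 := mul_right_cancel₀ ha0 (by rw [← pow_succ, Nat.sub_add_cancel (by omega), haq, one_mul])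
    set j := (q - 1) / d with hjdef
    have hjd : j * d = q - 1 := Nat.div_mul_cancel hdq
    have hj3 : a ^ (3 * j) = 1 := by
      obtain ⟨u, hu⟩ := hd3
      rw [show 3 * j = (q - 1) * u by rw [hu, ← hjd]; ring, pow_mul, hqa, one_pow]
    obtain ⟨c, hc0, hc⟩ := hcube (a ^ j) (by rw [← pow_mul, hjd, hqa])
    have hroot : ∀ x ∈ R, x ^ j = algebraMap F K c := fun x hx => by
      rw [hc]
      rw [hS] at hx
      rcases Multiset.mem_add.1 hx with hx | hx
      · rw [Multiset.eq_of_mem_replicate hx]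
      · rw [Multiset.mem_singleton.1 hx]
        refine mul_left_cancel₀ (pow_ne_zero (2 * j) ha0) ?_
        rw [← pow_add, show 2 * j + j = 3 * j by ring, hj3, pow_mul, ← mul_pow, hab, one_pow]
    by_cases hall : a = b
    · subst hall
      have ha3 : a ^ 3 = 1 := by rw [pow_succ]; exact hab
      have hd' : a ^ 1 = a := pow_one a
      obtain ⟨c', hc'0, hc'⟩ := hcube a (by
        have h := pow_gcd_eq_one.2 ⟨ha3, hqa⟩
        rwa [← hd] at h)
      have hroot1 : ∀ x ∈ R, x ^ 1 = algebraMap F K c' := fun x hx => by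
        rw [hc', pow_one]
        rw [hS] at hx
        rcases Multiset.mem_add.1 hx with hx | hx
        · exact Multiset.eq_of_mem_replicate hx
        · exact Multiset.mem_singleton.1 hx
      rcases (Fact.out : p.Prime).eq_two_or_odd' with h2 | hodd
      · refine Or.inr (Or.inr (Or.inr (Or.inr ⟨h2, ?_⟩)))
        have h := finish 2 1 c' (fun h => (Fact.out : p.Prime).ne_one (Nat.dvd_one.1 h)) hc'0 hroot1 fun x _ => by
          refine (Multiset.count_le_card x R).trans ?_
          rw [hcard, h2]; norm_num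
        rw [mul_one, h2] at h
        exact h
      · refine Or.inr (Or.inr (Or.inr (Or.inl ?_)))
        have h := finish 1 1 c' (fun h => (Fact.out : p.Prime).ne_one (Nat.dvd_one.1 h)) hc'0 hroot1 fun x _ => by
          refine (Multiset.count_le_card x R).trans ?_
          rw [hcard, pow_one]
          obtain ⟨w, hw⟩ := hodd
          have := (Fact.out : p.Prime).two_le
          omega
        rw [mul_one, pow_one] at h
        rw [Nat.mul_div_assoc p hdq]
        exact h.trans (dvd_mul_right p _)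
    · refine Or.inr (Or.inr (Or.inr (Or.inl ?_)))
      rw [Nat.mul_div_assoc p hdq]
      have h := finish 1 j c (not_dvd_of_dvd_sub_one (F := F) p ⟨d, hjd.symm⟩) hc0 hroot fun x _ => by
        rw [hS, Multiset.count_add, Multiset.count_replicate, Multiset.count_singleton, pow_one]
        have := (Fact.out : p.Prime).two_le
        split_ifs with h1 h2 h2
        · exact absurd (h1.trans h2) hall
        all_goals omega
      rwa [pow_one] at h
  · push Not at hrep
    have hle1 : ∀ x ∈ R, R.count x ≤ p ^ 0 := fun x _ => by rw [pow_zero]; have := hrep x; omega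
    have hnd : R.Nodup := Multiset.nodup_iff_count_le_one.2 fun x => by have := hrep x; omega
    by_cases hfix : ∀ x ∈ R, x ^ q = x
    · refine Or.inr (Or.inr (Or.inl ?_))
      have h := finish 0 (q - 1) 1 (not_dvd_of_dvd_sub_one (F := F) p dvd_rfl) one_ne_zero (fun x hx => by
        rw [map_one]
        exact mul_right_cancel₀ (hne0 x hx) (by rw [← pow_succ, Nat.sub_add_cancel (by omega), hfix x hx, one_mul])) hle1
      rwa [pow_zero, one_mul] at h
    push Not at hfix
    obtain ⟨x, hx, hxq⟩ := hfix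
    set y := x ^ q with hy
    have hyR : y ∈ R := hfrobmem x hx
    obtain ⟨z, hz, hzx, hzy⟩ : ∃ z ∈ R, z ≠ x ∧ z ≠ y := by
      by_contra hcon
      push Not at hcon
      have h : R ≤ ({x, y} : Multiset K) := (Multiset.le_iff_subset hnd).2 fun w hw => by
        by_cases hwx : w = x
        · simp [hwx]
        · simp [hcon w hw hwx]
      have := Multiset.card_le_card h
      rw [hcard] at this
      simp at this
    have hR3 : R = {x, y, z} := by
      refine (Multiset.eq_of_le_of_card_le ((Multiset.le_iff_subset ?_).2 ?_) ?_).symm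
      · simp only [Multiset.insert_eq_cons, Multiset.nodup_cons, Multiset.mem_cons, Multiset.mem_singleton,
          Multiset.nodup_singleton, and_true, not_or]
        exact ⟨⟨Ne.symm hxq, hzx.symm⟩, hzy.symm⟩
      · intro w hw
        simp only [Multiset.insert_eq_cons, Multiset.mem_cons, Multiset.mem_singleton] at hw
        rcases hw with rfl | rfl | rfl <;> assumption
      · simp [hcard]
    have hxyz : x * y * z = 1 := by
      rw [hR3] at hprod
      simpa [mul_assoc] using hprod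
    have hmem : ∀ w ∈ R, w = x ∨ w = y ∨ w = z := fun w hw => by
      rw [hR3] at hw; simpa using hw
    have hx0 := hne0 x hx
    have hyinj : y ^ q ≠ y := fun h => hxq (hfrob h)
    rcases hmem _ (hfrobmem y hyR) with hyx | hyy | hyz
    · -- quadratic
      refine Or.inr (Or.inl ?_)
      have hzq : z ^ q = z := by
        rcases hmem _ (hfrobmem z hz) with h | h | h
        · exact absurd (hfrob (h.trans hyx.symm)) hzy
        · exact absurd (hfrob (h.trans hy)) hzx
        · exact h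
      have hx2 : x ^ (q ^ 2 - 1) = 1 := mul_right_cancel₀ hx0 (by
        rw [← pow_succ, Nat.sub_add_cancel (Nat.one_le_pow _ _ (by omega)), sq, pow_mul, ← hy, hyx, one_mul])
      set j := (q ^ 2 - 1) / d
      have hjd : j * d = q ^ 2 - 1 := Nat.div_mul_cancel (dvd_sq_sub hdq)
      obtain ⟨c, hc0, hc⟩ := hcube (x ^ j) (by rw [← pow_mul, hjd, hx2])
      have hcq : (x ^ j) ^ q = x ^ j := by rw [← hc, ← map_pow, hq, FiniteField.pow_card]
      have hroot : ∀ w ∈ R, w ^ j = algebraMap F K c := fun w hw => by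
        rw [hc]
        rcases hmem w hw with rfl | rfl | rfl
        · rfl
        · rw [hy, ← pow_mul, mul_comm, pow_mul, hcq]
        · have h := congrArg (· ^ j) hxyz
          simp only [mul_pow, one_pow] at h
          rw [show y ^ j = x ^ j by rw [hy, ← pow_mul, mul_comm, pow_mul, hcq]] at h
          have h3 : (x ^ j) ^ 3 = 1 := by
            obtain ⟨u, hu⟩ := hd3
            rw [← pow_mul, hu, ← mul_assoc, hjd, pow_mul, hx2, one_pow]
          refine mul_left_cancel₀ (mul_ne_zero (pow_ne_zero j hx0) (pow_ne_zero j hx0)) (h.trans ?_)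
          rw [← h3]; ring
      have h := finish 0 j c (fun hp => not_dvd_cyclo (F := F) p q (Or.inr (by rw [← hq, ← sq]))
        (by omega) (hp.trans ⟨d, hjd.symm⟩)) hc0 hroot hle1
      rwa [pow_zero, one_mul] at h
    · exact absurd hyy hyinj
    · -- cubic
      refine Or.inl ?_
      have hN : x ^ (q ^ 2 + q + 1) = 1 := by
        rw [← hxyz, ← hyz, hy, ← pow_mul, ← pow_succ', ← pow_add]
        congr 1
        ring
      set j := (q ^ 2 + q + 1) / d
      have hjd : j * d = q ^ 2 + q + 1 := Nat.div_mul_cancel (dvd_cubic (by omega) hdq hd3)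
      obtain ⟨c, hc0, hc⟩ := hcube (x ^ j) (by rw [← pow_mul, hjd, hN])
      have hcq : (x ^ j) ^ q = x ^ j := by rw [← hc, ← map_pow, hq, FiniteField.pow_card]
      have hyj : y ^ j = x ^ j := by rw [hy, ← pow_mul, mul_comm, pow_mul, hcq]
      have hroot : ∀ w ∈ R, w ^ j = algebraMap F K c := fun w hw => by
        rw [hc]
        rcases hmem w hw with rfl | rfl | rfl
        · rfl
        · exact hyj
        · rw [← hyz, ← pow_mul, mul_comm, pow_mul, hyj, hcq]
      have h := finish 0 j c (fun hp => not_dvd_cyclo (F := F) p (q + 1) (Or.inl (by rw [← hq]; exact dvd_of_eq (by ring)))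
        (by omega) (hp.trans ⟨d, hjd.symm⟩)) hc0 hroot hle1
      rwa [pow_zero, one_mul] at h

/-- Torus elements of `GL e`, with their determinant and scalar powers. -/
theorem exists_singer (e : ℕ) (he : 1 ≤ e) :
    ∃ (K : Type) (_ : Field K) (_ : Algebra F K) (g : Kˣ) (L : K →ₐ[F] Matrix (Fin e) (Fin e) F),
      orderOf g = Fintype.card F ^ e - 1 ∧ Function.Injective L ∧
      ∀ z : K, algebraMap F K (L z).det = z ^ ∑ i ∈ Finset.range e, Fintype.card F ^ i := by
  obtain ⟨p, hp⟩ := CharP.exists F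
  have := Fact.mk (CharP.char_is_prime F p)
  have : NeZero e := ⟨by omega⟩
  let K := FiniteField.Extension F p e
  have hK : Module.finrank F K = e := FiniteField.finrank_extension F p e
  let _ : Fintype K := Fintype.ofFinite K
  obtain ⟨u, hu⟩ := IsCyclic.exists_generator (α := Kˣ)
  let bs := Module.finBasisOfFinrankEq F K hK
  refine ⟨K, inferInstance, inferInstance, u, Algebra.leftMulMatrix bs, ?_, Algebra.leftMulMatrix_injective bs, fun z => ?_⟩
  · rw [orderOf_eq_card_of_forall_mem_zpowers hu, Nat.card_units, Module.natCard_eq_pow_finrank (K := F),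
      Nat.card_eq_fintype_card, hK]
  · rw [← Algebra.norm_eq_matrix_det, FiniteField.algebraMap_norm_eq_pow_sum, hK, Nat.card_eq_fintype_card]

omit [Fintype F] in
theorem eq_algebraMap_of_scalar {e : ℕ} {K : Type*} [Field K] [Algebra F K]
    {L : K →ₐ[F] Matrix (Fin e) (Fin e) F} (hL : Function.Injective L) {z : K} {c : F}
    (h : L z = Matrix.scalar (Fin e) c) : z = algebraMap F K c := hL (by
  rw [h, AlgHom.commutes, Matrix.scalar_apply, Matrix.algebraMap_eq_diagonal]
  rfl)

theorem exists_cubic : ∃ A : Matrix.SpecialLinearGroup (Fin 3) F,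
    (Fintype.card F ^ 2 + Fintype.card F + 1) / Nat.gcd 3 (Fintype.card F - 1) ∣ orderOf (slToPSL 3 F A) := by
  obtain ⟨K, _, _, g, L, hg, hL, hdet⟩ := exists_singer (F := F) 3 (by norm_num)
  set q := Fintype.card F with hq
  have hq2 : 2 ≤ q := Fintype.one_lt_card
  have hfac : q ^ 3 - 1 = (q - 1) * (q ^ 2 + q + 1) := by
    obtain ⟨r, hr⟩ : ∃ r, q = r + 1 := ⟨q - 1, by omega⟩
    rw [hr, Nat.add_sub_cancel, show (r + 1) ^ 3 = r * ((r + 1) ^ 2 + (r + 1) + 1) + 1 by ring, Nat.add_sub_cancel]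
  have hd : (L ((g ^ (q - 1) : Kˣ) : K)).det = 1 := by
    refine (algebraMap F K).injective ?_
    rw [hdet, map_one, ← Units.val_pow_eq_pow_val, ← pow_mul, Units.val_eq_one, ← orderOf_dvd_iff_pow_eq_one, hg, hfac]
    exact dvd_of_eq (by rw [Finset.sum_range_succ, Finset.sum_range_succ, Finset.sum_range_one]; ring)
  refine ⟨slMk (L ((g ^ (q - 1) : Kˣ) : K)) hd, ?_⟩
  obtain ⟨c, hc⟩ := (slToPSL_pow_eq_one_iff _ _).1 (pow_orderOf_eq_one (slToPSL 3 F (slMk (L ((g ^ (q - 1) : Kˣ) : K)) hd)))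
  set j := orderOf (slToPSL 3 F (slMk (L ((g ^ (q - 1) : Kˣ) : K)) hd))
  change L ((g ^ (q - 1) : Kˣ) : K) ^ j = _ at hc
  rw [← map_pow] at hc
  have h := eq_algebraMap_of_scalar hL hc
  rw [← Units.val_pow_eq_pow_val, ← pow_mul] at h
  have hc0 : c ≠ 0 := fun h0 => by rw [h0, map_zero] at h; exact Units.ne_zero _ h
  have h1 : (g ^ ((q - 1) * j)) ^ (q - 1) = 1 := Units.ext (by
    rw [Units.val_pow_eq_pow_val, h, ← map_pow, FiniteField.pow_card_sub_one_eq_one c hc0, map_one, Units.val_one])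
  rw [← pow_mul, ← orderOf_dvd_iff_pow_eq_one, hg, hfac, mul_assoc, mul_dvd_mul_iff_left (show q - 1 ≠ 0 by omega)] at h1
  have hgcd : Nat.gcd (q - 1) (q ^ 2 + q + 1) ∣ Nat.gcd 3 (q - 1) := by
    refine Nat.dvd_gcd ?_ (Nat.gcd_dvd_left _ _)
    obtain ⟨r, hr⟩ : ∃ r, q = r + 1 := ⟨q - 1, by omega⟩
    rw [hr, Nat.add_sub_cancel, show (r + 1) ^ 2 + (r + 1) + 1 = 3 + r * (r + 3) by ring, Nat.gcd_add_mul_left_right]
    exact Nat.gcd_dvd_right _ _
  have hd0 : 0 < Nat.gcd 3 (q - 1) := Nat.gcd_pos_of_pos_left _ (by norm_num)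
  have hdvd := dvd_cubic (q := q) (by omega) (Nat.gcd_dvd_right 3 (q - 1)) (Nat.gcd_dvd_left _ _)
  rw [Nat.div_dvd_iff_dvd_mul hdvd hd0]
  have h2 : q ^ 2 + q + 1 ∣ Nat.gcd (j * (q ^ 2 + q + 1)) (j * (q - 1)) := Nat.dvd_gcd (dvd_mul_left _ _) h1
  rw [Nat.gcd_mul_left, Nat.gcd_comm] at h2
  rw [mul_comm]
  exact h2.trans (Nat.mul_dvd_mul_left j hgcd)

theorem exists_quadratic : ∃ A : Matrix.SpecialLinearGroup (Fin 3) F,
    (Fintype.card F ^ 2 - 1) / Nat.gcd 3 (Fintype.card F - 1) ∣ orderOf (slToPSL 3 F A) := by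
  obtain ⟨K, _, _, g, L, hg, hL, hdet⟩ := exists_singer (F := F) 2 (by norm_num)
  set q := Fintype.card F with hq
  have hq2 : 2 ≤ q := Fintype.one_lt_card
  set δ := (L (g : K)).det with hδdef
  have hδ : δ ≠ 0 := fun h0 => by
    have := hdet (g : K)
    rw [← hδdef, h0, map_zero] at this
    exact pow_ne_zero _ g.ne_zero this.symm
  have hd : (blk 2 1 (L (g : K), Matrix.scalar (Fin 1) δ⁻¹)).det = 1 := by
    rw [det_blk, Matrix.scalar_apply, Matrix.det_diagonal, Fin.prod_const, pow_one, ← hδdef, mul_inv_cancel₀ hδ]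
  refine ⟨slMk _ hd, ?_⟩
  obtain ⟨c, hc⟩ := (slToPSL_pow_eq_one_iff _ _).1 (pow_orderOf_eq_one (slToPSL 3 F (slMk _ hd)))
  set j := orderOf (slToPSL 3 F (slMk _ hd))
  change blk 2 1 (L (g : K), Matrix.scalar (Fin 1) δ⁻¹) ^ j = _ at hc
  rw [← map_pow, Prod.pow_mk, ← map_pow, ← map_pow] at hc
  obtain ⟨h1, h2⟩ := blk_eq_scalar hc
  have h1' := eq_algebraMap_of_scalar hL h1
  have h2' := scalar_coeff le_rfl h2
  have hc0 : c ≠ 0 := fun h0 => by rw [h0, map_zero] at h1'; exact pow_ne_zero _ g.ne_zero h1'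
  have hsum : ∑ i ∈ Finset.range 2, q ^ i = 1 + q := by simp [Finset.sum_range_succ]
  have e1 : g ^ (j * (q - 1)) = 1 := Units.ext (by
    rw [pow_mul, Units.val_pow_eq_pow_val, Units.val_pow_eq_pow_val, h1', ← map_pow,
      FiniteField.pow_card_sub_one_eq_one c hc0, map_one, Units.val_one])
  have e2 : g ^ (j * (q + 2)) = 1 := Units.ext (by
    have e3 : c * δ ^ j = 1 := by rw [← h2', inv_pow, inv_mul_cancel₀ (pow_ne_zero _ hδ)]
    have e4 := congrArg (algebraMap F K) e3
    rw [map_mul, map_pow, map_one, hδdef, hdet, hsum, ← h1', ← pow_mul, ← pow_add] at e4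
    rw [Units.val_pow_eq_pow_val, Units.val_one, ← e4]
    congr 1
    ring)
  rw [← orderOf_dvd_iff_pow_eq_one, hg] at e1 e2
  have h3 := Nat.dvd_gcd e1 e2
  rw [Nat.gcd_mul_left] at h3
  have hgcd : Nat.gcd (q - 1) (q + 2) ∣ Nat.gcd 3 (q - 1) := by
    refine Nat.dvd_gcd ?_ (Nat.gcd_dvd_left _ _)
    rw [show q + 2 = 3 + (q - 1) by omega, Nat.gcd_add_self_right]
    exact Nat.gcd_dvd_right _ _
  rw [Nat.div_dvd_iff_dvd_mul (dvd_sq_sub (Nat.gcd_dvd_right _ _)) (Nat.gcd_pos_of_pos_left _ (by norm_num)), mul_comm]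
  exact h3.trans (Nat.mul_dvd_mul_left j hgcd)

/-- Orders `q - 1` and `p * (q - 1) / d`. -/
theorem exists_split : (∃ A : Matrix.SpecialLinearGroup (Fin 3) F, Fintype.card F - 1 ∣ orderOf (slToPSL 3 F A)) ∧
    ∃ A : Matrix.SpecialLinearGroup (Fin 3) F,
      p * (Fintype.card F - 1) / Nat.gcd 3 (Fintype.card F - 1) ∣ orderOf (slToPSL 3 F A) := by
  obtain ⟨u, hu⟩ := IsCyclic.exists_generator (α := Fˣ)
  have huo : orderOf u = Fintype.card F - 1 := by
    rw [orderOf_eq_card_of_forall_mem_zpowers hu, Nat.card_units, Nat.card_eq_fintype_card]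
  constructor
  · have hd : (blk 2 1 (Matrix.diagonal ![(u : F), ((u⁻¹ : Fˣ) : F)], (1 : Matrix (Fin 1) (Fin 1) F))).det = 1 := by
      rw [det_blk, Matrix.det_one, mul_one, Matrix.det_diagonal, Fin.prod_univ_two]
      simp
    refine ⟨slMk _ hd, ?_⟩
    obtain ⟨c, hc⟩ := (slToPSL_pow_eq_one_iff _ _).1 (pow_orderOf_eq_one (slToPSL 3 F (slMk _ hd)))
    set j := orderOf (slToPSL 3 F (slMk _ hd))
    change blk 2 1 _ ^ j = _ at hc
    rw [← map_pow, Prod.pow_mk, one_pow, Matrix.diagonal_pow] at hc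
    obtain ⟨h1, h2⟩ := blk_eq_scalar hc
    have hc1 : c = 1 := (scalar_coeff (n := 1) le_rfl (by rw [map_one]; exact h2)).symm
    subst hc1
    have h3 : (u : F) ^ j = 1 := by
      rw [map_one, ← Matrix.diagonal_one] at h1
      simpa using congrFun (Matrix.diagonal_injective h1) 0
    rw [← huo]
    exact orderOf_dvd_of_pow_eq_one (Units.ext (by rw [Units.val_pow_eq_pow_val, h3, Units.val_one]))
  · have hd : (blk 2 1 ((u : F) • tv, Matrix.scalar (Fin 1) (((u ^ 2)⁻¹ : Fˣ) : F))).det = 1 := by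
      simp only [det_blk, tv, Matrix.det_smul, Matrix.det_fin_two_of, Matrix.scalar_apply,
        Matrix.det_diagonal, Fintype.card_fin, Fin.prod_const]
      simp
    refine ⟨slMk _ hd, ?_⟩
    obtain ⟨c, hc⟩ := (slToPSL_pow_eq_one_iff _ _).1 (pow_orderOf_eq_one (slToPSL 3 F (slMk _ hd)))
    set j := orderOf (slToPSL 3 F (slMk _ hd))
    change blk 2 1 _ ^ j = _ at hc
    rw [← map_pow, Prod.pow_mk, _root_.smul_pow, ← map_pow] at hc
    obtain ⟨h1, h2⟩ := blk_eq_scalar hc
    obtain ⟨hpj, hcu⟩ := (tv_pow_eq_scalar_iff p j (pow_ne_zero _ u.ne_zero)).1 h1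
    have h3 := scalar_coeff le_rfl h2
    rw [hcu, ← Units.val_pow_eq_pow_val, ← Units.val_pow_eq_pow_val, Units.val_inj, inv_pow, inv_eq_iff_mul_eq_one,
      ← pow_mul, ← pow_add, ← orderOf_dvd_iff_pow_eq_one, huo] at h3
    rw [Nat.mul_div_assoc p (Nat.gcd_dvd_right _ _)]
    refine Nat.Coprime.mul_dvd_of_dvd_of_dvd
      ((p_coprime_sub_one (F := F)).coprime_dvd_right (Nat.div_dvd_of_dvd (Nat.gcd_dvd_right _ _))) hpj ?_
    rw [Nat.div_dvd_iff_dvd_mul (Nat.gcd_dvd_right _ _) (Nat.gcd_pos_of_pos_left _ (by norm_num))]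
    have h4 : Fintype.card F - 1 ∣ Nat.gcd (3 * j) ((Fintype.card F - 1) * j) :=
      Nat.dvd_gcd (h3.trans (dvd_of_eq (by ring))) (dvd_mul_right _ _)
    rwa [Nat.gcd_mul_right] at h4

/-- An element of order four in characteristic two. -/
theorem exists_four (h2 : p = 2) : ∃ A : Matrix.SpecialLinearGroup (Fin 3) F, 4 ∣ orderOf (slToPSL 3 F A) := by
  subst h2
  let M : Matrix (Fin 3) (Fin 3) F := !![1, 1, 0; 0, 1, 1; 0, 0, 1]
  have hd : M.det = 1 := by simp [M, Matrix.det_fin_three]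
  have h20 : (1 : F) + 1 = 0 := by rw [one_add_one_eq_two]; exact_mod_cast CharP.cast_eq_zero F 2
  have hM2 : M ^ 2 = !![1, 0, 1; 0, 1, 0; 0, 0, 1] := by
    rw [sq]; ext i j; fin_cases i <;> fin_cases j <;> simp [M, Matrix.mul_apply, Fin.sum_univ_three, h20]
  have hM4 : M ^ 4 = 1 := by
    rw [show (4 : ℕ) = 2 * 2 from rfl, pow_mul, hM2, sq]
    ext i j; fin_cases i <;> fin_cases j <;> simp [Matrix.mul_apply, Fin.sum_univ_three, h20]
  refine ⟨slMk M hd, ?_⟩
  have h4 : orderOf (slToPSL 3 F (slMk M hd)) ∣ 2 ^ 2 :=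
    orderOf_dvd_of_pow_eq_one ((slToPSL_pow_eq_one_iff _ _).2 ⟨1, by rw [map_one]; exact hM4⟩)
  obtain ⟨i, hi, hi'⟩ := (Nat.dvd_prime_pow Nat.prime_two).1 h4
  rcases Nat.lt_or_ge i 2 with hlt | hge
  · exfalso
    have h : orderOf (slToPSL 3 F (slMk M hd)) ∣ 2 := hi' ▸ (pow_dvd_pow 2 (show i ≤ 1 by omega))
    obtain ⟨c, hc⟩ := (slToPSL_pow_eq_one_iff _ _).1 (orderOf_dvd_iff_pow_eq_one.1 h)
    change M ^ 2 = _ at hc
    rw [hM2] at hc
    have := congrFun (congrFun hc 0) 2
    simp at this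
  · rw [hi', show i = 2 by omega]; norm_num

/-- The spectrum of `PSL 3`. -/
theorem range_orderOf :
    Set.range (orderOf : Matrix.ProjectiveSpecialLinearGroup (Fin 3) F → ℕ) = {m | Spec (Fintype.card F) p m} := by
  ext m
  constructor
  · rintro ⟨y, rfl⟩
    obtain ⟨A, rfl⟩ := slToPSL_surjective y
    exact orderOf_mem p A
  · rintro (h | h | h | h | ⟨h2, h⟩)
    · obtain ⟨A, hA⟩ := exists_cubic (F := F); exact mem_range_of_dvd (h.trans hA)
    · obtain ⟨A, hA⟩ := exists_quadratic (F := F); exact mem_range_of_dvd (h.trans hA)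
    · obtain ⟨A, hA⟩ := (exists_split (F := F) p).1; exact mem_range_of_dvd (h.trans hA)
    · obtain ⟨A, hA⟩ := (exists_split (F := F) p).2; exact mem_range_of_dvd (h.trans hA)
    · obtain ⟨A, hA⟩ := exists_four (F := F) p h2; exact mem_range_of_dvd (h.trans hA)

end finiteField

end Cfsg.Agent.Fus.SpectrumPSLThree
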