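import Mathlib

/-! Every even permutation is a product of a permutation with two 2-cycles and an even conjugate of its inverse. -/

set_option autoImplicit false
set_option linter.unusedSectionVars false
set_option linter.unusedSimpArgs false

namespace Cfsg.Agent.Fus.SpinComm

open Equiv Equiv.Perm Finset

variable {α : Type*} [Fintype α] [DecidableEq α]

theorem invol_type {t : Perm α} (h : t * t = 1) :
    ∃ k, t.cycleType = Multiset.replicate k 2 ∧ t.support.card = 2 * k ∧ sign t = (-1) ^ k := by
  have hd : orderOf t ∣ 2 := orderOf_dvd_of_pow_eq_one (by rw [pow_two, h])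
  have h2 : t.cycleType = Multiset.replicate t.cycleType.card 2 :=
    Multiset.eq_replicate_card.2 fun m hm => le_antisymm
      (Nat.le_of_dvd two_pos ((dvd_of_mem_cycleType hm).trans hd)) (two_le_of_mem_cycleType hm)
  refine ⟨t.cycleType.card, h2, ?_, ?_⟩
  · rw [← sum_cycleType, h2]
    simp [mul_comm]
  · rw [sign_of_cycleType, h2]
    simp [Multiset.sum_replicate, pow_add, mul_comm _ 2, pow_mul]

theorem invol_conj {s t : Perm α} (hs : s * s = 1) (ht : t * t = 1)
    (hc : s.support.card = t.support.card) : ∃ σ, σ * s * σ⁻¹ = t := by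
  obtain ⟨k, hk, hk', -⟩ := invol_type hs
  obtain ⟨l, hl, hl', -⟩ := invol_type ht
  refine isConj_iff.1 (isConj_iff_cycleType_eq.2 ?_)
  rw [hk, hl, show k = l by omega]

theorem zpow_half (σ : Perm α) (d : ℤ) (h : σ ^ (2 * d) = 1) :
    σ ^ d = 1 ∨ σ ^ d = σ ^ ((orderOf σ : ℤ) / 2) := by
  obtain ⟨m, hm⟩ := orderOf_dvd_iff_zpow_eq_one.2 h
  rcases Int.even_or_odd' m with ⟨r, rfl | rfl⟩
  · left
    rw [show d = (orderOf σ : ℤ) * r by linarith, zpow_mul, zpow_natCast, pow_orderOf_eq_one, one_zpow]
  · right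
    have hd : d = (orderOf σ : ℤ) * r + (orderOf σ : ℤ) / 2 := by
      have : (orderOf σ : ℤ) = 2 * (d - (orderOf σ : ℤ) * r) := by linarith
      have h' : (orderOf σ : ℤ) / 2 = d - (orderOf σ : ℤ) * r := by omega
      rw [h']; ring
    nth_rw 1 [hd]
    rw [zpow_add, zpow_mul, zpow_natCast, pow_orderOf_eq_one, one_zpow, one_mul]

/-- `x` is a product of two balanced involutions on its support. -/
def Balanced (x : Perm α) : Prop :=
  ∃ t s : Perm α, t * t = 1 ∧ s * s = 1 ∧ x = t * s ∧ t.support ⊆ x.support ∧ s.support ⊆ x.support ∧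
    t.support.card ≤ s.support.card + 2 ∧ s.support.card ≤ t.support.card + 2 ∧
    (x ≠ 1 → t.support.card + s.support.card < 2 * x.support.card)

theorem balanced_cycle {σ : Perm α} (hσ : σ.IsCycle) : Balanced σ := by
  classical
  obtain ⟨x₀, hx₀, hsame⟩ := hσ
  have hσ : σ.IsCycle := ⟨x₀, hx₀, hsame⟩
  let f : α → α := fun y => if h : σ.SameCycle x₀ y then (σ ^ (-h.choose)) x₀ else y
  have hf : ∀ i : ℤ, f ((σ ^ i) x₀) = (σ ^ (-i)) x₀ := by
    intro i
    have h : σ.SameCycle x₀ ((σ ^ i) x₀) := ⟨i, rfl⟩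
    simp only [f, dif_pos h]
    have e := congrArg (σ ^ (-i - h.choose)) h.choose_spec
    rw [← Perm.mul_apply, ← zpow_add, ← Perm.mul_apply, ← zpow_add] at e
    rw [show -i - h.choose + h.choose = -i by ring, show -i - h.choose + i = -h.choose by ring] at e
    exact e.symm
  have hoff : ∀ y, ¬ σ.SameCycle x₀ y → f y = y := fun y h => dif_neg h
  have hinv : Function.Involutive f := fun y => by
    by_cases h : σ.SameCycle x₀ y
    · obtain ⟨i, rfl⟩ := h
      rw [hf, hf, neg_neg]
    · rw [hoff y h, hoff y h]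
  set s : Perm α := hinv.toPerm f with hsdef
  have hs_on : ∀ i : ℤ, s ((σ ^ i) x₀) = (σ ^ (-i)) x₀ := hf
  have hfix : ∀ y, ¬ σ.SameCycle x₀ y → σ y = y := fun y h => by
    by_contra hy
    exact h (hsame hy)
  have hmem : ∀ y, y ∈ σ.support ↔ σ.SameCycle x₀ y := fun y => by
    rw [mem_support]
    exact ⟨fun h => hsame h, fun h e => hx₀ ((h.apply_eq_self_iff).2 e)⟩
  have hs2 : s * s = 1 := Perm.ext hinv
  have ht_on : ∀ i : ℤ, (σ * s) ((σ ^ i) x₀) = (σ ^ (1 - i)) x₀ := fun i => by
    rw [Perm.mul_apply, hs_on, show (1 : ℤ) - i = 1 + -i by ring, zpow_add, zpow_one, Perm.mul_apply]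
  have ht_off : ∀ y, ¬ σ.SameCycle x₀ y → (σ * s) y = y := fun y h => by
    rw [Perm.mul_apply, show s y = y from hoff y h, hfix y h]
  have ht2 : σ * s * (σ * s) = 1 := Perm.ext fun y => by
    rw [Perm.mul_apply, Perm.one_apply]
    by_cases h : σ.SameCycle x₀ y
    · obtain ⟨i, rfl⟩ := h
      rw [ht_on, ht_on, show (1 : ℤ) - (1 - i) = i by ring]
    · rw [ht_off y h, ht_off y h]
  have hss : s.support ⊆ σ.support := fun y hy => by
    rw [hmem]; by_contra h; exact mem_support.1 hy (hoff y h)
  have hts : (σ * s).support ⊆ σ.support := fun y hy => by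
    rw [hmem]; by_contra h; exact mem_support.1 hy (ht_off y h)
  have hone : ∀ d : ℤ, (σ ^ d) x₀ = x₀ → σ ^ d = 1 := by
    intro d hd
    refine Perm.ext fun y => ?_
    by_cases h : σ.SameCycle x₀ y
    · obtain ⟨i, rfl⟩ := h
      rw [← Perm.mul_apply, ← zpow_add, add_comm, zpow_add, Perm.mul_apply, hd, Perm.one_apply]
    · exact zpow_apply_eq_self_of_apply_eq_self (hfix y h) d
  -- an involution inverting the cycle fixes at most two of its points
  have hbound : ∀ (t : Perm α) (c : ℤ), (∀ i : ℤ, t ((σ ^ i) x₀) = (σ ^ (c - i)) x₀) →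
      σ.support.card ≤ t.support.card + 2 := by
    intro t c ht
    set F := σ.support.filter fun y => t y = y
    suffices hF : F.card ≤ 2 by
      have h1 : σ.support ⊆ t.support ∪ F := fun y hy => by
        by_cases e : t y = y
        · exact Finset.mem_union_right _ (Finset.mem_filter.2 ⟨hy, e⟩)
        · exact Finset.mem_union_left _ (mem_support.2 e)
      have := (Finset.card_le_card h1).trans (Finset.card_union_le _ _)
      omega
    rcases F.eq_empty_or_nonempty with h | ⟨y₁, hy₁⟩
    · simp [h]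
    have key : ∀ y ∈ F, ∃ i : ℤ, y = (σ ^ i) x₀ ∧ σ ^ (c - 2 * i) = 1 := fun y hy => by
      obtain ⟨hy1, hy2⟩ := Finset.mem_filter.1 hy
      obtain ⟨i, rfl⟩ := (hmem y).1 hy1
      refine ⟨i, rfl, hone _ ?_⟩
      rw [ht] at hy2
      have := congrArg (σ ^ (-i)) hy2
      rw [← Perm.mul_apply, ← zpow_add, ← Perm.mul_apply, ← zpow_add, neg_add_cancel, zpow_zero,
        Perm.one_apply, show -i + (c - i) = c - 2 * i by ring] at this
      exact this
    obtain ⟨i₁, rfl, hi₁⟩ := key y₁ hy₁
    have hsub : F ⊆ {(σ ^ i₁) x₀, (σ ^ ((orderOf σ : ℤ) / 2)) ((σ ^ i₁) x₀)} := fun y hy => by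
      obtain ⟨i, rfl, hi⟩ := key y hy
      have h0 : σ ^ (2 * (i - i₁)) = 1 := by
        rw [show 2 * (i - i₁) = (c - 2 * i₁) - (c - 2 * i) by ring, zpow_sub, hi, hi₁, inv_one, mul_one]
      rw [Finset.mem_insert, Finset.mem_singleton]
      have e : (σ ^ i) x₀ = (σ ^ (i - i₁)) ((σ ^ i₁) x₀) := by
        rw [← Perm.mul_apply, ← zpow_add, sub_add_cancel]
      rcases zpow_half σ _ h0 with h | h <;> rw [e, h]
      · exact Or.inl rfl
      · exact Or.inr rfl
    exact (Finset.card_le_card hsub).trans Finset.card_le_two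
  have hb1 := hbound s 0 (fun i => by rw [hs_on, zero_sub])
  have hb2 := hbound (σ * s) 1 ht_on
  have hc1 := Finset.card_le_card hts
  have hc2 : s.support.card < σ.support.card := by
    refine Finset.card_lt_card ⟨hss, fun h => ?_⟩
    have := mem_support.1 (h (mem_support.2 hx₀))
    exact this (by simpa using hs_on 0)
  refine ⟨σ * s, s, ht2, hs2, by rw [mul_assoc, hs2, mul_one], hts, hss, ?_, ?_, fun _ => ?_⟩ <;> omega

theorem balanced (x : Perm α) : Balanced x := by
  induction x using Equiv.Perm.cycle_induction_on with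
  | base_one => exact ⟨1, 1, by simp, by simp, by simp, by simp, by simp, by simp, by simp, fun h => (h rfl).elim⟩
  | base_cycles σ hσ => exact balanced_cycle hσ
  | induction_disjoint σ τ hd hσc ihσ ihτ =>
    obtain ⟨a, b, ha, hb, he, has, hbs, hab, hba, hlt⟩ := ihσ
    obtain ⟨c, d, hc, hd', he', hcs, hds, hcd, hdc, -⟩ := ihτ
    -- either orientation of the second pair
    suffices H : ∀ c d : Perm α, c * c = 1 → d * d = 1 → τ = c * d → c.support ⊆ τ.support → d.support ⊆ τ.support →
        (a.support.card + c.support.card ≤ b.support.card + d.support.card + 2) →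
        (b.support.card + d.support.card ≤ a.support.card + c.support.card + 2) → Balanced (σ * τ) by
      rcases (by omega :
          (a.support.card + c.support.card ≤ b.support.card + d.support.card + 2 ∧
            b.support.card + d.support.card ≤ a.support.card + c.support.card + 2) ∨
          (a.support.card + d.support.card ≤ b.support.card + c.support.card + 2 ∧
            b.support.card + c.support.card ≤ a.support.card + d.support.card + 2)) with ⟨h1, h2⟩ | ⟨h1, h2⟩
      · exact H c d hc hd' he' hcs hds h1 h2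
      · have hci : c⁻¹ = c := inv_eq_of_mul_eq_one_right hc
        have hcard : (c * d * c).support.card = d.support.card := by
          nth_rw 2 [← hci]; exact card_support_conj
        refine H (c * d * c) c ?_ hc ?_ ?_ hcs (hcard.symm ▸ h1) (hcard.symm ▸ h2)
        · calc c * d * c * (c * d * c) = c * d * (c * c) * d * c := by group
            _ = c * (d * d) * c := by rw [hc, mul_one, mul_assoc c d d]
            _ = 1 := by rw [hd', mul_one, hc]
        · rw [mul_assoc, hc, mul_one, he']
        · intro y hy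
          by_contra hyτ
          have h1 : c y = y := notMem_support.1 fun h => hyτ (hcs h)
          have h2 : d y = y := notMem_support.1 fun h => hyτ (hds h)
          exact mem_support.1 hy (by simp [Perm.mul_apply, h1, h2])
    intro c d hc hd' he' hcs hds h1 h2
    have hdis := (disjoint_iff_disjoint_support.1 hd)
    have dis : ∀ u v : Perm α, u.support ⊆ σ.support → v.support ⊆ τ.support → Perm.Disjoint u v := fun u v hu hv =>
      disjoint_iff_disjoint_support.2 (Finset.disjoint_of_subset_left hu (Finset.disjoint_of_subset_right hv hdis))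
    have cbc : b * c = c * b := (dis b c hbs hcs).commute.eq
    have cac : a * c = c * a := (dis a c has hcs).commute.eq
    have cbd : b * d = d * b := (dis b d hbs hds).commute.eq
    have hs : (σ * τ).support = σ.support ∪ τ.support := hd.support_mul
    refine ⟨a * c, b * d, ?_, ?_, ?_, ?_, ?_, ?_, ?_, ?_⟩
    · rw [mul_assoc, ← mul_assoc c, ← cac, mul_assoc a c, hc, mul_one, ha]
    · rw [mul_assoc, ← mul_assoc d, ← cbd, mul_assoc b d, hd', mul_one, hb]
    · rw [he, he', mul_assoc, ← mul_assoc b, cbc, mul_assoc c, ← mul_assoc a]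
    · rw [(dis a c has hcs).support_mul, hs]; exact Finset.union_subset_union has hcs
    · rw [(dis b d hbs hds).support_mul, hs]; exact Finset.union_subset_union hbs hds
    · rw [(dis a c has hcs).card_support_mul, (dis b d hbs hds).card_support_mul]; exact h1
    · rw [(dis a c has hcs).card_support_mul, (dis b d hbs hds).card_support_mul]; exact h2
    · intro _
      rw [(dis a c has hcs).card_support_mul, (dis b d hbs hds).card_support_mul, hd.card_support_mul]
      have := hlt hσc.ne_one
      have := Finset.card_le_card hcs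
      have := Finset.card_le_card hds
      omega

/-- Two 2-cycles `(a b)` and `(c e)`. -/
structure TwoPairs (A : Perm α) where
  a : α
  b : α
  c : α
  e : α
  hab : a ≠ b
  hac : a ≠ c
  hae : a ≠ e
  hbc : b ≠ c
  hbe : b ≠ e
  hce : c ≠ e
  Aa : A a = b
  Ab : A b = a
  Ac : A c = e
  Ae : A e = c

theorem twoPairs_of_points {A : Perm α} {a c : α} (ha : A (A a) = a) (ha' : A a ≠ a) (hc : A (A c) = c)
    (hc' : A c ≠ c) (h1 : c ≠ a) (h2 : c ≠ A a) : Nonempty (TwoPairs A) :=
  ⟨⟨a, A a, c, A c, ha'.symm, h1.symm, fun h => h2 (by conv_rhs => rw [h, hc]), h2.symm,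
    fun h => h1 (A.injective h).symm, hc'.symm, rfl, ha, rfl, hc⟩⟩

/-- `x` is `A` times an even conjugate of `A⁻¹`. -/
def Splits (x : Perm α) : Prop :=
  ∃ A g : Perm α, Nonempty (TwoPairs A) ∧ sign A = 1 ∧ sign g = 1 ∧ x = A * (g * A⁻¹ * g⁻¹)

theorem splits_of_conj {x A σ : Perm α} (P : TwoPairs A) (hA : sign A = 1)
    (hx : x = A * (σ * A⁻¹ * σ⁻¹)) : Splits x := by
  rcases Int.units_eq_one_or (sign σ) with h | h
  · exact ⟨A, σ, ⟨P⟩, hA, h, hx⟩
  have hcomm : Commute (swap P.a P.b) A := by
    have := swap_apply_apply A P.a P.b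
    rw [P.Aa, P.Ab, swap_comm P.b P.a] at this
    exact (eq_mul_inv_iff_mul_eq.1 this)
  refine ⟨A, σ * swap P.a P.b, ⟨P⟩, hA, ?_, ?_⟩
  · rw [map_mul, h, sign_swap P.hab]; rfl
  · rw [hx, _root_.mul_inv_rev, show σ * swap P.a P.b * A⁻¹ * ((swap P.a P.b)⁻¹ * σ⁻¹) =
      σ * (swap P.a P.b * A⁻¹ * (swap P.a P.b)⁻¹) * σ⁻¹ by group, hcomm.inv_right.eq, mul_inv_cancel_right]

theorem sign_swap_mul {a b c d : α} (h : a ≠ b) (h' : c ≠ d) : sign (swap a b * swap c d) = 1 := by
  rw [map_mul, sign_swap h, sign_swap h']; rfl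

theorem splits_pairs {a b c d : α} (hab : a ≠ b) (hac : a ≠ c) (had : a ≠ d) (hbc : b ≠ c) (hbd : b ≠ d)
    (hcd : c ≠ d) : Splits (swap a b * swap c d) := by
  have P : TwoPairs (swap a c * swap b d) := ⟨a, c, b, d, hac, hab, had, hbc.symm, hcd, hbd,
    by simp [swap_apply_of_ne_of_ne hab had], by simp [swap_apply_of_ne_of_ne hbc.symm hcd],
    by simp [swap_apply_of_ne_of_ne had.symm hcd.symm], by simp [swap_apply_of_ne_of_ne hab.symm hbc]⟩
  refine splits_of_conj (σ := swap c d) P (sign_swap_mul hac hbd) ?_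
  rw [_root_.mul_inv_rev, Perm.inv_def, Perm.inv_def, symm_swap, symm_swap,
    show swap c d * (swap b d * swap a c) * (swap c d)⁻¹ =
      (swap c d * swap b d * (swap c d)⁻¹) * (swap c d * swap a c * (swap c d)⁻¹) by group,
    ← swap_apply_apply, ← swap_apply_apply, swap_apply_left, swap_apply_right,
    swap_apply_of_ne_of_ne hbc hbd, swap_apply_of_ne_of_ne hac had]
  ext y
  simp only [Perm.mul_apply]
  by_cases ha : y = a
  · subst ha
    simp [swap_apply_of_ne_of_ne, hab, hac, had, hbc, hbd, hcd, hab.symm, hac.symm, had.symm, hbc.symm, hbd.symm, hcd.symm]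
  by_cases hb : y = b
  · subst hb
    simp [swap_apply_of_ne_of_ne, hab, hac, had, hbc, hbd, hcd, hab.symm, hac.symm, had.symm, hbc.symm, hbd.symm, hcd.symm]
  by_cases hc : y = c
  · subst hc
    simp [swap_apply_of_ne_of_ne, hab, hac, had, hbc, hbd, hcd, hab.symm, hac.symm, had.symm, hbc.symm, hbd.symm, hcd.symm]
  by_cases hd : y = d
  · subst hd
    simp [swap_apply_of_ne_of_ne, hab, hac, had, hbc, hbd, hcd, hab.symm, hac.symm, had.symm, hbc.symm, hbd.symm, hcd.symm]
  simp [swap_apply_of_ne_of_ne, ha, hb, hc, hd]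

theorem splits_overlap {a b c : α} (hab : a ≠ b) (hac : a ≠ c) (hbc : b ≠ c) (h5 : 5 ≤ Fintype.card α) :
    Splits (swap a b * swap a c) := by
  obtain ⟨d, hd, e, he, hde⟩ := Finset.one_lt_card.1 (show 1 < (Finset.univ \ ({a, b, c} : Finset α)).card by
    have := Finset.le_card_sdiff ({a, b, c} : Finset α) Finset.univ
    have := Finset.card_le_three (a := a) (b := b) (c := c)
    rw [Finset.card_univ] at *
    omega)
  simp only [Finset.mem_sdiff, Finset.mem_univ, true_and, Finset.mem_insert, Finset.mem_singleton, not_or] at hd he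
  have P : TwoPairs (swap a b * swap d e) := ⟨a, b, d, e, hab, Ne.symm hd.1, Ne.symm he.1, Ne.symm hd.2.1, Ne.symm he.2.1, hde,
    by simp [swap_apply_of_ne_of_ne (Ne.symm hd.1) (Ne.symm he.1)], by simp [swap_apply_of_ne_of_ne (Ne.symm hd.2.1) (Ne.symm he.2.1)],
    by simp [swap_apply_of_ne_of_ne he.1 he.2.1], by simp [swap_apply_of_ne_of_ne hd.1 hd.2.1]⟩
  refine splits_of_conj (σ := swap b c) P (sign_swap_mul hab hde) ?_
  rw [_root_.mul_inv_rev, Perm.inv_def, Perm.inv_def, symm_swap, symm_swap,
    show swap b c * (swap d e * swap a b) * (swap b c)⁻¹ =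
      (swap b c * swap d e * (swap b c)⁻¹) * (swap b c * swap a b * (swap b c)⁻¹) by group,
    ← swap_apply_apply, ← swap_apply_apply, swap_apply_left, swap_apply_of_ne_of_ne hd.2.1 hd.2.2,
    swap_apply_of_ne_of_ne he.2.1 he.2.2, swap_apply_of_ne_of_ne hab hac,
    mul_assoc, ← mul_assoc (swap d e), swap_mul_self, one_mul]

theorem centralizer_move {t : Perm α} (ht : t * t = 1) {x p : α} (hx : t x ≠ x) (hp : t p ≠ p) :
    ∃ τ : Perm α, τ * t = t * τ ∧ τ x = p ∧ ∀ y, t y = y → τ y = y := by
  have htt : ∀ y, t (t y) = y := fun y => congrArg (fun s : Perm α => s y) ht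
  have key : ∀ u v : α, t * swap u v = swap (t u) (t v) * t := fun u v =>
    (eq_mul_inv_iff_mul_eq.1 (swap_apply_apply t u v)).symm
  rcases eq_or_ne x p with rfl | hxp
  · exact ⟨1, by simp, rfl, fun _ _ => rfl⟩
  rcases eq_or_ne (t x) p with rfl | htp
  · refine ⟨swap x (t x), ?_, swap_apply_left _ _, fun y hy => ?_⟩
    · rw [key, htt, swap_comm]
    · exact swap_apply_of_ne_of_ne (fun e => hx (by rw [e] at hy; exact hy)) (fun e => hp (by rw [e] at hy; exact hy))
  have hxtp : x ≠ t p := fun e => htp (by rw [e, htt])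
  refine ⟨swap x p * swap (t x) (t p), ?_, ?_, fun y hy => ?_⟩
  · rw [← mul_assoc t, key, mul_assoc _ t, key, htt, htt, ← mul_assoc]
    congr 1
    refine (Perm.Disjoint.commute fun y => ?_).eq
    by_cases h : y = x ∨ y = p
    · rcases h with rfl | rfl
      · exact Or.inr (swap_apply_of_ne_of_ne hx.symm hxtp)
      · exact Or.inr (swap_apply_of_ne_of_ne (Ne.symm htp) hp.symm)
    · push Not at h
      exact Or.inl (swap_apply_of_ne_of_ne h.1 h.2)
  · rw [Perm.mul_apply, swap_apply_of_ne_of_ne hx.symm hxtp, swap_apply_left]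
  · have h1 : y ≠ t x := fun e => hx (by rw [e, htt] at hy; exact hy.symm)
    have h2 : y ≠ t p := fun e => hp (by rw [e, htt] at hy; exact hy.symm)
    rw [Perm.mul_apply, swap_apply_of_ne_of_ne h1 h2,
      swap_apply_of_ne_of_ne (fun e => hx (by rw [e] at hy; exact hy)) (fun e => hp (by rw [e] at hy; exact hy))]

/-- Every nontrivial even permutation splits. -/
theorem splits (h5 : 5 ≤ Fintype.card α) {x : Perm α} (hx : sign x = 1) (hne : x ≠ 1) : Splits x := by
  classical
  obtain ⟨t, s, ht, hs, rfl, hts, hss, h1, h2, h3⟩ := balanced x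
  obtain ⟨k, hk, hk', hksign⟩ := invol_type ht
  obtain ⟨l, hl, hl', hlsign⟩ := invol_type hs
  have hkl : k = l := by
    rw [map_mul, hksign, hlsign, ← pow_add, neg_one_pow_eq_one_iff_even (by decide)] at hx
    rw [Nat.even_iff] at hx
    omega
  subst hkl
  have hcard : t.support.card = s.support.card := by omega
  have hsupp : t.support ≠ s.support := by
    intro e
    have hsub : (t * s).support ⊆ t.support := fun y hy => by
      by_contra hyt
      refine mem_support.1 hy ?_
      have hys : y ∉ s.support := e ▸ hyt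
      rw [Perm.mul_apply, notMem_support.1 hys, notMem_support.1 hyt]
    have := Finset.card_le_card hsub
    have := h3 hne
    omega
  have hti : t⁻¹ = t := inv_eq_of_mul_eq_one_right ht
  have hsi : s⁻¹ = s := inv_eq_of_mul_eq_one_right hs
  have htt : ∀ y, t (t y) = y := fun y => congrArg (fun r : Perm α => r y) ht
  obtain ⟨σ, hσ⟩ := invol_conj ht hs hcard
  rcases eq_or_ne k 0 with rfl | hk0
  · exact absurd (by rw [card_support_eq_zero.1 (by omega : t.support.card = 0),
      card_support_eq_zero.1 (by omega : s.support.card = 0), mul_one]) hne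
  rcases eq_or_ne k 1 with rfl | hk1
  · obtain ⟨a, b, hab, rfl⟩ := card_support_eq_two.1 (by omega : t.support.card = 2)
    obtain ⟨c, d, hcd, rfl⟩ := card_support_eq_two.1 (by omega : s.support.card = 2)
    rw [support_swap hab, support_swap hcd] at hsupp
    rcases eq_or_ne c a with rfl | hca
    · exact splits_overlap hab hcd (fun e => hsupp (by rw [e])) h5
    rcases eq_or_ne d a with rfl | hda
    · rw [swap_comm c d]
      exact splits_overlap hab hcd.symm (fun e => hsupp (by rw [e, Finset.pair_comm])) h5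
    rcases eq_or_ne c b with rfl | hcb
    · rw [swap_comm a c]
      exact splits_overlap hab.symm hcd hda.symm h5
    rcases eq_or_ne d b with rfl | hdb
    · rw [swap_comm a d, swap_comm c d]
      exact splits_overlap hab.symm hcd.symm hca.symm h5
    exact splits_pairs hab hca.symm hda.symm hcb.symm hdb.symm hcd
  rcases Nat.even_or_odd k with hev | hod
  · have hA : sign t = 1 := by rw [hksign, hev.neg_one_pow]
    obtain ⟨a, ha⟩ := Finset.card_pos.1 (by omega : 0 < t.support.card)
    obtain ⟨c, hc, hc'⟩ := Finset.exists_mem_notMem_of_card_lt_card (show ({a, t a} : Finset α).card < t.support.card by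
      have := Finset.card_le_two (a := a) (b := t a); omega)
    simp only [Finset.mem_insert, Finset.mem_singleton, not_or] at hc'
    obtain ⟨P⟩ := twoPairs_of_points (htt a) (mem_support.1 ha) (htt c) (mem_support.1 hc) hc'.1 hc'.2
    exact splits_of_conj (σ := σ) P hA (by rw [hti, hσ])
  · have hk3 : 3 ≤ k := by rw [Nat.odd_iff] at hod; omega
    obtain ⟨p, hps, hpt⟩ : ∃ p, p ∈ s.support ∧ p ∉ t.support := by
      by_contra hcon
      push Not at hcon
      exact hsupp (Finset.eq_of_subset_of_card_le hcon hcard.le).symm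
    obtain ⟨q, hqt, hqs⟩ : ∃ q, q ∈ t.support ∧ q ∉ s.support := by
      by_contra hcon
      push Not at hcon
      exact hsupp (Finset.eq_of_subset_of_card_le hcon hcard.ge)
    rw [notMem_support] at hpt hqs
    have hpq : p ≠ q := fun e => mem_support.1 hqt (e ▸ hpt)
    have hA : sign (t * swap p q) = 1 := by
      rw [map_mul, hksign, hod.neg_one_pow, sign_swap hpq]; rfl
    obtain ⟨a, ha, ha'⟩ := Finset.exists_mem_notMem_of_card_lt_card (show ({q, t q} : Finset α).card < t.support.card by
      have := Finset.card_le_two (a := q) (b := t q); omega)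
    obtain ⟨c, hc, hc'⟩ := Finset.exists_mem_notMem_of_card_lt_card
      (show (({q, t q} : Finset α) ∪ {a, t a}).card < t.support.card by
        have := Finset.card_union_le ({q, t q} : Finset α) {a, t a}
        have := Finset.card_le_two (a := q) (b := t q)
        have := Finset.card_le_two (a := a) (b := t a)
        omega)
    simp only [Finset.mem_union, Finset.mem_insert, Finset.mem_singleton, not_or] at ha' hc'
    have hw : ∀ y ∈ t.support, y ≠ q → y ≠ t q → (t * swap p q) y = t y ∧ (t * swap p q) (t y) = y := by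
      intro y hy hyq hytq
      have hyp : y ≠ p := fun e => mem_support.1 hy (e ▸ hpt)
      refine ⟨by rw [Perm.mul_apply, swap_apply_of_ne_of_ne hyp hyq], ?_⟩
      rw [Perm.mul_apply, swap_apply_of_ne_of_ne (fun e => hyp (by rw [← htt y, e, hpt]))
        (fun e => hytq (by rw [← htt y, e])), htt]
    obtain ⟨a1, a2⟩ := hw a ha ha'.1 ha'.2
    obtain ⟨c1, c2⟩ := hw c hc hc'.1.1 hc'.1.2
    obtain ⟨P⟩ := twoPairs_of_points (A := t * swap p q) (a := a) (c := c) (by rw [a1, a2])
      (by rw [a1]; exact mem_support.1 ha) (by rw [c1, c2]) (by rw [c1]; exact mem_support.1 hc)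
      hc'.2.1 (by rw [a1]; exact hc'.2.2)
    -- a conjugator carrying `p` to `q` and `q` to `p`
    have hσt : σ * t = s * σ := by rw [← hσ, inv_mul_cancel_right]
    have hm : ∀ y, s (σ y) = σ (t y) := fun y => (congrArg (fun r : Perm α => r y) hσt).symm
    have hσp : s (σ p) = σ p := by rw [hm, hpt]
    have hσq : s (σ q) ≠ σ q := by rw [hm]; exact fun e => mem_support.1 hqt (σ.injective e)
    obtain ⟨τ, hτ, hτq, hτfix⟩ := centralizer_move hs hσq (mem_support.1 hps)
    set ρ : Perm α := τ * swap (σ p) q * σ with hρ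
    have hswap : swap (σ p) q * s = s * swap (σ p) q := by
      have h := (eq_mul_inv_iff_mul_eq.1 (swap_apply_apply s (σ p) q))
      rwa [hσp, hqs] at h
    have hρt : ρ * t = s * ρ := by
      rw [hρ, mul_assoc _ σ, hσt, mul_assoc τ, ← mul_assoc (swap (σ p) q), hswap, mul_assoc s,
        ← mul_assoc τ, hτ, mul_assoc s]
      group
    have hρp : ρ p = q := by
      rw [hρ, Perm.mul_apply, Perm.mul_apply, swap_apply_left, hτfix q hqs]
    have hρq : ρ q = p := by
      rw [hρ, Perm.mul_apply, Perm.mul_apply,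
        swap_apply_of_ne_of_ne (fun e => hσq (by rw [e, hσp])) (fun e => hσq (by rw [e, hqs])), hτq]
    refine splits_of_conj (σ := ρ) P hA ?_
    have e1 : ρ * swap p q * ρ⁻¹ = swap p q := by
      rw [← swap_apply_apply, hρp, hρq, swap_comm]
    have e2 : ρ * t * ρ⁻¹ = s := by rw [hρt, mul_inv_cancel_right]
    rw [_root_.mul_inv_rev, hti, Perm.inv_def (swap p q), symm_swap,
      show ρ * (swap p q * t) * ρ⁻¹ = (ρ * swap p q * ρ⁻¹) * (ρ * t * ρ⁻¹) by group, e1, e2,
      mul_assoc t, ← mul_assoc (swap p q), swap_mul_self, one_mul]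

end Cfsg.Agent.Fus.SpinComm
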