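import Mathlib
import Cfsg.Agent.Lib.Lie.AltPres
import Cfsg.Agent.Lib.Fus.SpinAltDecomp

/-! In a perfect double cover of an alternating group every element is a commutator. -/

set_option autoImplicit false
set_option linter.unusedSectionVars false
set_option linter.unusedSimpArgs false

namespace Cfsg.Agent.Fus.SpinComm

open Equiv Equiv.Perm Finset
open Cfsg.Agent.Lie.Carmichael
open scoped commutatorElement

variable {α : Type*} [Fintype α] [DecidableEq α]

/-- Four distinct points. -/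
def Quad (a b c e : α) : Prop := a ≠ b ∧ a ≠ c ∧ a ≠ e ∧ b ≠ c ∧ b ≠ e ∧ c ≠ e

theorem quad_support {a b c e : α} (h : Quad a b c e) :
    (swap a b * swap c e).support.card = 4 ∧ swap a b * swap c e * (swap a b * swap c e) = 1 := by
  obtain ⟨hab, hac, hae, hbc, hbe, hce⟩ := h
  have hd : Perm.Disjoint (swap a b) (swap c e) := disjoint_iff_disjoint_support.2 (by
    rw [support_swap hab, support_swap hce]; simp [hac.symm, hae.symm, hbc.symm, hbe.symm, hac, hae, hbc, hbe])
  refine ⟨by rw [hd.card_support_mul, card_support_swap hab, card_support_swap hce], ?_⟩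
  rw [mul_assoc, ← mul_assoc (swap c e), ← hd.commute.eq, mul_assoc (swap a b), swap_mul_self, mul_one,
    swap_mul_self]

/-- A double cover of the alternating group on `α`, as a map to permutations. -/
structure Cover (G α : Type*) [Group G] [Fintype α] [DecidableEq α] where
  f : G →* Perm α
  even : ∀ g, sign (f g) = 1
  surj : ∀ p : Perm α, sign p = 1 → ∃ g, f g = p
  ker : f.ker = Subgroup.center G
  two : Nat.card (Subgroup.center G) = 2

variable {G : Type*} [Group G] (C : Cover G α)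

include C in
theorem Cover.sq {w : G} (hw : w ∈ Subgroup.center G) : w ^ 2 = 1 := by
  have := pow_card_eq_one' (x := (⟨w, hw⟩ : Subgroup.center G))
  rw [C.two] at this
  exact congrArg Subtype.val this

theorem Cover.comm {g w : G} (hw : C.f w = 1) : g * w = w * g :=
  Subgroup.mem_center_iff.1 (C.ker ▸ MonoidHom.mem_ker.2 hw) g

theorem Cover.lift_eq {X Y : G} (h : C.f X = C.f Y) :
    ∃ w ∈ Subgroup.center G, Y = X * w :=
  ⟨X⁻¹ * Y, C.ker ▸ MonoidHom.mem_ker.2 (by rw [map_mul, map_inv, h, inv_mul_cancel]), by group⟩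

/-- If lifts of two crossed double transpositions commute, double transpositions lift to involutions. -/
theorem Cover.sq_of_commute {a b c e : α} (hq : Quad a b c e) {U V : G} (hU : C.f U = swap a b * swap c e)
    (hV : C.f V = swap a c * swap b e) (hUV : U * V = V * U) (Y : G) (hY : (C.f Y).support.card = 4)
    (hY2 : C.f Y * C.f Y = 1) : Y ^ 2 = 1 := by
  obtain ⟨hab, hac, hae, hbc, hbe, hce⟩ := hq
  obtain ⟨T, hT⟩ := C.surj (swap b c * swap c e) (sign_swap_mul hbc hce)
  have pa : (swap b c * swap c e) a = a := by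
    rw [Perm.mul_apply, swap_apply_of_ne_of_ne hac hae, swap_apply_of_ne_of_ne hab hac]
  have pb : (swap b c * swap c e) b = c := by
    rw [Perm.mul_apply, swap_apply_of_ne_of_ne hbc hbe, swap_apply_left]
  have pc : (swap b c * swap c e) c = e := by
    rw [Perm.mul_apply, swap_apply_left, swap_apply_of_ne_of_ne hbe.symm hce.symm]
  have pe : (swap b c * swap c e) e = b := by
    rw [Perm.mul_apply, swap_apply_right, swap_apply_right]
  have conjT : ∀ p q r s : α, (swap b c * swap c e) * (swap p q * swap r s) * (swap b c * swap c e)⁻¹ =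
      swap ((swap b c * swap c e) p) ((swap b c * swap c e) q) *
        swap ((swap b c * swap c e) r) ((swap b c * swap c e) s) := fun p q r s => by
    rw [swap_apply_apply _ p q, swap_apply_apply _ r s]; group
  have e1 : C.f (T * U * T⁻¹) = swap a c * swap b e := by
    rw [map_mul, map_mul, map_inv, hT, hU, conjT, pa, pb, pc, pe, swap_comm e b]
  have e2 : C.f (T * (T * U * T⁻¹) * T⁻¹) = C.f (U * (T * U * T⁻¹)) := by
    rw [map_mul, map_mul, map_inv, e1, map_mul, e1, hT, hU, conjT, pa, pb, pc, pe]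
    ext y
    simp only [Perm.mul_apply]
    by_cases ha : y = a
    · subst ha
      simp [swap_apply_of_ne_of_ne, hab, hac, hae, hbc, hbe, hce, hab.symm, hac.symm, hae.symm, hbc.symm, hbe.symm, hce.symm]
    by_cases hb : y = b
    · subst hb
      simp [swap_apply_of_ne_of_ne, hab, hac, hae, hbc, hbe, hce, hab.symm, hac.symm, hae.symm, hbc.symm, hbe.symm, hce.symm]
    by_cases hc : y = c
    · subst hc
      simp [swap_apply_of_ne_of_ne, hab, hac, hae, hbc, hbe, hce, hab.symm, hac.symm, hae.symm, hbc.symm, hbe.symm, hce.symm]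
    by_cases he : y = e
    · subst he
      simp [swap_apply_of_ne_of_ne, hab, hac, hae, hbc, hbe, hce, hab.symm, hac.symm, hae.symm, hbc.symm, hbe.symm, hce.symm]
    simp [swap_apply_of_ne_of_ne, ha, hb, hc, he]
  obtain ⟨u, hu, eu⟩ := C.lift_eq (e1.trans hV.symm).symm
  obtain ⟨w, hw, ew⟩ := C.lift_eq e2.symm
  set V₁ := T * U * T⁻¹ with hV₁
  have hc1 : Commute U V₁ := by
    rw [eu]
    exact (show Commute U V from hUV).mul_right (Subgroup.mem_center_iff.1 hu U)
  have hU2c : U ^ 2 ∈ Subgroup.center G := C.ker ▸ MonoidHom.mem_ker.2 (by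
    rw [map_pow, hU, pow_two]; exact (quad_support ⟨hab, hac, hae, hbc, hbe, hce⟩).2)
  have hfix : T * U ^ 2 * T⁻¹ = U ^ 2 := by
    rw [Subgroup.mem_center_iff.1 hU2c T, mul_inv_cancel_right]
  have hV2 : V₁ ^ 2 = U ^ 2 := by rw [hV₁, conj_pow, hfix]
  have hW2 : (U * V₁ * w) ^ 2 = U ^ 2 := by rw [← ew, conj_pow, hV2, hfix]
  rw [(show Commute (U * V₁) w from Subgroup.mem_center_iff.1 hw _).mul_pow, hc1.mul_pow, hV2, C.sq hw,
    mul_one, mul_eq_left] at hW2
  obtain ⟨σ₀, hσ₀⟩ := invol_conj (quad_support ⟨hab, hac, hae, hbc, hbe, hce⟩).2 hY2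
    (by rw [(quad_support ⟨hab, hac, hae, hbc, hbe, hce⟩).1, hY])
  obtain ⟨σ, hσs, hσ⟩ : ∃ σ : Perm α, sign σ = 1 ∧ σ * (swap a b * swap c e) * σ⁻¹ = C.f Y := by
    rcases Int.units_eq_one_or (sign σ₀) with h | h
    · exact ⟨σ₀, h, hσ₀⟩
    refine ⟨σ₀ * swap a b, by rw [map_mul, h, sign_swap hab]; rfl, ?_⟩
    have : swap a b * (swap a b * swap c e) * (swap a b)⁻¹ = swap a b * swap c e := by
      rw [show swap a b * (swap a b * swap c e) * (swap a b)⁻¹ =
          (swap a b * swap a b * (swap a b)⁻¹) * (swap a b * swap c e * (swap a b)⁻¹) by group,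
        mul_inv_cancel_right, ← swap_apply_apply, swap_apply_of_ne_of_ne hac.symm hbc.symm,
        swap_apply_of_ne_of_ne hae.symm hbe.symm]
    rw [_root_.mul_inv_rev, show σ₀ * swap a b * (swap a b * swap c e) * ((swap a b)⁻¹ * σ₀⁻¹) =
      σ₀ * (swap a b * (swap a b * swap c e) * (swap a b)⁻¹) * σ₀⁻¹ by group, this, hσ₀]
  obtain ⟨S, hS⟩ := C.surj σ hσs
  obtain ⟨v, hv, rfl⟩ := C.lift_eq (show C.f (S * U * S⁻¹) = C.f Y by rw [map_mul, map_mul, map_inv, hS, hU, hσ])
  rw [(show Commute (S * U * S⁻¹) v from Subgroup.mem_center_iff.1 hv _).mul_pow, conj_pow, hW2, mul_one,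
    mul_inv_cancel, C.sq hv, mul_one]

section Pt

variable {I : Type*} [DecidableEq I] [Fintype I] [Nontrivial I] (D : Cover G (Pt I))
  (hperf : commutator G = ⊤)
include D hperf

/-- The lifts of double transpositions are not all involutions. -/
theorem no_split (h : ∀ Y : G, (D.f Y).support.card = 4 → D.f Y * D.f Y = 1 → Y ^ 2 = 1) : False := by
  classical
  let π : G →* alternatingGroup (Pt I) := D.f.codRestrict _ fun g => Perm.mem_alternatingGroup.2 (D.even g)
  have hlift : ∀ i : I, ∃ X : G, π X = cyc i ∧ X ^ 3 = 1 := fun i => by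
    obtain ⟨Y, hY⟩ := D.surj (cycP i) (Perm.mem_alternatingGroup.1 (cycP_mem i))
    have hY' : π Y = cyc i := Subtype.ext hY
    have h3 : cyc i ^ 3 = (1 : alternatingGroup (Pt I)) := cyc_cube i
    have hc : Y ^ 3 ∈ Subgroup.center G := D.ker ▸ MonoidHom.mem_ker.2 (by
      have h' : π (Y ^ 3) = 1 := by rw [map_pow, hY', h3]
      exact congrArg Subtype.val h')
    refine ⟨Y ^ 4, by rw [map_pow, hY', pow_succ, h3, one_mul], ?_⟩
    rw [← pow_mul, show 4 * 3 = 3 * 2 * 2 from rfl, pow_mul, pow_mul, D.sq hc, one_pow]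
  choose X hX hX3 using hlift
  have hXP : ∀ i, D.f (X i) = cycP i := fun i => congrArg Subtype.val (hX i)
  have hpair : ∀ i j, i ≠ j → (X i * X j) ^ 2 = 1 := by
    intro i j hij
    have hp : cycP i * cycP j * (cycP i * cycP j) = 1 := by
      have := congrArg Subtype.val (cyc_pair hij)
      rwa [pow_two] at this
    have h4 : (cycP i * cycP j).support.card = 4 := by
      obtain ⟨k, -, hk, hs⟩ := invol_type hp
      have hne : cycP i * cycP j ≠ 1 := fun e => by
        have := congrArg (fun p : Perm (Pt I) => p ptU) e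
        simp [cycP, ptU, ptV, ptI, swap_apply_def] at this
      have hle : (cycP i * cycP j).support.card ≤ 4 := by
        refine (Finset.card_le_card (t := {ptU, ptV, ptI i, ptI j}) fun y hy => ?_).trans Finset.card_le_four
        by_contra hn
        simp only [Finset.mem_insert, Finset.mem_singleton, not_or] at hn
        refine mem_support.1 hy ?_
        simp [cycP, Perm.mul_apply, swap_apply_of_ne_of_ne, hn.1, hn.2.1, hn.2.2.1, hn.2.2.2]
      have hs' : sign (cycP i * cycP j) = 1 := by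
        rw [map_mul, Perm.mem_alternatingGroup.1 (cycP_mem i), Perm.mem_alternatingGroup.1 (cycP_mem j), one_mul]
      rw [hs, neg_one_pow_eq_one_iff_even (by decide), Nat.even_iff] at hs'
      have : (cycP i * cycP j).support.card ≠ 0 := fun e => hne (card_support_eq_zero.1 e)
      omega
    exact h _ (by rw [map_mul, hXP, hXP, h4]) (by rw [map_mul, hXP, hXP, hp])
  set K := Subgroup.closure (Set.range X) with hK
  have hKs : K.map π = ⊤ := by
    rw [hK, MonoidHom.map_closure, ← Set.range_comp, show (⇑π ∘ X) = cyc from funext hX, closure_cyc]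
  have hmem : ∀ g : G, ∃ k ∈ K, ∃ z ∈ Subgroup.center G, g = k * z := fun g => by
    obtain ⟨k, hk, hkg⟩ := Subgroup.mem_map.1 (hKs ▸ Subgroup.mem_top (π g))
    exact ⟨k, hk, D.lift_eq (congrArg Subtype.val hkg)⟩
  have htop : K = ⊤ := top_le_iff.1 <| hperf ▸ by
    rw [commutator_def, Subgroup.commutator_le]
    intro a _ b _
    obtain ⟨k, hk, z, hz, rfl⟩ := hmem a
    obtain ⟨l, hl, w, hw, rfl⟩ := hmem b
    have cz : ∀ g : G, Commute z g := fun g => (Subgroup.mem_center_iff.1 hz g).symm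
    have cw : ∀ g : G, Commute w g := fun g => (Subgroup.mem_center_iff.1 hw g).symm
    have e : ⁅k * z, l * w⁆ = ⁅k, l⁆ := by
      rw [commutatorElement_def, commutatorElement_def]
      calc k * z * (l * w) * (k * z)⁻¹ * (l * w)⁻¹
          = k * (z * l) * w * z⁻¹ * k⁻¹ * w⁻¹ * l⁻¹ := by group
        _ = k * l * (z * w) * z⁻¹ * k⁻¹ * w⁻¹ * l⁻¹ := by rw [(cz l).eq]; group
        _ = k * l * (w * k⁻¹) * w⁻¹ * l⁻¹ := by rw [(cz w).eq]; group
        _ = k * l * k⁻¹ * l⁻¹ := by rw [(cw k⁻¹).eq]; group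
    rw [e, commutatorElement_def]
    exact mul_mem (mul_mem (mul_mem hk hl) (inv_mem hk)) (inv_mem hl)
  have hb := (bijective hX3 hpair htop π hX).1
  have hbot : Subgroup.center G = ⊥ := (Subgroup.eq_bot_iff_forall _).2 fun z hz =>
    hb (by rw [map_one]; exact Subtype.ext (MonoidHom.mem_ker.1 (D.ker ▸ hz)))
  have := D.two
  rw [hbot, Subgroup.card_bot] at this
  omega

/-- Lifts of two crossed double transpositions do not commute. -/
theorem cross {a b c e : Pt I} (hq : Quad a b c e) {U V : G} (hU : D.f U = swap a b * swap c e)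
    (hV : D.f V = swap a c * swap b e) : V * U ≠ U * V :=
  fun h => no_split D hperf (D.sq_of_commute hq hU hV h.symm)

/-- A permutation with two 2-cycles has a lift conjugate to its product with the central involution. -/
theorem twisted {z : G} (hz : z ∈ Subgroup.center G) (hz1 : ∀ w ∈ Subgroup.center G, w = 1 ∨ w = z)
    {X : G} (P : TwoPairs (D.f X)) : ∃ y : G, y * X * y⁻¹ = z * X := by
  classical
  obtain ⟨a, b, c, e, hab, hac, hae, hbc, hbe, hce, Aa, Ab, Ac, Ae⟩ := P
  have hq : Quad a b c e := ⟨hab, hac, hae, hbc, hbe, hce⟩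
  obtain ⟨U, hU⟩ := D.surj _ (sign_swap_mul hab hce)
  obtain ⟨V, hV⟩ := D.surj _ (sign_swap_mul hac hbe)
  refine ⟨V, ?_⟩
  -- the commutator of `V` and `U` is `z`
  have hVU : V * U = z * (U * V) := by
    have hcm : D.f (U * V) = D.f (V * U) := by
      rw [map_mul, map_mul, hU, hV]
      ext y
      simp only [Perm.mul_apply]
      by_cases ha : y = a
      · subst ha
        simp [swap_apply_of_ne_of_ne, hab, hac, hae, hbc, hbe, hce, hab.symm, hac.symm, hae.symm, hbc.symm, hbe.symm, hce.symm]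
      by_cases hb : y = b
      · subst hb
        simp [swap_apply_of_ne_of_ne, hab, hac, hae, hbc, hbe, hce, hab.symm, hac.symm, hae.symm, hbc.symm, hbe.symm, hce.symm]
      by_cases hc : y = c
      · subst hc
        simp [swap_apply_of_ne_of_ne, hab, hac, hae, hbc, hbe, hce, hab.symm, hac.symm, hae.symm, hbc.symm, hbe.symm, hce.symm]
      by_cases he : y = e
      · subst he
        simp [swap_apply_of_ne_of_ne, hab, hac, hae, hbc, hbe, hce, hab.symm, hac.symm, hae.symm, hbc.symm, hbe.symm, hce.symm]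
      simp [swap_apply_of_ne_of_ne, ha, hb, hc, he]
    obtain ⟨w, hw, ew⟩ := D.lift_eq hcm
    rcases hz1 w hw with rfl | rfl
    · exact absurd (by rw [ew, mul_one]) (cross D hperf hq hU hV)
    · rw [ew, ← Subgroup.mem_center_iff.1 hw (U * V)]
  -- the rest lies over permutations of the other points
  set R := U⁻¹ * X with hR
  have hUi : (swap a b * swap c e)⁻¹ = swap a b * swap c e := inv_eq_of_mul_eq_one_right (quad_support hq).2
  have hr : ∀ y, y = a ∨ y = b ∨ y = c ∨ y = e → D.f R y = y := by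
    intro y hy
    rw [hR, map_mul, map_inv, hU, hUi, Perm.mul_apply]
    rcases hy with rfl | rfl | rfl | rfl
    · rw [Aa]; simp [swap_apply_of_ne_of_ne, hab, hac, hae, hbc, hbe, hce]
    · rw [Ab]; simp [swap_apply_of_ne_of_ne, hab, hac, hae, hbc, hbe, hce]
    · rw [Ac]; simp [swap_apply_of_ne_of_ne hac.symm hbc.symm]
    · rw [Ae]; simp [swap_apply_of_ne_of_ne hae.symm hbe.symm]
  let p : Pt I → Prop := fun y => y ≠ a ∧ y ≠ b ∧ y ≠ c ∧ y ≠ e
  have hrp : ∀ y, D.f R y ≠ y → p y := fun y hy =>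
    ⟨fun h => hy (hr y (Or.inl h)), fun h => hy (hr y (Or.inr (Or.inl h))),
      fun h => hy (hr y (Or.inr (Or.inr (Or.inl h)))), fun h => hy (hr y (Or.inr (Or.inr (Or.inr h))))⟩
  have hrp' : ∀ y, p (D.f R y) ↔ p y := fun y => by
    by_cases h : D.f R y = y
    · rw [h]
    · exact iff_of_true (hrp _ fun h' => h ((D.f R).injective h')) (hrp y h)
  let S : Subgroup (Perm (Pt I)) := (Subgroup.centralizer ({V} : Set G)).map D.f
  have hS : alternatingGroup {y // p y} ≤ S.comap (Perm.ofSubtype : Perm {y // p y} →* Perm (Pt I)) := by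
    rw [← closure_three_cycles_eq_alternating, Subgroup.closure_le]
    intro τ hτ
    obtain ⟨T, hT⟩ := D.surj (Perm.ofSubtype τ) (by rw [sign_ofSubtype]; exact IsThreeCycle.sign hτ)
    refine ⟨T, ?_, hT⟩
    have hcm : D.f (T * V) = D.f (V * T) := by
      rw [map_mul, map_mul, hT, hV]
      refine (Perm.Disjoint.commute fun y => ?_).eq
      by_cases hy : p y
      · refine Or.inr ?_
        obtain ⟨h1, h2, h3, h4⟩ := hy
        rw [Perm.mul_apply, swap_apply_of_ne_of_ne h2 h4, swap_apply_of_ne_of_ne h1 h3]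
      · exact Or.inl (ofSubtype_apply_of_not_mem τ hy)
    obtain ⟨w, hw, ew⟩ := D.lift_eq hcm
    have cw : ∀ g : G, Commute w g := fun g => (Subgroup.mem_center_iff.1 hw g).symm
    have h3 : T ^ 3 ∈ Subgroup.center G := D.ker ▸ MonoidHom.mem_ker.2 (by
      rw [map_pow, hT, ← map_pow, show τ ^ 3 = 1 by rw [← hτ.orderOf, pow_orderOf_eq_one], map_one])
    have e1 : V * T * V⁻¹ = w * T := by
      rw [ew, (cw _).symm.eq]; group
    have e2 : w ^ 3 = 1 := by
      have h : (V * T * V⁻¹) ^ 3 = (w * T) ^ 3 := by rw [e1]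
      rw [conj_pow, Subgroup.mem_center_iff.1 h3 V, mul_inv_cancel_right, (cw T).mul_pow] at h
      exact right_eq_mul.1 h
    have e3 : w = 1 := by rw [pow_succ, D.sq hw, one_mul] at e2; exact e2
    show T ∈ Subgroup.centralizer ({V} : Set G)
    rw [Subgroup.mem_centralizer_singleton_iff, ew, e3, mul_one]
  have hRS : D.f R ∈ S := by
    have h1 : (D.f R).subtypePerm hrp' ∈ alternatingGroup {y // p y} :=
      Perm.mem_alternatingGroup.2 (by rw [sign_subtypePerm _ _ hrp, D.even])
    have h2 := hS h1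
    rwa [Subgroup.mem_comap, ofSubtype_subtypePerm hrp' hrp] at h2
  obtain ⟨R', hR', eR⟩ := hRS
  obtain ⟨w, hw, ew⟩ := D.lift_eq eR
  have hVR : V * R = R * V := by
    rw [ew, ← mul_assoc, ← Subgroup.mem_centralizer_singleton_iff.1 hR', mul_assoc, mul_assoc,
      Subgroup.mem_center_iff.1 hw V]
  calc V * X * V⁻¹ = V * U * R * V⁻¹ := by rw [hR]; group
    _ = z * U * (V * R) * V⁻¹ := by rw [hVU]; group
    _ = z * U * R := by rw [hVR]; group
    _ = z * X := by rw [hR]; group

/-- Every element is a commutator. -/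
theorem all_commutators (h5 : 5 ≤ Fintype.card (Pt I)) (g : G) : ∃ a b : G, a * b * a⁻¹ * b⁻¹ = g := by
  classical
  have : Finite (Subgroup.center G) := Nat.finite_of_card_ne_zero (by rw [D.two]; omega)
  obtain ⟨z, hz, hz', hz1⟩ : ∃ z, z ∈ Subgroup.center G ∧ z ≠ 1 ∧ ∀ w ∈ Subgroup.center G, w = 1 ∨ w = z := by
    obtain ⟨⟨x, hx⟩, ⟨y, hy⟩, hne, huniv⟩ := Nat.card_eq_two_iff.1 D.two
    have key : ∀ w ∈ Subgroup.center G, w = x ∨ w = y := fun w hw => by
      have := huniv.symm ▸ Set.mem_univ (⟨w, hw⟩ : Subgroup.center G)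
      rcases this with h | h
      · exact Or.inl (congrArg Subtype.val h)
      · exact Or.inr (congrArg Subtype.val h)
    have hne' : x ≠ y := fun h => hne (Subtype.ext h)
    rcases key 1 (one_mem _) with h | h
    · exact ⟨y, hy, fun e => hne' (by rw [e, ← h]), fun w hw => h ▸ key w hw⟩
    · exact ⟨x, hx, fun e => hne' (by rw [e, ← h]), fun w hw => (h ▸ key w hw).symm⟩
  have both : ∀ A B : G, Nonempty (TwoPairs (D.f A)) →
      ∀ x : G, D.f x = D.f (A * B * A⁻¹ * B⁻¹) → ∃ a b : G, a * b * a⁻¹ * b⁻¹ = x := by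
    rintro A B ⟨P⟩ x hx
    obtain ⟨w, hw, ew⟩ := D.lift_eq hx.symm
    rcases hz1 w hw with rfl | rfl
    · exact ⟨A, B, by rw [ew, mul_one]⟩
    · obtain ⟨y, hy⟩ := twisted D hperf hw hz1 P
      refine ⟨y * A * y⁻¹, B * y⁻¹, ?_⟩
      rw [show y * A * y⁻¹ * (B * y⁻¹) * (y * A * y⁻¹)⁻¹ * (B * y⁻¹)⁻¹ = (y * A * y⁻¹) * B * A⁻¹ * B⁻¹ by group,
        hy, ew, Subgroup.mem_center_iff.1 hw]
      group
  rcases eq_or_ne (D.f g) 1 with h1 | h1
  · obtain ⟨a, b, c, d, hab, hac, had, hbc, hbd, hcd⟩ : ∃ a b c d : Pt I, Quad a b c d := by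
      obtain ⟨i, j, hij⟩ := exists_pair_ne I
      exact ⟨ptU, ptV, ptI i, ptI j, by simp [Quad, ptU, ptV, ptI, hij]⟩
    obtain ⟨U, hU⟩ := D.surj _ (sign_swap_mul hab hcd)
    refine both U 1 (hU ▸ ⟨⟨a, b, c, d, hab, hac, had, hbc, hbd, hcd, ?_, ?_, ?_, ?_⟩⟩) g ?_
    · simp [swap_apply_of_ne_of_ne hac had]
    · simp [swap_apply_of_ne_of_ne hbc hbd]
    · simp [swap_apply_of_ne_of_ne had.symm hbd.symm]
    · simp [swap_apply_of_ne_of_ne hac.symm hbc.symm]
    · simp [h1]
  · obtain ⟨A, c, P, hA, hc, e⟩ := splits h5 (D.even g) h1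
    obtain ⟨A', rfl⟩ := D.surj A hA
    obtain ⟨c', rfl⟩ := D.surj c hc
    refine both A' c' P g ?_
    rw [e, map_mul, map_mul, map_mul, map_inv, map_inv]
    group

end Pt

end Cfsg.Agent.Fus.SpinComm
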