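import Cfsg.Agent.Lib.Fus.GraphRel
import Cfsg.Agent.Lib.Fus.Alperin

/-!
A family of graphs of maps of a saturated system whose coset spaces have marks invariant under the
system and degree prime to `p`: the combinatorial content of a characteristic biset.
-/

set_option autoImplicit false
set_option linter.style.haveILetI false
set_option linter.unusedSectionVars false

open scoped Classical

namespace Cfsg.Agent.Fus

open Subgroup FusionSystem MulAction

section Points

variable {G : Type*} [Group G]

/-- The disjoint union of `c L` copies of each coset space `G ⧸ L`. -/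
@[ext]
structure Pts (c : Subgroup G → ℕ) where
  /-- the subgroup -/
  sub : Subgroup G
  /-- the copy -/
  idx : Fin (c sub)
  /-- the coset -/
  pt : G ⧸ sub

instance (c : Subgroup G → ℕ) : MulAction G (Pts c) where
  smul g z := ⟨z.sub, z.idx, g • z.pt⟩
  one_smul := fun z => by
    show (⟨z.sub, z.idx, (1 : G) • z.pt⟩ : Pts c) = _
    rw [one_smul]
  mul_smul := fun a b z => by
    show (⟨z.sub, z.idx, (a * b) • z.pt⟩ : Pts c) = ⟨z.sub, z.idx, a • b • z.pt⟩
    rw [mul_smul]

theorem smul_pts (c : Subgroup G → ℕ) (g : G) (L : Subgroup G) (i : Fin (c L)) (q : G ⧸ L) :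
    g • (⟨L, i, q⟩ : Pts c) = ⟨L, i, g • q⟩ := rfl

/-- Points as a sigma type. -/
def ptsEquiv (c : Subgroup G → ℕ) : Pts c ≃ Σ L : Subgroup G, Fin (c L) × (G ⧸ L) where
  toFun z := ⟨z.sub, z.idx, z.pt⟩
  invFun z := ⟨z.1, z.2.1, z.2.2⟩

instance [Finite G] (c : Subgroup G → ℕ) : Finite (Pts c) :=
  Finite.of_equiv _ (ptsEquiv c).symm

theorem stabilizer_pts (c : Subgroup G → ℕ) (L : Subgroup G) (i : Fin (c L)) (q : G ⧸ L) :
    stabilizer G (⟨L, i, q⟩ : Pts c) = stabilizer G q := by
  ext g
  rw [mem_stabilizer_iff, mem_stabilizer_iff, smul_pts]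
  constructor
  · intro h
    simpa using h
  · intro h
    rw [h]

/-- The number of fixed cosets. -/
noncomputable def cosetMark (L K : Subgroup G) : ℕ := Nat.card (markSet (W := G) (G ⧸ L) K)

/-- The marks of a union of coset spaces. -/
noncomputable def famMark (c : Subgroup G → ℕ) (K : Subgroup G) : ℕ :=
  Nat.card (markSet (W := G) (Pts c) K)

theorem famMark_eq [Finite G] [Fintype (Subgroup G)] (c : Subgroup G → ℕ) (K : Subgroup G) :
    famMark c K = ∑ L, c L * cosetMark L K := by
  have e : markSet (W := G) (Pts c) K ≃ Σ L, Fin (c L) × markSet (W := G) (G ⧸ L) K :=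
    { toFun := fun z => ⟨z.1.sub, z.1.idx, z.1.pt, fun k hk =>
        stabilizer_pts c z.1.sub z.1.idx z.1.pt ▸ z.2 hk⟩
      invFun := fun z => ⟨⟨z.1, z.2.1, z.2.2.1⟩, fun k hk => by
        rw [stabilizer_pts]
        exact z.2.2.2 hk⟩
      left_inv := fun z => rfl
      right_inv := fun z => rfl }
  rw [famMark, Nat.card_congr e, Nat.card_sigma]
  refine Finset.sum_congr rfl fun L _ => ?_
  rw [Nat.card_prod, Nat.card_eq_fintype_card, Fintype.card_fin]
  rfl

theorem exists_conj_le {L K : Subgroup G} (h : cosetMark L K ≠ 0) :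
    ∃ g : G, K ≤ L.map (MulAut.conj g).toMonoidHom := by
  obtain ⟨⟨q, hq⟩⟩ := (Nat.card_ne_zero.1 h).1
  induction q using QuotientGroup.induction_on with
  | _ g =>
    refine ⟨g, le_trans hq (le_of_eq ?_)⟩
    show stabilizer G (g : G ⧸ L) = _
    rw [show (g : G ⧸ L) = g • ((1 : G) : G ⧸ L) from by
        show _ = (((g * 1 : G)) : G ⧸ L)
        rw [mul_one], stabilizer_smul_eq_stabilizer_map_conj, MulAction.stabilizer_quotient]

theorem cosetMark_self [Finite G] (L : Subgroup G) :
    cosetMark L L = L.relIndex (Subgroup.normalizer (L : Set G)) := by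
  refine Nat.card_congr (Equiv.trans ?_ (Sylow.fixedPointsMulLeftCosetsEquivQuotient L))
  refine Equiv.subtypeEquivRight fun q => ?_
  exact ⟨fun h l => h l.2, fun h l hl => h ⟨l, hl⟩⟩

theorem relIndex_normalizer_pos [Finite G] (L : Subgroup G) :
    0 < L.relIndex (Subgroup.normalizer (L : Set G)) :=
  Nat.pos_of_ne_zero Subgroup.index_ne_zero_of_finite

/-- Conjugacy of subgroups. -/
def conjSetoid (G : Type*) [Group G] : Setoid (Subgroup G) where
  r K K' := ∃ g : G, K.map (MulAut.conj g).toMonoidHom = K'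
  iseqv :=
    { refl := fun K => ⟨1, by
        ext x
        simp⟩
      symm := fun {K K'} ⟨g, h⟩ => ⟨g⁻¹, by
        subst h
        ext x
        simp [mul_assoc]⟩
      trans := fun {K K' K''} ⟨g, h⟩ ⟨g', h'⟩ => ⟨g' * g, by
        subst h h'
        rw [Subgroup.map_map]
        congr 1
        ext x
        simp⟩ }

/-- A chosen conjugate. -/
noncomputable def conjRep (K : Subgroup G) : Subgroup G :=
  (Quotient.mk (conjSetoid G) K).out

theorem conjRep_rel (K : Subgroup G) :
    ∃ g : G, (conjRep K).map (MulAut.conj g).toMonoidHom = K :=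
  Quotient.exact (Quotient.out_eq (Quotient.mk (conjSetoid G) K))

theorem conjRep_eq {K K' : Subgroup G} (h : ∃ g : G, K.map (MulAut.conj g).toMonoidHom = K') :
    conjRep K = conjRep K' := by
  rw [conjRep, conjRep, show Quotient.mk (conjSetoid G) K = Quotient.mk (conjSetoid G) K' from
    Quotient.sound h]

theorem conjRep_idem (K : Subgroup G) : conjRep (conjRep K) = conjRep K :=
  conjRep_eq (conjRep_rel K)

theorem card_map_conj (K : Subgroup G) (g : G) :
    Nat.card (K.map (MulAut.conj g).toMonoidHom) = Nat.card K :=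
  (Nat.card_congr (K.equivMapOfInjective _ (MulAut.conj g).injective).toEquiv).symm

/-- A subgroup of the size of `L` fixing a coset of `L` is conjugate to it. -/
theorem conjRep_eq_of_mark [Finite G] {L K : Subgroup G} (h : cosetMark L K ≠ 0)
    (hcard : Nat.card L ≤ Nat.card K) : conjRep L = conjRep K := by
  obtain ⟨g, hg⟩ := exists_conj_le h
  exact conjRep_eq ⟨g, (Subgroup.eq_of_le_of_card_ge hg ((card_map_conj L g).trans_le hcard)).symm⟩

theorem cosetMark_conjRep_self [Finite G] (K : Subgroup G) :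
    cosetMark (conjRep K) K =
      (conjRep K).relIndex (Subgroup.normalizer (conjRep K : Set G)) := by
  obtain ⟨g, hg⟩ := conjRep_rel K
  rw [← cosetMark_self]
  conv_lhs => arg 2; rw [← hg]
  exact card_markSet_conj _ g

theorem famMark_conjRep (c : Subgroup G → ℕ) (K : Subgroup G) :
    famMark c (conjRep K) = famMark c K := by
  obtain ⟨g, hg⟩ := conjRep_rel K
  conv_rhs => rw [← hg]
  exact (card_markSet_conj _ g).symm

end Points

universe u

variable {Ω : Type u} [Group Ω] {S : Subgroup Ω} {F : FusionSystem S}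

theorem IsFGraph.ext_of_fst {K : Subgroup (S × S)} (hK : IsFGraph F K) {v w : S × S} (hv : v ∈ K)
    (hw : w ∈ K) (h : v.1 = w.1) : v = w := by
  obtain ⟨P, f, -, -, e⟩ := hK
  exact Prod.ext h (Subtype.ext (by rw [← e v hv, ← e w hw, h]))

theorem IsFGraph.card_map_fst {K : Subgroup (S × S)} (hK : IsFGraph F K) :
    Nat.card (K.map (MonoidHom.fst S S)) = Nat.card K := by
  refine (Nat.card_congr (Equiv.ofBijective (fun w : K => (⟨(w : S × S).1, w, w.2, rfl⟩ :
    K.map (MonoidHom.fst S S))) ⟨fun v w h => ?_, fun y => ?_⟩)).symm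
  · exact Subtype.ext (hK.ext_of_fst v.2 w.2 (congrArg Subtype.val h))
  · obtain ⟨w, hw, e⟩ := y.2
    exact ⟨⟨w, hw⟩, Subtype.ext e⟩

theorem IsFGraph.card_dvd {K : Subgroup (S × S)} (hK : IsFGraph F K) :
    Nat.card K ∣ Nat.card S :=
  hK.card_map_fst ▸ Subgroup.card_subgroup_dvd_card _

/-- The degree of a family of graphs. -/
noncomputable def famDeg [Fintype (Subgroup (S × S))] (c : Subgroup (S × S) → ℕ) : ℕ :=
  ∑ L, c L * (Nat.card S / Nat.card L)

/-- The marks of the family are invariant at subgroups of size at least `n`. -/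
def StableFrom (F : FusionSystem S) (n : ℕ) [Fintype (Subgroup (S × S))] (p : ℕ)
    (c : Subgroup (S × S) → ℕ) : Prop :=
  (∀ L, c L ≠ 0 → IsFGraph F L ∧ n ≤ Nat.card L) ∧ ¬ p ∣ famDeg c ∧
    ∀ K K', GraphRel F K K' → n ≤ Nat.card K → famMark c K = famMark c K'

variable [Finite S] [Fintype (Subgroup (S × S))] {p : ℕ} [Fact p.Prime]

theorem famMark_eq_zero {c : Subgroup (S × S) → ℕ} (hc : ∀ L, c L ≠ 0 → IsFGraph F L)
    {K : Subgroup (S × S)} (hK : ¬ IsFGraph F K) : famMark c K = 0 := by
  rw [famMark_eq]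
  refine Finset.sum_eq_zero fun L _ => ?_
  by_contra h
  obtain ⟨h1, h2⟩ := mul_ne_zero_iff.1 h
  obtain ⟨g, hg⟩ := exists_conj_le h2
  exact hK (((hc L h1).of_rel (graphRel_conj F L g)).mono hg)

omit [Finite S] [Fintype (Subgroup (S × S))] in
theorem graphRel_conjRep (F : FusionSystem S) (K : Subgroup (S × S)) :
    GraphRel F (conjRep K) K := by
  obtain ⟨g, hg⟩ := conjRep_rel K
  have := graphRel_conj F (conjRep K) g
  rwa [hg] at this

/-- The class representative of a graph. -/
noncomputable def relRep (F : FusionSystem S) (K : Subgroup (S × S)) : Subgroup (S × S) :=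
  (Quotient.mk (Setoid.mk (GraphRel F) ⟨GraphRel.refl F, GraphRel.symm, GraphRel.trans⟩) K).out

theorem relRep_rel (K : Subgroup (S × S)) : GraphRel F (relRep F K) K :=
  @Quotient.exact _ (Setoid.mk (GraphRel F) ⟨GraphRel.refl F, GraphRel.symm, GraphRel.trans⟩)
    _ _ (Quotient.out_eq _)

theorem relRep_eq {K K' : Subgroup (S × S)} (h : GraphRel F K K') :
    relRep F K = relRep F K' := by
  rw [relRep, relRep]
  congr 1
  exact Quotient.sound h

/-- One step down. -/
theorem stable_step (hS : IsPGroup p S) (hF : F.IsSaturated p) {n : ℕ} (hn : n < Nat.card S)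
    {c : Subgroup (S × S) → ℕ} (hc : StableFrom F (n + 1) p c) :
    ∃ c', StableFrom F n p c' := by
  obtain ⟨hsupp, hdeg, hinv⟩ := hc
  have hsg := fun L h => (hsupp L h).1
  let top : Subgroup (S × S) → Subgroup (S × S) := fun K =>
    if h : IsFGraph F (relRep F K) then (exists_top_graph hS hF h).choose else K
  let w : Subgroup (S × S) → ℕ := fun K => K.relIndex (Subgroup.normalizer (K : Set (S × S)))
  let B := (∑ K, famMark c K)
  let m : Subgroup (S × S) → ℕ := fun K => famMark c (top K) + B * w (top K)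
  have hm : ∀ K K', GraphRel F K K' → IsFGraph F K → m K = m K' := by
    intro K K' h hK
    have e := relRep_eq h
    have h1 : IsFGraph F (relRep F K) := hK.of_rel (relRep_rel K).symm
    have ht : top K = top K' := by
      simp only [top]
      rw [dif_pos h1, dif_pos (e ▸ h1)]
      congr 1
      simp only [e]
    simp only [m, ht]
  have hdvd : ∀ K, IsFGraph F K → Nat.card K = n →
      famMark c K ≤ m K ∧ w K ∣ m K - famMark c K := by
    intro K hK hcard
    have h1 : IsFGraph F (relRep F K) := hK.of_rel (relRep_rel K).symm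
    have ht : top K = (exists_top_graph hS hF h1).choose := dif_pos h1
    obtain ⟨-, htop⟩ := (exists_top_graph hS hF h1).choose_spec
    set N := Subgroup.normalizer (K : Set (S × S)) with hN
    obtain ⟨ι, hι, hιK, hιV⟩ :
        ∃ ι : N →* S × S, Function.Injective ι ∧ (K.subgroupOf N).map ι = top K ∧
          ∀ V : Subgroup N, GraphRel F (V.map N.subtype) (V.map ι) := by
      rw [ht]
      exact htop K (relRep_rel K)
    have hmod : famMark c K ≡ famMark c (top K) [MOD w K] := by
      refine markSet_modEq (Z := Pts c) Subgroup.le_normalizer le_rfl ι hιK fun V hV => ?_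
      refine hinv _ _ (hιV V) ?_
      change n + 1 ≤ Nat.card ↥(V.map N.subtype)
      have h2 : (K.subgroupOf N).map N.subtype < V.map N.subtype :=
        (Subgroup.map_lt_map_iff_of_injective N.subtype_injective).2 hV
      rw [Subgroup.subgroupOf_map_subtype, inf_eq_left.2 Subgroup.le_normalizer] at h2
      haveI : Finite ↥(V.map N.subtype) := inferInstance
      have h3 := lt_of_le_of_ne (Subgroup.card_le_of_le h2.le) fun e =>
        h2.ne (Subgroup.eq_of_le_of_card_ge h2.le e.ge)
      omega
    have hwd : w K ∣ w (top K) := by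
      have hle : ι.range ≤ Subgroup.normalizer (top K : Set (S × S)) := by
        rintro _ ⟨x, rfl⟩
        haveI : (K.subgroupOf N).Normal := Subgroup.normal_in_normalizer
        rw [Subgroup.mem_normalizer_iff]
        intro y
        rw [← hιK]
        constructor
        · rintro ⟨d, hd, rfl⟩
          exact ⟨x * d * x⁻¹, this.conj_mem d hd x, by simp⟩
        · rintro ⟨d, hd, e⟩
          refine ⟨x⁻¹ * d * x⁻¹⁻¹, this.conj_mem d hd x⁻¹, ?_⟩
          rw [map_mul, map_mul, map_inv, e]
          group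
      have hidx : (top K).relIndex ι.range = w K := by
        rw [← Subgroup.index_comap, ← hιK, Subgroup.comap_map_eq_self_of_injective hι]
        rfl
      refine ⟨ι.range.relIndex (Subgroup.normalizer (top K : Set (S × S))), ?_⟩
      rw [← hidx, Subgroup.relIndex_mul_relIndex _ _ _ ?_ hle]
      rw [← hιK]
      exact Subgroup.map_le_range _ _
    have hle : famMark c K ≤ m K := by
      have h2 : famMark c K ≤ B :=
        Finset.single_le_sum (fun _ _ => Nat.zero_le _) (Finset.mem_univ K)
      have h3 : B ≤ B * w (top K) := Nat.le_mul_of_pos_right _ (relIndex_normalizer_pos _)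
      exact h2.trans (h3.trans (Nat.le_add_left _ _))
    refine ⟨hle, ?_⟩
    rw [← Nat.modEq_iff_dvd' hle]
    refine hmod.trans ?_
    have := (Nat.modEq_zero_iff_dvd.2 (hwd.mul_left B)).symm.add_left (famMark c (top K))
    rwa [add_zero] at this
  let δ : Subgroup (S × S) → ℕ := fun L =>
    if Nat.card L = n ∧ IsFGraph F L ∧ conjRep L = L then (m L - famMark c L) / w L else 0
  have hδ : ∀ L, δ L ≠ 0 → Nat.card L = n ∧ IsFGraph F L ∧ conjRep L = L := fun L h => by
    by_contra h'
    exact h (if_neg h')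
  have hsum : ∀ K, famMark (fun L => c L + δ L) K = famMark c K + ∑ L, δ L * cosetMark L K := by
    intro K
    rw [famMark_eq, famMark_eq, ← Finset.sum_add_distrib]
    exact Finset.sum_congr rfl fun L _ => add_mul _ _ _
  have hbig : ∀ K : Subgroup (S × S), n < Nat.card K → famMark (fun L => c L + δ L) K = famMark c K := by
    intro K hK
    rw [hsum, Finset.sum_eq_zero, add_zero]
    intro L _
    by_contra h
    obtain ⟨h1, h2⟩ := mul_ne_zero_iff.1 h
    obtain ⟨g, hg⟩ := exists_conj_le h2
    have := Subgroup.card_le_of_le hg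
    rw [card_map_conj, (hδ L h1).1] at this
    omega
  have heq : ∀ K, IsFGraph F K → Nat.card K = n →
      famMark (fun L => c L + δ L) K = m K := by
    intro K hK hcard
    have hrel : GraphRel F (conjRep K) K := graphRel_conjRep F K
    have hRg : IsFGraph F (conjRep K) := hK.of_rel hrel.symm
    have hRc : Nat.card (conjRep K) = n := hrel.card_eq.trans hcard
    obtain ⟨hle, hdv⟩ := hdvd _ hRg hRc
    rw [hsum, Finset.sum_eq_single (conjRep K)]
    · rw [cosetMark_conjRep_self]
      simp only [δ]
      rw [if_pos ⟨hRc, hRg, conjRep_idem K⟩, Nat.div_mul_cancel hdv, ← hm _ _ hrel hRg,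
        ← famMark_conjRep c K]
      omega
    · intro L _ hne
      by_contra h
      obtain ⟨h1, h2⟩ := mul_ne_zero_iff.1 h
      obtain ⟨hc1, -, hc3⟩ := hδ L h1
      exact hne (hc3 ▸ conjRep_eq_of_mark h2 (by omega))
    · exact fun h => absurd (Finset.mem_univ _) h
  refine ⟨fun L => c L + δ L, ⟨fun L h => ?_, ?_, fun K K' h hK => ?_⟩⟩
  · change c L + δ L ≠ 0 at h
    rcases Nat.eq_zero_or_pos (c L) with h1 | h1
    · obtain ⟨h2, h3, -⟩ := hδ L (by omega)
      exact ⟨h3, h2.ge⟩
    · obtain ⟨h2, h3⟩ := hsupp L h1.ne'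
      exact ⟨h2, by omega⟩
  · have hp : p ∣ ∑ L, δ L * (Nat.card S / Nat.card L) := by
      refine Finset.dvd_sum fun L _ => ?_
      rcases eq_or_ne (δ L) 0 with h0 | h0
      · simp [h0]
      obtain ⟨h2, h3, -⟩ := hδ L h0
      obtain ⟨a, ha⟩ := IsPGroup.iff_card.1 hS
      obtain ⟨b, hb, hb'⟩ := (Nat.dvd_prime_pow Fact.out).1 (ha ▸ h3.card_dvd)
      refine Dvd.dvd.mul_left ?_ _
      rw [ha, hb', Nat.pow_div hb (Fact.out : p.Prime).pos]
      refine dvd_pow_self p ?_
      intro h4
      have : a = b := by omega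
      subst this
      omega
    rw [show famDeg (fun L => c L + δ L) = famDeg c + ∑ L, δ L * (Nat.card S / Nat.card L) by
      simp only [famDeg, add_mul, Finset.sum_add_distrib], Nat.dvd_add_left hp]
    exact hdeg
  · have hcard := h.card_eq
    rcases hK.lt_or_eq with hlt | heq'
    · rw [hbig K hlt, hbig K' (hcard ▸ hlt)]
      exact hinv K K' h hlt
    · by_cases hg : IsFGraph F K
      · rw [heq K hg heq'.symm, heq K' (hg.of_rel h) (hcard ▸ heq'.symm)]
        exact hm K K' h hg
      · have hsupp' : ∀ L, c L + δ L ≠ 0 → IsFGraph F L := fun L h1 => by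
          rcases Nat.eq_zero_or_pos (c L) with h2 | h2
          · exact (hδ L (by omega)).2.1
          · exact hsg L h2.ne'
        rw [famMark_eq_zero hsupp' hg, famMark_eq_zero hsupp' fun h' => hg (h'.of_rel h.symm)]

/-- The graph of an automorphism of `S`. -/
def autGraph (α : MulAut S) : Subgroup (S × S) :=
  ((MonoidHom.id S).prod α.toMonoidHom).range

theorem mem_autGraph {α : MulAut S} {w : S × S} : w ∈ autGraph α ↔ α w.1 = w.2 :=
  ⟨by rintro ⟨x, rfl⟩; rfl, fun h => ⟨w.1, Prod.ext rfl h⟩⟩

theorem card_autGraph (α : MulAut S) : Nat.card (autGraph α) = Nat.card S :=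
  (Nat.card_congr (MonoidHom.ofInjective (f := (MonoidHom.id S).prod α.toMonoidHom)
    fun _ _ h => congrArg Prod.fst h).toEquiv).symm

theorem isFGraph_autGraph {α : MulAut S} (hα : α ∈ F.autGroup S) : IsFGraph F (autGraph α) := by
  refine ⟨S, autFun α, (mem_autGroup le_rfl).1 hα, srcOf_le _, fun w hw => ?_⟩
  rw [autFun_coe, mem_autGraph.1 hw]

theorem exists_autGraph_eq {K : Subgroup (S × S)} (hK : IsFGraph F K)
    (hcard : Nat.card K = Nat.card S) : ∃ α ∈ F.autGroup S, autGraph α = K := by
  have htop : K.map (MonoidHom.fst S S) = ⊤ :=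
    Subgroup.eq_top_of_card_eq _ (hK.card_map_fst.trans hcard)
  obtain ⟨P, f, hf, hP, e⟩ := hK
  have hSP : S ≤ P := fun x hx => by
    obtain ⟨w, hw, he⟩ : (⟨x, hx⟩ : S) ∈ K.map (MonoidHom.fst S S) := htop ▸ Subgroup.mem_top _
    refine hP ?_
    have h := mem_srcOf hw
    rwa [show w.1 = ⟨x, hx⟩ from he] at h
  obtain ⟨α, hα, hαe⟩ := (hf.res hSP).exists_aut (fimg_eq_self_of_source_top (hf.res hSP))
  refine ⟨α, hα, (Subgroup.eq_of_le_of_card_ge (fun w hw => mem_autGraph.2 (Subtype.ext ?_))
    (by rw [card_autGraph, hcard])).symm⟩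
  rw [← autFun_coe, hαe _ w.1.2, e w hw]

theorem map_autGraph (α β : MulAut S) : autGraph β =
    (autGraph α).map (MulEquiv.prodCongr (MulEquiv.refl S) (β * α⁻¹)).toMonoidHom := by
  ext w
  rw [Subgroup.mem_map]
  constructor
  · intro h
    refine ⟨(w.1, α w.1), mem_autGraph.2 rfl, Prod.ext rfl ?_⟩
    show (β * α⁻¹) (α w.1) = w.2
    rw [← mem_autGraph.1 h]
    simp
  · rintro ⟨v, hv, rfl⟩
    refine mem_autGraph.2 ?_
    show β v.1 = (β * α⁻¹) v.2
    rw [← mem_autGraph.1 hv]
    simp

theorem relIndex_autGraph (α β : MulAut S) :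
    (autGraph α).relIndex (Subgroup.normalizer (autGraph α : Set (S × S))) =
      (autGraph β).relIndex (Subgroup.normalizer (autGraph β : Set (S × S))) := by
  rw [map_autGraph α β, ← Subgroup.map_equiv_normalizer_eq]
  exact (Subgroup.relIndex_map_map_of_injective _ _ (MulEquiv.injective _)).symm

theorem stable_top (hS : IsPGroup p S) (hF : F.IsSaturated p) :
    ∃ c, StableFrom F (Nat.card S) p c := by
  set A := F.autGroup S with hA
  haveI : ((Inn ↥S).subgroupOf A).Normal := inn_subgroupOf_normal F S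
  let c : Subgroup (S × S) → ℕ := fun L =>
    if Nat.card L = Nat.card S ∧ IsFGraph F L ∧ conjRep L = L then 1 else 0
  have hc : ∀ L, c L ≠ 0 → Nat.card L = Nat.card S ∧ IsFGraph F L ∧ conjRep L = L := fun L h => by
    by_contra h'
    exact h (if_neg h')
  refine ⟨c, fun L h => ⟨(hc L h).2.1, (hc L h).1.ge⟩, ?_, ?_⟩
  · have hdeg : famDeg c =
        Nat.card {L : Subgroup (S × S) // Nat.card L = Nat.card S ∧ IsFGraph F L ∧ conjRep L = L} := by
      conv_rhs => rw [Nat.card_eq_fintype_card, Fintype.card_subtype, Finset.card_filter]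
      rw [famDeg]
      refine Finset.sum_congr rfl fun L _ => ?_
      by_cases h : Nat.card L = Nat.card S ∧ IsFGraph F L ∧ conjRep L = L
      · simp only [c, if_pos h, one_mul]
        rw [h.1, Nat.div_self Nat.card_pos]
      · simp [c, if_neg h]
    have hwd : ∀ α β : A, α⁻¹ * β ∈ (Inn ↥S).subgroupOf A →
        conjRep (autGraph (α : MulAut S)) = conjRep (autGraph (β : MulAut S)) := by
      intro α β h
      obtain ⟨u, hu⟩ : ((α⁻¹ * β : A) : MulAut S) ∈ Inn ↥S := h
      have hβ : (β : MulAut S) = (α : MulAut S) * MulAut.conj u := by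
        rw [hu]
        simp
      refine conjRep_eq ⟨(u⁻¹, 1), ?_⟩
      ext w
      rw [Subgroup.mem_map, mem_autGraph, hβ]
      constructor
      · rintro ⟨v, hv, rfl⟩
        rw [mem_autGraph] at hv
        simp [← hv, mul_assoc]
      · intro hw
        refine ⟨(u * w.1 * u⁻¹, w.2), mem_autGraph.2 hw, ?_⟩
        simp [mul_assoc]
    let Φ : A ⧸ (Inn ↥S).subgroupOf A →
        {L : Subgroup (S × S) // Nat.card L = Nat.card S ∧ IsFGraph F L ∧ conjRep L = L} :=
      fun q => ⟨conjRep (autGraph ((q.out : A) : MulAut S)), by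
        have h := graphRel_conjRep F (autGraph ((q.out : A) : MulAut S))
        exact ⟨h.card_eq.trans (card_autGraph _), (isFGraph_autGraph q.out.2).of_rel h.symm,
          conjRep_idem _⟩⟩
    have hΦ : Function.Bijective Φ := by
      constructor
      · intro q q' h
        have h1 : conjRep (autGraph ((q.out : A) : MulAut S)) =
            conjRep (autGraph ((q'.out : A) : MulAut S)) := congrArg Subtype.val h
        obtain ⟨g, hg⟩ := Quotient.exact
          (show Quotient.mk (conjSetoid (S × S)) (autGraph ((q.out : A) : MulAut S)) =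
              Quotient.mk _ (autGraph ((q'.out : A) : MulAut S)) by
            rw [← Quotient.out_eq (Quotient.mk _ (autGraph ((q.out : A) : MulAut S))),
              ← Quotient.out_eq (Quotient.mk _ (autGraph ((q'.out : A) : MulAut S)))]
            exact congrArg _ h1)
        rw [← QuotientGroup.out_eq' q, ← QuotientGroup.out_eq' q']
        refine QuotientGroup.eq.2 ?_
        show ((q.out⁻¹ * q'.out : A) : MulAut S) ∈ Inn ↥S
        set α := ((q.out : A) : MulAut S) with hα
        set β := ((q'.out : A) : MulAut S) with hβ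
        refine ⟨α.symm g.2 * g.1⁻¹, MulEquiv.ext fun y => α.injective ?_⟩
        have hy : (g.1 * (g.1⁻¹ * y * g.1) * g.1⁻¹, g.2 * α (g.1⁻¹ * y * g.1) * g.2⁻¹) ∈
            autGraph β := by
          rw [← hg]
          exact ⟨(g.1⁻¹ * y * g.1, α (g.1⁻¹ * y * g.1)), mem_autGraph.2 rfl, rfl⟩
        rw [mem_autGraph, show g.1 * (g.1⁻¹ * y * g.1) * g.1⁻¹ = y by group] at hy
        rw [show α (((q.out⁻¹ * q'.out : A) : MulAut S) y) = β y from
          MulEquiv.apply_symm_apply α (β y), hy]
        simp [mul_assoc]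
      · rintro ⟨L, hL1, hL2, hL3⟩
        obtain ⟨α, hα, rfl⟩ := exists_autGraph_eq hL2 hL1
        refine ⟨QuotientGroup.mk (⟨α, hα⟩ : A), Subtype.ext ?_⟩
        refine (hwd _ (⟨α, hα⟩ : A) ?_).trans hL3
        exact QuotientGroup.eq.1 (QuotientGroup.out_eq' _)
    rw [hdeg, ← Nat.card_congr (Equiv.ofBijective Φ hΦ)]
    obtain ⟨-, R, hR⟩ := fullyAutomized_of_fullyNormalized hS hF (fullyNormalized_self F)
    rw [← inn_eq_autInducedBy] at hR
    rw [← hR]
    exact Sylow.not_dvd_index R
  · intro K K' h hK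
    have hcard := h.card_eq
    by_cases hg : IsFGraph F K
    swap
    · rw [famMark_eq_zero (fun L h => (hc L h).2.1) hg,
        famMark_eq_zero (fun L h => (hc L h).2.1) fun h' => hg (h'.of_rel h.symm)]
    have key : ∀ T, IsFGraph F T → Nat.card S ≤ Nat.card T →
        ∃ α : MulAut S, famMark c T =
          (autGraph α).relIndex (Subgroup.normalizer (autGraph α : Set (S × S))) := by
      intro T hT hle
      have hTc : Nat.card T = Nat.card S :=
        le_antisymm (Nat.le_of_dvd Nat.card_pos hT.card_dvd) hle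
      have hrel : GraphRel F (conjRep T) T := graphRel_conjRep F T
      have hR := hT.of_rel hrel.symm
      have hRc : Nat.card (conjRep T) = Nat.card S := hrel.card_eq.trans hTc
      obtain ⟨α, -, hαR⟩ := exists_autGraph_eq hR hRc
      refine ⟨α, ?_⟩
      rw [hαR, famMark_eq, Finset.sum_eq_single (conjRep T)]
      · rw [cosetMark_conjRep_self]
        simp only [c]
        rw [if_pos ⟨hRc, hR, conjRep_idem T⟩, one_mul]
      · intro L _ hne
        by_contra h
        obtain ⟨h1, h2⟩ := mul_ne_zero_iff.1 h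
        obtain ⟨hc1, -, hc3⟩ := hc L h1
        exact hne (hc3 ▸ conjRep_eq_of_mark h2 (by omega))
      · exact fun h => absurd (Finset.mem_univ _) h
    obtain ⟨α, hα⟩ := key K hg hK
    obtain ⟨β, hβ⟩ := key K' (hg.of_rel h) (hcard ▸ hK)
    rw [hα, hβ]
    exact relIndex_autGraph α β

omit [Fintype (Subgroup (S × S))] in
/-- In a saturated system some family of graphs has invariant marks and degree prime to `p`. -/
theorem exists_stable_family [Fintype (Subgroup (S × S))] (hS : IsPGroup p S)
    (hF : F.IsSaturated p) :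
    ∃ c : Subgroup (S × S) → ℕ, (∀ L, c L ≠ 0 → IsFGraph F L) ∧ ¬ p ∣ famDeg c ∧
      ∀ K K', GraphRel F K K' → famMark c K = famMark c K' := by
  suffices ∀ n, n ≤ Nat.card S → ∃ c, StableFrom F n p c by
    obtain ⟨c, h1, h2, h3⟩ := this 0 (Nat.zero_le _)
    exact ⟨c, fun L h => (h1 L h).1, h2, fun K K' h => h3 K K' h (Nat.zero_le _)⟩
  intro n hn
  refine Nat.decreasingInduction (motive := fun m _ => ∃ c, StableFrom F m p c) ?_
    (stable_top hS hF) hn
  intro k hk ih
  obtain ⟨c, hc⟩ := ih
  exact stable_step hS hF hk hc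

end Cfsg.Agent.Fus
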