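import Cfsg.Agent.Lib.Fus.CubicOdd
import Cfsg.Agent.Lib.Invol.StableControl

/-!
For odd `p`, in a group that is `p`-stable in normalizer form the normalizer of `Z(J(P))` controls
strong fusion.
-/

set_option autoImplicit false
set_option linter.style.haveILetI false
set_option linter.unusedSectionVars false

open scoped commutatorElement

universe u

namespace Cfsg.Agent.Fus.StableOdd

open Subgroup Invol

variable {G : Type u} [Group G] [Finite G] {p : ℕ} [hp : Fact p.Prime]

/-- In a stable group, `G` modulo a normal `p`-subgroup on which it acts as a `p`-group is stable. -/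
theorem isNormalizerPStable_quotient_of_eq_sup (hodd : p ≠ 2) (hst : IsNormalizerPStable p G)
    (P : Sylow p G) (Q : Subgroup G) [Q.Normal] (hQP : Q ≤ (P : Subgroup G))
    (hGP : Subgroup.centralizer (Q : Set G) ⊔ (P : Subgroup G) = ⊤) :
    IsNormalizerPStable p (G ⧸ Q) := by
  classical
  let St : Subgroup G → Prop := fun N => ∃ _ : N.Normal, IsNormalizerPStable p (G ⧸ N)
  obtain ⟨N₀, ⟨hN₀Q, hN₀n, hN₀s⟩, hmax⟩ := Set.exists_max_image {N : Subgroup G | N ≤ Q ∧ St N}
    (fun N => Nat.card N) (Set.toFinite _)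
    ⟨⊥, bot_le, inferInstance, isNormalizerPStable_of_mulEquiv QuotientGroup.quotientBot hst⟩
  haveI := hN₀n
  rcases hN₀Q.lt_or_eq with hlt | rfl
  swap
  · exact hN₀s
  exfalso
  set f := QuotientGroup.mk' N₀ with hf
  have hfs : Function.Surjective f := QuotientGroup.mk'_surjective N₀
  set P' : Sylow p (G ⧸ N₀) := P.mapSurjective hfs with hP'
  set Q' := Q.map f with hQ'
  haveI : Q'.Normal := Subgroup.Normal.map inferInstance f hfs
  have hQ'P : Q' ≤ (P' : Subgroup (G ⧸ N₀)) := Subgroup.map_mono hQP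
  have hQ'1 : Q' ≠ ⊥ := by
    rw [hQ', Ne, Subgroup.map_eq_bot_iff, QuotientGroup.ker_mk']
    exact hlt.not_ge
  haveI : Group.IsNilpotent (P' : Subgroup (G ⧸ N₀)) := P'.isPGroup'.isNilpotent
  haveI : (Q'.subgroupOf (P' : Subgroup (G ⧸ N₀))).Normal := inferInstance
  have hne : Q'.subgroupOf (P' : Subgroup (G ⧸ N₀)) ≠ ⊥ := fun h =>
    hQ'1 (le_bot_iff.1 fun x hx => by
      have h1 : (⟨x, hQ'P hx⟩ : (P' : Subgroup (G ⧸ N₀))) ∈ Q'.subgroupOf _ := hx
      rw [h, Subgroup.mem_bot] at h1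
      exact congrArg Subtype.val h1)
  obtain ⟨z, ⟨hzQ, hzc⟩, hz1⟩ :=
    (Subgroup.bot_or_exists_ne_one _).resolve_left (Grp.inf_center_ne_bot _ hne)
  set Z := Q' ⊓ Subgroup.center (G ⧸ N₀) with hZ
  have hzG : (z : G ⧸ N₀) ∈ Z := by
    refine ⟨hzQ, ?_⟩
    have htop : (⊤ : Subgroup (G ⧸ N₀)) ≤ Subgroup.centralizer {(z : G ⧸ N₀)} := by
      rw [← Subgroup.map_top_of_surjective f hfs, ← hGP, Subgroup.map_sup]
      refine sup_le ?_ fun w hw => Subgroup.mem_centralizer_singleton_iff.2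
        (congrArg Subtype.val (Subgroup.mem_center_iff.1 hzc ⟨w, hw⟩))
      rintro _ ⟨c, hc, rfl⟩
      obtain ⟨q, hq, hqz⟩ : (z : G ⧸ N₀) ∈ Q.map f := hzQ
      rw [Subgroup.mem_centralizer_singleton_iff, ← hqz, ← map_mul, ← map_mul,
        Subgroup.mem_centralizer_iff.1 hc q hq]
    exact Subgroup.mem_center_iff.2 fun w =>
      Subgroup.mem_centralizer_singleton_iff.1 (htop (Subgroup.mem_top w))
  haveI : Z.Normal := inferInstance
  have hs := CubicOdd.isNormalizerPStable_quotient_central hodd hN₀s Z inf_le_right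
    (P'.isPGroup'.to_le (inf_le_left.trans hQ'P))
  set M := Z.comap f with hM
  haveI : M.Normal := Subgroup.Normal.comap inferInstance f
  have hNM : N₀ ≤ M := fun w hw => by
    show f w ∈ Z
    rw [show f w = 1 from (QuotientGroup.eq_one_iff w).2 hw]
    exact Z.one_mem
  have hMmap : M.map f = Z := Subgroup.map_comap_eq_self_of_surjective hfs Z
  have hMQ : M ≤ Q := by
    refine le_trans (Subgroup.comap_mono inf_le_left) ?_
    rw [hQ', Subgroup.comap_map_eq, QuotientGroup.ker_mk']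
    exact sup_le le_rfl hN₀Q
  have hMs : IsNormalizerPStable p (G ⧸ M) :=
    isNormalizerPStable_of_mulEquiv ((QuotientGroup.quotientQuotientEquivQuotient N₀ M hNM).symm.trans
      (QuotientGroup.quotientMulEquivOfEq hMmap)) hs
  have hlt' : N₀ < M := by
    refine lt_of_le_of_ne hNM fun h => ?_
    refine hz1 (Subtype.ext ?_)
    have h1 : (z : G ⧸ N₀) ∈ M.map f := hMmap ▸ hzG
    rw [← h] at h1
    obtain ⟨w, hw, hwz⟩ := h1
    rw [← hwz]
    exact (QuotientGroup.eq_one_iff w).2 hw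
  exact absurd (hmax M ⟨hMQ, inferInstance, hMs⟩) (not_le.2 (Fus.card_lt_of_lt hlt'))

/-- For odd `p` stability gives control of strong fusion by `N(Z(J(P)))`. -/
theorem zjControl_of_stable (hodd : p ≠ 2) :
    ∀ (X : Type u) [Group X] [Finite X], IsNormalizerPStable p X → ZJControl p X := by
  suffices key : ∀ (n : ℕ) (X : Type u) [Group X] [Finite X], Nat.card X = n →
      IsNormalizerPStable p X → ZJControl p X from fun X _ _ h => key _ X rfl h
  intro n
  induction n using Nat.strong_induction_on with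
  | _ n ih =>
  intro X _ _ hn hst P A hA g hg
  have hsub : ∀ H : Subgroup X, H ≠ ⊤ → ZJControl p H := fun H hH =>
    ih _ (hn ▸ Grp.card_lt_of_ne_top hH) H rfl (isNormalizerPStable_subgroup hst H)
  set W := centerOmega 0 (P : Subgroup X) with hW
  set Q := pCore p X with hQ
  haveI hQn : Q.Normal := Grp.pCore_isNormal
  have hQP : Q ≤ (P : Subgroup X) := Grp.pCore_le_sylow P
  rcases eq_or_ne (P : Subgroup X) ⊥ with hP0 | hP0
  · refine ⟨g, ?_, fun _ _ => rfl⟩
    have hW0 : W = ⊥ := le_bot_iff.1 (hP0 ▸ centerOmega_le (P : Subgroup X))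
    rw [hW0, Subgroup.normalizer_eq_top]
    exact Subgroup.mem_top g
  by_cases hQ1 : Q = ⊥
  · exact control_of_local_steps P (fun T => centerOmega 0 T) (fun T _ => centerOmega_le T)
      (fun T hT hZ h => by
        have hne : T ≠ ⊥ := by
          intro hT0
          haveI : Nontrivial (P : Subgroup X) := (Subgroup.nontrivial_iff_ne_bot _).2 hP0
          haveI := P.isPGroup'.center_nontrivial
          obtain ⟨z, hz⟩ := exists_ne (1 : Subgroup.center (P : Subgroup X))
          have h1 := hZ ((z : (P : Subgroup X)) : X) (z : (P : Subgroup X)).2 fun s hs =>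
            (congrArg Subtype.val (Subgroup.mem_center_iff.1 z.2 ⟨s, hs⟩)).symm
          rw [hT0, Subgroup.mem_bot] at h1
          exact hz (Subtype.ext (Subtype.ext h1))
        exact centerOmega_ne_bot (Or.inl rfl) (P.isPGroup'.to_le hT) hne h)
      (fun T _ s hs => normalizer_le_centerOmega T hs.2)
      (fun U hU hU1 g hg A hA hgA => by
        have hH : Subgroup.normalizer (U : Set X) ≠ ⊤ := fun h => hU1 (le_bot_iff.1 (hQ1 ▸
          Grp.le_pCore (Subgroup.normalizer_eq_top_iff.1 h) (P.isPGroup'.to_le hU.1)))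
        exact (hsub _ hH).in_subgroup hU.2 hA hg hgA) hA hg
  by_cases hself : (P : Subgroup X) ⊓ Subgroup.centralizer (Q : Set X) ≤ Q
  · have hT : Grp.IsSylowIn p (P : Subgroup X) ⊤ := ⟨le_top, P.isPGroup', fun hd =>
      P.not_dvd_index (by rwa [Subgroup.relIndex_top_right] at hd)⟩
    let S : Sylow p (⊤ : Subgroup X) := (P.isPGroup'.comap_subtype (K := ⊤)).toSylow fun hd =>
      P.not_dvd_index (hd.trans (Subgroup.relIndex_dvd_index_of_le le_top))
    obtain ⟨m, -, hm, he⟩ := local_step_in hodd (Or.inl rfl)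
      (centralizer_pCore_quotient_of_selfCentralizing S (Q.subgroupOf ⊤) (fun x hx => hQP hx)
        fun x hx => hself ⟨hx.1, Subgroup.mem_centralizer_iff.2 fun q hq =>
          congrArg Subtype.val (Subgroup.mem_centralizer_iff.1 hx.2 ⟨q, Subgroup.mem_top q⟩ hq)⟩)
      (fun V _ hV => isPStableOn_quotient hst ⊤ _ Grp.pPrimeCore_coprime V hV) hT le_rfl
      (fun _ _ _ _ h => h) hA (Subgroup.mem_top g) hg
    exact ⟨m, hm, he⟩
  set C := Subgroup.centralizer (Q : Set X) with hC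
  haveI hCn : C.Normal := inferInstance
  set R := (P : Subgroup X) ⊓ (C ⊔ Q) with hR
  haveI : (C ⊔ Q).Normal := inferInstance
  have hPR : (P : Subgroup X) ≤ Subgroup.normalizer (R : Set X) := fun s hs =>
    mem_normalizer_of_forall_mem fun w hw =>
      ⟨(P : Subgroup X).mul_mem ((P : Subgroup X).mul_mem hs hw.1) ((P : Subgroup X).inv_mem hs),
        Subgroup.Normal.conj_mem inferInstance w hw.2 s⟩
  have hRtop : Subgroup.normalizer (R : Set X) ≠ ⊤ := fun h => hself fun w hw =>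
    Grp.le_pCore (Subgroup.normalizer_eq_top_iff.1 h) (P.isPGroup'.to_le inf_le_left)
      ⟨hw.1, Subgroup.mem_sup_left hw.2⟩
  have hdec : ∀ g : X, ∃ m ∈ Subgroup.normalizer (R : Set X), ∃ c ∈ C, g = m * c := by
    intro g
    obtain ⟨-, T, hT⟩ := Fus.isSylowOf_inf_normal P (C ⊔ Q)
    have h1 : Subgroup.normalizer (R : Set X) ⊔ (C ⊔ Q) = ⊤ := by
      have hRT : (T : Subgroup ↥(C ⊔ Q)).map (C ⊔ Q).subtype = R := by
        rw [hT, Subgroup.subgroupOf_map_subtype, inf_eq_left.2 (inf_le_right : R ≤ C ⊔ Q)]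
      rw [← hRT]
      exact Sylow.normalizer_sup_eq_top T
    have h2 : Subgroup.normalizer (R : Set X) ⊔ C = ⊤ := top_le_iff.1 (h1 ▸ sup_le le_sup_left
      (sup_le le_sup_right (((le_inf hQP le_sup_right : Q ≤ R).trans Subgroup.le_normalizer).trans
        le_sup_left)))
    obtain ⟨m, hm, c, hc, e⟩ := Subgroup.mem_sup_of_normal_right.1
      (show g ∈ Subgroup.normalizer (R : Set X) ⊔ C by rw [h2]; exact Subgroup.mem_top g)
    exact ⟨m, hm, c, hc, e.symm⟩
  have hover : ∀ {H : Subgroup X}, (P : Subgroup X) ≤ H → H ≠ ⊤ → ∀ (B : Set X),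
      B ⊆ (P : Subgroup X) → ∀ y ∈ H, (∀ b ∈ B, y * b * y⁻¹ ∈ (P : Subgroup X)) →
      ∃ x ∈ Subgroup.normalizer (W : Set X), ∀ b ∈ B, x * b * x⁻¹ = y * b * y⁻¹ :=
    fun {H} hPH hH B hB y hy hyB => by
      obtain ⟨m, -, hm, e⟩ := (hsub H hH).in_subgroup
        ⟨hPH, P.isPGroup', fun hd => P.not_dvd_index
          (hd.trans (Subgroup.relIndex_dvd_index_of_le hPH))⟩ hB hy hyB
      exact ⟨m, hm, e⟩
  by_cases hG₂ : C ⊔ (P : Subgroup X) = ⊤
  · -- all elements of order prime to `p` centralize `Q`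
    have hQs := isNormalizerPStable_quotient_of_eq_sup hodd hst P Q hQP hG₂
    set f := QuotientGroup.mk' Q with hf
    have hfs : Function.Surjective f := QuotientGroup.mk'_surjective Q
    have hQlt : Nat.card (X ⧸ Q) < n := hn ▸ Grp.card_quotient_lt hQ1
    set P' : Sylow p (X ⧸ Q) := P.mapSurjective hfs with hP'
    set V := (centerOmega 0 (P' : Subgroup (X ⧸ Q))).comap f with hV
    have hVn : Subgroup.normalizer (V : Set X) =
        (Subgroup.normalizer (centerOmega 0 (P' : Subgroup (X ⧸ Q)) : Set (X ⧸ Q))).comap f :=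
      (Subgroup.comap_normalizer_eq_of_surjective _ hfs).symm
    have hPV : (P : Subgroup X) ≤ Subgroup.normalizer (V : Set X) := fun s hs => by
      rw [hVn]
      exact normalizer_le_centerOmega _ (Subgroup.le_normalizer ⟨s, hs, rfl⟩)
    have hVtop : Subgroup.normalizer (V : Set X) ≠ ⊤ := fun h => by
      have hVP : V ≤ (P : Subgroup X) := by
        refine le_trans (Subgroup.comap_mono (centerOmega_le _)) ?_
        show ((P : Subgroup X).map f).comap f ≤ _
        rw [Subgroup.comap_map_eq, QuotientGroup.ker_mk']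
        exact sup_le le_rfl hQP
      have hVQ : V ≤ Q :=
        Grp.le_pCore (Subgroup.normalizer_eq_top_iff.1 h) (P.isPGroup'.to_le hVP)
      have hP'1 : (P' : Subgroup (X ⧸ Q)) ≠ ⊥ := fun h1 => hself fun w hw =>
        (QuotientGroup.eq_one_iff w).1 (Subgroup.mem_bot.1 (h1 ▸ ⟨w, hw.1, rfl⟩))
      refine centerOmega_ne_bot (Or.inl rfl) P'.isPGroup' hP'1 (le_bot_iff.1 fun y hy => ?_)
      obtain ⟨w, rfl⟩ := hfs y
      exact Subgroup.mem_bot.2 ((QuotientGroup.eq_one_iff w).2 (hVQ hy))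
    have hQc : ∀ r : X, (orderOf r).Coprime p → ∀ q ∈ Q, Commute r q := by
      intro r hr q hq
      let π := QuotientGroup.mk' C
      have hXp : IsPGroup p (X ⧸ C) := by
        have h1 : (P : Subgroup X).map π = ⊤ := by
          rw [← Subgroup.map_top_of_surjective π (QuotientGroup.mk'_surjective C), ← hG₂,
            Subgroup.map_sup, (Subgroup.map_eq_bot_iff _).2 (QuotientGroup.ker_mk' C).ge, bot_sup_eq]
        exact (h1 ▸ P.isPGroup'.map π).of_equiv Subgroup.topEquiv
      obtain ⟨k, hk⟩ := hXp (π r)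
      have hk' : r ^ p ^ k ∈ C := (QuotientGroup.eq_one_iff _).1 (by rw [QuotientGroup.mk_pow]; exact hk)
      obtain ⟨j, hj⟩ := exists_pow_eq_self_of_coprime (hr.symm.pow_left k)
      have h2 := (show Commute (r ^ p ^ k) q from
        (Subgroup.mem_centralizer_iff.1 hk' q hq).symm).pow_left j
      rwa [hj] at h2
    obtain ⟨x, hx, hxe⟩ := control_lift P hQP hQc (N := Subgroup.normalizer (V : Set X)) hPV
      (fun B hB y hy => by
        obtain ⟨xb, hxb, he⟩ := ih _ hQlt (X ⧸ Q) rfl hQs P' (f '' B)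
          (by rintro _ ⟨b, hb, rfl⟩; exact ⟨b, hB hb, rfl⟩) (f y)
          (by rintro _ ⟨b, hb, rfl⟩; exact ⟨_, hy b hb, by simp⟩)
        obtain ⟨x, rfl⟩ := hfs xb
        refine ⟨x, by rw [hVn]; exact hxb, fun b hb => QuotientGroup.eq.1 ?_⟩
        show f (x * b * x⁻¹) = f (y * b * y⁻¹)
        rw [map_mul, map_mul, map_mul, map_mul, map_inv, map_inv]
        exact he _ ⟨b, hb, rfl⟩) hA hg
    obtain ⟨m, hm, hme⟩ := hover hPV hVtop A hA x hx fun a ha => by rw [hxe a ha]; exact hg a ha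
    exact ⟨m, hm, fun a ha => (hme a ha).trans (hxe a ha)⟩
  · obtain ⟨m, hm, c, hc, rfl⟩ := hdec g
    set G₂ := C ⊔ (P : Subgroup X) with hG₂d
    set K := G₂ ⊓ Subgroup.normalizer (R : Set X) with hK
    have hPK : (P : Subgroup X) ≤ K := le_inf le_sup_right hPR
    have hcA : (Subgroup.closure A).map (MulAut.conj c).toMonoidHom ≤ K := closure_conj_le fun a ha =>
      ⟨G₂.mul_mem (G₂.mul_mem (Subgroup.mem_sup_left hc) (Subgroup.mem_sup_right (hA ha)))
        (G₂.inv_mem (Subgroup.mem_sup_left hc)), by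
        rw [show c * a * c⁻¹ = m⁻¹ * (m * c * a * (m * c)⁻¹) * m by group]
        exact (Subgroup.normalizer (R : Set X)).mul_mem ((Subgroup.normalizer (R : Set X)).mul_mem
          ((Subgroup.normalizer (R : Set X)).inv_mem hm) (hPR (hg a ha))) hm⟩
    obtain ⟨k, hk, hkA⟩ := exists_conj_into
      (show Grp.IsSylowIn p (P : Subgroup X) K from ⟨hPK, P.isPGroup', fun hd =>
        P.not_dvd_index (hd.trans (Subgroup.relIndex_dvd_index_of_le hPK))⟩) hcA
      ((P.isPGroup'.to_le ((Subgroup.closure_le _).2 hA)).map _)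
    have hkc : ∀ a ∈ A, k * c * a * (k * c)⁻¹ ∈ (P : Subgroup X) := fun a ha => by
      rw [show k * c * a * (k * c)⁻¹ = k * (c * a * c⁻¹) * k⁻¹ by group]
      exact hkA _ ⟨a, Subgroup.subset_closure ha, rfl⟩
    obtain ⟨x₁, hx₁, e₁⟩ := hover (H := G₂) le_sup_right hG₂ A hA (k * c)
      (G₂.mul_mem hk.1 (Subgroup.mem_sup_left hc)) hkc
    obtain ⟨x₂, hx₂, e₂⟩ := hover hPR hRtop ((fun a => k * c * a * (k * c)⁻¹) '' A)
      (by rintro _ ⟨a, ha, rfl⟩; exact hkc a ha) (m * k⁻¹) (mul_mem hm (inv_mem hk.2))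
      (by
        rintro _ ⟨a, ha, rfl⟩
        rw [show m * k⁻¹ * (k * c * a * (k * c)⁻¹) * (m * k⁻¹)⁻¹ = m * c * a * (m * c)⁻¹ by group]
        exact hg a ha)
    refine ⟨x₂ * x₁, mul_mem hx₂ hx₁, fun a ha => ?_⟩
    calc x₂ * x₁ * a * (x₂ * x₁)⁻¹ = x₂ * (x₁ * a * x₁⁻¹) * x₂⁻¹ := by group
      _ = m * k⁻¹ * (k * c * a * (k * c)⁻¹) * (m * k⁻¹)⁻¹ := by rw [e₁ a ha]; exact e₂ _ ⟨a, ha, rfl⟩
      _ = m * c * a * (m * c)⁻¹ := by group

end Cfsg.Agent.Fus.StableOdd
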