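import Cfsg.Agent.Lib.Block.SFourFree.Basic
import Cfsg.Agent.Lib.Invol.NoOff.Unique

/-!
Strict elementary subgroups without configuration, and the largest one in a 2-group.
-/

set_option autoImplicit false
set_option linter.unusedSectionVars false
set_option linter.style.haveILetI false

namespace Cfsg.Agent.Fus.Stell

open Subgroup Cfsg.Agent.Block.SFour
open scoped Pointwise commutatorElement

universe u v

variable {G : Type u} [Group G]

/-! ### Commutators with an elementary abelian subgroup -/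

section cm

variable {P : Subgroup G} (hP : Cfsg.IsElementaryAbelian 2 P)

include hP

theorem el_comm {x y : G} (hx : x ∈ P) (hy : y ∈ P) : x * y = y * x :=
  congrArg Subtype.val (hP.1.is_comm.comm ⟨x, hx⟩ ⟨y, hy⟩)

theorem el_self {x : G} (hx : x ∈ P) : x * x = 1 := by rw [← pow_two]; exact hP.2 x hx

theorem el_inv {x : G} (hx : x ∈ P) : x⁻¹ = x := inv_eq_of_mul_eq_one_right (el_self hP hx)

omit hP in
theorem conj_mem {t x : G} (ht : t ∈ normalizer (P : Set G)) (hx : x ∈ P) : t * x * t⁻¹ ∈ P :=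
  (Subgroup.mem_normalizer_iff.mp ht x).mp hx

omit hP in
theorem cm_mem {t x : G} (ht : t ∈ normalizer (P : Set G)) (hx : x ∈ P) : ⁅t, x⁆ ∈ P :=
  P.mul_mem (conj_mem ht hx) (P.inv_mem hx)

omit hP in
theorem cm_mul_conj (t x : G) : ⁅t, x⁆ * x = t * x * t⁻¹ := by
  rw [commutatorElement_def]; group

theorem cm_mul {t x y : G} (ht : t ∈ normalizer (P : Set G)) (hx : x ∈ P) (hy : y ∈ P) :
    ⁅t, x * y⁆ = ⁅t, x⁆ * ⁅t, y⁆ := by
  have e : ⁅t, x * y⁆ = ⁅t, x⁆ * (x * ⁅t, y⁆ * x⁻¹) := by simp only [commutatorElement_def]; group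
  rw [e, el_comm hP hx (cm_mem ht hy), mul_inv_cancel_right]

theorem cm_inv {t x : G} (hx : x ∈ P) : ⁅t, x⁻¹⁆ = ⁅t, x⁆ := by rw [el_inv hP hx]

theorem cm_one_of_mem {x y : G} (hx : x ∈ P) (hy : y ∈ P) : ⁅x, y⁆ = 1 :=
  commutatorElement_eq_one_iff_mul_comm.mpr (el_comm hP hx hy)

omit hP in
theorem cm_mul_left (s t x : G) : ⁅s * t, x⁆ = ⁅s, ⁅t, x⁆⁆ * ⁅t, x⁆ * ⁅s, x⁆ := by
  simp only [commutatorElement_def]; group

theorem cm_mul_left' {s t x : G} (hs : s ∈ normalizer (P : Set G))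
    (ht : t ∈ normalizer (P : Set G)) (hx : x ∈ P) :
    ⁅s * t, x⁆ = ⁅s, x⁆ * ⁅t, x⁆ * ⁅s, ⁅t, x⁆⁆ := by
  have h1 := cm_mem hs hx
  have h2 := cm_mem ht hx
  rw [cm_mul_left, mul_assoc, el_comm hP (cm_mem hs h2) (P.mul_mem h2 h1), el_comm hP h2 h1]

theorem cm_swap {s t x : G} (hst : s * t = t * s) (hs : s ∈ normalizer (P : Set G))
    (ht : t ∈ normalizer (P : Set G)) (hx : x ∈ P) : ⁅s, ⁅t, x⁆⁆ = ⁅t, ⁅s, x⁆⁆ := by
  have h1 := cm_mul_left' hP hs ht hx
  rw [hst, cm_mul_left' hP ht hs hx, el_comm hP (cm_mem ht hx) (cm_mem hs hx)] at h1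
  exact (mul_left_cancel h1).symm

theorem cm_self {t x : G} (ht2 : t * t = 1) (ht : t ∈ normalizer (P : Set G)) (hx : x ∈ P) :
    ⁅t, ⁅t, x⁆⁆ = 1 := by
  have h1 := cm_mul_left' hP ht ht hx
  rw [ht2, commutatorElement_one_left, el_self hP (cm_mem ht hx), one_mul] at h1
  exact h1.symm

end cm

/-! ### The two conditions -/

/-- No subgroup of `D` with elementary image on `P` offends strictly. -/
def Strict (D P : Subgroup G) : Prop :=
  ∀ A ≤ D, (∀ a ∈ A, a ^ 2 ∈ centralizer (P : Set G)) → ¬ A ≤ centralizer (P : Set G) →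
    (centralizer (P : Set G)).relIndex A < (centralizer (A : Set G)).relIndex P

/-- The configuration `(E, P)` with distinguished subgroup `V0`. -/
structure IsConfig (E P V0 : Subgroup G) : Prop where
  elE : Cfsg.IsElementaryAbelian 2 E
  elP : Cfsg.IsElementaryAbelian 2 P
  norm : E ≤ normalizer (P : Set G)
  le : V0 ≤ P
  ne : V0 ≠ P
  comm : ∀ t ∈ E, ∀ a ∈ P, ⁅t, a⁆ ∈ V0
  quad : ∀ t ∈ E, ∀ s ∈ E, ∀ x ∈ V0, ⁅s, ⁅t, x⁆⁆ = 1
  surj : ∀ a ∈ P, a ∉ V0 → ∀ x ∈ V0, ∃ t ∈ E, ∀ s ∈ E, ⁅s, ⁅t, a⁆ * x⁆ = 1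
  moved : ∃ t ∈ E, ∃ x ∈ V0, ⁅t, x⁆ ≠ 1
  rad : ∀ K ≤ P, ∀ F ≤ E, (∀ t ∈ F, ∀ x ∈ V0, ⁅t, x⁆ ∈ K) →
    (∃ t ∈ E, ∃ x ∈ V0, ⁅t, x⁆ ∉ K) → V0.relIndex P ^ 2 < F.relIndex E

/-- A strict elementary subgroup normalised by `D` without configuration in `D`. -/
structure Good (D P : Subgroup G) : Prop where
  el : Cfsg.IsElementaryAbelian 2 P
  norm : D ≤ normalizer (P : Set G)
  strict : Strict D P
  free : ∀ E ≤ D, ∀ V0, ¬ IsConfig E P V0

theorem Strict.mono {D D' P : Subgroup G} (h : Strict D P) (hD : D' ≤ D) : Strict D' P :=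
  fun A hA => h A (hA.trans hD)

theorem Good.mono {D D' P : Subgroup G} (h : Good D P) (hD : D' ≤ D) : Good D' P :=
  ⟨h.el, hD.trans h.norm, h.strict.mono hD, fun E hE => h.free E (hE.trans hD)⟩

/-- Configurations restrict to invariant subgroups outside `V0`. -/
theorem IsConfig.restrict [Finite G] {E P V0 P' : Subgroup G} (h : IsConfig E P V0) (hle : P' ≤ P)
    (hn : E ≤ normalizer (P' : Set G)) (hnot : ¬ P' ≤ V0) : IsConfig E P' (V0 ⊓ P') := by
  obtain ⟨a, haP, haV⟩ := SetLike.not_le_iff_exists.mp hnot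
  have key : ∀ t ∈ E, ∀ x ∈ V0, ∃ y ∈ V0 ⊓ P', ∀ s ∈ E, ⁅s, x⁆ = ⁅s, y⁆ := by
    intro _ _ x hx
    obtain ⟨t, ht, hfix⟩ := h.surj a (hle haP) haV x hx
    refine ⟨⁅t, a⁆, ⟨h.comm t ht a (hle haP), cm_mem (hn ht) haP⟩, fun s hs => ?_⟩
    have h1 := hfix s hs
    rw [cm_mul h.elP (h.norm hs) (cm_mem (h.norm ht) (hle haP)) (h.le hx),
      mul_eq_one_iff_eq_inv, el_inv h.elP (cm_mem (h.norm hs) (h.le hx))] at h1
    exact h1.symm
  refine ⟨h.elE, isEl_mono h.elP hle, hn, inf_le_right, fun e => hnot (e ▸ inf_le_left), ?_, ?_, ?_,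
    ?_, ?_⟩
  · exact fun t ht b hb => ⟨h.comm t ht b (hle hb), cm_mem (hn ht) hb⟩
  · exact fun t ht s hs x hx => h.quad t ht s hs x hx.1
  · exact fun b hb hbV x hx => h.surj b (hle hb) (fun hh => hbV ⟨hh, hb⟩) x hx.1
  · obtain ⟨t, ht, x, hx, hne⟩ := h.moved
    obtain ⟨y, hy, he⟩ := key t ht x hx
    exact ⟨t, ht, y, hy, he t ht ▸ hne⟩
  · intro K hK F hF hFK hmov
    obtain ⟨t, ht, x, hx, hxK⟩ := hmov
    have hle' : (V0 ⊓ P').relIndex P' ≤ V0.relIndex P := by
      rw [Subgroup.inf_relIndex_right]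
      exact Subgroup.relIndex_le_of_le_right hle (relIndex_ne_zero' _ _)
    refine (Nat.pow_le_pow_left hle' 2).trans_lt
      (h.rad K (hK.trans hle) F hF (fun s hs z hz => ?_) ⟨t, ht, x, hx.1, hxK⟩)
    obtain ⟨y, hy, he⟩ := key s (hF hs) z hz
    exact he s (hF hs) ▸ hFK s hs y hy

variable [Finite G]

theorem relIndex_mul_card_inf (H A : Subgroup G) :
    H.relIndex A * Nat.card ↥(H ⊓ A) = Nat.card A := by
  rw [← Subgroup.inf_relIndex_right, ← Subgroup.relIndex_bot_left (H ⊓ A),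
    ← Subgroup.relIndex_bot_left A, mul_comm]
  exact Subgroup.relIndex_mul_relIndex _ _ _ bot_le inf_le_right

theorem centralizer_sup (P Q : Subgroup G) :
    centralizer ((P ⊔ Q : Subgroup G) : Set G) = centralizer (P : Set G) ⊓ centralizer (Q : Set G) := by
  refine le_antisymm (le_inf (Subgroup.centralizer_le (fun x hx => le_sup_left (b := Q) hx))
    (Subgroup.centralizer_le (fun x hx => le_sup_right (a := P) hx))) ?_
  rw [Subgroup.le_centralizer_iff]
  exact sup_le (Subgroup.le_centralizer_iff.mp inf_le_left)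
    (Subgroup.le_centralizer_iff.mp inf_le_right)

/-- Commuting strict subgroups give a strict product. -/
theorem Strict.sup {D P Q : Subgroup G} (hP : Strict D P) (hQ : Strict D Q) :
    Strict D (P ⊔ Q) := by
  intro A hA hsq hne
  rw [centralizer_sup] at hsq hne ⊢
  set CP := centralizer (P : Set G)
  set CQ := centralizer (Q : Set G)
  set A1 := A ⊓ CP with hA1
  by_cases hAP : A ≤ CP
  · have h1 := hQ A hA (fun a ha => (hsq a ha).2) fun h => hne (le_inf hAP h)
    refine lt_of_le_of_lt (le_of_eq ?_) (h1.trans_le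
      (Subgroup.relIndex_le_of_le_right le_sup_right (relIndex_ne_zero' _ _)))
    rw [← Subgroup.inf_relIndex_right, inf_assoc, inf_left_comm, inf_eq_right.mpr hAP,
      Subgroup.inf_relIndex_right]
  · have h1 := hP A hA (fun a ha => (hsq a ha).1) hAP
    have h2 : CQ.relIndex A1 ≤ (centralizer (A1 : Set G)).relIndex Q := by
      by_cases h : A1 ≤ CQ
      · rw [Subgroup.relIndex_eq_one.mpr h]
        exact Nat.one_le_iff_ne_zero.mpr (relIndex_ne_zero' _ _)
      · exact (hQ A1 (inf_le_left.trans hA) (fun a ha => (hsq a ha.1).2) h).le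
    have h3 : (CP ⊓ CQ).relIndex A = CP.relIndex A * CQ.relIndex A1 := by
      rw [← Subgroup.inf_relIndex_right (CP ⊓ CQ) A, ← Subgroup.inf_relIndex_right CP A,
        ← Subgroup.inf_relIndex_right CQ A1,
        show CQ ⊓ A1 = CP ⊓ CQ ⊓ A by rw [hA1, inf_comm A CP, ← inf_assoc, inf_comm CQ CP],
        show CP ⊓ A = A1 from inf_comm _ _, mul_comm]
      exact (Subgroup.relIndex_mul_relIndex _ _ _
        (le_inf inf_le_right (inf_le_left.trans inf_le_left)) inf_le_left).symm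
    rw [h3]
    refine lt_of_lt_of_le (Nat.mul_lt_mul_of_lt_of_le h1 h2
      (Nat.pos_of_ne_zero (relIndex_ne_zero' _ _))) ?_
    refine relIndex_mul_le (Subgroup.centralizer_le inf_le_left) ?_ le_sup_left le_sup_right
    exact Subgroup.le_centralizer_iff.mp inf_le_right

/-- Two good subgroups that commute give a good product. -/
theorem Good.sup {D P Q : Subgroup G} (hP : Good D P) (hQ : Good D Q)
    (hc : P ≤ centralizer (Q : Set G)) : Good D (P ⊔ Q) := by
  refine ⟨isEl_sup hP.el hQ.el fun a ha b hb => (Subgroup.mem_centralizer_iff.mp (hc ha) b hb).symm,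
    fun d hd => ?_, hP.strict.sup hQ.strict, fun E hE V0 h => ?_⟩
  · rw [Grp.mem_normalizer_iff_smul, Subgroup.smul_sup, Grp.mem_normalizer_iff_smul.mp (hP.norm hd),
      Grp.mem_normalizer_iff_smul.mp (hQ.norm hd)]
  · by_cases hPV : P ≤ V0
    · refine hQ.free E hE _ (h.restrict le_sup_right (hE.trans hQ.norm) fun hQV => h.ne ?_)
      exact le_antisymm h.le (sup_le hPV hQV)
    · exact hP.free E hE _ (h.restrict le_sup_left (hE.trans hP.norm) hPV)

theorem Good.bot (D : Subgroup G) : Good D ⊥ :=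
  ⟨isEl_iff.mpr ⟨fun x hx y hy => by simp [Subgroup.mem_bot.mp hx, Subgroup.mem_bot.mp hy],
      fun x hx => by simp [Subgroup.mem_bot.mp hx]⟩,
    fun d _ => by rw [Grp.mem_normalizer_iff_smul, Subgroup.smul_bot],
    fun A _ _ h => absurd (fun a _ => Subgroup.mem_centralizer_iff.mpr fun x hx => by
      rw [Subgroup.mem_bot.mp hx, mul_one, one_mul]) h,
    fun E _ V0 h => h.ne (le_bot_iff.mp h.le)⟩

/-- Strict subgroups inside `D` commute. -/
theorem Good.commute {D P Q : Subgroup G} (hP : Good D P) (hQ : Good D Q) (hPD : P ≤ D)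
    (hQD : Q ≤ D) : P ≤ centralizer (Q : Set G) := by
  by_contra h
  have h' : ¬ Q ≤ centralizer (P : Set G) := fun hh => h (Subgroup.le_centralizer_iff.mp hh)
  have h1 := hQ.strict P hPD (fun a ha => by rw [hP.el.2 a ha]; exact one_mem _) h
  have h2 := hP.strict Q hQD (fun a ha => by rw [hQ.el.2 a ha]; exact one_mem _) h'
  exact lt_asymm h1 h2

/-- The join of the good subgroups inside `V`. -/
def top (D V : Subgroup G) : Subgroup G := sSup {P | P ≤ V ∧ Good D P}

theorem top_le (D V : Subgroup G) : top D V ≤ V := sSup_le fun _ h => h.1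

theorem le_top' {D V P : Subgroup G} (hPV : P ≤ V) (hP : Good D P) : P ≤ top D V :=
  le_sSup ⟨hPV, hP⟩

theorem good_top {D V : Subgroup G}
    (hc : ∀ P Q, P ≤ V → Q ≤ V → Good D P → Good D Q → P ≤ centralizer (Q : Set G)) :
    Good D (top D V) := by
  obtain ⟨P, ⟨hPV, hP⟩, hmax⟩ := Set.exists_max_image {P : Subgroup G | P ≤ V ∧ Good D P}
    (fun P => Nat.card P) (Set.toFinite _) ⟨⊥, bot_le, Good.bot D⟩
  suffices top D V = P by rwa [this]
  refine le_antisymm (sSup_le fun Q hQ => ?_) (le_top' hPV hP)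
  have h := hmax (P ⊔ Q) ⟨sup_le hPV hQ.1, hP.sup hQ.2 (hc P Q hPV hQ.1 hP hQ.2)⟩
  exact le_sup_right.trans (Subgroup.eq_of_le_of_card_ge le_sup_left h).ge

theorem good_top_of_el {D V : Subgroup G} (hV : Cfsg.IsElementaryAbelian 2 V) :
    Good D (top D V) :=
  good_top fun _ _ hP hQ _ _ _ hx =>
    Subgroup.mem_centralizer_iff.mpr fun _ hy => el_comm hV (hQ hy) (hP hx)

/-- The functor. -/
def wSub (D : Subgroup G) : Subgroup G := top D D

theorem wSub_le (D : Subgroup G) : wSub D ≤ D := top_le D D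

theorem good_wSub (D : Subgroup G) : Good D (wSub D) :=
  good_top fun _ _ hP hQ h1 h2 => h1.commute h2 hP hQ

theorem le_wSub {D P : Subgroup G} (hPD : P ≤ D) (hP : Good D P) : P ≤ wSub D := le_top' hPD hP

theorem good_omegaZ (D : Subgroup G) : Good D (omegaZ D) := by
  refine ⟨isEl_omegaZ D, (le_centralizer_omegaZ D).trans (Subgroup.centralizer_le_normalizer _),
    fun A hA _ h => absurd (hA.trans (le_centralizer_omegaZ D)) h, fun E hE V0 h => ?_⟩
  obtain ⟨t, ht, x, hx, hne⟩ := h.moved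
  exact hne (commutatorElement_eq_one_iff_mul_comm.mpr
    ((h.le hx).2 t (hE ht)))

theorem omegaZ_le_wSub (D : Subgroup G) : omegaZ D ≤ wSub D :=
  le_wSub (omegaZ_le D) (good_omegaZ D)

theorem wSub_le_maxEl {D A : Subgroup G} (hA : Invol.IsMaxEl 2 D A) : wSub D ≤ A := by
  have hg := good_wSub D
  have hc : A ≤ centralizer (wSub D : Set G) := by
    by_contra h
    exact ((hg.strict A hA.1 (fun a ha => by rw [hA.2.1.2 a ha]; exact one_mem _) h).trans_le
      (weight hA (wSub_le D) hg.el)).false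
  exact fun x hx => hA.mem_of_commute (wSub_le D hx) (hg.el.2 x hx)
    fun a ha => (Subgroup.mem_centralizer_iff.mp (hc ha) x hx).symm

/-! ### Naturality -/

section map

variable {K : Type v} [Group K] [Finite K] {f : G →* K} (hf : Function.Injective f)

include hf

theorem isConfig_map {E P V0 : Subgroup G} :
    IsConfig (E.map f) (P.map f) (V0.map f) ↔ IsConfig E P V0 := by
  have hcm : ∀ t x : G, f ⁅t, x⁆ = ⁅f t, f x⁆ := fun t x => map_commutatorElement f t x
  have hone : ∀ y : G, f y = 1 ↔ y = 1 := fun y => map_eq_one_iff f hf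
  have hnorm : E.map f ≤ normalizer (P.map f : Set K) ↔ E ≤ normalizer (P : Set G) := by
    constructor
    · intro h x hx
      rw [Subgroup.mem_normalizer_iff]
      intro z
      have h1 := Subgroup.mem_normalizer_iff.mp (h (Subgroup.mem_map_of_mem f hx)) (f z)
      rwa [← map_inv, ← map_mul, ← map_mul, Subgroup.mem_map_iff_mem hf,
        Subgroup.mem_map_iff_mem hf] at h1
    · exact fun h => (Subgroup.map_mono h).trans (Subgroup.le_normalizer_map f)
  constructor
  · intro h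
    refine ⟨isEl_of_map hf h.elE, isEl_of_map hf h.elP, hnorm.mp h.norm,
      (Subgroup.map_le_map_iff_of_injective hf).mp h.le, fun e => h.ne (e ▸ rfl), ?_, ?_, ?_, ?_, ?_⟩
    · intro t ht a ha
      have := h.comm _ (mem_map_of_mem f ht) _ (mem_map_of_mem f ha)
      rwa [← hcm, Subgroup.mem_map_iff_mem hf] at this
    · intro t ht s hs x hx
      have := h.quad _ (mem_map_of_mem f ht) _ (mem_map_of_mem f hs) _ (mem_map_of_mem f hx)
      rwa [← hcm, ← hcm, hone] at this
    · intro a ha haV x hx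
      obtain ⟨_, ⟨t, ht, rfl⟩, h1⟩ := h.surj _ (mem_map_of_mem f ha)
        (fun hh => haV ((Subgroup.mem_map_iff_mem hf).mp hh)) _ (mem_map_of_mem f hx)
      refine ⟨t, ht, fun s hs => ?_⟩
      have := h1 _ (mem_map_of_mem f hs)
      rwa [← hcm, ← map_mul, ← hcm, hone] at this
    · obtain ⟨_, ⟨t, ht, rfl⟩, _, ⟨x, hx, rfl⟩, hne⟩ := h.moved
      rw [← hcm, Ne, hone] at hne
      exact ⟨t, ht, x, hx, hne⟩
    · rintro L hL F hF hFL ⟨t, ht, x, hx, hxL⟩
      have := h.rad (L.map f) (Subgroup.map_mono hL) (F.map f) (Subgroup.map_mono hF) ?_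
        ⟨_, mem_map_of_mem f ht, _, mem_map_of_mem f hx, fun hh => hxL (by
          rwa [← hcm, Subgroup.mem_map_iff_mem hf] at hh)⟩
      · rwa [Subgroup.relIndex_map_map_of_injective _ _ hf,
          Subgroup.relIndex_map_map_of_injective _ _ hf] at this
      · rintro _ ⟨s, hs, rfl⟩ _ ⟨z, hz, rfl⟩
        rw [← hcm]; exact mem_map_of_mem f (hFL s hs z hz)
  · intro h
    refine ⟨isEl_map h.elE f, isEl_map h.elP f, hnorm.mpr h.norm, Subgroup.map_mono h.le,
      fun e => h.ne (Subgroup.map_injective hf e), ?_, ?_, ?_, ?_, ?_⟩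
    · rintro _ ⟨t, ht, rfl⟩ _ ⟨a, ha, rfl⟩
      rw [← hcm]; exact mem_map_of_mem f (h.comm t ht a ha)
    · rintro _ ⟨t, ht, rfl⟩ _ ⟨s, hs, rfl⟩ _ ⟨x, hx, rfl⟩
      rw [← hcm, ← hcm, h.quad t ht s hs x hx, map_one]
    · rintro _ ⟨a, ha, rfl⟩ haV _ ⟨x, hx, rfl⟩
      obtain ⟨t, ht, h1⟩ := h.surj a ha (fun hh => haV (mem_map_of_mem f hh)) x hx
      refine ⟨f t, mem_map_of_mem f ht, ?_⟩
      rintro _ ⟨s, hs, rfl⟩
      rw [← hcm, ← map_mul, ← hcm, h1 s hs, map_one]
    · obtain ⟨t, ht, x, hx, hne⟩ := h.moved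
      exact ⟨f t, mem_map_of_mem f ht, f x, mem_map_of_mem f hx, by rwa [← hcm, Ne, hone]⟩
    · rintro L hL F hF hFL ⟨_, ⟨t, ht, rfl⟩, _, ⟨x, hx, rfl⟩, hxL⟩
      have eL := le_map_of_le hL
      have eF := le_map_of_le hF
      rw [← eF, Subgroup.relIndex_map_map_of_injective _ _ hf,
        Subgroup.relIndex_map_map_of_injective _ _ hf]
      refine h.rad (L.comap f) (fun y hy => (Subgroup.mem_map_iff_mem hf).mp (hL hy)) (F.comap f)
        (fun y hy => (Subgroup.mem_map_iff_mem hf).mp (hF hy)) (fun s hs z hz => ?_)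
        ⟨t, ht, x, hx, fun hh => hxL (hcm t x ▸ hh)⟩
      have h1 := hFL _ hs _ (mem_map_of_mem f hz)
      rw [← hcm] at h1
      exact h1

theorem strict_map {D P : Subgroup G} : Strict (D.map f) (P.map f) ↔ Strict D P := by
  constructor
  · intro h A hA hsq hne
    have h1 := h (A.map f) (Subgroup.map_mono hA) (by
      rintro _ ⟨a, ha, rfl⟩
      rw [← map_pow]; exact (mem_centralizer_map hf).mpr (hsq a ha))
      fun hh => hne fun a ha => (mem_centralizer_map hf).mp (hh (mem_map_of_mem f ha))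
    rwa [relIndex_centralizer_map hf, relIndex_centralizer_map hf] at h1
  · intro h A hA hsq hne
    have e := le_map_of_le hA
    rw [← e, relIndex_centralizer_map hf, relIndex_centralizer_map hf]
    refine h _ (fun y hy => (Subgroup.mem_map_iff_mem hf).mp (hA hy)) (fun a ha => ?_) fun hh => ?_
    · have := hsq (f a) ha
      rwa [← map_pow, mem_centralizer_map hf] at this
    · refine hne (e ▸ ?_)
      rintro _ ⟨a, ha, rfl⟩
      exact (mem_centralizer_map hf).mpr (hh ha)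

theorem good_map {D P : Subgroup G} : Good (D.map f) (P.map f) ↔ Good D P := by
  constructor
  · intro h
    refine ⟨isEl_of_map hf h.el, fun x hx => ?_, (strict_map hf).mp h.strict,
      fun E hE V0 hc => h.free _ (Subgroup.map_mono hE) _ ((isConfig_map hf).mpr hc)⟩
    rw [Subgroup.mem_normalizer_iff]
    intro z
    have h1 := Subgroup.mem_normalizer_iff.mp (h.norm (mem_map_of_mem f hx)) (f z)
    rwa [← map_inv, ← map_mul, ← map_mul, Subgroup.mem_map_iff_mem hf,
      Subgroup.mem_map_iff_mem hf] at h1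
  · intro h
    refine ⟨isEl_map h.el f, (Subgroup.map_mono h.norm).trans (Subgroup.le_normalizer_map f),
      (strict_map hf).mpr h.strict, fun E hE V0 hc => ?_⟩
    have eE := le_map_of_le hE
    have eV := le_map_of_le hc.le
    rw [← eE, ← eV] at hc
    exact h.free _ (fun y hy => (Subgroup.mem_map_iff_mem hf).mp (hE hy)) _ ((isConfig_map hf).mp hc)

theorem top_map (D V : Subgroup G) : (top D V).map f = top (D.map f) (V.map f) := by
  refine le_antisymm (Subgroup.map_le_iff_le_comap.mpr (sSup_le fun P hP =>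
    Subgroup.map_le_iff_le_comap.mp (le_top' (Subgroup.map_mono hP.1) ((good_map hf).mpr hP.2))))
    (sSup_le ?_)
  rintro P ⟨h1, h2⟩
  have e := le_map_of_le h1
  rw [← e] at h2 ⊢
  exact Subgroup.map_mono (le_top' (fun y hy => (Subgroup.mem_map_iff_mem hf).mp (h1 hy))
    ((good_map hf).mp h2))

theorem wSub_map (D : Subgroup G) : (wSub D).map f = wSub (D.map f) := top_map hf D D

end map

theorem top_smul (g : G) (D V : Subgroup G) :
    MulAut.conj g • top D V = top (MulAut.conj g • D) (MulAut.conj g • V) := by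
  simp only [← Grp.map_conj_eq_smul]
  exact top_map (f := (MulAut.conj g).toMonoidHom) (MulAut.conj g).injective D V

theorem normalizer_le_top {D V : Subgroup G} {g : G} (hD : g ∈ normalizer (D : Set G))
    (hV : g ∈ normalizer (V : Set G)) : g ∈ normalizer (top D V : Set G) := by
  rw [Grp.mem_normalizer_iff_smul] at hD hV ⊢
  rw [top_smul, hD, hV]

theorem normalizer_le_wSub (D : Subgroup G) :
    normalizer (D : Set G) ≤ normalizer (wSub D : Set G) :=
  fun _ hg => normalizer_le_top hg hg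

end Cfsg.Agent.Fus.Stell
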