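import Cfsg.Agent.Lib.Fus.StellPoint

/-!
The closure of a good subgroup has no configuration.
-/

set_option autoImplicit false
set_option linter.unusedSectionVars false
set_option linter.style.haveILetI false

namespace Cfsg.Agent.Fus.Stell

open Subgroup Invol.NoOff Cfsg.Agent.Block.SFour
open scoped Pointwise commutatorElement

universe u

variable {G : Type u} [Group G] [Finite G] {X T V Y E V0 : Subgroup G}

namespace Point

variable {U : Subgroup G} {u k : G} (F : Frame X T V Y E V0) (P : Point X T V E V0 U u k)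

include F P

/-- If the form on `E ∩ O₂(X)` lies in `K`, so do all commutators. -/
theorem iso {K : Subgroup G} (hKV : K ≤ V)
    (hK : ∀ c ∈ E, c ∈ core X → ∀ c' ∈ E, c' ∈ core X → ⁅c', ⁅c, u⁆⁆ ∈ K) :
    ∀ t ∈ E, ∀ x ∈ V0, ⁅t, x⁆ ∈ K := by
  by_contra hall
  push Not at hall
  obtain ⟨t0, ht0, x0, hx0, hw⟩ := hall
  set w := ⁅t0, x0⁆
  have hwV : w ∈ V := F.cfg.le (F.cfg.comm t0 ht0 x0 (F.cfg.le hx0))
  -- a largest subgroup avoiding the commutator
  obtain ⟨K', ⟨hKK, hK'V, hwK⟩, hmax⟩ := Set.exists_max_image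
    {L : Subgroup G | K ≤ L ∧ L ≤ V ∧ w ∉ L} (fun L => Nat.card L) (Set.toFinite _)
    ⟨K, le_rfl, hKV, hw⟩
  have htwo : ∀ y ∈ V, y ∉ K' → y * w ∈ K' := by
    intro y hy hyK
    let L : Subgroup G :=
      { carrier := {z | ∃ e ∈ K', z = e ∨ z = e * y}
        one_mem' := ⟨1, one_mem _, Or.inl rfl⟩
        mul_mem' := by
          rintro a b ⟨e, he, ha⟩ ⟨e', he', hb⟩
          refine ⟨e * e', mul_mem he he', ?_⟩
          rcases ha with rfl | rfl <;> rcases hb with rfl | rfl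
          · exact Or.inl rfl
          · exact Or.inr (by rw [mul_assoc])
          · refine Or.inr ?_
            rw [mul_assoc, el_comm F.elV hy (hK'V he'), mul_assoc]
          · refine Or.inl ?_
            rw [mul_assoc, ← mul_assoc y, el_comm F.elV hy (hK'V he'), mul_assoc,
              el_self F.elV hy, mul_one]
        inv_mem' := by
          rintro a ⟨e, he, ha⟩
          refine ⟨e, he, ?_⟩
          rcases ha with rfl | rfl
          · exact Or.inl (el_inv F.elV (hK'V he))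
          · exact Or.inr (el_inv F.elV (V.mul_mem (hK'V he) hy)) }
    by_contra hyw
    have hLV : L ≤ V := by
      rintro z ⟨e, he, rfl | rfl⟩
      · exact hK'V he
      · exact V.mul_mem (hK'V he) hy
    have hwL : w ∉ L := by
      rintro ⟨e, he, h | h⟩
      · exact hwK (h ▸ he)
      · refine hyw ?_
        rwa [h, el_comm F.elV (hK'V he) hy, ← mul_assoc, el_self F.elV hy, one_mul]
    have hle : K' ≤ L := fun e he => ⟨e, he, Or.inl rfl⟩
    have h1 := Subgroup.eq_of_le_of_card_ge hle (hmax L ⟨hKK.trans hle, hLV, hwL⟩)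
    exact hyK (h1 ▸ (⟨1, one_mem _, Or.inr (one_mul y).symm⟩ : y ∈ L))
  haveI : IsMulCommutative V := F.elV.1
  classical
  let χ : G → ZMod 2 := fun y => if y ∈ K' then 0 else 1
  have hχ : ∀ a ∈ V, ∀ b ∈ V, χ (a * b) = χ a + χ b := by
    intro a ha b hb
    by_cases ha' : a ∈ K'
    · by_cases hb' : b ∈ K'
      · simp [χ, ha', hb', mul_mem ha' hb']
      · have : a * b ∉ K' := fun h => hb' (by simpa using mul_mem (inv_mem ha') h)
        simp [χ, ha', hb', this]
    · by_cases hb' : b ∈ K'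
      · have : a * b ∉ K' := fun h => ha' (by simpa using mul_mem h (inv_mem hb'))
        simp [χ, ha', hb', this]
      · have h1 : a * w * (b * w) ∈ K' := mul_mem (htwo a ha ha') (htwo b hb hb')
        have h2 : a * w * (b * w) = a * b := by
          rw [mul_assoc, ← mul_assoc w, el_comm F.elV hwV hb, mul_assoc b, el_self F.elV hwV, mul_one]
        rw [h2] at h1
        simp [χ, ha', hb', h1, CharTwo.add_self_eq_zero]
  have hχ0 : ∀ y, χ y = 0 → y ∈ K' := fun y h => by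
    by_contra hy
    simp [χ, hy] at h
  set B := E ⊓ core X
  obtain ⟨E1, hE1, -, hcov, hcard⟩ := exists_complement (F := B) F.cfg.elE
  haveI : IsMulCommutative E1 := (isEl_mono F.cfg.elE hE1).1
  letI : CommGroup E1 := { (inferInstance : Group E1) with
    mul_comm := fun a b => Subtype.ext (el_comm F.cfg.elE (hE1 a.2) (hE1 b.2)) }
  letI : Module (ZMod 2) (Additive E1) := AddCommGroup.zmodModule (fun w => by
    refine Additive.toMul.injective (Subtype.ext ?_)
    exact F.cfg.elE.2 _ (hE1 (Additive.toMul w).2))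
  let Bk : Subgroup G :=
    { carrier := {c | c ∈ B ∧ ∀ t ∈ E1, ⁅c, ⁅t, u⁆⁆ ∈ K'}
      one_mem' := ⟨one_mem _, fun t _ => by rw [commutatorElement_one_left]; exact one_mem _⟩
      mul_mem' := fun {a b} ha hb => ⟨mul_mem ha.1 hb.1, fun t ht => by
        rw [P.exp_mul' F ha.1.1 hb.1.1 (P.cm_V0 F (hE1 ht))]
        exact mul_mem (ha.2 t ht) (hb.2 t ht)⟩
      inv_mem' := fun {a} ha => ⟨inv_mem ha.1, by rw [el_inv F.cfg.elE ha.1.1]; exact ha.2⟩ }
  have hBk : Bk ≤ B := fun _ h => h.1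
  have hFK : ∀ c ∈ Bk, ∀ x ∈ V0, ⁅c, x⁆ ∈ K' := by
    intro c hc x hx
    obtain ⟨t, ht, he⟩ := P.expand F hx
    obtain ⟨t1, ht1, b, hb, rfl⟩ := hcov t ht
    rw [he c hc.1.1, P.exp_mul F hc.1.1 (hE1 ht1) hb.1]
    exact mul_mem (hc.2 t1 ht1) (hKK (hK b hb.1 hb.2 c hc.1.1 hc.1.2))
  have hrad := F.cfg.rad K' hK'V Bk (hBk.trans inf_le_left) hFK ⟨t0, ht0, x0, hx0, hwK⟩
  -- the form into the dual of the complement
  let Ψ : B → Module.Dual (ZMod 2) (Additive E1) := fun c =>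
    AddMonoidHom.toZModLinearMap 2 (AddMonoidHom.mk'
      (fun t : Additive E1 => χ ⁅(c : G), ⁅((Additive.toMul t : E1) : G), u⁆⁆)
      fun s t => by
        show χ ⁅(c : G), ⁅((Additive.toMul s : E1) : G) * ((Additive.toMul t : E1) : G), u⁆⁆ = _
        rw [P.exp_mul F c.2.1 (hE1 (Additive.toMul s).2) (hE1 (Additive.toMul t).2)]
        exact hχ _ (cm_mem (F.cfg.norm c.2.1) (F.cfg.le (P.cm_V0 F (hE1 (Additive.toMul s).2))))
          _ (cm_mem (F.cfg.norm c.2.1) (F.cfg.le (P.cm_V0 F (hE1 (Additive.toMul t).2)))))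
  have hinj : Function.Injective fun q : B ⧸ Bk.subgroupOf B => Ψ q.out := by
    intro p q h
    rw [← Quotient.out_eq' p, ← Quotient.out_eq' q]
    refine QuotientGroup.eq.mpr ⟨B.mul_mem (B.inv_mem p.out.2) q.out.2, fun t ht => hχ0 _ ?_⟩
    show χ ⁅((p.out : B) : G)⁻¹ * ((q.out : B) : G), ⁅t, u⁆⁆ = 0
    have hV := F.cfg.le (P.cm_V0 F (hE1 ht))
    rw [el_inv F.cfg.elE p.out.2.1, P.exp_mul' F p.out.2.1 q.out.2.1 (P.cm_V0 F (hE1 ht)),
      hχ _ (cm_mem (F.cfg.norm p.out.2.1) hV) _ (cm_mem (F.cfg.norm q.out.2.1) hV)]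
    have h1 : χ ⁅((p.out : B) : G), ⁅t, u⁆⁆ = χ ⁅((q.out : B) : G), ⁅t, u⁆⁆ :=
      LinearMap.congr_fun h (Additive.ofMul (⟨t, ht⟩ : E1))
    rw [h1, CharTwo.add_self_eq_zero]
  haveI : Finite (Module.Dual (ZMod 2) (Additive E1)) :=
    Finite.of_injective _ DFunLike.coe_injective
  have hdual : Bk.relIndex B ≤ Nat.card E1 := by
    refine (Nat.card_le_card_of_injective _ hinj).trans (le_of_eq ?_)
    rw [Module.natCard_eq_pow_finrank (K := ZMod 2), Subspace.dual_finrank_eq,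
      ← Module.natCard_eq_pow_finrank]
    rfl
  have hidx : Bk.relIndex E = Bk.relIndex B * B.relIndex E :=
    (Subgroup.relIndex_mul_relIndex _ _ _ hBk inf_le_left).symm
  have hBE : B.relIndex E ≤ V0.relIndex V := by
    rw [show B = E ⊓ core X from rfl, inf_comm, Subgroup.inf_relIndex_right]
    exact P.index_le F
  refine hrad.not_ge ?_
  rw [hidx, pow_two]
  exact Nat.mul_le_mul (hdual.trans (hcard.le.trans hBE)) hBE

/-- The configuration is impossible. -/
theorem contra : False := by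
  set U1 := ⁅U, core X⁆ with hU1
  have hcV : ∀ g ∈ X, MulAut.conj g • U1 = U1 := fun g hg => by
    rw [hU1, ← Grp.map_conj_eq_smul, Subgroup.map_commutator, Grp.map_conj_eq_smul,
      Grp.map_conj_eq_smul, Grp.mem_normalizer_iff_smul.mp (P.norm hg),
      Grp.mem_normalizer_iff_smul.mp (le_normalizer_core X hg)]
  have hU1U : U1 ≤ U := Subgroup.commutator_le.mpr fun y hy c hc => by
    rw [← commutatorElement_inv]
    exact U.inv_mem (cm_mem (P.norm (core_le X hc)) hy)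
  have hU1n : X ≤ normalizer (U1 : Set G) := fun g hg => Grp.mem_normalizer_iff_smul.mpr (hcV g hg)
  have h3 := P.iso F (K := U1) (hU1U.trans (P.U_V F)) fun c _ hcR c' _ hc'R => by
    rw [← commutatorElement_inv]
    exact U1.inv_mem (Subgroup.commutator_mem_commutator (P.core_fix F hcR) hc'R)
  -- everything centralises `U` modulo `U1`
  let K0 : Subgroup G :=
    { carrier := {x | x ∈ X ∧ ∀ y ∈ U, ⁅x, y⁆ ∈ U1}
      one_mem' := ⟨X.one_mem, fun y _ => by rw [commutatorElement_one_left]; exact U1.one_mem⟩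
      mul_mem' := fun {a b} ha hb => ⟨X.mul_mem ha.1 hb.1, fun y hy => by
        rw [show ⁅a * b, y⁆ = a * ⁅b, y⁆ * a⁻¹ * ⁅a, y⁆ by simp only [commutatorElement_def]; group]
        exact U1.mul_mem (conj_mem (hU1n ha.1) (hb.2 y hy)) (ha.2 y hy)⟩
      inv_mem' := fun {a} ha => ⟨X.inv_mem ha.1, fun y hy => by
        rw [show ⁅a⁻¹, y⁆ = a⁻¹ * ⁅a, y⁆⁻¹ * (a⁻¹)⁻¹ by simp only [commutatorElement_def]; group]
        exact conj_mem (hU1n (X.inv_mem ha.1)) (U1.inv_mem (ha.2 y hy))⟩ }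
  have hE0 : E ≤ K0 := fun t ht => ⟨P.E_X F ht, fun y hy => h3 t ht y (P.U_V0 F hy)⟩
  have hkE : MulAut.conj k • E ≤ K0 := by
    intro s hs
    have hs' := mem_cj.mp hs
    have hsX : s ∈ X := (cj_le_iff P.kX).mpr (F.ET.trans F.TX) hs
    refine ⟨hsX, fun y hy => ?_⟩
    have h1 : ⁅k⁻¹ * s * k, k⁻¹ * y * k⁆ ∈ U1 := h3 _ hs' _ (P.U_V0 F (by
      have := conj_mem (P.norm (X.inv_mem P.kX)) hy
      rwa [inv_inv] at this))
    have h2 := conj_mem (hU1n P.kX) h1
    have e : k * ⁅k⁻¹ * s * k, k⁻¹ * y * k⁆ * k⁻¹ = ⁅s, y⁆ := by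
      simp only [commutatorElement_def]; group
    rwa [e] at h2
  have hV0 : V ≤ K0 := fun v hv => ⟨F.VX hv, fun y hy => by
    rw [cm_one_of_mem F.elV hv (P.U_V F hy)]; exact U1.one_mem⟩
  have hXK : X ≤ K0 := (F.generate P.kX P.kM).trans (sup_le (sup_le hE0 hkE) hV0)
  have hUY : U ≤ top T V ⊔ ⁅U, T⁆ := by
    refine P.span.trans (iSup_le fun x => ?_)
    intro z hz
    have hz' := mem_cj.mp hz
    have h1 := (hXK x.2).2 _ hz'.2
    have e : z = ⁅(x : G), (x : G)⁻¹ * z * x⁆ * ((x : G)⁻¹ * z * x) := by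
      simp only [commutatorElement_def]; group
    rw [e]
    exact mul_mem (le_sup_right (a := top T V) (Subgroup.commutator_mono le_rfl F.RT h1))
      (le_sup_left (b := ⁅U, T⁆) hz'.1)
  have hUYp : U ≤ top T V := Block.SFour.le_of_le_sup_commutator F.syl.2.1
    ((top_le T V).trans F.VT) (F.good_top' T).norm ((P.U_V F).trans F.VT) hUY
  have hYpV0 : top T V ≤ V0 := by
    have := F.good_le X.one_mem (by rw [map_one, one_smul]; exact F.ET) (top_le T V) (F.good_top' T)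
    rwa [map_one, one_smul] at this
  set Yp := top T V
  -- the subgroup pairing with `Yp`
  let A : Subgroup G :=
    { carrier := {t | t ∈ E ∧ ∃ y ∈ Yp, ∀ s ∈ E, ⁅s, ⁅t, u⁆⁆ = ⁅s, y⁆}
      one_mem' := ⟨E.one_mem, 1, one_mem _, fun s _ => by rw [commutatorElement_one_left]⟩
      mul_mem' := fun {a b} ⟨ha, y, hy, hya⟩ ⟨hb, z, hz, hzb⟩ => ⟨E.mul_mem ha hb, y * z,
        mul_mem hy hz, fun s hs => by
          rw [P.exp_mul F hs ha hb, hya s hs, hzb s hs,
            cm_mul F.elV (F.cfg.norm hs) (top_le T V hy) (top_le T V hz)]⟩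
      inv_mem' := fun {a} ha => by rw [el_inv F.cfg.elE ha.1]; exact ha }
  have hBA : ∀ c ∈ E, c ∈ core X → c ∈ A := fun c hc hcR =>
    ⟨hc, ⁅c, u⁆, hUYp (P.core_fix F hcR), fun s _ => rfl⟩
  have hex : ∀ y : Yp, ∃ t : A, ∀ s ∈ E, ⁅s, (y : G)⁆ = ⁅s, ⁅(t : G), u⁆⁆ := fun y => by
    obtain ⟨t, ht, he⟩ := P.expand F (hYpV0 y.2)
    exact ⟨⟨t, ht, y, y.2, fun s hs => (he s hs).symm⟩, he⟩
  choose ty hty using hex
  have hAC : A ≤ centralizer (Yp : Set G) := by
    by_contra hne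
    have h1 := (F.good_top' T).strict A (fun t ht => F.ET ht.1)
      (fun a ha => by rw [F.cfg.elE.2 a ha.1]; exact one_mem _) hne
    refine h1.not_ge ?_
    refine Nat.card_le_card_of_injective
      (fun q : Yp ⧸ (centralizer (A : Set G)).subgroupOf Yp =>
        (QuotientGroup.mk (ty q.out) : A ⧸ (centralizer (Yp : Set G)).subgroupOf A)) ?_
    intro p q h
    rw [← Quotient.out_eq' p, ← Quotient.out_eq' q]
    refine QuotientGroup.eq.mpr (Subgroup.mem_centralizer_iff.mpr fun a ha => ?_)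
    have h2 : ((ty p.out : A) : G)⁻¹ * ((ty q.out : A) : G) ∈ centralizer (Yp : Set G) :=
      (QuotientGroup.eq (s := (centralizer (Yp : Set G)).subgroupOf A)).mp h
    obtain ⟨haE, y, hy, hya⟩ := ha
    set t := ((ty p.out : A) : G)
    set t' := ((ty q.out : A) : G)
    have ht : t ∈ E := (ty p.out).2.1
    have ht' : t' ∈ E := (ty q.out).2.1
    have h3' : ⁅t⁻¹ * t', y⁆ = 1 := commutatorElement_eq_one_iff_mul_comm.mpr
      (Subgroup.mem_centralizer_iff.mp h2 y hy).symm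
    rw [el_inv F.cfg.elE ht, P.exp_mul' F ht ht' (hYpV0 hy)] at h3'
    have h4 : ⁅a, ((p.out : Yp) : G)⁆ * ⁅a, ((q.out : Yp) : G)⁆ = 1 := by
      rw [hty _ a haE, hty _ a haE, P.exp_swap F haE ht, P.exp_swap F haE ht', hya t ht, hya t' ht']
      exact h3'
    show a * (((p.out : Yp) : G)⁻¹ * ((q.out : Yp) : G)) =
      ((p.out : Yp) : G)⁻¹ * ((q.out : Yp) : G) * a
    rw [el_inv F.elV (top_le T V p.out.2)]
    refine commutatorElement_eq_one_iff_mul_comm.mp ?_
    rwa [cm_mul F.elV (F.cfg.norm haE) (top_le T V p.out.2) (top_le T V q.out.2)]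
  have h5 := P.iso F (K := ⊥) bot_le fun c hc hcR c' hc' hc'R => Subgroup.mem_bot.mpr
    (commutatorElement_eq_one_iff_mul_comm.mpr
      (Subgroup.mem_centralizer_iff.mp (hAC (hBA c' hc' hc'R)) _
        (hUYp (P.core_fix F hcR))).symm)
  obtain ⟨t, ht, x, hx, hne⟩ := F.cfg.moved
  exact hne (Subgroup.mem_bot.mp (h5 t ht x hx))

end Point

/-- The closure theorem. -/
theorem no_config : ∀ (n : ℕ) (X T V Y : Subgroup G), Nat.card X = n → NoThree X →
    Grp.IsSylowIn 2 T X → Cfsg.IsElementaryAbelian 2 V → V ≤ X → X ≤ normalizer (V : Set G) →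
    Y ≤ V → Good T Y → (V ≤ ⨆ x : X, MulAut.conj (x : G) • Y) → ∀ E ≤ T, ∀ V0,
    ¬ IsConfig E V V0 := by
  intro n
  induction n using Nat.strong_induction_on with
  | _ n ih =>
  intro X T V Y hn hnt hT hV hVX hXV hYV hY hspan E hET V0 hcfg
  have F : Frame X T V Y E V0 := ⟨hnt, hT, hV, hVX, hXV, hYV, hY, hspan, hET, hcfg,
    fun H D U Y' hlt h1 h2 h3 h4 h5 h6 h7 h8 => ih _ (hn ▸ hlt) H D U Y' rfl h1 h2 h3 h4 h5 h6 h7 h8⟩
  obtain ⟨U, u, k, P⟩ := F.exists_point
  exact P.contra F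

/-- The closure of a good subgroup is good. -/
theorem good_closure {X T V Y : Subgroup G} (hnt : NoThree X) (hT : Grp.IsSylowIn 2 T X)
    (hV : Cfsg.IsElementaryAbelian 2 V) (hVX : V ≤ X) (hXV : X ≤ normalizer (V : Set G))
    (hYV : Y ≤ V) (hY : Good T Y) (hspan : V ≤ ⨆ x : X, MulAut.conj (x : G) • Y) : Good T V :=
  ⟨hV, hT.1.trans hXV, Strict.join hnt hV hXV hYV hT hY.norm hY.strict hspan,
    no_config _ X T V Y rfl hnt hT hV hVX hXV hYV hY hspan⟩

end Cfsg.Agent.Fus.Stell
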