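import Cfsg.Agent.Lib.Fus.StellStrict
import Cfsg.Agent.Lib.Invol.NoOff.Local

/-!
Tools for the closure theorem: uniqueness over an invariant family, complements, conjugates.
-/

set_option autoImplicit false
set_option linter.unusedSectionVars false
set_option linter.style.haveILetI false

namespace Cfsg.Agent.Fus.Stell

open Subgroup Invol.NoOff Cfsg.Agent.Block.SFour
open scoped Pointwise commutatorElement

universe u

variable {G : Type u} [Group G] [Finite G]

/-- `le_of_mem_le` for a family invariant under `M` only. -/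
theorem le_of_mem_le' {P M T : Subgroup G} (hMP : M ≤ P) (hTM : T ≤ M)
    (hT : Grp.IsSylowIn 2 T P) (mem : Subgroup G → Prop)
    (hconj : ∀ g ∈ M, ∀ A, mem A → mem (MulAut.conj g • A)) (h2 : ∀ A, mem A → IsPGroup 2 A)
    (hnn : ∀ D ≤ T, (∃ A, mem A ∧ A ≤ D) → ¬ P ≤ normalizer (D : Set G))
    (hbase : ∀ D ≤ T, (∃ A, mem A ∧ A ≤ D) → ∀ H < P, Grp.IsSylowIn 2 D H →
      (∀ D', D < D' → D' ≤ T → ∀ H' < P, D' ≤ H' → H' ≤ M) → H ≤ M)
    {A : Subgroup G} (hA : mem A) (hAM : A ≤ M) {H : Subgroup G} (hH : H < P) (hAH : A ≤ H) :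
    H ≤ M := by
  haveI : Fact (Nat.Prime 2) := ⟨Nat.prime_two⟩
  have key : ∀ (n : ℕ) (D : Subgroup G), Nat.card T - Nat.card D = n → D ≤ T →
      (∃ A, mem A ∧ A ≤ D) → ∀ H < P, D ≤ H → H ≤ M := by
    intro n
    induction n using Nat.strong_induction_on with
    | _ n ih =>
    intro D hn hDT hm H hH hDH
    have hDp : IsPGroup 2 D := hT.2.1.to_le hDT
    have hup : ∀ D', D < D' → D' ≤ T → ∀ H' < P, D' ≤ H' → H' ≤ M := fun D' hlt hD'T H' hH' hD'H' => by
      obtain ⟨A, hA, hAD⟩ := hm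
      refine ih _ ?_ D' rfl hD'T ⟨A, hA, hAD.trans hlt.le⟩ H' hH' hD'H'
      have h1 : Nat.card D < Nat.card D' := by
        by_contra hge
        exact hlt.ne (Subgroup.eq_of_le_of_card_ge hlt.le (not_lt.mp hge))
      have h2 := Subgroup.card_le_of_le hD'T
      omega
    obtain ⟨R, hDR, hR⟩ := exists_sylowIn_ge hDH hDp
    rcases hDR.eq_or_lt with rfl | hlt
    · exact hbase D hDT hm H hH hR hup
    set R1 := R ⊓ normalizer (D : Set G)
    have hR1 : D < R1 := lt_inf_norm hR.2.1 hlt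
    set N1 := P ⊓ normalizer (D : Set G)
    have hN1 : N1 < P := lt_of_le_of_ne inf_le_left fun e => hnn D hDT hm (e ▸ inf_le_right)
    have hR1N : R1 ≤ N1 := inf_le_inf_right _ (hR.1.trans hH.le)
    rcases hDT.eq_or_lt with rfl | hDlt
    · obtain ⟨m, hm', hle⟩ := conj_into hT (hR1N.trans inf_le_left) (hR.2.1.to_le inf_le_left)
      have hc := Subgroup.card_le_of_le hle
      rw [card_cj] at hc
      exact absurd (Subgroup.eq_of_le_of_card_ge hR1.le hc) hR1.ne
    have hT1 : D < T ⊓ normalizer (D : Set G) := lt_inf_norm hT.2.1 hDlt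
    have hN1M : N1 ≤ M := hup _ hT1 inf_le_left N1 hN1
      (le_inf (inf_le_left.trans hT.1) inf_le_right)
    obtain ⟨m, hmM, hle⟩ := conj_into (sylowIn_of_between hT hTM hMP) (hR1N.trans hN1M)
      (hR.2.1.to_le inf_le_left)
    have hcard : Nat.card D < Nat.card ↥(MulAut.conj m • R1) := by
      rw [card_cj]
      by_contra hge
      exact hR1.ne (Subgroup.eq_of_le_of_card_ge hR1.le (not_lt.mp hge))
    obtain ⟨A, hA, hAD⟩ := hm
    have h3 : MulAut.conj m • H ≤ M := by
      refine ih _ ?_ _ rfl hle ⟨_, hconj m hmM A hA,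
        Subgroup.pointwise_smul_le_pointwise_smul_iff.mpr (hAD.trans hR1.le)⟩ _
        (cj_lt_of_mem (hMP hmM) hH)
        (Subgroup.pointwise_smul_le_pointwise_smul_iff.mpr (inf_le_left.trans hR.1))
      have h4 := Subgroup.card_le_of_le hle
      omega
    exact (cj_le_iff hmM).mp h3
  obtain ⟨m, hm, hle⟩ := conj_into (sylowIn_of_between hT hTM hMP) hAM (h2 A hA)
  exact (cj_le_iff hm).mp (key _ _ rfl hle ⟨_, hconj m hm A hA, le_rfl⟩ _
    (cj_lt_of_mem (hMP hm) hH) (Subgroup.pointwise_smul_le_pointwise_smul_iff.mpr hAH))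

/-- An elementary abelian subgroup has complements. -/
theorem exists_complement {E F : Subgroup G} (hE : Cfsg.IsElementaryAbelian 2 E) :
    ∃ E1 ≤ E, (∀ x ∈ E1, x ∈ F → x = 1) ∧ (∀ x ∈ E, ∃ a ∈ E1, ∃ b ∈ F, x = a * b) ∧
      Nat.card E1 = F.relIndex E := by
  obtain ⟨E1, ⟨hle, hmeet⟩, hmax⟩ := Set.exists_max_image
    {K : Subgroup G | K ≤ E ∧ ∀ x ∈ K, x ∈ F → x = 1} (fun K => Nat.card K) (Set.toFinite _)
    ⟨⊥, bot_le, fun x hx _ => Subgroup.mem_bot.mp hx⟩
  have hcov : ∀ x ∈ E, ∃ a ∈ E1, ∃ b ∈ F, x = a * b := by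
    intro x hx
    by_contra hcon
    push Not at hcon
    let K : Subgroup G :=
      { carrier := {y | ∃ e ∈ E1, y = e ∨ y = e * x}
        one_mem' := ⟨1, one_mem _, Or.inl rfl⟩
        mul_mem' := by
          rintro a b ⟨e, he, ha⟩ ⟨e', he', hb⟩
          refine ⟨e * e', mul_mem he he', ?_⟩
          rcases ha with rfl | rfl <;> rcases hb with rfl | rfl
          · exact Or.inl rfl
          · exact Or.inr (by rw [mul_assoc])
          · refine Or.inr ?_
            rw [mul_assoc, el_comm hE hx (hle he'), mul_assoc]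
          · refine Or.inl ?_
            rw [mul_assoc, ← mul_assoc x, el_comm hE hx (hle he'), mul_assoc, el_self hE hx, mul_one]
        inv_mem' := by
          rintro a ⟨e, he, ha⟩
          refine ⟨e, he, ?_⟩
          rcases ha with rfl | rfl
          · exact Or.inl (el_inv hE (hle he))
          · exact Or.inr (el_inv hE (E.mul_mem (hle he) hx)) }
    have hKE : K ≤ E := by
      rintro y ⟨e, he, rfl | rfl⟩
      · exact hle he
      · exact E.mul_mem (hle he) hx
    have hK : ∀ y ∈ K, y ∈ F → y = 1 := by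
      rintro y ⟨e, he, rfl | rfl⟩ hyF
      · exact hmeet _ he hyF
      · refine absurd ?_ (hcon e he (e * x) hyF)
        rw [← mul_assoc, el_self hE (hle he), one_mul]
    have h1 := Subgroup.eq_of_le_of_card_ge (fun e he => ⟨e, he, Or.inl rfl⟩ : E1 ≤ K)
      (hmax K ⟨hKE, hK⟩)
    have hxK : x ∈ K := ⟨1, one_mem _, Or.inr (one_mul x).symm⟩
    rw [← h1] at hxK
    exact hcon x hxK 1 F.one_mem (mul_one x).symm
  refine ⟨E1, hle, hmeet, hcov, ?_⟩
  let f : E1 → E ⧸ F.subgroupOf E := fun a => QuotientGroup.mk ⟨(a : G), hle a.2⟩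
  refine Nat.card_eq_of_bijective f ⟨fun a b h => ?_, fun q => ?_⟩
  · have h1 : ((a : G))⁻¹ * (b : G) ∈ F := (QuotientGroup.eq (s := F.subgroupOf E)).mp h
    exact Subtype.ext (inv_mul_eq_one.mp (hmeet _ (mul_mem (inv_mem a.2) b.2) h1))
  · obtain ⟨⟨x, hx⟩, rfl⟩ := QuotientGroup.mk_surjective q
    obtain ⟨a, ha, b, hb, rfl⟩ := hcov x hx
    refine ⟨⟨a, ha⟩, QuotientGroup.eq.mpr ?_⟩
    show a⁻¹ * (a * b) ∈ F
    rwa [inv_mul_cancel_left]

/-- The join of the conjugates under `X` is normalised by `X`. -/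
theorem le_normalizer_orbit (X Y : Subgroup G) :
    X ≤ normalizer ((⨆ x : X, MulAut.conj (x : G) • Y : Subgroup G) : Set G) := by
  intro g hg
  rw [Grp.mem_normalizer_iff_smul]
  refine Subgroup.eq_of_le_of_card_ge ?_ (card_cj g _).ge
  rw [← Grp.map_conj_eq_smul, Subgroup.map_iSup]
  refine iSup_le fun x => ?_
  rw [Grp.map_conj_eq_smul, smul_smul, ← map_mul]
  exact le_iSup_of_le (⟨g * x, X.mul_mem hg x.2⟩ : X) le_rfl

theorem le_orbit (X Y : Subgroup G) : Y ≤ ⨆ x : X, MulAut.conj (x : G) • Y := by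
  refine le_trans ?_ (le_iSup (fun y : X => MulAut.conj (y : G) • Y) 1)
  rw [show ((1 : X) : G) = 1 from rfl, map_one, one_smul]

theorem IsConfig.smul {E P V0 : Subgroup G} (h : IsConfig E P V0) (g : G) :
    IsConfig (MulAut.conj g • E) (MulAut.conj g • P) (MulAut.conj g • V0) := by
  simp only [← Grp.map_conj_eq_smul]
  exact (isConfig_map (f := (MulAut.conj g).toMonoidHom) (MulAut.conj g).injective).mpr h

theorem Good.smul {D P : Subgroup G} (h : Good D P) (g : G) :
    Good (MulAut.conj g • D) (MulAut.conj g • P) := by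
  simp only [← Grp.map_conj_eq_smul]
  exact (good_map (f := (MulAut.conj g).toMonoidHom) (MulAut.conj g).injective).mpr h

/-- A point outside an invariant subgroup fixed modulo it by a 2-group. -/
theorem exists_fixed_outside {T Z W : Subgroup G} (hT : IsPGroup 2 T) (hWT : W ≤ T) (hZW : Z ≤ W)
    (hne : Z ≠ W) (hZn : T ≤ normalizer (Z : Set G)) (hWn : T ≤ normalizer (W : Set G)) :
    ∃ z ∈ W, z ∉ Z ∧ ∀ t ∈ T, ⁅t, z⁆ ∈ Z := by
  obtain ⟨N, ⟨hZN, hNW, hNn⟩, hmin⟩ := Set.exists_min_image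
    {N : Subgroup G | Z < N ∧ N ≤ W ∧ T ≤ normalizer (N : Set G)} (fun N => Nat.card N)
    (Set.toFinite _) ⟨W, lt_of_le_of_ne hZW hne, le_rfl, hWn⟩
  set N' := Z ⊔ ⁅N, T⁆ with hN'
  have hN'le : N' ≤ N := sup_le hZN.le (Subgroup.commutator_le.mpr fun n hn t ht => by
    rw [commutatorElement_def, mul_assoc, mul_assoc]
    refine N.mul_mem hn ?_
    rw [← mul_assoc]
    exact conj_mem (hNn ht) (N.inv_mem hn))
  have hN'n : T ≤ normalizer (N' : Set G) := fun t ht => by
    rw [Grp.mem_normalizer_iff_smul, hN', Subgroup.smul_sup, Grp.mem_normalizer_iff_smul.mp (hZn ht)]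
    congr 1
    rw [← Grp.map_conj_eq_smul, Subgroup.map_commutator, Grp.map_conj_eq_smul,
      Grp.map_conj_eq_smul, Grp.mem_normalizer_iff_smul.mp (hNn ht),
      Subgroup.conj_smul_eq_self_of_mem ht]
  have heq : N' = Z := by
    by_contra h
    have hlt : Z < N' := lt_of_le_of_ne le_sup_left (Ne.symm h)
    have h1 := Subgroup.eq_of_le_of_card_ge hN'le (hmin N' ⟨hlt, hN'le.trans hNW, hN'n⟩)
    exact hZN.not_ge (Block.SFour.le_of_le_sup_commutator hT (hZW.trans hWT) hZn (hNW.trans hWT) h1.ge)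
  obtain ⟨z, hz, hzZ⟩ := SetLike.exists_of_lt hZN
  refine ⟨z, hNW hz, hzZ, fun t ht => ?_⟩
  have h1 : ⁅z, t⁆ ∈ N' :=
    le_sup_right (a := Z) (Subgroup.commutator_mem_commutator hz ht)
  rw [heq] at h1
  rw [← commutatorElement_inv]
  exact Z.inv_mem h1

/-- Conjugates of a centraliser index. -/
theorem relIndex_smul (g : G) (A B : Subgroup G) :
    (MulAut.conj g • A).relIndex (MulAut.conj g • B) = A.relIndex B :=
  Subgroup.relIndex_pointwise_smul _ _ _

end Cfsg.Agent.Fus.Stell
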