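import Cfsg.Agent.Lib.Invol.NoOff.Basic

/-!
A quadratic map from a space of more than twice the dimension of the target has an even number
of zeros.
-/

set_option autoImplicit false
set_option linter.unusedSectionVars false
set_option linter.style.haveILetI false

namespace Cfsg.Agent.Fus.Stell

universe u v

variable {A : Type u} [AddCommGroup A] [Module (ZMod 2) A]

/-- Functions of degree at most `n`. -/
def Deg : ℕ → (A → ZMod 2) → Prop
  | 0, f => ∀ x y, f x = f y
  | n + 1, f => ∀ a, Deg n fun x => f (x + a) + f x

theorem Deg.succ : ∀ {n : ℕ} {f : A → ZMod 2}, Deg n f → Deg (n + 1) f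
  | 0, f, h => fun a x y => by dsimp only; rw [h (x + a) (y + a), h x y]
  | n + 1, f, h => fun a => Deg.succ (h a)

theorem Deg.mono {m n : ℕ} {f : A → ZMod 2} (h : Deg m f) (hmn : m ≤ n) : Deg n f := by
  induction hmn with
  | refl => exact h
  | step _ ih => exact ih.succ

theorem Deg.const : ∀ (n : ℕ) (c : ZMod 2), Deg n fun _ : A => c
  | 0, _ => fun _ _ => rfl
  | n + 1, c => fun _ => by simpa using Deg.const n (c + c)

theorem Deg.shift : ∀ {n : ℕ} {f : A → ZMod 2}, Deg n f → ∀ a, Deg n fun x => f (x + a)
  | 0, _, h, a => fun x y => h (x + a) (y + a)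
  | n + 1, f, h, a => fun b => by
    have h1 := Deg.shift (h b) a
    simpa [add_right_comm] using h1

theorem Deg.add : ∀ {n : ℕ} {f g : A → ZMod 2}, Deg n f → Deg n g → Deg n fun x => f x + g x
  | 0, _, _, hf, hg => fun x y => by dsimp only; rw [hf x y, hg x y]
  | n + 1, f, g, hf, hg => fun a => by
    have h1 := Deg.add (hf a) (hg a)
    simpa [add_add_add_comm] using h1

theorem Deg.mul : ∀ {k m n : ℕ}, m + n = k → ∀ {f g : A → ZMod 2}, Deg m f → Deg n g →
    Deg k fun x => f x * g x := by
  intro k
  induction k with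
  | zero =>
    intro m n h f g hf hg
    obtain ⟨rfl, rfl⟩ : m = 0 ∧ n = 0 := by omega
    exact fun x y => by dsimp only; rw [hf x y, hg x y]
  | succ k ih =>
    intro m n h f g hf hg a
    have e : (fun x => f (x + a) * g (x + a) + f x * g x) =
        fun x => (f (x + a) + f x) * g (x + a) + f x * (g (x + a) + g x) := by
      funext x
      have h2 : ∀ p q r s : ZMod 2, p * q + r * s = (p + r) * q + r * (q + s) := by decide
      exact h2 _ _ _ _
    rw [e]
    refine Deg.add ?_ ?_
    · rcases m with _ | m
      · have h0 : ∀ x, f (x + a) + f x = 0 := fun x => by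
          rw [hf (x + a) x]; exact CharTwo.add_self_eq_zero _
        simpa [h0] using Deg.const (A := A) k 0
      · exact ih (by omega) (hf a) (hg.shift a)
    · rcases n with _ | n
      · have h0 : ∀ x, g (x + a) + g x = 0 := fun x => by
          rw [hg (x + a) x]; exact CharTwo.add_self_eq_zero _
        simpa [h0] using Deg.const (A := A) k 0
      · exact ih (by omega) hf (hg a)

theorem Deg.prod {ι : Type*} (s : Finset ι) {d : ℕ} {f : ι → A → ZMod 2}
    (h : ∀ i ∈ s, Deg d (f i)) : Deg (s.card * d) fun x => ∏ i ∈ s, f i x := by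
  classical
  induction s using Finset.induction_on with
  | empty => simpa using Deg.const (A := A) 0 1
  | insert i s hi ih =>
    simp only [Finset.prod_insert hi, Finset.card_insert_of_notMem hi]
    exact Deg.mul (by ring) (h i (Finset.mem_insert_self _ _))
      (ih fun j hj => h j (Finset.mem_insert_of_mem hj))

variable [Finite A]

/-- The sum over a subspace of more than `2 ^ n` points vanishes. -/
theorem Deg.sum_eq_zero : ∀ {n : ℕ} {f : A → ZMod 2}, Deg n f → ∀ B : Submodule (ZMod 2) A,
    2 ^ n < Nat.card B → ∀ [Fintype B], ∑ x : B, f x = 0 := by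
  classical
  intro n
  induction n with
  | zero =>
    intro f hf B hB _
    have h1 : ∀ x : B, f x = f 0 := fun x => hf _ _
    rw [Finset.sum_congr rfl fun x _ => h1 x, Finset.sum_const, Finset.card_univ, nsmul_eq_mul]
    obtain ⟨k, hk⟩ : ∃ k, Nat.card B = 2 ^ k := ⟨_, by
      rw [Module.natCard_eq_pow_finrank (K := ZMod 2) (V := B), Nat.card_zmod]⟩
    rw [← Nat.card_eq_fintype_card, hk]
    rcases k with _ | k
    · rw [hk] at hB; simp at hB
    · rw [pow_succ, Nat.cast_mul, show ((2 : ℕ) : ZMod 2) = 0 from rfl, mul_zero, zero_mul]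
  | succ n ih =>
    intro f hf B hB _
    have hnt : Nontrivial B := Finite.one_lt_card_iff_nontrivial.mp (lt_of_le_of_lt Nat.one_le_two_pow hB)
    obtain ⟨φ, hφ⟩ : ∃ φ : B →ₗ[ZMod 2] ZMod 2, φ ≠ 0 := by
      obtain ⟨v, hv⟩ := exists_ne (0 : B)
      by_contra hall
      push Not at hall
      exact hv ((Module.forall_dual_apply_eq_zero_iff (ZMod 2) v).mp fun φ => by rw [hall φ]; rfl)
    obtain ⟨a, ha⟩ : ∃ a, φ a = 1 := by
      obtain ⟨a, ha⟩ : ∃ a, φ a ≠ 0 := by
        by_contra h
        push Not at h
        exact hφ (LinearMap.ext h)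
      have h01 : ∀ z : ZMod 2, z ≠ 0 → z = 1 := by decide
      exact ⟨a, h01 _ ha⟩
    set B' := (LinearMap.ker φ).map B.subtype with hB'
    letI : Fintype B' := Fintype.ofFinite _
    have e : ∑ x : B, f x = ∑ y : B', (f ((y : A) + a) + f y) := by
      rw [← Finset.sum_filter_add_sum_filter_not Finset.univ (fun x : B => φ x = 0)
        (fun x : B => f x), Finset.sum_add_distrib, add_comm]
      congr 1
      · symm
        refine Finset.sum_bij (fun y _ => (⟨(y : A), Submodule.map_subtype_le _ _ y.2⟩ : B) + a)
          ?_ ?_ ?_ ?_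
        · intro y _
          obtain ⟨z, hz, hzy⟩ := y.2
          rw [Finset.mem_filter]
          refine ⟨Finset.mem_univ _, ?_⟩
          rw [show (⟨(y : A), Submodule.map_subtype_le _ _ y.2⟩ : B) = z from Subtype.ext hzy.symm,
            map_add, LinearMap.mem_ker.mp hz, zero_add, ha]
          exact one_ne_zero
        · intro y _ z _ h
          exact Subtype.ext (congrArg Subtype.val (add_right_cancel h) :)
        · intro x hx
          have h01 : ∀ z : ZMod 2, ¬ z = 0 → z + 1 = 0 := by decide
          have hk : φ (x + a) = 0 := by rw [map_add, ha]; exact h01 _ (Finset.mem_filter.mp hx).2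
          refine ⟨⟨((x + a : B) : A), x + a, hk, rfl⟩, Finset.mem_univ _, Subtype.ext ?_⟩
          show ((x : A) + a) + a = x
          rw [add_assoc, Invol.NoOff.add_self_zero, add_zero]
        · intro y _; rfl
      · symm
        refine Finset.sum_bij (fun y _ => (⟨(y : A), Submodule.map_subtype_le _ _ y.2⟩ : B))
          ?_ ?_ ?_ ?_
        · intro y _
          obtain ⟨z, hz, hzy⟩ := y.2
          rw [Finset.mem_filter]
          refine ⟨Finset.mem_univ _, ?_⟩
          rw [show (⟨(y : A), Submodule.map_subtype_le _ _ y.2⟩ : B) = z from Subtype.ext hzy.symm]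
          exact LinearMap.mem_ker.mp hz
        · intro y _ z _ h
          exact Subtype.ext (congrArg Subtype.val h :)
        · intro x hx
          exact ⟨⟨(x : A), x, (Finset.mem_filter.mp hx).2, rfl⟩, Finset.mem_univ _, rfl⟩
        · intro y _; rfl
    rw [e]
    refine ih (hf (a : A)) B' ?_
    have h1 := LinearMap.finrank_range_add_finrank_ker φ
    have h2 : Module.finrank (ZMod 2) (LinearMap.range φ) = 1 := by
      rw [LinearMap.range_eq_top.mpr fun z => ⟨z • a, by rw [map_smul, ha, smul_eq_mul, mul_one]⟩,
        finrank_top, Module.finrank_self]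
    have h3 : Nat.card B = 2 * Nat.card B' := by
      rw [hB', ← Nat.card_congr (Submodule.equivMapOfInjective _ B.subtype_injective
        (LinearMap.ker φ)).toEquiv, Module.natCard_eq_pow_finrank (K := ZMod 2) (V := B),
        Module.natCard_eq_pow_finrank (K := ZMod 2) (V := LinearMap.ker φ), Nat.card_zmod,
        ← h1, h2, pow_add, pow_one]
    rw [h3, pow_succ, mul_comm] at hB
    exact Nat.lt_of_mul_lt_mul_left hB

/-- A quadratic map into a space of less than half the dimension has an even number of zeros. -/
theorem even_card_zeros {W : Type v} [AddCommGroup W] [Module (ZMod 2) W] [Finite W] (φ : A → W)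
    (hφ : ∀ a b x y, φ (x + a + b) + φ (x + a) + φ (x + b) + φ x =
      φ (y + a + b) + φ (y + a) + φ (y + b) + φ y)
    (hcard : Nat.card W ^ 2 < Nat.card A) : Even (Nat.card {x : A // φ x = 0}) := by
  classical
  letI : Fintype A := Fintype.ofFinite _
  set e := Module.finrank (ZMod 2) W with he
  set bas := Module.finBasis (ZMod 2) W
  let g : Fin e → A → ZMod 2 := fun i x => 1 + bas.repr (φ x) i
  have hg : ∀ i ∈ (Finset.univ : Finset (Fin e)), Deg 2 (g i) := by
    intro i _ a b x y
    show g i (x + b + a) + g i (x + b) + (g i (x + a) + g i x) =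
      g i (y + b + a) + g i (y + b) + (g i (y + a) + g i y)
    have key : ∀ x, g i (x + b + a) + g i (x + b) + (g i (x + a) + g i x) =
        bas.repr (φ (x + b + a) + φ (x + b) + φ (x + a) + φ x) i := fun x => by
      simp only [g, map_add, Finsupp.add_apply]
      generalize bas.repr (φ (x + b + a)) i = p
      generalize bas.repr (φ (x + b)) i = q
      generalize bas.repr (φ (x + a)) i = r
      generalize bas.repr (φ x) i = s
      revert p q r s
      decide
    rw [key, key, hφ b a x y]
  have hd : Deg (e * 2) fun x => ∏ i, g i x := by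
    have := Deg.prod Finset.univ hg
    rwa [Finset.card_univ, Fintype.card_fin] at this
  have hlt : 2 ^ (e * 2) < Nat.card (⊤ : Submodule (ZMod 2) A) := by
    rw [Invol.NoOff.card_top', pow_mul]
    refine lt_of_le_of_lt (le_of_eq ?_) hcard
    rw [Module.natCard_eq_pow_finrank (K := ZMod 2) (V := W), Nat.card_zmod]
  letI : Fintype (⊤ : Submodule (ZMod 2) A) := Fintype.ofFinite _
  have h0 := hd.sum_eq_zero ⊤ hlt
  have hind : ∀ x : A, (∏ i, g i x) = if φ x = 0 then 1 else 0 := by
    intro x
    split_ifs with h
    · simp [g, h]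
    · obtain ⟨i, hi⟩ : ∃ i, bas.repr (φ x) i ≠ 0 := by
        by_contra hall
        push Not at hall
        exact h (bas.repr.map_eq_zero_iff.mp (Finsupp.ext hall))
      refine Finset.prod_eq_zero (Finset.mem_univ i) ?_
      show 1 + bas.repr (φ x) i = 0
      revert hi
      generalize bas.repr (φ x) i = p
      revert p
      decide
  rw [← Fintype.sum_equiv Submodule.topEquiv.toEquiv.symm (fun x : A => ∏ i, g i x)
    (fun x : (⊤ : Submodule (ZMod 2) A) => ∏ i, g i (x : A)) fun _ => rfl] at h0
  rw [Finset.sum_congr rfl fun x _ => hind x, Finset.sum_boole] at h0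
  rw [Nat.card_eq_fintype_card, Fintype.card_subtype, even_iff_two_dvd]
  exact (ZMod.natCast_eq_zero_iff_even.mp h0).two_dvd

end Cfsg.Agent.Fus.Stell
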