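import Cfsg.Agent.Lib.Fus.StellClosureTools

/-!
The frame of a smallest configuration over the closure of a good subgroup: one maximal subgroup
over the conjugates of the acting group, and root uniqueness.
-/

set_option autoImplicit false
set_option linter.unusedSectionVars false
set_option linter.style.haveILetI false

namespace Cfsg.Agent.Fus.Stell

open Subgroup Invol.NoOff Cfsg.Agent.Block.SFour
open scoped Pointwise commutatorElement

universe u

variable {G : Type u} [Group G] [Finite G]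

/-- `O₂(X)` in the ambient group. -/
def core (X : Subgroup G) : Subgroup G := (Cfsg.pCore 2 X).map X.subtype

theorem core_le (X : Subgroup G) : core X ≤ X := Subgroup.map_subtype_le _

theorem core_isPGroup (X : Subgroup G) : IsPGroup 2 (core X) := Grp.pCore_isPGroup.map _

theorem le_normalizer_core (X : Subgroup G) : X ≤ normalizer (core X : Set G) := by
  haveI : (Cfsg.pCore 2 X).Normal := Grp.pCore_isNormal
  refine (Subgroup.normal_subgroupOf_iff_le_normalizer (core_le X)).mp ?_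
  rw [core, Subgroup.subgroupOf, Subgroup.comap_map_eq_self_of_injective X.subtype_injective]
  infer_instance

theorem le_core {X D : Subgroup G} (hDX : D ≤ X) (hD : IsPGroup 2 D)
    (hn : X ≤ normalizer (D : Set G)) : D ≤ core X := by
  haveI : (D.subgroupOf X).Normal := (Subgroup.normal_subgroupOf_iff_le_normalizer hDX).mpr hn
  rw [← Subgroup.map_subgroupOf_eq_of_le hDX]
  exact Subgroup.map_mono (Grp.le_pCore inferInstance hD.comap_subtype)

theorem core_le_sylowIn {X T : Subgroup G} (hT : Grp.IsSylowIn 2 T X) : core X ≤ T := by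
  obtain ⟨k, hk, hle⟩ := conj_into hT (core_le X) (core_isPGroup X)
  rwa [Grp.mem_normalizer_iff_smul.mp (le_normalizer_core X hk)] at hle

/-- A smallest configuration over the closure `V` of the good subgroup `Y`. -/
structure Frame (X T V Y E V0 : Subgroup G) : Prop where
  nt : NoThree X
  syl : Grp.IsSylowIn 2 T X
  elV : Cfsg.IsElementaryAbelian 2 V
  VX : V ≤ X
  XV : X ≤ normalizer (V : Set G)
  YV : Y ≤ V
  good : Good T Y
  span : V ≤ ⨆ x : X, MulAut.conj (x : G) • Y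
  ET : E ≤ T
  cfg : IsConfig E V V0
  ih : ∀ (H D U Y' : Subgroup G), Nat.card H < Nat.card X → NoThree H → Grp.IsSylowIn 2 D H →
    Cfsg.IsElementaryAbelian 2 U → U ≤ H → H ≤ normalizer (U : Set G) → Y' ≤ U → Good D Y' →
    (U ≤ ⨆ x : H, MulAut.conj (x : G) • Y') → ∀ E' ≤ D, ∀ W0, ¬ IsConfig E' U W0

/-- The normaliser of the largest good subgroup of `T` in `V`. -/
def mSub (X T V : Subgroup G) : Subgroup G := X ⊓ normalizer (top T V : Set G)

namespace Frame

variable {X T V Y E V0 : Subgroup G} (F : Frame X T V Y E V0)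

include F

theorem smul_V {k : G} (hk : k ∈ X) : MulAut.conj k • V = V :=
  Grp.mem_normalizer_iff_smul.mp (F.XV hk)

theorem TX : T ≤ X := F.syl.1

theorem VR : V ≤ core X := le_core F.VX (el_isPGroup F.elV) F.XV

theorem RT : core X ≤ T := core_le_sylowIn F.syl

theorem VT : V ≤ T := F.VR.trans F.RT

theorem cfg_smul {k : G} (hk : k ∈ X) :
    IsConfig (MulAut.conj k • E) V (MulAut.conj k • V0) := by
  have := F.cfg.smul k
  rwa [F.smul_V hk] at this

/-- A good subgroup of `T` lies in the `V0` of every conjugate inside `T`. -/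
theorem good_le {k : G} (hk : k ∈ X) (hkT : MulAut.conj k • E ≤ T) {P : Subgroup G} (hPV : P ≤ V)
    (hP : Good T P) : P ≤ MulAut.conj k • V0 := by
  by_contra h
  exact hP.free _ hkT _ ((F.cfg_smul hk).restrict hPV (hkT.trans hP.norm) h)

theorem not_V_le {k : G} (_hk : k ∈ X) : ¬ V ≤ MulAut.conj k • V0 := fun h => by
  have h1 := Subgroup.card_le_of_le h
  rw [card_cj] at h1
  exact F.cfg.ne (Subgroup.eq_of_le_of_card_ge F.cfg.le h1)

theorem not_orbit_le {k : G} (hk : k ∈ X) {Z : Subgroup G}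
    (hYZ : ∀ x : X, MulAut.conj (x : G) • Y ≤ Z) : ¬ Z ≤ MulAut.conj k • V0 := fun h =>
  F.not_V_le hk (F.span.trans (iSup_le fun x => (hYZ x).trans h))

/-- No member lies in a normal subgroup of `T`. -/
theorem nn {D : Subgroup G} (hDT : D ≤ T)
    (hm : ∃ A, (∃ k ∈ X, A = MulAut.conj k • (E ⊔ V)) ∧ A ≤ D) :
    ¬ X ≤ normalizer (D : Set G) := by
  rintro hn
  obtain ⟨_, ⟨k, hk, rfl⟩, hAD⟩ := hm
  have hER : MulAut.conj k • E ≤ core X :=
    ((Subgroup.pointwise_smul_le_pointwise_smul_iff.mpr le_sup_left).trans hAD).trans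
      (le_core (hDT.trans F.TX) (F.syl.2.1.to_le hDT) hn)
  refine F.not_orbit_le hk (Z := MulAut.conj k • V0) (fun x => ?_) le_rfl
  have hxk : MulAut.conj ((x : G)⁻¹ * k) • E ≤ T := by
    rw [map_mul, mul_smul]
    refine (Subgroup.pointwise_smul_le_pointwise_smul_iff.mpr hER).trans ?_
    rw [Grp.mem_normalizer_iff_smul.mp (le_normalizer_core X (X.inv_mem x.2))]
    exact F.RT
  have h1 := F.good_le (X.mul_mem (X.inv_mem x.2) hk) hxk F.YV F.good
  rw [map_mul, mul_smul] at h1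
  have h2 : MulAut.conj (x : G) • Y ≤
      MulAut.conj (x : G) • MulAut.conj (x : G)⁻¹ • MulAut.conj k • V0 :=
    Subgroup.pointwise_smul_le_pointwise_smul_iff.mpr h1
  rwa [smul_smul _ (MulAut.conj (x : G)⁻¹), ← map_mul, mul_inv_cancel, map_one, one_smul] at h2

theorem good_top' (D : Subgroup G) : Good D (top D V) := good_top_of_el F.elV

theorem Y_le_top {D : Subgroup G} (hDT : D ≤ T) : Y ≤ top D V := le_top' F.YV (F.good.mono hDT)

theorem top_ne {D : Subgroup G} (_hDT : D ≤ T)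
    (hm : ∃ A, (∃ k ∈ X, A = MulAut.conj k • (E ⊔ V)) ∧ A ≤ D) : top D V ≠ V := fun e => by
  obtain ⟨_, ⟨k, hk, rfl⟩, hAD⟩ := hm
  exact (e ▸ F.good_top' D).free _
    ((Subgroup.pointwise_smul_le_pointwise_smul_iff.mpr le_sup_left).trans hAD) _ (F.cfg_smul hk)

theorem norm_top_lt {D : Subgroup G} (hDT : D ≤ T)
    (hm : ∃ A, (∃ k ∈ X, A = MulAut.conj k • (E ⊔ V)) ∧ A ≤ D) :
    X ⊓ normalizer (top D V : Set G) < X := by
  refine lt_of_le_of_ne inf_le_left fun e => F.top_ne hDT hm (le_antisymm (top_le _ _) ?_)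
  refine F.span.trans (iSup_le fun x => ?_)
  rw [← Grp.mem_normalizer_iff_smul.mp ((e ▸ inf_le_right : X ≤ normalizer (top D V : Set G)) x.2)]
  exact Subgroup.pointwise_smul_le_pointwise_smul_iff.mpr (F.Y_le_top hDT)

theorem member_T : ∃ A, (∃ k ∈ X, A = MulAut.conj k • (E ⊔ V)) ∧ A ≤ T :=
  ⟨E ⊔ V, ⟨1, X.one_mem, by rw [map_one, one_smul]⟩, sup_le F.ET F.VT⟩

theorem TM : T ≤ mSub X T V := le_inf F.TX (F.good_top' T).norm

theorem M_lt : mSub X T V < X := F.norm_top_lt le_rfl F.member_T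

theorem base {D : Subgroup G} (hDT : D ≤ T)
    (hm : ∃ A, (∃ k ∈ X, A = MulAut.conj k • (E ⊔ V)) ∧ A ≤ D) {H : Subgroup G} (hH : H < X)
    (hD : Grp.IsSylowIn 2 D H)
    (hup : ∀ D', D < D' → D' ≤ T → ∀ H' < X, D' ≤ H' → H' ≤ mSub X T V) : H ≤ mSub X T V := by
  obtain ⟨A, ⟨k, hk, hA⟩, hAD⟩ := id hm
  have hVD : V ≤ D := by
    rw [← F.smul_V hk]
    exact ((Subgroup.pointwise_smul_le_pointwise_smul_iff.mpr le_sup_right).trans (hA ▸ hAD))
  have hHV : H ≤ normalizer (V : Set G) := hH.le.trans F.XV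
  have hg := F.good_top' D
  set U := ⨆ x : H, MulAut.conj (x : G) • top D V with hU
  have hUV : U ≤ V := iSup_le fun x =>
    (Subgroup.pointwise_smul_le_pointwise_smul_iff.mpr (top_le D V)).trans
      (Grp.mem_normalizer_iff_smul.mp (hHV x.2)).le
  have hcard : Nat.card H < Nat.card X := by
    by_contra hge
    exact hH.ne (Subgroup.eq_of_le_of_card_ge hH.le (not_lt.mp hge))
  have hnt : NoThree H := (F.nt.subgroup (H.subgroupOf X)).map
    (Subgroup.subgroupOfEquivOfLe hH.le).toMonoidHom (Subgroup.subgroupOfEquivOfLe hH.le).surjective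
  have hle : top D V ≤ U := le_orbit H _
  have hgoodU : Good D U :=
    ⟨isEl_mono F.elV hUV, hD.1.trans (le_normalizer_orbit H _),
      Strict.join hnt (isEl_mono F.elV hUV) (le_normalizer_orbit H _) hle hD hg.norm hg.strict
        le_rfl,
      fun E' hE' W0 => F.ih H D U (top D V) hcard hnt hD (isEl_mono F.elV hUV)
        (hUV.trans (hVD.trans hD.1)) (le_normalizer_orbit H _) hle hg le_rfl E' hE' W0⟩
  have heq : U = top D V := le_antisymm (le_top' hUV hgoodU) hle
  have hHn : H ≤ normalizer (top D V : Set G) := heq ▸ le_normalizer_orbit H (top D V)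
  rcases hDT.eq_or_lt with rfl | hlt
  · exact le_inf hH.le hHn
  · refine (le_inf hH.le hHn).trans (hup _ (lt_inf_norm F.syl.2.1 hlt) inf_le_left _
      (F.norm_top_lt hDT hm) fun n hn => ⟨F.TX hn.1, normalizer_le_top hn.2 (F.XV (F.TX hn.1))⟩)

/-- A proper subgroup over a member inside `M` lies in `M`. -/
theorem le_M {k : G} (hk : k ∈ X) (hkM : MulAut.conj k • (E ⊔ V) ≤ mSub X T V) {H : Subgroup G}
    (hH : H < X) (hkH : MulAut.conj k • (E ⊔ V) ≤ H) : H ≤ mSub X T V := by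
  refine le_of_mem_le' inf_le_left F.TM F.syl (fun A => ∃ k ∈ X, A = MulAut.conj k • (E ⊔ V))
    ?_ ?_ (fun D hD hm => F.nn hD hm)
    (fun D hD hm H hH hDH hup => F.base hD hm hH hDH hup) ⟨k, hk, rfl⟩ hkM hH hkH
  · rintro g hg _ ⟨j, hj, rfl⟩
    exact ⟨g * j, X.mul_mem hg.1 hj, by rw [map_mul, mul_smul]⟩
  · rintro _ ⟨j, _, rfl⟩
    exact IsPGroup.of_equiv (F.syl.2.1.to_le (sup_le F.ET F.VT))
      (Subgroup.equivSMul (MulAut.conj j) (E ⊔ V))

theorem A0_le : E ⊔ V ≤ mSub X T V := (sup_le F.ET F.VT).trans F.TM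

/-- `M` is self normalising. -/
theorem mem_of_smul {k : G} (hk : k ∈ X) (h : MulAut.conj k • mSub X T V = mSub X T V) :
    k ∈ mSub X T V := by
  have hkN : k ∈ X ⊓ normalizer (mSub X T V : Set G) := ⟨hk, Grp.mem_normalizer_iff_smul.mpr h⟩
  rcases (inf_le_left : X ⊓ normalizer (mSub X T V : Set G) ≤ X).eq_or_lt with e | hlt
  · exfalso
    have hMn : X ≤ normalizer (mSub X T V : Set G) := e.ge.trans inf_le_right
    refine F.M_lt.not_ge (le_of_frattini inf_le_left hMn
      (sylowIn_of_between F.syl F.TM inf_le_left) le_rfl ?_)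
    exact fun n hn => ⟨hn.1, normalizer_le_top hn.2 (F.XV hn.1)⟩
  · refine F.le_M X.one_mem ?_ hlt ?_ hkN <;> rw [map_one, one_smul]
    · exact F.A0_le
    · exact F.A0_le.trans (le_inf inf_le_left Subgroup.le_normalizer)

/-- A member determines the conjugate of `M` over it. -/
theorem smul_M_eq {i j k : G} (hi : i ∈ X) (hj : j ∈ X) (hk : k ∈ X)
    (h1 : MulAut.conj k • (E ⊔ V) ≤ MulAut.conj i • mSub X T V)
    (h2 : MulAut.conj k • (E ⊔ V) ≤ MulAut.conj j • mSub X T V) :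
    MulAut.conj i • mSub X T V = MulAut.conj j • mSub X T V := by
  rw [Subgroup.subset_pointwise_smul_iff, ← map_inv, smul_smul, ← map_mul] at h2
  have h3 : MulAut.conj (j⁻¹ * k) • (E ⊔ V) ≤ MulAut.conj (j⁻¹ * i) • mSub X T V := by
    rw [map_mul, map_mul, mul_smul, mul_smul]
    exact Subgroup.pointwise_smul_le_pointwise_smul_iff.mpr h1
  have h4 := F.le_M (X.mul_mem (X.inv_mem hj) hk) h2
    (cj_lt_of_mem (X.mul_mem (X.inv_mem hj) hi) F.M_lt) h3
  have h5 := Subgroup.eq_of_le_of_card_ge h4 (card_cj _ _).ge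
  conv_rhs => rw [← h5]
  rw [smul_smul, ← map_mul, mul_inv_cancel_left]

theorem smul_M_X {k : G} (hk : k ∈ X) : MulAut.conj k • mSub X T V ≤ X :=
  (cj_le_iff hk).mpr inf_le_left

/-- Two different conjugates generate `X` together with `V`. -/
theorem generate {k : G} (hk : k ∈ X) (hkM : k ∉ mSub X T V) :
    X ≤ E ⊔ MulAut.conj k • E ⊔ V := by
  set H := E ⊔ MulAut.conj k • E ⊔ V
  have hHX : H ≤ X := sup_le (sup_le (F.ET.trans F.TX)
    ((cj_le_iff hk).mpr (F.ET.trans F.TX))) F.VX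
  rcases hHX.eq_or_lt with e | hlt
  · exact e.ge
  exfalso
  have hH : H ≤ mSub X T V := by
    refine F.le_M X.one_mem ?_ hlt ?_ <;> rw [map_one, one_smul]
    · exact F.A0_le
    · exact sup_le (le_sup_left.trans le_sup_left) le_sup_right
  have e := F.smul_M_eq hk X.one_mem hk (Subgroup.pointwise_smul_le_pointwise_smul_iff.mpr F.A0_le)
    (by
      rw [map_one, one_smul, Subgroup.smul_sup, F.smul_V hk]
      exact sup_le ((le_sup_right.trans le_sup_left).trans hH) (le_sup_right.trans hH))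
  rw [map_one, one_smul] at e
  exact hkM (F.mem_of_smul hk e)

set_option maxHeartbeats 1000000 in
/-- A root outside `O₂(X)` and inside `T` comes from `M`. -/
theorem root_mem {k : G} (hk : k ∈ X) {r : G} (hr : r ∈ MulAut.conj k • E) (hrR : r ∉ core X)
    (hrT : r ∈ T) : k ∈ mSub X T V := by
  haveI : Fact (Nat.Prime 2) := ⟨Nat.prime_two⟩
  haveI : (Cfsg.pCore 2 X).Normal := Grp.pCore_isNormal
  obtain ⟨S, hS⟩ := Grp.isSylowIn_iff.mp F.syl
  set r0 := k⁻¹ * r * k with hr0
  have hr0E : r0 ∈ E := mem_cj.mp hr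
  set f := QuotientGroup.mk' (Cfsg.pCore 2 X) with hf
  have hfs : Function.Surjective f := QuotientGroup.mk'_surjective _
  have hbot : Cfsg.pCore 2 (X ⧸ Cfsg.pCore 2 X) = ⊥ := by
    haveI : (Cfsg.pCore 2 (X ⧸ Cfsg.pCore 2 X)).Normal := Grp.pCore_isNormal
    have hker : IsPGroup 2 f.ker := by rw [QuotientGroup.ker_mk']; exact Grp.pCore_isPGroup
    rw [eq_bot_iff]
    intro q hq
    obtain ⟨g, rfl⟩ := hfs q
    exact (QuotientGroup.eq_one_iff g).mpr (Grp.le_pCore
      ((inferInstance : (Cfsg.pCore 2 (X ⧸ Cfsg.pCore 2 X)).Normal).comap f)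
      (Grp.pCore_isPGroup.comap_of_ker_isPGroup f hker) hq)
  have hnotR : ∀ g : X, (g : G) ∉ core X → f g ≠ 1 := fun g hg h =>
    hg ⟨g, (QuotientGroup.eq_one_iff g).mp h, rfl⟩
  have hctrl : Invol.FusCtrl 2 zjFamily.{u} (X ⧸ Cfsg.pCore 2 X) :=
    Invol.fusCtrl_of_local zjFamily_char ⟨_, Or.inl rfl⟩ (G := X ⧸ Cfsg.pCore 2 X)
      (fun Z _ _ hZ hC => fusCtrl_local hC (by
        obtain ⟨H, g, hg⟩ := hZ
        exact ((F.nt.quotient _).subgroup H).map g hg)) _ (Invol.IsSectionOf.refl _)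
  let S' := S.mapSurjective hfs
  have hmemS : ∀ g : X, (g : G) ∈ T → f g ∈ (S' : Subgroup _) := fun g hg => by
    rw [← hS] at hg
    obtain ⟨g', hg', e⟩ := hg
    rw [← (Subtype.ext e : g' = g)]
    exact ⟨g', hg', rfl⟩
  set rX : X := ⟨r, F.TX hrT⟩
  set r0X : X := ⟨r0, F.TX (F.ET hr0E)⟩
  set kX : X := ⟨k, hk⟩
  have hkr : kX * r0X * kX⁻¹ = rX := Subtype.ext (by
    show k * (k⁻¹ * r * k) * k⁻¹ = r
    group)
  have hrr : f kX * f r0X * (f kX)⁻¹ = f rX := by rw [← map_inv, ← map_mul, ← map_mul, hkr]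
  obtain ⟨c, hc, hce⟩ := hctrl S' {f r0X} (f kX)
    (Set.singleton_subset_iff.mpr (hmemS _ (F.ET hr0E)))
    (fun a ha => by
      rw [Set.mem_singleton_iff.mp ha, hrr]
      exact hmemS _ hrT)
  -- the steps lie over `M`
  set Mb := ((mSub X T V).subgroupOf X).map f
  have hS1 : (S' : Subgroup _) ≠ ⊥ := fun e => hnotR rX hrR (Subgroup.mem_bot.mp (e ▸ hmemS rX hrT))
  have hstep : ∀ W ∈ Invol.ind zjFamily.{u} (X ⧸ Cfsg.pCore 2 X),
      normalizer (W (S' : Subgroup _) : Set _) ≤ Mb := by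
    rintro _ ⟨W, hW, rfl⟩
    set U := Cfsg.inducedFunctor W (S' : Subgroup (X ⧸ Cfsg.pCore 2 X))
    set L := ((normalizer (U : Set (X ⧸ Cfsg.pCore 2 X))).comap f).map X.subtype with hL
    have hTL : T ≤ L := by
      rw [← hS]
      refine Subgroup.map_mono fun g hg => ?_
      exact Invol.normalizer_le_normalizer_inducedFunctor (zjFamily_char W hW) S'.isPGroup'
        (Subgroup.le_normalizer ⟨g, hg, rfl⟩)
    have hLM : L ≤ mSub X T V := by
      refine F.le_M X.one_mem ?_ (lt_of_le_of_ne (Subgroup.map_subtype_le _) fun e => ?_) ?_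
      · rw [map_one, one_smul]; exact F.A0_le
      swap
      · rw [map_one, one_smul]; exact (sup_le F.ET F.VT).trans hTL
      have htop : normalizer (U : Set (X ⧸ Cfsg.pCore 2 X)) = ⊤ := by
        rw [eq_top_iff]
        intro q _
        obtain ⟨g, rfl⟩ := hfs q
        have hgL : (g : G) ∈ L := e.ge g.2
        obtain ⟨g', hg', e'⟩ := hgL
        exact (Subtype.ext e' : g' = g) ▸ hg'
      refine Invol.inducedFunctor_ne_bot (zjFamily_char W hW) S'.isPGroup' hS1
        (le_bot_iff.mp (hbot ▸ Grp.le_pCore (Subgroup.normalizer_eq_top_iff.mp htop)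
          (S'.isPGroup'.to_le (Invol.inducedFunctor_le _ _))))
    intro q hq
    obtain ⟨g, rfl⟩ := hfs q
    exact ⟨g, hLM ⟨g, hq, rfl⟩, rfl⟩
  have hcMb : c ∈ Mb := by
    clear hce
    induction hc with
    | one => exact one_mem _
    | step _ hx _ ih =>
      obtain ⟨W, hW, hxN⟩ := hx
      exact Mb.mul_mem (hstep W hW hxN) ih
  obtain ⟨m, hm, rfl⟩ := hcMb
  -- the centraliser of the root
  set Cr := ((centralizer ({f r0X} : Set (X ⧸ Cfsg.pCore 2 X))).comap f).map X.subtype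
  have hCr : Cr ≤ mSub X T V := by
    refine F.le_M X.one_mem ?_ (lt_of_le_of_ne (Subgroup.map_subtype_le _) fun e => ?_) ?_
    · rw [map_one, one_smul]; exact F.A0_le
    swap
    · rw [map_one, one_smul]
      refine sup_le (fun t ht => ⟨⟨t, F.TX (F.ET ht)⟩, ?_, rfl⟩)
        (fun v hv => ⟨⟨v, F.VX hv⟩, ?_, rfl⟩) <;>
        rw [Subgroup.coe_comap, Set.mem_preimage, SetLike.mem_coe,
          Subgroup.mem_centralizer_singleton_iff]
      · rw [← map_mul, ← map_mul]
        exact congrArg f (Subtype.ext (el_comm F.cfg.elE ht hr0E))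
      · have h1 : f ⟨v, F.VX hv⟩ = 1 := by
          obtain ⟨g, hg, e⟩ := F.VR hv
          rw [← (Subtype.ext e : g = ⟨v, F.VX hv⟩)]
          exact (QuotientGroup.eq_one_iff g).mpr hg
        rw [h1, one_mul, mul_one]
    have hcen : f r0X ∈ center (X ⧸ Cfsg.pCore 2 X) := Subgroup.mem_center_iff.mpr fun q => by
      obtain ⟨g, rfl⟩ := hfs q
      obtain ⟨g', hg', e'⟩ := e.ge g.2
      rw [← (Subtype.ext e' : g' = g)]
      exact Subgroup.mem_centralizer_singleton_iff.mp hg'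
    refine hnotR r0X (fun h => hrR ?_) ?_
    · have h2 := conj_mem (le_normalizer_core X hk) (h : r0 ∈ core X)
      rwa [show k * (k⁻¹ * r * k) * k⁻¹ = r by group] at h2
    · rw [← Subgroup.mem_bot, ← hbot]
      refine Grp.le_pCore (N := zpowers (f r0X)) ⟨fun y hy g => ?_⟩ ?_ (mem_zpowers _)
      · have hy' := Subgroup.zpowers_le.mpr hcen hy
        rwa [Subgroup.mem_center_iff.mp hy' g, mul_inv_cancel_right]
      · refine (el_isPGroup ?_ : IsPGroup 2 (zpowers r0X)).map f |>.to_le ?_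
        · refine ⟨⟨⟨fun a b => Subtype.ext ?_⟩⟩, fun a ha => ?_⟩
          · obtain ⟨i, hi⟩ := Subgroup.mem_zpowers_iff.mp a.2
            obtain ⟨j, hj⟩ := Subgroup.mem_zpowers_iff.mp b.2
            show (a : X) * b = b * a
            rw [← hi, ← hj]; exact zpow_mul_comm r0X i j
          · obtain ⟨i, rfl⟩ := Subgroup.mem_zpowers_iff.mp ha
            have h2 : r0X ^ 2 = 1 := Subtype.ext (F.cfg.elE.2 r0 hr0E)
            rw [← zpow_natCast, ← zpow_mul, mul_comm, zpow_mul, zpow_natCast, h2, one_zpow]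
        · rw [MonoidHom.map_zpowers]
  have hw : kX⁻¹ * m ∈ ((centralizer ({f r0X} : Set (X ⧸ Cfsg.pCore 2 X))).comap f) := by
    rw [Subgroup.mem_comap, Subgroup.mem_centralizer_singleton_iff, map_mul, map_inv]
    have h1 := hce _ rfl
    calc (f kX)⁻¹ * f m * f r0X = (f kX)⁻¹ * (f m * f r0X * (f m)⁻¹) * f m := by group
      _ = (f kX)⁻¹ * (f kX * f r0X * (f kX)⁻¹) * f m := by rw [h1]
      _ = f r0X * ((f kX)⁻¹ * f m) := by group
  have h2 : (k⁻¹ * (m : G)) ∈ mSub X T V := hCr ⟨_, hw, rfl⟩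
  have h3 := (mSub X T V).mul_mem hm ((mSub X T V).inv_mem h2)
  simpa [mul_assoc] using h3

/-- Root uniqueness. -/
theorem root_unique {k q : G} (hk : k ∈ X) (hq : q ∈ X) {r : G} (hr : r ∈ MulAut.conj k • E)
    (hrR : r ∉ core X) (hrq : r ∈ MulAut.conj q • mSub X T V) :
    MulAut.conj k • mSub X T V = MulAut.conj q • mSub X T V := by
  have hrp : IsPGroup 2 (zpowers (q⁻¹ * r * q)) := by
    refine (F.syl.2.1.to_le F.ET).map (MulAut.conj (q⁻¹ * k)).toMonoidHom |>.to_le ?_
    rw [Subgroup.zpowers_le]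
    exact ⟨k⁻¹ * r * k, mem_cj.mp hr, by simp [mul_assoc]⟩
  obtain ⟨m, hm, hle⟩ := conj_into (sylowIn_of_between F.syl F.TM inf_le_left)
    (Subgroup.zpowers_le.mpr (mem_cj.mp hrq)) hrp
  set r2 := m * (q⁻¹ * r * q) * m⁻¹ with hr2
  have hr2T : r2 ∈ T := hle (conj_mem_cj (mem_zpowers _))
  have hmq : m * q⁻¹ ∈ X := X.mul_mem hm.1 (X.inv_mem hq)
  have hr2E : r2 ∈ MulAut.conj (m * q⁻¹ * k) • E := by
    rw [mem_cj, hr2]
    have := mem_cj.mp hr
    simpa [mul_assoc] using this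
  have hr2R : r2 ∉ core X := fun h => hrR (by
    have h1 := conj_mem (le_normalizer_core X (X.inv_mem hmq)) h
    simpa [hr2, mul_assoc] using h1)
  have h1 := F.root_mem (X.mul_mem hmq hk) hr2E hr2R hr2T
  have h2 : q⁻¹ * k ∈ mSub X T V := by
    have := (mSub X T V).mul_mem ((mSub X T V).inv_mem hm) h1
    rwa [mul_assoc m, inv_mul_cancel_left] at this
  calc MulAut.conj k • mSub X T V
      = MulAut.conj q • MulAut.conj (q⁻¹ * k) • mSub X T V := by
        rw [smul_smul, ← map_mul, mul_inv_cancel_left]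
    _ = _ := by rw [Subgroup.conj_smul_eq_self_of_mem h2]

end Frame

end Cfsg.Agent.Fus.Stell
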