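import Cfsg.Agent.Lib.Fus.StellSection
import Cfsg.Agent.Lib.Fus.StellClosure

/-!
The functor value is normal in a constrained group without inverted element of order three.
-/

set_option autoImplicit false
set_option linter.unusedSectionVars false
set_option linter.style.haveILetI false

namespace Cfsg.Agent.Fus.Stell

open Subgroup Invol.NoOff Cfsg.Agent.Block.SFour
open scoped Pointwise commutatorElement

universe u

variable {G : Type u} [Group G] [Finite G]

namespace PairData

variable {X S : Subgroup G} (D : PairData X S)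

include D

/-- The conjugate piece gives a configuration on the functor value. -/
theorem isConfig {g : G} (hg : g ∈ hgrp X S) (hgM : g ∉ normalizer (wSub S : Set G)) :
    IsConfig (MulAut.conj g • (wSub S ⊓ core X)) (wSub S) (wSub S ⊓ core X) := by
  classical
  obtain ⟨hgX, hV'Y⟩ := D.hgrp_out hg
  set V := wSub S with hV
  set V0 := V ⊓ core X with hV0
  set E := MulAut.conj g • V0 with hE
  have hEQ : E ≤ core X := hV'Y.trans D.yu_Q
  have hEV : E ≤ MulAut.conj g • V := Subgroup.pointwise_smul_le_pointwise_smul_iff.mpr inf_le_left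
  have hEn : E ≤ normalizer (V : Set G) := hEQ.trans (D.QS.trans D.SnV)
  have hEH : E ≤ hgrp X S := hV'Y.trans yu_hgrp
  have hVel := D.elV
  have hcm : ∀ t ∈ E, ∀ a ∈ V, ⁅t, a⁆ ∈ V0 := fun t ht a ha => by
    rw [← commutatorElement_inv]
    exact V0.inv_mem (D.cm_V0 ha (hEQ ht))
  have hz : ∀ t ∈ E, ∀ c ∈ zc X S, ⁅t, c⁆ = 1 := fun t ht c hc =>
    commutatorElement_eq_one_iff_mul_comm.mpr (zc_comm hc (hEH ht))
  have hV0ne : ¬ V0 ≤ zc X S := by
    intro hle
    refine D.out fun v hv => D.kernel_le (wSub_le_hgrp X S hv) fun y hy => ?_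
    have hyz : y ∈ zc X S := (iSup_le fun x =>
      (Subgroup.pointwise_smul_le_pointwise_smul_iff.mpr hle).trans
        (Grp.mem_normalizer_iff_smul.mp (D.zc_norm x.2)).le : yu X S ≤ zc X S) hy
    rw [commutatorElement_eq_one_iff_mul_comm.mpr (zc_comm hyz (wSub_le_hgrp X S hv))]
    exact one_mem _
  -- no element of `V` outside the core stabilises the conjugate piece
  have hfree : ∀ a ∈ V, a ∉ core X → ∀ t ∈ E, ⁅t, a⁆ ∈ zc X S → t ∈ zc X S := by
    intro a ha haQ t ht htz
    set b := g⁻¹ * a * g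
    have hbX : b ∈ X := X.mul_mem (X.mul_mem (X.inv_mem hgX) (D.VX ha)) hgX
    by_cases hbM : b ∈ normalizer (V : Set G)
    · refine absurd (D.kernel_le (wSub_le_hgrp X S ha) fun y hy => ?_) haQ
      have hVg : a ∈ normalizer ((MulAut.conj g • V : Subgroup G) : Set G) := by
        rw [Grp.mem_normalizer_iff_smul, smul_smul, ← map_mul,
          show a * g = g * b by simp [b, mul_assoc], map_mul, mul_smul,
          Grp.mem_normalizer_iff_smul.mp hbM]
      rw [D.yu_eq hgX hgM] at hy
      have h0 : core X ≤ normalizer (V0 : Set G) := by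
        have := D.V0_norm X.one_mem
        rwa [map_one, one_smul] at this
      obtain ⟨c, hc, d, hd, rfl⟩ := mem_mul_of_normalized (hEQ.trans h0) hy
      have h1 : ⁅a, c * d⁆ = c * ⁅a, d⁆ * c⁻¹ := by
        have hac : a * c = c * a := el_comm hVel ha hc.1
        calc ⁅a, c * d⁆ = a * c * d * a⁻¹ * d⁻¹ * c⁻¹ := by rw [commutatorElement_def]; group
          _ = c * ⁅a, d⁆ * c⁻¹ := by rw [hac, commutatorElement_def]; group
      have hd1 : ⁅a, d⁆ ∈ V0 := D.cm_V0 ha (hEQ hd)
      have hd2 : ⁅a, d⁆ ∈ E := by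
        refine mem_cj.mpr ⟨?_, ?_⟩
        · exact mem_cj.mp (cm_mem hVg (hEV hd))
        · exact Grp.mem_conj_normalizer' (le_normalizer_core X hgX) hd1.2
      rw [h1, el_comm hVel hc.1 hd1.1, mul_inv_cancel_right]
      exact D.meet hgX hgM (le_sup_left (b := zc X S) hd1) (le_sup_left (b := zc X S) hd2)
    · have ht' : g⁻¹ * t * g ∈ V0 := mem_cj.mp ht
      have h1 := Grp.mem_conj_normalizer' (D.zc_norm hgX) htz
      rw [show g⁻¹ * ⁅t, a⁆ * g = ⁅g⁻¹ * t * g, b⁆ by simp only [b, commutatorElement_def]; group] at h1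
      have hm : g⁻¹ * t * g ∈ zc X S := by
        refine D.meet hbX hbM (le_sup_left (b := zc X S) ht') ?_
        have e : g⁻¹ * t * g = ⁅g⁻¹ * t * g, b⁆ * (b * (g⁻¹ * t * g) * b⁻¹) := by
          rw [commutatorElement_def]; group
        rw [e]
        exact mul_mem (le_sup_right (a := MulAut.conj b • V0) h1)
          (le_sup_left (b := zc X S) (conj_mem_cj ht'))
      have h2 := conj_mem (D.zc_norm hgX) hm
      rwa [show g * (g⁻¹ * t * g) * g⁻¹ = t by group] at h2
  have hadd : ∀ a ∈ V, ∀ t ∈ E, ∀ t' ∈ E, ∃ z ∈ zc X S, ⁅t * t', a⁆ = ⁅t, a⁆ * ⁅t', a⁆ * z := by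
    intro a ha t ht t' ht'
    exact ⟨_, D.cm_yu (hV'Y ht) (V0_yu (hcm t' ht' a ha)),
      cm_mul_left' hVel (hEn ht) (hEn ht') ha⟩
  have hsurj : ∀ a ∈ V, a ∉ core X → ∀ x ∈ V0, ∃ t ∈ E, ⁅t, a⁆ * x ∈ zc X S := by
    intro a ha haQ x hx
    let f : E ⧸ (zc X S).subgroupOf E → V0 ⧸ (zc X S).subgroupOf V0 := fun q =>
      QuotientGroup.mk ⟨⁅((q.out : E) : G), a⁆, hcm _ q.out.2 a ha⟩
    have hinj : Function.Injective f := by
      intro p q h
      rw [← Quotient.out_eq' p, ← Quotient.out_eq' q]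
      refine QuotientGroup.eq.mpr ?_
      have h1 : ⁅((p.out : E) : G), a⁆⁻¹ * ⁅((q.out : E) : G), a⁆ ∈ zc X S :=
        (QuotientGroup.eq (s := (zc X S).subgroupOf V0)).mp h
      refine hfree a ha haQ (((p.out : E) : G)⁻¹ * ((q.out : E) : G)) (E.mul_mem (E.inv_mem p.out.2) q.out.2) ?_
      rw [el_inv hVel (hcm _ p.out.2 a ha).1] at h1
      rw [el_inv (el_cj hVel g) (hEV p.out.2)]
      obtain ⟨z, hz', e⟩ := hadd a ha _ p.out.2 _ q.out.2
      rw [e]
      exact mul_mem h1 hz'
    have hcard : Nat.card (V0 ⧸ (zc X S).subgroupOf V0) ≤ Nat.card (E ⧸ (zc X S).subgroupOf E) := by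
      show (zc X S).relIndex V0 ≤ (zc X S).relIndex E
      conv_rhs => rw [hE, ← Grp.mem_normalizer_iff_smul.mp (D.zc_norm hgX), relIndex_smul]
    obtain ⟨q, hq⟩ := (hinj.bijective_of_nat_card_le hcard).2 (QuotientGroup.mk ⟨x, hx⟩)
    have h1 : ⁅((q.out : E) : G), a⁆⁻¹ * x ∈ zc X S :=
      (QuotientGroup.eq (s := (zc X S).subgroupOf V0)).mp hq
    rw [el_inv hVel (hcm _ q.out.2 a ha).1] at h1
    exact ⟨_, q.out.2, h1⟩
  refine ⟨isEl_mono (el_cj hVel g) hEV, hVel, hEn, inf_le_left,
    fun e => D.out (show V ≤ core X from e.ge.trans inf_le_right), hcm, ?_, ?_, ?_, ?_⟩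
  · intro t ht s hs x hx
    refine hz s hs _ ?_
    exact D.cm_yu (hV'Y ht) (V0_yu hx)
  · intro a ha haV x hx
    obtain ⟨t, ht, hzt⟩ := hsurj a ha (fun h => haV ⟨ha, h⟩) x hx
    exact ⟨t, ht, fun s hs => hz s hs _ hzt⟩
  · by_contra hno
    push Not at hno
    obtain ⟨a, ha, haQ⟩ := SetLike.not_le_iff_exists.mp D.out
    have hEsq : ∀ t ∈ E, t ^ 2 ∈ centralizer (V : Set G) := fun t ht => by
      rw [(el_cj hVel g).2 t (hEV ht)]; exact one_mem _
    have hkz : centralizer (V : Set G) ⊓ E ≤ zc X S := fun t ht => by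
      refine hfree a ha haQ t ht.2 ?_
      rw [commutatorElement_eq_one_iff_mul_comm.mpr
        (Subgroup.mem_centralizer_iff.mp ht.1 a ha).symm]
      exact one_mem _
    have hEne : ¬ E ≤ centralizer (V : Set G) := fun h => hV0ne fun x hx => by
      have h1 := hkz ⟨h (conj_mem_cj hx), conj_mem_cj hx⟩
      have h2 := Grp.mem_conj_normalizer' (D.zc_norm hgX) h1
      rwa [show g⁻¹ * (g * x * g⁻¹) * g = x by group] at h2
    have hs := (good_wSub S).strict E (hEQ.trans D.QS) hEsq hEne
    refine hs.not_ge ?_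
    -- `V` modulo the fixed points embeds into `V0` modulo the centre
    obtain ⟨t0, ht0, ht0z⟩ : ∃ t ∈ E, t ∉ zc X S := by
      by_contra hall
      push Not at hall
      refine hV0ne fun x hx => ?_
      have h2 := Grp.mem_conj_normalizer' (D.zc_norm hgX) (hall _ (conj_mem_cj hx))
      rwa [show g⁻¹ * (g * x * g⁻¹) * g = x by group] at h2
    calc (centralizer (E : Set G)).relIndex V ≤ V0.relIndex V := by
          refine Subgroup.relIndex_le_of_le_left (fun x hx => ?_) (relIndex_ne_zero' _ _)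
          exact Subgroup.mem_centralizer_iff.mpr fun t ht =>
            commutatorElement_eq_one_iff_mul_comm.mp (hno t ht x hx)
      _ ≤ (zc X S).relIndex V0 := by
          refine Nat.card_le_card_of_injective (fun q : V ⧸ V0.subgroupOf V =>
            (QuotientGroup.mk ⟨⁅t0, ((q.out : V) : G)⁆, hcm t0 ht0 _ q.out.2⟩ :
              V0 ⧸ (zc X S).subgroupOf V0)) fun p q h => ?_
          rw [← Quotient.out_eq' p, ← Quotient.out_eq' q]
          refine QuotientGroup.eq.mpr ?_
          show ((p.out : V) : G)⁻¹ * ((q.out : V) : G) ∈ V0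
          by_contra hnot
          have hmemV := V.mul_mem (V.inv_mem p.out.2) q.out.2
          refine ht0z (hfree _ hmemV (fun hQ => hnot ⟨hmemV, hQ⟩) t0 ht0 ?_)
          have h1 : ⁅t0, ((p.out : V) : G)⁆⁻¹ * ⁅t0, ((q.out : V) : G)⁆ ∈ zc X S :=
            (QuotientGroup.eq (s := (zc X S).subgroupOf V0)).mp h
          rw [cm_mul hVel (hEn ht0) (V.inv_mem p.out.2) q.out.2, el_inv hVel p.out.2]
          rwa [el_inv hVel (hcm t0 ht0 _ p.out.2).1] at h1
      _ = (zc X S).relIndex E := by
          conv_rhs => rw [hE, ← Grp.mem_normalizer_iff_smul.mp (D.zc_norm hgX), relIndex_smul]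
      _ ≤ (centralizer (V : Set G)).relIndex E := by
          rw [← Subgroup.inf_relIndex_right (centralizer (V : Set G)) E]
          exact Subgroup.relIndex_le_of_le_left hkz (relIndex_ne_zero' _ _)
  · exact fun K _ F hF hFK hmov => D.rad_bound hg hgM hsurj hF hFK hmov

theorem false_of_pair : False := by
  obtain ⟨g, hg, hgM⟩ := D.exists_out
  exact (good_wSub S).free _ (((D.hgrp_out hg).2.trans D.yu_Q).trans D.QS) _ (D.isConfig hg hgM)

end PairData

/-- The functor value is normal. -/
theorem wSub_normal : ∀ (n : ℕ) (X S : Subgroup G), Nat.card X = n → NoThree X →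
    Grp.IsSylowIn 2 S X → X ⊓ centralizer (core X : Set G) ≤ core X →
    X ≤ normalizer (wSub S : Set G) := by
  intro n
  induction n using Nat.strong_induction_on with
  | _ n ih =>
  intro X S hn hnt hS hC
  set V := wSub S with hV
  have hg := good_wSub S
  have hVS : V ≤ S := wSub_le S
  have hQS := core_le_sylowIn hS
  by_cases hVQ : V ≤ core X
  · -- inside the core: the closure is good
    set U := ⨆ x : X, MulAut.conj (x : G) • V with hU
    have hUle : U ≤ wSub (core X) := iSup_le fun x => by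
      refine le_wSub ((Subgroup.pointwise_smul_le_pointwise_smul_iff.mpr hVQ).trans
        (Grp.mem_normalizer_iff_smul.mp (le_normalizer_core X x.2)).le) ?_
      refine (hg.smul (x : G)).mono ?_
      rw [← Grp.mem_normalizer_iff_smul.mp (le_normalizer_core X x.2)]
      exact Subgroup.pointwise_smul_le_pointwise_smul_iff.mpr hQS
    have hUQ : U ≤ core X := hUle.trans (wSub_le _)
    have hUn : X ≤ normalizer (U : Set G) := le_normalizer_orbit X V
    have hgood : Good S U := good_closure hnt hS (isEl_mono (good_wSub _).el hUle)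
      (hUQ.trans (core_le X)) hUn (le_orbit X V) hg le_rfl
    have heq : U = V := le_antisymm (le_wSub (hUQ.trans hQS) hgood) (le_orbit X V)
    exact heq ▸ hUn
  exfalso
  set M := X ⊓ normalizer (V : Set G) with hM
  have hSM : S ≤ M := le_inf hS.1 hg.norm
  have hle : ∀ H < X, V ⊔ core X ≤ H → H ≤ M := by
    intro H hH hAH
    refine le_of_mem_le' inf_le_left hSM hS (fun A => A = V ⊔ core X) ?_ ?_ ?_ ?_ rfl
      ((sup_le hVS hQS).trans hSM) hH hAH
    · rintro m hm _ rfl
      rw [Subgroup.smul_sup, Grp.mem_normalizer_iff_smul.mp hm.2,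
        Grp.mem_normalizer_iff_smul.mp (le_normalizer_core X hm.1)]
    · rintro _ rfl
      exact hS.2.1.to_le (sup_le hVS hQS)
    · rintro D hD ⟨_, rfl, hAD⟩ hn
      exact hVQ ((le_sup_left.trans hAD).trans (le_core (hD.trans hS.1) (hS.2.1.to_le hD) hn))
    · rintro D hDS ⟨_, rfl, hAD⟩ H hH hD hup
      have hVD : V ≤ wSub D := le_wSub (le_sup_left.trans hAD) (hg.mono hDS)
      have hQH : core X ≤ core H := le_core ((le_sup_right.trans hAD).trans hD.1) (core_isPGroup X)
        (hH.le.trans (le_normalizer_core X))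
      have hcard : Nat.card H < Nat.card X := by
        by_contra hge
        exact hH.ne (Subgroup.eq_of_le_of_card_ge hH.le (not_lt.mp hge))
      have hntH : NoThree H := (hnt.subgroup (H.subgroupOf X)).map
        (Subgroup.subgroupOfEquivOfLe hH.le).toMonoidHom
        (Subgroup.subgroupOfEquivOfLe hH.le).surjective
      have hHn := ih _ (hn ▸ hcard) H D rfl hntH hD
        (fun x hx => hQH (hC ⟨hH.le hx.1, Subgroup.centralizer_le hQH hx.2⟩))
      rcases hDS.eq_or_lt with rfl | hlt
      · exact le_inf hH.le hHn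
      · refine (le_inf hH.le hHn).trans (hup _ (lt_inf_norm hS.2.1 hlt) inf_le_left _ ?_
          fun x hx => ⟨hS.1 hx.1, normalizer_le_wSub D hx.2⟩)
        refine lt_of_le_of_ne inf_le_left fun e => hVQ ?_
        exact hVD.trans (le_core ((wSub_le D).trans (hDS.trans hS.1))
          (hS.2.1.to_le ((wSub_le D).trans hDS)) (e.ge.trans inf_le_right))
  exact (PairData.mk hnt hS hC hVQ hle).false_of_pair

end Cfsg.Agent.Fus.Stell
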