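import Cfsg.Agent.Lib.Fus.StellFrame

/-!
The pair case: the functor value is not inside `O₂(X)`.
-/

set_option autoImplicit false
set_option linter.unusedSectionVars false
set_option linter.style.haveILetI false

namespace Cfsg.Agent.Fus.Stell

open Subgroup Invol.NoOff Cfsg.Agent.Block.SFour
open scoped Pointwise commutatorElement

universe u

variable {G : Type u} [Group G] [Finite G]

/-- The functor value, not inside the core, with its uniqueness. -/
structure PairData (X S : Subgroup G) : Prop where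
  nt : NoThree X
  syl : Grp.IsSylowIn 2 S X
  cent : X ⊓ centralizer (core X : Set G) ≤ core X
  out : ¬ wSub S ≤ core X
  le_M : ∀ H < X, wSub S ⊔ core X ≤ H → H ≤ X ⊓ normalizer (wSub S : Set G)

/-- The normal closure of the functor value. -/
def hgrp (X S : Subgroup G) : Subgroup G := ⨆ x : X, MulAut.conj (x : G) • wSub S

/-- The normal closure of its part in the core. -/
def yu (X S : Subgroup G) : Subgroup G := ⨆ x : X, MulAut.conj (x : G) • (wSub S ⊓ core X)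

/-- The central part. -/
def zc (X S : Subgroup G) : Subgroup G := yu X S ⊓ centralizer (hgrp X S : Set G)

theorem wSub_le_hgrp (X S : Subgroup G) : wSub S ≤ hgrp X S := le_orbit X _

theorem le_normalizer_hgrp (X S : Subgroup G) : X ≤ normalizer (hgrp X S : Set G) :=
  le_normalizer_orbit X _

theorem le_normalizer_yu (X S : Subgroup G) : X ≤ normalizer (yu X S : Set G) :=
  le_normalizer_orbit X _

theorem le_normalizer_centralizer {X H : Subgroup G} (h : X ≤ normalizer (H : Set G)) :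
    X ≤ normalizer (centralizer (H : Set G) : Set G) := fun x hx => by
  rw [Subgroup.mem_normalizer_iff]
  intro c
  simp only [Subgroup.mem_centralizer_iff]
  constructor
  · intro hc y hy
    have h1 := hc _ (Grp.mem_conj_normalizer' (h hx) hy)
    calc y * (x * c * x⁻¹) = x * ((x⁻¹ * y * x) * c) * x⁻¹ := by group
      _ = x * (c * (x⁻¹ * y * x)) * x⁻¹ := by rw [h1]
      _ = x * c * x⁻¹ * y := by group
  · intro hc y hy
    have h1 := hc _ ((Subgroup.mem_normalizer_iff.mp (h hx) y).mp hy)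
    calc y * c = x⁻¹ * ((x * y * x⁻¹) * (x * c * x⁻¹)) * x := by group
      _ = x⁻¹ * ((x * c * x⁻¹) * (x * y * x⁻¹)) * x := by rw [h1]
      _ = c * y := by group

theorem mem_mul_of_normalized {A B : Subgroup G} (h : B ≤ normalizer (A : Set G)) {y : G}
    (hy : y ∈ A ⊔ B) : ∃ a ∈ A, ∃ b ∈ B, y = a * b := by
  have h1 : y ∈ (↑(A ⊔ B) : Set G) := hy
  rw [Subgroup.coe_mul_of_right_le_normalizer_left A B h] at h1
  obtain ⟨a, ha, b, hb, e⟩ := h1
  exact ⟨a, ha, b, hb, e.symm⟩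

/-- An odd element commuting with its commutator with `y` fixes `y` if that is a 2-element. -/
theorem fix_of_odd {h y : G} {Q : Subgroup G} (hQ : IsPGroup 2 Q) (ho : Odd (orderOf h))
    (hcQ : ⁅h, y⁆ ∈ Q) (hc : h * ⁅h, y⁆ = ⁅h, y⁆ * h) : ⁅h, y⁆ = 1 := by
  set c := ⁅h, y⁆ with hcdef
  have hpow : ∀ n : ℕ, h ^ n * y * (h ^ n)⁻¹ = c ^ n * y := by
    intro n
    induction n with
    | zero => simp
    | succ n ih =>
      have h2 : h * c ^ n = c ^ n * h := (show Commute h c from hc).pow_right n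
      calc h ^ (n + 1) * y * (h ^ (n + 1))⁻¹ = h * (h ^ n * y * (h ^ n)⁻¹) * h⁻¹ := by
            rw [pow_succ']; group
        _ = (h * c ^ n) * y * h⁻¹ := by rw [ih]; group
        _ = c ^ n * (h * y * h⁻¹) := by rw [h2]; group
        _ = c ^ n * (c * y) := by rw [hcdef, cm_mul_conj]
        _ = c ^ (n + 1) * y := by rw [pow_succ, mul_assoc (c ^ n)]
  have h1 : c ^ orderOf h = 1 := by
    have := hpow (orderOf h)
    rw [pow_orderOf_eq_one, one_mul, inv_one, mul_one] at this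
    exact mul_eq_right.mp this.symm
  obtain ⟨e, he⟩ := hQ ⟨c, hcQ⟩
  have h2 : c ^ 2 ^ e = 1 := congrArg Subtype.val he
  have h3 := pow_gcd_eq_one.mpr ⟨h1, h2⟩
  rwa [(Nat.Coprime.pow_right e (Nat.coprime_two_right.mpr ho) : _ = 1), pow_one] at h3

namespace PairData

variable {X S : Subgroup G} (D : PairData X S)

include D

theorem SX : S ≤ X := D.syl.1

theorem QS : core X ≤ S := core_le_sylowIn D.syl

theorem VX : wSub S ≤ X := (wSub_le S).trans D.SX

theorem elV : Cfsg.IsElementaryAbelian 2 (wSub S) := (good_wSub S).el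

theorem SnV : S ≤ normalizer (wSub S : Set G) := (good_wSub S).norm

theorem QnV {x : G} (hx : x ∈ X) :
    core X ≤ normalizer ((MulAut.conj x • wSub S : Subgroup G) : Set G) := by
  have h1 := ((good_wSub S).smul x).norm
  refine le_trans ?_ h1
  rw [← Grp.mem_normalizer_iff_smul.mp (le_normalizer_core X hx)]
  exact Subgroup.pointwise_smul_le_pointwise_smul_iff.mpr D.QS

theorem M_ne : X ⊓ normalizer (wSub S : Set G) < X := lt_of_le_of_ne inf_le_left fun e =>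
  D.out (le_core D.VX (D.syl.2.1.to_le (wSub_le S)) (e.ge.trans inf_le_right))

theorem hgrp_X : hgrp X S ≤ X := iSup_le fun x => (cj_le_iff x.2).mpr D.VX

theorem mem_M {g : G} (hg : g ∈ X)
    (h : MulAut.conj g • wSub S ⊔ core X ≤ X ⊓ normalizer (wSub S : Set G)) :
    g ∈ X ⊓ normalizer (wSub S : Set G) := by
  set M := X ⊓ normalizer (wSub S : Set G)
  have hgi : g⁻¹ ∈ X := X.inv_mem hg
  have h1 : wSub S ⊔ core X ≤ MulAut.conj g⁻¹ • M := by
    rw [map_inv, ← Subgroup.pointwise_smul_subset_iff, Subgroup.smul_sup,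
      Grp.mem_normalizer_iff_smul.mp (le_normalizer_core X hg)]
    exact h
  have h2 := Subgroup.eq_of_le_of_card_ge (D.le_M _ (cj_lt_of_mem hgi D.M_ne) h1) (card_cj _ _).ge
  have hgN : g⁻¹ ∈ X ⊓ normalizer (M : Set G) := ⟨hgi, Grp.mem_normalizer_iff_smul.mpr h2⟩
  have hVQM : wSub S ⊔ core X ≤ M :=
    le_inf (sup_le D.VX (core_le X)) (sup_le Subgroup.le_normalizer (D.QS.trans D.SnV))
  rcases (inf_le_left : X ⊓ normalizer (M : Set G) ≤ X).eq_or_lt with e | hlt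
  · exfalso
    refine D.M_ne.not_ge (le_of_frattini inf_le_left (e.ge.trans inf_le_right)
      (sylowIn_of_between D.syl (le_inf D.SX D.SnV) inf_le_left) le_rfl ?_)
    exact fun n hn => ⟨hn.1, normalizer_le_wSub S hn.2⟩
  · have h3 := D.le_M _ hlt (hVQM.trans (le_inf inf_le_left Subgroup.le_normalizer)) hgN
    simpa using M.inv_mem h3

theorem generate {g : G} (hg : g ∈ X) (hgM : g ∉ normalizer (wSub S : Set G)) :
    X ≤ wSub S ⊔ MulAut.conj g • wSub S ⊔ core X := by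
  set H := wSub S ⊔ MulAut.conj g • wSub S ⊔ core X
  have hHX : H ≤ X := sup_le (sup_le D.VX ((cj_le_iff hg).mpr D.VX)) (core_le X)
  rcases hHX.eq_or_lt with e | hlt
  · exact e.ge
  exfalso
  have h := D.le_M H hlt (sup_le_sup_right le_sup_left _)
  exact hgM (D.mem_M hg ((sup_le_sup_right le_sup_right _).trans h)).2

theorem exists_out : ∃ g ∈ hgrp X S, g ∉ normalizer (wSub S : Set G) := by
  by_contra hall
  push Not at hall
  refine D.M_ne.not_ge fun x hx => ⟨hx, ?_⟩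
  by_contra hxV
  have h1 : X ≤ hgrp X S ⊔ core X := (D.generate hx hxV).trans
    (sup_le_sup_right (sup_le (wSub_le_hgrp X S)
      (le_iSup_of_le (⟨x, hx⟩ : X) le_rfl)) _)
  exact hxV ((h1.trans (sup_le hall (D.QS.trans D.SnV))) hx)

theorem hgrp_eq {g : G} (hg : g ∈ X) (hgM : g ∉ normalizer (wSub S : Set G)) :
    hgrp X S = wSub S ⊔ MulAut.conj g • wSub S := by
  refine le_antisymm (iSup_le fun x => ?_)
    (sup_le (wSub_le_hgrp X S) (le_iSup_of_le (⟨g, hg⟩ : X) le_rfl))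
  set H := wSub S ⊔ MulAut.conj g • wSub S
  have hn : X ≤ normalizer (H : Set G) := by
    refine (D.generate hg hgM).trans (sup_le Subgroup.le_normalizer fun q hq => ?_)
    rw [Grp.mem_normalizer_iff_smul, Subgroup.smul_sup,
      Grp.mem_normalizer_iff_smul.mp (D.SnV (D.QS hq)),
      Grp.mem_normalizer_iff_smul.mp (D.QnV hg hq)]
  exact (Subgroup.pointwise_smul_le_pointwise_smul_iff.mpr le_sup_left).trans
    (Grp.mem_normalizer_iff_smul.mp (hn x.2)).le

theorem cm_V0 {v y : G} (hv : v ∈ wSub S) (hy : y ∈ core X) :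
    ⁅v, y⁆ ∈ wSub S ⊓ core X := by
  refine ⟨?_, cm_mem (le_normalizer_core X (D.VX hv)) hy⟩
  rw [← commutatorElement_inv]
  exact (wSub S).inv_mem (cm_mem (D.SnV (D.QS hy)) hv)

theorem cm_V0' {x : G} (hx : x ∈ X) {v y : G} (hv : v ∈ MulAut.conj x • wSub S)
    (hy : y ∈ core X) : ⁅v, y⁆ ∈ MulAut.conj x • (wSub S ⊓ core X) := by
  have h1 := D.cm_V0 (mem_cj.mp hv)
    (Grp.mem_conj_normalizer' (le_normalizer_core X hx) hy)
  rw [mem_cj]
  have e : x⁻¹ * ⁅v, y⁆ * x = ⁅x⁻¹ * v * x, x⁻¹ * y * x⁆ := by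
    simp only [commutatorElement_def]; group
  rwa [e]

theorem yu_Q : yu X S ≤ core X := iSup_le fun x =>
  (Subgroup.pointwise_smul_le_pointwise_smul_iff.mpr inf_le_right).trans
    (Grp.mem_normalizer_iff_smul.mp (le_normalizer_core X x.2)).le

omit D in
theorem yu_hgrp : yu X S ≤ hgrp X S := iSup_mono fun _ =>
  Subgroup.pointwise_smul_le_pointwise_smul_iff.mpr inf_le_left

omit D in
theorem le_yu {x : G} (hx : x ∈ X) : MulAut.conj x • (wSub S ⊓ core X) ≤ yu X S :=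
  le_iSup_of_le (⟨x, hx⟩ : X) le_rfl

omit D in
theorem V0_yu : wSub S ⊓ core X ≤ yu X S := le_orbit X _

theorem V0_norm {x : G} (hx : x ∈ X) :
    core X ≤ normalizer ((MulAut.conj x • (wSub S ⊓ core X) : Subgroup G) : Set G) := by
  intro q hq
  rw [Subgroup.smul_inf, Grp.mem_normalizer_iff_smul.mp (le_normalizer_core X hx),
    Grp.mem_normalizer_iff_smul, Subgroup.smul_inf, Grp.mem_normalizer_iff_smul.mp (D.QnV hx hq),
    Grp.mem_normalizer_iff_smul.mp (le_normalizer_core X (core_le X hq))]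

theorem yu_eq {g : G} (hg : g ∈ X) (hgM : g ∉ normalizer (wSub S : Set G)) :
    yu X S = wSub S ⊓ core X ⊔ MulAut.conj g • (wSub S ⊓ core X) := by
  refine le_antisymm (iSup_le fun x => ?_) (sup_le V0_yu (le_yu hg))
  set Yg := wSub S ⊓ core X ⊔ MulAut.conj g • (wSub S ⊓ core X) with hYg
  have hYQ : Yg ≤ core X := sup_le inf_le_right
    ((Subgroup.pointwise_smul_le_pointwise_smul_iff.mpr inf_le_right).trans
      (Grp.mem_normalizer_iff_smul.mp (le_normalizer_core X hg)).le)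
  -- elements pushing commutators into `Yg`
  have hn1 : ∀ v, (∀ y ∈ core X, ⁅v, y⁆ ∈ Yg) → v ∈ normalizer (Yg : Set G) := by
    intro v hv
    rw [Grp.mem_normalizer_iff_smul]
    refine Subgroup.eq_of_le_of_card_ge ?_ (card_cj _ _).ge
    rintro _ ⟨y, hy, rfl⟩
    show v * y * v⁻¹ ∈ Yg
    rw [← cm_mul_conj]
    exact Yg.mul_mem (hv y (hYQ hy)) hy
  have hn : X ≤ normalizer (Yg : Set G) := by
    refine (D.generate hg hgM).trans (sup_le (sup_le
      (fun v hv => hn1 v fun y hy => le_sup_left (a := wSub S ⊓ core X) (D.cm_V0 hv hy))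
      (fun v hv => hn1 v fun y hy => le_sup_right (a := wSub S ⊓ core X) (D.cm_V0' hg hv hy))) ?_)
    intro q hq
    have h0 := D.V0_norm X.one_mem hq
    rw [map_one, one_smul] at h0
    rw [Grp.mem_normalizer_iff_smul, hYg, Subgroup.smul_sup, Grp.mem_normalizer_iff_smul.mp h0,
      Grp.mem_normalizer_iff_smul.mp (D.V0_norm hg hq)]
  exact (Subgroup.pointwise_smul_le_pointwise_smul_iff.mpr le_sup_left).trans
    (Grp.mem_normalizer_iff_smul.mp (hn x.2)).le

theorem zc_norm : X ≤ normalizer (zc X S : Set G) := fun x hx => by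
  rw [Grp.mem_normalizer_iff_smul, zc, Subgroup.smul_inf,
    Grp.mem_normalizer_iff_smul.mp (le_normalizer_yu X S hx),
    Grp.mem_normalizer_iff_smul.mp (le_normalizer_centralizer (le_normalizer_hgrp X S) hx)]

omit D in
theorem zc_comm {c h : G} (hc : c ∈ zc X S) (hh : h ∈ hgrp X S) : h * c = c * h :=
  Subgroup.mem_centralizer_iff.mp hc.2 h hh

/-- Both pieces meet modulo the centre. -/
theorem meet {g : G} (hg : g ∈ X) (hgM : g ∉ normalizer (wSub S : Set G)) {y : G}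
    (h1 : y ∈ wSub S ⊓ core X ⊔ zc X S)
    (h2 : y ∈ MulAut.conj g • (wSub S ⊓ core X) ⊔ zc X S) : y ∈ zc X S := by
  have hV : wSub S ⊓ core X ⊔ zc X S ≤ centralizer (wSub S : Set G) :=
    sup_le (fun a ha => Subgroup.mem_centralizer_iff.mpr fun v hv => el_comm D.elV hv ha.1)
      (fun c hc => Subgroup.mem_centralizer_iff.mpr fun v hv => zc_comm hc (wSub_le_hgrp X S hv))
  have hV' : MulAut.conj g • (wSub S ⊓ core X) ⊔ zc X S ≤
      centralizer ((MulAut.conj g • wSub S : Subgroup G) : Set G) := by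
    refine sup_le (fun a ha => Subgroup.mem_centralizer_iff.mpr fun v hv => ?_)
      (fun c hc => Subgroup.mem_centralizer_iff.mpr fun v hv =>
        zc_comm hc ((le_iSup_of_le (⟨g, hg⟩ : X) le_rfl : MulAut.conj g • wSub S ≤ hgrp X S) hv))
    exact el_comm (el_cj D.elV g) hv
      (Subgroup.pointwise_smul_le_pointwise_smul_iff.mpr inf_le_left ha)
  refine ⟨(sup_le V0_yu inf_le_left) h1, ?_⟩
  rw [D.hgrp_eq hg hgM, centralizer_sup]
  exact ⟨hV h1, hV' h2⟩

/-- Commutators inside `Yu` are central. -/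
theorem cm_yu {y z : G} (hy : y ∈ yu X S) (hz : z ∈ yu X S) : ⁅y, z⁆ ∈ zc X S := by
  obtain ⟨g, hg, hgM⟩ := D.exists_out
  have hgX := D.hgrp_X hg
  set V0 := wSub S ⊓ core X
  set V0' := MulAut.conj g • V0
  have hV0V : V0' ≤ MulAut.conj g • wSub S :=
    Subgroup.pointwise_smul_le_pointwise_smul_iff.mpr inf_le_left
  have hgen : ∀ a b, (a ∈ V0 ∨ a ∈ V0') → (b ∈ V0 ∨ b ∈ V0') → ⁅a, b⁆ ∈ zc X S := by
    have key : ∀ a ∈ V0, ∀ b ∈ V0', ⁅a, b⁆ ∈ zc X S := fun a ha b hb => by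
      have h1 : ⁅a, b⁆ ∈ V0 := D.cm_V0 ha.1 (D.yu_Q (le_yu hgX hb))
      have h2 : ⁅a, b⁆ ∈ V0' := by
        rw [← commutatorElement_inv]
        exact V0'.inv_mem (D.cm_V0' hgX (hV0V hb) ha.2)
      exact D.meet hgX hgM (le_sup_left (b := zc X S) h1) (le_sup_left (b := zc X S) h2)
    rintro a b (ha | ha) (hb | hb)
    · rw [cm_one_of_mem D.elV ha.1 hb.1]; exact one_mem _
    · exact key a ha b hb
    · rw [← commutatorElement_inv]; exact inv_mem (key b hb a ha)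
    · rw [cm_one_of_mem (el_cj D.elV g) (hV0V ha) (hV0V hb)]
      exact one_mem _
  have hH : ∀ y ∈ yu X S, y ∈ X := fun y hy => core_le X (D.yu_Q hy)
  let K : G → Subgroup G := fun z =>
    { carrier := {a | a ∈ X ∧ ⁅a, z⁆ ∈ zc X S}
      one_mem' := ⟨X.one_mem, by rw [commutatorElement_one_left]; exact one_mem _⟩
      mul_mem' := fun {a b} ha hb => ⟨X.mul_mem ha.1 hb.1, by
        rw [show ⁅a * b, z⁆ = a * ⁅b, z⁆ * a⁻¹ * ⁅a, z⁆ by simp only [commutatorElement_def]; group]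
        exact mul_mem (conj_mem (D.zc_norm ha.1) hb.2) ha.2⟩
      inv_mem' := fun {a} ha => ⟨X.inv_mem ha.1, by
        rw [show ⁅a⁻¹, z⁆ = a⁻¹ * ⁅a, z⁆⁻¹ * (a⁻¹)⁻¹ by simp only [commutatorElement_def]; group]
        exact conj_mem (D.zc_norm (X.inv_mem ha.1)) (inv_mem ha.2)⟩ }
  have hY : V0 ⊔ V0' = yu X S := (D.yu_eq hgX hgM).symm
  have hstep : ∀ b, (b ∈ V0 ∨ b ∈ V0') → yu X S ≤ K b := fun b hb => by
    rw [← hY]
    exact sup_le (fun a ha => ⟨hH a (V0_yu ha), hgen a b (Or.inl ha) hb⟩)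
      (fun a ha => ⟨hH a (le_yu hgX ha), hgen a b (Or.inr ha) hb⟩)
  have hall : yu X S ≤ K y := by
    rw [← hY]
    refine sup_le (fun a ha => ⟨hH a (V0_yu ha), ?_⟩) (fun a ha => ⟨hH a (le_yu hgX ha), ?_⟩) <;>
      rw [← commutatorElement_inv]
    · exact inv_mem (hstep a (Or.inl ha) hy).2
    · exact inv_mem (hstep a (Or.inr ha) hy).2
  rw [← commutatorElement_inv]
  exact inv_mem (hall hz).2

theorem cm_mul_l {a b z : G} (ha : a ∈ yu X S) (hb : b ∈ yu X S) (hz : z ∈ yu X S) :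
    ⁅a * b, z⁆ = ⁅a, z⁆ * ⁅b, z⁆ := by
  have h1 := zc_comm (D.cm_yu hb hz) (yu_hgrp ha)
  have h2 := zc_comm (D.cm_yu hb hz) (yu_hgrp (D.cm_yu ha hz).1)
  rw [show ⁅a * b, z⁆ = a * ⁅b, z⁆ * a⁻¹ * ⁅a, z⁆ by simp only [commutatorElement_def]; group, h1,
    mul_inv_cancel_right, ← h2]

theorem cm_mul_r {a b z : G} (ha : a ∈ yu X S) (hb : b ∈ yu X S) (hz : z ∈ yu X S) :
    ⁅z, a * b⁆ = ⁅z, a⁆ * ⁅z, b⁆ := by
  have h1 := zc_comm (D.cm_yu hz hb) (yu_hgrp ha)
  rw [show ⁅z, a * b⁆ = ⁅z, a⁆ * (a * ⁅z, b⁆ * a⁻¹) by simp only [commutatorElement_def]; group, h1,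
    mul_inv_cancel_right]

theorem sq_mul {a b : G} (ha : a ∈ yu X S) (hb : b ∈ yu X S) :
    (a * b) ^ 2 = ⁅b, a⁆ * (a ^ 2 * b ^ 2) := by
  have h1 := zc_comm (D.cm_yu hb ha) (yu_hgrp ha)
  calc (a * b) ^ 2 = a * (b * a) * b := by rw [pow_two]; group
    _ = a * (⁅b, a⁆ * (a * b)) * b := by rw [commutatorElement_def]; group
    _ = (a * ⁅b, a⁆) * (a * b) * b := by group
    _ = ⁅b, a⁆ * (a ^ 2 * b ^ 2) := by rw [h1, pow_two, pow_two]; group

theorem sq_yu {y : G} (hy : y ∈ yu X S) : y ^ 2 ∈ zc X S := by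
  obtain ⟨g, hg, hgM⟩ := D.exists_out
  have hgX := D.hgrp_X hg
  have h0 := D.V0_norm X.one_mem
  rw [map_one, one_smul] at h0
  rw [D.yu_eq hgX hgM] at hy
  obtain ⟨a, ha, b, hb, rfl⟩ := mem_mul_of_normalized
    (((le_yu hgX).trans D.yu_Q).trans h0) hy
  rw [D.sq_mul (V0_yu ha) (le_yu hgX hb), D.elV.2 a ha.1,
    (el_cj D.elV g).2 b (Subgroup.pointwise_smul_le_pointwise_smul_iff.mpr inf_le_left hb),
    one_mul, mul_one]
  exact D.cm_yu (le_yu hgX hb) (V0_yu ha)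

/-- The kernel of the action on `Yu` modulo the centre. -/
theorem kernel_le {h : G} (hh : h ∈ hgrp X S) (hfix : ∀ y ∈ yu X S, ⁅h, y⁆ ∈ zc X S) :
    h ∈ core X := by
  let K : Subgroup G :=
    { carrier := {a | a ∈ hgrp X S ∧ ∀ y ∈ yu X S, ⁅a, y⁆ ∈ zc X S}
      one_mem' := ⟨one_mem _, fun y _ => by rw [commutatorElement_one_left]; exact one_mem _⟩
      mul_mem' := fun {a b} ha hb => ⟨mul_mem ha.1 hb.1, fun y hy => by
        rw [show ⁅a * b, y⁆ = a * ⁅b, y⁆ * a⁻¹ * ⁅a, y⁆ by simp only [commutatorElement_def]; group]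
        exact mul_mem (conj_mem (D.zc_norm (D.hgrp_X ha.1)) (hb.2 y hy)) (ha.2 y hy)⟩
      inv_mem' := fun {a} ha => ⟨inv_mem ha.1, fun y hy => by
        rw [show ⁅a⁻¹, y⁆ = a⁻¹ * ⁅a, y⁆⁻¹ * (a⁻¹)⁻¹ by simp only [commutatorElement_def]; group]
        exact conj_mem (D.zc_norm (X.inv_mem (D.hgrp_X ha.1))) (inv_mem (ha.2 y hy))⟩ }
  let QK : Subgroup G :=
    { carrier := {a | a ∈ X ∧ ∀ q ∈ core X, ⁅a, q⁆ ∈ yu X S}
      one_mem' := ⟨one_mem _, fun y _ => by rw [commutatorElement_one_left]; exact one_mem _⟩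
      mul_mem' := fun {a b} ha hb => ⟨mul_mem ha.1 hb.1, fun y hy => by
        rw [show ⁅a * b, y⁆ = a * ⁅b, y⁆ * a⁻¹ * ⁅a, y⁆ by simp only [commutatorElement_def]; group]
        exact mul_mem (conj_mem (le_normalizer_yu X S ha.1) (hb.2 y hy)) (ha.2 y hy)⟩
      inv_mem' := fun {a} ha => ⟨inv_mem ha.1, fun y hy => by
        rw [show ⁅a⁻¹, y⁆ = a⁻¹ * ⁅a, y⁆⁻¹ * (a⁻¹)⁻¹ by simp only [commutatorElement_def]; group]
        exact conj_mem (le_normalizer_yu X S (X.inv_mem ha.1)) (inv_mem (ha.2 y hy))⟩ }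
  have hQK : hgrp X S ≤ QK := iSup_le fun x v hv =>
    ⟨(cj_le_iff x.2).mpr D.VX hv, fun q hq => le_yu x.2 (D.cm_V0' x.2 hv hq)⟩
  have hK2 : IsPGroup 2 K := by
    intro a
    obtain ⟨e, m, hm, hord⟩ := Nat.exists_eq_two_pow_mul_odd (orderOf_pos (a : G)).ne'
    refine ⟨e, Subtype.ext ?_⟩
    rw [SubmonoidClass.coe_pow, Subgroup.coe_one]
    set b := (a : G) ^ 2 ^ e with hb
    have hbK : b ∈ K := pow_mem a.2 _
    have hbo : Odd (orderOf b) := by
      have h1 : b ^ m = 1 := by rw [hb, ← pow_mul, ← hord, pow_orderOf_eq_one]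
      exact hm.of_dvd_nat (orderOf_dvd_of_pow_eq_one h1)
    have hby : ∀ y ∈ yu X S, ⁅b, y⁆ = 1 := fun y hy =>
      fix_of_odd (core_isPGroup X) hbo (D.yu_Q (hbK.2 y hy).1) (zc_comm (hbK.2 y hy) hbK.1)
    have hbq : ∀ q ∈ core X, ⁅b, q⁆ = 1 := fun q hq => by
      have h1 := (hQK hbK.1).2 q hq
      exact fix_of_odd (core_isPGroup X) hbo (D.yu_Q h1)
        (commutatorElement_eq_one_iff_mul_comm.mp (hby _ h1))
    have hbC : b ∈ core X := D.cent ⟨D.hgrp_X hbK.1, Subgroup.mem_centralizer_iff.mpr fun q hq =>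
      (commutatorElement_eq_one_iff_mul_comm.mp (hbq q hq)).symm⟩
    obtain ⟨f, hf⟩ := core_isPGroup X ⟨b, hbC⟩
    have h2 : b ^ 2 ^ f = 1 := congrArg Subtype.val hf
    have h3 := pow_gcd_eq_one.mpr ⟨pow_orderOf_eq_one b, h2⟩
    rwa [(Nat.Coprime.pow_right f (Nat.coprime_two_right.mpr hbo) : _ = 1), pow_one] at h3
  refine le_core (D := K) (fun a ha => D.hgrp_X ha.1) hK2 (fun x hx => ?_) (⟨hh, hfix⟩ : h ∈ K)
  rw [Grp.mem_normalizer_iff_smul]
  refine Subgroup.eq_of_le_of_card_ge ?_ (card_cj _ _).ge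
  rintro _ ⟨a, ha, rfl⟩
  refine ⟨conj_mem (le_normalizer_hgrp X S hx) ha.1, fun y hy => ?_⟩
  show ⁅x * a * x⁻¹, y⁆ ∈ zc X S
  rw [show ⁅x * a * x⁻¹, y⁆ = x * ⁅a, x⁻¹ * y * x⁆ * x⁻¹ by simp only [commutatorElement_def]; group]
  exact conj_mem (D.zc_norm hx) (ha.2 _ (Grp.mem_conj_normalizer' (le_normalizer_yu X S hx) hy))

end PairData

end Cfsg.Agent.Fus.Stell
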