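import Cfsg.Agent.Lib.Fus.StellFrame
import Cfsg.Agent.Lib.Fus.StellDegree

/-!
A point outside `V0` fixed modulo the part common to all conjugates of `V0`.
-/

set_option autoImplicit false
set_option linter.unusedSectionVars false
set_option linter.style.haveILetI false

namespace Cfsg.Agent.Fus.Stell

open Subgroup Invol.NoOff Cfsg.Agent.Block.SFour
open scoped Pointwise commutatorElement

universe u

variable {G : Type u} [Group G] [Finite G]

/-- The point `u` moved by `E`, with its conjugate configuration. -/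
structure Point (X T V E V0 U : Subgroup G) (u k : G) : Prop where
  kX : k ∈ X
  kM : k ∉ mSub X T V
  norm : X ≤ normalizer (U : Set G)
  le : ∀ j ∈ X, U ≤ MulAut.conj j • V0
  span : U ≤ ⨆ x : X, MulAut.conj (x : G) • (top T V ⊓ U)
  mem : u ∈ V
  out : u ∉ V0
  inV : u ∈ MulAut.conj k • V0
  fix : ∀ t ∈ MulAut.conj k • T, ⁅t, u⁆ ∈ U
  moved : ∃ x ∈ X, ⁅x, u⁆ ∉ U

variable {X T V Y E V0 : Subgroup G}

theorem Frame.exists_point (F : Frame X T V Y E V0) :
    ∃ (U : Subgroup G) (u k : G), Point X T V E V0 U u k := by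
  set Yp := top T V with hYp
  have hYV0 : Yp ≤ V0 := by
    have := F.good_le X.one_mem (by rw [map_one, one_smul]; exact F.ET) (top_le T V) (F.good_top' T)
    rwa [map_one, one_smul] at this
  set Kv := ⨅ x : X, MulAut.conj (x : G) • V0 with hKv
  have hKle : ∀ j ∈ X, Kv ≤ MulAut.conj j • V0 := fun j hj => iInf_le _ (⟨j, hj⟩ : X)
  have hKn : X ≤ normalizer (Kv : Set G) := by
    intro g hg
    rw [Grp.mem_normalizer_iff_smul]
    refine Subgroup.eq_of_le_of_card_ge (le_iInf fun x => ?_) (card_cj g _).ge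
    refine (Subgroup.pointwise_smul_le_pointwise_smul_iff.mpr
      (hKle (g⁻¹ * x) (X.mul_mem (X.inv_mem hg) x.2))).trans (le_of_eq ?_)
    rw [smul_smul, ← map_mul, mul_inv_cancel_left]
  set Z1 := Yp ⊓ Kv with hZ1
  set U := ⨆ x : X, MulAut.conj (x : G) • Z1 with hU
  have hUn : X ≤ normalizer (U : Set G) := le_normalizer_orbit X Z1
  have hUK : U ≤ Kv := iSup_le fun x =>
    (Subgroup.pointwise_smul_le_pointwise_smul_iff.mpr inf_le_right).trans
      (Grp.mem_normalizer_iff_smul.mp (hKn x.2)).le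
  have hne : Z1 ≠ Yp := fun e => by
    have hYK : Y ≤ Kv := (F.Y_le_top le_rfl).trans (e.ge.trans inf_le_right)
    refine F.not_orbit_le X.one_mem (Z := Kv) (fun x => ?_) (hKle 1 X.one_mem)
    exact (Subgroup.pointwise_smul_le_pointwise_smul_iff.mpr hYK).trans
      (Grp.mem_normalizer_iff_smul.mp (hKn x.2)).le
  have hTn : T ≤ normalizer (Z1 : Set G) := fun t ht => by
    rw [Grp.mem_normalizer_iff_smul, hZ1, Subgroup.smul_inf,
      Grp.mem_normalizer_iff_smul.mp ((F.good_top' T).norm ht),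
      Grp.mem_normalizer_iff_smul.mp (hKn (F.TX ht))]
  obtain ⟨z, hz, hzZ, hfix⟩ := exists_fixed_outside F.syl.2.1
    ((top_le T V).trans F.VT) inf_le_left hne hTn (F.good_top' T).norm
  obtain ⟨j, hj, hzj⟩ : ∃ j ∈ X, z ∉ MulAut.conj j • V0 := by
    by_contra hall
    push Not at hall
    exact hzZ ⟨hz, Subgroup.mem_iInf.mpr fun x => hall x x.2⟩
  have hout : j⁻¹ * z * j ∉ V0 := fun h => hzj (mem_cj.mpr h)
  have hk : j⁻¹ ∈ X := X.inv_mem hj
  have hmem : j⁻¹ * z * j ∈ V := by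
    have := conj_mem (F.XV hk) (top_le T V hz)
    rwa [inv_inv] at this
  have hU0 : U ≤ V0 := by
    have := hUK.trans (hKle 1 X.one_mem)
    rwa [map_one, one_smul] at this
  refine ⟨U, j⁻¹ * z * j, j⁻¹, hk, fun h => hout ?_, hUn, fun i hi => hUK.trans (hKle i hi),
    iSup_le fun x => le_trans (Subgroup.pointwise_smul_le_pointwise_smul_iff.mpr
      (le_inf inf_le_left (le_orbit X Z1))) (le_iSup (fun y : X => MulAut.conj (y : G) •
        (top T V ⊓ U)) x), hmem, hout, ?_, ?_, ⟨j, hj, fun h => hout ?_⟩⟩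
  · have h1 := conj_mem h.2 hz
    rw [inv_inv] at h1
    exact hYV0 h1
  · rw [mem_cj, inv_inv, show j * (j⁻¹ * z * j) * j⁻¹ = z by group]
    exact hYV0 hz
  · intro t ht
    have h1 : ⁅(j⁻¹)⁻¹ * t * j⁻¹, z⁆ ∈ U := le_orbit X Z1 (hfix _ (mem_cj.mp ht))
    have h2 := conj_mem (hUn hk) h1
    have e : j⁻¹ * ⁅(j⁻¹)⁻¹ * t * j⁻¹, z⁆ * (j⁻¹)⁻¹ = ⁅t, j⁻¹ * z * j⁆ := by
      simp only [commutatorElement_def]; group
    rwa [e] at h2
  · have e : j⁻¹ * z * j = ⁅j, j⁻¹ * z * j⁆⁻¹ * z := by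
      simp only [commutatorElement_def]; group
    rw [e]
    exact V0.mul_mem (V0.inv_mem (hU0 h)) (hYV0 hz)

namespace Point

variable {U : Subgroup G} {u k : G} (F : Frame X T V Y E V0) (P : Point X T V E V0 U u k)

include F P

theorem U_V0 : U ≤ V0 := by
  have := P.le 1 X.one_mem
  rwa [map_one, one_smul] at this

theorem U_V : U ≤ V := (P.U_V0 F).trans F.cfg.le

theorem E_X {t : G} (ht : t ∈ E) : t ∈ X := F.TX (F.ET ht)

/-- Elements of `O₂(X)` fix `u` modulo `U`. -/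
theorem core_fix {c : G} (hc : c ∈ core X) : ⁅c, u⁆ ∈ U := by
  refine P.fix c (mem_cj.mpr (F.RT ?_))
  have := conj_mem (le_normalizer_core X (X.inv_mem P.kX)) hc
  rwa [inv_inv] at this

theorem cm_V0 {t : G} (ht : t ∈ E) : ⁅t, u⁆ ∈ V0 := F.cfg.comm t ht u P.mem

theorem expand {x : G} (hx : x ∈ V0) :
    ∃ t ∈ E, ∀ s ∈ E, ⁅s, x⁆ = ⁅s, ⁅t, u⁆⁆ := by
  obtain ⟨t, ht, hfix⟩ := F.cfg.surj u P.mem P.out x hx
  refine ⟨t, ht, fun s hs => ?_⟩
  have hsn := F.cfg.norm hs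
  have h1 := hfix s hs
  rw [cm_mul F.elV hsn (F.cfg.le (P.cm_V0 F ht)) (F.cfg.le hx), mul_eq_one_iff_eq_inv,
    el_inv F.elV (cm_mem hsn (F.cfg.le hx))] at h1
  exact h1.symm

theorem exp_mul {s t t' : G} (hs : s ∈ E) (ht : t ∈ E) (ht' : t' ∈ E) :
    ⁅s, ⁅t * t', u⁆⁆ = ⁅s, ⁅t, u⁆⁆ * ⁅s, ⁅t', u⁆⁆ := by
  have hsn := F.cfg.norm hs
  have h1 := F.cfg.le (P.cm_V0 F ht)
  have h2 := F.cfg.le (P.cm_V0 F ht')
  have h3 := F.cfg.le (F.cfg.comm t ht _ h2)
  rw [cm_mul_left' F.elV (F.cfg.norm ht) (F.cfg.norm ht') P.mem,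
    cm_mul F.elV hsn (V.mul_mem h1 h2) h3, cm_mul F.elV hsn h1 h2,
    F.cfg.quad t ht s hs _ (P.cm_V0 F ht'), mul_one]

theorem exp_swap {s t : G} (hs : s ∈ E) (ht : t ∈ E) : ⁅s, ⁅t, u⁆⁆ = ⁅t, ⁅s, u⁆⁆ :=
  cm_swap F.elV (el_comm F.cfg.elE hs ht) (F.cfg.norm hs) (F.cfg.norm ht) P.mem

/-- A product in the first variable. -/
theorem exp_mul' {s s' x : G} (hs : s ∈ E) (hs' : s' ∈ E) (hx : x ∈ V0) :
    ⁅s * s', x⁆ = ⁅s, x⁆ * ⁅s', x⁆ := by
  rw [cm_mul_left' F.elV (F.cfg.norm hs) (F.cfg.norm hs') (F.cfg.le hx),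
    F.cfg.quad s' hs' s hs x hx, mul_one]

/-- `t u t⁻¹` in the `V0` of the conjugate forces `t` into `O₂(X)`. -/
theorem key {t : G} (ht : t ∈ E) (hv : ⁅t, u⁆ ∈ MulAut.conj k • V0) : t ∈ core X := by
  set v := ⁅t, u⁆ * u with hv'
  have hvV0 : v ∈ MulAut.conj k • V0 := mul_mem hv P.inV
  set u' := k * u * k⁻¹ with hu'
  have hcfg := F.cfg_smul P.kX
  have hu'V : u' ∈ V := conj_mem (F.XV P.kX) P.mem
  have hu'0 : u' ∉ MulAut.conj k • V0 := fun h => P.out (by
    have := mem_cj.mp h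
    simpa [hu', mul_assoc] using this)
  obtain ⟨s, hs, hfix⟩ := hcfg.surj u' hu'V hu'0 v hvV0
  have hEX : MulAut.conj k • E ≤ X := (cj_le_iff P.kX).mpr (F.ET.trans F.TX)
  have hvV : v ∈ V := hcfg.le hvV0
  obtain ⟨e0, he0, he0R⟩ : ∃ e ∈ E, e ∉ core X := by
    by_contra hall
    push Not at hall
    exact F.nn F.RT ⟨E ⊔ V, ⟨1, X.one_mem, by rw [map_one, one_smul]⟩, sup_le hall F.VR⟩
      (le_normalizer_core X)
  obtain ⟨s1, hs1, hs1R, hs1v⟩ : ∃ s1 ∈ MulAut.conj k • E, s1 ∉ core X ∧ ⁅s1, v⁆ ∈ U := by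
    have hexp : ∀ s1 ∈ MulAut.conj k • E, ⁅s1, v⁆ = ⁅s1, ⁅s, u'⁆⁆ := fun s1 hs1 => by
      have h1 := hfix s1 hs1
      rw [cm_mul F.elV (hcfg.norm hs1) (cm_mem (hcfg.norm hs) hu'V) hvV, mul_eq_one_iff_eq_inv,
        el_inv F.elV (cm_mem (hcfg.norm hs1) hvV)] at h1
      exact h1.symm
    by_cases hsR : s ∈ core X
    · refine ⟨k * e0 * k⁻¹, conj_mem_cj he0, fun h => he0R ?_, ?_⟩
      · have := conj_mem (le_normalizer_core X (X.inv_mem P.kX)) h
        simpa [mul_assoc] using this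
      · rw [hexp _ (conj_mem_cj he0)]
        have hc := conj_mem (le_normalizer_core X (X.inv_mem P.kX)) hsR
        rw [inv_inv] at hc
        have hsu : ⁅s, u'⁆ ∈ U := by
          have e : ⁅s, u'⁆ = k * ⁅k⁻¹ * s * k, u⁆ * k⁻¹ := by
            simp only [hu', commutatorElement_def]; group
          rw [e]
          exact conj_mem (P.norm P.kX) (P.core_fix F hc)
        exact cm_mem (P.norm (hEX (conj_mem_cj he0))) hsu
    · refine ⟨s, hs, hsR, ?_⟩
      rw [hexp s hs, cm_self F.elV (el_self hcfg.elE hs) (hcfg.norm hs) hu'V]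
      exact U.one_mem
  have htX := P.E_X F ht
  set w := t⁻¹ * s1 * t with hw
  have hwu : ⁅w, u⁆ ∈ U := by
    have e : ⁅w, u⁆ = t⁻¹ * ⁅s1, v⁆ * (t⁻¹)⁻¹ := by
      simp only [hw, hv', commutatorElement_def]; group
    rw [e]
    exact conj_mem (P.norm (X.inv_mem htX)) hs1v
  -- the stabiliser of `u` modulo `U`
  let St : Subgroup G :=
    { carrier := {x | x ∈ X ∧ ⁅x, u⁆ ∈ U}
      one_mem' := ⟨X.one_mem, by rw [commutatorElement_one_left]; exact U.one_mem⟩
      mul_mem' := fun {a b} ha hb => ⟨X.mul_mem ha.1 hb.1, by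
        rw [show ⁅a * b, u⁆ = a * ⁅b, u⁆ * a⁻¹ * ⁅a, u⁆ by simp only [commutatorElement_def]; group]
        exact U.mul_mem (conj_mem (P.norm ha.1) hb.2) ha.2⟩
      inv_mem' := fun {a} ha => ⟨X.inv_mem ha.1, by
        rw [show ⁅a⁻¹, u⁆ = a⁻¹ * ⁅a, u⁆⁻¹ * (a⁻¹)⁻¹ by simp only [commutatorElement_def]; group]
        exact conj_mem (P.norm (X.inv_mem ha.1)) (U.inv_mem ha.2)⟩ }
  have hSt : St < X := by
    refine lt_of_le_of_ne (fun x hx => hx.1) fun e => ?_
    obtain ⟨x, hx, hxu⟩ := P.moved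
    exact hxu (e.ge hx : x ∈ St).2
  have hStM : St ≤ MulAut.conj k • mSub X T V := by
    rw [Subgroup.subset_pointwise_smul_iff, ← map_inv]
    refine F.le_M X.one_mem ?_ (cj_lt_of_mem (X.inv_mem P.kX) hSt) ?_
    · rw [map_one, one_smul]; exact F.A0_le
    · rw [map_one, one_smul, map_inv, ← Subgroup.pointwise_smul_subset_iff]
      have hkT : MulAut.conj k • T ≤ St := fun y hy =>
        ⟨(cj_le_iff P.kX).mpr F.TX hy, P.fix y hy⟩
      exact (Subgroup.pointwise_smul_le_pointwise_smul_iff.mpr (sup_le F.ET F.VT)).trans hkT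
  have hwX : w ∈ X := X.mul_mem (X.mul_mem (X.inv_mem htX) (hEX hs1)) htX
  have hwE : w ∈ MulAut.conj (t⁻¹ * k) • E := by
    rw [map_mul, mul_smul, mem_cj]
    simpa [hw, mul_assoc] using hs1
  have hwR : w ∉ core X := fun h => hs1R (by
    have h1 := conj_mem (le_normalizer_core X htX) h
    simpa [hw, mul_assoc] using h1)
  have h1 := F.root_unique (X.mul_mem (X.inv_mem htX) P.kX) P.kX hwE hwR
    (hStM ⟨hwX, hwu⟩)
  have h2 : k⁻¹ * t⁻¹ * k ∈ mSub X T V := by
    refine F.mem_of_smul (X.mul_mem (X.mul_mem (X.inv_mem P.kX) (X.inv_mem htX)) P.kX) ?_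
    rw [show k⁻¹ * t⁻¹ * k = k⁻¹ * (t⁻¹ * k) by group, map_mul, mul_smul, h1, smul_smul,
      ← map_mul, inv_mul_cancel, map_one, one_smul]
  by_contra htR
  have htk : t ∈ MulAut.conj k • mSub X T V := by
    rw [mem_cj]
    have := (mSub X T V).inv_mem h2
    simpa [mul_assoc] using this
  have h3 := F.root_unique X.one_mem P.kX (by rw [map_one, one_smul]; exact ht) htR htk
  rw [map_one, one_smul] at h3
  exact P.kM (F.mem_of_smul P.kX h3.symm)

theorem V0_index : (MulAut.conj k • V0).relIndex V = V0.relIndex V := by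
  conv_lhs => rw [← F.smul_V P.kX]
  exact relIndex_smul k V0 V

/-- The commutators of `E` on `V0` lie in `U`. -/
theorem comm_U : ∀ t ∈ E, ∀ x ∈ V0, ⁅t, x⁆ ∈ U := by
  by_contra hall
  push Not at hall
  haveI : IsMulCommutative V := F.elV.1
  letI : CommGroup V := { (inferInstance : Group V) with
    mul_comm := fun a b => Subtype.ext (el_comm F.elV a.2 b.2) }
  let FU : Subgroup G :=
    { carrier := {t | t ∈ E ∧ ∀ x ∈ V0, ⁅t, x⁆ ∈ U}
      one_mem' := ⟨E.one_mem, fun x _ => by rw [commutatorElement_one_left]; exact U.one_mem⟩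
      mul_mem' := fun {a b} ha hb => ⟨E.mul_mem ha.1 hb.1, fun x hx => by
        rw [P.exp_mul' F ha.1 hb.1 hx]; exact U.mul_mem (ha.2 x hx) (hb.2 x hx)⟩
      inv_mem' := fun {a} ha => ⟨E.inv_mem ha.1, by rw [el_inv F.cfg.elE ha.1]; exact ha.2⟩ }
  have hFE : FU ≤ E := fun _ h => h.1
  have hrad := F.cfg.rad U (P.U_V F) FU hFE (fun t ht => ht.2) hall
  have hBF : ∀ c ∈ E, c ∈ core X → c ∈ FU := fun c hc hcR => ⟨hc, fun x hx => by
    obtain ⟨t, ht, he⟩ := P.expand F hx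
    rw [he c hc, P.exp_swap F hc ht]
    exact cm_mem (P.norm (P.E_X F ht)) (P.core_fix F hcR)⟩
  obtain ⟨E1, hE1, hmeet, -, hcard⟩ := exists_complement (F := FU) F.cfg.elE
  haveI : IsMulCommutative E1 := (isEl_mono F.cfg.elE hE1).1
  letI : CommGroup E1 := { (inferInstance : Group E1) with
    mul_comm := fun a b => Subtype.ext (el_comm F.cfg.elE (hE1 a.2) (hE1 b.2)) }
  letI : Module (ZMod 2) (Additive E1) := AddCommGroup.zmodModule (fun w => by
    refine Additive.toMul.injective (Subtype.ext ?_)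
    exact F.cfg.elE.2 _ (hE1 (Additive.toMul w).2))
  set K := (MulAut.conj k • V0).subgroupOf V
  letI : Module (ZMod 2) (Additive (V ⧸ K)) := AddCommGroup.zmodModule (fun w => by
    obtain ⟨q, rfl⟩ := Additive.ofMul.surjective w
    obtain ⟨a, rfl⟩ := QuotientGroup.mk_surjective q
    refine Additive.toMul.injective ?_
    show (QuotientGroup.mk a : V ⧸ K) ^ 2 = 1
    rw [← QuotientGroup.mk_pow, show a ^ 2 = 1 from Subtype.ext (F.elV.2 _ a.2),
      QuotientGroup.mk_one])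
  let D : ∀ t, t ∈ E → V := fun t ht => ⟨⁅t, u⁆, F.cfg.le (P.cm_V0 F ht)⟩
  let φ : Additive E1 → Additive (V ⧸ K) := fun t =>
    Additive.ofMul (QuotientGroup.mk (D _ (hE1 (Additive.toMul t).2)))
  have hev : Even (Nat.card {t : Additive E1 // φ t = 0}) := by
    refine even_card_zeros φ (fun a b x y => ?_) ?_
    · have key : ∀ x : Additive E1, φ (x + a + b) + φ (x + a) + φ (x + b) + φ x =
          Additive.ofMul (QuotientGroup.mk (⟨⁅((Additive.toMul a : E1) : G), ⁅((Additive.toMul b : E1) : G), u⁆⁆,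
            cm_mem (F.cfg.norm (hE1 (Additive.toMul a).2))
              (F.cfg.le (P.cm_V0 F (hE1 (Additive.toMul b).2)))⟩ : V) : V ⧸ K) := by
        intro x
        refine congrArg Additive.ofMul ?_
        show ((QuotientGroup.mk (D _ (hE1 (Additive.toMul (x + a + b)).2)) : V ⧸ K) *
          QuotientGroup.mk (D _ (hE1 (Additive.toMul (x + a)).2)) *
          QuotientGroup.mk (D _ (hE1 (Additive.toMul (x + b)).2)) *
          QuotientGroup.mk (D _ (hE1 (Additive.toMul x).2))) = _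
        rw [← QuotientGroup.mk_mul, ← QuotientGroup.mk_mul, ← QuotientGroup.mk_mul]
        refine congrArg _ ?_
        set x' := ((Additive.toMul x : E1) : G) with hx'
        set a' := ((Additive.toMul a : E1) : G) with ha'
        set b' := ((Additive.toMul b : E1) : G) with hb'
        have hxE : x' ∈ E := hE1 (Additive.toMul x).2
        have haE : a' ∈ E := hE1 (Additive.toMul a).2
        have hbE : b' ∈ E := hE1 (Additive.toMul b).2
        have dmul : ∀ s t (hs : s ∈ E) (ht : t ∈ E), D (s * t) (E.mul_mem hs ht) = D s hs * D t ht *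
            (⟨⁅s, ⁅t, u⁆⁆, cm_mem (F.cfg.norm hs) (F.cfg.le (P.cm_V0 F ht))⟩ : V) := fun s t hs ht =>
          Subtype.ext (cm_mul_left' F.elV (F.cfg.norm hs) (F.cfg.norm ht) P.mem)
        have hw : (⟨⁅x' * a', ⁅b', u⁆⁆, cm_mem (F.cfg.norm (E.mul_mem hxE haE))
            (F.cfg.le (P.cm_V0 F hbE))⟩ : V) =
            (⟨⁅x', ⁅b', u⁆⁆, cm_mem (F.cfg.norm hxE) (F.cfg.le (P.cm_V0 F hbE))⟩ : V) *
            ⟨⁅a', ⁅b', u⁆⁆, cm_mem (F.cfg.norm haE) (F.cfg.le (P.cm_V0 F hbE))⟩ :=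
          Subtype.ext (P.exp_mul' F hxE haE (P.cm_V0 F hbE))
        show D (x' * a' * b') (E.mul_mem (E.mul_mem hxE haE) hbE) * D (x' * a') (E.mul_mem hxE haE) *
          D (x' * b') (E.mul_mem hxE hbE) * D x' hxE = _
        rw [dmul (x' * a') b' (E.mul_mem hxE haE) hbE, dmul x' b' hxE hbE, hw]
        have hsq : ∀ p : V, p * p = 1 := fun p => Subtype.ext (el_self F.elV p.2)
        generalize D (x' * a') (E.mul_mem hxE haE) = p
        generalize D b' hbE = q
        generalize D x' hxE = o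
        generalize (⟨⁅x', ⁅b', u⁆⁆, cm_mem (F.cfg.norm hxE) (F.cfg.le (P.cm_V0 F hbE))⟩ : V) = r
        generalize (⟨⁅a', ⁅b', u⁆⁆, cm_mem (F.cfg.norm haE) (F.cfg.le (P.cm_V0 F hbE))⟩ : V) = w
        calc p * q * (r * w) * p * (o * q * r) * o = (p * p) * (q * q) * (r * r) * (o * o) * w := by
              ac_rfl
          _ = w := by simp only [hsq, one_mul]
      rw [key x, key y]
    · show Nat.card (V ⧸ K) ^ 2 < Nat.card E1
      rw [hcard, show Nat.card (V ⧸ K) = (MulAut.conj k • V0).relIndex V from rfl, P.V0_index F]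
      exact hrad
  have hone : ∀ t : Additive E1, φ t = 0 → t = 0 := by
    intro t ht
    have h1 : D _ (hE1 (Additive.toMul t).2) ∈ K := (QuotientGroup.eq_one_iff _).mp ht
    have h2 := P.key F (hE1 (Additive.toMul t).2) h1
    exact Additive.toMul.injective (Subtype.ext
      (hmeet _ (Additive.toMul t).2 (hBF _ (hE1 (Additive.toMul t).2) h2)))
  have h0 : φ 0 = 0 := by
    refine congrArg Additive.ofMul ((QuotientGroup.eq_one_iff _).mpr ?_)
    show ⁅((1 : E1) : G), u⁆ ∈ MulAut.conj k • V0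
    rw [OneMemClass.coe_one, commutatorElement_one_left]
    exact one_mem _
  haveI : Unique {t : Additive E1 // φ t = 0} :=
    { default := ⟨0, h0⟩, uniq := fun t => Subtype.ext (hone t.1 t.2) }
  rw [Nat.card_unique] at hev
  exact Nat.not_even_one hev

/-- The index of `E ∩ O₂(X)` in `E`. -/
theorem index_le : (core X).relIndex E ≤ V0.relIndex V := by
  rw [← P.V0_index F]
  set K := (MulAut.conj k • V0).subgroupOf V
  let D : E → V ⧸ K := fun t => QuotientGroup.mk ⟨⁅(t : G), u⁆, F.cfg.le (P.cm_V0 F t.2)⟩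
  refine Nat.card_le_card_of_injective (fun q : E ⧸ (core X).subgroupOf E => D q.out) fun p q h => ?_
  rw [← Quotient.out_eq' p, ← Quotient.out_eq' q]
  refine QuotientGroup.eq.mpr ?_
  have h1 : (⁅((p.out : E) : G), u⁆)⁻¹ * ⁅((q.out : E) : G), u⁆ ∈ MulAut.conj k • V0 :=
    (QuotientGroup.eq (s := K)).mp h
  show ((p.out : E) : G)⁻¹ * ((q.out : E) : G) ∈ core X
  rw [el_inv F.cfg.elE p.out.2]
  refine P.key F (E.mul_mem p.out.2 q.out.2) ?_
  rw [cm_mul_left' F.elV (F.cfg.norm p.out.2) (F.cfg.norm q.out.2) P.mem]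
  refine mul_mem ?_ (P.le k P.kX (P.comm_U F _ p.out.2 _ (P.cm_V0 F q.out.2)))
  rwa [el_inv F.elV (F.cfg.le (P.cm_V0 F p.out.2))] at h1

end Point

end Cfsg.Agent.Fus.Stell
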