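import Cfsg.Agent.Lib.Invol.NoOff.Image

/-!
Quadratic action on a partition-like system of half dimensional subspaces, without an inverted
element of order three: the acting subgroup has at most the square root of the order of a point.
-/

set_option autoImplicit false
set_option linter.unusedSectionVars false
set_option linter.style.haveILetI false

namespace Cfsg.Agent.Fus.Stell

open Subgroup Invol.NoOff Cfsg.Agent.Block.SFour
open scoped Pointwise

universe u v

variable {X : Type u} [Group X] {W : Type v} [AddCommGroup W] [Module (ZMod 2) W]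
  (ρ : Representation (ZMod 2) X W)

/-- The elements moving everything into `Z` and fixing `Z`. -/
def pgrp (Z : Submodule (ZMod 2) W) : Subgroup X where
  carrier := {g | (∀ w, ρ g w + w ∈ Z) ∧ ∀ w ∈ Z, ρ g w = w}
  one_mem' := ⟨fun w => by rw [map_one]; exact (add_self_zero w).symm ▸ Z.zero_mem,
    fun w _ => by rw [map_one]; rfl⟩
  mul_mem' := fun {g h} hg hh => ⟨fun w => by
      have e : ρ (g * h) w + w = (ρ g (ρ h w) + ρ h w) + (ρ h w + w) := by
        rw [rho_mul, add_assoc, ← add_assoc (ρ h w), add_self_zero, zero_add]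
      rw [e]; exact Z.add_mem (hg.1 _) (hh.1 w),
    fun w hw => by rw [rho_mul, hh.2 w hw, hg.2 w hw]⟩
  inv_mem' := fun {g} hg => ⟨fun w => by
      have := hg.1 (ρ g⁻¹ w)
      rwa [rho_apply_inv, add_comm] at this,
    fun w hw => by
      conv_lhs => rw [← hg.2 w hw]
      exact rho_inv_apply ρ g w⟩

variable {ρ}

theorem map_map_rho (g h : X) (Z : Submodule (ZMod 2) W) :
    (Z.map (ρ h)).map (ρ g) = Z.map (ρ (g * h)) := by
  rw [← Submodule.map_comp]
  congr 1
  exact LinearMap.ext fun w => (rho_mul ρ g h w).symm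

theorem conj_mem_pgrp {Z : Submodule (ZMod 2) W} {g : X} (hg : g ∈ pgrp ρ Z) (x : X) :
    x * g * x⁻¹ ∈ pgrp ρ (Z.map (ρ x)) := by
  refine ⟨fun w => ⟨_, hg.1 (ρ x⁻¹ w), ?_⟩, ?_⟩
  · rw [map_add, rho_apply_inv, ← rho_mul, ← rho_mul]
  · rintro _ ⟨w, hw, rfl⟩
    rw [← rho_mul, inv_mul_cancel_right, rho_mul, hg.2 w hw]

theorem map_eq_of_mem_pgrp {Z : Submodule (ZMod 2) W} {g : X} (hg : g ∈ pgrp ρ Z) :
    Z.map (ρ g) = Z :=
  le_antisymm (by rintro _ ⟨w, hw, rfl⟩; rwa [hg.2 w hw]) fun w hw => ⟨w, hw, hg.2 w hw⟩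

variable [Finite X] [Finite W]

theorem eq_of_le_of_card {U U' : Submodule (ZMod 2) W} (h : U ≤ U')
    (hc : Nat.card U' ≤ Nat.card U) : U = U' :=
  eq_of_le_of_not_lt h fun hlt => (card_lt hlt).not_ge hc

set_option maxHeartbeats 1000000 in
/-- The bound, for a faithful action. -/
theorem ti_faithful (hρ : Function.Injective ρ) (hnt : NoThree X) {C : Submodule (ZMod 2) W}
    (hpair : ∀ g h : X, C.map (ρ g) ≠ C.map (ρ h) →
      C.map (ρ g) ⊓ C.map (ρ h) = ⊥ ∧ C.map (ρ g) ⊔ C.map (ρ h) = ⊤)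
    (htwo : ∃ g : X, C.map (ρ g) ≠ C) {A : Subgroup X} (hA : A ≤ pgrp ρ C) (hA1 : A ≠ ⊥) :
    Nat.card A ^ 2 ≤ Nat.card C ∧
      (Nat.card A ^ 2 = Nat.card C → ∀ w : W, ∃ g : X, w ∈ C.map (ρ g)) := by
  classical
  let P := {Z : Submodule (ZMod 2) W // ∃ g : X, C.map (ρ g) = Z}
  haveI : Finite (Submodule (ZMod 2) W) := Finite.of_injective _ SetLike.coe_injective
  letI : Fintype P := Fintype.ofFinite _
  letI : Fintype X := Fintype.ofFinite _
  let act : X → P → P := fun x z => ⟨z.1.map (ρ x), by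
    obtain ⟨g, hg⟩ := z.2
    exact ⟨x * g, by rw [← hg, map_map_rho]⟩⟩
  have hact : ∀ x y z, act x (act y z) = act (x * y) z := fun x y z =>
    Subtype.ext (map_map_rho x y z.1)
  have hone : ∀ z, act 1 z = z := fun z => Subtype.ext (by
    show z.1.map (ρ 1) = z.1
    rw [map_one]; exact Submodule.map_id _)
  have hinj : ∀ x z z', act x z = act x z' → z = z' := fun x z z' h => by
    rw [← hone z, ← hone z', ← inv_mul_cancel x, ← hact, h, hact]
  have hc : ∀ z : P, Nat.card z.1 = Nat.card C := fun z => by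
    obtain ⟨g, hg⟩ := z.2
    rw [← hg, card_map_rho]
  let inf : P := ⟨C, 1, by rw [map_one]; exact Submodule.map_id _⟩
  have hmeet : ∀ z z' : P, z ≠ z' → ∀ w : W, w ∈ z.1 → w ∈ z'.1 → w = 0 := by
    intro z z' hne w h1 h2
    obtain ⟨g, hg⟩ := z.2
    obtain ⟨g', hg'⟩ := z'.2
    have := (hpair g g' (by rw [hg, hg']; exact fun e => hne (Subtype.ext e))).1
    rw [hg, hg'] at this
    have h3 : w ∈ z.1 ⊓ z'.1 := ⟨h1, h2⟩
    rw [this] at h3
    exact (Submodule.mem_bot _).mp h3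
  have hspan : ∀ z z' : P, z ≠ z' → z.1 ⊔ z'.1 = ⊤ := by
    intro z z' hne
    obtain ⟨g, hg⟩ := z.2
    obtain ⟨g', hg'⟩ := z'.2
    have := (hpair g g' (by rw [hg, hg']; exact fun e => hne (Subtype.ext e))).2
    rwa [hg, hg'] at this
  have hext : ∀ (x y : X) (z z' : P), z ≠ z' → (∀ w ∈ z.1, ρ x w = ρ y w) →
      (∀ w ∈ z'.1, ρ x w = ρ y w) → x = y := by
    intro x y z z' hne h1 h2
    refine hρ (LinearMap.ext fun w => ?_)
    obtain ⟨p, hp, q, hq, rfl⟩ := Submodule.mem_sup.mp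
      ((hspan z z' hne).symm ▸ (Submodule.mem_top : w ∈ (⊤ : Submodule (ZMod 2) W)))
    rw [map_add, map_add, h1 p hp, h2 q hq]
  have hsq : ∀ (z : P) (g : X), g ∈ pgrp ρ z.1 → g * g = 1 := by
    intro z g hg
    refine hρ (LinearMap.ext fun w => ?_)
    rw [map_one, rho_mul, Module.End.one_apply]
    have h1 := hg.2 _ (hg.1 w)
    rw [map_add, add_comm (ρ g w) w] at h1
    exact add_right_cancel h1
  have hinv : ∀ (z : P) (g : X), g ∈ pgrp ρ z.1 → g⁻¹ = g := fun z g hg =>
    inv_eq_of_mul_eq_one_right (hsq z g hg)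
  have hstab : ∀ (z z' : P) (g : X), g ∈ pgrp ρ z.1 → act g z' = z' → g ≠ 1 → z' = z := by
    intro z z' g hg he hg1
    by_contra hne
    refine hg1 (hext g 1 z z' (Ne.symm hne) (fun w hw => ?_) fun w hw => ?_)
    · rw [hg.2 w hw, map_one]; rfl
    · rw [map_one, Module.End.one_apply]
      have h1 : ρ g w ∈ z'.1 := (congrArg Subtype.val he).le ⟨w, hw, rfl⟩
      have h2 := hmeet z z' (Ne.symm hne) _ (hg.1 w) (z'.1.add_mem h1 hw)
      rw [← sub_eq_add', sub_eq_zero] at h2
      exact h2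
  have huniq : ∀ (z z' : P) (g : X), g ∈ pgrp ρ z.1 → g ∈ pgrp ρ z'.1 → g ≠ 1 → z' = z :=
    fun z z' g hg hg' hg1 => hstab z z' g hg (Subtype.ext (map_eq_of_mem_pgrp hg')) hg1
  have hcomm : ∀ (z z' : P) (g h : X), g ∈ pgrp ρ z.1 → g ≠ 1 → h ∈ pgrp ρ z'.1 → h ≠ 1 →
      g * h = h * g → z = z' := by
    intro z z' g h hg hg1 hh hh1 hgh
    have h1 : g ∈ pgrp ρ (act h z).1 := by
      have := conj_mem_pgrp hg h
      rwa [← hgh, mul_inv_cancel_right] at this
    exact hstab z' z h hh (huniq z _ g hg h1 hg1) hh1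
  set q := Nat.card (pgrp ρ C) with hq
  set c := Nat.card C with hcdef
  have hqz : ∀ z : P, q ≤ Nat.card (pgrp ρ z.1) := by
    intro z
    obtain ⟨x, hx⟩ := z.2
    exact Nat.card_le_card_of_injective
      (fun g : pgrp ρ C => (⟨x * g * x⁻¹, hx ▸ conj_mem_pgrp g.2 x⟩ : pgrp ρ z.1))
      fun g g' h => by simpa using congrArg Subtype.val h
  have hAq : Nat.card A ≤ q := Nat.card_le_card_of_injective _ (Subgroup.inclusion_injective hA)
  have hq2 : 2 ≤ q := le_trans ((Subgroup.one_lt_card_iff_ne_bot A).mpr hA1) hAq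
  obtain ⟨g0, hg0⟩ := htwo
  have hne0 : act g0 inf ≠ inf := fun h => hg0 (congrArg Subtype.val h)
  -- many elements exchange `C` and one further point
  obtain ⟨y, hy, T, hT, hTs⟩ : ∃ y : P, y ≠ inf ∧ ∃ T : Finset P, q - 1 ≤ T.card ∧
      ∀ z ∈ T, z ≠ inf ∧ z ≠ y ∧ ∃ s ∈ pgrp ρ z.1, s ≠ 1 ∧ act s inf = y := by
    set Z0 := (Finset.univ : Finset P).erase inf
    set S := Z0.sigma fun z => Finset.univ.filter fun s : X => s ∈ pgrp ρ z.1 ∧ s ≠ 1
    have hZ0 : Z0.Nonempty := ⟨act g0 inf, by simp [Z0, hne0]⟩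
    have hmaps : ∀ p ∈ S, act p.2 inf ∈ Z0 := by
      intro p hp
      simp only [S, Z0, Finset.mem_sigma, Finset.mem_filter, Finset.mem_erase] at hp ⊢
      exact ⟨fun h => hp.1.1 (hstab p.1 inf p.2 hp.2.2.1 h hp.2.2.2).symm, Finset.mem_univ _⟩
    have hS : Z0.card * (q - 1) ≤ S.card := by
      rw [Finset.card_sigma, ← smul_eq_mul]
      refine Finset.card_nsmul_le_sum _ _ _ fun z _ => ?_
      have e : (Finset.univ.filter fun s : X => s ∈ pgrp ρ z.1 ∧ s ≠ 1) =
          (Finset.univ.filter fun s : X => s ∈ pgrp ρ z.1).erase 1 := by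
        ext s; simp [and_comm]
      rw [e, Finset.card_erase_of_mem (by simp)]
      refine Nat.sub_le_sub_right ((hqz z).trans (le_of_eq ?_)) 1
      rw [Nat.card_eq_fintype_card]
      exact Fintype.card_subtype _
    obtain ⟨y, hy, hfib⟩ := Finset.exists_le_card_fiber_of_mul_le_card_of_maps_to hmaps hZ0 hS
    refine ⟨y, (Finset.mem_erase.mp hy).1, (S.filter fun p => act p.2 inf = y).image Sigma.fst,
      ?_, ?_⟩
    · rw [Finset.card_image_of_injOn]
      · exact hfib
      · rintro ⟨z, s⟩ hp ⟨z', s'⟩ hp' (rfl : z = z')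
        simp only [S, Z0, Finset.coe_filter, Set.mem_ofPred_eq, Finset.mem_sigma, Finset.mem_filter,
          Finset.mem_erase] at hp hp'
        obtain ⟨⟨⟨hz, -⟩, -, hs, -⟩, he⟩ := hp
        obtain ⟨⟨-, -, hs', -⟩, he'⟩ := hp'
        have hfix : act (s⁻¹ * s') inf = inf := by
          rw [← hact, he', ← he, hact, inv_mul_cancel, hone]
        by_contra hne
        refine hz (hstab z inf _ ((pgrp ρ z.1).mul_mem ((pgrp ρ z.1).inv_mem hs) hs') hfix ?_).symm
        exact fun e => hne (by rw [inv_mul_eq_one.mp e])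
    · intro z hz
      simp only [S, Z0, Finset.mem_image, Finset.mem_filter, Finset.mem_sigma,
        Finset.mem_erase] at hz
      obtain ⟨⟨z', s⟩, ⟨⟨⟨hz', -⟩, -, hs, hs1⟩, he⟩, rfl⟩ := hz
      refine ⟨hz', fun e => (Finset.mem_erase.mp hy).1 ?_, s, hs, hs1, he⟩
      have e' : z' = y := e
      subst e'
      refine (hinj s inf z' ?_).symm
      rw [he]; exact (Subtype.ext (map_eq_of_mem_pgrp hs)).symm
  -- the exchanging elements
  have hswap : ∀ z : P, z ≠ inf → ∀ s ∈ pgrp ρ z.1, act s inf = y →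
      act s y = inf ∧ (∀ w ∈ y.1, ρ s w ∈ C) ∧ (∀ w ∈ C, ρ s w ∈ y.1) := by
    intro z _ s hs he
    have h2 : act s y = inf := by rw [← he, hact, hsq z s hs, hone]
    exact ⟨h2, fun w hw => (congrArg Subtype.val h2).le ⟨w, hw, rfl⟩,
      fun w hw => (congrArg Subtype.val he).le ⟨w, hw, rfl⟩⟩
  have hrel : ∀ (z : P) (b s : X), z ≠ inf → b ∈ pgrp ρ C → s ∈ pgrp ρ z.1 → act s inf = y →
      act b y = z → ∀ w ∈ y.1, ρ s w = ρ b w + w := by
    intro z b s hz hb hs he hbz w hw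
    have h1 : ρ s w + w ∈ z.1 := hs.1 w
    have h2 : ρ b w ∈ z.1 := (congrArg Subtype.val hbz).le ⟨w, hw, rfl⟩
    have h3 := hmeet z inf hz (ρ s w + w + ρ b w) (z.1.add_mem h1 h2) (by
      show ρ s w + w + ρ b w ∈ C
      rw [add_assoc, add_comm w]
      exact C.add_mem ((hswap z hz s hs he).2.1 w hw) (hb.1 w))
    rw [add_assoc, add_comm w] at h3
    rw [← neg_eq_self (ρ b w + w)]
    exact eq_neg_of_add_eq_zero_left h3
  have caseI : ∀ (z : P) (b s : X), z ≠ inf → b ∈ pgrp ρ C → s ∈ pgrp ρ z.1 → act s inf = y →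
      act b y = z → False := by
    intro z b s hz hb hs he hbz
    have hr := hrel z b s hz hb hs he hbz
    obtain ⟨-, hsy, hsC⟩ := hswap z hz s hs he
    have hss : ∀ v, ρ s (ρ s v) = v := fun v => by
      rw [← rho_mul, hsq z s hs, map_one]; rfl
    have hhy : ∀ w ∈ y.1, ρ (b * s) w = ρ s w := fun w hw => by
      rw [rho_mul, hb.2 _ (hsy w hw)]
    have hhC : ∀ v ∈ C, ρ (b * s) v = ρ s v + v := fun v hv => by
      rw [rho_mul]
      have h := hr _ (hsC v hv)
      rw [hss] at h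
      calc ρ b (ρ s v) = (ρ b (ρ s v) + ρ s v) + ρ s v := by
            rw [add_assoc, add_self_zero, add_zero]
        _ = ρ s v + v := by rw [← h, add_comm]
    have h2C : ∀ v ∈ C, ρ (b * s) (ρ (b * s) v) = ρ s v := fun v hv => by
      rw [hhC v hv, map_add, hhy _ (hsC v hv), hhC v hv, hss, ← add_assoc, add_comm v,
        add_assoc, add_self_zero, add_zero]
    have h3 : (b * s) ^ 3 = 1 := by
      refine hext _ 1 inf y hy.symm (fun v hv => ?_) fun w hw => ?_ <;>
        rw [map_one, Module.End.one_apply, pow_succ', pow_two, rho_mul ρ (b * s) (b * s * (b * s)),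
          rho_mul ρ (b * s) (b * s)]
      · rw [h2C v hv, hhy _ (hsC v hv), hss]
      · rw [hhy w hw, h2C _ (hsy w hw), hss]
    have hne1 : b * s ≠ 1 := by
      intro e
      have hCne : C ≠ ⊥ := fun e0 => hg0 (by rw [e0, Submodule.map_bot])
      obtain ⟨v, hv, hv0⟩ := Submodule.exists_mem_ne_zero_of_ne_bot hCne
      have h1 := hhC v hv
      rw [e, map_one, Module.End.one_apply, right_eq_add] at h1
      exact hv0 (by rw [← hss v, h1, map_zero])
    refine hnt ⟨b, b * s, ⟨1, by rw [pow_one, pow_two]; exact hsq inf b hb⟩, h3, hne1, ?_⟩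
    rw [mul_inv_rev, hinv z s hs, hinv inf b hb, ← mul_assoc, hsq inf b hb, one_mul]
  have caseII : ∀ (z z' : P) (b s s' : X), z ≠ inf → z' ≠ inf → z ≠ z' → b ∈ pgrp ρ C →
      s ∈ pgrp ρ z.1 → s ≠ 1 → act s inf = y → s' ∈ pgrp ρ z'.1 → s' ≠ 1 → act s' inf = y →
      act b z = z' → False := by
    intro z z' b s s' hz hz' hzz hb hs hs1 he hs' hs1' he' hbz
    set x := s * s' with hx
    have hss : s * s = 1 := hsq z s hs
    have hss' : s' * s' = 1 := hsq z' s' hs'
    have hsx : ∀ i : ℕ, s * x ^ i = (x ^ i)⁻¹ * s := by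
      intro i
      have h1 : s * x * s⁻¹ = x⁻¹ := by
        rw [hx, mul_inv_rev, hinv z s hs, hinv z' s' hs', ← mul_assoc, hss, one_mul]
      rw [← inv_pow, ← h1, conj_pow, inv_mul_cancel_right]
    have hs'x : s' = s * x := by rw [hx, ← mul_assoc, hss, one_mul]
    have hsx' : ∀ i : ℕ, s' * x ^ i = (x ^ i)⁻¹ * s' := by
      intro i
      rw [hs'x, mul_assoc, (Commute.self_pow x i).eq, ← mul_assoc, hsx, mul_assoc]
    -- the order of `x` is odd
    have hodd : Odd (orderOf x) := by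
      rw [← Nat.not_even_iff_odd]
      rintro ⟨m, hm⟩
      have hpos := orderOf_pos x
      set c0 := x ^ m with hc0
      have hc1 : c0 ≠ 1 := fun e => by
        have := Nat.le_of_dvd (by omega) (orderOf_dvd_of_pow_eq_one e)
        omega
      have hcc : c0⁻¹ = c0 := inv_eq_of_mul_eq_one_right (by
        rw [hc0, ← pow_add, ← hm, pow_orderOf_eq_one])
      have hcs : s * c0 = c0 * s := by rw [hc0, hsx, ← hc0, hcc]
      have hcs' : s' * c0 = c0 * s' := by rw [hc0, hsx', ← hc0, hcc]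
      -- `s * c0` belongs to a point
      obtain ⟨z'', hz''⟩ : ∃ z'' : P, s * c0 ∈ pgrp ρ z''.1 := by
        obtain ⟨j, hj⟩ | ⟨j, hj⟩ := Nat.even_or_odd m
        · refine ⟨act (x ^ j)⁻¹ z, ?_⟩
          have h1 := conj_mem_pgrp hs (x ^ j)⁻¹
          rw [inv_inv, ← hsx, mul_assoc, ← pow_add, ← hj] at h1
          exact h1
        · refine ⟨act (x ^ j)⁻¹ z', ?_⟩
          have h1 := conj_mem_pgrp hs' (x ^ j)⁻¹
          rw [inv_inv, ← hsx', hs'x, mul_assoc, mul_assoc, ← pow_add, ← pow_succ',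
            show j + j + 1 = m by omega] at h1
          exact h1
      have hscne : ∀ h : X, h = s * c0 → h = 1 → c0 = s := fun h e e1 => by
        rw [e, mul_eq_one_iff_inv_eq, hinv z s hs] at e1; exact e1.symm
      have hcz : c0 ∈ pgrp ρ z.1 := by
        by_cases h1 : s * c0 = 1
        · rw [hscne _ rfl h1]; exact hs
        · have : s * (s * c0) = s * c0 * s := by rw [mul_assoc s c0 s, ← hcs]
          have e := hcomm z z'' s (s * c0) hs hs1 hz'' h1 this
          have h2 := (pgrp ρ z.1).mul_mem hs (e ▸ hz'')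
          rwa [← mul_assoc, hss, one_mul] at h2
      exact hzz (hcomm z z' c0 s' hcz hc1 hs' hs1' hcs'.symm)
    obtain ⟨k, hk⟩ := hodd
    obtain ⟨hsw, hsy, hsC⟩ := hswap z hz s hs he
    obtain ⟨hsw', hsy', hsC'⟩ := hswap z' hz' s' hs' he'
    -- the relation on `y`
    have hr : ∀ w ∈ y.1, ρ b w + w = ρ s w + ρ s' w := by
      intro w hw
      have h1 : ρ b (ρ s w + w) ∈ z'.1 := (congrArg Subtype.val hbz).le ⟨_, hs.1 w, rfl⟩
      have h2 : ρ s' w + w ∈ z'.1 := hs'.1 w
      rw [map_add, hb.2 _ (hsy w hw)] at h1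
      have e : ρ s w + ρ b w + (ρ s' w + w) = (ρ b w + w) + (ρ s w + ρ s' w) := by abel
      have h3 := hmeet z' inf hz' _ (z'.1.add_mem h1 h2) (by
        show _ ∈ C
        rw [e]
        exact C.add_mem (hb.1 w) (C.add_mem (hsy w hw) (hsy' w hw)))
      rw [e] at h3
      rw [← neg_eq_self (ρ s w + ρ s' w)]
      exact eq_neg_of_add_eq_zero_left h3
    have hxinf : ∀ i : ℕ, act (x ^ i) inf = inf ∧ act (x ^ i) y = y := by
      intro i
      induction i with
      | zero => rw [pow_zero]; exact ⟨hone _, hone _⟩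
      | succ i ih =>
        rw [pow_succ', ← hact x (x ^ i) inf, ← hact x (x ^ i) y, ih.1, ih.2, hx, ← hact s s' inf,
          ← hact s s' y, he', hsw, hsw', he]
        exact ⟨rfl, rfl⟩
    have hbi : ∀ i : ℕ, 1 ≤ i → x ^ i * b * (x ^ i)⁻¹ ∈ pgrp ρ C ∧ ∀ w ∈ y.1,
        ρ (x ^ i * b * (x ^ i)⁻¹) w + w = ρ (x ^ (2 * i)) (ρ s w) + ρ (x ^ (2 * i - 1)) (ρ s w) := by
      intro i hi
      refine ⟨?_, fun w hw => ?_⟩
      · have h1 := conj_mem_pgrp hb (x ^ i)
        rwa [show C.map (ρ (x ^ i)) = C from congrArg Subtype.val (hxinf i).1] at h1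
      · have hw' : ρ (x ^ i)⁻¹ w ∈ y.1 := by
          have e : act (x ^ i)⁻¹ y = y := by
            conv_lhs => rw [← (hxinf i).2]
            rw [hact, inv_mul_cancel, hone]
          exact (congrArg Subtype.val e).le ⟨w, hw, rfl⟩
        have h1 := congrArg (ρ (x ^ i)) (hr _ hw')
        simp only [map_add, ← rho_mul, mul_inv_cancel, map_one,
          Module.End.one_apply] at h1
        simp only [← rho_mul, mul_assoc]
        have e1 : s * (x ^ i)⁻¹ = x ^ i * s :=
          mul_inv_eq_iff_eq_mul.mpr (by rw [mul_assoc, hsx, mul_inv_cancel_left])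
        have e2 : s' * (x ^ i)⁻¹ = x ^ i * s' :=
          mul_inv_eq_iff_eq_mul.mpr (by rw [mul_assoc, hsx', mul_inv_cancel_left])
        have e3 : x ^ (2 * i) * s' = x ^ (2 * i - 1) * s := by
          rw [hs'x, show (2 * i) = (2 * i - 1) + 1 by omega, pow_succ, Nat.add_sub_cancel]
          have := hsx 1
          rw [pow_one] at this
          rw [this, mul_assoc, mul_inv_cancel_left]
        rw [h1, e1, e2, ← mul_assoc, ← mul_assoc, ← pow_add, ← two_mul, e3]
    have hprod : ∀ j : ℕ, ∃ b' ∈ pgrp ρ C, ∀ w ∈ y.1,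
        ρ b' w + w = ∑ i ∈ Finset.range (2 * j), ρ (x ^ (i + 1)) (ρ s w) := by
      intro j
      induction j with
      | zero => exact ⟨1, one_mem _, fun w _ => by simp [add_self_zero]⟩
      | succ j ih =>
        obtain ⟨b', hb', hsum⟩ := ih
        obtain ⟨hb1, hb2⟩ := hbi (j + 1) (by omega)
        set b1 := x ^ (j + 1) * b * (x ^ (j + 1))⁻¹
        refine ⟨b' * b1, mul_mem hb' hb1, fun w hw => ?_⟩
        have e : ρ b' (ρ b1 w) + w = (ρ b1 w + w) + (ρ b' w + w) := by
          have h1 := hb'.2 _ (hb1.1 w)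
          rw [map_add] at h1
          calc ρ b' (ρ b1 w) + w = ρ b' (ρ b1 w) + ρ b' w + (ρ b' w + w) := by
                rw [add_assoc, ← add_assoc (ρ b' w), add_self_zero, zero_add]
            _ = _ := by rw [h1]
        rw [rho_mul, e, hb2 w hw, hsum w hw, show 2 * (j + 1) = 2 * j + 1 + 1 by ring,
          Finset.sum_range_succ, Finset.sum_range_succ,
          show 2 * j + 1 + 1 - 1 = 2 * j + 1 by omega]
        abel
    obtain ⟨b', hb', hsum⟩ := hprod k
    refine caseI z b' s hz hb' hs he (Subtype.ext (eq_of_le_of_card ?_ ?_))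
    swap
    · show Nat.card z.1 ≤ Nat.card (y.1.map (ρ b'))
      rw [card_map_rho, hc, hc]
    rintro _ ⟨w, hw, rfl⟩
    -- the full sum over a period vanishes
    have hfull : ∑ i ∈ Finset.range (2 * k + 1), ρ (x ^ i) (ρ s w) = 0 := by
      set t := ∑ i ∈ Finset.range (2 * k + 1), ρ (x ^ i) (ρ s w) with ht
      have htC : t ∈ C := Submodule.sum_mem _ fun i _ =>
        (congrArg Subtype.val (hxinf i).1).le ⟨_, hsy w hw, rfl⟩
      have hxt : ρ x t = t := by
        have hper : x ^ (2 * k + 1) = 1 := by rw [← hk, pow_orderOf_eq_one]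
        have h1 := Finset.sum_range_succ (fun i => ρ (x ^ i) (ρ s w)) (2 * k + 1)
        rw [Finset.sum_range_succ', hper, pow_zero] at h1
        have h2 := add_right_cancel h1
        rw [ht, map_sum]
        refine (Finset.sum_congr rfl fun i _ => ?_).trans h2
        rw [pow_succ', rho_mul ρ x (x ^ i)]
      have h1 : ρ s' t = ρ s t := by
        conv_rhs => rw [← hxt, hx, rho_mul, ← rho_mul ρ s s, hss, map_one]
        rfl
      have h2 := hs.1 t
      have h3 := hs'.1 t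
      rw [h1] at h3
      have h4 := hmeet z z' hzz _ h2 h3
      rw [← sub_eq_add', sub_eq_zero] at h4
      exact hmeet inf y hy.symm t htC (h4 ▸ hsC t htC)
    rw [Finset.sum_range_succ', pow_zero, map_one, Module.End.one_apply, ← hsum w hw] at hfull
    have e : ρ b' w = ρ s w + w := by
      have h1 : ρ b' w + w = ρ s w := by
        rw [← neg_eq_self (ρ s w)]; exact eq_neg_of_add_eq_zero_left hfull
      rw [← h1, add_assoc, add_self_zero, add_zero]
    rw [e]; exact hs.1 w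
  -- counting
  let f : Option ({z // z ∈ insert y T} × pgrp ρ C) → P := fun o =>
    o.elim inf fun p => act (p.2 : X) p.1.1
  have hfix : ∀ b ∈ pgrp ρ C, act b inf = inf := fun b hb => Subtype.ext (map_eq_of_mem_pgrp hb)
  have hyT : ∀ z, z ∈ insert y T → z ≠ inf := fun z hz => by
    rcases Finset.mem_insert.mp hz with rfl | hz
    exacts [hy, (hTs z hz).1]
  have hfinj : Function.Injective f := by
    have hne : ∀ p : {z // z ∈ insert y T} × pgrp ρ C, act (p.2 : X) p.1.1 ≠ inf := fun p e =>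
      hyT _ p.1.2 (hinj _ _ _ (e.trans (hfix _ p.2.2).symm))
    rintro (_ | ⟨⟨z, hz⟩, ⟨b, hb⟩⟩) (_ | ⟨⟨z', hz'⟩, ⟨b', hb'⟩⟩) h
    · rfl
    · exact absurd h.symm (hne _)
    · exact absurd h (hne _)
    change act b z = act b' z' at h
    have h1 : act (b'⁻¹ * b) z = z' := by rw [← hact, h, hact, inv_mul_cancel, hone]
    have hm := (pgrp ρ C).mul_mem ((pgrp ρ C).inv_mem hb') hb
    by_cases hzz : z = z'
    · subst hzz
      by_cases hbb : b'⁻¹ * b = 1
      · have e : b' = b := inv_mul_eq_one.mp hbb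
        subst e
        rfl
      · exact absurd (hstab inf z _ hm h1 hbb) (hyT z hz)
    exfalso
    rcases Finset.mem_insert.mp hz with rfl | hzT
    · obtain ⟨hz'i, -, s', hs', -, he'⟩ := hTs z' ((Finset.mem_insert.mp hz').resolve_left
        fun e => hzz e.symm)
      exact caseI z' _ s' hz'i hm hs' he' h1
    rcases Finset.mem_insert.mp hz' with rfl | hz'T
    · obtain ⟨hzi, -, s, hs, -, he⟩ := hTs z hzT
      refine caseI z (b'⁻¹ * b) s hzi hm hs he ?_
      conv_lhs => rw [← h1, hact, hsq inf _ hm, hone]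
    · obtain ⟨hzi, -, s, hs, hs1, he⟩ := hTs z hzT
      obtain ⟨hz'i, -, s', hs', hs1', he'⟩ := hTs z' hz'T
      exact caseII z z' _ s s' hzi hz'i hzz hm hs hs1 he hs' hs1' he' h1
  have hN := Nat.card_le_card_of_injective f hfinj
  have hcardT : q ≤ (insert y T).card := by
    rw [Finset.card_insert_of_notMem fun h => (hTs y h).2.1 rfl]; omega
  rw [Finite.card_option, Nat.card_prod, Nat.card_eq_fintype_card (α := {z // z ∈ insert y T}),
    Fintype.card_coe, ← hq] at hN
  -- the covering bound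
  let g : (Σ z : P, {w : z.1 // w ≠ 0}) → {w : W // w ≠ 0} := fun p =>
    ⟨(p.2.1 : W), fun h => p.2.2 (Subtype.ext h)⟩
  have hginj : Function.Injective g := by
    rintro ⟨z, ⟨w, hw⟩, hw0⟩ ⟨z', ⟨w', hw'⟩, hw0'⟩ h
    have e : w = w' := congrArg Subtype.val h
    subst e
    by_cases hzz : z = z'
    · subst hzz; rfl
    · exact absurd (Subtype.ext (hmeet z z' hzz w hw hw')) hw0
  have hne1 : ∀ (U : Submodule (ZMod 2) W), Nat.card {w : U // w ≠ 0} = Nat.card U - 1 := by
    intro U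
    letI : Fintype U := Fintype.ofFinite _
    rw [Nat.card_eq_fintype_card, Nat.card_eq_fintype_card, Fintype.card_subtype_compl,
      Fintype.card_subtype_eq]
  have hW : Nat.card W = c * c := by
    have h1 := card_sup_mul_inf inf.1 y.1
    rw [hspan inf y hy.symm, card_top', hc, hc,
      show inf.1 ⊓ y.1 = ⊥ from eq_bot_iff.mpr fun w hw =>
        (Submodule.mem_bot _).mpr (hmeet inf y hy.symm w hw.1 hw.2),
      show Nat.card (⊥ : Submodule (ZMod 2) W) = 1 from Nat.card_unique, mul_one] at h1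
    exact h1
  have hsig : Nat.card (Σ z : P, {w : z.1 // w ≠ 0}) = Nat.card P * (c - 1) := by
    rw [Nat.card_sigma, Finset.sum_congr rfl fun z _ => (hne1 z.1).trans (by rw [hc]),
      Finset.sum_const, Finset.card_univ, smul_eq_mul, Nat.card_eq_fintype_card]
  have hW1 : Nat.card {w : W // w ≠ 0} = c * c - 1 := by
    letI : Fintype W := Fintype.ofFinite _
    rw [← hW, Nat.card_eq_fintype_card, Nat.card_eq_fintype_card, Fintype.card_subtype_compl,
      Fintype.card_subtype_eq]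
  have hub := Nat.card_le_card_of_injective g hginj
  rw [hsig, hW1] at hub
  have hc2 : 2 ≤ c := by
    by_contra h
    have : Subsingleton C := Finite.card_le_one_iff_subsingleton.mp (by omega)
    exact hg0 (by rw [(Submodule.eq_bot_of_subsingleton : C = ⊥), Submodule.map_bot])
  have hub' : Nat.card P ≤ c + 1 := by
    refine Nat.le_of_mul_le_mul_right (hub.trans (le_of_eq ?_)) (show 0 < c - 1 by omega)
    rw [← Nat.mul_self_sub_mul_self_eq, one_mul]
  have hAA : Nat.card A * Nat.card A ≤ q * q := Nat.mul_le_mul hAq hAq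
  have hqq : q * q ≤ (insert y T).card * q := Nat.mul_le_mul_right _ hcardT
  rw [pow_two]
  refine ⟨by omega, fun heq w => ?_⟩
  by_cases hw : w = 0
  · exact ⟨1, hw.symm ▸ Submodule.zero_mem _⟩
  have hP : Nat.card P = c + 1 := by omega
  have hbij : Function.Bijective g := (Nat.bijective_iff_injective_and_card g).mpr
    ⟨hginj, by rw [hsig, hW1, hP, ← Nat.mul_self_sub_mul_self_eq, one_mul]⟩
  obtain ⟨⟨z, v, hv⟩, hzv⟩ := hbij.2 ⟨w, hw⟩
  obtain ⟨x, hx⟩ := z.2
  refine ⟨x, hx ▸ ?_⟩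
  have e : (v : W) = w := congrArg Subtype.val hzv
  exact e ▸ v.2

/-- The bound, in general. -/
theorem ti_bound (hnt : NoThree X) {C : Submodule (ZMod 2) W}
    (hpair : ∀ g h : X, C.map (ρ g) ≠ C.map (ρ h) →
      C.map (ρ g) ⊓ C.map (ρ h) = ⊥ ∧ C.map (ρ g) ⊔ C.map (ρ h) = ⊤)
    (htwo : ∃ g : X, C.map (ρ g) ≠ C) {A : Subgroup X} (hA : A ≤ pgrp ρ C)
    (hA1 : ¬ A ≤ fixg ρ ⊤) :
    (fixg ρ ⊤).relIndex A ^ 2 ≤ Nat.card C ∧
      ((fixg ρ ⊤).relIndex A ^ 2 = Nat.card C → ∀ w : W, ∃ g : X, w ∈ C.map (ρ g)) := by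
  obtain ⟨σ, hσ, hσinj⟩ := exists_kerLift ρ
  have hker : fixg ρ ⊤ = MonoidHom.ker ρ := by
    ext x
    rw [MonoidHom.mem_ker, mem_fixg]
    exact ⟨fun h => LinearMap.ext fun w => h w Submodule.mem_top, fun h w _ => by rw [h]; rfl⟩
  set π := QuotientGroup.mk' (MonoidHom.ker ρ)
  have hmapC : ∀ g : X, C.map (σ (π g)) = C.map (ρ g) := fun g => by
    congr 1
    exact LinearMap.ext fun w => hσ g w
  have hcard : Nat.card (A.map π) = (fixg ρ ⊤).relIndex A := by
    rw [hker, ← Subgroup.relIndex_ker, QuotientGroup.ker_mk']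
  have hne : A.map π ≠ ⊥ := fun e => hA1 (by
    rw [Subgroup.map_eq_bot_iff, QuotientGroup.ker_mk'] at e
    exact hker ▸ e)
  have hpair' : ∀ g h, C.map (σ g) ≠ C.map (σ h) →
      C.map (σ g) ⊓ C.map (σ h) = ⊥ ∧ C.map (σ g) ⊔ C.map (σ h) = ⊤ := by
    intro g h hgh
    obtain ⟨g, rfl⟩ := QuotientGroup.mk'_surjective _ g
    obtain ⟨h, rfl⟩ := QuotientGroup.mk'_surjective _ h
    rw [hmapC, hmapC] at hgh ⊢
    exact hpair g h hgh
  have htwo' : ∃ g, C.map (σ g) ≠ C := by
    obtain ⟨g, hg⟩ := htwo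
    exact ⟨π g, (hmapC g).symm ▸ hg⟩
  have hA' : A.map π ≤ pgrp σ C := by
    rintro _ ⟨a, ha, rfl⟩
    refine ⟨fun w => ?_, fun w hw => ?_⟩ <;> rw [show σ (π a) w = ρ a w from hσ a w]
    exacts [(hA ha).1 w, (hA ha).2 w hw]
  obtain ⟨h1, h2⟩ := ti_faithful hσinj (hnt.quotient _) hpair' htwo' hA' hne
  rw [hcard] at h1 h2
  refine ⟨h1, fun h w => ?_⟩
  obtain ⟨g, hg⟩ := h2 h w
  obtain ⟨g, rfl⟩ := QuotientGroup.mk'_surjective _ g
  exact ⟨g, hmapC g ▸ hg⟩

end Cfsg.Agent.Fus.Stell
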