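import Cfsg.Agent.Lib.Fus.StellPair
import Cfsg.Agent.Lib.Fus.StellTI

/-!
The bound on a section of the normal closure, from quadratic action on points.
-/

set_option autoImplicit false
set_option linter.unusedSectionVars false
set_option linter.style.haveILetI false

namespace Cfsg.Agent.Fus.Stell

open Subgroup Invol.NoOff Cfsg.Agent.Block.SFour
open scoped Pointwise commutatorElement

universe u

variable {G : Type u} [Group G] [Finite G]

namespace PairData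

variable {X S : Subgroup G} (D : PairData X S)

include D

theorem hgrp_out {g : G} (hg : g ∈ hgrp X S) :
    g ∈ X ∧ MulAut.conj g • (wSub S ⊓ core X) ≤ yu X S :=
  ⟨D.hgrp_X hg, le_yu (D.hgrp_X hg)⟩

theorem V0_X : wSub S ⊓ core X ≤ X := inf_le_left.trans D.VX

set_option maxHeartbeats 1600000 in
/-- The radical bound of the pair. -/
theorem rad_bound {g : G} (hg : g ∈ hgrp X S) (hgM : g ∉ normalizer (wSub S : Set G))
    (hsurj : ∀ a ∈ wSub S, a ∉ core X → ∀ x ∈ wSub S ⊓ core X,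
      ∃ t ∈ MulAut.conj g • (wSub S ⊓ core X), ⁅t, a⁆ * x ∈ zc X S)
    {K F : Subgroup G} (hF : F ≤ MulAut.conj g • (wSub S ⊓ core X))
    (hFK : ∀ t ∈ F, ∀ x ∈ wSub S ⊓ core X, ⁅t, x⁆ ∈ K)
    (hmov : ∃ t ∈ MulAut.conj g • (wSub S ⊓ core X), ∃ x ∈ wSub S ⊓ core X, ⁅t, x⁆ ∉ K) :
    (wSub S ⊓ core X).relIndex (wSub S) ^ 2 < F.relIndex (MulAut.conj g • (wSub S ⊓ core X)) := by
  classical
  obtain ⟨hgX, hV'Y⟩ := D.hgrp_out hg
  set V := wSub S with hV
  set V0 := V ⊓ core X with hV0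
  set Hh := hgrp X S with hHh
  set Yu := yu X S with hYu
  set V0' := MulAut.conj g • V0 with hV0'
  have hVH : V ≤ Hh := wSub_le_hgrp X S
  have hV0Y : V0 ≤ Yu := V0_yu
  have hYH : Yu ≤ Hh := yu_hgrp
  have h0 : core X ≤ normalizer (V0 : Set G) := by
    have := D.V0_norm X.one_mem
    rwa [map_one, one_smul] at this
  have hdec : ∀ y ∈ Yu, ∃ a ∈ V0, ∃ b ∈ V0', y = a * b := fun y hy => by
    rw [hYu, D.yu_eq hgX hgM] at hy
    exact mem_mul_of_normalized ((hV'Y.trans D.yu_Q).trans h0) hy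
  have hcc : ∀ a ∈ V0, ∀ c ∈ V0, ⁅a, c⁆ = 1 := fun a ha c hc => cm_one_of_mem D.elV ha.1 hc.1
  have hdd : ∀ a ∈ V0', ∀ c ∈ V0', ⁅a, c⁆ = 1 := fun a ha c hc =>
    cm_one_of_mem (el_cj D.elV g) (Subgroup.pointwise_smul_le_pointwise_smul_iff.mpr inf_le_left ha)
      (Subgroup.pointwise_smul_le_pointwise_smul_iff.mpr inf_le_left hc)
  -- the radical
  let R : Subgroup G :=
    { carrier := {y | y ∈ Yu ∧ ∀ z ∈ Yu, ⁅y, z⁆ ∈ K}
      one_mem' := ⟨Yu.one_mem, fun z _ => by rw [commutatorElement_one_left]; exact K.one_mem⟩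
      mul_mem' := fun {a b} ha hb => ⟨Yu.mul_mem ha.1 hb.1, fun z hz => by
        rw [D.cm_mul_l ha.1 hb.1 hz]; exact K.mul_mem (ha.2 z hz) (hb.2 z hz)⟩
      inv_mem' := fun {a} ha => ⟨Yu.inv_mem ha.1, fun z hz => by
        have h1 := D.cm_mul_l ha.1 (Yu.inv_mem ha.1) hz
        rw [mul_inv_cancel, commutatorElement_one_left] at h1
        rw [eq_inv_of_mul_eq_one_right h1.symm]
        exact K.inv_mem (ha.2 z hz)⟩ }
  have hRY : R ≤ Yu := fun _ h => h.1
  have hzR : zc X S ≤ R := fun c hc => ⟨hc.1, fun z hz => by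
    rw [commutatorElement_eq_one_iff_mul_comm.mpr (zc_comm hc (hYH hz)).symm]; exact K.one_mem⟩
  have hRn : Hh ≤ normalizer (R : Set G) := by
    intro h hh
    rw [Grp.mem_normalizer_iff_smul]
    refine Subgroup.eq_of_le_of_card_ge ?_ (card_cj _ _).ge
    rintro _ ⟨y, hy, rfl⟩
    refine ⟨conj_mem (le_normalizer_yu X S (D.hgrp_X hh)) hy.1, fun z hz => ?_⟩
    show ⁅h * y * h⁻¹, z⁆ ∈ K
    have hz' := Grp.mem_conj_normalizer' (le_normalizer_yu X S (D.hgrp_X hh)) hz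
    rw [show ⁅h * y * h⁻¹, z⁆ = h * ⁅y, h⁻¹ * z * h⁆ * h⁻¹ by simp only [commutatorElement_def]; group,
      zc_comm (D.cm_yu hy.1 hz') hh, mul_inv_cancel_right]
    exact hy.2 _ hz'
  have hmeet : ∀ a ∈ V0, ∀ b ∈ V0', a⁻¹ * b ∈ R → a ∈ R := by
    intro a ha b hb hr
    refine ⟨hV0Y ha, fun z hz => ?_⟩
    obtain ⟨c, hc, d, hd, rfl⟩ := hdec z hz
    rw [D.cm_mul_r (hV0Y hc) (hV'Y hd) (hV0Y ha), hcc a ha c hc, one_mul]
    have h1 := D.cm_mul_l (hV'Y hb) (Yu.inv_mem hr.1) (hV'Y hd)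
    rw [show b * (a⁻¹ * b)⁻¹ = a by group, hdd b hb d hd, one_mul] at h1
    rw [h1]
    exact (R.inv_mem hr).2 d (hV'Y hd)
  -- the section
  set R' := R.subgroupOf Yu with hR'
  haveI : R'.Normal := Subgroup.normal_subgroupOf_of_le_normalizer (hYH.trans hRn)
  have hcommQ : ∀ a b : Yu ⧸ R', a * b = b * a := by
    intro a b
    obtain ⟨a, rfl⟩ := QuotientGroup.mk_surjective a
    obtain ⟨b, rfl⟩ := QuotientGroup.mk_surjective b
    rw [← QuotientGroup.mk_mul, ← QuotientGroup.mk_mul, QuotientGroup.eq]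
    show ((a : G) * b)⁻¹ * ((b : G) * a) ∈ R
    rw [show ((a : G) * b)⁻¹ * ((b : G) * a) = ⁅(b : G)⁻¹, (a : G)⁻¹⁆ by
      simp only [commutatorElement_def]; group]
    exact hzR (D.cm_yu (Yu.inv_mem b.2) (Yu.inv_mem a.2))
  letI : CommGroup (Yu ⧸ R') :=
    { (inferInstance : Group (Yu ⧸ R')) with mul_comm := hcommQ }
  letI : Module (ZMod 2) (Additive (Yu ⧸ R')) := AddCommGroup.zmodModule (fun w => by
    obtain ⟨q, rfl⟩ := Additive.ofMul.surjective w
    obtain ⟨a, rfl⟩ := QuotientGroup.mk_surjective q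
    refine Additive.toMul.injective ?_
    show (QuotientGroup.mk a : Yu ⧸ R') ^ 2 = 1
    rw [← QuotientGroup.mk_pow, QuotientGroup.eq_one_iff]
    exact hzR (by rw [map_pow]; exact D.sq_yu a.2))
  let mk : Yu → Additive (Yu ⧸ R') := fun y => Additive.ofMul (QuotientGroup.mk y)
  obtain ⟨ρ, hρ⟩ : ∃ ρ : Representation (ZMod 2) Hh (Additive (Yu ⧸ R')), ∀ (h : Hh) (y : Yu),
      ρ h (mk y) = mk ⟨(h : G) * y * (h : G)⁻¹,
        conj_mem (le_normalizer_yu X S (D.hgrp_X h.2)) y.2⟩ := by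
    let cj : Hh → Yu →* Yu := fun h => MonoidHom.mk'
      (fun y => ⟨(h : G) * y * (h : G)⁻¹, conj_mem (le_normalizer_yu X S (D.hgrp_X h.2)) y.2⟩)
      fun a b => Subtype.ext (by
        show (h : G) * ((a : G) * b) * (h : G)⁻¹ =
          h * a * (h : G)⁻¹ * (h * b * (h : G)⁻¹)
        group)
    let θ : Hh → (Yu ⧸ R') →* (Yu ⧸ R') := fun h => QuotientGroup.map R' R' (cj h) fun y hy =>
      conj_mem (hRn h.2) hy
    refine ⟨
    { toFun := fun h => (θ h).toAdditive.toZModLinearMap 2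
      map_one' := LinearMap.ext fun w => by
        obtain ⟨q, rfl⟩ := Additive.ofMul.surjective w
        obtain ⟨a, rfl⟩ := QuotientGroup.mk_surjective q
        refine congrArg Additive.ofMul (congrArg QuotientGroup.mk (Subtype.ext ?_))
        show ((1 : Hh) : G) * a * ((1 : Hh) : G)⁻¹ = a
        simp
      map_mul' := fun h h' => LinearMap.ext fun w => by
        obtain ⟨q, rfl⟩ := Additive.ofMul.surjective w
        obtain ⟨a, rfl⟩ := QuotientGroup.mk_surjective q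
        refine congrArg Additive.ofMul (congrArg QuotientGroup.mk (Subtype.ext ?_))
        show ((h : G) * h') * a * ((h : G) * h')⁻¹ = h * (h' * a * (h' : G)⁻¹) * (h : G)⁻¹
        group }, fun h y => rfl⟩
  let im : Subgroup G → Submodule (ZMod 2) (Additive (Yu ⧸ R')) := fun P =>
    (Subgroup.toAddSubgroup ((P.subgroupOf Yu).map (QuotientGroup.mk' R'))).toZModSubmodule 2
  have hmem : ∀ P w, w ∈ im P ↔ ∃ y : Yu, (y : G) ∈ P ∧ mk y = w := by
    intro P w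
    constructor
    · rintro ⟨y, hy, e⟩
      exact ⟨y, hy, congrArg Additive.ofMul e⟩
    · rintro ⟨y, hy, rfl⟩
      exact ⟨y, hy, rfl⟩
  set C := im V0 with hC
  have hmap : ∀ h : Hh, C.map (ρ h) = im (MulAut.conj (h : G) • V0) := by
    intro h
    ext w
    rw [Submodule.mem_map, hmem]
    constructor
    · rintro ⟨_, hv, rfl⟩
      obtain ⟨y, hy, rfl⟩ := (hmem _ _).mp hv
      exact ⟨_, conj_mem_cj hy, (hρ h y).symm⟩
    · rintro ⟨y, hy, rfl⟩
      have hy' := mem_cj.mp hy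
      refine ⟨mk ⟨_, hV0Y hy'⟩, (hmem _ _).mpr ⟨_, hy', rfl⟩, ?_⟩
      rw [hρ]
      refine congrArg mk (Subtype.ext ?_)
      show (h : G) * ((h : G)⁻¹ * y * h) * (h : G)⁻¹ = y
      group
  have hmk : ∀ a b : Yu, mk a = mk b ↔ (a : G)⁻¹ * b ∈ R := fun a b =>
    Additive.ofMul.injective.eq_iff.trans QuotientGroup.eq
  -- pairs of points
  have hpair1 : ∀ x : Hh, (x : G) ∉ normalizer (V : Set G) →
      C ⊓ C.map (ρ x) = ⊥ ∧ C ⊔ C.map (ρ x) = ⊤ := by
    intro x hx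
    have hxX := D.hgrp_X x.2
    have hYx := D.yu_eq hxX hx
    have hb0 : ∀ b ∈ MulAut.conj (x : G) • V0, b ∈ Yu := fun b hb => le_yu hxX hb
    rw [hmap x]
    refine ⟨eq_bot_iff.mpr fun w hw => ?_, eq_top_iff.mpr fun w _ => ?_⟩
    · obtain ⟨a, ha, rfl⟩ := (hmem _ _).mp hw.1
      obtain ⟨b, hb, e⟩ := (hmem _ _).mp hw.2
      rw [Submodule.mem_bot]
      have hr := (hmk a b).mp e.symm
      have ha' : (a : G) ∈ R := by
        refine ⟨a.2, fun z hz => ?_⟩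
        rw [hYu, hYx] at hz
        obtain ⟨c, hc, d, hd, rfl⟩ := mem_mul_of_normalized
          (((le_yu hxX).trans D.yu_Q).trans h0) hz
        have hd' := hb0 d hd
        rw [D.cm_mul_r (hV0Y hc) hd' a.2, hcc a ha c hc, one_mul]
        have hbd : ⁅(b : G), d⁆ = 1 := cm_one_of_mem (el_cj D.elV x)
          (Subgroup.pointwise_smul_le_pointwise_smul_iff.mpr inf_le_left hb)
          (Subgroup.pointwise_smul_le_pointwise_smul_iff.mpr inf_le_left hd)
        have h1 := D.cm_mul_l b.2 (Yu.inv_mem hr.1) hd'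
        rw [show (b : G) * ((a : G)⁻¹ * b)⁻¹ = a by group, hbd, one_mul] at h1
        rw [h1]
        exact (R.inv_mem hr).2 d hd'
      exact congrArg Additive.ofMul ((QuotientGroup.eq_one_iff a).mpr ha')
    · obtain ⟨q, rfl⟩ := Additive.ofMul.surjective w
      obtain ⟨y, rfl⟩ := QuotientGroup.mk_surjective q
      have hy : (y : G) ∈ V0 ⊔ MulAut.conj (x : G) • V0 := hYx ▸ y.2
      obtain ⟨c, hc, d, hd, e⟩ := mem_mul_of_normalized (((le_yu hxX).trans D.yu_Q).trans h0) hy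
      have e' : y = ⟨c, hV0Y hc⟩ * ⟨d, hb0 d hd⟩ := Subtype.ext e
      rw [e']
      exact Submodule.add_mem_sup ((hmem _ _).mpr ⟨⟨c, hV0Y hc⟩, hc, rfl⟩)
        ((hmem _ _).mpr ⟨⟨d, hb0 d hd⟩, hd, rfl⟩)
  have hsame : ∀ x : Hh, (x : G) ∈ normalizer (V : Set G) → C.map (ρ x) = C := fun x hx => by
    rw [hmap x, hV0, Subgroup.smul_inf, Grp.mem_normalizer_iff_smul.mp hx,
      Grp.mem_normalizer_iff_smul.mp (le_normalizer_core X (D.hgrp_X x.2))]
  have hpair : ∀ a b : Hh, C.map (ρ a) ≠ C.map (ρ b) →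
      C.map (ρ a) ⊓ C.map (ρ b) = ⊥ ∧ C.map (ρ a) ⊔ C.map (ρ b) = ⊤ := by
    intro a b hab
    have e : C.map (ρ b) = (C.map (ρ (a⁻¹ * b))).map (ρ a) := by
      rw [map_map_rho, mul_inv_cancel_left]
    have hx : ((a⁻¹ * b : Hh) : G) ∉ normalizer (V : Set G) := fun h => hab (by
      rw [e, hsame _ h])
    obtain ⟨h1, h2⟩ := hpair1 _ hx
    rw [e, ← Submodule.map_inf _ (rho_injective ρ a), ← Submodule.map_sup, h1, h2, Submodule.map_bot,
      Submodule.map_top, LinearMap.range_eq_top.mpr fun w => ⟨ρ a⁻¹ w, rho_apply_inv ρ a w⟩]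
    exact ⟨rfl, rfl⟩
  -- `V` acts quadratically
  set A := V.subgroupOf Hh
  have hA : A ≤ pgrp ρ C := by
    intro a ha
    refine ⟨fun w => ?_, fun w hw => ?_⟩
    · obtain ⟨q, rfl⟩ := Additive.ofMul.surjective w
      obtain ⟨y, rfl⟩ := QuotientGroup.mk_surjective q
      change ρ a (mk y) + mk y ∈ C
      have hc := D.cm_V0 (show (a : G) ∈ V from ha) (D.yu_Q y.2)
      rw [hρ]
      refine (hmem _ _).mpr ⟨⟨_, hV0Y hc⟩, hc, ?_⟩
      show Additive.ofMul (QuotientGroup.mk _ : Yu ⧸ R') =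
        Additive.ofMul ((QuotientGroup.mk _ : Yu ⧸ R') * QuotientGroup.mk y)
      rw [← QuotientGroup.mk_mul]
      refine (hmk _ _).mpr ?_
      show ⁅(a : G), (y : G)⁆⁻¹ * ((a : G) * y * (a : G)⁻¹ * y) ∈ R
      rw [← cm_mul_conj, mul_assoc, inv_mul_cancel_left, ← pow_two]
      exact hzR (D.sq_yu y.2)
    · obtain ⟨y, hy, rfl⟩ := (hmem _ _).mp hw
      rw [hρ]
      refine congrArg mk (Subtype.ext ?_)
      show (a : G) * y * (a : G)⁻¹ = y
      rw [el_comm D.elV (show (a : G) ∈ V from ha) hy.1, mul_inv_cancel_right]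
  -- something moves
  obtain ⟨t1, ht1, x1, hx1, hmx⟩ := hmov
  have hCne : ¬ V0 ≤ R := fun h => hmx (by
    rw [← commutatorElement_inv]; exact K.inv_mem ((h hx1).2 _ (hV'Y ht1)))
  have hker : ∀ a : Hh, (a : G) ∈ V → a ∈ fixg ρ ⊤ → (a : G) ∈ V0 := by
    intro a ha hfix
    refine ⟨ha, ?_⟩
    by_contra haQ
    refine hCne fun x hx => ?_
    obtain ⟨t, ht, hz⟩ := hsurj a ha haQ x hx
    have h1 := hfix (mk ⟨t, hV'Y ht⟩) Submodule.mem_top
    rw [hρ] at h1
    have h2 := (hmk _ _).mp h1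
    change ((a : G) * t * (a : G)⁻¹)⁻¹ * t ∈ R at h2
    have h3 : ⁅t, (a : G)⁆ ∈ R := by
      rw [show ⁅t, (a : G)⁆ = t * (((a : G) * t * (a : G)⁻¹)⁻¹ * t) * t⁻¹ by
        simp only [commutatorElement_def]; group]
      exact conj_mem (hRn (hYH (hV'Y ht))) h2
    have h4 := R.mul_mem (R.inv_mem h3) (hzR hz)
    rwa [inv_mul_cancel_left] at h4
  have hA1 : ¬ A ≤ fixg ρ ⊤ := fun h => D.out fun v hv =>
    (hker ⟨v, hVH hv⟩ hv (h (show (⟨v, hVH hv⟩ : Hh) ∈ A from hv))).2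
  have htwo : ∃ h : Hh, C.map (ρ h) ≠ C := by
    refine ⟨⟨g, hg⟩, fun e => hCne fun x hx => ?_⟩
    obtain ⟨h1, -⟩ := hpair1 ⟨g, hg⟩ hgM
    rw [e, inf_idem] at h1
    have h2 : mk ⟨x, hV0Y hx⟩ ∈ C := (hmem _ _).mpr ⟨_, hx, rfl⟩
    rw [h1, Submodule.mem_bot] at h2
    exact (QuotientGroup.eq_one_iff (⟨x, hV0Y hx⟩ : Yu)).mp (congrArg Additive.toMul h2)
  have hnt : NoThree Hh := (D.nt.subgroup (Hh.subgroupOf X)).map
    (Subgroup.subgroupOfEquivOfLe D.hgrp_X).toMonoidHom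
    (Subgroup.subgroupOfEquivOfLe D.hgrp_X).surjective
  obtain ⟨hb, heq⟩ := ti_bound hnt hpair htwo hA hA1
  -- the two sides
  have hidx : V0.relIndex V ≤ (fixg ρ ⊤).relIndex A := by
    have e1 : (fixg ρ ⊤).relIndex A = ((fixg ρ ⊤).map Hh.subtype).relIndex V := by
      rw [← Subgroup.relIndex_map_map_of_injective (K := A) _ Hh.subtype_injective,
        Subgroup.map_subgroupOf_eq_of_le hVH]
    rw [e1, ← Subgroup.inf_relIndex_right ((fixg ρ ⊤).map Hh.subtype) V]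
    refine Subgroup.relIndex_le_of_le_left ?_ (relIndex_ne_zero' _ _)
    rintro _ ⟨⟨a, ha, rfl⟩, haV⟩
    exact hker a haV ha
  have hcardC : Nat.card C = R.relIndex V0' := by
    have e1 : Nat.card C = Nat.card ((V0.subgroupOf Yu).map (QuotientGroup.mk' R')) := rfl
    have e2 : R.relIndex V0 = R.relIndex V0' := by
      conv_rhs => rw [hV0', ← Grp.mem_normalizer_iff_smul.mp (hRn hg), relIndex_smul]
    rw [e1, ← Subgroup.relIndex_ker, QuotientGroup.ker_mk', hR', Subgroup.subgroupOf,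
      Subgroup.relIndex_comap, Subgroup.map_subgroupOf_eq_of_le hV0Y, e2]
  have hFle : R.relIndex V0' ≤ F.relIndex V0' := by
    refine Subgroup.relIndex_le_of_le_left (fun f hf => ?_) (relIndex_ne_zero' _ _)
    refine ⟨hV'Y (hF hf), fun z hz => ?_⟩
    obtain ⟨c, hc, d, hd, rfl⟩ := hdec z hz
    rw [D.cm_mul_r (hV0Y hc) (hV'Y hd) (hV'Y (hF hf)), hdd f (hF hf) d hd, mul_one]
    exact hFK f hf c hc
  have hlt : (fixg ρ ⊤).relIndex A ^ 2 ≠ Nat.card C := by
    intro h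
    have hcov := heq h
    -- all squares of `Yu` lie in `K`
    have hsq : ∀ y ∈ Yu, y ^ 2 ∈ K := by
      intro y hy
      obtain ⟨x, hx⟩ := hcov (mk ⟨y, hy⟩)
      rw [hmap x] at hx
      obtain ⟨l, hl, e⟩ := (hmem _ _).mp hx
      set r := (l : G)⁻¹ * y with hr'
      have hr : r ∈ R := (hmk l ⟨y, hy⟩).mp e
      rw [show y = (l : G) * r by rw [hr']; group, D.sq_mul l.2 hr.1,
        (el_cj D.elV (x : G)).2 _ (Subgroup.pointwise_smul_le_pointwise_smul_iff.mpr inf_le_left hl),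
        one_mul]
      refine K.mul_mem (hr.2 _ l.2) ?_
      obtain ⟨c, hc, d, hd, e'⟩ := hdec r hr.1
      have hrR : c⁻¹ * d⁻¹ ∈ R := by
        have h1 := R.inv_mem hr
        rw [e', mul_inv_rev] at h1
        have h2 := conj_mem (hRn (hYH (hV'Y hd))) h1
        rw [show d * (d⁻¹ * c⁻¹) * d⁻¹ = c⁻¹ * d⁻¹ by group] at h2
        exact h2
      have hcR := hmeet c hc d⁻¹ (V0'.inv_mem hd) hrR
      have hdR : d ∈ R := by
        have h1 := R.mul_mem (R.inv_mem hcR) hr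
        rwa [e', inv_mul_cancel_left] at h1
      rw [e', D.sq_mul hcR.1 hdR.1, D.elV.2 c hc.1,
        (el_cj D.elV g).2 d (Subgroup.pointwise_smul_le_pointwise_smul_iff.mpr inf_le_left hd),
        one_mul, mul_one]
      exact hdR.2 c hcR.1
    refine hmx ?_
    have h1 := hsq _ (Yu.mul_mem (hV0Y hx1) (hV'Y ht1))
    rwa [D.sq_mul (hV0Y hx1) (hV'Y ht1), D.elV.2 x1 hx1.1,
      (el_cj D.elV g).2 t1 (Subgroup.pointwise_smul_le_pointwise_smul_iff.mpr inf_le_left ht1),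
      one_mul, mul_one] at h1
  calc V0.relIndex V ^ 2 ≤ (fixg ρ ⊤).relIndex A ^ 2 := Nat.pow_le_pow_left hidx 2
    _ < Nat.card C := lt_of_le_of_ne hb hlt
    _ ≤ F.relIndex V0' := hcardC ▸ hFle

end PairData

end Cfsg.Agent.Fus.Stell
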