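import Cfsg.Agent.Lib.Fus.StellBasic
import Cfsg.Agent.Lib.Invol.NoOff.Main

/-!
The join of the conjugates of a strict invariant subgroup is strict.
-/

set_option autoImplicit false
set_option linter.unusedSectionVars false
set_option linter.style.haveILetI false

namespace Cfsg.Agent.Fus.Stell

open Subgroup Invol.NoOff Cfsg.Agent.Block.SFour
open scoped Pointwise commutatorElement

universe u v

variable {G : Type u} [Group G] [Finite G]

section rep

variable {V : Type v} [AddCommGroup V] [Module (ZMod 2) V] [Finite V]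
  (ρ : Representation (ZMod 2) G V)

/-- No subgroup of `T` with elementary image on `U` offends strictly. -/
def RStrict (T : Subgroup G) (U : Submodule (ZMod 2) V) : Prop :=
  ∀ E ≤ T, (∀ x ∈ E, x ^ 2 ∈ fixg ρ U) → ¬ E ≤ fixg ρ U →
    (fixg ρ U).relIndex E * Nat.card ↥(U ⊓ fixd ρ E) < Nat.card U

variable {ρ}

theorem move_into {W0 : Submodule (ZMod 2) V} (E : Subgroup G) {k : G} (hk : k ∈ stab ρ W0) :
    (E ≤ fixg ρ W0 ↔ MulAut.conj k • E ≤ fixg ρ W0) ∧
      (fixg ρ W0).relIndex (MulAut.conj k • E) = (fixg ρ W0).relIndex E ∧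
      Nat.card ↥(W0 ⊓ fixd ρ (MulAut.conj k • E)) = Nat.card ↥(W0 ⊓ fixd ρ E) := by
  have hf : MulAut.conj k • fixg ρ W0 = fixg ρ W0 :=
    Grp.mem_normalizer_iff_smul.mp (stab_le_normalizer_fixg hk)
  refine ⟨?_, ?_, ?_⟩
  · conv_rhs => rw [← hf, Subgroup.pointwise_smul_le_pointwise_smul_iff]
  · conv_lhs => rw [← hf, Subgroup.relIndex_pointwise_smul]
  · have hm : W0.map (ρ k) = W0 := le_antisymm
      (by rintro _ ⟨u, hu, rfl⟩; exact apply_mem_of_stab hk hu)
      (fun u hu => ⟨ρ k⁻¹ u, apply_mem_of_stab ((stab ρ W0).inv_mem hk) hu, rho_apply_inv ρ k u⟩)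
    conv_lhs => rw [← hm, ← map_inf_fixd, card_map_rho]

theorem rstrict_two {W0 : Submodule (ZMod 2) V} {T : Subgroup G} (hT : Grp.IsSylowIn 2 T ⊤)
    (hTS : T ≤ stab ρ W0) (h : RStrict ρ T W0) :
    ∀ E : Subgroup G, IsPGroup 2 E → E ≤ stab ρ W0 → (∀ x ∈ E, x ^ 2 ∈ fixg ρ W0) →
      ¬ E ≤ fixg ρ W0 →
      (fixg ρ W0).relIndex E * Nat.card ↥(W0 ⊓ fixd ρ E) < Nat.card W0 := by
  intro E hE hEs hsq hne
  obtain ⟨k, hk, hle⟩ := conj_into (sylowIn_of_between hT hTS le_top) hEs hE
  obtain ⟨e1, e2, e3⟩ := move_into (W0 := W0) E hk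
  rw [← e2, ← e3]
  refine h _ hle (fun y hy => ?_) fun hh => hne (e1.mpr hh)
  have h1 := conj_mem_cj (g := k) (hsq _ (mem_cj.mp hy))
  rw [Grp.mem_normalizer_iff_smul.mp (stab_le_normalizer_fixg hk)] at h1
  rwa [show k * (k⁻¹ * y * k) ^ 2 * k⁻¹ = y ^ 2 by rw [pow_two, pow_two]; group] at h1

theorem rstrict_one {W0 : Submodule (ZMod 2) V} {T : Subgroup G} (hT : Grp.IsSylowIn 2 T ⊤)
    (hTS : T ≤ stab ρ W0) (h : RStrict ρ T W0) :
    ∀ E, MinOff ρ E → E ≤ stab ρ W0 → E ≤ fixg ρ W0 := by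
  intro E hE hEs
  by_contra hne
  exact (rstrict_two hT hTS h E hE.isPGroup hEs
    (fun x hx => by rw [hE.1.1.2 x hx]; exact one_mem _) hne).not_ge (hE.weight_sub W0)

/-- The descent inside the stabiliser of `W₀`, for any subgroup. -/
theorem le_stab_descent (hnt : NoThree G) (W0 : Submodule (ZMod 2) V)
    (hW1 : ∀ E, MinOff ρ E → E ≤ stab ρ W0 → E ≤ fixg ρ W0)
    (hW2 : ∀ E : Subgroup G, IsPGroup 2 E → E ≤ stab ρ W0 → (∀ x ∈ E, x ^ 2 ∈ fixg ρ W0) →
      ¬ E ≤ fixg ρ W0 →
      (fixg ρ W0).relIndex E * Nat.card ↥(W0 ⊓ fixd ρ E) < Nat.card W0) :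
    ∀ (m : ℕ) (P T : Subgroup G), Nat.card P = m → Grp.IsSylowIn 2 T P → T ≤ stab ρ W0 →
      P ⊓ normalizer (jgen ρ T : Set G) ≤ stab ρ W0 → P ≤ stab ρ W0 := by
  haveI : Fact (Nat.Prime 2) := ⟨Nat.prime_two⟩
  intro m
  induction m using Nat.strong_induction_on with
  | _ m ih =>
  intro P T hm hT hTS hN
  by_contra hPS
  set R := (Cfsg.pCore 2 P).map P.subtype with hR
  haveI : (Cfsg.pCore 2 P).Normal := Grp.pCore_isNormal
  have hRP : R ≤ P := Subgroup.map_subtype_le _
  have hRn : P ≤ normalizer (R : Set G) := by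
    refine (Subgroup.normal_subgroupOf_iff_le_normalizer hRP).mp ?_
    rw [hR, Subgroup.subgroupOf, Subgroup.comap_map_eq_self_of_injective P.subtype_injective]
    infer_instance
  have hR2 : IsPGroup 2 R := Grp.pCore_isPGroup.map _
  have hRmax : ∀ D ≤ P, IsPGroup 2 D → P ≤ normalizer (D : Set G) → D ≤ R := by
    intro D hDP hD hDn
    haveI : (D.subgroupOf P).Normal := (Subgroup.normal_subgroupOf_iff_le_normalizer hDP).mpr hDn
    rw [← Subgroup.map_subgroupOf_eq_of_le hDP]
    exact Subgroup.map_mono (Grp.le_pCore inferInstance hD.comap_subtype)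
  have hRT : R ≤ T := by
    obtain ⟨k, hk, hle⟩ := conj_into hT hRP hR2
    rwa [Grp.mem_normalizer_iff_smul.mp (hRn hk)] at hle
  by_cases hall : ∀ A, MinOff ρ A → A ≤ T → A ≤ R
  · exact hPS ((le_inf le_rfl (hRn.trans (by
      rw [← jgen_eq_of_forall hRT hall]; exact normalizer_le_jgen R))).trans hN)
  push Not at hall
  obtain ⟨A, hA, hAT, hAR⟩ := hall
  set mem : Subgroup G → Prop := fun E => MinOff ρ E ∧ ¬ E ≤ R
  have hU : ∀ H < P, A ≤ H → H ≤ stab ρ W0 := by
    intro H hH hAH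
    refine le_trans (le_of_mem_le (inf_le_left : P ⊓ stab ρ W0 ≤ P) (le_inf hT.1 hTS) hT mem ?_
      (fun E hE => hE.1.isPGroup) ?_ ?_ (A := A) ⟨hA, hAR⟩ (le_inf (hAT.trans hT.1) (hAT.trans hTS))
      hH hAH) inf_le_right
    · intro g hg E hE
      refine ⟨hE.1.cj g, fun hle => hE.2 ?_⟩
      rw [← Grp.mem_normalizer_iff_smul.mp (hRn hg)] at hle
      exact Subgroup.pointwise_smul_le_pointwise_smul_iff.mp hle
    · rintro D hD ⟨B, hB, hBD⟩ hn
      exact hB.2 (hBD.trans (hRmax D (hD.trans hT.1) (hT.2.1.to_le hD) hn))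
    · rintro D hDT ⟨B, hB, hBD⟩ H hH hD hup
      refine le_inf hH.le (ih _ ?_ H D rfl hD (hDT.trans hTS) ?_)
      · rw [← hm]
        by_contra hge
        exact hH.ne (Subgroup.eq_of_le_of_card_ge hH.le (not_lt.mp hge))
      rcases hDT.eq_or_lt with rfl | hlt
      · exact (inf_le_inf_right _ hH.le).trans hN
      · refine le_trans (inf_le_inf_right _ hH.le) (le_trans ?_ (inf_le_right (a := P)))
        refine hup _ (lt_inf_norm hT.2.1 hlt) inf_le_left _ (lt_of_le_of_ne inf_le_left fun e => ?_)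
          (inf_le_inf hT.1 (normalizer_le_jgen D))
        exact hB.2 ((le_jgen hB.1 hBD).trans (hRmax _ ((jgen_le D).trans (hDT.trans hT.1))
          (jgen_isPGroup (hT.2.1.to_le hDT)) (e ▸ inf_le_right)))
  exact parabolic_false (noOffBelow (Nat.card G + 1)) hnt W0 hW1 hW2
    (Nat.lt_succ_of_le (Nat.card_le_card_of_injective _ P.subtype_injective)) hT hTS hRT hRn hRmax
    hA hAT hAR hU hPS

section transfer

variable {G' : Type u} [Group G'] [Finite G'] {V' : Type v} [AddCommGroup V'] [Module (ZMod 2) V']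
  [Finite V'] {τ : Representation (ZMod 2) G' V'} {f : G' →* G} {j : V' →ₗ[ZMod 2] V}
  (hj : Function.Injective j) (he : ∀ (a : G') (v : V'), j (τ a v) = ρ (f a) (j v))

include hj he

theorem fixg_eq (U : Submodule (ZMod 2) V') : fixg τ U = (fixg ρ (U.map j)).comap f := by
  ext a
  rw [Subgroup.mem_comap, mem_fixg, mem_fixg]
  constructor
  · rintro h _ ⟨v, hv, rfl⟩
    rw [← he, h v hv]
  · intro h v hv
    exact hj (by rw [he]; exact h _ ⟨v, hv, rfl⟩)

theorem card_inf_fixd_eq (U : Submodule (ZMod 2) V') (E : Subgroup G') :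
    Nat.card ↥(U ⊓ fixd τ E) = Nat.card ↥(U.map j ⊓ fixd ρ (E.map f)) := by
  have e : U.map j ⊓ fixd ρ (E.map f) = (U ⊓ fixd τ E).map j := by
    ext v
    constructor
    · rintro ⟨⟨w, hw, rfl⟩, h2⟩
      exact ⟨w, ⟨hw, fun a ha => hj (by rw [he]; exact h2 _ ⟨a, ha, rfl⟩)⟩, rfl⟩
    · rintro ⟨w, hw, rfl⟩
      refine ⟨⟨w, hw.1, rfl⟩, ?_⟩
      rintro _ ⟨a, ha, rfl⟩
      rw [← he, hw.2 a ha]
  rw [e]
  exact Nat.card_congr (Submodule.equivMapOfInjective j hj _).toEquiv

theorem rstrict_iff (T : Subgroup G') (U : Submodule (ZMod 2) V') :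
    RStrict τ T U ↔ RStrict ρ (T.map f) (U.map j) := by
  constructor
  · intro h E hE hsq hne
    have e : (E.comap f ⊓ T).map f = E := le_antisymm
      ((Subgroup.map_mono inf_le_left).trans (Subgroup.map_comap_le f E)) fun x hx => by
        obtain ⟨a, ha, rfl⟩ := hE hx
        exact ⟨a, ⟨hx, ha⟩, rfl⟩
    have h1 := h (E.comap f ⊓ T) inf_le_right (fun x hx => by
      rw [fixg_eq hj he, Subgroup.mem_comap, map_pow]; exact hsq _ hx.1) fun hle => hne ?_
    · rw [fixg_eq hj he, Subgroup.relIndex_comap, card_inf_fixd_eq hj he, e] at h1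
      exact h1.trans_eq (Nat.card_congr (Submodule.equivMapOfInjective j hj U).toEquiv)
    · rw [← e]
      rintro _ ⟨a, ha, rfl⟩
      have := hle ha
      rwa [fixg_eq hj he, Subgroup.mem_comap] at this
  · intro h E hE hsq hne
    have h1 := h (E.map f) (Subgroup.map_mono hE) (by
      rintro _ ⟨a, ha, rfl⟩
      have := hsq a ha
      rw [fixg_eq hj he, Subgroup.mem_comap, map_pow] at this
      exact this) fun hle => hne fun a ha => by
      rw [fixg_eq hj he, Subgroup.mem_comap]; exact hle ⟨a, ha, rfl⟩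
    rw [fixg_eq hj he, Subgroup.relIndex_comap, card_inf_fixd_eq hj he]
    exact h1.trans_eq (Nat.card_congr (Submodule.equivMapOfInjective j hj U).toEquiv).symm

end transfer

end rep

/-- The span of the conjugates of a strict invariant subspace is strict. -/
theorem rstrict_join : ∀ (n : ℕ) {G : Type u} [Group G] [Finite G] {V : Type v} [AddCommGroup V]
    [Module (ZMod 2) V] [Finite V] (ρ : Representation (ZMod 2) G V) (W0 : Submodule (ZMod 2) V)
    (T : Subgroup G), Nat.card G = n → NoThree G → Grp.IsSylowIn 2 T ⊤ → T ≤ stab ρ W0 →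
    RStrict ρ T W0 → (⨆ g : G, W0.map (ρ g)) = ⊤ → RStrict ρ T ⊤ := by
  intro n
  induction n using Nat.strong_induction_on with
  | _ n ih =>
  intro G _ _ V _ _ _ ρ W0 T hn hnt hT hTS h0 hspan
  haveI : Fact (Nat.Prime 2) := ⟨Nat.prime_two⟩
  by_cases hinj : MonoidHom.ker ρ = ⊥
  swap
  · obtain ⟨σ, hσ, -⟩ := exists_kerLift ρ
    set π := QuotientGroup.mk' (MonoidHom.ker ρ) with hπ
    have hid : Function.Injective (LinearMap.id : V →ₗ[ZMod 2] V) := fun _ _ h => h
    have he : ∀ (a : G) (v : V), (LinearMap.id : V →ₗ[ZMod 2] V) (ρ a v) = σ (π a) ((LinearMap.id : V →ₗ[ZMod 2] V) v) :=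
      fun a v => (hσ a v).symm
    have h1 := rstrict_iff (τ := ρ) (ρ := σ) hid he T
    rw [h1, Submodule.map_id]
    rw [h1, Submodule.map_id] at h0
    refine ih _ (hn ▸ Grp.card_quotient_lt hinj) σ W0 _ rfl (hnt.quotient _) ⟨le_top, hT.2.1.map π,
      fun hd => hT.2.2 ?_⟩ ?_ h0 ?_
    · rw [Subgroup.relIndex_top_right] at hd ⊢
      exact hd.trans (T.index_map_dvd (QuotientGroup.mk'_surjective _))
    · rintro _ ⟨a, ha, rfl⟩
      intro u
      rw [show σ (π a) u = ρ a u from hσ a u]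
      exact hTS ha u
    · rw [← top_le_iff, ← hspan]
      refine iSup_le fun g => le_trans ?_ (le_iSup (fun q => W0.map (σ q)) (π g))
      rintro _ ⟨v, hv, rfl⟩
      exact ⟨v, hv, hσ g v⟩
  have hfaith : Function.Injective ρ := by
    intro x y h
    have h2 : x⁻¹ * y ∈ MonoidHom.ker ρ := by
      rw [MonoidHom.mem_ker, map_mul, ← h, ← map_mul, inv_mul_cancel, map_one]
    rw [hinj, Subgroup.mem_bot] at h2
    exact inv_mul_eq_one.mp h2
  have hbot : fixg ρ (⊤ : Submodule (ZMod 2) V) = ⊥ := (Subgroup.eq_bot_iff_forall _).mpr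
    fun x hx => hfaith (LinearMap.ext fun v => by rw [hx v Submodule.mem_top, map_one]; rfl)
  intro E hET hsq hne
  by_contra hcon
  rw [not_lt, hbot, Subgroup.relIndex_bot_left, top_inf_eq, card_top'] at hcon
  have hsq' : ∀ x ∈ E, x ^ 2 = 1 := fun x hx => Subgroup.mem_bot.mp (hbot ▸ hsq x hx)
  have hinv : ∀ x ∈ E, x⁻¹ = x := fun x hx =>
    inv_eq_of_mul_eq_one_right (by rw [← pow_two]; exact hsq' x hx)
  have hel : Cfsg.IsElementaryAbelian 2 E := by
    refine ⟨⟨⟨fun x y => Subtype.ext ?_⟩⟩, hsq'⟩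
    show (x : G) * y = y * x
    rw [← hinv _ (E.mul_mem x.2 y.2), mul_inv_rev, hinv _ x.2, hinv _ y.2]
  obtain ⟨A, hAE, hA⟩ := exists_minOff
    (⟨hel, fun e => hne (by rw [e]; exact bot_le), hcon⟩ : Off ρ E)
  have hAT := hAE.trans hET
  set J := jgen ρ T with hJ
  set M := normalizer (J : Set G) with hM
  have hTM : T ≤ M := Subgroup.le_normalizer.trans (normalizer_le_jgen T)
  have hJW : J ≤ fixg ρ W0 := iSup_le fun B =>
    rstrict_one hT hTS h0 B.1 B.2.1 (B.2.2.trans hTS)
  set U := ⨆ h : M, W0.map (ρ (h : G)) with hU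
  have hMU : M ≤ stab ρ U := by
    intro x hx
    refine mem_stab_of_forall fun u hu => ?_
    have h1 : U ≤ U.comap (ρ x) := by
      refine iSup_le fun h => ?_
      rintro _ ⟨w, hw, rfl⟩
      refine Submodule.mem_iSup_of_mem (⟨x, hx⟩ * h) ⟨w, hw, ?_⟩
      rw [Subgroup.coe_mul, rho_mul]
    exact h1 hu
  have hW0U : W0 ≤ U := fun w hw =>
    Submodule.mem_iSup_of_mem (⟨1, M.one_mem⟩ : M) ⟨w, hw, by rw [map_one]; rfl⟩
  have hJU : J ≤ fixg ρ U := by
    intro x hx
    have h1 : U ≤ fixd ρ (Subgroup.zpowers x) := by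
      refine iSup_le fun h => ?_
      rintro _ ⟨w, hw, rfl⟩ y hy
      have hxy : y ∈ J := Subgroup.zpowers_le.mpr hx hy
      have h2 := hJW (Grp.mem_conj_normalizer' h.2 hxy) w hw
      have h3 := congrArg (ρ (h : G)) h2
      rwa [rho_mul, rho_mul, rho_apply_inv] at h3
    exact fun u hu => h1 hu x (Subgroup.mem_zpowers x)
  have hAne : ¬ A ≤ fixg ρ (⊤ : Submodule (ZMod 2) V) := fun h =>
    hA.1.2.1 (le_bot_iff.mp (hbot ▸ h))
  suffices hUtop : U = ⊤ from hAne (hUtop ▸ (le_jgen hA hAT).trans hJU)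
  rw [← top_le_iff, ← hspan]
  suffices hstab : (⊤ : Subgroup G) ≤ stab ρ U by
    refine iSup_le fun g => ?_
    rintro _ ⟨w, hw, rfl⟩
    exact apply_mem_of_stab (hstab (mem_top g)) (hW0U hw)
  by_cases hMtop : M = ⊤
  · exact hMtop ▸ hMU
  -- the strictness on `U`, from the smaller group
  obtain ⟨τ, hτ⟩ : ∃ τ : Representation (ZMod 2) M U,
      ∀ (a : M) (x : U), ((τ a x : U) : V) = ρ (a : G) x := by
    refine ⟨
    { toFun := fun a => (ρ (a : G)).restrict fun u hu => apply_mem_of_stab (hMU a.2) hu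
      map_one' := LinearMap.ext fun x => Subtype.ext (by
        show ρ 1 (x : V) = x
        rw [map_one]; rfl)
      map_mul' := fun a b => LinearMap.ext fun x => Subtype.ext (by
        show ρ ((a : G) * b) (x : V) = ρ (a : G) (ρ (b : G) x)
        exact rho_mul ρ _ _ _) }, fun _ _ => rfl⟩
  have hiff := rstrict_iff (τ := τ) (ρ := ρ) (f := M.subtype) (j := U.subtype)
    U.subtype_injective (fun a v => hτ a v) (T.subgroupOf M)
  have hW0map : (W0.submoduleOf U).map U.subtype = W0 := by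
    rw [Submodule.submoduleOf, Submodule.map_comap_subtype, inf_eq_right.mpr hW0U]
  have hUstrict : RStrict ρ T U := by
    have h1 := (hiff ⊤).mp (ih _ (hn ▸ Grp.card_lt_of_ne_top hMtop) τ (W0.submoduleOf U)
      (T.subgroupOf M) rfl (hnt.subgroup M) ⟨le_top, hT.2.1.comap_subtype, ?_⟩ ?_
      ((hiff _).mpr (by rw [Subgroup.map_subgroupOf_eq_of_le hTM, hW0map]; exact h0)) ?_)
    · rwa [Subgroup.map_subgroupOf_eq_of_le hTM, Submodule.map_top, Submodule.range_subtype] at h1
    · rw [Subgroup.relIndex_top_right]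
      exact (sylowIn_of_between hT hTM le_top).2.2
    · intro a ha u
      show (u : V) ∈ W0 ↔ ((τ a u : U) : V) ∈ W0
      rw [hτ]
      exact hTS ha (u : V)
    · apply Submodule.map_injective_of_injective U.subtype_injective
      rw [Submodule.map_iSup, Submodule.map_top, Submodule.range_subtype]
      refine le_antisymm (iSup_le fun h => ?_) (hU.le.trans (iSup_le fun h => ?_))
      · rintro _ ⟨x, ⟨w, hw, rfl⟩, rfl⟩
        exact Submodule.mem_iSup_of_mem h ⟨(w : V), hw, (hτ h w).symm⟩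
      · rintro _ ⟨w, hw, rfl⟩
        exact Submodule.mem_iSup_of_mem h ⟨τ h ⟨w, hW0U hw⟩, ⟨⟨w, hW0U hw⟩, hw, rfl⟩, hτ h _⟩
  have hTU : T ≤ stab ρ U := hTM.trans hMU
  exact le_stab_descent hnt U (rstrict_one hT hTU hUstrict) (rstrict_two hT hTU hUstrict) _ ⊤ T rfl
    hT hTU (inf_le_right.trans hMU)

/-- The join of the conjugates of a strict invariant subgroup is strict. -/
theorem Strict.join {X T U W0 : Subgroup G} (hnt : NoThree X) (hU : Cfsg.IsElementaryAbelian 2 U)
    (hXU : X ≤ normalizer (U : Set G)) (hW : W0 ≤ U) (hT : Grp.IsSylowIn 2 T X)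
    (hTW : T ≤ normalizer (W0 : Set G)) (h0 : Strict T W0)
    (hspan : U ≤ ⨆ x : X, MulAut.conj (x : G) • W0) : Strict T U := by
  haveI : IsMulCommutative U := hU.1
  letI : CommGroup U := { (inferInstance : Group U) with
    mul_comm := fun a b => Subtype.ext (el_comm hU a.2 b.2) }
  letI : Module (ZMod 2) (Additive U) := AddCommGroup.zmodModule (fun w => by
    refine Additive.toMul.injective (Subtype.ext ?_)
    exact hU.2 _ (Additive.toMul w).2)
  obtain ⟨ρ, hρ⟩ : ∃ ρ : Representation (ZMod 2) X (Additive U),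
      ∀ (g : X) (w : Additive U),
        ((Additive.toMul (ρ g w) : U) : G) = g * ((Additive.toMul w : U) : G) * (g : G)⁻¹ := by
    let θ : X → U →* U := fun g => MonoidHom.mk'
      (fun w => ⟨g * w * (g : G)⁻¹, conj_mem (hXU g.2) w.2⟩) fun a b => Subtype.ext (by
        show (g : G) * (a * b) * (g : G)⁻¹ = g * a * (g : G)⁻¹ * (g * b * (g : G)⁻¹)
        group)
    refine ⟨
    { toFun := fun g => (θ g).toAdditive.toZModLinearMap 2
      map_one' := LinearMap.ext fun w => Additive.toMul.injective (Subtype.ext (by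
        show ((1 : X) : G) * _ * ((1 : X) : G)⁻¹ = _
        simp))
      map_mul' := fun g g' => LinearMap.ext fun w => Additive.toMul.injective (Subtype.ext (by
        show ((g : G) * g') * _ * ((g : G) * g')⁻¹ = g * (g' * _ * (g' : G)⁻¹) * (g : G)⁻¹
        group)) }, fun g w => rfl⟩
  -- subgroups of `U` as subspaces
  let sm : Subgroup G → Submodule (ZMod 2) (Additive U) := fun P =>
    (Subgroup.toAddSubgroup (P.subgroupOf U)).toZModSubmodule 2
  have hmem : ∀ P v, v ∈ sm P ↔ ((Additive.toMul v : U) : G) ∈ P := fun P v => Iff.rfl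
  have hfixg : ∀ P ≤ U, fixg ρ (sm P) = (centralizer (P : Set G)).subgroupOf X := by
    intro P hP
    ext g
    rw [mem_fixg, Subgroup.mem_subgroupOf, Subgroup.mem_centralizer_iff]
    constructor
    · intro h y hy
      have h1 := congrArg (fun w => ((Additive.toMul w : U) : G))
        (h (Additive.ofMul ⟨y, hP hy⟩) hy)
      simp only [hρ, toMul_ofMul] at h1
      rw [mul_inv_eq_iff_eq_mul] at h1
      exact h1.symm
    · intro h v hv
      refine Additive.toMul.injective (Subtype.ext ?_)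
      rw [hρ, ← h _ ((hmem P v).mp hv), mul_inv_cancel_right]
  have hfixd : ∀ P ≤ U, ∀ E : Subgroup X, Nat.card ↥(sm P ⊓ fixd ρ E) =
      Nat.card ↥(centralizer (E.map X.subtype : Set G) ⊓ P) := by
    intro P hP E
    refine Nat.card_congr
      { toFun := fun v => ⟨((Additive.toMul (v : Additive U) : U) : G),
          Subgroup.mem_centralizer_iff.mpr ?_, v.2.1⟩
        invFun := fun y => ⟨Additive.ofMul ⟨y, hP y.2.2⟩, y.2.2, fun e he => ?_⟩
        left_inv := fun _ => rfl
        right_inv := fun _ => rfl }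
    · rintro _ ⟨e, he, rfl⟩
      have h1 := congrArg (fun w => ((Additive.toMul w : U) : G)) (v.2.2 e he)
      simp only [hρ] at h1
      rw [mul_inv_eq_iff_eq_mul] at h1
      exact h1
    · refine Additive.toMul.injective (Subtype.ext ?_)
      rw [hρ]
      have h1 : (e : G) * (y : G) = y * e :=
        Subgroup.mem_centralizer_iff.mp y.2.1 _ ⟨e, he, rfl⟩
      show (e : G) * (y : G) * (e : G)⁻¹ = y
      rw [h1, mul_inv_cancel_right]
  have hstrict : ∀ P ≤ U, RStrict ρ (T.subgroupOf X) (sm P) ↔ Strict T P := by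
    intro P hP
    have hcP : Nat.card (sm P) = Nat.card P := Nat.card_congr
      { toFun := fun v => ⟨_, v.2⟩
        invFun := fun y => ⟨Additive.ofMul ⟨y, hP y.2⟩, y.2⟩
        left_inv := fun _ => rfl
        right_inv := fun _ => rfl }
    constructor
    · intro h A hA hsq hne
      have eA : (A.subgroupOf X).map X.subtype = A :=
        Subgroup.map_subgroupOf_eq_of_le (hA.trans hT.1)
      have h1 := h (A.subgroupOf X) (fun x hx => hA hx) (fun x hx => by
        rw [hfixg P hP, Subgroup.mem_subgroupOf, SubmonoidClass.coe_pow]; exact hsq _ hx)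
        fun hle => hne fun a ha => by
          have := hle (show (⟨a, hT.1 (hA ha)⟩ : X) ∈ A.subgroupOf X from ha)
          rwa [hfixg P hP] at this
      rw [hfixg P hP, Subgroup.subgroupOf, Subgroup.relIndex_comap, hfixd P hP, eA, hcP,
        ← relIndex_mul_card_inf (centralizer (A : Set G)) P] at h1
      exact Nat.lt_of_mul_lt_mul_right h1
    · intro h E hE hsq hne
      have h1 := h (E.map X.subtype) (by rintro _ ⟨e, he, rfl⟩; exact hE he) (by
        rintro _ ⟨e, he, rfl⟩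
        have := hsq e he
        rw [hfixg P hP, Subgroup.mem_subgroupOf, SubmonoidClass.coe_pow] at this
        exact this) fun hle => hne fun e he => by
          rw [hfixg P hP, Subgroup.mem_subgroupOf]; exact hle ⟨e, he, rfl⟩
      rw [hfixg P hP, Subgroup.subgroupOf, Subgroup.relIndex_comap, hfixd P hP, hcP,
        ← relIndex_mul_card_inf (centralizer (E.map X.subtype : Set G)) P]
      exact Nat.mul_lt_mul_of_pos_right h1 Nat.card_pos
  have hsmU : sm U = ⊤ := eq_top_iff.mpr fun v _ => (Additive.toMul v).2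
  rw [← hstrict U le_rfl, hsmU]
  refine rstrict_join _ ρ (sm W0) _ rfl hnt ⟨le_top, hT.2.1.comap_subtype, ?_⟩ ?_
    ((hstrict W0 hW).mpr h0) ?_
  · rw [Subgroup.relIndex_top_right]
    exact hT.2.2
  · intro a ha u
    rw [hmem, hmem, hρ]
    exact Subgroup.mem_normalizer_iff.mp (hTW ha) _
  · rw [eq_top_iff]
    intro v _
    let K : Subgroup G :=
      { carrier := {y | ∃ h : y ∈ U, Additive.ofMul ⟨y, h⟩ ∈ ⨆ g : X, (sm W0).map (ρ g)}
        one_mem' := ⟨U.one_mem, Submodule.zero_mem _⟩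
        mul_mem' := fun {a b} ⟨ha, ha'⟩ ⟨hb, hb'⟩ => ⟨U.mul_mem ha hb, Submodule.add_mem _ ha' hb'⟩
        inv_mem' := fun {a} ⟨ha, ha'⟩ => ⟨U.inv_mem ha, Submodule.neg_mem _ ha'⟩ }
    have hK : (⨆ x : X, MulAut.conj (x : G) • W0) ≤ K := by
      refine iSup_le fun x => ?_
      intro y hy
      have hw : (x : G)⁻¹ * y * x ∈ W0 := mem_cj.mp hy
      have hyU : y ∈ U := by
        have := conj_mem (hXU x.2) (hW hw)
        rwa [show (x : G) * ((x : G)⁻¹ * y * x) * (x : G)⁻¹ = y by group] at this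
      refine ⟨hyU, Submodule.mem_iSup_of_mem x ⟨Additive.ofMul ⟨_, hW hw⟩, hw,
        Additive.toMul.injective (Subtype.ext ?_)⟩⟩
      rw [hρ]
      show (x : G) * ((x : G)⁻¹ * y * x) * (x : G)⁻¹ = y
      group
    exact (hK (hspan (Additive.toMul v).2)).choose_spec

end Cfsg.Agent.Fus.Stell
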