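import Cfsg.Agent.Lib.Fus.FieldEight
import Cfsg.Agent.Lib.Lie.Sz.Partition
import Mathlib

/-! The Suzuki group over eight elements extended by the field automorphism, its action on the tensor
product of the natural module with its Frobenius twist, and its element orders. -/

set_option autoImplicit false
set_option maxRecDepth 100000

namespace Cfsg.Agent.Fus.SzEight

open Cfsg.Agent Matrix F8
open scoped Fin.NatCast Pointwise

theorem hS : Suz.SzField F8 1 := ⟨le_rfl, by rw [card_eq]; norm_num⟩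

/-- The group. -/
abbrev S := ↥(Cfsg.Sz F8 1)

/-- Four by four matrices. -/
abbrev M4 := Matrix (Fin 4) (Fin 4) F8

theorem frob_th : ∀ x : F8, frob (Suz.th 1 x) = Suz.th 1 (frob x) := by decide +kernel

theorem frob_surj : ∀ x : F8, ∃ y, frob y = x := fun x => ⟨frob (frob x), frob_three x⟩

theorem frob_fo (x y : F8) : frob (Suz.fo 1 x y) = Suz.fo 1 (frob x) (frob y) := by
  simp only [Suz.fo, map_add, map_mul, map_pow, frob_th]

/-- A vector for a point of the ovoid. -/
def vec : Option (F8 × F8) → Fin 4 → F8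
  | none => ![1, 0, 0, 0]
  | some p => Suz.vv 1 p.1 p.2

theorem vec_ne : ∀ o, vec o ≠ 0
  | none => by simp [vec]
  | some p => Suz.vv_ne_zero _ _

theorem pt_eq : ∀ o, Suz.pt 1 o = Projectivization.mk F8 (vec o) (vec_ne o)
  | none => rfl
  | some _ => rfl

theorem frob_vec : ∀ o, frob ∘ vec o = vec (o.map (Prod.map frob frob))
  | none => by funext i; fin_cases i <;> simp [vec]
  | some p => by
      funext i
      fin_cases i <;> simp [vec, Suz.vv, frob_fo]

theorem map_frob_mem {g : Matrix.SpecialLinearGroup (Fin 4) F8} (hg : g ∈ Cfsg.Sz F8 1) :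
    Matrix.SpecialLinearGroup.map frob g ∈ Cfsg.Sz F8 1 := by
  refine Suz.mem_Sz_of_perm hS fun o => ?_
  obtain ⟨o₀, ho⟩ : ∃ o₀ : Option (F8 × F8), o₀.map (Prod.map frob frob) = o := by
    rcases o with _ | ⟨x, y⟩
    · exact ⟨none, rfl⟩
    · obtain ⟨x', rfl⟩ := frob_surj x
      obtain ⟨y', rfl⟩ := frob_surj y
      exact ⟨some (x', y'), rfl⟩
  have hmem : g • Suz.pt 1 o₀ ∈ Cfsg.suzukiOvoid F8 1 := by
    have h' : g • Suz.pt 1 o₀ ∈ g • Cfsg.suzukiOvoid F8 1 :=
      Set.smul_mem_smul_set (Suz.mem_ovoid_iff.2 ⟨o₀, rfl⟩)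
    rwa [MulAction.mem_stabilizer_iff.1 hg] at h' 
  obtain ⟨o₁, ho₁⟩ := Suz.mem_ovoid_iff.1 hmem
  rw [pt_eq, pt_eq, Projectivization.smul_mk] at ho₁
  obtain ⟨c, hc⟩ := (Projectivization.mk_eq_mk_iff' F8 _ _ _ _).1 ho₁
  have hc0 : c ≠ 0 := fun h => vec_ne o₁ (by rw [← hc, h, zero_smul])
  refine ⟨o₁.map (Prod.map frob frob), ?_⟩
  rw [pt_eq, pt_eq]
  refine Suz.smul_mk _ _ _ (c := frob c⁻¹) ?_
  have e : g.1 *ᵥ vec o₀ = c⁻¹ • vec o₁ := by
    rw [← hc, inv_smul_smul₀ hc0]
    rfl
  rw [← ho, ← frob_vec, ← frob_vec]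
  funext i
  have h := congrArg frob (congrFun e i)
  rw [Pi.smul_apply, smul_eq_mul, map_mul, RingHom.map_mulVec] at h
  exact h

/-- The field automorphism of the group. -/
noncomputable def sigma : S ≃* S :=
  MulEquiv.ofBijective
    (((Matrix.SpecialLinearGroup.map frob).comp (Cfsg.Sz F8 1).subtype).codRestrict (Cfsg.Sz F8 1)
      fun g => map_frob_mem g.2)
    ((Finite.injective_iff_bijective).1 fun a b h => Subtype.ext <| Subtype.ext <| Matrix.ext fun i j => by
      have h' := congrArg (fun g : S => frob (frob (g.1.1 i j))) h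
      exact (frob_three _).symm.trans (h'.trans (frob_three _)))

/-- The underlying matrix. -/
abbrev mx (g : S) : M4 := g.1.1

theorem mx_sigma (g : S) : mx (sigma g) = (mx g).map frob := rfl

theorem mx_mul (g h : S) : mx (g * h) = mx g * mx h := rfl

theorem mx_injective : Function.Injective mx := fun _ _ h => Subtype.ext (Subtype.ext h)

theorem mx_sigma_pow (k : ℕ) (g : S) : mx ((sigma ^ k : MulAut S) g) = (mx g).map (frob^[k]) := by
  induction k generalizing g with
  | zero => rfl
  | succ k ih =>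
    rw [pow_succ, MulAut.mul_apply, ih, mx_sigma, Matrix.map_map, Function.iterate_succ]

theorem sigma_three : (sigma : MulAut S) ^ 3 = 1 := MulEquiv.ext fun g => mx_injective (by
  rw [mx_sigma_pow]
  exact Matrix.ext fun i j => frob_three _)

/-- The group of order three. -/
abbrev C3 := Multiplicative (ZMod 3)

/-- Its action. -/
noncomputable def act : C3 →* MulAut S :=
  MonoidHom.mk' (fun k => (sigma : MulAut S) ^ k.toAdd.val) fun a b => by
    rw [← pow_add, toAdd_mul, ZMod.val_add, ← pow_eq_pow_mod _ sigma_three]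

/-- The extension. -/
abbrev X := S ⋊[act] C3

instance : Finite X := Finite.of_equiv _ SemidirectProduct.equivProd.symm

theorem card_S : Nat.card S = 2 ^ 6 * 5 * 7 * 13 := by
  rw [Suz.card_Sz hS]
  norm_num

theorem card_X : Nat.card X = 2 ^ 6 * 5 * 7 * 13 * 3 := by
  rw [SemidirectProduct.card, card_S, Nat.card_congr Multiplicative.toAdd, Nat.card_zmod]

/-- The Frobenius on a module vector. -/
def fv (k : ℕ) (v : M4) : M4 := v.map (frob^[k])

theorem fv_mul (k : ℕ) (a b : M4) : fv k (a * b) = fv k a * fv k b := by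
  induction k with
  | zero => rfl
  | succ k ih =>
    have h : ∀ c : M4, fv (k + 1) c = (fv k c).map frob := fun c => by
      simp only [fv, Matrix.map_map, Function.iterate_succ']
    rw [h, h, h, ih, Matrix.map_mul]

theorem fv_add (k : ℕ) (a b : M4) : fv k (a + b) = fv k a + fv k b :=
  Matrix.map_add _ (fun x y => iterate_map_add frob k x y) a b

theorem fv_fv (k l : ℕ) (v : M4) : fv k (fv l v) = fv (k + l) v := by
  rw [fv, fv, fv, Matrix.map_map, Function.iterate_add]

theorem iterate_mod (k : ℕ) : (frob : F8 → F8)^[k % 3] = (frob : F8 → F8)^[k] := by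
  have h3 : (frob : F8 → F8)^[3] = id := funext frob_three
  conv_rhs => rw [← Nat.mod_add_div k 3, Function.iterate_add, Function.iterate_mul, h3,
    Function.iterate_id, Function.comp_id]

theorem fv_mod (k : ℕ) (v : M4) : fv (k % 3) v = fv k v := by
  rw [fv, fv, iterate_mod]

theorem fv_transpose (k : ℕ) (v : M4) : (fv k v)ᵀ = fv k vᵀ := rfl

/-- The action on the module. -/
noncomputable def app (x : X) (v : M4) : M4 :=
  mx x.left * fv x.right.toAdd.val v * ((mx x.left).map frob)ᵀ

theorem mx_act (k : C3) (t : S) : mx (act k t) = fv k.toAdd.val (mx t) := mx_sigma_pow _ t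

theorem app_alg (a b v : M4) (i j : ℕ) :
    a * fv i b * fv ((i + j) % 3) v * ((a * fv i b).map frob)ᵀ =
      a * fv i (b * fv j v * (b.map frob)ᵀ) * (a.map frob)ᵀ := by
  have h1 : ((fv i b).map frob)ᵀ = fv i (b.map frob)ᵀ := by
    refine Matrix.ext fun r c => ?_
    simp only [fv, Matrix.map_apply, Matrix.transpose_apply]
    exact (Function.Commute.self_iterate (frob : F8 → F8) _) _
  rw [Matrix.map_mul, Matrix.transpose_mul, fv_mul, fv_mul, fv_fv, fv_mod, h1]
  simp only [Matrix.mul_assoc]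

theorem app_mul (x y : X) (v : M4) : app (x * y) v = app x (app y v) := by
  have hl : mx (x * y).left = mx x.left * fv x.right.toAdd.val (mx y.left) := by
    rw [SemidirectProduct.mul_left, mx_mul, mx_act]
  have hr : (x * y).right.toAdd.val = (x.right.toAdd.val + y.right.toAdd.val) % 3 := by
    rw [SemidirectProduct.mul_right, toAdd_mul, ZMod.val_add]
  unfold app
  rw [hl, hr]
  exact app_alg _ _ _ _ _

noncomputable instance : DistribMulAction X M4 where
  smul := app
  one_smul v := by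
    show app 1 v = v
    simp [app, mx, fv, Matrix.map_one]
  mul_smul x y v := app_mul x y v
  smul_zero x := by
    show app x 0 = 0
    have h : fv x.right.toAdd.val (0 : M4) = 0 := Matrix.map_zero _ (iterate_map_zero frob _)
    simp [app, h]
  smul_add x v w := by
    show app x (v + w) = app x v + app x w
    simp only [app, fv_add, mul_add, add_mul]

theorem smul_def' (x : X) (v : M4) : x • v = app x v := rfl

/-- The torus element of order seven. -/
noncomputable def g7 : S := Suz.hTor hS (Units.mk0 e2 (by decide))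

/-- The element of order thirteen. -/
noncomputable def g13 : S := Suz.wS hS * Suz.uS hS 0 e3

/-- The element of order five. -/
noncomputable def g5 : S := Suz.wS hS * Suz.uS hS 0 e1

/-- An involution. -/
noncomputable def g2 : S := Suz.uS hS 0 e1

def A7 : M4 := Suz.dMat 1 e2
def A13 : M4 := Suz.wMat * Suz.tMat 1 0 e3
def A5 : M4 := Suz.wMat * Suz.tMat 1 0 e1
def A2 : M4 := Suz.tMat 1 0 e1

theorem facts :
    (A7 ^ 7 = 1 ∧ A7 ≠ 1) ∧ (A13 ^ 13 = 1 ∧ A13 ≠ 1) ∧ (A5 ^ 5 = 1 ∧ A5 ≠ 1) ∧ (A2 ^ 2 = 1 ∧ A2 ≠ 1) ∧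
    A5.map frob = A5 ∧ A2.map frob = A2 := by
  decide +kernel

theorem traces : (∀ k : Fin 7, k ≠ 0 → (A7 ^ (k : ℕ)).trace ≠ 0 ∧ (A7 ^ (k : ℕ)).trace ≠ 1) ∧
    ∀ k : Fin 13, k ≠ 0 → (A13 ^ (k : ℕ)).trace ≠ 0 ∧ (A13 ^ (k : ℕ)).trace ≠ 1 := by
  decide +kernel

/-- Vectors fixed by the elements of orders seven and five. -/
def v7 : M4 := !![0, 1, 0, 0; 0, 0, 0, 0; 0, 0, 0, 0; 0, 0, 0, 0]
def v5 : M4 := !![0, 0, 0, 1; 0, 0, 1, 0; 0, 1, 0, 0; 1, 0, 0, 0]

theorem fixed_vectors : A7 * v7 * (A7.map frob)ᵀ = v7 ∧ v7 ≠ 0 ∧ A5 * v5 * (A5.map frob)ᵀ = v5 ∧ v5 ≠ 0 := by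
  decide +kernel

/-- The data of the Sylvester equation. -/
def yy : M4 := ((A13.map frob)ᵀ) ^ 12
def pinv : M4 := !![e4, e4, e2, e5; e4, e1, e2, e2; e2, e2, e0, e3; e5, e2, e3, e1]

theorem sylvester_data : A13 ^ 4 + e7 • A13 ^ 3 + e5 • A13 ^ 2 + e7 • A13 + 1 = 0 ∧
    (yy ^ 4 + e7 • yy ^ 3 + e5 • yy ^ 2 + e7 • yy + 1) * pinv = 1 ∧ (A13.map frob)ᵀ * yy = 1 := by
  decide +kernel

theorem no_fixed {v : M4} (h : A13 * v * (A13.map frob)ᵀ = v) : v = 0 := by
  obtain ⟨hp, hi, hy⟩ := sylvester_data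
  have h1 : A13 * v = v * yy := by
    conv_rhs => rw [← h, Matrix.mul_assoc, hy, Matrix.mul_one]
  have hk : ∀ k : ℕ, A13 ^ k * v = v * yy ^ k := by
    intro k
    induction k with
    | zero => simp
    | succ k ih => rw [pow_succ, pow_succ, Matrix.mul_assoc, h1, ← Matrix.mul_assoc, ih, Matrix.mul_assoc]
  have h2 : (A13 ^ 4 + e7 • A13 ^ 3 + e5 • A13 ^ 2 + e7 • A13 + 1) * v =
      v * (yy ^ 4 + e7 • yy ^ 3 + e5 • yy ^ 2 + e7 • yy + 1) := by
    simp only [add_mul, mul_add, Matrix.smul_mul, Matrix.mul_smul, hk, h1, one_mul, mul_one]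
  rw [hp, zero_mul] at h2
  calc v = v * ((yy ^ 4 + e7 • yy ^ 3 + e5 • yy ^ 2 + e7 • yy + 1) * pinv) := by rw [hi, mul_one]
    _ = 0 := by rw [← Matrix.mul_assoc, ← h2, zero_mul]

theorem mx_g7 : mx g7 = A7 := rfl
theorem mx_g13 : mx g13 = A13 := rfl
theorem mx_g5 : mx g5 = A5 := rfl
theorem mx_g2 : mx g2 = A2 := rfl

theorem mx_pow (g : S) (n : ℕ) : mx (g ^ n) = mx g ^ n := by
  induction n with
  | zero => rfl
  | succ n ih => rw [pow_succ, mx_mul, ih, pow_succ]

theorem order_of_mx {p : ℕ} [Fact p.Prime] {g : S} {A : M4} (hA : mx g = A) (h : A ^ p = 1 ∧ A ≠ 1) :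
    orderOf g = p :=
  orderOf_eq_prime (mx_injective (by rw [mx_pow, hA, h.1]; rfl))
    (fun e => h.2 (by rw [← hA, e]; rfl))

theorem order_g7 : orderOf g7 = 7 := by
  have := Fact.mk (show Nat.Prime 7 by norm_num)
  exact order_of_mx mx_g7 facts.1

theorem order_g13 : orderOf g13 = 13 := by
  have := Fact.mk (show Nat.Prime 13 by norm_num)
  exact order_of_mx mx_g13 facts.2.1

theorem order_g5 : orderOf g5 = 5 := by
  have := Fact.mk (show Nat.Prime 5 by norm_num)
  exact order_of_mx mx_g5 facts.2.2.1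

theorem order_g2 : orderOf g2 = 2 := order_of_mx mx_g2 facts.2.2.2.1

/-- The centralisers of elements of order `7` and `13` in the Suzuki group. -/
theorem centralizer_card {q : ℕ} (hq : q = 7 ∨ q = 13) {g y : S} (hg : orderOf g = q)
    (hy : Commute g y) : y ^ q = 1 := by
  have hqp : q.Prime := by rcases hq with rfl | rfl <;> norm_num
  have hg1 : g ≠ 1 := fun h => hqp.ne_one (by rw [← hg, h, orderOf_one])
  set C := Subgroup.centralizer ({g} : Set S)
  have hgC : g ∈ C := Subgroup.mem_centralizer_singleton_iff.2 rfl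
  have hyC : y ∈ C := Subgroup.mem_centralizer_singleton_iff.2 hy.eq.symm
  rcases Suz.cent_cases hS hg1 with ⟨c, hc⟩ | ⟨-, hcard, -⟩
  · exfalso
    have hd := Subgroup.orderOf_dvd_natCard _ hc
    rw [← MulAut.conj_apply, MulEquiv.orderOf_eq, hg, Suz.card_unip hS] at hd
    rcases hq with rfl | rfl <;> norm_num at hd
  · have hd : q ∣ Nat.card C := hg ▸ Subgroup.orderOf_dvd_natCard C hgC
    have hy' := Subgroup.orderOf_dvd_natCard C hyC
    have hC : Nat.card C = q := by
      change Nat.card C ∈ ({2 ^ (2 * 1 + 1) - 1, 2 ^ (2 * 1 + 1) + 2 ^ (1 + 1) + 1,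
        2 ^ (2 * 1 + 1) - 2 ^ (1 + 1) + 1} : Set ℕ) at hcard
      norm_num at hcard
      rcases hcard with h | h | h <;> rw [h] at hd ⊢ <;> rcases hq with rfl | rfl <;>
        first | rfl | (exfalso; norm_num at hd)
    exact orderOf_dvd_iff_pow_eq_one.1 (hC ▸ hy')

theorem inl_of_right {z : X} (h : z.right = 1) : z = SemidirectProduct.inl z.left :=
  SemidirectProduct.ext rfl (by rw [h]; rfl)

theorem right_eq_one {z : X} {n : ℕ} (hz : z ^ n = 1) (hn : Nat.Coprime 3 n) : z.right = 1 := by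
  have h1 : z.right ^ n = 1 := by
    have := congrArg SemidirectProduct.rightHom hz
    rwa [map_pow, map_one] at this
  have h2 : z.right ^ 3 = 1 := by
    have := pow_card_eq_one' (x := z.right)
    rwa [Nat.card_congr Multiplicative.toAdd, Nat.card_zmod] at this
  have := pow_gcd_eq_one.2 ⟨h2, h1⟩
  rwa [hn.gcd_eq_one, pow_one] at this

/-- An element of order `q` is conjugate into the given cyclic group. -/
theorem conj_into {q : ℕ} (hq : q.Prime) (hq2 : ¬ q ^ 2 ∣ Nat.card S) {g x : S} (hg : orderOf g = q)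
    (hx : orderOf x = q) : ∃ c : S, ∃ k : ℕ, k < q ∧ k ≠ 0 ∧ c * x * c⁻¹ = g ^ k := by
  have := Fact.mk hq
  have hqd : q ∣ Nat.card S := hg ▸ orderOf_dvd_natCard g
  have hfac : (Nat.card S).factorization q = 1 := by
    refine le_antisymm (Nat.lt_succ_iff.1 (Nat.lt_of_not_le fun h => hq2 ?_))
      (hq.factorization_pos_of_dvd Nat.card_pos.ne' hqd)
    exact (hq.pow_dvd_iff_le_factorization Nat.card_pos.ne').2 h
  have hc : ∀ a : S, orderOf a = q → Nat.card (Subgroup.zpowers a) = q ^ (Nat.card S).factorization q := fun a ha => by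
    rw [Nat.card_zpowers, ha, hfac, pow_one]
  obtain ⟨c, hc'⟩ := MulAction.exists_smul_eq S (Sylow.ofCard _ (hc x hx)) (Sylow.ofCard _ (hc g hg))
  have hm : c * x * c⁻¹ ∈ Subgroup.zpowers g := by
    have : c * x * c⁻¹ ∈ ((c • Sylow.ofCard _ (hc x hx) : Sylow q S) : Subgroup S) := by
      rw [Sylow.smul_def, ← SetLike.mem_coe]
      exact ⟨x, Subgroup.mem_zpowers x, rfl⟩
    rw [hc'] at this
    exact this
  obtain ⟨k, hk, hk'⟩ := (IsOfFinOrder.mem_zpowers_iff_mem_range_orderOf (isOfFinOrder_of_finite g)).1 hm |>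
    Finset.mem_image.1
  refine ⟨c, k, by rw [← hg]; exact Finset.mem_range.1 hk, fun h => ?_, hk'.symm⟩
  rw [h, pow_zero] at hk'
  have : x = 1 := by
    calc x = c⁻¹ * (c * x * c⁻¹) * c := by group
      _ = 1 := by rw [← hk']; group
  exact hq.ne_one (by rw [← hx, this, orderOf_one])

theorem trace_not_rational {q : ℕ} (hq : q = 7 ∨ q = 13) {x : S} (hx : orderOf x = q) :
    (mx x).trace ≠ 0 ∧ (mx x).trace ≠ 1 := by
  have hconj : ∀ c : S, (mx (c * x * c⁻¹)).trace = (mx x).trace := fun c => by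
    rw [mx_mul, mx_mul, Matrix.trace_mul_cycle, ← mx_mul c⁻¹ c, inv_mul_cancel]
    exact congrArg Matrix.trace (Matrix.one_mul _)
  rcases hq with rfl | rfl
  · obtain ⟨c, k, hk, hk0, hck⟩ := conj_into (by norm_num) (by rw [card_S]; norm_num) order_g7 hx
    rw [← hconj c, hck, mx_pow, mx_g7]
    exact traces.1 ⟨k, hk⟩ fun h => hk0 (congrArg Fin.val h)
  · obtain ⟨c, k, hk, hk0, hck⟩ := conj_into (by norm_num) (by rw [card_S]; norm_num) order_g13 hx
    rw [← hconj c, hck, mx_pow, mx_g13]
    exact traces.2 ⟨k, hk⟩ fun h => hk0 (congrArg Fin.val h)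

theorem trace_map (A : M4) (k : ℕ) : (fv k A).trace = frob^[k] A.trace := by
  induction k generalizing A with
  | zero => rfl
  | succ k ih =>
    rw [Function.iterate_succ', Function.comp_apply, ← ih, fv, Function.iterate_succ', ← Matrix.map_map]
    exact (AddMonoidHom.map_trace (frob : F8 →+* F8).toAddMonoidHom _).symm

/-- The elements of order `7` and `13` are self-centralising in the extension. -/
theorem no_adj {q r : ℕ} (hq : q = 7 ∨ q = 13) (hr : r.Prime) (hrq : r ≠ q) :
    ¬ ∃ z : X, orderOf z = q * r := by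
  have hqp : q.Prime := by rcases hq with rfl | rfl <;> norm_num
  have hq3 : Nat.Coprime 3 q := by rcases hq with rfl | rfl <;> norm_num
  rintro ⟨z, hz⟩
  have hxz : orderOf (z ^ r) = q := by
    rw [orderOf_pow_of_dvd hr.ne_zero (hz ▸ Dvd.intro_left q rfl), hz, Nat.mul_div_cancel _ hr.pos]
  have hxr := right_eq_one (hxz ▸ pow_orderOf_eq_one (z ^ r)) hq3
  obtain ⟨x, hx⟩ : ∃ x : S, z ^ r = SemidirectProduct.inl x := ⟨_, inl_of_right hxr⟩
  have hxo : orderOf x = q := by
    rw [← hxz, hx, orderOf_injective _ SemidirectProduct.inl_injective]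
  have hcomm : Commute (SemidirectProduct.inl x : X) z := hx ▸ (Commute.refl z).pow_left r
  rcases eq_or_ne z.right 1 with h1 | h1
  · obtain ⟨y, rfl⟩ : ∃ y : S, z = SemidirectProduct.inl y := ⟨_, inl_of_right h1⟩
    have hy := orderOf_dvd_of_pow_eq_one (centralizer_card hq hxo (SemidirectProduct.inl_injective
      (by rw [map_mul, map_mul]; exact hcomm.eq) : Commute x y))
    rw [orderOf_injective _ SemidirectProduct.inl_injective] at hz
    rw [hz] at hy
    have := Nat.le_of_dvd hqp.pos hy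
    nlinarith [hr.two_le, hqp.two_le]
  · have h2 := congrArg SemidirectProduct.left hcomm.eq
    rw [SemidirectProduct.mul_left, SemidirectProduct.mul_left, SemidirectProduct.left_inl,
      SemidirectProduct.right_inl, map_one, MulAut.one_apply] at h2
    have h3 : (mx x).trace = frob^[z.right.toAdd.val] (mx x).trace := by
      rw [← trace_map, ← mx_act]
      have e : x = z.left * act z.right x * z.left⁻¹ := by rw [← h2, mul_inv_cancel_right]
      conv_lhs => rw [e]
      rw [mx_mul, mx_mul, Matrix.trace_mul_cycle, ← mx_mul z.left⁻¹, inv_mul_cancel]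
      exact congrArg Matrix.trace (Matrix.one_mul _)
    set k := z.right.toAdd.val
    have hk : k = 1 ∨ k = 2 := by
      have hk3 : k < 3 := ZMod.val_lt _
      have hk0 : k ≠ 0 := fun h => h1 (Multiplicative.toAdd.injective (by rw [toAdd_one]; exact (ZMod.val_eq_zero _).1 h))
      omega
    have hfix : frob (mx x).trace = (mx x).trace := by
      rcases hk with h | h
      · rw [h] at h3; exact h3.symm
      · rw [h] at h3
        have h4 := congrArg frob h3
        rw [show frob^[2] (mx x).trace = frob (frob (mx x).trace) from rfl, frob_three] at h4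
        exact h4
    obtain ⟨n0, n1⟩ := trace_not_rational hq hxo
    rcases frob_fixed _ hfix with h | h
    · exact n0 h
    · exact n1 h

theorem order_f : orderOf (SemidirectProduct.inr (Multiplicative.ofAdd (1 : ZMod 3)) : X) = 3 := by
  have := Fact.mk Nat.prime_three
  rw [orderOf_injective _ SemidirectProduct.inr_injective]
  exact orderOf_eq_prime (by decide) (by decide)

theorem exists_three_mul {p : ℕ} (hp : p.Prime) (hp3 : p ≠ 3) {g : S} (hg : orderOf g = p) {A : M4}
    (hA : mx g = A) (hAf : A.map frob = A) : ∃ z : X, orderOf z = 3 * p := by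
  have hfix : act (Multiplicative.ofAdd (1 : ZMod 3)) g = g := mx_injective (by
    rw [mx_act, hA]; exact hAf)
  have hc : Commute (SemidirectProduct.inr (Multiplicative.ofAdd (1 : ZMod 3)) : X) (SemidirectProduct.inl g) := by
    show _ = _
    refine SemidirectProduct.ext ?_ ?_
    · simp [hfix]
    · simp
  refine ⟨(SemidirectProduct.inr (Multiplicative.ofAdd (1 : ZMod 3)) : X) * SemidirectProduct.inl g, ?_⟩
  rw [hc.orderOf_mul_eq_mul_orderOf_of_coprime (by
    rw [order_f, orderOf_injective _ SemidirectProduct.inl_injective, hg]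
    exact (Nat.coprime_primes Nat.prime_three hp).2 hp3.symm), order_f,
    orderOf_injective _ SemidirectProduct.inl_injective, hg]

theorem exists_six : ∃ z : X, orderOf z = 3 * 2 :=
  exists_three_mul Nat.prime_two (by norm_num) order_g2 mx_g2 facts.2.2.2.2.2

theorem exists_fifteen : ∃ z : X, orderOf z = 3 * 5 :=
  exists_three_mul (by norm_num) (by norm_num) order_g5 mx_g5 facts.2.2.2.2.1

theorem smul_inl (g : S) (v : M4) :
    (SemidirectProduct.inl g : X) • v = mx g * v * ((mx g).map frob)ᵀ := by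
  rw [smul_def', app, SemidirectProduct.left_inl, SemidirectProduct.right_inl]
  rfl

theorem exists_fix_seven : ∃ (x : X) (v : M4), orderOf x = 7 ∧ v ≠ 0 ∧ x • v = v :=
  ⟨SemidirectProduct.inl g7, v7, by rw [orderOf_injective _ SemidirectProduct.inl_injective, order_g7],
    fixed_vectors.2.1, by rw [smul_inl, mx_g7]; exact fixed_vectors.1⟩

theorem exists_fix_five : ∃ (x : X) (v : M4), orderOf x = 5 ∧ v ≠ 0 ∧ x • v = v :=
  ⟨SemidirectProduct.inl g5, v5, by rw [orderOf_injective _ SemidirectProduct.inl_injective, order_g5],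
    fixed_vectors.2.2.2, by rw [smul_inl, mx_g5]; exact fixed_vectors.2.2.1⟩

/-- Elements of order thirteen fix no nonzero vector. -/
theorem thirteen_fpf {z : X} (hz : orderOf z = 13) {v : M4} (hv : z • v = v) : v = 0 := by
  have hr := right_eq_one (hz ▸ pow_orderOf_eq_one z) (by norm_num)
  obtain ⟨x, rfl⟩ : ∃ x : S, z = SemidirectProduct.inl x := ⟨_, inl_of_right hr⟩
  rw [orderOf_injective _ SemidirectProduct.inl_injective] at hz
  obtain ⟨c, k, hk, hk0, hck⟩ := conj_into (by norm_num) (by rw [card_S]; norm_num) order_g13 hz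
  obtain ⟨l, hl⟩ : ∃ l : ℕ, (g13 ^ k) ^ l = g13 := by
    have hco : Nat.Coprime k 13 :=
      Nat.coprime_comm.1 ((Nat.Prime.coprime_iff_not_dvd (by norm_num)).2 fun h =>
        hk0 (Nat.eq_zero_of_dvd_of_lt h hk))
    exact exists_pow_eq_self_of_coprime (order_g13.symm ▸ hco)
  set w := (SemidirectProduct.inl c : X) • v
  have hw : (SemidirectProduct.inl (c * x * c⁻¹) : X) • w = w := by
    simp only [map_mul, map_inv, w, mul_smul, inv_smul_smul, hv]
  have hwl : (SemidirectProduct.inl g13 : X) • w = w := by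
    rw [← hl, ← hck, map_pow]
    have : ∀ n : ℕ, ((SemidirectProduct.inl (c * x * c⁻¹) : X) ^ n) • w = w := by
      intro n
      induction n with
      | zero => rw [pow_zero, one_smul]
      | succ n ih => rw [pow_succ, mul_smul, hw, ih]
    exact this l
  rw [smul_inl, mx_g13] at hwl
  have := no_fixed hwl
  rw [← inv_smul_smul (SemidirectProduct.inl c : X) v]
  show _ • w = 0
  rw [this, smul_zero]

end Cfsg.Agent.Fus.SzEight
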