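import Cfsg.Agent.Lib.Fus.SuzukiUnipSemilinear
import Cfsg.Agent.Lib.Lie.Sz.Out
import Cfsg.Agent.Lib.Lie.Sz.SylowLie
import Cfsg.Prelude.Def_Transfer
import Cfsg.Prelude.Def_Solvable

/-! The automorphism group of the Sylow 2-subgroup of a Suzuki group. -/

set_option autoImplicit false

namespace Cfsg.Agent.Fus.SuzukiAut

open Cfsg.Agent.Suz

variable {F : Type*} [Field F] [Fintype F] {m : ℕ} (hS : SzField F m)

/-- Elements of the radical by coordinates. -/
def el (p : F × F) : ↥(unip hS) := ⟨uS hS p.1 p.2, (mem_unip hS).2 ⟨_, _, rfl⟩⟩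

theorem el_mul (a b c d : F) : el hS (a, b) * el hS (c, d) = el hS (a + c, b + d + th m a * c) :=
  Subtype.ext (uS_mul hS a b c d)

theorem el_zero : el hS (0, 0) = 1 := Subtype.ext (uS_zero hS)

theorem el_bijective : Function.Bijective (el hS) :=
  ⟨fun p p' h => Prod.ext (uS_injective hS (congrArg Subtype.val h)).1 (uS_injective hS (congrArg Subtype.val h)).2,
    fun g => by obtain ⟨a, b, h⟩ := (mem_unip hS).1 g.2; exact ⟨(a, b), Subtype.ext h.symm⟩⟩

/-- Coordinates. -/
noncomputable def co : ↥(unip hS) ≃ F × F := (Equiv.ofBijective _ (el_bijective hS)).symm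

theorem co_el (p : F × F) : co hS (el hS p) = p := (Equiv.ofBijective _ (el_bijective hS)).symm_apply_apply p

theorem el_co (g : ↥(unip hS)) : el hS (co hS g) = g := (Equiv.ofBijective _ (el_bijective hS)).apply_symm_apply g

theorem co_mul (g h : ↥(unip hS)) :
    co hS (g * h) = ((co hS g).1 + (co hS h).1, (co hS g).2 + (co hS h).2 + th m (co hS g).1 * (co hS h).1) := by
  conv_lhs => rw [← el_co hS g, ← el_co hS h]
  rw [el_mul, co_el]

theorem el_split (a b : F) : el hS (a, b) = el hS (a, 0) * el hS (0, b) := by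
  rw [el_mul]; simp

variable {hS}

theorem co_map_centre (φ : MulAut ↥(unip hS)) (b : F) : (co hS (φ (el hS (0, b)))).1 = 0 := by
  have hc : φ (el hS (0, b)) ∈ Subgroup.center ↥(unip hS) := by
    rw [Subgroup.mem_center_iff]
    intro g
    obtain ⟨g, rfl⟩ := φ.surjective g
    rw [← map_mul, ← map_mul, Subgroup.mem_center_iff.1 ((center_unip_iff hS _).2 ⟨b, rfl⟩) g]
  obtain ⟨d, hd⟩ := (center_unip_iff hS _).1 hc
  rw [show φ (el hS (0, b)) = el hS (0, d) from Subtype.ext hd, co_el]

/-- The map induced on the quotient by the centre. -/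
noncomputable def top (φ : MulAut ↥(unip hS)) : F →+ F :=
  AddMonoidHom.mk' (fun a => (co hS (φ (el hS (a, 0)))).1) fun a c => by
    have h := congrArg (fun g => (co hS (φ g)).1) (el_mul hS a 0 c 0)
    simp only [map_mul, co_mul, add_zero] at h
    rw [el_split hS (a + c), map_mul, co_mul] at h
    simp only [co_map_centre, add_zero] at h
    exact h.symm

/-- The map induced on the centre. -/
noncomputable def bot (φ : MulAut ↥(unip hS)) : F →+ F :=
  AddMonoidHom.mk' (fun b => (co hS (φ (el hS (0, b)))).2) fun b d => by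
    have h := congrArg (fun g => (co hS (φ g)).2) (el_mul hS 0 b 0 d)
    simp only [map_mul, co_mul, add_zero, co_map_centre, mul_zero] at h
    exact h.symm

/-- The mixed part. -/
noncomputable def mid (φ : MulAut ↥(unip hS)) (a : F) : F := (co hS (φ (el hS (a, 0)))).2

theorem map_el (φ : MulAut ↥(unip hS)) (a b : F) :
    φ (el hS (a, b)) = el hS (top φ a, mid φ a + bot φ b) := by
  conv_lhs => rw [el_split, map_mul, ← el_co hS (φ (el hS (a, 0))), ← el_co hS (φ (el hS (0, b)))]
  rw [el_mul]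
  congr 1
  simp only [co_map_centre, add_zero, mul_zero]
  rfl

theorem bot_nm (φ : MulAut ↥(unip hS)) (a : F) : bot φ (nm m a) = nm m (top φ a) := by
  have h := map_el φ 0 (nm m a)
  have hsq : el hS (a, 0) * el hS (a, 0) = el hS (0, nm m a) := by
    rw [el_mul]
    congr 2
    · linear_combination a * two hS
    · simp [nm]
  have h2 := congrArg (fun g => (co hS g).2) h
  simp only [co_el, ← hsq, map_mul, co_mul] at h2
  have h3 : mid φ 0 = 0 := by rw [mid, el_zero, map_one, ← el_zero hS, co_el]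
  rw [h3, zero_add] at h2
  rw [← h2, nm, show (co hS (φ (el hS (a, 0)))).1 = top φ a from rfl]
  linear_combination (co hS (φ (el hS (a, 0)))).2 * two hS

theorem top_one : top (1 : MulAut ↥(unip hS)) = AddMonoidHom.id F :=
  AddMonoidHom.ext fun a => by show (co hS (el hS (a, 0))).1 = a; rw [co_el]

theorem top_mul (φ ψ : MulAut ↥(unip hS)) : top (φ * ψ) = (top φ).comp (top ψ) :=
  AddMonoidHom.ext fun a => by
    show (co hS (φ (ψ (el hS (a, 0))))).1 = top φ (top ψ a)
    rw [map_el ψ, map_el φ, co_el]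

theorem top_bijective (φ : MulAut ↥(unip hS)) : Function.Bijective (top φ) := by
  refine Function.bijective_iff_has_inverse.2 ⟨top φ⁻¹, fun a => ?_, fun a => ?_⟩ <;>
    rw [← AddMonoidHom.comp_apply, ← top_mul] <;> simp [top_one]

/-- The homomorphism to the maps of the quotient. -/
noncomputable def topHom : MulAut ↥(unip hS) →* AddMonoid.End F where
  toFun φ := top φ
  map_one' := top_one
  map_mul' φ ψ := top_mul φ ψ

theorem th_ringEquiv (σ : F ≃+* F) (x : F) : σ (th m x) = th m (σ x) := map_pow σ x _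

variable (hS)

/-- The automorphism with given parameters. -/
noncomputable def build (c : Fˣ) (σ : F ≃+* F) (f : F →+ F) : MulAut ↥(unip hS) :=
  MulEquiv.ofBijective
    (MonoidHom.mk' (fun g => el hS ((c : F) * σ (co hS g).1, nm m (c : F) * σ (co hS g).2 + f (co hS g).1))
      fun g h => by
        rw [el_mul]
        congr 1
        rw [co_mul]
        simp only [map_add, map_mul, th_mul, th_ringEquiv, nm, Prod.mk.injEq]
        constructor <;> ring)
    ((el_bijective hS).comp (Function.Bijective.comp (g := fun p : F × F => ((c : F) * σ p.1, nm m (c : F) * σ p.2 + f p.1))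
      (Finite.injective_iff_bijective.1 fun p p' h => by
        have h' := Prod.mk.inj h
        have h1 : p.1 = p'.1 := σ.injective (mul_left_cancel₀ c.ne_zero h'.1)
        have h2 := h'.2
        rw [h1, add_left_inj] at h2
        exact Prod.ext h1 (σ.injective (mul_left_cancel₀ (nm_ne_zero c.ne_zero) h2)))
      (co hS).bijective))

theorem build_el (c : Fˣ) (σ : F ≃+* F) (f : F →+ F) (a b : F) :
    build hS c σ f (el hS (a, b)) = el hS ((c : F) * σ a, nm m (c : F) * σ b + f a) := by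
  show el hS _ = _
  rw [co_el]

theorem top_build (c : Fˣ) (σ : F ≃+* F) (f : F →+ F) (a : F) : top (build hS c σ f) a = (c : F) * σ a := by
  show (co hS (build hS c σ f (el hS (a, 0)))).1 = _
  rw [build_el, co_el]

theorem ext_el {φ ψ : MulAut ↥(unip hS)} (h : ∀ a b, φ (el hS (a, b)) = ψ (el hS (a, b))) : φ = ψ :=
  MulEquiv.ext fun g => by rw [← el_co hS g]; exact h _ _

theorem build_bijective :
    Function.Bijective fun x : (Fˣ × (F ≃+* F)) × (F →+ F) => build hS x.1.1 x.1.2 x.2 := by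
  constructor
  · rintro ⟨⟨c, σ⟩, f⟩ ⟨⟨c', σ'⟩, f'⟩ h
    have h' : ∀ a b, build hS c σ f (el hS (a, b)) = build hS c' σ' f' (el hS (a, b)) := fun a b => by
      simp only at h; rw [h]
    simp only [build_el] at h'
    have h'' := fun a b => Prod.mk.inj ((el_bijective hS).1 (h' a b))
    have hc : c = c' := Units.ext (by simpa using (h'' 1 0).1)
    subst hc
    have hσ : σ = σ' := RingEquiv.ext fun a => mul_left_cancel₀ c.ne_zero (h'' a 0).1
    subst hσ
    have hf : f = f' := AddMonoidHom.ext fun a => by simpa using (h'' a 0).2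
    rw [hf]
  · intro φ
    obtain ⟨c, σ, hc⟩ := exists_semilinear hS (top_bijective φ) (bot_nm φ)
    have hbot : ∀ b, bot φ b = nm m (c : F) * σ b := fun b => by
      obtain ⟨a, ha⟩ := exists_th_mul_self hS b
      rw [show b = nm m a from ha.symm, bot_nm, hc, nm_mul]
      congr 1
      rw [nm, nm, map_mul, th_ringEquiv]
    let f : F →+ F := AddMonoidHom.mk' (mid φ) fun a a' => by
      have h := congrArg (fun g => (co hS g).2) (congrArg φ (el_mul hS a 0 a' 0))
      simp only [map_mul, map_el, co_el, co_mul, add_zero, zero_add, map_zero] at h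
      rw [hbot, hc, hc, map_mul, th_mul, ← th_ringEquiv, nm] at h
      linear_combination -h
    exact ⟨((c, σ), f), ext_el hS fun a b => by
      rw [build_el, map_el, hc, hbot]
      congr 2
      exact add_comm _ _⟩

theorem mem_ker_iff (φ : MulAut ↥(unip hS)) :
    φ ∈ (topHom (hS := hS)).ker ↔ ∃ f : F →+ F, build hS 1 (RingEquiv.refl F) f = φ := by
  constructor
  · intro h
    obtain ⟨⟨⟨c, σ⟩, f⟩, rfl⟩ := (build_bijective hS).2 φ
    have h' : ∀ a, (c : F) * σ a = a := fun a => by
      rw [← top_build hS c σ f a]; exact DFunLike.congr_fun (MonoidHom.mem_ker.1 h) a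
    have hc : c = 1 := Units.ext (by simpa using h' 1)
    subst hc
    exact ⟨f, by rw [show σ = RingEquiv.refl F from RingEquiv.ext fun a => by simpa using h' a]⟩
  · rintro ⟨f, rfl⟩
    exact MonoidHom.mem_ker.2 (AddMonoidHom.ext fun a => (top_build hS _ _ _ a).trans (one_mul a))

theorem build_mul (f g : F →+ F) :
    build hS 1 (RingEquiv.refl F) f * build hS 1 (RingEquiv.refl F) g = build hS 1 (RingEquiv.refl F) (f + g) :=
  ext_el hS fun a b => by
    have h1 : nm m (1 : F) = 1 := by rw [nm, th_one, one_mul]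
    rw [MulAut.mul_apply, build_el, build_el, build_el]
    simp only [Units.val_one, one_mul, RingEquiv.refl_apply, h1, AddMonoidHom.add_apply]
    congr 2
    ring

include hS in
theorem natCard_addHom : Nat.card (F →+ F) = 2 ^ ((2 * m + 1) ^ 2) := by
  haveI := charP hS
  haveI : Fact (Nat.Prime 2) := ⟨Nat.prime_two⟩
  letI := ZMod.algebra F 2
  rw [Nat.card_congr (AddMonoidHom.toZModLinearMapEquiv 2).toEquiv, Module.natCard_eq_pow_finrank (K := ZMod 2),
    Nat.card_zmod, Module.finrank_linearMap]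
  have h := Module.card_eq_pow_finrank (K := ZMod 2) (V := F)
  rw [ZMod.card, hS.card] at h
  rw [← Nat.pow_right_injective le_rfl h, sq]

theorem natCard_mulAut :
    Nat.card (MulAut ↥(unip hS)) = 2 ^ ((2 * m + 1) ^ 2) * ((2 * m + 1) * (2 ^ (2 * m + 1) - 1)) := by
  rw [← Nat.card_eq_of_bijective _ (build_bijective hS), Nat.card_prod, Nat.card_prod, natCard_addHom hS,
    card_ringAut hS, Nat.card_units, Nat.card_eq_fintype_card, hS.card]
  ring

theorem natCard_ker : Nat.card ↥(topHom (hS := hS)).ker = 2 ^ ((2 * m + 1) ^ 2) := by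
  rw [← natCard_addHom hS]
  refine (Nat.card_eq_of_bijective (fun f : F →+ F => (⟨build hS 1 (RingEquiv.refl F) f,
    (mem_ker_iff hS _).2 ⟨f, rfl⟩⟩ : ↥(topHom (hS := hS)).ker)) ⟨fun f g h => ?_, fun φ => ?_⟩).symm
  · have h' := (build_bijective hS).1 (a₁ := (((1 : Fˣ), RingEquiv.refl F), f))
      (a₂ := (((1 : Fˣ), RingEquiv.refl F), g)) (congrArg Subtype.val h)
    exact (Prod.mk.inj h').2
  · obtain ⟨f, hf⟩ := (mem_ker_iff hS _).1 φ.2
    exact ⟨f, Subtype.ext hf⟩

theorem main {S : Type*} [Group S] [Finite S] (e : S ≃* ↥(unip hS)) :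
    Cfsg.IsElementaryAbelian 2 (Cfsg.pCore 2 (MulAut S)) ∧
      Nat.card ↥(Cfsg.pCore 2 (MulAut S)) = 2 ^ ((2 * m + 1) ^ 2) ∧
      Nat.card (MulAut S) = 2 ^ ((2 * m + 1) ^ 2) * ((2 * m + 1) * (2 ^ (2 * m + 1) - 1)) := by
  set E : MulAut S ≃* MulAut ↥(unip hS) := MulAut.congr e
  set K : Subgroup (MulAut S) := (topHom (hS := hS)).ker.comap E.toMonoidHom with hK
  have hcard : Nat.card (MulAut S) = 2 ^ ((2 * m + 1) ^ 2) * ((2 * m + 1) * (2 ^ (2 * m + 1) - 1)) :=
    (Nat.card_congr E.toEquiv).trans (natCard_mulAut hS)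
  have hKcard : Nat.card K = 2 ^ ((2 * m + 1) ^ 2) := by
    rw [← natCard_ker hS]
    exact Nat.card_congr (E.toEquiv.subtypeEquiv fun φ => Iff.rfl)
  have hab : ∀ x ∈ K, ∀ y ∈ K, x * y = y * x := by
    intro x hx y hy
    apply E.injective
    obtain ⟨f, hf⟩ := (mem_ker_iff hS _).1 hx
    obtain ⟨g, hg⟩ := (mem_ker_iff hS _).1 hy
    change build hS 1 (RingEquiv.refl F) f = E x at hf
    change build hS 1 (RingEquiv.refl F) g = E y at hg
    rw [map_mul, map_mul, ← hf, ← hg, build_mul, build_mul, add_comm]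
  have hsq : ∀ x ∈ K, x ^ 2 = 1 := by
    intro x hx
    apply E.injective
    obtain ⟨f, hf⟩ := (mem_ker_iff hS _).1 hx
    change build hS 1 (RingEquiv.refl F) f = E x at hf
    have hff : f + f = 0 := AddMonoidHom.ext fun a => by
      show f a + f a = 0
      linear_combination f a * two hS
    have hone : build hS 1 (RingEquiv.refl F) (0 : F →+ F) = 1 := ext_el hS fun a b => by
      rw [build_el, MulAut.one_apply]
      simp [nm, th_one]
    rw [map_pow, map_one, ← hf, sq, build_mul, hff, hone]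
  have hp : IsPGroup 2 ↥K := fun x => ⟨1, Subtype.ext (by rw [pow_one, SubmonoidClass.coe_pow]; exact hsq x.1 x.2)⟩
  have hindex : K.index = (2 * m + 1) * (2 ^ (2 * m + 1) - 1) := by
    have h := K.card_mul_index
    rw [hKcard, hcard] at h
    exact Nat.eq_of_mul_eq_mul_left (by positivity) h
  have hodd : Odd K.index := by
    rw [hindex]
    refine (odd_two_mul_add_one m).mul (Nat.Even.sub_odd Nat.one_le_two_pow ?_ odd_one)
    exact (Nat.even_pow.2 ⟨even_two, by omega⟩)
  have heq : Cfsg.pCore 2 (MulAut S) = K := by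
    refine le_antisymm (sSup_le fun N hN => fun x hx => ?_) (le_sSup ⟨inferInstance, hp⟩)
    obtain ⟨k, hk⟩ := hN.2 ⟨x, hx⟩
    have hk' : x ^ 2 ^ k = 1 := congrArg Subtype.val hk
    have h1 : (x : MulAut S ⧸ K) ^ 2 ^ k = 1 := by rw [← QuotientGroup.mk_pow, hk', QuotientGroup.mk_one]
    have h2 : (x : MulAut S ⧸ K) ^ K.index = 1 := by rw [Subgroup.index]; exact pow_card_eq_one'
    have h3 := pow_gcd_eq_one.2 ⟨h1, h2⟩
    rw [(hodd.coprime_two_left.pow_left k).gcd_eq_one, pow_one] at h3
    exact (QuotientGroup.eq_one_iff x).1 h3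
  rw [heq]
  exact ⟨⟨⟨⟨fun x y => Subtype.ext (hab x.1 x.2 y.1 y.2)⟩⟩, hsq⟩, hKcard, hcard⟩

include hS in
theorem main_lie [Fact (Nat.Prime 2)] {S : Type*} [Group S] [Finite S]
    (P : Sylow 2 ↥(Cfsg.Lie.Sz F (2 ^ (m + 1))))
    (hiso : Nonempty (S ≃* ↥(P : Subgroup ↥(Cfsg.Lie.Sz F (2 ^ (m + 1)))))) :
    Cfsg.IsElementaryAbelian 2 (Cfsg.pCore 2 (MulAut S)) ∧
      Nat.card ↥(Cfsg.pCore 2 (MulAut S)) = 2 ^ ((2 * m + 1) ^ 2) ∧
      Nat.card (MulAut S) = 2 ^ ((2 * m + 1) ^ 2) * ((2 * m + 1) * (2 ^ (2 * m + 1) - 1)) := by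
  obtain ⟨e⟩ := hiso
  set U := (unip hS).map (szEquiv hS).toMonoidHom
  let ψ : ↥(unip hS) ≃* ↥U := (unip hS).equivMapOfInjective _ (szEquiv hS).injective
  have hU : IsPGroup 2 ↥U := (isPGroup_unip hS).of_equiv ψ
  have hidx : U.index = (unip hS).index := Subgroup.index_map_equiv _ (szEquiv hS)
  let Q : Sylow 2 ↥(Cfsg.Lie.Sz F (2 ^ (m + 1))) := hU.toSylow (by rw [hidx]; exact not_two_dvd_index_unip hS)
  exact main hS ((e.trans (P.equiv Q)).trans ψ.symm)

end Cfsg.Agent.Fus.SuzukiAut
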