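import Cfsg.Agent.Lib.Lie.Sz.Structure
import Mathlib

/-! The additive maps compatible with `a ↦ a ^ (θ + 1)` on a Suzuki field are semilinear. -/

set_option autoImplicit false

namespace Cfsg.Agent.Fus.SuzukiAut

open Cfsg.Agent.Suz

variable {F : Type*} [Field F]

/-- A Hua-type theorem: additive maps intertwined by inversion are multiplicative. -/
theorem mul_of_inv_additive (hsq : ∀ x : F, ∃ a, a ^ 2 = x) {β γ : F →+ F} (hβ : Function.Injective β)
    (h1 : β 1 = 1) (hγ : ∀ u, γ u = (β u⁻¹)⁻¹) : ∀ x y, β (x * y) = β x * β y := by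
  have hsum : ∀ x y : F, x ≠ 0 → y - x ≠ 0 → x⁻¹ + (y - x)⁻¹ = y / (x * (y - x)) := by
    intro x y hx hyx
    field_simp
    ring
  have key : ∀ a b, β (a ^ 2 * b) = β a ^ 2 * γ b := by
    intro a b
    by_cases ha : a = 0
    · simp [ha]
    by_cases hb : b = 0
    · simp [hb]
    have hA : β a ≠ 0 := (map_ne_zero_iff _ hβ).2 ha
    by_cases hab : b⁻¹ = a
    · rw [hγ, hab, sq, mul_assoc, show a * b = 1 by rw [← hab, inv_mul_cancel₀ hb], mul_one, sq, mul_assoc,
        mul_inv_cancel₀ hA, mul_one]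
    have hu : b⁻¹ - a ≠ 0 := sub_ne_zero.2 hab
    have id1 : a ^ 2 * b = a - (a⁻¹ + (b⁻¹ - a)⁻¹)⁻¹ := by
      rw [hsum a _ ha hu, inv_div]
      field_simp
      ring
    have hinv : ∀ u, β u⁻¹ = (γ u)⁻¹ := fun u => by rw [hγ, inv_inv]
    have hG : γ b ≠ 0 := by rw [hγ]; exact inv_ne_zero ((map_ne_zero_iff _ hβ).2 (inv_ne_zero hb))
    have hne : (γ b)⁻¹ - β a ≠ 0 := by
      rw [← hinv]; exact sub_ne_zero.2 fun e => hab (hβ e)
    rw [id1, map_sub, hinv, map_add, hγ a⁻¹, hγ (b⁻¹ - a)⁻¹, inv_inv, inv_inv, map_sub, hinv b]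
    rw [hsum _ _ hA hne, inv_div]
    field_simp
    ring
  have h2 : ∀ b, γ b = β b := fun b => by
    have := key 1 b
    rw [one_pow, one_mul, h1, one_pow, one_mul] at this
    exact this.symm
  intro x y
  obtain ⟨a, rfl⟩ := hsq x
  have h3 := key a 1
  rw [mul_one, h2, h1, mul_one] at h3
  rw [h3, key, h2]

variable [Fintype F] {m : ℕ}

/-- `a ↦ a ^ (θ + 1)`. -/
def nm (m : ℕ) (a : F) : F := th m a * a

omit [Fintype F] in
theorem nm_mul (a b : F) : nm m (a * b) = nm m a * nm m b := by rw [nm, nm, nm, th_mul]; ring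

omit [Fintype F] in
theorem nm_ne_zero {a : F} (h : a ≠ 0) : nm m a ≠ 0 := mul_ne_zero (th_ne_zero h) h

theorem nm_injective (hS : SzField F m) : Function.Injective (nm (F := F) m) :=
  Finite.injective_iff_surjective.2 fun c => exists_th_mul_self hS c

theorem exists_trace (hS : SzField F m) : ∃ t : F →+ ZMod 2, (∀ x, t (th m x + x) = 0) ∧ Function.Surjective t ∧
    ∀ y, (∀ x, t (x * y) = 0) → y = 0 := by
  haveI := charP hS
  haveI : Fact (Nat.Prime 2) := ⟨Nat.prime_two⟩
  letI := ZMod.algebra F 2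
  refine ⟨(Algebra.trace (ZMod 2) F).toAddMonoidHom, fun x => ?_, Algebra.trace_surjective (ZMod 2) F, fun y hy => ?_⟩
  · have hsq : ∀ z : F, Algebra.trace (ZMod 2) F (z ^ 2) = Algebra.trace (ZMod 2) F z := fun z => by
      have h := Algebra.trace_eq_of_algEquiv (FiniteField.frobeniusAlgEquivOfAlgebraic (ZMod 2) F) z
      rwa [FiniteField.coe_frobeniusAlgEquivOfAlgebraic, ZMod.card] at h
    have hpow : ∀ i, Algebra.trace (ZMod 2) F (x ^ 2 ^ i) = Algebra.trace (ZMod 2) F x := fun i => by
      induction i with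
      | zero => rw [pow_zero, pow_one]
      | succ i ih => rw [pow_succ, pow_mul, hsq, ih]
    show Algebra.trace (ZMod 2) F (th m x + x) = 0
    rw [map_add, th, hpow]
    exact CharTwo.add_self_eq_zero _
  · exact (traceForm_nondegenerate (ZMod 2) F).2 y fun x => hy x

theorem range_eq (hS : SzField F m) {t : F →+ ZMod 2} (ht : ∀ x, t (th m x + x) = 0)
    (hts : Function.Surjective t) {u : F} (hu : t u = 0) : ∃ c, th m c + c = u := by
  classical
  let T : F →+ F := AddMonoidHom.mk' (fun x => th m x + x) fun x y => by rw [th_add hS]; abel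
  have hker : Nat.card T.ker = 2 := by
    have h : (T.ker : Set F) = {0, 1} := by
      ext x
      simp only [SetLike.mem_coe, AddMonoidHom.mem_ker, T, AddMonoidHom.mk'_apply, Set.mem_insert_iff,
        Set.mem_singleton_iff]
      constructor
      · intro h; exact th_fixed hS (m := m) (by linear_combination h - x * two hS)
      · rintro (rfl | rfl)
        · rw [th_zero, add_zero]
        · rw [th_one]; linear_combination two hS
    rw [← SetLike.coe_sort_coe, h, Nat.card_eq_fintype_card]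
    simp
  have h1 := T.ker.card_eq_card_quotient_mul_card_addSubgroup
  rw [Nat.card_congr (QuotientAddGroup.quotientKerEquivRange T).toEquiv, hker] at h1
  have h2 := t.ker.card_eq_card_quotient_mul_card_addSubgroup
  rw [Nat.card_congr (QuotientAddGroup.quotientKerEquivOfSurjective t hts).toEquiv, Nat.card_zmod] at h2
  have hle : T.range ≤ t.ker := by rintro _ ⟨x, rfl⟩; exact ht x
  have := AddSubgroup.eq_of_le_of_card_ge hle (by omega)
  have hu' : u ∈ T.range := by rw [this]; exact hu
  exact hu'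

/-- The semilinearity theorem. -/
theorem exists_semilinear (hS : SzField F m) {α β : F →+ F} (hα : Function.Bijective α)
    (h : ∀ a, β (nm m a) = nm m (α a)) : ∃ (c : Fˣ) (σ : F ≃+* F), ∀ a, α a = (c : F) * σ a := by
  obtain ⟨t, ht, hts, htnd⟩ := exists_trace hS
  have hnm : Function.Surjective (nm (F := F) m) := fun c => exists_th_mul_self hS c
  have hβ : Function.Bijective β := Finite.surjective_iff_bijective.1 fun w => by
    obtain ⟨a, rfl⟩ := hnm w
    obtain ⟨a', rfl⟩ := hα.2 a
    exact ⟨nm m a', h a'⟩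
  have h01 : ∀ a : ZMod 2, a = 0 ∨ a = 1 := by decide
  have hz : ∀ y z, z ≠ 0 → t (y / z) = t (β y / β z) := by
    intro y z hz
    have hβz : β z ≠ 0 := (map_ne_zero_iff _ hβ.1).2 hz
    have hzero : ∀ y, t (y / z) = 0 → t (β y / β z) = 0 := by
      intro y hy
      obtain ⟨c, hc⟩ := range_eq hS ht hts hy
      obtain ⟨a, rfl⟩ := hnm z
      have ha : a ≠ 0 := fun e => hz (by rw [e, nm, mul_zero])
      have hA : α a ≠ 0 := (map_ne_zero_iff _ hα.1).2 ha
      have hB : ∀ x w : F, nm m (x + w) = nm m x + nm m w + (th m x * w + th m w * x) := fun x w => by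
        simp only [nm, th_add hS]; ring
      have hy' : y = th m a * (a * c) + th m (a * c) * a := by
        rw [eq_div_iff hz] at hc
        rw [← hc]; simp only [nm, th_mul]; ring
      have hβy : β y = th m (α a) * α (a * c) + th m (α (a * c)) * α a := by
        have h1 := h (a + a * c)
        rw [map_add, hB, hB, map_add, map_add, h, h, ← hy'] at h1
        exact add_left_cancel h1
      have hfin : β y / β (nm m a) = th m (α (a * c) / α a) + α (a * c) / α a := by
        rw [hβy, h, nm, th_div]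
        have := th_ne_zero (m := m) hA
        field_simp
        ring
      rw [hfin, ht]
    obtain ⟨w, hw⟩ := hts 1
    obtain ⟨y1, hy1⟩ := hβ.2 (w * β z)
    have hg1 : t (β y1 / β z) = 1 := by rw [hy1, mul_div_cancel_right₀ _ hβz, hw]
    rcases h01 (t (y / z)) with e | e
    · rw [e, hzero y e]
    · have hf1 : t (y1 / z) = 1 := (h01 _).resolve_left fun e' => by
        rw [hzero y1 e'] at hg1; exact zero_ne_one hg1
      have h2 := hzero (y - y1) (by rw [sub_div, map_sub, e, hf1, sub_self])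
      rw [map_sub, sub_div, map_sub, hg1, sub_eq_zero] at h2
      rw [e, h2]
  have hpair : ∀ y u, t (y * u) = t (β y * (β u⁻¹)⁻¹) := by
    intro y u
    by_cases hu : u = 0
    · simp [hu]
    · have := hz y u⁻¹ (inv_ne_zero hu)
      rwa [div_inv_eq_mul, div_eq_mul_inv] at this
  let γ : F →+ F := AddMonoidHom.mk' (fun u => (β u⁻¹)⁻¹) fun u v => sub_eq_zero.1 (htnd _ fun x => by
    obtain ⟨y, rfl⟩ := hβ.2 x
    rw [mul_sub, map_sub, mul_add, map_add, ← hpair, ← hpair, ← hpair, ← map_add, ← mul_add, sub_self])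
  set b := β 1 with hb
  have hb0 : b ≠ 0 := (map_ne_zero_iff _ hβ.1).2 one_ne_zero
  let β' : F →+ F := AddMonoidHom.mk' (fun x => β x / b) fun x y => by rw [map_add, add_div]
  let γ' : F →+ F := AddMonoidHom.mk' (fun x => γ x * b) fun x y => by rw [map_add, add_mul]
  have hmul := mul_of_inv_additive (β := β') (γ := γ')
    (fun x => by
      haveI := charP hS
      obtain ⟨a, ha⟩ := FiniteField.isSquare_of_char_two (ringChar.eq F 2) x
      exact ⟨a, by rw [ha, sq]⟩)
    (fun x y e => hβ.1 ((div_left_inj' hb0).1 e)) (div_self hb0) (fun u => by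
      show (β u⁻¹)⁻¹ * b = (β u⁻¹ / b)⁻¹
      rw [inv_div, mul_comm, div_eq_mul_inv])
  let σ₀ : F →+* F := { β' with map_one' := div_self hb0, map_mul' := hmul }
  let σ : F ≃+* F := RingEquiv.ofBijective σ₀ (Finite.injective_iff_bijective.1 σ₀.injective)
  have hα1 : α 1 ≠ 0 := (map_ne_zero_iff _ hα.1).2 one_ne_zero
  refine ⟨Units.mk0 (α 1) hα1, σ, fun a => nm_injective hS (F := F) ?_⟩
  have h1 : nm m (1 : F) = 1 := by rw [nm, th_one, one_mul]
  have hσ : ∀ x, σ (th m x) = th m (σ x) := fun x => map_pow σ x _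
  have hσn : σ (nm m a) = nm m (σ a) := by rw [nm, nm, map_mul, hσ]
  rw [Units.val_mk0, nm_mul, ← hσn, ← h 1, h1, ← h a]
  show β (nm m a) = b * (β (nm m a) / b)
  rw [mul_div_cancel₀ _ hb0]

end Cfsg.Agent.Fus.SuzukiAut
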