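import Mathlib

/-!
Sylow `2`-subgroups of an extension of index two: if the Sylow subgroup `U` of the normal subgroup is
self-normalizing and at most `|U|` of its conjugates meet it trivially, then two Sylow subgroups of
the extension never meet trivially.
-/

set_option autoImplicit false

namespace Cfsg.Agent.Fus.SylowMeet

open scoped Pointwise

variable {M : Type*} [Group M] [Finite M]

/-- A self-normalizing `p`-subgroup is a Sylow subgroup. -/
theorem not_dvd_index_of_self_normalizing {p : ℕ} [Fact p.Prime] {U : Subgroup M}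
    (hU : IsPGroup p U) (hN : ∀ g, (∀ u ∈ U, g * u * g⁻¹ ∈ U) → g ∈ U) : ¬ p ∣ U.index := by
  intro h
  obtain ⟨k, hk⟩ := hU.exists_card_eq
  have hdvd : p ^ (k + 1) ∣ Nat.card M := by
    rw [← U.card_mul_index, hk, pow_succ]
    exact Nat.mul_dvd_mul_left _ h
  have h1 := Sylow.prime_dvd_card_quotient_normalizer hdvd hk
  have hle : Subgroup.normalizer (U : Set M) ≤ U := fun g hg =>
    hN g fun u hu => (Subgroup.mem_normalizer_iff.1 hg u).1 hu
  have htop : U.comap (Subgroup.normalizer (U : Set M)).subtype = ⊤ := by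
    rw [eq_top_iff]
    exact fun g _ => hle g.2
  rw [← Subgroup.index_eq_card, htop, Subgroup.index_top] at h1
  exact (Fact.out : p.Prime).one_lt.ne' (Nat.dvd_one.1 h1)

variable {G : Type*} [Group G] [Finite G]

/-- Two Sylow `2`-subgroups of `G` meet non-trivially. -/
theorem sylow_inter_ne_bot (N : Subgroup G) [N.Normal] (hidx : N.index = 2) (e : N ≃* M)
    {U : Subgroup M} (hU : IsPGroup 2 U) (hN : ∀ g, (∀ u ∈ U, g * u * g⁻¹ ∈ U) → g ∈ U)
    (f : U → M) (hf : ∀ g : M, (∀ u ∈ U, g⁻¹ * u * g ∈ U → u = 1) →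
      ∃ v : U, ∀ a : M, g⁻¹ * a * g ∈ U ↔ (f v)⁻¹ * a * f v ∈ U)
    (H : Sylow 2 G) (x : G) :
    (H : Subgroup G) ⊓ MulAut.conj x • (H : Subgroup G) ≠ ⊥ := by
  have : Fact (Nat.Prime 2) := ⟨Nat.prime_two⟩
  let φ : M →* G := N.subtype.comp e.symm.toMonoidHom
  have hφinj : Function.Injective φ := N.subtype_injective.comp e.symm.injective
  have hrange : ∀ g ∈ N, ∃ m, φ m = g := fun g hg => ⟨e ⟨g, hg⟩, by simp [φ]⟩
  have hφN : ∀ m, φ m ∈ N := fun m => (e.symm m).2
  set P : Subgroup G := U.map φ with hP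
  set K : Subgroup G := Subgroup.normalizer (P : Set G) with hK
  have hPN : P ≤ N := by
    rintro _ ⟨u, -, rfl⟩
    exact hφN u
  have hmemP : ∀ m, φ m ∈ P ↔ m ∈ U := fun m => Subgroup.mem_map_iff_mem hφinj
  -- Frattini
  have hidxU := not_dvd_index_of_self_normalizing hU hN
  let SU : Sylow 2 M := hU.toSylow hidxU
  let SN : Sylow 2 N := SU.mapSurjective (f := e.symm.toMonoidHom) e.symm.surjective
  have hSN : (SN : Subgroup N).map N.subtype = P := by
    show ((U.map e.symm.toMonoidHom).map N.subtype) = P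
    rw [Subgroup.map_map]
  have htop : K ⊔ N = ⊤ := by
    rw [hK, ← hSN]
    exact SN.normalizer_sup_eq_top
  have hKN : K ⊓ N = P := by
    refine le_antisymm ?_ (le_inf Subgroup.le_normalizer hPN)
    rintro g ⟨hg, hgN⟩
    obtain ⟨m, rfl⟩ := hrange g hgN
    refine (hmemP m).2 (hN m fun u hu => ?_)
    rw [← hmemP, map_mul, map_mul, map_inv]
    exact (Subgroup.mem_normalizer_iff.1 hg _).1 ((hmemP u).2 hu)
  have hcardK : Nat.card K = 2 * Nat.card U := by
    have hrel : N.relIndex K = 2 := by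
      have h1 : N.relIndex K ∣ 2 := hidx ▸ Subgroup.relIndex_dvd_index_of_normal N K
      rcases (Nat.dvd_prime Nat.prime_two).1 h1 with h | h
      · rw [Subgroup.relIndex_eq_one] at h
        rw [sup_eq_right.2 h] at htop
        rw [htop, Subgroup.index_top] at hidx
        omega
      · exact h
    have h2 := (N.subgroupOf K).card_mul_index
    rw [show (N.subgroupOf K).index = N.relIndex K from rfl, hrel] at h2
    have h3 : Nat.card (N.subgroupOf K) = Nat.card U := by
      rw [← Subgroup.inf_subgroupOf_left,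
        Nat.card_congr (Subgroup.subgroupOfEquivOfLe inf_le_left).toEquiv, hKN, hP,
        Subgroup.card_map_of_injective hφinj]
    rw [h3] at h2
    omega
  have hKcard : Nat.card K = 2 ^ (Nat.card G).factorization 2 := by
    obtain ⟨k, hk⟩ := hU.exists_card_eq
    have hG : Nat.card G = 2 ^ (k + 1) * U.index := by
      rw [← N.card_mul_index, hidx, Nat.card_congr e.toEquiv, ← U.card_mul_index, hk, pow_succ]
      ring
    rw [hcardK, hk, hG, Nat.factorization_mul (by positivity) Subgroup.index_ne_zero_of_finite,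
      Finsupp.add_apply, Nat.Prime.factorization_pow Nat.prime_two, Finsupp.single_eq_same,
      Nat.factorization_eq_zero_of_not_dvd hidxU, add_zero, pow_succ, mul_comm]
  -- every Sylow subgroup is conjugate to the normalizer
  obtain ⟨θ, hθ⟩ := MulAction.exists_smul_eq G (Sylow.ofCard K hKcard) H
  have hHmem : ∀ y : G, y ∈ (H : Subgroup G) ↔ θ⁻¹ * y * θ ∈ K := by
    intro y
    rw [← hθ, Sylow.coe_subgroup_smul, Sylow.coe_ofCard,
      Subgroup.mem_pointwise_smul_iff_inv_smul_mem]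
    show (MulAut.conj θ)⁻¹ y ∈ K ↔ _
    rw [MulAut.conj_inv_apply]
  obtain ⟨n, hn, k, hk, hnk⟩ := Subgroup.mem_sup_of_normal_left.1
    (show θ⁻¹ * x * θ ∈ N ⊔ K by rw [sup_comm, htop]; trivial)
  obtain ⟨m, rfl⟩ := hrange n hn
  suffices h : ∃ y : G, y ≠ 1 ∧ y ∈ K ∧ (φ m)⁻¹ * y * φ m ∈ K by
    obtain ⟨y, hy1, hy, hy'⟩ := h
    intro hbot
    have hmem : θ * y * θ⁻¹ ∈ (H : Subgroup G) ⊓ MulAut.conj x • (H : Subgroup G) := by
      refine ⟨(hHmem _).2 (by rwa [show θ⁻¹ * (θ * y * θ⁻¹) * θ = y by group]), ?_⟩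
      refine Subgroup.mem_pointwise_smul_iff_inv_smul_mem.2 ?_
      show (MulAut.conj x)⁻¹ (θ * y * θ⁻¹) ∈ (H : Subgroup G)
      rw [MulAut.conj_inv_apply, hHmem, show θ⁻¹ * (x⁻¹ * (θ * y * θ⁻¹) * x) * θ =
        (θ⁻¹ * x * θ)⁻¹ * y * (θ⁻¹ * x * θ) by group, ← hnk, show (φ m * k)⁻¹ * y * (φ m * k) =
        k⁻¹ * ((φ m)⁻¹ * y * φ m) * k by group]
      exact mul_mem (mul_mem (inv_mem hk) hy') hk
    rw [hbot, Subgroup.mem_bot, conj_eq_one_iff] at hmem
    exact hy1 hmem
  by_contra hne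
  push Not at hne
  -- all translates of the second conjugate meet `U` trivially
  have key : ∀ y : K, ∃ v : U, ∀ a : M,
      (φ m)⁻¹ * ((y : G)⁻¹ * φ a * y) * φ m ∈ P ↔ (f v)⁻¹ * a * f v ∈ U := by
    intro y
    obtain ⟨m', hm'⟩ := hrange ((y : G) * φ m * (y : G)⁻¹)
      (Subgroup.Normal.conj_mem inferInstance _ (hφN m) _)
    have htr : ∀ a : M,
        m'⁻¹ * a * m' ∈ U ↔ (φ m)⁻¹ * ((y : G)⁻¹ * φ a * y) * φ m ∈ P := by
      intro a
      rw [← hmemP, map_mul, map_mul, map_inv, hm',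
        show ((y : G) * φ m * (y : G)⁻¹)⁻¹ * φ a * ((y : G) * φ m * (y : G)⁻¹) =
          (y : G) * ((φ m)⁻¹ * ((y : G)⁻¹ * φ a * y) * φ m) * (y : G)⁻¹ by group]
      exact (Subgroup.mem_normalizer_iff.1 y.2 _).symm
    obtain ⟨v, hv⟩ := hf m' fun u hu hu' => by
      by_contra hu1
      refine hne ((y : G)⁻¹ * φ u * y) (fun he => hu1 (hφinj ?_)) ?_
        (Subgroup.le_normalizer ((htr u).1 hu'))
      · rw [map_one]
        calc φ u = (y : G) * ((y : G)⁻¹ * φ u * y) * (y : G)⁻¹ := by group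
          _ = 1 := by rw [he]; group
      · exact mul_mem (mul_mem (inv_mem y.2) (Subgroup.le_normalizer ((hmemP u).2 hu))) y.2
    exact ⟨v, fun a => (htr a).symm.trans (hv a)⟩
  choose F hF using key
  have hinj : Function.Injective F := by
    intro y y' hyy
    have h : ∀ a : M, (φ m)⁻¹ * ((y : G)⁻¹ * φ a * y) * φ m ∈ P ↔
        (φ m)⁻¹ * ((y' : G)⁻¹ * φ a * y') * φ m ∈ P := fun a => by rw [hF, hF, hyy]
    by_contra hne'
    refine hne ((y : G)⁻¹ * y') (fun he => hne' (Subtype.ext (inv_mul_eq_one.1 he)))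
      (mul_mem (inv_mem y.2) y'.2) ?_
    set z := (φ m)⁻¹ * ((y : G)⁻¹ * y') * φ m with hz
    rw [hK, Subgroup.mem_normalizer_iff]
    intro b
    constructor
    · intro hb
      obtain ⟨a, ha⟩ := hrange ((y' : G) * (φ m * b * (φ m)⁻¹) * (y' : G)⁻¹)
        (Subgroup.Normal.conj_mem inferInstance _
          (Subgroup.Normal.conj_mem inferInstance _ (hPN hb) _) _)
      have := (h a).2 (by rw [ha]; convert hb using 1; group)
      rw [ha] at this
      convert this using 1
      rw [hz]; group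
    · intro hb
      have hbN : b ∈ N := by
        have := Subgroup.Normal.conj_mem (inferInstance : N.Normal) _ (hPN hb) z⁻¹
        rwa [show z⁻¹ * (z * b * z⁻¹) * z⁻¹⁻¹ = b by group] at this
      obtain ⟨a, ha⟩ := hrange ((y' : G) * (φ m * b * (φ m)⁻¹) * (y' : G)⁻¹)
        (Subgroup.Normal.conj_mem inferInstance _
          (Subgroup.Normal.conj_mem inferInstance _ hbN _) _)
      have := (h a).1 (by rw [ha]; convert hb using 1; rw [hz]; group)
      rw [ha] at this
      convert this using 1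
      group
  have h2 := Nat.card_le_card_of_injective F hinj
  have h3 : 0 < Nat.card U := Nat.card_pos
  omega

end Cfsg.Agent.Fus.SylowMeet
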