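import Cfsg.Agent.Lib.Fus.ElemTwoWords
import Mathlib.GroupTheory.Sylow

/-!
Normal elementary abelian subgroups of a two-group given as an elementary abelian normal subgroup and coset
representatives told apart by their action on points fixed by that subgroup.
-/

set_option autoImplicit false

namespace Cfsg.Agent.Fus.ElemW

open Cfsg.Agent.Spor.Cos Cfsg.Agent.Spor.Cos.Triple Cfsg.Agent.Fus.Transp

/-- The edge data of a closure: for each generator and representative, a mask and a representative. -/
abbrev Edges := List (List (ℕ × ℕ))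

/-- The edge of a generator and a representative. -/
def edgeAt (C : Edges) (t i : ℕ) : ℕ × ℕ := (C.getD t []).getD i (0, 0)

/-- The check of an edge. -/
noncomputable def chkEdgeAt (A : Act) (pts : List ℕ) (eb gw rw' : List (List ℕ)) (C : Edges) (t i : ℕ) : Bool :=
  (fun e : ℕ × ℕ => Nat.blt e.2 rw'.length &&
    sameW A pts (gw.getD t [] ++ rw'.getD i []) (maskW eb eb.length e.1 ++ rw'.getD e.2 [])) (edgeAt C t i)

/-- The check of the action of a word on the basis. -/
noncomputable def chkAct (A : Act) (pts : List ℕ) (eb : List (List ℕ)) (w : List ℕ) (M : List ℕ) : Bool :=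
  (w.all fun s => Nat.blt s A.n) && (List.range eb.length).all fun k =>
    Nat.blt (M.getD k 0) (2 ^ eb.length) &&
      sameW A pts (w ++ (eb.getD k [] ++ w.reverse)) (maskW eb eb.length (M.getD k 0))

/-- The number of masks fixed by some linear maps. -/
noncomputable def fixCount (k : ℕ) (Ms : List (List ℕ)) : ℕ :=
  (List.range (2 ^ k)).countP fun m => Ms.all fun M => Nat.beq (linM M k m) m

variable {G : Type*} [Group G] {g : ℕ → G} {A : Act} {π : G →* Equiv.Perm (Fin A.N)} {pts : List ℕ}
  {eb : List (List ℕ)}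

/-- The data of a group: normalising generators with representatives closed under them. -/
structure Closed (g : ℕ → G) (A : Act) (pts : List ℕ) (eb gw rw' : List (List ℕ)) (C : Edges) (par : List (ℕ × ℕ))
    (gM : List (List ℕ)) : Prop where
  letters : Act.lettersOk A.n gw = true
  len : 0 < rw'.length
  one : rw'.getD 0 [] = []
  edge : ((List.range gw.length).all fun t => (List.range rw'.length).all fun i =>
    chkEdgeAt A pts eb gw rw' C t i) = true
  parent : ((List.range rw'.length).all fun j => Nat.beq j 0 || (fun p : ℕ × ℕ => Nat.blt p.1 gw.length &&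
    Nat.blt p.2 j && Nat.beq (edgeAt C p.1 p.2).2 j) (par.getD j (0, 0))) = true
  act : ((List.range gw.length).all fun t => chkAct A pts eb (gw.getD t []) (gM.getD t [])) = true

theorem conj_of_chkAct (hπ : A.Hom g π) (hdet : ∀ y : G, (∀ q : Fin A.N, (q : ℕ) ∈ pts → π y q = q) → y = 1)
    (hsq : ∀ s, g s * g s = 1) (B : Basis g eb) {w : List ℕ} {M : List ℕ} (h : chkAct A pts eb w M = true) (m : ℕ) :
    ev g w * ev g (maskW eb eb.length m) * (ev g w)⁻¹ = ev g (maskW eb eb.length (linM M eb.length m)) := by
  simp only [chkAct, Bool.and_eq_true, List.all_eq_true] at h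
  refine B.conj_mask (ev g w) (fun k hk => ?_) m _ le_rfl
  have e := eq_of_sameW (g := g) hπ hdet (h.2 k (List.mem_range.2 hk)).2
  rwa [ev_append, ev_append, ev_reverse (fun s _ => hsq s) w (fun s hs => Nat.le_of_ble_eq_true (h.1 s hs)),
    ← mul_assoc] at e

section

variable [Finite G] (hπ : A.Hom g π) (hdet : ∀ y : G, (∀ q : Fin A.N, (q : ℕ) ∈ pts → π y q = q) → y = 1)
  (hsq : ∀ s, g s * g s = 1) (B : Basis g eb)
  {gw rw' : List (List ℕ)} {C : Edges} {par : List (ℕ × ℕ)} {gM : List (List ℕ)}

include hπ hdet hsq B in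
/-- Every element is a product of the elementary subgroup and a representative. -/
theorem Closed.mem_iff (D : Closed g A pts eb gw rw' C par gM) {y : G} :
    y ∈ val g (eb ++ gw) ↔ ∃ e ∈ val g eb, ∃ i < rw'.length, y = e * ev g (rw'.getD i []) := by
  set P : Set G := {y | ∃ e ∈ val g eb, ∃ i < rw'.length, y = e * ev g (rw'.getD i [])} with hP
  have hedge : ∀ t < gw.length, ∀ i < rw'.length, ∃ e ∈ val g eb, ∃ j < rw'.length, j = (edgeAt C t i).2 ∧
      ev g (gw.getD t []) * ev g (rw'.getD i []) = e * ev g (rw'.getD j []) := by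
    intro t ht i hi
    have h := List.all_eq_true.1 (List.all_eq_true.1 D.edge t (List.mem_range.2 ht)) i (List.mem_range.2 hi)
    simp only [chkEdgeAt, Bool.and_eq_true] at h
    refine ⟨_, maskW_mem_val eb eb.length (edgeAt C t i).1, _, Nat.le_of_ble_eq_true h.1, rfl, ?_⟩
    rw [← ev_append, ← ev_append]
    exact eq_of_sameW hπ hdet h.2
  constructor
  · intro hy
    have hgen : ∀ x ∈ {x | ∃ w ∈ eb ++ gw, ev g w = x}, ∀ u ∈ P, x * u ∈ P := by
      rintro _ ⟨w, hw, rfl⟩ _ ⟨e, he, i, hi, rfl⟩
      rcases List.mem_append.1 hw with hw | hw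
      · exact ⟨ev g w * e, mul_mem (mem_val hw) he, i, hi, by rw [mul_assoc]⟩
      · obtain ⟨t, ht, rfl⟩ := List.getElem_of_mem hw
        obtain ⟨m, -, rfl⟩ := B.mem_iff.1 he
        obtain ⟨e', he', j, hj, -, hj'⟩ := hedge t ht i hi
        have hc := conj_of_chkAct hπ hdet hsq B (List.all_eq_true.1 D.act t (List.mem_range.2 ht)) m
        rw [List.getD_eq_getElem _ _ ht] at hc hj'
        refine ⟨_, mul_mem (maskW_mem_val eb eb.length (linM (gM.getD t []) eb.length m)) he', j, hj, ?_⟩
        rw [← hc, mul_assoc _ e', ← hj']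
        group
    have hfin : P.Finite := Set.toFinite P
    have hinv : ∀ x ∈ {x | ∃ w ∈ eb ++ gw, ev g w = x}, ∀ u ∈ P, x⁻¹ * u ∈ P := by
      intro x hx u hu
      have himg : (fun v => x * v) '' P = P :=
        Set.eq_of_subset_of_ncard_le (by rintro _ ⟨v, hv, rfl⟩; exact hgen x hx v hv)
          (Set.ncard_image_of_injective P (mul_right_injective x)).ge hfin
      rw [← himg] at hu
      obtain ⟨v, hv, rfl⟩ := hu
      simpa [← mul_assoc] using hv
    induction hy using Subgroup.closure_induction_left with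
    | one => exact ⟨1, one_mem _, 0, D.len, by rw [D.one]; simp [ev]⟩
    | mul_left x hx y _ ih => exact hgen x hx y ih
    | inv_mul_cancel x hx y _ ih => exact hinv x hx y ih
  · rintro ⟨e, he, i, hi, rfl⟩
    have hle : val g eb ≤ val g (eb ++ gw) :=
      Subgroup.closure_mono fun _ ⟨w, hw, h⟩ => ⟨w, List.mem_append_left _ hw, h⟩
    refine mul_mem (hle he) ?_
    clear he
    induction i using Nat.strong_induction_on with
    | _ i ih =>
      rcases Nat.eq_zero_or_pos i with rfl | hpos
      · rw [D.one]; exact one_mem _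
      have h := List.all_eq_true.1 D.parent i (List.mem_range.2 hi)
      simp only [Bool.or_eq_true, Bool.and_eq_true] at h
      rcases h with h | ⟨⟨ht, hlt⟩, hj⟩
      · exact absurd (Nat.eq_of_beq_eq_true h) (by omega)
      · set t := (par.getD i (0, 0)).1
        set k := (par.getD i (0, 0)).2
        have hk : k < i := Nat.le_of_ble_eq_true hlt
        obtain ⟨e', he', j, -, hjd, hj'⟩ := hedge t (Nat.le_of_ble_eq_true ht) k (by omega)
        rw [Nat.eq_of_beq_eq_true hj] at hjd
        subst hjd
        rw [show ev g (rw'.getD j []) = e'⁻¹ * (ev g (gw.getD t []) * ev g (rw'.getD k [])) by rw [hj']; group]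
        refine mul_mem (inv_mem (hle he')) (mul_mem ?_ (ih k hk (by omega)))
        have ht' : t < gw.length := Nat.le_of_ble_eq_true ht
        rw [List.getD_eq_getElem _ _ ht']
        exact mem_val (List.mem_append_right _ (List.getElem_mem ht'))

include hπ hdet hsq B in
/-- The elementary subgroup is normalised. -/
theorem Closed.conj_mem (D : Closed g A pts eb gw rw' C par gM) {y : G} (hy : y ∈ val g (eb ++ gw)) {e : G}
    (he : e ∈ val g eb) : y * e * y⁻¹ ∈ val g eb := by
  revert e
  induction hy using Subgroup.closure_induction_left with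
  | one => intro e he; simpa using he
  | mul_left x hx y _ ih =>
    intro e he
    obtain ⟨w, hw, rfl⟩ := hx
    rw [show ev g w * y * e * (ev g w * y)⁻¹ = ev g w * (y * e * y⁻¹) * (ev g w)⁻¹ by group]
    rcases List.mem_append.1 hw with hw | hw
    · exact mul_mem (mul_mem (mem_val hw) (ih he)) (inv_mem (mem_val hw))
    · obtain ⟨t, ht, rfl⟩ := List.getElem_of_mem hw
      obtain ⟨m, -, hm⟩ := B.mem_iff.1 (ih he)
      have hc := conj_of_chkAct hπ hdet hsq B (List.all_eq_true.1 D.act t (List.mem_range.2 ht)) m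
      rw [List.getD_eq_getElem _ _ ht, hm] at hc
      rw [hc]
      exact maskW_mem_val _ _ _
  | inv_mul_cancel x hx y _ ih =>
    intro e he
    have himg : (fun v => x * v * x⁻¹) '' (val g eb : Set G) = val g eb := by
      refine Set.eq_of_subset_of_ncard_le ?_ (Set.ncard_image_of_injective _ fun u v huv => by
        simpa using huv).ge (Set.toFinite _)
      rintro _ ⟨v, hv, rfl⟩
      obtain ⟨w, hw, rfl⟩ := hx
      rcases List.mem_append.1 hw with hw | hw
      · exact mul_mem (mul_mem (mem_val hw) hv) (inv_mem (mem_val hw))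
      · obtain ⟨t, ht, rfl⟩ := List.getElem_of_mem hw
        obtain ⟨m, -, hm⟩ := B.mem_iff.1 hv
        have hc := conj_of_chkAct hπ hdet hsq B (List.all_eq_true.1 D.act t (List.mem_range.2 ht)) m
        rw [List.getD_eq_getElem _ _ ht, hm] at hc
        show ev g gw[t] * v * (ev g gw[t])⁻¹ ∈ val g eb
        rw [hc]
        exact maskW_mem_val _ _ _
    have h : y * e * y⁻¹ ∈ (val g eb : Set G) := ih he
    rw [← himg] at h
    obtain ⟨v, hv, hv'⟩ := h
    simp only at hv'
    rw [show x⁻¹ * y * e * (x⁻¹ * y)⁻¹ = x⁻¹ * (y * e * y⁻¹) * x by group, ← hv']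
    simpa [mul_assoc] using hv

end

end Cfsg.Agent.Fus.ElemW
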