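import Cfsg.Agent.Lib.Fus.SylowNormalElem
import Cfsg.Prelude.Def_Transfer

/-!
The elementary abelian subgroup is the only large normal elementary abelian one.
-/

set_option autoImplicit false

namespace Cfsg.Agent.Fus.ElemW

open Cfsg.Agent.Spor.Cos Cfsg.Agent.Spor.Cos.Triple Cfsg.Agent.Fus.Transp

/-- An elementary subgroup of the quotient: indices, generators, closure data and actions. -/
structure Sub where
  /-- the indices -/
  I : List ℕ
  /-- generators among them -/
  gs : List ℕ
  /-- the closure -/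
  C : Edges
  /-- the parents -/
  par : List (ℕ × ℕ)
  /-- the actions on the basis -/
  M : List (List ℕ)

/-- The representatives of a list of indices. -/
def pickR (reps : List (List ℕ)) (I : List ℕ) : List (List ℕ) := I.map fun i => reps.getD i []

/-- The representatives are told apart by the points. -/
noncomputable def chkDist (A : Act) (ins : List ℕ) (reps : List (List ℕ)) (i : ℕ) : Bool :=
  (List.range i).all fun j => ins.any fun p => !(Nat.beq (A.go (reps.getD i []) p) (A.go (reps.getD j []) p))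

/-- The representatives keep the points. -/
noncomputable def chkKeep (A : Act) (ins : List ℕ) (reps : List (List ℕ)) (i : ℕ) : Bool :=
  ((reps.getD i []).all fun s => Nat.blt s A.n) && ins.all fun p =>
    Nat.blt p A.N && (ins.any (Nat.beq (A.go (reps.getD i []) p))) &&
      ins.any (Nat.beq (A.go (reps.getD i []).reverse p))

/-- The image of a point under two representatives in a row. -/
noncomputable def two (A : Act) (reps : List (List ℕ)) (i j p : ℕ) : ℕ :=
  force (A.go (reps.getD j []) p) fun x => A.go (reps.getD i []) x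

/-- The image of a point under a conjugate of a representative. -/
noncomputable def cj (A : Act) (reps : List (List ℕ)) (j i p : ℕ) : ℕ :=
  force (A.go (reps.getD j []).reverse p) fun x => force (A.go (reps.getD i []) x) fun y => A.go (reps.getD j []) y

/-- An index outside both subgroups cannot occur. -/
noncomputable def chkOut (A : Act) (ins : List ℕ) (reps : List (List ℕ)) (B1 B2 : Sub) (wj : List ℕ) (i : ℕ) : Bool :=
  B1.I.any (Nat.beq i) || B2.I.any (Nat.beq i) ||
    (ins.any fun p => !(Nat.beq (two A reps i i p) p)) ||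
    (Nat.blt (wj.getD i 0) reps.length && ins.any fun p =>
      !(Nat.beq (A.go (reps.getD i []) (cj A reps (wj.getD i 0) i p))
        (cj A reps (wj.getD i 0) i (A.go (reps.getD i []) p))))

/-- Indices outside one subgroup each do not commute. -/
noncomputable def chkPair (A : Act) (ins : List ℕ) (reps : List (List ℕ)) (B1 B2 : Sub) : Bool :=
  B1.I.all fun x => B2.I.any (Nat.beq x) || B2.I.all fun y => B1.I.any (Nat.beq y) ||
    ins.any fun p => !(Nat.beq (two A reps x y p) (two A reps y x p))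

/-- The check of a subgroup of the quotient. -/
noncomputable def chkSub (A : Act) (pts : List ℕ) (eb reps : List (List ℕ)) (B : Sub) : Bool :=
  (B.I.all fun i => Nat.blt i reps.length) && (B.gs.all fun i => Nat.blt i reps.length) &&
    Nat.blt 0 B.I.length && Nat.beq (B.I.getD 0 1) 0 &&
    ((List.range B.I.length).all fun a => chkAct A pts eb (reps.getD (B.I.getD a 0) []) (B.M.getD a []) &&
      (Nat.beq a 0 || Nat.blt (fixCount eb.length [B.M.getD a []] * (B.I.length / 2)) (2 ^ eb.length))) &&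
    Nat.blt (fixCount eb.length B.M * B.I.length) (2 ^ eb.length) && Nat.beq B.M.length B.I.length

variable {G : Type*} [Group G] {g : ℕ → G} {A : Act} {π : G →* Equiv.Perm (Fin A.N)} {pts : List ℕ}
  {eb : List (List ℕ)}

/-- The data of the two-group. -/
structure Big (g : ℕ → G) (A : Act) (π : G →* Equiv.Perm (Fin A.N)) (pts ins : List ℕ) (eb gw reps : List (List ℕ))
    (C : Edges) (par : List (ℕ × ℕ)) (gM : List (List ℕ)) : Prop where
  hom : A.Hom g π
  det : ∀ y : G, (∀ q : Fin A.N, (q : ℕ) ∈ pts → π y q = q) → y = 1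
  sq : ∀ s, g s * g s = 1
  basis : Basis g eb
  indep : ∀ i < eb.length, ∀ m < 2 ^ i, ev g (eb.getD i []) ≠ ev g (maskW eb i m)
  ebl : Act.lettersOk A.n eb = true
  fixed : (ins.all fun p => A.chkFix eb p) = true
  closed : Closed g A pts eb gw reps C par gM
  dist : ((List.range reps.length).all fun i => chkDist A ins reps i) = true
  keep : ((List.range reps.length).all fun i => chkKeep A ins reps i) = true

namespace Big

variable {ins : List ℕ} {gw reps : List (List ℕ)} {C : Edges} {par : List (ℕ × ℕ)} {gM : List (List ℕ)}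
  (D : Big g A π pts ins eb gw reps C par gM)

include D in
theorem apply_rep {e : G} (he : e ∈ val g eb) {i : ℕ} (hi : i < reps.length) {p : Fin A.N}
    (hp : (p : ℕ) ∈ ins) : (π (e * ev g (reps.getD i [])) p : ℕ) = A.go (reps.getD i []) p ∧
      A.go (reps.getD i []) p ∈ ins := by
  have h := List.all_eq_true.1 D.keep i (List.mem_range.2 hi)
  simp only [chkKeep, Bool.and_eq_true, List.all_eq_true, List.any_eq_true] at h
  obtain ⟨hl, hk⟩ := h
  have e1 := D.hom.apply_ev (reps.getD i []) (fun s hs => Nat.le_of_ble_eq_true (hl s hs)) p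
  obtain ⟨⟨-, q, hq, hqe⟩, -⟩ := hk _ hp
  have hq' : A.go (reps.getD i []) p ∈ ins := Nat.eq_of_beq_eq_true hqe ▸ hq
  refine ⟨?_, hq'⟩
  rw [map_mul, Equiv.Perm.mul_apply]
  have hle : val g eb ≤ stab π (π (ev g (reps.getD i [])) p) := by
    refine (Subgroup.closure_le _).2 ?_
    rintro _ ⟨w, hw, rfl⟩
    refine D.hom.apply_ev_eq D.ebl ?_ hw
    exact List.all_eq_true.1 D.fixed _ (e1.symm ▸ hq')
  rw [show π e (π (ev g (reps.getD i [])) p) = π (ev g (reps.getD i [])) p from mem_stab.1 (hle he), e1]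

include D in
theorem apply_inv_rep {i : ℕ} (hi : i < reps.length) {p : Fin A.N} (hp : (p : ℕ) ∈ ins) :
    (π (ev g (reps.getD i []))⁻¹ p : ℕ) = A.go (reps.getD i []).reverse p ∧
      A.go (reps.getD i []).reverse p ∈ ins := by
  have h := List.all_eq_true.1 D.keep i (List.mem_range.2 hi)
  simp only [chkKeep, Bool.and_eq_true, List.all_eq_true, List.any_eq_true] at h
  obtain ⟨hl, hk⟩ := h
  obtain ⟨-, q, hq, hqe⟩ := hk _ hp
  refine ⟨?_, Nat.eq_of_beq_eq_true hqe ▸ hq⟩
  rw [← ev_reverse (fun s _ => D.sq s) _ (fun s hs => Nat.le_of_ble_eq_true (hl s hs))]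
  exact D.hom.apply_ev _ (fun s hs => Nat.le_of_ble_eq_true (hl s (List.mem_reverse.1 hs))) p

include D in
theorem apply_two {e f : G} (he : e ∈ val g eb) (hf : f ∈ val g eb) {i j : ℕ} (hi : i < reps.length)
    (hj : j < reps.length) {p : Fin A.N} (hp : (p : ℕ) ∈ ins) :
    (π (e * ev g (reps.getD i []) * (f * ev g (reps.getD j []))) p : ℕ) = two A reps i j p := by
  obtain ⟨h1, h2⟩ := D.apply_rep hf hj hp
  rw [map_mul, Equiv.Perm.mul_apply, two, force_eq,
    (D.apply_rep he hi (p := π (f * ev g (reps.getD j [])) p) (h1.symm ▸ h2)).1, h1]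

include D in
theorem index_unique {e f : G} (he : e ∈ val g eb) (hf : f ∈ val g eb) {i j : ℕ} (hi : i < reps.length)
    (hj : j < reps.length) (h : e * ev g (reps.getD i []) = f * ev g (reps.getD j [])) : i = j := by
  by_contra hne
  wlog hlt : j < i generalizing i j e f
  · exact this hf he hj hi h.symm (Ne.symm hne) (by omega)
  have hd := List.all_eq_true.1 (List.all_eq_true.1 D.dist i (List.mem_range.2 hi)) j (List.mem_range.2 hlt)
  obtain ⟨p, hp, hv⟩ := List.any_eq_true.1 hd
  have hk := List.all_eq_true.1 D.keep i (List.mem_range.2 hi)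
  simp only [chkKeep, Bool.and_eq_true, List.all_eq_true] at hk
  have hpN : p < A.N := Nat.le_of_ble_eq_true (hk.2 p hp).1.1
  have e1 := (D.apply_rep he hi (p := ⟨p, hpN⟩) hp).1
  rw [h, (D.apply_rep hf hj (p := ⟨p, hpN⟩) hp).1] at e1
  simp only at e1
  rw [e1, Nat.beq_refl] at hv
  exact Bool.noConfusion hv

include D in
theorem ins_lt {p : ℕ} (hp : p ∈ ins) : p < A.N := by
  have hk := List.all_eq_true.1 D.keep 0 (List.mem_range.2 D.closed.len)
  simp only [chkKeep, Bool.and_eq_true, List.all_eq_true] at hk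
  exact Nat.le_of_ble_eq_true (hk.2 p hp).1.1

variable [Finite G]

include D in
theorem card_eq : Nat.card (val g (eb ++ gw)) = 2 ^ eb.length * reps.length := by
  let f : val g eb × Fin reps.length → val g (eb ++ gw) := fun x =>
    ⟨(x.1 : G) * ev g (reps.getD x.2 []),
      (D.closed.mem_iff D.hom D.det D.sq D.basis).2 ⟨x.1, x.1.2, x.2, x.2.2, rfl⟩⟩
  have hf : Function.Bijective f := by
    refine ⟨fun x y h => ?_, fun y => ?_⟩
    · have h' : (x.1 : G) * ev g (reps.getD x.2 []) = y.1 * ev g (reps.getD y.2 []) := congrArg Subtype.val h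
      have hi := D.index_unique x.1.2 y.1.2 x.2.2 y.2.2 h'
      rw [hi] at h'
      exact Prod.ext (Subtype.ext (mul_right_cancel h')) (Fin.ext hi)
    · obtain ⟨e, he, i, hi, h⟩ := (D.closed.mem_iff D.hom D.det D.sq D.basis).1 y.2
      exact ⟨(⟨e, he⟩, ⟨i, hi⟩), Subtype.ext h.symm⟩
  rw [← Nat.card_eq_of_bijective f hf, Nat.card_prod, Nat.card_fin, D.basis.card D.indep]

include D in
theorem cap_le (X : Subgroup G) (hX : X ≤ val g eb) {L : List (List ℕ × List ℕ)}
    (hL : ∀ x ∈ L, chkAct A pts eb x.1 x.2 = true ∧ ∀ f ∈ X, ev g x.1 * f * (ev g x.1)⁻¹ = f) :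
    Nat.card X ≤ fixCount eb.length (L.map Prod.snd) := by
  classical
  let S : Finset ℕ := (Finset.range (2 ^ eb.length)).filter fun m =>
    (L.map Prod.snd).all (fun M => Nat.beq (linM M eb.length m) m) = true
  have hsub : (X : Set G) ⊆ (fun m => ev g (maskW eb eb.length m)) '' (S : Set ℕ) := by
    intro f hf
    obtain ⟨m, hm, rfl⟩ := D.basis.mem_iff.1 (hX hf)
    refine ⟨m, Finset.mem_filter.2 ⟨Finset.mem_range.2 hm, List.all_eq_true.2 fun M hM => ?_⟩, rfl⟩
    obtain ⟨x, hx, rfl⟩ := List.mem_map.1 hM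
    obtain ⟨hc, hfix⟩ := hL x hx
    have e := hfix _ hf
    rw [conj_of_chkAct D.hom D.det D.sq D.basis hc] at e
    have hbound : linM x.2 eb.length m < 2 ^ eb.length := by
      have key : ∀ i ≤ eb.length, linM x.2 i m < 2 ^ eb.length := by
        intro i
        induction i with
        | zero => intro _; exact Nat.two_pow_pos _
        | succ i ih =>
          intro hi
          rw [linM_succ]
          cases Nat.beq ((m >>> i) % 2) 1
          · exact ih (by omega)
          · refine Nat.xor_lt_two_pow ?_ (ih (by omega))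
            simp only [chkAct, Bool.and_eq_true, List.all_eq_true] at hc
            exact Nat.le_of_ble_eq_true (hc.2 i (List.mem_range.2 (by omega))).1
      exact key _ le_rfl
    rw [D.basis.inj_mask D.indep _ le_rfl _ hbound _ hm e]
    exact Nat.beq_refl m
  calc Nat.card X = (X : Set G).ncard := by rw [← Nat.card_coe_set_eq]; rfl
    _ ≤ ((fun m => ev g (maskW eb eb.length m)) '' (S : Set ℕ)).ncard :=
      Set.ncard_le_ncard hsub (S.finite_toSet.image _)
    _ ≤ (S : Set ℕ).ncard := Set.ncard_image_le S.finite_toSet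
    _ = fixCount eb.length (L.map Prod.snd) := by
      rw [Set.ncard_coe_finset, fixCount, List.countP_eq_length_filter,
        ← List.toFinset_card_of_nodup (List.nodup_range.filter _)]
      congr 1
      ext m
      simp [S]

include D in
theorem idx_mem {A' : Subgroup G} (hle : A' ≤ val g (eb ++ gw))
    (hnorm : ∀ s ∈ val g (eb ++ gw), ∀ a ∈ A', s * a * s⁻¹ ∈ A')
    (hab : ∀ a ∈ A', ∀ b ∈ A', a * b = b * a) (hexp : ∀ a ∈ A', a * a = 1) {B1 B2 : Sub} {wj : List ℕ}
    (hout : ((List.range reps.length).all fun i => chkOut A ins reps B1 B2 wj i) = true)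
    (hpair : chkPair A ins reps B1 B2 = true) :
    (∀ a ∈ A', ∃ e ∈ val g eb, ∃ i, i ∈ B1.I ∧ i < reps.length ∧ a = e * ev g (reps.getD i [])) ∨
      ∀ a ∈ A', ∃ e ∈ val g eb, ∃ i, i ∈ B2.I ∧ i < reps.length ∧ a = e * ev g (reps.getD i []) := by
  have hmi := fun {y : G} (hy : y ∈ A') => (D.closed.mem_iff D.hom D.det D.sq D.basis).1 (hle hy)
  have hrep : ∀ j < reps.length, ev g (reps.getD j []) ∈ val g (eb ++ gw) := fun j hj =>
    (D.closed.mem_iff D.hom D.det D.sq D.basis).2 ⟨1, one_mem _, j, hj, (one_mul _).symm⟩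
  have hboth : ∀ a ∈ A', ∀ e ∈ val g eb, ∀ i < reps.length, a = e * ev g (reps.getD i []) →
      i ∈ B1.I ∨ i ∈ B2.I := by
    intro a ha e he i hi hae
    have h := List.all_eq_true.1 hout i (List.mem_range.2 hi)
    simp only [chkOut, Bool.or_eq_true, Bool.and_eq_true, List.any_eq_true, Bool.not_eq_true'] at h
    rcases h with ((⟨x, hx, h⟩ | ⟨x, hx, h⟩) | ⟨p, hp, h⟩) | ⟨hj, p, hp, h⟩
    · exact Or.inl (Nat.eq_of_beq_eq_true h ▸ hx)
    · exact Or.inr (Nat.eq_of_beq_eq_true h ▸ hx)
    · exfalso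
      have e1 := D.apply_two he he hi hi (p := ⟨p, D.ins_lt hp⟩) hp
      rw [← hae, hexp a ha, map_one] at e1
      simp only [Equiv.Perm.one_apply] at e1
      rw [← e1, Nat.beq_refl] at h
      exact Bool.noConfusion h
    · exfalso
      set j := wj.getD i 0
      have hj' : j < reps.length := Nat.le_of_ble_eq_true hj
      set r := ev g (reps.getD j []) with hr
      have hcm := hab a ha _ (hnorm r (hrep j hj') a ha)
      have hc : ∀ (x : Fin A.N), (x : ℕ) ∈ ins → (π (r * a * r⁻¹) x : ℕ) = cj A reps j i x ∧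
          cj A reps j i x ∈ ins := by
        intro x hx
        obtain ⟨h1, h2⟩ := D.apply_inv_rep hj' hx
        obtain ⟨h3, h4⟩ := D.apply_rep he hi (p := π r⁻¹ x) (h1.symm ▸ h2)
        obtain ⟨h5, h6⟩ := D.apply_rep (one_mem _) hj' (p := π a (π r⁻¹ x))
          (by rw [hae]; exact h3.symm ▸ h4)
        rw [one_mul] at h5
        rw [map_mul, map_mul, Equiv.Perm.mul_apply, Equiv.Perm.mul_apply, cj, force_eq, force_eq]
        refine ⟨?_, ?_⟩
        · rw [h5, hae, h3, h1]
        · rw [← h1, ← h3, ← hae]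
          exact h6
      have hp' : ((⟨p, D.ins_lt hp⟩ : Fin A.N) : ℕ) ∈ ins := hp
      set P : Fin A.N := ⟨p, D.ins_lt hp⟩
      obtain ⟨h1, h2⟩ := hc P hp'
      obtain ⟨h3, h4⟩ := D.apply_rep he hi (p := π (r * a * r⁻¹) P) (h1.symm ▸ h2)
      obtain ⟨h5, h6⟩ := D.apply_rep he hi (p := P) hp'
      obtain ⟨h7, -⟩ := hc (π a P) (by rw [hae]; exact h5.symm ▸ h6)
      have e1 := congrArg (fun y : G => (π y P : ℕ)) hcm
      simp only [map_mul π a, map_mul π (r * a * r⁻¹) a, Equiv.Perm.mul_apply] at e1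
      rw [← hae] at h3 h5
      rw [h7, h3, h5, h1] at e1
      rw [e1, Nat.beq_refl] at h
      exact Bool.noConfusion h
  by_cases hall : ∀ a ∈ A', ∃ e ∈ val g eb, ∃ i, i ∈ B2.I ∧ i < reps.length ∧ a = e * ev g (reps.getD i [])
  · exact Or.inr hall
  left
  simp only [not_forall] at hall
  obtain ⟨b, hb, hbn⟩ := hall
  obtain ⟨f, hf, x, hx, hbf⟩ := hmi hb
  have hx2 : x ∉ B2.I := fun h => hbn ⟨f, hf, x, h, hx, hbf⟩
  have hx1 : x ∈ B1.I := (hboth b hb f hf x hx hbf).resolve_right hx2
  intro a ha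
  obtain ⟨e, he, y, hy, hae⟩ := hmi ha
  refine ⟨e, he, y, ?_, hy, hae⟩
  rcases hboth a ha e he y hy hae with h | hy2
  · exact h
  by_contra hy1
  simp only [chkPair, List.all_eq_true, List.any_eq_true, Bool.or_eq_true, Bool.not_eq_true'] at hpair
  rcases hpair x hx1 with ⟨z, hz, h⟩ | h
  · exact hx2 (Nat.eq_of_beq_eq_true h ▸ hz)
  rcases h y hy2 with ⟨z, hz, h⟩ | ⟨p, hp, h⟩
  · exact hy1 (Nat.eq_of_beq_eq_true h ▸ hz)
  have e1 := D.apply_two hf he hx hy (p := ⟨p, D.ins_lt hp⟩) hp
  rw [← hbf, ← hae, hab b hb a ha, hbf, hae, D.apply_two he hf hy hx (p := ⟨p, D.ins_lt hp⟩) hp] at e1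
  simp only at e1
  rw [e1, Nat.beq_refl] at h
  exact Bool.noConfusion h

include D in
theorem card_lt {B : Sub} (hB : chkSub A pts eb reps B = true)
    (hcl : Closed g A pts eb (pickR reps B.gs) (pickR reps B.I) B.C B.par
      (B.gs.map fun i => B.M.getD (B.I.idxOf i) [])) {A' : Subgroup G}
    (hab : ∀ a ∈ A', ∀ b ∈ A', a * b = b * a) (hne : ¬ A' ≤ val g eb)
    (hin : ∀ a ∈ A', ∃ e ∈ val g eb, ∃ i, i ∈ B.I ∧ i < reps.length ∧ a = e * ev g (reps.getD i [])) :
    Nat.card A' < 2 ^ eb.length := by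
  set E := val g eb with hE
  set K := val g (eb ++ pickR reps B.gs) with hK
  simp only [chkSub, Bool.and_eq_true, List.all_eq_true, Bool.or_eq_true] at hB
  obtain ⟨⟨⟨⟨⟨⟨hIlt, -⟩, hlen⟩, hI0⟩, hone⟩, hall⟩, hMlen⟩ := hB
  have hlen' : 0 < B.I.length := Nat.le_of_ble_eq_true hlen
  have hpick : ∀ a, (ha : a < B.I.length) → (pickR reps B.I).getD a [] = reps.getD B.I[a] [] := fun a ha => by
    rw [pickR, List.getD_eq_getElem _ _ (by simpa using ha), List.getElem_map]
  have hidx : ∀ a, (ha : a < B.I.length) → B.I[a] < reps.length := fun a ha =>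
    Nat.le_of_ble_eq_true (hIlt _ (List.getElem_mem ha))
  have hKmem := fun {y : G} => hcl.mem_iff D.hom D.det D.sq D.basis (y := y)
  have hpl : (pickR reps B.I).length = B.I.length := by simp [pickR]
  have hA'K : A' ≤ K := fun a ha => by
    obtain ⟨e, he, i, hi, -, rfl⟩ := hin a ha
    obtain ⟨b, hb, rfl⟩ := List.getElem_of_mem hi
    exact hKmem.2 ⟨e, he, b, hpl.symm ▸ hb, by rw [hpick b hb]⟩
  have hEK : E ≤ K := fun e he => hKmem.2 ⟨e, he, 0, hpl.symm ▸ hlen', by rw [hcl.one]; simp [ev]⟩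
  have hconj : ∀ y ∈ K, ∀ e ∈ E, y * e * y⁻¹ ∈ E := fun y hy e he => hcl.conj_mem D.hom D.det D.sq D.basis hy he
  have hrK : ∀ a, (ha : a < B.I.length) → ev g (reps.getD B.I[a] []) ∈ K := fun a ha =>
    hKmem.2 ⟨1, one_mem _, a, hpl.symm ▸ ha, by rw [one_mul, hpick a ha]⟩
  have hKcard : Nat.card K ≤ Nat.card E * B.I.length := by
    let f : E × Fin B.I.length → K := fun x =>
      ⟨(x.1 : G) * ev g ((pickR reps B.I).getD x.2 []),
        hKmem.2 ⟨x.1, x.1.2, x.2, hpl.symm ▸ x.2.2, rfl⟩⟩
    have hs : Function.Surjective f := fun y => by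
      obtain ⟨e, he, i, hi, h⟩ := hKmem.1 y.2
      exact ⟨(⟨e, he⟩, ⟨i, hpl ▸ hi⟩), Subtype.ext h.symm⟩
    have := Nat.card_le_card_of_surjective f hs
    rwa [Nat.card_prod, Nat.card_fin] at this
  haveI hEn : (E.subgroupOf K).Normal := ⟨fun n hn y => hconj y y.2 n hn⟩
  set X := E ⊓ A' with hX
  have hcap : ∀ L : List ℕ, (∀ a ∈ L, a < B.I.length ∧ ∀ f ∈ X,
      ev g (reps.getD (B.I.getD a 0) []) * f * (ev g (reps.getD (B.I.getD a 0) []))⁻¹ = f) →
      Nat.card X ≤ fixCount eb.length (L.map fun a => B.M.getD a []) := fun L hL => by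
    have := D.cap_le X inf_le_left (L := L.map fun a => (reps.getD (B.I.getD a 0) [], B.M.getD a []))
      fun x hx => by
        obtain ⟨a, ha, rfl⟩ := List.mem_map.1 hx
        exact ⟨(hone a (List.mem_range.2 (hL a ha).1)).1, (hL a ha).2⟩
    rwa [List.map_map] at this
  have hEA : ∀ f ∈ X, ∀ y ∈ E ⊔ A', y * f * y⁻¹ = f := by
    intro f hf y hy
    have hle : E ⊔ A' ≤ Subgroup.centralizer {f} := by
      refine sup_le (fun e he => Subgroup.mem_centralizer_singleton_iff.2 ?_) fun a ha =>
        Subgroup.mem_centralizer_singleton_iff.2 (hab a ha f hf.2)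
      obtain ⟨m, -, rfl⟩ := D.basis.mem_iff.1 he
      obtain ⟨m', -, hf'⟩ := D.basis.mem_iff.1 hf.1
      rw [← hf', D.basis.mul_mask, D.basis.mul_mask, show Nat.xor m m' = Nat.xor m' m from Nat.xor_comm m m']
    rw [Subgroup.mem_centralizer_singleton_iff.1 (hle hy), mul_inv_cancel_right]
  have hcard : Nat.card A' = Nat.card X * E.relIndex A' := by
    have := Subgroup.relIndex_mul_relIndex ⊥ X A' bot_le inf_le_right
    rw [Subgroup.relIndex_bot_left, Subgroup.relIndex_bot_left, hX, Subgroup.inf_relIndex_right] at this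
    exact this.symm
  have hEK' : Nat.card E * E.relIndex K = Nat.card K := by
    have := Subgroup.relIndex_mul_relIndex ⊥ E K bot_le hEK
    rwa [Subgroup.relIndex_bot_left, Subgroup.relIndex_bot_left] at this
  have hn : E.relIndex K ≤ B.I.length := Nat.le_of_mul_le_mul_left (hEK' ▸ hKcard) Nat.card_pos
  have hrel : E.relIndex A' = (E.subgroupOf K).relIndex (A'.subgroupOf K) :=
    (Subgroup.relIndex_subgroupOf hA'K).symm
  have hdvd : E.relIndex A' ∣ E.relIndex K := hrel ▸ Subgroup.relIndex_dvd_index_of_normal _ _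
  have hnz : 0 < E.relIndex K := Nat.pos_of_ne_zero fun h0 => by
    rw [h0, mul_zero] at hEK'
    exact absurd hEK'.symm Nat.card_pos.ne'
  rcases (Nat.le_of_dvd hnz hdvd).lt_or_eq with hlt | heq
  · obtain ⟨a, ha, hna⟩ := SetLike.not_le_iff_exists.1 hne
    obtain ⟨e, he, i, hi, -, hae⟩ := hin a ha
    obtain ⟨b, hb, rfl⟩ := List.getElem_of_mem hi
    have hb0 : b ≠ 0 := by
      rintro rfl
      refine hna ?_
      rw [hae, ← hpick 0 hb, hcl.one]
      simpa [ev] using he
    have h1 := hcap [b] fun c hc => by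
      rw [List.mem_singleton.1 hc, List.getD_eq_getElem _ _ hb]
      refine ⟨hb, fun f hf => hEA f hf _ ?_⟩
      rw [show ev g (reps.getD B.I[b] []) = e⁻¹ * a by rw [hae]; group]
      exact mul_mem (Subgroup.mem_sup_left (inv_mem he)) (Subgroup.mem_sup_right ha)
    have h2 := (hone b (List.mem_range.2 hb)).2.resolve_left fun h => hb0 (Nat.eq_of_beq_eq_true h)
    have hhalf : E.relIndex A' ≤ B.I.length / 2 := by
      obtain ⟨k, hk⟩ := hdvd
      have : 2 ≤ k := by
        rcases k with _ | _ | k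
        · rw [hk, mul_zero] at hnz; omega
        · omega
        · omega
      rw [Nat.le_div_iff_mul_le two_pos]
      calc E.relIndex A' * 2 ≤ E.relIndex A' * k := Nat.mul_le_mul_left _ this
        _ ≤ B.I.length := hk ▸ hn
    calc Nat.card A' = Nat.card X * E.relIndex A' := hcard
      _ ≤ fixCount eb.length [B.M.getD b []] * (B.I.length / 2) := Nat.mul_le_mul h1 hhalf
      _ < _ := Nat.le_of_ble_eq_true h2
  · have htop : E.subgroupOf K ⊔ A'.subgroupOf K = ⊤ := by
      have h1 := Subgroup.relIndex_mul_index (le_sup_left : E.subgroupOf K ≤ E.subgroupOf K ⊔ A'.subgroupOf K)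
      rw [Subgroup.relIndex_sup_left, ← hrel, heq, show (E.subgroupOf K).index = E.relIndex K from rfl] at h1
      exact Subgroup.index_eq_one.1 (Nat.eq_of_mul_eq_mul_left hnz (h1.trans (mul_one _).symm))
    have hall' := hcap (List.range B.I.length) fun c hc => by
      have hc' : c < B.I.length := List.mem_range.1 hc
      rw [List.getD_eq_getElem _ _ hc']
      refine ⟨hc', fun f hf => hEA f hf _ ?_⟩
      have : (⟨_, hrK c hc'⟩ : K) ∈ E.subgroupOf K ⊔ A'.subgroupOf K := htop ▸ Subgroup.mem_top _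
      rw [← Subgroup.subgroupOf_sup hEK hA'K] at this
      exact this
    have hMeq : (List.range B.I.length).map (fun a => B.M.getD a []) = B.M := by
      refine List.ext_getElem (by simp [Nat.eq_of_beq_eq_true hMlen]) fun i h1 h2 => ?_
      simp [List.getD_eq_getElem?_getD, List.getElem?_eq_getElem h2]
    rw [hMeq] at hall'
    calc Nat.card A' = Nat.card X * E.relIndex A' := hcard
      _ ≤ fixCount eb.length B.M * B.I.length := Nat.mul_le_mul hall' (heq ▸ hn)
      _ < _ := Nat.le_of_ble_eq_true hall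

end Big

end Cfsg.Agent.Fus.ElemW
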