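import Mathlib

/-!
# The Coxeter relations of a path

A sequence of involutions in which consecutive members satisfy the braid relation and the others
commute generates an image of a symmetric group.
-/

set_option autoImplicit false
set_option linter.style.haveILetI false

open scoped Nat

namespace Cfsg.Agent.Fus.SymPath

variable {G : Type*} [Group G]

/-- The relations of a path with `n` vertices. -/
structure Path (n : ℕ) (s : ℕ → G) : Prop where
  sq : ∀ i, i < n → s i * s i = 1
  comm : ∀ i j, i + 2 ≤ j → j < n → s i * s j = s j * s i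
  braid : ∀ i, i + 1 < n → s i * s (i + 1) * s i = s (i + 1) * s i * s (i + 1)

/-- The descending product starting at `k` with `d` factors. -/
def run (s : ℕ → G) (k : ℕ) : ℕ → G
  | 0 => 1
  | d + 1 => run s k d * s (k - d)

variable {n : ℕ} {s : ℕ → G} (h : Path n s)
include h

theorem comm_run {k i d : ℕ} (hk : k < n) (hd : d ≤ k + 1) (hi : i + d < k) :
    run s k d * s i = s i * run s k d := by
  induction d with
  | zero => simp [run]
  | succ d ih =>
    have e : s (k - d) * s i = s i * s (k - d) := (h.comm i (k - d) (by omega) (by omega)).symm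
    rw [run, mul_assoc, e, ← mul_assoc, ih (by omega) (by omega), mul_assoc]

theorem shift_run {k i d : ℕ} (hk : k < n) (hd : d ≤ k + 1) (hi : k + 1 < i + d) (hik : i ≤ k) :
    run s k d * s i = s (i - 1) * run s k d := by
  induction d with
  | zero => omega
  | succ d ih =>
    rcases Nat.lt_or_ge (k + 1) (i + d) with hlt | hge
    · have e : s (k - d) * s i = s i * s (k - d) := h.comm _ _ (by omega) (by omega)
      rw [run, mul_assoc, e, ← mul_assoc, ih (by omega) hlt, mul_assoc]
    · obtain ⟨d, rfl⟩ : ∃ d', d = d' + 1 := ⟨d - 1, by omega⟩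
      obtain ⟨l, rfl⟩ : ∃ l, i = l + 1 := ⟨i - 1, by omega⟩
      rw [run, run, show k - d = l + 1 by omega, show k - (d + 1) = l by omega, Nat.add_sub_cancel]
      have e : run s k d * s l = s l * run s k d := comm_run h hk (by omega) (by omega)
      calc run s k d * s (l + 1) * s l * s (l + 1)
          = run s k d * (s (l + 1) * s l * s (l + 1)) := by group
        _ = run s k d * s l * (s (l + 1) * s l) := by rw [← h.braid l (by omega)]; group
        _ = _ := by rw [e]; group

theorem step {k i d : ℕ} (hk : k < n) (hd : d ≤ k + 1) (hi : i ≤ k) :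
    ∃ d' ≤ k + 1, ∃ a ∈ Subgroup.closure (s '' Set.Iio k), run s k d * s i = a * run s k d' := by
  rcases lt_trichotomy (i + d) k with hlt | heq | hgt
  · exact ⟨d, hd, s i, Subgroup.subset_closure ⟨i, show i < k by omega, rfl⟩, comm_run h hk hd hlt⟩
  · refine ⟨d + 1, by omega, 1, one_mem _, ?_⟩
    rw [one_mul, run, show k - d = i by omega]
  · rcases Nat.lt_or_ge (k + 1) (i + d) with h2 | h2
    · exact ⟨d, hd, s (i - 1), Subgroup.subset_closure ⟨i - 1, show i - 1 < k by omega, rfl⟩,
        shift_run h hk hd h2 hi⟩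
    · obtain ⟨d, rfl⟩ : ∃ d', d = d' + 1 := ⟨d - 1, by omega⟩
      refine ⟨d, by omega, 1, one_mem _, ?_⟩
      rw [one_mul, run, show k - d = i by omega, mul_assoc, h.sq i (by omega), mul_one]

theorem card_le (k : ℕ) (hk : k ≤ n) :
    Finite (Subgroup.closure (s '' Set.Iio k)) ∧ Nat.card (Subgroup.closure (s '' Set.Iio k)) ≤ (k + 1)! := by
  induction k with
  | zero =>
    rw [show s '' Set.Iio 0 = ∅ by simp, Subgroup.closure_empty]
    exact ⟨inferInstance, by simp⟩
  | succ k ih =>
    obtain ⟨hfin, hcard⟩ := ih (by omega)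
    set K := Subgroup.closure (s '' Set.Iio k)
    let f : K × Fin (k + 2) → G := fun p => (p.1 : G) * run s k p.2
    have hmem : ∀ y ∈ Subgroup.closure (s '' Set.Iio (k + 1)), y ∈ Set.range f := by
      have hone : (1 : G) ∈ Set.range f := ⟨(1, 0), by simp [f, run]⟩
      have hmul : ∀ x ∈ Set.range f, ∀ y ∈ s '' Set.Iio (k + 1), x * y ∈ Set.range f := by
        rintro x ⟨⟨a, d⟩, rfl⟩ y ⟨i, hi, rfl⟩
        have hi' : i < k + 1 := hi
        obtain ⟨d', hd', b, hb, e⟩ := step h (show k < n by omega) (show (d : ℕ) ≤ k + 1 by omega)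
          (show i ≤ k by omega)
        refine ⟨(⟨a * b, mul_mem a.2 hb⟩, ⟨d', by omega⟩), ?_⟩
        simp only [f]
        rw [mul_assoc, mul_assoc, e]
      intro y hy
      induction hy using Subgroup.closure_induction_right with
      | one => exact hone
      | mul_right x hx y hy ihx => exact hmul x ihx y hy
      | mul_inv_cancel x hx y hy ihx =>
        obtain ⟨i, hi, rfl⟩ := hy
        have hi' : i < k + 1 := hi
        rw [inv_eq_of_mul_eq_one_right (h.sq i (by omega))]
        exact hmul x ihx _ ⟨i, hi, rfl⟩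
    let g : Subgroup.closure (s '' Set.Iio (k + 1)) → K × Fin (k + 2) := fun y => (hmem y y.2).choose
    have hg : Function.Injective g := fun y y' e => Subtype.ext (by
      rw [← (hmem y y.2).choose_spec, ← (hmem y' y'.2).choose_spec]
      exact congrArg f e)
    refine ⟨Finite.of_injective g hg, (Nat.card_le_card_of_injective g hg).trans ?_⟩
    rw [Nat.card_prod, Nat.card_fin]
    calc Nat.card K * (k + 2) ≤ (k + 1)! * (k + 2) := Nat.mul_le_mul_right _ hcard
      _ = (k + 1 + 1)! := by rw [Nat.factorial_succ (k + 1)]; ring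

omit h in
/-- The adjacent transpositions. -/
def adj (n i : ℕ) : Equiv.Perm (Fin (n + 1)) :=
  if hi : i < n then Equiv.swap (Fin.castSucc ⟨i, hi⟩) (Fin.succ ⟨i, hi⟩) else 1

omit h in
theorem adj_path (n : ℕ) : Path n (adj n) := by
  refine ⟨fun i hi => ?_, fun i j hij hj => ?_, fun i hi => ?_⟩
  · simp only [adj, dif_pos hi]; exact Equiv.swap_mul_self _ _
  · simp only [adj, dif_pos hj, dif_pos (show i < n by omega)]
    exact (Equiv.Perm.disjoint_swap_swap (by simp [Fin.ext_iff]; omega)).commute.eq
  · simp only [adj, dif_pos hi, dif_pos (show i < n by omega)]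
    rw [show Fin.castSucc (⟨i + 1, hi⟩ : Fin n) = Fin.succ ⟨i, by omega⟩ from Fin.ext rfl]
    set a := Fin.castSucc (⟨i, by omega⟩ : Fin n)
    set b := Fin.succ (⟨i, by omega⟩ : Fin n)
    set c := Fin.succ (⟨i + 1, hi⟩ : Fin n)
    have hab : a ≠ b := by simp [a, b, Fin.ext_iff]
    have hac : a ≠ c := by simp [a, c, Fin.ext_iff]; omega
    have hbc : b ≠ c := by simp [b, c, Fin.ext_iff]
    ext x
    simp only [Equiv.Perm.mul_apply, Equiv.swap_apply_def]
    split_ifs <;> simp_all

/-- The map from the symmetric group. -/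
theorem exists_hom : ∃ f : Equiv.Perm (Fin (n + 1)) →* G, f.range = Subgroup.closure (s '' Set.Iio n) ∧
    ∀ i < n, f (adj n i) = s i := by
  let v : ℕ → G × Equiv.Perm (Fin (n + 1)) := fun i => (s i, adj n i)
  have hv : Path n v := by
    have ha := adj_path n
    exact ⟨fun i hi => Prod.ext (h.sq i hi) (ha.sq i hi), fun i j a b => Prod.ext (h.comm i j a b) (ha.comm i j a b),
      fun i hi => Prod.ext (h.braid i hi) (ha.braid i hi)⟩
  obtain ⟨hfin, hcard⟩ := card_le hv n le_rfl
  set W := Subgroup.closure (v '' Set.Iio n)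
  let π : W →* Equiv.Perm (Fin (n + 1)) := (MonoidHom.snd G _).comp W.subtype
  have hπ : Function.Surjective π := by
    intro σ
    have hσ : σ ∈ W.map (MonoidHom.snd G (Equiv.Perm (Fin (n + 1)))) := by
      have h1 : Submonoid.closure (Set.range fun i : Fin n => Equiv.swap i.castSucc i.succ) ≤
          (W.map (MonoidHom.snd G (Equiv.Perm (Fin (n + 1))))).toSubmonoid := by
        refine Submonoid.closure_le.2 ?_
        rintro _ ⟨i, rfl⟩
        exact ⟨v i, Subgroup.subset_closure ⟨i, i.2, rfl⟩, by simp [v, adj]; rfl⟩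
      rw [Equiv.Perm.mclosure_swap_castSucc_succ] at h1
      exact h1 (Submonoid.mem_top σ)
    obtain ⟨w, hw, rfl⟩ := hσ
    exact ⟨⟨w, hw⟩, rfl⟩
  have hbij : Function.Bijective π := hπ.bijective_of_nat_card_le (by
    rw [Nat.card_eq_fintype_card (α := Equiv.Perm (Fin (n + 1))), Fintype.card_perm, Fintype.card_fin]
    exact hcard)
  let e := (MulEquiv.ofBijective π hbij).symm
  refine ⟨((MonoidHom.fst G _).comp W.subtype).comp e.toMonoidHom, ?_, fun i hi => ?_⟩
  · rw [MonoidHom.range_comp, MonoidHom.range_eq_top.2 e.surjective, ← MonoidHom.range_eq_map,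
      MonoidHom.range_comp, W.range_subtype, MonoidHom.map_closure, Set.image_image]
    rfl
  · have h1 : e (adj n i) = ⟨v i, Subgroup.subset_closure ⟨i, hi, rfl⟩⟩ := by
      rw [MulEquiv.symm_apply_eq]
      rfl
    show ((e (adj n i) : W) : G × Equiv.Perm (Fin (n + 1))).1 = s i
    rw [h1]

end Cfsg.Agent.Fus.SymPath
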