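import Mathlib

/-!
Lower bound `2n` on the degree of a faithful representation of `Sp_2n(q)` over `F_q`.
-/

set_option autoImplicit false

namespace Cfsg.Agent.Fus.SpMinDeg

open Matrix Module

section Pairs

variable {K : Type*} [Field K]

/-- `k` commuting pairs, each inverting an eigenvalue different from `±1`: dimension `≥ 2k`. -/
theorem two_mul_card_le : ∀ (d : ℕ) {V : Type _} [AddCommGroup V] [Module K V]
    [FiniteDimensional K V] {ι : Type _} (I : Finset ι) (T S : ι → End K V),
    finrank K V = d → (∀ i ∈ I, Function.Injective (S i)) →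
    (∀ i ∈ I, ∀ v, T i (S i (T i v)) = S i v) →
    (∀ i ∈ I, ∀ j ∈ I, i ≠ j → Commute (T i) (T j) ∧ Commute (T i) (S j)) →
    (∀ i ∈ I, ∃ (μ : K) (v : V), v ≠ 0 ∧ T i v = μ • v ∧ μ ≠ 0 ∧ μ * μ ≠ 1) →
    2 * I.card ≤ d := by
  classical
  intro d
  induction d using Nat.strong_induction_on with
  | _ d IH =>
    intro V _ _ _ ι I T S hd hS hrel hcomm heig
    obtain rfl | ⟨i₀, hi₀⟩ := I.eq_empty_or_nonempty
    · simp
    obtain ⟨l, v₀, hv₀, hTv₀, hl0, hl1⟩ := heig i₀ hi₀
    set T₀ := T i₀
    set S₀ := S i₀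
    let A : Submodule K V := LinearMap.ker (T₀ - l • (1 : End K V))
    let B : Submodule K V := LinearMap.ker (T₀ - l⁻¹ • (1 : End K V))
    have memA : ∀ v, v ∈ A ↔ T₀ v = l • v := fun v => by
      simp [A, LinearMap.mem_ker, sub_eq_zero]
    have memB : ∀ v, v ∈ B ↔ T₀ v = l⁻¹ • v := fun v => by
      simp [B, LinearMap.mem_ker, sub_eq_zero]
    have inv_eig : ∀ i ∈ I, ∀ (μ : K) (v : V), μ ≠ 0 → T i v = μ • v →
        T i (S i v) = μ⁻¹ • S i v := by
      intro i hi μ v hμ hv
      have h := hrel i hi v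
      rw [hv, map_smul, map_smul] at h
      conv_rhs => rw [← h, smul_smul, inv_mul_cancel₀ hμ, one_smul]
    have hSA : ∀ v ∈ A, S₀ v ∈ B := fun v hv =>
      (memB _).2 (inv_eig i₀ hi₀ l v hl0 ((memA v).1 hv))
    have hSB : ∀ v ∈ B, S₀ v ∈ A := fun v hv => (memA _).2 (by
      have := inv_eig i₀ hi₀ l⁻¹ v (inv_ne_zero hl0) ((memB v).1 hv)
      rwa [inv_inv] at this)
    have hAB : A ⊓ B = ⊥ := (Submodule.eq_bot_iff _).2 fun v hv => by
      have h1 := (memA v).1 hv.1
      rw [(memB v).1 hv.2] at h1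
      by_contra hv0
      exact hl1 (by rw [show l * l = l * l⁻¹ from by
        rw [smul_left_injective K hv0 h1], mul_inv_cancel₀ hl0])
    have hle : finrank K A = finrank K B := le_antisymm
      (LinearMap.finrank_le_finrank_of_injective (f := S₀.restrict hSA) fun a b h =>
        Subtype.ext (hS i₀ hi₀ (congrArg Subtype.val h)))
      (LinearMap.finrank_le_finrank_of_injective (f := S₀.restrict hSB) fun a b h =>
        Subtype.ext (hS i₀ hi₀ (congrArg Subtype.val h)))
    have hA0 : A ≠ ⊥ := fun h => hv₀ (by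
      have : v₀ ∈ A := (memA v₀).2 hTv₀
      rwa [h, Submodule.mem_bot] at this)
    have hApos : 0 < finrank K A := Submodule.one_le_finrank_iff.2 hA0
    have hU : finrank K (A ⊔ B : Submodule K V) = 2 * finrank K A := by
      have := Submodule.finrank_sup_add_finrank_inf_eq A B
      rw [hAB, finrank_bot, ← hle] at this
      omega
    have hQ := Submodule.finrank_quotient_add_finrank (A ⊔ B)
    have hcm : ∀ i ∈ I.erase i₀, (Commute T₀ (T i) ∧ Commute T₀ (S i)) ∧ Commute (T i) S₀ := by
      intro i hi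
      obtain ⟨hne, hi⟩ := Finset.mem_erase.1 hi
      exact ⟨hcomm i₀ hi₀ i hi hne.symm, (hcomm i hi i₀ hi₀ hne).2⟩
    have keep : ∀ (R : End K V), Commute T₀ R → ∀ (c : K) (v : V), T₀ v = c • v →
        T₀ (R v) = c • R v := fun R hR c v hv => by
      have := LinearMap.congr_fun hR.eq v
      simp only [Module.End.mul_apply] at this
      rw [this, hv, map_smul]
    have hRA : ∀ (R : End K V), Commute T₀ R → ∀ v ∈ A, R v ∈ A := fun R hR v hv =>
      (memA _).2 (keep R hR l v ((memA v).1 hv))
    have hRU : ∀ (R : End K V), Commute T₀ R → A ⊔ B ≤ (A ⊔ B).comap R := fun R hR =>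
      sup_le (fun v hv => Submodule.mem_sup_left (hRA R hR v hv))
        fun v hv => Submodule.mem_sup_right ((memB _).2 (keep R hR l⁻¹ v ((memB v).1 hv)))
    let J := (I.erase i₀).filter fun i =>
      ∃ (μ : K) (v : V), v ∈ A ∧ v ≠ 0 ∧ T i v = μ • v ∧ μ ≠ 0 ∧ μ * μ ≠ 1
    let R := (I.erase i₀).filter fun i =>
      ¬ ∃ (μ : K) (v : V), v ∈ A ∧ v ≠ 0 ∧ T i v = μ • v ∧ μ ≠ 0 ∧ μ * μ ≠ 1
    have hJR : J.card + R.card + 1 = I.card := by
      rw [Finset.card_filter_add_card_filter_not, Finset.card_erase_add_one hi₀]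
    have hJ : 2 * J.card ≤ finrank K A := by
      refine IH _ (by omega) (V := A) (ι := {i // i ∈ I.erase i₀})
        (J.attach.map ⟨fun j => ⟨j.1, (Finset.mem_filter.1 j.2).1⟩, fun a b h =>
          Subtype.ext (congrArg (fun x => x.1) h)⟩)
        (fun i => (T i).restrict (hRA _ (hcm i i.2).1.1))
        (fun i => (S i).restrict (hRA _ (hcm i i.2).1.2)) rfl ?_ ?_ ?_ ?_ |>.trans' ?_
      · exact fun i _ a b h => Subtype.ext (hS i (Finset.mem_of_mem_erase i.2)
          (congrArg Subtype.val h))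
      · exact fun i _ v => Subtype.ext (hrel i (Finset.mem_of_mem_erase i.2) v)
      · intro i _ j _ hij
        have h := hcomm i (Finset.mem_of_mem_erase i.2) j (Finset.mem_of_mem_erase j.2)
          (fun h => hij (Subtype.ext h))
        exact ⟨LinearMap.ext fun v => Subtype.ext (LinearMap.congr_fun h.1.eq v),
          LinearMap.ext fun v => Subtype.ext (LinearMap.congr_fun h.2.eq v)⟩
      · intro i hi
        obtain ⟨j, -, rfl⟩ := Finset.mem_map.1 hi
        obtain ⟨μ, v, hv, hv0, hTv, hμ⟩ := (Finset.mem_filter.1 j.2).2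
        exact ⟨μ, ⟨v, hv⟩, fun h => hv0 (congrArg Subtype.val h), Subtype.ext hTv, hμ⟩
      · rw [Finset.card_map, Finset.card_attach]
    have hR : 2 * R.card ≤ finrank K (V ⧸ (A ⊔ B)) := by
      refine IH _ (by omega) (V := V ⧸ (A ⊔ B)) (ι := {i // i ∈ I.erase i₀})
        (R.attach.map ⟨fun j => ⟨j.1, (Finset.mem_filter.1 j.2).1⟩, fun a b h =>
          Subtype.ext (congrArg (fun x => x.1) h)⟩)
        (fun i => Submodule.mapQ _ _ (T i) (hRU _ (hcm i i.2).1.1))
        (fun i => Submodule.mapQ _ _ (S i) (hRU _ (hcm i i.2).1.2)) rfl ?_ ?_ ?_ ?_ |>.trans' ?_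
      · intro i _
        have hs : Function.Surjective (S i) :=
          LinearMap.injective_iff_surjective.1 (hS i (Finset.mem_of_mem_erase i.2))
        refine LinearMap.injective_iff_surjective.2 ?_
        intro x
        obtain ⟨x, rfl⟩ := Submodule.Quotient.mk_surjective _ x
        obtain ⟨y, rfl⟩ := hs x
        exact ⟨Submodule.Quotient.mk y, rfl⟩
      · intro i _ x
        obtain ⟨x, rfl⟩ := Submodule.Quotient.mk_surjective _ x
        exact congrArg Submodule.Quotient.mk (hrel i (Finset.mem_of_mem_erase i.2) x)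
      · intro i _ j _ hij
        have h := hcomm i (Finset.mem_of_mem_erase i.2) j (Finset.mem_of_mem_erase j.2)
          (fun h => hij (Subtype.ext h))
        exact ⟨Submodule.linearMap_qext _ (LinearMap.ext fun v =>
            congrArg Submodule.Quotient.mk (LinearMap.congr_fun h.1.eq v)),
          Submodule.linearMap_qext _ (LinearMap.ext fun v =>
            congrArg Submodule.Quotient.mk (LinearMap.congr_fun h.2.eq v))⟩
      · intro i hi
        obtain ⟨⟨j, hj⟩, -, rfl⟩ := Finset.mem_map.1 hi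
        obtain ⟨hjI, hnone⟩ := Finset.mem_filter.1 hj
        obtain ⟨μ, v, hv0, hTv, hμ⟩ := heig j (Finset.mem_of_mem_erase hjI)
        refine ⟨μ, Submodule.Quotient.mk v, ?_, congrArg Submodule.Quotient.mk hTv, hμ⟩
        rw [Ne, Submodule.Quotient.mk_eq_zero]
        intro hvU
        obtain ⟨a, ha, b, hb, rfl⟩ := Submodule.mem_sup.1 hvU
        have hT : Commute T₀ (T j) := (hcm j hjI).1.1
        have key : T j a - μ • a = μ • b - T j b := by
          rw [map_add, smul_add] at hTv
          linear_combination (norm := abel) hTv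
        have hz : T j a - μ • a = 0 := by
          have hm : T j a - μ • a ∈ A ⊓ B :=
            ⟨A.sub_mem (hRA _ hT a ha) (A.smul_mem μ ha), key ▸ B.sub_mem (B.smul_mem μ hb)
              ((memB _).2 (keep _ hT l⁻¹ b ((memB b).1 hb)))⟩
          rwa [hAB, Submodule.mem_bot] at hm
        refine hnone ⟨if a = 0 then μ else μ, if a = 0 then S₀ b else a, ?_⟩
        by_cases ha0 : a = 0
        · simp only [if_pos ha0]
          refine ⟨hSB b hb, fun h => hv0 ?_, ?_, hμ⟩
          · have hb0 : b = 0 := hS i₀ hi₀ (h.trans (map_zero S₀).symm)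
            rw [ha0, hb0, add_zero]
          · have e := LinearMap.congr_fun (hcm j hjI).2.eq b
            simp only [Module.End.mul_apply] at e
            rw [e, show T j b = μ • b from (sub_eq_zero.1 (key ▸ hz)).symm, map_smul]
        · simp only [if_neg ha0]
          exact ⟨ha, ha0, sub_eq_zero.1 hz, hμ⟩
      · rw [Finset.card_map, Finset.card_attach]
    rcases Nat.eq_zero_or_pos J.card with h | h <;> omega

end Pairs

section Embedding

variable {F : Type*} [Field F] {n : ℕ}

local notation "SL2" => Matrix.SpecialLinearGroup (Fin 2) F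

def blockDiag2 (g : Fin n → SL2) : Matrix (Fin n ⊕ Fin n) (Fin n ⊕ Fin n) F :=
  fromBlocks (diagonal fun i => g i 0 0) (diagonal fun i => g i 0 1)
    (diagonal fun i => g i 1 0) (diagonal fun i => g i 1 1)

/-- `SL_2(F)^n` inside `Sp_2n(F)`. -/
def slPow : (Fin n → SL2) →* symplecticGroup (Fin n) F where
  toFun g := ⟨blockDiag2 g, SymplecticGroup.fromBlocks_mem_iff.2 ⟨by
      rw [diagonal_transpose, diagonal_transpose, diagonal_mul_diagonal, diagonal_mul_diagonal]
      exact congrArg diagonal (funext fun i => mul_comm _ _), by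
      rw [diagonal_transpose, diagonal_transpose, diagonal_mul_diagonal, diagonal_mul_diagonal]
      exact congrArg diagonal (funext fun i => mul_comm _ _), by
      rw [diagonal_transpose, diagonal_transpose, diagonal_mul_diagonal, diagonal_mul_diagonal,
        diagonal_sub, ← diagonal_one]
      exact congrArg diagonal (funext fun i => by
        have := (g i).prop
        rw [det_fin_two] at this
        linear_combination this)⟩⟩
  map_one' := Subtype.ext (by simp [blockDiag2])
  map_mul' g h := Subtype.ext (by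
    simp [blockDiag2, fromBlocks_multiply, diagonal_mul_diagonal, diagonal_add, Matrix.mul_apply,
      Fin.sum_univ_two])

theorem slPow_injective : Function.Injective (slPow (F := F) (n := n)) := fun g h e => by
  have e : blockDiag2 g = blockDiag2 h := congrArg Subtype.val e
  obtain ⟨e1, e2, e3, e4⟩ := fromBlocks_inj.1 e
  refine funext fun i => Subtype.ext (Matrix.ext fun a b => ?_)
  fin_cases a <;> fin_cases b
  · exact congrFun (diagonal_injective e1) i
  · exact congrFun (diagonal_injective e2) i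
  · exact congrFun (diagonal_injective e3) i
  · exact congrFun (diagonal_injective e4) i

end Embedding

section Main

variable {K V : Type*} [Field K] [IsAlgClosed K] [AddCommGroup V] [Module K V]
  [FiniteDimensional K V]

theorem exists_eig_odd (h2 : (2 : K) ≠ 0) {T : End K V} (h4 : T * T * (T * T) = 1)
    (hne : T * T ≠ 1) : ∃ (μ : K) (v : V), v ≠ 0 ∧ T v = μ • v ∧ μ ≠ 0 ∧ μ * μ ≠ 1 := by
  obtain ⟨w, hw⟩ : ∃ w, T (T w) ≠ w := by
    by_contra h
    push Not at h
    exact hne (LinearMap.ext h)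
  let W : Submodule K V := LinearMap.ker (T * T + 1)
  have mem : ∀ v, v ∈ W ↔ T (T v) = -v := fun v => by
    simp [W, LinearMap.mem_ker, eq_neg_iff_add_eq_zero]
  have hTW : ∀ v ∈ W, T v ∈ W := fun v hv => (mem _).2 (by rw [(mem v).1 hv, map_neg])
  have : Nontrivial W := Submodule.nontrivial_iff_ne_bot.2 fun hW => by
    have hm : w - T (T w) ∈ W := (mem _).2 (by
      rw [map_sub, map_sub, show T (T (T (T w))) = w from LinearMap.congr_fun h4 w, neg_sub])
    rw [hW, Submodule.mem_bot, sub_eq_zero] at hm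
    exact hw hm.symm
  obtain ⟨μ, hμ⟩ := Module.End.exists_eigenvalue (T.restrict hTW)
  obtain ⟨v, hv⟩ := hμ.exists_hasEigenvector
  have hv' : T v.1 = μ • v.1 := congrArg Subtype.val hv.apply_eq_smul
  have hv0 : v.1 ≠ 0 := fun h => hv.2 (Subtype.ext h)
  have hsq : μ * μ = -1 := smul_left_injective K hv0 (by
    show (μ * μ) • v.1 = (-1 : K) • v.1
    rw [← smul_smul, ← hv', ← map_smul, ← hv', (mem _).1 v.2, neg_one_smul])
  exact ⟨μ, v, hv0, hv', fun h => by simp [h] at hsq, fun h => h2 (by linear_combination h.symm.trans hsq)⟩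

theorem exists_eig_even (h2 : (2 : K) = 0) {T : End K V} (h3 : T * T * T = 1) (hne : T ≠ 1) :
    ∃ (μ : K) (v : V), v ≠ 0 ∧ T v = μ • v ∧ μ ≠ 0 ∧ μ * μ ≠ 1 := by
  obtain ⟨w, hw⟩ : ∃ w, T w ≠ w := by
    by_contra h
    push Not at h
    exact hne (LinearMap.ext h)
  let W : Submodule K V := LinearMap.ker (T * T + T + 1)
  have mem : ∀ v, v ∈ W ↔ T (T v) + T v + v = 0 := fun v => by simp [W, LinearMap.mem_ker]
  have hTW : ∀ v ∈ W, T v ∈ W := fun v hv => (mem _).2 (by
    rw [← map_add, ← map_add, (mem v).1 hv, map_zero])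
  have : Nontrivial W := Submodule.nontrivial_iff_ne_bot.2 fun hW => by
    have hm : T w - w ∈ W := (mem _).2 (by
      rw [map_sub, map_sub, show T (T (T w)) = w from LinearMap.congr_fun h3 w]
      abel)
    rw [hW, Submodule.mem_bot, sub_eq_zero] at hm
    exact hw hm
  obtain ⟨μ, hμ⟩ := Module.End.exists_eigenvalue (T.restrict hTW)
  obtain ⟨v, hv⟩ := hμ.exists_hasEigenvector
  have hv' : T v.1 = μ • v.1 := congrArg Subtype.val hv.apply_eq_smul
  have hv0 : v.1 ≠ 0 := fun h => hv.2 (Subtype.ext h)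
  have hrel : μ * μ + μ + 1 = 0 := smul_left_injective K hv0 (by
    simp only [add_smul, zero_smul, one_smul, ← smul_smul]
    rw [← hv', ← map_smul, ← hv']
    exact (mem _).1 v.2)
  refine ⟨μ, v, hv0, hv', fun h => by simp [h] at hrel, fun h => ?_⟩
  have h0 : μ = 0 := by linear_combination hrel - h - h2
  simp [h0] at h

theorem exists_pair (F : Type*) [Field F] [Fintype F] :
    ∃ t s : Matrix.SpecialLinearGroup (Fin 2) F, t * s * t = s ∧
      ((2 : F) ≠ 0 ∧ t * t * (t * t) = 1 ∧ t * t ≠ 1 ∨ (2 : F) = 0 ∧ t * t * t = 1 ∧ t ≠ 1) := by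
  by_cases h2 : (2 : F) = 0
  · obtain ⟨t, ht⟩ : ∃ t : Matrix.SpecialLinearGroup (Fin 2) F, t.1 = !![0, 1; 1, 1] :=
      ⟨⟨_, by rw [det_fin_two]; simp; linear_combination -h2⟩, rfl⟩
    obtain ⟨s, hs⟩ : ∃ s : Matrix.SpecialLinearGroup (Fin 2) F, s.1 = !![0, 1; 1, 0] :=
      ⟨⟨_, by rw [det_fin_two]; simp; linear_combination -h2⟩, rfl⟩
    refine ⟨t, s, ?_, Or.inr ⟨h2, ?_, ?_⟩⟩
    · refine Subtype.ext ?_
      simp only [Matrix.SpecialLinearGroup.coe_mul, ht, hs]
      ext a b
      fin_cases a <;> fin_cases b <;> simp <;> linear_combination h2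
    · refine Subtype.ext ?_
      simp only [Matrix.SpecialLinearGroup.coe_mul, Matrix.SpecialLinearGroup.coe_one, ht]
      ext a b
      fin_cases a <;> fin_cases b <;> simp <;> linear_combination h2
    · intro h
      rw [h] at ht
      have := congrFun (congrFun ht 0) 1
      simp at this
  · obtain ⟨p, hp⟩ := CharP.exists F
    have : NeZero p := ⟨(CharP.char_is_prime F p).ne_zero⟩
    obtain ⟨a, b, hab⟩ := CharP.sq_add_sq F p (-1)
    simp only [Int.cast_neg, Int.cast_one] at hab
    obtain ⟨t, ht⟩ : ∃ t : Matrix.SpecialLinearGroup (Fin 2) F, t.1 = !![0, 1; -1, 0] :=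
      ⟨⟨_, by rw [det_fin_two]; simp⟩, rfl⟩
    obtain ⟨s, hs⟩ : ∃ s : Matrix.SpecialLinearGroup (Fin 2) F,
        s.1 = !![(a : F), (b : F); (b : F), -(a : F)] :=
      ⟨⟨_, by rw [det_fin_two]; simp; linear_combination -hab⟩, rfl⟩
    refine ⟨t, s, ?_, Or.inl ⟨h2, ?_, ?_⟩⟩
    · refine Subtype.ext ?_
      simp only [Matrix.SpecialLinearGroup.coe_mul, ht, hs]
      ext i j
      fin_cases i <;> fin_cases j <;> simp
    · refine Subtype.ext ?_
      simp only [Matrix.SpecialLinearGroup.coe_mul, Matrix.SpecialLinearGroup.coe_one, ht]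
      ext i j
      fin_cases i <;> fin_cases j <;> simp
    · intro h
      have := congrArg (fun g : Matrix.SpecialLinearGroup (Fin 2) F => g.1) h
      simp only [Matrix.SpecialLinearGroup.coe_mul, Matrix.SpecialLinearGroup.coe_one, ht] at this
      have := congrFun (congrFun this 0) 0
      simp at this
      exact h2 (by linear_combination -this)

/-- A faithful representation of `Sp_2n(q)` over `F_q` has degree at least `2n`. -/
theorem two_mul_le {F : Type*} [Field F] [Fintype F] (n : ℕ) {d : ℕ}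
    (ρ : symplecticGroup (Fin n) F →* GL (Fin d) F) (hρ : Function.Injective ρ) : 2 * n ≤ d := by
  classical
  let L := AlgebraicClosure F
  let e : GL (Fin d) F →* GL (Fin d) L := GeneralLinearGroup.map (algebraMap F L)
  have he : Function.Injective e := fun a b h => Units.ext (Matrix.map_injective
    (algebraMap F L).injective (congrArg Units.val h))
  let φ : (Fin n → Matrix.SpecialLinearGroup (Fin 2) F) →* End L (Fin d → L) :=
    (Matrix.toLinAlgEquiv' : Matrix (Fin d) (Fin d) L ≃ₐ[L] _).toAlgHom.toMonoidHom.comp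
      ((Units.coeHom _).comp ((e.comp ρ).comp slPow))
  have hφ : Function.Injective φ := fun a b h =>
    slPow_injective (hρ (he (Units.ext ((Matrix.toLinAlgEquiv').injective h))))
  clear_value φ
  obtain ⟨t, s, hts, hcase⟩ := exists_pair F
  have hd : finrank L (Fin d → L) = d := by rw [finrank_fintype_fun_eq_card, Fintype.card_fin]
  have := two_mul_card_le d (V := Fin d → L) (Finset.univ : Finset (Fin n))
    (fun i => φ (Pi.mulSingle i t)) (fun i => φ (Pi.mulSingle i s)) hd ?_ ?_ ?_ ?_
  · simpa using this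
  · intro i _ a b h
    have h1 := congrArg (φ (Pi.mulSingle i s)⁻¹) h
    simpa only [← Module.End.mul_apply, ← map_mul, inv_mul_cancel, map_one,
      Module.End.one_apply] using h1
  · intro i _ v
    rw [← Module.End.mul_apply, ← Module.End.mul_apply, ← map_mul, ← map_mul, ← Pi.mulSingle_mul,
      ← Pi.mulSingle_mul, hts]
  · intro i _ j _ hij
    exact ⟨(Pi.mulSingle_commute hij t t).map φ, (Pi.mulSingle_commute hij t s).map φ⟩
  · intro i _
    have hne : ∀ x : Matrix.SpecialLinearGroup (Fin 2) F, x ≠ 1 → φ (Pi.mulSingle i x) ≠ 1 :=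
      fun x hx h => hx (by simpa using congrFun (hφ (h.trans (map_one φ).symm)) i)
    have hm : ∀ x y : Matrix.SpecialLinearGroup (Fin 2) F,
        φ (Pi.mulSingle i x) * φ (Pi.mulSingle i y) = φ (Pi.mulSingle i (x * y)) := fun x y => by
      rw [← map_mul, ← Pi.mulSingle_mul]
    rcases hcase with ⟨h2, h4, hn2⟩ | ⟨h2, h3, hn1⟩
    · refine exists_eig_odd ?_ ?_ ?_
      · exact fun h => h2 ((algebraMap F L).injective (by rw [map_ofNat, h, map_zero]))
      · rw [hm, hm, h4, Pi.mulSingle_one, map_one]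
      · rw [hm]; exact hne _ hn2
    · refine exists_eig_even ?_ ?_ (hne _ hn1)
      · rw [← map_ofNat (algebraMap F L) 2, h2, map_zero]
      · rw [hm, hm, h3, Pi.mulSingle_one, map_one]

end Main

end Cfsg.Agent.Fus.SpMinDeg
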