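import Mathlib
import Cfsg.Agent.Lib.Grp.Components
import Cfsg.Agent.Lib.Fus.SympFacts
import Cfsg.Agent.Lib.Fus.GfitExtra

/-!
Two conjugate involutions, the second one in the symplectic-type core of the first.
-/

set_option autoImplicit false
set_option linter.style.haveILetI false

namespace Cfsg.Agent.Fus.SympPair

open Subgroup
open scoped commutatorElement

variable {G : Type*} [Group G]

/-- The properties of the core of the centralizer of an involution used in the argument. -/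
structure Core (z : G) (Q : Subgroup G) : Prop where
  zQ : z ∈ Q
  z1 : z ≠ 1
  zz : z * z = 1
  cent : ∀ q ∈ Q, q * z = z * q
  sq : ∀ q ∈ Q, q * q = 1 ∨ q * q = z
  comm : ∀ a ∈ Q, ∀ b ∈ Q, a * b = b * a ∨ a * b = z * (b * a)
  cenInv : ∀ q ∈ Q, (∀ a ∈ Q, q * a = a * q) → q * q = 1 → q = 1 ∨ q = z
  self : ∀ c : G, (∀ q ∈ Q, c * q = q * c) → c ∈ Q
  norm : ∀ c : G, c * z = z * c → ∀ q ∈ Q, c * q * c⁻¹ ∈ Q

theorem of_gfit [Finite G] {z : G} (hz : orderOf z = 2) {Q : Subgroup G}
    (hQdef : Q = (Cfsg.generalizedFittingSubgroup ↥(centralizer ({z} : Set G))).map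
      (centralizer ({z} : Set G)).subtype)
    (hQ : Cfsg.IsOfSymplecticType ↥(Cfsg.generalizedFittingSubgroup ↥(centralizer ({z} : Set G))))
    (h4 : ∀ q ∈ Q, q ^ 4 = 1) : Core z Q := by
  obtain ⟨C, hC⟩ : ∃ C, C = centralizer ({z} : Set G) := ⟨_, rfl⟩
  rw [← hC] at hQ hQdef
  obtain ⟨F, hF⟩ : ∃ F, F = Cfsg.generalizedFittingSubgroup ↥C := ⟨_, rfl⟩
  rw [← hF] at hQ hQdef
  subst hQdef
  have hzc : ∀ c : ↥C, (c : G) * z = z * c := fun c => mem_centralizer_singleton_iff.1 (hC ▸ c.2)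
  have hzC : z ∈ C := hC ▸ mem_centralizer_singleton_iff.2 rfl
  have hzF : (⟨z, hzC⟩ : C) ∈ F := by
    rw [hF]
    exact mem_sup_right (center_le_fitting (mem_center_iff.2 fun c => Subtype.ext (hzc c)))
  have hz1 : z ≠ 1 := fun e => by rw [e, orderOf_one] at hz; omega
  have hzz : z * z = 1 := by rw [← pow_two, ← hz, pow_orderOf_eq_one]
  obtain ⟨hsq, hcomm, huniq⟩ := symp_facts hQ
    (fun x => Subtype.ext (Subtype.ext (by simpa using h4 _ ⟨x, x.2, rfl⟩)))
  have hzZ : (⟨⟨z, hzC⟩, hzF⟩ : F) ∈ center ↥F :=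
    mem_center_iff.2 fun f => Subtype.ext (Subtype.ext (hzc f))
  have hu : ∀ x : F, x ∈ center ↥F → x ^ 2 = 1 → ((x : C) : G) = 1 ∨ ((x : C) : G) = z := by
    intro x hx hx2
    rcases huniq _ hzZ x hx (Subtype.ext (Subtype.ext (by simpa [pow_two] using hzz))) hx2
      (fun e => hz1 (congrArg (fun u : F => ((u : C) : G)) e)) with h | h
    · exact Or.inl (congrArg (fun u : F => ((u : C) : G)) h)
    · exact Or.inr (congrArg (fun u : F => ((u : C) : G)) h)
  haveI : F.Normal := by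
    rw [hF, Cfsg.generalizedFittingSubgroup]; haveI := Grp.fittingSubgroup_isNormal (G := ↥C); infer_instance
  refine ⟨⟨_, hzF, rfl⟩, hz1, hzz, ?_, ?_, ?_, ?_, ?_, ?_⟩
  · rintro _ ⟨q, -, rfl⟩; exact hzc q
  · rintro _ ⟨x, hx, rfl⟩
    simpa [pow_two] using hu (⟨x, hx⟩ ^ 2) (hsq _).1 (hsq _).2
  · rintro _ ⟨x, hx, rfl⟩ _ ⟨y, hy, rfl⟩
    rcases hu ⁅(⟨x, hx⟩ : F), ⟨y, hy⟩⁆ (hcomm _ _).1 (hcomm _ _).2 with h | h <;>
      simp only [commutatorElement_def, Subgroup.coe_mul, Subgroup.coe_inv] at h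
    · exact Or.inl (mul_inv_eq_iff_eq_mul.1 (mul_inv_eq_one.1 h))
    · exact Or.inr (show (x : G) * y = z * ((y : G) * x) by rw [← mul_assoc z, ← mul_inv_eq_iff_eq_mul.1 (mul_inv_eq_iff_eq_mul.1 h)])
  · rintro _ ⟨x, hx, rfl⟩ h h2
    exact hu ⟨x, hx⟩
      (mem_center_iff.2 fun q => Subtype.ext (Subtype.ext (h _ ⟨q, q.2, rfl⟩).symm))
      (by rw [pow_two]; exact Subtype.ext (Subtype.ext h2))
  · intro c hc
    have hcC : c ∈ C := hC ▸ mem_centralizer_singleton_iff.2 (hc z ⟨_, hzF, rfl⟩)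
    refine ⟨⟨c, hcC⟩, ?_, rfl⟩
    rw [hF]
    refine Grp.centralizer_gfitting_le (mem_centralizer_iff.2 fun q hq => Subtype.ext ?_)
    exact (hc _ ⟨q, hF ▸ hq, rfl⟩).symm
  · rintro c hc _ ⟨q, hq, rfl⟩
    exact ⟨(⟨c, hC ▸ mem_centralizer_singleton_iff.2 hc⟩ : C) * q *
      (⟨c, hC ▸ mem_centralizer_singleton_iff.2 hc⟩ : C)⁻¹, Normal.conj_mem inferInstance q hq _, rfl⟩

theorem Core.map {z : G} {Q : Subgroup G} (h : Core z Q) (g : G) :
    Core (g * z * g⁻¹) (Q.map (MulAut.conj g).toMonoidHom) := by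
  refine ⟨⟨z, h.zQ, rfl⟩, ?_, ?_, ?_, ?_, ?_, ?_, ?_, ?_⟩
  · intro e; exact h.z1 (conj_eq_one_iff.mp e)
  · rw [conj_mul, h.zz]; group
  · rintro _ ⟨q, hq, rfl⟩
    show (MulAut.conj g) q * (MulAut.conj g) z = (MulAut.conj g) z * (MulAut.conj g) q
    rw [← map_mul, ← map_mul, h.cent q hq]
  · rintro _ ⟨q, hq, rfl⟩
    show (MulAut.conj g) q * (MulAut.conj g) q = 1 ∨ (MulAut.conj g) q * (MulAut.conj g) q = (MulAut.conj g) z
    rw [← map_mul]
    rcases h.sq q hq with e | e <;> rw [e]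
    · exact Or.inl (map_one _)
    · exact Or.inr rfl
  · rintro _ ⟨a, ha, rfl⟩ _ ⟨b, hb, rfl⟩
    show (MulAut.conj g) a * (MulAut.conj g) b = (MulAut.conj g) b * (MulAut.conj g) a ∨
      (MulAut.conj g) a * (MulAut.conj g) b = (MulAut.conj g) z * ((MulAut.conj g) b * (MulAut.conj g) a)
    simp only [← map_mul]
    rcases h.comm a ha b hb with e | e <;> rw [e]
    · exact Or.inl rfl
    · exact Or.inr rfl
  · rintro _ ⟨q, hq, rfl⟩ hc h2
    rcases h.cenInv q hq (fun a ha => (MulAut.conj g).injective (by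
      rw [map_mul, map_mul]; exact hc _ ⟨a, ha, rfl⟩))
      ((MulAut.conj g).injective (by rw [map_mul, map_one]; exact h2)) with e | e <;> subst e
    · exact Or.inl (map_one _)
    · exact Or.inr rfl
  · intro c hc
    refine ⟨g⁻¹ * c * g, h.self _ fun q hq => (MulAut.conj g).injective ?_, by simp [mul_assoc]⟩
    simpa [mul_assoc] using hc _ ⟨q, hq, rfl⟩
  · rintro c hc _ ⟨q, hq, rfl⟩
    refine ⟨(g⁻¹ * c * g) * q * (g⁻¹ * c * g)⁻¹, h.norm _ ?_ q hq, by simp [mul_assoc]⟩
    exact (MulAut.conj g).injective (by simpa [mul_assoc] using hc)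

variable {a b : G} {A B : Subgroup G}

/-- A conjugate involution in the core: it is moved to `a * b` inside the core. -/
theorem exists_flip (hA : Core a A) (hb : b ∈ A) (hba : b ≠ a) (hb1 : b ≠ 1) (hbb : b * b = 1) :
    ∃ y ∈ A, y * b * y⁻¹ = a * b := by
  by_contra hcon
  push Not at hcon
  have hcen : ∀ c ∈ A, b * c = c * b := fun c hc => by
    rcases hA.comm c hc b hb with e | e
    · exact e.symm
    · exact absurd (by rw [e]; group) (hcon c hc)
  rcases hA.cenInv b hb hcen hbb with e | e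
  · exact hb1 e
  · exact hba e

/-- In the case where no element of `B` moves `a` to `a * b`: `a` centralises `B`. -/
theorem commute_of_no_flip [Finite G] (hA : Core a A) (hB : Core b B) (hb : b ∈ A) (hba : b ≠ a)
    (g : G) (hAB : B = A.map (MulAut.conj g).toMonoidHom)
    (hno : ∀ q ∈ B, q * a * q⁻¹ ≠ a * b) : a ∈ B := by
  classical
  by_contra haB
  have hab : a * b = b * a := (hA.cent b hb).symm
  have hσ : ∀ v ∈ B, a * v * a ∈ B := fun v hv => by
    have := hB.norm a hab v hv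
    rwa [inv_eq_of_mul_eq_one_right hA.zz] at this
  have hai : a⁻¹ = a := inv_eq_of_mul_eq_one_right hA.zz
  have hbi : b⁻¹ = b := inv_eq_of_mul_eq_one_right hB.zz
  have hno' : ∀ q ∈ B, a * q * a = q * b → False := fun q hq e => by
    refine hno q⁻¹ (inv_mem hq) ?_
    rw [inv_inv, mul_assoc, inv_mul_eq_iff_eq_mul]
    calc a * q = a * q * a * a := by rw [mul_assoc (a * q), hA.zz, mul_one]
      _ = q * b * a := by rw [e]
      _ = q * (a * b) := by rw [hab, mul_assoc]
  have hsig : ∀ x y : G, a * (x * y) * a = a * x * a * (a * y * a) := fun x y => by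
    calc a * (x * y) * a = a * x * (a * a) * y * a := by rw [hA.zz]; group
      _ = _ := by group
  have hsigb : a * b * a = b := by rw [hab, mul_assoc, hA.zz, mul_one]
  -- the displacement
  have hw : ∀ v ∈ B, a * (v⁻¹ * (a * v * a)) * a = v⁻¹ * (a * v * a) ∧
      (v⁻¹ * (a * v * a)) * (v⁻¹ * (a * v * a)) = 1 := by
    intro v hv
    obtain ⟨w, hw'⟩ : ∃ w, w = v⁻¹ * (a * v * a) := ⟨_, rfl⟩
    rw [← hw']
    have hwB : w ∈ B := hw' ▸ mul_mem (inv_mem hv) (hσ v hv)
    have e1 : a * w * a = w⁻¹ := by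
      calc a * w * a = a * v⁻¹ * a * v * (a * a) := by rw [hw']; group
        _ = (a * v⁻¹ * a⁻¹) * v := by rw [hA.zz, mul_one, hai]
        _ = w⁻¹ := by rw [hw', mul_inv_rev, inv_inv, mul_inv_rev, mul_inv_rev, hai]; group
    rcases hB.sq w hwB with h | h
    · exact ⟨by rw [e1, inv_eq_of_mul_eq_one_right h], h⟩
    · refine (hno' w hwB ?_).elim
      rw [e1]
      refine inv_eq_of_mul_eq_one_right ?_
      rw [← mul_assoc, h, hB.zz]
  -- the centraliser of the fixed points is fixed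
  have hdc : ∀ u ∈ B, (∀ c ∈ B, a * c * a = c → u * c = c * u) → a * u * a = u := by
    intro u hu hcu
    obtain ⟨w, hw'⟩ : ∃ w, w = u⁻¹ * (a * u * a) := ⟨_, rfl⟩
    have hwB : w ∈ B := hw' ▸ mul_mem (inv_mem hu) (hσ u hu)
    have hwc : ∀ v ∈ B, w * v = v * w := by
      intro v hv
      have hσv := hσ v hv
      have hsame : (a * u * a) * v * (a * u * a)⁻¹ = u * v * u⁻¹ := by
        -- compute the commutator on both sides
        have hc := hcu _ (mul_mem (inv_mem hv) hσv) (hw v hv).1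
        have h1 : u * (a * v * a) * u⁻¹ = (u * v * u⁻¹) * (v⁻¹ * (a * v * a)) := by
          calc u * (a * v * a) * u⁻¹ = (u * v * u⁻¹) * (u * (v⁻¹ * (a * v * a)) * u⁻¹) := by group
            _ = _ := by rw [hc, mul_inv_cancel_right]
        obtain ⟨e, he, hev⟩ : ∃ e, (e = 1 ∨ e = b) ∧ u * v * u⁻¹ = e * v := by
          rcases hB.comm u hu v hv with h | h
          · exact ⟨1, Or.inl rfl, by rw [h, mul_inv_cancel_right, one_mul]⟩
          · exact ⟨b, Or.inr rfl, by rw [h]; group⟩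
        have hae : a * e * a = e := by
          rcases he with h | h <;> rw [h]
          · rw [mul_one, hA.zz]
          · exact hsigb
        have h2 : a * (u * (a * v * a) * u⁻¹) * a = (a * u * a) * v * (a * u * a)⁻¹ := by
          rw [mul_inv_rev, mul_inv_rev, hai]
          group
        rw [← h2, h1, hev, mul_assoc e, mul_inv_cancel_left, hsig, hae]
        simp [← mul_assoc, hA.zz, mul_assoc v]
      rw [hw']
      calc u⁻¹ * (a * u * a) * v = u⁻¹ * ((a * u * a) * v * (a * u * a)⁻¹) * (a * u * a) := by group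
        _ = u⁻¹ * (u * v * u⁻¹) * (a * u * a) := by rw [hsame]
        _ = v * (u⁻¹ * (a * u * a)) := by group
    rcases hB.cenInv w hwB hwc (hw' ▸ (hw u hu).2) with e | e
    · rw [hw', inv_mul_eq_one] at e; exact e.symm
    · exact (hno' u hu (by rw [← e, hw', mul_inv_cancel_left])).elim
  -- elements common to both cores
  obtain ⟨y0, hy0, hy0b⟩ := exists_flip hA hb hba hB.z1 hB.zz
  have hcases : ∀ v ∈ A, (v * b = b * v) ∨ ((y0⁻¹ * v) * b = b * (y0⁻¹ * v)) := by
    intro v hv
    rcases hA.comm v hv b hb with e | e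
    · exact Or.inl e
    · refine Or.inr ?_
      rw [mul_assoc, e, ← mul_assoc a, ← hy0b]
      group
  have hD : ∀ d ∈ A, d ∈ B → d = 1 ∨ d = b := by
    intro d hdA hdB
    have hd2 : d * d = 1 := by
      rcases hA.sq d hdA with e | e
      · exact e
      · exact absurd (e ▸ mul_mem hdB hdB) haB
    have hdR : ∀ r ∈ A, r * b = b * r → r * d = d * r := by
      intro r hr hrb
      rcases hA.comm r hr d hdA with e | e
      · exact e
      · refine absurd ?_ haB
        have : r * d * r⁻¹ * d⁻¹ ∈ B := mul_mem (hB.norm r hrb d hdB) (inv_mem hdB)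
        rwa [e, show a * (d * r) * r⁻¹ * d⁻¹ = a by group] at this
    have hcen : ∀ e, e ∈ A → (∀ r ∈ A, r * b = b * r → r * e = e * r) → y0 * e = e * y0 →
        ∀ c ∈ A, e * c = c * e := by
      intro e _ hR hy c hc
      rcases hcases c hc with h | h
      · exact (hR c hc h).symm
      · calc e * c = e * y0 * (y0⁻¹ * c) := by group
          _ = y0 * e * (y0⁻¹ * c) := by rw [hy]
          _ = y0 * ((y0⁻¹ * c) * e) := by rw [mul_assoc, ← hR _ (mul_mem (inv_mem hy0) hc) h]
          _ = c * e := by group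
    rcases hA.comm y0 hy0 d hdA with e | e
    · rcases hA.cenInv d hdA (hcen d hdA hdR e) hd2 with h | h
      · exact Or.inl h
      · exact absurd (h ▸ hdB) haB
    · have hdb : b * d = d * b := hdR b hb rfl
      have hy : y0 * (d * b) = d * b * y0 := by
        calc y0 * (d * b) = (y0 * d) * b := by group
          _ = a * d * (y0 * b * y0⁻¹) * y0 := by rw [e]; group
          _ = a * d * a * b * y0 := by rw [hy0b]; group
          _ = d * (a * a) * b * y0 := by rw [← hA.cent d hdA]; group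
          _ = d * b * y0 := by rw [hA.zz, mul_one]
      have h2 : d * b * (d * b) = 1 := by
        calc d * b * (d * b) = d * (b * d) * b := by group
          _ = (d * d) * (b * b) := by rw [hdb]; group
          _ = 1 := by rw [hd2, hB.zz, one_mul]
      rcases hA.cenInv (d * b) (mul_mem hdA hb) (hcen _ (mul_mem hdA hb)
          (fun r hr hrb => by rw [← mul_assoc, hdR r hr hrb, mul_assoc, hrb, mul_assoc]) hy) h2 with h | h
      · exact Or.inr ((mul_eq_one_iff_eq_inv.1 h).trans hbi)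
      · exact absurd (h ▸ mul_mem hdB hB.zQ) haB
  have hbc : ∀ v ∈ B, b * v = v * b := fun v hv => (hB.cent v hv).symm
  have hfix : ∀ x ∈ A, x * b = b * x → ∀ c ∈ B, a * c * a = c →
      x * c * x⁻¹ = c ∨ x * c * x⁻¹ = b * c := by
    intro x hx hxb c hc hac
    have hca : c * a = a * c := by
      calc c * a = a * c * a * a := by rw [hac]
        _ = a * c := by rw [mul_assoc (a * c), hA.zz, mul_one]
    have h1 : x * c * x⁻¹ * c⁻¹ ∈ A := by
      rw [mul_assoc x c, mul_assoc x]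
      exact mul_mem hx (hA.norm c hca _ (inv_mem hx))
    have h2 : x * c * x⁻¹ * c⁻¹ ∈ B := mul_mem (hB.norm x hxb c hc) (inv_mem hc)
    rcases hD _ h1 h2 with e | e
    · exact Or.inl (mul_inv_eq_one.1 e)
    · exact Or.inr (mul_inv_eq_iff_eq_mul.1 e)
  have hm : ∀ x ∈ A, x * b = b * x → ∀ v ∈ B, ∃ m ∈ B, a * m * a = m ∧ x * v * x⁻¹ = v * m := by
    intro x hx hxb v hv
    have hxv := hB.norm x hxb v hv
    refine ⟨v⁻¹ * (x * v * x⁻¹), mul_mem (inv_mem hv) hxv, ?_, by group⟩
    refine hdc _ (mul_mem (inv_mem hv) hxv) fun c hc hac => ?_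
    have hconj : (x * v * x⁻¹) * c * (x * v * x⁻¹)⁻¹ = v * c * v⁻¹ := by
      have hxe : x * b * x⁻¹ = b := by rw [hxb, mul_inv_cancel_right]
      obtain ⟨e, he, hev⟩ : ∃ e, (e = 1 ∨ e = b) ∧ v * c * v⁻¹ = e * c := by
        rcases hB.comm v hv c hc with h | h
        · exact ⟨1, Or.inl rfl, by rw [h, mul_inv_cancel_right, one_mul]⟩
        · exact ⟨b, Or.inr rfl, by rw [h]; group⟩
      have hxe' : x * e * x⁻¹ = e := by
        rcases he with h | h <;> rw [h]
        · group
        · exact hxe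
      have h3 : (x * v * x⁻¹) * (x * c * x⁻¹) * (x * v * x⁻¹)⁻¹ = e * (x * c * x⁻¹) := by
        calc _ = x * (v * c * v⁻¹) * x⁻¹ := by group
          _ = (x * e * x⁻¹) * (x * c * x⁻¹) := by rw [hev]; group
          _ = _ := by rw [hxe']
      rcases hfix x hx hxb c hc hac with h | h
      · rw [h] at h3; rw [h3, hev]
      · rw [h, ← mul_assoc (x * v * x⁻¹) b, ← hbc _ hxv, ← mul_assoc e] at h3
        rw [hev]
        have he' : e * b = b * e := by rcases he with h | h <;> rw [h]; simp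
        rw [he', mul_assoc b e, mul_assoc b, mul_assoc b, mul_right_inj] at h3
        exact h3
    calc v⁻¹ * (x * v * x⁻¹) * c = v⁻¹ * ((x * v * x⁻¹) * c * (x * v * x⁻¹)⁻¹) * (x * v * x⁻¹) := by group
      _ = v⁻¹ * (v * c * v⁻¹) * (x * v * x⁻¹) := by rw [hconj]
      _ = _ := by group
  -- commutators and squares from the centraliser act trivially modulo `b`
  have hfin : ∀ t : G, (∀ v ∈ B, t * v * t⁻¹ = v ∨ t * v * t⁻¹ = v * b) → t = a → False := by
    intro t ht e
    subst e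
    refine haB (hB.self t fun v hv => ?_)
    rcases ht v hv with h | h
    · exact mul_inv_eq_iff_eq_mul.1 h
    · rw [hai] at h; exact (hno' v hv h).elim
  have hsqR : ∀ x ∈ A, x * b = b * x → x * x = 1 := by
    intro x hx hxb
    refine (hA.sq x hx).resolve_right fun e => hfin (x * x) (fun v hv => ?_) e
    obtain ⟨m, hmB, hma, hm'⟩ := hm x hx hxb v hv
    have e1 : x * x * v * (x * x)⁻¹ = v * m * (x * m * x⁻¹) := by
      calc _ = x * (x * v * x⁻¹) * x⁻¹ := by group
        _ = x * (v * m) * x⁻¹ := by rw [hm']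
        _ = (x * v * x⁻¹) * (x * m * x⁻¹) := by group
        _ = _ := by rw [hm']
    rw [e1]
    rcases hfix x hx hxb m hmB hma with h | h <;> rw [h]
    · rcases hB.sq m hmB with h2 | h2 <;> rw [mul_assoc, h2]
      · exact Or.inl (mul_one v)
      · exact Or.inr rfl
    · rw [mul_assoc, ← mul_assoc m b, ← hbc m hmB, mul_assoc b]
      rcases hB.sq m hmB with h2 | h2 <;> rw [h2]
      · exact Or.inr (by rw [mul_one])
      · exact Or.inl (by rw [hB.zz, mul_one])
  have hcommR : ∀ x ∈ A, x * b = b * x → ∀ y ∈ A, y * b = b * y → x * y = y * x := by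
    intro x hx hxb y hy hyb
    refine (hA.comm x hx y hy).resolve_right fun e => ?_
    have hxy : x * b * x⁻¹ = b := by rw [hxb, mul_inv_cancel_right]
    refine hfin (x * y * x⁻¹ * y⁻¹) (fun v hv => ?_) (by rw [e]; group)
    obtain ⟨v', hv'⟩ : ∃ v', v' = (y * x)⁻¹ * v * (y * x) := ⟨_, rfl⟩
    have hv'B : v' ∈ B := by
      have hk : (y * x)⁻¹ * b = b * (y * x)⁻¹ :=
        (Commute.inv_left (Commute.mul_left hyb hxb : Commute (y * x) b)).eq
      have := hB.norm _ hk v hv
      rwa [inv_inv, ← hv'] at this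
    obtain ⟨m, hmB, hma, hm'⟩ := hm x hx hxb v' hv'B
    obtain ⟨n, hnB, hna, hn'⟩ := hm y hy hyb v' hv'B
    have e1 : x * y * x⁻¹ * y⁻¹ * v * (x * y * x⁻¹ * y⁻¹)⁻¹ = v' * m * (x * n * x⁻¹) := by
      calc _ = x * (y * v' * y⁻¹) * x⁻¹ := by rw [hv']; group
        _ = x * (v' * n) * x⁻¹ := by rw [hn']
        _ = (x * v' * x⁻¹) * (x * n * x⁻¹) := by group
        _ = _ := by rw [hm']
    have e2 : v = v' * n * (y * m * y⁻¹) := by
      calc v = y * (x * v' * x⁻¹) * y⁻¹ := by rw [hv']; group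
        _ = y * (v' * m) * y⁻¹ := by rw [hm']
        _ = (y * v' * y⁻¹) * (y * m * y⁻¹) := by group
        _ = _ := by rw [hn']
    have key : ∃ δ, (δ = 1 ∨ δ = b) ∧ v' * m * (x * n * x⁻¹) = v * δ := by
      have hmove : ∀ p ∈ B, p * b = b * p := fun p hp => hB.cent p hp
      obtain ⟨ε, hε, h1⟩ : ∃ ε, (ε = 1 ∨ ε = b) ∧ x * n * x⁻¹ = n * ε := by
        rcases hfix x hx hxb n hnB hna with h | h <;> rw [h]
        · exact ⟨1, Or.inl rfl, (mul_one n).symm⟩
        · exact ⟨b, Or.inr rfl, hbc n hnB⟩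
      obtain ⟨ζ, hζ, h2⟩ : ∃ ζ, (ζ = 1 ∨ ζ = b) ∧ y * m * y⁻¹ = m * ζ := by
        rcases hfix y hy hyb m hmB hma with h | h <;> rw [h]
        · exact ⟨1, Or.inl rfl, (mul_one m).symm⟩
        · exact ⟨b, Or.inr rfl, hbc m hmB⟩
      obtain ⟨η, hη, h3⟩ : ∃ η, (η = 1 ∨ η = b) ∧ m * n = n * m * η := by
        rcases hB.comm m hmB n hnB with h | h <;> rw [h]
        · exact ⟨1, Or.inl rfl, (mul_one _).symm⟩
        · exact ⟨b, Or.inr rfl, hbc _ (mul_mem hnB hmB)⟩
      have hεB : ε ∈ B := by rcases hε with h | h <;> rw [h]; exacts [one_mem B, hB.zQ]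
      have hζi : ζ * ζ = 1 := by rcases hζ with h | h <;> rw [h]; exacts [mul_one 1, hB.zz]
      refine ⟨ζ * η * ε, ?_, ?_⟩
      · rcases hζ with h | h <;> rcases hη with h' | h' <;> rcases hε with h'' | h'' <;>
          simp [h, h', h'', hB.zz]
      · rw [h1, e2, h2]
        calc v' * m * (n * ε) = v' * (m * n) * ε := by group
          _ = v' * n * m * (ζ * ζ) * η * ε := by rw [h3, hζi]; group
          _ = _ := by group
    obtain ⟨δ, hδ, hk⟩ := key
    rw [e1, hk]
    rcases hδ with h | h <;> rw [h]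
    · exact Or.inl (mul_one v)
    · exact Or.inr rfl
  -- the core has order eight
  have hR : ∀ r ∈ A, r * b = b * r → r = 1 ∨ r = a ∨ r = b ∨ r = a * b := by
    intro r hr hrb
    have hcen : ∀ e, e ∈ A → e * b = b * e → y0 * e = e * y0 → ∀ c ∈ A, e * c = c * e := by
      intro e he heb hy c hc
      rcases hcases c hc with h | h
      · exact hcommR e he heb c hc h
      · calc e * c = e * y0 * (y0⁻¹ * c) := by group
          _ = y0 * e * (y0⁻¹ * c) := by rw [hy]
          _ = y0 * ((y0⁻¹ * c) * e) := by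
            rw [mul_assoc, hcommR e he heb _ (mul_mem (inv_mem hy0) hc) h]
          _ = c * e := by group
    rcases hA.comm y0 hy0 r hr with e | e
    · rcases hA.cenInv r hr (hcen r hr hrb e) (hsqR r hr hrb) with h | h
      · exact Or.inl h
      · exact Or.inr (Or.inl h)
    · have hy : y0 * (r * b) = r * b * y0 := by
        calc y0 * (r * b) = (y0 * r) * b := by group
          _ = a * r * (y0 * b * y0⁻¹) * y0 := by rw [e]; group
          _ = a * r * a * b * y0 := by rw [hy0b]; group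
          _ = r * (a * a) * b * y0 := by rw [← hA.cent r hr]; group
          _ = r * b * y0 := by rw [hA.zz, mul_one]
      have hrbb : r * b * b = b * (r * b) := by rw [← mul_assoc b, ← hrb]
      rcases hA.cenInv (r * b) (mul_mem hr hb) (hcen _ (mul_mem hr hb) hrbb hy)
          (hsqR _ (mul_mem hr hb) hrbb) with h | h
      · exact Or.inr (Or.inr (Or.inl ((mul_eq_one_iff_eq_inv.1 h).trans hbi)))
      · exact Or.inr (Or.inr (Or.inr (by
          rw [← h, mul_assoc, hB.zz, mul_one])))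
  have hcardA : Nat.card A ≤ 8 := by
    have hsub : (A : Set G) ⊆
        (({1, a, b, a * b} : Finset G) ∪ ({1, a, b, a * b} : Finset G).image (y0 * ·) : Finset G) := by
      intro v hv
      rw [Finset.mem_coe, Finset.mem_union]
      rcases hcases v hv with h | h
      · exact Or.inl (by simpa [or_assoc] using hR v hv h)
      · refine Or.inr (Finset.mem_image.2 ⟨y0⁻¹ * v, ?_, by group⟩)
        simpa [or_assoc] using hR _ (mul_mem (inv_mem hy0) hv) h
    have h1 := Set.ncard_le_ncard hsub (Finset.finite_toSet _)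
    rw [Set.ncard_coe_finset] at h1
    refine le_trans (le_trans (le_of_eq (Nat.card_coe_set_eq (A : Set G))) h1) ?_
    refine le_trans (Finset.card_union_le _ _) ?_
    have h4 : ({1, a, b, a * b} : Finset G).card ≤ 4 := Finset.card_le_four
    have := Finset.card_image_le (s := ({1, a, b, a * b} : Finset G)) (f := (y0 * ·))
    omega
  have hcardB : Nat.card B ≤ 8 := by
    rw [hAB, Subgroup.card_map_of_injective (MulEquiv.injective _)]; exact hcardA
  -- a displacement of order two outside the centre gives a contradiction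
  refine haB (hB.self a fun v hv => ?_)
  by_contra hne
  obtain ⟨w, hw'⟩ : ∃ w, w = v⁻¹ * (a * v * a) := ⟨_, rfl⟩
  obtain ⟨hwa, hww⟩ := hw v hv
  rw [← hw'] at hwa hww
  have hwB : w ∈ B := hw' ▸ mul_mem (inv_mem hv) (hσ v hv)
  have hw1 : w ≠ 1 := fun e => hne (by
    rw [hw', inv_mul_eq_one] at e
    calc a * v = a * v * a * a := by rw [mul_assoc (a * v), hA.zz, mul_one]
      _ = v * a := by rw [← e])
  have hwb : w ≠ b := fun e => hno' v hv (by rw [← e, hw', mul_inv_cancel_left])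
  -- `v` commutes with its displacement
  have hvw : w * v = v * w := by
    have hσv : a * v * a = v * w := by rw [hw', mul_inv_cancel_left]
    have h1 : (v * w) * (v * w) = v * v := by
      rw [← hσv, ← hsig]
      rcases hB.sq v hv with e | e <;> rw [e]
      · rw [mul_one, hA.zz]
      · exact hsigb
    have h2 : w * v * w = v := by
      rw [mul_assoc v, mul_right_inj] at h1
      rwa [mul_assoc]
    calc w * v = w * v * w * w := by rw [mul_assoc (w * v), hww, mul_one]
      _ = v * w := by rw [h2]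
  obtain ⟨K, hK⟩ : ∃ K, K = B ⊓ Subgroup.centralizer ({w} : Set G) := ⟨_, rfl⟩
  have hKw : ∀ k, k ∈ K ↔ k ∈ B ∧ k * w = w * k := fun k => by
    rw [hK, Subgroup.mem_inf, Subgroup.mem_centralizer_singleton_iff]
  have hKne : K ≠ B := by
    intro e
    rcases hB.cenInv w hwB (fun c hc => (((hKw c).1 (e.symm ▸ hc)).2).symm) hww with h | h
    · exact hw1 h
    · exact hwb h
  have hbw : b ≠ b * w := fun e => hw1 (mul_left_cancel (e.symm.trans (mul_one b).symm))
  have hsubK : (({1, b, w, b * w} : Finset G) : Set G) ⊆ K := by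
    intro k hk
    simp only [Finset.coe_insert, Finset.coe_singleton, Set.mem_insert_iff, Set.mem_singleton_iff] at hk
    rcases hk with h | h | h | h <;> rw [h]
    · exact one_mem _
    · exact (hKw _).2 ⟨hB.zQ, hbc w hwB⟩
    · exact (hKw _).2 ⟨hwB, rfl⟩
    · exact mul_mem ((hKw _).2 ⟨hB.zQ, hbc w hwB⟩) ((hKw _).2 ⟨hwB, rfl⟩)
  have hc4 : ({1, b, w, b * w} : Finset G).card = 4 := by
    have h14 : (1 : G) ≠ b * w := fun e => hwb (by
      rw [← hbi]; exact eq_inv_of_mul_eq_one_right e.symm)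
    have h34 : w ≠ b * w := fun e => hB.z1 (mul_right_cancel (e.symm.trans (one_mul w).symm))
    simp [hB.z1.symm, hw1.symm, h14, hwb.symm, hbw, h34]
  have hKcard : Nat.card K ≤ 4 := by
    have hKB : K ≤ B := hK ▸ inf_le_left
    have h1 := Subgroup.card_dvd_of_le hKB
    have h2 : Nat.card K < Nat.card B := lt_of_le_of_ne (Subgroup.card_le_of_le hKB) fun e =>
      hKne (Subgroup.eq_of_le_of_card_ge hKB e.ge)
    obtain ⟨c, hc⟩ := h1
    rcases c with _ | _ | c
    · omega
    · omega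
    · nlinarith
  have hvK : v ∈ (({1, b, w, b * w} : Finset G) : Set G) := by
    have := Set.eq_of_subset_of_ncard_le hsubK (by
      rw [Set.ncard_coe_finset, hc4]; exact le_trans (le_of_eq (Nat.card_coe_set_eq (K : Set G)).symm) hKcard)
      (Set.toFinite _)
    rw [this]
    exact (hKw v).2 ⟨hv, hvw.symm⟩
  simp only [Finset.coe_insert, Finset.coe_singleton, Set.mem_insert_iff, Set.mem_singleton_iff] at hvK
  have hvfix : a * v * a = v := by
    rcases hvK with h | h | h | h <;> rw [h]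
    · rw [mul_one, hA.zz]
    · exact hsigb
    · exact hwa
    · rw [hsig, hsigb, hwa]
  exact hw1 (by rw [hw', hvfix, inv_mul_cancel])

/-- The main statement. -/
theorem pair [Finite G] {z : G} {Q : Subgroup G} (hA : Core z Q) (g : G) (hne : g * z * g⁻¹ ≠ z)
    (hin : g * z * g⁻¹ ∈ Q) :
    z ∈ Q.map (MulAut.conj g).toMonoidHom ∧
      ∀ u ∈ Subgroup.closure ({z, g * z * g⁻¹} : Set G),
        ∀ v ∈ Subgroup.closure ({z, g * z * g⁻¹} : Set G), u ≠ 1 → v ≠ 1 → u ≠ v →
          ∃ x ∈ Q ⊔ Q.map (MulAut.conj g).toMonoidHom, x * z * x⁻¹ = u ∧ x * (g * z * g⁻¹) * x⁻¹ = v := by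
  have hB := hA.map g
  obtain ⟨b, hb⟩ : ∃ b, b = g * z * g⁻¹ := ⟨_, rfl⟩
  obtain ⟨B, hBdef⟩ : ∃ B, B = Q.map (MulAut.conj g).toMonoidHom := ⟨_, rfl⟩
  rw [← hb] at hne hin ⊢
  rw [← hb, ← hBdef] at hB
  rw [← hBdef]
  obtain ⟨y, hy, hyb⟩ := exists_flip hA hin hne hB.z1 hB.zz
  have hzb : b * z = z * b := hA.cent b hin
  have hzB : z ∈ B := by
    by_cases hq : ∃ q ∈ B, q * z * q⁻¹ = z * b
    · obtain ⟨q, hq, hqz⟩ := hq
      have hbq : b * q = q * b := (hB.cent q hq).symm
      -- the element `q⁻¹ * y * g` centralises `z`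
      have hk : (q⁻¹ * y * g) * z = z * (q⁻¹ * y * g) := by
        calc (q⁻¹ * y * g) * z = q⁻¹ * (y * (g * z * g⁻¹) * y⁻¹) * (y * g) := by group
          _ = q⁻¹ * (q * z * q⁻¹) * (y * g) := by rw [← hb, hyb, hqz]
          _ = _ := by group
      have hbA : b ∈ Q := hin
      have h1 : q⁻¹ * b * q ∈ Q := by rw [mul_assoc, hbq, inv_mul_cancel_left]; exact hbA
      have h2 := hA.norm _ (show (q⁻¹ * y * g)⁻¹ * z = z * (q⁻¹ * y * g)⁻¹ from
        (Commute.inv_left (hk : Commute _ _)).eq) _ h1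
      have h3 : y⁻¹ * b * y ∈ B := by
        rw [hBdef]
        refine ⟨_, h2, ?_⟩
        simp [mul_assoc]
      have h4 : y⁻¹ * b * y = z * b := by
        have e1 : y * (z * b) = b * y := by
          calc y * (z * b) = (y * z) * b := by group
            _ = z * (y * b * y⁻¹) * y := by rw [hA.cent y hy]; group
            _ = (z * z) * b * y := by rw [hyb]; group
            _ = b * y := by rw [hA.zz, one_mul]
        rw [mul_assoc, ← e1, inv_mul_cancel_left]
      have := mul_mem (h4 ▸ h3) hB.zQ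
      rwa [mul_assoc, hB.zz, mul_one] at this
    · push Not at hq
      exact commute_of_no_flip hA hB hin hne g hBdef hq
  refine ⟨hzB, ?_⟩
  obtain ⟨q, hq, hqz⟩ := exists_flip hB hzB (fun e => hne e.symm) hA.z1 hA.zz
  rw [hzb] at hqz
  have hqb : q * b * q⁻¹ = b := by rw [hB.cent q hq, mul_inv_cancel_right]
  have hyz : y * z * y⁻¹ = z := by rw [hA.cent y hy, mul_inv_cancel_right]
  have hyzb : y * (z * b) * y⁻¹ = b := by
    calc y * (z * b) * y⁻¹ = (y * z * y⁻¹) * (y * b * y⁻¹) := by group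
      _ = b := by rw [hyz, hyb, ← mul_assoc, hA.zz, one_mul]
  have hqzb : q * (z * b) * q⁻¹ = z := by
    calc q * (z * b) * q⁻¹ = (q * z * q⁻¹) * (q * b * q⁻¹) := by group
      _ = z := by rw [hqz, hqb, mul_assoc, hB.zz, mul_one]
  have hyQ : y ∈ Q ⊔ B := Subgroup.mem_sup_left hy
  have hqQ : q ∈ Q ⊔ B := Subgroup.mem_sup_right hq
  let K : Subgroup G :=
    { carrier := {x | x = 1 ∨ x = z ∨ x = b ∨ x = z * b}
      one_mem' := Or.inl rfl
      mul_mem' := by
        intro x x' hx hx'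
        have e1 : z * (z * b) = b := by rw [← mul_assoc, hA.zz, one_mul]
        have e2 : z * b * z = b := by rw [mul_assoc, hzb, e1]
        have e3 : b * (z * b) = z := by rw [← mul_assoc, hzb, mul_assoc, hB.zz, mul_one]
        have e4 : z * b * b = z := by rw [mul_assoc, hB.zz, mul_one]
        have e5 : z * b * (z * b) = 1 := by rw [← mul_assoc, e2, hB.zz]
        rcases hx with rfl | rfl | rfl | rfl <;> rcases hx' with rfl | rfl | rfl | rfl <;>
          simp [hA.zz, hB.zz, hzb, e1, e2, e3, e4, e5]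
      inv_mem' := by
        intro x hx
        have e5 : (z * b)⁻¹ = z * b := by
          refine inv_eq_of_mul_eq_one_right ?_
          rw [mul_assoc, ← mul_assoc b, hzb, mul_assoc z b b, hB.zz, mul_one, hA.zz]
        rcases hx with rfl | rfl | rfl | rfl <;>
          simp [inv_eq_of_mul_eq_one_right hA.zz, inv_eq_of_mul_eq_one_right hB.zz, e5] }
  have hle : Subgroup.closure ({z, b} : Set G) ≤ K := (Subgroup.closure_le K).2 (by
    rintro x (rfl | rfl)
    · exact Or.inr (Or.inl rfl)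
    · exact Or.inr (Or.inr (Or.inl rfl)))
  intro u hu v hv hu1 hv1 huv
  have hu' : u = z ∨ u = b ∨ u = z * b := (hle hu : u = 1 ∨ _).resolve_left hu1
  have hv' : v = z ∨ v = b ∨ v = z * b := (hle hv : v = 1 ∨ _).resolve_left hv1
  have cc : ∀ x x' t : G, x * x' * t * (x * x')⁻¹ = x * (x' * t * x'⁻¹) * x⁻¹ := fun x x' t => by group
  rcases hu' with rfl | rfl | rfl <;> rcases hv' with rfl | rfl | rfl
  · exact absurd rfl huv
  · exact ⟨1, one_mem _, by simp, by simp⟩
  · exact ⟨y, hyQ, hyz, hyb⟩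
  · exact ⟨q * (y * q), mul_mem hqQ (mul_mem hyQ hqQ), by rw [cc, cc, hqz, hyzb, hqb],
      by rw [cc, cc, hqb, hyb, hqzb]⟩
  · exact absurd rfl huv
  · exact ⟨y * q, mul_mem hyQ hqQ, by rw [cc, hqz, hyzb], by rw [cc, hqb, hyb]⟩
  · exact ⟨q * y, mul_mem hqQ hyQ, by rw [cc, hyz, hqz], by rw [cc, hyb, hqzb]⟩
  · exact ⟨q, hqQ, hqz, hqb⟩
  · exact absurd rfl huv

end Cfsg.Agent.Fus.SympPair
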