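import Cfsg.Agent.Lib.Classical.SympGen
import Cfsg.Agent.Lib.Classical.Witt
import Cfsg.Agent.Lib.Fus.FrameCount

/-!
Orders of the stabilisers of totally isotropic subspaces and of the Borel subgroup of `Sp_2m(q)`.
-/

set_option autoImplicit false

namespace Cfsg.Agent.Fus.SympStab

open Matrix Module Cfsg.Agent.Classical FrameCount

variable {F : Type*} [Field F] [Fintype F] {m : ℕ}

local notation "V" => (Fin m ⊕ Fin m → F)

omit [Fintype F] in
theorem finrank_V : finrank F V = 2 * m := by
  rw [finrank_fintype_fun_eq_card, Fintype.card_sum, Fintype.card_fin, two_mul]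

omit [Fintype F] in
theorem sympForm_refl (x y : V) (h : sympForm m F x y = 0) : sympForm m F y x = 0 := by
  rw [sympForm_swap, h, neg_zero]

omit [Fintype F] in
theorem exists_sp_map {k : ℕ} (e f : Frame F (sympForm m F) k) :
    ∃ g : Matrix.symplecticGroup (Fin m) F, ∀ i, spToMat m F g *ᵥ e.1 i = f.1 i := by
  have hA : (sympB m F).IsAlt := fun x => by rw [sympB_apply, sympForm_self]
  let X := Submodule.span F (Set.range e.1)
  let B := Basis.span e.2.1
  let ψ : X →ₗ[F] V := B.constr F f.1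
  have hψ : ∀ i, ψ (B i) = f.1 i := fun i => B.constr_basis F f.1 i
  have hinj : Function.Injective ψ := by
    refine LinearMap.ker_eq_bot.1 (LinearMap.ker_eq_bot_of_injective ?_)
    intro x y h
    have hcomp : ψ = (Finsupp.linearCombination F f.1).comp B.repr.toLinearMap :=
      B.ext fun i => by simp [hψ]
    rw [hcomp] at h
    exact B.repr.injective (f.2.1 h)
  have hBi : ∀ i, (B i : V) = e.1 i := fun i => Basis.coe_span_apply e.2.1 i
  have hlin : ((sympB m F).compl₁₂ ψ ψ) = ((sympB m F).compl₁₂ X.subtype X.subtype) := by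
    refine B.ext fun i => B.ext fun j => ?_
    simp only [LinearMap.compl₁₂_apply, hψ, Submodule.subtype_apply, hBi, sympB_apply, f.2.2, e.2.2]
  obtain ⟨g, hg, hgX⟩ := witt_alternating (sympB m F) sympB_nondegenerate hA X ψ hinj fun x x' =>
    LinearMap.congr_fun (LinearMap.congr_fun hlin x) x'
  have hMv : ∀ v, LinearMap.toMatrix' g.toLinearMap *ᵥ v = g v := fun v => by
    rw [← Matrix.toLin'_apply, Matrix.toLin'_toMatrix']; rfl
  refine ⟨⟨LinearMap.toMatrix' g.toLinearMap, mem_symplecticGroup_iff_form.2 fun u v => ?_⟩, fun i => ?_⟩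
  · rw [hMv, hMv, ← sympB_apply, ← sympB_apply, hg]
  · show LinearMap.toMatrix' g.toLinearMap *ᵥ e.1 i = f.1 i
    rw [hMv, ← hBi, hgX, hψ]

theorem card_ext {k : ℕ} (f : Frame F (sympForm m F) k) :
    Nat.card (Ext F (sympForm m F) f.1) =
      Fintype.card F ^ (2 * m - k) - Fintype.card F ^ k := by
  classical
  set W := Submodule.span F (Set.range f.1) with hW
  have hA : (sympB m F).IsAlt := fun x => by rw [sympB_apply, sympForm_self]
  let O := (sympB m F).orthogonal W
  have hO : ∀ x, x ∈ O ↔ ∀ i, sympForm m F x (f.1 i) = 0 := by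
    intro x
    constructor
    · intro h i
      exact sympForm_refl _ _ (by rw [← sympB_apply]; exact h _ (Submodule.subset_span ⟨i, rfl⟩))
    · intro h w hw
      show sympB m F w x = 0
      have : W ≤ LinearMap.ker ((sympB m F).flip x) := Submodule.span_le.2 (by
        rintro _ ⟨i, rfl⟩
        exact LinearMap.mem_ker.2 (by
          show sympB m F (f.1 i) x = 0; rw [sympB_apply]; exact sympForm_refl _ _ (h i)))
      exact LinearMap.mem_ker.1 (this hw)
  have hWO : W ≤ O := Submodule.span_le.2 (by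
    rintro _ ⟨i, rfl⟩
    exact (hO _).2 fun j => f.2.2 i j)
  have hWd : finrank F W = k := by rw [hW, finrank_span_eq_card f.2.1, Fintype.card_fin]
  have hOd : finrank F O = 2 * m - k := by
    rw [LinearMap.BilinForm.finrank_orthogonal sympB_nondegenerate, finrank_V, hWd]
  have hcard : ∀ U : Submodule F V, Nat.card U = Fintype.card F ^ finrank F U := fun U => by
    rw [Module.natCard_eq_pow_finrank (K := F), Nat.card_eq_fintype_card]
  have e : Ext F (sympForm m F) f.1 ≃ ((O : Set V) \ (W : Set V) : Set V) :=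
    Equiv.subtypeEquivRight fun x => by
      simp only [Set.mem_sdiff, SetLike.mem_coe, hO, sympForm_self, and_true]
      exact And.comm
  rw [Nat.card_congr e, Nat.card_coe_set_eq, Set.ncard_sdiff hWO (Set.toFinite _),
    ← Nat.card_coe_set_eq, ← Nat.card_coe_set_eq, show Nat.card ((O : Set V) : Type _) = _ from hcard O,
    show Nat.card ((W : Set V) : Type _) = _ from hcard W, hWd, hOd]

theorem card_frame (m k : ℕ) :
    Nat.card (Frame F (sympForm m F) k) =
      ∏ i ∈ Finset.range k, (Fintype.card F ^ (2 * m - i) - Fintype.card F ^ i) := by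
  induction k with
  | zero => rw [card_frame_zero, Finset.prod_range_zero]
  | succ k ih => rw [card_frame_succ _ sympForm_refl k _ card_ext, ih, Finset.prod_range_succ]

theorem arith (q : ℕ) {m k : ℕ} (hk : k ≤ m) :
    q ^ (m ^ 2) * ∏ i ∈ Finset.range m, (q ^ (2 * (i + 1)) - 1) =
      q ^ (k * (k + 1) / 2 + 2 * k * (m - k)) *
        (q ^ ((m - k) ^ 2) * ∏ i ∈ Finset.range (m - k), (q ^ (2 * (i + 1)) - 1)) *
        ∏ i ∈ Finset.range k, (q ^ (2 * m - i) - q ^ i) := by
  induction k with
  | zero => simp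
  | succ k ih =>
    rw [ih (by omega), Finset.prod_range_succ _ k]
    obtain ⟨j, hj⟩ : ∃ j, m - k = j + 1 := ⟨m - k - 1, by omega⟩
    rw [hj, show m - (k + 1) = j by omega, Finset.prod_range_succ,
      show 2 * m - k = k + 2 * (j + 1) by omega,
      show q ^ (k + 2 * (j + 1)) - q ^ k = q ^ k * (q ^ (2 * (j + 1)) - 1) by
        rw [Nat.mul_sub, mul_one, ← pow_add]]
    have hdiv : (k + 1) * (k + 1 + 1) / 2 = k * (k + 1) / 2 + (k + 1) := by
      rw [show (k + 1) * (k + 1 + 1) = k * (k + 1) + (k + 1) * 2 by ring,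
        Nat.add_mul_div_right _ _ two_pos]
    have he : k * (k + 1) / 2 + 2 * k * (j + 1) + (j + 1) ^ 2 =
        ((k + 1) * (k + 1 + 1) / 2 + 2 * (k + 1) * j) + j ^ 2 + k := by rw [hdiv]; ring
    have hp := congrArg (q ^ ·) he
    simp only [pow_add] at hp ⊢
    linear_combination ((∏ i ∈ Finset.range j, (q ^ (2 * (i + 1)) - 1)) *
      (q ^ (2 * (j + 1)) - 1) * ∏ i ∈ Finset.range k, (q ^ (2 * m - i) - q ^ i)) * hp

theorem one_lt_q : 1 < Fintype.card F := Fintype.one_lt_card

theorem card_frame_pos (m k : ℕ) (hk : k ≤ m) : 0 < Nat.card (Frame F (sympForm m F) k) := by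
  rw [card_frame]
  refine Finset.prod_pos fun i hi => Nat.sub_pos_of_lt (Nat.pow_lt_pow_right one_lt_q ?_)
  have := Finset.mem_range.1 hi
  omega

/-- The stabiliser of a totally isotropic `k`-subspace. -/
theorem card_parabolic (k : ℕ) (hk : k ≤ m) (W : Submodule F V) (hWk : finrank F W = k)
    (hW : ∀ u ∈ W, ∀ v ∈ W, sympForm m F u v = 0) :
    Nat.card (stabilizing (spToMat m F) (W : Set V)) =
      Fintype.card F ^ (k * (k + 1) / 2 + 2 * k * (m - k)) *
        (Fintype.card F ^ ((m - k) ^ 2) *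
          ∏ i ∈ Finset.range (m - k), (Fintype.card F ^ (2 * (i + 1)) - 1)) *
        ∏ i : Fin k, (Fintype.card F ^ k - Fintype.card F ^ (i : ℕ)) := by
  have h := card_stabilizing_mul (spToMat m F) (sympForm m F)
    (fun g u v => sympForm_map g u v) W hWk hW exists_sp_map
  rw [card_bases W hWk, natCard_symplecticGroup, Nat.card_eq_fintype_card (α := F), arith _ hk,
    ← card_frame (F := F)] at h
  refine Nat.eq_of_mul_eq_mul_right (card_frame_pos m k hk) (h.trans ?_)
  ring

section Borel

/-- The flag spaces. -/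
def flag (m : ℕ) (F : Type*) [Field F] (k : ℕ) : Submodule F (Fin m ⊕ Fin m → F) where
  carrier := {v | (∀ i : Fin m, k < i.val + 1 → v (Sum.inl i) = 0) ∧ ∀ i : Fin m, v (Sum.inr i) = 0}
  add_mem' {a b} ha hb := ⟨fun i hi => by simp [ha.1 i hi, hb.1 i hi], fun i => by simp [ha.2 i, hb.2 i]⟩
  zero_mem' := by simp
  smul_mem' c a ha := ⟨fun i hi => by simp [ha.1 i hi], fun i => by simp [ha.2 i]⟩

omit [Fintype F] in
theorem mem_flag_succ (k : ℕ) (v : V) : v ∈ flag m F (k + 1) ↔
    (∀ i : Fin m, k < i.val → v (Sum.inl i) = 0) ∧ ∀ i : Fin m, v (Sum.inr i) = 0 :=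
  ⟨fun h => ⟨fun i hi => h.1 i (by omega), h.2⟩, fun h => ⟨fun i hi => h.1 i (by omega), h.2⟩⟩

omit [Fintype F] in
theorem flag_mono {k l : ℕ} (h : k ≤ l) : flag m F k ≤ flag m F l :=
  fun v hv => ⟨fun i hi => hv.1 i (by omega), hv.2⟩

omit [Fintype F] in
theorem eq_zero_of_flag_zero {v : V} (hv : v ∈ flag m F 0) : v = 0 :=
  funext fun x => match x with
    | Sum.inl i => hv.1 i (by omega)
    | Sum.inr i => hv.2 i

omit [Fintype F] in
theorem single_mem_flag {i : Fin m} {k : ℕ} (h : i.val < k) :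
    (Pi.single (Sum.inl i) (1 : F) : V) ∈ flag m F k :=
  ⟨fun j hj => Pi.single_eq_of_ne (by intro e; cases e; omega) _,
    fun j => Pi.single_eq_of_ne (by simp) _⟩

omit [Fintype F] in
theorem flag_eq_sum {k : ℕ} {v : V} (hv : v ∈ flag m F k) :
    v = ∑ i : Fin m, v (Sum.inl i) • (Pi.single (Sum.inl i) (1 : F) : V) := by
  funext x
  rw [Finset.sum_apply]
  rcases x with j | j
  · rw [Finset.sum_eq_single j (fun i _ hi => by
      rw [Pi.smul_apply, Pi.single_eq_of_ne (by simp [Ne.symm hi]), smul_zero]) (by simp)]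
    simp
  · rw [hv.2 j]
    simp

omit [Fintype F] in
theorem sympForm_flag {k l : ℕ} {u v : V} (hu : u ∈ flag m F k) (hv : v ∈ flag m F l) :
    sympForm m F u v = 0 := by
  rw [sympForm_eq_sum]
  exact Finset.sum_eq_zero fun i _ => by simp [hu.2 i, hv.2 i]

omit [Fintype F] in
theorem linearIndependent_of_flag (f : Fin m → V)
    (hf : ∀ i, f i ∈ flag m F (i.val + 1) ∧ f i (Sum.inl i) ≠ 0) : LinearIndependent F f := by
  classical
  refine Fintype.linearIndependent_iff.2 fun g hg => ?_
  by_contra h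
  push Not at h
  obtain ⟨i, hi, hmax⟩ := (Finset.univ.filter fun i => g i ≠ 0).exists_max_image id
    ⟨h.choose, by simp [h.choose_spec]⟩
  have hgi : g i ≠ 0 := (Finset.mem_filter.1 hi).2
  have h1 := congrFun hg (Sum.inl i)
  rw [Finset.sum_apply, Finset.sum_eq_single i (fun j _ hji => by
    rw [Pi.smul_apply]
    by_cases hgj : g j = 0
    · rw [hgj, zero_smul]
    · have hle : j ≤ i := hmax j (by simp [hgj])
      have : j.val < i.val := lt_of_le_of_ne hle fun e => hji (Fin.ext e)
      rw [((mem_flag_succ j.val (f j)).1 (hf j).1).1 i this, smul_zero]) (by simp)] at h1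
  exact mul_ne_zero hgi (hf i).2 h1

theorem card_flag_frames :
    Nat.card {f : Fin m → V // ∀ i, f i ∈ flag m F (i.val + 1) ∧ f i (Sum.inl i) ≠ 0} =
      ∏ i ∈ Finset.range m, (Fintype.card F ^ i * (Fintype.card F - 1)) := by
  classical
  rw [Nat.card_congr (Equiv.subtypePiEquivPi (p := fun i v =>
    v ∈ flag m F ((i : Fin m).val + 1) ∧ v (Sum.inl i) ≠ 0)), Nat.card_pi,
    ← Fin.prod_univ_eq_prod_range]
  refine Finset.prod_congr rfl fun i _ => ?_
  let e : {v : V // v ∈ flag m F (i.val + 1) ∧ v (Sum.inl i) ≠ 0} ≃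
      ({j : Fin m // j.val < i.val} → F) × {a : F // a ≠ 0} :=
    { toFun := fun v => (fun j => v.1 (Sum.inl j.1), ⟨v.1 (Sum.inl i), v.2.2⟩)
      invFun := fun p => ⟨Sum.elim (fun j => if h : j.val < i.val then p.1 ⟨j, h⟩ else
          if j = i then p.2.1 else 0) fun _ => 0, by
        refine ⟨(mem_flag_succ _ _).2 ⟨fun j hj => ?_, fun j => rfl⟩, ?_⟩
        · rw [Sum.elim_inl, dif_neg (by omega), if_neg (by intro e; subst e; omega)]
        · simpa using p.2.2⟩
      left_inv := fun v => Subtype.ext (funext fun x => by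
        rcases x with j | j
        · simp only [Sum.elim_inl]
          split_ifs with h1 h2
          · rfl
          · rw [h2]
          · have : j.val ≠ i.val := fun e => h2 (Fin.ext e)
            exact (((mem_flag_succ _ _).1 v.2.1).1 j (by omega)).symm
        · exact (((mem_flag_succ _ _).1 v.2.1).2 j).symm)
      right_inv := fun p => Prod.ext (funext fun j => by simp only [Sum.elim_inl]; rw [dif_pos j.2]) (Subtype.ext (by simp)) }
  have hc : Nat.card {j : Fin m // j.val < i.val} = i.val := by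
    exact (Nat.card_congr
      { toFun := fun j => (⟨j.1.val, j.2⟩ : Fin i.val)
        invFun := fun j => ⟨⟨j.val, j.2.trans i.2⟩, j.2⟩
        left_inv := fun j => rfl
        right_inv := fun j => rfl }).trans (Nat.card_fin _)
  rw [Nat.card_congr e, Nat.card_prod, Nat.card_fun, hc, Nat.card_eq_fintype_card,
    Nat.card_eq_fintype_card, Fintype.card_subtype_compl, Fintype.card_subtype_eq]

theorem arith_borel (q : ℕ) (m : ℕ) :
    (∏ i ∈ Finset.range m, (q ^ i * (q - 1))) *
      (q ^ (m ^ 2) * ∏ i ∈ Finset.range m, (q ^ (2 * (i + 1)) - 1)) =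
    q ^ (m ^ 2) * (q - 1) ^ m * ∏ i ∈ Finset.range m, (q ^ (2 * m - i) - q ^ i) := by
  have h : ∀ i ∈ Finset.range m, q ^ (2 * m - i) - q ^ i = q ^ i * (q ^ (2 * (m - i)) - 1) :=
    fun i hi => by
      rw [Nat.mul_sub, mul_one, ← pow_add]
      congr 2
      have := Finset.mem_range.1 hi
      omega
  rw [Finset.prod_congr rfl h, Finset.prod_mul_distrib, Finset.prod_mul_distrib, Finset.prod_const,
    Finset.card_range, ← Finset.prod_range_reflect (fun i => q ^ (2 * (i + 1)) - 1) m,
    Finset.prod_congr rfl (fun i hi => by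
      rw [show m - 1 - i + 1 = m - i by have := Finset.mem_range.1 hi; omega] :
      ∀ i ∈ Finset.range m, q ^ (2 * (m - 1 - i + 1)) - 1 = q ^ (2 * (m - i)) - 1)]
  ring

/-- The order of the Borel subgroup. -/
theorem card_borel :
    Nat.card ↥(⨅ k : Fin m, stabilizing (spToMat m F) {v : V |
      (∀ i : Fin m, (k : ℕ) < (i : ℕ) → v (Sum.inl i) = 0) ∧ ∀ i : Fin m, v (Sum.inr i) = 0}) =
    Fintype.card F ^ (m ^ 2) * (Fintype.card F - 1) ^ m := by
  classical
  set S := ⨅ k : Fin m, stabilizing (spToMat m F) {v : V |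
      (∀ i : Fin m, (k : ℕ) < (i : ℕ) → v (Sum.inl i) = 0) ∧ ∀ i : Fin m, v (Sum.inr i) = 0} with hS
  let e : Fin m → V := fun i => Pi.single (Sum.inl i) 1
  have hset : ∀ (k : Fin m) (v : V), v ∈ {v : V | (∀ i : Fin m, (k : ℕ) < (i : ℕ) → v (Sum.inl i) = 0)
      ∧ ∀ i : Fin m, v (Sum.inr i) = 0} ↔ v ∈ flag m F (k.val + 1) :=
    fun k v => (mem_flag_succ k.val v).symm
  have memS : ∀ g, g ∈ S ↔
      ∀ (k : Fin m) (v : V), v ∈ flag m F (k.val + 1) ↔ spToMat m F g *ᵥ v ∈ flag m F (k.val + 1) := by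
    intro g
    rw [hS, Subgroup.mem_iInf]
    exact forall_congr' fun k => forall_congr' fun v => iff_congr (hset k v) (hset k _)
  have hle : ∀ g, (∀ i : Fin m, spToMat m F g *ᵥ e i ∈ flag m F (i.val + 1)) → g ∈ S := by
    intro g hg
    rw [memS]
    intro k v
    have h1 : flag m F (k.val + 1) ≤ (flag m F (k.val + 1)).comap (spToMat m F g).mulVecLin := by
      intro w hw
      rw [Submodule.mem_comap, flag_eq_sum hw, map_sum]
      refine Submodule.sum_mem _ fun i _ => ?_
      rw [map_smul]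
      by_cases hi : k.val < i.val
      · rw [((mem_flag_succ _ _).1 hw).1 i hi, zero_smul]; exact zero_mem _
      · exact Submodule.smul_mem _ _ (flag_mono (by omega) (hg i))
    refine ⟨fun hv => h1 hv, fun hv => ?_⟩
    have hbij : Function.Bijective ((spToMat m F g).mulVecLin.restrict h1) :=
      Finite.injective_iff_bijective.1 fun x y h =>
        Subtype.ext (injective_mulVec (spToMat m F) g (congrArg Subtype.val h))
    obtain ⟨u, hu⟩ := hbij.2 ⟨_, hv⟩
    exact injective_mulVec (spToMat m F) g (congrArg Subtype.val hu) ▸ u.2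
  have heF : ∀ i, e i ∈ flag m F (i.val + 1) ∧ e i (Sum.inl i) ≠ 0 :=
    fun i => ⟨single_mem_flag (Nat.lt_succ_self _), by simp [e]⟩
  have hfr : ∀ f : Fin m → V, (∀ i, f i ∈ flag m F (i.val + 1) ∧ f i (Sum.inl i) ≠ 0) →
      LinearIndependent F f ∧ ∀ i j, sympForm m F (f i) (f j) = 0 :=
    fun f hf => ⟨linearIndependent_of_flag f hf, fun i j => sympForm_flag (hf i).1 (hf j).1⟩
  have h1 := card_eq_orbit (spToMat m F) e S (fun g hg => hle g fun i => (hg i).symm ▸ (heF i).1)
    (fun f => ∀ i, f i ∈ flag m F (i.val + 1) ∧ f i (Sum.inl i) ≠ 0) fun f => by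
      constructor
      · intro hf
        obtain ⟨g, hg⟩ := exists_sp_map ⟨e, hfr e heF⟩ ⟨f, hfr f hf⟩
        exact ⟨g, hle g fun i => (hg i).symm ▸ (hf i).1, funext hg⟩
      · rintro ⟨g, hg, rfl⟩ i
        refine ⟨((memS g).1 hg i _).1 (heF i).1, fun h0 => ?_⟩
        -- otherwise the image lies one step lower
        have hm : spToMat m F g *ᵥ e i ∈ flag m F i.val := by
          have := ((memS g).1 hg i _).1 (heF i).1
          refine ⟨fun j hj => ?_, this.2⟩
          by_cases hji : j = i
          · rw [hji]; exact h0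
          · have : j.val ≠ i.val := fun e => hji (Fin.ext e)
            exact ((mem_flag_succ _ _).1 ‹_ ∈ flag m F (i.val + 1)›).1 j (by omega)
        rcases Nat.eq_zero_or_pos i.val with hi | hi
        · rw [hi] at hm
          have := injective_mulVec (spToMat m F) g ((eq_zero_of_flag_zero hm).trans
            (Matrix.mulVec_zero _).symm)
          exact (heF i).2 (by rw [this]; rfl)
        · have hk := ((memS g).1 hg ⟨i.val - 1, by omega⟩ (e i)).2 (by
            simpa [Nat.sub_add_cancel hi] using hm)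
          exact (heF i).2 (((mem_flag_succ _ _).1 hk).1 i (by simp only []; omega))
  have h2 := card_eq_orbit (spToMat m F) e (⊤ : Subgroup _) le_top
    (fun f => LinearIndependent F f ∧ ∀ i j, sympForm m F (f i) (f j) = 0) fun f => by
      constructor
      · intro hf
        obtain ⟨g, hg⟩ := exists_sp_map ⟨e, hfr e heF⟩ ⟨f, hf⟩
        exact ⟨g, Subgroup.mem_top g, funext hg⟩
      · rintro ⟨g, -, rfl⟩
        exact ⟨linearIndependent_image _ g (hfr e heF).1,
          fun i j => (sympForm_map g _ _).trans ((hfr e heF).2 i j)⟩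
  rw [Subgroup.card_top, natCard_symplecticGroup, Nat.card_eq_fintype_card (α := F)] at h2
  have h3 := card_frame (F := F) m m
  rw [Frame] at h3
  rw [h3] at h2
  have ha := arith_borel (Fintype.card F) m
  rw [h2] at ha
  rw [h1, card_flag_frames]
  have hpos : 0 < ∏ i ∈ Finset.range m, (Fintype.card F ^ (2 * m - i) - Fintype.card F ^ i) := by
    rw [← card_frame]
    exact card_frame_pos m m le_rfl
  refine Nat.eq_of_mul_eq_mul_right hpos (Eq.trans ?_ ha)
  ring

end Borel

end Cfsg.Agent.Fus.SympStab
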