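import Cfsg.Agent.Lib.Classical.Symp
import Cfsg.Agent.Lib.Fus.FrameCount

/-!
The normaliser of the diagonal torus of `Sp_2m(q)`, `q ≥ 4`.
-/

set_option autoImplicit false

namespace Cfsg.Agent.Fus.SympTorus

open Matrix Cfsg.Agent.Classical

variable {F : Type*} [Field F] {m : ℕ}

local notation "ι" => (Fin m ⊕ Fin m)
local notation "Sp" => Matrix.symplecticGroup (Fin m) F
local notation "M" => spToMat m F

/-- The unit vectors. -/
abbrev e (x : ι) : ι → F := Pi.single x 1

/-- The diagonal torus. -/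
def torus (m : ℕ) (F : Type*) [Field F] : Subgroup (Matrix.symplecticGroup (Fin m) F) :=
  ⨅ i : Fin m ⊕ Fin m, stabilizing (spToMat m F)
    ((Submodule.span F {(Pi.single i (1 : F) : Fin m ⊕ Fin m → F)} :
      Submodule F (Fin m ⊕ Fin m → F)) : Set (Fin m ⊕ Fin m → F))

theorem w_swap (x : ι) : sympForm m F (e x) (e x.swap) ≠ 0 := by
  rcases x with i | i
  · rw [Sum.swap_inl, sympForm_single_inr]; simp
  · rw [Sum.swap_inr, sympForm_single_inl]; simp

theorem w_eq_zero {x y : ι} (h : y ≠ x.swap) : sympForm m F (e x) (e y) = 0 := by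
  have hne : ∀ z, z = y.swap → x ≠ z := fun z hz e => h (by rw [e, hz, Sum.swap_swap])
  rcases y with j | j
  · rw [sympForm_single_inl, show e (F := F) x (Sum.inr j) = 0 from Pi.single_eq_of_ne (Ne.symm (hne _ rfl)) _, zero_mul]
  · rw [sympForm_single_inr, show e (F := F) x (Sum.inl j) = 0 from Pi.single_eq_of_ne (Ne.symm (hne _ rfl)) _, zero_mul, neg_zero]

theorem vec_eq (v : ι → F) (x : ι) (h : ∀ z, z ≠ x → v z = 0) : v = v x • e x := by
  funext z
  by_cases hz : z = x
  · subst hz; simp
  · rw [Pi.smul_apply, show e (F := F) x z = 0 from Pi.single_eq_of_ne hz _, smul_zero, h z hz]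

/-- Symplectic monomial matrices. -/
theorem mono_mem (σ : ι → ι) (s : ι → F)
    (h : ∀ x y, s x * s y * sympForm m F (e (σ x)) (e (σ y)) = sympForm m F (e x) (e y)) :
    (Matrix.of fun z x => s x * e (F := F) (σ x) z) ∈ Matrix.symplecticGroup (Fin m) F := by
  rw [mem_symplecticGroup_iff_form]
  set A : Matrix ι ι F := Matrix.of fun z x => s x * e (F := F) (σ x) z with hA
  have hcol : ∀ x, A *ᵥ e x = s x • e (F := F) (σ x) := fun x => by
    funext z
    rw [hA, Matrix.mulVec_single_one]
    rfl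
  have : (sympB m F).compl₁₂ A.mulVecLin A.mulVecLin = sympB m F := by
    refine (Pi.basisFun F ι).ext fun x => (Pi.basisFun F ι).ext fun y => ?_
    simp only [LinearMap.compl₁₂_apply, Pi.basisFun_apply, Matrix.mulVecLin_apply, hcol, sympB_apply,
      sympForm_smul_left, sympForm_smul_right]
    rw [← h x y]
    ring
  intro u v
  have := LinearMap.congr_fun (LinearMap.congr_fun this u) v
  simpa [sympB_apply] using this

theorem exists_mono (σ : ι → ι) (s : ι → F)
    (h : ∀ x y, s x * s y * sympForm m F (e (σ x)) (e (σ y)) = sympForm m F (e x) (e y)) :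
    ∃ g : Sp, ∀ x, M g *ᵥ e x = s x • e (σ x) :=
  ⟨⟨_, mono_mem σ s h⟩, fun x => by
    funext z
    show ((Matrix.of fun z x => s x * e (F := F) (σ x) z) *ᵥ e x) z = _
    rw [Matrix.mulVec_single_one]
    rfl⟩

theorem mem_torus_iff (g : Sp) : g ∈ torus m F ↔ ∀ x, ∃ c : F, M g *ᵥ e x = c • e x := by
  rw [torus, Subgroup.mem_iInf]
  constructor
  · intro h x
    obtain ⟨c, hc⟩ := Submodule.mem_span_singleton.1 ((h x _).1 (Submodule.mem_span_singleton_self _))
    exact ⟨c, hc.symm⟩
  · intro h x v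
    obtain ⟨c, hc⟩ := h x
    have hc0 : c ≠ 0 := fun h0 => by
      rw [h0, zero_smul] at hc
      have := FrameCount.injective_mulVec M g (hc.trans (Matrix.mulVec_zero _).symm)
      exact one_ne_zero (α := F) (by simpa using congrFun this x)
    simp only [SetLike.mem_coe, Submodule.mem_span_singleton]
    constructor
    · rintro ⟨a, rfl⟩
      exact ⟨a * c, by rw [Matrix.mulVec_smul, hc, smul_smul]⟩
    · rintro ⟨a, ha⟩
      exact ⟨a * c⁻¹, FrameCount.injective_mulVec M g (by
        show M g *ᵥ _ = M g *ᵥ _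
        rw [Matrix.mulVec_smul, hc, smul_smul, mul_assoc, inv_mul_cancel₀ hc0, mul_one, ha])⟩

theorem w_mul (g : Sp) {x y x' y' : ι} {c d : F} (hx : M g *ᵥ e x = c • e x')
    (hy : M g *ᵥ e y = d • e y') : c * d * sympForm m F (e x') (e y') = sympForm m F (e x) (e y) := by
  rw [← sympForm_map g (e x) (e y), show ((g : Matrix ι ι F) *ᵥ e x) = c • e x' from hx,
    show ((g : Matrix ι ι F) *ᵥ e y) = d • e y' from hy, sympForm_smul_left, sympForm_smul_right]
  ring

/-- The scalings. -/
theorem exists_diag (d : Fin m → Fˣ) :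
    ∃ g : Sp, ∀ x, M g *ᵥ e x = (Sum.elim (fun i => (d i : F)) (fun i => ((d i)⁻¹ : Fˣ)) x) • e x := by
  refine exists_mono id _ fun x y => ?_
  by_cases h : y = x.swap
  · subst h
    rcases x with i | i <;> simp
  · rw [id, id, w_eq_zero h]
    simp

theorem natCard_torus : Nat.card (torus m F) = Nat.card Fˣ ^ m := by
  have key : ∀ g ∈ torus m F, ∀ i, (M g *ᵥ e (Sum.inl i)) (Sum.inl i) ≠ 0 ∧
      M g *ᵥ e (Sum.inl i) = (M g *ᵥ e (Sum.inl i)) (Sum.inl i) • e (Sum.inl i) ∧
      M g *ᵥ e (Sum.inr i) = ((M g *ᵥ e (Sum.inl i)) (Sum.inl i))⁻¹ • e (Sum.inr i) := by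
    intro g hg i
    obtain ⟨c, hc⟩ := (mem_torus_iff g).1 hg (Sum.inl i)
    obtain ⟨d, hd⟩ := (mem_torus_iff g).1 hg (Sum.inr i)
    have h := w_mul g hc hd
    have hw : sympForm m F (e (Sum.inl i)) (e (Sum.inr i)) ≠ 0 := by simpa using w_swap (Sum.inl i)
    have hcd : c * d = 1 := mul_right_cancel₀ hw (h.trans (one_mul _).symm)
    have hv : (M g *ᵥ e (Sum.inl i)) (Sum.inl i) = c := by rw [hc]; simp
    rw [hv]
    exact ⟨left_ne_zero_of_mul_eq_one hcd, hc, by rw [hd, eq_inv_of_mul_eq_one_right hcd]⟩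
  let f : torus m F → (Fin m → Fˣ) := fun g i => Units.mk0 _ (key g.1 g.2 i).1
  have hb : Function.Bijective f := by
    constructor
    · intro g g' h
      refine Subtype.ext (Subtype.ext (Matrix.ext fun z x => ?_))
      have hh : ∀ i, (M g.1 *ᵥ e (Sum.inl i)) (Sum.inl i) = (M g'.1 *ᵥ e (Sum.inl i)) (Sum.inl i) :=
        fun i => congrArg Units.val (congrFun h i)
      have hcol : M g.1 *ᵥ e x = M g'.1 *ᵥ e x := by
        rcases x with i | i
        · rw [(key g.1 g.2 i).2.1, (key g'.1 g'.2 i).2.1, hh i]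
        · rw [(key g.1 g.2 i).2.2, (key g'.1 g'.2 i).2.2, hh i]
      have := congrFun hcol z
      rw [Matrix.mulVec_single_one, Matrix.mulVec_single_one] at this
      exact this
    · intro d
      obtain ⟨g, hg⟩ := exists_diag d
      refine ⟨⟨g, (mem_torus_iff g).2 fun x => ⟨_, hg x⟩⟩, funext fun i => Units.ext ?_⟩
      show (M g *ᵥ e (Sum.inl i)) (Sum.inl i) = _
      rw [hg]
      simp
  rw [Nat.card_congr (Equiv.ofBijective f hb), Nat.card_fun, Nat.card_fin]

/-- A torus element separating two given coordinates. -/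
theorem exists_separating {a : Fˣ} (ha : (a : F) * a ≠ 1) {x y : ι} (hxy : x ≠ y) :
    ∃ t ∈ torus m F, ∃ c c' : F, c ≠ c' ∧ M t *ᵥ e x = c • e x ∧ M t *ᵥ e y = c' • e y := by
  have ha1 : (a : F) ≠ 1 := fun h => ha (by rw [h, one_mul])
  have hai : (a : F) ≠ ((a⁻¹ : Fˣ) : F) := fun h => ha (by
    conv_lhs => arg 2; rw [h]
    rw [← Units.val_mul, mul_inv_cancel, Units.val_one])
  have hai1 : ((a⁻¹ : Fˣ) : F) ≠ 1 := fun h => ha1 (by
    rw [Units.val_eq_one, inv_eq_one] at h
    rw [h, Units.val_one])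
  obtain ⟨i, hxi⟩ : ∃ i, x = Sum.inl i ∨ x = Sum.inr i := by
    rcases x with i | i
    exacts [⟨i, Or.inl rfl⟩, ⟨i, Or.inr rfl⟩]
  obtain ⟨t, ht⟩ := exists_diag (F := F) (Function.update (fun _ => 1) i a)
  refine ⟨t, (mem_torus_iff t).2 fun x => ⟨_, ht x⟩, _, _, ?_, ht x, ht y⟩
  rcases hxi with rfl | rfl <;> rcases y with j | j <;>
    simp only [Sum.elim_inl, Sum.elim_inr, Function.update_self]
  all_goals by_cases hj : j = i
  all_goals first
    | (subst hj; first | exact absurd rfl hxy | (rw [Function.update_self]; first | exact hai | exact hai.symm))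
    | (rw [Function.update_of_ne hj]; simp only [inv_one, Units.val_one]; first | exact ha1 | exact hai1)

theorem normalizer_monomial {a : Fˣ} (ha : (a : F) * a ≠ 1) {g : Sp}
    (hg : g ∈ Subgroup.normalizer (torus m F : Set Sp)) (x : ι) :
    ∃ (y : ι) (c : F), c ≠ 0 ∧ M g *ᵥ e x = c • e y := by
  set v := M g *ᵥ e x with hv
  have hv0 : v ≠ 0 := fun h0 => by
    have := FrameCount.injective_mulVec M g (h0.trans (Matrix.mulVec_zero _).symm)
    exact one_ne_zero (α := F) (by simpa using congrFun this x)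
  obtain ⟨y, hy⟩ : ∃ y, v y ≠ 0 := Function.ne_iff.1 hv0
  refine ⟨y, v y, hy, vec_eq v y fun z hz => by_contra fun hvz => ?_⟩
  obtain ⟨t, ht, c, c', hcc, htz, hty⟩ := exists_separating ha hz
  obtain ⟨k, hk⟩ := (mem_torus_iff _).1
    ((Subgroup.mem_normalizer_iff''.1 hg t).1 ht) x
  have hcomm : M t *ᵥ v = k • v := by
    rw [hv, Matrix.mulVec_mulVec, ← map_mul, show t * g = g * (g⁻¹ * t * g) by group, map_mul,
      ← Matrix.mulVec_mulVec, hk, Matrix.mulVec_smul]
  have hcoord : ∀ (z : ι) (c : F), M t *ᵥ e z = c • e z → c * v z = k * v z := fun z c h => by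
    obtain ⟨T, hT⟩ : ∃ T : ι → F, ∀ w, M t *ᵥ e w = T w • e w :=
      ⟨fun w => ((mem_torus_iff t).1 ht w).choose, fun w => ((mem_torus_iff t).1 ht w).choose_spec⟩
    have hTz : T z = c := by
      have := congrFun ((hT z).symm.trans h) z
      simpa using this
    have h1 : (M t *ᵥ v) z = T z * v z := by
      conv_lhs => rw [pi_eq_sum_univ' v, Matrix.mulVec_sum]
      rw [Finset.sum_apply, Finset.sum_eq_single z]
      · rw [Matrix.mulVec_smul, hT z]
        simp [mul_comm]
      · intro w _ hw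
        rw [Matrix.mulVec_smul, hT w]
        simp [Pi.single_eq_of_ne (Ne.symm hw)]
      · simp
    rw [← hTz, ← h1, hcomm, Pi.smul_apply, smul_eq_mul]
  exact hcc ((mul_right_cancel₀ hvz (hcoord z c htz)).trans (mul_right_cancel₀ hy (hcoord y c' hty)).symm)

/-- The permutations of the coordinate lines. -/
def signedPerms (m : ℕ) : Set (Fin m ⊕ Fin m → Fin m ⊕ Fin m) :=
  {σ | Function.Injective σ ∧ ∀ x, σ x.swap = (σ x).swap}

theorem natCard_signedPerms : Nat.card (signedPerms m) = 2 ^ m * Nat.factorial m := by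
  classical
  let f : (Fin m → Bool) × Equiv.Perm (Fin m) → signedPerms m := fun p =>
    ⟨Sum.elim (fun i => if p.1 i then Sum.inr (p.2 i) else Sum.inl (p.2 i))
      (fun i => if p.1 i then Sum.inl (p.2 i) else Sum.inr (p.2 i)), by
      refine ⟨?_, fun x => ?_⟩
      · rintro (i | i) (j | j) h <;> simp only [Sum.elim_inl, Sum.elim_inr] at h <;>
          split_ifs at h <;> simp only [Sum.inl.injEq, Sum.inr.injEq,
            EmbeddingLike.apply_eq_iff_eq] at h
        all_goals first
          | exact congrArg _ h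
          | (subst h; contradiction)
      · rcases x with i | i <;> simp only [Sum.swap_inl, Sum.swap_inr, Sum.elim_inl, Sum.elim_inr] <;>
          split_ifs <;> rfl⟩
  have hb : Function.Bijective f := by
    constructor
    · intro p p' h
      have hh : ∀ i, (if p.1 i then Sum.inr (p.2 i) else Sum.inl (p.2 i) : ι) =
          if p'.1 i then Sum.inr (p'.2 i) else Sum.inl (p'.2 i) :=
        fun i => congrFun (congrArg Subtype.val h) (Sum.inl i)
      refine Prod.ext (funext fun i => ?_) (Equiv.ext fun i => ?_) <;> have := hh i <;>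
        cases hb1 : p.1 i <;> cases hb2 : p'.1 i <;> simp_all
    · rintro ⟨σ, hinj, hsw⟩
      let b : Fin m → Bool := fun i => (σ (Sum.inl i)).isRight
      let π : Fin m → Fin m := fun i => Sum.elim id id (σ (Sum.inl i))
      have hπ : Function.Injective π := fun i j h => by
        rcases hi : σ (Sum.inl i) with a | a <;> rcases hj : σ (Sum.inl j) with c | c <;>
          simp only [π, hi, hj, Sum.elim_inl, Sum.elim_inr, id] at h <;> subst h
        · simpa using hinj (hi.trans hj.symm)
        · have := hsw (Sum.inl j)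
          rw [hj, Sum.swap_inl] at this
          simpa using hinj (this.trans hi.symm)
        · have := hsw (Sum.inl j)
          rw [hj, Sum.swap_inl] at this
          simpa using hinj (this.trans hi.symm)
        · simpa using hinj (hi.trans hj.symm)
      refine ⟨(b, Equiv.ofBijective π (Finite.injective_iff_bijective.1 hπ)), Subtype.ext (funext fun x => ?_)⟩
      rcases x with i | i
      · rcases hi : σ (Sum.inl i) with a | a <;> simp [f, b, π, hi]
      · have := hsw (Sum.inl i)
        rw [Sum.swap_inl] at this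
        rcases hi : σ (Sum.inl i) with a | a <;> simp [f, b, π, hi, this]
  rw [← Nat.card_congr (Equiv.ofBijective f hb), Nat.card_prod, Nat.card_fun, Nat.card_fin,
    Nat.card_perm, Nat.card_fin, Nat.card_eq_fintype_card, Fintype.card_bool]

/-- Every signed permutation occurs. -/
theorem exists_signed (σ : ι → ι) (hσ : σ ∈ signedPerms m) :
    ∃ g : Sp, ∀ x, ∃ c : F, c ≠ 0 ∧ M g *ᵥ e x = c • e (σ x) := by
  classical
  let s : ι → F := Sum.elim (fun i => if (σ (Sum.inl i)).isRight then -1 else 1) (fun _ => 1)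
  obtain ⟨g, hg⟩ := exists_mono σ s fun x y => by
    by_cases h : y = x.swap
    · subst h
      rw [hσ.2 x]
      rcases x with i | i
      · rcases hi : σ (Sum.inl i) with a | a <;>
          simp [s, hi, sympForm_single_inl, sympForm_single_inr]
      · have h2 := hσ.2 (Sum.inl i)
        rw [Sum.swap_inl] at h2
        rcases hi : σ (Sum.inl i) with a | a <;>
          simp [s, hi, h2, sympForm_single_inl, sympForm_single_inr]
    · rw [w_eq_zero h, w_eq_zero, mul_zero]
      rw [← hσ.2 x]
      exact fun h' => h (hσ.1 h')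
  refine ⟨g, fun x => ⟨s x, ?_, hg x⟩⟩
  rcases x with i | i <;> simp [s, ite_eq_iff]

theorem natCard_normalizer [Fintype F] (hq : 4 ≤ Fintype.card F) :
    Nat.card (Subgroup.normalizer (torus m F : Set Sp)) =
      2 ^ m * Nat.factorial m * (Fintype.card F - 1) ^ m := by
  classical
  obtain ⟨a, ha⟩ : ∃ a : Fˣ, (a : F) * a ≠ 1 := by
    by_contra h
    push Not at h
    have h2 : ∀ a : Fˣ, a = 1 ∨ a = -1 := fun a => by
      rcases mul_self_eq_one_iff.1 (h a) with h | h
      · exact Or.inl (Units.ext h)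
      · exact Or.inr (Units.ext h)
    have : Fintype.card Fˣ ≤ ({1, -1} : Finset Fˣ).card :=
      Finset.card_le_card fun a _ => by simpa using h2 a
    have := (Finset.card_insert_le (1 : Fˣ) {-1}).trans (by simp : _ ≤ 2)
    rw [Fintype.card_units] at *
    omega
  set N := Subgroup.normalizer (torus m F : Set Sp) with hN
  have hmono := fun (g : N) => normalizer_monomial ha g.2
  choose σ c hc hσ using hmono
  have huniq : ∀ (g : Sp) (x y y' : ι) (c c' : F), c ≠ 0 → M g *ᵥ e x = c • e y →
      M g *ᵥ e x = c' • e y' → y = y' := fun g x y y' c c' hc0 h h' => by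
    by_contra hne
    have := congrFun (h.symm.trans h') y
    simp [Pi.single_eq_of_ne hne, hc0] at this
  have hsigned : ∀ g, σ g ∈ signedPerms m := fun g => by
    have key : ∀ x y, y = x.swap → σ g y = (σ g x).swap := fun x y h => by
      by_contra hne
      have h1 := w_mul g.1 (hσ g x) (hσ g y)
      rw [w_eq_zero hne, mul_zero, h] at h1
      exact w_swap x h1.symm
    refine ⟨fun x y h => ?_, fun x => key x _ rfl⟩
    by_contra hne
    have h1 := FrameCount.injective_mulVec M g.1 (show M g.1 *ᵥ e x = M g.1 *ᵥ ((c g x / c g y) • e y) by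
      rw [Matrix.mulVec_smul, hσ g x, hσ g y, h, smul_smul, div_mul_cancel₀ _ (hc g y)])
    have := congrFun h1 x
    simp [Pi.single_eq_of_ne hne] at this
  have hTN : torus m F ≤ N := Subgroup.le_normalizer
  have key := FrameCount.natCard_eq_mul (G := N) (fun g => (⟨σ g, hsigned g⟩ : signedPerms m))
    ((torus m F).subgroupOf N) fun g g' => by
      rw [Subgroup.mem_subgroupOf, mem_torus_iff, Subtype.mk_eq_mk]
      constructor
      · intro h x
        refine ⟨c g' x / c g x, FrameCount.injective_mulVec M g.1 ?_⟩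
        show M g.1 *ᵥ _ = M g.1 *ᵥ _
        rw [Matrix.mulVec_mulVec, ← map_mul, Subgroup.coe_mul, Subgroup.coe_inv, mul_inv_cancel_left,
          Matrix.mulVec_smul, hσ g x, hσ g' x, congrFun h x, smul_smul, div_mul_cancel₀ _ (hc g x)]
      · intro h
        funext x
        obtain ⟨k, hk⟩ := h x
        have h' : M g'.1 *ᵥ e x = (k * c g x) • e (σ g x) := by
          rw [show g'.1 = g.1 * ((g⁻¹ * g' : N) : Sp) by simp, map_mul, ← Matrix.mulVec_mulVec, hk,
            Matrix.mulVec_smul, hσ g x, smul_smul]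
        exact (huniq g'.1 x _ _ _ _ (hc g' x) (hσ g' x) h').symm
  have hsurj : Function.Surjective (fun g : N => (⟨σ g, hsigned g⟩ : signedPerms m)) := by
    rintro ⟨τ, hτ⟩
    obtain ⟨g, hg⟩ := exists_signed (F := F) τ hτ
    have hgN : g ∈ N := by
      have hconj : ∀ g : Sp, (∀ x, ∃ c : F, c ≠ 0 ∧ M g *ᵥ e x = c • e (τ x)) →
          ∀ t ∈ torus m F, g⁻¹ * t * g ∈ torus m F := fun g hg t ht => by
        rw [mem_torus_iff]
        intro x
        obtain ⟨d, -, hd⟩ := hg x
        obtain ⟨k, hk⟩ := (mem_torus_iff t).1 ht (τ x)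
        refine ⟨k, FrameCount.injective_mulVec M g ?_⟩
        show M g *ᵥ _ = M g *ᵥ _
        rw [Matrix.mulVec_mulVec, ← map_mul, show g * (g⁻¹ * t * g) = t * g by group, map_mul,
          ← Matrix.mulVec_mulVec, hd, Matrix.mulVec_smul, hk, Matrix.mulVec_smul, hd, smul_comm]
      refine Subgroup.mem_normalizer_iff''.2 fun t => ⟨hconj g hg t, fun ht => ?_⟩
      rw [mem_torus_iff] at ht ⊢
      intro z
      obtain ⟨x, rfl⟩ := (Finite.injective_iff_bijective.1 hτ.1).2 z
      obtain ⟨d, hd0, hd⟩ := hg x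
      obtain ⟨k, hk⟩ := ht x
      refine ⟨k, ?_⟩
      have : M t *ᵥ (d • e (τ x)) = k • (d • e (τ x)) := by
        rw [← hd, Matrix.mulVec_mulVec, ← map_mul, show t * g = g * (g⁻¹ * t * g) by group, map_mul,
          ← Matrix.mulVec_mulVec, hk, Matrix.mulVec_smul]
      rw [Matrix.mulVec_smul, smul_comm k d] at this
      exact smul_right_injective _ hd0 this
    refine ⟨⟨g, hgN⟩, Subtype.ext (funext fun x => ?_)⟩
    obtain ⟨d, hd0, hd⟩ := hg x
    exact (huniq g x _ _ _ _ hd0 hd (hσ ⟨g, hgN⟩ x)).symm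
  rw [key, Set.range_eq_univ.2 hsurj, Nat.card_congr (Equiv.Set.univ _), natCard_signedPerms,
    Nat.card_congr (Subgroup.subgroupOfEquivOfLe hTN).toEquiv, natCard_torus, Nat.card_units,
    Nat.card_eq_fintype_card]

end Cfsg.Agent.Fus.SympTorus
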