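import Mathlib
import Cfsg.Prelude.Def_Solvable
import Cfsg.Agent.Lib.Transfer.Cores
import Cfsg.Agent.Lib.Fus.EssentialSmall

/-!
Abelian TI subgroups of exponent greater than `p` generate abelian normal closures in `p`-groups.
-/

set_option autoImplicit false
set_option linter.unusedSectionVars false
set_option linter.style.haveILetI false

namespace Cfsg.Agent.Fus.TIAb

open scoped commutatorElement

variable {G : Type*} [Group G] [Finite G] {p : ℕ} [hp : Fact p.Prime]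

/-- Conjugates are equal or meet trivially. -/
def TI (A : Subgroup G) : Prop :=
  ∀ g : G, A.map (MulAut.conj g).toMonoidHom = A ∨ A.map (MulAut.conj g).toMonoidHom ⊓ A = ⊥

theorem conj_mem_of_fix {A : Subgroup G} (hA : TI A) {g b : G} (hb : b ∈ A) (hb1 : b ≠ 1)
    (hgb : g * b * g⁻¹ ∈ A) {x : G} (hx : x ∈ A) : g * x * g⁻¹ ∈ A := by
  rcases hA g with h | h
  · exact h.le ⟨x, hx, rfl⟩
  · refine absurd ?_ hb1
    have h1 : g * b * g⁻¹ = 1 := Subgroup.mem_bot.1 (h.le ⟨⟨b, hb, rfl⟩, hgb⟩)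
    exact conj_eq_one_iff.1 h1

theorem TI.map {A : Subgroup G} (hA : TI A) (g : G) : TI (A.map (MulAut.conj g).toMonoidHom) := by
  intro k
  rcases hA (g⁻¹ * k * g) with e | e
  · left
    ext y
    constructor
    · rintro ⟨_, ⟨x, hx, rfl⟩, rfl⟩
      exact ⟨_, e.le ⟨x, hx, rfl⟩, by simp [mul_assoc]⟩
    · rintro ⟨x, hx, rfl⟩
      obtain ⟨z, hz, e'⟩ := e.ge hx
      refine ⟨_, ⟨z, hz, rfl⟩, ?_⟩
      rw [← e']
      simp [mul_assoc]
  · right
    rw [eq_bot_iff]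
    rintro y ⟨⟨_, ⟨x, hx, rfl⟩, hy⟩, ⟨z, hz, hy'⟩⟩
    simp only [MulEquiv.coe_toMonoidHom, MulAut.conj_apply] at hy hy'
    have hzz : z = (g⁻¹ * k * g) * x * (g⁻¹ * k * g)⁻¹ := by
      rw [← hy] at hy'
      calc z = g⁻¹ * (g * z * g⁻¹) * g := by group
        _ = _ := by rw [hy']; group
    have hz1 : z = 1 := Subgroup.mem_bot.1 (e.le ⟨⟨x, hx, hzz.symm⟩, hz⟩)
    rw [← hy', hz1]
    simp

theorem commutator_pow_left {a b : G} (h : Commute a ⁅a, b⁆) (k : ℕ) :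
    ⁅a ^ k, b⁆ = ⁅a, b⁆ ^ k := by
  induction k with
  | zero => simp
  | succ k ih =>
    rw [show ⁅a ^ (k + 1), b⁆ = a * ⁅a ^ k, b⁆ * a⁻¹ * ⁅a, b⁆ by
      simp only [commutatorElement_def, pow_succ']; group, ih, (h.pow_right k).eq,
      mul_inv_cancel_right, pow_succ]

theorem commutator_pow_right {a b : G} (h : Commute b ⁅a, b⁆) (k : ℕ) :
    ⁅a, b ^ k⁆ = ⁅a, b⁆ ^ k := by
  have h' : Commute b ⁅b, a⁆ := by rw [← commutatorElement_inv]; exact h.inv_right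
  rw [← commutatorElement_inv, commutator_pow_left h', ← commutatorElement_inv b a, inv_pow]

/-- `A` normalizes `B` when the commutators are central. -/
theorem conj_mem_of_central {A B : Subgroup G} (hB : TI B)
    (hA : ∀ a ∈ A, ∀ b ∈ B, Commute a ⁅a, b⁆ ∧ Commute b ⁅a, b⁆)
    (hA2 : ∀ a ∈ A, ∀ a' ∈ A, ∀ b ∈ B, Commute a' ⁅a, b⁆)
    {b₁ : G} (hb₁ : b₁ ∈ B) {m : ℕ} (hord : orderOf b₁ = p ^ (m + 2)) {a x : G} (ha : a ∈ A)
    (hx : x ∈ B) : a * x * a⁻¹ ∈ B := by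
  obtain ⟨b', hb'⟩ : ∃ b', b' = b₁ ^ p ^ (m + 1) := ⟨_, rfl⟩
  have hb'B : b' ∈ B := hb' ▸ pow_mem hb₁ _
  have hb'1 : b' ≠ 1 := fun e => by
    have := orderOf_le_of_pow_eq_one (pow_pos hp.out.pos (m + 1)) (hb' ▸ e)
    rw [hord] at this
    have := (Nat.pow_le_pow_iff_right hp.out.one_lt).1 this
    omega
  have hb'p : b' ^ p = 1 := by
    rw [hb', ← pow_mul, ← pow_succ, show m + 1 + 1 = m + 2 from rfl, ← hord, pow_orderOf_eq_one]
  -- `a ^ p` centralizes `b'`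
  have hap : ⁅a ^ p, b'⁆ = 1 := by
    rw [commutator_pow_left (hA a ha b' hb'B).1, ← commutator_pow_right (hA a ha b' hb'B).2, hb'p,
      commutatorElement_one_right]
  have hfix : ∀ {g : G}, Commute g b' → ∀ y ∈ B, g * y * g⁻¹ ∈ B := fun {g} hg y hy =>
    conj_mem_of_fix hB hb'B hb'1 (by rw [hg.eq, mul_inv_cancel_right]; exact hb'B) hy
  have hd : ⁅a ^ p, b₁⁆ ∈ B := by
    rw [commutatorElement_def]
    exact mul_mem (hfix (commutatorElement_eq_one_iff_mul_comm.1 hap) b₁ hb₁) (inv_mem hb₁)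
  by_cases hd1 : ⁅a ^ p, b₁⁆ = 1
  · refine hfix (commutatorElement_eq_one_iff_mul_comm.1 ?_) x hx
    rw [hb', commutator_pow_right (hA a ha b₁ hb₁).2, pow_succ', pow_mul,
      ← commutator_pow_left (hA a ha b₁ hb₁).1, hd1, one_pow]
  · refine conj_mem_of_fix hB hd hd1 ?_ hx
    rw [(hA2 _ (pow_mem ha p) a ha b₁ hb₁).eq, mul_inv_cancel_right]
    exact hd

/-- Two disjoint abelian TI subgroups, not of exponent `p`, of a `p`-group commute. -/
theorem commute_of_TI : ∀ (N : ℕ) (A B : Subgroup G), Nat.card ↥(A ⊔ B) ≤ N →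
    IsPGroup p ↥(A ⊔ B) → TI A → TI B →
    (∀ x ∈ A, ∀ y ∈ A, Commute x y) → (∀ x ∈ B, ∀ y ∈ B, Commute x y) →
    (∃ a ∈ A, a ^ p ≠ 1) → (∃ b ∈ B, b ^ p ≠ 1) → A ⊓ B = ⊥ →
    ∀ a ∈ A, ∀ b ∈ B, Commute a b := by
  intro N
  induction N with
  | zero =>
    intro A B h
    exact absurd h (not_le_of_gt Nat.card_pos)
  | succ N ih =>
    intro A B hcard hpg hA hB hAc hBc hAe hBe hdisj
    -- the conjugates of one of them commute
    have hconj : ∀ (A B : Subgroup G), Nat.card ↥(A ⊔ B) ≤ N + 1 → IsPGroup p ↥(A ⊔ B) → TI A →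
        (∀ x ∈ A, ∀ y ∈ A, Commute x y) → (∃ a ∈ A, a ^ p ≠ 1) → A < A ⊔ B →
        ∀ a ∈ A, ∀ a' ∈ A, ∀ g ∈ A ⊔ B, Commute a (g * a' * g⁻¹) := by
      intro A B hcard hpg hA hAc hAe hlt a ha a' ha' g hg
      rcases hA g with h | h
      · exact hAc a ha _ (h.le ⟨a', ha', rfl⟩)
      obtain ⟨A', hA'⟩ : ∃ A', A' = A.map (MulAut.conj g).toMonoidHom := ⟨_, rfl⟩
      -- both lie in a proper normal subgroup of `A ⊔ B`
      have hne : A.subgroupOf (A ⊔ B) ≠ ⊤ := fun e =>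
        absurd (Subgroup.subgroupOf_eq_top.1 e) (not_le_of_gt hlt)
      obtain ⟨M, hMc, hAM⟩ := (eq_top_or_exists_le_coatom (A.subgroupOf (A ⊔ B))).resolve_left hne
      haveI : Group.IsNilpotent ↥(A ⊔ B) := hpg.isNilpotent
      have hMn : M.Normal :=
        Subgroup.NormalizerCondition.normal_of_coatom M Group.normalizerCondition_of_isNilpotent hMc
      obtain ⟨R, hR⟩ : ∃ R, R = M.map (A ⊔ B).subtype := ⟨_, rfl⟩
      have hAR : A ≤ R := fun x hx => hR ▸ ⟨⟨x, Subgroup.mem_sup_left hx⟩, hAM hx, rfl⟩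
      have hA'R : A' ≤ R := by
        rw [hA']
        rintro _ ⟨x, hx, rfl⟩
        rw [hR]
        exact ⟨_, hMn.conj_mem _ (hAM (show (⟨x, Subgroup.mem_sup_left hx⟩ : ↥(A ⊔ B)) ∈ _ from hx))
          ⟨g, hg⟩, rfl⟩
      have hRlt : Nat.card R < Nat.card ↥(A ⊔ B) := by
        rw [hR, Subgroup.card_map_of_injective (A ⊔ B).subtype_injective]
        refine lt_of_le_of_ne (Nat.card_le_card_of_injective _ Subtype.val_injective) fun e => hMc.1 ?_
        exact Subgroup.eq_top_of_card_eq M e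
      have hle := Subgroup.card_le_of_le (sup_le hAR hA'R)
      have hTI' : TI A' := hA' ▸ hA.map g
      exact ih A A' (by omega) ((hpg.to_le (sup_le le_sup_left (hA'R.trans (hR ▸ Subgroup.map_subtype_le M)))))
        hA hTI' hAc (by
          subst hA'
          rintro _ ⟨x, hx, rfl⟩ _ ⟨y, hy, rfl⟩
          exact (hAc x hx y hy).map _)
        hAe (by
          obtain ⟨x, hx, hxp⟩ := hAe
          refine ⟨g * x * g⁻¹, hA' ▸ ⟨x, hx, rfl⟩, fun e => hxp ?_⟩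
          rwa [conj_pow, conj_eq_one_iff] at e)
        (by rw [hA', inf_comm]; exact h) a ha _ (hA' ▸ ⟨a', ha', rfl⟩)
    have hlt : A < A ⊔ B := lt_of_le_of_ne le_sup_left fun e => by
      obtain ⟨b, hb, hbp⟩ := hBe
      have hbA : b ∈ A := e.ge (Subgroup.mem_sup_right hb)
      exact hbp (by rw [Subgroup.mem_bot.1 (hdisj.le ⟨hbA, hb⟩), one_pow])
    have hlt' : B < B ⊔ A := lt_of_le_of_ne le_sup_left fun e => by
      obtain ⟨a, ha, hap⟩ := hAe
      have haB : a ∈ B := e.ge (Subgroup.mem_sup_right ha)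
      exact hap (by rw [Subgroup.mem_bot.1 (hdisj.le ⟨ha, haB⟩), one_pow])
    have h1 := hconj A B hcard hpg hA hAc hAe hlt
    have h2 := hconj B A (sup_comm A B ▸ hcard) (sup_comm A B ▸ hpg) hB hBc hBe hlt'
    -- commutators are central
    have hcA : ∀ a ∈ A, ∀ a' ∈ A, ∀ b ∈ B, Commute a' ⁅a, b⁆ := fun a ha a' ha' b hb => by
      rw [show ⁅a, b⁆ = a * (b * a⁻¹ * b⁻¹) by rw [commutatorElement_def]; group]
      exact (hAc a' ha' a ha).mul_right (h1 a' ha' _ (inv_mem ha) b (Subgroup.mem_sup_right hb))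
    have hcB : ∀ a ∈ A, ∀ b ∈ B, ∀ b' ∈ B, Commute b' ⁅a, b⁆ := fun a ha b hb b' hb' => by
      rw [show ⁅a, b⁆ = a * b * a⁻¹ * b⁻¹ by rw [commutatorElement_def]]
      exact (h2 b' hb' b hb a (Subgroup.mem_sup_right ha)).mul_right (hBc b' hb' _ (inv_mem hb))
    have hord : ∀ {K : Subgroup G}, K ≤ A ⊔ B → (∃ x ∈ K, x ^ p ≠ 1) →
        ∃ x ∈ K, ∃ m, orderOf x = p ^ (m + 2) := fun {K} hK ⟨x, hx, hxp⟩ => by
      obtain ⟨k, hk⟩ := IsPGroup.iff_orderOf.1 hpg ⟨x, hK hx⟩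
      rw [Subgroup.orderOf_mk] at hk
      refine ⟨x, hx, k - 2, ?_⟩
      rw [hk, Nat.sub_add_cancel]
      by_contra hlt
      exact hxp (orderOf_dvd_iff_pow_eq_one.1 (hk ▸ (by
        conv_rhs => rw [← pow_one p]
        exact pow_dvd_pow p (by omega))))
    intro a ha b hb
    obtain ⟨a₁, ha₁, ma, hma⟩ := hord le_sup_left hAe
    obtain ⟨b₁, hb₁, mb, hmb⟩ := hord le_sup_right hBe
    have e1 : a * b * a⁻¹ ∈ B := conj_mem_of_central hB
      (fun a ha b hb => ⟨hcA a ha a ha b hb, hcB a ha b hb b hb⟩) hcA hb₁ hmb ha hb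
    have e2 : b * a * b⁻¹ ∈ A := conj_mem_of_central hA
      (fun b hb a ha => by
        rw [← commutatorElement_inv a b]
        exact ⟨(hcB a ha b hb b hb).inv_right, (hcA a ha a ha b hb).inv_right⟩)
      (fun b hb b' hb' a ha => by
        rw [← commutatorElement_inv a b]; exact (hcB a ha b hb b' hb').inv_right)
      ha₁ hma hb ha
    refine commutatorElement_eq_one_iff_mul_comm.1 (Subgroup.mem_bot.1 (hdisj.le (Subgroup.mem_inf.2 ⟨?_, ?_⟩)))
    · rw [show ⁅a, b⁆ = a * (b * a * b⁻¹)⁻¹ by rw [commutatorElement_def]; group]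
      exact mul_mem ha (inv_mem e2)
    · rw [commutatorElement_def]
      exact mul_mem e1 (inv_mem hb)

theorem commute_conj {A : Subgroup G} (hA : TI A) (hAc : ∀ x ∈ A, ∀ y ∈ A, Commute x y)
    (hAe : ∃ a ∈ A, a ^ p ≠ 1) {g : G}
    (hpg : IsPGroup p ↥(A ⊔ A.map (MulAut.conj g).toMonoidHom)) {a a' : G} (ha : a ∈ A)
    (ha' : a' ∈ A) : Commute a (g * a' * g⁻¹) := by
  rcases hA g with h | h
  · exact hAc a ha _ (h.le ⟨a', ha', rfl⟩)
  refine commute_of_TI _ A _ le_rfl hpg hA (hA.map g) hAc ?_ hAe ?_ (by rw [inf_comm]; exact h) a ha _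
    ⟨a', ha', rfl⟩
  · rintro _ ⟨x, hx, rfl⟩ _ ⟨y, hy, rfl⟩
    exact (hAc x hx y hy).map _
  · obtain ⟨x, hx, hxp⟩ := hAe
    refine ⟨g * x * g⁻¹, ⟨x, hx, rfl⟩, fun e => hxp ?_⟩
    rwa [conj_pow, conj_eq_one_iff] at e

end Cfsg.Agent.Fus.TIAb
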