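import Mathlib
import Cfsg.Agent.Lib.Grp.Frattini

/-!
Invariant trivial-intersection families in `2`-groups.
-/

set_option autoImplicit false

namespace Cfsg.Agent.Fus

universe u

variable {S : Type u} [Group S]

/-- A `2`-group with nontrivial Frattini subgroup has an element of order four. -/
theorem exists_order_four [Finite S] {R : Subgroup S} (hR : IsPGroup 2 R) (hΦ : frattini ↥R ≠ ⊥) :
    ∃ s ∈ R, s * s ≠ 1 ∧ s * s * (s * s) = 1 := by
  have hex : ∃ x : R, x * x ≠ 1 := by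
    by_contra hall
    push_neg at hall
    refine hΦ (Grp.frattini_eq_bot_of_exponent Nat.prime_two (fun a b => ?_) fun x => by rw [pow_two]; exact hall x)
    have hi : ∀ x : R, x⁻¹ = x := fun x => inv_eq_of_mul_eq_one_right (hall x)
    calc a * b = (a * b)⁻¹ := (hi _).symm
      _ = b * a := by rw [mul_inv_rev, hi, hi]
  obtain ⟨x, hx⟩ := hex
  obtain ⟨k, hk⟩ := IsPGroup.iff_orderOf.mp hR x
  have hk2 : 2 ≤ k := by
    by_contra h
    apply hx
    rw [← pow_two]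
    exact orderOf_dvd_iff_pow_eq_one.mp (hk ▸ pow_dvd_pow 2 (by omega : k ≤ 1))
  refine ⟨((x ^ 2 ^ (k - 2) : R) : S), SetLike.coe_mem _, ?_, ?_⟩
  · intro e
    have e' : x ^ 2 ^ (k - 2) * x ^ 2 ^ (k - 2) = 1 := Subtype.ext e
    rw [← pow_add, ← mul_two, ← pow_succ] at e'
    have h1 := orderOf_dvd_of_pow_eq_one e'
    rw [hk, Nat.pow_dvd_pow_iff_le_right (by norm_num)] at h1
    omega
  · have e' : x ^ 2 ^ (k - 2) * x ^ 2 ^ (k - 2) * (x ^ 2 ^ (k - 2) * x ^ 2 ^ (k - 2)) = 1 := by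
      rw [← pow_add, ← pow_add]
      refine orderOf_dvd_iff_pow_eq_one.mp (hk ▸ ?_)
      have : 2 ^ k = 2 ^ (k - 2) * 4 := by
        rw [show (4 : ℕ) = 2 ^ 2 by norm_num, ← pow_add]; congr 1; omega
      rw [this]
      exact ⟨1, by ring⟩
    exact congrArg Subtype.val e'

/-- The step of the mutual movement argument. -/
theorem sq_eq_one_of_moves {R T : Subgroup S} {r t : S} (hr : r ∈ R) (ht : t ∈ T)
    (hRR : ∀ a ∈ R, ∀ b ∈ R.map (MulAut.conj t⁻¹).toMonoidHom, a * b = b * a)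
    (hTT : ∀ a ∈ T, ∀ b ∈ T.map (MulAut.conj r⁻¹).toMonoidHom, a * b = b * a)
    (hti : R ⊓ R.map (MulAut.conj t⁻¹).toMonoidHom = ⊥)
    (ht2 : ∀ a ∈ R, (t * t)⁻¹ * a * (t * t) ∈ R) : r * r = 1 := by
  obtain ⟨b, hb⟩ : ∃ b : S, b = t⁻¹ * r * t := ⟨_, rfl⟩
  obtain ⟨c, hc⟩ : ∃ c : S, c = (t * t)⁻¹ * r * (t * t) := ⟨_, rfl⟩
  have hbR : b ∈ R.map (MulAut.conj t⁻¹).toMonoidHom := ⟨r, hr, by
    show t⁻¹ * r * t⁻¹⁻¹ = b
    rw [inv_inv, hb]⟩
  have hcR : c ∈ R := hc ▸ ht2 r hr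
  have hab := hRR r hr b hbR
  have h1 := hTT t ht (r⁻¹ * t * r) ⟨t, ht, by
    show r⁻¹ * t * r⁻¹⁻¹ = _
    rw [inv_inv]⟩
  have h2 : t * (b⁻¹ * r) = b⁻¹ * r * t := by
    apply mul_left_cancel (a := t)
    calc t * (t * (b⁻¹ * r)) = t * (r⁻¹ * t * r) := by rw [hb]; group
      _ = r⁻¹ * t * r * t := h1
      _ = t * (b⁻¹ * r * t) := by rw [hb]; group
  have h3 : c⁻¹ * b = b⁻¹ * r :=
    calc c⁻¹ * b = t⁻¹ * (b⁻¹ * r * t) := by rw [hc, hb]; group
      _ = t⁻¹ * (t * (b⁻¹ * r)) := by rw [h2]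
      _ = b⁻¹ * r := by group
  have hbinv : b⁻¹ * r = r * b⁻¹ := ((Commute.symm (show Commute r b from hab)).inv_left).eq
  have h4 : b * b = c * r := by
    calc b * b = c * (c⁻¹ * b) * b := by group
      _ = c * r := by rw [h3, hbinv]; group
  have h5 : b * b ∈ R ⊓ R.map (MulAut.conj t⁻¹).toMonoidHom :=
    ⟨h4 ▸ R.mul_mem hcR hr, Subgroup.mul_mem _ hbR hbR⟩
  rw [hti, Subgroup.mem_bot] at h5
  calc r * r = t * (b * b) * t⁻¹ := by rw [hb]; group
    _ = 1 := by rw [h5]; group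

/-- The conjugate of a subgroup under a power eventually moving it. -/
theorem exists_moving_square [Finite S] {R T : Subgroup S} (hT : IsPGroup 2 T)
    (h : ¬ T ≤ Subgroup.normalizer (R : Set S)) :
    ∃ t ∈ T, t ∉ Subgroup.normalizer (R : Set S) ∧ t * t ∈ Subgroup.normalizer (R : Set S) := by
  classical
  obtain ⟨t₀, ht₀, hn⟩ := SetLike.not_le_iff_exists.mp h
  obtain ⟨k, hk⟩ := IsPGroup.iff_orderOf.mp hT ⟨t₀, ht₀⟩
  rw [Subgroup.orderOf_mk] at hk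
  have hex : ∃ i, t₀ ^ 2 ^ i ∈ Subgroup.normalizer (R : Set S) := ⟨k, by
    rw [← hk, pow_orderOf_eq_one]; exact one_mem _⟩
  have hpos : Nat.find hex ≠ 0 := fun e => hn (by simpa [e] using Nat.find_spec hex)
  obtain ⟨i, hi⟩ := Nat.exists_eq_succ_of_ne_zero hpos
  refine ⟨t₀ ^ 2 ^ i, T.pow_mem ht₀ _, Nat.find_min hex (by omega), ?_⟩
  have h1 := Nat.find_spec hex
  rw [hi, pow_succ, mul_two, pow_add] at h1
  exact h1

/-- Mutual commutation of a pair with commuting conjugates. -/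
theorem commute_of_conjugates [Finite S] (hS : IsPGroup 2 S) {R T : Subgroup S}
    (hΦR : frattini ↥R ≠ ⊥) (hord : Nat.card R = Nat.card T) (hRT : R ⊓ T = ⊥)
    (hR : ∀ g ∈ T, g ∉ Subgroup.normalizer (R : Set S) →
      R ⊓ R.map (MulAut.conj g⁻¹).toMonoidHom = ⊥ ∧
      ∀ a ∈ R, ∀ b ∈ R.map (MulAut.conj g⁻¹).toMonoidHom, a * b = b * a)
    (hT : ∀ g ∈ R, g ∉ Subgroup.normalizer (T : Set S) →
      T ⊓ T.map (MulAut.conj g⁻¹).toMonoidHom = ⊥ ∧
      ∀ a ∈ T, ∀ b ∈ T.map (MulAut.conj g⁻¹).toMonoidHom, a * b = b * a) :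
    ⁅R, T⁆ = ⊥ := by
  have key : ∀ {A B : Subgroup S}, A ⊓ B = ⊥ → ∀ {x y : S}, x ∈ A → y ∈ B →
      x ∈ Subgroup.normalizer (B : Set S) → y ∈ Subgroup.normalizer (A : Set S) → y * x = x * y := by
    intro A B hAB x y hx hy hxn hyn
    have h1 : x * y * x⁻¹ * y⁻¹ ∈ A ⊓ B := by
      refine ⟨?_, B.mul_mem ((Subgroup.mem_normalizer_iff.mp hxn y).mp hy) (B.inv_mem hy)⟩
      rw [show x * y * x⁻¹ * y⁻¹ = x * (y * x⁻¹ * y⁻¹) by group]
      exact A.mul_mem hx ((Subgroup.mem_normalizer_iff.mp hyn x⁻¹).mp (A.inv_mem hx))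
    rw [hAB, Subgroup.mem_bot, mul_inv_eq_one, mul_inv_eq_iff_eq_mul] at h1
    exact h1.symm
  -- one-sided normalizing forces too many elements
  have side : ∀ {A B : Subgroup S}, A ⊓ B = ⊥ → Nat.card A = Nat.card B → A ≤ Subgroup.normalizer (B : Set S) →
      (∀ g ∈ B, g ∉ Subgroup.normalizer (A : Set S) →
        A ⊓ A.map (MulAut.conj g⁻¹).toMonoidHom = ⊥ ∧
        ∀ a ∈ A, ∀ b ∈ A.map (MulAut.conj g⁻¹).toMonoidHom, a * b = b * a) →
      B ≤ Subgroup.normalizer (A : Set S) := by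
    intro A B hAB hcard hAn hA
    by_contra hn
    obtain ⟨t, ht, htn⟩ := SetLike.not_le_iff_exists.mp hn
    obtain ⟨hti, hcomm⟩ := hA t ht htn
    have hmem : ∀ a ∈ A, t⁻¹ * a * t ∈ A.map (MulAut.conj t⁻¹).toMonoidHom := fun a ha => ⟨a, ha, by
      show t⁻¹ * a * t⁻¹⁻¹ = _
      rw [inv_inv]⟩
    have hv : ∀ a : A, (a : S)⁻¹ * (t⁻¹ * a * t) ∈ B ⊓ Subgroup.normalizer (A : Set S) := by
      intro a
      refine ⟨?_, Subgroup.mul_mem _ (Subgroup.inv_mem _ (Subgroup.le_normalizer a.2)) ?_⟩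
      · rw [show (a : S)⁻¹ * (t⁻¹ * a * t) = (a : S)⁻¹ * t⁻¹ * a * t by group]
        refine B.mul_mem ?_ ht
        have h1 := (Subgroup.mem_normalizer_iff.mp (hAn (A.inv_mem a.2)) t⁻¹).mp (B.inv_mem ht)
        rwa [inv_inv] at h1
      · rw [Subgroup.mem_normalizer_iff]
        intro x
        have hcx : ∀ z ∈ A, t⁻¹ * a * t * z * (t⁻¹ * a * t)⁻¹ = z := fun z hz => by
          rw [← hcomm z hz _ (hmem a a.2), mul_inv_cancel_right]
        refine ⟨fun hx => by rwa [hcx x hx], fun hx => ?_⟩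
        have h1 := hcx _ hx
        have h2 : t⁻¹ * a * t * x * (t⁻¹ * a * t)⁻¹ = x := by
          have h3 := congrArg (fun z => (t⁻¹ * a * t)⁻¹ * z * (t⁻¹ * a * t)) h1
          simpa [mul_assoc] using h3
        rwa [h2] at hx
    let f : A → (B ⊓ Subgroup.normalizer (A : Set S) : Subgroup S) := fun a => ⟨_, hv a⟩
    have hf : Function.Injective f := by
      intro a b e
      have e' : (a : S)⁻¹ * (t⁻¹ * a * t) = (b : S)⁻¹ * (t⁻¹ * b * t) := congrArg Subtype.val e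
      have h1 : (b : S) * (a : S)⁻¹ ∈ A ⊓ A.map (MulAut.conj t⁻¹).toMonoidHom := by
        refine ⟨A.mul_mem b.2 (A.inv_mem a.2), ?_⟩
        have h2 : (b : S) * (a : S)⁻¹ = t⁻¹ * b * t * (t⁻¹ * a * t)⁻¹ := by
          rw [eq_mul_inv_iff_mul_eq, mul_assoc, e', ← mul_assoc, mul_inv_cancel, one_mul]
        rw [h2]
        exact Subgroup.mul_mem _ (hmem b b.2) (Subgroup.inv_mem _ (hmem a a.2))
      rw [hti, Subgroup.mem_bot, mul_inv_eq_one] at h1
      exact Subtype.ext h1.symm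
    have h1 := Nat.card_le_card_of_injective f hf
    rw [hcard] at h1
    exact hn (inf_eq_left.mp (Subgroup.eq_of_le_of_card_ge inf_le_left h1))
  by_cases hnR : R ≤ Subgroup.normalizer (T : Set S)
  · have hnT := side hRT hord hnR hR
    rw [Subgroup.commutator_eq_bot_iff_le_centralizer]
    exact fun x hx y hy => key hRT hx hy (hnR hx) (hnT hy)
  have hnT : ¬ T ≤ Subgroup.normalizer (R : Set S) := fun h =>
    hnR (side (by rw [inf_comm, hRT]) hord.symm h hT)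
  exfalso
  obtain ⟨r, hr, hrn, -⟩ := exists_moving_square (R := T) (hS.to_subgroup R) hnR
  obtain ⟨t₀, ht₀, ht₀n, ht₀2⟩ := exists_moving_square (R := R) (hS.to_subgroup T) hnT
  -- every element moving the other subgroup is an involution
  have hinv : ∀ x ∈ R, x ∉ Subgroup.normalizer (T : Set S) → x * x = 1 := fun x hx hxn =>
    sq_eq_one_of_moves hx ht₀ (hR t₀ ht₀ ht₀n).2 (hT x hx hxn).2 (hR t₀ ht₀ ht₀n).1
      fun a ha => (Subgroup.mem_normalizer_iff''.mp ht₀2 a).mp ha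
  have hr2 := hinv r hr hrn
  obtain ⟨t, ht, htn⟩ := SetLike.not_le_iff_exists.mp hnT
  have ht2 : t * t = 1 := sq_eq_one_of_moves ht hr (hT r hr hrn).2 (hR t ht htn).2 (hT r hr hrn).1
    fun a ha => by rw [hr2, inv_one, one_mul, mul_one]; exact ha
  obtain ⟨s, hs, hs2, hs4⟩ := exists_order_four (hS.to_subgroup R) hΦR
  have hsn : s ∈ Subgroup.normalizer (T : Set S) := by
    by_contra h; exact hs2 (hinv s hs h)
  have hri : r⁻¹ = r := inv_eq_of_mul_eq_one_right hr2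
  have hti' : t⁻¹ = t := inv_eq_of_mul_eq_one_right ht2
  have hrs : r * s * r = s⁻¹ := by
    have h1 : r * s ∉ Subgroup.normalizer (T : Set S) := fun h =>
      hrn (by simpa using Subgroup.mul_mem _ h (Subgroup.inv_mem _ hsn))
    have h2 := hinv _ (R.mul_mem hr hs) h1
    calc r * s * r = r * s * (r * s) * s⁻¹ := by group
      _ = s⁻¹ := by rw [h2, one_mul]
  obtain ⟨hiR, hcR⟩ := hR t ht htn
  obtain ⟨hiT, -⟩ := hT r hr hrn
  obtain ⟨b, hb⟩ : ∃ b : S, b = t * s * t := ⟨_, rfl⟩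
  have hbR : b ∈ R.map (MulAut.conj t⁻¹).toMonoidHom := ⟨s, hs, by
    show t⁻¹ * s * t⁻¹⁻¹ = b
    rw [inv_inv, hti', hb]⟩
  have hrb : r * b * r = b := by rw [hcR r hr b hbR, mul_assoc, hr2, mul_one]
  have hsb : Commute s b := hcR s hs b hbR
  have hu : s⁻¹ * b ∈ T := by
    rw [hb, show s⁻¹ * (t * s * t) = s⁻¹ * t * s * t by group]
    refine T.mul_mem ?_ ht
    exact (Subgroup.mem_normalizer_iff''.mp hsn t).mp ht
  have hru : r * (s⁻¹ * b) * r = s * b := by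
    calc r * (s⁻¹ * b) * r = r * (r * s * r) * b * r := by rw [hrs]; group
      _ = (r * r) * s * (r * b * r) := by group
      _ = s * b := by rw [hr2, hrb, one_mul]
  have hss : s⁻¹ * s⁻¹ = s * s := by
    have := inv_eq_of_mul_eq_one_right hs4
    rwa [mul_inv_rev] at this
  have e1 : s⁻¹ * b * (s⁻¹ * b) = s * s * (b * b) := by
    have h := hsb.inv_left.eq
    calc s⁻¹ * b * (s⁻¹ * b) = s⁻¹ * (b * s⁻¹) * b := by group
      _ = s⁻¹ * s⁻¹ * (b * b) := by rw [← h]; group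
      _ = _ := by rw [hss]
  have e2 : s * b * (s * b) = s * s * (b * b) := by
    calc s * b * (s * b) = s * (b * s) * b := by group
      _ = _ := by rw [← hsb.eq]; group
  have hu2 : s⁻¹ * b * (s⁻¹ * b) ∈ T ⊓ T.map (MulAut.conj r⁻¹).toMonoidHom := by
    refine ⟨T.mul_mem hu hu, ?_⟩
    have hm : r * (s⁻¹ * b) * r ∈ T.map (MulAut.conj r⁻¹).toMonoidHom := ⟨_, hu, by
      show r⁻¹ * (s⁻¹ * b) * r⁻¹⁻¹ = _
      rw [inv_inv, hri]⟩
    rw [e1, ← e2, ← hru]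
    exact Subgroup.mul_mem _ hm hm
  rw [hiT, Subgroup.mem_bot, e1] at hu2
  have h7 : s * s ∈ R ⊓ R.map (MulAut.conj t⁻¹).toMonoidHom := by
    refine ⟨R.mul_mem hs hs, ?_⟩
    rw [eq_inv_of_mul_eq_one_left hu2]
    exact Subgroup.inv_mem _ (Subgroup.mul_mem _ hbR hbR)
  rw [hiR, Subgroup.mem_bot] at h7
  exact hs2 h7

/-- An invariant trivial-intersection family with nontrivial Frattini subgroups commutes pairwise. -/
theorem commute_of_family [Finite S] (hS : IsPGroup 2 S) (Δ : Set (Subgroup S))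
    (hinv : ∀ s : S, ∀ R ∈ Δ, R.map (MulAut.conj s).toMonoidHom ∈ Δ) (hΦ : ∀ R ∈ Δ, frattini ↥R ≠ ⊥)
    (hord : ∀ R ∈ Δ, ∀ T ∈ Δ, Nat.card ↥R = Nat.card ↥T)
    (hti : ∀ R ∈ Δ, ∀ T ∈ Δ, R = T ∨ R ⊓ T = ⊥) : ∀ R ∈ Δ, ∀ T ∈ Δ, R ≠ T → ⁅R, T⁆ = ⊥ := by
  suffices H : ∀ n, ∀ R ∈ Δ, ∀ T ∈ Δ, R ≠ T → Nat.card ↥(R ⊔ T) = n → ⁅R, T⁆ = ⊥ from
    fun R hR T hT h => H _ R hR T hT h rfl
  intro n
  induction n using Nat.strong_induction_on with
  | _ n ih =>
  intro R hR T hT hne hn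
  have step : ∀ A ∈ Δ, ∀ B ∈ Δ, A ≠ B → A ⊔ B = R ⊔ T → ∀ g ∈ B, g ∉ Subgroup.normalizer (A : Set S) →
      A ⊓ A.map (MulAut.conj g⁻¹).toMonoidHom = ⊥ ∧
      ∀ a ∈ A, ∀ b ∈ A.map (MulAut.conj g⁻¹).toMonoidHom, a * b = b * a := by
    intro A hA B hB hAB hsup g hg hgn
    set A' := A.map (MulAut.conj g⁻¹).toMonoidHom with hA'
    have hA'Δ : A' ∈ Δ := hinv _ A hA
    have hneA : A ≠ A' := fun e => hgn (by
      rw [Subgroup.mem_normalizer_iff'']
      intro h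
      have hh : ∀ x, x ∈ A → g⁻¹ * x * g ∈ A := fun x hx => by
        rw [e]; exact ⟨x, hx, by show g⁻¹ * x * g⁻¹⁻¹ = _; rw [inv_inv]⟩
      refine ⟨hh h, fun hh' => ?_⟩
      rw [e, hA', Subgroup.mem_map] at hh'
      obtain ⟨y, hy, hye⟩ := hh'
      have hye' : g⁻¹ * y * g⁻¹⁻¹ = g⁻¹ * h * g := hye
      rw [inv_inv, mul_right_cancel_iff, mul_left_cancel_iff] at hye'
      exact hye' ▸ hy)
    refine ⟨(hti A hA A' hA'Δ).resolve_left hneA, ?_⟩
    set H := A ⊔ B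
    have hAH : A.subgroupOf H ≠ ⊤ := by
      intro e
      rw [Subgroup.subgroupOf_eq_top] at e
      have h1 : A ⊓ B = B := inf_eq_right.mpr (le_sup_right.trans e)
      rw [(hti A hA B hB).resolve_left hAB] at h1
      exact hgn (by rw [(Subgroup.mem_bot.mp (h1.ge hg) : g = 1)]; exact one_mem _)
    haveI : Finite H := inferInstance
    haveI := (hS.to_subgroup H).isNilpotent
    obtain ⟨M, hM, hAM⟩ := (eq_top_or_exists_le_coatom (A.subgroupOf H)).resolve_left hAH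
    haveI : M.Normal := Grp.coatom_normal_of_nilpotent hM
    have hle : A ⊔ A' ≤ M.map H.subtype := by
      refine sup_le (fun x hx => ?_) (fun x hx => ?_)
      · exact ⟨⟨x, Subgroup.mem_sup_left hx⟩, hAM hx, rfl⟩
      · obtain ⟨y, hy, rfl⟩ := hx
        refine ⟨(⟨g, Subgroup.mem_sup_right hg⟩ : H)⁻¹ * ⟨y, Subgroup.mem_sup_left hy⟩ *
          (⟨g, Subgroup.mem_sup_right hg⟩ : H)⁻¹⁻¹, Subgroup.Normal.conj_mem ‹_› _ (hAM hy) _, rfl⟩
    have hlt : Nat.card ↥(A ⊔ A') < n := by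
      refine lt_of_le_of_lt (Subgroup.card_le_of_le hle) ?_
      rw [← hn, ← hsup, Subgroup.card_map_of_injective H.subtype_injective]
      refine lt_of_le_of_ne (Subgroup.card_le_card_group M) fun e => hM.1 (Subgroup.eq_top_of_card_eq M e)
    have hc := ih _ hlt A hA A' hA'Δ hneA rfl
    intro a ha b hb
    exact ((Subgroup.commutator_eq_bot_iff_le_centralizer.mp hc) ha b hb).symm
  exact commute_of_conjugates hS (hΦ R hR) (hord R hR T hT) ((hti R hR T hT).resolve_left hne)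
    (step R hR T hT hne rfl) (step T hT R hR hne.symm (sup_comm T R))

end Cfsg.Agent.Fus
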