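import Mathlib
import Cfsg.Prelude.Def_Solvable
import Cfsg.Prelude.Def_EvenType
import Cfsg.Prelude.Def_KGroupFacts
import Cfsg.Agent.Lib.Transfer.Cores
import Cfsg.Agent.Lib.Grp.Frattini
import Cfsg.Agent.Lib.Fus.TIAbelian

/-!
An elementary abelian TI subgroup `V`, maximal abelian normal in `M = N(V)` of characteristic `2`,
with a conjugate `U ≤ O₂(M)`, `U ≠ V`: the roles are symmetrical and the conjugates in `UV` form a
spread on which the two unipotent groups act as shears.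
-/

set_option autoImplicit false
set_option linter.unusedSectionVars false
set_option linter.style.haveILetI false

namespace Cfsg.Agent.Fus.TISym

open scoped commutatorElement
open TIAb (TI)

variable {G : Type*} [Group G] [Finite G]

/-- `O₂(N(V))`. -/
def Qv (V : Subgroup G) : Subgroup G :=
  (Cfsg.pCore 2 ↥(Subgroup.normalizer (V : Set G))).map (Subgroup.normalizer (V : Set G)).subtype

/-- `C_Q(V)`. -/
def Pv (V : Subgroup G) : Subgroup G := Qv V ⊓ Subgroup.centralizer (V : Set G)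

/-- The conjugate of `V` by `x`. -/
def cj (V : Subgroup G) (x : G) : Subgroup G := V.map (MulAut.conj x).toMonoidHom

theorem mem_cj {V : Subgroup G} {x w : G} : w ∈ cj V x ↔ x⁻¹ * w * x ∈ V := by
  refine ⟨?_, fun h => ⟨_, h, by simp [mul_assoc]⟩⟩
  rintro ⟨v, hv, rfl⟩
  simpa [mul_assoc] using hv

theorem conj_mem_cj {V : Subgroup G} {v : G} (hv : v ∈ V) (x : G) : x * v * x⁻¹ ∈ cj V x :=
  ⟨v, hv, rfl⟩

theorem cj_cj (V : Subgroup G) (x y : G) : cj (cj V x) y = cj V (y * x) := by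
  ext w
  simp only [mem_cj, mul_inv_rev, mul_assoc]

theorem cj_one (V : Subgroup G) : cj V 1 = V := by
  ext w
  simp [mem_cj]

theorem card_cj (V : Subgroup G) (x : G) : Nat.card (cj V x) = Nat.card V :=
  Subgroup.card_map_of_injective (MulAut.conj x).injective

theorem cj_eq_of_mem {V : Subgroup G} {x : G} (h : x ∈ Subgroup.normalizer (V : Set G)) :
    cj V x = V := by
  ext w
  rw [mem_cj]
  exact (Subgroup.mem_normalizer_iff''.1 h w).symm

theorem mem_normalizer_of_cj {V : Subgroup G} {x : G} (h : cj V x = V) :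
    x ∈ Subgroup.normalizer (V : Set G) := by
  refine Subgroup.mem_normalizer_iff''.2 fun w => ?_
  rw [← mem_cj, h]

theorem mem_normalizer_cj {V : Subgroup G} {x w : G} :
    w ∈ Subgroup.normalizer ((cj V x : Subgroup G) : Set G) ↔
      x⁻¹ * w * x ∈ Subgroup.normalizer (V : Set G) := by
  constructor <;> intro h <;> apply mem_normalizer_of_cj
  · calc cj V (x⁻¹ * w * x) = cj (cj (cj V x) w) x⁻¹ := by simp only [cj_cj, mul_assoc]
      _ = cj (cj V x) x⁻¹ := by rw [cj_eq_of_mem h]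
      _ = V := by rw [cj_cj, inv_mul_cancel, cj_one]
  · calc cj (cj V x) w = cj (cj V (x⁻¹ * w * x)) x := by
          simp only [cj_cj]; congr 1; group
      _ = cj V x := by rw [cj_eq_of_mem h]

theorem Qv_le (V : Subgroup G) : Qv V ≤ Subgroup.normalizer (V : Set G) :=
  Subgroup.map_subtype_le _

theorem isPGroup_Qv (V : Subgroup G) : IsPGroup 2 (Qv V) :=
  (Transfer.pCore_isPGroup 2 _).map _

theorem conj_mem_Qv {V : Subgroup G} {m q : G} (hm : m ∈ Subgroup.normalizer (V : Set G))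
    (hq : q ∈ Qv V) : m * q * m⁻¹ ∈ Qv V := by
  obtain ⟨a, ha, rfl⟩ := hq
  exact ⟨⟨m, hm⟩ * a * ⟨m, hm⟩⁻¹, (Transfer.pCore_normal' 2 _).conj_mem a ha _, rfl⟩

theorem le_Qv {V N : Subgroup G} (hNM : N ≤ Subgroup.normalizer (V : Set G))
    (hn : ∀ m ∈ Subgroup.normalizer (V : Set G), ∀ a ∈ N, m * a * m⁻¹ ∈ N) (hp : IsPGroup 2 N) :
    N ≤ Qv V := by
  intro a ha
  refine ⟨⟨a, hNM ha⟩, Transfer.le_pCore (N := N.subgroupOf _) ⟨fun b hb m => ?_⟩
    (hp.comap_of_injective _ Subtype.val_injective) (Subgroup.mem_subgroupOf.2 ha), rfl⟩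
  exact Subgroup.mem_subgroupOf.2 (hn m m.2 b (Subgroup.mem_subgroupOf.1 hb))

theorem Qv_cj (V : Subgroup G) (x : G) : Qv (cj V x) = cj (Qv V) x := by
  have key : ∀ (V : Subgroup G) (x : G), cj (Qv V) x ≤ Qv (cj V x) := by
    intro V x
    refine le_Qv (fun a ha => mem_normalizer_cj.2 (Qv_le V (mem_cj.1 ha))) (fun m hm a ha => ?_)
      ((isPGroup_Qv V).map _)
    rw [mem_cj] at ha ⊢
    have := conj_mem_Qv (mem_normalizer_cj.1 hm) ha
    simpa [mul_assoc] using this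
  refine le_antisymm (fun a ha => ?_) (key V x)
  rw [mem_cj]
  have h := key (cj V x) x⁻¹ (conj_mem_cj ha x⁻¹)
  rw [cj_cj, inv_mul_cancel, cj_one] at h
  simpa using h

/-- The hypotheses on `V`. -/
structure Hyp (V : Subgroup G) : Prop where
  sq : ∀ v ∈ V, v * v = 1
  cent : ∀ m ∈ Subgroup.normalizer (V : Set G), (∀ q ∈ Qv V, Commute m q) → m ∈ Qv V
  maxab : ∀ A : Subgroup G, V ≤ A → A ≤ Subgroup.normalizer (V : Set G) →
    (∀ a ∈ A, ∀ b ∈ A, Commute a b) →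
    (∀ m ∈ Subgroup.normalizer (V : Set G), ∀ a ∈ A, m * a * m⁻¹ ∈ A) → A = V
  ti : TI V

variable {V : Subgroup G}

theorem Hyp.inv_eq (h : Hyp V) {v : G} (hv : v ∈ V) : v⁻¹ = v :=
  inv_eq_of_mul_eq_one_right (h.sq v hv)

theorem Hyp.comm (h : Hyp V) {v w : G} (hv : v ∈ V) (hw : w ∈ V) : Commute v w := by
  have e := h.inv_eq (mul_mem hv hw)
  rw [mul_inv_rev, h.inv_eq hv, h.inv_eq hw] at e
  exact e.symm

theorem Hyp.isPGroup (h : Hyp V) : IsPGroup 2 V :=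
  fun v => ⟨1, by rw [pow_one, pow_two]; exact Subtype.ext (h.sq v v.2)⟩

theorem Hyp.cj (h : Hyp V) (x : G) : Hyp (cj V x) := by
  refine ⟨fun v hv => ?_, fun m hm hq => ?_, fun A hVA hAM hAc hAn => ?_, h.ti.map x⟩
  · obtain ⟨w, hw, rfl⟩ := hv
    rw [← map_mul, h.sq w hw, map_one]
  · rw [Qv_cj, mem_cj]
    refine h.cent _ (mem_normalizer_cj.1 hm) fun q hq' => ?_
    have := (hq (x * q * x⁻¹) (by rw [Qv_cj]; exact conj_mem_cj hq' x)).map (MulAut.conj x⁻¹).toMonoidHom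
    simpa [mul_assoc] using this
  · have hmem : ∀ a, a ∈ TISym.cj A x⁻¹ ↔ x * a * x⁻¹ ∈ A := fun a => by rw [mem_cj, inv_inv]
    have e := h.maxab (TISym.cj A x⁻¹) (fun v hv => (hmem v).2 (hVA (conj_mem_cj hv x)))
      (fun a ha => by
        have := mem_normalizer_cj.1 (hAM ((hmem a).1 ha))
        simpa [mul_assoc] using this)
      (fun a ha b hb => by
        have := (hAc _ ((hmem a).1 ha) _ ((hmem b).1 hb)).map (MulAut.conj x⁻¹).toMonoidHom
        simpa [mul_assoc] using this)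
      (fun m hm a ha => (hmem _).2 (by
        have := hAn (x * m * x⁻¹) (mem_normalizer_cj.2 (by simpa [mul_assoc] using hm)) _
          ((hmem a).1 ha)
        simpa [mul_assoc] using this))
    rw [← e, cj_cj, mul_inv_cancel, cj_one]

theorem Pv_le_normalizer (V : Subgroup G) : Pv V ≤ Subgroup.normalizer (V : Set G) :=
  inf_le_left.trans (Qv_le V)

theorem commute_Pv {x v : G} (hx : x ∈ Pv V) (hv : v ∈ V) : Commute x v :=
  ((Subgroup.mem_centralizer_iff.1 hx.2 v hv).symm : _)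

theorem conj_mem_Pv {m q : G} (hm : m ∈ Subgroup.normalizer (V : Set G)) (hq : q ∈ Pv V) :
    m * q * m⁻¹ ∈ Pv V := by
  refine Subgroup.mem_inf.2 ⟨conj_mem_Qv hm hq.1, Subgroup.mem_centralizer_iff.2 fun v hv => ?_⟩
  have hv' : m⁻¹ * v * m ∈ V := (Subgroup.mem_normalizer_iff''.1 hm v).1 hv
  have := (commute_Pv hq hv').map (MulAut.conj m).toMonoidHom
  simp only [MulEquiv.coe_toMonoidHom, MulAut.conj_apply] at this
  rw [show m * (m⁻¹ * v * m) * m⁻¹ = v by group] at this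
  exact this.eq.symm

theorem Pv_cj (V : Subgroup G) (x : G) : Pv (cj V x) = cj (Pv V) x := by
  ext w
  simp only [Pv, Subgroup.mem_inf, mem_cj, Qv_cj, Subgroup.mem_centralizer_iff, SetLike.mem_coe]
  refine and_congr_right fun _ => ⟨fun h v hv => ?_, fun h v hv => ?_⟩
  · have e := h (x * v * x⁻¹) (by simpa [mul_assoc] using hv)
    calc v * (x⁻¹ * w * x) = x⁻¹ * ((x * v * x⁻¹) * w) * x := by group
      _ = x⁻¹ * (w * (x * v * x⁻¹)) * x := by rw [e]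
      _ = x⁻¹ * w * x * v := by group
  · have e := h _ hv
    calc v * w = x * ((x⁻¹ * v * x) * (x⁻¹ * w * x)) * x⁻¹ := by group
      _ = x * ((x⁻¹ * w * x) * (x⁻¹ * v * x)) * x⁻¹ := by rw [e]
      _ = w * v := by group

theorem Hyp.le_Pv (h : Hyp V) : V ≤ Pv V := fun v hv =>
  Subgroup.mem_inf.2 ⟨le_Qv Subgroup.le_normalizer
    (fun m hm a ha => (Subgroup.mem_normalizer_iff.1 hm a).1 ha) h.isPGroup hv,
    Subgroup.mem_centralizer_iff.2 fun w hw => (h.comm hw hv).eq⟩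

/-- `Z(P) = V`. -/
theorem Hyp.center_Pv (h : Hyp V) {x : G} (hx : x ∈ Pv V) (hc : ∀ y ∈ Pv V, Commute x y) :
    x ∈ V := by
  have e := h.maxab (Pv V ⊓ Subgroup.centralizer (Pv V : Set G))
    (fun v hv => Subgroup.mem_inf.2 ⟨h.le_Pv hv, Subgroup.mem_centralizer_iff.2 fun y hy =>
      (commute_Pv hy hv).eq⟩)
    (inf_le_left.trans (Pv_le_normalizer V))
    (fun a ha b hb => (Subgroup.mem_centralizer_iff.1 hb.2 a ha.1))
    (fun m hm a ha => Subgroup.mem_inf.2 ⟨conj_mem_Pv hm ha.1, Subgroup.mem_centralizer_iff.2 fun y hy => by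
      have := (Subgroup.mem_centralizer_iff.1 ha.2 _ (conj_mem_Pv (inv_mem hm) hy))
      rw [inv_inv] at this
      calc y * (m * a * m⁻¹) = m * ((m⁻¹ * y * m) * a) * m⁻¹ := by group
        _ = m * (a * (m⁻¹ * y * m)) * m⁻¹ := by rw [this]
        _ = m * a * m⁻¹ * y := by group⟩)
  rw [← e]
  exact Subgroup.mem_inf.2 ⟨hx, Subgroup.mem_centralizer_iff.2 fun y hy => (hc y hy).eq.symm⟩

/-- `[P,P] ≤ V`. -/
theorem Hyp.comm_mem (h : Hyp V) {x y : G} (hx : x ∈ Pv V) (hy : y ∈ Pv V) : ⁅x, y⁆ ∈ V := by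
  by_contra hxy
  set P := Pv V with hPdef
  haveI hVn : (V.subgroupOf P).Normal :=
    Subgroup.normal_subgroupOf_of_le_normalizer (hPdef ▸ Pv_le_normalizer V : P ≤ _)
  haveI : Group.IsNilpotent P := ((isPGroup_Qv V).to_le inf_le_left).isNilpotent
  let π := QuotientGroup.mk' (V.subgroupOf P)
  have hne : (commutator P).map π ≠ ⊥ := fun e => hxy (by
    have h1 : π ⁅(⟨x, hx⟩ : P), ⟨y, hy⟩⁆ ∈ (commutator P).map π :=
      Subgroup.mem_map_of_mem π (Subgroup.commutator_mem_commutator (Subgroup.mem_top _) (Subgroup.mem_top _))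
    rw [e, Subgroup.mem_bot] at h1
    exact Subgroup.mem_subgroupOf.1 ((QuotientGroup.eq_one_iff _).1 h1))
  haveI : ((commutator P).map π).Normal :=
    Subgroup.Normal.map inferInstance π (QuotientGroup.mk'_surjective _)
  obtain ⟨z, hz, hzc, hz1⟩ : ∃ z ∈ commutator P, π z ∈ Subgroup.center _ ∧ z ∉ V.subgroupOf P := by
    have hp0 : IsPGroup 2 P := (isPGroup_Qv V).to_le inf_le_left
    have hp : IsPGroup 2 (P ⧸ V.subgroupOf P) := hp0.to_quotient (V.subgroupOf P)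
    haveI : Group.IsNilpotent (P ⧸ V.subgroupOf P) := hp.isNilpotent
    obtain ⟨w, hw⟩ := ((commutator P).map π ⊓ Subgroup.center _).bot_or_exists_ne_one.resolve_left
      fun e => Grp.inf_center_ne_bot ((commutator P).map π) hne e
    obtain ⟨⟨z, hz, rfl⟩, hwc⟩ := hw.1
    exact ⟨z, hz, hwc, fun hzV => hw.2 ((QuotientGroup.eq_one_iff _).2 hzV)⟩
  obtain ⟨B, hB⟩ : ∃ B : Set G, B = {b | b ∈ P ∧ ∀ w ∈ P, ⁅b, w⁆ ∈ V} := ⟨_, rfl⟩
  -- such elements centralize `[P,P]`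
  have hkill : ∀ b ∈ B, ∀ c ∈ commutator P, Commute b (c : G) := by
    intro b hb c hc
    rw [hB] at hb
    have hcen : ∀ w ∈ P, ∀ v ∈ P, Commute ⁅b, w⁆ v := fun w hw v hv =>
      (commute_Pv hv (hb.2 w hw)).symm
    let φ : P →* V := MonoidHom.mk' (fun w => ⟨⁅b, (w : G)⁆, hb.2 w w.2⟩) fun w v => Subtype.ext (by
      show ⁅b, (w : G) * v⁆ = ⁅b, (w : G)⁆ * ⁅b, (v : G)⁆
      rw [show ⁅b, (w : G) * v⁆ = ⁅b, (w : G)⁆ * ((w : G) * ⁅b, (v : G)⁆ * (w : G)⁻¹) by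
        simp only [commutatorElement_def]; group, ← (hcen v v.2 w w.2).eq, mul_inv_cancel_right])
    have hk : commutator P ≤ φ.ker := Subgroup.commutator_le.2 fun s _ t _ => by
      rw [MonoidHom.mem_ker, map_commutatorElement]
      exact Subtype.ext (commutatorElement_eq_one_iff_mul_comm.2
        (h.comm (φ s).2 (φ t).2).eq)
    exact commutatorElement_eq_one_iff_mul_comm.1 (congrArg Subtype.val (hk hc))
  have hzB : (z : G) ∈ B := by
    rw [hB]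
    refine ⟨z.2, fun w hw => ?_⟩
    have e : π ⁅z, (⟨w, hw⟩ : P)⁆ = 1 := by
      rw [map_commutatorElement, commutatorElement_eq_one_iff_mul_comm]
      exact (Subgroup.mem_center_iff.1 hzc _).symm
    exact Subgroup.mem_subgroupOf.1 ((QuotientGroup.eq_one_iff _).1 e)
  obtain ⟨A, hA⟩ : ∃ A : Subgroup G, A = Subgroup.closure (B ∩ ((commutator P).map P.subtype : Set G)) ⊔ V :=
    ⟨_, rfl⟩
  have hA' : A = Subgroup.closure ((B ∩ ((commutator P).map P.subtype : Set G)) ∪ (V : Set G)) := by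
    rw [hA, Subgroup.closure_union, Subgroup.closure_eq]
  have e := h.maxab A (hA ▸ le_sup_right) (by
      rw [hA']
      refine (Subgroup.closure_le _).2 ?_
      rintro a (⟨ha, -⟩ | ha)
      · rw [hB] at ha; exact Pv_le_normalizer V ha.1
      · exact Subgroup.le_normalizer ha)
    (by
      rw [hA']
      have hc := Subgroup.isMulCommutative_closure
        (k := (B ∩ ((commutator P).map P.subtype : Set G)) ∪ (V : Set G)) (by
        rintro a (⟨ha, hac⟩ | ha) b (⟨hb, hbc⟩ | hb)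
        · obtain ⟨c, hc, rfl⟩ := hbc
          exact (hkill a ha c hc).eq
        · rw [hB] at ha; exact (commute_Pv ha.1 hb).eq
        · rw [hB] at hb; exact (commute_Pv hb.1 ha).eq.symm
        · exact (h.comm ha hb).eq)
      exact fun a ha b hb => congrArg Subtype.val (hc.is_comm.comm ⟨a, ha⟩ ⟨b, hb⟩))
    (by
      intro m hm
      rw [hA']
      intro a ha
      induction ha using Subgroup.closure_induction with
      | mem a ha =>
        refine Subgroup.subset_closure ?_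
        rcases ha with ⟨ha, hac⟩ | ha
        · rw [hB] at ha
          refine Or.inl ⟨by
            rw [hB]
            refine ⟨conj_mem_Pv hm ha.1, fun w hw => ?_⟩
            have := (Subgroup.mem_normalizer_iff.1 hm _).1 (ha.2 _ (conj_mem_Pv (inv_mem hm) hw))
            rw [inv_inv] at this
            rwa [show ⁅m * a * m⁻¹, w⁆ = m * ⁅a, m⁻¹ * w * m⁆ * m⁻¹ by
              simp only [commutatorElement_def]; group], ?_⟩
          let γ : P ≃* P :=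
            { toFun := fun w => ⟨m * w * m⁻¹, conj_mem_Pv hm w.2⟩
              invFun := fun w => ⟨m⁻¹ * w * m, by simpa using conj_mem_Pv (inv_mem hm) w.2⟩
              left_inv := fun w => Subtype.ext (by simp [mul_assoc])
              right_inv := fun w => Subtype.ext (by simp [mul_assoc])
              map_mul' := fun w v => Subtype.ext (by simp [mul_assoc]) }
          obtain ⟨c, hc, rfl⟩ := hac
          refine ⟨γ c, ?_, rfl⟩
          have : (commutator P).map γ.toMonoidHom = commutator P :=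
            Subgroup.characteristic_iff_map_eq.1 inferInstance γ
          exact this.le ⟨c, hc, rfl⟩
        · exact Or.inr ((Subgroup.mem_normalizer_iff.1 hm a).1 ha)
      | one => simp
      | mul a b _ _ ha hb => simpa [mul_assoc] using mul_mem ha hb
      | inv a _ ha => simpa [mul_assoc] using inv_mem ha)
  refine hz1 (Subgroup.mem_subgroupOf.2 ?_)
  rw [← e, hA']
  exact Subgroup.subset_closure (Or.inl ⟨hzB, z, hz, rfl⟩)

theorem Hyp.comm_commute (h : Hyp V) {x y z : G} (hx : x ∈ Pv V) (hy : y ∈ Pv V) (hz : z ∈ Pv V) :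
    Commute ⁅x, y⁆ z := (commute_Pv hz (h.comm_mem hx hy)).symm

theorem Hyp.comm_mul_left (h : Hyp V) {x y z : G} (hx : x ∈ Pv V) (hy : y ∈ Pv V) (hz : z ∈ Pv V) :
    ⁅x * y, z⁆ = ⁅x, z⁆ * ⁅y, z⁆ := by
  rw [show ⁅x * y, z⁆ = x * ⁅y, z⁆ * x⁻¹ * ⁅x, z⁆ by simp only [commutatorElement_def]; group,
    ← (h.comm_commute hy hz hx).eq, mul_inv_cancel_right,
    (h.comm (h.comm_mem hy hz) (h.comm_mem hx hz)).eq]

theorem Hyp.comm_symm (h : Hyp V) {x y : G} (hx : x ∈ Pv V) (hy : y ∈ Pv V) : ⁅y, x⁆ = ⁅x, y⁆ := by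
  rw [← commutatorElement_inv, h.inv_eq (h.comm_mem hx hy)]

theorem Hyp.comm_mul_right (h : Hyp V) {x y z : G} (hx : x ∈ Pv V) (hy : y ∈ Pv V) (hz : z ∈ Pv V) :
    ⁅x, y * z⁆ = ⁅x, y⁆ * ⁅x, z⁆ := by
  rw [← h.comm_symm hx (mul_mem hy hz), h.comm_mul_left hy hz hx, h.comm_symm hx hy, h.comm_symm hx hz]

theorem Hyp.sq_mem (h : Hyp V) {x : G} (hx : x ∈ Pv V) : x * x ∈ V :=
  h.center_Pv (mul_mem hx hx) fun y hy => commutatorElement_eq_one_iff_mul_comm.1 (by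
    rw [h.comm_mul_left hx hx hy, h.sq _ (h.comm_mem hx hy)])

theorem Hyp.eq_of_meet (h : Hyp V) {x y : G} {w : G} (hw : w ∈ TISym.cj V x) (hw' : w ∈ TISym.cj V y)
    (hw1 : w ≠ 1) : TISym.cj V x = TISym.cj V y := by
  rcases (h.cj y).ti (x * y⁻¹) with e | e
  · change TISym.cj (TISym.cj V y) (x * y⁻¹) = _ at e
    rwa [cj_cj, inv_mul_cancel_right] at e
  · refine absurd (Subgroup.mem_bot.1 (e.le ⟨?_, hw'⟩)) hw1
    change w ∈ TISym.cj (TISym.cj V y) (x * y⁻¹)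
    rwa [cj_cj, inv_mul_cancel_right]

/-- A conjugate other than `V` meets it trivially. -/
theorem Hyp.eq_one_of_mem (h : Hyp V) {x w : G} (hne : TISym.cj V x ≠ V) (hw : w ∈ TISym.cj V x)
    (hw' : w ∈ V) : w = 1 := by
  by_contra hw1
  exact hne ((h.eq_of_meet hw (by rwa [cj_one]) hw1).trans (cj_one V))

/-- An element commuting with an element of a TI subgroup normalizes it. -/
theorem Hyp.conj_mem_of_commute (h : Hyp V) {g b v : G} (hb : b ∈ V) (hb1 : b ≠ 1)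
    (hgb : Commute g b) (hv : v ∈ V) : g * v * g⁻¹ ∈ V :=
  TIAb.conj_mem_of_fix h.ti hb hb1 (by rw [hgb.eq, mul_inv_cancel_right]; exact hb) hv

/-- A conjugate normalizing `V` centralizes it. -/
theorem Hyp.commute_of_le_normalizer (h : Hyp V) {x : G}
    (hU : TISym.cj V x ≤ Subgroup.normalizer (V : Set G)) {u v : G} (hu : u ∈ TISym.cj V x)
    (hv : v ∈ V) : Commute u v := by
  by_cases hne : TISym.cj V x = V
  · exact h.comm (hne.le hu) hv
  by_contra huv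
  -- the centralizer of every element is the same
  have hfix : ∀ u ∈ TISym.cj V x, u ≠ 1 → ∀ w ∈ V, Commute u w → ∀ u' ∈ TISym.cj V x, Commute u' w := by
    intro u hu hu1 w hw huw u' hu'
    refine commutatorElement_eq_one_iff_mul_comm.1 (h.eq_one_of_mem hne ?_ ?_)
    · rw [show ⁅u', w⁆ = u' * (w * u'⁻¹ * w⁻¹) by rw [commutatorElement_def]; group]
      exact mul_mem hu' ((h.cj x).conj_mem_of_commute hu hu1 huw.symm (inv_mem hu'))
    · rw [commutatorElement_def]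
      exact mul_mem ((Subgroup.mem_normalizer_iff.1 (hU hu') w).1 hw) (inv_mem hw)
  obtain ⟨V₀, hV₀⟩ : ∃ V₀ : Subgroup G, V₀ = V ⊓ Subgroup.centralizer (TISym.cj V x : Set G) := ⟨_, rfl⟩
  have hvV₀ : v ∉ V₀ := fun h0 => huv (Subgroup.mem_centralizer_iff.1 (hV₀.le h0).2 u hu)
  have hcomm : ∀ u ∈ TISym.cj V x, ⁅u, v⁆ ∈ V₀ := by
    intro u hu
    rw [hV₀]
    have hmem : ⁅u, v⁆ ∈ V := by
      rw [commutatorElement_def]
      exact mul_mem ((Subgroup.mem_normalizer_iff.1 (hU hu) v).1 hv) (inv_mem hv)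
    refine Subgroup.mem_inf.2 ⟨hmem, Subgroup.mem_centralizer_iff.2 fun u' hu' => ?_⟩
    by_cases hu1 : u = 1
    · simp [hu1]
    refine (hfix u hu hu1 _ hmem ?_ u' hu').eq
    have hui := (h.cj x).inv_eq hu
    have hvi := h.inv_eq hv
    have hw : u * v * u⁻¹ ∈ V := (Subgroup.mem_normalizer_iff.1 (hU hu) v).1 hv
    have e : u * ⁅u, v⁆ * u⁻¹ = ⁅u, v⁆ := by
      rw [commutatorElement_def, hui, hvi] at *
      calc u * (u * v * u * v) * u = (u * u) * v * (u * v * u) := by group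
        _ = v * (u * v * u) := by rw [(h.cj x).sq u hu, one_mul]
        _ = u * v * u * v := (h.comm hv hw).eq
    exact mul_inv_eq_iff_eq_mul.1 e
  let φ : TISym.cj V x →* V₀ := MonoidHom.mk' (fun u => ⟨⁅(u : G), v⁆, hcomm u u.2⟩) fun a b =>
    Subtype.ext (by
      show ⁅(a : G) * b, v⁆ = ⁅(a : G), v⁆ * ⁅(b : G), v⁆
      rw [show ⁅(a : G) * b, v⁆ = a * ⁅(b : G), v⁆ * (a : G)⁻¹ * ⁅(a : G), v⁆ by
          simp only [commutatorElement_def]; group,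
        show (a : G) * ⁅(b : G), v⁆ = ⁅(b : G), v⁆ * a from
          Subgroup.mem_centralizer_iff.1 (hV₀.le (hcomm b b.2)).2 a a.2, mul_inv_cancel_right,
        (h.comm (hV₀.le (hcomm b b.2)).1 (hV₀.le (hcomm a a.2)).1).eq])
  have hinj : Function.Injective φ := by
    refine (injective_iff_map_eq_one φ).2 fun a ha => ?_
    by_contra ha1
    refine hvV₀ (hV₀ ▸ Subgroup.mem_inf.2 ⟨hv, Subgroup.mem_centralizer_iff.2 fun u' hu' =>
      (hfix a a.2 (fun e => ha1 (Subtype.ext e)) v hv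
        (commutatorElement_eq_one_iff_mul_comm.1 (congrArg Subtype.val ha)) u' hu').eq⟩)
  have h1 := Nat.card_le_card_of_injective φ hinj
  have h2 : Nat.card V₀ < Nat.card V := by
    refine lt_of_le_of_ne (Subgroup.card_le_of_le (hV₀ ▸ inf_le_left)) fun e => hvV₀ ?_
    rw [Subgroup.eq_of_le_of_card_ge (hV₀ ▸ inf_le_left : V₀ ≤ V) e.ge]
    exact hv
  rw [card_cj] at h1
  omega

/-- Elements of `C_M(V)` acting trivially on `P/V` lie in `P`. -/
theorem Hyp.mem_Pv_of_stable (h : Hyp V) {m : G} (hm : m ∈ Subgroup.normalizer (V : Set G))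
    (hmV : ∀ v ∈ V, Commute m v) (hst : ∀ x ∈ Pv V, ⁅m, x⁆ ∈ V) : m ∈ Pv V := by
  let K : Subgroup G :=
    { carrier := {k | k ∈ Subgroup.normalizer (V : Set G) ∧ (∀ v ∈ V, Commute k v) ∧
        ∀ x ∈ Pv V, ⁅k, x⁆ ∈ V}
      one_mem' := ⟨one_mem _, fun v _ => Commute.one_left v, fun x _ => by simp⟩
      mul_mem' := fun {a b} ha hb => ⟨mul_mem ha.1 hb.1,
        fun v hv => (ha.2.1 v hv).mul_left (hb.2.1 v hv), fun x hx => by
          rw [show ⁅a * b, x⁆ = a * ⁅b, x⁆ * a⁻¹ * ⁅a, x⁆ by simp only [commutatorElement_def]; group,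
            (ha.2.1 _ (hb.2.2 x hx)).eq, mul_inv_cancel_right]
          exact mul_mem (hb.2.2 x hx) (ha.2.2 x hx)⟩
      inv_mem' := fun {a} ha => ⟨inv_mem ha.1, fun v hv => (ha.2.1 v hv).inv_left, fun x hx => by
        have e := ha.2.2 _ (conj_mem_Pv (inv_mem ha.1) hx)
        rw [show ⁅a⁻¹, x⁆ = ⁅a, a⁻¹ * x * a⁆⁻¹ by simp only [commutatorElement_def]; group]
        rw [inv_inv] at e
        exact inv_mem e⟩ }
  have hodd : ∀ k ∈ K, ∀ r : ℕ, r.Prime → r ≠ 2 → orderOf k ≠ r := by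
    intro k hk r hr hr2 hord
    have hkr : k ^ r = 1 := hord ▸ pow_orderOf_eq_one k
    obtain ⟨t, ht⟩ := hr.odd_of_ne_two hr2
    -- a translation of odd order
    have trans : ∀ y z : G, Commute k z → z * z = 1 → k * y * k⁻¹ = z * y → Commute k y := by
      intro y z hkz hz hky
      have hiter : ∀ i : ℕ, k ^ i * y * (k ^ i)⁻¹ = z ^ i * y := by
        intro i
        induction i with
        | zero => simp
        | succ i ih =>
          rw [show k ^ (i + 1) * y * (k ^ (i + 1))⁻¹ = k * (k ^ i * y * (k ^ i)⁻¹) * k⁻¹ by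
            rw [pow_succ']; group, ih, show k * (z ^ i * y) * k⁻¹ = k * z ^ i * k⁻¹ * (k * y * k⁻¹) by
            group, (hkz.pow_right i).eq, mul_inv_cancel_right, hky, pow_succ, mul_assoc]
      have e := hiter r
      rw [hkr, one_mul, inv_one, mul_one] at e
      have hz1 : z = 1 := by
        have : z ^ r = 1 := (mul_eq_right.1 e.symm : _)
        rwa [ht, pow_succ, pow_mul, pow_two, hz, one_pow, one_mul] at this
      rw [hz1, one_mul] at hky
      exact mul_inv_eq_iff_eq_mul.1 hky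
    have hkP : ∀ x ∈ Pv V, Commute k x := fun x hx => trans x ⁅k, x⁆ (hk.2.1 _ (hk.2.2 x hx))
      (h.sq _ (hk.2.2 x hx)) (by rw [commutatorElement_def, inv_mul_cancel_right])
    have hkQ : k ∈ Qv V := h.cent k hk.1 fun q hq => by
      have hzc : ∀ y ∈ Pv V, Commute ⁅k, q⁆ y := fun y hy => by
        have e1 := (hkP _ (by simpa using conj_mem_Pv (inv_mem (Qv_le V hq)) hy :
          q⁻¹ * y * q ∈ Pv V))
        have e2 := hkP y hy
        have hq' : k * q⁻¹ * k⁻¹ * y * (k * q * k⁻¹) = q⁻¹ * y * q := by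
          calc k * q⁻¹ * k⁻¹ * y * (k * q * k⁻¹) = k * q⁻¹ * (k⁻¹ * y * k) * q * k⁻¹ := by group
            _ = k * (q⁻¹ * y * q) * k⁻¹ := by
              rw [show k⁻¹ * y * k = y by rw [mul_assoc, ← e2.eq, inv_mul_cancel_left]]; group
            _ = _ := by rw [e1.eq, mul_inv_cancel_right]
        rw [commutatorElement_def]
        show k * q * k⁻¹ * q⁻¹ * y = y * (k * q * k⁻¹ * q⁻¹)
        calc k * q * k⁻¹ * q⁻¹ * y = k * q * k⁻¹ * (q⁻¹ * y * q) * q⁻¹ := by group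
          _ = k * q * k⁻¹ * (k * q⁻¹ * k⁻¹ * y * (k * q * k⁻¹)) * q⁻¹ := by rw [hq']
          _ = y * (k * q * k⁻¹ * q⁻¹) := by group
      have hzQ : ⁅k, q⁆ ∈ Qv V := by
        rw [commutatorElement_def]; exact mul_mem (conj_mem_Qv hk.1 hq) (inv_mem hq)
      have hz : ⁅k, q⁆ ∈ V := h.center_Pv (Subgroup.mem_inf.2 ⟨hzQ,
        Subgroup.mem_centralizer_iff.2 fun v hv => (hzc v (h.le_Pv hv)).eq.symm⟩) hzc
      exact trans q ⁅k, q⁆ (hk.2.1 _ hz) (h.sq _ hz) (by rw [commutatorElement_def, inv_mul_cancel_right])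
    obtain ⟨i, hi⟩ := IsPGroup.iff_orderOf.1 (isPGroup_Qv V) ⟨k, hkQ⟩
    rw [Subgroup.orderOf_mk, hord] at hi
    exact hr2 ((Nat.prime_dvd_prime_iff_eq hr Nat.prime_two).1 (hr.dvd_of_dvd_pow hi.dvd))
  have hKp : IsPGroup 2 K := IsPGroup.of_card (n := (Nat.card K).primeFactorsList.length)
    (Nat.eq_prime_pow_of_unique_prime_dvd Nat.card_pos.ne' fun {r} hr hd => by
      by_contra hne
      haveI : Fact r.Prime := ⟨hr⟩
      obtain ⟨⟨k, hk⟩, hord⟩ := exists_prime_orderOf_dvd_card' r hd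
      rw [Subgroup.orderOf_mk] at hord
      exact hodd k hk r hr hne hord)
  refine Subgroup.mem_inf.2 ⟨le_Qv (N := K) (fun k hk => hk.1) (fun g hg k hk => ?_) hKp
    ⟨hm, hmV, hst⟩, Subgroup.mem_centralizer_iff.2 fun v hv => (hmV v hv).eq.symm⟩
  refine ⟨mul_mem (mul_mem hg hk.1) (inv_mem hg), fun v hv => ?_, fun x hx => ?_⟩
  · have := (hk.2.1 _ ((Subgroup.mem_normalizer_iff''.1 hg v).1 hv)).map (MulAut.conj g).toMonoidHom
    simp only [MulEquiv.coe_toMonoidHom, MulAut.conj_apply] at this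
    rwa [show g * (g⁻¹ * v * g) * g⁻¹ = v by group] at this
  · have := (Subgroup.mem_normalizer_iff.1 hg _).1 (hk.2.2 _ (conj_mem_Pv (inv_mem hg) hx))
    rw [inv_inv] at this
    rwa [show ⁅g * k * g⁻¹, x⁆ = g * ⁅k, g⁻¹ * x * g⁆ * g⁻¹ by
      simp only [commutatorElement_def]; group]

/-- Two noncommuting conjugates inside `P`. -/
structure Pair (V U₁ U₂ : Subgroup G) : Prop where
  hyp : Hyp V
  conj₁ : ∃ x, U₁ = cj V x
  conj₂ : ∃ x, U₂ = cj V x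
  le₁ : U₁ ≤ Pv V
  le₂ : U₂ ≤ Pv V
  ne₁ : U₁ ≠ V
  ne₂ : U₂ ≠ V
  sep : ∀ a ∈ U₁, ∀ b ∈ U₂, a ≠ 1 → b ≠ 1 → ¬ Commute a b

/-- A conjugate in `Q` lies in `P`. -/
theorem Hyp.le_Pv_of_le_Qv (h : Hyp V) {x : G} (hU : TISym.cj V x ≤ Qv V) : TISym.cj V x ≤ Pv V :=
  fun u hu => Subgroup.mem_inf.2 ⟨hU hu, Subgroup.mem_centralizer_iff.2 fun v hv =>
    (h.commute_of_le_normalizer (hU.trans (Qv_le V)) hu hv).eq.symm⟩

theorem Hyp.exists_pair (h : Hyp V) {U : Subgroup G} (hU : ∃ x, U = TISym.cj V x) (hUP : U ≤ Pv V)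
    (hne : U ≠ V) : ∃ U₂, Pair V U U₂ := by
  obtain ⟨x, rfl⟩ := hU
  -- some conjugate under `M` does not commute with `U`
  obtain ⟨m, hm, hnc⟩ : ∃ m ∈ Subgroup.normalizer (V : Set G), ∃ a ∈ TISym.cj V x,
      ∃ b ∈ TISym.cj V (m * x), ¬ Commute a b := by
    by_contra hh
    push Not at hh
    obtain ⟨k, hk⟩ : ∃ k : Set G, k = {w | ∃ m ∈ Subgroup.normalizer (V : Set G), w ∈ TISym.cj V (m * x)} ∪
        (V : Set G) := ⟨_, rfl⟩
    have hkP : ∀ w ∈ k, w ∈ Pv V := by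
      intro w hw
      rw [hk] at hw
      rcases hw with ⟨m, hm, hw⟩ | hw
      · rw [← cj_cj] at hw
        obtain ⟨u, hu, rfl⟩ := hw
        exact conj_mem_Pv hm (hUP hu)
      · exact h.le_Pv hw
    have hkc : ∀ a ∈ k, ∀ b ∈ k, a * b = b * a := by
      intro a ha b hb
      have haP := hkP a ha
      have hbP := hkP b hb
      rw [hk] at ha hb
      rcases ha with ⟨m, hm, ha⟩ | ha
      · rcases hb with ⟨n, hn, hb⟩ | hb
        · have := hh (m⁻¹ * n) (mul_mem (inv_mem hm) hn) (m⁻¹ * a * m) (by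
              rw [← cj_cj, mem_cj] at ha; exact ha)
            (m⁻¹ * b * m) (by
              rw [mem_cj] at hb ⊢
              simpa [mul_assoc] using hb)
          have e := this.map (MulAut.conj m).toMonoidHom
          simp only [MulEquiv.coe_toMonoidHom, MulAut.conj_apply] at e
          rw [show m * (m⁻¹ * a * m) * m⁻¹ = a by group,
            show m * (m⁻¹ * b * m) * m⁻¹ = b by group] at e
          exact e.eq
        · exact (commute_Pv haP hb).eq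
      · exact (commute_Pv hbP ha).eq.symm
    have e := h.maxab (Subgroup.closure k) (fun v hv => Subgroup.subset_closure (hk ▸ Or.inr hv))
      ((Subgroup.closure_le _).2 fun w hw => Pv_le_normalizer V (hkP w hw))
      (fun a ha b hb =>
        congrArg Subtype.val ((Subgroup.isMulCommutative_closure hkc).is_comm.comm ⟨a, ha⟩ ⟨b, hb⟩))
      (fun g hg a ha => by
        induction ha using Subgroup.closure_induction with
        | mem a ha =>
          refine Subgroup.subset_closure ?_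
          rw [hk] at ha ⊢
          rcases ha with ⟨m, hm, ha⟩ | ha
          · refine Or.inl ⟨g * m, mul_mem hg hm, ?_⟩
            rw [mem_cj] at ha ⊢
            simpa [mul_assoc] using ha
          · exact Or.inr ((Subgroup.mem_normalizer_iff.1 hg a).1 ha)
        | one => simp
        | mul a b _ _ ha hb => simpa [mul_assoc] using mul_mem ha hb
        | inv a _ ha => simpa [mul_assoc] using inv_mem ha)
    refine hne (Subgroup.eq_of_le_of_card_ge (fun u hu => e.le (Subgroup.subset_closure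
      (hk ▸ Or.inl ⟨1, one_mem _, by rwa [one_mul]⟩))) (card_cj V x).ge)
  obtain ⟨a₀, ha₀, b₀, hb₀, hab⟩ := hnc
  have hU2 : TISym.cj V (m * x) ≤ Pv V := by
    intro w hw
    rw [← cj_cj] at hw
    obtain ⟨u, hu, rfl⟩ := hw
    exact conj_mem_Pv hm (hUP hu)
  have hne2 : TISym.cj V (m * x) ≠ V := fun e => hab (commute_Pv (hUP ha₀) (e.le hb₀))
  refine ⟨_, h, ⟨x, rfl⟩, ⟨_, rfl⟩, hUP, hU2, hne, hne2, fun a ha b hb ha1 hb1 hc => hab ?_⟩
  have hside : ∀ {y z a b c : G}, TISym.cj V y ≠ V → TISym.cj V y ≤ Pv V → z ∈ Pv V → a ∈ TISym.cj V y →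
      a ≠ 1 → Commute z a → c ∈ TISym.cj V y → Commute z c := by
    intro y z a b c hny hP hz ha ha1 hza hc
    refine commutatorElement_eq_one_iff_mul_comm.1 (h.eq_one_of_mem hny ?_ (h.comm_mem hz (hP hc)))
    rw [commutatorElement_def]
    exact mul_mem ((h.cj y).conj_mem_of_commute ha ha1 hza hc) (inv_mem hc)
  have h1 : Commute a b₀ := hside (b := b) hne2 hU2 (hUP ha) hb hb1 hc hb₀
  exact (hside (b := b) hne hUP (hU2 hb₀) ha ha1 h1.symm ha₀).symm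

namespace Pair

variable {U₁ U₂ : Subgroup G}

theorem symm (hp : Pair V U₁ U₂) : Pair V U₂ U₁ :=
  ⟨hp.hyp, hp.conj₂, hp.conj₁, hp.le₂, hp.le₁, hp.ne₂, hp.ne₁,
    fun a ha b hb ha1 hb1 hc => hp.sep b hb a ha hb1 ha1 hc.symm⟩

theorem card₁ (hp : Pair V U₁ U₂) : Nat.card U₁ = Nat.card V := by
  obtain ⟨x, rfl⟩ := hp.conj₁
  exact card_cj V x

theorem inf₁ (hp : Pair V U₁ U₂) {w : G} (hw : w ∈ U₁) (hw' : w ∈ V) : w = 1 := by
  obtain ⟨x, rfl⟩ := hp.conj₁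
  exact hp.hyp.eq_one_of_mem hp.ne₁ hw hw'

theorem sq₁ (hp : Pair V U₁ U₂) {a : G} (ha : a ∈ U₁) : a * a = 1 := by
  obtain ⟨x, rfl⟩ := hp.conj₁
  exact (hp.hyp.cj x).sq a ha

theorem comm₁ (hp : Pair V U₁ U₂) {a b : G} (ha : a ∈ U₁) (hb : b ∈ U₁) : Commute a b := by
  obtain ⟨x, rfl⟩ := hp.conj₁
  exact (hp.hyp.cj x).comm ha hb

/-- An element of `P` commuting with one element of `U₁` centralizes it. -/
theorem commute_all (hp : Pair V U₁ U₂) {z a c : G} (hz : z ∈ Pv V) (ha : a ∈ U₁) (ha1 : a ≠ 1)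
    (hza : Commute z a) (hc : c ∈ U₁) : Commute z c := by
  refine commutatorElement_eq_one_iff_mul_comm.1 (hp.inf₁ ?_ (hp.hyp.comm_mem hz (hp.le₁ hc)))
  obtain ⟨x, rfl⟩ := hp.conj₁
  rw [commutatorElement_def]
  exact mul_mem ((hp.hyp.cj x).conj_mem_of_commute ha ha1 hza hc) (inv_mem hc)

/-- `b ↦ [a, b]` is a bijection of `U₂` with `V`. -/
theorem exists_comm (hp : Pair V U₁ U₂) {a v : G} (ha : a ∈ U₁) (ha1 : a ≠ 1) (hv : v ∈ V) :
    ∃ b ∈ U₂, ⁅a, b⁆ = v := by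
  let φ : U₂ →* V := MonoidHom.mk' (fun b => ⟨⁅a, (b : G)⁆, hp.hyp.comm_mem (hp.le₁ ha) (hp.le₂ b.2)⟩)
    fun b c => Subtype.ext (hp.hyp.comm_mul_right (hp.le₁ ha) (hp.le₂ b.2) (hp.le₂ c.2))
  have hinj : Function.Injective φ := (injective_iff_map_eq_one φ).2 fun b hb => by
    by_contra hb1
    exact hp.sep a ha b b.2 ha1 (fun e => hb1 (Subtype.ext e))
      (commutatorElement_eq_one_iff_mul_comm.1 (congrArg Subtype.val hb))
  obtain ⟨b, hb⟩ := ((Nat.bijective_iff_injective_and_card φ).2 ⟨hinj, hp.symm.card₁⟩).2 ⟨v, hv⟩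
  exact ⟨b, b.2, congrArg Subtype.val hb⟩

theorem exists_one_ne (hp : Pair V U₁ U₂) : ∃ a ∈ U₁, a ≠ 1 := by
  by_contra h
  push Not at h
  refine hp.ne₁ (Subgroup.eq_of_le_of_card_ge (fun a ha => ?_) hp.card₁.ge)
  rw [h a ha]
  exact one_mem _

/-- `C_P(U₁)`. -/
theorem decomp (hp : Pair V U₁ U₂) {x : G} (hx : x ∈ Pv V) :
    ∃ b ∈ U₂, ∀ c ∈ U₁, Commute (x * b) c := by
  obtain ⟨a, ha, ha1⟩ := hp.exists_one_ne
  obtain ⟨b, hb, e⟩ := hp.exists_comm ha ha1 (hp.hyp.comm_mem (hp.le₁ ha) hx)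
  refine ⟨b, hb, fun c hc => hp.commute_all (mul_mem hx (hp.le₂ hb)) ha ha1 ?_ hc⟩
  refine (commutatorElement_eq_one_iff_mul_comm.1 ?_ : Commute a (x * b)).symm
  rw [hp.hyp.comm_mul_right (hp.le₁ ha) hx (hp.le₂ hb), e, hp.hyp.sq _ (hp.hyp.comm_mem (hp.le₁ ha) hx)]

/-- The centre of `C_P(U₁)` is `U₁ V`. -/
theorem center_R (hp : Pair V U₁ U₂) {x : G} (hx : x ∈ Pv V) (hx₁ : ∀ c ∈ U₁, Commute x c)
    (hxc : ∀ r ∈ Pv V, (∀ c ∈ U₁, Commute r c) → Commute x r) :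
    ∃ a ∈ U₁, x * a ∈ V := by
  obtain ⟨a, ha, hxa⟩ := hp.symm.decomp hx
  refine ⟨a, ha, hp.hyp.center_Pv (mul_mem hx (hp.le₁ ha)) fun y hy => ?_⟩
  obtain ⟨b, hb, hr⟩ := hp.decomp hy
  have h1 : Commute (x * a) (y * b) :=
    (hxc _ (mul_mem hy (hp.le₂ hb)) hr).mul_left (hr a ha).symm
  have h2 : Commute (x * a) b := hxa b hb
  simpa using h1.mul_right h2.inv_right

theorem mem_cj_shear (hp : Pair V U₁ U₂) {a b : G} (ha : a ∈ U₁) (hb : b ∈ U₂) :
    a * ⁅a, b⁆ ∈ TISym.cj U₁ b := by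
  rw [mem_cj, hp.symm.hyp.comm_symm (hp.le₂ hb) (hp.le₁ ha)]
  have : b⁻¹ * (a * ⁅b, a⁆) * b = a := by
    rw [← (hp.hyp.comm_commute (hp.le₂ hb) (hp.le₁ ha) (hp.le₁ ha)).eq, commutatorElement_def]
    group
  rwa [this]

/-- The roles of `V` and `U₁` are symmetrical. -/
theorem le_Pv_self (hp : Pair V U₁ U₂) : V ≤ Pv U₁ := by
  obtain ⟨x, hx⟩ := hp.conj₁
  have hU : Hyp U₁ := hx ▸ hp.hyp.cj x
  have hVU : V ≤ Subgroup.normalizer (U₁ : Set G) := fun v hv => Subgroup.mem_normalizer_iff.2 fun w => by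
    constructor <;> intro hw
    · rw [← (commute_Pv (hp.le₁ hw) hv).eq, mul_inv_cancel_right]; exact hw
    · have := (commute_Pv (hp.le₁ hw) hv)
      have e : w = v * w * v⁻¹ := by
        calc w = v⁻¹ * ((v * w * v⁻¹) * v) := by group
          _ = v⁻¹ * (v * (v * w * v⁻¹)) := by rw [this.eq]
          _ = _ := by group
      rw [e]; exact hw
  suffices hQ : V ≤ Qv U₁ by
    intro v hv
    exact Subgroup.mem_inf.2 ⟨hQ hv, Subgroup.mem_centralizer_iff.2 fun a ha =>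
      (commute_Pv (hp.le₁ ha) hv).eq⟩
  obtain ⟨R, hR⟩ : ∃ R : Subgroup G, R = Pv V ⊓ Subgroup.centralizer (U₁ : Set G) := ⟨_, rfl⟩
  have hRn : R ≤ Subgroup.normalizer (U₁ : Set G) :=
    hR ▸ inf_le_right.trans (Subgroup.centralizer_le_normalizer _)
  have hVR : V ≤ R := fun v hv => hR ▸ Subgroup.mem_inf.2
    ⟨hp.hyp.le_Pv hv, Subgroup.mem_centralizer_iff.2 fun a ha => (commute_Pv (hp.le₁ ha) hv).eq⟩
  have hnorm : R ≤ Subgroup.normalizer (Pv U₁ : Set G) := fun r hr =>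
    Fus.TISym.mem_normalizer_of_cj (Subgroup.eq_of_le_of_card_ge
      (by rintro _ ⟨y, hy, rfl⟩; exact conj_mem_Pv (hRn hr) hy) (card_cj _ _).ge)
  obtain ⟨T, hT⟩ : ∃ T : Subgroup G, T = R ⊔ Pv U₁ := ⟨_, rfl⟩
  have hTp : IsPGroup 2 T := hT ▸ IsPGroup.to_sup_of_normal_right'
    ((isPGroup_Qv V).to_le (hR ▸ inf_le_left.trans inf_le_left)) ((isPGroup_Qv U₁).to_le inf_le_left) hnorm
  have hTc : T ≤ Subgroup.centralizer (U₁ : Set G) := hT ▸ sup_le (hR ▸ inf_le_right) inf_le_right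
  obtain ⟨T₀, hT₀⟩ : ∃ T₀ : Subgroup G, T₀ = T ⊓ Subgroup.normalizer (V : Set G) := ⟨_, rfl⟩
  -- `C_{O₂}(U₁)` does not normalize `V`
  have hlt : T₀ < T := by
    refine lt_of_le_of_ne (hT₀ ▸ inf_le_left) fun e => ?_
    have hP : ∀ y ∈ Pv U₁, y ∈ Subgroup.normalizer (V : Set G) := fun y hy =>
      (hT₀.le (e.ge (hT ▸ Subgroup.mem_sup_right hy))).2
    have h0 : ∀ v ∈ V, v ∈ Pv U₁ → v = 1 := fun v hv hvP => hp.inf₁ (hU.center_Pv hvP fun y hy => by
      refine commutatorElement_eq_one_iff_mul_comm.1 (hp.inf₁ (hU.comm_mem hvP hy) ?_)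
      rw [show ⁅v, y⁆ = v * (y * v⁻¹ * y⁻¹) by rw [commutatorElement_def]; group]
      exact mul_mem hv ((Subgroup.mem_normalizer_iff.1 (hP y hy) _).1 (inv_mem hv))) hv
    obtain ⟨a, ha, ha1⟩ := hp.exists_one_ne
    obtain ⟨v, hv, hv1⟩ : ∃ v ∈ V, v ≠ 1 := by
      obtain ⟨b, hb, hb1⟩ := hp.symm.exists_one_ne
      exact ⟨_, hp.hyp.comm_mem (hp.le₁ ha) (hp.le₂ hb),
        fun e => hp.sep a ha b hb ha1 hb1 (commutatorElement_eq_one_iff_mul_comm.1 e)⟩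
    refine hv1 (h0 v hv (hU.mem_Pv_of_stable (hVU hv)
      (fun c hc => (commute_Pv (hp.le₁ hc) hv).symm) fun y hy => ?_))
    have h1 : ⁅v, y⁆ ∈ V := by
      rw [show ⁅v, y⁆ = v * (y * v⁻¹ * y⁻¹) by rw [commutatorElement_def]; group]
      exact mul_mem hv ((Subgroup.mem_normalizer_iff.1 (hP y hy) _).1 (inv_mem hv))
    have h2 : ⁅v, y⁆ ∈ Pv U₁ := by
      rw [commutatorElement_def]
      exact mul_mem (conj_mem_Pv (hVU hv) hy) (inv_mem hy)
    rw [h0 _ h1 h2]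
    exact one_mem _
  obtain ⟨s, hsT, hsn, hs⟩ : ∃ s ∈ T, s ∈ Subgroup.normalizer (T₀ : Set G) ∧ s ∉ T₀ := by
    haveI : Group.IsNilpotent T := hTp.isNilpotent
    obtain ⟨⟨s, hsT⟩, hsn, hs⟩ := SetLike.exists_of_lt (Group.normalizerCondition_of_isNilpotent
      (T₀.subgroupOf T) (lt_top_iff_ne_top.2 fun e =>
        absurd (Subgroup.subgroupOf_eq_top.1 e) (not_le_of_gt hlt)))
    refine ⟨s, hsT, Subgroup.mem_normalizer_iff.2 fun w => ?_, fun h => hs h⟩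
    constructor
    · intro hw
      exact (Subgroup.mem_normalizer_iff.1 hsn ⟨w, hlt.le hw⟩).1 hw
    · intro hw
      have hwT : w ∈ T := by
        simpa [mul_assoc] using mul_mem (mul_mem (inv_mem hsT) (hlt.le hw)) hsT
      exact (Subgroup.mem_normalizer_iff.1 hsn ⟨w, hwT⟩).2 hw
  have hsV : TISym.cj V s ≠ V := fun e => hs (hT₀ ▸ Subgroup.mem_inf.2 ⟨hsT, mem_normalizer_of_cj e⟩)
  have hsU : TISym.cj U₁ s = U₁ :=
    cj_eq_of_mem (Subgroup.centralizer_le_normalizer _ (hTc hsT))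
  obtain ⟨W₁, hW₁⟩ : ∃ W₁, W₁ = TISym.cj V s := ⟨_, rfl⟩
  have hVT₀ : V ≤ T₀ := hT₀ ▸ le_inf (hVR.trans (hT ▸ le_sup_left)) Subgroup.le_normalizer
  have hW₁T₀ : W₁ ≤ T₀ := by
    rw [hW₁]
    rintro _ ⟨v, hv, rfl⟩
    exact (Subgroup.mem_normalizer_iff.1 hsn v).1 (hVT₀ hv)
  have hT₀W : ∀ t ∈ T₀, t ∈ Subgroup.normalizer (W₁ : Set G) := fun t ht => by
    rw [hW₁, mem_normalizer_cj]
    exact (hT₀.le ((Subgroup.mem_normalizer_iff''.1 hsn t).1 ht)).2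
  have hWM : W₁ ≤ Subgroup.normalizer (V : Set G) := fun w hw => (hT₀.le (hW₁T₀ hw)).2
  have hWV : ∀ w ∈ W₁, ∀ v ∈ V, Commute w v := fun w hw v hv =>
    hp.hyp.commute_of_le_normalizer (x := s) (hW₁ ▸ hWM) (hW₁ ▸ hw) hv
  have hWU : ∀ w ∈ W₁, ∀ c ∈ U₁, Commute w c := fun w hw c hc =>
    (Subgroup.mem_centralizer_iff.1 (hTc (hlt.le (hW₁T₀ hw))) c hc).symm
  have hRT₀ : R ≤ T₀ := hT₀ ▸ le_inf (hT ▸ le_sup_left) (hR ▸ inf_le_left.trans (Pv_le_normalizer V))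
  have hWone : ∀ w ∈ W₁, w ∈ V → w = 1 := fun w hw hv =>
    hp.hyp.eq_one_of_mem hsV (hW₁ ▸ hw) hv
  have hWR : ∀ w ∈ W₁, ∀ r ∈ R, ⁅w, r⁆ ∈ W₁ ⊓ R := fun w hw r hr => by
    have hwn : w ∈ Subgroup.normalizer (V : Set G) := hWM hw
    refine Subgroup.mem_inf.2 ⟨?_, ?_⟩
    · rw [show ⁅w, r⁆ = w * (r * w⁻¹ * r⁻¹) by rw [commutatorElement_def]; group]
      exact mul_mem hw ((Subgroup.mem_normalizer_iff.1 (hT₀W r (hRT₀ hr)) _).1 (inv_mem hw))
    · rw [hR] at hr ⊢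
      rw [commutatorElement_def]
      refine mul_mem (Subgroup.mem_inf.2 ⟨conj_mem_Pv hwn hr.1, ?_⟩) (inv_mem hr)
      exact mul_mem (mul_mem (Subgroup.mem_centralizer_iff.2 fun c hc => (hWU w hw c hc).eq.symm) hr.2)
        (inv_mem (Subgroup.mem_centralizer_iff.2 fun c hc => (hWU w hw c hc).eq.symm))
  by_cases hX : ∃ u ∈ W₁, u ∈ R ∧ u ≠ 1
  · obtain ⟨u, huW, huR, hu1⟩ := hX
    rw [hR] at huR
    obtain ⟨a, ha, hua⟩ := hp.center_R huR.1 (fun c hc => hWU u huW c hc) fun r hr hrc => by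
      have hrR : r ∈ R := hR ▸ Subgroup.mem_inf.2
        ⟨hr, Subgroup.mem_centralizer_iff.2 fun c hc => (hrc c hc).eq.symm⟩
      exact commutatorElement_eq_one_iff_mul_comm.1
        (hWone _ (hWR u huW r hrR).1 (hp.hyp.comm_mem huR.1 hr))
    have ha1 : a ≠ 1 := fun e => hu1 (hWone u huW (by simpa [e] using hua))
    obtain ⟨b, hb, hbc⟩ := hp.exists_comm ha ha1 (hua : u * a ∈ V)
    have hbb : b * b = 1 := hp.symm.sq₁ hb
    have huV : u = a * ⁅a, b⁆ := by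
      rw [hbc, ← mul_assoc, (show Commute a u from (hWU u huW a ha).symm).eq, mul_assoc,
        hp.sq₁ ha, mul_one]
    have hWb : W₁ = TISym.cj U₁ b := by
      have := hp.hyp.eq_of_meet (x := s) (y := b * x) (hW₁ ▸ huW) (by
        rw [← cj_cj, ← hx, huV]; exact hp.mem_cj_shear ha hb) hu1
      rw [hW₁, this, hx, cj_cj]
    have hbV : TISym.cj V b = V := cj_eq_of_mem (Pv_le_normalizer V (hp.le₂ hb))
    -- `W₁ ≤ O₂(N(U₁))`
    have hWQ : W₁ ≤ Qv U₁ := by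
      have h1 : U₁ ≤ Qv (TISym.cj U₁ b) := by
        rw [← hWb, hW₁, Qv_cj]
        intro c hc
        rw [← hsU] at hc
        obtain ⟨c', hc', rfl⟩ := hc
        exact conj_mem_cj (Subgroup.mem_inf.1 (hp.le₁ hc')).1 s
      rw [hWb]
      rintro _ ⟨c, hc, rfl⟩
      have := h1 hc
      rw [Qv_cj, mem_cj, inv_eq_of_mul_eq_one_right hbb] at this
      show b * c * b⁻¹ ∈ Qv U₁
      rwa [inv_eq_of_mul_eq_one_right hbb]
    intro v hv
    by_cases hv1 : v = 1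
    · rw [hv1]; exact one_mem _
    have hb1 : b ≠ 1 := fun e => hu1 (by
      rw [e] at huV
      refine hWone u huW ?_
      have : W₁ = U₁ := by rw [hWb, e, cj_one]
      exfalso
      exact hp.ne₁ (by
        have h3 : TISym.cj V s = TISym.cj U₁ s := by rw [hsU, ← hW₁, this]
        exact (Subgroup.map_injective (MulAut.conj s).injective h3).symm))
    obtain ⟨c, hc, hcv⟩ := hp.symm.exists_comm hb hb1 hv
    rw [hp.symm.hyp.comm_symm (hp.le₁ hc) (hp.le₂ hb)] at hcv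
    have h2 : c * v ∈ Qv U₁ := hWQ (hWb.ge (hcv ▸ hp.mem_cj_shear hc hb))
    have h3 : c ∈ Qv U₁ := (hU.le_Pv hc).1
    simpa using mul_mem (inv_mem h3) h2
  · push Not at hX
    exfalso
    obtain ⟨w, hw, hw1⟩ : ∃ w ∈ W₁, w ≠ 1 := by
      by_contra h
      push Not at h
      refine hsV (Subgroup.eq_of_le_of_card_ge (fun w hw => ?_) (card_cj V s).ge)
      rw [h w (hW₁ ▸ hw)]; exact one_mem _
    have hwR : ∀ r ∈ R, Commute w r := fun r hr => commutatorElement_eq_one_iff_mul_comm.1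
      (hX _ (hWR w hw r hr).1 (hWR w hw r hr).2)
    have hstab : ∀ b ∈ U₂, ⁅w, b⁆ ∈ V := by
      intro b hb
      have hwn := hWM hw
      have hxP : ⁅w, b⁆ ∈ Pv V := by
        rw [commutatorElement_def]
        exact mul_mem (conj_mem_Pv hwn (hp.le₂ hb)) (inv_mem (hp.le₂ hb))
      have hcr : ∀ r ∈ R, Commute ⁅w, b⁆ r := by
        intro r hr
        have hrP : r ∈ Pv V := (hR.le hr).1
        refine commutatorElement_eq_one_iff_mul_comm.1 ?_
        have e : ⁅w * b * w⁻¹, r⁆ = ⁅b, r⁆ := by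
          calc ⁅w * b * w⁻¹, r⁆ = w * ⁅b, w⁻¹ * r * w⁆ * w⁻¹ := by
                simp only [commutatorElement_def]; group
            _ = w * ⁅b, r⁆ * w⁻¹ := by rw [mul_assoc w⁻¹, ← (hwR r hr).eq, inv_mul_cancel_left]
            _ = _ := by rw [(hWV w hw _ (hp.hyp.comm_mem (hp.le₂ hb) hrP)).eq, mul_inv_cancel_right]
        rw [show w * b * w⁻¹ = ⁅w, b⁆ * b by rw [commutatorElement_def, inv_mul_cancel_right],
          hp.hyp.comm_mul_left hxP (hp.le₂ hb) hrP, mul_eq_right] at e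
        exact e
      obtain ⟨a, ha, hxa⟩ := hp.center_R hxP
        (fun c hc => hcr c (hR ▸ Subgroup.mem_inf.2
          ⟨hp.le₁ hc, Subgroup.mem_centralizer_iff.2 fun d hd => (hp.comm₁ hd hc).eq⟩))
        fun r hr hrc => hcr r (hR ▸ Subgroup.mem_inf.2
          ⟨hr, Subgroup.mem_centralizer_iff.2 fun c hc => (hrc c hc).eq.symm⟩)
      by_cases hb1 : b = 1
      · simp [hb1]
      by_cases ha1 : a = 1
      · simpa [ha1] using hxa
      exfalso
      refine hp.sep a ha b hb ha1 hb1 ?_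
      -- `[w,b]` commutes with `b`
      obtain ⟨z, hz⟩ : ∃ z, z = ⁅w, b⁆ := ⟨_, rfl⟩
      rw [← hz] at hxa hxP
      have hza : z = (z * a) * a := by rw [mul_assoc, hp.sq₁ ha, mul_one]
      have hzz : z * z = 1 := by
        have hc1 : Commute (z * a) a := (commute_Pv (hp.le₁ ha) hxa).symm
        rw [hza]
        calc z * a * a * (z * a * a) = (z * a) * ((a * (z * a)) * a) := by group
          _ = (z * a) * (((z * a) * a) * a) := by rw [hc1.eq]
          _ = ((z * a) * (z * a)) * (a * a) := by group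
          _ = 1 := by rw [hp.hyp.sq _ hxa, hp.sq₁ ha, mul_one]
      have hbi := hp.symm.sq₁ hb
      have e : (z * b) * (z * b) = 1 := by
        rw [hz, commutatorElement_def, inv_mul_cancel_right]
        calc w * b * w⁻¹ * (w * b * w⁻¹) = w * (b * b) * w⁻¹ := by group
          _ = 1 := by rw [hbi, mul_one, mul_inv_cancel]
      have hzb : Commute z b := by
        calc z * b = (z * b)⁻¹ := eq_inv_of_mul_eq_one_left e
          _ = b * z := by
            rw [mul_inv_rev, inv_eq_of_mul_eq_one_right hbi, inv_eq_of_mul_eq_one_right hzz]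
      have hab : a = z⁻¹ * (z * a) := by group
      rw [hab]
      exact hzb.inv_left.mul_left (commute_Pv (hp.le₂ hb) hxa).symm
    have hwP : w ∈ Pv V := hp.hyp.mem_Pv_of_stable (hWM hw) (hWV w hw) fun y hy => by
      obtain ⟨b, hb, hr⟩ := hp.decomp hy
      have hrR : y * b ∈ R := hR ▸ Subgroup.mem_inf.2
        ⟨mul_mem hy (hp.le₂ hb), Subgroup.mem_centralizer_iff.2 fun c hc => (hr c hc).eq.symm⟩
      have hbi := inv_eq_of_mul_eq_one_right (hp.symm.sq₁ hb)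
      rw [show y = (y * b) * b by rw [mul_assoc, hp.symm.sq₁ hb, mul_one],
        show ⁅w, y * b * b⁆ = ⁅w, y * b⁆ * ((y * b) * ⁅w, b⁆ * (y * b)⁻¹) by
          simp only [commutatorElement_def]; group,
        commutatorElement_eq_one_iff_mul_comm.2 (hwR _ hrR).eq, one_mul,
        (commute_Pv (hR.le hrR).1 (hstab b hb)).eq, mul_inv_cancel_right]
      exact hstab b hb
    exact hw1 (hX w hw (hR ▸ Subgroup.mem_inf.2
      ⟨hwP, Subgroup.mem_centralizer_iff.2 fun c hc => (hWU w hw c hc).eq.symm⟩))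

/-- The conjugates in `U₁ V` other than `V`. -/
theorem cover (hp : Pair V U₁ U₂) {w : G} (hw : w ∈ U₁ ⊔ V) (hwV : w ∉ V) :
    ∃ b ∈ U₂, w ∈ TISym.cj U₁ b := by
  have hn : U₁ ≤ Subgroup.normalizer (V : Set G) := hp.le₁.trans (Pv_le_normalizer V)
  rw [← SetLike.mem_coe, Subgroup.coe_mul_of_left_le_normalizer_right U₁ V hn] at hw
  obtain ⟨a, ha, v, hv, rfl⟩ := hw
  have ha1 : a ≠ 1 := fun e => hwV (by simpa [e] using hv)
  obtain ⟨b, hb, rfl⟩ := hp.exists_comm ha ha1 hv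
  exact ⟨b, hb, hp.mem_cj_shear ha hb⟩

/-- A conjugate meeting `U₁ V` outside `V` is a shear of `U₁`. -/
theorem eq_shear (hp : Pair V U₁ U₂) {x w : G} (hw : w ∈ U₁ ⊔ V) (hwV : w ∉ V)
    (hwx : w ∈ TISym.cj V x) : ∃ b ∈ U₂, TISym.cj V x = TISym.cj U₁ b := by
  obtain ⟨b, hb, hwb⟩ := hp.cover hw hwV
  obtain ⟨y, rfl⟩ := hp.conj₁
  rw [cj_cj] at hwb
  exact ⟨b, hb, by rw [cj_cj]; exact hp.hyp.eq_of_meet hwx hwb (fun e => hwV (by rw [e]; exact one_mem _))⟩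

theorem shear_eq (hp : Pair V U₁ U₂) {a b : G} (ha : a ∈ U₁) (hb : b ∈ U₂) :
    b * a * b⁻¹ = a * ⁅a, b⁆ := by
  rw [← hp.hyp.comm_symm (hp.le₁ ha) (hp.le₂ hb),
    ← (hp.hyp.comm_commute (hp.le₂ hb) (hp.le₁ ha) (hp.le₁ ha)).eq, commutatorElement_def,
    inv_mul_cancel_right]

/-- A shear in the other direction. -/
theorem exists_shear (hp : Pair V U₁ U₂) {e : G} (he : e ∈ U₂) (he1 : e ≠ 1) :
    ∃ k ∈ Pv U₁, ∀ v ∈ V, ∃ a ∈ U₁, ⁅a, e⁆ = v ∧ k * v * k⁻¹ = a * v := by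
  obtain ⟨x, hx⟩ := hp.conj₁
  have hU : Hyp U₁ := hx ▸ hp.hyp.cj x
  obtain ⟨U₃, hq⟩ := hU.exists_pair (U := V) ⟨x⁻¹, by rw [hx, cj_cj, inv_mul_cancel, cj_one]⟩
    hp.le_Pv_self (Ne.symm hp.ne₁)
  obtain ⟨a₀, ha₀, ha₀1⟩ := hp.exists_one_ne
  have hv₀ : ⁅a₀, e⁆ ≠ 1 := fun h1 =>
    hp.sep a₀ ha₀ e he ha₀1 he1 (commutatorElement_eq_one_iff_mul_comm.1 h1)
  have hv₀V := hp.hyp.comm_mem (hp.le₁ ha₀) (hp.le₂ he)
  obtain ⟨k, hk, hke⟩ := hq.exists_comm hv₀V hv₀ ha₀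
  have hline : TISym.cj U₁ e = TISym.cj V k := by
    have h1 : ⁅a₀, e⁆ * ⁅⁅a₀, e⁆, k⁆ ∈ TISym.cj V k := hq.mem_cj_shear hv₀V hk
    rw [hke, (commute_Pv (hp.le₁ ha₀) hv₀V).symm.eq] at h1
    have h2 := hp.mem_cj_shear ha₀ he
    rw [hx, cj_cj] at h2 ⊢
    exact hp.hyp.eq_of_meet h2 h1 fun h3 => hv₀ (hp.inf₁ (by
      rw [show ⁅a₀, e⁆ = a₀⁻¹ from eq_inv_of_mul_eq_one_right h3]; exact inv_mem ha₀) hv₀V)
  refine ⟨k, hq.le₂ hk, fun v hv => ?_⟩
  obtain ⟨c, hc, hcv⟩ : k * v * k⁻¹ ∈ TISym.cj U₁ e := hline ▸ conj_mem_cj hv k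
  change e * c * e⁻¹ = k * v * k⁻¹ at hcv
  have hd : ⁅v, k⁆ ∈ U₁ := hU.comm_mem (hp.le_Pv_self hv) (hq.le₂ hk)
  rw [hp.shear_eq hc he, hq.shear_eq hv hk, (commute_Pv (hq.le₁ hv) hd).eq] at hcv
  -- compare the components in `U₁ × V`
  have hcd : c⁻¹ * ⁅v, k⁆ = ⁅c, e⁆ * v⁻¹ := by
    calc c⁻¹ * ⁅v, k⁆ = c⁻¹ * (⁅v, k⁆ * v) * v⁻¹ := by group
      _ = c⁻¹ * (c * ⁅c, e⁆) * v⁻¹ := by rw [hcv]
      _ = ⁅c, e⁆ * v⁻¹ := by group
  have h1 : c⁻¹ * ⁅v, k⁆ = 1 := hp.inf₁ (mul_mem (inv_mem hc) hd)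
    (hcd ▸ mul_mem (hp.hyp.comm_mem (hp.le₁ hc) (hp.le₂ he)) (inv_mem hv))
  refine ⟨c, hc, mul_inv_eq_one.1 (hcd ▸ h1), ?_⟩
  rw [hq.shear_eq hv hk, (commute_Pv (hq.le₁ hv) hd).eq, ← inv_mul_eq_one.1 h1]

/-- The slopes of the spread are closed under inversion. -/
theorem inv_slope (hp : Pair V U₁ U₂) {e y : G} (he : e ∈ U₂) (he1 : e ≠ 1) (hy : y ∈ U₂)
    (hy1 : y ≠ 1) : ∃ z ∈ U₂, ∀ a ∈ U₁, ∀ a' ∈ U₁, ⁅a', e⁆ = ⁅a, y⁆ → ⁅a', z⁆ = ⁅a, e⁆ := by
  obtain ⟨k, hk, hkv⟩ := hp.exists_shear he he1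
  obtain ⟨w, hw⟩ : ∃ w, w = e * k * e := ⟨_, rfl⟩
  have hei : e⁻¹ = e := inv_eq_of_mul_eq_one_right (hp.symm.sq₁ he)
  have hkU : ∀ a ∈ U₁, k * a * k⁻¹ = a := fun a ha => by
    rw [(commute_Pv hk ha).eq, mul_inv_cancel_right]
  have huniq : ∀ a ∈ U₁, ∀ a' ∈ U₁, ⁅a, e⁆ = ⁅a', e⁆ → a = a' := fun a ha a' ha' h => by
    by_contra hne
    refine hp.sep _ (mul_mem (inv_mem ha) ha') e he (fun h1 => hne (inv_mul_eq_one.1 h1)) he1
      (commutatorElement_eq_one_iff_mul_comm.1 ?_)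
    rw [show a⁻¹ = a from inv_eq_of_mul_eq_one_right (hp.sq₁ ha),
      hp.hyp.comm_mul_left (hp.le₁ ha) (hp.le₁ ha') (hp.le₂ he), h,
      hp.hyp.sq _ (hp.hyp.comm_mem (hp.le₁ ha') (hp.le₂ he))]
  have heV : ∀ v ∈ V, e * v * e⁻¹ = v := fun v hv => by
    rw [(commute_Pv (hp.le₂ he) hv).eq, mul_inv_cancel_right]
  have hcu : ∀ a ∈ U₁, ∀ v ∈ V, Commute a v := fun a ha v hv => commute_Pv (hp.le₁ ha) hv
  -- `w` exchanges the two axes
  have hwA : ∀ a ∈ U₁, w * a * w⁻¹ = ⁅a, e⁆ := fun a ha => by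
    have hvV := hp.hyp.comm_mem (hp.le₁ ha) (hp.le₂ he)
    obtain ⟨c, hc, hce, hck⟩ := hkv _ hvV
    obtain rfl := huniq c hc a ha hce
    rw [hw, show e * k * e * c * (e * k * e)⁻¹ = e * (k * (e * c * e⁻¹) * k⁻¹) * e⁻¹ by group,
      hp.shear_eq hc he, show k * (c * ⁅c, e⁆) * k⁻¹ = k * c * k⁻¹ * (k * ⁅c, e⁆ * k⁻¹) by group,
      hck, hkU c hc, ← mul_assoc c, hp.sq₁ hc, one_mul, heV _ hvV]
  have hwV : ∀ v ∈ V, ∀ a ∈ U₁, ⁅a, e⁆ = v → w * v * w⁻¹ = a := fun v hv a ha hav => by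
    obtain ⟨c, hc, hce, hck⟩ := hkv v hv
    obtain rfl := huniq c hc a ha (hce.trans hav.symm)
    rw [hw, show e * k * e * v * (e * k * e)⁻¹ = e * (k * (e * v * e⁻¹) * k⁻¹) * e⁻¹ by group,
      heV v hv, hck, show e * (c * v) * e⁻¹ = e * c * e⁻¹ * (e * v * e⁻¹) by group, hp.shear_eq hc he,
      heV v hv, hce, mul_assoc, hp.hyp.sq v hv, mul_one]
  obtain ⟨a₀, ha₀, ha₀1⟩ := hp.exists_one_ne
  have hyV := hp.hyp.comm_mem (hp.le₁ ha₀) (hp.le₂ hy)
  obtain ⟨a₀', ha₀', ha₀e, -⟩ := hkv _ hyV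
  have hne0 : a₀' ≠ 1 := fun h1 => by
    rw [h1, commutatorElement_one_left] at ha₀e
    exact hp.sep a₀ ha₀ y hy ha₀1 hy1 (commutatorElement_eq_one_iff_mul_comm.1 ha₀e.symm)
  have himg : ∀ a ∈ U₁, ∀ a' ∈ U₁, ⁅a', e⁆ = ⁅a, y⁆ →
      w * (a * ⁅a, y⁆) * w⁻¹ = a' * ⁅a, e⁆ := fun a ha a' ha' h => by
    rw [show w * (a * ⁅a, y⁆) * w⁻¹ = w * a * w⁻¹ * (w * ⁅a, y⁆ * w⁻¹) by group, hwA a ha,
      hwV _ (hp.hyp.comm_mem (hp.le₁ ha) (hp.le₂ hy)) a' ha' h]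
    exact (hcu a' ha' _ (hp.hyp.comm_mem (hp.le₁ ha) (hp.le₂ he))).eq.symm
  obtain ⟨z, hz, hzeq⟩ : ∃ z ∈ U₂, ∀ a ∈ U₁, w * (a * ⁅a, y⁆) * w⁻¹ ∈ TISym.cj U₁ z := by
    obtain ⟨x, hx⟩ := hp.conj₁
    have hW : ∀ a ∈ U₁, w * (a * ⁅a, y⁆) * w⁻¹ ∈ TISym.cj V (w * (y * x)) := fun a ha => by
      rw [← cj_cj V (y * x) w, ← cj_cj V x y, ← hx]
      exact conj_mem_cj (hp.mem_cj_shear ha hy) w
    obtain ⟨z, hz, hze⟩ := hp.eq_shear (x := w * (y * x))
      (w := w * (a₀ * ⁅a₀, y⁆) * w⁻¹)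
      (by
        rw [himg a₀ ha₀ a₀' ha₀' ha₀e]
        exact Subgroup.mul_mem_sup ha₀' (hp.hyp.comm_mem (hp.le₁ ha₀) (hp.le₂ he)))
      (by
        rw [himg a₀ ha₀ a₀' ha₀' ha₀e]
        exact fun h => hne0 (hp.inf₁ ha₀' (by
          have := mul_mem h (inv_mem (hp.hyp.comm_mem (hp.le₁ ha₀) (hp.le₂ he)))
          rwa [mul_inv_cancel_right] at this)))
      (hW a₀ ha₀)
    exact ⟨z, hz, fun a ha => hze ▸ hW a ha⟩
  refine ⟨z, hz, fun a ha a' ha' h => ?_⟩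
  obtain ⟨c, hc, hce⟩ := hzeq a ha
  change z * c * z⁻¹ = _ at hce
  rw [hp.shear_eq hc hz, himg a ha a' ha' h] at hce
  have hv1 := hp.hyp.comm_mem (hp.le₁ hc) (hp.le₂ hz)
  have hv2 := hp.hyp.comm_mem (hp.le₁ ha) (hp.le₂ he)
  have hkey : c⁻¹ * a' = ⁅c, z⁆ * ⁅a, e⁆⁻¹ := by
    calc c⁻¹ * a' = c⁻¹ * (a' * ⁅a, e⁆) * ⁅a, e⁆⁻¹ := by group
      _ = c⁻¹ * (c * ⁅c, z⁆) * ⁅a, e⁆⁻¹ := by rw [hce]
      _ = _ := by group
  have h1 : c⁻¹ * a' = 1 := hp.inf₁ (mul_mem (inv_mem hc) ha') (hkey ▸ mul_mem hv1 (inv_mem hv2))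
  rw [← inv_mul_eq_one.1 h1]
  exact mul_inv_eq_one.1 (hkey ▸ h1)

end Pair

end Cfsg.Agent.Fus.TISym
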