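import Mathlib
import Cfsg.Agent.Lib.Grp.SL2Basic
import Cfsg.Agent.Lib.Fus.SLTwoAdjoinBasic
import Cfsg.Agent.Lib.Fus.SemifieldInv
import Cfsg.Agent.Lib.Fus.TISymplectic

/-!
The spread of conjugates in `U₁ V` is coordinatised by a field, and the two unipotent groups
induce `SL(2, q)` on it.
-/

set_option autoImplicit false
set_option linter.unusedSectionVars false
set_option linter.style.haveILetI false

namespace Cfsg.Agent.Fus.TISym

open scoped commutatorElement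

variable {G : Type*} [Group G] [Finite G] {V U₁ U₂ : Subgroup G}

/-- Coordinates: `[A x, B y] = C (x y)`. -/
structure Coords (V U₁ U₂ : Subgroup G) {F : Type} [Field F] (A B C : F → G) : Prop where
  A_mem : ∀ x, A x ∈ U₁
  B_mem : ∀ x, B x ∈ U₂
  C_mem : ∀ x, C x ∈ V
  A_surj : ∀ a ∈ U₁, ∃ x, A x = a
  B_surj : ∀ b ∈ U₂, ∃ x, B x = b
  C_surj : ∀ v ∈ V, ∃ x, C x = v
  A_inj : Function.Injective A
  B_inj : Function.Injective B
  C_inj : Function.Injective C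
  A_add : ∀ x y, A (x + y) = A x * A y
  B_add : ∀ x y, B (x + y) = B x * B y
  C_add : ∀ x y, C (x + y) = C x * C y
  comm : ∀ x y, ⁅A x, B y⁆ = C (x * y)

namespace Pair

/-- `a ↦ [a, b]`. -/
noncomputable def leftEquiv (hp : Pair V U₁ U₂) {b : G} (hb : b ∈ U₂) (hb1 : b ≠ 1) : U₁ ≃* V :=
  MulEquiv.ofBijective
    (MonoidHom.mk' (fun a : U₁ => (⟨⁅(a : G), b⁆, hp.hyp.comm_mem (hp.le₁ a.2) (hp.le₂ hb)⟩ : V))
      fun a c => Subtype.ext (hp.hyp.comm_mul_left (hp.le₁ a.2) (hp.le₁ c.2) (hp.le₂ hb)))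
    ((Nat.bijective_iff_surjective_and_card _).2 ⟨fun v => by
      obtain ⟨a, ha, h⟩ := hp.symm.exists_comm hb hb1 v.2
      exact ⟨⟨a, ha⟩, Subtype.ext (by
        show ⁅a, b⁆ = (v : G)
        rw [hp.hyp.comm_symm (hp.le₂ hb) (hp.le₁ ha), h])⟩, hp.card₁⟩)

theorem leftEquiv_symm_spec (hp : Pair V U₁ U₂) {b : G} (hb : b ∈ U₂) (hb1 : b ≠ 1) (v : V) :
    ⁅(((hp.leftEquiv hb hb1).symm v : U₁) : G), b⁆ = (v : G) :=
  congrArg Subtype.val ((hp.leftEquiv hb hb1).apply_symm_apply v)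

theorem comm_eq_one (hp : Pair V U₁ U₂) {a b : G} (ha : a ∈ U₁) (hb : b ∈ U₂) (h : ⁅a, b⁆ = 1) :
    a = 1 ∨ b = 1 := by
  by_contra hne
  push Not at hne
  exact hp.sep a ha b hb hne.1 hne.2 (commutatorElement_eq_one_iff_mul_comm.1 h)

end Pair

/-- A carrier for the coordinate field in `Type`. -/
def Idx (n : ℕ) : Type := Fin n

theorem Pair.exists_coords (hp : Pair V U₁ U₂) :
    ∃ (F : Type) (_ : Field F) (_ : Fintype F) (A B C : F → G), Coords V U₁ U₂ A B C := by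
  letI : CommGroup ↥V :=
    { (inferInstance : Group ↥V) with mul_comm := fun a b => Subtype.ext (hp.hyp.comm a.2 b.2).eq }
  obtain ⟨e₁, he₁, he₁1⟩ := hp.exists_one_ne
  obtain ⟨e₂, he₂, he₂1⟩ := hp.symm.exists_one_ne
  obtain ⟨ι₁, hι₁⟩ : ∃ ι : ↥V ≃* ↥U₁, ∀ v, ⁅(ι v : G), e₂⁆ = v :=
    ⟨(hp.leftEquiv he₂ he₂1).symm, hp.leftEquiv_symm_spec he₂ he₂1⟩
  obtain ⟨ι₂, hι₂⟩ : ∃ ι : ↥V ≃* ↥U₂, ∀ v, ⁅e₁, (ι v : G)⁆ = v :=
    ⟨(hp.symm.leftEquiv he₁ he₁1).symm, fun v => by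
      rw [hp.hyp.comm_symm (hp.le₂ ((hp.symm.leftEquiv he₁ he₁1).symm v).2) (hp.le₁ he₁)]
      exact hp.symm.leftEquiv_symm_spec he₁ he₁1 v⟩
  have hu1 : ∀ a a' : ↥U₁, ⁅(a : G), e₂⁆ = ⁅(a' : G), e₂⁆ → a = a' := fun a a' h =>
    (hp.leftEquiv he₂ he₂1).injective (Subtype.ext h)
  have hu2 : ∀ b b' : ↥U₂, ⁅e₁, (b : G)⁆ = ⁅e₁, (b' : G)⁆ → b = b' := fun b b' h =>
    (hp.symm.leftEquiv he₁ he₁1).injective (Subtype.ext (by
      show ⁅(b : G), e₁⁆ = ⁅(b' : G), e₁⁆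
      rw [hp.hyp.comm_symm (hp.le₁ he₁) (hp.le₂ b.2), h,
        ← hp.hyp.comm_symm (hp.le₁ he₁) (hp.le₂ b'.2)]))
  let c1 : Additive ↥V → G := fun x => ((Additive.toMul x : ↥V) : G)
  let a1 : Additive ↥V → G := fun x => (ι₁ (Additive.toMul x) : G)
  let b1 : Additive ↥V → G := fun x => (ι₂ (Additive.toMul x) : G)
  have hmem : ∀ x y, ⁅a1 x, b1 y⁆ ∈ V := fun x y =>
    hp.hyp.comm_mem (hp.le₁ (ι₁ _).2) (hp.le₂ (ι₂ _).2)
  let mul : Additive ↥V →+ Additive ↥V →+ Additive ↥V :=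
    AddMonoidHom.mk' (fun x => AddMonoidHom.mk' (fun y => Additive.ofMul ⟨⁅a1 x, b1 y⁆, hmem x y⟩)
      fun y z => congrArg Additive.ofMul (Subtype.ext (by
        show ⁅a1 x, b1 (y + z)⁆ = ⁅a1 x, b1 y⁆ * ⁅a1 x, b1 z⁆
        have : b1 (y + z) = b1 y * b1 z := by simp [b1]
        rw [this]
        exact hp.hyp.comm_mul_right (hp.le₁ (ι₁ _).2) (hp.le₂ (ι₂ _).2) (hp.le₂ (ι₂ _).2))))
      fun x z => AddMonoidHom.ext fun y => congrArg Additive.ofMul (Subtype.ext (by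
        show ⁅a1 (x + z), b1 y⁆ = ⁅a1 x, b1 y⁆ * ⁅a1 z, b1 y⁆
        have : a1 (x + z) = a1 x * a1 z := by simp [a1]
        rw [this]
        exact hp.hyp.comm_mul_left (hp.le₁ (ι₁ _).2) (hp.le₁ (ι₁ _).2) (hp.le₂ (ι₂ _).2)))
  have hmul : ∀ x y, c1 (mul x y) = ⁅a1 x, b1 y⁆ := fun x y => rfl
  have hval : ∀ {x y : Additive ↥V}, c1 x = c1 y → x = y :=
    fun h => Additive.toMul.injective (Subtype.ext h)
  let e : Additive ↥V := Additive.ofMul ⟨⁅e₁, e₂⁆, hp.hyp.comm_mem (hp.le₁ he₁) (hp.le₂ he₂)⟩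
  have hae : a1 e = e₁ := congrArg Subtype.val
    (hu1 (ι₁ (Additive.toMul e)) ⟨e₁, he₁⟩ (hι₁ (Additive.toMul e)))
  have hbe : b1 e = e₂ := congrArg Subtype.val
    (hu2 (ι₂ (Additive.toMul e)) ⟨e₂, he₂⟩ (hι₂ (Additive.toMul e)))
  have hone : ∀ y, mul e y = y := fun y => hval (by rw [hmul, hae]; exact hι₂ _)
  have hone' : ∀ x, mul x e = x := fun x => hval (by rw [hmul, hbe]; exact hι₁ _)
  have hzero : ∀ x y, mul x y = 0 → x = 0 ∨ y = 0 := by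
    intro x y h
    have h1 : ⁅a1 x, b1 y⁆ = 1 := by rw [← hmul, h]; rfl
    rcases hp.comm_eq_one (ι₁ _).2 (ι₂ _).2 h1 with h2 | h2
    · left
      have : ι₁ (Additive.toMul x) = 1 := Subtype.ext h2
      simpa using this
    · right
      have : ι₂ (Additive.toMul y) = 1 := Subtype.ext h2
      simpa using this
  have hS : InvSemifield.IsInvSemifield mul e := by
    refine ⟨fun x => hval ?_, fun h => ?_, hone, hone', hzero, fun a ha => ?_, fun a ha => ?_⟩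
    · show ((Additive.toMul x : ↥V) : G) * ((Additive.toMul x : ↥V) : G) = 1
      exact hp.hyp.sq _ (Additive.toMul x).2
    · have h1 : ⁅e₁, e₂⁆ = 1 := congrArg c1 h
      exact (hp.comm_eq_one he₁ he₂ h1).elim he₁1 he₂1
    · have hb : b1 a ≠ 1 := fun h => ha (by
        have : ι₂ (Additive.toMul a) = 1 := Subtype.ext h
        simpa using this)
      obtain ⟨z, hz, hzs⟩ := hp.inv_slope he₂ he₂1 (ι₂ (Additive.toMul a)).2 hb
      obtain ⟨c, hc⟩ : ∃ c, b1 c = z := ⟨Additive.ofMul (ι₂.symm ⟨z, hz⟩), by simp [b1]⟩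
      refine ⟨c, ?_⟩
      have hleft : Function.LeftInverse (fun x => mul x c) (fun x => mul x a) := fun x => hval (by
        show c1 (mul (mul x a) c) = c1 x
        rw [hmul, hc]
        exact (hzs (a1 x) (ι₁ _).2 (a1 (mul x a)) (ι₁ _).2 (hι₁ _)).trans (hι₁ _))
      exact hleft.rightInverse_of_surjective (Finite.injective_iff_surjective.1 hleft.injective)
    · have hb : a1 a ≠ 1 := fun h => ha (by
        have : ι₁ (Additive.toMul a) = 1 := Subtype.ext h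
        simpa using this)
      obtain ⟨z, hz, hzs⟩ := hp.symm.inv_slope he₁ he₁1 (ι₁ (Additive.toMul a)).2 hb
      obtain ⟨c, hc⟩ : ∃ c, a1 c = z := ⟨Additive.ofMul (ι₁.symm ⟨z, hz⟩), by simp [a1]⟩
      refine ⟨c, ?_⟩
      have hsymm : ∀ {u w : G}, u ∈ U₁ → w ∈ U₂ → ⁅w, u⁆ = ⁅u, w⁆ := fun hu hw =>
        hp.hyp.comm_symm (hp.le₁ hu) (hp.le₂ hw)
      have hleft : Function.LeftInverse (fun x => mul c x) (fun x => mul a x) := fun x => hval (by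
        show c1 (mul c (mul a x)) = c1 x
        rw [hmul, hc, ← hsymm hz (ι₂ _).2]
        refine (hzs (b1 x) (ι₂ _).2 (b1 (mul a x)) (ι₂ _).2 ?_).trans ?_
        · rw [hsymm he₁ (ι₂ _).2]
          refine (hι₂ _).trans ?_
          show ⁅a1 a, b1 x⁆ = ⁅b1 x, a1 a⁆
          exact (hsymm (ι₁ _).2 (ι₂ _).2).symm
        · rw [hsymm he₁ (ι₂ _).2]
          exact hι₂ _)
      exact hleft.rightInverse_of_surjective (Finite.injective_iff_surjective.1 hleft.injective)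
  obtain ⟨mul', hmul'⟩ : ∃ m : Additive ↥V → Additive ↥V → Additive ↥V, m = fun x y => mul x y :=
    ⟨_, rfl⟩
  letI : CommRing (Additive ↥V) :=
    { (inferInstance : AddCommGroup (Additive ↥V)) with
      mul := fun x y => mul x y
      one := e
      left_distrib := fun x y z => map_add (mul x) y z
      right_distrib := fun x y z => by show mul (x + y) z = _; rw [map_add]; rfl
      zero_mul := fun x => by show mul 0 x = 0; rw [map_zero]; rfl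
      mul_zero := fun x => map_zero (mul x)
      mul_assoc := fun x y z => (InvSemifield.comm_assoc hS x y z).2
      one_mul := hone
      mul_one := hone'
      mul_comm := fun x y => (InvSemifield.comm_assoc hS x y 0).1 }
  haveI : Nontrivial (Additive ↥V) := ⟨⟨e, 0, hS.ne_zero⟩⟩
  haveI : NoZeroDivisors (Additive ↥V) := ⟨fun {x y} h => hzero x y h⟩
  haveI : IsDomain (Additive ↥V) := NoZeroDivisors.to_isDomain _
  letI : Fintype (Additive ↥V) := Fintype.ofFinite _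
  letI : DecidableEq (Additive ↥V) := Classical.decEq _
  letI : Field (Additive ↥V) := Fintype.fieldOfDomain _
  let ε : Idx (Nat.card (Additive ↥V)) ≃ Additive ↥V := (Finite.equivFin _).symm
  letI : Field (Idx (Nat.card (Additive ↥V))) := ε.field
  let r : Idx (Nat.card (Additive ↥V)) ≃+* Additive ↥V := ε.ringEquiv
  refine ⟨Idx (Nat.card (Additive ↥V)), inferInstance, Fintype.ofEquiv _ ε.symm,
    fun x => a1 (r x), fun x => b1 (r x), fun x => c1 (r x),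
    ⟨fun x => (ι₁ _).2, fun x => (ι₂ _).2, fun x => (Additive.toMul (r x) : ↥V).2, fun a ha => ?_, fun b hb => ?_,
      fun v hv => ⟨r.symm (Additive.ofMul ⟨v, hv⟩), by simp [c1]⟩, ?_, ?_, ?_, fun x y => ?_, fun x y => ?_,
      fun x y => ?_, fun x y => ?_⟩⟩
  · exact ⟨r.symm (Additive.ofMul (ι₁.symm ⟨a, ha⟩)), by simp [a1]⟩
  · exact ⟨r.symm (Additive.ofMul (ι₂.symm ⟨b, hb⟩)), by simp [b1]⟩
  · exact fun x y h => r.injective (Additive.toMul.injective (ι₁.injective (Subtype.ext h)))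
  · exact fun x y h => r.injective (Additive.toMul.injective (ι₂.injective (Subtype.ext h)))
  · exact fun x y h => r.injective (hval h)
  · simp [a1]
  · simp [b1]
  · simp [c1]
  · rw [map_mul r x y]
    exact (hmul (r x) (r y)).symm

section Action

variable {F : Type} [Field F] {A B C : F → G}

theorem Coords.A_zero (c : Coords V U₁ U₂ A B C) : A 0 = 1 :=
  mul_eq_left.1 (by rw [← c.A_add, add_zero] : A 0 * A 0 = A 0)

theorem Coords.B_zero (c : Coords V U₁ U₂ A B C) : B 0 = 1 :=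
  mul_eq_left.1 (by rw [← c.B_add, add_zero] : B 0 * B 0 = B 0)

theorem Coords.C_zero (c : Coords V U₁ U₂ A B C) : C 0 = 1 :=
  mul_eq_left.1 (by rw [← c.C_add, add_zero] : C 0 * C 0 = C 0)

theorem Coords.card_eq [Fintype F] (c : Coords V U₁ U₂ A B C) : Fintype.card F = Nat.card V := by
  rw [← Nat.card_eq_fintype_card]
  exact Nat.card_eq_of_bijective (fun x => (⟨C x, c.C_mem x⟩ : V))
    ⟨fun x y h => c.C_inj (congrArg Subtype.val h),
      fun v => (c.C_surj v v.2).imp fun x h => Subtype.ext h⟩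

/-- `h` acts on `U₁ V` by the matrix `s`. -/
def Rel (A C : F → G) (h : G) (s : Matrix.SpecialLinearGroup (Fin 2) F) : Prop :=
  ∀ f : Fin 2 → F, h * (A (f 0) * C (f 1)) * h⁻¹ =
    A ((s : Matrix (Fin 2) (Fin 2) F).mulVec f 0) * C ((s : Matrix (Fin 2) (Fin 2) F).mulVec f 1)

theorem Rel.one : Rel A C 1 1 := fun f => by simp

theorem Rel.mul {h k : G} {s t : Matrix.SpecialLinearGroup (Fin 2) F} (hs : Rel A C h s)
    (ht : Rel A C k t) : Rel A C (h * k) (s * t) := fun f => by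
  rw [show h * k * (A (f 0) * C (f 1)) * (h * k)⁻¹ = h * (k * (A (f 0) * C (f 1)) * k⁻¹) * h⁻¹ by group,
    ht f, hs, Matrix.SpecialLinearGroup.coe_mul, ← Matrix.mulVec_mulVec]

theorem Rel.inv {h : G} {s : Matrix.SpecialLinearGroup (Fin 2) F} (hs : Rel A C h s) :
    Rel A C h⁻¹ s⁻¹ := fun f => by
  have e := hs (((s⁻¹ : Matrix.SpecialLinearGroup (Fin 2) F) : Matrix (Fin 2) (Fin 2) F).mulVec f)
  rw [Matrix.mulVec_mulVec, ← Matrix.SpecialLinearGroup.coe_mul, mul_inv_cancel,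
    Matrix.SpecialLinearGroup.coe_one, Matrix.one_mulVec] at e
  rw [← e]
  group

theorem Coords.eq_iff (c : Coords V U₁ U₂ A B C) (hp : Pair V U₁ U₂) {f f' : Fin 2 → F}
    (h : A (f 0) * C (f 1) = A (f' 0) * C (f' 1)) : f = f' := by
  have h1 : (A (f' 0))⁻¹ * A (f 0) = C (f' 1) * (C (f 1))⁻¹ := by
    calc (A (f' 0))⁻¹ * A (f 0) = (A (f' 0))⁻¹ * (A (f 0) * C (f 1)) * (C (f 1))⁻¹ := by group
      _ = (A (f' 0))⁻¹ * (A (f' 0) * C (f' 1)) * (C (f 1))⁻¹ := by rw [h]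
      _ = _ := by group
  have h2 : (A (f' 0))⁻¹ * A (f 0) = 1 := hp.inf₁ (mul_mem (inv_mem (c.A_mem _)) (c.A_mem _))
    (h1 ▸ mul_mem (c.C_mem _) (inv_mem (c.C_mem _)))
  have h3 := c.A_inj (inv_mul_eq_one.1 h2)
  have h4 := c.C_inj (mul_inv_eq_one.1 (h1 ▸ h2))
  funext i
  fin_cases i
  · exact h3.symm
  · exact h4.symm

theorem Coords.mem_sup (c : Coords V U₁ U₂ A B C) (hp : Pair V U₁ U₂) {w : G} (hw : w ∈ U₁ ⊔ V) :
    ∃ f : Fin 2 → F, A (f 0) * C (f 1) = w := by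
  rw [← SetLike.mem_coe, Subgroup.coe_mul_of_left_le_normalizer_right U₁ V
    (hp.le₁.trans (Pv_le_normalizer V))] at hw
  obtain ⟨a, ha, v, hv, rfl⟩ := hw
  obtain ⟨x, rfl⟩ := c.A_surj a ha
  obtain ⟨y, rfl⟩ := c.C_surj v hv
  exact ⟨![x, y], by simp⟩

theorem Coords.exists_low (c : Coords V U₁ U₂ A B C) (hp : Pair V U₁ U₂) {p : G} (hpP : p ∈ Pv V) :
    ∃ y, Rel A C p (Grp.SL2.low y) ∧ (∀ y', p = B y' → y = y') := by
  obtain ⟨b, hb, hr⟩ := hp.decomp hpP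
  obtain ⟨y, rfl⟩ := c.B_surj b hb
  have hbi : (B y)⁻¹ = B y := inv_eq_of_mul_eq_one_right (hp.symm.sq₁ hb)
  have hact : ∀ x, p * A x * p⁻¹ = A x * C (x * y) := fun x => by
    have hxy : B y * A x * (B y)⁻¹ = A x * C (x * y) := by
      rw [hp.shear_eq (c.A_mem x) hb, c.comm]
    have hcA : Commute (p * B y) (A x) := hr _ (c.A_mem x)
    have hcC : Commute (p * B y) (C (x * y)) := commute_Pv (mul_mem hpP (hp.le₂ hb)) (c.C_mem _)
    calc p * A x * p⁻¹ = (p * B y) * ((B y)⁻¹ * A x * B y) * (p * B y)⁻¹ := by group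
      _ = (p * B y) * (B y * A x * (B y)⁻¹) * (p * B y)⁻¹ := by rw [hbi]
      _ = (p * B y) * (A x * C (x * y)) * (p * B y)⁻¹ := by rw [hxy]
      _ = _ := by rw [(hcA.mul_right hcC).eq, mul_inv_cancel_right]
  refine ⟨y, fun f => ?_, fun y' hy' => ?_⟩
  · have hC : p * C (f 1) * p⁻¹ = C (f 1) := by
      rw [(commute_Pv hpP (c.C_mem _)).eq, mul_inv_cancel_right]
    rw [show p * (A (f 0) * C (f 1)) * p⁻¹ = p * A (f 0) * p⁻¹ * (p * C (f 1) * p⁻¹) by group, hact, hC,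
      mul_assoc, ← c.C_add]
    simp [Grp.SL2.low, Matrix.mulVec, dotProduct, Fin.sum_univ_two, mul_comm]
  · have h1 := hact 1
    rw [hy', hp.shear_eq (c.A_mem _) (c.B_mem _), c.comm, one_mul, one_mul, mul_right_inj] at h1
    exact (c.C_inj h1).symm

theorem Coords.exists_up_aux (c : Coords V U₁ U₂ A B C) (hp : Pair V U₁ U₂) (z : F) :
    ∃ k ∈ Pv U₁, ∀ v, k * C v * k⁻¹ = A (z * v) * C v := by
  by_cases hz : z = 0
  · exact ⟨1, one_mem _, fun v => by simp [hz, c.A_zero]⟩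
  have hne : B z⁻¹ ≠ 1 := fun h => inv_ne_zero hz (c.B_inj (h.trans c.B_zero.symm))
  obtain ⟨k, hk, hkv⟩ := hp.exists_shear (c.B_mem z⁻¹) hne
  refine ⟨k, hk, fun v => ?_⟩
  obtain ⟨a, ha, hae, hka⟩ := hkv (C v) (c.C_mem v)
  obtain ⟨x, rfl⟩ := c.A_surj a ha
  rw [c.comm] at hae
  rw [hka, show x = z * v by rw [← c.C_inj hae]; field_simp]

theorem Coords.exists_up (c : Coords V U₁ U₂ A B C) (hp : Pair V U₁ U₂) {k : G} (hk : k ∈ Pv U₁) :
    ∃ z, Rel A C k (Grp.SL2.up z) := by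
  obtain ⟨x₁, hx₁⟩ := hp.conj₁
  have hU : Hyp U₁ := hx₁ ▸ hp.hyp.cj x₁
  obtain ⟨U₃, hq⟩ := hU.exists_pair (U := V) ⟨x₁⁻¹, by rw [hx₁, cj_cj, inv_mul_cancel, cj_one]⟩
    hp.le_Pv_self (Ne.symm hp.ne₁)
  obtain ⟨z, hz⟩ := c.A_surj _ (hU.comm_mem hk (hp.le_Pv_self (c.C_mem 1)))
  have hk1 : k * C 1 * k⁻¹ = A z * C 1 := by rw [hz, commutatorElement_def, inv_mul_cancel_right]
  obtain ⟨m, hm, hmv⟩ := c.exists_up_aux hp z
  have hm1 : m * C 1 * m⁻¹ = A z * C 1 := by rw [hmv, mul_one]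
  have hcomm : Commute (m⁻¹ * k) (C 1) := mul_inv_eq_iff_eq_mul.1 (by
    calc m⁻¹ * k * C 1 * (m⁻¹ * k)⁻¹ = m⁻¹ * (k * C 1 * k⁻¹) * m := by group
      _ = m⁻¹ * (m * C 1 * m⁻¹) * m := by rw [hk1, hm1]
      _ = C 1 := by group)
  have hC1 : C 1 ≠ 1 := fun h => one_ne_zero (c.C_inj (h.trans c.C_zero.symm))
  have hkv : ∀ v, k * C v * k⁻¹ = A (z * v) * C v := fun v => by
    have h := hq.commute_all (mul_mem (inv_mem hm) hk) (c.C_mem 1) hC1 hcomm (c.C_mem v)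
    rw [← hmv v]
    calc k * C v * k⁻¹ = m * ((m⁻¹ * k) * C v * (m⁻¹ * k)⁻¹) * m⁻¹ := by group
      _ = m * C v * m⁻¹ := by rw [h.eq, mul_inv_cancel_right]
  refine ⟨z, fun f => ?_⟩
  have hA : k * A (f 0) * k⁻¹ = A (f 0) := by
    rw [(commute_Pv hk (c.A_mem _)).eq, mul_inv_cancel_right]
  rw [show k * (A (f 0) * C (f 1)) * k⁻¹ = k * A (f 0) * k⁻¹ * (k * C (f 1) * k⁻¹) by group, hA, hkv,
    ← mul_assoc, ← c.A_add]
  simp [Grp.SL2.up, Matrix.mulVec, dotProduct, Fin.sum_univ_two]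

/-- `⟨P, P'⟩` induces `SL(2, q)` on `U₁ V`. -/
theorem Coords.exists_hom (c : Coords V U₁ U₂ A B C) (hp : Pair V U₁ U₂) :
    ∃ θ : ↥(Pv V ⊔ Pv U₁) →* Matrix.SpecialLinearGroup (Fin 2) F, Function.Surjective θ ∧
      θ.ker = (Subgroup.centralizer ((U₁ ⊔ V : Subgroup G) : Set G)).subgroupOf _ ∧
      ∀ h : ↥(Pv V ⊔ Pv U₁), Rel A C (h : G) (θ h) := by
  have huniq : ∀ {h : G} {s t : Matrix.SpecialLinearGroup (Fin 2) F}, Rel A C h s → Rel A C h t →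
      s = t := fun {h s t} hs ht => Subtype.ext (Matrix.mulVec_injective
        (funext fun f => c.eq_iff hp ((hs f).symm.trans (ht f))))
  let S : Subgroup G :=
    { carrier := {h | h ∈ Pv V ⊔ Pv U₁ ∧ ∃ s, Rel A C h s}
      one_mem' := ⟨one_mem _, 1, Rel.one⟩
      mul_mem' := fun ha hb => ⟨mul_mem ha.1 hb.1, _, ha.2.choose_spec.mul hb.2.choose_spec⟩
      inv_mem' := fun ha => ⟨inv_mem ha.1, _, ha.2.choose_spec.inv⟩ }
  have hall : Pv V ⊔ Pv U₁ ≤ S := sup_le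
    (fun p hpP => ⟨Subgroup.mem_sup_left hpP, by
      obtain ⟨y, hy, -⟩ := c.exists_low hp hpP
      exact ⟨_, hy⟩⟩)
    (fun k hk => ⟨Subgroup.mem_sup_right hk, (c.exists_up hp hk).elim fun z hz => ⟨_, hz⟩⟩)
  choose θ hθ using fun h : ↥(Pv V ⊔ Pv U₁) => (hall h.2).2
  refine ⟨MonoidHom.mk' θ fun a b => huniq (hθ (a * b)) ((hθ a).mul (hθ b)), ?_, ?_, hθ⟩
  · let S' : Subgroup (Matrix.SpecialLinearGroup (Fin 2) F) :=
      { carrier := {s | ∃ h ∈ Pv V ⊔ Pv U₁, Rel A C h s}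
        one_mem' := ⟨1, one_mem _, Rel.one⟩
        mul_mem' := fun ⟨a, ha, ha'⟩ ⟨b, hb, hb'⟩ => ⟨a * b, mul_mem ha hb, ha'.mul hb'⟩
        inv_mem' := fun ⟨a, ha, ha'⟩ => ⟨a⁻¹, inv_mem ha, ha'.inv⟩ }
    have htop : S' = ⊤ := AdjoinSL.eq_top_of_up_low
      (fun t => by
        obtain ⟨k, hk, hkv⟩ := c.exists_up_aux hp t
        obtain ⟨z, hz⟩ := c.exists_up hp hk
        have h1 := hz ![0, 1]
        simp [Grp.SL2.up, c.A_zero] at h1
        rw [hkv, mul_one, mul_left_inj] at h1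
        exact ⟨k, Subgroup.mem_sup_right hk, by rwa [c.A_inj h1]⟩)
      (fun t => by
        obtain ⟨y, hy, hy'⟩ := c.exists_low hp (hp.le₂ (c.B_mem t))
        exact ⟨B t, Subgroup.mem_sup_left (hp.le₂ (c.B_mem t)), (hy' t rfl) ▸ hy⟩)
    intro s
    obtain ⟨h, hh, hs⟩ : s ∈ S' := htop ▸ Subgroup.mem_top s
    exact ⟨⟨h, hh⟩, huniq (hθ ⟨h, hh⟩) hs⟩
  · ext h
    simp only [MonoidHom.mem_ker, MonoidHom.mk'_apply, Subgroup.mem_subgroupOf,
      Subgroup.mem_centralizer_iff, SetLike.mem_coe]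
    constructor
    · intro h1 w hw
      obtain ⟨f, rfl⟩ := c.mem_sup hp hw
      have e := hθ h f
      rw [h1, Matrix.SpecialLinearGroup.coe_one, Matrix.one_mulVec] at e
      exact (mul_inv_eq_iff_eq_mul.1 e).symm
    · intro h1
      refine huniq (hθ h) fun f => ?_
      rw [← h1 _ (mul_mem (Subgroup.mem_sup_left (c.A_mem _)) (Subgroup.mem_sup_right (c.C_mem _))),
        mul_inv_cancel_right]
      simp

/-- The torus of `⟨P, P'⟩` is transitive on `V`. -/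
theorem Coords.exists_torus (c : Coords V U₁ U₂ A B C) (hp : Pair V U₁ U₂) {t : F} (ht : t ≠ 0) :
    ∃ h : G, ∀ v, h * C v * h⁻¹ = C (t * v) := by
  obtain ⟨θ, hθ, -, hR⟩ := c.exists_hom hp
  obtain ⟨h, hh⟩ := hθ ⟨!![t⁻¹, 0; 0, t], by simp [Matrix.det_fin_two, ht]⟩
  refine ⟨(h : G), fun v => ?_⟩
  have e := hR h ![0, v]
  rw [hh] at e
  simpa [Matrix.mulVec, dotProduct, Fin.sum_univ_two, c.A_zero] using e

end Action

theorem Pair.le_normalizer_sup (hp : Pair V U₁ U₂) :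
    Pv V ⊔ Pv U₁ ≤ Subgroup.normalizer ((U₁ ⊔ V : Subgroup G) : Set G) := by
  obtain ⟨x₁, hx₁⟩ := hp.conj₁
  have hU : Hyp U₁ := hx₁ ▸ hp.hyp.cj x₁
  refine sup_le (fun p hpP => ?_) (fun k hk => ?_) <;>
    refine mem_normalizer_of_cj (Subgroup.eq_of_le_of_card_ge ?_ (card_cj _ _).ge) <;>
    rw [cj, Subgroup.map_le_iff_le_comap, sup_le_iff] <;>
    refine ⟨fun a ha => Subgroup.mem_comap.2 ?_, fun v hv => Subgroup.mem_comap.2 ?_⟩ <;>
    rw [MulEquiv.coe_toMonoidHom, MulAut.conj_apply]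
  · rw [show p * a * p⁻¹ = ⁅p, a⁆ * a by rw [commutatorElement_def, inv_mul_cancel_right]]
    exact mul_mem (Subgroup.mem_sup_right (hp.hyp.comm_mem hpP (hp.le₁ ha))) (Subgroup.mem_sup_left ha)
  · rw [(commute_Pv hpP hv).eq, mul_inv_cancel_right]
    exact Subgroup.mem_sup_right hv
  · rw [(commute_Pv hk ha).eq, mul_inv_cancel_right]
    exact Subgroup.mem_sup_left ha
  · rw [show k * v * k⁻¹ = ⁅k, v⁆ * v by rw [commutatorElement_def, inv_mul_cancel_right]]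
    exact mul_mem (Subgroup.mem_sup_left (hU.comm_mem hk (hp.le_Pv_self hv))) (Subgroup.mem_sup_right hv)

theorem Pair.existsUnique_conj (hp : Pair V U₁ U₂) {w : G} (hw : w ∈ U₁ ⊔ V) (hw1 : w ≠ 1) :
    ∃! U : Subgroup G, (∃ x : G, U = cj V x) ∧ U ≤ U₁ ⊔ V ∧ w ∈ U := by
  obtain ⟨x₁, hx₁⟩ := hp.conj₁
  obtain ⟨x, hle, hwx⟩ : ∃ x, cj V x ≤ U₁ ⊔ V ∧ w ∈ cj V x := by
    by_cases hwV : w ∈ V
    · exact ⟨1, by rw [cj_one]; exact le_sup_right, by rwa [cj_one]⟩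
    obtain ⟨b, hb, hwb⟩ := hp.cover hw hwV
    rw [hx₁, cj_cj] at hwb
    refine ⟨b * x₁, ?_, hwb⟩
    rw [← cj_cj, ← hx₁]
    exact (Subgroup.map_mono le_sup_left).trans
      (cj_eq_of_mem (hp.le_normalizer_sup (Subgroup.mem_sup_left (hp.le₂ hb)))).le
  refine ⟨cj V x, ⟨⟨x, rfl⟩, hle, hwx⟩, ?_⟩
  rintro U ⟨⟨y, rfl⟩, -, hwy⟩
  exact hp.hyp.eq_of_meet hwy hwx hw1

end Cfsg.Agent.Fus.TISym
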