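import Cfsg.Agent.Lib.Fus.OrbitTransfer
import Cfsg.Agent.Lib.Fus.Hyperfocal

/-!
Thompson's transfer lemma for saturated fusion systems on 2-groups.
-/

set_option autoImplicit false
set_option linter.style.haveILetI false
set_option linter.unusedSectionVars false
set_option linter.unusedVariables false

open scoped Classical

namespace Cfsg.Agent.Fus

open Subgroup FusionSystem MulAction

universe u

variable {Ω : Type u} [Group Ω] {S : Subgroup Ω} [Finite S] {F : FusionSystem S}

theorem isFGraph_stabilizer {c : Subgroup (S × S) → ℕ} (hgr : ∀ L, c L ≠ 0 → IsFGraph F L)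
    (z : Pts c) : IsFGraph F (stabilizer (S × S) z) := by
  obtain ⟨L, i, q⟩ := z
  induction q using QuotientGroup.induction_on with
  | _ g =>
  have hL : c L ≠ 0 := fun h => absurd i.isLt (by omega)
  rw [stabilizer_pts, show ((g : S × S) : (S × S) ⧸ L) = g • ((1 : S × S) : (S × S) ⧸ L) from
    (congrArg QuotientGroup.mk (mul_one g)).symm, stabilizer_smul_eq_stabilizer_map_conj]
  refine IsFGraph.of_rel ?_ (graphRel_conj F _ g)
  convert hgr L hL using 1
  exact MulAction.stabilizer_quotient L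

/-- A sum over a group of a class function divisible by twice the centraliser orders. -/
theorem two_card_dvd_sum {G : Type*} [Group G] [Fintype G] (f : G → ℕ)
    (hf : ∀ g t : G, f (g * t * g⁻¹) = f t)
    (h : ∀ t : G, f t ≠ 0 → 2 * Nat.card (centralizer ({t} : Set G)) ∣ f t) :
    2 * Nat.card G ∣ ∑ t, f t := by
  rw [← Finset.sum_fiberwise Finset.univ ConjClasses.mk f]
  refine Finset.dvd_sum fun C _ => ?_
  induction C using Quotient.inductionOn with
  | _ t =>
  have hconst : ∀ u ∈ (Finset.univ : Finset G).filter (fun u => ConjClasses.mk u = ConjClasses.mk t),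
      f u = f t := fun u hu => by
    obtain ⟨g, hg⟩ := _root_.isConj_iff.1
      (ConjClasses.mk_eq_mk_iff_isConj.1 (Finset.mem_filter.1 hu).2)
    rw [← hg, hf]
  show 2 * Nat.card G ∣ ∑ u ∈ (Finset.univ : Finset G).filter
    (fun u => ConjClasses.mk u = ConjClasses.mk t), f u
  rw [Finset.sum_congr rfl hconst, Finset.sum_const, smul_eq_mul]
  rcases eq_or_ne (f t) 0 with h0 | h0
  · simp [h0]
  obtain ⟨k, hk⟩ := h t h0
  refine ⟨k, ?_⟩
  have horb : ((Finset.univ : Finset G).filter
      (fun u => ConjClasses.mk u = ConjClasses.mk t)).card = (stabilizer (ConjAct G) t).index := by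
    rw [index_stabilizer, ← Nat.card_coe_set_eq, ← Fintype.card_subtype, ← Nat.card_eq_fintype_card]
    refine Nat.card_congr (Equiv.subtypeEquivRight fun u => ?_)
    rw [ConjAct.mem_orbit_conjAct, ConjClasses.mk_eq_mk_iff_isConj]
  have hcst : Nat.card (stabilizer (ConjAct G) t) = Nat.card (centralizer ({t} : Set G)) :=
    Nat.card_congr (Equiv.subtypeEquiv ConjAct.ofConjAct.toEquiv fun g => by
      rw [mem_stabilizer_iff, ConjAct.smul_def, mul_inv_eq_iff_eq_mul]
      exact mem_centralizer_singleton_iff.symm)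
  rw [horb, hk, ← show Nat.card (ConjAct G) = Nat.card G from Nat.card_congr ConjAct.ofConjAct.toEquiv,
    ← (stabilizer (ConjAct G) t).index_mul_card, hcst]
  ring

theorem normalizerIn_zpowers_eq {u : S} (hu : (u : Ω) ^ 2 = 1) (hu1 : (u : Ω) ≠ 1) :
    Nat.card (normalizerIn S (zpowers (u : Ω))) = Nat.card (centralizer ({u} : Set S)) := by
  have e : normalizerIn S (zpowers (u : Ω)) = (centralizer ({u} : Set S)).map S.subtype := by
    ext g
    constructor
    · intro hg
      refine ⟨⟨g, hg.1⟩, mem_centralizer_singleton_iff.2 (Subtype.ext ?_), rfl⟩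
      have h1 := (Subgroup.mem_normalizer_iff.1 hg.2 (u : Ω)).1 (mem_zpowers _)
      obtain ⟨n, hn⟩ := mem_zpowers_iff.1 h1
      show g * u = u * g
      rcases Int.even_or_odd n with ⟨m, rfl⟩ | ⟨m, rfl⟩
      · rw [← two_mul, zpow_mul, zpow_two, ← pow_two, hu, one_zpow, eq_comm,
          conj_eq_one_iff] at hn
        exact absurd hn hu1
      · rw [zpow_add_one, zpow_mul, zpow_two, ← pow_two, hu, one_zpow, one_mul] at hn
        conv_rhs => rw [hn]
        group
    · rintro ⟨g, hg, rfl⟩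
      have h1 : (g : Ω) * u = u * g := congrArg Subtype.val (mem_centralizer_singleton_iff.1 hg)
      refine ⟨g.2, mem_normalizer_of_forall (fun x hx => ?_) fun x hx => ?_⟩ <;>
        obtain ⟨n, rfl⟩ := mem_zpowers_iff.1 hx
      · show (g : Ω) * (u : Ω) ^ n * (g : Ω)⁻¹ ∈ _
        rw [(show Commute (g : Ω) u from h1).zpow_right n |>.eq, mul_inv_cancel_right]
        exact zpow_mem (mem_zpowers _) n
      · show (g : Ω)⁻¹ * (u : Ω) ^ n * (g : Ω) ∈ _
        rw [mul_assoc, ← ((show Commute (g : Ω) u from h1).zpow_right n).eq, inv_mul_cancel_left]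
        exact zpow_mem (mem_zpowers _) n
  rw [e]
  exact Nat.card_congr ((centralizer ({u} : Set S)).equivMapOfInjective S.subtype
    S.subtype_injective).symm.toEquiv

theorem thompson_transfer (hS : IsPGroup 2 S) (hF : F.IsSaturated 2) (T : Subgroup Ω)
    (hTS : T ≤ S) (hT : T.relIndex S = 2) (i : Ω) (hi : i ∈ S) (hi2 : orderOf i = 2)
    (h : ∀ j : Ω, F.IsConjElt i j → F.IsFullyNormalized (zpowers j) → j ∉ T) :
    i ∉ F.hyperfocalSubgroup 2 := by
  haveI : Fintype S := Fintype.ofFinite S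
  haveI := Fintype.ofFinite (Subgroup (S × S))
  obtain ⟨c, hgr, hdeg, hst⟩ := exists_stable_family hS hF
  -- the character
  have hT2 : (T.subgroupOf S).index = 2 := hT
  let g : Multiplicative (ZMod 2) := Multiplicative.ofAdd 1
  have hg1 : g ≠ 1 := by decide
  let ψ : S →* Multiplicative (ZMod 2) := MonoidHom.mk' (fun s => if (s : Ω) ∈ T then 1 else g)
    fun a b => by
      have hab := Subgroup.mul_mem_iff_of_index_two hT2 (a := a) (b := b)
      rw [mem_subgroupOf, mem_subgroupOf, mem_subgroupOf] at hab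
      show (if ((a * b : S) : Ω) ∈ T then (1 : Multiplicative (ZMod 2)) else g) =
        (if (a : Ω) ∈ T then 1 else g) * (if (b : Ω) ∈ T then 1 else g)
      by_cases ha : (a : Ω) ∈ T <;> by_cases hb : (b : Ω) ∈ T <;> simp_all
      decide
  have hψT : ∀ s : S, ψ s = g ↔ (s : Ω) ∉ T := fun s => by
    show (if (s : Ω) ∈ T then (1 : Multiplicative (ZMod 2)) else g) = g ↔ _
    by_cases hs : (s : Ω) ∈ T <;> simp [hs, g] <;> decide
  have hψT' : ∀ s : S, ψ s = 1 ↔ (s : Ω) ∈ T := fun s => by
    show (if (s : Ω) ∈ T then (1 : Multiplicative (ZMod 2)) else g) = 1 ↔ _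
    by_cases hs : (s : Ω) ∈ T <;> simp [hs, g]
  let ψ' : (S : Subgroup Ω) →* Multiplicative (ZMod 2) := ψ
  have hinv : ∀ s ∈ S, ∀ (z : Ω) (hz : z ∈ S) (hz' : s * z * s⁻¹ ∈ S),
      ψ' ⟨_, hz'⟩ = ψ' ⟨z, hz⟩ := fun s hs z hz hz' => by
    show ψ ⟨_, hz'⟩ = ψ ⟨z, hz⟩
    rw [show (⟨s * z * s⁻¹, hz'⟩ : S) = ⟨s, hs⟩ * ⟨z, hz⟩ * ⟨s, hs⟩⁻¹ from rfl, map_mul, map_mul,
      map_inv, mul_inv_cancel_comm]
  have hconj : ∀ s ∈ S, ∀ z ∈ S, s * z * s⁻¹ ∈ S := fun s hs z hz =>
    S.mul_mem (S.mul_mem hs hz) (S.inv_mem hs)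
  -- the transfer is a homomorphism
  have hex : ∀ L : Subgroup (S × S), ∃ δ : ↥(L.map (MonoidHom.fst S S)) →*
      (⊤ : Subgroup (Multiplicative (ZMod 2))), c L ≠ 0 →
        ∀ (w : S × S) (hw : w ∈ L),
          ψ w.2 = ψ w.1 * (δ ⟨w.1, w, hw, rfl⟩ : Multiplicative (ZMod 2)) := fun L => by
    rcases eq_or_ne (c L) 0 with h0 | h0
    · exact ⟨1, fun h => absurd h0 h⟩
    obtain ⟨P, f, hf, hP, he⟩ := hgr L h0
    have hmem : ∀ z : ↥(L.map (MonoidHom.fst S S)), ((z : S) : Ω) ∈ P := fun z => by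
      obtain ⟨w, hw, e⟩ := z.2
      rw [← e]
      exact hP (mem_srcOf hw)
    refine ⟨MonoidHom.mk' (fun z => ⟨ψ ⟨f (z : S), hf.apply_mem (hmem z)⟩ * (ψ (z : S))⁻¹,
      mem_top _⟩) fun a b => Subtype.ext ?_, fun _ w hw => ?_⟩
    · show ψ ⟨f ((a : S) * (b : S) : Ω), _⟩ * (ψ ((a : S) * (b : S)))⁻¹ = _ * _
      rw [show (⟨f ((a : S) * (b : S) : Ω), _⟩ : S) = ⟨f (a : S), hf.apply_mem (hmem a)⟩ *
        ⟨f (b : S), hf.apply_mem (hmem b)⟩ from Subtype.ext (hf.map_mul (hmem a) (hmem b)), map_mul,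
        map_mul, mul_inv, mul_mul_mul_comm]
    · show ψ w.2 = ψ w.1 * (ψ ⟨f w.1, _⟩ * (ψ w.1)⁻¹)
      rw [show (⟨f w.1, _⟩ : S) = w.2 from Subtype.ext (he w hw), mul_comm (ψ w.2),
        mul_inv_cancel_left]
  choose δ hδ using hex
  obtain ⟨τ, hτdef⟩ : ∃ τ : S →* Multiplicative (ZMod 2), τ = ψ ^ famDeg c *
      (⊤ : Subgroup (Multiplicative (ZMod 2))).subtype.comp (∏ L, (δ L).transfer ^ c L) :=
    ⟨_, rfl⟩
  have hτ : ∀ s : S, orbTransfer c ψ' s = τ s := fun s => by
    have h1 := orbTransfer_value hgr le_rfl ψ' hconj hinv ⊤ δ (fun L _ w _ _ => w.2.2)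
      (fun L hL w hw _ _ => hδ L hL w hw) s.2
    rw [hτdef, MonoidHom.mul_apply, MonoidHom.pow_apply]
    exact h1
  have hfoc : F.focalSubgroup ≤ τ.ker.map S.subtype := by
    refine focalSubgroup_le_iff.2 fun P f hf z hz => ?_
    refine ⟨⟨z⁻¹ * f z, S.mul_mem (S.inv_mem (hf.source_le hz)) (hf.apply_mem hz)⟩, ?_, rfl⟩
    show τ (⟨z, hf.source_le hz⟩⁻¹ * ⟨f z, hf.apply_mem hz⟩) = 1
    rw [map_mul, map_inv, ← hτ, ← hτ, orbTransfer_eq hst ψ' hconj hinv hf
      (x := ⟨z, hf.source_le hz⟩) (y := ⟨f z, hf.apply_mem hz⟩) hz rfl, inv_mul_cancel]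
  intro hihyp
  obtain ⟨x, hxker, hxi⟩ := hfoc (hyperfocal_le_focal F 2 hihyp)
  have hxi' : (x : Ω) = i := hxi
  have hτ1 : orbTransfer c ψ' x = 1 := (hτ x).trans hxker
  -- facts about stabilisers
  have hx2 : orderOf x = 2 := by rw [← Subgroup.orderOf_coe, hxi', hi2]
  haveI : Finite (↥(zpowers x) × S) := inferInstance
  let e₀ : ↥(zpowers x) := ⟨x, mem_zpowers x⟩
  have hcyc : ∀ w : ↥(zpowers x), w = 1 ∨ w = e₀ := fun w => by
    obtain ⟨n, hn⟩ := mem_zpowers_iff.1 w.2
    have e2 : x ^ (2 : ℤ) = 1 := by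
      rw [zpow_two, ← pow_two, ← hx2, pow_orderOf_eq_one]
    rcases Int.even_or_odd n with ⟨m, rfl⟩ | ⟨m, rfl⟩
    · exact Or.inl (Subtype.ext (by rw [← hn, ← two_mul, zpow_mul, e2, one_zpow]; rfl))
    · exact Or.inr (Subtype.ext (by rw [← hn, zpow_add_one, zpow_mul, e2, one_zpow, one_mul]))
  have hfree : ∀ (z : Pts c) (t : S), ((1, t) : S × S) • z = z → t = 1 := fun z t ht => by
    obtain ⟨P, f, hf, hP, he⟩ := isFGraph_stabilizer hgr z
    refine Subtype.ext ?_
    rw [← he _ ht]
    exact hf.map_one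
  have hfree' : ∀ (z : Pts c) (s : S), ((s, 1) : S × S) • z = z → s = 1 := fun z s hs => by
    obtain ⟨P, f, hf, hP, he⟩ := isFGraph_stabilizer hgr z
    refine Subtype.ext (hf.injOn (hP (mem_srcOf (K := stabilizer (S × S) z) hs)) P.one_mem ?_)
    rw [he _ hs]
    exact hf.map_one.symm
  have huniq : ∀ (z : Pts c) (t t' : S), ((x, t) : S × S) • z = z → ((x, t') : S × S) • z = z →
      t = t' := fun z t t' h1 h2 => by
    refine inv_mul_eq_one.1 (hfree z _ ?_)
    rw [show ((1, t⁻¹ * t') : S × S) = (x, t)⁻¹ * (x, t') from Prod.ext (by simp) rfl, mul_smul,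
      h2, inv_smul_eq_iff, h1]
  have hWst : ∀ (z : Pts c) (w : ↥(zpowers x) × S),
      w ∈ stabilizer (↥(zpowers x) × S) z ↔ ((w.1 : S), w.2) • z = z := fun z w => Iff.rfl
  have hsz : Nat.card (↥(zpowers x) × S) = 2 * Nat.card S := by
    rw [Nat.card_prod, Nat.card_zpowers, hx2]
  -- the stabilisers
  have hmov : ∀ z : Pts c, (∀ t : S, ((x, t) : S × S) • z ≠ z) →
      (stabilizer (↥(zpowers x) × S) z).index = 2 * Nat.card S ∧
        cycWt ψ' x (stabilizer (↥(zpowers x) × S) z) = 1 := fun z hz => by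
    have hbot : stabilizer (↥(zpowers x) × S) z = ⊥ := by
      refine (eq_bot_iff_forall _).2 fun w hw => ?_
      rcases hcyc w.1 with e | e
      · refine Prod.ext e ?_
        refine hfree z _ ?_
        have := (hWst z w).1 hw
        rwa [e] at this
      · have := (hWst z w).1 hw
        rw [e] at this
        exact absurd this (hz w.2)
    refine ⟨by rw [hbot, index_bot, hsz], ?_⟩
    rw [hbot, cycWt, show cycWtSet ψ' x (⊥ : Subgroup (↥(zpowers x) × S)) = {1} from ?_,
      finprod_mem_singleton]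
    refine Set.ext fun a => ?_
    simp only [cycWtSet, Set.mem_ofPred_eq, Subgroup.map_bot, index_bot, Nat.card_zpowers, hx2,
      Set.mem_singleton_iff, Subgroup.mem_bot, Prod.mk_eq_one]
    constructor
    · rintro ⟨t, ht, ⟨-, rfl⟩, rfl⟩
      exact map_one ψ
    · rintro rfl
      exact ⟨1, S.one_mem, ⟨Subtype.ext (by show x ^ 2 = 1; rw [← hx2, pow_orderOf_eq_one]), rfl⟩,
        map_one ψ⟩
  have hfix : ∀ (z : Pts c) (t : S), ((x, t) : S × S) • z = z →
      (stabilizer (↥(zpowers x) × S) z).index = Nat.card S ∧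
        cycWt ψ' x (stabilizer (↥(zpowers x) × S) z) = ψ t := fun z t ht => by
    set U := stabilizer (↥(zpowers x) × S) z with hU
    have hfst : U.map (MonoidHom.fst _ S) = ⊤ := by
      refine eq_top_iff.2 fun w _ => ?_
      rcases hcyc w with e | e
      · exact e ▸ one_mem _
      · exact ⟨(e₀, t), ht, e.symm⟩
    have hcard : Nat.card U = 2 := by
      have hinj : Function.Injective ((MonoidHom.fst (↥(zpowers x)) S).comp U.subtype) := by
        refine (injective_iff_map_eq_one _).2 fun w hw => Subtype.ext (Prod.ext hw ?_)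
        refine hfree z _ ?_
        have := (hWst z w.1).1 w.2
        change ((w : ↥(zpowers x) × S).1) = 1 at hw
        rwa [hw] at this
      rw [Nat.card_congr (MonoidHom.ofInjective hinj).toEquiv,
        show ((MonoidHom.fst (↥(zpowers x)) S).comp U.subtype).range = ⊤ by
          rw [MonoidHom.range_comp, Subgroup.range_subtype, hfst], Subgroup.card_top,
        Nat.card_zpowers, hx2]
    refine ⟨?_, ?_⟩
    · have := U.index_mul_card
      rw [hcard, hsz, mul_comm 2] at this
      exact Nat.eq_of_mul_eq_mul_right two_pos this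
    · rw [cycWt, show cycWtSet ψ' x U = {ψ t} from ?_, finprod_mem_singleton]
      refine Set.ext fun a => ?_
      simp only [cycWtSet, Set.mem_ofPred_eq, hfst, index_top, pow_one, Set.mem_singleton_iff]
      constructor
      · rintro ⟨t', ht', hm, rfl⟩
        exact congrArg ψ (huniq z t' t hm ht)
      · rintro rfl
        exact ⟨t, t.2, ht, rfl⟩
  -- counting
  let key : Pts c → ℕ × Multiplicative (ZMod 2) := fun z =>
    ((stabilizer (↥(zpowers x) × S) z).index, cycWt ψ' x (stabilizer (↥(zpowers x) × S) z))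
  have hkey : ∀ z, key z = (Nat.card S, g) ∨ key z = (Nat.card S, 1) ∨
      key z = (2 * Nat.card S, 1) := fun z => by
    by_cases hz : ∃ t : S, ((x, t) : S × S) • z = z
    · obtain ⟨t, ht⟩ := hz
      obtain ⟨h1, h2⟩ := hfix z t ht
      by_cases htT : (t : Ω) ∈ T
      · exact Or.inr (Or.inl (Prod.ext h1 (h2.trans ((hψT' t).2 htT))))
      · exact Or.inl (Prod.ext h1 (h2.trans ((hψT t).2 htT)))
    · push Not at hz
      exact Or.inr (Or.inr (Prod.ext (hmov z hz).1 (hmov z hz).2))
  let cnt : ℕ × Multiplicative (ZMod 2) → ℕ := fun k => Nat.card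
    {q : orbitRel.Quotient (↥(zpowers x) × S) (Pts c) //
      ((stabilizer (↥(zpowers x) × S) q.out).index,
        cycWt ψ' x (stabilizer (↥(zpowers x) × S) q.out)) = k}
  have hcnt : ∀ k, Nat.card {z : Pts c // key z = k} = k.1 * cnt k := fun k =>
    card_key_eq (cycWt ψ' x) (cycWt_conj ψ' hconj hinv x) k
  have hSpos : 0 < Nat.card S := Nat.card_pos
  have hne2 : (Nat.card S : ℕ) ≠ 2 * Nat.card S := by omega
  haveI : Fintype (Pts c) := Fintype.ofFinite _
  -- total number of points
  have htot : Nat.card (Pts c) = famDeg c * Nat.card S := by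
    rw [Nat.card_congr (ptsEquiv c), Nat.card_sigma, famDeg, Finset.sum_mul]
    refine Finset.sum_congr rfl fun L _ => ?_
    rw [Nat.card_prod, Nat.card_fin]
    rcases eq_or_ne (c L) 0 with h0 | h0
    · simp [h0]
    rw [mul_assoc]
    congr 1
    have hd := (hgr L h0).card_dvd
    refine Nat.eq_of_mul_eq_mul_right (Nat.card_pos (α := L)) ?_
    rw [show Nat.card ((S × S) ⧸ L) * Nat.card L = Nat.card (S × S) from L.index_mul_card,
      Nat.card_prod, mul_right_comm, Nat.div_mul_cancel hd]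
  -- fixed points over `T` come in even numbers
  have heven : 2 * Nat.card S ∣ Nat.card {z : Pts c // key z = (Nat.card S, 1)} := by
    have e : Nat.card {z : Pts c // key z = (Nat.card S, 1)} =
        ∑ t : S, if (t : Ω) ∈ T then Nat.card {z : Pts c // ((x, t) : S × S) • z = z} else 0 := by
      rw [show (∑ t : S, if (t : Ω) ∈ T then Nat.card {z : Pts c // ((x, t) : S × S) • z = z} else 0)
        = Nat.card (Σ t : {t : S // (t : Ω) ∈ T}, {z : Pts c // ((x, t.1) : S × S) • z = z}) by
        rw [Nat.card_sigma, ← Finset.sum_filter]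
        exact (Finset.sum_subtype _ (fun t => by simp) _)]
      refine (Nat.card_congr (Equiv.ofBijective
        (fun w : Σ t : {t : S // (t : Ω) ∈ T}, {z : Pts c // ((x, t.1) : S × S) • z = z} =>
          (⟨w.2.1, ?_⟩ : {z : Pts c // key z = (Nat.card S, 1)})) ⟨?_, ?_⟩)).symm
      · obtain ⟨h1, h2⟩ := hfix _ _ w.2.2
        exact Prod.ext h1 (h2.trans ((hψT' _).2 w.1.2))
      · rintro ⟨⟨t, ht⟩, z, hz⟩ ⟨⟨t', ht'⟩, z', hz'⟩ heq
        have e1 : z = z' := congrArg Subtype.val heq
        subst e1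
        obtain rfl := huniq z t t' hz hz'
        rfl
      · rintro ⟨z, hz⟩
        by_cases hex : ∃ t : S, ((x, t) : S × S) • z = z
        · obtain ⟨t, ht⟩ := hex
          have h2 := (hfix z t ht).2.symm.trans (congrArg Prod.snd hz)
          exact ⟨⟨⟨t, (hψT' t).1 h2⟩, z, ht⟩, rfl⟩
        · push Not at hex
          exact absurd ((congrArg Prod.fst hz).symm.trans (hmov z hex).1) hne2
    rw [e]
    refine two_card_dvd_sum _ (fun s t => ?_) fun t ht => ?_
    · have hmem : (((s * t * s⁻¹ : S) : Ω) ∈ T) ↔ (t : Ω) ∈ T := by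
        rw [← hψT', ← hψT', map_mul, map_mul, map_inv, mul_inv_cancel_comm]
      by_cases htT : (t : Ω) ∈ T
      · rw [if_pos htT, if_pos (hmem.2 htT)]
        refine Nat.card_congr (Equiv.subtypeEquiv (MulAction.toPerm ((1, s) : S × S)⁻¹) fun z => ?_)
        show _ ↔ ((x, t) : S × S) • (((1, s) : S × S)⁻¹ • z) = ((1, s) : S × S)⁻¹ • z
        rw [← mul_smul, eq_inv_smul_iff, ← mul_smul]
        rw [show ((1, s) : S × S) * ((x, t) * ((1, s) : S × S)⁻¹) = (x, s * t * s⁻¹) from
          Prod.ext (by simp) (by simp [mul_assoc])]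
      · rw [if_neg htT, if_neg (fun h => htT (hmem.1 h))]
    · have htT : (t : Ω) ∈ T := by
        by_contra hh
        exact ht (if_neg hh)
      rw [if_pos htT] at ht ⊢
      obtain ⟨z, hz⟩ : ∃ z : Pts c, ((x, t) : S × S) • z = z := by
        by_contra hh
        push Not at hh
        haveI : IsEmpty {z : Pts c // ((x, t) : S × S) • z = z} := ⟨fun z => hh z.1 z.2⟩
        exact ht Nat.card_of_isEmpty
      obtain ⟨P, f, hf, hP, he⟩ := isFGraph_stabilizer hgr z
      have hxP : (x : Ω) ∈ P := hP (mem_srcOf (K := stabilizer (S × S) z) hz)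
      have hfx : f (x : Ω) = t := he _ hz
      have hiP : zpowers i ≤ P := zpowers_le.2 (hxi' ▸ hxP)
      have hconjt : F.IsConjElt i (t : Ω) := by
        obtain ⟨φ, hφ, e⟩ := (hf.res hiP).exists_hom
        exact ⟨φ, hφ, by rw [e]; rw [← hxi']; exact hfx⟩
      have ht2 : (t : Ω) ^ 2 = 1 := by
        rw [pow_two, ← hfx, ← hf.map_mul hxP hxP, hxi', ← pow_two, ← hi2, pow_orderOf_eq_one,
          hf.map_one]
      have hx1 : (x : Ω) ≠ 1 := fun e => by rw [hxi'] at e; rw [e, orderOf_one] at hi2; omega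
      have ht1 : (t : Ω) ≠ 1 := fun e => hx1 (hf.injOn hxP P.one_mem (by rw [hfx, e, hf.map_one]))
      have htS : zpowers (t : Ω) ≤ S := zpowers_le.2 t.2
      have hnfn : ¬ F.IsFullyNormalized (zpowers (t : Ω)) := fun hh => h _ hconjt hh htT
      simp only [IsFullyNormalized, htS, true_and] at hnfn
      push Not at hnfn
      obtain ⟨Q, hQ, hlt⟩ := hnfn
      obtain ⟨φ, hφ, hφQ⟩ := hQ
      have hu : φ ⟨(t : Ω), mem_zpowers _⟩ ∈ S := (F.le_of_mem hφ).2 _
      obtain ⟨u, hudef⟩ : ∃ u : S, u = ⟨φ ⟨(t : Ω), mem_zpowers _⟩, hu⟩ := ⟨_, rfl⟩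
      have hm := isMap_toFun hφ
      have hmt : toFun φ (t : Ω) = u := by
        rw [hudef]; exact toFun_apply φ (mem_zpowers _)
      have hQu : Q = zpowers (u : Ω) := by
        rw [← hφQ, hudef]
        refine le_antisymm ?_ (zpowers_le.2 ⟨_, rfl⟩)
        rintro _ ⟨⟨y, hy⟩, rfl⟩
        obtain ⟨n, rfl⟩ := mem_zpowers_iff.1 hy
        refine mem_zpowers_iff.2 ⟨n, ?_⟩
        rw [← map_zpow]
        rfl
      have hu2 : (u : Ω) ^ 2 = 1 := by
        rw [pow_two, ← hmt, ← hm.map_mul (mem_zpowers _) (mem_zpowers _), ← pow_two, ht2,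
          hm.map_one]
      have hu1 : (u : Ω) ≠ 1 := fun e =>
        ht1 (hm.injOn (mem_zpowers _) (one_mem _) (by rw [hmt, e, hm.map_one]))
      rw [hQu, normalizerIn_zpowers_eq hu2 hu1, normalizerIn_zpowers_eq ht2 ht1] at hlt
      obtain ⟨a, ha⟩ := (hS.to_subgroup (centralizer ({t} : Set S))).exists_card_eq
      obtain ⟨b, hb⟩ := (hS.to_subgroup (centralizer ({u} : Set S))).exists_card_eq
      rw [ha, hb] at hlt
      have hab : a < b := (Nat.pow_lt_pow_iff_right (by norm_num)).1 hlt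
      refine dvd_trans ⟨2 ^ (b - (a + 1)), ?_⟩ (?_ : Nat.card (centralizer ({u} : Set S)) ∣ _)
      · rw [ha, hb, ← pow_succ', ← pow_add, Nat.add_sub_cancel' hab]
      -- transport to the fixed points of `(u, t)`
      have hfz : IsMap F (zpowers i) (fun y => toFun φ (f y)) :=
        (hf.res hiP).comp hm fun y hy => by
          obtain ⟨n, rfl⟩ := mem_zpowers_iff.1 hy
          have hfz : f (i ^ n) ∈ fimg f (zpowers i) := apply_mem_fimg f hy
          refine (fimg_le fun w hw => ?_ : fimg f (zpowers i) ≤ zpowers (t : Ω)) hfz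
          obtain ⟨k, rfl⟩ := mem_zpowers_iff.1 hw
          rw [← hxi', show f ((x : Ω) ^ k) = (f (x : Ω)) ^ k from ?_, hfx]
          · exact zpow_mem (mem_zpowers _) k
          · obtain ⟨φf, -, ef⟩ := (hf.res hiP).exists_hom
            have e1 := ef ⟨(x : Ω) ^ k, hxi' ▸ zpow_mem (mem_zpowers _) k⟩
            have e2 := ef ⟨(x : Ω), hxi' ▸ mem_zpowers _⟩
            rw [← e1, ← e2, ← map_zpow]
            rfl
      have hsrc : srcOf (zpowers ((x, t) : S × S)) ≤ zpowers i := by
        rintro _ ⟨w, hw, rfl⟩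
        obtain ⟨n, rfl⟩ := mem_zpowers_iff.1 hw
        show ((((x, t) : S × S) ^ n).1 : Ω) ∈ _
        rw [Prod.pow_fst, Subgroup.coe_zpow, hxi']
        exact zpow_mem (mem_zpowers _) n
      have hrel : GraphRel F (zpowers ((x, t) : S × S)) (zpowers ((u, t) : S × S)) := by
        refine ⟨_, _, hfz, 1, hsrc, ?_⟩
        rw [show graphHom hfz 1 hsrc = graphHom hfz 1 hsrc from rfl,
          MonoidHom.range_eq_map, ← show zpowers (⟨((x, t) : S × S), mem_zpowers _⟩ :
            zpowers ((x, t) : S × S)) = ⊤ from (eq_top_iff' _).2 fun w => by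
              obtain ⟨n, hn⟩ := mem_zpowers_iff.1 w.2
              exact mem_zpowers_iff.2 ⟨n, Subtype.ext hn⟩, MonoidHom.map_zpowers]
        congr 1
        refine Prod.ext (Subtype.ext ?_) (show (1 : S) * t * 1⁻¹ = t by group)
        show toFun φ (f (x : Ω)) = _
        rw [hfx, hmt]
      have hmk : ∀ v : S × S, Nat.card {z : Pts c // v • z = z} = famMark c (zpowers v) :=
        fun v => Nat.card_congr (Equiv.subtypeEquivRight fun z => by
          rw [markSet, Set.mem_ofPred_eq, zpowers_le]; rfl)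
      rw [hmk, hst _ _ hrel, ← hmk]
      -- the centraliser acts freely
      letI act : MulAction (centralizer ({u} : Set S))
          {z : Pts c // ((u, t) : S × S) • z = z} :=
        { smul := fun s z => ⟨((s : S), 1) • z.1, by
            rw [← mul_smul, show ((u, t) : S × S) * ((s : S), 1) = ((s : S), 1) * (u, t) from
              Prod.ext (mem_centralizer_singleton_iff.1 s.2).symm (by simp), mul_smul, z.2]⟩
          one_smul := fun z => Subtype.ext (one_smul (S × S) z.1)
          mul_smul := fun s s' z => Subtype.ext (by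
            show (((s : S) * s' : S), (1 : S)) • z.1 = _
            rw [show (((s : S) * s' : S), (1 : S)) = ((s : S), (1 : S)) * ((s' : S), 1) from
              Prod.ext rfl (by simp), mul_smul]
            rfl) }
      have hst' : ∀ z : {z : Pts c // ((u, t) : S × S) • z = z},
          stabilizer (centralizer ({u} : Set S)) z = ⊥ := fun z =>
        (eq_bot_iff_forall _).2 fun s hs =>
          Subtype.ext (hfree' z.1 s (congrArg Subtype.val hs))
      rw [Nat.card_congr (selfEquivOrbitsQuotientProd hst'), Nat.card_prod]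
      exact dvd_mul_left _ _
  -- parity
  have hsum : Nat.card (Pts c) = Nat.card {z : Pts c // key z = (Nat.card S, g)} +
      Nat.card {z : Pts c // key z = (Nat.card S, 1)} +
        Nat.card {z : Pts c // key z = (2 * Nat.card S, 1)} := by
    simp only [Nat.card_eq_fintype_card (α := Pts c), Nat.card_eq_fintype_card (α := {z : Pts c // _}), Fintype.card_subtype]
    rw [← Finset.card_union_of_disjoint, ← Finset.card_union_of_disjoint]
    · rw [← Finset.card_univ]
      congr 1
      refine (Finset.eq_univ_of_forall fun z => ?_).symm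
      rcases hkey z with e | e | e <;> simp [e]
    · refine Finset.disjoint_left.2 fun z hz hz' => ?_
      simp only [Finset.mem_union, Finset.mem_filter, Finset.mem_univ, true_and] at hz hz'
      rcases hz with e | e <;> exact hne2 (congrArg Prod.fst (e.symm.trans hz'))
    · refine Finset.disjoint_left.2 fun z hz hz' => ?_
      simp only [Finset.mem_filter, Finset.mem_univ, true_and] at hz hz'
      have := congrArg Prod.snd (hz.symm.trans hz')
      exact hg1 this
  rw [htot, hcnt, hcnt, hcnt] at hsum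
  rw [hcnt] at heven
  obtain ⟨m, hm⟩ := heven
  change Nat.card S * cnt (Nat.card S, 1) = 2 * Nat.card S * m at hm
  change famDeg c * Nat.card S = Nat.card S * cnt (Nat.card S, g) +
    Nat.card S * cnt (Nat.card S, 1) + 2 * Nat.card S * cnt (2 * Nat.card S, 1) at hsum
  have hodd : Odd (cnt (Nat.card S, g)) := by
    have e : famDeg c = cnt (Nat.card S, g) + 2 * m + 2 * cnt (2 * Nat.card S, 1) :=
      Nat.eq_of_mul_eq_mul_right hSpos (by rw [hsum, hm]; ring)
    rw [Nat.odd_iff]
    omega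
  -- the value at `i`
  haveI : Fintype (orbitRel.Quotient (↥(zpowers x) × S) (Pts c)) := Fintype.ofFinite _
  have hval : orbTransfer c ψ' x = g ^ cnt (Nat.card S, g) := by
    rw [orbTransfer, orbProd, finprod_eq_prod_of_fintype]
    show _ = g ^ Nat.card _
    rw [Nat.card_eq_fintype_card, Fintype.card_subtype, ← Finset.prod_const,
      ← Finset.prod_filter_mul_prod_filter_not Finset.univ (fun q : orbitRel.Quotient _ (Pts c) =>
        ((stabilizer (↥(zpowers x) × S) q.out).index,
          cycWt ψ' x (stabilizer (↥(zpowers x) × S) q.out)) = (Nat.card S, g))]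
    have h1 : ∀ q ∈ (Finset.univ : Finset (orbitRel.Quotient (↥(zpowers x) × S) (Pts c))).filter
        (fun q => ¬ ((stabilizer (↥(zpowers x) × S) q.out).index,
          cycWt ψ' x (stabilizer (↥(zpowers x) × S) q.out)) = (Nat.card S, g)),
        cycWt ψ' x (stabilizer (↥(zpowers x) × S) q.out) = 1 := fun q hq => by
      rcases hkey q.out with e | e | e
      · exact absurd e (Finset.mem_filter.1 hq).2
      · exact congrArg Prod.snd e
      · exact congrArg Prod.snd e
    rw [Finset.prod_eq_one h1, mul_one]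
    exact Finset.prod_congr rfl fun q hq => congrArg Prod.snd (Finset.mem_filter.1 hq).2
  rw [hval] at hτ1
  obtain ⟨k, hk⟩ := hodd
  rw [hk, pow_succ, pow_mul, show g ^ 2 = 1 by decide, one_pow, one_mul] at hτ1
  exact hg1 hτ1

end Cfsg.Agent.Fus
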