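import Cfsg.Agent.Lib.Fus.ThreeTwo
import Cfsg.Agent.Lib.Classical.UnitCenter

/-!
The 2-fusion systems of `PSL_3(q)` and `PSU_3(q)`, `q` odd, are simple.
-/

set_option autoImplicit false
set_option linter.style.haveILetI false
set_option linter.unusedSectionVars false

open scoped Classical

namespace Cfsg.Agent.Fus.ThreeTwo

open Matrix Cfsg.Agent.Classical

variable {F : Type*} [Field F] [Fintype F]

local notation "SL3" => Matrix.SpecialLinearGroup (Fin 3) F

theorem det_blk (a b c d e : F) : (blk a b c d e).det = (a * d - b * c) * e := by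
  rw [Matrix.det_fin_three]
  simp [blk]
  ring

theorem det_cycM : (cycM (F := F)).det = 1 := by
  rw [Matrix.det_fin_three]
  simp [cycM]

theorem two_ne_zero_of_card (h : Fintype.card F % 2 = 1) : (2 : F) ≠ 0 := fun h0 => by
  haveI : CharP F 2 := CharTwo.of_one_ne_zero_of_two_eq_zero one_ne_zero h0
  obtain ⟨n, hp, hn⟩ := FiniteField.card F 2
  rw [hn, Nat.pow_mod] at h
  simp at h

/-! ### The linear case -/

/-- An element of `⊤` from a matrix. -/
def mkTop (M : Matrix (Fin 3) (Fin 3) F) (h : M.det = 1) : (⊤ : Subgroup SL3) :=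
  ⟨⟨M, h⟩, trivial⟩

theorem exists_top_blk (a b c d e : F) (h : (a * d - b * c) * e = 1) :
    ∃ g : (⊤ : Subgroup SL3), val g = blk a b c d e :=
  ⟨mkTop _ ((det_blk a b c d e).trans h), rfl⟩

theorem val_mkTop (M : Matrix (Fin 3) (Fin 3) F) (h : M.det = 1) : val (mkTop M h) = M := rfl

theorem eq_one_or_neg_one_of_two (hi : ∀ x : F, x * x ≠ -1) {a : F} (ha : Two a) :
    a = 1 ∨ a = -1 := by
  obtain ⟨j, hj⟩ := ha
  induction j with
  | zero => exact Or.inl (by simpa using hj)
  | succ j ih =>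
    rw [pow_succ, pow_mul] at hj
    rcases sq_eq_one_iff.1 hj with h | h
    · exact ih h
    · cases j with
      | zero => exact Or.inr (by simpa using h)
      | succ j =>
        rw [pow_succ, pow_mul, pow_two] at h
        exact absurd h (hi _)

theorem wData_top (hodd : Fintype.card F % 2 = 1) (h4 : Fintype.card F % 4 ≠ 3) :
    WData (⊤ : Subgroup SL3) (fun a => a ≠ 0) := by
  have h2 := two_ne_zero_of_card hodd
  refine ⟨h2, ?_, ?_, ⟨mkTop _ det_cycM, rfl⟩, exists_top_blk _ _ _ _ _ (by ring), ?_, ?_⟩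
  · intro g a b e h
    have := det_val g h
    constructor <;> intro h0 <;> simp [h0] at this
  · intro a b ha hb
    exact exists_top_blk _ _ _ _ _ (by field_simp; ring)
  · obtain ⟨i, hi⟩ := FiniteField.isSquare_neg_one_iff.2 h4
    refine ⟨i, fun h0 => ?_, by rw [pow_two, ← hi]⟩
    rw [h0] at hi; simp at hi
  · refine ⟨mkTop (blk 1 1 1 (-1) (-2⁻¹)) (by rw [det_blk]; field_simp; ring), ?_⟩
    rw [val_mkTop, blk_mul, blk_mul]
    simp

theorem sData_top (hodd : Fintype.card F % 2 = 1) (h4 : Fintype.card F % 4 = 3) :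
    SData (⊤ : Subgroup SL3) := by
  have h2 := two_ne_zero_of_card hodd
  have hi : ∀ x : F, x * x ≠ -1 := fun x hx =>
    (FiniteField.isSquare_neg_one_iff.1 ⟨x, hx.symm⟩) h4
  refine ⟨h2, ⟨mkTop _ det_cycM, rfl⟩, exists_top_blk _ _ _ _ _ (by ring), ?_, ?_, ?_, ?_, ?_⟩
  · obtain ⟨p, hp⟩ := CharP.exists F
    haveI : NeZero p := ⟨by
      intro h0; subst h0
      haveI := CharP.charP_to_charZero F
      exact not_finite F⟩
    obtain ⟨a, b, hab⟩ := CharP.sq_add_sq F p (-1)
    have hab' : (a : F) * a + b * b = -1 := by push_cast at hab; linear_combination hab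
    refine ⟨mkTop (blk (a : F) (-(b : F)) b a (-1)) (by rw [det_blk]; linear_combination -hab'),
      a, b, -1, rfl, hab'⟩
  · intro g x y e _ h hn
    rcases h with rfl | rfl
    · exact hi y (by linear_combination hn)
    · exact hi x (by linear_combination hn)
  · intro g x y e _ h
    exact eq_one_or_neg_one_of_two hi h
  · intro g x y h hn hx
    have hx1 : 1 + x ≠ 0 := fun h0 => hx (by linear_combination h0)
    refine ⟨mkTop (blk (1 + x) y y (-(1 + x)) (-(2 * (1 + x)))⁻¹) (by
      rw [det_blk]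
      have h3 : -(2 * (1 + x)) ≠ 0 := neg_ne_zero.2 (mul_ne_zero h2 hx1)
      rw [mul_inv_eq_one₀ h3]
      linear_combination -hn), ?_⟩
    rw [h, val_mkTop, blk_mul, blk_mul]
    congr 1
    all_goals first | ring1 | linear_combination hn
  · intro g x y h hn
    refine ⟨mkTop (blk x (y - 1) (y + 1) (-x) 2⁻¹) (by
      rw [det_blk, mul_inv_eq_one₀ h2]
      linear_combination -hn), ?_⟩
    rw [h, val_mkTop, blk_mul, blk_mul]
    congr 1
    all_goals first | ring1 | linear_combination hn

theorem isSimple_psl3 (hodd : Fintype.card F % 2 = 1)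
    (S : Sylow 2 (Matrix.ProjectiveSpecialLinearGroup (Fin 3) F)) :
    (groupFusionSystem (S : Subgroup (Matrix.ProjectiveSpecialLinearGroup (Fin 3) F))).IsSimple 2 := by
  obtain ⟨θ, hθ⟩ : ∃ θ : (⊤ : Subgroup SL3) →* Matrix.ProjectiveSpecialLinearGroup (Fin 3) F,
      θ = (QuotientGroup.mk' (Subgroup.center SL3)).comp (⊤ : Subgroup SL3).subtype := ⟨_, rfl⟩
  have hs : Function.Surjective θ := fun x => by
    obtain ⟨g, rfl⟩ := QuotientGroup.mk'_surjective _ x
    exact ⟨⟨g, trivial⟩, by rw [hθ]; rfl⟩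
  have hker : ∀ s, θ s = 1 → s ∈ Subgroup.center (⊤ : Subgroup SL3) ∧ s ^ 3 = 1 := by
    intro s h
    rw [hθ] at h
    have hc : (s : SL3) ∈ Subgroup.center SL3 := (QuotientGroup.eq_one_iff _).1 h
    refine ⟨Subgroup.mem_center_iff.2 fun t => Subtype.ext (Subgroup.mem_center_iff.1 hc (t : SL3)), ?_⟩
    obtain ⟨r, hr, hs⟩ := Matrix.SpecialLinearGroup.mem_center_iff.1 hc
    refine val_inj ?_
    rw [val_pow, val_one, val, ← hs, ← map_pow, show r ^ 3 = 1 by simpa using hr, map_one]
  rcases eq_or_ne (Fintype.card F % 4) 3 with h4 | h4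
  · exact isSimple_semidihedral (sData_top hodd h4) θ hs (m := 3) (by norm_num) hker S
  · exact isSimple_wreathed (wData_top hodd h4) θ hs (m := 3) (by norm_num) hker S

/-! ### The unitary case -/

variable {q : ℕ} (hF : Fintype.card F = q ^ 2)

local notation "cj" => qFrob hF

include hF

theorem mem_su_blk {g : SU 3 F q} {a b c d e : F} (h : val g = blk a b c d e) :
    a * cj a + c * cj c = 1 ∧ b * cj b + d * cj d = 1 ∧ a * cj b + c * cj d = 0 ∧
      e * cj e = 1 := by
  have h1 := suVal_transpose_mul hF g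
  rw [show suVal g = blk a b c d e from h] at h1
  have e00 := congrFun (congrFun h1 0) 0
  have e11 := congrFun (congrFun h1 1) 1
  have e01 := congrFun (congrFun h1 0) 1
  have e22 := congrFun (congrFun h1 2) 2
  simp [blk, Matrix.mul_apply, Fin.sum_univ_three] at e00 e11 e01 e22
  exact ⟨e00, e11, e01, e22⟩

theorem exists_su_blk {a b c d e : F} (h1 : a * cj a + c * cj c = 1) (h2 : b * cj b + d * cj d = 1)
    (h3 : a * cj b + c * cj d = 0) (h4 : e * cj e = 1) (hdet : (a * d - b * c) * e = 1) :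
    ∃ g : SU 3 F q, val g = blk a b c d e := by
  refine ⟨suMk hF (blk a b c d e) (by rw [det_blk, hdet]) ?_, rfl⟩
  have h3' : b * cj a + d * cj c = 0 := by
    have := congrArg cj h3
    rw [map_add, map_mul, map_mul, qFrob_qFrob, qFrob_qFrob, map_zero] at this
    linear_combination this
  ext i j
  fin_cases i <;> fin_cases j <;>
    simp [blk, Matrix.mul_apply, Fin.sum_univ_three, h1, h2, h3, h3', h4]

theorem exists_su_cyc : ∃ g : SU 3 F q, val g = cycM := by
  refine ⟨suMk hF cycM det_cycM ?_, rfl⟩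
  ext i j
  fin_cases i <;> fin_cases j <;> simp [cycM, Matrix.mul_apply, Fin.sum_univ_three]

theorem exists_norm {t : F} (ht : cj t = t) (ht0 : t ≠ 0) : ∃ s : F, s * cj s = t ∧ s ≠ 0 := by
  have h := natCard_norm_eq hF (by rwa [← qFrob_apply hF]) ht0
  have h0 : Nat.card {c : F // c ^ (q + 1) = t} ≠ 0 := by rw [h]; omega
  obtain ⟨⟨s, hs⟩⟩ := (Nat.card_ne_zero.1 h0).1
  refine ⟨s, by rw [qFrob_apply, ← pow_succ', hs], fun h1 => ht0 ?_⟩
  rw [← hs, h1, zero_pow (by omega)]

theorem q_odd (hodd : q % 2 = 1) : Fintype.card F % 2 = 1 := by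
  rw [hF, Nat.pow_mod, hodd]

theorem wData_su (hodd : q % 2 = 1) (h4 : q % 4 = 3) :
    WData (SU 3 F q) (fun a => a * cj a = 1) := by
  have h2 := two_ne_zero_of_card (q_odd hF hodd)
  refine ⟨h2, ?_, ?_, exists_su_cyc hF, ?_, ?_, ?_⟩
  · intro g a b e h
    obtain ⟨h1, h3, -, -⟩ := mem_su_blk hF h
    exact ⟨by simpa using h1, by simpa using h3⟩
  · intro a b ha hb
    have ha0 : a ≠ 0 := left_ne_zero_of_mul_eq_one ha
    have hb0 : b ≠ 0 := left_ne_zero_of_mul_eq_one hb
    refine exists_su_blk hF (by simpa using ha) (by simpa using hb) (by simp) ?_ (by field_simp; ring)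
    rw [map_inv₀, map_mul, ← mul_inv, mul_mul_mul_comm, ha, hb, one_mul, inv_one]
  · refine exists_su_blk hF (by simp) (by simp) (by simp) ?_ (by ring)
    simp
  · obtain ⟨i, hi⟩ := FiniteField.isSquare_neg_one_iff.2 (show Fintype.card F % 4 ≠ 3 by
      rw [hF, Nat.pow_mod, h4]; norm_num)
    refine ⟨i, ?_, by rw [pow_two, ← hi]⟩
    rw [qFrob_apply, ← pow_succ', show q + 1 = 2 * (2 * (q / 4 + 1)) by omega, pow_mul, pow_two, ← hi,
      pow_mul]
    simp
  · have hc2 : cj 2 = 2 := map_ofNat _ 2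
    obtain ⟨s, hs, hs0⟩ := exists_norm hF hc2 h2
    have hcs : cj s ≠ 0 := (map_ne_zero _).2 hs0
    obtain ⟨g, hg⟩ : ∃ g : SU 3 F q, val g = blk s⁻¹ s⁻¹ s⁻¹ (-s⁻¹) (-(s * s) / 2) := by
      refine exists_su_blk hF ?_ ?_ ?_ ?_ ?_
      · simp only [map_inv₀]; field_simp; linear_combination -hs
      · simp only [map_inv₀, map_neg]; field_simp; linear_combination -hs
      · simp only [map_inv₀, map_neg]; ring
      · simp only [map_div₀, map_neg, map_mul, hc2]; field_simp; linear_combination (s * cj s + 2) * hs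
      · field_simp; ring
    refine ⟨g, ?_⟩
    rw [hg, blk_mul, blk_mul]
    simp

theorem sData_su (hodd : q % 2 = 1) (h4 : q % 4 = 1) : SData (SU 3 F q) := by
  have h2 := two_ne_zero_of_card (q_odd hF hodd)
  -- square roots of `-1` are fixed
  have hfix : ∀ i : F, i * i = -1 → cj i = i := fun i hi => by
    rw [qFrob_apply, show q = 2 * (2 * (q / 4)) + 1 by omega, pow_succ, pow_mul, pow_two, hi, pow_mul]
    simp
  refine ⟨h2, exists_su_cyc hF, ?_, ?_, ?_, ?_, ?_, ?_⟩
  · exact exists_su_blk hF (by simp) (by simp) (by simp) (by simp) (by ring)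
  · obtain ⟨i, hi⟩ := FiniteField.isSquare_neg_one_iff.2 (show Fintype.card F % 4 ≠ 3 by
      rw [hF, Nat.pow_mod, h4]; norm_num)
    have hci := hfix i hi.symm
    have hi0 : i ≠ 0 := fun h0 => by rw [h0] at hi; simp at hi
    obtain ⟨t, ht0, ht⟩ : ∃ t : F, t ≠ 0 ∧ t + cj t = 0 := by
      have hne : ∃ x, cj x ≠ x := by
        by_contra h
        push Not at h
        exact qFrob_ne_id hF (RingHom.ext h)
      obtain ⟨x, hx⟩ := hne
      exact ⟨x - cj x, sub_ne_zero.2 (Ne.symm hx), by rw [map_sub, qFrob_qFrob]; ring⟩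
    have hct : cj t = -t := by linear_combination ht
    obtain ⟨x, hx⟩ : ∃ x : F, x = (t - t⁻¹) / 2 := ⟨_, rfl⟩
    obtain ⟨y, hy⟩ : ∃ y : F, y = (t + t⁻¹) / (2 * i) := ⟨_, rfl⟩
    have hcx : cj x = -x := by
      rw [hx, map_div₀, map_sub, map_inv₀, hct, map_ofNat, inv_neg]; ring
    have hcy : cj y = -y := by
      rw [hy, map_div₀, map_add, map_inv₀, map_mul, hct, hci, map_ofNat, inv_neg]; ring
    have hn : x * x + y * y = -1 := by
      rw [hx, hy]; field_simp
      linear_combination -(t ^ 2 + 1) ^ 2 * hi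
    obtain ⟨g, hg⟩ := exists_su_blk hF (a := x) (b := -y) (c := y) (d := x) (e := -1)
      (by rw [hcx, hcy]; linear_combination -hn)
      (by rw [map_neg, hcx, hcy]; linear_combination -hn)
      (by rw [map_neg, hcx, hcy]; ring) (by simp) (by linear_combination -hn)
    exact ⟨g, x, y, -1, hg, hn⟩
  · intro g x y e hg h hn
    obtain ⟨h1, -, -, -⟩ := mem_su_blk hF hg
    rcases h with rfl | rfl
    · have hy : y * y = -1 := by linear_combination hn
      rw [hfix y hy, map_zero] at h1
      exact h2 (by linear_combination hy - h1)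
    · have hx : x * x = -1 := by linear_combination hn
      rw [hfix x hx, map_zero] at h1
      exact h2 (by linear_combination hx - h1)
  · intro g x y e hg ⟨j, hj⟩
    obtain ⟨-, -, -, h1⟩ := mem_su_blk hF hg
    have he := knorm hg
    have hN : (x * x + y * y) ^ (q + 1) = 1 := by
      have : e ^ (q + 1) = 1 := by rw [pow_succ', ← qFrob_apply hF, h1]
      calc (x * x + y * y) ^ (q + 1) = (x * x + y * y) ^ (q + 1) * e ^ (q + 1) := by rw [this, mul_one]
        _ = 1 := by rw [← mul_pow, he, one_pow]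
    have h3 := pow_gcd_eq_one.2 ⟨hj, hN⟩
    obtain ⟨i, hi, hgi⟩ := (Nat.dvd_prime_pow Nat.prime_two).1 (Nat.gcd_dvd_left (2 ^ j) (q + 1))
    have hi1 : i ≤ 1 := by
      by_contra hlt
      have := (pow_dvd_pow 2 (show 2 ≤ i by omega)).trans (hgi ▸ Nat.gcd_dvd_right (2 ^ j) (q + 1))
      omega
    refine mul_self_eq_one_iff.1 ?_
    rw [hgi] at h3
    interval_cases i
    · rw [pow_zero, pow_one] at h3; rw [h3, one_mul]
    · rw [pow_one, pow_two] at h3; exact h3
  · intro g x y hg hn hx
    obtain ⟨h1, -, h3, -⟩ := mem_su_blk hF hg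
    have hcx : cj x = x := by
      rw [map_neg] at h3
      linear_combination -cj x * hn + x * h1 - y * h3
    have hcy : cj y = y := by
      rw [map_neg] at h3
      linear_combination -cj y * hn + y * h1 + x * h3
    have hx1 : 1 + x ≠ 0 := fun h0 => hx (by linear_combination h0)
    have hk : (2 * (1 + x)) ≠ 0 := mul_ne_zero h2 hx1
    have hck : cj (2 * (1 + x)) = 2 * (1 + x) := by rw [map_mul, map_add, map_one, map_ofNat, hcx]
    obtain ⟨s, hs, hs0⟩ := exists_norm hF hck hk
    have hcs : cj s ≠ 0 := (map_ne_zero _).2 hs0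
    obtain ⟨k, hk'⟩ : ∃ k : SU 3 F q,
        val k = blk ((1 + x) / s) (y / s) (y / s) (-((1 + x) / s)) (-(s * s) / (2 * (1 + x))) := by
      refine exists_su_blk hF ?_ ?_ ?_ ?_ ?_
      · simp only [map_div₀, map_add, map_one, hcx, hcy]; field_simp; linear_combination hn - hs
      · simp only [map_div₀, map_neg, map_add, map_one, hcx, hcy]; field_simp
        linear_combination hn - hs
      · simp only [map_div₀, map_neg, map_add, map_one, hcx, hcy]; ring
      · rw [map_div₀, hck, map_neg, map_mul]; field_simp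
        linear_combination (s * cj s + 2 * (1 + x)) * hs
      · field_simp; linear_combination hn
    refine ⟨k, ?_⟩
    rw [hg, hk', blk_mul, blk_mul]
    congr 1
    all_goals first | ring1 | (field_simp; linear_combination hn)
  · intro g x y hg hn
    obtain ⟨h1, -, h3, -⟩ := mem_su_blk hF hg
    have hcx : cj x = -x := by
      rw [map_neg] at h3
      linear_combination cj x * hn - x * h1 + y * h3
    have hcy : cj y = -y := by
      rw [map_neg] at h3
      linear_combination cj y * hn - y * h1 - x * h3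
    have hc2 : cj 2 = 2 := map_ofNat _ 2
    obtain ⟨s, hs, hs0⟩ := exists_norm hF hc2 h2
    have hcs : cj s ≠ 0 := (map_ne_zero _).2 hs0
    obtain ⟨k, hk'⟩ : ∃ k : SU 3 F q,
        val k = blk (x / s) ((y - 1) / s) ((y + 1) / s) (-(x / s)) (s * s / 2) := by
      refine exists_su_blk hF ?_ ?_ ?_ ?_ ?_
      · simp only [map_div₀, map_add, map_one, hcx, hcy]; field_simp; linear_combination -hn - hs
      · simp only [map_div₀, map_neg, map_sub, map_one, hcx, hcy]; field_simp
        linear_combination -hn - hs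
      · simp only [map_div₀, map_neg, map_sub, map_one, hcx, hcy]; ring
      · rw [map_div₀, hc2, map_mul]; field_simp; linear_combination (s * cj s + 2) * hs
      · field_simp; linear_combination -hn
    refine ⟨k, ?_⟩
    rw [hg, hk', blk_mul, blk_mul]
    congr 1
    all_goals first | ring1 | (field_simp; linear_combination hn)

theorem isSimple_psu3 (hodd : q % 2 = 1) (S : Sylow 2 (PSU 3 F q)) :
    (groupFusionSystem (S : Subgroup (PSU 3 F q))).IsSimple 2 := by
  have hs : Function.Surjective (suToPSU 3 F q) := QuotientGroup.mk'_surjective _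
  have hker : ∀ s, suToPSU 3 F q s = 1 → s ∈ Subgroup.center (SU 3 F q) ∧ s ^ 3 = 1 := by
    intro s h
    have hc : s ∈ Subgroup.center (SU 3 F q) := (QuotientGroup.eq_one_iff _).1 h
    obtain ⟨c, hsc⟩ := suVal_scalar_of_mem_center hF hc
    refine ⟨hc, suVal_ext ?_⟩
    have hdet : (suVal s).det = 1 := s.1.2
    rw [hsc, Matrix.scalar_apply, Matrix.det_diagonal, Finset.prod_const, Finset.card_univ,
      Fintype.card_fin] at hdet
    rw [suVal_pow, hsc, ← map_pow, hdet, map_one]
    rfl
  rcases (by omega : q % 4 = 1 ∨ q % 4 = 3) with h4 | h4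
  · exact isSimple_semidihedral (sData_su hF hodd h4) (suToPSU 3 F q) hs (m := 3) (by norm_num) hker S
  · exact isSimple_wreathed (wData_su hF hodd h4) (suToPSU 3 F q) hs (m := 3) (by norm_num) hker S

end Cfsg.Agent.Fus.ThreeTwo
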