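import Cfsg.Agent.Lib.Fus.TranspPoints
import Mathlib.GroupTheory.PGroup

/-!
A class of size not divisible by four with the three-transposition property is fixed by automorphisms: some member
commutes with the squares of a two-group, and the centraliser of those is listed.
-/

set_option autoImplicit false

namespace Cfsg.Agent.Fus.Transp

open Cfsg.Agent.Spor.Cos Cfsg.Agent.Spor.Cos.Triple

/-- The product of the earlier words picked by a mask, the latest first. -/
noncomputable def maskW (H : List (List ℕ)) (i m : ℕ) : List ℕ :=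
  ((List.range i).reverse.map fun k => bif Nat.beq ((m >>> k) % 2) 1 then H.getD k [] else []).flatten

/-- A square or a commutator. -/
def chainW (H : List (List ℕ)) (i j : ℕ) : List ℕ :=
  bif Nat.beq i j then H.getD i [] ++ H.getD i []
  else H.getD i [] ++ (H.getD j [] ++ ((H.getD i []).reverse ++ (H.getD j []).reverse))

/-- A step of a series. -/
noncomputable def chkChain (A : Act) (q : List ℕ) (H : List (List ℕ)) (E : List (List ℕ)) (i : ℕ) : Bool :=
  (List.range (i + 1)).all fun j => sameW A q (chainW H i j) (maskW H i ((E.getD i []).getD j 0))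

variable {G : Type*} [Group G] {g : ℕ → G}

theorem maskW_mem (H : List (List ℕ)) (i m : ℕ) : ev g (maskW H i m) ∈ val g (H.take i) := by
  rw [maskW, ev_flatten, List.map_map]
  refine list_prod_mem fun y hy => ?_
  obtain ⟨k, hk, rfl⟩ := List.mem_map.1 hy
  rw [List.mem_reverse, List.mem_range] at hk
  simp only [Function.comp]
  cases Nat.beq ((m >>> k) % 2) 1
  · exact one_mem _
  · rcases Nat.lt_or_ge k H.length with h | h
    · exact mem_val (List.mem_take_iff_getElem.2 ⟨k, by omega, (List.getD_eq_getElem _ _ h).symm⟩)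
    · rw [cond_true, List.getD_eq_default _ _ h]
      exact one_mem _

theorem maskW_mem_val (H : List (List ℕ)) (i m : ℕ) : ev g (maskW H i m) ∈ val g H :=
  Subgroup.closure_mono (h := {y | ∃ w ∈ H.take i, ev g w = y}) (k := {y | ∃ w ∈ H, ev g w = y})
    (fun _ ⟨w, hw, e⟩ => ⟨w, List.mem_of_mem_take hw, e⟩) (maskW_mem H i m)

/-- A series with squares and commutators in the earlier terms gives a two-group. -/
theorem isPGroup_of_chain (hsq : ∀ s, g s * g s = 1) {A : Act} {q : List ℕ}
    (heq : ∀ v w : List ℕ, sameW A q v w = true → ev g v = ev g w) {H E : List (List ℕ)}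
    (h : ((List.range H.length).all fun i => chkChain A q H E i) = true) : IsPGroup 2 (val g H) := by
  suffices key : ∀ i ≤ H.length, ∀ y ∈ val g (H.take i), y ^ 2 ^ i = 1 by
    intro y
    refine ⟨H.length, Subtype.ext ?_⟩
    have := key H.length le_rfl y (by rw [List.take_length]; exact y.2)
    simpa using this
  intro i
  induction i with
  | zero => intro _ y hy; rw [List.take_zero, val_nil, Subgroup.mem_bot] at hy; simp [hy]
  | succ i ih =>
    intro hi y hy
    set K := val g (H.take i) with hK
    set a := ev g (H.getD i []) with ha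
    have hrev : ∀ w : List ℕ, ev g w.reverse = (ev g w)⁻¹ := fun w => by
      refine ev_reverse (n := w.sum + 1) (fun s _ => hsq s) w fun s hs => ?_
      have := List.le_sum_of_mem hs
      omega
    have hc : ∀ j ≤ i, ev g (chainW H i j) ∈ K := fun j hj => by
      have := List.all_eq_true.1 (List.all_eq_true.1 h i (List.mem_range.2 hi)) j (List.mem_range.2 (by omega))
      rw [heq _ _ this]
      exact maskW_mem H i _
    have haa : a * a ∈ K := by simpa [chainW, ev_append, ha] using hc i le_rfl
    have hconj : ∀ k ∈ K, a * k * a⁻¹ ∈ K := by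
      intro k hk
      induction hk using Subgroup.closure_induction with
      | mem k hk =>
        obtain ⟨w, hw, rfl⟩ := hk
        obtain ⟨j, hj, e⟩ := List.mem_take_iff_getElem.1 hw
        have := hc j (by omega)
        rw [chainW, show Nat.beq i j = false from Bool.eq_false_iff.2 fun e => by
            have := Nat.eq_of_beq_eq_true e; omega, cond_false, ev_append, ev_append, ev_append, hrev, hrev,
          List.getD_eq_getElem H [] (show j < H.length by omega), e, ← ha] at this
        have hm : ev g w ∈ K := mem_val hw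
        have := mul_mem this hm
        simpa [mul_assoc] using this
      | one => simp [one_mem]
      | mul u v _ _ hu hv =>
        rw [show a * (u * v) * a⁻¹ = (a * u * a⁻¹) * (a * v * a⁻¹) by group]
        exact mul_mem hu hv
      | inv u _ hu =>
        rw [show a * u⁻¹ * a⁻¹ = (a * u * a⁻¹)⁻¹ by group]
        exact inv_mem hu
    have hconj' : ∀ k ∈ K, a⁻¹ * k * a ∈ K := fun k hk => by
      rw [show a⁻¹ * k * a = (a * a)⁻¹ * (a * k * a⁻¹) * (a * a) by group]
      exact mul_mem (mul_mem (inv_mem haa) (hconj k hk)) haa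
    have hcase : y ∈ K ∨ a⁻¹ * y ∈ K := by
      induction hy using Subgroup.closure_induction with
      | mem y hy =>
        obtain ⟨w, hw, rfl⟩ := hy
        obtain ⟨j, hj, e⟩ := List.mem_take_iff_getElem.1 hw
        rcases Nat.lt_succ_iff_lt_or_eq.1 (show j < i + 1 by omega) with hji | rfl
        · exact Or.inl (mem_val (List.mem_take_iff_getElem.2 ⟨j, by omega, e⟩))
        · right
          rw [ha, List.getD_eq_getElem H [] (show j < H.length by omega), e, inv_mul_cancel]
          exact one_mem _
      | one => exact Or.inl (one_mem _)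
      | mul u v _ _ hu hv =>
        rcases hu with hu | hu <;> rcases hv with hv | hv
        · exact Or.inl (mul_mem hu hv)
        · right
          rw [show a⁻¹ * (u * v) = (a⁻¹ * u * a) * (a⁻¹ * v) by group]
          exact mul_mem (hconj' u hu) hv
        · right
          rw [← mul_assoc]
          exact mul_mem hu hv
        · left
          rw [show u * v = (a * (a⁻¹ * u) * a⁻¹) * (a * a) * (a⁻¹ * v) by group]
          exact mul_mem (mul_mem (hconj _ hu) haa) hv
      | inv u _ hu =>
        rcases hu with hu | hu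
        · exact Or.inl (inv_mem hu)
        · right
          rw [show a⁻¹ * u⁻¹ = (a⁻¹ * (a⁻¹ * u)⁻¹ * a) * (a * a)⁻¹ by group]
          exact mul_mem (hconj' _ (inv_mem hu)) (inv_mem haa)
    have h2 : y * y ∈ K := by
      rcases hcase with hy' | hy'
      · exact mul_mem hy' hy'
      · rw [show y * y = (a * (a⁻¹ * y) * a⁻¹) * (a * a) * (a⁻¹ * y) by group]
        exact mul_mem (mul_mem (hconj _ hy') haa) hy'
    have := ih (by omega) _ h2
    rwa [← pow_two, ← pow_mul, ← pow_succ'] at this

/-- A member of a class of size not divisible by four commuting with the squares of a two-group. -/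
theorem exists_comm_sq [Finite G] (P : Subgroup G) (hP : IsPGroup 2 P) (t : G)
    (hN : Nat.card (conjugatesOf t) % 4 ≠ 0) :
    ∃ t', IsConj t t' ∧ ∀ y ∈ P, y * y * t' = t' * (y * y) := by
  classical
  let C := conjugatesOf t
  letI : MulAction P C :=
    { smul := fun y x => ⟨(y : G) * x * (y : G)⁻¹, show IsConj t _ from
        IsConj.trans (show IsConj t (x : G) from x.2) (isConj_iff.2 ⟨(y : G), rfl⟩)⟩
      one_smul := fun x => Subtype.ext (by show ((1 : P) : G) * x * ((1 : P) : G)⁻¹ = x; simp)
      mul_smul := fun y z x => Subtype.ext (by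
        show ((y * z : P) : G) * x * ((y * z : P) : G)⁻¹ = (y : G) * ((z : G) * x * (z : G)⁻¹) * (y : G)⁻¹
        rw [Subgroup.coe_mul]; group) }
  obtain ⟨x, hx⟩ : ∃ x : C, Nat.card (MulAction.orbit P x) ≤ 2 := by
    by_contra hc
    simp only [not_exists, not_le] at hc
    refine hN (Nat.mod_eq_zero_of_dvd ?_)
    haveI := Fintype.ofFinite (MulAction.orbitRel.Quotient P C)
    rw [Nat.card_congr (MulAction.selfEquivSigmaOrbits P C), Nat.card_sigma]
    refine Finset.dvd_sum fun o _ => ?_
    obtain ⟨n, hn⟩ := hP.card_orbit (Quotient.out o : C)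
    have h3 := hc (Quotient.out o)
    have e : Nat.card (MulAction.orbit P (Quotient.out o : C)) = 2 ^ n := hn
    rcases n with _ | _ | n
    · simp [e] at h3
    · simp [e] at h3
    · exact ⟨2 ^ n, by rw [e, pow_succ, pow_succ]; ring⟩
  refine ⟨x, x.2, fun y hy => ?_⟩
  set y' : P := ⟨y, hy⟩
  have h2 : (y' * y') • x = x := by
    by_contra hne
    have h1 : y' • x ≠ x := fun e => hne (by rw [mul_smul, e, e])
    have h3 : (y' * y') • x ≠ y' • x := fun e => h1 (smul_left_cancel y' (by rwa [← mul_smul]))
    have hsub : ({x, y' • x, (y' * y') • x} : Set C) ⊆ MulAction.orbit P x := by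
      rintro _ (rfl | rfl | rfl)
      · exact MulAction.mem_orbit_self _
      · exact MulAction.mem_orbit _ _
      · exact MulAction.mem_orbit _ _
    have h := Set.ncard_le_ncard hsub (Set.toFinite _)
    rw [Set.ncard_eq_three.2 ⟨x, y' • x, (y' * y') • x, h1.symm, Ne.symm hne, h3.symm, rfl⟩,
      ← Nat.card_coe_set_eq] at h
    omega
  have e := congrArg (Subtype.val : C → G) h2
  change ((y' * y' : P) : G) * x * ((y' * y' : P) : G)⁻¹ = x at e
  rw [Subgroup.coe_mul] at e
  exact mul_inv_eq_iff_eq_mul.1 e

/-- Words picked from some words and their inverses. -/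
def pickW (sW : List (List ℕ)) (L : List ℕ) : List ℕ :=
  (L.map fun i => (sW ++ sW.map List.reverse).getD i []).flatten

/-- An orbit representative, words fixing it, and the possible images. -/
structure Rt where
  /-- the point -/
  r : ℕ
  /-- words with their factors -/
  fix : List (List ℕ × List ℕ)
  /-- the possible images -/
  cands : List ℕ

/-- A generator point from a representative. -/
structure Dv where
  /-- the representative -/
  d : ℕ
  /-- the word -/
  w : List ℕ
  /-- its factors -/
  L : List ℕ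
  /-- the possible images -/
  vals : List Pt

/-- The check of a representative. -/
noncomputable def chkRt (A : Act) (q : List ℕ) (sW : List (List ℕ)) (R : Rt) : Bool :=
  Nat.blt R.r A.N && R.fix.all fun e => sameW A q e.1 (pickW sW e.2) && Nat.beq (A.go e.1 R.r) R.r

/-- The check of the possible images at a point. -/
noncomputable def chkCand (A : Act) (R : Rt) (p : ℕ) : Bool :=
  !(A.chkFix (R.fix.map Prod.fst) p) || R.cands.any (Nat.beq p)

/-- The entry of a list of generator points. -/
def dvAt (D : List Dv) (s : ℕ) : Dv := D.getD s ⟨0, [], [], []⟩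

/-- The image of a generator point for a choice. -/
def valAt (D : List Dv) (sel : List ℕ) (s : ℕ) : Pt :=
  (dvAt D s).vals.getD (sel.getD (dvAt D s).d 0) ⟨0, [], []⟩

/-- The check of a generator point. -/
noncomputable def chkDv (A : Act) (q tw : List ℕ) (b : ℕ) (sW : List (List ℕ)) (Rs : List Rt) (D : List Dv)
    (s : ℕ) : Bool :=
  (fun e : Dv => (fun R : Rt =>
    Nat.blt e.d Rs.length && sameW A q e.w (pickW sW e.L) && Nat.beq (A.go e.w R.r) (q.getD s 0) &&
      (List.range R.cands.length).all fun k => (fun v : Pt =>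
        chkPt A q tw b v && Nat.beq (A.go e.w (R.cands.getD k 0)) v.p) (e.vals.getD k ⟨0, [], []⟩))
    (Rs.getD e.d ⟨0, [], []⟩)) (dvAt D s)

/-- The newest images of a choice keep the pattern. -/
noncomputable def okSel (A : Act) (q : List ℕ) (D : List Dv) (sel : List ℕ) : Bool :=
  (List.range A.n).all fun s => !(Nat.beq ((dvAt D s).d + 1) sel.length) ||
    (List.range A.n).all fun t => !(Nat.blt (dvAt D t).d sel.length) ||
      !(viol A q t (valAt D sel t) s (valAt D sel s).p ||
        (!(Nat.beq (q.getD t 0) (q.getD s 0)) && Nat.beq (valAt D sel t).p (valAt D sel s).p))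

/-- A complete choice is that of a listed word. -/
noncomputable def finSel (A : Act) (q : List ℕ) (D : List Dv) (zs : List (List ℕ)) (sel : List ℕ) : Bool :=
  zs.any fun z => (z.all fun t => Nat.blt t A.n) &&
    (List.range A.n).all fun s => Nat.beq (A.go z (q.getD s 0)) (valAt D sel s).p

/-- The search through the choices. -/
noncomputable def dfs (ok fin : List ℕ → Bool) (ms : List ℕ) : List ℕ → Bool :=
  List.rec (motive := fun _ => List ℕ → Bool) (fun sel => fin sel)
    (fun m _ ih sel => (List.range m).all fun k => !(ok (sel ++ [k])) || ih (sel ++ [k])) ms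

theorem dfs_spec {ok fin : List ℕ → Bool} : ∀ {ms rest sel : List ℕ}, dfs ok fin ms sel = true →
    List.Forall₂ (· < ·) rest ms → (∀ k ≤ rest.length, 1 ≤ k → ok (sel ++ rest.take k) = true) →
    fin (sel ++ rest) = true
  | [], _, sel, h, .nil, _ => by simpa [dfs] using h
  | m :: ms, k :: rest, sel, h, .cons hk hr, hok => by
    have h' := List.all_eq_true.1 h k (List.mem_range.2 hk)
    have e := hok 1 (by simp) le_rfl
    simp only [List.take_succ_cons, List.take_zero] at e
    rw [e, Bool.not_true, Bool.false_or] at h'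
    rw [show sel ++ k :: rest = (sel ++ [k]) ++ rest by simp]
    refine dfs_spec (ms := ms) h' hr fun i hi h1 => ?_
    have := hok (i + 1) (by simp; omega) (by omega)
    simpa [List.take_succ_cons] using this

/-- The check of an element commuting with the squares. -/
noncomputable def chkZ (A : Act) (q tw : List ℕ) (e : List ℕ × List ℕ) : Bool :=
  (e.1.all fun s => Nat.blt s A.n) && (e.2.all fun s => Nat.blt s A.n) &&
    (sameW A q e.1 (conjW tw e.2) || sameW A q e.1 [] || !(agree A q (e.1 ++ e.1) []) ||
      (fun P : List ℕ => !(agree A q (P ++ P) []) && !(agree A q (P ++ (P ++ P)) [])) (conjW e.1 e.2 ++ e.1))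

namespace Setup

variable {A : Act} {π : G →* Equiv.Perm (Fin A.N)} {q : List ℕ} {b : Fin A.N} {tw : List ℕ}
  (S : Setup g A π q b tw)

include S in
theorem comm_pick {sW : List (List ℕ)} (hl : Act.lettersOk A.n sW = true) {x : G}
    (hx : ∀ s ∈ sW, x * ev g s = ev g s * x) (L : List ℕ) :
    x * ev g (pickW sW L) = ev g (pickW sW L) * x := by
  refine (Subgroup.mem_centralizer_singleton_iff.1 (?_ : ev g (pickW sW L) ∈ Subgroup.centralizer {x})).symm
  rw [pickW, ev_flatten, List.map_map]
  refine list_prod_mem fun y hy => ?_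
  obtain ⟨i, -, rfl⟩ := List.mem_map.1 hy
  simp only [Function.comp]
  rcases Nat.lt_or_ge i (sW ++ sW.map List.reverse).length with hi | hi
  · rw [List.getD_eq_getElem _ _ hi]
    have hm := List.getElem_mem hi
    simp only [List.mem_append, List.mem_map] at hm
    rcases hm with hm | ⟨w, hw, e⟩
    · exact Subgroup.mem_centralizer_singleton_iff.2 (hx _ hm).symm
    · rw [← e, ev_reverse (fun s _ => S.sq s) w (Act.lt_of_lettersOk hl hw)]
      exact inv_mem (Subgroup.mem_centralizer_singleton_iff.2 (hx _ hw).symm)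
  · rw [List.getD_eq_default _ _ hi]
    exact one_mem _

include S in
theorem comm_apply {x : G} {w : List ℕ} (hw : ∀ s ∈ w, s < A.n) (h : x * ev g w = ev g w * x) {r r' : Fin A.N}
    (hr : A.go w r = r') : A.go w (π x r) = π x r' := by
  rw [← S.hom.apply_ev w hw, show r' = π (ev g w) r from Fin.ext (hr.symm.trans (S.hom.apply_ev w hw r).symm),
    ← Equiv.Perm.mul_apply, ← map_mul, ← h, map_mul, Equiv.Perm.mul_apply]

include S in
theorem centralizer_listed {sW : List (List ℕ)} (hl : Act.lettersOk A.n sW = true) {Rs : List Rt}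
    (hR : ∀ R ∈ Rs, chkRt A q sW R = true) (hC : ∀ R ∈ Rs, ∀ p < A.N, chkCand A R p = true) {D : List Dv}
    (hD : ((List.range A.n).all fun s => chkDv A q tw b sW Rs D s) = true) {zs : List (List ℕ)}
    (hdfs : dfs (okSel A q D) (finSel A q D zs) (Rs.map fun R => R.cands.length) [] = true)
    (x : G) (hx : ∀ s ∈ sW, x * ev g s = ev g s * x) : ∃ z ∈ zs, x = ev g z := by
  have hsame : ∀ {v w : List ℕ}, sameW A q v w = true → ∀ s ∈ v, s < A.n := fun h s hs => by
    simp only [sameW, Bool.and_eq_true, List.all_eq_true] at h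
    exact Nat.le_of_ble_eq_true (h.1.1 s hs)
  have hch : ∀ R ∈ Rs, ∃ k < R.cands.length, ∀ hr : R.r < A.N, (π x ⟨R.r, hr⟩ : ℕ) = R.cands.getD k 0 := by
    intro R hRm
    have h := hR R hRm
    simp only [chkRt, Bool.and_eq_true, List.all_eq_true] at h
    have hr : R.r < A.N := Nat.le_of_ble_eq_true h.1
    have hfix : A.chkFix (R.fix.map Prod.fst) (π x ⟨R.r, hr⟩) = true := by
      refine List.all_eq_true.2 fun w hw => ?_
      obtain ⟨e, he, rfl⟩ := List.mem_map.1 hw
      obtain ⟨hs, hgo⟩ := h.2 e he
      rw [S.comm_apply (hsame hs) (S.eqW hs ▸ S.comm_pick hl hx e.2) (r' := ⟨R.r, hr⟩) (Nat.eq_of_beq_eq_true hgo)]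
      exact Nat.beq_refl _
    have := hC R hRm _ (π x ⟨R.r, hr⟩).2
    rw [chkCand, hfix, Bool.not_true, Bool.false_or, List.any_eq_true] at this
    obtain ⟨c, hc, e⟩ := this
    obtain ⟨k, hk, rfl⟩ := List.getElem_of_mem hc
    exact ⟨k, hk, fun _ => by rw [List.getD_eq_getElem _ _ hk]; exact Nat.eq_of_beq_eq_true e⟩
  classical
  let sel : List ℕ := Rs.map fun R => if h : R ∈ Rs then (hch R h).choose else 0
  have hsel : List.Forall₂ (· < ·) sel (Rs.map fun R => R.cands.length) := by
    rw [List.forall₂_map_left_iff, List.forall₂_map_right_iff]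
    refine List.forall₂_same.2 fun R hRm => ?_
    rw [dif_pos hRm]
    exact (hch R hRm).choose_spec.1
  have hv : ∀ s < A.n, chkPt A q tw b (valAt D sel s) = true ∧
      ∀ hq : q.getD s 0 < A.N, (π x ⟨q.getD s 0, hq⟩ : ℕ) = (valAt D sel s).p := by
    intro s hs
    have h := List.all_eq_true.1 hD s (List.mem_range.2 hs)
    simp only [chkDv, Bool.and_eq_true, List.all_eq_true, List.mem_range] at h
    obtain ⟨⟨⟨hd, hw⟩, hgo⟩, hall⟩ := h
    set e := dvAt D s
    have hd' : e.d < Rs.length := Nat.le_of_ble_eq_true hd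
    rw [List.getD_eq_getElem _ _ hd'] at hgo hall
    set R := Rs[e.d]
    have hRm : R ∈ Rs := List.getElem_mem hd'
    obtain ⟨hk, hkx⟩ := (hch R hRm).choose_spec
    have hselv : sel.getD e.d 0 = (hch R hRm).choose := by
      simp only [sel]
      rw [List.getD_eq_getElem _ _ (by simpa using hd'), List.getElem_map, dif_pos hRm]
    obtain ⟨h1, h2⟩ := hall _ hk
    have hr : R.r < A.N := by
      have := hR R hRm
      simp only [chkRt, Bool.and_eq_true] at this
      exact Nat.le_of_ble_eq_true this.1
    refine ⟨by rw [valAt, hselv]; exact h1, fun hq => ?_⟩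
    rw [valAt, hselv, ← Nat.eq_of_beq_eq_true h2, ← hkx hr]
    exact (S.comm_apply (hsame hw) (S.eqW hw ▸ S.comm_pick hl hx e.L) (r' := ⟨_, hq⟩)
      (Nat.eq_of_beq_eq_true hgo)).symm
  have hok : ∀ k ≤ sel.length, 1 ≤ k → okSel A q D ([] ++ sel.take k) = true := by
    intro k hk _
    simp only [List.nil_append, okSel, List.all_eq_true, List.mem_range, Bool.or_eq_true, Bool.not_eq_true',
      Bool.or_eq_false_iff, Bool.and_eq_false_iff, Bool.not_eq_false']
    intro s hs
    rcases Bool.eq_false_or_eq_true (Nat.beq ((dvAt D s).d + 1) (sel.take k).length) with h | h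
    swap
    · exact Or.inl h
    right
    intro t ht
    rcases Bool.eq_false_or_eq_true (Nat.blt (dvAt D t).d (sel.take k).length) with h' | h'
    swap
    · exact Or.inl h'
    right
    have hlen : (sel.take k).length = k := by simp; omega
    have hval : ∀ u, (dvAt D u).d < k → valAt D (sel.take k) u = valAt D sel u := fun u hu => by
      simp only [valAt, List.getD_eq_getElem?_getD, List.getElem?_take_of_lt hu]
    rw [hlen] at h h'
    have h'' := Nat.eq_of_beq_eq_true h
    rw [hval s (by omega), hval t (Nat.le_of_ble_eq_true h')]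
    obtain ⟨hps, hxs⟩ := hv s hs
    obtain ⟨hpt, hxt⟩ := hv t ht
    rw [← hxs (S.q_lt hs)]
    refine ⟨?_, ?_⟩
    swap
    · rcases Bool.eq_false_or_eq_true (Nat.beq (valAt D sel t).p (π x ⟨q.getD s 0, S.q_lt hs⟩)) with h3 | h3
      swap
      · exact Or.inr h3
      left
      have e := (π x).injective (Fin.ext ((hxt (S.q_lt ht)).trans (Nat.eq_of_beq_eq_true h3)))
      rw [show q.getD t 0 = q.getD s 0 from congrArg Fin.val e]
      exact Nat.beq_refl _
    exact S.not_viol (φ := MulAut.conj x) (P := π x ⟨_, S.q_lt ht⟩) ht hs hpt (hxt _)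
      (by rw [S.T_apply, S.T_q ht]; rfl) (by rw [S.T_apply, S.T_q hs]; rfl)
  have hfin := dfs_spec hdfs hsel hok
  simp only [List.nil_append, finSel, List.any_eq_true, Bool.and_eq_true, List.all_eq_true, List.mem_range] at hfin
  obtain ⟨z, hz, hzl, hzp⟩ := hfin
  refine ⟨z, hz, inv_mul_eq_one.1 (S.det _ fun p hp => ?_)⟩
  obtain ⟨i, hi, e⟩ := List.getElem_of_mem hp
  have hi' : i < A.n := S.qlen ▸ hi
  have hp' : p = ⟨q.getD i 0, S.q_lt hi'⟩ := Fin.ext (e.symm.trans (List.getD_eq_getElem _ _ hi).symm)
  rw [map_mul, map_inv, Equiv.Perm.mul_apply, Equiv.Perm.inv_eq_iff_eq, hp']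
  refine Fin.ext ?_
  rw [(hv i hi').2, S.hom.apply_ev z (fun t ht => Nat.le_of_ble_eq_true (hzl t ht))]
  exact Nat.eq_of_beq_eq_true (hzp i hi')

include S in
theorem cls_fixed [Finite G] (ht2 : ev g tw * ev g tw = 1) (ht1 : ev g tw ≠ 1)
    (hprop : ∀ c, (c * ev g tw * c⁻¹ * ev g tw) ^ 2 = 1 ∨ (c * ev g tw * c⁻¹ * ev g tw) ^ 3 = 1)
    (hN : Nat.card (conjugatesOf (ev g tw)) % 4 ≠ 0)
    {H E : List (List ℕ)} (hH : ((List.range H.length).all fun i => chkChain A q H E i) = true)
    {sW : List (List ℕ)} {ms : List ℕ} (hl : Act.lettersOk A.n sW = true)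
    (hs : ((List.range sW.length).all fun i =>
      (fun X : List ℕ => sameW A q (X ++ X) (sW.getD i [])) (maskW H H.length (ms.getD i 0))) = true)
    {zs : List (List ℕ × List ℕ)}
    (hlist : ∀ x : G, (∀ s ∈ sW, x * ev g s = ev g s * x) → ∃ z ∈ zs.map Prod.fst, x = ev g z)
    (hz : (zs.all fun e => chkZ A q tw e) = true) (φ : MulAut G) : IsConj (ev g tw) (φ (ev g tw)) := by
  set tz := ev g tw with htz
  have hP : IsPGroup 2 (val g H) := isPGroup_of_chain S.sq (fun v w h => S.eqW h) hH
  have himg : conjugatesOf (φ tz) = φ '' conjugatesOf tz := by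
    ext y
    constructor
    · intro hy
      obtain ⟨c, rfl⟩ := isConj_iff.1 (show IsConj (φ tz) y from hy)
      exact ⟨φ.symm c * tz * (φ.symm c)⁻¹, isConj_iff.2 ⟨_, rfl⟩, by simp⟩
    · rintro ⟨d, hd, rfl⟩
      obtain ⟨c, rfl⟩ := isConj_iff.1 (show IsConj tz d from hd)
      exact isConj_iff.2 ⟨φ c, by simp⟩
  obtain ⟨t', ht', hcomm⟩ := exists_comm_sq (val g H) hP (φ tz)
    (by rw [himg, Nat.card_image_of_injective φ.injective]; exact hN)
  obtain ⟨c, hc⟩ := isConj_iff.1 ht'
  set ψ : MulAut G := MulAut.conj c * φ with hψ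
  have hψt : ψ tz = t' := by simp [hψ, hc]
  obtain ⟨z, hzm, he⟩ := hlist t' fun s hs' => by
    obtain ⟨i, hi, rfl⟩ := List.getElem_of_mem hs'
    have h := S.eqW (List.all_eq_true.1 hs i (List.mem_range.2 hi))
    rw [List.getD_eq_getElem _ _ hi, ev_append] at h
    rw [← h]
    exact (hcomm _ (maskW_mem_val H _ _)).symm
  obtain ⟨e, hem, rfl⟩ := List.mem_map.1 hzm
  have h := List.all_eq_true.1 hz e hem
  simp only [chkZ, Bool.and_eq_true, Bool.or_eq_true, Bool.not_eq_true', List.all_eq_true] at h
  obtain ⟨⟨hzl, hul⟩, h⟩ := h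
  have hzl' : ∀ s ∈ e.1, s < A.n := fun s hs => Nat.le_of_ble_eq_true (hzl s hs)
  have hul' : ∀ s ∈ e.2, s < A.n := fun s hs => Nat.le_of_ble_eq_true (hul s hs)
  rcases h with ((h | h) | h) | ⟨h2, h3⟩
  · have e' := S.eqW h
    rw [S.ev_conjW _ hul', ← he] at e'
    exact IsConj.trans (isConj_iff.2 ⟨_, e'.symm⟩) ht'.symm
  · exfalso
    refine ht1 (ψ.injective ?_)
    rw [hψt, map_one, he]
    exact S.eqW h
  · exfalso
    refine S.neW (fun s hs => (List.mem_append.1 hs).elim (hzl' s) (hzl' s)) (by simp) h ?_
    rw [ev_append, ← he, ← hψt, ← map_mul, ht2, map_one]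
    rfl
  · exfalso
    obtain ⟨P, hPd⟩ : ∃ P, P = conjW e.1 e.2 ++ e.1 := ⟨_, rfl⟩
    rw [← hPd] at h2 h3
    have hPl : ∀ s ∈ P, s < A.n := by
      intro s hs
      simp only [hPd, conjW, List.mem_append, List.mem_reverse] at hs
      rcases hs with (hs | hs | hs) | hs
      · exact hul' s hs
      · exact hzl' s hs
      · exact hul' s hs
      · exact hzl' s hs
    have eP : ev g P = ψ (ψ.symm (ev g e.2) * tz * (ψ.symm (ev g e.2))⁻¹ * tz) := by
      rw [hPd, ev_append, conjW, ev_append, ev_append, ev_reverse (fun s _ => S.sq s) _ hul', ← he, ← hψt]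
      simp [mul_assoc]
    rcases hprop (ψ.symm (ev g e.2)) with hp | hp
    · refine S.neW (fun s hs => (List.mem_append.1 hs).elim (hPl s) (hPl s)) (by simp) h2 ?_
      rw [ev_append, eP, ← map_mul, ← pow_two, hp, map_one]
      rfl
    · refine S.neW (fun s hs => ?_) (by simp) h3 ?_
      · simp only [List.mem_append, or_self] at hs
        exact hPl s hs
      · rw [ev_append, ev_append, eP, ← map_mul, ← map_mul, ← pow_two, ← pow_succ', hp, map_one]
        rfl

end Setup

end Cfsg.Agent.Fus.Transp
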