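import Cfsg.Agent.Lib.Spor.Cos.OutTriple

/-!
A transitive action whose point stabiliser is the centraliser of an element: points as conjugates of the element,
with words for them.
-/

set_option autoImplicit false

namespace Cfsg.Agent.Fus.Transp

open Cfsg.Agent.Spor.Cos Cfsg.Agent.Spor.Cos.Triple

/-- A point, a word taking the base to it and a word for its element. -/
structure Pt where
  /-- the point -/
  p : ℕ
  /-- from the base -/
  u : List ℕ
  /-- the element -/
  w : List ℕ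

/-- The conjugate of a word. -/
def conjW (tw u : List ℕ) : List ℕ := u ++ (tw ++ u.reverse)

/-- The check of a point. -/
noncomputable def chkPt (A : Act) (q tw : List ℕ) (b : ℕ) (e : Pt) : Bool :=
  (e.u.all fun s => Nat.blt s A.n) && (e.w.all fun s => Nat.blt s A.n) && Nat.beq (A.go e.u b) e.p &&
    sameW A q (conjW tw e.u) e.w

/-- The pattern of commuting of two generators and their images disagrees. -/
noncomputable def viol (A : Act) (q : List ℕ) (i : ℕ) (e : Pt) (j p : ℕ) : Bool :=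
  (bif Nat.beq (A.go e.w p) p then !(Nat.beq (A.im (q.getD j 0) i) (q.getD j 0))
    else Nat.beq (A.im (q.getD j 0) i) (q.getD j 0))

variable {G : Type*} [Group G]

/-- The points are the conjugates of an element, the generators among them. -/
structure Setup (g : ℕ → G) (A : Act) (π : G →* Equiv.Perm (Fin A.N)) (q : List ℕ) (b : Fin A.N) (tw : List ℕ) :
    Prop where
  hom : A.Hom g π
  sq : ∀ s, g s * g s = 1
  gen : Subgroup.closure {x | ∃ s < A.n, g s = x} = ⊤
  center : ∀ y : G, (∀ z, y * z = z * y) → y = 1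
  tr : ∀ p, ∃ y, π y b = p
  cent : ∀ y, y * ev g tw = ev g tw * y ↔ π y b = b
  qlen : q.length = A.n
  qgen : ∀ s < A.n, ∃ u, (π u b : ℕ) = q.getD s 0 ∧ g s = u * ev g tw * u⁻¹

namespace Setup

variable {g : ℕ → G} {A : Act} {π : G →* Equiv.Perm (Fin A.N)} {q : List ℕ} {b : Fin A.N} {tw : List ℕ}
  (S : Setup g A π q b tw)

/-- The element of a point. -/
noncomputable def T (S : Setup g A π q b tw) (p : Fin A.N) : G :=
  (S.tr p).choose * ev g tw * (S.tr p).choose⁻¹

include S in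
theorem T_of_apply {p : Fin A.N} {y : G} (h : π y b = p) : S.T p = y * ev g tw * y⁻¹ := by
  set u := (S.tr p).choose with hu
  have hp : π u b = p := (S.tr p).choose_spec
  have hc := (S.cent (y⁻¹ * u)).2 (by rw [map_mul, Equiv.Perm.mul_apply, hp, map_inv, Equiv.Perm.inv_eq_iff_eq, h])
  calc S.T p = y * ((y⁻¹ * u) * ev g tw) * u⁻¹ := by rw [T, ← hu]; group
    _ = y * ev g tw * y⁻¹ := by rw [hc]; group

include S in
theorem T_apply (y : G) (p : Fin A.N) : S.T (π y p) = y * S.T p * y⁻¹ := by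
  obtain ⟨u, hu⟩ := S.tr p
  rw [S.T_of_apply hu, S.T_of_apply (y := y * u) (by rw [map_mul, Equiv.Perm.mul_apply, hu])]
  group

include S in
theorem comm_iff (y : G) (p : Fin A.N) : y * S.T p = S.T p * y ↔ π y p = p := by
  obtain ⟨u, hu⟩ := S.tr p
  rw [S.T_of_apply hu, ← hu]
  have e := S.cent (u⁻¹ * y * u)
  simp only [map_mul, map_inv, Equiv.Perm.mul_apply, Equiv.Perm.inv_eq_iff_eq] at e
  rw [← e]
  constructor
  · intro h
    calc u⁻¹ * y * u * ev g tw = u⁻¹ * (y * (u * ev g tw * u⁻¹)) * u := by group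
      _ = ev g tw * (u⁻¹ * y * u) := by rw [h]; group
  · intro h
    calc y * (u * ev g tw * u⁻¹) = u * (u⁻¹ * y * u * ev g tw) * u⁻¹ := by group
      _ = u * ev g tw * u⁻¹ * y := by rw [h]; group

include S in
theorem T_inj {p r : Fin A.N} (h : S.T p = S.T r) : p = r := by
  obtain ⟨u, hu⟩ := S.tr p
  obtain ⟨v, hv⟩ := S.tr r
  rw [S.T_of_apply hu, S.T_of_apply hv] at h
  have e := (S.cent (v⁻¹ * u)).1 (by
    calc v⁻¹ * u * ev g tw = v⁻¹ * (u * ev g tw * u⁻¹) * u := by group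
      _ = ev g tw * (v⁻¹ * u) := by rw [h]; group)
  rw [map_mul, Equiv.Perm.mul_apply, hu, map_inv, Equiv.Perm.inv_eq_iff_eq, hv] at e
  exact e

include S in
theorem isConj_T (p : Fin A.N) : IsConj (ev g tw) (S.T p) := isConj_iff.2 ⟨_, rfl⟩

include S in
theorem exists_T {x : G} (h : IsConj (ev g tw) x) : ∃ p, S.T p = x := by
  obtain ⟨y, rfl⟩ := isConj_iff.1 h
  exact ⟨π y b, S.T_of_apply rfl⟩

include S in
theorem q_lt {s : ℕ} (hs : s < A.n) : q.getD s 0 < A.N := by
  obtain ⟨u, hu, -⟩ := S.qgen s hs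
  exact hu ▸ (π u b).2

include S in
theorem T_q {s : ℕ} (hs : s < A.n) : S.T ⟨q.getD s 0, S.q_lt hs⟩ = g s := by
  obtain ⟨u, hu, e⟩ := S.qgen s hs
  rw [e]
  exact S.T_of_apply (Fin.ext hu)

include S in
theorem det (y : G) (h : ∀ p : Fin A.N, (p : ℕ) ∈ q → π y p = p) : y = 1 := by
  refine S.center y fun z => ?_
  have hle : Subgroup.closure {x | ∃ s < A.n, g s = x} ≤ Subgroup.centralizer {y} := by
    refine (Subgroup.closure_le _).2 ?_
    rintro _ ⟨s, hs, rfl⟩
    refine Subgroup.mem_centralizer_singleton_iff.2 ?_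
    rw [← S.T_q hs]
    refine ((S.comm_iff y _).2 (h _ ?_)).symm
    show q.getD s 0 ∈ q
    rw [List.getD_eq_getElem _ _ (S.qlen.symm ▸ hs)]
    exact List.getElem_mem _
  exact (Subgroup.mem_centralizer_singleton_iff.1 (hle (S.gen ▸ Subgroup.mem_top z))).symm

include S in
theorem eqW {v w : List ℕ} (h : sameW A q v w = true) : ev g v = ev g w := eq_of_sameW S.hom S.det h

include S in
theorem neW {v w : List ℕ} (hv : ∀ s ∈ v, s < A.n) (hw : ∀ s ∈ w, s < A.n) (h : agree A q v w = false) :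
    ev g v ≠ ev g w := fun e => by
  have hpts : ∀ p ∈ q, p < A.N := fun p hp => by
    obtain ⟨i, hi, rfl⟩ := List.getElem_of_mem hp
    have := S.q_lt (s := i) (S.qlen ▸ hi)
    rwa [List.getD_eq_getElem _ _ hi] at this
  rw [agree_of_eq S.hom hpts hv hw e] at h
  exact Bool.noConfusion h

include S in
theorem ev_conjW (u : List ℕ) (hu : ∀ s ∈ u, s < A.n) : ev g (conjW tw u) = ev g u * ev g tw * (ev g u)⁻¹ := by
  rw [conjW, ev_append, ev_append, ev_reverse (fun s _ => S.sq s) u hu, mul_assoc]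

include S in
theorem ev_pt {e : Pt} (h : chkPt A q tw b e = true) :
    (∀ s ∈ e.w, s < A.n) ∧ ∃ hp : e.p < A.N, ev g e.w = S.T ⟨e.p, hp⟩ := by
  simp only [chkPt, Bool.and_eq_true, List.all_eq_true] at h
  obtain ⟨⟨⟨hu, hw⟩, hgo⟩, hs⟩ := h
  have hu' : ∀ s ∈ e.u, s < A.n := fun s hs => Nat.le_of_ble_eq_true (hu s hs)
  have hb := (S.hom.apply_ev e.u hu' b).trans (Nat.eq_of_beq_eq_true hgo)
  refine ⟨fun s hs => Nat.le_of_ble_eq_true (hw s hs), hb ▸ (π (ev g e.u) b).2, ?_⟩
  rw [← S.eqW hs, S.ev_conjW _ hu']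
  exact (S.T_of_apply (Fin.ext hb)).symm

include S in
theorem fix_iff {φ : MulAut G} {i j : ℕ} (hi : i < A.n) (hj : j < A.n) {P R : Fin A.N}
    (hP : φ (g i) = S.T P) (hR : φ (g j) = S.T R) :
    π (S.T P) R = R ↔ A.im (q.getD j 0) i = q.getD j 0 := by
  rw [← S.comm_iff, ← hP, ← hR, ← map_mul, ← map_mul, φ.injective.eq_iff, ← S.T_q hj, S.comm_iff, Fin.ext_iff,
    S.hom.gen, A.perm_apply S.hom.inv hi]

include S in
theorem not_viol {φ : MulAut G} {i j : ℕ} (hi : i < A.n) (hj : j < A.n) {e : Pt} (he : chkPt A q tw b e = true)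
    {P R : Fin A.N} (hPe : (P : ℕ) = e.p) (hP : φ (g i) = S.T P) (hR : φ (g j) = S.T R) :
    viol A q i e j R = false := by
  obtain ⟨hw, hp, hew⟩ := S.ev_pt he
  have key := S.fix_iff hi hj hP hR
  rw [show P = ⟨e.p, hp⟩ from Fin.ext hPe, ← hew, Fin.ext_iff, S.hom.apply_ev e.w hw] at key
  unfold viol
  cases h : Nat.beq (A.go e.w R) R
  · refine Bool.eq_false_iff.2 fun h2 => ?_
    have := key.2 (Nat.eq_of_beq_eq_true h2)
    rw [this, Nat.beq_refl] at h
    exact Bool.noConfusion h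
  · simp only [cond_true, Bool.not_eq_false']
    rw [key.1 (Nat.eq_of_beq_eq_true h)]
    exact Nat.beq_refl _

end Setup

end Cfsg.Agent.Fus.Transp
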