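import Cfsg.Agent.Lib.Fus.TranspPoints
import Cfsg.Agent.Lib.Spor.Cos.Orb

/-!
Automorphisms preserving the class of the element: tuples of points with the commuting pattern of the generators,
up to conjugation.
-/

set_option autoImplicit false

namespace Cfsg.Agent.Fus.Transp

open Cfsg.Agent.Spor.Cos Cfsg.Agent.Spor.Cos.Triple

/-- A child: an orbit and the point it belongs to. -/
structure Kid where
  /-- the orbit -/
  orb : Orb
  /-- its point -/
  pt : Pt

/-- An assigned generator. -/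
abbrev Asg := List (ℕ × Pt)

/-- The check of a node at a point. -/
noncomputable def chkScan (A : Act) (q : List ℕ) (asg : Asg) (j : ℕ) (kids : List Kid) (p : ℕ) : Bool :=
  (asg.any fun e => viol A q e.1 e.2 j p) || kids.any fun k => k.orb.mem p

/-- The check of a node. -/
noncomputable def chkNode (A : Act) (q tw : List ℕ) (b : ℕ) (ws : List (List ℕ)) (asg : Asg) (j : ℕ)
    (kids : List Kid) : Bool :=
  Nat.blt j A.n && Act.lettersOk A.n ws &&
    (asg.all fun e => Nat.blt e.1 A.n && chkPt A q tw b e.2 && A.chkFix ws e.2.p) &&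
    kids.all fun k => chkPt A q tw b k.pt

/-- The check of a leaf. -/
noncomputable def chkLeaf (A : Act) (q : List ℕ) (asg : Asg) (σ z : List ℕ) : Bool :=
  (z.all fun s => Nat.blt s A.n) && (List.range A.n).all fun s =>
    Nat.blt (σ.getD s 0) A.n && asg.any fun e => Nat.beq e.1 s && Nat.beq (A.go z (q.getD (σ.getD s 0) 0)) e.2.p

variable {G : Type*} [Group G] {g : ℕ → G} {A : Act} {π : G →* Equiv.Perm (Fin A.N)} {q : List ℕ} {b : Fin A.N}
  {tw : List ℕ}

namespace Setup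

variable (S : Setup g A π q b tw)

/-- An automorphism takes the assigned generators to the elements of their points. -/
def Match (S : Setup g A π q b tw) (asg : Asg) (φ : MulAut G) : Prop :=
  ∀ e ∈ asg, ∃ hp : e.2.p < A.N, φ (g e.1) = S.T ⟨e.2.p, hp⟩

/-- An automorphism is a permutation of the generators followed by conjugation. -/
def Good (g : ℕ → G) (n : ℕ) (σs : List (List ℕ)) (φ : MulAut G) : Prop :=
  ∃ c : G, ∃ σ ∈ σs, ∀ s < n, φ (g s) = c * g (σ.getD s 0) * c⁻¹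

theorem Good.of_conj {n : ℕ} {σs : List (List ℕ)} {φ : MulAut G} {y : G}
    (h : Good g n σs (MulAut.conj y * φ)) : Good g n σs φ := by
  obtain ⟨c, σ, hσ, hc⟩ := h
  refine ⟨y⁻¹ * c, σ, hσ, fun s hs => ?_⟩
  have e := hc s hs
  rw [MulAut.mul_apply, MulAut.conj_apply] at e
  calc φ (g s) = y⁻¹ * (y * φ (g s) * y⁻¹) * y := by group
    _ = _ := by rw [e]; group

include S in
theorem step {σs : List (List ℕ)} (hcls : ∀ φ : MulAut G, IsConj (ev g tw) (φ (ev g tw)))
    {ws : List (List ℕ)} {asg : Asg} {j : ℕ} {kids : List Kid}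
    (hnode : chkNode A q tw b ws asg j kids = true)
    (horb : ∀ k ∈ kids, k.orb.Ok A ws k.pt.p)
    (hscan : ∀ p < A.N, chkScan A q asg j kids p = true)
    (hk : ∀ k ∈ kids, ∀ φ, S.Match (asg ++ [(j, k.pt)]) φ → Good g A.n σs φ) :
    ∀ φ, S.Match asg φ → Good g A.n σs φ := by
  intro φ hφ
  simp only [chkNode, Bool.and_eq_true, List.all_eq_true] at hnode
  obtain ⟨⟨⟨hj, hl⟩, hasg⟩, -⟩ := hnode
  have hj' : j < A.n := Nat.le_of_ble_eq_true hj
  obtain ⟨R, hR⟩ : ∃ R, S.T R = φ (g j) := by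
    refine S.exists_T ((hcls φ).trans ?_)
    obtain ⟨u, -, e⟩ := S.qgen j hj'
    exact isConj_iff.2 ⟨φ u, by rw [e, map_mul, map_mul, map_inv]⟩
  have hs := hscan R R.2
  simp only [chkScan, Bool.or_eq_true, List.any_eq_true] at hs
  rcases hs with ⟨e, he, hv⟩ | ⟨k, hkm, hmem⟩
  · obtain ⟨⟨hi, hpt⟩, -⟩ := hasg e he
    obtain ⟨hp, hP⟩ := hφ e he
    rw [S.not_viol (Nat.le_of_ble_eq_true hi) hj' hpt (P := ⟨e.2.p, hp⟩) rfl hP hR.symm] at hv
    exact Bool.noConfusion hv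
  · have hO := horb k hkm
    obtain ⟨y, hy, hyR⟩ := hO.mem_orbit S.hom ⟨k.pt.p, hO.root_lt⟩ rfl hmem
    refine Good.of_conj (y := y⁻¹) (hk k hkm _ fun e he => ?_)
    rcases List.mem_append.1 he with he | he
    · obtain ⟨hp, hP⟩ := hφ e he
      refine ⟨hp, ?_⟩
      have hfix : π y⁻¹ ⟨e.2.p, hp⟩ = ⟨e.2.p, hp⟩ := by
        have hle : val g ws ≤ stab π ⟨e.2.p, hp⟩ := by
          refine (Subgroup.closure_le _).2 ?_
          rintro _ ⟨w, hw, rfl⟩
          exact S.hom.apply_ev_eq hl (hasg e he).2 hw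
        exact hle (inv_mem hy)
      rw [MulAut.mul_apply, MulAut.conj_apply, hP, ← S.T_apply, hfix]
    · obtain rfl := List.mem_singleton.1 he
      refine ⟨hO.root_lt, ?_⟩
      rw [MulAut.mul_apply, MulAut.conj_apply, ← hR, ← S.T_apply, ← hyR, ← Equiv.Perm.mul_apply, ← map_mul,
        inv_mul_cancel, map_one, Equiv.Perm.one_apply]

include S in
theorem leaf {σs : List (List ℕ)} {asg : Asg} {σ z : List ℕ} (hσ : σ ∈ σs) (h : chkLeaf A q asg σ z = true) :
    ∀ φ, S.Match asg φ → Good g A.n σs φ := by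
  intro φ hφ
  simp only [chkLeaf, Bool.and_eq_true, List.all_eq_true, List.any_eq_true, List.mem_range] at h
  refine ⟨ev g z, σ, hσ, fun s hs => ?_⟩
  obtain ⟨hlt, e, he, hi, hgo⟩ := h.2 s hs
  obtain ⟨hp, hP⟩ := hφ e he
  have hlt' : σ.getD s 0 < A.n := Nat.le_of_ble_eq_true hlt
  rw [← Nat.eq_of_beq_eq_true hi, hP, Nat.eq_of_beq_eq_true hi, ← S.T_q hlt', ← S.T_apply]
  exact congrArg S.T (Fin.ext ((Nat.eq_of_beq_eq_true hgo).symm.trans
    (S.hom.apply_ev z (fun t ht => Nat.le_of_ble_eq_true (h.1 t ht)) ⟨_, S.q_lt hlt'⟩).symm))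

include S in
theorem root {σs : List (List ℕ)} (hcls : ∀ φ : MulAut G, IsConj (ev g tw) (φ (ev g tw))) {j : ℕ} (hj : j < A.n)
    {e : Pt} (he : e.p = q.getD j 0)
    (hk : ∀ φ, S.Match [(j, e)] φ → Good g A.n σs φ) (φ : MulAut G) : Good g A.n σs φ := by
  obtain ⟨u, hu, eu⟩ := S.qgen j hj
  obtain ⟨R, hR⟩ : ∃ R, S.T R = φ (g j) :=
    S.exists_T ((hcls φ).trans (isConj_iff.2 ⟨φ u, by rw [eu, map_mul, map_mul, map_inv]⟩))
  obtain ⟨v, hv⟩ := S.tr R
  refine Good.of_conj (y := u * v⁻¹) (hk _ fun e' he' => ?_)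
  obtain rfl := List.mem_singleton.1 he'
  refine ⟨he ▸ S.q_lt hj, ?_⟩
  rw [MulAut.mul_apply, MulAut.conj_apply, ← hR, ← S.T_apply]
  refine congrArg S.T (Fin.ext ?_)
  rw [map_mul, Equiv.Perm.mul_apply, map_inv, show (π v)⁻¹ R = b by
    rw [Equiv.Perm.inv_eq_iff_eq]; exact hv.symm]
  exact hu.trans he.symm

end Setup

end Cfsg.Agent.Fus.Transp
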