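import Cfsg.Agent.Lib.Classical.SLGroup

/-!
Generation of the special linear and of the symplectic group of a vector space by transvections.
-/

set_option autoImplicit false
set_option linter.unusedSectionVars false

namespace Cfsg.Agent.Fus.TV2

open Module

variable {k : Type*} [Field k] {W : Type*} [AddCommGroup W] [Module k W] [FiniteDimensional k W]

/-- The maps of determinant one lie in every group containing all transvections. -/
theorem det_one_mem {G : Subgroup (W ≃ₗ[k] W)}
    (hG : ∀ (a : W) (φ : Dual k W), φ a = 0 → ∃ g ∈ G, ∀ v, g v = v + φ v • a)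
    (f : W ≃ₗ[k] W) (hf : LinearMap.det (f : W →ₗ[k] W) = 1) : f ∈ G := by
  classical
  obtain ⟨b⟩ : Nonempty (Basis (Fin (finrank k W)) k W) := ⟨finBasis k W⟩
  have hM : (LinearMap.toMatrix b b (f : W →ₗ[k] W)).det = 1 := by
    rw [LinearMap.det_toMatrix]; exact hf
  have key : ∀ M : Matrix.SpecialLinearGroup (Fin (finrank k W)) k,
      ∃ g ∈ G, (g : W →ₗ[k] W) = Matrix.toLin b b M.1 := by
    intro M
    have hmem : M ∈ Subgroup.closure (Set.range
        (Matrix.TransvectionStruct.toSpecialLinearGroup :
          Matrix.TransvectionStruct (Fin (finrank k W)) k → _)) :=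
      by rw [Classical.SL_closure_transvections]; exact Subgroup.mem_top M
    induction hmem using Subgroup.closure_induction with
    | mem M hM =>
      obtain ⟨⟨i, j, hij, c⟩, rfl⟩ := hM
      obtain ⟨g, hg, hgv⟩ := hG (c • b i) (b.coord j) (by
        simp [hij])
      refine ⟨g, hg, b.ext fun l => ?_⟩
      rw [LinearEquiv.coe_coe, hgv, Matrix.toLin_self]
      simp only [Matrix.TransvectionStruct.toSpecialLinearGroup,
        Matrix.SpecialLinearGroup.transvection_coe, Matrix.add_apply,
        add_smul, Finset.sum_add_distrib, Matrix.one_apply, ite_smul, one_smul, zero_smul,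
        Finset.sum_ite_eq', Finset.mem_univ, if_true, Matrix.single_apply]
      by_cases hl : j = l
      · subst hl; simp
      · simp [hl]
    | one => exact ⟨1, one_mem _, by simp⟩
    | mul M N _ _ h1 h2 =>
      obtain ⟨g, hg, eg⟩ := h1
      obtain ⟨g', hg', eg'⟩ := h2
      refine ⟨g * g', mul_mem hg hg', ?_⟩
      rw [Matrix.SpecialLinearGroup.coe_mul, Matrix.toLin_mul b b b, ← eg, ← eg']
      rfl
    | inv M _ h1 =>
      obtain ⟨g, hg, eg⟩ := h1
      refine ⟨g⁻¹, inv_mem hg, LinearMap.ext fun v => g.injective ?_⟩
      have h2 := LinearMap.congr_fun (Matrix.toLin_mul b b b M.1 (M⁻¹).1) v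
      rw [← Matrix.SpecialLinearGroup.coe_mul, mul_inv_cancel, Matrix.SpecialLinearGroup.coe_one,
        Matrix.toLin_one, LinearMap.comp_apply, ← eg] at h2
      exact (g.apply_symm_apply v).trans h2
  obtain ⟨g, hg, eg⟩ := key ⟨_, hM⟩
  rw [Matrix.toLin_toMatrix] at eg
  rwa [show f = g from LinearEquiv.toLinearMap_injective eg.symm]

/-- The isometries of a nondegenerate alternating form lie in every group containing all its
transvections. -/
theorem isometry_mem (B : LinearMap.BilinForm k W) (halt : ∀ x, B x x = 0)
    (hnd : ∀ x, (∀ y, B x y = 0) → x = 0) {G : Subgroup (W ≃ₗ[k] W)}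
    (hG : ∀ (x : W) (c : k), ∃ g ∈ G, ∀ v, g v = v + (c * B x v) • x)
    (f : W ≃ₗ[k] W) (hf : ∀ x y, B (f x) (f y) = B x y) : f ∈ G := by
  have skew : ∀ x y, B x y = -B y x := fun x y => by
    have h := halt (x + y)
    simp only [map_add, LinearMap.add_apply, halt, zero_add, add_zero] at h
    linear_combination h
  obtain ⟨N, hN⟩ : ∃ N, finrank k W ≤
      finrank k (LinearMap.ker ((f : W →ₗ[k] W) - LinearMap.id)) + N :=
    ⟨_, Nat.le_add_left _ _⟩
  induction N generalizing f with
  | zero =>
    have h1 : LinearMap.ker ((f : W →ₗ[k] W) - LinearMap.id) = ⊤ :=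
      Submodule.eq_top_of_finrank_eq (le_antisymm (Submodule.finrank_le _) (by simpa using hN))
    have h2 : f = 1 := LinearEquiv.ext fun v => by
      have h3 : v ∈ LinearMap.ker ((f : W →ₗ[k] W) - LinearMap.id) := h1 ▸ Submodule.mem_top
      simpa [sub_eq_zero] using h3
    exact h2 ▸ one_mem G
  | succ N ih =>
    have caseA : ∀ f : W ≃ₗ[k] W, (∀ x y, B (f x) (f y) = B x y) → finrank k W ≤
        finrank k (LinearMap.ker ((f : W →ₗ[k] W) - LinearMap.id)) + (N + 1) →
        (∃ v, B v (f v) ≠ 0) → f ∈ G := by
      rintro f hf hN ⟨v, hv⟩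
      obtain ⟨g, hg, hgv⟩ := hG (f v - v) (B v (f v))⁻¹
      have hgB : ∀ x y, B (g x) (g y) = B x y := fun x y => by
        simp only [hgv, map_add, map_smul, LinearMap.add_apply, LinearMap.smul_apply, halt,
          smul_eq_mul]
        rw [skew x (f v - v)]
        ring
      have hfix : ∀ x, f x = x → g (f x) = x := fun x hx => by
        have h0 : B (f v - v) x = 0 := by
          rw [map_sub, LinearMap.sub_apply]
          conv_lhs => enter [1]; rw [← hx]
          rw [hf, sub_self]
        rw [hx, hgv, h0, mul_zero, zero_smul, add_zero]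
      have hgfv : g (f v) = v := by
        rw [hgv, map_sub, LinearMap.sub_apply, halt, zero_sub, mul_neg, inv_mul_cancel₀ hv,
          neg_one_smul]
        abel
      have hlt : LinearMap.ker ((f : W →ₗ[k] W) - LinearMap.id) <
          LinearMap.ker (((g * f : W ≃ₗ[k] W) : W →ₗ[k] W) - LinearMap.id) := by
        refine SetLike.lt_iff_le_and_exists.2 ⟨fun x hx => ?_, v, ?_, ?_⟩
        · simp only [LinearMap.mem_ker, LinearMap.sub_apply, sub_eq_zero, LinearEquiv.coe_coe,
            LinearMap.id_apply] at hx ⊢
          exact hfix x hx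
        · simp only [LinearMap.mem_ker, LinearMap.sub_apply, sub_eq_zero, LinearEquiv.coe_coe,
            LinearMap.id_apply]
          exact hgfv
        · simp only [LinearMap.mem_ker, LinearMap.sub_apply, sub_eq_zero, LinearEquiv.coe_coe,
            LinearMap.id_apply]
          exact fun h => hv (by rw [h, halt])
      have h1 := Submodule.finrank_lt_finrank_of_lt hlt
      have h2 := ih (g * f) (fun x y => by rw [LinearEquiv.mul_apply, LinearEquiv.mul_apply, hgB, hf])
        (by omega)
      have h3 := mul_mem (inv_mem hg) h2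
      rwa [inv_mul_cancel_left] at h3
    by_cases hA : ∃ v, B v (f v) ≠ 0
    · exact caseA f hf hN hA
    push Not at hA
    by_cases h1 : ∀ u, f u = u
    · exact (show f = 1 from LinearEquiv.ext h1) ▸ one_mem G
    push Not at h1
    obtain ⟨u, hu⟩ := h1
    obtain ⟨g, hg, hgv⟩ := hG (f u - u) 1
    have hgB : ∀ x y, B (g x) (g y) = B x y := fun x y => by
      simp only [hgv, map_add, map_smul, LinearMap.add_apply, LinearMap.smul_apply, halt,
        smul_eq_mul, one_mul]
      rw [skew x (f u - u)]
      ring
    have h2 : g * f ∈ G := by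
      refine caseA _ (fun x y => by rw [LinearEquiv.mul_apply, LinearEquiv.mul_apply, hgB, hf])
        (hN.trans (Nat.add_le_add_right (Submodule.finrank_mono fun x hx => ?_) _)) ?_
      · simp only [LinearMap.mem_ker, LinearMap.sub_apply, sub_eq_zero, LinearEquiv.coe_coe,
          LinearMap.id_apply, LinearEquiv.mul_apply] at hx ⊢
        have h0 : B (f u - u) x = 0 := by
          rw [map_sub, LinearMap.sub_apply]
          conv_lhs => enter [1]; rw [← hx]
          rw [hf, sub_self]
        rw [hx, hgv, h0, mul_zero, zero_smul, add_zero]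
      obtain ⟨v, hv⟩ : ∃ v, B v (f u - u) ≠ 0 := by
        by_contra hcon
        push Not at hcon
        exact hu (sub_eq_zero.1 (hnd _ fun y => by rw [skew, hcon, neg_zero]))
      have hpol : B v (f u) = -B u (f v) := by
        have := hA (u + v)
        simp only [map_add, LinearMap.add_apply, hA, zero_add, add_zero] at this
        linear_combination this
      have hd : B (f u - u) (f v) = B v (f u - u) := by
        simp only [map_sub, LinearMap.sub_apply, hf]
        linear_combination skew u v - hpol
      refine ⟨v, ?_⟩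
      rw [LinearEquiv.mul_apply, hgv, one_mul, map_add, hA, zero_add, map_smul, smul_eq_mul, hd]
      exact mul_ne_zero hv hv
    have h3 := mul_mem (inv_mem hg) h2
    rwa [inv_mul_cancel_left] at h3

end Cfsg.Agent.Fus.TV2
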