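import Cfsg.Agent.Lib.Fus.TransvectionRelDecomp
import Cfsg.Agent.Lib.Grp.Baer

/-!
The transvection relation of a group generated by transvections without normal `p`-subgroup.
-/

set_option autoImplicit false
set_option linter.unusedSectionVars false

namespace Cfsg.Agent.Fus.TV2

open Module

variable {p : ℕ} [Fact p.Prime] {V : Type*} [AddCommGroup V] [Module (ZMod p) V]

/-- The transvection of a pair lies in the subgroup. -/
def IsTv (H : Subgroup (V ≃ₗ[ZMod p] V)) (a : V) (φ : Dual (ZMod p) V) : Prop :=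
  φ a = 0 ∧ ∃ h ∈ H, ∀ v, h v = v + φ v • a

/-- The linear maps moving into `A` and fixing `B`. -/
def moveSub (A B : Submodule (ZMod p) V) : Subgroup (V ≃ₗ[ZMod p] V) where
  carrier := {g | (∀ v, g v - v ∈ A) ∧ ∀ b ∈ B, g b = b}
  one_mem' := ⟨fun v => by simp, fun b _ => rfl⟩
  mul_mem' {g g'} hg hg' := ⟨fun v => by
      have h := A.add_mem (hg.1 (g' v)) (hg'.1 v)
      rwa [sub_add_sub_cancel] at h,
    fun b hb => by rw [LinearEquiv.mul_apply, hg'.2 b hb, hg.2 b hb]⟩
  inv_mem' {g} hg := ⟨fun v => by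
      obtain ⟨w, rfl⟩ := g.surjective v
      rw [show g⁻¹ (g w) = w from g.symm_apply_apply w, ← neg_sub]
      exact A.neg_mem (hg.1 w),
    fun b hb => by
      conv_lhs => rw [← hg.2 b hb]
      exact g.symm_apply_apply b⟩

/-- The stabiliser of a two-step flag acting trivially on the steps. -/
def flagSub (A B : Submodule (ZMod p) V) : Subgroup (V ≃ₗ[ZMod p] V) where
  carrier := {g | g ∈ moveSub A B ∧ ∀ a ∈ A, g a - a ∈ B}
  one_mem' := ⟨one_mem _, fun a _ => by simp⟩
  mul_mem' {g g'} hg hg' := ⟨mul_mem hg.1 hg'.1, fun a ha => by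
      have h := B.add_mem (hg.2 a ha) (hg'.2 a ha)
      rw [LinearEquiv.mul_apply]
      have h1 : g (g' a - a) = g' a - a := hg.1.2 _ (hg'.2 a ha)
      rw [map_sub, sub_eq_iff_eq_add] at h1
      rw [h1]
      convert h using 1
      abel⟩
  inv_mem' {g} hg := ⟨inv_mem hg.1, fun a ha => by
      have hw : g⁻¹ a ∈ A := by
        have := A.add_mem ((inv_mem hg.1).1 a) ha
        rwa [sub_add_cancel] at this
      have h := B.neg_mem (hg.2 _ hw)
      rwa [show g (g⁻¹ a) = a from g.apply_symm_apply a, neg_sub] at h⟩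

theorem flag_iter {g : V ≃ₗ[ZMod p] V} {A B : Submodule (ZMod p) V} (hg : g ∈ flagSub A B) (v : V) :
    ∀ n : ℕ, (g ^ n) v = v + (n : ZMod p) • (g v - v) +
      (n.choose 2 : ZMod p) • (g (g v - v) - (g v - v)) := by
  intro n
  induction n with
  | zero => simp
  | succ n ih =>
    have hB : g (g (g v - v) - (g v - v)) = g (g v - v) - (g v - v) :=
      hg.1.2 _ (hg.2 _ (hg.1.1 v))
    rw [pow_succ', LinearEquiv.mul_apply, ih, map_add, map_add, map_smul, map_smul, hB,
      Nat.choose_succ_succ' n 1, Nat.choose_one_right, Nat.cast_add, Nat.cast_add, Nat.cast_one]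
    module

theorem flag_pGroup (hp : Odd p) (A B : Submodule (ZMod p) V) : IsPGroup p (flagSub A B) :=
  fun g => ⟨1, Subtype.ext (LinearEquiv.ext fun v => by
    rw [pow_one, SubgroupClass.coe_pow, flag_iter g.2 v p, ZMod.natCast_self, zero_smul, add_zero]
    have h2 : p ∣ p.choose 2 := Nat.Prime.dvd_choose_self (Fact.out : p.Prime) two_ne_zero (by
      obtain ⟨m, hm⟩ := hp
      have := (Fact.out : p.Prime).two_le
      omega)
    rw [(ZMod.natCast_eq_zero_iff _ _).2 h2, zero_smul, add_zero]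
    rfl)⟩

variable {H : Subgroup (V ≃ₗ[ZMod p] V)}

theorem IsTv.conj {a : V} {φ : Dual (ZMod p) V} (h : IsTv H a φ) {g : V ≃ₗ[ZMod p] V}
    (hg : g ∈ H) : IsTv H (g a) (φ ∘ₗ g.symm.toLinearMap) := by
  obtain ⟨h0, x, hx, hxv⟩ := h
  refine ⟨by simpa using h0, g * x * g⁻¹, H.mul_mem (H.mul_mem hg hx) (H.inv_mem hg), fun v => ?_⟩
  rw [LinearEquiv.mul_apply, LinearEquiv.mul_apply, hxv, map_add, map_smul]
  simp [show g⁻¹ v = g.symm v from rfl]

theorem IsTv.smul {a : V} {φ : Dual (ZMod p) V} (h : IsTv H a φ) (c : ZMod p) :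
    IsTv H a (c • φ) ∧ IsTv H (c • a) φ := by
  obtain ⟨h0, x, hx, hxv⟩ := h
  have key : ∀ (n : ℕ) (v : V), (x ^ n) v = v + ((n : ZMod p) * φ v) • a := by
    intro n v
    induction n with
    | zero => simp
    | succ n ih =>
      rw [pow_succ', LinearEquiv.mul_apply, ih, hxv, map_add, map_smul, h0, smul_eq_mul, mul_zero,
        add_zero, Nat.cast_succ, add_mul, one_mul, add_smul, add_assoc]
  refine ⟨⟨by simp [h0], x ^ c.val, pow_mem hx _, fun v => ?_⟩,
    by simp [h0], x ^ c.val, pow_mem hx _, fun v => ?_⟩ <;>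
  · rw [key, ZMod.natCast_zmod_val]
    simp [smul_smul, mul_comm]

/-- The relation of a group generated by transvections without normal `p`-subgroup. -/
theorem isTv_rel [Finite V] (hp : Odd p) {T : Set (V ≃ₗ[ZMod p] V)}
    (hHT : H = Subgroup.closure T)
    (hT : ∀ t ∈ T, ∃ (a : V) (φ : Dual (ZMod p) V), a ≠ 0 ∧ φ ≠ 0 ∧ φ a = 0 ∧
      ∀ v, t v = v + φ v • a)
    (hOp : Cfsg.pCore p ↥H = ⊥) : TVRel (IsTv H) where
  zero_axis a := ⟨rfl, 1, one_mem _, fun v => by simp⟩
  zero_center φ := ⟨map_zero φ, 1, one_mem _, fun v => by simp⟩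
  incid h := h.1
  smul h c := h.smul c
  add_axis {a φ ψ} h h' := by
    obtain ⟨h0, x, hx, hxv⟩ := h
    obtain ⟨h0', y, hy, hyv⟩ := h'
    refine ⟨by simp [h0, h0'], x * y, mul_mem hx hy, fun v => ?_⟩
    rw [LinearEquiv.mul_apply, hyv, hxv, map_add, map_smul, h0, smul_eq_mul, mul_zero, add_zero,
      LinearMap.add_apply, add_smul]
    abel
  add_center {a b φ} h h' := by
    obtain ⟨h0, x, hx, hxv⟩ := h
    obtain ⟨h0', y, hy, hyv⟩ := h'
    refine ⟨by simp [h0, h0'], x * y, mul_mem hx hy, fun v => ?_⟩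
    rw [LinearEquiv.mul_apply, hyv, hxv, map_add, map_smul, h0', smul_eq_mul, mul_zero, add_zero,
      smul_add]
    abel
  move {a b φ ψ} h h' s := by
    obtain ⟨h1, g, hg, hgv⟩ := (h'.smul s).1
    have h2 := h.conj hg
    have hinv : ∀ v, g.symm v = v - (s * ψ v) • b := fun v => g.injective (by
      simp only [LinearMap.smul_apply, smul_eq_mul] at hgv h1
      rw [LinearEquiv.apply_symm_apply, map_sub, map_smul, hgv, hgv, h1, zero_smul, add_zero,
        add_sub_cancel_right])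
    rw [hgv] at h2
    simp only [LinearMap.smul_apply, smul_eq_mul] at h2
    convert h2 using 1
    refine LinearMap.ext fun v => ?_
    simp [hinv]
    ring
  partner {a φ} h ha hφ := by
    by_contra hcon
    push Not at hcon
    obtain ⟨h0, x, hx, hxv⟩ := h
    have : Finite (V ≃ₗ[ZMod p] V) := Finite.of_injective _ DFunLike.coe_injective
    have hmem : (⟨x, hx⟩ : ↥H) ∈ Cfsg.pCore p ↥H := Grp.baer_suzuki _ fun g => by
      have hb : IsTv H (g.1 a) (φ ∘ₗ g.1.symm.toLinearMap) :=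
        (show IsTv H a φ from ⟨h0, x, hx, hxv⟩).conj g.2
      have hor : φ (g.1 a) = 0 ∨ (φ ∘ₗ g.1.symm.toLinearMap) a = 0 :=
        or_iff_not_imp_left.2 (hcon _ _ hb)
      have hyv : ∀ v, (g.1 * x * g.1⁻¹) v = v + (φ ∘ₗ g.1.symm.toLinearMap) v • g.1 a :=
        fun v => by
        rw [LinearEquiv.mul_apply, LinearEquiv.mul_apply, hxv, map_add, map_smul]
        simp [show g.1⁻¹ v = g.1.symm v from rfl]
      generalize hψ : φ ∘ₗ g.1.symm.toLinearMap = ψ at hb hor hyv
      generalize g.1 a = b at hb hor hyv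
      have key : ∀ (a b : V) (φ ψ : Dual (ZMod p) V) (x y : V ≃ₗ[ZMod p] V), φ a = 0 → ψ b = 0 →
          (∀ v, x v = v + φ v • a) → (∀ v, y v = v + ψ v • b) → φ b = 0 →
          IsPGroup p (Subgroup.closure {x, y}) := by
        intro a b φ ψ x y k1 k2 hxv hyv k3
        refine (flag_pGroup hp (Submodule.span (ZMod p) {a, b}) (ZMod p ∙ b)).to_le
          ((Subgroup.closure_le _).2 ?_)
        have kB : ∀ (f : Dual (ZMod p) V) (z : V ≃ₗ[ZMod p] V) (c : V), (∀ v, z v = v + f v • c) →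
            f b = 0 → ∀ w ∈ ZMod p ∙ b, z w = w := fun f z c hz hf w hw => by
          obtain ⟨e, rfl⟩ := Submodule.mem_span_singleton.1 hw
          rw [hz, map_smul, hf, smul_zero, zero_smul, add_zero]
        rintro z (rfl | rfl)
        · refine ⟨⟨fun v => ?_, kB φ _ a hxv k3⟩, fun w hw => ?_⟩
          · rw [hxv, add_sub_cancel_left]
            exact Submodule.smul_mem _ _ (Submodule.subset_span (by simp))
          · obtain ⟨c, d, rfl⟩ := Submodule.mem_span_pair.1 hw
            simp [hxv, k1, k3]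
        · refine ⟨⟨fun v => ?_, kB ψ _ b hyv k2⟩, fun w _ => ?_⟩
          · rw [hyv, add_sub_cancel_left]
            exact Submodule.smul_mem _ _ (Submodule.subset_span (by simp))
          · rw [hyv, add_sub_cancel_left]
            exact Submodule.smul_mem _ _ (Submodule.mem_span_singleton_self b)
      have hp2 : IsPGroup p (Subgroup.closure {x, g.1 * x * g.1⁻¹}) := by
        rcases hor with k | k
        · exact key a b φ ψ _ _ h0 hb.1 hxv hyv k
        · rw [Set.pair_comm]; exact key b a ψ φ _ _ hb.1 h0 hyv hxv k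
      refine (hp2.comap_of_injective H.subtype H.subtype_injective).to_le
        ((Subgroup.closure_le _).2 ?_)
      rintro z (rfl | rfl)
      · exact Subgroup.subset_closure (by simp)
      · exact Subgroup.subset_closure (by simp)
    rw [hOp, Subgroup.mem_bot] at hmem
    have hx1 : x = 1 := congrArg Subtype.val hmem
    obtain ⟨v, hv⟩ := DFunLike.ne_iff.1 hφ
    have h1 := hxv v
    rw [hx1, show (1 : V ≃ₗ[ZMod p] V) v = v from rfl, left_eq_add, smul_eq_zero] at h1
    exact ha (h1.resolve_left hv)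
  radical {a b φ ψ} h h' hcl := by
    obtain ⟨C, hC⟩ : ∃ C, C = Submodule.span (ZMod p)
        {d : V | ∃ δ, IsTv H d δ ∧ d ≠ 0 ∧ δ ≠ 0} := ⟨_, rfl⟩
    obtain ⟨F, hF⟩ : ∃ F, F = ⨅ x : {x : V × Dual (ZMod p) V //
        IsTv H x.1 x.2 ∧ x.1 ≠ 0 ∧ x.2 ≠ 0}, LinearMap.ker x.1.2 := ⟨_, rfl⟩
    have hCmem : ∀ {d δ}, IsTv H d δ → ∀ v, δ v • d ∈ C := fun {d δ} hd v => by
      rcases eq_or_ne d 0 with e | e
      · simp [e]
      rcases eq_or_ne δ 0 with e' | e'
      · simp [e']
      exact C.smul_mem _ (hC ▸ Submodule.subset_span ⟨δ, hd, e, e'⟩)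
    have hFker : ∀ {d δ}, IsTv H d δ → ∀ v ∈ F, δ v • d = 0 := fun {d δ} hd v hv => by
      rcases eq_or_ne d 0 with e | e
      · simp [e]
      rcases eq_or_ne δ 0 with e' | e'
      · simp [e']
      rw [hF, Submodule.mem_iInf] at hv
      rw [show δ v = 0 from hv ⟨(d, δ), hd, e, e'⟩, zero_smul]
    have hH : H ≤ moveSub C F := by
      conv_lhs => rw [hHT]
      refine (Subgroup.closure_le _).2 fun t ht => ?_
      obtain ⟨c, θ, -, -, k, htv⟩ := hT t ht
      have hc : IsTv H c θ := ⟨k, t, hHT ▸ Subgroup.subset_closure ht, htv⟩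
      exact ⟨fun v => by rw [htv, add_sub_cancel_left]; exact hCmem hc v,
        fun v hv => by rw [htv, hFker hc v hv, add_zero]⟩
    have hN : ((flagSub C (C ⊓ F)).subgroupOf H).Normal := ⟨by
      rintro ⟨n, hn⟩ hn' ⟨g, hg⟩
      rw [Subgroup.mem_subgroupOf] at hn' ⊢
      have hgC : ∀ w ∈ C, g w ∈ C := fun w hw => by
        have := C.add_mem ((hH hg).1 w) hw
        rwa [sub_add_cancel] at this
      have hg'C : ∀ w ∈ C, g⁻¹ w ∈ C := fun w hw => by
        have := C.add_mem ((hH (H.inv_mem hg)).1 w) hw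
        rwa [sub_add_cancel] at this
      have hfix : ∀ w ∈ C ⊓ F, g⁻¹ w = w := fun w hw => (hH (H.inv_mem hg)).2 w hw.2
      have e : ∀ v, (g * n * g⁻¹) v - v = g (n (g⁻¹ v) - g⁻¹ v) := fun v => by
        rw [map_sub, show g (g⁻¹ v) = v from g.apply_symm_apply v]
        rfl
      refine ⟨⟨fun v => ?_, fun w hw => ?_⟩, fun w hw => ?_⟩
      · show (g * n * g⁻¹) v - v ∈ C
        rw [e]
        exact hgC _ (hn'.1.1 _)
      · show (g * n * g⁻¹) w = w
        rw [LinearEquiv.mul_apply, LinearEquiv.mul_apply, hfix w hw, hn'.1.2 w hw,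
          (hH hg).2 w hw.2]
      · show (g * n * g⁻¹) w - w ∈ C ⊓ F
        rw [e, (hH hg).2 _ (hn'.2 _ (hg'C w hw)).2]
        exact hn'.2 _ (hg'C w hw)⟩
    have hbot : (flagSub C (C ⊓ F)).subgroupOf H = ⊥ := by
      rw [← le_bot_iff, ← hOp]
      exact Grp.le_pCore hN
        ((flag_pGroup hp C _).comap_of_injective H.subtype H.subtype_injective)
    obtain ⟨h0, x, hx, hxv⟩ := h
    obtain ⟨h0', y, hy, hyv⟩ := h'
    have hsub : ∀ {d δ}, IsTv H d δ → d ≠ 0 → δ ≠ 0 → δ (a - b) = 0 ∧ (φ - ψ) d = 0 :=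
      fun {d δ} hd e e' => hcl d δ hd e e'
    have hcross : ∀ v, ψ v * φ b = 0 := fun v => by
      rcases eq_or_ne b 0 with e | e
      · simp [e]
      rcases eq_or_ne ψ 0 with e' | e'
      · simp [e']
      have k := (hsub ⟨h0', y, hy, hyv⟩ e e').2
      rw [LinearMap.sub_apply, h0', sub_zero] at k
      rw [k, mul_zero]
    have hyinv : ∀ v, y⁻¹ v = v - ψ v • b := fun v => y.injective (by
      rw [show y (y⁻¹ v) = v from y.apply_symm_apply v, map_sub, map_smul, hyv, hyv, h0',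
        zero_smul, add_zero, add_sub_cancel_right])
    have hg : ∀ v, (x * y⁻¹) v = v + (φ v • a - ψ v • b) := fun v => by
      rw [LinearEquiv.mul_apply, hyinv, hxv, map_sub, map_smul, smul_eq_mul, hcross, sub_zero]
      abel
    have hmem : x * y⁻¹ ∈ flagSub C (C ⊓ F) := by
      have hV : ∀ v, φ v • a - ψ v • b ∈ C := fun v =>
        C.sub_mem (hCmem ⟨h0, x, hx, hxv⟩ v) (hCmem ⟨h0', y, hy, hyv⟩ v)
      refine ⟨⟨fun v => by rw [hg, add_sub_cancel_left]; exact hV v, fun w hw => by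
        rw [hg, hFker ⟨h0, x, hx, hxv⟩ w hw.2, hFker ⟨h0', y, hy, hyv⟩ w hw.2, sub_zero,
          add_zero]⟩, fun w hw => ?_⟩
      rw [hg, add_sub_cancel_left]
      refine ⟨hV w, ?_⟩
      have k : (φ - ψ) w = 0 := by
        have hle : C ≤ LinearMap.ker (φ - ψ) := hC ▸ Submodule.span_le.2
          fun d ⟨δ, hd, e, e'⟩ => (hsub hd e e').2
        exact hle hw
      rw [LinearMap.sub_apply, sub_eq_zero] at k
      rw [k, ← smul_sub, hF]
      exact Submodule.smul_mem _ _ ((Submodule.mem_iInf _).2 fun z =>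
        (hsub z.2.1 z.2.2.1 z.2.2.2).1)
    have h1 : (⟨x * y⁻¹, H.mul_mem hx (H.inv_mem hy)⟩ : ↥H) = 1 := by
      rw [← Subgroup.mem_bot, ← hbot]; exact hmem
    intro v
    have h2 := hg v
    rw [show x * y⁻¹ = 1 from congrArg Subtype.val h1, show (1 : V ≃ₗ[ZMod p] V) v = v from rfl,
      left_eq_add, sub_eq_zero] at h2
    exact h2

/-- A transvection of order `p` is given by a nonzero pair. -/
theorem exists_pair_of_orderOf [Finite V] {t : V ≃ₗ[ZMod p] V} (ho : orderOf t = p)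
    (hk : finrank (ZMod p) ↥(LinearMap.ker ((t : V →ₗ[ZMod p] V) - LinearMap.id)) + 1 =
      finrank (ZMod p) V) :
    ∃ (a : V) (φ : Dual (ZMod p) V), a ≠ 0 ∧ φ ≠ 0 ∧ φ a = 0 ∧ ∀ v, t v = v + φ v • a := by
  generalize hf : (t : V →ₗ[ZMod p] V) - LinearMap.id = f at hk
  have hr : finrank (ZMod p) (LinearMap.range f) = 1 := by
    have := f.finrank_range_add_finrank_ker
    omega
  obtain ⟨⟨a, ha⟩, ha0, hspan⟩ := finrank_eq_one_iff'.1 hr
  have ha0' : a ≠ 0 := fun h => ha0 (Subtype.ext h)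
  obtain ⟨g, hg, -⟩ := exists_dual_sep (k := ZMod p) (u := a) (u' := 0)
    (fun c h => ha0' (by rw [h, smul_zero]))
  refine ⟨a, (g a)⁻¹ • g ∘ₗ f, ha0', ?_, ?_, ?_⟩ <;>
    have hfv : ∀ v, f v = ((g a)⁻¹ * g (f v)) • a := fun v => by
      obtain ⟨c, hc⟩ := hspan ⟨f v, ⟨v, rfl⟩⟩
      have hc' : c • a = f v := congrArg Subtype.val hc
      rw [← hc', map_smul, smul_eq_mul, mul_left_comm, inv_mul_cancel₀ hg, mul_one]
  · intro h
    obtain ⟨w, hw⟩ := ha
    refine ha0' ?_
    rw [← hw, hfv w]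
    have := LinearMap.congr_fun h w
    simp only [LinearMap.smul_apply, LinearMap.comp_apply, smul_eq_mul,
      LinearMap.zero_apply] at this
    rw [this, zero_smul]
  · obtain ⟨m, hm⟩ : ∃ m, m = 1 + (g a)⁻¹ * g (f a) := ⟨_, rfl⟩
    have hta : t a = m • a := by
      have h1 := hfv a
      rw [← hf] at h1
      simp only [LinearMap.sub_apply, LinearMap.id_apply, LinearEquiv.coe_coe, sub_eq_iff_eq_add]
        at h1
      rw [h1, hm, add_smul, one_smul, add_comm]
      congr 3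
      rw [← hf]
      simp
    have hpow : ∀ n : ℕ, (t ^ n) a = m ^ n • a := fun n => by
      induction n with
      | zero => simp
      | succ n ih => rw [pow_succ, LinearEquiv.mul_apply, hta, map_smul, ih, smul_smul, pow_succ']
    have h1 := hpow p
    rw [show t ^ p = 1 from orderOf_dvd_iff_pow_eq_one.1 ho.dvd, ZMod.pow_card] at h1
    have hm1 : m = 1 := by
      have h2 : (m - 1) • a = 0 := by rw [sub_smul, one_smul, ← h1]; exact sub_self a
      exact sub_eq_zero.1 ((smul_eq_zero.1 h2).resolve_right ha0')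
    simpa [hm1, LinearMap.smul_apply, smul_eq_mul] using hm.symm
  · intro v
    have h1 := hfv v
    simp only [LinearMap.smul_apply, LinearMap.comp_apply, smul_eq_mul]
    rw [← h1, ← hf]
    simp

end Cfsg.Agent.Fus.TV2
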