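import Cfsg.Agent.Lib.Fus.TransvectionGroupRel
import Cfsg.Agent.Lib.Fus.TransvectionGen

/-!
Groups generated by transvections over a prime field of odd order: the internal decomposition.
-/

set_option autoImplicit false
set_option linter.unusedSectionVars false

namespace Cfsg.Agent.Fus.TV2

open Module

variable {p : ℕ} [Fact p.Prime] {V : Type*} [AddCommGroup V] [Module (ZMod p) V] [Finite V]

/-- The transvections of the subgroup inside a block. -/
def inside (H : Subgroup (V ≃ₗ[ZMod p] V)) (π : V →ₗ[ZMod p] V) : Set (V ≃ₗ[ZMod p] V) :=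
  {g | g ∈ H ∧ ∃ (a : V) (φ : Dual (ZMod p) V),
    φ a = 0 ∧ π a = a ∧ φ ∘ₗ π = φ ∧ ∀ v, g v = v + φ v • a}

theorem inside_fix {H : Subgroup (V ≃ₗ[ZMod p] V)} {π q : V →ₗ[ZMod p] V}
    (hπq : ∀ v, π (q v) = 0) : Subgroup.closure (inside H π) ≤ moveSub ⊤ (LinearMap.range q) := by
  refine (Subgroup.closure_le _).2 fun g ⟨_, a, φ, _, _, hφ, hg⟩ => ⟨fun v => trivial, ?_⟩
  rintro _ ⟨v, rfl⟩
  rw [hg, show φ (q v) = 0 by rw [← hφ, LinearMap.comp_apply, hπq, map_zero], zero_smul, add_zero]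

theorem range_of_inside {H : Subgroup (V ≃ₗ[ZMod p] V)} {π : V →ₗ[ZMod p] V} (hi : Idem π)
    (hcomm : ∀ h ∈ H, ∀ v, π (h v) = h (π v))
    (hblk : SLFull (IsTv H) π ∨ ∃ B, SpFull (IsTv H) π B ∧ SpIn (IsTv H) π B) :
    ∃ ρ : ↥(Subgroup.closure (inside H π)) →*
        (↥(LinearMap.range π) ≃ₗ[ZMod p] ↥(LinearMap.range π)),
      (∀ (h : ↥(Subgroup.closure (inside H π))) (v : ↥(LinearMap.range π)),
        ((ρ h v : ↥(LinearMap.range π)) : V) = (h : V ≃ₗ[ZMod p] V) (v : V)) ∧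
      ((ρ.range : Set (↥(LinearMap.range π) ≃ₗ[ZMod p] ↥(LinearMap.range π))) =
          {f : ↥(LinearMap.range π) ≃ₗ[ZMod p] ↥(LinearMap.range π) |
            LinearMap.det (f : ↥(LinearMap.range π) →ₗ[ZMod p] ↥(LinearMap.range π)) = 1} ∨
        ∃ B : LinearMap.BilinForm (ZMod p) ↥(LinearMap.range π), B.IsAlt ∧ B.Nondegenerate ∧
          (ρ.range : Set (↥(LinearMap.range π) ≃ₗ[ZMod p] ↥(LinearMap.range π))) =
            {f : ↥(LinearMap.range π) ≃ₗ[ZMod p] ↥(LinearMap.range π) |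
              ∀ x y, B (f x) (f y) = B x y}) := by
  obtain ⟨K, hK⟩ : ∃ K, K = Subgroup.closure (inside H π) := ⟨_, rfl⟩
  rw [← hK]
  have hKH : K ≤ H := hK ▸ (Subgroup.closure_le _).2 fun g hg => hg.1
  have hfix : ∀ v ∈ LinearMap.range π, π v = v := by rintro _ ⟨v, rfl⟩; exact hi v
  have hmaps : ∀ g ∈ K, ∀ v ∈ LinearMap.range π, g v ∈ LinearMap.range π := fun g hg v hv =>
    ⟨g v, by rw [hcomm g (hKH hg), hfix v hv]⟩
  let ρ : K →* (↥(LinearMap.range π) ≃ₗ[ZMod p] ↥(LinearMap.range π)) :=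
    { toFun := fun g =>
        { toFun := fun v => ⟨(g : V ≃ₗ[ZMod p] V) v, hmaps _ g.2 _ v.2⟩
          map_add' := fun v w => Subtype.ext (map_add _ _ _)
          map_smul' := fun c v => Subtype.ext (map_smul _ _ _)
          invFun := fun v => ⟨(g : V ≃ₗ[ZMod p] V)⁻¹ v, hmaps _ (inv_mem g.2) _ v.2⟩
          left_inv := fun v => Subtype.ext ((g : V ≃ₗ[ZMod p] V).symm_apply_apply _)
          right_inv := fun v => Subtype.ext ((g : V ≃ₗ[ZMod p] V).apply_symm_apply _) }
      map_one' := rfl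
      map_mul' := fun g h => rfl }
  have hρ : ∀ (g : K) v, (ρ g v : V) = (g : V ≃ₗ[ZMod p] V) v := fun g v => rfl
  refine ⟨ρ, hρ, ?_⟩
  -- every full pair gives an element of the range
  have hgen : ∀ (a : ↥(LinearMap.range π)) (φ : Dual (ZMod p) V), φ ∘ₗ π = φ → IsTv H (a : V) φ →
      ∃ g ∈ ρ.range, ∀ v, g v = v + φ (v : V) • a := by
    rintro a φ hφ ⟨h0, g, hg, hgv⟩
    have hgK : g ∈ K := hK ▸ Subgroup.subset_closure
      ⟨hg, (a : V), φ, h0, hfix _ a.2, hφ, hgv⟩
    exact ⟨ρ ⟨g, hgK⟩, ⟨_, rfl⟩, fun v => Subtype.ext (by rw [hρ]; exact hgv v)⟩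
  rcases hblk with hf | ⟨B, hf, hin⟩
  · left
    refine Set.Subset.antisymm ?_ fun f hfdet => ?_
    · rintro _ ⟨g, rfl⟩
      have hle : K ≤ ((LinearEquiv.det.comp ρ).ker).map K.subtype := by
        conv_lhs => rw [hK]
        refine (Subgroup.closure_le _).2 fun g hg => ⟨⟨g, hK ▸ Subgroup.subset_closure hg⟩, ?_, rfl⟩
        obtain ⟨-, a, φ, h0, -, -, hgv⟩ := hg
        have hpow : ∀ (n : ℕ) (v : V), (g ^ n) v = v + ((n : ZMod p) * φ v) • a := by
          intro n v
          induction n with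
          | zero => simp
          | succ n ih =>
            rw [pow_succ', LinearEquiv.mul_apply, ih, hgv, map_add, map_smul, h0, smul_eq_mul,
              mul_zero, add_zero, Nat.cast_succ, add_mul, one_mul, add_smul, add_assoc]
        have hgK : g ∈ K := hK ▸ Subgroup.subset_closure ⟨by assumption, a, φ, h0, by assumption,
          by assumption, hgv⟩
        have hone : (⟨g, hgK⟩ : K) ^ p = 1 := Subtype.ext (LinearEquiv.ext fun v => by
          rw [SubgroupClass.coe_pow, hpow, ZMod.natCast_self, zero_mul, zero_smul, add_zero]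
          rfl)
        have h1 := congrArg (LinearEquiv.det.comp ρ) hone
        rw [map_pow, map_one] at h1
        have h2 : ((LinearEquiv.det.comp ρ) ⟨g, hgK⟩ : ZMod p) ^ p = 1 := by
          rw [← Units.val_pow_eq_pow_val, h1, Units.val_one]
        rw [ZMod.pow_card] at h2
        exact Units.ext h2
      obtain ⟨g', hg', e⟩ := hle g.2
      have e' : g' = g := Subtype.ext e
      rw [← e']
      exact (LinearEquiv.coe_det (ρ g')).symm.trans (congrArg Units.val hg')
    · refine det_one_mem (fun a φ h0 => ?_) f hfdet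
      have hφ : (φ ∘ₗ π.rangeRestrict) ∘ₗ π = φ ∘ₗ π.rangeRestrict := LinearMap.ext fun v => by
        simp only [LinearMap.comp_apply]
        exact congrArg φ (Subtype.ext (hi v))
      have e : ∀ v : ↥(LinearMap.range π), π.rangeRestrict (v : V) = v := fun v =>
        Subtype.ext (hfix _ v.2)
      obtain ⟨g, hg, hgv⟩ := hgen a _ hφ (hf (a : V) _ (hfix _ a.2) hφ (by
        rw [LinearMap.comp_apply, e]; exact h0))
      exact ⟨g, hg, fun v => by rw [hgv, LinearMap.comp_apply, e]⟩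
  · right
    refine ⟨B.compl₁₂ (LinearMap.range π).subtype (LinearMap.range π).subtype,
      fun v => hf.alt _, ?_, ?_⟩
    · have hzero : ∀ x : ↥(LinearMap.range π),
          (∀ y : ↥(LinearMap.range π), B (x : V) (y : V) = 0) → x = 0 := fun x hx =>
        Subtype.ext (hf.nondeg _ (hfix _ x.2) (LinearMap.ext fun v => by
          rw [← hf.apply_proj]; exact hx ⟨π v, v, rfl⟩))
      exact ⟨fun x hx => hzero x hx, fun y hy => hzero y fun x => by
        rw [hf.skew]; exact neg_eq_zero.2 (hy x)⟩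
    refine Set.Subset.antisymm ?_ fun f hfB => ?_
    · rintro _ ⟨g, rfl⟩
      suffices h : ∀ g ∈ K, ∀ x ∈ LinearMap.range π, ∀ y ∈ LinearMap.range π,
          B (g x) (g y) = B x y from fun x y => h _ g.2 _ x.2 _ y.2
      intro g hg
      rw [hK] at hg
      induction hg using Subgroup.closure_induction with
      | mem g hg =>
        obtain ⟨hgH, a, φ, h0, ha, hφ, hgv⟩ := hg
        intro x _ y _
        rcases eq_or_ne a 0 with e | e
        · simp [hgv, e]
        rcases eq_or_ne φ 0 with e' | e'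
        · simp [hgv, e']
        obtain ⟨μ, hμ⟩ := hin a φ ⟨h0, g, hgH, hgv⟩ e e' ha hφ
        simp only [hgv, hμ, map_add, map_smul, LinearMap.add_apply, LinearMap.smul_apply, hf.alt,
          smul_eq_mul]
        rw [hf.skew x a]
        ring
      | one => intro x _ y _; rfl
      | mul g g' _ hg' h1 h2 =>
        intro x hx y hy
        rw [LinearEquiv.mul_apply, LinearEquiv.mul_apply, h1 _ (hmaps g' (hK ▸ hg') x hx) _
          (hmaps g' (hK ▸ hg') y hy), h2 x hx y hy]
      | inv g hg h1 =>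
        intro x hx y hy
        have k := h1 _ (hmaps _ (hK ▸ inv_mem hg) x hx) _ (hmaps _ (hK ▸ inv_mem hg) y hy)
        rw [show g (g⁻¹ x) = x from g.apply_symm_apply x,
          show g (g⁻¹ y) = y from g.apply_symm_apply y] at k
        exact k.symm
    · refine isometry_mem (B.compl₁₂ (LinearMap.range π).subtype (LinearMap.range π).subtype)
        (fun v => hf.alt _) (fun x hx => Subtype.ext (hf.nondeg _ (hfix _ x.2)
          (LinearMap.ext fun v => by rw [← hf.apply_proj]; exact hx ⟨π v, v, rfl⟩)))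
        (fun x c => ?_) f hfB
      obtain ⟨g, hg, hgv⟩ := hgen x (c • B (x : V)) (by rw [LinearMap.smul_comp, hf.axis])
        ((hf.full _ (hfix _ x.2)).smul c).1
      exact ⟨g, hg, fun v => by rw [hgv]; rfl⟩

/-- McLaughlin's decomposition. -/
theorem mclaughlin_odd (hp : Odd p) (H : Subgroup (V ≃ₗ[ZMod p] V)) (T : Set (V ≃ₗ[ZMod p] V))
    (hHT : H = Subgroup.closure T)
    (hT : ∀ t ∈ T, orderOf t = p ∧
      Module.finrank (ZMod p) ↥(LinearMap.ker ((t : V →ₗ[ZMod p] V) - LinearMap.id)) + 1 =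
        Module.finrank (ZMod p) V)
    (hOp : Cfsg.pCore p ↥H = ⊥) :
    ∃ (n : ℕ) (W : Fin (n + 1) → Submodule (ZMod p) V) (K : Fin n → Subgroup (V ≃ₗ[ZMod p] V)),
      1 ≤ n ∧ DirectSum.IsInternal W ∧
      (∀ h ∈ H, ∀ i, (W i).map (h : V →ₗ[ZMod p] V) = W i) ∧
      (∀ j, K j ≤ H ∧ ((K j).subgroupOf H).Normal) ∧ ⨆ j, K j = H ∧
      (∀ j, K j ⊓ (⨆ j' ∈ {j' : Fin n | j' ≠ j}, K j') = ⊥) ∧
      (∀ j j', j ≠ j' → ∀ a ∈ K j, ∀ b ∈ K j', a * b = b * a) ∧
      (∀ j, ∀ h ∈ K j, ∀ i : Fin (n + 1), i ≠ j.succ → ∀ v ∈ W i, h v = v) ∧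
      (∀ j, ∃ ρ : ↥(K j) →* (↥(W j.succ) ≃ₗ[ZMod p] ↥(W j.succ)),
        (∀ (h : ↥(K j)) (v : ↥(W j.succ)),
          ((ρ h v : ↥(W j.succ)) : V) = (h : V ≃ₗ[ZMod p] V) (v : V)) ∧
        ((ρ.range : Set (↥(W j.succ) ≃ₗ[ZMod p] ↥(W j.succ))) =
            {f : ↥(W j.succ) ≃ₗ[ZMod p] ↥(W j.succ) |
              LinearMap.det (f : ↥(W j.succ) →ₗ[ZMod p] ↥(W j.succ)) = 1} ∨
          ∃ B : LinearMap.BilinForm (ZMod p) ↥(W j.succ), B.IsAlt ∧ B.Nondegenerate ∧
            (ρ.range : Set (↥(W j.succ) ≃ₗ[ZMod p] ↥(W j.succ))) =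
              {f : ↥(W j.succ) ≃ₗ[ZMod p] ↥(W j.succ) | ∀ x y, B (f x) (f y) = B x y})) := by
  have hT' : ∀ t ∈ T, ∃ (a : V) (φ : Dual (ZMod p) V), a ≠ 0 ∧ φ ≠ 0 ∧ φ a = 0 ∧
      ∀ v, t v = v + φ v • a := fun t ht => exists_pair_of_orderOf (hT t ht).1 (hT t ht).2
  have h2k : (2 : ZMod p) ≠ 0 := fun h => by
    have h' : ((2 : ℕ) : ZMod p) = 0 := by exact_mod_cast h
    have := (Nat.prime_dvd_prime_iff_eq (Fact.out : p.Prime) Nat.prime_two).1
      ((ZMod.natCast_eq_zero_iff 2 p).1 h')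
    rw [this] at hp
    exact absurd hp (by decide)
  obtain ⟨N, π₁, hb, horth, hcov⟩ := decomp h2k (finrank (ZMod p) V) (IsTv H) ⊤
    (isTv_rel hp hHT hT' hOp) (Submodule.finrank_le _) fun a φ _ _ _ => Submodule.mem_top
  obtain ⟨π, hπ⟩ : ∃ π : Fin (N + 1) → V →ₗ[ZMod p] V, π = Fin.cons 0 π₁ := ⟨_, rfl⟩
  have hi : ∀ j, Idem (π j) := by
    rw [hπ]; intro j; induction j using Fin.cases with
    | zero => intro v; simp
    | succ j => simpa using (hb j).1
  have horth' : ∀ i j, i ≠ j → ∀ v, π i (π j v) = 0 := by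
    rw [hπ]; intro i j hij v
    induction i using Fin.cases <;> induction j using Fin.cases
    · simp
    · simp
    · simp
    · simpa using horth _ _ (fun h => hij (by rw [h])) v
  have hblk : ∀ j, SLFull (IsTv H) (π j) ∨
      ∃ B, SpFull (IsTv H) (π j) B ∧ SpIn (IsTv H) (π j) B := by
    rw [hπ]; intro j; induction j using Fin.cases with
    | zero =>
      refine Or.inl fun u φ hu _ _ => ?_
      simp only [Fin.cons_zero, LinearMap.zero_apply] at hu
      exact hu ▸ (isTv_rel hp hHT hT' hOp).zero_center φ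
    | succ j => simpa using (hb j).2.2
  have hcov' : ∀ t ∈ T, ∃ j, t ∈ inside H (π j) := fun t ht => by
    obtain ⟨a, φ, ha, hφ, h0, htv⟩ := hT' t ht
    obtain ⟨j, h1, h2⟩ := hcov a φ ⟨h0, t, hHT ▸ Subgroup.subset_closure ht, htv⟩ ha hφ
    exact ⟨j.succ, hHT ▸ Subgroup.subset_closure ht, a, φ, h0, by simpa [hπ] using h1,
      by simpa [hπ] using h2, htv⟩
  have hgenc : ∀ i, ∀ g ∈ inside H (π i), ∀ j v, π j (g v) = g (π j v) := by
    rintro i g ⟨-, a, φ, -, ha, hφ, hg⟩ j v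
    rw [hg, hg, map_add, map_smul]
    by_cases hij : j = i
    · subst hij
      rw [ha, show φ (π j v) = φ v from LinearMap.congr_fun hφ v]
    · rw [← ha, horth' j i hij, smul_zero,
        show φ (π j v) = 0 by rw [← hφ, LinearMap.comp_apply, horth' i j (Ne.symm hij), map_zero],
        zero_smul]
  have hcomm : ∀ h ∈ H, ∀ j v, π j (h v) = h (π j v) := by
    intro h hh
    rw [hHT] at hh
    induction hh using Subgroup.closure_induction with
    | mem t ht => obtain ⟨i, hi'⟩ := hcov' t ht; exact hgenc i t hi'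
    | one => intro j v; rfl
    | mul g g' _ _ h1 h2 =>
      intro j v; rw [LinearEquiv.mul_apply, LinearEquiv.mul_apply, h1, h2]
    | inv g _ h1 =>
      intro j v
      apply g.injective
      rw [← h1, show g (g⁻¹ v) = v from g.apply_symm_apply v,
        show g (g⁻¹ (π j v)) = π j v from g.apply_symm_apply _]
  obtain ⟨q, hq⟩ : ∃ q : Fin (N + 1 + 1) → V →ₗ[ZMod p] V,
      q = Fin.cons (LinearMap.id - ∑ j, π j) π := ⟨_, rfl⟩
  have hS : ∀ j v, π j ((∑ i, π i) v) = π j v := fun j v => by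
    rw [LinearMap.sum_apply, map_sum, Finset.sum_eq_single j (fun i _ h => horth' j i (Ne.symm h) v)
      (fun h => absurd (Finset.mem_univ j) h), hi]
  have hq0 : ∀ v, q 0 v = v - (∑ i, π i) v := fun v => by simp [hq]
  have hqs : ∀ j, q j.succ = π j := fun j => by simp [hq]
  have hπq : ∀ j i, i ≠ j.succ → ∀ v, π j (q i v) = 0 := fun j i h v => by
    induction i using Fin.cases with
    | zero => rw [hq0, map_sub, hS, sub_self]
    | succ i => rw [hqs]; exact horth' j i (fun e => h (by rw [e])) v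
  have hqi : ∀ i, Idem (q i) := fun i => by
    induction i using Fin.cases with
    | zero =>
      intro v
      have h0 : (∑ j, π j) (q 0 v) = 0 := by
        rw [LinearMap.sum_apply]
        exact Finset.sum_eq_zero fun j _ => hπq j 0 (Fin.succ_ne_zero j).symm v
      rw [hq0 (q 0 v), h0, sub_zero]
    | succ i => rw [hqs]; exact hi i
  have hqq : ∀ i i', i ≠ i' → ∀ v, q i (q i' v) = 0 := fun i i' h v => by
    induction i using Fin.cases with
    | zero =>
      induction i' using Fin.cases with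
      | zero => exact absurd rfl h
      | succ l =>
        rw [hqs, hq0, LinearMap.sum_apply, Finset.sum_eq_single l
          (fun j _ hj => horth' j l hj v) (fun h => absurd (Finset.mem_univ l) h), hi, sub_self]
    | succ j => rw [hqs]; exact hπq j i' (Ne.symm h) v
  have hsum : ∀ v, ∑ i, q i v = v := fun v => by
    rw [Fin.sum_univ_succ, hq0]
    simp [hqs]
  have hext : ∀ f g : V ≃ₗ[ZMod p] V,
      (∀ i, ∀ v ∈ LinearMap.range (q i), f v = g v) → f = g := fun f g h =>
    LinearEquiv.ext fun v => by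
      rw [← hsum v, map_sum, map_sum]
      exact Finset.sum_congr rfl fun i _ => h i _ ⟨v, rfl⟩
  have hqh : ∀ h ∈ H, ∀ i v, q i (h v) = h (q i v) := fun h hh i v => by
    induction i using Fin.cases with
    | zero =>
      rw [hq0, hq0, map_sub, LinearMap.sum_apply, LinearMap.sum_apply, map_sum]
      exact congrArg _ (Finset.sum_congr rfl fun j _ => hcomm h hh j v)
    | succ j => rw [hqs]; exact hcomm h hh j v
  have hKH : ∀ j, Subgroup.closure (inside H (π j)) ≤ H := fun j =>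
    (Subgroup.closure_le _).2 fun g hg => hg.1
  have hKfix : ∀ j, ∀ h ∈ Subgroup.closure (inside H (π j)), ∀ i, i ≠ j.succ →
      ∀ v ∈ LinearMap.range (q i), h v = v := fun j h hh i hij v hv =>
    (inside_fix (hπq j i hij) hh).2 v hv
  refine ⟨N + 1, fun i => LinearMap.range (q i), fun j => Subgroup.closure (inside H (π j)),
    by omega, DirectSum.isInternal_submodule_of_iSupIndep_of_iSup_eq_top ?_ ?_, ?_, ?_, ?_, ?_, ?_,
    hKfix, fun j => ?_⟩
  · rw [iSupIndep_def]
    intro i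
    have hle : (⨆ i', ⨆ (_ : i' ≠ i), LinearMap.range (q i')) ≤ LinearMap.ker (q i) :=
      iSup₂_le fun i' h => by rintro _ ⟨v, rfl⟩; exact hqq i i' (Ne.symm h) v
    rw [disjoint_iff, eq_bot_iff]
    rintro _ ⟨⟨v, rfl⟩, hx⟩
    rw [Submodule.mem_bot, ← hqi i v]
    exact hle hx
  · refine eq_top_iff.2 fun v _ => ?_
    rw [← hsum v]
    exact Submodule.sum_mem _ fun i _ => Submodule.mem_iSup_of_mem i ⟨v, rfl⟩
  · intro h hh i
    refine le_antisymm ?_ fun w ⟨v, hv⟩ => ⟨q i (h⁻¹ v), ⟨_, rfl⟩, ?_⟩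
    · rintro _ ⟨_, ⟨v, rfl⟩, rfl⟩
      exact ⟨h v, hqh h hh i v⟩
    · rw [LinearEquiv.coe_coe, ← hqh h hh, show h (h⁻¹ v) = v from h.apply_symm_apply v, hv]
  · intro j
    refine ⟨hKH j, ⟨?_⟩⟩
    rintro ⟨n, hn⟩ hn' ⟨g, hg⟩
    rw [Subgroup.mem_subgroupOf] at hn' ⊢
    show g * n * g⁻¹ ∈ Subgroup.closure (inside H (π j))
    change n ∈ Subgroup.closure (inside H (π j)) at hn'
    clear hn
    induction hn' using Subgroup.closure_induction with
    | mem n hn =>
      obtain ⟨hnH, a, φ, h0, ha, hφ, hnv⟩ := hn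
      refine Subgroup.subset_closure ⟨H.mul_mem (H.mul_mem hg hnH) (H.inv_mem hg), g a,
        φ ∘ₗ g.symm.toLinearMap, by simpa using h0, by rw [hcomm g hg, ha],
        LinearMap.ext fun v => ?_, fun v => ?_⟩
      · have h1 := hcomm g⁻¹ (H.inv_mem hg) j v
        simp only [LinearMap.comp_apply, LinearEquiv.coe_coe]
        rw [show g.symm (π j v) = π j (g.symm v) from h1.symm]
        exact LinearMap.congr_fun hφ _
      · rw [LinearEquiv.mul_apply, LinearEquiv.mul_apply, hnv, map_add, map_smul,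
          show g (g⁻¹ v) = v from g.apply_symm_apply v]
        rfl
    | one => simp
    | mul a b _ _ h1 h2 => simpa [mul_assoc] using mul_mem h1 h2
    | inv a _ h1 => simpa [mul_assoc] using inv_mem h1
  · refine le_antisymm (iSup_le hKH) ?_
    conv_lhs => rw [hHT]
    refine (Subgroup.closure_le _).2 fun t ht => ?_
    obtain ⟨j, hj⟩ := hcov' t ht
    exact Subgroup.mem_iSup_of_mem j (Subgroup.subset_closure hj)
  · intro j
    rw [eq_bot_iff]
    rintro x ⟨hx, hx'⟩
    have hle : (⨆ j' ∈ {j' : Fin (N + 1) | j' ≠ j}, Subgroup.closure (inside H (π j'))) ≤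
        moveSub ⊤ (LinearMap.range (q j.succ)) :=
      iSup₂_le fun j' h => inside_fix (hπq j' j.succ fun e => h (Fin.succ_injective _ e).symm)
    rw [Subgroup.mem_bot]
    refine hext x 1 fun i v hv => ?_
    by_cases hij : i = j.succ
    · subst hij; exact (hle hx').2 v hv
    · exact hKfix j x hx i hij v hv
  · intro j j' hne a ha b hb'
    refine hext _ _ fun i v hv => ?_
    rw [LinearEquiv.mul_apply, LinearEquiv.mul_apply]
    obtain ⟨w, rfl⟩ := hv
    by_cases hij : i = j.succ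
    · subst hij
      have hne' : j.succ ≠ j'.succ := fun e => hne (Fin.succ_injective _ e)
      rw [hKfix j' b hb' _ hne' _ ⟨w, rfl⟩, hKfix j' b hb' _ hne' _
        ⟨a w, hqh a (hKH j ha) _ w⟩]
    · rw [hKfix j a ha i hij _ ⟨b w, hqh b (hKH j' hb') _ w⟩, hKfix j a ha i hij _ ⟨w, rfl⟩]
  · obtain ⟨ρ, h1, h2⟩ := range_of_inside (hi j) (fun h hh => hcomm h hh j) (hblk j)
    have e : LinearMap.range (q j.succ) = LinearMap.range (π j) := by rw [hqs]
    revert ρ
    rw [← e]
    exact fun ρ h1 h2 => ⟨ρ, h1, h2⟩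

end Cfsg.Agent.Fus.TV2
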