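import Mathlib

/-!
Transvection relations on a vector space over a prime field: sets of incident centre-axis pairs
closed under the operations that a group generated by transvections without normal `p`-subgroup
provides. The full blocks of linear type.
-/

set_option autoImplicit false
set_option linter.unusedSectionVars false

namespace Cfsg.Agent.Fus.TV2

open Module

variable {k : Type*} [Field k] {V : Type*} [AddCommGroup V] [Module k V] [FiniteDimensional k V]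

/-- The axioms. -/
structure TVRel (R : V → Dual k V → Prop) : Prop where
  zero_axis : ∀ a : V, R a 0
  zero_center : ∀ φ : Dual k V, R 0 φ
  incid : ∀ {a : V} {φ : Dual k V}, R a φ → φ a = 0
  smul : ∀ {a : V} {φ : Dual k V}, R a φ → ∀ c : k, R a (c • φ) ∧ R (c • a) φ
  add_axis : ∀ {a : V} {φ ψ : Dual k V}, R a φ → R a ψ → R a (φ + ψ)
  add_center : ∀ {a b : V} {φ : Dual k V}, R a φ → R b φ → R (a + b) φ
  move : ∀ {a b : V} {φ ψ : Dual k V}, R a φ → R b ψ → ∀ s : k,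
    R (a + (s * ψ a) • b) (φ - (s * φ b) • ψ)
  partner : ∀ {a : V} {φ : Dual k V}, R a φ → a ≠ 0 → φ ≠ 0 →
    ∃ b ψ, R b ψ ∧ φ b ≠ 0 ∧ ψ a ≠ 0
  radical : ∀ {a b : V} {φ ψ : Dual k V}, R a φ → R b ψ →
    (∀ d δ, R d δ → d ≠ 0 → δ ≠ 0 → δ (a - b) = 0 ∧ (φ - ψ) d = 0) →
    ∀ v : V, φ v • a = ψ v • b

/-- Two functionals with the same kernel are proportional. -/
theorem exists_smul_of_ker {f g : Dual k V} (h : ∀ v, f v = 0 → g v = 0) : ∃ c : k, g = c • f := by
  rcases eq_or_ne f 0 with rfl | hf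
  · exact ⟨0, LinearMap.ext fun v => by simp [h v rfl]⟩
  obtain ⟨x, hx⟩ : ∃ x, f x = 1 := by
    obtain ⟨x, hx⟩ := DFunLike.ne_iff.1 hf
    exact ⟨(f x)⁻¹ • x, by rw [map_smul, smul_eq_mul]; exact inv_mul_cancel₀ hx⟩
  refine ⟨g x, LinearMap.ext fun v => ?_⟩
  have h1 := h (v - f v • x) (by rw [map_sub, map_smul, hx, smul_eq_mul, mul_one, sub_self])
  rw [map_sub, map_smul, smul_eq_mul, sub_eq_zero] at h1
  rw [LinearMap.smul_apply, smul_eq_mul, h1, mul_comm]

/-- A functional separating a vector from the multiples of another. -/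
theorem exists_dual_sep {u u' : V} (h : ∀ c : k, u ≠ c • u') : ∃ φ : Dual k V, φ u ≠ 0 ∧ φ u' = 0 := by
  obtain ⟨φ, hu, hmap⟩ := Submodule.exists_dual_map_eq_bot_of_notMem (p := k ∙ u') (x := u)
    (fun hm => by
      obtain ⟨c, hc⟩ := Submodule.mem_span_singleton.1 hm
      exact h c hc.symm) inferInstance
  refine ⟨φ, hu, ?_⟩
  have : φ u' ∈ (k ∙ u').map φ := Submodule.mem_map_of_mem (Submodule.mem_span_singleton_self u')
  rwa [hmap, Submodule.mem_bot] at this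

variable {R : V → Dual k V → Prop}

namespace TVRel

/-- Asymmetric exchange. -/
theorem exchange (hR : TVRel R) {a b : V} {φ ψ : Dual k V} (ha : R a φ) (hb : R b ψ) (h : φ b = 0)
    (h' : ψ a ≠ 0) : R b φ := by
  have h1 := hR.move ha hb (ψ a)⁻¹
  rw [h, mul_zero, zero_smul, sub_zero, inv_mul_cancel₀ h', one_smul] at h1
  have h2 := hR.add_center h1 (hR.smul ha (-1)).2
  rwa [neg_smul, one_smul, add_neg_cancel_comm] at h2

theorem sub_axis (hR : TVRel R) {a : V} {φ ψ : Dual k V} (h : R a φ) (h' : R a ψ) :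
    R a (φ - ψ) := by
  have h1 := hR.add_axis h (hR.smul h' (-1)).1
  rwa [show φ + (-1 : k) • ψ = φ - ψ from
    LinearMap.ext fun v => by simp [sub_eq_add_neg]] at h1

theorem sub_center (hR : TVRel R) {a b : V} {φ : Dual k V} (h : R a φ) (h' : R b φ) :
    R (a - b) φ := by
  have h1 := hR.add_center h (hR.smul h' (-1)).2
  rwa [neg_smul, one_smul, ← sub_eq_add_neg] at h1

/-- Scaling a pair by a nonzero scalar. -/
theorem scale (hR : TVRel R) {a : V} {φ : Dual k V} (h : R a φ) (c : k) :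
    R (c • a) (c • φ) := (hR.smul (hR.smul h c).1 c).2

end TVRel

/-- An idempotent endomorphism. -/
def Idem (π : V →ₗ[k] V) : Prop := ∀ v, π (π v) = π v

/-- All incident pairs inside the block are in the relation. -/
def SLFull (R : V → Dual k V → Prop) (π : V →ₗ[k] V) : Prop :=
  ∀ u φ, π u = u → φ ∘ₗ π = φ → φ u = 0 → R u φ

/-- Every nonzero pair is inside or outside the block. -/
def Split (R : V → Dual k V → Prop) (π : V →ₗ[k] V) : Prop :=
  ∀ a φ, R a φ → a ≠ 0 → φ ≠ 0 → (π a = a ∧ φ ∘ₗ π = φ) ∨ (π a = 0 ∧ φ ∘ₗ π = 0)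

theorem Idem.comp_comp {π : V →ₗ[k] V} (hi : Idem π) (φ : Dual k V) :
    (φ ∘ₗ π) ∘ₗ π = φ ∘ₗ π := LinearMap.ext fun v => congrArg φ (hi v)

theorem Idem.apply_sub {π : V →ₗ[k] V} (hi : Idem π) (v : V) : π (v - π v) = 0 := by
  rw [map_sub, hi, sub_self]

/-- A functional of the block separating `u` from the multiples of `u'`. -/
theorem Idem.exists_sep {π : V →ₗ[k] V} {u u' : V} (hi : Idem π) (hu : π u = u) (hu' : π u' = u')
    (h : ∀ c : k, u ≠ c • u') : ∃ φ : Dual k V, φ ∘ₗ π = φ ∧ φ u ≠ 0 ∧ φ u' = 0 := by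
  obtain ⟨φ, h1, h2⟩ := exists_dual_sep h
  exact ⟨φ ∘ₗ π, hi.comp_comp φ, by rwa [LinearMap.comp_apply, hu],
    by rwa [LinearMap.comp_apply, hu']⟩

/-- The projection of a block enlarged by one dimension. -/
theorem idem_add {π : V →ₗ[k] V} (hi : Idem π) {d : V} {χ : Dual k V} (hd : π d = 0)
    (hχ : χ ∘ₗ π = 0) (he : χ d = 1) : Idem (π + χ.smulRight d) := fun v => by
  have h1 : χ (π v) = 0 := LinearMap.congr_fun hχ v
  simp [map_add, map_smul, hi v, hd, h1, he]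

theorem finrank_lt_add {π : V →ₗ[k] V} (hi : Idem π) {d : V} {χ : Dual k V} (hd : π d = 0)
    (hχ : χ ∘ₗ π = 0) (he : χ d = 1) :
    finrank k (LinearMap.range π) < finrank k (LinearMap.range (π + χ.smulRight d)) := by
  refine Submodule.finrank_lt_finrank_of_lt (lt_of_le_of_ne ?_ fun h => ?_)
  · rintro _ ⟨v, rfl⟩
    refine ⟨π v, ?_⟩
    have h1 : χ (π v) = 0 := LinearMap.congr_fun hχ v
    simp [hi v, h1]
  · have hm : d ∈ LinearMap.range π := h ▸ ⟨d, by simp [hd, he]⟩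
    obtain ⟨w, hw⟩ := hm
    have h2 : d = 0 := by rw [← hw, ← hi w, hw, hd]
    rw [h2, map_zero] at he
    exact zero_ne_one he

/-- A pair with centre in a linear block and axis outside enlarges the block. -/
theorem SLFull.grow (hR : TVRel R) {π : V →ₗ[k] V} (hi : Idem π) (hf : SLFull R π)
    (h2 : ∀ u, π u = u → ∃ u', π u' = u' ∧ ∀ c : k, u' ≠ c • u)
    {u₀ : V} {χ : Dual k V} (hu₀ : π u₀ = u₀) (hu0 : u₀ ≠ 0) (hχπ : χ ∘ₗ π = 0) (hχ0 : χ ≠ 0)
    (hr : R u₀ χ) :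
    ∃ π', Idem π' ∧ SLFull R π' ∧ finrank k (LinearMap.range π) < finrank k (LinearMap.range π') ∧
      ∀ u, π u = u → π' u = u := by
  have hχU : ∀ v, χ (π v) = 0 := fun v => LinearMap.congr_fun hχπ v
  have hall : ∀ u, π u = u → R u χ := by
    intro u hu
    by_cases hc : ∃ c : k, u = c • u₀
    · obtain ⟨c, rfl⟩ := hc
      exact (hR.smul hr c).2
    push Not at hc
    obtain ⟨φ, hφπ, hφu, hφ'⟩ := hi.exists_sep hu₀ (u := u₀) (u' := u - u₀)
      (by rw [map_sub, hu, hu₀]) (fun c h => by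
        rcases eq_or_ne c 0 with rfl | hc0
        · exact hu0 (by simpa using h)
        · refine hc (1 + c⁻¹) ?_
          rw [add_smul, one_smul]
          have h3 : c⁻¹ • u₀ = u - u₀ := by
            conv_lhs => rw [h, smul_smul, inv_mul_cancel₀ hc0, one_smul]
          rw [h3, add_sub_cancel])
    have h1 := hR.move hr (hf (u - u₀) φ (by rw [map_sub, hu, hu₀]) hφπ hφ') (φ u₀)⁻¹
    have h3 : χ (u - u₀) = 0 := by
      rw [show u - u₀ = π (u - u₀) by rw [map_sub, hu, hu₀]]; exact hχU _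
    rw [inv_mul_cancel₀ hφu, one_smul, add_sub_cancel, h3, mul_zero, zero_smul, sub_zero] at h1
    exact h1
  obtain ⟨d, δ, hd, hχd, hδu⟩ := hR.partner hr hu0 hχ0
  have h1 := hR.move hd (hall (-π d) (by rw [map_neg, hi])) (χ d)⁻¹
  rw [inv_mul_cancel₀ hχd, one_smul, ← sub_eq_add_neg] at h1
  generalize hd1 : d - π d = d₁ at h1
  generalize hδ1 : δ - ((χ d)⁻¹ * δ (-π d)) • χ = δ₁ at h1
  have hπd₁ : π d₁ = 0 := by rw [← hd1, hi.apply_sub]
  have hχd₁ : χ d₁ ≠ 0 := by rwa [← hd1, map_sub, hχU, sub_zero]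
  have hδ₁u : δ₁ u₀ ≠ 0 := by
    rw [← hδ1, LinearMap.sub_apply, LinearMap.smul_apply, ← hu₀, hχU, smul_zero, sub_zero, hu₀]
    exact hδu
  have hall' : ∀ φ : Dual k V, φ ∘ₗ π = φ → R d₁ φ := by
    intro φ hφ
    have hkill : ∀ ψ : Dual k V, ψ ∘ₗ π = ψ → ψ d₁ = 0 := fun ψ hψ => by
      rw [← hψ, LinearMap.comp_apply, hπd₁, map_zero]
    have key : ∀ ψ : Dual k V, ψ ∘ₗ π = ψ → (∀ c : k, ψ ≠ c • (δ₁ ∘ₗ π)) → R d₁ ψ := by
      intro ψ hψ hne
      by_cases hex : ∃ u, π u = u ∧ ψ u = 0 ∧ δ₁ u ≠ 0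
      · obtain ⟨u, hu, hψu, hδ⟩ := hex
        exact hR.exchange (hf u ψ hu hψ hψu) h1 (hkill ψ hψ) hδ
      push Not at hex
      obtain ⟨c, hc⟩ := exists_smul_of_ker (f := ψ) (g := δ₁ ∘ₗ π) fun v hv => by
        refine hex (π v) (hi v) ?_
        rw [← hψ] at hv
        exact hv
      have hc0 : c ≠ 0 := fun h => hδ₁u (by
        rw [h, zero_smul] at hc
        rw [← hu₀]
        exact LinearMap.congr_fun hc u₀)
      exact absurd (by rw [hc, smul_smul, inv_mul_cancel₀ hc0, one_smul]) (hne c⁻¹)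
    by_cases hc : ∃ c : k, φ = c • (δ₁ ∘ₗ π)
    · obtain ⟨c, hc⟩ := hc
      -- write `φ` as a difference
      obtain ⟨u', hu', hne⟩ := h2 u₀ hu₀
      obtain ⟨ψ, hψπ, hψu, hψ0⟩ := hi.exists_sep hu' hu₀ hne
      have hne1 : ∀ e : k, ψ ≠ e • (δ₁ ∘ₗ π) := fun e he => by
        have h0 := LinearMap.congr_fun he u₀
        rw [hψ0, LinearMap.smul_apply, LinearMap.comp_apply, hu₀, smul_eq_mul, eq_comm,
          mul_eq_zero] at h0
        rw [he, h0.resolve_right hδ₁u, zero_smul] at hψu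
        exact hψu rfl
      have h3 := hR.sub_axis (key (φ + ψ) (by rw [LinearMap.add_comp, hφ, hψπ]) fun e he =>
        hne1 (e - c) (LinearMap.ext fun v => by
          have q1 := LinearMap.congr_fun he v
          have q2 := LinearMap.congr_fun hc v
          simp only [LinearMap.add_apply, LinearMap.smul_apply, smul_eq_mul] at q1 q2 ⊢
          linear_combination q1 - q2)) (key ψ hψπ hne1)
      rwa [add_sub_cancel_right] at h3
    · push Not at hc
      exact key φ hφ hc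
  obtain ⟨χ₁, hχ₁⟩ : ∃ χ₁, χ₁ = (χ d₁)⁻¹ • χ := ⟨_, rfl⟩
  have hχ₁π : χ₁ ∘ₗ π = 0 := by rw [hχ₁, LinearMap.smul_comp, hχπ, smul_zero]
  have he : χ₁ d₁ = 1 := by
    rw [hχ₁, LinearMap.smul_apply, smul_eq_mul, inv_mul_cancel₀ hχd₁]
  have hall₁ : ∀ u, π u = u → R u χ₁ := fun u hu => hχ₁ ▸ (hR.smul (hall u hu) _).1
  refine ⟨π + χ₁.smulRight d₁, idem_add hi hπd₁ hχ₁π he, ?_, finrank_lt_add hi hπd₁ hχ₁π he,
    fun u hu => ?_⟩
  · intro w φ hw hφ hφw
    obtain ⟨u, hu⟩ : ∃ u, u = π w := ⟨_, rfl⟩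
    obtain ⟨x, hx⟩ : ∃ x, x = χ₁ w := ⟨_, rfl⟩
    obtain ⟨φ', hφ'⟩ : ∃ φ', φ' = φ ∘ₗ π := ⟨_, rfl⟩
    obtain ⟨y, hy⟩ : ∃ y, y = φ d₁ := ⟨_, rfl⟩
    have hwe : u + x • d₁ = w := by rw [hu, hx]; exact hw
    have hφe : φ' + y • χ₁ = φ := by
      conv_rhs => rw [← hφ]
      refine LinearMap.ext fun v => ?_
      simp [hφ', hy, map_add, map_smul, mul_comm]
    have hπu : π u = u := by rw [hu, hi]
    have hφ'π : φ' ∘ₗ π = φ' := by rw [hφ', hi.comp_comp]
    have hφ'd : φ' d₁ = 0 := by rw [hφ', LinearMap.comp_apply, hπd₁, map_zero]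
    have hχ₁u : χ₁ u = 0 := by rw [← hπu]; exact LinearMap.congr_fun hχ₁π u
    have hinc : φ' u + x * y = 0 := by
      rw [← hφw, ← hwe, ← hφe]
      simp [hφ'd, hχ₁u, he, mul_comm]
    have hU : ∀ ψ : Dual k V, ψ ∘ₗ π = ψ → ψ u = 0 → ∀ z : k, R u (ψ + z • χ₁) := fun ψ hψ hψu z =>
      hR.add_axis (hf u ψ hπu hψ hψu) (hR.smul (hall₁ u hπu) z).1
    rw [← hwe, ← hφe]
    rcases eq_or_ne x 0 with hx0 | hx0
    · rw [hx0, zero_smul, add_zero]
      exact hU φ' hφ'π (by rwa [hx0, zero_mul, add_zero] at hinc) y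
    rcases eq_or_ne u 0 with hu' | hu'
    · rw [hu', map_zero, zero_add] at hinc
      rw [hu', zero_add, (mul_eq_zero.1 hinc).resolve_left hx0, zero_smul, add_zero]
      exact (hR.smul (hall' φ' hφ'π) x).2
    obtain ⟨η, hηπ, hηu⟩ : ∃ η : Dual k V, η ∘ₗ π = η ∧ η u = x := by
      obtain ⟨η, hη⟩ := DFunLike.ne_iff.1
        (fun h : (Dual.eval k V u) = 0 => hu' ((forall_dual_apply_eq_zero_iff k u).1
          fun f => LinearMap.congr_fun h f))
      refine ⟨(x / η u) • (η ∘ₗ π), by rw [LinearMap.smul_comp, hi.comp_comp], ?_⟩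
      rw [LinearMap.smul_apply, LinearMap.comp_apply, hπu, smul_eq_mul, div_mul_cancel₀ x (show η u ≠ 0 from hη)]
    have h3 := hR.move (hU (φ' + y • η) (by rw [LinearMap.add_comp, LinearMap.smul_comp, hφ'π, hηπ])
      (by rw [LinearMap.add_apply, LinearMap.smul_apply, hηu, smul_eq_mul, mul_comm]; exact hinc) y)
      (hall' η hηπ) 1
    have hηd : η d₁ = 0 := by rw [← hηπ, LinearMap.comp_apply, hπd₁, map_zero]
    have e1 : (φ' + y • η + y • χ₁) d₁ = y := by simp [hφ'd, hηd, he]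
    rw [one_mul, one_mul, hηu, e1, add_right_comm, add_sub_cancel_right] at h3
    exact h3
  · simp [hu, show χ₁ u = 0 by rw [← hu]; exact LinearMap.congr_fun hχ₁π u]

/-- A pair whose centre meets a linear block, with enough room in the kernel of its axis, has an
axis whose outer part pairs with the block. -/
theorem SLFull.outer (hR : TVRel R) {π : V →ₗ[k] V} (hi : Idem π) (hf : SLFull R π) {c : V}
    {χ : Dual k V} (hr : R c χ) {u : V} (hu : π u = u) (hχu : χ u = 0)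
    (hne : ∀ a : k, π c ≠ a • u) : R u (χ - χ ∘ₗ π) := by
  obtain ⟨φ, hφπ, hφc, hφu⟩ := hi.exists_sep (hi c) hu hne
  have hφc' : φ c ≠ 0 := by rw [← hφπ]; rwa [← hφπ, LinearMap.comp_apply, hi] at hφc
  have h1 := hR.exchange hr (hf u φ hu hφπ hφu) hχu hφc'
  exact hR.sub_axis h1 (hf u _ hu (hi.comp_comp χ) (by rw [LinearMap.comp_apply, hu, hχu]))

/-- A maximal linear block of rank at least three splits the relation. -/
theorem SLFull.split (hR : TVRel R) {π : V →ₗ[k] V} (hi : Idem π) (hf : SLFull R π)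
    (h3 : ∀ (f : Dual k V) (w : V), π w = w → w ≠ 0 →
      ∃ u, π u = u ∧ f u = 0 ∧ u ≠ 0 ∧ ∀ a : k, w ≠ a • u)
    (hmax : ∀ u χ, π u = u → u ≠ 0 → χ ∘ₗ π = 0 → R u χ → χ = 0) : Split R π := by
  -- a centre meeting the block forces the axis inside
  have hin : ∀ c χ, R c χ → π c ≠ 0 → χ ∘ₗ π = χ := by
    intro c χ hr hc
    obtain ⟨u, hu, hχu, hu0, hne⟩ := h3 χ (π c) (hi c) hc
    have h1 := hf.outer hR hi hr hu hχu hne
    have h2 := hmax u _ hu hu0 (by rw [LinearMap.sub_comp, hi.comp_comp, sub_self]) h1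
    exact (sub_eq_zero.1 h2).symm
  -- a partner of a pair with outer centre and inner axis would contradict this
  have hout : ∀ c φ, R c φ → π c = 0 → φ ∘ₗ π = φ → c ≠ 0 → φ ≠ 0 → False := by
    intro c φ hr hc hφ hc0 hφ0
    obtain ⟨d, δ, hd, hφd, hδc⟩ := hR.partner hr hc0 hφ0
    refine hδc ?_
    rw [← hin d δ hd (fun h => hφd (by rw [← hφ, LinearMap.comp_apply, h, map_zero])),
      LinearMap.comp_apply, hc, map_zero]
  intro a χ hr ha hχ
  by_cases hw : π a = 0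
  · refine Or.inr ⟨hw, ?_⟩
    by_contra hω
    obtain ⟨v, hv⟩ := DFunLike.ne_iff.1 hω
    obtain ⟨u, hu, hχu, hu0, -⟩ := h3 χ (π v) (hi v) fun h => hv (by rw [LinearMap.comp_apply, h, map_zero]; rfl)
    -- a functional of the block killing some vector moved by the axis
    obtain ⟨φ, hφπ, hφu, hφv⟩ := hi.exists_sep hu (hi v) (u := u) (u' := π v) fun e he => by
      rw [he, map_smul, smul_eq_mul, mul_eq_zero] at hχu
      rcases hχu with rfl | hχu
      · exact hu0 (by rw [he, zero_smul])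
      · exact hv hχu
    exact hout a φ (hR.exchange (hf (π v) φ (hi v) hφπ hφv) hr
      (by rw [← hφπ, LinearMap.comp_apply, hw, map_zero]) hv) hw hφπ ha
      (fun h => hφu (by rw [h]; rfl))
  · have hχπ := hin a χ hr hw
    refine Or.inl ⟨?_, hχπ⟩
    by_contra hc
    exact hout (a - π a) χ (hR.sub_center hr (hf (π a) χ (hi a) hχπ (by
      rw [← LinearMap.comp_apply, hχπ]; exact hR.incid hr))) (hi.apply_sub a) hχπ
      (sub_ne_zero.2 (Ne.symm hc)) hχ

end Cfsg.Agent.Fus.TV2
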