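import Cfsg.Agent.Lib.Fus.TransvectionRelSp

/-!
Transvection relations: the decomposition into full blocks.
-/

set_option autoImplicit false
set_option linter.unusedSectionVars false

namespace Cfsg.Agent.Fus.TV2

open Module

variable {k : Type*} [Field k] {V : Type*} [AddCommGroup V] [Module k V] [FiniteDimensional k V]
variable {R : V → Dual k V → Prop}

/-- A full block, of linear or of symplectic type. -/
def IsBlock (R : V → Dual k V → Prop) (π : V →ₗ[k] V) : Prop :=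
  Idem π ∧ Two π ∧ (SLFull R π ∨ ∃ B, SpFull R π B ∧ SpIn R π B)

theorem two_of_finrank {π : V →ₗ[k] V} (h : 2 ≤ finrank k (LinearMap.range π)) (hi : Idem π) :
    Two π := by
  intro u _
  by_contra hcon
  push Not at hcon
  have hle : LinearMap.range π ≤ k ∙ u := by
    rintro _ ⟨v, rfl⟩
    obtain ⟨c, hc⟩ := hcon _ (hi v)
    exact Submodule.mem_span_singleton.2 ⟨c, hc.symm⟩
  have h1 := Submodule.finrank_mono hle
  have h2 : finrank k (k ∙ u) ≤ 1 := by
    simpa using finrank_span_le_card (R := k) ({u} : Set V)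
  omega

theorem finrank_of_two {π : V →ₗ[k] V} (h : Two π) : 2 ≤ finrank k (LinearMap.range π) := by
  obtain ⟨u, hu, hu0⟩ := h 0 (map_zero π)
  obtain ⟨u', hu', hne⟩ := h u hu
  have hu0' : u ≠ 0 := by simpa using hu0 0
  by_contra hlt
  have hle : k ∙ u ≤ LinearMap.range π := (Submodule.span_singleton_le_iff_mem _ _).2 ⟨u, hu⟩
  have h1 : (k ∙ u) = LinearMap.range π := Submodule.eq_of_le_of_finrank_le hle (by
    rw [finrank_span_singleton hu0']; omega)
  have h2 : u' ∈ k ∙ u := h1 ▸ ⟨u', hu'⟩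
  obtain ⟨c, hc⟩ := Submodule.mem_span_singleton.1 h2
  exact hne c hc.symm

theorem exists_ker_vec {π : V →ₗ[k] V} (h : 3 ≤ finrank k (LinearMap.range π)) (hi : Idem π)
    (f : Dual k V) {w : V} (hw : w ≠ 0) :
    ∃ u, π u = u ∧ f u = 0 ∧ u ≠ 0 ∧ ∀ a : k, w ≠ a • u := by
  have h1 : ¬ LinearMap.ker f ⊓ LinearMap.range π ≤ k ∙ w := fun hle => by
    have h2 := Submodule.finrank_mono hle
    rw [finrank_span_singleton hw] at h2
    have h3 := Submodule.finrank_sup_add_finrank_inf_eq (LinearMap.ker f) (LinearMap.range π)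
    have h4 := Submodule.finrank_le (LinearMap.ker f ⊔ LinearMap.range π)
    have h5 := f.finrank_range_add_finrank_ker
    have h6 := Submodule.finrank_le (LinearMap.range f)
    rw [finrank_self] at h6
    omega
  obtain ⟨u, ⟨hfu, v, hv⟩, hne⟩ := SetLike.not_le_iff_exists.1 h1
  refine ⟨u, by rw [← hv, hi], hfu, fun h0 => hne (h0 ▸ zero_mem _), fun a ha => hne ?_⟩
  have ha0 : a ≠ 0 := fun h0 => hw (by rw [ha, h0, zero_smul])
  exact Submodule.mem_span_singleton.2 ⟨a⁻¹, by rw [ha, smul_smul, inv_mul_cancel₀ ha0, one_smul]⟩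

/-- Every nonzero pair lies in a split block. -/
theorem exists_split (hR : TVRel R) (h2k : (2 : k) ≠ 0) {a : V} {φ : Dual k V} (ha : R a φ)
    (ha0 : a ≠ 0) (hφ0 : φ ≠ 0) : ∃ π, IsBlock R π ∧ Split R π := by
  by_cases hsym : Sym R
  · -- symplectic type
    obtain ⟨b, ψ, hb, h, h'⟩ := hR.partner ha ha0 hφ0
    obtain ⟨hi₀, -, B₀, hB₀⟩ := plane hR ha hb h h'
    classical
    let S : ℕ → Prop := fun n =>
      ∃ π B, Idem π ∧ SpFull R π B ∧ finrank k (LinearMap.range π) = n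
    have hS : S (Nat.findGreatest S (finrank k V)) :=
      Nat.findGreatest_spec (Submodule.finrank_le _) ⟨_, B₀, hi₀, hB₀, rfl⟩
    obtain ⟨π, B, hi, hf, hn⟩ := hS
    have hmax : ∀ π' B', Idem π' → SpFull R π' B' →
        finrank k (LinearMap.range π') ≤ finrank k (LinearMap.range π) := fun π' B' h1 h2 =>
      hn ▸ Nat.le_findGreatest (Submodule.finrank_le _) ⟨π', B', h1, h2, rfl⟩
    have hπ : π ≠ 0 := by
      intro h0
      have h1 := hmax _ _ hi₀ hB₀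
      rw [h0, LinearMap.range_zero, finrank_bot] at h1
      have h2 : a ∈ LinearMap.range (planeProj a b φ ψ) :=
        ⟨a, planeProj_ne_zero (hR.incid ha) h'⟩
      rw [Submodule.finrank_eq_zero.1 (Nat.le_zero.1 h1)] at h2
      exact ha0 ((Submodule.mem_bot k).1 h2)
    obtain ⟨h1, h2⟩ := hf.split hR hsym h2k hi hmax
    exact ⟨π, ⟨hi, hf.two hi hπ, Or.inr ⟨B, hf, h2⟩⟩, h1⟩
  · -- linear type
    unfold Sym at hsym
    push Not at hsym
    obtain ⟨a, φ, b, ψ, ha, hb, ha0, hφ0, hb0, hψ0, hφb, hψa⟩ := hsym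
    have hbφ : R b φ := hR.exchange ha hb hφb hψa
    obtain ⟨a₂, φ₂, ha₂, h, h'⟩ := hR.partner ha ha0 hφ0
    obtain ⟨hi₀, hf₀, B₀, hB₀⟩ := plane hR ha ha₂ h h'
    have hπa := planeProj_ne_zero (b := a₂) (hR.incid ha) h'
    have hπ₀v : ∀ v, planeProj a a₂ φ φ₂ v = ((φ a₂)⁻¹ * φ v) • a₂ + ((φ₂ a)⁻¹ * φ₂ v) • a :=
      fun v => by simp [planeProj]
    generalize planeProj a a₂ φ φ₂ = π₀ at hi₀ hf₀ hB₀ hπa hπ₀v
    have hπ₀ : π₀ ≠ 0 := fun h0 => ha0 (by rw [← hπa, h0]; rfl)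
    have htwo := hB₀.two hi₀ hπ₀
    have hφπ : φ ∘ₗ π₀ = φ := LinearMap.ext fun v => by
      simp [hπ₀v, hR.incid ha]; field_simp
    have hπb : π₀ b = (φ₂ b / φ₂ a) • a := by
      simp [hπ₀v, hφb, div_eq_mul_inv, mul_comm]
    obtain ⟨b', hb'⟩ : ∃ b', b' = b - π₀ b := ⟨_, rfl⟩
    have hπb' : π₀ b' = 0 := hb' ▸ hi₀.apply_sub b
    have hb'φ : R b' φ := hb' ▸ hR.sub_center hbφ (hπb ▸ (hR.smul ha _).2)
    have hb'0 : b' ≠ 0 := fun h0 => by
      rw [hb', sub_eq_zero, hπb] at h0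
      have h1 := hR.incid hb
      rw [h0, map_smul, smul_eq_mul, mul_eq_zero] at h1
      rw [h1.resolve_right hψa, zero_smul] at h0
      exact hb0 h0
    obtain ⟨d, δ, hd, hφd, hδb⟩ := hR.partner hb'φ hb'0 hφ0
    have hd0 : φ (π₀ d) ≠ 0 := by rwa [← LinearMap.comp_apply, hφπ]
    obtain ⟨d', δ', hd', hdd, hδb', hne⟩ : ∃ d' δ', R d' δ' ∧ π₀ d' = π₀ d ∧ δ' b' ≠ 0 ∧
        (δ' a = 0 ∨ δ' (π₀ d') ≠ 0) := by
      by_cases h1 : δ (π₀ d) = 0
      · have h2 := hR.move hd hb'φ 1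
        refine ⟨_, _, h2, by rw [map_add, map_smul, hπb', smul_zero, add_zero], ?_, Or.inr ?_⟩
        · simp [hR.incid hb'φ, hδb]
        · rw [map_add, map_smul, hπb', smul_zero, add_zero]
          simp [h1, hδb, hd0]
      · exact ⟨d, δ, hd, rfl, hδb, Or.inr h1⟩
    obtain ⟨u, hu, hu0, hδu, hne'⟩ : ∃ u, π₀ u = u ∧ u ≠ 0 ∧ δ' u = 0 ∧
        ∀ e : k, π₀ d' ≠ e • u := by
      rcases hne with h1 | h1
      · exact ⟨a, hπa, ha0, h1, fun e he => hd0 (by
          rw [← hdd, he, map_smul, hR.incid ha, smul_zero])⟩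
      by_cases h2 : δ' a = 0
      · exact ⟨a, hπa, ha0, h2, fun e he => h1 (by rw [he, map_smul, h2, smul_zero])⟩
      refine ⟨π₀ d' - (δ' (π₀ d') / δ' a) • a, by rw [map_sub, map_smul, hi₀, hπa], fun h0 => ?_,
        ?_, fun e he => h1 ?_⟩
      · have h3 := congrArg φ h0
        rw [map_sub, map_smul, hR.incid ha, smul_zero, sub_zero, map_zero, hdd] at h3
        exact hd0 h3
      · rw [map_sub, map_smul, smul_eq_mul, div_mul_cancel₀ _ h2, sub_self]
      · rw [he, map_smul, map_sub, map_smul, smul_eq_mul, smul_eq_mul, div_mul_cancel₀ _ h2,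
          sub_self, mul_zero]
    have hr := hf₀.outer hR hi₀ hd' hu hδu hne'
    have hχπ : (δ' - δ' ∘ₗ π₀) ∘ₗ π₀ = 0 := by
      rw [LinearMap.sub_comp, hi₀.comp_comp, sub_self]
    have hχ0 : δ' - δ' ∘ₗ π₀ ≠ 0 := fun h0 => hδb' (by
      have h1 := LinearMap.congr_fun h0 b'
      rwa [LinearMap.sub_apply, LinearMap.comp_apply, hπb', map_zero, sub_zero] at h1)
    obtain ⟨π₁, hi₁, hf₁, hlt, -⟩ := hf₀.grow hR hi₀ htwo hu hu0 hχπ hχ0 hr
    have h2 := finrank_of_two htwo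
    classical
    let S : ℕ → Prop := fun n =>
      ∃ π, Idem π ∧ SLFull R π ∧ finrank k (LinearMap.range π) = n
    have hS : S (Nat.findGreatest S (finrank k V)) :=
      Nat.findGreatest_spec (Submodule.finrank_le _) ⟨_, hi₁, hf₁, rfl⟩
    obtain ⟨π, hi, hf, hn⟩ := hS
    have hmax : ∀ π', Idem π' → SLFull R π' →
        finrank k (LinearMap.range π') ≤ finrank k (LinearMap.range π) := fun π' h1 h3 =>
      hn ▸ Nat.le_findGreatest (Submodule.finrank_le _) ⟨π', h1, h3, rfl⟩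
    have h3 : 3 ≤ finrank k (LinearMap.range π) := by
      have := hmax _ hi₁ hf₁; omega
    have htwo' : Two π := two_of_finrank (by omega) hi
    refine ⟨π, ⟨hi, htwo', Or.inl hf⟩,
      hf.split hR hi (fun f w _ hw => exists_ker_vec h3 hi f hw) fun u χ hu hu0 hχ hr => ?_⟩
    by_contra hχ0
    obtain ⟨π', hi', hf', hlt', -⟩ := hf.grow hR hi htwo' hu hu0 hχ hχ0 hr
    exact absurd (hmax π' hi' hf') (not_le.2 hlt')

/-- The pairs outside a block. -/
def restrict (R : V → Dual k V → Prop) (π : V →ₗ[k] V) (a : V) (φ : Dual k V) : Prop :=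
  R a φ ∧ (a = 0 ∨ φ = 0 ∨ (π a = 0 ∧ φ ∘ₗ π = 0))

theorem restrict_rel (hR : TVRel R) {π : V →ₗ[k] V} (hs : Split R π) :
    TVRel (restrict R π) where
  zero_axis a := ⟨hR.zero_axis a, Or.inr (Or.inl rfl)⟩
  zero_center φ := ⟨hR.zero_center φ, Or.inl rfl⟩
  incid h := hR.incid h.1
  smul {a φ} h c := by
    refine ⟨⟨(hR.smul h.1 c).1, ?_⟩, (hR.smul h.1 c).2, ?_⟩ <;>
    · rcases h.2 with h | h | ⟨h, h'⟩
      · simp [h]
      · simp [h]
      · simp [h, LinearMap.smul_comp, h']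
  add_axis {a φ ψ} h h' := by
    refine ⟨hR.add_axis h.1 h'.1, ?_⟩
    rcases h.2 with h | h | ⟨h, k1⟩
    · exact Or.inl h
    · rw [h, zero_add]; exact h'.2
    rcases h'.2 with h' | h' | ⟨-, k2⟩
    · exact Or.inl h'
    · rw [h', add_zero]; exact Or.inr (Or.inr ⟨h, k1⟩)
    · exact Or.inr (Or.inr ⟨h, by rw [LinearMap.add_comp, k1, k2, add_zero]⟩)
  add_center {a b φ} h h' := by
    refine ⟨hR.add_center h.1 h'.1, ?_⟩
    rcases h.2 with h | h | ⟨h, k1⟩
    · rw [h, zero_add]; exact h'.2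
    · exact Or.inr (Or.inl h)
    rcases h'.2 with h' | h' | ⟨h', -⟩
    · rw [h', add_zero]; exact Or.inr (Or.inr ⟨h, k1⟩)
    · exact Or.inr (Or.inl h')
    · exact Or.inr (Or.inr ⟨by rw [map_add, h, h', add_zero], k1⟩)
  move {a b φ ψ} h h' s := by
    refine ⟨hR.move h.1 h'.1 s, ?_⟩
    rcases h.2 with h | h | ⟨h, k1⟩
    · simp [h]
    · simp [h]
    rcases h'.2 with h' | h' | ⟨h', k2⟩
    · simp [h', h, k1]
    · simp [h', h, k1]
    · refine Or.inr (Or.inr ⟨by simp [h, h'], ?_⟩)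
      rw [LinearMap.sub_comp, LinearMap.smul_comp, k1, k2, smul_zero, sub_zero]
  partner {a φ} h ha hφ := by
    obtain ⟨b, ψ, hb, h1, h2⟩ := hR.partner h.1 ha hφ
    refine ⟨b, ψ, ⟨hb, ?_⟩, h1, h2⟩
    rcases h.2 with h' | h' | ⟨h', k1⟩
    · exact absurd h' ha
    · exact absurd h' hφ
    rcases hs b ψ hb (fun h0 => h1 (by rw [h0, map_zero])) (fun h0 => h2 (by rw [h0]; rfl)) with
      ⟨k2, -⟩ | k2
    · exact absurd (by rw [← k2, ← LinearMap.comp_apply, k1]; rfl) h1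
    · exact Or.inr (Or.inr k2)
  radical {a b φ ψ} h h' hcl := by
    -- a degenerate pair forces the other one to be degenerate
    have key : ∀ {x : V} {f : Dual k V}, restrict R π x f → x ≠ 0 → f ≠ 0 →
        ∃ d δ, restrict R π d δ ∧ d ≠ 0 ∧ δ ≠ 0 ∧ f d ≠ 0 ∧ δ x ≠ 0 := fun {x f} hx hx0 hf0 => by
      obtain ⟨d, δ, hd, k1, k2⟩ := hR.partner hx.1 hx0 hf0
      rcases hx.2 with h0 | h0 | ⟨h0, h0'⟩
      · exact absurd h0 hx0
      · exact absurd h0 hf0
      have hd0 : d ≠ 0 := fun e => k1 (by rw [e, map_zero])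
      have hδ0 : δ ≠ 0 := fun e => k2 (by rw [e]; rfl)
      refine ⟨d, δ, ⟨hd, ?_⟩, hd0, hδ0, k1, k2⟩
      rcases hs d δ hd hd0 hδ0 with ⟨e1, -⟩ | e
      · exact absurd (by rw [← e1, ← LinearMap.comp_apply, h0']; rfl) k1
      · exact Or.inr (Or.inr e)
    by_cases hna : a = 0 ∨ φ = 0
    · by_cases hnb : b = 0 ∨ ψ = 0
      · intro v; rcases hna with e | e <;> rcases hnb with e' | e' <;> simp [e, e']
      · push Not at hnb
        obtain ⟨d, δ, hd, hd0, hδ0, k1, k2⟩ := key h' hnb.1 hnb.2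
        obtain ⟨q1, q2⟩ := hcl d δ hd hd0 hδ0
        rcases hna with e | e
        · rw [e, zero_sub, map_neg, neg_eq_zero] at q1; exact absurd q1 k2
        · rw [e, zero_sub, LinearMap.neg_apply, neg_eq_zero] at q2; exact absurd q2 k1
    · push Not at hna
      by_cases hnb : b = 0 ∨ ψ = 0
      · obtain ⟨d, δ, hd, hd0, hδ0, k1, k2⟩ := key h hna.1 hna.2
        obtain ⟨q1, q2⟩ := hcl d δ hd hd0 hδ0
        rcases hnb with e | e
        · rw [e, sub_zero] at q1; exact absurd q1 k2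
        · rw [e, sub_zero] at q2; exact absurd q2 k1
      · push Not at hnb
        have ea := (h.2.resolve_left hna.1).resolve_left hna.2
        have eb := (h'.2.resolve_left hnb.1).resolve_left hnb.2
        refine hR.radical h.1 h'.1 fun d δ hd hd0 hδ0 => ?_
        rcases hs d δ hd hd0 hδ0 with ⟨e1, e2⟩ | e
        · refine ⟨?_, ?_⟩
          · rw [← e2, LinearMap.comp_apply, map_sub, ea.1, eb.1, sub_zero, map_zero]
          · rw [← e1, ← LinearMap.comp_apply, LinearMap.sub_comp, ea.2, eb.2, sub_zero]; rfl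
        · exact hcl d δ ⟨hd, Or.inr (Or.inr e)⟩ hd0 hδ0

/-- Every nonzero vector of a block is a centre. -/
theorem IsBlock.exists_pair {π : V →ₗ[k] V} (hb : IsBlock R π) {u : V} (hu : π u = u)
    (hu0 : u ≠ 0) : ∃ φ, R u φ ∧ φ ≠ 0 ∧ φ ∘ₗ π = φ := by
  obtain ⟨hi, htwo, hf | ⟨B, hf, -⟩⟩ := hb
  · obtain ⟨u', hu', hne⟩ := htwo u hu
    obtain ⟨φ, h1, h2, h3⟩ := hi.exists_sep hu' hu hne
    exact ⟨φ, hf u φ hu h1 h3, fun h => h2 (by rw [h]; rfl), h1⟩
  · exact ⟨B u, hf.full u hu, fun h => hu0 (hf.nondeg u hu h), hf.axis u⟩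

/-- A vector killed by the axes of a block is killed by its projection. -/
theorem IsBlock.proj_eq_zero {π : V →ₗ[k] V} (hb : IsBlock R π) {v : V}
    (h : ∀ u φ, R u φ → u ≠ 0 → φ ≠ 0 → π u = u → φ ∘ₗ π = φ → φ v = 0) : π v = 0 := by
  obtain ⟨hi, htwo, hf | ⟨B, hf, -⟩⟩ := hb
  · by_contra hv
    obtain ⟨u, hu, hne⟩ := htwo (π v) (hi v)
    obtain ⟨φ, h1, h2, h3⟩ := hi.exists_sep (hi v) hu fun c hc => by
      rcases eq_or_ne c 0 with rfl | hc0
      · exact hv (by rw [hc, zero_smul])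
      · exact hne c⁻¹ (by rw [hc, smul_smul, inv_mul_cancel₀ hc0, one_smul])
    have hu0 : u ≠ 0 := fun h0 => hne 0 (by rw [h0, zero_smul])
    refine h2 ?_
    rw [← LinearMap.comp_apply, h1]
    exact h u φ (hf u φ hu h1 h3) hu0 (fun e => h2 (by rw [e]; rfl)) hu h1
  · refine hf.nondeg _ (hi v) (LinearMap.ext fun x => ?_)
    rw [LinearMap.zero_apply, hf.skew, hf.apply_proj, neg_eq_zero]
    rcases eq_or_ne (π x) 0 with h0 | h0
    · rw [← hf.proj_apply, h0, map_zero]; rfl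
    · rw [← hf.proj_apply]
      exact h _ _ (hf.full _ (hi x)) h0 (fun e => h0 (hf.nondeg _ (hi x) e)) (hi x) (hf.axis _)

/-- The decomposition. -/
theorem decomp (h2k : (2 : k) ≠ 0) : ∀ (N : ℕ) (R : V → Dual k V → Prop) (M : Submodule k V),
    TVRel R → finrank k M ≤ N → (∀ a φ, R a φ → a ≠ 0 → φ ≠ 0 → a ∈ M) →
    ∃ (n : ℕ) (π : Fin n → V →ₗ[k] V), (∀ j, IsBlock R (π j)) ∧
      (∀ i j, i ≠ j → ∀ v, π i (π j v) = 0) ∧
      ∀ a φ, R a φ → a ≠ 0 → φ ≠ 0 → ∃ j, π j a = a ∧ φ ∘ₗ π j = φ := by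
  intro N
  induction N with
  | zero =>
    intro R M _ hM hall
    refine ⟨0, Fin.elim0, fun j => j.elim0, fun i => i.elim0, fun a φ h ha hφ => ?_⟩
    have := hall a φ h ha hφ
    rw [Submodule.finrank_eq_zero.1 (Nat.le_zero.1 hM), Submodule.mem_bot] at this
    exact absurd this ha
  | succ N ih =>
    intro R M hR hM hall
    by_cases hex : ∃ a φ, R a φ ∧ a ≠ 0 ∧ φ ≠ 0
    swap
    · exact ⟨0, Fin.elim0, fun j => j.elim0, fun i => i.elim0,
        fun a φ h ha hφ => absurd ⟨a, φ, h, ha, hφ⟩ hex⟩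
    obtain ⟨a, φ, ha, ha0, hφ0⟩ := hex
    obtain ⟨π₀, hb₀, hs⟩ := exists_split hR h2k ha ha0 hφ0
    have htwo₀ := hb₀.2.1
    obtain ⟨u, hu, hu0'⟩ := htwo₀ 0 (map_zero π₀)
    have hu0 : u ≠ 0 := by simpa using hu0' 0
    obtain ⟨φu, hru, hφu, -⟩ := hb₀.exists_pair hu hu0
    have hlt : finrank k (M ⊓ LinearMap.ker π₀ : Submodule k V) < finrank k M :=
      Submodule.finrank_lt_finrank_of_lt (lt_of_le_of_ne inf_le_left fun h => hu0 (by
        have h1 : u ∈ M ⊓ LinearMap.ker π₀ := h.symm ▸ hall u φu hru hu0 hφu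
        rw [← hu]; exact h1.2))
    obtain ⟨n, π, hb, horth, hcov⟩ := ih (restrict R π₀) (M ⊓ LinearMap.ker π₀)
      (restrict_rel hR hs) (by omega) fun x f hx hx0 hf0 =>
        ⟨hall x f hx.1 hx0 hf0, ((hx.2.resolve_left hx0).resolve_left hf0).1⟩
    have hout : ∀ x f, restrict R π₀ x f → x ≠ 0 → f ≠ 0 → π₀ x = 0 ∧ f ∘ₗ π₀ = 0 :=
      fun x f hx hx0 hf0 => (hx.2.resolve_left hx0).resolve_left hf0
    have h0j : ∀ j v, π₀ (π j v) = 0 := fun j v => by
      rcases eq_or_ne (π j v) 0 with h | h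
      · rw [h, map_zero]
      · obtain ⟨f, hf, hf0, -⟩ := (hb j).exists_pair ((hb j).1 v) h
        exact (hout _ f hf h hf0).1
    have hj0 : ∀ j v, π j (π₀ v) = 0 := fun j v =>
      (hb j).proj_eq_zero fun x f hx hx0 hf0 _ _ =>
        LinearMap.congr_fun (hout x f hx hx0 hf0).2 v
    refine ⟨n + 1, Fin.cons π₀ π, fun j => ?_, ?_, fun x f hx hx0 hf0 => ?_⟩
    · induction j using Fin.cases with
      | zero => simpa using hb₀
      | succ j =>
      rw [Fin.cons_succ]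
      obtain ⟨hij, htj, hf | ⟨B, hf, hin⟩⟩ := hb j
      · exact ⟨hij, htj, Or.inl fun x f h1 h2 h3 => (hf x f h1 h2 h3).1⟩
      refine ⟨hij, htj, Or.inr ⟨B, ⟨hf.alt, hf.axis, hf.nondeg, fun x hx => (hf.full x hx).1⟩,
        fun x f hx hx0 hf0 h1 h2 => hin x f ⟨hx, ?_⟩ hx0 hf0 h1 h2⟩⟩
      rcases hs x f hx hx0 hf0 with ⟨e, -⟩ | e
      · exact absurd (by rw [← e, ← h1, h0j]) hx0
      · exact Or.inr (Or.inr e)
    · intro i j hij v
      induction i using Fin.cases <;> induction j using Fin.cases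
      · exact absurd rfl hij
      · simpa using h0j _ v
      · simpa using hj0 _ v
      · simpa using horth _ _ (fun h => hij (by rw [h])) v
    · rcases hs x f hx hx0 hf0 with h | h
      · exact ⟨0, by simpa using h⟩
      · obtain ⟨j, hj⟩ := hcov x f ⟨hx, Or.inr (Or.inr h)⟩ hx0 hf0
        exact ⟨j.succ, by simpa using hj⟩

end Cfsg.Agent.Fus.TV2
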