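import Cfsg.Agent.Lib.Fus.TransvectionRel

/-!
Transvection relations: planes, and the full blocks of symplectic type.
-/

set_option autoImplicit false
set_option linter.unusedSectionVars false

namespace Cfsg.Agent.Fus.TV2

open Module

variable {k : Type*} [Field k] {V : Type*} [AddCommGroup V] [Module k V] [FiniteDimensional k V]
variable {R : V → Dual k V → Prop}

/-- A full block of symplectic type. -/
structure SpFull (R : V → Dual k V → Prop) (π : V →ₗ[k] V) (B : V →ₗ[k] Dual k V) : Prop where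
  alt : ∀ v, B v v = 0
  axis : ∀ v, B v ∘ₗ π = B v
  nondeg : ∀ u, π u = u → B u = 0 → u = 0
  full : ∀ u, π u = u → R u (B u)

/-- The pairs inside a symplectic block are given by the form. -/
def SpIn (R : V → Dual k V → Prop) (π : V →ₗ[k] V) (B : V →ₗ[k] Dual k V) : Prop :=
  ∀ a φ, R a φ → a ≠ 0 → φ ≠ 0 → π a = a → φ ∘ₗ π = φ → ∃ μ : k, φ = μ • B a

/-- No asymmetric pairs. -/
def Sym (R : V → Dual k V → Prop) : Prop :=
  ∀ a φ b ψ, R a φ → R b ψ → a ≠ 0 → φ ≠ 0 → b ≠ 0 → ψ ≠ 0 → φ b = 0 → ψ a = 0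

/-- Every block has two independent vectors over each of its vectors. -/
def Two (π : V →ₗ[k] V) : Prop := ∀ u, π u = u → ∃ u', π u' = u' ∧ ∀ c : k, u' ≠ c • u

theorem SpFull.skew {π : V →ₗ[k] V} {B : V →ₗ[k] Dual k V} (hf : SpFull R π B) (x y : V) :
    B x y = -B y x := by
  have h := hf.alt (x + y)
  simp only [map_add, LinearMap.add_apply, hf.alt, zero_add, add_zero] at h
  linear_combination h

theorem SpFull.apply_proj {π : V →ₗ[k] V} {B : V →ₗ[k] Dual k V} (hf : SpFull R π B) (x y : V) :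
    B x (π y) = B x y := LinearMap.congr_fun (hf.axis x) y

theorem SpFull.proj_apply {π : V →ₗ[k] V} {B : V →ₗ[k] Dual k V} (hf : SpFull R π B) (x y : V) :
    B (π x) y = B x y := by rw [hf.skew, hf.apply_proj, ← hf.skew]

theorem SpFull.two {π : V →ₗ[k] V} {B : V →ₗ[k] Dual k V} (hi : Idem π) (hf : SpFull R π B)
    (hπ : π ≠ 0) : Two π := by
  intro u hu
  rcases eq_or_ne u 0 with rfl | hu0
  · obtain ⟨v, hv⟩ := DFunLike.ne_iff.1 hπ
    exact ⟨π v, hi v, fun c h => hv (by rw [h, smul_zero]; rfl)⟩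
  obtain ⟨v, hv⟩ := DFunLike.ne_iff.1 (fun h => hu0 (hf.nondeg u hu h) : B u ≠ 0)
  refine ⟨π v, hi v, fun c h => hv ?_⟩
  rw [← hf.apply_proj, h, map_smul, hf.alt, smul_zero]
  rfl

/-- The projection onto the plane of two mutually moving pairs. -/
noncomputable def planeProj (a b : V) (φ ψ : Dual k V) : V →ₗ[k] V :=
  ((φ b)⁻¹ • φ).smulRight b + ((ψ a)⁻¹ • ψ).smulRight a

/-- A pair and its partner span a full plane, of linear and of symplectic type. -/
theorem plane (hR : TVRel R) {a b : V} {φ ψ : Dual k V} (ha : R a φ) (hb : R b ψ) (h : φ b ≠ 0)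
    (h' : ψ a ≠ 0) :
    Idem (planeProj a b φ ψ) ∧ SLFull R (planeProj a b φ ψ) ∧
      ∃ B, SpFull R (planeProj a b φ ψ) B := by
  have hφa := hR.incid ha
  have hψb := hR.incid hb
  generalize hπ : planeProj a b φ ψ = π
  have hπv : ∀ v, π v = ((φ b)⁻¹ * φ v) • b + ((ψ a)⁻¹ * ψ v) • a := fun v => by
    simp [← hπ, planeProj]
  have hφπ : ∀ v, φ (π v) = φ v := fun v => by
    rw [hπv]; simp [hφa]; field_simp
  have hψπ : ∀ v, ψ (π v) = ψ v := fun v => by
    rw [hπv]; simp [hψb]; field_simp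
  have hi : Idem π := fun v => by rw [hπv (π v), hφπ, hψπ, ← hπv]
  obtain ⟨B, hB⟩ : ∃ B : V →ₗ[k] Dual k V, B = φ.smulRight ψ - ψ.smulRight φ := ⟨_, rfl⟩
  have hBv : ∀ u v, B u v = φ u * ψ v - ψ u * φ v := fun u v => by simp [hB]
  have hnd : ∀ u, π u = u → B u = 0 → u = 0 := fun u hu hBu => by
    have e1 := LinearMap.congr_fun hBu a
    have e2 := LinearMap.congr_fun hBu b
    rw [hBv, LinearMap.zero_apply, hφa, mul_zero, sub_zero, mul_eq_zero] at e1
    rw [hBv, LinearMap.zero_apply, hψb, mul_zero, zero_sub, neg_eq_zero, mul_eq_zero] at e2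
    rw [← hu, hπv, e1.resolve_right h', e2.resolve_right h]
    simp
  have hfull : ∀ u, π u = u → R u (B u) := by
    intro u hu
    rw [hπv] at hu
    rcases eq_or_ne (φ u) 0 with hφu | hφu
    · have e : B u = (-ψ u) • φ := LinearMap.ext fun v => by simp [hBv, hφu]
      rw [e]
      rw [hφu, mul_zero, zero_smul, zero_add] at hu
      conv => enter [1]; rw [← hu]
      exact (hR.smul (hR.smul ha _).1 _).2
    have h1 := hR.move hb ha (ψ u * (φ u)⁻¹ * (ψ a)⁻¹)
    have h2 := (hR.smul (hR.smul h1 (φ u)).1 ((φ b)⁻¹ * φ u)).2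
    have e1 : ((φ b)⁻¹ * φ u) • (b + (ψ u * (φ u)⁻¹ * (ψ a)⁻¹ * φ b) • a) = u := by
      conv_rhs => rw [← hu]
      rw [smul_add, smul_smul]
      congr 1
      congr 1
      field_simp
    have e2 : φ u • (ψ - (ψ u * (φ u)⁻¹ * (ψ a)⁻¹ * ψ a) • φ) = B u :=
      LinearMap.ext fun v => by
        simp [hBv]
        field_simp
    rwa [e1, e2] at h2
  refine ⟨hi, fun u f hu hf hfu => ?_, B, ⟨fun v => by rw [hBv]; ring,
    fun v => LinearMap.ext fun w => by rw [LinearMap.comp_apply, hBv, hBv, hφπ, hψπ],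
    hnd, hfull⟩⟩
  rcases eq_or_ne u 0 with rfl | hu0
  · exact hR.zero_center f
  obtain ⟨c, rfl⟩ := exists_smul_of_ker (f := B u) (g := f) fun v hv => by
    rw [hBv, sub_eq_zero] at hv
    rw [← hf, LinearMap.comp_apply]
    rcases eq_or_ne (φ u) 0 with hφu | hφu
    · have hψu : ψ u ≠ 0 := fun hψu => hu0 (by rw [← hu, hπv, hφu, hψu]; simp)
      have hφv : φ v = 0 := (mul_eq_zero.1 (by rw [← hv, hφu, zero_mul])).resolve_left hψu
      have : π v = (ψ v / ψ u) • π u := by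
        rw [hπv, hπv, hφu, hφv, smul_add, smul_smul, smul_smul]
        congr 1
        · simp
        · congr 1; field_simp
      rw [this, hu, map_smul, hfu, smul_zero]
    · have : π v = (φ v / φ u) • π u := by
        rw [hπv, hπv, smul_add, smul_smul, smul_smul]
        congr 1
        · congr 1; field_simp
        · congr 1; field_simp; linear_combination hv
      rw [this, hu, map_smul, hfu, smul_zero]
  exact (hR.smul (hfull u hu) c).1

theorem planeProj_ne_zero {a b : V} {φ ψ : Dual k V} (hφa : φ a = 0) (h' : ψ a ≠ 0) :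
    planeProj a b φ ψ a = a := by
  simp [planeProj, hφa, inv_mul_cancel₀ h']

/-- No pair is mixed with respect to a maximal symplectic block. -/
theorem SpFull.mixed_false (hR : TVRel R) (hsym : Sym R) (h2k : (2 : k) ≠ 0) {π : V →ₗ[k] V}
    {B : V →ₗ[k] Dual k V} (hi : Idem π) (hf : SpFull R π B)
    (hmax : ∀ π' B', Idem π' → SpFull R π' B' →
      finrank k (LinearMap.range π') ≤ finrank k (LinearMap.range π))
    {c : V} {χ : Dual k V} (hr : R c χ) (hω : χ ∘ₗ π = B (π c)) (hc : π c ≠ 0)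
    (hc' : c - π c ≠ 0) (hχ' : χ - B (π c) ≠ 0) : False := by
  have hne : ∀ w, π w = w → w ≠ 0 → B w ≠ 0 := fun w hw h0 h => h0 (hf.nondeg w hw h)
  generalize hc1 : c - π c = c₁ at hc'
  generalize hχ1 : χ - B (π c) = χ₁ at hχ'
  have hπc₁ : π c₁ = 0 := hc1 ▸ hi.apply_sub c
  have hχ₁π : χ₁ ∘ₗ π = 0 := by rw [← hχ1, LinearMap.sub_comp, hω, hf.axis, sub_self]
  have hχU : ∀ w, π w = w → χ₁ w = 0 := fun w hw => by
    rw [← hw]; exact LinearMap.congr_fun hχ₁π w
  have hBc₁ : ∀ w, B w c₁ = 0 := fun w => by rw [← hf.apply_proj, hπc₁, map_zero]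
  -- all moves of the inner part
  have hP0 : R (c₁ + π c) (χ₁ + B (π c)) := by
    rw [← hc1, ← hχ1, sub_add_cancel, sub_add_cancel]; exact hr
  have hstep : ∀ w w', π w = w → π w' = w' → B w w' ≠ 0 →
      R (c₁ + w) (χ₁ + B w) → R (c₁ + w') (χ₁ + B w') := by
    intro w w' hw hw' hne' h
    have hd : π (w' - w) = w' - w := by rw [map_sub, hw, hw']
    have h1 := hR.move h (hf.full _ hd) (B (w' - w) (c₁ + w))⁻¹
    have e0 : B (w' - w) (c₁ + w) = -B w w' := by
      rw [map_add, hBc₁, zero_add, map_sub, LinearMap.sub_apply, hf.alt, sub_zero, hf.skew]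
    have e1 : (χ₁ + B w) (w' - w) = B w w' := by
      rw [LinearMap.add_apply, hχU _ hd, zero_add, map_sub, hf.alt, sub_zero]
    rw [e1, e0, inv_mul_cancel₀ (neg_ne_zero.2 hne'), one_smul, inv_neg, neg_mul,
      inv_mul_cancel₀ hne', map_sub] at h1
    convert h1 using 1
    · abel
    · refine LinearMap.ext fun v => ?_
      simp
      ring
  have hP : ∀ w, π w = w → w ≠ 0 → R (c₁ + w) (χ₁ + B w) := by
    intro w hw hw0
    by_cases h : B (π c) w = 0
    swap
    · exact hstep _ _ (hi c) hw h hP0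
    obtain ⟨z₁, hz₁⟩ := DFunLike.ne_iff.1 (hne _ (hi c) hc)
    obtain ⟨z₂, hz₂⟩ := DFunLike.ne_iff.1 (hne _ hw hw0)
    obtain ⟨z, hz, hz'⟩ : ∃ z, B (π c) z ≠ 0 ∧ B w z ≠ 0 := by
      by_cases q₁ : B w z₁ = 0
      · by_cases q₂ : B (π c) z₂ = 0
        · exact ⟨z₁ + z₂, by rw [map_add, q₂, add_zero]; exact hz₁,
            by rw [map_add, q₁, zero_add]; exact hz₂⟩
        · exact ⟨z₂, q₂, hz₂⟩
      · exact ⟨z₁, hz₁, q₁⟩
    refine hstep _ _ (hi z) hw ?_
      (hstep _ _ (hi c) (hi z) (by rw [hf.apply_proj]; exact hz) hP0)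
    rw [hf.skew, hf.apply_proj]
    exact neg_ne_zero.2 hz'
  have hPne : ∀ w, π w = w → w ≠ 0 → c₁ + w ≠ 0 ∧ χ₁ + B w ≠ 0 := fun w hw hw0 => by
    refine ⟨fun h => hw0 ?_, fun h => hne w hw hw0 ?_⟩
    · have := congrArg π h
      rwa [map_add, hπc₁, zero_add, map_zero, hw] at this
    · have := congrArg (fun f : Dual k V => f ∘ₗ π) h
      simpa [LinearMap.add_comp, hχ₁π, hf.axis] using this
  -- the inner part of an axis
  have hin : ∀ d δ, R d δ → d ≠ 0 → δ ≠ 0 → ∃ ν : k, δ ∘ₗ π = ν • B (π d) := fun d δ hd hd0 hδ0 =>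
    exists_smul_of_ker fun v hv => by
      rw [LinearMap.comp_apply]
      rcases eq_or_ne (π v) 0 with h | h
      · rw [h, map_zero]
      refine hsym _ _ _ _ (hf.full _ (hi v)) hd h (hne _ (hi v) h) hd0 hδ0 ?_
      rw [hf.proj_apply, hf.skew, ← hf.proj_apply, hv, neg_zero]
  have hχc₁ : χ₁ c₁ = 0 := by
    have h := hR.incid hP0
    simpa [hBc₁, hχU _ (hi c), hf.alt] using h
  -- a pair outside the block moving `c₁`
  obtain ⟨e, η₀, he, he0, hπe, hηπ₀, hηc₀⟩ :
      ∃ e η, R e η ∧ e ≠ 0 ∧ π e = 0 ∧ η ∘ₗ π = 0 ∧ η c₁ ≠ 0 := by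
    by_contra hcon
    push Not at hcon
    have hall : ∀ d δ, R d δ → d ≠ 0 → δ ≠ 0 → δ c₁ = 0 ∧ χ₁ d = 0 := by
      intro d δ hd hd0 hδ0
      obtain ⟨ν, hν⟩ := hin d δ hd hd0 hδ0
      have hδU : ∀ w, π w = w → δ w = ν * B (π d) w := fun w hw => by
        rw [← smul_eq_mul, ← LinearMap.smul_apply, ← hν, LinearMap.comp_apply, hw]
      have key : ∀ w, π w = w → w ≠ 0 → B (π d) w = 0 → δ c₁ = 0 → χ₁ d = 0 := fun w hw hw0 hB hδ => by
        have h := hsym _ _ _ _ hd (hP w hw hw0) hd0 hδ0 (hPne w hw hw0).1 (hPne w hw hw0).2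
          (by rw [map_add, hδ, hδU w hw, hB, mul_zero, add_zero])
        rwa [LinearMap.add_apply, hf.skew, ← hf.proj_apply, hB, neg_zero, add_zero] at h
      rcases eq_or_ne (π d) 0 with hd' | hd'
      · have h := hcon d δ hd hd0 hd' (by rw [hν, hd', map_zero, smul_zero])
        exact ⟨h, key _ (hi c) hc (by rw [hd', map_zero, LinearMap.zero_apply]) h⟩
      by_cases hC : δ c₁ = 0
      · exact ⟨hC, key _ (hi d) hd' (hf.alt _) hC⟩
      exfalso
      obtain ⟨hw₁, hw₂⟩ := hPne _ (hi d) hd'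
      have eA : (χ₁ + B (π d)) d = χ₁ d := by
        rw [LinearMap.add_apply, ← hf.apply_proj, hf.alt, add_zero]
      have eC : δ (c₁ + π d) = δ c₁ := by
        rw [map_add, hδU _ (hi d), hf.alt, mul_zero, add_zero]
      have hA : χ₁ d ≠ 0 := fun hA => hC (by
        rw [← eC]
        exact hsym _ _ _ _ (hP _ (hi d) hd') hd hw₁ hw₂ hd0 hδ0 (eA.trans hA))
      have h1 := hR.move hd (hP _ (hi d) hd') (-(χ₁ d)⁻¹)
      rw [eA, eC, neg_mul, inv_mul_cancel₀ hA] at h1
      generalize he : d + (-1 : k) • (c₁ + π d) = e at h1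
      generalize hη : δ - (-(χ₁ d)⁻¹ * δ c₁) • (χ₁ + B (π d)) = η at h1
      have hηc : η c₁ = δ c₁ := by rw [← hη]; simp [hχc₁, hBc₁]
      have hπe : π e = 0 := by rw [← he]; simp [hπc₁, hi d]
      have he0 : e ≠ 0 := fun h => by
        have := congrArg χ₁ h
        rw [← he] at this
        simp [hχc₁, hχU _ (hi d)] at this
        exact hA this
      obtain ⟨ν', hν'⟩ := hin e η h1 he0 (fun h => hC (by rw [← hηc, h]; rfl))
      exact hC (hηc ▸ hcon e η h1 he0 hπe (by rw [hν', hπe, map_zero, smul_zero]))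
    obtain ⟨w, hw, hw0⟩ : ∃ w, π w = w ∧ w ≠ 0 := ⟨π c, hi c, hc⟩
    obtain ⟨v, hv⟩ := DFunLike.ne_iff.1 (hne w hw hw0)
    have h := hR.radical (hP w hw hw0) (hf.full w hw)
      (fun d δ hd hd0 hδ0 => by simpa using hall d δ hd hd0 hδ0) (π v)
    rw [LinearMap.add_apply, hχU _ (hi v), zero_add, hf.apply_proj, smul_add, add_eq_right,
      smul_eq_zero] at h
    exact hc' (h.resolve_left hv)
  -- normalisation
  obtain ⟨v₀, hv₀⟩ := DFunLike.ne_iff.1 (hne _ (hi c) hc)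
  have hχe : χ₁ e ≠ 0 := fun h => hηc₀ (by
    have h1 := hsym _ _ _ _ (hP _ (hi c) hc) he (hPne _ (hi c) hc).1 (hPne _ (hi c) hc).2 he0
      (fun h0 => hηc₀ (by rw [h0]; rfl))
      (by rw [LinearMap.add_apply, h, ← hf.apply_proj, hπe, map_zero, add_zero])
    rwa [map_add, ← hi c, ← LinearMap.comp_apply η₀, hηπ₀, LinearMap.zero_apply, add_zero] at h1)
  obtain ⟨m, hm⟩ : ∃ m, m = -χ₁ e := ⟨_, rfl⟩
  have hm0 : m ≠ 0 := by rw [hm]; exact neg_ne_zero.2 hχe
  obtain ⟨η, hη⟩ : ∃ η, η = (m / η₀ c₁) • η₀ := ⟨_, rfl⟩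
  have heη : R e η := hη ▸ (hR.smul he _).1
  have hηπ : η ∘ₗ π = 0 := by rw [hη, LinearMap.smul_comp, hηπ₀, smul_zero]
  have hηc : η c₁ = m := by rw [hη, LinearMap.smul_apply, smul_eq_mul, div_mul_cancel₀ _ hηc₀]
  have hηe : η e = 0 := hR.incid heη
  have hηU : ∀ w, π w = w → η w = 0 := fun w hw => by
    rw [← hw]; exact LinearMap.congr_fun hηπ w
  have hBe : ∀ w, B w e = 0 := fun w => by rw [← hf.apply_proj, hπe, map_zero]
  have hmove : ∀ {x : V} {f : Dual k V}, R x f → ∀ t : k, η x = -f e → η x ≠ 0 →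
      R (x + t • e) (f + t • η) := fun {x f} h t h' h0 => by
    have h1 := hR.move h heη (t / η x)
    rwa [div_mul_cancel₀ _ h0, show f e = -η x by rw [h', neg_neg], mul_neg,
      div_mul_cancel₀ _ h0, show f - (-t) • η = f + t • η from
        LinearMap.ext fun v => by simp [sub_eq_add_neg]] at h1
  have hPt : ∀ w, π w = w → w ≠ 0 → ∀ t : k, R (c₁ + w + t • e) (χ₁ + B w + t • η) :=
    fun w hw hw0 t => by
    have e1 : η (c₁ + w) = m := by rw [map_add, hηc, hηU w hw, add_zero]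
    refine hmove (hP w hw hw0) t ?_ (by rw [e1]; exact hm0)
    rw [e1, LinearMap.add_apply, hBe, add_zero, hm]
  -- the inner parts cancel
  have hc₁R : R c₁ χ₁ := by
    have hw' : π (-π c) = -π c := by rw [map_neg, hi]
    have h1 := hR.move (hPt _ (hi c) hc 1) (hP _ hw' (neg_ne_zero.2 hc)) (-m)⁻¹
    have eA : (χ₁ + B (-π c)) (c₁ + π c + (1 : k) • e) = -m := by
      simp [hχc₁, hχU _ (hi c), hBe, hBc₁, hm, hf.alt]
    have eC : (χ₁ + B (π c) + (1 : k) • η) (c₁ + -π c) = m := by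
      simp [hχc₁, hχU _ (hi c), hηc, hηU _ (hi c), hBc₁, hf.alt]
    rw [eA, eC, inv_mul_cancel₀ (neg_ne_zero.2 hm0), inv_neg, neg_mul, inv_mul_cancel₀ hm0] at h1
    have h2 : R ((2 : k) • c₁ + (1 : k) • e) ((2 : k) • χ₁ + (1 : k) • η) := by
      convert h1 using 1
      · module
      · refine LinearMap.ext fun v => ?_
        simp
        ring
    have h3 := hmove h2 (-1) (by simp [hηe, hηc, hm]) (by simp [hηe, hηc, hm0, h2k])
    have h4 := hR.scale h3 (2⁻¹ : k)
    convert h4 using 1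
    · rw [smul_add, smul_add, smul_smul, smul_smul, smul_smul, inv_mul_cancel₀ h2k]
      module
    · refine LinearMap.ext fun v => ?_
      simp
      field_simp
  have hZ : ∀ t : k, R (c₁ + t • e) (χ₁ + t • η) := fun t =>
    hmove hc₁R t (by rw [hηc, hm]) (by rw [hηc]; exact hm0)
  have hUe : ∀ w, π w = w → ∀ t : k, R (w + t • e) (B w + t • η) := fun w hw t => by
    rcases eq_or_ne w 0 with rfl | hw0
    · rw [map_zero, zero_add, zero_add]
      exact hR.scale heη t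
    rcases eq_or_ne t 0 with rfl | ht
    · rw [zero_smul, zero_smul, add_zero, add_zero]
      exact hf.full w hw
    have h1 := hR.move (hP w hw hw0) (hZ (-t)) (t * m)⁻¹
    have eA : (χ₁ + (-t) • η) (c₁ + w) = -(t * m) := by
      simp [hχc₁, hχU w hw, hηc, hηU w hw]
    have eC : (χ₁ + B w) (c₁ + (-t) • e) = t * m := by
      simp [hχc₁, hBc₁, hBe, hm]
    rw [eA, eC, mul_neg, inv_mul_cancel₀ (mul_ne_zero ht hm0)] at h1
    convert h1 using 1
    · module
    · refine LinearMap.ext fun v => ?_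
      simp
  -- the enlarged block
  obtain ⟨Q, hQ⟩ : ∃ Q : V →ₗ[k] V,
      Q = (m⁻¹ • η).smulRight c₁ - (m⁻¹ • χ₁).smulRight e := ⟨_, rfl⟩
  obtain ⟨B', hB'⟩ : ∃ B' : V →ₗ[k] Dual k V,
      B' = B + ((m⁻¹ • η).smulRight χ₁ - (m⁻¹ • χ₁).smulRight η) := ⟨_, rfl⟩
  have hQv : ∀ v, Q v = (m⁻¹ * η v) • c₁ - (m⁻¹ * χ₁ v) • e := fun v => by simp [hQ]
  have hB'v : ∀ u v, B' u v = B u v + (m⁻¹ * η u * χ₁ v - m⁻¹ * χ₁ u * η v) := fun u v => by
    simp [hB', mul_assoc]
  have hχe' : χ₁ e = -m := by rw [hm, neg_neg]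
  have hπQ : ∀ v, π (Q v) = 0 := fun v => by simp [hQv, hπc₁, hπe]
  have hQπ : ∀ v, Q (π v) = 0 := fun v => by simp [hQv, hηU _ (hi v), hχU _ (hi v)]
  have hηQ : ∀ v, η (Q v) = η v := fun v => by
    rw [hQv, map_sub, map_smul, map_smul, hηc, hηe]; simp; field_simp
  have hχQ : ∀ v, χ₁ (Q v) = χ₁ v := fun v => by
    rw [hQv, map_sub, map_smul, map_smul, hχc₁, hχe']; simp; field_simp
  have hQQ : ∀ v, Q (Q v) = Q v := fun v => by rw [hQv (Q v), hηQ, hχQ, ← hQv]
  have hidem : Idem (π + Q) := fun v => by simp [map_add, hi v, hπQ, hQπ, hQQ]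
  have hfull' : SpFull R (π + Q) B' := by
    refine ⟨fun v => by rw [hB'v, hf.alt]; ring, fun u => LinearMap.ext fun v => ?_,
      fun u hu h => ?_, fun u hu => ?_⟩
    · rw [LinearMap.comp_apply, hB'v, hB'v, LinearMap.add_apply, map_add (η), map_add (χ₁),
        map_add (B u), hηQ, hχQ, hηU _ (hi v), hχU _ (hi v), hf.apply_proj]
      rw [show B u (Q v) = 0 by rw [← hf.apply_proj, hπQ, map_zero]]
      ring
    · have q1 := LinearMap.congr_fun h c₁
      have q2 := LinearMap.congr_fun h e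
      rw [hB'v, hBc₁, hχc₁, hηc, LinearMap.zero_apply] at q1
      rw [hB'v, hBe, hχe', hηe, LinearMap.zero_apply] at q2
      have hχu : χ₁ u = 0 := by simpa [hm0] using q1
      have hηu : η u = 0 := by simpa [hm0] using q2
      have hu' : π u = u := by
        conv_rhs => rw [← hu]
        simp [hQv, hχu, hηu]
      refine hf.nondeg u hu' (LinearMap.ext fun v => ?_)
      have := LinearMap.congr_fun h v
      rw [hB'v, hχu, hηu] at this
      simpa using this
    · obtain ⟨x, hx⟩ : ∃ x, x = m⁻¹ * η u := ⟨_, rfl⟩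
      obtain ⟨y, hy⟩ : ∃ y, y = -(m⁻¹ * χ₁ u) := ⟨_, rfl⟩
      have eu : π u + (x • c₁ + y • e) = u := by
        conv_rhs => rw [← hu]
        rw [LinearMap.add_apply, hQv, hx, hy, neg_smul, ← sub_eq_add_neg]
      have eB : B (π u) + (x • χ₁ + y • η) = B' u := LinearMap.ext fun v => by
        simp [hB'v, hx, hy, hf.proj_apply]; ring
      rw [← eB]
      conv => enter [1]; rw [← eu]
      rcases eq_or_ne x 0 with hx0 | hx0
      · rw [hx0, zero_smul, zero_smul, zero_add, zero_add]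
        exact hUe _ (hi u) y
      have h1 : R (c₁ + x⁻¹ • π u + (y / x) • e) (χ₁ + B (x⁻¹ • π u) + (y / x) • η) := by
        rcases eq_or_ne (π u) 0 with h0 | h0
        · rw [h0, smul_zero, map_zero, add_zero, add_zero]; exact hZ _
        · exact hPt _ (by rw [map_smul, hi]) (smul_ne_zero (inv_ne_zero hx0) h0) _
      convert hR.scale h1 x using 1
      · rw [smul_add, smul_add, smul_smul, smul_smul, mul_inv_cancel₀ hx0, one_smul,
          mul_div_cancel₀ _ hx0]
        abel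
      · refine LinearMap.ext fun v => ?_
        simp
        field_simp
        ring
  refine not_lt.2 (hmax _ _ hidem hfull') (Submodule.finrank_lt_finrank_of_lt
    (lt_of_le_of_ne ?_ fun h => ?_))
  · rintro _ ⟨v, rfl⟩
    exact ⟨π v, by simp [hi v, hQπ]⟩
  · obtain ⟨w, hw⟩ : e ∈ LinearMap.range π := h ▸ ⟨e, by
      simp [hQv, hπe, hηe, hχe', hm0]⟩
    exact he0 (by rw [← hw, ← hi w, hw, hπe])

/-- A maximal symplectic block splits a relation without asymmetric pairs. -/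
theorem SpFull.split (hR : TVRel R) (hsym : Sym R) (h2k : (2 : k) ≠ 0) {π : V →ₗ[k] V}
    {B : V →ₗ[k] Dual k V} (hi : Idem π) (hf : SpFull R π B)
    (hmax : ∀ π' B', Idem π' → SpFull R π' B' →
      finrank k (LinearMap.range π') ≤ finrank k (LinearMap.range π)) :
    Split R π ∧ SpIn R π B := by
  have hne : ∀ w, π w = w → w ≠ 0 → B w ≠ 0 := fun w hw h0 h => h0 (hf.nondeg w hw h)
  have key : ∀ a φ, R a φ → a ≠ 0 → φ ≠ 0 →
      (π a = 0 ∧ φ ∘ₗ π = 0) ∨ (π a = a ∧ ∃ μ : k, φ = μ • B a) := by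
    intro a φ hr ha hφ
    obtain ⟨μ, hμ⟩ : ∃ μ : k, φ ∘ₗ π = μ • B (π a) := exists_smul_of_ker fun v hv => by
      rw [LinearMap.comp_apply]
      rcases eq_or_ne (π v) 0 with h | h
      · rw [h, map_zero]
      refine hsym _ _ _ _ (hf.full _ (hi v)) hr h (hne _ (hi v) h) ha hφ ?_
      rw [hf.proj_apply, hf.skew, ← hf.proj_apply, hv, neg_zero]
    rcases eq_or_ne (π a) 0 with h0 | h0
    · exact Or.inl ⟨h0, by rw [hμ, h0, map_zero, smul_zero]⟩
    right
    obtain ⟨z, hz⟩ := DFunLike.ne_iff.1 (hne _ (hi a) h0)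
    have hzπ : π z ≠ 0 := fun h => hz (by rw [← hf.apply_proj, h, map_zero]; rfl)
    have hza : B (π z) a ≠ 0 := by
      rw [hf.skew, hf.apply_proj, ← hf.proj_apply]; exact neg_ne_zero.2 hz
    have hμ0 : μ ≠ 0 := fun h => hza (hsym _ _ _ _ hr (hf.full _ (hi z)) ha hφ hzπ
      (hne _ (hi z) hzπ) (by rw [← LinearMap.comp_apply, hμ, h, zero_smul]; rfl))
    have hin : R (π a) (φ ∘ₗ π) := hμ ▸ (hR.smul (hf.full _ (hi a)) μ).1
    rcases eq_or_ne (φ - φ ∘ₗ π) 0 with h1 | h1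
    · rw [sub_eq_zero] at h1
      rcases eq_or_ne (a - π a) 0 with h2 | h2
      · rw [sub_eq_zero] at h2
        exact ⟨h2.symm, μ, by rw [h1, hμ, ← h2]⟩
      exfalso
      have h3 : R (a - π a) φ := hR.sub_center hr (h1 ▸ hin)
      have h4 := hsym _ _ _ _ (hf.full _ (hi z)) h3 hzπ (hne _ (hi z) hzπ) h2 hφ
        (by rw [← hf.apply_proj, hi.apply_sub, map_zero])
      rw [← LinearMap.comp_apply, hμ, LinearMap.smul_apply, smul_eq_zero] at h4
      exact hz (h4.resolve_left hμ0)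
    exfalso
    rcases eq_or_ne (a - π a) 0 with h2 | h2
    · rw [sub_eq_zero] at h2
      have h3 : R a (φ - φ ∘ₗ π) := hR.sub_axis hr (h2.symm ▸ hin)
      exact hza (hsym _ _ _ _ h3 (hf.full _ (hi z)) ha h1 hzπ (hne _ (hi z) hzπ)
        (by rw [LinearMap.sub_apply, LinearMap.comp_apply, hi, sub_self]))
    refine hf.mixed_false hR hsym h2k hi hmax (hR.smul hr μ⁻¹).1 ?_ h0 h2 fun h => h1 ?_
    · rw [LinearMap.smul_comp, hμ, smul_smul, inv_mul_cancel₀ hμ0, one_smul]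
    · rw [sub_eq_zero] at h
      rw [hμ, ← h, smul_smul, mul_inv_cancel₀ hμ0, one_smul, sub_self]
  constructor
  · intro a φ hr ha hφ
    rcases key a φ hr ha hφ with h | ⟨h, μ, hμ⟩
    · exact Or.inr h
    · exact Or.inl ⟨h, by rw [hμ, LinearMap.smul_comp, hf.axis]⟩
  · intro a φ hr ha hφ hπa _
    rcases key a φ hr ha hφ with ⟨h, -⟩ | ⟨-, h⟩
    · exact absurd (hπa.symm.trans h) ha
    · exact h

end Cfsg.Agent.Fus.TV2
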