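import Mathlib
import Cfsg.Agent.Lib.Fus.TransvectionRoot

/-!
Transvection groups with coefficients in a subfield: two of them which are in general position
generate an image of `SL₂` of the subfield.
-/

set_option autoImplicit false

namespace Cfsg.Agent.Fus.TV

open Matrix

variable {F : Type*} [Field F] {L : Type*} [Field L] {I : Type*} [Fintype I] [DecidableEq I]
  {Γ : Type*} [Group Γ] (ρ : Γ →* Matrix I I F) (ι : L →+* F)

/-- The group of the transvections of `Γ` with given centre and axis and coefficient in `L`. -/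
def subRoot (v φ : I → F) : Subgroup Γ := Subgroup.closure {g | ∃ c : L, ρ g = mat v φ (ι c)}

theorem mem_subRoot (hρ : Function.Injective ρ) {v φ : I → F} (h : φ ⬝ᵥ v = 0) {g : Γ} :
    g ∈ subRoot ρ ι v φ ↔ ∃ c : L, ρ g = mat v φ (ι c) := by
  refine ⟨fun hg => ?_, fun hg => Subgroup.subset_closure hg⟩
  induction hg using Subgroup.closure_induction with
  | mem g hg => exact hg
  | one => exact ⟨0, by rw [map_one, map_zero, mat_zero]⟩
  | mul a b _ _ ha hb =>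
    obtain ⟨c, hc⟩ := ha
    obtain ⟨d, hd⟩ := hb
    exact ⟨c + d, by rw [map_mul, hc, hd, mat_mul h, map_add]⟩
  | inv a _ ha =>
    obtain ⟨c, hc⟩ := ha
    refine ⟨-c, ?_⟩
    calc ρ a⁻¹ = ρ a⁻¹ * (mat v φ (ι c) * mat v φ (ι (-c))) := by
          rw [mat_mul h, map_neg, add_neg_cancel, mat_zero, mul_one]
      _ = _ := by rw [← mul_assoc, ← hc, ← map_mul, inv_mul_cancel, map_one, one_mul]

theorem commutator_subRoot_eq_bot (hρ : Function.Injective ρ) {v φ w ψ : I → F}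
    (hv : φ ⬝ᵥ v = 0) (hw : ψ ⬝ᵥ w = 0) (hα : φ ⬝ᵥ w = 0) (hβ : ψ ⬝ᵥ v = 0) :
    ⁅subRoot ρ ι v φ, subRoot ρ ι w ψ⁆ = ⊥ := by
  refine le_bot_iff.1 (Subgroup.commutator_le.2 fun g hg h hh => ?_)
  obtain ⟨c, hc⟩ := (mem_subRoot ρ ι hρ hv).1 hg
  obtain ⟨d, hd⟩ := (mem_subRoot ρ ι hρ hw).1 hh
  rw [Subgroup.mem_bot, commutatorElement_eq_one_iff_mul_comm]
  exact hρ (by rw [map_mul, map_mul, hc, hd, mat_commute hα hβ])

theorem rankOne_subRoot (hρ : Function.Injective ρ) {v φ w ψ : I → F} (hv : φ ⬝ᵥ v = 0)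
    (hw : ψ ⬝ᵥ w = 0) {r : L} (hr0 : r ≠ 0) (hr : φ ⬝ᵥ w * (ψ ⬝ᵥ v) = ι r)
    (hA : ∀ c : L, ∃ g : Γ, ρ g = mat v φ (ι c)) (hB : ∀ c : L, ∃ g : Γ, ρ g = mat w ψ (ι c))
    (hne : subRoot ρ ι v φ ≠ subRoot ρ ι w ψ) :
    Cfsg.IsRankOnePair (subRoot ρ ι v φ) (subRoot ρ ι w ψ) ∧
      Cfsg.IsPSL2PairOver L (subRoot ρ ι v φ) (subRoot ρ ι w ψ) := by
  have hr' : ι r ≠ 0 := (map_ne_zero ι).2 hr0
  have hα : φ ⬝ᵥ w ≠ 0 := fun e => hr' (by rw [← hr, e, zero_mul])
  set α := φ ⬝ᵥ w with hαdef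
  set w' := α⁻¹ • w with hw'
  set ψ' := α • ψ with hψ'
  have h1 : ψ' ⬝ᵥ w' = 0 := by rw [hψ', hw', smul_dotProduct, dotProduct_smul, hw]; simp
  have h2 : φ ⬝ᵥ w' = 1 := by rw [hw', dotProduct_smul, smul_eq_mul, ← hαdef, inv_mul_cancel₀ hα]
  have h3 : ψ' ⬝ᵥ v = ι r := by rw [hψ', smul_dotProduct, smul_eq_mul, hr]
  have h4 : ∀ c : F, mat w' ψ' c = mat w ψ c := fun c => by
    rw [hw', hψ', mat_smul, inv_mul_cancel₀ hα, one_mul]
  have hα' : φ ⬝ᵥ w' ≠ 0 := by rw [h2]; exact one_ne_zero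
  have hβ' : ψ' ⬝ᵥ v ≠ 0 := by rw [h3]; exact hr'
  let ω := (block hv h1 hα' hβ').comp (Matrix.SpecialLinearGroup.map (n := Fin 2) ι)
  have hinjω : Function.Injective ω := fun a b e => by
    have e' := block_injective hv h1 hα' hβ' e
    refine Subtype.ext (Matrix.ext fun i j => ι.injective ?_)
    exact congrArg (fun x : Matrix.SpecialLinearGroup (Fin 2) F => x.1 i j) e'
  have upper : ∀ g : Matrix.SpecialLinearGroup (Fin 2) L, g.1 1 0 = 0 ∧ g.1 0 0 = 1 ∧ g.1 1 1 = 1 →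
      ω g = mat v φ (ι (g.1 0 1)) := fun g hg => by
    refine (block_upper hv h1 hα' hβ' ?_).trans ?_
    · simp [hg.1, hg.2.1, hg.2.2]
    · rw [h2]; simp
  have lower : ∀ g : Matrix.SpecialLinearGroup (Fin 2) L, g.1 0 1 = 0 ∧ g.1 0 0 = 1 ∧ g.1 1 1 = 1 →
      ω g = mat w ψ (ι (g.1 1 0 * r⁻¹)) := fun g hg => by
    refine (block_lower hv h1 hα' hβ' ?_).trans ?_
    · simp [hg.1, hg.2.1, hg.2.2]
    · rw [h4, h3]; simp
  have htop : ∀ g, ∃ x : Γ, ρ x = ω g := by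
    intro g
    have hg : g ∈ Subgroup.closure (Set.range (Matrix.TransvectionStruct.toSpecialLinearGroup :
        Matrix.TransvectionStruct (Fin 2) L → Matrix.SpecialLinearGroup (Fin 2) L)) := by
      rw [Classical.SL_closure_transvections]
      exact Subgroup.mem_top g
    induction hg using Subgroup.closure_induction with
    | mem x hx =>
      obtain ⟨⟨i, j, hij, c⟩, rfl⟩ := hx
      fin_cases i <;> fin_cases j
      · exact absurd rfl hij
      · obtain ⟨x, hx⟩ := hA c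
        refine ⟨x, ?_⟩
        rw [hx, upper _ (by simp [Matrix.SpecialLinearGroup.transvection, Matrix.transvection])]
        simp [Matrix.SpecialLinearGroup.transvection, Matrix.transvection]
      · obtain ⟨x, hx⟩ := hB (c * r⁻¹)
        refine ⟨x, ?_⟩
        rw [hx, lower _ (by simp [Matrix.SpecialLinearGroup.transvection, Matrix.transvection])]
        simp [Matrix.SpecialLinearGroup.transvection, Matrix.transvection]
      · exact absurd rfl hij
    | one => exact ⟨1, by rw [map_one, map_one]⟩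
    | mul a b _ _ ha hb =>
      obtain ⟨x, hx⟩ := ha
      obtain ⟨y, hy⟩ := hb
      exact ⟨x * y, by rw [map_mul, map_mul, hx, hy]⟩
    | inv a _ ha =>
      obtain ⟨x, hx⟩ := ha
      refine ⟨x⁻¹, ?_⟩
      calc ρ x⁻¹ = ρ x⁻¹ * (ω a * ω a⁻¹) := by rw [← map_mul, mul_inv_cancel, map_one, mul_one]
        _ = _ := by rw [← mul_assoc, ← hx, ← map_mul, inv_mul_cancel, map_one, one_mul]
  choose f hf using htop
  let Φ : Matrix.SpecialLinearGroup (Fin 2) L →* Γ :=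
    MonoidHom.mk' f fun a b => hρ (by rw [map_mul, hf, hf, hf, map_mul])
  have hinj : Function.Injective Φ := fun a b e => hinjω (by
    have e' : ρ (f a) = ρ (f b) := congrArg ρ e
    rwa [hf, hf] at e')
  have hU : (Cfsg.upperUnipotentSL2 L).map Φ = subRoot ρ ι v φ := by
    rw [Cfsg.upperUnipotentSL2, MonoidHom.map_closure]
    refine le_antisymm ((Subgroup.closure_le _).2 ?_) ((Subgroup.closure_le _).2 ?_)
    · rintro _ ⟨g, hg, rfl⟩
      exact Subgroup.subset_closure ⟨_, (hf g).trans (upper g hg)⟩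
    · rintro x ⟨c, hc⟩
      refine Subgroup.subset_closure ⟨(⟨!![1, c; 0, 1], by simp [Matrix.det_fin_two]⟩ :
        Matrix.SpecialLinearGroup (Fin 2) L), ⟨by simp, by simp, by simp⟩, hρ ?_⟩
      exact ((hf _).trans (upper _ ⟨by simp, by simp, by simp⟩)).trans (by rw [hc]; simp)
  have hL : (Cfsg.lowerUnipotentSL2 L).map Φ = subRoot ρ ι w ψ := by
    rw [Cfsg.lowerUnipotentSL2, MonoidHom.map_closure]
    refine le_antisymm ((Subgroup.closure_le _).2 ?_) ((Subgroup.closure_le _).2 ?_)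
    · rintro _ ⟨g, hg, rfl⟩
      exact Subgroup.subset_closure ⟨_, (hf g).trans (lower g hg)⟩
    · rintro x ⟨c, hc⟩
      refine Subgroup.subset_closure ⟨(⟨!![1, 0; c * r, 1], by simp [Matrix.det_fin_two]⟩ :
        Matrix.SpecialLinearGroup (Fin 2) L), ⟨by simp, by simp, by simp⟩, hρ ?_⟩
      exact ((hf _).trans (lower _ ⟨by simp, by simp, by simp⟩)).trans (by rw [hc]; simp [hr'])
  refine ⟨?_, Φ, ?_, ?_, hU, hL⟩
  · rw [← hU, ← hL]
    exact isRankOnePair_map Φ (Cfsg.RankOnePair_symm (Cfsg.Agent.S5016.result L).1.2)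
      (by rw [hU, hL]; exact hne)
  · rw [MonoidHom.range_eq_map, ← hU, ← hL, ← Subgroup.map_sup, sup_comm,
      (Cfsg.Agent.S5016.result L).1.1]
  · rw [(MonoidHom.ker_eq_bot_iff Φ).2 hinj]
    exact bot_le

end Cfsg.Agent.Fus.TV
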