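import Cfsg.Agent.Lib.Fus.FieldSixteen

/-! Finite checks on the tables for the module of `PSU(3, 4)` over the field with five elements. -/

set_option autoImplicit false
set_option maxRecDepth 100000

namespace Cfsg.Agent.Fus.UFour

open Matrix

/-- Field extraction from a packed table. -/
def get (t w n i : ℕ) : ℕ := (t >>> (w * i)) % 2 ^ n

/-- A point. -/
def vec (a : Fin 208) : Fin 3 → F16 := fun j => F16.ofNum (Data.vecTab >>> (12 * a.val + 4 * j.val))

/-- The code of a point. -/
def code (v : Fin 3 → F16) : ℕ := 256 * (v 0).code.val + 16 * (v 1).code.val + (v 2).code.val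

/-- The first nonzero coordinate. -/
def lead (v : Fin 3 → F16) : F16 := if v 0 = 0 then (if v 1 = 0 then v 2 else v 1) else v 0

/-- The vertices of a frame. -/
def fr (i : Fin 416) (k : Fin 3) : Fin 208 :=
  ⟨get Data.frTab 8 8 (3 * i.val + k.val) % 208, Nat.mod_lt _ (by norm_num)⟩

/-- The code of a frame. -/
def fcode (i : Fin 416) : ℕ := 65536 * (fr i 0).val + 256 * (fr i 1).val + (fr i 2).val

/-- The weight of a frame, as natural numbers. -/
def wn (i : Fin 416) (k : Fin 12) : ℕ := get (Data.wTab >>> (36 * i.val)) 3 3 k.val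

/-- The basis frames. -/
def bas (k : Fin 12) : Fin 416 := ⟨Data.basis.getD k.val 0 % 416, Nat.mod_lt _ (by norm_num)⟩

/-- The matrices. -/
def gm (o : Fin 4) : Matrix (Fin 3) (Fin 3) F16 := fun i j =>
  F16.ofNum (Data.gTab.getD o.val 0 >>> (4 * (3 * i.val + j.val)))

/-- The scalars. -/
def lam (o : Fin 4) (a : Fin 208) : F16 := F16.ofNum (Data.lamTab.getD o.val 0 >>> (4 * a.val))

/-- The permutations of the points. -/
def pi (o : Fin 4) (a : Fin 208) : Fin 208 :=
  ⟨get (Data.piTab.getD o.val 0) 8 8 a.val % 208, Nat.mod_lt _ (by norm_num)⟩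

/-- Their inverses. -/
def piInv (o : Fin 4) (a : Fin 208) : Fin 208 :=
  ⟨get (Data.piInvTab.getD o.val 0) 8 8 a.val % 208, Nat.mod_lt _ (by norm_num)⟩

/-- The permutations of the frames. -/
def sg (o : Fin 4) (i : Fin 416) : Fin 416 :=
  ⟨get (Data.sgTab.getD o.val 0) 9 9 i.val % 416, Nat.mod_lt _ (by norm_num)⟩

/-- The reorderings of the frames. -/
def si (o : Fin 4) (i : Fin 416) : Fin 6 :=
  ⟨get (Data.siTab.getD o.val 0) 3 3 i.val % 6, Nat.mod_lt _ (by norm_num)⟩

/-- The six permutations. -/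
def perm6 : Fin 6 → Equiv.Perm (Fin 3) :=
  ![1, Equiv.swap 1 2, Equiv.swap 0 1, finRotate 3, (finRotate 3)⁻¹, Equiv.swap 0 2]

/-- Their signs modulo five. -/
def sgn6 : Fin 6 → ℕ := ![1, 4, 4, 1, 1, 4]

/-- The matrices on the module, as natural numbers. -/
def an (o : Fin 4) (k l : Fin 12) : ℕ := get (Data.aTab.getD o.val 0) 3 3 (12 * k.val + l.val)

/-- A row times a weight. -/
def dot (o : Fin 4) (k : Fin 12) (i : Fin 416) : ℕ := ∑ l : Fin 12, an o k l * wn i l

theorem code_mono : ∀ a : Fin 207, code (vec a.castSucc) < code (vec a.succ) := by decide +kernel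

theorem lead_vec : ∀ a : Fin 208, lead (vec a) = 1 := by decide +kernel

theorem fcode_mono : ∀ i : Fin 415, fcode i.castSucc < fcode i.succ := by decide +kernel

theorem fr_lt : ∀ i : Fin 416, fr i 0 < fr i 1 ∧ fr i 1 < fr i 2 := by decide +kernel

theorem wn_bas : ∀ k l : Fin 12, wn (bas k) l = if k = l then 1 else 0 := by decide +kernel

theorem pi_inv : ∀ (o : Fin 4) (a : Fin 208), pi o (piInv o a) = a ∧ piInv o (pi o a) = a := by decide +kernel

theorem gm_vec : ∀ (o : Fin 4) (a : Fin 208) (j : Fin 3),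
    gm o j 0 * vec a 0 + gm o j 1 * vec a 1 + gm o j 2 * vec a 2 = lam o a * vec (pi o a) j := by
  decide +kernel

theorem fr_sg : ∀ (o : Fin 4) (i : Fin 416) (k : Fin 3), pi o (fr i k) = fr (sg o i) (perm6 (si o i) k) := by
  decide +kernel

theorem gm_unitary : ∀ o : Fin 4, (gm o)ᵀ * (gm o).map (fun x => x ^ 4) = 1 := by decide +kernel

theorem gm_det : ∀ o : Fin 4, (gm o).det = 1 := by decide +kernel

/-- The orders of the four elements. -/
def ords : Fin 4 → ℕ := ![13, 5, 3, 2]

theorem gm_order : ∀ o : Fin 4, gm o ^ ords o = 1 ∧ gm o ≠ 1 := by decide +kernel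

theorem perm6_sign : ∀ s : Fin 6, ((Equiv.Perm.sign (perm6 s) : ℤ) : ZMod 5) = sgn6 s := by decide +kernel

end Cfsg.Agent.Fus.UFour
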