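import Cfsg.Agent.Lib.Fus.UFourChecks

/-! The weights of the frames transform by the matrices on the module. -/

set_option autoImplicit false
set_option maxRecDepth 100000

namespace Cfsg.Agent.Fus.UFour

theorem dot_zero : ∀ (i : Fin 416) (k : Fin 12), dot 0 k i % 5 = sgn6 (si 0 i) * wn (sg 0 i) k % 5 := by
  decide +kernel

theorem dot_one : ∀ (i : Fin 416) (k : Fin 12), dot 1 k i % 5 = sgn6 (si 1 i) * wn (sg 1 i) k % 5 := by
  decide +kernel

theorem dot_two : ∀ (i : Fin 416) (k : Fin 12), dot 2 k i % 5 = sgn6 (si 2 i) * wn (sg 2 i) k % 5 := by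
  decide +kernel

theorem dot_three : ∀ (i : Fin 416) (k : Fin 12), dot 3 k i % 5 = sgn6 (si 3 i) * wn (sg 3 i) k % 5 := by
  decide +kernel

end Cfsg.Agent.Fus.UFour
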