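import Cfsg.Agent.Lib.Fus.UFourDots
import Cfsg.Agent.Lib.Fus.PrimeGraphPSUThreeFour

/-! The twelve-dimensional module of `PSU(3, 4)` over the field with five elements, on a group mapping injectively
into `SU(3, 4)`: the elements of order thirteen have no fixed vectors, some of orders two and three have. -/

set_option autoImplicit false
set_option maxRecDepth 100000

namespace Cfsg.Agent.Fus.UFour

open Matrix Cfsg.Agent.Classical Cfsg.Agent.Fus.PrimeGraph

/-- The ambient group. -/
abbrev Amb := ↥(Cfsg.SU 3 F16 4) × Equiv.Perm (Fin 208) × (Matrix (Fin 12) (Fin 12) (ZMod 5))ˣ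

theorem suVal_one16 : suVal (1 : ↥(Cfsg.SU 3 F16 4)) = 1 := rfl

/-- The weight of a frame. -/
def w (i : Fin 416) : Fin 12 → ZMod 5 := fun k => (wn i k : ZMod 5)

/-- The sign of a permutation modulo five. -/
def eps (s : Equiv.Perm (Fin 3)) : ZMod 5 := ((Equiv.Perm.sign s : ℤ) : ZMod 5)

theorem eps_mul (s t : Equiv.Perm (Fin 3)) : eps (s * t) = eps s * eps t := by
  simp only [eps, map_mul, Units.val_mul, Int.cast_mul]

/-- The elements compatible with the tables. -/
def Good (x : Amb) : Prop :=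
  (∀ a, ∃ c : F16, suVal x.1 *ᵥ vec a = c • vec (x.2.1 a)) ∧
    ∀ i, ∃ (j : Fin 416) (s : Equiv.Perm (Fin 3)), (∀ k, x.2.1 (fr i k) = fr j (s k)) ∧
      (x.2.2 : Matrix (Fin 12) (Fin 12) (ZMod 5)) *ᵥ w i = eps s • w j

theorem good_one : Good 1 :=
  ⟨fun a => ⟨1, by simp [suVal_one16]⟩, fun i => ⟨i, 1, fun k => rfl, by simp [eps]⟩⟩

theorem good_mul {x y : Amb} (hx : Good x) (hy : Good y) : Good (x * y) := by
  refine ⟨fun a => ?_, fun i => ?_⟩
  · obtain ⟨c, hc⟩ := hy.1 a
    obtain ⟨d, hd⟩ := hx.1 (y.2.1 a)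
    exact ⟨c * d, by
      rw [Prod.fst_mul, suVal_mul, ← Matrix.mulVec_mulVec, hc, Matrix.mulVec_smul, hd, smul_smul]; rfl⟩
  · obtain ⟨j, s, hs, hw⟩ := hy.2 i
    obtain ⟨l, t, ht, hv⟩ := hx.2 j
    refine ⟨l, t * s, fun k => ?_, ?_⟩
    · show x.2.1 (y.2.1 (fr i k)) = _
      rw [hs, ht]
      rfl
    · rw [Prod.snd_mul, Prod.snd_mul, Units.val_mul, ← Matrix.mulVec_mulVec, hw, Matrix.mulVec_smul, hv, smul_smul, eps_mul, mul_comm]

theorem good_pow {x : Amb} (hx : Good x) : ∀ n : ℕ, Good (x ^ n)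
  | 0 => by rw [pow_zero]; exact good_one
  | n + 1 => by rw [pow_succ]; exact good_mul (good_pow hx n) hx

/-- The group. -/
def Y : Subgroup Amb where
  carrier := {x | Good x}
  one_mem' := good_one
  mul_mem' := good_mul
  inv_mem' {x} hx := by
    have h : x⁻¹ = x ^ (orderOf x - 1) := inv_eq_of_mul_eq_one_right (by
      rw [← pow_succ', Nat.sub_add_cancel (orderOf_pos x), pow_orderOf_eq_one])
    rw [h]
    exact good_pow hx _

/-- Its projection. -/
def proj : Y →* ↥(Cfsg.SU 3 F16 4) := (MonoidHom.fst _ _).comp Y.subtype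

theorem lead_smul (c : F16) (v : Fin 3 → F16) : lead (c • v) = c * lead v := by
  rcases eq_or_ne c 0 with rfl | hc
  · simp [lead]
  · simp only [lead, Pi.smul_apply, smul_eq_mul, mul_eq_zero, hc, false_or]
    split_ifs <;> rfl

theorem vec_eq_of_smul {a b : Fin 208} {c : F16} (h : vec a = c • vec b) : a = b := by
  have h1 := congrArg lead h
  rw [lead_smul, lead_vec, lead_vec, mul_one] at h1
  rw [← h1, one_smul] at h
  exact ((Fin.strictMono_iff_lt_succ (f := fun a => code (vec a))).2 code_mono).injective (congrArg code h)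

theorem fr_strictMono (i : Fin 416) : StrictMono (fr i) :=
  Fin.strictMono_iff_lt_succ.2 fun k => by fin_cases k <;> simp [fr_lt i]

theorem fr_eq {i j : Fin 416} {s : Equiv.Perm (Fin 3)} (h : ∀ k, fr i k = fr j (s k)) : i = j ∧ s = 1 := by
  have hr : Set.range (fr i) = Set.range (fr j) := by
    rw [show fr i = fr j ∘ s from funext h, EquivLike.range_comp]
  have he : fr i = fr j := ((fr_strictMono i).range_inj (fr_strictMono j)).1 hr
  refine ⟨((Fin.strictMono_iff_lt_succ (f := fcode)).2 fcode_mono).injective (by simp only [fcode, he]), ?_⟩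
  refine Equiv.ext fun k => (fr_strictMono j).injective ?_
  rw [← h k, he]
  rfl

theorem w_bas (l : Fin 12) : w (bas l) = Pi.single l 1 := by
  funext k
  rw [w, wn_bas, Pi.single_apply]
  split_ifs <;> simp_all

theorem proj_injective : Function.Injective proj := by
  rw [injective_iff_map_eq_one]
  rintro ⟨⟨g, p, A⟩, hg⟩ h
  obtain rfl : g = 1 := h
  have hp : p = 1 := Equiv.ext fun a => by
    obtain ⟨c, hc⟩ := hg.1 a
    rw [suVal_one16, Matrix.one_mulVec] at hc
    exact (vec_eq_of_smul hc).symm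
  subst hp
  have hA : (A : Matrix (Fin 12) (Fin 12) (ZMod 5)) = 1 := by
    refine Matrix.ext fun k l => ?_
    obtain ⟨j, s, hs, hw⟩ := hg.2 (bas l)
    obtain ⟨rfl, rfl⟩ := fr_eq hs
    rw [show eps 1 = 1 by simp [eps], one_smul, w_bas, Matrix.mulVec_single_one] at hw
    have := congrFun hw k
    rw [Matrix.col_apply] at this
    rw [this, Matrix.one_apply, Pi.single_apply]
  exact Subtype.ext (Prod.ext rfl (Prod.ext rfl (Units.ext hA)))

/-- The matrices on the module. -/
def am (o : Fin 4) : Matrix (Fin 12) (Fin 12) (ZMod 5) := fun k l => (an o k l : ZMod 5)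

theorem am_pow : ∀ o : Fin 4, am o ^ ords o = 1 := by decide +kernel

theorem am_w (o : Fin 4) (i : Fin 416) : am o *ᵥ w i = eps (perm6 (si o i)) • w (sg o i) := by
  funext k
  have h : dot o k i % 5 = sgn6 (si o i) * wn (sg o i) k % 5 := by
    fin_cases o
    · exact dot_zero i k
    · exact dot_one i k
    · exact dot_two i k
    · exact dot_three i k
  have h' := (ZMod.natCast_eq_natCast_iff' _ _ 5).2 h
  rw [dot, Nat.cast_sum, Nat.cast_mul] at h'
  simp only [Nat.cast_mul] at h'
  rw [Pi.smul_apply, smul_eq_mul, eps, perm6_sign]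
  exact h'

theorem su_det (s : ↥(Cfsg.SU 3 F16 4)) : (suVal s).det = 1 := s.1.2

/-- The four elements. -/
noncomputable def el (o : Fin 4) : Y :=
  ⟨(suMk F16.card_eq (gm o) (gm_det o) (by
      have h : (gm o).map (qFrob F16.card_eq) = (gm o).map (fun x => x ^ 4) :=
        Matrix.ext fun i j => qFrob_apply F16.card_eq _
      rw [h]; exact gm_unitary o),
    ⟨pi o, piInv o, fun a => (pi_inv o a).2, fun a => (pi_inv o a).1⟩,
    Units.ofPowEqOne (am o) (ords o) (am_pow o) (by fin_cases o <;> decide)),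
  fun a => ⟨lam o a, by
    funext j
    rw [suVal_suMk, Matrix.mulVec, dotProduct, Fin.sum_univ_three, Pi.smul_apply, smul_eq_mul]
    exact gm_vec o a j⟩,
  fun i => ⟨sg o i, perm6 (si o i), fun k => fr_sg o i k, am_w o i⟩⟩

theorem ords_prime : ∀ o : Fin 4, (ords o).Prime := by
  intro o
  fin_cases o <;> norm_num [ords]

theorem order_el (o : Fin 4) : orderOf (el o) = ords o := by
  have := Fact.mk (ords_prime o)
  rw [← orderOf_injective proj proj_injective]
  refine orderOf_eq_prime (suVal_ext ?_) fun h => (gm_order o).2 ?_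
  · rw [suVal_pow, suVal_one16]
    exact (gm_order o).1
  · have h' := congrArg suVal h
    rw [suVal_one16] at h'
    exact h'

theorem su_center_trivial : Function.Injective (suToPSU 3 F16 4) := by
  rw [injective_iff_map_eq_one]
  intro s hs
  obtain ⟨c, hc⟩ := (suToPSU_pow_eq_one_iff F16.card_eq s 1).1 (by rw [pow_one, hs])
  rw [pow_one] at hc
  have h3 : c ^ 3 = 1 := by
    have h := su_det s
    rw [hc, Matrix.scalar_apply, Matrix.det_diagonal, Finset.prod_const, Finset.card_univ, Fintype.card_fin] at h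
    exact h
  have h5 : c * c ^ 4 = 1 := by
    have h := congrFun₂ (suVal_transpose_mul F16.card_eq s) 0 0
    rw [hc, Matrix.scalar_apply, Matrix.diagonal_transpose, Matrix.diagonal_map (map_zero _),
      Matrix.diagonal_mul_diagonal, Matrix.diagonal_apply_eq, Matrix.one_apply_eq, qFrob_apply] at h
    exact h
  have hc1 : c = 1 := (show ∀ c : F16, c * c ^ 4 = 1 → c ^ 3 = 1 → c = 1 by decide +kernel) c h5 h3
  exact suVal_ext (by rw [hc, hc1, map_one, suVal_one16])

theorem orderOf_image (y : Y) : orderOf (suToPSU 3 F16 4 (proj y)) = orderOf y := by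
  rw [orderOf_injective _ su_center_trivial, orderOf_injective _ proj_injective]

theorem dvd_card_Y {p : ℕ} (hp : p.Prime) : p ∣ Nat.card Y ↔ p = 2 ∨ p = 3 ∨ p = 5 ∨ p = 13 := by
  constructor
  · intro h
    have := Fact.mk hp
    obtain ⟨y, hy⟩ := exists_prime_orderOf_dvd_card' (G := Y) p h
    exact (psu_four_dvd_card (show Fintype.card F16 = 16 from F16.card_eq) hp).1
      (hy ▸ orderOf_image y ▸ orderOf_dvd_natCard _)
  · rintro (rfl | rfl | rfl | rfl)
    · exact (dvd_of_eq (order_el 3).symm).trans (orderOf_dvd_natCard (el 3))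
    · exact (dvd_of_eq (order_el 2).symm).trans (orderOf_dvd_natCard (el 2))
    · exact (dvd_of_eq (order_el 1).symm).trans (orderOf_dvd_natCard (el 1))
    · exact (dvd_of_eq (order_el 0).symm).trans (orderOf_dvd_natCard (el 0))

theorem adj_Y {p q : ℕ} (hp : p.Prime) (hq : q.Prime) (hpq : p ≠ q) (h : ∃ y : Y, orderOf y = p * q) :
    UFourEdge p q := by
  obtain ⟨y, hy⟩ := h
  exact (psu_four_adj (show Fintype.card F16 = 16 from F16.card_eq) hp hq hpq).1
    ⟨suToPSU 3 F16 4 (proj y), by rw [orderOf_image, hy]⟩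

noncomputable instance : DistribMulAction Y (Fin 12 → ZMod 5) where
  smul y v := (y.1.2.2 : Matrix (Fin 12) (Fin 12) (ZMod 5)) *ᵥ v
  one_smul v := Matrix.one_mulVec v
  mul_smul x y v := (Matrix.mulVec_mulVec v _ _).symm
  smul_zero _ := Matrix.mulVec_zero _
  smul_add _ v u := Matrix.mulVec_add _ v u

theorem smul_el (o : Fin 4) (v : Fin 12 → ZMod 5) : el o • v = am o *ᵥ v := rfl

/-- The certified fixed vectors. -/
def fix (o : Fin 4) : Fin 12 → ZMod 5 := fun k => (get (Data.fixTab.getD o.val 0) 3 3 k.val : ZMod 5)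

theorem fix_spec : ∀ o : Fin 4, o ≠ 0 → am o *ᵥ fix o = fix o ∧ fix o ≠ 0 := by decide +kernel

/-- The inverse of `am 0 - 1`. -/
def bInv : Matrix (Fin 12) (Fin 12) (ZMod 5) := fun k l =>
  (get Data.bInvTab 3 3 (12 * k.val + l.val) : ZMod 5)

theorem bInv_spec : bInv * (am 0 - 1) = 1 := by decide +kernel

theorem sq_not_dvd : ¬ 13 ^ 2 ∣ Nat.card Y := fun h => by
  let f : Y →* (Matrix (Fin 3) (Fin 3) F16)ˣ :=
    (Matrix.SpecialLinearGroup.toGL.comp (Cfsg.SU 3 F16 4).subtype).comp proj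
  have hf : Function.Injective f := fun a b e => proj_injective
    (suVal_ext (show ((f a : (Matrix (Fin 3) (Fin 3) F16)ˣ) : Matrix (Fin 3) (Fin 3) F16) = (f b : (Matrix (Fin 3) (Fin 3) F16)ˣ) by rw [e]))
  have := h.trans (Subgroup.card_dvd_of_injective f hf)
  rw [show Nat.card (Matrix (Fin 3) (Fin 3) F16)ˣ = _ from Matrix.card_GL_field 3,
    Fin.prod_univ_three, show Fintype.card F16 = 16 from F16.card_eq] at this
  norm_num at this

theorem thirteen_fpf {z : Y} (hz : orderOf z = 13) {v : Fin 12 → ZMod 5} (hv : z • v = v) : v = 0 := by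
  have := Fact.mk (show Nat.Prime 13 by norm_num)
  have hfac : (Nat.card Y).factorization 13 = 1 :=
    le_antisymm (Nat.lt_succ_iff.1 (Nat.lt_of_not_le fun h => sq_not_dvd
      ((Nat.Prime.pow_dvd_iff_le_factorization (by norm_num) Nat.card_pos.ne').2 h)))
      ((show Nat.Prime 13 by norm_num).factorization_pos_of_dvd Nat.card_pos.ne'
        ((dvd_card_Y (by norm_num)).2 (by norm_num)))
  have hc : ∀ a : Y, orderOf a = 13 → Nat.card (Subgroup.zpowers a) = 13 ^ (Nat.card Y).factorization 13 :=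
    fun a ha => by rw [Nat.card_zpowers, ha, hfac, pow_one]
  obtain ⟨c, hc'⟩ := MulAction.exists_smul_eq Y (Sylow.ofCard _ (hc z hz)) (Sylow.ofCard _ (hc _ (order_el 0)))
  have hm : el 0 ∈ ((c • Sylow.ofCard _ (hc z hz) : Sylow 13 Y) : Subgroup Y) := by
    rw [hc']; exact Subgroup.mem_zpowers (el 0)
  rw [Sylow.smul_def, ← SetLike.mem_coe] at hm
  obtain ⟨y, hy, hyc⟩ := hm
  have hyv : y • v = v :=
    MulAction.mem_stabilizer_iff.1 ((Subgroup.zpowers_le (H := MulAction.stabilizer Y v)).2 hv hy)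
  have hfix : el 0 • (c • v) = c • v := by
    rw [← hyc]
    show (c * y * c⁻¹) • c • v = c • v
    rw [mul_smul, mul_smul, inv_smul_smul, hyv]
  rw [smul_el] at hfix
  have h1 : c • v = bInv *ᵥ ((am 0 - 1) *ᵥ (c • v)) := by
    rw [Matrix.mulVec_mulVec, bInv_spec, Matrix.one_mulVec]
  rw [Matrix.sub_mulVec, hfix, Matrix.one_mulVec, sub_self, Matrix.mulVec_zero] at h1
  rwa [smul_eq_zero_iff_eq] at h1

end Cfsg.Agent.Fus.UFour
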