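import Cfsg.Agent.Lib.Grp.BalanceReduction
import Cfsg.Agent.Lib.Grp.PComponents
import Cfsg.Agent.S0502
import Cfsg.Agent.S0205

/-!
# Unbalancing triples

If the core of the centralizer of an involution `x` meets the centralizer of a commuting involution `a` outside
`O(C(a))`, some 2-component of `C(a)` is normalized by `x` and is not centralized modulo its core.  Consequence:
a simple group with a self-centralizing normal abelian subgroup of rank at least three in a Sylow 2-subgroup has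
trivial cores or an unbalancing triple, given the core theorem for balanced groups.
-/

set_option autoImplicit false
set_option linter.style.haveILetI false

namespace Cfsg.Agent.Fus.Unbalance

open Subgroup Cfsg Cfsg.Agent.Grp
open scoped commutatorElement

universe u

variable {G : Type u} [Group G] [Finite G]

/-- The component behind a failure of balance, in the quotient by the core. -/
theorem exists_component {X : Type u} [Group X] [Finite X] {p : ℕ} [Fact p.Prime]
    (hO : Cfsg.pPrimeCore p X = ⊥) (x : X) (hx : x ^ p = 1) (hx1 : x ≠ 1) (Y : Subgroup X) (hY1 : Y ≠ ⊥)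
    (hY : Y ≤ Cfsg.centralizerPPrimeCore p x) :
    ∃ L : Subgroup X, Cfsg.IsComponent L ∧ x ∈ normalizer (L : Set X) ∧ Y ≤ normalizer (L : Set X) ∧
      ⁅L, Y⁆ = L := by
  have hpw : ∀ a ∈ zpowers x, a ^ p = 1 := by
    rintro _ ⟨i, rfl⟩
    show (x ^ i) ^ p = 1
    rw [← zpow_natCast, ← zpow_mul, mul_comm, zpow_mul, zpow_natCast, hx, one_zpow]
  by_contra hcon
  push Not at hcon
  refine hY1 (eq_bot_of_component_condition hO (zpowers x) Y (fun e => hx1 ?_) hpw
    (fun a ha b hb => congrArg Subtype.val (mul_comm' (⟨a, ha⟩ : ↥(zpowers x)) ⟨b, hb⟩)) ?_ ?_)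
  · have := mem_zpowers x; rw [e] at this; exact this
  · intro a ha ha1
    obtain ⟨i, hi⟩ := ha
    refine le_centralizerPPrimeCore (N := Cfsg.centralizerPPrimeCore p x) (fun y hy => ?_)
      (fun c hc y hy => ?_) (centralizerPPrimeCore_coprime x) |>.trans' hY
    · rw [← hi]; exact ((show Commute y x from centralizerPPrimeCore_commute hy).zpow_right i).eq
    · refine centralizerPPrimeCore_conj (Subgroup.mem_centralizer_singleton_iff.mp ?_) hy
      have e : zpowers a = zpowers x := by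
        refine Subgroup.eq_of_le_of_card_ge (zpowers_le.mpr ⟨i, hi⟩) ?_
        rw [Nat.card_zpowers, Nat.card_zpowers, orderOf_eq_prime hx hx1,
          orderOf_eq_prime (hpw a ⟨i, hi⟩) ha1]
      rw [centralizer_singleton_eq_zpowers, ← e, ← centralizer_singleton_eq_zpowers]
      exact Subgroup.mem_centralizer_singleton_iff.mpr hc
  · intro L hL hAN hYN _ _ y hy
    have hne := hcon L hL (hAN (mem_zpowers x)) hYN
    have hle : ⁅L, Y⁆ ≤ L := commutator_le_left_of_le_normalizer hYN
    have hn : (⁅L, Y⁆.subgroupOf L).Normal :=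
      (Subgroup.normal_subgroupOf_iff_le_normalizer hle).mpr
        (left_le_normalizer_commutator Y L)
    have hc := (IsQuasisimple.eq_top_or_le_center hL.2 (⁅L, Y⁆.subgroupOf L)).resolve_left
      fun h => hne (le_antisymm hle (Subgroup.subgroupOf_eq_top.mp h))
    intro a ha
    have h := congrArg Subtype.val (perfect_fixed_of_central (component_perfect hL)
      (L.normalizerMonoidHom ⟨y, hYN hy⟩).toMonoidHom (fun b => by
        refine hc (mem_subgroupOf.mpr ?_)
        have h1 : ⁅y, (b : X)⁆ ∈ ⁅Y, L⁆ := Subgroup.commutator_mem_commutator hy b.2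
        rw [Subgroup.commutator_comm]
        simpa [commutatorElement_def] using h1) ⟨a, ha⟩)
    exact mul_inv_eq_iff_eq_mul.mp h

/-- An unbalancing triple of involutions. -/
theorem exists_triple {a x : G} (ha : orderOf a = 2) (hx : orderOf x = 2) (hax : Commute a x)
    (hbad : ¬ Cfsg.centralizerPPrimeCore 2 x ⊓ centralizer ({a} : Set G) ≤ Cfsg.centralizerPPrimeCore 2 a) :
    ∃ (b y : G) (L : Subgroup ↥(centralizer ({b} : Set G))), orderOf b = 2 ∧ orderOf y = 2 ∧ Commute b y ∧
      Cfsg.IsPComponent 2 L ∧ (∀ l ∈ L.map (centralizer ({b} : Set G)).subtype,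
        y * l * y⁻¹ ∈ L.map (centralizer ({b} : Set G)).subtype) ∧
      L.map (centralizer ({b} : Set G)).subtype =
        (Cfsg.oddCore ↥L).map ((centralizer ({b} : Set G)).subtype.comp L.subtype) ⊔
          ⁅L.map (centralizer ({b} : Set G)).subtype,
            Cfsg.centralizerPPrimeCore 2 y ⊓ centralizer ({b} : Set G)⁆ := by
  haveI : Fact (Nat.Prime 2) := ⟨Nat.prime_two⟩
  set C := centralizer ({a} : Set G) with hC
  haveI hCn : (Cfsg.pPrimeCore 2 ↥C).Normal := pPrimeCore_isNormal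
  set π := QuotientGroup.mk' (Cfsg.pPrimeCore 2 ↥C) with hπ
  set D := Cfsg.centralizerPPrimeCore 2 x ⊓ C with hD
  have hxC : x ∈ C := Subgroup.mem_centralizer_singleton_iff.mpr hax.eq.symm
  set x' : ↥C := ⟨x, hxC⟩ with hx'
  have hx2 : x' ^ 2 = 1 := Subtype.ext (by
    show x ^ 2 = 1
    rw [← hx]; exact pow_orderOf_eq_one x)
  have hxπ : π x' ^ 2 = 1 := by rw [← map_pow, hx2, map_one]
  have hx1 : π x' ≠ 1 := by
    intro e
    have h1 : orderOf x' ∣ Nat.card ↥(Cfsg.pPrimeCore 2 ↥C) :=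
      Subgroup.orderOf_dvd_natCard _ ((QuotientGroup.eq_one_iff x').mp e)
    have h2 := pow_eq_one_coprime (p := 2) (k := 1) (by rwa [pow_one])
      (pPrimeCore_coprime.coprime_dvd_left h1)
    have h3 : x = 1 := congrArg Subtype.val h2
    rw [h3, orderOf_one] at hx
    omega
  set D' := D.subgroupOf C with hD'
  have hxp : IsPGroup 2 ↥(zpowers x') := IsPGroup.of_card (n := 1) (by
    rw [Nat.card_zpowers, pow_one]
    refine orderOf_eq_prime hx2 fun e => hx1 ?_
    rw [e, map_one])
  have hY : D'.map π ≤ Cfsg.centralizerPPrimeCore 2 (π x') := by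
    refine le_centralizerPPrimeCore ?_ ?_ ?_
    · rintro _ ⟨w, hw, rfl⟩
      rw [← map_mul, ← map_mul]
      exact congrArg π (Subtype.ext (centralizerPPrimeCore_commute (mem_subgroupOf.mp hw).1))
    · rintro c hc _ ⟨w, hw, rfl⟩
      have hCx : (centralizer ({x'} : Set ↥C)).map π = centralizer ({π x'} : Set _) := by
        rw [centralizer_singleton_eq_zpowers, centralizer_singleton_eq_zpowers (π x'), ← MonoidHom.map_zpowers]
        exact map_centralizer_pGroup hxp
      have hc' : c ∈ centralizer ({π x'} : Set _) := Subgroup.mem_centralizer_singleton_iff.mpr hc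
      rw [← hCx] at hc'
      obtain ⟨c', hc'', rfl⟩ := hc'
      refine ⟨c' * w * c'⁻¹, mem_subgroupOf.mpr ⟨?_, (c' * w * c'⁻¹).2⟩, by simp⟩
      exact centralizerPPrimeCore_conj (congrArg Subtype.val (Subgroup.mem_centralizer_singleton_iff.mp hc''))
        (mem_subgroupOf.mp hw).1
    · refine (centralizerPPrimeCore_coprime (p := 2) x).coprime_dvd_left ?_
      refine (Subgroup.card_map_dvd (f := π) _).trans ?_
      rw [hD', Nat.card_congr (Subgroup.subgroupOfEquivOfLe (inf_le_right : D ≤ C)).toEquiv]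
      exact Subgroup.card_dvd_of_le inf_le_left
  have hY1 : D'.map π ≠ ⊥ := by
    intro e
    refine hbad fun g hg => ?_
    have h1 : π ⟨g, hg.2⟩ ∈ D'.map π := mem_map_of_mem π (mem_subgroupOf.mpr hg)
    rw [e, Subgroup.mem_bot] at h1
    exact ⟨⟨g, hg.2⟩, (QuotientGroup.eq_one_iff _).mp h1, rfl⟩
  obtain ⟨Lbar, hL, hxN, hYN, hcomm⟩ :=
    exists_component (pPrimeCore_quotient_bot (p := 2) (G := ↥C)) (π x') hxπ hx1 _ hY1 hY
  obtain ⟨hmap, hK⟩ := lift_pRes_isPComponent hL
  set K := pRes 2 (Lbar.comap (QuotientGroup.mk' (Cfsg.pPrimeCore 2 ↥C))) with hKdef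
  have hxK : x' ∈ normalizer (K : Set ↥C) := mem_normalizer_of_image hK (by rw [hmap]; exact hxN)
  have hDK : D' ≤ normalizer (K : Set ↥C) := fun d hd =>
    mem_normalizer_of_image hK (by rw [hmap]; exact hYN (mem_map_of_mem π hd))
  have hle : ⁅K, D'⁆ ≤ K := commutator_le_left_of_le_normalizer hDK
  have hKD : ⁅K, D'⁆ = K := by
    refine hK.2.2 _ ?_ hle ?_
    · refine IsSubnormal.step _ K hle hK.1 ?_
      exact (Subgroup.normal_subgroupOf_iff_le_normalizer hle).mpr
        (left_le_normalizer_commutator D' K)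
    · rw [Subgroup.map_commutator]
      show ⁅K.map π, D'.map π⁆ = K.map π
      rw [show K.map π = Lbar from hmap, hcomm]
  refine ⟨a, x, K, ha, hx, hax, hK, ?_, ?_⟩
  · rintro _ ⟨l, hl, rfl⟩
    exact ⟨x' * l * x'⁻¹, (mem_normalizer_iff.mp hxK l).mp hl, rfl⟩
  · have e : D'.map C.subtype = D := by
      rw [hD', Subgroup.map_subgroupOf_eq_of_le inf_le_right]
    have h1 : K.map C.subtype = ⁅K.map C.subtype, D⁆ := by
      conv_lhs => rw [← hKD, Subgroup.map_commutator, e]
    refine le_antisymm (h1.le.trans le_sup_right) (sup_le ?_ h1.ge)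
    rintro _ ⟨l, -, rfl⟩
    exact mem_map_of_mem _ l.2

/-- Balance or an unbalancing triple. -/
theorem balanced_or_triple (h : ¬ ∃ (a x : G) (L : Subgroup ↥(centralizer ({a} : Set G))), orderOf a = 2 ∧
      orderOf x = 2 ∧ Commute a x ∧ Cfsg.IsPComponent 2 L ∧
      (∀ l ∈ L.map (centralizer ({a} : Set G)).subtype, x * l * x⁻¹ ∈ L.map (centralizer ({a} : Set G)).subtype) ∧
      L.map (centralizer ({a} : Set G)).subtype =
        (Cfsg.oddCore ↥L).map ((centralizer ({a} : Set G)).subtype.comp L.subtype) ⊔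
          ⁅L.map (centralizer ({a} : Set G)).subtype,
            Cfsg.centralizerPPrimeCore 2 x ⊓ centralizer ({a} : Set G)⁆) :
    Cfsg.IsBalanced G := by
  have key : ∀ x y : G, orderOf x = 2 → orderOf y = 2 → x * y = y * x →
      Cfsg.centralizerPPrimeCore 2 x ⊓ centralizer ({y} : Set G) ≤
        Cfsg.centralizerPPrimeCore 2 y ⊓ centralizer ({x} : Set G) := by
    intro x y hx hy hxy g hg
    refine ⟨?_, Subgroup.mem_centralizer_singleton_iff.mpr (centralizerPPrimeCore_commute hg.1)⟩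
    by_contra hgy
    exact h (exists_triple hy hx hxy.symm fun hle => hgy (hle hg))
  exact fun x y hx hy hxy => le_antisymm (key x y hx hy hxy) (key y x hy hx hxy.symm)

/-- Trivial cores or an unbalancing triple, given the theorem on balanced groups. -/
theorem cores_trivial_or_triple [IsSimpleGroup G] (hG : ¬ IsMulCommutative G)
    (hbalCore : Cfsg.IsBalanced G → Cfsg.oddCore G = ⊥ → ¬ Cfsg.PRankLE 2 2 G →
      ∀ S : Sylow 2 G, Cfsg.IsFourConnected ↥(S : Subgroup G) →
        ∀ t : G, orderOf t = 2 → Cfsg.centralizerPPrimeCore 2 t = ⊥)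
    (S : Sylow 2 G) (A : Subgroup ↥(S : Subgroup G)) (hAn : A.Normal)
    (hAab : IsMulCommutative ↥A) (hA3 : ¬ Cfsg.PRankLE 2 2 ↥A) :
    (∀ t : G, orderOf t = 2 → Cfsg.centralizerPPrimeCore 2 t = ⊥) ∨
      ∃ (a x : G) (L : Subgroup ↥(centralizer ({a} : Set G))), orderOf a = 2 ∧ orderOf x = 2 ∧ Commute a x ∧
        Cfsg.IsPComponent 2 L ∧
        (∀ l ∈ L.map (centralizer ({a} : Set G)).subtype, x * l * x⁻¹ ∈ L.map (centralizer ({a} : Set G)).subtype) ∧
        L.map (centralizer ({a} : Set G)).subtype =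
          (Cfsg.oddCore ↥L).map ((centralizer ({a} : Set G)).subtype.comp L.subtype) ⊔
            ⁅L.map (centralizer ({a} : Set G)).subtype,
              Cfsg.centralizerPPrimeCore 2 x ⊓ centralizer ({a} : Set G)⁆ := by
  haveI : Fact (Nat.Prime 2) := ⟨Nat.prime_two⟩
  refine or_iff_not_imp_right.mpr fun h => ?_
  have hO : Cfsg.oddCore G = ⊥ := by
    refine (pPrimeCore_isNormal (p := 2) (G := G)).eq_bot_or_eq_top.resolve_right fun e => hG ?_
    haveI : Group.IsSolvable G := Cfsg.Agent.S0205.result (Nat.coprime_two_right.1 (by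
      have h := pPrimeCore_coprime (p := 2) (G := G)
      rwa [show Cfsg.pPrimeCore 2 G = ⊤ from e, Subgroup.card_top] at h))
    exact ⟨⟨IsSimpleGroup.comm_iff_isSolvable.2 inferInstance⟩⟩
  have hcomm : ∀ a b : ↥(S : Subgroup G), a ∈ A → b ∈ A → Commute a b := fun a b ha hb =>
    congrArg Subtype.val (hAab.is_comm.comm ⟨a, ha⟩ ⟨b, hb⟩)
  let E₀ : Subgroup ↥(S : Subgroup G) :=
    { carrier := {a | a ∈ A ∧ a ^ 2 = 1}
      mul_mem' := fun {a b} ha hb =>
        ⟨A.mul_mem ha.1 hb.1, by rw [(hcomm a b ha.1 hb.1).mul_pow, ha.2, hb.2, one_mul]⟩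
      one_mem' := ⟨A.one_mem, one_pow 2⟩
      inv_mem' := fun {a} ha => ⟨A.inv_mem ha.1, by rw [inv_pow, ha.2, inv_one]⟩ }
  have hE : Cfsg.IsElementaryAbelian 2 E₀ :=
    ⟨⟨⟨fun a b => Subtype.ext (hcomm a b a.2.1 b.2.1).eq⟩⟩, fun a ha => ha.2⟩
  haveI : E₀.Normal := ⟨fun a ha g => ⟨hAn.conj_mem a ha.1 g, by
    rw [conj_pow, ha.2, mul_one, mul_inv_cancel]⟩⟩
  have h4 : 4 < Nat.card E₀ := by
    obtain ⟨X, hX, hX2, hXc⟩ : ∃ X : Subgroup A, IsMulCommutative X ∧ (∀ a ∈ X, a ^ 2 = 1) ∧
        2 ^ 2 < Nat.card X := by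
      simpa [Cfsg.PRankLE] using hA3
    have h2 := card_le_of_le (show X.map A.subtype ≤ E₀ by
      rintro _ ⟨x, hx, rfl⟩
      exact ⟨x.2, congrArg Subtype.val (hX2 x hx)⟩)
    rw [Subgroup.card_map_of_injective A.subtype_injective] at h2
    omega
  obtain ⟨k, hk⟩ := IsPGroup.iff_card.1 (S.isPGroup'.to_subgroup E₀)
  have h8 : 8 ≤ Nat.card E₀ := by
    rw [hk] at h4 ⊢
    rcases Nat.lt_or_ge k 3 with h | h
    · interval_cases k <;> omega
    · exact le_trans (by norm_num) (Nat.pow_le_pow_right two_pos h)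
  refine hbalCore (balanced_or_triple h) hO (fun hle => ?_) S (S0502.result S.isPGroup' E₀ hE.1 hE.2 h8)
  have hc : IsMulCommutative ↥(E₀.map (S : Subgroup G).subtype) := by
    refine ⟨⟨?_⟩⟩
    rintro ⟨_, a, ha, rfl⟩ ⟨_, b, hb, rfl⟩
    exact Subtype.ext (congrArg Subtype.val (show a * b = b * a from (hcomm a b ha.1 hb.1).eq) :)
  have h5 := hle (E₀.map (S : Subgroup G).subtype) hc (by
    rintro _ ⟨a, ha, rfl⟩
    rw [← map_pow, ha.2, map_one])
  rw [Subgroup.card_map_of_injective (S : Subgroup G).subtype_injective] at h5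
  omega

end Cfsg.Agent.Fus.Unbalance
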