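import Cfsg.Agent.Lib.Fus.UnitTrace
import Cfsg.Agent.Lib.Classical.DicksonEmbed

/-!
Unitary groups inside orthogonal groups.
-/

set_option autoImplicit false
set_option linter.unusedSectionVars false

namespace Cfsg.Agent.Fus.UnitInOrth

open Cfsg.Agent.Classical Module Matrix
open Cfsg.Agent.Classical.EvenType (Plus)

variable {F K : Type*} [Field F] [Fintype F] [Field K] [Fintype K] [Algebra F K] {q m : ℕ}

theorem embed {ι : Type} [Fintype ι] [DecidableEq ι] {Qι : (ι → F) → F}
    (Q : QuadraticForm F (Fin m → K)) (hQ : ∀ v, algebraMap F K (Q v) = Cfsg.hermForm m K q v v)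
    (e : (ι → F) ≃ₗ[F] (Fin m → K)) (he : ∀ v, Q (e v) = Qι v) :
    ∃ φ : ↥(Cfsg.GU m K q) →* ↥(Cfsg.isometryGroup F Qι), Function.Injective φ := by
  let act : Matrix (Fin m) (Fin m) K →* Module.End F (ι → F) :=
    { toFun := fun M => (e.symm.toLinearMap).comp ((M.mulVecLin.restrictScalars F).comp e.toLinearMap)
      map_one' := LinearMap.ext fun v => by simp
      map_mul' := fun M N => LinearMap.ext fun v => by
        simp [Matrix.mulVec_mulVec] }
  let matOf : Matrix (Fin m) (Fin m) K →* Matrix ι ι F :=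
    (LinearMap.toMatrixAlgEquiv' (R := F) (n := ι)).toMonoidHom.comp act
  have hinj : Function.Injective matOf := by
    intro M N hMN
    have h1 : act M = act N := (LinearMap.toMatrixAlgEquiv' (R := F) (n := ι)).injective hMN
    refine Matrix.ext_iff_mulVec.2 fun v => ?_
    have h2 := congrArg e (LinearMap.congr_fun h1 (e.symm v))
    simpa [act] using h2
  have hmat : ∀ M v, matOf M *ᵥ v = e.symm (M *ᵥ e v) := fun M v => by
    show (LinearMap.toMatrix' (act M)) *ᵥ v = _
    rw [LinearMap.toMatrix'_mulVec]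
    rfl
  refine ⟨((Units.map matOf).comp (Cfsg.GU m K q).subtype).codRestrict _ fun g => ?_, ?_⟩
  · refine mem_isometryGroup.2 fun v => ?_
    show Qι (matOf ((g : GL (Fin m) K).val) *ᵥ v) = Qι v
    rw [hmat, ← he, LinearEquiv.apply_symm_apply, ← he]
    apply (algebraMap F K).injective
    rw [hQ, hQ]
    exact g.2 (e v) (e v)
  · intro g k hgk
    refine Subtype.ext (Units.ext (hinj ?_))
    exact congrArg (fun x : ↥(Cfsg.isometryGroup F Qι) => (x : GL ι F).val) hgk

theorem trivial_zero {ι : Type} [Fintype ι] [DecidableEq ι] (Qι : (ι → F) → F) :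
    ∃ φ : ↥(Cfsg.GU 0 K q) →* ↥(Cfsg.isometryGroup F Qι), Function.Injective φ :=
  ⟨1, fun _ _ _ => Subtype.ext (Units.ext (Subsingleton.elim _ _))⟩

theorem even_case (hF : Fintype.card F = q) (hK : Fintype.card K = q ^ 2) (hm : Even m) :
    ∃ φ : ↥(Cfsg.GU m K q) →* ↥(Cfsg.isometryGroup F (Cfsg.quadFormPlus m F)),
      Function.Injective φ := by
  obtain ⟨Q, hQ, -, hn⟩ := UnitTrace.exists_form (m := m) hF hK
  rcases Nat.eq_zero_or_pos m with rfl | hm0
  · exact trivial_zero _
  obtain ⟨j, rfl⟩ : ∃ j, m = j + 1 := ⟨m - 1, by omega⟩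
  rcases EvenType.exists_std hn (m := j) (UnitTrace.finrank_pi_ext hF hK) with ⟨-, e, he⟩ | ⟨hp, -⟩
  · exact embed Q hQ e fun v => by rw [he, qfPlus_apply]
  · exact absurd (UnitTrace.plus_of_even hF hK hQ hm) hp

theorem odd_case (hF : Fintype.card F = q) (hK : Fintype.card K = q ^ 2) (hm : Odd m) (a b : F)
    (hab : OrthAut.Aniso F a b) :
    ∃ φ : ↥(Cfsg.GU m K q) →* ↥(Cfsg.isometryGroup F (Cfsg.quadFormMinus (m - 1) F a b)),
      Function.Injective φ := by
  obtain ⟨Q, hQ, hpol, hn⟩ := UnitTrace.exists_form (m := m) hF hK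
  have hnp := UnitTrace.not_plus_of_odd hF hK hQ hpol hn hm
  obtain ⟨j, rfl⟩ : ∃ j, m = j + 1 := ⟨m - 1, by have := hm.pos; omega⟩
  have hd : finrank F ((Fin j ⊕ Fin j) ⊕ Fin 2 → F) = 2 * (j + 1) := by
    rw [Module.finrank_pi, OrthAut.card_iota]
  have hmp : ¬ Plus (qfMinus j F a b) := by
    rintro ⟨U, hU, hU2⟩
    have := singular_finrank_le_minus j hab U hU
    omega
  obtain ⟨e, he⟩ := EvenType.iso_of_type (nondegenerate_qfMinus j hab) hn hd
    (UnitTrace.finrank_pi_ext hF hK) (iff_of_false hmp hnp)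
  rw [Nat.add_sub_cancel]
  exact embed Q hQ e fun v => by rw [he, qfMinus_apply]

end Cfsg.Agent.Fus.UnitInOrth
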