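import Mathlib
import Cfsg.Prelude.Def_RootSubgroups
import Cfsg.Agent.Lib.Fus.TransvectionSubfield
import Cfsg.Agent.Lib.Classical.UnitRootGroups

/-!
The isotropic transvection groups of a unitary group form a degenerate class of root subgroups of
the group they generate, over the fixed field of the involution.
-/

set_option autoImplicit false
set_option linter.unusedSectionVars false

namespace Cfsg.Agent.Fus.UnitRoot

open Matrix
open Cfsg.Agent.Classical
open Cfsg.Agent.Classical.PSUAut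

variable {F : Type*} [Field F] [Fintype F] {q n : ℕ}

local notation "V" => (Fin n → F)
local notation "Mn" => Matrix (Fin n) (Fin n) F
local notation "h" => Cfsg.hermForm n F q

/-- The transvection group of a vector. -/
def uT (p : V) : Subgroup (Cfsg.SU n F q) :=
  Subgroup.closure {g : Cfsg.SU n F q |
    (∀ v : V, ∃ c : F, ((g : Matrix.SpecialLinearGroup (Fin n) F) : Mn) *ᵥ v = v + c • p) ∧
      ∀ v : V, h v p = 0 → ((g : Matrix.SpecialLinearGroup (Fin n) F) : Mn) *ᵥ v = v}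

variable (F q n) in
/-- The isotropic transvection groups. -/
def uS : Set (Subgroup (Cfsg.SU n F q)) := {A | ∃ p : V, p ≠ 0 ∧ h p p = 0 ∧ A = uT p}

variable (F q n) in
/-- The group they generate. -/
abbrev uG : Subgroup (Cfsg.SU n F q) := ⨆ B ∈ uS F q n, B

variable (F q n) in
/-- They, as subgroups of the group they generate. -/
def uFam : Set (Subgroup (uG F q n)) :=
  (fun A : Subgroup (Cfsg.SU n F q) => A.subgroupOf (uG F q n)) '' uS F q n

/-- The matrices of the elements of the group generated. -/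
def rep : (uG F q n) →* Mn where
  toFun g := suVal g.1
  map_one' := rfl
  map_mul' _ _ := rfl

theorem rep_injective : Function.Injective (rep (F := F) (q := q) (n := n)) :=
  fun _ _ e => Subtype.ext (suVal_ext e)

section
variable (hF : Fintype.card F = q ^ 2)
local notation "cj" => qFrob hF
include hF

theorem uT_mem_iff {p : V} (hp : p ≠ 0) (hpp : h p p = 0) {g : Cfsg.SU n F q} :
    g ∈ uT p ↔ ∃ c : F, c + cj c = 0 ∧ suVal g = eMat q p 0 c := by
  constructor
  · intro hg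
    induction hg using Subgroup.closure_induction with
    | mem g hg =>
      obtain ⟨h1, h2⟩ := hg
      obtain ⟨x₀, hx₀⟩ := exists_h_eq hF hp 1
      have hx : h x₀ p = 1 := by rw [← cj_h hF, hx₀, map_one]
      obtain ⟨c, hc⟩ := h1 x₀
      have hgx : ∀ x : V, suVal g *ᵥ x = x + (c * h x p) • p := by
        intro x
        have hd : h (x - h x p • x₀) p = 0 := by rw [h_sub_left, h_smul_left, hx, mul_one, sub_self]
        have e := h2 _ hd
        rw [Matrix.mulVec_sub, Matrix.mulVec_smul, hc] at e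
        rw [sub_eq_iff_eq_add] at e
        rw [e, smul_add, smul_smul, mul_comm c]
        abel
      refine ⟨c, ?_, ?_⟩
      · have e := su_form g x₀ x₀
        rw [hgx x₀, hx, mul_one, h_add_left, h_add_right hF, h_add_right hF, h_smul_left,
          h_smul_left, h_smul_right hF, h_smul_right hF, hx, hx₀, hpp] at e
        linear_combination e
      · exact Matrix.ext_iff_mulVec.2 fun x => by rw [hgx, tv_apply' hF]
    | one => exact ⟨0, by simp, by rw [eMat_zero hF]; rfl⟩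
    | mul a b _ _ ha hb =>
      obtain ⟨c, hc, hc'⟩ := ha
      obtain ⟨d, hd, hd'⟩ := hb
      refine ⟨c + d, by rw [map_add]; linear_combination hc + hd, ?_⟩
      rw [suVal_mul, hc', hd', eMat_mul hF (eOK_transvection hF hpp hc) (eOK_transvection hF hpp hd)]
      refine Matrix.ext_iff_mulVec.2 fun x => ?_
      simp only [add_zero, tv_apply' hF, h_zero_left, sub_zero, zero_sub]
    | inv a _ ha =>
      obtain ⟨c, hc, hc'⟩ := ha
      have hd : -c + cj (-c) = 0 := by rw [map_neg]; linear_combination -hc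
      refine ⟨-c, hd, ?_⟩
      have e : eMat q p 0 c * eMat q p 0 (-c) = 1 := by
        refine Matrix.ext_iff_mulVec.2 fun x => ?_
        rw [← Matrix.mulVec_mulVec, tv_apply' hF, tv_apply' hF, h_add_left, h_smul_left, hpp,
          mul_zero, add_zero, Matrix.one_mulVec]
        module
      calc suVal a⁻¹ = suVal a⁻¹ * (eMat q p 0 c * eMat q p 0 (-c)) := by rw [e, mul_one]
        _ = _ := by rw [← mul_assoc, ← hc', suVal_inv_mul, one_mul]
  · rintro ⟨c, -, hc⟩
    refine Subgroup.subset_closure ⟨fun v => ⟨c * h v p, ?_⟩, fun v hv => ?_⟩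
    · show suVal g *ᵥ v = _
      rw [hc, tv_apply' hF]
    · show suVal g *ᵥ v = _
      rw [hc, tv_apply' hF, hv, mul_zero, zero_smul, add_zero]

end

/-- The axis of a transvection, scaled by an element of trace zero. -/
def axis (θ : F) (q : ℕ) (p : V) : V := θ • fun i => p i ^ q

theorem axis_dot (θ : F) (p x : V) : axis θ q p ⬝ᵥ x = θ * h x p := by
  rw [axis, smul_dotProduct, smul_eq_mul]
  congr 1
  simp [Cfsg.hermForm, dotProduct, mul_comm]

section
variable {hF : Fintype.card F = q ^ 2} {L : Type*} [Field L] {ι : L →+* F}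

local notation "cj" => qFrob hF

variable {θ : F}

/-- The data identifying `L` with the fixed field of the involution. -/
structure IsFixedField (hF : Fintype.card F = q ^ 2) (ι : L →+* F) (θ : F) : Prop where
  fix : ∀ a, qFrob hF (ι a) = ι a
  surj : ∀ c, qFrob hF c = c → ∃ a, ι a = c
  ne : θ ≠ 0
  trace : θ + qFrob hF θ = 0

theorem IsFixedField.cj_theta (hL : IsFixedField hF ι θ) : cj θ = -θ :=
  eq_neg_of_add_eq_zero_right hL.trace

theorem tv_eq (hF : Fintype.card F = q ^ 2) (p : V) (c θ : F) :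
    eMat q p 0 (c * θ) = TV.mat p (axis θ q p) c := by
  refine Matrix.ext_iff_mulVec.2 fun x => ?_
  rw [tv_apply' hF, TV.mat, Matrix.add_mulVec, Matrix.one_mulVec, Matrix.smul_mulVec,
    Matrix.vecMulVec_mulVec, op_smul_eq_smul, axis_dot, smul_smul, mul_assoc]

theorem le_uG {p : V} (hp : p ≠ 0) (hpp : h p p = 0) : uT (q := q) p ≤ uG F q n :=
  le_iSup₂ (f := fun B (_ : B ∈ uS F q n) => B) (uT p) ⟨p, hp, hpp, rfl⟩

theorem subgroupOf_uT (hL : IsFixedField hF ι θ) {p : V} (hp : p ≠ 0) (hpp : h p p = 0) :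
    (uT (q := q) p).subgroupOf (uG F q n) = TV.subRoot rep ι p (axis θ q p) := by
  have h0 : axis θ q p ⬝ᵥ p = 0 := by rw [axis_dot, hpp, mul_zero]
  ext g
  rw [Subgroup.mem_subgroupOf, uT_mem_iff hF hp hpp, TV.mem_subRoot rep ι rep_injective h0]
  constructor
  · rintro ⟨c, hc, hg⟩
    obtain ⟨a, ha⟩ := hL.surj (c / θ) (by
      rw [map_div₀, hL.cj_theta, div_neg, ← neg_div, eq_neg_of_add_eq_zero_right hc, neg_neg])
    exact ⟨a, by rw [← tv_eq hF, ha, div_mul_cancel₀ _ hL.ne]; exact hg⟩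
  · rintro ⟨a, ha⟩
    refine ⟨ι a * θ, by rw [map_mul, hL.fix, ← mul_add, hL.trace, mul_zero], ?_⟩
    rw [tv_eq hF]
    exact ha

theorem exists_element (hL : IsFixedField hF ι θ) {p : V} (hp : p ≠ 0) (hpp : h p p = 0) (a : L) :
    ∃ g : uG F q n, rep g = TV.mat p (axis θ q p) (ι a) := by
  have hc : ι a * θ + cj (ι a * θ) = 0 := by rw [map_mul, hL.fix, ← mul_add, hL.trace, mul_zero]
  exact ⟨⟨eSU hF (eOK_transvection hF hpp hc), le_uG hp hpp
    ((uT_mem_iff hF hp hpp).2 ⟨_, hc, rfl⟩)⟩, tv_eq hF p (ι a) θ⟩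

theorem uFam_eq (hL : IsFixedField hF ι θ) : uFam F q n =
    {A | ∃ p : V, p ≠ 0 ∧ h p p = 0 ∧ A = TV.subRoot rep ι p (axis θ q p)} := by
  ext A
  constructor
  · rintro ⟨_, ⟨p, hp, hpp, rfl⟩, rfl⟩
    exact ⟨p, hp, hpp, subgroupOf_uT hL hp hpp⟩
  · rintro ⟨p, hp, hpp, rfl⟩
    exact ⟨_, ⟨p, hp, hpp, rfl⟩, subgroupOf_uT hL hp hpp⟩

theorem mem_uFam (hL : IsFixedField hF ι θ) {p : V} (hp : p ≠ 0) (hpp : h p p = 0) :
    TV.subRoot rep ι p (axis θ q p) ∈ uFam F q n := by
  rw [uFam_eq hL]; exact ⟨p, hp, hpp, rfl⟩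

theorem pair_cases (hL : IsFixedField hF ι θ) {v w : V} (hv : v ≠ 0) (hvv : h v v = 0)
    (hw : w ≠ 0) (hww : h w w = 0) :
    (h v w = 0 ∧ ⁅TV.subRoot (rep (F := F) (q := q) (n := n)) ι v (axis θ q v),
        TV.subRoot (rep (F := F) (q := q) (n := n)) ι w (axis θ q w)⁆ = ⊥) ∨
    (h v w ≠ 0 ∧ Cfsg.IsRankOnePair (TV.subRoot (rep (F := F) (q := q)) ι v (axis θ q v))
        (TV.subRoot rep ι w (axis θ q w)) ∧
      Cfsg.IsPSL2PairOver L (TV.subRoot (rep (F := F) (q := q)) ι v (axis θ q v))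
        (TV.subRoot rep ι w (axis θ q w))) := by
  have h0 : axis θ q v ⬝ᵥ v = 0 := by rw [axis_dot, hvv, mul_zero]
  have h0' : axis θ q w ⬝ᵥ w = 0 := by rw [axis_dot, hww, mul_zero]
  by_cases hvw : h v w = 0
  · exact Or.inl ⟨hvw, TV.commutator_subRoot_eq_bot rep ι rep_injective h0 h0'
      (by rw [axis_dot, h_comm_zero hF hvw, mul_zero]) (by rw [axis_dot, hvw, mul_zero])⟩
  refine Or.inr ⟨hvw, ?_⟩
  have hwv : h w v ≠ 0 := fun e => hvw (h_comm_zero hF e)
  obtain ⟨r, hr⟩ := hL.surj (axis θ q v ⬝ᵥ w * (axis θ q w ⬝ᵥ v)) (by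
    rw [axis_dot, axis_dot, map_mul, map_mul, map_mul, hL.cj_theta, cj_h hF, cj_h hF]; ring)
  have hr0 : r ≠ 0 := by
    rintro rfl
    rw [map_zero, axis_dot, axis_dot] at hr
    exact mul_ne_zero (mul_ne_zero hL.ne hwv) (mul_ne_zero hL.ne hvw) hr.symm
  refine TV.rankOne_subRoot rep ι rep_injective h0 h0' hr0 hr.symm
    (exists_element hL hv hvv) (exists_element hL hw hww) ?_
  intro e
  obtain ⟨g, hg⟩ := exists_element hL hv hvv 1
  obtain ⟨a, ha⟩ := (TV.mem_subRoot rep ι rep_injective h0').1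
    (e ▸ (TV.mem_subRoot rep ι rep_injective h0).2 ⟨_, hg⟩)
  rw [hg, map_one, ← tv_eq hF, one_mul, ← tv_eq hF] at ha
  obtain ⟨c, -, hc⟩ := exists_smul_of_tv_eq hF hv hL.ne ha
  exact hvw (by rw [hc, h_smul_left, hww, mul_zero])

theorem conjBy_subRoot (hL : IsFixedField hF ι θ) {p : V} (hp : p ≠ 0) (hpp : h p p = 0)
    (g : uG F q n) :
    Cfsg.conjBy (TV.subRoot rep ι p (axis θ q p)) g =
      TV.subRoot rep ι (suVal g.1 *ᵥ p) (axis θ q (suVal g.1 *ᵥ p)) := by
  have hp' : suVal g.1 *ᵥ p ≠ 0 := fun e => hp (su_injective g.1 e)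
  have hpp' : h (suVal g.1 *ᵥ p) (suVal g.1 *ᵥ p) = 0 := by rw [su_form, hpp]
  have h0 : axis θ q p ⬝ᵥ p = 0 := by rw [axis_dot, hpp, mul_zero]
  have h0' : axis θ q (suVal g.1 *ᵥ p) ⬝ᵥ (suVal g.1 *ᵥ p) = 0 := by
    rw [axis_dot, hpp', mul_zero]
  ext x
  rw [mem_conjBy, TV.mem_subRoot rep ι rep_injective h0, TV.mem_subRoot rep ι rep_injective h0']
  refine exists_congr fun a => ?_
  have key := eMat_conj hF g.1 p 0 (ι a * θ)
  rw [Matrix.mulVec_zero] at key
  rw [← tv_eq hF, ← tv_eq hF, ← key]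
  show suVal (g.1⁻¹ * x.1 * g.1) = _ ↔ suVal x.1 = _
  rw [suVal_mul, suVal_mul]
  constructor
  · intro e
    rw [← e]
    simp only [← mul_assoc, suVal_mul_inv, one_mul]
    rw [mul_assoc, suVal_mul_inv, mul_one]
  · intro e
    rw [e]
    simp only [← mul_assoc, suVal_inv_mul, one_mul]
    rw [mul_assoc, suVal_inv_mul, mul_one]

theorem isRootSubgroupSet (hL : IsFixedField hF ι θ) : Cfsg.IsRootSubgroupSet (uFam F q n) := by
  refine ⟨?_, ?_, ?_, ?_, ?_⟩
  · rintro A hA
    rw [uFam_eq hL] at hA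
    obtain ⟨p, hp, hpp, rfl⟩ := hA
    rcases pair_cases hL hp hpp hp hpp with ⟨-, hb⟩ | ⟨hne, -⟩
    · exact ⟨⟨fun a b => Subtype.ext (commute_of_commutator_eq_bot hb a.2 b.2)⟩⟩
    · exact absurd hpp hne
  · rintro A hA
    rw [uFam_eq hL] at hA
    obtain ⟨p, hp, hpp, rfl⟩ := hA
    intro e
    obtain ⟨g, hg⟩ := exists_element hL hp hpp 1
    have : g ∈ TV.subRoot rep ι p (axis θ q p) := Subgroup.subset_closure ⟨1, hg⟩
    rw [e, Subgroup.mem_bot] at this
    rw [this, map_one, map_one, ← tv_eq hF, one_mul, ← eMat_zero hF p] at hg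
    exact hL.ne (tv_coeff_inj hF hp hg).symm
  · refine Subgroup.map_injective (uG F q n).subtype_injective ?_
    rw [← MonoidHom.range_eq_map, Subgroup.range_subtype, Subgroup.map_iSup]
    refine le_antisymm (iSup_le fun A => ?_) (iSup₂_le fun B hB => ?_)
    · rw [Subgroup.map_iSup]
      exact iSup_le fun hA => Subgroup.map_subtype_le _
    · refine le_iSup_of_le (B.subgroupOf (uG F q n)) ?_
      rw [Subgroup.map_iSup]
      refine le_iSup_of_le ⟨B, hB, rfl⟩ ?_
      rw [Subgroup.subgroupOf_map_subtype]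
      exact le_inf le_rfl (le_iSup₂ (f := fun B (_ : B ∈ uS F q n) => B) B hB)
  · rintro A hA g
    rw [uFam_eq hL] at hA
    obtain ⟨p, hp, hpp, rfl⟩ := hA
    rw [conjBy_subRoot hL hp hpp]
    exact mem_uFam hL (fun e => hp (su_injective g.1 e)) (by rw [su_form, hpp])
  · rintro A hA B hB
    rw [uFam_eq hL] at hA hB
    obtain ⟨v, hv, hvv, rfl⟩ := hA
    obtain ⟨w, hw, hww, rfl⟩ := hB
    rcases pair_cases hL hv hvv hw hww with ⟨-, hb⟩ | ⟨-, hb, -⟩
    exacts [Or.inl hb, Or.inr (Or.inl hb)]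

theorem degenerate (hL : IsFixedField hF ι θ) : Cfsg.IsDegenerateRootSet (uFam F q n) := by
  rintro A hA B hB
  have hB' := hB
  rw [uFam_eq hL] at hA hB'
  obtain ⟨v, hv, hvv, rfl⟩ := hA
  obtain ⟨w, hw, hww, rfl⟩ := hB'
  rcases pair_cases hL hv hvv hw hww with ⟨-, hb⟩ | ⟨-, hb, -⟩
  · exact TV.not_rootCommutatorCase_of_commute (isRootSubgroupSet hL) hb
  · exact TV.not_rootCommutatorCase_of_rankOne (isRootSubgroupSet hL) hB hb

theorem isKRootSubgroupSet (hL : IsFixedField hF ι θ) :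
    Cfsg.IsKRootSubgroupSet L (uFam F q n) := by
  refine ⟨isRootSubgroupSet hL, ?_⟩
  rintro A hA B hB hr
  rw [uFam_eq hL] at hA hB
  obtain ⟨v, hv, hvv, rfl⟩ := hA
  obtain ⟨w, hw, hww, rfl⟩ := hB
  rcases pair_cases hL hv hvv hw hww with ⟨-, hb⟩ | ⟨-, -, hb⟩
  · exact absurd hb (RankOne.commutator_ne_bot hr (RankOne.self_mem _ _) (RankOne.right_mem hr)
      hr.ne)
  · exact hb

theorem exists_nonorth (hL : IsFixedField hF ι θ) {v w : V} (hv : v ≠ 0) (hvv : h v v = 0)
    (hw : w ≠ 0) (hww : h w w = 0) :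
    ∃ z : V, z ≠ 0 ∧ h z z = 0 ∧ h v z ≠ 0 ∧ h z w ≠ 0 := by
  obtain ⟨v', P⟩ := exists_pair hF hv hvv
  obtain ⟨w', Q⟩ := exists_pair hF hw hww
  have suff : ∀ z : V, h z z = 0 → h v z ≠ 0 → h w z ≠ 0 →
      ∃ z : V, z ≠ 0 ∧ h z z = 0 ∧ h v z ≠ 0 ∧ h z w ≠ 0 := fun z h1 h2 h3 =>
    ⟨z, fun e => h2 (by rw [e, h_zero_right hF]), h1, h2, fun e => h3 (h_comm_zero hF e)⟩
  by_cases e1 : h w v' = 0
  swap
  · exact suff v' P.ff (by rw [P.ef]; exact one_ne_zero) e1
  by_cases e2 : h v w' = 0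
  swap
  · exact suff w' Q.ff e2 (by rw [Q.ef]; exact one_ne_zero)
  obtain ⟨c, hc, hs⟩ : ∃ c : F, c ≠ 0 ∧ c * h w' v' + cj (c * h w' v') = 0 := by
    by_cases hs : h w' v' = 0
    · exact ⟨1, one_ne_zero, by rw [hs]; simp⟩
    · exact ⟨θ / h w' v', div_ne_zero hL.ne hs, by rw [div_mul_cancel₀ _ hs]; exact hL.trace⟩
  refine suff (v' + c • w') ?_ ?_ ?_
  · rw [h_add_left, h_add_right hF, h_add_right hF, h_smul_left, h_smul_left, h_smul_right hF,
      h_smul_right hF, P.ff, Q.ff]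
    rw [map_mul, cj_h hF] at hs
    linear_combination hs
  · rw [h_add_right hF, h_smul_right hF, P.ef, e2, mul_zero, add_zero]
    exact one_ne_zero
  · rw [h_add_right hF, h_smul_right hF, Q.ef, e1, mul_one, zero_add]
    exact (map_ne_zero _).2 hc

theorem connected (hL : IsFixedField hF ι θ) :
    Cfsg.IsConnectedFamily (Cfsg.FAdj (uFam F q n)) (uFam F q n) := by
  rintro A hA B hB
  rw [uFam_eq hL] at hA hB
  obtain ⟨v, hv, hvv, rfl⟩ := hA
  obtain ⟨w, hw, hww, rfl⟩ := hB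
  obtain ⟨z, hz, hzz, h1, h2⟩ := exists_nonorth hL hv hvv hw hww
  have key : ∀ {x y : V}, x ≠ 0 → h x x = 0 → y ≠ 0 → h y y = 0 → h x y ≠ 0 →
      Cfsg.FAdj (uFam F q n) (TV.subRoot rep ι x (axis θ q x))
        (TV.subRoot rep ι y (axis θ q y)) := by
    intro x y hx hxx hy hyy hxy
    rcases pair_cases hL hx hxx hy hyy with ⟨e, -⟩ | ⟨-, e, -⟩
    · exact absurd e hxy
    · exact ⟨mem_uFam hL hx hxx, mem_uFam hL hy hyy, e⟩
  exact (Relation.ReflTransGen.single (key hv hvv hz hzz h1)).tail (key hz hzz hw hww h2)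

theorem isConjClass (hL : IsFixedField hF ι θ) (hn : 2 ≤ n) :
    Cfsg.IsConjClassOfSubgroups (uFam F q n) := by
  obtain ⟨v, hv, hvv⟩ := exists_isotropic hF hn
  refine ⟨⟨_, mem_uFam hL hv hvv⟩, fun A hA B hB => ?_⟩
  have hr := connected hL A hA B hB
  clear hB
  induction hr with
  | refl => exact ⟨1, (conjBy_one A).symm⟩
  | tail _ hbc ih =>
    obtain ⟨g, rfl⟩ := ih
    obtain ⟨x, -, hx⟩ := RankOne.right_mem hbc.2.2
    exact ⟨x * g, by rw [hx, conjBy_conjBy]⟩

end

universe u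

theorem exists_fixedField {F : Type u} [Field F] [Fintype F] (hF : Fintype.card F = q ^ 2) :
    ∃ (L : Type) (_ : Field L) (_ : Fintype L), Fintype.card L = q ∧
      ∃ (ι : L →+* F) (θ : F), IsFixedField hF ι θ := by
  obtain ⟨p, hp⟩ := CharP.exists F
  haveI : Fact p.Prime := ⟨CharP.char_is_prime F p⟩
  obtain ⟨m, hpp, hm⟩ := FiniteField.card F p
  have hq2 : q ∣ p ^ (m : ℕ) := by rw [← hm, hF]; exact dvd_pow_self q two_ne_zero
  obtain ⟨a, -, ha⟩ := (Nat.dvd_prime_pow hpp).1 hq2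
  have ha0 : a ≠ 0 := by
    rintro rfl
    have := Cfsg.Agent.Classical.two_le_q hF
    simp [ha] at this
  have hm2 : (m : ℕ) = a * 2 := by
    refine Nat.pow_right_injective hpp.two_le ?_
    show p ^ (m : ℕ) = p ^ (a * 2)
    rw [pow_mul, ← ha, ← hF, hm]
  letI : Algebra (ZMod p) F := ZMod.algebra F p
  have hrF : Module.finrank (ZMod p) F = a * 2 := by
    have := (Module.card_eq_pow_finrank : Fintype.card F = Fintype.card (ZMod p) ^ Module.finrank (ZMod p) F)
    rw [ZMod.card, hm, hm2] at this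
    exact (Nat.pow_right_injective hpp.two_le this).symm
  obtain ⟨φ⟩ := FiniteField.nonempty_algHom_of_finrank_dvd (F := ZMod p) (K := GaloisField p a)
    (L := F) (by rw [GaloisField.finrank p ha0, hrF]; exact dvd_mul_right a 2)
  letI : Fintype (GaloisField p a) := Fintype.ofFinite _
  have hcard : Fintype.card (GaloisField p a) = q := by
    rw [← Nat.card_eq_fintype_card, GaloisField.card p a ha0, ha]
  refine ⟨GaloisField p a, inferInstance, inferInstance, hcard, φ.toRingHom, ?_⟩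
  obtain ⟨θ, hθ, ht⟩ := exists_trace_zero hF
  refine ⟨θ, ?_, ?_, hθ, ht⟩
  · intro x
    show qFrob hF (φ x) = φ x
    rw [Cfsg.Agent.Classical.qFrob_apply, ← map_pow, ← hcard, FiniteField.pow_card]
  · intro c hc
    classical
    have hq := Cfsg.Agent.Classical.two_le_q hF
    have h1 : Finset.univ.image φ ⊆ (Finset.univ.filter fun c : F => c ^ q = c) := by
      intro y hy
      obtain ⟨x, -, rfl⟩ := Finset.mem_image.1 hy
      simp only [Finset.mem_filter, Finset.mem_univ, true_and]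
      rw [← map_pow, ← hcard, FiniteField.pow_card]
    have h2 : (Finset.univ.filter fun c : F => c ^ q = c).card ≤ q := by
      have hne : (Polynomial.X ^ q - Polynomial.X : Polynomial F) ≠ 0 :=
        FiniteField.X_pow_card_sub_X_ne_zero F (by omega)
      calc _ ≤ (Polynomial.X ^ q - Polynomial.X : Polynomial F).roots.toFinset.card :=
            Finset.card_le_card fun y hy => by
              simp only [Finset.mem_filter, Finset.mem_univ, true_and] at hy
              simp [Polynomial.mem_roots hne, hy]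
        _ ≤ (Polynomial.X ^ q - Polynomial.X : Polynomial F).roots.card := Multiset.toFinset_card_le _
        _ ≤ _ := Polynomial.card_roots' _
        _ = q := FiniteField.X_pow_card_sub_X_natDegree_eq F (by omega)
    have h3 : (Finset.univ.image φ).card = q := by
      rw [Finset.card_image_of_injective _ (show Function.Injective φ from φ.toRingHom.injective), Finset.card_univ, hcard]
    have heq := Finset.eq_of_subset_of_card_le h1 (h3 ▸ h2)
    rw [Cfsg.Agent.Classical.qFrob_apply] at hc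
    have : c ∈ Finset.univ.image φ := by rw [heq]; simp [hc]
    obtain ⟨x, -, hx⟩ := Finset.mem_image.1 this
    exact ⟨x, hx⟩

end Cfsg.Agent.Fus.UnitRoot
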