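import Cfsg.Agent.Lib.Fus.UnitSylow
import Cfsg.Agent.Lib.Fus.PSLUnipotent
import Cfsg.Agent.Lib.Fus.SimpleCriterion
import Cfsg.Agent.Lib.Grp.Frattini

/-!
The fusion system of `PSU_n(q)`, `n ≥ 4`, in defining characteristic is simple.
-/

set_option autoImplicit false
set_option linter.style.haveILetI false
set_option linter.unusedSectionVars false

open scoped Classical

namespace Cfsg.Agent.Fus.UnitN

open Matrix Cfsg.Agent.Classical Cfsg.Agent.Classical.PSUAut

variable {F : Type*} [Field F] [Fintype F] {q n : ℕ}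

local notation "V" => (Fin n → F)
local notation "Mn" => Matrix (Fin n) (Fin n) F
local notation "SUn" => SU n F q

variable (hF : Fintype.card F = q ^ 2) {p : ℕ} [hpF : Fact p.Prime] [hpC : CharP F p]

local notation "h" => hermForm n F q
local notation "cj" => qFrob hF

variable {G : Type*} [Group G] {θ : SU n F q →* G}
variable (hker : ∀ s : SU n F q, θ s = 1 ↔ ∃ l : F, suVal s = l • (1 : Matrix (Fin n) (Fin n) F))

include hF

/-- An isotropic vector inside the orthogonal space of a pair. -/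
theorem exists_iso_next (hn : 4 ≤ n) {e f : V} (P : IsPair (q := q) e f) :
    ∃ z ∈ nextW (q := q) (⊤ : Submodule F V) e f, z ≠ 0 ∧ h z z = 0 := by
  refine (frame_dichotomy hF (nextW (q := q) (⊤ : Submodule F V) e f)).resolve_right fun hline => ?_
  have hmem : ∀ x : V, wPart (q := q) e f x ∈ nextW (q := q) (⊤ : Submodule F V) e f :=
    fun x => ⟨trivial, wPart_mem hF P x⟩
  obtain ⟨u, hue, huf, huu⟩ := exists_aniso_orth hF (by omega) P
  have hu0 : u ≠ 0 := fun h0 => huu (by rw [h0, h_zero_left])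
  have h1 : (⊤ : Submodule F V) ≤ Submodule.span F (({e, f, u} : Finset V) : Set V) := by
    intro x _
    obtain ⟨a, ha⟩ := hline u ⟨trivial, hue, huf⟩ hu0 _ (hmem x)
    rw [wPart_eq (q := q) e f x, ha]
    refine Submodule.add_mem _ (Submodule.add_mem _ ?_ ?_) ?_ <;>
      exact Submodule.smul_mem _ _ (Submodule.subset_span (by simp))
  have h2 := (Submodule.finrank_mono h1).trans (finrank_span_finset_le_card _)
  rw [finrank_top, Module.finrank_pi, Fintype.card_fin] at h2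
  have := Finset.card_le_three (a := e) (b := f) (c := u)
  omega

/-- The standing data: a Sylow subgroup, the vector it fixes and an isotropic plane. -/
structure Setup (p : ℕ) (P : Subgroup SUn) (e e2 f f2 : V) : Prop where
  hP : IsPGroup p P
  sylow : ∀ X : Subgroup SUn, IsPGroup p X → P ≤ X → X ≤ P
  fix : ∀ s ∈ P, suVal s *ᵥ e = e
  D : Plane (q := q) e e2 f f2
  stab : ∀ s ∈ P, suVal s *ᵥ e2 - e2 ∈ Submodule.span F {e}

/-- The subgroup generated by the `p`-elements stabilising the plane. -/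
def kPlane (p : ℕ) (e e2 : V) : Subgroup SUn :=
  Subgroup.closure {s | ((∀ v ∈ span2 (F := F) e e2, suVal s *ᵥ v ∈ span2 (F := F) e e2) ∧
    ∀ v ∈ span2 (F := F) e e2, suVal s⁻¹ *ᵥ v ∈ span2 (F := F) e e2) ∧ ∃ k : ℕ, s ^ p ^ k = 1}

include hpF hpC hker

/-- Elements of `p`-power order are determined by their image. -/
theorem eq_of_map_eq {s t : SUn} (hn : 1 ≤ n) (hs : ∃ k, s ^ p ^ k = 1) (ht : ∃ k, t ^ p ^ k = 1)
    (hst : θ s = θ t) : s = t := by
  obtain ⟨i, hi⟩ := hs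
  obtain ⟨j, hj⟩ := ht
  obtain ⟨l, hl⟩ := (hker (t⁻¹ * s)).1 (by rw [map_mul, map_inv, hst, inv_mul_cancel])
  have he : suVal s = l • suVal t := by
    rw [← mul_one (suVal t), ← Matrix.mul_smul, ← hl, ← suVal_mul, mul_inv_cancel_left]
  have hpow : l ^ p ^ (i + j) = 1 := by
    have h1 : suVal (s ^ p ^ (i + j)) = l ^ p ^ (i + j) • suVal (t ^ p ^ (i + j)) := by
      rw [suVal_pow, suVal_pow, he, smul_pow]
    have hs1 : s ^ p ^ (i + j) = 1 := by rw [pow_add, pow_mul, hi, one_pow]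
    have ht1 : t ^ p ^ (i + j) = 1 := by rw [add_comm, pow_add, pow_mul, hj, one_pow]
    rw [hs1, ht1, suVal_one'] at h1
    have := congrFun (congrFun h1 ⟨0, hn⟩) ⟨0, hn⟩
    simp only [Matrix.smul_apply, Matrix.one_apply_eq, smul_eq_mul, mul_one] at this
    exact this.symm
  rw [PSLN.eq_one_of_pow_prime_pow_eq_one (p := p) hpow, one_smul] at he
  exact suVal_ext he

omit hker in
theorem pow_of_mem {P : Subgroup SUn} (hP : IsPGroup p P) {s : SUn} (hs : s ∈ P) :
    ∃ k, s ^ p ^ k = 1 := by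
  obtain ⟨k, hk⟩ := hP ⟨s, hs⟩
  exact ⟨k, by simpa using congrArg Subtype.val hk⟩

theorem conj_eq_of_map_eq {g u v : SUn} (hn : 1 ≤ n) (hu : ∃ k, u ^ p ^ k = 1)
    (hv : ∃ k, v ^ p ^ k = 1) (he : θ g * θ v * (θ g)⁻¹ = θ u) : g * v * g⁻¹ = u := by
  refine eq_of_map_eq hF hker hn ?_ hu (by rw [map_mul, map_mul, map_inv, he])
  obtain ⟨k, hk⟩ := hv
  exact ⟨k, by rw [conj_pow, hk, mul_one, mul_inv_cancel]⟩

theorem normalizer_lift {P : Subgroup SUn} (hn : 1 ≤ n) (hP : IsPGroup p P) {g : SUn}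
    (hg : θ g ∈ Subgroup.normalizer ((P.map θ : Subgroup G) : Set G)) {u : SUn} (hu : u ∈ P) :
    g⁻¹ * u * g ∈ P := by
  have hmem : (θ g)⁻¹ * θ u * θ g ∈ P.map θ := by
    have := (Subgroup.mem_normalizer_iff.1 (Subgroup.inv_mem _ hg) (θ u)).1 ⟨u, hu, rfl⟩
    rwa [inv_inv] at this
  obtain ⟨v, hv, hvu⟩ := hmem
  have := conj_eq_of_map_eq hF hker hn (pow_of_mem hF hP hu) (pow_of_mem hF hP hv) (g := g)
    (by rw [hvu]; group)
  rw [← this]
  simpa [mul_assoc] using hv

omit hker in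
theorem exists_setup (hn : 4 ≤ n) (P : Sylow p SUn) :
    ∃ e e2 f f2 : V, Setup p (P : Subgroup SUn) e e2 f f2 := by
  obtain ⟨z0, hz0, hz0z⟩ := exists_isotropic (n := n) hF (by omega)
  obtain ⟨e, -, he0, hee, hfix'⟩ := exists_fixed_isotropic (p := p) hF (frame_top (q := q))
    (Submodule.mem_top (x := z0)) hz0 hz0z P.2 (fun s _ => gW_top hF s)
  obtain ⟨f, P1⟩ := exists_pair hF he0 hee
  have hfix : ∀ s ∈ (P : Subgroup SUn) ⊓ gW (⊤ : Submodule F V), suVal s *ᵥ e = e :=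
    fun s hs => hfix' s hs.1
  have hW1 := (frame_top (q := q) (n := n) (F := F)).next hF P1 (Submodule.mem_top (x := e))
    (Submodule.mem_top (x := f))
  obtain ⟨z1, hz1, hz10, hz1z⟩ := exists_iso_next hF hn P1
  have hmax1 := maxIn_next hF frame_top P.2 (maxIn_top hF P) P1 Submodule.mem_top Submodule.mem_top hfix
  obtain ⟨e2, he2, he20, he2z, hfix2⟩ := exists_fixed_isotropic (p := p) hF hW1 hz1 hz10 hz1z
    (X := (P : Subgroup SUn) ⊓ gW (nextW (q := q) (⊤ : Submodule F V) e f))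
    (P.2.to_le inf_le_left) inf_le_right
  obtain ⟨f2, hf2, P2⟩ := exists_partner hF hW1 he2 he20 he2z
  refine ⟨e, e2, f, f2, P.2, fun X hX hle => (P.3 hX hle).le, hfix',
    ⟨P1, P2, he2.2.1, he2.2.2, hf2.2.1, hf2.2.2⟩, fun s hs => ?_⟩
  obtain ⟨w, c, H, hw, hrest⟩ := exists_heis_split hF frame_top P1 Submodule.mem_top Submodule.mem_top
    (gW_top hF s) (hfix' s hs)
  have hE : eSU hF H ∈ (P : Subgroup SUn) :=
    heis_le hF P.2 (maxIn_top hF P) P1.ee hfix ⟨⟨w, c, H, rfl⟩, gW_top hF _⟩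
  have h2 := hfix2 _ ⟨Subgroup.mul_mem _ (Subgroup.inv_mem _ hE) hs, hrest⟩
  have h3 : suVal s *ᵥ e2 = suVal (eSU hF H) *ᵥ e2 := by
    conv_rhs => rw [← h2, ← mulVec_mul, mul_inv_cancel_left]
  rw [h3, eSU_apply hF, add_sub_cancel_left, he2.2.1]
  refine Submodule.mem_span_singleton.2 ⟨-h e2 w, ?_⟩
  simp

omit hker in
theorem heisU_le {P : Subgroup SUn} {e e2 f f2 : V} (S : Setup p P e e2 f f2) :
    heisU hF e S.D.pair1.ee ≤ P := fun u hu =>
  heis_le hF S.hP (fun X _ hX hle => S.sylow X hX ((le_inf le_rfl fun s _ => gW_top hF s).trans hle))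
    S.D.pair1.ee (W := (⊤ : Submodule F V)) (fun s hs => S.fix s hs.1) ⟨hu, gW_top hF u⟩

omit hker in
theorem stab_span {P : Subgroup SUn} {e e2 f f2 : V} (S : Setup p P e e2 f f2) {s : SUn}
    (hs : s ∈ P) : ∀ v ∈ span2 (F := F) e e2, suVal s *ᵥ v ∈ span2 (F := F) e e2 := by
  intro v hv
  obtain ⟨a, b, rfl⟩ := Submodule.mem_span_pair.1 hv
  rw [Matrix.mulVec_add, Matrix.mulVec_smul, Matrix.mulVec_smul, S.fix s hs,
    ← sub_add_cancel (suVal s *ᵥ e2) e2]
  refine add_mem (Submodule.smul_mem _ _ (left_mem hF e e2)) (Submodule.smul_mem _ _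
    (add_mem ?_ (right_mem hF e e2)))
  exact Submodule.span_mono (by simp) (S.stab s hs)

omit hker in
theorem planeRad_le {P : Subgroup SUn} {e e2 f f2 : V} (S : Setup p P e e2 f f2) :
    planeRad hF e e2 ≤ P := by
  refine le_trans le_sup_left (S.sylow (planeRad hF e e2 ⊔ P) ?_ le_sup_right)
  refine IsPGroup.to_sup_of_normal_left' (isPGroup_planeRad hF e e2) S.hP fun s hs =>
    Subgroup.mem_normalizer_iff.2 fun u => ⟨fun hu => conj_planeRad hF (stab_span hF S hs)
      (stab_span hF S (Subgroup.inv_mem _ hs)) hu, fun hu => ?_⟩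
  have := conj_planeRad hF (g := s⁻¹) (stab_span hF S (Subgroup.inv_mem _ hs))
    (by rw [inv_inv]; exact stab_span hF S hs) hu
  simpa [mul_assoc] using this

omit hker in
/-- A vector fixed by the Heisenberg group is a multiple of its vector. -/
theorem eq_smul_of_fixed {e f x : V} (P1 : IsPair (q := q) e f)
    (hx : ∀ u ∈ heisU hF e P1.ee, suVal u *ᵥ x = x) : x = h x f • e := by
  obtain ⟨t, ht0, ht⟩ := exists_trace_zero hF
  have hxe : h x e = 0 := by
    have h1 := hx _ (eSU_mem_heisU hF (eOK_transvection hF P1.ee ht))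
    rw [eSU_apply hF, h_zero_right hF, add_eq_left] at h1
    have h2 := congrArg (fun v => h v f) h1
    simpa [h_add_left, h_sub_left, h_smul_left, h_zero_left, P1.ef, ht0] using h2
  have hperp : ∀ w, h w e = 0 → h x w = 0 := fun w hw => by
    obtain ⟨c, H⟩ := EOK.exists_c hF P1.ee hw
    have h1 := hx _ (eSU_mem_heisU hF H)
    rw [eSU_apply hF, hxe, add_eq_left] at h1
    have h2 := congrArg (fun v => h v f) h1
    simpa [h_add_left, h_sub_left, h_smul_left, h_neg_left, h_zero_left, P1.ef] using h2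
  refine sub_eq_zero.1 (eq_zero_of_h hF fun v => ?_)
  rw [wPart_eq (q := q) e f v]
  simp only [h_sub_left, h_smul_left, h_add_right hF, h_smul_right hF, hxe, P1.ee, P1.ef,
    hperp _ (wPart_orth hF P1 v).1, h_comm_zero hF (wPart_orth hF P1 v).1]
  ring

omit hker in
theorem eSU_mem_kPlane {e e2 v w : V} {c : F} (hv : v ∈ span2 (F := F) e e2)
    (hwe : ∀ x ∈ span2 (F := F) e e2, h x v = 0) (H : EOK (q := q) v w c) :
    eSU hF H ∈ (kPlane p e e2 : Subgroup SUn) := by
  have hst : ∀ {c' : F} {w' : V} (H' : EOK (q := q) v w' c'), ∀ x ∈ span2 (F := F) e e2,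
      suVal (eSU hF H') *ᵥ x ∈ span2 (F := F) e e2 := fun H' x hx => by
    rw [eSU_apply hF, hwe x hx, zero_smul, zero_sub, mul_zero, zero_smul, add_zero]
    exact add_mem hx (neg_mem (Submodule.smul_mem _ _ hv))
  refine Subgroup.subset_closure ⟨⟨hst H, fun x hx => ?_⟩, 2, eSU_pow hF H⟩
  obtain ⟨w', c', H', he⟩ := inv_mem (eSU_mem_heisU hF H)
  rw [he, ← suVal_eSU hF H']
  exact hst H' x hx

omit hker in
/-- Every scalar on the fixed vector is realised in the normaliser of `P` inside `kPlane`. -/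
theorem exists_torus {P : Subgroup SUn} {e e2 f f2 : V} (S : Setup p P e e2 f f2) (a : F)
    (ha : a ≠ 0) : ∃ s ∈ (kPlane p e e2 : Subgroup SUn),
      (∀ u ∈ P, s * u * s⁻¹ ∈ P) ∧ (∀ u ∈ P, s⁻¹ * u * s ∈ P) ∧ suVal s *ᵥ e = a • e := by
  have hL : ∀ v ∈ span2 (F := F) e e2, ∀ x ∈ span2 (F := F) e e2, h x v = 0 := by
    intro v hv x hx
    obtain ⟨a, b, rfl⟩ := Submodule.mem_span_pair.1 hx
    rw [h_add_left, h_smul_left, h_smul_left,
      orth_span2 hF S.D.pair1.ee (h_comm_zero hF S.D.e2e) hv, orth_span2 hF S.D.e2e S.D.pair2.ee hv]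
    ring
  have mkA : ∀ ρ : F, ∃ A ∈ (kPlane p e e2 : Subgroup SUn),
      suVal A *ᵥ e = e ∧ suVal A *ᵥ e2 = e2 + ρ • e := by
    intro ρ
    have H : EOK (q := q) e ((-cj ρ) • f2) 0 := ⟨S.D.pair1.ee,
      by rw [h_smul_left, S.D.f2e, mul_zero], by
      rw [cj_pow hF, h_smul_left, h_smul_right hF, S.D.pair2.ff, map_zero]; ring⟩
    refine ⟨eSU hF H, eSU_mem_kPlane hF (left_mem hF e e2) (hL e (left_mem hF e e2)) H, ?_, ?_⟩
    · rw [eSU_apply hF, S.D.pair1.ee, h_smul_right hF, h_comm_zero hF S.D.f2e]; simp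
    · rw [eSU_apply hF, S.D.e2e, h_smul_right hF, S.D.pair2.ef, map_neg, cj_cj]; simp
  have mkB : ∀ σ : F, ∃ B ∈ (kPlane p e e2 : Subgroup SUn),
      suVal B *ᵥ e = e + σ • e2 ∧ suVal B *ᵥ e2 = e2 := by
    intro σ
    have H : EOK (q := q) e2 ((-cj σ) • f) 0 := ⟨S.D.pair2.ee,
      by rw [h_smul_left, h_comm_zero hF S.D.e2f, mul_zero], by
      rw [cj_pow hF, h_smul_left, h_smul_right hF, S.D.pair1.ff, map_zero]; ring⟩
    refine ⟨eSU hF H, eSU_mem_kPlane hF (right_mem hF e e2) (hL e2 (right_mem hF e e2)) H, ?_, ?_⟩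
    · rw [eSU_apply hF, h_comm_zero hF S.D.e2e, h_smul_right hF, S.D.pair1.ef, map_neg, cj_cj]; simp
    · rw [eSU_apply hF, S.D.pair2.ee, h_smul_right hF, S.D.e2f]; simp
  obtain ⟨A, hA, hAe, hAe2⟩ := mkA (a - 1)
  obtain ⟨B, hB, hBe, -⟩ := mkB 1
  obtain ⟨B', hB', hB'e, hB'e2⟩ := mkB (-a⁻¹)
  obtain ⟨s0, hs0def⟩ : ∃ s0, s0 = B' * (A * B) := ⟨_, rfl⟩
  have hs0 : s0 ∈ (kPlane p e e2 : Subgroup SUn) := hs0def ▸ mul_mem hB' (mul_mem hA hB)
  have hs0e : suVal s0 *ᵥ e = a • e := by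
    rw [hs0def, mulVec_mul, mulVec_mul, hBe, one_smul, Matrix.mulVec_add, hAe, hAe2,
      Matrix.mulVec_add, Matrix.mulVec_add, Matrix.mulVec_smul, hB'e, hB'e2]
    have h1 : a * -a⁻¹ + 1 = 0 := by rw [mul_neg, mul_inv_cancel₀ ha]; ring
    match_scalars <;> first | ring1 | linear_combination h1
  -- Frattini inside the stabiliser of `e`
  obtain ⟨X, hX⟩ : ∃ X : Subgroup SUn, ∀ s : SUn,
      s ∈ X ↔ s ∈ (kPlane p e e2 : Subgroup SUn) ∧ suVal s *ᵥ e = e :=
    ⟨{ carrier := {s | s ∈ (kPlane p e e2 : Subgroup SUn) ∧ suVal s *ᵥ e = e}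
       one_mem' := ⟨one_mem _, by rw [suVal_one', Matrix.one_mulVec]⟩
       mul_mem' := fun ha hb => ⟨mul_mem ha.1 hb.1, by rw [mulVec_mul, hb.2, ha.2]⟩
       inv_mem' := fun {s} hs => ⟨inv_mem hs.1,
         (congrArg (fun v => suVal s⁻¹ *ᵥ v) hs.2.symm).trans (inv_apply s e).1⟩ }, fun _ => Iff.rfl⟩
  have hPX : P ≤ X := fun s hs => (hX s).2 ⟨Subgroup.subset_closure
    ⟨⟨stab_span hF S hs, stab_span hF S (Subgroup.inv_mem _ hs)⟩, pow_of_mem hF S.hP hs⟩, S.fix s hs⟩
  let PS : Sylow p SUn := ⟨P, S.hP, fun hQ hle => le_antisymm (S.sylow _ hQ hle) hle⟩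
  obtain ⟨P', hP'⟩ : ∃ P' : Sylow p SUn, P' = s0 • PS := ⟨_, rfl⟩
  have hmem' : ∀ x, x ∈ (P' : Subgroup SUn) ↔ s0⁻¹ * x * s0 ∈ P := by
    intro x
    rw [hP', Sylow.coe_subgroup_smul, Subgroup.mem_pointwise_smul_iff_inv_smul_mem]
    show (MulAut.conj s0)⁻¹ x ∈ P ↔ _
    simp [MulAut.conj_inv_apply]
  have hP'X : (P' : Subgroup SUn) ≤ X := by
    intro x hx
    have h1 := (hX _).1 (hPX ((hmem' x).1 hx))
    refine (hX x).2 ⟨?_, ?_⟩
    · have := mul_mem (mul_mem hs0 h1.1) (inv_mem hs0)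
      simpa [mul_assoc] using this
    · have h2 : suVal (s0⁻¹ * x * s0) *ᵥ e = e := h1.2
      rw [mulVec_mul, mulVec_mul, hs0e, Matrix.mulVec_smul, Matrix.mulVec_smul] at h2
      have h3 := congrArg (fun v => suVal s0 *ᵥ v) h2
      simp only [Matrix.mulVec_smul, (inv_apply s0 _).2, hs0e] at h3
      exact smul_right_injective _ ha h3
  obtain ⟨k, hk⟩ := MulAction.exists_smul_eq X (P'.subtype hP'X) (PS.subtype hPX)
  obtain ⟨hk1, hk2⟩ := (hX _).1 k.2
  have hiff : ∀ x : SUn, x ∈ P ↔ s0⁻¹ * ((k : SUn)⁻¹ * x * k) * s0 ∈ P := by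
    intro x
    rw [← hmem']
    constructor
    · intro hx
      have h1 : (⟨x, hPX hx⟩ : X) ∈ (PS.subtype hPX : Subgroup X) := hx
      rw [← hk, Sylow.coe_subgroup_smul, Subgroup.mem_pointwise_smul_iff_inv_smul_mem] at h1
      simpa [MulAut.conj_inv_apply, Subgroup.mem_subgroupOf] using h1
    · intro hx
      have hxX : x ∈ X := by
        have := mul_mem (mul_mem k.2 (hP'X hx)) (inv_mem k.2)
        simpa [mul_assoc] using this
      have h2 : (⟨x, hxX⟩ : X) ∈ ((k • P'.subtype hP'X : Sylow p X) : Subgroup X) := by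
        rw [Sylow.coe_subgroup_smul, Subgroup.mem_pointwise_smul_iff_inv_smul_mem]
        simpa [MulAut.conj_inv_apply, Subgroup.mem_subgroupOf] using hx
      rw [hk] at h2
      exact h2
  refine ⟨(k : SUn) * s0, mul_mem hk1 hs0, fun u hu => ?_, fun u hu => ?_, ?_⟩
  · rw [hiff]
    simpa [mul_assoc] using hu
  · have := (hiff u).1 hu
    simpa [mul_assoc] using this
  · rw [mulVec_mul, hs0e, Matrix.mulVec_smul, hk2]

omit hker in
/-- A subgroup of `P` containing a transvection on the fixed vector and closed under fusion is `P`. -/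
theorem le_of_closed (hn : 4 ≤ n) {P : Subgroup SUn} {e e2 f f2 : V}
    (S : Setup p P e e2 f f2) (T : Subgroup SUn)
    (hT : ∀ g : SUn, ∀ x ∈ T, g * x * g⁻¹ ∈ P → g * x * g⁻¹ ∈ T)
    {c0 : F} (hc0 : c0 ≠ 0) (hcc : c0 + cj c0 = 0)
    (h0 : eSU hF (eOK_transvection hF S.D.pair1.ee hcc) ∈ T) : P ≤ T := by
  -- all transvections in `P`
  have htv : ∀ (v : V) (c : F) (H : EOK (q := q) v 0 c), v ≠ 0 →
      eSU hF H ∈ P → eSU hF H ∈ T := by
    intro v c H hv hP
    by_cases hc : c = 0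
    · subst hc
      rw [show eSU hF H = 1 from suVal_ext (by rw [suVal_eSU, eMat_zero hF]; rfl)]
      exact one_mem _
    obtain ⟨a, ha⟩ := exists_norm hF (a := c / c0) (by
      have h1 : cj c = -c := by have := H.cc; rw [cj_pow hF, h_zero_left, add_zero] at this; linear_combination this
      rw [map_div₀, h1, show cj c0 = -c0 by linear_combination hcc, neg_div_neg_eq])
    have ha0 : a ≠ 0 := fun h0 => by
      rw [h0, zero_mul] at ha; exact div_ne_zero hc hc0 ha.symm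
    obtain ⟨w, hvw⟩ := exists_pair hF (v := a • v) (smul_ne_zero ha0 hv)
      (by rw [h_smul_left, h_smul_right hF, H.ee]; ring)
    obtain ⟨g, hge, -⟩ := exists_su_pair hF (by omega) S.D.pair1 hvw
    have he : g * eSU hF (eOK_transvection hF S.D.pair1.ee hcc) * g⁻¹ = eSU hF H := suVal_ext (by
      rw [suVal_mul, suVal_mul, suVal_eSU, eMat_conj hF, hge, Matrix.mulVec_zero, tv_smul hF, ha,
        div_mul_cancel₀ _ hc0, suVal_eSU])
    rw [← he]
    exact hT g _ h0 (by rw [he]; exact hP)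
  -- the Heisenberg group of `e`
  obtain ⟨W1, hW1⟩ : ∃ W1, W1 = nextW (q := q) (⊤ : Submodule F V) e f := ⟨_, rfl⟩
  have hFr : Frame q W1 := hW1 ▸ frame_top.next hF S.D.pair1 Submodule.mem_top Submodule.mem_top
  have hlong : ∀ (c : F) (H : EOK (q := q) e 0 c), eSU hF H ∈ T := fun c H =>
    htv e c H S.D.pair1.ne_zero (heisU_le hF S (eSU_mem_heisU hF H))
  have hshift : ∀ {w : V} {c : F} (H : EOK (q := q) e w c), eSU hF H ∈ T →
      ∀ {c' : F} (H' : EOK (q := q) e w c'), eSU hF H' ∈ T := by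
    intro w c H hH c' H'
    have hd : EOK (q := q) e 0 (c' - c) := ⟨S.D.pair1.ee, h_zero_left e, by
      have h1 := H.cc
      have h2 := H'.cc
      rw [cj_pow hF] at h1 h2 ⊢
      rw [h_zero_left, map_sub]
      linear_combination h2 - h1⟩
    have he : eSU hF H' = eSU hF H * eSU hF hd := suVal_ext (by
      rw [suVal_mul, suVal_eSU, suVal_eSU, suVal_eSU, eMat_mul hF H hd, h_zero_left, add_zero,
        add_sub_cancel, sub_zero])
    rw [he]
    exact mul_mem hH (hlong _ hd)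
  have he2W : e2 ∈ W1 := hW1 ▸ ⟨trivial, S.D.e2e, S.D.e2f⟩
  -- multiples of `e2`
  have hbase : ∀ k : F, ∀ (c : F) (H : EOK (q := q) e (k • e2) c), eSU hF H ∈ T := by
    intro k c H
    obtain ⟨t, ht0, ht⟩ := exists_trace_zero hF
    obtain ⟨v, hv⟩ : ∃ v : V, v = (k / t) • e2 := ⟨_, rfl⟩
    have hkv : k • e2 = t • v := by rw [hv, smul_smul, mul_div_cancel₀ _ ht0]
    have hvL : v ∈ span2 (F := F) e e2 := hv ▸ Submodule.smul_mem _ _ (right_mem hF e e2)
    have hvv : h v v = 0 := by rw [hv, h_smul_left, h_smul_right hF, S.D.pair2.ee]; ring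
    have hve : h v e = 0 := by rw [hv, h_smul_left, S.D.e2e, mul_zero]
    have hev : h (e + v) (e + v) = 0 := by
      rw [h_add_left, h_add_right hF, h_add_right hF, S.D.pair1.ee, hvv, hve, h_comm_zero hF hve]
      ring
    have hne : e + v ≠ 0 := fun h0 => by
      have h1 := congrArg (fun x => h x f) h0
      simp [hv, h_add_left, h_smul_left, S.D.pair1.ef, S.D.e2f, h_zero_left] at h1
    have hz : ∀ {x : V}, x ∈ span2 (F := F) e e2 → ∀ (Hx : EOK (q := q) x 0 t), eSU hF Hx ∈ P :=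
      fun hx Hx => planeRad_le hF S (eSU_mem_planeRad hF S.D.pair1.ee S.D.pair2.ee S.D.e2e hx
        (h_zero_left e) (h_zero_left e2) Hx)
    have H1 : EOK (q := q) e (t • v) t := ⟨S.D.pair1.ee, by rw [h_smul_left, hve, mul_zero], by
      rw [cj_pow hF, h_smul_left, h_smul_right hF, hvv]; linear_combination ht⟩
    have hv1 : eSU hF (eOK_transvection hF hvv ht) ∈ T := by
      by_cases hv0 : v = 0
      · rw [show eSU hF (eOK_transvection hF hvv ht) = 1 from su_ext fun x => by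
          rw [eSU_apply hF, suVal_one', Matrix.one_mulVec, hv0, h_zero_right hF]; simp]
        exact one_mem _
      · exact htv v t _ hv0 (hz hvL _)
    have he : eSU hF H1 * eSU hF (eOK_transvection hF hvv ht) = eSU hF (eOK_transvection hF hev ht) :=
      su_ext fun x => by
        have hct : cj t = -t := by linear_combination ht
        rw [mulVec_mul, eSU_apply hF, eSU_apply hF, eSU_apply hF]
        simp only [h_zero_right hF, zero_smul, sub_zero, h_add_left, h_add_right hF, h_smul_left,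
          h_smul_right hF, hvv, hve, smul_zero, mul_zero, add_zero, zero_add, hct]
        module
    have h1 : eSU hF H1 ∈ T := by
      have := mul_mem (htv (e + v) t _ hne (hz (add_mem (left_mem hF e e2) hvL)
        (eOK_transvection hF hev ht))) (inv_mem hv1)
      rwa [← he, mul_inv_cancel_right] at this
    have H2 : EOK (q := q) e (t • v) c := hkv ▸ H
    have h2 := hshift H1 h1 H2
    rwa [show eSU hF H = eSU hF H2 from suVal_ext (by rw [suVal_eSU, suVal_eSU, hkv])]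
  have hiso : ∀ v ∈ W1, h v v = 0 → ∀ (c : F) (H : EOK (q := q) e v c), eSU hF H ∈ T := by
    intro v hv hvv c H
    by_cases hv0 : v = 0
    · subst hv0; exact hlong c H
    have hf2 : f2 ∈ W1 := hW1 ▸ ⟨trivial, S.D.f2e, S.D.f2f⟩
    obtain ⟨g, hg, a, -, hga⟩ := exists_reach (p := p) hF hFr S.D.pair2 he2W hf2 hv hv0 hvv
    have hge : suVal g *ᵥ e = e := (gW_next_fix hF (W := (⊤ : Submodule F V))
      (hW1 ▸ kW_le hF W1 hg)).1
    obtain ⟨c', H'⟩ := EOK.exists_c hF S.D.pair1.ee (w := a • e2) (by rw [h_smul_left, S.D.e2e, mul_zero])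
    have hc : g * eSU hF H' * g⁻¹ ∈ heisU hF e S.D.pair1.ee :=
      ⟨v, c', by simpa [hge, hga] using H'.map (su_form g),
        by rw [suVal_mul, suVal_mul, suVal_eSU, eMat_conj hF, hge, hga]⟩
    have h2 := hT g _ (hbase a c' H') (heisU_le hF S hc)
    have H'' : EOK (q := q) e v c' := by simpa [hge, hga] using H'.map (su_form g)
    refine hshift H'' ?_ H
    rwa [show eSU hF H'' = g * eSU hF H' * g⁻¹ from suVal_ext (by
      rw [suVal_mul, suVal_mul, suVal_eSU, suVal_eSU, eMat_conj hF, hge, hga])]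
  have hall : ∀ v ∈ W1, ∀ (c : F) (H : EOK (q := q) e v c), eSU hF H ∈ T := by
    subst hW1
    intro v hv
    refine wSub_induction hF S.D.pair1 (z0 := e2) ⟨S.D.e2e, S.D.e2f⟩ S.D.pair2.ne_zero S.D.pair2.ee
      (C := fun v => ∀ (c : F) (H : EOK (q := q) e v c), eSU hF H ∈ T)
      (fun z hz hzz => hiso z ⟨trivial, hz⟩ hzz) ?_ v hv.2
    intro x y hx hy hCx hCy c H
    obtain ⟨cx, Hx⟩ := EOK.exists_c hF S.D.pair1.ee hx.1
    obtain ⟨cy, Hy⟩ := EOK.exists_c hF S.D.pair1.ee hy.1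
    refine hshift (Hx.mul hF Hy) ?_ H
    rw [show eSU hF (Hx.mul hF Hy) = eSU hF Hx * eSU hF Hy from suVal_ext (by
      rw [suVal_mul, suVal_eSU, suVal_eSU, suVal_eSU, eMat_mul hF Hx Hy])]
    exact mul_mem (hCx cx Hx) (hCy cy Hy)
  have hheis : heisU hF e S.D.pair1.ee ≤ T := by
    rintro u ⟨w, c, H, hu⟩
    -- reduce `w` modulo `e`
    obtain ⟨b, hb⟩ : ∃ b, b = h w f := ⟨_, rfl⟩
    have hw1 : w - b • e ∈ W1 := by
      have hwp : wPart (q := q) e f w = w - b • e := by rw [wPart, H.we, hb]; simp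
      exact hW1 ▸ hwp ▸ ⟨trivial, wPart_mem hF S.D.pair1 w⟩
    obtain ⟨c2, hc2⟩ : ∃ c2, c2 = c + b - cj b := ⟨_, rfl⟩
    have H2 : EOK (q := q) e (w - b • e) (c - cj b + b) := by
      refine ⟨S.D.pair1.ee, by rw [h_sub_left, h_smul_left, H.we, S.D.pair1.ee]; ring, ?_⟩
      have h1 := H.cc
      rw [cj_pow hF] at h1 ⊢
      simp only [h_sub_left, h_sub_right hF, h_smul_left, h_smul_right hF, H.we, H.ew hF,
        S.D.pair1.ee, map_add, map_sub, cj_cj]
      linear_combination h1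
    have : u = eSU hF H2 := su_ext fun x => by
      rw [hu, eSU_apply hF, eMat_mulVec, h_sub_right hF, h_smul_right hF]
      module
    exact this ▸ hall _ hw1 _ H2
  -- every Heisenberg element of `P`
  have hgen : ∀ (z w : V) (c : F) (H : EOK (q := q) z w c), z ≠ 0 → eSU hF H ∈ P → eSU hF H ∈ T := by
    intro z w c H hz hP
    obtain ⟨y, hzy⟩ := exists_pair hF hz H.ee
    obtain ⟨g, hgz, -⟩ := exists_su_pair hF (by omega) hzy S.D.pair1
    have h1 : g * eSU hF H * g⁻¹ ∈ heisU hF e S.D.pair1.ee :=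
      ⟨suVal g *ᵥ w, c, by simpa [hgz] using H.map (su_form g),
        by rw [suVal_mul, suVal_mul, suVal_eSU, eMat_conj hF, hgz]⟩
    have h2 := hT g⁻¹ _ (hheis h1)
    simp only [mul_assoc, inv_inv, inv_mul_cancel, inv_mul_cancel_left, mul_one] at h2
    exact h2 hP
  intro s hs
  exact le_of_heis hF S.hP hgen _ _ rfl frame_top
    (fun X _ hX hle => S.sylow X hX ((le_inf le_rfl fun u _ => gW_top hF u).trans hle))
    ⟨hs, gW_top hF s⟩

/-- Simplicity of the fusion system on the image of a Sylow subgroup. -/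
theorem isSimple_of_eq (hn : 4 ≤ n) [Finite G] (hθ : Function.Surjective θ) (P : Sylow p SUn)
    (S : Sylow p G) (hS : (S : Subgroup G) = (P : Subgroup SUn).map θ) :
    (groupFusionSystem (S : Subgroup G)).IsSimple p := by
  obtain ⟨e, e2, f, f2, D⟩ := exists_setup hF hn P
  obtain ⟨t, ht0, ht⟩ := exists_trace_zero hF
  have hn1 : 1 ≤ n := by omega
  refine isSimple_group_of S ?_ ?_ ?_
  · intro hbot
    have hm := heisU_le hF D (eSU_mem_heisU hF (eOK_transvection hF D.D.pair1.ee ht))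
    have h1 : θ (eSU hF (eOK_transvection hF D.D.pair1.ee ht)) = θ 1 := by
      rw [map_one, ← Subgroup.mem_bot, ← hbot, hS]
      exact ⟨_, hm, rfl⟩
    have h2 := congrArg (fun s : SUn => suVal s *ᵥ f)
      (eq_of_map_eq hF hker hn1 (pow_of_mem hF P.2 hm) ⟨0, one_pow _⟩ h1)
    simp only [eSU_apply hF, suVal_one', Matrix.one_mulVec, D.D.pair1.fe hF, h_zero_right hF] at h2
    have h3 := congrArg (fun x => h x f) h2
    simp [h_add_left, h_smul_left, D.D.pair1.ef, ht0] at h3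
  · intro T hTS hT hTn hTc
    haveI : Group.IsNilpotent (S : Subgroup G) := S.2.isNilpotent
    haveI : (T.subgroupOf (S : Subgroup G)).Normal := Subgroup.normal_subgroupOf_of_le_normalizer hTn
    obtain ⟨⟨x, hxS⟩, ⟨hxT, hxc⟩, hx1⟩ := Subgroup.bot_or_exists_ne_one _ |>.resolve_left
      (Grp.inf_center_ne_bot (T.subgroupOf (S : Subgroup G)) fun hb => hT (by
        rw [Subgroup.subgroupOf_eq_bot] at hb
        exact hb.eq_bot_of_le hTS))
    obtain ⟨s, hs, rfl⟩ : ∃ s ∈ (P : Subgroup SUn), θ s = x := by rw [hS] at hxS; exact hxS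
    have hcomm : ∀ u ∈ heisU hF e D.D.pair1.ee, Commute (suToPSU n F q s) (suToPSU n F q u) := by
      intro u hu
      have hu' := heisU_le hF D hu
      have h1 : θ u * θ s = θ s * θ u :=
        congrArg Subtype.val (Subgroup.mem_center_iff.1 hxc ⟨θ u, by rw [hS]; exact ⟨u, hu', rfl⟩⟩)
      have h2 := conj_eq_of_map_eq hF hker hn1 (pow_of_mem hF P.2 hu') (pow_of_mem hF P.2 hu')
        (g := s) (by rw [← h1, mul_inv_cancel_right])
      exact ((show Commute s u from mul_inv_eq_iff_eq_mul.1 h2)).map _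
    obtain ⟨l, c, hc, hsv⟩ := centralizer_heis hF (by omega) D.D.pair1 hcomm
    have hs_eq : s = eSU hF (eOK_transvection hF D.D.pair1.ee hc) := by
      refine eq_of_map_eq hF hker hn1 (pow_of_mem hF P.2 hs) ⟨2, eSU_pow hF _⟩ ?_
      rw [← inv_mul_eq_one, ← map_inv, ← map_mul, hker]
      obtain ⟨Mi, hMi⟩ : ∃ Mi, Mi = suVal (eSU hF (eOK_transvection hF D.D.pair1.ee hc)) := ⟨_, rfl⟩
      by_cases hl0 : l = 0
      · exfalso
        rw [hl0, zero_smul] at hsv
        exact D.D.pair1.ne_zero (su_injective s (x := e) (by rw [hsv, Matrix.zero_mulVec]))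
      refine ⟨l⁻¹, ?_⟩
      rw [suVal_mul, suVal_eSU, ← one_smul F (eMat q e 0 c), ← inv_mul_cancel₀ hl0, ← smul_smul, ← hsv,
        Matrix.mul_smul, ← suVal_mul, inv_mul_cancel, suVal_one']
    have hc0 : c ≠ 0 := fun h0 => hx1 (Subtype.ext (show θ s = 1 by
      rw [hs_eq, show eSU hF (eOK_transvection hF D.D.pair1.ee hc) = 1 from suVal_ext (by
        rw [suVal_eSU, h0, eMat_zero hF]; rfl), map_one]))
    have hle := le_of_closed hF hn D (T.comap θ ⊓ (P : Subgroup SUn))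
      (fun g x hx hgx => ⟨show θ (g * x * g⁻¹) ∈ T by
        rw [map_mul, map_mul, map_inv]
        refine hTc (θ g) (θ x) hx.1 ?_
        rw [hS, ← map_inv, ← map_mul, ← map_mul]
        exact ⟨_, hgx, rfl⟩, hgx⟩) hc0 hc ⟨show θ _ ∈ T by rw [← hs_eq]; exact hxT,
          heisU_le hF D (eSU_mem_heisU hF _)⟩
    rw [hS]
    exact Subgroup.map_le_iff_le_comap.2 fun u hu => (hle hu).1
  · intro x hx
    obtain ⟨g, rfl⟩ := hθ x
    rw [hS] at hx
    have hgn : ∀ u ∈ (P : Subgroup SUn), g⁻¹ * u * g ∈ (P : Subgroup SUn) :=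
      fun u hu => normalizer_lift hF hker hn1 P.2 hx hu
    -- `g e` is a multiple of `e`
    have hge : suVal g *ᵥ e = h (suVal g *ᵥ e) f • e := by
      refine eq_smul_of_fixed (p := p) hF D.D.pair1 fun u hu => ?_
      have h1 := D.fix _ (hgn u (heisU_le hF D hu))
      rw [mulVec_mul, mulVec_mul] at h1
      have h2 := congrArg (fun v => suVal g *ᵥ v) h1
      simp only [(inv_apply g _).2] at h2
      exact h2
    obtain ⟨a, ha⟩ : ∃ a, a = h (suVal g *ᵥ e) f := ⟨_, rfl⟩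
    rw [← ha] at hge
    have ha0 : a ≠ 0 := fun h0 => D.D.pair1.ne_zero (su_injective g (x := e) (by rw [hge, h0, zero_smul]))
    obtain ⟨s, hsk, hsn, hsn', hse⟩ := exists_torus hF D a ha0
    have hnorm : ∀ s : SUn, (∀ u ∈ (P : Subgroup SUn), s * u * s⁻¹ ∈ (P : Subgroup SUn)) →
        (∀ u ∈ (P : Subgroup SUn), s⁻¹ * u * s ∈ (P : Subgroup SUn)) →
        θ s ∈ Subgroup.normalizer ((S : Subgroup G) : Set G) := by
      intro s h1 h2
      rw [hS]
      refine mem_normalizer_of_forall ?_ ?_ <;> rintro _ ⟨u, hu, rfl⟩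
      · exact ⟨_, h1 u hu, by simp⟩
      · exact ⟨_, h2 u hu, by simp⟩
    have hPR : ∀ R : Subgroup SUn, R ≤ (P : Subgroup SUn) →
        (∀ s ∈ (P : Subgroup SUn), ∀ u ∈ R, s * u * s⁻¹ ∈ R) →
        R.map θ ≤ (S : Subgroup G) ∧
          (S : Subgroup G) ≤ Subgroup.normalizer ((R.map θ : Subgroup G) : Set G) := by
      intro R hR hconj
      rw [hS]
      refine ⟨Subgroup.map_mono hR, ?_⟩
      rintro _ ⟨s, hs, rfl⟩
      refine mem_normalizer_of_forall ?_ ?_ <;> rintro _ ⟨u, hu, rfl⟩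
      · exact ⟨_, hconj s hs u hu, by simp⟩
      · exact ⟨_, hconj s⁻¹ (Subgroup.inv_mem _ hs) u hu, by simp⟩
    -- the torus part
    have hs_gen : θ s ∈ simpleGenSet S := by
      obtain ⟨hR1, hR2⟩ := hPR _ (planeRad_le hF D) fun s hs u hu =>
        conj_planeRad hF (stab_span hF D hs) (stab_span hF D (Subgroup.inv_mem _ hs)) hu
      refine ⟨hnorm s hsn hsn', Or.inr ⟨_, hR1, hR2, ?_, ?_⟩⟩
      · intro x hx
        obtain ⟨r, rfl⟩ := hθ x
        obtain ⟨u, hu, l, hl⟩ := mem_planeRad_of_commute (p := p) hF D.D (s := r) fun v hv =>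
          conj_eq_of_map_eq hF hker hn1 (pow_of_mem hF P.2 (planeRad_le hF D hv))
            (pow_of_mem hF P.2 (planeRad_le hF D hv))
            (by rw [← Subgroup.mem_centralizer_iff.1 hx _ ⟨v, hv, rfl⟩, mul_inv_cancel_right])
        refine ⟨u, hu, ?_⟩
        rw [← inv_mul_eq_one, ← map_inv, ← map_mul, hker]
        exact ⟨l, by rw [suVal_mul, hl, Matrix.mul_smul, ← suVal_mul, inv_mul_cancel, suVal_one']⟩
      · refine ((Subgroup.closure_le ((Subgroup.closure _).comap θ)).2 ?_) hsk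
        rintro v ⟨⟨hv1, hv2⟩, k, hk⟩
        refine Subgroup.subset_closure ⟨?_, k, by rw [← map_pow, hk, map_one]⟩
        refine mem_normalizer_of_forall ?_ ?_ <;> rintro _ ⟨u, hu, rfl⟩
        · exact ⟨_, conj_planeRad hF hv1 hv2 hu, by simp⟩
        · exact ⟨_, conj_planeRad hF (g := v⁻¹) hv2 (by rw [inv_inv]; exact hv1) hu, by simp⟩
    -- the part fixing `e`
    obtain ⟨g', hg'def⟩ : ∃ g', g' = s⁻¹ * g := ⟨_, rfl⟩
    have hg'e : suVal g' *ᵥ e = e := by
      rw [hg'def, mulVec_mul, hge, ← hse]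
      exact (inv_apply s e).1
    have hg'_gen : θ g' ∈ simpleGenSet S := by
      have hconj : ∀ v : SUn, suVal v *ᵥ e = e → ∀ u ∈ heisU hF e D.D.pair1.ee,
          v * u * v⁻¹ ∈ heisU hF e D.D.pair1.ee := fun v hv u hu =>
        (conj_heis hF D.D.pair1.ee (gW_top hF v) hv ⟨hu, gW_top hF u⟩).1
      have hinv : ∀ v : SUn, suVal v *ᵥ e = e → suVal v⁻¹ *ᵥ e = e := fun v hv =>
        (congrArg (fun x => suVal v⁻¹ *ᵥ x) hv.symm).trans (inv_apply v e).1
      obtain ⟨hR1, hR2⟩ := hPR _ (heisU_le hF D) fun s hs u hu => hconj s (D.fix s hs) u hu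
      refine ⟨?_, Or.inr ⟨_, hR1, hR2, ?_, ?_⟩⟩
      · rw [hg'def, map_mul, map_inv]
        refine mul_mem (inv_mem (hnorm s hsn hsn')) ?_
        rw [hS]; exact hx
      · intro x hx
        obtain ⟨r, rfl⟩ := hθ x
        have hcomm : ∀ u ∈ heisU hF e D.D.pair1.ee, Commute (suToPSU n F q r) (suToPSU n F q u) := by
          intro u hu
          have hu' := pow_of_mem hF P.2 (heisU_le hF D hu)
          have h2 := conj_eq_of_map_eq hF hker hn1 hu' hu' (g := r)
            (by rw [← Subgroup.mem_centralizer_iff.1 hx _ ⟨u, hu, rfl⟩, mul_inv_cancel_right])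
          exact ((show Commute r u from mul_inv_eq_iff_eq_mul.1 h2)).map _
        obtain ⟨l, c, hc, hrv⟩ := centralizer_heis hF (by omega) D.D.pair1 hcomm
        have H := eOK_transvection hF D.D.pair1.ee hc
        refine ⟨eSU hF H, eSU_mem_heisU hF H, ?_⟩
        rw [← inv_mul_eq_one, ← map_inv, ← map_mul, hker]
        exact ⟨l, by rw [suVal_mul, hrv, ← suVal_eSU hF H, Matrix.mul_smul, ← suVal_mul,
          inv_mul_cancel, suVal_one']⟩
      · have hK : ∀ v : SUn, suVal v *ᵥ e = e → (∃ k : ℕ, v ^ p ^ k = 1) →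
            θ v ∈ Subgroup.closure {x : G | x ∈ Subgroup.normalizer
              (((heisU hF e D.D.pair1.ee).map θ : Subgroup G) : Set G) ∧ ∃ k : ℕ, x ^ p ^ k = 1} := by
          intro v hv ⟨k, hk⟩
          refine Subgroup.subset_closure ⟨?_, k, by rw [← map_pow, hk, map_one]⟩
          refine mem_normalizer_of_forall ?_ ?_ <;> rintro _ ⟨u, hu, rfl⟩
          · exact ⟨_, hconj v hv u hu, by simp⟩
          · exact ⟨_, hconj v⁻¹ (hinv v hv) u hu, by simp⟩
        obtain ⟨w, c, H, hw, hrest⟩ := exists_heis_split hF frame_top D.D.pair1 Submodule.mem_top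
          Submodule.mem_top (gW_top hF g') hg'e
        rw [← mul_inv_cancel_left (eSU hF H) g', map_mul]
        refine mul_mem (hK _ ?_ ⟨2, eSU_pow hF H⟩) ?_
        · rw [eSU_apply hF, D.D.pair1.ee, h_comm_zero hF hw.2.1]; simp
        · refine ((Subgroup.closure_le ((Subgroup.closure _).comap θ)).2 ?_)
            (gW_le_kW (p := p) hF _ _ rfl
              (frame_top.next hF D.D.pair1 Submodule.mem_top Submodule.mem_top) hrest)
          rintro v ⟨hv, hk⟩
          exact hK v (gW_next_fix hF (W := (⊤ : Submodule F V)) hv).1 hk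
    have h2 := mul_mem (Subgroup.subset_closure hs_gen) (Subgroup.subset_closure hg'_gen)
    rwa [← map_mul, hg'def, mul_inv_cancel_left] at h2

omit hker in
/-- The fusion system of `PSU_n(q)`, `n ≥ 4`, in the defining characteristic is simple. -/
theorem isSimple_psu (hn : 4 ≤ n) (S : Sylow p (PSU n F q)) :
    (groupFusionSystem (S : Subgroup (PSU n F q))).IsSimple p := by
  obtain ⟨P⟩ := (inferInstance : Nonempty (Sylow p SUn))
  obtain ⟨g, hg⟩ := MulAction.exists_smul_eq (PSU n F q)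
    (P.mapSurjective (pi_surjective (n := n) (q := q) (F := F))) S
  refine isSimple_of_eq hF (θ := (MulAut.conj g).toMonoidHom.comp (suToPSU n F q)) ?_ hn ?_ P S ?_
  · intro A
    rw [← PSUAut.pi_eq_one_iff hF (q := q)]
    simp
  · exact (MulAut.conj g).surjective.comp pi_surjective
  · rw [← Subgroup.map_map, ← hg]
    rfl

end Cfsg.Agent.Fus.UnitN
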