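import Mathlib
import Cfsg.Prelude.Def_LieClassical
import Cfsg.Agent.Lib.Classical.AschEvenType
import Cfsg.Agent.Lib.Classical.AschSpShape
import Cfsg.Agent.Lib.Classical.Unit

/-!
The quadratic space over `F` underlying a Hermitian space over the quadratic extension `K`.
-/

set_option autoImplicit false
set_option linter.unusedSectionVars false

namespace Cfsg.Agent.Fus.UnitTrace

open Cfsg.Agent.Classical Module
open Cfsg.Agent.Classical.EvenType (Plus)

variable {F K : Type*} [Field F] [Fintype F] [Field K] [Fintype K] [Algebra F K] {q m : ℕ}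

section
variable (hF : Fintype.card F = q) (hK : Fintype.card K = q ^ 2)
include hF hK

local notation "h" => Cfsg.hermForm m K q

theorem card_ext : finrank F K = 2 := by
  have h1 := Module.card_eq_pow_finrank (K := F) (V := K)
  rw [hK, hF] at h1
  exact (Nat.pow_right_injective (hF ▸ Fintype.one_lt_card) h1).symm

theorem algebraMap_pow (a : F) : algebraMap F K a ^ q = algebraMap F K a := by
  rw [← map_pow, ← hF, FiniteField.pow_card]

theorem smul_pow_q (a : F) (x : K) : (a • x) ^ q = a • x ^ q := by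
  rw [Algebra.smul_def, Algebra.smul_def, mul_pow, algebraMap_pow hF hK]

theorem exists_eq_of_fixed {x : K} (hx : x ^ q = x) : ∃ a : F, algebraMap F K a = x := by
  classical
  by_contra hne
  push Not at hne
  have hq : 1 < q := hF ▸ Fintype.one_lt_card
  have hsub : insert x (Finset.univ.image (algebraMap F K)) ⊆
      (Polynomial.X ^ q - Polynomial.X : Polynomial K).roots.toFinset := by
    have hne0 := FiniteField.X_pow_card_sub_X_ne_zero K hq
    intro y hy
    rw [Multiset.mem_toFinset, Polynomial.mem_roots hne0]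
    rcases Finset.mem_insert.1 hy with rfl | hy
    · simp [hx]
    · obtain ⟨a, -, rfl⟩ := Finset.mem_image.1 hy
      simp [algebraMap_pow hF hK]
  have h1 := (Finset.card_le_card hsub).trans (Multiset.toFinset_card_le _)
  rw [Finset.card_insert_of_notMem (by simpa using fun a => hne a),
    Finset.card_image_of_injective _ (algebraMap F K).injective, Finset.card_univ, hF] at h1
  have h2 := (Polynomial.card_roots' (Polynomial.X ^ q - Polynomial.X : Polynomial K))
  rw [FiniteField.X_pow_card_sub_X_natDegree_eq K hq] at h2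
  omega

theorem exists_bilin : ∃ (π : K →ₗ[F] F) (B : LinearMap.BilinForm F (Fin m → K)),
    (∀ a, π (algebraMap F K a) = a) ∧ ∀ u v, B u v = π (h u v) := by
  obtain ⟨π, hπ⟩ := (Algebra.linearMap F K).exists_leftInverse_of_injective
    (LinearMap.ker_eq_bot.2 (algebraMap F K).injective)
  have hπ' : ∀ a, π (algebraMap F K a) = a := fun a => LinearMap.congr_fun hπ a
  refine ⟨π, LinearMap.mk₂ F (fun u v => π (h u v))
    (fun u u' v => by rw [hermForm_add_left, map_add]) (fun a u v => ?_)
    (fun u v v' => ?_) (fun a u v => ?_), hπ', fun u v => rfl⟩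
  · rw [← map_smul]
    congr 1
    simp [Cfsg.hermForm, Finset.smul_sum]
  · rw [← map_add]
    congr 1
    simp [Cfsg.hermForm, add_pow_q hK, mul_add, Finset.sum_add_distrib]
  · rw [← map_smul]
    congr 1
    simp [Cfsg.hermForm, Finset.smul_sum, smul_pow_q hF hK]

theorem exists_trace_ne : ∃ x : K, x + x ^ q ≠ 0 := by
  by_contra hall
  push Not at hall
  refine qFrob_ne_id hK (RingHom.ext fun x => ?_)
  have h2 := hall 1
  rw [one_pow] at h2
  have h3 := hall x
  show x ^ q = x
  linear_combination h3 - x * h2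

/-- The trace form, as a quadratic form over `F`. -/
theorem exists_form : ∃ Q : QuadraticForm F (Fin m → K),
    (∀ v, algebraMap F K (Q v) = h v v) ∧
    (∀ u v, algebraMap F K (QuadraticMap.polar ⇑Q u v) = h u v + h v u) ∧
    (QuadraticMap.polarBilin Q).Nondegenerate := by
  obtain ⟨π, B, hπ, hB⟩ := exists_bilin (m := m) hF hK
  obtain ⟨Q, hQdef⟩ : ∃ Q : QuadraticForm F (Fin m → K), Q = B.toQuadraticMap := ⟨_, rfl⟩
  have hQ : ∀ v, algebraMap F K (Q v) = h v v := by
    intro v
    obtain ⟨a, ha⟩ := exists_eq_of_fixed hF hK (x := h v v) (hermForm_symm hK m v v)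
    rw [hQdef, LinearMap.BilinMap.toQuadraticMap_apply, hB, ← ha, hπ]
  have hpol : ∀ u v, algebraMap F K (QuadraticMap.polar ⇑Q u v) = h u v + h v u := by
    intro u v
    rw [QuadraticMap.polar, map_sub, map_sub, hQ, hQ, hQ]
    simp only [Cfsg.hermForm, Pi.add_apply, add_pow_q hK, ← Finset.sum_sub_distrib,
      ← Finset.sum_add_distrib]
    exact Finset.sum_congr rfl fun i _ => by ring
  refine ⟨Q, hQ, hpol, nondegenerate_of_separatingLeft _ fun u hu => funext fun i => ?_⟩
  by_contra hui
  obtain ⟨x, hx⟩ := exists_trace_ne hF hK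
  obtain ⟨y, hy⟩ : ∃ y : K, y ^ q = x / u i := ⟨(x / u i) ^ q, by
    rw [← pow_mul, ← sq, ← hK, FiniteField.pow_card]⟩
  have h1 := congrArg (algebraMap F K) (hu (Pi.single i y))
  rw [QuadraticMap.polarBilin_apply_apply, hpol, map_zero, ← hermForm_symm hK m u] at h1
  have h2 : h u (Pi.single i y) = x := by
    have hq : q ≠ 0 := by have := two_le_q hK; omega
    rw [Cfsg.hermForm, Finset.sum_eq_single i (fun j _ hj => by simp [hj, hq]) (by simp),
      Pi.single_eq_same, hy, mul_div_cancel₀ _ hui]
  rw [h2] at h1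
  exact hx h1

theorem finrank_pi_ext : finrank F (Fin m → K) = 2 * m := by
  rw [Module.finrank_pi_fintype, Finset.sum_const, Finset.card_univ, Fintype.card_fin,
    card_ext hF hK, smul_eq_mul, mul_comm]

theorem plus_of_even {Q : QuadraticForm F (Fin m → K)} (hQ : ∀ v, algebraMap F K (Q v) = h v v)
    (hm : Even m) : Plus Q := by
  obtain ⟨k, rfl⟩ := hm
  obtain ⟨c, hc⟩ : ∃ c : K, c ^ (q + 1) = -1 := by
    have h1 := natCard_norm_eq hK (t := (-1 : K))
      (by rw [← qFrob_apply hK, map_neg, map_one]) (by norm_num)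
    obtain ⟨⟨c, hc⟩⟩ : Nonempty {c : K // c ^ (q + 1) = -1} :=
      (Nat.card_pos_iff.1 (h1.symm ▸ Nat.succ_pos q)).1
    exact ⟨c, hc⟩
  let ψ : (Fin k → K) →ₗ[F] (Fin (k + k) → K) :=
    { toFun := fun w => Fin.append w (c • w)
      map_add' := fun w w' => by
        funext i
        refine Fin.addCases (fun i => ?_) (fun i => ?_) i
        · simp
        · simp only [Pi.add_apply, Fin.append_right, Pi.smul_apply, smul_eq_mul]
          ring
      map_smul' := fun a w => by
        funext i
        refine Fin.addCases (fun i => ?_) (fun i => ?_) i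
        · simp
        · simp only [RingHom.id_apply, Fin.append_right, Pi.smul_apply, smul_eq_mul]
          exact mul_smul_comm _ _ _ }
  refine ⟨LinearMap.range ψ, ?_, ?_⟩
  · rintro _ ⟨w, rfl⟩
    apply (algebraMap F K).injective
    rw [hQ, map_zero, Cfsg.hermForm, Fin.sum_univ_add, ← Finset.sum_add_distrib]
    refine Finset.sum_eq_zero fun i _ => ?_
    simp only [ψ, LinearMap.coe_mk, AddHom.coe_mk, Fin.append_left, Fin.append_right,
      Pi.smul_apply, smul_eq_mul, mul_pow]
    rw [pow_succ] at hc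
    linear_combination w i * w i ^ q * hc
  · rw [LinearMap.finrank_range_of_inj (fun w w' e => funext fun i => by
      simpa [ψ] using congrFun e (Fin.castAdd k i)), finrank_pi_ext hF hK, finrank_pi_ext hF hK]
    omega

theorem not_plus_of_odd {Q : QuadraticForm F (Fin m → K)} (hQ : ∀ v, algebraMap F K (Q v) = h v v)
    (hpol : ∀ u v, algebraMap F K (QuadraticMap.polar ⇑Q u v) = h u v + h v u)
    (hn : (QuadraticMap.polarBilin Q).Nondegenerate) (hm : Odd m) : ¬ Plus Q := by
  rintro ⟨U, hU, hd⟩
  rw [finrank_pi_ext hF hK] at hd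
  have hU0 : ∀ u ∈ U, h u u = 0 := fun u hu => by rw [← hQ, hU u hu, map_zero]
  have hskew : ∀ u ∈ U, ∀ v ∈ U, h v u = -h u v := by
    intro u hu v hv
    have h1 : QuadraticMap.polar ⇑Q u v = 0 := by
      rw [QuadraticMap.polar, hU _ (U.add_mem hu hv), hU u hu, hU v hv, sub_zero, sub_zero]
    have h2 := hpol u v
    rw [h1, map_zero] at h2
    linear_combination -h2
  -- the totally singular subspace is its own perp
  have hperp : LinearMap.BilinForm.orthogonal (QuadraticMap.polarBilin Q) U = U := by
    refine (Submodule.eq_of_le_of_finrank_le (fun u hu v hv => ?_) ?_).symm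
    · show QuadraticMap.polar ⇑Q v u = 0
      rw [QuadraticMap.polar, hU _ (U.add_mem hv hu), hU u hu, hU v hv, sub_zero, sub_zero]
    · rw [LinearMap.BilinForm.finrank_orthogonal hn, finrank_pi_ext hF hK]
      omega
  obtain ⟨ε, hε0, hε⟩ : ∃ ε : K, ε ≠ 0 ∧ ε ^ q = -ε := by
    obtain ⟨x, hx⟩ : ∃ x : K, x ^ q ≠ x := by
      by_contra hall
      push Not at hall
      exact qFrob_ne_id hK (RingHom.ext hall)
    refine ⟨x - x ^ q, sub_ne_zero.2 (Ne.symm hx), ?_⟩
    rw [← qFrob_apply hK, map_sub, qFrob_apply, qFrob_apply, ← pow_mul, ← sq, ← hK,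
      FiniteField.pow_card]
    ring
  obtain ⟨π, B₀, hπ, hB₀⟩ := exists_bilin (m := m) hF hK
  -- the alternating form on the subspace
  let εinv : (Fin m → K) →ₗ[F] (Fin m → K) :=
    { toFun := fun v => ε⁻¹ • v
      map_add' := fun v w => smul_add _ _ _
      map_smul' := fun a v => smul_comm _ _ _ }
  let ω : LinearMap.BilinForm F U := (B₀.comp εinv LinearMap.id).restrict U
  have hω : ∀ u v : U, ω u v = π (ε⁻¹ * h u v) := fun u v => by
    show B₀ (ε⁻¹ • (u : Fin m → K)) v = _
    rw [hB₀, hermForm_smul_left]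
  have hzero : ∀ u v : U, ω u v = 0 → h (u : Fin m → K) v = 0 := by
    intro u v e
    rw [hω] at e
    obtain ⟨a, ha⟩ := exists_eq_of_fixed hF hK (x := ε⁻¹ * h (u : Fin m → K) v) (by
      rw [mul_pow, inv_pow, hε, hermForm_symm hK m (u : Fin m → K), hskew _ u.2 _ v.2, inv_neg,
        neg_mul_neg])
    rw [← ha, hπ] at e
    rw [e, map_zero, eq_comm, mul_eq_zero] at ha
    exact ha.resolve_left (inv_ne_zero hε0)
  have halt : ω.IsAlt := fun u => by rw [hω, hU0 _ u.2, mul_zero, map_zero]
  let R' : Submodule K (Fin m → K) :=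
    { carrier := {r | r ∈ U ∧ ∀ u ∈ U, h r u = 0}
      zero_mem' := ⟨U.zero_mem, fun u _ => by simp [Cfsg.hermForm]⟩
      add_mem' := fun {a b} ha hb => ⟨U.add_mem ha.1 hb.1, fun u hu => by
        rw [hermForm_add_left, ha.2 u hu, hb.2 u hu, add_zero]⟩
      smul_mem' := fun x r hr => by
        have h1 : ∀ u ∈ U, h (x • r) u = 0 := fun u hu => by
          rw [hermForm_smul_left, hr.2 u hu, mul_zero]
        refine ⟨?_, h1⟩
        rw [← hperp]
        intro u hu
        show QuadraticMap.polar ⇑Q u (x • r) = 0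
        apply (algebraMap F K).injective
        rw [hpol, map_zero, ← hermForm_symm hK m (x • r) u, h1 u hu,
          zero_pow (by have := two_le_q hK; omega), add_zero] }
  let R : Submodule F U := (R'.restrictScalars F).comap U.subtype
  obtain ⟨C, hC⟩ := Submodule.exists_isCompl R
  have hR : finrank F R = 2 * finrank K R' := by
    rw [← card_ext hF hK, Module.finrank_mul_finrank F K R']
    exact (Submodule.comapSubtypeEquivOfLe (p := R'.restrictScalars F) (q := U)
      (fun r hr => hr.1)).finrank_eq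
  have hCeven : Even (finrank F C) := by
    refine Asch.even_finrank_nondeg ω halt fun u hu hc => ?_
    have hall : ∀ v : U, h (u : Fin m → K) v = 0 := by
      intro v
      obtain ⟨r, hr, c, hcC, rfl⟩ := Submodule.mem_sup.1
        (hC.sup_eq_top ▸ Submodule.mem_top : v ∈ R ⊔ C)
      refine hzero u (r + c) ?_
      rw [map_add, hc c hcC, add_zero, hω]
      rw [hskew _ r.2 _ u.2, (show (r : Fin m → K) ∈ R' from hr).2 _ u.2, neg_zero, mul_zero,
        map_zero]
    have huR : u ∈ R := ⟨u.2, fun v hv => hall ⟨v, hv⟩⟩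
    exact (Submodule.mem_bot F).1 (hC.inf_eq_bot ▸ ⟨huR, hu⟩)
  have hsum := Submodule.finrank_add_eq_of_isCompl hC
  rw [Nat.odd_iff] at hm
  rw [Nat.even_iff] at hCeven
  omega

end

end Cfsg.Agent.Fus.UnitTrace
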