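import Cfsg.Agent.Lib.Fus.JordanCentralizer
import Cfsg.Agent.Lib.Classical.Unit
import Cfsg.Agent.Lib.Classical.UnitaryConjugacy

/-! The order of the centralizer of a unipotent element of given Jordan type in a finite unitary group. -/

set_option autoImplicit false

namespace Cfsg.Agent.Fus.UnitaryJordanCentralizer

open Matrix JordanCentralizer

section abstract

variable {F : Type*} [Field F] {C R : Type*} [Ring C] [Algebra F C] [Ring R] [Algebra F R]

/-- In a finite algebra with semilinear anti-involution, unitary elements modulo a nilpotent stable ideal. -/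
theorem natCard_unitary_sq [Finite C] (π : C →ₐ[F] R) (hπ : Function.Surjective π) (σ : F →+* F)
    (hσ : ∀ a, σ (σ a) = a) {θ : F} (hθ : σ θ ≠ θ) (τ : C → C) (hadd : ∀ x y, τ (x + y) = τ x + τ y)
    (hmul : ∀ x y, τ (x * y) = τ y * τ x) (hsmul : ∀ (a : F) x, τ (a • x) = σ a • τ x) (hττ : ∀ x, τ (τ x) = x)
    (hker : ∀ x, π x = 0 → π (τ x) = 0) (hnil : ∀ x, π x = 0 → IsNilpotent x) (P : R → Prop)
    (hP : ∀ x, π (τ x * x) = 1 ↔ P (π x)) :
    Nat.card {x : C // τ x * x = 1} ^ 2 = Nat.card {x : C // π x = 0} * Nat.card {r : R // P r} ^ 2 := by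
  classical
  have h0 : τ 0 = 0 := by simpa using hsmul 0 0
  have h1 : τ 1 = 1 := by
    have h := hmul (τ 1) 1
    rw [mul_one, hττ, mul_one] at h
    exact h.symm
  have hsub : ∀ x y, τ (x - y) = τ x - τ y := fun x y => by
    rw [eq_sub_iff_add_eq, ← hadd, sub_add_cancel]
  set δ := θ - σ θ with hδdef
  have hδ : δ ≠ 0 := sub_ne_zero.2 (Ne.symm hθ)
  set c := θ / δ with hcdef
  have hc : σ c = 1 - c := by
    rw [hcdef, map_div₀, hδdef, map_sub, hσ]
    have h2 : σ θ - θ ≠ 0 := sub_ne_zero.2 hθ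
    have h3 : θ - σ θ ≠ 0 := sub_ne_zero.2 (Ne.symm hθ)
    field_simp
    ring
  -- every hermitian element congruent to one is a norm
  have lift : ∀ m (r : C), r ^ (2 ^ m) = 0 → π r = 0 → τ r = r → ∃ x, π x = 1 ∧ τ x * (1 + r) * x = 1 := by
    intro m
    induction m with
    | zero =>
      intro r hr _ _
      rw [pow_zero, pow_one] at hr
      exact ⟨1, map_one π, by rw [hr, h1]; simp⟩
    | succ m ih =>
      intro r hr hπr hτr
      set s : C := (c * (1 - c) - 1) • (1 : C) + (c * (1 - c)) • r with hs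
      have hx : τ (1 - c • r) = 1 - (1 - c) • r := by rw [hsub, h1, hsmul, hc, hτr]
      have hprod : τ (1 - c • r) * (1 + r) * (1 - c • r) = 1 + r * r * s := by
        rw [hx, hs]
        simp only [mul_add, sub_mul, mul_sub, add_mul, one_mul, mul_one, smul_mul_assoc, mul_smul_comm, smul_sub, smul_add]
        module
      have hcomm : Commute (r * r) s :=
        ((Commute.one_right (r * r)).smul_right _).add_right
          ((((Commute.refl r).mul_left (Commute.refl r))).smul_right _)
      obtain ⟨x, hx1, hx2⟩ := ih (r * r * s)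
        (by rw [hcomm.mul_pow, ← sq r, ← pow_mul, ← pow_succ', hr, zero_mul])
        (by rw [map_mul, map_mul, hπr, zero_mul, zero_mul])
        (by
          have h : τ (1 + r * r * s) = 1 + r * r * s := by
            rw [← hprod, hmul, hmul, hττ, hadd, h1, hτr, mul_assoc]
          rw [hadd, h1] at h
          exact add_left_cancel h)
      refine ⟨(1 - c • r) * x, by rw [map_mul, map_sub, map_smul, hπr, smul_zero, map_one, sub_zero, one_mul, hx1], ?_⟩
      rw [hmul, show τ x * τ (1 - c • r) * (1 + r) * ((1 - c • r) * x) =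
        τ x * (τ (1 - c • r) * (1 + r) * (1 - c • r)) * x by simp only [mul_assoc], hprod, hx2]
  have herm : ∀ h : C, π h = 1 → τ h = h → ∃ x, π x = 1 ∧ τ x * h * x = 1 := by
    intro h hh hτ
    have hr : π (h - 1) = 0 := by rw [map_sub, hh, map_one, sub_self]
    obtain ⟨N, hN⟩ := hnil _ hr
    obtain ⟨x, hx⟩ := lift N (h - 1) (pow_eq_zero_of_le Nat.lt_two_pow_self.le hN) hr
      (by rw [hsub, h1, hτ])
    exact ⟨x, hx.1, by simpa using hx.2⟩
  have hπτ : ∀ x, π x = 1 → π (τ x) = 1 := fun x hx => by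
    have := hker (x - 1) (by rw [map_sub, hx, map_one, sub_self])
    rwa [hsub, h1, map_sub, map_one, sub_eq_zero] at this
  -- unitary elements
  have hex : ∀ r : {r : R // P r}, ∃ x : C, τ x * x = 1 ∧ π x = r.1 := by
    intro r
    obtain ⟨A, hA⟩ := hπ r.1
    have hh : π (τ A * A) = 1 := (hP A).2 (hA.symm ▸ r.2)
    obtain ⟨x, hx1, hx2⟩ := herm (τ A * A) hh (by rw [hmul, hττ])
    exact ⟨A * x, by rw [hmul]; simpa [mul_assoc] using hx2, by rw [map_mul, hx1, mul_one, hA]⟩
  choose s hs1 hs2 using hex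
  let U0 := {x : C // τ x * x = 1 ∧ π x = 1}
  let Hh := {x : C // τ x = x ∧ π x = 0}
  have hU : Nat.card {x : C // τ x * x = 1} = Nat.card {r : R // P r} * Nat.card U0 := by
    rw [← Nat.card_prod]
    refine Nat.card_congr
      { toFun := fun x => (⟨π x.1, (hP x.1).1 (by rw [x.2, map_one])⟩,
          ⟨τ (s ⟨π x.1, (hP x.1).1 (by rw [x.2, map_one])⟩) * x.1, ?_, ?_⟩)
        invFun := fun p => ⟨s p.1 * p.2.1, ?_⟩
        left_inv := fun x => Subtype.ext ?_
        right_inv := fun p => ?_ }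
    · rw [hmul, hττ, mul_assoc, ← mul_assoc (s _), mul_eq_one_comm.1 (hs1 _), one_mul, x.2]
    · rw [map_mul]
      refine (congrArg (π (τ _) * ·) (hs2 ⟨π x.1, (hP x.1).1 (by rw [x.2, map_one])⟩).symm).trans ?_
      rw [← map_mul, hs1, map_one]
    · rw [hmul, mul_assoc, ← mul_assoc (τ (s _)), hs1, one_mul, p.2.2.1]
    · simp only
      rw [← mul_assoc, mul_eq_one_comm.1 (hs1 _), one_mul]
    · have h : (⟨π (s p.1 * p.2.1), (hP _).1 (by
          rw [hmul, mul_assoc, ← mul_assoc (τ (s p.1)), hs1, one_mul, p.2.2.1, map_one])⟩ : {r : R // P r}) = p.1 :=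
        Subtype.ext (by show π (s p.1 * p.2.1) = p.1.1; rw [map_mul, hs2, p.2.2.2, mul_one])
      refine Prod.ext h (Subtype.ext ?_)
      simp only [h]
      rw [← mul_assoc, hs1, one_mul]
  choose z hz1 hz2 using herm
  have hK1 : Nat.card {x : C // π x = 0} = Nat.card U0 * Nat.card Hh := by
    rw [← Nat.card_prod]
    have hzi : ∀ h hh hτ, z h hh hτ * (τ (z h hh hτ) * h) = 1 := fun h hh hτ =>
      mul_eq_one_comm.1 (hz2 h hh hτ)
    have hzeq : ∀ (u v : C), u = v → ∀ hu hu' hv hv', z u hu hu' = z v hv hv' := by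
      intro u v e; subst e; intros; rfl
    have e1 : {x : C // π x = 0} ≃ {x : C // π x = 1} :=
      { toFun := fun x => ⟨x.1 + 1, by rw [map_add, x.2, map_one, zero_add]⟩
        invFun := fun x => ⟨x.1 - 1, by rw [map_sub, x.2, map_one, sub_self]⟩
        left_inv := fun x => Subtype.ext (by simp)
        right_inv := fun x => Subtype.ext (by simp) }
    have e2 : Hh ≃ {x : C // τ x = x ∧ π x = 1} :=
      { toFun := fun x => ⟨x.1 + 1, by rw [hadd, h1, x.2.1], by rw [map_add, x.2.2, map_one, zero_add]⟩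
        invFun := fun x => ⟨x.1 - 1, by rw [hsub, h1, x.2.1], by rw [map_sub, x.2.2, map_one, sub_self]⟩
        left_inv := fun x => Subtype.ext (by simp)
        right_inv := fun x => Subtype.ext (by simp) }
    refine Nat.card_congr (e1.trans (Equiv.trans ?_ (Equiv.prodCongr (Equiv.refl _) e2.symm)))
    refine
      { toFun := fun x => (⟨x.1 * z (τ x.1 * x.1) (by rw [map_mul, hπτ _ x.2, x.2, one_mul]) (by rw [hmul, hττ]), ?_, ?_⟩,
          ⟨τ x.1 * x.1, by rw [hmul, hττ], by rw [map_mul, hπτ _ x.2, x.2, one_mul]⟩)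
        invFun := fun p => ⟨p.1.1 * (τ (z p.2.1 p.2.2.2 p.2.2.1) * p.2.1), ?_⟩
        left_inv := fun x => Subtype.ext ?_
        right_inv := fun p => ?_ }
    · rw [hmul]
      simpa [mul_assoc] using hz2 (τ x.1 * x.1) (by rw [map_mul, hπτ _ x.2, x.2, one_mul]) (by rw [hmul, hττ])
    · exact (map_mul π _ _).trans (by rw [hz1, mul_one]; exact x.2)
    · rw [map_mul, map_mul, p.1.2.2, hπτ _ (hz1 _ _ _), p.2.2.2, one_mul, one_mul]
    · simp only
      rw [mul_assoc, hzi, mul_one]
    · set zz := z p.2.1 p.2.2.2 p.2.2.1 with hzz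
      have h : τ (p.1.1 * (τ zz * p.2.1)) * (p.1.1 * (τ zz * p.2.1)) = p.2.1 := by
        rw [hmul, hmul, hττ, p.2.2.1, show p.2.1 * zz * τ p.1.1 * (p.1.1 * (τ zz * p.2.1)) =
          p.2.1 * (zz * ((τ p.1.1 * p.1.1) * (τ zz * p.2.1))) by simp only [mul_assoc], p.1.2.1, one_mul, hzi, mul_one]
      refine Prod.ext (Subtype.ext ?_) (Subtype.ext h)
      show p.1.1 * (τ zz * p.2.1) * z _ _ _ = p.1.1
      rw [hzeq _ _ h _ _ p.2.2.2 p.2.2.1, mul_assoc, ← hzz, hz2, mul_one]
  have hK2 : Nat.card {x : C // π x = 0} = Nat.card Hh * Nat.card Hh := by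
    rw [← Nat.card_prod]
    have hb : ∀ x : C, τ (δ⁻¹ • (x - τ x)) = δ⁻¹ • (x - τ x) := fun x => by
      rw [hsmul, hsub, hττ, map_inv₀, show σ δ = -δ by rw [hδdef, map_sub, hσ, neg_sub], inv_neg, neg_smul,
        ← smul_neg, neg_sub]
    refine Nat.card_congr
      { toFun := fun x => (⟨x.1 - θ • (δ⁻¹ • (x.1 - τ x.1)), ?_, ?_⟩, ⟨δ⁻¹ • (x.1 - τ x.1), hb x.1, ?_⟩)
        invFun := fun p => ⟨p.1.1 + θ • p.2.1, by rw [map_add, map_smul, p.1.2.2, p.2.2.2, smul_zero, add_zero]⟩
        left_inv := fun x => Subtype.ext (by simp)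
        right_inv := fun p => ?_ }
    · rw [hsub, hsmul, hb, show σ θ = θ - δ by rw [hδdef]; ring, sub_smul, smul_smul δ, mul_inv_cancel₀ hδ, one_smul]
      abel
    · rw [map_sub, map_smul, map_smul, map_sub, x.2, hker _ x.2, sub_zero, smul_zero, smul_zero, sub_zero]
    · rw [map_smul, map_sub, x.2, hker _ x.2, sub_zero, smul_zero]
    · have h : δ⁻¹ • (p.1.1 + θ • p.2.1 - τ (p.1.1 + θ • p.2.1)) = p.2.1 := by
        rw [hadd, hsmul, p.1.2.1, p.2.2.1, add_sub_add_left_eq_sub, ← sub_smul, ← hδdef, smul_smul,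
          inv_mul_cancel₀ hδ, one_smul]
      refine Prod.ext (Subtype.ext ?_) (Subtype.ext h)
      simp only [h]
      abel
  have : Nonempty Hh := ⟨⟨0, h0, map_zero π⟩⟩
  have hpos : 0 < Nat.card Hh := Nat.card_pos
  have heq : Nat.card U0 = Nat.card Hh := Nat.eq_of_mul_eq_mul_right hpos (hK1.symm.trans hK2)
  rw [hU, hK2, heq]
  ring

end abstract

variable {F : Type*} [Field F] {m n : Type*} [Fintype m] [Fintype n]

/-- Conjugate transpose with respect to a field endomorphism. -/
def ct (σ : F →+* F) (A : Matrix m n F) : Matrix n m F := (A.map σ)ᵀ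

omit [Fintype m] [Fintype n] in
theorem ct_apply (σ : F →+* F) (A : Matrix m n F) (i : n) (j : m) : ct σ A i j = σ (A j i) := rfl

omit [Fintype m] in
theorem ct_mul {p : Type*} [Fintype p] (σ : F →+* F) (A : Matrix m n F) (B : Matrix n p F) :
    ct σ (A * B) = ct σ B * ct σ A := by
  rw [ct, ct, ct, Matrix.map_mul, Matrix.transpose_mul]

omit [Fintype m] [Fintype n] in
theorem ct_ct {σ : F →+* F} (hσ : ∀ a, σ (σ a) = a) (A : Matrix m n F) : ct σ (ct σ A) = A := by
  ext i j; simp [ct_apply, hσ]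

omit [Fintype m] [Fintype n] in
theorem ct_add (σ : F →+* F) (A B : Matrix m n F) : ct σ (A + B) = ct σ A + ct σ B := by
  ext i j; simp [ct_apply]

omit [Fintype m] [Fintype n] in
theorem ct_smul (σ : F →+* F) (a : F) (A : Matrix m n F) : ct σ (a • A) = σ a • ct σ A := by
  ext i j; simp [ct_apply]

omit [Fintype m] in
theorem ct_one [DecidableEq m] (σ : F →+* F) : ct σ (1 : Matrix m m F) = 1 := by
  ext i j
  rw [ct_apply, Matrix.one_apply, Matrix.one_apply]
  by_cases h : i = j
  · simp [h]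
  · rw [if_neg h, if_neg (Ne.symm h), map_zero]

section form

variable {t : ℕ} {d : Fin t → ℕ} (σ : F →+* F) (H : Matrix (Idx d) (Idx d) F)

theorem ct_nil : ct σ (nil F d) = (nil F d)ᵀ := by
  ext a b
  rw [ct_apply, Matrix.transpose_apply, nil_apply]
  split_ifs <;> simp

theorem ent_transpose (A : Matrix (Idx d) (Idx d) F) (k l : Fin t) (a b : ℕ) :
    ent Aᵀ k l a b = ent A l k b a := by
  unfold ent
  by_cases h : a < d k ∧ b < d l
  · rw [dif_pos h, dif_pos ⟨h.2, h.1⟩, Matrix.transpose_apply]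
  · rw [dif_neg h, dif_neg (fun e => h ⟨e.2, e.1⟩)]

theorem ent_ct (A : Matrix (Idx d) (Idx d) F) (k l : Fin t) (a b : ℕ) :
    ent (ct σ A) k l a b = σ (ent A l k b a) := by
  unfold ent
  by_cases h : a < d k ∧ b < d l
  · rw [dif_pos h, dif_pos ⟨h.2, h.1⟩, ct_apply]
  · rw [dif_neg h, dif_neg (fun e => h ⟨e.2, e.1⟩), map_zero]

theorem ent_mul (X Y : Matrix (Idx d) (Idx d) F) {k l : Fin t} {a b : ℕ} (ha : a < d k) (hb : b < d l) :
    ent (X * Y) k l a b = ∑ j, ∑ s : Fin (d j), ent X k j a s * ent Y j l s b := by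
  rw [ent, dif_pos ⟨ha, hb⟩, Matrix.mul_apply, Fintype.sum_sigma]
  refine Finset.sum_congr rfl fun j _ => Finset.sum_congr rfl fun s _ => ?_
  simp only [ent, s.2, ha, hb, and_self, dif_pos, Fin.eta]

/-- The hypotheses: an invertible hermitian form preserved by the Jordan matrix. -/
structure IsForm : Prop where
  inv : ∀ a, σ (σ a) = a
  herm : ct σ H = H
  unit : IsUnit H.det
  pres : ct σ (Cfsg.jordanTypeMatrix d F) * H * Cfsg.jordanTypeMatrix d F = H

variable {σ H}

theorem rel (hF : IsForm σ H) {k l : Fin t} {a b : ℕ} (ha : a < d k) (hb : b < d l) :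
    ent H k l (a + 1) b + ent H k l a (b + 1) + ent H k l (a + 1) (b + 1) = 0 := by
  have h := hF.pres
  rw [jordan_eq, ct_add, ct_one, ct_nil, add_mul, one_mul, mul_add, mul_one, add_mul] at h
  have h' : (nil F d)ᵀ * H + (H * nil F d + (nil F d)ᵀ * H * nil F d) = 0 := by
    have := congrArg (· - H) h
    simp only [sub_self] at this
    rw [← this]
    abel
  have e1 : ∀ b', b' < d l → ent ((nil F d)ᵀ * H) k l a b' = ent H k l (a + 1) b' := fun b' hb' => by
    rw [← Matrix.transpose_transpose H, ← Matrix.transpose_mul, ent_transpose, mul_nil_ent _ hb' ha, ent_transpose,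
      ent_transpose, ent_transpose]
  have e2 := congrArg (fun X => ent X k l a b) h'
  simp only [ent_add, mul_nil_ent _ ha hb, e1 b hb] at e2
  rw [show ent (0 : Matrix (Idx d) (Idx d) F) k l a b = 0 by simp [ent]] at e2
  by_cases hb' : b + 1 < d l
  · rw [e1 _ hb'] at e2
    rw [add_assoc]
    exact e2
  · rw [ent_out_right _ a (by omega), ent_out_right _ a (by omega)] at e2
    rw [ent_out_right _ (a + 1) (show d l ≤ b + 1 by omega), ent_out_right _ a (show d l ≤ b + 1 by omega)]
    simpa using e2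

theorem vanish_left (hF : IsForm σ H) {k l : Fin t} :
    ∀ N a b : ℕ, d k ≤ a + N → d k ≤ a + b → ent H k l a b = 0
  | 0, a, b, h, _ => ent_out_left H (by omega) b
  | N + 1, a, b, h, hab => by
    by_cases ha : a < d k
    · obtain ⟨b', rfl⟩ : ∃ b', b = b' + 1 := ⟨b - 1, by omega⟩
      by_cases hb : b' < d l
      · have := rel hF (l := l) ha hb
        rw [vanish_left hF N (a + 1) b' (by omega) (by omega),
          vanish_left hF N (a + 1) (b' + 1) (by omega) (by omega), zero_add, add_zero] at this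
        exact this
      · exact ent_out_right H a (by omega)
    · exact ent_out_left H (by omega) b

theorem vanish (hF : IsForm σ H) {k l : Fin t} {a b : ℕ} (h : d k ≤ a + b ∨ d l ≤ a + b) :
    ent H k l a b = 0 := by
  rcases h with h | h
  · exact vanish_left hF (d k) a b (by omega) h
  · rw [← hF.herm, ent_ct, vanish_left hF (d l) b a (by omega) (by omega), map_zero]

variable (H) in
/-- The form induced on the blocks of a given size. -/
def blockForm (i : ℕ) : Matrix {k // d k = i} {k // d k = i} F :=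
  Matrix.of fun k l => ent H k.1 l.1 (i - 1) 0

theorem ct_blockForm (hF : IsForm σ H) (hd : ∀ k, 1 ≤ d k) (i : ℕ) :
    ct σ (blockForm H i) = (-1 : F) ^ (i - 1) • blockForm H i := by
  ext ⟨k, hk⟩ ⟨l, hl⟩
  have := hd k
  rw [ct_apply, Matrix.smul_apply, smul_eq_mul, blockForm, Matrix.of_apply, Matrix.of_apply, ← ent_ct, hF.herm]
  have key : ∀ b, b ≤ i - 1 → ent H k l (i - 1 - b) b = (-1 : F) ^ b * ent H k l (i - 1) 0 := by
    intro b
    induction b with
    | zero => intro _; simp
    | succ b ih =>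
      intro hb
      have h := rel hF (k := k) (l := l) (a := i - 1 - (b + 1)) (b := b) (by omega) (by omega)
      rw [show i - 1 - (b + 1) + 1 = i - 1 - b by omega, vanish hF (a := i - 1 - b) (b := b + 1) (Or.inl (by omega)),
        add_zero, add_comm] at h
      rw [eq_neg_of_add_eq_zero_left h, ih (by omega), pow_succ]
      ring
  have := key (i - 1) le_rfl
  rwa [Nat.sub_self] at this

theorem blockForm_isUnit (hF : IsForm σ H) (hd : ∀ k, 1 ≤ d k) (i : ℕ) : IsUnit (blockForm H i).det := by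
  classical
  rw [isUnit_iff_ne_zero]
  let G : Matrix (Fin t) (Fin t) F := Matrix.of fun k l => ent H k l (d k - 1) 0
  have hT : G.BlockTriangular d := fun k l (h : d l < d k) => vanish hF (Or.inr (by omega))
  have hG : G.det ≠ 0 := by
    intro h0
    obtain ⟨w, hw, hwG⟩ := Matrix.exists_vecMul_eq_zero_iff.2 h0
    refine hw (funext fun k => ?_)
    let v : Idx d → F := fun a => if (a.2 : ℕ) = d a.1 - 1 then w a.1 else 0
    have hv : v ᵥ* H = 0 := by
      funext ⟨l, s⟩
      rw [Matrix.vecMul, dotProduct, Fintype.sum_sigma, Pi.zero_apply]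
      have h1 : ∀ j, (∑ r : Fin (d j), v ⟨j, r⟩ * H ⟨j, r⟩ ⟨l, s⟩) = w j * ent H j l (d j - 1) s := fun j => by
        have := hd j
        rw [Finset.sum_eq_single (⟨d j - 1, by omega⟩ : Fin (d j))]
        · rw [← ent_apply H]; simp [v]
        · intro r _ hr
          simp only [v]
          rw [if_neg (fun e => hr (Fin.ext e)), zero_mul]
        · simp
      simp only [h1]
      rcases Nat.eq_zero_or_pos (s : ℕ) with hs | hs
      · rw [hs]
        simpa [Matrix.vecMul, dotProduct, G] using congrFun hwG l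
      · exact Finset.sum_eq_zero fun j _ => by rw [vanish hF (Or.inl (by have := hd j; omega)), mul_zero]
    have hv0 : v = 0 := by
      by_contra hne
      exact hF.unit.ne_zero (Matrix.exists_vecMul_eq_zero_iff.1 ⟨v, hne, hv⟩)
    have hk := hd k
    simpa [v] using congrFun hv0 ⟨k, ⟨d k - 1, by omega⟩⟩
  by_cases hi : i ∈ Finset.univ.image d
  · rw [hT.det, Finset.prod_ne_zero_iff] at hG
    have e : G.toSquareBlock d i = blockForm H i := by
      ext ⟨k, hk⟩ ⟨l, hl⟩
      simp [Matrix.toSquareBlock_def, G, blockForm, hk]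
    rw [← e]
    exact hG i hi
  · have : IsEmpty {k // d k = i} := ⟨fun k => hi (Finset.mem_image.2 ⟨k.1, Finset.mem_univ _, k.2⟩)⟩
    rw [Matrix.det_isEmpty]
    exact one_ne_zero

theorem isUnit_form (hF : IsForm σ H) : IsUnit H := (Matrix.isUnit_iff_isUnit_det _).2 hF.unit

theorem adj_mem (hF : IsForm σ H) {A : Matrix (Idx d) (Idx d) F} (hA : A ∈ cAlg F d) :
    H⁻¹ * ct σ A * H ∈ cAlg F d := by
  rw [mem_cAlg, ← commute_jordan_iff] at hA ⊢
  set J := Cfsg.jordanTypeMatrix d F
  set K' := ct σ J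
  have hK : ct σ A * K' = K' * ct σ A := by rw [← ct_mul, ← ct_mul, hA]
  have hKu : IsUnit (K' * H) := by
    have h : IsUnit (K' * H * J) := by rw [hF.pres]; exact isUnit_form hF
    rw [Matrix.isUnit_iff_isUnit_det, Matrix.det_mul] at h
    exact (Matrix.isUnit_iff_isUnit_det _).2 (isUnit_of_mul_isUnit_left h)
  apply hKu.mul_left_cancel
  calc K' * H * (H⁻¹ * ct σ A * H * J) = K' * (H * H⁻¹) * ct σ A * H * J := by simp only [mul_assoc]
    _ = ct σ A * (K' * H * J) := by rw [Matrix.mul_nonsing_inv _ hF.unit, mul_one, ← hK]; simp only [mul_assoc]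
    _ = (K' * H * J) * H⁻¹ * ct σ A * H := by rw [hF.pres, Matrix.mul_nonsing_inv _ hF.unit, one_mul]
    _ = K' * H * (J * (H⁻¹ * ct σ A * H)) := by simp only [mul_assoc]

/-- The adjoint anti-involution of the centralizer algebra. -/
noncomputable def adj (hF : IsForm σ H) (A : cAlg F d) : cAlg F d := ⟨H⁻¹ * ct σ A.1 * H, adj_mem hF A.2⟩

theorem ct_inv (hF : IsForm σ H) : ct σ H⁻¹ = H⁻¹ := by
  refine (Matrix.inv_eq_left_inv (?_ : ct σ H⁻¹ * H = 1)).symm
  conv_lhs => arg 2; rw [← hF.herm]
  rw [← ct_mul, Matrix.mul_nonsing_inv _ hF.unit, ct_one]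

/-- Equation relating the adjoint to the forms on the blocks. -/
theorem blockForm_mul_proj_adj (hF : IsForm σ H) (hd : ∀ k, 1 ≤ d k) (A : cAlg F d)
    (i : Fin (Finset.univ.sup d + 1)) :
    blockForm H i * proj F d hd (adj hF A) i = ct σ (proj F d hd A i) * blockForm H i := by
  ext k' l'
  obtain ⟨k, hk⟩ := k'
  obtain ⟨l, hl⟩ := l'
  have hk1 := hd k
  have hA := mem_cAlg.1 A.2
  have hT := mem_cAlg.1 (adj hF A).2
  have hHT : H * (adj hF A).1 = ct σ A.1 * H := by
    show H * (H⁻¹ * ct σ A.1 * H) = _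
    rw [← mul_assoc, ← mul_assoc, Matrix.mul_nonsing_inv _ hF.unit, one_mul]
  have e := congrArg (fun X => ent X k l ((i : ℕ) - 1) 0) hHT
  try simp only at e
  rw [ent_mul _ _ (by omega) (by omega), ent_mul _ _ (by omega) (by omega)] at e
  have hL : ∀ j, (∑ s : Fin (d j), ent H k j ((i : ℕ) - 1) s * ent (adj hF A).1 j l s 0) =
      ent H k j ((i : ℕ) - 1) 0 * ent (adj hF A).1 j l 0 0 := fun j => by
    rw [Finset.sum_eq_single (⟨0, hd j⟩ : Fin (d j))]
    · intro s _ hs
      have : 0 < (s : ℕ) := Nat.pos_of_ne_zero fun e => hs (Fin.ext e)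
      rw [vanish hF (Or.inl (by omega)), zero_mul]
    · simp
  have hR : ∀ j, (∑ s : Fin (d j), ent (ct σ A.1) k j ((i : ℕ) - 1) s * ent H j l s 0) =
      if d j = (i : ℕ) then σ (ent A.1 j k 0 0) * ent H j l ((i : ℕ) - 1) 0 else 0 := fun j => by
    have hterm : ∀ s : Fin (d j), (s : ℕ) ≠ (i : ℕ) - 1 → ent (ct σ A.1) k j ((i : ℕ) - 1) s * ent H j l s 0 = 0 :=
      fun s hs => by
        rw [ent_ct]
        rcases lt_or_gt_of_ne hs with h | h
        · rw [ent_eq_shift hA j k _ _ s.2 (by omega), if_neg (by omega), map_zero, zero_mul]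
        · rw [vanish hF (Or.inr (by omega)), mul_zero]
    by_cases hj : (i : ℕ) - 1 < d j
    · rw [Finset.sum_eq_single (⟨(i : ℕ) - 1, hj⟩ : Fin (d j)) (fun s _ hs => hterm s fun e => hs (Fin.ext e))
        (by simp), ent_ct, ent_eq_shift hA j k _ _ hj (by omega), if_pos le_rfl, Nat.sub_self]
      split_ifs with hji
      · rfl
      · rw [ent_zero_low hA (by omega), map_zero, zero_mul]
    · rw [if_neg (by omega)]
      exact Finset.sum_eq_zero fun s _ => hterm s (by have := s.2; omega)
  rw [Finset.sum_congr rfl fun j _ => hL j, Finset.sum_congr rfl fun j _ => hR j,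
    ← Finset.sum_filter_of_ne (p := fun j => d j = (i : ℕ)), ← Finset.sum_filter,
    Finset.sum_subtype _ (p := fun j => d j = (i : ℕ)) (fun j => by simp),
    Finset.sum_subtype _ (p := fun j => d j = (i : ℕ)) (fun j => by simp)] at e
  · simpa [Matrix.mul_apply, blockForm, proj_apply, ct_apply] using e
  · intro j _ hne
    by_contra hji
    rcases lt_or_gt_of_ne hji with h | h
    · rw [vanish hF (Or.inr (by omega)), zero_mul] at hne
      exact hne rfl
    · rw [ent_zero_low hT (by omega), mul_zero] at hne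
      exact hne rfl

/-- The unitary elements of the centralizer algebra. -/
theorem natCard_unitary_cAlg [Finite F] (hF : IsForm σ H) (hd : ∀ k, 1 ≤ d k) {θ : F} (hθ : σ θ ≠ θ) :
    Nat.card {A : cAlg F d // adj hF A * A = 1} ^ 2 = Nat.card F ^ expo d *
      (∏ i : Fin (Finset.univ.sup d + 1), Nat.card {M : Matrix {k // d k = (i : ℕ)} {k // d k = (i : ℕ)} F //
        ct σ M * blockForm H i * M = blockForm H i}) ^ 2 := by
  rw [natCard_unitary_sq (proj F d hd) (proj_surjective hd) σ hF.inv hθ (adj hF)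
    (P := fun r => ∀ i, ct σ (r i) * blockForm H (i : ℕ) * r i = blockForm H (i : ℕ)), natCard_ker hd,
    Nat.card_congr (Equiv.subtypePiEquivPi (β := fun i : Fin (Finset.univ.sup d + 1) =>
      Matrix {k // d k = (i : ℕ)} {k // d k = (i : ℕ)} F) (p := fun {i} M => ct σ M * blockForm H (i : ℕ) * M = blockForm H (i : ℕ))),
    Nat.card_pi]
  · exact fun x y => Subtype.ext (by simp [adj, ct_add, mul_add, add_mul])
  · exact fun x y => Subtype.ext (by
      simp only [adj, MulMemClass.coe_mul, ct_mul]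
      simp only [mul_assoc]
      rw [← mul_assoc H H⁻¹, Matrix.mul_nonsing_inv _ hF.unit, one_mul])
  · exact fun a x => Subtype.ext (by simp [adj, ct_smul])
  · intro x
    refine Subtype.ext ?_
    show H⁻¹ * ct σ (H⁻¹ * ct σ x.1 * H) * H = x.1
    rw [ct_mul, ct_mul, ct_ct hF.inv, hF.herm, ct_inv hF]
    simp only [← mul_assoc]
    rw [Matrix.nonsing_inv_mul _ hF.unit, one_mul, mul_assoc, Matrix.nonsing_inv_mul _ hF.unit, mul_one]
  · intro x hx
    funext i
    refine ((Matrix.isUnit_iff_isUnit_det _).2 (blockForm_isUnit hF hd (i : ℕ))).mul_left_cancel ?_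
    rw [blockForm_mul_proj_adj hF hd, hx]
    simp [ct]
  · intro x hx
    obtain ⟨N, hN⟩ := isNilpotent_of_proj_eq_zero hd hx
    exact ⟨N, Subtype.ext (by simpa using hN)⟩
  · intro x
    rw [map_mul, funext_iff]
    refine forall_congr' fun i => ?_
    rw [Pi.mul_apply, Pi.one_apply, ← blockForm_mul_proj_adj hF hd, mul_assoc]
    refine ⟨fun h => by rw [h, mul_one], fun h => ?_⟩
    exact ((Matrix.isUnit_iff_isUnit_det _).2 (blockForm_isUnit hF hd (i : ℕ))).mul_left_cancel (h.trans (mul_one _).symm)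

end form

section finite

variable {q : ℕ} [Fintype F]

open Cfsg.Agent.Classical Cfsg.Agent.UnitaryConjugacy

/-- The isometry group of a hermitian or skew hermitian invertible matrix has the order of the unitary group. -/
theorem natCard_isometry [DecidableEq n] (hK : Fintype.card F = q ^ 2) {a : ℕ} (ha : Fintype.card n = a)
    (S : Matrix n n F) (hS : IsUnit S.det) {c : F} (hc : c ≠ 0)
    (hherm : ct (qFrob hK) (c • S) = c • S) :
    Nat.card {M : Matrix n n F // ct (qFrob hK) M * S * M = S} = Nat.card (GU a F q) := by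
  classical
  let e := Fintype.equivFinOfCardEq ha
  set S' : Matrix (Fin a) (Fin a) F := (c • S).submatrix e.symm e.symm with hS'
  have hsub : ∀ X : Matrix n n F, st hK (X.submatrix e.symm e.symm) = (ct (qFrob hK) X).submatrix e.symm e.symm :=
    fun X => rfl
  have hherm' : st hK S' = S' := by rw [hS', hsub, hherm]
  have hu : IsUnit S' := by
    rw [Matrix.isUnit_iff_isUnit_det, hS', Matrix.det_submatrix_equiv_self, Matrix.det_smul]
    exact ((isUnit_iff_ne_zero.2 hc).pow _).mul hS
  obtain ⟨P, -, hPu, hP⟩ := exists_eq_st_mul hK hherm' hu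
  obtain ⟨P, rfl⟩ := hPu
  obtain ⟨P0, P1, h01, h10⟩ := P
  replace hP : st hK P0 * P0 = S' := hP
  have e1 : {M : Matrix n n F // ct (qFrob hK) M * S * M = S} ≃
      {M : Matrix (Fin a) (Fin a) F // st hK M * S' * M = S'} := by
    refine (Matrix.reindex e e).subtypeEquiv fun M => ?_
    rw [Matrix.reindex_apply, hsub, hS', Matrix.submatrix_mul_equiv, Matrix.submatrix_mul_equiv,
      Matrix.mul_smul, Matrix.smul_mul]
    constructor
    · intro h; rw [h]
    · intro h
      exact smul_right_injective _ hc ((Matrix.reindex e e).injective h)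
  have hinv : st hK P1 * st hK P0 = 1 := by
    rw [← st_mul, h01, st_one]
  have key : ∀ M : Matrix (Fin a) (Fin a) F, st hK M * S' * M = S' →
      st hK (P0 * M * P1) * (P0 * M * P1) = 1 := by
    intro M hM
    rw [st_mul, st_mul]
    calc _ = st hK P1 *
          ((st hK M * (st hK P0 * P0)) * M) * P1 := by simp only [mul_assoc]
      _ = (st hK P1 * st hK P0) * (P0 * P1) := by
          rw [hP, hM, ← hP]; simp only [mul_assoc]
      _ = 1 := by rw [hinv, h01, one_mul]
  refine Nat.card_congr (e1.trans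
    { toFun := fun M => ⟨⟨P0 * M.1 * P1,
          st hK (P0 * M.1 * P1), mul_eq_one_comm.1 (key M.1 M.2), key M.1 M.2⟩,
          (mem_GU_iff hK _).2 (key M.1 M.2)⟩
      invFun := fun g => ⟨P1 * ((g.1 : GL (Fin a) F) : Matrix (Fin a) (Fin a) F) * P0, ?_⟩
      left_inv := fun M => Subtype.ext ?_
      right_inv := fun g => Subtype.ext (Units.ext ?_) })
  · set G := ((g.1 : GL (Fin a) F) : Matrix (Fin a) (Fin a) F)
    have hG : st hK G * G = 1 := (mem_GU_iff hK _).1 g.2
    rw [st_mul, st_mul, ← hP]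
    calc _ = st hK P0 * (st hK G * ((st hK P1 *
          st hK P0) * ((P0 * P1) * G))) * P0 := by simp only [mul_assoc]
      _ = _ := by rw [hinv, h01, one_mul, one_mul, hG, mul_one]
  · simp only [← mul_assoc, h10, one_mul]
    rw [mul_assoc, h10, mul_one]
  · simp only [← mul_assoc, h01, one_mul]
    rw [mul_assoc, h01, mul_one]

variable {N t : ℕ} {d : Fin t → ℕ}

/-- The order of the centralizer of a unipotent element of given Jordan type in the unitary group. -/
theorem natCard_centralizer (hK : Fintype.card F = q ^ 2) (hd : ∀ k, 1 ≤ d k) (e : Idx d ≃ Fin N)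
    (u : ↥(GU N F q))
    (hu : IsConj (Matrix.reindex e e (Cfsg.jordanTypeMatrix d F)) ((u : GL (Fin N) F) : Matrix (Fin N) (Fin N) F)) :
    Nat.card ↥(Subgroup.centralizer ({u} : Set ↥(GU N F q))) =
      q ^ expo d * ∏ i ∈ Finset.range (Finset.univ.sup d + 1),
        Nat.card (GU (Finset.univ.filter (fun k : Fin t => d k = i)).card F q) := by
  classical
  obtain ⟨g, hg⟩ := hu
  set J := Cfsg.jordanTypeMatrix d F with hJ
  set U : Matrix (Fin N) (Fin N) F := ((u : GL (Fin N) F) : Matrix (Fin N) (Fin N) F)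
  set a : Matrix (Fin N) (Fin N) F := Matrix.reindex e e J with ha
  have hU : st hK U * U = 1 := (mem_GU_iff hK _).1 u.2
  have hga : (g : Matrix (Fin N) (Fin N) F) * a = U * g := hg.eq
  set g0 : Matrix (Fin N) (Fin N) F := (g : Matrix (Fin N) (Fin N) F) with hg0
  set g1 : Matrix (Fin N) (Fin N) F := ((g⁻¹ : (Matrix (Fin N) (Fin N) F)ˣ) : Matrix (Fin N) (Fin N) F) with hg1
  have h01 : g0 * g1 = 1 := g.mul_inv
  have h10 : g1 * g0 = 1 := g.inv_mul
  have hga' : a * g1 = g1 * U := by
    calc a * g1 = (g1 * g0) * a * g1 := by rw [h10, one_mul]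
      _ = g1 * U * (g0 * g1) := by rw [mul_assoc g1 g0, hga]; simp only [mul_assoc]
      _ = g1 * U := by rw [h01, mul_one]
  set H' := st hK g0 * g0 with hH'
  set H : Matrix (Idx d) (Idx d) F := H'.submatrix e e with hH
  have hsub : ∀ X : Matrix (Fin N) (Fin N) F, ct (qFrob hK) (X.submatrix e e) = (st hK X).submatrix e e := fun X => rfl
  have hJa : J = a.submatrix e e := by rw [ha, Matrix.reindex_apply, Matrix.submatrix_submatrix]; simp
  have hpres : st hK a * H' * a = H' := by
    rw [hH', ← mul_assoc, ← st_mul, mul_assoc, hga, st_mul, mul_assoc, ← mul_assoc (st hK U), hU, one_mul]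
  have hF : IsForm (qFrob hK) H :=
    { inv := qFrob_qFrob hK
      herm := by rw [hH, hsub, hH', st_mul, st_st]
      unit := by
        rw [hH, Matrix.det_submatrix_equiv_self, ← Matrix.isUnit_iff_isUnit_det]
        exact (st_unit hK g.isUnit).mul g.isUnit
      pres := by rw [← hJ, hJa, hsub, hH, Matrix.submatrix_mul_equiv, Matrix.submatrix_mul_equiv, hpres] }
  obtain ⟨θ, hθ⟩ := exists_ne_qFrob hK
  -- from the centralizer to the unitary elements of the centralizer algebra
  have e1 : ↥(Subgroup.centralizer ({u} : Set ↥(GU N F q))) ≃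
      {x : Matrix (Fin N) (Fin N) F // st hK x * x = 1 ∧ x * U = U * x} := by
    refine
      { toFun := fun x => ⟨((x.1.1 : GL (Fin N) F) : Matrix (Fin N) (Fin N) F), (mem_GU_iff hK _).1 x.1.2,
          (congrArg (fun y : ↥(GU N F q) => ((y.1 : GL (Fin N) F) : Matrix (Fin N) (Fin N) F))
            (Subgroup.mem_centralizer_singleton_iff.1 x.2))⟩
        invFun := fun x => ⟨⟨⟨_, _, mul_eq_one_comm.1 x.2.1, x.2.1⟩, (mem_GU_iff hK _).2 x.2.1⟩,
          Subgroup.mem_centralizer_singleton_iff.2 (Subtype.ext (Units.ext x.2.2))⟩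
        left_inv := fun x => Subtype.ext (Subtype.ext (Units.ext rfl))
        right_inv := fun x => Subtype.ext rfl }
  have e2 : {x : Matrix (Fin N) (Fin N) F // st hK x * x = 1 ∧ x * U = U * x} ≃
      {A : Matrix (Fin N) (Fin N) F // st hK A * H' * A = H' ∧ A * a = a * A} := by
    refine
      { toFun := fun x => ⟨g1 * x.1 * g0, ?_, ?_⟩
        invFun := fun A => ⟨g0 * A.1 * g1, ?_, ?_⟩
        left_inv := fun x => Subtype.ext (by
          simp only [← mul_assoc, h01, one_mul]
          rw [mul_assoc, h01, mul_one])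
        right_inv := fun A => Subtype.ext (by
          simp only [← mul_assoc, h10, one_mul]
          rw [mul_assoc, h10, mul_one]) }
    · rw [st_mul, st_mul, hH']
      calc _ = st hK g0 * (st hK x.1 * ((st hK g1 * st hK g0) * ((g0 * g1) * x.1))) * g0 := by simp only [mul_assoc]
        _ = _ := by rw [← st_mul, h01, st_one, one_mul, one_mul, x.2.1, mul_one]
    · calc g1 * x.1 * g0 * a = g1 * (x.1 * U) * g0 := by rw [mul_assoc, hga]; simp only [mul_assoc]
        _ = (g1 * U) * x.1 * g0 := by rw [x.2.2]; simp only [mul_assoc]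
        _ = _ := by rw [← hga']; simp only [mul_assoc]
    · rw [st_mul, st_mul]
      calc _ = st hK g1 * (st hK A.1 * (st hK g0 * g0) * A.1) * g1 := by simp only [mul_assoc]
        _ = (st hK g1 * st hK g0) * (g0 * g1) := by rw [← hH', A.2.1, hH']; simp only [mul_assoc]
        _ = 1 := by rw [← st_mul, h01, st_one, one_mul]
    · calc g0 * A.1 * g1 * U = g0 * (A.1 * a) * g1 := by rw [mul_assoc, ← hga']; simp only [mul_assoc]
        _ = (g0 * a) * A.1 * g1 := by rw [A.2.2]; simp only [mul_assoc]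
        _ = _ := by rw [hga]; simp only [mul_assoc]
  have e3 : {A : Matrix (Fin N) (Fin N) F // st hK A * H' * A = H' ∧ A * a = a * A} ≃
      {A : Matrix (Idx d) (Idx d) F // ct (qFrob hK) A * H * A = H ∧ A * J = J * A} := by
    refine (Matrix.reindex e.symm e.symm).subtypeEquiv fun A => ?_
    rw [Matrix.reindex_apply, Equiv.symm_symm, hsub, hH, hJa, Matrix.submatrix_mul_equiv, Matrix.submatrix_mul_equiv,
      Matrix.submatrix_mul_equiv, Matrix.submatrix_mul_equiv]
    have hinj : ∀ X Y : Matrix (Fin N) (Fin N) F, X.submatrix e e = Y.submatrix e e ↔ X = Y := fun X Y =>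
      (Matrix.reindex e.symm e.symm).injective.eq_iff
    rw [hinj, hinj]
  have hcond : ∀ A : Matrix (Idx d) (Idx d) F, ct (qFrob hK) A * H * A = H ↔ H⁻¹ * ct (qFrob hK) A * H * A = 1 :=
    fun A => by
      rw [show H⁻¹ * ct (qFrob hK) A * H * A = H⁻¹ * (ct (qFrob hK) A * H * A) by simp only [mul_assoc]]
      constructor
      · intro h; rw [h, Matrix.nonsing_inv_mul _ hF.unit]
      · intro h
        have := congrArg (H * ·) h
        simp only [← mul_assoc, Matrix.mul_nonsing_inv _ hF.unit, one_mul, mul_one] at this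
        exact this
  have e4 : {A : Matrix (Idx d) (Idx d) F // ct (qFrob hK) A * H * A = H ∧ A * J = J * A} ≃
      {A : cAlg F d // adj hF A * A = 1} :=
    { toFun := fun A => ⟨⟨A.1, mem_cAlg.2 ((commute_jordan_iff _).1 A.2.2)⟩, Subtype.ext ((hcond A.1).1 A.2.1)⟩
      invFun := fun A => ⟨A.1.1, (hcond _).2 (congrArg Subtype.val A.2), (commute_jordan_iff _).2 (mem_cAlg.1 A.1.2)⟩
      left_inv := fun A => Subtype.ext rfl
      right_inv := fun A => Subtype.ext (Subtype.ext rfl) }
  have hmain := natCard_unitary_cAlg hF hd hθ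
  rw [← Nat.card_congr (((e1.trans e2).trans e3).trans e4)] at hmain
  have hblock : ∀ i : Fin (Finset.univ.sup d + 1),
      Nat.card {M : Matrix {k // d k = (i : ℕ)} {k // d k = (i : ℕ)} F //
        ct (qFrob hK) M * blockForm H i * M = blockForm H i} =
      Nat.card (GU (Finset.univ.filter (fun k : Fin t => d k = (i : ℕ))).card F q) := by
    intro i
    have hsign := ct_blockForm hF hd (i : ℕ)
    rcases neg_one_pow_eq_or F ((i : ℕ) - 1) with h | h <;> rw [h] at hsign
    · refine natCard_isometry hK (Fintype.card_subtype _) _ (blockForm_isUnit hF hd _) (c := 1) one_ne_zero ?_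
      rw [one_smul, hsign, one_smul]
    · refine natCard_isometry hK (Fintype.card_subtype _) _ (blockForm_isUnit hF hd _) (c := θ - qFrob hK θ)
        (sub_ne_zero.2 (Ne.symm hθ)) ?_
      rw [ct_smul, hsign, map_sub, qFrob_qFrob, smul_smul]
      congr 1
      ring
  rw [Finset.prod_congr rfl fun i _ => hblock i, Fin.prod_univ_eq_prod_range
    (fun i => Nat.card (GU (Finset.univ.filter (fun k : Fin t => d k = i)).card F q)), Nat.card_eq_fintype_card (α := F),
    hK, pow_right_comm q 2, ← mul_pow] at hmain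
  exact Nat.pow_left_injective two_ne_zero hmain

/-- The order formula with the unitary group orders expanded. -/
theorem natCard_centralizer_eq (hK : Fintype.card F = q ^ 2) (hd : ∀ k, 1 ≤ d k) (e : Idx d ≃ Fin N)
    (u : ↥(GU N F q))
    (hu : IsConj (Matrix.reindex e e (Cfsg.jordanTypeMatrix d F)) ((u : GL (Fin N) F) : Matrix (Fin N) (Fin N) F)) :
    (Nat.card ↥(Subgroup.centralizer ({u} : Set ↥(GU N F q))) : ℤ) =
      (q : ℤ) ^ expo d * ∏ i ∈ Finset.range (Finset.univ.sup d + 1),
        ((q : ℤ) ^ ((Finset.univ.filter (fun k : Fin t => d k = i)).card *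
            ((Finset.univ.filter (fun k : Fin t => d k = i)).card - 1) / 2) *
          ∏ j : Fin (Finset.univ.filter (fun k : Fin t => d k = i)).card,
            ((q : ℤ) ^ ((j : ℕ) + 1) - (-1) ^ ((j : ℕ) + 1))) := by
  rw [natCard_centralizer hK hd e u hu]
  push_cast
  refine congrArg _ (Finset.prod_congr rfl fun i _ => ?_)
  rw [order_GU hK, ← Fin.prod_univ_eq_prod_range (fun j => (q : ℤ) ^ (j + 1) + (-1) ^ j)]
  refine congrArg _ (Finset.prod_congr rfl fun j _ => ?_)
  rw [pow_succ (-1 : ℤ)]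
  ring

end finite

end Cfsg.Agent.Fus.UnitaryJordanCentralizer
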