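import Cfsg.Agent.Lib.Lie.Chev.WeylCoxeter

/-!
Centres and small generating sets of the exceptional Weyl groups, from table checks: a word in the
fundamental reflections is determined by its images of the fundamental roots.
-/

set_option autoImplicit false

namespace Cfsg.Agent.Fus.WeylCentre

open Cfsg.Lie Cfsg.Agent.Lie.Chev

variable {k : ℕ} [NeZero k]

/-- The element of a Coxeter group given by a word in natural numbers. -/
def phi (M : CoxeterMatrix (Fin k)) (L : List ℕ) : M.Group :=
  (L.map fun p => M.simple (Fin.ofNat k p)).prod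

@[simp] theorem phi_nil (M : CoxeterMatrix (Fin k)) : phi M [] = 1 := rfl

theorem phi_append (M : CoxeterMatrix (Fin k)) (A B : List ℕ) :
    phi M (A ++ B) = phi M A * phi M B := by
  simp [phi]

theorem phi_singleton (M : CoxeterMatrix (Fin k)) (i : Fin k) : phi M [(i : ℕ)] = M.simple i := by
  simp [phi, Fin.ofNat, Nat.mod_eq_of_lt i.2]

theorem phi_range (M : CoxeterMatrix (Fin k)) :
    phi M (List.range k) = ((List.finRange k).map M.simple).prod := by
  rw [← List.map_coe_finRange_eq_range, phi, List.map_map]
  refine congrArg List.prod (List.map_congr_left fun i _ => ?_)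
  simp [Fin.ofNat, Nat.mod_eq_of_lt i.2]

theorem phi_reverse (M : CoxeterMatrix (Fin k)) (L : List ℕ) :
    phi M L.reverse = (phi M L)⁻¹ := by
  induction L with
  | nil => simp
  | cons p L ih =>
    rw [List.reverse_cons, phi_append, ih, show p :: L = [p] ++ L from rfl, phi_append, mul_inv_rev]
    congr 1
    simp only [phi, List.map_cons, List.map_nil, List.prod_cons, List.prod_nil, mul_one]
    exact (M.toCoxeterSystem.inv_simple _).symm

theorem phi_replicate (M : CoxeterMatrix (Fin k)) (L : List ℕ) : ∀ m : ℕ,
    phi M (List.replicate m L).flatten = phi M L ^ m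
  | 0 => by simp
  | m + 1 => by
    rw [List.replicate_succ, List.flatten_cons, phi_append, phi_replicate M L m, pow_succ']

theorem exists_phi (M : CoxeterMatrix (Fin k)) (g : M.Group) :
    ∃ L : List ℕ, (∀ p ∈ L, p < k) ∧ phi M L = g := by
  have hg : g ∈ Submonoid.closure (Set.range M.simple) :=
    M.toCoxeterSystem.submonoid_closure_range_simple.symm ▸ Submonoid.mem_top g
  induction hg using Submonoid.closure_induction with
  | mem x hx =>
    obtain ⟨i, rfl⟩ := hx
    exact ⟨[(i : ℕ)], by simp, phi_singleton M i⟩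
  | one => exact ⟨[], by simp, rfl⟩
  | mul x y _ _ hx hy =>
    obtain ⟨A, hA, rfl⟩ := hx
    obtain ⟨B, hB, rfl⟩ := hy
    refine ⟨A ++ B, fun p hp => ?_, phi_append M A B⟩
    exact (List.mem_append.1 hp).elim (hA p) (hB p)

section Bridge

variable {D : ChevalleyDatum} (c : CertFull D) (M : CoxeterMatrix (Fin k)) (hk : D.rank = k)
  (hchk : c.T.checkCox ((List.range k).map fun i => [i]) (natM M) = true)

include hk hchk in
/-- Two words give the same element iff they agree on the fundamental roots. -/
theorem phi_eq_iff {L L' : List ℕ} (hL : ∀ p ∈ L, p < k) (hL' : ∀ p ∈ L', p < k) :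
    phi M L = phi M L' ↔
      ∀ q < k, c.T.wlT L (c.T.simple q) = c.T.wlT L' (c.T.simple q) := by
  obtain ⟨e, he⟩ := c.exists_weylEquiv ℚ M hk hchk
  have key : ∀ (l : List ℕ) (hl : ∀ p ∈ l, p < D.rank),
      e (Cfsg.Agent.Lie.proj (c.bnPair ℚ) (c.wN ℚ l hl)) = phi M l := by
    intro l
    induction l with
    | nil =>
      intro hl
      rw [(c.proj_wN_eq_one hl).2 fun q _ => rfl, map_one]
      rfl
    | cons a l ih =>
      intro hl
      have h1 : ∀ p ∈ [a], p < D.rank := fun p hp => hl p (by simp_all)
      have h2 : ∀ p ∈ l, p < D.rank := fun p hp => hl p (by simp [hp])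
      have h3 := c.wN_append (F := ℚ) h1 h2 hl
      change e (Cfsg.Agent.Lie.proj (c.bnPair ℚ) (c.wN ℚ ([a] ++ l) hl)) = phi M ([a] ++ l)
      rw [h3, map_mul, map_mul, ih h2, phi_append]
      have ha : a < k := hk ▸ hl a (by simp)
      have h4 := he ⟨a, ha⟩
      rw [show phi M [a] = M.simple ⟨a, ha⟩ from phi_singleton M ⟨a, ha⟩, ← h4]
  rw [← key L (fun p hp => hk.symm ▸ hL p hp), ← key L' (fun p hp => hk.symm ▸ hL' p hp),
    e.injective.eq_iff, c.proj_wN_eq]
  constructor
  · intro h q hq
    have := h q (hk.symm ▸ hq)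
    rw [c.simple_eq (hk.symm ▸ hq), ← c.wlT_eq, ← c.wlT_eq] at this
    exact this
  · intro h q hq
    have := h q (hk ▸ hq)
    rw [c.wlT_eq, c.wlT_eq, ← c.simple_eq hq] at this
    exact this

include hk hchk in
/-- A word keeping all fundamental roots positive gives the neutral element. -/
theorem phi_eq_one_of_pos {L : List ℕ} (hL : ∀ p ∈ L, p < k)
    (h : ∀ q < k, c.T.h ≤ c.T.wlT L (c.T.simple q)) : phi M L = 1 := by
  have hL' : ∀ p ∈ L, p < D.rank := fun p hp => hk.symm ▸ hL p hp
  have hH : c.nw ℚ L ∈ D.diagonalSubgroup ℚ := by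
    refine c.nw_mem_H hL' fun q hq => ⟨?_, c.wl_lt hL' (c.simple_lt hq)⟩
    rw [c.simple_eq hq, ← c.wlT_eq]
    exact h q (hk ▸ hq)
  obtain ⟨e, -⟩ := c.exists_weylEquiv ℚ M hk hchk
  have h1 : Cfsg.Agent.Lie.proj (c.bnPair ℚ) (c.wN ℚ L hL') = 1 := by
    rw [← MonoidHom.mem_ker, QuotientGroup.ker_mk', c.mem_torus_iff']
    exact hH
  rw [← phi_nil M, phi_eq_iff c M hk hchk hL (by simp)]
  intro q hq
  have := (c.proj_wN_eq_one hL').1 h1 q (hk.symm ▸ hq)
  rw [c.simple_eq (hk.symm ▸ hq), ← c.wlT_eq, ← c.wlT_eq] at this
  exact this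

/-- One letter of a coded word. -/
def step (k : ℕ) (refls : List ℕ) : ℕ → List ℕ
  | 0 => List.range k
  | 1 => (List.range k).reverse
  | j + 2 => [refls.getD j 0]

/-- Expand a coded word: `0` the Coxeter word, `1` its reverse, `j + 2` the `j`-th reflection. -/
def expand (k : ℕ) (refls : List ℕ) (code : List ℕ) : List ℕ :=
  code.flatMap (step k refls)

/-- The check for generation by the Coxeter word and some fundamental reflections. -/
def checkGen (T : Tables) (k : ℕ) (refls : List ℕ) (cert : List (List ℕ)) : Bool :=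
  (refls.all fun j => Nat.blt j k) &&
  (List.range k).all fun q =>
    ((cert.getD q []).all fun x => Nat.blt x (refls.length + 2)) &&
    (List.range k).all fun r => Nat.beq (T.wlT [q] (T.simple r))
      (T.wlT (expand k refls (cert.getD q [])) (T.simple r))

include hk hchk in
theorem generated {refls : List ℕ} {cert : List (List ℕ)}
    (h : checkGen c.T k refls cert = true) :
    Subgroup.closure (({((List.finRange k).map M.simple).prod} : Set M.Group) ∪
      {x | ∃ j ∈ refls, phi M [j] = x}) = ⊤ := by
  simp only [checkGen, List.all_eq_true, List.mem_range, Bool.and_eq_true, Nat.blt_eq,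
    Nat.beq_eq] at h
  obtain ⟨hR, h⟩ := h
  set S := Subgroup.closure (({((List.finRange k).map M.simple).prod} : Set M.Group) ∪
      {x | ∃ j ∈ refls, phi M [j] = x}) with hS
  have hC : phi M (List.range k) ∈ S :=
    Subgroup.subset_closure (Or.inl (phi_range M))
  have hexp : ∀ code : List ℕ, (∀ x ∈ code, x < refls.length + 2) →
      (∀ p ∈ expand k refls code, p < k) ∧ phi M (expand k refls code) ∈ S := by
    intro code
    induction code with
    | nil => exact fun _ => ⟨by simp [expand], by simp [expand, one_mem]⟩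
    | cons x code ih =>
      intro hx
      obtain ⟨i1, i2⟩ := ih fun y hy => hx y (by simp [hy])
      have hx' := hx x (by simp)
      have key : ∀ A : List ℕ, (∀ p ∈ A, p < k) → phi M A ∈ S →
          (∀ p ∈ A ++ expand k refls code, p < k) ∧ phi M (A ++ expand k refls code) ∈ S :=
        fun A hA hm => ⟨fun p hp => (List.mem_append.1 hp).elim (hA p) (i1 p),
          by rw [phi_append]; exact mul_mem hm i2⟩
      have e : expand k refls (x :: code) = step k refls x ++ expand k refls code :=
        List.flatMap_cons ..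
      rw [e]
      match x, hx' with
      | 0, _ => exact key (List.range k) (by simp) hC
      | 1, _ =>
        refine key (List.range k).reverse (by simp) ?_
        rw [phi_reverse]
        exact inv_mem hC
      | j + 2, hj =>
        have hj' : j < refls.length := by omega
        have hm : refls.getD j 0 ∈ refls := by
          rw [List.getD_eq_getElem _ _ hj']; exact List.getElem_mem _
        exact key [refls.getD j 0] (by simpa using hR _ hm) (Subgroup.subset_closure (Or.inr ⟨_, hm, rfl⟩))
  rw [eq_top_iff, ← M.toCoxeterSystem.subgroup_closure_range_simple, Subgroup.closure_le]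
  rintro _ ⟨i, rfl⟩
  obtain ⟨h1, h2⟩ := h i i.2
  obtain ⟨e1, e2⟩ := hexp _ h1
  rw [← phi_eq_iff c M hk hchk (L := [(i : ℕ)]) (by simp) e1 |>.2 h2, phi_singleton] at e2
  exact e2

/-- The sign vectors of length `n`. -/
def signs : ℕ → List (List Bool)
  | 0 => [[]]
  | n + 1 => (signs n).flatMap fun l => [true :: l, false :: l]

theorem mem_signs : ∀ l : List Bool, l ∈ signs l.length
  | [] => by simp [signs]
  | b :: l => by
    simp only [List.length_cons, signs, List.mem_flatMap]
    exact ⟨l, mem_signs l, by cases b <;> simp⟩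

/-- A signed fundamental root. -/
def sgn (T : Tables) (σ : List Bool) (q : ℕ) : ℕ :=
  bif σ.getD q false then T.neg (T.simple q) else T.simple q

/-- The check that the centre consists of the neutral element and `W`. -/
def checkCentre (T : Tables) (k : ℕ) (W : List ℕ) (data : List (List Bool × List ℕ)) : Bool :=
  ((List.range k).all fun i => (List.range T.n).all fun b =>
    Bool.or (!(Nat.beq (T.refl i b) (T.neg b)))
      (Bool.or (Nat.beq b (T.simple i)) (Nat.beq b (T.neg (T.simple i))))) &&
  (signs k).all fun σ =>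
    ((List.range k).any fun i => (List.range k).any fun j =>
      (!(σ.getD i false == σ.getD j false)) &&
        Nat.beq (T.wlT [i, j] (T.simple i)) (T.simple j)) ||
    data.any fun d => (d.1 == σ) && (d.2.all fun p => Nat.blt p k) &&
      ((List.range k).all fun q => Nat.ble T.h (T.wlT d.2 (sgn T σ q))) &&
      (((List.range k).all fun q => Nat.beq (T.wlT d.2.reverse (T.simple q)) (T.simple q)) ||
       ((List.range k).all fun q =>
          Nat.beq (T.wlT d.2.reverse (T.simple q)) (T.wlT W (T.simple q))) ||
       ((List.range k).any fun q =>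
          !(Nat.beq (T.wlT d.2.reverse (T.simple q)) (sgn T σ q))))

include hk hchk in
theorem centre_subset {W : List ℕ} {data : List (List Bool × List ℕ)} (hW : ∀ p ∈ W, p < k)
    (h : checkCentre c.T k W data = true) {z : M.Group} (hz : z ∈ Subgroup.center M.Group) :
    z = 1 ∨ z = phi M W := by
  simp only [checkCentre, List.all_eq_true, List.mem_range, Bool.and_eq_true, Bool.or_eq_true,
    Bool.not_eq_true', List.any_eq_true, Nat.blt_eq, Nat.beq_eq, Nat.ble_eq] at h
  obtain ⟨hfix, hdata⟩ := h
  obtain ⟨L, hL, rfl⟩ := exists_phi M z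
  have hn : c.T.n = D.nroots := c.nroots_eq.symm
  have hlR : ∀ p ∈ L, p < D.rank := fun p hp => hk.symm ▸ hL p hp
  -- commuting with a word gives commuting actions on the fundamental roots
  have hcomm : ∀ A : List ℕ, (∀ p ∈ A, p < k) → ∀ q < k,
      c.T.wlT L (c.T.wlT A (c.T.simple q)) = c.T.wlT A (c.T.wlT L (c.T.simple q)) := by
    intro A hA q hq
    have e := Subgroup.mem_center_iff.1 hz (phi M A)
    rw [← phi_append, ← phi_append, phi_eq_iff c M hk hchk
      (fun p hp => (List.mem_append.1 hp).elim (hA p) (hL p))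
      (fun p hp => (List.mem_append.1 hp).elim (hL p) (hA p))] at e
    have := e q hq
    rw [c.wlT_eq, c.wlT_eq, c.wl_append, c.wl_append, ← c.wlT_eq, ← c.wlT_eq, ← c.wlT_eq,
      ← c.wlT_eq] at this
    exact this.symm
  have hlt : ∀ q < k, c.T.simple q < D.nroots := fun q hq => by
    rw [← c.simple_eq (hk.symm ▸ hq)]; exact c.simple_lt (hk.symm ▸ hq)
  have hneg : ∀ q < k, c.T.refl q (c.T.simple q) = c.T.neg (c.T.simple q) := by
    intro q hq
    have h1 := c.w_simple (hk.symm ▸ hq)
    rw [c.neg_eq (c.simple_lt (hk.symm ▸ hq)), c.simple_eq (hk.symm ▸ hq)] at h1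
    exact h1
  have hwneg : ∀ A : List ℕ, (∀ p ∈ A, p < k) → ∀ r, r < D.nroots →
      c.T.wlT A (c.T.neg r) = c.T.neg (c.T.wlT A r) := by
    intro A hA r hr
    have hA' : ∀ p ∈ A, p < D.rank := fun p hp => hk.symm ▸ hA p hp
    rw [c.wlT_eq, c.wlT_eq, ← c.neg_eq hr, c.wl_neg hA' hr, c.neg_eq (c.wl_lt hA' hr)]
  let σ : List Bool := (List.range k).map fun q =>
    !(Nat.beq (c.T.wlT L (c.T.simple q)) (c.T.simple q))
  have hσ : ∀ q < k, σ.getD q false =
      !(Nat.beq (c.T.wlT L (c.T.simple q)) (c.T.simple q)) := by
    intro q hq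
    simp [σ, List.getD_eq_getElem?_getD, hq]
  have hpm : ∀ q < k, c.T.wlT L (c.T.simple q) = sgn c.T σ q := by
    intro q hq
    have e := hcomm [q] (by simpa using hq) q hq
    rw [show c.T.wlT [q] (c.T.simple q) = c.T.refl q (c.T.simple q) from rfl, hneg q hq,
      hwneg L hL _ (hlt q hq)] at e
    have hb : c.T.wlT L (c.T.simple q) < c.T.n := by
      rw [c.wlT_eq, hn]; exact c.wl_lt hlR (hlt q hq)
    have h1 := hfix q hq _ hb
    rw [sgn, hσ q hq]
    by_cases hbe : c.T.wlT L (c.T.simple q) = c.T.simple q
    · simp [hbe]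
    · have hb2 : Nat.beq (c.T.wlT L (c.T.simple q)) (c.T.simple q) = false :=
        Bool.eq_false_iff.2 fun h => hbe (Nat.eq_of_beq_eq_true h)
      rcases h1 with h1 | h1 | h1
      · have h2 : Nat.beq (c.T.refl q (c.T.wlT L (c.T.simple q)))
            (c.T.neg (c.T.wlT L (c.T.simple q))) = true := by rw [Nat.beq_eq]; exact e.symm
        rw [h1] at h2
        exact absurd h2 Bool.false_ne_true
      · exact absurd h1 hbe
      · rw [hb2]
        exact h1
  have hσmem : σ ∈ signs k := by
    have := mem_signs σ
    simpa [σ] using this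
  rcases hdata σ hσmem with ⟨i, hi, j, hj, hne, hconj⟩ | ⟨d, -, ⟨⟨-, hV⟩, hpos⟩, hcase⟩
  · exfalso
    have hne' : σ.getD i false ≠ σ.getD j false := fun h => by
      rw [h, beq_self_eq_true] at hne; exact Bool.noConfusion hne
    have hij : ∀ p ∈ [i, j], p < k := by simp [hi, hj]
    have hnn : c.T.neg (c.T.simple j) ≠ c.T.simple j := by
      have := hlt j hj
      simp only [Tables.neg, Tables.n] at hn ⊢
      omega
    have e := hcomm [i, j] hij i hi
    rw [hconj, hpm i hi, hpm j hj, sgn, sgn] at e
    cases hi' : σ.getD i false <;> cases hj' : σ.getD j false <;> rw [hi', hj'] at e hne' <;>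
      simp only [cond_false, cond_true, ne_eq, not_true] at e hne'
    · rw [hconj] at e
      exact hnn e
    · rw [hwneg _ hij _ (hlt i hi), hconj] at e
      exact hnn e.symm
  · have hVL : ∀ p ∈ d.2 ++ L, p < k := fun p hp => (List.mem_append.1 hp).elim (hV p) (hL p)
    have h1 : phi M (d.2 ++ L) = 1 := by
      refine phi_eq_one_of_pos c M hk hchk hVL fun q hq => ?_
      rw [c.wlT_eq, c.wl_append, ← c.wlT_eq, ← c.wlT_eq, hpm q hq]
      exact hpos q hq
    have hR : ∀ p ∈ d.2.reverse, p < k := fun p hp => hV p (List.mem_reverse.1 hp)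
    have e : phi M L = phi M d.2.reverse := by
      rw [phi_reverse]
      exact eq_inv_of_mul_eq_one_right (phi_append M _ _ ▸ h1)
    rcases hcase with (h2 | h2) | ⟨q, hq, h2⟩
    · left
      rw [e, ← phi_nil M, phi_eq_iff c M hk hchk hR (by simp)]
      exact h2
    · right
      rw [e, phi_eq_iff c M hk hchk hR hW]
      exact h2
    · exfalso
      rw [phi_eq_iff c M hk hchk hL hR] at e
      rw [← e q hq, hpm q hq] at h2
      simp at h2

/-- The check that `W` is a non-trivial central word. -/
def checkCentral (T : Tables) (k : ℕ) (W : List ℕ) : Bool :=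
  (W.all fun p => Nat.blt p k) &&
  ((List.range k).any fun q => !(Nat.beq (T.wlT W (T.simple q)) (T.simple q))) &&
  (List.range k).all fun i => (List.range k).all fun q =>
    Nat.beq (T.wlT ([i] ++ W) (T.simple q)) (T.wlT (W ++ [i]) (T.simple q))

include hk hchk in
theorem central_of_check {W : List ℕ} (h : checkCentral c.T k W = true) :
    phi M W ∈ Subgroup.center M.Group ∧ phi M W ≠ 1 := by
  simp only [checkCentral, List.all_eq_true, List.mem_range, Bool.and_eq_true, Bool.not_eq_true',
    List.any_eq_true, Nat.blt_eq, Nat.beq_eq] at h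
  obtain ⟨⟨hW, q, hq, hne⟩, hall⟩ := h
  constructor
  · have hs : ∀ i : Fin k, M.simple i * phi M W = phi M W * M.simple i := by
      intro i
      rw [← phi_singleton M i, ← phi_append, ← phi_append, phi_eq_iff c M hk hchk]
      · exact hall i i.2
      · exact fun p hp => (List.mem_append.1 hp).elim (fun h => List.mem_singleton.1 h ▸ i.2) (hW p)
      · exact fun p hp => (List.mem_append.1 hp).elim (hW p) (fun h => List.mem_singleton.1 h ▸ i.2)
    rw [Subgroup.mem_center_iff]
    intro g
    have hg : g ∈ Subgroup.centralizer ({phi M W} : Set M.Group) := by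
      suffices h : ⊤ ≤ Subgroup.centralizer ({phi M W} : Set M.Group) from h (Subgroup.mem_top g)
      rw [← M.toCoxeterSystem.subgroup_closure_range_simple, Subgroup.closure_le]
      rintro _ ⟨i, rfl⟩
      simpa [Subgroup.mem_centralizer_singleton_iff] using hs i
    exact Subgroup.mem_centralizer_singleton_iff.1 hg
  · intro e
    rw [← phi_nil M, phi_eq_iff c M hk hchk hW (by simp)] at e
    simp [show c.T.wlT W (c.T.simple q) = c.T.simple q from e q hq] at hne

include hk hchk in
theorem centre_two {m : ℕ} {data : List (List Bool × List ℕ)}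
    (h1 : checkCentral c.T k (List.replicate m (List.range k)).flatten = true)
    (h2 : checkCentre c.T k (List.replicate m (List.range k)).flatten data = true) :
    Nat.card (Subgroup.center M.Group) = 2 ∧ Subgroup.center M.Group ≤
      Subgroup.zpowers ((List.finRange k).map M.simple).prod := by
  set W := (List.replicate m (List.range k)).flatten with hWdef
  have hW : ∀ p ∈ W, p < k := by simp [hWdef]
  obtain ⟨hc, hne⟩ := central_of_check c M hk hchk h1
  have hset : (Subgroup.center M.Group : Set M.Group) = {1, phi M W} := by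
    ext z
    refine ⟨fun hz => centre_subset c M hk hchk hW h2 hz, ?_⟩
    rintro (rfl | rfl)
    · exact one_mem _
    · exact hc
  constructor
  · rw [← SetLike.coe_sort_coe, hset, Nat.card_coe_set_eq, Set.ncard_pair hne.symm]
  · intro z hz
    rcases centre_subset c M hk hchk hW h2 hz with rfl | rfl
    · exact one_mem _
    · rw [hWdef, phi_replicate, phi_range]
      exact pow_mem (Subgroup.mem_zpowers _) m

include hk hchk in
theorem centre_trivial {data : List (List Bool × List ℕ)}
    (h : checkCentre c.T k [] data = true) :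
    Nat.card (Subgroup.center M.Group) = 1 ∧ Subgroup.center M.Group ≤
      Subgroup.zpowers ((List.finRange k).map M.simple).prod := by
  have hb : Subgroup.center M.Group = ⊥ := by
    rw [Subgroup.eq_bot_iff_forall]
    intro z hz
    rcases centre_subset c M hk hchk (by simp) h hz with h | h <;> exact h
  rw [hb]
  exact ⟨Subgroup.card_bot, bot_le⟩

include hk hchk in
/-- Generation by the Coxeter element and a set of distinct fundamental reflections. -/
theorem exists_gen {refls : List ℕ} {cert : List (List ℕ)}
    (h : checkGen c.T k refls cert = true)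
    (hd : refls.Pairwise fun i j => ∃ q < k,
      c.T.wlT [i] (c.T.simple q) ≠ c.T.wlT [j] (c.T.simple q)) :
    ∃ T : Finset M.Group, T.card = refls.length ∧
      (∀ t ∈ T, ∃ (g : M.Group) (i : Fin k), t = g * M.simple i * g⁻¹) ∧
      Subgroup.closure (({((List.finRange k).map M.simple).prod} : Set M.Group) ∪ ↑T) = ⊤ := by
  classical
  have hR : ∀ j ∈ refls, j < k := by
    simp only [checkGen, List.all_eq_true, Bool.and_eq_true, Nat.blt_eq] at h
    exact h.1
  have hnd : (refls.map fun j => phi M [j]).Nodup := by
    rw [List.nodup_iff_pairwise_ne, List.pairwise_map]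
    refine hd.imp_of_mem fun {i j} hi hj ⟨q, hq, hne⟩ e => hne ?_
    exact (phi_eq_iff c M hk hchk (by simpa using hR i hi) (by simpa using hR j hj)).1 e q hq
  refine ⟨(refls.map fun j => phi M [j]).toFinset, ?_, ?_, ?_⟩
  · rw [List.toFinset_card_of_nodup hnd, List.length_map]
  · intro t ht
    simp only [List.mem_toFinset, List.mem_map] at ht
    obtain ⟨j, hj, rfl⟩ := ht
    exact ⟨1, ⟨j, hR j hj⟩, by simpa using phi_singleton M ⟨j, hR j hj⟩⟩
  · have e : (↑(refls.map fun j => phi M [j]).toFinset : Set M.Group) =
        {x | ∃ j ∈ refls, phi M [j] = x} := by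
      ext x; simp
    rw [e]
    exact generated c M hk hchk h

end Bridge

end Cfsg.Agent.Fus.WeylCentre
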